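import Mathlib

set_option autoImplicit false

namespace Cfsg.Agent.Helper7

open Matrix

/-- The special linear group has the same cardinality as the kernel of `det` on `GL`. -/
theorem card_SL_eq_card_ker_det {n : Type*} [Fintype n] [DecidableEq n] {R : Type*} [CommRing R] :
    Nat.card (Matrix.SpecialLinearGroup n R) =
      Nat.card ((Matrix.GeneralLinearGroup.det : GL n R →* Rˣ).ker) := by
  have e : Matrix.SpecialLinearGroup n R ≃ Set.range (Matrix.SpecialLinearGroup.toGL : Matrix.SpecialLinearGroup n R → GL n R) :=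
    Equiv.ofInjective _ Matrix.SpecialLinearGroup.toGL_injective
  rw [Nat.card_congr e]
  have : Set.range (Matrix.SpecialLinearGroup.toGL : Matrix.SpecialLinearGroup n R → GL n R) =
      (((Matrix.GeneralLinearGroup.det : GL n R →* Rˣ).ker : Subgroup (GL n R)) : Set (GL n R)) := by
    rw [Matrix.SpecialLinearGroup.range_toGL]
    ext x
    simp [MonoidHom.mem_ker]
  rw [this]
  rfl

/-- `(q - 1) * |SL_n(q)| = |GL_n(q)|` for `n` nonempty. -/
theorem card_units_mul_card_SL {n : Type*} [Fintype n] [DecidableEq n] [Nonempty n]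
    {F : Type*} [Field F] [Fintype F] :
    (Fintype.card F - 1) * Nat.card (Matrix.SpecialLinearGroup n F) = Nat.card (GL n F) := by
  rw [card_SL_eq_card_ker_det]
  have h1 := Subgroup.card_mul_index ((Matrix.GeneralLinearGroup.det : GL n F →* Fˣ).ker)
  rw [Subgroup.index_ker, MonoidHom.range_eq_top.mpr Matrix.GeneralLinearGroup.det_surjective] at h1
  rw [← h1, mul_comm]
  congr 1
  classical
  rw [Nat.card_congr (Subgroup.topEquiv (G := Fˣ)).toEquiv, Nat.card_eq_fintype_card, Fintype.card_units]

end Cfsg.Agent.Helper7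

namespace Cfsg.Agent.Helper7

open Matrix

/-- The centre of `SL_n(q)` has order `gcd(n, q - 1)` for `n ≥ 1`. -/
theorem card_center_SL {F : Type*} [Field F] [Fintype F] (n : ℕ) (hn : 1 ≤ n) :
    Nat.card (Subgroup.center (Matrix.SpecialLinearGroup (Fin n) F)) = Nat.gcd n (Fintype.card F - 1) := by
  classical
  rw [Nat.card_congr (Matrix.SpecialLinearGroup.center_equiv_rootsOfUnity (n := Fin n) (R := F)).toEquiv]
  rw [Fintype.card_fin, max_eq_left hn, rootsOfUnity_eq_ker, IsCyclic.card_powMonoidHom_ker,
    Nat.card_eq_fintype_card, Fintype.card_units, Nat.gcd_comm]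

/-- `gcd(n, q-1) * |PSL_n(q)| = |SL_n(q)|` for `n ≥ 1`. -/
theorem card_center_mul_card_PSL {F : Type*} [Field F] [Fintype F] (n : ℕ) (hn : 1 ≤ n) :
    Nat.gcd n (Fintype.card F - 1) * Nat.card (Matrix.ProjectiveSpecialLinearGroup (Fin n) F) =
      Nat.card (Matrix.SpecialLinearGroup (Fin n) F) := by
  rw [← card_center_SL n hn]
  have := Subgroup.card_eq_card_quotient_mul_card_subgroup
    (Subgroup.center (Matrix.SpecialLinearGroup (Fin n) F))
  rw [this, mul_comm]

/-- The centre of `GL_n(q)` has order `q - 1` for nonempty `n`. -/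
theorem card_center_GL {n : Type*} [Fintype n] [DecidableEq n] [Nonempty n]
    {F : Type*} [Field F] [Fintype F] :
    Nat.card (Subgroup.center (GL n F)) = Fintype.card F - 1 := by
  classical
  rw [Matrix.GeneralLinearGroup.center_eq_range_scalar]
  have hinj : Function.Injective (Matrix.GeneralLinearGroup.scalar n : Fˣ →* GL n F) := by
    intro u v h
    obtain ⟨i⟩ := ‹Nonempty n›
    have := congrArg (fun g : GL n F => (g : Matrix n n F) i i) h
    simp at this
    exact Units.ext this
  rw [← Nat.card_congr (MonoidHom.ofInjective hinj).toEquiv, Nat.card_eq_fintype_card,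
    Fintype.card_units]

/-- `(q - 1) * |PGL_n(q)| = |GL_n(q)|` for nonempty `n`. -/
theorem card_units_mul_card_PGL {n : Type*} [Fintype n] [DecidableEq n] [Nonempty n]
    {F : Type*} [Field F] [Fintype F] :
    (Fintype.card F - 1) * Nat.card (Matrix.ProjGenLinGroup n F) = Nat.card (GL n F) := by
  rw [← card_center_GL (n := n)]
  have := Subgroup.card_eq_card_quotient_mul_card_subgroup (Subgroup.center (GL n F))
  rw [this, mul_comm]
  rfl

end Cfsg.Agent.Helper7
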