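import Mathlib

set_option autoImplicit false

/-!
Transvections in `SL_n(F)` as commutators.
-/

namespace Cfsg.Agent.Helper7.Transv

open Matrix Matrix.SpecialLinearGroup
open scoped commutatorElement

variable {ι : Type*} [Fintype ι] [DecidableEq ι] {F : Type*} [Field F]

/-- `⁅T_ik(c), T_kj(1)⁆ = T_ij(c)` for pairwise distinct `i, j, k`. -/
theorem commutator_transvection {i j k : ι} (hij : i ≠ j) (hik : i ≠ k) (hkj : k ≠ j) (c : F) :
    ⁅(transvection hik c : SpecialLinearGroup ι F), transvection hkj 1⁆ = transvection hij c := by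
  rw [commutatorElement_def, transvection_inv, transvection_inv]
  apply Subtype.ext
  change (transvection hik c).1 * (transvection hkj (1 : F)).1 * (transvection hik (-c)).1 *
    (transvection hkj (-1 : F)).1 = (transvection hij c).1
  rw [transvection_coe, transvection_coe, transvection_coe, transvection_coe, transvection_coe]
  have hXY : single i k c * single k j (1 : F) = single i j c := by
    rw [single_mul_single_same, mul_one]
  have hXX : single i k c * single i k (-c) = 0 := single_mul_single_of_ne _ _ _ _ hik.symm _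
  have hYY : single k j (1 : F) * single k j (-1 : F) = 0 := single_mul_single_of_ne _ _ _ _ hkj.symm _
  have hZX : single i j c * single i k (-c) = 0 := single_mul_single_of_ne _ _ _ _ hij.symm _
  have hZY : single i j c * single k j (-1 : F) = 0 := single_mul_single_of_ne _ _ _ _ hkj.symm _
  have hYX' : single k j (1 : F) * single i k (-c) = 0 := single_mul_single_of_ne _ _ _ _ hij.symm _
  have h1 : ((1 : Matrix ι ι F) + single i k c) * (1 + single k j 1) =
      1 + single i k c + single k j 1 + single i j c := by
    simp only [mul_add, add_mul, mul_one, one_mul, hXY]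
    abel
  have h2 : ((1 : Matrix ι ι F) + single i k c + single k j 1 + single i j c) * (1 + single i k (-c)) =
      1 + single k j 1 + single i j c := by
    simp only [mul_add, add_mul, mul_one, one_mul, hXX, hYX', hZX, add_zero]
    rw [← single_neg]; abel
  have h3 : ((1 : Matrix ι ι F) + single k j 1 + single i j c) * (1 + single k j (-1)) =
      1 + single i j c := by
    simp only [mul_add, add_mul, mul_one, one_mul, hYY, hZY, add_zero]
    rw [← single_neg]; abel
  rw [h1, h2, h3]

end Cfsg.Agent.Helper7.Transv

namespace Cfsg.Agent.Helper7.Transv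

open Matrix Matrix.SpecialLinearGroup
open scoped commutatorElement MatrixGroups

variable {F : Type*} [Field F]

theorem commutator_diag2_transvection' (a : F) (ha : a ≠ 0) (b c' : F) (hc : c' = b * (a ^ 2 - 1)) :
    ⁅diag2 a⁻¹ (inv_ne_zero ha), SpecialLinearGroup.transvection one_ne_zero b⁆ =
      (SpecialLinearGroup.transvection one_ne_zero c' : SL(2, F)) := by
  rw [commutatorElement_def, diag2_inv a⁻¹ (inv_ne_zero ha),
    SpecialLinearGroup.transvection_inv one_ne_zero b]
  refine Subtype.ext <| Matrix.ext fun i j ↦ ?_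
  fin_cases i <;> fin_cases j <;>
  simp [hc, SpecialLinearGroup.transvection_coe, diag2_coe, inv_inv, mul_add, add_mul,
    mul_inv_cancel₀ ha, inv_mul_cancel₀ ha, mul_comm a b, mul_assoc b a a, ← pow_two,
    mul_sub_one, ← sub_eq_add_neg]

/-- Every elementary transvection of `SL_2(F)` is a commutator when `F` has an element `a ≠ 0`, `a² ≠ 1`. -/
theorem transvection_mem_commutatorSet_two {a : F} (ha : a ≠ 0) (hasq : a ^ 2 ≠ 1) {i j : Fin 2}
    (h : i ≠ j) (c : F) :
    (SpecialLinearGroup.transvection h c : SL(2, F)) ∈ commutatorSet SL(2, F) := by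
  have hne : a ^ 2 - 1 ≠ 0 := sub_ne_zero_of_ne hasq
  fin_cases i
  · obtain rfl : j = 1 := by fin_cases j <;> tauto
    exact ⟨_, _, commutator_diag2_transvection a ha (c / (a ^ 2 - 1)) c (div_mul_cancel₀ c hne).symm⟩
  · obtain rfl : j = 0 := by fin_cases j <;> tauto
    exact ⟨_, _, commutator_diag2_transvection' a ha (c / (a ^ 2 - 1)) c (div_mul_cancel₀ c hne).symm⟩

/-- Every elementary transvection of `SL_n(F)`, `n ≥ 3`, is a commutator. -/
theorem transvection_mem_commutatorSet {n : ℕ} (hn : 3 ≤ n) {i j : Fin n} (h : i ≠ j) (c : F) :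
    (SpecialLinearGroup.transvection h c : SpecialLinearGroup (Fin n) F) ∈
      commutatorSet (SpecialLinearGroup (Fin n) F) := by
  obtain ⟨k, hki, hkj⟩ : ∃ k : Fin n, k ≠ i ∧ k ≠ j := by
    by_contra hcon
    push Not at hcon
    have hsub : (Finset.univ : Finset (Fin n)) ⊆ {i, j} := by
      intro k _
      by_cases hk : k = i
      · simp [hk]
      · simp [hcon k hk]
    have := Finset.card_le_card hsub
    have h2 : ({i, j} : Finset (Fin n)).card ≤ 2 := Finset.card_le_two
    rw [Finset.card_univ, Fintype.card_fin] at this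
    omega
  exact ⟨_, _, commutator_transvection h hki.symm hkj c⟩

end Cfsg.Agent.Helper7.Transv

namespace Cfsg.Agent.Helper7.Transv

open Matrix Matrix.SpecialLinearGroup

variable {ι : Type*} [Fintype ι] [DecidableEq ι] {F : Type*} [Field F]

/-- The matrix `w_ij(a) = T_ij(a) T_ji(-a⁻¹) T_ij(a)`. -/
theorem w_eq {i j : ι} (hij : i ≠ j) (a : F) (ha : a ≠ 0) :
    ((1 : Matrix ι ι F) + single i j a) * (1 + single j i (-a⁻¹)) * (1 + single i j a) =
      1 + single i i (-1) + single j j (-1) + single i j a + single j i (-a⁻¹) := by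
  have hji := hij.symm
  simp only [mul_add, add_mul, mul_one, one_mul, single_mul_single_same,
    single_mul_single_of_ne _ _ _ _ hij, single_mul_single_of_ne _ _ _ _ hji, add_zero, zero_add,
    mul_zero, zero_mul]
  have e1 : a * -a⁻¹ = -1 := by field_simp
  have e2 : -a⁻¹ * a = -1 := by field_simp
  rw [e1, e2]
  have e3 : (-1 : F) * a = -a := by ring
  rw [e3]
  rw [← single_neg i j a]
  abel

theorem w_mul_w {i j : ι} (hij : i ≠ j) (a c b d : F) :
    ((1 : Matrix ι ι F) + single i i (-1) + single j j (-1) + single i j a + single j i c) *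
      (1 + single i i (-1) + single j j (-1) + single i j b + single j i d) =
      1 + single i i (a * d - 1) + single j j (c * b - 1) := by
  have hji := hij.symm
  simp only [mul_add, add_mul, mul_one, one_mul, single_mul_single_same,
    single_mul_single_of_ne _ _ _ _ hij, single_mul_single_of_ne _ _ _ _ hji, add_zero, zero_add]
  obtain ⟨Eii, hEii⟩ : ∃ E : Matrix ι ι F, ∀ x : F, single i i x = x • E :=
    ⟨single i i 1, fun x => by rw [smul_single, smul_eq_mul, mul_one]⟩
  obtain ⟨Ejj, hEjj⟩ : ∃ E : Matrix ι ι F, ∀ x : F, single j j x = x • E :=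
    ⟨single j j 1, fun x => by rw [smul_single, smul_eq_mul, mul_one]⟩
  obtain ⟨Eij, hEij⟩ : ∃ E : Matrix ι ι F, ∀ x : F, single i j x = x • E :=
    ⟨single i j 1, fun x => by rw [smul_single, smul_eq_mul, mul_one]⟩
  obtain ⟨Eji, hEji⟩ : ∃ E : Matrix ι ι F, ∀ x : F, single j i x = x • E :=
    ⟨single j i 1, fun x => by rw [smul_single, smul_eq_mul, mul_one]⟩
  simp only [hEii, hEjj, hEij, hEji]
  module

theorem diag_eq {i j : ι} (hij : i ≠ j) (a : F) :
    diagonal (fun k ↦ if k = i then a else if k = j then a⁻¹ else 1) =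
      (1 : Matrix ι ι F) + single i i (a - 1) + single j j (a⁻¹ - 1) := by
  ext p q
  rw [Matrix.add_apply, Matrix.add_apply, single_apply, single_apply, diagonal_apply, one_apply]
  by_cases hpq : p = q
  · subst hpq
    by_cases hpi : p = i
    · subst hpi
      simp [hij.symm]
    · by_cases hpj : p = j
      · subst hpj
        simp [hij, hpi]
      · simp [hpi, hpj, Ne.symm hpi, Ne.symm hpj]
  · have h1 : ¬ (i = p ∧ i = q) := fun h => hpq (h.1.symm.trans h.2)
    have h2 : ¬ (j = p ∧ j = q) := fun h => hpq (h.1.symm.trans h.2)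
    simp [hpq, h1, h2]


/-- `diag(a, a⁻¹)` in positions `i, j` is a product of six elementary transvections. -/
theorem diag2n_decompose {i j : ι} (hij : i ≠ j) (a : F) (ha : a ≠ 0) :
    diag2n hij a ha = SpecialLinearGroup.transvection hij a *
      SpecialLinearGroup.transvection hij.symm (-a⁻¹) *
      SpecialLinearGroup.transvection hij a *
      SpecialLinearGroup.transvection hij (-1) *
      SpecialLinearGroup.transvection hij.symm 1 *
      SpecialLinearGroup.transvection hij (-1) := by
  apply Subtype.ext
  change (diag2n hij a ha).1 = (SpecialLinearGroup.transvection hij a).1 *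
      (SpecialLinearGroup.transvection hij.symm (-a⁻¹)).1 *
      (SpecialLinearGroup.transvection hij a).1 *
      (SpecialLinearGroup.transvection hij (-1 : F)).1 *
      (SpecialLinearGroup.transvection hij.symm (1 : F)).1 *
      (SpecialLinearGroup.transvection hij (-1 : F)).1
  rw [diag2n_coe, diag_eq hij]
  simp only [transvection_coe]
  have e : -(-1 : F)⁻¹ = 1 := by rw [inv_neg_one, neg_neg]
  have h1 := w_eq hij a ha
  have h2 := w_eq hij (-1 : F) (by simp)
  rw [e] at h2
  have hassoc : ∀ (A B C D E G : Matrix ι ι F), A * B * C * D * E * G = (A * B * C) * (D * E * G) := by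
    intros; simp only [mul_assoc]
  rw [hassoc, h1, h2, w_mul_w hij]
  congr 2
  · rw [mul_one]
  · rw [neg_mul_neg, mul_one]

/-- Induction principle: `SL_n(F)` is generated by elementary transvections. -/
theorem transvection_induction [Nontrivial ι] (P : SpecialLinearGroup ι F → Prop)
    (htransvec : ∀ (i j : ι) (hij : i ≠ j) (a : F), P (SpecialLinearGroup.transvection hij a))
    (hmul : ∀ A B, P A → P B → P (A * B)) (M : SpecialLinearGroup ι F) : P M := by
  refine diagonal_transvection_induction' P M (fun i j hij c hc => ?_) htransvec hmul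
  rw [diag2n_decompose hij c hc]
  refine hmul _ _ (hmul _ _ (hmul _ _ (hmul _ _ (hmul _ _ ?_ ?_) ?_) ?_) ?_) ?_
  all_goals exact htransvec _ _ _ _

/-- `SL_n(F)` is perfect for `n ≥ 3`. -/
theorem commutator_SL_eq_top {n : ℕ} (hn : 3 ≤ n) : commutator (SpecialLinearGroup (Fin n) F) = ⊤ := by
  have : Nontrivial (Fin n) := Fin.nontrivial_iff_two_le.mpr (by omega)
  rw [eq_top_iff]
  intro M _
  refine transvection_induction (fun M => M ∈ commutator (SpecialLinearGroup (Fin n) F)) ?_ ?_ M
  · intro i j hij a
    rw [commutator_eq_closure]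
    exact Subgroup.subset_closure (transvection_mem_commutatorSet hn hij a)
  · intro A B hA hB
    exact Subgroup.mul_mem _ hA hB

end Cfsg.Agent.Helper7.Transv
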