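import Mathlib
import Cfsg.Agent.Helper7.Transvections
import Cfsg.Agent.Helper7.LinearCard

set_option autoImplicit false

/-!
The Sylow `p`-subgroups of `SL_2(q)` in the defining characteristic.
-/

namespace Cfsg.Agent.Helper7.SL2

open Matrix

variable {F : Type*} [Field F]

theorem coe_mul_apply (g h : SpecialLinearGroup (Fin 2) F) (i j : Fin 2) :
    ((g * h : SpecialLinearGroup (Fin 2) F) : Matrix (Fin 2) (Fin 2) F) i j =
      (g : Matrix (Fin 2) (Fin 2) F) i 0 * (h : Matrix (Fin 2) (Fin 2) F) 0 j +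
      (g : Matrix (Fin 2) (Fin 2) F) i 1 * (h : Matrix (Fin 2) (Fin 2) F) 1 j := by
  change ((g : Matrix (Fin 2) (Fin 2) F) * (h : Matrix (Fin 2) (Fin 2) F)) i j = _
  rw [Matrix.mul_apply, Fin.sum_univ_two]

theorem det_eq (g : SpecialLinearGroup (Fin 2) F) :
    (g : Matrix (Fin 2) (Fin 2) F) 0 0 * (g : Matrix (Fin 2) (Fin 2) F) 1 1 -
      (g : Matrix (Fin 2) (Fin 2) F) 0 1 * (g : Matrix (Fin 2) (Fin 2) F) 1 0 = 1 := by
  rw [← Matrix.det_fin_two]
  exact g.2

theorem coe_inv_apply (g : SpecialLinearGroup (Fin 2) F) :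
    ((g⁻¹ : SpecialLinearGroup (Fin 2) F) : Matrix (Fin 2) (Fin 2) F) 0 0 =
        (g : Matrix (Fin 2) (Fin 2) F) 1 1 ∧
    ((g⁻¹ : SpecialLinearGroup (Fin 2) F) : Matrix (Fin 2) (Fin 2) F) 0 1 =
        -(g : Matrix (Fin 2) (Fin 2) F) 0 1 ∧
    ((g⁻¹ : SpecialLinearGroup (Fin 2) F) : Matrix (Fin 2) (Fin 2) F) 1 0 =
        -(g : Matrix (Fin 2) (Fin 2) F) 1 0 ∧
    ((g⁻¹ : SpecialLinearGroup (Fin 2) F) : Matrix (Fin 2) (Fin 2) F) 1 1 =
        (g : Matrix (Fin 2) (Fin 2) F) 0 0 := by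
  have h : ((g⁻¹ : SpecialLinearGroup (Fin 2) F) : Matrix (Fin 2) (Fin 2) F) =
      Matrix.adjugate (g : Matrix (Fin 2) (Fin 2) F) := rfl
  rw [h, Matrix.adjugate_fin_two]
  exact ⟨rfl, rfl, rfl, rfl⟩

theorem one_00 : ((1 : SpecialLinearGroup (Fin 2) F) : Matrix (Fin 2) (Fin 2) F) 0 0 = 1 := by
  change (1 : Matrix (Fin 2) (Fin 2) F) 0 0 = 1
  exact Matrix.one_apply_eq 0

theorem one_11 : ((1 : SpecialLinearGroup (Fin 2) F) : Matrix (Fin 2) (Fin 2) F) 1 1 = 1 := by
  change (1 : Matrix (Fin 2) (Fin 2) F) 1 1 = 1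
  exact Matrix.one_apply_eq 1

theorem one_01 : ((1 : SpecialLinearGroup (Fin 2) F) : Matrix (Fin 2) (Fin 2) F) 0 1 = 0 := by
  change (1 : Matrix (Fin 2) (Fin 2) F) 0 1 = 0
  exact Matrix.one_apply_ne (by decide)

theorem one_10 : ((1 : SpecialLinearGroup (Fin 2) F) : Matrix (Fin 2) (Fin 2) F) 1 0 = 0 := by
  change (1 : Matrix (Fin 2) (Fin 2) F) 1 0 = 0
  exact Matrix.one_apply_ne (by decide)

theorem ext' {g h : SpecialLinearGroup (Fin 2) F}
    (h00 : (g : Matrix (Fin 2) (Fin 2) F) 0 0 = (h : Matrix (Fin 2) (Fin 2) F) 0 0)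
    (h01 : (g : Matrix (Fin 2) (Fin 2) F) 0 1 = (h : Matrix (Fin 2) (Fin 2) F) 0 1)
    (h10 : (g : Matrix (Fin 2) (Fin 2) F) 1 0 = (h : Matrix (Fin 2) (Fin 2) F) 1 0)
    (h11 : (g : Matrix (Fin 2) (Fin 2) F) 1 1 = (h : Matrix (Fin 2) (Fin 2) F) 1 1) : g = h := by
  apply Subtype.ext
  ext i j
  fin_cases i <;> fin_cases j <;> assumption

/-- The Borel subgroup: upper triangular matrices. -/
def B (F : Type*) [Field F] : Subgroup (SpecialLinearGroup (Fin 2) F) where
  carrier := {g | (g : Matrix (Fin 2) (Fin 2) F) 1 0 = 0}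
  mul_mem' := by
    intro g h hg hh
    rw [Set.mem_ofPred_eq] at hg hh ⊢
    rw [coe_mul_apply, hg, hh, zero_mul, mul_zero, add_zero]
  one_mem' := by
    exact one_10
  inv_mem' := by
    intro g hg
    rw [Set.mem_ofPred_eq] at hg ⊢
    rw [(coe_inv_apply g).2.2.1, hg, neg_zero]

theorem mem_B {g : SpecialLinearGroup (Fin 2) F} :
    g ∈ B F ↔ (g : Matrix (Fin 2) (Fin 2) F) 1 0 = 0 := Iff.rfl

/-- The upper unitriangular subgroup. -/
def U (F : Type*) [Field F] : Subgroup (SpecialLinearGroup (Fin 2) F) where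
  carrier := {g | (g : Matrix (Fin 2) (Fin 2) F) 0 0 = 1 ∧ (g : Matrix (Fin 2) (Fin 2) F) 1 0 = 0 ∧
    (g : Matrix (Fin 2) (Fin 2) F) 1 1 = 1}
  mul_mem' := by
    rintro g h ⟨g00, g10, g11⟩ ⟨h00, h10, h11⟩
    refine ⟨?_, ?_, ?_⟩
    · rw [coe_mul_apply, g00, h00, h10, mul_zero, add_zero, one_mul]
    · rw [coe_mul_apply, g10, h10, zero_mul, mul_zero, add_zero]
    · rw [coe_mul_apply, g10, g11, h11, zero_mul, zero_add, one_mul]
  one_mem' := by
    refine ⟨?_, ?_, ?_⟩
    · exact one_00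
    · exact one_10
    · exact one_11
  inv_mem' := by
    rintro g ⟨g00, g10, g11⟩
    obtain ⟨i00, _, i10, i11⟩ := coe_inv_apply g
    exact ⟨by rw [i00, g11], by rw [i10, g10, neg_zero], by rw [i11, g00]⟩

theorem mem_U {g : SpecialLinearGroup (Fin 2) F} : g ∈ U F ↔ (g : Matrix (Fin 2) (Fin 2) F) 0 0 = 1 ∧
    (g : Matrix (Fin 2) (Fin 2) F) 1 0 = 0 ∧ (g : Matrix (Fin 2) (Fin 2) F) 1 1 = 1 := Iff.rfl

/-- The upper transvection. -/
def up (x : F) : SpecialLinearGroup (Fin 2) F :=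
  ⟨!![1, x; 0, 1], by rw [Matrix.det_fin_two_of]; ring⟩

/-- The lower transvection. -/
def lo (x : F) : SpecialLinearGroup (Fin 2) F :=
  ⟨!![1, 0; x, 1], by rw [Matrix.det_fin_two_of]; ring⟩

theorem up_00 (x : F) : (up x : Matrix (Fin 2) (Fin 2) F) 0 0 = 1 := rfl
theorem up_01 (x : F) : (up x : Matrix (Fin 2) (Fin 2) F) 0 1 = x := rfl
theorem up_10 (x : F) : (up x : Matrix (Fin 2) (Fin 2) F) 1 0 = 0 := rfl
theorem up_11 (x : F) : (up x : Matrix (Fin 2) (Fin 2) F) 1 1 = 1 := rfl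
theorem lo_00 (x : F) : (lo x : Matrix (Fin 2) (Fin 2) F) 0 0 = 1 := rfl
theorem lo_01 (x : F) : (lo x : Matrix (Fin 2) (Fin 2) F) 0 1 = 0 := rfl
theorem lo_10 (x : F) : (lo x : Matrix (Fin 2) (Fin 2) F) 1 0 = x := rfl
theorem lo_11 (x : F) : (lo x : Matrix (Fin 2) (Fin 2) F) 1 1 = 1 := rfl

theorem up_mem_U (x : F) : up x ∈ U F := ⟨rfl, rfl, rfl⟩

theorem transvection_01 (h : (0 : Fin 2) ≠ 1) (x : F) :
    SpecialLinearGroup.transvection h x = up x := by
  apply Subtype.ext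
  change Matrix.transvection 0 1 x = !![1, x; 0, 1]
  ext i j
  fin_cases i <;> fin_cases j <;> simp [Matrix.transvection, Matrix.single]

theorem transvection_10 (h : (1 : Fin 2) ≠ 0) (x : F) :
    SpecialLinearGroup.transvection h x = lo x := by
  apply Subtype.ext
  change Matrix.transvection 1 0 x = !![1, 0; x, 1]
  ext i j
  fin_cases i <;> fin_cases j <;> simp [Matrix.transvection, Matrix.single]

/-- `U` is in bijection with `F`. -/
noncomputable def equivU (F : Type*) [Field F] : U F ≃ F where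
  toFun g := (g.1 : Matrix (Fin 2) (Fin 2) F) 0 1
  invFun b := ⟨up b, up_mem_U b⟩
  left_inv g := by
    apply Subtype.ext
    apply ext'
    · exact (g.2.1).symm
    · rfl
    · exact (g.2.2.1).symm
    · exact (g.2.2.2).symm
  right_inv b := rfl

/-- Conjugating `U` by an element of `B`. -/
theorem conj_mem_U {g u : SpecialLinearGroup (Fin 2) F} (hg : g ∈ B F) (hu : u ∈ U F) :
    g * u * g⁻¹ ∈ U F := by
  obtain ⟨u00, u10, u11⟩ := hu
  have hg10 := mem_B.mp hg
  obtain ⟨i00, i01, i10, i11⟩ := coe_inv_apply g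
  have hd := det_eq g
  rw [hg10, mul_zero, sub_zero] at hd
  refine ⟨?_, ?_, ?_⟩
  · simp only [coe_mul_apply]
    rw [i00, i10, hg10, u00, u10]
    linear_combination hd
  · simp only [coe_mul_apply]
    rw [i00, i10, hg10, u10]
    ring
  · simp only [coe_mul_apply]
    rw [i01, i11, hg10, u10, u11]
    linear_combination hd

/-- If `k u' = u k` with `u, u' ∈ U` and `u' ≠ 1` then `k ∈ B`. -/
theorem mem_B_of_intertwine {k u u' : SpecialLinearGroup (Fin 2) F} (hu : u ∈ U F) (hu' : u' ∈ U F)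
    (hne : u' ≠ 1) (h : k * u' = u * k) : k ∈ B F := by
  obtain ⟨u00, u10, u11⟩ := hu
  obtain ⟨u'00, u'10, u'11⟩ := hu'
  have hx : (u' : Matrix (Fin 2) (Fin 2) F) 0 1 ≠ 0 := by
    intro h0
    apply hne
    apply ext'
    · rw [u'00, one_00]
    · rw [h0, one_01]
    · rw [u'10, one_10]
    · rw [u'11, one_11]
  have e11 := congrArg (fun x : SpecialLinearGroup (Fin 2) F => (x : Matrix (Fin 2) (Fin 2) F) 1 1) h
  beta_reduce at e11
  rw [coe_mul_apply, coe_mul_apply, u'11, u10, u11, zero_mul, zero_add, one_mul, mul_one,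
    add_eq_right] at e11
  exact (mul_eq_zero.mp e11).resolve_right hx

/-- A subgroup containing `U` and a conjugate of `U` by an element outside `B` is everything. -/
theorem eq_top_of_conj {H : Subgroup (SpecialLinearGroup (Fin 2) F)} (hU : U F ≤ H)
    {k : SpecialLinearGroup (Fin 2) F} (hk : k ∉ B F) (hkU : ∀ u ∈ U F, k * u * k⁻¹ ∈ H) : H = ⊤ := by
  have hc : (k : Matrix (Fin 2) (Fin 2) F) 1 0 ≠ 0 := hk
  set c := (k : Matrix (Fin 2) (Fin 2) F) 1 0 with hc_def
  set a := (k : Matrix (Fin 2) (Fin 2) F) 0 0 with ha_def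
  -- move the fixed line of the conjugate to the second axis
  obtain ⟨k', hk'⟩ : ∃ k', k' = up (-a / c) * k := ⟨_, rfl⟩
  have hk'U : ∀ u ∈ U F, k' * u * k'⁻¹ ∈ H := by
    intro u hu
    have e : k' * u * k'⁻¹ = up (-a / c) * (k * u * k⁻¹) * (up (-a / c))⁻¹ := by
      rw [hk']; group
    rw [e]
    exact H.mul_mem (H.mul_mem (hU (up_mem_U _)) (hkU u hu)) (H.inv_mem (hU (up_mem_U _)))
  have k'00 : (k' : Matrix (Fin 2) (Fin 2) F) 0 0 = 0 := by
    rw [hk', coe_mul_apply, up_00, up_01, ← ha_def, ← hc_def]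
    field_simp
    ring
  have k'10 : (k' : Matrix (Fin 2) (Fin 2) F) 1 0 = c := by
    rw [hk', coe_mul_apply, up_10, up_11, ← hc_def]
    ring
  have hdet := det_eq k'
  rw [k'00, k'10, zero_mul, zero_sub] at hdet
  -- the lower transvections are in `H`
  have hlo : ∀ y : F, lo y ∈ H := by
    intro y
    have hw : lo y * k' = k' * up (-y / c ^ 2) := by
      apply ext'
      · rw [coe_mul_apply, coe_mul_apply, lo_00, lo_01, up_00, up_10, k'00]; ring
      · rw [coe_mul_apply, coe_mul_apply, lo_00, lo_01, up_01, up_11, k'00]; ring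
      · rw [coe_mul_apply, coe_mul_apply, lo_10, lo_11, up_00, up_10, k'00, k'10]; ring
      · rw [coe_mul_apply, coe_mul_apply, lo_10, lo_11, up_01, up_11, k'10]
        have hk01 : (k' : Matrix (Fin 2) (Fin 2) F) 0 1 = -c⁻¹ := by
          field_simp
          linear_combination -hdet
        rw [hk01]
        field_simp
    have : lo y = k' * up (-y / c ^ 2) * k'⁻¹ := by
      rw [← hw]; group
    rw [this]
    exact hk'U _ (up_mem_U _)
  rw [eq_top_iff]
  intro M _
  refine Cfsg.Agent.Helper7.Transv.transvection_induction (fun M => M ∈ H) ?_ ?_ M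
  · intro i j hij x
    fin_cases i <;> fin_cases j
    · exact absurd rfl hij
    · rw [transvection_01]; exact hU (up_mem_U x)
    · rw [transvection_10]; exact hlo x
    · exact absurd rfl hij
  · intro A B hA hB
    exact H.mul_mem hA hB


/-! ### Finite fields -/

section Finite

variable [Fintype F]

theorem card_U : Nat.card (U F) = Fintype.card F := by
  rw [Nat.card_congr (equivU F), Nat.card_eq_fintype_card]

theorem card_SL2 : Nat.card (SpecialLinearGroup (Fin 2) F) =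
    Fintype.card F * (Fintype.card F ^ 2 - 1) := by
  have h := Cfsg.Agent.Helper7.card_units_mul_card_SL (n := Fin 2) (F := F)
  rw [Matrix.card_GL_field, Fin.prod_univ_two] at h
  simp only [Fin.val_zero, Fin.val_one, pow_zero, pow_one] at h
  have h1 : 2 ≤ Fintype.card F := Fintype.one_lt_card
  have h2 : Fintype.card F ^ 2 - Fintype.card F = Fintype.card F * (Fintype.card F - 1) := by
    rw [Nat.mul_sub, mul_one, sq]
  rw [h2] at h
  have hpos : 0 < Fintype.card F - 1 := by omega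
  apply Nat.eq_of_mul_eq_mul_left hpos
  rw [h]; ring

variable (p : ℕ) [Fact p.Prime] [CharP F p]

theorem exists_card_eq : ∃ k : ℕ, 1 ≤ k ∧ Fintype.card F = p ^ k := by
  obtain ⟨n, _, hn⟩ := FiniteField.card F p
  exact ⟨n, n.pos, hn⟩

theorem factorization_card_SL2 {k : ℕ} (hk : Fintype.card F = p ^ k) (hk1 : 1 ≤ k) :
    (Nat.card (SpecialLinearGroup (Fin 2) F)).factorization p = k := by
  have hp : p.Prime := Fact.out
  have hq2 : 2 ≤ Fintype.card F := Fintype.one_lt_card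
  have hpq : p ∣ Fintype.card F := by
    rw [hk]; exact dvd_pow_self p (by omega)
  have hnd2 : ¬ p ∣ (Fintype.card F ^ 2 - 1) := by
    intro h
    have hpq2 : p ∣ Fintype.card F ^ 2 := dvd_pow hpq (by norm_num)
    have h1 : 1 ≤ Fintype.card F ^ 2 := Nat.one_le_pow _ _ (by omega)
    have : p ∣ Fintype.card F ^ 2 - (Fintype.card F ^ 2 - 1) := Nat.dvd_sub hpq2 h
    have e : Fintype.card F ^ 2 - (Fintype.card F ^ 2 - 1) = 1 := by omega
    rw [e] at this
    exact hp.one_lt.ne' (Nat.dvd_one.mp this)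
  have hm0 : Fintype.card F ^ 2 - 1 ≠ 0 := by
    intro h0
    apply hnd2
    rw [h0]; exact dvd_zero p
  rw [card_SL2, Nat.factorization_mul (by omega) hm0, Finsupp.add_apply,
    Nat.factorization_eq_zero_of_not_dvd hnd2, add_zero, hk, Nat.Prime.factorization_pow hp,
    Finsupp.single_eq_same]

/-- `U` as a Sylow subgroup. -/
noncomputable def sylowU : Sylow p (SpecialLinearGroup (Fin 2) F) :=
  Sylow.ofCard (U F) (by
    obtain ⟨k, hk1, hk⟩ := exists_card_eq (F := F) p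
    rw [card_U, factorization_card_SL2 p hk hk1, hk])

theorem coe_sylowU : ((sylowU (F := F) p : Sylow p (SpecialLinearGroup (Fin 2) F)) :
    Subgroup (SpecialLinearGroup (Fin 2) F)) = U F :=
  Sylow.coe_ofCard _ _

/-- Every Sylow subgroup is a conjugate of `U`. -/
theorem exists_conj (P : Sylow p (SpecialLinearGroup (Fin 2) F)) :
    ∃ g : SpecialLinearGroup (Fin 2) F, ∀ x : SpecialLinearGroup (Fin 2) F,
      x ∈ P ↔ g⁻¹ * x * g ∈ U F := by
  obtain ⟨g, hg⟩ := MulAction.exists_smul_eq (SpecialLinearGroup (Fin 2) F) (sylowU (F := F) p) P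
  refine ⟨g, ?_⟩
  intro x
  rw [← hg]
  change x ∈ ((g • sylowU (F := F) p : Sylow p (SpecialLinearGroup (Fin 2) F)) :
    Subgroup (SpecialLinearGroup (Fin 2) F)) ↔ _
  rw [Sylow.smul_def, Sylow.pointwise_smul_def,
    Subgroup.mem_pointwise_smul_iff_inv_smul_mem, coe_sylowU, ← map_inv, MulAut.smul_def,
    MulAut.conj_apply, inv_inv]

/-- Two distinct Sylow subgroups generate the whole group. -/
theorem sup_eq_top (P Q : Sylow p (SpecialLinearGroup (Fin 2) F)) (h : P ≠ Q) :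
    (P : Subgroup (SpecialLinearGroup (Fin 2) F)) ⊔ (Q : Subgroup (SpecialLinearGroup (Fin 2) F)) = ⊤ := by
  obtain ⟨g, hg⟩ := exists_conj p P
  obtain ⟨k, hk⟩ := exists_conj p Q
  -- transport to `U`
  have hnB : g⁻¹ * k ∉ B F := by
    intro hB
    apply h
    apply Sylow.ext
    ext y
    change y ∈ P ↔ y ∈ Q
    rw [hg y, hk y]
    constructor
    · intro hy
      have := conj_mem_U ((B F).inv_mem hB) hy
      have e : (g⁻¹ * k)⁻¹ * (g⁻¹ * y * g) * (g⁻¹ * k)⁻¹⁻¹ = k⁻¹ * y * k := by group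
      rwa [e] at this
    · intro hy
      have := conj_mem_U hB hy
      have e : (g⁻¹ * k) * (k⁻¹ * y * k) * (g⁻¹ * k)⁻¹ = g⁻¹ * y * g := by group
      rwa [e] at this
  set H : Subgroup (SpecialLinearGroup (Fin 2) F) :=
    ((P : Subgroup (SpecialLinearGroup (Fin 2) F)) ⊔
      (Q : Subgroup (SpecialLinearGroup (Fin 2) F))).comap (MulAut.conj g).toMonoidHom with hH
  have hmem : ∀ y, y ∈ H ↔ g * y * g⁻¹ ∈ (P : Subgroup (SpecialLinearGroup (Fin 2) F)) ⊔
      (Q : Subgroup (SpecialLinearGroup (Fin 2) F)) := by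
    intro y
    rw [hH, Subgroup.mem_comap]
    rfl
  have hHtop : H = ⊤ := by
    apply eq_top_of_conj (k := g⁻¹ * k) _ hnB
    · intro u hu
      rw [hmem]
      apply Subgroup.mem_sup_right
      change _ ∈ Q
      rw [hk]
      have e : k⁻¹ * (g * (g⁻¹ * k * u * (g⁻¹ * k)⁻¹) * g⁻¹) * k = u := by group
      rw [e]; exact hu
    · intro u hu
      rw [hmem]
      apply Subgroup.mem_sup_left
      change _ ∈ P
      rw [hg]
      have e : g⁻¹ * (g * u * g⁻¹) * g = u := by group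
      rw [e]; exact hu
  rw [eq_top_iff]
  intro x _
  have hx : g⁻¹ * x * g ∈ H := by rw [hHtop]; exact Subgroup.mem_top _
  rw [hmem] at hx
  have e : g * (g⁻¹ * x * g) * g⁻¹ = x := by group
  rwa [e] at hx

end Finite

end Cfsg.Agent.Helper7.SL2
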