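import Mathlib
import Cfsg.Agent.Helper7.SL2Sylow

set_option autoImplicit false

/-!
Cyclic tori in `SL_2(q)` and the Sylow subgroups for primes other than the characteristic.
-/

namespace Cfsg.Agent.Helper7.SL2

open Matrix

/-- If a finite group has a cyclic subgroup of index prime to `r`, then its Sylow `r`-subgroups
are cyclic. -/
theorem sylow_isCyclic_of_subgroup {G : Type*} [Group G] [Finite G] {r : ℕ} [Fact r.Prime]
    (C : Subgroup G) [IsCyclic C] (h : ¬ r ∣ C.index) (R : Sylow r G) :
    IsCyclic (R : Subgroup G) := by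
  have hr : r.Prime := Fact.out
  obtain ⟨n, hn⟩ : ∃ n, n = (Nat.card G).factorization r := ⟨_, rfl⟩
  have hdvd : r ^ n ∣ Nat.card C := by
    have h1 : r ^ n ∣ Nat.card C * C.index := by
      rw [Subgroup.card_mul_index, hn]; exact Nat.ordProj_dvd _ _
    exact (Nat.Coprime.pow_left n ((Nat.Prime.coprime_iff_not_dvd hr).mpr h)).dvd_of_dvd_mul_right h1
  obtain ⟨K, hK⟩ := Sylow.exists_subgroup_card_pow_prime r hdvd
  have hcard : Nat.card (K.map C.subtype) = r ^ (Nat.card G).factorization r := by
    rw [Subgroup.card_map_of_injective C.subtype_injective, hK, hn]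
  have e1 : (R : Subgroup G) ≃* (Sylow.ofCard (K.map C.subtype) hcard : Sylow r G) :=
    Sylow.equiv R _
  have e2 : K ≃* K.map C.subtype := K.equivMapOfInjective C.subtype C.subtype_injective
  have : IsCyclic K := Subgroup.isCyclic K
  have : IsCyclic (K.map C.subtype) := isCyclic_of_surjective e2 e2.surjective
  have : IsCyclic ((Sylow.ofCard (K.map C.subtype) hcard : Sylow r G) : Subgroup G) := by
    change IsCyclic (K.map C.subtype)
    infer_instance
  exact isCyclic_of_surjective e1.symm e1.symm.surjective

variable {F : Type*} [Field F]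

/-- A diagonal element of `SL_2`. -/
def tor (a : Fˣ) : SpecialLinearGroup (Fin 2) F :=
  ⟨!![(a : F), 0; 0, ((a⁻¹ : Fˣ) : F)], by
    rw [Matrix.det_fin_two_of, mul_zero, sub_zero, ← Units.val_mul, mul_inv_cancel, Units.val_one]⟩

theorem tor_00 (a : Fˣ) : (tor a : Matrix (Fin 2) (Fin 2) F) 0 0 = a := rfl
theorem tor_01 (a : Fˣ) : (tor a : Matrix (Fin 2) (Fin 2) F) 0 1 = 0 := rfl
theorem tor_10 (a : Fˣ) : (tor a : Matrix (Fin 2) (Fin 2) F) 1 0 = 0 := rfl
theorem tor_11 (a : Fˣ) : (tor a : Matrix (Fin 2) (Fin 2) F) 1 1 = ((a⁻¹ : Fˣ) : F) := rfl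

/-- The split torus of `SL_2`. -/
def torusHom (F : Type*) [Field F] : Fˣ →* SpecialLinearGroup (Fin 2) F where
  toFun a := tor a
  map_one' := by
    apply ext'
    · rw [tor_00, one_00, Units.val_one]
    · rw [tor_01, one_01]
    · rw [tor_10, one_10]
    · rw [tor_11, one_11, inv_one, Units.val_one]
  map_mul' a b := by
    apply ext' <;>
      simp only [coe_mul_apply, tor_00, tor_01, tor_10, tor_11, mul_inv, Units.val_mul, zero_mul,
        mul_zero, add_zero, zero_add]

theorem torusHom_injective : Function.Injective (torusHom F) := by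
  intro a b hab
  have := congrArg (fun g : SpecialLinearGroup (Fin 2) F => (g : Matrix (Fin 2) (Fin 2) F) 0 0) hab
  exact Units.ext this

section Finite

variable [Fintype F]

theorem card_torus : Nat.card (torusHom F).range = Fintype.card F - 1 := by
  rw [Nat.card_congr (MonoidHom.ofInjective (torusHom_injective (F := F))).symm.toEquiv,
    Nat.card_units, Nat.card_eq_fintype_card]

theorem index_torus : (torusHom F).range.index = Fintype.card F * (Fintype.card F + 1) := by
  have h := Subgroup.card_mul_index (torusHom F).range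
  rw [card_torus, card_SL2] at h
  have h1 : 2 ≤ Fintype.card F := Fintype.one_lt_card
  obtain ⟨q, hq⟩ : ∃ q, q = Fintype.card F := ⟨_, rfl⟩
  rw [← hq] at h h1 ⊢
  have hpos : 0 < q - 1 := by omega
  apply Nat.eq_of_mul_eq_mul_left hpos
  rw [h]
  obtain ⟨k, rfl⟩ : ∃ k, q = k + 1 := ⟨q - 1, by omega⟩
  have e : (k + 1) ^ 2 - 1 = k * (k + 2) := by
    apply Nat.sub_eq_of_eq_add; ring
  rw [e, Nat.add_sub_cancel]
  ring

variable (p : ℕ) [Fact p.Prime] [CharP F p]

/-- The norm map on units of the quadratic extension. -/
noncomputable def normHom : (FiniteField.Extension F p 2)ˣ →* Fˣ :=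
  Units.map (Algebra.norm F : FiniteField.Extension F p 2 →* F)

/-- An `F`-basis of the quadratic extension. -/
noncomputable def basisK : Module.Basis (Fin 2) F (FiniteField.Extension F p 2) :=
  Module.finBasisOfFinrankEq F _ (FiniteField.finrank_extension F p 2)

/-- The non-split torus: elements of norm one of the quadratic extension acting on it. -/
noncomputable def nonsplitHom : (normHom (F := F) p).ker →* SpecialLinearGroup (Fin 2) F where
  toFun x := ⟨Algebra.leftMulMatrix (basisK p) ((x : (FiniteField.Extension F p 2)ˣ) :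
      FiniteField.Extension F p 2), by
    rw [← Algebra.norm_eq_matrix_det]
    have h := x.2
    rw [MonoidHom.mem_ker] at h
    have := congrArg (fun u : Fˣ => (u : F)) h
    exact this⟩
  map_one' := by
    apply Subtype.ext
    change Algebra.leftMulMatrix (basisK p) (((1 : (normHom (F := F) p).ker) :
      (FiniteField.Extension F p 2)ˣ) : FiniteField.Extension F p 2) = 1
    rw [Subgroup.coe_one, Units.val_one, map_one]
  map_mul' x y := by
    apply Subtype.ext
    change Algebra.leftMulMatrix (basisK p) (((x * y : (normHom (F := F) p).ker) :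
      (FiniteField.Extension F p 2)ˣ) : FiniteField.Extension F p 2) =
      Algebra.leftMulMatrix (basisK p) _ * Algebra.leftMulMatrix (basisK p) _
    rw [Subgroup.coe_mul, Units.val_mul, map_mul]

theorem nonsplitHom_injective : Function.Injective (nonsplitHom (F := F) p) := by
  intro x y hxy
  have h := congrArg (fun g : SpecialLinearGroup (Fin 2) F => (g : Matrix (Fin 2) (Fin 2) F)) hxy
  have h2 := Algebra.leftMulMatrix_injective (basisK (F := F) p) h
  exact Subtype.ext (Units.ext h2)

instance isCyclic_torus : IsCyclic (torusHom F).range :=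
  isCyclic_of_surjective (torusHom F).rangeRestrict (torusHom F).rangeRestrict_surjective

instance isCyclic_nonsplit : IsCyclic (nonsplitHom (F := F) p).range := by
  have : IsCyclic (normHom (F := F) p).ker := Subgroup.isCyclic _
  exact isCyclic_of_surjective (nonsplitHom (F := F) p).rangeRestrict
    (nonsplitHom (F := F) p).rangeRestrict_surjective

theorem not_dvd_index_nonsplit {r : ℕ} (hr : r.Prime) (hrq : ¬ r ∣ Fintype.card F)
    (hr1 : ¬ r ∣ Fintype.card F - 1) : ¬ r ∣ (nonsplitHom (F := F) p).range.index := by
  have h1 : Nat.card (nonsplitHom (F := F) p).range = Nat.card (normHom (F := F) p).ker :=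
    Nat.card_congr (MonoidHom.ofInjective (nonsplitHom_injective (F := F) p)).symm.toEquiv
  have h2 : Nat.card (normHom (F := F) p).ker * Nat.card (normHom (F := F) p).range =
      Nat.card (FiniteField.Extension F p 2)ˣ := by
    rw [← Subgroup.index_ker, Subgroup.card_mul_index]
  have h3 : Nat.card (FiniteField.Extension F p 2)ˣ = Fintype.card F ^ 2 - 1 := by
    rw [Nat.card_units, FiniteField.natCard_extension, Nat.card_eq_fintype_card]
  have h4 : Nat.card (normHom (F := F) p).range ∣ Fintype.card F - 1 := by
    have := Subgroup.card_subgroup_dvd_card (normHom (F := F) p).range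
    rwa [Nat.card_units, Nat.card_eq_fintype_card (α := F)] at this
  have h5 := Subgroup.card_mul_index (nonsplitHom (F := F) p).range
  rw [card_SL2, h1, ← h3, ← h2] at h5
  have h6 : (nonsplitHom (F := F) p).range.index =
      Fintype.card F * Nat.card (normHom (F := F) p).range := by
    apply Nat.eq_of_mul_eq_mul_left (Nat.card_pos (α := (normHom (F := F) p).ker))
    rw [h5]; ring
  rw [h6]
  intro hdvd
  rcases (Nat.Prime.dvd_mul hr).mp hdvd with h | h
  · exact hrq h
  · exact hr1 (h.trans h4)

end Finite

end Cfsg.Agent.Helper7.SL2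

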