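import Mathlib
import Cfsg.Prelude.Def_Solvable

set_option autoImplicit false

/-!
Normal subgroups of a Frobenius group: they lie in the kernel or contain it.
-/

namespace Cfsg.Agent.Helper7.FrobN

open scoped Pointwise

variable {G : Type*} [Group G]

theorem mem_conj_smul' {H : Subgroup G} {g x : G} :
    x ∈ MulAut.conj g • H ↔ g⁻¹ * x * g ∈ H := by
  rw [Subgroup.mem_pointwise_smul_iff_inv_smul_mem]
  simp [MulAut.smul_def, MulAut.conj_inv_apply]

/-- TI property in elementwise form. -/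
theorem mem_of_conj_mem {H : Subgroup G} (hH : Cfsg.IsFrobeniusComplement H) {x h : G}
    (hh : h ∈ H) (h1 : h ≠ 1) (hx : x⁻¹ * h * x ∈ H) : x ∈ H := by
  by_contra hxH
  have hbot := hH.2.2 x hxH
  have hmem : h ∈ H ⊓ (MulAut.conj x • H) := ⟨hh, mem_conj_smul'.2 hx⟩
  rw [hbot, Subgroup.mem_bot] at hmem
  exact h1 hmem

/-- A normal subgroup of a Frobenius group lies in the kernel or contains it. -/
theorem le_or_le [Finite G] {H K N : Subgroup G} (hH : Cfsg.IsFrobeniusComplement H)
    (hK : (K : Set G) = Cfsg.frobeniusKernel H) [hKn : K.Normal] (hc : Subgroup.IsComplement' K H)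
    [hN : N.Normal] : N ≤ K ∨ K ≤ N := by
  by_cases hNK : N ≤ K
  · exact Or.inl hNK
  · right
    rw [SetLike.not_le_iff_exists] at hNK
    obtain ⟨x, hxN, hxK⟩ := hNK
    have hxK' : x ∉ Cfsg.frobeniusKernel H := by
      rw [← hK]
      exact hxK
    unfold Cfsg.frobeniusKernel at hxK'
    rw [Set.mem_setOf_eq, not_or, not_forall] at hxK'
    obtain ⟨hx1, g, hg⟩ := hxK'
    rw [not_not, mem_conj_smul'] at hg
    set y := g⁻¹ * x * g with hy
    have hyN : y ∈ N := by
      have := hN.conj_mem x hxN g⁻¹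
      rwa [inv_inv] at this
    have hy1 : y ≠ 1 := by
      intro h
      apply hx1
      have : x = g * y * g⁻¹ := by rw [hy]; group
      rw [this, h]
      group
    -- the map `k ↦ k y k⁻¹ y⁻¹` from `K` to `K ⊓ N`
    have hmem : ∀ k ∈ K, k * y * k⁻¹ * y⁻¹ ∈ K ⊓ N := by
      intro k hk
      constructor
      · have h1 : y * k⁻¹ * y⁻¹ ∈ K := hKn.conj_mem _ (K.inv_mem hk) y
        have : k * y * k⁻¹ * y⁻¹ = k * (y * k⁻¹ * y⁻¹) := by group
        rw [this]
        exact K.mul_mem hk h1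
      · exact N.mul_mem (hN.conj_mem y hyN k) (N.inv_mem hyN)
    have hdisj : ∀ z, z ∈ K → z ∈ H → z = 1 := by
      intro z hzK hzH
      have := hc.disjoint
      rw [Subgroup.disjoint_def] at this
      exact this hzK hzH
    let φ : K → (K ⊓ N : Subgroup G) := fun k => ⟨k * y * k⁻¹ * y⁻¹, hmem k k.2⟩
    have hinj : Function.Injective φ := by
      intro k k' hkk
      have h1 : (k : G) * y * (k : G)⁻¹ * y⁻¹ = k' * y * (k' : G)⁻¹ * y⁻¹ := congrArg Subtype.val hkk
      have h2 : (k : G) * y * (k : G)⁻¹ = k' * y * (k' : G)⁻¹ := mul_right_cancel h1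
      have h3 : ((k' : G)⁻¹ * k)⁻¹ * y * ((k' : G)⁻¹ * k) = y := by
        have : y = (k : G)⁻¹ * ((k' : G) * y * (k' : G)⁻¹) * k := by rw [← h2]; group
        calc ((k' : G)⁻¹ * k)⁻¹ * y * ((k' : G)⁻¹ * k)
            = (k : G)⁻¹ * ((k' : G) * y * (k' : G)⁻¹) * k := by group
          _ = y := this.symm
      have h4 : (k' : G)⁻¹ * k ∈ H := mem_of_conj_mem hH hg hy1 (by rw [h3]; exact hg)
      have h5 : (k' : G)⁻¹ * k ∈ K := K.mul_mem (K.inv_mem k'.2) k.2
      have h6 := hdisj _ h5 h4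
      apply Subtype.ext
      have : (k : G) = k' * ((k' : G)⁻¹ * k) := by group
      rw [this, h6, mul_one]
    have hcard : Nat.card K ≤ Nat.card (K ⊓ N : Subgroup G) :=
      Nat.card_le_card_of_injective φ hinj
    have hle : (K ⊓ N : Subgroup G) ≤ K := inf_le_left
    have heq : (K ⊓ N : Subgroup G) = K := by
      apply Subgroup.eq_of_le_of_card_ge hle
      exact hcard
    rw [← heq]
    exact inf_le_right

end Cfsg.Agent.Helper7.FrobN
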