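import Mathlib
import Cfsg.Prelude.Def_Solvable
import Cfsg.Agent.S0035
import Cfsg.Agent.Helper7.FrobNormal

set_option autoImplicit false

/-!
Doubly transitive groups in which only the identity fixes three points: point stabilisers
are Frobenius groups, and the Frobenius kernels.
-/

namespace Cfsg.Agent.Helper7.Zass

open MulAction Cfsg.Agent.Helper7.FrobN
open scoped Pointwise

variable {G Ω : Type*} [Group G] [MulAction G Ω]

/-- Identity, or an element fixing `c` and no other point. -/
def Kset (c : Ω) : Set G := {x | x • c = c ∧ (x = 1 ∨ ∀ d, d ≠ c → x • d ≠ d)}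

theorem one_mem_Kset (c : Ω) : (1 : G) ∈ Kset c := ⟨one_smul _ _, Or.inl rfl⟩

theorem conj_mem_Kset {c : Ω} {x : G} (hx : x ∈ Kset c) (g : G) :
    g * x * g⁻¹ ∈ Kset (g • c) := by
  obtain ⟨hxc, hx'⟩ := hx
  constructor
  · rw [mul_smul, mul_smul, inv_smul_smul, hxc]
  · rcases hx' with rfl | hx'
    · left
      group
    · right
      intro d hd hfix
      rw [mul_smul, mul_smul, smul_eq_iff_eq_inv_smul] at hfix
      apply hx' (g⁻¹ • d) _ hfix
      intro h
      apply hd
      rw [← h, smul_inv_smul]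

/-- Two-transitivity in elementwise form. -/
def T2 (G Ω : Type*) [Group G] [MulAction G Ω] : Prop :=
  ∀ a b c d : Ω, a ≠ b → c ≠ d → ∃ g : G, g • a = c ∧ g • b = d

/-- Only the identity fixes three points. -/
def P3 (G Ω : Type*) [Group G] [MulAction G Ω] : Prop :=
  ∀ g : G, ∀ a b c : Ω, a ≠ b → b ≠ c → a ≠ c → g • a = a → g • b = b → g • c = c → g = 1

variable [FaithfulSMul G Ω]

theorem exists_moved {h : G} (h1 : h ≠ 1) : ∃ c : Ω, h • c ≠ c := by
  by_contra hcon
  simp only [not_exists, not_not] at hcon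
  apply h1
  apply FaithfulSMul.eq_of_smul_eq_smul (α := Ω)
  intro c
  rw [hcon c, one_smul]

/-- The two-point stabiliser is a Frobenius complement in the point stabiliser. -/
theorem isFrobeniusComplement (hT : T2 G Ω) (hP : P3 G Ω) {a b : Ω} (hab : a ≠ b)
    (hH : ∃ h : G, h ≠ 1 ∧ h • a = a ∧ h • b = b) :
    Cfsg.IsFrobeniusComplement ((stabilizer G b).subgroupOf (stabilizer G a)) := by
  obtain ⟨h, h1, ha, hb⟩ := hH
  obtain ⟨c, hc⟩ := exists_moved (Ω := Ω) h1
  have hca : c ≠ a := fun e => hc (by rw [e, ha])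
  have hcb : c ≠ b := fun e => hc (by rw [e, hb])
  refine ⟨?_, ?_, ?_⟩
  · intro hbot
    have hm : (⟨h, ha⟩ : stabilizer G a) ∈ (stabilizer G b).subgroupOf (stabilizer G a) := by
      rw [Subgroup.mem_subgroupOf]
      exact hb
    rw [hbot, Subgroup.mem_bot] at hm
    exact h1 (congrArg Subtype.val hm)
  · intro htop
    obtain ⟨g, hga, hgb⟩ := hT a b a c hab hca.symm
    have hm : (⟨g, hga⟩ : stabilizer G a) ∈ (stabilizer G b).subgroupOf (stabilizer G a) := by
      rw [htop]
      exact Subgroup.mem_top _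
    rw [Subgroup.mem_subgroupOf] at hm
    have : g • b = b := hm
    rw [hgb] at this
    exact hcb this
  · intro g hg
    rw [Subgroup.mem_subgroupOf, mem_stabilizer_iff] at hg
    rw [eq_bot_iff]
    intro x hx
    obtain ⟨hx1, hx2⟩ := Subgroup.mem_inf.1 hx
    rw [Subgroup.mem_subgroupOf, mem_stabilizer_iff] at hx1
    rw [mem_conj_smul', Subgroup.mem_subgroupOf, mem_stabilizer_iff] at hx2
    rw [Subgroup.mem_bot]
    apply Subtype.ext
    have hxa : (x : G) • a = a := x.2
    have hga : (g : G) • a = a := g.2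
    have hx3 : (x : G) • ((g : G) • b) = (g : G) • b := by
      have : ((g⁻¹ * x * g : stabilizer G a) : G) • b = b := hx2
      rw [Subgroup.coe_mul, Subgroup.coe_mul, Subgroup.coe_inv, mul_smul, mul_smul,
        inv_smul_eq_iff] at this
      exact this
    have hgb_ne_a : (g : G) • b ≠ a := by
      intro e
      apply hab
      have : (g : G) • b = (g : G) • a := by rw [e, hga]
      exact (smul_left_cancel _ this).symm
    exact hP x a b ((g : G) • b) hab (Ne.symm hg) (Ne.symm hgb_ne_a) hxa hx1 hx3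

/-- The Frobenius kernel of a point stabiliser. -/
theorem exists_kernel [Finite G] (hT : T2 G Ω) (hP : P3 G Ω) {a b : Ω} (hab : a ≠ b)
    (hH : ∃ h : G, h ≠ 1 ∧ h • a = a ∧ h • b = b) :
    ∃ K : Subgroup (stabilizer G a), K.Normal ∧
      Subgroup.IsComplement' K ((stabilizer G b).subgroupOf (stabilizer G a)) ∧
      (K : Set (stabilizer G a)) =
        Cfsg.frobeniusKernel ((stabilizer G b).subgroupOf (stabilizer G a)) ∧
      ∀ x : stabilizer G a, x ∈ K ↔ (x : G) ∈ Kset a := by
  have hF := isFrobeniusComplement hT hP hab hH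
  obtain ⟨K, hKset, hKn, hKc⟩ := Cfsg.Agent.S0035.result _ hF
  refine ⟨K, hKn, hKc, hKset, ?_⟩
  intro x
  rw [← SetLike.mem_coe, hKset]
  unfold Cfsg.frobeniusKernel Kset
  simp only [Set.mem_setOf_eq]
  have hxa : (x : G) • a = a := x.2
  constructor
  · rintro (rfl | hx)
    · exact ⟨hxa, Or.inl rfl⟩
    · refine ⟨hxa, Or.inr ?_⟩
      intro d hd hfix
      obtain ⟨g, hga, hgb⟩ := hT a b a d hab (Ne.symm hd)
      apply hx ⟨g, hga⟩
      rw [mem_conj_smul', Subgroup.mem_subgroupOf, mem_stabilizer_iff, Subgroup.coe_mul,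
        Subgroup.coe_mul, Subgroup.coe_inv, mul_smul, mul_smul, inv_smul_eq_iff]
      show (x : G) • (g • b) = g • b
      rw [hgb, hfix]
  · rintro ⟨-, hx | hx⟩
    · left
      exact Subtype.ext hx
    · right
      intro g hg
      rw [mem_conj_smul', Subgroup.mem_subgroupOf, mem_stabilizer_iff, Subgroup.coe_mul,
        Subgroup.coe_mul, Subgroup.coe_inv, mul_smul, mul_smul, inv_smul_eq_iff] at hg
      have hga : (g : G) • a = a := g.2
      apply hx ((g : G) • b) _ hg
      intro e
      apply hab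
      have : (g : G) • b = (g : G) • a := by rw [e, hga]
      exact (smul_left_cancel _ this).symm

end Cfsg.Agent.Helper7.Zass
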