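import Mathlib
import Cfsg.Agent.Helper7.ZassBasic

set_option autoImplicit false

/-!
Normal subgroups of Zassenhaus groups contain the Frobenius kernels of the point stabilisers.
-/

namespace Cfsg.Agent.Helper7.Zass

open MulAction Cfsg.Agent.Helper7.FrobN
open scoped Pointwise

variable {G Ω : Type*} [Group G] [MulAction G Ω]

/-- The Zassenhaus hypotheses in elementwise form (faithfulness apart). -/
structure ZHyp (G Ω : Type*) [Group G] [MulAction G Ω] : Prop where
  t2 : T2 G Ω
  p3 : P3 G Ω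
  fix2 : ∃ g : G, g ≠ 1 ∧ ∃ a b : Ω, a ≠ b ∧ g • a = a ∧ g • b = b
  noreg : ∀ N : Subgroup G, N.Normal → IsPretransitive N Ω → ∃ a : Ω, stabilizer N a ≠ ⊥

theorem ZHyp.exists_fix (h : ZHyp G Ω) {a b : Ω} (hab : a ≠ b) :
    ∃ h' : G, h' ≠ 1 ∧ h' • a = a ∧ h' • b = b := by
  obtain ⟨g, hg1, a', b', hab', hga, hgb⟩ := h.fix2
  obtain ⟨x, hxa, hxb⟩ := h.t2 a' b' a b hab' hab
  refine ⟨x * g * x⁻¹, ?_, ?_, ?_⟩
  · intro e
    apply hg1
    have : g = x⁻¹ * (x * g * x⁻¹) * x := by group
    rw [this, e]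
    group
  · rw [mul_smul, mul_smul, ← hxa, inv_smul_smul, hga]
  · rw [mul_smul, mul_smul, ← hxb, inv_smul_smul, hgb]

theorem ZHyp.exists_ne (h : ZHyp G Ω) (a : Ω) : ∃ b : Ω, b ≠ a := by
  obtain ⟨g, hg1, a', b', hab', hga, hgb⟩ := h.fix2
  by_cases e : a' = a
  · exact ⟨b', fun e' => hab' (by rw [e, e'])⟩
  · exact ⟨a', e⟩

variable [FaithfulSMul G Ω]

/-- A non-trivial normal subgroup of a doubly transitive group is transitive. -/
theorem normal_transitive (hT : T2 G Ω) {N : Subgroup G} [hN : N.Normal] (hN1 : N ≠ ⊥)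
    (c d : Ω) : ∃ n ∈ N, n • c = d := by
  by_cases hcd : c = d
  · exact ⟨1, N.one_mem, by rw [one_smul, hcd]⟩
  · obtain ⟨n, hn1⟩ := (Subgroup.ne_bot_iff_exists_ne_one).1 hN1
    have hn1' : (n : G) ≠ 1 := fun e => hn1 (Subtype.ext e)
    obtain ⟨a, ha⟩ := exists_moved (Ω := Ω) hn1'
    obtain ⟨g, hga, hgb⟩ := hT a ((n : G) • a) c d (Ne.symm ha) hcd
    refine ⟨g * n * g⁻¹, hN.conj_mem n n.2 g, ?_⟩
    rw [mul_smul, mul_smul, ← hga, inv_smul_smul, hgb]

theorem isPretransitive_of_normal (hT : T2 G Ω) {N : Subgroup G} [hN : N.Normal] (hN1 : N ≠ ⊥) :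
    IsPretransitive N Ω := by
  constructor
  intro c d
  obtain ⟨n, hn, hnc⟩ := normal_transitive hT hN1 c d
  exact ⟨⟨n, hn⟩, hnc⟩

/-- A normal subgroup cannot act as a Frobenius group on `Ω`. -/
theorem no_semiregular_normal [Finite G] [Finite Ω] (h : ZHyp G Ω) {N : Subgroup G} [hN : N.Normal]
    (a : Ω) (hNa : ∃ n ∈ N, n ≠ 1 ∧ n • a = a)
    (hsemi : ∀ x ∈ N, x ≠ 1 → ∀ c d : Ω, c ≠ d → x • c = c → x • d ≠ d) : False := by
  obtain ⟨n₀, hn₀, hn₀1, hn₀a⟩ := hNa
  have hN1 : N ≠ ⊥ := by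
    intro e
    rw [e, Subgroup.mem_bot] at hn₀
    exact hn₀1 hn₀
  have htr := normal_transitive h.t2 hN1
  have : IsPretransitive N Ω := isPretransitive_of_normal h.t2 hN1
  set Nas : Subgroup N := (stabilizer G a).subgroupOf N with hNas
  have hmemNas : ∀ x : N, x ∈ Nas ↔ (x : G) • a = a := by
    intro x
    rw [hNas, Subgroup.mem_subgroupOf, mem_stabilizer_iff]
  have hF : Cfsg.IsFrobeniusComplement Nas := by
    refine ⟨?_, ?_, ?_⟩
    · intro e
      have : (⟨n₀, hn₀⟩ : N) ∈ Nas := (hmemNas _).2 hn₀a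
      rw [e, Subgroup.mem_bot] at this
      exact hn₀1 (congrArg Subtype.val this)
    · intro e
      obtain ⟨b, hb⟩ := h.exists_ne a
      obtain ⟨n, hn, hnb⟩ := htr a b
      have : (⟨n, hn⟩ : N) ∈ Nas := by rw [e]; exact Subgroup.mem_top _
      rw [hmemNas] at this
      exact hb (by rw [← hnb]; exact this)
    · intro g hg
      rw [hmemNas] at hg
      rw [eq_bot_iff]
      intro x hx
      obtain ⟨hx1, hx2⟩ := Subgroup.mem_inf.1 hx
      rw [hmemNas] at hx1
      rw [mem_conj_smul', hmemNas, Subgroup.coe_mul, Subgroup.coe_mul, Subgroup.coe_inv, mul_smul,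
        mul_smul, inv_smul_eq_iff] at hx2
      rw [Subgroup.mem_bot]
      by_contra hx0
      have hx0' : (x : G) ≠ 1 := fun e => hx0 (Subtype.ext e)
      exact hsemi x x.2 hx0' a ((g : G) • a) (Ne.symm hg) hx1 hx2
  obtain ⟨M, hMset, hMn, hMc⟩ := Cfsg.Agent.S0035.result Nas hF
  have hMchar : ∀ x : N, x ∈ M ↔ (x = 1 ∨ ∀ c : Ω, (x : G) • c ≠ c) := by
    intro x
    rw [← SetLike.mem_coe, hMset]
    unfold Cfsg.frobeniusKernel
    simp only [Set.mem_setOf_eq]
    constructor
    · rintro (e | hx)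
      · exact Or.inl e
      · right
        intro c hc
        obtain ⟨g, hg, hga⟩ := htr a c
        apply hx ⟨g, hg⟩
        rw [mem_conj_smul', hmemNas, Subgroup.coe_mul, Subgroup.coe_mul, Subgroup.coe_inv,
          mul_smul, mul_smul, inv_smul_eq_iff]
        show (x : G) • (g • a) = g • a
        rw [hga, hc]
    · rintro (e | hx)
      · exact Or.inl e
      · right
        intro g hg
        rw [mem_conj_smul', hmemNas, Subgroup.coe_mul, Subgroup.coe_mul, Subgroup.coe_inv,
          mul_smul, mul_smul, inv_smul_eq_iff] at hg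
        exact hx _ hg
  -- the kernel as a subgroup of `G`
  set Mg : Subgroup G := M.map N.subtype with hMg
  have hmemMg : ∀ x : G, x ∈ Mg ↔ (x ∈ N ∧ (x = 1 ∨ ∀ c : Ω, x • c ≠ c)) := by
    intro x
    rw [hMg, Subgroup.mem_map]
    constructor
    · rintro ⟨y, hy, rfl⟩
      refine ⟨y.2, ?_⟩
      rcases (hMchar y).1 hy with e | e
      · left
        rw [e]
        rfl
      · exact Or.inr e
    · rintro ⟨hxN, hx⟩
      refine ⟨⟨x, hxN⟩, (hMchar _).2 ?_, rfl⟩
      rcases hx with e | e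
      · left
        exact Subtype.ext e
      · exact Or.inr e
  have hMgn : Mg.Normal := by
    constructor
    intro x hx g
    rw [hmemMg] at hx ⊢
    refine ⟨hN.conj_mem x hx.1 g, ?_⟩
    rcases hx.2 with e | e
    · left
      rw [e]
      group
    · right
      intro c hc
      rw [mul_smul, mul_smul, smul_eq_iff_eq_inv_smul] at hc
      exact e _ hc
  have hstab : ∀ c : Ω, stabilizer Mg c = ⊥ := by
    intro c
    rw [eq_bot_iff]
    intro x hx
    rw [mem_stabilizer_iff] at hx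
    rw [Subgroup.mem_bot]
    rcases ((hmemMg x).1 x.2).2 with e | e
    · exact Subtype.ext e
    · exact absurd hx (e c)
  -- cardinalities
  have hNas_eq : Nas = stabilizer N a := by
    ext x
    rw [hmemNas, mem_stabilizer_iff]
    rfl
  have hidx : Nas.index = Nat.card Ω := by
    rw [hNas_eq, index_stabilizer, orbit_eq_univ, Set.ncard_univ]
  have hcardM : Nat.card M = Nat.card Ω := by
    have h1 := hMc.card_mul_card
    have h2 := Subgroup.card_mul_index Nas
    rw [hidx] at h2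
    have hpos : 0 < Nat.card Nas := Nat.card_pos
    have : Nat.card M * Nat.card Nas = Nat.card Ω * Nat.card Nas := by
      rw [h1, mul_comm, h2]
    exact Nat.eq_of_mul_eq_mul_right hpos this
  have hcardMg : Nat.card Mg = Nat.card Ω := by
    rw [← hcardM, hMg]
    exact Nat.card_congr (Subgroup.equivMapOfInjective M N.subtype N.subtype_injective).symm.toEquiv
  have hMgtr : IsPretransitive Mg Ω := by
    rw [isPretransitive_iff_orbit_eq_univ a, Set.eq_univ_iff_ncard, ← index_stabilizer, hstab a,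
      Subgroup.index_bot, hcardMg]
  obtain ⟨c, hc⟩ := h.noreg Mg hMgn hMgtr
  exact hc (hstab c)

/-- A non-trivial normal subgroup of a Zassenhaus group contains the Frobenius kernels of all
point stabilisers. -/
theorem Kset_subset [Finite G] [Finite Ω] (h : ZHyp G Ω) {N : Subgroup G} [hN : N.Normal]
    (hN1 : N ≠ ⊥) (c : Ω) : Kset c ⊆ (N : Set G) := by
  have htr := normal_transitive h.t2 hN1
  have tr : IsPretransitive N Ω := isPretransitive_of_normal h.t2 hN1
  obtain ⟨a, ha⟩ := h.noreg N hN tr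
  obtain ⟨n₀, hn₀1⟩ := (Subgroup.ne_bot_iff_exists_ne_one).1 ha
  have hn₀a : ((n₀ : N) : G) • a = a := n₀.2
  have hn₀1' : ((n₀ : N) : G) ≠ 1 := fun e => hn₀1 (Subtype.ext (Subtype.ext e))
  obtain ⟨b, hb⟩ := h.exists_ne a
  have hab : a ≠ b := Ne.symm hb
  have hH := h.exists_fix hab
  have hF := isFrobeniusComplement h.t2 h.p3 hab hH
  obtain ⟨K, hKn, hKc, hKset, hKchar⟩ := exists_kernel h.t2 h.p3 hab hH
  have hNan : (N.subgroupOf (stabilizer G a)).Normal := Subgroup.normal_subgroupOf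
  rcases le_or_le hF hKset hKc (N := N.subgroupOf (stabilizer G a)) with h1 | h1
  · exfalso
    apply no_semiregular_normal h a ⟨_, (n₀ : N).2, hn₀1', hn₀a⟩
    intro x hxN hx1 c' d hcd hxc hxd
    obtain ⟨g, hgc, hgd⟩ := h.t2 c' d a b hcd hab
    have hya : (g * x * g⁻¹) • a = a := by
      rw [mul_smul, mul_smul, ← hgc, inv_smul_smul, hxc]
    have hyb : (g * x * g⁻¹) • b = b := by
      rw [mul_smul, mul_smul, ← hgd, inv_smul_smul, hxd]
    have hyN : g * x * g⁻¹ ∈ N := hN.conj_mem x hxN g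
    have hy1 : g * x * g⁻¹ ≠ 1 := by
      intro e
      apply hx1
      have : x = g⁻¹ * (g * x * g⁻¹) * g := by group
      rw [this, e]
      group
    have hmem : (⟨g * x * g⁻¹, hya⟩ : stabilizer G a) ∈ N.subgroupOf (stabilizer G a) := by
      rw [Subgroup.mem_subgroupOf]
      exact hyN
    have := (hKchar _).1 (h1 hmem)
    rcases this.2 with e | e
    · exact hy1 e
    · exact e b hb hyb
  · have hKa : Kset a ⊆ (N : Set G) := by
      intro x hx
      have hxa : x • a = a := hx.1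
      have : (⟨x, hxa⟩ : stabilizer G a) ∈ K := (hKchar _).2 hx
      have := h1 this
      rw [Subgroup.mem_subgroupOf] at this
      exact this
    intro x hx
    obtain ⟨g, hg, hga⟩ := htr a c
    have h2 : g⁻¹ * x * g ∈ Kset a := by
      have := conj_mem_Kset hx g⁻¹
      rw [inv_inv, ← hga, inv_smul_smul] at this
      exact this
    have h3 := hKa h2
    have : x = g * (g⁻¹ * x * g) * g⁻¹ := by group
    rw [SetLike.mem_coe, this]
    exact hN.conj_mem _ h3 g

/-- If a non-trivial normal subgroup contains a two-point stabiliser, it contains the point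
stabiliser. -/
theorem stabilizer_le [Finite G] [Finite Ω] (h : ZHyp G Ω) {N : Subgroup G} [hN : N.Normal]
    (hN1 : N ≠ ⊥) {a b : Ω} (hab : a ≠ b) (hH : stabilizer G a ⊓ stabilizer G b ≤ N) :
    stabilizer G a ≤ N := by
  have hfix := h.exists_fix hab
  obtain ⟨K, hKn, hKc, hKset, hKchar⟩ := exists_kernel h.t2 h.p3 hab hfix
  intro x hx
  obtain ⟨⟨k, y⟩, hky⟩ := hKc.2 (⟨x, hx⟩ : stabilizer G a)
  have hk : ((k : stabilizer G a) : G) ∈ N := Kset_subset h hN1 a ((hKchar k).1 k.2)
  have hy : ((y : stabilizer G a) : G) ∈ N := by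
    apply hH
    refine ⟨(y : stabilizer G a).2, ?_⟩
    have hy2 : (y : stabilizer G a) ∈ (stabilizer G b).subgroupOf (stabilizer G a) := y.2
    rw [Subgroup.mem_subgroupOf] at hy2
    exact hy2
  have : x = ((k : stabilizer G a) : G) * ((y : stabilizer G a) : G) := by
    have := congrArg Subtype.val hky
    exact this.symm
  rw [this]
  exact N.mul_mem hk hy

/-- A non-trivial normal subgroup containing a point stabiliser is everything. -/
theorem eq_top_of_stabilizer_le (hT : T2 G Ω) {N : Subgroup G} [hN : N.Normal]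
    (hN1 : N ≠ ⊥) {a : Ω} (hH : stabilizer G a ≤ N) : N = ⊤ := by
  rw [eq_top_iff]
  intro g _
  obtain ⟨n, hn, hna⟩ := normal_transitive hT hN1 a (g • a)
  have : n⁻¹ * g ∈ stabilizer G a := by
    rw [mem_stabilizer_iff, mul_smul, ← hna, inv_smul_smul]
  have h2 := hH this
  have : g = n * (n⁻¹ * g) := by group
  rw [this]
  exact N.mul_mem hn h2

end Cfsg.Agent.Helper7.Zass
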