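import Mathlib
import Cfsg.Agent.Helper7.ZassNormal

set_option autoImplicit false

/-!
Uniqueness of regular normal subgroups, and normal subgroups of Zassenhaus groups.
-/

namespace Cfsg.Agent.Helper7.Zass

open MulAction
open scoped Pointwise

variable {G Ω : Type*} [Group G] [MulAction G Ω]

/-- A subgroup acting regularly. -/
def Reg (M : Subgroup G) : Prop :=
  (∀ c d : Ω, ∃ m ∈ M, m • c = d) ∧ (∀ m ∈ M, ∀ c : Ω, m • c = c → m = 1)

theorem Reg.eq_of_smul_eq {M : Subgroup G} (hM : Reg (Ω := Ω) M) {m m' : G} (hm : m ∈ M)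
    (hm' : m' ∈ M) {c : Ω} (h : m • c = m' • c) : m = m' := by
  have h1 : (m'⁻¹ * m) • c = c := by rw [mul_smul, h, inv_smul_smul]
  have h2 := hM.2 _ (M.mul_mem (M.inv_mem hm') hm) c h1
  have : m = m' * (m'⁻¹ * m) := by group
  rw [this, h2, mul_one]

variable [FaithfulSMul G Ω]

/-- Two regular subgroups normalised by a doubly transitive group containing them coincide,
if only the identity fixes three points. -/
theorem reg_unique (N : Subgroup G)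
    (hNT : ∀ a b c d : Ω, a ≠ b → c ≠ d → ∃ n ∈ N, n • a = c ∧ n • b = d) (hP : P3 G Ω)
    {M₁ M₂ : Subgroup G} (h1N : ∀ n ∈ N, ∀ m ∈ M₁, n * m * n⁻¹ ∈ M₁)
    (h2N : ∀ n ∈ N, ∀ m ∈ M₂, n * m * n⁻¹ ∈ M₂) (h1 : M₁ ≤ N) (h2 : M₂ ≤ N)
    (r1 : Reg (Ω := Ω) M₁) (r2 : Reg (Ω := Ω) M₂) {a b : Ω} (hab : a ≠ b) : M₁ = M₂ := by
  by_cases hD : M₁ ⊓ M₂ = ⊥
  · exfalso
    -- the two subgroups commute
    have hcomm : ∀ m₁ ∈ M₁, ∀ m₂ ∈ M₂, m₁ * m₂ = m₂ * m₁ := by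
      intro m₁ hm₁ m₂ hm₂
      have hc : m₁ * m₂ * m₁⁻¹ * m₂⁻¹ ∈ M₁ ⊓ M₂ := by
        constructor
        · have := h1N m₂ (h2 hm₂) m₁⁻¹ (M₁.inv_mem hm₁)
          have e : m₁ * m₂ * m₁⁻¹ * m₂⁻¹ = m₁ * (m₂ * m₁⁻¹ * m₂⁻¹) := by group
          rw [SetLike.mem_coe, e]
          exact M₁.mul_mem hm₁ this
        · exact M₂.mul_mem (h2N m₁ (h1 hm₁) m₂ hm₂) (M₂.inv_mem hm₂)
      rw [hD, Subgroup.mem_bot] at hc
      have : m₁ * m₂ = (m₁ * m₂ * m₁⁻¹ * m₂⁻¹) * (m₂ * m₁) := by group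
      rw [this, hc, one_mul]
    -- every non-identity element of `M₁` is an involution
    have key : ∀ m₁ ∈ M₁, m₁ ≠ 1 → ∃ y : G, y ≠ 1 ∧ y • a = a ∧ y • (m₁ • a) = m₁ • a ∧
        ∀ m ∈ M₁, y • (m • a) = (m₁⁻¹ * m * m₁) • a := by
      intro m₁ hm₁ hm₁1
      obtain ⟨m₂, hm₂, hm₂a⟩ := r2.1 a (m₁ • a)
      have hform : ∀ m ∈ M₁, (m₁⁻¹ * m₂) • (m • a) = (m₁⁻¹ * m * m₁) • a := by
        intro m hm
        rw [mul_smul, ← mul_smul m₂ m, ← hcomm m hm m₂ hm₂, mul_smul, hm₂a, ← mul_smul, ← mul_smul]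
      refine ⟨m₁⁻¹ * m₂, ?_, ?_, ?_, hform⟩
      · intro e
        have : m₂ = m₁ := by
          have : m₂ = m₁ * (m₁⁻¹ * m₂) := by group
          rw [this, e, mul_one]
        have hmem : m₁ ∈ M₁ ⊓ M₂ := ⟨hm₁, this ▸ hm₂⟩
        rw [hD, Subgroup.mem_bot] at hmem
        exact hm₁1 hmem
      · rw [mul_smul, hm₂a, inv_smul_smul]
      · have := hform m₁ hm₁
        rw [this]
        congr 1
        group
    have hinv : ∀ m₁ ∈ M₁, m₁ * m₁ = 1 := by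
      intro m₁ hm₁
      by_cases hm₁1 : m₁ = 1
      · rw [hm₁1, one_mul]
      · obtain ⟨y, hy1, hya, hym, hform⟩ := key m₁ hm₁ hm₁1
        have h3 : y • ((m₁ * m₁) • a) = (m₁ * m₁) • a := by
          rw [hform _ (M₁.mul_mem hm₁ hm₁)]
          congr 1
          group
        have hne : m₁ • a ≠ a := by
          intro e
          exact hm₁1 (r1.2 m₁ hm₁ a e)
        by_contra hsq
        have hne2 : (m₁ * m₁) • a ≠ a := by
          intro e
          exact hsq (r1.2 _ (M₁.mul_mem hm₁ hm₁) a e)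
        have hne3 : (m₁ * m₁) • a ≠ m₁ • a := by
          intro e
          have := r1.eq_of_smul_eq (M₁.mul_mem hm₁ hm₁) hm₁ e
          apply hm₁1
          have e2 : m₁ = m₁⁻¹ * (m₁ * m₁) := by group
          rw [e2, this, inv_mul_cancel]
        exact hy1 (hP y a (m₁ • a) ((m₁ * m₁) • a) (Ne.symm hne) (Ne.symm hne3) (Ne.symm hne2)
          hya hym h3)
    have habel : ∀ m ∈ M₁, ∀ m' ∈ M₁, m * m' = m' * m := by
      intro m hm m' hm'
      have e1 := hinv m hm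
      have e2 := hinv m' hm'
      have e3 := hinv (m * m') (M₁.mul_mem hm hm')
      have hmi : m⁻¹ = m := inv_eq_of_mul_eq_one_right e1
      have hmi' : m'⁻¹ = m' := inv_eq_of_mul_eq_one_right e2
      have hmmi : (m * m')⁻¹ = m * m' := inv_eq_of_mul_eq_one_right e3
      rw [← hmmi, mul_inv_rev, hmi, hmi']
    -- contradiction
    obtain ⟨m₁, hm₁, hm₁a⟩ := r1.1 a b
    have hm₁1 : m₁ ≠ 1 := by
      intro e
      rw [e, one_smul] at hm₁a
      exact hab hm₁a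
    obtain ⟨y, hy1, hya, hym, hform⟩ := key m₁ hm₁ hm₁1
    apply hy1
    apply FaithfulSMul.eq_of_smul_eq_smul (α := Ω)
    intro c
    obtain ⟨m, hm, hmc⟩ := r1.1 a c
    rw [one_smul, ← hmc, hform m hm]
    congr 1
    rw [mul_assoc, habel m hm m₁ hm₁, ← mul_assoc, inv_mul_cancel, one_mul]
  · -- the intersection is a non-trivial normal subgroup, hence transitive
    obtain ⟨δ', hδ'1⟩ := (Subgroup.ne_bot_iff_exists_ne_one).1 hD
    obtain ⟨δ, hδ, hδ1⟩ : ∃ δ : G, δ ∈ M₁ ⊓ M₂ ∧ δ ≠ 1 :=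
      ⟨(δ' : G), δ'.2, fun e => hδ'1 (Subtype.ext e)⟩
    obtain ⟨p, hp⟩ := exists_moved (Ω := Ω) hδ1
    have htr : ∀ c d : Ω, ∃ x ∈ M₁ ⊓ M₂, x • c = d := by
      intro c d
      by_cases hcd : c = d
      · exact ⟨1, Subgroup.one_mem _, by rw [one_smul, hcd]⟩
      · obtain ⟨n, hn, hnp, hnq⟩ := hNT p (δ • p) c d (Ne.symm hp) hcd
        refine ⟨n * δ * n⁻¹, ⟨h1N n hn δ hδ.1, h2N n hn δ hδ.2⟩, ?_⟩
        rw [mul_smul, mul_smul, ← hnp, inv_smul_smul, hnq]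
    have hle : ∀ {M : Subgroup G}, Reg (Ω := Ω) M → M₁ ⊓ M₂ ≤ M → M ≤ M₁ ⊓ M₂ := by
      intro M hM hDM m hm
      obtain ⟨x, hx, hxa⟩ := htr a (m • a)
      have := hM.eq_of_smul_eq (hDM hx) hm hxa
      rw [← this]
      exact hx
    exact le_antisymm ((hle r1 inf_le_left).trans inf_le_right)
      ((hle r2 inf_le_right).trans inf_le_left)

/-- The Frobenius kernel of a point stabiliser is transitive on the remaining points. -/
theorem Kset_transitive [Finite G] (h : ZHyp G Ω) {c p q : Ω} (hp : p ≠ c) (hq : q ≠ c) :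
    ∃ k ∈ Kset (G := G) c, k • p = q := by
  have hcp : c ≠ p := Ne.symm hp
  have hfix := h.exists_fix hcp
  obtain ⟨K, hKn, hKc, hKset, hKchar⟩ := exists_kernel h.t2 h.p3 hcp hfix
  obtain ⟨x, hxc, hxp⟩ := h.t2 c p c q hcp (Ne.symm hq)
  obtain ⟨⟨k, y⟩, hky⟩ := hKc.2 (⟨x, hxc⟩ : stabilizer G c)
  refine ⟨((k : stabilizer G c) : G), (hKchar k).1 k.2, ?_⟩
  have hy2 : (y : stabilizer G c) ∈ (stabilizer G p).subgroupOf (stabilizer G c) := y.2
  rw [Subgroup.mem_subgroupOf, mem_stabilizer_iff] at hy2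
  have e : x = ((k : stabilizer G c) : G) * ((y : stabilizer G c) : G) :=
    (congrArg Subtype.val hky).symm
  rw [← hxp, e, mul_smul, hy2]

/-- A non-trivial normal subgroup of a Zassenhaus group is doubly transitive. -/
theorem normal_two_transitive [Finite G] [Finite Ω] (h : ZHyp G Ω) {N : Subgroup G} [hN : N.Normal]
    (hN1 : N ≠ ⊥) (a b c d : Ω) (hab : a ≠ b) (hcd : c ≠ d) :
    ∃ n ∈ N, n • a = c ∧ n • b = d := by
  obtain ⟨n₁, hn₁, hn₁a⟩ := normal_transitive h.t2 hN1 a c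
  have hb' : n₁ • b ≠ c := by
    intro e
    rw [← hn₁a] at e
    exact hab (smul_left_cancel _ e).symm
  obtain ⟨k, hk, hkb⟩ := Kset_transitive h hb' (Ne.symm hcd)
  refine ⟨k * n₁, N.mul_mem (Kset_subset h hN1 c hk) hn₁, ?_, ?_⟩
  · rw [mul_smul, hn₁a]
    exact hk.1
  · rw [mul_smul, hkb]

/-- A non-trivial normal subgroup of a Zassenhaus group has non-trivial two-point stabilisers. -/
theorem normal_fix2 [Finite G] [Finite Ω] (h : ZHyp G Ω) {N : Subgroup G} [hN : N.Normal]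
    (hN1 : N ≠ ⊥) : ∃ n ∈ N, n ≠ 1 ∧ ∃ a b : Ω, a ≠ b ∧ n • a = a ∧ n • b = b := by
  by_contra hcon
  have tr : IsPretransitive N Ω := isPretransitive_of_normal h.t2 hN1
  obtain ⟨a, ha⟩ := h.noreg N hN tr
  obtain ⟨n₀, hn₀1⟩ := (Subgroup.ne_bot_iff_exists_ne_one).1 ha
  have hn₀a : ((n₀ : N) : G) • a = a := n₀.2
  have hn₀1' : ((n₀ : N) : G) ≠ 1 := fun e => hn₀1 (Subtype.ext (Subtype.ext e))
  apply no_semiregular_normal h a ⟨_, (n₀ : N).2, hn₀1', hn₀a⟩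
  intro x hxN hx1 c d hcd hxc hxd
  exact hcon ⟨x, hxN, hx1, c, d, hcd, hxc, hxd⟩

/-- A non-trivial normal subgroup of a Zassenhaus group has no regular normal subgroup. -/
theorem normal_noreg [Finite G] [Finite Ω] (h : ZHyp G Ω) {N : Subgroup G} [hN : N.Normal]
    (hN1 : N ≠ ⊥) (M₁ : Subgroup G) (hM₁N : M₁ ≤ N) (hnorm : ∀ n ∈ N, ∀ m ∈ M₁, n * m * n⁻¹ ∈ M₁)
    (hreg : Reg (Ω := Ω) M₁) : False := by
  obtain ⟨g₀, -, a, b, hab, -, -⟩ := h.fix2
  have hNT := normal_two_transitive h hN1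
  have hconj : ∀ g : G, M₁.map (MulAut.conj g).toMonoidHom = M₁ := by
    intro g
    symm
    apply reg_unique N hNT h.p3 hnorm _ hM₁N _ hreg _ hab
    · rintro n hn _ ⟨m, hm, rfl⟩
      refine ⟨(g⁻¹ * n * g) * m * (g⁻¹ * n * g)⁻¹, hnorm _ ?_ m hm, ?_⟩
      · have := hN.conj_mem n hn g⁻¹
        rwa [inv_inv] at this
      · simp only [MulEquiv.coe_toMonoidHom, MulAut.conj_apply]
        group
    · rintro _ ⟨m, hm, rfl⟩
      exact hN.conj_mem m (hM₁N hm) g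
    · constructor
      · intro c d
        obtain ⟨m, hm, hmc⟩ := hreg.1 (g⁻¹ • c) (g⁻¹ • d)
        refine ⟨g * m * g⁻¹, ⟨m, hm, rfl⟩, ?_⟩
        rw [mul_smul, mul_smul, hmc, smul_inv_smul]
      · rintro _ ⟨m, hm, rfl⟩ c hc
        simp only [MulEquiv.coe_toMonoidHom, MulAut.conj_apply] at hc ⊢
        rw [mul_smul, mul_smul, smul_eq_iff_eq_inv_smul] at hc
        have := hreg.2 m hm _ hc
        rw [this]
        group
  have hM₁n : M₁.Normal := by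
    constructor
    intro m hm g
    rw [← hconj g]
    exact ⟨m, hm, rfl⟩
  have hM₁tr : IsPretransitive M₁ Ω := by
    constructor
    intro c d
    obtain ⟨m, hm, hmc⟩ := hreg.1 c d
    exact ⟨⟨m, hm⟩, hmc⟩
  obtain ⟨c, hc⟩ := h.noreg M₁ hM₁n hM₁tr
  apply hc
  rw [eq_bot_iff]
  intro x hx
  rw [mem_stabilizer_iff] at hx
  rw [Subgroup.mem_bot]
  exact Subtype.ext (hreg.2 x x.2 c hx)

end Cfsg.Agent.Helper7.Zass
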