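import Mathlib
import Cfsg.Agent.Helper7.ZassSub

set_option autoImplicit false

/-!
The Frobenius kernel of a point stabiliser of a Zassenhaus group as a subgroup of `G`,
its order, and fixed-point counts of involutions.
-/

namespace Cfsg.Agent.Helper7.Zass

open MulAction
open scoped Pointwise

variable {G Ω : Type*} [Group G] [MulAction G Ω]

/-- Non-identity elements of `Kset a` fix only `a`. -/
theorem Kset_fix_unique {a : Ω} {x : G} (hx : x ∈ Kset a) (hx1 : x ≠ 1) {c : Ω}
    (hc : x • c = c) : c = a := by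
  rcases hx.2 with e | e
  · exact absurd e hx1
  · by_contra hca
    exact e c hca hc

variable [FaithfulSMul G Ω]

/-- The Frobenius kernel of the stabiliser of `a`, as a subgroup of `G`; it has order `n - 1`. -/
theorem exists_kernel_subgroup [Finite G] [Finite Ω] (h : ZHyp G Ω) (a : Ω) :
    ∃ Kg : Subgroup G, (Kg : Set G) = Kset a ∧ Nat.card Kg + 1 = Nat.card Ω := by
  classical
  obtain ⟨b, hb⟩ := h.exists_ne a
  have hab : a ≠ b := Ne.symm hb
  have hfix := h.exists_fix hab
  obtain ⟨K, hKn, hKc, hKset, hKchar⟩ := exists_kernel h.t2 h.p3 hab hfix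
  set Kg : Subgroup G := K.map (stabilizer G a).subtype with hKg
  have hmem : ∀ x : G, x ∈ Kg ↔ x ∈ Kset a := by
    intro x
    rw [hKg, Subgroup.mem_map]
    constructor
    · rintro ⟨y, hy, rfl⟩
      exact (hKchar y).1 hy
    · intro hx
      exact ⟨⟨x, hx.1⟩, (hKchar _).2 hx, rfl⟩
  have hset : (Kg : Set G) = Kset a := by
    ext x
    exact hmem x
  refine ⟨Kg, hset, ?_⟩
  -- `Kg` acts regularly on the complement of `a`
  have horb : orbit Kg b = {a}ᶜ := by
    ext c
    constructor
    · rintro ⟨k, rfl⟩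
      intro e
      have e' : (k : G) • b = a := e
      have hk : (k : G) ∈ Kset a := (hmem _).1 k.2
      have : (k : G) • b = (k : G) • a := by rw [e', hk.1]
      exact hb (smul_left_cancel _ this)
    · intro hc
      have hc' : c ≠ a := hc
      obtain ⟨k, hk, hkb⟩ := Kset_transitive h hb hc'
      exact ⟨⟨k, (hmem k).2 hk⟩, hkb⟩
  have hstab : stabilizer Kg b = ⊥ := by
    rw [eq_bot_iff]
    intro k hk
    rw [mem_stabilizer_iff] at hk
    rw [Subgroup.mem_bot]
    by_contra hk1
    have hk1' : (k : G) ≠ 1 := fun e => hk1 (Subtype.ext e)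
    have hkK : (k : G) ∈ Kset a := (hmem _).1 k.2
    exact hb (Kset_fix_unique hkK hk1' hk)
  have hidx := index_stabilizer Kg b
  rw [hstab, Subgroup.index_bot, horb] at hidx
  rw [hidx, Set.ncard_compl, Set.ncard_singleton]
  have : 0 < Nat.card Ω := Nat.card_pos_iff.2 ⟨⟨a⟩, inferInstance⟩
  omega

omit [FaithfulSMul G Ω] in
/-- The number of fixed points of an involution has the parity of the degree. -/
theorem card_fixedBy_mod_two [Fintype Ω] {x : G} (hx2 : x * x = 1) :
    Nat.card (fixedBy Ω x) ≡ Fintype.card Ω [MOD 2] := by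
  classical
  let f : Function.End Ω := fun y => x • y
  have hf : f ^ 2 ^ 1 = 1 := by
    rw [pow_one, pow_two]
    funext y
    show x • (x • y) = y
    rw [← mul_smul, hx2, one_smul]
  have hmod := Equiv.Perm.card_fixedPoints_modEq (p := 2) (n := 1) hf
  have e : Nat.card (fixedBy Ω x) = Fintype.card (Function.fixedPoints f) := by
    rw [← Nat.card_eq_fintype_card]
    rfl
  rw [e]
  exact hmod.symm

omit [FaithfulSMul G Ω] in
/-- A non-identity element of a group in which only the identity fixes three points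
has at most two fixed points. -/
theorem card_fixedBy_le_two [Finite Ω] (hP : P3 G Ω) {x : G} (hx1 : x ≠ 1) :
    Nat.card (fixedBy Ω x) ≤ 2 := by
  by_contra hcon
  rw [not_le, Nat.card_coe_set_eq, Set.two_lt_ncard_iff] at hcon
  obtain ⟨c, d, e, hc, hd, he, hcd, hce, hde⟩ := hcon
  exact hx1 (hP x c d e hcd hde hce hc hd he)

end Cfsg.Agent.Helper7.Zass
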