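import Mathlib
import Cfsg.Agent.Helper7.ZassKernel

set_option autoImplicit false

/-!
Counting elements of a Zassenhaus group by their number of fixed points.
-/

namespace Cfsg.Agent.Helper7.Zass

open MulAction

/-- Burnside's count for one orbit: the fixed points in an orbit, summed over the group. -/
theorem sum_card_fixed_orbit {G P : Type*} [Group G] [Fintype G] [MulAction G P] [DecidableEq P]
    (p₀ : P) (O : Finset P) (hO : (O : Set P) = orbit G p₀) :
    ∑ g : G, (O.filter (fun p => g • p = p)).card = Fintype.card G := by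
  classical
  have h1 := Finset.sum_card_bipartiteAbove_eq_sum_card_bipartiteBelow
    (s := (Finset.univ : Finset G)) (t := O) (r := fun g p => g • p = p)
  have hstab : ∀ p ∈ O, ((Finset.univ : Finset G).filter (fun g => g • p = p)).card =
      Nat.card (stabilizer G p₀) := by
    intro p hp
    have hp' : p ∈ orbit G p₀ := by
      rw [← hO]
      exact hp
    obtain ⟨x, rfl⟩ := hp'
    have e1 : ((Finset.univ : Finset G).filter (fun g => g • (x • p₀) = x • p₀)).card =
        Nat.card (stabilizer G (x • p₀)) := by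
      rw [← Nat.card_eq_finsetCard]
      apply Nat.card_congr
      refine Equiv.subtypeEquivRight ?_
      intro g
      rw [Finset.mem_filter, mem_stabilizer_iff]
      simp
    rw [e1, stabilizer_smul_eq_stabilizer_map_conj,
      Subgroup.card_map_of_injective (MulAut.conj x).injective]
  have h2 : ∑ g : G, (O.filter (fun p => g • p = p)).card =
      ∑ p ∈ O, ((Finset.univ : Finset G).filter (fun g => g • p = p)).card := h1
  rw [h2, Finset.sum_congr rfl hstab, Finset.sum_const, smul_eq_mul]
  have h3 := index_stabilizer (G := G) (x := p₀)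
  rw [← hO, Set.ncard_coe_finset] at h3
  rw [← h3, mul_comm, Subgroup.card_mul_index, Nat.card_eq_fintype_card]

variable {G Ω : Type*} [Group G] [MulAction G Ω]

/-- The orbit of a pair of distinct points under a doubly transitive group. -/
theorem orbit_pair [Fintype Ω] [DecidableEq Ω] (hT : T2 G Ω) {a b : Ω} (hab : a ≠ b) :
    (((Finset.univ : Finset Ω).offDiag : Finset (Ω × Ω)) : Set (Ω × Ω)) = orbit G (a, b) := by
  ext p
  rw [Finset.mem_coe, Finset.mem_offDiag]
  constructor
  · rintro ⟨-, -, hp⟩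
    obtain ⟨g, hga, hgb⟩ := hT a b p.1 p.2 hab hp
    refine ⟨g, ?_⟩
    show g • (a, b) = p
    rw [Prod.smul_mk, hga, hgb]
  · rintro ⟨g, rfl⟩
    refine ⟨Finset.mem_univ _, Finset.mem_univ _, ?_⟩
    show g • a ≠ g • b
    intro e
    exact hab (smul_left_cancel _ e)

/-- The order of a Zassenhaus group. -/
theorem card_eq [Fintype G] [Fintype Ω] (hT : T2 G Ω) {a b : Ω} (hab : a ≠ b) :
    Fintype.card G =
      Nat.card ↥(stabilizer G a ⊓ stabilizer G b : Subgroup G) *
        (Fintype.card Ω * Fintype.card Ω - Fintype.card Ω) := by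
  classical
  have h3 := index_stabilizer (G := G) (x := ((a, b) : Ω × Ω))
  rw [← orbit_pair hT hab, Set.ncard_coe_finset, Finset.offDiag_card, Finset.card_univ] at h3
  have hst : stabilizer G ((a, b) : Ω × Ω) = stabilizer G a ⊓ stabilizer G b := by
    ext g
    rw [mem_stabilizer_iff, Subgroup.mem_inf, mem_stabilizer_iff, mem_stabilizer_iff,
      Prod.smul_mk, Prod.mk.injEq]
  rw [← h3, ← hst, Subgroup.card_mul_index, Nat.card_eq_fintype_card]

/-- The number of fixed points of an element. -/
def nfix [Fintype Ω] [DecidableEq Ω] (g : G) : ℕ :=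
  ((Finset.univ : Finset Ω).filter (fun c => g • c = c)).card

theorem sum_nfix [Fintype G] [Fintype Ω] [DecidableEq Ω] (hT : T2 G Ω) {a b : Ω}
    (hab : a ≠ b) : ∑ g : G, nfix (Ω := Ω) g = Fintype.card G := by
  apply sum_card_fixed_orbit a
  rw [Finset.coe_univ]
  symm
  rw [Set.eq_univ_iff_forall]
  intro c
  by_cases hc : c = a
  · exact ⟨1, by rw [hc]; exact one_smul _ _⟩
  · obtain ⟨g, hga, -⟩ := hT a b c a hab hc
    exact ⟨g, hga⟩

theorem sum_nfix_sq [Fintype G] [Fintype Ω] [DecidableEq Ω] (hT : T2 G Ω) {a b : Ω}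
    (hab : a ≠ b) :
    ∑ g : G, (nfix (Ω := Ω) g * nfix (Ω := Ω) g - nfix (Ω := Ω) g) = Fintype.card G := by
  rw [← sum_card_fixed_orbit ((a, b) : Ω × Ω) _ (orbit_pair hT hab)]
  apply Finset.sum_congr rfl
  intro g _
  unfold nfix
  rw [← Finset.offDiag_card]
  congr 1
  ext p
  rw [Finset.mem_offDiag, Finset.mem_filter, Finset.mem_filter, Finset.mem_filter,
    Finset.mem_offDiag]
  have : g • p = p ↔ g • p.1 = p.1 ∧ g • p.2 = p.2 := by
    rw [← Prod.mk.injEq]
    rfl
  rw [this]
  simp only [Finset.mem_univ, true_and]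
  tauto

theorem nfix_le_two [Fintype Ω] [DecidableEq Ω] (hP : P3 G Ω) {g : G} (hg : g ≠ 1) :
    nfix (Ω := Ω) g ≤ 2 := by
  by_contra hcon
  rw [not_le] at hcon
  unfold nfix at hcon
  rw [Finset.two_lt_card] at hcon
  obtain ⟨c, hc, d, hd, e, he, hcd, hce, hde⟩ := hcon
  rw [Finset.mem_filter] at hc hd he
  exact hg (hP g c d e hcd hde hce hc.2 hd.2 he.2)

theorem nfix_one [Fintype Ω] [DecidableEq Ω] : nfix (G := G) (Ω := Ω) 1 = Fintype.card Ω := by
  unfold nfix
  rw [← Finset.card_univ]
  congr 1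
  ext c
  simp

theorem nfix_eq_zero_iff [Fintype Ω] [DecidableEq Ω] (g : G) :
    nfix (Ω := Ω) g = 0 ↔ ∀ c : Ω, g • c ≠ c := by
  unfold nfix
  rw [Finset.card_eq_zero, Finset.filter_eq_empty_iff]
  simp

/-- The number of fixed-point-free elements. -/
theorem two_mul_card_fpf [Fintype G] [Fintype Ω] [DecidableEq Ω] [DecidableEq G] (hT : T2 G Ω)
    (hP : P3 G Ω) {a b : Ω} (hab : a ≠ b) :
    2 * ((Finset.univ : Finset G).filter (fun g => ∀ c : Ω, g • c ≠ c)).card +
      Fintype.card Ω * Fintype.card Ω + 2 = Fintype.card G + 3 * Fintype.card Ω := by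
  set n := Fintype.card Ω with hn
  have hn1 : 1 ≤ n := Fintype.card_pos_iff.2 ⟨a⟩
  have hpt : ∀ g : G, 2 * (if nfix (Ω := Ω) g = 0 then 1 else 0) + 2 * nfix (Ω := Ω) g +
      (if g = 1 then n * n + 2 else 0) =
      2 + (nfix (Ω := Ω) g * nfix (Ω := Ω) g - nfix (Ω := Ω) g) +
        (if g = 1 then 3 * n else 0) := by
    intro g
    by_cases hg : g = 1
    · rw [if_pos hg, if_pos hg, hg, nfix_one, ← hn, if_neg (by omega)]
      have : n ≤ n * n := Nat.le_mul_self n
      omega
    · rw [if_neg hg, if_neg hg]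
      have h2 := nfix_le_two (Ω := Ω) hP hg
      interval_cases (nfix (Ω := Ω) g) <;> simp
  have hsum := Finset.sum_congr (s₁ := (Finset.univ : Finset G)) rfl (fun g _ => hpt g)
  rw [Finset.sum_add_distrib, Finset.sum_add_distrib, Finset.sum_add_distrib,
    Finset.sum_add_distrib, ← Finset.mul_sum, ← Finset.mul_sum, sum_nfix hT hab,
    sum_nfix_sq hT hab, Finset.sum_ite_eq' Finset.univ (1 : G), Finset.sum_ite_eq' Finset.univ (1 : G),
    if_pos (Finset.mem_univ _), if_pos (Finset.mem_univ _), Finset.sum_const, Finset.card_univ,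
    smul_eq_mul, ← Finset.card_filter] at hsum
  have hfilt : ((Finset.univ : Finset G).filter (fun g => nfix (Ω := Ω) g = 0)) =
      ((Finset.univ : Finset G).filter (fun g => ∀ c : Ω, g • c ≠ c)) := by
    ext g
    rw [Finset.mem_filter, Finset.mem_filter, nfix_eq_zero_iff]
  rw [hfilt] at hsum
  omega

end Cfsg.Agent.Helper7.Zass
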