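import Mathlib

set_option autoImplicit false
set_option linter.unusedSectionVars false
set_option linter.style.haveILetI false

/-!
The norm-one group of the quadratic extension `QuadraticAlgebra F a b` of a finite field `F`:
it is cyclic of order `|F| + 1`.
-/

namespace Cfsg.Agent.Helper7.NormOne

open QuadraticAlgebra

variable {F : Type*} [Field F] [Fintype F] {a b : F}

/-- Finiteness of the quadratic algebra over a finite field. -/
noncomputable instance instFintypeQuadAlg : Fintype (QuadraticAlgebra F a b) :=
  Fintype.ofEquiv _ (equivProd a b).symm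

theorem card_quadAlg : Fintype.card (QuadraticAlgebra F a b) = Fintype.card F ^ 2 := by
  rw [Fintype.card_congr (equivProd a b), Fintype.card_prod, sq]

/-- The `q`-power map is a ring homomorphism. -/
theorem exists_frob : ∃ φ : QuadraticAlgebra F a b →+* QuadraticAlgebra F a b,
    ∀ z, φ z = z ^ Fintype.card F := by
  obtain ⟨p, hp⟩ := CharP.exists F
  haveI : Fact p.Prime := ⟨CharP.char_is_prime F p⟩
  haveI : CharP (QuadraticAlgebra F a b) p :=
    charP_of_injective_algebraMap (algebraMap F (QuadraticAlgebra F a b)).injective p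
  haveI : ExpChar (QuadraticAlgebra F a b) p := ExpChar.prime (Fact.out : p.Prime)
  obtain ⟨k, -, hk⟩ := FiniteField.card F p
  refine ⟨iterateFrobenius (QuadraticAlgebra F a b) p k, fun z => ?_⟩
  rw [iterateFrobenius_def, hk]

theorem eq_re_add_im_mul_omega (z : QuadraticAlgebra F a b) :
    z = algebraMap F _ z.re + algebraMap F _ z.im * ω := by
  ext <;> simp

theorem algebraMap_pow_card (r : F) :
    (algebraMap F (QuadraticAlgebra F a b) r) ^ Fintype.card F = algebraMap F _ r := by
  rw [← map_pow, FiniteField.pow_card]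

variable [Hab : Fact (∀ r, r ^ 2 ≠ a + b * r)]

/-- `ω` is not fixed by the `q`-power map. -/
theorem omega_pow_card_ne : (ω : QuadraticAlgebra F a b) ^ Fintype.card F ≠ ω := by
  classical
  intro h
  set q := Fintype.card F with hq
  obtain ⟨φ, hφ⟩ := exists_frob (F := F) (a := a) (b := b)
  have hall : ∀ z : QuadraticAlgebra F a b, z ^ q = z := by
    intro z
    rw [← hφ]
    conv_lhs => rw [eq_re_add_im_mul_omega z]
    rw [map_add, map_mul, hφ, hφ, hφ, h, algebraMap_pow_card, algebraMap_pow_card]
    exact (eq_re_add_im_mul_omega z).symm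
  -- a generator of the unit group has order q^2 - 1
  obtain ⟨ζ, hζ⟩ := IsCyclic.exists_generator (α := (QuadraticAlgebra F a b)ˣ)
  have hord : orderOf ζ = q ^ 2 - 1 := by
    rw [orderOf_eq_card_of_forall_mem_zpowers hζ, Nat.card_eq_fintype_card, Fintype.card_units,
      card_quadAlg]
  have h1 : ζ ^ (q - 1) = 1 := by
    apply Units.ext
    rw [Units.val_pow_eq_pow_val, Units.val_one]
    have h2 := hall (ζ : QuadraticAlgebra F a b)
    have hqpos : 0 < q := Fintype.card_pos
    have : (ζ : QuadraticAlgebra F a b) ^ (q - 1) * ζ = 1 * ζ := by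
      rw [← pow_succ, Nat.sub_add_cancel hqpos, h2, one_mul]
    exact mul_right_cancel₀ ζ.ne_zero this
  have hdvd := orderOf_dvd_of_pow_eq_one h1
  rw [hord] at hdvd
  have hq2 : 2 ≤ q := Fintype.one_lt_card
  have hlt : q - 1 < q ^ 2 - 1 := by
    have : q < q ^ 2 := by nlinarith
    omega
  have hpos : 0 < q - 1 := by omega
  exact absurd (Nat.le_of_dvd hpos hdvd) (by omega)

/-- The `q`-power of `ω` is its conjugate. -/
theorem omega_pow_card : (ω : QuadraticAlgebra F a b) ^ Fintype.card F = star ω := by
  obtain ⟨φ, hφ⟩ := exists_frob (F := F) (a := a) (b := b)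
  set w : QuadraticAlgebra F a b := ω ^ Fintype.card F with hw
  have h1 : w * w = algebraMap F _ a + algebraMap F _ b * w := by
    have := congrArg φ (omega_mul_omega_eq_algebraMap (R := F) (a := a) (b := b))
    rw [map_mul, map_add, map_mul, hφ, hφ, hφ, algebraMap_pow_card, algebraMap_pow_card] at this
    exact this
  have h2 : (ω : QuadraticAlgebra F a b) + star ω = algebraMap F _ b := by
    ext <;> simp
  have h3 : (ω : QuadraticAlgebra F a b) * star ω = - algebraMap F _ a := by
    ext <;> simp
  have h4 : (w - ω) * (w - star ω) = 0 := by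
    have : (w - ω) * (w - star ω) = w * w - (ω + star ω) * w + ω * star ω := by ring
    rw [this, h1, h2, h3]; ring
  rcases mul_eq_zero.mp h4 with h | h
  · exact absurd (sub_eq_zero.mp h) omega_pow_card_ne
  · exact sub_eq_zero.mp h

/-- The `q`-power map is conjugation. -/
theorem pow_card_eq_star (z : QuadraticAlgebra F a b) : z ^ Fintype.card F = star z := by
  obtain ⟨φ, hφ⟩ := exists_frob (F := F) (a := a) (b := b)
  rw [← hφ]
  conv_lhs => rw [eq_re_add_im_mul_omega z]
  rw [map_add, map_mul, hφ, hφ, hφ, omega_pow_card, algebraMap_pow_card, algebraMap_pow_card]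
  ext <;> simp [mul_comm]

/-- The norm is the `(q+1)`-st power. -/
theorem algebraMap_norm_eq_pow (z : QuadraticAlgebra F a b) :
    algebraMap F _ (norm z) = z ^ (Fintype.card F + 1) := by
  rw [algebraMap_norm_eq_mul_star, pow_succ', pow_card_eq_star]

theorem norm_eq_one_iff (z : QuadraticAlgebra F a b) :
    norm z = 1 ↔ z ^ (Fintype.card F + 1) = 1 := by
  rw [← algebraMap_norm_eq_pow]
  constructor
  · intro h; rw [h, map_one]
  · intro h
    have : algebraMap F (QuadraticAlgebra F a b) (norm z) = algebraMap F _ 1 := by rw [h, map_one]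
    exact (algebraMap F (QuadraticAlgebra F a b)).injective this

/-- The norm-one subgroup. -/
noncomputable def normOne (F : Type*) [Field F] [Fintype F] (a b : F)
    [Fact (∀ r, r ^ 2 ≠ a + b * r)] : Subgroup (QuadraticAlgebra F a b)ˣ :=
  (powMonoidHom (Fintype.card F + 1) : (QuadraticAlgebra F a b)ˣ →* _).ker

theorem mem_normOne_iff (u : (QuadraticAlgebra F a b)ˣ) :
    u ∈ normOne F a b ↔ norm (u : QuadraticAlgebra F a b) = 1 := by
  rw [norm_eq_one_iff]
  unfold normOne
  rw [MonoidHom.mem_ker, powMonoidHom_apply, ← Units.val_pow_eq_pow_val, Units.ext_iff, Units.val_one]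

theorem card_normOne : Nat.card (normOne F a b) = Fintype.card F + 1 := by
  classical
  unfold normOne
  rw [IsCyclic.card_powMonoidHom_ker, Nat.card_eq_fintype_card, Fintype.card_units, card_quadAlg]
  have hq : 1 ≤ Fintype.card F := Fintype.card_pos
  have : Fintype.card F ^ 2 - 1 = (Fintype.card F - 1) * (Fintype.card F + 1) := by
    obtain ⟨k, hk⟩ : ∃ k, Fintype.card F = k + 1 := ⟨Fintype.card F - 1, by omega⟩
    rw [hk]
    simp only [Nat.add_sub_cancel]
    ring_nf
    omega
  rw [this]
  exact Nat.gcd_mul_left_left _ _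

instance isCyclic_normOne : IsCyclic (normOne F a b) := by
  unfold normOne; infer_instance

end Cfsg.Agent.Helper7.NormOne
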