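import Mathlib

set_option autoImplicit false

/-!
Data for a subgroup of order 120 (the binary icosahedral group) of `SL_2(9)`, with the field of
nine elements modelled as `QuadraticAlgebra (ZMod 3) (-1) 0`.
-/

namespace Cfsg.Agent.Helper7.SL29

/-- The field with nine elements. -/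
abbrev K9 := QuadraticAlgebra (ZMod 3) (-1) 0

/-- Two by two matrices as tuples. -/
abbrev T := K9 × K9 × K9 × K9

/-- The identity. -/
def one : T := (⟨1, 0⟩, ⟨0, 0⟩, ⟨0, 0⟩, ⟨1, 0⟩)
/-- Minus the identity. -/
def negone : T := (⟨2, 0⟩, ⟨0, 0⟩, ⟨0, 0⟩, ⟨2, 0⟩)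

/-- The product. -/
def mulT (x y : T) : T :=
  (x.1 * y.1 + x.2.1 * y.2.2.1, x.1 * y.2.1 + x.2.1 * y.2.2.2,
   x.2.2.1 * y.1 + x.2.2.2 * y.2.2.1, x.2.2.1 * y.2.1 + x.2.2.2 * y.2.2.2)

/-- The adjugate. -/
def adjT (x : T) : T := (x.2.2.2, -x.2.1, -x.2.2.1, x.1)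

/-- The determinant. -/
def detT (x : T) : K9 := x.1 * x.2.2.2 - x.2.1 * x.2.2.1

/-- Conjugation. -/
def conjT (g x : T) : T := mulT (mulT g x) (adjT g)

/-- The first generator. -/
def gA : T := (⟨0, 1⟩, ⟨2, 1⟩, ⟨0, 2⟩, ⟨1, 1⟩)
/-- The second generator. -/
def gB : T := (⟨2, 1⟩, ⟨0, 2⟩, ⟨2, 0⟩, ⟨0, 2⟩)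
/-- The first conjugator. -/
def c1 : T := (⟨0, 2⟩, ⟨0, 2⟩, ⟨2, 2⟩, ⟨2, 0⟩)
/-- The second conjugator. -/
def c2 : T := (⟨0, 1⟩, ⟨0, 1⟩, ⟨0, 2⟩, ⟨0, 1⟩)
/-- The third conjugator. -/
def c3 : T := (⟨1, 0⟩, ⟨0, 1⟩, ⟨1, 0⟩, ⟨1, 1⟩)

/-- Elements with their parents in a breadth first search, in reverse order. -/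
def W : List (T × T) := [
  ((⟨1, 0⟩, ⟨2, 0⟩, ⟨2, 0⟩, ⟨2, 0⟩), (⟨1, 0⟩, ⟨1, 1⟩, ⟨2, 1⟩, ⟨2, 0⟩)),
  ((⟨2, 0⟩, ⟨2, 2⟩, ⟨1, 2⟩, ⟨1, 0⟩), (⟨2, 0⟩, ⟨2, 2⟩, ⟨0, 2⟩, ⟨0, 2⟩)),
  ((⟨2, 0⟩, ⟨1, 0⟩, ⟨1, 0⟩, ⟨1, 0⟩), (⟨1, 1⟩, ⟨2, 0⟩, ⟨1, 2⟩, ⟨2, 2⟩)),
  ((⟨0, 2⟩, ⟨0, 0⟩, ⟨1, 2⟩, ⟨0, 1⟩), (⟨2, 0⟩, ⟨1, 0⟩, ⟨2, 0⟩, ⟨0, 0⟩)),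
  ((⟨2, 1⟩, ⟨1, 1⟩, ⟨2, 0⟩, ⟨1, 2⟩), (⟨2, 2⟩, ⟨0, 2⟩, ⟨1, 0⟩, ⟨0, 1⟩)),
  ((⟨0, 2⟩, ⟨1, 0⟩, ⟨0, 0⟩, ⟨0, 1⟩), (⟨0, 0⟩, ⟨0, 1⟩, ⟨0, 1⟩, ⟨2, 2⟩)),
  ((⟨2, 2⟩, ⟨1, 0⟩, ⟨2, 1⟩, ⟨1, 1⟩), (⟨0, 2⟩, ⟨1, 1⟩, ⟨0, 1⟩, ⟨2, 0⟩)),
  ((⟨0, 2⟩, ⟨0, 0⟩, ⟨1, 1⟩, ⟨0, 1⟩), (⟨1, 2⟩, ⟨2, 2⟩, ⟨2, 2⟩, ⟨1, 0⟩)),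
  ((⟨0, 1⟩, ⟨2, 0⟩, ⟨0, 0⟩, ⟨0, 2⟩), (⟨0, 0⟩, ⟨0, 2⟩, ⟨0, 2⟩, ⟨1, 1⟩)),
  ((⟨1, 0⟩, ⟨1, 1⟩, ⟨2, 1⟩, ⟨2, 0⟩), (⟨1, 0⟩, ⟨1, 1⟩, ⟨0, 1⟩, ⟨0, 1⟩)),
  ((⟨0, 1⟩, ⟨0, 0⟩, ⟨2, 1⟩, ⟨0, 2⟩), (⟨1, 0⟩, ⟨2, 0⟩, ⟨1, 0⟩, ⟨0, 0⟩)),
  ((⟨1, 2⟩, ⟨2, 2⟩, ⟨1, 0⟩, ⟨2, 1⟩), (⟨1, 1⟩, ⟨0, 1⟩, ⟨2, 0⟩, ⟨0, 2⟩)),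
  ((⟨2, 0⟩, ⟨2, 2⟩, ⟨0, 2⟩, ⟨0, 2⟩), (⟨2, 0⟩, ⟨2, 2⟩, ⟨2, 2⟩, ⟨2, 1⟩)),
  ((⟨1, 1⟩, ⟨2, 0⟩, ⟨1, 2⟩, ⟨2, 2⟩), (⟨0, 1⟩, ⟨2, 2⟩, ⟨0, 2⟩, ⟨1, 0⟩)),
  ((⟨2, 0⟩, ⟨1, 0⟩, ⟨2, 0⟩, ⟨0, 0⟩), (⟨1, 1⟩, ⟨2, 0⟩, ⟨0, 1⟩, ⟨0, 2⟩)),
  ((⟨2, 2⟩, ⟨0, 2⟩, ⟨1, 0⟩, ⟨0, 1⟩), (⟨2, 0⟩, ⟨2, 0⟩, ⟨0, 0⟩, ⟨2, 0⟩)),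
  ((⟨0, 0⟩, ⟨0, 1⟩, ⟨0, 1⟩, ⟨2, 2⟩), (⟨2, 0⟩, ⟨2, 0⟩, ⟨0, 0⟩, ⟨2, 0⟩)),
  ((⟨0, 1⟩, ⟨0, 0⟩, ⟨2, 2⟩, ⟨0, 2⟩), (⟨2, 1⟩, ⟨1, 1⟩, ⟨1, 1⟩, ⟨2, 0⟩)),
  ((⟨0, 2⟩, ⟨1, 1⟩, ⟨0, 1⟩, ⟨2, 0⟩), (⟨0, 0⟩, ⟨1, 0⟩, ⟨2, 0⟩, ⟨1, 0⟩)),
  ((⟨1, 2⟩, ⟨2, 2⟩, ⟨2, 2⟩, ⟨1, 0⟩), (⟨1, 1⟩, ⟨0, 1⟩, ⟨0, 1⟩, ⟨0, 0⟩)),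
  ((⟨0, 2⟩, ⟨1, 0⟩, ⟨0, 1⟩, ⟨2, 1⟩), (⟨0, 0⟩, ⟨0, 1⟩, ⟨0, 1⟩, ⟨2, 1⟩)),
  ((⟨0, 1⟩, ⟨2, 0⟩, ⟨0, 1⟩, ⟨2, 2⟩), (⟨0, 0⟩, ⟨0, 2⟩, ⟨0, 2⟩, ⟨1, 0⟩)),
  ((⟨1, 0⟩, ⟨2, 0⟩, ⟨0, 0⟩, ⟨1, 0⟩), (⟨2, 2⟩, ⟨1, 0⟩, ⟨1, 0⟩, ⟨2, 1⟩)),
  ((⟨0, 0⟩, ⟨0, 2⟩, ⟨0, 2⟩, ⟨1, 1⟩), (⟨1, 0⟩, ⟨1, 0⟩, ⟨0, 0⟩, ⟨1, 0⟩)),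
  ((⟨1, 0⟩, ⟨1, 1⟩, ⟨0, 1⟩, ⟨0, 1⟩), (⟨1, 0⟩, ⟨1, 1⟩, ⟨1, 1⟩, ⟨1, 2⟩)),
  ((⟨1, 0⟩, ⟨2, 0⟩, ⟨1, 0⟩, ⟨0, 0⟩), (⟨2, 2⟩, ⟨1, 0⟩, ⟨0, 2⟩, ⟨0, 1⟩)),
  ((⟨1, 1⟩, ⟨0, 1⟩, ⟨2, 0⟩, ⟨0, 2⟩), (⟨2, 2⟩, ⟨1, 0⟩, ⟨0, 2⟩, ⟨0, 1⟩)),
  ((⟨2, 0⟩, ⟨2, 2⟩, ⟨2, 2⟩, ⟨2, 1⟩), (⟨0, 1⟩, ⟨0, 0⟩, ⟨2, 0⟩, ⟨0, 2⟩)),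
  ((⟨0, 1⟩, ⟨2, 2⟩, ⟨0, 2⟩, ⟨1, 0⟩), (⟨0, 0⟩, ⟨2, 0⟩, ⟨1, 0⟩, ⟨2, 0⟩)),
  ((⟨1, 1⟩, ⟨2, 0⟩, ⟨0, 1⟩, ⟨0, 2⟩), (⟨0, 1⟩, ⟨2, 2⟩, ⟨0, 1⟩, ⟨2, 1⟩)),
  ((⟨2, 0⟩, ⟨2, 0⟩, ⟨0, 0⟩, ⟨2, 0⟩), (⟨2, 1⟩, ⟨2, 0⟩, ⟨0, 2⟩, ⟨0, 2⟩)),
  ((⟨2, 1⟩, ⟨1, 1⟩, ⟨1, 1⟩, ⟨2, 0⟩), (⟨2, 2⟩, ⟨0, 2⟩, ⟨0, 2⟩, ⟨0, 0⟩)),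
  ((⟨0, 0⟩, ⟨1, 0⟩, ⟨2, 0⟩, ⟨1, 0⟩), (⟨1, 0⟩, ⟨2, 1⟩, ⟨1, 1⟩, ⟨2, 0⟩)),
  ((⟨0, 2⟩, ⟨1, 0⟩, ⟨0, 2⟩, ⟨1, 1⟩), (⟨0, 0⟩, ⟨0, 1⟩, ⟨0, 1⟩, ⟨2, 0⟩)),
  ((⟨2, 0⟩, ⟨1, 0⟩, ⟨0, 0⟩, ⟨2, 0⟩), (⟨1, 1⟩, ⟨2, 0⟩, ⟨2, 0⟩, ⟨1, 2⟩)),
  ((⟨0, 2⟩, ⟨0, 2⟩, ⟨1, 0⟩, ⟨1, 1⟩), (⟨2, 2⟩, ⟨2, 1⟩, ⟨1, 0⟩, ⟨1, 1⟩)),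
  ((⟨1, 1⟩, ⟨0, 1⟩, ⟨0, 1⟩, ⟨0, 0⟩), (⟨1, 0⟩, ⟨1, 0⟩, ⟨1, 0⟩, ⟨2, 0⟩)),
  ((⟨2, 2⟩, ⟨0, 2⟩, ⟨2, 1⟩, ⟨0, 2⟩), (⟨2, 0⟩, ⟨2, 0⟩, ⟨1, 0⟩, ⟨0, 0⟩)),
  ((⟨0, 0⟩, ⟨0, 1⟩, ⟨0, 1⟩, ⟨2, 1⟩), (⟨2, 0⟩, ⟨2, 0⟩, ⟨1, 0⟩, ⟨0, 0⟩)),
  ((⟨1, 0⟩, ⟨2, 1⟩, ⟨2, 1⟩, ⟨1, 1⟩), (⟨2, 0⟩, ⟨0, 2⟩, ⟨2, 2⟩, ⟨0, 2⟩)),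
  ((⟨0, 0⟩, ⟨0, 2⟩, ⟨0, 2⟩, ⟨1, 0⟩), (⟨0, 2⟩, ⟨1, 1⟩, ⟨0, 0⟩, ⟨0, 1⟩)),
  ((⟨2, 2⟩, ⟨1, 0⟩, ⟨1, 0⟩, ⟨2, 1⟩), (⟨0, 2⟩, ⟨1, 1⟩, ⟨0, 0⟩, ⟨0, 1⟩)),
  ((⟨1, 0⟩, ⟨1, 0⟩, ⟨0, 0⟩, ⟨1, 0⟩), (⟨1, 2⟩, ⟨1, 0⟩, ⟨0, 1⟩, ⟨0, 1⟩)),
  ((⟨1, 0⟩, ⟨1, 1⟩, ⟨1, 1⟩, ⟨1, 2⟩), (⟨0, 2⟩, ⟨0, 0⟩, ⟨1, 0⟩, ⟨0, 1⟩)),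
  ((⟨2, 2⟩, ⟨1, 0⟩, ⟨0, 2⟩, ⟨0, 1⟩), (⟨0, 2⟩, ⟨1, 1⟩, ⟨0, 2⟩, ⟨1, 2⟩)),
  ((⟨0, 1⟩, ⟨0, 0⟩, ⟨2, 0⟩, ⟨0, 2⟩), (⟨2, 1⟩, ⟨1, 1⟩, ⟨0, 2⟩, ⟨0, 1⟩)),
  ((⟨0, 0⟩, ⟨2, 0⟩, ⟨1, 0⟩, ⟨2, 0⟩), (⟨2, 0⟩, ⟨1, 2⟩, ⟨2, 2⟩, ⟨1, 0⟩)),
  ((⟨0, 1⟩, ⟨2, 2⟩, ⟨0, 1⟩, ⟨2, 1⟩), (⟨0, 0⟩, ⟨2, 0⟩, ⟨1, 0⟩, ⟨0, 0⟩)),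
  ((⟨2, 1⟩, ⟨2, 0⟩, ⟨0, 2⟩, ⟨0, 2⟩), (⟨0, 1⟩, ⟨0, 1⟩, ⟨2, 2⟩, ⟨2, 1⟩)),
  ((⟨0, 1⟩, ⟨0, 1⟩, ⟨2, 0⟩, ⟨2, 2⟩), (⟨1, 1⟩, ⟨1, 2⟩, ⟨2, 0⟩, ⟨2, 2⟩)),
  ((⟨2, 2⟩, ⟨0, 2⟩, ⟨0, 2⟩, ⟨0, 0⟩), (⟨2, 0⟩, ⟨2, 0⟩, ⟨2, 0⟩, ⟨1, 0⟩)),
  ((⟨2, 1⟩, ⟨0, 2⟩, ⟨1, 1⟩, ⟨0, 1⟩), (⟨1, 0⟩, ⟨0, 0⟩, ⟨1, 0⟩, ⟨1, 0⟩)),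
  ((⟨1, 0⟩, ⟨2, 1⟩, ⟨1, 1⟩, ⟨2, 0⟩), (⟨2, 0⟩, ⟨0, 2⟩, ⟨0, 2⟩, ⟨0, 0⟩)),
  ((⟨0, 0⟩, ⟨0, 1⟩, ⟨0, 1⟩, ⟨2, 0⟩), (⟨0, 1⟩, ⟨2, 2⟩, ⟨0, 0⟩, ⟨0, 2⟩)),
  ((⟨1, 1⟩, ⟨2, 0⟩, ⟨2, 0⟩, ⟨1, 2⟩), (⟨0, 1⟩, ⟨2, 2⟩, ⟨0, 0⟩, ⟨0, 2⟩)),
  ((⟨1, 0⟩, ⟨0, 0⟩, ⟨2, 0⟩, ⟨1, 0⟩), (⟨0, 2⟩, ⟨0, 1⟩, ⟨1, 1⟩, ⟨2, 0⟩)),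
  ((⟨2, 2⟩, ⟨2, 1⟩, ⟨1, 0⟩, ⟨1, 1⟩), (⟨1, 2⟩, ⟨1, 0⟩, ⟨1, 0⟩, ⟨1, 1⟩)),
  ((⟨1, 0⟩, ⟨1, 0⟩, ⟨1, 0⟩, ⟨2, 0⟩), (⟨1, 2⟩, ⟨1, 0⟩, ⟨1, 0⟩, ⟨1, 1⟩)),
  ((⟨2, 0⟩, ⟨2, 0⟩, ⟨1, 0⟩, ⟨0, 0⟩), (⟨2, 1⟩, ⟨2, 0⟩, ⟨1, 1⟩, ⟨1, 2⟩)),
  ((⟨2, 0⟩, ⟨0, 2⟩, ⟨2, 2⟩, ⟨0, 2⟩), (⟨0, 0⟩, ⟨1, 0⟩, ⟨2, 0⟩, ⟨2, 0⟩)),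
  ((⟨0, 2⟩, ⟨1, 1⟩, ⟨0, 0⟩, ⟨0, 1⟩), (⟨0, 0⟩, ⟨1, 0⟩, ⟨2, 0⟩, ⟨2, 0⟩)),
  ((⟨1, 2⟩, ⟨1, 0⟩, ⟨0, 1⟩, ⟨0, 1⟩), (⟨0, 2⟩, ⟨0, 2⟩, ⟨1, 1⟩, ⟨1, 2⟩)),
  ((⟨0, 2⟩, ⟨0, 0⟩, ⟨1, 0⟩, ⟨0, 1⟩), (⟨1, 2⟩, ⟨2, 2⟩, ⟨0, 1⟩, ⟨0, 2⟩)),
  ((⟨0, 2⟩, ⟨1, 1⟩, ⟨0, 2⟩, ⟨1, 2⟩), (⟨0, 1⟩, ⟨2, 0⟩, ⟨0, 2⟩, ⟨1, 2⟩)),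
  ((⟨2, 1⟩, ⟨1, 1⟩, ⟨0, 2⟩, ⟨0, 1⟩), (⟨0, 1⟩, ⟨2, 0⟩, ⟨0, 2⟩, ⟨1, 2⟩)),
  ((⟨1, 2⟩, ⟨0, 1⟩, ⟨2, 2⟩, ⟨0, 2⟩), (⟨2, 0⟩, ⟨0, 0⟩, ⟨2, 0⟩, ⟨2, 0⟩)),
  ((⟨2, 0⟩, ⟨1, 2⟩, ⟨2, 2⟩, ⟨1, 0⟩), (⟨1, 0⟩, ⟨0, 1⟩, ⟨0, 1⟩, ⟨0, 0⟩)),
  ((⟨0, 0⟩, ⟨2, 0⟩, ⟨1, 0⟩, ⟨0, 0⟩), (⟨2, 0⟩, ⟨1, 2⟩, ⟨0, 2⟩, ⟨0, 1⟩)),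
  ((⟨0, 1⟩, ⟨0, 1⟩, ⟨2, 2⟩, ⟨2, 1⟩), (⟨1, 1⟩, ⟨1, 2⟩, ⟨1, 2⟩, ⟨1, 0⟩)),
  ((⟨1, 1⟩, ⟨1, 2⟩, ⟨2, 0⟩, ⟨2, 2⟩), (⟨2, 1⟩, ⟨2, 0⟩, ⟨2, 0⟩, ⟨2, 2⟩)),
  ((⟨2, 0⟩, ⟨2, 0⟩, ⟨2, 0⟩, ⟨1, 0⟩), (⟨2, 1⟩, ⟨2, 0⟩, ⟨2, 0⟩, ⟨2, 2⟩)),
  ((⟨0, 2⟩, ⟨1, 2⟩, ⟨0, 0⟩, ⟨0, 1⟩), (⟨0, 2⟩, ⟨1, 2⟩, ⟨0, 1⟩, ⟨2, 2⟩)),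
  ((⟨1, 0⟩, ⟨0, 0⟩, ⟨1, 0⟩, ⟨1, 0⟩), (⟨0, 2⟩, ⟨0, 1⟩, ⟨1, 2⟩, ⟨2, 2⟩)),
  ((⟨2, 0⟩, ⟨0, 2⟩, ⟨0, 2⟩, ⟨0, 0⟩), (⟨0, 2⟩, ⟨0, 1⟩, ⟨1, 2⟩, ⟨2, 2⟩)),
  ((⟨0, 1⟩, ⟨2, 2⟩, ⟨0, 0⟩, ⟨0, 2⟩), (⟨0, 0⟩, ⟨2, 0⟩, ⟨1, 0⟩, ⟨1, 0⟩)),
  ((⟨0, 2⟩, ⟨0, 1⟩, ⟨1, 1⟩, ⟨2, 0⟩), (⟨2, 1⟩, ⟨0, 2⟩, ⟨0, 2⟩, ⟨0, 0⟩)),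
  ((⟨1, 2⟩, ⟨1, 0⟩, ⟨1, 0⟩, ⟨1, 1⟩), (⟨2, 1⟩, ⟨0, 2⟩, ⟨0, 2⟩, ⟨0, 0⟩)),
  ((⟨2, 1⟩, ⟨2, 0⟩, ⟨1, 1⟩, ⟨1, 2⟩), (⟨0, 1⟩, ⟨0, 1⟩, ⟨2, 1⟩, ⟨2, 0⟩)),
  ((⟨0, 0⟩, ⟨1, 0⟩, ⟨2, 0⟩, ⟨2, 0⟩), (⟨0, 1⟩, ⟨0, 1⟩, ⟨2, 1⟩, ⟨2, 0⟩)),
  ((⟨0, 0⟩, ⟨1, 0⟩, ⟨2, 0⟩, ⟨0, 0⟩), (⟨1, 0⟩, ⟨2, 1⟩, ⟨0, 1⟩, ⟨0, 2⟩)),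
  ((⟨0, 2⟩, ⟨0, 2⟩, ⟨1, 1⟩, ⟨1, 2⟩), (⟨2, 2⟩, ⟨2, 1⟩, ⟨2, 1⟩, ⟨2, 0⟩)),
  ((⟨1, 2⟩, ⟨2, 2⟩, ⟨0, 1⟩, ⟨0, 2⟩), (⟨1, 1⟩, ⟨0, 1⟩, ⟨1, 2⟩, ⟨0, 1⟩)),
  ((⟨0, 1⟩, ⟨2, 0⟩, ⟨0, 2⟩, ⟨1, 2⟩), (⟨0, 0⟩, ⟨0, 2⟩, ⟨0, 2⟩, ⟨1, 2⟩)),
  ((⟨2, 0⟩, ⟨0, 0⟩, ⟨2, 0⟩, ⟨2, 0⟩), (⟨0, 1⟩, ⟨0, 2⟩, ⟨2, 1⟩, ⟨1, 1⟩)),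
  ((⟨1, 0⟩, ⟨0, 1⟩, ⟨0, 1⟩, ⟨0, 0⟩), (⟨0, 1⟩, ⟨0, 2⟩, ⟨2, 1⟩, ⟨1, 1⟩)),
  ((⟨1, 2⟩, ⟨0, 1⟩, ⟨1, 0⟩, ⟨0, 1⟩), (⟨2, 0⟩, ⟨0, 0⟩, ⟨0, 0⟩, ⟨2, 0⟩)),
  ((⟨2, 0⟩, ⟨1, 2⟩, ⟨0, 2⟩, ⟨0, 1⟩), (⟨1, 0⟩, ⟨0, 1⟩, ⟨2, 1⟩, ⟨0, 2⟩)),
  ((⟨1, 1⟩, ⟨1, 2⟩, ⟨1, 2⟩, ⟨1, 0⟩), (⟨1, 0⟩, ⟨0, 1⟩, ⟨2, 1⟩, ⟨0, 2⟩)),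
  ((⟨2, 1⟩, ⟨2, 0⟩, ⟨2, 0⟩, ⟨2, 2⟩), (⟨1, 2⟩, ⟨0, 1⟩, ⟨0, 1⟩, ⟨0, 0⟩)),
  ((⟨0, 2⟩, ⟨1, 2⟩, ⟨0, 1⟩, ⟨2, 2⟩), (⟨0, 2⟩, ⟨1, 2⟩, ⟨0, 2⟩, ⟨1, 0⟩)),
  ((⟨0, 2⟩, ⟨0, 1⟩, ⟨1, 2⟩, ⟨2, 2⟩), (⟨0, 2⟩, ⟨1, 2⟩, ⟨0, 2⟩, ⟨1, 0⟩)),
  ((⟨0, 0⟩, ⟨2, 0⟩, ⟨1, 0⟩, ⟨1, 0⟩), (⟨2, 0⟩, ⟨1, 2⟩, ⟨1, 2⟩, ⟨2, 2⟩)),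
  ((⟨2, 1⟩, ⟨0, 2⟩, ⟨0, 2⟩, ⟨0, 0⟩), (⟨2, 0⟩, ⟨1, 2⟩, ⟨1, 2⟩, ⟨2, 2⟩)),
  ((⟨0, 1⟩, ⟨0, 1⟩, ⟨2, 1⟩, ⟨2, 0⟩), (⟨1, 1⟩, ⟨1, 2⟩, ⟨0, 1⟩, ⟨0, 1⟩)),
  ((⟨1, 0⟩, ⟨2, 1⟩, ⟨0, 1⟩, ⟨0, 2⟩), (⟨2, 0⟩, ⟨0, 2⟩, ⟨1, 2⟩, ⟨0, 1⟩)),
  ((⟨2, 2⟩, ⟨2, 1⟩, ⟨2, 1⟩, ⟨2, 0⟩), (⟨2, 0⟩, ⟨0, 2⟩, ⟨1, 2⟩, ⟨0, 1⟩)),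
  ((⟨0, 2⟩, ⟨0, 2⟩, ⟨1, 2⟩, ⟨1, 0⟩), (⟨2, 2⟩, ⟨2, 1⟩, ⟨0, 2⟩, ⟨0, 2⟩)),
  ((⟨1, 1⟩, ⟨0, 1⟩, ⟨1, 2⟩, ⟨0, 1⟩), (⟨1, 0⟩, ⟨1, 0⟩, ⟨2, 0⟩, ⟨0, 0⟩)),
  ((⟨0, 0⟩, ⟨0, 2⟩, ⟨0, 2⟩, ⟨1, 2⟩), (⟨1, 0⟩, ⟨1, 0⟩, ⟨2, 0⟩, ⟨0, 0⟩)),
  ((⟨0, 1⟩, ⟨0, 2⟩, ⟨2, 1⟩, ⟨1, 1⟩), (⟨0, 1⟩, ⟨2, 1⟩, ⟨0, 1⟩, ⟨2, 0⟩)),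
  ((⟨2, 0⟩, ⟨0, 0⟩, ⟨0, 0⟩, ⟨2, 0⟩), (⟨0, 1⟩, ⟨0, 2⟩, ⟨2, 0⟩, ⟨1, 2⟩)),
  ((⟨1, 0⟩, ⟨0, 1⟩, ⟨2, 1⟩, ⟨0, 2⟩), (⟨0, 1⟩, ⟨0, 2⟩, ⟨2, 0⟩, ⟨1, 2⟩)),
  ((⟨1, 2⟩, ⟨0, 1⟩, ⟨0, 1⟩, ⟨0, 0⟩), (⟨2, 0⟩, ⟨0, 0⟩, ⟨1, 0⟩, ⟨2, 0⟩)),
  ((⟨0, 2⟩, ⟨1, 2⟩, ⟨0, 2⟩, ⟨1, 0⟩), (⟨2, 0⟩, ⟨0, 0⟩, ⟨1, 0⟩, ⟨2, 0⟩)),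
  ((⟨2, 0⟩, ⟨1, 2⟩, ⟨1, 2⟩, ⟨2, 2⟩), (⟨1, 0⟩, ⟨0, 1⟩, ⟨1, 1⟩, ⟨0, 1⟩)),
  ((⟨1, 1⟩, ⟨1, 2⟩, ⟨0, 1⟩, ⟨0, 1⟩), (⟨1, 0⟩, ⟨0, 1⟩, ⟨1, 1⟩, ⟨0, 1⟩)),
  ((⟨2, 0⟩, ⟨0, 2⟩, ⟨1, 2⟩, ⟨0, 1⟩), (⟨0, 2⟩, ⟨0, 1⟩, ⟨1, 0⟩, ⟨2, 1⟩)),
  ((⟨2, 2⟩, ⟨2, 1⟩, ⟨0, 2⟩, ⟨0, 2⟩), (⟨1, 2⟩, ⟨1, 0⟩, ⟨2, 2⟩, ⟨2, 1⟩)),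
  ((⟨1, 0⟩, ⟨1, 0⟩, ⟨2, 0⟩, ⟨0, 0⟩), (⟨1, 2⟩, ⟨1, 0⟩, ⟨2, 2⟩, ⟨2, 1⟩)),
  ((⟨0, 1⟩, ⟨2, 1⟩, ⟨0, 1⟩, ⟨2, 0⟩), (⟨0, 1⟩, ⟨2, 1⟩, ⟨0, 0⟩, ⟨0, 2⟩)),
  ((⟨0, 1⟩, ⟨0, 2⟩, ⟨2, 0⟩, ⟨1, 2⟩), (⟨0, 1⟩, ⟨2, 1⟩, ⟨0, 0⟩, ⟨0, 2⟩)),
  ((⟨2, 0⟩, ⟨0, 0⟩, ⟨1, 0⟩, ⟨2, 0⟩), (⟨0, 1⟩, ⟨0, 2⟩, ⟨2, 2⟩, ⟨1, 0⟩)),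
  ((⟨1, 0⟩, ⟨0, 1⟩, ⟨1, 1⟩, ⟨0, 1⟩), (⟨0, 1⟩, ⟨0, 2⟩, ⟨2, 2⟩, ⟨1, 0⟩)),
  ((⟨0, 2⟩, ⟨0, 1⟩, ⟨1, 0⟩, ⟨2, 1⟩), (⟨2, 1⟩, ⟨0, 2⟩, ⟨2, 0⟩, ⟨0, 2⟩)),
  ((⟨1, 2⟩, ⟨1, 0⟩, ⟨2, 2⟩, ⟨2, 1⟩), (⟨2, 1⟩, ⟨0, 2⟩, ⟨2, 0⟩, ⟨0, 2⟩)),
  ((⟨0, 1⟩, ⟨2, 1⟩, ⟨0, 0⟩, ⟨0, 2⟩), (⟨0, 1⟩, ⟨2, 1⟩, ⟨0, 2⟩, ⟨1, 1⟩)),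
  ((⟨0, 1⟩, ⟨0, 2⟩, ⟨2, 2⟩, ⟨1, 0⟩), (⟨0, 1⟩, ⟨2, 1⟩, ⟨0, 2⟩, ⟨1, 1⟩)),
  ((⟨2, 1⟩, ⟨0, 2⟩, ⟨2, 0⟩, ⟨0, 2⟩), (⟨1, 0⟩, ⟨0, 0⟩, ⟨0, 0⟩, ⟨1, 0⟩)),
  ((⟨0, 1⟩, ⟨2, 1⟩, ⟨0, 2⟩, ⟨1, 1⟩), (⟨1, 0⟩, ⟨0, 0⟩, ⟨0, 0⟩, ⟨1, 0⟩)),
  ((⟨1, 0⟩, ⟨0, 0⟩, ⟨0, 0⟩, ⟨1, 0⟩), (⟨1, 0⟩, ⟨0, 0⟩, ⟨0, 0⟩, ⟨1, 0⟩))]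

/-- The elements of the subgroup. -/
def L : List T := W.map Prod.fst

/-- The chain condition: every element is the identity or a later element times a generator. -/
def ok (a b : T) : List (T × T) → Bool
  | [] => true
  | p :: rest => (decide (p.1 = one) || ((decide (mulT p.2 a = p.1) || decide (mulT p.2 b = p.1)) &&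
      rest.any (fun r => decide (r.1 = p.2)))) && ok a b rest

theorem ok_induct (a b : T) (P : T → Prop) (h1 : P one) (ha : ∀ y, P y → P (mulT y a))
    (hb : ∀ y, P y → P (mulT y b)) :
    ∀ l : List (T × T), ok a b l = true → ∀ p ∈ l, P p.1 := by
  intro l
  induction l with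
  | nil => intro _ p hp; exact absurd hp List.not_mem_nil
  | cons q rest ih =>
    intro h p hp
    rw [ok, Bool.and_eq_true] at h
    obtain ⟨hq, hrest⟩ := h
    rcases List.mem_cons.mp hp with rfl | hp
    · rw [Bool.or_eq_true] at hq
      rcases hq with hq | hq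
      · rw [decide_eq_true_eq] at hq; rw [hq]; exact h1
      · rw [Bool.and_eq_true, Bool.or_eq_true, List.any_eq_true] at hq
        obtain ⟨hgen, r, hr, hr2⟩ := hq
        rw [decide_eq_true_eq] at hr2
        have hP : P p.2 := hr2 ▸ ih hrest r hr
        rcases hgen with hg | hg <;> rw [decide_eq_true_eq] at hg <;> rw [← hg]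
        · exact ha _ hP
        · exact hb _ hP
    · exact ih hrest p hp

set_option maxRecDepth 1000000 in
theorem W_ok : ok gA gB W = true := by
  decide +kernel

set_option maxRecDepth 1000000 in
theorem L_ra : ∀ z ∈ L, mulT z gA ∈ L ∧ mulT z gB ∈ L := by
  decide +kernel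

set_option maxRecDepth 1000000 in
theorem L_det : ∀ z ∈ L, detT z = 1 := by
  decide +kernel

set_option maxRecDepth 1000000 in
theorem L_adj : ∀ z ∈ L, adjT z ∈ L := by
  decide +kernel

set_option maxRecDepth 1000000 in
theorem L_nodup : L.Nodup := by
  decide +kernel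

theorem L_length : L.length = 120 := by
  decide +kernel

theorem one_mem : one ∈ L := by
  decide +kernel

theorem negone_mem : negone ∈ L := by
  decide +kernel

set_option maxRecDepth 1000000 in
set_option synthInstance.maxSize 2000 in
set_option synthInstance.maxHeartbeats 200000 in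
theorem core_aux : ∀ z ∈ L, (conjT c1 z ∈ L ∧ conjT c2 z ∈ L ∧ conjT c3 z ∈ L) →
    (z = one ∨ z = negone) := by
  decide +kernel

theorem det_c1 : detT c1 = 1 := by decide +kernel
theorem det_c2 : detT c2 = 1 := by decide +kernel
theorem det_c3 : detT c3 = 1 := by decide +kernel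

end Cfsg.Agent.Helper7.SL29
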