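import Mathlib

set_option autoImplicit false
set_option linter.unusedSectionVars false

/-!
Transfer of special linear groups and projective special linear groups along a ring isomorphism.
-/

namespace Cfsg.Agent.Helper7.SLTransfer

open Matrix

variable {n : Type*} [Fintype n] [DecidableEq n] {R S : Type*} [CommRing R] [CommRing S]

/-- The isomorphism of special linear groups induced by a ring isomorphism. -/
def slEquiv (φ : R ≃+* S) : SpecialLinearGroup n R ≃* SpecialLinearGroup n S where
  toFun := SpecialLinearGroup.map (φ : R →+* S)
  invFun := SpecialLinearGroup.map (φ.symm : S →+* R)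
  left_inv g := by
    ext i j
    simp [SpecialLinearGroup.map_apply_coe]
  right_inv g := by
    ext i j
    simp [SpecialLinearGroup.map_apply_coe]
  map_mul' := map_mul _

theorem slEquiv_apply (φ : R ≃+* S) (g : SpecialLinearGroup n R) (i j : n) :
    (slEquiv φ g).1 i j = φ (g.1 i j) := rfl

/-- A group isomorphism maps the centre onto the centre. -/
theorem map_center {G H : Type*} [Group G] [Group H] (e : G ≃* H) :
    (Subgroup.center G).map (e : G →* H) = Subgroup.center H := by
  ext h
  constructor
  · rintro ⟨g, hg, rfl⟩
    rw [SetLike.mem_coe, Subgroup.mem_center_iff] at hg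
    rw [Subgroup.mem_center_iff]
    intro k
    obtain ⟨k, rfl⟩ := e.surjective k
    show e k * e g = e g * e k
    rw [← map_mul, ← map_mul, hg k]
  · intro hh
    refine ⟨e.symm h, ?_, by simp⟩
    rw [Subgroup.mem_center_iff] at hh
    rw [SetLike.mem_coe, Subgroup.mem_center_iff]
    intro k
    apply e.injective
    rw [map_mul, map_mul, e.apply_symm_apply]
    exact hh (e k)

/-- A group isomorphism induces an isomorphism of the central quotients. -/
def centerQuotEquiv {G H : Type*} [Group G] [Group H] (e : G ≃* H) :
    G ⧸ Subgroup.center G ≃* H ⧸ Subgroup.center H :=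
  QuotientGroup.congr (Subgroup.center G) (Subgroup.center H) e (map_center e)

/-- The isomorphism of projective special linear groups induced by a ring isomorphism. -/
def pslEquiv (φ : R ≃+* S) :
    ProjectiveSpecialLinearGroup n R ≃* ProjectiveSpecialLinearGroup n S :=
  centerQuotEquiv (slEquiv φ)

end Cfsg.Agent.Helper7.SLTransfer
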