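import Mathlib

set_option autoImplicit false

/-!
McKay's count of solutions of `x ^ p = 1`, and: a group `F` admitting a group `H` of
automorphisms acting freely on `F \ {1}` with at most two orbits is elementary abelian.
-/

namespace Cfsg.Agent.Helper7.TwoOrb

open Equiv.Perm

/-- The number of solutions of `x ^ p = 1` in a finite group of order divisible by the prime `p`
is divisible by `p` (Frobenius; McKay's proof). -/
theorem prime_dvd_card_pow_eq_one (G : Type*) [Group G] [Finite G] (p : ℕ) [hp : Fact p.Prime]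
    (hdvd : p ∣ Nat.card G) : p ∣ Nat.card {x : G // x ^ p = 1} := by
  classical
  have := Fintype.ofFinite G
  rw [Nat.card_eq_fintype_card] at hdvd
  have hp' : p - 1 ≠ 0 := mt tsub_eq_zero_iff_le.mp (not_le_of_gt hp.out.one_lt)
  have Scard :=
    calc
      p ∣ Fintype.card G ^ (p - 1) := hdvd.trans (dvd_pow (dvd_refl _) hp')
      _ = Fintype.card (vectorsProdEqOne G p) := (VectorsProdEqOne.card G p).symm
  let f : Function.End (vectorsProdEqOne G p) := fun v => VectorsProdEqOne.rotate v 1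
  have hfk : ∀ k : ℕ, ∀ v, (f ^ k) v = VectorsProdEqOne.rotate v k := by
    intro k
    induction k with
    | zero =>
      intro v
      rw [pow_zero, VectorsProdEqOne.rotate_zero]
      rfl
    | succ k ih =>
      intro v
      rw [pow_succ]
      show (f ^ k) (f v) = _
      rw [ih]
      show VectorsProdEqOne.rotate (VectorsProdEqOne.rotate v 1) k = _
      rw [VectorsProdEqOne.rotate_rotate, add_comm]
  have hf : f ^ p ^ 1 = 1 := by
    funext v
    rw [pow_one, hfk, VectorsProdEqOne.rotate_length]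
    rfl
  have hmod := Equiv.Perm.card_fixedPoints_modEq (p := p) (n := 1) hf
  have hfix : p ∣ Fintype.card (Function.fixedPoints f) := by
    rw [← Nat.modEq_zero_iff_dvd]
    exact hmod.symm.trans (Nat.modEq_zero_iff_dvd.2 Scard)
  have hppos : 0 < p := hp.out.pos
  let φ : {x : G // x ^ p = 1} → Function.fixedPoints f := fun x =>
    ⟨⟨List.Vector.replicate p x.1, by
      rw [VectorsProdEqOne.mem_iff]
      show (List.replicate p x.1).prod = 1
      rw [List.prod_replicate, x.2]⟩, by
      apply Subtype.ext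
      apply Subtype.ext
      exact List.rotate_replicate x.1 p 1⟩
  have hφ : Function.Bijective φ := by
    constructor
    · intro x y hxy
      have h1 : List.replicate p x.1 = List.replicate p y.1 := by
        have := congrArg (fun v => v.1.1.1) hxy
        exact this
      apply Subtype.ext
      have h2 := congrArg (fun l => l.head?) h1
      simp only [List.head?_replicate, hppos.ne', if_false] at h2
      exact Option.some.inj h2
    · intro v
      have hv : VectorsProdEqOne.rotate v.1 1 = v.1 := v.2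
      have hv' : (v.1.1.1).rotate 1 = v.1.1.1 := congrArg (fun w => w.1.1) hv
      have : Nonempty G := ⟨1⟩
      obtain ⟨g, hg⟩ := List.rotate_one_eq_self_iff_eq_replicate.mp hv'
      have hlen : v.1.1.1.length = p := v.1.1.2
      rw [hlen] at hg
      have hprod : v.1.1.1.prod = 1 := v.1.2
      have hgp : g ^ p = 1 := by
        rw [hg, List.prod_replicate] at hprod
        exact hprod
      refine ⟨⟨g, hgp⟩, ?_⟩
      apply Subtype.ext
      apply Subtype.ext
      apply Subtype.ext
      exact hg.symm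
  rw [Nat.card_eq_of_bijective φ hφ, Nat.card_eq_fintype_card]
  exact hfix

/-- The same count inside a subgroup. -/
theorem prime_dvd_ncard_pow_eq_one {G : Type*} [Group G] (F : Subgroup G) [Finite F] (p : ℕ)
    [hp : Fact p.Prime] (hdvd : p ∣ Nat.card F) :
    p ∣ ({x : G | x ∈ F ∧ x ^ p = 1} : Set G).ncard := by
  have h := prime_dvd_card_pow_eq_one F p hdvd
  let φ : {x : F // x ^ p = 1} → ({x : G | x ∈ F ∧ x ^ p = 1} : Set G) := fun x =>
    ⟨x.1.1, x.1.2, by
      have := congrArg Subtype.val x.2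
      rwa [Subgroup.coe_pow] at this⟩
  have hφ : Function.Bijective φ := by
    constructor
    · intro x y hxy
      apply Subtype.ext
      apply Subtype.ext
      have := congrArg Subtype.val hxy
      exact this
    · rintro ⟨x, hxF, hxp⟩
      exact ⟨⟨⟨x, hxF⟩, Subtype.ext (by rw [Subgroup.coe_pow]; exact hxp)⟩, rfl⟩
  rw [Nat.card_eq_of_bijective φ hφ, Nat.card_coe_set_eq] at h
  exact h

/-- A free conjugation action: the order of the acting group divides the size of an invariant
set. -/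
theorem card_dvd_of_free_conj {G : Type*} [Group G] (H : Subgroup G) (T : Set G)
    (hinv : ∀ h ∈ H, ∀ x ∈ T, h * x * h⁻¹ ∈ T)
    (hfree : ∀ h ∈ H, ∀ x ∈ T, h * x * h⁻¹ = x → h = 1) : Nat.card H ∣ T.ncard := by
  let _ : MulAction H T :=
    { smul := fun h x => ⟨(h : G) * x * (h : G)⁻¹, hinv h h.2 x x.2⟩
      one_smul := by
        intro x
        apply Subtype.ext
        show ((1 : H) : G) * x * ((1 : H) : G)⁻¹ = x
        rw [Subgroup.coe_one, one_mul, inv_one, mul_one]
      mul_smul := by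
        intro g h x
        apply Subtype.ext
        show ((g * h : H) : G) * x * ((g * h : H) : G)⁻¹ = (g : G) * ((h : G) * x * (h : G)⁻¹) * (g : G)⁻¹
        rw [Subgroup.coe_mul]
        group }
  have hstab : ∀ x : T, MulAction.stabilizer H x = ⊥ := by
    intro x
    rw [eq_bot_iff]
    intro h hh
    rw [MulAction.mem_stabilizer_iff] at hh
    have : (h : G) * x * (h : G)⁻¹ = x := congrArg Subtype.val hh
    rw [Subgroup.mem_bot]
    exact Subtype.ext (hfree h h.2 x x.2 this)
  have e := MulAction.selfEquivOrbitsQuotientProd hstab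
  have := Nat.card_congr e
  rw [Nat.card_prod, Nat.card_coe_set_eq] at this
  rw [this]
  exact dvd_mul_left _ _

theorem eq_of_gcd {d n t : ℕ} (_hd : 1 ≤ d) (hn : d ∣ n - 1) (hn2 : 2 ≤ n) (h2 : n - 1 ≤ 2 * d)
    (ht : d ∣ t) (htn : t ≤ n - 1) (hg : Nat.gcd (t + 1) n ≠ 1) : t = n - 1 := by
  obtain ⟨m, hm⟩ := hn
  obtain ⟨k, hk⟩ := ht
  by_contra hne
  have hlt : t < n - 1 := lt_of_le_of_ne htn hne
  have hm2 : m ≤ 2 := by
    by_contra hcon
    have : d * 3 ≤ d * m := Nat.mul_le_mul_left d (by omega)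
    omega
  have hkm : k < m := by
    by_contra hcon
    have : d * m ≤ d * k := Nat.mul_le_mul_left d (by omega)
    omega
  apply hg
  have hn' : n = d * m + 1 := by omega
  interval_cases m
  · omega
  · have hk0 : k = 0 := by omega
    subst hk0
    rw [hk]
    simp
  · interval_cases k
    · rw [hk]
      simp
    · rw [hk, hn', mul_one]
      have h1 : Nat.gcd (d + 1) (d * 2 + 1) ∣ d + 1 := Nat.gcd_dvd_left _ _
      have h2 : Nat.gcd (d + 1) (d * 2 + 1) ∣ d * 2 + 1 := Nat.gcd_dvd_right _ _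
      have h3 : Nat.gcd (d + 1) (d * 2 + 1) ∣ (d + 1) * 2 - (d * 2 + 1) :=
        Nat.dvd_sub (dvd_mul_of_dvd_left h1 2) h2
      have e : (d + 1) * 2 - (d * 2 + 1) = 1 := by omega
      rw [e] at h3
      exact Nat.dvd_one.1 h3

section main

variable {G : Type*} [Group G] (F H : Subgroup G) [Finite F] [Finite H]

/-- An invariant set of non-identity elements whose size plus one is not coprime to `|F|`
is everything. -/
theorem diff_one_eq_of_gcd (hnorm : ∀ h ∈ H, ∀ x ∈ F, h * x * h⁻¹ ∈ F)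
    (hfree : ∀ h ∈ H, ∀ x ∈ F, x ≠ 1 → h * x * h⁻¹ = x → h = 1)
    (h2 : Nat.card F - 1 ≤ 2 * Nat.card H) (hF : 2 ≤ Nat.card F)
    (T : Set G) (hTF : T ⊆ (F : Set G) \ {1}) (hTinv : ∀ h ∈ H, ∀ x ∈ T, h * x * h⁻¹ ∈ T)
    (hg : Nat.gcd (T.ncard + 1) (Nat.card F) ≠ 1) : T = (F : Set G) \ {1} := by
  have hfin : ((F : Set G) \ {1}).Finite := Set.Finite.sdiff (Set.toFinite _)
  have hcardF : ((F : Set G) \ {1}).ncard = Nat.card F - 1 := by
    rw [Set.ncard_sdiff_singleton_of_mem (show (1 : G) ∈ (F : Set G) from F.one_mem),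
      ← Nat.card_coe_set_eq]
    rfl
  have hd1 : 1 ≤ Nat.card H := Nat.card_pos
  have hdn : Nat.card H ∣ Nat.card F - 1 := by
    rw [← hcardF]
    apply card_dvd_of_free_conj
    · intro h hh x hx
      refine ⟨hnorm h hh x hx.1, ?_⟩
      intro e
      apply hx.2
      rw [Set.mem_singleton_iff] at e ⊢
      have : x = h⁻¹ * (h * x * h⁻¹) * h := by group
      rw [this, e]
      group
    · intro h hh x hx
      exact hfree h hh x hx.1 hx.2
  have hdT : Nat.card H ∣ T.ncard := by
    apply card_dvd_of_free_conj _ _ hTinv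
    intro h hh x hx
    exact hfree h hh x (hTF hx).1 (hTF hx).2
  have hTle : T.ncard ≤ Nat.card F - 1 := by
    rw [← hcardF]
    exact Set.ncard_le_ncard hTF hfin
  have := eq_of_gcd hd1 hdn hF h2 hdT hTle hg
  apply Set.eq_of_subset_of_ncard_le hTF _ hfin
  rw [hcardF, this]

/-- A group admitting a group of automorphisms acting freely with at most two orbits on the
non-identity elements is elementary abelian. -/
theorem elementary_abelian (hnorm : ∀ h ∈ H, ∀ x ∈ F, h * x * h⁻¹ ∈ F)
    (hfree : ∀ h ∈ H, ∀ x ∈ F, x ≠ 1 → h * x * h⁻¹ = x → h = 1)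
    (h2 : Nat.card F - 1 ≤ 2 * Nat.card H) (hF : 2 ≤ Nat.card F) :
    (∀ x ∈ F, ∀ y ∈ F, x * y = y * x) ∧
      ∃ p f : ℕ, p.Prime ∧ (∀ u ∈ F, u ^ p = 1) ∧ Nat.card F = p ^ f := by
  have hconj_ne : ∀ h x : G, x ≠ 1 → h * x * h⁻¹ ≠ 1 := by
    intro h x hx e
    apply hx
    have : x = h⁻¹ * (h * x * h⁻¹) * h := by group
    rw [this, e]
    group
  -- exponent `p`
  set p := (Nat.card F).minFac with hp
  have hpp : p.Prime := Nat.minFac_prime (by omega)
  have : Fact p.Prime := ⟨hpp⟩
  have hpF : p ∣ Nat.card F := Nat.minFac_dvd _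
  have hS := prime_dvd_ncard_pow_eq_one F p hpF
  set T : Set G := {x : G | x ∈ F ∧ x ^ p = 1} \ {1} with hT
  have hS1 : (1 : G) ∈ ({x : G | x ∈ F ∧ x ^ p = 1} : Set G) := ⟨F.one_mem, one_pow _⟩
  have hSfin : ({x : G | x ∈ F ∧ x ^ p = 1} : Set G).Finite :=
    Set.Finite.subset (Set.toFinite (F : Set G)) (fun x hx => hx.1)
  have hTcard : T.ncard + 1 = ({x : G | x ∈ F ∧ x ^ p = 1} : Set G).ncard := by
    rw [hT, Set.ncard_sdiff_singleton_add_one hS1 hSfin]
  have hTF : T ⊆ (F : Set G) \ {1} := fun x hx => ⟨hx.1.1, hx.2⟩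
  have hTinv : ∀ h ∈ H, ∀ x ∈ T, h * x * h⁻¹ ∈ T := by
    intro h hh x hx
    refine ⟨⟨hnorm h hh x hx.1.1, ?_⟩, ?_⟩
    · rw [conj_pow, hx.1.2]
      group
    · exact hconj_ne h x hx.2
  have hTeq := diff_one_eq_of_gcd F H hnorm hfree h2 hF T hTF hTinv (by
    rw [hTcard]
    intro e
    have := Nat.dvd_gcd hS hpF
    rw [e] at this
    exact hpp.one_lt.ne' (Nat.dvd_one.1 this))
  have hexp : ∀ u ∈ F, u ^ p = 1 := by
    intro u hu
    by_cases hu1 : u = 1
    · rw [hu1, one_pow]
    · have : u ∈ T := by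
        rw [hTeq]
        exact ⟨hu, hu1⟩
      exact this.1.2
  have hPG : IsPGroup p F := by
    intro u
    refine ⟨1, ?_⟩
    rw [pow_one]
    apply Subtype.ext
    rw [Subgroup.coe_pow]
    exact hexp u u.2
  obtain ⟨f, hf⟩ := IsPGroup.iff_card.1 hPG
  refine ⟨?_, p, f, hpp, hexp, hf⟩
  -- the centre
  have : Nontrivial F := by
    rw [← Finite.one_lt_card_iff_nontrivial]
    omega
  have hZnt : Nontrivial (Subgroup.center F) := hPG.center_nontrivial
  set Z : Set G := {x : G | x ∈ F ∧ ∀ y ∈ F, y * x = x * y} with hZ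
  set T' : Set G := Z \ {1} with hT'
  have hZ1 : (1 : G) ∈ Z := ⟨F.one_mem, fun y _ => by rw [mul_one, one_mul]⟩
  have hZfin : Z.Finite := Set.Finite.subset (Set.toFinite (F : Set G)) (fun x hx => hx.1)
  have hT'card : T'.ncard + 1 = Z.ncard := by
    rw [hT', Set.ncard_sdiff_singleton_add_one hZ1 hZfin]
  have hZcard : Z.ncard = Nat.card (Subgroup.center F) := by
    rw [← Nat.card_coe_set_eq]
    symm
    let φ : Subgroup.center F → Z := fun x =>
      ⟨x.1.1, x.1.2, fun y hy => by
        have := (Subgroup.mem_center_iff.1 x.2) ⟨y, hy⟩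
        exact congrArg Subtype.val this⟩
    apply Nat.card_eq_of_bijective φ
    constructor
    · intro x y hxy
      apply Subtype.ext
      apply Subtype.ext
      have := congrArg Subtype.val hxy
      exact this
    · rintro ⟨x, hxF, hx⟩
      refine ⟨⟨⟨x, hxF⟩, ?_⟩, rfl⟩
      rw [Subgroup.mem_center_iff]
      intro y
      apply Subtype.ext
      exact hx y y.2
  have hT'F : T' ⊆ (F : Set G) \ {1} := fun x hx => ⟨hx.1.1, hx.2⟩
  have hT'inv : ∀ h ∈ H, ∀ x ∈ T', h * x * h⁻¹ ∈ T' := by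
    intro h hh x hx
    refine ⟨⟨hnorm h hh x hx.1.1, ?_⟩, hconj_ne h x hx.2⟩
    intro y hy
    have hy' : h⁻¹ * y * h⁻¹⁻¹ ∈ F := hnorm h⁻¹ (H.inv_mem hh) y hy
    have := hx.1.2 _ hy'
    calc y * (h * x * h⁻¹) = h * ((h⁻¹ * y * h⁻¹⁻¹) * x) * h⁻¹ := by group
      _ = h * (x * (h⁻¹ * y * h⁻¹⁻¹)) * h⁻¹ := by rw [this]
      _ = h * x * h⁻¹ * y := by group
  have hT'eq := diff_one_eq_of_gcd F H hnorm hfree h2 hF T' hT'F hT'inv (by
    rw [hT'card, hZcard]
    have hdvd : Nat.card (Subgroup.center F) ∣ Nat.card F := Subgroup.card_subgroup_dvd_card _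
    rw [Nat.gcd_eq_left hdvd]
    have := Finite.one_lt_card_iff_nontrivial.2 hZnt
    omega)
  intro x hx y hy
  by_cases hx1 : x = 1
  · rw [hx1, one_mul, mul_one]
  · have : x ∈ T' := by
      rw [hT'eq]
      exact ⟨hx, hx1⟩
    exact (this.1.2 y hy).symm

end main

end Cfsg.Agent.Helper7.TwoOrb
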