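import Mathlib
import Cfsg.Agent.Helper7.ZassKernel

set_option autoImplicit false

/-!
Involutions in a point stabiliser of a Zassenhaus group: they swap any two of the other points.
-/

namespace Cfsg.Agent.Helper7.Zass

open MulAction
open scoped Pointwise

variable {G Ω : Type*} [Group G] [MulAction G Ω] [FaithfulSMul G Ω]

/-- Given an involution `t` fixing `c` (and `e`), every two other points are swapped by a
conjugate of `t` fixing `c`. -/
theorem exists_invol_swap_fix [Finite G] [Finite Ω] (h : ZHyp G Ω) {a b c : Ω} (hac : a ≠ c)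
    (hbc : b ≠ c) {t : G} (ht2 : t * t = 1) (ht1 : t ≠ 1) (htc : t • c = c) {e : Ω}
    (hec : e ≠ c) (hte : t • e = e) :
    ∃ j : G, j * j = 1 ∧ j ≠ 1 ∧ j • c = c ∧ j • a = b := by
  classical
  obtain ⟨K, hKset, hKcard⟩ := exists_kernel_subgroup h c
  have hmemK : ∀ x : G, x ∈ K ↔ x ∈ Kset c := by
    intro x
    rw [← SetLike.mem_coe, hKset]
  have hKc : ∀ x ∈ K, x • c = c := fun x hx => ((hmemK x).1 hx).1
  have hKfree : ∀ x ∈ K, ∀ y : Ω, y ≠ c → x • y = y → x = 1 := by
    intro x hx y hy hxy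
    by_contra hx1
    exact hy (Kset_fix_unique ((hmemK x).1 hx) hx1 hxy)
  have hKnorm : ∀ g : G, g • c = c → ∀ x ∈ K, g * x * g⁻¹ ∈ K := by
    intro g hg x hx
    rw [hmemK] at hx ⊢
    have := conj_mem_Kset hx g
    rwa [hg] at this
  have hti : t⁻¹ = t := inv_eq_of_mul_eq_one_right ht2
  -- the map `x ↦ x t x⁻¹ a`
  have hfc : ∀ x : K, ((x : G) * t * (x : G)⁻¹) • a ∈ ({c}ᶜ : Set Ω) := by
    intro x hmem
    have e1 : ((x : G) * t * (x : G)⁻¹) • a = c := hmem
    have e2 : ((x : G) * t * (x : G)⁻¹) • c = c := by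
      rw [mul_smul, mul_smul, inv_smul_eq_iff.2 (hKc x x.2).symm, htc, hKc x x.2]
    exact hac (smul_left_cancel _ (e1.trans e2.symm))
  let f : K → ({c}ᶜ : Set Ω) := fun x => ⟨((x : G) * t * (x : G)⁻¹) • a, hfc x⟩
  have hinj : Function.Injective f := by
    intro x y hxy
    have hxy' : ((x : G) * t * (x : G)⁻¹) • a = ((y : G) * t * (y : G)⁻¹) • a :=
      congrArg Subtype.val hxy
    set w : G := (y : G) * t * (y : G)⁻¹ * ((x : G) * t * (x : G)⁻¹) with hw
    have hwa : w • a = a := by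
      rw [hw, mul_smul, hxy', ← mul_smul]
      have : (y : G) * t * (y : G)⁻¹ * ((y : G) * t * (y : G)⁻¹) = 1 := by
        calc (y : G) * t * (y : G)⁻¹ * ((y : G) * t * (y : G)⁻¹)
            = (y : G) * (t * t) * (y : G)⁻¹ := by group
          _ = 1 := by rw [ht2]; group
      rw [this, one_smul]
    have hwK : w ∈ K := by
      have h1 : t * ((y : G)⁻¹ * (x : G)) * t⁻¹ ∈ K :=
        hKnorm t htc _ (K.mul_mem (K.inv_mem y.2) x.2)
      have : w = (y : G) * (t * ((y : G)⁻¹ * (x : G)) * t⁻¹) * (x : G)⁻¹ := by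
        rw [hw, hti]
        group
      rw [this]
      exact K.mul_mem (K.mul_mem y.2 h1) (K.inv_mem x.2)
    have hw1 : w = 1 := hKfree w hwK a hac hwa
    -- so the two conjugates of `t` agree
    set z : G := (y : G)⁻¹ * (x : G) with hz
    have hzK : z ∈ K := K.mul_mem (K.inv_mem y.2) x.2
    have hcomm : z * t = t * z := by
      have h1 : (x : G) * t * (x : G)⁻¹ = (y : G) * t * (y : G)⁻¹ := by
        have : (y : G) * t * (y : G)⁻¹ = ((y : G) * t * (y : G)⁻¹)⁻¹ := by
          rw [mul_inv_rev, mul_inv_rev, inv_inv, hti, mul_assoc]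
        rw [this]
        exact (inv_eq_of_mul_eq_one_right hw1).symm
      calc z * t = (y : G)⁻¹ * ((x : G) * t * (x : G)⁻¹) * (x : G) := by rw [hz]; group
        _ = (y : G)⁻¹ * ((y : G) * t * (y : G)⁻¹) * (x : G) := by rw [h1]
        _ = t * z := by rw [hz]; group
    have hze : t • (z • e) = z • e := by
      rw [← mul_smul, ← hcomm, mul_smul, hte]
    have hzec : z • e ≠ c := by
      intro e1
      have e2 : z • c = c := hKc z hzK
      exact hec (smul_left_cancel _ (e1.trans e2.symm))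
    have hzee : z • e = e := by
      by_contra hne
      exact ht1 (h.p3 t c e (z • e) (Ne.symm hec) (Ne.symm hne) (Ne.symm hzec) htc hte hze)
    have hz1 : z = 1 := hKfree z hzK e hec hzee
    apply Subtype.ext
    have : (x : G) = (y : G) * z := by rw [hz]; group
    rw [this, hz1, mul_one]
  have hcard : Nat.card K = Nat.card ({c}ᶜ : Set Ω) := by
    rw [Nat.card_coe_set_eq, Set.ncard_compl, Set.ncard_singleton]
    omega
  have hbij : Function.Bijective f := (Nat.bijective_iff_injective_and_card f).2 ⟨hinj, hcard⟩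
  obtain ⟨x, hx⟩ := hbij.2 ⟨b, hbc⟩
  have hxb : ((x : G) * t * (x : G)⁻¹) • a = b := congrArg Subtype.val hx
  refine ⟨(x : G) * t * (x : G)⁻¹, ?_, ?_, ?_, hxb⟩
  · calc (x : G) * t * (x : G)⁻¹ * ((x : G) * t * (x : G)⁻¹)
        = (x : G) * (t * t) * (x : G)⁻¹ := by group
      _ = 1 := by rw [ht2]; group
  · intro e1
    apply ht1
    have : t = (x : G)⁻¹ * ((x : G) * t * (x : G)⁻¹) * (x : G) := by group
    rw [this, e1]
    group
  · rw [mul_smul, mul_smul, inv_smul_eq_iff.2 (hKc x x.2).symm, htc, hKc x x.2]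

end Cfsg.Agent.Helper7.Zass
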