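import Mathlib

set_option autoImplicit false

/-!
The number of automorphisms of a finite field with `p ^ f` elements is `f`.
-/

namespace Cfsg.Agent.Helper7.FieldAutCard

variable {F : Type*} [Field F]

/-- The automorphism group of a finite field with `p ^ f` elements has order `f`. -/
theorem card_ringAut [Fintype F] (p f : ℕ) [Fact p.Prime] [CharP F p]
    (hF : Fintype.card F = p ^ f) : Nat.card (F ≃+* F) = f := by
  classical
  let _ := ZMod.algebra F p
  have e : (F ≃ₐ[ZMod p] F) ≃ (F ≃+* F) :=
    { toFun := fun σ => σ.toRingEquiv
      invFun := fun σ => AlgEquiv.ofRingEquiv (f := σ) (fun x =>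
        RingHom.congr_fun (Subsingleton.elim ((σ : F →+* F).comp (algebraMap (ZMod p) F))
          (algebraMap (ZMod p) F)) x)
      left_inv := fun σ => by ext x; rfl
      right_inv := fun σ => by ext x; rfl }
  rw [← Nat.card_congr e, IsGalois.card_aut_eq_finrank]
  have h1 : Fintype.card F = Fintype.card (ZMod p) ^ Module.finrank (ZMod p) F :=
    Module.card_eq_pow_finrank
  rw [ZMod.card, hF] at h1
  exact (Nat.pow_right_injective (Fact.out : p.Prime).two_le h1).symm

end Cfsg.Agent.Helper7.FieldAutCard
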