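import Mathlib

set_option autoImplicit false

/-!
Counting the solutions of an affine linear equation `x ⬝ y = c` over a finite field, and sums over all `x`.
-/

namespace Cfsg.Agent.Helper7.Hyp

open Matrix

variable {F : Type*} [Field F] [Fintype F] {ι : Type*} [Fintype ι] [DecidableEq ι]

/-- `y ↦ x ⬝ y` as a linear map. -/
def dotL (x : ι → F) : (ι → F) →ₗ[F] F where
  toFun y := x ⬝ᵥ y
  map_add' y z := dotProduct_add x y z
  map_smul' a y := by rw [dotProduct_smul]; rfl

omit [Fintype F] [DecidableEq ι] in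
theorem dotL_apply (x y : ι → F) : dotL x y = x ⬝ᵥ y := rfl

omit [Fintype F] in
theorem dotL_surjective {x : ι → F} (hx : x ≠ 0) : Function.Surjective (dotL x) := by
  obtain ⟨i, hi⟩ : ∃ i, x i ≠ 0 := by
    by_contra h
    push Not at h
    exact hx (funext h)
  intro c
  refine ⟨Pi.single i (c / x i), ?_⟩
  rw [dotL_apply, dotProduct_single]
  field_simp

/-- The kernel of a non-zero dot product has `q^(n-1)` elements. -/
theorem card_ker {x : ι → F} (hx : x ≠ 0) :
    Nat.card (LinearMap.ker (dotL x)) = Fintype.card F ^ (Fintype.card ι - 1) := by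
  classical
  have h1 := LinearMap.finrank_range_add_finrank_ker (dotL x)
  rw [LinearMap.range_eq_top.mpr (dotL_surjective hx), finrank_top, Module.finrank_self,
    Module.finrank_pi] at h1
  rw [Nat.card_eq_fintype_card, Module.card_eq_pow_finrank (K := F)]
  congr 1
  omega

/-- An affine hyperplane has `q^(n-1)` points. -/
theorem card_fiber {x : ι → F} (hx : x ≠ 0) (c : F) :
    Nat.card {y : ι → F // x ⬝ᵥ y = c} = Fintype.card F ^ (Fintype.card ι - 1) := by
  rw [← card_ker hx]
  obtain ⟨y₀, hy₀⟩ := dotL_surjective hx c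
  rw [dotL_apply] at hy₀
  apply Nat.card_congr
  refine ⟨fun y => ⟨y.1 - y₀, ?_⟩, fun z => ⟨z.1 + y₀, ?_⟩, ?_, ?_⟩
  · rw [LinearMap.mem_ker, dotL_apply, dotProduct_sub, y.2, hy₀, sub_self]
  · have := z.2
    rw [LinearMap.mem_ker, dotL_apply] at this
    rw [dotProduct_add, this, hy₀, zero_add]
  · intro y
    apply Subtype.ext
    change y.1 - y₀ + y₀ = y.1
    abel
  · intro z
    apply Subtype.ext
    change z.1 + y₀ - y₀ = z.1
    abel

/-- The fibre over `x = 0`. -/
theorem card_fiber_zero [DecidableEq F] (c : F) :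
    Nat.card {y : ι → F // (0 : ι → F) ⬝ᵥ y = c} = if c = 0 then Fintype.card F ^ Fintype.card ι else 0 := by
  by_cases hc : c = 0
  · rw [if_pos hc]
    have : Nat.card {y : ι → F // (0 : ι → F) ⬝ᵥ y = c} = Nat.card (ι → F) := by
      apply Nat.card_congr
      refine ⟨fun y => y.1, fun y => ⟨y, by rw [zero_dotProduct, hc]⟩, fun y => rfl, fun y => rfl⟩
    rw [this, Nat.card_eq_fintype_card, Fintype.card_fun]
  · rw [if_neg hc]
    have : IsEmpty {y : ι → F // (0 : ι → F) ⬝ᵥ y = c} := by
      constructor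
      rintro ⟨y, hy⟩
      rw [zero_dotProduct] at hy
      exact hc hy.symm
    exact Nat.card_of_isEmpty


/-- Sum over all `x` of the number of solutions `y` of `x ⬝ y = c`. -/
theorem sum_card_fiber [DecidableEq F] (c : F) :
    ∑ x : ι → F, Nat.card {y : ι → F // x ⬝ᵥ y = c} =
      (if c = 0 then Fintype.card F ^ Fintype.card ι else 0) +
        (Fintype.card F ^ Fintype.card ι - 1) * Fintype.card F ^ (Fintype.card ι - 1) := by
  classical
  have hf : ∀ x : ι → F, Nat.card {y : ι → F // x ⬝ᵥ y = c} =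
      if x = 0 then (if c = 0 then Fintype.card F ^ Fintype.card ι else 0)
        else Fintype.card F ^ (Fintype.card ι - 1) := by
    intro x
    by_cases hx : x = 0
    · rw [if_pos hx, hx, card_fiber_zero]
    · rw [if_neg hx, card_fiber hx]
  simp_rw [hf]
  rw [Finset.sum_ite, Finset.filter_eq', if_pos (Finset.mem_univ _), Finset.sum_singleton,
    Finset.sum_const, Finset.filter_ne', Finset.card_erase_of_mem (Finset.mem_univ _),
    Finset.card_univ, Fintype.card_fun, smul_eq_mul]

/-- The number of triples `(a, x, y)` with `x ⬝ y = c a`. -/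
theorem card_triples [DecidableEq F] {A : Type*} [Fintype A] (c : A → F) :
    Nat.card {p : (A × (ι → F)) × (ι → F) // p.1.2 ⬝ᵥ p.2 = c p.1.1} =
      Nat.card {a : A // c a = 0} * Fintype.card F ^ Fintype.card ι +
        Fintype.card A * ((Fintype.card F ^ Fintype.card ι - 1) *
          Fintype.card F ^ (Fintype.card ι - 1)) := by
  classical
  rw [Nat.card_congr (Equiv.subtypeProdEquivSigmaSubtype
    (fun (ax : A × (ι → F)) (y : ι → F) => ax.2 ⬝ᵥ y = c ax.1)), Nat.card_sigma,
    Fintype.sum_prod_type]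
  simp_rw [sum_card_fiber]
  rw [Finset.sum_add_distrib, Finset.sum_const, Finset.card_univ, smul_eq_mul]
  congr 1
  rw [Finset.sum_ite, Finset.sum_const, Finset.sum_const_zero, add_zero, smul_eq_mul,
    Nat.card_eq_fintype_card, Fintype.card_subtype]

end Cfsg.Agent.Helper7.Hyp
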