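import Mathlib
import Cfsg.Prelude.Def_RootSubgroups

set_option autoImplicit false

/-!
Rank one groups: elementary lemmas.
-/

namespace Cfsg.Agent.Helper7.R1

open Cfsg

variable {G : Type*} [Group G]

theorem mem_conjBy {A : Subgroup G} {g x : G} : x ∈ conjBy A g ↔ g⁻¹ * x * g ∈ A := by
  constructor
  · rintro ⟨a, ha, rfl⟩
    have : g⁻¹ * ((MulAut.conj g).toMonoidHom a) * g = a := by simp [MulAut.conj_apply]; group
    rw [this]; exact ha
  · intro h
    exact ⟨g⁻¹ * x * g, h, by simp [MulAut.conj_apply]; group⟩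

theorem conjBy_conjBy (A : Subgroup G) (g h : G) : conjBy (conjBy A g) h = conjBy A (h * g) := by
  ext x
  rw [mem_conjBy, mem_conjBy, mem_conjBy]
  have : g⁻¹ * (h⁻¹ * x * h) * g = (h * g)⁻¹ * x * (h * g) := by group
  rw [this]

theorem conjBy_one (A : Subgroup G) : conjBy A 1 = A := by
  ext x
  rw [mem_conjBy]
  simp

theorem conjBy_of_mem {A : Subgroup G} {g : G} (hg : g ∈ A) : conjBy A g = A := by
  ext x
  rw [mem_conjBy]
  constructor
  · intro h
    have := A.mul_mem (A.mul_mem hg h) (A.inv_mem hg)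
    have e : g * (g⁻¹ * x * g) * g⁻¹ = x := by group
    rwa [e] at this
  · intro h
    exact A.mul_mem (A.mul_mem (A.inv_mem hg) h) hg

theorem conjBy_eq_iff {A B : Subgroup G} {g : G} : conjBy A g = B ↔ A = conjBy B g⁻¹ := by
  constructor
  · rintro rfl
    rw [conjBy_conjBy, inv_mul_cancel, conjBy_one]
  · intro h
    rw [h, conjBy_conjBy, mul_inv_cancel, conjBy_one]

theorem conjBy_inj {A B : Subgroup G} {g : G} (h : conjBy A g = conjBy B g) : A = B := by
  have := congrArg (fun C => conjBy C g⁻¹) h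
  simpa [conjBy_conjBy, conjBy_one] using this

theorem conjBy_of_mem_normalizer {B : Subgroup G} {a : G} (ha : a ∈ Subgroup.normalizer (B : Set G)) :
    conjBy B a⁻¹ = B := by
  ext x
  rw [mem_conjBy, inv_inv]
  exact (ha x).symm

theorem mem_normalizer_of_conjBy {B : Subgroup G} {a : G} (h : conjBy B a = B) :
    a ∈ Subgroup.normalizer (B : Set G) := by
  intro x
  have h1 : a * x * a⁻¹ ∈ B ↔ a * x * a⁻¹ ∈ conjBy B a := by rw [h]
  change x ∈ B ↔ a * x * a⁻¹ ∈ B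
  rw [h1, mem_conjBy]
  have : a⁻¹ * (a * x * a⁻¹) * a = x := by group
  rw [this]

/-- No non-identity element of `A` normalises `B` in a rank one pair. -/
theorem inf_normalizer_eq_bot {A B : Subgroup G} (h : IsRankOnePair A B) :
    A ⊓ Subgroup.normalizer (B : Set G) = ⊥ := by
  rw [eq_bot_iff]
  rintro a ⟨haA, haN⟩
  rw [Subgroup.mem_bot]
  by_contra ha1
  obtain ⟨b, hb, _, hconj⟩ := h.cond_left a haA ha1
  rw [conjBy_of_mem_normalizer haN, conjBy_eq_iff, inv_inv, conjBy_of_mem hb] at hconj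
  exact h.ne hconj

theorem existsUnique_partner {A B : Subgroup G} (h : IsRankOnePair A B) {a : G} (ha : a ∈ A)
    (ha1 : a ≠ 1) : ∃! b : G, b ∈ B ∧ b ≠ 1 ∧ conjBy A b⁻¹ = conjBy B a⁻¹ := by
  obtain ⟨b, hb, hb1, hconj⟩ := h.cond_left a ha ha1
  refine ⟨b, ⟨hb, hb1, hconj⟩, ?_⟩
  rintro b' ⟨hb', _, hconj'⟩
  -- b'⁻¹ A b' = b⁻¹ A b, so b b'⁻¹ normalises A
  have h1 : conjBy A (b * b'⁻¹) = A := by
    rw [← conjBy_conjBy, hconj', ← hconj, conjBy_conjBy, mul_inv_cancel, conjBy_one]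
  have h2 : b * b'⁻¹ ∈ B ⊓ Subgroup.normalizer (A : Set G) :=
    ⟨B.mul_mem hb (B.inv_mem hb'), mem_normalizer_of_conjBy h1⟩
  rw [inf_normalizer_eq_bot (RankOnePair_symm h), Subgroup.mem_bot] at h2
  have : b = b' := by
    have := congrArg (· * b') h2
    simpa using this
  exact this.symm

theorem existsUnique_partner' {A B : Subgroup G} (h : IsRankOnePair A B) {b : G} (hb : b ∈ B)
    (hb1 : b ≠ 1) : ∃! a : G, a ∈ A ∧ a ≠ 1 ∧ conjBy A b⁻¹ = conjBy B a⁻¹ := by
  obtain ⟨a, ha, huniq⟩ := existsUnique_partner (RankOnePair_symm h) hb hb1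
  refine ⟨a, ⟨ha.1, ha.2.1, ha.2.2.symm⟩, ?_⟩
  rintro a' ⟨ha', ha1', hconj'⟩
  exact huniq a' ⟨ha', ha1', hconj'.symm⟩

end Cfsg.Agent.Helper7.R1
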