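import Mathlib
import Cfsg.Prelude.Def_RootSubgroups
import Cfsg.Agent.Helper7.RankOne

set_option autoImplicit false

/-!
Rank one groups: the set `Ω` of unipotent subgroups, the regular action of `A` on `Ω ∖ {A}`,
double transitivity, and the kernel of the action.
-/

namespace Cfsg.Agent.Helper7.R1

open Cfsg

variable {G : Type*} [Group G] {A B C D : Subgroup G}

theorem sup_induction' {p : G → Prop} (hA : ∀ a ∈ A, p a) (hB : ∀ b ∈ B, p b) (one : p 1)
    (mul : ∀ x y, p x → p y → p (x * y)) {x : G} (hx : x ∈ A ⊔ B) : p x := by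
  rw [Subgroup.sup_eq_closure] at hx
  induction hx using Subgroup.closure_induction'' with
  | one => exact one
  | mem x hx =>
    rcases hx with hx | hx
    · exact hA x hx
    · exact hB x hx
  | inv_mem x hx =>
    rcases hx with hx | hx
    · exact hA _ (A.inv_mem hx)
    · exact hB _ (B.inv_mem hx)
  | mul x y _ _ hx hy => exact mul x y hx hy

theorem conjBy_mul (C : Subgroup G) (x y : G) : conjBy C (x * y) = conjBy (conjBy C y) x :=
  (conjBy_conjBy C y x).symm

theorem conjBy_inv_of_conjBy {C : Subgroup G} {x : G} (h : conjBy C x = C) : conjBy C x⁻¹ = C := by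
  have := conjBy_eq_iff.mp h
  exact this.symm

theorem exists_nonid (h : IsRankOnePair A B) : ∃ a ∈ A, a ≠ 1 := by
  by_contra hA
  push Not at hA
  have hB : ∀ b ∈ B, b = 1 := by
    intro b hb
    by_contra hb1
    obtain ⟨a, ha, ha1, _⟩ := h.cond_right b hb hb1
    exact ha1 (hA a ha)
  apply h.ne
  ext x
  constructor
  · intro hx; rw [hA x hx]; exact B.one_mem
  · intro hx; rw [hB x hx]; exact A.one_mem

theorem inf_eq_bot (h : IsRankOnePair A B) : A ⊓ B = ⊥ := by
  rw [eq_bot_iff, ← inf_normalizer_eq_bot h]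
  exact inf_le_inf_left A Subgroup.le_normalizer

/-- For `b ∈ B#`, `bAb⁻¹ = aBa⁻¹` for some `a ∈ A#`. -/
theorem conjBy_left_of_mem_right (h : IsRankOnePair A B) {b : G} (hb : b ∈ B) (hb1 : b ≠ 1) :
    ∃ a ∈ A, a ≠ 1 ∧ conjBy A b = conjBy B a := by
  have hb' : b⁻¹ ∈ B := B.inv_mem hb
  have hb1' : b⁻¹ ≠ 1 := by simpa using hb1
  obtain ⟨a, ha, ha1, hc⟩ := h.cond_right b⁻¹ hb' hb1'
  refine ⟨a⁻¹, A.inv_mem ha, by simpa using ha1, ?_⟩
  rw [inv_inv] at hc
  exact hc.symm

/-- For `a ∈ A#`, `aBa⁻¹ = bAb⁻¹` for some `b ∈ B#`. -/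
theorem conjBy_right_of_mem_left (h : IsRankOnePair A B) {a : G} (ha : a ∈ A) (ha1 : a ≠ 1) :
    ∃ b ∈ B, b ≠ 1 ∧ conjBy B a = conjBy A b :=
  conjBy_left_of_mem_right (RankOnePair_symm h) ha ha1

/-- The explicit description of the set of unipotent subgroups. -/
def InOmega (A B C : Subgroup G) : Prop := C = A ∨ ∃ a ∈ A, C = conjBy B a

theorem inOmega_conj_left (hC : InOmega A B C) {x : G} (hx : x ∈ A) : InOmega A B (conjBy C x) := by
  rcases hC with rfl | ⟨a, ha, rfl⟩
  · left; exact conjBy_of_mem hx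
  · right; exact ⟨x * a, A.mul_mem hx ha, conjBy_conjBy B a x⟩

theorem inOmega_conj_left_of_right (h : IsRankOnePair A B) {x : G} (hx : x ∈ B) :
    InOmega A B (conjBy A x) := by
  by_cases hx1 : x = 1
  · left; rw [hx1, conjBy_one]
  · obtain ⟨a, ha, _, e⟩ := conjBy_left_of_mem_right h hx hx1
    right; exact ⟨a, ha, e⟩

theorem inOmega_conj_right (h : IsRankOnePair A B) (hC : InOmega A B C) {x : G} (hx : x ∈ B) :
    InOmega A B (conjBy C x) := by
  rcases hC with rfl | ⟨a, ha, rfl⟩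
  · exact inOmega_conj_left_of_right h hx
  · by_cases ha1 : a = 1
    · right
      refine ⟨1, A.one_mem, ?_⟩
      rw [ha1, conjBy_one, conjBy_of_mem hx]
    · obtain ⟨b', hb', _, e⟩ := conjBy_right_of_mem_left h ha ha1
      rw [e, conjBy_conjBy]
      exact inOmega_conj_left_of_right h (B.mul_mem hx hb')

theorem inOmega_conj (h : IsRankOnePair A B) {x : G} (hx : x ∈ A ⊔ B) :
    ∀ C, InOmega A B C → InOmega A B (conjBy C x) := by
  refine sup_induction' (p := fun x => ∀ C, InOmega A B C → InOmega A B (conjBy C x))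
    ?_ ?_ ?_ ?_ hx
  · exact fun a ha C hC => inOmega_conj_left hC ha
  · exact fun b hb C hC => inOmega_conj_right h hC hb
  · intro C hC; rwa [conjBy_one]
  · intro x y hx hy C hC
    rw [conjBy_mul]
    exact hx _ (hy _ hC)

theorem left_mem_unipotent : A ∈ unipotentSubgroups A B :=
  ⟨1, Subgroup.one_mem _, (conjBy_one A).symm⟩

theorem right_mem_unipotent (h : IsRankOnePair A B) : B ∈ unipotentSubgroups A B := by
  obtain ⟨a, ha, ha1⟩ := exists_nonid h
  obtain ⟨b, hb, _, e⟩ := conjBy_right_of_mem_left h ha ha1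
  -- conjBy B a = conjBy A b, so B = conjBy A (a⁻¹ b)
  refine ⟨a⁻¹ * b, ?_, ?_⟩
  · exact Subgroup.mul_mem _ (Subgroup.inv_mem _ (Subgroup.mem_sup_left ha)) (Subgroup.mem_sup_right hb)
  · rw [conjBy_mul, ← e, conjBy_conjBy, inv_mul_cancel, conjBy_one]

theorem conjBy_mem_unipotent (hC : C ∈ unipotentSubgroups A B) {x : G} (hx : x ∈ A ⊔ B) :
    conjBy C x ∈ unipotentSubgroups A B := by
  obtain ⟨y, hy, rfl⟩ := hC
  exact ⟨x * y, Subgroup.mul_mem _ hx hy, conjBy_conjBy A y x⟩

theorem mem_unipotent_iff (h : IsRankOnePair A B) :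
    C ∈ unipotentSubgroups A B ↔ C = A ∨ ∃ a ∈ A, C = conjBy B a := by
  constructor
  · rintro ⟨x, hx, rfl⟩
    exact inOmega_conj h hx A (Or.inl rfl)
  · rintro (rfl | ⟨a, ha, rfl⟩)
    · exact left_mem_unipotent
    · exact conjBy_mem_unipotent (right_mem_unipotent h) (Subgroup.mem_sup_left ha)

theorem conjBy_le_of_le {K : Subgroup G} (hC : C ≤ K) {x : G} (hx : x ∈ K) : conjBy C x ≤ K := by
  intro y hy
  rw [mem_conjBy] at hy
  have := K.mul_mem (K.mul_mem hx (hC hy)) (K.inv_mem hx)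
  have e : x * (x⁻¹ * y * x) * x⁻¹ = y := by group
  rwa [e] at this

theorem unipotent_le (hC : C ∈ unipotentSubgroups A B) : C ≤ A ⊔ B := by
  obtain ⟨x, hx, rfl⟩ := hC
  exact conjBy_le_of_le le_sup_left hx

theorem conjBy_right_ne_left (h : IsRankOnePair A B) {a : G} (ha : a ∈ A) : conjBy B a ≠ A := by
  intro e
  rw [conjBy_eq_iff, conjBy_of_mem (A.inv_mem ha)] at e
  exact h.ne e.symm

theorem eq_one_of_conjBy_right (h : IsRankOnePair A B) {a : G} (ha : a ∈ A) (e : conjBy B a = B) :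
    a = 1 := by
  have : a ∈ A ⊓ Subgroup.normalizer (B : Set G) := ⟨ha, mem_normalizer_of_conjBy e⟩
  rwa [inf_normalizer_eq_bot h, Subgroup.mem_bot] at this

theorem conjBy_right_inj (h : IsRankOnePair A B) {a a' : G} (ha : a ∈ A) (ha' : a' ∈ A)
    (e : conjBy B a = conjBy B a') : a = a' := by
  have h1 : conjBy B (a'⁻¹ * a) = B := by
    rw [conjBy_mul, e, conjBy_conjBy, inv_mul_cancel, conjBy_one]
  have := eq_one_of_conjBy_right h (A.mul_mem (A.inv_mem ha') ha) h1
  have := congrArg (a' * ·) this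
  simpa using this

/-- `A` acts regularly on `Ω ∖ {A}`. -/
theorem regular (h : IsRankOnePair A B) (hC : C ∈ unipotentSubgroups A B)
    (hD : D ∈ unipotentSubgroups A B) (hCA : C ≠ A) (hDA : D ≠ A) :
    ∃! a : G, a ∈ A ∧ conjBy C a = D := by
  rw [mem_unipotent_iff h] at hC hD
  rcases hC with rfl | ⟨c, hc, rfl⟩
  · exact absurd rfl hCA
  rcases hD with rfl | ⟨d, hd, rfl⟩
  · exact absurd rfl hDA
  refine ⟨d * c⁻¹, ⟨A.mul_mem hd (A.inv_mem hc), ?_⟩, ?_⟩
  · rw [conjBy_conjBy]; congr 1; group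
  · rintro a ⟨ha, e⟩
    rw [conjBy_conjBy] at e
    have := conjBy_right_inj h (A.mul_mem ha hc) hd e
    rw [← this]; group

theorem isRankOnePair_conj (h : IsRankOnePair A B) (g : G) :
    IsRankOnePair (conjBy A g) (conjBy B g) := by
  have key : ∀ {A B : Subgroup G}, RankOneCondition A B →
      RankOneCondition (conjBy A g) (conjBy B g) := by
    intro A B hc a' ha' ha1'
    rw [mem_conjBy] at ha'
    have ha1 : g⁻¹ * a' * g ≠ 1 := by
      intro e
      apply ha1'
      have := congrArg (fun t => g * t * g⁻¹) e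
      simpa [mul_assoc] using this
    obtain ⟨b, hb, hb1, e⟩ := hc _ ha' ha1
    refine ⟨g * b * g⁻¹, ?_, ?_, ?_⟩
    · rw [mem_conjBy]
      have : g⁻¹ * (g * b * g⁻¹) * g = b := by group
      rwa [this]
    · intro e'
      apply hb1
      have := congrArg (fun t => g⁻¹ * t * g) e'
      simpa [mul_assoc] using this
    · rw [conjBy_conjBy, conjBy_conjBy]
      have e1 : (g * b * g⁻¹)⁻¹ * g = g * b⁻¹ := by group
      have e2 : a'⁻¹ * g = g * (g⁻¹ * a' * g)⁻¹ := by group
      rw [e1, e2, conjBy_mul, conjBy_mul, e]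
  refine ⟨?_, ?_, ?_, key h.cond_left, key h.cond_right⟩
  · intro e
    exact h.ne (conjBy_inj e)
  · have := h.nilpotent_left
    exact Group.nilpotent_of_mulEquiv
      (A.equivMapOfInjective (MulAut.conj g).toMonoidHom (MulAut.conj g).injective)
  · have := h.nilpotent_right
    exact Group.nilpotent_of_mulEquiv
      (B.equivMapOfInjective (MulAut.conj g).toMonoidHom (MulAut.conj g).injective)

theorem exists_conj_eq_left (hC : C ∈ unipotentSubgroups A B) :
    ∃ x ∈ A ⊔ B, conjBy C x = A := by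
  obtain ⟨y, hy, rfl⟩ := hC
  exact ⟨y⁻¹, Subgroup.inv_mem _ hy, by rw [conjBy_conjBy, inv_mul_cancel, conjBy_one]⟩

/-- `⟨A, B⟩` is doubly transitive on `Ω`. -/
theorem two_transitive (h : IsRankOnePair A B) {C₁ C₂ D₁ D₂ : Subgroup G}
    (hC₁ : C₁ ∈ unipotentSubgroups A B) (hC₂ : C₂ ∈ unipotentSubgroups A B)
    (hD₁ : D₁ ∈ unipotentSubgroups A B) (hD₂ : D₂ ∈ unipotentSubgroups A B)
    (hC : C₁ ≠ C₂) (hD : D₁ ≠ D₂) :
    ∃ x ∈ A ⊔ B, conjBy C₁ x = D₁ ∧ conjBy C₂ x = D₂ := by
  obtain ⟨x, hx, ex⟩ := exists_conj_eq_left hC₁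
  obtain ⟨y, hy, ey⟩ := exists_conj_eq_left hD₁
  have hC₂' : conjBy C₂ x ≠ A := by
    intro e
    rw [← ex] at e
    exact hC (conjBy_inj e).symm
  have hD₂' : conjBy D₂ y ≠ A := by
    intro e
    rw [← ey] at e
    exact hD (conjBy_inj e).symm
  obtain ⟨a, ⟨ha, e⟩, _⟩ := regular h (conjBy_mem_unipotent hC₂ hx) (conjBy_mem_unipotent hD₂ hy)
    hC₂' hD₂'
  refine ⟨y⁻¹ * (a * x), ?_, ?_, ?_⟩
  · exact Subgroup.mul_mem _ (Subgroup.inv_mem _ hy)
      (Subgroup.mul_mem _ (Subgroup.mem_sup_left ha) hx)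
  · rw [conjBy_mul, conjBy_mul, ex, conjBy_of_mem ha, ← ey, conjBy_conjBy, inv_mul_cancel,
      conjBy_one]
  · rw [conjBy_mul, conjBy_mul, e, conjBy_conjBy, inv_mul_cancel, conjBy_one]

theorem conjBy_sup (C D : Subgroup G) (x : G) : conjBy (C ⊔ D) x = conjBy C x ⊔ conjBy D x :=
  Subgroup.map_sup C D _

theorem conjBy_of_mem' {K : Subgroup G} {x : G} (hx : x ∈ K) : conjBy K x = K := conjBy_of_mem hx

/-- Any two distinct unipotent subgroups form a rank one pair generating `⟨A, B⟩`. -/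
theorem pair_of_unipotent (h : IsRankOnePair A B) (hC : C ∈ unipotentSubgroups A B)
    (hD : D ∈ unipotentSubgroups A B) (hne : C ≠ D) : IsRankOnePair C D ∧ C ⊔ D = A ⊔ B := by
  obtain ⟨x, hx, e1, e2⟩ := two_transitive h left_mem_unipotent (right_mem_unipotent h) hC hD
    h.ne hne
  refine ⟨?_, ?_⟩
  · rw [← e1, ← e2]; exact isRankOnePair_conj h x
  · rw [← e1, ← e2, ← conjBy_sup, conjBy_of_mem hx]

theorem unipotent_eq_of_mem (h : IsRankOnePair A B) (hC : C ∈ unipotentSubgroups A B)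
    (hD : D ∈ unipotentSubgroups A B) (hne : C ≠ D) :
    unipotentSubgroups C D = unipotentSubgroups A B := by
  have hsup := (pair_of_unipotent h hC hD hne).2
  ext E
  constructor
  · rintro ⟨x, hx, rfl⟩
    rw [hsup] at hx
    exact conjBy_mem_unipotent hC hx
  · intro hE
    obtain ⟨y, hy, rfl⟩ := hC
    obtain ⟨z, hz, rfl⟩ := hE
    refine ⟨z * y⁻¹, ?_, ?_⟩
    · rw [hsup]; exact Subgroup.mul_mem _ hz (Subgroup.inv_mem _ hy)
    · rw [conjBy_conjBy]; congr 1; group

theorem unipotent_symm (h : IsRankOnePair A B) : unipotentSubgroups B A = unipotentSubgroups A B :=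
  unipotent_eq_of_mem h (right_mem_unipotent h) left_mem_unipotent h.ne.symm

/-- The set of unipotent subgroups has at least three members. -/
theorem exists_third (h : IsRankOnePair A B) :
    ∃ C ∈ unipotentSubgroups A B, C ≠ A ∧ C ≠ B := by
  obtain ⟨a, ha, ha1⟩ := exists_nonid h
  refine ⟨conjBy B a, conjBy_mem_unipotent (right_mem_unipotent h) (Subgroup.mem_sup_left ha),
    conjBy_right_ne_left h ha, ?_⟩
  intro e
  exact ha1 (eq_one_of_conjBy_right h ha e)

/-- An element of `⟨A, B⟩` normalising every unipotent subgroup is central in `⟨A, B⟩`. -/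
theorem comm_of_fixes_all (h : IsRankOnePair A B) {z : G}
    (hzfix : ∀ C ∈ unipotentSubgroups A B, conjBy C z = C) :
    ∀ x ∈ A ⊔ B, z * x = x * z := by
  have key : ∀ {A B : Subgroup G}, IsRankOnePair A B →
      (∀ C ∈ unipotentSubgroups A B, conjBy C z = C) → ∀ a ∈ A, z * a = a * z := by
    intro A B h hzfix a ha
    have hzA : conjBy A z = A := hzfix A left_mem_unipotent
    have hzA' : conjBy A z⁻¹ = A := conjBy_inv_of_conjBy hzA
    have hzB' : conjBy B z⁻¹ = B := conjBy_inv_of_conjBy (hzfix B (right_mem_unipotent h))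
    have hmem : a * z * a⁻¹ * z⁻¹ ∈ A := by
      have h1 : z * a⁻¹ * z⁻¹ ∈ A := by
        have : z * a⁻¹ * z⁻¹ ∈ conjBy A z := by
          rw [mem_conjBy]
          have : z⁻¹ * (z * a⁻¹ * z⁻¹) * z = a⁻¹ := by group
          rw [this]; exact A.inv_mem ha
        rwa [hzA] at this
      have := A.mul_mem ha h1
      have e : a * (z * a⁻¹ * z⁻¹) = a * z * a⁻¹ * z⁻¹ := by group
      rwa [e] at this
    have hfix : conjBy B (a * z * a⁻¹ * z⁻¹) = B := by
      rw [conjBy_mul, conjBy_mul, conjBy_mul, hzB',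
        hzfix _ (conjBy_mem_unipotent (right_mem_unipotent h)
          (Subgroup.mem_sup_left (A.inv_mem ha))), conjBy_conjBy, mul_inv_cancel, conjBy_one]
    have := eq_one_of_conjBy_right h hmem hfix
    have := congrArg (· * (z * a)) this
    have := this.symm
    simpa [mul_assoc] using this
  intro x hx
  refine sup_induction' (p := fun x => z * x = x * z) ?_ ?_ ?_ ?_ hx
  · exact fun a ha => key h hzfix a ha
  · intro b hb
    refine key (RankOnePair_symm h) ?_ b hb
    rw [unipotent_symm h]; exact hzfix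
  · simp
  · intro x y hx hy
    rw [← mul_assoc, hx, mul_assoc, hy, mul_assoc]

end Cfsg.Agent.Helper7.R1
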