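import Mathlib
import Cfsg.Prelude.Def_ChevStructure
import Cfsg.Prelude.Def_ChevG2
import Cfsg.Prelude.Def_ChevB2
import Cfsg.Prelude.Def_ChevD4
import Cfsg.Prelude.Def_ChevF4
import Cfsg.Prelude.Def_ChevE6
import Cfsg.Prelude.Def_ChevE7
import Cfsg.Prelude.Def_ChevE8

set_option autoImplicit false

namespace Cfsg.Agent.Helper7

open Cfsg Cfsg.Lie

/-- The list of the seven tabulated Chevalley data. -/
def chevList : List ChevalleyDatum := [chevG2, chevB2, chevD4, chevF4, chevE6, chevE7, chevE8]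

/-- A property holding for each of the seven data holds for every member of the list. -/
theorem chev_cases {p : ChevalleyDatum → Prop} (D : ChevalleyDatum)
    (hD : D ∈ [chevG2, chevB2, chevD4, chevF4, chevE6, chevE7, chevE8])
    (h1 : p chevG2) (h2 : p chevB2) (h3 : p chevD4) (h4 : p chevF4) (h5 : p chevE6) (h6 : p chevE7)
    (h7 : p chevE8) : p D := by
  simp only [List.mem_cons, List.not_mem_nil, or_false] at hD
  rcases hD with rfl | rfl | rfl | rfl | rfl | rfl | rfl <;> assumption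

set_option maxRecDepth 100000 in
theorem pos_or_neg_G2 : ∀ r < chevG2.nroots, chevG2.IsPosRoot r ∨ chevG2.IsNegRoot r := by decide
set_option maxRecDepth 100000 in
theorem pos_or_neg_B2 : ∀ r < chevB2.nroots, chevB2.IsPosRoot r ∨ chevB2.IsNegRoot r := by decide
set_option maxRecDepth 100000 in
theorem pos_or_neg_D4 : ∀ r < chevD4.nroots, chevD4.IsPosRoot r ∨ chevD4.IsNegRoot r := by decide
set_option maxRecDepth 100000 in
theorem pos_or_neg_F4 : ∀ r < chevF4.nroots, chevF4.IsPosRoot r ∨ chevF4.IsNegRoot r := by decide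
set_option maxRecDepth 100000 in
theorem pos_or_neg_E6 : ∀ r < chevE6.nroots, chevE6.IsPosRoot r ∨ chevE6.IsNegRoot r := by decide
set_option maxRecDepth 100000 in
theorem pos_or_neg_E7 : ∀ r < chevE7.nroots, chevE7.IsPosRoot r ∨ chevE7.IsNegRoot r := by decide
set_option maxRecDepth 100000 in
theorem pos_or_neg_E8 : ∀ r < chevE8.nroots, chevE8.IsPosRoot r ∨ chevE8.IsNegRoot r := by decide

/-- Every root of a tabulated datum is positive or negative. -/
theorem pos_or_neg (D : ChevalleyDatum)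
    (hD : D ∈ [chevG2, chevB2, chevD4, chevF4, chevE6, chevE7, chevE8]) :
    ∀ r < D.nroots, D.IsPosRoot r ∨ D.IsNegRoot r :=
  chev_cases (p := fun D => ∀ r < D.nroots, D.IsPosRoot r ∨ D.IsNegRoot r) D hD
    pos_or_neg_G2 pos_or_neg_B2 pos_or_neg_D4 pos_or_neg_F4 pos_or_neg_E6 pos_or_neg_E7 pos_or_neg_E8

theorem x_of_lt (D : ChevalleyDatum) (F : Type*) [Field F] {r : ℕ} (h : r < D.nroots) (t : F) :
    D.x F r t = D.xMat F ⟨r, h⟩ t := by
  simp [ChevalleyDatum.x, h]

end Cfsg.Agent.Helper7
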