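import Mathlib
import Cfsg.Agent.Helper7.ChevBasic

set_option autoImplicit false
set_option linter.unusedSectionVars false

/-!
Columns of the root elements `x_r(t)` as explicit vectors (valid for every datum), with the chain part
read off `chainEntry` when the keys of the chain rows are pairwise distinct.
-/

namespace Cfsg.Agent.Helper7.Chev

open Cfsg Cfsg.Lie Matrix

variable (D : ChevalleyDatum) (F : Type*) [Field F]

/-- The basis vector `e_u`, for a root index given as a natural number (zero out of range). -/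
def eR (u : ℕ) : D.Idx → F := if h : u < D.nroots then Pi.single (Sum.inr ⟨u, h⟩) 1 else 0

/-- The basis vector `h_{p_i}`. -/
def eH (i : Fin D.rank) : D.Idx → F := Pi.single (Sum.inl i) 1

/-- The coefficient `c_i(r)` of the coroot `h_r` on `h_{p_i}`. -/
def cr (r i : ℕ) : ℤ := (D.coroot.getD r #[]).getD i 0

/-- The coroot vector `h_r = Σ c_i(r) h_{p_i}`. -/
def hR (r : ℕ) : D.Idx → F := ∑ i : Fin D.rank, ((cr D r i.val : ℤ) : F) • eH D F i

/-- The chain part of the column of `x_r(t)` at `e_s`. -/
def chainVec (r s : ℕ) (t : F) : D.Idx → F :=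
  ((D.chainEntry r s).zipIdx.map fun q => (((q.1.2 : ℤ) : F) * t ^ (q.2 + 1)) • eR D F q.1.1).sum

/-- The keys of the `r`-th chain row are pairwise distinct. -/
def KeysNodup (r : ℕ) : Prop := ((D.chain.getD r #[]).toList.map Prod.fst).Nodup

variable {D F}

theorem eR_of_lt {u : ℕ} (h : u < D.nroots) : eR D F u = Pi.single (Sum.inr ⟨u, h⟩) 1 := by
  simp [eR, h]

theorem eR_apply_inl (u : ℕ) (i : Fin D.rank) : eR D F u (Sum.inl i) = 0 := by
  unfold eR
  split_ifs <;> simp

theorem eR_apply_inr (u : ℕ) (v : Fin D.nroots) : eR D F u (Sum.inr v) = if u = v.val then 1 else 0 := by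
  unfold eR
  split_ifs with h1 h2 h2
  · subst h2; simp
  · rw [Pi.single_apply, if_neg]
    intro h; apply h2
    have := Sum.inr.inj h
    exact (congrArg Fin.val this).symm
  · exfalso; rw [h2] at h1; exact h1 v.2
  · rfl

theorem eH_apply_inl (i j : Fin D.rank) : eH D F i (Sum.inl j) = if i = j then 1 else 0 := by
  unfold eH
  rw [Pi.single_apply]
  by_cases h : i = j
  · subst h; simp
  · rw [if_neg h, if_neg]
    intro h'; exact h (Sum.inl.inj h').symm

theorem eH_apply_inr (i : Fin D.rank) (v : Fin D.nroots) : eH D F i (Sum.inr v) = 0 := by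
  unfold eH
  simp

theorem hR_apply_inl (r : ℕ) (j : Fin D.rank) : hR D F r (Sum.inl j) = ((cr D r j.val : ℤ) : F) := by
  unfold hR
  rw [Finset.sum_apply]
  simp only [Pi.smul_apply, eH_apply_inl, smul_eq_mul, mul_ite, mul_one, mul_zero]
  rw [Finset.sum_ite_eq' Finset.univ j]
  simp

theorem hR_apply_inr (r : ℕ) (v : Fin D.nroots) : hR D F r (Sum.inr v) = 0 := by
  unfold hR
  rw [Finset.sum_apply]
  simp [eH_apply_inr]

/-- With distinct keys, filtering a row by key is the same as finding the first match. -/
theorem filter_key_eq {α : Type*} (row : List (ℕ × α)) (h : (row.map Prod.fst).Nodup) (s : ℕ) :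
    row.filter (fun e => e.1 = s) = (row.find? (fun e => e.1 = s)).toList := by
  induction row with
  | nil => rfl
  | cons e row ih =>
    rw [List.map_cons, List.nodup_cons] at h
    by_cases hes : e.1 = s
    · rw [List.filter_cons_of_pos (by simpa using hes), List.find?_cons_of_pos (by simpa using hes)]
      simp only [Option.toList_some, List.cons.injEq, true_and]
      rw [List.filter_eq_nil_iff]
      intro a ha
      simp only [decide_eq_true_eq]
      intro has
      apply h.1
      rw [hes, ← has]
      exact List.mem_map_of_mem (f := Prod.fst) ha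
    · rw [List.filter_cons_of_neg (by simpa using hes), List.find?_cons_of_neg (by simpa using hes)]
      exact ih h.2

/-- With distinct keys, the chain coefficients are read off `chainEntry`. -/
theorem chainCoeff_eq {r : ℕ} (h : KeysNodup D r) (s u : ℕ) :
    D.chainCoeff r s u =
      ((D.chainEntry r s).zipIdx.filter (fun q => q.1.1 = u)).map fun q => (q.2 + 1, q.1.2) := by
  unfold ChevalleyDatum.chainCoeff ChevalleyDatum.chainEntry
  rw [filter_key_eq _ h s]
  cases (D.chain.getD r #[]).toList.find? (fun e => e.1 = s) with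
  | none => simp
  | some e => simp

theorem sum_map_filter_eq {α : Type*} (L : List α) (p : α → Prop) [DecidablePred p] (g : α → F) :
    ((L.filter (fun q => p q)).map g).sum = (L.map fun q => if p q then g q else 0).sum := by
  induction L with
  | nil => rfl
  | cons a L ih =>
    by_cases h : p a
    · rw [List.filter_cons_of_pos (by simpa using h), List.map_cons, List.sum_cons, List.map_cons,
        List.sum_cons, if_pos h, ih]
    · rw [List.filter_cons_of_neg (by simpa using h), List.map_cons, List.sum_cons, if_neg h,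
        zero_add, ih]

theorem list_sum_apply {ι : Type*} (L : List (ι → F)) (x : ι) :
    L.sum x = (L.map fun f => f x).sum := by
  induction L with
  | nil => rfl
  | cons a L ih => rw [List.sum_cons, Pi.add_apply, ih, List.map_cons, List.sum_cons]

/-- The chain vector has no coroot coordinates. -/
theorem chainVec_apply_inl (r s : ℕ) (t : F) (i : Fin D.rank) : chainVec D F r s t (Sum.inl i) = 0 := by
  unfold chainVec
  rw [list_sum_apply]
  apply List.sum_eq_zero
  intro x hx
  simp only [List.mem_map] at hx
  obtain ⟨f, ⟨q, _, rfl⟩, rfl⟩ := hx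
  simp [eR_apply_inl]

/-- The root coordinates of the chain vector are the chain-coefficient polynomials. -/
theorem chainVec_apply_inr {r : ℕ} (h : KeysNodup D r) (s : ℕ) (t : F) (u : Fin D.nroots) :
    chainVec D F r s t (Sum.inr u) =
      ((D.chainCoeff r s u.val).map fun km => ((km.2 : ℤ) : F) * t ^ km.1).sum := by
  unfold chainVec
  rw [list_sum_apply, chainCoeff_eq h, List.map_map, List.map_map, sum_map_filter_eq]
  congr 1
  apply List.map_congr_left
  intro q _
  simp only [Function.comp_apply, Pi.smul_apply, eR_apply_inr, smul_eq_mul, mul_ite, mul_one,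
    mul_zero]

variable (D F)

/-- Column of `x_r(t)` at `h_{p_i}`. -/
theorem x_mulVec_eH {r : ℕ} (hr : r < D.nroots) (t : F) (i : Fin D.rank) :
    D.x F r t *ᵥ eH D F i = eH D F i + (-((D.cartan i.val r : ℤ) : F) * t) • eR D F r := by
  rw [x_of_lt D F hr, eH, Matrix.mulVec_single_one]
  ext row
  rcases row with j | u
  · simp only [Matrix.col_apply, ChevalleyDatum.xMat, Matrix.of_apply, Pi.add_apply, Pi.smul_apply,
      smul_eq_mul, eR_apply_inl, mul_zero, add_zero, Pi.single_apply, Sum.inl.injEq]
  · simp only [Matrix.col_apply, ChevalleyDatum.xMat, Matrix.of_apply, Pi.add_apply, Pi.smul_apply,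
      smul_eq_mul, eR_apply_inr, Pi.single_apply, reduceCtorEq, if_false, zero_add]
    by_cases h : u = ⟨r, hr⟩
    · subst h; simp [ChevalleyDatum.cartan]
    · rw [if_neg h, if_neg, mul_zero]
      intro h'; apply h; exact Fin.ext h'.symm

/-- Column of `x_r(t)` at `e_r`. -/
theorem x_mulVec_eR_self {r : ℕ} (hr : r < D.nroots) (t : F) :
    D.x F r t *ᵥ eR D F r = eR D F r := by
  rw [x_of_lt D F hr, eR_of_lt hr, Matrix.mulVec_single_one]
  ext row
  rcases row with j | u
  · simp only [Matrix.col_apply, ChevalleyDatum.xMat, Matrix.of_apply, if_true, Pi.single_apply,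
      reduceCtorEq, if_false]
  · simp only [Matrix.col_apply, ChevalleyDatum.xMat, Matrix.of_apply, if_true, Pi.single_apply,
      Sum.inr.injEq]

/-- Column of `x_r(t)` at `e_{-r}`. -/
theorem x_mulVec_eR_neg {r : ℕ} (hr : r < D.nroots) (hn : D.neg r < D.nroots) (hne : D.neg r ≠ r)
    (t : F) :
    D.x F r t *ᵥ eR D F (D.neg r) = eR D F (D.neg r) + t • hR D F r + (-(t ^ 2)) • eR D F r := by
  rw [x_of_lt D F hr, eR_of_lt hn, Matrix.mulVec_single_one]
  have h1 : (⟨D.neg r, hn⟩ : Fin D.nroots) ≠ ⟨r, hr⟩ := fun h => hne (congrArg Fin.val h)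
  have h2 : (⟨D.neg r, hn⟩ : Fin D.nroots).val = D.negIdx.getD (⟨r, hr⟩ : Fin D.nroots).val 0 := rfl
  ext row
  rcases row with j | u
  · simp only [Matrix.col_apply, ChevalleyDatum.xMat, Matrix.of_apply, Pi.add_apply, Pi.smul_apply,
      smul_eq_mul, if_neg h1, if_pos h2, eR_apply_inl, hR_apply_inl, mul_zero, add_zero,
      Pi.single_apply, reduceCtorEq, if_false, zero_add, cr]
    ring
  · simp only [Matrix.col_apply, ChevalleyDatum.xMat, Matrix.of_apply, Pi.add_apply, Pi.smul_apply,
      smul_eq_mul, if_neg h1, if_pos h2, eR_apply_inr, hR_apply_inr, mul_zero, add_zero,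
      Pi.single_apply, Sum.inr.injEq]
    by_cases hu : u = ⟨D.neg r, hn⟩
    · subst hu
      rw [if_pos rfl, if_pos rfl, if_neg (fun h => hne h.symm)]
      simp
    · rw [if_neg hu, if_neg hu, zero_add]
      by_cases hur : u = ⟨r, hr⟩
      · subst hur; simp
      · rw [if_neg hur, if_neg, mul_zero]
        intro h'; apply hur; exact Fin.ext h'.symm

/-- Column of `x_r(t)` at `e_s`, `s ≠ ±r`. -/
theorem x_mulVec_eR_other {r : ℕ} (hr : r < D.nroots) (hk : KeysNodup D r) {s : ℕ}
    (hs : s < D.nroots) (hsr : s ≠ r) (hsn : s ≠ D.neg r) (t : F) :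
    D.x F r t *ᵥ eR D F s = eR D F s + chainVec D F r s t := by
  rw [x_of_lt D F hr, eR_of_lt hs, Matrix.mulVec_single_one]
  have h1 : (⟨s, hs⟩ : Fin D.nroots) ≠ ⟨r, hr⟩ := fun h => hsr (congrArg Fin.val h)
  have h2 : ¬ (⟨s, hs⟩ : Fin D.nroots).val = D.negIdx.getD (⟨r, hr⟩ : Fin D.nroots).val 0 := hsn
  ext row
  rcases row with j | u
  · simp only [Matrix.col_apply, ChevalleyDatum.xMat, Matrix.of_apply, Pi.add_apply, if_neg h1,
      if_neg h2, chainVec_apply_inl, Pi.single_apply, reduceCtorEq, if_false, add_zero]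
  · simp only [Matrix.col_apply, ChevalleyDatum.xMat, Matrix.of_apply, Pi.add_apply, if_neg h1,
      if_neg h2, chainVec_apply_inr hk, Pi.single_apply, Sum.inr.injEq]

end Cfsg.Agent.Helper7.Chev
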