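import Mathlib
import Cfsg.Prelude.Def_ChevAutomorphisms
import Cfsg.Agent.Helper7.ChevCols

set_option autoImplicit false

/-!
A fast mirror of a Chevalley datum: the tables as functions on natural numbers, decoded from a few
large numerals by shifts, so that table checks evaluate quickly in the kernel; and a fast bounded
universal quantifier.
-/

namespace Cfsg.Agent.Helper7.Chev

open Cfsg Cfsg.Lie

/-! ### A bounded quantifier that evaluates quickly -/

/-- Boolean bounded universal quantifier by primitive recursion. -/
def allLtB (n : ℕ) (p : ℕ → Bool) : Bool := Nat.rec true (fun k ih => p k && ih) n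

theorem allLtB_iff (n : ℕ) (p : ℕ → Bool) : allLtB n p = true ↔ ∀ k, k < n → p k = true := by
  induction n with
  | zero => simp [allLtB]
  | succ n ih =>
    have : allLtB (n + 1) p = (p n && allLtB n p) := rfl
    rw [this, Bool.and_eq_true, ih]
    constructor
    · rintro ⟨h1, h2⟩ k hk
      rcases Nat.lt_succ_iff_lt_or_eq.mp hk with h | h
      · exact h2 k h
      · exact h ▸ h1
    · intro h
      exact ⟨h n (Nat.lt_succ_self n), fun k hk => h k (Nat.lt_succ_of_lt hk)⟩

/-- Bounded universal quantifier with a decision procedure that evaluates quickly. -/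
def AllLt (n : ℕ) (P : ℕ → Prop) : Prop := ∀ k, k < n → P k

instance (n : ℕ) (P : ℕ → Prop) [DecidablePred P] : Decidable (AllLt n P) :=
  decidable_of_iff (allLtB n (fun k => decide (P k)) = true) (by
    rw [allLtB_iff]; simp [AllLt])

/-! ### Tables as functions -/

/-- The tables of a Chevalley datum as functions on natural numbers. -/
structure Tab where
  /-- number of roots -/
  n : ℕ
  /-- rank -/
  l : ℕ
  /-- index of `-r` -/
  neg : ℕ → ℕ
  /-- index of the `i`-th fundamental root -/
  simple : ℕ → ℕ
  /-- `cartan i s = A_{p_i, s}` -/
  cartan : ℕ → ℕ → ℤ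
  /-- `cr r i = c_i(r)` -/
  cr : ℕ → ℕ → ℤ
  /-- the chain entry of the pair `(r, s)` -/
  ce : ℕ → ℕ → List (ℕ × ℤ)

/-- The tables of a datum. -/
def tabOf (D : ChevalleyDatum) : Tab where
  n := D.nroots
  l := D.rank
  neg := D.neg
  simple := D.simple
  cartan := D.cartan
  cr := cr D
  ce := D.chainEntry

/-- The field of width `w` at position `i` of a numeral. -/
def fld (code w i : ℕ) : ℕ := (code >>> (w * i)) % 2 ^ w

/-- Decoding of one slot of a chain entry: `0` in the low byte means no slot. -/
def decSlot (x : ℕ) : Option (ℕ × ℤ) :=
  if x % 256 = 0 then none else some (x % 256 - 1, ((x / 256 % 16 : ℕ) : ℤ) - 8)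

/-- Decoding of a chain entry of at most three slots. -/
def decEntry (x : ℕ) : List (ℕ × ℤ) :=
  match decSlot (x % 4096) with
  | none => []
  | some a => a :: match decSlot (x / 4096 % 4096) with
    | none => []
    | some b => b :: match decSlot (x / 16777216 % 4096) with
      | none => []
      | some c => [c]

/-- The tables decoded from numerals. -/
def fastTab (n l : ℕ) (simples : List ℕ) (w cc ca co : ℕ) : Tab where
  n := n
  l := l
  neg r := if r < n then n - 1 - r else 0
  simple i := simples.getD i 0
  cartan i s := if i < l ∧ s < n then ((fld ca 4 (n * i + s) : ℕ) : ℤ) - 8 else 0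
  cr r i := if r < n ∧ i < l then ((fld co 4 (l * r + i) : ℕ) : ℤ) - 8 else 0
  ce r s := if r < n ∧ s < n then decEntry (fld cc w (n * r + s)) else []

/-- The entry of the row `r` at `s`, if not empty. -/
def rowEntry (T : Tab) (r s : ℕ) : Option (ℕ × List (ℕ × ℤ)) :=
  match T.ce r s with
  | [] => none
  | e => some (s, e)

theorem rowEntry_key (T : Tab) (r s : ℕ) (p : ℕ × List (ℕ × ℤ)) (h : rowEntry T r s = some p) :
    p.1 = s := by
  unfold rowEntry at h
  split at h
  · exact absurd h (by simp)
  · simp only [Option.some.injEq] at h
    rw [← h]

theorem rowEntry_snd (T : Tab) (r s : ℕ) :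
    (match rowEntry T r s with | none => [] | some p => p.2) = T.ce r s := by
  unfold rowEntry
  cases h : T.ce r s with
  | nil => rfl
  | cons a e => rfl

theorem find_filterMap_range (T : Tab) (r : ℕ) (n s : ℕ) :
    ((List.range n).filterMap (rowEntry T r)).find? (fun p => p.1 = s) =
      if s < n then rowEntry T r s else none := by
  induction n with
  | zero => simp
  | succ n ih =>
    rw [List.range_succ, List.filterMap_append, List.find?_append, ih]
    by_cases hs : s < n
    · rw [if_pos hs, if_pos (by omega)]
      cases h : rowEntry T r s with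
      | some p => simp
      | none =>
        simp only [Option.none_or]
        cases h2 : rowEntry T r n with
        | none => simp [h2]
        | some q =>
          have := rowEntry_key T r n q h2
          simp only [List.filterMap_cons, h2, List.filterMap_nil]
          rw [List.find?_cons_of_neg (by simp; omega)]
          rfl
    · rw [if_neg hs]
      simp only [Option.none_or]
      by_cases hsn : s = n
      · subst hsn
        rw [if_pos (by omega)]
        cases h2 : rowEntry T r s with
        | none => simp [h2]
        | some q =>
          have := rowEntry_key T r s q h2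
          simp only [List.filterMap_cons, h2, List.filterMap_nil]
          rw [List.find?_cons_of_pos (by simp; omega)]
      · rw [if_neg (by omega)]
        cases h2 : rowEntry T r n with
        | none => simp [h2]
        | some q =>
          have := rowEntry_key T r n q h2
          simp only [List.filterMap_cons, h2, List.filterMap_nil]
          rw [List.find?_cons_of_neg (by simp; omega)]
          rfl

/-- A row given as a filtered range determines the chain entries. -/
theorem chainEntry_of_row (D : ChevalleyDatum) (T : Tab) (r n : ℕ)
    (h : ((D.chain.getD r #[]).toList.map fun e => (e.1, e.2.toList)) =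
      (List.range n).filterMap (rowEntry T r)) (s : ℕ) :
    D.chainEntry r s = if s < n then T.ce r s else [] := by
  unfold ChevalleyDatum.chainEntry
  have h1 : ((D.chain.getD r #[]).toList.find? (fun e => e.1 = s)).map (fun e => (e.1, e.2.toList)) =
      ((D.chain.getD r #[]).toList.map fun e => (e.1, e.2.toList)).find? (fun p => p.1 = s) := by
    rw [List.find?_map]
    rfl
  rw [h, find_filterMap_range] at h1
  by_cases hs : s < n
  · rw [if_pos hs] at h1 ⊢
    rw [← rowEntry_snd T r s, ← h1]
    cases (D.chain.getD r #[]).toList.find? (fun e => e.1 = s) <;> rfl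
  · rw [if_neg hs] at h1 ⊢
    cases h3 : (D.chain.getD r #[]).toList.find? (fun e => e.1 = s) with
    | none => rfl
    | some e => rw [h3] at h1; simp at h1

/-- The arrays of the datum have the right sizes. -/
def MirrorSizes (D : ChevalleyDatum) (T : Tab) : Prop :=
  D.nroots = T.n ∧ D.rank = T.l ∧ D.negIdx.size = T.n ∧ D.cartanSR.size = T.l ∧ D.coroot.size = T.n ∧
  D.chain.size = T.n ∧ D.simpleIdx.size = T.l

/-- The decoded tables agree with the datum for the root `r`. -/
def MirrorRow (D : ChevalleyDatum) (T : Tab) (r : ℕ) : Prop :=
  D.neg r = T.neg r ∧ (D.coroot.getD r #[]).size = T.l ∧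
    AllLt T.l (fun i => cr D r i = T.cr r i) ∧
    ((D.chain.getD r #[]).toList.map fun e => (e.1, e.2.toList)) =
      (List.range T.n).filterMap (rowEntry T r)

/-- The decoded tables agree with the datum for the `i`-th fundamental root. -/
def MirrorSimple (D : ChevalleyDatum) (T : Tab) (i : ℕ) : Prop :=
  D.simple i = T.simple i ∧ (D.cartanSR.getD i #[]).size = T.n ∧
    AllLt T.n (fun s => D.cartan i s = T.cartan i s)

/-- The decoded tables agree with the datum on the index ranges, and the arrays have the right
sizes. -/
def Mirror (D : ChevalleyDatum) (T : Tab) : Prop :=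
  MirrorSizes D T ∧ AllLt T.n (MirrorRow D T) ∧ AllLt T.l (MirrorSimple D T)

instance (D : ChevalleyDatum) (T : Tab) : Decidable (MirrorSizes D T) := by
  unfold MirrorSizes; infer_instance

instance (D : ChevalleyDatum) (T : Tab) (r : ℕ) : Decidable (MirrorRow D T r) := by
  unfold MirrorRow; infer_instance

instance (D : ChevalleyDatum) (T : Tab) (i : ℕ) : Decidable (MirrorSimple D T i) := by
  unfold MirrorSimple; infer_instance

instance (D : ChevalleyDatum) (T : Tab) : Decidable (Mirror D T) := by unfold Mirror; infer_instance

theorem getD_of_size_le {α : Type*} (a : Array α) (i : ℕ) (d : α) (h : a.size ≤ i) : a.getD i d = d := by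
  simp [Array.getD, not_lt.mpr h]

/-- A mirror is equal to the tables of the datum. -/
theorem tabOf_eq_fast (D : ChevalleyDatum) (n l : ℕ) (simples : List ℕ) (w cc ca co : ℕ)
    (hs : simples.length = l) (h : Mirror D (fastTab n l simples w cc ca co)) :
    tabOf D = fastTab n l simples w cc ca co := by
  obtain ⟨⟨hn, hl, hsz1, hsz2, hsz3, hsz4, hsz5⟩, hA, hB⟩ := h
  change D.nroots = n at hn
  change D.rank = l at hl
  change D.negIdx.size = n at hsz1
  change D.cartanSR.size = l at hsz2
  change D.coroot.size = n at hsz3
  change D.chain.size = n at hsz4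
  change D.simpleIdx.size = l at hsz5
  unfold tabOf fastTab
  congr 1
  · funext r
    by_cases hr : r < n
    · exact (hA r hr).1
    · rw [if_neg hr]
      exact getD_of_size_le _ _ _ (by omega)
  · funext i
    by_cases hi : i < l
    · exact (hB i hi).1
    · change D.simpleIdx.getD i 0 = simples.getD i 0
      rw [getD_of_size_le _ _ _ (by omega), List.getD_eq_default _ _ (by omega)]
  · funext i s
    by_cases hi : i < l
    · by_cases hs' : s < n
      · exact (hB i hi).2.2 s hs'
      · rw [if_neg (by tauto)]
        change (D.cartanSR.getD i #[]).getD s 0 = 0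
        exact getD_of_size_le _ _ _ (by have := (hB i hi).2.1; change _ = n at this; omega)
    · rw [if_neg (by tauto)]
      change (D.cartanSR.getD i #[]).getD s 0 = 0
      rw [getD_of_size_le D.cartanSR i #[] (by omega)]
      rfl
  · funext r i
    by_cases hr : r < n
    · by_cases hi : i < l
      · exact (hA r hr).2.2.1 i hi
      · rw [if_neg (by tauto)]
        change (D.coroot.getD r #[]).getD i 0 = 0
        exact getD_of_size_le _ _ _ (by have := (hA r hr).2.1; change _ = l at this; omega)
    · rw [if_neg (by tauto)]
      change (D.coroot.getD r #[]).getD i 0 = 0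
      rw [getD_of_size_le D.coroot r #[] (by omega)]
      rfl
  · funext r s
    by_cases hr : r < n
    · have hrow := (hA r hr).2.2.2
      have := chainEntry_of_row D (fastTab n l simples w cc ca co) r n hrow s
      rw [this]
      by_cases hs' : s < n
      · rw [if_pos hs']
        rfl
      · rw [if_neg hs']
        change [] = if r < n ∧ s < n then _ else []
        rw [if_neg (by tauto)]
    · rw [if_neg (by tauto)]
      unfold ChevalleyDatum.chainEntry
      rw [getD_of_size_le D.chain r #[] (by omega)]
      rfl

end Cfsg.Agent.Helper7.Chev
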