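import Mathlib
import Cfsg.Agent.Helper7.ChevTab

set_option autoImplicit false

/-!
Table facts of level 1, stated for tables given as functions: the structure of the `r`-strings through
the roots, in a normal form with signs.
-/

namespace Cfsg.Agent.Helper7.Chev

open Cfsg Cfsg.Lie

namespace Tab

variable (T : Tab)

/-- The integer `2(r,s)/(r,r)`. -/
def pairing (r s : ℕ) : ℤ := ((List.range T.l).map fun i => T.cr r i * T.cartan i s).sum

/-- The part of the `r`-string below `s`, with the integers `M_{-r,s,i}`. -/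
def dn (r s : ℕ) : List (ℕ × ℤ) := T.ce (T.neg r) s

/-- The bottom of the `r`-string through `s`. -/
def bot (r s : ℕ) : ℕ := (((T.dn r s).getLast?).map Prod.fst).getD s

/-- The position of `s` in its `r`-string, counted from the bottom. -/
def pos (r s : ℕ) : ℕ := (T.dn r s).length

/-- The `r`-string through `s`, from the bottom up. -/
def str (r s : ℕ) : List ℕ := T.bot r s :: (T.ce r (T.bot r s)).map Prod.fst

/-- The sign attached to the `k`-th member of the `r`-string with bottom `b`. -/
def epsAt (r b k : ℕ) : ℤ :=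
  if k = 0 then 1 else Int.sign ((((T.ce r b)[k - 1]?).map Prod.snd).getD 1)

/-- The normal form of the `r`-string through `s`. -/
def StrOK (r s : ℕ) : Prop :=
  (T.str r s).length - 1 ≤ 3 ∧ T.pos r s ≤ (T.str r s).length - 1 ∧
  (T.str r s).getD (T.pos r s) 0 = s ∧ (T.str r s).Nodup ∧
  (∀ u ∈ T.str r s, u < T.n ∧ u ≠ r ∧ u ≠ T.neg r) ∧
  T.ce r s = (List.range ((T.str r s).length - 1 - T.pos r s)).map (fun i =>
    ((T.str r s).getD (T.pos r s + i + 1) 0,
      T.epsAt r (T.bot r s) (T.pos r s) * T.epsAt r (T.bot r s) (T.pos r s + i + 1) *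
        ((Nat.choose (T.pos r s + i + 1) (i + 1) : ℕ) : ℤ))) ∧
  T.dn r s = (List.range (T.pos r s)).map (fun i =>
    ((T.str r s).getD (T.pos r s - i - 1) 0,
      T.epsAt r (T.bot r s) (T.pos r s) * T.epsAt r (T.bot r s) (T.pos r s - i - 1) *
        ((Nat.choose ((T.str r s).length - 1 - T.pos r s + i + 1) (i + 1) : ℕ) : ℤ))) ∧
  AllLt (T.str r s).length (fun k => T.bot r ((T.str r s).getD k 0) = T.bot r s ∧
    T.pos r ((T.str r s).getD k 0) = k ∧
    T.epsAt r (T.bot r s) k * T.epsAt r (T.bot r s) k = 1) ∧
  T.pairing r s = 2 * (T.pos r s : ℤ) - (((T.str r s).length - 1 : ℕ) : ℤ)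

instance (r s : ℕ) : Decidable (T.StrOK r s) := by unfold StrOK; infer_instance

/-- Level-1 table facts for the root `r`. -/
def T1row (r : ℕ) : Prop :=
  T.neg r < T.n ∧ T.neg r ≠ r ∧ T.neg (T.neg r) = r ∧ T.pairing r r = 2 ∧
    AllLt T.l (fun i => T.cartan i (T.neg r) = - T.cartan i r ∧ T.cr (T.neg r) i = - T.cr r i) ∧
    AllLt T.n (fun s => s ≠ r → s ≠ T.neg r → T.StrOK r s)

instance (r : ℕ) : Decidable (T.T1row r) := by unfold T1row; infer_instance

/-- Level-1 table facts. -/
def T1 : Prop := AllLt T.n T.T1row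

instance : Decidable T.T1 := by unfold T1; infer_instance

/-- Facts on the fundamental roots: they are roots, their coroots are the fundamental coroots. -/
def T1s : Prop :=
  AllLt T.l (fun i => T.simple i < T.n ∧
    AllLt T.l (fun i' => T.cr (T.simple i) i' = if i' = i then 1 else 0))

instance : Decidable T.T1s := by unfold T1s; infer_instance

end Tab

/-- The keys of each chain row are strictly increasing. -/
def KeysSorted (D : ChevalleyDatum) : Prop :=
  AllLt D.nroots (fun r => ((D.chain.getD r #[]).toList.map Prod.fst).IsChain (· < ·))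

instance (D : ChevalleyDatum) : Decidable (KeysSorted D) := by unfold KeysSorted; infer_instance

theorem KeysSorted.keysNodup {D : ChevalleyDatum} (h : KeysSorted D) {r : ℕ} (hr : r < D.nroots) :
    KeysNodup D r := by
  have := h r hr
  unfold KeysNodup
  exact (List.isChain_iff_pairwise.mp this).imp (fun h => Nat.ne_of_lt h)

/-- Combining chunks of a bounded quantifier. -/
theorem allLt_chunks {P : ℕ → Prop} (c q : ℕ) (h : ∀ a < q, AllLt c (fun k => P (a * c + k))) :
    AllLt (q * c) P := by
  intro r hr
  have hc : 0 < c := by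
    rcases Nat.eq_zero_or_pos c with h | h
    · subst h; omega
    · exact h
  have hk : r % c < c := Nat.mod_lt _ hc
  have hq : r / c < q := by
    rw [Nat.div_lt_iff_lt_mul hc]; exact hr
  have hr' : r = (r / c) * c + r % c := by
    rw [Nat.mul_comm]; exact (Nat.div_add_mod r c).symm
  rw [hr']
  exact h _ hq _ hk

end Cfsg.Agent.Helper7.Chev
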