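import Mathlib
import Cfsg.Agent.Helper7.ChevCodes
import Cfsg.Agent.Helper7.ChevStr

set_option autoImplicit false

/-!
Table facts for the Chevalley datum of type B2, checked on the fast tables and transferred.
-/

namespace Cfsg.Agent.Helper7.Chev

open Cfsg Cfsg.Lie

set_option maxRecDepth 1000000 in
set_option maxHeartbeats 0 in
theorem mirror_B2 : Mirror chevB2 fastB2 := by decide +kernel

theorem tab_B2 : tabOf chevB2 = fastB2 :=
  tabOf_eq_fast chevB2 _ _ _ _ _ _ _ rfl mirror_B2

set_option maxRecDepth 1000000 in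
set_option maxHeartbeats 0 in
theorem keysSorted_B2 : KeysSorted chevB2 := by decide +kernel

set_option maxRecDepth 1000000 in
set_option maxHeartbeats 0 in
theorem T1sfast_B2 : fastB2.T1s := by decide +kernel

theorem T1s_B2 : (tabOf chevB2).T1s := tab_B2 ▸ T1sfast_B2

set_option maxRecDepth 1000000 in
set_option maxHeartbeats 0 in
theorem T1fast_B2 : fastB2.T1 := by decide +kernel

theorem T1_B2 : (tabOf chevB2).T1 := tab_B2 ▸ T1fast_B2

end Cfsg.Agent.Helper7.Chev
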