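import Mathlib
import Cfsg.Agent.Helper7.ChevCodes
import Cfsg.Agent.Helper7.ChevStr

set_option autoImplicit false

/-!
Table facts for the Chevalley datum of type D4, checked on the fast tables and transferred.
-/

namespace Cfsg.Agent.Helper7.Chev

open Cfsg Cfsg.Lie

set_option maxRecDepth 1000000 in
set_option maxHeartbeats 0 in
theorem mirror_D4 : Mirror chevD4 fastD4 := by decide +kernel

theorem tab_D4 : tabOf chevD4 = fastD4 :=
  tabOf_eq_fast chevD4 _ _ _ _ _ _ _ rfl mirror_D4

set_option maxRecDepth 1000000 in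
set_option maxHeartbeats 0 in
theorem keysSorted_D4 : KeysSorted chevD4 := by decide +kernel

set_option maxRecDepth 1000000 in
set_option maxHeartbeats 0 in
theorem T1sfast_D4 : fastD4.T1s := by decide +kernel

theorem T1s_D4 : (tabOf chevD4).T1s := tab_D4 ▸ T1sfast_D4

set_option maxRecDepth 1000000 in
set_option maxHeartbeats 0 in
theorem T1fast_D4 : fastD4.T1 := by decide +kernel

theorem T1_D4 : (tabOf chevD4).T1 := tab_D4 ▸ T1fast_D4

end Cfsg.Agent.Helper7.Chev
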