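import Mathlib
import Cfsg.Agent.Helper7.ChevCodes
import Cfsg.Agent.Helper7.ChevStr

set_option autoImplicit false

/-!
Table facts for the Chevalley datum of type E6, checked on the fast tables and transferred.
-/

namespace Cfsg.Agent.Helper7.Chev

open Cfsg Cfsg.Lie

set_option maxRecDepth 1000000 in
set_option maxHeartbeats 0 in
theorem mirrorRows_E6_0 : AllLt 9 (fun k => MirrorRow chevE6 fastE6 (0 * 9 + k)) := by
  decide +kernel

set_option maxRecDepth 1000000 in
set_option maxHeartbeats 0 in
theorem mirrorRows_E6_1 : AllLt 9 (fun k => MirrorRow chevE6 fastE6 (1 * 9 + k)) := by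
  decide +kernel

set_option maxRecDepth 1000000 in
set_option maxHeartbeats 0 in
theorem mirrorRows_E6_2 : AllLt 9 (fun k => MirrorRow chevE6 fastE6 (2 * 9 + k)) := by
  decide +kernel

set_option maxRecDepth 1000000 in
set_option maxHeartbeats 0 in
theorem mirrorRows_E6_3 : AllLt 9 (fun k => MirrorRow chevE6 fastE6 (3 * 9 + k)) := by
  decide +kernel

set_option maxRecDepth 1000000 in
set_option maxHeartbeats 0 in
theorem mirrorRows_E6_4 : AllLt 9 (fun k => MirrorRow chevE6 fastE6 (4 * 9 + k)) := by
  decide +kernel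

set_option maxRecDepth 1000000 in
set_option maxHeartbeats 0 in
theorem mirrorRows_E6_5 : AllLt 9 (fun k => MirrorRow chevE6 fastE6 (5 * 9 + k)) := by
  decide +kernel

set_option maxRecDepth 1000000 in
set_option maxHeartbeats 0 in
theorem mirrorRows_E6_6 : AllLt 9 (fun k => MirrorRow chevE6 fastE6 (6 * 9 + k)) := by
  decide +kernel

set_option maxRecDepth 1000000 in
set_option maxHeartbeats 0 in
theorem mirrorRows_E6_7 : AllLt 9 (fun k => MirrorRow chevE6 fastE6 (7 * 9 + k)) := by
  decide +kernel

theorem mirrorRows_E6 : AllLt (8 * 9) (MirrorRow chevE6 fastE6) := by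
  refine allLt_chunks (P := MirrorRow chevE6 fastE6) 9 8 ?_
  intro a ha
  interval_cases a
  · exact mirrorRows_E6_0
  · exact mirrorRows_E6_1
  · exact mirrorRows_E6_2
  · exact mirrorRows_E6_3
  · exact mirrorRows_E6_4
  · exact mirrorRows_E6_5
  · exact mirrorRows_E6_6
  · exact mirrorRows_E6_7

set_option maxRecDepth 1000000 in
set_option maxHeartbeats 0 in
theorem mirrorSizes_E6 : MirrorSizes chevE6 fastE6 := by decide +kernel

set_option maxRecDepth 1000000 in
set_option maxHeartbeats 0 in
theorem mirrorSimple_E6 : AllLt fastE6.l (MirrorSimple chevE6 fastE6) := by decide +kernel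

theorem mirror_E6 : Mirror chevE6 fastE6 := ⟨mirrorSizes_E6, mirrorRows_E6, mirrorSimple_E6⟩

theorem tab_E6 : tabOf chevE6 = fastE6 :=
  tabOf_eq_fast chevE6 _ _ _ _ _ _ _ rfl mirror_E6

set_option maxRecDepth 1000000 in
set_option maxHeartbeats 0 in
theorem keysSorted_E6 : KeysSorted chevE6 := by decide +kernel

set_option maxRecDepth 1000000 in
set_option maxHeartbeats 0 in
theorem T1sfast_E6 : fastE6.T1s := by decide +kernel

theorem T1s_E6 : (tabOf chevE6).T1s := tab_E6 ▸ T1sfast_E6

end Cfsg.Agent.Helper7.Chev
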