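import Mathlib
import Cfsg.Agent.Helper7.ChevCodes
import Cfsg.Agent.Helper7.ChevStr

set_option autoImplicit false

/-!
Table facts for the Chevalley datum of type E7, checked on the fast tables and transferred.
-/

namespace Cfsg.Agent.Helper7.Chev

open Cfsg Cfsg.Lie

set_option maxRecDepth 1000000 in
set_option maxHeartbeats 0 in
theorem mirrorRows_E7_0 : AllLt 9 (fun k => MirrorRow chevE7 fastE7 (0 * 9 + k)) := by
  decide +kernel

set_option maxRecDepth 1000000 in
set_option maxHeartbeats 0 in
theorem mirrorRows_E7_1 : AllLt 9 (fun k => MirrorRow chevE7 fastE7 (1 * 9 + k)) := by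
  decide +kernel

set_option maxRecDepth 1000000 in
set_option maxHeartbeats 0 in
theorem mirrorRows_E7_2 : AllLt 9 (fun k => MirrorRow chevE7 fastE7 (2 * 9 + k)) := by
  decide +kernel

set_option maxRecDepth 1000000 in
set_option maxHeartbeats 0 in
theorem mirrorRows_E7_3 : AllLt 9 (fun k => MirrorRow chevE7 fastE7 (3 * 9 + k)) := by
  decide +kernel

set_option maxRecDepth 1000000 in
set_option maxHeartbeats 0 in
theorem mirrorRows_E7_4 : AllLt 9 (fun k => MirrorRow chevE7 fastE7 (4 * 9 + k)) := by
  decide +kernel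

set_option maxRecDepth 1000000 in
set_option maxHeartbeats 0 in
theorem mirrorRows_E7_5 : AllLt 9 (fun k => MirrorRow chevE7 fastE7 (5 * 9 + k)) := by
  decide +kernel

set_option maxRecDepth 1000000 in
set_option maxHeartbeats 0 in
theorem mirrorRows_E7_6 : AllLt 9 (fun k => MirrorRow chevE7 fastE7 (6 * 9 + k)) := by
  decide +kernel

set_option maxRecDepth 1000000 in
set_option maxHeartbeats 0 in
theorem mirrorRows_E7_7 : AllLt 9 (fun k => MirrorRow chevE7 fastE7 (7 * 9 + k)) := by
  decide +kernel

set_option maxRecDepth 1000000 in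
set_option maxHeartbeats 0 in
theorem mirrorRows_E7_8 : AllLt 9 (fun k => MirrorRow chevE7 fastE7 (8 * 9 + k)) := by
  decide +kernel

set_option maxRecDepth 1000000 in
set_option maxHeartbeats 0 in
theorem mirrorRows_E7_9 : AllLt 9 (fun k => MirrorRow chevE7 fastE7 (9 * 9 + k)) := by
  decide +kernel

set_option maxRecDepth 1000000 in
set_option maxHeartbeats 0 in
theorem mirrorRows_E7_10 : AllLt 9 (fun k => MirrorRow chevE7 fastE7 (10 * 9 + k)) := by
  decide +kernel

set_option maxRecDepth 1000000 in
set_option maxHeartbeats 0 in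
theorem mirrorRows_E7_11 : AllLt 9 (fun k => MirrorRow chevE7 fastE7 (11 * 9 + k)) := by
  decide +kernel

set_option maxRecDepth 1000000 in
set_option maxHeartbeats 0 in
theorem mirrorRows_E7_12 : AllLt 9 (fun k => MirrorRow chevE7 fastE7 (12 * 9 + k)) := by
  decide +kernel

set_option maxRecDepth 1000000 in
set_option maxHeartbeats 0 in
theorem mirrorRows_E7_13 : AllLt 9 (fun k => MirrorRow chevE7 fastE7 (13 * 9 + k)) := by
  decide +kernel

theorem mirrorRows_E7 : AllLt (14 * 9) (MirrorRow chevE7 fastE7) := by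
  refine allLt_chunks (P := MirrorRow chevE7 fastE7) 9 14 ?_
  intro a ha
  interval_cases a
  · exact mirrorRows_E7_0
  · exact mirrorRows_E7_1
  · exact mirrorRows_E7_2
  · exact mirrorRows_E7_3
  · exact mirrorRows_E7_4
  · exact mirrorRows_E7_5
  · exact mirrorRows_E7_6
  · exact mirrorRows_E7_7
  · exact mirrorRows_E7_8
  · exact mirrorRows_E7_9
  · exact mirrorRows_E7_10
  · exact mirrorRows_E7_11
  · exact mirrorRows_E7_12
  · exact mirrorRows_E7_13

set_option maxRecDepth 1000000 in
set_option maxHeartbeats 0 in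
theorem mirrorSizes_E7 : MirrorSizes chevE7 fastE7 := by decide +kernel

set_option maxRecDepth 1000000 in
set_option maxHeartbeats 0 in
theorem mirrorSimple_E7 : AllLt fastE7.l (MirrorSimple chevE7 fastE7) := by decide +kernel

theorem mirror_E7 : Mirror chevE7 fastE7 := ⟨mirrorSizes_E7, mirrorRows_E7, mirrorSimple_E7⟩

theorem tab_E7 : tabOf chevE7 = fastE7 :=
  tabOf_eq_fast chevE7 _ _ _ _ _ _ _ rfl mirror_E7

set_option maxRecDepth 1000000 in
set_option maxHeartbeats 0 in
theorem keysSorted_E7 : KeysSorted chevE7 := by decide +kernel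

set_option maxRecDepth 1000000 in
set_option maxHeartbeats 0 in
theorem T1sfast_E7 : fastE7.T1s := by decide +kernel

theorem T1s_E7 : (tabOf chevE7).T1s := tab_E7 ▸ T1sfast_E7

end Cfsg.Agent.Helper7.Chev
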