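import Mathlib
import Cfsg.Agent.Helper7.ChevCodes
import Cfsg.Agent.Helper7.ChevStr

set_option autoImplicit false

/-!
Table facts for the Chevalley datum of type E8, checked on the fast tables and transferred.
-/

namespace Cfsg.Agent.Helper7.Chev

open Cfsg Cfsg.Lie

set_option maxRecDepth 1000000 in
set_option maxHeartbeats 0 in
theorem mirrorRows_E8_0 : AllLt 10 (fun k => MirrorRow chevE8 fastE8 (0 * 10 + k)) := by
  decide +kernel

set_option maxRecDepth 1000000 in
set_option maxHeartbeats 0 in
theorem mirrorRows_E8_1 : AllLt 10 (fun k => MirrorRow chevE8 fastE8 (1 * 10 + k)) := by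
  decide +kernel

set_option maxRecDepth 1000000 in
set_option maxHeartbeats 0 in
theorem mirrorRows_E8_2 : AllLt 10 (fun k => MirrorRow chevE8 fastE8 (2 * 10 + k)) := by
  decide +kernel

set_option maxRecDepth 1000000 in
set_option maxHeartbeats 0 in
theorem mirrorRows_E8_3 : AllLt 10 (fun k => MirrorRow chevE8 fastE8 (3 * 10 + k)) := by
  decide +kernel

set_option maxRecDepth 1000000 in
set_option maxHeartbeats 0 in
theorem mirrorRows_E8_4 : AllLt 10 (fun k => MirrorRow chevE8 fastE8 (4 * 10 + k)) := by
  decide +kernel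

set_option maxRecDepth 1000000 in
set_option maxHeartbeats 0 in
theorem mirrorRows_E8_5 : AllLt 10 (fun k => MirrorRow chevE8 fastE8 (5 * 10 + k)) := by
  decide +kernel

set_option maxRecDepth 1000000 in
set_option maxHeartbeats 0 in
theorem mirrorRows_E8_6 : AllLt 10 (fun k => MirrorRow chevE8 fastE8 (6 * 10 + k)) := by
  decide +kernel

set_option maxRecDepth 1000000 in
set_option maxHeartbeats 0 in
theorem mirrorRows_E8_7 : AllLt 10 (fun k => MirrorRow chevE8 fastE8 (7 * 10 + k)) := by
  decide +kernel

set_option maxRecDepth 1000000 in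
set_option maxHeartbeats 0 in
theorem mirrorRows_E8_8 : AllLt 10 (fun k => MirrorRow chevE8 fastE8 (8 * 10 + k)) := by
  decide +kernel

set_option maxRecDepth 1000000 in
set_option maxHeartbeats 0 in
theorem mirrorRows_E8_9 : AllLt 10 (fun k => MirrorRow chevE8 fastE8 (9 * 10 + k)) := by
  decide +kernel

set_option maxRecDepth 1000000 in
set_option maxHeartbeats 0 in
theorem mirrorRows_E8_10 : AllLt 10 (fun k => MirrorRow chevE8 fastE8 (10 * 10 + k)) := by
  decide +kernel

set_option maxRecDepth 1000000 in
set_option maxHeartbeats 0 in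
theorem mirrorRows_E8_11 : AllLt 10 (fun k => MirrorRow chevE8 fastE8 (11 * 10 + k)) := by
  decide +kernel

set_option maxRecDepth 1000000 in
set_option maxHeartbeats 0 in
theorem mirrorRows_E8_12 : AllLt 10 (fun k => MirrorRow chevE8 fastE8 (12 * 10 + k)) := by
  decide +kernel

set_option maxRecDepth 1000000 in
set_option maxHeartbeats 0 in
theorem mirrorRows_E8_13 : AllLt 10 (fun k => MirrorRow chevE8 fastE8 (13 * 10 + k)) := by
  decide +kernel

set_option maxRecDepth 1000000 in
set_option maxHeartbeats 0 in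
theorem mirrorRows_E8_14 : AllLt 10 (fun k => MirrorRow chevE8 fastE8 (14 * 10 + k)) := by
  decide +kernel

set_option maxRecDepth 1000000 in
set_option maxHeartbeats 0 in
theorem mirrorRows_E8_15 : AllLt 10 (fun k => MirrorRow chevE8 fastE8 (15 * 10 + k)) := by
  decide +kernel

set_option maxRecDepth 1000000 in
set_option maxHeartbeats 0 in
theorem mirrorRows_E8_16 : AllLt 10 (fun k => MirrorRow chevE8 fastE8 (16 * 10 + k)) := by
  decide +kernel

set_option maxRecDepth 1000000 in
set_option maxHeartbeats 0 in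
theorem mirrorRows_E8_17 : AllLt 10 (fun k => MirrorRow chevE8 fastE8 (17 * 10 + k)) := by
  decide +kernel

set_option maxRecDepth 1000000 in
set_option maxHeartbeats 0 in
theorem mirrorRows_E8_18 : AllLt 10 (fun k => MirrorRow chevE8 fastE8 (18 * 10 + k)) := by
  decide +kernel

set_option maxRecDepth 1000000 in
set_option maxHeartbeats 0 in
theorem mirrorRows_E8_19 : AllLt 10 (fun k => MirrorRow chevE8 fastE8 (19 * 10 + k)) := by
  decide +kernel

set_option maxRecDepth 1000000 in
set_option maxHeartbeats 0 in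
theorem mirrorRows_E8_20 : AllLt 10 (fun k => MirrorRow chevE8 fastE8 (20 * 10 + k)) := by
  decide +kernel

set_option maxRecDepth 1000000 in
set_option maxHeartbeats 0 in
theorem mirrorRows_E8_21 : AllLt 10 (fun k => MirrorRow chevE8 fastE8 (21 * 10 + k)) := by
  decide +kernel

set_option maxRecDepth 1000000 in
set_option maxHeartbeats 0 in
theorem mirrorRows_E8_22 : AllLt 10 (fun k => MirrorRow chevE8 fastE8 (22 * 10 + k)) := by
  decide +kernel

set_option maxRecDepth 1000000 in
set_option maxHeartbeats 0 in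
theorem mirrorRows_E8_23 : AllLt 10 (fun k => MirrorRow chevE8 fastE8 (23 * 10 + k)) := by
  decide +kernel

theorem mirrorRows_E8 : AllLt (24 * 10) (MirrorRow chevE8 fastE8) := by
  refine allLt_chunks (P := MirrorRow chevE8 fastE8) 10 24 ?_
  intro a ha
  interval_cases a
  · exact mirrorRows_E8_0
  · exact mirrorRows_E8_1
  · exact mirrorRows_E8_2
  · exact mirrorRows_E8_3
  · exact mirrorRows_E8_4
  · exact mirrorRows_E8_5
  · exact mirrorRows_E8_6
  · exact mirrorRows_E8_7
  · exact mirrorRows_E8_8
  · exact mirrorRows_E8_9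
  · exact mirrorRows_E8_10
  · exact mirrorRows_E8_11
  · exact mirrorRows_E8_12
  · exact mirrorRows_E8_13
  · exact mirrorRows_E8_14
  · exact mirrorRows_E8_15
  · exact mirrorRows_E8_16
  · exact mirrorRows_E8_17
  · exact mirrorRows_E8_18
  · exact mirrorRows_E8_19
  · exact mirrorRows_E8_20
  · exact mirrorRows_E8_21
  · exact mirrorRows_E8_22
  · exact mirrorRows_E8_23

set_option maxRecDepth 1000000 in
set_option maxHeartbeats 0 in
theorem mirrorSizes_E8 : MirrorSizes chevE8 fastE8 := by decide +kernel

set_option maxRecDepth 1000000 in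
set_option maxHeartbeats 0 in
theorem mirrorSimple_E8 : AllLt fastE8.l (MirrorSimple chevE8 fastE8) := by decide +kernel

theorem mirror_E8 : Mirror chevE8 fastE8 := ⟨mirrorSizes_E8, mirrorRows_E8, mirrorSimple_E8⟩

theorem tab_E8 : tabOf chevE8 = fastE8 :=
  tabOf_eq_fast chevE8 _ _ _ _ _ _ _ rfl mirror_E8

set_option maxRecDepth 1000000 in
set_option maxHeartbeats 0 in
theorem keysSorted_E8 : KeysSorted chevE8 := by decide +kernel

set_option maxRecDepth 1000000 in
set_option maxHeartbeats 0 in
theorem T1sfast_E8 : fastE8.T1s := by decide +kernel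

theorem T1s_E8 : (tabOf chevE8).T1s := tab_E8 ▸ T1sfast_E8

end Cfsg.Agent.Helper7.Chev
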