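import Mathlib
import Cfsg.Agent.Helper7.ChevCodes
import Cfsg.Agent.Helper7.ChevStr

set_option autoImplicit false

/-!
Table facts for the Chevalley datum of type F4, checked on the fast tables and transferred.
-/

namespace Cfsg.Agent.Helper7.Chev

open Cfsg Cfsg.Lie

set_option maxRecDepth 1000000 in
set_option maxHeartbeats 0 in
theorem mirror_F4 : Mirror chevF4 fastF4 := by decide +kernel

theorem tab_F4 : tabOf chevF4 = fastF4 :=
  tabOf_eq_fast chevF4 _ _ _ _ _ _ _ rfl mirror_F4

set_option maxRecDepth 1000000 in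
set_option maxHeartbeats 0 in
theorem keysSorted_F4 : KeysSorted chevF4 := by decide +kernel

set_option maxRecDepth 1000000 in
set_option maxHeartbeats 0 in
theorem T1sfast_F4 : fastF4.T1s := by decide +kernel

theorem T1s_F4 : (tabOf chevF4).T1s := tab_F4 ▸ T1sfast_F4

set_option maxRecDepth 1000000 in
set_option maxHeartbeats 0 in
theorem T1fast_F4 : fastF4.T1 := by decide +kernel

theorem T1_F4 : (tabOf chevF4).T1 := tab_F4 ▸ T1fast_F4

end Cfsg.Agent.Helper7.Chev
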