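import Mathlib

set_option autoImplicit false

/-!
The representations of `2 × 2` matrices on the divided-power symmetric powers of dimension at most four,
in the basis in which the upper unitriangular matrix with entry `t` sends `v_j` to
`Σ_i C(j+i, i) t^i v_{j+i}`.
-/

namespace Cfsg.Agent.Helper7.Chev

open Matrix

variable {F : Type*} [Field F]

/-- The entry `(k, j)` of the matrix of `g` on the module of dimension `m + 1`. -/
def rho (m : ℕ) (g : Matrix (Fin 2) (Fin 2) F) (k j : ℕ) : F :=
  ∑ x ∈ Finset.range (k + 1),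
    if x ≤ m - j ∧ k - x ≤ j then
      ((Nat.choose k x * Nat.choose (m - k) (j - (k - x)) : ℕ) : F) * g 0 0 ^ (k - x) * g 0 1 ^ x *
        g 1 0 ^ (j - (k - x)) * g 1 1 ^ (m - j - x)
    else 0



set_option maxHeartbeats 4000000 in
theorem rho_mul_zero (g h : Matrix (Fin 2) (Fin 2) F) {k j : ℕ} (hk : k ≤ 0) (hj : j ≤ 0) :
    rho 0 (g * h) k j = ∑ i ∈ Finset.range (0 + 1), rho 0 g k i * rho 0 h i j := by
  interval_cases k <;> interval_cases j <;>
    simp [rho, Finset.sum_range_succ, Matrix.mul_apply, Fin.sum_univ_two, Nat.choose]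

set_option maxHeartbeats 4000000 in
theorem rho_mul_one (g h : Matrix (Fin 2) (Fin 2) F) {k j : ℕ} (hk : k ≤ 1) (hj : j ≤ 1) :
    rho 1 (g * h) k j = ∑ i ∈ Finset.range (1 + 1), rho 1 g k i * rho 1 h i j := by
  interval_cases k <;> interval_cases j <;>
    simp [rho, Finset.sum_range_succ, Matrix.mul_apply, Fin.sum_univ_two, Nat.choose] <;> ring

set_option maxHeartbeats 4000000 in
theorem rho_mul_two (g h : Matrix (Fin 2) (Fin 2) F) {k j : ℕ} (hk : k ≤ 2) (hj : j ≤ 2) :
    rho 2 (g * h) k j = ∑ i ∈ Finset.range (2 + 1), rho 2 g k i * rho 2 h i j := by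
  interval_cases k <;> interval_cases j <;>
    simp [rho, Finset.sum_range_succ, Matrix.mul_apply, Fin.sum_univ_two, Nat.choose] <;> ring

set_option maxHeartbeats 16000000 in
theorem rho_mul_three (g h : Matrix (Fin 2) (Fin 2) F) {k j : ℕ} (hk : k ≤ 3) (hj : j ≤ 3) :
    rho 3 (g * h) k j = ∑ i ∈ Finset.range (3 + 1), rho 3 g k i * rho 3 h i j := by
  interval_cases k <;> interval_cases j <;>
    simp [rho, Finset.sum_range_succ, Matrix.mul_apply, Fin.sum_univ_two, Nat.choose] <;> ring

/-- Multiplicativity. -/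
theorem rho_mul {m : ℕ} (hm : m ≤ 3) (g h : Matrix (Fin 2) (Fin 2) F) {k j : ℕ} (hk : k ≤ m)
    (hj : j ≤ m) :
    rho m (g * h) k j = ∑ i ∈ Finset.range (m + 1), rho m g k i * rho m h i j := by
  interval_cases m
  · exact rho_mul_zero g h hk hj
  · exact rho_mul_one g h hk hj
  · exact rho_mul_two g h hk hj
  · exact rho_mul_three g h hk hj


set_option maxHeartbeats 4000000 in
/-- The upper unitriangular matrices. -/
theorem rho_upper {m : ℕ} (hm : m ≤ 3) (t : F) {k j : ℕ} (hk : k ≤ m) (hj : j ≤ m) :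
    rho m !![1, t; 0, 1] k j = if j ≤ k then ((Nat.choose k j : ℕ) : F) * t ^ (k - j) else 0 := by
  interval_cases m <;> interval_cases k <;> interval_cases j <;>
    simp [rho, Finset.sum_range_succ, Nat.choose]

set_option maxHeartbeats 4000000 in
/-- The lower unitriangular matrices. -/
theorem rho_lower {m : ℕ} (hm : m ≤ 3) (t : F) {k j : ℕ} (hk : k ≤ m) (hj : j ≤ m) :
    rho m !![1, 0; t, 1] k j =
      if k ≤ j then ((Nat.choose (m - k) (j - k) : ℕ) : F) * t ^ (j - k) else 0 := by
  interval_cases m <;> interval_cases k <;> interval_cases j <;>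
    simp [rho, Finset.sum_range_succ, Nat.choose]

set_option maxHeartbeats 4000000 in
/-- The diagonal matrices. -/
theorem rho_diag {m : ℕ} (hm : m ≤ 3) (a d : F) {k j : ℕ} (hk : k ≤ m) (hj : j ≤ m) :
    rho m !![a, 0; 0, d] k j = if k = j then a ^ k * d ^ (m - k) else 0 := by
  interval_cases m <;> interval_cases k <;> interval_cases j <;>
    simp [rho, Finset.sum_range_succ, Nat.choose]

set_option maxHeartbeats 4000000 in
/-- The antidiagonal matrices. -/
theorem rho_anti {m : ℕ} (hm : m ≤ 3) (b c : F) {k j : ℕ} (hk : k ≤ m) (hj : j ≤ m) :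
    rho m !![0, b; c, 0] k j = if k + j = m then b ^ (m - j) * c ^ j else 0 := by
  interval_cases m <;> interval_cases k <;> interval_cases j <;>
    simp [rho, Finset.sum_range_succ, Nat.choose]

end Cfsg.Agent.Helper7.Chev
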