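import Mathlib
import Cfsg.Agent.Helper7.ChevStr
import Cfsg.Agent.Helper7.ChevRho

set_option autoImplicit false
set_option linter.unusedSectionVars false
set_option linter.unusedVariables false

/-!
Rank-one theory of Chevalley groups from the level-1 table facts: for each root `r` the action of
`SL₂` on the coordinate module through `x_r` and `x_{-r}`, given by explicit columns.
-/

namespace Cfsg.Agent.Helper7.Chev

open Cfsg Cfsg.Lie Matrix

/-- The level-1 table facts of a datum. -/
structure Good1 (D : ChevalleyDatum) : Prop where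
  keys : KeysSorted D
  t1 : (tabOf D).T1
  t1s : (tabOf D).T1s

variable {D : ChevalleyDatum} {F : Type*} [Field F]

section strings

variable (hG : Good1 D) {r s : ℕ} (hr : r < D.nroots) (hs : s < D.nroots) (hsr : s ≠ r)
  (hsn : s ≠ D.neg r)

include hG hr in
theorem Good1.row : (tabOf D).T1row r := hG.t1 r hr

include hG hr in
theorem Good1.neg_lt : D.neg r < D.nroots := (hG.row hr).1

include hG hr in
theorem Good1.neg_ne : D.neg r ≠ r := (hG.row hr).2.1

include hG hr in
theorem Good1.neg_neg : D.neg (D.neg r) = r := (hG.row hr).2.2.1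

include hG hr in
theorem Good1.pairing_self : (tabOf D).pairing r r = 2 := (hG.row hr).2.2.2.1

include hG hr in
theorem Good1.cartan_neg {i : ℕ} (hi : i < D.rank) : D.cartan i (D.neg r) = - D.cartan i r :=
  ((hG.row hr).2.2.2.2.1 i hi).1

include hG hr in
theorem Good1.cr_neg {i : ℕ} (hi : i < D.rank) : cr D (D.neg r) i = - cr D r i :=
  ((hG.row hr).2.2.2.2.1 i hi).2

include hG hr hs hsr hsn in
theorem Good1.strOK : (tabOf D).StrOK r s := (hG.row hr).2.2.2.2.2 s hs hsr hsn

include hG hr in
theorem Good1.keysNodup : KeysNodup D r := hG.keys.keysNodup hr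

end strings

/-- Sum over an enumerated mapped range. -/
theorem sum_zipIdx_map_range {V : Type*} [AddCommMonoid V] (k : ℕ) (f : ℕ → ℕ × ℤ)
    (G : (ℕ × ℤ) × ℕ → V) :
    ((((List.range k).map f).zipIdx).map G).sum = ∑ i ∈ Finset.range k, G (f i, i) := by
  induction k with
  | zero => simp
  | succ k ih =>
    rw [List.range_succ, List.map_append, List.zipIdx_append, List.map_append, List.sum_append, ih,
      Finset.sum_range_succ]
    simp

/-- The column of the `SL₂`-action at a root vector `e_s`, `s ≠ ±r`: the string through `s`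
carries the divided-power representation. -/
noncomputable def strVec (D : ChevalleyDatum) (r : ℕ) (g : Matrix (Fin 2) (Fin 2) F) (s : ℕ) :
    D.Idx → F :=
  ∑ k ∈ Finset.range ((tabOf D).str r s).length,
    (rho (((tabOf D).str r s).length - 1) g k ((tabOf D).pos r s) *
      (((tabOf D).epsAt r ((tabOf D).bot r s) ((tabOf D).pos r s) *
        (tabOf D).epsAt r ((tabOf D).bot r s) k : ℤ) : F)) • eR D F (((tabOf D).str r s).getD k 0)

theorem str_length_pos (D : ChevalleyDatum) (r s : ℕ) : 0 < ((tabOf D).str r s).length := by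
  unfold Tab.str; simp

/-- `x_r(t)` on `e_s`, `s ≠ ±r`. -/
theorem x_mulVec_eR_str (hG : Good1 D) {r s : ℕ} (hr : r < D.nroots) (hs : s < D.nroots)
    (hsr : s ≠ r) (hsn : s ≠ D.neg r) (t : F) :
    D.x F r t *ᵥ eR D F s = strVec D r !![1, t; 0, 1] s := by
  rw [x_mulVec_eR_other D F hr (hG.keysNodup hr) hs hsr hsn t]
  obtain ⟨h1, h2, h3, h4, h5, h6, h7, h8, h9⟩ := hG.strOK hr hs hsr hsn
  unfold chainVec strVec
  have hlen := str_length_pos D r s
  set S := (tabOf D).str r s with hS
  set j := (tabOf D).pos r s with hj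
  set b := (tabOf D).bot r s with hb
  have hce : D.chainEntry r s = (tabOf D).ce r s := rfl
  rw [hce, h6, sum_zipIdx_map_range]
  have hm : S.length = (S.length - 1) + 1 := by omega
  have hjm : j ≤ S.length := by omega
  rw [← Finset.sum_range_add_sum_Ico _ hjm]
  have hzero : ∑ k ∈ Finset.range j, (rho (S.length - 1) !![1, t; 0, 1] k j *
      (((tabOf D).epsAt r b j * (tabOf D).epsAt r b k : ℤ) : F)) • eR D F (S.getD k 0) = 0 := by
    apply Finset.sum_eq_zero
    intro k hk
    rw [Finset.mem_range] at hk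
    rw [rho_upper h1 t (by omega) h2, if_neg (by omega), zero_mul, zero_smul]
  rw [hzero, zero_add, Finset.sum_eq_sum_Ico_succ_bot (by omega), Finset.sum_Ico_eq_sum_range]
  have hjj := (h8 j (by omega)).2.2
  congr 1
  · rw [rho_upper h1 t h2 h2, if_pos le_rfl, Nat.choose_self, Nat.sub_self, pow_zero, hjj, h3]
    simp
  · have : S.length - (j + 1) = S.length - 1 - j := by omega
    rw [this]
    apply Finset.sum_congr rfl
    intro i hi
    rw [Finset.mem_range] at hi
    rw [rho_upper h1 t (by omega) h2, if_pos (by omega)]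
    have e1 : j + 1 + i = j + i + 1 := by ring
    have e2 : j + i + 1 - j = i + 1 := by omega
    have e3 : (j + i + 1).choose j = (j + i + 1).choose (i + 1) := by
      have := @Nat.choose_symm_add j (i + 1)
      rwa [show j + (i + 1) = j + i + 1 by ring] at this
    rw [e1, e2, e3]
    simp only
    congr 1
    push_cast
    ring


/-- `x_{-r}(t)` on `e_s`, `s ≠ ±r`. -/
theorem x_neg_mulVec_eR_str (hG : Good1 D) {r s : ℕ} (hr : r < D.nroots) (hs : s < D.nroots)
    (hsr : s ≠ r) (hsn : s ≠ D.neg r) (t : F) :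
    D.x F (D.neg r) t *ᵥ eR D F s = strVec D r !![1, 0; t, 1] s := by
  have hnr := hG.neg_lt hr
  rw [x_mulVec_eR_other D F hnr (hG.keysNodup hnr) hs hsn (by rw [hG.neg_neg hr]; exact hsr) t]
  obtain ⟨h1, h2, h3, h4, h5, h6, h7, h8, h9⟩ := hG.strOK hr hs hsr hsn
  unfold chainVec strVec
  have hlen := str_length_pos D r s
  set S := (tabOf D).str r s with hS
  set j := (tabOf D).pos r s with hj
  set b := (tabOf D).bot r s with hb
  have hce : D.chainEntry (D.neg r) s = (tabOf D).dn r s := rfl
  rw [hce, h7, sum_zipIdx_map_range]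
  have hjm : j + 1 ≤ S.length := by omega
  rw [← Finset.sum_range_add_sum_Ico _ hjm]
  have hzero : ∑ k ∈ Finset.Ico (j + 1) S.length, (rho (S.length - 1) !![1, 0; t, 1] k j *
      (((tabOf D).epsAt r b j * (tabOf D).epsAt r b k : ℤ) : F)) • eR D F (S.getD k 0) = 0 := by
    apply Finset.sum_eq_zero
    intro k hk
    rw [Finset.mem_Ico] at hk
    rw [rho_lower h1 t (by omega) h2, if_neg (by omega), zero_mul, zero_smul]
  rw [hzero, add_zero, Finset.sum_range_succ, add_comm (eR D F s)]
  have hjj := (h8 j (by omega)).2.2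
  congr 1
  · rw [← Finset.sum_range_reflect]
    apply Finset.sum_congr rfl
    intro i hi
    rw [Finset.mem_range] at hi
    rw [rho_lower h1 t (by omega) h2, if_pos (by omega)]
    have e2 : j - (j - 1 - i) - 1 = i := by omega
    have e3 : S.length - 1 - j + (j - 1 - i) + 1 = S.length - 1 - i := by omega
    have e4 : j - 1 - i + 1 = j - i := by omega
    simp only [e2, e3, e4]
    congr 1
    push_cast
    ring
  · rw [rho_lower h1 t h2 h2, if_pos le_rfl, Nat.sub_self, Nat.choose_zero_right, pow_zero, hjj, h3]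
    simp


/-! ### The adjoint block -/

/-- The vector `bc h_r - ab e_r + cd e_{-r}`. -/
noncomputable def adjCore (D : ChevalleyDatum) (r : ℕ) (g : Matrix (Fin 2) (Fin 2) F) : D.Idx → F :=
  (g 0 1 * g 1 0) • hR D F r - (g 0 0 * g 0 1) • eR D F r + (g 1 0 * g 1 1) • eR D F (D.neg r)

/-- The column at `h_{p_i}`. -/
noncomputable def adjH (D : ChevalleyDatum) (r : ℕ) (g : Matrix (Fin 2) (Fin 2) F) (i : Fin D.rank) :
    D.Idx → F :=
  eH D F i + ((D.cartan i.val r : ℤ) : F) • adjCore D r g

/-- The column at `e_r`. -/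
noncomputable def adjE (D : ChevalleyDatum) (r : ℕ) (g : Matrix (Fin 2) (Fin 2) F) : D.Idx → F :=
  (g 0 0 ^ 2) • eR D F r - (g 1 0 ^ 2) • eR D F (D.neg r) - (g 0 0 * g 1 0) • hR D F r

/-- The column at `e_{-r}`. -/
noncomputable def adjF (D : ChevalleyDatum) (r : ℕ) (g : Matrix (Fin 2) (Fin 2) F) : D.Idx → F :=
  (-(g 0 1 ^ 2)) • eR D F r + (g 1 1 ^ 2) • eR D F (D.neg r) + (g 0 1 * g 1 1) • hR D F r

/-- The columns of the action of `g` attached to the root `r`. -/
noncomputable def phiCol (D : ChevalleyDatum) (r : ℕ) (g : Matrix (Fin 2) (Fin 2) F) :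
    D.Idx → (D.Idx → F)
  | Sum.inl i => adjH D r g i
  | Sum.inr s =>
    if s.val = r then adjE D r g else if s.val = D.neg r then adjF D r g else strVec D r g s.val

/-- The matrix of the action of `g` attached to the root `r`. -/
noncomputable def phiMat (D : ChevalleyDatum) (r : ℕ) (g : Matrix (Fin 2) (Fin 2) F) :
    Matrix D.Idx D.Idx F :=
  Matrix.of fun row col => phiCol D r g col row

theorem phiMat_mulVec_single (r : ℕ) (g : Matrix (Fin 2) (Fin 2) F) (v : D.Idx) :
    phiMat D r g *ᵥ Pi.single v 1 = phiCol D r g v := by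
  rw [Matrix.mulVec_single_one]
  ext row
  rfl

theorem phiMat_mulVec_eH (r : ℕ) (g : Matrix (Fin 2) (Fin 2) F) (i : Fin D.rank) :
    phiMat D r g *ᵥ eH D F i = adjH D r g i := phiMat_mulVec_single r g (Sum.inl i)

theorem phiMat_mulVec_eR_self {r : ℕ} (hr : r < D.nroots) (g : Matrix (Fin 2) (Fin 2) F) :
    phiMat D r g *ᵥ eR D F r = adjE D r g := by
  rw [eR_of_lt hr, phiMat_mulVec_single]
  simp [phiCol]

theorem phiMat_mulVec_eR_neg {r : ℕ} (hn : D.neg r < D.nroots) (hne : D.neg r ≠ r)
    (g : Matrix (Fin 2) (Fin 2) F) :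
    phiMat D r g *ᵥ eR D F (D.neg r) = adjF D r g := by
  rw [eR_of_lt hn, phiMat_mulVec_single]
  simp [phiCol, hne]

theorem phiMat_mulVec_eR_other {r s : ℕ} (hs : s < D.nroots) (hsr : s ≠ r) (hsn : s ≠ D.neg r)
    (g : Matrix (Fin 2) (Fin 2) F) :
    phiMat D r g *ᵥ eR D F s = strVec D r g s := by
  rw [eR_of_lt hs, phiMat_mulVec_single]
  simp [phiCol, hsr, hsn]

theorem list_range_sum_eq {M : Type*} [AddCommMonoid M] (n : ℕ) (f : ℕ → M) :
    ((List.range n).map f).sum = ∑ i ∈ Finset.range n, f i := by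
  induction n with
  | zero => simp
  | succ n ih => rw [List.range_succ, List.map_append, List.sum_append, ih, Finset.sum_range_succ]; simp

theorem pairing_eq_sum (D : ChevalleyDatum) (r s : ℕ) :
    (tabOf D).pairing r s = ∑ i : Fin D.rank, cr D r i.val * D.cartan i.val s := by
  unfold Tab.pairing
  rw [list_range_sum_eq]
  exact Finset.sum_range (fun i => cr D r i * D.cartan i s)

theorem phiMat_mulVec_hR (hG : Good1 D) {r : ℕ} (hr : r < D.nroots)
    (g : Matrix (Fin 2) (Fin 2) F) :
    phiMat D r g *ᵥ hR D F r = hR D F r + (2 : F) • adjCore D r g := by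
  have h2 := hG.pairing_self hr
  rw [pairing_eq_sum] at h2
  have h2F : (∑ i : Fin D.rank, ((cr D r i.val : ℤ) : F) * ((D.cartan i.val r : ℤ) : F)) = 2 := by
    have := congrArg (fun z : ℤ => (z : F)) h2
    simpa using this
  unfold hR
  rw [Matrix.mulVec_sum]
  simp only [Matrix.mulVec_smul, phiMat_mulVec_eH, adjH, smul_add, Finset.sum_add_distrib]
  congr 1
  simp only [smul_smul]
  rw [← Finset.sum_smul, h2F]


section hom

variable (hG : Good1 D) {r : ℕ} (hr : r < D.nroots) (g h : Matrix (Fin 2) (Fin 2) F)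
  (hg : g 0 0 * g 1 1 - g 0 1 * g 1 0 = 1) (hh : h 0 0 * h 1 1 - h 0 1 * h 1 0 = 1)

include hG hr hg hh in
theorem phiMat_mulVec_adjCore :
    phiMat D r g *ᵥ adjCore D r h = adjCore D r (g * h) - adjCore D r g := by
  have hn := hG.neg_lt hr
  have hne := hG.neg_ne hr
  conv_lhs => unfold adjCore
  rw [Matrix.mulVec_add, Matrix.mulVec_sub, Matrix.mulVec_smul, Matrix.mulVec_smul,
    Matrix.mulVec_smul, phiMat_mulVec_hR hG hr, phiMat_mulVec_eR_self hr,
    phiMat_mulVec_eR_neg hn hne]
  unfold adjCore adjE adjF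
  ext x
  simp only [Pi.add_apply, Pi.sub_apply, Pi.smul_apply, smul_eq_mul, Matrix.mul_apply,
    Fin.sum_univ_two]
  linear_combination (-(h 0 1 * h 1 0 * hR D F r x)) * hg +
    (-(g 0 1 * g 1 0) * hR D F r x + g 0 0 * g 0 1 * eR D F r x -
      g 1 0 * g 1 1 * eR D F (D.neg r) x) * hh

include hG hr hg hh in
theorem phiMat_mulVec_adjH (i : Fin D.rank) :
    phiMat D r g *ᵥ adjH D r h i = adjH D r (g * h) i := by
  unfold adjH
  rw [Matrix.mulVec_add, Matrix.mulVec_smul, phiMat_mulVec_eH, phiMat_mulVec_adjCore hG hr g h hg hh]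
  unfold adjH
  ext x
  simp only [Pi.add_apply, Pi.sub_apply, Pi.smul_apply, smul_eq_mul]
  ring

include hG hr hg in
theorem phiMat_mulVec_adjE :
    phiMat D r g *ᵥ adjE D r h = adjE D r (g * h) := by
  have hn := hG.neg_lt hr
  have hne := hG.neg_ne hr
  conv_lhs => unfold adjE
  rw [Matrix.mulVec_sub, Matrix.mulVec_sub, Matrix.mulVec_smul, Matrix.mulVec_smul,
    Matrix.mulVec_smul, phiMat_mulVec_hR hG hr, phiMat_mulVec_eR_self hr,
    phiMat_mulVec_eR_neg hn hne]
  unfold adjCore adjE adjF
  ext x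
  simp only [Pi.add_apply, Pi.sub_apply, Pi.smul_apply, smul_eq_mul, Matrix.mul_apply,
    Fin.sum_univ_two]
  linear_combination (h 0 0 * h 1 0 * hR D F r x) * hg

include hG hr hg in
theorem phiMat_mulVec_adjF :
    phiMat D r g *ᵥ adjF D r h = adjF D r (g * h) := by
  have hn := hG.neg_lt hr
  have hne := hG.neg_ne hr
  conv_lhs => unfold adjF
  rw [Matrix.mulVec_add, Matrix.mulVec_add, Matrix.mulVec_smul, Matrix.mulVec_smul,
    Matrix.mulVec_smul, phiMat_mulVec_hR hG hr, phiMat_mulVec_eR_self hr,
    phiMat_mulVec_eR_neg hn hne]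
  unfold adjCore adjE adjF
  ext x
  simp only [Pi.add_apply, Pi.sub_apply, Pi.smul_apply, smul_eq_mul, Matrix.mul_apply,
    Fin.sum_univ_two]
  linear_combination (-(h 0 1 * h 1 1 * hR D F r x)) * hg

end hom


section strhom

variable (hG : Good1 D) {r s : ℕ} (hr : r < D.nroots) (hs : s < D.nroots) (hsr : s ≠ r)
  (hsn : s ≠ D.neg r)

include hG hr hs hsr hsn in
/-- Members of the string through `s` are roots different from `±r`. -/
theorem str_member {k : ℕ} (hk : k < ((tabOf D).str r s).length) :
    ((tabOf D).str r s).getD k 0 < D.nroots ∧ ((tabOf D).str r s).getD k 0 ≠ r ∧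
      ((tabOf D).str r s).getD k 0 ≠ D.neg r := by
  obtain ⟨h1, h2, h3, h4, h5, h6, h7, h8, h9⟩ := hG.strOK hr hs hsr hsn
  apply h5
  rw [List.getD_eq_getElem _ _ hk]
  exact List.getElem_mem hk

include hG hr hs hsr hsn in
/-- The string through a member of the string through `s` is the same string. -/
theorem str_of_member {k : ℕ} (hk : k < ((tabOf D).str r s).length) :
    (tabOf D).str r (((tabOf D).str r s).getD k 0) = (tabOf D).str r s ∧
    (tabOf D).pos r (((tabOf D).str r s).getD k 0) = k ∧
    (tabOf D).bot r (((tabOf D).str r s).getD k 0) = (tabOf D).bot r s := by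
  obtain ⟨h1, h2, h3, h4, h5, h6, h7, h8, h9⟩ := hG.strOK hr hs hsr hsn
  obtain ⟨hb, hp, _⟩ := h8 k hk
  refine ⟨?_, hp, hb⟩
  unfold Tab.str at hb ⊢
  rw [hb]

include hG hr hs hsr hsn in
theorem eps_sq {k : ℕ} (hk : k < ((tabOf D).str r s).length) :
    (tabOf D).epsAt r ((tabOf D).bot r s) k * (tabOf D).epsAt r ((tabOf D).bot r s) k = 1 := by
  obtain ⟨h1, h2, h3, h4, h5, h6, h7, h8, h9⟩ := hG.strOK hr hs hsr hsn
  exact (h8 k hk).2.2

include hG hr hs hsr hsn in
theorem strVec_member (g : Matrix (Fin 2) (Fin 2) F) {k : ℕ}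
    (hk : k < ((tabOf D).str r s).length) :
    strVec D r g (((tabOf D).str r s).getD k 0) =
      ∑ k' ∈ Finset.range ((tabOf D).str r s).length,
        (rho (((tabOf D).str r s).length - 1) g k' k *
          (((tabOf D).epsAt r ((tabOf D).bot r s) k *
            (tabOf D).epsAt r ((tabOf D).bot r s) k' : ℤ) : F)) •
              eR D F (((tabOf D).str r s).getD k' 0) := by
  obtain ⟨e1, e2, e3⟩ := str_of_member hG hr hs hsr hsn hk
  unfold strVec
  rw [e1, e2, e3]

include hG hr hs hsr hsn in
/-- The action on the string through `s` is multiplicative. -/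
theorem phiMat_mulVec_strVec (g h : Matrix (Fin 2) (Fin 2) F) :
    phiMat D r g *ᵥ strVec D r h s = strVec D r (g * h) s := by
  obtain ⟨h1, h2, h3, h4, h5, h6, h7, h8, h9⟩ := hG.strOK hr hs hsr hsn
  have hlen := str_length_pos D r s
  conv_lhs => unfold strVec
  rw [Matrix.mulVec_sum]
  have step : ∀ k ∈ Finset.range ((tabOf D).str r s).length,
      phiMat D r g *ᵥ ((rho (((tabOf D).str r s).length - 1) h k ((tabOf D).pos r s) *
        (((tabOf D).epsAt r ((tabOf D).bot r s) ((tabOf D).pos r s) *
          (tabOf D).epsAt r ((tabOf D).bot r s) k : ℤ) : F)) •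
            eR D F (((tabOf D).str r s).getD k 0)) =
      ∑ k' ∈ Finset.range ((tabOf D).str r s).length,
        ((rho (((tabOf D).str r s).length - 1) g k' k *
          rho (((tabOf D).str r s).length - 1) h k ((tabOf D).pos r s)) *
          (((tabOf D).epsAt r ((tabOf D).bot r s) ((tabOf D).pos r s) *
            (tabOf D).epsAt r ((tabOf D).bot r s) k' : ℤ) : F)) •
              eR D F (((tabOf D).str r s).getD k' 0) := by
    intro k hk
    rw [Finset.mem_range] at hk
    obtain ⟨m1, m2, m3⟩ := str_member hG hr hs hsr hsn hk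
    rw [Matrix.mulVec_smul, phiMat_mulVec_eR_other m1 m2 m3, strVec_member hG hr hs hsr hsn g hk,
      Finset.smul_sum]
    apply Finset.sum_congr rfl
    intro k' _
    rw [smul_smul]
    congr 1
    have hsq := eps_sq hG hr hs hsr hsn hk
    have hsqF : (((tabOf D).epsAt r ((tabOf D).bot r s) k : ℤ) : F) *
        (((tabOf D).epsAt r ((tabOf D).bot r s) k : ℤ) : F) = 1 := by
      rw [← Int.cast_mul, hsq, Int.cast_one]
    push_cast
    linear_combination (rho (((tabOf D).str r s).length - 1) h k ((tabOf D).pos r s) *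
      rho (((tabOf D).str r s).length - 1) g k' k *
      (((tabOf D).epsAt r ((tabOf D).bot r s) ((tabOf D).pos r s) : ℤ) : F) *
      (((tabOf D).epsAt r ((tabOf D).bot r s) k' : ℤ) : F)) * hsqF
  rw [Finset.sum_congr rfl step, Finset.sum_comm]
  unfold strVec
  apply Finset.sum_congr rfl
  intro k' hk'
  rw [Finset.mem_range] at hk'
  rw [← Finset.sum_smul, ← Finset.sum_mul]
  congr 2
  have hm : ((tabOf D).str r s).length = (((tabOf D).str r s).length - 1) + 1 := by omega
  rw [rho_mul h1 g h (by omega) h2, ← hm]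

end strhom


/-- Two matrices with the same columns are equal. -/
theorem matrix_ext_mulVec {ι : Type*} [Fintype ι] [DecidableEq ι] (A B : Matrix ι ι F)
    (h : ∀ v, A *ᵥ Pi.single v 1 = B *ᵥ Pi.single v 1) : A = B := by
  ext row col
  have := congrFun (h col) row
  simpa [Matrix.mulVec_single_one] using this

/-- Every coordinate vector is `e_H` or `e_R`. -/
theorem single_inr (s : Fin D.nroots) :
    (Pi.single (Sum.inr s) 1 : D.Idx → F) = eR D F s.val := by
  rw [eR_of_lt s.2]

section main

variable (hG : Good1 D) {r : ℕ} (hr : r < D.nroots)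

include hG hr in
/-- Multiplicativity of the action on matrices of determinant one. -/
theorem phiMat_mul (g h : Matrix (Fin 2) (Fin 2) F)
    (hg : g 0 0 * g 1 1 - g 0 1 * g 1 0 = 1) (hh : h 0 0 * h 1 1 - h 0 1 * h 1 0 = 1) :
    phiMat D r (g * h) = phiMat D r g * phiMat D r h := by
  apply matrix_ext_mulVec
  intro v
  rw [← Matrix.mulVec_mulVec, phiMat_mulVec_single, phiMat_mulVec_single]
  rcases v with i | s
  · exact (phiMat_mulVec_adjH hG hr g h hg hh i).symm
  · simp only [phiCol]
    by_cases h1 : s.val = r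
    · rw [if_pos h1, if_pos h1]
      exact (phiMat_mulVec_adjE hG hr g h hg).symm
    · rw [if_neg h1, if_neg h1]
      by_cases h2 : s.val = D.neg r
      · rw [if_pos h2, if_pos h2]
        exact (phiMat_mulVec_adjF hG hr g h hg).symm
      · rw [if_neg h2, if_neg h2]
        exact (phiMat_mulVec_strVec hG hr s.2 h1 h2 g h).symm

include hG hr in
theorem hR_neg : hR D F (D.neg r) = - hR D F r := by
  unfold hR
  rw [← Finset.sum_neg_distrib]
  apply Finset.sum_congr rfl
  intro i _
  rw [hG.cr_neg hr i.2]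
  simp

include hG hr in
/-- The upper unitriangular matrices act as `x_r(t)`. -/
theorem phiMat_upper (t : F) : phiMat D r !![1, t; 0, 1] = D.x F r t := by
  have hn := hG.neg_lt hr
  have hne := hG.neg_ne hr
  apply matrix_ext_mulVec
  intro v
  rw [phiMat_mulVec_single]
  rcases v with i | s
  · change _ = D.x F r t *ᵥ eH D F i
    rw [x_mulVec_eH D F hr t i]
    simp only [phiCol, adjH, adjCore]
    ext x
    simp
    ring
  · rw [single_inr]
    simp only [phiCol]
    by_cases h1 : s.val = r
    · rw [if_pos h1, h1, x_mulVec_eR_self D F hr t]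
      unfold adjE
      ext x
      simp
    · rw [if_neg h1]
      by_cases h2 : s.val = D.neg r
      · rw [if_pos h2, h2, x_mulVec_eR_neg D F hr hn hne t]
        unfold adjF
        ext x
        simp
        ring
      · rw [if_neg h2, x_mulVec_eR_str hG hr s.2 h1 h2 t]

include hG hr in
/-- The lower unitriangular matrices act as `x_{-r}(t)`. -/
theorem phiMat_lower (t : F) : phiMat D r !![1, 0; t, 1] = D.x F (D.neg r) t := by
  have hn := hG.neg_lt hr
  have hne := hG.neg_ne hr
  have hnn := hG.neg_neg hr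
  apply matrix_ext_mulVec
  intro v
  rw [phiMat_mulVec_single]
  rcases v with i | s
  · change _ = D.x F (D.neg r) t *ᵥ eH D F i
    rw [x_mulVec_eH D F hn t i, hG.cartan_neg hr i.2]
    simp only [phiCol, adjH, adjCore]
    ext x
    simp
    ring
  · rw [single_inr]
    simp only [phiCol]
    by_cases h1 : s.val = r
    · rw [if_pos h1, h1]
      have := x_mulVec_eR_neg D F hn (by rw [hnn]; exact hr) (by rw [hnn]; exact fun h => hne h.symm) t
      rw [hnn] at this
      rw [this, hR_neg hG hr]
      unfold adjE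
      ext x
      simp
      ring
    · rw [if_neg h1]
      by_cases h2 : s.val = D.neg r
      · rw [if_pos h2, h2, x_mulVec_eR_self D F hn t]
        unfold adjF
        ext x
        simp
      · rw [if_neg h2, x_neg_mulVec_eR_str hG hr s.2 h1 h2 t]

end main

end Cfsg.Agent.Helper7.Chev
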