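import Mathlib
import Cfsg.Agent.Helper7.ChevPhi

set_option autoImplicit false
set_option linter.unusedSectionVars false
set_option linter.unusedVariables false

/-!
Consequences of the rank-one theory: the elements `n_r(t)` and `h_r(t)` as images of monomial and
diagonal matrices of `SL₂`, and their explicit shapes.
-/

namespace Cfsg.Agent.Helper7.Chev

open Cfsg Cfsg.Lie Matrix

variable {D : ChevalleyDatum} {F : Type*} [Field F]

theorem wordMat_nil : D.wordMat F [] = 1 := by simp [ChevalleyDatum.wordMat]

theorem wordMat_cons (p : ℕ × F) (w : List (ℕ × F)) :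
    D.wordMat F (p :: w) = D.x F p.1 p.2 * D.wordMat F w := by
  simp [ChevalleyDatum.wordMat]

theorem wordMat_append (w₁ w₂ : List (ℕ × F)) :
    D.wordMat F (w₁ ++ w₂) = D.wordMat F w₁ * D.wordMat F w₂ := by
  simp [ChevalleyDatum.wordMat]

section rank1

variable (hG : Good1 D) {r : ℕ} (hr : r < D.nroots)

include hG hr in
/-- `n_r(t)` is the image of the monomial matrix with entries `t`, `-t⁻¹`. -/
theorem nMat_eq {t : F} (ht : t ≠ 0) : D.nMat F r t = phiMat D r !![0, t; -t⁻¹, 0] := by
  unfold ChevalleyDatum.nMat ChevalleyDatum.nWord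
  rw [wordMat_cons, wordMat_cons, wordMat_cons, wordMat_nil, mul_one]
  simp only
  have e1 : (!![1, 0; -t⁻¹, 1] : Matrix (Fin 2) (Fin 2) F) * !![1, t; 0, 1] = !![1, t; -t⁻¹, 0] := by
    ext i j
    fin_cases i <;> fin_cases j <;> simp [Matrix.mul_apply, Fin.sum_univ_two, ht]
  have e2 : (!![1, t; 0, 1] : Matrix (Fin 2) (Fin 2) F) * !![1, t; -t⁻¹, 0] = !![0, t; -t⁻¹, 0] := by
    ext i j
    fin_cases i <;> fin_cases j <;> simp [Matrix.mul_apply, Fin.sum_univ_two, ht]
  rw [← phiMat_upper hG hr, ← phiMat_lower hG hr,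
    ← phiMat_mul hG hr _ _ (by simp) (by simp), e1, ← phiMat_mul hG hr _ _ (by simp) (by simp [ht]),
    e2]

include hG hr in
/-- `h_r(t)` is the image of the diagonal matrix with entries `t`, `t⁻¹`. -/
theorem hMat_eq {t : F} (ht : t ≠ 0) : D.hMat F r t = phiMat D r !![t, 0; 0, t⁻¹] := by
  unfold ChevalleyDatum.hMat ChevalleyDatum.hWord
  rw [wordMat_append]
  have h1 := nMat_eq hG hr ht
  have h2 := nMat_eq hG hr (t := (-1 : F)) (by simp)
  unfold ChevalleyDatum.nMat at h1 h2
  rw [h1, h2, ← phiMat_mul hG hr _ _ (by simp [ht]) (by simp)]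
  congr 1
  ext i j
  fin_cases i <;> fin_cases j <;> simp [Matrix.mul_apply, Fin.sum_univ_two]

include hG hr in
/-- The diagonal matrices act diagonally on the strings. -/
theorem strVec_diag {s : ℕ} (hs : s < D.nroots) (hsr : s ≠ r) (hsn : s ≠ D.neg r) (a d : F) :
    strVec D r !![a, 0; 0, d] s =
      (a ^ ((tabOf D).pos r s) * d ^ (((tabOf D).str r s).length - 1 - (tabOf D).pos r s)) •
        eR D F s := by
  obtain ⟨h1, h2, h3, h4, h5, h6, h7, h8, h9⟩ := hG.strOK hr hs hsr hsn
  have hlen := str_length_pos D r s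
  unfold strVec
  rw [Finset.sum_eq_single ((tabOf D).pos r s)]
  · rw [rho_diag h1 a d h2 h2, if_pos rfl, h3, eps_sq hG hr hs hsr hsn (by omega)]
    simp
  · intro k hk hkj
    rw [Finset.mem_range] at hk
    rw [rho_diag h1 a d (by omega) h2, if_neg hkj, zero_mul, zero_smul]
  · intro hj
    exfalso; apply hj
    rw [Finset.mem_range]; omega

include hG hr in
/-- The antidiagonal matrices reverse the strings. -/
theorem strVec_anti {s : ℕ} (hs : s < D.nroots) (hsr : s ≠ r) (hsn : s ≠ D.neg r) (b c : F) :
    strVec D r !![0, b; c, 0] s =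
      (b ^ (((tabOf D).str r s).length - 1 - (tabOf D).pos r s) * c ^ ((tabOf D).pos r s) *
        (((tabOf D).epsAt r ((tabOf D).bot r s) ((tabOf D).pos r s) *
          (tabOf D).epsAt r ((tabOf D).bot r s)
            (((tabOf D).str r s).length - 1 - (tabOf D).pos r s) : ℤ) : F)) •
        eR D F (((tabOf D).str r s).getD (((tabOf D).str r s).length - 1 - (tabOf D).pos r s) 0) := by
  obtain ⟨h1, h2, h3, h4, h5, h6, h7, h8, h9⟩ := hG.strOK hr hs hsr hsn
  have hlen := str_length_pos D r s
  unfold strVec
  rw [Finset.sum_eq_single (((tabOf D).str r s).length - 1 - (tabOf D).pos r s)]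
  · rw [rho_anti h1 b c (by omega) h2, if_pos (by omega)]
  · intro k hk hkj
    rw [Finset.mem_range] at hk
    rw [rho_anti h1 b c (by omega) h2, if_neg (by omega), zero_mul, zero_smul]
  · intro hj
    exfalso; apply hj
    rw [Finset.mem_range]; omega

include hG in
theorem pairing_neg_right (r : ℕ) {s : ℕ} (hs : s < D.nroots) :
    (tabOf D).pairing r (D.neg s) = - (tabOf D).pairing r s := by
  rw [pairing_eq_sum, pairing_eq_sum, ← Finset.sum_neg_distrib]
  apply Finset.sum_congr rfl
  intro i _
  rw [hG.cartan_neg hs i.2]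
  ring

include hG hr in
/-- `h_r(t)` is the diagonal matrix with entries `1` on the coroots and `t ^ (2(r,s)/(r,r))` on the
root vector `e_s`. -/
theorem hMat_eq_diagonal {t : F} (ht : t ≠ 0) :
    D.hMat F r t = Matrix.diagonal (Sum.elim (fun _ => (1 : F))
      (fun s : Fin D.nroots => t ^ ((tabOf D).pairing r s.val))) := by
  rw [hMat_eq hG hr ht]
  apply matrix_ext_mulVec
  intro v
  rw [phiMat_mulVec_single, Matrix.diagonal_mulVec_single]
  rcases v with i | s
  · simp only [phiCol, adjH, adjCore, Sum.elim_inl]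
    ext x
    simp [eH]
  · simp only [phiCol, Sum.elim_inr, mul_one]
    by_cases h1 : s.val = r
    · rw [if_pos h1]
      have : (tabOf D).pairing r s.val = 2 := by rw [h1]; exact hG.pairing_self hr
      rw [this]
      unfold adjE
      rw [← h1, ← single_inr]
      ext x
      simp [Pi.single_apply]
    · rw [if_neg h1]
      by_cases h2 : s.val = D.neg r
      · rw [if_pos h2]
        have : (tabOf D).pairing r s.val = -2 := by
          rw [h2, pairing_neg_right hG r hr, hG.pairing_self hr]
        rw [this]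
        unfold adjF
        rw [← h2, ← single_inr]
        ext x
        simp [Pi.single_apply]
      · rw [if_neg h2, strVec_diag hG hr s.2 h1 h2, ← single_inr]
        obtain ⟨h1', h2', h3, h4, h5, h6, h7, h8, h9⟩ := hG.strOK hr s.2 h1 h2
        rw [h9]
        have hlen := str_length_pos D r s.val
        have key : t ^ (tabOf D).pos r s.val *
            t⁻¹ ^ (((tabOf D).str r s.val).length - 1 - (tabOf D).pos r s.val) =
            t ^ (2 * ((tabOf D).pos r s.val : ℤ) - ((((tabOf D).str r s.val).length - 1 : ℕ) : ℤ)) := by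
          have e : (2 * ((tabOf D).pos r s.val : ℤ) - ((((tabOf D).str r s.val).length - 1 : ℕ) : ℤ)) =
              ((tabOf D).pos r s.val : ℤ) +
                -((((tabOf D).str r s.val).length - 1 - (tabOf D).pos r s.val : ℕ) : ℤ) := by
            push_cast [Nat.cast_sub h2']
            ring
          rw [e, zpow_add₀ ht, _root_.zpow_neg, zpow_natCast, zpow_natCast, inv_pow]
        rw [key]
        ext x
        simp [Pi.single_apply]

end rank1


section simple

variable (hG : Good1 D) {i : ℕ} (hi : i < D.rank)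

include hG hi in
theorem Good1.simple_lt : D.simple i < D.nroots := (hG.t1s i hi).1

include hG hi in
theorem Good1.cr_simple {i' : ℕ} (hi' : i' < D.rank) :
    cr D (D.simple i) i' = if i' = i then 1 else 0 := (hG.t1s i hi).2 i' hi'

include hG hi in
/-- For a fundamental root the pairing is the Cartan integer. -/
theorem pairing_simple (s : ℕ) : (tabOf D).pairing (D.simple i) s = D.cartan i s := by
  rw [pairing_eq_sum, Finset.sum_eq_single (⟨i, hi⟩ : Fin D.rank)]
  · rw [hG.cr_simple hi hi, if_pos rfl, one_mul]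
  · intro b _ hb
    rw [hG.cr_simple hi b.2, if_neg (fun h => hb (Fin.ext h)), zero_mul]
  · intro h; exact absurd (Finset.mem_univ _) h

include hG hi in
/-- The coroot of a fundamental root is the corresponding fundamental coroot. -/
theorem hR_simple : hR D F (D.simple i) = eH D F ⟨i, hi⟩ := by
  unfold hR
  rw [Finset.sum_eq_single (⟨i, hi⟩ : Fin D.rank)]
  · rw [hG.cr_simple hi hi, if_pos rfl]; simp
  · intro b _ hb
    rw [hG.cr_simple hi b.2, if_neg (fun h => hb (Fin.ext h))]; simp
  · intro h; exact absurd (Finset.mem_univ _) h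

end simple

end Cfsg.Agent.Helper7.Chev
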