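import Mathlib
import Cfsg.Agent.Helper7.ChevStr

set_option autoImplicit false

/-!
Table facts of level 2, stated for tables given as functions: additivity of the Cartan integers along
chains, and the compatibility of the tables with the reflections in the fundamental roots.
-/

namespace Cfsg.Agent.Helper7.Chev

open Cfsg Cfsg.Lie

namespace Tab

variable (T : Tab)

/-- The sign `η_{r,s}` with `n_r e_s = η_{r,s} e_{w_r s}`. -/
def eta (r s : ℕ) : ℤ :=
  if s = r ∨ s = T.neg r then -1
  else (-1) ^ (T.pos r s) * T.epsAt r (T.bot r s) (T.pos r s) *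
    T.epsAt r (T.bot r s) ((T.str r s).length - 1 - T.pos r s)

/-- The reflected root `w_r s`. -/
def refl (r s : ℕ) : ℕ :=
  if s = r then T.neg r else if s = T.neg r then r
  else (T.str r s).getD ((T.str r s).length - 1 - T.pos r s) 0

/-- The reflection in the `i`-th fundamental root as read off the chains by the Cartan integer. -/
def reflectRoot (i s : ℕ) : ℕ :=
  if s = T.simple i then T.neg (T.simple i)
  else if s = T.neg (T.simple i) then T.simple i
  else if 0 < T.cartan i s then
    ((((T.ce (T.neg (T.simple i)) s)[(T.cartan i s).toNat - 1]?).map Prod.fst)).getD s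
  else if T.cartan i s < 0 then
    ((((T.ce (T.simple i) s)[(-(T.cartan i s)).toNat - 1]?).map Prod.fst)).getD s
  else s

/-- Additivity of the Cartan integers along the chains of the row `r`. -/
def T15row (r : ℕ) : Prop :=
  AllLt T.n (fun s => AllLt T.l (fun i => ∀ q ∈ (T.ce r s).zipIdx,
    T.cartan i q.1.1 = T.cartan i s + ((q.2 + 1 : ℕ) : ℤ) * T.cartan i r))

instance (r : ℕ) : Decidable (T.T15row r) := by unfold T15row; infer_instance

/-- Additivity of the Cartan integers along all chains. -/
def T15 : Prop := AllLt T.n T.T15row

instance : Decidable T.T15 := by unfold T15; infer_instance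

/-- Compatibility of the tables with the reflection in the `i`-th fundamental root, at the root `s`. -/
def T2row (i s : ℕ) : Prop :=
  T.refl (T.simple i) s < T.n ∧ T.refl (T.simple i) (T.refl (T.simple i) s) = s ∧
  T.refl (T.simple i) (T.neg s) = T.neg (T.refl (T.simple i) s) ∧
  T.reflectRoot i s = T.refl (T.simple i) s ∧
  T.eta (T.simple i) s * T.eta (T.simple i) (T.neg s) = 1 ∧
  AllLt T.l (fun j =>
    T.cartan j (T.refl (T.simple i) s) = T.cartan j s - T.cartan i s * T.cartan j (T.simple i) ∧
    T.cr (T.refl (T.simple i) s) j = T.cr s j - (if j = i then T.pairing s (T.simple i) else 0)) ∧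
  AllLt T.n (fun v => T.ce s v ≠ [] →
    T.ce (T.refl (T.simple i) s) (T.refl (T.simple i) v) =
      (T.ce s v).zipIdx.map (fun q => (T.refl (T.simple i) q.1.1,
        q.1.2 * T.eta (T.simple i) q.1.1 * T.eta (T.simple i) v * T.eta (T.simple i) s ^ (q.2 + 1))))

instance (i s : ℕ) : Decidable (T.T2row i s) := by unfold T2row; infer_instance

/-- Compatibility of the tables with the reflection in the `i`-th fundamental root. -/
def T2simple (i : ℕ) : Prop := AllLt T.n (T.T2row i)

instance (i : ℕ) : Decidable (T.T2simple i) := by unfold T2simple; infer_instance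

/-- Compatibility of the tables with the reflections in the fundamental roots. -/
def T2 : Prop := AllLt T.l T.T2simple

instance : Decidable T.T2 := by unfold T2; infer_instance

end Tab

theorem reflectRoot_eq (D : ChevalleyDatum) (i s : ℕ) :
    (tabOf D).reflectRoot i s = D.reflectRoot i s := rfl

end Cfsg.Agent.Helper7.Chev
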