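import Mathlib
import Cfsg.Agent.Helper7.ChevRank1
import Cfsg.Agent.Helper7.ChevStr2

set_option autoImplicit false
set_option linter.unusedSectionVars false
set_option linter.unusedVariables false

/-!
The action of `n_r = n_r(1)` on the coordinate module (a signed permutation of the root vectors), and
for a fundamental root `p` the conjugation formula `n_p x_s(t) n_p⁻¹ = x_{w_p s}(η_s t)`.
-/

namespace Cfsg.Agent.Helper7.Chev

open Cfsg Cfsg.Lie Matrix

/-- The level-2 table facts of a datum. -/
structure Good2 (D : ChevalleyDatum) : Prop extends Good1 D where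
  t15 : (tabOf D).T15
  t2 : (tabOf D).T2

variable {D : ChevalleyDatum} {F : Type*} [Field F]

section nmat

variable (hG : Good1 D) {r : ℕ} (hr : r < D.nroots)

include hG hr in
theorem nMat_one_eq : D.nMat F r 1 = phiMat D r !![0, 1; -1, 0] := by
  rw [nMat_eq hG hr (one_ne_zero)]
  simp

include hG hr in
/-- The signs `η_{r,s}` square to one. -/
theorem eta_sq {s : ℕ} (hs : s < D.nroots) : (tabOf D).eta r s * (tabOf D).eta r s = 1 := by
  unfold Tab.eta
  by_cases h : s = r ∨ s = (tabOf D).neg r
  · rw [if_pos h]; norm_num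
  · rw [if_neg h]
    rw [not_or] at h
    obtain ⟨h1, h2, h3, h4, h5, h6, h7, h8, h9⟩ := hG.strOK hr hs h.1 h.2
    have hlen := str_length_pos D r s
    have e1 := eps_sq hG hr hs h.1 h.2 (k := (tabOf D).pos r s) (by omega)
    have e2 := eps_sq hG hr hs h.1 h.2
      (k := ((tabOf D).str r s).length - 1 - (tabOf D).pos r s) (by omega)
    have e3 : ((-1 : ℤ) ^ (tabOf D).pos r s) * ((-1 : ℤ) ^ (tabOf D).pos r s) = 1 := by
      rw [← mul_pow]; norm_num
    linear_combination
      ((tabOf D).epsAt r ((tabOf D).bot r s) ((tabOf D).pos r s)) ^ 2 *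
        ((tabOf D).epsAt r ((tabOf D).bot r s)
          (((tabOf D).str r s).length - 1 - (tabOf D).pos r s)) ^ 2 * e3 +
      ((tabOf D).epsAt r ((tabOf D).bot r s)
          (((tabOf D).str r s).length - 1 - (tabOf D).pos r s)) ^ 2 * e1 + e2

include hG hr in
/-- `n_r` on the root vectors: a signed permutation. -/
theorem nMat_mulVec_eR {s : ℕ} (hs : s < D.nroots) :
    D.nMat F r 1 *ᵥ eR D F s = (((tabOf D).eta r s : ℤ) : F) • eR D F ((tabOf D).refl r s) := by
  have hn := hG.neg_lt hr
  have hne := hG.neg_ne hr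
  rw [nMat_one_eq hG hr]
  unfold Tab.eta Tab.refl
  by_cases h1 : s = r
  · subst h1
    rw [phiMat_mulVec_eR_self hr, if_pos (Or.inl rfl), if_pos rfl]
    unfold adjE
    ext x
    simp
    rfl
  · rw [if_neg h1]
    by_cases h2 : s = (tabOf D).neg r
    · rw [if_pos (Or.inr h2), if_pos h2, h2]
      have : (tabOf D).neg r = D.neg r := rfl
      rw [this, phiMat_mulVec_eR_neg hn hne]
      unfold adjF
      ext x
      simp
    · rw [if_neg (by tauto), if_neg h2, phiMat_mulVec_eR_other hs h1 h2, strVec_anti hG hr hs h1 h2]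
      congr 1
      push_cast
      ring

include hG hr in
/-- `n_r` on the fundamental coroots. -/
theorem nMat_mulVec_eH (j : Fin D.rank) :
    D.nMat F r 1 *ᵥ eH D F j = eH D F j - ((D.cartan j.val r : ℤ) : F) • hR D F r := by
  rw [nMat_one_eq hG hr, phiMat_mulVec_eH]
  unfold adjH adjCore
  ext x
  simp
  ring

end nmat


theorem mulVec_list_sum {ι : Type*} [Fintype ι] (A : Matrix ι ι F) (L : List (ι → F)) :
    A *ᵥ L.sum = (L.map (fun v => A *ᵥ v)).sum := by
  induction L with
  | nil => simp
  | cons a L ih => rw [List.sum_cons, Matrix.mulVec_add, ih, List.map_cons, List.sum_cons]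

/-- Enumerating a mapped enumeration. -/
theorem zipIdx_map_zipIdx {α β : Type*} (L : List α) (f : α × ℕ → β) :
    (L.zipIdx.map f).zipIdx = L.zipIdx.map (fun q => (f q, q.2)) := by
  apply List.ext_getElem
  · simp
  · intro k h1 h2
    simp

section conj

variable (hG : Good2 D) {i : ℕ} (hi : i < D.rank)

include hG hi in
theorem Good2.row {s : ℕ} (hs : s < D.nroots) : (tabOf D).T2row i s := hG.t2 i hi s hs

include hG hi in
/-- `n_p` on the coroot vectors. -/
theorem nMat_mulVec_hR {s : ℕ} (hs : s < D.nroots) :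
    D.nMat F (D.simple i) 1 *ᵥ hR D F s = hR D F ((tabOf D).refl (D.simple i) s) := by
  have hp := hG.toGood1.simple_lt hi
  obtain ⟨_, _, _, _, _, h6, _⟩ := hG.row hi hs
  have hpair := pairing_eq_sum D s (D.simple i)
  have hcr : ∀ j : Fin D.rank, (cr D ((tabOf D).refl (D.simple i) s) j.val : ℤ) =
      cr D s j.val - (if j.val = i then (tabOf D).pairing s (D.simple i) else 0) :=
    fun j => (h6 j.val j.2).2
  have L : D.nMat F (D.simple i) 1 *ᵥ hR D F s =
      hR D F s - (((tabOf D).pairing s (D.simple i) : ℤ) : F) • eH D F ⟨i, hi⟩ := by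
    unfold hR
    rw [Matrix.mulVec_sum]
    simp only [Matrix.mulVec_smul, nMat_mulVec_eH hG.toGood1 hp, hR_simple hG.toGood1 hi]
    simp only [smul_sub, Finset.sum_sub_distrib, smul_smul, ← Finset.sum_smul]
    congr 2
    rw [hpair]
    push_cast
    rfl
  have R : hR D F ((tabOf D).refl (D.simple i) s) =
      hR D F s - (((tabOf D).pairing s (D.simple i) : ℤ) : F) • eH D F ⟨i, hi⟩ := by
    unfold hR
    simp only [hcr, Int.cast_sub, sub_smul, Finset.sum_sub_distrib]
    congr 1
    rw [Finset.sum_eq_single (⟨i, hi⟩ : Fin D.rank)]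
    · simp
    · intro b _ hb
      rw [if_neg (fun h => hb (Fin.ext h))]; simp
    · intro h; exact absurd (Finset.mem_univ _) h
  rw [L, R]

include hG hi in
theorem Good2.refl_lt {s : ℕ} (hs : s < D.nroots) : (tabOf D).refl (D.simple i) s < D.nroots :=
  (hG.row hi hs).1

include hG hi in
theorem Good2.refl_refl {s : ℕ} (hs : s < D.nroots) :
    (tabOf D).refl (D.simple i) ((tabOf D).refl (D.simple i) s) = s := (hG.row hi hs).2.1

include hG hi in
theorem Good2.refl_neg {s : ℕ} (hs : s < D.nroots) :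
    (tabOf D).refl (D.simple i) (D.neg s) = D.neg ((tabOf D).refl (D.simple i) s) :=
  (hG.row hi hs).2.2.1

include hG hi in
theorem Good2.reflectRoot_eq {s : ℕ} (hs : s < D.nroots) :
    D.reflectRoot i s = (tabOf D).refl (D.simple i) s := (hG.row hi hs).2.2.2.1

include hG hi in
theorem Good2.eta_neg {s : ℕ} (hs : s < D.nroots) :
    (tabOf D).eta (D.simple i) s * (tabOf D).eta (D.simple i) (D.neg s) = 1 :=
  (hG.row hi hs).2.2.2.2.1

include hG hi in
theorem Good2.cartan_refl {s : ℕ} (hs : s < D.nroots) {j : ℕ} (hj : j < D.rank) :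
    D.cartan j ((tabOf D).refl (D.simple i) s) =
      D.cartan j s - D.cartan i s * D.cartan j (D.simple i) :=
  ((hG.row hi hs).2.2.2.2.2.1 j hj).1

include hG hi in
theorem Good2.ce_refl {s v : ℕ} (hs : s < D.nroots) (hv : v < D.nroots)
    (hne : (tabOf D).ce s v ≠ []) :
    (tabOf D).ce ((tabOf D).refl (D.simple i) s) ((tabOf D).refl (D.simple i) v) =
      ((tabOf D).ce s v).zipIdx.map (fun q => ((tabOf D).refl (D.simple i) q.1.1,
        q.1.2 * (tabOf D).eta (D.simple i) q.1.1 * (tabOf D).eta (D.simple i) v *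
          (tabOf D).eta (D.simple i) s ^ (q.2 + 1))) :=
  (hG.row hi hs).2.2.2.2.2.2 v hv hne

include hG hi in
/-- Reflection maps empty chain entries to empty chain entries. -/
theorem Good2.ce_refl_nil {s v : ℕ} (hs : s < D.nroots) (hv : v < D.nroots)
    (hnil : (tabOf D).ce s v = []) :
    (tabOf D).ce ((tabOf D).refl (D.simple i) s) ((tabOf D).refl (D.simple i) v) = [] := by
  by_contra hne
  have := hG.ce_refl hi (hG.refl_lt hi hs) (hG.refl_lt hi hv) hne
  rw [hG.refl_refl hi hs, hG.refl_refl hi hv, hnil] at this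
  apply hne
  have h2 := congrArg List.length this
  simp only [List.length_nil, List.length_map, List.length_zipIdx] at h2
  exact List.eq_nil_of_length_eq_zero h2.symm

include hG hi in
theorem Good2.cartan_simple_self : D.cartan i (D.simple i) = 2 := by
  rw [← pairing_simple hG.toGood1 hi]
  exact hG.toGood1.pairing_self (hG.toGood1.simple_lt hi)

end conj


section conj2

variable (hG : Good2 D) {i : ℕ} (hi : i < D.rank)

include hG in
/-- Targets of chain entries are roots. -/
theorem ce_target_lt {r s : ℕ} (hr : r < D.nroots) (hs : s < D.nroots) (hsr : s ≠ r)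
    (hsn : s ≠ D.neg r) : ∀ q ∈ (tabOf D).ce r s, q.1 < D.nroots := by
  obtain ⟨h1, h2, h3, h4, h5, h6, h7, h8, h9⟩ := hG.toGood1.strOK hr hs hsr hsn
  intro q hq
  rw [h6, List.mem_map] at hq
  obtain ⟨k, hk, rfl⟩ := hq
  rw [List.mem_range] at hk
  exact (str_member hG.toGood1 hr hs hsr hsn (k := (tabOf D).pos r s + k + 1) (by omega)).1

include hG hi in
/-- `n_p` carries the chain part of `x_s(t) e_v` to that of `x_{w s}(η_s t) e_{w v}`. -/
theorem nMat_mulVec_chainVec {s v : ℕ} (hs : s < D.nroots) (hv : v < D.nroots) (hvs : v ≠ s)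
    (hvn : v ≠ D.neg s) (t : F) :
    D.nMat F (D.simple i) 1 *ᵥ chainVec D F s v t =
      (((tabOf D).eta (D.simple i) v : ℤ) : F) •
        chainVec D F ((tabOf D).refl (D.simple i) s) ((tabOf D).refl (D.simple i) v)
          ((((tabOf D).eta (D.simple i) s : ℤ) : F) * t) := by
  have hp := hG.toGood1.simple_lt hi
  have hce : ∀ a b, D.chainEntry a b = (tabOf D).ce a b := fun _ _ => rfl
  unfold chainVec
  rw [hce, hce]
  by_cases hnil : (tabOf D).ce s v = []
  · rw [hG.ce_refl_nil hi hs hv hnil, hnil]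
    simp
  · rw [hG.ce_refl hi hs hv hnil, zipIdx_map_zipIdx, List.map_map]
    have htl := ce_target_lt hG hs hv hvs hvn
    have hes := eta_sq hG.toGood1 hp (r := D.simple i) hs
    have hev := eta_sq hG.toGood1 hp (r := D.simple i) hv
    have hesF : (((tabOf D).eta (D.simple i) s : ℤ) : F) * (((tabOf D).eta (D.simple i) s : ℤ) : F) = 1 := by
      rw [← Int.cast_mul, hes, Int.cast_one]
    have hevF : (((tabOf D).eta (D.simple i) v : ℤ) : F) * (((tabOf D).eta (D.simple i) v : ℤ) : F) = 1 := by
      rw [← Int.cast_mul, hev, Int.cast_one]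
    generalize (tabOf D).ce s v = L at htl
    rw [mulVec_list_sum, List.smul_sum, List.map_map, List.map_map]
    congr 1
    apply List.map_congr_left
    intro q hq
    have hq1 : q.1 ∈ L := by
      obtain ⟨h1, h2⟩ := List.mem_zipIdx' (x := q.1) (i := q.2) hq
      rw [h2]; exact List.getElem_mem h1
    have hu := htl q.1 hq1
    simp only [Function.comp_apply]
    rw [Matrix.mulVec_smul, nMat_mulVec_eR hG.toGood1 hp hu, smul_smul, smul_smul]
    congr 1
    have heu := eta_sq hG.toGood1 hp (r := D.simple i) hu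
    push_cast
    rw [mul_pow]
    have hpow : (((tabOf D).eta (D.simple i) s : ℤ) : F) ^ (q.2 + 1) *
        (((tabOf D).eta (D.simple i) s : ℤ) : F) ^ (q.2 + 1) = 1 := by
      rw [← mul_pow, hesF, one_pow]
    linear_combination (-(q.1.2 : F) * t ^ (q.2 + 1) * (((tabOf D).eta (D.simple i) q.1.1 : ℤ) : F) *
      (((tabOf D).eta (D.simple i) s : ℤ) : F) ^ (q.2 + 1) *
      (((tabOf D).eta (D.simple i) s : ℤ) : F) ^ (q.2 + 1)) * hevF +
      (-(q.1.2 : F) * t ^ (q.2 + 1) * (((tabOf D).eta (D.simple i) q.1.1 : ℤ) : F)) * hpow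

include hG hi in
/-- Conjugation of a root element by `n_p` for a fundamental root `p`. -/
theorem nMat_mul_x {s : ℕ} (hs : s < D.nroots) (t : F) :
    D.nMat F (D.simple i) 1 * D.x F s t =
      D.x F ((tabOf D).refl (D.simple i) s) ((((tabOf D).eta (D.simple i) s : ℤ) : F) * t) *
        D.nMat F (D.simple i) 1 := by
  have hG1 := hG.toGood1
  have hp := hG1.simple_lt hi
  have hws := hG.refl_lt hi hs
  have hns := hG1.neg_lt hs
  have hes := eta_sq hG1 hp (r := D.simple i) hs
  have hesF : (((tabOf D).eta (D.simple i) s : ℤ) : F) * (((tabOf D).eta (D.simple i) s : ℤ) : F) = 1 := by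
    rw [← Int.cast_mul, hes, Int.cast_one]
  apply matrix_ext_mulVec
  intro v
  rw [← Matrix.mulVec_mulVec, ← Matrix.mulVec_mulVec]
  rcases v with j | v
  · change D.nMat F (D.simple i) 1 *ᵥ (D.x F s t *ᵥ eH D F j) = D.x F _ _ *ᵥ (D.nMat F (D.simple i) 1 *ᵥ eH D F j)
    rw [x_mulVec_eH D F hs, Matrix.mulVec_add, Matrix.mulVec_smul, nMat_mulVec_eH hG1 hp,
      nMat_mulVec_eR hG1 hp hs, hR_simple hG1 hi, Matrix.mulVec_sub, Matrix.mulVec_smul,
      x_mulVec_eH D F hws, x_mulVec_eH D F hws, hG.cartan_refl hi hs j.2, hG.cartan_refl hi hs hi,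
      hG.cartan_simple_self hi]
    ext x
    simp only [Pi.add_apply, Pi.sub_apply, Pi.smul_apply, smul_eq_mul]
    push_cast
    ring
  · rw [single_inr]
    by_cases h1 : v.val = s
    · rw [h1, x_mulVec_eR_self D F hs, nMat_mulVec_eR hG1 hp hs, Matrix.mulVec_smul,
        x_mulVec_eR_self D F hws]
    · by_cases h2 : v.val = D.neg s
      · rw [h2, x_mulVec_eR_neg D F hs hns (hG1.neg_ne hs), Matrix.mulVec_add, Matrix.mulVec_add,
          Matrix.mulVec_smul, Matrix.mulVec_smul, nMat_mulVec_eR hG1 hp hs,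
          nMat_mulVec_eR hG1 hp hns, nMat_mulVec_hR hG hi hs, hG.refl_neg hi hs,
          Matrix.mulVec_smul,
          x_mulVec_eR_neg D F hws (hG1.neg_lt hws) (hG1.neg_ne hws)]
        have hen := hG.eta_neg hi hs
        have henF : (((tabOf D).eta (D.simple i) s : ℤ) : F) *
            (((tabOf D).eta (D.simple i) (D.neg s) : ℤ) : F) = 1 := by
          rw [← Int.cast_mul, hen, Int.cast_one]
        ext x
        simp only [Pi.add_apply, Pi.smul_apply, smul_eq_mul]
        have e1 : (((tabOf D).eta (D.simple i) (D.neg s) : ℤ) : F) =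
            (((tabOf D).eta (D.simple i) s : ℤ) : F) := by
          linear_combination (-(((tabOf D).eta (D.simple i) (D.neg s) : ℤ) : F)) * hesF +
            (((tabOf D).eta (D.simple i) s : ℤ) : F) * henF
        rw [e1]
        linear_combination (-(t * hR D F ((tabOf D).refl (D.simple i) s) x) +
          t ^ 2 * (((tabOf D).eta (D.simple i) s : ℤ) : F) *
            eR D F ((tabOf D).refl (D.simple i) s) x) * hesF
      · have hwv := hG.refl_lt hi v.2
        have hne1 : (tabOf D).refl (D.simple i) v.val ≠ (tabOf D).refl (D.simple i) s := by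
          intro h
          apply h1
          rw [← hG.refl_refl hi v.2, h, hG.refl_refl hi hs]
        have hne2 : (tabOf D).refl (D.simple i) v.val ≠ D.neg ((tabOf D).refl (D.simple i) s) := by
          intro h
          apply h2
          rw [← hG.refl_neg hi hs] at h
          rw [← hG.refl_refl hi v.2, h, hG.refl_refl hi hns]
        rw [x_mulVec_eR_other D F hs (hG1.keysNodup hs) v.2 h1 h2, Matrix.mulVec_add,
          nMat_mulVec_eR hG1 hp v.2, nMat_mulVec_chainVec hG hi hs v.2 h1 h2, Matrix.mulVec_smul,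
          x_mulVec_eR_other D F hws (hG1.keysNodup hws) hwv hne1 hne2, smul_add]

end conj2

end Cfsg.Agent.Helper7.Chev
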