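import Mathlib
import Cfsg.Agent.Helper7.ChevRank2

set_option autoImplicit false
set_option linter.unusedSectionVars false
set_option linter.unusedVariables false

/-!
Consequences of the level-2 table facts: conjugation of root elements by `n_p` and `h_p(c)`,
the monomial shape of `n_p`.
-/

namespace Cfsg.Agent.Helper7.Chev

open Cfsg Cfsg.Lie Matrix

variable {D : ChevalleyDatum} {F : Type*} [Field F]

theorem int_sq_one {a : ℤ} (h : a * a = 1) : a = 1 ∨ a = -1 := by
  have h1 : (a - 1) * (a + 1) = 0 := by linear_combination h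
  rcases mul_eq_zero.1 h1 with h2 | h2
  · left; omega
  · right; omega

/-- The statement of S1031 from the table facts. -/
theorem n_simple_conj_root_elem (hG : Good2 D) {i s : ℕ} (hi : i < D.rank) (hs : s < D.nroots) :
    ∃ η : ℤ, (η = 1 ∨ η = -1) ∧
      ∀ t : F, D.nMat F (D.simple i) 1 * D.x F s t =
        D.x F (D.reflectRoot i s) ((η : F) * t) * D.nMat F (D.simple i) 1 := by
  refine ⟨(tabOf D).eta (D.simple i) s,
    int_sq_one (eta_sq hG.toGood1 (hG.toGood1.simple_lt hi) hs), fun t => ?_⟩
  rw [hG.reflectRoot_eq hi hs]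
  exact nMat_mul_x hG hi hs t


theorem eta_self (r : ℕ) : (tabOf D).eta r r = -1 := by
  unfold Tab.eta; rw [if_pos (Or.inl rfl)]

theorem eta_neg_self (r : ℕ) : (tabOf D).eta r (D.neg r) = -1 := by
  have h : D.neg r = r ∨ D.neg r = (tabOf D).neg r := Or.inr rfl
  unfold Tab.eta; rw [if_pos h]

theorem refl_self (r : ℕ) : (tabOf D).refl r r = D.neg r := by
  unfold Tab.refl; rw [if_pos rfl]; rfl

theorem neg_one_pow_natAbs (a : ℤ) (n m : ℕ) (h : a = 2 * (n : ℤ) - (m : ℤ)) :
    ((-1 : ℤ)) ^ a.natAbs = (-1) ^ m := by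
  rw [neg_one_pow_eq_pow_mod_two, neg_one_pow_eq_pow_mod_two (n := m)]
  congr 1
  omega

section monomial

variable (hG : Good2 D) {i : ℕ} (hi : i < D.rank)

include hG hi in
/-- `η_s η_{w_p s} = (-1)^{A_{p,s}}`. -/
theorem eta_mul_eta_refl {s : ℕ} (hs : s < D.nroots) :
    (tabOf D).eta (D.simple i) s * (tabOf D).eta (D.simple i) ((tabOf D).refl (D.simple i) s) =
      (-1) ^ (D.cartan i s).natAbs := by
  have hG1 := hG.toGood1
  have hp := hG1.simple_lt hi
  have hnp := hG1.neg_ne hp
  have hc := hG.cartan_simple_self hi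
  by_cases h1 : s = D.simple i
  · rw [h1, refl_self, eta_self, eta_neg_self, hc]; norm_num
  · by_cases h2 : s = D.neg (D.simple i)
    · have hr : (tabOf D).refl (D.simple i) s = D.simple i := by
        have h2' : s = (tabOf D).neg (D.simple i) := h2
        unfold Tab.refl
        rw [if_neg h1, if_pos h2']
      rw [hr, h2, eta_self, eta_neg_self, hG1.cartan_neg hp hi, hc]; norm_num
    · obtain ⟨k1, k2, k3, k4, k5, k6, k7, k8, k9⟩ := hG1.strOK hp hs h1 h2
      have hlen := str_length_pos D (D.simple i) s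
      have hk : ((tabOf D).str (D.simple i) s).length - 1 - (tabOf D).pos (D.simple i) s <
          ((tabOf D).str (D.simple i) s).length := by omega
      obtain ⟨m1, m2, m3⟩ := str_member hG1 hp hs h1 h2 hk
      obtain ⟨e1, e2, e3⟩ := str_of_member hG1 hp hs h1 h2 hk
      have hr : (tabOf D).refl (D.simple i) s = ((tabOf D).str (D.simple i) s).getD
          (((tabOf D).str (D.simple i) s).length - 1 - (tabOf D).pos (D.simple i) s) 0 := by
        have h2' : ¬ s = (tabOf D).neg (D.simple i) := h2
        unfold Tab.refl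
        rw [if_neg h1, if_neg h2']
      rw [hr]
      have q1 := eps_sq hG1 hp hs h1 h2 (k := (tabOf D).pos (D.simple i) s) (by omega)
      have q2 := eps_sq hG1 hp hs h1 h2 hk
      rw [pairing_simple hG1 hi] at k9
      rw [neg_one_pow_natAbs _ _ _ k9]
      unfold Tab.eta
      rw [if_neg (by tauto), if_neg (by tauto), e1, e2, e3]
      have hsub : ((tabOf D).str (D.simple i) s).length - 1 -
          (((tabOf D).str (D.simple i) s).length - 1 - (tabOf D).pos (D.simple i) s) =
          (tabOf D).pos (D.simple i) s := by omega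
      rw [hsub]
      have hpw : ((-1 : ℤ)) ^ (tabOf D).pos (D.simple i) s *
          (-1) ^ (((tabOf D).str (D.simple i) s).length - 1 - (tabOf D).pos (D.simple i) s) =
          (-1) ^ (((tabOf D).str (D.simple i) s).length - 1) := by
        rw [← pow_add]; congr 1; omega
      rw [← hpw]
      linear_combination
        ((-1 : ℤ)) ^ (tabOf D).pos (D.simple i) s *
          (-1) ^ (((tabOf D).str (D.simple i) s).length - 1 - (tabOf D).pos (D.simple i) s) *
          ((tabOf D).epsAt (D.simple i) ((tabOf D).bot (D.simple i) s)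
            (((tabOf D).str (D.simple i) s).length - 1 - (tabOf D).pos (D.simple i) s)) ^ 2 * q1 +
        ((-1 : ℤ)) ^ (tabOf D).pos (D.simple i) s *
          (-1) ^ (((tabOf D).str (D.simple i) s).length - 1 - (tabOf D).pos (D.simple i) s) * q2

include hG hi in
/-- The statement of S1095 from the table facts. -/
theorem n_simple_matrix :
    ∃ η : ℕ → ℤ, (∀ s < D.nroots, η s = 1 ∨ η s = -1) ∧ η (D.simple i) = -1 ∧
      η (D.neg (D.simple i)) = -1 ∧
      (∀ s < D.nroots, η s * η (D.reflectRoot i s) = (-1) ^ (D.cartan i s).natAbs ∧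
        η s * η (D.neg s) = 1) ∧
      D.nMat F (D.simple i) 1 = Matrix.of (fun (row col : D.Idx) =>
        Sum.elim
          (fun j' : Fin D.rank => Sum.elim
            (fun j : Fin D.rank => (if j' = j then (1 : F) else 0) -
              (if (j' : ℕ) = i then ((D.cartan j (D.simple i) : ℤ) : F) else 0))
            (fun _ => (0 : F)) col)
          (fun s' : Fin D.nroots => Sum.elim
            (fun _ => (0 : F))
            (fun s : Fin D.nroots => if (s' : ℕ) = D.reflectRoot i s then ((η s : ℤ) : F) else 0) col)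
          row) := by
  have hG1 := hG.toGood1
  have hp := hG1.simple_lt hi
  refine ⟨fun s => (tabOf D).eta (D.simple i) s, fun s hs => int_sq_one (eta_sq hG1 hp hs),
    eta_self _, eta_neg_self _, fun s hs => ⟨?_, hG.eta_neg hi hs⟩, ?_⟩
  · rw [hG.reflectRoot_eq hi hs]
    exact eta_mul_eta_refl hG hi hs
  · apply matrix_ext_mulVec
    intro v
    rcases v with j | v
    · change D.nMat F (D.simple i) 1 *ᵥ eH D F j = _
      rw [nMat_mulVec_eH hG1 hp, hR_simple hG1 hi, Matrix.mulVec_single_one]
      ext row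
      rcases row with j' | s'
      · simp only [Pi.sub_apply, Pi.smul_apply, eH_apply_inl, smul_eq_mul, Matrix.col_apply,
          Matrix.of_apply, Sum.elim_inl]
        by_cases h1 : j = j'
        · subst h1
          by_cases h2 : (⟨i, hi⟩ : Fin D.rank) = j
          · subst h2; simp
          · have h3 : (j : ℕ) ≠ i := fun h => h2 (Fin.ext h.symm)
            simp [h2, h3]
        · have h1' : ¬ j' = j := fun h => h1 h.symm
          by_cases h2 : (⟨i, hi⟩ : Fin D.rank) = j'
          · subst h2; simp [h1, h1']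
          · have h3 : (j' : ℕ) ≠ i := fun h => h2 (Fin.ext h.symm)
            simp [h1, h1', h2, h3]
      · simp [eH_apply_inr]
    · rw [single_inr, nMat_mulVec_eR hG1 hp v.2, ← single_inr, Matrix.mulVec_single_one]
      ext row
      rcases row with j' | s'
      · simp [eR_apply_inl]
      · simp only [Pi.smul_apply, eR_apply_inr, smul_eq_mul, Matrix.col_apply, Matrix.of_apply,
          Sum.elim_inr, hG.reflectRoot_eq hi v.2]
        by_cases h : (tabOf D).refl (D.simple i) v.val = s'.val
        · rw [if_pos h, if_pos h.symm, mul_one]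
        · rw [if_neg h, if_neg (fun h' => h h'.symm), mul_zero]

end monomial

section hconj

variable (hG : Good2 D) {r : ℕ} (hr : r < D.nroots)

include hG in
/-- Additivity of the pairing along chains. -/
theorem pairing_chain (r : ℕ) {s v : ℕ} (hs : s < D.nroots) (hv : v < D.nroots) :
    ∀ q ∈ ((tabOf D).ce s v).zipIdx,
      (tabOf D).pairing r q.1.1 =
        (tabOf D).pairing r v + ((q.2 + 1 : ℕ) : ℤ) * (tabOf D).pairing r s := by
  intro q hq
  rw [pairing_eq_sum, pairing_eq_sum, pairing_eq_sum, Finset.mul_sum, ← Finset.sum_add_distrib]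
  apply Finset.sum_congr rfl
  intro i _
  have := hG.t15 s hs v hv i.val i.2 q hq
  have h2 : D.cartan i.val q.1.1 = D.cartan i.val v + ((q.2 + 1 : ℕ) : ℤ) * D.cartan i.val s := this
  rw [h2]
  ring

include hG hr in
theorem hMat_mulVec_eH {c : F} (hc : c ≠ 0) (j : Fin D.rank) :
    D.hMat F r c *ᵥ eH D F j = eH D F j := by
  rw [hMat_eq_diagonal hG.toGood1 hr hc]
  unfold eH
  rw [Matrix.diagonal_mulVec_single]
  simp

include hG hr in
theorem hMat_mulVec_eR {c : F} (hc : c ≠ 0) {s : ℕ} (hs : s < D.nroots) :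
    D.hMat F r c *ᵥ eR D F s = (c ^ (tabOf D).pairing r s) • eR D F s := by
  rw [hMat_eq_diagonal hG.toGood1 hr hc, eR_of_lt hs, Matrix.diagonal_mulVec_single]
  ext x
  simp [Pi.single_apply]

include hG hr in
theorem hMat_mulVec_hR {c : F} (hc : c ≠ 0) (s : ℕ) :
    D.hMat F r c *ᵥ hR D F s = hR D F s := by
  unfold hR
  rw [Matrix.mulVec_sum]
  apply Finset.sum_congr rfl
  intro j _
  rw [Matrix.mulVec_smul, hMat_mulVec_eH hG hr hc]

include hG hr in
theorem hMat_mulVec_chainVec {c : F} (hc : c ≠ 0) {s v : ℕ} (hs : s < D.nroots)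
    (hv : v < D.nroots) (hvs : v ≠ s) (hvn : v ≠ D.neg s) (t : F) :
    D.hMat F r c *ᵥ chainVec D F s v t =
      (c ^ (tabOf D).pairing r v) • chainVec D F s v (c ^ (tabOf D).pairing r s * t) := by
  have hce : ∀ a b, D.chainEntry a b = (tabOf D).ce a b := fun _ _ => rfl
  unfold chainVec
  rw [hce]
  have htl := ce_target_lt hG hs hv hvs hvn
  have hpc := pairing_chain hG r hs hv
  generalize (tabOf D).ce s v = L at htl hpc
  rw [mulVec_list_sum, List.smul_sum, List.map_map, List.map_map]
  congr 1
  apply List.map_congr_left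
  intro q hq
  have hq1 : q.1 ∈ L := by
    obtain ⟨h1, h2⟩ := List.mem_zipIdx' (x := q.1) (i := q.2) hq
    rw [h2]; exact List.getElem_mem h1
  have hu := htl q.1 hq1
  simp only [Function.comp_apply]
  rw [Matrix.mulVec_smul, hMat_mulVec_eR hG hr hc hu, smul_smul, smul_smul, hpc q hq]
  congr 1
  have hz : c ^ (((q.2 + 1 : ℕ) : ℤ) * (tabOf D).pairing r s) =
      (c ^ (tabOf D).pairing r s) ^ (q.2 + 1) := by
    rw [mul_comm, _root_.zpow_mul, zpow_natCast]
  rw [zpow_add₀ hc, mul_pow, hz]
  ring

include hG hr in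
/-- Conjugation of a root element by `h_r(c)`. -/
theorem hMat_mul_x {c : F} (hc : c ≠ 0) {s : ℕ} (hs : s < D.nroots) (t : F) :
    D.hMat F r c * D.x F s t =
      D.x F s (c ^ (tabOf D).pairing r s * t) * D.hMat F r c := by
  have hG1 := hG.toGood1
  have hns := hG1.neg_lt hs
  apply matrix_ext_mulVec
  intro v
  rw [← Matrix.mulVec_mulVec, ← Matrix.mulVec_mulVec]
  rcases v with j | v
  · change D.hMat F r c *ᵥ (D.x F s t *ᵥ eH D F j) = D.x F _ _ *ᵥ (D.hMat F r c *ᵥ eH D F j)
    rw [x_mulVec_eH D F hs, Matrix.mulVec_add, Matrix.mulVec_smul, hMat_mulVec_eH hG hr hc,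
      hMat_mulVec_eR hG hr hc hs, x_mulVec_eH D F hs, smul_smul]
    congr 2
    ring
  · rw [single_inr]
    by_cases h1 : v.val = s
    · rw [h1, x_mulVec_eR_self D F hs, hMat_mulVec_eR hG hr hc hs, Matrix.mulVec_smul,
        x_mulVec_eR_self D F hs]
    · by_cases h2 : v.val = D.neg s
      · rw [h2, x_mulVec_eR_neg D F hs hns (hG1.neg_ne hs), Matrix.mulVec_add, Matrix.mulVec_add,
          Matrix.mulVec_smul, Matrix.mulVec_smul, hMat_mulVec_eR hG hr hc hs,
          hMat_mulVec_eR hG hr hc hns, hMat_mulVec_hR hG hr hc, Matrix.mulVec_smul,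
          x_mulVec_eR_neg D F hs hns (hG1.neg_ne hs), pairing_neg_right hG1 r hs]
        have hz : c ^ (-(tabOf D).pairing r s) * c ^ (tabOf D).pairing r s = 1 := by
          rw [← zpow_add₀ hc]; simp
        ext x
        simp only [Pi.add_apply, Pi.smul_apply, smul_eq_mul]
        linear_combination (-(t * hR D F s x) + c ^ (tabOf D).pairing r s * t ^ 2 * eR D F s x) * hz
      · rw [x_mulVec_eR_other D F hs (hG1.keysNodup hs) v.2 h1 h2, Matrix.mulVec_add,
          hMat_mulVec_eR hG hr hc v.2, hMat_mulVec_chainVec hG hr hc hs v.2 h1 h2,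
          Matrix.mulVec_smul, x_mulVec_eR_other D F hs (hG1.keysNodup hs) v.2 h1 h2, smul_add]

end hconj

section nh

variable (hG : Good2 D) {i : ℕ} (hi : i < D.rank)

include hG hi in
theorem Good2.cr_refl {s : ℕ} (hs : s < D.nroots) {j : ℕ} (hj : j < D.rank) :
    cr D ((tabOf D).refl (D.simple i) s) j =
      cr D s j - (if j = i then (tabOf D).pairing s (D.simple i) else 0) :=
  ((hG.row hi hs).2.2.2.2.2.1 j hj).2

include hG hi in
/-- Invariance of the pairing under a fundamental reflection. -/
theorem pairing_refl {r s : ℕ} (hr : r < D.nroots) (hs : s < D.nroots) :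
    (tabOf D).pairing ((tabOf D).refl (D.simple i) r) ((tabOf D).refl (D.simple i) s) =
      (tabOf D).pairing r s := by
  have hc := hG.cartan_simple_self hi
  rw [pairing_eq_sum, pairing_eq_sum]
  have h1 : ∀ k : Fin D.rank,
      cr D ((tabOf D).refl (D.simple i) r) k.val * D.cartan k.val ((tabOf D).refl (D.simple i) s) =
      cr D r k.val * D.cartan k.val s
        - D.cartan i s * (cr D r k.val * D.cartan k.val (D.simple i))
        - (if k.val = i then (tabOf D).pairing r (D.simple i) *
            (D.cartan k.val s - D.cartan i s * D.cartan k.val (D.simple i)) else 0) := by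
    intro k
    rw [hG.cr_refl hi hr k.2, hG.cartan_refl hi hs k.2]
    by_cases hk : k.val = i
    · rw [if_pos hk, if_pos hk]; ring
    · rw [if_neg hk, if_neg hk]; ring
  simp only [h1, Finset.sum_sub_distrib, ← Finset.mul_sum]
  rw [← pairing_eq_sum, ← pairing_eq_sum, Finset.sum_eq_single (⟨i, hi⟩ : Fin D.rank)]
  · rw [if_pos rfl]
    simp only []
    rw [hc]; ring
  · intro b _ hb
    rw [if_neg (fun h => hb (Fin.ext h))]
  · intro h; exact absurd (Finset.mem_univ _) h

include hG hi in
/-- Conjugation of `h_r(t)` by `n_p` for a fundamental root `p`. -/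
theorem nMat_mul_hMat {r : ℕ} (hr : r < D.nroots) {t : F} (ht : t ≠ 0) :
    D.nMat F (D.simple i) 1 * D.hMat F r t =
      D.hMat F ((tabOf D).refl (D.simple i) r) t * D.nMat F (D.simple i) 1 := by
  have hG1 := hG.toGood1
  have hp := hG1.simple_lt hi
  have hwr := hG.refl_lt hi hr
  apply matrix_ext_mulVec
  intro v
  rw [← Matrix.mulVec_mulVec, ← Matrix.mulVec_mulVec]
  rcases v with j | v
  · change D.nMat F (D.simple i) 1 *ᵥ (D.hMat F r t *ᵥ eH D F j) =
      D.hMat F _ t *ᵥ (D.nMat F (D.simple i) 1 *ᵥ eH D F j)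
    rw [hMat_mulVec_eH hG hr ht, nMat_mulVec_eH hG1 hp, Matrix.mulVec_sub, Matrix.mulVec_smul,
      hMat_mulVec_eH hG hwr ht, hMat_mulVec_hR hG hwr ht]
  · rw [single_inr, hMat_mulVec_eR hG hr ht v.2, Matrix.mulVec_smul, nMat_mulVec_eR hG1 hp v.2,
      Matrix.mulVec_smul, hMat_mulVec_eR hG hwr ht (hG.refl_lt hi v.2), pairing_refl hG hi hr v.2,
      smul_smul, smul_smul, mul_comm]

end nh

/-- The statement of S1096 from the table facts. -/
theorem n_simple_conj_h (hG : Good2 D) {i j : ℕ} (hi : i < D.rank) (hj : j < D.rank) (t : F)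
    (ht : t ≠ 0) :
    D.nMat F (D.simple i) 1 * D.hMat F (D.simple j) t =
      D.hMat F (D.reflectRoot i (D.simple j)) t * D.nMat F (D.simple i) 1 := by
  rw [hG.reflectRoot_eq hi (hG.toGood1.simple_lt hj)]
  exact nMat_mul_hMat hG hi (hG.toGood1.simple_lt hj) ht

/-- The statement of S1032 from the table facts. -/
theorem h_simple_conj_root_elem (hG : Good2 D) {i s : ℕ} (hi : i < D.rank) (hs : s < D.nroots)
    (c : F) (hc : c ≠ 0) (t : F) :
    D.hMat F (D.simple i) c * D.x F s t =
      D.x F s (c ^ (D.cartan i s) * t) * D.hMat F (D.simple i) c := by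
  rw [← pairing_simple hG.toGood1 hi]
  exact hMat_mul_x hG (hG.toGood1.simple_lt hi) hc hs t

end Cfsg.Agent.Helper7.Chev
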