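import Mathlib
import Cfsg.Agent.Helper7.ChevBasic

set_option autoImplicit false

namespace Cfsg.Agent.Helper7

open Cfsg Cfsg.Lie

/-- Exponents in the chain coefficients are positive. -/
theorem chainCoeff_fst_ne_zero (D : ChevalleyDatum) (r s u : ℕ) :
    ∀ km ∈ D.chainCoeff r s u, km.1 ≠ 0 := by
  intro km hkm
  unfold ChevalleyDatum.chainCoeff at hkm
  simp only [List.mem_flatMap, List.mem_map] at hkm
  obtain ⟨e, _, q, _, rfl⟩ := hkm
  simp

/-- `x_r(0) = 1`. -/
theorem xMat_zero {F : Type*} [Field F] (D : ChevalleyDatum) (r : Fin D.nroots) :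
    D.xMat F r 0 = 1 := by
  ext row col
  simp only [ChevalleyDatum.xMat, Matrix.of_apply]
  rcases col with i | s
  · rcases row with i' | u
    · simp only [Matrix.one_apply, Sum.inl.injEq]
    · simp
  · simp only
    split_ifs with h1 h2
    · subst h1
      rcases row with i' | u
      · simp
      · simp only [Matrix.one_apply, Sum.inr.injEq]
    · rcases row with i' | u
      · simp
      · simp only [Matrix.one_apply, Sum.inr.injEq]
        split_ifs <;> simp
    · rcases row with i' | u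
      · simp
      · have hsum : ((D.chainCoeff r.val s.val u.val).map fun km => ((km.2 : ℤ) : F) * (0 : F) ^ km.1).sum = 0 := by
          apply List.sum_eq_zero
          intro x hx
          simp only [List.mem_map] at hx
          obtain ⟨km, hkm, rfl⟩ := hx
          rw [zero_pow (chainCoeff_fst_ne_zero D _ _ _ km hkm), mul_zero]
        simp only [hsum, add_zero, Matrix.one_apply, Sum.inr.injEq]

set_option maxRecDepth 100000 in
theorem neg_ok_G2 : ∀ r < chevG2.nroots, chevG2.negIdx.getD r 0 < chevG2.nroots ∧ chevG2.negIdx.getD r 0 ≠ r := by decide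
set_option maxRecDepth 100000 in
theorem neg_ok_B2 : ∀ r < chevB2.nroots, chevB2.negIdx.getD r 0 < chevB2.nroots ∧ chevB2.negIdx.getD r 0 ≠ r := by decide
set_option maxRecDepth 100000 in
theorem neg_ok_D4 : ∀ r < chevD4.nroots, chevD4.negIdx.getD r 0 < chevD4.nroots ∧ chevD4.negIdx.getD r 0 ≠ r := by decide
set_option maxRecDepth 100000 in
theorem neg_ok_F4 : ∀ r < chevF4.nroots, chevF4.negIdx.getD r 0 < chevF4.nroots ∧ chevF4.negIdx.getD r 0 ≠ r := by decide
set_option maxRecDepth 100000 in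
theorem neg_ok_E6 : ∀ r < chevE6.nroots, chevE6.negIdx.getD r 0 < chevE6.nroots ∧ chevE6.negIdx.getD r 0 ≠ r := by decide
set_option maxRecDepth 100000 in
theorem neg_ok_E7 : ∀ r < chevE7.nroots, chevE7.negIdx.getD r 0 < chevE7.nroots ∧ chevE7.negIdx.getD r 0 ≠ r := by decide
set_option maxRecDepth 100000 in
theorem neg_ok_E8 : ∀ r < chevE8.nroots, chevE8.negIdx.getD r 0 < chevE8.nroots ∧ chevE8.negIdx.getD r 0 ≠ r := by decide

/-- For a tabulated datum, `-r` is a root different from `r`. -/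
theorem neg_ok (D : ChevalleyDatum)
    (hD : D ∈ [chevG2, chevB2, chevD4, chevF4, chevE6, chevE7, chevE8]) :
    ∀ r < D.nroots, D.negIdx.getD r 0 < D.nroots ∧ D.negIdx.getD r 0 ≠ r :=
  chev_cases (p := fun D => ∀ r < D.nroots, D.negIdx.getD r 0 < D.nroots ∧ D.negIdx.getD r 0 ≠ r) D hD
    neg_ok_G2 neg_ok_B2 neg_ok_D4 neg_ok_F4 neg_ok_E6 neg_ok_E7 neg_ok_E8

/-- The `(r, -r)` entry of `x_r(t)` is `-t²`. -/
theorem xMat_apply_neg {F : Type*} [Field F] (D : ChevalleyDatum) (r : Fin D.nroots)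
    (h1 : D.negIdx.getD r.val 0 < D.nroots) (h2 : D.negIdx.getD r.val 0 ≠ r.val) (t : F) :
    D.xMat F r t (Sum.inr r) (Sum.inr ⟨D.negIdx.getD r.val 0, h1⟩) = -(t ^ 2) := by
  simp only [ChevalleyDatum.xMat, Matrix.of_apply]
  have hne : (⟨D.negIdx.getD r.val 0, h1⟩ : Fin D.nroots) ≠ r := by
    intro h
    exact h2 (congrArg Fin.val h)
  rw [if_neg hne, if_pos trivial, if_neg (Ne.symm hne), if_pos trivial]

end Cfsg.Agent.Helper7
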