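import Mathlib
import Cfsg.Agent.Helper7.ChevRank1
import Cfsg.Agent.Helper7.ChevX

set_option autoImplicit false
set_option linter.unusedSectionVars false
set_option linter.unusedVariables false

/-!
The homomorphism from `SL₂(F)` to the general linear group of the coordinate module attached to a root
`r`, with image `⟨X_r, X_{-r}⟩`.
-/

namespace Cfsg.Agent.Helper7.Chev

open Cfsg Cfsg.Lie Matrix

variable {D : ChevalleyDatum} {F : Type*} [Field F]

theorem det_two_eq (g : Matrix.SpecialLinearGroup (Fin 2) F) :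
    g.val 0 0 * g.val 1 1 - g.val 0 1 * g.val 1 0 = 1 := by
  have := g.2
  rwa [Matrix.det_fin_two] at this

section sl2

variable (hG : Good1 D) {r : ℕ} (hr : r < D.nroots)

include hG hr in
theorem phiMat_one : phiMat D r (1 : Matrix (Fin 2) (Fin 2) F) = 1 := by
  have h1 : (1 : Matrix (Fin 2) (Fin 2) F) = !![1, 0; 0, 1] := Matrix.one_fin_two
  rw [h1, phiMat_upper hG hr (0 : F), x_of_lt D F hr]
  exact xMat_zero D ⟨r, hr⟩

/-- The homomorphism from `SL₂(F)` attached to the root `r`. -/
noncomputable def phiHom : Matrix.SpecialLinearGroup (Fin 2) F →* GL D.Idx F where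
  toFun g := ⟨phiMat D r g.val, phiMat D r (g⁻¹).val, by
      rw [← phiMat_mul hG hr _ _ (det_two_eq g) (det_two_eq g⁻¹), ← Matrix.SpecialLinearGroup.coe_mul,
        mul_inv_cancel, Matrix.SpecialLinearGroup.coe_one, phiMat_one hG hr], by
      rw [← phiMat_mul hG hr _ _ (det_two_eq g⁻¹) (det_two_eq g), ← Matrix.SpecialLinearGroup.coe_mul,
        inv_mul_cancel, Matrix.SpecialLinearGroup.coe_one, phiMat_one hG hr]⟩
  map_one' := by
    apply Units.ext
    change phiMat D r ((1 : Matrix.SpecialLinearGroup (Fin 2) F) : Matrix (Fin 2) (Fin 2) F) = 1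
    rw [Matrix.SpecialLinearGroup.coe_one, phiMat_one hG hr]
  map_mul' g h := by
    apply Units.ext
    change phiMat D r ((g * h : Matrix.SpecialLinearGroup (Fin 2) F) : Matrix (Fin 2) (Fin 2) F) =
      phiMat D r g.val * phiMat D r h.val
    rw [Matrix.SpecialLinearGroup.coe_mul, phiMat_mul hG hr _ _ (det_two_eq g) (det_two_eq h)]

theorem phiHom_coe (g : Matrix.SpecialLinearGroup (Fin 2) F) :
    ((phiHom hG hr g : GL D.Idx F) : Matrix D.Idx D.Idx F) = phiMat D r g.val := rfl

/-- The upper unitriangular element of `SL₂`. -/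
def upperSL (t : F) : Matrix.SpecialLinearGroup (Fin 2) F := ⟨!![1, t; 0, 1], by simp [Matrix.det_fin_two]⟩

/-- The lower unitriangular element of `SL₂`. -/
def lowerSL (t : F) : Matrix.SpecialLinearGroup (Fin 2) F := ⟨!![1, 0; t, 1], by simp [Matrix.det_fin_two]⟩

/-- `SL₂` of a field is generated by the unitriangular matrices. -/
theorem sl2_generated : Subgroup.closure
    ({g | ∃ t : F, g = upperSL t} ∪ {g | ∃ t : F, g = lowerSL t}) = ⊤ := by
  rw [eq_top_iff]
  have key : ∀ g : Matrix.SpecialLinearGroup (Fin 2) F, g.val 1 0 ≠ 0 →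
      g ∈ Subgroup.closure ({g | ∃ t : F, g = upperSL t} ∪ {g | ∃ t : F, g = lowerSL t}) := by
    intro g hc
    have hdet := det_two_eq g
    have hm : g.val = (!![1, (g.val 0 0 - 1) / g.val 1 0; 0, 1] : Matrix (Fin 2) (Fin 2) F) *
        !![1, 0; g.val 1 0, 1] * !![1, (g.val 1 1 - 1) / g.val 1 0; 0, 1] := by
      ext i j
      fin_cases i <;> fin_cases j <;> simp [Matrix.mul_apply, Fin.sum_univ_two] <;>
        (try field_simp) <;>
        (try (first | ring1 | linear_combination hdet | linear_combination (-1 : F) * hdet))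
    have : g = upperSL ((g.val 0 0 - 1) / g.val 1 0) * lowerSL (g.val 1 0) *
        upperSL ((g.val 1 1 - 1) / g.val 1 0) := by
      apply Subtype.ext
      exact hm
    rw [this]
    apply Subgroup.mul_mem
    apply Subgroup.mul_mem
    · exact Subgroup.subset_closure (Or.inl ⟨_, rfl⟩)
    · exact Subgroup.subset_closure (Or.inr ⟨_, rfl⟩)
    · exact Subgroup.subset_closure (Or.inl ⟨_, rfl⟩)
  intro g _
  by_cases hc : g.val 1 0 = 0
  · have hdet := det_two_eq g
    rw [hc, mul_zero, sub_zero] at hdet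
    have ha : g.val 0 0 ≠ 0 := left_ne_zero_of_mul_eq_one hdet
    have h1 : (lowerSL (1 : F) * g).val 1 0 ≠ 0 := by
      change ((!![1, 0; 1, 1] : Matrix (Fin 2) (Fin 2) F) * g.val) 1 0 ≠ 0
      simp [Matrix.mul_apply, Fin.sum_univ_two, hc, ha]
    have h2 := key _ h1
    have h3 : g = (lowerSL (1 : F))⁻¹ * (lowerSL (1 : F) * g) := by group
    rw [h3]
    exact Subgroup.mul_mem _ (Subgroup.inv_mem _ (Subgroup.subset_closure (Or.inr ⟨_, rfl⟩))) h2
  · exact key g hc

include hG hr in
theorem phiHom_upper (t : F) : ((phiHom hG hr (upperSL t) : GL D.Idx F) : Matrix D.Idx D.Idx F) = D.x F r t := by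
  rw [phiHom_coe]
  exact phiMat_upper hG hr t

include hG hr in
theorem phiHom_lower (t : F) :
    ((phiHom hG hr (lowerSL t) : GL D.Idx F) : Matrix D.Idx D.Idx F) = D.x F (D.neg r) t := by
  rw [phiHom_coe]
  exact phiMat_lower hG hr t

/-- The image of `SL₂` is generated by the two opposite root subgroups. -/
theorem phiHom_range : (phiHom hG hr (F := F)).range = D.rootSubgroup F r ⊔ D.rootSubgroup F (D.neg r) := by
  apply le_antisymm
  · rw [MonoidHom.range_eq_map, ← sl2_generated, MonoidHom.map_closure, Subgroup.closure_le]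
    rintro _ ⟨g, (⟨t, rfl⟩ | ⟨t, rfl⟩), rfl⟩
    · apply Subgroup.mem_sup_left
      exact Subgroup.subset_closure ⟨t, phiHom_upper hG hr t⟩
    · apply Subgroup.mem_sup_right
      exact Subgroup.subset_closure ⟨t, phiHom_lower hG hr t⟩
  · rw [sup_le_iff]
    constructor
    · unfold ChevalleyDatum.rootSubgroup
      rw [Subgroup.closure_le]
      rintro g ⟨t, hg⟩
      refine ⟨upperSL t, ?_⟩
      apply Units.ext
      rw [phiHom_upper hG hr t, hg]
    · unfold ChevalleyDatum.rootSubgroup
      rw [Subgroup.closure_le]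
      rintro g ⟨t, hg⟩
      refine ⟨lowerSL t, ?_⟩
      apply Units.ext
      rw [phiHom_lower hG hr t, hg]

end sl2

end Cfsg.Agent.Helper7.Chev
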