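import Mathlib
import Cfsg.Agent.Helper7.ChevBasic

set_option autoImplicit false

/-!
Table facts of level 0 for the seven tabulated Chevalley data: the positive roots are the upper half of
the index range, negation reverses the index range, and chains for positive (negative) roots increase
(decrease) the index.
-/

namespace Cfsg.Agent.Helper7.Chev

open Cfsg Cfsg.Lie

/-- Level-0 table facts. -/
def T0 (D : ChevalleyDatum) : Prop :=
  ∀ r < D.nroots,
    (D.neg r < D.nroots ∧ D.neg r ≠ r) ∧
    (D.IsPosRoot r → D.nroots / 2 ≤ r ∧ D.neg r < D.nroots / 2) ∧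
    (D.IsNegRoot r → r < D.nroots / 2 ∧ D.nroots / 2 ≤ D.neg r) ∧
    (D.IsPosRoot r ∨ D.IsNegRoot r) ∧
    (∀ e ∈ (D.chain.getD r #[]).toList, ∀ q ∈ e.2.toList,
        (D.nroots / 2 ≤ r → e.1 < q.1) ∧ (r < D.nroots / 2 → q.1 < e.1))

instance (D : ChevalleyDatum) : Decidable (T0 D) := by unfold T0; infer_instance

set_option maxRecDepth 1000000 in
theorem T0_G2 : T0 chevG2 := by decide +kernel
set_option maxRecDepth 1000000 in
theorem T0_B2 : T0 chevB2 := by decide +kernel
set_option maxRecDepth 1000000 in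
theorem T0_D4 : T0 chevD4 := by decide +kernel
set_option maxRecDepth 1000000 in
theorem T0_F4 : T0 chevF4 := by decide +kernel
set_option maxRecDepth 1000000 in
theorem T0_E6 : T0 chevE6 := by decide +kernel
set_option maxRecDepth 1000000 in
theorem T0_E7 : T0 chevE7 := by decide +kernel
set_option maxRecDepth 1000000 in
theorem T0_E8 : T0 chevE8 := by decide +kernel

theorem T0_of_mem (D : ChevalleyDatum)
    (hD : D ∈ [chevG2, chevB2, chevD4, chevF4, chevE6, chevE7, chevE8]) : T0 D :=
  chev_cases (p := T0) D hD T0_G2 T0_B2 T0_D4 T0_F4 T0_E6 T0_E7 T0_E8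

end Cfsg.Agent.Helper7.Chev
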