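import Mathlib

set_option autoImplicit false
set_option linter.unusedSectionVars false

/-!
Matrices that are unitriangular with respect to a level function on the index set: generic theory
(closure under products and inverses, nilpotency of `g - 1`, a descending central series).
-/

namespace Cfsg.Agent.Helper7.Tri

open Matrix
open scoped commutatorElement

variable {ι : Type*} [Fintype ι] [DecidableEq ι] {R : Type*} [CommRing R] (lvl : ι → ℕ)

/-- `A` raises the level by at least `k`: a non-zero entry in row `i`, column `j` forces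
`lvl j + k ≤ lvl i`. -/
def Raises (k : ℕ) (A : Matrix ι ι R) : Prop := ∀ i j, A i j ≠ 0 → lvl j + k ≤ lvl i

variable {lvl}

theorem Raises.zero (k : ℕ) : Raises lvl k (0 : Matrix ι ι R) := by
  intro i j h
  exact absurd rfl h

theorem Raises.one : Raises lvl 0 (1 : Matrix ι ι R) := by
  intro i j h
  by_cases hij : i = j
  · subst hij; simp
  · exact absurd (Matrix.one_apply_ne hij) h

theorem Raises.mono {k k' : ℕ} {A : Matrix ι ι R} (h : Raises lvl k A) (hk : k' ≤ k) :
    Raises lvl k' A := fun i j hij => by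
  have := h i j hij
  omega

theorem Raises.add {k : ℕ} {A B : Matrix ι ι R} (hA : Raises lvl k A) (hB : Raises lvl k B) :
    Raises lvl k (A + B) := by
  intro i j h
  by_cases h1 : A i j = 0
  · by_cases h2 : B i j = 0
    · exact absurd (by simp [h1, h2]) h
    · exact hB i j h2
  · exact hA i j h1

theorem Raises.neg {k : ℕ} {A : Matrix ι ι R} (hA : Raises lvl k A) : Raises lvl k (-A) := by
  intro i j h
  apply hA i j
  intro h0
  apply h
  simp [h0]

theorem Raises.sub {k : ℕ} {A B : Matrix ι ι R} (hA : Raises lvl k A) (hB : Raises lvl k B) :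
    Raises lvl k (A - B) := by
  rw [sub_eq_add_neg]
  exact hA.add hB.neg

theorem Raises.mul {j k : ℕ} {A B : Matrix ι ι R} (hA : Raises lvl j A) (hB : Raises lvl k B) :
    Raises lvl (j + k) (A * B) := by
  intro i i' h
  rw [Matrix.mul_apply] at h
  obtain ⟨m, _, hm⟩ := Finset.exists_ne_zero_of_sum_ne_zero h
  have h1 : A i m ≠ 0 := left_ne_zero_of_mul hm
  have h2 : B m i' ≠ 0 := right_ne_zero_of_mul hm
  have := hA i m h1
  have := hB m i' h2
  omega

theorem Raises.sum {α : Type*} {k : ℕ} (s : Finset α) (f : α → Matrix ι ι R)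
    (h : ∀ a ∈ s, Raises lvl k (f a)) : Raises lvl k (∑ a ∈ s, f a) := by
  classical
  induction s using Finset.induction_on with
  | empty => simpa using Raises.zero k
  | insert a s ha ih =>
    rw [Finset.sum_insert ha]
    exact (h a (Finset.mem_insert_self a s)).add
      (ih fun b hb => h b (Finset.mem_insert_of_mem hb))

theorem Raises.pow {k : ℕ} {A : Matrix ι ι R} (hA : Raises lvl k A) (m : ℕ) :
    Raises lvl (k * m) (A ^ m) := by
  induction m with
  | zero => simpa using Raises.one
  | succ m ih =>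
    rw [pow_succ]
    have := ih.mul hA
    rwa [show k * m + k = k * (m + 1) by ring] at this

theorem Raises.eq_zero {k B : ℕ} {A : Matrix ι ι R} (hA : Raises lvl k A) (hB : ∀ i, lvl i < B)
    (hk : B ≤ k) : A = 0 := by
  ext i j
  by_contra h
  have := hA i j h
  have := hB i
  simp only [Matrix.zero_apply] at h
  omega

/-- Nilpotency of a matrix raising the level by at least one. -/
theorem Raises.pow_eq_zero {k B : ℕ} {A : Matrix ι ι R} (hA : Raises lvl (k + 1) A)
    (hB : ∀ i, lvl i < B) {m : ℕ} (hm : B ≤ m) : A ^ m = 0 := by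
  apply (hA.pow m).eq_zero hB
  nlinarith

variable (lvl) (R)

/-- A bound on the levels. -/
def bound : ℕ := (Finset.univ.sup lvl) + 1

theorem lt_bound (i : ι) : lvl i < bound lvl := by
  have : lvl i ≤ Finset.univ.sup lvl := Finset.le_sup (f := lvl) (Finset.mem_univ i)
  unfold bound
  omega

/-- The group of invertible matrices `g` such that `g - 1` raises the level by at least `k + 1`. -/
def UTk (k : ℕ) : Subgroup (GL ι R) where
  carrier := {g | Raises lvl (k + 1) ((g : Matrix ι ι R) - 1)}
  one_mem' := by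
    change Raises lvl (k + 1) (((1 : GL ι R) : Matrix ι ι R) - 1)
    simpa using Raises.zero (k + 1)
  mul_mem' := by
    intro g h hg hh
    change Raises lvl (k + 1) (((g * h : GL ι R) : Matrix ι ι R) - 1)
    have e : ((g * h : GL ι R) : Matrix ι ι R) - 1 =
        ((g : Matrix ι ι R) - 1) * ((h : Matrix ι ι R) - 1) + ((g : Matrix ι ι R) - 1) +
          ((h : Matrix ι ι R) - 1) := by
      rw [Units.val_mul]; noncomm_ring
    rw [e]
    exact (((Raises.mul hg hh).mono (by omega)).add hg).add hh
  inv_mem' := by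
    intro g hg
    change Raises lvl (k + 1) (((g⁻¹ : GL ι R) : Matrix ι ι R) - 1)
    set N : Matrix ι ι R := (g : Matrix ι ι R) - 1 with hN
    have hpow : (-N) ^ (bound lvl) = 0 :=
      (Raises.neg hg).pow_eq_zero (lt_bound lvl) le_rfl
    have hgN : (g : Matrix ι ι R) = 1 - (-N) := by rw [hN]; abel
    have hmul : (g : Matrix ι ι R) * ∑ i ∈ Finset.range (bound lvl), (-N) ^ i = 1 := by
      rw [hgN, mul_neg_geom_sum, hpow, sub_zero]
    have hinv : ((g⁻¹ : GL ι R) : Matrix ι ι R) = ∑ i ∈ Finset.range (bound lvl), (-N) ^ i := by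
      have h1 : ((g⁻¹ : GL ι R) : Matrix ι ι R) * (g : Matrix ι ι R) = 1 := by
        rw [← Units.val_mul, inv_mul_cancel, Units.val_one]
      calc ((g⁻¹ : GL ι R) : Matrix ι ι R)
          = ((g⁻¹ : GL ι R) : Matrix ι ι R) *
              ((g : Matrix ι ι R) * ∑ i ∈ Finset.range (bound lvl), (-N) ^ i) := by
            rw [hmul, mul_one]
        _ = ∑ i ∈ Finset.range (bound lvl), (-N) ^ i := by rw [← mul_assoc, h1, one_mul]
    have hb : bound lvl = (bound lvl - 1) + 1 := by unfold bound; omega
    rw [hinv, hb, Finset.sum_range_succ', pow_zero, add_sub_cancel_right]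
    apply Raises.sum
    intro i _
    have := (Raises.neg hg).pow (i + 1)
    exact this.mono (by nlinarith)

theorem mem_UTk {k : ℕ} {g : GL ι R} :
    g ∈ UTk R lvl k ↔ Raises lvl (k + 1) ((g : Matrix ι ι R) - 1) := Iff.rfl

theorem UTk_anti {k k' : ℕ} (h : k ≤ k') : UTk R lvl k' ≤ UTk R lvl k := by
  intro g hg
  exact Raises.mono hg (by omega)

theorem UTk_eq_bot {k : ℕ} (hk : bound lvl ≤ k + 1) : UTk R lvl k = ⊥ := by
  rw [eq_bot_iff]
  intro g hg
  rw [Subgroup.mem_bot]
  have h0 : (g : Matrix ι ι R) - 1 = 0 := Raises.eq_zero hg (lt_bound lvl) hk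
  apply Units.ext
  rw [Units.val_one]
  exact sub_eq_zero.mp h0

/-- For `g` unitriangular, `g` itself raises the level by at least `0`. -/
theorem raises_zero_of_mem {k : ℕ} {g : GL ι R} (hg : g ∈ UTk R lvl k) :
    Raises lvl 0 (g : Matrix ι ι R) := by
  have : (g : Matrix ι ι R) = ((g : Matrix ι ι R) - 1) + 1 := by abel
  rw [this]
  exact (Raises.mono hg (by omega)).add Raises.one

/-- The commutator of an element of `UTk k` with a unitriangular matrix lies in `UTk (k+1)`. -/
theorem commutator_mem {k : ℕ} {x g : GL ι R} (hx : x ∈ UTk R lvl k) (hg : g ∈ UTk R lvl 0) :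
    ⁅x, g⁆ ∈ UTk R lvl (k + 1) := by
  rw [mem_UTk, commutatorElement_def]
  set A : Matrix ι ι R := (x : Matrix ι ι R) - 1 with hA
  set B : Matrix ι ι R := (g : Matrix ι ι R) - 1 with hB
  have e : ((x * g * x⁻¹ * g⁻¹ : GL ι R) : Matrix ι ι R) - 1 =
      (A * B - B * A) * (((x⁻¹ : GL ι R) : Matrix ι ι R) * ((g⁻¹ : GL ι R) : Matrix ι ι R)) := by
    have h1 : (x : Matrix ι ι R) * ((x⁻¹ : GL ι R) : Matrix ι ι R) = 1 := by
      rw [← Units.val_mul, mul_inv_cancel, Units.val_one]
    have h2 : (g : Matrix ι ι R) * ((g⁻¹ : GL ι R) : Matrix ι ι R) = 1 := by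
      rw [← Units.val_mul, mul_inv_cancel, Units.val_one]
    have h3 : A * B - B * A = (x : Matrix ι ι R) * (g : Matrix ι ι R) -
        (g : Matrix ι ι R) * (x : Matrix ι ι R) := by
      rw [hA, hB]; noncomm_ring
    rw [h3, sub_mul]
    simp only [Units.val_mul]
    have h4 : (g : Matrix ι ι R) * (x : Matrix ι ι R) *
        (((x⁻¹ : GL ι R) : Matrix ι ι R) * ((g⁻¹ : GL ι R) : Matrix ι ι R)) = 1 := by
      rw [mul_assoc, ← mul_assoc (x : Matrix ι ι R), h1, one_mul, h2]
    rw [h4]
    simp only [mul_assoc]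
  rw [e]
  have hxi := raises_zero_of_mem R lvl (Subgroup.inv_mem _ hx)
  have hgi := raises_zero_of_mem R lvl (Subgroup.inv_mem _ hg)
  have hAB : Raises lvl (k + 1 + 1) (A * B - B * A) := by
    apply Raises.sub
    · exact (Raises.mul hx hg).mono (by omega)
    · exact (Raises.mul hg hx).mono (by omega)
  have := Raises.mul hAB (Raises.mul hxi hgi)
  exact this.mono (by omega)

/-- A subgroup of the unitriangular group is nilpotent. -/
theorem isNilpotent_of_le (U : Subgroup (GL ι R)) (hU : U ≤ UTk R lvl 0) :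
    Group.IsNilpotent U := by
  rw [Subgroup.nilpotent_iff_finite_descending_central_series]
  refine ⟨bound lvl, fun k => (UTk R lvl k).subgroupOf U, ⟨?_, ?_⟩, ?_⟩
  · rw [Subgroup.subgroupOf_eq_top]
    exact hU
  · intro x n hx g
    rw [Subgroup.mem_subgroupOf] at hx ⊢
    exact commutator_mem R lvl hx (hU g.2)
  · change (UTk R lvl (bound lvl)).subgroupOf U = ⊥
    rw [UTk_eq_bot R lvl (by omega)]
    exact Subgroup.bot_subgroupOf U

/-- For a unitriangular `g`, `(g - 1) ^ m = 0` as soon as `m` bounds the levels. -/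
theorem sub_one_pow_eq_zero {g : GL ι R} (hg : g ∈ UTk R lvl 0) {m : ℕ} (hm : ∀ i, lvl i < m) :
    ((g : Matrix ι ι R) - 1) ^ m = 0 :=
  Raises.pow_eq_zero (k := 0) hg hm le_rfl

end Cfsg.Agent.Helper7.Tri
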