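import Mathlib
import Cfsg.Agent.Helper7.ChevT0
import Cfsg.Agent.Helper7.ChevTri

set_option autoImplicit false

/-!
The root elements of positive (negative) roots are upper (lower) unitriangular with respect to a level
function on the coordinate index set; consequences for the subgroups `U` and `V`.
-/

namespace Cfsg.Agent.Helper7.Chev

open Cfsg Cfsg.Lie Cfsg.Agent.Helper7.Tri

/-- The level of a coordinate: negative roots by index, then the fundamental coroots, then the positive
roots by index. -/
def lvl (D : ChevalleyDatum) : D.Idx → ℕ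
  | Sum.inl i => D.nroots / 2 + i.val
  | Sum.inr s => if s.val < D.nroots / 2 then s.val else D.rank + s.val

/-- The reversed level. -/
def lvlNeg (D : ChevalleyDatum) : D.Idx → ℕ := fun v => D.rank + D.nroots - lvl D v

theorem lvl_lt (D : ChevalleyDatum) (v : D.Idx) : lvl D v < D.rank + D.nroots := by
  rcases v with i | s
  · have := i.2; have : D.nroots / 2 ≤ D.nroots := Nat.div_le_self _ _
    simp only [lvl]
    have h2 : D.nroots / 2 + D.nroots / 2 ≤ D.nroots := by omega
    rcases Nat.eq_zero_or_pos D.nroots with h0 | h0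
    · simp only [h0] at *; omega
    · omega
  · have := s.2
    simp only [lvl]
    split_ifs <;> omega

theorem lvlNeg_lt (D : ChevalleyDatum) (v : D.Idx) : lvlNeg D v < D.rank + D.nroots + 1 := by
  unfold lvlNeg; omega

theorem lvl_inr_lt_of_lt (D : ChevalleyDatum) {s u : Fin D.nroots} (h : s.val < u.val) :
    lvl D (Sum.inr s) < lvl D (Sum.inr u) := by
  simp only [lvl]
  split_ifs <;> omega

/-- A non-empty list of chain coefficients comes from an entry of the chain table. -/
theorem exists_entry_of_chainCoeff_ne_nil (D : ChevalleyDatum) {r s u : ℕ}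
    (h : D.chainCoeff r s u ≠ []) :
    ∃ e ∈ (D.chain.getD r #[]).toList, e.1 = s ∧ ∃ q ∈ e.2.toList, q.1 = u := by
  obtain ⟨km, hkm⟩ := List.exists_mem_of_ne_nil _ h
  unfold ChevalleyDatum.chainCoeff at hkm
  simp only [List.mem_flatMap, List.mem_map, List.mem_filter, decide_eq_true_eq] at hkm
  obtain ⟨e, ⟨he, hes⟩, q, ⟨hq, hqu⟩, _⟩ := hkm
  refine ⟨e, he, hes, q.1, ?_, hqu⟩
  exact (List.mem_zipIdx' hq).2 ▸ List.getElem_mem _


/-- The chain-coefficient polynomial. -/
def Mcoef (D : ChevalleyDatum) {F : Type*} [Field F] (r s u : ℕ) (t : F) : F :=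
  ((D.chainCoeff r s u).map fun km => ((km.2 : ℤ) : F) * t ^ km.1).sum

theorem chainCoeff_ne_nil_of_Mcoef_ne_zero (D : ChevalleyDatum) {F : Type*} [Field F] {r s u : ℕ}
    {t : F} (h : Mcoef D r s u t ≠ 0) : D.chainCoeff r s u ≠ [] := by
  intro h0
  apply h
  simp [Mcoef, h0]

/-- Entries of `x_r(t) - 1`: a non-zero entry forces one of four shapes. -/
theorem xMat_sub_one_apply_ne_zero (D : ChevalleyDatum) {F : Type*} [Field F] (r : Fin D.nroots)
    (t : F) (row col : D.Idx) (h : (D.xMat F r t - 1) row col ≠ 0) :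
    (∃ i, col = Sum.inl i ∧ row = Sum.inr r) ∨
    (∃ s : Fin D.nroots, s ≠ r ∧ s.val = D.neg r.val ∧ col = Sum.inr s ∧
      ((∃ i, row = Sum.inl i) ∨ row = Sum.inr r)) ∨
    (∃ s u : Fin D.nroots, col = Sum.inr s ∧ row = Sum.inr u ∧ D.chainCoeff r.val s.val u.val ≠ []) := by
  simp only [Matrix.sub_apply, ChevalleyDatum.xMat, Matrix.of_apply] at h
  rcases col with i | s
  · rcases row with i' | u
    · exfalso; apply h
      simp only [Matrix.one_apply, Sum.inl.injEq]
      split_ifs <;> simp
    · left
      refine ⟨i, rfl, ?_⟩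
      simp only [Matrix.one_apply, reduceCtorEq, if_false, sub_zero] at h
      by_cases hu : u = r
      · rw [hu]
      · exfalso; apply h; rw [if_neg hu]
  · simp only at h
    by_cases h1 : s = r
    · exfalso; apply h
      rw [if_pos h1]
      rcases row with i' | u
      · simp
      · simp only [Matrix.one_apply, Sum.inr.injEq]
        subst h1
        split_ifs <;> simp
    · rw [if_neg h1] at h
      by_cases h2 : s.val = D.negIdx.getD r.val 0
      · rw [if_pos h2] at h
        right; left
        refine ⟨s, h1, h2, rfl, ?_⟩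
        rcases row with i' | u
        · exact Or.inl ⟨i', rfl⟩
        · right
          simp only [Matrix.one_apply, Sum.inr.injEq] at h
          by_cases hus : u = s
          · exfalso; apply h; rw [if_pos hus, if_pos hus, sub_self]
          · rw [if_neg hus, if_neg hus, sub_zero] at h
            by_cases hur : u = r
            · rw [hur]
            · exfalso; apply h; rw [if_neg hur]
      · rw [if_neg h2] at h
        right; right
        rcases row with i' | u
        · exfalso; apply h; simp
        · refine ⟨s, u, rfl, rfl, ?_⟩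
          simp only [Matrix.one_apply, Sum.inr.injEq, add_sub_cancel_left] at h
          exact chainCoeff_ne_nil_of_Mcoef_ne_zero D (t := t) h

/-- For a positive root, `x_r(t) - 1` raises the level. -/
theorem xMat_raises_pos (D : ChevalleyDatum) (hT : T0 D) {F : Type*} [Field F] (r : Fin D.nroots)
    (hr : D.nroots / 2 ≤ r.val) (t : F) :
    Raises (lvl D) 1 (D.xMat F r t - 1) := by
  obtain ⟨⟨hn1, hn2⟩, hpos, hneg, hpn, hch⟩ := hT r.val r.2
  have hneglt : D.neg r.val < D.nroots / 2 := by
    rcases hpn with hp | hn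
    · exact (hpos hp).2
    · have := (hneg hn).1; omega
  intro row col h
  rcases xMat_sub_one_apply_ne_zero D r t row col h with ⟨i, rfl, rfl⟩ |
    ⟨s, hs1, hs2, rfl, (⟨i, rfl⟩ | rfl)⟩ | ⟨s, u, rfl, rfl, hne⟩
  · have := i.2
    simp only [lvl]
    rw [if_neg (by omega)]
    omega
  · have := i.2
    simp only [lvl]
    rw [if_pos (by omega)]
    omega
  · simp only [lvl]
    rw [if_pos (by omega), if_neg (by omega)]
    omega
  · obtain ⟨e, he, hes, q, hq, hqu⟩ := exists_entry_of_chainCoeff_ne_nil D hne
    have := ((hch e he q hq).1 hr)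
    have hlt : s.val < u.val := by omega
    have := lvl_inr_lt_of_lt D hlt
    omega

/-- For a negative root, `x_r(t) - 1` raises the reversed level. -/
theorem xMat_raises_neg (D : ChevalleyDatum) (hT : T0 D) {F : Type*} [Field F] (r : Fin D.nroots)
    (hr : r.val < D.nroots / 2) (t : F) :
    Raises (lvlNeg D) 1 (D.xMat F r t - 1) := by
  obtain ⟨⟨hn1, hn2⟩, hpos, hneg, hpn, hch⟩ := hT r.val r.2
  have hneglt : D.nroots / 2 ≤ D.neg r.val := by
    rcases hpn with hp | hn
    · have := (hpos hp).1; omega
    · exact (hneg hn).2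
  intro row col h
  have hl1 := lvl_lt D row
  have hl2 := lvl_lt D col
  suffices hh : lvl D row < lvl D col by unfold lvlNeg; omega
  rcases xMat_sub_one_apply_ne_zero D r t row col h with ⟨i, rfl, rfl⟩ |
    ⟨s, hs1, hs2, rfl, (⟨i, rfl⟩ | rfl)⟩ | ⟨s, u, rfl, rfl, hne⟩
  · have := i.2
    simp only [lvl]
    rw [if_pos (by omega)]
    omega
  · have := i.2
    simp only [lvl]
    rw [if_neg (by omega)]
    omega
  · simp only [lvl]
    rw [if_pos (by omega), if_neg (by omega)]
    omega
  · obtain ⟨e, he, hes, q, hq, hqu⟩ := exists_entry_of_chainCoeff_ne_nil D hne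
    have := ((hch e he q hq).2 hr)
    have hlt : u.val < s.val := by omega
    exact lvl_inr_lt_of_lt D hlt

/-- `U` is contained in the group of upper unitriangular matrices. -/
theorem posUnipotent_le (D : ChevalleyDatum) (hT : T0 D) (F : Type*) [Field F] :
    D.posUnipotent F ≤ UTk F (lvl D) 0 := by
  unfold ChevalleyDatum.posUnipotent
  rw [Subgroup.closure_le]
  rintro g ⟨r, t, hr, hg⟩
  change Raises (lvl D) 1 ((g : Matrix D.Idx D.Idx F) - 1)
  rw [hg, x_of_lt D F hr.1]
  exact xMat_raises_pos D hT ⟨r, hr.1⟩ ((hT r hr.1).2.1 hr).1 t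

/-- `V` is contained in the group of lower unitriangular matrices. -/
theorem negUnipotent_le (D : ChevalleyDatum) (hT : T0 D) (F : Type*) [Field F] :
    D.negUnipotent F ≤ UTk F (lvlNeg D) 0 := by
  unfold ChevalleyDatum.negUnipotent
  rw [Subgroup.closure_le]
  rintro g ⟨r, t, hr, hg⟩
  change Raises (lvlNeg D) 1 ((g : Matrix D.Idx D.Idx F) - 1)
  rw [hg, x_of_lt D F hr.1]
  exact xMat_raises_neg D hT ⟨r, hr.1⟩ ((hT r hr.1).2.2.1 hr).1 t

end Cfsg.Agent.Helper7.Chev
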