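import Mathlib
import Cfsg.Agent.Helper7.ChevConj
import Cfsg.Agent.Helper7.ChevSL2
import Cfsg.Agent.Helper7.ChevUni

set_option autoImplicit false
set_option linter.unusedSectionVars false
set_option linter.unusedVariables false

/-!
The subgroups `U`, `V`, `H`, `B`, `N` of a Chevalley group: `H` is diagonal and normalises `U` and `V`,
`B = UH` is a semidirect product and solvable, `H` is normal in `N`.
-/

namespace Cfsg.Agent.Helper7.Chev

open Cfsg Cfsg.Lie Matrix Cfsg.Agent.Helper7.Tri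
open scoped Pointwise commutatorElement

/-! ### Generic group theory -/

section generic

variable {G : Type*} [Group G]

theorem conj_mem_closure {S : Set G} {a : G}
    (ha : ∀ x ∈ S, a * x * a⁻¹ ∈ Subgroup.closure S) :
    ∀ y ∈ Subgroup.closure S, a * y * a⁻¹ ∈ Subgroup.closure S := by
  intro y hy
  induction hy using Subgroup.closure_induction with
  | mem x hx => exact ha x hx
  | one => simp
  | mul x y _ _ hx hy =>
    have : a * (x * y) * a⁻¹ = (a * x * a⁻¹) * (a * y * a⁻¹) := by group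
    rw [this]; exact mul_mem hx hy
  | inv x _ hx =>
    have : a * x⁻¹ * a⁻¹ = (a * x * a⁻¹)⁻¹ := by group
    rw [this]; exact inv_mem hx

/-- An element conjugating a generating set into the subgroup, both ways, normalises the subgroup. -/
theorem mem_normalizer_closure {S : Set G} {g : G}
    (h1 : ∀ x ∈ S, g * x * g⁻¹ ∈ Subgroup.closure S)
    (h2 : ∀ x ∈ S, g⁻¹ * x * g ∈ Subgroup.closure S) :
    g ∈ Subgroup.normalizer (Subgroup.closure S : Set G) := by
  rw [Subgroup.mem_set_normalizer_iff]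
  intro y
  constructor
  · exact conj_mem_closure h1 y
  · intro hy
    have h2' : ∀ x ∈ S, g⁻¹ * x * g⁻¹⁻¹ ∈ Subgroup.closure S := by
      intro x hx; rw [inv_inv]; exact h2 x hx
    have := conj_mem_closure h2' _ hy
    have e : g⁻¹ * (g * y * g⁻¹) * g⁻¹⁻¹ = y := by group
    rw [e] at this
    exact this

/-- `U ⋊ H` is solvable when `U` is solvable, `H` is commutative and normalises `U`. -/
theorem isSolvable_sup_of_le_normalizer (U H : Subgroup G)
    (hN : H ≤ Subgroup.normalizer (U : Set G)) [hU : Group.IsSolvable U]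
    (hH : ∀ a ∈ H, ∀ b ∈ H, a * b = b * a) : Group.IsSolvable ↥(U ⊔ H) := by
  have hmul := Subgroup.coe_mul_of_right_le_normalizer_left U H hN
  have hle : U ≤ U ⊔ H := le_sup_left
  have : Group.IsSolvable ↥(U.subgroupOf (U ⊔ H)) :=
    Group.isSolvable_of_isSolvable_injective (f := (Subgroup.subgroupOfEquivOfLe hle).toMonoidHom)
      (Subgroup.subgroupOfEquivOfLe hle).injective
  apply Group.isSolvable_of_ker_le_range (U.subgroupOf (U ⊔ H)).subtype
    (Abelianization.of (G := ↥(U ⊔ H)))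
  rw [Abelianization.ker_of, Subgroup.range_subtype, commutator_eq_closure, Subgroup.closure_le]
  rintro _ ⟨a, b, rfl⟩
  rw [SetLike.mem_coe, Subgroup.mem_subgroupOf]
  obtain ⟨u1, hu1, h1, hh1, ha⟩ : (a : G) ∈ (U : Set G) * (H : Set G) := by
    rw [← hmul]; exact a.2
  obtain ⟨u2, hu2, h2, hh2, hb⟩ : (b : G) ∈ (U : Set G) * (H : Set G) := by
    rw [← hmul]; exact b.2
  have hconj : ∀ h ∈ H, ∀ u ∈ U, h * u * h⁻¹ ∈ U := by
    intro h hh u hu
    exact (Subgroup.mem_set_normalizer_iff.mp (hN hh) u).mp hu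
  have hc : h2 * h1⁻¹ = h1⁻¹ * h2 := by
    have := hH h1 hh1 h2 hh2
    calc h2 * h1⁻¹ = h1⁻¹ * (h1 * h2) * h1⁻¹ := by group
      _ = h1⁻¹ * (h2 * h1) * h1⁻¹ := by rw [this]
      _ = h1⁻¹ * h2 := by group
  have e : ((⁅a, b⁆ : ↥(U ⊔ H)) : G) =
      u1 * (h1 * u2 * h1⁻¹) * (h2 * u1⁻¹ * h2⁻¹) * u2⁻¹ := by
    rw [commutatorElement_def]
    simp only [Subgroup.coe_mul, Subgroup.coe_inv]
    rw [← ha, ← hb]
    calc u1 * h1 * (u2 * h2) * (u1 * h1)⁻¹ * (u2 * h2)⁻¹
        = u1 * h1 * u2 * (h2 * h1⁻¹) * u1⁻¹ * h2⁻¹ * u2⁻¹ := by group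
      _ = u1 * h1 * u2 * (h1⁻¹ * h2) * u1⁻¹ * h2⁻¹ * u2⁻¹ := by rw [hc]
      _ = _ := by group
  rw [e]
  exact mul_mem (mul_mem (mul_mem hu1 (hconj h1 hh1 u2 hu2)) (hconj h2 hh2 _ (inv_mem hu1)))
    (inv_mem hu2)

end generic

/-! ### Elements of the general linear group -/

variable {D : ChevalleyDatum} {F : Type*} [Field F]

/-- The diagonal element of `SL₂`. -/
def diagSL (c : F) (hc : c ≠ 0) : Matrix.SpecialLinearGroup (Fin 2) F :=
  ⟨!![c, 0; 0, c⁻¹], by simp [Matrix.det_fin_two, hc]⟩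

/-- The Weyl element of `SL₂`. -/
def antiSL : Matrix.SpecialLinearGroup (Fin 2) F :=
  ⟨!![0, 1; -1, 0], by simp [Matrix.det_fin_two]⟩

section elements

variable (hG : Good1 D) {r : ℕ} (hr : r < D.nroots)

/-- `x_r(t)` as an invertible matrix. -/
noncomputable def xGL (t : F) : GL D.Idx F := phiHom hG hr (upperSL t)

theorem xGL_coe (t : F) : ((xGL hG hr t : GL D.Idx F) : Matrix D.Idx D.Idx F) = D.x F r t :=
  phiHom_upper hG hr t

/-- `h_r(c)` as an invertible matrix. -/
noncomputable def hGL (c : F) (hc : c ≠ 0) : GL D.Idx F := phiHom hG hr (diagSL c hc)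

theorem hGL_coe (c : F) (hc : c ≠ 0) :
    ((hGL hG hr c hc : GL D.Idx F) : Matrix D.Idx D.Idx F) = D.hMat F r c := by
  unfold hGL
  rw [phiHom_coe, hMat_eq hG hr hc]
  rfl

/-- `n_r` as an invertible matrix. -/
noncomputable def nGL : GL D.Idx F := phiHom hG hr antiSL

theorem nGL_coe : ((nGL hG hr : GL D.Idx F) : Matrix D.Idx D.Idx F) = D.nMat F r 1 := by
  unfold nGL
  rw [phiHom_coe, nMat_one_eq hG hr]
  rfl

end elements

/-! ### `H` normalises the groups generated by root elements -/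

/-- The set of root elements `x_r(t)` with `r` in a given set of roots. -/
def rootGen (D : ChevalleyDatum) (F : Type*) [Field F] (P : ℕ → Prop) : Set (GL D.Idx F) :=
  {g | ∃ (r : ℕ) (t : F), P r ∧ (g : Matrix D.Idx D.Idx F) = D.x F r t}

theorem posUnipotent_eq : D.posUnipotent F = Subgroup.closure (rootGen D F D.IsPosRoot) := rfl

theorem negUnipotent_eq : D.negUnipotent F = Subgroup.closure (rootGen D F D.IsNegRoot) := rfl

section normalizes

variable (hG : Good2 D)

include hG in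
theorem hMat_mem_normalizer {P : ℕ → Prop} (hP : ∀ r, P r → r < D.nroots) {g : GL D.Idx F}
    {r : ℕ} (hr : r < D.nroots) {c : F} (hc : c ≠ 0)
    (hg : (g : Matrix D.Idx D.Idx F) = D.hMat F r c) :
    g ∈ Subgroup.normalizer (Subgroup.closure (rootGen D F P) : Set (GL D.Idx F)) := by
  have hG1 := hG.toGood1
  apply mem_normalizer_closure
  · rintro x ⟨s, t, hPs, hx⟩
    have hs := hP s hPs
    have : g * x * g⁻¹ = xGL hG1 hs (c ^ (tabOf D).pairing r s * t) := by
      rw [mul_inv_eq_iff_eq_mul]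
      apply Units.ext
      rw [Units.val_mul, Units.val_mul, hg, hx, xGL_coe]
      exact hMat_mul_x hG hr hc hs t
    rw [this]
    exact Subgroup.subset_closure ⟨s, _, hPs, xGL_coe hG1 hs _⟩
  · rintro x ⟨s, t, hPs, hx⟩
    have hs := hP s hPs
    have : g⁻¹ * x * g = xGL hG1 hs (c ^ (-(tabOf D).pairing r s) * t) := by
      rw [mul_assoc, inv_mul_eq_iff_eq_mul]
      apply Units.ext
      rw [Units.val_mul, Units.val_mul, hg, hx, xGL_coe, hMat_mul_x hG hr hc hs]
      congr 2
      rw [← mul_assoc, ← zpow_add₀ hc]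
      simp
    rw [this]
    exact Subgroup.subset_closure ⟨s, _, hPs, xGL_coe hG1 hs _⟩

include hG in
theorem diagonalSubgroup_le_normalizer {P : ℕ → Prop} (hP : ∀ r, P r → r < D.nroots) :
    D.diagonalSubgroup F ≤
      Subgroup.normalizer (Subgroup.closure (rootGen D F P) : Set (GL D.Idx F)) := by
  unfold ChevalleyDatum.diagonalSubgroup
  rw [Subgroup.closure_le]
  rintro g ⟨r, c, hr, hc, hg⟩
  exact hMat_mem_normalizer hG hP hr hc hg

include hG in
theorem diagonalSubgroup_le_normalizer_pos :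
    D.diagonalSubgroup F ≤ Subgroup.normalizer (D.posUnipotent F : Set (GL D.Idx F)) :=
  diagonalSubgroup_le_normalizer hG (fun r h => h.1)

include hG in
theorem diagonalSubgroup_le_normalizer_neg :
    D.diagonalSubgroup F ≤ Subgroup.normalizer (D.negUnipotent F : Set (GL D.Idx F)) :=
  diagonalSubgroup_le_normalizer hG (fun r h => h.1)

end normalizes

/-! ### `H` consists of diagonal matrices -/

theorem diagonal_inv {ι : Type*} [Fintype ι] [DecidableEq ι] {g : GL ι F} {d : ι → F}
    (hg : (g : Matrix ι ι F) = Matrix.diagonal d) :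
    ((g⁻¹ : GL ι F) : Matrix ι ι F) = Matrix.diagonal (fun i => (d i)⁻¹) := by
  have h1 : (g : Matrix ι ι F) * ((g⁻¹ : GL ι F) : Matrix ι ι F) = 1 := by
    rw [← Units.val_mul, mul_inv_cancel, Units.val_one]
  rw [hg] at h1
  have h2 : ∀ i j, d i * ((g⁻¹ : GL ι F) : Matrix ι ι F) i j = (1 : Matrix ι ι F) i j := by
    intro i j
    rw [← h1, Matrix.diagonal_mul]
  have hd : ∀ i, d i ≠ 0 := by
    intro i h0
    have := h2 i i
    rw [h0, zero_mul, Matrix.one_apply_eq] at this
    exact zero_ne_one this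
  ext i j
  by_cases hij : i = j
  · subst hij
    rw [Matrix.diagonal_apply_eq]
    have := h2 i i
    rw [Matrix.one_apply_eq] at this
    exact eq_inv_of_mul_eq_one_right this
  · rw [Matrix.diagonal_apply_ne _ hij]
    have := h2 i j
    rw [Matrix.one_apply_ne hij] at this
    exact (mul_eq_zero.mp this).resolve_left (hd i)

theorem diagonalSubgroup_diag (hG : Good1 D) {g : GL D.Idx F} (hg : g ∈ D.diagonalSubgroup F) :
    ∃ d : D.Idx → F, (g : Matrix D.Idx D.Idx F) = Matrix.diagonal d := by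
  unfold ChevalleyDatum.diagonalSubgroup at hg
  induction hg using Subgroup.closure_induction with
  | mem x hx =>
    obtain ⟨r, c, hr, hc, hx⟩ := hx
    exact ⟨_, hx.trans (hMat_eq_diagonal hG hr hc)⟩
  | one => exact ⟨fun _ => 1, by simp⟩
  | mul x y _ _ hx hy =>
    obtain ⟨d1, h1⟩ := hx
    obtain ⟨d2, h2⟩ := hy
    exact ⟨fun i => d1 i * d2 i, by rw [Units.val_mul, h1, h2, Matrix.diagonal_mul_diagonal]⟩
  | inv x _ hx =>
    obtain ⟨d1, h1⟩ := hx
    exact ⟨_, diagonal_inv h1⟩

theorem diagonalSubgroup_comm (hG : Good1 D) :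
    ∀ a ∈ D.diagonalSubgroup F, ∀ b ∈ D.diagonalSubgroup F, a * b = b * a := by
  intro a ha b hb
  obtain ⟨d1, h1⟩ := diagonalSubgroup_diag hG ha
  obtain ⟨d2, h2⟩ := diagonalSubgroup_diag hG hb
  apply Units.ext
  rw [Units.val_mul, Units.val_mul, h1, h2, Matrix.diagonal_mul_diagonal,
    Matrix.diagonal_mul_diagonal]
  congr 1
  funext i
  exact mul_comm _ _

/-! ### Intersections -/

section inter

variable (hG : Good2 D) (hT : T0 D)

include hG hT in
/-- `U ∩ H = 1`. -/
theorem posUnipotent_inf_diagonal : D.posUnipotent F ⊓ D.diagonalSubgroup F = ⊥ := by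
  rw [eq_bot_iff]
  rintro g ⟨hgU, hgH⟩
  rw [Subgroup.mem_bot]
  obtain ⟨d, hd⟩ := diagonalSubgroup_diag hG.toGood1 hgH
  have hU : Raises (lvl D) 1 ((g : Matrix D.Idx D.Idx F) - 1) := posUnipotent_le D hT F hgU
  apply Units.ext
  rw [Units.val_one, hd]
  ext i j
  by_cases hij : i = j
  · subst hij
    rw [Matrix.diagonal_apply_eq, Matrix.one_apply_eq]
    by_contra hne
    have h1 : ((g : Matrix D.Idx D.Idx F) - 1) i i ≠ 0 := by
      rw [hd, Matrix.sub_apply, Matrix.diagonal_apply_eq, Matrix.one_apply_eq]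
      exact sub_ne_zero.mpr hne
    have := hU i i h1
    omega
  · rw [Matrix.diagonal_apply_ne _ hij, Matrix.one_apply_ne hij]

include hG hT in
/-- The shape of the elements of `B = UH`. -/
theorem borel_shape {g : GL D.Idx F} (hg : g ∈ D.borelSubgroup F) :
    ∃ (u : GL D.Idx F) (d : D.Idx → F), Raises (lvl D) 1 ((u : Matrix D.Idx D.Idx F) - 1) ∧
      (g : Matrix D.Idx D.Idx F) = (u : Matrix D.Idx D.Idx F) * Matrix.diagonal d := by
  have hmul := Subgroup.coe_mul_of_right_le_normalizer_left (D.posUnipotent F)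
    (D.diagonalSubgroup F) (diagonalSubgroup_le_normalizer_pos hG)
  obtain ⟨u, hu, h, hh, rfl⟩ : g ∈ (D.posUnipotent F : Set (GL D.Idx F)) *
      (D.diagonalSubgroup F : Set (GL D.Idx F)) := by
    rw [← hmul]; exact hg
  obtain ⟨d, hd⟩ := diagonalSubgroup_diag hG.toGood1 hh
  exact ⟨u, d, posUnipotent_le D hT F hu, by rw [Units.val_mul, hd]⟩

include hG hT in
/-- `UH ∩ V = 1`. -/
theorem borel_inf_negUnipotent : D.borelSubgroup F ⊓ D.negUnipotent F = ⊥ := by
  rw [eq_bot_iff]
  rintro g ⟨hgB, hgV⟩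
  rw [Subgroup.mem_bot]
  obtain ⟨u, d, hu, hgu⟩ := borel_shape hG hT hgB
  have hV : Raises (lvlNeg D) 1 ((g : Matrix D.Idx D.Idx F) - 1) := negUnipotent_le D hT F hgV
  have hentry : ∀ i j, (g : Matrix D.Idx D.Idx F) i j = (u : Matrix D.Idx D.Idx F) i j * d j := by
    intro i j
    rw [hgu, Matrix.mul_diagonal]
  apply Units.ext
  rw [Units.val_one]
  ext i j
  by_cases hij : i = j
  · subst hij
    rw [Matrix.one_apply_eq]
    by_contra hne
    have h1 : ((g : Matrix D.Idx D.Idx F) - 1) i i ≠ 0 := by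
      rw [Matrix.sub_apply, Matrix.one_apply_eq]
      exact sub_ne_zero.mpr hne
    have := hV i i h1
    omega
  · rw [Matrix.one_apply_ne hij]
    by_contra hne
    have h1 : ((g : Matrix D.Idx D.Idx F) - 1) i j ≠ 0 := by
      rw [Matrix.sub_apply, Matrix.one_apply_ne hij, sub_zero]
      exact hne
    have h2 : ((u : Matrix D.Idx D.Idx F) - 1) i j ≠ 0 := by
      rw [Matrix.sub_apply, Matrix.one_apply_ne hij, sub_zero]
      intro h0
      apply hne
      rw [hentry, h0, zero_mul]
    have e1 := hV i j h1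
    have e2 := hu i j h2
    have l1 := lvl_lt D i
    have l2 := lvl_lt D j
    unfold lvlNeg at e1
    omega

include hG hT in
/-- `UH ∩ VH = H`. -/
theorem borel_inf_negBorel :
    D.borelSubgroup F ⊓ (D.negUnipotent F ⊔ D.diagonalSubgroup F) = D.diagonalSubgroup F := by
  apply le_antisymm
  · rintro g ⟨hgB, hgVH⟩
    have hmul := Subgroup.coe_mul_of_right_le_normalizer_left (D.negUnipotent F)
      (D.diagonalSubgroup F) (diagonalSubgroup_le_normalizer_neg hG)
    obtain ⟨v, hv, h, hh, rfl⟩ : g ∈ (D.negUnipotent F : Set (GL D.Idx F)) *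
        (D.diagonalSubgroup F : Set (GL D.Idx F)) := by
      rw [← hmul]; exact hgVH
    have hHB : D.diagonalSubgroup F ≤ D.borelSubgroup F := le_sup_right
    have hvB : v ∈ D.borelSubgroup F := by
      have : v = v * h * h⁻¹ := by group
      rw [this]
      exact mul_mem hgB (inv_mem (hHB hh))
    have hv1 : v ∈ D.borelSubgroup F ⊓ D.negUnipotent F := ⟨hvB, hv⟩
    rw [borel_inf_negUnipotent hG hT, Subgroup.mem_bot] at hv1
    subst hv1
    change 1 * h ∈ D.diagonalSubgroup F
    rw [one_mul]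
    exact hh
  · exact le_inf le_sup_right le_sup_right

include hG hT in
/-- `B = UH` is solvable. -/
theorem borel_isSolvable : Group.IsSolvable ↥(D.borelSubgroup F) := by
  have hnil : Group.IsNilpotent ↥(D.posUnipotent F) :=
    isNilpotent_of_le F (lvl D) (D.posUnipotent F) (posUnipotent_le D hT F)
  exact isSolvable_sup_of_le_normalizer (D.posUnipotent F) (D.diagonalSubgroup F)
    (diagonalSubgroup_le_normalizer_pos hG) (diagonalSubgroup_comm hG.toGood1)

end inter

end Cfsg.Agent.Helper7.Chev
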