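import Mathlib
import Cfsg.Agent.Helper7.ChevRank2

set_option autoImplicit false
set_option linter.unusedSectionVars false
set_option linter.unusedVariables false

/-!
Symbolic computation with the columns of products of root elements whose parameters are monomials in two
indeterminates `t`, `u`: vectors are lists of terms `c t^a u^b e_k`, the action of `x_r(c t^a u^b)` is
computed from the tables, and soundness is proved with respect to the actual matrices.
-/

namespace Cfsg.Agent.Helper7.Chev

open Cfsg Cfsg.Lie Matrix

/-- A monomial `c t^a u^b` with integer coefficient. -/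
structure Mono where
  c : ℤ
  a : ℕ
  b : ℕ
deriving DecidableEq

namespace Mono

variable {F : Type*} [Field F]

/-- The value of a monomial. -/
def eval (m : Mono) (t u : F) : F := (m.c : F) * t ^ m.a * u ^ m.b

/-- Product of monomials. -/
def mul (m m' : Mono) : Mono := ⟨m.c * m'.c, m.a + m'.a, m.b + m'.b⟩

/-- Power of a monomial. -/
def pow (m : Mono) (k : ℕ) : Mono := ⟨m.c ^ k, m.a * k, m.b * k⟩

/-- Integer multiple of a monomial. -/
def scale (z : ℤ) (m : Mono) : Mono := ⟨z * m.c, m.a, m.b⟩

theorem eval_mul (m m' : Mono) (t u : F) : (m.mul m').eval t u = m.eval t u * m'.eval t u := by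
  simp only [eval, mul]
  push_cast
  ring

theorem eval_pow (m : Mono) (k : ℕ) (t u : F) : (m.pow k).eval t u = (m.eval t u) ^ k := by
  simp only [eval, pow]
  push_cast
  ring

theorem eval_scale (z : ℤ) (m : Mono) (t u : F) : (m.scale z).eval t u = (z : F) * m.eval t u := by
  simp only [eval, scale]
  push_cast
  ring

end Mono

/-- A symbolic vector: a list of terms `(k, m)` standing for `m e_k`, where `k < l` codes the coroot basis
vector `h_{p_k}` and `k ≥ l` codes the root vector `e_{k - l}`. -/
abbrev SVec := List (ℕ × Mono)

variable {D : ChevalleyDatum} {F : Type*} [Field F]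

/-- The basis vector with code `k`. -/
def bvec (D : ChevalleyDatum) (F : Type*) [Field F] (k : ℕ) : D.Idx → F :=
  if h : k < D.rank then eH D F ⟨k, h⟩ else eR D F (k - D.rank)

/-- The value of a symbolic vector. -/
def SVec.eval (D : ChevalleyDatum) (V : SVec) (t u : F) : D.Idx → F :=
  (V.map fun x => x.2.eval t u • bvec D F x.1).sum

theorem SVec.eval_nil (t u : F) : SVec.eval D ([] : SVec) t u = 0 := rfl

theorem SVec.eval_cons (x : ℕ × Mono) (V : SVec) (t u : F) :
    SVec.eval D (x :: V) t u = x.2.eval t u • bvec D F x.1 + SVec.eval D V t u := by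
  simp [SVec.eval]

theorem SVec.eval_append (V W : SVec) (t u : F) :
    SVec.eval D (V ++ W) t u = SVec.eval D V t u + SVec.eval D W t u := by
  simp [SVec.eval]

theorem SVec.eval_flatMap (V : SVec) (f : ℕ × Mono → SVec) (t u : F) :
    SVec.eval D (V.flatMap f) t u = (V.map fun x => SVec.eval D (f x) t u).sum := by
  induction V with
  | nil => rfl
  | cons x V ih => rw [List.flatMap_cons, SVec.eval_append, ih, List.map_cons, List.sum_cons]

namespace Tab

variable (T : Tab)

/-- The symbolic action of `x_r(p)` on one term. -/
def actOne (r : ℕ) (p : Mono) (x : ℕ × Mono) : SVec :=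
  if x.1 < T.l then [x, (T.l + r, (x.2.mul p).scale (- T.cartan x.1 r))]
  else if x.1 - T.l = r then [x]
  else if x.1 - T.l = T.neg r then
    x :: (((List.range T.l).map fun i => (i, (x.2.mul p).scale (T.cr r i))) ++
      [(T.l + r, (x.2.mul (p.pow 2)).scale (-1))])
  else x :: (T.ce r (x.1 - T.l)).zipIdx.map fun q =>
    (T.l + q.1.1, (x.2.mul (p.pow (q.2 + 1))).scale q.1.2)

/-- The symbolic action of `x_r(p)`. -/
def act (r : ℕ) (p : Mono) (V : SVec) : SVec := V.flatMap (T.actOne r p)

/-- The symbolic action of a word. -/
def actWord (w : List (ℕ × Mono)) (V : SVec) : SVec := w.foldr (fun q V => T.act q.1 q.2 V) V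

end Tab

/-- All codes of a symbolic vector are in range. -/
def SVec.Valid (D : ChevalleyDatum) (V : SVec) : Prop := ∀ x ∈ V, x.1 < D.rank + D.nroots

section sound

variable (hG : Good1 D) {r : ℕ} (hr : r < D.nroots)

theorem bvec_of_lt {k : ℕ} (h : k < D.rank) : bvec D F k = eH D F ⟨k, h⟩ := by
  unfold bvec; rw [dif_pos h]

theorem bvec_of_ge {k : ℕ} (h : ¬ k < D.rank) : bvec D F k = eR D F (k - D.rank) := by
  unfold bvec; rw [dif_neg h]

theorem bvec_add (s : ℕ) : bvec D F (D.rank + s) = eR D F s := by
  rw [bvec_of_ge (by omega)]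
  congr 1
  omega

theorem hR_eq_eval (r : ℕ) (m : Mono) (t u : F) :
    SVec.eval D ((List.range D.rank).map fun i => (i, m.scale (cr D r i))) t u =
      m.eval t u • hR D F r := by
  unfold hR SVec.eval
  rw [List.map_map, list_range_sum_eq, Finset.sum_range, Finset.smul_sum]
  apply Finset.sum_congr rfl
  intro i _
  simp only [Function.comp_apply]
  rw [bvec_of_lt i.2, Mono.eval_scale, smul_smul, mul_comm]

include hG hr in
/-- Soundness of the symbolic action on one term. -/
theorem eval_actOne (x : ℕ × Mono) (hx : x.1 < D.rank + D.nroots) (p : Mono) (t u : F) :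
    SVec.eval D ((tabOf D).actOne r p x) t u =
      D.x F r (p.eval t u) *ᵥ (x.2.eval t u • bvec D F x.1) := by
  have hl : (tabOf D).l = D.rank := rfl
  rw [Matrix.mulVec_smul]
  unfold Tab.actOne
  rw [hl]
  by_cases h1 : x.1 < D.rank
  · rw [if_pos h1, SVec.eval_cons, SVec.eval_cons, SVec.eval_nil, add_zero, bvec_add, bvec_of_lt h1,
      x_mulVec_eH D F hr, smul_add, smul_smul, Mono.eval_scale, Mono.eval_mul]
    congr 2
    push_cast
    have : (tabOf D).cartan x.1 r = D.cartan x.1 r := rfl
    rw [this]
    ring
  · rw [if_neg h1]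
    have hv : x.1 - D.rank < D.nroots := by omega
    rw [bvec_of_ge h1]
    by_cases h2 : x.1 - D.rank = r
    · rw [if_pos h2, SVec.eval_cons, SVec.eval_nil, add_zero, bvec_of_ge h1, h2,
        x_mulVec_eR_self D F hr]
    · rw [if_neg h2]
      have hneg : (tabOf D).neg r = D.neg r := rfl
      rw [hneg]
      by_cases h3 : x.1 - D.rank = D.neg r
      · rw [if_pos h3, SVec.eval_cons, SVec.eval_append, SVec.eval_cons, SVec.eval_nil, add_zero,
          bvec_add, bvec_of_ge h1, h3,
          x_mulVec_eR_neg D F hr (hG.neg_lt hr) (hG.neg_ne hr)]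
        have hcr : ∀ i, (tabOf D).cr r i = cr D r i := fun _ => rfl
        simp only [hcr]
        rw [hR_eq_eval, Mono.eval_scale, Mono.eval_mul, Mono.eval_mul, Mono.eval_pow, smul_add,
          smul_add, smul_smul, smul_smul, ← add_assoc]
        congr 2
        push_cast
        ring
      · rw [if_neg h3, SVec.eval_cons, bvec_of_ge h1,
          x_mulVec_eR_other D F hr (hG.keysNodup hr) hv h2 h3, smul_add]
        congr 1
        unfold chainVec SVec.eval
        have hce : D.chainEntry r (x.1 - D.rank) = (tabOf D).ce r (x.1 - D.rank) := rfl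
        rw [hce, List.map_map, List.smul_sum, List.map_map]
        congr 1
        apply List.map_congr_left
        intro q _
        simp only [Function.comp_apply]
        rw [bvec_add, Mono.eval_scale, Mono.eval_mul, Mono.eval_pow, smul_smul]
        congr 1
        ring

include hG hr in
/-- The symbolic action keeps the codes in range. -/
theorem valid_actOne (x : ℕ × Mono) (hx : x.1 < D.rank + D.nroots) (p : Mono) :
    SVec.Valid D ((tabOf D).actOne r p x) := by
  have hl : (tabOf D).l = D.rank := rfl
  unfold Tab.actOne
  rw [hl]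
  intro y hy
  by_cases h1 : x.1 < D.rank
  · rw [if_pos h1] at hy
    simp only [List.mem_cons, List.not_mem_nil, or_false] at hy
    rcases hy with rfl | rfl
    · exact hx
    · simp only; omega
  · rw [if_neg h1] at hy
    have hv : x.1 - D.rank < D.nroots := by omega
    by_cases h2 : x.1 - D.rank = r
    · rw [if_pos h2] at hy
      simp only [List.mem_cons, List.not_mem_nil, or_false] at hy
      rw [hy]; exact hx
    · rw [if_neg h2] at hy
      have hneg : (tabOf D).neg r = D.neg r := rfl
      rw [hneg] at hy
      by_cases h3 : x.1 - D.rank = D.neg r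
      · rw [if_pos h3] at hy
        simp only [List.mem_cons, List.mem_append, List.mem_map, List.mem_range, List.not_mem_nil,
          or_false] at hy
        rcases hy with rfl | ⟨i, hi, rfl⟩ | rfl
        · exact hx
        · simp only; omega
        · simp only; omega
      · rw [if_neg h3] at hy
        simp only [List.mem_cons, List.mem_map] at hy
        rcases hy with rfl | ⟨q, hq, rfl⟩
        · exact hx
        · have hq1 : q.1 ∈ (tabOf D).ce r (x.1 - D.rank) := by
            obtain ⟨k1, k2⟩ := List.mem_zipIdx' (x := q.1) (i := q.2) hq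
            rw [k2]; exact List.getElem_mem k1
          obtain ⟨_, _, _, _, _, h6, _⟩ := hG.strOK hr hv h2 h3
          rw [h6, List.mem_map] at hq1
          obtain ⟨k, hk, hkq⟩ := hq1
          rw [List.mem_range] at hk
          have := (str_member hG hr hv h2 h3
            (k := (tabOf D).pos r (x.1 - D.rank) + k + 1) (by omega)).1
          rw [← hkq]
          simp only
          omega

include hG hr in
/-- Soundness of the symbolic action of a root element. -/
theorem eval_act (V : SVec) (hV : SVec.Valid D V) (p : Mono) (t u : F) :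
    SVec.eval D ((tabOf D).act r p V) t u = D.x F r (p.eval t u) *ᵥ SVec.eval D V t u := by
  unfold Tab.act
  rw [SVec.eval_flatMap]
  conv_rhs => rw [SVec.eval, mulVec_list_sum, List.map_map]
  congr 1
  apply List.map_congr_left
  intro x hx
  exact eval_actOne hG hr x (hV x hx) p t u

include hG hr in
theorem valid_act (V : SVec) (hV : SVec.Valid D V) (p : Mono) :
    SVec.Valid D ((tabOf D).act r p V) := by
  unfold Tab.act
  intro y hy
  rw [List.mem_flatMap] at hy
  obtain ⟨x, hx, hy⟩ := hy
  exact valid_actOne hG hr x (hV x hx) p y hy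

include hG in
/-- Soundness of the symbolic action of a word. -/
theorem eval_actWord (w : List (ℕ × Mono)) (hw : ∀ q ∈ w, q.1 < D.nroots) (V : SVec)
    (hV : SVec.Valid D V) (t u : F) :
    SVec.eval D ((tabOf D).actWord w V) t u =
        D.wordMat F (w.map fun q => (q.1, q.2.eval t u)) *ᵥ SVec.eval D V t u ∧
      SVec.Valid D ((tabOf D).actWord w V) := by
  induction w with
  | nil =>
    simp only [Tab.actWord, List.foldr_nil, List.map_nil]
    rw [wordMat_nil, Matrix.one_mulVec]
    exact ⟨rfl, hV⟩
  | cons q w ih =>
    have hq : q.1 < D.nroots := hw q List.mem_cons_self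
    obtain ⟨h1, h2⟩ := ih (fun q' hq' => hw q' (List.mem_cons_of_mem _ hq'))
    have e : (tabOf D).actWord (q :: w) V = (tabOf D).act q.1 q.2 ((tabOf D).actWord w V) := rfl
    rw [e]
    refine ⟨?_, valid_act hG hq _ h2 _⟩
    rw [eval_act hG hq _ h2, h1, List.map_cons, wordMat_cons, Matrix.mulVec_mulVec]

end sound

/-! ### Collecting terms -/

/-- Add a term to a symbolic vector, merging it with a term of the same kind if there is one. -/
def addTerm (x : ℕ × Mono) : SVec → SVec
  | [] => [x]
  | y :: L =>
    if y.1 = x.1 ∧ y.2.a = x.2.a ∧ y.2.b = x.2.b then (y.1, ⟨y.2.c + x.2.c, y.2.a, y.2.b⟩) :: L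
    else y :: addTerm x L

theorem eval_addTerm (x : ℕ × Mono) (L : SVec) (t u : F) :
    SVec.eval D (addTerm x L) t u = x.2.eval t u • bvec D F x.1 + SVec.eval D L t u := by
  induction L with
  | nil => simp [addTerm, SVec.eval]
  | cons y L ih =>
    unfold addTerm
    split_ifs with h
    · obtain ⟨h1, h2, h3⟩ := h
      rw [SVec.eval_cons, SVec.eval_cons, ← add_assoc, ← h1]
      congr 1
      rw [← add_smul]
      congr 1
      simp only [Mono.eval]
      rw [h2, h3]
      push_cast
      ring
    · rw [SVec.eval_cons, ih, SVec.eval_cons]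
      abel

/-- Collect the terms of a symbolic vector. -/
def collect (V : SVec) : SVec := V.foldr addTerm []

theorem eval_collect (V : SVec) (t u : F) : SVec.eval D (collect V) t u = SVec.eval D V t u := by
  induction V with
  | nil => rfl
  | cons x V ih =>
    have : collect (x :: V) = addTerm x (collect V) := rfl
    rw [this, eval_addTerm, ih, SVec.eval_cons]

/-- All coefficients vanish. -/
def SVec.isZero (V : SVec) : Bool := V.all (fun y => decide (y.2.c = 0))

theorem eval_of_isZero (V : SVec) (h : V.isZero = true) (t u : F) : SVec.eval D V t u = 0 := by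
  induction V with
  | nil => rfl
  | cons x V ih =>
    unfold SVec.isZero at h
    rw [List.all_cons, Bool.and_eq_true, decide_eq_true_eq] at h
    rw [SVec.eval_cons, ih h.2, add_zero]
    simp [Mono.eval, h.1]

/-- The negative of a symbolic vector. -/
def SVec.neg (V : SVec) : SVec := V.map fun y => (y.1, y.2.scale (-1))

theorem eval_neg (V : SVec) (t u : F) : SVec.eval D (SVec.neg V) t u = - SVec.eval D V t u := by
  induction V with
  | nil => simp [SVec.neg, SVec.eval]
  | cons x V ih =>
    have : SVec.neg (x :: V) = (x.1, x.2.scale (-1)) :: SVec.neg V := rfl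
    rw [this, SVec.eval_cons, ih, SVec.eval_cons, Mono.eval_scale]
    simp only
    push_cast
    rw [neg_add, neg_one_mul, neg_smul]

/-- Two symbolic vectors with vanishing collected difference have the same value. -/
theorem eval_eq_of_collect (V W : SVec) (h : (collect (V ++ SVec.neg W)).isZero = true) (t u : F) :
    SVec.eval D V t u = SVec.eval D W t u := by
  have := eval_of_isZero (D := D) _ h t u
  rw [eval_collect, SVec.eval_append, eval_neg] at this
  exact add_neg_eq_zero.mp this

end Cfsg.Agent.Helper7.Chev
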