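import Mathlib
import Cfsg.Agent.Helper7.ChevSym

set_option autoImplicit false
set_option linter.unusedSectionVars false
set_option linter.unusedVariables false

/-!
The commutator formula for a pair of roots, checked column by column by symbolic computation.
-/

namespace Cfsg.Agent.Helper7.Chev

open Cfsg Cfsg.Lie Matrix

namespace Tab

variable (T : Tab)

/-- The index of the root `i r + s`, if it is a root. -/
def chainRoot (r s i : ℕ) : Option ℕ := ((T.ce r s)[i - 1]?).map Prod.fst

/-- The integer `M_{r,s,i}`. -/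
def chainM (r s i : ℕ) : ℤ := (((T.ce r s)[i - 1]?).map Prod.snd).getD 0

/-- The terms of the commutator formula. -/
def commTerms (r s : ℕ) : List (ℕ × ℤ × ℕ × ℕ) :=
  let rs := T.chainRoot r s 1
  let cands : List (Option ℕ × ℤ × ℕ × ℕ) :=
    [ (T.chainRoot r s 1, T.chainM r s 1, 1, 1),
      (T.chainRoot r s 2, T.chainM r s 2, 2, 1),
      (T.chainRoot s r 2, T.chainM s r 2, 1, 2),
      (T.chainRoot r s 3, T.chainM r s 3, 3, 1),
      (T.chainRoot s r 3, - T.chainM s r 3, 1, 3),
      ((T.chainRoot r s 3).bind fun k => T.chainRoot k s 1, (rs.map fun k => T.chainM k r 2 / 3).getD 0, 3, 2),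
      ((T.chainRoot s r 3).bind fun k => T.chainRoot k r 1, (rs.map fun k => -2 * T.chainM k s 2 / 3).getD 0, 2, 3) ]
  cands.filterMap fun c => c.1.map fun k => (k, c.2)

/-- The commutator word with monomial parameters. -/
def commMono (r s : ℕ) : List (ℕ × Mono) :=
  (T.commTerms r s).map fun c => (c.1, ⟨c.2.1 * (-1) ^ c.2.2.1, c.2.2.1, c.2.2.2⟩)

/-- The monomial `t`. -/
def mT : Mono := ⟨1, 1, 0⟩

/-- The monomial `u`. -/
def mU : Mono := ⟨1, 0, 1⟩

/-- The monomial `1`. -/
def mOne : Mono := ⟨1, 0, 0⟩

/-- The column check of the commutator formula for `(r, s)` at the basis vector with code `v`. -/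
def colOK (r s v : ℕ) : Prop :=
  (collect (T.act s mU (T.act r mT [(v, mOne)]) ++
    SVec.neg (T.act r mT (T.act s mU (T.actWord (T.commMono r s) [(v, mOne)]))))).isZero = true

instance (r s v : ℕ) : Decidable (T.colOK r s v) := by unfold colOK; infer_instance

/-- The check of the commutator formula for `(r, s)`. -/
def ColsOK (r s : ℕ) : Prop :=
  (T.commTerms r s).all (fun c => decide (c.1 < T.n)) = true ∧ AllLt (T.l + T.n) (T.colOK r s)

instance (r s : ℕ) : Decidable (T.ColsOK r s) := by unfold ColsOK; infer_instance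

end Tab

theorem commTerms_eq (D : ChevalleyDatum) (r s : ℕ) :
    (tabOf D).commTerms r s = D.commTerms r s := rfl

variable {D : ChevalleyDatum} {F : Type*} [Field F]

/-- The commutator formula for the pair `(r, s)`. -/
def Comm (D : ChevalleyDatum) (F : Type*) [Field F] (r s : ℕ) : Prop :=
  ∀ t u : F, D.x F s u * D.x F r t = D.x F r t * D.x F s u * D.wordMat F (D.commWord F r s t u)

theorem commWord_eq (r s : ℕ) (t u : F) :
    D.commWord F r s t u = ((tabOf D).commMono r s).map fun q => (q.1, q.2.eval t u) := by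
  unfold ChevalleyDatum.commWord Tab.commMono
  rw [commTerms_eq, List.map_map]
  apply List.map_congr_left
  intro c _
  simp only [Function.comp_apply, Mono.eval]
  congr 1
  push_cast
  rw [neg_pow t]
  ring

theorem mT_eval (t u : F) : Tab.mT.eval t u = t := by simp [Tab.mT, Mono.eval]

theorem mU_eval (t u : F) : Tab.mU.eval t u = u := by simp [Tab.mU, Mono.eval]

/-- The code of a coordinate. -/
def code (D : ChevalleyDatum) : D.Idx → ℕ
  | Sum.inl i => i.val
  | Sum.inr s => D.rank + s.val

theorem code_lt (v : D.Idx) : code D v < D.rank + D.nroots := by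
  rcases v with i | s
  · have := i.2; simp only [code]; omega
  · have := s.2; simp only [code]; omega

theorem single_eq_eval (v : D.Idx) (t u : F) :
    (Pi.single v 1 : D.Idx → F) = SVec.eval D [(code D v, Tab.mOne)] t u := by
  rw [SVec.eval_cons, SVec.eval_nil, add_zero]
  have : Tab.mOne.eval t u = 1 := by simp [Tab.mOne, Mono.eval]
  simp only
  rw [this, one_smul]
  rcases v with i | s
  · rw [bvec_of_lt (show code D (Sum.inl i) < D.rank from i.2)]
    rfl
  · have : code D (Sum.inr s) = D.rank + s.val := rfl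
    rw [this, bvec_add, eR_of_lt s.2]

/-- The commutator formula for `(r, s)` from the column checks. -/
theorem comm_of_colsOK (hG : Good1 D) {r s : ℕ} (hr : r < D.nroots) (hs : s < D.nroots)
    (h : (tabOf D).ColsOK r s) : Comm D F r s := by
  obtain ⟨h1, h2⟩ := h
  intro t u
  apply matrix_ext_mulVec
  intro v
  have hw : ∀ q ∈ (tabOf D).commMono r s, q.1 < D.nroots := by
    intro q hq
    unfold Tab.commMono at hq
    rw [List.mem_map] at hq
    obtain ⟨c, hc, rfl⟩ := hq
    rw [List.all_eq_true] at h1
    exact of_decide_eq_true (h1 c hc)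
  have hV : SVec.Valid D [(code D v, Tab.mOne)] := by
    intro x hx
    rw [List.mem_singleton] at hx
    rw [hx]; exact code_lt v
  rw [single_eq_eval v t u, ← Matrix.mulVec_mulVec, ← Matrix.mulVec_mulVec, ← Matrix.mulVec_mulVec,
    commWord_eq]
  obtain ⟨e1, v1⟩ := eval_actWord (F := F) hG _ hw _ hV t u
  rw [← e1]
  have v2 := valid_act hG hs _ v1 Tab.mU
  have v3 := valid_act hG hr _ hV Tab.mT
  have A1 : D.x F r t *ᵥ SVec.eval D [(code D v, Tab.mOne)] t u =
      SVec.eval D ((tabOf D).act r Tab.mT [(code D v, Tab.mOne)]) t u := by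
    rw [eval_act hG hr _ hV, mT_eval]
  have A2 : D.x F s u *ᵥ SVec.eval D ((tabOf D).act r Tab.mT [(code D v, Tab.mOne)]) t u =
      SVec.eval D ((tabOf D).act s Tab.mU ((tabOf D).act r Tab.mT [(code D v, Tab.mOne)])) t u := by
    rw [eval_act hG hs _ v3, mU_eval]
  have B1 : D.x F s u *ᵥ SVec.eval D ((tabOf D).actWord ((tabOf D).commMono r s)
      [(code D v, Tab.mOne)]) t u =
      SVec.eval D ((tabOf D).act s Tab.mU ((tabOf D).actWord ((tabOf D).commMono r s)
        [(code D v, Tab.mOne)])) t u := by
    rw [eval_act hG hs _ v1, mU_eval]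
  have B2 : D.x F r t *ᵥ SVec.eval D ((tabOf D).act s Tab.mU ((tabOf D).actWord
      ((tabOf D).commMono r s) [(code D v, Tab.mOne)])) t u =
      SVec.eval D ((tabOf D).act r Tab.mT ((tabOf D).act s Tab.mU ((tabOf D).actWord
        ((tabOf D).commMono r s) [(code D v, Tab.mOne)]))) t u := by
    rw [eval_act hG hr _ v2, mT_eval]
  rw [A1, A2, B1, B2]
  exact eval_eq_of_collect _ _ (h2 (code D v) (code_lt v)) t u

end Cfsg.Agent.Helper7.Chev
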