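import Mathlib
import Cfsg.Agent.Helper7.ChevComm
import Cfsg.Agent.Helper7.ChevBorel

set_option autoImplicit false
set_option linter.unusedSectionVars false
set_option linter.unusedVariables false

/-!
Transport of the commutator formula along the fundamental reflections.
-/

namespace Cfsg.Agent.Helper7.Chev

open Cfsg Cfsg.Lie Matrix

namespace Tab

variable (T : Tab)

/-- The commutator terms of `(w_p r, w_p s)` are those of `(r, s)` transformed by `w_p`, with signs. -/
def T3row (i r s : ℕ) : Prop :=
  T.commTerms (T.refl (T.simple i) r) (T.refl (T.simple i) s) =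
    (T.commTerms r s).map (fun c => (T.refl (T.simple i) c.1,
      c.2.1 * T.eta (T.simple i) c.1 * T.eta (T.simple i) r ^ c.2.2.1 *
        T.eta (T.simple i) s ^ c.2.2.2, c.2.2.1, c.2.2.2)) ∧
  (T.commTerms r s).all (fun c => decide (c.1 < T.n)) = true

instance (i r s : ℕ) : Decidable (T.T3row i r s) := by unfold T3row; infer_instance

/-- Level-3 table facts for the `i`-th fundamental reflection and the root `r`. -/
def T3at (i r : ℕ) : Prop := AllLt T.n (fun s => s ≠ r → s ≠ T.neg r → T.T3row i r s)

instance (i r : ℕ) : Decidable (T.T3at i r) := by unfold T3at; infer_instance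

/-- Level-3 table facts for the `i`-th fundamental reflection. -/
def T3simple (i : ℕ) : Prop := AllLt T.n (T.T3at i)

instance (i : ℕ) : Decidable (T.T3simple i) := by unfold T3simple; infer_instance

/-- Level-3 table facts. -/
def T3 : Prop := AllLt T.l T.T3simple

instance : Decidable T.T3 := by unfold T3; infer_instance

end Tab

variable {D : ChevalleyDatum} {F : Type*} [Field F]

section transport

variable (hG : Good2 D) {i : ℕ} (hi : i < D.rank)

include hG hi in
/-- Conjugation of a word by `n_p`. -/
theorem nMat_mul_wordMat (w : List (ℕ × F)) (hw : ∀ q ∈ w, q.1 < D.nroots) :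
    D.nMat F (D.simple i) 1 * D.wordMat F w =
      D.wordMat F (w.map fun q => ((tabOf D).refl (D.simple i) q.1,
        (((tabOf D).eta (D.simple i) q.1 : ℤ) : F) * q.2)) * D.nMat F (D.simple i) 1 := by
  induction w with
  | nil => simp [wordMat_nil]
  | cons q w ih =>
    have hq : q.1 < D.nroots := hw q List.mem_cons_self
    rw [wordMat_cons, ← mul_assoc, nMat_mul_x hG hi hq, mul_assoc,
      ih (fun q' hq' => hw q' (List.mem_cons_of_mem _ hq')), List.map_cons, wordMat_cons, mul_assoc]

include hG hi in
/-- Transport of the commutator formula along a fundamental reflection. -/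
theorem comm_refl {r s : ℕ} (hr : r < D.nroots) (hs : s < D.nroots)
    (h3 : (tabOf D).T3row i r s) (hc : Comm D F r s) :
    Comm D F ((tabOf D).refl (D.simple i) r) ((tabOf D).refl (D.simple i) s) := by
  have hG1 := hG.toGood1
  have hp := hG1.simple_lt hi
  obtain ⟨h3a, h3b⟩ := h3
  have hsim : (tabOf D).simple i = D.simple i := rfl
  rw [hsim] at h3a
  intro t' u'
  set ηr : F := (((tabOf D).eta (D.simple i) r : ℤ) : F) with hηr
  set ηs : F := (((tabOf D).eta (D.simple i) s : ℤ) : F) with hηs
  have hr2 : ηr * ηr = 1 := by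
    rw [hηr, ← Int.cast_mul, eta_sq hG1 hp hr, Int.cast_one]
  have hs2 : ηs * ηs = 1 := by
    rw [hηs, ← Int.cast_mul, eta_sq hG1 hp hs, Int.cast_one]
  have ht : ηr * (ηr * t') = t' := by rw [← mul_assoc, hr2, one_mul]
  have hu : ηs * (ηs * u') = u' := by rw [← mul_assoc, hs2, one_mul]
  have key := hc (ηr * t') (ηs * u')
  have hw : ∀ q ∈ D.commWord F r s (ηr * t') (ηs * u'), q.1 < D.nroots := by
    intro q hq
    unfold ChevalleyDatum.commWord at hq
    rw [List.mem_map] at hq
    obtain ⟨c, hc', rfl⟩ := hq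
    rw [List.all_eq_true] at h3b
    exact of_decide_eq_true (h3b c hc')
  -- conjugate by `n_p`
  have e1 : D.nMat F (D.simple i) 1 * (D.x F s (ηs * u') * D.x F r (ηr * t')) =
      D.x F ((tabOf D).refl (D.simple i) s) u' * D.x F ((tabOf D).refl (D.simple i) r) t' *
        D.nMat F (D.simple i) 1 := by
    rw [← mul_assoc, nMat_mul_x hG hi hs, mul_assoc, nMat_mul_x hG hi hr, ← mul_assoc]
    simp only [← hηr, ← hηs]
    rw [ht, hu]
  have e2 : D.nMat F (D.simple i) 1 * (D.x F r (ηr * t') * D.x F s (ηs * u') *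
        D.wordMat F (D.commWord F r s (ηr * t') (ηs * u'))) =
      D.x F ((tabOf D).refl (D.simple i) r) t' * D.x F ((tabOf D).refl (D.simple i) s) u' *
        D.wordMat F ((D.commWord F r s (ηr * t') (ηs * u')).map fun q =>
          ((tabOf D).refl (D.simple i) q.1, (((tabOf D).eta (D.simple i) q.1 : ℤ) : F) * q.2)) *
        D.nMat F (D.simple i) 1 := by
    rw [mul_assoc, mul_assoc, ← mul_assoc (D.nMat F (D.simple i) 1), nMat_mul_x hG hi hr, mul_assoc,
      ← mul_assoc (D.nMat F (D.simple i) 1), nMat_mul_x hG hi hs, mul_assoc,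
      nMat_mul_wordMat hG hi _ hw]
    simp only [← hηr, ← hηs]
    rw [ht, hu]
    simp only [mul_assoc]
  have e3 : (D.commWord F r s (ηr * t') (ηs * u')).map (fun q =>
      ((tabOf D).refl (D.simple i) q.1, (((tabOf D).eta (D.simple i) q.1 : ℤ) : F) * q.2)) =
      D.commWord F ((tabOf D).refl (D.simple i) r) ((tabOf D).refl (D.simple i) s) t' u' := by
    unfold ChevalleyDatum.commWord
    rw [← commTerms_eq, ← commTerms_eq, h3a, List.map_map, List.map_map]
    apply List.map_congr_left
    intro c _
    simp only [Function.comp_apply]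
    congr 1
    push_cast
    simp only [← hηr, ← hηs]
    ring
  have hn := nGL_coe (F := F) hG1 hp
  have hinv : D.nMat F (D.simple i) 1 * (((nGL hG1 hp)⁻¹ : GL D.Idx F) : Matrix D.Idx D.Idx F) = 1 := by
    rw [← hn, ← Units.val_mul, mul_inv_cancel, Units.val_one]
  have h5 : D.nMat F (D.simple i) 1 * (D.x F s (ηs * u') * D.x F r (ηr * t')) =
      D.nMat F (D.simple i) 1 * (D.x F r (ηr * t') * D.x F s (ηs * u') *
        D.wordMat F (D.commWord F r s (ηr * t') (ηs * u'))) := by rw [key]
  rw [e1, e2, e3] at h5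
  have h4 : D.x F ((tabOf D).refl (D.simple i) s) u' * D.x F ((tabOf D).refl (D.simple i) r) t' *
      D.nMat F (D.simple i) 1 * (((nGL hG1 hp)⁻¹ : GL D.Idx F) : Matrix D.Idx D.Idx F) =
      D.x F ((tabOf D).refl (D.simple i) r) t' * D.x F ((tabOf D).refl (D.simple i) s) u' *
        D.wordMat F (D.commWord F ((tabOf D).refl (D.simple i) r)
          ((tabOf D).refl (D.simple i) s) t' u') *
      D.nMat F (D.simple i) 1 * (((nGL hG1 hp)⁻¹ : GL D.Idx F) : Matrix D.Idx D.Idx F) := by
    rw [h5]
  rw [mul_assoc, hinv, mul_one, mul_assoc, hinv, mul_one] at h4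
  exact h4

end transport

end Cfsg.Agent.Helper7.Chev
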