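import Mathlib
import Cfsg.Agent.Helper7.ChevComm2

set_option autoImplicit false
set_option linter.unusedSectionVars false
set_option linter.unusedVariables false

/-!
The commutator formula for all pairs of roots, by reduction along the Weyl group to pairs `(r₀, s)` with
`r₀` dominant and `s` dominant for the stabiliser of `r₀`.
-/

namespace Cfsg.Agent.Helper7.Chev

open Cfsg Cfsg.Lie Matrix

namespace Tab

variable (T : Tab)

/-- `r` is dominant. -/
def dom (r : ℕ) : Bool := (List.range T.l).all (fun i => decide (0 ≤ T.cartan i r))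

/-- A fundamental reflection raising `r`. -/
def up (r : ℕ) : Option ℕ := (List.range T.l).find? (fun i => decide (T.cartan i r < 0))

/-- Raise `r` as far as possible. -/
def top : ℕ → ℕ → ℕ
  | 0, r => r
  | fuel + 1, r =>
    match T.up r with
    | none => r
    | some i => top fuel (T.refl (T.simple i) r)

/-- A fundamental reflection fixing `r₀` and raising `s`. -/
def up2 (r₀ s : ℕ) : Option ℕ :=
  (List.range T.l).find? (fun i => decide (T.cartan i r₀ = 0 ∧ T.cartan i s < 0))

/-- Raise `s` as far as possible within the stabiliser of `r₀`. -/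
def top2 (r₀ : ℕ) : ℕ → ℕ → ℕ
  | 0, s => s
  | fuel + 1, s =>
    match T.up2 r₀ s with
    | none => s
    | some i => top2 r₀ fuel (T.refl (T.simple i) s)

/-- `s` is dominant for the stabiliser of `r₀`. -/
def ldom (r₀ s : ℕ) : Bool :=
  (List.range T.l).all (fun i => decide (T.cartan i r₀ = 0 → 0 ≤ T.cartan i s))

/-- The checks for the dominant root `r₀`. -/
def T4at (K r₀ : ℕ) : Prop :=
  AllLt T.n (fun s => T.ldom r₀ (T.top2 r₀ K s) = true ∧
    (s ≠ r₀ → s ≠ T.neg r₀ → T.ldom r₀ s = true → T.ColsOK r₀ s))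

instance (K r₀ : ℕ) : Decidable (T.T4at K r₀) := by unfold T4at; infer_instance

/-- Level-4 table facts: every root can be raised to a dominant root in `K` steps, every root can be raised
to a root dominant for the stabiliser of a dominant root `r₀` in `K` steps, and the commutator formula
holds for the pairs `(r₀, s)` with `s` dominant for that stabiliser. -/
def T4 (K : ℕ) : Prop :=
  AllLt T.n (fun r => T.dom (T.top K r) = true) ∧
  AllLt T.n (fun r₀ => T.dom r₀ = true → T.T4at K r₀)

instance (K : ℕ) : Decidable (T.T4 K) := by unfold T4; infer_instance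

end Tab

variable {D : ChevalleyDatum} {F : Type*} [Field F]

section reduce

variable (hG : Good2 D) (h3 : (tabOf D).T3)

/-- The commutator formula for `r` and all `s ≠ ±r`. -/
def CommAll (D : ChevalleyDatum) (F : Type*) [Field F] (r : ℕ) : Prop :=
  ∀ s < D.nroots, s ≠ r → s ≠ D.neg r → Comm D F r s

include hG h3 in
theorem commAll_step {i : ℕ} (hi : i < D.rank) {r : ℕ} (hr : r < D.nroots)
    (h : CommAll D F ((tabOf D).refl (D.simple i) r)) : CommAll D F r := by
  intro s hs hsr hsn
  have hr' := hG.refl_lt hi hr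
  have hs' := hG.refl_lt hi hs
  have h1 : (tabOf D).refl (D.simple i) s ≠ (tabOf D).refl (D.simple i) r := by
    intro h'
    apply hsr
    rw [← hG.refl_refl hi hs, h', hG.refl_refl hi hr]
  have h2 : (tabOf D).refl (D.simple i) s ≠ D.neg ((tabOf D).refl (D.simple i) r) := by
    intro h'
    apply hsn
    rw [← hG.refl_neg hi hr] at h'
    rw [← hG.refl_refl hi hs, h', hG.refl_refl hi (hG.toGood1.neg_lt hr)]
  have hc := h _ hs' h1 h2
  have h3' : (tabOf D).T3row i ((tabOf D).refl (D.simple i) r) ((tabOf D).refl (D.simple i) s) :=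
    h3 i hi _ hr' _ hs' h1 h2
  have := comm_refl hG hi hr' hs' h3' hc
  rwa [hG.refl_refl hi hr, hG.refl_refl hi hs] at this

theorem up_lt {T : Tab} {r i : ℕ} (h : T.up r = some i) : i < T.l := by
  unfold Tab.up at h
  exact List.mem_range.mp (List.mem_of_find?_eq_some h)

theorem up2_spec {T : Tab} {r₀ s i : ℕ} (h : T.up2 r₀ s = some i) :
    i < T.l ∧ T.cartan i r₀ = 0 := by
  unfold Tab.up2 at h
  refine ⟨List.mem_range.mp (List.mem_of_find?_eq_some h), ?_⟩
  have := List.find?_some h
  simp only [decide_eq_true_eq] at this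
  exact this.1

include hG h3 in
theorem commAll_top (fuel : ℕ) : ∀ {r : ℕ}, r < D.nroots →
    CommAll D F ((tabOf D).top fuel r) → CommAll D F r := by
  induction fuel with
  | zero => intro r _ h; exact h
  | succ fuel ih =>
    intro r hr h
    unfold Tab.top at h
    cases hu : (tabOf D).up r with
    | none => rw [hu] at h; exact h
    | some i =>
      rw [hu] at h
      have hi : i < D.rank := up_lt hu
      exact commAll_step hG h3 hi hr (ih (hG.refl_lt hi hr) h)

include hG in
/-- A fundamental reflection orthogonal to `r₀` fixes `r₀`. -/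
theorem refl_of_cartan_zero {i : ℕ} (hi : i < D.rank) {r₀ : ℕ} (hr : r₀ < D.nroots)
    (h0 : D.cartan i r₀ = 0) : (tabOf D).refl (D.simple i) r₀ = r₀ := by
  have hG1 := hG.toGood1
  have hp := hG1.simple_lt hi
  rw [← hG.reflectRoot_eq hi hr]
  unfold ChevalleyDatum.reflectRoot
  simp only
  have hc := hG.cartan_simple_self hi
  have h1 : r₀ ≠ D.simple i := by
    intro h; rw [h, hc] at h0; omega
  have h2 : r₀ ≠ D.neg (D.simple i) := by
    intro h; rw [h, hG1.cartan_neg hp hi, hc] at h0; omega
  rw [if_neg h1, if_neg h2, h0]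
  simp

include hG h3 in
theorem comm_top2 {r₀ : ℕ} (hr : r₀ < D.nroots) (fuel : ℕ) : ∀ {s : ℕ}, s < D.nroots → s ≠ r₀ →
    s ≠ D.neg r₀ →
    (tabOf D).top2 r₀ fuel s < D.nroots ∧ (tabOf D).top2 r₀ fuel s ≠ r₀ ∧
      (tabOf D).top2 r₀ fuel s ≠ D.neg r₀ ∧
      (Comm D F r₀ ((tabOf D).top2 r₀ fuel s) → Comm D F r₀ s) := by
  induction fuel with
  | zero => intro s hs h1 h2; exact ⟨hs, h1, h2, fun h => h⟩
  | succ fuel ih =>
    intro s hs h1 h2
    unfold Tab.top2
    cases hu : (tabOf D).up2 r₀ s with
    | none => exact ⟨hs, h1, h2, fun h => h⟩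
    | some i =>
      obtain ⟨hi, h0⟩ := up2_spec hu
      have hi' : i < D.rank := hi
      have hfix := refl_of_cartan_zero hG hi' hr h0
      have hs' := hG.refl_lt hi' hs
      have k1 : (tabOf D).refl (D.simple i) s ≠ r₀ := by
        intro h'
        apply h1
        rw [← hG.refl_refl hi' hs, h', hfix]
      have k2 : (tabOf D).refl (D.simple i) s ≠ D.neg r₀ := by
        intro h'
        apply h2
        rw [← hG.refl_refl hi' hs, h', hG.refl_neg hi' hr, hfix]
      obtain ⟨m1, m2, m3, m4⟩ := ih hs' k1 k2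
      refine ⟨m1, m2, m3, fun h => ?_⟩
      have hc := m4 h
      have h3' : (tabOf D).T3row i r₀ ((tabOf D).refl (D.simple i) s) :=
        h3 i hi' _ hr _ hs' k1 k2
      have := comm_refl hG hi' hr hs' h3' hc
      rwa [hfix, hG.refl_refl hi' hs] at this

include hG h3 in
/-- The commutator formula for all pairs of roots. -/
theorem comm_all {K : ℕ} (h4 : (tabOf D).T4 K) {r s : ℕ} (hr : r < D.nroots) (hs : s < D.nroots)
    (hsr : s ≠ r) (hsn : s ≠ D.neg r) : Comm D F r s := by
  obtain ⟨hA, hB⟩ := h4
  have hG1 := hG.toGood1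
  -- reduce to a dominant root
  have hr₀ : ∀ fuel : ℕ, ∀ {r : ℕ}, r < D.nroots → (tabOf D).top fuel r < D.nroots := by
    intro fuel
    induction fuel with
    | zero => intro r hr; exact hr
    | succ fuel ih =>
      intro r hr
      unfold Tab.top
      cases hu : (tabOf D).up r with
      | none => exact hr
      | some i => exact ih (hG.refl_lt (up_lt hu) hr)
  apply commAll_top hG h3 K hr _ s hs hsr hsn
  set r₀ := (tabOf D).top K r with hr₀def
  have hr₀lt : r₀ < D.nroots := hr₀ K hr
  have hdom : (tabOf D).dom r₀ = true := hA r hr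
  have hat := hB r₀ hr₀lt hdom
  intro s' hs' h1 h2
  obtain ⟨m1, m2, m3, m4⟩ := comm_top2 (F := F) hG h3 hr₀lt K hs' h1 h2
  apply m4
  obtain ⟨c1, c2⟩ := hat _ m1
  have hld : (tabOf D).ldom r₀ ((tabOf D).top2 r₀ K s') = true := (hat s' hs').1
  exact comm_of_colsOK hG1 hr₀lt m1 (c2 m2 m3 hld)

end reduce

end Cfsg.Agent.Helper7.Chev
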