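import Mathlib
import Cfsg.Agent.Helper7.ChevBorel

set_option autoImplicit false
set_option linter.unusedSectionVars false
set_option linter.unusedVariables false

/-!
The monomial subgroup `N`: `H` is normal in `N`; `B` and `N` generate the Chevalley group.
-/

namespace Cfsg.Agent.Helper7.Chev

open Cfsg Cfsg.Lie Matrix Cfsg.Agent.Helper7.Tri

variable {D : ChevalleyDatum} {F : Type*} [Field F]

section rank1rel

variable (hG : Good1 D) {r : ℕ} (hr : r < D.nroots)

include hG hr in
/-- `n_r(c) = h_r(c) n_r`. -/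
theorem nMat_eq_hMat_mul {c : F} (hc : c ≠ 0) :
    D.nMat F r c = D.hMat F r c * D.nMat F r 1 := by
  rw [nMat_eq hG hr hc, hMat_eq hG hr hc, nMat_one_eq hG hr,
    ← phiMat_mul hG hr _ _ (by simp [hc]) (by simp)]
  congr 1
  ext i j
  fin_cases i <;> fin_cases j <;> simp [Matrix.mul_apply, Fin.sum_univ_two]

include hG hr in
/-- `h_r(c) n_r = n_r h_r(c⁻¹)`. -/
theorem hMat_mul_nMat_self {c : F} (hc : c ≠ 0) :
    D.hMat F r c * D.nMat F r 1 = D.nMat F r 1 * D.hMat F r c⁻¹ := by
  rw [hMat_eq hG hr hc, hMat_eq hG hr (inv_ne_zero hc), nMat_one_eq hG hr,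
    ← phiMat_mul hG hr _ _ (by simp [hc]) (by simp),
    ← phiMat_mul hG hr _ _ (by simp) (by simp [hc])]
  congr 1
  ext i j
  fin_cases i <;> fin_cases j <;> simp [Matrix.mul_apply, Fin.sum_univ_two]

include hG hr in
/-- `n_r x_r(t) = x_{-r}(-t) n_r`. -/
theorem nMat_mul_x_self (t : F) :
    D.nMat F r 1 * D.x F r t = D.x F (D.neg r) (-t) * D.nMat F r 1 := by
  rw [nMat_one_eq hG hr, ← phiMat_upper hG hr, ← phiMat_lower hG hr,
    ← phiMat_mul hG hr _ _ (by simp) (by simp), ← phiMat_mul hG hr _ _ (by simp) (by simp)]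
  congr 1
  ext i j
  fin_cases i <;> fin_cases j <;> simp [Matrix.mul_apply, Fin.sum_univ_two]

end rank1rel

section hn

variable (hG : Good2 D) {r : ℕ} (hr : r < D.nroots)

include hG hr in
/-- `h_s(t) n_r = h_r(t^{⟨s,r⟩}) n_r h_s(t)`. -/
theorem hMat_mul_nMat {s : ℕ} (hs : s < D.nroots) {t : F} (ht : t ≠ 0) :
    D.hMat F s t * D.nMat F r 1 =
      D.hMat F r (t ^ (tabOf D).pairing s r) * D.nMat F r 1 * D.hMat F s t := by
  have hG1 := hG.toGood1
  have hc : t ^ (tabOf D).pairing s r ≠ 0 := zpow_ne_zero _ ht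
  rw [← nMat_eq_hMat_mul hG1 hr hc]
  unfold ChevalleyDatum.nMat ChevalleyDatum.nWord
  rw [wordMat_cons, wordMat_cons, wordMat_cons, wordMat_nil, mul_one,
    wordMat_cons, wordMat_cons, wordMat_cons, wordMat_nil, mul_one]
  simp only
  have h1 := hMat_mul_x hG hs ht hr (1 : F)
  have h2 := hMat_mul_x hG hs ht (hG1.neg_lt hr) (-(1 : F)⁻¹)
  rw [pairing_neg_right hG1 s hr] at h2
  have e2 : t ^ (-(tabOf D).pairing s r) * -(1 : F)⁻¹ = -(t ^ (tabOf D).pairing s r)⁻¹ := by
    rw [_root_.zpow_neg]; simp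
  rw [e2] at h2
  rw [mul_one] at h1
  rw [← mul_assoc, h1, mul_assoc, ← mul_assoc (D.hMat F s t), h2, mul_assoc, mul_assoc, h1]
  simp only [mul_assoc]

end hn

section normal

variable (hG : Good2 D)

include hG in
theorem nMat_mem_normalizer {g : GL D.Idx F} {r : ℕ} (hr : r < D.nroots)
    (hg : (g : Matrix D.Idx D.Idx F) = D.nMat F r 1) :
    g ∈ Subgroup.normalizer (D.diagonalSubgroup F : Set (GL D.Idx F)) := by
  have hG1 := hG.toGood1
  unfold ChevalleyDatum.diagonalSubgroup
  apply mem_normalizer_closure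
  · rintro x ⟨s, t, hs, ht, hx⟩
    have hc : t ^ (tabOf D).pairing s r ≠ 0 := zpow_ne_zero _ ht
    have : g * x * g⁻¹ = (hGL hG1 hr _ hc)⁻¹ * x := by
      rw [mul_inv_eq_iff_eq_mul, mul_assoc, eq_inv_mul_iff_mul_eq]
      apply Units.ext
      rw [Units.val_mul, Units.val_mul, Units.val_mul, hg, hx, hGL_coe,
        hMat_mul_nMat hG hr hs ht, mul_assoc]
    rw [this]
    apply mul_mem
    · apply inv_mem
      exact Subgroup.subset_closure ⟨r, _, hr, hc, hGL_coe hG1 hr _ hc⟩
    · exact Subgroup.subset_closure ⟨s, t, hs, ht, hx⟩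
  · rintro x ⟨s, t, hs, ht, hx⟩
    have hc : t ^ (tabOf D).pairing s r ≠ 0 := zpow_ne_zero _ ht
    have : g⁻¹ * x * g = hGL hG1 hr _ (inv_ne_zero hc) * x := by
      rw [mul_assoc, inv_mul_eq_iff_eq_mul]
      apply Units.ext
      rw [Units.val_mul, Units.val_mul, Units.val_mul, hg, hx, hGL_coe,
        hMat_mul_nMat hG hr hs ht, hMat_mul_nMat_self hG1 hr hc, mul_assoc]
    rw [this]
    apply mul_mem
    · exact Subgroup.subset_closure ⟨r, _, hr, inv_ne_zero hc, hGL_coe hG1 hr _ _⟩
    · exact Subgroup.subset_closure ⟨s, t, hs, ht, hx⟩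

include hG in
/-- `H` is normal in `N`. -/
theorem diagonalSubgroup_normal :
    ((D.diagonalSubgroup F).subgroupOf (D.monomialSubgroup F)).Normal := by
  have hle : D.diagonalSubgroup F ≤ D.monomialSubgroup F := le_sup_left
  rw [Subgroup.normal_subgroupOf_iff_le_normalizer hle]
  unfold ChevalleyDatum.monomialSubgroup
  apply sup_le
  · exact Subgroup.le_normalizer
  · rw [Subgroup.closure_le]
    rintro g ⟨r, hr, hg⟩
    exact nMat_mem_normalizer hG hr hg

end normal

/-! ### `B` and `N` generate the group -/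

section gen

variable (hG : Good1 D)

/-- `x_r(t)` as an invertible matrix, for any index `r` (the identity if out of range). -/
noncomputable def xGL' (p : ℕ × F) : GL D.Idx F :=
  if h : p.1 < D.nroots then xGL hG h p.2 else 1

theorem xGL'_coe (p : ℕ × F) :
    ((xGL' hG p : GL D.Idx F) : Matrix D.Idx D.Idx F) = D.x F p.1 p.2 := by
  unfold xGL'
  split_ifs with h
  · exact xGL_coe hG h p.2
  · simp [ChevalleyDatum.x, h]

theorem xGL'_mem_group (p : ℕ × F) : xGL' hG p ∈ D.group F := by
  unfold xGL'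
  split_ifs with h
  · apply Subgroup.subset_closure
    exact ⟨⟨p.1, h⟩, p.2, by rw [xGL_coe, x_of_lt D F h]⟩
  · exact one_mem _

theorem wordGL_coe (w : List (ℕ × F)) :
    (((w.map (xGL' hG)).prod : GL D.Idx F) : Matrix D.Idx D.Idx F) = D.wordMat F w := by
  unfold ChevalleyDatum.wordMat
  induction w with
  | nil => simp
  | cons p w ih =>
    rw [List.map_cons, List.prod_cons, List.map_cons, List.prod_cons, Units.val_mul, xGL'_coe, ih]

include hG in
/-- An invertible matrix given by a word in root elements lies in the Chevalley group. -/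
theorem wordMat_mem_group {g : GL D.Idx F} (w : List (ℕ × F))
    (hg : (g : Matrix D.Idx D.Idx F) = D.wordMat F w) : g ∈ D.group F := by
  have : g = (w.map (xGL' hG)).prod := by
    apply Units.ext
    rw [hg, wordGL_coe]
  rw [this]
  apply Subgroup.list_prod_mem
  intro x hx
  rw [List.mem_map] at hx
  obtain ⟨p, _, rfl⟩ := hx
  exact xGL'_mem_group hG p

theorem posUnipotent_le_group : D.posUnipotent F ≤ D.group F := by
  unfold ChevalleyDatum.posUnipotent
  rw [Subgroup.closure_le]
  rintro g ⟨r, t, hr, hg⟩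
  apply Subgroup.subset_closure
  exact ⟨⟨r, hr.1⟩, t, by rw [hg, x_of_lt D F hr.1]⟩

include hG in
theorem diagonalSubgroup_le_group : D.diagonalSubgroup F ≤ D.group F := by
  unfold ChevalleyDatum.diagonalSubgroup
  rw [Subgroup.closure_le]
  rintro g ⟨r, t, hr, ht, hg⟩
  exact wordMat_mem_group hG _ hg

include hG in
theorem borelSubgroup_le_group : D.borelSubgroup F ≤ D.group F :=
  sup_le posUnipotent_le_group (diagonalSubgroup_le_group hG)

include hG in
theorem monomialSubgroup_le_group : D.monomialSubgroup F ≤ D.group F := by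
  unfold ChevalleyDatum.monomialSubgroup
  apply sup_le (diagonalSubgroup_le_group hG)
  rw [Subgroup.closure_le]
  rintro g ⟨r, hr, hg⟩
  exact wordMat_mem_group hG _ hg

include hG in
/-- `B ⊔ N` is the whole Chevalley group. -/
theorem borel_sup_monomial (hT : T0 D) :
    D.borelSubgroup F ⊔ D.monomialSubgroup F = D.group F := by
  apply le_antisymm (sup_le (borelSubgroup_le_group hG) (monomialSubgroup_le_group hG))
  unfold ChevalleyDatum.group
  rw [Subgroup.closure_le]
  rintro g ⟨r, t, hg⟩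
  have hUB : D.posUnipotent F ≤ D.borelSubgroup F ⊔ D.monomialSubgroup F :=
    le_trans le_sup_left le_sup_left
  obtain ⟨h1, h2, h3, h4, h5⟩ := hT r.val r.2
  rcases h4 with hpos | hneg
  · apply hUB
    apply Subgroup.subset_closure
    exact ⟨r.val, t, hpos, by rw [hg, x_of_lt D F r.2]⟩
  · -- `r` is negative, `s = -r` is positive
    have hs := h1.1
    have hspos : D.IsPosRoot (D.neg r.val) := by
      obtain ⟨k1, k2, k3, k4, k5⟩ := hT (D.neg r.val) hs
      rcases k4 with hp | hn
      · exact hp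
      · have := (k3 hn).1
        have := (h3 hneg).2
        omega
    have hnn : D.neg (D.neg r.val) = r.val := hG.neg_neg r.2
    have e : g = nGL hG hs * xGL hG hs (-t) * (nGL hG hs)⁻¹ := by
      rw [eq_mul_inv_iff_mul_eq]
      apply Units.ext
      rw [Units.val_mul, Units.val_mul, hg, nGL_coe, xGL_coe, nMat_mul_x_self hG hs, hnn, neg_neg,
        x_of_lt D F r.2]
    rw [e]
    have hn : nGL hG hs ∈ D.borelSubgroup F ⊔ D.monomialSubgroup F := by
      apply (le_sup_right : D.monomialSubgroup F ≤ _)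
      unfold ChevalleyDatum.monomialSubgroup
      apply (le_sup_right : Subgroup.closure _ ≤ _)
      apply Subgroup.subset_closure
      exact ⟨D.neg r.val, hs, nGL_coe hG hs⟩
    have hx : xGL hG hs (-t) ∈ D.borelSubgroup F ⊔ D.monomialSubgroup F := by
      apply hUB
      apply Subgroup.subset_closure
      exact ⟨D.neg r.val, -t, hspos, xGL_coe hG hs _⟩
    exact mul_mem (mul_mem hn hx) (inv_mem hn)

end gen

end Cfsg.Agent.Helper7.Chev
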