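import Mathlib
import Cfsg.Agent.Helper7.ChevMono

set_option autoImplicit false
set_option linter.unusedSectionVars false
set_option linter.unusedVariables false

/-!
A representative in `N` of the longest element of the Weyl group conjugates `U` onto `V`.
-/

namespace Cfsg.Agent.Helper7.Chev

open Cfsg Cfsg.Lie Matrix Cfsg.Agent.Helper7.Tri

namespace Tab

variable (T : Tab)

/-- The composite of the fundamental reflections along a word. -/
def reflWord (w : List ℕ) (s : ℕ) : ℕ := w.foldr (fun i s => T.refl (T.simple i) s) s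

/-- The word `w` maps the upper half of the roots into the lower half, and the reversed word maps the
lower half into the upper half. -/
def W0ok (w : List ℕ) : Prop :=
  (∀ i ∈ w, i < T.l) ∧
  AllLt T.n (fun s => T.n / 2 ≤ s → T.reflWord w s < T.n / 2) ∧
  AllLt T.n (fun s => s < T.n / 2 → T.n / 2 ≤ T.reflWord w.reverse s)

instance (w : List ℕ) : Decidable (T.W0ok w) := by unfold W0ok; infer_instance

end Tab

variable {D : ChevalleyDatum} {F : Type*} [Field F]

section word

variable (hG : Good2 D)

include hG in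
theorem reflWord_lt {w : List ℕ} (hw : ∀ i ∈ w, i < D.rank) {s : ℕ} (hs : s < D.nroots) :
    (tabOf D).reflWord w s < D.nroots := by
  induction w with
  | nil => exact hs
  | cons i w ih =>
    have hi : i < D.rank := hw i (List.mem_cons_self)
    have := ih (fun j hj => hw j (List.mem_cons_of_mem _ hj))
    exact hG.refl_lt hi this

include hG in
theorem reflWord_reverse {w : List ℕ} (hw : ∀ i ∈ w, i < D.rank) {s : ℕ} (hs : s < D.nroots) :
    (tabOf D).reflWord w.reverse ((tabOf D).reflWord w s) = s := by
  induction w with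
  | nil => rfl
  | cons i w ih =>
    have hi : i < D.rank := hw i (List.mem_cons_self)
    have hw' : ∀ j ∈ w, j < D.rank := fun j hj => hw j (List.mem_cons_of_mem _ hj)
    have hlt := reflWord_lt hG hw' hs
    unfold Tab.reflWord at ih hlt ⊢
    rw [List.reverse_cons, List.foldr_append, List.foldr_cons, List.foldr_cons, List.foldr_nil]
    have : (tabOf D).simple i = D.simple i := rfl
    rw [this, hG.refl_refl hi hlt]
    exact ih hw'

/-- The product of the `n_p` along a word, as a matrix. -/
noncomputable def nWordMat (D : ChevalleyDatum) (F : Type*) [Field F] (w : List ℕ) :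
    Matrix D.Idx D.Idx F := (w.map (fun i => D.nMat F (D.simple i) 1)).prod

include hG in
/-- Conjugation of root elements by the product of the `n_p` along a word. -/
theorem nWordMat_mul_x {w : List ℕ} (hw : ∀ i ∈ w, i < D.rank) {s : ℕ} (hs : s < D.nroots) :
    ∃ ε : F, ε * ε = 1 ∧ ∀ t : F,
      nWordMat D F w * D.x F s t = D.x F ((tabOf D).reflWord w s) (ε * t) * nWordMat D F w := by
  induction w with
  | nil =>
    refine ⟨1, by simp, fun t => ?_⟩
    simp [nWordMat, Tab.reflWord]
  | cons i w ih =>
    have hi : i < D.rank := hw i (List.mem_cons_self)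
    have hw' : ∀ j ∈ w, j < D.rank := fun j hj => hw j (List.mem_cons_of_mem _ hj)
    obtain ⟨ε, hε, h⟩ := ih hw'
    have hlt := reflWord_lt hG hw' hs
    have hη := eta_sq hG.toGood1 (hG.toGood1.simple_lt hi) hlt
    refine ⟨(((tabOf D).eta (D.simple i) ((tabOf D).reflWord w s) : ℤ) : F) * ε, ?_, fun t => ?_⟩
    · have : ((((tabOf D).eta (D.simple i) ((tabOf D).reflWord w s) : ℤ) : F)) *
          ((((tabOf D).eta (D.simple i) ((tabOf D).reflWord w s) : ℤ) : F)) = 1 := by
        rw [← Int.cast_mul, hη, Int.cast_one]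
      linear_combination ε * ε * this + hε
    · have e1 : nWordMat D F (i :: w) = D.nMat F (D.simple i) 1 * nWordMat D F w := by
        simp [nWordMat]
      have e2 : (tabOf D).reflWord (i :: w) s =
          (tabOf D).refl (D.simple i) ((tabOf D).reflWord w s) := rfl
      rw [e1, e2, mul_assoc, h t, ← mul_assoc, nMat_mul_x hG hi hlt, mul_assoc, mul_assoc]

end word

section conj

variable (hG : Good2 D) (hT : T0 D)

theorem isPosRoot_iff (hT : T0 D) {r : ℕ} (hr : r < D.nroots) :
    D.IsPosRoot r ↔ D.nroots / 2 ≤ r := by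
  obtain ⟨h1, h2, h3, h4, h5⟩ := hT r hr
  constructor
  · intro h; exact (h2 h).1
  · intro h
    rcases h4 with hp | hn
    · exact hp
    · have := (h3 hn).1; omega

theorem isNegRoot_iff (hT : T0 D) {r : ℕ} (hr : r < D.nroots) :
    D.IsNegRoot r ↔ r < D.nroots / 2 := by
  obtain ⟨h1, h2, h3, h4, h5⟩ := hT r hr
  constructor
  · intro h; exact (h3 h).1
  · intro h
    rcases h4 with hp | hn
    · have := (h2 hp).1; omega
    · exact hn

/-- The product of the `n_p` along a word, as an invertible matrix. -/
noncomputable def nWordGL (hG : Good2 D) (w : List ℕ) : GL D.Idx F :=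
  (w.map (fun i => if hi : i < D.rank then
    nGL hG.toGood1 (hG.toGood1.simple_lt hi) else 1)).prod

theorem nWordGL_coe {w : List ℕ} (hw : ∀ i ∈ w, i < D.rank) :
    ((nWordGL hG w : GL D.Idx F) : Matrix D.Idx D.Idx F) = nWordMat D F w := by
  unfold nWordGL nWordMat
  induction w with
  | nil => simp
  | cons i w ih =>
    have hi : i < D.rank := hw i (List.mem_cons_self)
    have hw' : ∀ j ∈ w, j < D.rank := fun j hj => hw j (List.mem_cons_of_mem _ hj)
    rw [List.map_cons, List.prod_cons, List.map_cons, List.prod_cons, Units.val_mul, ih hw',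
      dif_pos hi, nGL_coe]

theorem nWordGL_mem (w : List ℕ) : nWordGL hG w ∈ D.monomialSubgroup F := by
  unfold nWordGL
  apply Subgroup.list_prod_mem
  intro x hx
  rw [List.mem_map] at hx
  obtain ⟨i, _, rfl⟩ := hx
  split_ifs with hi
  · unfold ChevalleyDatum.monomialSubgroup
    apply (le_sup_right : Subgroup.closure _ ≤ _)
    apply Subgroup.subset_closure
    exact ⟨D.simple i, hG.toGood1.simple_lt hi, nGL_coe _ _⟩
  · exact one_mem _

include hG hT in
/-- A word for the longest element gives an element of `N` conjugating `U` onto `V`. -/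
theorem exists_conj_pos_eq_neg {w : List ℕ} (hw : (tabOf D).W0ok w) :
    ∃ n ∈ D.monomialSubgroup F,
      (D.posUnipotent F).map (MulAut.conj n).toMonoidHom = D.negUnipotent F := by
  obtain ⟨hw1, hw2, hw3⟩ := hw
  have hw1' : ∀ i ∈ w, i < D.rank := hw1
  have hG1 := hG.toGood1
  refine ⟨nWordGL hG w, nWordGL_mem hG w, ?_⟩
  unfold ChevalleyDatum.posUnipotent ChevalleyDatum.negUnipotent
  rw [MonoidHom.map_closure]
  congr 1
  ext y
  constructor
  · rintro ⟨x, ⟨s, t, hs, hx⟩, rfl⟩
    have hslt := hs.1
    obtain ⟨ε, hε, h⟩ := nWordMat_mul_x (F := F) hG hw1' hslt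
    have hlt := reflWord_lt hG hw1' hslt
    refine ⟨(tabOf D).reflWord w s, ε * t, ?_, ?_⟩
    · rw [isNegRoot_iff hT hlt]
      exact hw2 s hslt ((isPosRoot_iff hT hslt).mp hs)
    · have : (MulAut.conj (nWordGL hG w)).toMonoidHom x = xGL hG1 hlt (ε * t) := by
        change nWordGL hG w * x * (nWordGL hG w)⁻¹ = _
        rw [mul_inv_eq_iff_eq_mul]
        apply Units.ext
        rw [Units.val_mul, Units.val_mul, nWordGL_coe hG hw1', hx, xGL_coe, h t]
      rw [this, xGL_coe]
  · rintro ⟨s', t', hs', hy⟩
    have hs'lt := hs'.1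
    have hrev : ∀ i ∈ w.reverse, i < D.rank := fun i hi => hw1' i (List.mem_reverse.mp hi)
    have hslt := reflWord_lt hG hrev hs'lt
    have hback : (tabOf D).reflWord w ((tabOf D).reflWord w.reverse s') = s' := by
      have := reflWord_reverse hG hrev hs'lt
      rwa [List.reverse_reverse] at this
    obtain ⟨ε, hε, h⟩ := nWordMat_mul_x (F := F) hG hw1' hslt
    refine ⟨xGL hG1 hslt (ε * t'), ⟨(tabOf D).reflWord w.reverse s', ε * t', ?_, xGL_coe _ _ _⟩, ?_⟩
    · rw [isPosRoot_iff hT hslt]
      exact hw3 s' hs'lt ((isNegRoot_iff hT hs'lt).mp hs')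
    · change nWordGL hG w * xGL hG1 hslt (ε * t') * (nWordGL hG w)⁻¹ = y
      rw [mul_inv_eq_iff_eq_mul]
      apply Units.ext
      rw [Units.val_mul, Units.val_mul, nWordGL_coe hG hw1', xGL_coe, h (ε * t'), hback, hy,
        ← mul_assoc, hε, one_mul]

end conj

end Cfsg.Agent.Helper7.Chev
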