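import Mathlib
import Cfsg.Agent.Helper7.ChevComm3
import Cfsg.Agent.Helper7.ChevW0

set_option autoImplicit false
set_option linter.unusedSectionVars false
set_option linter.unusedVariables false

/-!
For a fundamental root `p`, the subgroup `U_p` generated by the root subgroups of the positive roots other
than `p` is normalised by `X_p` and `X_{-p}`.
-/

namespace Cfsg.Agent.Helper7.Chev

open Cfsg Cfsg.Lie Matrix

namespace Tab

variable (T : Tab)

/-- All roots of the commutator terms of `(r, s)` are positive and different from `p`. -/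
def termsIn (p r s : ℕ) : Bool :=
  (T.commTerms r s).all (fun c => decide (T.n / 2 ≤ c.1 ∧ c.1 ≠ p ∧ c.1 < T.n))

/-- For a fundamental root `p` and a positive root `s ≠ p`, the roots `i p + j s` and `-i p + j s`
(`i, j > 0`) are positive and different from `p`. -/
def T5 : Prop :=
  AllLt T.l (fun i => T.n / 2 ≤ T.simple i ∧ AllLt T.n (fun s => T.n / 2 ≤ s → s ≠ T.simple i →
    T.termsIn (T.simple i) (T.simple i) s = true ∧
      T.termsIn (T.simple i) (T.neg (T.simple i)) s = true))

instance : Decidable T.T5 := by unfold T5; infer_instance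

end Tab

variable {D : ChevalleyDatum} {F : Type*} [Field F]

section xgl

variable (hG : Good1 D) {r : ℕ} (hr : r < D.nroots)

theorem upperSL_mul (t t' : F) : upperSL t * upperSL t' = upperSL (t + t') := by
  apply Subtype.ext
  rw [Matrix.SpecialLinearGroup.coe_mul]
  change !![1, t; 0, 1] * !![1, t'; 0, 1] = !![1, t + t'; 0, 1]
  ext i j
  fin_cases i <;> fin_cases j <;> simp [Matrix.mul_apply, Fin.sum_univ_two, add_comm]

theorem xGL_mul (t t' : F) : xGL hG hr t * xGL hG hr t' = xGL hG hr (t + t') := by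
  unfold xGL
  rw [← map_mul, upperSL_mul]

theorem xGL_zero : xGL hG hr (0 : F) = 1 := by
  have : upperSL (0 : F) = 1 := by
    apply Subtype.ext
    simp only [upperSL, Matrix.SpecialLinearGroup.coe_one]
    ext i j
    fin_cases i <;> fin_cases j <;> simp
  unfold xGL
  rw [this, map_one]

theorem xGL_inv (t : F) : (xGL hG hr t)⁻¹ = xGL hG hr (-t) := by
  rw [inv_eq_iff_mul_eq_one, xGL_mul, add_neg_cancel, xGL_zero]

/-- An invertible matrix with the entries of `x_r(t)` is `xGL`. -/
theorem eq_xGL {g : GL D.Idx F} {t : F} (hg : (g : Matrix D.Idx D.Idx F) = D.x F r t) :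
    g = xGL hG hr t := Units.ext (hg.trans (xGL_coe hG hr t).symm)

end xgl

/-- The generators of `U_p`. -/
def upGen (D : ChevalleyDatum) (F : Type*) [Field F] (p : ℕ) : Set (GL D.Idx F) :=
  {g | ∃ (s : ℕ) (t : F), D.IsPosRoot s ∧ s ≠ p ∧ (g : Matrix D.Idx D.Idx F) = D.x F s t}

section up

variable (hG : Good2 D) (hT : T0 D) (h3 : (tabOf D).T3) (h4 : (tabOf D).T4 60) (h5 : (tabOf D).T5)

include hG hT in
/-- A word all of whose roots are positive and different from `p` lies in `U_p`. -/
theorem wordGL_mem_up {p : ℕ} (w : List (ℕ × F))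
    (hw : ∀ q ∈ w, D.nroots / 2 ≤ q.1 ∧ q.1 ≠ p ∧ q.1 < D.nroots) :
    (w.map (xGL' hG.toGood1)).prod ∈ Subgroup.closure (upGen D F p) := by
  apply Subgroup.list_prod_mem
  intro x hx
  rw [List.mem_map] at hx
  obtain ⟨q, hq, rfl⟩ := hx
  obtain ⟨h1, h2, h3⟩ := hw q hq
  apply Subgroup.subset_closure
  exact ⟨q.1, q.2, (isPosRoot_iff hT h3).mpr h1, h2, xGL'_coe _ q⟩

include hG hT h3 h4 in
/-- Conjugating a generator of `U_p` by `x_r(t)⁻¹`, when the commutator terms stay in `U_p`. -/
theorem conj_mem_up {p r s : ℕ} (hr : r < D.nroots) (hs : s < D.nroots) (hsr : s ≠ r)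
    (hsn : s ≠ D.neg r) (hspos : D.IsPosRoot s) (hsp : s ≠ p)
    (hterms : (tabOf D).termsIn p r s = true) (t u : F) :
    (xGL hG.toGood1 hr t)⁻¹ * xGL hG.toGood1 hs u * xGL hG.toGood1 hr t ∈
      Subgroup.closure (upGen D F p) := by
  have hG1 := hG.toGood1
  have hc := comm_all (F := F) hG h3 h4 hr hs hsr hsn t u
  have hw : ∀ q ∈ D.commWord F r s t u, D.nroots / 2 ≤ q.1 ∧ q.1 ≠ p ∧ q.1 < D.nroots := by
    intro q hq
    unfold ChevalleyDatum.commWord at hq
    rw [List.mem_map] at hq
    obtain ⟨c, hc', rfl⟩ := hq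
    unfold Tab.termsIn at hterms
    rw [List.all_eq_true] at hterms
    rw [← commTerms_eq] at hc'
    exact of_decide_eq_true (hterms c hc')
  have e : (xGL hG1 hr t)⁻¹ * xGL hG1 hs u * xGL hG1 hr t =
      xGL hG1 hs u * ((D.commWord F r s t u).map (xGL' hG1)).prod := by
    rw [mul_assoc, inv_mul_eq_iff_eq_mul]
    apply Units.ext
    rw [Units.val_mul, Units.val_mul, Units.val_mul, xGL_coe, xGL_coe, wordGL_coe, hc, mul_assoc]
  rw [e]
  apply mul_mem
  · apply Subgroup.subset_closure
    exact ⟨s, u, hspos, hsp, xGL_coe hG1 hs u⟩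
  · exact wordGL_mem_up hG hT _ hw

include hG hT h3 h4 h5 in
/-- `X_p` and `X_{-p}` normalise `U_p`. -/
theorem rootSubgroup_le_normalizer_up {i : ℕ} (hi : i < D.rank) :
    D.rootSubgroup F (D.simple i) ⊔ D.rootSubgroup F (D.neg (D.simple i)) ≤
      Subgroup.normalizer (Subgroup.closure (upGen D F (D.simple i)) : Set (GL D.Idx F)) := by
  have hG1 := hG.toGood1
  have hp := hG1.simple_lt hi
  have hnp := hG1.neg_lt hp
  obtain ⟨hppos, h5'⟩ := h5 i hi
  have hppos' : D.nroots / 2 ≤ D.simple i := hppos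
  have hnpneg : D.neg (D.simple i) < D.nroots / 2 := by
    obtain ⟨_, k2, _⟩ := hT (D.simple i) hp
    exact (k2 ((isPosRoot_iff hT hp).mpr hppos')).2
  -- a root element `x_r(t)`, `r = ±p`, normalises `U_p`
  have key : ∀ (r : ℕ) (hr : r < D.nroots), (r = D.simple i ∨ r = D.neg (D.simple i)) →
      ∀ t : F, xGL hG1 hr t ∈
        Subgroup.normalizer (Subgroup.closure (upGen D F (D.simple i)) : Set (GL D.Idx F)) := by
    intro r hr hrp t
    have hcase : ∀ s : ℕ, D.IsPosRoot s → s ≠ D.simple i →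
        s ≠ r ∧ s ≠ D.neg r ∧ (tabOf D).termsIn (D.simple i) r s = true := by
      intro s hspos hsp
      have hs := hspos.1
      have hs2 := (isPosRoot_iff hT hs).mp hspos
      obtain ⟨t1, t2⟩ := h5' s hs hs2 hsp
      rcases hrp with rfl | rfl
      · refine ⟨hsp, ?_, t1⟩
        intro h; rw [h] at hs2; omega
      · refine ⟨?_, ?_, t2⟩
        · intro h; rw [h] at hs2; omega
        · rw [hG1.neg_neg hp]; exact hsp
    apply mem_normalizer_closure
    · rintro x ⟨s, u, hspos, hsp, hx⟩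
      obtain ⟨c1, c2, c3⟩ := hcase s hspos hsp
      have hs := hspos.1
      rw [eq_xGL hG1 hs hx]
      have := conj_mem_up hG hT h3 h4 hr hs c1 c2 hspos hsp c3 (-t) u
      rwa [← xGL_inv, inv_inv] at this
    · rintro x ⟨s, u, hspos, hsp, hx⟩
      obtain ⟨c1, c2, c3⟩ := hcase s hspos hsp
      have hs := hspos.1
      rw [eq_xGL hG1 hs hx]
      exact conj_mem_up hG hT h3 h4 hr hs c1 c2 hspos hsp c3 t u
  apply sup_le
  · unfold ChevalleyDatum.rootSubgroup
    rw [Subgroup.closure_le]
    rintro g ⟨t, hg⟩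
    rw [eq_xGL hG1 hp hg]
    exact key _ hp (Or.inl rfl) t
  · unfold ChevalleyDatum.rootSubgroup
    rw [Subgroup.closure_le]
    rintro g ⟨t, hg⟩
    rw [eq_xGL hG1 hnp hg]
    exact key _ hnp (Or.inr rfl) t

include hG hT h5 in
/-- `U = U_p ⊔ X_p`. -/
theorem up_sup_rootSubgroup {i : ℕ} (hi : i < D.rank) :
    Subgroup.closure (upGen D F (D.simple i)) ⊔ D.rootSubgroup F (D.simple i) =
      D.posUnipotent F := by
  have hG1 := hG.toGood1
  have hp := hG1.simple_lt hi
  obtain ⟨hppos, _⟩ := h5 i hi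
  have hppos' : D.IsPosRoot (D.simple i) := (isPosRoot_iff hT hp).mpr hppos
  apply le_antisymm
  · apply sup_le
    · rw [Subgroup.closure_le]
      rintro g ⟨s, t, hs, _, hg⟩
      exact Subgroup.subset_closure ⟨s, t, hs, hg⟩
    · unfold ChevalleyDatum.rootSubgroup
      rw [Subgroup.closure_le]
      rintro g ⟨t, hg⟩
      exact Subgroup.subset_closure ⟨D.simple i, t, hppos', hg⟩
  · unfold ChevalleyDatum.posUnipotent
    rw [Subgroup.closure_le]
    rintro g ⟨s, t, hs, hg⟩
    by_cases hsp : s = D.simple i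
    · apply (le_sup_right : D.rootSubgroup F (D.simple i) ≤ _)
      apply Subgroup.subset_closure
      exact ⟨t, by rw [hg, hsp]⟩
    · apply (le_sup_left : Subgroup.closure (upGen D F (D.simple i)) ≤ _)
      exact Subgroup.subset_closure ⟨s, t, hs, hsp, hg⟩

end up

end Cfsg.Agent.Helper7.Chev
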