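import Mathlib
import Cfsg.Agent.Helper7.ChevUp

set_option autoImplicit false
set_option linter.unusedSectionVars false
set_option linter.unusedVariables false

/-!
For a fundamental root `p`, the set `B ∪ B n_p B` is a subgroup.
-/

namespace Cfsg.Agent.Helper7.Chev

open Cfsg Cfsg.Lie Matrix DoubleCoset
open scoped Pointwise

section generic

variable {G : Type*} [Group G]

/-- `B ∪ B n B` is a subgroup as soon as `n B n ⊆ B ∪ B n B` and `n⁻¹ ∈ B n B`. -/
theorem exists_subgroup_union_doubleCoset (B : Subgroup G) (n : G)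
    (h1 : ∀ b ∈ B, n * b * n ∈ (B : Set G) ∪ doubleCoset n B B)
    (h2 : n⁻¹ ∈ doubleCoset n (B : Set G) B) :
    ∃ P : Subgroup G, (P : Set G) = (B : Set G) ∪ doubleCoset n B B := by
  refine ⟨{ carrier := (B : Set G) ∪ doubleCoset n B B
            mul_mem' := ?_
            one_mem' := Or.inl B.one_mem
            inv_mem' := ?_ }, rfl⟩
  · intro a b ha hb
    rcases ha with ha | ha
    · rcases hb with hb | hb
      · exact Or.inl (B.mul_mem ha hb)
      · obtain ⟨x, hx, y, hy, rfl⟩ := mem_doubleCoset.mp hb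
        refine Or.inr (mem_doubleCoset.mpr ⟨a * x, B.mul_mem ha hx, y, hy, ?_⟩)
        group
    · obtain ⟨x, hx, y, hy, rfl⟩ := mem_doubleCoset.mp ha
      rcases hb with hb | hb
      · refine Or.inr (mem_doubleCoset.mpr ⟨x, hx, y * b, B.mul_mem hy hb, ?_⟩)
        group
      · obtain ⟨x', hx', y', hy', rfl⟩ := mem_doubleCoset.mp hb
        have e : x * n * y * (x' * n * y') = x * (n * (y * x') * n) * y' := by group
        rw [e]
        rcases h1 (y * x') (B.mul_mem hy hx') with h | h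
        · exact Or.inl (B.mul_mem (B.mul_mem hx h) hy')
        · obtain ⟨x'', hx'', y'', hy'', e'⟩ := mem_doubleCoset.mp h
          rw [e']
          refine Or.inr (mem_doubleCoset.mpr ⟨x * x'', B.mul_mem hx hx'', y'' * y',
            B.mul_mem hy'' hy', ?_⟩)
          group
  · intro a ha
    rcases ha with ha | ha
    · exact Or.inl (B.inv_mem ha)
    · obtain ⟨x, hx, y, hy, rfl⟩ := mem_doubleCoset.mp ha
      obtain ⟨c1, hc1, c2, hc2, e⟩ := mem_doubleCoset.mp h2
      refine Or.inr (mem_doubleCoset.mpr ⟨y⁻¹ * c1, B.mul_mem (B.inv_mem hy) hc1, c2 * x⁻¹,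
        B.mul_mem hc2 (B.inv_mem hx), ?_⟩)
      rw [_root_.mul_inv_rev, _root_.mul_inv_rev, e]
      group

end generic

namespace Tab

variable (T : Tab)

/-- A fundamental reflection permutes the positive roots other than its root. -/
def T6 : Prop :=
  AllLt T.l (fun i => AllLt T.n (fun s => T.n / 2 ≤ s → s ≠ T.simple i →
    T.n / 2 ≤ T.refl (T.simple i) s ∧ T.refl (T.simple i) s ≠ T.simple i))

instance : Decidable T.T6 := by unfold T6; infer_instance

end Tab

variable {D : ChevalleyDatum} {F : Type*} [Field F]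

/-! ### Rank one -/

theorem lowerSL_eq {s : F} (hs : s ≠ 0) :
    lowerSL s = upperSL s⁻¹ * diagSL (-s⁻¹) (neg_ne_zero.mpr (inv_ne_zero hs)) * antiSL *
      upperSL s⁻¹ := by
  apply Subtype.ext
  rw [Matrix.SpecialLinearGroup.coe_mul, Matrix.SpecialLinearGroup.coe_mul,
    Matrix.SpecialLinearGroup.coe_mul]
  change !![1, 0; s, 1] = !![1, s⁻¹; 0, 1] * !![-s⁻¹, 0; 0, (-s⁻¹)⁻¹] * !![0, 1; -1, 0] *
    !![1, s⁻¹; 0, 1]
  ext i j
  fin_cases i <;> fin_cases j <;> simp [Matrix.mul_apply, Fin.sum_univ_two, hs]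

theorem antiSL_sq : (antiSL : Matrix.SpecialLinearGroup (Fin 2) F) * antiSL =
    diagSL (-1) (neg_ne_zero.mpr one_ne_zero) := by
  apply Subtype.ext
  rw [Matrix.SpecialLinearGroup.coe_mul]
  change !![0, 1; -1, 0] * !![0, 1; -1, 0] = !![-1, 0; 0, (-1 : F)⁻¹]
  ext i j
  fin_cases i <;> fin_cases j <;> simp [Matrix.mul_apply, Fin.sum_univ_two]

theorem antiSL_mul_upper (t : F) :
    (antiSL : Matrix.SpecialLinearGroup (Fin 2) F) * upperSL t = lowerSL (-t) * antiSL := by
  apply Subtype.ext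
  rw [Matrix.SpecialLinearGroup.coe_mul, Matrix.SpecialLinearGroup.coe_mul]
  change !![0, 1; -1, 0] * !![1, t; 0, 1] = !![1, 0; -t, 1] * !![0, 1; -1, 0]
  ext i j
  fin_cases i <;> fin_cases j <;> simp [Matrix.mul_apply, Fin.sum_univ_two]

section rootsub

variable (hG : Good1 D) {r : ℕ} (hr : r < D.nroots)

include hG hr in
/-- The elements of the root subgroup `X_r`. -/
theorem mem_rootSubgroup {g : GL D.Idx F} (hg : g ∈ D.rootSubgroup F r) :
    ∃ t : F, g = xGL hG hr t := by
  unfold ChevalleyDatum.rootSubgroup at hg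
  induction hg using Subgroup.closure_induction with
  | mem x hx =>
    obtain ⟨t, hx⟩ := hx
    exact ⟨t, eq_xGL hG hr hx⟩
  | one => exact ⟨0, (xGL_zero hG hr).symm⟩
  | mul x y _ _ hx hy =>
    obtain ⟨t1, rfl⟩ := hx
    obtain ⟨t2, rfl⟩ := hy
    exact ⟨t1 + t2, xGL_mul hG hr t1 t2⟩
  | inv x _ hx =>
    obtain ⟨t1, rfl⟩ := hx
    exact ⟨-t1, xGL_inv hG hr t1⟩

end rootsub

section para

variable (hG : Good2 D) (hT : T0 D) (h3 : (tabOf D).T3) (h4 : (tabOf D).T4 60) (h5 : (tabOf D).T5)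
  (h6 : (tabOf D).T6)

include hG hT h6 in
/-- `n_p` normalises `U_p`. -/
theorem nGL_mem_normalizer_up {i : ℕ} (hi : i < D.rank) :
    nGL hG.toGood1 (hG.toGood1.simple_lt hi) ∈
      Subgroup.normalizer (Subgroup.closure (upGen D F (D.simple i)) : Set (GL D.Idx F)) := by
  have hG1 := hG.toGood1
  have hp := hG1.simple_lt hi
  have hmove : ∀ s : ℕ, D.IsPosRoot s → s ≠ D.simple i →
      D.IsPosRoot ((tabOf D).refl (D.simple i) s) ∧ (tabOf D).refl (D.simple i) s ≠ D.simple i := by
    intro s hspos hsp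
    have hs := hspos.1
    obtain ⟨k1, k2⟩ := h6 i hi s hs ((isPosRoot_iff hT hs).mp hspos) hsp
    exact ⟨(isPosRoot_iff hT (hG.refl_lt hi hs)).mpr k1, k2⟩
  apply mem_normalizer_closure
  · rintro x ⟨s, u, hspos, hsp, hx⟩
    have hs := hspos.1
    obtain ⟨m1, m2⟩ := hmove s hspos hsp
    have hws := hG.refl_lt hi hs
    have : nGL hG1 hp * x * (nGL hG1 hp)⁻¹ =
        xGL hG1 hws ((((tabOf D).eta (D.simple i) s : ℤ) : F) * u) := by
      rw [mul_inv_eq_iff_eq_mul]
      apply Units.ext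
      rw [Units.val_mul, Units.val_mul, nGL_coe, hx, xGL_coe, nMat_mul_x hG hi hs]
    rw [this]
    exact Subgroup.subset_closure ⟨_, _, m1, m2, xGL_coe hG1 hws _⟩
  · rintro x ⟨s, u, hspos, hsp, hx⟩
    have hs := hspos.1
    obtain ⟨m1, m2⟩ := hmove s hspos hsp
    have hws := hG.refl_lt hi hs
    have hη := eta_sq hG1 hp hws
    have : (nGL hG1 hp)⁻¹ * x * nGL hG1 hp =
        xGL hG1 hws ((((tabOf D).eta (D.simple i) ((tabOf D).refl (D.simple i) s) : ℤ) : F) * u) := by
      rw [mul_assoc, inv_mul_eq_iff_eq_mul]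
      apply Units.ext
      rw [Units.val_mul, Units.val_mul, nGL_coe, hx, xGL_coe, nMat_mul_x hG hi hws,
        hG.refl_refl hi hs, ← mul_assoc, ← Int.cast_mul, hη, Int.cast_one, one_mul]
    rw [this]
    exact Subgroup.subset_closure ⟨_, _, m1, m2, xGL_coe hG1 hws _⟩

include hG hT h3 h4 h5 h6 in
/-- `B ∪ B n_p B` is a subgroup. -/
theorem exists_subgroup_borel_union {i : ℕ} (hi : i < D.rank) (n : GL D.Idx F)
    (hn : (n : Matrix D.Idx D.Idx F) = D.nMat F (D.simple i) 1) :
    ∃ P : Subgroup (GL D.Idx F), (P : Set (GL D.Idx F)) =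
      (D.borelSubgroup F : Set (GL D.Idx F)) ∪
        doubleCoset n (D.borelSubgroup F : Set (GL D.Idx F)) (D.borelSubgroup F) := by
  have hG1 := hG.toGood1
  have hp := hG1.simple_lt hi
  have hnp := hG1.neg_lt hp
  have hn' : n = nGL hG1 hp := Units.ext (hn.trans (nGL_coe hG1 hp).symm)
  subst hn'
  set n := nGL (F := F) hG1 hp with hndef
  have hUB : D.posUnipotent F ≤ D.borelSubgroup F := le_sup_left
  have hHB : D.diagonalSubgroup F ≤ D.borelSubgroup F := le_sup_right
  -- `n² ∈ H`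
  have hnn : n * n ∈ D.diagonalSubgroup F := by
    have : n * n = hGL hG1 hp (-1) (neg_ne_zero.mpr one_ne_zero) := by
      rw [hndef]
      unfold nGL hGL
      rw [← map_mul, antiSL_sq]
    rw [this]
    exact Subgroup.subset_closure ⟨_, _, hp, neg_ne_zero.mpr one_ne_zero, hGL_coe hG1 hp _ _⟩
  have hxB : ∀ t : F, xGL hG1 hp t ∈ D.borelSubgroup F := by
    intro t
    apply hUB
    obtain ⟨hppos, _⟩ := h5 i hi
    exact Subgroup.subset_closure ⟨_, t, (isPosRoot_iff hT hp).mpr hppos, xGL_coe hG1 hp t⟩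
  apply exists_subgroup_union_doubleCoset
  · intro b hb
    -- decompose `b = x u' h`
    have hmul := Subgroup.coe_mul_of_right_le_normalizer_left (D.posUnipotent F)
      (D.diagonalSubgroup F) (diagonalSubgroup_le_normalizer_pos hG)
    obtain ⟨u, hu, h, hh, rfl⟩ : b ∈ (D.posUnipotent F : Set (GL D.Idx F)) *
        (D.diagonalSubgroup F : Set (GL D.Idx F)) := by
      rw [← hmul]; exact hb
    have hXn : D.rootSubgroup F (D.simple i) ≤
        Subgroup.normalizer (Subgroup.closure (upGen D F (D.simple i)) : Set (GL D.Idx F)) :=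
      le_trans le_sup_left (rootSubgroup_le_normalizer_up hG hT h3 h4 h5 hi)
    have hmul2 := Subgroup.coe_mul_of_left_le_normalizer_right (D.rootSubgroup F (D.simple i))
      (Subgroup.closure (upGen D F (D.simple i))) hXn
    have hu' : u ∈ (D.rootSubgroup F (D.simple i) : Set (GL D.Idx F)) *
        (Subgroup.closure (upGen D F (D.simple i)) : Set (GL D.Idx F)) := by
      rw [← hmul2, sup_comm, up_sup_rootSubgroup hG hT h5 hi]; exact hu
    obtain ⟨x, hx, u', hu', rfl⟩ := hu'
    obtain ⟨t, rfl⟩ := mem_rootSubgroup hG1 hp hx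
    -- conjugates
    have hUpU : Subgroup.closure (upGen D F (D.simple i)) ≤ D.posUnipotent F := by
      rw [← up_sup_rootSubgroup hG hT h5 hi]; exact le_sup_left
    have c1 : n * u' * n⁻¹ ∈ D.borelSubgroup F := by
      apply hUB; apply hUpU
      exact (Subgroup.mem_set_normalizer_iff.mp (nGL_mem_normalizer_up hG hT h6 hi) u').mp hu'
    have c2 : n * h * n⁻¹ ∈ D.borelSubgroup F := by
      apply hHB
      exact (Subgroup.mem_set_normalizer_iff.mp
        (nMat_mem_normalizer hG hp (nGL_coe hG1 hp)) h).mp hh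
    have c3 : n * xGL hG1 hp t * n⁻¹ = phiHom hG1 hp (lowerSL (-t)) := by
      rw [mul_inv_eq_iff_eq_mul, hndef]
      unfold nGL xGL
      rw [← map_mul, ← map_mul, antiSL_mul_upper]
    have e : n * (xGL hG1 hp t * u' * h) * n =
        (n * xGL hG1 hp t * n⁻¹) * ((n * u' * n⁻¹) * (n * h * n⁻¹) * (n * n)) := by group
    have hb'' : (n * u' * n⁻¹) * (n * h * n⁻¹) * (n * n) ∈ D.borelSubgroup F :=
      mul_mem (mul_mem c1 c2) (hHB hnn)
    rw [e, c3]
    by_cases ht : t = 0
    · left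
      have : lowerSL (-t) = (1 : Matrix.SpecialLinearGroup (Fin 2) F) := by
        apply Subtype.ext
        rw [ht]
        simp only [lowerSL, Matrix.SpecialLinearGroup.coe_one]
        ext a b
        fin_cases a <;> fin_cases b <;> simp
      rw [this, map_one, one_mul]
      exact hb''
    · right
      have hs : -t ≠ 0 := neg_ne_zero.mpr ht
      rw [lowerSL_eq hs, map_mul, map_mul, map_mul]
      refine mem_doubleCoset.mpr ⟨xGL hG1 hp (-t)⁻¹ *
          hGL hG1 hp (-(-t)⁻¹) (neg_ne_zero.mpr (inv_ne_zero hs)), ?_,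
        xGL hG1 hp (-t)⁻¹ * ((n * u' * n⁻¹) * (n * h * n⁻¹) * (n * n)), ?_, ?_⟩
      · apply mul_mem (hxB _)
        apply hHB
        exact Subgroup.subset_closure ⟨_, _, hp, neg_ne_zero.mpr (inv_ne_zero hs),
          hGL_coe hG1 hp _ _⟩
      · exact mul_mem (hxB _) hb''
      · unfold xGL hGL
        rw [hndef]
        unfold nGL
        simp only [mul_assoc]
  · -- `n⁻¹ = n (n n)⁻¹`
    refine mem_doubleCoset.mpr ⟨1, one_mem _, (n * n)⁻¹, inv_mem (hHB hnn), ?_⟩
    group

end para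

end Cfsg.Agent.Helper7.Chev
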