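import Mathlib
import Cfsg.Agent.Helper7.ChevPara

set_option autoImplicit false
set_option linter.unusedSectionVars false
set_option linter.unusedVariables false

/-!
Every element of `U` is a product of root elements over the positive roots in increasing order.
-/

namespace Cfsg.Agent.Helper7.Chev

open Cfsg Cfsg.Lie Matrix
open scoped Pointwise

namespace Tab

variable (T : Tab)

/-- The roots of the commutator terms of two positive roots `r < s` have index greater than `r`. -/
def T7 : Prop :=
  AllLt T.n (fun r => T.n / 2 ≤ r → AllLt T.n (fun s => r < s →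
    (T.commTerms r s).all (fun c => decide (r < c.1 ∧ c.1 < T.n)) = true))

instance : Decidable T.T7 := by unfold T7; infer_instance

end Tab

variable {D : ChevalleyDatum} {F : Type*} [Field F]

/-- The root elements of the roots with index at least `k`. -/
def geGen (D : ChevalleyDatum) (F : Type*) [Field F] (k : ℕ) : Set (GL D.Idx F) :=
  {g | ∃ (r : ℕ) (t : F), k ≤ r ∧ r < D.nroots ∧ (g : Matrix D.Idx D.Idx F) = D.x F r t}

/-- The subgroup generated by the root subgroups of the roots with index at least `k`. -/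
def Uge (D : ChevalleyDatum) (F : Type*) [Field F] (k : ℕ) : Subgroup (GL D.Idx F) :=
  Subgroup.closure (geGen D F k)

theorem posUnipotent_eq_Uge (hT : T0 D) : D.posUnipotent F = Uge D F (D.nroots / 2) := by
  unfold ChevalleyDatum.posUnipotent Uge
  congr 1
  ext g
  constructor
  · rintro ⟨r, t, hr, hg⟩
    exact ⟨r, t, (isPosRoot_iff hT hr.1).mp hr, hr.1, hg⟩
  · rintro ⟨r, t, h1, h2, hg⟩
    exact ⟨r, t, (isPosRoot_iff hT h2).mpr h1, hg⟩

theorem Uge_top : Uge D F D.nroots = ⊥ := by
  unfold Uge
  rw [Subgroup.closure_eq_bot_iff]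
  rintro g ⟨r, t, h1, h2, _⟩
  omega

theorem Uge_anti {k k' : ℕ} (h : k ≤ k') : Uge D F k' ≤ Uge D F k := by
  unfold Uge
  apply Subgroup.closure_mono
  rintro g ⟨r, t, h1, h2, hg⟩
  exact ⟨r, t, by omega, h2, hg⟩

section collect

variable (hG : Good2 D) (hT : T0 D) (h3 : (tabOf D).T3) (h4 : (tabOf D).T4 60) (h7 : (tabOf D).T7)

include hG hT h3 h4 h7 in
/-- `X_k` normalises the subgroup generated by the root subgroups of larger index. -/
theorem xGL_mem_normalizer_Uge {k : ℕ} (hk1 : D.nroots / 2 ≤ k) (hk : k < D.nroots) (t : F) :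
    xGL hG.toGood1 hk t ∈ Subgroup.normalizer (Uge D F (k + 1) : Set (GL D.Idx F)) := by
  have hG1 := hG.toGood1
  have hnk : D.neg k < D.nroots / 2 ∨ True := Or.inr trivial
  -- conjugation by `x_k(t)⁻¹`
  have key : ∀ (t : F) (x : GL D.Idx F), x ∈ geGen D F (k + 1) →
      (xGL hG1 hk t)⁻¹ * x * xGL hG1 hk t ∈ Uge D F (k + 1) := by
    rintro t x ⟨s, u, hks, hs, hx⟩
    rw [eq_xGL hG1 hs hx]
    have hsk : s ≠ k := by omega
    have hsn : s ≠ D.neg k := by
      intro h
      have := hT k hk
      obtain ⟨_, k2, _⟩ := this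
      have hkpos : D.IsPosRoot k := (isPosRoot_iff hT hk).mpr hk1
      have := (k2 hkpos).2
      omega
    have hc := comm_all (F := F) hG h3 h4 hk hs hsk hsn t u
    have hterms := h7 k hk hk1 s hs (by omega)
    have hw : ∀ q ∈ D.commWord F k s t u, k + 1 ≤ q.1 ∧ q.1 < D.nroots := by
      intro q hq
      unfold ChevalleyDatum.commWord at hq
      rw [List.mem_map] at hq
      obtain ⟨c, hc', rfl⟩ := hq
      rw [List.all_eq_true] at hterms
      rw [← commTerms_eq] at hc'
      have := of_decide_eq_true (hterms c hc')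
      exact ⟨this.1, this.2⟩
    have e : (xGL hG1 hk t)⁻¹ * xGL hG1 hs u * xGL hG1 hk t =
        xGL hG1 hs u * ((D.commWord F k s t u).map (xGL' hG1)).prod := by
      rw [mul_assoc, inv_mul_eq_iff_eq_mul]
      apply Units.ext
      rw [Units.val_mul, Units.val_mul, Units.val_mul, xGL_coe, xGL_coe, wordGL_coe, hc, mul_assoc]
    rw [e]
    apply mul_mem
    · exact Subgroup.subset_closure ⟨s, u, hks, hs, xGL_coe hG1 hs u⟩
    · apply Subgroup.list_prod_mem
      intro y hy
      rw [List.mem_map] at hy
      obtain ⟨q, hq, rfl⟩ := hy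
      obtain ⟨q1, q2⟩ := hw q hq
      exact Subgroup.subset_closure ⟨q.1, q.2, q1, q2, xGL'_coe hG1 q⟩
  unfold Uge
  apply mem_normalizer_closure
  · intro x hx
    have := key (-t) x hx
    rwa [← xGL_inv, inv_inv] at this
  · intro x hx
    exact key t x hx

include hG hT h3 h4 h7 in
/-- Every element of `U_{≥ k}` is `x_k(a)` times an element of `U_{≥ k+1}`. -/
theorem Uge_decomp {k : ℕ} (hk1 : D.nroots / 2 ≤ k) (hk : k < D.nroots) {g : GL D.Idx F}
    (hg : g ∈ Uge D F k) : ∃ (a : F) (g' : GL D.Idx F), g' ∈ Uge D F (k + 1) ∧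
      g = xGL hG.toGood1 hk a * g' := by
  have hG1 := hG.toGood1
  have hXn : D.rootSubgroup F k ≤ Subgroup.normalizer (Uge D F (k + 1) : Set (GL D.Idx F)) := by
    unfold ChevalleyDatum.rootSubgroup
    rw [Subgroup.closure_le]
    rintro x ⟨t, hx⟩
    rw [eq_xGL hG1 hk hx]
    exact xGL_mem_normalizer_Uge hG hT h3 h4 h7 hk1 hk t
  have hmul := Subgroup.coe_mul_of_left_le_normalizer_right (D.rootSubgroup F k) (Uge D F (k + 1)) hXn
  have hle : Uge D F k ≤ D.rootSubgroup F k ⊔ Uge D F (k + 1) := by
    unfold Uge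
    rw [Subgroup.closure_le]
    rintro x ⟨r, t, hkr, hr, hx⟩
    by_cases h : r = k
    · subst h
      apply (le_sup_left : D.rootSubgroup F r ≤ _)
      exact Subgroup.subset_closure ⟨t, hx⟩
    · apply (le_sup_right : Subgroup.closure (geGen D F (k + 1)) ≤ _)
      exact Subgroup.subset_closure ⟨r, t, by omega, hr, hx⟩
  have : g ∈ (D.rootSubgroup F k : Set (GL D.Idx F)) * (Uge D F (k + 1) : Set (GL D.Idx F)) := by
    rw [← hmul]; exact hle hg
  obtain ⟨x, hx, g', hg', rfl⟩ := this
  obtain ⟨a, rfl⟩ := mem_rootSubgroup hG1 hk hx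
  exact ⟨a, g', hg', rfl⟩

include hG hT h3 h4 h7 in
/-- Every element of `U_{≥ k}` is an ordered product of root elements. -/
theorem Uge_word : ∀ (j k : ℕ), k + j = D.nroots → D.nroots / 2 ≤ k → ∀ g : GL D.Idx F,
    g ∈ Uge D F k → ∃ t : ℕ → F,
      (g : Matrix D.Idx D.Idx F) = D.wordMat F ((List.range' k j).map fun r => (r, t r)) := by
  intro j
  induction j with
  | zero =>
    intro k hk _ g hg
    have : k = D.nroots := by omega
    rw [this, Uge_top, Subgroup.mem_bot] at hg
    refine ⟨fun _ => 0, ?_⟩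
    rw [hg]
    simp [wordMat_nil]
  | succ j ih =>
    intro k hk hk1 g hg
    have hklt : k < D.nroots := by omega
    obtain ⟨a, g', hg', rfl⟩ := Uge_decomp hG hT h3 h4 h7 hk1 hklt hg
    obtain ⟨t', ht'⟩ := ih (k + 1) (by omega) (by omega) g' hg'
    refine ⟨Function.update t' k a, ?_⟩
    rw [List.range'_succ, List.map_cons, wordMat_cons, Units.val_mul, xGL_coe, ht']
    simp only [Function.update_self]
    congr 2
    apply List.map_congr_left
    intro r hr
    rw [List.mem_range'_1] at hr
    rw [Function.update_of_ne (by omega)]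

end collect

/-- The positive roots are the upper half of the index range. -/
theorem posRoots_eq (hT : T0 D) :
    D.posRoots = List.range' (D.nroots / 2) (D.nroots - D.nroots / 2) := by
  unfold ChevalleyDatum.posRoots
  have h1 : List.range D.nroots =
      List.range' 0 (D.nroots / 2) ++ List.range' (D.nroots / 2) (D.nroots - D.nroots / 2) := by
    have hle := Nat.div_le_self D.nroots 2
    have e := List.range'_append_1 (s := 0) (m := D.nroots / 2) (n := D.nroots - D.nroots / 2)
    rw [Nat.zero_add] at e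
    rw [List.range_eq_range', e]
    congr 1
    omega
  rw [h1, List.filter_append]
  have h2 : (List.range' 0 (D.nroots / 2)).filter (fun r => decide (D.IsPosRoot r)) = [] := by
    rw [List.filter_eq_nil_iff]
    intro r hr
    rw [List.mem_range'_1] at hr
    have hr' : r < D.nroots := by
      have := Nat.div_le_self D.nroots 2
      omega
    rw [decide_eq_true_eq, isPosRoot_iff hT hr']
    omega
  have h3 : (List.range' (D.nroots / 2) (D.nroots - D.nroots / 2)).filter
      (fun r => decide (D.IsPosRoot r)) = List.range' (D.nroots / 2) (D.nroots - D.nroots / 2) := by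
    rw [List.filter_eq_self]
    intro r hr
    rw [List.mem_range'_1] at hr
    have hr' : r < D.nroots := by omega
    rw [decide_eq_true_eq, isPosRoot_iff hT hr']
    omega
  rw [h2, h3, List.nil_append]

section exist

variable (hG : Good2 D) (hT : T0 D) (h3 : (tabOf D).T3) (h4 : (tabOf D).T4 60) (h7 : (tabOf D).T7)

include hG hT h3 h4 h7 in
/-- Existence of the ordered product expression for the elements of `U`. -/
theorem posUnipotent_word {g : GL D.Idx F} (hg : g ∈ D.posUnipotent F) :
    ∃ t : ℕ → F, (∀ r, ¬ D.IsPosRoot r → t r = 0) ∧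
      (g : Matrix D.Idx D.Idx F) = D.wordMat F (D.posRoots.map fun r => (r, t r)) := by
  rw [posUnipotent_eq_Uge hT] at hg
  have hle : D.nroots / 2 ≤ D.nroots := Nat.div_le_self _ _
  obtain ⟨t, ht⟩ := Uge_word hG hT h3 h4 h7 (D.nroots - D.nroots / 2) (D.nroots / 2) (by omega)
    le_rfl g hg
  refine ⟨fun r => if D.IsPosRoot r then t r else 0, fun r hr => if_neg hr, ?_⟩
  rw [ht, posRoots_eq hT]
  congr 1
  apply List.map_congr_left
  intro r hr
  rw [List.mem_range'_1] at hr
  have hr' : r < D.nroots := by omega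
  have : D.IsPosRoot r := (isPosRoot_iff hT hr').mpr hr.1
  simp only [if_pos this]

include hG hT in
/-- Every ordered product over the positive roots is an element of `U`. -/
theorem word_mem_posUnipotent (t : ℕ → F) :
    ∃ g : GL D.Idx F, g ∈ D.posUnipotent F ∧
      (g : Matrix D.Idx D.Idx F) = D.wordMat F (D.posRoots.map fun r => (r, t r)) := by
  refine ⟨((D.posRoots.map fun r => (r, t r)).map (xGL' hG.toGood1)).prod, ?_, wordGL_coe _ _⟩
  apply Subgroup.list_prod_mem
  intro x hx
  rw [List.mem_map] at hx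
  obtain ⟨q, hq, rfl⟩ := hx
  rw [List.mem_map] at hq
  obtain ⟨r, hr, rfl⟩ := hq
  unfold ChevalleyDatum.posRoots at hr
  rw [List.mem_filter, decide_eq_true_eq] at hr
  exact Subgroup.subset_closure ⟨r, t r, hr.2, xGL'_coe _ _⟩

end exist

end Cfsg.Agent.Helper7.Chev
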