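import Mathlib
import Cfsg.Agent.Helper7.ChevCollect

set_option autoImplicit false
set_option linter.unusedSectionVars false
set_option linter.unusedVariables false

/-!
Uniqueness of the ordered product expression of the elements of `U`, and the order of `U`.
-/

namespace Cfsg.Agent.Helper7.Chev

open Cfsg Cfsg.Lie Matrix
open scoped Pointwise

namespace Tab

variable (T : Tab)

/-- The gcd of a list. -/
def lgcd (L : List ℕ) : ℕ := L.foldr Nat.gcd 0

/-- Negation reverses the index order, and the coroots are primitive. -/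
def T8 : Prop :=
  AllLt T.n (fun r => T.neg r = T.n - 1 - r ∧
    lgcd ((List.range T.l).map (fun i => (T.cr r i).natAbs)) = 1) ∧ T.n % 2 = 0

instance : Decidable T.T8 := by unfold T8; infer_instance

end Tab

theorem dvd_lgcd {p : ℕ} (L : List ℕ) (h : ∀ x ∈ L, p ∣ x) : p ∣ Tab.lgcd L := by
  induction L with
  | nil => exact dvd_zero p
  | cons a L ih =>
    unfold Tab.lgcd
    rw [List.foldr_cons]
    exact Nat.dvd_gcd (h a List.mem_cons_self) (ih fun x hx => h x (List.mem_cons_of_mem _ hx))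

variable {D : ChevalleyDatum} {F : Type*} [Field F]

/-- A primitive integer vector does not vanish in a field. -/
theorem exists_cast_ne_zero (L : List ℤ) (h : Tab.lgcd (L.map Int.natAbs) = 1) :
    ∃ a ∈ L, (a : F) ≠ 0 := by
  by_contra hcon
  simp only [not_exists, not_and, not_not] at hcon
  have hp : ∀ x ∈ L.map Int.natAbs, ringChar F ∣ x := by
    intro x hx
    rw [List.mem_map] at hx
    obtain ⟨a, ha, rfl⟩ := hx
    have := (CharP.intCast_eq_zero_iff F (ringChar F) a).mp (hcon a ha)
    exact Int.natCast_dvd.mp this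
  have := dvd_lgcd _ hp
  rw [h, Nat.dvd_one] at this
  exact CharP.ringChar_ne_one this

/-- Shape of the rows of the coroot coordinates and of the negative roots below `b`. -/
def RowInv (D : ChevalleyDatum) (F : Type*) [Field F] (b : ℕ) (A : Matrix D.Idx D.Idx F) : Prop :=
  (∀ i j : Fin D.rank, A (Sum.inl i) (Sum.inl j) = if i = j then 1 else 0) ∧
  (∀ (i : Fin D.rank) (v : Fin D.nroots), b ≤ v.val → A (Sum.inl i) (Sum.inr v) = 0) ∧
  (∀ (v : Fin D.nroots), v.val < b → ∀ c : D.Idx, A (Sum.inr v) c ≠ 0 →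
    ∃ w : Fin D.nroots, w.val ≤ v.val ∧ c = Sum.inr w)

theorem rowInv_one (b : ℕ) : RowInv D F b 1 := by
  refine ⟨fun i j => ?_, fun i v _ => ?_, fun v _ c hc => ?_⟩
  · rw [Matrix.one_apply]
    by_cases h : i = j
    · rw [if_pos h, if_pos (by rw [h])]
    · rw [if_neg h, if_neg (fun h' => h (Sum.inl.inj h'))]
  · rw [Matrix.one_apply_ne (by simp)]
  · rw [Matrix.one_apply] at hc
    by_cases h : Sum.inr v = c
    · exact ⟨v, le_rfl, h.symm⟩
    · rw [if_neg h] at hc; exact absurd rfl hc

theorem rowInv_mul {b : ℕ} {A B : Matrix D.Idx D.Idx F} (hA : RowInv D F b A) (hB : RowInv D F b B) :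
    RowInv D F b (A * B) := by
  obtain ⟨a1, a2, a3⟩ := hA
  obtain ⟨b1, b2, b3⟩ := hB
  refine ⟨fun i j => ?_, fun i v hv => ?_, fun v hv c hc => ?_⟩
  · rw [Matrix.mul_apply, Fintype.sum_sum_type]
    have h2 : ∀ x : Fin D.nroots, A (Sum.inl i) (Sum.inr x) * B (Sum.inr x) (Sum.inl j) = 0 := by
      intro x
      by_cases hx : b ≤ x.val
      · rw [a2 i x hx, zero_mul]
      · by_contra hne
        have hB0 : B (Sum.inr x) (Sum.inl j) ≠ 0 := right_ne_zero_of_mul hne
        obtain ⟨w, _, hw⟩ := b3 x (by omega) _ hB0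
        exact absurd hw (by simp)
    rw [Finset.sum_eq_zero (fun x _ => h2 x), add_zero]
    simp only [a1, b1]
    rw [Finset.sum_eq_single i]
    · simp
    · intro k _ hk
      rw [if_neg (fun h => hk h.symm), zero_mul]
    · intro h; exact absurd (Finset.mem_univ _) h
  · rw [Matrix.mul_apply, Fintype.sum_sum_type]
    have h1 : ∀ x : Fin D.rank, A (Sum.inl i) (Sum.inl x) * B (Sum.inl x) (Sum.inr v) = 0 := by
      intro x
      rw [b2 x v hv, mul_zero]
    have h2 : ∀ x : Fin D.nroots, A (Sum.inl i) (Sum.inr x) * B (Sum.inr x) (Sum.inr v) = 0 := by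
      intro x
      by_cases hx : b ≤ x.val
      · rw [a2 i x hx, zero_mul]
      · by_contra hne
        have hB0 : B (Sum.inr x) (Sum.inr v) ≠ 0 := right_ne_zero_of_mul hne
        obtain ⟨w, hw1, hw⟩ := b3 x (by omega) _ hB0
        have : v = w := Sum.inr.inj hw
        rw [this] at hv
        omega
    rw [Finset.sum_eq_zero (fun x _ => h1 x), Finset.sum_eq_zero (fun x _ => h2 x), add_zero]
  · rw [Matrix.mul_apply] at hc
    obtain ⟨d, _, hd⟩ := Finset.exists_ne_zero_of_sum_ne_zero hc
    have hA0 : A (Sum.inr v) d ≠ 0 := left_ne_zero_of_mul hd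
    have hB0 : B d c ≠ 0 := right_ne_zero_of_mul hd
    obtain ⟨w, hw1, rfl⟩ := a3 v hv d hA0
    obtain ⟨w', hw'1, rfl⟩ := b3 w (by omega) c hB0
    exact ⟨w', by omega, rfl⟩

/-- A root element of a positive root `r` with `-r` below `b` has the shape `RowInv`. -/
theorem rowInv_x (hT : T0 D) {b r : ℕ} (hr : r < D.nroots) (hpos : D.nroots / 2 ≤ r)
    (hb : b ≤ D.nroots / 2) (hnb : D.neg r < b) (t : F) : RowInv D F b (D.x F r t) := by
  rw [x_of_lt D F hr]
  obtain ⟨_, _, _, _, hch⟩ := hT r hr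
  have hsplit : ∀ i j, D.xMat F ⟨r, hr⟩ t i j =
      (D.xMat F ⟨r, hr⟩ t - 1) i j + (1 : Matrix D.Idx D.Idx F) i j := by
    intro i j; rw [Matrix.sub_apply]; ring
  refine ⟨fun i j => ?_, fun i v hv => ?_, fun v hv c hc => ?_⟩
  · have h0 : (D.xMat F ⟨r, hr⟩ t - 1) (Sum.inl i) (Sum.inl j) = 0 := by
      by_contra hne
      rcases xMat_sub_one_apply_ne_zero D ⟨r, hr⟩ t _ _ hne with ⟨i', _, h2⟩ |
        ⟨s, _, _, h3, _⟩ | ⟨s, u, h1, _, _⟩
      · exact absurd h2 (by simp)
      · exact absurd h3 (by simp)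
      · exact absurd h1 (by simp)
    rw [hsplit, h0, zero_add, Matrix.one_apply]
    by_cases h : i = j
    · rw [if_pos h, if_pos (by rw [h])]
    · rw [if_neg h, if_neg (fun h' => h (Sum.inl.inj h'))]
  · have h0 : (D.xMat F ⟨r, hr⟩ t - 1) (Sum.inl i) (Sum.inr v) = 0 := by
      by_contra hne
      rcases xMat_sub_one_apply_ne_zero D ⟨r, hr⟩ t _ _ hne with ⟨i', h1, _⟩ |
        ⟨s, _, hs2, h3, _⟩ | ⟨s, u, _, h2, _⟩
      · exact absurd h1 (by simp)
      · have : v = s := Sum.inr.inj h3
        rw [this] at hv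
        simp only at hs2
        omega
      · exact absurd h2 (by simp)
    rw [hsplit, h0, zero_add, Matrix.one_apply_ne (by simp)]
  · rw [hsplit] at hc
    by_cases h1 : (1 : Matrix D.Idx D.Idx F) (Sum.inr v) c = 0
    · rw [h1, add_zero] at hc
      rcases xMat_sub_one_apply_ne_zero D ⟨r, hr⟩ t _ _ hc with ⟨i', _, h2⟩ |
        ⟨s, _, _, _, (⟨i', h4⟩ | h4)⟩ | ⟨s, u, h1', h2, hne⟩
      · have : v.val = r := congrArg Fin.val (Sum.inr.inj h2)
        omega
      · exact absurd h4 (by simp)
      · have : v.val = r := congrArg Fin.val (Sum.inr.inj h4)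
        omega
      · obtain ⟨e, he, hes, q, hq, hqu⟩ := exists_entry_of_chainCoeff_ne_nil D hne
        have hlt := ((hch e he q hq).1 hpos)
        have hvu : v = u := Sum.inr.inj h2
        refine ⟨s, ?_, h1'⟩
        rw [hvu]
        omega
    · rw [Matrix.one_apply] at h1
      by_cases h : Sum.inr v = c
      · exact ⟨v, le_rfl, h.symm⟩
      · rw [if_neg h] at h1; exact absurd rfl h1

section unique

variable (hG : Good2 D) (hT : T0 D) (h8 : (tabOf D).T8)

include hG hT h8 in
/-- `X_k ∩ U_{≥ k+1} = 1`. -/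
theorem eq_zero_of_xGL_mem_Uge {k : ℕ} (hk1 : D.nroots / 2 ≤ k) (hk : k < D.nroots) {a : F}
    (h : xGL hG.toGood1 hk a ∈ Uge D F (k + 1)) : a = 0 := by
  have hG1 := hG.toGood1
  obtain ⟨h8a, h8b⟩ := h8
  have hn : (tabOf D).n = D.nroots := rfl
  rw [hn] at h8b
  have hnegk : D.neg k = D.nroots - 1 - k := (h8a k hk).1
  -- all elements of `U_{≥ k+1}` have the shape `RowInv (-k)`
  have hinv : ∀ g : GL D.Idx F, g ∈ Uge D F (k + 1) →
      RowInv D F (D.neg k) (g : Matrix D.Idx D.Idx F) := by
    intro g hg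
    unfold Uge at hg
    have hgen : ∀ x ∈ geGen D F (k + 1), ∀ u : F, ∀ r : ℕ, k + 1 ≤ r → r < D.nroots →
        RowInv D F (D.neg k) (D.x F r u) := by
      intro x _ u r hkr hr
      have hnegr : D.neg r = D.nroots - 1 - r := (h8a r hr).1
      apply rowInv_x hT hr (by omega) (by omega) (by omega)
    induction hg using Subgroup.closure_induction'' with
    | one => rw [Units.val_one]; exact rowInv_one _
    | mem x hx =>
      obtain ⟨r, u, hkr, hr, hxm⟩ := hx
      rw [hxm]
      exact hgen x ⟨r, u, hkr, hr, hxm⟩ u r hkr hr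
    | inv_mem x hx =>
      obtain ⟨r, u, hkr, hr, hxm⟩ := hx
      rw [eq_xGL hG1 hr hxm, xGL_inv, xGL_coe]
      exact hgen x ⟨r, u, hkr, hr, hxm⟩ (-u) r hkr hr
    | mul x y _ _ hx hy =>
      rw [Units.val_mul]
      exact rowInv_mul hx hy
  obtain ⟨_, r2, _⟩ := hinv _ h
  have hnk := hG1.neg_lt hk
  have hentry : ∀ i : Fin D.rank, a * ((cr D k i.val : ℤ) : F) = 0 := by
    intro i
    have := r2 i ⟨D.neg k, hnk⟩ le_rfl
    rw [xGL_coe] at this
    have e : D.x F k a (Sum.inl i) (Sum.inr ⟨D.neg k, hnk⟩) =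
        (D.x F k a *ᵥ eR D F (D.neg k)) (Sum.inl i) := by
      rw [eR_of_lt hnk, Matrix.mulVec_single_one]
      rfl
    rw [e, x_mulVec_eR_neg D F hk hnk (hG1.neg_ne hk)] at this
    simp only [Pi.add_apply, Pi.smul_apply, eR_apply_inl, hR_apply_inl, smul_eq_mul, mul_zero,
      zero_add, add_zero] at this
    exact this
  have hprim := (h8a k hk).2
  have hl : (tabOf D).l = D.rank := rfl
  rw [hl] at hprim
  have hmm : (List.range D.rank).map (fun i => ((tabOf D).cr k i).natAbs) =
      ((List.range D.rank).map (fun i => cr D k i)).map Int.natAbs := by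
    rw [List.map_map]; rfl
  rw [hmm] at hprim
  obtain ⟨c, hc, hc0⟩ := exists_cast_ne_zero (F := F) _ hprim
  rw [List.mem_map] at hc
  obtain ⟨i, hi, rfl⟩ := hc
  rw [List.mem_range] at hi
  have := hentry ⟨i, hi⟩
  exact (mul_eq_zero.mp this).resolve_right hc0

include hG in
/-- An ordered product of root elements of index at least `k` lies in `U_{≥ k}`. -/
theorem wordGL_mem_Uge (k j : ℕ) (hkj : k + j ≤ D.nroots) (t : ℕ → F) :
    (((List.range' k j).map fun r => (r, t r)).map (xGL' hG.toGood1)).prod ∈ Uge D F k := by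
  apply Subgroup.list_prod_mem
  intro x hx
  rw [List.mem_map] at hx
  obtain ⟨q, hq, rfl⟩ := hx
  rw [List.mem_map] at hq
  obtain ⟨r, hr, rfl⟩ := hq
  rw [List.mem_range'_1] at hr
  exact Subgroup.subset_closure ⟨r, t r, hr.1, by omega, xGL'_coe _ _⟩

include hG hT h8 in
/-- Uniqueness of the parameters of an ordered product. -/
theorem word_unique : ∀ (j k : ℕ), k + j = D.nroots → D.nroots / 2 ≤ k → ∀ t t' : ℕ → F,
    D.wordMat F ((List.range' k j).map fun r => (r, t r)) =
      D.wordMat F ((List.range' k j).map fun r => (r, t' r)) →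
    ∀ r ∈ List.range' k j, t r = t' r := by
  have hG1 := hG.toGood1
  intro j
  induction j with
  | zero => intro k _ _ t t' _ r hr; simp at hr
  | succ j ih =>
    intro k hkj hk1 t t' h r hr
    have hk : k < D.nroots := by omega
    rw [List.range'_succ, List.map_cons, List.map_cons, wordMat_cons, wordMat_cons] at h
    simp only at h
    set g := (((List.range' (k + 1) j).map fun r => (r, t r)).map (xGL' hG1)).prod with hg
    set g' := (((List.range' (k + 1) j).map fun r => (r, t' r)).map (xGL' hG1)).prod with hg'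
    have hgm : g ∈ Uge D F (k + 1) := wordGL_mem_Uge hG (k + 1) j (by omega) t
    have hgm' : g' ∈ Uge D F (k + 1) := wordGL_mem_Uge hG (k + 1) j (by omega) t'
    have e : xGL hG1 hk (t k) * g = xGL hG1 hk (t' k) * g' := by
      apply Units.ext
      rw [Units.val_mul, Units.val_mul, xGL_coe, xGL_coe, hg, hg', wordGL_coe, wordGL_coe]
      exact h
    have e2 : xGL hG1 hk (t k - t' k) = g' * g⁻¹ := by
      rw [sub_eq_add_neg, add_comm, ← xGL_mul, ← xGL_inv, eq_mul_inv_iff_mul_eq, mul_assoc, e,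
        ← mul_assoc, inv_mul_cancel, one_mul]
    have hmem : xGL hG1 hk (t k - t' k) ∈ Uge D F (k + 1) := by
      rw [e2]; exact mul_mem hgm' (inv_mem hgm)
    have h0 := eq_zero_of_xGL_mem_Uge hG hT h8 hk1 hk hmem
    have htk : t k = t' k := sub_eq_zero.mp h0
    rw [List.range'_succ, List.mem_cons] at hr
    rcases hr with rfl | hr
    · exact htk
    · rw [htk] at e
      have e3 : g = g' := mul_left_cancel e
      apply ih (k + 1) (by omega) (by omega) t t' _ r hr
      have := congrArg (fun x : GL D.Idx F => (x : Matrix D.Idx D.Idx F)) e3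
      simp only [hg, hg', wordGL_coe] at this
      exact this

end unique

section main

variable (hG : Good2 D) (hT : T0 D) (h3 : (tabOf D).T3) (h4 : (tabOf D).T4 60) (h7 : (tabOf D).T7)
  (h8 : (tabOf D).T8)

include hG hT h3 h4 h7 h8 in
/-- The statement of S1026 from the table facts. -/
theorem posUnipotent_unique_word :
    (∀ g : GL D.Idx F, g ∈ D.posUnipotent F →
      ∃! t : ℕ → F, (∀ r, ¬ D.IsPosRoot r → t r = 0) ∧
        (g : Matrix D.Idx D.Idx F) = D.wordMat F (D.posRoots.map fun r => (r, t r))) ∧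
    (∀ t : ℕ → F, ∃ g : GL D.Idx F, g ∈ D.posUnipotent F ∧
      (g : Matrix D.Idx D.Idx F) = D.wordMat F (D.posRoots.map fun r => (r, t r))) := by
  refine ⟨fun g hg => ?_, fun t => word_mem_posUnipotent hG hT t⟩
  obtain ⟨t, ht1, ht2⟩ := posUnipotent_word hG hT h3 h4 h7 hg
  refine ⟨t, ⟨ht1, ht2⟩, ?_⟩
  rintro t' ⟨ht1', ht2'⟩
  funext r
  by_cases hr : D.IsPosRoot r
  · have hle : D.nroots / 2 ≤ D.nroots := Nat.div_le_self _ _
    have hrm := (isPosRoot_iff hT hr.1).mp hr
    rw [ht2, posRoots_eq hT] at ht2'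
    have := word_unique hG hT h8 (D.nroots - D.nroots / 2) (D.nroots / 2) (by omega) le_rfl t' t
      ht2'.symm r (by rw [List.mem_range'_1]; have := hr.1; omega)
    exact this
  · rw [ht1 r hr, ht1' r hr]

/-- Extension by zero of a family indexed by the positive roots. -/
def extPos (D : ChevalleyDatum) {F : Type*} [Field F] (f : Fin (D.nroots - D.nroots / 2) → F) :
    ℕ → F :=
  fun r => if h : D.nroots / 2 ≤ r ∧ r < D.nroots then f ⟨r - D.nroots / 2, by omega⟩ else 0

include hG hT h3 h4 h7 h8 in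
/-- The order of `U`. -/
theorem card_posUnipotent [Fintype F] :
    Nat.card (D.posUnipotent F) = Fintype.card F ^ (D.nroots / 2) := by
  have hG1 := hG.toGood1
  have hle : D.nroots / 2 ≤ D.nroots := Nat.div_le_self _ _
  have heven : D.nroots % 2 = 0 := h8.2
  set j := D.nroots - D.nroots / 2 with hj
  have hjm : j = D.nroots / 2 := by omega
  let Φ : (Fin j → F) → D.posUnipotent F := fun f =>
    ⟨(((List.range' (D.nroots / 2) j).map fun r => (r, extPos D f r)).map (xGL' hG1)).prod, by
      rw [posUnipotent_eq_Uge hT]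
      exact wordGL_mem_Uge hG _ _ (by omega) _⟩
  have hinj : Function.Injective Φ := by
    intro f f' hff
    have h1 := congrArg (fun x : D.posUnipotent F => ((x : GL D.Idx F) : Matrix D.Idx D.Idx F)) hff
    simp only [Φ, wordGL_coe] at h1
    have := word_unique hG hT h8 j (D.nroots / 2) (by omega) le_rfl _ _ h1
    funext i
    have hi := this (D.nroots / 2 + i.val) (by rw [List.mem_range'_1]; have := i.2; omega)
    unfold extPos at hi
    have hc : D.nroots / 2 ≤ D.nroots / 2 + i.val ∧ D.nroots / 2 + i.val < D.nroots := by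
      have := i.2; omega
    rw [dif_pos hc, dif_pos hc] at hi
    have hfin : (⟨D.nroots / 2 + i.val - D.nroots / 2, by have := i.2; omega⟩ : Fin j) = i := by
      apply Fin.ext
      simp
    rw [hfin] at hi
    exact hi
  have hsurj : Function.Surjective Φ := by
    rintro ⟨g, hg⟩
    have hg' := hg
    rw [posUnipotent_eq_Uge hT] at hg'
    obtain ⟨t, ht⟩ := Uge_word hG hT h3 h4 h7 j (D.nroots / 2) (by omega) le_rfl g hg'
    refine ⟨fun i => t (D.nroots / 2 + i.val), ?_⟩
    apply Subtype.ext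
    apply Units.ext
    simp only [Φ, wordGL_coe]
    rw [ht]
    congr 1
    apply List.map_congr_left
    intro r hr
    rw [List.mem_range'_1] at hr
    unfold extPos
    rw [dif_pos ⟨hr.1, by omega⟩]
    simp only
    congr 2
    omega
  rw [← Nat.card_congr (Equiv.ofBijective Φ ⟨hinj, hsurj⟩), Nat.card_eq_fintype_card,
    Fintype.card_fun, Fintype.card_fin, hjm]

end main

end Cfsg.Agent.Helper7.Chev
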