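import Mathlib
import Cfsg.Agent.Helper7.ChevCodes
import Cfsg.Agent.Helper7.ChevUnique
import Cfsg.Agent.Helper7.ChevTabG2
import Cfsg.Agent.Helper7.ChevTabB2
import Cfsg.Agent.Helper7.ChevTabD4
import Cfsg.Agent.Helper7.ChevTabF4
import Cfsg.Agent.Helper7.ChevTabE6
import Cfsg.Agent.Helper7.ChevTabE7
import Cfsg.Agent.Helper7.ChevTabE8

set_option autoImplicit false

/-!
Level-7 and level-8 table facts: the commutator terms of two positive roots have larger index; negation
reverses the index order; the coroots are primitive.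
-/

namespace Cfsg.Agent.Helper7.Chev

open Cfsg Cfsg.Lie

set_option maxRecDepth 1000000 in
set_option maxHeartbeats 0 in
theorem T7fast_G2 : fastG2.T7 := by decide +kernel

theorem T7_G2 : (tabOf chevG2).T7 := tab_G2 ▸ T7fast_G2

set_option maxRecDepth 1000000 in
set_option maxHeartbeats 0 in
theorem T8fast_G2 : fastG2.T8 := by decide +kernel

theorem T8_G2 : (tabOf chevG2).T8 := tab_G2 ▸ T8fast_G2

set_option maxRecDepth 1000000 in
set_option maxHeartbeats 0 in
theorem T7fast_B2 : fastB2.T7 := by decide +kernel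

theorem T7_B2 : (tabOf chevB2).T7 := tab_B2 ▸ T7fast_B2

set_option maxRecDepth 1000000 in
set_option maxHeartbeats 0 in
theorem T8fast_B2 : fastB2.T8 := by decide +kernel

theorem T8_B2 : (tabOf chevB2).T8 := tab_B2 ▸ T8fast_B2

set_option maxRecDepth 1000000 in
set_option maxHeartbeats 0 in
theorem T7fast_D4 : fastD4.T7 := by decide +kernel

theorem T7_D4 : (tabOf chevD4).T7 := tab_D4 ▸ T7fast_D4

set_option maxRecDepth 1000000 in
set_option maxHeartbeats 0 in
theorem T8fast_D4 : fastD4.T8 := by decide +kernel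

theorem T8_D4 : (tabOf chevD4).T8 := tab_D4 ▸ T8fast_D4

set_option maxRecDepth 1000000 in
set_option maxHeartbeats 0 in
theorem T7fast_F4 : fastF4.T7 := by decide +kernel

theorem T7_F4 : (tabOf chevF4).T7 := tab_F4 ▸ T7fast_F4

set_option maxRecDepth 1000000 in
set_option maxHeartbeats 0 in
theorem T8fast_F4 : fastF4.T8 := by decide +kernel

theorem T8_F4 : (tabOf chevF4).T8 := tab_F4 ▸ T8fast_F4

set_option maxRecDepth 1000000 in
set_option maxHeartbeats 0 in
theorem T7fast_E6 : fastE6.T7 := by decide +kernel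

theorem T7_E6 : (tabOf chevE6).T7 := tab_E6 ▸ T7fast_E6

set_option maxRecDepth 1000000 in
set_option maxHeartbeats 0 in
theorem T8fast_E6 : fastE6.T8 := by decide +kernel

theorem T8_E6 : (tabOf chevE6).T8 := tab_E6 ▸ T8fast_E6

set_option maxRecDepth 1000000 in
set_option maxHeartbeats 0 in
theorem T7fast_E7 : fastE7.T7 := by decide +kernel

theorem T7_E7 : (tabOf chevE7).T7 := tab_E7 ▸ T7fast_E7

set_option maxRecDepth 1000000 in
set_option maxHeartbeats 0 in
theorem T8fast_E7 : fastE7.T8 := by decide +kernel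

theorem T8_E7 : (tabOf chevE7).T8 := tab_E7 ▸ T8fast_E7

set_option maxRecDepth 1000000 in
set_option maxHeartbeats 0 in
theorem T7fast_E8 : fastE8.T7 := by decide +kernel

theorem T7_E8 : (tabOf chevE8).T7 := tab_E8 ▸ T7fast_E8

set_option maxRecDepth 1000000 in
set_option maxHeartbeats 0 in
theorem T8fast_E8 : fastE8.T8 := by decide +kernel

theorem T8_E8 : (tabOf chevE8).T8 := tab_E8 ▸ T8fast_E8

/-- The level-7 table facts hold for each of the seven tabulated data. -/
theorem T7_of_mem (D : ChevalleyDatum)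
    (hD : D ∈ [chevG2, chevB2, chevD4, chevF4, chevE6, chevE7, chevE8]) : (tabOf D).T7 :=
  chev_cases (p := fun D => (tabOf D).T7) D hD T7_G2 T7_B2 T7_D4 T7_F4 T7_E6 T7_E7 T7_E8

/-- The level-8 table facts hold for each of the seven tabulated data. -/
theorem T8_of_mem (D : ChevalleyDatum)
    (hD : D ∈ [chevG2, chevB2, chevD4, chevF4, chevE6, chevE7, chevE8]) : (tabOf D).T8 :=
  chev_cases (p := fun D => (tabOf D).T8) D hD T8_G2 T8_B2 T8_D4 T8_F4 T8_E6 T8_E7 T8_E8

end Cfsg.Agent.Helper7.Chev
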