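import Mathlib
import Cfsg.Agent.Helper7.ChevT7

set_option autoImplicit false

/-!
Table facts for the centraliser of the unipotent radical of a parabolic subgroup: the commutator terms of two
positive roots have index greater than both; every fundamental reflection moves a positive root lying over a
given fundamental root; the positive roots lying over a given fundamental root span the root lattice.
-/

namespace Cfsg.Agent.Helper7.Chev

open Cfsg Cfsg.Lie

namespace Tab

variable (T : Tab)

/-- The roots of the commutator terms of two positive roots have index greater than both. -/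
def T26 : Prop :=
  AllLt T.n (fun r => T.n / 2 ≤ r → AllLt T.n (fun s => T.n / 2 ≤ s →
    (T.commTerms r s).all (fun c => decide (r < c.1 ∧ s < c.1 ∧ c.1 < T.n)) = true))

instance : Decidable T.T26 := by unfold T26; infer_instance

/-- Every fundamental reflection moves some positive root lying over a given fundamental root. -/
def T27 : Prop :=
  AllLt T.l (fun i₀ => AllLt T.l (fun i =>
    (List.range' (T.n / 2) (T.n - T.n / 2)).any
      (fun r => decide (T.cr r i₀ ≠ 0 ∧ T.refl (T.simple i) r ≠ r)) = true))

instance : Decidable T.T27 := by unfold T27; infer_instance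

/-- Every fundamental root is a positive root lying over a given fundamental root, or a difference of two such,
as far as the Cartan integers are concerned. -/
def T28 : Prop :=
  AllLt T.l (fun i₀ => AllLt T.l (fun j =>
    (List.range' (T.n / 2) (T.n - T.n / 2)).any (fun r => decide (T.cr r i₀ ≠ 0) &&
      (decide (r = T.simple j) ||
        (List.range' (T.n / 2) (T.n - T.n / 2)).any (fun r' => decide (T.cr r' i₀ ≠ 0) &&
          (List.range T.l).all (fun i =>
            decide (T.cartan i r = T.cartan i r' + T.cartan i (T.simple j)))))) = true))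

instance : Decidable T.T28 := by unfold T28; infer_instance

end Tab

set_option maxRecDepth 1000000 in
set_option maxHeartbeats 0 in
theorem T26fast_G2 : fastG2.T26 := by decide +kernel
theorem T26_G2 : (tabOf chevG2).T26 := tab_G2 ▸ T26fast_G2
set_option maxRecDepth 1000000 in
set_option maxHeartbeats 0 in
theorem T26fast_B2 : fastB2.T26 := by decide +kernel
theorem T26_B2 : (tabOf chevB2).T26 := tab_B2 ▸ T26fast_B2
set_option maxRecDepth 1000000 in
set_option maxHeartbeats 0 in
theorem T26fast_D4 : fastD4.T26 := by decide +kernel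
theorem T26_D4 : (tabOf chevD4).T26 := tab_D4 ▸ T26fast_D4
set_option maxRecDepth 1000000 in
set_option maxHeartbeats 0 in
theorem T26fast_F4 : fastF4.T26 := by decide +kernel
theorem T26_F4 : (tabOf chevF4).T26 := tab_F4 ▸ T26fast_F4
set_option maxRecDepth 1000000 in
set_option maxHeartbeats 0 in
theorem T26fast_E6 : fastE6.T26 := by decide +kernel
theorem T26_E6 : (tabOf chevE6).T26 := tab_E6 ▸ T26fast_E6
set_option maxRecDepth 1000000 in
set_option maxHeartbeats 0 in
theorem T26fast_E7 : fastE7.T26 := by decide +kernel
theorem T26_E7 : (tabOf chevE7).T26 := tab_E7 ▸ T26fast_E7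
set_option maxRecDepth 1000000 in
set_option maxHeartbeats 0 in
theorem T26fast_E8 : fastE8.T26 := by decide +kernel
theorem T26_E8 : (tabOf chevE8).T26 := tab_E8 ▸ T26fast_E8

theorem T26_of_mem (D : ChevalleyDatum)
    (hD : D ∈ [chevG2, chevB2, chevD4, chevF4, chevE6, chevE7, chevE8]) : (tabOf D).T26 :=
  chev_cases (p := fun D => (tabOf D).T26) D hD T26_G2 T26_B2 T26_D4 T26_F4 T26_E6 T26_E7 T26_E8

set_option maxRecDepth 1000000 in
set_option maxHeartbeats 0 in
theorem T27fast_G2 : fastG2.T27 := by decide +kernel
theorem T27_G2 : (tabOf chevG2).T27 := tab_G2 ▸ T27fast_G2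
set_option maxRecDepth 1000000 in
set_option maxHeartbeats 0 in
theorem T27fast_B2 : fastB2.T27 := by decide +kernel
theorem T27_B2 : (tabOf chevB2).T27 := tab_B2 ▸ T27fast_B2
set_option maxRecDepth 1000000 in
set_option maxHeartbeats 0 in
theorem T27fast_D4 : fastD4.T27 := by decide +kernel
theorem T27_D4 : (tabOf chevD4).T27 := tab_D4 ▸ T27fast_D4
set_option maxRecDepth 1000000 in
set_option maxHeartbeats 0 in
theorem T27fast_F4 : fastF4.T27 := by decide +kernel
theorem T27_F4 : (tabOf chevF4).T27 := tab_F4 ▸ T27fast_F4
set_option maxRecDepth 1000000 in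
set_option maxHeartbeats 0 in
theorem T27fast_E6 : fastE6.T27 := by decide +kernel
theorem T27_E6 : (tabOf chevE6).T27 := tab_E6 ▸ T27fast_E6
set_option maxRecDepth 1000000 in
set_option maxHeartbeats 0 in
theorem T27fast_E7 : fastE7.T27 := by decide +kernel
theorem T27_E7 : (tabOf chevE7).T27 := tab_E7 ▸ T27fast_E7
set_option maxRecDepth 1000000 in
set_option maxHeartbeats 0 in
theorem T27fast_E8 : fastE8.T27 := by decide +kernel
theorem T27_E8 : (tabOf chevE8).T27 := tab_E8 ▸ T27fast_E8

theorem T27_of_mem (D : ChevalleyDatum)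
    (hD : D ∈ [chevG2, chevB2, chevD4, chevF4, chevE6, chevE7, chevE8]) : (tabOf D).T27 :=
  chev_cases (p := fun D => (tabOf D).T27) D hD T27_G2 T27_B2 T27_D4 T27_F4 T27_E6 T27_E7 T27_E8

set_option maxRecDepth 1000000 in
set_option maxHeartbeats 0 in
theorem T28fast_G2 : fastG2.T28 := by decide +kernel
theorem T28_G2 : (tabOf chevG2).T28 := tab_G2 ▸ T28fast_G2
set_option maxRecDepth 1000000 in
set_option maxHeartbeats 0 in
theorem T28fast_B2 : fastB2.T28 := by decide +kernel
theorem T28_B2 : (tabOf chevB2).T28 := tab_B2 ▸ T28fast_B2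
set_option maxRecDepth 1000000 in
set_option maxHeartbeats 0 in
theorem T28fast_D4 : fastD4.T28 := by decide +kernel
theorem T28_D4 : (tabOf chevD4).T28 := tab_D4 ▸ T28fast_D4
set_option maxRecDepth 1000000 in
set_option maxHeartbeats 0 in
theorem T28fast_F4 : fastF4.T28 := by decide +kernel
theorem T28_F4 : (tabOf chevF4).T28 := tab_F4 ▸ T28fast_F4
set_option maxRecDepth 1000000 in
set_option maxHeartbeats 0 in
theorem T28fast_E6 : fastE6.T28 := by decide +kernel
theorem T28_E6 : (tabOf chevE6).T28 := tab_E6 ▸ T28fast_E6
set_option maxRecDepth 1000000 in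
set_option maxHeartbeats 0 in
theorem T28fast_E7 : fastE7.T28 := by decide +kernel
theorem T28_E7 : (tabOf chevE7).T28 := tab_E7 ▸ T28fast_E7
set_option maxRecDepth 1000000 in
set_option maxHeartbeats 0 in
theorem T28fast_E8 : fastE8.T28 := by decide +kernel
theorem T28_E8 : (tabOf chevE8).T28 := tab_E8 ▸ T28fast_E8

theorem T28_of_mem (D : ChevalleyDatum)
    (hD : D ∈ [chevG2, chevB2, chevD4, chevF4, chevE6, chevE7, chevE8]) : (tabOf D).T28 :=
  chev_cases (p := fun D => (tabOf D).T28) D hD T28_G2 T28_B2 T28_D4 T28_F4 T28_E6 T28_E7 T28_E8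

end Cfsg.Agent.Helper7.Chev
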