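import Mathlib
import Cfsg.Prelude.Def_LieExceptional

set_option autoImplicit false

/-!
Basic double-coset calculus in a group with a (B,N)-pair.
-/

namespace Cfsg.Agent.Helper7.BN

open Cfsg DoubleCoset
open scoped Pointwise

variable {G : Type*} [Group G] (P : Cfsg.BNPair G)

/-- The double coset `B g B`. -/
def C (g : G) : Set G := doubleCoset g (P.B : Set G) P.B

theorem mem_C {g x : G} : x ∈ C P g ↔ ∃ b ∈ P.B, ∃ b' ∈ P.B, x = b * g * b' := by
  unfold C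
  rw [mem_doubleCoset]
  rfl

theorem self_mem_C (g : G) : g ∈ C P g := mem_doubleCoset_self _ _ g

theorem C_eq_of_mem {g x : G} (h : x ∈ C P g) : C P x = C P g := doubleCoset_eq_of_mem h

theorem C_eq_iff_mem {g x : G} : C P x = C P g ↔ x ∈ C P g :=
  ⟨fun h => h ▸ self_mem_C P x, C_eq_of_mem P⟩

theorem mul_mem_C_left {g x b : G} (hb : b ∈ P.B) (h : x ∈ C P g) : b * x ∈ C P g := by
  rw [mem_C] at h ⊢
  obtain ⟨b1, hb1, b2, hb2, rfl⟩ := h
  exact ⟨b * b1, P.B.mul_mem hb hb1, b2, hb2, by group⟩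

theorem mul_mem_C_right {g x b : G} (hb : b ∈ P.B) (h : x ∈ C P g) : x * b ∈ C P g := by
  rw [mem_C] at h ⊢
  obtain ⟨b1, hb1, b2, hb2, rfl⟩ := h
  exact ⟨b1, hb1, b2 * b, P.B.mul_mem hb2 hb, by group⟩

theorem C_mul_right_B {g b : G} (hb : b ∈ P.B) : C P (g * b) = C P g :=
  C_eq_of_mem P (mul_mem_C_right P hb (self_mem_C P g))

theorem C_mul_left_B {g b : G} (hb : b ∈ P.B) : C P (b * g) = C P g :=
  C_eq_of_mem P (mul_mem_C_left P hb (self_mem_C P g))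

theorem C_of_mem_B {b : G} (hb : b ∈ P.B) : C P b = (P.B : Set G) := by
  ext x
  rw [mem_C]
  constructor
  · rintro ⟨b1, hb1, b2, hb2, rfl⟩
    exact P.B.mul_mem (P.B.mul_mem hb1 hb) hb2
  · intro hx
    exact ⟨x * b⁻¹, P.B.mul_mem hx (P.B.inv_mem hb), 1, P.B.one_mem, by group⟩

theorem C_one : C P 1 = (P.B : Set G) := C_of_mem_B P P.B.one_mem

theorem mem_C_inv {g x : G} (h : x ∈ C P g) : x⁻¹ ∈ C P g⁻¹ := by
  rw [mem_C] at h ⊢
  obtain ⟨b1, hb1, b2, hb2, rfl⟩ := h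
  exact ⟨b2⁻¹, P.B.inv_mem hb2, b1⁻¹, P.B.inv_mem hb1, by group⟩

/-- `T = B ⊓ N` is normalised by `N` (both directions). -/
theorem conj_mem_T {n t : G} (hn : n ∈ P.N) (ht : t ∈ P.B ⊓ P.N) : n * t * n⁻¹ ∈ P.B ⊓ P.N :=
  ⟨P.conj_mem n hn t ht, P.N.mul_mem (P.N.mul_mem hn ht.2) (P.N.inv_mem hn)⟩

theorem conj_mem_T' {n t : G} (hn : n ∈ P.N) (ht : t ∈ P.B ⊓ P.N) : n⁻¹ * t * n ∈ P.B ⊓ P.N := by
  have := conj_mem_T P (P.N.inv_mem hn) ht
  rwa [inv_inv] at this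

theorem S_mem_N {s : G} (hs : s ∈ P.S) : s ∈ P.N := P.subset hs

theorem sq_mem_T {s : G} (hs : s ∈ P.S) : s * s ∈ P.B ⊓ P.N :=
  ⟨P.sq_mem s hs, P.N.mul_mem (P.subset hs) (P.subset hs)⟩

/-- `s⁻¹ = s * (s*s)⁻¹`. -/
theorem S_inv_eq {s : G} : s⁻¹ = s * (s * s)⁻¹ := by group

theorem S_inv_eq' {s : G} : s⁻¹ = (s * s)⁻¹ * s := by group

theorem S_inv_mem_C {s : G} (hs : s ∈ P.S) : s⁻¹ ∈ C P s := by
  rw [S_inv_eq (s := s)]
  exact mul_mem_C_right P (P.B.inv_mem (P.sq_mem s hs)) (self_mem_C P s)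

theorem C_S_inv {s : G} (hs : s ∈ P.S) : C P s⁻¹ = C P s := C_eq_of_mem P (S_inv_mem_C P hs)

/-- An element of `S` does not lie in `B`. -/
theorem S_not_mem_B {s : G} (hs : s ∈ P.S) : s ∉ P.B := by
  intro hsB
  apply P.conj_ne s hs
  ext x
  constructor
  · rintro ⟨b, hb, rfl⟩
    exact P.B.mul_mem (P.B.mul_mem hsB hb) hsB
  · intro hx
    exact ⟨s⁻¹ * x * s⁻¹, P.B.mul_mem (P.B.mul_mem (P.B.inv_mem hsB) hx) (P.B.inv_mem hsB), by group⟩

/-- Left form of the double coset axiom. -/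
theorem T3_left {s n b : G} (hs : s ∈ P.S) (hn : n ∈ P.N) (hb : b ∈ P.B) :
    s * b * n ∈ C P (s * n) ∪ C P n := P.mul_mem_union s hs n hn b hb

/-- `C(s) * C(n) ⊆ C(s n) ∪ C(n)` elementwise. -/
theorem C_mul_C_subset {s n x y : G} (hs : s ∈ P.S) (hn : n ∈ P.N) (hx : x ∈ C P s) (hy : y ∈ C P n) :
    x * y ∈ C P (s * n) ∪ C P n := by
  rw [mem_C] at hx hy
  obtain ⟨b1, hb1, b2, hb2, rfl⟩ := hx
  obtain ⟨b3, hb3, b4, hb4, rfl⟩ := hy
  have h := T3_left P hs hn (P.B.mul_mem hb2 hb3)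
  have e : b1 * s * b2 * (b3 * n * b4) = b1 * (s * (b2 * b3) * n) * b4 := by group
  rw [e]
  rcases h with h | h
  · exact Or.inl (mul_mem_C_right P hb4 (mul_mem_C_left P hb1 h))
  · exact Or.inr (mul_mem_C_right P hb4 (mul_mem_C_left P hb1 h))

/-- Right form of the double coset axiom: `n b s ∈ C(n s) ∪ C(n)`. -/
theorem T3_right {s n b : G} (hs : s ∈ P.S) (hn : n ∈ P.N) (hb : b ∈ P.B) :
    n * b * s ∈ C P (n * s) ∪ C P n := by
  -- take inverses: (n b s)⁻¹ = s⁻¹ b⁻¹ n⁻¹ ∈ C(s) C(n⁻¹)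
  have h := C_mul_C_subset P hs (P.N.inv_mem hn) (S_inv_mem_C P hs)
    (mul_mem_C_left P (P.B.inv_mem hb) (self_mem_C P n⁻¹))
  have e : s⁻¹ * (b⁻¹ * n⁻¹) = (n * b * s)⁻¹ := by group
  rw [e] at h
  rcases h with h | h
  · left
    have h' := mem_C_inv P h
    rw [inv_inv] at h'
    have e2 : (s * n⁻¹)⁻¹ = n * s⁻¹ := by group
    rw [e2] at h'
    -- C (n * s⁻¹) = C (n * s)
    have : C P (n * s⁻¹) = C P (n * s) := by
      rw [S_inv_eq (s := s), ← mul_assoc]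
      exact C_mul_right_B P (P.B.inv_mem (P.sq_mem s hs))
    rwa [this] at h'
  · right
    have h' := mem_C_inv P h
    rwa [inv_inv, inv_inv] at h'

/-- `C(n) * C(s) ⊆ C(n s) ∪ C(n)` elementwise. -/
theorem C_mul_C_subset_right {s n x y : G} (hs : s ∈ P.S) (hn : n ∈ P.N) (hx : x ∈ C P n) (hy : y ∈ C P s) :
    x * y ∈ C P (n * s) ∪ C P n := by
  rw [mem_C] at hx hy
  obtain ⟨b1, hb1, b2, hb2, rfl⟩ := hx
  obtain ⟨b3, hb3, b4, hb4, rfl⟩ := hy
  have h := T3_right P hs hn (P.B.mul_mem hb2 hb3)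
  have e : b1 * n * b2 * (b3 * s * b4) = b1 * (n * (b2 * b3) * s) * b4 := by group
  rw [e]
  rcases h with h | h
  · exact Or.inl (mul_mem_C_right P hb4 (mul_mem_C_left P hb1 h))
  · exact Or.inr (mul_mem_C_right P hb4 (mul_mem_C_left P hb1 h))

/-- The union of the double cosets `B n B`, `n ∈ closure J`, is stable under left multiplication by
`B` and by `closure J`, for `J ⊆ S`. -/
theorem union_stable {J : Set G} (hJ : J ⊆ P.S) {g x : G}
    (hg : g ∈ P.B ⊔ Subgroup.closure J)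
    (hx : ∃ n ∈ Subgroup.closure J, x ∈ C P n) : ∃ n ∈ Subgroup.closure J, g * x ∈ C P n := by
  have hJN : Subgroup.closure J ≤ P.N := (Subgroup.closure_le _).mpr (fun s hs => P.subset (hJ hs))
  rw [← Subgroup.closure_eq P.B, ← Subgroup.closure_union] at hg
  induction hg using Subgroup.closure_induction'' generalizing x with
  | one => simpa using hx
  | mul a b _ _ iha ihb =>
    rw [mul_assoc]
    exact iha (ihb hx)
  | mem a ha =>
    obtain ⟨n, hn, hxn⟩ := hx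
    rcases ha with ha | ha
    · exact ⟨n, hn, mul_mem_C_left P ha hxn⟩
    · have := C_mul_C_subset P (hJ ha) (hJN hn) (self_mem_C P a) hxn
      rcases this with h | h
      · exact ⟨a * n, Subgroup.mul_mem _ (Subgroup.subset_closure ha) hn, h⟩
      · exact ⟨n, hn, h⟩
  | inv_mem a ha =>
    obtain ⟨n, hn, hxn⟩ := hx
    rcases ha with ha | ha
    · exact ⟨n, hn, mul_mem_C_left P (P.B.inv_mem ha) hxn⟩
    · have := C_mul_C_subset P (hJ ha) (hJN hn) (S_inv_mem_C P (hJ ha)) hxn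
      rcases this with h | h
      · exact ⟨a * n, Subgroup.mul_mem _ (Subgroup.subset_closure ha) hn, h⟩
      · exact ⟨n, hn, h⟩

/-- Description of the standard parabolic subgroup as a union of double cosets. -/
theorem mem_parabolic_iff {J : Set G} (hJ : J ⊆ P.S) (g : G) :
    g ∈ P.parabolic J ↔ ∃ n ∈ Subgroup.closure J, g ∈ C P n := by
  constructor
  · intro hg
    have := union_stable P hJ (x := 1) hg ⟨1, Subgroup.one_mem _, by rw [C_one]; exact P.B.one_mem⟩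
    simpa using this
  · rintro ⟨n, hn, hg⟩
    rw [mem_C] at hg
    obtain ⟨b1, hb1, b2, hb2, rfl⟩ := hg
    have hB : P.B ≤ P.parabolic J := le_sup_left
    have hJ' : Subgroup.closure J ≤ P.parabolic J := le_sup_right
    exact Subgroup.mul_mem _ (Subgroup.mul_mem _ (hB hb1) (hJ' hn)) (hB hb2)

theorem closure_S_sup_B : P.B ⊔ Subgroup.closure P.S = ⊤ := by
  rw [eq_top_iff, ← P.sup_eq_top]
  apply sup_le le_sup_left
  rw [← P.closure_sup]
  apply sup_le le_sup_right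
  exact le_trans inf_le_left le_sup_left

/-- Bruhat decomposition, existence. -/
theorem bruhat_exists (g : G) : ∃ n ∈ P.N, g ∈ C P n := by
  have hg : g ∈ P.parabolic P.S := by
    unfold BNPair.parabolic
    rw [closure_S_sup_B]
    exact Subgroup.mem_top g
  obtain ⟨n, hn, hgn⟩ := (mem_parabolic_iff P (subset_refl _) g).mp hg
  exact ⟨n, (Subgroup.closure_le _).mpr P.subset hn, hgn⟩

end Cfsg.Agent.Helper7.BN
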