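import Mathlib

set_option autoImplicit false

/-!
Word length in a group generated by a set of involutions.
-/

namespace Cfsg.Agent.Helper7.InvWords

variable {W : Type*} [Group W]

/-- All letters of the list lie in `R`. -/
def IsWord (R : Set W) (l : List W) : Prop := ∀ x ∈ l, x ∈ R

theorem isWord_nil (R : Set W) : IsWord R ([] : List W) := by
  intro x hx; simp at hx

theorem isWord_cons {R : Set W} {x : W} {l : List W} :
    IsWord R (x :: l) ↔ x ∈ R ∧ IsWord R l := by
  simp [IsWord]

theorem isWord_append {R : Set W} {l l' : List W} :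
    IsWord R (l ++ l') ↔ IsWord R l ∧ IsWord R l' := by
  simp only [IsWord, List.mem_append]
  constructor
  · intro h
    exact ⟨fun x hx => h x (Or.inl hx), fun x hx => h x (Or.inr hx)⟩
  · rintro ⟨h1, h2⟩ x (hx | hx)
    · exact h1 x hx
    · exact h2 x hx

theorem isWord_reverse {R : Set W} {l : List W} : IsWord R l.reverse ↔ IsWord R l := by
  simp [IsWord]

theorem IsWord.mono {R R' : Set W} (h : R ⊆ R') {l : List W} (hl : IsWord R l) : IsWord R' l :=
  fun x hx => h (hl x hx)

theorem IsWord.prod_mem_closure {R : Set W} {l : List W} (hl : IsWord R l) :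
    l.prod ∈ Subgroup.closure R :=
  Subgroup.list_prod_mem _ (fun x hx => Subgroup.subset_closure (hl x hx))

/-- Involutivity hypothesis. -/
def Invol (R : Set W) : Prop := ∀ r ∈ R, r * r = 1

theorem Invol.inv_eq {R : Set W} (hR : Invol R) {r : W} (hr : r ∈ R) : r⁻¹ = r :=
  inv_eq_of_mul_eq_one_left (hR r hr)

theorem prod_reverse_of_invol {R : Set W} (hR : Invol R) {l : List W} (hl : IsWord R l) :
    l.reverse.prod = l.prod⁻¹ := by
  induction l with
  | nil => simp
  | cons x l ih =>
    rw [isWord_cons] at hl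
    rw [List.reverse_cons, List.prod_append, ih hl.2, List.prod_cons, List.prod_cons,
      List.prod_nil, mul_one, mul_inv_rev, hR.inv_eq hl.1]

/-- Every element of the closure of a set of involutions is a word. -/
theorem exists_word_of_mem_closure {R : Set W} (hR : Invol R) {w : W}
    (hw : w ∈ Subgroup.closure R) : ∃ l : List W, IsWord R l ∧ l.prod = w := by
  induction hw using Subgroup.closure_induction'' with
  | mem x hx => exact ⟨[x], by simpa [IsWord] using hx, by simp⟩
  | inv_mem x hx => exact ⟨[x], by simpa [IsWord] using hx, by simp [hR.inv_eq hx]⟩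
  | one => exact ⟨[], isWord_nil R, rfl⟩
  | mul x y _ _ hx hy =>
    obtain ⟨l, hl, rfl⟩ := hx
    obtain ⟨l', hl', rfl⟩ := hy
    exact ⟨l ++ l', isWord_append.mpr ⟨hl, hl'⟩, List.prod_append⟩

/-- Word length with respect to `R` (junk value `0` outside the closure). -/
noncomputable def len (R : Set W) (w : W) : ℕ :=
  sInf {k | ∃ l : List W, l.length = k ∧ IsWord R l ∧ l.prod = w}

section

variable {R : Set W}

theorem len_le_of_word {l : List W} (hl : IsWord R l) : len R l.prod ≤ l.length :=
  Nat.sInf_le ⟨l, rfl, hl, rfl⟩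

theorem exists_reduced_word (hR : Invol R) {w : W} (hw : w ∈ Subgroup.closure R) :
    ∃ l : List W, IsWord R l ∧ l.prod = w ∧ l.length = len R w := by
  have hne : {k | ∃ l : List W, l.length = k ∧ IsWord R l ∧ l.prod = w}.Nonempty := by
    obtain ⟨l, hl, hlw⟩ := exists_word_of_mem_closure hR hw
    exact ⟨l.length, l, rfl, hl, hlw⟩
  obtain ⟨l, hlen, hl, hlw⟩ := Nat.sInf_mem hne
  exact ⟨l, hl, hlw, hlen⟩

theorem len_one : len R (1 : W) = 0 := by
  have := len_le_of_word (isWord_nil R)
  simpa using this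

theorem len_eq_zero_iff (hR : Invol R) {w : W} (hw : w ∈ Subgroup.closure R) :
    len R w = 0 ↔ w = 1 := by
  constructor
  · intro h
    obtain ⟨l, _, hlw, hlen⟩ := exists_reduced_word hR hw
    rw [h, List.length_eq_zero_iff] at hlen
    rw [← hlw, hlen, List.prod_nil]
  · rintro rfl
    exact len_one

theorem len_mul_le (hR : Invol R) {a b : W} (ha : a ∈ Subgroup.closure R)
    (hb : b ∈ Subgroup.closure R) : len R (a * b) ≤ len R a + len R b := by
  obtain ⟨l, hl, rfl, hlen⟩ := exists_reduced_word hR ha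
  obtain ⟨l', hl', rfl, hlen'⟩ := exists_reduced_word hR hb
  rw [← hlen, ← hlen', ← List.length_append, ← List.prod_append]
  exact len_le_of_word (isWord_append.mpr ⟨hl, hl'⟩)

theorem len_inv_le (hR : Invol R) {w : W} (hw : w ∈ Subgroup.closure R) :
    len R w⁻¹ ≤ len R w := by
  obtain ⟨l, hl, rfl, hlen⟩ := exists_reduced_word hR hw
  rw [← hlen, ← prod_reverse_of_invol hR hl, ← List.length_reverse]
  exact len_le_of_word (isWord_reverse.mpr hl)

theorem len_inv (hR : Invol R) {w : W} (hw : w ∈ Subgroup.closure R) :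
    len R w⁻¹ = len R w := by
  apply le_antisymm (len_inv_le hR hw)
  have := len_inv_le hR (Subgroup.inv_mem _ hw)
  rwa [inv_inv] at this

theorem len_gen_le {r : W} (hr : r ∈ R) : len R r ≤ 1 := by
  have := len_le_of_word (R := R) (l := [r]) (by simpa [IsWord] using hr)
  simpa using this

theorem len_gen (hR : Invol R) {r : W} (hr : r ∈ R) (h1 : r ≠ 1) : len R r = 1 := by
  apply le_antisymm (len_gen_le hr)
  rw [Nat.one_le_iff_ne_zero]
  intro h0
  exact h1 ((len_eq_zero_iff hR (Subgroup.subset_closure hr)).mp h0)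

theorem len_gen_mul_le (hR : Invol R) {r w : W} (hr : r ∈ R) (hw : w ∈ Subgroup.closure R) :
    len R (r * w) ≤ len R w + 1 := by
  have := len_mul_le hR (Subgroup.subset_closure hr) hw
  have h1 := len_gen_le hr
  omega

theorem len_le_gen_mul (hR : Invol R) {r w : W} (hr : r ∈ R) (hw : w ∈ Subgroup.closure R) :
    len R w ≤ len R (r * w) + 1 := by
  have hrw : r * w ∈ Subgroup.closure R := Subgroup.mul_mem _ (Subgroup.subset_closure hr) hw
  have := len_gen_mul_le hR hr hrw
  rwa [← mul_assoc, hR r hr, one_mul] at this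

theorem len_mul_gen_le (hR : Invol R) {r w : W} (hr : r ∈ R) (hw : w ∈ Subgroup.closure R) :
    len R (w * r) ≤ len R w + 1 := by
  have := len_mul_le hR hw (Subgroup.subset_closure hr)
  have h1 := len_gen_le hr
  omega

theorem len_le_mul_gen (hR : Invol R) {r w : W} (hr : r ∈ R) (hw : w ∈ Subgroup.closure R) :
    len R w ≤ len R (w * r) + 1 := by
  have hrw : w * r ∈ Subgroup.closure R := Subgroup.mul_mem _ hw (Subgroup.subset_closure hr)
  have := len_mul_gen_le hR hr hrw
  rwa [mul_assoc, hR r hr, mul_one] at this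

/-- Left decomposition of an element of positive length. -/
theorem exists_left_decomp (hR : Invol R) {w : W} (hw : w ∈ Subgroup.closure R) {q : ℕ}
    (hq : len R w = q + 1) :
    ∃ r ∈ R, ∃ w' ∈ Subgroup.closure R, len R w' = q ∧ w = r * w' := by
  obtain ⟨l, hl, rfl, hlen⟩ := exists_reduced_word hR hw
  rw [hq] at hlen
  rcases l with _ | ⟨r, l'⟩
  · simp at hlen
  · rw [isWord_cons] at hl
    refine ⟨r, hl.1, l'.prod, hl.2.prod_mem_closure, ?_, List.prod_cons⟩
    have h1 : len R l'.prod ≤ q := by
      have := len_le_of_word hl.2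
      simp only [List.length_cons, add_left_inj] at hlen
      omega
    have h2 := len_gen_mul_le hR hl.1 hl.2.prod_mem_closure
    rw [← List.prod_cons, hq] at h2
    omega

/-- Right decomposition of an element of positive length. -/
theorem exists_right_decomp (hR : Invol R) {w : W} (hw : w ∈ Subgroup.closure R) {q : ℕ}
    (hq : len R w = q + 1) :
    ∃ r ∈ R, ∃ w' ∈ Subgroup.closure R, len R w' = q ∧ w = w' * r := by
  have hw' : w⁻¹ ∈ Subgroup.closure R := Subgroup.inv_mem _ hw
  have hq' : len R w⁻¹ = q + 1 := by rw [len_inv hR hw, hq]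
  obtain ⟨r, hr, w', hw'c, hlen, heq⟩ := exists_left_decomp hR hw' hq'
  refine ⟨r, hr, w'⁻¹, Subgroup.inv_mem _ hw'c, by rw [len_inv hR hw'c, hlen], ?_⟩
  have : w = (r * w')⁻¹ := by rw [← heq, inv_inv]
  rw [this, mul_inv_rev, hR.inv_eq hr]

end

end Cfsg.Agent.Helper7.InvWords
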