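import Mathlib
import Cfsg.Agent.Helper7.InvolutionWords

set_option autoImplicit false

/-!
Consequences of the exchange property in a group generated by involutions:
deletion, parabolic subgroups.
-/

namespace Cfsg.Agent.Helper7.InvWords

variable {W : Type*} [Group W]

/-- The (left) exchange property for `(W, R)`. -/
def Exchange (R : Set W) : Prop :=
  ∀ (l : List W) (r : W), IsWord R l → r ∈ R → l.length = len R l.prod →
    len R (r * l.prod) ≤ len R l.prod → ∃ i < l.length, r * l.prod = (l.eraseIdx i).prod

theorem IsWord.sublist {R : Set W} {l l' : List W} (h : l'.Sublist l) (hl : IsWord R l) : IsWord R l' :=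
  fun x hx => hl x (h.subset hx)

/-- A word is reduced. -/
def IsReduced (R : Set W) (l : List W) : Prop := l.length = len R l.prod

theorem IsReduced.tail {R : Set W} (hR : Invol R) {r : W} {l : List W} (hw : IsWord R (r :: l))
    (h : IsReduced R (r :: l)) : IsReduced R l := by
  unfold IsReduced at h ⊢
  rw [isWord_cons] at hw
  have h1 := len_le_of_word hw.2
  have h2 := len_gen_mul_le hR hw.1 hw.2.prod_mem_closure
  rw [List.prod_cons] at h
  simp only [List.length_cons] at h
  omega

/-- Deletion: a non-reduced word can be shortened by two letters. -/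
theorem deletion {R : Set W} (hR : Invol R) (hE : Exchange R) :
    ∀ l : List W, IsWord R l → len R l.prod < l.length →
      ∃ l' : List W, l'.Sublist l ∧ l'.length + 2 = l.length ∧ l'.prod = l.prod := by
  intro l
  induction l with
  | nil => intro _ h; simp at h
  | cons r l ih =>
    intro hw hlt
    have hw' := isWord_cons.mp hw
    by_cases hred : IsReduced R l
    · -- l reduced, r :: l not
      have hle : len R (r * l.prod) ≤ len R l.prod := by
        rw [List.prod_cons] at hlt
        simp only [List.length_cons] at hlt
        unfold IsReduced at hred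
        omega
      obtain ⟨i, hi, heq⟩ := hE l r hw'.2 hw'.1 hred hle
      refine ⟨l.eraseIdx i, ?_, ?_, ?_⟩
      · exact (List.eraseIdx_sublist l i).trans (List.sublist_cons_self r l)
      · rw [List.length_eraseIdx_of_lt hi]
        simp only [List.length_cons]
        omega
      · rw [List.prod_cons, heq]
    · -- l not reduced
      have hlt' : len R l.prod < l.length := by
        have := len_le_of_word hw'.2
        unfold IsReduced at hred
        omega
      obtain ⟨l', hsub, hlen, hprod⟩ := ih hw'.2 hlt'
      refine ⟨r :: l', hsub.cons_cons r, ?_, ?_⟩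
      · simp only [List.length_cons]; omega
      · rw [List.prod_cons, List.prod_cons, hprod]

/-- For `R' ⊆ R`, the `R'`-length and the `R`-length agree on the subgroup generated by `R'`. -/
theorem len_sub_eq {R R' : Set W} (hR : Invol R) (hE : Exchange R) (hsub : R' ⊆ R) {w : W}
    (hw : w ∈ Subgroup.closure R') : len R' w = len R w := by
  have hR' : Invol R' := fun r hr => hR r (hsub hr)
  have hwR : w ∈ Subgroup.closure R := Subgroup.closure_mono hsub hw
  apply le_antisymm
  · -- shortest R'-word is R-reduced
    obtain ⟨l, hl, hlw, hlen⟩ := exists_reduced_word hR' hw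
    by_contra hcon
    have hlt : len R l.prod < l.length := by rw [hlw, hlen]; omega
    obtain ⟨l', hs, hlen', hprod⟩ := deletion hR hE l (hl.mono hsub) hlt
    have := len_le_of_word (IsWord.sublist hs hl)
    rw [hprod, hlw] at this
    omega
  · obtain ⟨l, hl, hlw, hlen⟩ := exists_reduced_word hR' hw
    rw [← hlen, ← hlw]
    exact len_le_of_word (hl.mono hsub)

/-- A generator lying in the subgroup generated by `R' ⊆ R` lies in `R'`. -/
theorem gen_mem_of_mem_closure {R R' : Set W} (hR : Invol R) (hE : Exchange R) (hsub : R' ⊆ R)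
    (h1 : (1 : W) ∉ R) {r : W} (hr : r ∈ R) (hrc : r ∈ Subgroup.closure R') : r ∈ R' := by
  have hR' : Invol R' := fun r hr => hR r (hsub hr)
  have hlen : len R' r = 1 := by
    rw [len_sub_eq hR hE hsub hrc]
    exact len_gen hR hr (fun h => h1 (h ▸ hr))
  obtain ⟨l, hl, hlw, hll⟩ := exists_reduced_word hR' hrc
  rw [hlen] at hll
  obtain ⟨a, rfl⟩ := List.length_eq_one_iff.mp hll
  simp only [List.prod_cons, List.prod_nil, mul_one] at hlw
  rw [← hlw]
  exact hl a (by simp)

/-- Every reduced `R`-word of an element of the subgroup generated by `R' ⊆ R` is an `R'`-word. -/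
theorem isWord_of_reduced_of_mem_closure {R R' : Set W} (hR : Invol R) (hE : Exchange R)
    (hsub : R' ⊆ R) (h1 : (1 : W) ∉ R) :
    ∀ l : List W, IsWord R l → IsReduced R l → l.prod ∈ Subgroup.closure R' → IsWord R' l := by
  have hR' : Invol R' := fun r hr => hR r (hsub hr)
  intro l
  induction l with
  | nil => intro _ _ _; exact isWord_nil R'
  | cons r l ih =>
    intro hw hred hmem
    have hw' := isWord_cons.mp hw
    have hredl : IsReduced R l := hred.tail hR hw
    -- a reduced R'-word m for w = (r :: l).prod
    obtain ⟨m, hm, hmw, hmlen⟩ := exists_reduced_word hR' hmem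
    have hmred : IsReduced R m := by
      unfold IsReduced
      rw [hmw, hmlen, len_sub_eq hR hE hsub hmem]
    -- len (r * w) < len w
    have hle : len R (r * m.prod) ≤ len R m.prod := by
      rw [hmw, List.prod_cons, ← mul_assoc, hR r hw'.1, one_mul]
      unfold IsReduced at hred hredl
      rw [List.prod_cons] at hred
      simp only [List.length_cons] at hred
      omega
    obtain ⟨i, _, heq⟩ := hE m r (hm.mono hsub) hw'.1 hmred hle
    have hrmem : r ∈ Subgroup.closure R' := by
      have : r = (m.eraseIdx i).prod * m.prod⁻¹ := by rw [← heq]; group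
      rw [this]
      exact Subgroup.mul_mem _ (IsWord.sublist (List.eraseIdx_sublist m i) hm).prod_mem_closure
        (Subgroup.inv_mem _ hm.prod_mem_closure)
    have hrR' : r ∈ R' := gen_mem_of_mem_closure hR hE hsub h1 hw'.1 hrmem
    have hlmem : l.prod ∈ Subgroup.closure R' := by
      have : l.prod = r⁻¹ * (r :: l).prod := by rw [List.prod_cons]; group
      rw [this]
      exact Subgroup.mul_mem _ (Subgroup.inv_mem _ hrmem) hmem
    exact isWord_cons.mpr ⟨hrR', ih hw'.2 hredl hlmem⟩

/-- Intersection of parabolic subgroups. -/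
theorem closure_inter {R R₁ R₂ : Set W} (hR : Invol R) (hE : Exchange R) (h₁ : R₁ ⊆ R) (h₂ : R₂ ⊆ R)
    (h1 : (1 : W) ∉ R) :
    Subgroup.closure R₁ ⊓ Subgroup.closure R₂ = Subgroup.closure (R₁ ∩ R₂) := by
  apply le_antisymm
  · intro w ⟨hw1, hw2⟩
    have hwR : w ∈ Subgroup.closure R := Subgroup.closure_mono h₁ hw1
    obtain ⟨l, hl, hlw, hlen⟩ := exists_reduced_word hR hwR
    have hred : IsReduced R l := by unfold IsReduced; rw [hlw, hlen]
    have a1 := isWord_of_reduced_of_mem_closure hR hE h₁ h1 l hl hred (hlw ▸ hw1)
    have a2 := isWord_of_reduced_of_mem_closure hR hE h₂ h1 l hl hred (hlw ▸ hw2)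
    rw [← hlw]
    exact IsWord.prod_mem_closure (fun x hx => ⟨a1 x hx, a2 x hx⟩)
  · exact le_inf (Subgroup.closure_mono Set.inter_subset_left)
      (Subgroup.closure_mono Set.inter_subset_right)

end Cfsg.Agent.Helper7.InvWords
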