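import Mathlib
import Cfsg.Agent.Helper7.BNBasic
import Cfsg.Agent.Helper7.ExchangeWords

set_option autoImplicit false

/-!
The Weyl group `W = N / (B ⊓ N)` of a (B,N)-pair and the double cosets `C(w)`.
-/

namespace Cfsg.Agent.Helper7.BN

open Cfsg DoubleCoset InvWords
open scoped Pointwise

variable {G : Type*} [Group G] (P : Cfsg.BNPair G)

/-- `T = B ⊓ N` as a subgroup of `N`. -/
abbrev TN : Subgroup P.N := (P.B ⊓ P.N).subgroupOf P.N

instance TN_normal : (TN P).Normal := by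
  constructor
  intro t ht n
  rw [Subgroup.mem_subgroupOf] at ht ⊢
  exact conj_mem_T P n.2 ht

/-- The Weyl group. -/
abbrev W : Type _ := P.N ⧸ TN P

/-- The projection `N → W`. -/
def proj : P.N →* W P := QuotientGroup.mk' (TN P)

theorem proj_surjective : Function.Surjective (proj P) := QuotientGroup.mk'_surjective _

theorem proj_eq_iff {n n' : P.N} : proj P n = proj P n' ↔ (n : G)⁻¹ * n' ∈ P.B := by
  unfold proj
  rw [QuotientGroup.mk'_apply, QuotientGroup.mk'_apply, QuotientGroup.eq, Subgroup.mem_subgroupOf]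
  constructor
  · intro h; exact h.1
  · intro h
    exact ⟨h, P.N.mul_mem (P.N.inv_mem n.2) n'.2⟩

theorem proj_eq_one_iff {n : P.N} : proj P n = 1 ↔ (n : G) ∈ P.B := by
  rw [← map_one (proj P), proj_eq_iff]
  constructor
  · intro h
    have := P.B.inv_mem h
    simpa using this
  · intro h
    have := P.B.inv_mem h
    simpa using this

/-- The double coset attached to an element of the Weyl group. -/
def CW (w : W P) : Set G := C P ((Quotient.out w : P.N) : G)

theorem CW_proj (n : P.N) : CW P (proj P n) = C P (n : G) := by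
  unfold CW
  have h : proj P (Quotient.out (proj P n)) = proj P n := Quotient.out_eq (proj P n)
  rw [proj_eq_iff] at h
  have e : (n : G) = ((Quotient.out (proj P n) : P.N) : G) * (((Quotient.out (proj P n) : P.N) : G)⁻¹ * n) := by
    group
  conv_rhs => rw [e]
  exact (C_mul_right_B P h).symm

theorem CW_one : CW P 1 = (P.B : Set G) := by
  rw [← map_one (proj P), CW_proj]
  exact C_one P

theorem exists_mem_CW (g : G) : ∃ w : W P, g ∈ CW P w := by
  obtain ⟨n, hn, hg⟩ := bruhat_exists P g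
  exact ⟨proj P ⟨n, hn⟩, by rw [CW_proj]; exact hg⟩

theorem CW_nonempty (w : W P) : ∃ g : G, g ∈ CW P w := ⟨_, self_mem_C P _⟩

theorem CW_eq_of_mem {w w' : W P} {g : G} (h : g ∈ CW P w) (h' : g ∈ CW P w') : CW P w = CW P w' := by
  unfold CW at *
  rw [← C_eq_of_mem P h, ← C_eq_of_mem P h']

theorem CW_inv {w : W P} {g : G} (h : g ∈ CW P w) : g⁻¹ ∈ CW P w⁻¹ := by
  obtain ⟨n, rfl⟩ := proj_surjective P w
  rw [← map_inv, CW_proj] at *
  exact mem_C_inv P h

theorem CW_mul_B {w : W P} {g b : G} (h : g ∈ CW P w) (hb : b ∈ P.B) : g * b ∈ CW P w :=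
  mul_mem_C_right P hb h

theorem B_mul_CW {w : W P} {g b : G} (h : g ∈ CW P w) (hb : b ∈ P.B) : b * g ∈ CW P w :=
  mul_mem_C_left P hb h

/-- Decomposition of an element of `C(a b)`. -/
theorem CW_mul_decomp {a b : W P} {y : G} (hy : y ∈ CW P (a * b)) :
    ∃ y' ∈ CW P a, ∃ z ∈ CW P b, y = y' * z := by
  obtain ⟨na, rfl⟩ := proj_surjective P a
  obtain ⟨nb, rfl⟩ := proj_surjective P b
  rw [← map_mul, CW_proj, mem_C] at hy
  obtain ⟨b1, hb1, b2, hb2, rfl⟩ := hy
  refine ⟨b1 * na, ?_, nb * b2, ?_, ?_⟩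
  · rw [CW_proj]; exact mul_mem_C_left P hb1 (self_mem_C P _)
  · rw [CW_proj]; exact mul_mem_C_right P hb2 (self_mem_C P _)
  · simp only [Subgroup.coe_mul]; group

/-- `C(a) C(b) ⊇ C(a b)`: products of representatives. -/
theorem mul_mem_CW_of_rep {a b : W P} : ∃ x ∈ CW P a, ∃ y ∈ CW P b, x * y ∈ CW P (a * b) := by
  obtain ⟨na, rfl⟩ := proj_surjective P a
  obtain ⟨nb, rfl⟩ := proj_surjective P b
  refine ⟨na, ?_, nb, ?_, ?_⟩
  · rw [CW_proj]; exact self_mem_C P _
  · rw [CW_proj]; exact self_mem_C P _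
  · rw [← map_mul, CW_proj]; exact self_mem_C P _

/-- The images in `W` of the elements of a set `J ⊆ G` lying in `N`. -/
def Rset (J : Set G) : Set (W P) := (proj P) '' {n : P.N | (n : G) ∈ J}

theorem Rset_mono {J K : Set G} (h : J ⊆ K) : Rset P J ⊆ Rset P K := by
  rintro w ⟨n, hn, rfl⟩
  exact ⟨n, h hn, rfl⟩

theorem mem_Rset_of_mem {J : Set G} {s : G} (hs : s ∈ J) (hsN : s ∈ P.N) : proj P ⟨s, hsN⟩ ∈ Rset P J :=
  ⟨⟨s, hsN⟩, hs, rfl⟩

/-- The generating involutions of `W`. -/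
abbrev RS : Set (W P) := Rset P P.S

theorem invol_RS : Invol (RS P) := by
  rintro r ⟨n, hn, rfl⟩
  rw [← map_mul, proj_eq_one_iff]
  exact P.sq_mem _ hn

theorem one_not_mem_RS : (1 : W P) ∉ RS P := by
  rintro ⟨n, hn, h⟩
  rw [proj_eq_one_iff] at h
  exact S_not_mem_B P hn h

theorem Rset_inter {J K : Set G} (hJ : J ⊆ P.S) (hK : K ⊆ P.S) :
    Rset P J ∩ Rset P K = Rset P (J ∩ K) := by
  ext w
  constructor
  · rintro ⟨⟨n, hn, rfl⟩, ⟨n', hn', h⟩⟩
    rw [proj_eq_iff] at h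
    have : (n' : G) = n := P.inj _ (hK hn') _ (hJ hn) h
    refine ⟨n, ⟨hn, ?_⟩, rfl⟩
    change (n : G) ∈ K
    rw [← this]; exact hn'
  · rintro ⟨n, ⟨h1, h2⟩, rfl⟩
    exact ⟨⟨n, h1, rfl⟩, ⟨n, h2, rfl⟩⟩

/-- Membership in `closure J ⊔ T` in terms of the Weyl group, for `J ⊆ N`. -/
theorem mem_closure_sup_T_iff {J : Set G} (hJ : J ⊆ (P.N : Set G)) (n : P.N) :
    (n : G) ∈ Subgroup.closure J ⊔ (P.B ⊓ P.N) ↔ proj P n ∈ Subgroup.closure (Rset P J) := by
  constructor
  · intro h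
    let K : Subgroup P.N := (Subgroup.closure (Rset P J)).comap (proj P)
    have hle : Subgroup.closure J ⊔ (P.B ⊓ P.N) ≤ K.map P.N.subtype := by
      apply sup_le
      · rw [Subgroup.closure_le]
        intro s hs
        refine ⟨⟨s, hJ hs⟩, ?_, rfl⟩
        change proj P ⟨s, hJ hs⟩ ∈ Subgroup.closure (Rset P J)
        exact Subgroup.subset_closure (mem_Rset_of_mem P hs (hJ hs))
      · intro t ht
        refine ⟨⟨t, ht.2⟩, ?_, rfl⟩
        change proj P ⟨t, ht.2⟩ ∈ Subgroup.closure (Rset P J)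
        have : proj P ⟨t, ht.2⟩ = 1 := (proj_eq_one_iff P).mpr ht.1
        rw [this]
        exact Subgroup.one_mem _
    obtain ⟨k, hk, hkn⟩ := hle h
    have : k = n := Subtype.ext hkn
    rw [← this]
    exact hk
  · intro h
    let L : Subgroup P.N := (Subgroup.closure J ⊔ (P.B ⊓ P.N)).subgroupOf P.N
    have hle : Subgroup.closure (Rset P J) ≤ L.map (proj P) := by
      rw [Subgroup.closure_le]
      rintro w ⟨n', hn', rfl⟩
      refine ⟨n', ?_, rfl⟩
      change (n' : G) ∈ Subgroup.closure J ⊔ (P.B ⊓ P.N)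
      exact (le_sup_left : Subgroup.closure J ≤ _) (Subgroup.subset_closure hn')
    obtain ⟨l, hl, hln⟩ := hle h
    rw [proj_eq_iff] at hln
    have hl' : (l : G) ∈ Subgroup.closure J ⊔ (P.B ⊓ P.N) := hl
    have ht : (l : G)⁻¹ * n ∈ Subgroup.closure J ⊔ (P.B ⊓ P.N) :=
      (le_sup_right : (P.B ⊓ P.N) ≤ _) ⟨hln, P.N.mul_mem (P.N.inv_mem l.2) n.2⟩
    have := Subgroup.mul_mem _ hl' ht
    simpa using this

theorem closure_RS : Subgroup.closure (RS P) = ⊤ := by
  rw [eq_top_iff]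
  intro w _
  obtain ⟨n, rfl⟩ := proj_surjective P w
  rw [← mem_closure_sup_T_iff P P.subset n, P.closure_sup]
  exact n.2

theorem mem_closure_RS (w : W P) : w ∈ Subgroup.closure (RS P) := by
  rw [closure_RS]; exact Subgroup.mem_top w

/-- The double coset axiom in `W`-form, left version. -/
theorem CW_T3_left {r w : W P} (hr : r ∈ RS P) {x y : G} (hx : x ∈ CW P r) (hy : y ∈ CW P w) :
    x * y ∈ CW P (r * w) ∪ CW P w := by
  obtain ⟨s, hs, rfl⟩ := hr
  obtain ⟨n, rfl⟩ := proj_surjective P w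
  rw [← map_mul, CW_proj, CW_proj] at *
  exact C_mul_C_subset P hs n.2 hx hy

/-- The double coset axiom in `W`-form, right version. -/
theorem CW_T3_right {r w : W P} (hr : r ∈ RS P) {x y : G} (hx : x ∈ CW P w) (hy : y ∈ CW P r) :
    x * y ∈ CW P (w * r) ∪ CW P w := by
  obtain ⟨s, hs, rfl⟩ := hr
  obtain ⟨n, rfl⟩ := proj_surjective P w
  rw [← map_mul, CW_proj, CW_proj] at *
  exact C_mul_C_subset_right P hs n.2 hx hy

/-- `C(r) C(r)` meets `C(r)`. -/
theorem exists_mul_mem_CW_self {r : W P} (hr : r ∈ RS P) :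
    ∃ x ∈ CW P r, ∃ y ∈ CW P r, x * y ∈ CW P r := by
  obtain ⟨s, hs, rfl⟩ := hr
  have hsS : (s : G) ∈ P.S := hs
  -- some `s b s ∉ B`
  have hex : ∃ b ∈ P.B, (s : G) * b * s ∉ P.B := by
    by_contra hcon
    have hall : ∀ b ∈ P.B, (s : G) * b * s ∈ P.B := by
      intro b hb
      by_contra h
      exact hcon ⟨b, hb, h⟩
    apply P.conj_ne s hsS
    ext x
    constructor
    · rintro ⟨b, hb, rfl⟩
      exact hall b hb
    · intro hx
      -- x = s (s⁻¹ x s⁻¹) s and s⁻¹ x s⁻¹ = (s s)⁻¹ (s x s) (s s)⁻¹ ∈ B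
      refine ⟨(s : G)⁻¹ * x * (s : G)⁻¹, ?_, by group⟩
      have e : (s : G)⁻¹ * x * (s : G)⁻¹ = ((s : G) * s)⁻¹ * ((s : G) * x * s) * ((s : G) * s)⁻¹ := by group
      rw [e]
      exact P.B.mul_mem (P.B.mul_mem (P.B.inv_mem (P.sq_mem s hsS)) (hall x hx))
        (P.B.inv_mem (P.sq_mem s hsS))
  obtain ⟨b, hb, hnb⟩ := hex
  refine ⟨(s : G) * b, ?_, (s : G), ?_, ?_⟩
  · rw [CW_proj]; exact mul_mem_C_right P hb (self_mem_C P _)
  · rw [CW_proj]; exact self_mem_C P _
  · have h := T3_left P hsS s.2 hb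
    rw [CW_proj]
    rcases h with h | h
    · exfalso
      rw [C_of_mem_B P (P.sq_mem s hsS)] at h
      exact hnb h
    · exact h

end Cfsg.Agent.Helper7.BN
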