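import Mathlib
import Cfsg.Agent.Helper7.BNWeyl

set_option autoImplicit false

/-!
Bruhat uniqueness, the multiplication rules for double cosets and the exchange property.
-/

namespace Cfsg.Agent.Helper7.BN

open Cfsg DoubleCoset InvWords
open scoped Pointwise

variable {G : Type*} [Group G] (P : Cfsg.BNPair G)



theorem RS_ne_one {r : W P} (hr : r ∈ RS P) : r ≠ 1 := fun h => one_not_mem_RS P (h ▸ hr)

theorem RS_mul_self {r : W P} (hr : r ∈ RS P) : r * r = 1 := invol_RS P r hr

theorem RS_inv {r : W P} (hr : r ∈ RS P) : r⁻¹ = r := (invol_RS P).inv_eq hr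

/-- Bruhat uniqueness: distinct Weyl group elements give distinct double cosets. -/
theorem CW_injective_aux : ∀ (q : ℕ) (w w' : W P), len (RS P) w = q → q ≤ len (RS P) w' → CW P w = CW P w' → w = w' := by
  intro q
  induction q with
  | zero =>
    intro w w' hw _ h
    have hw1 : w = 1 := (len_eq_zero_iff (invol_RS P) (mem_closure_RS P w)).mp hw
    subst hw1
    rw [CW_one] at h
    obtain ⟨n, rfl⟩ := proj_surjective P w'
    rw [CW_proj] at h
    have : (n : G) ∈ (P.B : Set G) := h ▸ self_mem_C P _
    exact ((proj_eq_one_iff P).mpr this).symm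
  | succ q ih =>
    intro w w' hw hle h
    obtain ⟨r, hr, w'', _, hlen, rfl⟩ := exists_left_decomp (invol_RS P) (mem_closure_RS P w) hw
    -- pick y ∈ C(w''); then r̃ y ∈ C(r w'') = C(w')
    obtain ⟨x, hx, y, hy, hxy⟩ := mul_mem_CW_of_rep P (a := r) (b := w'')
    rw [h] at hxy
    -- y = x⁻¹ (x y) ∈ C(r) C(w') ⊆ C(r w') ∪ C(w')
    have hx' : x⁻¹ ∈ CW P r := by
      have := CW_inv P hx
      rwa [RS_inv P hr] at this
    have hmem := CW_T3_left P hr hx' hxy
    rw [inv_mul_cancel_left] at hmem
    have hlen_rw' : q ≤ len (RS P) (r * w') := by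
      have := len_le_gen_mul (invol_RS P) hr (mem_closure_RS P w')
      omega
    rcases hmem with hmem | hmem
    · have := ih w'' (r * w') hlen hlen_rw' (CW_eq_of_mem P hy hmem)
      rw [this, ← mul_assoc, RS_mul_self P hr, one_mul]
    · have := ih w'' w' hlen (by omega) (CW_eq_of_mem P hy hmem)
      exfalso
      rw [← this] at hle
      omega

theorem CW_injective {w w' : W P} (h : CW P w = CW P w') : w = w' := by
  rcases le_total (len (RS P) w) (len (RS P) w') with hle | hle
  · exact CW_injective_aux P _ w w' rfl hle h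
  · exact (CW_injective_aux P _ w' w rfl hle h.symm).symm

theorem eq_of_mem_CW {w w' : W P} {g : G} (h : g ∈ CW P w) (h' : g ∈ CW P w') : w = w' :=
  CW_injective P (CW_eq_of_mem P h h')

/-- `C(r) C(w) = C(r w)`. -/
def Good (r w : W P) : Prop := ∀ x ∈ CW P r, ∀ y ∈ CW P w, x * y ∈ CW P (r * w)

theorem not_good_both {r w : W P} (hr : r ∈ RS P) (h1 : Good P r w) (h2 : Good P r (r * w)) : False := by
  obtain ⟨x, hx, x', hx', hxx'⟩ := exists_mul_mem_CW_self P hr
  obtain ⟨y, hy⟩ := CW_nonempty P w
  have a1 : x' * y ∈ CW P (r * w) := h1 x' hx' y hy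
  have a2 : x * (x' * y) ∈ CW P (r * (r * w)) := h2 x hx _ a1
  rw [← mul_assoc r r w, RS_mul_self P hr, one_mul, ← mul_assoc] at a2
  have a3 : (x * x') * y ∈ CW P (r * w) := h1 _ hxx' y hy
  have := eq_of_mem_CW P a2 a3
  have hr1 : r = 1 := by
    have h := congrArg (· * w⁻¹) this
    simp only [mul_inv_cancel, mul_assoc] at h
    simpa using h.symm
  exact RS_ne_one P hr hr1

/-- If `ℓ(r w) ≥ ℓ(w)` then `C(r) C(w) = C(r w)`. -/
theorem good_of_len_le : ∀ (q : ℕ) (r w : W P), r ∈ RS P → len (RS P) w = q → len (RS P) w ≤ len (RS P) (r * w) → Good P r w := by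
  intro q
  induction q with
  | zero =>
    intro r w hr hw _
    have hw1 : w = 1 := (len_eq_zero_iff (invol_RS P) (mem_closure_RS P w)).mp hw
    subst hw1
    intro x hx y hy
    rw [CW_one] at hy
    rw [mul_one]
    exact CW_mul_B P hx hy
  | succ q ih =>
    intro r w hr hw hle
    obtain ⟨t, ht, w', _, hlen, rfl⟩ := exists_right_decomp (invol_RS P) (mem_closure_RS P w) hw
    have hle' : len (RS P) w' ≤ len (RS P) (r * w') := by
      by_contra hcon
      have := len_mul_gen_le (invol_RS P) ht (mem_closure_RS P (r * w'))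
      rw [mul_assoc] at this
      omega
    have hgood : Good P r w' := ih r w' hr hlen hle'
    intro x hx y hy
    obtain ⟨y', hy', z, hz, rfl⟩ := CW_mul_decomp P hy
    have h1 := CW_T3_left P hr hx (show y' * z ∈ CW P (w' * t) from hy)
    have h2 : x * y' ∈ CW P (r * w') := hgood x hx y' hy'
    have h3 := CW_T3_right P ht h2 hz
    have e1 : x * (y' * z) = x * y' * z := (mul_assoc _ _ _).symm
    have e2 : r * (w' * t) = r * w' * t := (mul_assoc _ _ _).symm
    rw [e1, e2] at h1 ⊢
    rcases h1 with h1 | h1
    · exact h1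
    · rcases h3 with h3 | h3
      · exact h3
      · exfalso
        have := eq_of_mem_CW P h1 h3
        -- w' t = r w'  so  r (w' t) = w'
        have e : r * (w' * t) = w' := by
          rw [this, ← mul_assoc, RS_mul_self P hr, one_mul]
        rw [e] at hle
        omega

theorem good_of_le {r w : W P} (hr : r ∈ RS P) (h : len (RS P) w ≤ len (RS P) (r * w)) : Good P r w :=
  good_of_len_le P _ r w hr rfl h

/-- The lengths of `w` and `r w` differ. -/
theorem len_mul_ne {r w : W P} (hr : r ∈ RS P) : len (RS P) (r * w) ≠ len (RS P) w := by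
  intro h
  have h1 : Good P r w := good_of_le P hr (le_of_eq h.symm)
  have h2 : Good P r (r * w) := by
    apply good_of_le P hr
    rw [← mul_assoc, RS_mul_self P hr, one_mul]
    exact le_of_eq h
  exact not_good_both P hr h1 h2

theorem good_iff {r w : W P} (hr : r ∈ RS P) : Good P r w ↔ len (RS P) w < len (RS P) (r * w) := by
  constructor
  · intro h
    by_contra hcon
    have hlt : len (RS P) (r * w) ≤ len (RS P) w := by omega
    have h2 : Good P r (r * w) := by
      apply good_of_le P hr
      rw [← mul_assoc, RS_mul_self P hr, one_mul]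
      exact hlt
    exact not_good_both P hr h h2
  · intro h
    exact good_of_le P hr (le_of_lt h)

/-- If `ℓ(r w) < ℓ(w)` then `C(w) ⊆ C(r) C(w)`. -/
theorem exists_mul_mem_of_len_lt {r w : W P} (hr : r ∈ RS P) (h : len (RS P) (r * w) < len (RS P) w) :
    ∃ x ∈ CW P r, ∃ y ∈ CW P w, x * y ∈ CW P w := by
  have hgood : Good P r (r * w) := by
    apply good_of_le P hr
    rw [← mul_assoc, RS_mul_self P hr, one_mul]
    exact le_of_lt h
  obtain ⟨x₁, hx₁, x₂, hx₂, hx₁₂⟩ := exists_mul_mem_CW_self P hr
  obtain ⟨y'', hy''⟩ := CW_nonempty P (r * w)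
  have e : r * (r * w) = w := by rw [← mul_assoc, RS_mul_self P hr, one_mul]
  have a1 : x₂ * y'' ∈ CW P w := by
    have := hgood x₂ hx₂ y'' hy''
    rwa [e] at this
  have a2 : (x₁ * x₂) * y'' ∈ CW P w := by
    have := hgood _ hx₁₂ y'' hy''
    rwa [e] at this
  exact ⟨x₁, hx₁, x₂ * y'', a1, by rw [← mul_assoc]; exact a2⟩

/-- Exchange, one step: if `C(r) C(w) = C(r w)` but not for `w t`, then `w t = r w`. -/
theorem exchange_step {r t w : W P} (hr : r ∈ RS P) (ht : t ∈ RS P) (h1 : Good P r w)
    (h2 : ¬ Good P r (w * t)) : w * t = r * w := by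
  unfold Good at h2
  push Not at h2
  obtain ⟨x, hx, y, hy, hxy⟩ := h2
  have h3 := CW_T3_left P hr hx hy
  have h3' : x * y ∈ CW P (w * t) := by
    rcases h3 with h3 | h3
    · exact absurd h3 hxy
    · exact h3
  obtain ⟨y', hy', z, hz, rfl⟩ := CW_mul_decomp P hy
  have h4 : x * y' ∈ CW P (r * w) := h1 x hx y' hy'
  have h5 := CW_T3_right P ht h4 hz
  have e1 : x * (y' * z) = x * y' * z := (mul_assoc _ _ _).symm
  have e2 : r * (w * t) = r * w * t := (mul_assoc _ _ _).symm
  rw [e1] at hxy h3'
  rw [e2] at hxy
  rcases h5 with h5 | h5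
  · exact absurd h5 hxy
  · exact eq_of_mem_CW P h3' h5

/-- The exchange property holds in the Weyl group of a (B,N)-pair. -/
theorem exchange_RS : Exchange (RS P) := by
  intro l
  induction l using List.reverseRecOn with
  | nil =>
    intro r _ hr _ hle
    exfalso
    simp only [List.prod_nil, mul_one] at hle
    rw [len_one] at hle
    have := len_gen (invol_RS P) hr (RS_ne_one P hr)
    omega
  | append_singleton l t ih =>
    intro r hw hr hred hle
    have hw' := isWord_append.mp hw
    have ht : t ∈ RS P := hw'.2 t (by simp)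
    have hlt : len (RS P) (r * (l ++ [t]).prod) < len (RS P) (l ++ [t]).prod :=
      lt_of_le_of_ne hle (len_mul_ne P hr)
    have hprod : (l ++ [t]).prod = l.prod * t := by simp
    -- l is reduced
    have hredl : l.length = len (RS P) l.prod := by
      have h1 := len_le_of_word hw'.1
      have h2 := len_mul_gen_le (invol_RS P) ht (mem_closure_RS P l.prod)
      rw [hprod] at hred
      simp only [List.length_append, List.length_cons, List.length_nil] at hred
      omega
    by_cases hcase : len (RS P) (r * l.prod) ≤ len (RS P) l.prod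
    · obtain ⟨i, hi, heq⟩ := ih r hw'.1 hr hredl hcase
      refine ⟨i, by simp only [List.length_append, List.length_cons, List.length_nil]; omega, ?_⟩
      rw [List.eraseIdx_append_of_lt_length hi, hprod, ← mul_assoc, heq]
      simp
    · have hgood : Good P r l.prod := good_of_le P hr (by omega)
      have hngood : ¬ Good P r (l.prod * t) := by
        rw [good_iff P hr, ← hprod]
        omega
      have := exchange_step P hr ht hgood hngood
      refine ⟨l.length, by simp, ?_⟩
      rw [hprod, ← mul_assoc, ← this, mul_assoc, RS_mul_self P ht, mul_one]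
      rw [List.eraseIdx_append_of_length_le (le_refl _)]
      simp

end Cfsg.Agent.Helper7.BN
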