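import Mathlib
import Cfsg.Agent.Helper7.ChevBorel

set_option autoImplicit false
set_option linter.unusedSectionVars false
set_option linter.unusedVariables false

/-!
The diagonal subgroup `H` consists of the products `h_{p_1}(c_1) ⋯ h_{p_l}(c_l)`.
-/

namespace Cfsg.Agent.Helper7.Chev

open Cfsg Cfsg.Lie Matrix

variable {D : ChevalleyDatum} {F : Type*} [Field F]

/-- The diagonal entries of the torus element with parameters `c` along a list of fundamental roots. -/
def tEntry (D : ChevalleyDatum) (L : List ℕ) (c : ℕ → F) : D.Idx → F :=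
  Sum.elim (fun _ => (1 : F)) (fun s : Fin D.nroots => (L.map (fun i => c i ^ D.cartan i s.val)).prod)

/-- The torus element with parameters `c`. -/
def tMat (D : ChevalleyDatum) (c : ℕ → F) : Matrix D.Idx D.Idx F :=
  Matrix.diagonal (tEntry D (List.range D.rank) c)

theorem wordMat_flatMap (L : List ℕ) (f : ℕ → List (ℕ × F)) :
    D.wordMat F (L.flatMap f) = (L.map (fun i => D.wordMat F (f i))).prod := by
  induction L with
  | nil => simp [wordMat_nil]
  | cons i L ih => rw [List.flatMap_cons, wordMat_append, ih, List.map_cons, List.prod_cons]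

section torus

variable (hG : Good1 D)

include hG in
theorem prod_hMat_simple (L : List ℕ) (hL : ∀ i ∈ L, i < D.rank) (c : ℕ → F)
    (hc : ∀ i < D.rank, c i ≠ 0) :
    (L.map (fun i => D.hMat F (D.simple i) (c i))).prod = Matrix.diagonal (tEntry D L c) := by
  induction L with
  | nil =>
    rw [List.map_nil, List.prod_nil, ← Matrix.diagonal_one]
    congr 1
    funext v
    rcases v with j | s <;> simp [tEntry]
  | cons i L ih =>
    have hi : i < D.rank := hL i (List.mem_cons_self)
    rw [List.map_cons, List.prod_cons, ih (fun j hj => hL j (List.mem_cons_of_mem _ hj)),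
      hMat_eq_diagonal hG (hG.simple_lt hi) (hc i hi), Matrix.diagonal_mul_diagonal]
    congr 1
    funext v
    rcases v with j | s
    · simp [tEntry]
    · simp only [tEntry, Sum.elim_inr, List.map_cons, List.prod_cons]
      rw [pairing_simple hG hi]

include hG in
/-- The word of S1034 has the torus matrix. -/
theorem wordMat_torus (c : ℕ → F) (hc : ∀ i < D.rank, c i ≠ 0) :
    D.wordMat F ((List.range D.rank).flatMap fun i => D.hWord (D.simple i) (c i)) = tMat D c := by
  rw [wordMat_flatMap]
  exact prod_hMat_simple hG _ (fun i hi => List.mem_range.mp hi) c hc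

theorem zpow_list_sum {t : F} (ht : t ≠ 0) (L : List ℤ) :
    t ^ L.sum = (L.map (fun a => t ^ a)).prod := by
  induction L with
  | nil => simp
  | cons a L ih => rw [List.sum_cons, zpow_add₀ ht, ih, List.map_cons, List.prod_cons]

include hG in
/-- `h_r(t)` is a torus matrix. -/
theorem hMat_eq_tMat {r : ℕ} (hr : r < D.nroots) {t : F} (ht : t ≠ 0) :
    D.hMat F r t = tMat D (fun i => t ^ cr D r i) := by
  rw [hMat_eq_diagonal hG hr ht]
  unfold tMat
  congr 1
  funext v
  rcases v with j | s
  · simp [tEntry]
  · simp only [tEntry, Sum.elim_inr]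
    unfold Tab.pairing
    rw [zpow_list_sum ht, List.map_map]
    congr 1
    apply List.map_congr_left
    intro i _
    simp only [Function.comp_apply]
    rw [_root_.zpow_mul]
    rfl

theorem tMat_one : tMat D (fun _ => (1 : F)) = 1 := by
  unfold tMat
  rw [← Matrix.diagonal_one]
  congr 1
  funext v
  rcases v with j | s <;> simp [tEntry]

theorem tMat_mul (c c' : ℕ → F) : tMat D c * tMat D c' = tMat D (fun i => c i * c' i) := by
  unfold tMat
  rw [Matrix.diagonal_mul_diagonal]
  congr 1
  funext v
  rcases v with j | s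
  · simp [tEntry]
  · simp only [tEntry, Sum.elim_inr]
    rw [← List.prod_map_mul]
    congr 1
    apply List.map_congr_left
    intro i _
    rw [mul_zpow]

theorem tEntry_inv (c : ℕ → F) (v : D.Idx) :
    (tEntry D (List.range D.rank) c v)⁻¹ = tEntry D (List.range D.rank) (fun i => (c i)⁻¹) v := by
  rcases v with j | s
  · simp [tEntry]
  · simp only [tEntry, Sum.elim_inr]
    rw [List.prod_inv, List.map_map]
    congr 1
    apply List.map_congr_left
    intro i _
    simp only [Function.comp_apply]
    rw [_root_.inv_zpow]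

include hG in
/-- Every element of `H` is a torus matrix. -/
theorem diagonalSubgroup_torus {g : GL D.Idx F} (hg : g ∈ D.diagonalSubgroup F) :
    ∃ c : ℕ → F, (∀ i < D.rank, c i ≠ 0) ∧ (g : Matrix D.Idx D.Idx F) = tMat D c := by
  unfold ChevalleyDatum.diagonalSubgroup at hg
  induction hg using Subgroup.closure_induction with
  | mem x hx =>
    obtain ⟨r, t, hr, ht, hx⟩ := hx
    exact ⟨_, fun i _ => zpow_ne_zero _ ht, hx.trans (hMat_eq_tMat hG hr ht)⟩
  | one => exact ⟨fun _ => 1, fun _ _ => one_ne_zero, by rw [Units.val_one, tMat_one]⟩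
  | mul x y _ _ hx hy =>
    obtain ⟨c1, n1, h1⟩ := hx
    obtain ⟨c2, n2, h2⟩ := hy
    exact ⟨_, fun i hi => mul_ne_zero (n1 i hi) (n2 i hi), by rw [Units.val_mul, h1, h2, tMat_mul]⟩
  | inv x _ hx =>
    obtain ⟨c1, n1, h1⟩ := hx
    refine ⟨fun i => (c1 i)⁻¹, fun i hi => inv_ne_zero (n1 i hi), ?_⟩
    rw [diagonal_inv h1]
    unfold tMat
    congr 1
    funext v
    exact tEntry_inv c1 v

include hG in
/-- The statement of S1034 from the table facts. -/
theorem diagonalSubgroup_word {g : GL D.Idx F} (hg : g ∈ D.diagonalSubgroup F) :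
    ∃ c : ℕ → F, (∀ i < D.rank, c i ≠ 0) ∧
      (g : Matrix D.Idx D.Idx F) =
        D.wordMat F ((List.range D.rank).flatMap fun i => D.hWord (D.simple i) (c i)) := by
  obtain ⟨c, hc, h⟩ := diagonalSubgroup_torus hG hg
  exact ⟨c, hc, by rw [h, wordMat_torus hG c hc]⟩

end torus

end Cfsg.Agent.Helper7.Chev
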