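import Mathlib
import Cfsg.Agent.Helper7.ChevUnique
import Cfsg.Agent.Helper7.ChevTorus

set_option autoImplicit false
set_option linter.unusedSectionVars false
set_option linter.unusedVariables false

/-!
The intersection of the conjugates of `B` in the Chevalley group is trivial.
-/

namespace Cfsg.Agent.Helper7.Chev

open Cfsg Cfsg.Lie Matrix

variable {D : ChevalleyDatum} {F : Type*} [Field F]

section core

variable (hG : Good2 D) (hT : T0 D) (h8 : (tabOf D).T8)

include hG in
/-- `N` normalises `H`. -/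
theorem monomialSubgroup_le_normalizer :
    D.monomialSubgroup F ≤ Subgroup.normalizer (D.diagonalSubgroup F : Set (GL D.Idx F)) := by
  have hle : D.diagonalSubgroup F ≤ D.monomialSubgroup F := le_sup_left
  exact (Subgroup.normal_subgroupOf_iff_le_normalizer hle).mp (diagonalSubgroup_normal hG)

include hG hT in
/-- A subgroup of `B` normalised by an element of `N` conjugating `U` onto `V` lies in `H`. -/
theorem le_diagonal_of_conj {n : GL D.Idx F} (hn : n ∈ D.monomialSubgroup F)
    (hconj : (D.posUnipotent F).map (MulAut.conj n).toMonoidHom = D.negUnipotent F)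
    {g : GL D.Idx F} (hg : g ∈ D.borelSubgroup F) (hg' : n⁻¹ * g * n ∈ D.borelSubgroup F) :
    g ∈ D.diagonalSubgroup F := by
  have hnH : (D.diagonalSubgroup F).map (MulAut.conj n).toMonoidHom = D.diagonalSubgroup F :=
    Subgroup.mem_normalizer_iff_map_conj_eq.mp (monomialSubgroup_le_normalizer hG hn)
  have hmap : (D.borelSubgroup F).map (MulAut.conj n).toMonoidHom =
      D.negUnipotent F ⊔ D.diagonalSubgroup F := by
    unfold ChevalleyDatum.borelSubgroup
    rw [Subgroup.map_sup, hconj, hnH]
  have h2 : g ∈ D.negUnipotent F ⊔ D.diagonalSubgroup F := by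
    rw [← hmap]
    refine ⟨n⁻¹ * g * n, hg', ?_⟩
    change n * (n⁻¹ * g * n) * n⁻¹ = g
    group
  have : g ∈ D.borelSubgroup F ⊓ (D.negUnipotent F ⊔ D.diagonalSubgroup F) := ⟨hg, h2⟩
  rwa [borel_inf_negBorel hG hT] at this

include hT in
/-- The diagonal entries of a root element are `1`. -/
theorem xMat_diag (r : Fin D.nroots) (t : F) (v : D.Idx) : D.xMat F r t v v = 1 := by
  by_contra hne
  have h0 : (D.xMat F r t - 1) v v ≠ 0 := by
    rw [Matrix.sub_apply, Matrix.one_apply_eq]
    exact sub_ne_zero.mpr hne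
  by_cases hr : D.nroots / 2 ≤ r.val
  · have := xMat_raises_pos D hT r hr t v v h0
    omega
  · have := xMat_raises_neg D hT r (by omega) t v v h0
    omega

include hG hT h8 in
/-- An element `g` of `H` such that `x_r(1) g x_r(1)⁻¹` is diagonal for every root `r` is trivial. -/
theorem eq_one_of_conj_diag {g : GL D.Idx F} (hg : g ∈ D.diagonalSubgroup F)
    (hconj : ∀ (r : ℕ) (hr : r < D.nroots), ∃ d' : D.Idx → F,
      ((xGL hG.toGood1 hr (1 : F) * g * (xGL hG.toGood1 hr (1 : F))⁻¹ : GL D.Idx F) :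
        Matrix D.Idx D.Idx F) = Matrix.diagonal d') : g = 1 := by
  have hG1 := hG.toGood1
  obtain ⟨c, hc, hgc⟩ := diagonalSubgroup_torus hG1 hg
  set d := tEntry D (List.range D.rank) c with hd
  have hgd : (g : Matrix D.Idx D.Idx F) = Matrix.diagonal d := hgc
  have hdl : ∀ i : Fin D.rank, d (Sum.inl i) = 1 := fun i => rfl
  -- the diagonal entries at the root vectors are `1`
  have hroot : ∀ (r : ℕ) (hr : r < D.nroots), d (Sum.inr ⟨D.neg r, hG1.neg_lt hr⟩) = 1 := by
    intro r hr
    obtain ⟨d', hd'⟩ := hconj r hr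
    have hnr := hG1.neg_lt hr
    have e : D.x F r 1 * Matrix.diagonal d = Matrix.diagonal d' * D.x F r 1 := by
      have : xGL hG1 hr (1 : F) * g = (xGL hG1 hr (1 : F) * g * (xGL hG1 hr (1 : F))⁻¹) *
          xGL hG1 hr (1 : F) := by group
      have h2 := congrArg Units.val this
      rw [Units.val_mul, Units.val_mul (xGL hG1 hr (1 : F) * g * (xGL hG1 hr (1 : F))⁻¹), hd',
        xGL_coe, hgd] at h2
      exact h2
    have hent : ∀ row col, D.x F r 1 row col * d col = d' row * D.x F r 1 row col := by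
      intro row col
      have := congrFun (congrFun e row) col
      rwa [Matrix.mul_diagonal, Matrix.diagonal_mul] at this
    -- diagonal entries of `x_r(1)` are `1`
    have hdiag : ∀ v, D.x F r 1 v v = 1 := by
      intro v
      rw [x_of_lt D F hr]
      exact xMat_diag hT ⟨r, hr⟩ 1 v
    have hdd' : ∀ v, d v = d' v := by
      intro v
      have := hent v v
      rwa [hdiag, one_mul, mul_one] at this
    -- the entry at `(h_i, e_{-r})`
    obtain ⟨h8a, _⟩ := h8
    have hprim := (h8a r hr).2
    have hl : (tabOf D).l = D.rank := rfl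
    rw [hl] at hprim
    have hmm : (List.range D.rank).map (fun i => ((tabOf D).cr r i).natAbs) =
        ((List.range D.rank).map (fun i => cr D r i)).map Int.natAbs := by
      rw [List.map_map]; rfl
    rw [hmm] at hprim
    obtain ⟨a, ha, ha0⟩ := exists_cast_ne_zero (F := F) _ hprim
    rw [List.mem_map] at ha
    obtain ⟨i, hi, rfl⟩ := ha
    rw [List.mem_range] at hi
    have hx : D.x F r 1 (Sum.inl ⟨i, hi⟩) (Sum.inr ⟨D.neg r, hnr⟩) = ((cr D r i : ℤ) : F) := by
      have e' : D.x F r 1 (Sum.inl ⟨i, hi⟩) (Sum.inr ⟨D.neg r, hnr⟩) =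
          (D.x F r 1 *ᵥ eR D F (D.neg r)) (Sum.inl ⟨i, hi⟩) := by
        rw [eR_of_lt hnr, Matrix.mulVec_single_one]
        rfl
      rw [e', x_mulVec_eR_neg D F hr hnr (hG1.neg_ne hr)]
      simp only [Pi.add_apply, Pi.smul_apply, eR_apply_inl, hR_apply_inl, smul_eq_mul, mul_zero,
        zero_add, add_zero, one_mul]
    have := hent (Sum.inl ⟨i, hi⟩) (Sum.inr ⟨D.neg r, hnr⟩)
    rw [hx, ← hdd', hdl, one_mul] at this
    have h3 : ((cr D r i : ℤ) : F) * (d (Sum.inr ⟨D.neg r, hnr⟩) - 1) = 0 := by
      rw [mul_sub, this, mul_one, sub_self]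
    exact sub_eq_zero.mp ((mul_eq_zero.mp h3).resolve_left ha0)
  apply Units.ext
  rw [Units.val_one, hgd, ← Matrix.diagonal_one]
  congr 1
  funext v
  rcases v with i | s
  · exact hdl i
  · have hs := s.2
    have := hroot (D.neg s.val) (hG1.neg_lt hs)
    have hnn : D.neg (D.neg s.val) = s.val := hG1.neg_neg hs
    have hfin : (⟨D.neg (D.neg s.val), hG1.neg_lt (hG1.neg_lt hs)⟩ : Fin D.nroots) = s :=
      Fin.ext hnn
    rw [hfin] at this
    exact this

include hG hT h8 in
/-- The normal core of `B` in the Chevalley group is trivial. -/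
theorem borel_normalCore_eq_bot {w : List ℕ} (hw : (tabOf D).W0ok w) :
    ((D.borelSubgroup F).subgroupOf (D.group F)).normalCore = ⊥ := by
  have hG1 := hG.toGood1
  obtain ⟨n, hn, hconj⟩ := exists_conj_pos_eq_neg (F := F) hG hT hw
  have hnG : n ∈ D.group F := monomialSubgroup_le_group hG1 hn
  have key : ∀ b : D.group F, b ∈ ((D.borelSubgroup F).subgroupOf (D.group F)).normalCore →
      (b : GL D.Idx F) ∈ D.diagonalSubgroup F := by
    intro b hb
    have h1 := hb 1
    have h2 := hb (⟨n, hnG⟩ : D.group F)⁻¹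
    rw [Subgroup.mem_subgroupOf] at h1 h2
    apply le_diagonal_of_conj hG hT hn hconj (g := (b : GL D.Idx F))
    · simpa using h1
    · simpa using h2
  rw [eq_bot_iff]
  intro a ha
  rw [Subgroup.mem_bot]
  apply Subtype.ext
  change (a : GL D.Idx F) = 1
  apply eq_one_of_conj_diag hG hT h8 (key a ha)
  intro r hr
  have hx : xGL hG1 hr (1 : F) ∈ D.group F := by
    apply Subgroup.subset_closure
    exact ⟨⟨r, hr⟩, 1, by rw [xGL_coe, x_of_lt D F hr]⟩
  have hnorm : ((D.borelSubgroup F).subgroupOf (D.group F)).normalCore.Normal :=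
    Subgroup.normalCore_normal _
  have hc := hnorm.conj_mem a ha ⟨xGL hG1 hr (1 : F), hx⟩
  have := key _ hc
  exact diagonalSubgroup_diag hG1 this

end core

end Cfsg.Agent.Helper7.Chev
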