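import Mathlib
import Cfsg.Agent.Helper7.ChevW0

set_option autoImplicit false
set_option linter.unusedSectionVars false
set_option linter.unusedVariables false

/-!
The standard parabolic subgroup `P_J` is generated by `H` and the root subgroups of the roots in
`Φ⁺ ∪ Φ_J`.
-/

namespace Cfsg.Agent.Helper7.Chev

open Cfsg Cfsg.Lie Matrix

namespace Tab

variable (T : Tab)

/-- Every positive root is fundamental or is mapped to a positive root of smaller index by the
reflection in a fundamental root in the support of its coroot. -/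
def T9 : Prop :=
  ∀ s < T.n, T.n / 2 ≤ s →
    (∃ i < T.l, T.simple i = s) ∨
    (∃ i < T.l, T.cr s i ≠ 0 ∧ T.n / 2 ≤ T.refl (T.simple i) s ∧ T.refl (T.simple i) s < s)

instance : Decidable T.T9 := by unfold T9; infer_instance

end Tab

variable {D : ChevalleyDatum} {F : Type*} [Field F]

section parab

variable (hG : Good2 D) (hT : T0 D) (h9 : (tabOf D).T9)

/-- An invertible matrix given by a word in root elements of roots in a set lies in the group generated
by these root elements. -/
theorem wordMat_mem_closure (hG1 : Good1 D) (P : ℕ → Prop) {g : GL D.Idx F} (w : List (ℕ × F))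
    (hw : ∀ p ∈ w, P p.1) (hg : (g : Matrix D.Idx D.Idx F) = D.wordMat F w) :
    g ∈ Subgroup.closure (rootGen D F P) := by
  have : g = (w.map (xGL' hG1)).prod := by
    apply Units.ext
    rw [hg, wordGL_coe]
  rw [this]
  apply Subgroup.list_prod_mem
  intro x hx
  rw [List.mem_map] at hx
  obtain ⟨p, hp, rfl⟩ := hx
  apply Subgroup.subset_closure
  exact ⟨p.1, p.2, hw p hp, xGL'_coe hG1 p⟩

include hG in
theorem inRootSub_simple {J : Set ℕ} {j : ℕ} (hj : j < D.rank) (hjJ : j ∈ J) :
    D.InRootSub J (D.simple j) := by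
  refine ⟨hG.toGood1.simple_lt hj, fun i hi hiJ => ?_⟩
  change cr D (D.simple j) i = 0
  rw [hG.toGood1.cr_simple hj hi, if_neg]
  rintro rfl
  exact hiJ hjJ

include hG in
theorem inRootSub_neg {J : Set ℕ} {r : ℕ} (hr : D.InRootSub J r) : D.InRootSub J (D.neg r) := by
  refine ⟨hG.toGood1.neg_lt hr.1, fun i hi hiJ => ?_⟩
  change cr D (D.neg r) i = 0
  rw [hG.toGood1.cr_neg hr.1 hi]
  have : cr D r i = 0 := hr.2 i hi hiJ
  rw [this, neg_zero]

include hG in
theorem inRootSub_refl {J : Set ℕ} {r : ℕ} (hr : D.InRootSub J r) {i : ℕ} (hi : i < D.rank)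
    (hiJ : i ∈ J) : D.InRootSub J ((tabOf D).refl (D.simple i) r) := by
  refine ⟨hG.refl_lt hi hr.1, fun j hj hjJ => ?_⟩
  change cr D ((tabOf D).refl (D.simple i) r) j = 0
  rw [hG.cr_refl hi hr.1 hj, if_neg]
  · have : cr D r j = 0 := hr.2 j hj hjJ
    rw [this, sub_zero]
  · rintro rfl
    exact hjJ hiJ

include hG in
theorem nGL_mem_parabolic {J : Set ℕ} {i : ℕ} (hi : i < D.rank) (hiJ : i ∈ J) :
    nGL hG.toGood1 (hG.toGood1.simple_lt hi) ∈ D.parabolicSubgroup F J :=
  Subgroup.mem_sup_right (Subgroup.subset_closure ⟨i, hiJ, hi, nGL_coe _ _⟩)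

include hG hT h9 in
/-- The root subgroups of the negative roots in `Φ_J` lie in `P_J`. -/
theorem neg_mem_parabolic (J : Set ℕ) (s : ℕ) (hs : s < D.nroots) (hpos : D.nroots / 2 ≤ s)
    (hsJ : D.InRootSub J s) (t : F) :
    xGL hG.toGood1 (hG.toGood1.neg_lt hs) t ∈ D.parabolicSubgroup F J := by
  have hG1 := hG.toGood1
  induction s using Nat.strong_induction_on generalizing t with
  | _ s ih =>
    rcases h9 s hs hpos with ⟨i, hi, his⟩ | ⟨i, hi, hcr, hpos', hlt⟩
    · -- `s` is fundamental
      have hi' : i < D.rank := hi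
      have his' : D.simple i = s := his
      have hiJ : i ∈ J := by
        by_contra hiJ
        have h0 : cr D s i = 0 := hsJ.2 i hi' hiJ
        rw [← his', hG1.cr_simple hi' hi', if_pos rfl] at h0
        exact one_ne_zero h0
      have hn := nGL_mem_parabolic (F := F) hG hi' hiJ
      have hx : xGL hG1 hs (-t) ∈ D.parabolicSubgroup F J := by
        apply Subgroup.mem_sup_left
        apply Subgroup.mem_sup_left
        apply Subgroup.subset_closure
        exact ⟨s, -t, (isPosRoot_iff hT hs).mpr hpos, xGL_coe hG1 hs _⟩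
      have e : xGL hG1 (hG1.neg_lt hs) t =
          nGL hG1 (hG1.simple_lt hi') * xGL hG1 hs (-t) * (nGL hG1 (hG1.simple_lt hi'))⁻¹ := by
        rw [eq_mul_inv_iff_mul_eq]
        apply Units.ext
        rw [Units.val_mul, Units.val_mul, xGL_coe, xGL_coe, nGL_coe]
        have := nMat_mul_x_self (F := F) hG1 hs (-t)
        rw [neg_neg] at this
        rw [his', this]
      rw [e]
      exact mul_mem (mul_mem hn hx) (inv_mem hn)
    · have hi' : i < D.rank := hi
      have hcr' : cr D s i ≠ 0 := hcr
      have hiJ : i ∈ J := by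
        by_contra hiJ
        exact hcr' (hsJ.2 i hi' hiJ)
      set s' := (tabOf D).refl (D.simple i) s with hs'def
      have hs' : s' < D.nroots := hG.refl_lt hi' hs
      have hs'J : D.InRootSub J s' := inRootSub_refl hG hsJ hi' hiJ
      have hn := nGL_mem_parabolic (F := F) hG hi' hiJ
      have hns' := hG1.neg_lt hs'
      have hrefl : (tabOf D).refl (D.simple i) (D.neg s') = D.neg s := by
        rw [hG.refl_neg hi' hs', hs'def, hG.refl_refl hi' hs]
      set η : F := (((tabOf D).eta (D.simple i) (D.neg s') : ℤ) : F) with hη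
      have hηη : η * η = 1 := by
        rw [hη, ← Int.cast_mul, eta_sq hG1 (hG1.simple_lt hi') hns', Int.cast_one]
      have hx := ih s' hlt hs' hpos' hs'J (η * t)
      have e : xGL hG1 (hG1.neg_lt hs) t =
          nGL hG1 (hG1.simple_lt hi') * xGL hG1 hns' (η * t) *
            (nGL hG1 (hG1.simple_lt hi'))⁻¹ := by
        rw [eq_mul_inv_iff_mul_eq]
        apply Units.ext
        rw [Units.val_mul, Units.val_mul, xGL_coe, xGL_coe, nGL_coe,
          nMat_mul_x hG hi' hns' (η * t), hrefl, ← hη, ← mul_assoc, hηη, one_mul]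
      rw [e]
      exact mul_mem (mul_mem hn hx) (inv_mem hn)

include hG hT h9 in
/-- `P_J = ⟨H, X_r : r ∈ Φ⁺ ∪ Φ_J⟩`. -/
theorem parabolic_eq (J : Set ℕ) :
    D.parabolicSubgroup F J = D.diagonalSubgroup F ⊔
      Subgroup.closure (rootGen D F (fun r => D.IsPosRoot r ∨ D.InRootSub J r)) := by
  have hG1 := hG.toGood1
  apply le_antisymm
  · unfold ChevalleyDatum.parabolicSubgroup ChevalleyDatum.borelSubgroup
    refine sup_le (sup_le ?_ le_sup_left) ?_
    · apply le_sup_of_le_right
      unfold ChevalleyDatum.posUnipotent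
      apply Subgroup.closure_mono
      rintro g ⟨r, t, hr, hg⟩
      exact ⟨r, t, Or.inl hr, hg⟩
    · apply le_sup_of_le_right
      rw [Subgroup.closure_le]
      rintro g ⟨j, hjJ, hj, hg⟩
      apply wordMat_mem_closure hG1 _ (D.nWord (D.simple j) (1 : F)) _ hg
      intro p hp
      have h1 := inRootSub_simple hG hj hjJ
      have h2 := inRootSub_neg hG h1
      unfold ChevalleyDatum.nWord at hp
      simp only [List.mem_cons, List.not_mem_nil, or_false] at hp
      rcases hp with rfl | rfl | rfl
      · exact Or.inr h1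
      · exact Or.inr h2
      · exact Or.inr h1
  · apply sup_le
    · exact le_sup_of_le_left le_sup_right
    · rw [Subgroup.closure_le]
      rintro g ⟨r, t, hr, hg⟩
      have hU : ∀ r, D.IsPosRoot r → ∀ (g : GL D.Idx F) (t : F),
          (g : Matrix D.Idx D.Idx F) = D.x F r t → g ∈ D.parabolicSubgroup F J := by
        intro r hr g t hg
        apply Subgroup.mem_sup_left
        apply Subgroup.mem_sup_left
        apply Subgroup.subset_closure
        exact ⟨r, t, hr, hg⟩
      rcases hr with hr | hr
      · exact hU r hr g t hg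
      · have hrn := hr.1
        by_cases hpos : D.nroots / 2 ≤ r
        · exact hU r ((isPosRoot_iff hT hrn).mpr hpos) g t hg
        · have hnr := hG1.neg_lt hrn
          have hnn := hG1.neg_neg hrn
          have hnpos : D.nroots / 2 ≤ D.neg r := by
            have := ((hT r hrn).2.2.1 ((isNegRoot_iff hT hrn).mpr (by omega))).2
            exact this
          have := neg_mem_parabolic hG hT h9 J (D.neg r) hnr hnpos (inRootSub_neg hG hr) t
          have e : g = xGL hG1 (hG1.neg_lt hnr) t := by
            apply Units.ext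
            rw [hg, xGL_coe, hnn]
          rw [e]
          exact this

end parab

end Cfsg.Agent.Helper7.Chev
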