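import Mathlib
import Cfsg.Agent.Helper7.ChevCore
import Cfsg.Agent.Helper7.ChevParab

set_option autoImplicit false
set_option linter.unusedSectionVars false
set_option linter.unusedVariables false

/-!
The monomial subgroup `N` and the Weyl group: an element of `N` given by a word in the `n_p` whose
reflection word preserves the positive roots lies in `H`; consequently `B ∩ N = H` and `U ∩ N = 1`.
-/

namespace Cfsg.Agent.Helper7.Chev

open Cfsg Cfsg.Lie Matrix

namespace Tab

variable (T : Tab)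

/-- The sign picked up by a root element under conjugation by the product of the `n_p` along a word. -/
def etaWord : List ℕ → ℕ → ℤ
  | [], _ => 1
  | i :: w, s => T.eta (T.simple i) (T.reflWord w s) * etaWord w s

end Tab

variable {D : ChevalleyDatum} {F : Type*} [Field F]

section words

variable (hG : Good2 D)

theorem reflWord_cons (i : ℕ) (w : List ℕ) (s : ℕ) :
    (tabOf D).reflWord (i :: w) s = (tabOf D).refl (D.simple i) ((tabOf D).reflWord w s) := rfl

theorem reflWord_append (a b : List ℕ) (s : ℕ) :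
    (tabOf D).reflWord (a ++ b) s = (tabOf D).reflWord a ((tabOf D).reflWord b s) := by
  unfold Tab.reflWord
  rw [List.foldr_append]

include hG in
theorem reflWord_neg {w : List ℕ} (hw : ∀ i ∈ w, i < D.rank) {s : ℕ} (hs : s < D.nroots) :
    (tabOf D).reflWord w (D.neg s) = D.neg ((tabOf D).reflWord w s) := by
  induction w with
  | nil => rfl
  | cons i w ih =>
    have hi : i < D.rank := hw i (List.mem_cons_self)
    have hw' : ∀ j ∈ w, j < D.rank := fun j hj => hw j (List.mem_cons_of_mem _ hj)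
    rw [reflWord_cons, reflWord_cons, ih hw', hG.refl_neg hi (reflWord_lt hG hw' hs)]

include hG in
theorem etaWord_sq {w : List ℕ} (hw : ∀ i ∈ w, i < D.rank) {s : ℕ} (hs : s < D.nroots) :
    (tabOf D).etaWord w s * (tabOf D).etaWord w s = 1 := by
  induction w with
  | nil => rfl
  | cons i w ih =>
    have hi : i < D.rank := hw i (List.mem_cons_self)
    have hw' : ∀ j ∈ w, j < D.rank := fun j hj => hw j (List.mem_cons_of_mem _ hj)
    have h1 := eta_sq hG.toGood1 (hG.toGood1.simple_lt hi) (reflWord_lt hG hw' hs)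
    have h2 := ih hw'
    change ((tabOf D).eta (D.simple i) ((tabOf D).reflWord w s) * (tabOf D).etaWord w s) *
      ((tabOf D).eta (D.simple i) ((tabOf D).reflWord w s) * (tabOf D).etaWord w s) = 1
    linear_combination (tabOf D).etaWord w s * (tabOf D).etaWord w s * h1 + h2

include hG in
theorem eta_neg_eq {i : ℕ} (hi : i < D.rank) {s : ℕ} (hs : s < D.nroots) :
    (tabOf D).eta (D.simple i) (D.neg s) = (tabOf D).eta (D.simple i) s := by
  have h1 := hG.eta_neg hi hs
  have h2 := eta_sq hG.toGood1 (hG.toGood1.simple_lt hi) hs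
  rcases int_sq_one h2 with h | h
  · rw [h, one_mul] at h1; rw [h1, h]
  · rw [h] at h1 ⊢; omega

include hG in
theorem etaWord_neg {w : List ℕ} (hw : ∀ i ∈ w, i < D.rank) {s : ℕ} (hs : s < D.nroots) :
    (tabOf D).etaWord w (D.neg s) = (tabOf D).etaWord w s := by
  induction w with
  | nil => rfl
  | cons i w ih =>
    have hi : i < D.rank := hw i (List.mem_cons_self)
    have hw' : ∀ j ∈ w, j < D.rank := fun j hj => hw j (List.mem_cons_of_mem _ hj)
    change (tabOf D).eta (D.simple i) ((tabOf D).reflWord w (D.neg s)) * (tabOf D).etaWord w (D.neg s) =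
      (tabOf D).eta (D.simple i) ((tabOf D).reflWord w s) * (tabOf D).etaWord w s
    rw [ih hw', reflWord_neg hG hw' hs, eta_neg_eq hG hi (reflWord_lt hG hw' hs)]

include hG in
/-- Conjugation of root elements by the product of the `n_p` along a word, with the explicit sign. -/
theorem nWordMat_mul_x' {w : List ℕ} (hw : ∀ i ∈ w, i < D.rank) {s : ℕ} (hs : s < D.nroots) (t : F) :
    nWordMat D F w * D.x F s t =
      D.x F ((tabOf D).reflWord w s) ((((tabOf D).etaWord w s : ℤ) : F) * t) * nWordMat D F w := by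
  induction w generalizing t with
  | nil =>
    simp [nWordMat, Tab.reflWord, Tab.etaWord]
  | cons i w ih =>
    have hi : i < D.rank := hw i (List.mem_cons_self)
    have hw' : ∀ j ∈ w, j < D.rank := fun j hj => hw j (List.mem_cons_of_mem _ hj)
    have hlt := reflWord_lt hG hw' hs
    have e1 : nWordMat D F (i :: w) = D.nMat F (D.simple i) 1 * nWordMat D F w := by
      simp [nWordMat]
    have e3 : (((tabOf D).etaWord (i :: w) s : ℤ) : F) =
        (((tabOf D).eta (D.simple i) ((tabOf D).reflWord w s) : ℤ) : F) *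
          (((tabOf D).etaWord w s : ℤ) : F) := by
      rw [← Int.cast_mul]; rfl
    rw [e1, reflWord_cons, mul_assoc, ih hw', ← mul_assoc, nMat_mul_x hG hi hlt, mul_assoc, e3,
      mul_assoc]

theorem nWordGL_append (a b : List ℕ) :
    (nWordGL hG (a ++ b) : GL D.Idx F) = nWordGL hG a * nWordGL hG b := by
  unfold nWordGL
  rw [List.map_append, List.prod_append]

theorem nWordGL_cons {i : ℕ} (hi : i < D.rank) (w : List ℕ) :
    (nWordGL hG (i :: w) : GL D.Idx F) =
      nGL hG.toGood1 (hG.toGood1.simple_lt hi) * nWordGL hG w := by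
  unfold nWordGL
  rw [List.map_cons, List.prod_cons, dif_pos hi]

theorem nWordGL_nil : (nWordGL hG [] : GL D.Idx F) = 1 := rfl

include hG in
theorem etaWord_cast_mul_self {w : List ℕ} (hw : ∀ i ∈ w, i < D.rank) {s : ℕ} (hs : s < D.nroots) :
    (((tabOf D).etaWord w s : ℤ) : F) * (((tabOf D).etaWord w s : ℤ) : F) = 1 := by
  rw [← Int.cast_mul, etaWord_sq hG hw hs, Int.cast_one]

include hG in
theorem etaWord_cast_ne_zero {w : List ℕ} (hw : ∀ i ∈ w, i < D.rank) {s : ℕ} (hs : s < D.nroots) :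
    (((tabOf D).etaWord w s : ℤ) : F) ≠ 0 := by
  intro h
  have := etaWord_cast_mul_self (F := F) hG hw hs
  rw [h, mul_zero] at this
  exact zero_ne_one this

include hG in
/-- Conjugation of `n_s` by the product of the `n_p` along a word. -/
theorem nWordMat_mul_nMat {w : List ℕ} (hw : ∀ i ∈ w, i < D.rank) {s : ℕ} (hs : s < D.nroots) :
    nWordMat D F w * D.nMat F s 1 =
      D.hMat F ((tabOf D).reflWord w s) (((tabOf D).etaWord w s : ℤ) : F) *
        D.nMat F ((tabOf D).reflWord w s) 1 * nWordMat D F w := by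
  have hG1 := hG.toGood1
  have hr := reflWord_lt hG hw hs
  have hns := hG1.neg_lt hs
  set r := (tabOf D).reflWord w s with hrdef
  set ε : F := (((tabOf D).etaWord w s : ℤ) : F) with hεdef
  have hεε : ε * ε = 1 := etaWord_cast_mul_self hG hw hs
  have hε0 : ε ≠ 0 := etaWord_cast_ne_zero hG hw hs
  have hεinv : ε⁻¹ = ε := inv_eq_of_mul_eq_one_left hεε
  have e1 : ∀ t : F, nWordMat D F w * D.x F s t = D.x F r (ε * t) * nWordMat D F w :=
    fun t => nWordMat_mul_x' hG hw hs t
  have e2 : ∀ t : F, nWordMat D F w * D.x F (D.neg s) t =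
      D.x F (D.neg r) (ε * t) * nWordMat D F w := by
    intro t
    have := nWordMat_mul_x' hG hw hns t
    rwa [reflWord_neg hG hw hs, etaWord_neg hG hw hs] at this
  rw [← nMat_eq_hMat_mul hG1 hr hε0]
  unfold ChevalleyDatum.nMat ChevalleyDatum.nWord
  rw [wordMat_cons, wordMat_cons, wordMat_cons, wordMat_nil, wordMat_cons, wordMat_cons,
    wordMat_cons, wordMat_nil, mul_one, mul_one]
  simp only []
  rw [← mul_assoc, e1, mul_assoc, ← mul_assoc (nWordMat D F w), e2, mul_assoc, e1, hεinv]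
  simp only [mul_one, inv_one, mul_neg, mul_assoc]

end words

/-! ### `N = H ⟨n_p⟩` -/

section decomposition

variable (hG : Good2 D) (hT : T0 D) (h9 : (tabOf D).T9)

/-- The products of an element of `H` and a word in the `n_p`. -/
def nWords (hG : Good2 D) (F : Type*) [Field F] : Set (GL D.Idx F) :=
  {g | ∃ h ∈ D.diagonalSubgroup F, ∃ w : List ℕ, (∀ i ∈ w, i < D.rank) ∧ g = h * nWordGL hG w}

theorem nWordGL_mem_normalizer (w : List ℕ) :
    (nWordGL hG w : GL D.Idx F) ∈
      Subgroup.normalizer (D.diagonalSubgroup F : Set (GL D.Idx F)) :=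
  monomialSubgroup_le_normalizer hG (nWordGL_mem hG w)

theorem conj_mem_diagonal {n h : GL D.Idx F}
    (hn : n ∈ Subgroup.normalizer (D.diagonalSubgroup F : Set (GL D.Idx F)))
    (hh : h ∈ D.diagonalSubgroup F) : n * h * n⁻¹ ∈ D.diagonalSubgroup F :=
  (Subgroup.mem_set_normalizer_iff.mp hn h).mp hh

theorem conj_mem_diagonal' {n h : GL D.Idx F}
    (hn : n ∈ Subgroup.normalizer (D.diagonalSubgroup F : Set (GL D.Idx F)))
    (hh : h ∈ D.diagonalSubgroup F) : n⁻¹ * h * n ∈ D.diagonalSubgroup F := by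
  have := conj_mem_diagonal (inv_mem hn) hh
  rwa [inv_inv] at this

theorem diagonal_subset_nWords {h : GL D.Idx F} (hh : h ∈ D.diagonalSubgroup F) :
    h ∈ nWords hG F :=
  ⟨h, hh, [], by simp, by rw [nWordGL_nil, mul_one]⟩

theorem nWordGL_mem_nWords {w : List ℕ} (hw : ∀ i ∈ w, i < D.rank) :
    (nWordGL hG w : GL D.Idx F) ∈ nWords hG F :=
  ⟨1, one_mem _, w, hw, by rw [one_mul]⟩

theorem nWords_mul {g₁ g₂ : GL D.Idx F} (h₁ : g₁ ∈ nWords hG F) (h₂ : g₂ ∈ nWords hG F) :
    g₁ * g₂ ∈ nWords hG F := by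
  obtain ⟨a₁, ha₁, w₁, hw₁, rfl⟩ := h₁
  obtain ⟨a₂, ha₂, w₂, hw₂, rfl⟩ := h₂
  refine ⟨a₁ * (nWordGL hG w₁ * a₂ * (nWordGL hG w₁)⁻¹), ?_, w₁ ++ w₂, ?_, ?_⟩
  · exact mul_mem ha₁ (conj_mem_diagonal (nWordGL_mem_normalizer hG w₁) ha₂)
  · intro i hi
    rcases List.mem_append.mp hi with h | h
    · exact hw₁ i h
    · exact hw₂ i h
  · rw [nWordGL_append]; group

theorem nGL_sq_mem {r : ℕ} (hr : r < D.nroots) :
    (nGL hG.toGood1 hr * nGL hG.toGood1 hr : GL D.Idx F) ∈ D.diagonalSubgroup F := by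
  have hG1 := hG.toGood1
  have : (nGL hG1 hr * nGL hG1 hr : GL D.Idx F) =
      hGL hG1 hr (-1) (neg_ne_zero.mpr one_ne_zero) := by
    unfold nGL hGL
    rw [← map_mul, antiSL_sq]
  rw [this]
  exact Subgroup.subset_closure ⟨_, _, hr, neg_ne_zero.mpr one_ne_zero, hGL_coe hG1 hr _ _⟩

theorem nGL_mem_monomial {r : ℕ} (hr : r < D.nroots) :
    (nGL hG.toGood1 hr : GL D.Idx F) ∈ D.monomialSubgroup F :=
  Subgroup.mem_sup_right (Subgroup.subset_closure ⟨r, hr, nGL_coe _ _⟩)

theorem nGL_simple_mem_nWords {i : ℕ} (hi : i < D.rank) :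
    (nGL hG.toGood1 (hG.toGood1.simple_lt hi) : GL D.Idx F) ∈ nWords hG F := by
  refine ⟨1, one_mem _, [i], ?_, ?_⟩
  · intro j hj
    rw [List.mem_singleton] at hj
    rw [hj]; exact hi
  · rw [nWordGL_cons hG hi, nWordGL_nil, mul_one, one_mul]

theorem nGL_simple_inv_mem_nWords {i : ℕ} (hi : i < D.rank) :
    ((nGL hG.toGood1 (hG.toGood1.simple_lt hi))⁻¹ : GL D.Idx F) ∈ nWords hG F := by
  set n : GL D.Idx F := nGL hG.toGood1 (hG.toGood1.simple_lt hi) with hn
  have e : n⁻¹ = (n * n)⁻¹ * n := by group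
  rw [e]
  exact nWords_mul hG (diagonal_subset_nWords hG (inv_mem (nGL_sq_mem hG _)))
    (nGL_simple_mem_nWords hG hi)

theorem nWordGL_inv_mem_nWords {w : List ℕ} (hw : ∀ i ∈ w, i < D.rank) :
    ((nWordGL hG w)⁻¹ : GL D.Idx F) ∈ nWords hG F := by
  induction w with
  | nil =>
    rw [nWordGL_nil, inv_one]
    exact diagonal_subset_nWords hG (one_mem _)
  | cons i w ih =>
    have hi : i < D.rank := hw i (List.mem_cons_self)
    have hw' : ∀ j ∈ w, j < D.rank := fun j hj => hw j (List.mem_cons_of_mem _ hj)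
    rw [nWordGL_cons hG hi, _root_.mul_inv_rev]
    exact nWords_mul hG (ih hw') (nGL_simple_inv_mem_nWords hG hi)

theorem nWords_inv {g : GL D.Idx F} (hg : g ∈ nWords hG F) : g⁻¹ ∈ nWords hG F := by
  obtain ⟨a, ha, w, hw, rfl⟩ := hg
  rw [_root_.mul_inv_rev]
  exact nWords_mul hG (nWordGL_inv_mem_nWords hG hw) (diagonal_subset_nWords hG (inv_mem ha))

/-- `H ⟨n_p⟩` as a subgroup. -/
def nWordsSubgroup (hG : Good2 D) (F : Type*) [Field F] : Subgroup (GL D.Idx F) where
  carrier := nWords hG F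
  mul_mem' := nWords_mul hG
  one_mem' := diagonal_subset_nWords hG (one_mem _)
  inv_mem' := nWords_inv hG

theorem mem_nWordsSubgroup {g : GL D.Idx F} : g ∈ nWordsSubgroup hG F ↔ g ∈ nWords hG F := Iff.rfl

/-- `n_{-s} = n_s⁻¹`. -/
theorem nGL_neg {s : ℕ} (hs : s < D.nroots) :
    (nGL hG.toGood1 (hG.toGood1.neg_lt hs) : GL D.Idx F) = (nGL hG.toGood1 hs)⁻¹ := by
  have hG1 := hG.toGood1
  have hns := hG1.neg_lt hs
  have e : (nGL hG1 hns : GL D.Idx F) =
      phiHom hG1 hs (lowerSL 1 * upperSL (-1) * lowerSL 1) := by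
    apply Units.ext
    rw [nGL_coe, map_mul, map_mul, Units.val_mul, Units.val_mul, phiHom_lower, phiHom_upper]
    unfold ChevalleyDatum.nMat ChevalleyDatum.nWord
    rw [wordMat_cons, wordMat_cons, wordMat_cons, wordMat_nil, mul_one, hG1.neg_neg hs, mul_assoc]
    simp
  rw [e, eq_inv_iff_mul_eq_one]
  unfold nGL
  rw [← map_mul]
  have : (lowerSL 1 * upperSL (-1) * lowerSL 1 * antiSL : Matrix.SpecialLinearGroup (Fin 2) F) =
      1 := by
    apply Subtype.ext
    rw [Matrix.SpecialLinearGroup.coe_mul, Matrix.SpecialLinearGroup.coe_mul,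
      Matrix.SpecialLinearGroup.coe_mul]
    change !![1, 0; 1, 1] * !![1, -1; 0, 1] * !![1, 0; 1, 1] * !![0, 1; -1, 0] =
      (1 : Matrix (Fin 2) (Fin 2) F)
    ext i j
    fin_cases i <;> fin_cases j <;> simp [Matrix.mul_apply, Fin.sum_univ_two]
  rw [this, map_one]

theorem nGL_congr {r r' : ℕ} (h : r = r') (hr : r < D.nroots) (hr' : r' < D.nroots) :
    (nGL hG.toGood1 hr : GL D.Idx F) = nGL hG.toGood1 hr' := by
  subst h; rfl

include hT h9 in
/-- Every `n_s`, `s` positive, lies in `H ⟨n_p⟩`. -/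
theorem nGL_pos_mem_nWords (s : ℕ) (hs : s < D.nroots) (hpos : D.nroots / 2 ≤ s) :
    (nGL hG.toGood1 hs : GL D.Idx F) ∈ nWords hG F := by
  have hG1 := hG.toGood1
  induction s using Nat.strong_induction_on with
  | _ s ih =>
    rcases h9 s hs hpos with ⟨i, hi, his⟩ | ⟨i, hi, hcr, hpos', hlt⟩
    · have hi' : i < D.rank := hi
      have his' : D.simple i = s := his
      rw [nGL_congr hG his'.symm hs (hG1.simple_lt hi')]
      exact nGL_simple_mem_nWords hG hi'
    · have hi' : i < D.rank := hi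
      set s' := (tabOf D).refl (D.simple i) s with hs'def
      have hs' : s' < D.nroots := hG.refl_lt hi' hs
      have hback : (tabOf D).reflWord [i] s' = s := by
        change (tabOf D).refl (D.simple i) s' = s
        rw [hs'def, hG.refl_refl hi' hs]
      have hw : ∀ j ∈ [i], j < D.rank := by
        intro j hj
        rw [List.mem_singleton] at hj
        rw [hj]; exact hi'
      have hr := reflWord_lt hG hw hs'
      have key := nWordMat_mul_nMat (F := F) hG hw hs'
      set ε : F := (((tabOf D).etaWord [i] s' : ℤ) : F) with hεdef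
      have hε0 : ε ≠ 0 := etaWord_cast_ne_zero hG hw hs'
      have e : nWordGL hG [i] * nGL hG1 hs' =
          hGL hG1 hr ε hε0 * nGL hG1 hr * nWordGL hG [i] := by
        apply Units.ext
        rw [Units.val_mul, Units.val_mul, Units.val_mul, nWordGL_coe hG hw, nGL_coe, nGL_coe,
          hGL_coe, key]
      have e2 : nGL hG1 hr = (hGL hG1 hr ε hε0)⁻¹ *
          (nWordGL hG [i] * nGL hG1 hs' * (nWordGL hG [i])⁻¹) := by
        rw [e]; group
      rw [nGL_congr hG hback.symm hs hr, e2]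
      have hH : (hGL hG1 hr ε hε0 : GL D.Idx F) ∈ D.diagonalSubgroup F :=
        Subgroup.subset_closure ⟨_, _, hr, hε0, hGL_coe hG1 hr _ _⟩
      exact nWords_mul hG (diagonal_subset_nWords hG (inv_mem hH))
        (nWords_mul hG (nWords_mul hG (nWordGL_mem_nWords hG hw) (ih s' hlt hs' hpos'))
          (nWordGL_inv_mem_nWords hG hw))

include hT h9 in
/-- `N = H ⟨n_p⟩`. -/
theorem monomialSubgroup_le_nWords : D.monomialSubgroup F ≤ nWordsSubgroup hG F := by
  have hG1 := hG.toGood1
  unfold ChevalleyDatum.monomialSubgroup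
  apply sup_le
  · intro h hh
    exact diagonal_subset_nWords hG hh
  · rw [Subgroup.closure_le]
    rintro g ⟨r, hr, hg⟩
    have hg' : g = nGL hG1 hr := Units.ext (hg.trans (nGL_coe hG1 hr).symm)
    rw [hg']
    change _ ∈ nWords hG F
    by_cases hpos : D.nroots / 2 ≤ r
    · exact nGL_pos_mem_nWords hG hT h9 r hr hpos
    · have hnr := hG1.neg_lt hr
      have hnpos : D.nroots / 2 ≤ D.neg r :=
        ((hT r hr).2.2.1 ((isNegRoot_iff hT hr).mpr (by omega))).2
      have := nGL_pos_mem_nWords (F := F) hG hT h9 (D.neg r) hnr hnpos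
      have e : (nGL hG1 hr : GL D.Idx F) = (nGL hG1 hnr)⁻¹ := by
        rw [← nGL_neg hG hnr]
        exact nGL_congr hG (hG1.neg_neg hr).symm _ _
      rw [e]
      exact nWords_inv hG this

end decomposition

/-! ### Words preserving the positive roots -/

section deletion

variable (hG : Good2 D) (hT : T0 D) (h6 : (tabOf D).T6) (h8 : (tabOf D).T8)

/-- The fundamental roots are positive. -/
theorem simple_pos (hG1 : Good1 D) (hT : T0 D) {i : ℕ} (hi : i < D.rank) :
    D.nroots / 2 ≤ D.simple i := by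
  have hp := hG1.simple_lt hi
  obtain ⟨_, h2, h3, h4, _⟩ := hT _ hp
  rcases h4 with hpos | hneg
  · exact (h2 hpos).1
  · exfalso
    have hc : cr D (D.simple i) i = 1 := by rw [hG1.cr_simple hi hi, if_pos rfl]
    unfold cr at hc
    have hlt : i < (D.coroot.getD (D.simple i) #[]).size := by
      by_contra h
      rw [Array.getD_eq_getD_getElem?, Array.getElem?_eq_none (by omega)] at hc
      simp at hc
    have hmem : (D.coroot.getD (D.simple i) #[])[i] ∈ (D.coroot.getD (D.simple i) #[]).toList := by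
      simp
    have h5 := hneg.2 _ hmem
    rw [Array.getD_eq_getD_getElem?, Array.getElem?_eq_getElem hlt] at hc
    rw [Option.getD_some] at hc
    omega

include hG hT in
theorem neg_pos_of_neg {s : ℕ} (hs : s < D.nroots) (h : s < D.nroots / 2) :
    D.nroots / 2 ≤ D.neg s :=
  ((hT s hs).2.2.1 ((isNegRoot_iff hT hs).mpr h)).2

include hG hT in
theorem neg_neg_of_pos {s : ℕ} (hs : s < D.nroots) (h : D.nroots / 2 ≤ s) :
    D.neg s < D.nroots / 2 :=
  ((hT s hs).2.1 ((isPosRoot_iff hT hs).mpr h)).2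

include hG hT h6 in
/-- A negative root made positive by a fundamental reflection is the negative of the fundamental
root. -/
theorem eq_neg_simple_of_refl_pos {i : ℕ} (hi : i < D.rank) {s : ℕ} (hs : s < D.nroots)
    (hneg : s < D.nroots / 2) (hpos : D.nroots / 2 ≤ (tabOf D).refl (D.simple i) s) :
    s = D.neg (D.simple i) := by
  have hG1 := hG.toGood1
  have hns := hG1.neg_lt hs
  have h1 : D.nroots / 2 ≤ D.neg s := neg_pos_of_neg hG hT hs hneg
  by_contra hne
  have hne' : D.neg s ≠ D.simple i := by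
    intro h
    apply hne
    rw [← h, hG1.neg_neg hs]
  have := (h6 i hi (D.neg s) hns h1 hne').1
  change D.nroots / 2 ≤ (tabOf D).refl (D.simple i) (D.neg s) at this
  rw [hG.refl_neg hi hs] at this
  have h2 := neg_neg_of_pos hG hT (hG.refl_lt hi hs) hpos
  omega

/-- A word making a negative root positive does so at some letter. -/
theorem exists_split {w : List ℕ} {s : ℕ} (hneg : s < D.nroots / 2)
    (hpos : D.nroots / 2 ≤ (tabOf D).reflWord w s) :
    ∃ (a : List ℕ) (j : ℕ) (b : List ℕ), w = a ++ j :: b ∧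
      (tabOf D).reflWord b s < D.nroots / 2 ∧ D.nroots / 2 ≤ (tabOf D).reflWord (j :: b) s := by
  induction w with
  | nil =>
    exfalso
    change D.nroots / 2 ≤ s at hpos
    omega
  | cons j w ih =>
    by_cases h : (tabOf D).reflWord w s < D.nroots / 2
    · exact ⟨[], j, w, rfl, h, hpos⟩
    · obtain ⟨a, j', b, hw, h1, h2⟩ := ih (by omega)
      exact ⟨j :: a, j', b, by rw [hw]; rfl, h1, h2⟩

include hG hT h6 in
/-- Deletion: if the word `w₀ ++ [k]` maps the fundamental root `p_k` to a positive root, then its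
element of `N` agrees modulo `H` with that of a word shorter by two letters. -/
theorem exists_deletion {w₀ : List ℕ} {k : ℕ} (hw₀ : ∀ i ∈ w₀, i < D.rank) (hk : k < D.rank)
    (hpos : D.nroots / 2 ≤ (tabOf D).reflWord (w₀ ++ [k]) (D.simple k)) :
    ∃ w' : List ℕ, (∀ i ∈ w', i < D.rank) ∧ w'.length + 1 = w₀.length ∧
      ∃ h ∈ D.diagonalSubgroup F, (nWordGL hG (w₀ ++ [k]) : GL D.Idx F) = h * nWordGL hG w' := by
  have hG1 := hG.toGood1
  have hpk := hG1.simple_lt hk
  have hnpk := hG1.neg_lt hpk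
  have hnegk : D.neg (D.simple k) < D.nroots / 2 :=
    neg_neg_of_pos hG hT hpk (simple_pos hG1 hT hk)
  have e0 : (tabOf D).reflWord (w₀ ++ [k]) (D.simple k) =
      (tabOf D).reflWord w₀ (D.neg (D.simple k)) := by
    rw [reflWord_append, reflWord_cons]
    change (tabOf D).reflWord w₀ ((tabOf D).refl (D.simple k) (D.simple k)) = _
    rw [refl_self]
  rw [e0] at hpos
  obtain ⟨a, j, b, hw, h1, h2⟩ := exists_split hnegk hpos
  have ha : ∀ i ∈ a, i < D.rank := fun i hi => hw₀ i (by rw [hw]; simp [hi])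
  have hb : ∀ i ∈ b, i < D.rank := fun i hi => hw₀ i (by rw [hw]; simp [hi])
  have hj : j < D.rank := hw₀ j (by rw [hw]; simp)
  have hpj := hG1.simple_lt hj
  have hbn := reflWord_lt hG hb hnpk
  rw [reflWord_cons] at h2
  have h3 := eq_neg_simple_of_refl_pos hG hT h6 hj hbn h1 h2
  rw [reflWord_neg hG hb hpk] at h3
  have hr := reflWord_lt hG hb hpk
  have h4 : (tabOf D).reflWord b (D.simple k) = D.simple j := by
    have := congrArg D.neg h3
    rwa [hG1.neg_neg hr, hG1.neg_neg hpj] at this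
  refine ⟨a ++ b, ?_, ?_, ?_⟩
  · intro i hi
    rcases List.mem_append.mp hi with h | h
    · exact ha i h
    · exact hb i h
  · rw [hw]; simp; omega
  · have key := nWordMat_mul_nMat (F := F) hG hb hpk
    set ε : F := (((tabOf D).etaWord b (D.simple k) : ℤ) : F) with hεdef
    have hε0 : ε ≠ 0 := etaWord_cast_ne_zero hG hb hpk
    have e : nWordGL hG b * nGL hG1 hpk =
        hGL hG1 hr ε hε0 * nGL hG1 hr * nWordGL hG b := by
      apply Units.ext
      rw [Units.val_mul, Units.val_mul, Units.val_mul, nWordGL_coe hG hb, nGL_coe, nGL_coe,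
        hGL_coe, key]
    rw [nGL_congr hG h4 hr hpj] at e
    set A : GL D.Idx F := nWordGL hG a with hA
    set B : GL D.Idx F := nWordGL hG b with hB
    set nj : GL D.Idx F := nGL hG1 hpj with hnj
    set hε : GL D.Idx F := hGL hG1 hr ε hε0 with hhε
    have hεH : hε ∈ D.diagonalSubgroup F :=
      Subgroup.subset_closure ⟨_, _, hr, hε0, hGL_coe hG1 hr _ _⟩
    have hnjN : nj ∈ Subgroup.normalizer (D.diagonalSubgroup F : Set (GL D.Idx F)) :=
      monomialSubgroup_le_normalizer hG (nGL_mem_monomial hG hpj)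
    have hAN : A ∈ Subgroup.normalizer (D.diagonalSubgroup F : Set (GL D.Idx F)) :=
      nWordGL_mem_normalizer hG a
    refine ⟨A * ((nj * hε * nj⁻¹) * (nj * nj)) * A⁻¹, ?_, ?_⟩
    · exact conj_mem_diagonal hAN (mul_mem (conj_mem_diagonal hnjN hεH) (nGL_sq_mem hG hpj))
    · have e1 : (nWordGL hG (w₀ ++ [k]) : GL D.Idx F) = A * nj * (B * nGL hG1 hpk) := by
        rw [hw, nWordGL_append, nWordGL_append, nWordGL_cons hG hj, nWordGL_cons hG hk,
          nWordGL_nil, mul_one, ← hA, ← hB, ← hnj]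
        simp only [mul_assoc]
      rw [e1, e, nWordGL_append, ← hA, ← hB]
      group

include hG hT h8 in
/-- A root element with non-zero parameter is not the identity. -/
theorem xGL_ne_one {r : ℕ} (hr : r < D.nroots) {t : F} (ht : t ≠ 0) :
    xGL hG.toGood1 hr t ≠ 1 := by
  have hG1 := hG.toGood1
  have hnr := hG1.neg_lt hr
  intro h
  have hmat : D.x F r t = 1 := by
    rw [← xGL_coe hG1 hr t, h, Units.val_one]
  obtain ⟨h8a, _⟩ := h8
  have hprim := (h8a r hr).2
  have hl : (tabOf D).l = D.rank := rfl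
  rw [hl] at hprim
  have hmm : (List.range D.rank).map (fun i => ((tabOf D).cr r i).natAbs) =
      ((List.range D.rank).map (fun i => cr D r i)).map Int.natAbs := by
    rw [List.map_map]; rfl
  rw [hmm] at hprim
  obtain ⟨a, ha, ha0⟩ := exists_cast_ne_zero (F := F) _ hprim
  rw [List.mem_map] at ha
  obtain ⟨i, hi, rfl⟩ := ha
  rw [List.mem_range] at hi
  have hx : D.x F r t (Sum.inl ⟨i, hi⟩) (Sum.inr ⟨D.neg r, hnr⟩) = t * ((cr D r i : ℤ) : F) := by
    have e' : D.x F r t (Sum.inl ⟨i, hi⟩) (Sum.inr ⟨D.neg r, hnr⟩) =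
        (D.x F r t *ᵥ eR D F (D.neg r)) (Sum.inl ⟨i, hi⟩) := by
      rw [eR_of_lt hnr, Matrix.mulVec_single_one]
      rfl
    rw [e', x_mulVec_eR_neg D F hr hnr (hG1.neg_ne hr)]
    simp only [Pi.add_apply, Pi.smul_apply, eR_apply_inl, hR_apply_inl, smul_eq_mul, mul_zero,
      zero_add, add_zero]
  rw [hmat, Matrix.one_apply_ne (by simp)] at hx
  rcases mul_eq_zero.mp hx.symm with h0 | h0
  · exact ht h0
  · exact ha0 h0

include hG hT h8 in
/-- A root element of a positive root and one of a negative root are different, unless trivial. -/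
theorem pos_of_conj_eq {r r' : ℕ} (hr : r < D.nroots) (hr' : r' < D.nroots)
    (hpos : D.nroots / 2 ≤ r) {t t' : F} (ht : t ≠ 0) {h : GL D.Idx F}
    (hh : h ∈ D.borelSubgroup F ∧
      h ∈ Subgroup.normalizer (D.negUnipotent F : Set (GL D.Idx F)))
    (e : xGL hG.toGood1 hr t = h * xGL hG.toGood1 hr' t' * h⁻¹) : D.nroots / 2 ≤ r' := by
  have hG1 := hG.toGood1
  by_contra hneg
  have hV : xGL hG1 hr' t' ∈ D.negUnipotent F :=
    Subgroup.subset_closure ⟨r', t', (isNegRoot_iff hT hr').mpr (by omega), xGL_coe hG1 hr' t'⟩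
  have hV' : h * xGL hG1 hr' t' * h⁻¹ ∈ D.negUnipotent F :=
    (Subgroup.mem_set_normalizer_iff.mp hh.2 _).mp hV
  have hU : xGL hG1 hr t ∈ D.borelSubgroup F :=
    Subgroup.mem_sup_left
      (Subgroup.subset_closure ⟨r, t, (isPosRoot_iff hT hr).mpr hpos, xGL_coe hG1 hr t⟩)
  rw [← e] at hV'
  have : xGL hG1 hr t ∈ D.borelSubgroup F ⊓ D.negUnipotent F := ⟨hU, hV'⟩
  rw [borel_inf_negUnipotent hG hT, Subgroup.mem_bot] at this
  exact xGL_ne_one hG hT h8 hr ht this

/-- Conjugation of a root element by the element of `N` of a word. -/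
theorem nWordGL_conj {w : List ℕ} (hw : ∀ i ∈ w, i < D.rank) {s : ℕ} (hs : s < D.nroots) (t : F) :
    nWordGL hG w * xGL hG.toGood1 hs t * (nWordGL hG w)⁻¹ =
      xGL hG.toGood1 (reflWord_lt hG hw hs) ((((tabOf D).etaWord w s : ℤ) : F) * t) := by
  rw [mul_inv_eq_iff_eq_mul]
  apply Units.ext
  rw [Units.val_mul, Units.val_mul, nWordGL_coe hG hw, xGL_coe, xGL_coe, nWordMat_mul_x' hG hw hs]

include hG hT h6 h8 in
/-- A word preserving the positive roots gives an element of `H`. -/
theorem nWordGL_mem_diagonal_of_pos : ∀ (m : ℕ) (w : List ℕ), w.length = m →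
    (∀ i ∈ w, i < D.rank) →
    (∀ s < D.nroots, D.nroots / 2 ≤ s → D.nroots / 2 ≤ (tabOf D).reflWord w s) →
    (nWordGL hG w : GL D.Idx F) ∈ D.diagonalSubgroup F := by
  have hG1 := hG.toGood1
  intro m
  induction m using Nat.strong_induction_on with
  | _ m ih =>
    intro w hlen hw hpos
    rcases List.eq_nil_or_concat w with rfl | ⟨w₀, k, hwk⟩
    · rw [nWordGL_nil]; exact one_mem _
    · rw [List.concat_eq_append] at hwk
      subst hwk
      have hw₀ : ∀ i ∈ w₀, i < D.rank := fun i hi => hw i (by simp [hi])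
      have hk : k < D.rank := hw k (by simp)
      have hpk := hG1.simple_lt hk
      obtain ⟨w', hw', hlen', h, hh, e⟩ := exists_deletion (F := F) hG hT h6 hw₀ hk
        (hpos _ hpk (simple_pos hG1 hT hk))
      have hw'len : w'.length < m := by
        rw [← hlen]; simp; omega
      have hhB : h ∈ D.borelSubgroup F ∧
          h ∈ Subgroup.normalizer (D.negUnipotent F : Set (GL D.Idx F)) :=
        ⟨Subgroup.mem_sup_right hh, diagonalSubgroup_le_normalizer_neg hG hh⟩
      have hpos' : ∀ s < D.nroots, D.nroots / 2 ≤ s →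
          D.nroots / 2 ≤ (tabOf D).reflWord w' s := by
        intro s hs hsp
        have c1 := nWordGL_conj (F := F) hG hw hs 1
        have c2 := nWordGL_conj (F := F) hG hw' hs 1
        rw [e] at c1
        have e3 : xGL hG1 (reflWord_lt hG hw hs)
            ((((tabOf D).etaWord (w₀ ++ [k]) s : ℤ) : F) * 1) =
            h * xGL hG1 (reflWord_lt hG hw' hs) ((((tabOf D).etaWord w' s : ℤ) : F) * 1) *
              h⁻¹ := by
          rw [← c1, ← c2]; group
        refine pos_of_conj_eq hG hT h8 (reflWord_lt hG hw hs) (reflWord_lt hG hw' hs)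
          (hpos s hs hsp) ?_ hhB e3
        rw [mul_one]
        exact etaWord_cast_ne_zero hG hw hs
      have := ih w'.length hw'len w' rfl hw' hpos'
      rw [e]
      exact mul_mem hh this

end deletion

/-! ### `B ∩ N = H` and `U ∩ N = 1` -/

section inter

variable (hG : Good2 D) (hT : T0 D) (h6 : (tabOf D).T6) (h8 : (tabOf D).T8) (h9 : (tabOf D).T9)

include hG hT h8 in
/-- A word whose element of `N` lies in `B` preserves the positive roots. -/
theorem reflWord_pos_of_mem_borel {w : List ℕ} (hw : ∀ i ∈ w, i < D.rank)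
    (hB : (nWordGL hG w : GL D.Idx F) ∈ D.borelSubgroup F) :
    ∀ s < D.nroots, D.nroots / 2 ≤ s → D.nroots / 2 ≤ (tabOf D).reflWord w s := by
  have hG1 := hG.toGood1
  intro s hs hsp
  by_contra hneg
  have hr := reflWord_lt hG hw hs
  have c := nWordGL_conj (F := F) hG hw hs 1
  have hU : xGL hG1 hs (1 : F) ∈ D.borelSubgroup F :=
    Subgroup.mem_sup_left
      (Subgroup.subset_closure ⟨s, 1, (isPosRoot_iff hT hs).mpr hsp, xGL_coe hG1 hs 1⟩)
  have h1 : xGL hG1 hr ((((tabOf D).etaWord w s : ℤ) : F) * 1) ∈ D.borelSubgroup F := by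
    rw [← c]
    exact mul_mem (mul_mem hB hU) (inv_mem hB)
  have h2 : xGL hG1 hr ((((tabOf D).etaWord w s : ℤ) : F) * 1) ∈ D.negUnipotent F :=
    Subgroup.subset_closure ⟨_, _, (isNegRoot_iff hT hr).mpr (by omega), xGL_coe hG1 hr _⟩
  have : xGL hG1 hr ((((tabOf D).etaWord w s : ℤ) : F) * 1) ∈
      D.borelSubgroup F ⊓ D.negUnipotent F := ⟨h1, h2⟩
  rw [borel_inf_negUnipotent hG hT, Subgroup.mem_bot] at this
  refine xGL_ne_one hG hT h8 hr ?_ this
  rw [mul_one]
  exact etaWord_cast_ne_zero hG hw hs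

include hG hT h6 h8 in
/-- An element of `B` given by a word in the `n_p` lies in `H`. -/
theorem nWordGL_mem_diagonal_of_mem_borel {w : List ℕ} (hw : ∀ i ∈ w, i < D.rank)
    (hB : (nWordGL hG w : GL D.Idx F) ∈ D.borelSubgroup F) :
    (nWordGL hG w : GL D.Idx F) ∈ D.diagonalSubgroup F :=
  nWordGL_mem_diagonal_of_pos hG hT h6 h8 w.length w rfl hw
    (reflWord_pos_of_mem_borel hG hT h8 hw hB)

include hG hT h6 h8 h9 in
/-- `B ∩ N = H`. -/
theorem borel_inf_monomial :
    D.borelSubgroup F ⊓ D.monomialSubgroup F = D.diagonalSubgroup F := by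
  apply le_antisymm
  · rintro g ⟨hgB, hgN⟩
    obtain ⟨h, hh, w, hw, rfl⟩ := monomialSubgroup_le_nWords hG hT h9 hgN
    have hhB : h ∈ D.borelSubgroup F := Subgroup.mem_sup_right hh
    have : (nWordGL hG w : GL D.Idx F) ∈ D.borelSubgroup F := by
      have e : (nWordGL hG w : GL D.Idx F) = h⁻¹ * (h * nWordGL hG w) := by group
      rw [e]
      exact mul_mem (inv_mem hhB) hgB
    exact mul_mem hh (nWordGL_mem_diagonal_of_mem_borel hG hT h6 h8 hw this)
  · exact le_inf le_sup_right le_sup_left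

include hG hT h6 h8 h9 in
/-- `U ∩ N = 1`. -/
theorem posUnipotent_inf_monomial : D.posUnipotent F ⊓ D.monomialSubgroup F = ⊥ := by
  rw [eq_bot_iff]
  rintro g ⟨hgU, hgN⟩
  have hgB : g ∈ D.borelSubgroup F := Subgroup.mem_sup_left hgU
  have hgH : g ∈ D.diagonalSubgroup F := by
    rw [← borel_inf_monomial hG hT h6 h8 h9]
    exact ⟨hgB, hgN⟩
  have : g ∈ D.posUnipotent F ⊓ D.diagonalSubgroup F := ⟨hgU, hgH⟩
  rwa [posUnipotent_inf_diagonal hG hT] at this

end inter

end Cfsg.Agent.Helper7.Chev
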