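import Mathlib
import Cfsg.Agent.Helper7.ChevWeyl
import Cfsg.Prelude.Def_LieExceptional

set_option autoImplicit false
set_option linter.unusedSectionVars false
set_option linter.unusedVariables false

/-!
The `(B, N)`-pair of a Chevalley group.
-/

namespace Cfsg.Agent.Helper7.Chev

open Cfsg Cfsg.Lie Matrix DoubleCoset
open scoped Pointwise

variable {D : ChevalleyDatum} {F : Type*} [Field F]

section conj

variable (hG : Good2 D) (hT : T0 D)

/-- The elements of the group generated by the root elements of one root. -/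
theorem mem_closure_rootGen_eq {r : ℕ} (hr : r < D.nroots) {g : GL D.Idx F}
    (hg : g ∈ Subgroup.closure (rootGen D F (fun s => s = r))) :
    ∃ t : F, g = xGL hG.toGood1 hr t := by
  have hG1 := hG.toGood1
  induction hg using Subgroup.closure_induction with
  | mem x hx =>
    obtain ⟨s, t, hs, hx⟩ := hx
    subst hs
    exact ⟨t, eq_xGL hG1 hr hx⟩
  | one => exact ⟨0, (xGL_zero hG1 hr).symm⟩
  | mul x y _ _ hx hy =>
    obtain ⟨t1, rfl⟩ := hx
    obtain ⟨t2, rfl⟩ := hy
    exact ⟨t1 + t2, xGL_mul hG1 hr t1 t2⟩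
  | inv x _ hx =>
    obtain ⟨t1, rfl⟩ := hx
    exact ⟨-t1, xGL_inv hG1 hr t1⟩

/-- `H` normalises every root subgroup. -/
theorem diagonal_conj_xGL {h : GL D.Idx F} (hh : h ∈ D.diagonalSubgroup F) {r : ℕ}
    (hr : r < D.nroots) (t : F) : ∃ t' : F, h * xGL hG.toGood1 hr t * h⁻¹ = xGL hG.toGood1 hr t' := by
  have hG1 := hG.toGood1
  have hn := diagonalSubgroup_le_normalizer (F := F) hG (P := fun s => s = r)
    (fun s hs => by rw [hs]; exact hr) hh
  have hx : xGL hG1 hr t ∈ Subgroup.closure (rootGen D F (fun s => s = r)) :=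
    Subgroup.subset_closure ⟨r, t, rfl, xGL_coe hG1 hr t⟩
  exact mem_closure_rootGen_eq hG hr ((Subgroup.mem_set_normalizer_iff.mp hn _).mp hx)

theorem diagonal_conj_xGL' {h : GL D.Idx F} (hh : h ∈ D.diagonalSubgroup F) {r : ℕ}
    (hr : r < D.nroots) (t : F) : ∃ t' : F, h⁻¹ * xGL hG.toGood1 hr t * h = xGL hG.toGood1 hr t' := by
  have := diagonal_conj_xGL hG (inv_mem hh) hr t
  rwa [inv_inv] at this

theorem xGL_congr {r r' : ℕ} (h : r = r') (hr : r < D.nroots) (hr' : r' < D.nroots) (t : F) :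
    (xGL hG.toGood1 hr t : GL D.Idx F) = xGL hG.toGood1 hr' t := by
  subst h; rfl

/-- Conjugation of a root element by the inverse of the element of `N` of a word. -/
theorem nWordGL_inv_conj {w : List ℕ} (hw : ∀ i ∈ w, i < D.rank) {s : ℕ} (hs : s < D.nroots)
    (t : F) :
    ∃ (hr : (tabOf D).reflWord w.reverse s < D.nroots) (t' : F),
      (nWordGL hG w)⁻¹ * xGL hG.toGood1 hs t * nWordGL hG w = xGL hG.toGood1 hr t' := by
  have hG1 := hG.toGood1
  have hrev : ∀ i ∈ w.reverse, i < D.rank := fun i hi => hw i (List.mem_reverse.mp hi)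
  have hr := reflWord_lt hG hrev hs
  have hback : (tabOf D).reflWord w ((tabOf D).reflWord w.reverse s) = s := by
    have := reflWord_reverse hG hrev hs
    rwa [List.reverse_reverse] at this
  set r := (tabOf D).reflWord w.reverse s with hrdef
  set ε : F := (((tabOf D).etaWord w r : ℤ) : F) with hε
  have hεε : ε * ε = 1 := etaWord_cast_mul_self hG hw hr
  refine ⟨hr, ε * t, ?_⟩
  have c := nWordGL_conj (F := F) hG hw hr (ε * t)
  rw [← hε, ← mul_assoc, hεε, one_mul] at c
  have c' : nWordGL hG w * xGL hG1 hr (ε * t) * (nWordGL hG w)⁻¹ = xGL hG1 hs t := by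
    rw [c]
    exact xGL_congr hG hback _ _ _
  rw [← c']
  group

end conj

section mmu

variable (hG : Good2 D) (hT : T0 D) (h3 : (tabOf D).T3) (h4 : (tabOf D).T4 60) (h5 : (tabOf D).T5)
  (h6 : (tabOf D).T6) (h8 : (tabOf D).T8) (h9 : (tabOf D).T9)

include hG hT h3 h4 h5 h6 in
/-- The double coset condition when `w⁻¹ p` is positive. -/
theorem mul_mem_doubleCoset_of_pos {i : ℕ} (hi : i < D.rank) {h : GL D.Idx F}
    (hh : h ∈ D.diagonalSubgroup F) {w : List ℕ} (hw : ∀ j ∈ w, j < D.rank)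
    (hpos : D.nroots / 2 ≤ (tabOf D).reflWord w.reverse (D.simple i)) {b : GL D.Idx F}
    (hb : b ∈ D.borelSubgroup F) :
    nGL hG.toGood1 (hG.toGood1.simple_lt hi) * b * (h * nWordGL hG w) ∈
      doubleCoset (nGL hG.toGood1 (hG.toGood1.simple_lt hi) * (h * nWordGL hG w))
        (D.borelSubgroup F : Set (GL D.Idx F)) (D.borelSubgroup F) := by
  have hG1 := hG.toGood1
  have hp := hG1.simple_lt hi
  set ni : GL D.Idx F := nGL hG1 hp with hni
  set n : GL D.Idx F := h * nWordGL hG w with hn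
  have hUB : D.posUnipotent F ≤ D.borelSubgroup F := le_sup_left
  have hHB : D.diagonalSubgroup F ≤ D.borelSubgroup F := le_sup_right
  have hnN : n ∈ D.monomialSubgroup F :=
    mul_mem (Subgroup.mem_sup_left hh) (nWordGL_mem hG w)
  have hnNorm := monomialSubgroup_le_normalizer hG hnN
  -- decompose `b = u' x h_b`
  have hmul := Subgroup.coe_mul_of_right_le_normalizer_left (D.posUnipotent F)
    (D.diagonalSubgroup F) (diagonalSubgroup_le_normalizer_pos hG)
  obtain ⟨u, hu, hb', hhb, rfl⟩ : b ∈ (D.posUnipotent F : Set (GL D.Idx F)) *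
      (D.diagonalSubgroup F : Set (GL D.Idx F)) := by
    rw [← hmul]; exact hb
  have hXn : D.rootSubgroup F (D.simple i) ≤
      Subgroup.normalizer (Subgroup.closure (upGen D F (D.simple i)) : Set (GL D.Idx F)) :=
    le_trans le_sup_left (rootSubgroup_le_normalizer_up hG hT h3 h4 h5 hi)
  have hmul2 := Subgroup.coe_mul_of_right_le_normalizer_left
    (Subgroup.closure (upGen D F (D.simple i))) (D.rootSubgroup F (D.simple i)) hXn
  have hu' : u ∈ (Subgroup.closure (upGen D F (D.simple i)) : Set (GL D.Idx F)) *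
      (D.rootSubgroup F (D.simple i) : Set (GL D.Idx F)) := by
    rw [← hmul2, up_sup_rootSubgroup hG hT h5 hi]; exact hu
  obtain ⟨u', hu', x, hx, rfl⟩ := hu'
  obtain ⟨t, rfl⟩ := mem_rootSubgroup hG1 hp hx
  have hUpU : Subgroup.closure (upGen D F (D.simple i)) ≤ D.posUnipotent F := by
    rw [← up_sup_rootSubgroup hG hT h5 hi]; exact le_sup_left
  have c1 : ni * u' * ni⁻¹ ∈ D.borelSubgroup F := by
    apply hUB; apply hUpU
    exact (Subgroup.mem_set_normalizer_iff.mp (nGL_mem_normalizer_up hG hT h6 hi) u').mp hu'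
  have c2 : n⁻¹ * hb' * n ∈ D.borelSubgroup F := hHB (conj_mem_diagonal' hnNorm hhb)
  have c3 : n⁻¹ * xGL hG1 hp t * n ∈ D.borelSubgroup F := by
    obtain ⟨t', ht'⟩ := diagonal_conj_xGL' hG hh hp t
    obtain ⟨hr, t'', ht''⟩ := nWordGL_inv_conj (F := F) hG hw hp t'
    have e : n⁻¹ * xGL hG1 hp t * n =
        (nWordGL hG w)⁻¹ * (h⁻¹ * xGL hG1 hp t * h) * nWordGL hG w := by
      rw [hn]; group
    rw [e, ht', ht'']
    apply hUB
    exact Subgroup.subset_closure ⟨_, t'', (isPosRoot_iff hT hr).mpr hpos, xGL_coe hG1 hr t''⟩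
  refine mem_doubleCoset.mpr ⟨ni * u' * ni⁻¹, c1,
    (n⁻¹ * xGL hG1 hp t * n) * (n⁻¹ * hb' * n), mul_mem c3 c2, ?_⟩
  group

include hG hT h3 h4 h5 h6 h9 in
/-- The double coset condition `n_p B n ⊆ B n_p n B ∪ B n B`. -/
theorem mul_mem_union {i : ℕ} (hi : i < D.rank) {n b : GL D.Idx F}
    (hn : n ∈ D.monomialSubgroup F) (hb : b ∈ D.borelSubgroup F) :
    nGL hG.toGood1 (hG.toGood1.simple_lt hi) * b * n ∈
      doubleCoset (nGL hG.toGood1 (hG.toGood1.simple_lt hi) * n)
        (D.borelSubgroup F : Set (GL D.Idx F)) (D.borelSubgroup F) ∪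
      doubleCoset n (D.borelSubgroup F : Set (GL D.Idx F)) (D.borelSubgroup F) := by
  have hG1 := hG.toGood1
  have hp := hG1.simple_lt hi
  have hHB : D.diagonalSubgroup F ≤ D.borelSubgroup F := le_sup_right
  obtain ⟨h, hh, w, hw, rfl⟩ := monomialSubgroup_le_nWords hG hT h9 hn
  set ni : GL D.Idx F := nGL hG1 hp with hni
  by_cases hpos : D.nroots / 2 ≤ (tabOf D).reflWord w.reverse (D.simple i)
  · left
    exact mul_mem_doubleCoset_of_pos hG hT h3 h4 h5 h6 hi hh hw hpos hb
  · have hrev : ∀ j ∈ w.reverse, j < D.rank := fun j hj => hw j (List.mem_reverse.mp hj)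
    have hr := reflWord_lt hG hrev hp
    -- the element `n' = n_p n`
    have hniNorm : ni ∈ Subgroup.normalizer (D.diagonalSubgroup F : Set (GL D.Idx F)) :=
      monomialSubgroup_le_normalizer hG (nGL_mem_monomial hG hp)
    have hh' : ni * h * ni⁻¹ ∈ D.diagonalSubgroup F := conj_mem_diagonal hniNorm hh
    have hw' : ∀ j ∈ i :: w, j < D.rank := by
      intro j hj
      rcases List.mem_cons.mp hj with rfl | hj
      · exact hi
      · exact hw j hj
    have en' : ni * (h * nWordGL hG w) = (ni * h * ni⁻¹) * nWordGL hG (i :: w) := by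
      rw [nWordGL_cons hG hi, ← hni]; group
    have hpos' : D.nroots / 2 ≤ (tabOf D).reflWord (i :: w).reverse (D.simple i) := by
      rw [List.reverse_cons, reflWord_append, reflWord_cons]
      change D.nroots / 2 ≤ (tabOf D).reflWord w.reverse
        ((tabOf D).refl (D.simple i) (D.simple i))
      rw [refl_self, reflWord_neg hG hrev hp]
      exact neg_pos_of_neg hG hT hr (by omega)
    obtain ⟨P, hP⟩ := exists_subgroup_borel_union hG hT h3 h4 h5 h6 hi ni (nGL_coe hG1 hp)
    have hniP : ni ∈ P := by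
      change ni ∈ (P : Set (GL D.Idx F))
      rw [hP]
      exact Or.inr (mem_doubleCoset_self _ _ _)
    have hbP : b ∈ P := by
      change b ∈ (P : Set (GL D.Idx F))
      rw [hP]
      exact Or.inl hb
    have hgP : ni * b * ni⁻¹ ∈ (P : Set (GL D.Idx F)) := mul_mem (mul_mem hniP hbP) (inv_mem hniP)
    rw [hP] at hgP
    rcases hgP with hgB | hgD
    · -- `n_p b n_p⁻¹ ∈ B`
      left
      refine mem_doubleCoset.mpr ⟨ni * b * ni⁻¹, hgB, 1, one_mem _, ?_⟩
      group
    · right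
      obtain ⟨b₁, hb₁, b₂, hb₂, e⟩ := mem_doubleCoset.mp hgD
      have hC1 := mul_mem_doubleCoset_of_pos hG hT h3 h4 h5 h6 hi hh' hw' hpos' hb₂
      rw [← en', ← hni] at hC1
      obtain ⟨b₃, hb₃, b₄, hb₄, e2⟩ := mem_doubleCoset.mp hC1
      refine mem_doubleCoset.mpr ⟨b₁ * b₃ * (ni * ni), ?_, b₄, hb₄, ?_⟩
      · exact mul_mem (mul_mem hb₁ hb₃) (hHB (nGL_sq_mem hG hp))
      · calc ni * b * (h * nWordGL hG w)
            = (ni * b * ni⁻¹) * (ni * (h * nWordGL hG w)) := by group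
          _ = b₁ * (ni * b₂ * (ni * (h * nWordGL hG w))) := by rw [e]; group
          _ = b₁ * (b₃ * (ni * (ni * (h * nWordGL hG w))) * b₄) := by rw [e2]
          _ = _ := by group

end mmu

section pair

variable (hG : Good2 D) (hT : T0 D) (h3 : (tabOf D).T3) (h4 : (tabOf D).T4 60) (h5 : (tabOf D).T5)
  (h6 : (tabOf D).T6) (h8 : (tabOf D).T8) (h9 : (tabOf D).T9)

include hG in
theorem simple_ne {i j : ℕ} (hi : i < D.rank) (hj : j < D.rank) (hij : i ≠ j) :
    D.simple i ≠ D.simple j := by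
  intro h
  have h1 := hG.toGood1.cr_simple hi hi
  have h2 := hG.toGood1.cr_simple hj hi
  rw [if_pos rfl] at h1
  rw [if_neg hij, ← h, h1] at h2
  exact one_ne_zero h2

include hG hT h8 in
/-- `n_p x_p(1) n_p⁻¹ ∉ B`. -/
theorem nGL_conj_self_not_mem_borel {j : ℕ} (hj : j < D.rank) :
    nGL hG.toGood1 (hG.toGood1.simple_lt hj) * xGL hG.toGood1 (hG.toGood1.simple_lt hj) (1 : F) *
      (nGL hG.toGood1 (hG.toGood1.simple_lt hj))⁻¹ ∉ D.borelSubgroup F := by
  have hG1 := hG.toGood1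
  have hp := hG1.simple_lt hj
  intro hB
  have hw : ∀ i ∈ [j], i < D.rank := by
    intro i hi
    rw [List.mem_singleton] at hi
    rw [hi]; exact hj
  have c := nWordGL_conj (F := F) hG hw hp 1
  have e : (nWordGL hG [j] : GL D.Idx F) = nGL hG1 hp := by
    rw [nWordGL_cons hG hj, nWordGL_nil, mul_one]
  rw [e] at c
  rw [c] at hB
  have hr := reflWord_lt hG hw hp
  have hneg : (tabOf D).reflWord [j] (D.simple j) < D.nroots / 2 := by
    change (tabOf D).refl (D.simple j) (D.simple j) < D.nroots / 2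
    rw [refl_self]
    exact neg_neg_of_pos hG hT hp (simple_pos hG1 hT hj)
  have hV : xGL hG1 hr ((((tabOf D).etaWord [j] (D.simple j) : ℤ) : F) * 1) ∈ D.negUnipotent F :=
    Subgroup.subset_closure ⟨_, _, (isNegRoot_iff hT hr).mpr hneg, xGL_coe hG1 hr _⟩
  have : xGL hG1 hr ((((tabOf D).etaWord [j] (D.simple j) : ℤ) : F) * 1) ∈
      D.borelSubgroup F ⊓ D.negUnipotent F := ⟨hB, hV⟩
  rw [borel_inf_negUnipotent hG hT, Subgroup.mem_bot] at this
  refine xGL_ne_one hG hT h8 hr ?_ this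
  rw [mul_one]
  exact etaWord_cast_ne_zero hG hw hp

include hG hT h6 h8 h9 in
/-- Distinct `n_p` are distinct modulo `B`. -/
theorem nGL_inv_mul_not_mem_borel {i j : ℕ} (hi : i < D.rank) (hj : j < D.rank) (hij : i ≠ j) :
    (nGL hG.toGood1 (hG.toGood1.simple_lt hi))⁻¹ * nGL hG.toGood1 (hG.toGood1.simple_lt hj) ∉
      D.borelSubgroup F := by
  have hG1 := hG.toGood1
  have hpi := hG1.simple_lt hi
  have hpj := hG1.simple_lt hj
  set ni : GL D.Idx F := nGL hG1 hpi with hni
  set nj : GL D.Idx F := nGL hG1 hpj with hnj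
  intro hB
  have hN : ni⁻¹ * nj ∈ D.monomialSubgroup F :=
    mul_mem (inv_mem (nGL_mem_monomial hG hpi)) (nGL_mem_monomial hG hpj)
  have hH : ni⁻¹ * nj ∈ D.diagonalSubgroup F := by
    rw [← borel_inf_monomial hG hT h6 h8 h9]
    exact ⟨hB, hN⟩
  obtain ⟨t', ht'⟩ := diagonal_conj_xGL hG hH hpj (1 : F)
  apply nGL_conj_self_not_mem_borel (F := F) hG hT h8 hj
  have e : nj * xGL hG1 hpj 1 * nj⁻¹ =
      ni * ((ni⁻¹ * nj) * xGL hG1 hpj 1 * (ni⁻¹ * nj)⁻¹) * ni⁻¹ := by group
  rw [← hnj, e, ht']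
  have hup : xGL hG1 hpj t' ∈ Subgroup.closure (upGen D F (D.simple i)) :=
    Subgroup.subset_closure ⟨D.simple j, t',
      (isPosRoot_iff hT hpj).mpr (simple_pos hG1 hT hj), (simple_ne hG hi hj hij).symm,
      xGL_coe hG1 hpj t'⟩
  have := (Subgroup.mem_set_normalizer_iff.mp (nGL_mem_normalizer_up hG hT h6 hi) _).mp hup
  apply Subgroup.mem_sup_left
  refine Subgroup.closure_mono ?_ this
  rintro g ⟨s, t, hs, _, hg⟩
  exact ⟨s, t, hs, hg⟩

/-- The distinguished representatives `n_p` in the Chevalley group. -/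
def simpleReps (D : ChevalleyDatum) (F : Type*) [Field F] : Set ↥(D.group F) :=
  {n | ∃ i < D.rank, ((n : GL D.Idx F) : Matrix D.Idx D.Idx F) = D.nMat F (D.simple i) 1}

include hG in
/-- The element of `N` of a word lifts to the subgroup generated by the `n_p`. -/
theorem exists_lift_nWordGL {w : List ℕ} (hw : ∀ i ∈ w, i < D.rank) :
    ∃ g : ↥(D.group F), (g : GL D.Idx F) = nWordGL hG w ∧
      g ∈ Subgroup.closure (simpleReps D F) := by
  have hG1 := hG.toGood1
  induction w with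
  | nil => exact ⟨1, rfl, one_mem _⟩
  | cons i w ih =>
    have hi : i < D.rank := hw i (List.mem_cons_self)
    have hw' : ∀ j ∈ w, j < D.rank := fun j hj => hw j (List.mem_cons_of_mem _ hj)
    obtain ⟨g, hg, hgS⟩ := ih hw'
    have hp := hG1.simple_lt hi
    have hmem : (nGL hG1 hp : GL D.Idx F) ∈ D.group F :=
      monomialSubgroup_le_group hG1 (nGL_mem_monomial hG hp)
    refine ⟨⟨nGL hG1 hp, hmem⟩ * g, ?_, ?_⟩
    · rw [Subgroup.coe_mul, hg, nWordGL_cons hG hi]
    · exact mul_mem (Subgroup.subset_closure ⟨i, hi, nGL_coe hG1 hp⟩) hgS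

include hG hT h3 h4 h5 h6 h8 h9 in
/-- The `(B, N)`-pair of a Chevalley group. -/
theorem exists_bnPair :
    ∃ P : Cfsg.BNPair ↥(D.group F),
      P.B = (D.borelSubgroup F).subgroupOf (D.group F) ∧
      P.N = (D.monomialSubgroup F).subgroupOf (D.group F) ∧
      P.S = {n : ↥(D.group F) | ∃ i < D.rank,
        ((n : GL D.Idx F) : Matrix D.Idx D.Idx F) = D.nMat F (D.simple i) 1} := by
  have hG1 := hG.toGood1
  have hBG : D.borelSubgroup F ≤ D.group F := borelSubgroup_le_group hG1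
  have hNG : D.monomialSubgroup F ≤ D.group F := monomialSubgroup_le_group hG1
  have hHB : D.diagonalSubgroup F ≤ D.borelSubgroup F := le_sup_right
  have hHN : D.diagonalSubgroup F ≤ D.monomialSubgroup F := le_sup_left
  have hBNH := borel_inf_monomial (F := F) hG hT h6 h8 h9
  have hS : ∀ s : ↥(D.group F), ∀ i, ∀ hi : i < D.rank,
      ((s : GL D.Idx F) : Matrix D.Idx D.Idx F) = D.nMat F (D.simple i) 1 →
      (s : GL D.Idx F) = nGL hG1 (hG1.simple_lt hi) :=
    fun s i hi hs => Units.ext (hs.trans (nGL_coe hG1 (hG1.simple_lt hi)).symm)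
  refine ⟨{ B := (D.borelSubgroup F).subgroupOf (D.group F)
            N := (D.monomialSubgroup F).subgroupOf (D.group F)
            S := simpleReps D F
            sup_eq_top := ?_
            conj_mem := ?_
            subset := ?_
            sq_mem := ?_
            inj := ?_
            closure_sup := ?_
            mul_mem_union := ?_
            conj_ne := ?_ }, rfl, rfl, rfl⟩
  · rw [← Subgroup.subgroupOf_sup hBG hNG, borel_sup_monomial hG1 hT, Subgroup.subgroupOf_self]
  · intro n hn t ht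
    rw [Subgroup.mem_subgroupOf] at hn ⊢
    have htH : (t : GL D.Idx F) ∈ D.diagonalSubgroup F := by
      rw [← hBNH]
      exact ⟨ht.1, ht.2⟩
    rw [Subgroup.coe_mul, Subgroup.coe_mul, Subgroup.coe_inv]
    exact hHB (conj_mem_diagonal (monomialSubgroup_le_normalizer hG hn) htH)
  · rintro n ⟨i, hi, hn⟩
    change (n : GL D.Idx F) ∈ D.monomialSubgroup F
    exact Subgroup.mem_sup_right
      (Subgroup.subset_closure ⟨D.simple i, hG1.simple_lt hi, hn⟩)
  · rintro s ⟨i, hi, hs⟩
    rw [Subgroup.mem_subgroupOf, Subgroup.coe_mul, hS s i hi hs]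
    exact hHB (nGL_sq_mem hG _)
  · rintro s ⟨i, hi, hs⟩ s' ⟨j, hj, hs'⟩ hmem
    by_cases hij : i = j
    · subst hij
      exact Subtype.ext (Units.ext (hs.trans hs'.symm))
    · exfalso
      rw [Subgroup.mem_subgroupOf, Subgroup.coe_mul, Subgroup.coe_inv, hS s i hi hs,
        hS s' j hj hs'] at hmem
      exact nGL_inv_mul_not_mem_borel hG hT h6 h8 h9 hi hj hij hmem
  · apply le_antisymm
    · apply sup_le
      · rw [Subgroup.closure_le]
        rintro n ⟨i, hi, hn⟩
        change (n : GL D.Idx F) ∈ D.monomialSubgroup F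
        exact Subgroup.mem_sup_right
          (Subgroup.subset_closure ⟨D.simple i, hG1.simple_lt hi, hn⟩)
      · exact inf_le_right
    · intro n hn
      rw [Subgroup.mem_subgroupOf] at hn
      obtain ⟨h, hh, w, hw, e⟩ := monomialSubgroup_le_nWords hG hT h9 hn
      obtain ⟨g, hg, hgS⟩ := exists_lift_nWordGL (F := F) hG hw
      have hhG : h ∈ D.group F := hBG (hHB hh)
      have e' : n = ⟨h, hhG⟩ * g := by
        apply Subtype.ext
        rw [Subgroup.coe_mul, hg]
        exact e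
      rw [e']
      apply mul_mem
      · apply Subgroup.mem_sup_right
        exact ⟨hHB hh, hHN hh⟩
      · exact Subgroup.mem_sup_left hgS
  · rintro s ⟨i, hi, hs⟩ n hn b hb
    rw [Subgroup.mem_subgroupOf] at hn hb
    have key := mul_mem_union hG hT h3 h4 h5 h6 h9 hi hn hb
    rw [← hS s i hi hs] at key
    rcases key with key | key
    · left
      obtain ⟨b₁, hb₁, b₂, hb₂, e⟩ := mem_doubleCoset.mp key
      refine mem_doubleCoset.mpr ⟨⟨b₁, hBG hb₁⟩, hb₁, ⟨b₂, hBG hb₂⟩, hb₂, ?_⟩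
      apply Subtype.ext
      simpa only [Subgroup.coe_mul] using e
    · right
      obtain ⟨b₁, hb₁, b₂, hb₂, e⟩ := mem_doubleCoset.mp key
      refine mem_doubleCoset.mpr ⟨⟨b₁, hBG hb₁⟩, hb₁, ⟨b₂, hBG hb₂⟩, hb₂, ?_⟩
      apply Subtype.ext
      simpa only [Subgroup.coe_mul] using e
  · rintro s ⟨i, hi, hs⟩ heq
    have hp := hG1.simple_lt hi
    have hxB : xGL hG1 hp (1 : F) ∈ D.borelSubgroup F :=
      Subgroup.mem_sup_left (Subgroup.subset_closure
        ⟨D.simple i, 1, (isPosRoot_iff hT hp).mpr (simple_pos hG1 hT hi), xGL_coe hG1 hp 1⟩)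
    have hmem : s * ⟨xGL hG1 hp (1 : F), hBG hxB⟩ * s ∈
        (((D.borelSubgroup F).subgroupOf (D.group F) : Subgroup ↥(D.group F)) :
          Set ↥(D.group F)) := by
      rw [← heq]
      exact ⟨⟨xGL hG1 hp (1 : F), hBG hxB⟩, hxB, rfl⟩
    have hmem' : (s : GL D.Idx F) * xGL hG1 hp (1 : F) * (s : GL D.Idx F) ∈ D.borelSubgroup F := hmem
    rw [hS s i hi hs] at hmem'
    apply nGL_conj_self_not_mem_borel (F := F) hG hT h8 hi
    have e : nGL hG1 hp * xGL hG1 hp (1 : F) * (nGL hG1 hp)⁻¹ =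
        (nGL hG1 hp * xGL hG1 hp (1 : F) * nGL hG1 hp) * (nGL hG1 hp * nGL hG1 hp)⁻¹ := by group
    rw [e]
    exact mul_mem hmem' (inv_mem (hHB (nGL_sq_mem hG hp)))

end pair

end Cfsg.Agent.Helper7.Chev
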