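import Mathlib
import Cfsg.Agent.Helper7.ChevBN
import Cfsg.Agent.Helper7.BNBruhat

set_option autoImplicit false
set_option linter.unusedSectionVars false
set_option linter.unusedVariables false

/-!
The sharp form of the Bruhat decomposition of a Chevalley group.
-/

namespace Cfsg.Agent.Helper7.Chev

open Cfsg Cfsg.Lie Matrix DoubleCoset
open scoped Pointwise

variable {D : ChevalleyDatum} {F : Type*} [Field F]

/-- Every prefix of the word maps the next fundamental root to a positive root. -/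
def PrefixPos (D : ChevalleyDatum) (w : List ℕ) : Prop :=
  ∀ (w₁ : List ℕ) (k : ℕ) (w₂ : List ℕ), w = w₁ ++ k :: w₂ →
    D.nroots / 2 ≤ (tabOf D).reflWord w₁ (D.simple k)

/-- The generators of `U_w⁻`, in terms of the word. -/
def minusGen (D : ChevalleyDatum) (F : Type*) [Field F] (w : List ℕ) : Set (GL D.Idx F) :=
  {x | ∃ (r : ℕ) (t : F), D.IsPosRoot r ∧ (tabOf D).reflWord w r < D.nroots / 2 ∧
    (x : Matrix D.Idx D.Idx F) = D.x F r t}

/-- The generators of `U_n⁻`, in terms of the element `n`. -/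
def minusGen' (D : ChevalleyDatum) (F : Type*) [Field F] (n : GL D.Idx F) : Set (GL D.Idx F) :=
  {x | ∃ (r : ℕ) (t : F), D.IsPosRoot r ∧
    (D.rootSubgroup F r).map (MulAut.conj n).toMonoidHom ≤ D.negUnipotent F ∧
    (x : Matrix D.Idx D.Idx F) = D.x F r t}

section bruhat

variable (hG : Good2 D) (hT : T0 D) (h3 : (tabOf D).T3) (h4 : (tabOf D).T4 60) (h5 : (tabOf D).T5)
  (h6 : (tabOf D).T6) (h8 : (tabOf D).T8) (h9 : (tabOf D).T9)

include hG hT h6 h9 in
/-- Every element of `N` is given, modulo `H`, by a word all of whose prefixes map the next fundamental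
root to a positive root. -/
theorem exists_prefixPos_word {n : GL D.Idx F} (hn : n ∈ D.monomialSubgroup F) :
    ∃ h ∈ D.diagonalSubgroup F, ∃ w : List ℕ, (∀ i ∈ w, i < D.rank) ∧ PrefixPos D w ∧
      n = h * nWordGL hG w := by
  classical
  have hG1 := hG.toGood1
  have hex : ∃ m : ℕ, ∃ w : List ℕ, w.length = m ∧ (∀ i ∈ w, i < D.rank) ∧
      ∃ h ∈ D.diagonalSubgroup F, n = h * nWordGL hG w := by
    obtain ⟨h, hh, w, hw, e⟩ := monomialSubgroup_le_nWords hG hT h9 hn
    exact ⟨w.length, w, rfl, hw, h, hh, e⟩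
  obtain ⟨w, hlen, hw, h, hh, e⟩ := Nat.find_spec hex
  refine ⟨h, hh, w, hw, ?_, e⟩
  intro w₁ k w₂ hwe
  by_contra hneg
  have hw₁ : ∀ i ∈ w₁, i < D.rank := fun i hi => hw i (by rw [hwe]; simp [hi])
  have hw₂ : ∀ i ∈ w₂, i < D.rank := fun i hi => hw i (by rw [hwe]; simp [hi])
  have hk : k < D.rank := hw k (by rw [hwe]; simp)
  have hpk := hG1.simple_lt hk
  have hpos : D.nroots / 2 ≤ (tabOf D).reflWord (w₁ ++ [k]) (D.simple k) := by
    rw [reflWord_append, reflWord_cons]
    change D.nroots / 2 ≤ (tabOf D).reflWord w₁ ((tabOf D).refl (D.simple k) (D.simple k))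
    rw [refl_self, reflWord_neg hG hw₁ hpk]
    exact neg_pos_of_neg hG hT (reflWord_lt hG hw₁ hpk) (by omega)
  obtain ⟨w', hw', hlen', h', hh', e'⟩ := exists_deletion (F := F) hG hT h6 hw₁ hk hpos
  have hmin := Nat.find_min hex (m := (w' ++ w₂).length) (by
    rw [← hlen, hwe]; simp; omega)
  apply hmin
  refine ⟨w' ++ w₂, rfl, ?_, h * h', mul_mem hh hh', ?_⟩
  · intro i hi
    rcases List.mem_append.mp hi with hi | hi
    · exact hw' i hi
    · exact hw₂ i hi
  · have e2 : w = (w₁ ++ [k]) ++ w₂ := by rw [hwe]; simp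
    rw [e, e2, nWordGL_append, e', nWordGL_append]
    group

theorem prefixPos_of_append {w₀ : List ℕ} {k : ℕ} (h : PrefixPos D (w₀ ++ [k])) :
    PrefixPos D w₀ ∧ D.nroots / 2 ≤ (tabOf D).reflWord w₀ (D.simple k) := by
  constructor
  · intro w₁ j w₂ hw
    exact h w₁ j (w₂ ++ [k]) (by rw [hw]; simp)
  · exact h w₀ k [] rfl

/-- Conjugation maps a subgroup generated by a set into the subgroup generated by another set as soon
as it does so on the generators. -/
theorem conj_closure_le {G : Type*} [Group G] {S S' : Set G} (a : G)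
    (h : ∀ x ∈ S, a * x * a⁻¹ ∈ Subgroup.closure S') :
    ∀ y ∈ Subgroup.closure S, a * y * a⁻¹ ∈ Subgroup.closure S' := by
  intro y hy
  induction hy using Subgroup.closure_induction with
  | mem x hx => exact h x hx
  | one => simp
  | mul x y _ _ hx hy =>
    have : a * (x * y) * a⁻¹ = (a * x * a⁻¹) * (a * y * a⁻¹) := by group
    rw [this]; exact mul_mem hx hy
  | inv x _ hx =>
    have : a * x⁻¹ * a⁻¹ = (a * x * a⁻¹)⁻¹ := by group
    rw [this]; exact inv_mem hx

include hG hT h3 h4 h5 h6 in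
/-- `n_w U ⊆ B n_w U_w⁻` for a word all of whose prefixes map the next fundamental root to a positive
root. -/
theorem nWordGL_mul_mem : ∀ (m : ℕ) (w : List ℕ), w.length = m → (∀ i ∈ w, i < D.rank) →
    PrefixPos D w → ∀ u ∈ D.posUnipotent F,
    ∃ b ∈ D.borelSubgroup F, ∃ u' ∈ Subgroup.closure (minusGen D F w),
      nWordGL hG w * u = b * nWordGL hG w * u' := by
  have hG1 := hG.toGood1
  have hUB : D.posUnipotent F ≤ D.borelSubgroup F := le_sup_left
  intro m
  induction m with
  | zero =>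
    intro w hlen hw _ u hu
    have : w = [] := List.length_eq_zero_iff.mp hlen
    subst this
    refine ⟨u, hUB hu, 1, one_mem _, ?_⟩
    rw [nWordGL_nil]; group
  | succ m ih =>
    intro w hlen hw hpp u hu
    rcases List.eq_nil_or_concat w with rfl | ⟨w₀, k, hwk⟩
    · simp at hlen
    rw [List.concat_eq_append] at hwk
    subst hwk
    have hw₀ : ∀ i ∈ w₀, i < D.rank := fun i hi => hw i (by simp [hi])
    have hk : k < D.rank := hw k (by simp)
    have hpk := hG1.simple_lt hk
    have hlen₀ : w₀.length = m := by simpa using hlen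
    obtain ⟨hpp₀, hposk⟩ := prefixPos_of_append hpp
    set nk : GL D.Idx F := nGL hG1 hpk with hnk
    have enk : (nWordGL hG [k] : GL D.Idx F) = nk := by
      rw [nWordGL_cons hG hk, nWordGL_nil, mul_one]
    have hwk : ∀ i ∈ [k], i < D.rank := by
      intro i hi
      rw [List.mem_singleton] at hi
      rw [hi]; exact hk
    -- decompose `u = u₁ x`
    have hXn : D.rootSubgroup F (D.simple k) ≤
        Subgroup.normalizer (Subgroup.closure (upGen D F (D.simple k)) : Set (GL D.Idx F)) :=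
      le_trans le_sup_left (rootSubgroup_le_normalizer_up hG hT h3 h4 h5 hk)
    have hmul2 := Subgroup.coe_mul_of_right_le_normalizer_left
      (Subgroup.closure (upGen D F (D.simple k))) (D.rootSubgroup F (D.simple k)) hXn
    have hu' : u ∈ (Subgroup.closure (upGen D F (D.simple k)) : Set (GL D.Idx F)) *
        (D.rootSubgroup F (D.simple k) : Set (GL D.Idx F)) := by
      rw [← hmul2, up_sup_rootSubgroup hG hT h5 hk]; exact hu
    obtain ⟨u₁, hu₁, x, hx, rfl⟩ := hu'
    obtain ⟨t, rfl⟩ := mem_rootSubgroup hG1 hpk hx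
    have hUpU : Subgroup.closure (upGen D F (D.simple k)) ≤ D.posUnipotent F := by
      rw [← up_sup_rootSubgroup hG hT h5 hk]; exact le_sup_left
    have hu₂ : nk * u₁ * nk⁻¹ ∈ D.posUnipotent F := by
      apply hUpU
      exact (Subgroup.mem_set_normalizer_iff.mp (nGL_mem_normalizer_up hG hT h6 hk) u₁).mp hu₁
    obtain ⟨b, hb, u₃, hu₃, e₃⟩ := ih w₀ hlen₀ hw₀ hpp₀ _ hu₂
    refine ⟨b, hb, (nk⁻¹ * u₃ * nk⁻¹⁻¹) * xGL hG1 hpk t, ?_, ?_⟩
    · apply mul_mem
      · -- the conjugate of `u₃`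
        refine conj_closure_le nk⁻¹ ?_ u₃ hu₃
        rintro y ⟨r, t', hrpos, hrneg, hy⟩
        have hr := hrpos.1
        have hy' : y = xGL hG1 hr t' := eq_xGL hG1 hr hy
        obtain ⟨hr', t'', e⟩ := nWordGL_inv_conj (F := F) hG hwk hr t'
        rw [enk] at e
        rw [inv_inv, hy', e]
        apply Subgroup.subset_closure
        have hrk : r ≠ D.simple k := by
          intro h
          rw [h] at hrneg
          omega
        have hrefl : (tabOf D).reflWord [k].reverse r = (tabOf D).refl (D.simple k) r := rfl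
        refine ⟨_, t'', ?_, ?_, xGL_coe hG1 hr' t''⟩
        · rw [isPosRoot_iff hT hr', hrefl]
          exact (h6 k hk r hr ((isPosRoot_iff hT hr).mp hrpos) hrk).1
        · rw [hrefl, reflWord_append, reflWord_cons]
          change (tabOf D).reflWord w₀ ((tabOf D).refl (D.simple k)
            ((tabOf D).refl (D.simple k) r)) < D.nroots / 2
          rw [hG.refl_refl hk hr]
          exact hrneg
      · apply Subgroup.subset_closure
        refine ⟨D.simple k, t, (isPosRoot_iff hT hpk).mpr (simple_pos hG1 hT hk), ?_,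
          xGL_coe hG1 hpk t⟩
        rw [reflWord_append, reflWord_cons]
        change (tabOf D).reflWord w₀ ((tabOf D).refl (D.simple k) (D.simple k)) < D.nroots / 2
        rw [refl_self, reflWord_neg hG hw₀ hpk]
        exact neg_neg_of_pos hG hT (reflWord_lt hG hw₀ hpk) hposk
    · rw [nWordGL_append, enk]
      calc nWordGL hG w₀ * nk * (u₁ * xGL hG1 hpk t)
          = (nWordGL hG w₀ * (nk * u₁ * nk⁻¹)) * nk * xGL hG1 hpk t := by group
        _ = (b * nWordGL hG w₀ * u₃) * nk * xGL hG1 hpk t := by rw [e₃]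
        _ = _ := by group

include hG hT in
/-- The generators of `U_w⁻` are generators of `U_n⁻` for `n = h n_w`. -/
theorem minusGen_subset {w : List ℕ} (hw : ∀ i ∈ w, i < D.rank) {h : GL D.Idx F}
    (hh : h ∈ D.diagonalSubgroup F) :
    minusGen D F w ⊆ minusGen' D F (h * nWordGL hG w) := by
  have hG1 := hG.toGood1
  rintro x ⟨r, t, hrpos, hrneg, hx⟩
  refine ⟨r, t, hrpos, ?_, hx⟩
  have hr := hrpos.1
  rintro y ⟨z, hz, rfl⟩
  obtain ⟨t', rfl⟩ := mem_rootSubgroup hG1 hr hz
  change h * nWordGL hG w * xGL hG1 hr t' * (h * nWordGL hG w)⁻¹ ∈ D.negUnipotent F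
  have e : h * nWordGL hG w * xGL hG1 hr t' * (h * nWordGL hG w)⁻¹ =
      h * (nWordGL hG w * xGL hG1 hr t' * (nWordGL hG w)⁻¹) * h⁻¹ := by group
  rw [e, nWordGL_conj hG hw hr]
  have hV : xGL hG1 (reflWord_lt hG hw hr) ((((tabOf D).etaWord w r : ℤ) : F) * t') ∈
      D.negUnipotent F :=
    Subgroup.subset_closure
      ⟨_, _, (isNegRoot_iff hT (reflWord_lt hG hw hr)).mpr hrneg, xGL_coe hG1 _ _⟩
  exact (Subgroup.mem_set_normalizer_iff.mp (diagonalSubgroup_le_normalizer_neg hG hh) _).mp hV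

include hG hT h3 h4 h5 h6 h8 h9 in
/-- The sharp form of the Bruhat decomposition. -/
theorem bruhat_normal_form :
    (∀ g ∈ D.group F, ∃ b ∈ D.borelSubgroup F, ∃ n ∈ D.monomialSubgroup F,
      ∃ u ∈ Subgroup.closure (minusGen' D F n), g = b * n * u) ∧
    (∀ (b b' n n' u u' : GL D.Idx F), b ∈ D.borelSubgroup F → b' ∈ D.borelSubgroup F →
      n ∈ D.monomialSubgroup F → n' ∈ D.monomialSubgroup F →
      u ∈ Subgroup.closure (minusGen' D F n) → u' ∈ Subgroup.closure (minusGen' D F n') →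
      b * n * u = b' * n' * u' → n⁻¹ * n' ∈ D.diagonalSubgroup F ∧ (n = n' → b = b' ∧ u = u')) := by
  have hG1 := hG.toGood1
  have hUB : D.posUnipotent F ≤ D.borelSubgroup F := le_sup_left
  have hHB : D.diagonalSubgroup F ≤ D.borelSubgroup F := le_sup_right
  have hHN : D.diagonalSubgroup F ≤ D.monomialSubgroup F := le_sup_left
  have hBG : D.borelSubgroup F ≤ D.group F := borelSubgroup_le_group hG1
  have hNG : D.monomialSubgroup F ≤ D.group F := monomialSubgroup_le_group hG1
  obtain ⟨P, hPB, hPN, hPS⟩ := exists_bnPair (F := F) hG hT h3 h4 h5 h6 h8 h9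
  have hminusU : ∀ n : GL D.Idx F, Subgroup.closure (minusGen' D F n) ≤ D.posUnipotent F := by
    intro n
    apply Subgroup.closure_mono
    rintro x ⟨r, t, hr, _, hx⟩
    exact ⟨r, t, hr, hx⟩
  constructor
  · intro g hg
    obtain ⟨n, hnN, hgn⟩ := BN.bruhat_exists P ⟨g, hg⟩
    rw [hPN] at hnN
    obtain ⟨b₁, hb₁, b₂, hb₂, e⟩ := (BN.mem_C P).mp hgn
    rw [hPB] at hb₁ hb₂
    have hnN' : (n : GL D.Idx F) ∈ D.monomialSubgroup F := hnN
    have hb₁' : (b₁ : GL D.Idx F) ∈ D.borelSubgroup F := hb₁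
    have hb₂' : (b₂ : GL D.Idx F) ∈ D.borelSubgroup F := hb₂
    have e' : g = (b₁ : GL D.Idx F) * n * b₂ := by
      have := congrArg (fun z : ↥(D.group F) => (z : GL D.Idx F)) e
      simpa only [Subgroup.coe_mul] using this
    -- `b₂ = h₂ u₂`
    have hmul := Subgroup.coe_mul_of_left_le_normalizer_right (D.diagonalSubgroup F)
      (D.posUnipotent F) (diagonalSubgroup_le_normalizer_pos hG)
    obtain ⟨h₂, hh₂, u₂, hu₂, e₂⟩ : (b₂ : GL D.Idx F) ∈ (D.diagonalSubgroup F : Set (GL D.Idx F)) *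
        (D.posUnipotent F : Set (GL D.Idx F)) := by
      rw [← hmul, sup_comm]; exact hb₂'
    obtain ⟨h, hh, w, hw, hpp, en⟩ := exists_prefixPos_word hG hT h6 h9 hnN'
    obtain ⟨b, hb, u', hu', e₃⟩ :=
      nWordGL_mul_mem (F := F) hG hT h3 h4 h5 h6 w.length w rfl hw hpp u₂ hu₂
    have hnNorm := monomialSubgroup_le_normalizer hG hnN'
    refine ⟨(b₁ : GL D.Idx F) * ((n : GL D.Idx F) * h₂ * (n : GL D.Idx F)⁻¹) * (h * b * h⁻¹), ?_,
      (n : GL D.Idx F), hnN', u', ?_, ?_⟩
    · exact mul_mem (mul_mem hb₁' (hHB (conj_mem_diagonal hnNorm hh₂)))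
        (mul_mem (mul_mem (hHB hh) hb) (inv_mem (hHB hh)))
    · rw [en]
      exact Subgroup.closure_mono (minusGen_subset hG hT hw hh) hu'
    · rw [e', ← e₂]
      have e₄ : (n : GL D.Idx F) * u₂ = h * b * h⁻¹ * (n : GL D.Idx F) * u' := by
        rw [en]
        calc h * nWordGL hG w * u₂ = h * (nWordGL hG w * u₂) := by group
          _ = h * (b * nWordGL hG w * u') := by rw [e₃]
          _ = _ := by group
      calc (b₁ : GL D.Idx F) * n * (h₂ * u₂)
          = (b₁ : GL D.Idx F) * ((n : GL D.Idx F) * h₂ * (n : GL D.Idx F)⁻¹) *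
              ((n : GL D.Idx F) * u₂) := by group
        _ = (b₁ : GL D.Idx F) * ((n : GL D.Idx F) * h₂ * (n : GL D.Idx F)⁻¹) *
              (h * b * h⁻¹ * (n : GL D.Idx F) * u') := by rw [e₄]
        _ = _ := by group
  · intro b b' n n' u u' hb hb' hn hn' hu hu' e
    have huU := hminusU n hu
    have hu'U := hminusU n' hu'
    constructor
    · -- the double cosets agree
      have hnG := hNG hn
      have hn'G := hNG hn'
      have hCC : BN.C P (⟨n, hnG⟩ : ↥(D.group F)) = BN.C P (⟨n', hn'G⟩ : ↥(D.group F)) := by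
        have h1 : (⟨b * n * u, mul_mem (mul_mem (hBG hb) hnG) (hBG (hUB huU))⟩ : ↥(D.group F)) ∈
            BN.C P (⟨n, hnG⟩ : ↥(D.group F)) := by
          rw [BN.mem_C]
          refine ⟨⟨b, hBG hb⟩, ?_, ⟨u, hBG (hUB huU)⟩, ?_, rfl⟩
          · rw [hPB]; exact hb
          · rw [hPB]; exact hUB huU
        have h2 : (⟨b * n * u, mul_mem (mul_mem (hBG hb) hnG) (hBG (hUB huU))⟩ : ↥(D.group F)) ∈
            BN.C P (⟨n', hn'G⟩ : ↥(D.group F)) := by
          rw [BN.mem_C]
          refine ⟨⟨b', hBG hb'⟩, ?_, ⟨u', hBG (hUB hu'U)⟩, ?_, Subtype.ext e⟩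
          · rw [hPB]; exact hb'
          · rw [hPB]; exact hUB hu'U
        unfold BN.C at h1 h2 ⊢
        rw [← doubleCoset_eq_of_mem h1, ← doubleCoset_eq_of_mem h2]
      have hnPN : (⟨n, hnG⟩ : ↥(D.group F)) ∈ P.N := by rw [hPN]; exact hn
      have hn'PN : (⟨n', hn'G⟩ : ↥(D.group F)) ∈ P.N := by rw [hPN]; exact hn'
      have h1 : BN.CW P (BN.proj P ⟨_, hnPN⟩) = BN.CW P (BN.proj P ⟨_, hn'PN⟩) := by
        rw [BN.CW_proj, BN.CW_proj]; exact hCC
      have h2 := (BN.proj_eq_iff P).mp (BN.CW_injective P h1)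
      rw [hPB] at h2
      have h3' : n⁻¹ * n' ∈ D.borelSubgroup F := h2
      rw [← borel_inf_monomial hG hT h6 h8 h9]
      exact Subgroup.mem_inf.mpr ⟨h3', Subgroup.mul_mem _ (Subgroup.inv_mem _ hn) hn'⟩
    · intro hnn
      subst hnn
      have hconj : ∀ y ∈ Subgroup.closure (minusGen' D F n), n * y * n⁻¹ ∈ D.negUnipotent F := by
        intro y hy
        have := conj_closure_le (S := minusGen' D F n)
          (S' := {g : GL D.Idx F | ∃ (r : ℕ) (t : F), D.IsNegRoot r ∧
            (g : Matrix D.Idx D.Idx F) = D.x F r t}) n ?_ y hy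
        · exact this
        · rintro x ⟨r, t, hr, hle, hx⟩
          apply hle
          exact ⟨x, Subgroup.subset_closure ⟨t, hx⟩, rfl⟩
      have e1 : b'⁻¹ * b = n * (u' * u⁻¹) * n⁻¹ := by
        have : b'⁻¹ * (b * n * u) = b'⁻¹ * (b' * n * u') := by rw [e]
        have h4 : b'⁻¹ * b * n * u = n * u' := by
          calc b'⁻¹ * b * n * u = b'⁻¹ * (b * n * u) := by group
            _ = b'⁻¹ * (b' * n * u') := this
            _ = n * u' := by group
        calc b'⁻¹ * b = (b'⁻¹ * b * n * u) * u⁻¹ * n⁻¹ := by group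
          _ = (n * u') * u⁻¹ * n⁻¹ := by rw [h4]
          _ = _ := by group
      have h5 : b'⁻¹ * b ∈ D.borelSubgroup F ⊓ D.negUnipotent F := by
        refine Subgroup.mem_inf.mpr ⟨Subgroup.mul_mem _ (Subgroup.inv_mem _ hb') hb, ?_⟩
        rw [e1]
        exact hconj _ (mul_mem hu' (inv_mem hu))
      rw [borel_inf_negUnipotent hG hT, Subgroup.mem_bot] at h5
      have hbb : b = b' := by
        have := inv_mul_eq_one.mp h5
        exact this.symm
      refine ⟨hbb, ?_⟩
      subst hbb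
      exact mul_left_cancel e

end bruhat

end Cfsg.Agent.Helper7.Chev
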