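import Mathlib
import Cfsg.Agent.Helper7.ChevBruhat

set_option autoImplicit false
set_option linter.unusedSectionVars false
set_option linter.unusedVariables false

/-!
The subgroup generated by the root subgroups of a closed set of positive roots consists of the ordered products
over that set; its order over a finite field. Applied to the set of positive roots made negative by a word.
-/

namespace Cfsg.Agent.Helper7.Chev

open Cfsg Cfsg.Lie Matrix
open scoped Pointwise

namespace Tab

variable (T : Tab)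

/-- The roots of the commutator terms of two distinct negative roots are negative. -/
def T7n : Prop :=
  AllLt T.n (fun r => r < T.n / 2 → AllLt T.n (fun s => s < T.n / 2 → s ≠ r →
    (T.commTerms r s).all (fun c => decide (c.1 < T.n / 2)) = true))

instance : Decidable T.T7n := by unfold T7n; infer_instance

end Tab

variable {D : ChevalleyDatum} {F : Type*} [Field F]

/-- The root elements of the roots in `Ψ` with index at least `k`. -/
def geGenS (D : ChevalleyDatum) (F : Type*) [Field F] (Ψ : ℕ → Prop) (k : ℕ) : Set (GL D.Idx F) :=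
  {g | ∃ (r : ℕ) (t : F), k ≤ r ∧ r < D.nroots ∧ Ψ r ∧ (g : Matrix D.Idx D.Idx F) = D.x F r t}

/-- The subgroup generated by the root subgroups of the roots in `Ψ` with index at least `k`. -/
def UgeS (D : ChevalleyDatum) (F : Type*) [Field F] (Ψ : ℕ → Prop) (k : ℕ) : Subgroup (GL D.Idx F) :=
  Subgroup.closure (geGenS D F Ψ k)

/-- A set of positive roots closed under the commutator formula. -/
def ClosedSet (D : ChevalleyDatum) (Ψ : ℕ → Prop) : Prop :=
  ∀ r s, D.nroots / 2 ≤ r → r < s → s < D.nroots → Ψ r → Ψ s →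
    ∀ c ∈ (tabOf D).commTerms r s, Ψ c.1

theorem UgeS_top (Ψ : ℕ → Prop) : UgeS D F Ψ D.nroots = ⊥ := by
  unfold UgeS
  rw [Subgroup.closure_eq_bot_iff]
  rintro g ⟨r, t, h1, h2, _⟩
  omega

section collect

variable (hG : Good2 D) (hT : T0 D) (h3 : (tabOf D).T3) (h4 : (tabOf D).T4 60) (h7 : (tabOf D).T7)
  {Ψ : ℕ → Prop} (hΨ : ClosedSet D Ψ)

include hG hT h3 h4 h7 hΨ in
/-- `X_k` normalises the subgroup generated by the root subgroups of larger index in `Ψ`. -/
theorem xGL_mem_normalizer_UgeS {k : ℕ} (hk1 : D.nroots / 2 ≤ k) (hk : k < D.nroots) (hkΨ : Ψ k)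
    (t : F) :
    xGL hG.toGood1 hk t ∈ Subgroup.normalizer (UgeS D F Ψ (k + 1) : Set (GL D.Idx F)) := by
  have hG1 := hG.toGood1
  have key : ∀ (t : F) (x : GL D.Idx F), x ∈ geGenS D F Ψ (k + 1) →
      (xGL hG1 hk t)⁻¹ * x * xGL hG1 hk t ∈ UgeS D F Ψ (k + 1) := by
    rintro t x ⟨s, u, hks, hs, hsΨ, hx⟩
    rw [eq_xGL hG1 hs hx]
    have hsk : s ≠ k := by omega
    have hsn : s ≠ D.neg k := by
      intro h
      have := hT k hk
      obtain ⟨_, k2, _⟩ := this
      have hkpos : D.IsPosRoot k := (isPosRoot_iff hT hk).mpr hk1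
      have := (k2 hkpos).2
      omega
    have hc := comm_all (F := F) hG h3 h4 hk hs hsk hsn t u
    have hterms := h7 k hk hk1 s hs (by omega)
    have hw : ∀ q ∈ D.commWord F k s t u, k + 1 ≤ q.1 ∧ q.1 < D.nroots ∧ Ψ q.1 := by
      intro q hq
      unfold ChevalleyDatum.commWord at hq
      rw [List.mem_map] at hq
      obtain ⟨c, hc', rfl⟩ := hq
      rw [List.all_eq_true] at hterms
      rw [← commTerms_eq] at hc'
      have := of_decide_eq_true (hterms c hc')
      exact ⟨this.1, this.2, hΨ k s hk1 (by omega) hs hkΨ hsΨ c hc'⟩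
    have e : (xGL hG1 hk t)⁻¹ * xGL hG1 hs u * xGL hG1 hk t =
        xGL hG1 hs u * ((D.commWord F k s t u).map (xGL' hG1)).prod := by
      rw [mul_assoc, inv_mul_eq_iff_eq_mul]
      apply Units.ext
      rw [Units.val_mul, Units.val_mul, Units.val_mul, xGL_coe, xGL_coe, wordGL_coe, hc, mul_assoc]
    rw [e]
    apply mul_mem
    · exact Subgroup.subset_closure ⟨s, u, hks, hs, hsΨ, xGL_coe hG1 hs u⟩
    · apply Subgroup.list_prod_mem
      intro y hy
      rw [List.mem_map] at hy
      obtain ⟨q, hq, rfl⟩ := hy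
      obtain ⟨q1, q2, q3⟩ := hw q hq
      exact Subgroup.subset_closure ⟨q.1, q.2, q1, q2, q3, xGL'_coe hG1 q⟩
  unfold UgeS
  apply mem_normalizer_closure
  · intro x hx
    have := key (-t) x hx
    rwa [← xGL_inv, inv_inv] at this
  · intro x hx
    exact key t x hx

include hG hT h3 h4 h7 hΨ in
/-- Every element of `U_{Ψ, ≥ k}` is `x_k(a)` times an element of `U_{Ψ, ≥ k+1}`, with `a = 0` unless
`k ∈ Ψ`. -/
theorem UgeS_decomp {k : ℕ} (hk1 : D.nroots / 2 ≤ k) (hk : k < D.nroots) {g : GL D.Idx F}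
    (hg : g ∈ UgeS D F Ψ k) : ∃ (a : F) (g' : GL D.Idx F), g' ∈ UgeS D F Ψ (k + 1) ∧
      g = xGL hG.toGood1 hk a * g' ∧ (¬ Ψ k → a = 0) := by
  have hG1 := hG.toGood1
  by_cases hkΨ : Ψ k
  · have hXn : D.rootSubgroup F k ≤
        Subgroup.normalizer (UgeS D F Ψ (k + 1) : Set (GL D.Idx F)) := by
      unfold ChevalleyDatum.rootSubgroup
      rw [Subgroup.closure_le]
      rintro x ⟨t, hx⟩
      rw [eq_xGL hG1 hk hx]
      exact xGL_mem_normalizer_UgeS hG hT h3 h4 h7 hΨ hk1 hk hkΨ t
    have hmul := Subgroup.coe_mul_of_left_le_normalizer_right (D.rootSubgroup F k)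
      (UgeS D F Ψ (k + 1)) hXn
    have hle : UgeS D F Ψ k ≤ D.rootSubgroup F k ⊔ UgeS D F Ψ (k + 1) := by
      unfold UgeS
      rw [Subgroup.closure_le]
      rintro x ⟨r, t, hkr, hr, hrΨ, hx⟩
      by_cases h : r = k
      · subst h
        apply (le_sup_left : D.rootSubgroup F r ≤ _)
        exact Subgroup.subset_closure ⟨t, hx⟩
      · apply (le_sup_right : Subgroup.closure (geGenS D F Ψ (k + 1)) ≤ _)
        exact Subgroup.subset_closure ⟨r, t, by omega, hr, hrΨ, hx⟩
    have : g ∈ (D.rootSubgroup F k : Set (GL D.Idx F)) *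
        (UgeS D F Ψ (k + 1) : Set (GL D.Idx F)) := by
      rw [← hmul]; exact hle hg
    obtain ⟨x, hx, g', hg', rfl⟩ := this
    obtain ⟨a, rfl⟩ := mem_rootSubgroup hG1 hk hx
    exact ⟨a, g', hg', rfl, fun h => absurd hkΨ h⟩
  · refine ⟨0, g, ?_, by rw [xGL_zero, one_mul], fun _ => rfl⟩
    have hle : UgeS D F Ψ k ≤ UgeS D F Ψ (k + 1) := by
      unfold UgeS
      apply Subgroup.closure_mono
      rintro x ⟨r, t, hkr, hr, hrΨ, hx⟩
      have : r ≠ k := fun h => hkΨ (h ▸ hrΨ)
      exact ⟨r, t, by omega, hr, hrΨ, hx⟩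
    exact hle hg

include hG hT h3 h4 h7 hΨ in
/-- Every element of `U_{Ψ, ≥ k}` is an ordered product of root elements with parameters vanishing off
`Ψ`. -/
theorem UgeS_word : ∀ (j k : ℕ), k + j = D.nroots → D.nroots / 2 ≤ k → ∀ g : GL D.Idx F,
    g ∈ UgeS D F Ψ k → ∃ t : ℕ → F, (∀ r, ¬ Ψ r → t r = 0) ∧
      (g : Matrix D.Idx D.Idx F) = D.wordMat F ((List.range' k j).map fun r => (r, t r)) := by
  intro j
  induction j with
  | zero =>
    intro k hk _ g hg
    have : k = D.nroots := by omega
    rw [this, UgeS_top, Subgroup.mem_bot] at hg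
    refine ⟨fun _ => 0, fun _ _ => rfl, ?_⟩
    rw [hg]
    simp [wordMat_nil]
  | succ j ih =>
    intro k hk hk1 g hg
    have hklt : k < D.nroots := by omega
    obtain ⟨a, g', hg', rfl, ha⟩ := UgeS_decomp hG hT h3 h4 h7 hΨ hk1 hklt hg
    obtain ⟨t', ht'0, ht'⟩ := ih (k + 1) (by omega) (by omega) g' hg'
    refine ⟨Function.update t' k a, ?_, ?_⟩
    · intro r hr
      by_cases hrk : r = k
      · subst hrk
        rw [Function.update_self]
        exact ha hr
      · rw [Function.update_of_ne hrk]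
        exact ht'0 r hr
    · rw [List.range'_succ, List.map_cons, wordMat_cons, Units.val_mul, xGL_coe, ht']
      simp only [Function.update_self]
      congr 2
      apply List.map_congr_left
      intro r hr
      rw [List.mem_range'_1] at hr
      rw [Function.update_of_ne (by omega)]

include hG in
/-- An ordered product of root elements with parameters vanishing off `Ψ` lies in `U_{Ψ, ≥ k}`. -/
theorem wordGL_mem_UgeS (k j : ℕ) (hkj : k + j ≤ D.nroots) (t : ℕ → F) (ht : ∀ r, ¬ Ψ r → t r = 0) :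
    (((List.range' k j).map fun r => (r, t r)).map (xGL' hG.toGood1)).prod ∈ UgeS D F Ψ k := by
  apply Subgroup.list_prod_mem
  intro x hx
  rw [List.mem_map] at hx
  obtain ⟨q, hq, rfl⟩ := hx
  rw [List.mem_map] at hq
  obtain ⟨r, hr, rfl⟩ := hq
  rw [List.mem_range'_1] at hr
  by_cases hrΨ : Ψ r
  · exact Subgroup.subset_closure ⟨r, t r, hr.1, by omega, hrΨ, xGL'_coe _ _⟩
  · have hr' : r < D.nroots := by omega
    have : xGL' hG.toGood1 (r, t r) = 1 := by
      unfold xGL'
      rw [dif_pos hr', ht r hrΨ]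
      exact xGL_zero hG.toGood1 hr'
    rw [this]
    exact one_mem _

end collect

section card

variable (hG : Good2 D) (hT : T0 D) (h3 : (tabOf D).T3) (h4 : (tabOf D).T4 60) (h7 : (tabOf D).T7)
  (h8 : (tabOf D).T8) {Ψ : ℕ → Prop} (hΨ : ClosedSet D Ψ)

/-- Extension by zero of a family indexed by a finite set of roots. -/
def extS {F : Type*} [Field F] (S : Finset ℕ) (f : ↥S → F) : ℕ → F :=
  fun r => if h : r ∈ S then f ⟨r, h⟩ else 0

include hG hT h3 h4 h7 h8 hΨ in
/-- The order of the subgroup generated by the root subgroups of a closed set of positive roots. -/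
theorem card_UgeS [Fintype F] (S : Finset ℕ)
    (hS : ∀ r, r ∈ S ↔ D.nroots / 2 ≤ r ∧ r < D.nroots ∧ Ψ r) :
    Nat.card (UgeS D F Ψ (D.nroots / 2)) = Fintype.card F ^ S.card := by
  have hG1 := hG.toGood1
  have hle : D.nroots / 2 ≤ D.nroots := Nat.div_le_self _ _
  set j := D.nroots - D.nroots / 2 with hj
  let Φ : (↥S → F) → UgeS D F Ψ (D.nroots / 2) := fun f =>
    ⟨(((List.range' (D.nroots / 2) j).map fun r => (r, extS S f r)).map (xGL' hG1)).prod, by
      apply wordGL_mem_UgeS hG _ _ (by omega) _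
      intro r hr
      unfold extS
      rw [dif_neg]
      intro h
      exact hr ((hS r).mp h).2.2⟩
  have hinj : Function.Injective Φ := by
    intro f f' hff
    have h1 := congrArg
      (fun x : UgeS D F Ψ (D.nroots / 2) => ((x : GL D.Idx F) : Matrix D.Idx D.Idx F)) hff
    simp only [Φ, wordGL_coe] at h1
    have := word_unique hG hT h8 j (D.nroots / 2) (by omega) le_rfl _ _ h1
    funext i
    have hi' := (hS i.val).mp i.2
    have hi := this i.val (by rw [List.mem_range'_1]; omega)
    unfold extS at hi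
    rw [dif_pos i.2, dif_pos i.2] at hi
    exact hi
  have hsurj : Function.Surjective Φ := by
    rintro ⟨g, hg⟩
    obtain ⟨t, ht0, ht⟩ := UgeS_word hG hT h3 h4 h7 hΨ j (D.nroots / 2) (by omega) le_rfl g hg
    refine ⟨fun i => t i.val, ?_⟩
    apply Subtype.ext
    apply Units.ext
    simp only [Φ, wordGL_coe]
    rw [ht]
    congr 1
    apply List.map_congr_left
    intro r hr
    rw [List.mem_range'_1] at hr
    unfold extS
    by_cases hrS : r ∈ S
    · rw [dif_pos hrS]
    · rw [dif_neg hrS]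
      congr 1
      apply (ht0 r _).symm
      intro hrΨ
      exact hrS ((hS r).mpr ⟨hr.1, by omega, hrΨ⟩)
  rw [← Nat.card_congr (Equiv.ofBijective Φ ⟨hinj, hsurj⟩), Nat.card_eq_fintype_card,
    Fintype.card_fun, Fintype.card_coe]

end card

/-! ### The positive roots made negative by a word -/

/-- The positive roots made negative by the word. -/
def minusSet (D : ChevalleyDatum) (w : List ℕ) : ℕ → Prop :=
  fun r => D.nroots / 2 ≤ r ∧ r < D.nroots ∧ (tabOf D).reflWord w r < D.nroots / 2

section minus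

variable (hG : Good2 D) (hT : T0 D) (h3 : (tabOf D).T3) (h4 : (tabOf D).T4 60) (h7 : (tabOf D).T7)
  (h7n : (tabOf D).T7n) (h8 : (tabOf D).T8)

include hG in
theorem reflWord_injective {w : List ℕ} (hw : ∀ i ∈ w, i < D.rank) {r s : ℕ} (hr : r < D.nroots)
    (hs : s < D.nroots) (h : (tabOf D).reflWord w r = (tabOf D).reflWord w s) : r = s := by
  induction w with
  | nil => exact h
  | cons i w ih =>
    have hi : i < D.rank := hw i List.mem_cons_self
    have hw' : ∀ j ∈ w, j < D.rank := fun j hj => hw j (List.mem_cons_of_mem _ hj)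
    rw [reflWord_cons, reflWord_cons] at h
    apply ih hw'
    have := congrArg ((tabOf D).refl (D.simple i)) h
    rwa [hG.refl_refl hi (reflWord_lt hG hw' hr), hG.refl_refl hi (reflWord_lt hG hw' hs)] at this

include hG h3 in
/-- The commutator terms are carried along by a word in the fundamental reflections. -/
theorem commTerms_reflWord {w : List ℕ} (hw : ∀ i ∈ w, i < D.rank) {r s : ℕ} (hr : r < D.nroots)
    (hs : s < D.nroots) (hsr : s ≠ r) (hsn : s ≠ D.neg r) :
    ∀ c ∈ (tabOf D).commTerms r s,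
      ∃ c' ∈ (tabOf D).commTerms ((tabOf D).reflWord w r) ((tabOf D).reflWord w s),
        c'.1 = (tabOf D).reflWord w c.1 := by
  have hG1 := hG.toGood1
  induction w with
  | nil => intro c hc; exact ⟨c, hc, rfl⟩
  | cons i w ih =>
    intro c hc
    have hi : i < D.rank := hw i List.mem_cons_self
    have hw' : ∀ j ∈ w, j < D.rank := fun j hj => hw j (List.mem_cons_of_mem _ hj)
    obtain ⟨c', hc', e'⟩ := ih hw' c hc
    have hwr := reflWord_lt hG hw' hr
    have hws := reflWord_lt hG hw' hs
    have h1 : (tabOf D).reflWord w s ≠ (tabOf D).reflWord w r :=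
      fun h => hsr (reflWord_injective hG hw' hs hr h)
    have h2 : (tabOf D).reflWord w s ≠ D.neg ((tabOf D).reflWord w r) := by
      rw [← reflWord_neg hG hw' hr]
      exact fun h => hsn (reflWord_injective hG hw' hs (hG1.neg_lt hr) h)
    have h3row := (h3 i hi _ hwr _ hws h1 h2).1
    rw [reflWord_cons, reflWord_cons, reflWord_cons]
    change ∃ c'' ∈ (tabOf D).commTerms ((tabOf D).refl ((tabOf D).simple i) _)
      ((tabOf D).refl ((tabOf D).simple i) _), _
    rw [h3row]
    refine ⟨_, List.mem_map_of_mem hc', ?_⟩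
    simp only
    rw [e']
    rfl

include hG hT h3 h7 h7n in
/-- The set of positive roots made negative by a word is closed. -/
theorem closedSet_minusSet {w : List ℕ} (hw : ∀ i ∈ w, i < D.rank) : ClosedSet D (minusSet D w) := by
  have hG1 := hG.toGood1
  intro r s hr1 hrs hs ⟨_, hr, hrw⟩ ⟨_, _, hsw⟩ c hc
  have hterms := h7 r hr hr1 s hs hrs
  rw [List.all_eq_true] at hterms
  have hc1 := of_decide_eq_true (hterms c hc)
  have hsr : s ≠ r := by omega
  have hsn : s ≠ D.neg r := by
    intro h
    have := neg_neg_of_pos hG hT hr hr1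
    omega
  refine ⟨by omega, hc1.2, ?_⟩
  obtain ⟨c', hc', e'⟩ := commTerms_reflWord hG h3 hw hr hs hsr hsn c hc
  have hwr := reflWord_lt hG hw hr
  have hws := reflWord_lt hG hw hs
  have hne : (tabOf D).reflWord w s ≠ (tabOf D).reflWord w r :=
    fun h => hsr (reflWord_injective hG hw hs hr h)
  have hneg := h7n _ hwr hrw _ hws hsw hne
  rw [List.all_eq_true] at hneg
  have := of_decide_eq_true (hneg c' hc')
  rw [e'] at this
  exact this

include hT in
theorem closure_minusGen_eq (w : List ℕ) :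
    Subgroup.closure (minusGen D F w) = UgeS D F (minusSet D w) (D.nroots / 2) := by
  unfold UgeS
  congr 1
  ext g
  constructor
  · rintro ⟨r, t, hrpos, hrneg, hg⟩
    have hr := hrpos.1
    have hr1 := (isPosRoot_iff hT hr).mp hrpos
    exact ⟨r, t, hr1, hr, ⟨hr1, hr, hrneg⟩, hg⟩
  · rintro ⟨r, t, hr1, hr, ⟨_, _, hrneg⟩, hg⟩
    exact ⟨r, t, (isPosRoot_iff hT hr).mpr hr1, hrneg, hg⟩

/-- The number of positive roots made negative by the word. -/
def nMinus (D : ChevalleyDatum) (w : List ℕ) : ℕ :=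
  ((List.range' (D.nroots / 2) (D.nroots - D.nroots / 2)).filter
    (fun r => decide ((tabOf D).reflWord w r < D.nroots / 2))).length

include hG hT h3 h4 h7 h7n h8 in
/-- The order of `U_w⁻`. -/
theorem card_minus [Fintype F] {w : List ℕ} (hw : ∀ i ∈ w, i < D.rank) :
    Nat.card (Subgroup.closure (minusGen D F w)) = Fintype.card F ^ nMinus D w := by
  have hle : D.nroots / 2 ≤ D.nroots := Nat.div_le_self _ _
  set L := (List.range' (D.nroots / 2) (D.nroots - D.nroots / 2)).filter
    (fun r => decide ((tabOf D).reflWord w r < D.nroots / 2)) with hL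
  have hnd : L.Nodup := (List.nodup_range' (step := 1) (by omega)).filter _
  rw [closure_minusGen_eq hT,
    card_UgeS hG hT h3 h4 h7 h8 (closedSet_minusSet hG hT h3 h7 h7n hw) L.toFinset]
  · rw [List.toFinset_card_of_nodup hnd]
    rfl
  · intro r
    rw [List.mem_toFinset, hL, List.mem_filter, List.mem_range'_1, decide_eq_true_eq]
    unfold minusSet
    constructor
    · rintro ⟨⟨h1, h2⟩, h3'⟩
      exact ⟨h1, by omega, h1, by omega, h3'⟩
    · rintro ⟨h1, h2, _, _, h3'⟩
      exact ⟨⟨h1, by omega⟩, h3'⟩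

end minus

end Cfsg.Agent.Helper7.Chev
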