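import Mathlib
import Cfsg.Agent.Helper7.ChevMinus

set_option autoImplicit false
set_option linter.unusedSectionVars false
set_option linter.unusedVariables false

/-!
The order of a Chevalley group over a finite field from the sharp form of the Bruhat decomposition, given a list
of words representing the elements of the Weyl group.
-/

namespace Cfsg.Agent.Helper7.Chev

open Cfsg Cfsg.Lie Matrix DoubleCoset
open scoped Pointwise

variable {D : ChevalleyDatum} {F : Type*} [Field F]

/-- A list of words representing the elements of the Weyl group, each exactly once, by words all of whose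
prefixes map the next fundamental root to a positive root. -/
structure WList (D : ChevalleyDatum) (W : List (List ℕ)) : Prop where
  nil_mem : [] ∈ W
  nodup : W.Nodup
  ok : ∀ w ∈ W, (∀ i ∈ w, i < D.rank) ∧ PrefixPos D w
  closed : ∀ w ∈ W, ∀ i < D.rank, ∃ w' ∈ W, ∀ r < D.nroots,
    (tabOf D).reflWord (i :: w) r = (tabOf D).reflWord w' r
  inj : ∀ w ∈ W, ∀ w' ∈ W, (∀ r < D.nroots, (tabOf D).reflWord w r = (tabOf D).reflWord w' r) → w = w'

section words

variable (hG : Good2 D) (hT : T0 D) (h6 : (tabOf D).T6) (h8 : (tabOf D).T8)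

include hG in
theorem reflWord_reverse_cancel {b : List ℕ} (hb : ∀ i ∈ b, i < D.rank) {r : ℕ} (hr : r < D.nroots) :
    (tabOf D).reflWord b ((tabOf D).reflWord b.reverse r) = r := by
  induction b generalizing r with
  | nil => rfl
  | cons i b ih =>
    have hi : i < D.rank := hb i List.mem_cons_self
    have hb' : ∀ j ∈ b, j < D.rank := fun j hj => hb j (List.mem_cons_of_mem _ hj)
    rw [List.reverse_cons, reflWord_append, reflWord_cons, reflWord_cons]
    change (tabOf D).refl (D.simple i) ((tabOf D).reflWord b ((tabOf D).reflWord b.reverse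
      ((tabOf D).refl (D.simple i) r))) = r
    rw [ih hb' (hG.refl_lt hi hr), hG.refl_refl hi hr]

include hG in
theorem nWordGL_reverse_mul_mem {b : List ℕ} (hb : ∀ i ∈ b, i < D.rank) :
    (nWordGL hG b.reverse * nWordGL hG b : GL D.Idx F) ∈ D.diagonalSubgroup F := by
  induction b with
  | nil => rw [List.reverse_nil, nWordGL_nil, one_mul]; exact one_mem _
  | cons i b ih =>
    have hi : i < D.rank := hb i List.mem_cons_self
    have hb' : ∀ j ∈ b, j < D.rank := fun j hj => hb j (List.mem_cons_of_mem _ hj)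
    have hp := hG.toGood1.simple_lt hi
    rw [List.reverse_cons, nWordGL_append, nWordGL_cons hG hi, nWordGL_cons hG hi, nWordGL_nil,
      mul_one]
    set m : GL D.Idx F := nWordGL hG b.reverse with hm
    set ni : GL D.Idx F := nGL hG.toGood1 hp with hni
    have e : m * ni * (ni * nWordGL hG b) = (m * (ni * ni) * m⁻¹) * (m * nWordGL hG b) := by group
    rw [e]
    exact mul_mem (conj_mem_diagonal (nWordGL_mem_normalizer hG _) (nGL_sq_mem hG hp)) (ih hb')

include hG hT h6 h8 in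
/-- Two words with the same action on the roots give the same element of `N` modulo `H`. -/
theorem nWordGL_eq_of_reflWord_eq {a b : List ℕ} (ha : ∀ i ∈ a, i < D.rank)
    (hb : ∀ i ∈ b, i < D.rank)
    (h : ∀ r < D.nroots, (tabOf D).reflWord a r = (tabOf D).reflWord b r) :
    ∃ h₀ ∈ D.diagonalSubgroup F, (nWordGL hG a : GL D.Idx F) = h₀ * nWordGL hG b := by
  have hrev : ∀ i ∈ b.reverse, i < D.rank := fun i hi => hb i (List.mem_reverse.mp hi)
  have hc : ∀ i ∈ a ++ b.reverse, i < D.rank := by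
    intro i hi
    rcases List.mem_append.mp hi with hi | hi
    · exact ha i hi
    · exact hrev i hi
  have hid : ∀ r < D.nroots, (tabOf D).reflWord (a ++ b.reverse) r = r := by
    intro r hr
    rw [reflWord_append, h _ (reflWord_lt hG hrev hr), reflWord_reverse_cancel hG hb hr]
  have h1 : (nWordGL hG (a ++ b.reverse) : GL D.Idx F) ∈ D.diagonalSubgroup F :=
    nWordGL_mem_diagonal_of_pos hG hT h6 h8 _ _ rfl hc (fun s hs hsp => by rw [hid s hs]; exact hsp)
  have h2 := nWordGL_reverse_mul_mem (F := F) hG hb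
  rw [nWordGL_append] at h1
  set x : GL D.Idx F := nWordGL hG a with hx
  set y : GL D.Idx F := nWordGL hG b with hy
  set z : GL D.Idx F := nWordGL hG b.reverse with hz
  refine ⟨(x * z) * (y * (z * y)⁻¹ * y⁻¹), ?_, by group⟩
  exact mul_mem h1 (conj_mem_diagonal (nWordGL_mem_normalizer hG _) (inv_mem h2))

include hG h8 in
/-- Distinct roots have distinct non-trivial root elements. -/
theorem root_eq_of_xGL_eq {r s : ℕ} (hr : r < D.nroots) (hs : s < D.nroots) {a b : F} (ha : a ≠ 0)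
    (h : xGL hG.toGood1 hr a = xGL hG.toGood1 hs b) : r = s := by
  have hG1 := hG.toGood1
  by_contra hrs
  have hnr := hG1.neg_lt hr
  have hne := hG1.neg_ne hr
  have hm : D.x F r a = D.x F s b := by
    have := congrArg (fun x : GL D.Idx F => (x : Matrix D.Idx D.Idx F)) h
    simpa only [xGL_coe] using this
  have hcol : D.x F r a *ᵥ eR D F (D.neg r) = D.x F s b *ᵥ eR D F (D.neg r) := by rw [hm]
  rw [x_mulVec_eR_neg D F hr hnr hne] at hcol
  by_cases hsn : D.neg r = s
  · -- `x_s(b)` fixes `e_s`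
    rw [hsn, x_mulVec_eR_self D F hs] at hcol
    have := congrFun hcol (Sum.inr ⟨r, hr⟩)
    simp only [Pi.add_apply, Pi.smul_apply, eR_apply_inr, hR_apply_inr, smul_eq_mul, mul_zero,
      add_zero, if_true, mul_one] at this
    rw [if_neg (fun h' => hrs h'.symm)] at this
    have h0 : a ^ 2 = 0 := by linear_combination -this
    exact ha (pow_eq_zero_iff (two_ne_zero) |>.mp h0)
  · have hsn' : D.neg r ≠ D.neg s := by
      intro h'
      apply hrs
      rw [← hG1.neg_neg hr, h', hG1.neg_neg hs]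
    rw [x_mulVec_eR_other D F hs (hG1.keysNodup hs) hnr hsn hsn'] at hcol
    have hentry : ∀ i : Fin D.rank, a * ((cr D r i.val : ℤ) : F) = 0 := by
      intro i
      have := congrFun hcol (Sum.inl i)
      simp only [Pi.add_apply, Pi.smul_apply, eR_apply_inl, hR_apply_inl, smul_eq_mul, mul_zero,
        zero_add, add_zero, chainVec_apply_inl] at this
      exact this
    have hprim := (h8.1 r hr).2
    have hl : (tabOf D).l = D.rank := rfl
    rw [hl] at hprim
    have hmm : (List.range D.rank).map (fun i => ((tabOf D).cr r i).natAbs) =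
        ((List.range D.rank).map (fun i => cr D r i)).map Int.natAbs := by
      rw [List.map_map]; rfl
    rw [hmm] at hprim
    obtain ⟨c, hc, hc0⟩ := exists_cast_ne_zero (F := F) _ hprim
    rw [List.mem_map] at hc
    obtain ⟨i, hi, rfl⟩ := hc
    rw [List.mem_range] at hi
    have := hentry ⟨i, hi⟩
    exact ha ((mul_eq_zero.mp this).resolve_right hc0)

include hG hT h8 in
/-- Two words giving the same element of `N` modulo `H` act in the same way on the roots. -/
theorem reflWord_eq_of_nWordGL_eq {a b : List ℕ} (ha : ∀ i ∈ a, i < D.rank)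
    (hb : ∀ i ∈ b, i < D.rank) {h₀ : GL D.Idx F} (hh : h₀ ∈ D.diagonalSubgroup F)
    (e : (nWordGL hG b : GL D.Idx F) = nWordGL hG a * h₀) :
    ∀ r < D.nroots, (tabOf D).reflWord a r = (tabOf D).reflWord b r := by
  have hG1 := hG.toGood1
  intro r hr
  obtain ⟨t', ht'⟩ := diagonal_conj_xGL hG hh hr (1 : F)
  have ht'0 : t' ≠ 0 := by
    intro h0
    rw [h0, xGL_zero] at ht'
    have : xGL hG1 hr (1 : F) = 1 := by
      calc xGL hG1 hr (1 : F) = h₀⁻¹ * (h₀ * xGL hG1 hr 1 * h₀⁻¹) * h₀ := by group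
        _ = 1 := by rw [ht']; group
    exact xGL_ne_one hG hT h8 hr one_ne_zero this
  have e1 := nWordGL_conj (F := F) hG hb hr 1
  have e2 := nWordGL_conj (F := F) hG ha hr t'
  have e3 : nWordGL hG b * xGL hG1 hr (1 : F) * (nWordGL hG b)⁻¹ =
      nWordGL hG a * xGL hG1 hr t' * (nWordGL hG a)⁻¹ := by
    rw [e, ← ht']; group
  rw [e1, e2] at e3
  have hne : (((tabOf D).etaWord b r : ℤ) : F) * 1 ≠ 0 := by
    rw [mul_one]; exact etaWord_cast_ne_zero hG hb hr
  exact (root_eq_of_xGL_eq hG h8 (reflWord_lt hG hb hr) (reflWord_lt hG ha hr) hne e3).symm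

end words

section reps

variable (hG : Good2 D) (hT : T0 D) (h6 : (tabOf D).T6) (h8 : (tabOf D).T8) (h9 : (tabOf D).T9)
  {W : List (List ℕ)} (hW : WList D W)

include hG hT h6 h8 hW in
theorem exists_rep_word (v : List ℕ) (hv : ∀ i ∈ v, i < D.rank) :
    ∃ w ∈ W, ∃ h₀ ∈ D.diagonalSubgroup F, (nWordGL hG v : GL D.Idx F) = h₀ * nWordGL hG w := by
  have hG1 := hG.toGood1
  induction v with
  | nil => exact ⟨[], hW.nil_mem, 1, one_mem _, by rw [one_mul]⟩
  | cons i v ih =>
    have hi : i < D.rank := hv i List.mem_cons_self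
    have hv' : ∀ j ∈ v, j < D.rank := fun j hj => hv j (List.mem_cons_of_mem _ hj)
    obtain ⟨w, hwW, h₁, hh₁, e₁⟩ := ih hv'
    obtain ⟨w', hw'W, hact⟩ := hW.closed w hwW i hi
    have hw := (hW.ok w hwW).1
    have hw' := (hW.ok w' hw'W).1
    have hiw : ∀ j ∈ i :: w, j < D.rank := by
      intro j hj
      rcases List.mem_cons.mp hj with rfl | hj
      · exact hi
      · exact hw j hj
    obtain ⟨h₂, hh₂, e₂⟩ := nWordGL_eq_of_reflWord_eq (F := F) hG hT h6 h8 hiw hw' hact
    have hp := hG1.simple_lt hi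
    set ni : GL D.Idx F := nGL hG1 hp with hni
    refine ⟨w', hw'W, (ni * h₁ * ni⁻¹) * h₂, ?_, ?_⟩
    · exact mul_mem (conj_mem_diagonal (monomialSubgroup_le_normalizer hG (nGL_mem_monomial hG hp)) hh₁)
        hh₂
    · rw [nWordGL_cons hG hi, e₁]
      rw [nWordGL_cons hG hi] at e₂
      calc ni * (h₁ * nWordGL hG w) = (ni * h₁ * ni⁻¹) * (ni * nWordGL hG w) := by group
        _ = (ni * h₁ * ni⁻¹) * (h₂ * nWordGL hG w') := by rw [e₂]
        _ = _ := by group

include hG hT h6 h8 h9 hW in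
/-- Every element of `N` is represented, modulo `H`, by a word of the list. -/
theorem exists_rep {n : GL D.Idx F} (hn : n ∈ D.monomialSubgroup F) :
    ∃ w ∈ W, ∃ h₀ ∈ D.diagonalSubgroup F, n = h₀ * nWordGL hG w := by
  obtain ⟨h, hh, v, hv, rfl⟩ := monomialSubgroup_le_nWords hG hT h9 hn
  obtain ⟨w, hwW, h₁, hh₁, e₁⟩ := exists_rep_word (F := F) hG hT h6 h8 hW v hv
  exact ⟨w, hwW, h * h₁, mul_mem hh hh₁, by rw [e₁]; group⟩

end reps

section decomposition

variable (hG : Good2 D) (hT : T0 D) (h3 : (tabOf D).T3) (h4 : (tabOf D).T4 60) (h5 : (tabOf D).T5)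
  (h6 : (tabOf D).T6) (h8 : (tabOf D).T8) (h9 : (tabOf D).T9)
  {W : List (List ℕ)} (hW : WList D W)

include hG hT h3 h4 h5 h6 h8 h9 hW in
/-- Every element of the group is `b n_w u` with `w` in the list, `b ∈ B` and `u ∈ U_w⁻`. -/
theorem exists_normal_form {g : GL D.Idx F} (hg : g ∈ D.group F) :
    ∃ w ∈ W, ∃ b ∈ D.borelSubgroup F, ∃ u ∈ Subgroup.closure (minusGen D F w),
      g = b * nWordGL hG w * u := by
  have hG1 := hG.toGood1
  have hHB : D.diagonalSubgroup F ≤ D.borelSubgroup F := le_sup_right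
  obtain ⟨P, hPB, hPN, hPS⟩ := exists_bnPair (F := F) hG hT h3 h4 h5 h6 h8 h9
  obtain ⟨n, hnN, hgn⟩ := BN.bruhat_exists P ⟨g, hg⟩
  rw [hPN] at hnN
  obtain ⟨b₁, hb₁, b₂, hb₂, e⟩ := (BN.mem_C P).mp hgn
  rw [hPB] at hb₁ hb₂
  have hnN' : (n : GL D.Idx F) ∈ D.monomialSubgroup F := hnN
  have hb₁' : (b₁ : GL D.Idx F) ∈ D.borelSubgroup F := hb₁
  have hb₂' : (b₂ : GL D.Idx F) ∈ D.borelSubgroup F := hb₂
  have e' : g = (b₁ : GL D.Idx F) * n * b₂ := by
    have := congrArg (fun z : ↥(D.group F) => (z : GL D.Idx F)) e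
    simpa only [Subgroup.coe_mul] using this
  have hmul := Subgroup.coe_mul_of_left_le_normalizer_right (D.diagonalSubgroup F)
    (D.posUnipotent F) (diagonalSubgroup_le_normalizer_pos hG)
  obtain ⟨h₂, hh₂, u₂, hu₂, e₂⟩ : (b₂ : GL D.Idx F) ∈ (D.diagonalSubgroup F : Set (GL D.Idx F)) *
      (D.posUnipotent F : Set (GL D.Idx F)) := by
    rw [← hmul, sup_comm]; exact hb₂'
  obtain ⟨w, hwW, h, hh, en⟩ := exists_rep (F := F) hG hT h6 h8 h9 hW hnN'
  obtain ⟨hw, hpp⟩ := hW.ok w hwW
  obtain ⟨b, hb, u', hu', e₃⟩ :=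
    nWordGL_mul_mem (F := F) hG hT h3 h4 h5 h6 w.length w rfl hw hpp u₂ hu₂
  have hnNorm := monomialSubgroup_le_normalizer hG hnN'
  refine ⟨w, hwW, (b₁ : GL D.Idx F) * ((n : GL D.Idx F) * h₂ * (n : GL D.Idx F)⁻¹) * (h * b), ?_,
    u', hu', ?_⟩
  · exact mul_mem (mul_mem hb₁' (hHB (conj_mem_diagonal hnNorm hh₂))) (mul_mem (hHB hh) hb)
  · rw [e', ← e₂]
    have e₄ : (n : GL D.Idx F) * u₂ = h * b * nWordGL hG w * u' := by
      rw [en]
      calc h * nWordGL hG w * u₂ = h * (nWordGL hG w * u₂) := by group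
        _ = h * (b * nWordGL hG w * u') := by rw [e₃]
        _ = _ := by group
    calc (b₁ : GL D.Idx F) * n * (h₂ * u₂)
        = (b₁ : GL D.Idx F) * ((n : GL D.Idx F) * h₂ * (n : GL D.Idx F)⁻¹) *
            ((n : GL D.Idx F) * u₂) := by group
      _ = (b₁ : GL D.Idx F) * ((n : GL D.Idx F) * h₂ * (n : GL D.Idx F)⁻¹) *
            (h * b * nWordGL hG w * u') := by rw [e₄]
      _ = _ := by group

include hG hT h3 h4 h5 h6 h8 h9 hW in
/-- Uniqueness of the normal form. -/
theorem normal_form_unique {w w' : List ℕ} (hwW : w ∈ W) (hw'W : w' ∈ W) {b b' u u' : GL D.Idx F}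
    (hb : b ∈ D.borelSubgroup F) (hb' : b' ∈ D.borelSubgroup F)
    (hu : u ∈ Subgroup.closure (minusGen D F w)) (hu' : u' ∈ Subgroup.closure (minusGen D F w'))
    (e : b * nWordGL hG w * u = b' * nWordGL hG w' * u') : w = w' ∧ b = b' ∧ u = u' := by
  have hw := (hW.ok w hwW).1
  have hw' := (hW.ok w' hw'W).1
  have hsub : ∀ v : List ℕ, (∀ i ∈ v, i < D.rank) →
      Subgroup.closure (minusGen D F v) ≤ Subgroup.closure (minusGen' D F (nWordGL hG v)) := by
    intro v hv
    apply Subgroup.closure_mono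
    have := minusGen_subset (F := F) hG hT hv (one_mem (D.diagonalSubgroup F))
    rwa [one_mul] at this
  have key := (bruhat_normal_form (F := F) hG hT h3 h4 h5 h6 h8 h9).2 b b' (nWordGL hG w)
    (nWordGL hG w') u u' hb hb' (nWordGL_mem hG w) (nWordGL_mem hG w') (hsub w hw hu)
    (hsub w' hw' hu') e
  have hww : w = w' := by
    apply hW.inj w hwW w' hw'W
    apply reflWord_eq_of_nWordGL_eq hG hT h8 hw hw' key.1
    group
  subst hww
  exact ⟨rfl, key.2 rfl⟩

end decomposition

section card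

variable (hG : Good2 D) (hT : T0 D) (h3 : (tabOf D).T3) (h4 : (tabOf D).T4 60) (h5 : (tabOf D).T5)
  (h6 : (tabOf D).T6) (h7 : (tabOf D).T7) (h7n : (tabOf D).T7n) (h8 : (tabOf D).T8)
  (h9 : (tabOf D).T9) {W : List (List ℕ)} (hW : WList D W)

include hG hT h3 h4 h7 h8 in
/-- The order of `B = UH`. -/
theorem card_borel [Fintype F] :
    Nat.card (D.borelSubgroup F) =
      Fintype.card F ^ (D.nroots / 2) * Nat.card (D.diagonalSubgroup F) := by
  have hN := diagonalSubgroup_le_normalizer_pos (F := F) hG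
  have hmul := Subgroup.coe_mul_of_right_le_normalizer_left (D.posUnipotent F)
    (D.diagonalSubgroup F) hN
  let Φ : ↥(D.posUnipotent F) × ↥(D.diagonalSubgroup F) → ↥(D.borelSubgroup F) := fun p =>
    ⟨(p.1 : GL D.Idx F) * (p.2 : GL D.Idx F),
      mul_mem (Subgroup.mem_sup_left p.1.2) (Subgroup.mem_sup_right p.2.2)⟩
  have hinj : Function.Injective Φ := by
    rintro ⟨⟨u, hu⟩, ⟨h, hh⟩⟩ ⟨⟨u', hu'⟩, ⟨h', hh'⟩⟩ e
    have e' : u * h = u' * h' := congrArg (fun x : ↥(D.borelSubgroup F) => (x : GL D.Idx F)) e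
    have hmem : u'⁻¹ * u ∈ D.posUnipotent F ⊓ D.diagonalSubgroup F := by
      refine Subgroup.mem_inf.mpr ⟨mul_mem (inv_mem hu') hu, ?_⟩
      have : u'⁻¹ * u = h' * h⁻¹ := by
        calc u'⁻¹ * u = u'⁻¹ * (u * h) * h⁻¹ := by group
          _ = u'⁻¹ * (u' * h') * h⁻¹ := by rw [e']
          _ = _ := by group
      rw [this]
      exact mul_mem hh' (inv_mem hh)
    rw [posUnipotent_inf_diagonal hG hT, Subgroup.mem_bot] at hmem
    have huu : u = u' := by
      have := inv_mul_eq_one.mp hmem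
      exact this.symm
    subst huu
    have hhh : h = h' := mul_left_cancel e'
    subst hhh
    rfl
  have hsurj : Function.Surjective Φ := by
    rintro ⟨b, hb⟩
    have : b ∈ (D.posUnipotent F : Set (GL D.Idx F)) * (D.diagonalSubgroup F : Set (GL D.Idx F)) := by
      rw [← hmul]; exact hb
    obtain ⟨u, hu, h, hh, rfl⟩ := this
    exact ⟨⟨⟨u, hu⟩, ⟨h, hh⟩⟩, rfl⟩
  rw [← Nat.card_congr (Equiv.ofBijective Φ ⟨hinj, hsurj⟩), Nat.card_prod,
    card_posUnipotent hG hT h3 h4 h7 h8]

include hG hT h3 h4 h5 h6 h7 h7n h8 h9 hW in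
/-- The order of the Chevalley group. -/
theorem card_group [Fintype F] :
    Nat.card (D.group F) = Fintype.card F ^ (D.nroots / 2) * Nat.card (D.diagonalSubgroup F) *
      (W.map fun w => Fintype.card F ^ nMinus D w).sum := by
  have hG1 := hG.toGood1
  have hBG : D.borelSubgroup F ≤ D.group F := borelSubgroup_le_group hG1
  have hNG : D.monomialSubgroup F ≤ D.group F := monomialSubgroup_le_group hG1
  have hUB : D.posUnipotent F ≤ D.borelSubgroup F := le_sup_left
  have hminusU : ∀ w : List ℕ, Subgroup.closure (minusGen D F w) ≤ D.posUnipotent F := by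
    intro w
    apply Subgroup.closure_mono
    rintro x ⟨r, t, hr, _, hx⟩
    exact ⟨r, t, hr, hx⟩
  let Φ : (Σ i : Fin W.length,
      ↥(D.borelSubgroup F) × ↥(Subgroup.closure (minusGen D F (W.get i)))) → ↥(D.group F) :=
    fun x => ⟨(x.2.1 : GL D.Idx F) * nWordGL hG (W.get x.1) * (x.2.2 : GL D.Idx F),
      mul_mem (mul_mem (hBG x.2.1.2) (hNG (nWordGL_mem hG _))) (hBG (hUB (hminusU _ x.2.2.2)))⟩
  have hinj : Function.Injective Φ := by
    rintro ⟨i, ⟨b, hb⟩, ⟨u, hu⟩⟩ ⟨i', ⟨b', hb'⟩, ⟨u', hu'⟩⟩ e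
    have e' : b * nWordGL hG (W.get i) * u = b' * nWordGL hG (W.get i') * u' :=
      congrArg (fun x : ↥(D.group F) => (x : GL D.Idx F)) e
    obtain ⟨hww, hbb, huu⟩ := normal_form_unique (F := F) hG hT h3 h4 h5 h6 h8 h9 hW
      (List.get_mem W i) (List.get_mem W i') hb hb' hu hu' e'
    have hii : i = i' := (List.Nodup.get_inj_iff hW.nodup).mp hww
    subst hii
    subst hbb
    subst huu
    rfl
  have hsurj : Function.Surjective Φ := by
    rintro ⟨g, hg⟩
    obtain ⟨w, hwW, b, hb, u, hu, rfl⟩ := exists_normal_form (F := F) hG hT h3 h4 h5 h6 h8 h9 hW hg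
    obtain ⟨i, rfl⟩ := List.mem_iff_get.mp hwW
    exact ⟨⟨i, ⟨b, hb⟩, ⟨u, hu⟩⟩, rfl⟩
  rw [← Nat.card_congr (Equiv.ofBijective Φ ⟨hinj, hsurj⟩), Nat.card_sigma]
  have hterm : ∀ i : Fin W.length,
      Nat.card (↥(D.borelSubgroup F) × ↥(Subgroup.closure (minusGen D F (W.get i)))) =
        Fintype.card F ^ (D.nroots / 2) * Nat.card (D.diagonalSubgroup F) *
          Fintype.card F ^ nMinus D (W.get i) := by
    intro i
    rw [Nat.card_prod, card_borel hG hT h3 h4 h7 h8,
      card_minus hG hT h3 h4 h7 h7n h8 (hW.ok _ (List.get_mem W i)).1]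
  simp only [hterm]
  rw [← Finset.mul_sum]
  congr 1
  exact Fin.sum_univ_fun_getElem W (fun w => Fintype.card F ^ nMinus D w)

end card

end Cfsg.Agent.Helper7.Chev
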