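import Mathlib
import Cfsg.Agent.Helper7.ChevMono
import Cfsg.Agent.Helper7.ChevUp

set_option autoImplicit false
set_option linter.unusedSectionVars false
set_option linter.unusedVariables false

/-!
The Chevalley groups are perfect (with the usual exceptions).
-/

namespace Cfsg.Agent.Helper7.Chev

open Cfsg Cfsg.Lie Matrix

namespace Tab

variable (T : Tab)

/-- The commutator formula of `(r, s)` has the single term `x_q(c (-t) u)`. -/
def SingleTerm (q r s : ℕ) (c : ℤ) : Prop :=
  r < T.n ∧ s < T.n ∧ s ≠ r ∧ s ≠ T.neg r ∧ T.commTerms r s = [(q, c, 1, 1)]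

instance (q r s : ℕ) (c : ℤ) : Decidable (T.SingleTerm q r s c) := by
  unfold SingleTerm; infer_instance

/-- Every root element is a commutator of root elements. -/
def T11 (W : List (ℕ × ℕ × ℤ)) : Prop :=
  ∀ q < T.n, T.SingleTerm q (W.getD q (0, 0, 0)).1 (W.getD q (0, 0, 0)).2.1 (W.getD q (0, 0, 0)).2.2 ∧
    ((W.getD q (0, 0, 0)).2.2 = 1 ∨ (W.getD q (0, 0, 0)).2.2 = -1)

instance (W : List (ℕ × ℕ × ℤ)) : Decidable (T.T11 W) := by unfold T11; infer_instance

/-- Every root element is a commutator of root elements, up to a factor `2`, or is moved by an odd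
pairing. -/
def T12 (W : List (ℕ × ℕ × ℤ)) : Prop :=
  ∀ q < T.n,
    (T.SingleTerm q (W.getD q (0, 0, 0)).1 (W.getD q (0, 0, 0)).2.1 (W.getD q (0, 0, 0)).2.2 ∧
      ((W.getD q (0, 0, 0)).2.2 = 1 ∨ (W.getD q (0, 0, 0)).2.2 = -1 ∨
        (W.getD q (0, 0, 0)).2.2 = 2 ∨ (W.getD q (0, 0, 0)).2.2 = -2)) ∨
    ((W.getD q (0, 0, 0)).1 < T.n ∧ T.pairing (W.getD q (0, 0, 0)).1 q % 2 = 1)

instance (W : List (ℕ × ℕ × ℤ)) : Decidable (T.T12 W) := by unfold T12; infer_instance

end Tab

variable {D : ChevalleyDatum} {F : Type*} [Field F]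

section perfect

variable (hG : Good2 D)

theorem xGL_mem_group {r : ℕ} (hr : r < D.nroots) (t : F) :
    xGL hG.toGood1 hr t ∈ D.group F := by
  apply Subgroup.subset_closure
  exact ⟨⟨r, hr⟩, t, by rw [xGL_coe, x_of_lt D F hr]⟩

/-- The group is perfect as soon as every root element is in the derived subgroup. -/
theorem commutator_eq_top_of_xGL_mem
    (h : ∀ (q : ℕ) (hq : q < D.nroots) (t : F),
      (⟨xGL hG.toGood1 hq t, xGL_mem_group hG hq t⟩ : ↥(D.group F)) ∈ commutator ↥(D.group F)) :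
    commutator ↥(D.group F) = ⊤ := by
  have hG1 := hG.toGood1
  rw [eq_top_iff]
  rintro ⟨g, hg⟩ -
  have key : ∀ (x : GL D.Idx F) (hx : x ∈ D.group F),
      (⟨x, hx⟩ : ↥(D.group F)) ∈ commutator ↥(D.group F) := by
    intro x hx
    unfold ChevalleyDatum.group at hx
    induction hx using Subgroup.closure_induction with
    | mem x hx =>
      obtain ⟨r, t, hx⟩ := hx
      have e : x = xGL hG1 r.2 t := by
        apply Units.ext
        rw [hx, xGL_coe, x_of_lt D F r.2]
      subst e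
      exact h r.val r.2 t
    | one => exact one_mem _
    | mul x y hx hy ihx ihy => exact mul_mem ihx ihy
    | inv x hx ihx => exact inv_mem ihx
  exact key g hg

theorem commutatorElement_mem (a b : ↥(D.group F)) :
    a * b * a⁻¹ * b⁻¹ ∈ commutator ↥(D.group F) := by
  rw [commutator_def]
  exact Subgroup.commutator_mem_commutator (Subgroup.mem_top a) (Subgroup.mem_top b)

/-- A root element which is the single term of a commutator formula with invertible constant lies in
the derived subgroup. -/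
theorem xGL_mem_commutator_of_singleTerm {q r s : ℕ} {c : ℤ}
    (hst : (tabOf D).SingleTerm q r s c) (hcomm : Comm D F r s) (hc : (c : F) ≠ 0)
    (hq : q < D.nroots) (t' : F) :
    (⟨xGL hG.toGood1 hq t', xGL_mem_group hG hq t'⟩ : ↥(D.group F)) ∈ commutator ↥(D.group F) := by
  have hG1 := hG.toGood1
  obtain ⟨hr, hs, hsr, hsn, hct⟩ := hst
  have hr' : r < D.nroots := hr
  have hs' : s < D.nroots := hs
  set t : F := -(c : F)⁻¹ * t' with ht
  have hW : D.commWord F r s t 1 = [(q, t')] := by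
    rw [commWord_eq]
    unfold Tab.commMono
    rw [hct]
    simp only [List.map_cons, List.map_nil, Mono.eval]
    congr 2
    rw [ht]
    push_cast
    field_simp
  have hf := hcomm t 1
  rw [hW, wordMat_cons, wordMat_nil, mul_one] at hf
  -- `x_q(t') = x_s(1)⁻¹ x_r(t)⁻¹ x_s(1) x_r(t)`
  set a : ↥(D.group F) := ⟨xGL hG1 hs' 1, xGL_mem_group hG hs' 1⟩ with ha
  set b : ↥(D.group F) := ⟨xGL hG1 hr' t, xGL_mem_group hG hr' t⟩ with hb
  have e : (⟨xGL hG1 hq t', xGL_mem_group hG hq t'⟩ : ↥(D.group F)) = a⁻¹ * b⁻¹ * a⁻¹⁻¹ * b⁻¹⁻¹ := by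
    rw [inv_inv, inv_inv]
    apply Subtype.ext
    have e1 : xGL hG1 hs' (1 : F) * xGL hG1 hr' t =
        xGL hG1 hr' t * xGL hG1 hs' 1 * xGL hG1 hq t' := by
      apply Units.ext
      rw [Units.val_mul, Units.val_mul, Units.val_mul, xGL_coe, xGL_coe, xGL_coe]
      exact hf
    have e2 : xGL hG1 hq t' = (xGL hG1 hs' (1 : F))⁻¹ * (xGL hG1 hr' t)⁻¹ *
        xGL hG1 hs' (1 : F) * xGL hG1 hr' t := by
      have : xGL hG1 hq t' = (xGL hG1 hr' t * xGL hG1 hs' 1)⁻¹ *
          (xGL hG1 hs' (1 : F) * xGL hG1 hr' t) := by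
        rw [e1]; group
      rw [this]; group
    exact e2
  rw [e]
  exact commutatorElement_mem _ _

/-- A root element moved non-trivially by an element of `H` lies in the derived subgroup. -/
theorem xGL_mem_commutator_of_torus {q r : ℕ} (hq : q < D.nroots) (hr : r < D.nroots) {a : F}
    (ha : a ≠ 0) (hχ : a ^ (tabOf D).pairing r q ≠ 1) (t' : F) :
    (⟨xGL hG.toGood1 hq t', xGL_mem_group hG hq t'⟩ : ↥(D.group F)) ∈ commutator ↥(D.group F) := by
  have hG1 := hG.toGood1
  set χ : F := a ^ (tabOf D).pairing r q with hχdef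
  have hχ1 : χ - 1 ≠ 0 := sub_ne_zero.mpr hχ
  set t : F := (χ - 1)⁻¹ * t' with ht
  have hhG : hGL hG1 hr a ha ∈ D.group F :=
    diagonalSubgroup_le_group hG1
      (Subgroup.subset_closure ⟨r, a, hr, ha, hGL_coe hG1 hr a ha⟩)
  set h : ↥(D.group F) := ⟨hGL hG1 hr a ha, hhG⟩ with hh
  set x : ↥(D.group F) := ⟨xGL hG1 hq t, xGL_mem_group hG hq t⟩ with hx
  have e : (⟨xGL hG1 hq t', xGL_mem_group hG hq t'⟩ : ↥(D.group F)) = h * x * h⁻¹ * x⁻¹ := by
    apply Subtype.ext
    have e1 : hGL hG1 hr a ha * xGL hG1 hq t * (hGL hG1 hr a ha)⁻¹ = xGL hG1 hq (χ * t) := by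
      rw [mul_inv_eq_iff_eq_mul]
      apply Units.ext
      rw [Units.val_mul, Units.val_mul, hGL_coe, xGL_coe, xGL_coe, hMat_mul_x hG hr ha hq]
    change xGL hG1 hq t' = hGL hG1 hr a ha * xGL hG1 hq t * (hGL hG1 hr a ha)⁻¹ * (xGL hG1 hq t)⁻¹
    rw [e1, xGL_inv, xGL_mul]
    congr 1
    rw [ht]
    field_simp
    ring
  rw [e]
  exact commutatorElement_mem _ _

end perfect

section main

variable (hG : Good2 D) (hcomm : ∀ r s, r < D.nroots → s < D.nroots → s ≠ r → s ≠ D.neg r → Comm D F r s)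

include hG hcomm in
/-- Perfectness from the strong table fact. -/
theorem perfect_of_T11 {W : List (ℕ × ℕ × ℤ)} (h11 : (tabOf D).T11 W) :
    commutator ↥(D.group F) = ⊤ := by
  apply commutator_eq_top_of_xGL_mem hG
  intro q hq t
  obtain ⟨hst, hc⟩ := h11 q hq
  have hst' := hst
  obtain ⟨hr, hs, hsr, hsn, _⟩ := hst'
  refine xGL_mem_commutator_of_singleTerm hG hst (hcomm _ _ hr hs hsr hsn) ?_ hq t
  rcases hc with hc | hc <;> rw [hc] <;> simp

include hG hcomm in
/-- Perfectness from the weak table fact, for fields with more than two elements. -/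
theorem perfect_of_T12 {W : List (ℕ × ℕ × ℤ)} (h12 : (tabOf D).T12 W)
    (hF : ∃ a : F, a ≠ 0 ∧ a ≠ 1) : commutator ↥(D.group F) = ⊤ := by
  have hG1 := hG.toGood1
  apply commutator_eq_top_of_xGL_mem hG
  intro q hq t
  by_cases hsq : ∃ c : F, c ≠ 0 ∧ c * c ≠ 1
  · obtain ⟨c, hc0, hc⟩ := hsq
    apply xGL_mem_commutator_of_torus hG hq hq hc0 _ t
    rw [hG1.pairing_self hq]
    intro h
    apply hc
    rw [← h]
    exact (zpow_two c).symm
  · push Not at hsq
    obtain ⟨a, ha0, ha1⟩ := hF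
    have haa := hsq a ha0
    have ha : a = -1 := by
      have : (a - 1) * (a + 1) = 0 := by linear_combination haa
      rcases mul_eq_zero.mp this with h | h
      · exact absurd (sub_eq_zero.mp h) ha1
      · exact eq_neg_of_add_eq_zero_left h
    have hneg : (-1 : F) ≠ 1 := by rw [← ha]; exact ha1
    have h2 : (2 : F) ≠ 0 := by
      intro h
      have h11 : (1 : F) + 1 = 0 := by rw [one_add_one_eq_two]; exact h
      exact hneg (eq_neg_of_add_eq_zero_left h11).symm
    rcases h12 q hq with ⟨hst, hc⟩ | ⟨hr, hodd⟩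
    · have hst' := hst
      obtain ⟨hr, hs, hsr, hsn, _⟩ := hst'
      refine xGL_mem_commutator_of_singleTerm hG hst (hcomm _ _ hr hs hsr hsn) ?_ hq t
      rcases hc with hc | hc | hc | hc <;> rw [hc] <;> simp [h2]
    · have hr' : (W.getD q (0, 0, 0)).1 < D.nroots := hr
      apply xGL_mem_commutator_of_torus hG hq hr' (neg_ne_zero.mpr one_ne_zero) _ t
      have hodd' : Odd ((tabOf D).pairing (W.getD q (0, 0, 0)).1 q) := Int.odd_iff.mpr hodd
      rw [hodd'.neg_one_zpow]
      exact hneg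

end main

end Cfsg.Agent.Helper7.Chev
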