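import Mathlib
import Cfsg.Agent.Helper7.ChevBasic

set_option autoImplicit false

namespace Cfsg.Agent.Helper7

open Cfsg Cfsg.Lie

/-- Applying a ring homomorphism entrywise to `x_r(t)` gives `x_r(f t)`. -/
theorem xMat_map {F K : Type*} [Field F] [Field K] (D : ChevalleyDatum) (f : F →+* K)
    (r : Fin D.nroots) (t : F) :
    (D.xMat F r t).map f = D.xMat K r (f t) := by
  ext row col
  simp only [Matrix.map_apply, ChevalleyDatum.xMat, Matrix.of_apply]
  rcases col with i | s
  · rcases row with i' | u
    · simp only
      split_ifs <;> simp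
    · simp only
      split_ifs <;> simp
  · simp only
    split_ifs with h1 h2
    · rcases row with i' | u
      · simp
      · simp only
        split_ifs <;> simp
    · rcases row with i' | u
      · simp
      · simp only
        split_ifs <;> simp
    · rcases row with i' | u
      · simp
      · simp only [map_add, map_list_sum, List.map_map]
        congr 1
        · split_ifs <;> simp
        · congr 1
          apply List.map_congr_left
          intro km _
          simp

end Cfsg.Agent.Helper7

namespace Cfsg.Agent.Helper7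

open Cfsg Cfsg.Lie

/-- The automorphism of `GL` induced by a field automorphism, entrywise. -/
noncomputable def glFieldAut {ι : Type*} [Fintype ι] [DecidableEq ι] {F : Type*} [Field F] (f : F ≃+* F) :
    GL ι F ≃* GL ι F :=
  Units.mapEquiv (RingEquiv.mapMatrix f).toMulEquiv

theorem glFieldAut_coe {ι : Type*} [Fintype ι] [DecidableEq ι] {F : Type*} [Field F] (f : F ≃+* F)
    (g : GL ι F) : ((glFieldAut f g : GL ι F) : Matrix ι ι F) = (g : Matrix ι ι F).map f := rfl

theorem glFieldAut_symm_coe {ι : Type*} [Fintype ι] [DecidableEq ι] {F : Type*} [Field F] (f : F ≃+* F)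
    (g : GL ι F) : (((glFieldAut f).symm g : GL ι F) : Matrix ι ι F) = (g : Matrix ι ι F).map f.symm := rfl

theorem map_group_eq {F : Type*} [Field F] (D : ChevalleyDatum) (f : F ≃+* F) :
    (D.group F).map (glFieldAut f).toMonoidHom = D.group F := by
  unfold ChevalleyDatum.group
  rw [MonoidHom.map_closure]
  congr 1
  ext g
  constructor
  · rintro ⟨h, ⟨r, t, hh⟩, rfl⟩
    refine ⟨r, f t, ?_⟩
    change ((glFieldAut f h : GL D.Idx F) : Matrix D.Idx D.Idx F) = _
    rw [glFieldAut_coe, hh]
    exact xMat_map D (f : F →+* F) r t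
  · rintro ⟨r, t, hg⟩
    refine ⟨(glFieldAut f).symm g, ⟨r, f.symm t, ?_⟩, ?_⟩
    · rw [glFieldAut_symm_coe, hg]
      exact xMat_map D (f.symm : F →+* F) r t
    · exact (glFieldAut f).apply_symm_apply g

/-- The automorphism of the Chevalley group induced by a field automorphism. -/
noncomputable def chevFieldAut {F : Type*} [Field F] (D : ChevalleyDatum) (f : F ≃+* F) :
    ↥(D.group F) ≃* ↥(D.group F) :=
  ((glFieldAut f).subgroupMap (D.group F)).trans (MulEquiv.subgroupCongr (map_group_eq D f))

theorem chevFieldAut_coe {F : Type*} [Field F] (D : ChevalleyDatum) (f : F ≃+* F) (g : ↥(D.group F)) :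
    (((chevFieldAut D f g : ↥(D.group F)) : GL D.Idx F) : Matrix D.Idx D.Idx F) =
      ((g : GL D.Idx F) : Matrix D.Idx D.Idx F).map f := rfl

end Cfsg.Agent.Helper7
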