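import Mathlib
import Cfsg.Agent.Helper7.ChevTabE6
import Cfsg.Agent.Helper7.ChevT1E6x

set_option autoImplicit false

/-!
Level-1 table facts for type E6.
-/

namespace Cfsg.Agent.Helper7.Chev

open Cfsg Cfsg.Lie

theorem T1fast_E6 : fastE6.T1 := by
  have h : AllLt (8 * 9) fastE6.T1row := by
    refine allLt_chunks (P := fastE6.T1row) 9 8 ?_
    intro a ha
    interval_cases a
    · exact T1fast_E6_0
    · exact T1fast_E6_1
    · exact T1fast_E6_2
    · exact T1fast_E6_3
    · exact T1fast_E6_4
    · exact T1fast_E6_5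
    · exact T1fast_E6_6
    · exact T1fast_E6_7
  exact h

theorem T1_E6 : (tabOf chevE6).T1 := tab_E6 ▸ T1fast_E6

end Cfsg.Agent.Helper7.Chev
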