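import Mathlib
import Cfsg.Agent.Helper7.ChevCodes
import Cfsg.Agent.Helper7.ChevStr

set_option autoImplicit false

/-!
Level-1 table facts for type E7, chunks 7 to 13 of 9 roots.
-/

namespace Cfsg.Agent.Helper7.Chev

open Cfsg Cfsg.Lie

set_option maxRecDepth 1000000 in
set_option maxHeartbeats 0 in
theorem T1fast_E7_7 : AllLt 9 (fun k => fastE7.T1row (7 * 9 + k)) := by decide +kernel

set_option maxRecDepth 1000000 in
set_option maxHeartbeats 0 in
theorem T1fast_E7_8 : AllLt 9 (fun k => fastE7.T1row (8 * 9 + k)) := by decide +kernel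

set_option maxRecDepth 1000000 in
set_option maxHeartbeats 0 in
theorem T1fast_E7_9 : AllLt 9 (fun k => fastE7.T1row (9 * 9 + k)) := by decide +kernel

set_option maxRecDepth 1000000 in
set_option maxHeartbeats 0 in
theorem T1fast_E7_10 : AllLt 9 (fun k => fastE7.T1row (10 * 9 + k)) := by decide +kernel

set_option maxRecDepth 1000000 in
set_option maxHeartbeats 0 in
theorem T1fast_E7_11 : AllLt 9 (fun k => fastE7.T1row (11 * 9 + k)) := by decide +kernel

set_option maxRecDepth 1000000 in
set_option maxHeartbeats 0 in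
theorem T1fast_E7_12 : AllLt 9 (fun k => fastE7.T1row (12 * 9 + k)) := by decide +kernel

set_option maxRecDepth 1000000 in
set_option maxHeartbeats 0 in
theorem T1fast_E7_13 : AllLt 9 (fun k => fastE7.T1row (13 * 9 + k)) := by decide +kernel

end Cfsg.Agent.Helper7.Chev
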