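import Mathlib
import Cfsg.Agent.Helper7.ChevTabE7
import Cfsg.Agent.Helper7.ChevT1E7a
import Cfsg.Agent.Helper7.ChevT1E7b

set_option autoImplicit false

/-!
Level-1 table facts for type E7.
-/

namespace Cfsg.Agent.Helper7.Chev

open Cfsg Cfsg.Lie

theorem T1fast_E7 : fastE7.T1 := by
  have h : AllLt (14 * 9) fastE7.T1row := by
    refine allLt_chunks (P := fastE7.T1row) 9 14 ?_
    intro a ha
    interval_cases a
    · exact T1fast_E7_0
    · exact T1fast_E7_1
    · exact T1fast_E7_2
    · exact T1fast_E7_3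
    · exact T1fast_E7_4
    · exact T1fast_E7_5
    · exact T1fast_E7_6
    · exact T1fast_E7_7
    · exact T1fast_E7_8
    · exact T1fast_E7_9
    · exact T1fast_E7_10
    · exact T1fast_E7_11
    · exact T1fast_E7_12
    · exact T1fast_E7_13
  exact h

theorem T1_E7 : (tabOf chevE7).T1 := tab_E7 ▸ T1fast_E7

end Cfsg.Agent.Helper7.Chev
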