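import Mathlib
import Cfsg.Agent.Helper7.ChevCodes
import Cfsg.Agent.Helper7.ChevStr

set_option autoImplicit false

/-!
Level-1 table facts for type E8, chunks 0 to 5 of 10 roots.
-/

namespace Cfsg.Agent.Helper7.Chev

open Cfsg Cfsg.Lie

set_option maxRecDepth 1000000 in
set_option maxHeartbeats 0 in
theorem T1fast_E8_0 : AllLt 10 (fun k => fastE8.T1row (0 * 10 + k)) := by decide +kernel

set_option maxRecDepth 1000000 in
set_option maxHeartbeats 0 in
theorem T1fast_E8_1 : AllLt 10 (fun k => fastE8.T1row (1 * 10 + k)) := by decide +kernel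

set_option maxRecDepth 1000000 in
set_option maxHeartbeats 0 in
theorem T1fast_E8_2 : AllLt 10 (fun k => fastE8.T1row (2 * 10 + k)) := by decide +kernel

set_option maxRecDepth 1000000 in
set_option maxHeartbeats 0 in
theorem T1fast_E8_3 : AllLt 10 (fun k => fastE8.T1row (3 * 10 + k)) := by decide +kernel

set_option maxRecDepth 1000000 in
set_option maxHeartbeats 0 in
theorem T1fast_E8_4 : AllLt 10 (fun k => fastE8.T1row (4 * 10 + k)) := by decide +kernel

set_option maxRecDepth 1000000 in
set_option maxHeartbeats 0 in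
theorem T1fast_E8_5 : AllLt 10 (fun k => fastE8.T1row (5 * 10 + k)) := by decide +kernel

end Cfsg.Agent.Helper7.Chev
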