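import Mathlib
import Cfsg.Agent.Helper7.ChevCodes
import Cfsg.Agent.Helper7.ChevStr

set_option autoImplicit false

/-!
Level-1 table facts for type E8, chunks 6 to 11 of 10 roots.
-/

namespace Cfsg.Agent.Helper7.Chev

open Cfsg Cfsg.Lie

set_option maxRecDepth 1000000 in
set_option maxHeartbeats 0 in
theorem T1fast_E8_6 : AllLt 10 (fun k => fastE8.T1row (6 * 10 + k)) := by decide +kernel

set_option maxRecDepth 1000000 in
set_option maxHeartbeats 0 in
theorem T1fast_E8_7 : AllLt 10 (fun k => fastE8.T1row (7 * 10 + k)) := by decide +kernel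

set_option maxRecDepth 1000000 in
set_option maxHeartbeats 0 in
theorem T1fast_E8_8 : AllLt 10 (fun k => fastE8.T1row (8 * 10 + k)) := by decide +kernel

set_option maxRecDepth 1000000 in
set_option maxHeartbeats 0 in
theorem T1fast_E8_9 : AllLt 10 (fun k => fastE8.T1row (9 * 10 + k)) := by decide +kernel

set_option maxRecDepth 1000000 in
set_option maxHeartbeats 0 in
theorem T1fast_E8_10 : AllLt 10 (fun k => fastE8.T1row (10 * 10 + k)) := by decide +kernel

set_option maxRecDepth 1000000 in
set_option maxHeartbeats 0 in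
theorem T1fast_E8_11 : AllLt 10 (fun k => fastE8.T1row (11 * 10 + k)) := by decide +kernel

end Cfsg.Agent.Helper7.Chev
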