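import Mathlib
import Cfsg.Agent.Helper7.ChevTabE8
import Cfsg.Agent.Helper7.ChevT1E8a
import Cfsg.Agent.Helper7.ChevT1E8b
import Cfsg.Agent.Helper7.ChevT1E8c
import Cfsg.Agent.Helper7.ChevT1E8d

set_option autoImplicit false

/-!
Level-1 table facts for type E8.
-/

namespace Cfsg.Agent.Helper7.Chev

open Cfsg Cfsg.Lie

theorem T1fast_E8 : fastE8.T1 := by
  have h : AllLt (24 * 10) fastE8.T1row := by
    refine allLt_chunks (P := fastE8.T1row) 10 24 ?_
    intro a ha
    interval_cases a
    · exact T1fast_E8_0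
    · exact T1fast_E8_1
    · exact T1fast_E8_2
    · exact T1fast_E8_3
    · exact T1fast_E8_4
    · exact T1fast_E8_5
    · exact T1fast_E8_6
    · exact T1fast_E8_7
    · exact T1fast_E8_8
    · exact T1fast_E8_9
    · exact T1fast_E8_10
    · exact T1fast_E8_11
    · exact T1fast_E8_12
    · exact T1fast_E8_13
    · exact T1fast_E8_14
    · exact T1fast_E8_15
    · exact T1fast_E8_16
    · exact T1fast_E8_17
    · exact T1fast_E8_18
    · exact T1fast_E8_19
    · exact T1fast_E8_20
    · exact T1fast_E8_21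
    · exact T1fast_E8_22
    · exact T1fast_E8_23
  exact h

theorem T1_E8 : (tabOf chevE8).T1 := tab_E8 ▸ T1fast_E8

end Cfsg.Agent.Helper7.Chev
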