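import Mathlib
import Cfsg.Agent.Helper7.ChevPhi
import Cfsg.Agent.Helper7.ChevTabG2
import Cfsg.Agent.Helper7.ChevTabB2
import Cfsg.Agent.Helper7.ChevTabD4
import Cfsg.Agent.Helper7.ChevTabF4
import Cfsg.Agent.Helper7.ChevT1E6
import Cfsg.Agent.Helper7.ChevT1E7
import Cfsg.Agent.Helper7.ChevT1E8

set_option autoImplicit false

/-!
The level-1 table facts hold for the seven tabulated Chevalley data.
-/

namespace Cfsg.Agent.Helper7.Chev

open Cfsg Cfsg.Lie

theorem good1_G2 : Good1 chevG2 := ⟨keysSorted_G2, T1_G2, T1s_G2⟩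
theorem good1_B2 : Good1 chevB2 := ⟨keysSorted_B2, T1_B2, T1s_B2⟩
theorem good1_D4 : Good1 chevD4 := ⟨keysSorted_D4, T1_D4, T1s_D4⟩
theorem good1_F4 : Good1 chevF4 := ⟨keysSorted_F4, T1_F4, T1s_F4⟩
theorem good1_E6 : Good1 chevE6 := ⟨keysSorted_E6, T1_E6, T1s_E6⟩
theorem good1_E7 : Good1 chevE7 := ⟨keysSorted_E7, T1_E7, T1s_E7⟩
theorem good1_E8 : Good1 chevE8 := ⟨keysSorted_E8, T1_E8, T1s_E8⟩

/-- The level-1 table facts hold for each of the seven tabulated data. -/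
theorem good1_of_mem (D : ChevalleyDatum)
    (hD : D ∈ [chevG2, chevB2, chevD4, chevF4, chevE6, chevE7, chevE8]) : Good1 D :=
  chev_cases (p := Good1) D hD good1_G2 good1_B2 good1_D4 good1_F4 good1_E6 good1_E7 good1_E8

end Cfsg.Agent.Helper7.Chev
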