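import Mathlib
import Cfsg.Agent.Helper7.ChevCodes
import Cfsg.Agent.Helper7.ChevStr2

set_option autoImplicit false

/-!
Compatibility of the tables of type E6 with the reflections in the fundamental roots 0 to 5.
-/

namespace Cfsg.Agent.Helper7.Chev

open Cfsg Cfsg.Lie

set_option maxRecDepth 1000000 in
set_option maxHeartbeats 0 in
theorem T2fast_E6_0 : fastE6.T2simple 0 := by decide +kernel

set_option maxRecDepth 1000000 in
set_option maxHeartbeats 0 in
theorem T2fast_E6_1 : fastE6.T2simple 1 := by decide +kernel

set_option maxRecDepth 1000000 in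
set_option maxHeartbeats 0 in
theorem T2fast_E6_2 : fastE6.T2simple 2 := by decide +kernel

set_option maxRecDepth 1000000 in
set_option maxHeartbeats 0 in
theorem T2fast_E6_3 : fastE6.T2simple 3 := by decide +kernel

set_option maxRecDepth 1000000 in
set_option maxHeartbeats 0 in
theorem T2fast_E6_4 : fastE6.T2simple 4 := by decide +kernel

set_option maxRecDepth 1000000 in
set_option maxHeartbeats 0 in
theorem T2fast_E6_5 : fastE6.T2simple 5 := by decide +kernel

end Cfsg.Agent.Helper7.Chev
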