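import Mathlib
import Cfsg.Agent.Helper7.ChevTabE6
import Cfsg.Agent.Helper7.ChevT15E6
import Cfsg.Agent.Helper7.ChevT2E6x

set_option autoImplicit false

/-!
Level-2 table facts for type E6.
-/

namespace Cfsg.Agent.Helper7.Chev

open Cfsg Cfsg.Lie

theorem T15_E6 : (tabOf chevE6).T15 := tab_E6 ▸ T15fast_E6

theorem T2fast_E6 : fastE6.T2 := by
  intro i hi
  have hi' : i < 6 := hi
  interval_cases i
  · exact T2fast_E6_0
  · exact T2fast_E6_1
  · exact T2fast_E6_2
  · exact T2fast_E6_3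
  · exact T2fast_E6_4
  · exact T2fast_E6_5

theorem T2_E6 : (tabOf chevE6).T2 := tab_E6 ▸ T2fast_E6

end Cfsg.Agent.Helper7.Chev
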