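import Mathlib
import Cfsg.Agent.Helper7.ChevCodes
import Cfsg.Agent.Helper7.ChevStr2

set_option autoImplicit false

/-!
Additivity of the Cartan integers along chains for type E7, in chunks of 9 roots.
-/

namespace Cfsg.Agent.Helper7.Chev

open Cfsg Cfsg.Lie

set_option maxRecDepth 1000000 in
set_option maxHeartbeats 0 in
theorem T15fast_E7_0 : AllLt 9 (fun k => fastE7.T15row (0 * 9 + k)) := by decide +kernel

set_option maxRecDepth 1000000 in
set_option maxHeartbeats 0 in
theorem T15fast_E7_1 : AllLt 9 (fun k => fastE7.T15row (1 * 9 + k)) := by decide +kernel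

set_option maxRecDepth 1000000 in
set_option maxHeartbeats 0 in
theorem T15fast_E7_2 : AllLt 9 (fun k => fastE7.T15row (2 * 9 + k)) := by decide +kernel

set_option maxRecDepth 1000000 in
set_option maxHeartbeats 0 in
theorem T15fast_E7_3 : AllLt 9 (fun k => fastE7.T15row (3 * 9 + k)) := by decide +kernel

set_option maxRecDepth 1000000 in
set_option maxHeartbeats 0 in
theorem T15fast_E7_4 : AllLt 9 (fun k => fastE7.T15row (4 * 9 + k)) := by decide +kernel

set_option maxRecDepth 1000000 in
set_option maxHeartbeats 0 in
theorem T15fast_E7_5 : AllLt 9 (fun k => fastE7.T15row (5 * 9 + k)) := by decide +kernel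

set_option maxRecDepth 1000000 in
set_option maxHeartbeats 0 in
theorem T15fast_E7_6 : AllLt 9 (fun k => fastE7.T15row (6 * 9 + k)) := by decide +kernel

set_option maxRecDepth 1000000 in
set_option maxHeartbeats 0 in
theorem T15fast_E7_7 : AllLt 9 (fun k => fastE7.T15row (7 * 9 + k)) := by decide +kernel

set_option maxRecDepth 1000000 in
set_option maxHeartbeats 0 in
theorem T15fast_E7_8 : AllLt 9 (fun k => fastE7.T15row (8 * 9 + k)) := by decide +kernel

set_option maxRecDepth 1000000 in
set_option maxHeartbeats 0 in
theorem T15fast_E7_9 : AllLt 9 (fun k => fastE7.T15row (9 * 9 + k)) := by decide +kernel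

set_option maxRecDepth 1000000 in
set_option maxHeartbeats 0 in
theorem T15fast_E7_10 : AllLt 9 (fun k => fastE7.T15row (10 * 9 + k)) := by decide +kernel

set_option maxRecDepth 1000000 in
set_option maxHeartbeats 0 in
theorem T15fast_E7_11 : AllLt 9 (fun k => fastE7.T15row (11 * 9 + k)) := by decide +kernel

set_option maxRecDepth 1000000 in
set_option maxHeartbeats 0 in
theorem T15fast_E7_12 : AllLt 9 (fun k => fastE7.T15row (12 * 9 + k)) := by decide +kernel

set_option maxRecDepth 1000000 in
set_option maxHeartbeats 0 in
theorem T15fast_E7_13 : AllLt 9 (fun k => fastE7.T15row (13 * 9 + k)) := by decide +kernel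

theorem T15fast_E7 : fastE7.T15 := by
  have h : AllLt (14 * 9) fastE7.T15row := by
    refine allLt_chunks (P := fastE7.T15row) 9 14 ?_
    intro a ha
    interval_cases a
    · exact T15fast_E7_0
    · exact T15fast_E7_1
    · exact T15fast_E7_2
    · exact T15fast_E7_3
    · exact T15fast_E7_4
    · exact T15fast_E7_5
    · exact T15fast_E7_6
    · exact T15fast_E7_7
    · exact T15fast_E7_8
    · exact T15fast_E7_9
    · exact T15fast_E7_10
    · exact T15fast_E7_11
    · exact T15fast_E7_12
    · exact T15fast_E7_13
  exact h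

end Cfsg.Agent.Helper7.Chev
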