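import Mathlib
import Cfsg.Agent.Helper7.ChevCodes
import Cfsg.Agent.Helper7.ChevStr2

set_option autoImplicit false

/-!
Compatibility of the tables of type E7 with the reflections in the fundamental roots 0 to 3.
-/

namespace Cfsg.Agent.Helper7.Chev

open Cfsg Cfsg.Lie

set_option maxRecDepth 1000000 in
set_option maxHeartbeats 0 in
theorem T2fast_E7_0 : fastE7.T2simple 0 := by decide +kernel

set_option maxRecDepth 1000000 in
set_option maxHeartbeats 0 in
theorem T2fast_E7_1 : fastE7.T2simple 1 := by decide +kernel

set_option maxRecDepth 1000000 in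
set_option maxHeartbeats 0 in
theorem T2fast_E7_2 : fastE7.T2simple 2 := by decide +kernel

set_option maxRecDepth 1000000 in
set_option maxHeartbeats 0 in
theorem T2fast_E7_3 : fastE7.T2simple 3 := by decide +kernel

end Cfsg.Agent.Helper7.Chev
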