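import Mathlib
import Cfsg.Agent.Helper7.ChevTabE7
import Cfsg.Agent.Helper7.ChevT15E7
import Cfsg.Agent.Helper7.ChevT2E7a
import Cfsg.Agent.Helper7.ChevT2E7b

set_option autoImplicit false

/-!
Level-2 table facts for type E7.
-/

namespace Cfsg.Agent.Helper7.Chev

open Cfsg Cfsg.Lie

theorem T15_E7 : (tabOf chevE7).T15 := tab_E7 ▸ T15fast_E7

theorem T2fast_E7 : fastE7.T2 := by
  intro i hi
  have hi' : i < 7 := hi
  interval_cases i
  · exact T2fast_E7_0
  · exact T2fast_E7_1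
  · exact T2fast_E7_2
  · exact T2fast_E7_3
  · exact T2fast_E7_4
  · exact T2fast_E7_5
  · exact T2fast_E7_6

theorem T2_E7 : (tabOf chevE7).T2 := tab_E7 ▸ T2fast_E7

end Cfsg.Agent.Helper7.Chev
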