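import Mathlib
import Cfsg.Agent.Helper7.ChevCodes
import Cfsg.Agent.Helper7.ChevStr2

set_option autoImplicit false

/-!
Additivity of the Cartan integers along chains for type E8, in chunks of 10 roots.
-/

namespace Cfsg.Agent.Helper7.Chev

open Cfsg Cfsg.Lie

set_option maxRecDepth 1000000 in
set_option maxHeartbeats 0 in
theorem T15fast_E8_0 : AllLt 10 (fun k => fastE8.T15row (0 * 10 + k)) := by decide +kernel

set_option maxRecDepth 1000000 in
set_option maxHeartbeats 0 in
theorem T15fast_E8_1 : AllLt 10 (fun k => fastE8.T15row (1 * 10 + k)) := by decide +kernel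

set_option maxRecDepth 1000000 in
set_option maxHeartbeats 0 in
theorem T15fast_E8_2 : AllLt 10 (fun k => fastE8.T15row (2 * 10 + k)) := by decide +kernel

set_option maxRecDepth 1000000 in
set_option maxHeartbeats 0 in
theorem T15fast_E8_3 : AllLt 10 (fun k => fastE8.T15row (3 * 10 + k)) := by decide +kernel

set_option maxRecDepth 1000000 in
set_option maxHeartbeats 0 in
theorem T15fast_E8_4 : AllLt 10 (fun k => fastE8.T15row (4 * 10 + k)) := by decide +kernel

set_option maxRecDepth 1000000 in
set_option maxHeartbeats 0 in
theorem T15fast_E8_5 : AllLt 10 (fun k => fastE8.T15row (5 * 10 + k)) := by decide +kernel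

set_option maxRecDepth 1000000 in
set_option maxHeartbeats 0 in
theorem T15fast_E8_6 : AllLt 10 (fun k => fastE8.T15row (6 * 10 + k)) := by decide +kernel

set_option maxRecDepth 1000000 in
set_option maxHeartbeats 0 in
theorem T15fast_E8_7 : AllLt 10 (fun k => fastE8.T15row (7 * 10 + k)) := by decide +kernel

set_option maxRecDepth 1000000 in
set_option maxHeartbeats 0 in
theorem T15fast_E8_8 : AllLt 10 (fun k => fastE8.T15row (8 * 10 + k)) := by decide +kernel

set_option maxRecDepth 1000000 in
set_option maxHeartbeats 0 in
theorem T15fast_E8_9 : AllLt 10 (fun k => fastE8.T15row (9 * 10 + k)) := by decide +kernel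

set_option maxRecDepth 1000000 in
set_option maxHeartbeats 0 in
theorem T15fast_E8_10 : AllLt 10 (fun k => fastE8.T15row (10 * 10 + k)) := by decide +kernel

set_option maxRecDepth 1000000 in
set_option maxHeartbeats 0 in
theorem T15fast_E8_11 : AllLt 10 (fun k => fastE8.T15row (11 * 10 + k)) := by decide +kernel

set_option maxRecDepth 1000000 in
set_option maxHeartbeats 0 in
theorem T15fast_E8_12 : AllLt 10 (fun k => fastE8.T15row (12 * 10 + k)) := by decide +kernel

set_option maxRecDepth 1000000 in
set_option maxHeartbeats 0 in
theorem T15fast_E8_13 : AllLt 10 (fun k => fastE8.T15row (13 * 10 + k)) := by decide +kernel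

set_option maxRecDepth 1000000 in
set_option maxHeartbeats 0 in
theorem T15fast_E8_14 : AllLt 10 (fun k => fastE8.T15row (14 * 10 + k)) := by decide +kernel

set_option maxRecDepth 1000000 in
set_option maxHeartbeats 0 in
theorem T15fast_E8_15 : AllLt 10 (fun k => fastE8.T15row (15 * 10 + k)) := by decide +kernel

set_option maxRecDepth 1000000 in
set_option maxHeartbeats 0 in
theorem T15fast_E8_16 : AllLt 10 (fun k => fastE8.T15row (16 * 10 + k)) := by decide +kernel

set_option maxRecDepth 1000000 in
set_option maxHeartbeats 0 in
theorem T15fast_E8_17 : AllLt 10 (fun k => fastE8.T15row (17 * 10 + k)) := by decide +kernel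

set_option maxRecDepth 1000000 in
set_option maxHeartbeats 0 in
theorem T15fast_E8_18 : AllLt 10 (fun k => fastE8.T15row (18 * 10 + k)) := by decide +kernel

set_option maxRecDepth 1000000 in
set_option maxHeartbeats 0 in
theorem T15fast_E8_19 : AllLt 10 (fun k => fastE8.T15row (19 * 10 + k)) := by decide +kernel

set_option maxRecDepth 1000000 in
set_option maxHeartbeats 0 in
theorem T15fast_E8_20 : AllLt 10 (fun k => fastE8.T15row (20 * 10 + k)) := by decide +kernel

set_option maxRecDepth 1000000 in
set_option maxHeartbeats 0 in
theorem T15fast_E8_21 : AllLt 10 (fun k => fastE8.T15row (21 * 10 + k)) := by decide +kernel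

set_option maxRecDepth 1000000 in
set_option maxHeartbeats 0 in
theorem T15fast_E8_22 : AllLt 10 (fun k => fastE8.T15row (22 * 10 + k)) := by decide +kernel

set_option maxRecDepth 1000000 in
set_option maxHeartbeats 0 in
theorem T15fast_E8_23 : AllLt 10 (fun k => fastE8.T15row (23 * 10 + k)) := by decide +kernel

theorem T15fast_E8 : fastE8.T15 := by
  have h : AllLt (24 * 10) fastE8.T15row := by
    refine allLt_chunks (P := fastE8.T15row) 10 24 ?_
    intro a ha
    interval_cases a
    · exact T15fast_E8_0
    · exact T15fast_E8_1
    · exact T15fast_E8_2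
    · exact T15fast_E8_3
    · exact T15fast_E8_4
    · exact T15fast_E8_5
    · exact T15fast_E8_6
    · exact T15fast_E8_7
    · exact T15fast_E8_8
    · exact T15fast_E8_9
    · exact T15fast_E8_10
    · exact T15fast_E8_11
    · exact T15fast_E8_12
    · exact T15fast_E8_13
    · exact T15fast_E8_14
    · exact T15fast_E8_15
    · exact T15fast_E8_16
    · exact T15fast_E8_17
    · exact T15fast_E8_18
    · exact T15fast_E8_19
    · exact T15fast_E8_20
    · exact T15fast_E8_21
    · exact T15fast_E8_22
    · exact T15fast_E8_23
  exact h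

end Cfsg.Agent.Helper7.Chev
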