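import Mathlib
import Cfsg.Agent.Helper7.ChevCodes
import Cfsg.Agent.Helper7.ChevStr2

set_option autoImplicit false

/-!
Compatibility of the tables of type E8 with the reflection in the fundamental root 3, in chunks of 20 roots.
-/

namespace Cfsg.Agent.Helper7.Chev

open Cfsg Cfsg.Lie

set_option maxRecDepth 1000000 in
set_option maxHeartbeats 0 in
theorem T2fast_E8_3_0 : AllLt 20 (fun k => fastE8.T2row 3 (0 * 20 + k)) := by decide +kernel

set_option maxRecDepth 1000000 in
set_option maxHeartbeats 0 in
theorem T2fast_E8_3_1 : AllLt 20 (fun k => fastE8.T2row 3 (1 * 20 + k)) := by decide +kernel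

set_option maxRecDepth 1000000 in
set_option maxHeartbeats 0 in
theorem T2fast_E8_3_2 : AllLt 20 (fun k => fastE8.T2row 3 (2 * 20 + k)) := by decide +kernel

set_option maxRecDepth 1000000 in
set_option maxHeartbeats 0 in
theorem T2fast_E8_3_3 : AllLt 20 (fun k => fastE8.T2row 3 (3 * 20 + k)) := by decide +kernel

set_option maxRecDepth 1000000 in
set_option maxHeartbeats 0 in
theorem T2fast_E8_3_4 : AllLt 20 (fun k => fastE8.T2row 3 (4 * 20 + k)) := by decide +kernel

set_option maxRecDepth 1000000 in
set_option maxHeartbeats 0 in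
theorem T2fast_E8_3_5 : AllLt 20 (fun k => fastE8.T2row 3 (5 * 20 + k)) := by decide +kernel

set_option maxRecDepth 1000000 in
set_option maxHeartbeats 0 in
theorem T2fast_E8_3_6 : AllLt 20 (fun k => fastE8.T2row 3 (6 * 20 + k)) := by decide +kernel

set_option maxRecDepth 1000000 in
set_option maxHeartbeats 0 in
theorem T2fast_E8_3_7 : AllLt 20 (fun k => fastE8.T2row 3 (7 * 20 + k)) := by decide +kernel

set_option maxRecDepth 1000000 in
set_option maxHeartbeats 0 in
theorem T2fast_E8_3_8 : AllLt 20 (fun k => fastE8.T2row 3 (8 * 20 + k)) := by decide +kernel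

set_option maxRecDepth 1000000 in
set_option maxHeartbeats 0 in
theorem T2fast_E8_3_9 : AllLt 20 (fun k => fastE8.T2row 3 (9 * 20 + k)) := by decide +kernel

set_option maxRecDepth 1000000 in
set_option maxHeartbeats 0 in
theorem T2fast_E8_3_10 : AllLt 20 (fun k => fastE8.T2row 3 (10 * 20 + k)) := by decide +kernel

set_option maxRecDepth 1000000 in
set_option maxHeartbeats 0 in
theorem T2fast_E8_3_11 : AllLt 20 (fun k => fastE8.T2row 3 (11 * 20 + k)) := by decide +kernel

theorem T2fast_E8_3 : fastE8.T2simple 3 := by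
  have h : AllLt (12 * 20) (fastE8.T2row 3) := by
    refine allLt_chunks (P := fastE8.T2row 3) 20 12 ?_
    intro a ha
    interval_cases a
    · exact T2fast_E8_3_0
    · exact T2fast_E8_3_1
    · exact T2fast_E8_3_2
    · exact T2fast_E8_3_3
    · exact T2fast_E8_3_4
    · exact T2fast_E8_3_5
    · exact T2fast_E8_3_6
    · exact T2fast_E8_3_7
    · exact T2fast_E8_3_8
    · exact T2fast_E8_3_9
    · exact T2fast_E8_3_10
    · exact T2fast_E8_3_11
  exact h

end Cfsg.Agent.Helper7.Chev
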