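import Mathlib
import Cfsg.Agent.Helper7.ChevTabE8
import Cfsg.Agent.Helper7.ChevT15E8
import Cfsg.Agent.Helper7.ChevT2E8i0
import Cfsg.Agent.Helper7.ChevT2E8i1
import Cfsg.Agent.Helper7.ChevT2E8i2
import Cfsg.Agent.Helper7.ChevT2E8i3
import Cfsg.Agent.Helper7.ChevT2E8i4
import Cfsg.Agent.Helper7.ChevT2E8i5
import Cfsg.Agent.Helper7.ChevT2E8i6
import Cfsg.Agent.Helper7.ChevT2E8i7

set_option autoImplicit false

/-!
Level-2 table facts for type E8.
-/

namespace Cfsg.Agent.Helper7.Chev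

open Cfsg Cfsg.Lie

theorem T15_E8 : (tabOf chevE8).T15 := tab_E8 ▸ T15fast_E8

theorem T2fast_E8 : fastE8.T2 := by
  intro i hi
  have hi' : i < 8 := hi
  interval_cases i
  · exact T2fast_E8_0
  · exact T2fast_E8_1
  · exact T2fast_E8_2
  · exact T2fast_E8_3
  · exact T2fast_E8_4
  · exact T2fast_E8_5
  · exact T2fast_E8_6
  · exact T2fast_E8_7

theorem T2_E8 : (tabOf chevE8).T2 := tab_E8 ▸ T2fast_E8

end Cfsg.Agent.Helper7.Chev
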