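import Mathlib
import Cfsg.Agent.Helper7.ChevCodes
import Cfsg.Agent.Helper7.ChevStr2
import Cfsg.Agent.Helper7.ChevTabF4

set_option autoImplicit false

/-!
Level-2 table facts for type F4.
-/

namespace Cfsg.Agent.Helper7.Chev

open Cfsg Cfsg.Lie

set_option maxRecDepth 1000000 in
set_option maxHeartbeats 0 in
theorem T15fast_F4 : fastF4.T15 := by decide +kernel

theorem T15_F4 : (tabOf chevF4).T15 := tab_F4 ▸ T15fast_F4

set_option maxRecDepth 1000000 in
set_option maxHeartbeats 0 in
theorem T2fast_F4 : fastF4.T2 := by decide +kernel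

theorem T2_F4 : (tabOf chevF4).T2 := tab_F4 ▸ T2fast_F4

end Cfsg.Agent.Helper7.Chev
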