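import Mathlib
import Cfsg.Agent.Helper7.ChevGood1
import Cfsg.Agent.Helper7.ChevRank2
import Cfsg.Agent.Helper7.ChevT2G2
import Cfsg.Agent.Helper7.ChevT2B2
import Cfsg.Agent.Helper7.ChevT2D4
import Cfsg.Agent.Helper7.ChevT2F4
import Cfsg.Agent.Helper7.ChevT2E6
import Cfsg.Agent.Helper7.ChevT2E7
import Cfsg.Agent.Helper7.ChevT2E8

set_option autoImplicit false

/-!
The level-2 table facts hold for the seven tabulated Chevalley data.
-/

namespace Cfsg.Agent.Helper7.Chev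

open Cfsg Cfsg.Lie

theorem good2_G2 : Good2 chevG2 := ⟨good1_G2, T15_G2, T2_G2⟩
theorem good2_B2 : Good2 chevB2 := ⟨good1_B2, T15_B2, T2_B2⟩
theorem good2_D4 : Good2 chevD4 := ⟨good1_D4, T15_D4, T2_D4⟩
theorem good2_F4 : Good2 chevF4 := ⟨good1_F4, T15_F4, T2_F4⟩
theorem good2_E6 : Good2 chevE6 := ⟨good1_E6, T15_E6, T2_E6⟩
theorem good2_E7 : Good2 chevE7 := ⟨good1_E7, T15_E7, T2_E7⟩
theorem good2_E8 : Good2 chevE8 := ⟨good1_E8, T15_E8, T2_E8⟩

/-- The level-2 table facts hold for each of the seven tabulated data. -/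
theorem good2_of_mem (D : ChevalleyDatum)
    (hD : D ∈ [chevG2, chevB2, chevD4, chevF4, chevE6, chevE7, chevE8]) : Good2 D :=
  chev_cases (p := Good2) D hD good2_G2 good2_B2 good2_D4 good2_F4 good2_E6 good2_E7 good2_E8

end Cfsg.Agent.Helper7.Chev
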