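import Mathlib
import Cfsg.Agent.Helper7.ChevCodes
import Cfsg.Agent.Helper7.ChevComm3
import Cfsg.Agent.Helper7.ChevTabB2

set_option autoImplicit false

/-!
Level-3 and level-4 table facts for type B2.
-/

namespace Cfsg.Agent.Helper7.Chev

open Cfsg Cfsg.Lie

set_option maxRecDepth 1000000 in
set_option maxHeartbeats 0 in
theorem T3fast_B2 : fastB2.T3 := by decide +kernel

theorem T3_B2 : (tabOf chevB2).T3 := tab_B2 ▸ T3fast_B2

set_option maxRecDepth 1000000 in
set_option maxHeartbeats 0 in
theorem T4fast_B2 : fastB2.T4 60 := by decide +kernel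

theorem T4_B2 : (tabOf chevB2).T4 60 := tab_B2 ▸ T4fast_B2

end Cfsg.Agent.Helper7.Chev
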