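import Mathlib
import Cfsg.Agent.Helper7.ChevCodes
import Cfsg.Agent.Helper7.ChevComm3

set_option autoImplicit false

/-!
Compatibility of the commutator terms of type E6 with the reflection in the fundamental root 2, in chunks of 36 roots.
-/

namespace Cfsg.Agent.Helper7.Chev

open Cfsg Cfsg.Lie

set_option maxRecDepth 1000000 in
set_option maxHeartbeats 0 in
theorem T3fast_E6_2_0 : AllLt 36 (fun k => fastE6.T3at 2 (0 * 36 + k)) := by decide +kernel

set_option maxRecDepth 1000000 in
set_option maxHeartbeats 0 in
theorem T3fast_E6_2_1 : AllLt 36 (fun k => fastE6.T3at 2 (1 * 36 + k)) := by decide +kernel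

theorem T3fast_E6_2 : fastE6.T3simple 2 := by
  have h : AllLt (2 * 36) (fastE6.T3at 2) := by
    refine allLt_chunks (P := fastE6.T3at 2) 36 2 ?_
    intro a ha
    interval_cases a
    · exact T3fast_E6_2_0
    · exact T3fast_E6_2_1
  exact h

end Cfsg.Agent.Helper7.Chev
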