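import Mathlib
import Cfsg.Agent.Helper7.ChevCodes
import Cfsg.Agent.Helper7.ChevComm3
import Cfsg.Agent.Helper7.ChevT3E6i0
import Cfsg.Agent.Helper7.ChevT3E6i1
import Cfsg.Agent.Helper7.ChevT3E6i2
import Cfsg.Agent.Helper7.ChevT3E6i3
import Cfsg.Agent.Helper7.ChevT3E6i4
import Cfsg.Agent.Helper7.ChevT3E6i5
import Cfsg.Agent.Helper7.ChevTabE6

set_option autoImplicit false

/-!
Level-3 and level-4 table facts for type E6.
-/

namespace Cfsg.Agent.Helper7.Chev

open Cfsg Cfsg.Lie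

theorem T3fast_E6 : fastE6.T3 := by
  intro i hi
  have hi' : i < 6 := hi
  interval_cases i
  · exact T3fast_E6_0
  · exact T3fast_E6_1
  · exact T3fast_E6_2
  · exact T3fast_E6_3
  · exact T3fast_E6_4
  · exact T3fast_E6_5

theorem T3_E6 : (tabOf chevE6).T3 := tab_E6 ▸ T3fast_E6

set_option maxRecDepth 1000000 in
set_option maxHeartbeats 0 in
theorem T4fast_E6 : fastE6.T4 60 := by decide +kernel

theorem T4_E6 : (tabOf chevE6).T4 60 := tab_E6 ▸ T4fast_E6

end Cfsg.Agent.Helper7.Chev
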