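import Mathlib
import Cfsg.Agent.Helper7.ChevCodes
import Cfsg.Agent.Helper7.ChevComm3
import Cfsg.Agent.Helper7.ChevT3E7i0
import Cfsg.Agent.Helper7.ChevT3E7i1
import Cfsg.Agent.Helper7.ChevT3E7i2
import Cfsg.Agent.Helper7.ChevT3E7i3
import Cfsg.Agent.Helper7.ChevT3E7i4
import Cfsg.Agent.Helper7.ChevT3E7i5
import Cfsg.Agent.Helper7.ChevT3E7i6
import Cfsg.Agent.Helper7.ChevTabE7

set_option autoImplicit false

/-!
Level-3 and level-4 table facts for type E7.
-/

namespace Cfsg.Agent.Helper7.Chev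

open Cfsg Cfsg.Lie

theorem T3fast_E7 : fastE7.T3 := by
  intro i hi
  have hi' : i < 7 := hi
  interval_cases i
  · exact T3fast_E7_0
  · exact T3fast_E7_1
  · exact T3fast_E7_2
  · exact T3fast_E7_3
  · exact T3fast_E7_4
  · exact T3fast_E7_5
  · exact T3fast_E7_6

theorem T3_E7 : (tabOf chevE7).T3 := tab_E7 ▸ T3fast_E7

set_option maxRecDepth 1000000 in
set_option maxHeartbeats 0 in
theorem T4fast_E7 : fastE7.T4 60 := by decide +kernel

theorem T4_E7 : (tabOf chevE7).T4 60 := tab_E7 ▸ T4fast_E7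

end Cfsg.Agent.Helper7.Chev
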