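import Mathlib
import Cfsg.Agent.Helper7.ChevCodes
import Cfsg.Agent.Helper7.ChevComm3

set_option autoImplicit false

/-!
Compatibility of the commutator terms of type E8 with the reflection in the fundamental root 5, in chunks of 10 roots.
-/

namespace Cfsg.Agent.Helper7.Chev

open Cfsg Cfsg.Lie

set_option maxRecDepth 1000000 in
set_option maxHeartbeats 0 in
theorem T3fast_E8_5_0 : AllLt 10 (fun k => fastE8.T3at 5 (0 * 10 + k)) := by decide +kernel

set_option maxRecDepth 1000000 in
set_option maxHeartbeats 0 in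
theorem T3fast_E8_5_1 : AllLt 10 (fun k => fastE8.T3at 5 (1 * 10 + k)) := by decide +kernel

set_option maxRecDepth 1000000 in
set_option maxHeartbeats 0 in
theorem T3fast_E8_5_2 : AllLt 10 (fun k => fastE8.T3at 5 (2 * 10 + k)) := by decide +kernel

set_option maxRecDepth 1000000 in
set_option maxHeartbeats 0 in
theorem T3fast_E8_5_3 : AllLt 10 (fun k => fastE8.T3at 5 (3 * 10 + k)) := by decide +kernel

set_option maxRecDepth 1000000 in
set_option maxHeartbeats 0 in
theorem T3fast_E8_5_4 : AllLt 10 (fun k => fastE8.T3at 5 (4 * 10 + k)) := by decide +kernel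

set_option maxRecDepth 1000000 in
set_option maxHeartbeats 0 in
theorem T3fast_E8_5_5 : AllLt 10 (fun k => fastE8.T3at 5 (5 * 10 + k)) := by decide +kernel

set_option maxRecDepth 1000000 in
set_option maxHeartbeats 0 in
theorem T3fast_E8_5_6 : AllLt 10 (fun k => fastE8.T3at 5 (6 * 10 + k)) := by decide +kernel

set_option maxRecDepth 1000000 in
set_option maxHeartbeats 0 in
theorem T3fast_E8_5_7 : AllLt 10 (fun k => fastE8.T3at 5 (7 * 10 + k)) := by decide +kernel

set_option maxRecDepth 1000000 in
set_option maxHeartbeats 0 in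
theorem T3fast_E8_5_8 : AllLt 10 (fun k => fastE8.T3at 5 (8 * 10 + k)) := by decide +kernel

set_option maxRecDepth 1000000 in
set_option maxHeartbeats 0 in
theorem T3fast_E8_5_9 : AllLt 10 (fun k => fastE8.T3at 5 (9 * 10 + k)) := by decide +kernel

set_option maxRecDepth 1000000 in
set_option maxHeartbeats 0 in
theorem T3fast_E8_5_10 : AllLt 10 (fun k => fastE8.T3at 5 (10 * 10 + k)) := by decide +kernel

set_option maxRecDepth 1000000 in
set_option maxHeartbeats 0 in
theorem T3fast_E8_5_11 : AllLt 10 (fun k => fastE8.T3at 5 (11 * 10 + k)) := by decide +kernel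

set_option maxRecDepth 1000000 in
set_option maxHeartbeats 0 in
theorem T3fast_E8_5_12 : AllLt 10 (fun k => fastE8.T3at 5 (12 * 10 + k)) := by decide +kernel

set_option maxRecDepth 1000000 in
set_option maxHeartbeats 0 in
theorem T3fast_E8_5_13 : AllLt 10 (fun k => fastE8.T3at 5 (13 * 10 + k)) := by decide +kernel

set_option maxRecDepth 1000000 in
set_option maxHeartbeats 0 in
theorem T3fast_E8_5_14 : AllLt 10 (fun k => fastE8.T3at 5 (14 * 10 + k)) := by decide +kernel

set_option maxRecDepth 1000000 in
set_option maxHeartbeats 0 in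
theorem T3fast_E8_5_15 : AllLt 10 (fun k => fastE8.T3at 5 (15 * 10 + k)) := by decide +kernel

set_option maxRecDepth 1000000 in
set_option maxHeartbeats 0 in
theorem T3fast_E8_5_16 : AllLt 10 (fun k => fastE8.T3at 5 (16 * 10 + k)) := by decide +kernel

set_option maxRecDepth 1000000 in
set_option maxHeartbeats 0 in
theorem T3fast_E8_5_17 : AllLt 10 (fun k => fastE8.T3at 5 (17 * 10 + k)) := by decide +kernel

set_option maxRecDepth 1000000 in
set_option maxHeartbeats 0 in
theorem T3fast_E8_5_18 : AllLt 10 (fun k => fastE8.T3at 5 (18 * 10 + k)) := by decide +kernel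

set_option maxRecDepth 1000000 in
set_option maxHeartbeats 0 in
theorem T3fast_E8_5_19 : AllLt 10 (fun k => fastE8.T3at 5 (19 * 10 + k)) := by decide +kernel

set_option maxRecDepth 1000000 in
set_option maxHeartbeats 0 in
theorem T3fast_E8_5_20 : AllLt 10 (fun k => fastE8.T3at 5 (20 * 10 + k)) := by decide +kernel

set_option maxRecDepth 1000000 in
set_option maxHeartbeats 0 in
theorem T3fast_E8_5_21 : AllLt 10 (fun k => fastE8.T3at 5 (21 * 10 + k)) := by decide +kernel

set_option maxRecDepth 1000000 in
set_option maxHeartbeats 0 in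
theorem T3fast_E8_5_22 : AllLt 10 (fun k => fastE8.T3at 5 (22 * 10 + k)) := by decide +kernel

set_option maxRecDepth 1000000 in
set_option maxHeartbeats 0 in
theorem T3fast_E8_5_23 : AllLt 10 (fun k => fastE8.T3at 5 (23 * 10 + k)) := by decide +kernel

theorem T3fast_E8_5 : fastE8.T3simple 5 := by
  have h : AllLt (24 * 10) (fastE8.T3at 5) := by
    refine allLt_chunks (P := fastE8.T3at 5) 10 24 ?_
    intro a ha
    interval_cases a
    · exact T3fast_E8_5_0
    · exact T3fast_E8_5_1
    · exact T3fast_E8_5_2
    · exact T3fast_E8_5_3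
    · exact T3fast_E8_5_4
    · exact T3fast_E8_5_5
    · exact T3fast_E8_5_6
    · exact T3fast_E8_5_7
    · exact T3fast_E8_5_8
    · exact T3fast_E8_5_9
    · exact T3fast_E8_5_10
    · exact T3fast_E8_5_11
    · exact T3fast_E8_5_12
    · exact T3fast_E8_5_13
    · exact T3fast_E8_5_14
    · exact T3fast_E8_5_15
    · exact T3fast_E8_5_16
    · exact T3fast_E8_5_17
    · exact T3fast_E8_5_18
    · exact T3fast_E8_5_19
    · exact T3fast_E8_5_20
    · exact T3fast_E8_5_21
    · exact T3fast_E8_5_22
    · exact T3fast_E8_5_23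
  exact h

end Cfsg.Agent.Helper7.Chev
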