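import Mathlib
import Cfsg.Agent.Helper7.ChevCodes
import Cfsg.Agent.Helper7.ChevComm3
import Cfsg.Agent.Helper7.ChevT3E8i0
import Cfsg.Agent.Helper7.ChevT3E8i1
import Cfsg.Agent.Helper7.ChevT3E8i2
import Cfsg.Agent.Helper7.ChevT3E8i3
import Cfsg.Agent.Helper7.ChevT3E8i4
import Cfsg.Agent.Helper7.ChevT3E8i5
import Cfsg.Agent.Helper7.ChevT3E8i6
import Cfsg.Agent.Helper7.ChevT3E8i7
import Cfsg.Agent.Helper7.ChevTabE8

set_option autoImplicit false

/-!
Level-3 and level-4 table facts for type E8.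
-/

namespace Cfsg.Agent.Helper7.Chev

open Cfsg Cfsg.Lie

theorem T3fast_E8 : fastE8.T3 := by
  intro i hi
  have hi' : i < 8 := hi
  interval_cases i
  · exact T3fast_E8_0
  · exact T3fast_E8_1
  · exact T3fast_E8_2
  · exact T3fast_E8_3
  · exact T3fast_E8_4
  · exact T3fast_E8_5
  · exact T3fast_E8_6
  · exact T3fast_E8_7

theorem T3_E8 : (tabOf chevE8).T3 := tab_E8 ▸ T3fast_E8

set_option maxRecDepth 1000000 in
set_option maxHeartbeats 0 in
theorem T4fast_E8 : fastE8.T4 60 := by decide +kernel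

theorem T4_E8 : (tabOf chevE8).T4 60 := tab_E8 ▸ T4fast_E8

end Cfsg.Agent.Helper7.Chev
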