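import Mathlib
import Cfsg.Agent.Helper7.ChevGood2
import Cfsg.Agent.Helper7.ChevT3G2
import Cfsg.Agent.Helper7.ChevT3B2
import Cfsg.Agent.Helper7.ChevT3D4
import Cfsg.Agent.Helper7.ChevT3F4
import Cfsg.Agent.Helper7.ChevT3E6
import Cfsg.Agent.Helper7.ChevT3E7
import Cfsg.Agent.Helper7.ChevT3E8

set_option autoImplicit false

/-!
The level-3 and level-4 table facts hold for the seven tabulated Chevalley data; the commutator formula.
-/

namespace Cfsg.Agent.Helper7.Chev

open Cfsg Cfsg.Lie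

/-- The table facts needed for the commutator formula. -/
structure Good3 (D : ChevalleyDatum) : Prop extends Good2 D where
  t3 : (tabOf D).T3
  t4 : (tabOf D).T4 60

theorem good3_G2 : Good3 chevG2 := ⟨good2_G2, T3_G2, T4_G2⟩
theorem good3_B2 : Good3 chevB2 := ⟨good2_B2, T3_B2, T4_B2⟩
theorem good3_D4 : Good3 chevD4 := ⟨good2_D4, T3_D4, T4_D4⟩
theorem good3_F4 : Good3 chevF4 := ⟨good2_F4, T3_F4, T4_F4⟩
theorem good3_E6 : Good3 chevE6 := ⟨good2_E6, T3_E6, T4_E6⟩
theorem good3_E7 : Good3 chevE7 := ⟨good2_E7, T3_E7, T4_E7⟩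
theorem good3_E8 : Good3 chevE8 := ⟨good2_E8, T3_E8, T4_E8⟩

/-- The level-3 table facts hold for each of the seven tabulated data. -/
theorem good3_of_mem (D : ChevalleyDatum)
    (hD : D ∈ [chevG2, chevB2, chevD4, chevF4, chevE6, chevE7, chevE8]) : Good3 D :=
  chev_cases (p := Good3) D hD good3_G2 good3_B2 good3_D4 good3_F4 good3_E6 good3_E7 good3_E8

/-- Chevalley's commutator formula. -/
theorem Good3.comm {D : ChevalleyDatum} (hG : Good3 D) {F : Type*} [Field F] {r s : ℕ}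
    (hr : r < D.nroots) (hs : s < D.nroots) (hsr : s ≠ r) (hsn : s ≠ D.neg r) : Comm D F r s :=
  comm_all hG.toGood2 hG.t3 hG.t4 hr hs hsr hsn

end Cfsg.Agent.Helper7.Chev
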