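import Mathlib
import Cfsg.Agent.Helper7.ChevRank1

set_option autoImplicit false
set_option linter.unusedSectionVars false
set_option linter.unusedVariables false

/-!
Graph automorphisms of a Chevalley group: a symmetry `ρ` of the Dynkin diagram extends to a signed permutation of
the Chevalley basis, `h_{p_i} ↦ h_{p_{ρ i}}`, `e_r ↦ ε_r e_{σ r}`, which conjugates `x_r(t)` to `x_{σ r}(ε_r t)`.
-/

namespace Cfsg.Agent.Helper7.Chev

open Cfsg Cfsg.Lie Matrix

variable {D : ChevalleyDatum} {F : Type*} [Field F]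

/-- The table facts for a graph automorphism: `ρ` permutes the fundamental roots, `σ` the roots, `ε` are the
signs; `ρ'` and `σ'` are the inverse permutations. -/
structure T18 (D : ChevalleyDatum) (ρ ρ' σ σ' : ℕ → ℕ) (ε : ℕ → ℤ) : Prop where
  rho : ∀ i < D.rank, ρ i < D.rank ∧ ρ' i < D.rank ∧ ρ' (ρ i) = i ∧ ρ (ρ' i) = i
  sigma : ∀ r < D.nroots, σ r < D.nroots ∧ σ' r < D.nroots ∧ σ' (σ r) = r ∧ σ (σ' r) = r
  eps : ∀ r < D.nroots, (ε r = 1 ∨ ε r = -1) ∧ ε (D.neg r) = ε r ∧ σ (D.neg r) = D.neg (σ r)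
  cartan : ∀ i < D.rank, ∀ r < D.nroots,
    D.cartan (ρ i) (σ r) = D.cartan i r ∧ cr D (σ r) (ρ i) = cr D r i
  chain : ∀ r < D.nroots, ∀ s < D.nroots, s = r ∨ s = D.neg r ∨
    (D.chainEntry (σ r) (σ s)).zipIdx = (D.chainEntry r s).zipIdx.map
      (fun q => ((σ q.1.1, ε s * ε r ^ (q.2 + 1) * ε q.1.1 * q.1.2), q.2))
  chain_lt : ∀ r < D.nroots, ∀ s < D.nroots, ∀ q ∈ D.chainEntry r s, q.1 < D.nroots
  simple : ∀ i < D.rank, σ (D.simple i) = D.simple (ρ i) ∧ ε (D.simple i) = 1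

set_option synthInstance.maxSize 2048 in
set_option synthInstance.maxHeartbeats 400000 in
instance (D : ChevalleyDatum) (ρ ρ' σ σ' : ℕ → ℕ) (ε : ℕ → ℤ) : Decidable (T18 D ρ ρ' σ σ' ε) :=
  decidable_of_iff
    ((∀ i < D.rank, ρ i < D.rank ∧ ρ' i < D.rank ∧ ρ' (ρ i) = i ∧ ρ (ρ' i) = i) ∧
      (∀ r < D.nroots, σ r < D.nroots ∧ σ' r < D.nroots ∧ σ' (σ r) = r ∧ σ (σ' r) = r) ∧
      (∀ r < D.nroots, (ε r = 1 ∨ ε r = -1) ∧ ε (D.neg r) = ε r ∧ σ (D.neg r) = D.neg (σ r)) ∧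
      (∀ i < D.rank, ∀ r < D.nroots,
        D.cartan (ρ i) (σ r) = D.cartan i r ∧ cr D (σ r) (ρ i) = cr D r i) ∧
      (∀ r < D.nroots, ∀ s < D.nroots, s = r ∨ s = D.neg r ∨
        (D.chainEntry (σ r) (σ s)).zipIdx = (D.chainEntry r s).zipIdx.map
          (fun q => ((σ q.1.1, ε s * ε r ^ (q.2 + 1) * ε q.1.1 * q.1.2), q.2))) ∧
      (∀ r < D.nroots, ∀ s < D.nroots, ∀ q ∈ D.chainEntry r s, q.1 < D.nroots) ∧
      (∀ i < D.rank, σ (D.simple i) = D.simple (ρ i) ∧ ε (D.simple i) = 1))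
    ⟨fun h => ⟨h.1, h.2.1, h.2.2.1, h.2.2.2.1, h.2.2.2.2.1, h.2.2.2.2.2.1, h.2.2.2.2.2.2⟩,
      fun h => ⟨h.1, h.2, h.3, h.4, h.5, h.6, h.7⟩⟩

/-- The signed permutation matrix of a graph automorphism. -/
def graphMat (D : ChevalleyDatum) (F : Type*) [Field F] (ρ σ : ℕ → ℕ) (ε : ℕ → ℤ) :
    Matrix D.Idx D.Idx F :=
  Matrix.of fun row col =>
    match row, col with
    | Sum.inl i', Sum.inl i => if i'.val = ρ i.val then 1 else 0
    | Sum.inr u, Sum.inr s => if u.val = σ s.val then ((ε s.val : ℤ) : F) else 0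
    | _, _ => 0

theorem graphMat_mulVec_eH (ρ σ : ℕ → ℕ) (ε : ℕ → ℤ) (i : Fin D.rank) (h : ρ i.val < D.rank) :
    graphMat D F ρ σ ε *ᵥ eH D F i = eH D F ⟨ρ i.val, h⟩ := by
  rw [eH, Matrix.mulVec_single_one]
  ext row
  rcases row with j | u
  · simp only [Matrix.col_apply, graphMat, Matrix.of_apply, eH_apply_inl, Fin.ext_iff]
    by_cases hj : j.val = ρ i.val
    · rw [if_pos hj, if_pos hj.symm]
    · rw [if_neg hj, if_neg (fun h' => hj h'.symm)]
  · simp only [Matrix.col_apply, graphMat, Matrix.of_apply, eH_apply_inr]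

theorem graphMat_mulVec_eR (ρ σ : ℕ → ℕ) (ε : ℕ → ℤ) {s : ℕ} (hs : s < D.nroots) :
    graphMat D F ρ σ ε *ᵥ eR D F s = ((ε s : ℤ) : F) • eR D F (σ s) := by
  rw [eR_of_lt hs, Matrix.mulVec_single_one]
  ext row
  rcases row with j | u
  · simp only [Matrix.col_apply, graphMat, Matrix.of_apply, Pi.smul_apply, eR_apply_inl, smul_zero]
  · simp only [Matrix.col_apply, graphMat, Matrix.of_apply, Pi.smul_apply, eR_apply_inr,
      smul_eq_mul, mul_ite, mul_one, mul_zero]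
    by_cases hu : u.val = σ s
    · rw [if_pos hu, if_pos hu.symm]
    · rw [if_neg hu, if_neg (fun h' => hu h'.symm)]

theorem mulVec_list_sum' {ι : Type*} [Fintype ι] (A : Matrix ι ι F) (L : List (ι → F)) :
    A *ᵥ L.sum = (L.map fun v => A *ᵥ v).sum := by
  induction L with
  | nil => simp
  | cons a L ih => rw [List.sum_cons, Matrix.mulVec_add, ih, List.map_cons, List.sum_cons]

section main

variable (hG : Good1 D) {ρ ρ' σ σ' : ℕ → ℕ} {ε : ℕ → ℤ} (hT : T18 D ρ ρ' σ σ' ε)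

include hT in
theorem T18.sigma_inj {r s : ℕ} (hr : r < D.nroots) (hs : s < D.nroots) (h : σ r = σ s) : r = s := by
  rw [← (hT.sigma r hr).2.2.1, ← (hT.sigma s hs).2.2.1, h]

include hT in
theorem T18.eps_sq {r : ℕ} (hr : r < D.nroots) : ((ε r : ℤ) : F) * ((ε r : ℤ) : F) = 1 := by
  rcases (hT.eps r hr).1 with h | h <;> rw [h] <;> simp

include hT in
theorem graphMat_mulVec_hR {r : ℕ} (hr : r < D.nroots) :
    graphMat D F ρ σ ε *ᵥ hR D F r = hR D F (σ r) := by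
  unfold hR
  rw [Matrix.mulVec_sum]
  let e : Fin D.rank ≃ Fin D.rank :=
    { toFun := fun i => ⟨ρ i.val, (hT.rho i.val i.2).1⟩
      invFun := fun i => ⟨ρ' i.val, (hT.rho i.val i.2).2.1⟩
      left_inv := fun i => Fin.ext (hT.rho i.val i.2).2.2.1
      right_inv := fun i => Fin.ext (hT.rho i.val i.2).2.2.2 }
  rw [← Equiv.sum_comp e (fun j => ((cr D (σ r) j.val : ℤ) : F) • eH D F j)]
  apply Finset.sum_congr rfl
  intro i _
  rw [Matrix.mulVec_smul, graphMat_mulVec_eH ρ σ ε i (hT.rho i.val i.2).1]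
  change _ = ((cr D (σ r) (ρ i.val) : ℤ) : F) • eH D F ⟨ρ i.val, _⟩
  rw [(hT.cartan i.val i.2 r hr).2]

include hG hT in
theorem graphMat_mulVec_chainVec {r s : ℕ} (hr : r < D.nroots) (hs : s < D.nroots) (hsr : s ≠ r)
    (hsn : s ≠ D.neg r) (t : F) :
    graphMat D F ρ σ ε *ᵥ chainVec D F r s t =
      ((ε s : ℤ) : F) • chainVec D F (σ r) (σ s) (((ε r : ℤ) : F) * t) := by
  unfold chainVec
  have hch := (hT.chain r hr s hs).resolve_left hsr |>.resolve_left hsn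
  rw [mulVec_list_sum', List.map_map, hch, List.map_map, List.smul_sum,
    List.map_map]
  congr 1
  apply List.map_congr_left
  intro q hq
  have hq1 : q.1 ∈ D.chainEntry r s := by
    have := List.mem_zipIdx hq
    exact (List.mem_zipIdx' hq).2 ▸ List.getElem_mem _
  have hlt : q.1.1 < D.nroots := hT.chain_lt r hr s hs q.1 hq1
  simp only [Function.comp_apply]
  rw [Matrix.mulVec_smul, graphMat_mulVec_eR ρ σ ε hlt, smul_smul, smul_smul]
  congr 1
  have ha := hT.eps_sq (F := F) hs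
  have hb := hT.eps_sq (F := F) hr
  have hbk : ((ε r : ℤ) : F) ^ (q.2 + 1) * ((ε r : ℤ) : F) ^ (q.2 + 1) = 1 := by
    rw [← mul_pow, hb, one_pow]
  push_cast
  rw [mul_pow]
  linear_combination (-(((ε r : ℤ) : F) ^ (q.2 + 1) * ((ε r : ℤ) : F) ^ (q.2 + 1) *
    ((ε q.1.1 : ℤ) : F) * ((q.1.2 : ℤ) : F) * t ^ (q.2 + 1))) * ha +
    (-(((ε q.1.1 : ℤ) : F) * ((q.1.2 : ℤ) : F) * t ^ (q.2 + 1))) * hbk

include hG hT in
/-- The signed permutation matrix conjugates `x_r(t)` to `x_{σ r}(ε_r t)`. -/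
theorem graphMat_mul_x {r : ℕ} (hr : r < D.nroots) (t : F) :
    graphMat D F ρ σ ε * D.x F r t = D.x F (σ r) (((ε r : ℤ) : F) * t) * graphMat D F ρ σ ε := by
  have hσr := (hT.sigma r hr).1
  have hn := hG.neg_lt hr
  have hne := hG.neg_ne hr
  have hnσ := hG.neg_lt hσr
  have hneσ := hG.neg_ne hσr
  have hee := hT.eps_sq (F := F) hr
  apply matrix_ext_mulVec
  intro v
  rw [← Matrix.mulVec_mulVec, ← Matrix.mulVec_mulVec]
  rcases v with i | s
  · change graphMat D F ρ σ ε *ᵥ (D.x F r t *ᵥ eH D F i) = D.x F (σ r) _ *ᵥ (graphMat D F ρ σ ε *ᵥ eH D F i)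
    rw [x_mulVec_eH D F hr, Matrix.mulVec_add, Matrix.mulVec_smul,
      graphMat_mulVec_eH ρ σ ε i (hT.rho i.val i.2).1, graphMat_mulVec_eR ρ σ ε hr,
      x_mulVec_eH D F hσr, smul_smul]
    change _ = _ + (-((D.cartan (ρ i.val) (σ r) : ℤ) : F) * _) • _
    rw [(hT.cartan i.val i.2 r hr).1]
    congr 2
    ring
  · rw [single_inr]
    by_cases h1 : s.val = r
    · rw [h1, x_mulVec_eR_self D F hr, graphMat_mulVec_eR ρ σ ε hr, Matrix.mulVec_smul,
        x_mulVec_eR_self D F hσr]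
    · by_cases h2 : s.val = D.neg r
      · rw [h2, x_mulVec_eR_neg D F hr hn hne, Matrix.mulVec_add, Matrix.mulVec_add,
          Matrix.mulVec_smul, Matrix.mulVec_smul, graphMat_mulVec_eR ρ σ ε hn,
          graphMat_mulVec_eR ρ σ ε hr, graphMat_mulVec_hR hT hr, (hT.eps r hr).2.1,
          (hT.eps r hr).2.2, Matrix.mulVec_smul, x_mulVec_eR_neg D F hσr hnσ hneσ, smul_add,
          smul_add, smul_smul, smul_smul, smul_smul]
        have e1 : ((ε r : ℤ) : F) * (((ε r : ℤ) : F) * t) = t := by linear_combination t * hee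
        have e2 : ((ε r : ℤ) : F) * -(((ε r : ℤ) : F) * t) ^ 2 = -t ^ 2 * ((ε r : ℤ) : F) := by
          linear_combination (-t ^ 2 * ((ε r : ℤ) : F)) * hee
        rw [e1, e2]
      · have h1' : σ s.val ≠ σ r := fun h => h1 (hT.sigma_inj s.2 hr h)
        have h2' : σ s.val ≠ D.neg (σ r) := by
          rw [← (hT.eps r hr).2.2]
          exact fun h => h2 (hT.sigma_inj s.2 hn h)
        rw [x_mulVec_eR_other D F hr (hG.keysNodup hr) s.2 h1 h2, Matrix.mulVec_add,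
          graphMat_mulVec_eR ρ σ ε s.2, graphMat_mulVec_chainVec hG hT hr s.2 h1 h2,
          Matrix.mulVec_smul,
          x_mulVec_eR_other D F hσr (hG.keysNodup hσr) (hT.sigma s.val s.2).1 h1' h2', smul_add]

/-- The inverse signs. -/
def epsInv (σ' : ℕ → ℕ) (ε : ℕ → ℤ) : ℕ → ℤ := fun s => ε (σ' s)

include hT in
theorem graphMat_mul_inv : graphMat D F ρ σ ε * graphMat D F ρ' σ' (epsInv σ' ε) = 1 := by
  apply matrix_ext_mulVec
  intro v
  rw [← Matrix.mulVec_mulVec, Matrix.one_mulVec]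
  rcases v with i | s
  · change graphMat D F ρ σ ε *ᵥ (graphMat D F ρ' σ' _ *ᵥ eH D F i) = eH D F i
    rw [graphMat_mulVec_eH ρ' σ' _ i (hT.rho i.val i.2).2.1,
      graphMat_mulVec_eH ρ σ ε _ (hT.rho _ (hT.rho i.val i.2).2.1).1]
    congr 1
    exact Fin.ext (hT.rho i.val i.2).2.2.2
  · rw [single_inr, graphMat_mulVec_eR ρ' σ' _ s.2, Matrix.mulVec_smul,
      graphMat_mulVec_eR ρ σ ε (hT.sigma s.val s.2).2.1, smul_smul, (hT.sigma s.val s.2).2.2.2]
    unfold epsInv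
    rw [hT.eps_sq (hT.sigma s.val s.2).2.1, one_smul]

include hT in
theorem graphMat_inv_mul : graphMat D F ρ' σ' (epsInv σ' ε) * graphMat D F ρ σ ε = 1 := by
  apply matrix_ext_mulVec
  intro v
  rw [← Matrix.mulVec_mulVec, Matrix.one_mulVec]
  rcases v with i | s
  · change graphMat D F ρ' σ' _ *ᵥ (graphMat D F ρ σ ε *ᵥ eH D F i) = eH D F i
    rw [graphMat_mulVec_eH ρ σ ε i (hT.rho i.val i.2).1,
      graphMat_mulVec_eH ρ' σ' _ _ (hT.rho _ (hT.rho i.val i.2).1).2.1]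
    congr 1
    exact Fin.ext (hT.rho i.val i.2).2.2.1
  · rw [single_inr, graphMat_mulVec_eR ρ σ ε s.2, Matrix.mulVec_smul,
      graphMat_mulVec_eR ρ' σ' _ (hT.sigma s.val s.2).1, smul_smul]
    unfold epsInv
    rw [(hT.sigma s.val s.2).2.2.1, hT.eps_sq s.2, one_smul]

/-- The signed permutation matrix as an invertible matrix. -/
def graphGL : GL D.Idx F :=
  ⟨graphMat D F ρ σ ε, graphMat D F ρ' σ' (epsInv σ' ε), graphMat_mul_inv hT, graphMat_inv_mul hT⟩

include hG in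
theorem graphGL_conj_x {g : GL D.Idx F} {r : ℕ} (hr : r < D.nroots) {t : F}
    (hg : (g : Matrix D.Idx D.Idx F) = D.x F r t) :
    ((graphGL hT * g * (graphGL hT)⁻¹ : GL D.Idx F) : Matrix D.Idx D.Idx F) =
      D.x F (σ r) (((ε r : ℤ) : F) * t) := by
  rw [Units.val_mul, Units.val_mul, hg]
  change graphMat D F ρ σ ε * _ * graphMat D F ρ' σ' (epsInv σ' ε) = _
  rw [graphMat_mul_x hG hT hr, Matrix.mul_assoc, graphMat_mul_inv hT, Matrix.mul_one]

include hG in
theorem graphGL_inv_conj_x {g : GL D.Idx F} {r : ℕ} (hr : r < D.nroots) {t : F}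
    (hg : (g : Matrix D.Idx D.Idx F) = D.x F r t) :
    (((graphGL hT)⁻¹ * g * graphGL hT : GL D.Idx F) : Matrix D.Idx D.Idx F) =
      D.x F (σ' r) (((ε (σ' r) : ℤ) : F) * t) := by
  have hr' := (hT.sigma r hr).2.1
  have key := graphMat_mul_x hG hT hr' (((ε (σ' r) : ℤ) : F) * t)
  rw [(hT.sigma r hr).2.2.2, ← mul_assoc, hT.eps_sq hr', one_mul] at key
  rw [Units.val_mul, Units.val_mul, hg]
  change graphMat D F ρ' σ' (epsInv σ' ε) * _ * graphMat D F ρ σ ε = _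
  rw [Matrix.mul_assoc, ← key, ← Matrix.mul_assoc, graphMat_inv_mul hT, Matrix.one_mul]

include hG in
theorem map_conj_group :
    (D.group F).map (MulAut.conj (graphGL (F := F) hT)).toMonoidHom = D.group F := by
  unfold ChevalleyDatum.group
  rw [MonoidHom.map_closure]
  congr 1
  ext g
  constructor
  · rintro ⟨h, ⟨r, t, hh⟩, rfl⟩
    have hh' : (h : Matrix D.Idx D.Idx F) = D.x F r.val t := by rw [hh, x_of_lt D F r.2]
    refine ⟨⟨σ r.val, (hT.sigma r.val r.2).1⟩, ((ε r.val : ℤ) : F) * t, ?_⟩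
    change ((graphGL hT * h * (graphGL hT)⁻¹ : GL D.Idx F) : Matrix D.Idx D.Idx F) = _
    rw [graphGL_conj_x hG hT r.2 hh', x_of_lt D F (hT.sigma r.val r.2).1]
  · rintro ⟨r, t, hg⟩
    have hg' : (g : Matrix D.Idx D.Idx F) = D.x F r.val t := by rw [hg, x_of_lt D F r.2]
    refine ⟨(graphGL hT)⁻¹ * g * graphGL hT,
      ⟨⟨σ' r.val, (hT.sigma r.val r.2).2.1⟩, ((ε (σ' r.val) : ℤ) : F) * t, ?_⟩, ?_⟩
    · rw [graphGL_inv_conj_x hG hT r.2 hg', x_of_lt D F (hT.sigma r.val r.2).2.1]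
    · change graphGL hT * ((graphGL hT)⁻¹ * g * graphGL hT) * (graphGL hT)⁻¹ = g
      group

/-- The graph automorphism of the Chevalley group. -/
noncomputable def graphAut : ↥(D.group F) ≃* ↥(D.group F) :=
  ((MulAut.conj (graphGL (F := F) hT)).subgroupMap (D.group F)).trans
    (MulEquiv.subgroupCongr (map_conj_group hG hT))

theorem graphAut_coe (g : ↥(D.group F)) :
    ((graphAut hG hT g : ↥(D.group F)) : GL D.Idx F) =
      graphGL hT * (g : GL D.Idx F) * (graphGL hT)⁻¹ := rfl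

include hG hT in
/-- The statement of S1081 from the table facts. -/
theorem exists_graphAut :
    ∃ α : ↥(D.group F) ≃* ↥(D.group F), ∀ (g : ↥(D.group F)) (i : ℕ) (t : F), i < D.rank →
      (((g : GL D.Idx F) : Matrix D.Idx D.Idx F) = D.x F (D.simple i) t →
        ((α g : GL D.Idx F) : Matrix D.Idx D.Idx F) = D.x F (D.simple (ρ i)) t) ∧
      (((g : GL D.Idx F) : Matrix D.Idx D.Idx F) = D.x F (D.neg (D.simple i)) t →
        ((α g : GL D.Idx F) : Matrix D.Idx D.Idx F) = D.x F (D.neg (D.simple (ρ i))) t) := by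
  refine ⟨graphAut hG hT, fun g i t hi => ⟨fun hg => ?_, fun hg => ?_⟩⟩
  · have hs := hG.simple_lt hi
    rw [graphAut_coe, graphGL_conj_x hG hT hs hg, (hT.simple i hi).1, (hT.simple i hi).2]
    simp
  · have hs := hG.simple_lt hi
    have hn := hG.neg_lt hs
    rw [graphAut_coe, graphGL_conj_x hG hT hn hg, (hT.eps _ hs).2.2, (hT.eps _ hs).2.1,
      (hT.simple i hi).1, (hT.simple i hi).2]
    simp

end main

end Cfsg.Agent.Helper7.Chev
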