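import Mathlib
import Cfsg.Agent.Helper7.ChevGraph
import Cfsg.Agent.Helper7.ChevFieldAut
import Cfsg.Agent.Helper7.ChevBorel
import Cfsg.Agent.Helper7.ChevGood3
import Cfsg.Agent.Helper7.ChevUp

set_option autoImplicit false
set_option linter.unusedSectionVars false
set_option linter.unusedVariables false

/-!
Twisted groups, part 1: the twisting automorphism `g ↦ P · f(g) · P⁻¹` of the general linear group (a graph
automorphism composed with a field automorphism) and its action on the root elements.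
-/

namespace Cfsg.Agent.Helper7.Chev

open Cfsg Cfsg.Lie Matrix

variable {D : ChevalleyDatum} {K : Type*} [Field K]

section twAut

variable (hG : Good1 D) {ρ ρ' σ σ' : ℕ → ℕ} {ε : ℕ → ℤ} (h18 : T18 D ρ ρ' σ σ' ε) (f : K ≃+* K)

/-- The twisting automorphism of the general linear group. -/
noncomputable def twAut : GL D.Idx K ≃* GL D.Idx K :=
  (glFieldAut f).trans (MulAut.conj (graphGL (F := K) h18))

theorem twAut_apply (g : GL D.Idx K) :
    twAut h18 f g = graphGL h18 * glFieldAut f g * (graphGL h18)⁻¹ := rfl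

include hG in
theorem twAut_xGL {r : ℕ} (hr : r < D.nroots) (t : K) :
    twAut h18 f (xGL hG hr t) = xGL hG (h18.sigma r hr).1 (((ε r : ℤ) : K) * f t) := by
  apply Units.ext
  rw [twAut_apply, xGL_coe]
  have h1 : ((glFieldAut f (xGL hG hr t) : GL D.Idx K) : Matrix D.Idx D.Idx K) = D.x K r (f t) := by
    rw [glFieldAut_coe, xGL_coe, x_of_lt D K hr, x_of_lt D K hr]
    exact xMat_map D (f : K →+* K) ⟨r, hr⟩ t
  exact graphGL_conj_x hG h18 hr h1

/-- The subgroup of the elements fixed by the twisting automorphism. -/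
noncomputable def twFix : Subgroup (GL D.Idx K) :=
  (twAut h18 f).toMonoidHom.eqLocus (MonoidHom.id _)

theorem mem_twFix {g : GL D.Idx K} : g ∈ twFix h18 f ↔ twAut h18 f g = g := Iff.rfl

end twAut

/-! ### Commuting homomorphisms -/

section generic

variable {G : Type*} [Group G]

theorem commute_of_mem_closure {S T : Set G} (h : ∀ s ∈ S, ∀ t ∈ T, Commute s t) :
    ∀ x ∈ Subgroup.closure S, ∀ y ∈ Subgroup.closure T, Commute x y := by
  intro x hx
  induction hx using Subgroup.closure_induction with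
  | mem s hs =>
    intro y hy
    induction hy using Subgroup.closure_induction with
    | mem t ht => exact h s hs t ht
    | one => exact Commute.one_right _
    | mul a b _ _ ha hb => exact ha.mul_right hb
    | inv a _ ha => exact ha.inv_right
  | one => intro y _; exact Commute.one_left _
  | mul a b _ _ ha hb => intro y hy; exact (ha y hy).mul_left (hb y hy)
  | inv a _ ha => intro y hy; exact (ha y hy).inv_left

/-- The product of the values of a list of homomorphisms. -/
def listHomFun {N : Type*} [Monoid N] (L : List (N →* G)) (g : N) : G := (L.map fun φ => φ g).prod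

theorem listHomFun_one {N : Type*} [Monoid N] (L : List (N →* G)) : listHomFun L 1 = 1 := by
  unfold listHomFun
  induction L with
  | nil => rfl
  | cons φ L ih => rw [List.map_cons, List.prod_cons, ih, map_one, one_mul]

theorem listHomFun_mul {N : Type*} [Monoid N] (L : List (N →* G))
    (hL : L.Pairwise fun φ ψ => ∀ x y, Commute (φ x) (ψ y)) (g h : N) :
    listHomFun L (g * h) = listHomFun L g * listHomFun L h := by
  unfold listHomFun
  induction L with
  | nil => simp
  | cons φ L ih =>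
    rw [List.pairwise_cons] at hL
    rw [List.map_cons, List.prod_cons, List.map_cons, List.prod_cons, List.map_cons, List.prod_cons,
      ih hL.2, map_mul]
    have hc : Commute (φ h) (L.map fun ψ => ψ g).prod := by
      apply Commute.list_prod_right
      intro y hy
      rw [List.mem_map] at hy
      obtain ⟨ψ, hψ, rfl⟩ := hy
      exact hL.1 ψ hψ h g
    calc φ g * φ h * ((L.map fun ψ => ψ g).prod * (L.map fun ψ => ψ h).prod)
        = φ g * (φ h * (L.map fun ψ => ψ g).prod) * (L.map fun ψ => ψ h).prod := by group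
      _ = φ g * ((L.map fun ψ => ψ g).prod * φ h) * (L.map fun ψ => ψ h).prod := by rw [hc.eq]
      _ = _ := by group

/-- The product of a list of homomorphisms with pairwise commuting values. -/
def listHom {N : Type*} [Monoid N] (L : List (N →* G))
    (hL : L.Pairwise fun φ ψ => ∀ x y, Commute (φ x) (ψ y)) : N →* G where
  toFun := listHomFun L
  map_one' := listHomFun_one L
  map_mul' := listHomFun_mul L hL

end generic

/-! ### Opposite root subgroups of two roots whose root elements commute -/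

section commute

variable (hG : Good2 D) (h3 : (tabOf D).T3) (h4 : (tabOf D).T4 60)

include hG h3 h4 in
theorem xGL_commute_of_terms_nil {a b : ℕ} (ha : a < D.nroots) (hb : b < D.nroots) (hab : b ≠ a)
    (habn : b ≠ D.neg a) (hterms : (tabOf D).commTerms a b = []) (t u : K) :
    Commute (xGL hG.toGood1 ha t) (xGL hG.toGood1 hb u) := by
  have hc := comm_all (F := K) hG h3 h4 ha hb hab habn t u
  unfold ChevalleyDatum.commWord at hc
  rw [← commTerms_eq, hterms, List.map_nil, wordMat_nil, mul_one] at hc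
  apply Units.ext
  rw [Units.val_mul, Units.val_mul, xGL_coe, xGL_coe]
  exact hc.symm

/-- The two roots `a`, `b` are such that `±a ± b` are not roots. -/
structure Ortho (D : ChevalleyDatum) (a b : ℕ) : Prop where
  ne1 : a ≠ b
  ne2 : a ≠ D.neg b
  ne3 : b ≠ D.neg a
  ne4 : D.neg a ≠ D.neg b
  t1 : (tabOf D).commTerms a b = []
  t2 : (tabOf D).commTerms a (D.neg b) = []
  t3 : (tabOf D).commTerms (D.neg a) b = []
  t4 : (tabOf D).commTerms (D.neg a) (D.neg b) = []

instance (D : ChevalleyDatum) (a b : ℕ) : Decidable (Ortho D a b) :=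
  decidable_of_iff (a ≠ b ∧ a ≠ D.neg b ∧ b ≠ D.neg a ∧ D.neg a ≠ D.neg b ∧
      (tabOf D).commTerms a b = [] ∧ (tabOf D).commTerms a (D.neg b) = [] ∧
      (tabOf D).commTerms (D.neg a) b = [] ∧ (tabOf D).commTerms (D.neg a) (D.neg b) = [])
    ⟨fun h => ⟨h.1, h.2.1, h.2.2.1, h.2.2.2.1, h.2.2.2.2.1, h.2.2.2.2.2.1, h.2.2.2.2.2.2.1,
      h.2.2.2.2.2.2.2⟩, fun h => ⟨h.1, h.2, h.3, h.4, h.5, h.6, h.7, h.8⟩⟩

include hG h3 h4 in
/-- The images of `SL₂` attached to two orthogonal roots commute elementwise. -/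
theorem phiHom_commute {a b : ℕ} (ha : a < D.nroots) (hb : b < D.nroots) (ho : Ortho D a b)
    (x y : Matrix.SpecialLinearGroup (Fin 2) K) :
    Commute (phiHom hG.toGood1 ha x) (phiHom hG.toGood1 hb y) := by
  have hG1 := hG.toGood1
  have hna := hG1.neg_lt ha
  have hnb := hG1.neg_lt hb
  have hx : phiHom hG1 ha x ∈ (phiHom hG1 ha (F := K)).range := ⟨x, rfl⟩
  have hy : phiHom hG1 hb y ∈ (phiHom hG1 hb (F := K)).range := ⟨y, rfl⟩
  rw [phiHom_range] at hx hy
  unfold ChevalleyDatum.rootSubgroup at hx hy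
  rw [← Subgroup.closure_union] at hx hy
  apply commute_of_mem_closure _ _ hx _ hy
  rintro s (⟨t, hs⟩ | ⟨t, hs⟩) s' (⟨u, hs'⟩ | ⟨u, hs'⟩)
  · rw [eq_xGL hG1 ha hs, eq_xGL hG1 hb hs']
    exact xGL_commute_of_terms_nil hG h3 h4 ha hb ho.ne1.symm ho.ne3 ho.t1 t u
  · rw [eq_xGL hG1 ha hs, eq_xGL hG1 hnb hs']
    exact xGL_commute_of_terms_nil hG h3 h4 ha hnb ho.ne2.symm ho.ne4.symm ho.t2 t u
  · rw [eq_xGL hG1 hna hs, eq_xGL hG1 hb hs']
    refine xGL_commute_of_terms_nil hG h3 h4 hna hb ho.ne3 ?_ ho.t3 t u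
    rw [hG1.neg_neg ha]; exact ho.ne1.symm
  · rw [eq_xGL hG1 hna hs, eq_xGL hG1 hnb hs']
    refine xGL_commute_of_terms_nil hG h3 h4 hna hnb ho.ne4.symm ?_ ho.t4 t u
    rw [hG1.neg_neg ha]; exact ho.ne2.symm

end commute

/-! ### Classes of fundamental roots and their homomorphisms from `SL₂` -/

/-- The `j`-th root of the class with base index `i`. -/
def clsRoot (D : ChevalleyDatum) (ρ : ℕ → ℕ) (i j : ℕ) : ℕ := D.simple (ρ^[j] i)

/-- The table facts on the classes of fundamental roots: a class is given by its base index and its length. -/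
structure T19 (D : ChevalleyDatum) (ρ σ : ℕ → ℕ) (cls : List (ℕ × ℕ)) : Prop where
  orbit : ∀ c ∈ cls, 0 < c.2 ∧ ρ^[c.2] c.1 = c.1 ∧ ∀ j < c.2, ρ^[j] c.1 < D.rank
  ortho : ∀ c ∈ cls, ∀ j < c.2, ∀ k < c.2, j ≠ k →
    Ortho D (clsRoot D ρ c.1 j) (clsRoot D ρ c.1 k) ∧
      (tabOf D).refl (clsRoot D ρ c.1 j) (clsRoot D ρ c.1 k) = clsRoot D ρ c.1 k
  sigma_pos : ∀ r < D.nroots, D.nroots / 2 ≤ r → D.nroots / 2 ≤ σ r
  cover : ∀ k < D.rank, ∃ c ∈ cls, ∃ j < c.2, ρ^[j] c.1 = k
  disj : ∀ c ∈ cls, ∀ c' ∈ cls, c ≠ c' → ∀ j < c.2, ρ^[j] c.1 ≠ c'.1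

instance (D : ChevalleyDatum) (ρ σ : ℕ → ℕ) (cls : List (ℕ × ℕ)) : Decidable (T19 D ρ σ cls) :=
  decidable_of_iff
    ((∀ c ∈ cls, 0 < c.2 ∧ ρ^[c.2] c.1 = c.1 ∧ ∀ j < c.2, ρ^[j] c.1 < D.rank) ∧
      (∀ c ∈ cls, ∀ j < c.2, ∀ k < c.2, j ≠ k →
        Ortho D (clsRoot D ρ c.1 j) (clsRoot D ρ c.1 k) ∧
          (tabOf D).refl (clsRoot D ρ c.1 j) (clsRoot D ρ c.1 k) = clsRoot D ρ c.1 k) ∧
      (∀ r < D.nroots, D.nroots / 2 ≤ r → D.nroots / 2 ≤ σ r) ∧
      (∀ k < D.rank, ∃ c ∈ cls, ∃ j < c.2, ρ^[j] c.1 = k) ∧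
      (∀ c ∈ cls, ∀ c' ∈ cls, c ≠ c' → ∀ j < c.2, ρ^[j] c.1 ≠ c'.1))
    ⟨fun h => ⟨h.1, h.2.1, h.2.2.1, h.2.2.2.1, h.2.2.2.2⟩, fun h => ⟨h.1, h.2, h.3, h.4, h.5⟩⟩

section cls

variable (hG : Good2 D) (h3 : (tabOf D).T3) (h4 : (tabOf D).T4 60)
  {ρ ρ' σ σ' : ℕ → ℕ} {ε : ℕ → ℤ} (h18 : T18 D ρ ρ' σ σ' ε) {cls : List (ℕ × ℕ)}
  (h19 : T19 D ρ σ cls) (f : K ≃+* K)

/-- `φ_p` for the `i`-th fundamental root `p`, trivial if `i` is out of range. -/
noncomputable def phiS (hG1 : Good1 D) (i : ℕ) :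
    Matrix.SpecialLinearGroup (Fin 2) K →* GL D.Idx K :=
  if hi : i < D.rank then phiHom hG1 (hG1.simple_lt hi) else 1

theorem phiS_of_lt (hG1 : Good1 D) {i : ℕ} (hi : i < D.rank) :
    (phiS hG1 i : Matrix.SpecialLinearGroup (Fin 2) K →* GL D.Idx K) =
      phiHom hG1 (hG1.simple_lt hi) := by
  unfold phiS
  rw [dif_pos hi]

/-- The `j`-th factor of the homomorphism of a class: `φ` of the `j`-th root after `j` applications of the field
automorphism. -/
noncomputable def clsFactor (hG1 : Good1 D) (ρ : ℕ → ℕ) (f : K ≃+* K) (i j : ℕ) :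
    Matrix.SpecialLinearGroup (Fin 2) K →* GL D.Idx K :=
  (phiS hG1 (ρ^[j] i)).comp (Matrix.SpecialLinearGroup.map (((f : K →+* K)) ^ j))

include hG h3 h4 h19 in
theorem clsFactor_commute {c : ℕ × ℕ} (hc : c ∈ cls) {j k : ℕ} (hj : j < c.2) (hk : k < c.2)
    (hjk : j ≠ k) (x y : Matrix.SpecialLinearGroup (Fin 2) K) :
    Commute (clsFactor hG.toGood1 ρ f c.1 j x) (clsFactor hG.toGood1 ρ f c.1 k y) := by
  have hG1 := hG.toGood1
  obtain ⟨_, _, hlt⟩ := h19.orbit c hc
  unfold clsFactor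
  rw [MonoidHom.comp_apply, MonoidHom.comp_apply, phiS_of_lt hG1 (hlt j hj), phiS_of_lt hG1 (hlt k hk)]
  exact phiHom_commute hG h3 h4 _ _ (h19.ortho c hc j hj k hk hjk).1 _ _

include hG h3 h4 h19 in
theorem clsList_pairwise {c : ℕ × ℕ} (hc : c ∈ cls) :
    ((List.range c.2).map (clsFactor (K := K) hG.toGood1 ρ f c.1)).Pairwise
      fun φ ψ => ∀ x y, Commute (φ x) (ψ y) := by
  rw [List.pairwise_map]
  have h := List.pairwise_lt_range (n := c.2)
  have h' : (List.range c.2).Pairwise fun a b => a < c.2 ∧ b < c.2 ∧ a ≠ b := by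
    rw [List.pairwise_iff_getElem] at h ⊢
    intro i j hi hj hij
    have := h i j hi hj hij
    simp only [List.getElem_range] at this ⊢
    simp only [List.length_range] at hi hj
    exact ⟨hi, hj, by omega⟩
  exact h'.imp fun {a b} hab x y => clsFactor_commute hG h3 h4 h19 f hc hab.1 hab.2.1 hab.2.2 x y

/-- The homomorphism from `SL₂` attached to a class. -/
noncomputable def clsHom {c : ℕ × ℕ} (hc : c ∈ cls) :
    Matrix.SpecialLinearGroup (Fin 2) K →* GL D.Idx K :=
  listHom _ (clsList_pairwise hG h3 h4 h19 f hc)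

theorem clsHom_apply {c : ℕ × ℕ} (hc : c ∈ cls) (g : Matrix.SpecialLinearGroup (Fin 2) K) :
    clsHom hG h3 h4 h19 f hc g =
      ((List.range c.2).map fun j => clsFactor hG.toGood1 ρ f c.1 j g).prod := by
  change listHomFun _ g = _
  unfold listHomFun
  rw [List.map_map]
  rfl

end cls

/-! ### The twisting automorphism on the homomorphisms of the classes -/

section generic2

variable {G : Type*} [Group G]

theorem prod_range_shift (F : ℕ → G) (m : ℕ) (h0 : F m = F 0)
    (hc : ∀ j k, j < m → k < m → j ≠ k → Commute (F j) (F k)) :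
    ((List.range m).map fun j => F (j + 1)).prod = ((List.range m).map F).prod := by
  cases m with
  | zero => rfl
  | succ m =>
    have e1 : ((List.range (m + 1)).map fun j => F (j + 1)).prod =
        ((List.range m).map fun j => F (j + 1)).prod * F 0 := by
      rw [List.range_succ, List.map_append, List.prod_append, List.map_singleton, List.prod_singleton, h0]
    have e2 : ((List.range (m + 1)).map F).prod =
        F 0 * ((List.range m).map fun j => F (j + 1)).prod := by
      rw [List.range_succ_eq_map, List.map_cons, List.prod_cons, List.map_map]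
      rfl
    rw [e1, e2]
    symm
    apply Commute.eq
    apply Commute.list_prod_right
    intro y hy
    rw [List.mem_map] at hy
    obtain ⟨j, hj, rfl⟩ := hy
    rw [List.mem_range] at hj
    exact hc 0 (j + 1) (by omega) (by omega) (by omega)

end generic2

section sigma

variable (hG : Good2 D) (h3 : (tabOf D).T3) (h4 : (tabOf D).T4 60)
  {ρ ρ' σ σ' : ℕ → ℕ} {ε : ℕ → ℤ} (h18 : T18 D ρ ρ' σ σ' ε) {cls : List (ℕ × ℕ)}
  (h19 : T19 D ρ σ cls) (f : K ≃+* K)

theorem xGL_congr' (hG1 : Good1 D) {r r' : ℕ} (h : r = r') (hr : r < D.nroots) (hr' : r' < D.nroots)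
    (t : K) : (xGL hG1 hr t : GL D.Idx K) = xGL hG1 hr' t := by
  subst h; rfl

theorem phiHom_upper' (hG1 : Good1 D) {r : ℕ} (hr : r < D.nroots) (t : K) :
    phiHom hG1 hr (upperSL t) = xGL hG1 hr t := rfl

theorem phiHom_lower' (hG1 : Good1 D) {r : ℕ} (hr : r < D.nroots) (t : K) :
    phiHom hG1 hr (lowerSL t) = xGL hG1 (hG1.neg_lt hr) t :=
  eq_xGL hG1 _ (phiHom_lower hG1 hr t)

theorem map_upperSL (φ : K →+* K) (t : K) :
    Matrix.SpecialLinearGroup.map φ (upperSL t) = upperSL (φ t) := by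
  apply Subtype.ext
  change φ.mapMatrix (!![1, t; 0, 1] : Matrix (Fin 2) (Fin 2) K) = !![1, φ t; 0, 1]
  ext i j
  fin_cases i <;> fin_cases j <;> simp

theorem map_lowerSL (φ : K →+* K) (t : K) :
    Matrix.SpecialLinearGroup.map φ (lowerSL t) = lowerSL (φ t) := by
  apply Subtype.ext
  change φ.mapMatrix (!![1, 0; t, 1] : Matrix (Fin 2) (Fin 2) K) = !![1, 0; φ t, 1]
  ext i j
  fin_cases i <;> fin_cases j <;> simp

include h18 in
/-- The twisting automorphism carries `φ_{p_i}` to `φ_{p_{ρ i}}` composed with the field automorphism. -/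
theorem twAut_phiS (hG1 : Good1 D) {i : ℕ} (hi : i < D.rank)
    (g : Matrix.SpecialLinearGroup (Fin 2) K) :
    twAut h18 f (phiS hG1 i g) =
      phiS hG1 (ρ i) (Matrix.SpecialLinearGroup.map (f : K →+* K) g) := by
  have hρi := (h18.rho i hi).1
  have hp := hG1.simple_lt hi
  have hp' := hG1.simple_lt hρi
  rw [phiS_of_lt hG1 hi, phiS_of_lt hG1 hρi]
  have key : (twAut h18 f).toMonoidHom.comp (phiHom hG1 hp) =
      (phiHom hG1 hp').comp (Matrix.SpecialLinearGroup.map (f : K →+* K)) := by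
    apply MonoidHom.eq_of_eqOn_dense (sl2_generated (F := K))
    rintro x (⟨t, rfl⟩ | ⟨t, rfl⟩)
    · change twAut h18 f (phiHom hG1 hp (upperSL t)) =
        phiHom hG1 hp' (Matrix.SpecialLinearGroup.map (f : K →+* K) (upperSL t))
      rw [map_upperSL, phiHom_upper', phiHom_upper', twAut_xGL hG1 h18 f hp, (h18.simple i hi).2]
      simp only [Int.cast_one, one_mul]
      exact xGL_congr' hG1 (h18.simple i hi).1 _ _ _
    · change twAut h18 f (phiHom hG1 hp (lowerSL t)) =
        phiHom hG1 hp' (Matrix.SpecialLinearGroup.map (f : K →+* K) (lowerSL t))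
      rw [map_lowerSL, phiHom_lower', phiHom_lower', twAut_xGL hG1 h18 f (hG1.neg_lt hp),
        (h18.eps _ hp).2.1, (h18.simple i hi).2]
      simp only [Int.cast_one, one_mul]
      refine xGL_congr' hG1 ?_ _ _ _
      rw [(h18.eps _ hp).2.2, (h18.simple i hi).1]
  exact DFunLike.congr_fun key g

include h18 h19 in
theorem twAut_clsFactor {c : ℕ × ℕ} (hc : c ∈ cls) {j : ℕ} (hj : j < c.2)
    (g : Matrix.SpecialLinearGroup (Fin 2) K) :
    twAut h18 f (clsFactor hG.toGood1 ρ f c.1 j g) = clsFactor hG.toGood1 ρ f c.1 (j + 1) g := by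
  obtain ⟨_, _, hlt⟩ := h19.orbit c hc
  unfold clsFactor
  rw [MonoidHom.comp_apply, MonoidHom.comp_apply, twAut_phiS h18 f hG.toGood1 (hlt j hj),
    Function.iterate_succ_apply', pow_succ']
  rfl

include hG h3 h4 h18 h19 in
/-- The elements of the image of a class homomorphism whose argument is fixed by the suitable power of the field
automorphism are fixed by the twisting automorphism. -/
theorem twAut_clsHom {c : ℕ × ℕ} (hc : c ∈ cls) {g : Matrix.SpecialLinearGroup (Fin 2) K}
    (hg : Matrix.SpecialLinearGroup.map (((f : K →+* K)) ^ c.2) g = g) :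
    twAut h18 f (clsHom hG h3 h4 h19 f hc g) = clsHom hG h3 h4 h19 f hc g := by
  obtain ⟨hm, horb, hlt⟩ := h19.orbit c hc
  rw [clsHom_apply, map_list_prod, List.map_map]
  have e : (List.range c.2).map (⇑(twAut h18 f) ∘ fun j => clsFactor hG.toGood1 ρ f c.1 j g) =
      (List.range c.2).map fun j => clsFactor hG.toGood1 ρ f c.1 (j + 1) g := by
    apply List.map_congr_left
    intro j hj
    rw [List.mem_range] at hj
    exact twAut_clsFactor hG h18 h19 f hc hj g
  rw [e]
  apply prod_range_shift (fun j => clsFactor hG.toGood1 ρ f c.1 j g)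
  · change clsFactor hG.toGood1 ρ f c.1 c.2 g = clsFactor hG.toGood1 ρ f c.1 0 g
    unfold clsFactor
    rw [MonoidHom.comp_apply, MonoidHom.comp_apply, horb, hg, pow_zero]
    congr 1
  · intro j k hj hk hjk
    exact clsFactor_commute hG h3 h4 h19 f hc hj hk hjk g g

end sigma

end Cfsg.Agent.Helper7.Chev
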