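import Mathlib
import Cfsg.Agent.Helper7.ChevCount
import Cfsg.Agent.Helper7.ChevPara
import Cfsg.Agent.Helper7.ChevTw1
import Cfsg.Agent.Helper7.ChevPerfect

set_option autoImplicit false
set_option linter.unusedSectionVars false
set_option linter.unusedVariables false

/-!
Automorphisms of a Chevalley group that permute the root subgroups (such as the composites of a special isogeny
with a field automorphism), part 1: the action on `U`, `V`, `H`, `N` and on the images of `SL₂`.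
-/

namespace Cfsg.Agent.Helper7.Chev

open Cfsg Cfsg.Lie Matrix

/-! ### The extension of an automorphism of a subgroup to a function on the group -/

section ext

variable {G : Type*} [Group G] {S : Subgroup G}

open Classical in
/-- The extension by the identity of an automorphism of a subgroup. -/
noncomputable def extFun (τ : ↥S ≃* ↥S) (g : G) : G := if h : g ∈ S then ((τ ⟨g, h⟩ : ↥S) : G) else g

theorem extFun_of_mem (τ : ↥S ≃* ↥S) {g : G} (h : g ∈ S) : extFun τ g = ((τ ⟨g, h⟩ : ↥S) : G) :=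
  dif_pos h

theorem extFun_coe (τ : ↥S ≃* ↥S) (g : ↥S) : extFun τ (g : G) = ((τ g : ↥S) : G) :=
  extFun_of_mem τ g.2

theorem extFun_mem (τ : ↥S ≃* ↥S) {g : G} (h : g ∈ S) : extFun τ g ∈ S := by
  rw [extFun_of_mem τ h]; exact (τ ⟨g, h⟩).2

theorem extFun_mul (τ : ↥S ≃* ↥S) {a b : G} (ha : a ∈ S) (hb : b ∈ S) :
    extFun τ (a * b) = extFun τ a * extFun τ b := by
  rw [extFun_of_mem τ ha, extFun_of_mem τ hb, extFun_of_mem τ (mul_mem ha hb), ← Subgroup.coe_mul,
    ← map_mul]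
  rfl

theorem extFun_one (τ : ↥S ≃* ↥S) : extFun τ (1 : G) = 1 := by
  rw [extFun_of_mem τ (one_mem S)]
  have : (⟨1, one_mem S⟩ : ↥S) = 1 := rfl
  rw [this, map_one]; rfl

theorem extFun_inv (τ : ↥S ≃* ↥S) {a : G} (ha : a ∈ S) : extFun τ a⁻¹ = (extFun τ a)⁻¹ := by
  rw [extFun_of_mem τ ha, extFun_of_mem τ (inv_mem ha), ← Subgroup.coe_inv, ← map_inv]
  rfl

theorem extFun_conj (τ : ↥S ≃* ↥S) {a b : G} (ha : a ∈ S) (hb : b ∈ S) :
    extFun τ (a * b * a⁻¹) = extFun τ a * extFun τ b * (extFun τ a)⁻¹ := by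
  rw [extFun_mul τ (mul_mem ha hb) (inv_mem ha), extFun_mul τ ha hb, extFun_inv τ ha]

theorem extFun_injOn (τ : ↥S ≃* ↥S) {a b : G} (ha : a ∈ S) (hb : b ∈ S)
    (h : extFun τ a = extFun τ b) : a = b := by
  rw [extFun_of_mem τ ha, extFun_of_mem τ hb] at h
  have := τ.injective (Subtype.ext h)
  exact congrArg Subtype.val this

/-- The image of the closure of a set of elements of the subgroup. -/
theorem extFun_closure (τ : ↥S ≃* ↥S) {X : Set G} (hX : X ⊆ S) {T : Subgroup G}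
    (h : ∀ x ∈ X, extFun τ x ∈ T) : ∀ g ∈ Subgroup.closure X, extFun τ g ∈ T := by
  have key : ∀ g ∈ Subgroup.closure X, g ∈ S ∧ extFun τ g ∈ T := by
    intro g hg
    induction hg using Subgroup.closure_induction with
    | mem x hx => exact ⟨hX hx, h x hx⟩
    | one => exact ⟨one_mem S, by rw [extFun_one]; exact one_mem T⟩
    | mul a b _ _ ha hb =>
      exact ⟨mul_mem ha.1 hb.1, by rw [extFun_mul τ ha.1 hb.1]; exact mul_mem ha.2 hb.2⟩
    | inv a _ ha => exact ⟨inv_mem ha.1, by rw [extFun_inv τ ha.1]; exact inv_mem ha.2⟩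
  exact fun g hg => (key g hg).2

/-- The subgroup of the fixed elements. -/
def fixSub (τ : ↥S ≃* ↥S) : Subgroup G where
  carrier := {g | g ∈ S ∧ extFun τ g = g}
  mul_mem' := by
    rintro a b ⟨ha, ea⟩ ⟨hb, eb⟩
    exact ⟨mul_mem ha hb, by rw [extFun_mul τ ha hb, ea, eb]⟩
  one_mem' := ⟨one_mem S, extFun_one τ⟩
  inv_mem' := by
    rintro a ⟨ha, ea⟩
    exact ⟨inv_mem ha, by rw [extFun_inv τ ha, ea]⟩

theorem mem_fixSub (τ : ↥S ≃* ↥S) {g : G} : g ∈ fixSub τ ↔ g ∈ S ∧ extFun τ g = g := Iff.rfl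

theorem fixSub_le (τ : ↥S ≃* ↥S) : fixSub τ ≤ S := fun _ h => h.1

end ext

variable {D : ChevalleyDatum} {K : Type*} [Field K]

/-- An automorphism of the Chevalley group that maps `x_r(t)` to `x_{ρ r}(f_r(t))`, where `ρ` is an involution of
the roots preserving the positive roots and the `f_r` are surjective endomorphisms of the field. -/
structure RootAut (D : ChevalleyDatum) (K : Type*) [Field K] (τ : ↥(D.group K) ≃* ↥(D.group K))
    (ρ : ℕ → ℕ) (f : ℕ → K →+* K) : Prop where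
  lt : ∀ r < D.nroots, ρ r < D.nroots
  invol : ∀ r < D.nroots, ρ (ρ r) = r
  pos : ∀ r < D.nroots, D.nroots / 2 ≤ r → D.nroots / 2 ≤ ρ r
  neg : ∀ r < D.nroots, ρ (D.neg r) = D.neg (ρ r)
  fneg : ∀ r < D.nroots, f (D.neg r) = f r
  surj : ∀ r < D.nroots, Function.Surjective (f r)
  map_x : ∀ (g : ↥(D.group K)) (r : ℕ) (t : K), r < D.nroots →
    ((g : GL D.Idx K) : Matrix D.Idx D.Idx K) = D.x K r t →
    ((τ g : GL D.Idx K) : Matrix D.Idx D.Idx K) = D.x K (ρ r) (f r t)

section rootAut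

variable (hG : Good2 D) (hT : T0 D) {τ : ↥(D.group K) ≃* ↥(D.group K)} {ρ : ℕ → ℕ} {f : ℕ → K →+* K}
  (hτ : RootAut D K τ ρ f)

include hG hτ in
theorem RootAut.map_xGL {r : ℕ} (hr : r < D.nroots) (t : K) :
    extFun τ (xGL hG.toGood1 hr t) = xGL hG.toGood1 (hτ.lt r hr) (f r t) := by
  have hG1 := hG.toGood1
  rw [extFun_of_mem τ (xGL_mem_group hG hr t)]
  apply Units.ext
  rw [hτ.map_x ⟨_, xGL_mem_group hG hr t⟩ r t hr (xGL_coe hG1 hr t), xGL_coe]

include hG hT hτ in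
theorem RootAut.neg_of_neg {r : ℕ} (hr : r < D.nroots) (h : r < D.nroots / 2) :
    ρ r < D.nroots / 2 := by
  have hG1 := hG.toGood1
  have hn := hG1.neg_lt hr
  have h1 : D.nroots / 2 ≤ D.neg r := neg_pos_of_neg hG hT hr h
  have h2 := hτ.pos _ hn h1
  rw [hτ.neg r hr] at h2
  by_contra hc
  rw [not_lt] at hc
  have := neg_neg_of_pos hG hT (hτ.lt r hr) hc
  omega

include hG hT hτ in
/-- The automorphism preserves `U`. -/
theorem RootAut.map_pos {g : GL D.Idx K} (hg : g ∈ D.posUnipotent K) :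
    extFun τ g ∈ D.posUnipotent K := by
  have hG1 := hG.toGood1
  refine extFun_closure τ ?_ ?_ g hg
  · rintro x ⟨r, t, hr, hx⟩
    rw [eq_xGL hG1 hr.1 hx]; exact xGL_mem_group hG hr.1 t
  · rintro x ⟨r, t, hr, hx⟩
    rw [eq_xGL hG1 hr.1 hx, hτ.map_xGL hG hr.1]
    apply Subgroup.subset_closure
    refine ⟨ρ r, f r t, (isPosRoot_iff hT (hτ.lt r hr.1)).mpr
      (hτ.pos r hr.1 ((isPosRoot_iff hT hr.1).mp hr)), xGL_coe hG1 _ _⟩

include hG hT hτ in
/-- The automorphism preserves `V`. -/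
theorem RootAut.map_neg {g : GL D.Idx K} (hg : g ∈ D.negUnipotent K) :
    extFun τ g ∈ D.negUnipotent K := by
  have hG1 := hG.toGood1
  refine extFun_closure τ ?_ ?_ g hg
  · rintro x ⟨r, t, hr, hx⟩
    rw [eq_xGL hG1 hr.1 hx]; exact xGL_mem_group hG hr.1 t
  · rintro x ⟨r, t, hr, hx⟩
    rw [eq_xGL hG1 hr.1 hx, hτ.map_xGL hG hr.1]
    apply Subgroup.subset_closure
    refine ⟨ρ r, f r t, (isNegRoot_iff hT (hτ.lt r hr.1)).mpr
      (hτ.neg_of_neg hG hT hr.1 ((isNegRoot_iff hT hr.1).mp hr)), xGL_coe hG1 _ _⟩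

include hG in
theorem phiHom_mem_group {r : ℕ} (hr : r < D.nroots) (g : Matrix.SpecialLinearGroup (Fin 2) K) :
    phiHom hG.toGood1 hr g ∈ D.group K := by
  have hG1 := hG.toGood1
  have h1 : phiHom hG1 hr g ∈ (phiHom hG1 hr (F := K)).range := ⟨g, rfl⟩
  rw [phiHom_range] at h1
  refine (sup_le ?_ ?_ : D.rootSubgroup K r ⊔ D.rootSubgroup K (D.neg r) ≤ D.group K) h1
  · intro x hx
    obtain ⟨t, rfl⟩ := mem_rootSubgroup hG1 hr hx
    exact xGL_mem_group hG hr t
  · intro x hx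
    obtain ⟨t, rfl⟩ := mem_rootSubgroup hG1 (hG1.neg_lt hr) hx
    exact xGL_mem_group hG (hG1.neg_lt hr) t

/-- The homomorphism of `SL₂` into the Chevalley group. -/
noncomputable def phiG {r : ℕ} (hr : r < D.nroots) :
    Matrix.SpecialLinearGroup (Fin 2) K →* ↥(D.group K) :=
  (phiHom hG.toGood1 hr).codRestrict (D.group K) (phiHom_mem_group hG hr)

theorem phiG_coe {r : ℕ} (hr : r < D.nroots) (g : Matrix.SpecialLinearGroup (Fin 2) K) :
    ((phiG hG hr g : ↥(D.group K)) : GL D.Idx K) = phiHom hG.toGood1 hr g := rfl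

include hτ in
/-- The automorphism carries `φ_r` to `φ_{ρ r}` composed with the endomorphism of the field. -/
theorem RootAut.map_phiHom {r : ℕ} (hr : r < D.nroots) (g : Matrix.SpecialLinearGroup (Fin 2) K) :
    extFun τ (phiHom hG.toGood1 hr g) =
      phiHom hG.toGood1 (hτ.lt r hr) (Matrix.SpecialLinearGroup.map (f r) g) := by
  have hG1 := hG.toGood1
  have key : τ.toMonoidHom.comp (phiG hG hr) =
      (phiG hG (hτ.lt r hr)).comp (Matrix.SpecialLinearGroup.map (f r)) := by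
    apply MonoidHom.eq_of_eqOn_dense (sl2_generated (F := K))
    rintro x (⟨t, rfl⟩ | ⟨t, rfl⟩)
    · apply Subtype.ext
      change ((τ (phiG hG hr (upperSL t)) : ↥(D.group K)) : GL D.Idx K) =
        phiHom hG1 (hτ.lt r hr) (Matrix.SpecialLinearGroup.map (f r) (upperSL t))
      rw [map_upperSL, phiHom_upper', ← extFun_coe, phiG_coe, phiHom_upper', hτ.map_xGL hG hr]
    · apply Subtype.ext
      change ((τ (phiG hG hr (lowerSL t)) : ↥(D.group K)) : GL D.Idx K) =
        phiHom hG1 (hτ.lt r hr) (Matrix.SpecialLinearGroup.map (f r) (lowerSL t))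
      rw [map_lowerSL, phiHom_lower', ← extFun_coe, phiG_coe, phiHom_lower',
        hτ.map_xGL hG (hG1.neg_lt hr), hτ.fneg r hr]
      exact xGL_congr' hG1 (hτ.neg r hr) _ _ _
  have := DFunLike.congr_fun key g
  have h2 := congrArg (fun z : ↥(D.group K) => (z : GL D.Idx K)) this
  simp only [MonoidHom.comp_apply] at h2
  rw [← phiG_coe hG hr g, extFun_coe]
  exact h2

end rootAut

end Cfsg.Agent.Helper7.Chev
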