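import Mathlib
import Cfsg.Agent.Helper7.ChevTw1
import Cfsg.Agent.Helper7.ChevPara
import Cfsg.Agent.Helper7.ChevWeyl

set_option autoImplicit false
set_option linter.unusedSectionVars false
set_option linter.unusedVariables false

/-!
Twisted groups, part 2: the elements `x_S(t)`, `x_{-S}(t)`, `n_S`, `h_S(a)` attached to a class `S` of fundamental
roots, and the twisted group generated by the `x_{±S}(t)`.
-/

namespace Cfsg.Agent.Helper7.Chev

open Cfsg Cfsg.Lie Matrix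

variable {D : ChevalleyDatum} {K : Type*} [Field K]

/-- The admissible parameters of a class of length `m`. -/
def Adm (f : K ≃+* K) (m : ℕ) (t : K) : Prop := (((f : K →+* K)) ^ m) t = t

theorem Adm.neg {f : K ≃+* K} {m : ℕ} {t : K} (h : Adm f m t) : Adm f m (-t) := by
  unfold Adm at h ⊢
  rw [map_neg, h]

theorem Adm.inv {f : K ≃+* K} {m : ℕ} {t : K} (h : Adm f m t) : Adm f m t⁻¹ := by
  unfold Adm at h ⊢
  rw [map_inv₀, h]

theorem Adm.one {f : K ≃+* K} {m : ℕ} : Adm f m (1 : K) := by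
  unfold Adm
  rw [map_one]

theorem Adm.zero {f : K ≃+* K} {m : ℕ} : Adm f m (0 : K) := by
  unfold Adm
  rw [map_zero]

theorem Adm.add {f : K ≃+* K} {m : ℕ} {t u : K} (h : Adm f m t) (h' : Adm f m u) : Adm f m (t + u) := by
  unfold Adm at h h' ⊢
  rw [map_add, h, h']

theorem Adm.mul {f : K ≃+* K} {m : ℕ} {t u : K} (h : Adm f m t) (h' : Adm f m u) : Adm f m (t * u) := by
  unfold Adm at h h' ⊢
  rw [map_mul, h, h']

section elements

variable (hG : Good2 D) (h3 : (tabOf D).T3) (h4 : (tabOf D).T4 60)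
  {ρ ρ' σ σ' : ℕ → ℕ} {ε : ℕ → ℤ} (h18 : T18 D ρ ρ' σ σ' ε) {cls : List (ℕ × ℕ)}
  (h19 : T19 D ρ σ cls) (f : K ≃+* K)

/-- The generators of the twisted group. -/
def twGen : Set (GL D.Idx K) :=
  {g | ∃ (c : ℕ × ℕ) (hc : c ∈ cls) (t : K), Adm f c.2 t ∧
    (g = clsHom hG h3 h4 h19 f hc (upperSL t) ∨ g = clsHom hG h3 h4 h19 f hc (lowerSL t))}

/-- The twisted group. -/
def twGroup : Subgroup (GL D.Idx K) := Subgroup.closure (twGen hG h3 h4 h19 f)

theorem map_upperSL_of_adm {m : ℕ} {t : K} (ht : Adm f m t) :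
    Matrix.SpecialLinearGroup.map (((f : K →+* K)) ^ m) (upperSL t) = upperSL t := by
  rw [map_upperSL, ht]

theorem map_lowerSL_of_adm {m : ℕ} {t : K} (ht : Adm f m t) :
    Matrix.SpecialLinearGroup.map (((f : K →+* K)) ^ m) (lowerSL t) = lowerSL t := by
  rw [map_lowerSL, ht]

include h18 in
/-- The twisted group consists of fixed points of the twisting automorphism. -/
theorem twGroup_le_twFix : twGroup hG h3 h4 h19 f ≤ twFix h18 f := by
  unfold twGroup
  rw [Subgroup.closure_le]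
  rintro g ⟨c, hc, t, ht, rfl | rfl⟩
  · exact twAut_clsHom hG h3 h4 h18 h19 f hc (map_upperSL_of_adm f ht)
  · exact twAut_clsHom hG h3 h4 h18 h19 f hc (map_lowerSL_of_adm f ht)

theorem upper_mem_twGroup {c : ℕ × ℕ} (hc : c ∈ cls) {t : K} (ht : Adm f c.2 t) :
    clsHom hG h3 h4 h19 f hc (upperSL t) ∈ twGroup hG h3 h4 h19 f :=
  Subgroup.subset_closure ⟨c, hc, t, ht, Or.inl rfl⟩

theorem lower_mem_twGroup {c : ℕ × ℕ} (hc : c ∈ cls) {t : K} (ht : Adm f c.2 t) :
    clsHom hG h3 h4 h19 f hc (lowerSL t) ∈ twGroup hG h3 h4 h19 f :=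
  Subgroup.subset_closure ⟨c, hc, t, ht, Or.inr rfl⟩

theorem diagSL_mul_antiSL {a : K} (ha : a ≠ 0) :
    diagSL a ha * antiSL = upperSL a * lowerSL (-a⁻¹) * upperSL a := by
  apply Subtype.ext
  rw [Matrix.SpecialLinearGroup.coe_mul, Matrix.SpecialLinearGroup.coe_mul,
    Matrix.SpecialLinearGroup.coe_mul]
  change !![a, 0; 0, a⁻¹] * !![0, 1; -1, 0] = !![1, a; 0, 1] * !![1, 0; -a⁻¹, 1] * !![1, a; 0, 1]
  ext i j
  fin_cases i <;> fin_cases j <;> simp [Matrix.mul_apply, Fin.sum_univ_two, ha]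

theorem antiSL_eq : (antiSL : Matrix.SpecialLinearGroup (Fin 2) K) =
    upperSL 1 * lowerSL (-1) * upperSL 1 := by
  apply Subtype.ext
  rw [Matrix.SpecialLinearGroup.coe_mul, Matrix.SpecialLinearGroup.coe_mul]
  change !![0, 1; -1, 0] = !![1, 1; 0, 1] * !![1, 0; -1, 1] * !![1, (1 : K); 0, 1]
  ext i j
  fin_cases i <;> fin_cases j <;> simp [Matrix.mul_apply, Fin.sum_univ_two]

/-- `n_S` lies in the twisted group. -/
theorem anti_mem_twGroup {c : ℕ × ℕ} (hc : c ∈ cls) :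
    clsHom hG h3 h4 h19 f hc antiSL ∈ twGroup hG h3 h4 h19 f := by
  rw [antiSL_eq, map_mul, map_mul]
  exact mul_mem (mul_mem (upper_mem_twGroup hG h3 h4 h19 f hc Adm.one)
    (lower_mem_twGroup hG h3 h4 h19 f hc Adm.one.neg)) (upper_mem_twGroup hG h3 h4 h19 f hc Adm.one)

/-- `h_S(a)` lies in the twisted group. -/
theorem diag_mem_twGroup {c : ℕ × ℕ} (hc : c ∈ cls) {a : K} (ha : a ≠ 0) (hadm : Adm f c.2 a) :
    clsHom hG h3 h4 h19 f hc (diagSL a ha) ∈ twGroup hG h3 h4 h19 f := by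
  have e : diagSL a ha = (upperSL a * lowerSL (-a⁻¹) * upperSL a) * antiSL⁻¹ := by
    rw [← diagSL_mul_antiSL ha]; group
  rw [e, map_mul, map_mul, map_mul, map_inv]
  exact mul_mem (mul_mem (mul_mem (upper_mem_twGroup hG h3 h4 h19 f hc hadm)
    (lower_mem_twGroup hG h3 h4 h19 f hc hadm.inv.neg)) (upper_mem_twGroup hG h3 h4 h19 f hc hadm))
    (inv_mem (anti_mem_twGroup hG h3 h4 h19 f hc))

end elements

end Cfsg.Agent.Helper7.Chev
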