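import Mathlib
import Cfsg.Agent.Helper7.ChevTw2
import Cfsg.Agent.Helper7.ChevMinus

set_option autoImplicit false
set_option linter.unusedSectionVars false
set_option linter.unusedVariables false

/-!
Twisted groups, part 3: for a class `S` of fundamental roots, the decomposition `U = U_S X_S` where `U_S` is generated
by the root subgroups of the positive roots outside `S`.
-/

namespace Cfsg.Agent.Helper7.Chev

open Cfsg Cfsg.Lie Matrix

variable {D : ChevalleyDatum} {K : Type*} [Field K]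

/-- The root belongs to the class. -/
def InCls (D : ChevalleyDatum) (ρ : ℕ → ℕ) (c : ℕ × ℕ) (r : ℕ) : Prop :=
  ∃ j < c.2, r = clsRoot D ρ c.1 j

instance (D : ChevalleyDatum) (ρ : ℕ → ℕ) (c : ℕ × ℕ) : DecidablePred (InCls D ρ c) := by
  intro r; unfold InCls; infer_instance

namespace Tab

variable (T : Tab)

/-- The root belongs to the class (in terms of the tables). -/
def inCls (ρ : ℕ → ℕ) (c : ℕ × ℕ) (r : ℕ) : Bool :=
  (List.range c.2).any fun j => decide (r = T.simple (ρ^[j] c.1))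

/-- All roots of the commutator terms of `(r, s)` are positive and outside the class. -/
def termsOut (ρ : ℕ → ℕ) (c : ℕ × ℕ) (r s : ℕ) : Bool :=
  (T.commTerms r s).all fun q => decide (T.n / 2 ≤ q.1) && !T.inCls ρ c q.1 && decide (q.1 < T.n)

/-- Table facts on the commutator terms with respect to the classes. -/
def T20 (ρ : ℕ → ℕ) (cls : List (ℕ × ℕ)) : Prop :=
  ∀ c ∈ cls,
    AllLt T.n (fun s => T.n / 2 ≤ s → T.inCls ρ c s = false →
      (List.range c.2).all (fun j => T.termsOut ρ c (T.simple (ρ^[j] c.1)) s &&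
        T.termsOut ρ c (T.neg (T.simple (ρ^[j] c.1))) s) = true) ∧
    AllLt T.n (fun r => T.n / 2 ≤ r → T.inCls ρ c r = false →
      AllLt T.n (fun s => r < s → T.inCls ρ c s = false → T.termsOut ρ c r s = true)) ∧
    (List.range c.2).all (fun j =>
      allLtB T.n (fun r => decide (T.n / 2 ≤ r → r ≠ T.simple (ρ^[j] c.1) →
        allLtB T.n (fun s => decide (r < s → s ≠ T.simple (ρ^[j] c.1) →
          (T.commTerms r s).all (fun q => decide (q.1 ≠ T.simple (ρ^[j] c.1))) = true)) = true))) = true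

instance (ρ : ℕ → ℕ) (cls : List (ℕ × ℕ)) : Decidable (T.T20 ρ cls) := by
  unfold T20; infer_instance

end Tab

theorem inCls_iff (ρ : ℕ → ℕ) (c : ℕ × ℕ) (r : ℕ) :
    (tabOf D).inCls ρ c r = true ↔ InCls D ρ c r := by
  unfold Tab.inCls InCls clsRoot
  rw [List.any_eq_true]
  constructor
  · rintro ⟨j, hj, h⟩
    exact ⟨j, List.mem_range.mp hj, of_decide_eq_true h⟩
  · rintro ⟨j, hj, h⟩
    exact ⟨j, List.mem_range.mpr hj, decide_eq_true h⟩

theorem inCls_false_iff (ρ : ℕ → ℕ) (c : ℕ × ℕ) (r : ℕ) :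
    (tabOf D).inCls ρ c r = false ↔ ¬ InCls D ρ c r := by
  rw [← inCls_iff, Bool.not_eq_true]

/-- The generators of `U_S`. -/
def upGenS (D : ChevalleyDatum) (K : Type*) [Field K] (S : ℕ → Prop) : Set (GL D.Idx K) :=
  {g | ∃ (s : ℕ) (t : K), D.IsPosRoot s ∧ ¬ S s ∧ (g : Matrix D.Idx D.Idx K) = D.x K s t}

section upS

variable (hG : Good2 D) (hT : T0 D) (h3 : (tabOf D).T3) (h4 : (tabOf D).T4 60) (h5 : (tabOf D).T5)
  (h6 : (tabOf D).T6)
  {ρ ρ' σ σ' : ℕ → ℕ} {ε : ℕ → ℤ} (h18 : T18 D ρ ρ' σ σ' ε) {cls : List (ℕ × ℕ)}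
  (h19 : T19 D ρ σ cls) (h20 : (tabOf D).T20 ρ cls)

include hG hT in
theorem wordGL_mem_upS {S : ℕ → Prop} (w : List (ℕ × K))
    (hw : ∀ q ∈ w, D.nroots / 2 ≤ q.1 ∧ ¬ S q.1 ∧ q.1 < D.nroots) :
    (w.map (xGL' hG.toGood1)).prod ∈ Subgroup.closure (upGenS D K S) := by
  apply Subgroup.list_prod_mem
  intro x hx
  rw [List.mem_map] at hx
  obtain ⟨q, hq, rfl⟩ := hx
  obtain ⟨h1, h2, h3⟩ := hw q hq
  apply Subgroup.subset_closure
  exact ⟨q.1, q.2, (isPosRoot_iff hT h3).mpr h1, h2, xGL'_coe _ q⟩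

include hG hT h3 h4 in
theorem conj_mem_upS {c : ℕ × ℕ} {r s : ℕ} (hr : r < D.nroots) (hs : s < D.nroots) (hsr : s ≠ r)
    (hsn : s ≠ D.neg r) (hspos : D.IsPosRoot s) (hsp : ¬ InCls D ρ c s)
    (hterms : (tabOf D).termsOut ρ c r s = true) (t u : K) :
    (xGL hG.toGood1 hr t)⁻¹ * xGL hG.toGood1 hs u * xGL hG.toGood1 hr t ∈
      Subgroup.closure (upGenS D K (InCls D ρ c)) := by
  have hG1 := hG.toGood1
  have hc := comm_all (F := K) hG h3 h4 hr hs hsr hsn t u
  have hw : ∀ q ∈ D.commWord K r s t u,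
      D.nroots / 2 ≤ q.1 ∧ ¬ InCls D ρ c q.1 ∧ q.1 < D.nroots := by
    intro q hq
    unfold ChevalleyDatum.commWord at hq
    rw [List.mem_map] at hq
    obtain ⟨c', hc', rfl⟩ := hq
    unfold Tab.termsOut at hterms
    rw [List.all_eq_true] at hterms
    rw [← commTerms_eq] at hc'
    have := hterms c' hc'
    rw [Bool.and_eq_true, Bool.and_eq_true, decide_eq_true_eq, decide_eq_true_eq,
      Bool.not_eq_true', inCls_false_iff] at this
    exact ⟨this.1.1, this.1.2, this.2⟩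
  have e : (xGL hG1 hr t)⁻¹ * xGL hG1 hs u * xGL hG1 hr t =
      xGL hG1 hs u * ((D.commWord K r s t u).map (xGL' hG1)).prod := by
    rw [mul_assoc, inv_mul_eq_iff_eq_mul]
    apply Units.ext
    rw [Units.val_mul, Units.val_mul, Units.val_mul, xGL_coe, xGL_coe, wordGL_coe, hc, mul_assoc]
  rw [e]
  apply mul_mem
  · apply Subgroup.subset_closure
    exact ⟨s, u, hspos, hsp, xGL_coe hG1 hs u⟩
  · exact wordGL_mem_upS hG hT _ hw

include hG hT h3 h4 h5 h19 h20 in
/-- `X_p` and `X_{-p}` normalise `U_S` for every root `p` of the class `S`. -/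
theorem xGL_mem_normalizer_upS {c : ℕ × ℕ} (hc : c ∈ cls) {j : ℕ} (hj : j < c.2) {r : ℕ}
    (hr : r < D.nroots) (hrp : r = clsRoot D ρ c.1 j ∨ r = D.neg (clsRoot D ρ c.1 j)) (t : K) :
    xGL hG.toGood1 hr t ∈
      Subgroup.normalizer (Subgroup.closure (upGenS D K (InCls D ρ c)) : Set (GL D.Idx K)) := by
  have hG1 := hG.toGood1
  obtain ⟨_, _, hlt⟩ := h19.orbit c hc
  have hi := hlt j hj
  have hp : clsRoot D ρ c.1 j < D.nroots := hG1.simple_lt hi
  have hppos : D.nroots / 2 ≤ clsRoot D ρ c.1 j := simple_pos hG1 hT hi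
  have hpin : InCls D ρ c (clsRoot D ρ c.1 j) := ⟨j, hj, rfl⟩
  obtain ⟨h20a, _, _⟩ := h20 c hc
  have hcase : ∀ s : ℕ, D.IsPosRoot s → ¬ InCls D ρ c s →
      s ≠ r ∧ s ≠ D.neg r ∧ (tabOf D).termsOut ρ c r s = true := by
    intro s hspos hsp
    have hs := hspos.1
    have hs2 := (isPosRoot_iff hT hs).mp hspos
    have hne : s ≠ clsRoot D ρ c.1 j := fun h => hsp (h ▸ hpin)
    have hall := h20a s hs hs2 ((inCls_false_iff ρ c s).mpr hsp)
    rw [List.all_eq_true] at hall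
    have hj' := hall j (List.mem_range.mpr hj)
    rw [Bool.and_eq_true] at hj'
    have hnneg : D.neg (clsRoot D ρ c.1 j) < D.nroots / 2 := neg_neg_of_pos hG hT hp hppos
    rcases hrp with rfl | rfl
    · refine ⟨hne, ?_, hj'.1⟩
      intro h; rw [h] at hs2; omega
    · refine ⟨?_, ?_, hj'.2⟩
      · intro h; rw [h] at hs2; omega
      · rw [hG1.neg_neg hp]; exact hne
  apply mem_normalizer_closure
  · rintro x ⟨s, u, hspos, hsp, hx⟩
    obtain ⟨c1, c2, c3⟩ := hcase s hspos hsp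
    have hs := hspos.1
    rw [eq_xGL hG1 hs hx]
    have := conj_mem_upS hG hT h3 h4 hr hs c1 c2 hspos hsp c3 (-t) u
    rwa [← xGL_inv, inv_inv] at this
  · rintro x ⟨s, u, hspos, hsp, hx⟩
    obtain ⟨c1, c2, c3⟩ := hcase s hspos hsp
    have hs := hspos.1
    rw [eq_xGL hG1 hs hx]
    exact conj_mem_upS hG hT h3 h4 hr hs c1 c2 hspos hsp c3 t u

include hG hT h6 h19 in
/-- `n_p` normalises `U_S` for every root `p` of the class `S`. -/
theorem nGL_mem_normalizer_upS {c : ℕ × ℕ} (hc : c ∈ cls) {j : ℕ} (hj : j < c.2)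
    (hi : ρ^[j] c.1 < D.rank) :
    nGL hG.toGood1 (hG.toGood1.simple_lt hi) ∈
      Subgroup.normalizer (Subgroup.closure (upGenS D K (InCls D ρ c)) : Set (GL D.Idx K)) := by
  have hG1 := hG.toGood1
  have hp := hG1.simple_lt hi
  obtain ⟨_, _, hlt⟩ := h19.orbit c hc
  have hmove : ∀ s : ℕ, D.IsPosRoot s → ¬ InCls D ρ c s →
      D.IsPosRoot ((tabOf D).refl (D.simple (ρ^[j] c.1)) s) ∧
        ¬ InCls D ρ c ((tabOf D).refl (D.simple (ρ^[j] c.1)) s) := by
    intro s hspos hsp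
    have hs := hspos.1
    have hs2 := (isPosRoot_iff hT hs).mp hspos
    have hne : s ≠ D.simple (ρ^[j] c.1) := fun h => hsp ⟨j, hj, h⟩
    obtain ⟨k1, k2⟩ := h6 _ hi s hs hs2 hne
    refine ⟨(isPosRoot_iff hT (hG.refl_lt hi hs)).mpr k1, ?_⟩
    rintro ⟨k, hk, hk'⟩
    apply hsp
    have hrr := hG.refl_refl hi hs
    by_cases hkj : k = j
    · subst hkj
      exact absurd hk' k2
    · have := (h19.ortho c hc j hj k hk (Ne.symm hkj)).2
      refine ⟨k, hk, ?_⟩
      rw [← hrr]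
      rw [hk']
      exact this
  apply mem_normalizer_closure
  · rintro x ⟨s, u, hspos, hsp, hx⟩
    have hs := hspos.1
    obtain ⟨m1, m2⟩ := hmove s hspos hsp
    have hws := hG.refl_lt hi hs
    have : nGL hG1 hp * x * (nGL hG1 hp)⁻¹ =
        xGL hG1 hws ((((tabOf D).eta (D.simple (ρ^[j] c.1)) s : ℤ) : K) * u) := by
      rw [mul_inv_eq_iff_eq_mul]
      apply Units.ext
      rw [Units.val_mul, Units.val_mul, nGL_coe, hx, xGL_coe, nMat_mul_x hG hi hs]
    rw [this]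
    exact Subgroup.subset_closure ⟨_, _, m1, m2, xGL_coe hG1 hws _⟩
  · rintro x ⟨s, u, hspos, hsp, hx⟩
    have hs := hspos.1
    obtain ⟨m1, m2⟩ := hmove s hspos hsp
    have hws := hG.refl_lt hi hs
    have hη := eta_sq hG1 hp hws
    have : (nGL hG1 hp)⁻¹ * x * nGL hG1 hp =
        xGL hG1 hws ((((tabOf D).eta (D.simple (ρ^[j] c.1))
          ((tabOf D).refl (D.simple (ρ^[j] c.1)) s) : ℤ) : K) * u) := by
      rw [mul_assoc, inv_mul_eq_iff_eq_mul]
      apply Units.ext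
      rw [Units.val_mul, Units.val_mul, nGL_coe, hx, xGL_coe, nMat_mul_x hG hi hws,
        hG.refl_refl hi hs, ← mul_assoc, ← Int.cast_mul, hη, Int.cast_one, one_mul]
    rw [this]
    exact Subgroup.subset_closure ⟨_, _, m1, m2, xGL_coe hG1 hws _⟩

end upS

end Cfsg.Agent.Helper7.Chev
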