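import Mathlib
import Cfsg.Agent.Helper7.ChevTw3

set_option autoImplicit false
set_option linter.unusedSectionVars false
set_option linter.unusedVariables false

/-!
Twisted groups, part 4: uniqueness of the decomposition `U = U_S X_S` and the fixed points of the twisting
automorphism in `U`.
-/

namespace Cfsg.Agent.Helper7.Chev

open Cfsg Cfsg.Lie Matrix

variable {D : ChevalleyDatum} {K : Type*} [Field K]

section disjoint

variable (hG : Good2 D) (hT : T0 D) (h3 : (tabOf D).T3) (h4 : (tabOf D).T4 60) (h7 : (tabOf D).T7)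
  (h8 : (tabOf D).T8)

include hG hT h3 h4 h7 h8 in
/-- The subgroups generated by the root subgroups of two disjoint closed sets of positive roots meet trivially. -/
theorem UgeS_inf_eq_bot {Ψ₁ Ψ₂ : ℕ → Prop} (h₁ : ClosedSet D Ψ₁) (h₂ : ClosedSet D Ψ₂)
    (hd : ∀ r, Ψ₁ r → Ψ₂ r → False) :
    UgeS D K Ψ₁ (D.nroots / 2) ⊓ UgeS D K Ψ₂ (D.nroots / 2) = ⊥ := by
  rw [eq_bot_iff]
  rintro g ⟨hg1, hg2⟩
  rw [Subgroup.mem_bot]
  have hle : D.nroots / 2 ≤ D.nroots := Nat.div_le_self _ _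
  set j := D.nroots - D.nroots / 2 with hj
  obtain ⟨t, ht0, ht⟩ := UgeS_word hG hT h3 h4 h7 h₁ j (D.nroots / 2) (by omega) le_rfl g hg1
  obtain ⟨t', ht'0, ht'⟩ := UgeS_word hG hT h3 h4 h7 h₂ j (D.nroots / 2) (by omega) le_rfl g hg2
  have huniq := word_unique hG hT h8 j (D.nroots / 2) (by omega) le_rfl t t' (by rw [← ht, ← ht'])
  have hzero : ∀ r ∈ List.range' (D.nroots / 2) j, t r = 0 := by
    intro r hr
    by_cases h1 : Ψ₁ r
    · rw [huniq r hr]
      exact ht'0 r (fun h2 => hd r h1 h2)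
    · exact ht0 r h1
  apply Units.ext
  rw [ht, Units.val_one]
  have : ((List.range' (D.nroots / 2) j).map fun r => (r, t r)) =
      (List.range' (D.nroots / 2) j).map fun r => (r, (0 : K)) := by
    apply List.map_congr_left
    intro r hr
    rw [hzero r hr]
  rw [this]
  unfold ChevalleyDatum.wordMat
  rw [List.map_map]
  apply List.prod_eq_one
  intro x hx
  rw [List.mem_map] at hx
  obtain ⟨r, hr, rfl⟩ := hx
  rw [List.mem_range'_1] at hr
  simp only [Function.comp_apply]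
  have hr' : r < D.nroots := by omega
  rw [← xGL_coe hG.toGood1 hr', xGL_zero, Units.val_one]

include hT in
theorem closure_upGenS_eq (S : ℕ → Prop) :
    Subgroup.closure (upGenS D K S) = UgeS D K (fun r => ¬ S r) (D.nroots / 2) := by
  unfold UgeS
  congr 1
  ext g
  constructor
  · rintro ⟨s, t, hspos, hsS, hg⟩
    exact ⟨s, t, (isPosRoot_iff hT hspos.1).mp hspos, hspos.1, hsS, hg⟩
  · rintro ⟨s, t, h1, h2, hsS, hg⟩
    exact ⟨s, t, (isPosRoot_iff hT h2).mpr h1, hsS, hg⟩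

end disjoint

/-! ### The product of the root subgroups of a class -/

section xi

variable (hG : Good2 D) (hT : T0 D) (h3 : (tabOf D).T3) (h4 : (tabOf D).T4 60) (h5 : (tabOf D).T5)
  (h6 : (tabOf D).T6) (h7 : (tabOf D).T7) (h8 : (tabOf D).T8)
  {ρ ρ' σ σ' : ℕ → ℕ} {ε : ℕ → ℤ} (h18 : T18 D ρ ρ' σ σ' ε) {cls : List (ℕ × ℕ)}
  (h19 : T19 D ρ σ cls) (h20 : (tabOf D).T20 ρ cls)

theorem xGL'_zero (hG1 : Good1 D) (r : ℕ) : xGL' hG1 (r, (0 : K)) = 1 := by
  unfold xGL'
  split_ifs with h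
  · exact xGL_zero hG1 h
  · rfl

theorem xGL'_add (hG1 : Good1 D) (r : ℕ) (a b : K) :
    xGL' hG1 (r, a + b) = xGL' hG1 (r, a) * xGL' hG1 (r, b) := by
  unfold xGL'
  split_ifs with h
  · exact (xGL_mul hG1 h a b).symm
  · rw [one_mul]

theorem xGL'_of_lt (hG1 : Good1 D) {r : ℕ} (hr : r < D.nroots) (a : K) :
    xGL' hG1 (r, a) = xGL hG1 hr a := by
  unfold xGL'
  rw [dif_pos hr]

/-- The `j`-th coordinate homomorphism `a ↦ x_{p_j}(a_j)`. -/
noncomputable def xiFactor (hG1 : Good1 D) (ρ : ℕ → ℕ) (i j : ℕ) :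
    Multiplicative (ℕ → K) →* GL D.Idx K where
  toFun a := xGL' hG1 (clsRoot D ρ i j, (Multiplicative.toAdd a) j)
  map_one' := xGL'_zero hG1 _
  map_mul' a b := xGL'_add hG1 _ _ _

include hG h3 h4 h19 in
theorem xiFactor_commute {c : ℕ × ℕ} (hc : c ∈ cls) {j k : ℕ} (hj : j < c.2) (hk : k < c.2)
    (hjk : j ≠ k) (a b : Multiplicative (ℕ → K)) :
    Commute (xiFactor hG.toGood1 ρ c.1 j a) (xiFactor hG.toGood1 ρ c.1 k b) := by
  have hG1 := hG.toGood1
  obtain ⟨_, _, hlt⟩ := h19.orbit c hc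
  have hpj : clsRoot D ρ c.1 j < D.nroots := hG1.simple_lt (hlt j hj)
  have hpk : clsRoot D ρ c.1 k < D.nroots := hG1.simple_lt (hlt k hk)
  have ho := (h19.ortho c hc j hj k hk hjk).1
  change Commute (xGL' hG1 (clsRoot D ρ c.1 j, _)) (xGL' hG1 (clsRoot D ρ c.1 k, _))
  rw [xGL'_of_lt hG1 hpj, xGL'_of_lt hG1 hpk]
  exact xGL_commute_of_terms_nil hG h3 h4 hpj hpk ho.ne1.symm ho.ne3 ho.t1 _ _

include hG h3 h4 h19 in
theorem xiList_pairwise {c : ℕ × ℕ} (hc : c ∈ cls) :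
    ((List.range c.2).map (xiFactor (K := K) hG.toGood1 ρ c.1)).Pairwise
      fun φ ψ => ∀ x y, Commute (φ x) (ψ y) := by
  rw [List.pairwise_map]
  have h := List.pairwise_lt_range (n := c.2)
  have h' : (List.range c.2).Pairwise fun a b => a < c.2 ∧ b < c.2 ∧ a ≠ b := by
    rw [List.pairwise_iff_getElem] at h ⊢
    intro i j hi hj hij
    have := h i j hi hj hij
    simp only [List.getElem_range] at this ⊢
    simp only [List.length_range] at hi hj
    exact ⟨hi, hj, by omega⟩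
  exact h'.imp fun {a b} hab x y => xiFactor_commute hG h3 h4 h19 hc hab.1 hab.2.1 hab.2.2 x y

/-- The homomorphism `a ↦ ∏_j x_{p_j}(a_j)` of a class. -/
noncomputable def xiHom {c : ℕ × ℕ} (hc : c ∈ cls) : Multiplicative (ℕ → K) →* GL D.Idx K :=
  listHom _ (xiList_pairwise hG h3 h4 h19 hc)

theorem xiHom_apply {c : ℕ × ℕ} (hc : c ∈ cls) (a : Multiplicative (ℕ → K)) :
    xiHom hG h3 h4 h19 hc a =
      ((List.range c.2).map fun j =>
        xGL' hG.toGood1 (clsRoot D ρ c.1 j, (Multiplicative.toAdd a) j)).prod := by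
  change listHomFun _ a = _
  unfold listHomFun
  rw [List.map_map]
  rfl

include h19 in
/-- The value at a tuple with a single non-zero coordinate. -/
theorem xiHom_single {c : ℕ × ℕ} (hc : c ∈ cls) {k : ℕ} (hk : k < c.2) (t : K) :
    xiHom hG h3 h4 h19 hc (Multiplicative.ofAdd (Pi.single k t)) =
      xGL' hG.toGood1 (clsRoot D ρ c.1 k, t) := by
  rw [xiHom_apply]
  rw [List.prod_map_eq_pow_single k]
  · rw [List.count_eq_one_of_mem (List.nodup_range) (List.mem_range.mpr hk), pow_one]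
    simp
  · intro j hjk _
    simp only [toAdd_ofAdd, Pi.single_apply, if_neg hjk]
    exact xGL'_zero _ _

/-- The values of the class homomorphism from `SL₂` on the upper unitriangular matrices. -/
theorem clsHom_upper (f : K ≃+* K) {c : ℕ × ℕ} (hc : c ∈ cls) (t : K) :
    clsHom hG h3 h4 h19 f hc (upperSL t) =
      xiHom hG h3 h4 h19 hc (Multiplicative.ofAdd fun j => (((f : K →+* K)) ^ j) t) := by
  have hG1 := hG.toGood1
  obtain ⟨_, _, hlt⟩ := h19.orbit c hc
  rw [clsHom_apply, xiHom_apply]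
  congr 1
  apply List.map_congr_left
  intro j hj
  rw [List.mem_range] at hj
  have hp : clsRoot D ρ c.1 j < D.nroots := hG1.simple_lt (hlt j hj)
  unfold clsFactor
  rw [MonoidHom.comp_apply, phiS_of_lt hG1 (hlt j hj), map_upperSL, phiHom_upper', toAdd_ofAdd,
    xGL'_of_lt hG1 hp]
  rfl

end xi

/-! ### The decomposition `U = U_S X_S` -/

section decomp

variable (hG : Good2 D) (hT : T0 D) (h3 : (tabOf D).T3) (h4 : (tabOf D).T4 60) (h5 : (tabOf D).T5)
  (h6 : (tabOf D).T6) (h7 : (tabOf D).T7) (h8 : (tabOf D).T8)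
  {ρ ρ' σ σ' : ℕ → ℕ} {ε : ℕ → ℤ} (h18 : T18 D ρ ρ' σ σ' ε) {cls : List (ℕ × ℕ)}
  (h19 : T19 D ρ σ cls) (h20 : (tabOf D).T20 ρ cls)

include hT h5 h20 in
/-- The image of the class homomorphism normalises `U_S`. -/
theorem xiHom_mem_normalizer {c : ℕ × ℕ} (hc : c ∈ cls) (a : Multiplicative (ℕ → K)) :
    xiHom hG h3 h4 h19 hc a ∈
      Subgroup.normalizer (Subgroup.closure (upGenS D K (InCls D ρ c)) : Set (GL D.Idx K)) := by
  have hG1 := hG.toGood1
  obtain ⟨_, _, hlt⟩ := h19.orbit c hc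
  rw [xiHom_apply]
  apply Subgroup.list_prod_mem
  intro x hx
  rw [List.mem_map] at hx
  obtain ⟨j, hj, rfl⟩ := hx
  rw [List.mem_range] at hj
  have hp : clsRoot D ρ c.1 j < D.nroots := hG1.simple_lt (hlt j hj)
  rw [xGL'_of_lt hG1 hp]
  exact xGL_mem_normalizer_upS hG hT h3 h4 h5 h19 h20 hc hj hp (Or.inl rfl) _

include hT h5 h20 in
/-- Every element of `U` is an element of `U_S` times an element of `X_S`. -/
theorem exists_upS_mul_xi {c : ℕ × ℕ} (hc : c ∈ cls) {u : GL D.Idx K} (hu : u ∈ D.posUnipotent K) :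
    ∃ u' ∈ Subgroup.closure (upGenS D K (InCls D ρ c)), ∃ a : Multiplicative (ℕ → K),
      u = u' * xiHom hG h3 h4 h19 hc a := by
  have hG1 := hG.toGood1
  obtain ⟨_, _, hlt⟩ := h19.orbit c hc
  have hnorm : (xiHom hG h3 h4 h19 hc (K := K)).range ≤
      Subgroup.normalizer (Subgroup.closure (upGenS D K (InCls D ρ c)) : Set (GL D.Idx K)) := by
    rintro _ ⟨a, rfl⟩
    exact xiHom_mem_normalizer hG hT h3 h4 h5 h19 h20 hc a
  have hmul := Subgroup.coe_mul_of_right_le_normalizer_left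
    (Subgroup.closure (upGenS D K (InCls D ρ c))) (xiHom hG h3 h4 h19 hc (K := K)).range hnorm
  have hle : D.posUnipotent K ≤
      Subgroup.closure (upGenS D K (InCls D ρ c)) ⊔ (xiHom hG h3 h4 h19 hc (K := K)).range := by
    unfold ChevalleyDatum.posUnipotent
    rw [Subgroup.closure_le]
    rintro g ⟨s, t, hs, hg⟩
    by_cases hsS : InCls D ρ c s
    · obtain ⟨k, hk, rfl⟩ := hsS
      apply Subgroup.mem_sup_right
      refine ⟨Multiplicative.ofAdd (Pi.single k t), ?_⟩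
      rw [xiHom_single hG h3 h4 h19 hc hk, xGL'_of_lt hG1 hs.1]
      exact (eq_xGL hG1 hs.1 hg).symm
    · apply Subgroup.mem_sup_left
      exact Subgroup.subset_closure ⟨s, t, hs, hsS, hg⟩
  have hu' : u ∈ ((Subgroup.closure (upGenS D K (InCls D ρ c)) ⊔
      (xiHom hG h3 h4 h19 hc (K := K)).range : Subgroup (GL D.Idx K)) : Set (GL D.Idx K)) := hle hu
  rw [hmul] at hu'
  obtain ⟨u', hu', x, ⟨a, rfl⟩, rfl⟩ := hu'
  exact ⟨u', hu', a, rfl⟩

include hG h19 h20 in
theorem closedSet_not_inCls {c : ℕ × ℕ} (hc : c ∈ cls) : ClosedSet D (fun r => ¬ InCls D ρ c r) := by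
  intro r s hr hrs hs hrS hsS q hq
  obtain ⟨_, h20b, _⟩ := h20 c hc
  have h := h20b r (lt_trans hrs hs : r < D.nroots) hr ((inCls_false_iff ρ c r).mpr hrS) s hs hrs
    ((inCls_false_iff ρ c s).mpr hsS)
  unfold Tab.termsOut at h
  rw [List.all_eq_true] at h
  have := h q hq
  rw [Bool.and_eq_true, Bool.and_eq_true, Bool.not_eq_true', inCls_false_iff] at this
  exact this.1.2

include hG hT h19 in
theorem closedSet_inCls {c : ℕ × ℕ} (hc : c ∈ cls) : ClosedSet D (InCls D ρ c) := by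
  rintro r s hr hrs hs ⟨j, hj, rfl⟩ ⟨k, hk, rfl⟩ q hq
  have hjk : j ≠ k := by
    rintro rfl
    exact absurd hrs (lt_irrefl _)
  have := (h19.ortho c hc j hj k hk hjk).1.t1
  rw [this] at hq
  exact absurd hq (List.not_mem_nil)

include hG hT h19 in
theorem xiHom_range_le {c : ℕ × ℕ} (hc : c ∈ cls) :
    (xiHom hG h3 h4 h19 hc (K := K)).range ≤ UgeS D K (InCls D ρ c) (D.nroots / 2) := by
  have hG1 := hG.toGood1
  obtain ⟨_, _, hlt⟩ := h19.orbit c hc
  rintro _ ⟨a, rfl⟩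
  rw [xiHom_apply]
  apply Subgroup.list_prod_mem
  intro x hx
  rw [List.mem_map] at hx
  obtain ⟨j, hj, rfl⟩ := hx
  rw [List.mem_range] at hj
  have hp : clsRoot D ρ c.1 j < D.nroots := hG1.simple_lt (hlt j hj)
  apply Subgroup.subset_closure
  exact ⟨_, _, simple_pos hG1 hT (hlt j hj), hp, ⟨j, hj, rfl⟩, xGL'_coe _ _⟩

include hT h7 h8 h20 in
/-- `U_S` and `X_S` meet trivially. -/
theorem upS_inf_xi {c : ℕ × ℕ} (hc : c ∈ cls) {g : GL D.Idx K}
    (h1 : g ∈ Subgroup.closure (upGenS D K (InCls D ρ c)))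
    (h2 : g ∈ (xiHom hG h3 h4 h19 hc (K := K)).range) : g = 1 := by
  rw [closure_upGenS_eq hT] at h1
  have h2' := xiHom_range_le hG hT h3 h4 h19 hc h2
  have := UgeS_inf_eq_bot (K := K) hG hT h3 h4 h7 h8 (closedSet_not_inCls hG h19 h20 hc)
    (closedSet_inCls hG hT h19 hc) (fun r h1 h2 => h1 h2)
  have hg : g ∈ UgeS D K (fun r => ¬ InCls D ρ c r) (D.nroots / 2) ⊓
      UgeS D K (InCls D ρ c) (D.nroots / 2) := ⟨h1, h2'⟩
  rw [this, Subgroup.mem_bot] at hg
  exact hg

include hT h7 h8 h20 in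
/-- The parameters of an element of `X_S` are determined. -/
theorem xiHom_eq_one {c : ℕ × ℕ} (hc : c ∈ cls) {a : Multiplicative (ℕ → K)}
    (ha : xiHom hG h3 h4 h19 hc a = 1) : ∀ k < c.2, (Multiplicative.toAdd a) k = 0 := by
  have hG1 := hG.toGood1
  obtain ⟨_, _, hlt⟩ := h19.orbit c hc
  intro k hk
  have hp : clsRoot D ρ c.1 k < D.nroots := hG1.simple_lt (hlt k hk)
  have hppos : D.nroots / 2 ≤ clsRoot D ρ c.1 k := simple_pos hG1 hT (hlt k hk)
  set a' : Multiplicative (ℕ → K) :=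
    Multiplicative.ofAdd (Function.update (Multiplicative.toAdd a) k 0) with ha'
  have hsplit : a = a' * Multiplicative.ofAdd (Pi.single k ((Multiplicative.toAdd a) k)) := by
    apply Multiplicative.toAdd.injective
    rw [toAdd_mul, toAdd_ofAdd, toAdd_ofAdd]
    funext j
    by_cases hjk : j = k
    · subst hjk; simp
    · simp [hjk]
  rw [hsplit, map_mul, xiHom_single hG h3 h4 h19 hc hk, xGL'_of_lt hG1 hp] at ha
  -- the first factor lies in `U_p`
  have hmem : xiHom hG h3 h4 h19 hc a' ∈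
      UgeS D K (fun r => r ≠ clsRoot D ρ c.1 k) (D.nroots / 2) := by
    rw [xiHom_apply]
    apply Subgroup.list_prod_mem
    intro x hx
    rw [List.mem_map] at hx
    obtain ⟨j, hj, rfl⟩ := hx
    rw [List.mem_range] at hj
    have hpj : clsRoot D ρ c.1 j < D.nroots := hG1.simple_lt (hlt j hj)
    by_cases hjk : j = k
    · subst hjk
      rw [ha', toAdd_ofAdd, Function.update_self, xGL'_zero]
      exact one_mem _
    · apply Subgroup.subset_closure
      refine ⟨_, _, simple_pos hG1 hT (hlt j hj), hpj, ?_, xGL'_coe _ _⟩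
      exact (h19.ortho c hc j hj k hk hjk).1.ne1
  have hx : xGL hG1 hp ((Multiplicative.toAdd a) k) ∈
      UgeS D K (fun r => r = clsRoot D ρ c.1 k) (D.nroots / 2) :=
    Subgroup.subset_closure ⟨_, _, hppos, hp, rfl, xGL_coe hG1 hp _⟩
  have hx' : xGL hG1 hp ((Multiplicative.toAdd a) k) ∈
      UgeS D K (fun r => r ≠ clsRoot D ρ c.1 k) (D.nroots / 2) := by
    have : xGL hG1 hp ((Multiplicative.toAdd a) k) = (xiHom hG h3 h4 h19 hc a')⁻¹ :=
      eq_inv_of_mul_eq_one_right ha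
    rw [this]
    exact inv_mem hmem
  have hc1 : ClosedSet D (fun r => r = clsRoot D ρ c.1 k) := by
    rintro r s _ hrs _ rfl hs
    exact absurd hrs (by rw [hs]; exact lt_irrefl _)
  have hc2 : ClosedSet D (fun r => r ≠ clsRoot D ρ c.1 k) := by
    intro r s hr hrs hs hrp hsp q hq
    obtain ⟨_, _, h20c⟩ := h20 c hc
    rw [List.all_eq_true] at h20c
    have h1 := h20c k (List.mem_range.mpr hk)
    rw [allLtB_iff] at h1
    have h2 := of_decide_eq_true (h1 r (lt_trans hrs hs : r < D.nroots)) hr hrp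
    rw [allLtB_iff] at h2
    have h3 := of_decide_eq_true (h2 s hs) hrs hsp
    rw [List.all_eq_true] at h3
    exact of_decide_eq_true (h3 q hq)
  have hbot := UgeS_inf_eq_bot (K := K) hG hT h3 h4 h7 h8 hc1 hc2 (fun r h1 h2 => h2 h1)
  have hmem2 : xGL hG1 hp ((Multiplicative.toAdd a) k) ∈
      UgeS D K (fun r => r = clsRoot D ρ c.1 k) (D.nroots / 2) ⊓
        UgeS D K (fun r => r ≠ clsRoot D ρ c.1 k) (D.nroots / 2) := ⟨hx, hx'⟩
  rw [hbot, Subgroup.mem_bot] at hmem2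
  by_contra hne
  exact xGL_ne_one hG hT h8 hp hne hmem2

end decomp

end Cfsg.Agent.Helper7.Chev
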