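import Mathlib
import Cfsg.Agent.Helper7.ChevTw4

set_option autoImplicit false
set_option linter.unusedSectionVars false
set_option linter.unusedVariables false

/-!
Twisted groups, part 5: the fixed points of the twisting automorphism in `U`.
-/

namespace Cfsg.Agent.Helper7.Chev

open Cfsg Cfsg.Lie Matrix

variable {D : ChevalleyDatum} {K : Type*} [Field K]

section fixed

variable (hG : Good2 D) (hT : T0 D) (h3 : (tabOf D).T3) (h4 : (tabOf D).T4 60) (h5 : (tabOf D).T5)
  (h6 : (tabOf D).T6) (h7 : (tabOf D).T7) (h8 : (tabOf D).T8)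
  {ρ ρ' σ σ' : ℕ → ℕ} {ε : ℕ → ℤ} (h18 : T18 D ρ ρ' σ σ' ε) {cls : List (ℕ × ℕ)}
  (h19 : T19 D ρ σ cls) (h20 : (tabOf D).T20 ρ cls) (f : K ≃+* K)

include h18 in
theorem sigma_clsRoot {i j : ℕ} (hj : ρ^[j] i < D.rank) :
    σ (clsRoot D ρ i j) = clsRoot D ρ i (j + 1) := by
  unfold clsRoot
  rw [(h18.simple _ hj).1, Function.iterate_succ_apply']

include hG h18 h19 in
/-- The classes are stable under the permutation of the roots. -/
theorem not_inCls_sigma {c : ℕ × ℕ} (hc : c ∈ cls) {s : ℕ} (hs : s < D.nroots)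
    (hsS : ¬ InCls D ρ c s) : ¬ InCls D ρ c (σ s) := by
  have hG1 := hG.toGood1
  obtain ⟨hm, horb, hlt⟩ := h19.orbit c hc
  rintro ⟨k, hk, hk'⟩
  apply hsS
  have hinj : ∀ r < D.nroots, σ s = σ r → s = r := by
    intro r hr h
    have := congrArg σ' h
    rwa [(h18.sigma s hs).2.2.1, (h18.sigma r hr).2.2.1] at this
  cases k with
  | zero =>
    refine ⟨c.2 - 1, by omega, ?_⟩
    apply hinj _ (hG1.simple_lt (hlt (c.2 - 1) (by omega)))
    have e := sigma_clsRoot h18 (hlt (c.2 - 1) (by omega))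
    have : c.2 - 1 + 1 = c.2 := by omega
    rw [this] at e
    change σ s = σ (clsRoot D ρ c.1 (c.2 - 1))
    rw [hk', e]
    unfold clsRoot
    rw [horb]
    rfl
  | succ k =>
    refine ⟨k, by omega, ?_⟩
    apply hinj _ (hG1.simple_lt (hlt k (by omega)))
    change σ s = σ (clsRoot D ρ c.1 k)
    rw [hk', sigma_clsRoot h18 (hlt k (by omega))]

include hG hT h18 h19 in
/-- `U_S` is stable under the twisting automorphism. -/
theorem twAut_mem_upS {c : ℕ × ℕ} (hc : c ∈ cls) {u : GL D.Idx K}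
    (hu : u ∈ Subgroup.closure (upGenS D K (InCls D ρ c))) :
    twAut h18 f u ∈ Subgroup.closure (upGenS D K (InCls D ρ c)) := by
  have hG1 := hG.toGood1
  induction hu using Subgroup.closure_induction with
  | mem x hx =>
    obtain ⟨s, t, hspos, hsS, hx⟩ := hx
    have hs := hspos.1
    rw [eq_xGL hG1 hs hx, twAut_xGL hG1 h18 f hs]
    apply Subgroup.subset_closure
    refine ⟨σ s, _, ?_, not_inCls_sigma hG h18 h19 hc hs hsS, xGL_coe hG1 _ _⟩
    exact (isPosRoot_iff hT (h18.sigma s hs).1).mpr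
      (h19.sigma_pos s hs ((isPosRoot_iff hT hs).mp hspos))
  | one => rw [map_one]; exact one_mem _
  | mul a b _ _ ha hb => rw [map_mul]; exact mul_mem ha hb
  | inv a _ ha => rw [map_inv]; exact inv_mem ha

/-- The shifted tuple of parameters. -/
def shiftTuple (f : K ≃+* K) (m : ℕ) (a : ℕ → K) : ℕ → K
  | 0 => f (a (m - 1))
  | j + 1 => f (a j)

theorem shiftTuple_self (f : K ≃+* K) {m : ℕ} (hm : 0 < m) (a : ℕ → K) :
    shiftTuple f m a m = shiftTuple f m a 0 := by
  cases m with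
  | zero => exact absurd hm (lt_irrefl _)
  | succ m => rfl

include hG hT h18 in
/-- The twisting automorphism on `X_S`. -/
theorem twAut_xiHom {c : ℕ × ℕ} (hc : c ∈ cls) (a : Multiplicative (ℕ → K)) :
    twAut h18 f (xiHom hG h3 h4 h19 hc a) =
      xiHom hG h3 h4 h19 hc (Multiplicative.ofAdd (shiftTuple f c.2 (Multiplicative.toAdd a))) := by
  have hG1 := hG.toGood1
  obtain ⟨hm, horb, hlt⟩ := h19.orbit c hc
  rw [xiHom_apply, xiHom_apply, map_list_prod, List.map_map, toAdd_ofAdd]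
  set b := shiftTuple f c.2 (Multiplicative.toAdd a) with hb
  have e : (List.range c.2).map (⇑(twAut h18 f) ∘ fun j =>
        xGL' hG1 (clsRoot D ρ c.1 j, (Multiplicative.toAdd a) j)) =
      (List.range c.2).map fun j => xGL' hG1 (clsRoot D ρ c.1 (j + 1), b (j + 1)) := by
    apply List.map_congr_left
    intro j hj
    rw [List.mem_range] at hj
    have hp : clsRoot D ρ c.1 j < D.nroots := hG1.simple_lt (hlt j hj)
    have hp' : clsRoot D ρ c.1 (j + 1) < D.nroots := by
      rw [← sigma_clsRoot h18 (hlt j hj)]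
      exact (h18.sigma _ hp).1
    simp only [Function.comp_apply]
    rw [xGL'_of_lt hG1 hp, xGL'_of_lt hG1 hp', twAut_xGL hG1 h18 f hp]
    have hε : ε (clsRoot D ρ c.1 j) = 1 := (h18.simple _ (hlt j hj)).2
    rw [hε]
    simp only [Int.cast_one, one_mul]
    exact xGL_congr' hG1 (sigma_clsRoot h18 (hlt j hj)) _ _ _
  rw [e]
  apply prod_range_shift (fun j => xGL' hG1 (clsRoot D ρ c.1 j, b j))
  · have h1 : clsRoot D ρ c.1 c.2 = clsRoot D ρ c.1 0 := by
      unfold clsRoot; rw [horb]; rfl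
    have h2 : b c.2 = b 0 := shiftTuple_self f hm _
    simp only [h1, h2]
  · intro j k hj hk hjk
    have := xiFactor_commute (K := K) hG h3 h4 h19 hc hj hk hjk (Multiplicative.ofAdd b)
      (Multiplicative.ofAdd b)
    exact this

include hT h5 h7 h8 h18 h20 in
/-- A fixed point of the twisting automorphism in `U` is an element of `U_S` times `x_S(t)` for an admissible
parameter `t`. -/
theorem exists_upS_mul_cls_of_fixed {c : ℕ × ℕ} (hc : c ∈ cls) {u : GL D.Idx K}
    (hu : u ∈ D.posUnipotent K) (hfix : twAut h18 f u = u) :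
    ∃ u' ∈ Subgroup.closure (upGenS D K (InCls D ρ c)), ∃ t : K, Adm f c.2 t ∧
      u = u' * clsHom hG h3 h4 h19 f hc (upperSL t) := by
  have hG1 := hG.toGood1
  obtain ⟨hm, horb, hlt⟩ := h19.orbit c hc
  obtain ⟨u', hu', a, rfl⟩ := exists_upS_mul_xi hG hT h3 h4 h5 h19 h20 hc hu
  rw [map_mul, twAut_xiHom hG hT h3 h4 h18 h19 f hc] at hfix
  set b := Multiplicative.ofAdd (shiftTuple f c.2 (Multiplicative.toAdd a)) with hb
  have hu'' := twAut_mem_upS hG hT h18 h19 f hc hu'
  -- the two decompositions agree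
  have e : (twAut h18 f u')⁻¹ * u' = xiHom hG h3 h4 h19 hc (b * a⁻¹) := by
    rw [map_mul, map_inv]
    calc (twAut h18 f u')⁻¹ * u'
        = (twAut h18 f u')⁻¹ * (u' * xiHom hG h3 h4 h19 hc a) * (xiHom hG h3 h4 h19 hc a)⁻¹ := by
          group
      _ = (twAut h18 f u')⁻¹ * (twAut h18 f u' * xiHom hG h3 h4 h19 hc b) *
            (xiHom hG h3 h4 h19 hc a)⁻¹ := by rw [hfix]
      _ = _ := by group
  have h1 : xiHom hG h3 h4 h19 hc (b * a⁻¹) = 1 := by
    apply upS_inf_xi hG hT h3 h4 h7 h8 h19 h20 hc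
    · rw [← e]; exact mul_mem (inv_mem hu'') hu'
    · exact ⟨_, rfl⟩
  have h2 := xiHom_eq_one hG hT h3 h4 h7 h8 h19 h20 hc h1
  have h3' : ∀ k < c.2, shiftTuple f c.2 (Multiplicative.toAdd a) k = (Multiplicative.toAdd a) k := by
    intro k hk
    have := h2 k hk
    rw [toAdd_mul, toAdd_inv, hb, toAdd_ofAdd, Pi.add_apply, Pi.neg_apply] at this
    exact add_neg_eq_zero.mp this
  set a₀ := (Multiplicative.toAdd a) 0 with ha₀
  have hpow : ∀ j < c.2, (Multiplicative.toAdd a) j = (((f : K →+* K)) ^ j) a₀ := by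
    intro j
    induction j with
    | zero => intro _; rw [pow_zero]; rfl
    | succ j ih =>
      intro hj
      have := h3' (j + 1) hj
      change f ((Multiplicative.toAdd a) j) = _ at this
      rw [← this, ih (by omega), pow_succ']
      rfl
  have hadm : Adm f c.2 a₀ := by
    unfold Adm
    have := h3' 0 hm
    change f ((Multiplicative.toAdd a) (c.2 - 1)) = _ at this
    rw [hpow (c.2 - 1) (by omega)] at this
    obtain ⟨m', hm'⟩ : ∃ m', c.2 = m' + 1 := ⟨c.2 - 1, by omega⟩
    rw [hm', pow_succ']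
    have e2 : c.2 - 1 = m' := by omega
    rw [e2] at this
    exact this
  refine ⟨u', hu', a₀, hadm, ?_⟩
  rw [clsHom_upper, xiHom_apply, xiHom_apply]
  congr 2
  apply List.map_congr_left
  intro j hj
  rw [List.mem_range] at hj
  rw [toAdd_ofAdd, hpow j hj]

end fixed

end Cfsg.Agent.Helper7.Chev
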