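import Mathlib
import Cfsg.Agent.Helper7.ChevTw5
import Cfsg.Agent.Helper7.ChevBN
import Cfsg.Agent.Helper7.ChevCount
import Cfsg.Agent.Helper7.BNBruhat

set_option autoImplicit false
set_option linter.unusedSectionVars false
set_option linter.unusedVariables false

/-!
Twisted groups, part 6: the elements `n_S`, `h_S(a)`, the action of the fixed points in `N` on the classes of
fundamental roots.
-/

namespace Cfsg.Agent.Helper7.Chev

open Cfsg Cfsg.Lie Matrix

variable {D : ChevalleyDatum} {K : Type*} [Field K]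

/-- The word of a class. -/
def clsWord (ρ : ℕ → ℕ) (c : ℕ × ℕ) : List ℕ := (List.range c.2).map fun j => ρ^[j] c.1

theorem map_antiSL (φ : K →+* K) :
    Matrix.SpecialLinearGroup.map φ (antiSL : Matrix.SpecialLinearGroup (Fin 2) K) = antiSL := by
  apply Subtype.ext
  change φ.mapMatrix (!![0, 1; -1, 0] : Matrix (Fin 2) (Fin 2) K) = !![0, 1; -1, 0]
  ext i j
  fin_cases i <;> fin_cases j <;> simp

theorem map_diagSL (φ : K →+* K) (a : K) (ha : a ≠ 0) :
    Matrix.SpecialLinearGroup.map φ (diagSL a ha) = diagSL (φ a) ((map_ne_zero φ).mpr ha) := by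
  apply Subtype.ext
  change φ.mapMatrix (!![a, 0; 0, a⁻¹] : Matrix (Fin 2) (Fin 2) K) = !![φ a, 0; 0, (φ a)⁻¹]
  ext i j
  fin_cases i <;> fin_cases j <;> simp

section nside

variable (hG : Good2 D) (hT : T0 D) (h3 : (tabOf D).T3) (h4 : (tabOf D).T4 60) (h5 : (tabOf D).T5)
  (h6 : (tabOf D).T6) (h7 : (tabOf D).T7) (h8 : (tabOf D).T8) (h9 : (tabOf D).T9)
  {ρ ρ' σ σ' : ℕ → ℕ} {ε : ℕ → ℤ} (h18 : T18 D ρ ρ' σ σ' ε) {cls : List (ℕ × ℕ)}
  (h19 : T19 D ρ σ cls) (h20 : (tabOf D).T20 ρ cls) (f : K ≃+* K)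

include h19 in
theorem clsWord_lt {c : ℕ × ℕ} (hc : c ∈ cls) : ∀ i ∈ clsWord ρ c, i < D.rank := by
  obtain ⟨_, _, hlt⟩ := h19.orbit c hc
  intro i hi
  unfold clsWord at hi
  rw [List.mem_map] at hi
  obtain ⟨j, hj, rfl⟩ := hi
  exact hlt j (List.mem_range.mp hj)

/-- `n_S` is the element of `N` of the word of the class. -/
theorem clsHom_anti {c : ℕ × ℕ} (hc : c ∈ cls) :
    clsHom hG h3 h4 h19 f hc antiSL = nWordGL hG (clsWord ρ c) := by
  have hG1 := hG.toGood1
  obtain ⟨_, _, hlt⟩ := h19.orbit c hc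
  rw [clsHom_apply]
  unfold nWordGL clsWord
  rw [List.map_map]
  congr 1
  apply List.map_congr_left
  intro j hj
  rw [List.mem_range] at hj
  unfold clsFactor
  rw [MonoidHom.comp_apply, phiS_of_lt hG1 (hlt j hj), map_antiSL]
  simp only [Function.comp_apply]
  rw [dif_pos (hlt j hj)]
  rfl

/-- `h_S(a)` lies in `H`. -/
theorem clsHom_diag_mem {c : ℕ × ℕ} (hc : c ∈ cls) {a : K} (ha : a ≠ 0) :
    clsHom hG h3 h4 h19 f hc (diagSL a ha) ∈ D.diagonalSubgroup K := by
  have hG1 := hG.toGood1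
  obtain ⟨_, _, hlt⟩ := h19.orbit c hc
  rw [clsHom_apply]
  apply Subgroup.list_prod_mem
  intro x hx
  rw [List.mem_map] at hx
  obtain ⟨j, hj, rfl⟩ := hx
  rw [List.mem_range] at hj
  unfold clsFactor
  rw [MonoidHom.comp_apply, phiS_of_lt hG1 (hlt j hj), map_diagSL]
  exact Subgroup.subset_closure ⟨_, _, hG1.simple_lt (hlt j hj),
    (map_ne_zero (((f : K →+* K)) ^ j)).mpr ha, hGL_coe hG1 _ _ _⟩

include hT in
/-- `x_S(t)` lies in `U`. -/
theorem clsHom_upper_mem {c : ℕ × ℕ} (hc : c ∈ cls) (t : K) :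
    clsHom hG h3 h4 h19 f hc (upperSL t) ∈ D.posUnipotent K := by
  have hG1 := hG.toGood1
  obtain ⟨_, _, hlt⟩ := h19.orbit c hc
  rw [clsHom_apply]
  apply Subgroup.list_prod_mem
  intro x hx
  rw [List.mem_map] at hx
  obtain ⟨j, hj, rfl⟩ := hx
  rw [List.mem_range] at hj
  unfold clsFactor
  rw [MonoidHom.comp_apply, phiS_of_lt hG1 (hlt j hj), map_upperSL, phiHom_upper']
  have hp := hG1.simple_lt (hlt j hj)
  exact Subgroup.subset_closure ⟨_, _, (isPosRoot_iff hT hp).mpr (simple_pos hG1 hT (hlt j hj)),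
    xGL_coe hG1 hp _⟩

include hT in
/-- `x_{-S}(t)` lies in `V`. -/
theorem clsHom_lower_mem {c : ℕ × ℕ} (hc : c ∈ cls) (t : K) :
    clsHom hG h3 h4 h19 f hc (lowerSL t) ∈ D.negUnipotent K := by
  have hG1 := hG.toGood1
  obtain ⟨_, _, hlt⟩ := h19.orbit c hc
  rw [clsHom_apply]
  apply Subgroup.list_prod_mem
  intro x hx
  rw [List.mem_map] at hx
  obtain ⟨j, hj, rfl⟩ := hx
  rw [List.mem_range] at hj
  unfold clsFactor
  rw [MonoidHom.comp_apply, phiS_of_lt hG1 (hlt j hj), map_lowerSL, phiHom_lower']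
  have hp := hG1.simple_lt (hlt j hj)
  have hnp := hG1.neg_lt hp
  exact Subgroup.subset_closure ⟨_, _,
    (isNegRoot_iff hT hnp).mpr (neg_neg_of_pos hG hT hp (simple_pos hG1 hT (hlt j hj))),
    xGL_coe hG1 hnp _⟩

include hG h19 in
/-- The action of a sub-word of the word of a class on a root of the class. -/
theorem reflWord_cls_sub {c : ℕ × ℕ} (hc : c ∈ cls) {j : ℕ} (hj : j < c.2) :
    ∀ l : List ℕ, l.Nodup → (∀ k ∈ l, k < c.2) →
      (tabOf D).reflWord (l.map fun k => ρ^[k] c.1) (clsRoot D ρ c.1 j) =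
        if j ∈ l then D.neg (clsRoot D ρ c.1 j) else clsRoot D ρ c.1 j := by
  have hG1 := hG.toGood1
  obtain ⟨_, _, hlt⟩ := h19.orbit c hc
  have hpj : clsRoot D ρ c.1 j < D.nroots := hG1.simple_lt (hlt j hj)
  intro l
  induction l with
  | nil => intro _ _; simp [Tab.reflWord]
  | cons k l ih =>
    intro hnd hl
    have hk : k < c.2 := hl k List.mem_cons_self
    have hl' : ∀ k' ∈ l, k' < c.2 := fun k' hk' => hl k' (List.mem_cons_of_mem _ hk')
    have hnd' := (List.nodup_cons.mp hnd).2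
    have hkl := (List.nodup_cons.mp hnd).1
    rw [List.map_cons, reflWord_cons, ih hnd' hl']
    by_cases hjk : j = k
    · subst hjk
      rw [if_neg hkl, if_pos List.mem_cons_self]
      exact refl_self _
    · have hfix := (h19.ortho c hc k hk j hj (Ne.symm hjk)).2
      by_cases hjl : j ∈ l
      · rw [if_pos hjl, if_pos (List.mem_cons_of_mem _ hjl)]
        change (tabOf D).refl (D.simple (ρ^[k] c.1)) (D.neg (clsRoot D ρ c.1 j)) = _
        rw [hG.refl_neg (hlt k hk) hpj]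
        congr 1
      · rw [if_neg hjl, if_neg (by
          intro h
          rcases List.mem_cons.mp h with h | h
          · exact hjk h
          · exact hjl h)]
        exact hfix

include hG h19 in
theorem reflWord_clsWord {c : ℕ × ℕ} (hc : c ∈ cls) {j : ℕ} (hj : j < c.2) :
    (tabOf D).reflWord (clsWord ρ c) (clsRoot D ρ c.1 j) = D.neg (clsRoot D ρ c.1 j) := by
  unfold clsWord
  rw [reflWord_cls_sub hG h19 hc hj _ List.nodup_range (fun k hk => List.mem_range.mp hk),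
    if_pos (List.mem_range.mpr hj)]

include hG h19 in
theorem reflWord_clsWord_reverse {c : ℕ × ℕ} (hc : c ∈ cls) {j : ℕ} (hj : j < c.2) :
    (tabOf D).reflWord (clsWord ρ c).reverse (clsRoot D ρ c.1 j) = D.neg (clsRoot D ρ c.1 j) := by
  unfold clsWord
  rw [← List.map_reverse,
    reflWord_cls_sub hG h19 hc hj _ (List.nodup_reverse.mpr List.nodup_range)
      (fun k hk => List.mem_range.mp (List.mem_reverse.mp hk)),
    if_pos (List.mem_reverse.mpr (List.mem_range.mpr hj))]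

include hT h8 in
/-- Conjugation of a root element by the inverse of an element of `N`. -/
theorem nW_inv_conj {h : GL D.Idx K} (hh : h ∈ D.diagonalSubgroup K) {w : List ℕ}
    (hw : ∀ i ∈ w, i < D.rank) {s : ℕ} (hs : s < D.nroots) (t : K) :
    ∃ (hr : (tabOf D).reflWord w.reverse s < D.nroots) (t' : K),
      (h * nWordGL hG w)⁻¹ * xGL hG.toGood1 hs t * (h * nWordGL hG w) = xGL hG.toGood1 hr t' ∧
        (t ≠ 0 → t' ≠ 0) := by
  have hG1 := hG.toGood1
  obtain ⟨t1, ht1⟩ := diagonal_conj_xGL' hG hh hs t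
  obtain ⟨hr, t2, ht2⟩ := nWordGL_inv_conj (F := K) hG hw hs t1
  have e : (h * nWordGL hG w)⁻¹ * xGL hG1 hs t * (h * nWordGL hG w) = xGL hG1 hr t2 := by
    rw [← ht2, ← ht1]; group
  refine ⟨hr, t2, e, ?_⟩
  intro ht h0
  rw [h0, xGL_zero] at e
  have : xGL hG1 hs t = 1 := by
    calc xGL hG1 hs t = (h * nWordGL hG w) *
          ((h * nWordGL hG w)⁻¹ * xGL hG1 hs t * (h * nWordGL hG w)) * (h * nWordGL hG w)⁻¹ := by
          group
      _ = 1 := by rw [e]; group
  exact xGL_ne_one hG hT h8 hs ht this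

include hT h8 h18 in
/-- The action on the roots of a fixed point of the twisting automorphism in `N` commutes with the permutation of
the roots. -/
theorem reflWord_sigma_of_fixed {h : GL D.Idx K} (hh : h ∈ D.diagonalSubgroup K) {w : List ℕ}
    (hw : ∀ i ∈ w, i < D.rank)
    (hfix : twAut h18 f (h * nWordGL hG w) = h * nWordGL hG w) {s : ℕ} (hs : s < D.nroots) :
    (tabOf D).reflWord w.reverse (σ s) = σ ((tabOf D).reflWord w.reverse s) := by
  have hG1 := hG.toGood1
  obtain ⟨hr, t', e1, hne⟩ := nW_inv_conj (K := K) hG hT h8 hh hw hs 1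
  have ht' := hne one_ne_zero
  have hσs := (h18.sigma s hs).1
  obtain ⟨hr2, t'', e2, _⟩ := nW_inv_conj (K := K) hG hT h8 hh hw hσs (((ε s : ℤ) : K) * f 1)
  have e3 := congrArg (twAut h18 f) e1
  rw [map_mul, map_mul, map_inv, hfix, twAut_xGL hG1 h18 f hs, twAut_xGL hG1 h18 f hr, e2] at e3
  have hεne : (((ε ((tabOf D).reflWord w.reverse s) : ℤ) : K) * f t') ≠ 0 := by
    apply mul_ne_zero
    · rcases (h18.eps _ hr).1 with h1 | h1 <;> rw [h1] <;> simp
    · exact (map_ne_zero f).mpr ht'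
  exact (root_eq_of_xGL_eq hG h8 (h18.sigma _ hr).1 hr2 hεne e3.symm).symm

include hG hT h18 h19 in
theorem sigma_neg_of_neg {r : ℕ} (hr : r < D.nroots) (h : r < D.nroots / 2) :
    σ r < D.nroots / 2 := by
  have hG1 := hG.toGood1
  have hnr := hG1.neg_lt hr
  have h1 := neg_pos_of_neg hG hT hr h
  have h2 := h19.sigma_pos _ hnr h1
  rw [(h18.eps r hr).2.2] at h2
  by_contra hcon
  have := neg_neg_of_pos hG hT (h18.sigma r hr).1 (by omega)
  omega

include hT h8 h18 h19 in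
/-- The roots of a class are all sent to positive roots or all sent to negative roots by a fixed point of the
twisting automorphism in `N`. -/
theorem cls_dichotomy {h : GL D.Idx K} (hh : h ∈ D.diagonalSubgroup K) {w : List ℕ}
    (hw : ∀ i ∈ w, i < D.rank)
    (hfix : twAut h18 f (h * nWordGL hG w) = h * nWordGL hG w) {c : ℕ × ℕ} (hc : c ∈ cls) :
    (∀ j < c.2, D.nroots / 2 ≤ (tabOf D).reflWord w.reverse (clsRoot D ρ c.1 j)) ∨
    (∀ j < c.2, (tabOf D).reflWord w.reverse (clsRoot D ρ c.1 j) < D.nroots / 2) := by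
  have hG1 := hG.toGood1
  obtain ⟨hm, horb, hlt⟩ := h19.orbit c hc
  have hrev : ∀ i ∈ w.reverse, i < D.rank := fun i hi => hw i (List.mem_reverse.mp hi)
  have hstep : ∀ j, j + 1 < c.2 → (tabOf D).reflWord w.reverse (clsRoot D ρ c.1 (j + 1)) =
      σ ((tabOf D).reflWord w.reverse (clsRoot D ρ c.1 j)) := by
    intro j hj
    have hj' : j < c.2 := by omega
    rw [← sigma_clsRoot h18 (hlt j hj')]
    exact reflWord_sigma_of_fixed hG hT h8 h18 f hh hw hfix (hG1.simple_lt (hlt j hj'))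
  by_cases h0 : D.nroots / 2 ≤ (tabOf D).reflWord w.reverse (clsRoot D ρ c.1 0)
  · left
    intro j
    induction j with
    | zero => intro _; exact h0
    | succ j ih =>
      intro hj
      rw [hstep j hj]
      exact h19.sigma_pos _ (reflWord_lt hG hrev (hG1.simple_lt (hlt j (by omega)))) (ih (by omega))
  · right
    intro j
    induction j with
    | zero => intro _; omega
    | succ j ih =>
      intro hj
      rw [hstep j hj]
      exact sigma_neg_of_neg hG hT h18 h19 (reflWord_lt hG hrev (hG1.simple_lt (hlt j (by omega))))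
        (ih (by omega))

end nside

/-! ### Uniqueness of the double cosets in the ambient group -/

section ambient

variable (hG : Good2 D) (hT : T0 D) (h3 : (tabOf D).T3) (h4 : (tabOf D).T4 60) (h5 : (tabOf D).T5)
  (h6 : (tabOf D).T6) (h8 : (tabOf D).T8) (h9 : (tabOf D).T9)

include hG hT h3 h4 h5 h6 h8 h9 in
/-- Two elements of `N` in the same double coset of `B` agree modulo `H`. -/
theorem monomial_inv_mul_mem_diagonal {n n' b₁ b₂ : GL D.Idx K} (hn : n ∈ D.monomialSubgroup K)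
    (hn' : n' ∈ D.monomialSubgroup K) (hb₁ : b₁ ∈ D.borelSubgroup K) (hb₂ : b₂ ∈ D.borelSubgroup K)
    (e : n' = b₁ * n * b₂) : n⁻¹ * n' ∈ D.diagonalSubgroup K := by
  have hG1 := hG.toGood1
  have hBG : D.borelSubgroup K ≤ D.group K := borelSubgroup_le_group hG1
  have hNG : D.monomialSubgroup K ≤ D.group K := monomialSubgroup_le_group hG1
  obtain ⟨P, hPB, hPN, _⟩ := exists_bnPair (F := K) hG hT h3 h4 h5 h6 h8 h9
  have hnP : (⟨n, hNG hn⟩ : ↥(D.group K)) ∈ P.N := by rw [hPN]; exact hn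
  have hn'P : (⟨n', hNG hn'⟩ : ↥(D.group K)) ∈ P.N := by rw [hPN]; exact hn'
  have hb₁P : (⟨b₁, hBG hb₁⟩ : ↥(D.group K)) ∈ P.B := by rw [hPB]; exact hb₁
  have hb₂P : (⟨b₂, hBG hb₂⟩ : ↥(D.group K)) ∈ P.B := by rw [hPB]; exact hb₂
  have hmem : (⟨n', hNG hn'⟩ : ↥(D.group K)) ∈ BN.C P (⟨n, hNG hn⟩ : ↥(D.group K)) := by
    rw [BN.mem_C]
    refine ⟨_, hb₁P, _, hb₂P, ?_⟩
    apply Subtype.ext
    simpa only [Subgroup.coe_mul] using e
  have h1 : (⟨n', hNG hn'⟩ : ↥(D.group K)) ∈ BN.CW P (BN.proj P ⟨_, hnP⟩) := by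
    rw [BN.CW_proj]; exact hmem
  have h2 : (⟨n', hNG hn'⟩ : ↥(D.group K)) ∈ BN.CW P (BN.proj P ⟨_, hn'P⟩) := by
    rw [BN.CW_proj]; exact BN.self_mem_C P _
  have h3' := BN.eq_of_mem_CW P h1 h2
  rw [BN.proj_eq_iff, hPB] at h3'
  rw [← borel_inf_monomial hG hT h6 h8 h9]
  exact Subgroup.mem_inf.mpr
    ⟨h3', (D.monomialSubgroup K).mul_mem ((D.monomialSubgroup K).inv_mem hn) hn'⟩

end ambient

end Cfsg.Agent.Helper7.Chev
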