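import Mathlib
import Cfsg.Agent.Helper7.ChevRee1
import Cfsg.Agent.Helper7.ChevTw6

set_option autoImplicit false
set_option linter.unusedSectionVars false
set_option linter.unusedVariables false

/-!
Automorphisms of a Chevalley group that permute the root subgroups, part 2: the action on `H` and `N`, and the
factors of the Bruhat normal form of a fixed element are fixed.
-/

namespace Cfsg.Agent.Helper7.Chev

open Cfsg Cfsg.Lie Matrix

variable {D : ChevalleyDatum} {K : Type*} [Field K]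

section rootAut

variable (hG : Good2 D) (hT : T0 D) (h3 : (tabOf D).T3) (h4 : (tabOf D).T4 60) (h5 : (tabOf D).T5)
  (h6 : (tabOf D).T6) (h8 : (tabOf D).T8) (h9 : (tabOf D).T9)
  {τ : ↥(D.group K) ≃* ↥(D.group K)} {ρ : ℕ → ℕ} {f : ℕ → K →+* K}
  (hτ : RootAut D K τ ρ f)

include hτ in
theorem RootAut.map_nGL {r : ℕ} (hr : r < D.nroots) :
    extFun τ (nGL hG.toGood1 hr : GL D.Idx K) = nGL hG.toGood1 (hτ.lt r hr) := by
  unfold nGL
  rw [hτ.map_phiHom hG hr, map_antiSL]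

include hτ in
theorem RootAut.map_hGL {r : ℕ} (hr : r < D.nroots) (c : K) (hc : c ≠ 0) :
    extFun τ (hGL hG.toGood1 hr c hc : GL D.Idx K) =
      hGL hG.toGood1 (hτ.lt r hr) (f r c) ((map_ne_zero (f r)).mpr hc) := by
  unfold hGL
  rw [hτ.map_phiHom hG hr, map_diagSL]

theorem hGL_mem_diagonal {r : ℕ} (hr : r < D.nroots) (c : K) (hc : c ≠ 0) :
    (hGL hG.toGood1 hr c hc : GL D.Idx K) ∈ D.diagonalSubgroup K :=
  Subgroup.subset_closure ⟨r, c, hr, hc, hGL_coe hG.toGood1 hr c hc⟩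

include hG hτ in
/-- The automorphism preserves `H`. -/
theorem RootAut.map_diag {g : GL D.Idx K} (hg : g ∈ D.diagonalSubgroup K) :
    extFun τ g ∈ D.diagonalSubgroup K := by
  have hG1 := hG.toGood1
  refine extFun_closure τ ?_ ?_ g hg
  · rintro x ⟨r, t, hr, ht, hx⟩
    exact diagonalSubgroup_le_group hG1 (Subgroup.subset_closure ⟨r, t, hr, ht, hx⟩)
  · rintro x ⟨r, t, hr, ht, hx⟩
    have e : x = hGL hG1 hr t ht := by
      apply Units.ext
      rw [hx, hGL_coe]
    rw [e, hτ.map_hGL hG hr]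
    exact hGL_mem_diagonal hG _ _ _

include hG hτ in
/-- The automorphism preserves `N`. -/
theorem RootAut.map_mono {g : GL D.Idx K} (hg : g ∈ D.monomialSubgroup K) :
    extFun τ g ∈ D.monomialSubgroup K := by
  have hG1 := hG.toGood1
  have e : D.monomialSubgroup K = Subgroup.closure ((D.diagonalSubgroup K : Set (GL D.Idx K)) ∪
      {g | ∃ r : ℕ, r < D.nroots ∧ (g : Matrix D.Idx D.Idx K) = D.nMat K r 1}) := by
    rw [Subgroup.closure_union, Subgroup.closure_eq]
    rfl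
  rw [e] at hg
  refine extFun_closure τ ?_ ?_ g hg
  · rintro x (hx | ⟨r, hr, hx⟩)
    · exact diagonalSubgroup_le_group hG1 hx
    · exact monomialSubgroup_le_group hG1
        (Subgroup.mem_sup_right (Subgroup.subset_closure ⟨r, hr, hx⟩))
  · rintro x (hx | ⟨r, hr, hx⟩)
    · exact Subgroup.mem_sup_left (hτ.map_diag hG hx)
    · have e : x = nGL hG1 hr := by
        apply Units.ext
        rw [hx, nGL_coe]
      rw [e, hτ.map_nGL hG hr]
      exact nGL_mem_monomial hG _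

include hG in
/-- Multiplying `n` on the left by an element of `H` does not shrink `U_n⁻`. -/
theorem minusGen'_diag_mul {h : GL D.Idx K} (hh : h ∈ D.diagonalSubgroup K) (m : GL D.Idx K) :
    minusGen' D K m ⊆ minusGen' D K (h * m) := by
  rintro x ⟨r, t, hr, hle, hx⟩
  refine ⟨r, t, hr, ?_, hx⟩
  rintro y ⟨z, hz, rfl⟩
  have h1 : m * z * m⁻¹ ∈ D.negUnipotent K := hle ⟨z, hz, rfl⟩
  have h2 := (Subgroup.mem_set_normalizer_iff.mp (diagonalSubgroup_le_normalizer_neg hG hh) _).mp h1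
  change h * m * z * (h * m)⁻¹ ∈ _
  have e : h * m * z * (h * m)⁻¹ = h * (m * z * m⁻¹) * h⁻¹ := by group
  rw [e]
  exact h2

include hG hT hτ in
/-- The automorphism maps `U_n⁻` into `U_{τ n}⁻`. -/
theorem RootAut.map_minus {n : GL D.Idx K} (hn : n ∈ D.group K) {u : GL D.Idx K}
    (hu : u ∈ Subgroup.closure (minusGen' D K n)) :
    extFun τ u ∈ Subgroup.closure (minusGen' D K (extFun τ n)) := by
  have hG1 := hG.toGood1
  refine extFun_closure τ ?_ ?_ u hu
  · rintro x ⟨r, t, hr, _, hx⟩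
    rw [eq_xGL hG1 hr.1 hx]; exact xGL_mem_group hG hr.1 t
  · rintro x ⟨r, t, hr, hle, hx⟩
    apply Subgroup.subset_closure
    rw [eq_xGL hG1 hr.1 hx, hτ.map_xGL hG hr.1]
    refine ⟨ρ r, f r t, (isPosRoot_iff hT (hτ.lt r hr.1)).mpr
      (hτ.pos r hr.1 ((isPosRoot_iff hT hr.1).mp hr)), ?_, xGL_coe hG1 _ _⟩
    rintro y ⟨z, hz, rfl⟩
    obtain ⟨s, rfl⟩ := mem_rootSubgroup hG1 (hτ.lt r hr.1) hz
    obtain ⟨s', rfl⟩ := hτ.surj r hr.1 s
    have hz' : xGL hG1 hr.1 s' ∈ D.rootSubgroup K r :=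
      Subgroup.subset_closure ⟨s', xGL_coe hG1 hr.1 s'⟩
    have h1 : n * xGL hG1 hr.1 s' * n⁻¹ ∈ D.negUnipotent K := hle ⟨_, hz', rfl⟩
    have h2 := hτ.map_neg hG hT h1
    rw [extFun_conj τ hn (xGL_mem_group hG hr.1 s'), hτ.map_xGL hG hr.1] at h2
    exact h2

include hG hT h3 h4 h5 h6 h8 h9 hτ in
/-- The factors of the Bruhat normal form `u₁ n u₂` of a fixed element are fixed. -/
theorem RootAut.bruhat_fixed {g u₁ n u₂ : GL D.Idx K} (hu₁ : u₁ ∈ D.posUnipotent K)
    (hn : n ∈ D.monomialSubgroup K) (hu₂ : u₂ ∈ Subgroup.closure (minusGen' D K n))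
    (hg : g = u₁ * n * u₂) (hfix : extFun τ g = g) :
    extFun τ u₁ = u₁ ∧ extFun τ n = n ∧ extFun τ u₂ = u₂ := by
  have hG1 := hG.toGood1
  have hUB : D.posUnipotent K ≤ D.borelSubgroup K := le_sup_left
  have hHB : D.diagonalSubgroup K ≤ D.borelSubgroup K := le_sup_right
  have hminusU : ∀ m : GL D.Idx K, Subgroup.closure (minusGen' D K m) ≤ D.posUnipotent K := by
    intro m
    apply Subgroup.closure_mono
    rintro x ⟨r, t, hr, _, hx⟩
    exact ⟨r, t, hr, hx⟩
  have hu₁G : u₁ ∈ D.group K := posUnipotent_le_group hu₁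
  have hnG : n ∈ D.group K := monomialSubgroup_le_group hG1 hn
  have hu₂G : u₂ ∈ D.group K := posUnipotent_le_group (hminusU n hu₂)
  have e1 : extFun τ g = extFun τ u₁ * extFun τ n * extFun τ u₂ := by
    rw [hg, extFun_mul τ (mul_mem hu₁G hnG) hu₂G, extFun_mul τ hu₁G hnG]
  rw [hfix, hg] at e1
  have hu₁' := hτ.map_pos hG hT hu₁
  have hn' := hτ.map_mono hG hn
  have hu₂' := hτ.map_minus hG hT hnG hu₂
  have key := (bruhat_normal_form (F := K) hG hT h3 h4 h5 h6 h8 h9).2 u₁ (extFun τ u₁) n (extFun τ n)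
    u₂ (extFun τ u₂) (hUB hu₁) (hUB hu₁') hn hn' hu₂ hu₂' e1
  -- `τ n = h' n` with `h' ∈ H`
  set h' : GL D.Idx K := extFun τ n * n⁻¹ with hh'
  have hh'H : h' ∈ D.diagonalSubgroup K := by
    have hnorm := monomialSubgroup_le_normalizer hG hn
    have : h' = n * (n⁻¹ * extFun τ n) * n⁻¹ := by rw [hh']; group
    rw [this]
    exact conj_mem_diagonal hnorm key.1
  have en : extFun τ n = h' * n := by rw [hh']; group
  have hu₂'' : extFun τ u₂ ∈ Subgroup.closure (minusGen' D K n) := by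
    have hsub := minusGen'_diag_mul hG (inv_mem hh'H) (extFun τ n)
    have e : h'⁻¹ * extFun τ n = n := by rw [en]; group
    rw [e] at hsub
    exact Subgroup.closure_mono hsub hu₂'
  have e2 : u₁ * n * u₂ = (extFun τ u₁ * h') * n * extFun τ u₂ := by
    rw [e1, en]; group
  have key2 := ((bruhat_normal_form (F := K) hG hT h3 h4 h5 h6 h8 h9).2 u₁ (extFun τ u₁ * h') n n
    u₂ (extFun τ u₂) (hUB hu₁) (mul_mem (hUB hu₁') (hHB hh'H)) hn hn hu₂ hu₂'' e2).2 rfl
  have hh'1 : h' = 1 := by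
    have : h' ∈ D.posUnipotent K ⊓ D.diagonalSubgroup K := by
      refine Subgroup.mem_inf.mpr ⟨?_, hh'H⟩
      have e3 := key2.1
      have : h' = (extFun τ u₁)⁻¹ * u₁ := by
        calc h' = (extFun τ u₁)⁻¹ * (extFun τ u₁ * h') := by group
          _ = (extFun τ u₁)⁻¹ * u₁ := by rw [← e3]
      rw [this]
      exact mul_mem (inv_mem hu₁') hu₁
    rw [posUnipotent_inf_diagonal hG hT] at this
    exact this
  refine ⟨?_, ?_, key2.2.symm⟩
  · have e3 := key2.1
    rw [hh'1, mul_one] at e3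
    exact e3.symm
  · rw [en, hh'1, one_mul]

end rootAut

end Cfsg.Agent.Helper7.Chev
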