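import Mathlib
import Cfsg.Agent.Helper7.ChevTw6

set_option autoImplicit false
set_option linter.unusedSectionVars false
set_option linter.unusedVariables false

/-!
Twisted groups, part 7: the double cosets of `B¹ = U¹ H¹` in the twisted group.
-/

namespace Cfsg.Agent.Helper7.Chev

open Cfsg Cfsg.Lie Matrix DoubleCoset
open scoped Pointwise

variable {D : ChevalleyDatum} {K : Type*} [Field K]

theorem conj_list_prod_mem {G : Type*} [Group G] (S : Subgroup G) (n : G) (L : List G)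
    (h : ∀ x ∈ L, n⁻¹ * x * n ∈ S) : n⁻¹ * L.prod * n ∈ S := by
  induction L with
  | nil => simp
  | cons a L ih =>
    rw [List.prod_cons]
    have e : n⁻¹ * (a * L.prod) * n = (n⁻¹ * a * n) * (n⁻¹ * L.prod * n) := by group
    rw [e]
    exact mul_mem (h a List.mem_cons_self) (ih fun x hx => h x (List.mem_cons_of_mem _ hx))

section tw

variable (hG : Good2 D) (hT : T0 D) (h3 : (tabOf D).T3) (h4 : (tabOf D).T4 60) (h5 : (tabOf D).T5)
  (h6 : (tabOf D).T6) (h7 : (tabOf D).T7) (h8 : (tabOf D).T8) (h9 : (tabOf D).T9)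
  {ρ ρ' σ σ' : ℕ → ℕ} {ε : ℕ → ℤ} (h18 : T18 D ρ ρ' σ σ' ε) {cls : List (ℕ × ℕ)}
  (h19 : T19 D ρ σ cls) (h20 : (tabOf D).T20 ρ cls) (f : K ≃+* K)

/-- `U¹`. -/
def twU : Subgroup (GL D.Idx K) := D.posUnipotent K ⊓ twGroup hG h3 h4 h19 f

/-- `H¹`. -/
def twH : Subgroup (GL D.Idx K) := D.diagonalSubgroup K ⊓ twGroup hG h3 h4 h19 f

/-- `B¹ = U¹ H¹`. -/
def twB : Subgroup (GL D.Idx K) := twU hG h3 h4 h19 f ⊔ twH hG h3 h4 h19 f

/-- `N¹`. -/
def twN : Subgroup (GL D.Idx K) := D.monomialSubgroup K ⊓ twGroup hG h3 h4 h19 f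

/-- The elements `n_S`. -/
def twS : Set (GL D.Idx K) := {g | ∃ (c : ℕ × ℕ) (hc : c ∈ cls), g = clsHom hG h3 h4 h19 f hc antiSL}

/-- The subgroup generated by the `n_S` and `H¹`. -/
def twN0 : Subgroup (GL D.Idx K) := Subgroup.closure (twS hG h3 h4 h19 f) ⊔ twH hG h3 h4 h19 f

theorem mem_twU {g : GL D.Idx K} :
    g ∈ twU hG h3 h4 h19 f ↔ g ∈ D.posUnipotent K ∧ g ∈ twGroup hG h3 h4 h19 f := Subgroup.mem_inf

theorem mem_twH {g : GL D.Idx K} :
    g ∈ twH hG h3 h4 h19 f ↔ g ∈ D.diagonalSubgroup K ∧ g ∈ twGroup hG h3 h4 h19 f := Subgroup.mem_inf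

theorem mem_twN {g : GL D.Idx K} :
    g ∈ twN hG h3 h4 h19 f ↔ g ∈ D.monomialSubgroup K ∧ g ∈ twGroup hG h3 h4 h19 f := Subgroup.mem_inf

theorem twH_le_normalizer :
    twH hG h3 h4 h19 f ≤ Subgroup.normalizer (twU hG h3 h4 h19 f : Set (GL D.Idx K)) := by
  intro h hh
  rw [mem_twH] at hh
  rw [Subgroup.mem_set_normalizer_iff]
  intro x
  have hn := Subgroup.mem_set_normalizer_iff.mp (diagonalSubgroup_le_normalizer_pos hG hh.1) x
  rw [SetLike.mem_coe, SetLike.mem_coe, mem_twU, mem_twU]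
  rw [SetLike.mem_coe, SetLike.mem_coe] at hn
  constructor
  · rintro ⟨hxU, hxG⟩
    exact ⟨hn.mp hxU, mul_mem (mul_mem hh.2 hxG) (inv_mem hh.2)⟩
  · rintro ⟨hxU, hxG⟩
    refine ⟨hn.mpr hxU, ?_⟩
    have e : x = h⁻¹ * (h * x * h⁻¹) * h := by group
    rw [e]
    exact mul_mem (mul_mem (inv_mem hh.2) hxG) hh.2

theorem twB_decomp {b : GL D.Idx K} (hb : b ∈ twB hG h3 h4 h19 f) :
    ∃ u ∈ twU hG h3 h4 h19 f, ∃ h ∈ twH hG h3 h4 h19 f, b = u * h := by
  have hmul := Subgroup.coe_mul_of_right_le_normalizer_left (twU hG h3 h4 h19 f)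
    (twH hG h3 h4 h19 f) (twH_le_normalizer hG h3 h4 h19 f)
  obtain ⟨u, hu, h, hh, rfl⟩ : b ∈ (twU hG h3 h4 h19 f : Set (GL D.Idx K)) *
      (twH hG h3 h4 h19 f : Set (GL D.Idx K)) := by
    rw [← hmul]; exact hb
  exact ⟨u, hu, h, hh, rfl⟩

theorem twU_le_twB : twU hG h3 h4 h19 f ≤ twB hG h3 h4 h19 f := le_sup_left

theorem twH_le_twB : twH hG h3 h4 h19 f ≤ twB hG h3 h4 h19 f := le_sup_right

theorem twB_le_twGroup : twB hG h3 h4 h19 f ≤ twGroup hG h3 h4 h19 f :=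
  sup_le inf_le_right inf_le_right

theorem twB_le_borel : twB hG h3 h4 h19 f ≤ D.borelSubgroup K :=
  sup_le (le_trans inf_le_left le_sup_left) (le_trans inf_le_left le_sup_right)

theorem upS_le_pos (S : ℕ → Prop) : Subgroup.closure (upGenS D K S) ≤ D.posUnipotent K := by
  apply Subgroup.closure_mono
  rintro g ⟨s, t, hspos, _, hg⟩
  exact ⟨s, t, hspos, hg⟩

include hT h6 in
/-- `n_S` normalises `U_S`. -/
theorem ncls_mem_normalizer_upS {c : ℕ × ℕ} (hc : c ∈ cls) :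
    clsHom hG h3 h4 h19 f hc antiSL ∈
      Subgroup.normalizer (Subgroup.closure (upGenS D K (InCls D ρ c)) : Set (GL D.Idx K)) := by
  obtain ⟨_, _, hlt⟩ := h19.orbit c hc
  rw [clsHom_anti]
  unfold nWordGL clsWord
  apply Subgroup.list_prod_mem
  intro x hx
  rw [List.map_map, List.mem_map] at hx
  obtain ⟨j, hj, rfl⟩ := hx
  rw [List.mem_range] at hj
  simp only [Function.comp_apply]
  rw [dif_pos (hlt j hj)]
  exact nGL_mem_normalizer_upS hG hT h6 h19 hc hj (hlt j hj)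

theorem ncls_mem_monomial {c : ℕ × ℕ} (hc : c ∈ cls) :
    clsHom hG h3 h4 h19 f hc antiSL ∈ D.monomialSubgroup K := by
  rw [clsHom_anti]
  exact nWordGL_mem hG _

theorem ncls_sq_mem_twH {c : ℕ × ℕ} (hc : c ∈ cls) :
    clsHom hG h3 h4 h19 f hc antiSL * clsHom hG h3 h4 h19 f hc antiSL ∈ twH hG h3 h4 h19 f := by
  rw [mem_twH]
  refine ⟨?_, mul_mem (anti_mem_twGroup hG h3 h4 h19 f hc) (anti_mem_twGroup hG h3 h4 h19 f hc)⟩
  rw [← map_mul, antiSL_sq]
  exact clsHom_diag_mem hG h3 h4 h19 f hc _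

include hT h5 h7 h8 h18 h20 in
/-- The decomposition of an element of `B¹` with respect to a class. -/
theorem twB_decomp_cls {c : ℕ × ℕ} (hc : c ∈ cls) {b : GL D.Idx K} (hb : b ∈ twB hG h3 h4 h19 f) :
    ∃ u' ∈ Subgroup.closure (upGenS D K (InCls D ρ c)), u' ∈ twGroup hG h3 h4 h19 f ∧
      ∃ t : K, Adm f c.2 t ∧ ∃ hb' ∈ twH hG h3 h4 h19 f,
        b = u' * clsHom hG h3 h4 h19 f hc (upperSL t) * hb' := by
  obtain ⟨u, hu, hb', hhb, rfl⟩ := twB_decomp hG h3 h4 h19 f hb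
  rw [mem_twU] at hu
  have hufix : twAut h18 f u = u := twGroup_le_twFix hG h3 h4 h18 h19 f hu.2
  obtain ⟨u', hu', t, ht, rfl⟩ :=
    exists_upS_mul_cls_of_fixed hG hT h3 h4 h5 h7 h8 h18 h19 h20 f hc hu.1 hufix
  have hxG := upper_mem_twGroup hG h3 h4 h19 f hc ht
  refine ⟨u', hu', ?_, t, ht, hb', hhb, rfl⟩
  have e : u' = (u' * clsHom hG h3 h4 h19 f hc (upperSL t)) *
      (clsHom hG h3 h4 h19 f hc (upperSL t))⁻¹ := by group
  rw [e]
  exact mul_mem hu.2 (inv_mem hxG)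

include hT h6 in
theorem ncls_conj_mem_twU {c : ℕ × ℕ} (hc : c ∈ cls) {u' : GL D.Idx K}
    (hu' : u' ∈ Subgroup.closure (upGenS D K (InCls D ρ c))) (hu'G : u' ∈ twGroup hG h3 h4 h19 f) :
    clsHom hG h3 h4 h19 f hc antiSL * u' * (clsHom hG h3 h4 h19 f hc antiSL)⁻¹ ∈
      twU hG h3 h4 h19 f := by
  have hncG := anti_mem_twGroup hG h3 h4 h19 f hc
  rw [mem_twU]
  refine ⟨upS_le_pos (InCls D ρ c) ?_, mul_mem (mul_mem hncG hu'G) (inv_mem hncG)⟩
  exact (Subgroup.mem_set_normalizer_iff.mp (ncls_mem_normalizer_upS hG hT h3 h4 h6 h19 f hc) u').mp hu'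

include hT h5 h6 h7 h8 h18 h20 in
/-- The double coset condition when the class is sent to positive roots. -/
theorem tw_mul_mem_of_pos {c : ℕ × ℕ} (hc : c ∈ cls) {h : GL D.Idx K}
    (hh : h ∈ D.diagonalSubgroup K) {w : List ℕ} (hw : ∀ i ∈ w, i < D.rank)
    (hnG : h * nWordGL hG w ∈ twGroup hG h3 h4 h19 f)
    (hpos : ∀ j < c.2, D.nroots / 2 ≤ (tabOf D).reflWord w.reverse (clsRoot D ρ c.1 j))
    {b : GL D.Idx K} (hb : b ∈ twB hG h3 h4 h19 f) :
    clsHom hG h3 h4 h19 f hc antiSL * b * (h * nWordGL hG w) ∈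
      doubleCoset (clsHom hG h3 h4 h19 f hc antiSL * (h * nWordGL hG w))
        (twB hG h3 h4 h19 f : Set (GL D.Idx K)) (twB hG h3 h4 h19 f) := by
  have hG1 := hG.toGood1
  obtain ⟨hm, horb, hlt⟩ := h19.orbit c hc
  set nc : GL D.Idx K := clsHom hG h3 h4 h19 f hc antiSL with hnc
  set n : GL D.Idx K := h * nWordGL hG w with hn
  have hncG : nc ∈ twGroup hG h3 h4 h19 f := anti_mem_twGroup hG h3 h4 h19 f hc
  have hnN : n ∈ D.monomialSubgroup K :=
    mul_mem (Subgroup.mem_sup_left hh) (nWordGL_mem hG w)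
  have hnNorm := monomialSubgroup_le_normalizer hG hnN
  obtain ⟨u', hu', hu'G, t, ht, hb', hhb, rfl⟩ :=
    twB_decomp_cls hG hT h3 h4 h5 h7 h8 h18 h19 h20 f hc hb
  have hxG := upper_mem_twGroup hG h3 h4 h19 f hc ht
  have c1 : nc * u' * nc⁻¹ ∈ twB hG h3 h4 h19 f :=
    twU_le_twB hG h3 h4 h19 f (ncls_conj_mem_twU hG hT h3 h4 h6 h19 f hc hu' hu'G)
  have hhb2 := (mem_twH hG h3 h4 h19 f).mp hhb
  have c2 : n⁻¹ * hb' * n ∈ twB hG h3 h4 h19 f := by
    apply twH_le_twB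
    rw [mem_twH]
    exact ⟨conj_mem_diagonal' hnNorm hhb2.1, mul_mem (mul_mem (inv_mem hnG) hhb2.2) hnG⟩
  have c3 : n⁻¹ * clsHom hG h3 h4 h19 f hc (upperSL t) * n ∈ twB hG h3 h4 h19 f := by
    apply twU_le_twB
    rw [mem_twU]
    refine ⟨?_, mul_mem (mul_mem (inv_mem hnG) hxG) hnG⟩
    rw [clsHom_upper, xiHom_apply]
    apply conj_list_prod_mem
    intro x hx
    rw [List.mem_map] at hx
    obtain ⟨j, hj, rfl⟩ := hx
    rw [List.mem_range] at hj
    have hp : clsRoot D ρ c.1 j < D.nroots := hG1.simple_lt (hlt j hj)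
    rw [xGL'_of_lt hG1 hp]
    obtain ⟨hr, t', e, _⟩ := nW_inv_conj (K := K) hG hT h8 hh hw hp
      ((Multiplicative.toAdd (Multiplicative.ofAdd fun j => (((f : K →+* K)) ^ j) t)) j)
    rw [← hn] at e
    rw [e]
    exact Subgroup.subset_closure ⟨_, t', (isPosRoot_iff hT hr).mpr (hpos j hj), xGL_coe hG1 hr t'⟩
  refine mem_doubleCoset.mpr ⟨nc * u' * nc⁻¹, c1,
    (n⁻¹ * clsHom hG h3 h4 h19 f hc (upperSL t) * n) * (n⁻¹ * hb' * n), mul_mem c3 c2, ?_⟩
  group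

theorem twS_le_twN : Subgroup.closure (twS hG h3 h4 h19 f) ≤ twN hG h3 h4 h19 f := by
  rw [Subgroup.closure_le]
  rintro g ⟨c, hc, rfl⟩
  exact (mem_twN hG h3 h4 h19 f).mpr
    ⟨ncls_mem_monomial hG h3 h4 h19 f hc, anti_mem_twGroup hG h3 h4 h19 f hc⟩

theorem twH_le_twN : twH hG h3 h4 h19 f ≤ twN hG h3 h4 h19 f := by
  intro g hg
  rw [mem_twH] at hg
  exact (mem_twN hG h3 h4 h19 f).mpr ⟨Subgroup.mem_sup_left hg.1, hg.2⟩

theorem twN0_le_twN : twN0 hG h3 h4 h19 f ≤ twN hG h3 h4 h19 f :=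
  sup_le (twS_le_twN hG h3 h4 h19 f) (twH_le_twN hG h3 h4 h19 f)

include hT h5 h6 h7 h8 h9 h18 h20 in
/-- The double coset condition `n_S B¹ n ⊆ B¹ n_S n B¹ ∪ B¹ n B¹`. -/
theorem tw_mul_mem_union {c : ℕ × ℕ} (hc : c ∈ cls) {n b : GL D.Idx K}
    (hn : n ∈ twN hG h3 h4 h19 f) (hb : b ∈ twB hG h3 h4 h19 f) :
    clsHom hG h3 h4 h19 f hc antiSL * b * n ∈
      doubleCoset (clsHom hG h3 h4 h19 f hc antiSL * n)
        (twB hG h3 h4 h19 f : Set (GL D.Idx K)) (twB hG h3 h4 h19 f) ∪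
      doubleCoset n (twB hG h3 h4 h19 f : Set (GL D.Idx K)) (twB hG h3 h4 h19 f) := by
  have hG1 := hG.toGood1
  obtain ⟨hm, horb, hlt⟩ := h19.orbit c hc
  rw [mem_twN] at hn
  obtain ⟨h, hh, w, hw, rfl⟩ := monomialSubgroup_le_nWords hG hT h9 hn.1
  have hnG := hn.2
  have hfix : twAut h18 f (h * nWordGL hG w) = h * nWordGL hG w :=
    twGroup_le_twFix hG h3 h4 h18 h19 f hnG
  set nc : GL D.Idx K := clsHom hG h3 h4 h19 f hc antiSL with hnc
  have hncG : nc ∈ twGroup hG h3 h4 h19 f := anti_mem_twGroup hG h3 h4 h19 f hc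
  have hncN : nc ∈ D.monomialSubgroup K := ncls_mem_monomial hG h3 h4 h19 f hc
  have hncNorm := monomialSubgroup_le_normalizer hG hncN
  rcases cls_dichotomy hG hT h8 h18 h19 f hh hw hfix hc with hpos | hneg
  · left
    exact tw_mul_mem_of_pos hG hT h3 h4 h5 h6 h7 h8 h18 h19 h20 f hc hh hw hnG hpos hb
  · obtain ⟨u', hu', hu'G, t, ht, hb', hhb, rfl⟩ :=
      twB_decomp_cls hG hT h3 h4 h5 h7 h8 h18 h19 h20 f hc hb
    have c1 : nc * u' * nc⁻¹ ∈ twB hG h3 h4 h19 f :=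
      twU_le_twB hG h3 h4 h19 f (ncls_conj_mem_twU hG hT h3 h4 h6 h19 f hc hu' hu'G)
    have hhb2 := (mem_twH hG h3 h4 h19 f).mp hhb
    by_cases ht0 : t = 0
    · left
      have hx1 : clsHom hG h3 h4 h19 f hc (upperSL t) = 1 := by
        rw [ht0]
        have : (upperSL (0 : K)) = 1 := by
          apply Subtype.ext
          change !![1, (0 : K); 0, 1] = 1
          ext i j
          fin_cases i <;> fin_cases j <;> simp
        rw [this, map_one]
      have c2 : nc * hb' * nc⁻¹ ∈ twB hG h3 h4 h19 f := by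
        apply twH_le_twB
        rw [mem_twH]
        exact ⟨conj_mem_diagonal hncNorm hhb2.1, mul_mem (mul_mem hncG hhb2.2) (inv_mem hncG)⟩
      refine mem_doubleCoset.mpr ⟨(nc * u' * nc⁻¹) * (nc * hb' * nc⁻¹), mul_mem c1 c2, 1, one_mem _, ?_⟩
      rw [hx1]
      group
    · right
      -- the rank one identity
      have hs0 : -t ≠ 0 := neg_ne_zero.mpr ht0
      set s : K := (-t)⁻¹ with hs
      have hd0 : -(-t)⁻¹ ≠ 0 := neg_ne_zero.mpr (inv_ne_zero hs0)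
      have hsadm : Adm f c.2 s := ht.neg.inv
      have hdadm : Adm f c.2 (-(-t)⁻¹) := ht.neg.inv.neg
      have hsl : (antiSL : Matrix.SpecialLinearGroup (Fin 2) K) * upperSL t =
          upperSL s * diagSL (-(-t)⁻¹) hd0 * antiSL * upperSL s * antiSL := by
        rw [antiSL_mul_upper, lowerSL_eq hs0]
      have hsl' : nc * clsHom hG h3 h4 h19 f hc (upperSL t) =
          clsHom hG h3 h4 h19 f hc (upperSL s) * clsHom hG h3 h4 h19 f hc (diagSL (-(-t)⁻¹) hd0) * nc *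
            clsHom hG h3 h4 h19 f hc (upperSL s) * nc := by
        rw [hnc, ← map_mul, hsl, map_mul, map_mul, map_mul, map_mul]
      have hxs : clsHom hG h3 h4 h19 f hc (upperSL s) ∈ twB hG h3 h4 h19 f :=
        twU_le_twB hG h3 h4 h19 f ((mem_twU hG h3 h4 h19 f).mpr
          ⟨clsHom_upper_mem hG hT h3 h4 h19 f hc s, upper_mem_twGroup hG h3 h4 h19 f hc hsadm⟩)
      have hhd : clsHom hG h3 h4 h19 f hc (diagSL (-(-t)⁻¹) hd0) ∈ twB hG h3 h4 h19 f :=
        twH_le_twB hG h3 h4 h19 f ((mem_twH hG h3 h4 h19 f).mpr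
          ⟨clsHom_diag_mem hG h3 h4 h19 f hc hd0, diag_mem_twGroup hG h3 h4 h19 f hc hd0 hdadm⟩)
      -- the element `n'' = n_S h' n`
      have hcw := clsWord_lt (D := D) h19 hc
      have hw'' : ∀ i ∈ clsWord ρ c ++ w, i < D.rank := by
        intro i hi
        rcases List.mem_append.mp hi with hi | hi
        · exact hcw i hi
        · exact hw i hi
      have hh'' : nc * (hb' * h) * nc⁻¹ ∈ D.diagonalSubgroup K :=
        conj_mem_diagonal hncNorm (mul_mem hhb2.1 hh)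
      have en'' : (nc * (hb' * h) * nc⁻¹) * nWordGL hG (clsWord ρ c ++ w) =
          nc * hb' * (h * nWordGL hG w) := by
        rw [nWordGL_append, ← clsHom_anti hG h3 h4 h19 f hc, ← hnc]
        group
      have hn''G : (nc * (hb' * h) * nc⁻¹) * nWordGL hG (clsWord ρ c ++ w) ∈
          twGroup hG h3 h4 h19 f := by
        rw [en'']
        exact mul_mem (mul_mem hncG hhb2.2) hnG
      have hrev : ∀ i ∈ w.reverse, i < D.rank := fun i hi => hw i (List.mem_reverse.mp hi)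
      have hpos'' : ∀ j < c.2, D.nroots / 2 ≤
          (tabOf D).reflWord (clsWord ρ c ++ w).reverse (clsRoot D ρ c.1 j) := by
        intro j hj
        have hp : clsRoot D ρ c.1 j < D.nroots := hG1.simple_lt (hlt j hj)
        rw [List.reverse_append, reflWord_append, reflWord_clsWord_reverse hG h19 hc hj,
          reflWord_neg hG hrev hp]
        exact neg_pos_of_neg hG hT (reflWord_lt hG hrev hp) (hneg j hj)
      have hC := tw_mul_mem_of_pos hG hT h3 h4 h5 h6 h7 h8 h18 h19 h20 f hc hh'' hw'' hn''G hpos'' hxs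
      rw [en'', ← hnc] at hC
      obtain ⟨b₃, hb₃, b₄, hb₄, e2⟩ := mem_doubleCoset.mp hC
      have hsq : nc * nc ∈ twB hG h3 h4 h19 f :=
        twH_le_twB hG h3 h4 h19 f (ncls_sq_mem_twH hG h3 h4 h19 f hc)
      refine mem_doubleCoset.mpr ⟨(nc * u' * nc⁻¹) * clsHom hG h3 h4 h19 f hc (upperSL s) *
        clsHom hG h3 h4 h19 f hc (diagSL (-(-t)⁻¹) hd0) * b₃ * (nc * nc * hb'), ?_, b₄, hb₄, ?_⟩
      · exact mul_mem (mul_mem (mul_mem (mul_mem c1 hxs) hhd) hb₃)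
          (mul_mem hsq (twH_le_twB hG h3 h4 h19 f hhb))
      · calc nc * (u' * clsHom hG h3 h4 h19 f hc (upperSL t) * hb') * (h * nWordGL hG w)
            = (nc * u' * nc⁻¹) * (nc * clsHom hG h3 h4 h19 f hc (upperSL t)) *
                (hb' * (h * nWordGL hG w)) := by group
          _ = (nc * u' * nc⁻¹) * clsHom hG h3 h4 h19 f hc (upperSL s) *
                clsHom hG h3 h4 h19 f hc (diagSL (-(-t)⁻¹) hd0) *
                (nc * clsHom hG h3 h4 h19 f hc (upperSL s) * (nc * hb' * (h * nWordGL hG w))) := by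
              rw [hsl']; group
          _ = (nc * u' * nc⁻¹) * clsHom hG h3 h4 h19 f hc (upperSL s) *
                clsHom hG h3 h4 h19 f hc (diagSL (-(-t)⁻¹) hd0) *
                (b₃ * (nc * (nc * hb' * (h * nWordGL hG w))) * b₄) := by rw [e2]
          _ = _ := by group

end tw

end Cfsg.Agent.Helper7.Chev
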