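import Mathlib
import Cfsg.Agent.Helper7.ChevTw7

set_option autoImplicit false
set_option linter.unusedSectionVars false
set_option linter.unusedVariables false

/-!
Twisted groups, part 8: the decomposition `G¹ = B¹ N¹ B¹` and the intersections of the twisted group with `B` and
`N`.
-/

namespace Cfsg.Agent.Helper7.Chev

open Cfsg Cfsg.Lie Matrix DoubleCoset
open scoped Pointwise

variable {D : ChevalleyDatum} {K : Type*} [Field K]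

section tw

variable (hG : Good2 D) (hT : T0 D) (h3 : (tabOf D).T3) (h4 : (tabOf D).T4 60) (h5 : (tabOf D).T5)
  (h6 : (tabOf D).T6) (h7 : (tabOf D).T7) (h8 : (tabOf D).T8) (h9 : (tabOf D).T9)
  {ρ ρ' σ σ' : ℕ → ℕ} {ε : ℕ → ℤ} (h18 : T18 D ρ ρ' σ σ' ε) {cls : List (ℕ × ℕ)}
  (h19 : T19 D ρ σ cls) (h20 : (tabOf D).T20 ρ cls) (f : K ≃+* K)

/-- The union of the double cosets of the elements of `⟨n_S⟩ H¹`. -/
def twBNB : Set (GL D.Idx K) :=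
  {g | ∃ n ∈ twN0 hG h3 h4 h19 f, g ∈ doubleCoset n (twB hG h3 h4 h19 f : Set (GL D.Idx K))
    (twB hG h3 h4 h19 f)}

theorem twBNB_mul_left {b g : GL D.Idx K} (hb : b ∈ twB hG h3 h4 h19 f)
    (hg : g ∈ twBNB hG h3 h4 h19 f) : b * g ∈ twBNB hG h3 h4 h19 f := by
  obtain ⟨n, hn, hg⟩ := hg
  obtain ⟨b₁, hb₁, b₂, hb₂, rfl⟩ := mem_doubleCoset.mp hg
  refine ⟨n, hn, mem_doubleCoset.mpr ⟨b * b₁, mul_mem hb hb₁, b₂, hb₂, ?_⟩⟩
  group

theorem ncls_mem_twN0 {c : ℕ × ℕ} (hc : c ∈ cls) :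
    clsHom hG h3 h4 h19 f hc antiSL ∈ twN0 hG h3 h4 h19 f :=
  Subgroup.mem_sup_left (Subgroup.subset_closure ⟨c, hc, rfl⟩)

include hT h5 h6 h7 h8 h9 h18 h20 in
theorem twBNB_ncls_mul {c : ℕ × ℕ} (hc : c ∈ cls) {g : GL D.Idx K}
    (hg : g ∈ twBNB hG h3 h4 h19 f) :
    clsHom hG h3 h4 h19 f hc antiSL * g ∈ twBNB hG h3 h4 h19 f := by
  obtain ⟨n, hn, hg⟩ := hg
  obtain ⟨b₁, hb₁, b₂, hb₂, rfl⟩ := mem_doubleCoset.mp hg
  have key := tw_mul_mem_union hG hT h3 h4 h5 h6 h7 h8 h9 h18 h19 h20 f hc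
    (twN0_le_twN hG h3 h4 h19 f hn) hb₁
  rcases key with key | key
  · obtain ⟨b₃, hb₃, b₄, hb₄, e⟩ := mem_doubleCoset.mp key
    refine ⟨clsHom hG h3 h4 h19 f hc antiSL * n,
      mul_mem (ncls_mem_twN0 hG h3 h4 h19 f hc) hn,
      mem_doubleCoset.mpr ⟨b₃, hb₃, b₄ * b₂, mul_mem hb₄ hb₂, ?_⟩⟩
    calc clsHom hG h3 h4 h19 f hc antiSL * (b₁ * n * b₂)
        = (clsHom hG h3 h4 h19 f hc antiSL * b₁ * n) * b₂ := by group
      _ = _ := by rw [e]; group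
  · obtain ⟨b₃, hb₃, b₄, hb₄, e⟩ := mem_doubleCoset.mp key
    refine ⟨n, hn, mem_doubleCoset.mpr ⟨b₃, hb₃, b₄ * b₂, mul_mem hb₄ hb₂, ?_⟩⟩
    calc clsHom hG h3 h4 h19 f hc antiSL * (b₁ * n * b₂)
        = (clsHom hG h3 h4 h19 f hc antiSL * b₁ * n) * b₂ := by group
      _ = _ := by rw [e]; group

include hT h5 h6 h7 h8 h9 h18 h20 in
theorem twBNB_ncls_inv_mul {c : ℕ × ℕ} (hc : c ∈ cls) {g : GL D.Idx K}
    (hg : g ∈ twBNB hG h3 h4 h19 f) :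
    (clsHom hG h3 h4 h19 f hc antiSL)⁻¹ * g ∈ twBNB hG h3 h4 h19 f := by
  have e : (clsHom hG h3 h4 h19 f hc antiSL)⁻¹ * g =
      (clsHom hG h3 h4 h19 f hc antiSL * clsHom hG h3 h4 h19 f hc antiSL)⁻¹ *
        (clsHom hG h3 h4 h19 f hc antiSL * g) := by group
  rw [e]
  exact twBNB_mul_left hG h3 h4 h19 f
    (inv_mem (twH_le_twB hG h3 h4 h19 f (ncls_sq_mem_twH hG h3 h4 h19 f hc)))
    (twBNB_ncls_mul hG hT h3 h4 h5 h6 h7 h8 h9 h18 h19 h20 f hc hg)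

theorem lowerSL_eq_conj (t : K) :
    lowerSL t = (antiSL : Matrix.SpecialLinearGroup (Fin 2) K) * upperSL (-t) * antiSL⁻¹ := by
  rw [antiSL_mul_upper, neg_neg]
  group

include hT in
/-- The generators of the twisted group lie in `B¹` or are conjugates under some `n_S` of elements of `B¹`. -/
theorem twGen_cases {g : GL D.Idx K} (hg : g ∈ twGen hG h3 h4 h19 f) :
    g ∈ twB hG h3 h4 h19 f ∨ ∃ (c : ℕ × ℕ) (hc : c ∈ cls), ∃ b ∈ twB hG h3 h4 h19 f,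
      g = clsHom hG h3 h4 h19 f hc antiSL * b * (clsHom hG h3 h4 h19 f hc antiSL)⁻¹ := by
  obtain ⟨c, hc, t, ht, rfl | rfl⟩ := hg
  · left
    exact twU_le_twB hG h3 h4 h19 f ((mem_twU hG h3 h4 h19 f).mpr
      ⟨clsHom_upper_mem hG hT h3 h4 h19 f hc t, upper_mem_twGroup hG h3 h4 h19 f hc ht⟩)
  · right
    refine ⟨c, hc, clsHom hG h3 h4 h19 f hc (upperSL (-t)), ?_, ?_⟩
    · exact twU_le_twB hG h3 h4 h19 f ((mem_twU hG h3 h4 h19 f).mpr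
        ⟨clsHom_upper_mem hG hT h3 h4 h19 f hc (-t), upper_mem_twGroup hG h3 h4 h19 f hc ht.neg⟩)
    · rw [lowerSL_eq_conj, map_mul, map_mul, map_inv]

include hT h5 h6 h7 h8 h9 h18 h20 in
/-- `G¹ = B¹ ⟨n_S⟩ H¹ B¹`. -/
theorem twGroup_le_twBNB {g : GL D.Idx K} (hg : g ∈ twGroup hG h3 h4 h19 f) :
    g ∈ twBNB hG h3 h4 h19 f := by
  have hone : (1 : GL D.Idx K) ∈ twBNB hG h3 h4 h19 f :=
    ⟨1, one_mem _, mem_doubleCoset.mpr ⟨1, one_mem _, 1, one_mem _, by group⟩⟩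
  have hgen : ∀ x ∈ twGen hG h3 h4 h19 f, ∀ y ∈ twBNB hG h3 h4 h19 f,
      x * y ∈ twBNB hG h3 h4 h19 f ∧ x⁻¹ * y ∈ twBNB hG h3 h4 h19 f := by
    intro x hx y hy
    rcases twGen_cases hG hT h3 h4 h19 f hx with hxB | ⟨c, hc, b, hb, rfl⟩
    · exact ⟨twBNB_mul_left hG h3 h4 h19 f hxB hy, twBNB_mul_left hG h3 h4 h19 f (inv_mem hxB) hy⟩
    · constructor
      · have e : clsHom hG h3 h4 h19 f hc antiSL * b * (clsHom hG h3 h4 h19 f hc antiSL)⁻¹ * y =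
            clsHom hG h3 h4 h19 f hc antiSL * (b * ((clsHom hG h3 h4 h19 f hc antiSL)⁻¹ * y)) := by
          group
        rw [e]
        exact twBNB_ncls_mul hG hT h3 h4 h5 h6 h7 h8 h9 h18 h19 h20 f hc
          (twBNB_mul_left hG h3 h4 h19 f hb
            (twBNB_ncls_inv_mul hG hT h3 h4 h5 h6 h7 h8 h9 h18 h19 h20 f hc hy))
      · have e : (clsHom hG h3 h4 h19 f hc antiSL * b * (clsHom hG h3 h4 h19 f hc antiSL)⁻¹)⁻¹ * y =
            clsHom hG h3 h4 h19 f hc antiSL * (b⁻¹ * ((clsHom hG h3 h4 h19 f hc antiSL)⁻¹ * y)) := by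
          group
        rw [e]
        exact twBNB_ncls_mul hG hT h3 h4 h5 h6 h7 h8 h9 h18 h19 h20 f hc
          (twBNB_mul_left hG h3 h4 h19 f (inv_mem hb)
            (twBNB_ncls_inv_mul hG hT h3 h4 h5 h6 h7 h8 h9 h18 h19 h20 f hc hy))
  unfold twGroup at hg
  induction hg using Subgroup.closure_induction_left with
  | one => exact hone
  | mul_left x hx y _ ih => exact (hgen x hx y ih).1
  | inv_mul_cancel x hx y _ ih => exact (hgen x hx y ih).2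

include hT h3 h4 h5 h6 h7 h8 h9 h18 h20 in
/-- `B ∩ G¹ = U¹ H¹`. -/
theorem borel_inf_twGroup :
    D.borelSubgroup K ⊓ twGroup hG h3 h4 h19 f = twB hG h3 h4 h19 f := by
  apply le_antisymm
  · intro b hb
    rw [Subgroup.mem_inf] at hb
    obtain ⟨n, hn, hbn⟩ := twGroup_le_twBNB hG hT h3 h4 h5 h6 h7 h8 h9 h18 h19 h20 f hb.2
    obtain ⟨b₁, hb₁, b₂, hb₂, e⟩ := mem_doubleCoset.mp hbn
    have hnN := (mem_twN hG h3 h4 h19 f).mp (twN0_le_twN hG h3 h4 h19 f hn)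
    have e' : n = b₁⁻¹ * b * b₂⁻¹ := by rw [e]; group
    have hnB : n ∈ D.borelSubgroup K := by
      rw [e']
      exact mul_mem (mul_mem (inv_mem (twB_le_borel hG h3 h4 h19 f hb₁)) hb.1)
        (inv_mem (twB_le_borel hG h3 h4 h19 f hb₂))
    have hnH : n ∈ D.diagonalSubgroup K := by
      rw [← borel_inf_monomial hG hT h6 h8 h9]
      exact Subgroup.mem_inf.mpr ⟨hnB, hnN.1⟩
    rw [e]
    exact mul_mem (mul_mem hb₁ (twH_le_twB hG h3 h4 h19 f ((mem_twH hG h3 h4 h19 f).mpr ⟨hnH, hnN.2⟩)))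
      hb₂
  · exact le_inf (twB_le_borel hG h3 h4 h19 f) (twB_le_twGroup hG h3 h4 h19 f)

include hT h3 h4 h5 h6 h7 h8 h9 h18 h20 in
/-- `N ∩ G¹ = ⟨n_S⟩ H¹`. -/
theorem monomial_inf_twGroup :
    twN hG h3 h4 h19 f = twN0 hG h3 h4 h19 f := by
  apply le_antisymm
  · intro n hn
    rw [mem_twN] at hn
    obtain ⟨n₀, hn₀, hnn⟩ := twGroup_le_twBNB hG hT h3 h4 h5 h6 h7 h8 h9 h18 h19 h20 f hn.2
    obtain ⟨b₁, hb₁, b₂, hb₂, e⟩ := mem_doubleCoset.mp hnn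
    have hn₀N := (mem_twN hG h3 h4 h19 f).mp (twN0_le_twN hG h3 h4 h19 f hn₀)
    have hH := monomial_inv_mul_mem_diagonal hG hT h3 h4 h5 h6 h8 h9 hn₀N.1 hn.1
      (twB_le_borel hG h3 h4 h19 f hb₁) (twB_le_borel hG h3 h4 h19 f hb₂) e
    have e' : n = n₀ * (n₀⁻¹ * n) := by group
    rw [e']
    refine mul_mem hn₀ (Subgroup.mem_sup_right ((mem_twH hG h3 h4 h19 f).mpr ⟨hH, ?_⟩))
    exact mul_mem (inv_mem hn₀N.2) hn.2
  · exact twN0_le_twN hG h3 h4 h19 f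

end tw

end Cfsg.Agent.Helper7.Chev
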