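import Mathlib
import Cfsg.Agent.Helper7.ChevTw8

set_option autoImplicit false
set_option linter.unusedSectionVars false
set_option linter.unusedVariables false

/-!
Twisted groups, part 9: the `(B, N)`-pair of a twisted group.
-/

namespace Cfsg.Agent.Helper7.Chev

open Cfsg Cfsg.Lie Matrix DoubleCoset
open scoped Pointwise

variable {D : ChevalleyDatum} {K : Type*} [Field K]

theorem exists_lift_closure {G : Type*} [Group G] (H : Subgroup G) (T : Set G)
    (hT : T ⊆ (H : Set G)) {y : G} (hy : y ∈ Subgroup.closure T) :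
    ∃ y' : ↥H, (y' : G) = y ∧ y' ∈ Subgroup.closure {x : ↥H | (x : G) ∈ T} := by
  induction hy using Subgroup.closure_induction with
  | mem x hx => exact ⟨⟨x, hT hx⟩, rfl, Subgroup.subset_closure hx⟩
  | one => exact ⟨1, rfl, one_mem _⟩
  | mul a b _ _ ha hb =>
    obtain ⟨a', rfl, ha'⟩ := ha
    obtain ⟨b', rfl, hb'⟩ := hb
    exact ⟨a' * b', rfl, mul_mem ha' hb'⟩
  | inv a _ ha =>
    obtain ⟨a', rfl, ha'⟩ := ha
    exact ⟨a'⁻¹, rfl, inv_mem ha'⟩

section tw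

variable (hG : Good2 D) (hT : T0 D) (h3 : (tabOf D).T3) (h4 : (tabOf D).T4 60) (h5 : (tabOf D).T5)
  (h6 : (tabOf D).T6) (h7 : (tabOf D).T7) (h8 : (tabOf D).T8) (h9 : (tabOf D).T9)
  {ρ ρ' σ σ' : ℕ → ℕ} {ε : ℕ → ℤ} (h18 : T18 D ρ ρ' σ σ' ε) {cls : List (ℕ × ℕ)}
  (h19 : T19 D ρ σ cls) (h20 : (tabOf D).T20 ρ cls) (f : K ≃+* K)

include hT h6 h8 h9 in
/-- Distinct `n_S` are distinct modulo `B`. -/
theorem ncls_inv_mul_not_mem_borel {c c' : ℕ × ℕ} (hc : c ∈ cls) (hc' : c' ∈ cls) (hne : c ≠ c') :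
    (clsHom hG h3 h4 h19 f hc antiSL)⁻¹ * clsHom hG h3 h4 h19 f hc' antiSL ∉ D.borelSubgroup K := by
  have hG1 := hG.toGood1
  obtain ⟨hm, horb, hlt⟩ := h19.orbit c hc
  obtain ⟨hm', horb', hlt'⟩ := h19.orbit c' hc'
  set nc : GL D.Idx K := clsHom hG h3 h4 h19 f hc antiSL with hnc
  set nc' : GL D.Idx K := clsHom hG h3 h4 h19 f hc' antiSL with hnc'
  intro hB
  have hN : nc⁻¹ * nc' ∈ D.monomialSubgroup K :=
    mul_mem (inv_mem (ncls_mem_monomial hG h3 h4 h19 f hc)) (ncls_mem_monomial hG h3 h4 h19 f hc')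
  have hH : nc⁻¹ * nc' ∈ D.diagonalSubgroup K := by
    rw [← borel_inf_monomial hG hT h6 h8 h9]
    exact Subgroup.mem_inf.mpr ⟨hB, hN⟩
  have hi' : c'.1 < D.rank := hlt' 0 hm'
  have hp : clsRoot D ρ c'.1 0 < D.nroots := hG1.simple_lt hi'
  have hppos : D.nroots / 2 ≤ clsRoot D ρ c'.1 0 := simple_pos hG1 hT hi'
  obtain ⟨t', ht'⟩ := diagonal_conj_xGL hG hH hp (1 : K)
  -- the root is not in the class `c`
  have hnot : ¬ InCls D ρ c (clsRoot D ρ c'.1 0) := by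
    rintro ⟨j, hj, hj'⟩
    have hjr := hlt j hj
    by_cases hcase : ρ^[j] c.1 = c'.1
    · exact h19.disj c hc c' hc' hne j hj hcase
    · exact simple_ne hG hjr hi' hcase hj'.symm
  have hup : xGL hG1 hp t' ∈ Subgroup.closure (upGenS D K (InCls D ρ c)) :=
    Subgroup.subset_closure ⟨_, t', (isPosRoot_iff hT hp).mpr hppos, hnot, xGL_coe hG1 hp t'⟩
  have h1 : nc' * xGL hG1 hp 1 * nc'⁻¹ ∈ D.borelSubgroup K := by
    have e : nc' * xGL hG1 hp 1 * nc'⁻¹ =
        nc * ((nc⁻¹ * nc') * xGL hG1 hp 1 * (nc⁻¹ * nc')⁻¹) * nc⁻¹ := by group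
    rw [e, ht']
    apply Subgroup.mem_sup_left
    apply upS_le_pos (InCls D ρ c)
    exact (Subgroup.mem_set_normalizer_iff.mp
      (ncls_mem_normalizer_upS hG hT h3 h4 h6 h19 f hc) _).mp hup
  -- but it is a non-trivial element of `V`
  have hw := clsWord_lt (D := D) h19 hc'
  have c := nWordGL_conj (F := K) hG hw hp 1
  rw [← clsHom_anti hG h3 h4 h19 f hc', ← hnc'] at c
  rw [c] at h1
  have hr := reflWord_lt hG hw hp
  have hneg : (tabOf D).reflWord (clsWord ρ c') (clsRoot D ρ c'.1 0) < D.nroots / 2 := by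
    rw [reflWord_clsWord hG h19 hc' hm']
    exact neg_neg_of_pos hG hT hp hppos
  have hV : xGL hG1 hr ((((tabOf D).etaWord (clsWord ρ c') (clsRoot D ρ c'.1 0) : ℤ) : K) * 1) ∈
      D.negUnipotent K :=
    Subgroup.subset_closure ⟨_, _, (isNegRoot_iff hT hr).mpr hneg, xGL_coe hG1 hr _⟩
  have hmem : xGL hG1 hr ((((tabOf D).etaWord (clsWord ρ c') (clsRoot D ρ c'.1 0) : ℤ) : K) * 1) ∈
      D.borelSubgroup K ⊓ D.negUnipotent K := Subgroup.mem_inf.mpr ⟨h1, hV⟩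
  rw [borel_inf_negUnipotent hG hT, Subgroup.mem_bot] at hmem
  refine xGL_ne_one hG hT h8 hr ?_ hmem
  rw [mul_one]
  exact etaWord_cast_ne_zero hG hw hp

include hT h7 h8 h20 in
/-- `n_S x_S(1) n_S⁻¹ ∉ B`. -/
theorem ncls_conj_not_mem_borel {c : ℕ × ℕ} (hc : c ∈ cls) :
    clsHom hG h3 h4 h19 f hc antiSL * clsHom hG h3 h4 h19 f hc (upperSL 1) *
      (clsHom hG h3 h4 h19 f hc antiSL)⁻¹ ∉ D.borelSubgroup K := by
  obtain ⟨hm, horb, hlt⟩ := h19.orbit c hc
  intro hB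
  have e : clsHom hG h3 h4 h19 f hc antiSL * clsHom hG h3 h4 h19 f hc (upperSL 1) *
      (clsHom hG h3 h4 h19 f hc antiSL)⁻¹ = clsHom hG h3 h4 h19 f hc (lowerSL (-1)) := by
    rw [lowerSL_eq_conj, neg_neg, map_mul, map_mul, map_inv]
  have hV : clsHom hG h3 h4 h19 f hc (lowerSL (-1)) ∈ D.negUnipotent K :=
    clsHom_lower_mem hG hT h3 h4 h19 f hc _
  have hmem : clsHom hG h3 h4 h19 f hc (lowerSL (-1)) ∈ D.borelSubgroup K ⊓ D.negUnipotent K :=
    Subgroup.mem_inf.mpr ⟨e ▸ hB, hV⟩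
  rw [borel_inf_negUnipotent hG hT, Subgroup.mem_bot] at hmem
  rw [← e] at hmem
  have hx : clsHom hG h3 h4 h19 f hc (upperSL 1) = 1 := by
    have e2 : clsHom hG h3 h4 h19 f hc (upperSL 1) =
        (clsHom hG h3 h4 h19 f hc antiSL)⁻¹ * (clsHom hG h3 h4 h19 f hc antiSL *
          clsHom hG h3 h4 h19 f hc (upperSL 1) * (clsHom hG h3 h4 h19 f hc antiSL)⁻¹) *
          clsHom hG h3 h4 h19 f hc antiSL := by group
    rw [e2, hmem]; group
  rw [clsHom_upper] at hx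
  have := xiHom_eq_one hG hT h3 h4 h7 h8 h19 h20 hc hx 0 hm
  rw [toAdd_ofAdd, pow_zero] at this
  exact one_ne_zero this

include hT h3 h4 h5 h6 h7 h8 h9 h18 h20 in
/-- The `(B, N)`-pair of a twisted group. -/
theorem exists_bnPair_tw :
    ∃ P : Cfsg.BNPair ↥(twGroup hG h3 h4 h19 f),
      P.B = (D.borelSubgroup K ⊓ twGroup hG h3 h4 h19 f).subgroupOf (twGroup hG h3 h4 h19 f) ∧
      P.N = (D.monomialSubgroup K ⊓ twGroup hG h3 h4 h19 f).subgroupOf (twGroup hG h3 h4 h19 f) ∧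
      P.S = {n : ↥(twGroup hG h3 h4 h19 f) | (n : GL D.Idx K) ∈ twS hG h3 h4 h19 f} := by
  have hG1 := hG.toGood1
  have hBeq := borel_inf_twGroup hG hT h3 h4 h5 h6 h7 h8 h9 h18 h19 h20 f
  have hNeq := monomial_inf_twGroup hG hT h3 h4 h5 h6 h7 h8 h9 h18 h19 h20 f
  have hHB : D.diagonalSubgroup K ≤ D.borelSubgroup K := le_sup_right
  have hBNH := borel_inf_monomial (F := K) hG hT h6 h8 h9
  have hBG : D.borelSubgroup K ⊓ twGroup hG h3 h4 h19 f ≤ twGroup hG h3 h4 h19 f := inf_le_right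
  have hNG : D.monomialSubgroup K ⊓ twGroup hG h3 h4 h19 f ≤ twGroup hG h3 h4 h19 f := inf_le_right
  have memB : ∀ x : ↥(twGroup hG h3 h4 h19 f),
      x ∈ (D.borelSubgroup K ⊓ twGroup hG h3 h4 h19 f).subgroupOf (twGroup hG h3 h4 h19 f) ↔
        (x : GL D.Idx K) ∈ D.borelSubgroup K := by
    intro x
    rw [Subgroup.mem_subgroupOf, Subgroup.mem_inf]
    exact ⟨fun h => h.1, fun h => ⟨h, x.2⟩⟩
  have memN : ∀ x : ↥(twGroup hG h3 h4 h19 f),
      x ∈ (D.monomialSubgroup K ⊓ twGroup hG h3 h4 h19 f).subgroupOf (twGroup hG h3 h4 h19 f) ↔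
        (x : GL D.Idx K) ∈ D.monomialSubgroup K := by
    intro x
    rw [Subgroup.mem_subgroupOf, Subgroup.mem_inf]
    exact ⟨fun h => h.1, fun h => ⟨h, x.2⟩⟩
  have memB' : ∀ x : ↥(twGroup hG h3 h4 h19 f),
      (x : GL D.Idx K) ∈ D.borelSubgroup K ↔ (x : GL D.Idx K) ∈ twB hG h3 h4 h19 f := by
    intro x
    rw [← hBeq, Subgroup.mem_inf]
    exact ⟨fun h => ⟨h, x.2⟩, fun h => h.1⟩
  refine ⟨{ B := (D.borelSubgroup K ⊓ twGroup hG h3 h4 h19 f).subgroupOf (twGroup hG h3 h4 h19 f)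
            N := (D.monomialSubgroup K ⊓ twGroup hG h3 h4 h19 f).subgroupOf (twGroup hG h3 h4 h19 f)
            S := {n : ↥(twGroup hG h3 h4 h19 f) | (n : GL D.Idx K) ∈ twS hG h3 h4 h19 f}
            sup_eq_top := ?_
            conj_mem := ?_
            subset := ?_
            sq_mem := ?_
            inj := ?_
            closure_sup := ?_
            mul_mem_union := ?_
            conj_ne := ?_ }, rfl, rfl, rfl⟩
  · -- `B` and `N` generate
    rw [← Subgroup.subgroupOf_sup hBG hNG]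
    have : (D.borelSubgroup K ⊓ twGroup hG h3 h4 h19 f) ⊔
        (D.monomialSubgroup K ⊓ twGroup hG h3 h4 h19 f) = twGroup hG h3 h4 h19 f := by
      apply le_antisymm (sup_le hBG hNG)
      have hcl : Subgroup.closure (twGen hG h3 h4 h19 f) ≤
          (D.borelSubgroup K ⊓ twGroup hG h3 h4 h19 f) ⊔
            (D.monomialSubgroup K ⊓ twGroup hG h3 h4 h19 f) := by
        rw [Subgroup.closure_le]
        intro g hg
        rcases twGen_cases hG hT h3 h4 h19 f hg with hgB | ⟨c, hc, b, hb, rfl⟩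
        · apply Subgroup.mem_sup_left
          rw [hBeq]; exact hgB
        · have hncN : clsHom hG h3 h4 h19 f hc antiSL ∈
              D.monomialSubgroup K ⊓ twGroup hG h3 h4 h19 f :=
            Subgroup.mem_inf.mpr
              ⟨ncls_mem_monomial hG h3 h4 h19 f hc, anti_mem_twGroup hG h3 h4 h19 f hc⟩
          exact mul_mem (mul_mem (Subgroup.mem_sup_right hncN)
            (Subgroup.mem_sup_left (by rw [hBeq]; exact hb))) (inv_mem (Subgroup.mem_sup_right hncN))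
      exact hcl
    rw [this, Subgroup.subgroupOf_self]
  · intro n hn t ht
    rw [memN] at hn
    rw [Subgroup.mem_inf, memB, memN] at ht
    rw [memB]
    have htH : (t : GL D.Idx K) ∈ D.diagonalSubgroup K := by
      rw [← hBNH]
      exact Subgroup.mem_inf.mpr ht
    rw [Subgroup.coe_mul, Subgroup.coe_mul, Subgroup.coe_inv]
    exact hHB (conj_mem_diagonal (monomialSubgroup_le_normalizer hG hn) htH)
  · rintro n ⟨c, hc, hn⟩
    change n ∈ (D.monomialSubgroup K ⊓ twGroup hG h3 h4 h19 f).subgroupOf (twGroup hG h3 h4 h19 f)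
    rw [memN, hn]
    exact ncls_mem_monomial hG h3 h4 h19 f hc
  · rintro s ⟨c, hc, hs⟩
    rw [memB, Subgroup.coe_mul, hs]
    exact twB_le_borel hG h3 h4 h19 f
      (twH_le_twB hG h3 h4 h19 f (ncls_sq_mem_twH hG h3 h4 h19 f hc))
  · rintro s ⟨c, hc, hs⟩ s' ⟨c', hc', hs'⟩ hmem
    by_cases hcc : c = c'
    · subst hcc
      exact Subtype.ext (hs.trans hs'.symm)
    · exfalso
      rw [memB, Subgroup.coe_mul, Subgroup.coe_inv, hs, hs'] at hmem
      exact ncls_inv_mul_not_mem_borel hG hT h3 h4 h6 h8 h9 h19 f hc hc' hcc hmem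
  · apply le_antisymm
    · apply sup_le
      · rw [Subgroup.closure_le]
        rintro n ⟨c, hc, hn⟩
        change n ∈ (D.monomialSubgroup K ⊓ twGroup hG h3 h4 h19 f).subgroupOf
          (twGroup hG h3 h4 h19 f)
        rw [memN, hn]
        exact ncls_mem_monomial hG h3 h4 h19 f hc
      · exact inf_le_right
    · intro n hn
      rw [memN] at hn
      have hn' : (n : GL D.Idx K) ∈ twN0 hG h3 h4 h19 f := by
        rw [← hNeq, mem_twN]
        exact ⟨hn, n.2⟩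
      unfold twN0 at hn'
      rw [← Subgroup.closure_eq (twH hG h3 h4 h19 f), ← Subgroup.closure_union] at hn'
      have hsub : twS hG h3 h4 h19 f ∪ (twH hG h3 h4 h19 f : Set (GL D.Idx K)) ⊆
          (twGroup hG h3 h4 h19 f : Set (GL D.Idx K)) := by
        rintro g (⟨c, hc, rfl⟩ | hg)
        · exact anti_mem_twGroup hG h3 h4 h19 f hc
        · exact ((mem_twH hG h3 h4 h19 f).mp hg).2
      obtain ⟨y', hy', hy'S⟩ := exists_lift_closure (twGroup hG h3 h4 h19 f) _ hsub hn'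
      have e' : n = y' := Subtype.ext hy'.symm
      rw [e']
      refine (Subgroup.closure_le _).mpr ?_ hy'S
      rintro x (hx | hx)
      · exact Subgroup.mem_sup_left (Subgroup.subset_closure hx)
      · apply Subgroup.mem_sup_right
        have hx' := (mem_twH hG h3 h4 h19 f).mp hx
        rw [Subgroup.mem_inf, memB, memN]
        exact ⟨hHB hx'.1, Subgroup.mem_sup_left hx'.1⟩
  · rintro s ⟨c, hc, hs⟩ n hn b hb
    rw [memN] at hn
    rw [memB, memB'] at hb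
    have hn' : (n : GL D.Idx K) ∈ twN hG h3 h4 h19 f := (mem_twN hG h3 h4 h19 f).mpr ⟨hn, n.2⟩
    have key := tw_mul_mem_union hG hT h3 h4 h5 h6 h7 h8 h9 h18 h19 h20 f hc hn' hb
    rw [← hs] at key
    have lift : ∀ x : GL D.Idx K, x ∈ twB hG h3 h4 h19 f →
        ∃ x' : ↥(twGroup hG h3 h4 h19 f), (x' : GL D.Idx K) = x ∧
          x' ∈ (D.borelSubgroup K ⊓ twGroup hG h3 h4 h19 f).subgroupOf (twGroup hG h3 h4 h19 f) := by
      intro x hx
      refine ⟨⟨x, twB_le_twGroup hG h3 h4 h19 f hx⟩, rfl, ?_⟩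
      rw [memB]
      exact twB_le_borel hG h3 h4 h19 f hx
    rcases key with key | key
    · left
      obtain ⟨b₁, hb₁, b₂, hb₂, e⟩ := mem_doubleCoset.mp key
      obtain ⟨b₁', rfl, hb₁'⟩ := lift b₁ hb₁
      obtain ⟨b₂', rfl, hb₂'⟩ := lift b₂ hb₂
      refine mem_doubleCoset.mpr ⟨b₁', hb₁', b₂', hb₂', ?_⟩
      apply Subtype.ext
      simpa only [Subgroup.coe_mul] using e
    · right
      obtain ⟨b₁, hb₁, b₂, hb₂, e⟩ := mem_doubleCoset.mp key
      obtain ⟨b₁', rfl, hb₁'⟩ := lift b₁ hb₁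
      obtain ⟨b₂', rfl, hb₂'⟩ := lift b₂ hb₂
      refine mem_doubleCoset.mpr ⟨b₁', hb₁', b₂', hb₂', ?_⟩
      apply Subtype.ext
      simpa only [Subgroup.coe_mul] using e
  · rintro s ⟨c, hc, hs⟩ heq
    have hxU : clsHom hG h3 h4 h19 f hc (upperSL 1) ∈ twGroup hG h3 h4 h19 f :=
      upper_mem_twGroup hG h3 h4 h19 f hc Adm.one
    have hxB : clsHom hG h3 h4 h19 f hc (upperSL 1) ∈ D.borelSubgroup K :=
      Subgroup.mem_sup_left (clsHom_upper_mem hG hT h3 h4 h19 f hc 1)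
    have hmem : s * ⟨clsHom hG h3 h4 h19 f hc (upperSL 1), hxU⟩ * s ∈
        (((D.borelSubgroup K ⊓ twGroup hG h3 h4 h19 f).subgroupOf (twGroup hG h3 h4 h19 f) :
          Subgroup ↥(twGroup hG h3 h4 h19 f)) : Set ↥(twGroup hG h3 h4 h19 f)) := by
      rw [← heq]
      refine ⟨⟨clsHom hG h3 h4 h19 f hc (upperSL 1), hxU⟩, ?_, rfl⟩
      rw [SetLike.mem_coe, memB]
      exact hxB
    rw [SetLike.mem_coe, memB, Subgroup.coe_mul, Subgroup.coe_mul, hs] at hmem
    apply ncls_conj_not_mem_borel hG hT h3 h4 h7 h8 h19 h20 f hc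
    have hsq := twB_le_borel hG h3 h4 h19 f
      (twH_le_twB hG h3 h4 h19 f (ncls_sq_mem_twH hG h3 h4 h19 f hc))
    have e : clsHom hG h3 h4 h19 f hc antiSL * clsHom hG h3 h4 h19 f hc (upperSL 1) *
        (clsHom hG h3 h4 h19 f hc antiSL)⁻¹ =
        (clsHom hG h3 h4 h19 f hc antiSL * clsHom hG h3 h4 h19 f hc (upperSL 1) *
          clsHom hG h3 h4 h19 f hc antiSL) *
        (clsHom hG h3 h4 h19 f hc antiSL * clsHom hG h3 h4 h19 f hc antiSL)⁻¹ := by group
    rw [e]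
    exact mul_mem hmem (inv_mem hsq)

end tw

end Cfsg.Agent.Helper7.Chev
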