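import Mathlib
import Cfsg.Agent.Helper7.ChevTw9

set_option autoImplicit false
set_option linter.unusedSectionVars false
set_option linter.unusedVariables false

/-!
Twisted groups, part 10: the twisted group as a group generated by words in root elements, and the field
automorphism `t ↦ t ^ q`.
-/

namespace Cfsg.Agent.Helper7.Chev

open Cfsg Cfsg.Lie Matrix

variable {D : ChevalleyDatum} {K : Type*} [Field K]

/-- The word of `x_S(t)`. -/
def upWord (D : ChevalleyDatum) (ρ : ℕ → ℕ) (f : K ≃+* K) (c : ℕ × ℕ) (t : K) : List (ℕ × K) :=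
  (List.range c.2).map fun j => (clsRoot D ρ c.1 j, (((f : K →+* K)) ^ j) t)

/-- The word of `x_{-S}(t)`. -/
def loWord (D : ChevalleyDatum) (ρ : ℕ → ℕ) (f : K ≃+* K) (c : ℕ × ℕ) (t : K) : List (ℕ × K) :=
  (List.range c.2).map fun j => (D.neg (clsRoot D ρ c.1 j), (((f : K →+* K)) ^ j) t)

/-- The words of the generators of the twisted group. -/
def twWords (D : ChevalleyDatum) (ρ : ℕ → ℕ) (f : K ≃+* K) (cls : List (ℕ × ℕ)) : Set (List (ℕ × K)) :=
  {w | ∃ c ∈ cls, ∃ t : K, Adm f c.2 t ∧ (w = upWord D ρ f c t ∨ w = loWord D ρ f c t)}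

section words

variable (hG : Good2 D) (h3 : (tabOf D).T3) (h4 : (tabOf D).T4 60)
  {ρ σ : ℕ → ℕ} {cls : List (ℕ × ℕ)} (h19 : T19 D ρ σ cls) (f : K ≃+* K)

theorem clsHom_upper_coe {c : ℕ × ℕ} (hc : c ∈ cls) (t : K) :
    ((clsHom hG h3 h4 h19 f hc (upperSL t) : GL D.Idx K) : Matrix D.Idx D.Idx K) =
      D.wordMat K (upWord D ρ f c t) := by
  rw [clsHom_upper, xiHom_apply, ← wordGL_coe hG.toGood1]
  unfold upWord
  rw [List.map_map]
  rfl

theorem clsHom_lower_coe {c : ℕ × ℕ} (hc : c ∈ cls) (t : K) :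
    ((clsHom hG h3 h4 h19 f hc (lowerSL t) : GL D.Idx K) : Matrix D.Idx D.Idx K) =
      D.wordMat K (loWord D ρ f c t) := by
  have hG1 := hG.toGood1
  obtain ⟨_, _, hlt⟩ := h19.orbit c hc
  rw [clsHom_apply, ← wordGL_coe hG.toGood1]
  unfold loWord
  rw [List.map_map]
  congr 2
  apply List.map_congr_left
  intro j hj
  rw [List.mem_range] at hj
  unfold clsFactor
  rw [MonoidHom.comp_apply, phiS_of_lt hG1 (hlt j hj), map_lowerSL, phiHom_lower']
  have hp := hG1.simple_lt (hlt j hj)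
  have hnp : D.neg (clsRoot D ρ c.1 j) < D.nroots := hG1.neg_lt hp
  simp only [Function.comp_apply]
  rw [xGL'_of_lt hG1 hnp]
  rfl

/-- The twisted group is generated by the matrices of the words of its generators. -/
theorem twGroup_eq_genSubgroup :
    twGroup hG h3 h4 h19 f = D.genSubgroup K (twWords D ρ f cls) := by
  unfold twGroup ChevalleyDatum.genSubgroup
  congr 1
  ext g
  constructor
  · rintro ⟨c, hc, t, ht, rfl | rfl⟩
    · exact ⟨_, ⟨c, hc, t, ht, Or.inl rfl⟩, clsHom_upper_coe hG h3 h4 h19 f hc t⟩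
    · exact ⟨_, ⟨c, hc, t, ht, Or.inr rfl⟩, clsHom_lower_coe hG h3 h4 h19 f hc t⟩
  · rintro ⟨w, ⟨c, hc, t, ht, rfl | rfl⟩, hg⟩
    · refine ⟨c, hc, t, ht, Or.inl ?_⟩
      exact Units.ext (hg.trans (clsHom_upper_coe hG h3 h4 h19 f hc t).symm)
    · refine ⟨c, hc, t, ht, Or.inr ?_⟩
      exact Units.ext (hg.trans (clsHom_lower_coe hG h3 h4 h19 f hc t).symm)

end words

section wordlemmas

variable (D : ChevalleyDatum) (ρ : ℕ → ℕ) (f : K ≃+* K)

theorem upWord_one (i : ℕ) (t : K) : upWord D ρ f (i, 1) t = [(clsRoot D ρ i 0, t)] := by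
  simp [upWord]

theorem loWord_one (i : ℕ) (t : K) : loWord D ρ f (i, 1) t = [(D.neg (clsRoot D ρ i 0), t)] := by
  simp [loWord]

theorem upWord_two (i : ℕ) (t : K) :
    upWord D ρ f (i, 2) t = [(clsRoot D ρ i 0, t), (clsRoot D ρ i 1, f t)] := by
  simp [upWord, List.range_succ]

theorem loWord_two (i : ℕ) (t : K) :
    loWord D ρ f (i, 2) t = [(D.neg (clsRoot D ρ i 0), t), (D.neg (clsRoot D ρ i 1), f t)] := by
  simp [loWord, List.range_succ]

theorem upWord_three (i : ℕ) (t : K) :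
    upWord D ρ f (i, 3) t =
      [(clsRoot D ρ i 0, t), (clsRoot D ρ i 1, f t), (clsRoot D ρ i 2, f (f t))] := by
  simp [upWord, List.range_succ, pow_succ]

theorem loWord_three (i : ℕ) (t : K) :
    loWord D ρ f (i, 3) t =
      [(D.neg (clsRoot D ρ i 0), t), (D.neg (clsRoot D ρ i 1), f t),
        (D.neg (clsRoot D ρ i 2), f (f t))] := by
  simp [loWord, List.range_succ, pow_succ]

theorem adm_one_iff (t : K) : Adm f 1 t ↔ f t = t := by
  unfold Adm
  rw [pow_one]
  rfl

end wordlemmas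

/-! ### The field automorphism -/

theorem exists_frobEquiv {K : Type*} [Field K] [Fintype K] {q n : ℕ} (hq : IsPrimePow q)
    (hK : Fintype.card K = q ^ n) :
    ∃ f : K ≃+* K, (∀ t, f t = t ^ q) ∧ ∀ t, (((f : K →+* K)) ^ n) t = t := by
  obtain ⟨p', hp'⟩ := CharP.exists K
  have : Fact p'.Prime := ⟨CharP.char_is_prime K p'⟩
  obtain ⟨m, -, hm⟩ := FiniteField.card K p'
  obtain ⟨p, k, hp, hk, rfl⟩ := hq
  have hpn : p.Prime := Nat.prime_iff.mpr hp
  have hn0 : n ≠ 0 := by
    rintro rfl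
    rw [pow_zero] at hK
    have := Fintype.one_lt_card (α := K)
    omega
  have hpp : p = p' := by
    have h1 : p ∣ p' ^ (m : ℕ) := by
      rw [← hm, hK, ← pow_mul]
      exact dvd_pow_self p (Nat.mul_ne_zero (by omega) hn0)
    exact (Nat.prime_dvd_prime_iff_eq hpn (Fact.out : p'.Prime)).mp (hpn.dvd_of_dvd_pow h1)
  subst hpp
  have : ExpChar K p := ExpChar.prime hpn
  have hinj : Function.Injective (iterateFrobenius K p k) := RingHom.injective _
  have hbij : Function.Bijective (iterateFrobenius K p k) :=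
    Finite.injective_iff_bijective.mp hinj
  refine ⟨RingEquiv.ofBijective (iterateFrobenius K p k) hbij, ?_, ?_⟩
  · intro t
    rw [RingEquiv.ofBijective_apply, iterateFrobenius_def]
  · have hpow : ∀ (j : ℕ) (t : K),
        ((((RingEquiv.ofBijective (iterateFrobenius K p k) hbij : K ≃+* K) : K →+* K)) ^ j) t =
          t ^ ((p ^ k) ^ j) := by
      intro j
      induction j with
      | zero => intro t; simp
      | succ j ih =>
        intro t
        rw [pow_succ', RingHom.mul_def, RingHom.comp_apply, ih]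
        change (RingEquiv.ofBijective (iterateFrobenius K p k) hbij) (t ^ ((p ^ k) ^ j)) = _
        rw [RingEquiv.ofBijective_apply, iterateFrobenius_def, ← pow_mul, ← pow_succ]
    intro t
    rw [hpow, ← hK, FiniteField.pow_card]

end Cfsg.Agent.Helper7.Chev
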