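import Mathlib
import Cfsg.Agent.Helper7.ChevTw10
import Cfsg.Agent.Helper7.ChevCore

set_option autoImplicit false
set_option linter.unusedSectionVars false
set_option linter.unusedVariables false

/-!
Twisted groups, part 11: the normal core of `B¹` in the twisted group is trivial.
-/

namespace Cfsg.Agent.Helper7.Chev

open Cfsg Cfsg.Lie Matrix

variable {D : ChevalleyDatum} {K : Type*} [Field K]

section general

variable (hG : Good2 D) (hT : T0 D) (h9 : (tabOf D).T9)

include hT in
/-- A word for the longest element gives an element of `N` conjugating `U` onto `V`. -/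
theorem nWordGL_conj_pos_eq_neg {w : List ℕ} (hw : (tabOf D).W0ok w) :
    (D.posUnipotent K).map (MulAut.conj (nWordGL hG w)).toMonoidHom = D.negUnipotent K := by
  obtain ⟨hw1, hw2, hw3⟩ := hw
  have hw1' : ∀ i ∈ w, i < D.rank := hw1
  have hG1 := hG.toGood1
  unfold ChevalleyDatum.posUnipotent ChevalleyDatum.negUnipotent
  rw [MonoidHom.map_closure]
  congr 1
  ext y
  constructor
  · rintro ⟨x, ⟨s, t, hs, hx⟩, rfl⟩
    have hslt := hs.1
    obtain ⟨ε, hε, h⟩ := nWordMat_mul_x (F := K) hG hw1' hslt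
    have hlt := reflWord_lt hG hw1' hslt
    refine ⟨(tabOf D).reflWord w s, ε * t, ?_, ?_⟩
    · rw [isNegRoot_iff hT hlt]
      exact hw2 s hslt ((isPosRoot_iff hT hslt).mp hs)
    · have : (MulAut.conj (nWordGL hG w)).toMonoidHom x = xGL hG1 hlt (ε * t) := by
        change nWordGL hG w * x * (nWordGL hG w)⁻¹ = _
        rw [mul_inv_eq_iff_eq_mul]
        apply Units.ext
        rw [Units.val_mul, Units.val_mul, nWordGL_coe hG hw1', hx, xGL_coe, h t]
      rw [this, xGL_coe]
  · rintro ⟨s', t', hs', hy⟩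
    have hs'lt := hs'.1
    have hrev : ∀ i ∈ w.reverse, i < D.rank := fun i hi => hw1' i (List.mem_reverse.mp hi)
    have hslt := reflWord_lt hG hrev hs'lt
    have hback : (tabOf D).reflWord w ((tabOf D).reflWord w.reverse s') = s' := by
      have := reflWord_reverse hG hrev hs'lt
      rwa [List.reverse_reverse] at this
    obtain ⟨ε, hε, h⟩ := nWordMat_mul_x (F := K) hG hw1' hslt
    refine ⟨xGL hG1 hslt (ε * t'), ⟨(tabOf D).reflWord w.reverse s', ε * t', ?_, xGL_coe _ _ _⟩, ?_⟩
    · rw [isPosRoot_iff hT hslt]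
      exact hw3 s' hs'lt ((isNegRoot_iff hT hs'lt).mp hs')
    · change nWordGL hG w * xGL hG1 hslt (ε * t') * (nWordGL hG w)⁻¹ = y
      rw [mul_inv_eq_iff_eq_mul]
      apply Units.ext
      rw [Units.val_mul, Units.val_mul, nWordGL_coe hG hw1', xGL_coe, h (ε * t'), hback, hy,
        ← mul_assoc, hε, one_mul]

/-- The action of an element of `H` on a root subgroup is linear. -/
theorem diagonal_conj_xGL_lin {g : GL D.Idx K} (hg : g ∈ D.diagonalSubgroup K) {r : ℕ}
    (hr : r < D.nroots) :
    ∃ χ : K, χ ≠ 0 ∧ ∀ t : K, g * xGL hG.toGood1 hr t * g⁻¹ = xGL hG.toGood1 hr (χ * t) := by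
  have hG1 := hG.toGood1
  unfold ChevalleyDatum.diagonalSubgroup at hg
  induction hg using Subgroup.closure_induction with
  | mem x hx =>
    obtain ⟨s, c, hs, hc, hx⟩ := hx
    refine ⟨c ^ (tabOf D).pairing s r, zpow_ne_zero _ hc, fun t => ?_⟩
    rw [mul_inv_eq_iff_eq_mul]
    apply Units.ext
    rw [Units.val_mul, Units.val_mul, hx, xGL_coe, xGL_coe]
    exact hMat_mul_x hG hs hc hr t
  | one => exact ⟨1, one_ne_zero, fun t => by rw [one_mul, one_mul, inv_one, mul_one]⟩
  | mul a b _ _ ha hb =>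
    obtain ⟨χ₁, h₁, e₁⟩ := ha
    obtain ⟨χ₂, h₂, e₂⟩ := hb
    refine ⟨χ₁ * χ₂, mul_ne_zero h₁ h₂, fun t => ?_⟩
    have : a * b * xGL hG1 hr t * (a * b)⁻¹ = a * (b * xGL hG1 hr t * b⁻¹) * a⁻¹ := by group
    rw [this, e₂, e₁, mul_assoc]
  | inv a _ ha =>
    obtain ⟨χ₁, h₁, e₁⟩ := ha
    refine ⟨χ₁⁻¹, inv_ne_zero h₁, fun t => ?_⟩
    have := e₁ (χ₁⁻¹ * t)
    rw [← mul_assoc, mul_inv_cancel₀ h₁, one_mul] at this
    rw [← this]
    group

include hT h9 in
/-- A subgroup containing the root subgroups of the fundamental roots and their negatives contains all root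
subgroups. -/
theorem xGL_mem_of_simple (Z : Subgroup (GL D.Idx K))
    (hZ : ∀ (i : ℕ) (hi : i < D.rank) (t : K),
      xGL hG.toGood1 (hG.toGood1.simple_lt hi) t ∈ Z ∧
        xGL hG.toGood1 (hG.toGood1.neg_lt (hG.toGood1.simple_lt hi)) t ∈ Z) :
    ∀ (r : ℕ) (hr : r < D.nroots) (t : K), xGL hG.toGood1 hr t ∈ Z := by
  have hG1 := hG.toGood1
  have hn : ∀ (i : ℕ) (hi : i < D.rank), nGL hG1 (hG1.simple_lt hi) ∈ Z := by
    intro i hi
    unfold nGL
    rw [antiSL_eq, map_mul, map_mul, phiHom_upper', phiHom_lower']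
    exact mul_mem (mul_mem (hZ i hi 1).1 (hZ i hi (-1)).2) (hZ i hi 1).1
  have hpos : ∀ (s : ℕ) (hs : s < D.nroots), D.nroots / 2 ≤ s → ∀ t : K,
      xGL hG1 hs t ∈ Z ∧ xGL hG1 (hG1.neg_lt hs) t ∈ Z := by
    intro s
    induction s using Nat.strong_induction_on with
    | _ s ih =>
      intro hs hspos t
      rcases h9 s hs hspos with ⟨i, hi, his⟩ | ⟨i, hi, hcr, hpos', hlt⟩
      · have hi' : i < D.rank := hi
        have his' : D.simple i = s := his
        subst his'
        exact hZ i hi' t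
      · have hi' : i < D.rank := hi
        set s' := (tabOf D).refl (D.simple i) s with hs'def
        have hs' : s' < D.nroots := hG.refl_lt hi' hs
        have hw : ∀ j ∈ [i], j < D.rank := by
          intro j hj
          rw [List.mem_singleton] at hj
          rw [hj]; exact hi'
        have hback : (tabOf D).reflWord [i] s' = s := by
          change (tabOf D).refl (D.simple i) s' = s
          rw [hs'def, hG.refl_refl hi' hs]
        have hbackn : (tabOf D).reflWord [i] (D.neg s') = D.neg s := by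
          rw [reflWord_neg hG hw hs', hback]
        have en : (nWordGL hG [i] : GL D.Idx K) = nGL hG1 (hG1.simple_lt hi') := by
          rw [nWordGL_cons hG hi', nWordGL_nil, mul_one]
        have hnZ : (nWordGL hG [i] : GL D.Idx K) ∈ Z := by rw [en]; exact hn i hi'
        obtain ⟨ih1, ih2⟩ : (∀ t : K, xGL hG1 hs' t ∈ Z) ∧
            (∀ t : K, xGL hG1 (hG1.neg_lt hs') t ∈ Z) :=
          ⟨fun t => (ih s' hlt hs' hpos' t).1, fun t => (ih s' hlt hs' hpos' t).2⟩
        constructor
        · set η : K := (((tabOf D).etaWord [i] s' : ℤ) : K) with hη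
          have hηη : η * η = 1 := etaWord_cast_mul_self hG hw hs'
          have c := nWordGL_conj (F := K) hG hw hs' (η * t)
          rw [← hη, ← mul_assoc, hηη, one_mul] at c
          have e : xGL hG1 hs t = xGL hG1 (reflWord_lt hG hw hs') t :=
            xGL_congr hG hback.symm _ _ _
          rw [e, ← c]
          exact mul_mem (mul_mem hnZ (ih1 _)) (inv_mem hnZ)
        · have hns' := hG1.neg_lt hs'
          set η : K := (((tabOf D).etaWord [i] (D.neg s') : ℤ) : K) with hη
          have hηη : η * η = 1 := etaWord_cast_mul_self hG hw hns'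
          have c := nWordGL_conj (F := K) hG hw hns' (η * t)
          rw [← hη, ← mul_assoc, hηη, one_mul] at c
          have e : xGL hG1 (hG1.neg_lt hs) t = xGL hG1 (reflWord_lt hG hw hns') t :=
            xGL_congr hG hbackn.symm _ _ _
          rw [e, ← c]
          exact mul_mem (mul_mem hnZ (ih2 _)) (inv_mem hnZ)
  intro r hr t
  by_cases hrpos : D.nroots / 2 ≤ r
  · exact (hpos r hr hrpos t).1
  · have hnr := hG1.neg_lt hr
    have h1 := neg_pos_of_neg hG hT hr (by omega)
    have := (hpos (D.neg r) hnr h1 t).2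
    have e : xGL hG1 hr t = xGL hG1 (hG1.neg_lt hnr) t :=
      xGL_congr hG (hG1.neg_neg hr).symm _ _ _
    rw [e]
    exact this

end general

end Cfsg.Agent.Helper7.Chev
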