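import Mathlib
import Cfsg.Agent.Helper7.ChevRee2
import Cfsg.Agent.Helper7.ChevTw11

set_option autoImplicit false
set_option linter.unusedSectionVars false
set_option linter.unusedVariables false

/-!
Automorphisms of a Chevalley group that permute the root subgroups, part 3: the Weyl group element of a fixed
element of `N` commutes with the permutation of the roots.
-/

namespace Cfsg.Agent.Helper7.Chev

open Cfsg Cfsg.Lie Matrix

variable {D : ChevalleyDatum} {K : Type*} [Field K]

section rootAut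

variable (hG : Good2 D) (hT : T0 D) (h8 : (tabOf D).T8)
  {τ : ↥(D.group K) ≃* ↥(D.group K)} {ρ : ℕ → ℕ} {f : ℕ → K →+* K}
  (hτ : RootAut D K τ ρ f)

include hG in
/-- Conjugation of a root element by `h n_w`. -/
theorem diag_nWordGL_conj {h : GL D.Idx K} (hh : h ∈ D.diagonalSubgroup K) {w : List ℕ}
    (hw : ∀ i ∈ w, i < D.rank) {r : ℕ} (hr : r < D.nroots) :
    ∃ c : K, c ≠ 0 ∧ ∀ t : K, h * nWordGL hG w * xGL hG.toGood1 hr t * (h * nWordGL hG w)⁻¹ =
      xGL hG.toGood1 (reflWord_lt hG hw hr) (c * t) := by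
  have hG1 := hG.toGood1
  obtain ⟨χ, hχ, hlin⟩ := diagonal_conj_xGL_lin hG hh (reflWord_lt hG hw hr)
  refine ⟨χ * (((tabOf D).etaWord w r : ℤ) : K), mul_ne_zero hχ (etaWord_cast_ne_zero hG hw hr),
    fun t => ?_⟩
  have e : h * nWordGL hG w * xGL hG1 hr t * (h * nWordGL hG w)⁻¹ =
      h * (nWordGL hG w * xGL hG1 hr t * (nWordGL hG w)⁻¹) * h⁻¹ := by group
  rw [e, nWordGL_conj hG hw hr, hlin, mul_assoc]

include hG h8 hτ in
/-- The Weyl group element of a fixed element of `N` commutes with the permutation of the roots. -/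
theorem RootAut.reflWord_comm {h : GL D.Idx K} (hh : h ∈ D.diagonalSubgroup K) {w : List ℕ}
    (hw : ∀ i ∈ w, i < D.rank) (hfix : extFun τ (h * nWordGL hG w) = h * nWordGL hG w)
    {r : ℕ} (hr : r < D.nroots) :
    (tabOf D).reflWord w (ρ r) = ρ ((tabOf D).reflWord w r) := by
  have hG1 := hG.toGood1
  set n : GL D.Idx K := h * nWordGL hG w with hn
  have hnG : n ∈ D.group K :=
    mul_mem (diagonalSubgroup_le_group hG1 hh) (monomialSubgroup_le_group hG1 (nWordGL_mem hG w))
  obtain ⟨c, hc, e1⟩ := diag_nWordGL_conj (K := K) hG hh hw hr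
  obtain ⟨c', hc', e2⟩ := diag_nWordGL_conj (K := K) hG hh hw (hτ.lt r hr)
  have h1 := congrArg (extFun τ) (e1 1)
  rw [extFun_conj τ hnG (xGL_mem_group hG hr 1), hfix, hτ.map_xGL hG hr,
    hτ.map_xGL hG (reflWord_lt hG hw hr), e2] at h1
  have hne : c' * f r 1 ≠ 0 := by
    rw [map_one, mul_one]; exact hc'
  exact root_eq_of_xGL_eq hG h8 _ _ hne h1

end rootAut

end Cfsg.Agent.Helper7.Chev
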