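import Mathlib

set_option autoImplicit false
set_option linter.unusedSectionVars false
set_option linter.unusedVariables false

/-!
Block triangular matrices with respect to a set `J` of coordinates: the diagonal block of `J` and the diagonal
block of the complement transported to `J` along an involution exchanging `J` and its complement are
multiplicative.
-/

namespace Cfsg.Agent.Helper7.Iso

open Matrix

variable {ι : Type*} [Fintype ι] [DecidableEq ι] {K : Type*} [CommRing K]
  (J : ι → Prop) [DecidablePred J] (γ : ι → ι)

/-- The entries with row outside `J` and column in `J` vanish: the span of the coordinates of `J` is invariant. -/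
def BlockTri (M : Matrix ι ι K) : Prop := ∀ i j, ¬ J i → J j → M i j = 0

/-- The diagonal block of `J`, as a matrix of full size. -/
def corner (M : Matrix ι ι K) : Matrix ι ι K := Matrix.of fun i j => if J i ∧ J j then M i j else 0

/-- The diagonal block of the complement of `J`, transported to `J` along `γ`. -/
def pull (M : Matrix ι ι K) : Matrix ι ι K :=
  Matrix.of fun i j => if J i ∧ J j then M (γ i) (γ j) else 0

/-- `γ` is an involution exchanging `J` and its complement. -/
structure Swap : Prop where
  invol : ∀ i, γ (γ i) = i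
  swap : ∀ i, J (γ i) ↔ ¬ J i

variable {J γ}

theorem BlockTri.one : BlockTri J (1 : Matrix ι ι K) := by
  intro i j hi hj
  apply Matrix.one_apply_ne
  rintro rfl
  exact hi hj

theorem BlockTri.mul {M N : Matrix ι ι K} (hM : BlockTri J M) (hN : BlockTri J N) :
    BlockTri J (M * N) := by
  intro i j hi hj
  rw [Matrix.mul_apply]
  apply Finset.sum_eq_zero
  intro k _
  by_cases hk : J k
  · rw [hM i k hi hk, zero_mul]
  · rw [hN k j hk hj, mul_zero]

theorem corner_apply (M : Matrix ι ι K) (i j : ι) :
    corner J M i j = if J i ∧ J j then M i j else 0 := rfl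

theorem pull_apply (M : Matrix ι ι K) (i j : ι) :
    pull J γ M i j = if J i ∧ J j then M (γ i) (γ j) else 0 := rfl

theorem corner_mul {M N : Matrix ι ι K} (hN : BlockTri J N) :
    corner J (M * N) = corner J M * corner J N := by
  ext i j
  rw [corner_apply, Matrix.mul_apply]
  by_cases hij : J i ∧ J j
  · rw [if_pos hij, Matrix.mul_apply]
    apply Finset.sum_congr rfl
    intro k _
    rw [corner_apply, corner_apply]
    by_cases hk : J k
    · rw [if_pos ⟨hij.1, hk⟩, if_pos ⟨hk, hij.2⟩]
    · rw [if_neg (fun h => hk h.2), zero_mul, hN k j hk hij.2, mul_zero]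
  · rw [if_neg hij]
    symm
    apply Finset.sum_eq_zero
    intro k _
    beta_reduce
    rw [corner_apply, corner_apply]
    by_cases hi : J i
    · have hj : ¬ J j := fun h => hij ⟨hi, h⟩
      rw [if_neg (fun h : J k ∧ J j => hj h.2), mul_zero]
    · rw [if_neg (fun h : J i ∧ J k => hi h.1), zero_mul]

theorem pull_mul (hγ : Swap J γ) {M N : Matrix ι ι K} (hM : BlockTri J M) :
    pull J γ (M * N) = pull J γ M * pull J γ N := by
  ext i j
  rw [pull_apply, Matrix.mul_apply]
  by_cases hij : J i ∧ J j
  · rw [if_pos hij, Matrix.mul_apply]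
    have hinv : Function.Involutive γ := hγ.invol
    rw [← Equiv.sum_comp hinv.toPerm (fun k => M (γ i) k * N k (γ j))]
    apply Finset.sum_congr rfl
    intro k _
    change M (γ i) (γ k) * N (γ k) (γ j) = _
    rw [pull_apply, pull_apply]
    by_cases hk : J k
    · rw [if_pos ⟨hij.1, hk⟩, if_pos ⟨hk, hij.2⟩]
    · rw [if_neg (fun h => hk h.2), zero_mul]
      have h1 : ¬ J (γ i) := fun h => ((hγ.swap i).mp h) hij.1
      have h2 : J (γ k) := (hγ.swap k).mpr hk
      rw [hM _ _ h1 h2, zero_mul]
  · rw [if_neg hij]
    symm
    apply Finset.sum_eq_zero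
    intro k _
    beta_reduce
    rw [pull_apply, pull_apply]
    by_cases hi : J i
    · have hj : ¬ J j := fun h => hij ⟨hi, h⟩
      rw [if_neg (fun h : J k ∧ J j => hj h.2), mul_zero]
    · rw [if_neg (fun h : J i ∧ J k => hi h.1), zero_mul]

theorem pull_one (hγ : Swap J γ) : pull J γ (1 : Matrix ι ι K) = corner J 1 := by
  ext i j
  rw [pull_apply, corner_apply]
  by_cases hij : J i ∧ J j
  · rw [if_pos hij, if_pos hij]
    by_cases h : i = j
    · subst h; rw [Matrix.one_apply_eq, Matrix.one_apply_eq]
    · rw [Matrix.one_apply_ne h, Matrix.one_apply_ne]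
      intro h'
      apply h
      have := congrArg γ h'
      rwa [hγ.invol, hγ.invol] at this
  · rw [if_neg hij, if_neg hij]

theorem corner_mul_corner_one (M : Matrix ι ι K) : corner J M * corner J 1 = corner J M := by
  ext i j
  rw [Matrix.mul_apply, Finset.sum_eq_single j]
  · simp only [corner_apply, Matrix.one_apply_eq]
    by_cases hij : J i ∧ J j
    · rw [if_pos hij, if_pos ⟨hij.2, hij.2⟩, mul_one]
    · rw [if_neg hij, zero_mul]
  · intro k _ hk
    rw [corner_apply 1, Matrix.one_apply_ne hk]
    simp
  · intro h
    exact absurd (Finset.mem_univ j) h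

theorem corner_one_mul_corner (M : Matrix ι ι K) : corner J 1 * corner J M = corner J M := by
  ext i j
  rw [Matrix.mul_apply, Finset.sum_eq_single i]
  · simp only [corner_apply, Matrix.one_apply_eq]
    by_cases hij : J i ∧ J j
    · rw [if_pos hij, if_pos ⟨hij.1, hij.1⟩, one_mul]
    · rw [if_neg hij, mul_zero]
  · intro k _ hk
    rw [corner_apply 1, Matrix.one_apply_ne hk.symm]
    simp
  · intro h
    exact absurd (Finset.mem_univ i) h

end Cfsg.Agent.Helper7.Iso
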