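import Mathlib
import Cfsg.Agent.Helper7.ChevIso1
import Cfsg.Agent.Helper7.ChevGood1

set_option autoImplicit false
set_option linter.unusedSectionVars false
set_option linter.unusedVariables false

/-!
The special isogenies of the Chevalley groups of type `B₂`, `F₄` in characteristic 2 and `G₂` in
characteristic 3: the ideal of the Lie algebra spanned by the short root vectors and the short fundamental
coroots is invariant, and the action on the quotient is the action on the ideal of the image under the isogeny.
This file: the entries of the root elements as lists of monomials, and the two checks on the tables.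
-/

namespace Cfsg.Agent.Helper7.Chev

open Cfsg Cfsg.Lie Matrix Cfsg.Agent.Helper7.Iso

/-- The value of a list of monomials. -/
def evalL {F : Type*} [Field F] (L : List (ℕ × ℤ)) (t : F) : F :=
  (L.map fun km => ((km.2 : ℤ) : F) * t ^ km.1).sum

/-- The coefficient of `t ^ k` in a list of monomials. -/
def coeffAt (L : List (ℕ × ℤ)) (k : ℕ) : ℤ := ((L.filter fun km => km.1 = k).map Prod.snd).sum

theorem coeffAt_cons (a : ℕ × ℤ) (L : List (ℕ × ℤ)) (k : ℕ) :
    coeffAt (a :: L) k = (if a.1 = k then a.2 else 0) + coeffAt L k := by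
  unfold coeffAt
  by_cases h : a.1 = k
  · rw [List.filter_cons_of_pos (by simpa using h), List.map_cons, List.sum_cons, if_pos h]
  · rw [List.filter_cons_of_neg (by simpa using h), if_neg h, zero_add]

theorem evalL_eq_sum {F : Type*} [Field F] {N : ℕ} (t : F) : ∀ (L : List (ℕ × ℤ)),
    (∀ km ∈ L, km.1 < N) →
      evalL L t = ∑ k ∈ Finset.range N, ((coeffAt L k : ℤ) : F) * t ^ k := by
  intro L
  induction L with
  | nil =>
    intro _
    simp [evalL, coeffAt]
  | cons a L ih =>
    intro h
    have ha : a.1 < N := h a List.mem_cons_self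
    have e : evalL (a :: L) t = ((a.2 : ℤ) : F) * t ^ a.1 + evalL L t := by
      unfold evalL
      rw [List.map_cons, List.sum_cons]
    rw [e, ih fun km hkm => h km (List.mem_cons_of_mem _ hkm)]
    simp only [coeffAt_cons]
    push_cast
    simp only [add_mul, Finset.sum_add_distrib]
    congr 1
    rw [Finset.sum_eq_single a.1]
    · rw [if_pos rfl]
    · intro k _ hk
      rw [if_neg (Ne.symm hk)]
      simp
    · intro h'
      exact absurd (Finset.mem_range.mpr ha) h'

/-- Two lists of monomials give the same polynomial modulo `p`. -/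
def PolyEq (p : ℕ) (N : ℕ) (L₁ L₂ : List (ℕ × ℤ)) : Prop :=
  (∀ km ∈ L₁, km.1 < N) ∧ (∀ km ∈ L₂, km.1 < N) ∧ ∀ k < N, ((p : ℕ) : ℤ) ∣ coeffAt L₁ k - coeffAt L₂ k

instance (p N : ℕ) (L₁ L₂ : List (ℕ × ℤ)) : Decidable (PolyEq p N L₁ L₂) := by
  unfold PolyEq; infer_instance

theorem evalL_eq_of_polyEq {F : Type*} [Field F] {p : ℕ} [CharP F p] {N : ℕ} {L₁ L₂ : List (ℕ × ℤ)}
    (h : PolyEq p N L₁ L₂) (t : F) : evalL L₁ t = evalL L₂ t := by
  rw [evalL_eq_sum t L₁ h.1, evalL_eq_sum t L₂ h.2.1]
  apply Finset.sum_congr rfl
  intro k hk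
  have hd := h.2.2 k (Finset.mem_range.mp hk)
  have h0 : (((coeffAt L₁ k - coeffAt L₂ k : ℤ)) : F) = 0 :=
    (CharP.intCast_eq_zero_iff F p _).mpr hd
  have e : ((coeffAt L₁ k : ℤ) : F) = ((coeffAt L₂ k : ℤ) : F) := by
    have := sub_eq_zero.mp (by rw [← Int.cast_sub]; exact h0 : ((coeffAt L₁ k : ℤ) : F) - ((coeffAt L₂ k : ℤ) : F) = 0)
    exact this
  rw [e]

theorem evalL_pow {F : Type*} [Field F] (L : List (ℕ × ℤ)) (m : ℕ) (t : F) :
    evalL L (t ^ m) = evalL (L.map fun km => (m * km.1, km.2)) t := by
  unfold evalL
  rw [List.map_map]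
  congr 1
  apply List.map_congr_left
  intro km _
  simp only [Function.comp_apply]
  rw [← pow_mul]

namespace Tab

variable (T : Tab)

/-- The entries of `x_r(t)` as lists of monomials: the row and the column are a fundamental coroot (`inl`) or a root
vector (`inr`). -/
def entry (r : ℕ) (row col : ℕ ⊕ ℕ) : List (ℕ × ℤ) :=
  match col with
  | Sum.inl i =>
    (match row with
     | Sum.inl i' => if i' = i then [(0, 1)] else []
     | Sum.inr u => if u = r then [(1, -T.cartan i r)] else [])
  | Sum.inr s =>
    if s = r then
      (match row with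
       | Sum.inl _ => []
       | Sum.inr u => if u = r then [(0, 1)] else [])
    else if s = T.neg r then
      (match row with
       | Sum.inl i => [(1, T.cr r i)]
       | Sum.inr u => if u = s then [(0, 1)] else if u = r then [(2, -1)] else [])
    else
      (match row with
       | Sum.inl _ => []
       | Sum.inr u => (if u = s then [(0, 1)] else []) ++
           (((T.ce r s).zipIdx.filter fun q => q.1.1 = u).map fun q => (q.2 + 1, q.1.2)))

/-- The coordinates: the fundamental coroots, then the root vectors. -/
def idxList : List (ℕ ⊕ ℕ) := (List.range T.l).map Sum.inl ++ (List.range T.n).map Sum.inr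

end Tab

/-- The coordinates of the ideal: the short fundamental coroots and the short root vectors. -/
def inJ (sS sR : ℕ → Bool) : ℕ ⊕ ℕ → Bool
  | Sum.inl i => sS i
  | Sum.inr s => sR s

/-- The involution of the coordinates. -/
def gam (pi rho : ℕ → ℕ) : ℕ ⊕ ℕ → ℕ ⊕ ℕ
  | Sum.inl i => Sum.inl (pi i)
  | Sum.inr s => Sum.inr (rho s)

namespace Tab

variable (T : Tab)

/-- The data of the isogeny are involutions exchanging short and long. -/
def T22 (sS sR : ℕ → Bool) (pi rho : ℕ → ℕ) : Prop :=
  (∀ i < T.l, pi i < T.l ∧ pi (pi i) = i ∧ sS (pi i) = !sS i) ∧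
    ∀ r < T.n, rho r < T.n ∧ rho (rho r) = r ∧ sR (rho r) = !sR r

instance (sS sR : ℕ → Bool) (pi rho : ℕ → ℕ) : Decidable (T.T22 sS sR pi rho) := by
  unfold T22; infer_instance

/-- The ideal is invariant modulo `p`. -/
def T23 (p : ℕ) (sS sR : ℕ → Bool) : Prop :=
  ∀ r < T.n, ∀ row ∈ T.idxList, ∀ col ∈ T.idxList, inJ sS sR row = false → inJ sS sR col = true →
    ∀ km ∈ T.entry r row col, ((p : ℕ) : ℤ) ∣ km.2

instance (p : ℕ) (sS sR : ℕ → Bool) : Decidable (T.T23 p sS sR) := by
  unfold T23; infer_instance

/-- The action on the quotient is the action of the image under the isogeny on the ideal, modulo `p`. -/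
def T24 (p N : ℕ) (sS sR : ℕ → Bool) (pi rho : ℕ → ℕ) : Prop :=
  ∀ r < T.n, ∀ i ∈ T.idxList, ∀ j ∈ T.idxList, inJ sS sR i = true → inJ sS sR j = true →
    PolyEq p N (T.entry r (gam pi rho i) (gam pi rho j))
      ((T.entry (rho r) i j).map fun km => ((if sR r then p else 1) * km.1, km.2))

instance (p N : ℕ) (sS sR : ℕ → Bool) (pi rho : ℕ → ℕ) : Decidable (T.T24 p N sS sR pi rho) := by
  unfold T24; infer_instance

end Tab

variable {D : ChevalleyDatum} {F : Type*} [Field F]

/-- The coordinate as a pair of natural numbers. -/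
def raw (D : ChevalleyDatum) : D.Idx → ℕ ⊕ ℕ := Sum.map Fin.val Fin.val

theorem raw_mem_idxList (v : D.Idx) : raw D v ∈ (tabOf D).idxList := by
  unfold Tab.idxList
  rcases v with i | s
  · exact List.mem_append_left _ (List.mem_map.mpr ⟨i.val, List.mem_range.mpr i.2, rfl⟩)
  · exact List.mem_append_right _ (List.mem_map.mpr ⟨s.val, List.mem_range.mpr s.2, rfl⟩)

/-- The entries of `x_r(t)` are the values of the lists of monomials. -/
theorem xMat_apply_eq_evalL (r : Fin D.nroots) (hk : KeysNodup D r.val) (t : F) (row col : D.Idx) :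
    D.xMat F r t row col = evalL ((tabOf D).entry r.val (raw D row) (raw D col)) t := by
  rcases col with i | s
  · rcases row with i' | u
    · simp only [ChevalleyDatum.xMat, Matrix.of_apply, raw, Sum.map_inl, Tab.entry]
      by_cases h : i' = i
      · rw [if_pos h, if_pos (congrArg Fin.val h)]
        simp [evalL]
      · rw [if_neg h, if_neg (fun h' => h (Fin.ext h'))]
        simp [evalL]
    · simp only [ChevalleyDatum.xMat, Matrix.of_apply, raw, Sum.map_inl, Sum.map_inr, Tab.entry]
      by_cases h : u = r
      · rw [if_pos h, if_pos (congrArg Fin.val h)]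
        simp [evalL, tabOf, ChevalleyDatum.cartan]
      · rw [if_neg h, if_neg (fun h' => h (Fin.ext h'))]
        simp [evalL]
  · by_cases hsr : s = r
    · subst hsr
      rcases row with i' | u
      · simp [ChevalleyDatum.xMat, raw, Tab.entry, evalL]
      · simp only [ChevalleyDatum.xMat, Matrix.of_apply, raw, Sum.map_inr, Tab.entry, if_true]
        by_cases h : u = s
        · rw [if_pos h, if_pos (congrArg Fin.val h)]
          simp [evalL]
        · rw [if_neg h, if_neg (fun h' => h (Fin.ext h'))]
          simp [evalL]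
    · have hsr' : s.val ≠ r.val := fun h => hsr (Fin.ext h)
      by_cases hsn : s.val = D.negIdx.getD r.val 0
      · have hsn' : s.val = (tabOf D).neg r.val := hsn
        rcases row with i' | u
        · simp only [ChevalleyDatum.xMat, Matrix.of_apply, raw, Sum.map_inl, Sum.map_inr, Tab.entry,
            if_neg hsr, if_neg hsr', if_pos hsn, if_pos hsn']
          simp [evalL, tabOf, cr]
        · simp only [ChevalleyDatum.xMat, Matrix.of_apply, raw, Sum.map_inr, Tab.entry,
            if_neg hsr, if_neg hsr', if_pos hsn, if_pos hsn']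
          by_cases h1 : u = s
          · rw [if_pos h1, if_pos (congrArg Fin.val h1)]
            simp [evalL]
          · rw [if_neg h1, if_neg (fun h' => h1 (Fin.ext h'))]
            by_cases h2 : u = r
            · rw [if_pos h2, if_pos (congrArg Fin.val h2)]
              simp [evalL]
            · rw [if_neg h2, if_neg (fun h' => h2 (Fin.ext h'))]
              simp [evalL]
      · have hsn' : ¬ s.val = (tabOf D).neg r.val := hsn
        rcases row with i' | u
        · simp only [ChevalleyDatum.xMat, Matrix.of_apply, raw, Sum.map_inl, Sum.map_inr, Tab.entry,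
            if_neg hsr, if_neg hsr', if_neg hsn, if_neg hsn']
          simp [evalL]
        · simp only [ChevalleyDatum.xMat, Matrix.of_apply, raw, Sum.map_inr, Tab.entry,
            if_neg hsr, if_neg hsr', if_neg hsn, if_neg hsn']
          rw [chainCoeff_eq hk]
          have hce : (tabOf D).ce r.val s.val = D.chainEntry r.val s.val := rfl
          rw [hce]
          unfold evalL
          rw [List.map_append, List.sum_append]
          congr 1
          by_cases h1 : u = s
          · rw [if_pos h1, if_pos (congrArg Fin.val h1)]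
            simp
          · rw [if_neg h1, if_neg (fun h' => h1 (Fin.ext h'))]
            simp

end Cfsg.Agent.Helper7.Chev
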