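import Mathlib
import Cfsg.Agent.Helper7.ChevIso2

set_option autoImplicit false
set_option linter.unusedSectionVars false
set_option linter.unusedVariables false

/-!
The special isogenies: from the checks on the tables, the root elements are block triangular with respect to the
coordinates of the ideal, and the block of the quotient of `x_r(t)` is the block of the ideal of the image of
`x_r(t)` under the isogeny.
-/

namespace Cfsg.Agent.Helper7.Chev

open Cfsg Cfsg.Lie Matrix Cfsg.Agent.Helper7.Iso

variable {D : ChevalleyDatum} {F : Type*} [Field F]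

/-- The coordinates of the ideal. -/
def isoJ (D : ChevalleyDatum) (sS sR : ℕ → Bool) : D.Idx → Prop := fun v => inJ sS sR (raw D v) = true

instance (D : ChevalleyDatum) (sS sR : ℕ → Bool) : DecidablePred (isoJ D sS sR) := fun v => by
  unfold isoJ; infer_instance

/-- The involution of the coordinates. -/
def isoGam (D : ChevalleyDatum) (pi rho : ℕ → ℕ) : D.Idx → D.Idx
  | Sum.inl i => if h : pi i.val < D.rank then Sum.inl ⟨pi i.val, h⟩ else Sum.inl i
  | Sum.inr s => if h : rho s.val < D.nroots then Sum.inr ⟨rho s.val, h⟩ else Sum.inr s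

section iso

variable (hG : Good1 D) {p N : ℕ} [CharP F p] {sS sR : ℕ → Bool} {pi rho : ℕ → ℕ}
  (h22 : (tabOf D).T22 sS sR pi rho) (h23 : (tabOf D).T23 p sS sR)
  (h24 : (tabOf D).T24 p N sS sR pi rho)

include h22 in
theorem raw_isoGam (v : D.Idx) : raw D (isoGam D pi rho v) = gam pi rho (raw D v) := by
  rcases v with i | s
  · have h := (h22.1 i.val i.2).1
    have h' : pi i.val < D.rank := h
    simp only [isoGam, dif_pos h', raw, Sum.map_inl, gam]
  · have h := (h22.2 s.val s.2).1
    have h' : rho s.val < D.nroots := h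
    simp only [isoGam, dif_pos h', raw, Sum.map_inr, gam]

theorem raw_injective : Function.Injective (raw D) := by
  intro v w h
  rcases v with i | s <;> rcases w with j | u <;> simp only [raw, Sum.map_inl, Sum.map_inr] at h
  · exact congrArg Sum.inl (Fin.ext (Sum.inl.inj h))
  · exact absurd h (by simp)
  · exact absurd h (by simp)
  · exact congrArg Sum.inr (Fin.ext (Sum.inr.inj h))

include h22 in
theorem isoSwap : Swap (isoJ D sS sR) (isoGam D pi rho) := by
  constructor
  · intro v
    apply raw_injective
    rw [raw_isoGam h22, raw_isoGam h22]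
    rcases v with i | s
    · simp only [raw, Sum.map_inl, gam]
      rw [(h22.1 i.val i.2).2.1]
    · simp only [raw, Sum.map_inr, gam]
      rw [(h22.2 s.val s.2).2.1]
  · intro v
    unfold isoJ
    rw [raw_isoGam h22]
    rcases v with i | s
    · simp only [raw, Sum.map_inl, gam, inJ]
      rw [(h22.1 i.val i.2).2.2]
      cases sS i.val <;> simp
    · simp only [raw, Sum.map_inr, gam, inJ]
      rw [(h22.2 s.val s.2).2.2]
      cases sR s.val <;> simp

include hG h23 in
/-- The root elements leave the ideal invariant. -/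
theorem x_blockTri {r : ℕ} (hr : r < D.nroots) (t : F) : BlockTri (isoJ D sS sR) (D.x F r t) := by
  intro i j hi hj
  rw [x_of_lt D F hr, xMat_apply_eq_evalL ⟨r, hr⟩ (hG.keysNodup hr)]
  have hi' : inJ sS sR (raw D i) = false := by
    unfold isoJ at hi
    simpa using hi
  have key := h23 r hr (raw D i) (raw_mem_idxList i) (raw D j) (raw_mem_idxList j) hi' hj
  unfold evalL
  apply List.sum_eq_zero
  intro x hx
  rw [List.mem_map] at hx
  obtain ⟨km, hkm, rfl⟩ := hx
  have h0 : ((km.2 : ℤ) : F) = 0 := (CharP.intCast_eq_zero_iff F p _).mpr (key km hkm)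
  rw [h0, zero_mul]

include hG h22 h24 in
/-- The block of the quotient of `x_r(t)` is the block of the ideal of the image of `x_r(t)` under the isogeny. -/
theorem x_pull {r : ℕ} (hr : r < D.nroots) (t : F) :
    pull (isoJ D sS sR) (isoGam D pi rho) (D.x F r t) =
      corner (isoJ D sS sR) (D.x F (rho r) (t ^ (if sR r then p else 1))) := by
  have hρ : rho r < D.nroots := (h22.2 r hr).1
  ext i j
  rw [pull_apply, corner_apply]
  by_cases hij : isoJ D sS sR i ∧ isoJ D sS sR j
  · rw [if_pos hij, if_pos hij, x_of_lt D F hr, x_of_lt D F hρ,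
      xMat_apply_eq_evalL ⟨r, hr⟩ (hG.keysNodup hr), xMat_apply_eq_evalL ⟨rho r, hρ⟩ (hG.keysNodup hρ),
      raw_isoGam h22, raw_isoGam h22, evalL_pow]
    exact evalL_eq_of_polyEq (h24 r hr (raw D i) (raw_mem_idxList i) (raw D j) (raw_mem_idxList j)
      hij.1 hij.2) t
  · rw [if_neg hij, if_neg hij]

end iso

end Cfsg.Agent.Helper7.Chev
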