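import Mathlib
import Cfsg.Agent.Helper7.ChevIso4
import Cfsg.Agent.Helper7.ChevUp

set_option autoImplicit false
set_option linter.unusedSectionVars false
set_option linter.unusedVariables false

/-!
The automorphism `x_r(c) ↦ x_{-r}(-c)` of a Chevalley group: it is the conjugation by the permutation of the
coordinates that fixes the fundamental coroots and exchanges each root vector with the one of the negative root.
-/

namespace Cfsg.Agent.Helper7.Chev

open Cfsg Cfsg.Lie Matrix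

/-- Two lists of monomials give the same polynomial. -/
def PolyEqZ (N : ℕ) (L₁ L₂ : List (ℕ × ℤ)) : Prop :=
  (∀ km ∈ L₁, km.1 < N) ∧ (∀ km ∈ L₂, km.1 < N) ∧ ∀ k < N, coeffAt L₁ k = coeffAt L₂ k

instance (N : ℕ) (L₁ L₂ : List (ℕ × ℤ)) : Decidable (PolyEqZ N L₁ L₂) := by
  unfold PolyEqZ; infer_instance

theorem evalL_eq_of_polyEqZ {F : Type*} [Field F] {N : ℕ} {L₁ L₂ : List (ℕ × ℤ)}
    (h : PolyEqZ N L₁ L₂) (t : F) : evalL L₁ t = evalL L₂ t := by
  rw [evalL_eq_sum t L₁ h.1, evalL_eq_sum t L₂ h.2.1]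
  apply Finset.sum_congr rfl
  intro k hk
  rw [h.2.2 k (Finset.mem_range.mp hk)]

theorem evalL_neg {F : Type*} [Field F] (L : List (ℕ × ℤ)) (t : F) :
    evalL L (-t) = evalL (L.map fun km => (km.1, (-1) ^ km.1 * km.2)) t := by
  unfold evalL
  rw [List.map_map]
  congr 1
  apply List.map_congr_left
  intro km _
  simp only [Function.comp_apply]
  rw [neg_pow]
  push_cast
  ring

/-- The involution of the coordinates. -/
def gamN (neg : ℕ → ℕ) : ℕ ⊕ ℕ → ℕ ⊕ ℕ
  | Sum.inl i => Sum.inl i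
  | Sum.inr s => Sum.inr (neg s)

namespace Tab

variable (T : Tab)

/-- The entries of `x_{-r}(-c)` are those of `x_r(c)` after the involution of the coordinates. -/
def T25 (N : ℕ) : Prop :=
  ∀ r < T.n, ∀ i ∈ T.idxList, ∀ j ∈ T.idxList,
    PolyEqZ N (T.entry r (gamN T.neg i) (gamN T.neg j))
      ((T.entry (T.neg r) i j).map fun km => (km.1, (-1) ^ km.1 * km.2))

instance (N : ℕ) : Decidable (T.T25 N) := by
  unfold T25; infer_instance

end Tab

variable {D : ChevalleyDatum} {F : Type*} [Field F]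

/-- The involution of the coordinates. -/
def nuGam (D : ChevalleyDatum) : D.Idx → D.Idx
  | Sum.inl i => Sum.inl i
  | Sum.inr s => if h : D.neg s.val < D.nroots then Sum.inr ⟨D.neg s.val, h⟩ else Sum.inr s

section nu

variable (hG : Good1 D) {N : ℕ} (h25 : (tabOf D).T25 N)

include hG in
theorem raw_nuGam (v : D.Idx) : raw D (nuGam D v) = gamN (tabOf D).neg (raw D v) := by
  rcases v with i | s
  · rfl
  · have h : D.neg s.val < D.nroots := hG.neg_lt s.2
    simp only [nuGam, dif_pos h, raw, Sum.map_inr, gamN]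
    rfl

include hG in
theorem nuGam_invol (v : D.Idx) : nuGam D (nuGam D v) = v := by
  apply raw_injective
  rw [raw_nuGam hG, raw_nuGam hG]
  rcases v with i | s
  · rfl
  · simp only [raw, Sum.map_inr, gamN]
    have := hG.neg_neg s.2
    exact congrArg Sum.inr this

/-- The involution of the coordinates as a permutation. -/
def nuEquiv : D.Idx ≃ D.Idx where
  toFun := nuGam D
  invFun := nuGam D
  left_inv := nuGam_invol hG
  right_inv := nuGam_invol hG

include hG h25 in
/-- The entries of `x_{-r}(-c)` are those of `x_r(c)` after the involution of the coordinates. -/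
theorem x_submatrix_nuGam {r : ℕ} (hr : r < D.nroots) (t : F) :
    (D.x F r t).submatrix (nuGam D) (nuGam D) = D.x F (D.neg r) (-t) := by
  have hn : D.neg r < D.nroots := hG.neg_lt hr
  ext i j
  rw [Matrix.submatrix_apply, x_of_lt D F hr, x_of_lt D F hn,
    xMat_apply_eq_evalL ⟨r, hr⟩ (hG.keysNodup hr), xMat_apply_eq_evalL ⟨D.neg r, hn⟩ (hG.keysNodup hn),
    raw_nuGam hG, raw_nuGam hG, evalL_neg]
  exact evalL_eq_of_polyEqZ (h25 r hr (raw D i) (raw_mem_idxList i) (raw D j) (raw_mem_idxList j)) t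

end nu

end Cfsg.Agent.Helper7.Chev

namespace Cfsg.Agent.Helper7.Chev

open Cfsg Cfsg.Lie Matrix

variable {D : ChevalleyDatum} {F : Type*} [Field F]

section nuAut

variable (hG : Good1 D) {N : ℕ} (h25 : (tabOf D).T25 N)

/-- The automorphism of the general linear group permuting the coordinates. -/
noncomputable def nuGL : GL D.Idx F ≃* GL D.Idx F :=
  Units.mapEquiv (Matrix.reindexAlgEquiv F F (nuEquiv hG)).toMulEquiv

theorem nuGL_coe (g : GL D.Idx F) :
    ((nuGL hG g : GL D.Idx F) : Matrix D.Idx D.Idx F) =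
      (g : Matrix D.Idx D.Idx F).submatrix (nuGam D) (nuGam D) := rfl

theorem nuGL_nuGL (g : GL D.Idx F) : nuGL hG (nuGL hG g) = g := by
  apply Units.ext
  rw [nuGL_coe, nuGL_coe]
  ext i j
  rw [Matrix.submatrix_apply, Matrix.submatrix_apply, nuGam_invol hG, nuGam_invol hG]

include h25 in
theorem nuGL_x {g : GL D.Idx F} {r : ℕ} (hr : r < D.nroots) {t : F}
    (hg : (g : Matrix D.Idx D.Idx F) = D.x F r t) :
    ((nuGL hG g : GL D.Idx F) : Matrix D.Idx D.Idx F) = D.x F (D.neg r) (-t) := by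
  rw [nuGL_coe, hg, x_submatrix_nuGam hG h25 hr]

include h25 in
theorem nuGL_xGL {r : ℕ} (hr : r < D.nroots) (t : F) :
    nuGL hG (xGL hG hr t) = xGL hG (hG.neg_lt hr) (-t) := by
  apply Units.ext
  rw [nuGL_x hG h25 hr (xGL_coe hG hr t), xGL_coe]

include h25 in
theorem map_nu_group : (D.group F).map (nuGL hG (F := F)).toMonoidHom = D.group F := by
  unfold ChevalleyDatum.group
  rw [MonoidHom.map_closure]
  congr 1
  ext g
  constructor
  · rintro ⟨h, ⟨r, t, hh⟩, rfl⟩
    have hh' : (h : Matrix D.Idx D.Idx F) = D.x F r.val t := by rw [hh, x_of_lt D F r.2]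
    refine ⟨⟨D.neg r.val, hG.neg_lt r.2⟩, -t, ?_⟩
    change ((nuGL hG h : GL D.Idx F) : Matrix D.Idx D.Idx F) = _
    rw [nuGL_x hG h25 r.2 hh', x_of_lt D F (hG.neg_lt r.2)]
  · rintro ⟨r, t, hg⟩
    have hg' : (g : Matrix D.Idx D.Idx F) = D.x F r.val t := by rw [hg, x_of_lt D F r.2]
    refine ⟨nuGL hG g, ⟨⟨D.neg r.val, hG.neg_lt r.2⟩, -t, ?_⟩, ?_⟩
    · rw [nuGL_x hG h25 r.2 hg', x_of_lt D F (hG.neg_lt r.2)]
    · exact nuGL_nuGL hG g

/-- The automorphism `x_r(c) ↦ x_{-r}(-c)` of the Chevalley group. -/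
noncomputable def nuAut : ↥(D.group F) ≃* ↥(D.group F) :=
  ((nuGL hG (F := F)).subgroupMap (D.group F)).trans
    (MulEquiv.subgroupCongr (map_nu_group hG h25))

theorem nuAut_coe (g : ↥(D.group F)) :
    ((nuAut hG h25 g : ↥(D.group F)) : GL D.Idx F) = nuGL hG (g : GL D.Idx F) := rfl

theorem nuAut_x {g : ↥(D.group F)} {r : ℕ} (hr : r < D.nroots) {t : F}
    (hg : ((g : GL D.Idx F) : Matrix D.Idx D.Idx F) = D.x F r t) :
    (((nuAut hG h25 g : ↥(D.group F)) : GL D.Idx F) : Matrix D.Idx D.Idx F) =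
      D.x F (D.neg r) (-t) := by
  rw [nuAut_coe, nuGL_x hG h25 hr hg]

end nuAut

end Cfsg.Agent.Helper7.Chev
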