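import Mathlib
import Cfsg.Agent.Helper7.ChevNu1
import Cfsg.Agent.Helper7.ChevTabG2
import Cfsg.Agent.Helper7.ChevTabB2

set_option autoImplicit false
set_option maxRecDepth 1000000
set_option maxHeartbeats 4000000

/-! The check on the tables for the automorphism `x_r(c) ↦ x_{-r}(-c)`, types `G₂`, `B₂`. -/

namespace Cfsg.Agent.Helper7.Chev

open Cfsg Cfsg.Lie

theorem T25fast_G2 : fastG2.T25 5 := by decide +kernel
theorem T25_G2 : (tabOf chevG2).T25 5 := tab_G2 ▸ T25fast_G2

theorem T25fast_B2 : fastB2.T25 5 := by decide +kernel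
theorem T25_B2 : (tabOf chevB2).T25 5 := tab_B2 ▸ T25fast_B2

end Cfsg.Agent.Helper7.Chev
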