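import Mathlib
import Cfsg.Agent.Helper7.ChevIso2
import Cfsg.Agent.Helper7.ChevTabG2
import Cfsg.Agent.Helper7.ChevTabB2
import Cfsg.Agent.Helper7.ChevTabF4

set_option autoImplicit false
set_option maxRecDepth 1000000
set_option maxHeartbeats 4000000

/-! The data of the special isogenies of type `G₂` (characteristic 3), `B₂` and `F₄` (characteristic 2), and the checks on the tables. -/

namespace Cfsg.Agent.Helper7.Chev

open Cfsg Cfsg.Lie

def isoSS_G2 : ℕ → Bool := fun i => [true, false].getD i false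
def isoSR_G2 : ℕ → Bool := fun i => [false, false, true, true, true, false, false, true, true, true, false, false].getD i false
def isoPi_G2 : ℕ → ℕ := fun i => [1, 0].getD i 0
def isoRho_G2 : ℕ → ℕ := fun i => [2, 3, 0, 1, 5, 4, 7, 6, 10, 11, 8, 9].getD i 0

theorem T22fast_G2 : fastG2.T22 isoSS_G2 isoSR_G2 isoPi_G2 isoRho_G2 := by decide +kernel
theorem T22_G2 : (tabOf chevG2).T22 isoSS_G2 isoSR_G2 isoPi_G2 isoRho_G2 := tab_G2 ▸ T22fast_G2
theorem T23fast_G2 : fastG2.T23 3 isoSS_G2 isoSR_G2 := by decide +kernel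
theorem T23_G2 : (tabOf chevG2).T23 3 isoSS_G2 isoSR_G2 := tab_G2 ▸ T23fast_G2
theorem T24fast_G2 : fastG2.T24 3 10 isoSS_G2 isoSR_G2 isoPi_G2 isoRho_G2 := by decide +kernel
theorem T24_G2 : (tabOf chevG2).T24 3 10 isoSS_G2 isoSR_G2 isoPi_G2 isoRho_G2 := tab_G2 ▸ T24fast_G2

def isoSS_B2 : ℕ → Bool := fun i => [true, false].getD i false
def isoSR_B2 : ℕ → Bool := fun i => [false, true, true, false, false, true, true, false].getD i false
def isoPi_B2 : ℕ → ℕ := fun i => [1, 0].getD i 0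
def isoRho_B2 : ℕ → ℕ := fun i => [1, 0, 3, 2, 5, 4, 7, 6].getD i 0

theorem T22fast_B2 : fastB2.T22 isoSS_B2 isoSR_B2 isoPi_B2 isoRho_B2 := by decide +kernel
theorem T22_B2 : (tabOf chevB2).T22 isoSS_B2 isoSR_B2 isoPi_B2 isoRho_B2 := tab_B2 ▸ T22fast_B2
theorem T23fast_B2 : fastB2.T23 2 isoSS_B2 isoSR_B2 := by decide +kernel
theorem T23_B2 : (tabOf chevB2).T23 2 isoSS_B2 isoSR_B2 := tab_B2 ▸ T23fast_B2
theorem T24fast_B2 : fastB2.T24 2 5 isoSS_B2 isoSR_B2 isoPi_B2 isoRho_B2 := by decide +kernel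
theorem T24_B2 : (tabOf chevB2).T24 2 5 isoSS_B2 isoSR_B2 isoPi_B2 isoRho_B2 := tab_B2 ▸ T24fast_B2

def isoSS_F4 : ℕ → Bool := fun i => [true, true, false, false].getD i false
def isoSR_F4 : ℕ → Bool := fun i => [false, false, false, true, false, false, false, true, true, true, true, true, true, true, true, false, false, false, true, true, true, false, false, false, false, false, false, true, true, true, false, false, false, true, true, true, true, true, true, true, true, false, false, false, true, false, false, false].getD i false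
def isoPi_F4 : ℕ → ℕ := fun i => [3, 2, 1, 0].getD i 0
def isoRho_F4 : ℕ → ℕ := fun i => [3, 7, 8, 0, 9, 11, 18, 1, 2, 4, 15, 5, 16, 21, 23, 10, 12, 19, 6, 17, 22, 13, 20, 14, 33, 27, 34, 25, 30, 41, 28, 35, 37, 24, 26, 31, 42, 32, 43, 45, 46, 29, 36, 38, 47, 39, 40, 44].getD i 0

theorem T22fast_F4 : fastF4.T22 isoSS_F4 isoSR_F4 isoPi_F4 isoRho_F4 := by decide +kernel
theorem T22_F4 : (tabOf chevF4).T22 isoSS_F4 isoSR_F4 isoPi_F4 isoRho_F4 := tab_F4 ▸ T22fast_F4
theorem T23fast_F4 : fastF4.T23 2 isoSS_F4 isoSR_F4 := by decide +kernel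
theorem T23_F4 : (tabOf chevF4).T23 2 isoSS_F4 isoSR_F4 := tab_F4 ▸ T23fast_F4
theorem T24fast_F4 : fastF4.T24 2 5 isoSS_F4 isoSR_F4 isoPi_F4 isoRho_F4 := by decide +kernel
theorem T24_F4 : (tabOf chevF4).T24 2 5 isoSS_F4 isoSR_F4 isoPi_F4 isoRho_F4 := tab_F4 ▸ T24fast_F4

end Cfsg.Agent.Helper7.Chev
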