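import Mathlib
import Cfsg.Agent.Helper7.BNBruhat

set_option autoImplicit false

/-!
Parabolic subgroups of a (B,N)-pair: overgroups of `B`.
-/

namespace Cfsg.Agent.Helper7.BN

open Cfsg DoubleCoset InvWords
open scoped Pointwise

variable {G : Type*} [Group G] (P : Cfsg.BNPair G)

/-- An element of `RS` is the image of some `s ∈ S`. -/
theorem exists_rep_of_mem_RS {r : W P} (hr : r ∈ RS P) :
    ∃ s ∈ P.S, ∃ hs : s ∈ P.N, proj P ⟨s, hs⟩ = r ∧ CW P r = C P s := by
  obtain ⟨n, hn, rfl⟩ := hr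
  exact ⟨n, hn, n.2, rfl, CW_proj P n⟩

theorem B_le_parabolic (J : Set G) : P.B ≤ P.parabolic J := le_sup_left

theorem closure_le_parabolic (J : Set G) : Subgroup.closure J ≤ P.parabolic J := le_sup_right

theorem mem_parabolic_of_mem {J : Set G} {s : G} (hs : s ∈ J) : s ∈ P.parabolic J :=
  closure_le_parabolic P J (Subgroup.subset_closure hs)

theorem parabolic_mono {J K : Set G} (h : J ⊆ K) : P.parabolic J ≤ P.parabolic K :=
  sup_le_sup_left (Subgroup.closure_mono h) _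

theorem parabolic_le_iff {J : Set G} {M : Subgroup G} : P.parabolic J ≤ M ↔ P.B ≤ M ∧ J ⊆ M := by
  unfold BNPair.parabolic
  rw [sup_le_iff, Subgroup.closure_le]

/-- A subgroup containing `B` is a union of double cosets. -/
theorem C_subset_of_mem {M : Subgroup G} (hM : P.B ≤ M) {g x : G} (hg : g ∈ M) (hx : x ∈ C P g) :
    x ∈ M := by
  obtain ⟨b, hb, b', hb', rfl⟩ := (mem_C P).mp hx
  exact M.mul_mem (M.mul_mem (hM hb) hg) (hM hb')

theorem mem_of_C_mem {M : Subgroup G} (hM : P.B ≤ M) {g x : G} (hx : x ∈ C P g) (hxM : x ∈ M) :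
    g ∈ M := by
  obtain ⟨b, hb, b', hb', rfl⟩ := (mem_C P).mp hx
  have h1 : b⁻¹ * (b * g * b') * b'⁻¹ ∈ M :=
    M.mul_mem (M.mul_mem (M.inv_mem (hM hb)) hxM) (M.inv_mem (hM hb'))
  have e : b⁻¹ * (b * g * b') * b'⁻¹ = g := by group
  rwa [e] at h1

theorem mem_parabolic_of_mem_aux (M : Subgroup G) (hM : P.B ≤ M) :
    ∀ (q : ℕ) (w : W P), len (RS P) w = q → ∀ g ∈ CW P w, g ∈ M →
      g ∈ P.parabolic (P.S ∩ (M : Set G)) := by
  intro q
  induction q with
  | zero =>
    intro w hw g hg _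
    have hw1 : w = 1 := (len_eq_zero_iff (invol_RS P) (mem_closure_RS P w)).mp hw
    subst hw1
    rw [CW_one] at hg
    exact B_le_parabolic P _ hg
  | succ q ih =>
    intro w hw g hg hgM
    obtain ⟨r, hr, w'', _, hlen, rfl⟩ := exists_left_decomp (invol_RS P) (mem_closure_RS P w) hw
    have hlt : len (RS P) (r * (r * w'')) < len (RS P) (r * w'') := by
      rw [← mul_assoc, RS_mul_self P hr, one_mul]; omega
    obtain ⟨x, hx, y, hy, hxy⟩ := exists_mul_mem_of_len_lt P hr hlt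
    obtain ⟨s, hsS, hsN, hsr, hCs⟩ := exists_rep_of_mem_RS P hr
    -- all of C(r w'') is in M
    have hall : ∀ z ∈ CW P (r * w''), z ∈ M := by
      intro z hz
      have : CW P (r * w'') = C P g := (C_eq_of_mem P hg).symm
      rw [this] at hz
      exact C_subset_of_mem P hM hgM hz
    have hxM : x ∈ M := by
      have h1 := hall y hy
      have h2 := hall _ hxy
      have := M.mul_mem h2 (M.inv_mem h1)
      rwa [mul_inv_cancel_right] at this
    have hsM : s ∈ M := by
      rw [hCs] at hx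
      exact mem_of_C_mem P hM hx hxM
    have hsJ : s ∈ P.S ∩ (M : Set G) := ⟨hsS, hsM⟩
    obtain ⟨x', hx', z, hz, rfl⟩ := CW_mul_decomp P hg
    have hx'M : x' ∈ M := by
      rw [hCs] at hx'
      exact C_subset_of_mem P hM hsM hx'
    have hx'P : x' ∈ P.parabolic (P.S ∩ (M : Set G)) := by
      rw [hCs] at hx'
      exact C_subset_of_mem P (B_le_parabolic P _) (mem_parabolic_of_mem P hsJ) hx'
    have hzM : z ∈ M := by
      have := M.mul_mem (M.inv_mem hx'M) hgM
      rwa [inv_mul_cancel_left] at this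
    exact Subgroup.mul_mem _ hx'P (ih w'' hlen z hz hzM)

/-- Every overgroup of `B` is the standard parabolic subgroup of `S ∩ M`. -/
theorem eq_parabolic_of_le (M : Subgroup G) (hM : P.B ≤ M) :
    M = P.parabolic (P.S ∩ (M : Set G)) := by
  apply le_antisymm
  · intro g hg
    obtain ⟨w, hw⟩ := exists_mem_CW P g
    exact mem_parabolic_of_mem_aux P M hM _ w rfl g hw hg
  · rw [parabolic_le_iff]
    exact ⟨hM, Set.inter_subset_right⟩

end Cfsg.Agent.Helper7.BN

namespace Cfsg.Agent.Helper7.BN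

open Cfsg DoubleCoset InvWords
open scoped Pointwise

variable {G : Type*} [Group G] (P : Cfsg.BNPair G)

/-- The subgroup generated by `B` and `n B n⁻¹`. -/
def BconjB (n : G) : Subgroup G := P.B ⊔ P.B.map (MulAut.conj n).toMonoidHom

theorem B_le_BconjB (n : G) : P.B ≤ BconjB P n := le_sup_left

theorem conj_mem_BconjB (n : G) {b : G} (hb : b ∈ P.B) : n * b * n⁻¹ ∈ BconjB P n := by
  apply (le_sup_right : P.B.map (MulAut.conj n).toMonoidHom ≤ BconjB P n)
  exact ⟨b, hb, by simp⟩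

theorem BconjB_le {n : G} {M : Subgroup G} (hB : P.B ≤ M) (h : ∀ b ∈ P.B, n * b * n⁻¹ ∈ M) :
    BconjB P n ≤ M := by
  unfold BconjB
  rw [sup_le_iff]
  refine ⟨hB, ?_⟩
  rintro x ⟨b, hb, rfl⟩
  simpa using h b hb

theorem rep_mem_BconjB_aux : ∀ (q : ℕ) (n : P.N), len (RS P) (proj P n) = q → (n : G) ∈ BconjB P (n : G) := by
  intro q
  induction q with
  | zero =>
    intro n hn
    have hw1 : proj P n = 1 := (len_eq_zero_iff (invol_RS P) (mem_closure_RS P _)).mp hn
    exact B_le_BconjB P _ ((proj_eq_one_iff P).mp hw1)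
  | succ q ih =>
    intro n hn
    obtain ⟨r, hr, w'', _, hlen, hw⟩ := exists_left_decomp (invol_RS P) (mem_closure_RS P _) hn
    have hlt : len (RS P) (r * proj P n) < len (RS P) (proj P n) := by
      rw [hw, ← mul_assoc, RS_mul_self P hr, one_mul, ← hw]; omega
    obtain ⟨x, hx, y, hy, hxy⟩ := exists_mul_mem_of_len_lt P hr hlt
    obtain ⟨s, hsS, hsN, hsr, hCs⟩ := exists_rep_of_mem_RS P hr
    rw [hCs] at hx
    rw [CW_proj] at hy hxy
    obtain ⟨b1, hb1, b2, hb2, rfl⟩ := (mem_C P).mp hx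
    obtain ⟨b3, hb3, b4, hb4, rfl⟩ := (mem_C P).mp hy
    obtain ⟨b5, hb5, b6, hb6, h56⟩ := (mem_C P).mp hxy
    have hs : s = b1⁻¹ * b5 * ((n : G) * (b6 * b4⁻¹) * (n : G)⁻¹) * b3⁻¹ * b2⁻¹ := by
      have : b1 * s * b2 = (b5 * n * b6) * (b3 * n * b4)⁻¹ := by
        rw [← h56]; group
      have h2 : s = b1⁻¹ * (b1 * s * b2) * b2⁻¹ := by group
      rw [h2, this]; group
    have hB := B_le_BconjB P (n : G)
    have hsM : s ∈ BconjB P (n : G) := by
      rw [hs]
      refine Subgroup.mul_mem _ (Subgroup.mul_mem _ (Subgroup.mul_mem _ (Subgroup.mul_mem _ ?_ ?_) ?_) ?_) ?_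
      · exact hB (P.B.inv_mem hb1)
      · exact hB hb5
      · exact conj_mem_BconjB P _ (P.B.mul_mem hb6 (P.B.inv_mem hb4))
      · exact hB (P.B.inv_mem hb3)
      · exact hB (P.B.inv_mem hb2)
    -- n' = s⁻¹ n
    set n' : P.N := ⟨s, hsN⟩⁻¹ * n with hn'
    have hpn' : proj P n' = w'' := by
      rw [hn', map_mul, map_inv, hsr, hw, ← mul_assoc, inv_mul_cancel, one_mul]
    have hn'M := ih n' (by rw [hpn']; exact hlen)
    have hle : BconjB P (n' : G) ≤ BconjB P (n : G) := by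
      apply BconjB_le P hB
      intro b hb
      have e : (n' : G) * b * (n' : G)⁻¹ = s⁻¹ * ((n : G) * b * (n : G)⁻¹) * s := by
        simp only [hn', Subgroup.coe_mul, Subgroup.coe_inv]; group
      rw [e]
      exact Subgroup.mul_mem _ (Subgroup.mul_mem _ (Subgroup.inv_mem _ hsM) (conj_mem_BconjB P _ hb)) hsM
    have := Subgroup.mul_mem _ hsM (hle hn'M)
    have e : s * (n' : G) = n := by
      simp only [hn', Subgroup.coe_mul, Subgroup.coe_inv]; group
    rwa [e] at this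

theorem rep_mem_BconjB {n : G} (hn : n ∈ P.N) : n ∈ BconjB P n :=
  rep_mem_BconjB_aux P _ ⟨n, hn⟩ rfl

/-- `⟨B, n⟩ = ⟨B, n B n⁻¹⟩` for `n ∈ N`. -/
theorem B_sup_closure_eq {n : G} (hn : n ∈ P.N) :
    P.B ⊔ Subgroup.closure {n} = BconjB P n := by
  apply le_antisymm
  · rw [sup_le_iff, Subgroup.closure_le]
    refine ⟨B_le_BconjB P n, ?_⟩
    rintro x rfl
    exact rep_mem_BconjB P hn
  · apply BconjB_le P le_sup_left
    intro b hb
    have hnM : n ∈ P.B ⊔ Subgroup.closure {n} :=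
      (le_sup_right : Subgroup.closure {n} ≤ _) (Subgroup.subset_closure rfl)
    exact Subgroup.mul_mem _ (Subgroup.mul_mem _ hnM (le_sup_left (a := P.B) hb)) (Subgroup.inv_mem _ hnM)

end Cfsg.Agent.Helper7.BN

namespace Cfsg.Agent.Helper7.BN

open Cfsg DoubleCoset InvWords
open scoped Pointwise

variable {G : Type*} [Group G] (P : Cfsg.BNPair G)

/-- If `M ≥ B` and `g B g⁻¹ ≤ M` then `g ∈ M`. -/
theorem mem_of_conj_B_le {M : Subgroup G} (hM : P.B ≤ M) {g : G}
    (h : ∀ b ∈ P.B, g * b * g⁻¹ ∈ M) : g ∈ M := by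
  obtain ⟨n, hn, hg⟩ := bruhat_exists P g
  obtain ⟨b1, hb1, b2, hb2, rfl⟩ := (mem_C P).mp hg
  have hle : BconjB P n ≤ M := by
    apply BconjB_le P hM
    intro b hb
    have e : n * b * n⁻¹ = b1⁻¹ * ((b1 * n * b2) * (b2⁻¹ * b * b2) * (b1 * n * b2)⁻¹) * b1 := by group
    rw [e]
    exact M.mul_mem (M.mul_mem (M.inv_mem (hM hb1))
      (h _ (P.B.mul_mem (P.B.mul_mem (P.B.inv_mem hb2) hb) hb2))) (hM hb1)
  exact M.mul_mem (M.mul_mem (hM hb1) (hle (rep_mem_BconjB P hn))) (hM hb2)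

/-- Overgroups of `B` are self-normalising. -/
theorem normalizer_eq_of_le {M : Subgroup G} (hM : P.B ≤ M) :
    Subgroup.normalizer (M : Set G) = M := by
  apply le_antisymm
  · intro g hg
    apply mem_of_conj_B_le P hM
    intro b hb
    exact (hg b).mp (hM hb)
  · exact Subgroup.le_normalizer

/-- Conjugate overgroups of `B` coincide. -/
theorem eq_of_conj_eq {M M' : Subgroup G} (hM : P.B ≤ M) (hM' : P.B ≤ M') (g : G)
    (h : M.map (MulAut.conj g).toMonoidHom = M') : M = M' := by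
  have hg : g ∈ M' := by
    apply mem_of_conj_B_le P hM'
    intro b hb
    rw [← h]
    exact ⟨b, hM hb, by simp⟩
  ext x
  have h1 : x ∈ M ↔ g * x * g⁻¹ ∈ M' := by
    rw [← h]
    constructor
    · intro hx
      exact ⟨x, hx, by simp⟩
    · rintro ⟨y, hy, hyx⟩
      have : y = x := by
        have : g * y * g⁻¹ = g * x * g⁻¹ := by simpa using hyx
        simpa using this
      exact this ▸ hy
  rw [h1]
  constructor
  · intro hx
    have := M'.mul_mem (M'.mul_mem (M'.inv_mem hg) hx) hg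
    have e : g⁻¹ * (g * x * g⁻¹) * g = x := by group
    rwa [e] at this
  · intro hx
    exact M'.mul_mem (M'.mul_mem hg hx) (M'.inv_mem hg)

end Cfsg.Agent.Helper7.BN
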