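import Mathlib
import Cfsg.Agent.Helper7.BNParabolic

set_option autoImplicit false

/-!
Parabolic subgroups of a (B,N)-pair: dependence on the index set.
-/

namespace Cfsg.Agent.Helper7.BN

open Cfsg DoubleCoset InvWords
open scoped Pointwise

variable {G : Type*} [Group G] (P : Cfsg.BNPair G)

/-- If the image of `s ∈ S` lies in the subgroup of `W` generated by the images of `J ⊆ S`, then `s ∈ J`. -/
theorem mem_of_proj_mem_closure_Rset {J : Set G} (hJ : J ⊆ P.S) {s : G} (hs : s ∈ P.S)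
    (h : proj P ⟨s, P.subset hs⟩ ∈ Subgroup.closure (Rset P J)) : s ∈ J := by
  have h1 : proj P ⟨s, P.subset hs⟩ ∈ Rset P J :=
    gen_mem_of_mem_closure (invol_RS P) (exchange_RS P) (Rset_mono P hJ) (one_not_mem_RS P)
      (mem_Rset_of_mem P hs (P.subset hs)) h
  obtain ⟨n', hn', hp⟩ := h1
  rw [proj_eq_iff] at hp
  have : (n' : G) = s := P.inj _ (hJ hn') _ hs hp
  rw [← this]; exact hn'

/-- Minimality of the generating set. -/
theorem not_mem_closure_diff {s : G} (hs : s ∈ P.S) :
    s ∉ Subgroup.closure (P.S \ {s}) ⊔ (P.B ⊓ P.N) := by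
  intro h
  have hJ : P.S \ {s} ⊆ P.S := Set.sdiff_subset
  have := (mem_closure_sup_T_iff P (hJ.trans P.subset) ⟨s, P.subset hs⟩).mp h
  have := mem_of_proj_mem_closure_Rset P hJ hs this
  exact this.2 rfl

end Cfsg.Agent.Helper7.BN

namespace Cfsg.Agent.Helper7.BN

open Cfsg DoubleCoset InvWords
open scoped Pointwise

variable {G : Type*} [Group G] (P : Cfsg.BNPair G)

/-- An element `n ∈ N` lies in `P_J` iff its image in `W` lies in `W_J`. -/
theorem rep_mem_parabolic_iff {J : Set G} (hJ : J ⊆ P.S) (n : P.N) :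
    (n : G) ∈ P.parabolic J ↔ proj P n ∈ Subgroup.closure (Rset P J) := by
  have hJN : J ⊆ (P.N : Set G) := hJ.trans P.subset
  constructor
  · intro h
    obtain ⟨m, hm, hnm⟩ := (mem_parabolic_iff P hJ _).mp h
    have hmN : m ∈ P.N := (Subgroup.closure_le _).mpr hJN hm
    have h1 : CW P (proj P n) = CW P (proj P ⟨m, hmN⟩) := by
      rw [CW_proj, CW_proj]
      exact C_eq_of_mem P hnm
    rw [CW_injective P h1, ← mem_closure_sup_T_iff P hJN]
    exact (le_sup_left : Subgroup.closure J ≤ _) hm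
  · intro h
    have := (mem_closure_sup_T_iff P hJN n).mpr h
    have hle : Subgroup.closure J ⊔ (P.B ⊓ P.N) ≤ P.parabolic J :=
      sup_le (closure_le_parabolic P J) (inf_le_left.trans (B_le_parabolic P J))
    exact hle this

/-- An element of `C(w)` lies in `P_J` iff `w ∈ W_J`. -/
theorem mem_parabolic_iff_CW {J : Set G} (hJ : J ⊆ P.S) {g : G} {w : W P} (hg : g ∈ CW P w) :
    g ∈ P.parabolic J ↔ w ∈ Subgroup.closure (Rset P J) := by
  obtain ⟨n, rfl⟩ := proj_surjective P w
  rw [CW_proj] at hg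
  rw [← rep_mem_parabolic_iff P hJ]
  exact ⟨fun h => mem_of_C_mem P (B_le_parabolic P J) hg h,
    fun h => C_subset_of_mem P (B_le_parabolic P J) h hg⟩

/-- A distinguished generator lying in `P_J` lies in `J`. -/
theorem mem_of_mem_parabolic {J : Set G} (hJ : J ⊆ P.S) {s : G} (hs : s ∈ P.S)
    (h : s ∈ P.parabolic J) : s ∈ J :=
  mem_of_proj_mem_closure_Rset P hJ hs ((rep_mem_parabolic_iff P hJ ⟨s, P.subset hs⟩).mp h)

theorem parabolic_le_parabolic_iff {J K : Set G} (hJ : J ⊆ P.S) (hK : K ⊆ P.S) :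
    P.parabolic J ≤ P.parabolic K ↔ J ⊆ K := by
  constructor
  · intro h s hs
    exact mem_of_mem_parabolic P hK (hJ hs) (h (mem_parabolic_of_mem P hs))
  · exact parabolic_mono P

theorem parabolic_injective {J K : Set G} (hJ : J ⊆ P.S) (hK : K ⊆ P.S)
    (h : P.parabolic J = P.parabolic K) : J = K :=
  Set.Subset.antisymm ((parabolic_le_parabolic_iff P hJ hK).mp h.le)
    ((parabolic_le_parabolic_iff P hK hJ).mp h.ge)

theorem parabolic_inf {J K : Set G} (hJ : J ⊆ P.S) (hK : K ⊆ P.S) :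
    P.parabolic J ⊓ P.parabolic K = P.parabolic (J ∩ K) := by
  apply le_antisymm
  · rintro g ⟨h1, h2⟩
    obtain ⟨w, hw⟩ := exists_mem_CW P g
    have hJK : J ∩ K ⊆ P.S := Set.inter_subset_left.trans hJ
    rw [mem_parabolic_iff_CW P hJK hw, ← Rset_inter P hJ hK,
      ← closure_inter (invol_RS P) (exchange_RS P) (Rset_mono P hJ) (Rset_mono P hK) (one_not_mem_RS P)]
    exact ⟨(mem_parabolic_iff_CW P hJ hw).mp h1, (mem_parabolic_iff_CW P hK hw).mp h2⟩
  · exact le_inf (parabolic_mono P Set.inter_subset_left) (parabolic_mono P Set.inter_subset_right)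

/-- The lattice isomorphism between subsets of `S` and overgroups of `B`. -/
theorem exists_orderIso :
    ∃ e : Set P.S ≃o {M : Subgroup G // P.B ≤ M},
      ∀ J : Set P.S, ((e J : {M : Subgroup G // P.B ≤ M}) : Subgroup G) = P.parabolic (Subtype.val '' J) := by
  let f : Set P.S → {M : Subgroup G // P.B ≤ M} :=
    fun J => ⟨P.parabolic (Subtype.val '' J), B_le_parabolic P _⟩
  have hsub : ∀ J : Set P.S, Subtype.val '' J ⊆ P.S := by
    rintro J _ ⟨s, _, rfl⟩; exact s.2
  have hle : ∀ J K : Set P.S, f J ≤ f K ↔ J ≤ K := by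
    intro J K
    change P.parabolic (Subtype.val '' J) ≤ P.parabolic (Subtype.val '' K) ↔ _
    rw [parabolic_le_parabolic_iff P (hsub J) (hsub K)]
    exact Set.image_subset_image_iff Subtype.val_injective
  have hinj : Function.Injective f := by
    intro J K h
    exact le_antisymm ((hle J K).mp h.le) ((hle K J).mp h.ge)
  have hsurj : Function.Surjective f := by
    rintro ⟨M, hM⟩
    refine ⟨{s : P.S | (s : G) ∈ M}, ?_⟩
    apply Subtype.ext
    change P.parabolic (Subtype.val '' {s : P.S | (s : G) ∈ M}) = M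
    have : Subtype.val '' {s : P.S | (s : G) ∈ M} = P.S ∩ (M : Set G) := by
      ext x
      constructor
      · rintro ⟨s, hs, rfl⟩; exact ⟨s.2, hs⟩
      · rintro ⟨h1, h2⟩; exact ⟨⟨x, h1⟩, h2, rfl⟩
    rw [this]
    exact (eq_parabolic_of_le P M hM).symm
  refine ⟨⟨Equiv.ofBijective f ⟨hinj, hsurj⟩, ?_⟩, ?_⟩
  · intro J K
    exact hle J K
  · intro J
    rfl

end Cfsg.Agent.Helper7.BN
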