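import Mathlib
import Cfsg.Agent.Helper7.BNIndex

set_option autoImplicit false

/-!
Tits' simplicity criterion for groups with a (B,N)-pair.
-/

namespace Cfsg.Agent.Helper7.BN

open Cfsg DoubleCoset InvWords
open scoped Pointwise

variable {G : Type*} [Group G] (P : Cfsg.BNPair G)

theorem len_mul_ne_right {r w : W P} (hr : r ∈ RS P) : len (RS P) (w * r) ≠ len (RS P) w := by
  have h := len_mul_ne P hr (w := w⁻¹)
  rw [← len_inv (invol_RS P) (mem_closure_RS P (r * w⁻¹)), mul_inv_rev, inv_inv, RS_inv P hr,
    len_inv (invol_RS P) (mem_closure_RS P w)] at h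
  exact h

theorem mem_RS_of_len_eq_one {w : W P} (h : len (RS P) w = 1) : w ∈ RS P := by
  obtain ⟨l, hl, rfl, hlen⟩ := exists_reduced_word (invol_RS P) (mem_closure_RS P w)
  rw [h] at hlen
  match l, hl, hlen with
  | [x], hl, _ =>
    simp only [List.prod_cons, List.prod_nil, mul_one]
    exact hl x (by simp)

/-- The key commutation lemma: if `t r` or `t r t` lies in a parabolic subgroup `W_K` with `t ∉ K`,
then `r` and `t` commute. -/
theorem comm_of_mem_closure {r t : W P} (hr : r ∈ RS P) (ht : t ∈ RS P) (hrt : r ≠ t)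
    {K : Set (W P)} (hK : K ⊆ RS P) (htK : t ∉ K)
    (h : t * r ∈ Subgroup.closure K ∨ t * r * t ∈ Subgroup.closure K) : t * r = r * t := by
  have hR := invol_RS P
  have hE := exchange_RS P
  have h1R := one_not_mem_RS P
  have hlr : len (RS P) r = 1 := len_gen hR hr (RS_ne_one P hr)
  have hl2 : len (RS P) (t * r) = 2 := by
    have h1 := len_mul_ne P ht (w := r)
    have h2 := len_gen_mul_le hR ht (mem_closure_RS P r)
    have h3 : len (RS P) (t * r) ≠ 0 := by
      intro h0
      have h4 := (len_eq_zero_iff hR (mem_closure_RS P _)).mp h0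
      apply hrt
      have h5 : t = r⁻¹ := eq_inv_of_mul_eq_one_left h4
      rw [RS_inv P hr] at h5
      exact h5.symm
    omega
  have hw2 : IsWord (RS P) [t, r] := by
    intro x hx
    simp only [List.mem_cons, List.not_mem_nil, or_false] at hx
    rcases hx with rfl | rfl
    · exact ht
    · exact hr
  have hred2 : InvWords.IsReduced (RS P) [t, r] := by
    unfold InvWords.IsReduced
    simp only [List.length_cons, List.length_nil, List.prod_cons, List.prod_nil, mul_one]
    omega
  rcases h with h | h
  · exfalso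
    have := isWord_of_reduced_of_mem_closure hR hE hK h1R [t, r] hw2 hred2 (by simpa using h)
    exact htK (this t (by simp))
  · have hl3 : len (RS P) (t * r * t) = 1 ∨ len (RS P) (t * r * t) = 3 := by
      have h1 := len_mul_ne_right P ht (w := t * r)
      have h2 := len_mul_gen_le hR ht (mem_closure_RS P (t * r))
      have h3 := len_le_mul_gen hR ht (mem_closure_RS P (t * r))
      omega
    rcases hl3 with hl3 | hl3
    · have hu : t * r * t ∈ RS P := mem_RS_of_len_eq_one P hl3
      have hsub : ({t * r * t, t} : Set (W P)) ⊆ RS P := by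
        rintro x (rfl | rfl)
        · exact hu
        · exact ht
      have e : t * r = (t * r * t) * t := by
        rw [mul_assoc (t * r), RS_mul_self P ht, mul_one]
      have hmem : [t, r].prod ∈ Subgroup.closure ({t * r * t, t} : Set (W P)) := by
        have e' : [t, r].prod = (t * r * t) * t := by
          simp only [List.prod_cons, List.prod_nil, mul_one]
          exact e
        rw [e']
        exact Subgroup.mul_mem _ (Subgroup.subset_closure (by simp)) (Subgroup.subset_closure (by simp))
      have := isWord_of_reduced_of_mem_closure hR hE hsub h1R [t, r] hw2 hred2 hmem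
      have hr' := this r (by simp)
      rcases hr' with hr' | hr'
      · rw [e, ← hr']
      · exact absurd hr' hrt
    · exfalso
      have hw3 : IsWord (RS P) [t, r, t] := by
        intro x hx
        simp only [List.mem_cons, List.not_mem_nil, or_false] at hx
        rcases hx with rfl | rfl | rfl
        · exact ht
        · exact hr
        · exact ht
      have hp : [t, r, t].prod = t * r * t := by simp [mul_assoc]
      have hred3 : InvWords.IsReduced (RS P) [t, r, t] := by
        unfold InvWords.IsReduced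
        rw [hp, hl3]
        rfl
      have := isWord_of_reduced_of_mem_closure hR hE hK h1R [t, r, t] hw3 hred3 (by rw [hp]; exact h)
      exact htK (this t (by simp))

end Cfsg.Agent.Helper7.BN

namespace Cfsg.Agent.Helper7.BN

open Cfsg DoubleCoset InvWords
open scoped Pointwise

variable {G : Type*} [Group G] (P : Cfsg.BNPair G)

theorem len_le_len_mul_of_ne {r t : W P} (hr : r ∈ RS P) (_ht : t ∈ RS P) (hrt : r ≠ t) :
    len (RS P) r ≤ len (RS P) (t * r) := by
  have hR := invol_RS P
  have hlr : len (RS P) r = 1 := len_gen hR hr (RS_ne_one P hr)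
  have h3 : len (RS P) (t * r) ≠ 0 := by
    intro h0
    have h4 := (len_eq_zero_iff hR (mem_closure_RS P _)).mp h0
    apply hrt
    have h5 : t = r⁻¹ := eq_inv_of_mul_eq_one_left h4
    rw [RS_inv P hr] at h5
    exact h5.symm
  omega

/-- For a normal subgroup `H`: a generator in `B H` and a generator outside `B H` commute modulo `B`. -/
theorem comm_mem_B_of_normal (H : Subgroup G) [hH : H.Normal] {s s' : G} (hs : s ∈ P.S) (hs' : s' ∈ P.S)
    (hsM : s ∈ P.B ⊔ H) (hs'M : s' ∉ P.B ⊔ H) : s * s' * s⁻¹ * s'⁻¹ ∈ P.B := by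
  set M : Subgroup G := P.B ⊔ H with hM
  have hBM : P.B ≤ M := le_sup_left
  have hpar := eq_parabolic_of_le P M hBM
  have hX : P.S ∩ (M : Set G) ⊆ P.S := Set.inter_subset_left
  have hsN := P.subset hs
  have hs'N := P.subset hs'
  have hr : proj P ⟨s, hsN⟩ ∈ RS P := mem_Rset_of_mem P hs hsN
  have ht : proj P ⟨s', hs'N⟩ ∈ RS P := mem_Rset_of_mem P hs' hs'N
  have hrt : proj P ⟨s, hsN⟩ ≠ proj P ⟨s', hs'N⟩ := by
    intro h
    rw [proj_eq_iff] at h
    have : s = s' := P.inj s hs s' hs' h
    exact hs'M (this ▸ hsM)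
  have htK : proj P ⟨s', hs'N⟩ ∉ Rset P (P.S ∩ (M : Set G)) := by
    intro h
    have := mem_of_proj_mem_closure_Rset P hX hs' (Subgroup.subset_closure h)
    exact hs'M this.2
  -- an element of `H ∩ C(s)`
  have hsM' : s ∈ ((P.B ⊔ H : Subgroup G) : Set G) := hsM
  rw [Subgroup.mul_normal, Set.mem_mul] at hsM'
  obtain ⟨b, hb, h, hh, hbh⟩ := hsM'
  have hhC : h ∈ CW P (proj P ⟨s, hsN⟩) := by
    rw [CW_proj]
    have : h = b⁻¹ * s := by rw [← hbh]; group
    rw [this]
    exact mul_mem_C_left P (P.B.inv_mem hb) (self_mem_C P s)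
  have hs'C : s' ∈ CW P (proj P ⟨s', hs'N⟩) := by
    rw [CW_proj]; exact self_mem_C P s'
  have hs'iC : s'⁻¹ ∈ CW P (proj P ⟨s', hs'N⟩) := by
    rw [CW_proj]; exact S_inv_mem_C P hs'
  have hgood : Good P (proj P ⟨s', hs'N⟩) (proj P ⟨s, hsN⟩) :=
    good_of_le P ht (len_le_len_mul_of_ne P hr ht hrt)
  have h1 := hgood s' hs'C h hhC
  have h2 := CW_T3_right P ht h1 hs'iC
  have hgM : s' * h * s'⁻¹ ∈ M := (le_sup_right : H ≤ M) (hH.conj_mem h hh s')
  rw [hpar] at hgM
  have hcomm : proj P ⟨s', hs'N⟩ * proj P ⟨s, hsN⟩ = proj P ⟨s, hsN⟩ * proj P ⟨s', hs'N⟩ := by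
    apply comm_of_mem_closure P hr ht hrt (Rset_mono P hX) htK
    rcases h2 with h2 | h2
    · right
      exact (mem_parabolic_iff_CW P hX h2).mp hgM
    · left
      exact (mem_parabolic_iff_CW P hX h2).mp hgM
  have hone : proj P (⟨s, hsN⟩ * ⟨s', hs'N⟩ * ⟨s, hsN⟩⁻¹ * ⟨s', hs'N⟩⁻¹) = 1 := by
    rw [map_mul, map_mul, map_mul, map_inv, map_inv, ← hcomm]
    group
  exact (proj_eq_one_iff P).mp hone

/-- If `G = B H` with `H` normal, `B` solvable and `G` perfect, then `H = G`. -/
theorem eq_top_of_sup_eq_top (H : Subgroup G) [hH : H.Normal] (hsolv : Group.IsSolvable P.B)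
    (hperf : commutator G = ⊤) (hsup : P.B ⊔ H = ⊤) : H = ⊤ := by
  let f : P.B →* G ⧸ H := (QuotientGroup.mk' H).comp P.B.subtype
  have hf : Function.Surjective f := by
    intro q
    induction q using QuotientGroup.induction_on with | _ g => ?_
    have hg : g ∈ ((P.B ⊔ H : Subgroup G) : Set G) := by rw [hsup]; trivial
    rw [Subgroup.mul_normal, Set.mem_mul] at hg
    obtain ⟨b, hb, h, hh, rfl⟩ := hg
    refine ⟨⟨b, hb⟩, ?_⟩
    change ((b : G) : G ⧸ H) = ((b * h : G) : G ⧸ H)
    rw [QuotientGroup.eq]
    simpa using hh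
  have hsq : Group.IsSolvable (G ⧸ H) := Group.isSolvable_of_surjective hf
  have hperfq : commutator (G ⧸ H) = ⊤ := by
    rw [commutator_def, ← Subgroup.map_top_of_surjective (QuotientGroup.mk' H) (QuotientGroup.mk'_surjective H),
      ← Subgroup.map_commutator, ← commutator_def, hperf]
  have hsub : Subsingleton (G ⧸ H) := by
    by_contra hns
    rw [not_subsingleton_iff_nontrivial] at hns
    have := Group.IsSolvable.commutator_lt_top_of_nontrivial (G := G ⧸ H)
    rw [hperfq] at this
    exact lt_irrefl _ this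
  exact QuotientGroup.subgroup_eq_top_of_subsingleton H hsub

/-- Tits' simplicity criterion. -/
theorem isSimpleGroup_of_irreducible [Nontrivial G] (hirr : P.Irreducible) (hsolv : Group.IsSolvable P.B)
    (hperf : commutator G = ⊤) (hcore : P.B.normalCore = ⊥) : IsSimpleGroup G := by
  refine ⟨fun H hH => ?_⟩
  set M : Subgroup G := P.B ⊔ H with hM
  have hBM : P.B ≤ M := le_sup_left
  have hpar := eq_parabolic_of_le P M hBM
  by_cases hX : (P.S ∩ (M : Set G)).Nonempty
  · by_cases hX' : (P.S \ (P.S ∩ (M : Set G))).Nonempty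
    · exfalso
      obtain ⟨s, hs, s', hs', hns⟩ := hirr _ Set.inter_subset_left hX hX'
      apply hns
      apply comm_mem_B_of_normal P H hs.1 hs'.1 hs.2
      intro h
      exact hs'.2 ⟨hs'.1, h⟩
    · right
      rw [Set.not_nonempty_iff_eq_empty, Set.sdiff_eq_empty] at hX'
      have : M = ⊤ := by
        rw [eq_top_iff, ← closure_S_sup_B P]
        apply sup_le hBM
        rw [Subgroup.closure_le]
        intro s hs
        exact (hX' hs).2
      exact eq_top_of_sup_eq_top P H hsolv hperf this
  · left
    rw [Set.not_nonempty_iff_eq_empty] at hX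
    rw [hX] at hpar
    unfold BNPair.parabolic at hpar
    rw [Subgroup.closure_empty, sup_bot_eq] at hpar
    have hHB : H ≤ P.B := by
      rw [← hpar]
      exact le_sup_right
    have := (Subgroup.normal_le_normalCore (H := P.B) (N := H)).mpr hHB
    rw [hcore] at this
    exact le_bot_iff.mp this

end Cfsg.Agent.Helper7.BN
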