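import Mathlib
import Cfsg.Agent.Helper7.ChevBN
import Cfsg.Agent.Helper7.BNSimple

set_option autoImplicit false
set_option linter.unusedSectionVars false
set_option linter.unusedVariables false

/-!
Simplicity of the Chevalley groups, from Tits' criterion.
-/

namespace Cfsg.Agent.Helper7.Chev

open Cfsg Cfsg.Lie Matrix

namespace Tab

variable (T : Tab)

/-- The Dynkin diagram is connected (along the given order of the nodes), and for adjacent nodes the
square of the product of the two reflections makes one of the two fundamental roots negative. -/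
def T13 (ord : List ℕ) : Prop :=
  0 < T.l ∧ (∀ i < T.l, i ∈ ord) ∧ (∀ i ∈ ord, i < T.l) ∧
  (∀ k < ord.length, 0 < k → ∃ m < k,
    T.cartan (ord.getD m 0) (T.simple (ord.getD k 0)) ≠ 0 ∧ ord.getD m 0 ≠ ord.getD k 0) ∧
  AllLt T.l (fun i => AllLt T.l (fun j => i ≠ j → T.cartan i (T.simple j) ≠ 0 →
    (T.reflWord [i, j, i, j] (T.simple i) < T.n / 2 ∨
      T.reflWord [i, j, i, j] (T.simple j) < T.n / 2) ∧
    (T.reflWord [j, i, j, i] (T.simple i) < T.n / 2 ∨
      T.reflWord [j, i, j, i] (T.simple j) < T.n / 2)))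

instance (ord : List ℕ) : Decidable (T.T13 ord) := by unfold T13; infer_instance

end Tab

variable {D : ChevalleyDatum} {F : Type*} [Field F]

section simple

variable (hG : Good2 D) (hT : T0 D) (h3 : (tabOf D).T3) (h4 : (tabOf D).T4 60) (h5 : (tabOf D).T5)
  (h6 : (tabOf D).T6) (h8 : (tabOf D).T8) (h9 : (tabOf D).T9)

include hG hT h8 in
/-- If the commutator of `n_i` and `n_j` lies in `B`, the word `i j i j` preserves the positive
roots. -/
theorem reflWord_pos_of_comm_mem_borel {i j : ℕ} (hi : i < D.rank) (hj : j < D.rank)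
    (hB : nGL hG.toGood1 (hG.toGood1.simple_lt hi) * nGL hG.toGood1 (hG.toGood1.simple_lt hj) *
      (nGL hG.toGood1 (hG.toGood1.simple_lt hi))⁻¹ *
      (nGL hG.toGood1 (hG.toGood1.simple_lt hj))⁻¹ ∈ D.borelSubgroup F) :
    ∀ s < D.nroots, D.nroots / 2 ≤ s → D.nroots / 2 ≤ (tabOf D).reflWord [i, j, i, j] s := by
  have hG1 := hG.toGood1
  have hpi := hG1.simple_lt hi
  have hpj := hG1.simple_lt hj
  have hHB : D.diagonalSubgroup F ≤ D.borelSubgroup F := le_sup_right
  set ni : GL D.Idx F := nGL hG1 hpi with hni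
  set nj : GL D.Idx F := nGL hG1 hpj with hnj
  have hw : ∀ k ∈ [i, j, i, j], k < D.rank := by
    intro k hk
    simp only [List.mem_cons, List.not_mem_nil, or_false] at hk
    rcases hk with rfl | rfl | rfl | rfl <;> assumption
  apply reflWord_pos_of_mem_borel (F := F) hG hT h8 hw
  have e : (nWordGL hG [i, j, i, j] : GL D.Idx F) =
      (ni * nj * ni⁻¹ * nj⁻¹) * (nj * (ni * ni) * nj⁻¹) * (nj * nj) := by
    rw [nWordGL_cons hG hi, nWordGL_cons hG hj, nWordGL_cons hG hi, nWordGL_cons hG hj, nWordGL_nil,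
      ← hni, ← hnj]
    group
  rw [e]
  have hnjN : nj ∈ Subgroup.normalizer (D.diagonalSubgroup F : Set (GL D.Idx F)) :=
    monomialSubgroup_le_normalizer hG (nGL_mem_monomial hG hpj)
  exact mul_mem (mul_mem hB (hHB (conj_mem_diagonal hnjN (nGL_sq_mem hG hpi))))
    (hHB (nGL_sq_mem hG hpj))

include hG hT h3 h4 h5 h6 h8 h9 in
/-- Simplicity of the Chevalley group from perfectness. -/
theorem isSimpleGroup_of_perfect {ord : List ℕ} (h13 : (tabOf D).T13 ord) {w0 : List ℕ}
    (hw0 : (tabOf D).W0ok w0) (hperf : commutator ↥(D.group F) = ⊤) :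
    IsSimpleGroup ↥(D.group F) ∧ ¬ IsMulCommutative ↥(D.group F) := by
  classical
  have hG1 := hG.toGood1
  obtain ⟨hl, hord1, hord2, hord3, hord4⟩ := h13
  have hl' : 0 < D.rank := hl
  obtain ⟨P, hPB, hPN, hPS⟩ := exists_bnPair (F := F) hG hT h3 h4 h5 h6 h8 h9
  have hBG : D.borelSubgroup F ≤ D.group F := borelSubgroup_le_group hG1
  -- nontrivial
  have hp0 := hG1.simple_lt hl'
  have hx0G : xGL hG1 hp0 (1 : F) ∈ D.group F := by
    apply Subgroup.subset_closure
    exact ⟨⟨_, hp0⟩, 1, by rw [xGL_coe, x_of_lt D F hp0]⟩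
  haveI : Nontrivial ↥(D.group F) := by
    refine ⟨⟨⟨xGL hG1 hp0 (1 : F), hx0G⟩, 1, ?_⟩⟩
    intro h
    have h' : xGL hG1 hp0 (1 : F) = 1 := congrArg Subtype.val h
    exact xGL_ne_one hG hT h8 hp0 one_ne_zero h'
  -- the representatives
  have hnG : ∀ i (hi : i < D.rank), (nGL hG1 (hG1.simple_lt hi) : GL D.Idx F) ∈ D.group F :=
    fun i hi => monomialSubgroup_le_group hG1 (nGL_mem_monomial hG (hG1.simple_lt hi))
  have hnS : ∀ i (hi : i < D.rank), (⟨nGL hG1 (hG1.simple_lt hi), hnG i hi⟩ : ↥(D.group F)) ∈ P.S := by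
    intro i hi
    rw [hPS]
    exact ⟨i, hi, nGL_coe hG1 _⟩
  have hSn : ∀ s ∈ P.S, ∃ i, ∃ hi : i < D.rank,
      s = (⟨nGL hG1 (hG1.simple_lt hi), hnG i hi⟩ : ↥(D.group F)) := by
    intro s hs
    rw [hPS] at hs
    obtain ⟨i, hi, hs⟩ := hs
    exact ⟨i, hi, Subtype.ext (Units.ext (hs.trans (nGL_coe hG1 _).symm))⟩
  have hirr : P.Irreducible := by
    intro J hJ hJne hJc
    let I : ℕ → Prop := fun i => ∃ hi : i < D.rank,
      (⟨nGL hG1 (hG1.simple_lt hi), hnG i hi⟩ : ↥(D.group F)) ∈ J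
    obtain ⟨s, hsJ⟩ := hJne
    obtain ⟨i₀, hi₀, rfl⟩ := hSn s (hJ hsJ)
    obtain ⟨s', hs'S, hs'J⟩ := hJc
    obtain ⟨j₀, hj₀, rfl⟩ := hSn s' hs'S
    have hIi : I i₀ := ⟨hi₀, hsJ⟩
    have hIj : ¬ I j₀ := fun ⟨_, h⟩ => hs'J h
    -- positions
    obtain ⟨ki, hki, hkie⟩ := List.getElem_of_mem (hord1 i₀ hi₀)
    obtain ⟨kj, hkj, hkje⟩ := List.getElem_of_mem (hord1 j₀ hj₀)
    have hgi : ord.getD ki 0 = i₀ := by rw [List.getD_eq_getElem _ _ hki, hkie]
    have hgj : ord.getD kj 0 = j₀ := by rw [List.getD_eq_getElem _ _ hkj, hkje]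
    let Q : ℕ → Prop := fun k => k < ord.length ∧ (I (ord.getD k 0) ↔ ¬ I (ord.getD 0 0))
    have hQ : ∃ k, Q k := by
      by_cases h0 : I (ord.getD 0 0)
      · refine ⟨kj, hkj, ?_⟩
        rw [hgj]
        exact ⟨fun h => absurd h hIj, fun h => absurd h0 h⟩
      · refine ⟨ki, hki, ?_⟩
        rw [hgi]
        exact ⟨fun _ => h0, fun _ => hIi⟩
    set k := Nat.find hQ with hk
    have hQk : Q k := Nat.find_spec hQ
    have hk0 : 0 < k := by
      rcases Nat.eq_zero_or_pos k with h | h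
      · exfalso
        rw [h] at hQk
        have := hQk.2
        tauto
      · exact h
    obtain ⟨m, hmk, hadj, hne⟩ := hord3 k hQk.1 hk0
    have hQm : ¬ Q m := Nat.find_min hQ hmk
    have hmlen : m < ord.length := lt_trans hmk hQk.1
    have hIm : I (ord.getD m 0) ↔ I (ord.getD 0 0) := by
      by_contra h
      apply hQm
      refine ⟨hmlen, ?_⟩
      tauto
    have hIk : I (ord.getD k 0) ↔ ¬ I (ord.getD m 0) := by
      rw [hIm]; exact hQk.2
    set a := ord.getD m 0 with ha
    set b := ord.getD k 0 with hb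
    have ha' : a < D.rank := hord2 a (by rw [ha, List.getD_eq_getElem _ _ hmlen]; exact List.getElem_mem _)
    have hb' : b < D.rank := hord2 b (by rw [hb, List.getD_eq_getElem _ _ hQk.1]; exact List.getElem_mem _)
    obtain ⟨t1, t2⟩ := hord4 a ha' b hb' hne hadj
    have hpa := simple_pos hG1 hT ha'
    have hpb := simple_pos hG1 hT hb'
    have hla := hG1.simple_lt ha'
    have hlb := hG1.simple_lt hb'
    by_cases hIa : I a
    · -- `n_a ∈ J`, `n_b ∉ J`
      obtain ⟨_, haJ⟩ := hIa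
      have hbJ : (⟨nGL hG1 hlb, hnG b hb'⟩ : ↥(D.group F)) ∉ J := by
        intro h
        exact (hIk.mp ⟨hb', h⟩) ⟨ha', haJ⟩
      refine ⟨_, haJ, _, ⟨hnS b hb', hbJ⟩, ?_⟩
      intro hmem
      rw [hPB] at hmem
      have hmem' : nGL hG1 hla * nGL hG1 hlb * (nGL hG1 hla)⁻¹ * (nGL hG1 hlb)⁻¹ ∈
          D.borelSubgroup F := hmem
      have hpos := reflWord_pos_of_comm_mem_borel (F := F) hG hT h8 ha' hb' hmem'
      rcases t1 with t | t
      · have := hpos _ hla hpa
        change D.nroots / 2 ≤ (tabOf D).reflWord [a, b, a, b] ((tabOf D).simple a) at this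
        have t' : (tabOf D).reflWord [a, b, a, b] ((tabOf D).simple a) < D.nroots / 2 := t
        omega
      · have := hpos _ hlb hpb
        change D.nroots / 2 ≤ (tabOf D).reflWord [a, b, a, b] ((tabOf D).simple b) at this
        have t' : (tabOf D).reflWord [a, b, a, b] ((tabOf D).simple b) < D.nroots / 2 := t
        omega
    · -- `n_b ∈ J`, `n_a ∉ J`
      have hIb : I b := hIk.mpr hIa
      obtain ⟨_, hbJ⟩ := hIb
      have haJ : (⟨nGL hG1 hla, hnG a ha'⟩ : ↥(D.group F)) ∉ J := fun h => hIa ⟨ha', h⟩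
      refine ⟨_, hbJ, _, ⟨hnS a ha', haJ⟩, ?_⟩
      intro hmem
      rw [hPB] at hmem
      have hmem' : nGL hG1 hlb * nGL hG1 hla * (nGL hG1 hlb)⁻¹ * (nGL hG1 hla)⁻¹ ∈
          D.borelSubgroup F := hmem
      have hpos := reflWord_pos_of_comm_mem_borel (F := F) hG hT h8 hb' ha' hmem'
      rcases t2 with t | t
      · have := hpos _ hla hpa
        change D.nroots / 2 ≤ (tabOf D).reflWord [b, a, b, a] ((tabOf D).simple a) at this
        have t' : (tabOf D).reflWord [b, a, b, a] ((tabOf D).simple a) < D.nroots / 2 := t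
        omega
      · have := hpos _ hlb hpb
        change D.nroots / 2 ≤ (tabOf D).reflWord [b, a, b, a] ((tabOf D).simple b) at this
        have t' : (tabOf D).reflWord [b, a, b, a] ((tabOf D).simple b) < D.nroots / 2 := t
        omega
  have hsolv : Group.IsSolvable ↥P.B := by
    rw [hPB]
    have hBs : Group.IsSolvable ↥(D.borelSubgroup F) := borel_isSolvable (F := F) hG hT
    let f : ↥((D.borelSubgroup F).subgroupOf (D.group F)) →* ↥(D.borelSubgroup F) :=
      { toFun := fun x => ⟨(x : ↥(D.group F)), x.2⟩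
        map_one' := rfl
        map_mul' := fun _ _ => rfl }
    apply solvable_of_solvable_injective (f := f)
    intro x y hxy
    have := congrArg (fun z : ↥(D.borelSubgroup F) => (z : GL D.Idx F)) hxy
    exact Subtype.ext (Subtype.ext this)
  have hcore : P.B.normalCore = ⊥ := by
    rw [hPB]
    exact borel_normalCore_eq_bot hG hT h8 hw0
  refine ⟨BN.isSimpleGroup_of_irreducible P hirr hsolv hperf hcore, ?_⟩
  intro hcomm
  have hbot : commutator ↥(D.group F) = ⊥ := by
    rw [eq_bot_iff, commutator_def, Subgroup.commutator_le]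
    intro a _ b _
    rw [Subgroup.mem_bot, commutatorElement_def]
    have := (isMulCommutative_iff.mp hcomm) a b
    rw [this]; group
  rw [hperf] at hbot
  exact top_ne_bot hbot

end simple

end Cfsg.Agent.Helper7.Chev
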