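import Mathlib
import Cfsg.Agent.Helper7.ChevSimple

set_option autoImplicit false
set_option linter.unusedSectionVars false
set_option linter.unusedVariables false

/-!
Normal subgroups of a group with an irreducible (B,N)-pair lie in the core of `B` or, together with `B`, generate
the group; for the Chevalley groups, they are trivial or supplement `B`.
-/

namespace Cfsg.Agent.Helper7.BN

open Cfsg DoubleCoset InvWords
open scoped Pointwise

variable {G : Type*} [Group G] (P : Cfsg.BNPair G)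

/-- A normal subgroup of a group with an irreducible (B,N)-pair lies in the core of `B` or supplements `B`. -/
theorem normal_le_core_or_sup_eq_top (hirr : P.Irreducible) (H : Subgroup G) [hH : H.Normal] :
    H ≤ P.B.normalCore ∨ P.B ⊔ H = ⊤ := by
  set M : Subgroup G := P.B ⊔ H with hM
  have hBM : P.B ≤ M := le_sup_left
  have hpar := eq_parabolic_of_le P M hBM
  by_cases hX : (P.S ∩ (M : Set G)).Nonempty
  · by_cases hX' : (P.S \ (P.S ∩ (M : Set G))).Nonempty
    · exfalso
      obtain ⟨s, hs, s', hs', hns⟩ := hirr _ Set.inter_subset_left hX hX'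
      apply hns
      apply comm_mem_B_of_normal P H hs.1 hs'.1 hs.2
      intro h
      exact hs'.2 ⟨hs'.1, h⟩
    · right
      rw [Set.not_nonempty_iff_eq_empty, Set.sdiff_eq_empty] at hX'
      rw [eq_top_iff, ← closure_S_sup_B P]
      apply sup_le hBM
      rw [Subgroup.closure_le]
      intro s hs
      exact (hX' hs).2
  · left
    rw [Set.not_nonempty_iff_eq_empty] at hX
    rw [hX] at hpar
    unfold BNPair.parabolic at hpar
    rw [Subgroup.closure_empty, sup_bot_eq] at hpar
    have hHB : H ≤ P.B := by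
      rw [← hpar]
      exact le_sup_right
    exact (Subgroup.normal_le_normalCore (H := P.B) (N := H)).mpr hHB

end Cfsg.Agent.Helper7.BN

namespace Cfsg.Agent.Helper7.Chev

open Cfsg Cfsg.Lie Matrix

variable {D : ChevalleyDatum} {F : Type*} [Field F]

section normal

variable (hG : Good2 D) (hT : T0 D) (h3 : (tabOf D).T3) (h4 : (tabOf D).T4 60) (h5 : (tabOf D).T5)
  (h6 : (tabOf D).T6) (h8 : (tabOf D).T8) (h9 : (tabOf D).T9)

include hG hT h3 h4 h5 h6 h8 h9 in
/-- The (B,N)-pair of a Chevalley group with connected Dynkin diagram is irreducible. -/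
theorem exists_bnPair_irreducible {ord : List ℕ} (h13 : (tabOf D).T13 ord) :
    ∃ P : Cfsg.BNPair ↥(D.group F),
      P.B = (D.borelSubgroup F).subgroupOf (D.group F) ∧
      P.N = (D.monomialSubgroup F).subgroupOf (D.group F) ∧ P.Irreducible := by
  classical
  have hG1 := hG.toGood1
  obtain ⟨hl, hord1, hord2, hord3, hord4⟩ := h13
  have hl' : 0 < D.rank := hl
  obtain ⟨P, hPB, hPN, hPS⟩ := exists_bnPair (F := F) hG hT h3 h4 h5 h6 h8 h9
  have hBG : D.borelSubgroup F ≤ D.group F := borelSubgroup_le_group hG1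
  -- nontrivial
  have hp0 := hG1.simple_lt hl'
  have hx0G : xGL hG1 hp0 (1 : F) ∈ D.group F := by
    apply Subgroup.subset_closure
    exact ⟨⟨_, hp0⟩, 1, by rw [xGL_coe, x_of_lt D F hp0]⟩
  haveI : Nontrivial ↥(D.group F) := by
    refine ⟨⟨⟨xGL hG1 hp0 (1 : F), hx0G⟩, 1, ?_⟩⟩
    intro h
    have h' : xGL hG1 hp0 (1 : F) = 1 := congrArg Subtype.val h
    exact xGL_ne_one hG hT h8 hp0 one_ne_zero h'
  -- the representatives
  have hnG : ∀ i (hi : i < D.rank), (nGL hG1 (hG1.simple_lt hi) : GL D.Idx F) ∈ D.group F :=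
    fun i hi => monomialSubgroup_le_group hG1 (nGL_mem_monomial hG (hG1.simple_lt hi))
  have hnS : ∀ i (hi : i < D.rank), (⟨nGL hG1 (hG1.simple_lt hi), hnG i hi⟩ : ↥(D.group F)) ∈ P.S := by
    intro i hi
    rw [hPS]
    exact ⟨i, hi, nGL_coe hG1 _⟩
  have hSn : ∀ s ∈ P.S, ∃ i, ∃ hi : i < D.rank,
      s = (⟨nGL hG1 (hG1.simple_lt hi), hnG i hi⟩ : ↥(D.group F)) := by
    intro s hs
    rw [hPS] at hs
    obtain ⟨i, hi, hs⟩ := hs
    exact ⟨i, hi, Subtype.ext (Units.ext (hs.trans (nGL_coe hG1 _).symm))⟩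
  have hirr : P.Irreducible := by
    intro J hJ hJne hJc
    let I : ℕ → Prop := fun i => ∃ hi : i < D.rank,
      (⟨nGL hG1 (hG1.simple_lt hi), hnG i hi⟩ : ↥(D.group F)) ∈ J
    obtain ⟨s, hsJ⟩ := hJne
    obtain ⟨i₀, hi₀, rfl⟩ := hSn s (hJ hsJ)
    obtain ⟨s', hs'S, hs'J⟩ := hJc
    obtain ⟨j₀, hj₀, rfl⟩ := hSn s' hs'S
    have hIi : I i₀ := ⟨hi₀, hsJ⟩
    have hIj : ¬ I j₀ := fun ⟨_, h⟩ => hs'J h
    -- positions
    obtain ⟨ki, hki, hkie⟩ := List.getElem_of_mem (hord1 i₀ hi₀)
    obtain ⟨kj, hkj, hkje⟩ := List.getElem_of_mem (hord1 j₀ hj₀)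
    have hgi : ord.getD ki 0 = i₀ := by rw [List.getD_eq_getElem _ _ hki, hkie]
    have hgj : ord.getD kj 0 = j₀ := by rw [List.getD_eq_getElem _ _ hkj, hkje]
    let Q : ℕ → Prop := fun k => k < ord.length ∧ (I (ord.getD k 0) ↔ ¬ I (ord.getD 0 0))
    have hQ : ∃ k, Q k := by
      by_cases h0 : I (ord.getD 0 0)
      · refine ⟨kj, hkj, ?_⟩
        rw [hgj]
        exact ⟨fun h => absurd h hIj, fun h => absurd h0 h⟩
      · refine ⟨ki, hki, ?_⟩
        rw [hgi]
        exact ⟨fun _ => h0, fun _ => hIi⟩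
    set k := Nat.find hQ with hk
    have hQk : Q k := Nat.find_spec hQ
    have hk0 : 0 < k := by
      rcases Nat.eq_zero_or_pos k with h | h
      · exfalso
        rw [h] at hQk
        have := hQk.2
        tauto
      · exact h
    obtain ⟨m, hmk, hadj, hne⟩ := hord3 k hQk.1 hk0
    have hQm : ¬ Q m := Nat.find_min hQ hmk
    have hmlen : m < ord.length := lt_trans hmk hQk.1
    have hIm : I (ord.getD m 0) ↔ I (ord.getD 0 0) := by
      by_contra h
      apply hQm
      refine ⟨hmlen, ?_⟩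
      tauto
    have hIk : I (ord.getD k 0) ↔ ¬ I (ord.getD m 0) := by
      rw [hIm]; exact hQk.2
    set a := ord.getD m 0 with ha
    set b := ord.getD k 0 with hb
    have ha' : a < D.rank := hord2 a (by rw [ha, List.getD_eq_getElem _ _ hmlen]; exact List.getElem_mem _)
    have hb' : b < D.rank := hord2 b (by rw [hb, List.getD_eq_getElem _ _ hQk.1]; exact List.getElem_mem _)
    obtain ⟨t1, t2⟩ := hord4 a ha' b hb' hne hadj
    have hpa := simple_pos hG1 hT ha'
    have hpb := simple_pos hG1 hT hb'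
    have hla := hG1.simple_lt ha'
    have hlb := hG1.simple_lt hb'
    by_cases hIa : I a
    · -- `n_a ∈ J`, `n_b ∉ J`
      obtain ⟨_, haJ⟩ := hIa
      have hbJ : (⟨nGL hG1 hlb, hnG b hb'⟩ : ↥(D.group F)) ∉ J := by
        intro h
        exact (hIk.mp ⟨hb', h⟩) ⟨ha', haJ⟩
      refine ⟨_, haJ, _, ⟨hnS b hb', hbJ⟩, ?_⟩
      intro hmem
      rw [hPB] at hmem
      have hmem' : nGL hG1 hla * nGL hG1 hlb * (nGL hG1 hla)⁻¹ * (nGL hG1 hlb)⁻¹ ∈
          D.borelSubgroup F := hmem
      have hpos := reflWord_pos_of_comm_mem_borel (F := F) hG hT h8 ha' hb' hmem'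
      rcases t1 with t | t
      · have := hpos _ hla hpa
        change D.nroots / 2 ≤ (tabOf D).reflWord [a, b, a, b] ((tabOf D).simple a) at this
        have t' : (tabOf D).reflWord [a, b, a, b] ((tabOf D).simple a) < D.nroots / 2 := t
        omega
      · have := hpos _ hlb hpb
        change D.nroots / 2 ≤ (tabOf D).reflWord [a, b, a, b] ((tabOf D).simple b) at this
        have t' : (tabOf D).reflWord [a, b, a, b] ((tabOf D).simple b) < D.nroots / 2 := t
        omega
    · -- `n_b ∈ J`, `n_a ∉ J`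
      have hIb : I b := hIk.mpr hIa
      obtain ⟨_, hbJ⟩ := hIb
      have haJ : (⟨nGL hG1 hla, hnG a ha'⟩ : ↥(D.group F)) ∉ J := fun h => hIa ⟨ha', h⟩
      refine ⟨_, hbJ, _, ⟨hnS a ha', haJ⟩, ?_⟩
      intro hmem
      rw [hPB] at hmem
      have hmem' : nGL hG1 hlb * nGL hG1 hla * (nGL hG1 hlb)⁻¹ * (nGL hG1 hla)⁻¹ ∈
          D.borelSubgroup F := hmem
      have hpos := reflWord_pos_of_comm_mem_borel (F := F) hG hT h8 hb' ha' hmem'
      rcases t2 with t | t
      · have := hpos _ hla hpa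
        change D.nroots / 2 ≤ (tabOf D).reflWord [b, a, b, a] ((tabOf D).simple a) at this
        have t' : (tabOf D).reflWord [b, a, b, a] ((tabOf D).simple a) < D.nroots / 2 := t
        omega
      · have := hpos _ hlb hpb
        change D.nroots / 2 ≤ (tabOf D).reflWord [b, a, b, a] ((tabOf D).simple b) at this
        have t' : (tabOf D).reflWord [b, a, b, a] ((tabOf D).simple b) < D.nroots / 2 := t
        omega
  exact ⟨P, hPB, hPN, hirr⟩

include hG hT h3 h4 h5 h6 h8 h9 in
/-- A normal subgroup of a Chevalley group is trivial or supplements `B`. -/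
theorem normal_eq_bot_or_sup_eq_top {ord : List ℕ} (h13 : (tabOf D).T13 ord) {w0 : List ℕ}
    (hw0 : (tabOf D).W0ok w0) (H : Subgroup ↥(D.group F)) [H.Normal] :
    H = ⊥ ∨ (D.borelSubgroup F).subgroupOf (D.group F) ⊔ H = ⊤ := by
  obtain ⟨P, hPB, hPN, hirr⟩ := exists_bnPair_irreducible (F := F) hG hT h3 h4 h5 h6 h8 h9 h13
  rcases BN.normal_le_core_or_sup_eq_top P hirr H with h | h
  · left
    rw [hPB, borel_normalCore_eq_bot hG hT h8 hw0] at h
    exact le_bot_iff.mp h
  · right
    rw [hPB] at h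
    exact h

end normal

end Cfsg.Agent.Helper7.Chev
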