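import Mathlib
import Cfsg.Agent.Helper7.ChevIso4
import Cfsg.Agent.Helper7.ChevNormal
import Cfsg.Agent.Helper7.ChevPerfect

set_option autoImplicit false
set_option linter.unusedSectionVars false
set_option linter.unusedVariables false

/-!
The special isogenies: the endomorphism of the Chevalley group with `x_r(t) ↦ x_{ρ r}(t ^ λ(r))`, `λ(r) = p` for
`r` short and `λ(r) = 1` for `r` long.
-/

namespace Cfsg.Agent.Helper7.Chev

open Cfsg Cfsg.Lie Matrix Cfsg.Agent.Helper7.Iso Cfsg.Agent.Helper7.Tri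
open scoped Pointwise

variable {D : ChevalleyDatum} {F : Type*} [Field F]

section diag

variable (hG : Good2 D) (hT : T0 D)

include hG hT in
/-- The diagonal entries of the elements of `B` do not vanish. -/
theorem borel_diag_ne_zero {b : GL D.Idx F} (hb : b ∈ D.borelSubgroup F) (v : D.Idx) :
    (b : Matrix D.Idx D.Idx F) v v ≠ 0 := by
  obtain ⟨u, d, hu, e⟩ := borel_shape hG hT hb
  have huv : (u : Matrix D.Idx D.Idx F) v v = 1 := by
    by_contra h
    have h1 : ((u : Matrix D.Idx D.Idx F) - 1) v v ≠ 0 := by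
      rw [Matrix.sub_apply, Matrix.one_apply_eq]
      intro h0
      exact h (sub_eq_zero.mp h0)
    have := hu v v h1
    omega
  rw [e, Matrix.mul_diagonal, huv, one_mul]
  intro hd
  -- the column `v` of `b` vanishes
  have hcol : ∀ k, (b : Matrix D.Idx D.Idx F) k v = 0 := by
    intro k
    rw [e, Matrix.mul_diagonal, hd, mul_zero]
  have h1 : ((b⁻¹ * b : GL D.Idx F) : Matrix D.Idx D.Idx F) v v = 1 := by
    rw [inv_mul_cancel, Units.val_one, Matrix.one_apply_eq]
  rw [Units.val_mul, Matrix.mul_apply] at h1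
  rw [Finset.sum_eq_zero (fun k _ => by rw [hcol k, mul_zero])] at h1
  exact zero_ne_one h1

include hG in
/-- The diagonal entry of `n_r` at the root vector `e_r` vanishes. -/
theorem nGL_diag_eq_zero {r : ℕ} (hr : r < D.nroots) :
    ((nGL hG.toGood1 hr : GL D.Idx F) : Matrix D.Idx D.Idx F) (Sum.inr ⟨r, hr⟩) (Sum.inr ⟨r, hr⟩) = 0 := by
  have hG1 := hG.toGood1
  have h := nMat_mulVec_eR (F := F) hG1 hr hr
  have e : ((nGL hG1 hr : GL D.Idx F) : Matrix D.Idx D.Idx F) (Sum.inr ⟨r, hr⟩) (Sum.inr ⟨r, hr⟩) =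
      (D.nMat F r 1 *ᵥ eR D F r) (Sum.inr ⟨r, hr⟩) := by
    rw [nGL_coe, eR_of_lt hr, Matrix.mulVec_single_one]
    rfl
  rw [e, h, Pi.smul_apply, eR_apply_inr]
  have hrefl : (tabOf D).refl r r = D.neg r := by
    unfold Tab.refl
    rw [if_pos rfl]
    rfl
  rw [hrefl, if_neg (hG1.neg_ne hr), smul_zero]

end diag

section iso

variable (hG : Good2 D) (hT : T0 D) (h3 : (tabOf D).T3) (h4 : (tabOf D).T4 60) (h5 : (tabOf D).T5)
  (h6 : (tabOf D).T6) (h8 : (tabOf D).T8) (h9 : (tabOf D).T9)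
  {ord : List ℕ} (h13 : (tabOf D).T13 ord) {w0 : List ℕ} (hw0 : (tabOf D).W0ok w0)
  {p N : ℕ} [Fact p.Prime] [CharP F p] {sS sR : ℕ → Bool} {pi rho : ℕ → ℕ}
  (h22 : (tabOf D).T22 sS sR pi rho) (h23 : (tabOf D).T23 p sS sR)
  (h24 : (tabOf D).T24 p N sS sR pi rho)

include hG h23 in
/-- The elements of the group leave the ideal invariant. -/
theorem group_blockTri {g : GL D.Idx F} (hg : g ∈ D.group F) :
    BlockTri (isoJ D sS sR) (g : Matrix D.Idx D.Idx F) ∧
      BlockTri (isoJ D sS sR) ((g⁻¹ : GL D.Idx F) : Matrix D.Idx D.Idx F) := by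
  have hG1 := hG.toGood1
  unfold ChevalleyDatum.group at hg
  induction hg using Subgroup.closure_induction with
  | mem x hx =>
    obtain ⟨r, t, hx⟩ := hx
    have hx' : (x : Matrix D.Idx D.Idx F) = D.x F r.val t := by rw [hx, x_of_lt D F r.2]
    have e := eq_xGL hG1 r.2 hx'
    constructor
    · rw [hx']
      exact x_blockTri hG1 h23 r.2 t
    · rw [e, xGL_inv, xGL_coe]
      exact x_blockTri hG1 h23 r.2 (-t)
  | one =>
    rw [inv_one, Units.val_one]
    exact ⟨BlockTri.one, BlockTri.one⟩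
  | mul x y _ _ hx hy =>
    rw [_root_.mul_inv_rev, Units.val_mul, Units.val_mul]
    exact ⟨hx.1.mul hy.1, hy.2.mul hx.2⟩
  | inv x _ hx =>
    rw [inv_inv]
    exact ⟨hx.2, hx.1⟩

/-- The relation between an element and its image under the isogeny. -/
def IsoRel (D : ChevalleyDatum) (F : Type*) [Field F] (sS sR : ℕ → Bool) (pi rho : ℕ → ℕ)
    (g g' : GL D.Idx F) : Prop :=
  pull (isoJ D sS sR) (isoGam D pi rho) (g : Matrix D.Idx D.Idx F) =
      corner (isoJ D sS sR) (g' : Matrix D.Idx D.Idx F) ∧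
    pull (isoJ D sS sR) (isoGam D pi rho) ((g⁻¹ : GL D.Idx F) : Matrix D.Idx D.Idx F) =
      corner (isoJ D sS sR) ((g'⁻¹ : GL D.Idx F) : Matrix D.Idx D.Idx F)

theorem neg_pow_lam (t : F) (b : Bool) : (-t) ^ (if b then p else 1) = -(t ^ (if b then p else 1)) := by
  cases b
  · simp
  · simp only [if_true]
    rw [neg_pow, neg_one_pow_char F p, neg_one_mul]

include hG h22 h24 in
theorem isoRel_xGL {r : ℕ} (hr : r < D.nroots) (hρ : rho r < D.nroots) (t : F) :
    IsoRel D F sS sR pi rho (xGL hG.toGood1 hr t)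
      (xGL hG.toGood1 hρ (t ^ (if sR r then p else 1))) := by
  have hG1 := hG.toGood1
  constructor
  · rw [xGL_coe, xGL_coe]
    exact x_pull hG1 h22 h24 hr t
  · rw [xGL_inv, xGL_inv, xGL_coe, xGL_coe, ← neg_pow_lam]
    exact x_pull hG1 h22 h24 hr (-t)

include hG h22 h23 h24 in
/-- Every element of the group has an image under the isogeny. -/
theorem exists_isoRel {g : GL D.Idx F} (hg : g ∈ D.group F) :
    ∃ g' ∈ D.group F, IsoRel D F sS sR pi rho g g' := by
  have hG1 := hG.toGood1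
  have hsw := isoSwap (D := D) h22
  have hg0 := hg
  unfold ChevalleyDatum.group at hg
  induction hg using Subgroup.closure_induction with
  | mem x hx =>
    obtain ⟨r, t, hx⟩ := hx
    have hx' : (x : Matrix D.Idx D.Idx F) = D.x F r.val t := by rw [hx, x_of_lt D F r.2]
    rw [eq_xGL hG1 r.2 hx']
    exact ⟨_, xGL_mem_group hG _ _, isoRel_xGL hG h22 h24 r.2 (h22.2 r.val r.2).1 t⟩
  | one =>
    refine ⟨1, one_mem _, ?_, ?_⟩
    · rw [Units.val_one]
      exact pull_one hsw
    · rw [inv_one, Units.val_one]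
      exact pull_one hsw
  | mul x y hx hy ihx ihy =>
    have hxG : x ∈ D.group F := hx
    have hyG : y ∈ D.group F := hy
    obtain ⟨x', hx'G, hx1, hx2⟩ := ihx hxG
    obtain ⟨y', hy'G, hy1, hy2⟩ := ihy hyG
    refine ⟨x' * y', mul_mem hx'G hy'G, ?_, ?_⟩
    · rw [Units.val_mul, Units.val_mul, pull_mul hsw (group_blockTri hG h23 hxG).1,
        corner_mul (group_blockTri hG h23 hy'G).1, hx1, hy1]
    · rw [_root_.mul_inv_rev, _root_.mul_inv_rev, Units.val_mul, Units.val_mul,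
        pull_mul hsw (group_blockTri hG h23 hyG).2, corner_mul (group_blockTri hG h23 hx'G).2,
        hx2, hy2]
  | inv x hx ihx =>
    have hxG : x ∈ D.group F := hx
    obtain ⟨x', hx'G, hx1, hx2⟩ := ihx hxG
    refine ⟨x'⁻¹, inv_mem hx'G, hx2, ?_⟩
    rw [inv_inv, inv_inv]
    exact hx1

/-- The elements acting trivially on the ideal. -/
def isoKer (hG : Good2 D) (h23 : (tabOf D).T23 p sS sR) (F : Type*) [Field F] [CharP F p] :
    Subgroup ↥(D.group F) where
  carrier := {h | corner (isoJ D sS sR) ((h : GL D.Idx F) : Matrix D.Idx D.Idx F) =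
    corner (isoJ D sS sR) 1}
  one_mem' := by
    change corner (isoJ D sS sR) (((1 : ↥(D.group F)) : GL D.Idx F) : Matrix D.Idx D.Idx F) = _
    rw [Subgroup.coe_one, Units.val_one]
  mul_mem' := by
    intro a b ha hb
    change corner (isoJ D sS sR) (((a * b : ↥(D.group F)) : GL D.Idx F) : Matrix D.Idx D.Idx F) = _
    rw [Subgroup.coe_mul, Units.val_mul, corner_mul (group_blockTri hG h23 b.2).1]
    change corner (isoJ D sS sR) ((a : GL D.Idx F) : Matrix D.Idx D.Idx F) = _ at ha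
    change corner (isoJ D sS sR) ((b : GL D.Idx F) : Matrix D.Idx D.Idx F) = _ at hb
    rw [ha, hb, corner_one_mul_corner]
  inv_mem' := by
    intro a ha
    change corner (isoJ D sS sR) ((a : GL D.Idx F) : Matrix D.Idx D.Idx F) = _ at ha
    change corner (isoJ D sS sR) (((a⁻¹ : ↥(D.group F)) : GL D.Idx F) : Matrix D.Idx D.Idx F) = _
    rw [Subgroup.coe_inv]
    calc corner (isoJ D sS sR) (((a : GL D.Idx F)⁻¹ : GL D.Idx F) : Matrix D.Idx D.Idx F)
        = corner (isoJ D sS sR) (((a : GL D.Idx F)⁻¹ : GL D.Idx F) : Matrix D.Idx D.Idx F) *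
            corner (isoJ D sS sR) 1 := (corner_mul_corner_one _).symm
      _ = corner (isoJ D sS sR) (((a : GL D.Idx F)⁻¹ : GL D.Idx F) : Matrix D.Idx D.Idx F) *
            corner (isoJ D sS sR) ((a : GL D.Idx F) : Matrix D.Idx D.Idx F) := by rw [ha]
      _ = corner (isoJ D sS sR) ((((a : GL D.Idx F)⁻¹ * (a : GL D.Idx F) : GL D.Idx F)) :
            Matrix D.Idx D.Idx F) := by
          rw [Units.val_mul, corner_mul (group_blockTri hG h23 a.2).1]
      _ = corner (isoJ D sS sR) 1 := by rw [inv_mul_cancel, Units.val_one]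

theorem mem_isoKer {h : ↥(D.group F)} : h ∈ isoKer hG h23 F ↔
    corner (isoJ D sS sR) ((h : GL D.Idx F) : Matrix D.Idx D.Idx F) = corner (isoJ D sS sR) 1 :=
  Iff.rfl

instance isoKer_normal : (isoKer hG h23 F).Normal := by
  constructor
  intro n hn g
  rw [mem_isoKer] at hn ⊢
  rw [Subgroup.coe_mul, Subgroup.coe_mul, Subgroup.coe_inv, Units.val_mul, Units.val_mul,
    corner_mul (group_blockTri hG h23 g.2).2, corner_mul (group_blockTri hG h23 n.2).1, hn,
    corner_mul_corner_one, ← corner_mul (group_blockTri hG h23 g.2).2, ← Units.val_mul,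
    mul_inv_cancel, Units.val_one]

include hG hT h3 h4 h5 h6 h8 h9 h13 hw0 h23 in
/-- The group acts faithfully on the ideal. -/
theorem isoKer_eq_bot {r₀ : ℕ} (hr₀ : r₀ < D.nroots) (hs₀ : sR r₀ = true) :
    isoKer hG h23 F = ⊥ := by
  have hG1 := hG.toGood1
  rcases normal_eq_bot_or_sup_eq_top (F := F) hG hT h3 h4 h5 h6 h8 h9 h13 hw0 (isoKer hG h23 F)
    with h | h
  · exact h
  · exfalso
    have hnG : (nGL hG1 hr₀ : GL D.Idx F) ∈ D.group F :=
      monomialSubgroup_le_group hG1 (nGL_mem_monomial hG hr₀)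
    have hmem : (⟨nGL hG1 hr₀, hnG⟩ : ↥(D.group F)) ∈
        (D.borelSubgroup F).subgroupOf (D.group F) ⊔ isoKer hG h23 F := by
      rw [h]; exact Subgroup.mem_top _
    rw [← SetLike.mem_coe, Subgroup.mul_normal] at hmem
    obtain ⟨b, hb, m, hm, e⟩ := hmem
    rw [SetLike.mem_coe, Subgroup.mem_subgroupOf] at hb
    rw [SetLike.mem_coe, mem_isoKer] at hm
    have e' : (nGL hG1 hr₀ : GL D.Idx F) = (b : GL D.Idx F) * (m : GL D.Idx F) := by
      have := congrArg (fun z : ↥(D.group F) => (z : GL D.Idx F)) e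
      simpa only [Subgroup.coe_mul] using this.symm
    have hc : corner (isoJ D sS sR) ((nGL hG1 hr₀ : GL D.Idx F) : Matrix D.Idx D.Idx F) =
        corner (isoJ D sS sR) ((b : GL D.Idx F) : Matrix D.Idx D.Idx F) := by
      rw [e', Units.val_mul, corner_mul (group_blockTri hG h23 m.2).1, hm, corner_mul_corner_one]
    have hJ : isoJ D sS sR (Sum.inr ⟨r₀, hr₀⟩) := by
      unfold isoJ raw
      simpa [inJ] using hs₀
    have := congrFun (congrFun hc (Sum.inr ⟨r₀, hr₀⟩)) (Sum.inr ⟨r₀, hr₀⟩)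
    rw [corner_apply, corner_apply, if_pos ⟨hJ, hJ⟩, if_pos ⟨hJ, hJ⟩, nGL_diag_eq_zero hG hr₀] at this
    exact borel_diag_ne_zero hG hT hb _ this.symm

include hG hT h3 h4 h5 h6 h8 h9 h13 hw0 h22 h23 in
/-- The image under the isogeny is unique. -/
theorem isoRel_unique {r₀ : ℕ} (hr₀ : r₀ < D.nroots) (hs₀ : sR r₀ = true)
    {g g' g'' : GL D.Idx F} (hg : g ∈ D.group F) (hg' : g' ∈ D.group F) (hg'' : g'' ∈ D.group F)
    (h1 : IsoRel D F sS sR pi rho g g') (h2 : IsoRel D F sS sR pi rho g g'') : g' = g'' := by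
  have hsw := isoSwap (D := D) h22
  have hmem : (⟨g'⁻¹ * g'', mul_mem (inv_mem hg') hg''⟩ : ↥(D.group F)) ∈ isoKer hG h23 F := by
    rw [mem_isoKer]
    change corner (isoJ D sS sR) ((g'⁻¹ * g'' : GL D.Idx F) : Matrix D.Idx D.Idx F) = _
    rw [Units.val_mul, corner_mul (group_blockTri hG h23 hg'').1, ← h1.2, ← h2.1,
      ← pull_mul hsw (group_blockTri hG h23 hg).2, ← Units.val_mul, inv_mul_cancel, Units.val_one,
      pull_one hsw]
  rw [isoKer_eq_bot hG hT h3 h4 h5 h6 h8 h9 h13 hw0 h23 hr₀ hs₀, Subgroup.mem_bot] at hmem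
  have := congrArg (fun z : ↥(D.group F) => (z : GL D.Idx F)) hmem
  simp only [Subgroup.coe_one] at this
  exact (inv_mul_eq_one.mp this)

end iso

end Cfsg.Agent.Helper7.Chev
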