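import Mathlib
import Cfsg.Agent.Helper7.ChevIso5

set_option autoImplicit false
set_option linter.unusedSectionVars false
set_option linter.unusedVariables false

/-!
The special isogenies as endomorphisms of the Chevalley group, injective, and bijective over a perfect field.
-/

namespace Cfsg.Agent.Helper7.Chev

open Cfsg Cfsg.Lie Matrix Cfsg.Agent.Helper7.Iso Cfsg.Agent.Helper7.Tri
open scoped Pointwise

variable {D : ChevalleyDatum} {F : Type*} [Field F]

section iso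

variable (hG : Good2 D) (hT : T0 D) (h3 : (tabOf D).T3) (h4 : (tabOf D).T4 60) (h5 : (tabOf D).T5)
  (h6 : (tabOf D).T6) (h8 : (tabOf D).T8) (h9 : (tabOf D).T9)
  {ord : List ℕ} (h13 : (tabOf D).T13 ord) {w0 : List ℕ} (hw0 : (tabOf D).W0ok w0)
  {p N : ℕ} [Fact p.Prime] [CharP F p] {sS sR : ℕ → Bool} {pi rho : ℕ → ℕ}
  (h22 : (tabOf D).T22 sS sR pi rho) (h23 : (tabOf D).T23 p sS sR)
  (h24 : (tabOf D).T24 p N sS sR pi rho)

include hG h22 h23 in
theorem IsoRel.mul {x y x' y' : GL D.Idx F} (hx : x ∈ D.group F) (hy : y ∈ D.group F)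
    (hx' : x' ∈ D.group F) (hy' : y' ∈ D.group F) (h1 : IsoRel D F sS sR pi rho x x')
    (h2 : IsoRel D F sS sR pi rho y y') : IsoRel D F sS sR pi rho (x * y) (x' * y') := by
  have hsw := isoSwap (D := D) h22
  constructor
  · rw [Units.val_mul, Units.val_mul, pull_mul hsw (group_blockTri hG h23 hx).1,
      corner_mul (group_blockTri hG h23 hy').1, h1.1, h2.1]
  · rw [_root_.mul_inv_rev, _root_.mul_inv_rev, Units.val_mul, Units.val_mul,
      pull_mul hsw (group_blockTri hG h23 hy).2, corner_mul (group_blockTri hG h23 hx').2,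
      h1.2, h2.2]

/-- The image of an element under the isogeny. -/
noncomputable def isoFun (g : ↥(D.group F)) : ↥(D.group F) :=
  ⟨Classical.choose (exists_isoRel hG h22 h23 h24 g.2),
    (Classical.choose_spec (exists_isoRel hG h22 h23 h24 g.2)).1⟩

theorem isoFun_rel (g : ↥(D.group F)) :
    IsoRel D F sS sR pi rho (g : GL D.Idx F) (isoFun hG h22 h23 h24 g : ↥(D.group F)) :=
  (Classical.choose_spec (exists_isoRel hG h22 h23 h24 g.2)).2

variable {r₀ : ℕ} (hr₀ : r₀ < D.nroots) (hs₀ : sR r₀ = true)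

include hT h3 h4 h5 h6 h8 h9 h13 hw0 hr₀ hs₀ in
theorem isoFun_eq {g : ↥(D.group F)} {g' : GL D.Idx F} (hg' : g' ∈ D.group F)
    (h : IsoRel D F sS sR pi rho (g : GL D.Idx F) g') :
    ((isoFun hG h22 h23 h24 g : ↥(D.group F)) : GL D.Idx F) = g' :=
  isoRel_unique hG hT h3 h4 h5 h6 h8 h9 h13 hw0 h22 h23 hr₀ hs₀ g.2
    (isoFun hG h22 h23 h24 g).2 hg' (isoFun_rel hG h22 h23 h24 g) h

include hT h3 h4 h5 h6 h8 h9 h13 hw0 hr₀ hs₀ in
theorem isoFun_mul (a b : ↥(D.group F)) :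
    isoFun hG h22 h23 h24 (a * b) = isoFun hG h22 h23 h24 a * isoFun hG h22 h23 h24 b := by
  apply Subtype.ext
  rw [Subgroup.coe_mul]
  apply isoFun_eq hG hT h3 h4 h5 h6 h8 h9 h13 hw0 h22 h23 h24 hr₀ hs₀
    (mul_mem (isoFun hG h22 h23 h24 a).2 (isoFun hG h22 h23 h24 b).2)
  rw [Subgroup.coe_mul]
  exact IsoRel.mul hG h22 h23 a.2 b.2 (isoFun hG h22 h23 h24 a).2 (isoFun hG h22 h23 h24 b).2
    (isoFun_rel hG h22 h23 h24 a) (isoFun_rel hG h22 h23 h24 b)

/-- The isogeny as an endomorphism of the group. -/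
noncomputable def isoHom : ↥(D.group F) →* ↥(D.group F) :=
  MonoidHom.mk' (isoFun hG h22 h23 h24)
    (isoFun_mul hG hT h3 h4 h5 h6 h8 h9 h13 hw0 h22 h23 h24 hr₀ hs₀)

theorem isoHom_apply (g : ↥(D.group F)) :
    isoHom hG hT h3 h4 h5 h6 h8 h9 h13 hw0 h22 h23 h24 hr₀ hs₀ g = isoFun hG h22 h23 h24 g := rfl

/-- The isogeny maps `x_r(t)` to `x_{ρ r}(t ^ λ(r))`. -/
theorem isoHom_apply_x {g : ↥(D.group F)} {r : ℕ} (hr : r < D.nroots) {t : F}
    (hg : ((g : GL D.Idx F) : Matrix D.Idx D.Idx F) = D.x F r t) :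
    ((isoHom hG hT h3 h4 h5 h6 h8 h9 h13 hw0 h22 h23 h24 hr₀ hs₀ g : GL D.Idx F) :
      Matrix D.Idx D.Idx F) = D.x F (rho r) (t ^ (if sR r then p else 1)) := by
  have hG1 := hG.toGood1
  have hρ : rho r < D.nroots := (h22.2 r hr).1
  have e := eq_xGL hG1 hr hg
  rw [isoHom_apply, isoFun_eq hG hT h3 h4 h5 h6 h8 h9 h13 hw0 h22 h23 h24 hr₀ hs₀
    (xGL_mem_group hG hρ (t ^ (if sR r then p else 1))) (by rw [e]; exact isoRel_xGL hG h22 h24 hr hρ t),
    xGL_coe]

/-- The isogeny is injective. -/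
theorem isoHom_injective {r₁ : ℕ} (hr₁ : r₁ < D.nroots) (hs₁ : sR r₁ = false) :
    Function.Injective (isoHom hG hT h3 h4 h5 h6 h8 h9 h13 hw0 h22 h23 h24 hr₀ hs₀ (F := F)) := by
  have hG1 := hG.toGood1
  have hsw := isoSwap (D := D) h22
  set φ := isoHom hG hT h3 h4 h5 h6 h8 h9 h13 hw0 h22 h23 h24 hr₀ hs₀ (F := F) with hφ
  rw [← MonoidHom.ker_eq_bot_iff]
  rcases normal_eq_bot_or_sup_eq_top (F := F) hG hT h3 h4 h5 h6 h8 h9 h13 hw0 φ.ker with h | h
  · exact h
  · exfalso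
    have hnG : (nGL hG1 hr₁ : GL D.Idx F) ∈ D.group F :=
      monomialSubgroup_le_group hG1 (nGL_mem_monomial hG hr₁)
    have hmem : (⟨nGL hG1 hr₁, hnG⟩ : ↥(D.group F)) ∈
        (D.borelSubgroup F).subgroupOf (D.group F) ⊔ φ.ker := by
      rw [h]; exact Subgroup.mem_top _
    rw [← SetLike.mem_coe, Subgroup.mul_normal] at hmem
    obtain ⟨b, hb, m, hm, e⟩ := hmem
    rw [SetLike.mem_coe, Subgroup.mem_subgroupOf] at hb
    rw [SetLike.mem_coe, MonoidHom.mem_ker] at hm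
    have e2 : φ ⟨nGL hG1 hr₁, hnG⟩ = φ b := by
      change b * m = _ at e
      rw [← e, map_mul, hm, mul_one]
    have r1 := (isoFun_rel hG h22 h23 h24 (⟨nGL hG1 hr₁, hnG⟩ : ↥(D.group F))).1
    have r2 := (isoFun_rel hG h22 h23 h24 b).1
    have e3 : isoFun hG h22 h23 h24 (⟨nGL hG1 hr₁, hnG⟩ : ↥(D.group F)) = isoFun hG h22 h23 h24 b := e2
    rw [e3, ← r2] at r1
    set w : D.Idx := Sum.inr ⟨r₁, hr₁⟩ with hw
    set v : D.Idx := isoGam D pi rho w with hv
    have hJw : ¬ isoJ D sS sR w := by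
      unfold isoJ raw
      simp [hw, inJ, hs₁]
    have hJv : isoJ D sS sR v := (hsw.swap w).mpr hJw
    have hvw : isoGam D pi rho v = w := hsw.invol w
    have := congrFun (congrFun r1 v) v
    rw [pull_apply, pull_apply, if_pos ⟨hJv, hJv⟩, if_pos ⟨hJv, hJv⟩, hvw] at this
    change ((nGL hG1 hr₁ : GL D.Idx F) : Matrix D.Idx D.Idx F) w w = _ at this
    rw [nGL_diag_eq_zero hG hr₁] at this
    exact borel_diag_ne_zero hG hT hb _ this.symm

/-- Over a perfect field the isogeny is surjective. -/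
theorem isoHom_surjective (hperf : ∀ x : F, ∃ y : F, y ^ p = x) :
    Function.Surjective (isoHom hG hT h3 h4 h5 h6 h8 h9 h13 hw0 h22 h23 h24 hr₀ hs₀ (F := F)) := by
  have hG1 := hG.toGood1
  set φ := isoHom hG hT h3 h4 h5 h6 h8 h9 h13 hw0 h22 h23 h24 hr₀ hs₀ (F := F) with hφ
  rw [← MonoidHom.range_eq_top, eq_top_iff]
  intro g _
  obtain ⟨g, hg⟩ := g
  have key : ∀ x ∈ D.group F, ∀ hx : x ∈ D.group F, (⟨x, hx⟩ : ↥(D.group F)) ∈ φ.range := by
    intro x hx
    unfold ChevalleyDatum.group at hx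
    induction hx using Subgroup.closure_induction with
    | mem x hx =>
      intro hxG
      obtain ⟨s, u, hx⟩ := hx
      have hρs : rho s.val < D.nroots := (h22.2 s.val s.2).1
      have hρρ : rho (rho s.val) = s.val := (h22.2 s.val s.2).2.1
      obtain ⟨t, ht⟩ : ∃ t : F, t ^ (if sR (rho s.val) then p else 1) = u := by
        by_cases hb : sR (rho s.val) = true
        · rw [if_pos hb]; exact hperf u
        · rw [if_neg hb]; exact ⟨u, pow_one u⟩
      refine ⟨⟨xGL hG1 hρs t, xGL_mem_group hG hρs t⟩, ?_⟩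
      apply Subtype.ext
      apply Units.ext
      rw [isoHom_apply_x hG hT h3 h4 h5 h6 h8 h9 h13 hw0 h22 h23 h24 hr₀ hs₀ hρs (xGL_coe hG1 hρs t),
        hρρ, ht, hx, x_of_lt D F s.2]
    | one =>
      intro _
      exact one_mem _
    | mul x y hx hy ihx ihy =>
      intro _
      have hxG : x ∈ D.group F := hx
      have hyG : y ∈ D.group F := hy
      have := mul_mem (ihx hxG) (ihy hyG)
      exact this
    | inv x hx ihx =>
      intro _
      have hxG : x ∈ D.group F := hx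
      have := inv_mem (ihx hxG)
      exact this
  exact key g hg hg

end iso

end Cfsg.Agent.Helper7.Chev
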