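import Mathlib
import Cfsg.Agent.Helper7.ChevCodes
import Cfsg.Agent.Helper7.ChevSimple
import Cfsg.Agent.Helper7.ChevTabG2
import Cfsg.Agent.Helper7.ChevTabB2
import Cfsg.Agent.Helper7.ChevTabD4
import Cfsg.Agent.Helper7.ChevTabF4
import Cfsg.Agent.Helper7.ChevTabE6
import Cfsg.Agent.Helper7.ChevTabE7
import Cfsg.Agent.Helper7.ChevTabE8

set_option autoImplicit false

/-!
Table facts for simplicity: the Dynkin diagrams are connected, and adjacent fundamental reflections do
not commute modulo `H`.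
-/

namespace Cfsg.Agent.Helper7.Chev

open Cfsg Cfsg.Lie

set_option maxRecDepth 1000000 in
set_option maxHeartbeats 0 in
theorem T13fast_G2 : fastG2.T13 [0, 1] := by decide +kernel

theorem T13_G2 : (tabOf chevG2).T13 [0, 1] := tab_G2 ▸ T13fast_G2

set_option maxRecDepth 1000000 in
set_option maxHeartbeats 0 in
theorem T13fast_B2 : fastB2.T13 [0, 1] := by decide +kernel

theorem T13_B2 : (tabOf chevB2).T13 [0, 1] := tab_B2 ▸ T13fast_B2

set_option maxRecDepth 1000000 in
set_option maxHeartbeats 0 in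
theorem T13fast_D4 : fastD4.T13 [0, 1, 2, 3] := by decide +kernel

theorem T13_D4 : (tabOf chevD4).T13 [0, 1, 2, 3] := tab_D4 ▸ T13fast_D4

set_option maxRecDepth 1000000 in
set_option maxHeartbeats 0 in
theorem T13fast_F4 : fastF4.T13 [0, 1, 2, 3] := by decide +kernel

theorem T13_F4 : (tabOf chevF4).T13 [0, 1, 2, 3] := tab_F4 ▸ T13fast_F4

set_option maxRecDepth 1000000 in
set_option maxHeartbeats 0 in
theorem T13fast_E6 : fastE6.T13 [0, 2, 3, 1, 4, 5] := by decide +kernel

theorem T13_E6 : (tabOf chevE6).T13 [0, 2, 3, 1, 4, 5] := tab_E6 ▸ T13fast_E6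

set_option maxRecDepth 1000000 in
set_option maxHeartbeats 0 in
theorem T13fast_E7 : fastE7.T13 [0, 2, 3, 1, 4, 5, 6] := by decide +kernel

theorem T13_E7 : (tabOf chevE7).T13 [0, 2, 3, 1, 4, 5, 6] := tab_E7 ▸ T13fast_E7

set_option maxRecDepth 1000000 in
set_option maxHeartbeats 0 in
theorem T13fast_E8 : fastE8.T13 [0, 2, 3, 1, 4, 5, 6, 7] := by decide +kernel

theorem T13_E8 : (tabOf chevE8).T13 [0, 2, 3, 1, 4, 5, 6, 7] := tab_E8 ▸ T13fast_E8

end Cfsg.Agent.Helper7.Chev
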