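import Mathlib
import Cfsg.Agent.Helper7.ChevCodes
import Cfsg.Agent.Helper7.ChevUp
import Cfsg.Agent.Helper7.ChevTabG2
import Cfsg.Agent.Helper7.ChevTabB2
import Cfsg.Agent.Helper7.ChevTabD4
import Cfsg.Agent.Helper7.ChevTabF4
import Cfsg.Agent.Helper7.ChevTabE6
import Cfsg.Agent.Helper7.ChevTabE7
import Cfsg.Agent.Helper7.ChevTabE8

set_option autoImplicit false

/-!
Level-5 table facts: for a fundamental root `p` and a positive root `s ≠ p`, the roots of the commutator
terms of `(±p, s)` are positive and different from `p`.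
-/

namespace Cfsg.Agent.Helper7.Chev

open Cfsg Cfsg.Lie

set_option maxRecDepth 1000000 in
set_option maxHeartbeats 0 in
theorem T5fast_G2 : fastG2.T5 := by decide +kernel

theorem T5_G2 : (tabOf chevG2).T5 := tab_G2 ▸ T5fast_G2

set_option maxRecDepth 1000000 in
set_option maxHeartbeats 0 in
theorem T5fast_B2 : fastB2.T5 := by decide +kernel

theorem T5_B2 : (tabOf chevB2).T5 := tab_B2 ▸ T5fast_B2

set_option maxRecDepth 1000000 in
set_option maxHeartbeats 0 in
theorem T5fast_D4 : fastD4.T5 := by decide +kernel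

theorem T5_D4 : (tabOf chevD4).T5 := tab_D4 ▸ T5fast_D4

set_option maxRecDepth 1000000 in
set_option maxHeartbeats 0 in
theorem T5fast_F4 : fastF4.T5 := by decide +kernel

theorem T5_F4 : (tabOf chevF4).T5 := tab_F4 ▸ T5fast_F4

set_option maxRecDepth 1000000 in
set_option maxHeartbeats 0 in
theorem T5fast_E6 : fastE6.T5 := by decide +kernel

theorem T5_E6 : (tabOf chevE6).T5 := tab_E6 ▸ T5fast_E6

set_option maxRecDepth 1000000 in
set_option maxHeartbeats 0 in
theorem T5fast_E7 : fastE7.T5 := by decide +kernel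

theorem T5_E7 : (tabOf chevE7).T5 := tab_E7 ▸ T5fast_E7

set_option maxRecDepth 1000000 in
set_option maxHeartbeats 0 in
theorem T5fast_E8 : fastE8.T5 := by decide +kernel

theorem T5_E8 : (tabOf chevE8).T5 := tab_E8 ▸ T5fast_E8

/-- The level-5 table facts hold for each of the seven tabulated data. -/
theorem T5_of_mem (D : ChevalleyDatum)
    (hD : D ∈ [chevG2, chevB2, chevD4, chevF4, chevE6, chevE7, chevE8]) : (tabOf D).T5 :=
  chev_cases (p := fun D => (tabOf D).T5) D hD T5_G2 T5_B2 T5_D4 T5_F4 T5_E6 T5_E7 T5_E8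

end Cfsg.Agent.Helper7.Chev
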