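import Mathlib
import Cfsg.Agent.Helper7.ChevCodes
import Cfsg.Agent.Helper7.ChevPara
import Cfsg.Agent.Helper7.ChevTabG2
import Cfsg.Agent.Helper7.ChevTabB2
import Cfsg.Agent.Helper7.ChevTabD4
import Cfsg.Agent.Helper7.ChevTabF4
import Cfsg.Agent.Helper7.ChevTabE6
import Cfsg.Agent.Helper7.ChevTabE7
import Cfsg.Agent.Helper7.ChevTabE8

set_option autoImplicit false

/-!
Level-6 table facts: a fundamental reflection permutes the positive roots other than its root.
-/

namespace Cfsg.Agent.Helper7.Chev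

open Cfsg Cfsg.Lie

set_option maxRecDepth 1000000 in
set_option maxHeartbeats 0 in
theorem T6fast_G2 : fastG2.T6 := by decide +kernel

theorem T6_G2 : (tabOf chevG2).T6 := tab_G2 ▸ T6fast_G2

set_option maxRecDepth 1000000 in
set_option maxHeartbeats 0 in
theorem T6fast_B2 : fastB2.T6 := by decide +kernel

theorem T6_B2 : (tabOf chevB2).T6 := tab_B2 ▸ T6fast_B2

set_option maxRecDepth 1000000 in
set_option maxHeartbeats 0 in
theorem T6fast_D4 : fastD4.T6 := by decide +kernel

theorem T6_D4 : (tabOf chevD4).T6 := tab_D4 ▸ T6fast_D4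

set_option maxRecDepth 1000000 in
set_option maxHeartbeats 0 in
theorem T6fast_F4 : fastF4.T6 := by decide +kernel

theorem T6_F4 : (tabOf chevF4).T6 := tab_F4 ▸ T6fast_F4

set_option maxRecDepth 1000000 in
set_option maxHeartbeats 0 in
theorem T6fast_E6 : fastE6.T6 := by decide +kernel

theorem T6_E6 : (tabOf chevE6).T6 := tab_E6 ▸ T6fast_E6

set_option maxRecDepth 1000000 in
set_option maxHeartbeats 0 in
theorem T6fast_E7 : fastE7.T6 := by decide +kernel

theorem T6_E7 : (tabOf chevE7).T6 := tab_E7 ▸ T6fast_E7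

set_option maxRecDepth 1000000 in
set_option maxHeartbeats 0 in
theorem T6fast_E8 : fastE8.T6 := by decide +kernel

theorem T6_E8 : (tabOf chevE8).T6 := tab_E8 ▸ T6fast_E8

/-- The level-6 table facts hold for each of the seven tabulated data. -/
theorem T6_of_mem (D : ChevalleyDatum)
    (hD : D ∈ [chevG2, chevB2, chevD4, chevF4, chevE6, chevE7, chevE8]) : (tabOf D).T6 :=
  chev_cases (p := fun D => (tabOf D).T6) D hD T6_G2 T6_B2 T6_D4 T6_F4 T6_E6 T6_E7 T6_E8

end Cfsg.Agent.Helper7.Chev
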