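import Mathlib
import Cfsg.Agent.Helper7.ChevCodes
import Cfsg.Agent.Helper7.ChevW0
import Cfsg.Agent.Helper7.ChevTabD4

set_option autoImplicit false

/-!
A reduced word for the longest element of the Weyl group of type D4.
-/

namespace Cfsg.Agent.Helper7.Chev

open Cfsg Cfsg.Lie

/-- A reduced word for the longest element, type D4. -/
def w0D4 : List ℕ := [0, 1, 0, 2, 1, 0, 3, 1, 0, 2, 1, 3]

set_option maxRecDepth 1000000 in
set_option maxHeartbeats 0 in
theorem W0fast_D4 : fastD4.W0ok w0D4 := by decide +kernel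

theorem W0_D4 : (tabOf chevD4).W0ok w0D4 := tab_D4 ▸ W0fast_D4

end Cfsg.Agent.Helper7.Chev
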