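import Mathlib
import Cfsg.Agent.Helper7.ChevCodes
import Cfsg.Agent.Helper7.ChevW0
import Cfsg.Agent.Helper7.ChevTabE6

set_option autoImplicit false

/-!
A reduced word for the longest element of the Weyl group of type E6.
-/

namespace Cfsg.Agent.Helper7.Chev

open Cfsg Cfsg.Lie

/-- A reduced word for the longest element, type E6. -/
def w0E6 : List ℕ := [0, 1, 2, 0, 3, 1, 2, 0, 3, 2, 4, 3, 1, 2, 0, 3, 2, 4, 3, 1, 5, 4, 3, 1, 2, 0, 3, 2, 4, 3, 1, 5, 4, 3, 2, 0]

set_option maxRecDepth 1000000 in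
set_option maxHeartbeats 0 in
theorem W0fast_E6 : fastE6.W0ok w0E6 := by decide +kernel

theorem W0_E6 : (tabOf chevE6).W0ok w0E6 := tab_E6 ▸ W0fast_E6

end Cfsg.Agent.Helper7.Chev
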