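import Mathlib
import Cfsg.Agent.Helper7.ChevCodes
import Cfsg.Agent.Helper7.ChevW0
import Cfsg.Agent.Helper7.ChevTabE8

set_option autoImplicit false

/-!
A reduced word for the longest element of the Weyl group of type E8.
-/

namespace Cfsg.Agent.Helper7.Chev

open Cfsg Cfsg.Lie

/-- A reduced word for the longest element, type E8. -/
def w0E8 : List ℕ := [0, 1, 2, 0, 3, 1, 2, 0, 3, 2, 4, 3, 1, 2, 0, 3, 2, 4, 3, 1, 5, 4, 3, 1, 2, 0, 3, 2, 4, 3, 1, 5, 4, 3, 2, 0, 6, 5, 4, 3, 1, 2, 0, 3, 2, 4, 3, 1, 5, 4, 3, 2, 0, 6, 5, 4, 3, 1, 2, 3, 4, 5, 6, 7, 6, 5, 4, 3, 1, 2, 0, 3, 2, 4, 3, 1, 5, 4, 3, 2, 0, 6, 5, 4, 3, 1, 2, 3, 4, 5, 6, 7, 6, 5, 4, 3, 1, 2, 0, 3, 2, 4, 3, 1, 5, 4, 3, 2, 0, 6, 5, 4, 3, 1, 2, 3, 4, 5, 6, 7]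

set_option maxRecDepth 1000000 in
set_option maxHeartbeats 0 in
theorem W0fast_E8 : fastE8.W0ok w0E8 := by decide +kernel

theorem W0_E8 : (tabOf chevE8).W0ok w0E8 := tab_E8 ▸ W0fast_E8

end Cfsg.Agent.Helper7.Chev
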