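import Mathlib
import Cfsg.Agent.Helper7.ChevCodes
import Cfsg.Agent.Helper7.ChevW0
import Cfsg.Agent.Helper7.ChevTabF4

set_option autoImplicit false

/-!
A reduced word for the longest element of the Weyl group of type F4.
-/

namespace Cfsg.Agent.Helper7.Chev

open Cfsg Cfsg.Lie

/-- A reduced word for the longest element, type F4. -/
def w0F4 : List ℕ := [0, 1, 0, 2, 1, 0, 2, 1, 2, 3, 2, 1, 0, 2, 1, 2, 3, 2, 1, 0, 2, 1, 2, 3]

set_option maxRecDepth 1000000 in
set_option maxHeartbeats 0 in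
theorem W0fast_F4 : fastF4.W0ok w0F4 := by decide +kernel

theorem W0_F4 : (tabOf chevF4).W0ok w0F4 := tab_F4 ▸ W0fast_F4

end Cfsg.Agent.Helper7.Chev
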