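import Mathlib
import Cfsg.Agent.Helper7.ChevCodes
import Cfsg.Agent.Helper7.ChevW0
import Cfsg.Agent.Helper7.ChevTabG2

set_option autoImplicit false

/-!
A reduced word for the longest element of the Weyl group of type G2.
-/

namespace Cfsg.Agent.Helper7.Chev

open Cfsg Cfsg.Lie

/-- A reduced word for the longest element, type G2. -/
def w0G2 : List ℕ := [0, 1, 0, 1, 0, 1]

set_option maxRecDepth 1000000 in
set_option maxHeartbeats 0 in
theorem W0fast_G2 : fastG2.W0ok w0G2 := by decide +kernel

theorem W0_G2 : (tabOf chevG2).W0ok w0G2 := tab_G2 ▸ W0fast_G2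

end Cfsg.Agent.Helper7.Chev
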