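import Mathlib
import Cfsg.Agent.Helper7.ChevW0G2
import Cfsg.Agent.Helper7.ChevW0B2
import Cfsg.Agent.Helper7.ChevW0D4
import Cfsg.Agent.Helper7.ChevW0F4
import Cfsg.Agent.Helper7.ChevW0E6
import Cfsg.Agent.Helper7.ChevW0E7
import Cfsg.Agent.Helper7.ChevW0E8

set_option autoImplicit false

/-!
Each of the seven tabulated data has a word for the longest element of its Weyl group.
-/

namespace Cfsg.Agent.Helper7.Chev

open Cfsg Cfsg.Lie

/-- Each of the seven tabulated data has a word for the longest element of its Weyl group. -/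
theorem exists_W0ok (D : ChevalleyDatum)
    (hD : D ∈ [chevG2, chevB2, chevD4, chevF4, chevE6, chevE7, chevE8]) :
    ∃ w : List ℕ, (tabOf D).W0ok w :=
  chev_cases (p := fun D => ∃ w : List ℕ, (tabOf D).W0ok w) D hD ⟨_, W0_G2⟩ ⟨_, W0_B2⟩ ⟨_, W0_D4⟩
    ⟨_, W0_F4⟩ ⟨_, W0_E6⟩ ⟨_, W0_E7⟩ ⟨_, W0_E8⟩

end Cfsg.Agent.Helper7.Chev
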