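import Mathlib
import Cfsg.Agent.Helper7.ChevIso3
import Cfsg.Agent.Helper7.ChevIso6
import Cfsg.Agent.Helper7.ChevGood3
import Cfsg.Agent.Helper7.ChevT5
import Cfsg.Agent.Helper7.ChevT6
import Cfsg.Agent.Helper7.ChevT7
import Cfsg.Agent.Helper7.ChevT9
import Cfsg.Agent.Helper7.ChevT13
import Cfsg.Agent.Helper7.ChevW0All

set_option autoImplicit false
set_option linter.unusedSectionVars false
set_option linter.unusedVariables false

/-!
The special isogenies of `G₂` (characteristic 3), `B₂` and `F₄` (characteristic 2) as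
automorphisms of the Chevalley group over a perfect field.
-/

namespace Cfsg.Agent.Helper7.Chev

open Cfsg Cfsg.Lie Matrix Cfsg.Agent.Helper7.Iso Cfsg.Agent.Helper7.Tri
open scoped Pointwise

variable {D : ChevalleyDatum} {F : Type*} [Field F]

section iso

variable (hG : Good2 D) (hT : T0 D) (h3 : (tabOf D).T3) (h4 : (tabOf D).T4 60) (h5 : (tabOf D).T5)
  (h6 : (tabOf D).T6) (h8 : (tabOf D).T8) (h9 : (tabOf D).T9)
  {ord : List ℕ} (h13 : (tabOf D).T13 ord) {w0 : List ℕ} (hw0 : (tabOf D).W0ok w0)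
  {p N : ℕ} [Fact p.Prime] [CharP F p] {sS sR : ℕ → Bool} {pi rho : ℕ → ℕ}
  (h22 : (tabOf D).T22 sS sR pi rho) (h23 : (tabOf D).T23 p sS sR)
  (h24 : (tabOf D).T24 p N sS sR pi rho)
  {r₀ : ℕ} (hr₀ : r₀ < D.nroots) (hs₀ : sR r₀ = true)
  {r₁ : ℕ} (hr₁ : r₁ < D.nroots) (hs₁ : sR r₁ = false)
  (hperf : ∀ x : F, ∃ y : F, y ^ p = x)

/-- The isogeny as an automorphism of the group, over a perfect field. -/
noncomputable def isoEquiv : ↥(D.group F) ≃* ↥(D.group F) :=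
  MulEquiv.ofBijective (isoHom hG hT h3 h4 h5 h6 h8 h9 h13 hw0 h22 h23 h24 hr₀ hs₀ (F := F))
    ⟨isoHom_injective hG hT h3 h4 h5 h6 h8 h9 h13 hw0 h22 h23 h24 hr₀ hs₀ hr₁ hs₁,
      isoHom_surjective hG hT h3 h4 h5 h6 h8 h9 h13 hw0 h22 h23 h24 hr₀ hs₀ hperf⟩

theorem isoEquiv_apply (g : ↥(D.group F)) :
    isoEquiv hG hT h3 h4 h5 h6 h8 h9 h13 hw0 h22 h23 h24 hr₀ hs₀ hr₁ hs₁ hperf g =
      isoHom hG hT h3 h4 h5 h6 h8 h9 h13 hw0 h22 h23 h24 hr₀ hs₀ g := rfl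

theorem isoEquiv_apply_x {g : ↥(D.group F)} {r : ℕ} (hr : r < D.nroots) {t : F}
    (hg : ((g : GL D.Idx F) : Matrix D.Idx D.Idx F) = D.x F r t) :
    ((isoEquiv hG hT h3 h4 h5 h6 h8 h9 h13 hw0 h22 h23 h24 hr₀ hs₀ hr₁ hs₁ hperf g : GL D.Idx F) :
      Matrix D.Idx D.Idx F) = D.x F (rho r) (t ^ (if sR r then p else 1)) := by
  rw [isoEquiv_apply]
  exact isoHom_apply_x hG hT h3 h4 h5 h6 h8 h9 h13 hw0 h22 h23 h24 hr₀ hs₀ hr hg

end iso

section G2

variable {K : Type*} [Field K] [CharP K 3] (hperf : ∀ x : K, ∃ y : K, y ^ 3 = x)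

/-- The special isogeny of `G₂` in characteristic 3. -/
noncomputable def isoG2 : ↥(chevG2.group K) ≃* ↥(chevG2.group K) :=
  haveI : Fact (Nat.Prime 3) := Nat.fact_prime_three
  isoEquiv (p := 3) good3_G2.toGood2 T0_G2 good3_G2.t3 good3_G2.t4 T5_G2 T6_G2 T8_G2 T9_G2
    T13_G2 W0_G2 T22_G2 T23_G2 T24_G2 (r₀ := 2) (by decide) (by decide) (r₁ := 0) (by decide)
    (by decide) hperf

theorem isoG2_apply_x {g : ↥(chevG2.group K)} {r : ℕ} (hr : r < chevG2.nroots) {t : K}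
    (hg : ((g : GL chevG2.Idx K) : Matrix chevG2.Idx chevG2.Idx K) = chevG2.x K r t) :
    ((isoG2 hperf g : GL chevG2.Idx K) : Matrix chevG2.Idx chevG2.Idx K) =
      chevG2.x K (isoRho_G2 r) (t ^ (if isoSR_G2 r then 3 else 1)) := by
  have : Fact (Nat.Prime 3) := Nat.fact_prime_three
  exact isoEquiv_apply_x (p := 3) good3_G2.toGood2 T0_G2 good3_G2.t3 good3_G2.t4 T5_G2 T6_G2 T8_G2
    T9_G2 T13_G2 W0_G2 T22_G2 T23_G2 T24_G2 (r₀ := 2) (by decide) (by decide) (r₁ := 0)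
    (by decide) (by decide) hperf hr hg

end G2

section B2

variable {K : Type*} [Field K] [CharP K 2] (hperf : ∀ x : K, ∃ y : K, y ^ 2 = x)

/-- The special isogeny of `B₂` in characteristic 2. -/
noncomputable def isoB2 : ↥(chevB2.group K) ≃* ↥(chevB2.group K) :=
  haveI : Fact (Nat.Prime 2) := Nat.fact_prime_two
  isoEquiv (p := 2) good3_B2.toGood2 T0_B2 good3_B2.t3 good3_B2.t4 T5_B2 T6_B2 T8_B2 T9_B2
    T13_B2 W0_B2 T22_B2 T23_B2 T24_B2 (r₀ := 1) (by decide) (by decide) (r₁ := 0) (by decide)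
    (by decide) hperf

theorem isoB2_apply_x {g : ↥(chevB2.group K)} {r : ℕ} (hr : r < chevB2.nroots) {t : K}
    (hg : ((g : GL chevB2.Idx K) : Matrix chevB2.Idx chevB2.Idx K) = chevB2.x K r t) :
    ((isoB2 hperf g : GL chevB2.Idx K) : Matrix chevB2.Idx chevB2.Idx K) =
      chevB2.x K (isoRho_B2 r) (t ^ (if isoSR_B2 r then 2 else 1)) := by
  have : Fact (Nat.Prime 2) := Nat.fact_prime_two
  exact isoEquiv_apply_x (p := 2) good3_B2.toGood2 T0_B2 good3_B2.t3 good3_B2.t4 T5_B2 T6_B2 T8_B2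
    T9_B2 T13_B2 W0_B2 T22_B2 T23_B2 T24_B2 (r₀ := 1) (by decide) (by decide) (r₁ := 0)
    (by decide) (by decide) hperf hr hg

/-- The special isogeny of `F₄` in characteristic 2. -/
noncomputable def isoF4 : ↥(chevF4.group K) ≃* ↥(chevF4.group K) :=
  haveI : Fact (Nat.Prime 2) := Nat.fact_prime_two
  isoEquiv (p := 2) good3_F4.toGood2 T0_F4 good3_F4.t3 good3_F4.t4 T5_F4 T6_F4 T8_F4 T9_F4
    T13_F4 W0_F4 T22_F4 T23_F4 T24_F4 (r₀ := 3) (by decide) (by decide) (r₁ := 0) (by decide)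
    (by decide) hperf

theorem isoF4_apply_x {g : ↥(chevF4.group K)} {r : ℕ} (hr : r < chevF4.nroots) {t : K}
    (hg : ((g : GL chevF4.Idx K) : Matrix chevF4.Idx chevF4.Idx K) = chevF4.x K r t) :
    ((isoF4 hperf g : GL chevF4.Idx K) : Matrix chevF4.Idx chevF4.Idx K) =
      chevF4.x K (isoRho_F4 r) (t ^ (if isoSR_F4 r then 2 else 1)) := by
  have : Fact (Nat.Prime 2) := Nat.fact_prime_two
  exact isoEquiv_apply_x (p := 2) good3_F4.toGood2 T0_F4 good3_F4.t3 good3_F4.t4 T5_F4 T6_F4 T8_F4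
    T9_F4 T13_F4 W0_F4 T22_F4 T23_F4 T24_F4 (r₀ := 3) (by decide) (by decide) (r₁ := 0)
    (by decide) (by decide) hperf hr hg

end B2

end Cfsg.Agent.Helper7.Chev
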