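import Mathlib
import Cfsg.Agent.Helper7.ChevRee2
import Cfsg.Agent.Helper7.ChevGood3

set_option autoImplicit false
set_option linter.unusedSectionVars false
set_option linter.unusedVariables false

/-!
The positive root elements of `G₂` in characteristic 3: the relations among them.
-/

namespace Cfsg.Agent.Helper7.Chev

open Cfsg Cfsg.Lie Matrix

variable {D : ChevalleyDatum} {K : Type*} [Field K]

/-- The commutator formula for invertible matrices. -/
theorem xGL_comm (hG : Good3 D) {r s : ℕ} (hr : r < D.nroots) (hs : s < D.nroots) (hsr : s ≠ r)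
    (hsn : s ≠ D.neg r) (t u : K) :
    xGL hG.toGood1 hs u * xGL hG.toGood1 hr t =
      xGL hG.toGood1 hr t * xGL hG.toGood1 hs u *
        ((D.commWord K r s t u).map (xGL' hG.toGood1)).prod := by
  apply Units.ext
  rw [Units.val_mul, Units.val_mul, Units.val_mul, xGL_coe, xGL_coe, wordGL_coe]
  exact hG.comm hr hs hsr hsn t u

section G2

/-- The root elements of `G₂`. -/
noncomputable def gx (K : Type*) [Field K] (r : Fin 12) (t : K) : GL chevG2.Idx K :=
  xGL good3_G2.toGood1 (r := r.val) r.2 t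

theorem gx_coe (r : Fin 12) (t : K) :
    ((gx K r t : GL chevG2.Idx K) : Matrix chevG2.Idx chevG2.Idx K) = chevG2.x K r.val t :=
  xGL_coe _ _ _

theorem gx_add (r : Fin 12) (t u : K) : gx K r t * gx K r u = gx K r (t + u) :=
  xGL_mul _ _ _ _

theorem gx_zero (r : Fin 12) : gx K r (0 : K) = 1 := xGL_zero _ _

theorem gx_inv (r : Fin 12) (t : K) : (gx K r t)⁻¹ = gx K r (-t) := xGL_inv _ _ _

theorem gx_mem_group (r : Fin 12) (t : K) : gx K r t ∈ chevG2.group K :=
  xGL_mem_group good3_G2.toGood2 r.2 t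

theorem xGL'_eq_gx (r : Fin 12) (t : K) : xGL' good3_G2.toGood1 (r.val, t) = gx K r t := by
  unfold xGL' gx
  have h : (r.val, t).1 < chevG2.nroots := r.2
  rw [dif_pos h]

theorem g2_commTerms_76 : chevG2.commTerms 7 6 = [(8, -1, 1, 1), (9, 1, 2, 1), (10, 1, 3, 1), (11, 1, 3, 2)] := by
  decide +kernel

theorem g2_commTerms_78 : chevG2.commTerms 7 8 = [(9, -2, 1, 1), (10, -3, 2, 1), (11, 3, 1, 2)] := by
  decide +kernel

theorem g2_commTerms_79 : chevG2.commTerms 7 9 = [(10, 3, 1, 1)] := by decide +kernel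

theorem g2_commTerms_610 : chevG2.commTerms 6 10 = [(11, 1, 1, 1)] := by decide +kernel

theorem g2_commTerms_89 : chevG2.commTerms 8 9 = [(11, 3, 1, 1)] := by decide +kernel

theorem g2_commTerms_nil : ∀ p ∈ [(7, 10), (7, 11), (6, 8), (6, 9), (6, 11), (8, 10), (8, 11), (9, 10), (9, 11), (10, 11)],
    (tabOf chevG2).commTerms p.1 p.2 = [] := by decide +kernel

/-- Root elements of `G₂` whose roots do not add up to a root commute. -/
theorem gx_commute_of_nil {r s : Fin 12} (hsr : s.val ≠ r.val) (hsn : s.val ≠ chevG2.neg r.val)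
    (h : (tabOf chevG2).commTerms r.val s.val = []) (t u : K) : Commute (gx K r t) (gx K s u) :=
  xGL_commute_of_terms_nil good3_G2.toGood2 good3_G2.t3 good3_G2.t4 r.2 s.2 hsr hsn h t u

variable [CharP K 3]

theorem three_eq_zero' : (3 : K) = 0 := by
  have := CharP.cast_eq_zero K 3
  exact_mod_cast this

/-- `x_b(u) x_a(t) = x_a(t) x_b(u) x_{a+b}(tu) x_{2a+b}(t²u) x_{3a+b}(-t³u) x_{3a+2b}(-t³u²)`. -/
theorem gx_comm_ab (t u : K) :
    gx K 6 u * gx K 7 t = gx K 7 t * gx K 6 u *
      (gx K 8 (t * u) * gx K 9 (t ^ 2 * u) * gx K 10 (-(t ^ 3 * u)) * gx K 11 (-(t ^ 3 * u ^ 2))) := by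
  have h := xGL_comm (K := K) good3_G2 (r := 7) (s := 6) (by decide) (by decide) (by decide)
    (by decide) t u
  unfold ChevalleyDatum.commWord at h
  rw [g2_commTerms_76] at h
  simp only [List.map_cons, List.map_nil, List.prod_cons, List.prod_nil, mul_one] at h
  have e8 : ∀ c : K, xGL' good3_G2.toGood1 (8, c) = gx K 8 c := fun c => xGL'_eq_gx 8 c
  have e9 : ∀ c : K, xGL' good3_G2.toGood1 (9, c) = gx K 9 c := fun c => xGL'_eq_gx 9 c
  have e10 : ∀ c : K, xGL' good3_G2.toGood1 (10, c) = gx K 10 c := fun c => xGL'_eq_gx 10 c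
  have e11 : ∀ c : K, xGL' good3_G2.toGood1 (11, c) = gx K 11 c := fun c => xGL'_eq_gx 11 c
  have a8 : ((-1 : ℤ) : K) * (-t) ^ 1 * u ^ 1 = t * u := by push_cast; ring
  have a9 : ((1 : ℤ) : K) * (-t) ^ 2 * u ^ 1 = t ^ 2 * u := by push_cast; ring
  have a10 : ((1 : ℤ) : K) * (-t) ^ 3 * u ^ 1 = -(t ^ 3 * u) := by push_cast; ring
  have a11 : ((1 : ℤ) : K) * (-t) ^ 3 * u ^ 2 = -(t ^ 3 * u ^ 2) := by push_cast; ring
  rw [e8, e9, e10, e11, a8, a9, a10, a11] at h
  change gx K 6 u * gx K 7 t = gx K 7 t * gx K 6 u * _ at h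
  rw [h]
  simp only [mul_assoc]


/-- `x_{a+b}(u) x_a(t) = x_a(t) x_{a+b}(u) x_{2a+b}(-tu)` in characteristic 3. -/
theorem gx_comm_a8 (t u : K) :
    gx K 8 u * gx K 7 t = gx K 7 t * gx K 8 u * gx K 9 (-(t * u)) := by
  have h := xGL_comm (K := K) good3_G2 (r := 7) (s := 8) (by decide) (by decide) (by decide)
    (by decide) t u
  unfold ChevalleyDatum.commWord at h
  rw [g2_commTerms_78] at h
  simp only [List.map_cons, List.map_nil, List.prod_cons, List.prod_nil, mul_one] at h
  have e9 : ∀ c : K, xGL' good3_G2.toGood1 (9, c) = gx K 9 c := fun c => xGL'_eq_gx 9 c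
  have e10 : ∀ c : K, xGL' good3_G2.toGood1 (10, c) = gx K 10 c := fun c => xGL'_eq_gx 10 c
  have e11 : ∀ c : K, xGL' good3_G2.toGood1 (11, c) = gx K 11 c := fun c => xGL'_eq_gx 11 c
  have h3 := three_eq_zero' (K := K)
  have a9 : ((-2 : ℤ) : K) * (-t) ^ 1 * u ^ 1 = -(t * u) := by
    push_cast
    linear_combination (t * u) * h3
  have a10 : ((-3 : ℤ) : K) * (-t) ^ 2 * u ^ 1 = 0 := by
    push_cast
    linear_combination (-(t ^ 2 * u)) * h3
  have a11 : ((3 : ℤ) : K) * (-t) ^ 1 * u ^ 2 = 0 := by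
    push_cast
    linear_combination (-(t * u ^ 2)) * h3
  rw [e9, e10, e11, a9, a10, a11, gx_zero, gx_zero, mul_one, mul_one] at h
  exact h

/-- `x_{3a+b}(u) x_b(t) = x_b(t) x_{3a+b}(u) x_{3a+2b}(-tu)`. -/
theorem gx_comm_b10 (t u : K) :
    gx K 10 u * gx K 6 t = gx K 6 t * gx K 10 u * gx K 11 (-(t * u)) := by
  have h := xGL_comm (K := K) good3_G2 (r := 6) (s := 10) (by decide) (by decide) (by decide)
    (by decide) t u
  unfold ChevalleyDatum.commWord at h
  rw [g2_commTerms_610] at h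
  simp only [List.map_cons, List.map_nil, List.prod_cons, List.prod_nil, mul_one] at h
  have e11 : ∀ c : K, xGL' good3_G2.toGood1 (11, c) = gx K 11 c := fun c => xGL'_eq_gx 11 c
  have a11 : ((1 : ℤ) : K) * (-t) ^ 1 * u ^ 1 = -(t * u) := by push_cast; ring
  rw [e11, a11] at h
  exact h

/-- `x_a` and `x_{2a+b}` commute in characteristic 3. -/
theorem gx_commute_79 (t u : K) : Commute (gx K 7 t) (gx K 9 u) := by
  have h := xGL_comm (K := K) good3_G2 (r := 7) (s := 9) (by decide) (by decide) (by decide)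
    (by decide) t u
  unfold ChevalleyDatum.commWord at h
  rw [g2_commTerms_79] at h
  simp only [List.map_cons, List.map_nil, List.prod_cons, List.prod_nil, mul_one] at h
  have e10 : ∀ c : K, xGL' good3_G2.toGood1 (10, c) = gx K 10 c := fun c => xGL'_eq_gx 10 c
  have h3 := three_eq_zero' (K := K)
  have a10 : ((3 : ℤ) : K) * (-t) ^ 1 * u ^ 1 = 0 := by
    push_cast
    linear_combination (-(t * u)) * h3
  rw [e10, a10, gx_zero, mul_one] at h
  exact h.symm

/-- `x_{a+b}` and `x_{2a+b}` commute in characteristic 3. -/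
theorem gx_commute_89 (t u : K) : Commute (gx K 8 t) (gx K 9 u) := by
  have h := xGL_comm (K := K) good3_G2 (r := 8) (s := 9) (by decide) (by decide) (by decide)
    (by decide) t u
  unfold ChevalleyDatum.commWord at h
  rw [g2_commTerms_89] at h
  simp only [List.map_cons, List.map_nil, List.prod_cons, List.prod_nil, mul_one] at h
  have e11 : ∀ c : K, xGL' good3_G2.toGood1 (11, c) = gx K 11 c := fun c => xGL'_eq_gx 11 c
  have h3 := three_eq_zero' (K := K)
  have a11 : ((3 : ℤ) : K) * (-t) ^ 1 * u ^ 1 = 0 := by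
    push_cast
    linear_combination (-(t * u)) * h3
  rw [e11, a11, gx_zero, mul_one] at h
  exact h.symm

omit [CharP K 3] in
theorem gx_commute_nil {r s : Fin 12}
    (h : (r.val, s.val) ∈ [(7, 10), (7, 11), (6, 8), (6, 9), (6, 11), (8, 10), (8, 11), (9, 10), (9, 11), (10, 11)])
    (t u : K) : Commute (gx K r t) (gx K s u) := by
  have h1 := g2_commTerms_nil _ h
  have h2 : s.val ≠ r.val ∧ s.val ≠ chevG2.neg r.val := by
    revert h
    revert r s
    decide
  exact gx_commute_of_nil h2.1 h2.2 h1 t u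

end G2

end Cfsg.Agent.Helper7.Chev
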