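import Mathlib
import Cfsg.Agent.Helper7.ChevRee3

set_option autoImplicit false
set_option linter.unusedSectionVars false
set_option linter.unusedVariables false

/-!
The group `U` of `G₂` in characteristic 3 in coordinates: `x_a(s) x_b(r) x_{a+b}(c₈) x_{2a+b}(c₉) x_{3a+b}(c₁₀) x_{3a+2b}(c₁₁)`
and the multiplication law.
-/

namespace Cfsg.Agent.Helper7.Chev

open Cfsg Cfsg.Lie Matrix

variable {K : Type*} [Field K] [CharP K 3]

/-- The coordinate homomorphisms of the abelian part. -/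
noncomputable def gAfac (K : Type*) [Field K] (r : Fin 12) (p : K × K × K × K → K) (hp : ∀ x y, p (x + y) = p x + p y)
    (hp0 : p 0 = 0) : Multiplicative (K × K × K × K) →* GL chevG2.Idx K where
  toFun n := gx K r (p (Multiplicative.toAdd n))
  map_one' := by
    change gx K r (p 0) = 1
    rw [hp0, gx_zero]
  map_mul' x y := by
    change gx K r (p (Multiplicative.toAdd x + Multiplicative.toAdd y)) = _
    rw [hp, gx_add]

/-- The list of the coordinate homomorphisms of the abelian part. -/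
noncomputable def gAlist (K : Type*) [Field K] : List (Multiplicative (K × K × K × K) →* GL chevG2.Idx K) :=
  [gAfac K 8 (fun c => c.1) (fun _ _ => rfl) rfl, gAfac K 9 (fun c => c.2.1) (fun _ _ => rfl) rfl,
    gAfac K 10 (fun c => c.2.2.1) (fun _ _ => rfl) rfl, gAfac K 11 (fun c => c.2.2.2) (fun _ _ => rfl) rfl]

theorem gAlist_pairwise : (gAlist K).Pairwise fun φ ψ => ∀ x y, Commute (φ x) (ψ y) := by
  unfold gAlist
  simp only [List.pairwise_cons, List.mem_cons, List.not_mem_nil, or_false, forall_eq_or_imp,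
    forall_eq, IsEmpty.forall_iff, implies_true, List.Pairwise.nil, and_true]
  refine ⟨⟨?_, ?_, ?_⟩, ⟨?_, ?_⟩, ?_⟩
  · intro x y; exact gx_commute_89 _ _
  · intro x y; exact gx_commute_nil (r := 8) (s := 10) (by decide) _ _
  · intro x y; exact gx_commute_nil (r := 8) (s := 11) (by decide) _ _
  · intro x y; exact gx_commute_nil (r := 9) (s := 10) (by decide) _ _
  · intro x y; exact gx_commute_nil (r := 9) (s := 11) (by decide) _ _
  · intro x y; exact gx_commute_nil (r := 10) (s := 11) (by decide) _ _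

/-- The abelian part `x_{a+b}(c₈) x_{2a+b}(c₉) x_{3a+b}(c₁₀) x_{3a+2b}(c₁₁)` as a homomorphism. -/
noncomputable def gAhom (K : Type*) [Field K] [CharP K 3] :
    Multiplicative (K × K × K × K) →* GL chevG2.Idx K :=
  listHom (gAlist K) gAlist_pairwise

/-- The abelian part `x_{a+b}(c₈) x_{2a+b}(c₉) x_{3a+b}(c₁₀) x_{3a+2b}(c₁₁)`. -/
noncomputable def gA (c8 c9 c10 c11 : K) : GL chevG2.Idx K :=
  gAhom K (Multiplicative.ofAdd (c8, c9, c10, c11))

theorem gA_eq (c8 c9 c10 c11 : K) :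
    gA c8 c9 c10 c11 = gx K 8 c8 * (gx K 9 c9 * (gx K 10 c10 * gx K 11 c11)) := by
  change listHomFun (gAlist K) _ = _
  unfold listHomFun gAlist
  simp only [List.map_cons, List.map_nil, List.prod_cons, List.prod_nil, mul_one]
  rfl

theorem gA_mul (c8 c9 c10 c11 d8 d9 d10 d11 : K) :
    gA c8 c9 c10 c11 * gA d8 d9 d10 d11 = gA (c8 + d8) (c9 + d9) (c10 + d10) (c11 + d11) := by
  unfold gA
  rw [← map_mul]
  rfl

theorem gA_zero : gA (0 : K) 0 0 0 = 1 := by
  rw [gA_eq, gx_zero, gx_zero, gx_zero, gx_zero, mul_one, mul_one, mul_one]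

theorem gA_inv (c8 c9 c10 c11 : K) : (gA c8 c9 c10 c11)⁻¹ = gA (-c8) (-c9) (-c10) (-c11) := by
  rw [inv_eq_iff_mul_eq_one, gA_mul]
  simp only [add_neg_cancel]
  exact gA_zero

/-- Moving `x_a(t)` to the left of the abelian part. -/
theorem gA_mul_gx7 (c8 c9 c10 c11 t : K) :
    gA c8 c9 c10 c11 * gx K 7 t = gx K 7 t * gA c8 (c9 - t * c8) c10 c11 := by
  rw [gA_eq, gA_eq]
  have h9 := gx_commute_79 (K := K) t
  have h10 := gx_commute_nil (K := K) (r := 7) (s := 10) (by decide) t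
  have h11 := gx_commute_nil (K := K) (r := 7) (s := 11) (by decide) t
  have h8 := gx_comm_a8 (K := K) t c8
  calc gx K 8 c8 * (gx K 9 c9 * (gx K 10 c10 * gx K 11 c11)) * gx K 7 t
      = gx K 8 c8 * (gx K 9 c9 * (gx K 10 c10 * (gx K 11 c11 * gx K 7 t))) := by simp only [mul_assoc]
    _ = gx K 8 c8 * (gx K 9 c9 * (gx K 10 c10 * (gx K 7 t * gx K 11 c11))) := by rw [(h11 c11).eq]
    _ = gx K 8 c8 * (gx K 9 c9 * ((gx K 10 c10 * gx K 7 t) * gx K 11 c11)) := by simp only [mul_assoc]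
    _ = gx K 8 c8 * (gx K 9 c9 * ((gx K 7 t * gx K 10 c10) * gx K 11 c11)) := by rw [(h10 c10).eq]
    _ = gx K 8 c8 * ((gx K 9 c9 * gx K 7 t) * (gx K 10 c10 * gx K 11 c11)) := by simp only [mul_assoc]
    _ = gx K 8 c8 * ((gx K 7 t * gx K 9 c9) * (gx K 10 c10 * gx K 11 c11)) := by rw [(h9 c9).eq]
    _ = (gx K 8 c8 * gx K 7 t) * (gx K 9 c9 * (gx K 10 c10 * gx K 11 c11)) := by simp only [mul_assoc]
    _ = (gx K 7 t * gx K 8 c8 * gx K 9 (-(t * c8))) * (gx K 9 c9 * (gx K 10 c10 * gx K 11 c11)) := by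
        rw [h8]
    _ = gx K 7 t * (gx K 8 c8 * ((gx K 9 (-(t * c8)) * gx K 9 c9) * (gx K 10 c10 * gx K 11 c11))) := by
        simp only [mul_assoc]
    _ = _ := by
        rw [gx_add]
        congr 4
        ring

/-- Moving `x_b(t)` to the left of the abelian part. -/
theorem gA_mul_gx6 (c8 c9 c10 c11 t : K) :
    gA c8 c9 c10 c11 * gx K 6 t = gx K 6 t * gA c8 c9 c10 (c11 - t * c10) := by
  rw [gA_eq, gA_eq]
  have h8 := gx_commute_nil (K := K) (r := 6) (s := 8) (by decide) t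
  have h9 := gx_commute_nil (K := K) (r := 6) (s := 9) (by decide) t
  have h11 := gx_commute_nil (K := K) (r := 6) (s := 11) (by decide) t
  have h10 := gx_comm_b10 (K := K) t c10
  calc gx K 8 c8 * (gx K 9 c9 * (gx K 10 c10 * gx K 11 c11)) * gx K 6 t
      = gx K 8 c8 * (gx K 9 c9 * (gx K 10 c10 * (gx K 11 c11 * gx K 6 t))) := by simp only [mul_assoc]
    _ = gx K 8 c8 * (gx K 9 c9 * (gx K 10 c10 * (gx K 6 t * gx K 11 c11))) := by rw [(h11 c11).eq]
    _ = gx K 8 c8 * (gx K 9 c9 * ((gx K 10 c10 * gx K 6 t) * gx K 11 c11)) := by simp only [mul_assoc]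
    _ = gx K 8 c8 * (gx K 9 c9 * ((gx K 6 t * gx K 10 c10 * gx K 11 (-(t * c10))) * gx K 11 c11)) := by
        rw [h10]
    _ = gx K 8 c8 * ((gx K 9 c9 * gx K 6 t) * (gx K 10 c10 * (gx K 11 (-(t * c10)) * gx K 11 c11))) := by
        simp only [mul_assoc]
    _ = gx K 8 c8 * ((gx K 6 t * gx K 9 c9) * (gx K 10 c10 * (gx K 11 (-(t * c10)) * gx K 11 c11))) := by
        rw [(h9 c9).eq]
    _ = (gx K 8 c8 * gx K 6 t) * (gx K 9 c9 * (gx K 10 c10 * (gx K 11 (-(t * c10)) * gx K 11 c11))) := by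
        simp only [mul_assoc]
    _ = (gx K 6 t * gx K 8 c8) * (gx K 9 c9 * (gx K 10 c10 * (gx K 11 (-(t * c10)) * gx K 11 c11))) := by
        rw [(h8 c8).eq]
    _ = _ := by
        rw [gx_add]
        simp only [mul_assoc]
        congr 5
        ring

/-- `x_b(u) x_a(t) = x_a(t) x_b(u) ·` (abelian part). -/
theorem gx6_mul_gx7 (t u : K) :
    gx K 6 u * gx K 7 t = gx K 7 t * gx K 6 u * gA (t * u) (t ^ 2 * u) (-(t ^ 3 * u)) (-(t ^ 3 * u ^ 2)) := by
  rw [gx_comm_ab, gA_eq]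
  simp only [mul_assoc]

/-- The element `x_a(s) x_b(r) x_{a+b}(c₈) x_{2a+b}(c₉) x_{3a+b}(c₁₀) x_{3a+2b}(c₁₁)` of `U`. -/
noncomputable def uA (s r c8 c9 c10 c11 : K) : GL chevG2.Idx K :=
  gx K 7 s * (gx K 6 r * gA c8 c9 c10 c11)

/-- The multiplication law of `U`. -/
theorem uA_mul (s r c8 c9 c10 c11 s' r' d8 d9 d10 d11 : K) :
    uA s r c8 c9 c10 c11 * uA s' r' d8 d9 d10 d11 =
      uA (s + s') (r + r') (c8 + s' * r + d8) (c9 - s' * c8 + s' ^ 2 * r + d9)
        (c10 - s' ^ 3 * r + d10) (c11 - s' ^ 3 * r ^ 2 - r' * (c10 - s' ^ 3 * r) + d11) := by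
  unfold uA
  calc gx K 7 s * (gx K 6 r * gA c8 c9 c10 c11) * (gx K 7 s' * (gx K 6 r' * gA d8 d9 d10 d11))
      = gx K 7 s * (gx K 6 r * ((gA c8 c9 c10 c11 * gx K 7 s') * (gx K 6 r' * gA d8 d9 d10 d11))) := by
        simp only [mul_assoc]
    _ = gx K 7 s * ((gx K 6 r * gx K 7 s') * (gA c8 (c9 - s' * c8) c10 c11 *
          (gx K 6 r' * gA d8 d9 d10 d11))) := by
        rw [gA_mul_gx7]; simp only [mul_assoc]
    _ = (gx K 7 s * gx K 7 s') * (gx K 6 r * ((gA (s' * r) (s' ^ 2 * r) (-(s' ^ 3 * r)) (-(s' ^ 3 * r ^ 2)) *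
          gA c8 (c9 - s' * c8) c10 c11) * (gx K 6 r' * gA d8 d9 d10 d11))) := by
        rw [gx6_mul_gx7]; simp only [mul_assoc]
    _ = gx K 7 (s + s') * (gx K 6 r * ((gA (s' * r + c8) (s' ^ 2 * r + (c9 - s' * c8)) (-(s' ^ 3 * r) + c10)
          (-(s' ^ 3 * r ^ 2) + c11) * gx K 6 r') * gA d8 d9 d10 d11)) := by
        rw [gx_add, gA_mul]; simp only [mul_assoc]
    _ = gx K 7 (s + s') * ((gx K 6 r * gx K 6 r') * (gA (s' * r + c8) (s' ^ 2 * r + (c9 - s' * c8))
          (-(s' ^ 3 * r) + c10) (-(s' ^ 3 * r ^ 2) + c11 - r' * (-(s' ^ 3 * r) + c10)) * gA d8 d9 d10 d11)) := by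
        rw [gA_mul_gx6]; simp only [mul_assoc]
    _ = _ := by
        rw [gx_add, gA_mul]
        congr 3 <;> ring

end Cfsg.Agent.Helper7.Chev
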