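import Mathlib
import Cfsg.Agent.Helper7.ChevRee4
import Cfsg.Agent.Helper7.ChevUnique
import Cfsg.Agent.Helper7.ChevT7
import Cfsg.Agent.Helper7.ChevT0

set_option autoImplicit false
set_option linter.unusedSectionVars false
set_option linter.unusedVariables false

/-!
The group `U` of `G₂` in characteristic 3 in coordinates: existence and uniqueness of the coordinates.
-/

namespace Cfsg.Agent.Helper7.Chev

open Cfsg Cfsg.Lie Matrix

variable {K : Type*} [Field K] [CharP K 3]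

theorem g2_posRoots : chevG2.posRoots = [6, 7, 8, 9, 10, 11] := by decide +kernel

theorem g2_isPosRoot (r : ℕ) : chevG2.IsPosRoot r ↔ 6 ≤ r ∧ r < 12 := by
  constructor
  · intro h
    exact ⟨(isPosRoot_iff T0_G2 h.1).mp h, h.1⟩
  · intro h
    exact (isPosRoot_iff T0_G2 h.2).mpr h.1

omit [CharP K 3] in
/-- The ordered product over the positive roots, as an invertible matrix. -/
theorem g2_word_coe (t : ℕ → K) :
    ((gx K 6 (t 6) * (gx K 7 (t 7) * (gx K 8 (t 8) * (gx K 9 (t 9) * (gx K 10 (t 10) * gx K 11 (t 11))))) :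
      GL chevG2.Idx K) : Matrix chevG2.Idx chevG2.Idx K) =
      chevG2.wordMat K (chevG2.posRoots.map fun r => (r, t r)) := by
  rw [g2_posRoots]
  simp only [List.map_cons, List.map_nil, wordMat_cons, wordMat_nil, mul_one, Units.val_mul, gx_coe]
  rfl

omit [CharP K 3] in
theorem gx_mem_pos {r : Fin 12} (hr : 6 ≤ r.val) (t : K) : gx K r t ∈ chevG2.posUnipotent K :=
  Subgroup.subset_closure ⟨r.val, t, (g2_isPosRoot r.val).mpr ⟨hr, r.2⟩, gx_coe r t⟩

theorem gA_mem_pos (c8 c9 c10 c11 : K) : gA c8 c9 c10 c11 ∈ chevG2.posUnipotent K := by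
  rw [gA_eq]
  exact mul_mem (gx_mem_pos (r := 8) (by decide) _) (mul_mem (gx_mem_pos (r := 9) (by decide) _)
    (mul_mem (gx_mem_pos (r := 10) (by decide) _) (gx_mem_pos (r := 11) (by decide) _)))

theorem uA_mem_pos (s r c8 c9 c10 c11 : K) : uA s r c8 c9 c10 c11 ∈ chevG2.posUnipotent K :=
  mul_mem (gx_mem_pos (r := 7) (by decide) _) (mul_mem (gx_mem_pos (r := 6) (by decide) _)
    (gA_mem_pos _ _ _ _))

/-- The element in the other order of the first two factors. -/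
theorem uA_eq (s r c8 c9 c10 c11 : K) :
    uA s r c8 c9 c10 c11 =
      gx K 6 r * (gx K 7 s * gA (c8 - s * r) (c9 - s ^ 2 * r) (c10 + s ^ 3 * r) (c11 + s ^ 3 * r ^ 2)) := by
  unfold uA
  have h := gx6_mul_gx7 (K := K) s r
  calc gx K 7 s * (gx K 6 r * gA c8 c9 c10 c11)
      = gx K 7 s * gx K 6 r * gA (s * r) (s ^ 2 * r) (-(s ^ 3 * r)) (-(s ^ 3 * r ^ 2)) *
          gA (c8 - s * r) (c9 - s ^ 2 * r) (c10 + s ^ 3 * r) (c11 + s ^ 3 * r ^ 2) := by
        rw [mul_assoc (gx K 7 s * gx K 6 r), gA_mul, mul_assoc]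
        congr 3 <;> ring
    _ = _ := by rw [← h]; simp only [mul_assoc]

/-- Every element of `U` has coordinates. -/
theorem exists_uA {g : GL chevG2.Idx K} (hg : g ∈ chevG2.posUnipotent K) :
    ∃ s r c8 c9 c10 c11 : K, g = uA s r c8 c9 c10 c11 := by
  obtain ⟨t, _, ht⟩ := posUnipotent_word good3_G2.toGood2 T0_G2 good3_G2.t3 good3_G2.t4 T7_G2 hg
  rw [← g2_word_coe] at ht
  have e := Units.ext ht
  refine ⟨t 7, t 6, t 8 + t 7 * t 6, t 9 + t 7 ^ 2 * t 6, t 10 - t 7 ^ 3 * t 6,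
    t 11 - t 7 ^ 3 * t 6 ^ 2, ?_⟩
  have a8 : t 8 + t 7 * t 6 - t 7 * t 6 = t 8 := by ring
  have a9 : t 9 + t 7 ^ 2 * t 6 - t 7 ^ 2 * t 6 = t 9 := by ring
  have a10 : t 10 - t 7 ^ 3 * t 6 + t 7 ^ 3 * t 6 = t 10 := by ring
  have a11 : t 11 - t 7 ^ 3 * t 6 ^ 2 + t 7 ^ 3 * t 6 ^ 2 = t 11 := by ring
  rw [e, uA_eq, gA_eq, a8, a9, a10, a11]

/-- The coordinates are unique. -/
theorem uA_injective {s r c8 c9 c10 c11 s' r' d8 d9 d10 d11 : K}
    (h : uA s r c8 c9 c10 c11 = uA s' r' d8 d9 d10 d11) :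
    s = s' ∧ r = r' ∧ c8 = d8 ∧ c9 = d9 ∧ c10 = d10 ∧ c11 = d11 := by
  rw [uA_eq, uA_eq, gA_eq, gA_eq] at h
  set t : ℕ → K := fun k => if k = 6 then r else if k = 7 then s else if k = 8 then c8 - s * r else
    if k = 9 then c9 - s ^ 2 * r else if k = 10 then c10 + s ^ 3 * r else if k = 11 then
    c11 + s ^ 3 * r ^ 2 else 0 with ht
  set t' : ℕ → K := fun k => if k = 6 then r' else if k = 7 then s' else if k = 8 then d8 - s' * r' else
    if k = 9 then d9 - s' ^ 2 * r' else if k = 10 then d10 + s' ^ 3 * r' else if k = 11 then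
    d11 + s' ^ 3 * r' ^ 2 else 0 with ht'
  have h1 := g2_word_coe (K := K) t
  have h2 := g2_word_coe (K := K) t'
  have e : chevG2.wordMat K (chevG2.posRoots.map fun k => (k, t k)) =
      chevG2.wordMat K (chevG2.posRoots.map fun k => (k, t' k)) := by
    rw [← h1, ← h2]
    simp only [ht, ht']
    norm_num
    exact congrArg Units.val h
  obtain ⟨g, hgU, hg⟩ := word_mem_posUnipotent (F := K) good3_G2.toGood2 T0_G2 t
  obtain ⟨u, _, huniq⟩ := (posUnipotent_unique_word (F := K) good3_G2.toGood2 T0_G2 good3_G2.t3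
    good3_G2.t4 T7_G2 T8_G2).1 g hgU
  have ht0 : ∀ k, ¬ chevG2.IsPosRoot k → t k = 0 := by
    intro k hk
    rw [g2_isPosRoot] at hk
    simp only [ht]
    have : k ≠ 6 ∧ k ≠ 7 ∧ k ≠ 8 ∧ k ≠ 9 ∧ k ≠ 10 ∧ k ≠ 11 := by omega
    simp [this]
  have ht'0 : ∀ k, ¬ chevG2.IsPosRoot k → t' k = 0 := by
    intro k hk
    rw [g2_isPosRoot] at hk
    simp only [ht']
    have : k ≠ 6 ∧ k ≠ 7 ∧ k ≠ 8 ∧ k ≠ 9 ∧ k ≠ 10 ∧ k ≠ 11 := by omega
    simp [this]
  have e1 := huniq t ⟨ht0, hg⟩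
  have e2 := huniq t' ⟨ht'0, hg.trans e⟩
  have ett : t = t' := e1.trans e2.symm
  have k6 := congrFun ett 6
  have k7 := congrFun ett 7
  have k8 := congrFun ett 8
  have k9 := congrFun ett 9
  have k10 := congrFun ett 10
  have k11 := congrFun ett 11
  simp only [ht, ht'] at k6 k7 k8 k9 k10 k11
  norm_num at k6 k7 k8 k9 k10 k11
  subst k6 k7
  refine ⟨rfl, rfl, ?_, ?_, ?_, ?_⟩
  · linear_combination k8
  · linear_combination k9
  · linear_combination k10
  · linear_combination k11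

end Cfsg.Agent.Helper7.Chev
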