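import Mathlib
import Cfsg.Agent.Helper7.ChevRee5
import Cfsg.Agent.Helper7.ChevIso7

set_option autoImplicit false
set_option linter.unusedSectionVars false
set_option linter.unusedVariables false

/-!
The twisting automorphism of `G₂` over a field of characteristic 3 on which `t ↦ t ^ 3 ^ (2m+1)` is the identity:
the composite of the field automorphism `θ : t ↦ t ^ 3 ^ m` and the special isogeny.
-/

namespace Cfsg.Agent.Helper7.Chev

open Cfsg Cfsg.Lie Matrix

variable {K : Type*} [Field K] [CharP K 3]

/-- `θ : t ↦ t ^ 3 ^ m`. -/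
noncomputable def reeTh (K : Type*) [Field K] [CharP K 3] (m : ℕ) : K →+* K := iterateFrobenius K 3 m

theorem reeTh_apply (m : ℕ) (t : K) : reeTh K m t = t ^ 3 ^ m := iterateFrobenius_def 3 m t

theorem reeTh_succ (m : ℕ) (t : K) : reeTh K (m + 1) t = (reeTh K m t) ^ 3 := by
  rw [reeTh_apply, reeTh_apply, ← pow_mul, pow_succ]

section tau

variable {m : ℕ} (hm : ∀ t : K, t ^ 3 ^ (2 * m + 1) = t)

include hm in
theorem reeTh_succ_reeTh (t : K) : reeTh K (m + 1) (reeTh K m t) = t := by
  rw [reeTh_apply, reeTh_apply, ← pow_mul, ← pow_add]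
  have : m + (m + 1) = 2 * m + 1 := by ring
  rw [this]
  exact hm t

include hm in
theorem reeTh_reeTh_succ (t : K) : reeTh K m (reeTh K (m + 1) t) = t := by
  rw [reeTh_apply, reeTh_apply, ← pow_mul, ← pow_add]
  have : m + 1 + m = 2 * m + 1 := by ring
  rw [this]
  exact hm t

include hm in
theorem ree_perfect (x : K) : ∃ y : K, y ^ 3 = x := by
  refine ⟨x ^ 3 ^ (2 * m), ?_⟩
  rw [← pow_mul, ← pow_succ]
  exact hm x

include hm in
theorem reeTh_bijective : Function.Bijective (reeTh K m) :=
  ⟨(reeTh K m).injective, fun x => ⟨reeTh K (m + 1) x, reeTh_reeTh_succ hm x⟩⟩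

include hm in
theorem reeTh_succ_bijective : Function.Bijective (reeTh K (m + 1)) :=
  ⟨(reeTh K (m + 1)).injective, fun x => ⟨reeTh K m x, reeTh_succ_reeTh hm x⟩⟩

/-- `θ` as an automorphism of the field. -/
noncomputable def reeThEquiv : K ≃+* K := RingEquiv.ofBijective (reeTh K m) (reeTh_bijective hm)

theorem reeThEquiv_apply (t : K) : reeThEquiv hm t = reeTh K m t := rfl

/-- The twisting automorphism of `G₂`. -/
noncomputable def reeTau : ↥(chevG2.group K) ≃* ↥(chevG2.group K) :=
  (chevFieldAut chevG2 (reeThEquiv hm)).trans (isoG2 (ree_perfect hm))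

/-- The field endomorphisms of the twisting automorphism: `t ↦ t ^ (3θ)` on the short roots and `θ` on the long
roots. -/
noncomputable def reeF (K : Type*) [Field K] [CharP K 3] (m : ℕ) (r : ℕ) : K →+* K :=
  if isoSR_G2 r then reeTh K (m + 1) else reeTh K m

theorem reeTau_rootAut : RootAut chevG2 K (reeTau hm) isoRho_G2 (reeF K m) where
  lt := by
    intro r hr
    exact (T22_G2.2 r hr).1
  invol := by
    intro r hr
    exact (T22_G2.2 r hr).2.1
  pos := by decide
  neg := by decide
  fneg := by
    intro r hr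
    unfold reeF
    have : isoSR_G2 (chevG2.neg r) = isoSR_G2 r := by
      revert r
      decide
    rw [this]
  surj := by
    intro r hr
    unfold reeF
    split_ifs
    · exact (reeTh_succ_bijective hm).2
    · exact (reeTh_bijective hm).2
  map_x := by
    intro g r t hr hg
    have h1 : (((chevFieldAut chevG2 (reeThEquiv hm) g : ↥(chevG2.group K)) : GL chevG2.Idx K) :
        Matrix chevG2.Idx chevG2.Idx K) = chevG2.x K r (reeTh K m t) := by
      rw [chevFieldAut_coe, hg, x_of_lt chevG2 K hr, x_of_lt chevG2 K hr]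
      exact xMat_map chevG2 ((reeThEquiv hm : K ≃+* K) : K →+* K) ⟨r, hr⟩ t
    have h2 := isoG2_apply_x (ree_perfect hm) hr h1
    change (((isoG2 (ree_perfect hm) (chevFieldAut chevG2 (reeThEquiv hm) g) : ↥(chevG2.group K)) :
      GL chevG2.Idx K) : Matrix chevG2.Idx chevG2.Idx K) = _
    rw [h2]
    congr 1
    unfold reeF
    split_ifs
    · rw [reeTh_succ]
    · rw [pow_one]

end tau

end Cfsg.Agent.Helper7.Chev
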