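import Mathlib
import Cfsg.Agent.Helper7.ChevRee6

set_option autoImplicit false
set_option linter.unusedSectionVars false
set_option linter.unusedVariables false

/-!
The elements of `U` fixed by the twisting automorphism of `G₂`.
-/

namespace Cfsg.Agent.Helper7.Chev

open Cfsg Cfsg.Lie Matrix

variable {K : Type*} [Field K] [CharP K 3] {m : ℕ} (hm : ∀ t : K, t ^ 3 ^ (2 * m + 1) = t)

/-- The twisting automorphism on the root elements. -/
theorem reeTau_gx (r : Fin 12) (t : K) (r' : Fin 12) (hr' : isoRho_G2 r.val = r'.val) :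
    extFun (reeTau hm) (gx K r t) = gx K r' (reeF K m r.val t) := by
  unfold gx
  rw [(reeTau_rootAut hm).map_xGL good3_G2.toGood2 r.2 t]
  exact xGL_congr' good3_G2.toGood1 hr' _ _ _

theorem reeTau_gx7 (t : K) : extFun (reeTau hm) (gx K 7 t) = gx K 6 (reeTh K (m + 1) t) :=
  reeTau_gx hm 7 t 6 (by decide)

theorem reeTau_gx6 (t : K) : extFun (reeTau hm) (gx K 6 t) = gx K 7 (reeTh K m t) :=
  reeTau_gx hm 6 t 7 (by decide)

theorem reeTau_gx8 (t : K) : extFun (reeTau hm) (gx K 8 t) = gx K 10 (reeTh K (m + 1) t) :=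
  reeTau_gx hm 8 t 10 (by decide)

theorem reeTau_gx9 (t : K) : extFun (reeTau hm) (gx K 9 t) = gx K 11 (reeTh K (m + 1) t) :=
  reeTau_gx hm 9 t 11 (by decide)

theorem reeTau_gx10 (t : K) : extFun (reeTau hm) (gx K 10 t) = gx K 8 (reeTh K m t) :=
  reeTau_gx hm 10 t 8 (by decide)

theorem reeTau_gx11 (t : K) : extFun (reeTau hm) (gx K 11 t) = gx K 9 (reeTh K m t) :=
  reeTau_gx hm 11 t 9 (by decide)

theorem gA_mem_group (c8 c9 c10 c11 : K) : gA c8 c9 c10 c11 ∈ chevG2.group K :=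
  posUnipotent_le_group (gA_mem_pos _ _ _ _)

/-- The twisting automorphism on the abelian part. -/
theorem reeTau_gA (c8 c9 c10 c11 : K) :
    extFun (reeTau hm) (gA c8 c9 c10 c11) =
      gA (reeTh K m c10) (reeTh K m c11) (reeTh K (m + 1) c8) (reeTh K (m + 1) c9) := by
  have e : gA (reeTh K m c10) (reeTh K m c11) (reeTh K (m + 1) c8) (reeTh K (m + 1) c9) =
      gA 0 0 (reeTh K (m + 1) c8) (reeTh K (m + 1) c9) * gA (reeTh K m c10) (reeTh K m c11) 0 0 := by
    rw [gA_mul]
    simp only [zero_add, add_zero]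
  rw [e, gA_eq c8, gA_eq 0, gA_eq (reeTh K m c10), gx_zero, gx_zero, gx_zero, gx_zero, one_mul, one_mul,
    mul_one, mul_one]
  have g8 := gx_mem_group (K := K) 8 c8
  have g9 := gx_mem_group (K := K) 9 c9
  have g10 := gx_mem_group (K := K) 10 c10
  have g11 := gx_mem_group (K := K) 11 c11
  rw [extFun_mul _ g8 (mul_mem g9 (mul_mem g10 g11)), extFun_mul _ g9 (mul_mem g10 g11),
    extFun_mul _ g10 g11, reeTau_gx8, reeTau_gx9, reeTau_gx10, reeTau_gx11]
  simp only [mul_assoc]

/-- The twisting automorphism on `U` in coordinates. -/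
theorem reeTau_uA (s r c8 c9 c10 c11 : K) :
    extFun (reeTau hm) (uA s r c8 c9 c10 c11) =
      uA (reeTh K m r) (reeTh K (m + 1) s)
        (reeTh K m c10 + reeTh K m r * reeTh K (m + 1) s)
        (reeTh K m c11 + reeTh K m r ^ 2 * reeTh K (m + 1) s)
        (reeTh K (m + 1) c8 - reeTh K m r ^ 3 * reeTh K (m + 1) s)
        (reeTh K (m + 1) c9 - reeTh K m r ^ 3 * reeTh K (m + 1) s ^ 2) := by
  conv_rhs => rw [uA_eq]
  unfold uA
  have g7 := gx_mem_group (K := K) 7 s
  have g6 := gx_mem_group (K := K) 6 r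
  have gA' := gA_mem_group (K := K) c8 c9 c10 c11
  rw [extFun_mul _ g7 (mul_mem g6 gA'), extFun_mul _ g6 gA', reeTau_gx7, reeTau_gx6, reeTau_gA]
  congr 3 <;> ring

/-- The fixed elements of `U`. -/
noncomputable def ru (m : ℕ) (t u v : K) : GL chevG2.Idx K :=
  uA (reeTh K m t) t (reeTh K m t * t + reeTh K m u) (reeTh K m t ^ 2 * t + reeTh K m v) u v

include hm in
theorem reeTau_ru (t u v : K) : extFun (reeTau hm) (ru m t u v) = ru m t u v := by
  unfold ru
  rw [reeTau_uA]
  have h1 := reeTh_succ_reeTh hm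
  simp only [map_add, map_mul, map_pow, h1]
  congr 1 <;> (try rw [reeTh_succ]) <;> ring

include hm in
/-- The fixed elements of `U` are the `ru m t u v`. -/
theorem exists_ru_of_fixed {g : GL chevG2.Idx K} (hg : g ∈ chevG2.posUnipotent K)
    (hfix : extFun (reeTau hm) g = g) : ∃ t u v : K, g = ru m t u v := by
  obtain ⟨s, r, c8, c9, c10, c11, rfl⟩ := exists_uA hg
  rw [reeTau_uA] at hfix
  obtain ⟨e1, e2, e3, e4, _, _⟩ := uA_injective hfix
  refine ⟨r, c10, c11, ?_⟩
  unfold ru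
  rw [← e1]
  have e3' : c8 = reeTh K m r * r + reeTh K m c10 := by
    rw [← e3, ← e2]; ring
  have e4' : c9 = reeTh K m r ^ 2 * r + reeTh K m c11 := by
    rw [← e4, ← e2]; ring
  rw [← e3', ← e4']

end Cfsg.Agent.Helper7.Chev
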