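import Mathlib
import Cfsg.Agent.Helper7.ChevRee7
import Cfsg.Agent.Helper7.ChevNu2
import Cfsg.Prelude.Def_LieTwisted

set_option autoImplicit false
set_option linter.unusedSectionVars false
set_option linter.unusedVariables false

/-!
The twisting automorphism commutes with the automorphism `x_r(c) ↦ x_{-r}(-c)`; the twisted group of type `G₂` is
contained in the group of the fixed elements, and its intersection with `U`.
-/

namespace Cfsg.Agent.Helper7.Chev

open Cfsg Cfsg.Lie Matrix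

section general

variable {D : ChevalleyDatum} {K : Type*} [Field K]
  (hG : Good2 D) {N : ℕ} (h25 : (tabOf D).T25 N)
  {τ : ↥(D.group K) ≃* ↥(D.group K)} {ρ : ℕ → ℕ} {f : ℕ → K →+* K} (hτ : RootAut D K τ ρ f)

include hG hτ in
/-- An automorphism permuting the root subgroups commutes with `x_r(c) ↦ x_{-r}(-c)`. -/
theorem RootAut.comm_nu (g : ↥(D.group K)) :
    τ (nuAut hG.toGood1 h25 g) = nuAut hG.toGood1 h25 (τ g) := by
  have hG1 := hG.toGood1
  have key : τ.toMonoidHom.comp (nuAut hG1 h25).toMonoidHom =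
      (nuAut hG1 h25).toMonoidHom.comp τ.toMonoidHom := by
    have hdense : Subgroup.closure ((fun x : ↥(D.group K) => (x : GL D.Idx K)) ⁻¹'
        {g | ∃ (r : Fin D.nroots) (t : K), (g : Matrix D.Idx D.Idx K) = D.xMat K r t}) = ⊤ :=
      Subgroup.closure_closure_coe_preimage
    apply MonoidHom.eq_of_eqOn_dense hdense
    rintro x ⟨r, t, hx⟩
    have hx' : ((x : GL D.Idx K) : Matrix D.Idx D.Idx K) = D.x K r.val t := by
      rw [hx, x_of_lt D K r.2]
    apply Subtype.ext
    apply Units.ext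
    change (((τ (nuAut hG1 h25 x) : ↥(D.group K)) : GL D.Idx K) : Matrix D.Idx D.Idx K) =
      (((nuAut hG1 h25 (τ x) : ↥(D.group K)) : GL D.Idx K) : Matrix D.Idx D.Idx K)
    rw [hτ.map_x _ _ _ (hG1.neg_lt r.2) (nuAut_x hG1 h25 r.2 hx'),
      nuAut_x hG1 h25 (hτ.lt r.val r.2) (hτ.map_x x r.val t r.2 hx'), hτ.neg r.val r.2,
      hτ.fneg r.val r.2, _root_.map_neg]
  exact DFunLike.congr_fun key g

include hG h25 hτ in
theorem RootAut.nu_fixed {g : GL D.Idx K} (hg : g ∈ D.group K) (hfix : extFun τ g = g) :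
    extFun τ (nuGL hG.toGood1 g) = nuGL hG.toGood1 g := by
  have hG1 := hG.toGood1
  have h1 : nuGL hG1 g = ((nuAut hG1 h25 ⟨g, hg⟩ : ↥(D.group K)) : GL D.Idx K) := rfl
  have h2 : ((τ ⟨g, hg⟩ : ↥(D.group K)) : GL D.Idx K) = g := by
    rw [← extFun_of_mem τ hg]; exact hfix
  rw [h1, extFun_coe, hτ.comm_nu hG h25, nuAut_coe, nuAut_coe, h2]

end general

end Cfsg.Agent.Helper7.Chev

namespace Cfsg.Agent.Helper7.Chev

open Cfsg Cfsg.Lie Matrix

section word

variable {D : ChevalleyDatum} {K : Type*} [Field K] (hG : Good1 D) {N : ℕ} (h25 : (tabOf D).T25 N)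

include hG h25 in
/-- The matrix of the image of a word under `x_r(c) ↦ x_{-r}(-c)`. -/
theorem wordMat_submatrix_nuGam (w : List (ℕ × K)) (hw : ∀ p ∈ w, p.1 < D.nroots) :
    (D.wordMat K w).submatrix (nuGam D) (nuGam D) = D.wordMat K (D.negWord w) := by
  induction w with
  | nil =>
    unfold ChevalleyDatum.negWord
    rw [List.map_nil, wordMat_nil]
    ext i j
    rw [Matrix.submatrix_apply, Matrix.one_apply, Matrix.one_apply]
    have : nuGam D i = nuGam D j ↔ i = j := (nuEquiv hG).injective.eq_iff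
    simp only [this]
  | cons p w ih =>
    have hp : p.1 < D.nroots := hw p List.mem_cons_self
    have hw' : ∀ q ∈ w, q.1 < D.nroots := fun q hq => hw q (List.mem_cons_of_mem _ hq)
    have e : D.negWord (p :: w) = (D.neg p.1, -p.2) :: D.negWord w := by
      unfold ChevalleyDatum.negWord
      rw [List.map_cons]
      rfl
    rw [e, wordMat_cons, wordMat_cons, ← ih hw', ← x_submatrix_nuGam hG h25 hp]
    exact (Matrix.submatrix_mul_equiv (D.x K p.1 p.2) (D.wordMat K w) (nuGam D) (nuEquiv hG)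
      (nuGam D)).symm

include h25 in
theorem nuGL_word {g : GL D.Idx K} (w : List (ℕ × K)) (hw : ∀ p ∈ w, p.1 < D.nroots)
    (hg : (g : Matrix D.Idx D.Idx K) = D.wordMat K w) :
    ((nuGL hG g : GL D.Idx K) : Matrix D.Idx D.Idx K) = D.wordMat K (D.negWord w) := by
  rw [nuGL_coe, hg, wordMat_submatrix_nuGam hG h25 w hw]

end word

section G2

variable {K : Type*} [Field K] [CharP K 3] {m : ℕ} (hm : ∀ t : K, t ^ 3 ^ (2 * m + 1) = t)

theorem ru_coe (t u v : K) :
    ((ru m t u v : GL chevG2.Idx K) : Matrix chevG2.Idx chevG2.Idx K) =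
      chevG2.wordMat K (reeWordU (3 ^ m) t u v) := by
  unfold ru uA reeWordU
  rw [gA_eq]
  simp only [wordMat_cons, wordMat_nil, mul_one, Units.val_mul, gx_coe, reeTh_apply]
  have e1 : t ^ 3 ^ m * t + u ^ 3 ^ m = t ^ (3 ^ m + 1) + u ^ 3 ^ m := by ring
  have e2 : (t ^ 3 ^ m) ^ 2 * t + v ^ 3 ^ m = t ^ (2 * 3 ^ m + 1) + v ^ 3 ^ m := by ring
  rw [e1, e2]
  rfl

/-- The fixed elements of `V`. -/
noncomputable def rv (m : ℕ) (t u v : K) : GL chevG2.Idx K := nuGL good3_G2.toGood1 (ru m t u v)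

theorem rv_coe (t u v : K) :
    ((rv m t u v : GL chevG2.Idx K) : Matrix chevG2.Idx chevG2.Idx K) =
      chevG2.wordMat K (reeWordV (3 ^ m) t u v) := by
  unfold rv reeWordV
  apply nuGL_word good3_G2.toGood1 T25_G2 _ _ (ru_coe t u v)
  intro p hp
  unfold reeWordU at hp
  simp only [List.mem_cons, List.not_mem_nil, or_false] at hp
  rcases hp with rfl | rfl | rfl | rfl | rfl | rfl
  · exact (by decide : g2a < chevG2.nroots)
  · exact (by decide : g2b < chevG2.nroots)
  · exact (by decide : g2ab < chevG2.nroots)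
  · exact (by decide : g2aab < chevG2.nroots)
  · exact (by decide : g2aaab < chevG2.nroots)
  · exact (by decide : g2aaabb < chevG2.nroots)

theorem ru_mem_group (t u v : K) : ru m t u v ∈ chevG2.group K :=
  posUnipotent_le_group (uA_mem_pos _ _ _ _ _ _)

include hm in
theorem reeTau_rv (t u v : K) : extFun (reeTau hm) (rv m t u v) = rv m t u v :=
  (reeTau_rootAut hm).nu_fixed good3_G2.toGood2 T25_G2 (ru_mem_group t u v) (reeTau_ru hm t u v)

theorem ru_mem_twisted (t u v : K) : ru m t u v ∈ twistedG2 K (3 ^ m) :=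
  Subgroup.subset_closure ⟨_, ⟨t, u, v, Or.inl rfl⟩, ru_coe t u v⟩

theorem rv_mem_twisted (t u v : K) : rv m t u v ∈ twistedG2 K (3 ^ m) :=
  Subgroup.subset_closure ⟨_, ⟨t, u, v, Or.inr rfl⟩, rv_coe t u v⟩

/-- The twisted group is generated by the `ru` and the `rv`. -/
theorem twistedG2_eq :
    twistedG2 K (3 ^ m) = Subgroup.closure ({g | ∃ t u v : K, g = ru m t u v} ∪
      {g | ∃ t u v : K, g = rv m t u v}) := by
  apply le_antisymm
  · unfold twistedG2 ChevalleyDatum.genSubgroup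
    rw [Subgroup.closure_le]
    rintro g ⟨w, ⟨t, u, v, hw | hw⟩, hg⟩
    · apply Subgroup.subset_closure
      left
      refine ⟨t, u, v, ?_⟩
      apply Units.ext
      rw [hg, hw, ru_coe]
    · apply Subgroup.subset_closure
      right
      refine ⟨t, u, v, ?_⟩
      apply Units.ext
      rw [hg, hw, rv_coe]
  · rw [Subgroup.closure_le]
    rintro g (⟨t, u, v, rfl⟩ | ⟨t, u, v, rfl⟩)
    · exact ru_mem_twisted t u v
    · exact rv_mem_twisted t u v

include hm in
/-- The twisted group consists of fixed elements. -/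
theorem twistedG2_le_fixSub : twistedG2 K (3 ^ m) ≤ fixSub (reeTau hm) := by
  rw [twistedG2_eq, Subgroup.closure_le]
  rintro g (⟨t, u, v, rfl⟩ | ⟨t, u, v, rfl⟩)
  · exact ⟨ru_mem_group t u v, reeTau_ru hm t u v⟩
  · refine ⟨?_, reeTau_rv hm t u v⟩
    have := (nuAut good3_G2.toGood1 T25_G2 ⟨ru m t u v, ru_mem_group t u v⟩).2
    exact this

include hm in
/-- The intersection of the twisted group with `U`. -/
theorem mem_pos_inf_twistedG2 {g : GL chevG2.Idx K} :
    g ∈ chevG2.posUnipotent K ⊓ twistedG2 K (3 ^ m) ↔ ∃ t u v : K, g = ru m t u v := by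
  constructor
  · rintro ⟨hU, hG⟩
    exact exists_ru_of_fixed hm hU (twistedG2_le_fixSub hm hG).2
  · rintro ⟨t, u, v, rfl⟩
    exact ⟨uA_mem_pos _ _ _ _ _ _, ru_mem_twisted t u v⟩

theorem ru_injective {t u v t' u' v' : K} (h : ru m t u v = ru m t' u' v') :
    t = t' ∧ u = u' ∧ v = v' := by
  unfold ru at h
  obtain ⟨_, h2, _, _, h5, h6⟩ := uA_injective h
  exact ⟨h2, h5, h6⟩

end G2

end Cfsg.Agent.Helper7.Chev
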