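import Mathlib
import Cfsg.Agent.Helper7.ChevCount

set_option autoImplicit false
set_option linter.unusedSectionVars false
set_option linter.unusedVariables false

/-!
A checkable certificate for a list of words representing the elements of the Weyl group, using a table of the
fundamental reflections.
-/

namespace Cfsg.Agent.Helper7.Chev

open Cfsg Cfsg.Lie Matrix

/-- The reflection in the `i`-th fundamental root, from a table. -/
def fastRefl (R : ℕ × ℕ) (i r : ℕ) : ℕ := fld R.2 8 (R.1 * i + r)

/-- The composite of the fundamental reflections along a word, from a table. -/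
def fastWord (R : ℕ × ℕ) (w : List ℕ) (s : ℕ) : ℕ := w.foldr (fun i s => fastRefl R i s) s

/-- Every prefix of the word maps the next fundamental root to a positive root, from a table. -/
def prefixPosF (D : ChevalleyDatum) (R : ℕ × ℕ) (w : List ℕ) : Bool :=
  (List.range w.length).all fun m => decide (D.nroots / 2 ≤ fastWord R (w.take m) (D.simple (w.getD m 0)))

/-- The images of the fundamental roots, from a table. -/
def keyF (D : ChevalleyDatum) (R : ℕ × ℕ) (w : List ℕ) : ℕ :=
  (List.range D.rank).foldr (fun i acc => acc * 256 + fastWord R w (D.simple i)) 0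

/-- The number of positive roots made negative by the word, from a table. -/
def nMinusF (D : ChevalleyDatum) (R : ℕ × ℕ) (w : List ℕ) : ℕ :=
  ((List.range' (D.nroots / 2) (D.nroots - D.nroots / 2)).filter
    (fun r => decide (fastWord R w r < D.nroots / 2))).length

/-- Left multiplication by the fundamental reflections permutes the list, as certified by `nxt`. -/
def closedF (D : ChevalleyDatum) (R : ℕ × ℕ) (W : List (List ℕ)) (nxt : List (List ℕ)) : Bool :=
  (W.zip nxt).all fun p => decide (p.2.length = D.rank) &&
    p.2.zipIdx.all fun q => decide (q.1 < W.length) &&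
      (List.range D.nroots).all fun r => fastWord R (q.2 :: p.1) r == fastWord R (W.getD q.1 []) r

/-- A fast check that a list of numbers has no repetition. -/
def nodupB : List ℕ → Bool
  | [] => true
  | a :: l => !(l.any (fun b => Nat.beq a b)) && nodupB l

theorem nodup_of_nodupB : ∀ L : List ℕ, nodupB L = true → L.Nodup
  | [], _ => List.nodup_nil
  | a :: l, h => by
    unfold nodupB at h
    rw [Bool.and_eq_true, Bool.not_eq_true', List.any_eq_false] at h
    rw [List.nodup_cons]
    refine ⟨fun ha => ?_, nodup_of_nodupB l h.2⟩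
    have := h.1 a ha
    simp at this

/-- The check of `closedF` on a chunk of the list. -/
def closedChunk (D : ChevalleyDatum) (R : ℕ × ℕ) (W : List (List ℕ)) (nxt : List (List ℕ)) (a k : ℕ) :
    Bool :=
  (((W.zip nxt).drop a).take k).all fun p => decide (p.2.length = D.rank) &&
    p.2.zipIdx.all fun q => decide (q.1 < W.length) &&
      (List.range D.nroots).all fun r => fastWord R (q.2 :: p.1) r == fastWord R (W.getD q.1 []) r

theorem all_of_chunks {α : Type*} (f : α → Bool) (k : ℕ) : ∀ (m : ℕ) (L : List α),
    (∀ j < m, ((L.drop (j * k)).take k).all f = true) → L.length ≤ m * k → L.all f = true := by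
  intro m
  induction m with
  | zero =>
    intro L _ hlen
    have : L = [] := List.length_eq_zero_iff.mp (by omega)
    rw [this]; rfl
  | succ m ih =>
    intro L h hlen
    have h0 := h 0 (by omega)
    rw [Nat.zero_mul, List.drop_zero] at h0
    have hrest : (L.drop k).all f = true := by
      apply ih (L.drop k)
      · intro j hj
        have := h (j + 1) (by omega)
        rw [List.drop_drop]
        have e : k + j * k = (j + 1) * k := by ring
        rw [e]
        exact this
      · rw [List.length_drop]
        have : (m + 1) * k = m * k + k := by ring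
        omega
    rw [← List.take_append_drop k L, List.all_append, h0, hrest]
    rfl

theorem closedF_of_chunks (D : ChevalleyDatum) (R : ℕ × ℕ) (W : List (List ℕ)) (nxt : List (List ℕ))
    (k m : ℕ) (h : ∀ j < m, closedChunk D R W nxt (j * k) k = true) (hlen : W.length ≤ m * k) :
    closedF D R W nxt = true := by
  unfold closedF
  apply all_of_chunks _ k m _ h
  rw [List.length_zip]
  exact le_trans (Nat.min_le_left _ _) hlen

/-- The certificate. -/
structure WCert (D : ChevalleyDatum) (R : ℕ × ℕ) (W : List (List ℕ)) (nxt : List (List ℕ))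
    (K : List ℕ) : Prop where
  refl_eq : ∀ i < D.rank, ∀ r < D.nroots, (tabOf D).refl (D.simple i) r = fastRefl R i r
  head : W.head? = some []
  len : nxt.length = W.length
  ok : (W.all fun w => w.all (fun i => decide (i < D.rank)) && prefixPosF D R w) = true
  closed : closedF D R W nxt = true
  keys : W.map (keyF D R) = K
  nodup : nodupB K = true

instance (D : ChevalleyDatum) (R : ℕ × ℕ) (W : List (List ℕ)) (nxt : List (List ℕ)) (K : List ℕ) :
    Decidable (WCert D R W nxt K) :=
  decidable_of_iff
    ((∀ i < D.rank, ∀ r < D.nroots, (tabOf D).refl (D.simple i) r = fastRefl R i r) ∧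
      W.head? = some [] ∧ nxt.length = W.length ∧
      (W.all fun w => w.all (fun i => decide (i < D.rank)) && prefixPosF D R w) = true ∧
      closedF D R W nxt = true ∧ W.map (keyF D R) = K ∧ nodupB K = true)
    ⟨fun h => ⟨h.1, h.2.1, h.2.2.1, h.2.2.2.1, h.2.2.2.2.1, h.2.2.2.2.2.1, h.2.2.2.2.2.2⟩,
      fun h => ⟨h.1, h.2, h.3, h.4, h.5, h.6, h.7⟩⟩

variable {D : ChevalleyDatum}

theorem foldr_congr_mem {α β : Type*} {f g : α → β → β} (L : List α) (b : β)
    (h : ∀ a ∈ L, ∀ x, f a x = g a x) : L.foldr f b = L.foldr g b := by
  induction L with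
  | nil => rfl
  | cons a L ih =>
    rw [List.foldr_cons, List.foldr_cons, ih (fun a' ha' => h a' (List.mem_cons_of_mem _ ha')),
      h a List.mem_cons_self]

section cert

variable (hG : Good2 D) {R : ℕ × ℕ} {W : List (List ℕ)} {nxt : List (List ℕ)} {K : List ℕ}
  (hC : WCert D R W nxt K)

include hG hC in
theorem fastWord_eq {w : List ℕ} (hw : ∀ i ∈ w, i < D.rank) {s : ℕ} (hs : s < D.nroots) :
    (tabOf D).reflWord w s = fastWord R w s := by
  induction w with
  | nil => rfl
  | cons i w ih =>
    have hi : i < D.rank := hw i List.mem_cons_self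
    have hw' : ∀ j ∈ w, j < D.rank := fun j hj => hw j (List.mem_cons_of_mem _ hj)
    rw [reflWord_cons]
    change _ = fastRefl R i (fastWord R w s)
    rw [← ih hw', hC.refl_eq i hi _ (reflWord_lt hG hw' hs)]

include hG hC in
theorem nMinus_eq {w : List ℕ} (hw : ∀ i ∈ w, i < D.rank) : nMinus D w = nMinusF D R w := by
  unfold nMinus nMinusF
  congr 1
  apply List.filter_congr
  intro r hr
  rw [List.mem_range'_1] at hr
  rw [fastWord_eq hG hC hw (by omega)]

include hG hC in
theorem prefixPos_of_cert {w : List ℕ} (hw : ∀ i ∈ w, i < D.rank) (h : prefixPosF D R w = true) :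
    PrefixPos D w := by
  intro w₁ k w₂ hwe
  unfold prefixPosF at h
  rw [List.all_eq_true] at h
  have hm : w₁.length < w.length := by rw [hwe]; simp
  have := h w₁.length (List.mem_range.mpr hm)
  rw [decide_eq_true_eq] at this
  have htake : w.take w₁.length = w₁ := by rw [hwe]; simp
  have hget : w.getD w₁.length 0 = k := by rw [hwe]; simp
  rw [htake, hget] at this
  have hw₁ : ∀ i ∈ w₁, i < D.rank := fun i hi => hw i (by rw [hwe]; simp [hi])
  have hk : k < D.rank := hw k (by rw [hwe]; simp)
  rw [fastWord_eq hG hC hw₁ (hG.toGood1.simple_lt hk)]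
  exact this

include hG hC in
/-- A certified list represents the Weyl group. -/
theorem wList_of_cert : WList D W := by
  have hG1 := hG.toGood1
  have hok : ∀ w ∈ W, (∀ i ∈ w, i < D.rank) ∧ PrefixPos D w := by
    intro w hw
    have h := hC.ok
    rw [List.all_eq_true] at h
    have h1 := h w hw
    rw [Bool.and_eq_true, List.all_eq_true] at h1
    have hlt : ∀ i ∈ w, i < D.rank := fun i hi => of_decide_eq_true (h1.1 i hi)
    exact ⟨hlt, prefixPos_of_cert hG hC hlt h1.2⟩
  have hnd : (W.map (keyF D R)).Nodup := by rw [hC.keys]; exact nodup_of_nodupB _ hC.nodup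
  have hkey : ∀ w ∈ W, ∀ w' ∈ W,
      (∀ r < D.nroots, (tabOf D).reflWord w r = (tabOf D).reflWord w' r) → w = w' := by
    intro w hw w' hw' hact
    apply List.inj_on_of_nodup_map hnd hw hw'
    unfold keyF
    apply foldr_congr_mem
    intro i hi acc
    rw [List.mem_range] at hi
    have hp := hG1.simple_lt hi
    rw [← fastWord_eq hG hC (hok w hw).1 hp, ← fastWord_eq hG hC (hok w' hw').1 hp, hact _ hp]
  refine ⟨?_, (List.Nodup.of_map _ hnd), hok, ?_, hkey⟩
  · have h := hC.head
    cases W with
    | nil => simp at h
    | cons a W' =>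
      simp only [List.head?_cons, Option.some.injEq] at h
      rw [h]; exact List.mem_cons_self
  · intro w hw i hi
    obtain ⟨j, hj⟩ := List.mem_iff_getElem.mp hw
    obtain ⟨hjl, rfl⟩ := hj
    have hjn : j < nxt.length := by rw [hC.len]; exact hjl
    have hcl := hC.closed
    unfold closedF at hcl
    rw [List.all_eq_true] at hcl
    have hmem : (W[j], nxt[j]) ∈ W.zip nxt := by
      rw [List.mem_iff_getElem]
      refine ⟨j, by simp [hjl, hjn], by simp⟩
    have h1 := hcl _ hmem
    rw [Bool.and_eq_true, decide_eq_true_eq, List.all_eq_true] at h1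
    obtain ⟨hlen, h2⟩ := h1
    have hil : i < nxt[j].length := by rw [hlen]; exact hi
    have hmem2 : (nxt[j][i], i) ∈ nxt[j].zipIdx := by
      rw [List.mem_zipIdx_iff_getElem?]
      simp [hil]
    have h3 := h2 _ hmem2
    rw [Bool.and_eq_true, decide_eq_true_eq, List.all_eq_true] at h3
    obtain ⟨hk, h4⟩ := h3
    refine ⟨W[nxt[j][i]], List.getElem_mem hk, ?_⟩
    intro r hr
    have h5 := h4 r (List.mem_range.mpr hr)
    rw [beq_iff_eq] at h5
    have hw1 := (hok _ hw).1
    have hiw : ∀ k ∈ i :: W[j], k < D.rank := by
      intro k hk'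
      rcases List.mem_cons.mp hk' with rfl | hk'
      · exact hi
      · exact hw1 k hk'
    rw [fastWord_eq hG hC hiw hr, fastWord_eq hG hC (hok _ (List.getElem_mem hk)).1 hr, h5]
    congr 1
    simp [hk]

end cert

end Cfsg.Agent.Helper7.Chev
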