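import Mathlib
import Cfsg.Agent.Helper7.ChevWCert
import Cfsg.Agent.Helper7.ChevGood3

set_option autoImplicit false
set_option maxRecDepth 1000000
set_option maxHeartbeats 4000000

/-! The elements of the Weyl group of type G2 as words, with the parts of the certificate. -/

namespace Cfsg.Agent.Helper7.Chev

open Cfsg Cfsg.Lie

def wR_G2 : ℕ × ℕ := (12, 0xa0b090708050603040200010b060809040a010702030500)
def wL_G2 : List (List ℕ) := [[], [0], [1], [0, 1], [1, 0], [0, 1, 0], [1, 0, 1], [0, 1, 0, 1], [1, 0, 1, 0], [0, 1, 0, 1, 0], [1, 0, 1, 0, 1], [0, 1, 0, 1, 0, 1]]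
def wN_G2 : List (List ℕ) := [[1, 2], [0, 4], [3, 0], [2, 6], [5, 1], [4, 8], [7, 3], [6, 10], [9, 5], [8, 11], [11, 7], [10, 9]]
def wC_G2 : List ℕ := [1, 2, 2, 2, 2, 2, 1]
def wK_G2 : List ℕ := [1543, 2564, 1288, 265, 2819, 2818, 9, 8, 2562, 1539, 263, 1284]

theorem wRefl_G2 : ∀ i < chevG2.rank, ∀ r < chevG2.nroots, (tabOf chevG2).refl (chevG2.simple i) r = fastRefl wR_G2 i r := by decide +kernel

theorem wOk_G2 : (wL_G2.all fun w => w.all (fun i => decide (i < chevG2.rank)) && prefixPosF chevG2 wR_G2 w) = true := by decide +kernel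

theorem wKeys_G2 : wL_G2.map (keyF chevG2 wR_G2) = wK_G2 := by decide +kernel

theorem wNodup_G2 : nodupB wK_G2 = true := by decide +kernel

theorem T7n_G2 : (tabOf chevG2).T7n := by decide +kernel

theorem wCount_G2 : wL_G2.map (nMinusF chevG2 wR_G2) = (List.range 7).flatMap (fun k => List.replicate (wC_G2.getD k 0) k) := by decide +kernel

end Cfsg.Agent.Helper7.Chev
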