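import Mathlib
import Cfsg.Agent.Helper7.ChevWG2

set_option autoImplicit false
set_option maxRecDepth 1000000
set_option maxHeartbeats 4000000

/-! Part 0 of the closure check for the Weyl group of type G2. -/

namespace Cfsg.Agent.Helper7.Chev

open Cfsg Cfsg.Lie

theorem wClosed_G2_0 : closedChunk chevG2 wR_G2 wL_G2 wN_G2 (0 * 192) 192 = true := by decide +kernel

end Cfsg.Agent.Helper7.Chev
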