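import Mathlib
import Cfsg.Agent.Helper7.ChevWG2c0

set_option autoImplicit false
set_option maxRecDepth 1000000
set_option maxHeartbeats 4000000

/-! The certificate for the Weyl group of type G2. -/

namespace Cfsg.Agent.Helper7.Chev

open Cfsg Cfsg.Lie

theorem wClosed_G2 : closedF chevG2 wR_G2 wL_G2 wN_G2 = true := by
  apply closedF_of_chunks chevG2 wR_G2 wL_G2 wN_G2 192 1
  · intro j hj
    interval_cases j
    · exact wClosed_G2_0
  · decide +kernel

theorem wCert_G2 : WCert chevG2 wR_G2 wL_G2 wN_G2 wK_G2 :=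
  ⟨wRefl_G2, rfl, by decide +kernel, wOk_G2, wClosed_G2, wKeys_G2, wNodup_G2⟩

end Cfsg.Agent.Helper7.Chev
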