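import Mathlib
import Cfsg.Agent.Helper7.ChevRee8
import Cfsg.Agent.Helper7.ChevRee10
import Cfsg.Agent.Helper7.ChevWG2All
import Cfsg.Agent.Helper7.ChevW0All
import Cfsg.Agent.Helper7.ChevT6
import Cfsg.Agent.Helper7.ChevT9

set_option autoImplicit false
set_option linter.unusedSectionVars false
set_option linter.unusedVariables false

/-!
The fixed elements of `N` in `G₂` under the twisting automorphism: they lie in `H` or in `H n_{w₀}`.
-/

namespace Cfsg.Agent.Helper7.Chev

open Cfsg Cfsg.Lie Matrix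

set_option maxRecDepth 1000000 in
theorem ree_w_fixed_fast : ∀ w ∈ wL_G2,
    (∀ r < 12, fastG2.reflWord w (isoRho_G2 r) = isoRho_G2 (fastG2.reflWord w r)) →
      w = [] ∨ w = w0G2 := by decide +kernel

theorem ree_w_fixed : ∀ w ∈ wL_G2,
    (∀ r < 12, (tabOf chevG2).reflWord w (isoRho_G2 r) = isoRho_G2 ((tabOf chevG2).reflWord w r)) →
      w = [] ∨ w = w0G2 := tab_G2 ▸ ree_w_fixed_fast

theorem wList_G2 : WList chevG2 wL_G2 := wList_of_cert good3_G2.toGood2 wCert_G2

section G2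

variable {K : Type*} [Field K] [CharP K 3] {m : ℕ} (hm : ∀ t : K, t ^ 3 ^ (2 * m + 1) = t)

include hm in
/-- A fixed element of `N` lies in `H` or in `H n_{w₀}`. -/
theorem ree_mono_fixed {n : GL chevG2.Idx K} (hn : n ∈ chevG2.monomialSubgroup K)
    (hfix : extFun (reeTau hm) n = n) :
    n ∈ chevG2.diagonalSubgroup K ∨
      ∃ h ∈ chevG2.diagonalSubgroup K, n = h * nWordGL good3_G2.toGood2 w0G2 := by
  obtain ⟨w, hwW, h, hh, e⟩ := exists_rep (F := K) good3_G2.toGood2 T0_G2 T6_G2 T8_G2 T9_G2 wList_G2 hn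
  have hw := (wList_G2.ok w hwW).1
  rw [e] at hfix
  have hcomm : ∀ r < 12, (tabOf chevG2).reflWord w (isoRho_G2 r) =
      isoRho_G2 ((tabOf chevG2).reflWord w r) := fun r hr =>
    (reeTau_rootAut hm).reflWord_comm good3_G2.toGood2 T8_G2 hh hw hfix hr
  rcases ree_w_fixed w hwW hcomm with rfl | rfl
  · left
    rw [e, nWordGL_nil, mul_one]
    exact hh
  · right
    exact ⟨h, hh, e⟩

end G2

end Cfsg.Agent.Helper7.Chev
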