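import Mathlib
import Cfsg.Agent.Helper7.ChevRee11
import Cfsg.Agent.Helper7.ChevT5

set_option autoImplicit false
set_option linter.unusedSectionVars false
set_option linter.unusedVariables false

/-!
The twisted group of type `G₂`: the Bruhat decomposition of the fixed elements of `V`.
-/

namespace Cfsg.Agent.Helper7.Chev

open Cfsg Cfsg.Lie Matrix
open scoped Pointwise

section general

variable {D : ChevalleyDatum} {K : Type*} [Field K] (hG : Good2 D) (hT : T0 D)
  {N : ℕ} (h25 : (tabOf D).T25 N)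

include hG hT h25 in
/-- The automorphism `x_r(c) ↦ x_{-r}(-c)` maps `U` into `V`. -/
theorem nuGL_pos {g : GL D.Idx K} (hg : g ∈ D.posUnipotent K) :
    nuGL hG.toGood1 g ∈ D.negUnipotent K := by
  have hG1 := hG.toGood1
  have : (D.posUnipotent K).map (nuGL hG1 (F := K)).toMonoidHom ≤ D.negUnipotent K := by
    unfold ChevalleyDatum.posUnipotent
    rw [MonoidHom.map_closure, Subgroup.closure_le]
    rintro _ ⟨x, ⟨r, t, hr, hx⟩, rfl⟩
    apply Subgroup.subset_closure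
    refine ⟨D.neg r, -t, ?_, nuGL_x hG1 h25 hr.1 hx⟩
    rw [isNegRoot_iff hT (hG1.neg_lt hr.1)]
    exact neg_neg_of_pos hG hT hr.1 ((isPosRoot_iff hT hr.1).mp hr)
  exact this ⟨g, hg, rfl⟩

include hG hT h25 in
/-- The automorphism `x_r(c) ↦ x_{-r}(-c)` maps `V` into `U`. -/
theorem nuGL_neg {g : GL D.Idx K} (hg : g ∈ D.negUnipotent K) :
    nuGL hG.toGood1 g ∈ D.posUnipotent K := by
  have hG1 := hG.toGood1
  have : (D.negUnipotent K).map (nuGL hG1 (F := K)).toMonoidHom ≤ D.posUnipotent K := by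
    unfold ChevalleyDatum.negUnipotent
    rw [MonoidHom.map_closure, Subgroup.closure_le]
    rintro _ ⟨x, ⟨r, t, hr, hx⟩, rfl⟩
    apply Subgroup.subset_closure
    refine ⟨D.neg r, -t, ?_, nuGL_x hG1 h25 hr.1 hx⟩
    rw [isPosRoot_iff hT (hG1.neg_lt hr.1)]
    exact neg_pos_of_neg hG hT hr.1 ((isNegRoot_iff hT hr.1).mp hr)
  exact this ⟨g, hg, rfl⟩

include hG in
/-- `B = U H` elementwise. -/
theorem borel_decomp {b : GL D.Idx K} (hb : b ∈ D.borelSubgroup K) :
    ∃ u ∈ D.posUnipotent K, ∃ h ∈ D.diagonalSubgroup K, b = u * h := by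
  have hmul := Subgroup.coe_mul_of_right_le_normalizer_left (D.posUnipotent K)
    (D.diagonalSubgroup K) (diagonalSubgroup_le_normalizer_pos hG)
  have : b ∈ (D.posUnipotent K : Set (GL D.Idx K)) * (D.diagonalSubgroup K : Set (GL D.Idx K)) := by
    rw [← hmul]; exact hb
  obtain ⟨u, hu, h, hh, e⟩ := this
  exact ⟨u, hu, h, hh, e.symm⟩

end general

section rootAut

variable {D : ChevalleyDatum} {K : Type*} [Field K]
  (hG : Good2 D) (hT : T0 D) (h3 : (tabOf D).T3) (h4 : (tabOf D).T4 60) (h5 : (tabOf D).T5)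
  (h6 : (tabOf D).T6) (h8 : (tabOf D).T8) (h9 : (tabOf D).T9)
  {τ : ↥(D.group K) ≃* ↥(D.group K)} {ρ : ℕ → ℕ} {f : ℕ → K →+* K}
  (hτ : RootAut D K τ ρ f)

include hG hT h3 h4 h5 h6 h8 h9 hτ in
/-- The Bruhat decomposition `u₁ n u₂` of a fixed element of `V` other than the identity: the factors are fixed
and `n` is not in `H`. -/
theorem RootAut.bruhat_neg {v : GL D.Idx K} (hv : v ∈ D.negUnipotent K) (hfix : extFun τ v = v)
    (hv1 : v ≠ 1) :
    ∃ u₁ ∈ D.posUnipotent K, ∃ n ∈ D.monomialSubgroup K, ∃ u₂ ∈ D.posUnipotent K,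
      extFun τ u₁ = u₁ ∧ extFun τ n = n ∧ extFun τ u₂ = u₂ ∧ n ∉ D.diagonalSubgroup K ∧
        v = u₁ * n * u₂ := by
  have hG1 := hG.toGood1
  have hvG : v ∈ D.group K := by
    have : D.negUnipotent K ≤ D.group K := by
      unfold ChevalleyDatum.negUnipotent
      rw [Subgroup.closure_le]
      rintro x ⟨r, t, hr, hx⟩
      rw [eq_xGL hG1 hr.1 hx]; exact xGL_mem_group hG hr.1 t
    exact this hv
  obtain ⟨b, hb, n, hn, u₂, hu₂, e⟩ :=
    (bruhat_normal_form (F := K) hG hT h3 h4 h5 h6 h8 h9).1 v hvG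
  obtain ⟨u₁, hu₁, h, hh, rfl⟩ := borel_decomp hG hb
  have hHN : D.diagonalSubgroup K ≤ D.monomialSubgroup K := le_sup_left
  have hn' : h * n ∈ D.monomialSubgroup K := mul_mem (hHN hh) hn
  have hu₂' : u₂ ∈ Subgroup.closure (minusGen' D K (h * n)) :=
    Subgroup.closure_mono (minusGen'_diag_mul hG hh n) hu₂
  have e' : v = u₁ * (h * n) * u₂ := by rw [e]; group
  obtain ⟨f1, f2, f3⟩ := hτ.bruhat_fixed hG hT h3 h4 h5 h6 h8 h9 hu₁ hn' hu₂' e' hfix
  have hminusU : Subgroup.closure (minusGen' D K (h * n)) ≤ D.posUnipotent K := by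
    apply Subgroup.closure_mono
    rintro x ⟨r, t, hr, _, hx⟩
    exact ⟨r, t, hr, hx⟩
  refine ⟨u₁, hu₁, h * n, hn', u₂, hminusU hu₂', f1, f2, f3, ?_, e'⟩
  intro hc
  apply hv1
  have hvB : v ∈ D.borelSubgroup K := by
    rw [e']
    exact mul_mem (mul_mem (Subgroup.mem_sup_left hu₁) (Subgroup.mem_sup_right hc))
      (Subgroup.mem_sup_left (hminusU hu₂'))
  have : v ∈ D.borelSubgroup K ⊓ D.negUnipotent K := ⟨hvB, hv⟩
  rw [borel_inf_negUnipotent hG hT, Subgroup.mem_bot] at this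
  exact this

end rootAut

end Cfsg.Agent.Helper7.Chev
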