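import Mathlib
import Cfsg.Agent.Helper7.ChevCharPTab
import Cfsg.Agent.Helper7.ChevTw11
import Cfsg.Agent.Helper7.ChevRee12

set_option autoImplicit false
set_option linter.unusedSectionVars false
set_option linter.unusedVariables false

/-!
The filtration of `U` by the subgroups `U_{≥ k}`: every term is normal in `B`, `U` acts trivially on the successive
quotients and `H` acts on them by characters.  Leading terms of conjugates of root elements under `B`.
-/

namespace Cfsg.Agent.Helper7.Chev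

open Cfsg Cfsg.Lie Matrix

/-- The elements normalising `A'` and acting trivially on `A / A'`. -/
def chainStab {G : Type*} [Group G] (A A' : Subgroup G) : Subgroup G where
  carrier := {u | u ∈ Subgroup.normalizer (A' : Set G) ∧ ∀ g ∈ A, u * g * u⁻¹ * g⁻¹ ∈ A'}
  mul_mem' := by
    rintro u v ⟨hu, hu'⟩ ⟨hv, hv'⟩
    refine ⟨mul_mem hu hv, fun g hg => ?_⟩
    have h1 : u * (v * g * v⁻¹ * g⁻¹) * u⁻¹ ∈ A' :=
      (Subgroup.mem_normalizer_iff.mp hu _).mp (hv' g hg)
    have h2 := mul_mem h1 (hu' g hg)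
    have e : u * (v * g * v⁻¹ * g⁻¹) * u⁻¹ * (u * g * u⁻¹ * g⁻¹) = u * v * g * (u * v)⁻¹ * g⁻¹ := by
      group
    rwa [e] at h2
  one_mem' := by
    refine ⟨one_mem _, fun g hg => ?_⟩
    have e : (1 : G) * g * 1⁻¹ * g⁻¹ = 1 := by group
    rw [e]; exact one_mem _
  inv_mem' := by
    rintro u ⟨hu, hu'⟩
    refine ⟨inv_mem hu, fun g hg => ?_⟩
    have h1 : (u * g * u⁻¹ * g⁻¹)⁻¹ ∈ A' := inv_mem (hu' g hg)
    have h2 : u⁻¹ * (u * g * u⁻¹ * g⁻¹)⁻¹ * u⁻¹⁻¹ ∈ A' :=
      (Subgroup.mem_normalizer_iff.mp (inv_mem hu) _).mp h1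
    have e : u⁻¹ * (u * g * u⁻¹ * g⁻¹)⁻¹ * u⁻¹⁻¹ = u⁻¹ * g * u⁻¹⁻¹ * g⁻¹ := by group
    rwa [e] at h2

theorem mem_chainStab {G : Type*} [Group G] {A A' : Subgroup G} {u : G} :
    u ∈ chainStab A A' ↔
      u ∈ Subgroup.normalizer (A' : Set G) ∧ ∀ g ∈ A, u * g * u⁻¹ * g⁻¹ ∈ A' := Iff.rfl

variable {D : ChevalleyDatum} {F : Type*} [Field F]

section filt

variable (hG : Good2 D) (hT : T0 D) (h3 : (tabOf D).T3) (h4 : (tabOf D).T4 60) (h26 : (tabOf D).T26)

include hG hT h3 h4 h26 in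
/-- Conjugating a root element of a positive root `s` by one of a positive root `k`. -/
theorem xGL_conj_xGL {k s : ℕ} (hk1 : D.nroots / 2 ≤ k) (hk : k < D.nroots) (hs1 : D.nroots / 2 ≤ s)
    (hs : s < D.nroots) (t u : F) :
    ∃ c ∈ Uge D F (s + 1), (xGL hG.toGood1 hk t)⁻¹ * xGL hG.toGood1 hs u * xGL hG.toGood1 hk t =
      xGL hG.toGood1 hs u * c := by
  have hG1 := hG.toGood1
  by_cases hsk : s = k
  · subst hsk
    refine ⟨1, one_mem _, ?_⟩
    rw [mul_one, xGL_inv, xGL_mul, xGL_mul]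
    congr 1
    ring
  · have hsn : s ≠ D.neg k := by
      intro h
      have hkpos : D.IsPosRoot k := (isPosRoot_iff hT hk).mpr hk1
      have := ((hT k hk).2.1 hkpos).2
      omega
    have hc := comm_all (F := F) hG h3 h4 hk hs hsk hsn t u
    have hterms := h26 k hk hk1 s hs hs1
    have hw : ∀ q ∈ D.commWord F k s t u, s + 1 ≤ q.1 ∧ q.1 < D.nroots := by
      intro q hq
      unfold ChevalleyDatum.commWord at hq
      rw [List.mem_map] at hq
      obtain ⟨c, hc', rfl⟩ := hq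
      rw [List.all_eq_true] at hterms
      rw [← commTerms_eq] at hc'
      have := of_decide_eq_true (hterms c hc')
      exact ⟨this.2.1, this.2.2⟩
    refine ⟨((D.commWord F k s t u).map (xGL' hG1)).prod, ?_, ?_⟩
    · apply Subgroup.list_prod_mem
      intro y hy
      rw [List.mem_map] at hy
      obtain ⟨q, hq, rfl⟩ := hy
      obtain ⟨q1, q2⟩ := hw q hq
      exact Subgroup.subset_closure ⟨q.1, q.2, q1, q2, xGL'_coe hG1 q⟩
    · rw [mul_assoc, inv_mul_eq_iff_eq_mul]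
      apply Units.ext
      rw [Units.val_mul, Units.val_mul, Units.val_mul, xGL_coe, xGL_coe, wordGL_coe, hc, mul_assoc]

include hG hT h3 h4 h26 in
/-- A positive root element normalises every term of the filtration. -/
theorem xGL_mem_normalizer_Uge_all {k m : ℕ} (hk1 : D.nroots / 2 ≤ k) (hk : k < D.nroots)
    (hm : D.nroots / 2 ≤ m) (t : F) :
    xGL hG.toGood1 hk t ∈ Subgroup.normalizer (Uge D F m : Set (GL D.Idx F)) := by
  have hG1 := hG.toGood1
  have key : ∀ (t : F) (x : GL D.Idx F), x ∈ geGen D F m →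
      (xGL hG1 hk t)⁻¹ * x * xGL hG1 hk t ∈ Uge D F m := by
    rintro t x ⟨s, u, hms, hs, hx⟩
    rw [eq_xGL hG1 hs hx]
    obtain ⟨c, hc, e⟩ := xGL_conj_xGL hG hT h3 h4 h26 hk1 hk (by omega) hs t u
    rw [e]
    apply mul_mem
    · exact Subgroup.subset_closure ⟨s, u, hms, hs, xGL_coe hG1 hs u⟩
    · exact Uge_anti (by omega) hc
  unfold Uge
  apply mem_normalizer_closure
  · intro x hx
    have := key (-t) x hx
    rwa [← xGL_inv, inv_inv] at this
  · intro x hx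
    exact key t x hx

include hG hT h3 h4 h26 in
/-- Each term of the filtration normalises the later ones. -/
theorem Uge_le_normalizer_Uge {m m' : ℕ} (hm : D.nroots / 2 ≤ m) (hm' : D.nroots / 2 ≤ m') :
    Uge D F m ≤ Subgroup.normalizer (Uge D F m' : Set (GL D.Idx F)) := by
  have hG1 := hG.toGood1
  unfold Uge
  rw [Subgroup.closure_le]
  rintro x ⟨s, u, hms, hs, hx⟩
  rw [eq_xGL hG1 hs hx]
  exact xGL_mem_normalizer_Uge_all hG hT h3 h4 h26 (by omega) hs hm' u

include hG hT h3 h4 h26 in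
/-- A positive root element acts trivially on the successive quotients of the filtration. -/
theorem xGL_mem_chainStab {k m : ℕ} (hk1 : D.nroots / 2 ≤ k) (hk : k < D.nroots)
    (hm : D.nroots / 2 ≤ m) (t : F) :
    xGL hG.toGood1 hk t ∈ chainStab (Uge D F m) (Uge D F (m + 1)) := by
  have hG1 := hG.toGood1
  have hnorm : ∀ t : F, xGL hG1 hk t ∈ Subgroup.normalizer (Uge D F (m + 1) : Set (GL D.Idx F)) :=
    fun t => xGL_mem_normalizer_Uge_all hG hT h3 h4 h26 hk1 hk (by omega) t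
  have hAn : Uge D F m ≤ Subgroup.normalizer (Uge D F (m + 1) : Set (GL D.Idx F)) :=
    Uge_le_normalizer_Uge hG hT h3 h4 h26 hm (by omega)
  -- it is enough to treat the inverse
  suffices h : ∀ t : F, ∀ g ∈ Uge D F m,
      (xGL hG1 hk t)⁻¹ * g * xGL hG1 hk t * g⁻¹ ∈ Uge D F (m + 1) by
    refine ⟨hnorm t, fun g hg => ?_⟩
    have := h (-t) g hg
    rwa [← xGL_inv, inv_inv] at this
  intro t g hg
  set x := xGL hG1 hk t with hx
  induction hg using Subgroup.closure_induction with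
  | mem y hy =>
    obtain ⟨s, u, hms, hs, hy'⟩ := hy
    rw [eq_xGL hG1 hs hy']
    obtain ⟨c, hc, e⟩ := xGL_conj_xGL hG hT h3 h4 h26 hk1 hk (by omega) hs t u
    rw [← hx] at e
    rw [e]
    have hsn : xGL hG1 hs u ∈ Subgroup.normalizer (Uge D F (m + 1) : Set (GL D.Idx F)) :=
      xGL_mem_normalizer_Uge_all hG hT h3 h4 h26 (by omega) hs (by omega) u
    have hc' : c ∈ Uge D F (m + 1) := Uge_anti (by omega) hc
    exact (Subgroup.mem_normalizer_iff.mp hsn c).mp hc'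
  | one =>
    have e : x⁻¹ * 1 * x * (1 : GL D.Idx F)⁻¹ = 1 := by group
    rw [e]; exact one_mem _
  | mul a b ha hb iha ihb =>
    have han : a ∈ Subgroup.normalizer (Uge D F (m + 1) : Set (GL D.Idx F)) := hAn ha
    have h1 : a * (x⁻¹ * b * x * b⁻¹) * a⁻¹ ∈ Uge D F (m + 1) :=
      (Subgroup.mem_normalizer_iff.mp han _).mp ihb
    have h2 := mul_mem iha h1
    have e : x⁻¹ * a * x * a⁻¹ * (a * (x⁻¹ * b * x * b⁻¹) * a⁻¹) = x⁻¹ * (a * b) * x * (a * b)⁻¹ := by
      group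
    rwa [e] at h2
  | inv a ha iha =>
    have han : a⁻¹ ∈ Subgroup.normalizer (Uge D F (m + 1) : Set (GL D.Idx F)) := hAn (inv_mem ha)
    have h1 : a⁻¹ * (x⁻¹ * a * x * a⁻¹)⁻¹ * a⁻¹⁻¹ ∈ Uge D F (m + 1) :=
      (Subgroup.mem_normalizer_iff.mp han _).mp (inv_mem iha)
    have e : a⁻¹ * (x⁻¹ * a * x * a⁻¹)⁻¹ * a⁻¹⁻¹ = x⁻¹ * a⁻¹ * x * a⁻¹⁻¹ := by group
    rwa [e] at h1

include hG hT h3 h4 h26 in
/-- `U` acts trivially on the successive quotients of the filtration. -/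
theorem posUnipotent_le_chainStab {m : ℕ} (hm : D.nroots / 2 ≤ m) :
    D.posUnipotent F ≤ chainStab (Uge D F m) (Uge D F (m + 1)) := by
  have hG1 := hG.toGood1
  unfold ChevalleyDatum.posUnipotent
  rw [Subgroup.closure_le]
  rintro x ⟨k, t, hkpos, hx⟩
  have hk := hkpos.1
  rw [eq_xGL hG1 hk hx]
  exact xGL_mem_chainStab hG hT h3 h4 h26 ((isPosRoot_iff hT hk).mp hkpos) hk hm t

include hG in
/-- `H` normalises every term of the filtration. -/
theorem diagonalSubgroup_le_normalizer_Uge (m : ℕ) :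
    D.diagonalSubgroup F ≤ Subgroup.normalizer (Uge D F m : Set (GL D.Idx F)) := by
  have h := diagonalSubgroup_le_normalizer (F := F) hG (P := fun r => m ≤ r ∧ r < D.nroots)
    (fun r h => h.2)
  have e : Uge D F m = Subgroup.closure (rootGen D F (fun r => m ≤ r ∧ r < D.nroots)) := by
    unfold Uge
    congr 1
    ext g
    constructor
    · rintro ⟨r, t, h1, h2, hg⟩
      exact ⟨r, t, ⟨h1, h2⟩, hg⟩
    · rintro ⟨r, t, ⟨h1, h2⟩, hg⟩
      exact ⟨r, t, h1, h2, hg⟩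
  rw [e]
  exact h

include hG hT h3 h4 h26 in
/-- The leading term of the conjugate of a positive root element by an element of `B`. -/
theorem borel_conj_xGL {b : GL D.Idx F} (hb : b ∈ D.borelSubgroup F) {r : ℕ}
    (hr1 : D.nroots / 2 ≤ r) (hr : r < D.nroots) :
    ∃ χ : F, χ ≠ 0 ∧ ∀ a : F, ∃ g' ∈ Uge D F (r + 1),
      b * xGL hG.toGood1 hr a * b⁻¹ = xGL hG.toGood1 hr (χ * a) * g' := by
  have hG1 := hG.toGood1
  obtain ⟨u, hu, h, hh, rfl⟩ := borel_decomp hG hb
  obtain ⟨χ, hχ, hlin⟩ := diagonal_conj_xGL_lin hG hh hr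
  refine ⟨χ, hχ, fun a => ?_⟩
  set x := xGL hG1 hr (χ * a) with hx
  have hxU : x ∈ Uge D F r := Subgroup.subset_closure ⟨r, χ * a, le_refl _, hr, xGL_coe hG1 hr _⟩
  have hst := posUnipotent_le_chainStab (F := F) hG hT h3 h4 h26 hr1 hu
  have hc : u * x * u⁻¹ * x⁻¹ ∈ Uge D F (r + 1) := hst.2 x hxU
  have hxn : x⁻¹ ∈ Subgroup.normalizer (Uge D F (r + 1) : Set (GL D.Idx F)) := by
    apply inv_mem
    exact xGL_mem_normalizer_Uge_all hG hT h3 h4 h26 hr1 hr (by omega) _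
  refine ⟨x⁻¹ * (u * x * u⁻¹ * x⁻¹) * x⁻¹⁻¹, (Subgroup.mem_normalizer_iff.mp hxn _).mp hc, ?_⟩
  have e : u * h * xGL hG1 hr a * (u * h)⁻¹ = u * (h * xGL hG1 hr a * h⁻¹) * u⁻¹ := by group
  rw [e, hlin a, ← hx]
  group

end filt

section lead

variable (hG : Good2 D) (hT : T0 D) (h8 : (tabOf D).T8)

include hG hT h8 in
/-- Comparison of leading terms at the same root. -/
theorem lead_eq {r : ℕ} (hr1 : D.nroots / 2 ≤ r) (hr : r < D.nroots) {a b : F} {g' : GL D.Idx F}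
    (hg' : g' ∈ Uge D F (r + 1)) (h : xGL hG.toGood1 hr a = xGL hG.toGood1 hr b * g') : a = b := by
  have hG1 := hG.toGood1
  have e : xGL hG1 hr (a - b) = g' := by
    rw [sub_eq_add_neg, add_comm, ← xGL_mul, ← xGL_inv, h, ← mul_assoc, inv_mul_cancel, one_mul]
  have := eq_zero_of_xGL_mem_Uge hG hT h8 hr1 hr (e ▸ hg')
  exact sub_eq_zero.mp this

include hG hT h8 in
/-- Comparison of leading terms at different roots. -/
theorem lead_ne {r r' : ℕ} (hr1 : D.nroots / 2 ≤ r) (hr : r < D.nroots) (hr1' : D.nroots / 2 ≤ r')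
    (hr' : r' < D.nroots) (hne : r' ≠ r) {a b : F} (hb : b ≠ 0) {g' : GL D.Idx F}
    (hg' : g' ∈ Uge D F (r + 1)) (h : xGL hG.toGood1 hr' a = xGL hG.toGood1 hr b * g') : a = 0 := by
  have hG1 := hG.toGood1
  rcases Nat.lt_or_gt_of_ne hne with hlt | hgt
  · -- `r' < r`
    apply eq_zero_of_xGL_mem_Uge hG hT h8 hr1' hr'
    rw [h]
    apply mul_mem
    · exact Subgroup.subset_closure ⟨r, b, by omega, hr, xGL_coe hG1 hr b⟩
    · exact Uge_anti (by omega) hg'
  · -- `r < r'`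
    exfalso
    apply hb
    apply eq_zero_of_xGL_mem_Uge hG hT h8 hr1 hr
    have e : xGL hG1 hr b = xGL hG1 hr' a * g'⁻¹ := by rw [h, mul_assoc, mul_inv_cancel, mul_one]
    rw [e]
    apply mul_mem
    · exact Subgroup.subset_closure ⟨r', a, by omega, hr', xGL_coe hG1 hr' a⟩
    · exact inv_mem hg'

end lead

end Cfsg.Agent.Helper7.Chev
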