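import Mathlib
import Cfsg.Agent.Helper7.ChevTorus

set_option autoImplicit false
set_option linter.unusedSectionVars false
set_option linter.unusedVariables false

/-!
The order of the diagonal subgroup `H` of a Chevalley group over a finite field: `H` is the image of the
torus `(Fˣ)^l` under `c ↦ h_{p_1}(c_1) ⋯ h_{p_l}(c_l)`, and the kernel is the kernel of the Cartan matrix acting
on `(Fˣ)^l`, which is computed from a Smith normal form.
-/

namespace Cfsg.Agent.Helper7.Chev

open Cfsg Cfsg.Lie Matrix

/-! ### Integer matrices acting on tuples of elements of a commutative group -/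

section zact

variable {G : Type*} [CommGroup G] {l m n : ℕ}

/-- The action of an integer matrix on tuples: `(c_i) ↦ (∏_i c_i ^ M i j)_j`. -/
def zact (M : Matrix (Fin l) (Fin m) ℤ) : (Fin l → G) →* (Fin m → G) where
  toFun c j := ∏ i, c i ^ M i j
  map_one' := by funext j; simp
  map_mul' a b := by funext j; simp [mul_zpow, Finset.prod_mul_distrib]

theorem zact_apply (M : Matrix (Fin l) (Fin m) ℤ) (c : Fin l → G) (j : Fin m) :
    zact M c j = ∏ i, c i ^ M i j := rfl

theorem zpow_finset_sum' {ι : Type*} (g : G) (s : Finset ι) (f : ι → ℤ) :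
    g ^ (∑ j ∈ s, f j) = ∏ j ∈ s, g ^ f j := by
  classical
  induction s using Finset.induction_on with
  | empty => simp
  | insert a s ha ih => rw [Finset.sum_insert ha, Finset.prod_insert ha, _root_.zpow_add, ih]

theorem zact_mul (M : Matrix (Fin l) (Fin m) ℤ) (N : Matrix (Fin m) (Fin n) ℤ) (c : Fin l → G) :
    zact (M * N) c = zact N (zact M c) := by
  funext k
  simp only [zact_apply, Matrix.mul_apply]
  have : ∀ i, c i ^ (∑ j, M i j * N j k) = ∏ j, (c i ^ M i j) ^ N j k := by
    intro i
    rw [zpow_finset_sum']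
    exact Finset.prod_congr rfl (fun j _ => zpow_mul _ _ _)
  simp only [this]
  rw [Finset.prod_comm]
  exact Finset.prod_congr rfl (fun j _ => Finset.prod_zpow _ _ _)

theorem zact_one (c : Fin l → G) : zact (1 : Matrix (Fin l) (Fin l) ℤ) c = c := by
  funext j
  rw [zact_apply, Finset.prod_eq_single j]
  · simp
  · intro i _ hij; simp [Matrix.one_apply_ne hij]
  · intro h; exact absurd (Finset.mem_univ _) h

theorem zact_diagonal (d : Fin l → ℤ) (c : Fin l → G) (j : Fin l) :
    zact (Matrix.diagonal d) c j = c j ^ d j := by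
  rw [zact_apply, Finset.prod_eq_single j]
  · simp
  · intro i _ hij; simp [Matrix.diagonal_apply_ne _ hij]
  · intro h; exact absurd (Finset.mem_univ _) h

theorem zact_injective_of_mul_eq_one {Q Q' : Matrix (Fin l) (Fin l) ℤ} (h : Q * Q' = 1) :
    Function.Injective (zact Q : (Fin l → G) →* (Fin l → G)) := by
  intro a b hab
  have := congrArg (zact Q') hab
  rwa [← zact_mul, ← zact_mul, h, zact_one, zact_one] at this

/-- The number of solutions of `g ^ k = 1` in a finite cyclic group. -/
theorem card_pow_eq_one_subtype [Finite G] [IsCyclic G] (k : ℕ) :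
    Nat.card {g : G // g ^ k = 1} = (Nat.card G).gcd k := by
  rw [← IsCyclic.card_powMonoidHom_ker G k]
  exact Nat.card_congr (Equiv.subtypeEquivRight (fun g => by
    rw [MonoidHom.mem_ker, powMonoidHom_apply]))

/-- The kernel of an integer matrix with a given Smith normal form acting on tuples of elements of a finite
cyclic group. -/
theorem card_ker_zact [Finite G] [IsCyclic G] {C P Q P' Q' : Matrix (Fin l) (Fin l) ℤ} {d : Fin l → ℕ}
    (h : P * C * Q = Matrix.diagonal (fun i => (d i : ℤ))) (hP : P * P' = 1) (hQ : Q * Q' = 1) :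
    Nat.card {c : Fin l → G // zact C c = 1} = ∏ i, (Nat.card G).gcd (d i) := by
  have hP' : P' * P = 1 := mul_eq_one_comm.mp hP
  -- the change of variables
  let E : (Fin l → G) ≃ (Fin l → G) :=
    { toFun := zact P'
      invFun := zact P
      left_inv := fun c => by rw [← zact_mul, hP', zact_one]
      right_inv := fun c => by rw [← zact_mul, hP, zact_one] }
  have key : ∀ c : Fin l → G, zact C c = 1 ↔ ∀ i, (E c) i ^ d i = 1 := by
    intro c
    have e1 : zact (Matrix.diagonal (fun i => (d i : ℤ))) (E c) = zact Q (zact C c) := by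
      change zact (Matrix.diagonal (fun i => (d i : ℤ))) (zact P' c) = _
      rw [← zact_mul, ← h, ← zact_mul]
      congr 1
      rw [← Matrix.mul_assoc, ← Matrix.mul_assoc, hP', Matrix.one_mul]
    constructor
    · intro hc i
      have := congrFun e1 i
      rw [zact_diagonal, hc, map_one] at this
      simpa using this
    · intro hc
      apply zact_injective_of_mul_eq_one hQ
      rw [map_one, ← e1]
      funext i
      rw [zact_diagonal]
      simpa using hc i
  have e1 : {c : Fin l → G // zact C c = 1} ≃ {c : Fin l → G // ∀ i, c i ^ d i = 1} :=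
    Equiv.subtypeEquiv E key
  rw [Nat.card_congr e1,
    Nat.card_congr (Equiv.subtypePiEquivPi (p := fun i (g : G) => g ^ d i = 1)), Nat.card_pi]
  exact Finset.prod_congr rfl (fun i _ => card_pow_eq_one_subtype (d i))

end zact

/-! ### Matrices given by functions on the natural numbers -/

section toM

/-- The matrix of a function on pairs of natural numbers. -/
def toM (l m : ℕ) (f : ℕ → ℕ → ℤ) : Matrix (Fin l) (Fin m) ℤ := Matrix.of fun i j => f i.val j.val

/-- The product of two such functions, as matrices with `m` inner indices. -/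
def mulT (m : ℕ) (f g : ℕ → ℕ → ℤ) : ℕ → ℕ → ℤ :=
  fun i k => ((List.range m).map fun j => f i j * g j k).sum

theorem toM_mul (l m n : ℕ) (f g : ℕ → ℕ → ℤ) : toM l m f * toM m n g = toM l n (mulT m f g) := by
  ext i k
  rw [Matrix.mul_apply]
  simp only [toM, Matrix.of_apply, mulT]
  rw [list_range_sum_eq]
  exact (Finset.sum_range (fun j => f i.val j * g j k.val)).symm

theorem toM_congr {l m : ℕ} {f g : ℕ → ℕ → ℤ} (h : ∀ i < l, ∀ j < m, f i j = g i j) :
    toM l m f = toM l m g := by
  ext i j
  exact h i i.2 j j.2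

theorem toM_one {l : ℕ} {f : ℕ → ℕ → ℤ} (h : ∀ i < l, ∀ j < l, f i j = if i = j then 1 else 0) :
    toM l l f = 1 := by
  ext i j
  simp only [toM, Matrix.of_apply, h i i.2 j j.2, Matrix.one_apply, Fin.ext_iff]

theorem toM_diagonal {l : ℕ} {f : ℕ → ℕ → ℤ} {d : ℕ → ℕ}
    (h : ∀ i < l, ∀ j < l, f i j = if i = j then (d i : ℤ) else 0) :
    toM l l f = Matrix.diagonal (fun i : Fin l => (d i.val : ℤ)) := by
  ext i j
  simp only [toM, Matrix.of_apply, h i i.2 j j.2, Matrix.diagonal_apply, Fin.ext_iff]

theorem list_range_prod_eq {M : Type*} [CommMonoid M] (n : ℕ) (f : ℕ → M) :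
    ((List.range n).map f).prod = ∏ i : Fin n, f i.val := by
  rw [← Finset.prod_range (fun i => f i)]
  induction n with
  | zero => simp
  | succ n ih => rw [List.range_succ, List.map_append, List.prod_append, ih, Finset.prod_range_succ]; simp

theorem ofFn_eq_map_range {α : Type*} (n : ℕ) (g : ℕ → α) :
    List.ofFn (fun i : Fin n => g i.val) = (List.range n).map g := by
  apply List.ext_getElem
  · simp
  · intro i h1 h2; simp

end toM

/-! ### The torus -/

section torusHom

variable {D : ChevalleyDatum} {F : Type*} [Field F]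

/-- Extend a tuple of units to a function on the natural numbers. -/
def extc (l : ℕ) (c : Fin l → Fˣ) : ℕ → F := fun i => if h : i < l then ((c ⟨i, h⟩ : Fˣ) : F) else 1

theorem extc_val {l : ℕ} (c : Fin l → Fˣ) (i : Fin l) : extc l c i.val = (c i : F) := by
  unfold extc
  rw [dif_pos i.2]

theorem extc_ne_zero {l : ℕ} (c : Fin l → Fˣ) (i : ℕ) : extc l c i ≠ 0 := by
  unfold extc
  split_ifs
  · exact Units.ne_zero _
  · exact one_ne_zero

theorem tMat_congr {c c' : ℕ → F} (h : ∀ i < D.rank, c i = c' i) : tMat D c = tMat D c' := by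
  unfold tMat
  congr 1
  funext v
  rcases v with j | s
  · rfl
  · simp only [tEntry, Sum.elim_inr]
    congr 1
    apply List.map_congr_left
    intro i hi
    rw [h i (List.mem_range.mp hi)]

theorem tMat_extc_mul (c c' : Fin D.rank → Fˣ) :
    tMat D (extc D.rank c) * tMat D (extc D.rank c') = tMat D (extc D.rank (c * c')) := by
  rw [tMat_mul]
  apply tMat_congr
  intro i hi
  simp only [extc, dif_pos hi, Pi.mul_apply, Units.val_mul]

theorem tMat_extc_one : tMat D (extc D.rank (1 : Fin D.rank → Fˣ)) = 1 := by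
  rw [← tMat_one (D := D) (F := F)]
  apply tMat_congr
  intro i hi
  simp only [extc, dif_pos hi, Pi.one_apply, Units.val_one]

/-- The torus element with parameters `c` as an invertible matrix. -/
noncomputable def tGL (c : Fin D.rank → Fˣ) : GL D.Idx F :=
  ⟨tMat D (extc D.rank c), tMat D (extc D.rank c⁻¹),
    by rw [tMat_extc_mul, mul_inv_cancel, tMat_extc_one],
    by rw [tMat_extc_mul, inv_mul_cancel, tMat_extc_one]⟩

theorem tGL_coe (c : Fin D.rank → Fˣ) :
    ((tGL c : GL D.Idx F) : Matrix D.Idx D.Idx F) = tMat D (extc D.rank c) := rfl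

/-- The torus `(Fˣ)^l → GL`. -/
noncomputable def torusHom (D : ChevalleyDatum) (F : Type*) [Field F] : (Fin D.rank → Fˣ) →* GL D.Idx F :=
  MonoidHom.mk' tGL (fun a b => Units.ext (by rw [Units.val_mul, tGL_coe, tGL_coe, tGL_coe, tMat_extc_mul]))

theorem torusHom_apply (c : Fin D.rank → Fˣ) : torusHom D F c = tGL c := rfl

/-- The matrix of Cartan integers `A_{p_i, s}`. -/
def cartanM (D : ChevalleyDatum) : Matrix (Fin D.rank) (Fin D.nroots) ℤ := toM D.rank D.nroots D.cartan

theorem tEntry_extc (c : Fin D.rank → Fˣ) (s : Fin D.nroots) :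
    tEntry D (List.range D.rank) (extc D.rank c) (Sum.inr s) = ((zact (cartanM D) c s : Fˣ) : F) := by
  simp only [tEntry, Sum.elim_inr]
  rw [list_range_prod_eq, zact_apply, Units.coe_prod]
  apply Finset.prod_congr rfl
  intro i _
  rw [extc_val, Units.val_zpow_eq_zpow_val]
  rfl

theorem torusHom_ker (c : Fin D.rank → Fˣ) : torusHom D F c = 1 ↔ zact (cartanM D) c = 1 := by
  rw [torusHom_apply, Units.ext_iff, tGL_coe, Units.val_one]
  unfold tMat
  rw [← Matrix.diagonal_one, Matrix.diagonal_injective.eq_iff]
  constructor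
  · intro h
    funext s
    have := congrFun h (Sum.inr s)
    rw [tEntry_extc] at this
    exact Units.ext this
  · intro h
    funext v
    rcases v with j | s
    · rfl
    · rw [tEntry_extc, h]; rfl

section range

variable (hG : Good1 D)

include hG in
theorem tGL_mem (c : Fin D.rank → Fˣ) : (tGL c : GL D.Idx F) ∈ D.diagonalSubgroup F := by
  set L : List (GL D.Idx F) :=
    List.ofFn (fun i : Fin D.rank => hGL hG (hG.simple_lt i.2) (c i : F) (Units.ne_zero _)) with hL
  have hmem : L.prod ∈ D.diagonalSubgroup F := by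
    apply Subgroup.list_prod_mem
    intro g hg
    rw [hL, List.mem_ofFn] at hg
    obtain ⟨i, rfl⟩ := hg
    exact Subgroup.subset_closure ⟨_, _, hG.simple_lt i.2, Units.ne_zero _, hGL_coe hG _ _ _⟩
  have : tGL c = L.prod := by
    apply Units.ext
    rw [tGL_coe, ← Units.coeHom_apply, map_list_prod, hL, List.map_ofFn]
    have e : (⇑(Units.coeHom (Matrix D.Idx D.Idx F)) ∘ fun i : Fin D.rank =>
        hGL hG (hG.simple_lt i.2) (c i : F) (Units.ne_zero _)) =
        fun i : Fin D.rank => (fun k : ℕ => D.hMat F (D.simple k) (extc D.rank c k)) i.val := by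
      funext i
      simp only [Function.comp_apply, Units.coeHom_apply, hGL_coe, extc_val]
    rw [e, ofFn_eq_map_range D.rank (fun k : ℕ => D.hMat F (D.simple k) (extc D.rank c k)),
      prod_hMat_simple hG _ (fun i hi => List.mem_range.mp hi) _
      (fun i _ => extc_ne_zero c i)]
    rfl
  rw [this]
  exact hmem

include hG in
theorem torusHom_range : (torusHom D F).range = D.diagonalSubgroup F := by
  apply le_antisymm
  · rintro _ ⟨c, rfl⟩
    exact tGL_mem hG c
  · intro g hg
    obtain ⟨c, hc, h⟩ := diagonalSubgroup_torus hG hg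
    refine ⟨fun i => Units.mk0 (c i.val) (hc i.val i.2), ?_⟩
    apply Units.ext
    rw [torusHom_apply, tGL_coe, h]
    apply tMat_congr
    intro i hi
    simp only [extc, dif_pos hi, Units.val_mk0]

end range

/-- The table facts for the order of `H`: root coordinates `R`, and a Smith normal form `P C Q = diag d` of the
Cartan matrix with the inverses of `P` and `Q`. -/
structure T17 (D : ChevalleyDatum) (R P Q P' Q' : ℕ → ℕ → ℤ) (d : ℕ → ℕ) : Prop where
  root : ∀ i < D.rank, ∀ s < D.nroots,
    mulT D.rank (fun a b => D.cartan a (D.simple b)) R i s = D.cartan i s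
  smith : ∀ i < D.rank, ∀ k < D.rank,
    mulT D.rank (mulT D.rank P (fun a b => D.cartan a (D.simple b))) Q i k =
      if i = k then (d i : ℤ) else 0
  invP : ∀ i < D.rank, ∀ k < D.rank, mulT D.rank P P' i k = if i = k then 1 else 0
  invQ : ∀ i < D.rank, ∀ k < D.rank, mulT D.rank Q Q' i k = if i = k then 1 else 0

instance (D : ChevalleyDatum) (R P Q P' Q' : ℕ → ℕ → ℤ) (d : ℕ → ℕ) : Decidable (T17 D R P Q P' Q' d) :=
  decidable_of_iff
    ((∀ i < D.rank, ∀ s < D.nroots,
        mulT D.rank (fun a b => D.cartan a (D.simple b)) R i s = D.cartan i s) ∧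
      (∀ i < D.rank, ∀ k < D.rank,
        mulT D.rank (mulT D.rank P (fun a b => D.cartan a (D.simple b))) Q i k =
          if i = k then (d i : ℤ) else 0) ∧
      (∀ i < D.rank, ∀ k < D.rank, mulT D.rank P P' i k = if i = k then 1 else 0) ∧
      (∀ i < D.rank, ∀ k < D.rank, mulT D.rank Q Q' i k = if i = k then 1 else 0))
    ⟨fun h => ⟨h.1, h.2.1, h.2.2.1, h.2.2.2⟩, fun h => ⟨h.1, h.2, h.3, h.4⟩⟩

section card

variable (hG : Good1 D) {R P Q P' Q' : ℕ → ℕ → ℤ} {d : ℕ → ℕ} (h17 : T17 D R P Q P' Q' d)

/-- The Cartan matrix. -/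
def cartanC (D : ChevalleyDatum) : Matrix (Fin D.rank) (Fin D.rank) ℤ :=
  toM D.rank D.rank (fun a b => D.cartan a (D.simple b))

include hG h17 in
theorem zact_cartanM_iff {G : Type*} [CommGroup G] (c : Fin D.rank → G) :
    zact (cartanM D) c = 1 ↔ zact (cartanC D) c = 1 := by
  constructor
  · intro h
    funext j
    have := congrFun h ⟨D.simple j.val, hG.simple_lt j.2⟩
    rw [zact_apply] at this ⊢
    exact this
  · intro h
    have e : cartanM D = cartanC D * toM D.rank D.nroots R := by
      unfold cartanM cartanC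
      rw [toM_mul]
      exact toM_congr (fun i hi s hs => (h17.root i hi s hs).symm)
    rw [e, zact_mul, h, map_one]

include hG h17 in
theorem card_diagonal_mul [Fintype F] :
    ((List.range D.rank).map fun i => (Fintype.card F - 1).gcd (d i)).prod *
      Nat.card (D.diagonalSubgroup F) = (Fintype.card F - 1) ^ D.rank := by
  classical
  have hcard : Nat.card Fˣ = Fintype.card F - 1 := by
    rw [Nat.card_units, Nat.card_eq_fintype_card]
  have h1 : Nat.card (torusHom D F).ker * Nat.card (D.diagonalSubgroup F) =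
      (Fintype.card F - 1) ^ D.rank := by
    rw [← torusHom_range hG, ← Subgroup.index_ker, Subgroup.card_mul_index, Nat.card_fun,
      Nat.card_fin, hcard]
  have h2 : Nat.card (torusHom D F).ker = Nat.card {c : Fin D.rank → Fˣ // zact (cartanC D) c = 1} := by
    apply Nat.card_congr
    apply Equiv.subtypeEquivRight
    intro c
    rw [MonoidHom.mem_ker, torusHom_ker, zact_cartanM_iff hG h17]
  have hS : toM D.rank D.rank P * cartanC D * toM D.rank D.rank Q =
      Matrix.diagonal (fun i : Fin D.rank => (d i.val : ℤ)) := by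
    unfold cartanC
    rw [toM_mul, toM_mul]
    exact toM_diagonal h17.smith
  have hP : toM D.rank D.rank P * toM D.rank D.rank P' = 1 := by
    rw [toM_mul]; exact toM_one h17.invP
  have hQ : toM D.rank D.rank Q * toM D.rank D.rank Q' = 1 := by
    rw [toM_mul]; exact toM_one h17.invQ
  rw [← h1, h2, card_ker_zact hS hP hQ, hcard, list_range_prod_eq]

end card

end torusHom

end Cfsg.Agent.Helper7.Chev
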