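import Mathlib
import Cfsg.Agent.Helper7.ChevCount

set_option autoImplicit false
set_option linter.unusedSectionVars false
set_option linter.unusedVariables false

/-!
The Poincaré series of the Weyl group of a Chevalley datum, computed along a chain of parabolic subgroups from
lists of coset representatives, and the resulting order formula.
-/

namespace Cfsg.Agent.Helper7.Chev

open Cfsg Cfsg.Lie Matrix

variable {D : ChevalleyDatum}

/-- The number of positive roots made negative by the word, as the cardinality of a finite set. -/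
def negSet (D : ChevalleyDatum) (w : List ℕ) : Finset ℕ :=
  (Finset.range D.nroots).filter fun r => D.nroots / 2 ≤ r ∧ (tabOf D).reflWord w r < D.nroots / 2

theorem nMinus_eq_card (w : List ℕ) : nMinus D w = (negSet D w).card := by
  have hle : D.nroots / 2 ≤ D.nroots := Nat.div_le_self _ _
  unfold nMinus negSet
  set L := (List.range' (D.nroots / 2) (D.nroots - D.nroots / 2)).filter
    (fun r => decide ((tabOf D).reflWord w r < D.nroots / 2)) with hL
  have hnd : L.Nodup := (List.nodup_range' (step := 1) (by omega)).filter _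
  rw [← List.toFinset_card_of_nodup hnd]
  congr 1
  ext r
  rw [List.mem_toFinset, hL, List.mem_filter, List.mem_range'_1, decide_eq_true_eq, Finset.mem_filter,
    Finset.mem_range]
  constructor
  · rintro ⟨⟨h1, h2⟩, h3⟩
    exact ⟨by omega, h1, h3⟩
  · rintro ⟨h1, h2, h3⟩
    exact ⟨⟨h2, by omega⟩, h3⟩

/-- The data for the additivity of the number of negated roots: a set of roots `sub` stable under the
reflections in `J'` and under negation, whose positive complement is stable under these reflections. -/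
structure SubOK (D : ChevalleyDatum) (J' : List ℕ) (sub : ℕ → Bool) : Prop where
  lt : ∀ j ∈ J', j < D.rank
  refl : ∀ j ∈ J', ∀ r < D.nroots, sub ((tabOf D).refl (D.simple j) r) = sub r
  neg : ∀ r < D.nroots, sub (D.neg r) = sub r
  pos : ∀ j ∈ J', ∀ r < D.nroots, D.nroots / 2 ≤ r → sub r = false →
    D.nroots / 2 ≤ (tabOf D).refl (D.simple j) r

section additivity

variable (hG : Good2 D) (hT : T0 D) {J' : List ℕ} {sub : ℕ → Bool} (hS : SubOK D J' sub)

include hG hS in
theorem sub_reflWord {v : List ℕ} (hv : ∀ i ∈ v, i ∈ J') {r : ℕ} (hr : r < D.nroots) :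
    sub ((tabOf D).reflWord v r) = sub r := by
  induction v with
  | nil => rfl
  | cons i v ih =>
    have hv' : ∀ j ∈ v, j ∈ J' := fun j hj => hv j (List.mem_cons_of_mem _ hj)
    have hvr : ∀ j ∈ v, j < D.rank := fun j hj => hS.lt j (hv' j hj)
    rw [reflWord_cons]
    change sub ((tabOf D).refl (D.simple i) _) = _
    rw [hS.refl i (hv i List.mem_cons_self) _ (reflWord_lt hG hvr hr), ih hv']

include hG hS in
theorem pos_reflWord {v : List ℕ} (hv : ∀ i ∈ v, i ∈ J') {r : ℕ} (hr : r < D.nroots)
    (hpos : D.nroots / 2 ≤ r) (hsub : sub r = false) : D.nroots / 2 ≤ (tabOf D).reflWord v r := by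
  induction v with
  | nil => exact hpos
  | cons i v ih =>
    have hv' : ∀ j ∈ v, j ∈ J' := fun j hj => hv j (List.mem_cons_of_mem _ hj)
    have hvr : ∀ j ∈ v, j < D.rank := fun j hj => hS.lt j (hv' j hj)
    rw [reflWord_cons]
    apply hS.pos i (hv i List.mem_cons_self) _ (reflWord_lt hG hvr hr) (ih hv')
    rw [sub_reflWord hG hS hv' hr, hsub]

include hG hT hS in
/-- Additivity of the number of negated roots for a coset representative times an element of the parabolic
subgroup. -/
theorem nMinus_append {u v : List ℕ} (hu : ∀ i ∈ u, i < D.rank) (hv : ∀ i ∈ v, i ∈ J')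
    (hrep : ∀ r < D.nroots, D.nroots / 2 ≤ r → sub r = true → D.nroots / 2 ≤ (tabOf D).reflWord u r) :
    nMinus D (u ++ v) = nMinus D u + nMinus D v := by
  have hG1 := hG.toGood1
  have hvr : ∀ j ∈ v, j < D.rank := fun j hj => hS.lt j (hv j hj)
  have hvrev : ∀ i ∈ v.reverse, i ∈ J' := fun i hi => hv i (List.mem_reverse.mp hi)
  have hvrevr : ∀ j ∈ v.reverse, j < D.rank := fun j hj => hS.lt j (hvrev j hj)
  rw [nMinus_eq_card, nMinus_eq_card, nMinus_eq_card]
  -- split according to `sub`
  have hsplit : ∀ w : List ℕ, (negSet D w).card =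
      ((negSet D w).filter fun r => sub r = false).card +
        ((negSet D w).filter fun r => sub r = true).card := by
    intro w
    rw [← Finset.card_filter_add_card_filter_not (s := negSet D w) (fun r => sub r = false)]
    congr 2
    apply Finset.filter_congr
    intro r _
    simp
  -- the part outside `sub`: the same as for `u`
  have hA : ((negSet D (u ++ v)).filter fun r => sub r = false).card = (negSet D u).card := by
    apply Finset.card_bij (fun r _ => (tabOf D).reflWord v r)
    · intro r hr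
      simp only [negSet, Finset.mem_filter, Finset.mem_range] at hr ⊢
      obtain ⟨⟨hr, hpos, hneg⟩, hsub⟩ := hr
      refine ⟨reflWord_lt hG hvr hr, pos_reflWord hG hS hv hr hpos hsub, ?_⟩
      rw [← reflWord_append]; exact hneg
    · intro r hr r' hr' h
      simp only [negSet, Finset.mem_filter, Finset.mem_range] at hr hr'
      exact reflWord_injective hG hvr hr.1.1 hr'.1.1 h
    · intro s hs
      simp only [negSet, Finset.mem_filter, Finset.mem_range] at hs
      obtain ⟨hs, hpos, hneg⟩ := hs
      have hsub : sub s = false := by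
        by_contra h
        rw [Bool.not_eq_false] at h
        have := hrep s hs hpos h
        omega
      have hback := reflWord_reverse_cancel hG hvr hs
      refine ⟨(tabOf D).reflWord v.reverse s, ?_, hback⟩
      simp only [negSet, Finset.mem_filter, Finset.mem_range]
      have hlt := reflWord_lt hG hvrevr hs
      refine ⟨⟨hlt, pos_reflWord hG hS hvrev hs hpos hsub, ?_⟩, ?_⟩
      · rw [reflWord_append, hback]; exact hneg
      · rw [sub_reflWord hG hS hvrev hs, hsub]
  -- the part inside `sub`: the same as for `v`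
  have hB : ((negSet D (u ++ v)).filter fun r => sub r = true) = negSet D v := by
    ext r
    simp only [negSet, Finset.mem_filter, Finset.mem_range]
    constructor
    · rintro ⟨⟨hr, hpos, hneg⟩, hsub⟩
      refine ⟨hr, hpos, ?_⟩
      by_contra hcon
      have hvpos : D.nroots / 2 ≤ (tabOf D).reflWord v r := by omega
      have hvsub : sub ((tabOf D).reflWord v r) = true := by rw [sub_reflWord hG hS hv hr, hsub]
      have := hrep _ (reflWord_lt hG hvr hr) hvpos hvsub
      rw [reflWord_append] at hneg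
      omega
    · rintro ⟨hr, hpos, hneg⟩
      have hvlt := reflWord_lt hG hvr hr
      have hsub : sub r = true := by
        by_contra h
        rw [Bool.not_eq_true] at h
        have := pos_reflWord hG hS hv hr hpos h
        omega
      refine ⟨⟨hr, hpos, ?_⟩, hsub⟩
      -- `s = -(v r)` is positive and in `sub`
      set s := D.neg ((tabOf D).reflWord v r) with hs
      have hslt : s < D.nroots := hG1.neg_lt hvlt
      have hspos : D.nroots / 2 ≤ s := neg_pos_of_neg hG hT hvlt hneg
      have hssub : sub s = true := by rw [hs, hS.neg _ hvlt, sub_reflWord hG hS hv hr, hsub]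
      have hus := hrep s hslt hspos hssub
      have e : (tabOf D).reflWord (u ++ v) r = D.neg ((tabOf D).reflWord u s) := by
        rw [reflWord_append, ← reflWord_neg hG hu hslt, hs, hG1.neg_neg hvlt]
      rw [e]
      exact neg_neg_of_pos hG hT (reflWord_lt hG hu hslt) hus
  have hA' : ((negSet D u).filter fun r => sub r = true).card = 0 := by
    rw [Finset.card_eq_zero, Finset.filter_eq_empty_iff]
    intro r hr
    simp only [negSet, Finset.mem_filter, Finset.mem_range] at hr
    obtain ⟨hr, hpos, hneg⟩ := hr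
    intro h
    have := hrep r hr hpos h
    omega
  have hB' : ((negSet D v).filter fun r => sub r = false).card = 0 := by
    rw [Finset.card_eq_zero, Finset.filter_eq_empty_iff]
    intro r hr
    simp only [negSet, Finset.mem_filter, Finset.mem_range] at hr
    obtain ⟨hr, hpos, hneg⟩ := hr
    intro h
    have := pos_reflWord hG hS hv hr hpos h
    omega
  rw [hsplit (u ++ v), hA, hB]

end additivity

/-! ### The Weyl group as a finite set of maps on the roots -/

/-- The action of a word on the roots, as a map on `Fin nroots`. -/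
def actF (D : ChevalleyDatum) (w : List ℕ) : Fin D.nroots → Fin D.nroots :=
  fun r => if h : (tabOf D).reflWord w r.val < D.nroots then ⟨(tabOf D).reflWord w r.val, h⟩ else r

/-- The number of positive roots made negative by a map on the roots. -/
def nSigma (D : ChevalleyDatum) (σ : Fin D.nroots → Fin D.nroots) : ℕ :=
  (Finset.univ.filter fun r : Fin D.nroots => D.nroots / 2 ≤ r.val ∧ (σ r).val < D.nroots / 2).card

open Classical in
/-- The parabolic subgroup `W_J` of the Weyl group, as a finite set of maps on the roots. -/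
noncomputable def WJ (D : ChevalleyDatum) (J : List ℕ) : Finset (Fin D.nroots → Fin D.nroots) :=
  Finset.univ.filter fun σ => ∃ w : List ℕ, (∀ i ∈ w, i ∈ J) ∧ actF D w = σ

/-- The Poincaré polynomial of `W_J` at `q`. -/
noncomputable def PS (D : ChevalleyDatum) (J : List ℕ) (q : ℕ) : ℕ := ∑ σ ∈ WJ D J, q ^ nSigma D σ

theorem mem_WJ {J : List ℕ} {σ : Fin D.nroots → Fin D.nroots} :
    σ ∈ WJ D J ↔ ∃ w : List ℕ, (∀ i ∈ w, i ∈ J) ∧ actF D w = σ := by
  classical
  unfold WJ
  rw [Finset.mem_filter]
  exact ⟨fun h => h.2, fun h => ⟨Finset.mem_univ _, h⟩⟩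

section act

variable (hG : Good2 D)

include hG in
theorem actF_val {w : List ℕ} (hw : ∀ i ∈ w, i < D.rank) (r : Fin D.nroots) :
    (actF D w r).val = (tabOf D).reflWord w r.val := by
  unfold actF
  rw [dif_pos (reflWord_lt hG hw r.2)]

include hG in
theorem actF_append {u v : List ℕ} (hu : ∀ i ∈ u, i < D.rank) (hv : ∀ i ∈ v, i < D.rank) :
    actF D (u ++ v) = actF D u ∘ actF D v := by
  have huv : ∀ i ∈ u ++ v, i < D.rank := by
    intro i hi
    rcases List.mem_append.mp hi with hi | hi
    · exact hu i hi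
    · exact hv i hi
  funext r
  apply Fin.ext
  rw [Function.comp_apply, actF_val hG huv, actF_val hG hu, actF_val hG hv, reflWord_append]

include hG in
theorem actF_eq_iff {u v : List ℕ} (hu : ∀ i ∈ u, i < D.rank) (hv : ∀ i ∈ v, i < D.rank) :
    actF D u = actF D v ↔ ∀ r < D.nroots, (tabOf D).reflWord u r = (tabOf D).reflWord v r := by
  constructor
  · intro h r hr
    have := congrArg (fun f => (f ⟨r, hr⟩).val) h
    simpa only [actF_val hG hu, actF_val hG hv] using this
  · intro h
    funext r
    apply Fin.ext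
    rw [actF_val hG hu, actF_val hG hv, h r.val r.2]

include hG in
theorem nSigma_actF {w : List ℕ} (hw : ∀ i ∈ w, i < D.rank) : nSigma D (actF D w) = nMinus D w := by
  rw [nMinus_eq_card]
  unfold nSigma negSet
  apply Finset.card_bij (fun r _ => r.val)
  · intro r hr
    simp only [Finset.mem_filter, Finset.mem_univ, true_and, Finset.mem_range] at hr ⊢
    rw [actF_val hG hw] at hr
    exact ⟨r.2, hr⟩
  · intro r _ r' _ h
    exact Fin.ext h
  · intro s hs
    simp only [Finset.mem_filter, Finset.mem_range] at hs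
    refine ⟨⟨s, hs.1⟩, ?_, rfl⟩
    simp only [Finset.mem_filter, Finset.mem_univ, true_and]
    rw [actF_val hG hw]
    exact hs.2

end act

/-! ### The order of the group in terms of the Poincaré polynomial -/

section orderPS

variable {F : Type*} [Field F]
variable (hG : Good2 D) (hT : T0 D) (h3 : (tabOf D).T3) (h4 : (tabOf D).T4 60) (h5 : (tabOf D).T5)
  (h6 : (tabOf D).T6) (h7 : (tabOf D).T7) (h7n : (tabOf D).T7n) (h8 : (tabOf D).T8)
  (h9 : (tabOf D).T9)

include hG hT h6 h8 h9 in
/-- Every word has the same action on the roots as a word all of whose prefixes map the next fundamental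
root to a positive root. -/
theorem exists_prefixPos_rep (F : Type*) [Field F] {v : List ℕ} (hv : ∀ i ∈ v, i < D.rank) :
    ∃ w : List ℕ, (∀ i ∈ w, i < D.rank) ∧ PrefixPos D w ∧
      ∀ r < D.nroots, (tabOf D).reflWord w r = (tabOf D).reflWord v r := by
  obtain ⟨h, hh, w, hw, hpp, e⟩ := exists_prefixPos_word (F := F) hG hT h6 h9 (nWordGL_mem hG v)
  refine ⟨w, hw, hpp, ?_⟩
  apply reflWord_eq_of_nWordGL_eq (F := F) hG hT h8 hw hv
    (conj_mem_diagonal' (nWordGL_mem_normalizer hG w) hh)
  rw [e]; group

include hG hT h6 h8 in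
/-- A word making no positive root negative acts trivially on the roots. -/
theorem reflWord_eq_self_of_nMinus_eq_zero {w : List ℕ} (hw : ∀ i ∈ w, i < D.rank)
    (h0 : nMinus D w = 0) : ∀ r < D.nroots, (tabOf D).reflWord w r = r := by
  have hpos : ∀ s < D.nroots, D.nroots / 2 ≤ s → D.nroots / 2 ≤ (tabOf D).reflWord w s := by
    intro s hs hsp
    by_contra hcon
    rw [nMinus_eq_card, Finset.card_eq_zero] at h0
    have : s ∈ negSet D w := by
      simp only [negSet, Finset.mem_filter, Finset.mem_range]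
      exact ⟨hs, hsp, by omega⟩
    rw [h0] at this
    exact absurd this (Finset.notMem_empty _)
  have hH : (nWordGL hG w : GL D.Idx ℚ) ∈ D.diagonalSubgroup ℚ :=
    nWordGL_mem_diagonal_of_pos hG hT h6 h8 _ _ rfl hw hpos
  have := reflWord_eq_of_nWordGL_eq (F := ℚ) hG hT h8 (a := []) (b := w) (by simp) hw hH
    (by rw [nWordGL_nil, one_mul])
  intro r hr
  exact (this r hr).symm

include hG hT h3 h4 h5 h6 h7 h7n h8 h9 in
/-- The order of the Chevalley group in terms of the Poincaré polynomial of the Weyl group. -/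
theorem card_group_PS [Fintype F] :
    Nat.card (D.group F) = Fintype.card F ^ (D.nroots / 2) * Nat.card (D.diagonalSubgroup F) *
      PS D (List.range D.rank) (Fintype.card F) := by
  classical
  have hall : ∀ w : List ℕ, (∀ i ∈ w, i ∈ List.range D.rank) ↔ ∀ i ∈ w, i < D.rank := by
    intro w
    simp only [List.mem_range]
  -- choose representatives
  have hex : ∀ σ : {σ // σ ∈ WJ D (List.range D.rank)}, ∃ w : List ℕ,
      ((∀ i ∈ w, i < D.rank) ∧ PrefixPos D w ∧ actF D w = σ.1) ∧ (σ.1 = actF D [] → w = []) := by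
    rintro ⟨σ, hσ⟩
    by_cases hid : σ = actF D []
    · refine ⟨[], ⟨by simp, ?_, hid.symm⟩, fun _ => rfl⟩
      intro w₁ k w₂ h
      simp at h
    · obtain ⟨v, hv, rfl⟩ := mem_WJ.mp hσ
      rw [hall] at hv
      obtain ⟨w, hw, hpp, hact⟩ := exists_prefixPos_rep hG hT h6 h8 h9 F hv
      exact ⟨w, ⟨hw, hpp, (actF_eq_iff hG hw hv).mpr hact⟩, fun h => absurd h hid⟩
  choose wσ hwσ using hex
  set S := (WJ D (List.range D.rank)).attach with hSdef
  set W := S.toList.map wσ with hWdef
  have hinjσ : Function.Injective wσ := by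
    intro σ τ h
    apply Subtype.ext
    rw [← (hwσ σ).1.2.2, ← (hwσ τ).1.2.2, h]
  have hmemW : ∀ w ∈ W, ∃ σ, wσ σ = w := by
    intro w hw
    rw [hWdef, List.mem_map] at hw
    obtain ⟨σ, _, rfl⟩ := hw
    exact ⟨σ, rfl⟩
  have hWL : WList D W := by
    refine ⟨?_, ?_, ?_, ?_, ?_⟩
    · have hid : actF D [] ∈ WJ D (List.range D.rank) := mem_WJ.mpr ⟨[], by simp, rfl⟩
      rw [hWdef, List.mem_map]
      exact ⟨⟨_, hid⟩, by simp [hSdef], (hwσ ⟨_, hid⟩).2 rfl⟩
    · exact (Finset.nodup_toList S).map hinjσ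
    · intro w hw
      obtain ⟨σ, rfl⟩ := hmemW w hw
      exact ⟨(hwσ σ).1.1, (hwσ σ).1.2.1⟩
    · intro w hw i hi
      obtain ⟨σ, rfl⟩ := hmemW w hw
      have hw' := (hwσ σ).1.1
      have hiw : ∀ j ∈ i :: wσ σ, j < D.rank := by
        intro j hj
        rcases List.mem_cons.mp hj with rfl | hj
        · exact hi
        · exact hw' j hj
      have hτ : actF D (i :: wσ σ) ∈ WJ D (List.range D.rank) :=
        mem_WJ.mpr ⟨_, (hall _).mpr hiw, rfl⟩
      refine ⟨wσ ⟨_, hτ⟩, ?_, ?_⟩
      · rw [hWdef, List.mem_map]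
        exact ⟨⟨_, hτ⟩, by simp [hSdef], rfl⟩
      · exact (actF_eq_iff hG hiw (hwσ ⟨_, hτ⟩).1.1).mp (hwσ ⟨_, hτ⟩).1.2.2.symm
    · intro w hw w' hw' hact
      obtain ⟨σ, rfl⟩ := hmemW w hw
      obtain ⟨τ, rfl⟩ := hmemW w' hw'
      have : σ = τ := by
        apply Subtype.ext
        rw [← (hwσ σ).1.2.2, ← (hwσ τ).1.2.2]
        exact (actF_eq_iff hG (hwσ σ).1.1 (hwσ τ).1.1).mpr hact
      rw [this]
  rw [card_group (F := F) hG hT h3 h4 h5 h6 h7 h7n h8 h9 hWL]
  congr 1
  rw [hWdef, List.map_map, Finset.sum_map_toList]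
  unfold PS
  rw [(Finset.sum_attach (WJ D (List.range D.rank)) (fun σ => Fintype.card F ^ nSigma D σ)).symm]
  apply Finset.sum_congr rfl
  intro σ _
  simp only [Function.comp_apply]
  rw [← nSigma_actF hG (hwσ σ).1.1, (hwσ σ).1.2.2]

end orderPS

/-! ### One step of the chain of parabolic subgroups -/

/-- The data of one step `W_J ⊇ W_{J'}`: a list `U` of coset representatives. -/
structure StepOK (D : ChevalleyDatum) (J J' : List ℕ) (U : List (List ℕ)) (sub : ℕ → Bool) : Prop where
  subOK : SubOK D J' sub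
  ltJ : ∀ i ∈ J, i < D.rank
  subset : ∀ j ∈ J', j ∈ J
  words : ∀ u ∈ U, ∀ i ∈ u, i ∈ J
  nil_mem : [] ∈ U
  nodup : U.Nodup
  rep : ∀ u ∈ U, ∀ r < D.nroots, D.nroots / 2 ≤ r → sub r = true →
    D.nroots / 2 ≤ (tabOf D).reflWord u r
  closed : ∀ u ∈ U, ∀ i ∈ J,
    (∃ u' ∈ U, ∀ r < D.nroots, (tabOf D).reflWord (i :: u) r = (tabOf D).reflWord u' r) ∨
    (∃ j ∈ J', ∀ r < D.nroots, (tabOf D).reflWord (i :: u) r = (tabOf D).reflWord (u ++ [j]) r)
  inj : ∀ u ∈ U, ∀ u' ∈ U,
    (∀ r < D.nroots, (tabOf D).reflWord u r = (tabOf D).reflWord u' r) → u = u'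

section step

variable (hG : Good2 D) (hT : T0 D) (h6 : (tabOf D).T6) (h8 : (tabOf D).T8)
  {J J' : List ℕ} {U : List (List ℕ)} {sub : ℕ → Bool} (hS : StepOK D J J' U sub)

include hG hS in
/-- Every element of `W_J` is a representative times an element of `W_{J'}`. -/
theorem exists_factor (w : List ℕ) (hw : ∀ i ∈ w, i ∈ J) :
    ∃ u ∈ U, ∃ v : List ℕ, (∀ i ∈ v, i ∈ J') ∧ actF D w = actF D (u ++ v) := by
  have hJ' : ∀ j ∈ J', j < D.rank := hS.subOK.lt
  induction w with
  | nil => exact ⟨[], hS.nil_mem, [], by simp, rfl⟩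
  | cons i w ih =>
    have hi : i ∈ J := hw i List.mem_cons_self
    have hir : i < D.rank := hS.ltJ i hi
    have hw' : ∀ j ∈ w, j ∈ J := fun j hj => hw j (List.mem_cons_of_mem _ hj)
    have hwr : ∀ j ∈ w, j < D.rank := fun j hj => hS.ltJ j (hw' j hj)
    obtain ⟨u, huU, v, hv, e⟩ := ih hw'
    have hur : ∀ j ∈ u, j < D.rank := fun j hj => hS.ltJ j (hS.words u huU j hj)
    have hvr : ∀ j ∈ v, j < D.rank := fun j hj => hJ' j (hv j hj)
    have h1 : ∀ j ∈ [i], j < D.rank := by
      intro j hj; rw [List.mem_singleton] at hj; rw [hj]; exact hir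
    have hiu : ∀ j ∈ i :: u, j < D.rank := by
      intro j hj
      rcases List.mem_cons.mp hj with rfl | hj
      · exact hir
      · exact hur j hj
    have huv : ∀ j ∈ u ++ v, j < D.rank := by
      intro j hj
      rcases List.mem_append.mp hj with hj | hj
      · exact hur j hj
      · exact hvr j hj
    have e1 : actF D (i :: w) = actF D (i :: u) ∘ actF D v := by
      have : i :: w = [i] ++ w := rfl
      rw [this, actF_append hG h1 hwr, e, actF_append hG hur hvr, ← Function.comp_assoc,
        ← actF_append hG h1 hur]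
      rfl
    rcases hS.closed u huU i hi with ⟨u', hu'U, hact⟩ | ⟨j, hj, hact⟩
    · have hu'r : ∀ j ∈ u', j < D.rank := fun j hj => hS.ltJ j (hS.words u' hu'U j hj)
      refine ⟨u', hu'U, v, hv, ?_⟩
      rw [e1, (actF_eq_iff hG hiu hu'r).mpr hact, ← actF_append hG hu'r hvr]
    · have hjr : j < D.rank := hJ' j hj
      have huj : ∀ k ∈ u ++ [j], k < D.rank := by
        intro k hk
        rcases List.mem_append.mp hk with hk | hk
        · exact hur k hk
        · rw [List.mem_singleton] at hk; rw [hk]; exact hjr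
      refine ⟨u, huU, j :: v, ?_, ?_⟩
      · intro k hk
        rcases List.mem_cons.mp hk with rfl | hk
        · exact hj
        · exact hv k hk
      · rw [e1, (actF_eq_iff hG hiu huj).mpr hact, ← actF_append hG huj hvr]
        congr 1
        simp

include hG hT h6 h8 hS in
/-- The factorisation is unique. -/
theorem factor_unique {u u' : List ℕ} (huU : u ∈ U) (hu'U : u' ∈ U) {v v' : List ℕ}
    (hv : ∀ i ∈ v, i ∈ J') (hv' : ∀ i ∈ v', i ∈ J')
    (e : actF D (u ++ v) = actF D (u' ++ v')) : u = u' ∧ actF D v = actF D v' := by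
  have hJ' : ∀ j ∈ J', j < D.rank := hS.subOK.lt
  have hur : ∀ j ∈ u, j < D.rank := fun j hj => hS.ltJ j (hS.words u huU j hj)
  have hu'r : ∀ j ∈ u', j < D.rank := fun j hj => hS.ltJ j (hS.words u' hu'U j hj)
  have hvr : ∀ j ∈ v, j < D.rank := fun j hj => hJ' j (hv j hj)
  have hv'r : ∀ j ∈ v', j < D.rank := fun j hj => hJ' j (hv' j hj)
  have hrev : ∀ {x : List ℕ}, (∀ i ∈ x, i ∈ J') → ∀ i ∈ x.reverse, i ∈ J' :=
    fun hx i hi => hx i (List.mem_reverse.mp hi)
  have hrevr : ∀ {x : List ℕ}, (∀ i ∈ x, i < D.rank) → ∀ i ∈ x.reverse, i < D.rank :=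
    fun hx i hi => hx i (List.mem_reverse.mp hi)
  have happ : ∀ {x y : List ℕ}, (∀ i ∈ x, i ∈ J') → (∀ i ∈ y, i ∈ J') → ∀ i ∈ x ++ y, i ∈ J' := by
    intro x y hx hy i hi
    rcases List.mem_append.mp hi with hi | hi
    · exact hx i hi
    · exact hy i hi
  have happr : ∀ {x y : List ℕ}, (∀ i ∈ x, i < D.rank) → (∀ i ∈ y, i < D.rank) →
      ∀ i ∈ x ++ y, i < D.rank := by
    intro x y hx hy i hi
    rcases List.mem_append.mp hi with hi | hi
    · exact hx i hi
    · exact hy i hi
  -- cancellation on the right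
  have hcancel : ∀ {x : List ℕ}, (∀ i ∈ x, i < D.rank) → actF D x ∘ actF D x.reverse = id := by
    intro x hx
    funext r
    apply Fin.ext
    rw [Function.comp_apply, actF_val hG hx, actF_val hG (hrevr hx), id]
    exact reflWord_reverse_cancel hG hx r.2
  have hcancel' : ∀ {x : List ℕ}, (∀ i ∈ x, i < D.rank) → actF D x.reverse ∘ actF D x = id := by
    intro x hx
    have := hcancel (hrevr hx)
    rwa [List.reverse_reverse] at this
  -- `u = u' ξ` and `u' = u ξ'`
  have key : ∀ {a a' b b' : List ℕ}, a ∈ U → a' ∈ U → (∀ i ∈ b, i ∈ J') → (∀ i ∈ b', i ∈ J') →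
      actF D (a ++ b) = actF D (a' ++ b') → nMinus D a = nMinus D a' + nMinus D (b' ++ b.reverse) := by
    intro a a' b b' haU ha'U hb hb' hab
    have har : ∀ j ∈ a, j < D.rank := fun j hj => hS.ltJ j (hS.words a haU j hj)
    have ha'r : ∀ j ∈ a', j < D.rank := fun j hj => hS.ltJ j (hS.words a' ha'U j hj)
    have hbr : ∀ j ∈ b, j < D.rank := fun j hj => hJ' j (hb j hj)
    have hb'r : ∀ j ∈ b', j < D.rank := fun j hj => hJ' j (hb' j hj)
    have e1 : actF D a = actF D (a' ++ (b' ++ b.reverse)) := by
      calc actF D a = actF D a ∘ (actF D b ∘ actF D b.reverse) := by rw [hcancel hbr]; rfl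
        _ = actF D (a ++ b) ∘ actF D b.reverse := by rw [actF_append hG har hbr]; rfl
        _ = actF D (a' ++ b') ∘ actF D b.reverse := by rw [hab]
        _ = _ := by
          rw [actF_append hG ha'r hb'r, actF_append hG ha'r (happr hb'r (hrevr hbr)),
            actF_append hG hb'r (hrevr hbr)]
          rfl
    rw [← nSigma_actF hG har, e1, nSigma_actF hG (happr ha'r (happr hb'r (hrevr hbr))),
      nMinus_append hG hT hS.subOK ha'r (happ hb' (hrev hb)) (hS.rep a' ha'U)]
  have k1 := key huU hu'U hv hv' e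
  have k2 := key hu'U huU hv' hv e.symm
  have hz : nMinus D (v' ++ v.reverse) = 0 := by omega
  have htriv := reflWord_eq_self_of_nMinus_eq_zero hG hT h6 h8 (happr hv'r (hrevr hvr)) hz
  have hξ : actF D (v' ++ v.reverse) = id := by
    funext r
    apply Fin.ext
    rw [actF_val hG (happr hv'r (hrevr hvr)), htriv r.val r.2]
    rfl
  have hvv : actF D v = actF D v' := by
    rw [actF_append hG hv'r (hrevr hvr)] at hξ
    calc actF D v = (actF D v' ∘ actF D v.reverse) ∘ actF D v := by rw [hξ]; rfl
      _ = actF D v' ∘ (actF D v.reverse ∘ actF D v) := rfl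
      _ = actF D v' := by rw [hcancel' hvr]; rfl
  refine ⟨?_, hvv⟩
  apply hS.inj u huU u' hu'U
  apply (actF_eq_iff hG hur hu'r).mp
  rw [actF_append hG hur hvr, actF_append hG hu'r hv'r, hvv] at e
  have := congrArg (fun f => f ∘ actF D v'.reverse) e
  simpa only [Function.comp_assoc, hcancel hv'r, Function.comp_id] using this

include hG hT h6 h8 hS in
/-- The Poincaré polynomial of `W_J` is the polynomial of the representatives times that of `W_{J'}`. -/
theorem PS_step (q : ℕ) : PS D J q = (U.map fun u => q ^ nMinus D u).sum * PS D J' q := by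
  classical
  have hJ' : ∀ j ∈ J', j < D.rank := hS.subOK.lt
  let f : Fin U.length × (Fin D.nroots → Fin D.nroots) → (Fin D.nroots → Fin D.nroots) :=
    fun p => actF D (U.get p.1) ∘ p.2
  have himage : WJ D J = ((Finset.univ : Finset (Fin U.length)) ×ˢ WJ D J').image f := by
    ext σ
    rw [Finset.mem_image]
    constructor
    · intro hσ
      obtain ⟨w, hw, rfl⟩ := mem_WJ.mp hσ
      obtain ⟨u, huU, v, hv, e⟩ := exists_factor hG hS w hw
      obtain ⟨a, rfl⟩ := List.mem_iff_get.mp huU
      have hur : ∀ j ∈ U.get a, j < D.rank := fun j hj => hS.ltJ j (hS.words _ huU j hj)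
      have hvr : ∀ j ∈ v, j < D.rank := fun j hj => hJ' j (hv j hj)
      refine ⟨(a, actF D v), ?_, ?_⟩
      · rw [Finset.mem_product]
        exact ⟨Finset.mem_univ _, mem_WJ.mpr ⟨v, hv, rfl⟩⟩
      · rw [e, actF_append hG hur hvr]
    · rintro ⟨⟨a, τ⟩, hp, rfl⟩
      rw [Finset.mem_product] at hp
      obtain ⟨v, hv, rfl⟩ := mem_WJ.mp hp.2
      have huU : U.get a ∈ U := List.get_mem U a
      have hur : ∀ j ∈ U.get a, j < D.rank := fun j hj => hS.ltJ j (hS.words _ huU j hj)
      have hvr : ∀ j ∈ v, j < D.rank := fun j hj => hJ' j (hv j hj)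
      apply mem_WJ.mpr
      refine ⟨U.get a ++ v, ?_, actF_append hG hur hvr⟩
      intro i hi
      rcases List.mem_append.mp hi with hi | hi
      · exact hS.words _ huU i hi
      · exact hS.subset i (hv i hi)
  have hinj : Set.InjOn f ((Finset.univ : Finset (Fin U.length)) ×ˢ WJ D J' : Finset _) := by
    rintro ⟨a, τ⟩ hp ⟨a', τ'⟩ hp' e
    rw [Finset.mem_coe, Finset.mem_product] at hp hp'
    obtain ⟨v, hv, rfl⟩ := mem_WJ.mp hp.2
    obtain ⟨v', hv', rfl⟩ := mem_WJ.mp hp'.2
    have huU : U.get a ∈ U := List.get_mem U a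
    have hu'U : U.get a' ∈ U := List.get_mem U a'
    have hur : ∀ j ∈ U.get a, j < D.rank := fun j hj => hS.ltJ j (hS.words _ huU j hj)
    have hu'r : ∀ j ∈ U.get a', j < D.rank := fun j hj => hS.ltJ j (hS.words _ hu'U j hj)
    have hvr : ∀ j ∈ v, j < D.rank := fun j hj => hJ' j (hv j hj)
    have hv'r : ∀ j ∈ v', j < D.rank := fun j hj => hJ' j (hv' j hj)
    have e' : actF D (U.get a ++ v) = actF D (U.get a' ++ v') := by
      rw [actF_append hG hur hvr, actF_append hG hu'r hv'r]; exact e
    obtain ⟨h1, h2⟩ := factor_unique hG hT h6 h8 hS huU hu'U hv hv' e'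
    have haa : a = a' := (List.Nodup.get_inj_iff hS.nodup).mp h1
    rw [haa, h2]
  unfold PS
  rw [himage, Finset.sum_image hinj, Finset.sum_product,
    ← Fin.sum_univ_fun_getElem U (fun u => q ^ nMinus D u), Finset.sum_mul]
  apply Finset.sum_congr rfl
  intro a _
  rw [Finset.mul_sum]
  apply Finset.sum_congr rfl
  intro τ hτ
  obtain ⟨v, hv, rfl⟩ := mem_WJ.mp hτ
  have huU : U.get a ∈ U := List.get_mem U a
  have hur : ∀ j ∈ U.get a, j < D.rank := fun j hj => hS.ltJ j (hS.words _ huU j hj)
  have hvr : ∀ j ∈ v, j < D.rank := fun j hj => hJ' j (hv j hj)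
  have huv : ∀ j ∈ U.get a ++ v, j < D.rank := by
    intro j hj
    rcases List.mem_append.mp hj with hj | hj
    · exact hur j hj
    · exact hvr j hj
  change q ^ nSigma D (actF D (U.get a) ∘ actF D v) = q ^ nMinus D U[a.val] * q ^ nSigma D (actF D v)
  rw [← actF_append hG hur hvr, nSigma_actF hG huv, nSigma_actF hG hvr,
    nMinus_append hG hT hS.subOK hur hv (hS.rep _ huU), pow_add]
  rfl

end step

/-- The Poincaré polynomial of the trivial group. -/
theorem PS_nil (hG : Good2 D) (q : ℕ) : PS D [] q = 1 := by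
  classical
  have hW : WJ D [] = {actF D []} := by
    ext σ
    rw [mem_WJ, Finset.mem_singleton]
    constructor
    · rintro ⟨w, hw, rfl⟩
      cases w with
      | nil => rfl
      | cons i w => exact absurd (hw i List.mem_cons_self) (List.not_mem_nil)
    · rintro rfl
      exact ⟨[], by simp, rfl⟩
  unfold PS
  rw [hW, Finset.sum_singleton, nSigma_actF hG (by simp), nMinus_eq_card]
  have : negSet D [] = ∅ := by
    rw [Finset.eq_empty_iff_forall_notMem]
    intro r hr
    simp only [negSet, Finset.mem_filter, Finset.mem_range] at hr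
    have : (tabOf D).reflWord [] r = r := rfl
    omega
  rw [this, Finset.card_empty, pow_zero]

end Cfsg.Agent.Helper7.Chev
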