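import Mathlib
import Cfsg.Agent.Helper7.ChevWCert
import Cfsg.Agent.Helper7.ChevCardH

set_option autoImplicit false
set_option linter.unusedSectionVars false
set_option linter.unusedVariables false

/-!
The order formula of a Chevalley group over a finite field from a certified list of Weyl group elements.
-/

namespace Cfsg.Agent.Helper7.Chev

open Cfsg Cfsg.Lie Matrix

theorem sum_pow_flatMap (q : ℕ) (c : ℕ → ℕ) (L : List ℕ) :
    ((L.flatMap fun k => List.replicate (c k) k).map fun x => q ^ x).sum =
      (L.map fun k => c k * q ^ k).sum := by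
  induction L with
  | nil => rfl
  | cons a L ih =>
    rw [List.flatMap_cons, List.map_append, List.sum_append, ih, List.map_cons, List.sum_cons,
      List.map_replicate, List.sum_replicate, smul_eq_mul]

variable {D : ChevalleyDatum} {F : Type*} [Field F]

section order

variable (hG : Good2 D) (hT : T0 D) (h3 : (tabOf D).T3) (h4 : (tabOf D).T4 60) (h5 : (tabOf D).T5)
  (h6 : (tabOf D).T6) (h7 : (tabOf D).T7) (h7n : (tabOf D).T7n) (h8 : (tabOf D).T8)
  (h9 : (tabOf D).T9) {R : ℕ × ℕ} {W : List (List ℕ)} {nxt : List (List ℕ)} {K : List ℕ}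
  (hC : WCert D R W nxt K)

include hG hT h3 h4 h5 h6 h7 h7n h8 h9 hC in
/-- The order of the Chevalley group in terms of the order of `H` and the Poincaré polynomial. -/
theorem card_group_of_cert [Fintype F] {m : ℕ} {c : List ℕ}
    (hcount : W.map (nMinusF D R) = (List.range m).flatMap fun k => List.replicate (c.getD k 0) k) :
    Nat.card (D.group F) = Fintype.card F ^ (D.nroots / 2) * Nat.card (D.diagonalSubgroup F) *
      ((List.range m).map fun k => c.getD k 0 * Fintype.card F ^ k).sum := by
  have hW := wList_of_cert hG hC
  rw [card_group (F := F) hG hT h3 h4 h5 h6 h7 h7n h8 h9 hW]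
  congr 1
  have e : (W.map fun w => Fintype.card F ^ nMinus D w) =
      (W.map (nMinusF D R)).map fun x => Fintype.card F ^ x := by
    rw [List.map_map]
    apply List.map_congr_left
    intro w hw
    simp only [Function.comp_apply]
    rw [nMinus_eq hG hC (hW.ok w hw).1]
  rw [e, hcount, sum_pow_flatMap]

end order

end Cfsg.Agent.Helper7.Chev
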