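import Mathlib
import Cfsg.Agent.Helper7.ChevPoincare
import Cfsg.Agent.Helper7.ChevWCert
import Cfsg.Agent.Helper7.ChevOrder

set_option autoImplicit false
set_option linter.unusedSectionVars false
set_option linter.unusedVariables false

/-!
A checkable certificate for one step of the chain of parabolic subgroups of the Weyl group.
-/

namespace Cfsg.Agent.Helper7.Chev

open Cfsg Cfsg.Lie Matrix

variable {D : ChevalleyDatum}

section simple

variable (hG : Good2 D) (hT : T0 D) (h6 : (tabOf D).T6) (h8 : (tabOf D).T8) (h9 : (tabOf D).T9)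

include hG hT h6 h8 h9 in
/-- A word fixing every fundamental root acts trivially on the roots. -/
theorem reflWord_eq_self_of_simple {c : List ℕ} (hc : ∀ i ∈ c, i < D.rank)
    (h : ∀ i < D.rank, (tabOf D).reflWord c (D.simple i) = D.simple i) :
    ∀ r < D.nroots, (tabOf D).reflWord c r = r := by
  have hG1 := hG.toGood1
  obtain ⟨w, hw, hpp, hact⟩ := exists_prefixPos_rep hG hT h6 h8 h9 ℚ hc
  rcases List.eq_nil_or_concat w with rfl | ⟨w₁, k, rfl⟩
  · intro r hr
    rw [← hact r hr]; rfl
  · exfalso
    have hk : k < D.rank := hw k (by simp)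
    have hw₁ : ∀ i ∈ w₁, i < D.rank := fun i hi => hw i (by simp [hi])
    have hp := hG1.simple_lt hk
    have h1 : D.nroots / 2 ≤ (tabOf D).reflWord w₁ (D.simple k) := hpp w₁ k [] (by simp)
    have h2 := hact _ hp
    rw [h k hk, List.concat_eq_append, reflWord_append, reflWord_cons] at h2
    change (tabOf D).reflWord w₁ ((tabOf D).refl (D.simple k) (D.simple k)) = _ at h2
    rw [refl_self, reflWord_neg hG hw₁ hp] at h2
    have h3 := neg_neg_of_pos hG hT (reflWord_lt hG hw₁ hp) h1
    have h4 := simple_pos hG1 hT hk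
    omega

include hG hT h6 h8 h9 in
/-- Two words with the same action on the fundamental roots have the same action on all roots. -/
theorem reflWord_eq_of_simple {a b : List ℕ} (ha : ∀ i ∈ a, i < D.rank) (hb : ∀ i ∈ b, i < D.rank)
    (h : ∀ i < D.rank, (tabOf D).reflWord a (D.simple i) = (tabOf D).reflWord b (D.simple i)) :
    ∀ r < D.nroots, (tabOf D).reflWord a r = (tabOf D).reflWord b r := by
  have hG1 := hG.toGood1
  have hrev : ∀ i ∈ b.reverse, i < D.rank := fun i hi => hb i (List.mem_reverse.mp hi)
  have hc : ∀ i ∈ b.reverse ++ a, i < D.rank := by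
    intro i hi
    rcases List.mem_append.mp hi with hi | hi
    · exact hrev i hi
    · exact ha i hi
  have hcancel : ∀ s < D.nroots, (tabOf D).reflWord b.reverse ((tabOf D).reflWord b s) = s := by
    intro s hs
    have := reflWord_reverse_cancel hG hrev hs
    rwa [List.reverse_reverse] at this
  have hfix : ∀ i < D.rank, (tabOf D).reflWord (b.reverse ++ a) (D.simple i) = D.simple i := by
    intro i hi
    rw [reflWord_append, h i hi, hcancel _ (hG1.simple_lt hi)]
  have hid := reflWord_eq_self_of_simple hG hT h6 h8 h9 hc hfix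
  intro r hr
  have := hid r hr
  rw [reflWord_append] at this
  have h2 := congrArg ((tabOf D).reflWord b) this
  rwa [reflWord_reverse_cancel hG hb (reflWord_lt hG ha hr)] at h2

end simple

/-! ### The certificate -/

/-- The table of the fundamental reflections is correct. -/
def ReflOK (D : ChevalleyDatum) (R : ℕ × ℕ) : Prop :=
  ∀ i < D.rank, ∀ r < D.nroots, (tabOf D).refl (D.simple i) r = fastRefl R i r

/-- The set of roots coded by the binary digits of a number. -/
def subF (S : ℕ) (r : ℕ) : Bool := Nat.testBit S r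

/-- The check of `SubOK`. -/
def subOKF (D : ChevalleyDatum) (R : ℕ × ℕ) (S : ℕ) (J' : List ℕ) : Bool :=
  J'.all (fun j => decide (j < D.rank)) &&
  (List.range D.nroots).all fun r =>
    (subF S (D.neg r) == subF S r) &&
    J'.all fun j => (subF S (fastRefl R j r) == subF S r) &&
      (decide (r < D.nroots / 2) || subF S r || decide (D.nroots / 2 ≤ fastRefl R j r))

/-- The check that the representatives keep the positive roots of the subsystem positive. -/
def repF (D : ChevalleyDatum) (R : ℕ × ℕ) (S : ℕ) (U : List (List ℕ)) : Bool :=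
  U.all fun u => (List.range' (D.nroots / 2) (D.nroots - D.nroots / 2)).all fun r =>
    !subF S r || decide (D.nroots / 2 ≤ fastWord R u r)

/-- The check of one entry of the table of left multiplications: an even entry `2 * a` says that `s_i u` is the
`a`-th representative, an odd entry `2 * j + 1` says that `s_i u = u s_j` with `j ∈ J'`. -/
def stepEntryF (D : ChevalleyDatum) (R : ℕ × ℕ) (J' : List ℕ) (U : List (List ℕ)) (u : List ℕ)
    (n i : ℕ) : Bool :=
  if n % 2 = 0 then
    decide (n / 2 < U.length) && (List.range D.rank).all fun k =>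
      fastWord R (i :: u) (D.simple k) == fastWord R (U.getD (n / 2) []) (D.simple k)
  else
    J'.contains (n / 2) && (List.range D.rank).all fun k =>
      fastWord R (i :: u) (D.simple k) == fastWord R (u ++ [n / 2]) (D.simple k)

/-- The check of the table of left multiplications. -/
def stepClosedF (D : ChevalleyDatum) (R : ℕ × ℕ) (J J' : List ℕ) (U : List (List ℕ))
    (nxt : List (List ℕ)) : Bool :=
  (U.zip nxt).all fun p => decide (p.2.length = J.length) &&
    (p.2.zip J).all fun q => stepEntryF D R J' U p.1 q.1 q.2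

/-- The certificate of one step. -/
structure StepCert (D : ChevalleyDatum) (R : ℕ × ℕ) (S : ℕ) (J J' : List ℕ) (U : List (List ℕ))
    (nxt : List (List ℕ)) (K : List ℕ) : Prop where
  sub : subOKF D R S J' = true
  ltJ : J.all (fun j => decide (j < D.rank)) = true
  subset : J'.all (fun j => J.contains j) = true
  words : U.all (fun u => u.all fun i => J.contains i) = true
  head : U.head? = some []
  len : nxt.length = U.length
  rep : repF D R S U = true
  closed : stepClosedF D R J J' U nxt = true
  keys : U.map (keyF D R) = K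
  nodup : nodupB K = true

instance (D : ChevalleyDatum) (R : ℕ × ℕ) (S : ℕ) (J J' : List ℕ) (U : List (List ℕ))
    (nxt : List (List ℕ)) (K : List ℕ) : Decidable (StepCert D R S J J' U nxt K) :=
  decidable_of_iff
    (subOKF D R S J' = true ∧ J.all (fun j => decide (j < D.rank)) = true ∧
      J'.all (fun j => J.contains j) = true ∧ U.all (fun u => u.all fun i => J.contains i) = true ∧
      U.head? = some [] ∧ nxt.length = U.length ∧ repF D R S U = true ∧
      stepClosedF D R J J' U nxt = true ∧ U.map (keyF D R) = K ∧ nodupB K = true)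
    ⟨fun h => ⟨h.1, h.2.1, h.2.2.1, h.2.2.2.1, h.2.2.2.2.1, h.2.2.2.2.2.1, h.2.2.2.2.2.2.1,
        h.2.2.2.2.2.2.2.1, h.2.2.2.2.2.2.2.2.1, h.2.2.2.2.2.2.2.2.2⟩,
      fun h => ⟨h.1, h.2, h.3, h.4, h.5, h.6, h.7, h.8, h.9, h.10⟩⟩

section cert

variable (hG : Good2 D) (hT : T0 D) (h6 : (tabOf D).T6) (h8 : (tabOf D).T8) (h9 : (tabOf D).T9)
  {R : ℕ × ℕ} (hR : ReflOK D R)

include hG hR in
theorem fastWord_eq' {w : List ℕ} (hw : ∀ i ∈ w, i < D.rank) {s : ℕ} (hs : s < D.nroots) :
    (tabOf D).reflWord w s = fastWord R w s := by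
  induction w with
  | nil => rfl
  | cons i w ih =>
    have hi : i < D.rank := hw i List.mem_cons_self
    have hw' : ∀ j ∈ w, j < D.rank := fun j hj => hw j (List.mem_cons_of_mem _ hj)
    rw [reflWord_cons]
    change _ = fastRefl R i (fastWord R w s)
    rw [← ih hw', hR i hi _ (reflWord_lt hG hw' hs)]

include hG hR in
theorem nMinus_eq' {w : List ℕ} (hw : ∀ i ∈ w, i < D.rank) : nMinus D w = nMinusF D R w := by
  unfold nMinus nMinusF
  congr 1
  apply List.filter_congr
  intro r hr
  rw [List.mem_range'_1] at hr
  rw [fastWord_eq' hG hR hw (by omega)]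

variable {S : ℕ} {J J' : List ℕ} {U : List (List ℕ)} {nxt : List (List ℕ)} {K : List ℕ}
  (hC : StepCert D R S J J' U nxt K)

include hG hT h6 h8 h9 hR hC in
/-- A certified step satisfies the hypotheses of the step formula. -/
theorem stepOK_of_cert : StepOK D J J' U (subF S) := by
  have hG1 := hG.toGood1
  have hsub := hC.sub
  unfold subOKF at hsub
  rw [Bool.and_eq_true, List.all_eq_true, List.all_eq_true] at hsub
  obtain ⟨hJ'lt, hsub⟩ := hsub
  have hJ'r : ∀ j ∈ J', j < D.rank := fun j hj => of_decide_eq_true (hJ'lt j hj)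
  have hJr : ∀ j ∈ J, j < D.rank := by
    have := hC.ltJ
    rw [List.all_eq_true] at this
    exact fun j hj => of_decide_eq_true (this j hj)
  have hsubset : ∀ j ∈ J', j ∈ J := by
    have := hC.subset
    rw [List.all_eq_true] at this
    intro j hj
    have h := this j hj
    rwa [List.contains_iff_mem] at h
  have hwords : ∀ u ∈ U, ∀ i ∈ u, i ∈ J := by
    have := hC.words
    rw [List.all_eq_true] at this
    intro u hu i hi
    have h := this u hu
    rw [List.all_eq_true] at h
    have h2 := h i hi
    rwa [List.contains_iff_mem] at h2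
  have hUr : ∀ u ∈ U, ∀ i ∈ u, i < D.rank := fun u hu i hi => hJr i (hwords u hu i hi)
  have hnd : (U.map (keyF D R)).Nodup := by rw [hC.keys]; exact nodup_of_nodupB _ hC.nodup
  refine ⟨⟨hJ'r, ?_, ?_, ?_⟩, hJr, hsubset, hwords, ?_, List.Nodup.of_map _ hnd, ?_, ?_, ?_⟩
  · intro j hj r hr
    have h1 := hsub r (List.mem_range.mpr hr)
    rw [Bool.and_eq_true, List.all_eq_true] at h1
    have h2 := h1.2 j hj
    rw [Bool.and_eq_true, beq_iff_eq] at h2
    rw [hR j (hJ'r j hj) r hr]
    exact h2.1
  · intro r hr
    have h1 := hsub r (List.mem_range.mpr hr)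
    rw [Bool.and_eq_true, beq_iff_eq] at h1
    exact h1.1
  · intro j hj r hr hpos hs
    have h1 := hsub r (List.mem_range.mpr hr)
    rw [Bool.and_eq_true, List.all_eq_true] at h1
    have h2 := h1.2 j hj
    rw [Bool.and_eq_true, Bool.or_eq_true, Bool.or_eq_true, decide_eq_true_eq, decide_eq_true_eq] at h2
    rw [hR j (hJ'r j hj) r hr]
    rcases h2.2 with (h3 | h3) | h3
    · omega
    · rw [hs] at h3; exact absurd h3 (by simp)
    · exact h3
  · have h := hC.head
    cases U with
    | nil => simp at h
    | cons a U' =>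
      simp only [List.head?_cons, Option.some.injEq] at h
      rw [h]; exact List.mem_cons_self
  · intro u hu r hr hpos hs
    have h := hC.rep
    unfold repF at h
    rw [List.all_eq_true] at h
    have h1 := h u hu
    rw [List.all_eq_true] at h1
    have h2 := h1 r (List.mem_range'_1.mpr ⟨hpos, by omega⟩)
    rw [Bool.or_eq_true, Bool.not_eq_true', decide_eq_true_eq] at h2
    rw [fastWord_eq' hG hR (hUr u hu) hr]
    rcases h2 with h3 | h3
    · rw [hs] at h3; exact absurd h3 (by simp)
    · exact h3
  · intro u hu i hi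
    obtain ⟨a, hal, rfl⟩ := List.mem_iff_getElem.mp hu
    have han : a < nxt.length := by rw [hC.len]; exact hal
    have hcl := hC.closed
    unfold stepClosedF at hcl
    rw [List.all_eq_true] at hcl
    have hmem : (U[a], nxt[a]) ∈ U.zip nxt := by
      rw [List.mem_iff_getElem]
      refine ⟨a, by simp [hal, han], by simp⟩
    have h1 := hcl _ hmem
    rw [Bool.and_eq_true, decide_eq_true_eq, List.all_eq_true] at h1
    obtain ⟨hlen, h2⟩ := h1
    obtain ⟨b, hbl, rfl⟩ := List.mem_iff_getElem.mp hi
    have hbn : b < nxt[a].length := by rw [hlen]; exact hbl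
    have hmem2 : (nxt[a][b], J[b]) ∈ nxt[a].zip J := by
      rw [List.mem_iff_getElem]
      refine ⟨b, by simp [hbl, hbn], by simp⟩
    have h3 := h2 _ hmem2
    have hur := hUr _ hu
    have hir := hJr _ hi
    have hiu : ∀ k ∈ J[b] :: U[a], k < D.rank := by
      intro k hk
      rcases List.mem_cons.mp hk with rfl | hk
      · exact hir
      · exact hur k hk
    unfold stepEntryF at h3
    split_ifs at h3 with hpar
    · rw [Bool.and_eq_true, decide_eq_true_eq, List.all_eq_true] at h3
      obtain ⟨hk, h4⟩ := h3
      left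
      refine ⟨U[nxt[a][b] / 2], List.getElem_mem hk, ?_⟩
      have hu'r := hUr _ (List.getElem_mem hk)
      apply reflWord_eq_of_simple hG hT h6 h8 h9 hiu hu'r
      intro k hkr
      have h5 := h4 k (List.mem_range.mpr hkr)
      rw [beq_iff_eq] at h5
      have hp := hG1.simple_lt hkr
      rw [fastWord_eq' hG hR hiu hp, fastWord_eq' hG hR hu'r hp, h5]
      congr 1
      simp [hk]
    · rw [Bool.and_eq_true, List.contains_iff_mem, List.all_eq_true] at h3
      obtain ⟨hj, h4⟩ := h3
      right
      refine ⟨nxt[a][b] / 2, hj, ?_⟩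
      have huj : ∀ k ∈ U[a] ++ [nxt[a][b] / 2], k < D.rank := by
        intro k hk
        rcases List.mem_append.mp hk with hk | hk
        · exact hur k hk
        · rw [List.mem_singleton] at hk; rw [hk]; exact hJ'r _ hj
      apply reflWord_eq_of_simple hG hT h6 h8 h9 hiu huj
      intro k hkr
      have h5 := h4 k (List.mem_range.mpr hkr)
      rw [beq_iff_eq] at h5
      have hp := hG1.simple_lt hkr
      rw [fastWord_eq' hG hR hiu hp, fastWord_eq' hG hR huj hp, h5]
  · intro w hw w' hw' hact
    apply List.inj_on_of_nodup_map hnd hw hw'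
    unfold keyF
    apply foldr_congr_mem
    intro i hi acc
    rw [List.mem_range] at hi
    have hp := hG1.simple_lt hi
    rw [← fastWord_eq' hG hR (hUr w hw) hp, ← fastWord_eq' hG hR (hUr w' hw') hp, hact _ hp]

include hG hT h6 h8 h9 hR hC in
/-- The step formula from a certificate. -/
theorem PS_step_cert {m : ℕ} {c : List ℕ}
    (hcount : U.map (nMinusF D R) = (List.range m).flatMap fun k => List.replicate (c.getD k 0) k)
    (q : ℕ) : PS D J q = ((List.range m).map fun k => c.getD k 0 * q ^ k).sum * PS D J' q := by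
  have hS := stepOK_of_cert hG hT h6 h8 h9 hR hC
  rw [PS_step hG hT h6 h8 hS q]
  congr 1
  have e : (U.map fun u => q ^ nMinus D u) = (U.map (nMinusF D R)).map fun x => q ^ x := by
    rw [List.map_map]
    apply List.map_congr_left
    intro u hu
    simp only [Function.comp_apply]
    rw [nMinus_eq' hG hR (fun i hi => hS.ltJ i (hS.words u hu i hi))]
  rw [e, hcount, sum_pow_flatMap]

end cert


end Cfsg.Agent.Helper7.Chev
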