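import Mathlib
import Cfsg.Agent.Helper7.ChevStepCert
import Cfsg.Agent.Helper7.ChevGood3
import Cfsg.Agent.Helper7.ChevTabE6
import Cfsg.Agent.Helper7.ChevMinus

set_option autoImplicit false
set_option maxRecDepth 1000000
set_option maxHeartbeats 4000000

/-! The table of the fundamental reflections of type E6. -/

namespace Cfsg.Agent.Helper7.Chev

open Cfsg Cfsg.Lie

def wR_E6 : ℕ × ℕ := (72, 0x47464543444240413e3f3d3b3c3a393837353633343230312f2e2c2d2b2a282927252623242122201e1f1d1c1a1b191816171513141112100f0e0d0b0c0a0809060705030402010047464445434142403f3d3e3c3a3b3938363735343233312f302e2d2b2c2a2927282422262125231f201e1d1b1c1a191718161415131210110f0e0c0d0b090a0807050604020301004745464443423f3e41403d3c3b393a3837343336353231302e2f2d2c2a2b262520292824231f1e2722211c1d1b1a181917161512111413100f0d0e0c0b0a0706090805040301020047464241404544433f3e3d3c3b3a383937363531302f3433322e2928271d2d2c2b2625242322211c1b1a2a201f1e191514131817161211100e0f0d0c0b0a0908040302070605010046474544434241403c3b3a3f3e3d39383736352d2c2b292827193433322a31302f2625242322211817161d1514132e201f1e1c1b1a1211100f0e0a09080d0c0b070605040302000147464544433736353433322d2c2b2a0f4241403f3e3d31302f2e3c3b3a39292827262524232221201f1e0e0d0c0b191817160a0908070605381d1c1b1a1514131211100403020100)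

theorem wReflfast_E6 : ∀ i < 6, ∀ r < 72, fastE6.refl (fastE6.simple i) r = fastRefl wR_E6 i r := by decide +kernel

theorem wRefl_E6 : ReflOK chevE6 wR_E6 := by
  intro i hi r hr
  change (tabOf chevE6).refl ((tabOf chevE6).simple i) r = _
  rw [tab_E6]
  exact wReflfast_E6 i hi r hr

def sJ_E6_0 : List ℕ := [0, 1, 2, 3, 4, 5]
def sJ_E6_1 : List ℕ := [1, 2, 3, 4, 5]
def sJ_E6_2 : List ℕ := [1, 2, 3, 4]
def sJ_E6_3 : List ℕ := [2, 3, 4]
def sJ_E6_4 : List ℕ := [3, 4]
def sJ_E6_5 : List ℕ := [4]
def sJ_E6_6 : List ℕ := []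

theorem T7nfast_E6 : fastE6.T7n := by decide +kernel

theorem T7n_E6 : (tabOf chevE6).T7n := tab_E6 ▸ T7nfast_E6

end Cfsg.Agent.Helper7.Chev
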