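import Mathlib
import Cfsg.Agent.Helper7.ChevStepCert
import Cfsg.Agent.Helper7.ChevGood3
import Cfsg.Agent.Helper7.ChevTabE7
import Cfsg.Agent.Helper7.ChevMinus

set_option autoImplicit false
set_option maxRecDepth 1000000
set_option maxHeartbeats 4000000

/-! The table of the fundamental reflections of type E7. -/

namespace Cfsg.Agent.Helper7.Chev

open Cfsg Cfsg.Lie

def wR_E7 : ℕ × ℕ := (126, 0x7d7c7b7a797778767573747270716e6f6d6c6a6b686967656664636162605f5e5d5c5a5b585957555654535152504f4e4c4d4b4a494748464543444240413e3f3c3d3b393a3837353634333230312f2e2d2b2c2a292728262425222321201f1e1d1b1c1a191718161415121311100e0f0c0d0b090a0807050604030201007d7c7b7a787977767475737172706f6d6e6b6c6a696768666465636260615f5e5d5b5c5a595758565455535250514f4e4d4b4c4a49484647454442433f3d413c403e3a3b393836373534333132302f2e2c2d2b2a282927252624232122201f1e1c1d1b1a1819171516141311120f100e0d0b0c0a080907060405030201007d7c7b797a787775767473726f6e71706d6c69686b6a676665636462615f605e5d5c59585b5a575655535452514f504e4d4c4a4b49484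7454641403b44433f3e3a39423d3c3738363534323331302f2d2e2c2b292a2827262322252421201f1d1e1c1b191a1817161312151411100d0c0f0e0b0a090708060503040201007d7c7a7b797877767271707574736f6e6d6c6b6a666564696867636261605e5f5d5c5b5a565554595857535251504e4f4d4c4b494a4443423848474641403f3e3d3c373635453b3a3933343231302e2f2d2c2b2a262524292827232221201e1f1d1c1b1a161514191817131211100f0e0a09080d0c0b07060504020301007d7b7c7a797877767574736c6b6a6968677271706f6e6d666564636261605f5d5e5c5b5a5958575251504f565554534e48474645344d4c4b4a44434241403f3e3d3c3b3a393332313049383736352f2a2928272e2d2c2b2625242322211f201e1d1c1b1a191817100f0e0d0c0b1615141312110a090807060504030102007d7c7b767574737a7978777271706f6e6d6c6b6a6968676261605f666564635e5d5c5b5a5958574d4c4b4a484746452f56555453495251504f44434241403f3e3d3c3b3a392e2d2c2b342a2928274e3837363533323130262524232221201f1a1918171e1d1c1b161514131211100f0e0d0c0b060504030a0908070201007c7d7b7a797877767574737271706f6e6d5c5b5a595857565554534d4c4b4a49206c6b6a696867666564635251504f4e6261605f5e4847464544434241403f3e3d3c3b3a39383736351f1e1d1c1b2f2e2d2c2b1a1918171615141312115d34333231302a292827262524232221100f0e0d0c0b0a09080706050403020001)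

theorem wReflfast_E7 : ∀ i < 7, ∀ r < 126, fastE7.refl (fastE7.simple i) r = fastRefl wR_E7 i r := by decide +kernel

theorem wRefl_E7 : ReflOK chevE7 wR_E7 := by
  intro i hi r hr
  change (tabOf chevE7).refl ((tabOf chevE7).simple i) r = _
  rw [tab_E7]
  exact wReflfast_E7 i hi r hr

def sJ_E7_0 : List ℕ := [0, 1, 2, 3, 4, 5, 6]
def sJ_E7_1 : List ℕ := [0, 1, 2, 3, 4, 5]
def sJ_E7_2 : List ℕ := [1, 2, 3, 4, 5]
def sJ_E7_3 : List ℕ := [1, 2, 3, 4]
def sJ_E7_4 : List ℕ := [2, 3, 4]
def sJ_E7_5 : List ℕ := [3, 4]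
def sJ_E7_6 : List ℕ := [4]
def sJ_E7_7 : List ℕ := []

theorem T7nfast_E7 : fastE7.T7n := by decide +kernel

theorem T7n_E7 : (tabOf chevE7).T7n := tab_E7 ▸ T7nfast_E7

end Cfsg.Agent.Helper7.Chev
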