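import Mathlib
import Cfsg.Agent.Helper7.ChevWCert
import Cfsg.Agent.Helper7.ChevGood3

set_option autoImplicit false
set_option maxRecDepth 1000000
set_option maxHeartbeats 4000000

/-! The elements of the Weyl group of type B2 as words, with the parts of the certificate. -/

namespace Cfsg.Agent.Helper7.Chev

open Cfsg Cfsg.Lie

def wR_B2 : ℕ × ℕ := (8, 0x7050603040102000406020700050103)
def wL_B2 : List (List ℕ) := [[], [0], [1], [0, 1], [1, 0], [0, 1, 0], [1, 0, 1], [0, 1, 0, 1]]
def wN_B2 : List (List ℕ) := [[1, 2], [0, 4], [3, 0], [2, 6], [5, 1], [4, 7], [7, 3], [6, 5]]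
def wC_B2 : List ℕ := [1, 2, 2, 2, 1]
def wK_B2 : List ℕ := [1029, 1794, 774, 6, 1793, 1025, 5, 770]

theorem wRefl_B2 : ∀ i < chevB2.rank, ∀ r < chevB2.nroots, (tabOf chevB2).refl (chevB2.simple i) r = fastRefl wR_B2 i r := by decide +kernel

theorem wOk_B2 : (wL_B2.all fun w => w.all (fun i => decide (i < chevB2.rank)) && prefixPosF chevB2 wR_B2 w) = true := by decide +kernel

theorem wKeys_B2 : wL_B2.map (keyF chevB2 wR_B2) = wK_B2 := by decide +kernel

theorem wNodup_B2 : nodupB wK_B2 = true := by decide +kernel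

theorem T7n_B2 : (tabOf chevB2).T7n := by decide +kernel

theorem wCount_B2 : wL_B2.map (nMinusF chevB2 wR_B2) = (List.range 5).flatMap (fun k => List.replicate (wC_B2.getD k 0) k) := by decide +kernel

end Cfsg.Agent.Helper7.Chev
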