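import Mathlib
import Cfsg.Agent.Helper7.ChevPoincare
import Cfsg.Agent.Helper7.ChevCardH
import Cfsg.Agent.Helper7.ChevGood3
import Cfsg.Agent.Helper7.ChevT5
import Cfsg.Agent.Helper7.ChevT6
import Cfsg.Agent.Helper7.ChevT7
import Cfsg.Agent.Helper7.ChevT9
import Cfsg.Agent.Helper7.ChevSE6
import Cfsg.Agent.Helper7.ChevSE7
import Cfsg.Agent.Helper7.ChevSE8
import Cfsg.Agent.Helper7.ChevWB2
import Cfsg.Agent.Helper7.ChevWD4
import Cfsg.Agent.Helper7.ChevWF4
import Cfsg.Agent.Helper7.ChevWG2

set_option autoImplicit false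
set_option linter.unusedSectionVars false
set_option linter.unusedVariables false

/-!
The subgroup `U` of a Chevalley group over a finite field of characteristic `p` is a Sylow `p`-subgroup.
-/

namespace Cfsg.Agent.Helper7.Chev

open Cfsg Cfsg.Lie Matrix

variable {D : ChevalleyDatum}

section ps

variable (hG : Good2 D) (hT : T0 D) (h6 : (tabOf D).T6) (h8 : (tabOf D).T8)

include hG hT h6 h8 in
/-- The Poincaré polynomial at a multiple of `p` is `1` modulo `p`. -/
theorem PS_mod {J : List ℕ} (hJ : ∀ j ∈ J, j < D.rank) {q p : ℕ} (hp : p ∣ q) :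
    PS D J q % p = 1 % p := by
  classical
  unfold PS
  have hid : actF D [] ∈ WJ D J := mem_WJ.mpr ⟨[], by simp, rfl⟩
  rw [← Finset.add_sum_erase _ _ hid]
  have h0 : nSigma D (actF D []) = 0 := by
    rw [nSigma_actF hG (by simp)]
    rw [nMinus_eq_card, Finset.card_eq_zero]
    unfold negSet
    rw [Finset.filter_eq_empty_iff]
    rintro r _ ⟨h1, h2⟩
    have e : (tabOf D).reflWord [] r = r := rfl
    rw [e] at h2
    omega
  rw [h0, pow_zero]
  have hrest : p ∣ ∑ σ ∈ (WJ D J).erase (actF D []), q ^ nSigma D σ := by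
    apply Finset.dvd_sum
    intro σ hσ
    rw [Finset.mem_erase] at hσ
    obtain ⟨v, hv, rfl⟩ := mem_WJ.mp hσ.2
    have hvr : ∀ i ∈ v, i < D.rank := fun i hi => hJ i (hv i hi)
    have hne : nSigma D (actF D v) ≠ 0 := by
      intro h
      rw [nSigma_actF hG hvr] at h
      apply hσ.1
      rw [actF_eq_iff hG hvr (by simp)]
      intro r hr
      rw [reflWord_eq_self_of_nMinus_eq_zero hG hT h6 h8 hvr h r hr]
      rfl
    exact dvd_trans hp (dvd_pow_self q hne)
  obtain ⟨c, hc⟩ := hrest
  rw [hc, Nat.add_mul_mod_self_left]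

end ps

section sylow

variable {F : Type*} [Field F]
variable (hG : Good2 D) (hT : T0 D) (h3 : (tabOf D).T3) (h4 : (tabOf D).T4 60) (h5 : (tabOf D).T5)
  (h6 : (tabOf D).T6) (h7 : (tabOf D).T7) (h7n : (tabOf D).T7n) (h8 : (tabOf D).T8)
  (h9 : (tabOf D).T9)

include hG hT h3 h4 h5 h6 h7 h7n h8 h9 in
/-- `U` is a Sylow `p`-subgroup of the Chevalley group. -/
theorem exists_sylow_posUnipotent [Fintype F] (p : ℕ) [Fact p.Prime] [CharP F p] :
    ∃ P : Sylow p ↥(D.group F), (P : Subgroup ↥(D.group F)) = (D.posUnipotent F).subgroupOf (D.group F) := by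
  classical
  have hp : p.Prime := Fact.out
  obtain ⟨k, _, hq⟩ := FiniteField.card F p
  have hUG : D.posUnipotent F ≤ D.group F :=
    le_trans le_sup_left (borelSubgroup_le_group hG.toGood1)
  have hcardU : Nat.card ((D.posUnipotent F).subgroupOf (D.group F)) = Fintype.card F ^ (D.nroots / 2) := by
    rw [Nat.card_congr (Subgroup.subgroupOfEquivOfLe hUG).toEquiv]
    exact card_posUnipotent hG hT h3 h4 h7 h8
  have hcard := card_group_PS (F := F) hG hT h3 h4 h5 h6 h7 h7n h8 h9
  have hpq : p ∣ Fintype.card F := by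
    rw [hq]
    exact dvd_pow_self p k.ne_zero
  -- `p` does not divide the order of `H`
  have hH : ¬ p ∣ Nat.card (D.diagonalSubgroup F) := by
    intro hdvd
    rw [← torusHom_range hG.toGood1] at hdvd
    have h1 : Nat.card (torusHom D F).range ∣ Nat.card (Fin D.rank → Fˣ) := Subgroup.card_range_dvd _
    have h2 : Nat.card (Fin D.rank → Fˣ) = (Fintype.card F - 1) ^ D.rank := by
      rw [Nat.card_eq_fintype_card, Fintype.card_fun, Fintype.card_units, Fintype.card_fin]
    rw [h2] at h1
    have h3 : p ∣ Fintype.card F - 1 := hp.dvd_of_dvd_pow (dvd_trans hdvd h1)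
    have hpos : 0 < Fintype.card F := Fintype.card_pos
    have : p ∣ 1 := by
      have h4 : Fintype.card F - 1 + 1 = Fintype.card F := by omega
      have := (Nat.dvd_add_right h3).mp (h4 ▸ hpq)
      exact this
    exact hp.one_lt.ne' (Nat.dvd_one.mp this)
  have hPS : ¬ p ∣ PS D (List.range D.rank) (Fintype.card F) := by
    intro hdvd
    have := PS_mod hG hT h6 h8 (J := List.range D.rank) (fun j hj => List.mem_range.mp hj) hpq
    rw [Nat.mod_eq_zero_of_dvd hdvd, Nat.mod_eq_of_lt hp.one_lt] at this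
    exact zero_ne_one this
  have hfac : (Nat.card ↥(D.group F)).factorization p = k * (D.nroots / 2) := by
    rw [hcard, hq, ← pow_mul]
    have hne1 : p ^ ((k : ℕ) * (D.nroots / 2)) ≠ 0 := pow_ne_zero _ hp.ne_zero
    have hne2 : Nat.card (D.diagonalSubgroup F) ≠ 0 := Nat.card_pos.ne'
    have hne3 : PS D (List.range D.rank) (p ^ (k : ℕ)) ≠ 0 := by
      intro h
      apply hPS
      rw [hq, h]
      exact dvd_zero p
    rw [Nat.factorization_mul (mul_ne_zero hne1 hne2) hne3, Nat.factorization_mul hne1 hne2]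
    simp only [Finsupp.coe_add, Pi.add_apply]
    rw [Nat.Prime.factorization_pow hp, Nat.factorization_eq_zero_of_not_dvd hH]
    rw [hq] at hPS
    rw [Nat.factorization_eq_zero_of_not_dvd hPS]
    simp
  have hcardU' : Nat.card ((D.posUnipotent F).subgroupOf (D.group F)) =
      p ^ (Nat.card ↥(D.group F)).factorization p := by
    rw [hcardU, hfac, hq, pow_mul]
  exact ⟨Sylow.ofCard _ hcardU', Sylow.coe_ofCard _ hcardU'⟩

end sylow

/-- The statement of S2326. -/
theorem chev_S2326 {F : Type*} [Field F] [Fintype F] (p : ℕ) [Fact p.Prime] [CharP F p]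
    (D : ChevalleyDatum) (hD : D ∈ [chevG2, chevB2, chevD4, chevF4, chevE6, chevE7, chevE8]) :
    ∃ P : Sylow p ↥(D.group F), (P : Subgroup ↥(D.group F)) = (D.posUnipotent F).subgroupOf (D.group F) := by
  have hG := good3_of_mem D hD
  have hT := T0_of_mem D hD
  have h5 := T5_of_mem D hD
  have h6 := T6_of_mem D hD
  have h7 := T7_of_mem D hD
  have h8 := T8_of_mem D hD
  have h9 := T9_of_mem D hD
  have h7n : (tabOf D).T7n := by
    simp only [List.mem_cons, List.not_mem_nil, or_false] at hD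
    rcases hD with rfl | rfl | rfl | rfl | rfl | rfl | rfl
    · exact T7n_G2
    · exact T7n_B2
    · exact T7n_D4
    · exact T7n_F4
    · exact T7n_E6
    · exact T7n_E7
    · exact T7n_E8
  exact exists_sylow_posUnipotent hG.toGood2 hT hG.t3 hG.t4 h5 h6 h7 h7n h8 h9 p

end Cfsg.Agent.Helper7.Chev
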