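import Mathlib
import Cfsg.Agent.Helper7.ChevParab
import Cfsg.Agent.Helper7.ChevPara

set_option autoImplicit false
set_option linter.unusedSectionVars false
set_option linter.unusedVariables false

/-!
Levi decomposition of the standard parabolic subgroups, first part: `P_J` normalises `U_J` and
`P_J = U_J L_J`.
-/

namespace Cfsg.Agent.Helper7.Chev

open Cfsg Cfsg.Lie Matrix

namespace Tab

variable (T : Tab)

/-- The commutator terms of two positive roots `r ≠ s` are positive roots whose coroots involve every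
fundamental coroot involved in that of `s` but not in that of `r`. -/
def T14 : Prop :=
  AllLt T.n (fun r => T.n / 2 ≤ r → AllLt T.n (fun s => T.n / 2 ≤ s → s ≠ r →
    (T.commTerms r s).all (fun c => decide (T.n / 2 ≤ c.1 ∧ c.1 < T.n ∧
      AllLt T.l (fun k => T.cr r k = 0 → T.cr s k ≠ 0 → T.cr c.1 k ≠ 0))) = true))

instance : Decidable T.T14 := by unfold T14; infer_instance

end Tab

variable {D : ChevalleyDatum} {F : Type*} [Field F]

section levi

variable (hG : Good2 D) (hT : T0 D) (h3 : (tabOf D).T3) (h4 : (tabOf D).T4 60)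
  (h6 : (tabOf D).T6) (h9 : (tabOf D).T9) (h14 : (tabOf D).T14)

/-- The roots of `U_J`. -/
def InRad (D : ChevalleyDatum) (J : Set ℕ) (r : ℕ) : Prop := D.IsPosRoot r ∧ ¬ D.InRootSub J r

theorem unipotentRadical_eq (J : Set ℕ) :
    D.unipotentRadical F J = Subgroup.closure (rootGen D F (InRad D J)) := by
  unfold ChevalleyDatum.unipotentRadical rootGen InRad
  congr 1
  ext g
  constructor
  · rintro ⟨r, t, h1, h2, h3⟩
    exact ⟨r, t, ⟨h1, h2⟩, h3⟩
  · rintro ⟨r, t, ⟨h1, h2⟩, h3⟩
    exact ⟨r, t, h1, h2, h3⟩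

include hG in
/-- A word in root elements of roots of `U_J` lies in `U_J`. -/
theorem wordGL_mem_rad {J : Set ℕ} (w : List (ℕ × F)) (hw : ∀ q ∈ w, InRad D J q.1) :
    (w.map (xGL' hG.toGood1)).prod ∈ Subgroup.closure (rootGen D F (InRad D J)) := by
  apply Subgroup.list_prod_mem
  intro x hx
  rw [List.mem_map] at hx
  obtain ⟨q, hq, rfl⟩ := hx
  apply Subgroup.subset_closure
  exact ⟨q.1, q.2, hw q hq, xGL'_coe _ q⟩

include hG hT h3 h4 h14 in
/-- Conjugating a generator of `U_J` by a root element of a positive root of `Φ_J`. -/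
theorem conj_mem_rad {J : Set ℕ} {r s : ℕ} (hrpos : D.IsPosRoot r) (hrJ : D.InRootSub J r)
    (hs : InRad D J s) (t u : F) :
    (xGL hG.toGood1 hrpos.1 t)⁻¹ * xGL hG.toGood1 hs.1.1 u * xGL hG.toGood1 hrpos.1 t ∈
      Subgroup.closure (rootGen D F (InRad D J)) := by
  have hG1 := hG.toGood1
  have hr := hrpos.1
  have hsl := hs.1.1
  have hrp := (isPosRoot_iff hT hr).mp hrpos
  have hsp := (isPosRoot_iff hT hsl).mp hs.1
  have hsr : s ≠ r := by
    rintro rfl
    exact hs.2 hrJ
  have hsn : s ≠ D.neg r := by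
    intro h
    have := ((hT r hr).2.1 hrpos).2
    omega
  have hc := comm_all (F := F) hG h3 h4 hr hsl hsr hsn t u
  have hterms := h14 r hr hrp s hsl hsp hsr
  rw [List.all_eq_true] at hterms
  -- a fundamental coroot involved in `s` but not in `r`
  have hk : ∃ k < D.rank, k ∉ J ∧ cr D s k ≠ 0 := by
    by_contra hcon
    push Not at hcon
    exact hs.2 ⟨hsl, fun i hi hiJ => hcon i hi hiJ⟩
  obtain ⟨k, hk, hkJ, hks⟩ := hk
  have hkr : cr D r k = 0 := hrJ.2 k hk hkJ
  have hw : ∀ q ∈ D.commWord F r s t u, InRad D J q.1 := by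
    intro q hq
    unfold ChevalleyDatum.commWord at hq
    rw [List.mem_map] at hq
    obtain ⟨c, hc', rfl⟩ := hq
    rw [← commTerms_eq] at hc'
    obtain ⟨c1, c2, c3⟩ := of_decide_eq_true (hterms c hc')
    have c2' : c.1 < D.nroots := c2
    refine ⟨(isPosRoot_iff hT c2').mpr c1, fun hcJ => ?_⟩
    exact c3 k hk hkr hks (hcJ.2 k hk hkJ)
  have e : (xGL hG1 hr t)⁻¹ * xGL hG1 hsl u * xGL hG1 hr t =
      xGL hG1 hsl u * ((D.commWord F r s t u).map (xGL' hG1)).prod := by
    rw [mul_assoc, inv_mul_eq_iff_eq_mul]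
    apply Units.ext
    rw [Units.val_mul, Units.val_mul, Units.val_mul, xGL_coe, xGL_coe, wordGL_coe, hc, mul_assoc]
  rw [e]
  apply mul_mem
  · apply Subgroup.subset_closure
    exact ⟨s, u, hs, xGL_coe hG1 hsl u⟩
  · exact wordGL_mem_rad hG _ hw

include hG hT h3 h4 h14 in
/-- `U` normalises `U_J`. -/
theorem posUnipotent_le_normalizer_rad (J : Set ℕ) :
    D.posUnipotent F ≤
      Subgroup.normalizer (Subgroup.closure (rootGen D F (InRad D J)) : Set (GL D.Idx F)) := by
  classical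
  have hG1 := hG.toGood1
  unfold ChevalleyDatum.posUnipotent
  rw [Subgroup.closure_le]
  rintro g ⟨r, t, hrpos, hg⟩
  have hr := hrpos.1
  have hg' : g = xGL hG1 hr t := eq_xGL hG1 hr hg
  by_cases hrJ : D.InRootSub J r
  · apply mem_normalizer_closure
    · rintro x ⟨s, u, hs, hx⟩
      have hx' : x = xGL hG1 hs.1.1 u := eq_xGL hG1 hs.1.1 hx
      have := conj_mem_rad hG hT h3 h4 h14 hrpos hrJ hs (-t) u
      rw [← xGL_inv, inv_inv] at this
      rw [hg', hx']
      exact this
    · rintro x ⟨s, u, hs, hx⟩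
      have hx' : x = xGL hG1 hs.1.1 u := eq_xGL hG1 hs.1.1 hx
      rw [hg', hx']
      exact conj_mem_rad hG hT h3 h4 h14 hrpos hrJ hs t u
  · apply Subgroup.le_normalizer
    exact Subgroup.subset_closure ⟨r, t, ⟨hrpos, hrJ⟩, hg⟩

include hG hT h6 in
/-- `n_j`, `j ∈ J`, normalises `U_J`. -/
theorem nGL_mem_normalizer_rad {J : Set ℕ} {j : ℕ} (hj : j < D.rank) (hjJ : j ∈ J) :
    nGL hG.toGood1 (hG.toGood1.simple_lt hj) ∈
      Subgroup.normalizer (Subgroup.closure (rootGen D F (InRad D J)) : Set (GL D.Idx F)) := by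
  have hG1 := hG.toGood1
  have hp := hG1.simple_lt hj
  have hpJ : D.InRootSub J (D.simple j) := inRootSub_simple hG hj hjJ
  have hmove : ∀ s : ℕ, InRad D J s → InRad D J ((tabOf D).refl (D.simple j) s) := by
    intro s hs
    have hsl := hs.1.1
    have hsp : s ≠ D.simple j := by
      rintro rfl
      exact hs.2 hpJ
    have k1 := (h6 j hj s hsl ((isPosRoot_iff hT hsl).mp hs.1) hsp).1
    refine ⟨(isPosRoot_iff hT (hG.refl_lt hj hsl)).mpr k1, fun hJ => ?_⟩
    apply hs.2
    have := inRootSub_refl hG hJ hj hjJ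
    rwa [hG.refl_refl hj hsl] at this
  apply mem_normalizer_closure
  · rintro x ⟨s, u, hs, hx⟩
    have hsl := hs.1.1
    have hws := hG.refl_lt hj hsl
    have : nGL hG1 hp * x * (nGL hG1 hp)⁻¹ =
        xGL hG1 hws ((((tabOf D).eta (D.simple j) s : ℤ) : F) * u) := by
      rw [mul_inv_eq_iff_eq_mul]
      apply Units.ext
      rw [Units.val_mul, Units.val_mul, nGL_coe, hx, xGL_coe, nMat_mul_x hG hj hsl]
    rw [this]
    exact Subgroup.subset_closure ⟨_, _, hmove s hs, xGL_coe hG1 hws _⟩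
  · rintro x ⟨s, u, hs, hx⟩
    have hsl := hs.1.1
    have hws := hG.refl_lt hj hsl
    have hη := eta_sq hG1 hp hws
    have : (nGL hG1 hp)⁻¹ * x * nGL hG1 hp =
        xGL hG1 hws ((((tabOf D).eta (D.simple j) ((tabOf D).refl (D.simple j) s) : ℤ) : F) * u) := by
      rw [mul_assoc, inv_mul_eq_iff_eq_mul]
      apply Units.ext
      rw [Units.val_mul, Units.val_mul, nGL_coe, hx, xGL_coe, nMat_mul_x hG hj hws,
        hG.refl_refl hj hsl, ← mul_assoc, ← Int.cast_mul, hη, Int.cast_one, one_mul]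
    rw [this]
    exact Subgroup.subset_closure ⟨_, _, hmove s hs, xGL_coe hG1 hws _⟩

include hG hT h3 h4 h6 h14 in
/-- `P_J` normalises `U_J`. -/
theorem parabolic_le_normalizer_rad (J : Set ℕ) :
    D.parabolicSubgroup F J ≤ Subgroup.normalizer (D.unipotentRadical F J : Set (GL D.Idx F)) := by
  have hG1 := hG.toGood1
  rw [unipotentRadical_eq]
  unfold ChevalleyDatum.parabolicSubgroup ChevalleyDatum.borelSubgroup
  refine sup_le (sup_le ?_ ?_) ?_
  · exact posUnipotent_le_normalizer_rad hG hT h3 h4 h14 J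
  · exact diagonalSubgroup_le_normalizer hG (fun r hr => hr.1.1)
  · rw [Subgroup.closure_le]
    rintro g ⟨j, hjJ, hj, hg⟩
    have hg' : g = nGL hG1 (hG1.simple_lt hj) :=
      Units.ext (hg.trans (nGL_coe hG1 (hG1.simple_lt hj)).symm)
    rw [hg']
    exact nGL_mem_normalizer_rad hG hT h6 hj hjJ

include hG hT h9 in
/-- `P_J = U_J L_J`. -/
theorem rad_sup_levi (J : Set ℕ) :
    D.unipotentRadical F J ⊔ D.leviSubgroup F J = D.parabolicSubgroup F J := by
  classical
  rw [parabolic_eq hG hT h9, unipotentRadical_eq]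
  unfold ChevalleyDatum.leviSubgroup
  have e : Subgroup.closure (rootGen D F (fun r => D.IsPosRoot r ∨ D.InRootSub J r)) =
      Subgroup.closure (rootGen D F (InRad D J)) ⊔
        Subgroup.closure {g : GL D.Idx F | ∃ (r : ℕ) (t : F), D.InRootSub J r ∧
          (g : Matrix D.Idx D.Idx F) = D.x F r t} := by
    rw [← Subgroup.closure_union]
    congr 1
    ext g
    constructor
    · rintro ⟨r, t, hr, hg⟩
      by_cases hrJ : D.InRootSub J r
      · exact Or.inr ⟨r, t, hrJ, hg⟩
      · rcases hr with hr | hr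
        · exact Or.inl ⟨r, t, ⟨hr, hrJ⟩, hg⟩
        · exact absurd hr hrJ
    · rintro (⟨r, t, hr, hg⟩ | ⟨r, t, hr, hg⟩)
      · exact ⟨r, t, Or.inl hr.1, hg⟩
      · exact ⟨r, t, Or.inr hr, hg⟩
  rw [e]
  rw [← sup_assoc, sup_comm (Subgroup.closure (rootGen D F (InRad D J))), sup_assoc]

end levi

end Cfsg.Agent.Helper7.Chev
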