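import Mathlib
import Cfsg.Agent.Helper7.ChevLevi1

set_option autoImplicit false
set_option linter.unusedSectionVars false
set_option linter.unusedVariables false

/-!
Levi decomposition of the standard parabolic subgroups, second part: `U_J ∩ L_J = 1`, by a grading
of the module by the height outside `J`.
-/

namespace Cfsg.Agent.Helper7.Chev

open Cfsg Cfsg.Lie Matrix Cfsg.Agent.Helper7.Tri

namespace Tab

variable (T : Tab)

/-- A multiple of the `k`-th coordinate of the root `s` on the fundamental roots, computed from the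
Cartan integers by means of a multiple `W` of the inverse Cartan matrix. -/
def wt (W : List (List ℤ)) (k s : ℕ) : ℤ :=
  ((List.range T.l).map fun i => (W.getD k []).getD i 0 * T.cartan i s).sum

/-- For a positive root the coordinates `wt` are non-negative and vanish exactly where the coordinates
of the coroot vanish. -/
def T16 (W : List (List ℤ)) : Prop :=
  AllLt T.n (fun s => T.n / 2 ≤ s →
    AllLt T.l (fun k => 0 ≤ T.wt W k s ∧ (T.wt W k s = 0 ↔ T.cr s k = 0)))

instance (W : List (List ℤ)) : Decidable (T.T16 W) := by unfold T16; infer_instance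

end Tab

variable {D : ChevalleyDatum} {F : Type*} [Field F]

section generic

variable {ι : Type*} [Fintype ι] [DecidableEq ι]

/-- The non-zero entries of the matrix join indices of the same level. -/
def LevelPres (lvl : ι → ℕ) (A : Matrix ι ι F) : Prop := ∀ i j, A i j ≠ 0 → lvl i = lvl j

theorem LevelPres.mul {lvl : ι → ℕ} {A B : Matrix ι ι F} (hA : LevelPres lvl A)
    (hB : LevelPres lvl B) : LevelPres lvl (A * B) := by
  intro i j h
  rw [Matrix.mul_apply] at h
  obtain ⟨k, _, hk⟩ := Finset.exists_ne_zero_of_sum_ne_zero h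
  have h1 : A i k ≠ 0 := left_ne_zero_of_mul hk
  have h2 : B k j ≠ 0 := right_ne_zero_of_mul hk
  rw [hA i k h1, hB k j h2]

theorem LevelPres.one (lvl : ι → ℕ) : LevelPres lvl (1 : Matrix ι ι F) := by
  intro i j h
  by_cases hij : i = j
  · rw [hij]
  · exact absurd (Matrix.one_apply_ne hij) h

theorem LevelPres.diagonal (lvl : ι → ℕ) (d : ι → F) : LevelPres lvl (Matrix.diagonal d) := by
  intro i j h
  by_cases hij : i = j
  · rw [hij]
  · exact absurd (Matrix.diagonal_apply_ne d hij) h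

/-- The group of invertible matrices preserving the levels. -/
def levelGroup (F : Type*) [Field F] (lvl : ι → ℕ) : Subgroup (GL ι F) where
  carrier := {g | LevelPres lvl (g : Matrix ι ι F) ∧ LevelPres lvl ((g⁻¹ : GL ι F) : Matrix ι ι F)}
  mul_mem' := by
    rintro a b ⟨ha, ha'⟩ ⟨hb, hb'⟩
    refine ⟨?_, ?_⟩
    · rw [Units.val_mul]; exact ha.mul hb
    · rw [_root_.mul_inv_rev, Units.val_mul]; exact hb'.mul ha'
  one_mem' := by
    refine ⟨?_, ?_⟩
    · rw [Units.val_one]; exact LevelPres.one lvl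
    · rw [inv_one, Units.val_one]; exact LevelPres.one lvl
  inv_mem' := by
    rintro a ⟨ha, ha'⟩
    refine ⟨ha', ?_⟩
    rw [inv_inv]; exact ha

/-- A matrix which preserves the levels and is unitriangular for the levels is the identity. -/
theorem eq_one_of_mem_levelGroup_of_mem_UTk {lvl : ι → ℕ} {g : GL ι F}
    (h1 : g ∈ levelGroup F lvl) (h2 : g ∈ UTk F lvl 0) : g = 1 := by
  apply Units.ext
  rw [Units.val_one]
  ext i j
  by_contra hne
  have h0 : ((g : Matrix ι ι F) - 1) i j ≠ 0 := by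
    rw [Matrix.sub_apply]
    exact sub_ne_zero.mpr hne
  have hr : lvl j + 1 ≤ lvl i := h2 i j h0
  have hij : i ≠ j := by
    rintro rfl
    omega
  rw [Matrix.sub_apply, Matrix.one_apply_ne hij, sub_zero] at h0
  have := h1.1 i j h0
  omega

end generic

section grading

variable (hG : Good2 D) (hT : T0 D) {W : List (List ℤ)} (h16 : (tabOf D).T16 W)

include hG in
/-- Additivity of `wt` along the chains. -/
theorem wt_chain {r s : ℕ} (hr : r < D.nroots) (hs : s < D.nroots) (k : ℕ)
    {q : (ℕ × ℤ) × ℕ} (hq : q ∈ (D.chainEntry r s).zipIdx) :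
    (tabOf D).wt W k q.1.1 = (tabOf D).wt W k s + ((q.2 + 1 : ℕ) : ℤ) * (tabOf D).wt W k r := by
  unfold Tab.wt
  rw [list_range_sum_eq, list_range_sum_eq, list_range_sum_eq, Finset.mul_sum,
    ← Finset.sum_add_distrib]
  apply Finset.sum_congr rfl
  intro i hi
  rw [Finset.mem_range] at hi
  have := hG.t15 r hr s hs i hi q hq
  rw [this]
  ring

include hG in
theorem wt_neg {r : ℕ} (hr : r < D.nroots) (k : ℕ) :
    (tabOf D).wt W k (D.neg r) = - (tabOf D).wt W k r := by
  unfold Tab.wt
  rw [list_range_sum_eq, list_range_sum_eq, ← Finset.sum_neg_distrib]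
  apply Finset.sum_congr rfl
  intro i hi
  rw [Finset.mem_range] at hi
  have : (tabOf D).cartan i (D.neg r) = - (tabOf D).cartan i r := hG.toGood1.cartan_neg hr hi
  rw [this]
  ring

open Classical in
/-- The height of a root outside `J` (up to a positive factor). -/
noncomputable def fJ (D : ChevalleyDatum) (W : List (List ℤ)) (J : Set ℕ) (s : ℕ) : ℤ :=
  ∑ k ∈ Finset.range D.rank, if k ∈ J then 0 else (tabOf D).wt W k s

include hG in
theorem fJ_chain (J : Set ℕ) {r s : ℕ} (hr : r < D.nroots) (hs : s < D.nroots)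
    {q : (ℕ × ℤ) × ℕ} (hq : q ∈ (D.chainEntry r s).zipIdx) :
    fJ D W J q.1.1 = fJ D W J s + ((q.2 + 1 : ℕ) : ℤ) * fJ D W J r := by
  unfold fJ
  rw [Finset.mul_sum, ← Finset.sum_add_distrib]
  apply Finset.sum_congr rfl
  intro k _
  split_ifs
  · simp
  · exact wt_chain hG hr hs k hq

include hG in
theorem fJ_neg (J : Set ℕ) {r : ℕ} (hr : r < D.nroots) :
    fJ D W J (D.neg r) = - fJ D W J r := by
  unfold fJ
  rw [← Finset.sum_neg_distrib]
  apply Finset.sum_congr rfl
  intro k _
  split_ifs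
  · simp
  · exact wt_neg hG hr k

include h16 in
theorem fJ_nonneg (J : Set ℕ) {s : ℕ} (hs : s < D.nroots) (hpos : D.nroots / 2 ≤ s) :
    0 ≤ fJ D W J s := by
  unfold fJ
  apply Finset.sum_nonneg
  intro k hk
  rw [Finset.mem_range] at hk
  split_ifs
  · exact le_refl _
  · exact (h16 s hs hpos k hk).1

include h16 in
theorem fJ_eq_zero_iff (J : Set ℕ) {s : ℕ} (hs : s < D.nroots) (hpos : D.nroots / 2 ≤ s) :
    fJ D W J s = 0 ↔ D.InRootSub J s := by
  unfold fJ
  rw [Finset.sum_eq_zero_iff_of_nonneg]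
  · constructor
    · intro h
      refine ⟨hs, fun i hi hiJ => ?_⟩
      have := h i (Finset.mem_range.mpr hi)
      rw [if_neg hiJ] at this
      exact (h16 s hs hpos i hi).2.mp this
    · intro h k hk
      rw [Finset.mem_range] at hk
      split_ifs with hkJ
      · rfl
      · exact (h16 s hs hpos k hk).2.mpr (h.2 k hk hkJ)
  · intro k hk
    rw [Finset.mem_range] at hk
    split_ifs
    · exact le_refl _
    · exact (h16 s hs hpos k hk).1

include hG hT h16 in
/-- The roots of `Φ_J` have height zero outside `J`. -/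
theorem fJ_eq_zero_of_inRootSub {J : Set ℕ} {r : ℕ} (hr : D.InRootSub J r) : fJ D W J r = 0 := by
  have hG1 := hG.toGood1
  have hrl := hr.1
  by_cases hpos : D.nroots / 2 ≤ r
  · exact (fJ_eq_zero_iff h16 J hrl hpos).mpr hr
  · have hnr := hG1.neg_lt hrl
    have hnpos : D.nroots / 2 ≤ D.neg r :=
      ((hT r hrl).2.2.1 ((isNegRoot_iff hT hrl).mpr (by omega))).2
    have h0 := (fJ_eq_zero_iff h16 J hnr hnpos).mpr (inRootSub_neg hG hr)
    have := fJ_neg (W := W) hG J hnr
    rw [hG1.neg_neg hrl, h0] at this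
    rw [this]; rfl

/-- The height outside `J` of a basis vector of the module. -/
noncomputable def fI (D : ChevalleyDatum) (W : List (List ℤ)) (J : Set ℕ) : D.Idx → ℤ
  | Sum.inl _ => 0
  | Sum.inr s => fJ D W J s.val

/-- The shifted height, a natural number. -/
noncomputable def lvlJ (D : ChevalleyDatum) (W : List (List ℤ)) (J : Set ℕ) (v : D.Idx) : ℕ :=
  (fI D W J v + ∑ u : D.Idx, ((fI D W J u).natAbs : ℤ)).toNat

theorem lvlJ_cast (J : Set ℕ) (v : D.Idx) :
    ((lvlJ D W J v : ℕ) : ℤ) = fI D W J v + ∑ u : D.Idx, ((fI D W J u).natAbs : ℤ) := by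
  unfold lvlJ
  apply Int.toNat_of_nonneg
  have h1 : ((fI D W J v).natAbs : ℤ) ≤ ∑ u : D.Idx, ((fI D W J u).natAbs : ℤ) :=
    Finset.single_le_sum (f := fun u => ((fI D W J u).natAbs : ℤ)) (fun _ _ => by positivity)
      (Finset.mem_univ v)
  have h2 : -((fI D W J v).natAbs : ℤ) ≤ fI D W J v := by
    rw [Int.natCast_natAbs]; exact neg_abs_le _
  omega

include hG in
/-- The entries of `x_r(t) - 1` raise the height by a positive multiple of the height of `r`. -/
theorem xMat_sub_one_height (J : Set ℕ) (r : Fin D.nroots) (t : F) (row col : D.Idx)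
    (h : (D.xMat F r t - 1) row col ≠ 0) :
    ∃ m : ℕ, 1 ≤ m ∧ fI D W J row = fI D W J col + (m : ℤ) * fJ D W J r.val := by
  have hG1 := hG.toGood1
  rcases xMat_sub_one_apply_ne_zero D r t row col h with ⟨i, rfl, rfl⟩ |
    ⟨s, hs1, hs2, rfl, (⟨i, rfl⟩ | rfl)⟩ | ⟨s, u, rfl, rfl, hne⟩
  · exact ⟨1, le_refl _, by simp [fI]⟩
  · refine ⟨1, le_refl _, ?_⟩
    simp only [fI]
    rw [hs2, fJ_neg hG J r.2]
    ring
  · refine ⟨2, by norm_num, ?_⟩
    simp only [fI]
    rw [hs2, fJ_neg hG J r.2]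
    push_cast
    ring
  · rw [chainCoeff_eq (hG1.keysNodup r.2)] at hne
    obtain ⟨x, hx⟩ := List.exists_mem_of_ne_nil _ hne
    rw [List.mem_map] at hx
    obtain ⟨q, hq, _⟩ := hx
    rw [List.mem_filter] at hq
    obtain ⟨hq1, hq2⟩ := hq
    have hq2' : q.1.1 = u.val := of_decide_eq_true hq2
    refine ⟨q.2 + 1, by omega, ?_⟩
    simp only [fI]
    rw [← hq2']
    exact fJ_chain hG J r.2 s.2 hq1

include hG in
/-- A root element of a root of height zero preserves the levels. -/
theorem levelPres_x (J : Set ℕ) {r : ℕ} (hr : r < D.nroots) (h0 : fJ D W J r = 0) (t : F) :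
    LevelPres (lvlJ D W J) (D.x F r t) := by
  intro row col h
  by_cases hrc : row = col
  · rw [hrc]
  · rw [x_of_lt D F hr] at h
    have h' : (D.xMat F ⟨r, hr⟩ t - 1) row col ≠ 0 := by
      rw [Matrix.sub_apply, Matrix.one_apply_ne hrc, sub_zero]; exact h
    obtain ⟨m, _, hm⟩ := xMat_sub_one_height (W := W) hG J ⟨r, hr⟩ t row col h'
    have h0' : fJ D W J (⟨r, hr⟩ : Fin D.nroots).val = 0 := h0
    rw [h0', mul_zero, add_zero] at hm
    have e1 := lvlJ_cast (W := W) J row
    have e2 := lvlJ_cast (W := W) J col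
    rw [hm] at e1
    have : ((lvlJ D W J row : ℕ) : ℤ) = ((lvlJ D W J col : ℕ) : ℤ) := by rw [e1, e2]
    exact_mod_cast this

include hG in
/-- A root element of a root of positive height is unitriangular for the levels. -/
theorem raises_x (J : Set ℕ) {r : ℕ} (hr : r < D.nroots) (h1 : 1 ≤ fJ D W J r) (t : F) :
    Raises (lvlJ D W J) 1 (D.x F r t - 1) := by
  intro row col h
  rw [x_of_lt D F hr] at h
  obtain ⟨m, hm1, hm⟩ := xMat_sub_one_height (W := W) hG J ⟨r, hr⟩ t row col h
  have e1 := lvlJ_cast (W := W) J row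
  have e2 := lvlJ_cast (W := W) J col
  have h1' : 1 ≤ fJ D W J (⟨r, hr⟩ : Fin D.nroots).val := h1
  have hmul : (1 : ℤ) ≤ (m : ℤ) * fJ D W J (⟨r, hr⟩ : Fin D.nroots).val := by
    have hm' : (1 : ℤ) ≤ (m : ℤ) := by exact_mod_cast hm1
    nlinarith
  have : ((lvlJ D W J col : ℕ) : ℤ) + 1 ≤ ((lvlJ D W J row : ℕ) : ℤ) := by
    rw [e1, e2, hm]; linarith
  exact_mod_cast this

include hG hT h16 in
/-- `U_J ∩ L_J = 1`. -/
theorem rad_inf_levi (J : Set ℕ) : D.unipotentRadical F J ⊓ D.leviSubgroup F J = ⊥ := by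
  have hG1 := hG.toGood1
  have hU : D.unipotentRadical F J ≤ UTk F (lvlJ D W J) 0 := by
    unfold ChevalleyDatum.unipotentRadical
    rw [Subgroup.closure_le]
    rintro g ⟨r, t, hrpos, hrJ, hg⟩
    have hr := hrpos.1
    have hp := (isPosRoot_iff hT hr).mp hrpos
    change Raises (lvlJ D W J) 1 ((g : Matrix D.Idx D.Idx F) - 1)
    rw [hg]
    apply raises_x hG J hr _ t
    have h0 := fJ_nonneg h16 J hr hp
    have h1 : fJ D W J r ≠ 0 := fun h => hrJ ((fJ_eq_zero_iff h16 J hr hp).mp h)
    omega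
  have hL : D.leviSubgroup F J ≤ levelGroup F (lvlJ D W J) := by
    unfold ChevalleyDatum.leviSubgroup
    apply sup_le
    · intro h hh
      obtain ⟨d, hd⟩ := diagonalSubgroup_diag hG1 hh
      obtain ⟨d', hd'⟩ := diagonalSubgroup_diag hG1 (inv_mem hh)
      refine ⟨?_, ?_⟩
      · rw [hd]; exact LevelPres.diagonal _ d
      · rw [hd']; exact LevelPres.diagonal _ d'
    · rw [Subgroup.closure_le]
      rintro g ⟨r, t, hrJ, hg⟩
      have hr := hrJ.1
      have h0 := fJ_eq_zero_of_inRootSub hG hT h16 hrJ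
      have hg' : g = xGL hG1 hr t := eq_xGL hG1 hr hg
      refine ⟨?_, ?_⟩
      · rw [hg]; exact levelPres_x hG J hr h0 t
      · rw [hg', xGL_inv, xGL_coe]; exact levelPres_x hG J hr h0 (-t)
  rw [eq_bot_iff]
  rintro g ⟨hgU, hgL⟩
  rw [Subgroup.mem_bot]
  exact eq_one_of_mem_levelGroup_of_mem_UTk (hL hgL) (hU hgU)

end grading

end Cfsg.Agent.Helper7.Chev
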