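import Mathlib
import Cfsg.Agent.Helper7.ChevCodes
import Cfsg.Agent.Helper7.ChevLevi2
import Cfsg.Agent.Helper7.ChevTabG2
import Cfsg.Agent.Helper7.ChevTabB2
import Cfsg.Agent.Helper7.ChevTabD4
import Cfsg.Agent.Helper7.ChevTabF4
import Cfsg.Agent.Helper7.ChevTabE6
import Cfsg.Agent.Helper7.ChevTabE7
import Cfsg.Agent.Helper7.ChevTabE8

set_option autoImplicit false

/-!
Level-16 table facts: coordinates of the positive roots on the fundamental roots, from the Cartan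
integers and a multiple of the inverse Cartan matrix.
-/

namespace Cfsg.Agent.Helper7.Chev

open Cfsg Cfsg.Lie

/-- A multiple of the inverse Cartan matrix of type `G2`. -/
def wtMatG2 : List (List ℤ) := [[2, 3], [1, 2]]

set_option maxRecDepth 1000000 in
set_option maxHeartbeats 0 in
theorem T16fast_G2 : fastG2.T16 wtMatG2 := by decide +kernel

theorem T16_G2 : (tabOf chevG2).T16 wtMatG2 := tab_G2 ▸ T16fast_G2

/-- A multiple of the inverse Cartan matrix of type `B2`. -/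
def wtMatB2 : List (List ℤ) := [[2, 2], [1, 2]]

set_option maxRecDepth 1000000 in
set_option maxHeartbeats 0 in
theorem T16fast_B2 : fastB2.T16 wtMatB2 := by decide +kernel

theorem T16_B2 : (tabOf chevB2).T16 wtMatB2 := tab_B2 ▸ T16fast_B2

/-- A multiple of the inverse Cartan matrix of type `D4`. -/
def wtMatD4 : List (List ℤ) := [[2, 2, 1, 1], [2, 4, 2, 2], [1, 2, 2, 1], [1, 2, 1, 2]]

set_option maxRecDepth 1000000 in
set_option maxHeartbeats 0 in
theorem T16fast_D4 : fastD4.T16 wtMatD4 := by decide +kernel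

theorem T16_D4 : (tabOf chevD4).T16 wtMatD4 := tab_D4 ▸ T16fast_D4

/-- A multiple of the inverse Cartan matrix of type `F4`. -/
def wtMatF4 : List (List ℤ) := [[2, 3, 4, 2], [3, 6, 8, 4], [2, 4, 6, 3], [1, 2, 3, 2]]

set_option maxRecDepth 1000000 in
set_option maxHeartbeats 0 in
theorem T16fast_F4 : fastF4.T16 wtMatF4 := by decide +kernel

theorem T16_F4 : (tabOf chevF4).T16 wtMatF4 := tab_F4 ▸ T16fast_F4

/-- A multiple of the inverse Cartan matrix of type `E6`. -/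
def wtMatE6 : List (List ℤ) := [[4, 3, 5, 6, 4, 2], [3, 6, 6, 9, 6, 3], [5, 6, 10, 12, 8, 4], [6, 9, 12, 18, 12, 6], [4, 6, 8, 12, 10, 5], [2, 3, 4, 6, 5, 4]]

set_option maxRecDepth 1000000 in
set_option maxHeartbeats 0 in
theorem T16fast_E6 : fastE6.T16 wtMatE6 := by decide +kernel

theorem T16_E6 : (tabOf chevE6).T16 wtMatE6 := tab_E6 ▸ T16fast_E6

/-- A multiple of the inverse Cartan matrix of type `E7`. -/
def wtMatE7 : List (List ℤ) := [[4, 4, 6, 8, 6, 4, 2], [4, 7, 8, 12, 9, 6, 3], [6, 8, 12, 16, 12, 8, 4], [8, 12, 16, 24, 18, 12, 6], [6, 9, 12, 18, 15, 10, 5], [4, 6, 8, 12, 10, 8, 4], [2, 3, 4, 6, 5, 4, 3]]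

set_option maxRecDepth 1000000 in
set_option maxHeartbeats 0 in
theorem T16fast_E7 : fastE7.T16 wtMatE7 := by decide +kernel

theorem T16_E7 : (tabOf chevE7).T16 wtMatE7 := tab_E7 ▸ T16fast_E7

/-- A multiple of the inverse Cartan matrix of type `E8`. -/
def wtMatE8 : List (List ℤ) := [[4, 5, 7, 10, 8, 6, 4, 2], [5, 8, 10, 15, 12, 9, 6, 3], [7, 10, 14, 20, 16, 12, 8, 4], [10, 15, 20, 30, 24, 18, 12, 6], [8, 12, 16, 24, 20, 15, 10, 5], [6, 9, 12, 18, 15, 12, 8, 4], [4, 6, 8, 12, 10, 8, 6, 3], [2, 3, 4, 6, 5, 4, 3, 2]]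

set_option maxRecDepth 1000000 in
set_option maxHeartbeats 0 in
theorem T16fast_E8 : fastE8.T16 wtMatE8 := by decide +kernel

theorem T16_E8 : (tabOf chevE8).T16 wtMatE8 := tab_E8 ▸ T16fast_E8

/-- The level-16 table facts hold for each of the seven tabulated data. -/
theorem T16_of_mem (D : ChevalleyDatum)
    (hD : D ∈ [chevG2, chevB2, chevD4, chevF4, chevE6, chevE7, chevE8]) :
    ∃ W : List (List ℤ), (tabOf D).T16 W :=
  chev_cases (p := fun D => ∃ W : List (List ℤ), (tabOf D).T16 W) D hD ⟨_, T16_G2⟩ ⟨_, T16_B2⟩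
    ⟨_, T16_D4⟩ ⟨_, T16_F4⟩ ⟨_, T16_E6⟩ ⟨_, T16_E7⟩ ⟨_, T16_E8⟩

end Cfsg.Agent.Helper7.Chev
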