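import Mathlib
import Cfsg.Agent.Helper7.BNParabolic

set_option autoImplicit false

/-!
An automorphism of a group with a (B,N)-pair that stabilises `B` permutes the minimal parabolic subgroups.
-/

namespace Cfsg.Agent.Helper7.BN

open Cfsg DoubleCoset InvWords
open scoped Pointwise

variable {G : Type*} [Group G] (P : Cfsg.BNPair G)

/-- The double coset of a power of `s ∈ S` is `B` or `B s B`. -/
theorem C_zpow {s : G} (hs : s ∈ P.S) (k : ℤ) : C P (s ^ k) = (P.B : Set G) ∨ C P (s ^ k) = C P s := by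
  have hsq : s * s ∈ P.B := P.sq_mem s hs
  rcases Int.even_or_odd k with ⟨j, rfl⟩ | ⟨j, rfl⟩
  · left
    apply C_of_mem_B
    rw [← two_mul, zpow_mul, zpow_two]
    exact zpow_mem hsq j
  · right
    rw [zpow_add, zpow_one, zpow_mul, zpow_two]
    exact C_mul_left_B P (zpow_mem hsq j)

/-- The parabolic subgroup of a single `s ∈ S` is `B ∪ B s B`. -/
theorem mem_parabolic_singleton {s : G} (hs : s ∈ P.S) (g : G) :
    g ∈ P.parabolic {s} ↔ g ∈ P.B ∨ g ∈ C P s := by
  rw [mem_parabolic_iff P (Set.singleton_subset_iff.mpr hs)]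
  constructor
  · rintro ⟨n, hn, hg⟩
    rw [Subgroup.mem_closure_singleton] at hn
    obtain ⟨k, rfl⟩ := hn
    rcases C_zpow P hs k with h | h
    · left
      have : g ∈ (P.B : Set G) := by rw [← h]; exact hg
      exact this
    · right
      rw [← h]; exact hg
  · rintro (h | h)
    · exact ⟨1, one_mem _, by rw [C_one]; exact h⟩
    · exact ⟨s, Subgroup.subset_closure rfl, h⟩

/-- The parabolic subgroups `P_s`, `s ∈ S`, are the minimal subgroups properly containing `B`. -/
theorem eq_parabolic_singleton_of_le {s : G} (hs : s ∈ P.S) {M : Subgroup G} (hBM : P.B ≤ M)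
    (hM : M ≤ P.parabolic {s}) {x : G} (hxM : x ∈ M) (hxB : x ∉ P.B) : M = P.parabolic {s} := by
  apply le_antisymm hM
  rw [parabolic_le_iff]
  refine ⟨hBM, ?_⟩
  rw [Set.singleton_subset_iff]
  have hx := (mem_parabolic_singleton P hs x).mp (hM hxM)
  rcases hx with hx | hx
  · exact absurd hx hxB
  · obtain ⟨b, hb, b', hb', rfl⟩ := (mem_C P).mp hx
    have : s = b⁻¹ * (b * s * b') * b'⁻¹ := by group
    rw [SetLike.mem_coe, this]
    exact mul_mem (mul_mem (inv_mem (hBM hb)) hxM) (inv_mem (hBM hb'))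

/-- An automorphism stabilising `B` permutes the minimal parabolic subgroups. -/
theorem exists_parabolic_map (θ : G ≃* G) (hθ : ∀ x, x ∈ P.B ↔ θ x ∈ P.B) {s : G} (hs : s ∈ P.S) :
    ∃ s' ∈ P.S, ∀ x, x ∈ P.parabolic {s} ↔ θ x ∈ P.parabolic {s'} := by
  set M : Subgroup G := (P.parabolic {s}).map θ.toMonoidHom with hM
  have hmemM : ∀ x, θ x ∈ M ↔ x ∈ P.parabolic {s} := by
    intro x
    constructor
    · rintro ⟨y, hy, e⟩
      have : y = x := θ.injective e
      rw [← this]; exact hy
    · intro hx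
      exact ⟨x, hx, rfl⟩
  have hBM : P.B ≤ M := by
    intro b hb
    have : b = θ (θ.symm b) := (θ.apply_symm_apply b).symm
    rw [this, hmemM]
    apply B_le_parabolic
    rw [hθ, θ.apply_symm_apply]
    exact hb
  have hθs : θ s ∈ M := (hmemM s).mpr (mem_parabolic_of_mem P rfl)
  have hθsB : θ s ∉ P.B := fun h => S_not_mem_B P hs ((hθ s).mpr h)
  have hpar := eq_parabolic_of_le P M hBM
  have hne : (P.S ∩ (M : Set G)).Nonempty := by
    by_contra hempty
    rw [Set.not_nonempty_iff_eq_empty] at hempty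
    rw [hempty] at hpar
    have : θ s ∈ P.parabolic ∅ := by rw [← hpar]; exact hθs
    unfold BNPair.parabolic at this
    rw [Subgroup.closure_empty, sup_bot_eq] at this
    exact hθsB this
  obtain ⟨s', hs'S, hs'M⟩ := hne
  refine ⟨s', hs'S, ?_⟩
  have hle : P.parabolic {s'} ≤ M := by
    rw [parabolic_le_iff]
    exact ⟨hBM, Set.singleton_subset_iff.mpr hs'M⟩
  -- the preimage of `P_{s'}` is `P_s` by minimality
  set M' : Subgroup G := (P.parabolic {s'}).comap θ.toMonoidHom with hM'
  have hBM' : P.B ≤ M' := by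
    intro b hb
    change θ b ∈ P.parabolic {s'}
    exact B_le_parabolic P _ ((hθ b).mp hb)
  have hM'le : M' ≤ P.parabolic {s} := by
    intro x hx
    rw [← hmemM]
    exact hle hx
  have hx1 : θ.symm s' ∈ M' := by
    change θ (θ.symm s') ∈ P.parabolic {s'}
    rw [θ.apply_symm_apply]
    exact mem_parabolic_of_mem P rfl
  have hx2 : θ.symm s' ∉ P.B := by
    intro h
    have := (hθ (θ.symm s')).mp h
    rw [θ.apply_symm_apply] at this
    exact S_not_mem_B P hs'S this
  have heq := eq_parabolic_singleton_of_le P hs hBM' hM'le hx1 hx2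
  intro x
  rw [← heq]
  rfl

end Cfsg.Agent.Helper7.BN
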