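import Mathlib
import Cfsg.Agent.Helper7.ChevBN
import Cfsg.Agent.Helper7.ChevLevi1
import Cfsg.Agent.Helper7.BNParabolic

set_option autoImplicit false
set_option linter.unusedSectionVars false
set_option linter.unusedVariables false

/-!
The normaliser of `U_J` in the Chevalley group is the standard parabolic subgroup `P_J`.
-/

namespace Cfsg.Agent.Helper7.Chev

open Cfsg Cfsg.Lie Matrix

variable {D : ChevalleyDatum} {F : Type*} [Field F]

section norm

variable (hG : Good2 D) (hT : T0 D) (h3 : (tabOf D).T3) (h4 : (tabOf D).T4 60) (h5 : (tabOf D).T5)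
  (h6 : (tabOf D).T6) (h8 : (tabOf D).T8) (h9 : (tabOf D).T9) (h14 : (tabOf D).T14)

include hG hT h3 h4 h5 h6 h8 h9 h14 in
theorem normalizer_rad_inf_group (J : Set ℕ) :
    Subgroup.normalizer (D.unipotentRadical F J : Set (GL D.Idx F)) ⊓ D.group F =
      D.parabolicSubgroup F J := by
  have hG1 := hG.toGood1
  have hBG : D.borelSubgroup F ≤ D.group F := borelSubgroup_le_group hG1
  have hNG : D.monomialSubgroup F ≤ D.group F := monomialSubgroup_le_group hG1
  have hUB : D.posUnipotent F ≤ D.borelSubgroup F := le_sup_left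
  have hPN := parabolic_le_normalizer_rad (F := F) hG hT h3 h4 h6 h14 J
  have hBP : D.borelSubgroup F ≤ D.parabolicSubgroup F J := le_sup_left
  have hPG : D.parabolicSubgroup F J ≤ D.group F := by
    unfold ChevalleyDatum.parabolicSubgroup
    apply sup_le hBG
    rw [Subgroup.closure_le]
    rintro g ⟨j, _, hj, hg⟩
    apply hNG
    exact Subgroup.mem_sup_right
      (Subgroup.subset_closure ⟨D.simple j, hG1.simple_lt hj, hg⟩)
  apply le_antisymm
  · obtain ⟨P, hPB, hPN', hPS⟩ := exists_bnPair (F := F) hG hT h3 h4 h5 h6 h8 h9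
    set M : Subgroup (GL D.Idx F) :=
      Subgroup.normalizer (D.unipotentRadical F J : Set (GL D.Idx F)) ⊓ D.group F with hM
    have hBM : P.B ≤ M.subgroupOf (D.group F) := by
      rw [hPB]
      intro b hb
      rw [Subgroup.mem_subgroupOf] at hb ⊢
      exact ⟨hPN (hBP hb), b.2⟩
    have hpar := BN.eq_parabolic_of_le P (M.subgroupOf (D.group F)) hBM
    intro g hg
    have hgG : g ∈ D.group F := hg.2
    have hg' : (⟨g, hgG⟩ : ↥(D.group F)) ∈ M.subgroupOf (D.group F) := hg
    rw [hpar] at hg'
    have hle : P.parabolic (P.S ∩ ((M.subgroupOf (D.group F) : Subgroup ↥(D.group F)) :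
        Set ↥(D.group F))) ≤ (D.parabolicSubgroup F J).subgroupOf (D.group F) := by
      unfold BNPair.parabolic
      apply sup_le
      · rw [hPB]
        intro b hb
        rw [Subgroup.mem_subgroupOf] at hb ⊢
        exact hBP hb
      · rw [Subgroup.closure_le]
        rintro s ⟨hsS, hsM⟩
        rw [hPS] at hsS
        obtain ⟨k, hk, hs⟩ := hsS
        have hs' : (s : GL D.Idx F) = nGL hG1 (hG1.simple_lt hk) :=
          Units.ext (hs.trans (nGL_coe hG1 (hG1.simple_lt hk)).symm)
        have hsN : (s : GL D.Idx F) ∈
            Subgroup.normalizer (D.unipotentRadical F J : Set (GL D.Idx F)) := hsM.1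
        change (s : GL D.Idx F) ∈ D.parabolicSubgroup F J
        have hkJ : k ∈ J := by
          by_contra hkJ
          have hp := hG1.simple_lt hk
          have hpos : D.IsPosRoot (D.simple k) :=
            (isPosRoot_iff hT hp).mpr (simple_pos hG1 hT hk)
          have hnot : ¬ D.InRootSub J (D.simple k) := by
            intro h
            have h0 : cr D (D.simple k) k = 0 := h.2 k hk hkJ
            rw [hG1.cr_simple hk hk, if_pos rfl] at h0
            exact one_ne_zero h0
          have hx : xGL hG1 hp (1 : F) ∈ D.unipotentRadical F J :=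
            Subgroup.subset_closure ⟨D.simple k, 1, hpos, hnot, xGL_coe hG1 hp 1⟩
          have hc := (Subgroup.mem_set_normalizer_iff.mp hsN _).mp hx
          rw [hs'] at hc
          have hUJ : D.unipotentRadical F J ≤ D.posUnipotent F := by
            apply Subgroup.closure_mono
            rintro y ⟨r, t, hr, _, hy⟩
            exact ⟨r, t, hr, hy⟩
          exact nGL_conj_self_not_mem_borel (F := F) hG hT h8 hk (hUB (hUJ hc))
        apply Subgroup.mem_sup_right
        exact Subgroup.subset_closure ⟨k, hkJ, hk, hs⟩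
    exact hle hg'
  · exact le_inf hPN hPG

end norm

end Cfsg.Agent.Helper7.Chev
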