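import Mathlib
import Cfsg.Agent.Helper7.ChevFieldAut
import Cfsg.Agent.Helper7.ChevCardH
import Cfsg.Agent.Helper7.ChevUnique
import Cfsg.Agent.Helper7.ChevRee2
import Cfsg.Agent.Helper7.ChevRee12

set_option autoImplicit false
set_option linter.unusedSectionVars false
set_option linter.unusedVariables false

/-!
Functoriality of the Chevalley groups in the field: a ring homomorphism `K →+* F` maps `G(K)` into `G(F)`,
compatibly with the root elements, the elements `n_w` and the torus.
-/

namespace Cfsg.Agent.Helper7.Chev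

open Cfsg Cfsg.Lie Matrix

variable {D : ChevalleyDatum} {K F : Type*} [Field K] [Field F] (ι : K →+* F)

/-- Applying a ring homomorphism entrywise to `x_r(t)`, for any index. -/
theorem x_map (r : ℕ) (t : K) : (D.x K r t).map ι = D.x F r (ι t) := by
  unfold ChevalleyDatum.x
  split_ifs with h
  · exact Cfsg.Agent.Helper7.xMat_map D ι ⟨r, h⟩ t
  · exact Matrix.map_one ι (map_zero ι) (map_one ι)

/-- Applying a ring homomorphism entrywise to the matrix of a word. -/
theorem wordMat_map (w : List (ℕ × K)) :
    (D.wordMat K w).map ι = D.wordMat F (w.map fun p => (p.1, ι p.2)) := by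
  unfold ChevalleyDatum.wordMat
  induction w with
  | nil =>
    rw [List.map_nil, List.map_nil, List.map_nil, List.prod_nil, List.prod_nil]
    exact Matrix.map_one ι (map_zero ι) (map_one ι)
  | cons p w ih =>
    rw [List.map_cons, List.prod_cons, Matrix.map_mul, ih, x_map, List.map_cons, List.map_cons,
      List.prod_cons]

theorem nMat_map (r : ℕ) (t : K) : (D.nMat K r t).map ι = D.nMat F r (ι t) := by
  unfold ChevalleyDatum.nMat ChevalleyDatum.nWord
  rw [wordMat_map]
  simp only [List.map_cons, List.map_nil, map_neg, map_inv₀]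

theorem hMat_map (r : ℕ) (t : K) : (D.hMat K r t).map ι = D.hMat F r (ι t) := by
  unfold ChevalleyDatum.hMat ChevalleyDatum.hWord ChevalleyDatum.nWord
  rw [wordMat_map]
  simp only [List.map_cons, List.map_nil, List.map_append, map_neg, map_inv₀, map_one]

/-- The map of general linear groups induced by a ring homomorphism. -/
noncomputable abbrev glMap : GL D.Idx K →* GL D.Idx F := Matrix.GeneralLinearGroup.map ι

theorem glMap_coe (g : GL D.Idx K) :
    ((glMap (D := D) ι g : GL D.Idx F) : Matrix D.Idx D.Idx F) = (g : Matrix D.Idx D.Idx K).map ι := rfl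

theorem glMap_injective : Function.Injective (glMap (D := D) ι) := by
  intro a b h
  apply Units.ext
  have := congrArg (fun x : GL D.Idx F => (x : Matrix D.Idx D.Idx F)) h
  simp only [glMap_coe] at this
  exact Matrix.map_injective ι.injective this

/-- `G(K)` maps into `G(F)`. -/
theorem map_group_le : (D.group K).map (glMap ι) ≤ D.group F := by
  unfold ChevalleyDatum.group
  rw [MonoidHom.map_closure]
  apply Subgroup.closure_mono
  rintro _ ⟨h, ⟨r, t, hh⟩, rfl⟩
  refine ⟨r, ι t, ?_⟩
  rw [glMap_coe, hh]
  exact Cfsg.Agent.Helper7.xMat_map D ι r t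

section elements

variable (hG : Good1 D)

theorem glMap_xGL {r : ℕ} (hr : r < D.nroots) (t : K) :
    glMap ι (xGL hG hr t) = xGL hG hr (ι t) := by
  apply Units.ext
  rw [glMap_coe, xGL_coe, xGL_coe, x_map]

theorem glMap_xGL' (p : ℕ × K) : glMap ι (xGL' hG p) = xGL' hG (p.1, ι p.2) := by
  apply Units.ext
  rw [glMap_coe, xGL'_coe, xGL'_coe, x_map]

theorem glMap_nGL {r : ℕ} (hr : r < D.nroots) :
    glMap ι (nGL hG hr : GL D.Idx K) = nGL hG hr := by
  apply Units.ext
  rw [glMap_coe, nGL_coe, nGL_coe, nMat_map, map_one]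

theorem glMap_hGL {r : ℕ} (hr : r < D.nroots) (c : K) (hc : c ≠ 0) :
    glMap ι (hGL hG hr c hc) = hGL hG hr (ι c) ((map_ne_zero ι).mpr hc) := by
  apply Units.ext
  rw [glMap_coe, hGL_coe, hGL_coe, hMat_map]

end elements

theorem glMap_nWordGL (hG : Good2 D) (w : List ℕ) :
    glMap ι (nWordGL hG w : GL D.Idx K) = nWordGL hG w := by
  unfold nWordGL
  rw [map_list_prod, List.map_map]
  congr 1
  apply List.map_congr_left
  intro i _
  simp only [Function.comp_apply]
  split_ifs with hi
  · exact glMap_nGL ι hG.toGood1 _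
  · exact map_one _

/-- The entrywise image of a torus matrix. -/
theorem tMat_map (c : ℕ → K) : (tMat D c).map ι = tMat D (fun i => ι (c i)) := by
  unfold tMat
  rw [Matrix.diagonal_map (map_zero ι)]
  congr 1
  funext v
  rcases v with j | s
  · simp [tEntry]
  · simp only [Function.comp_apply, tEntry, Sum.elim_inr]
    rw [map_list_prod, List.map_map]
    congr 1
    apply List.map_congr_left
    intro i _
    simp only [Function.comp_apply, map_zpow₀]

theorem glMap_tGL (c : Fin D.rank → Kˣ) :
    glMap ι (tGL c : GL D.Idx K) = tGL (fun i => Units.map (ι : K →* F) (c i)) := by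
  apply Units.ext
  rw [glMap_coe, tGL_coe, tGL_coe, tMat_map]
  apply tMat_congr
  intro i hi
  simp only [extc, dif_pos hi, Units.coe_map, MonoidHom.coe_coe]

end Cfsg.Agent.Helper7.Chev
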