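import Mathlib
import Cfsg.Agent.Helper7.ChevTw11

set_option autoImplicit false
set_option linter.unusedSectionVars false
set_option linter.unusedVariables false

/-!
Twisted groups, part 12: the normal core of `B¹` in the twisted group is trivial.
-/

namespace Cfsg.Agent.Helper7.Chev

open Cfsg Cfsg.Lie Matrix

variable {D : ChevalleyDatum} {K : Type*} [Field K]

section core

variable (hG : Good2 D) (hT : T0 D) (h3 : (tabOf D).T3) (h4 : (tabOf D).T4 60) (h5 : (tabOf D).T5)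
  (h6 : (tabOf D).T6) (h7 : (tabOf D).T7) (h8 : (tabOf D).T8) (h9 : (tabOf D).T9)
  {ρ ρ' σ σ' : ℕ → ℕ} {ε : ℕ → ℤ} (h18 : T18 D ρ ρ' σ σ' ε) {cls : List (ℕ × ℕ)}
  (h19 : T19 D ρ σ cls) (h20 : (tabOf D).T20 ρ cls) (f : K ≃+* K)

/-- The element of `N` of a word in the classes lies in the twisted group. -/
theorem nWordGL_flatMap_mem {wcls : List (ℕ × ℕ)} (hwc : ∀ c ∈ wcls, c ∈ cls) :
    nWordGL hG (wcls.flatMap (clsWord ρ)) ∈ twGroup hG h3 h4 h19 f := by
  induction wcls with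
  | nil =>
    rw [List.flatMap_nil, nWordGL_nil]
    exact one_mem _
  | cons c L ih =>
    rw [List.flatMap_cons, nWordGL_append, ← clsHom_anti hG h3 h4 h19 f (hwc c List.mem_cons_self)]
    exact mul_mem (anti_mem_twGroup hG h3 h4 h19 f _)
      (ih fun c' hc' => hwc c' (List.mem_cons_of_mem _ hc'))

include hG hT in
/-- An element of `H` whose conjugate under an element of `U` lies in `H` commutes with this element. -/
theorem conj_eq_of_mem_pos {g y : GL D.Idx K} (hg : g ∈ D.diagonalSubgroup K)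
    (hy : y ∈ D.posUnipotent K) (hc : y * g * y⁻¹ ∈ D.diagonalSubgroup K) : y * g * y⁻¹ = g := by
  have h1 : y * g * y⁻¹ * g⁻¹ ∈ D.diagonalSubgroup K := mul_mem hc (inv_mem hg)
  have h2 : y * g * y⁻¹ * g⁻¹ ∈ D.posUnipotent K := by
    have e : y * g * y⁻¹ * g⁻¹ = y * (g * y⁻¹ * g⁻¹) := by group
    rw [e]
    exact mul_mem hy ((Subgroup.mem_set_normalizer_iff.mp
      (diagonalSubgroup_le_normalizer_pos hG hg) _).mp (inv_mem hy))
  have h3' : y * g * y⁻¹ * g⁻¹ ∈ D.posUnipotent K ⊓ D.diagonalSubgroup K :=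
    Subgroup.mem_inf.mpr ⟨h2, h1⟩
  rw [posUnipotent_inf_diagonal hG hT, Subgroup.mem_bot] at h3'
  exact mul_inv_eq_one.mp h3'

include hT h7 h8 h20 in
/-- An element of `H` commuting with `x_S(1)` commutes with the root subgroups of the class `S`. -/
theorem commute_cls_of_commute {g : GL D.Idx K} (hg : g ∈ D.diagonalSubgroup K) {c : ℕ × ℕ}
    (hc : c ∈ cls)
    (hcomm : g * clsHom hG h3 h4 h19 f hc (upperSL 1) * g⁻¹ = clsHom hG h3 h4 h19 f hc (upperSL 1)) :
    ∀ j (hj : j < c.2) (t : K),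
      g * xGL hG.toGood1 (hG.toGood1.simple_lt ((h19.orbit c hc).2.2 j hj)) t * g⁻¹ =
        xGL hG.toGood1 (hG.toGood1.simple_lt ((h19.orbit c hc).2.2 j hj)) t := by
  have hG1 := hG.toGood1
  obtain ⟨hm, horb, hlt⟩ := h19.orbit c hc
  have hχ : ∀ j, ∃ χ : K, j < c.2 → ∀ t : K,
      g * xGL' hG1 (clsRoot D ρ c.1 j, t) * g⁻¹ = xGL' hG1 (clsRoot D ρ c.1 j, χ * t) := by
    intro j
    by_cases hj : j < c.2
    · have hp : clsRoot D ρ c.1 j < D.nroots := hG1.simple_lt (hlt j hj)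
      obtain ⟨χ, _, hχ⟩ := diagonal_conj_xGL_lin (K := K) hG hg hp
      refine ⟨χ, fun _ t => ?_⟩
      rw [xGL'_of_lt hG1 hp, xGL'_of_lt hG1 hp]
      exact hχ t
    · exact ⟨0, fun h => absurd h hj⟩
  choose χ hχ using hχ
  have hconj : ∀ a : Multiplicative (ℕ → K), g * xiHom hG h3 h4 h19 hc a * g⁻¹ =
      xiHom hG h3 h4 h19 hc (Multiplicative.ofAdd fun j => χ j * (Multiplicative.toAdd a) j) := by
    intro a
    rw [xiHom_apply, xiHom_apply]
    have e : g * ((List.range c.2).map fun j =>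
        xGL' hG1 (clsRoot D ρ c.1 j, (Multiplicative.toAdd a) j)).prod * g⁻¹ =
        (MulAut.conj g) ((List.range c.2).map fun j =>
          xGL' hG1 (clsRoot D ρ c.1 j, (Multiplicative.toAdd a) j)).prod := rfl
    rw [e, map_list_prod, List.map_map]
    congr 1
    apply List.map_congr_left
    intro j hj
    rw [List.mem_range] at hj
    simp only [Function.comp_apply, toAdd_ofAdd]
    exact hχ j hj _
  rw [clsHom_upper, hconj] at hcomm
  have hone : xiHom hG h3 h4 h19 hc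
      ((Multiplicative.ofAdd fun j => χ j * (Multiplicative.toAdd
        (Multiplicative.ofAdd fun j => (((f : K →+* K)) ^ j) (1 : K))) j) *
        (Multiplicative.ofAdd fun j => (((f : K →+* K)) ^ j) (1 : K))⁻¹) = 1 := by
    rw [map_mul, map_inv, hcomm, mul_inv_cancel]
  have hz := xiHom_eq_one hG hT h3 h4 h7 h8 h19 h20 hc hone
  intro j hj t
  have h1 := hz j hj
  rw [toAdd_mul, toAdd_inv, toAdd_ofAdd, toAdd_ofAdd, Pi.add_apply, Pi.neg_apply, map_one, mul_one,
    add_neg_eq_zero] at h1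
  have hp : clsRoot D ρ c.1 j < D.nroots := hG1.simple_lt (hlt j hj)
  have := hχ j hj t
  rw [xGL'_of_lt hG1 hp, xGL'_of_lt hG1 hp, h1, one_mul] at this
  exact this

include hT h3 h4 h5 h6 h7 h8 h9 h18 h20 in
/-- The normal core of `B¹` in the twisted group is trivial. -/
theorem tw_normalCore_eq_bot {wcls : List (ℕ × ℕ)} (hwc : ∀ c ∈ wcls, c ∈ cls)
    (hw0 : (tabOf D).W0ok (wcls.flatMap (clsWord ρ))) :
    ((D.borelSubgroup K ⊓ twGroup hG h3 h4 h19 f).subgroupOf (twGroup hG h3 h4 h19 f)).normalCore =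
      ⊥ := by
  have hG1 := hG.toGood1
  set G1 := twGroup hG h3 h4 h19 f with hG1def
  set n₀ : GL D.Idx K := nWordGL hG (wcls.flatMap (clsWord ρ)) with hn₀
  have hn₀G : n₀ ∈ G1 := nWordGL_flatMap_mem hG h3 h4 h19 f hwc
  have hn₀N : n₀ ∈ D.monomialSubgroup K := nWordGL_mem hG _
  have hconj := nWordGL_conj_pos_eq_neg (K := K) hG hT hw0
  have memB : ∀ x : ↥G1, x ∈ (D.borelSubgroup K ⊓ G1).subgroupOf G1 ↔
      (x : GL D.Idx K) ∈ D.borelSubgroup K := by
    intro x
    rw [Subgroup.mem_subgroupOf, Subgroup.mem_inf]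
    exact ⟨fun h => h.1, fun h => ⟨h, x.2⟩⟩
  have hnorm : ((D.borelSubgroup K ⊓ G1).subgroupOf G1).normalCore.Normal :=
    Subgroup.normalCore_normal _
  have key : ∀ b : ↥G1, b ∈ ((D.borelSubgroup K ⊓ G1).subgroupOf G1).normalCore →
      (b : GL D.Idx K) ∈ D.diagonalSubgroup K := by
    intro b hb
    have h1 := hb 1
    have h2 := hb (⟨n₀, hn₀G⟩ : ↥G1)⁻¹
    rw [memB] at h1 h2
    apply le_diagonal_of_conj hG hT hn₀N hconj (g := (b : GL D.Idx K))
    · simpa using h1
    · simpa using h2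
  -- the elements of the core commute with the root subgroups of the fundamental roots
  have hcomm : ∀ a : ↥G1, a ∈ ((D.borelSubgroup K ⊓ G1).subgroupOf G1).normalCore →
      ∀ (c : ℕ × ℕ) (hc : c ∈ cls) (j : ℕ) (hj : j < c.2) (t : K),
        (a : GL D.Idx K) * xGL hG1 (hG1.simple_lt ((h19.orbit c hc).2.2 j hj)) t *
          (a : GL D.Idx K)⁻¹ = xGL hG1 (hG1.simple_lt ((h19.orbit c hc).2.2 j hj)) t := by
    intro a ha c hc
    have hxG : clsHom hG h3 h4 h19 f hc (upperSL 1) ∈ G1 :=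
      upper_mem_twGroup hG h3 h4 h19 f hc Adm.one
    have hca := hnorm.conj_mem a ha ⟨_, hxG⟩
    have h1 := key _ hca
    rw [Subgroup.coe_mul, Subgroup.coe_mul, Subgroup.coe_inv] at h1
    have h2 := conj_eq_of_mem_pos hG hT (key a ha) (clsHom_upper_mem hG hT h3 h4 h19 f hc 1) h1
    apply commute_cls_of_commute hG hT h3 h4 h7 h8 h19 h20 f (key a ha) hc
    change (a : GL D.Idx K) * clsHom hG h3 h4 h19 f hc (upperSL 1) * (a : GL D.Idx K)⁻¹ = _
    have h3' : clsHom hG h3 h4 h19 f hc (upperSL 1) * (a : GL D.Idx K) =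
        (a : GL D.Idx K) * clsHom hG h3 h4 h19 f hc (upperSL 1) := by
      calc clsHom hG h3 h4 h19 f hc (upperSL 1) * (a : GL D.Idx K)
          = (clsHom hG h3 h4 h19 f hc (upperSL 1) * (a : GL D.Idx K) *
              (clsHom hG h3 h4 h19 f hc (upperSL 1))⁻¹) * clsHom hG h3 h4 h19 f hc (upperSL 1) := by
            group
        _ = _ := by rw [h2]
    rw [← h3']; group
  rw [eq_bot_iff]
  intro a ha
  rw [Subgroup.mem_bot]
  apply Subtype.ext
  change (a : GL D.Idx K) = 1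
  -- the centraliser of `a` contains all root subgroups
  have hZ : ∀ (i : ℕ) (hi : i < D.rank) (t : K),
      xGL hG1 (hG1.simple_lt hi) t ∈ Subgroup.centralizer {(a : GL D.Idx K)} ∧
        xGL hG1 (hG1.neg_lt (hG1.simple_lt hi)) t ∈ Subgroup.centralizer {(a : GL D.Idx K)} := by
    intro i hi t
    obtain ⟨c, hc, j, hj, hji⟩ := h19.cover i hi
    obtain ⟨hm, horb, hlt⟩ := h19.orbit c hc
    have hp : clsRoot D ρ c.1 j < D.nroots := hG1.simple_lt (hlt j hj)
    have epi : D.simple i = clsRoot D ρ c.1 j := by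
      unfold clsRoot; rw [hji]
    constructor
    · rw [Subgroup.mem_centralizer_iff]
      intro x hx
      rw [Set.mem_singleton_iff] at hx
      subst hx
      have this : (a : GL D.Idx K) * xGL hG1 hp t * (a : GL D.Idx K)⁻¹ = xGL hG1 hp t :=
        hcomm a ha c hc j hj t
      rw [xGL_congr hG epi _ hp]
      calc (a : GL D.Idx K) * xGL hG1 hp t
          = ((a : GL D.Idx K) * xGL hG1 hp t * (a : GL D.Idx K)⁻¹) * (a : GL D.Idx K) := by group
        _ = _ := by rw [this]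
    · -- use the conjugate of `a` under `n_S`
      have hncG : clsHom hG h3 h4 h19 f hc antiSL ∈ G1 := anti_mem_twGroup hG h3 h4 h19 f hc
      have ha' := hnorm.conj_mem a ha (⟨_, hncG⟩ : ↥G1)⁻¹
      have this : ∀ t : K, (clsHom hG h3 h4 h19 f hc antiSL)⁻¹ * (a : GL D.Idx K) *
          clsHom hG h3 h4 h19 f hc antiSL * xGL hG1 hp t *
          ((clsHom hG h3 h4 h19 f hc antiSL)⁻¹ * (a : GL D.Idx K) *
            clsHom hG h3 h4 h19 f hc antiSL)⁻¹ = xGL hG1 hp t := by
        intro t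
        have h0 := hcomm _ ha' c hc j hj t
        simp only [Subgroup.coe_mul, Subgroup.coe_inv, inv_inv] at h0
        exact h0
      -- `n_S x_p(t) n_S⁻¹ = x_{-p}(± t)`
      have hw := clsWord_lt (D := D) h19 hc
      set η : K := (((tabOf D).etaWord (clsWord ρ c) (clsRoot D ρ c.1 j) : ℤ) : K) with hη
      have hηη : η * η = 1 := etaWord_cast_mul_self hG hw hp
      have cj := nWordGL_conj (F := K) hG hw hp (η * t)
      rw [← hη, ← mul_assoc, hηη, one_mul, ← clsHom_anti hG h3 h4 h19 f hc] at cj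
      have hroot : (tabOf D).reflWord (clsWord ρ c) (clsRoot D ρ c.1 j) = D.neg (D.simple i) := by
        rw [reflWord_clsWord hG h19 hc hj, epi]
      have e : xGL hG1 (hG1.neg_lt (hG1.simple_lt hi)) t =
          xGL hG1 (reflWord_lt hG hw hp) t := xGL_congr hG hroot.symm _ _ _
      rw [e, ← cj, Subgroup.mem_centralizer_iff]
      intro x hx
      rw [Set.mem_singleton_iff] at hx
      subst hx
      have h4' := this (η * t)
      set nc := clsHom hG h3 h4 h19 f hc antiSL with hnc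
      set xx := xGL hG1 hp (η * t) with hxx
      have h5' : nc⁻¹ * (a : GL D.Idx K) * nc * xx = xx * (nc⁻¹ * (a : GL D.Idx K) * nc) := by
        calc nc⁻¹ * (a : GL D.Idx K) * nc * xx
            = (nc⁻¹ * (a : GL D.Idx K) * nc * xx * (nc⁻¹ * (a : GL D.Idx K) * nc)⁻¹) *
                (nc⁻¹ * (a : GL D.Idx K) * nc) := by group
          _ = _ := by rw [h4']
      calc (a : GL D.Idx K) * (nc * xx * nc⁻¹)
          = nc * (nc⁻¹ * (a : GL D.Idx K) * nc * xx) * nc⁻¹ := by group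
        _ = nc * (xx * (nc⁻¹ * (a : GL D.Idx K) * nc)) * nc⁻¹ := by rw [h5']
        _ = _ := by group
  have hall := xGL_mem_of_simple (K := K) hG hT h9 (Subgroup.centralizer {(a : GL D.Idx K)}) hZ
  apply eq_one_of_conj_diag hG hT h8 (key a ha)
  intro r hr
  have hc := hall r hr 1
  rw [Subgroup.mem_centralizer_iff] at hc
  have hc' := hc (a : GL D.Idx K) (Set.mem_singleton _)
  obtain ⟨d, hd⟩ := diagonalSubgroup_diag hG1 (key a ha)
  refine ⟨d, ?_⟩
  rw [← hd]
  congr 1
  calc xGL hG1 hr (1 : K) * (a : GL D.Idx K) * (xGL hG1 hr (1 : K))⁻¹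
      = ((a : GL D.Idx K) * xGL hG1 hr (1 : K)) * (xGL hG1 hr (1 : K))⁻¹ := by rw [hc']
    _ = _ := by group

end core

end Cfsg.Agent.Helper7.Chev
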