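import Mathlib
import Cfsg.Agent.Helper7.ChevTw12
import Cfsg.Agent.Helper7.ChevBruhat

set_option autoImplicit false
set_option linter.unusedSectionVars false
set_option linter.unusedVariables false

/-!
Twisted groups: the fixed points of the twisting automorphism in the subgroups `U_w⁻`, for `w` a word in the
classes of fundamental roots all of whose prefixes map the next fundamental root to a positive root.  They lie in
the twisted group and their number is the product of the numbers of admissible parameters of the classes.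
-/

namespace Cfsg.Agent.Helper7.Chev

open Cfsg Cfsg.Lie Matrix

variable {D : ChevalleyDatum} {K : Type*} [Field K]

section main

variable (hG : Good2 D) (hT : T0 D) (h3 : (tabOf D).T3) (h4 : (tabOf D).T4 60) (h5 : (tabOf D).T5)
  (h6 : (tabOf D).T6) (h7 : (tabOf D).T7) (h8 : (tabOf D).T8) (h9 : (tabOf D).T9)
  {ρ ρ' σ σ' : ℕ → ℕ} {ε : ℕ → ℤ} (h18 : T18 D ρ ρ' σ σ' ε) {cls : List (ℕ × ℕ)}
  (h19 : T19 D ρ σ cls) (h20 : (tabOf D).T20 ρ cls) (f : K ≃+* K)

/-- The fixed points of the twisting automorphism in `U` which the element of `N` of the word conjugates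
into `V`. -/
noncomputable def twM (w : List ℕ) : Subgroup (GL D.Idx K) :=
  (D.posUnipotent K ⊓ twFix h18 f) ⊓
    (D.negUnipotent K).comap (MulAut.conj (nWordGL hG w : GL D.Idx K)).toMonoidHom

theorem mem_twM {w : List ℕ} {g : GL D.Idx K} :
    g ∈ twM hG h18 f w ↔ g ∈ D.posUnipotent K ∧ twAut h18 f g = g ∧
      nWordGL hG w * g * (nWordGL hG w)⁻¹ ∈ D.negUnipotent K := by
  unfold twM
  rw [Subgroup.mem_inf, Subgroup.mem_inf, Subgroup.mem_comap, mem_twFix]
  constructor
  · rintro ⟨⟨h1, h2⟩, h3⟩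
    exact ⟨h1, h2, h3⟩
  · rintro ⟨h1, h2, h3⟩
    exact ⟨⟨h1, h2⟩, h3⟩

include hT in
theorem twM_nil : twM hG h18 f ([] : List ℕ) = (⊥ : Subgroup (GL D.Idx K)) := by
  rw [eq_bot_iff]
  intro g hg
  rw [mem_twM, nWordGL_nil, one_mul, inv_one, mul_one] at hg
  have : g ∈ D.borelSubgroup K ⊓ D.negUnipotent K :=
    Subgroup.mem_inf.mpr ⟨Subgroup.mem_sup_left hg.1, hg.2.2⟩
  rwa [borel_inf_negUnipotent hG hT] at this

include hG h19 in
/-- The prefixes of the word of a class map the roots of the class to positive roots. -/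
theorem cls_pos_of_prefixPos {w' : List ℕ} {c : ℕ × ℕ} (hc : c ∈ cls)
    (hpp : PrefixPos D (w' ++ clsWord ρ c)) :
    PrefixPos D w' ∧ ∀ j < c.2, D.nroots / 2 ≤ (tabOf D).reflWord w' (clsRoot D ρ c.1 j) := by
  constructor
  · intro w₁ k w₂ hw
    exact hpp w₁ k (w₂ ++ clsWord ρ c) (by rw [hw]; simp)
  · intro j hj
    have hlen : (clsWord ρ c).length = c.2 := by unfold clsWord; simp
    have hj' : j < (clsWord ρ c).length := by rw [hlen]; exact hj
    have hsplit : clsWord ρ c = (clsWord ρ c).take j ++ (clsWord ρ c)[j] :: (clsWord ρ c).drop (j + 1) := by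
      rw [← List.drop_eq_getElem_cons hj', List.take_append_drop]
    have hget : (clsWord ρ c)[j] = ρ^[j] c.1 := by
      simp [clsWord]
    have htake : (clsWord ρ c).take j = (List.range j).map fun k => ρ^[k] c.1 := by
      unfold clsWord
      rw [← List.map_take, List.take_range, Nat.min_eq_left (le_of_lt hj)]
    have h := hpp (w' ++ (clsWord ρ c).take j) (ρ^[j] c.1) ((clsWord ρ c).drop (j + 1)) (by
      rw [List.append_assoc, ← hget, ← hsplit])
    rw [reflWord_append, htake] at h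
    have hsub := reflWord_cls_sub hG h19 hc hj (List.range j) List.nodup_range
      (fun k hk => lt_trans (List.mem_range.mp hk) hj)
    rw [if_neg (by simp)] at hsub
    change D.nroots / 2 ≤ (tabOf D).reflWord w'
      ((tabOf D).reflWord ((List.range j).map fun k => ρ^[k] c.1) (clsRoot D ρ c.1 j)) at h
    rwa [hsub] at h

include hT in
/-- `U_{w'}⁻` lies in `U_S` when `w'` maps the class `S` to positive roots. -/
theorem minus_le_upS {w' : List ℕ} {c : ℕ × ℕ}
    (hpos : ∀ j < c.2, D.nroots / 2 ≤ (tabOf D).reflWord w' (clsRoot D ρ c.1 j)) :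
    Subgroup.closure (minusGen D K w') ≤ Subgroup.closure (upGenS D K (InCls D ρ c)) := by
  apply Subgroup.closure_mono
  rintro x ⟨r, t, hrpos, hrneg, hx⟩
  refine ⟨r, t, hrpos, ?_, hx⟩
  rintro ⟨j, hj, rfl⟩
  have := hpos j hj
  omega

include hG hT in
/-- `U_w⁻` lies in `U`, and the element of `N` of `w` conjugates it into `V`. -/
theorem minus_le_pos (w : List ℕ) : Subgroup.closure (minusGen D K w) ≤ D.posUnipotent K := by
  apply Subgroup.closure_mono
  rintro x ⟨r, t, hr, _, hx⟩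
  exact ⟨r, t, hr, hx⟩

include hG hT in
theorem conj_minus_mem_neg {w : List ℕ} (hw : ∀ i ∈ w, i < D.rank) :
    ∀ y ∈ Subgroup.closure (minusGen D K w),
      nWordGL hG w * y * (nWordGL hG w)⁻¹ ∈ D.negUnipotent K := by
  have hG1 := hG.toGood1
  have key := conj_closure_le (S := minusGen D K w)
    (S' := {g : GL D.Idx K | ∃ (r : ℕ) (t : K), D.IsNegRoot r ∧
      (g : Matrix D.Idx D.Idx K) = D.x K r t}) (nWordGL hG w) ?_
  · exact key
  · rintro x ⟨r, t, hrpos, hrneg, hx⟩
    have hr := hrpos.1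
    rw [eq_xGL hG1 hr hx, nWordGL_conj hG hw hr]
    exact Subgroup.subset_closure
      ⟨_, _, (isNegRoot_iff hT (reflWord_lt hG hw hr)).mpr hrneg, xGL_coe hG1 _ _⟩

include hT h3 h4 h6 h8 h19 f in
/-- Conjugation by the inverse of `n_S` maps `U_{w'}⁻` into `U_{w' s_S}⁻`. -/
theorem conj_minus_le {w' : List ℕ} (hw' : ∀ i ∈ w', i < D.rank) {c : ℕ × ℕ} (hc : c ∈ cls)
    (hpos : ∀ j < c.2, D.nroots / 2 ≤ (tabOf D).reflWord w' (clsRoot D ρ c.1 j)) :
    ∀ y ∈ Subgroup.closure (minusGen D K w'),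
      (nWordGL hG (clsWord ρ c))⁻¹ * y * nWordGL hG (clsWord ρ c) ∈
        Subgroup.closure (minusGen D K (w' ++ clsWord ρ c)) := by
  have hG1 := hG.toGood1
  have hcw := clsWord_lt h19 hc
  have key := conj_closure_le (S := minusGen D K w')
    (S' := minusGen D K (w' ++ clsWord ρ c)) (nWordGL hG (clsWord ρ c) : GL D.Idx K)⁻¹ ?_
  · intro y hy
    have := key y hy
    rwa [inv_inv] at this
  · rintro x ⟨r, t, hrpos, hrneg, hx⟩
    rw [inv_inv]
    have hr := hrpos.1
    rw [eq_xGL hG1 hr hx]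
    by_cases ht : t = 0
    · rw [ht, xGL_zero]
      simp
    obtain ⟨hs, t', e, ht'⟩ := nW_inv_conj (K := K) hG hT h8 (one_mem (D.diagonalSubgroup K)) hcw hr t
    rw [one_mul] at e
    rw [e]
    have ht'0 := ht' ht
    -- the element lies in `U_S`
    have hxU : xGL hG1 hr t ∈ Subgroup.closure (upGenS D K (InCls D ρ c)) := by
      apply Subgroup.subset_closure
      refine ⟨r, t, hrpos, ?_, xGL_coe hG1 hr t⟩
      rintro ⟨j, hj, rfl⟩
      have := hpos j hj
      omega
    have hnorm : nWordGL hG (clsWord ρ c) ∈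
        Subgroup.normalizer (Subgroup.closure (upGenS D K (InCls D ρ c)) : Set (GL D.Idx K)) := by
      rw [← clsHom_anti hG h3 h4 h19 f hc]
      exact ncls_mem_normalizer_upS hG hT h3 h4 h6 h19 f hc
    have hmem : xGL hG1 hs t' ∈ Subgroup.closure (upGenS D K (InCls D ρ c)) := by
      rw [← e]
      rw [Subgroup.mem_set_normalizer_iff] at hnorm
      apply (hnorm _).mpr
      have e2 : nWordGL hG (clsWord ρ c) * ((nWordGL hG (clsWord ρ c))⁻¹ * xGL hG1 hr t *
          nWordGL hG (clsWord ρ c)) * (nWordGL hG (clsWord ρ c))⁻¹ = xGL hG1 hr t := by group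
      rw [e2]
      exact hxU
    have hspos : D.nroots / 2 ≤ (tabOf D).reflWord (clsWord ρ c).reverse r := by
      by_contra hneg
      have hV : xGL hG1 hs t' ∈ D.negUnipotent K :=
        Subgroup.subset_closure ⟨_, t', (isNegRoot_iff hT hs).mpr (by omega), xGL_coe hG1 hs t'⟩
      have hU : xGL hG1 hs t' ∈ D.borelSubgroup K :=
        Subgroup.mem_sup_left (upS_le_pos (InCls D ρ c) hmem)
      have : xGL hG1 hs t' ∈ D.borelSubgroup K ⊓ D.negUnipotent K := Subgroup.mem_inf.mpr ⟨hU, hV⟩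
      rw [borel_inf_negUnipotent hG hT, Subgroup.mem_bot] at this
      exact xGL_ne_one hG hT h8 hs ht'0 this
    apply Subgroup.subset_closure
    refine ⟨_, t', (isPosRoot_iff hT hs).mpr hspos, ?_, xGL_coe hG1 hs t'⟩
    rw [reflWord_append, reflWord_reverse_cancel hG hcw hr]
    exact hrneg

include hT h19 in
/-- `x_S(t)` lies in `U_{w' s_S}⁻`. -/
theorem upper_mem_minus {w' : List ℕ} (hw' : ∀ i ∈ w', i < D.rank) {c : ℕ × ℕ} (hc : c ∈ cls)
    (hpos : ∀ j < c.2, D.nroots / 2 ≤ (tabOf D).reflWord w' (clsRoot D ρ c.1 j)) (t : K) :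
    clsHom hG h3 h4 h19 f hc (upperSL t) ∈ Subgroup.closure (minusGen D K (w' ++ clsWord ρ c)) := by
  have hG1 := hG.toGood1
  obtain ⟨_, _, hlt⟩ := h19.orbit c hc
  rw [clsHom_upper, xiHom_apply]
  apply Subgroup.list_prod_mem
  intro x hx
  rw [List.mem_map] at hx
  obtain ⟨j, hj, rfl⟩ := hx
  rw [List.mem_range] at hj
  have hp : clsRoot D ρ c.1 j < D.nroots := hG1.simple_lt (hlt j hj)
  apply Subgroup.subset_closure
  refine ⟨_, _, (isPosRoot_iff hT hp).mpr (simple_pos hG1 hT (hlt j hj)), ?_, xGL'_coe _ _⟩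
  change (tabOf D).reflWord (w' ++ clsWord ρ c) (clsRoot D ρ c.1 j) < D.nroots / 2
  rw [reflWord_append, reflWord_clsWord hG h19 hc hj, reflWord_neg hG hw' hp]
  exact neg_neg_of_pos hG hT (reflWord_lt hG hw' hp) (hpos j hj)

end main

end Cfsg.Agent.Helper7.Chev
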