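import Mathlib
import Cfsg.Agent.Helper7.ChevTwU1

set_option autoImplicit false
set_option linter.unusedSectionVars false
set_option linter.unusedVariables false

/-!
Twisted groups: the recursion for the fixed points in `U_w⁻` along a word in the classes.
-/

namespace Cfsg.Agent.Helper7.Chev

open Cfsg Cfsg.Lie Matrix

variable {D : ChevalleyDatum} {K : Type*} [Field K]

section step

variable (hG : Good2 D) (hT : T0 D) (h3 : (tabOf D).T3) (h4 : (tabOf D).T4 60) (h5 : (tabOf D).T5)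
  (h6 : (tabOf D).T6) (h7 : (tabOf D).T7) (h8 : (tabOf D).T8) (h9 : (tabOf D).T9)
  {ρ ρ' σ σ' : ℕ → ℕ} {ε : ℕ → ℤ} (h18 : T18 D ρ ρ' σ σ' ε) {cls : List (ℕ × ℕ)}
  (h19 : T19 D ρ σ cls) (h20 : (tabOf D).T20 ρ cls) (f : K ≃+* K)

include h3 h4 h18 h19 in
theorem ncls_fixed {c : ℕ × ℕ} (hc : c ∈ cls) :
    twAut h18 f (nWordGL hG (clsWord ρ c)) = nWordGL hG (clsWord ρ c) := by
  rw [← clsHom_anti hG h3 h4 h19 f hc]
  exact twGroup_le_twFix hG h3 h4 h18 h19 f (anti_mem_twGroup hG h3 h4 h19 f hc)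

include hT h3 h4 h6 h19 f in
theorem nclsWord_mem_normalizer_upS {c : ℕ × ℕ} (hc : c ∈ cls) :
    (nWordGL hG (clsWord ρ c) : GL D.Idx K) ∈
      Subgroup.normalizer (Subgroup.closure (upGenS D K (InCls D ρ c)) : Set (GL D.Idx K)) := by
  rw [← clsHom_anti hG h3 h4 h19 f hc]
  exact ncls_mem_normalizer_upS hG hT h3 h4 h6 h19 f hc

include hT h18 in
/-- `x_S(t)` is a fixed point in `U_{w' s_S}⁻`. -/
theorem upper_mem_twM {w' : List ℕ} (hw' : ∀ i ∈ w', i < D.rank) {c : ℕ × ℕ} (hc : c ∈ cls)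
    (hpos : ∀ j < c.2, D.nroots / 2 ≤ (tabOf D).reflWord w' (clsRoot D ρ c.1 j)) {t : K}
    (ht : Adm f c.2 t) :
    clsHom hG h3 h4 h19 f hc (upperSL t) ∈ twM hG h18 f (w' ++ clsWord ρ c) := by
  have hw : ∀ i ∈ w' ++ clsWord ρ c, i < D.rank := by
    intro i hi
    rcases List.mem_append.mp hi with h | h
    · exact hw' i h
    · exact clsWord_lt h19 hc i h
  rw [mem_twM]
  refine ⟨clsHom_upper_mem hG hT h3 h4 h19 f hc t,
    twGroup_le_twFix hG h3 h4 h18 h19 f (upper_mem_twGroup hG h3 h4 h19 f hc ht), ?_⟩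
  exact conj_minus_mem_neg hG hT hw _ (upper_mem_minus hG hT h3 h4 h19 f hw' hc hpos t)

include hT h5 h6 h7 h8 h18 h20 in
/-- The decomposition of a fixed point in `U_{w' s_S}⁻`. -/
theorem twM_decomp {w' : List ℕ} (hw' : ∀ i ∈ w', i < D.rank) {c : ℕ × ℕ} (hc : c ∈ cls)
    (hpos : ∀ j < c.2, D.nroots / 2 ≤ (tabOf D).reflWord w' (clsRoot D ρ c.1 j))
    {g : GL D.Idx K} (hg : g ∈ twM hG h18 f (w' ++ clsWord ρ c)) :
    ∃ v' ∈ twM hG h18 f w', ∃ t : K, Adm f c.2 t ∧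
      g = (nWordGL hG (clsWord ρ c))⁻¹ * v' * nWordGL hG (clsWord ρ c) *
        clsHom hG h3 h4 h19 f hc (upperSL t) := by
  obtain ⟨hgU, hgfix, hgV⟩ := (mem_twM hG h18 f).mp hg
  obtain ⟨u', hu', t, ht, rfl⟩ :=
    exists_upS_mul_cls_of_fixed hG hT h3 h4 h5 h7 h8 h18 h19 h20 f hc hgU hgfix
  set x : GL D.Idx K := clsHom hG h3 h4 h19 f hc (upperSL t) with hx
  set n : GL D.Idx K := nWordGL hG (clsWord ρ c) with hn
  have hxM : x ∈ twM hG h18 f (w' ++ clsWord ρ c) :=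
    upper_mem_twM hG hT h3 h4 h18 h19 f hw' hc hpos ht
  have hu'M : u' ∈ twM hG h18 f (w' ++ clsWord ρ c) := by
    have e : u' = (u' * x) * x⁻¹ := by group
    rw [e]
    exact mul_mem hg (inv_mem hxM)
  obtain ⟨_, hu'fix, hu'V⟩ := (mem_twM hG h18 f).mp hu'M
  have hnorm := nclsWord_mem_normalizer_upS hG hT h3 h4 h6 h19 f hc (K := K)
  have hnfix : twAut h18 f n = n := ncls_fixed hG h3 h4 h18 h19 f hc
  refine ⟨n * u' * n⁻¹, ?_, t, ht, by rw [hx]; group⟩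
  rw [mem_twM]
  refine ⟨upS_le_pos (InCls D ρ c) ((Subgroup.mem_set_normalizer_iff.mp hnorm u').mp hu'), ?_, ?_⟩
  · rw [map_mul, map_mul, map_inv, hnfix, hu'fix]
  · rw [nWordGL_append] at hu'V
    have e : nWordGL hG w' * (n * u' * n⁻¹) * (nWordGL hG w')⁻¹ =
        nWordGL hG w' * n * u' * (nWordGL hG w' * n)⁻¹ := by group
    rw [e]
    exact hu'V

include hT h3 h4 h6 h8 h18 h19 in
/-- The composition of a fixed point in `U_{w'}⁻` and `x_S(t)`. -/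
theorem twM_compose {w' : List ℕ} (hw' : ∀ i ∈ w', i < D.rank) {c : ℕ × ℕ} (hc : c ∈ cls)
    (hpos : ∀ j < c.2, D.nroots / 2 ≤ (tabOf D).reflWord w' (clsRoot D ρ c.1 j))
    (hle : twM hG h18 f w' ≤ Subgroup.closure (minusGen D K w'))
    {v' : GL D.Idx K} (hv' : v' ∈ twM hG h18 f w') :
    (nWordGL hG (clsWord ρ c))⁻¹ * v' * nWordGL hG (clsWord ρ c) ∈
        Subgroup.closure (upGenS D K (InCls D ρ c)) ∧
      (nWordGL hG (clsWord ρ c))⁻¹ * v' * nWordGL hG (clsWord ρ c) ∈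
        twM hG h18 f (w' ++ clsWord ρ c) := by
  set n : GL D.Idx K := nWordGL hG (clsWord ρ c) with hn
  have hnorm := nclsWord_mem_normalizer_upS hG hT h3 h4 h6 h19 f hc (K := K)
  have hnfix : twAut h18 f n = n := ncls_fixed hG h3 h4 h18 h19 f hc
  obtain ⟨_, hv'fix, hv'V⟩ := (mem_twM hG h18 f).mp hv'
  have hv'S : v' ∈ Subgroup.closure (upGenS D K (InCls D ρ c)) := minus_le_upS hT hpos (hle hv')
  have hmem : n⁻¹ * v' * n ∈ Subgroup.closure (upGenS D K (InCls D ρ c)) := by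
    apply (Subgroup.mem_set_normalizer_iff.mp hnorm _).mpr
    have e : n * (n⁻¹ * v' * n) * n⁻¹ = v' := by group
    rw [e]
    exact hv'S
  refine ⟨hmem, ?_⟩
  rw [mem_twM]
  refine ⟨upS_le_pos (InCls D ρ c) hmem, ?_, ?_⟩
  · rw [map_mul, map_mul, map_inv, hnfix, hv'fix]
  · rw [nWordGL_append]
    have e : nWordGL hG w' * n * (n⁻¹ * v' * n) * (nWordGL hG w' * n)⁻¹ =
        nWordGL hG w' * v' * (nWordGL hG w')⁻¹ := by group
    rw [e]
    exact hv'V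

end step

end Cfsg.Agent.Helper7.Chev
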