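import Mathlib
import Cfsg.Agent.Helper7.ChevTwU2

set_option autoImplicit false
set_option linter.unusedSectionVars false
set_option linter.unusedVariables false

/-!
Twisted groups: the fixed points in `U_w⁻` lie in the twisted group, and their number.
-/

namespace Cfsg.Agent.Helper7.Chev

open Cfsg Cfsg.Lie Matrix

variable {D : ChevalleyDatum} {K : Type*} [Field K]

section main

variable (hG : Good2 D) (hT : T0 D) (h3 : (tabOf D).T3) (h4 : (tabOf D).T4 60) (h5 : (tabOf D).T5)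
  (h6 : (tabOf D).T6) (h7 : (tabOf D).T7) (h8 : (tabOf D).T8) (h9 : (tabOf D).T9)
  {ρ ρ' σ σ' : ℕ → ℕ} {ε : ℕ → ℤ} (h18 : T18 D ρ ρ' σ σ' ε) {cls : List (ℕ × ℕ)}
  (h19 : T19 D ρ σ cls) (h20 : (tabOf D).T20 ρ cls) (f : K ≃+* K)

include h19 in
theorem flatMap_clsWord_lt {L : List (ℕ × ℕ)} (hL : ∀ c ∈ L, c ∈ cls) :
    ∀ i ∈ L.flatMap (clsWord ρ), i < D.rank := by
  intro i hi
  rw [List.mem_flatMap] at hi
  obtain ⟨c, hc, hi⟩ := hi
  exact clsWord_lt h19 (hL c hc) i hi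

include hT h7 h8 h20 in
/-- The parameter of `x_S(t)` is determined. -/
theorem clsHom_upper_injective {c : ℕ × ℕ} (hc : c ∈ cls) {t₁ t₂ : K}
    (e : clsHom hG h3 h4 h19 f hc (upperSL t₁) = clsHom hG h3 h4 h19 f hc (upperSL t₂)) :
    t₁ = t₂ := by
  obtain ⟨hm, _, _⟩ := h19.orbit c hc
  rw [clsHom_upper, clsHom_upper] at e
  have e1 : xiHom hG h3 h4 h19 hc
      (Multiplicative.ofAdd (fun j => (((f : K →+* K)) ^ j) t₁) *
        (Multiplicative.ofAdd fun j => (((f : K →+* K)) ^ j) t₂)⁻¹) = 1 := by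
    rw [map_mul, map_inv, e, mul_inv_cancel]
  have := xiHom_eq_one hG hT h3 h4 h7 h8 h19 h20 hc e1 0 hm
  rw [toAdd_mul, toAdd_inv, toAdd_ofAdd, toAdd_ofAdd] at this
  simp only [Pi.add_apply, Pi.neg_apply, pow_zero] at this
  have h1 : ((1 : K →+* K)) t₁ = t₁ := rfl
  have h2 : ((1 : K →+* K)) t₂ = t₂ := rfl
  rw [h1, h2] at this
  exact add_neg_eq_zero.mp this

include hT h5 h6 h7 h8 h18 h20 in
/-- The fixed points in `U_w⁻`, for a word `w` in the classes all of whose prefixes map the next fundamental root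
to a positive root: they lie in the subgroup generated by the root subgroups of the positive roots made
negative by `w`, they lie in the twisted group, and their number is the product of the numbers of the admissible
parameters of the classes. -/
theorem twM_main : ∀ L : List (ℕ × ℕ), (∀ c ∈ L, c ∈ cls) → PrefixPos D (L.flatMap (clsWord ρ)) →
    twM hG h18 f (L.flatMap (clsWord ρ)) ≤
        Subgroup.closure (minusGen D K (L.flatMap (clsWord ρ))) ∧
      twM hG h18 f (L.flatMap (clsWord ρ)) ≤ twGroup hG h3 h4 h19 f ∧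
      Nat.card (twM hG h18 f (L.flatMap (clsWord ρ))) =
        (L.map fun c => Nat.card {t : K // Adm f c.2 t}).prod := by
  intro L
  induction L using List.reverseRecOn with
  | nil =>
    intro _ _
    rw [List.flatMap_nil, twM_nil hG hT h18 f]
    refine ⟨bot_le, bot_le, ?_⟩
    rw [List.map_nil, List.prod_nil]
    exact Nat.card_unique
  | append_singleton L c ih =>
    intro hL hpp
    have hc : c ∈ cls := hL c (by simp)
    have hL' : ∀ c' ∈ L, c' ∈ cls := fun c' hc' => hL c' (by simp [hc'])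
    rw [List.flatMap_append, List.flatMap_singleton] at hpp ⊢
    set w' : List ℕ := L.flatMap (clsWord ρ) with hw'def
    have hw' : ∀ i ∈ w', i < D.rank := flatMap_clsWord_lt h19 hL'
    obtain ⟨hpp', hpos⟩ := cls_pos_of_prefixPos hG h19 hc hpp
    obtain ⟨ih1, ih2, ih3⟩ := ih hL' hpp'
    set n : GL D.Idx K := nWordGL hG (clsWord ρ c) with hn
    have hnG : n ∈ twGroup hG h3 h4 h19 f := by
      rw [hn, ← clsHom_anti hG h3 h4 h19 f hc]
      exact anti_mem_twGroup hG h3 h4 h19 f hc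
    refine ⟨?_, ?_, ?_⟩
    · intro g hg
      obtain ⟨v', hv', t, ht, rfl⟩ := twM_decomp hG hT h3 h4 h5 h6 h7 h8 h18 h19 h20 f hw' hc hpos hg
      exact mul_mem (conj_minus_le hG hT h3 h4 h6 h8 h19 f hw' hc hpos v' (ih1 hv'))
        (upper_mem_minus hG hT h3 h4 h19 f hw' hc hpos t)
    · intro g hg
      obtain ⟨v', hv', t, ht, rfl⟩ := twM_decomp hG hT h3 h4 h5 h6 h7 h8 h18 h19 h20 f hw' hc hpos hg
      exact mul_mem (mul_mem (mul_mem (inv_mem hnG) (ih2 hv')) hnG)
        (upper_mem_twGroup hG h3 h4 h19 f hc ht)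
    · let Φ : ↥(twM hG h18 f w') × {t : K // Adm f c.2 t} → ↥(twM hG h18 f (w' ++ clsWord ρ c)) :=
        fun p => ⟨n⁻¹ * (p.1 : GL D.Idx K) * n * clsHom hG h3 h4 h19 f hc (upperSL p.2.1),
          mul_mem (twM_compose hG hT h3 h4 h6 h8 h18 h19 f hw' hc hpos ih1 p.1.2).2
            (upper_mem_twM hG hT h3 h4 h18 h19 f hw' hc hpos p.2.2)⟩
      have hinj : Function.Injective Φ := by
        rintro ⟨⟨v₁, hv₁⟩, ⟨t₁, ht₁⟩⟩ ⟨⟨v₂, hv₂⟩, ⟨t₂, ht₂⟩⟩ e
        have e' : n⁻¹ * v₁ * n * clsHom hG h3 h4 h19 f hc (upperSL t₁) =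
            n⁻¹ * v₂ * n * clsHom hG h3 h4 h19 f hc (upperSL t₂) :=
          congrArg (fun x : ↥(twM hG h18 f (w' ++ clsWord ρ c)) => (x : GL D.Idx K)) e
        have ha₁ := (twM_compose hG hT h3 h4 h6 h8 h18 h19 f hw' hc hpos ih1 hv₁).1
        have ha₂ := (twM_compose hG hT h3 h4 h6 h8 h18 h19 f hw' hc hpos ih1 hv₂).1
        have e2 : (n⁻¹ * v₂ * n)⁻¹ * (n⁻¹ * v₁ * n) =
            clsHom hG h3 h4 h19 f hc (upperSL t₂) * (clsHom hG h3 h4 h19 f hc (upperSL t₁))⁻¹ := by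
          calc (n⁻¹ * v₂ * n)⁻¹ * (n⁻¹ * v₁ * n)
              = (n⁻¹ * v₂ * n)⁻¹ * (n⁻¹ * v₁ * n * clsHom hG h3 h4 h19 f hc (upperSL t₁)) *
                  (clsHom hG h3 h4 h19 f hc (upperSL t₁))⁻¹ := by group
            _ = (n⁻¹ * v₂ * n)⁻¹ * (n⁻¹ * v₂ * n * clsHom hG h3 h4 h19 f hc (upperSL t₂)) *
                  (clsHom hG h3 h4 h19 f hc (upperSL t₁))⁻¹ := by rw [e']
            _ = _ := by group
        have hrange : clsHom hG h3 h4 h19 f hc (upperSL t₂) *
            (clsHom hG h3 h4 h19 f hc (upperSL t₁))⁻¹ ∈ (xiHom hG h3 h4 h19 hc (K := K)).range := by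
          rw [clsHom_upper, clsHom_upper]
          exact mul_mem ⟨_, rfl⟩ (inv_mem ⟨_, rfl⟩)
        have h1 : (n⁻¹ * v₂ * n)⁻¹ * (n⁻¹ * v₁ * n) = 1 := by
          apply upS_inf_xi hG hT h3 h4 h7 h8 h19 h20 hc (mul_mem (inv_mem ha₂) ha₁)
          rw [e2]
          exact hrange
        have hv : v₁ = v₂ := by
          have := inv_mul_eq_one.mp h1
          have e3 : v₂ = n * (n⁻¹ * v₂ * n) * n⁻¹ := by group
          have e4 : v₁ = n * (n⁻¹ * v₁ * n) * n⁻¹ := by group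
          rw [e3, e4, this]
        subst hv
        have ht : t₁ = t₂ :=
          clsHom_upper_injective hG hT h3 h4 h7 h8 h19 h20 f hc (mul_left_cancel e')
        subst ht
        rfl
      have hsurj : Function.Surjective Φ := by
        rintro ⟨g, hg⟩
        obtain ⟨v', hv', t, ht, rfl⟩ :=
          twM_decomp hG hT h3 h4 h5 h6 h7 h8 h18 h19 h20 f hw' hc hpos hg
        exact ⟨⟨⟨v', hv'⟩, ⟨t, ht⟩⟩, rfl⟩
      rw [← Nat.card_congr (Equiv.ofBijective Φ ⟨hinj, hsurj⟩), Nat.card_prod, ih3, List.map_append,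
        List.prod_append, List.map_singleton, List.prod_singleton]

end main

end Cfsg.Agent.Helper7.Chev
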