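import Mathlib
import Cfsg.Agent.Helper7.ChevTwU3
import Cfsg.Agent.Helper7.ChevCardH

set_option autoImplicit false
set_option linter.unusedSectionVars false
set_option linter.unusedVariables false

/-!
Twisted groups: `U ⊓ G¹` consists of the fixed points of the twisting automorphism in `U`, and its order.
-/

namespace Cfsg.Agent.Helper7.Chev

open Cfsg Cfsg.Lie Matrix

namespace Tab

variable (T : Tab)

/-- Every prefix of the word maps the next fundamental root to a positive root. -/
def prefixPos (w : List ℕ) : Bool :=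
  (List.range w.length).all fun m =>
    decide (T.n / 2 ≤ T.reflWord (w.take m) (T.simple (w.getD m 0)))

end Tab

variable {D : ChevalleyDatum} {K : Type*} [Field K]

theorem prefixPos_of_tab {w : List ℕ} (h : (tabOf D).prefixPos w = true) : PrefixPos D w := by
  intro w₁ k w₂ hwe
  unfold Tab.prefixPos at h
  rw [List.all_eq_true] at h
  have hm : w₁.length < w.length := by rw [hwe]; simp
  have := h w₁.length (List.mem_range.mpr hm)
  rw [decide_eq_true_eq] at this
  have htake : w.take w₁.length = w₁ := by rw [hwe]; simp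
  have hget : w.getD w₁.length 0 = k := by rw [hwe]; simp
  rw [htake, hget] at this
  exact this

section main

variable (hG : Good2 D) (hT : T0 D) (h3 : (tabOf D).T3) (h4 : (tabOf D).T4 60) (h5 : (tabOf D).T5)
  (h6 : (tabOf D).T6) (h7 : (tabOf D).T7) (h8 : (tabOf D).T8) (h9 : (tabOf D).T9)
  {ρ ρ' σ σ' : ℕ → ℕ} {ε : ℕ → ℤ} (h18 : T18 D ρ ρ' σ σ' ε) {cls : List (ℕ × ℕ)}
  (h19 : T19 D ρ σ cls) (h20 : (tabOf D).T20 ρ cls) (f : K ≃+* K)

include hT in
/-- For a word of the longest element, `U_w⁻ = U`. -/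
theorem pos_le_minus {w : List ℕ} (hw0 : (tabOf D).W0ok w) :
    D.posUnipotent K ≤ Subgroup.closure (minusGen D K w) := by
  apply Subgroup.closure_mono
  rintro x ⟨r, t, hr, hx⟩
  exact ⟨r, t, hr, hw0.2.1 r hr.1 ((isPosRoot_iff hT hr.1).mp hr), hx⟩

include hT h5 h6 h7 h8 h18 h20 in
/-- `U ⊓ G¹` is the group of the fixed points of the twisting automorphism in `U`. -/
theorem posUnipotent_inf_twGroup {L : List (ℕ × ℕ)} (hL : ∀ c ∈ L, c ∈ cls)
    (hpp : PrefixPos D (L.flatMap (clsWord ρ))) (hw0 : (tabOf D).W0ok (L.flatMap (clsWord ρ))) :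
    D.posUnipotent K ⊓ twGroup hG h3 h4 h19 f = twM hG h18 f (L.flatMap (clsWord ρ)) ∧
      D.posUnipotent K ⊓ twGroup hG h3 h4 h19 f = D.posUnipotent K ⊓ twFix h18 f := by
  obtain ⟨m1, m2, _⟩ := twM_main hG hT h3 h4 h5 h6 h7 h8 h18 h19 h20 f L hL hpp
  have hw := flatMap_clsWord_lt h19 hL
  have hfixM : D.posUnipotent K ⊓ twFix h18 f ≤ twM hG h18 f (L.flatMap (clsWord ρ)) := by
    intro g hg
    rw [Subgroup.mem_inf, mem_twFix] at hg
    rw [mem_twM]
    exact ⟨hg.1, hg.2, conj_minus_mem_neg hG hT hw g (pos_le_minus hT hw0 hg.1)⟩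
  have hMU : twM hG h18 f (L.flatMap (clsWord ρ)) ≤ D.posUnipotent K := fun g hg =>
    ((mem_twM hG h18 f).mp hg).1
  have h1 : D.posUnipotent K ⊓ twGroup hG h3 h4 h19 f ≤ D.posUnipotent K ⊓ twFix h18 f :=
    inf_le_inf_left _ (twGroup_le_twFix hG h3 h4 h18 h19 f)
  have h2 : twM hG h18 f (L.flatMap (clsWord ρ)) ≤ D.posUnipotent K ⊓ twGroup hG h3 h4 h19 f :=
    le_inf hMU m2
  exact ⟨le_antisymm (h1.trans hfixM) h2, le_antisymm h1 (hfixM.trans h2)⟩

include hT h5 h6 h7 h8 h18 h20 in
/-- The order of `U ⊓ G¹`. -/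
theorem card_posUnipotent_inf_twGroup {L : List (ℕ × ℕ)} (hL : ∀ c ∈ L, c ∈ cls)
    (hpp : PrefixPos D (L.flatMap (clsWord ρ))) (hw0 : (tabOf D).W0ok (L.flatMap (clsWord ρ))) :
    Nat.card ↥(D.posUnipotent K ⊓ twGroup hG h3 h4 h19 f) =
      (L.map fun c => Nat.card {t : K // Adm f c.2 t}).prod := by
  rw [(posUnipotent_inf_twGroup hG hT h3 h4 h5 h6 h7 h8 h18 h19 h20 f hL hpp hw0).1]
  exact (twM_main hG hT h3 h4 h5 h6 h7 h8 h18 h19 h20 f L hL hpp).2.2

end main

/-! ### The number of admissible parameters -/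

section adm

variable [Fintype K]

/-- The number of fixed points of `t ↦ t ^ q` in a field with `q ^ n` elements. -/
theorem card_pow_eq_self {q n : ℕ} (hq : 2 ≤ q) (hn : 0 < n) (hK : Fintype.card K = q ^ n) :
    Nat.card {t : K // t ^ q = t} = q := by
  classical
  have hunits : Nat.card Kˣ = q ^ n - 1 := by
    rw [Nat.card_eq_fintype_card, Fintype.card_units, hK]
  have hdvd : q - 1 ∣ q ^ n - 1 := by
    have := Nat.sub_dvd_pow_sub_pow q 1 n
    rwa [one_pow] at this
  have h1 : Nat.card {g : Kˣ // g ^ (q - 1) = 1} = q - 1 := by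
    rw [card_pow_eq_one_subtype, hunits]
    exact Nat.gcd_eq_right hdvd
  -- the bijection with the solutions among the units, and zero
  have e : {t : K // t ^ q = t} ≃ Option {g : Kˣ // g ^ (q - 1) = 1} :=
    { toFun := fun t => if h : t.1 = 0 then none else
        some ⟨Units.mk0 t.1 h, by
          apply Units.ext
          rw [Units.val_pow_eq_pow_val, Units.val_mk0, Units.val_one]
          have h2 : t.1 ^ (q - 1) * t.1 = 1 * t.1 := by
            rw [← pow_succ, Nat.sub_add_cancel (by omega), one_mul]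
            exact t.2
          exact mul_right_cancel₀ h h2⟩
      invFun := fun o => match o with
        | none => ⟨0, zero_pow (by omega)⟩
        | some g => ⟨(g.1 : K), by
            have h2 := congrArg (fun u : Kˣ => (u : K)) g.2
            simp only [Units.val_pow_eq_pow_val, Units.val_one] at h2
            calc (g.1 : K) ^ q = (g.1 : K) ^ ((q - 1) + 1) := by
                  congr 1; omega
              _ = (g.1 : K) := by rw [pow_succ, h2, one_mul]⟩
      left_inv := by
        rintro ⟨t, ht⟩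
        by_cases h : t = 0
        · simp [h]
        · simp [h]
      right_inv := by
        rintro (_ | ⟨g, hg⟩)
        · simp
        · simp }
  rw [Nat.card_congr e, Nat.card_eq_fintype_card, Fintype.card_option,
    ← Nat.card_eq_fintype_card, h1]
  omega

/-- The number of admissible parameters of a class of length one. -/
theorem card_adm_one {q n : ℕ} (hq : 2 ≤ q) (hn : 0 < n) (hK : Fintype.card K = q ^ n)
    {f : K ≃+* K} (hf : ∀ t, f t = t ^ q) : Nat.card {t : K // Adm f 1 t} = q := by
  rw [← card_pow_eq_self hq hn hK]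
  apply Nat.card_congr
  apply Equiv.subtypeEquivRight
  intro t
  rw [adm_one_iff, hf]

/-- The number of admissible parameters of a class whose length is the order of the field automorphism. -/
theorem card_adm_full {m : ℕ} {f : K ≃+* K} (hfm : ∀ t, (((f : K →+* K)) ^ m) t = t) :
    Nat.card {t : K // Adm f m t} = Fintype.card K := by
  rw [← Nat.card_eq_fintype_card]
  apply Nat.card_congr
  exact Equiv.subtypeUnivEquiv (fun t => hfm t)

end adm

end Cfsg.Agent.Helper7.Chev
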