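import Mathlib
import Cfsg.Agent.Helper7.ChevTwU4

set_option autoImplicit false
set_option linter.unusedSectionVars false
set_option linter.unusedVariables false

/-!
Fixed points of an automorphism in the subgroups `U_w⁻`, for `w` a word in classes of roots given abstractly:
a class is a set `P` of positive roots with a word `w_P`, the subgroup `U_P` of the root subgroups of the positive
roots outside `P`, the subgroup `X_P` of those in `P`, and a subgroup `X` of the fixed points in `X_P`.  The fixed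
points in `U_w⁻` lie in the subgroup generated by the `X` and the `n_P`, and their number is the product of the
orders of the `X`.
-/

namespace Cfsg.Agent.Helper7.Chev

open Cfsg Cfsg.Lie Matrix

variable {D : ChevalleyDatum} {K : Type*} [Field K]

/-- The data of a class of roots with respect to a subgroup `Fx` of fixed points and a subgroup `G1`. -/
structure FCls (hG : Good2 D) (K : Type*) [Field K] (Fx G1 : Subgroup (GL D.Idx K)) where
  word : List ℕ
  P : ℕ → Prop
  X : Subgroup (GL D.Idx K)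
  word_lt : ∀ i ∈ word, i < D.rank
  P_pos : ∀ r, P r → D.IsPosRoot r
  P_word : ∀ r, P r → ∃ r', P r' ∧ (tabOf D).reflWord word r = D.neg r'
  n_fix : (nWordGL hG word : GL D.Idx K) ∈ Fx
  n_G1 : (nWordGL hG word : GL D.Idx K) ∈ G1
  n_norm : (nWordGL hG word : GL D.Idx K) ∈
    Subgroup.normalizer (Subgroup.closure (upGenS D K P) : Set (GL D.Idx K))
  X_le : X ≤ Subgroup.closure (rootGen D K P)
  X_fix : X ≤ Fx
  X_G1 : X ≤ G1
  decomp : ∀ g ∈ D.posUnipotent K ⊓ Fx, ∃ u' ∈ Subgroup.closure (upGenS D K P), ∃ x ∈ X, g = u' * x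
  inter : Subgroup.closure (upGenS D K P) ⊓ Subgroup.closure (rootGen D K P) = ⊥

section main

variable (hG : Good2 D) (hT : T0 D) (h8 : (tabOf D).T8) {Fx G1 : Subgroup (GL D.Idx K)}

/-- The fixed points in `U` which the element of `N` of the word conjugates into `V`. -/
noncomputable def fM (Fx : Subgroup (GL D.Idx K)) (w : List ℕ) : Subgroup (GL D.Idx K) :=
  (D.posUnipotent K ⊓ Fx) ⊓
    (D.negUnipotent K).comap (MulAut.conj (nWordGL hG w : GL D.Idx K)).toMonoidHom

theorem mem_fM {w : List ℕ} {g : GL D.Idx K} :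
    g ∈ fM hG Fx w ↔ g ∈ D.posUnipotent K ∧ g ∈ Fx ∧
      nWordGL hG w * g * (nWordGL hG w)⁻¹ ∈ D.negUnipotent K := by
  unfold fM
  rw [Subgroup.mem_inf, Subgroup.mem_inf, Subgroup.mem_comap]
  constructor
  · rintro ⟨⟨h1, h2⟩, h3⟩
    exact ⟨h1, h2, h3⟩
  · rintro ⟨h1, h2, h3⟩
    exact ⟨⟨h1, h2⟩, h3⟩

include hT in
theorem fM_nil : fM hG Fx ([] : List ℕ) = (⊥ : Subgroup (GL D.Idx K)) := by
  rw [eq_bot_iff]
  intro g hg
  rw [mem_fM, nWordGL_nil, one_mul, inv_one, mul_one] at hg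
  have : g ∈ D.borelSubgroup K ⊓ D.negUnipotent K :=
    Subgroup.mem_inf.mpr ⟨Subgroup.mem_sup_left hg.1, hg.2.2⟩
  rwa [borel_inf_negUnipotent hG hT] at this

variable (c : FCls hG K Fx G1)

theorem FCls.XP_le_pos : Subgroup.closure (rootGen D K c.P) ≤ D.posUnipotent K := by
  apply Subgroup.closure_mono
  rintro g ⟨r, t, hr, hg⟩
  exact ⟨r, t, c.P_pos r hr, hg⟩

include hT in
/-- `U_{w'}⁻` lies in `U_P` when `w'` maps the class `P` to positive roots. -/
theorem FCls.minus_le_upS {w' : List ℕ}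
    (hpos : ∀ r, c.P r → D.nroots / 2 ≤ (tabOf D).reflWord w' r) :
    Subgroup.closure (minusGen D K w') ≤ Subgroup.closure (upGenS D K c.P) := by
  apply Subgroup.closure_mono
  rintro x ⟨r, t, hrpos, hrneg, hx⟩
  refine ⟨r, t, hrpos, ?_, hx⟩
  intro hP
  have := hpos r hP
  omega

include hT h8 in
/-- Conjugation by the inverse of `n_P` maps `U_{w'}⁻` into `U_{w' w_P}⁻`. -/
theorem FCls.conj_minus_le {w' : List ℕ} (hw' : ∀ i ∈ w', i < D.rank)
    (hpos : ∀ r, c.P r → D.nroots / 2 ≤ (tabOf D).reflWord w' r) :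
    ∀ y ∈ Subgroup.closure (minusGen D K w'),
      (nWordGL hG c.word)⁻¹ * y * nWordGL hG c.word ∈
        Subgroup.closure (minusGen D K (w' ++ c.word)) := by
  have hG1 := hG.toGood1
  have hcw := c.word_lt
  have key := conj_closure_le (S := minusGen D K w')
    (S' := minusGen D K (w' ++ c.word)) (nWordGL hG c.word : GL D.Idx K)⁻¹ ?_
  · intro y hy
    have := key y hy
    rwa [inv_inv] at this
  · rintro x ⟨r, t, hrpos, hrneg, hx⟩
    rw [inv_inv]
    have hr := hrpos.1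
    rw [eq_xGL hG1 hr hx]
    by_cases ht : t = 0
    · rw [ht, xGL_zero]
      simp
    obtain ⟨hs, t', e, ht'⟩ := nW_inv_conj (K := K) hG hT h8 (one_mem (D.diagonalSubgroup K)) hcw hr t
    rw [one_mul] at e
    rw [e]
    have ht'0 := ht' ht
    have hxU : xGL hG1 hr t ∈ Subgroup.closure (upGenS D K c.P) := by
      apply Subgroup.subset_closure
      refine ⟨r, t, hrpos, ?_, xGL_coe hG1 hr t⟩
      intro hP
      have := hpos r hP
      omega
    have hnorm := c.n_norm
    have hmem : xGL hG1 hs t' ∈ Subgroup.closure (upGenS D K c.P) := by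
      rw [← e]
      rw [Subgroup.mem_set_normalizer_iff] at hnorm
      apply (hnorm _).mpr
      have e2 : nWordGL hG c.word * ((nWordGL hG c.word)⁻¹ * xGL hG1 hr t *
          nWordGL hG c.word) * (nWordGL hG c.word)⁻¹ = xGL hG1 hr t := by group
      rw [e2]
      exact hxU
    have hspos : D.nroots / 2 ≤ (tabOf D).reflWord c.word.reverse r := by
      by_contra hneg
      have hV : xGL hG1 hs t' ∈ D.negUnipotent K :=
        Subgroup.subset_closure ⟨_, t', (isNegRoot_iff hT hs).mpr (by omega), xGL_coe hG1 hs t'⟩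
      have hU : xGL hG1 hs t' ∈ D.borelSubgroup K :=
        Subgroup.mem_sup_left (upS_le_pos c.P hmem)
      have : xGL hG1 hs t' ∈ D.borelSubgroup K ⊓ D.negUnipotent K := Subgroup.mem_inf.mpr ⟨hU, hV⟩
      rw [borel_inf_negUnipotent hG hT, Subgroup.mem_bot] at this
      exact xGL_ne_one hG hT h8 hs ht'0 this
    apply Subgroup.subset_closure
    refine ⟨_, t', (isPosRoot_iff hT hs).mpr hspos, ?_, xGL_coe hG1 hs t'⟩
    rw [reflWord_append, reflWord_reverse_cancel hG hcw hr]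
    exact hrneg

include hT in
/-- `X_P` lies in `U_{w' w_P}⁻`. -/
theorem FCls.XP_le_minus {w' : List ℕ} (hw' : ∀ i ∈ w', i < D.rank)
    (hpos : ∀ r, c.P r → D.nroots / 2 ≤ (tabOf D).reflWord w' r) :
    Subgroup.closure (rootGen D K c.P) ≤ Subgroup.closure (minusGen D K (w' ++ c.word)) := by
  apply Subgroup.closure_mono
  rintro g ⟨r, t, hr, hg⟩
  refine ⟨r, t, c.P_pos r hr, ?_, hg⟩
  obtain ⟨r', hr', e⟩ := c.P_word r hr
  have hr'lt : r' < D.nroots := (c.P_pos r' hr').1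
  rw [reflWord_append, e, reflWord_neg hG hw' hr'lt]
  exact Cfsg.Agent.Helper7.Chev.neg_neg_of_pos hG hT (reflWord_lt hG hw' hr'lt) (hpos r' hr')

theorem FCls.append_lt {w' : List ℕ} (hw' : ∀ i ∈ w', i < D.rank) :
    ∀ i ∈ w' ++ c.word, i < D.rank := by
  intro i hi
  rcases List.mem_append.mp hi with h | h
  · exact hw' i h
  · exact c.word_lt i h

include hT in
/-- The fixed points in `X_P` lie in `M (w' w_P)`. -/
theorem FCls.X_le_fM {w' : List ℕ} (hw' : ∀ i ∈ w', i < D.rank)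
    (hpos : ∀ r, c.P r → D.nroots / 2 ≤ (tabOf D).reflWord w' r) :
    c.X ≤ fM hG Fx (w' ++ c.word) := by
  intro x hx
  rw [mem_fM]
  refine ⟨c.XP_le_pos hG (c.X_le hx), c.X_fix hx, ?_⟩
  exact conj_minus_mem_neg hG hT (c.append_lt hG hw') _ (c.XP_le_minus hG hT hw' hpos (c.X_le hx))

include hT in
/-- The decomposition of a fixed point in `U_{w' w_P}⁻`. -/
theorem FCls.fM_decomp {w' : List ℕ} (hw' : ∀ i ∈ w', i < D.rank)
    (hpos : ∀ r, c.P r → D.nroots / 2 ≤ (tabOf D).reflWord w' r)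
    {g : GL D.Idx K} (hg : g ∈ fM hG Fx (w' ++ c.word)) :
    ∃ v' ∈ fM hG Fx w', ∃ x ∈ c.X,
      g = (nWordGL hG c.word)⁻¹ * v' * nWordGL hG c.word * x := by
  obtain ⟨hgU, hgfix, hgV⟩ := (mem_fM hG).mp hg
  obtain ⟨u', hu', x, hx, rfl⟩ := c.decomp g ⟨hgU, hgfix⟩
  set n : GL D.Idx K := nWordGL hG c.word with hn
  have hxM : x ∈ fM hG Fx (w' ++ c.word) := c.X_le_fM hG hT hw' hpos hx
  have hu'M : u' ∈ fM hG Fx (w' ++ c.word) := by
    have e : u' = (u' * x) * x⁻¹ := by group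
    rw [e]
    exact mul_mem hg (inv_mem hxM)
  obtain ⟨_, hu'fix, hu'V⟩ := (mem_fM hG).mp hu'M
  have hnorm := c.n_norm
  have hnfix : n ∈ Fx := c.n_fix
  refine ⟨n * u' * n⁻¹, ?_, x, hx, by group⟩
  rw [mem_fM]
  refine ⟨upS_le_pos c.P ((Subgroup.mem_set_normalizer_iff.mp hnorm u').mp hu'), ?_, ?_⟩
  · exact mul_mem (mul_mem hnfix hu'fix) (inv_mem hnfix)
  · rw [nWordGL_append] at hu'V
    have e : nWordGL hG w' * (n * u' * n⁻¹) * (nWordGL hG w')⁻¹ =
        nWordGL hG w' * n * u' * (nWordGL hG w' * n)⁻¹ := by group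
    rw [e]
    exact hu'V

include hT in
/-- The composition of a fixed point in `U_{w'}⁻` and an element of `X`. -/
theorem FCls.fM_compose {w' : List ℕ} (hw' : ∀ i ∈ w', i < D.rank)
    (hpos : ∀ r, c.P r → D.nroots / 2 ≤ (tabOf D).reflWord w' r)
    (hle : fM hG Fx w' ≤ Subgroup.closure (minusGen D K w'))
    {v' : GL D.Idx K} (hv' : v' ∈ fM hG Fx w') :
    (nWordGL hG c.word)⁻¹ * v' * nWordGL hG c.word ∈ Subgroup.closure (upGenS D K c.P) ∧
      (nWordGL hG c.word)⁻¹ * v' * nWordGL hG c.word ∈ fM hG Fx (w' ++ c.word) := by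
  set n : GL D.Idx K := nWordGL hG c.word with hn
  have hnorm := c.n_norm
  have hnfix : n ∈ Fx := c.n_fix
  obtain ⟨_, hv'fix, hv'V⟩ := (mem_fM hG).mp hv'
  have hv'S : v' ∈ Subgroup.closure (upGenS D K c.P) := c.minus_le_upS hG hT hpos (hle hv')
  have hmem : n⁻¹ * v' * n ∈ Subgroup.closure (upGenS D K c.P) := by
    apply (Subgroup.mem_set_normalizer_iff.mp hnorm _).mpr
    have e : n * (n⁻¹ * v' * n) * n⁻¹ = v' := by group
    rw [e]
    exact hv'S
  refine ⟨hmem, ?_⟩
  rw [mem_fM]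
  refine ⟨upS_le_pos c.P hmem, ?_, ?_⟩
  · exact mul_mem (mul_mem (inv_mem hnfix) hv'fix) hnfix
  · rw [nWordGL_append]
    have e : nWordGL hG w' * n * (n⁻¹ * v' * n) * (nWordGL hG w' * n)⁻¹ =
        nWordGL hG w' * v' * (nWordGL hG w')⁻¹ := by group
    rw [e]
    exact hv'V

/-- Every prefix of the word of the list of classes maps the next class to positive roots; the list is
reversed. -/
def FClsPos : List (FCls hG K Fx G1) → Prop
  | [] => True
  | c :: L => (∀ r, c.P r → D.nroots / 2 ≤ (tabOf D).reflWord (L.reverse.flatMap FCls.word) r) ∧ FClsPos L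

theorem flatMap_word_lt (L : List (FCls hG K Fx G1)) : ∀ i ∈ L.flatMap FCls.word, i < D.rank := by
  intro i hi
  rw [List.mem_flatMap] at hi
  obtain ⟨c, _, hi⟩ := hi
  exact c.word_lt i hi

include hT h8 in
/-- The fixed points in `U_w⁻`, for a word `w` in the classes all of whose prefixes map the next class
to positive roots. -/
theorem fM_main : ∀ L : List (FCls hG K Fx G1), FClsPos hG L →
    fM hG Fx (L.reverse.flatMap FCls.word) ≤
        Subgroup.closure (minusGen D K (L.reverse.flatMap FCls.word)) ∧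
      fM hG Fx (L.reverse.flatMap FCls.word) ≤ G1 ∧
      Nat.card (fM hG Fx (L.reverse.flatMap FCls.word)) = (L.map fun c => Nat.card c.X).prod := by
  intro L
  induction L with
  | nil =>
    intro _
    rw [List.reverse_nil, List.flatMap_nil, fM_nil hG hT]
    refine ⟨bot_le, bot_le, ?_⟩
    rw [List.map_nil, List.prod_nil]
    exact Nat.card_unique
  | cons c L ih =>
    intro hpp
    obtain ⟨hpos, hpp'⟩ := hpp
    rw [List.reverse_cons, List.flatMap_append, List.flatMap_singleton]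
    set w' : List ℕ := L.reverse.flatMap FCls.word with hw'def
    have hw' : ∀ i ∈ w', i < D.rank := flatMap_word_lt hG L.reverse
    obtain ⟨ih1, ih2, ih3⟩ := ih hpp'
    set n : GL D.Idx K := nWordGL hG c.word with hn
    have hnG : n ∈ G1 := c.n_G1
    refine ⟨?_, ?_, ?_⟩
    · intro g hg
      obtain ⟨v', hv', x, hx, rfl⟩ := c.fM_decomp hG hT hw' hpos hg
      exact mul_mem (c.conj_minus_le hG hT h8 hw' hpos v' (ih1 hv'))
        (c.XP_le_minus hG hT hw' hpos (c.X_le hx))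
    · intro g hg
      obtain ⟨v', hv', x, hx, rfl⟩ := c.fM_decomp hG hT hw' hpos hg
      exact mul_mem (mul_mem (mul_mem (inv_mem hnG) (ih2 hv')) hnG) (c.X_G1 hx)
    · let Φ : ↥(fM hG Fx w') × ↥c.X → ↥(fM hG Fx (w' ++ c.word)) :=
        fun p => ⟨n⁻¹ * (p.1 : GL D.Idx K) * n * (p.2 : GL D.Idx K),
          mul_mem (c.fM_compose hG hT hw' hpos ih1 p.1.2).2 (c.X_le_fM hG hT hw' hpos p.2.2)⟩
      have hinj : Function.Injective Φ := by
        rintro ⟨⟨v₁, hv₁⟩, ⟨x₁, hx₁⟩⟩ ⟨⟨v₂, hv₂⟩, ⟨x₂, hx₂⟩⟩ e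
        have e' : n⁻¹ * v₁ * n * x₁ = n⁻¹ * v₂ * n * x₂ :=
          congrArg (fun x : ↥(fM hG Fx (w' ++ c.word)) => (x : GL D.Idx K)) e
        have ha₁ := (c.fM_compose hG hT hw' hpos ih1 hv₁).1
        have ha₂ := (c.fM_compose hG hT hw' hpos ih1 hv₂).1
        have e2 : (n⁻¹ * v₂ * n)⁻¹ * (n⁻¹ * v₁ * n) = x₂ * x₁⁻¹ := by
          calc (n⁻¹ * v₂ * n)⁻¹ * (n⁻¹ * v₁ * n)
              = (n⁻¹ * v₂ * n)⁻¹ * (n⁻¹ * v₁ * n * x₁) * x₁⁻¹ := by group
            _ = (n⁻¹ * v₂ * n)⁻¹ * (n⁻¹ * v₂ * n * x₂) * x₁⁻¹ := by rw [e']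
            _ = _ := by group
        have h1 : (n⁻¹ * v₂ * n)⁻¹ * (n⁻¹ * v₁ * n) = 1 := by
          have hmem : (n⁻¹ * v₂ * n)⁻¹ * (n⁻¹ * v₁ * n) ∈
              Subgroup.closure (upGenS D K c.P) ⊓ Subgroup.closure (rootGen D K c.P) := by
            refine Subgroup.mem_inf.mpr ⟨mul_mem (inv_mem ha₂) ha₁, ?_⟩
            rw [e2]
            exact mul_mem (c.X_le hx₂) (inv_mem (c.X_le hx₁))
          rw [c.inter, Subgroup.mem_bot] at hmem
          exact hmem
        have hv : v₁ = v₂ := by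
          have := inv_mul_eq_one.mp h1
          have e3 : v₂ = n * (n⁻¹ * v₂ * n) * n⁻¹ := by group
          have e4 : v₁ = n * (n⁻¹ * v₁ * n) * n⁻¹ := by group
          rw [e3, e4, this]
        subst hv
        have hx : x₁ = x₂ := mul_left_cancel e'
        subst hx
        rfl
      have hsurj : Function.Surjective Φ := by
        rintro ⟨g, hg⟩
        obtain ⟨v', hv', x, hx, rfl⟩ := c.fM_decomp hG hT hw' hpos hg
        exact ⟨⟨⟨v', hv'⟩, ⟨x, hx⟩⟩, rfl⟩
      rw [← Nat.card_congr (Equiv.ofBijective Φ ⟨hinj, hsurj⟩), Nat.card_prod, ih3, List.map_cons,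
        List.prod_cons, mul_comm]

include hT h8 in
/-- `U ⊓ G¹` is the group of the fixed points in `U`, and its order. -/
theorem posUnipotent_inf_eq_fix (hle : G1 ≤ Fx) (L : List (FCls hG K Fx G1)) (hpp : FClsPos hG L)
    (hw0 : (tabOf D).W0ok (L.reverse.flatMap FCls.word)) :
    D.posUnipotent K ⊓ G1 = D.posUnipotent K ⊓ Fx ∧
      Nat.card ↥(D.posUnipotent K ⊓ G1) = (L.map fun c => Nat.card c.X).prod := by
  obtain ⟨m1, m2, m3⟩ := fM_main hG hT h8 L hpp
  have e : fM hG Fx (L.reverse.flatMap FCls.word) = D.posUnipotent K ⊓ Fx := by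
    apply le_antisymm
    · exact inf_le_left
    · intro g hg
      rw [mem_fM]
      refine ⟨hg.1, hg.2, ?_⟩
      rw [← nWordGL_conj_pos_eq_neg hG hT hw0]
      exact ⟨g, hg.1, rfl⟩
  have e2 : D.posUnipotent K ⊓ G1 = D.posUnipotent K ⊓ Fx := by
    apply le_antisymm
    · exact inf_le_inf_left _ hle
    · rw [← e]
      intro g hg
      exact ⟨((mem_fM hG).mp hg).1, m2 hg⟩
  refine ⟨e2, ?_⟩
  rw [e2, ← e, m3]

end main

end Cfsg.Agent.Helper7.Chev
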