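import Mathlib
import Cfsg.Agent.Helper7.ChevTwF1
import Cfsg.Agent.Helper7.ChevLevi2
import Cfsg.Agent.Helper7.ChevRee2

set_option autoImplicit false
set_option linter.unusedSectionVars false
set_option linter.unusedVariables false

/-!
The classes of roots given by the positive roots of the subsystems `Φ_J`: the decomposition `U = U_J X_J`, the
stability under an automorphism permuting the root subgroups, and the class data for the fixed points.
-/

namespace Cfsg.Agent.Helper7.Chev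

open Cfsg Cfsg.Lie Matrix

variable {D : ChevalleyDatum} {K : Type*} [Field K]

/-- The positive roots of `Φ_J`. -/
def InJPos (D : ChevalleyDatum) (J : Set ℕ) (r : ℕ) : Prop := D.IsPosRoot r ∧ D.InRootSub J r

theorem upGenS_InJPos (J : Set ℕ) : upGenS D K (InJPos D J) = rootGen D K (InRad D J) := by
  ext g
  constructor
  · rintro ⟨s, t, hs, hns, hg⟩
    exact ⟨s, t, ⟨hs, fun h => hns ⟨hs, h⟩⟩, hg⟩
  · rintro ⟨s, t, ⟨hs, hns⟩, hg⟩
    exact ⟨s, t, hs, fun h => hns h.2, hg⟩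

theorem XJ_le_pos (J : Set ℕ) : Subgroup.closure (rootGen D K (InJPos D J)) ≤ D.posUnipotent K := by
  apply Subgroup.closure_mono
  rintro g ⟨r, t, hr, hg⟩
  exact ⟨r, t, hr.1, hg⟩

theorem XJ_le_levi (J : Set ℕ) : Subgroup.closure (rootGen D K (InJPos D J)) ≤ D.leviSubgroup K J := by
  unfold ChevalleyDatum.leviSubgroup
  refine le_trans ?_ le_sup_right
  apply Subgroup.closure_mono
  rintro g ⟨r, t, hr, hg⟩
  exact ⟨r, t, hr.2, hg⟩

section levi

variable (hG : Good2 D) (hT : T0 D) (h3 : (tabOf D).T3) (h4 : (tabOf D).T4 60)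
  (h6 : (tabOf D).T6) (h14 : (tabOf D).T14) {W : List (List ℤ)} (h16 : (tabOf D).T16 W)

include hG hT h16 in
/-- `U_J ∩ X_J = 1`. -/
theorem rad_inf_XJ (J : Set ℕ) :
    Subgroup.closure (upGenS D K (InJPos D J)) ⊓ Subgroup.closure (rootGen D K (InJPos D J)) = ⊥ := by
  rw [eq_bot_iff, upGenS_InJPos, ← unipotentRadical_eq, ← rad_inf_levi hG hT h16 J]
  exact inf_le_inf_left _ (XJ_le_levi J)

include hG hT h3 h4 h14 in
/-- `U = U_J X_J`. -/
theorem pos_eq_rad_mul_XJ (J : Set ℕ) : ∀ g ∈ D.posUnipotent K,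
    ∃ u ∈ Subgroup.closure (upGenS D K (InJPos D J)),
      ∃ x ∈ Subgroup.closure (rootGen D K (InJPos D J)), g = u * x := by
  classical
  have hnorm := posUnipotent_le_normalizer_rad (F := K) hG hT h3 h4 h14 J
  rw [← upGenS_InJPos] at hnorm
  have hXU := XJ_le_pos (D := D) (K := K) J
  intro g hg
  unfold ChevalleyDatum.posUnipotent at hg
  induction hg using Subgroup.closure_induction with
  | mem y hy =>
    obtain ⟨r, t, hr, hy⟩ := hy
    by_cases hrJ : D.InRootSub J r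
    · exact ⟨1, one_mem _, y, Subgroup.subset_closure ⟨r, t, ⟨hr, hrJ⟩, hy⟩, (one_mul y).symm⟩
    · exact ⟨y, Subgroup.subset_closure ⟨r, t, hr, fun h => hrJ h.2, hy⟩, 1, one_mem _, (mul_one y).symm⟩
  | one => exact ⟨1, one_mem _, 1, one_mem _, (mul_one 1).symm⟩
  | mul a b _ _ ha hb =>
    obtain ⟨u₁, hu₁, x₁, hx₁, rfl⟩ := ha
    obtain ⟨u₂, hu₂, x₂, hx₂, rfl⟩ := hb
    have hx₁n := hnorm (hXU hx₁)
    refine ⟨u₁ * (x₁ * u₂ * x₁⁻¹), mul_mem hu₁ ((Subgroup.mem_set_normalizer_iff.mp hx₁n u₂).mp hu₂),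
      x₁ * x₂, mul_mem hx₁ hx₂, by group⟩
  | inv a _ ha =>
    obtain ⟨u, hu, x, hx, rfl⟩ := ha
    have hxn := hnorm (hXU (inv_mem hx))
    refine ⟨x⁻¹ * u⁻¹ * x⁻¹⁻¹, (Subgroup.mem_set_normalizer_iff.mp hxn u⁻¹).mp (inv_mem hu), x⁻¹, inv_mem hx,
      by group⟩

include hG hT h6 in
/-- The element of `N` of a word in `J` normalises `U_J`. -/
theorem nWordGL_mem_normalizer_rad {J : Set ℕ} {w : List ℕ} (hw : ∀ i ∈ w, i < D.rank ∧ i ∈ J) :
    (nWordGL hG w : GL D.Idx K) ∈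
      Subgroup.normalizer (Subgroup.closure (upGenS D K (InJPos D J)) : Set (GL D.Idx K)) := by
  rw [upGenS_InJPos]
  induction w with
  | nil => rw [nWordGL_nil]; exact one_mem _
  | cons i w ih =>
    obtain ⟨hi, hiJ⟩ := hw i List.mem_cons_self
    rw [nWordGL_cons hG hi]
    exact mul_mem (nGL_mem_normalizer_rad hG hT h6 hi hiJ)
      (ih fun j hj => hw j (List.mem_cons_of_mem _ hj))

end levi

section aut

variable (hG : Good2 D) (hT : T0 D) (h3 : (tabOf D).T3) (h4 : (tabOf D).T4 60)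
  (h6 : (tabOf D).T6) (h14 : (tabOf D).T14) {W : List (List ℤ)} (h16 : (tabOf D).T16 W)
  {τ : ↥(D.group K) ≃* ↥(D.group K)} {ρ : ℕ → ℕ} {f : ℕ → K →+* K}
  (hτ : RootAut D K τ ρ f)

theorem rootGen_subset_group {P : ℕ → Prop} (hP : ∀ r, P r → r < D.nroots) :
    rootGen D K P ⊆ (D.group K : Set (GL D.Idx K)) := by
  rintro g ⟨r, t, hr, hg⟩
  apply Subgroup.subset_closure
  exact ⟨⟨r, hP r hr⟩, t, by rw [hg, x_of_lt D K (hP r hr)]⟩

include hG hτ in
/-- The automorphism preserves the subgroup generated by the root subgroups of a stable set of roots. -/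
theorem RootAut.map_rootGen_closure {P : ℕ → Prop} (hP : ∀ r, P r → r < D.nroots)
    (hρ : ∀ r, P r → P (ρ r)) :
    ∀ g ∈ Subgroup.closure (rootGen D K P), extFun τ g ∈ Subgroup.closure (rootGen D K P) := by
  have hG1 := hG.toGood1
  apply extFun_closure τ (rootGen_subset_group hP)
  rintro x ⟨r, t, hr, hx⟩
  have hrl := hP r hr
  rw [eq_xGL hG1 hrl hx, hτ.map_xGL hG hrl]
  exact Subgroup.subset_closure ⟨ρ r, f r t, hρ r hr, xGL_coe hG1 _ _⟩

include hG hT hτ in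
theorem RootAut.isPosRoot {r : ℕ} (hr : D.IsPosRoot r) : D.IsPosRoot (ρ r) := by
  have hrl := hr.1
  exact (isPosRoot_iff hT (hτ.lt r hrl)).mpr (hτ.pos r hrl ((isPosRoot_iff hT hrl).mp hr))

include hG hT h3 h4 h14 h16 hτ in
/-- The decomposition of a fixed point of `U` along `U = U_J X_J`, for a stable `J`. -/
theorem RootAut.fixed_decomp {J : Set ℕ} (hρJ : ∀ r, D.InRootSub J r → D.InRootSub J (ρ r)) :
    ∀ g ∈ D.posUnipotent K ⊓ fixSub τ, ∃ u' ∈ Subgroup.closure (upGenS D K (InJPos D J)),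
      ∃ x ∈ Subgroup.closure (rootGen D K (InJPos D J)) ⊓ fixSub τ, g = u' * x := by
  have hG1 := hG.toGood1
  rintro g ⟨hgU, hgG, hgfix⟩
  obtain ⟨u, hu, x, hx, rfl⟩ := pos_eq_rad_mul_XJ hG hT h3 h4 h14 J g hgU
  have huU : u ∈ D.posUnipotent K := by
    rw [upGenS_InJPos] at hu
    refine (Subgroup.closure_mono ?_) hu
    rintro y ⟨r, t, hr, hy⟩
    exact ⟨r, t, hr.1, hy⟩
  have hxU : x ∈ D.posUnipotent K := XJ_le_pos J hx
  have huG := posUnipotent_le_group huU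
  have hxG := posUnipotent_le_group hxU
  have hτu : extFun τ u ∈ Subgroup.closure (upGenS D K (InJPos D J)) := by
    rw [upGenS_InJPos] at hu ⊢
    refine hτ.map_rootGen_closure hG (fun r hr => hr.1.1) ?_ u hu
    intro r hr
    refine ⟨hτ.isPosRoot hG hT hr.1, fun h => hr.2 ?_⟩
    have := hρJ _ h
    rwa [hτ.invol r hr.1.1] at this
  have hτx : extFun τ x ∈ Subgroup.closure (rootGen D K (InJPos D J)) :=
    hτ.map_rootGen_closure hG (fun r hr => hr.1.1)
      (fun r hr => ⟨hτ.isPosRoot hG hT hr.1, hρJ r hr.2⟩) x hx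
  rw [extFun_mul τ huG hxG] at hgfix
  have e : (extFun τ u)⁻¹ * u = extFun τ x * x⁻¹ := by
    rw [inv_mul_eq_iff_eq_mul, ← mul_assoc, hgfix]
    group
  have h1 : extFun τ x * x⁻¹ = 1 := by
    have hmem : extFun τ x * x⁻¹ ∈ Subgroup.closure (upGenS D K (InJPos D J)) ⊓
        Subgroup.closure (rootGen D K (InJPos D J)) := by
      refine Subgroup.mem_inf.mpr ⟨?_, mul_mem hτx (inv_mem hx)⟩
      rw [← e]
      exact mul_mem (inv_mem hτu) hu
    rw [rad_inf_XJ hG hT h16 J, Subgroup.mem_bot] at hmem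
    exact hmem
  refine ⟨u, hu, x, Subgroup.mem_inf.mpr ⟨hx, hxG, mul_inv_eq_one.mp h1⟩, rfl⟩

include hT h3 h4 h6 h14 h16 hτ in
/-- The class data of a stable `J`. -/
noncomputable def RootAut.fcls {J : Set ℕ} (hρJ : ∀ r, D.InRootSub J r → D.InRootSub J (ρ r))
    {w : List ℕ} (hw : ∀ i ∈ w, i < D.rank ∧ i ∈ J)
    (hPw : ∀ r, InJPos D J r → ∃ r', InJPos D J r' ∧ (tabOf D).reflWord w r = D.neg r')
    {G1 : Subgroup (GL D.Idx K)} (hn_fix : (nWordGL hG w : GL D.Idx K) ∈ fixSub τ)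
    (hn_G1 : (nWordGL hG w : GL D.Idx K) ∈ G1)
    (hX_G1 : Subgroup.closure (rootGen D K (InJPos D J)) ⊓ fixSub τ ≤ G1) :
    FCls hG K (fixSub τ) G1 where
  word := w
  P := InJPos D J
  X := Subgroup.closure (rootGen D K (InJPos D J)) ⊓ fixSub τ
  word_lt := fun i hi => (hw i hi).1
  P_pos := fun r hr => hr.1
  P_word := hPw
  n_fix := hn_fix
  n_G1 := hn_G1
  n_norm := nWordGL_mem_normalizer_rad hG hT h6 hw
  X_le := inf_le_left
  X_fix := inf_le_right
  X_G1 := hX_G1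
  decomp := hτ.fixed_decomp hG hT h3 h4 h14 h16 hρJ
  inter := rad_inf_XJ hG hT h16 J

end aut

end Cfsg.Agent.Helper7.Chev
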