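import Mathlib
import Cfsg.Agent.Helper7.ChevTwF2
import Cfsg.Agent.Helper7.ChevRee12
import Cfsg.Agent.Helper7.ChevCount

set_option autoImplicit false
set_option linter.unusedSectionVars false
set_option linter.unusedVariables false

/-!
The sharp form of the Bruhat decomposition of a subgroup `G¹` of the fixed points of an automorphism permuting the
root subgroups, which contains the fixed points of `U`, and its order over a finite field.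
-/

namespace Cfsg.Agent.Helper7.Chev

open Cfsg Cfsg.Lie Matrix

variable {D : ChevalleyDatum} {K : Type*} [Field K]

/-- A list of words representing the elements of `N¹ / H¹`, each exactly once. -/
structure FWList (hG : Good2 D) (Fx G1 : Subgroup (GL D.Idx K)) (Wl : List (List ℕ)) : Prop where
  nodup : Wl.Nodup
  lt : ∀ w ∈ Wl, ∀ i ∈ w, i < D.rank
  mem : ∀ w ∈ Wl, (nWordGL hG w : GL D.Idx K) ∈ G1
  rep : ∀ n ∈ D.monomialSubgroup K ⊓ G1, ∃ w ∈ Wl, ∃ h ∈ D.diagonalSubgroup K ⊓ G1, n = h * nWordGL hG w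
  inj : ∀ w ∈ Wl, ∀ w' ∈ Wl, (∀ r < D.nroots, (tabOf D).reflWord w r = (tabOf D).reflWord w' r) → w = w'
  minus : ∀ w ∈ Wl, fM hG Fx w ≤ Subgroup.closure (minusGen D K w)

section main

variable (hG : Good2 D) (hT : T0 D) (h3 : (tabOf D).T3) (h4 : (tabOf D).T4 60) (h5 : (tabOf D).T5)
  (h6 : (tabOf D).T6) (h8 : (tabOf D).T8) (h9 : (tabOf D).T9)
  {τ : ↥(D.group K) ≃* ↥(D.group K)} {ρ : ℕ → ℕ} {f : ℕ → K →+* K}
  (hτ : RootAut D K τ ρ f) {G1 : Subgroup (GL D.Idx K)}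
  (hle : G1 ≤ fixSub τ) (hU : D.posUnipotent K ⊓ fixSub τ ≤ G1)
  {Wl : List (List ℕ)} (hW : FWList hG (fixSub τ) G1 Wl)

theorem minusGen'_le_pos (n : GL D.Idx K) : Subgroup.closure (minusGen' D K n) ≤ D.posUnipotent K := by
  apply Subgroup.closure_mono
  rintro x ⟨r, t, hr, _, hx⟩
  exact ⟨r, t, hr, hx⟩

theorem conj_minusGen'_mem_neg (n : GL D.Idx K) :
    ∀ y ∈ Subgroup.closure (minusGen' D K n), n * y * n⁻¹ ∈ D.negUnipotent K := by
  intro y hy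
  have := conj_closure_le (S := minusGen' D K n)
    (S' := {g : GL D.Idx K | ∃ (r : ℕ) (t : K), D.IsNegRoot r ∧
      (g : Matrix D.Idx D.Idx K) = D.x K r t}) n ?_ y hy
  · exact this
  · rintro x ⟨r, t, hr, hle, hx⟩
    apply hle
    exact ⟨x, Subgroup.subset_closure ⟨t, hx⟩, rfl⟩

include hG hT h3 h4 h5 h6 h8 h9 hτ hle hU in
/-- `G¹ = U¹ N¹ U¹`, sharply. -/
theorem exists_bruhat_fix {g : GL D.Idx K} (hg : g ∈ G1) :
    ∃ u ∈ D.posUnipotent K ⊓ G1, ∃ n ∈ D.monomialSubgroup K ⊓ G1,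
      ∃ u' ∈ Subgroup.closure (minusGen' D K n) ⊓ G1, g = u * n * u' := by
  have hG1 := hG.toGood1
  obtain ⟨hgG, hgfix⟩ := hle hg
  obtain ⟨b, hb, n, hn, u₂, hu₂, e⟩ :=
    (bruhat_normal_form (F := K) hG hT h3 h4 h5 h6 h8 h9).1 g hgG
  obtain ⟨u₁, hu₁, h, hh, rfl⟩ := borel_decomp hG hb
  have hHN : D.diagonalSubgroup K ≤ D.monomialSubgroup K := le_sup_left
  have hn' : h * n ∈ D.monomialSubgroup K := mul_mem (hHN hh) hn
  have hu₂' : u₂ ∈ Subgroup.closure (minusGen' D K (h * n)) :=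
    Subgroup.closure_mono (minusGen'_diag_mul hG hh n) hu₂
  have e' : g = u₁ * (h * n) * u₂ := by rw [e]; group
  obtain ⟨f1, f2, f3⟩ := hτ.bruhat_fixed hG hT h3 h4 h5 h6 h8 h9 hu₁ hn' hu₂' e' hgfix
  have hu₂U := minusGen'_le_pos (h * n) hu₂'
  have hu₁G : u₁ ∈ G1 := hU ⟨hu₁, posUnipotent_le_group hu₁, f1⟩
  have hu₂G : u₂ ∈ G1 := hU ⟨hu₂U, posUnipotent_le_group hu₂U, f3⟩
  have hnG : h * n ∈ G1 := by
    have : h * n = u₁⁻¹ * g * u₂⁻¹ := by rw [e']; group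
    rw [this]
    exact mul_mem (mul_mem (inv_mem hu₁G) hg) (inv_mem hu₂G)
  exact ⟨u₁, ⟨hu₁, hu₁G⟩, h * n, ⟨hn', hnG⟩, u₂, ⟨hu₂', hu₂G⟩, e'⟩

include hG hT h3 h4 h5 h6 h8 h9 hτ hle hU hW in
/-- Every element of `G¹` is `u h n_w u'` with `w` in the list. -/
theorem exists_normal_form_fix {g : GL D.Idx K} (hg : g ∈ G1) :
    ∃ w ∈ Wl, ∃ u ∈ D.posUnipotent K ⊓ G1, ∃ h ∈ D.diagonalSubgroup K ⊓ G1,
      ∃ u' ∈ fM hG (fixSub τ) w, g = u * h * nWordGL hG w * u' := by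
  obtain ⟨u, hu, n, hn, u', hu', rfl⟩ := exists_bruhat_fix hG hT h3 h4 h5 h6 h8 h9 hτ hle hU hg
  obtain ⟨w, hw, h, hh, rfl⟩ := hW.rep n hn
  refine ⟨w, hw, u, hu, h, hh, u', ?_, by group⟩
  rw [mem_fM]
  refine ⟨minusGen'_le_pos _ hu'.1, hle hu'.2, ?_⟩
  have h1 := conj_minusGen'_mem_neg _ u' hu'.1
  have h2 := (Subgroup.mem_set_normalizer_iff.mp
    (diagonalSubgroup_le_normalizer_neg hG (inv_mem hh.1)) _).mp h1
  have e : h⁻¹ * (h * nWordGL hG w * u' * (h * nWordGL hG w)⁻¹) * h⁻¹⁻¹ =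
      nWordGL hG w * u' * (nWordGL hG w)⁻¹ := by group
  rw [e] at h2
  exact h2

include hG hT h3 h4 h5 h6 h8 h9 hW in
/-- Uniqueness of the normal form. -/
theorem normal_form_unique_fix {w w' : List ℕ} (hw : w ∈ Wl) (hw' : w' ∈ Wl)
    {u h v u₁ h₁ v₁ : GL D.Idx K} (hu : u ∈ D.posUnipotent K) (hh : h ∈ D.diagonalSubgroup K)
    (hv : v ∈ fM hG (fixSub τ) w) (hu₁ : u₁ ∈ D.posUnipotent K) (hh₁ : h₁ ∈ D.diagonalSubgroup K)
    (hv₁ : v₁ ∈ fM hG (fixSub τ) w')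
    (e : u * h * nWordGL hG w * v = u₁ * h₁ * nWordGL hG w' * v₁) :
    w = w' ∧ u = u₁ ∧ h = h₁ ∧ v = v₁ := by
  have hwl := hW.lt w hw
  have hwl' := hW.lt w' hw'
  have hsub : ∀ x : List ℕ, (∀ i ∈ x, i < D.rank) →
      Subgroup.closure (minusGen D K x) ≤ Subgroup.closure (minusGen' D K (nWordGL hG x)) := by
    intro x hx
    apply Subgroup.closure_mono
    have := minusGen_subset (F := K) hG hT hx (one_mem (D.diagonalSubgroup K))
    rwa [one_mul] at this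
  have hUB : D.posUnipotent K ≤ D.borelSubgroup K := le_sup_left
  have hHB : D.diagonalSubgroup K ≤ D.borelSubgroup K := le_sup_right
  have key := (bruhat_normal_form (F := K) hG hT h3 h4 h5 h6 h8 h9).2 (u * h) (u₁ * h₁)
    (nWordGL hG w) (nWordGL hG w') v v₁ (mul_mem (hUB hu) (hHB hh)) (mul_mem (hUB hu₁) (hHB hh₁))
    (nWordGL_mem hG _) (nWordGL_mem hG _) (hsub _ hwl (hW.minus w hw hv))
    (hsub _ hwl' (hW.minus w' hw' hv₁)) e
  have hww : w = w' := by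
    apply hW.inj w hw w' hw'
    apply reflWord_eq_of_nWordGL_eq hG hT h8 hwl hwl' key.1
    group
  subst hww
  obtain ⟨e1, e2⟩ := key.2 rfl
  have e3 : u₁⁻¹ * u = h₁ * h⁻¹ := by
    have : u₁⁻¹ * u = u₁⁻¹ * (u * h) * h⁻¹ := by group
    rw [this, e1]
    group
  have h4' : u₁⁻¹ * u ∈ D.posUnipotent K ⊓ D.diagonalSubgroup K := by
    refine Subgroup.mem_inf.mpr ⟨mul_mem (inv_mem hu₁) hu, ?_⟩
    rw [e3]
    exact mul_mem hh₁ (inv_mem hh)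
  rw [posUnipotent_inf_diagonal hG hT, Subgroup.mem_bot] at h4'
  have e5 : u = u₁ := (inv_mul_eq_one.mp h4').symm
  subst e5
  exact ⟨rfl, rfl, mul_left_cancel e1, e2⟩

include hG hT h3 h4 h5 h6 h8 h9 hτ hle hU hW in
/-- The order of `G¹`. -/
theorem card_fix [Finite K] :
    Nat.card ↥G1 = Nat.card ↥(D.posUnipotent K ⊓ G1) * Nat.card ↥(D.diagonalSubgroup K ⊓ G1) *
      (Wl.map fun w => Nat.card ↥(fM hG (fixSub τ) w)).sum := by
  have hMG : ∀ i : Fin Wl.length, fM hG (fixSub τ) (Wl.get i) ≤ G1 := by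
    intro i x hx
    obtain ⟨h1, h2, _⟩ := (mem_fM hG).mp hx
    exact hU ⟨h1, h2⟩
  let Φ : (Σ i : Fin Wl.length, ↥(D.posUnipotent K ⊓ G1) × ↥(D.diagonalSubgroup K ⊓ G1) ×
      ↥(fM hG (fixSub τ) (Wl.get i))) → ↥G1 :=
    fun x => ⟨(x.2.1 : GL D.Idx K) * (x.2.2.1 : GL D.Idx K) * nWordGL hG (Wl.get x.1) *
        (x.2.2.2 : GL D.Idx K),
      mul_mem (mul_mem (mul_mem x.2.1.2.2 x.2.2.1.2.2) (hW.mem _ (List.get_mem Wl x.1)))
        (hMG x.1 x.2.2.2.2)⟩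
  have hinj : Function.Injective Φ := by
    rintro ⟨i, ⟨u, hu⟩, ⟨h, hh⟩, ⟨v, hv⟩⟩ ⟨i', ⟨u₁, hu₁⟩, ⟨h₁, hh₁⟩, ⟨v₁, hv₁⟩⟩ e
    have e' : u * h * nWordGL hG (Wl.get i) * v = u₁ * h₁ * nWordGL hG (Wl.get i') * v₁ :=
      congrArg (fun x : ↥G1 => (x : GL D.Idx K)) e
    obtain ⟨hww, huu, hhh, hvv⟩ := normal_form_unique_fix hG hT h3 h4 h5 h6 h8 h9 hW
      (List.get_mem Wl i) (List.get_mem Wl i') hu.1 hh.1 hv hu₁.1 hh₁.1 hv₁ e'
    have hii : i = i' := (List.Nodup.get_inj_iff hW.nodup).mp hww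
    subst hii
    subst huu
    subst hhh
    subst hvv
    rfl
  have hsurj : Function.Surjective Φ := by
    rintro ⟨g, hg⟩
    obtain ⟨w, hw, u, hu, h, hh, v, hv, rfl⟩ :=
      exists_normal_form_fix hG hT h3 h4 h5 h6 h8 h9 hτ hle hU hW hg
    obtain ⟨i, rfl⟩ := List.mem_iff_get.mp hw
    exact ⟨⟨i, ⟨u, hu⟩, ⟨h, hh⟩, ⟨v, hv⟩⟩, rfl⟩
  haveI : Finite (GL D.Idx K) := inferInstance
  rw [← Nat.card_congr (Equiv.ofBijective Φ ⟨hinj, hsurj⟩), Nat.card_sigma]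
  have hterm : ∀ i : Fin Wl.length,
      Nat.card (↥(D.posUnipotent K ⊓ G1) × ↥(D.diagonalSubgroup K ⊓ G1) ×
        ↥(fM hG (fixSub τ) (Wl.get i))) =
        Nat.card ↥(D.posUnipotent K ⊓ G1) * Nat.card ↥(D.diagonalSubgroup K ⊓ G1) *
          Nat.card ↥(fM hG (fixSub τ) (Wl.get i)) := by
    intro i
    rw [Nat.card_prod, Nat.card_prod, mul_assoc]
  rw [Finset.sum_congr rfl (fun i _ => hterm i), ← Finset.mul_sum]
  congr 1
  have key := Fin.sum_univ_fun_getElem Wl (fun w => Nat.card ↥(fM hG (fixSub τ) w))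
  simp only [List.get_eq_getElem]
  exact key

end main

end Cfsg.Agent.Helper7.Chev
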