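import Mathlib
import Cfsg.Agent.Helper7.ChevFix1
import Cfsg.Agent.Helper7.ChevTwF3

set_option autoImplicit false
set_option linter.unusedSectionVars false
set_option linter.unusedVariables false

/-!
The fixed points of a field automorphism of a Chevalley group whose torus is `(Fˣ)^l` (types `G₂`, `F₄`, `E₈`)
form the Chevalley group over the fixed field.
-/

namespace Cfsg.Agent.Helper7.Chev

open Cfsg Cfsg.Lie Matrix

variable {D : ChevalleyDatum} {K F : Type*} [Field K] [Field F]

section torus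

variable (hG1 : Good1 D) {R P Q P' Q' : ℕ → ℕ → ℤ} {d : ℕ → ℕ} (h17 : T17 D R P Q P' Q' d)
  (hd : ∀ i < D.rank, d i = 1)

include hG1 h17 hd in
/-- When the Cartan matrix is unimodular the torus is `(Fˣ)^l`. -/
theorem torusHom_injective : Function.Injective (torusHom D F) := by
  rw [injective_iff_map_eq_one]
  intro c hc
  rw [torusHom_ker, zact_cartanM_iff hG1 h17] at hc
  have hS : toM D.rank D.rank P * cartanC D * toM D.rank D.rank Q = 1 := by
    unfold cartanC
    rw [toM_mul, toM_mul]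
    apply toM_one
    intro i hi k hk
    rw [h17.smith i hi k hk]
    split_ifs with h
    · rw [hd i hi]; rfl
    · rfl
  have h1 : cartanC D * (toM D.rank D.rank Q * toM D.rank D.rank P) = 1 := by
    have h2 : toM D.rank D.rank P * (cartanC D * toM D.rank D.rank Q) = 1 := by
      rw [← Matrix.mul_assoc]; exact hS
    have h3 := mul_eq_one_comm.mp h2
    rw [Matrix.mul_assoc] at h3
    exact h3
  have hinj := zact_injective_of_mul_eq_one (G := Fˣ) h1
  exact hinj (hc.trans (map_one _).symm)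

end torus

/-- A field automorphism induces an automorphism permuting the root subgroups. -/
theorem rootAut_fieldAut (σ : F ≃+* F) :
    RootAut D F (Cfsg.Agent.Helper7.chevFieldAut D σ) id (fun _ => (σ : F →+* F)) where
  lt := fun r hr => hr
  invol := fun r _ => rfl
  pos := fun r _ h => h
  neg := fun r _ => rfl
  fneg := fun r _ => rfl
  surj := fun r _ => σ.surjective
  map_x := by
    intro g r t hr hg
    rw [Cfsg.Agent.Helper7.chevFieldAut_coe, hg]
    exact x_map (σ : F →+* F) r t

section main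

variable (hG : Good2 D) (hT : T0 D) (h3 : (tabOf D).T3) (h4 : (tabOf D).T4 60) (h5 : (tabOf D).T5)
  (h6 : (tabOf D).T6) (h7 : (tabOf D).T7) (h8 : (tabOf D).T8) (h9 : (tabOf D).T9)
  {R P Q P' Q' : ℕ → ℕ → ℤ} {d : ℕ → ℕ} (h17 : T17 D R P Q P' Q' d) (hd : ∀ i < D.rank, d i = 1)
  (σ : F ≃+* F) (ι : K →+* F) (hσ : ∀ x : F, σ x = x ↔ x ∈ Set.range ι)

include hG hT h3 h4 h7 h8 hσ in
/-- A fixed element of `U` comes from `K`. -/
theorem pos_fixed_mem {u : GL D.Idx F} (hu : u ∈ D.posUnipotent F)
    (hfix : (u : Matrix D.Idx D.Idx F).map σ = u) : u ∈ (D.group K).map (glMap ι) := by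
  have hG1 := hG.toGood1
  obtain ⟨t, ht1, ht2⟩ := posUnipotent_word hG hT h3 h4 h7 hu
  have e1 : (u : Matrix D.Idx D.Idx F).map σ =
      D.wordMat F (D.posRoots.map fun r => (r, σ (t r))) := by
    rw [ht2]
    have := wordMat_map (D := D) (σ : F →+* F) (D.posRoots.map fun r => (r, t r))
    rw [List.map_map] at this
    exact this
  rw [hfix, ht2, posRoots_eq hT] at e1
  have hle : D.nroots / 2 ≤ D.nroots := Nat.div_le_self _ _
  have huniq := word_unique hG hT h8 (D.nroots - D.nroots / 2) (D.nroots / 2) (by omega) le_rfl t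
    (fun r => σ (t r)) e1
  have hfixt : ∀ r, σ (t r) = t r := by
    intro r
    by_cases hr : D.IsPosRoot r
    · have hrm := (isPosRoot_iff hT hr.1).mp hr
      have := huniq r (by rw [List.mem_range'_1]; have := hr.1; omega)
      exact this.symm
    · rw [ht1 r hr, map_zero]
  choose t' ht' using fun r => (hσ (t r)).mp (hfixt r)
  refine ⟨((D.posRoots.map fun r => (r, t' r)).map (xGL' hG1)).prod, ?_, ?_⟩
  · apply Subgroup.list_prod_mem
    intro x hx
    rw [List.mem_map] at hx
    obtain ⟨p, _, rfl⟩ := hx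
    exact xGL'_mem_group hG1 p
  · apply Units.ext
    rw [glMap_coe, wordGL_coe, wordMat_map, List.map_map, ht2]
    congr 1
    apply List.map_congr_left
    intro r _
    simp only [Function.comp_apply, ht']

include hG h17 hd hσ in
/-- A fixed element of `H` comes from `K`. -/
theorem diag_fixed_mem {h : GL D.Idx F} (hh : h ∈ D.diagonalSubgroup F)
    (hfix : (h : Matrix D.Idx D.Idx F).map σ = h) : h ∈ (D.group K).map (glMap ι) := by
  have hG1 := hG.toGood1
  rw [← torusHom_range hG1] at hh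
  obtain ⟨c, rfl⟩ := hh
  rw [torusHom_apply] at hfix ⊢
  have e1 : glMap (σ : F →+* F) (tGL c : GL D.Idx F) = tGL c := Units.ext (by rw [glMap_coe]; exact hfix)
  rw [glMap_tGL] at e1
  have e2 := torusHom_injective (F := F) hG1 h17 hd e1
  have hc : ∀ i, σ (c i : F) = (c i : F) := fun i => by
    have := congrFun e2 i
    exact congrArg Units.val this
  choose c' hc' using fun i => (hσ (c i : F)).mp (hc i)
  have hc'0 : ∀ i, c' i ≠ 0 := fun i h0 => by
    have := hc' i
    rw [h0, map_zero] at this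
    exact (c i).ne_zero this.symm
  refine ⟨tGL (fun i => Units.mk0 (c' i) (hc'0 i)),
    diagonalSubgroup_le_group hG1 (tGL_mem hG1 _), ?_⟩
  rw [glMap_tGL]
  congr 1
  funext i
  apply Units.ext
  simp only [Units.coe_map, MonoidHom.coe_coe, Units.val_mk0, hc']

include hG hT h3 h4 h5 h6 h7 h8 h9 h17 hd hσ in
/-- A fixed element of the group comes from `K`. -/
theorem fixed_mem {g : GL D.Idx F} (hg : g ∈ D.group F)
    (hfix : (g : Matrix D.Idx D.Idx F).map σ = g) : g ∈ (D.group K).map (glMap ι) := by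
  have hG1 := hG.toGood1
  set τ := Cfsg.Agent.Helper7.chevFieldAut D σ with hτdef
  have hτ : RootAut D F τ id (fun _ => (σ : F →+* F)) := rootAut_fieldAut σ
  have hext : ∀ x (hx : x ∈ D.group F), ((extFun τ x : GL D.Idx F) : Matrix D.Idx D.Idx F) =
      (x : Matrix D.Idx D.Idx F).map σ := by
    intro x hx
    rw [extFun_of_mem τ hx]
    rfl
  obtain ⟨b, hb, n, hn, u₂, hu₂, e⟩ :=
    (bruhat_normal_form (F := F) hG hT h3 h4 h5 h6 h8 h9).1 g hg
  obtain ⟨u₁, hu₁, h, hh, rfl⟩ := borel_decomp hG hb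
  have hHN : D.diagonalSubgroup F ≤ D.monomialSubgroup F := le_sup_left
  have hn' : h * n ∈ D.monomialSubgroup F := mul_mem (hHN hh) hn
  have hu₂' : u₂ ∈ Subgroup.closure (minusGen' D F (h * n)) :=
    Subgroup.closure_mono (minusGen'_diag_mul hG hh n) hu₂
  have e' : g = u₁ * (h * n) * u₂ := by rw [e]; group
  have hgfix : extFun τ g = g := Units.ext (by rw [hext g hg, hfix])
  obtain ⟨f1, f2, f3⟩ := hτ.bruhat_fixed hG hT h3 h4 h5 h6 h8 h9 hu₁ hn' hu₂' e' hgfix
  have hu₂U := minusGen'_le_pos (h * n) hu₂'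
  have m1 : u₁ ∈ (D.group K).map (glMap ι) :=
    pos_fixed_mem hG hT h3 h4 h7 h8 σ ι hσ hu₁ (by rw [← hext u₁ (posUnipotent_le_group hu₁), f1])
  have m3 : u₂ ∈ (D.group K).map (glMap ι) :=
    pos_fixed_mem hG hT h3 h4 h7 h8 σ ι hσ hu₂U (by rw [← hext u₂ (posUnipotent_le_group hu₂U), f3])
  obtain ⟨h₀, hh₀, w, hw, en⟩ := monomialSubgroup_le_nWords hG hT h9 hn'
  have mw : (nWordGL hG w : GL D.Idx F) ∈ (D.group K).map (glMap ι) := by
    rw [← glMap_nWordGL ι hG w]
    exact ⟨_, monomialSubgroup_le_group hG1 (nWordGL_mem hG w), rfl⟩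
  have hh₀fix : (h₀ : Matrix D.Idx D.Idx F).map σ = h₀ := by
    have e1 : h₀ = (h * n) * (nWordGL hG w)⁻¹ := by rw [en]; group
    have e2 : glMap (σ : F →+* F) (h * n) = h * n := by
      apply Units.ext
      rw [glMap_coe]
      have := hext (h * n) (monomialSubgroup_le_group hG1 hn')
      rw [f2] at this
      exact this.symm
    have e3 : glMap (σ : F →+* F) h₀ = h₀ := by
      conv_lhs => rw [e1]
      rw [map_mul, map_inv, glMap_nWordGL, e2, ← e1]
    exact congrArg Units.val e3
  have m0 := diag_fixed_mem hG h17 hd σ ι hσ hh₀ hh₀fix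
  rw [e', en]
  exact mul_mem (mul_mem m1 (mul_mem m0 mw)) m3

end main

end Cfsg.Agent.Helper7.Chev
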