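import Mathlib
import Cfsg.Agent.Helper7.ChevFix2
import Cfsg.Agent.Helper7.ChevTw11
import Cfsg.Agent.Helper7.ChevCore

set_option autoImplicit false
set_option linter.unusedSectionVars false
set_option linter.unusedVariables false

/-!
The centralizer in a Chevalley group of the root elements `x_r(1)` is trivial.
-/

namespace Cfsg.Agent.Helper7.Chev

open Cfsg Cfsg.Lie Matrix

variable {D : ChevalleyDatum} {F : Type*} [Field F]

section centralizer

variable (hG : Good2 D) (hT : T0 D) (h3 : (tabOf D).T3) (h4 : (tabOf D).T4 60) (h5 : (tabOf D).T5)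
  (h6 : (tabOf D).T6) (h8 : (tabOf D).T8) (h9 : (tabOf D).T9)

include hG hT h3 h4 h5 h6 h8 h9 in
/-- An element commuting with the root elements `x_p(1)` of the fundamental roots lies in `B`. -/
theorem mem_borel_of_commute_simple {g : GL D.Idx F} (hg : g ∈ D.group F)
    (hc : ∀ (i : ℕ) (hi : i < D.rank), Commute g (xGL hG.toGood1 (hG.toGood1.simple_lt hi) (1 : F))) :
    g ∈ D.borelSubgroup F := by
  have hG1 := hG.toGood1
  have hUB : D.posUnipotent F ≤ D.borelSubgroup F := le_sup_left
  have hHB : D.diagonalSubgroup F ≤ D.borelSubgroup F := le_sup_right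
  obtain ⟨hex, huniq⟩ := bruhat_normal_form (F := F) hG hT h3 h4 h5 h6 h8 h9
  obtain ⟨b, hb, n, hn, u', hu', e⟩ := hex g hg
  obtain ⟨h, hh, w, hw, hpp, en⟩ := exists_prefixPos_word hG hT h6 h9 hn
  rcases List.eq_nil_or_concat' w with rfl | ⟨w₁, k, rfl⟩
  · rw [nWordGL_nil, mul_one] at en
    rw [e, en]
    exact mul_mem (mul_mem hb (hHB hh)) (hUB (minusGen'_le_pos n hu'))
  · exfalso
    have hk : k < D.rank := hw k (by simp)
    have hw₁ : ∀ i ∈ w₁, i < D.rank := fun i hi => hw i (by simp [hi])
    have hpk := hG1.simple_lt hk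
    obtain ⟨_, hpos⟩ := prefixPos_of_append hpp
    set x := xGL hG1 hpk (1 : F) with hx
    have hxmem : x ∈ Subgroup.closure (minusGen' D F n) := by
      apply Subgroup.subset_closure
      rw [en]
      apply minusGen_subset hG hT hw hh
      refine ⟨D.simple k, 1, (isPosRoot_iff hT hpk).mpr (simple_pos hG1 hT hk), ?_,
        xGL_coe hG1 hpk 1⟩
      · rw [reflWord_append, reflWord_cons]
        change (tabOf D).reflWord w₁ ((tabOf D).refl (D.simple k) (D.simple k)) < D.nroots / 2
        rw [refl_self, reflWord_neg hG hw₁ hpk]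
        exact neg_neg_of_pos hG hT (reflWord_lt hG hw₁ hpk) hpos
    have hcomm := hc k hk
    have e1 : b * n * (u' * x) = (x * b) * n * u' := by
      have : g * x = x * g := hcomm.eq
      rw [e] at this
      calc b * n * (u' * x) = b * n * u' * x := by group
        _ = x * (b * n * u') := this
        _ = _ := by group
    have hxB : x ∈ D.borelSubgroup F :=
      hUB (Subgroup.subset_closure ⟨D.simple k, 1, (isPosRoot_iff hT hpk).mpr
        (simple_pos hG1 hT hk), xGL_coe hG1 hpk 1⟩)
    have key := (huniq b (x * b) n n (u' * x) u' hb (mul_mem hxB hb) hn hn (mul_mem hu' hxmem) hu' e1).2 rfl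
    have hx1 : x = 1 := by
      have := key.2
      exact mul_left_cancel (this.trans (mul_one u').symm)
    exact xGL_ne_one hG hT h8 hpk one_ne_zero hx1

include hG hT h3 h4 h5 h6 h8 h9 in
/-- An element of the group commuting with all the root elements `x_r(1)` is trivial. -/
theorem eq_one_of_commute_roots {w0 : List ℕ} (hw0 : (tabOf D).W0ok w0) {g : GL D.Idx F}
    (hg : g ∈ D.group F)
    (hc : ∀ (r : ℕ) (hr : r < D.nroots), Commute g (xGL hG.toGood1 hr (1 : F))) : g = 1 := by
  have hG1 := hG.toGood1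
  have hB : g ∈ D.borelSubgroup F :=
    mem_borel_of_commute_simple hG hT h3 h4 h5 h6 h8 h9 hg (fun i hi => hc _ _)
  have hn : ∀ (r : ℕ) (hr : r < D.nroots), Commute g (nGL hG1 hr : GL D.Idx F) := by
    intro r hr
    have e : (nGL hG1 hr : GL D.Idx F) =
        xGL hG1 hr 1 * (xGL hG1 (hG1.neg_lt hr) 1)⁻¹ * xGL hG1 hr 1 := by
      apply Units.ext
      rw [nGL_coe, Units.val_mul, Units.val_mul, xGL_inv, xGL_coe, xGL_coe]
      unfold ChevalleyDatum.nMat ChevalleyDatum.nWord
      rw [wordMat_cons, wordMat_cons, wordMat_cons, wordMat_nil, mul_one, inv_one, mul_assoc]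
    rw [e]
    exact ((hc r hr).mul_right (hc _ _).inv_right).mul_right (hc r hr)
  have hnw : Commute g (nWordGL hG w0 : GL D.Idx F) := by
    unfold nWordGL
    apply Commute.list_prod_right
    intro x hx
    rw [List.mem_map] at hx
    obtain ⟨i, _, rfl⟩ := hx
    split_ifs with hi
    · exact hn _ _
    · exact Commute.one_right g
  have hconj := nWordGL_conj_pos_eq_neg (K := F) hG hT hw0
  have hH : g ∈ D.diagonalSubgroup F := by
    apply le_diagonal_of_conj hG hT (nWordGL_mem hG w0) hconj hB
    have : (nWordGL hG w0 : GL D.Idx F)⁻¹ * g * nWordGL hG w0 = g := by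
      rw [mul_assoc, hnw.eq, ← mul_assoc, inv_mul_cancel, one_mul]
    rw [this]
    exact hB
  apply eq_one_of_conj_diag hG hT h8 hH
  intro r hr
  obtain ⟨d, hd⟩ := diagonalSubgroup_diag hG1 hH
  refine ⟨d, ?_⟩
  have : xGL hG1 hr 1 * g * (xGL hG1 hr 1)⁻¹ = g := by
    rw [← (hc r hr).eq, mul_assoc, mul_inv_cancel, mul_one]
  rw [this, hd]

end centralizer

end Cfsg.Agent.Helper7.Chev
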