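import Mathlib
import Cfsg.Agent.Helper7.ChevSub1

set_option autoImplicit false
set_option linter.unusedSectionVars false
set_option linter.unusedVariables false

/-!
The fixed points of a field automorphism `σ` of a Chevalley group: they are products `u₁ h₀ n_w u₂` with `u₁`, `u₂`,
`n_w` in the subgroup `L` generated by the root elements with parameters fixed by `σ` and `h₀` a fixed element of
`H`; they normalize every group of fixed points containing `L`.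
-/

namespace Cfsg.Agent.Helper7.Chev

open Cfsg Cfsg.Lie Matrix

variable {D : ChevalleyDatum} {F : Type*} [Field F]

/-- The subgroup generated by the root elements with parameter fixed by `σ`. -/
def fixL (D : ChevalleyDatum) {F : Type*} [Field F] (σ : F ≃+* F) : Subgroup (GL D.Idx F) :=
  Subgroup.closure {g | ∃ (s : ℕ) (t : F), σ t = t ∧ (g : Matrix D.Idx D.Idx F) = D.x F s t}

section basic

variable (hG : Good2 D) (hT : T0 D) (h8 : (tabOf D).T8)

include hG hT h8 in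
theorem xGL_injective {r : ℕ} (hr : r < D.nroots) {a b : F}
    (h : xGL hG.toGood1 hr a = xGL hG.toGood1 hr b) : a = b := by
  by_contra hne
  have hne' : a - b ≠ 0 := sub_ne_zero.mpr hne
  apply xGL_ne_one hG hT h8 hr hne'
  rw [sub_eq_add_neg, ← xGL_mul, ← xGL_inv, h, mul_inv_cancel]

theorem xGL_mem_fixL (σ : F ≃+* F) {r : ℕ} (hr : r < D.nroots) {t : F} (ht : σ t = t) :
    xGL hG.toGood1 hr t ∈ fixL D σ :=
  Subgroup.subset_closure ⟨r, t, ht, xGL_coe _ _ _⟩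

theorem xGL'_mem_fixL (σ : F ≃+* F) (p : ℕ × F) (ht : σ p.2 = p.2) :
    xGL' hG.toGood1 p ∈ fixL D σ :=
  Subgroup.subset_closure ⟨p.1, p.2, ht, xGL'_coe _ _⟩

theorem nGL_eq {r : ℕ} (hr : r < D.nroots) :
    (nGL hG.toGood1 hr : GL D.Idx F) = xGL hG.toGood1 hr 1 *
      (xGL hG.toGood1 (hG.toGood1.neg_lt hr) 1)⁻¹ * xGL hG.toGood1 hr 1 := by
  have hG1 := hG.toGood1
  apply Units.ext
  rw [nGL_coe, Units.val_mul, Units.val_mul, xGL_inv, xGL_coe, xGL_coe]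
  unfold ChevalleyDatum.nMat ChevalleyDatum.nWord
  rw [wordMat_cons, wordMat_cons, wordMat_cons, wordMat_nil, mul_one, inv_one, mul_assoc]

theorem nWordGL_mem_fixL (σ : F ≃+* F) (w : List ℕ) : (nWordGL hG w : GL D.Idx F) ∈ fixL D σ := by
  unfold nWordGL
  apply Subgroup.list_prod_mem
  intro x hx
  rw [List.mem_map] at hx
  obtain ⟨i, _, rfl⟩ := hx
  split_ifs with hi
  · rw [nGL_eq hG]
    exact mul_mem (mul_mem (xGL_mem_fixL hG σ _ (map_one σ))
      (inv_mem (xGL_mem_fixL hG σ _ (map_one σ)))) (xGL_mem_fixL hG σ _ (map_one σ))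
  · exact one_mem _

include hG in
theorem fixL_le_group (σ : F ≃+* F) : fixL D σ ≤ D.group F := by
  have hG1 := hG.toGood1
  unfold fixL
  rw [Subgroup.closure_le]
  rintro g ⟨s, t, _, hg⟩
  have : g = xGL' hG1 (s, t) := Units.ext (hg.trans (xGL'_coe hG1 (s, t)).symm)
  rw [this]
  exact xGL'_mem_group hG1 _

theorem fixL_fixed (σ : F ≃+* F) {g : GL D.Idx F} (hg : g ∈ fixL D σ) :
    glMap (D := D) (σ : F →+* F) g = g := by
  unfold fixL at hg
  induction hg using Subgroup.closure_induction with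
  | mem x hx =>
    obtain ⟨s, t, ht, hx⟩ := hx
    apply Units.ext
    rw [glMap_coe, hx]
    have := x_map (D := D) (σ : F →+* F) s t
    rw [this]
    congr 1
  | one => exact map_one _
  | mul a b _ _ ha hb => rw [map_mul, ha, hb]
  | inv a _ ha => rw [map_inv, ha]

end basic

section main

variable (hG : Good2 D) (hT : T0 D) (h3 : (tabOf D).T3) (h4 : (tabOf D).T4 60) (h5 : (tabOf D).T5)
  (h6 : (tabOf D).T6) (h7 : (tabOf D).T7) (h8 : (tabOf D).T8) (h9 : (tabOf D).T9)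
  (σ : F ≃+* F)

include hG hT h3 h4 h7 h8 in
/-- A fixed element of `U` lies in `L`. -/
theorem pos_fixed_mem_fixL {u : GL D.Idx F} (hu : u ∈ D.posUnipotent F)
    (hfix : (u : Matrix D.Idx D.Idx F).map σ = u) : u ∈ fixL D σ := by
  have hG1 := hG.toGood1
  obtain ⟨t, ht1, ht2⟩ := posUnipotent_word hG hT h3 h4 h7 hu
  have e1 : (u : Matrix D.Idx D.Idx F).map σ =
      D.wordMat F (D.posRoots.map fun r => (r, σ (t r))) := by
    rw [ht2]
    have := wordMat_map (D := D) (σ : F →+* F) (D.posRoots.map fun r => (r, t r))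
    rw [List.map_map] at this
    exact this
  rw [hfix, ht2, posRoots_eq hT] at e1
  have hle : D.nroots / 2 ≤ D.nroots := Nat.div_le_self _ _
  have huniq := word_unique hG hT h8 (D.nroots - D.nroots / 2) (D.nroots / 2) (by omega) le_rfl t
    (fun r => σ (t r)) e1
  have hfixt : ∀ r, σ (t r) = t r := by
    intro r
    by_cases hr : D.IsPosRoot r
    · have hrm := (isPosRoot_iff hT hr.1).mp hr
      have := huniq r (by rw [List.mem_range'_1]; have := hr.1; omega)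
      exact this.symm
    · rw [ht1 r hr, map_zero]
  have e2 : u = ((D.posRoots.map fun r => (r, t r)).map (xGL' hG1)).prod := by
    apply Units.ext
    rw [wordGL_coe, ht2]
  rw [e2]
  apply Subgroup.list_prod_mem
  intro x hx
  rw [List.mem_map] at hx
  obtain ⟨q, hq, rfl⟩ := hx
  rw [List.mem_map] at hq
  obtain ⟨r, _, rfl⟩ := hq
  exact xGL'_mem_fixL hG σ _ (hfixt r)

include hG hT h3 h4 h5 h6 h7 h8 h9 in
/-- The decomposition of a fixed element of the group. -/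
theorem fixed_decomp {g : GL D.Idx F} (hg : g ∈ D.group F)
    (hfix : (g : Matrix D.Idx D.Idx F).map σ = g) :
    ∃ u₁ ∈ fixL D σ, ∃ h₀ ∈ D.diagonalSubgroup F, ∃ w : List ℕ, ∃ u₂ ∈ fixL D σ,
      glMap (D := D) (σ : F →+* F) h₀ = h₀ ∧ g = u₁ * (h₀ * nWordGL hG w) * u₂ := by
  have hG1 := hG.toGood1
  set τ := Cfsg.Agent.Helper7.chevFieldAut D σ with hτdef
  have hτ : RootAut D F τ id (fun _ => (σ : F →+* F)) := rootAut_fieldAut σ
  have hext : ∀ x (hx : x ∈ D.group F), ((extFun τ x : GL D.Idx F) : Matrix D.Idx D.Idx F) =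
      (x : Matrix D.Idx D.Idx F).map σ := by
    intro x hx
    rw [extFun_of_mem τ hx]
    rfl
  obtain ⟨b, hb, n, hn, u₂, hu₂, e⟩ :=
    (bruhat_normal_form (F := F) hG hT h3 h4 h5 h6 h8 h9).1 g hg
  obtain ⟨u₁, hu₁, h, hh, rfl⟩ := borel_decomp hG hb
  have hHN : D.diagonalSubgroup F ≤ D.monomialSubgroup F := le_sup_left
  have hn' : h * n ∈ D.monomialSubgroup F := mul_mem (hHN hh) hn
  have hu₂' : u₂ ∈ Subgroup.closure (minusGen' D F (h * n)) :=
    Subgroup.closure_mono (minusGen'_diag_mul hG hh n) hu₂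
  have e' : g = u₁ * (h * n) * u₂ := by rw [e]; group
  have hgfix : extFun τ g = g := Units.ext (by rw [hext g hg, hfix])
  obtain ⟨f1, f2, f3⟩ := hτ.bruhat_fixed hG hT h3 h4 h5 h6 h8 h9 hu₁ hn' hu₂' e' hgfix
  have hu₂U := minusGen'_le_pos (h * n) hu₂'
  have m1 : u₁ ∈ fixL D σ :=
    pos_fixed_mem_fixL hG hT h3 h4 h7 h8 σ hu₁ (by rw [← hext u₁ (posUnipotent_le_group hu₁), f1])
  have m3 : u₂ ∈ fixL D σ :=
    pos_fixed_mem_fixL hG hT h3 h4 h7 h8 σ hu₂U (by rw [← hext u₂ (posUnipotent_le_group hu₂U), f3])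
  obtain ⟨h₀, hh₀, w, hw, en⟩ := monomialSubgroup_le_nWords hG hT h9 hn'
  have hh₀fix : glMap (D := D) (σ : F →+* F) h₀ = h₀ := by
    have e1 : h₀ = (h * n) * (nWordGL hG w)⁻¹ := by rw [en]; group
    have e2 : glMap (D := D) (σ : F →+* F) (h * n) = h * n := by
      apply Units.ext
      rw [glMap_coe]
      have := hext (h * n) (monomialSubgroup_le_group hG1 hn')
      rw [f2] at this
      exact this.symm
    conv_lhs => rw [e1]
    rw [map_mul, map_inv, glMap_nWordGL, e2, ← e1]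
  exact ⟨u₁, m1, h₀, hh₀, w, u₂, m3, hh₀fix, by rw [e', en]⟩

include hG hT h8 in
/-- A fixed element of `H` normalizes `L`. -/
theorem diag_conj_fixL {h₀ : GL D.Idx F} (hh₀ : h₀ ∈ D.diagonalSubgroup F)
    (hfix : glMap (D := D) (σ : F →+* F) h₀ = h₀) {l : GL D.Idx F} (hl : l ∈ fixL D σ) :
    h₀ * l * h₀⁻¹ ∈ fixL D σ := by
  have hG1 := hG.toGood1
  have key : (fixL D σ).map (MulAut.conj h₀).toMonoidHom ≤ fixL D σ := by
    unfold fixL
    rw [MonoidHom.map_closure, Subgroup.closure_le]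
    rintro _ ⟨x, ⟨s, t, ht, hx⟩, rfl⟩
    change h₀ * x * h₀⁻¹ ∈ Subgroup.closure _
    by_cases hs : s < D.nroots
    · have ex : x = xGL hG1 hs t := eq_xGL hG1 hs hx
      obtain ⟨χ, hχ0, hχ⟩ := diagonal_conj_xGL_lin (K := F) hG hh₀ hs
      have hχfix : σ χ = χ := by
        have e1 := hχ 1
        have e2 := congrArg (glMap (D := D) (σ : F →+* F)) e1
        rw [map_mul, map_mul, map_inv, hfix, glMap_xGL, glMap_xGL] at e2
        simp only [RingEquiv.coe_toRingHom, map_one, mul_one] at e1 e2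
        rw [e1] at e2
        exact (xGL_injective hG hT h8 hs e2).symm
      rw [ex, hχ t]
      exact Subgroup.subset_closure ⟨s, χ * t, by rw [map_mul, hχfix, ht], xGL_coe _ _ _⟩
    · have ex : x = 1 := by
        apply Units.ext
        rw [hx, Units.val_one]
        unfold ChevalleyDatum.x
        rw [dif_neg hs]
      rw [ex, mul_one, mul_inv_cancel]
      exact one_mem _
  exact key ⟨l, hl, rfl⟩

include hG hT h3 h4 h5 h6 h7 h8 h9 in
/-- A fixed element of `H` normalizes every group of fixed elements containing `L`. -/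
theorem diag_conj_mem {Kg : Subgroup (GL D.Idx F)} (hKG : Kg ≤ D.group F) (hLK : fixL D σ ≤ Kg)
    (hKfix : ∀ x ∈ Kg, (x : Matrix D.Idx D.Idx F).map σ = x)
    {h₀ : GL D.Idx F} (hh₀ : h₀ ∈ D.diagonalSubgroup F)
    (hfix : glMap (D := D) (σ : F →+* F) h₀ = h₀) {κ : GL D.Idx F} (hκ : κ ∈ Kg) :
    h₀ * κ * h₀⁻¹ ∈ Kg := by
  have hG1 := hG.toGood1
  obtain ⟨a₁, ha₁, h', hh', v, a₂, ha₂, _, e⟩ :=
    fixed_decomp hG hT h3 h4 h5 h6 h7 h8 h9 σ (hKG hκ) (hKfix κ hκ)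
  set nv : GL D.Idx F := nWordGL hG v with hnv
  have hm : h' * nv ∈ Kg := by
    have : h' * nv = a₁⁻¹ * κ * a₂⁻¹ := by rw [e]; group
    rw [this]
    exact mul_mem (mul_mem (inv_mem (hLK ha₁)) hκ) (inv_mem (hLK ha₂))
  have hnvL : nv ∈ fixL D σ := nWordGL_mem_fixL hG σ v
  -- `c = h₀ n_v h₀⁻¹ n_v⁻¹ ∈ L ∩ H`
  have hcL : h₀ * nv * h₀⁻¹ * nv⁻¹ ∈ fixL D σ :=
    mul_mem (diag_conj_fixL hG hT h8 σ hh₀ hfix hnvL) (inv_mem hnvL)
  have hcH : nv * h₀⁻¹ * nv⁻¹ ∈ D.diagonalSubgroup F :=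
    conj_mem_diagonal (nWordGL_mem_normalizer hG v) (inv_mem hh₀)
  have hcomm : h' * (nv * h₀⁻¹ * nv⁻¹) = (nv * h₀⁻¹ * nv⁻¹) * h' :=
    diagonalSubgroup_comm hG1 _ hh' _ hcH
  have hcomm2 : h₀ * h' = h' * h₀ := diagonalSubgroup_comm hG1 _ hh₀ _ hh'
  have e2 : h₀ * (h' * nv) * h₀⁻¹ = (h₀ * nv * h₀⁻¹ * nv⁻¹) * (h' * nv) := by
    calc h₀ * (h' * nv) * h₀⁻¹ = (h₀ * h') * (nv * h₀⁻¹ * nv⁻¹) * nv := by group
      _ = (h' * h₀) * (nv * h₀⁻¹ * nv⁻¹) * nv := by rw [hcomm2]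
      _ = h' * (h₀ * (nv * h₀⁻¹ * nv⁻¹)) * nv := by group
      _ = h' * ((nv * h₀⁻¹ * nv⁻¹) * h₀) * nv := by
          rw [diagonalSubgroup_comm hG1 _ hh₀ _ hcH]
      _ = (h' * (nv * h₀⁻¹ * nv⁻¹)) * h₀ * nv := by group
      _ = ((nv * h₀⁻¹ * nv⁻¹) * h') * h₀ * nv := by rw [hcomm]
      _ = (nv * h₀⁻¹ * nv⁻¹) * (h' * h₀) * nv := by group
      _ = (nv * h₀⁻¹ * nv⁻¹) * (h₀ * h') * nv := by rw [hcomm2]
      _ = ((nv * h₀⁻¹ * nv⁻¹) * h₀) * (h' * nv) := by group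
      _ = (h₀ * (nv * h₀⁻¹ * nv⁻¹)) * (h' * nv) := by
          rw [diagonalSubgroup_comm hG1 _ hh₀ _ hcH]
      _ = _ := by group
  have e3 : h₀ * κ * h₀⁻¹ = (h₀ * a₁ * h₀⁻¹) * (h₀ * (h' * nv) * h₀⁻¹) * (h₀ * a₂ * h₀⁻¹) := by
    rw [e]; group
  rw [e3, e2]
  exact mul_mem (mul_mem (hLK (diag_conj_fixL hG hT h8 σ hh₀ hfix ha₁)) (mul_mem (hLK hcL) hm))
    (hLK (diag_conj_fixL hG hT h8 σ hh₀ hfix ha₂))

include hG hT h3 h4 h5 h6 h7 h8 h9 in
/-- A fixed element of the group normalizes every group of fixed elements containing `L`. -/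
theorem fixed_conj_mem {Kg : Subgroup (GL D.Idx F)} (hKG : Kg ≤ D.group F) (hLK : fixL D σ ≤ Kg)
    (hKfix : ∀ x ∈ Kg, (x : Matrix D.Idx D.Idx F).map σ = x)
    {g : GL D.Idx F} (hg : g ∈ D.group F) (hfix : (g : Matrix D.Idx D.Idx F).map σ = g)
    {κ : GL D.Idx F} (hκ : κ ∈ Kg) : g * κ * g⁻¹ ∈ Kg := by
  obtain ⟨u₁, hu₁, h₀, hh₀, w, u₂, hu₂, hh₀fix, e⟩ :=
    fixed_decomp hG hT h3 h4 h5 h6 h7 h8 h9 σ hg hfix
  have hnw : (nWordGL hG w : GL D.Idx F) ∈ Kg := hLK (nWordGL_mem_fixL hG σ w)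
  have h1 : nWordGL hG w * u₂ * κ * (nWordGL hG w * u₂)⁻¹ ∈ Kg :=
    mul_mem (mul_mem (mul_mem hnw (hLK hu₂)) hκ) (inv_mem (mul_mem hnw (hLK hu₂)))
  have h2 := diag_conj_mem hG hT h3 h4 h5 h6 h7 h8 h9 σ hKG hLK hKfix hh₀ hh₀fix h1
  have e2 : g * κ * g⁻¹ =
      u₁ * (h₀ * (nWordGL hG w * u₂ * κ * (nWordGL hG w * u₂)⁻¹) * h₀⁻¹) * u₁⁻¹ := by
    rw [e]; group
  rw [e2]
  exact mul_mem (mul_mem (hLK hu₁) h2) (inv_mem (hLK hu₁))

end main

end Cfsg.Agent.Helper7.Chev
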