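import Mathlib
import Cfsg.Agent.Helper7.ChevTw12
import Cfsg.Agent.Helper7.ChevCardH

set_option autoImplicit false
set_option linter.unusedSectionVars false
set_option linter.unusedVariables false

/-!
Twisted groups: the twisting automorphism on the torus `H`, and `H ⊓ G¹`.
-/

namespace Cfsg.Agent.Helper7.Chev

open Cfsg Cfsg.Lie Matrix

variable {D : ChevalleyDatum} {K : Type*} [Field K]

/-- `h_{p_i}(a_i)` as an invertible matrix. -/
noncomputable def hS (hG1 : Good1 D) (a : ℕ → Kˣ) (i : ℕ) : GL D.Idx K :=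
  phiS hG1 i (diagSL ((a i : Kˣ) : K) (Units.ne_zero _))

theorem hS_coe (hG1 : Good1 D) (a : ℕ → Kˣ) {i : ℕ} (hi : i < D.rank) :
    ((hS hG1 a i : GL D.Idx K) : Matrix D.Idx D.Idx K) = D.hMat K (D.simple i) ((a i : Kˣ) : K) := by
  unfold hS
  rw [phiS_of_lt hG1 hi]
  exact hGL_coe hG1 (hG1.simple_lt hi) _ _

/-- The matrix of a product of the `h_{p_i}(a_i)` along a list. -/
theorem prod_hS_coe (hG1 : Good1 D) (a : ℕ → Kˣ) (L : List ℕ) (hL : ∀ i ∈ L, i < D.rank) :
    (((L.map (hS hG1 a)).prod : GL D.Idx K) : Matrix D.Idx D.Idx K) =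
      Matrix.diagonal (tEntry D L (fun i => ((a i : Kˣ) : K))) := by
  rw [← Units.coeHom_apply, map_list_prod, List.map_map]
  rw [← prod_hMat_simple hG1 L hL (fun i => ((a i : Kˣ) : K)) (fun i _ => Units.ne_zero _)]
  congr 1
  apply List.map_congr_left
  intro i hi
  simp only [Function.comp_apply, Units.coeHom_apply]
  exact hS_coe hG1 a (hL i hi)

theorem tEntry_perm {L L' : List ℕ} (h : L.Perm L') (c : ℕ → K) : tEntry D L c = tEntry D L' c := by
  funext v
  rcases v with j | s
  · rfl
  · simp only [tEntry, Sum.elim_inr]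
    exact (h.map _).prod_eq

/-- Extend a tuple of units to a function on the natural numbers with values in the units. -/
def extu (l : ℕ) (c : Fin l → Kˣ) : ℕ → Kˣ := fun i => if h : i < l then c ⟨i, h⟩ else 1

theorem extu_coe {l : ℕ} (c : Fin l → Kˣ) (i : ℕ) : ((extu l c i : Kˣ) : K) = extc l c i := by
  unfold extu extc
  split_ifs <;> rfl

/-- The torus element as the product of the `h_{p_i}(c_i)`. -/
theorem tGL_eq_prod (hG1 : Good1 D) (c : Fin D.rank → Kˣ) :
    (tGL c : GL D.Idx K) = ((List.range D.rank).map (hS hG1 (extu D.rank c))).prod := by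
  apply Units.ext
  rw [tGL_coe, prod_hS_coe hG1 _ _ (fun i hi => List.mem_range.mp hi)]
  unfold tMat
  congr 2
  funext i
  exact (extu_coe c i).symm

section sigma

variable (hG : Good2 D) (hT : T0 D) (h3 : (tabOf D).T3) (h4 : (tabOf D).T4 60)
  {ρ ρ' σ σ' : ℕ → ℕ} {ε : ℕ → ℤ} (h18 : T18 D ρ ρ' σ σ' ε) {cls : List (ℕ × ℕ)}
  (h19 : T19 D ρ σ cls) (f : K ≃+* K)

/-- The action of the twisting automorphism on the parameters of the torus. -/
noncomputable def sigC : (Fin D.rank → Kˣ) →* (Fin D.rank → Kˣ) where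
  toFun c := fun i => Units.map ((f : K →+* K) : K →* K) (c ⟨ρ' i.val, (h18.rho i.val i.2).2.1⟩)
  map_one' := by
    funext i
    simp
  map_mul' a b := by
    funext i
    simp

theorem sigC_apply (c : Fin D.rank → Kˣ) (i : Fin D.rank) :
    (((sigC h18 f c) i : Kˣ) : K) = f ((c ⟨ρ' i.val, (h18.rho i.val i.2).2.1⟩ : Kˣ) : K) := rfl

include h18 in
/-- The twisting automorphism on a product of the `h_{p_i}(a_i)`. -/
theorem twAut_prod_hS (a a' : ℕ → Kˣ) (L : List ℕ) (hL : ∀ i ∈ L, i < D.rank)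
    (ha : ∀ i ∈ L, ((a' (ρ i) : Kˣ) : K) = f ((a i : Kˣ) : K)) :
    twAut h18 f ((L.map (hS hG.toGood1 a)).prod) = ((L.map ρ).map (hS hG.toGood1 a')).prod := by
  rw [map_list_prod, List.map_map, List.map_map]
  congr 1
  apply List.map_congr_left
  intro i hi
  simp only [Function.comp_apply]
  unfold hS
  rw [twAut_phiS h18 f hG.toGood1 (hL i hi), map_diagSL]
  congr 1
  apply Subtype.ext
  change !![f ((a i : Kˣ) : K), 0; 0, (f ((a i : Kˣ) : K))⁻¹] =
    !![((a' (ρ i) : Kˣ) : K), 0; 0, ((a' (ρ i) : Kˣ) : K)⁻¹]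
  rw [ha i hi]

include hG h18 in
/-- The twisting automorphism on the torus. -/
theorem twAut_torusHom (hperm : ((List.range D.rank).map ρ).Perm (List.range D.rank))
    (c : Fin D.rank → Kˣ) :
    twAut h18 f (torusHom D K c) = torusHom D K (sigC h18 f c) := by
  have hG1 := hG.toGood1
  rw [torusHom_apply, torusHom_apply, tGL_eq_prod hG1 c]
  rw [twAut_prod_hS hG h18 f (extu D.rank c) (extu D.rank (sigC h18 f c)) _
    (fun i hi => List.mem_range.mp hi)]
  · apply Units.ext
    rw [prod_hS_coe hG1 _ _ (fun i hi => by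
      rw [List.mem_map] at hi
      obtain ⟨k, hk, rfl⟩ := hi
      exact (h18.rho k (List.mem_range.mp hk)).1), tEntry_perm hperm, tGL_coe]
    unfold tMat
    congr 2
    funext i
    exact extu_coe _ i
  · intro i hi
    have hi' := List.mem_range.mp hi
    obtain ⟨r1, r2, r3, r4⟩ := h18.rho i hi'
    rw [extu_coe, extu_coe]
    unfold extc
    rw [dif_pos r1, dif_pos hi', sigC_apply]
    congr 3
    exact Fin.ext r3

/-- The fixed points of the twisting automorphism on the parameters. -/
noncomputable def sigFix : Subgroup (Fin D.rank → Kˣ) :=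
  (sigC h18 f).eqLocus (MonoidHom.id _)

theorem mem_sigFix {c : Fin D.rank → Kˣ} : c ∈ sigFix h18 f ↔ sigC h18 f c = c := Iff.rfl

include h18 in
/-- A fixed tuple of parameters is compatible with the permutation of the fundamental roots. -/
theorem extu_rho_of_fixed {c : Fin D.rank → Kˣ} (hc : sigC h18 f c = c) {k : ℕ} (hk : k < D.rank) :
    ((extu D.rank c (ρ k) : Kˣ) : K) = f ((extu D.rank c k : Kˣ) : K) := by
  obtain ⟨r1, r2, r3, r4⟩ := h18.rho k hk
  rw [extu_coe, extu_coe]
  unfold extc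
  rw [dif_pos r1, dif_pos hk]
  have := congrFun hc ⟨ρ k, r1⟩
  rw [← this, sigC_apply]
  congr 3
  exact Fin.ext r3

include h18 h19 in
theorem extu_iterate_of_fixed {c : Fin D.rank → Kˣ} (hc : sigC h18 f c = c) {S : ℕ × ℕ} (hSc : S ∈ cls) :
    ∀ j, j ≤ S.2 → ((extu D.rank c (ρ^[j] S.1) : Kˣ) : K) =
      (((f : K →+* K)) ^ j) ((extu D.rank c S.1 : Kˣ) : K) := by
  obtain ⟨hm, horb, hlt⟩ := h19.orbit S hSc
  intro j
  induction j with
  | zero => intro _; rfl
  | succ j ih =>
    intro hj
    rw [Function.iterate_succ_apply', extu_rho_of_fixed h18 f hc (hlt j (by omega)), ih (by omega),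
      pow_succ']
    rfl

include h18 in
/-- For a fixed tuple of parameters, `h_S` of the parameter of the base root of a class is the product of the
`h_{p}` over the class. -/
theorem clsHom_diag_eq {c : Fin D.rank → Kˣ} (hc : sigC h18 f c = c) {S : ℕ × ℕ} (hSc : S ∈ cls) :
    clsHom hG h3 h4 h19 f hSc (diagSL ((extu D.rank c S.1 : Kˣ) : K) (Units.ne_zero _)) =
      ((clsWord ρ S).map (hS hG.toGood1 (extu D.rank c))).prod := by
  obtain ⟨hm, horb, hlt⟩ := h19.orbit S hSc
  rw [clsHom_apply]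
  unfold clsWord
  rw [List.map_map]
  congr 1
  apply List.map_congr_left
  intro j hj
  have hj' := List.mem_range.mp hj
  simp only [Function.comp_apply]
  unfold clsFactor hS
  rw [MonoidHom.comp_apply, map_diagSL]
  congr 1
  apply Subtype.ext
  change !![(((f : K →+* K)) ^ j) ((extu D.rank c S.1 : Kˣ) : K), 0; 0,
      ((((f : K →+* K)) ^ j) ((extu D.rank c S.1 : Kˣ) : K))⁻¹] =
    !![((extu D.rank c (ρ^[j] S.1) : Kˣ) : K), 0; 0, ((extu D.rank c (ρ^[j] S.1) : Kˣ) : K)⁻¹]
  rw [extu_iterate_of_fixed h18 h19 f hc hSc j (le_of_lt hj')]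

include h18 in
/-- The torus elements with fixed parameters lie in the twisted group. -/
theorem torusHom_mem_twGroup (hcls : (cls.flatMap (clsWord ρ)).Perm (List.range D.rank))
    {c : Fin D.rank → Kˣ} (hc : sigC h18 f c = c) :
    torusHom D K c ∈ twGroup hG h3 h4 h19 f := by
  have hG1 := hG.toGood1
  have key : ∀ L : List (ℕ × ℕ), (∀ S ∈ L, S ∈ cls) →
      ((L.flatMap (clsWord ρ)).map (hS hG1 (extu D.rank c))).prod ∈ twGroup hG h3 h4 h19 f := by
    intro L
    induction L with
    | nil => intro _; simp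
    | cons S L ih =>
      intro hL
      have hS' : S ∈ cls := hL S List.mem_cons_self
      obtain ⟨hm, horb, hlt⟩ := h19.orbit S hS'
      rw [List.flatMap_cons, List.map_append, List.prod_append]
      refine mul_mem ?_ (ih fun S' hS'' => hL S' (List.mem_cons_of_mem _ hS''))
      rw [← clsHom_diag_eq hG h3 h4 h18 h19 f hc hS']
      apply diag_mem_twGroup
      unfold Adm
      rw [← extu_iterate_of_fixed h18 h19 f hc hS' S.2 le_rfl, horb]
  have h1 := key cls (fun S hS' => hS')
  have e : torusHom D K c = ((cls.flatMap (clsWord ρ)).map (hS hG1 (extu D.rank c))).prod := by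
    rw [torusHom_apply]
    apply Units.ext
    rw [tGL_coe, prod_hS_coe hG1 _ _ (fun i hi => by
      rw [List.mem_flatMap] at hi
      obtain ⟨S, hS', hi⟩ := hi
      exact clsWord_lt h19 hS' i hi), tEntry_perm hcls]
    unfold tMat
    congr 2
    funext i
    exact (extu_coe c i).symm
  rw [e]
  exact h1

end sigma

end Cfsg.Agent.Helper7.Chev
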