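import Mathlib
import Cfsg.Agent.Helper7.ChevGood3
import Cfsg.Agent.Helper7.ChevT5
import Cfsg.Agent.Helper7.ChevT6
import Cfsg.Agent.Helper7.ChevT7
import Cfsg.Agent.Helper7.ChevT9
import Cfsg.Agent.Helper7.ChevBN
import Cfsg.Agent.Helper7.ChevBruhat
import Cfsg.Agent.Helper7.ChevRee12
import Cfsg.Agent.Helper7.ChevTw11
import Cfsg.Agent.Helper7.ChevTwH1
import Cfsg.Agent.Helper7.ChevTwF3
import Cfsg.Agent.Helper7.ChevSub2
import Cfsg.Agent.Helper7.BNParabolic

set_option autoImplicit false
set_option linter.unusedSectionVars false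
set_option linter.unusedVariables false

/-!
The centraliser of a root element `x_r(1)` for a root `r` whose root subgroup is normalised by `B` and which is
a fundamental weight: it is generated by `U` and the root subgroups of the negatives of the fundamental roots
orthogonal to `r`.
-/

namespace Cfsg.Agent.Helper7.Chev

open Cfsg Cfsg.Lie Matrix
open scoped Pointwise

variable {D : ChevalleyDatum} {F : Type*} [Field F]

/-! ### Conjugation by the torus -/

section torus

variable (hG : Good2 D)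

include hG in
theorem prod_hMat_mul_x (L : List ℕ) (hL : ∀ i ∈ L, i < D.rank) (c : ℕ → F)
    (hc : ∀ i < D.rank, c i ≠ 0) {s : ℕ} (hs : s < D.nroots) (t : F) :
    (L.map (fun i => D.hMat F (D.simple i) (c i))).prod * D.x F s t =
      D.x F s ((L.map (fun i => c i ^ D.cartan i s)).prod * t) *
        (L.map (fun i => D.hMat F (D.simple i) (c i))).prod := by
  have hG1 := hG.toGood1
  induction L generalizing t with
  | nil => simp
  | cons i L ih =>
    have hi : i < D.rank := hL i List.mem_cons_self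
    have hL' : ∀ j ∈ L, j < D.rank := fun j hj => hL j (List.mem_cons_of_mem _ hj)
    rw [List.map_cons, List.prod_cons, List.map_cons, List.prod_cons, Matrix.mul_assoc, ih hL',
      ← Matrix.mul_assoc, hMat_mul_x hG (hG1.simple_lt hi) (hc i hi) hs, pairing_simple hG1 hi,
      Matrix.mul_assoc]
    congr 2
    ring

include hG in
/-- Conjugation of a root element by a torus element. -/
theorem tMat_mul_x (c : ℕ → F) (hc : ∀ i < D.rank, c i ≠ 0) {s : ℕ} (hs : s < D.nroots) (t : F) :
    tMat D c * D.x F s t =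
      D.x F s (((List.range D.rank).map (fun i => c i ^ D.cartan i s)).prod * t) * tMat D c := by
  have hG1 := hG.toGood1
  have h := prod_hMat_simple (F := F) hG1 (List.range D.rank) (fun i hi => List.mem_range.mp hi) c hc
  unfold tMat
  rw [← h]
  exact prod_hMat_mul_x hG _ (fun i hi => List.mem_range.mp hi) c hc hs t

end torus

/-! ### Normalisers of root subgroups -/

section norm

variable (hG1 : Good1 D) {r₀ : ℕ} (hr₀ : r₀ < D.nroots)

include hG1 hr₀ in
/-- An element acting linearly on a root subgroup normalises it. -/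
theorem mem_normalizer_rootSubgroup {g : GL D.Idx F} {κ : F} (hκ : κ ≠ 0)
    (h : ∀ a : F, g * xGL hG1 hr₀ a * g⁻¹ = xGL hG1 hr₀ (κ * a)) :
    g ∈ Subgroup.normalizer (D.rootSubgroup F r₀ : Set (GL D.Idx F)) := by
  unfold ChevalleyDatum.rootSubgroup
  apply mem_normalizer_closure
  · rintro x ⟨a, hx⟩
    rw [eq_xGL hG1 hr₀ hx, h a]
    exact Subgroup.subset_closure ⟨_, xGL_coe hG1 hr₀ _⟩
  · rintro x ⟨a, hx⟩
    have e : g⁻¹ * xGL hG1 hr₀ a * g = xGL hG1 hr₀ (κ⁻¹ * a) := by
      have := h (κ⁻¹ * a)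
      rw [← mul_assoc, mul_inv_cancel₀ hκ, one_mul] at this
      rw [← this]
      group
    rw [eq_xGL hG1 hr₀ hx, e]
    exact Subgroup.subset_closure ⟨_, xGL_coe hG1 hr₀ _⟩

end norm

/-! ### The centraliser -/

/-- The negatives of the fundamental roots other than the `i₀`-th. -/
def IsNegSimpleNe (D : ChevalleyDatum) (i₀ : ℕ) (s : ℕ) : Prop :=
  ∃ j < D.rank, j ≠ i₀ ∧ s = D.neg (D.simple j)

section main

variable (hG : Good3 D) (hT : T0 D) (h5 : (tabOf D).T5) (h6 : (tabOf D).T6) (h8 : (tabOf D).T8)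
  (h9 : (tabOf D).T9)

include hG hT h5 h6 h8 h9 in
/-- The centraliser of `x_{r₀}(1)` when `r₀` is orthogonal to all fundamental roots but the `i₀`-th, with Cartan
integer one on that root, and the root elements of `r₀` commute with those of the positive roots and of the
negatives of the other fundamental roots. -/
theorem root_centralizer {r₀ i₀ : ℕ} (hr₀ : r₀ < D.nroots) (hi₀ : i₀ < D.rank)
    (hcommU : ∀ s, D.IsPosRoot s → ∀ a u : F, D.x F r₀ a * D.x F s u = D.x F s u * D.x F r₀ a)
    (hcommN : ∀ s, IsNegSimpleNe D i₀ s → ∀ a u : F, D.x F r₀ a * D.x F s u = D.x F s u * D.x F r₀ a)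
    (hcart : ∀ i < D.rank, D.cartan i r₀ = if i = i₀ then 1 else 0)
    (hrefl : (tabOf D).refl (D.simple i₀) r₀ ≠ r₀)
    (t : GL D.Idx F) (ht : (t : Matrix D.Idx D.Idx F) = D.x F r₀ 1) :
    D.group F ⊓ Subgroup.centralizer {t} =
      D.posUnipotent F ⊔ Subgroup.closure (rootGen D F (IsNegSimpleNe D i₀)) := by
  have hG2 := hG.toGood2
  have hG1 := hG2.toGood1
  have h3 := hG.t3
  have h4 := hG.t4
  have hUB : D.posUnipotent F ≤ D.borelSubgroup F := le_sup_left
  have hHB : D.diagonalSubgroup F ≤ D.borelSubgroup F := le_sup_right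
  have htx : t = xGL hG1 hr₀ 1 := eq_xGL hG1 hr₀ ht
  have hNlt : ∀ s, IsNegSimpleNe D i₀ s → s < D.nroots := by
    rintro s ⟨j, hj, _, rfl⟩
    exact hG1.neg_lt (hG1.simple_lt hj)
  set Mg : Subgroup (GL D.Idx F) :=
    D.posUnipotent F ⊔ Subgroup.closure (rootGen D F (IsNegSimpleNe D i₀)) with hMg
  -- `Mg` centralises the root subgroup
  have hZ : ∀ m ∈ Mg, ∀ a : F, m * xGL hG1 hr₀ a = xGL hG1 hr₀ a * m := by
    have hle : Mg ≤ Subgroup.centralizer (Set.range fun a : F => xGL hG1 hr₀ a) := by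
      rw [hMg]
      apply sup_le
      · unfold ChevalleyDatum.posUnipotent
        rw [Subgroup.closure_le]
        rintro x ⟨s, u, hs, hx⟩
        rw [SetLike.mem_coe, Subgroup.mem_centralizer_iff]
        rintro _ ⟨a, rfl⟩
        apply Units.ext
        change ((xGL hG1 hr₀ a * x : GL D.Idx F) : Matrix D.Idx D.Idx F) = ((x * xGL hG1 hr₀ a : GL D.Idx F) : Matrix D.Idx D.Idx F)
        rw [Units.val_mul, Units.val_mul, hx, xGL_coe]
        exact hcommU s hs a u
      · rw [Subgroup.closure_le]
        rintro x ⟨s, u, hs, hx⟩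
        rw [SetLike.mem_coe, Subgroup.mem_centralizer_iff]
        rintro _ ⟨a, rfl⟩
        apply Units.ext
        change ((xGL hG1 hr₀ a * x : GL D.Idx F) : Matrix D.Idx D.Idx F) = ((x * xGL hG1 hr₀ a : GL D.Idx F) : Matrix D.Idx D.Idx F)
        rw [Units.val_mul, Units.val_mul, hx, xGL_coe]
        exact hcommN s hs a u
    intro m hm a
    have := (Subgroup.mem_centralizer_iff.mp (hle hm)) (xGL hG1 hr₀ a) ⟨a, rfl⟩
    exact this.symm
  have hMgG : Mg ≤ D.group F := by
    rw [hMg]
    apply sup_le (posUnipotent_le_group)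
    rw [Subgroup.closure_le]
    rintro x ⟨s, u, hs, hx⟩
    rw [eq_xGL hG1 (hNlt s hs) hx]
    exact xGL_mem_group hG2 (hNlt s hs) u
  apply le_antisymm
  · -- the hard inclusion
    intro g hg
    obtain ⟨hgG, hgC⟩ := Subgroup.mem_inf.mp hg
    have hgt : g * xGL hG1 hr₀ 1 = xGL hG1 hr₀ 1 * g := by
      have := Subgroup.mem_centralizer_iff.mp hgC t (Set.mem_singleton t)
      rw [htx] at this
      exact this.symm
    have hUMg : D.posUnipotent F ≤ Mg := le_sup_left
    -- `U`, `H` and `B` normalise the root subgroup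
    have hUN : D.posUnipotent F ≤ Subgroup.normalizer (D.rootSubgroup F r₀ : Set (GL D.Idx F)) := by
      intro u hu
      apply mem_normalizer_rootSubgroup hG1 hr₀ (κ := 1) one_ne_zero
      intro a
      rw [one_mul, hZ u (hUMg hu) a]
      group
    have hHN : D.diagonalSubgroup F ≤
        Subgroup.normalizer (D.rootSubgroup F r₀ : Set (GL D.Idx F)) := by
      intro h hh
      obtain ⟨χ, hχ, hlin⟩ := diagonal_conj_xGL_lin hG2 hh hr₀
      exact mem_normalizer_rootSubgroup hG1 hr₀ hχ hlin
    have hBN : D.borelSubgroup F ≤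
        Subgroup.normalizer (D.rootSubgroup F r₀ : Set (GL D.Idx F)) := sup_le hUN hHN
    -- the normaliser is a parabolic subgroup
    obtain ⟨P, hPB, hPN, hPS⟩ := exists_bnPair (F := F) hG2 hT h3 h4 h5 h6 h8 h9
    set Mn : Subgroup ↥(D.group F) :=
      (Subgroup.normalizer (D.rootSubgroup F r₀ : Set (GL D.Idx F))).subgroupOf (D.group F) with hMn
    have hBM : P.B ≤ Mn := by
      rw [hPB]
      intro b hb
      rw [Subgroup.mem_subgroupOf] at hb
      rw [hMn, Subgroup.mem_subgroupOf]
      exact hBN hb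
    have hMnP : Mn ≤ (D.parabolicSubgroup F {j | j ≠ i₀}).subgroupOf (D.group F) := by
      rw [BN.eq_parabolic_of_le P Mn hBM, BN.parabolic_le_iff]
      constructor
      · rw [hPB]
        intro b hb
        rw [Subgroup.mem_subgroupOf] at hb ⊢
        exact (le_sup_left : D.borelSubgroup F ≤ D.parabolicSubgroup F {j | j ≠ i₀}) hb
      · rintro s ⟨hsS, hsM⟩
        rw [hPS] at hsS
        obtain ⟨i, hi, hsi⟩ := hsS
        rw [SetLike.mem_coe, Subgroup.mem_subgroupOf]
        have hne : i ≠ i₀ := by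
          rintro rfl
          have hw : ∀ k ∈ [i], k < D.rank := by
            intro k hk
            rw [List.mem_singleton] at hk
            rw [hk]; exact hi
          have hs' : (s : GL D.Idx F) = nWordGL hG2 [i] := by
            rw [nWordGL_cons hG2 hi, nWordGL_nil, mul_one]
            exact Units.ext (hsi.trans (nGL_coe hG1 _).symm)
          have hsN : (s : GL D.Idx F) ∈
              Subgroup.normalizer (D.rootSubgroup F r₀ : Set (GL D.Idx F)) := by
            rw [SetLike.mem_coe, hMn, Subgroup.mem_subgroupOf] at hsM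
            exact hsM
          have hx : xGL hG1 hr₀ (1 : F) ∈ D.rootSubgroup F r₀ :=
            Subgroup.subset_closure ⟨1, xGL_coe hG1 hr₀ 1⟩
          have h1 := (Subgroup.mem_set_normalizer_iff.mp hsN _).mp hx
          obtain ⟨t', ht'⟩ := mem_rootSubgroup hG1 hr₀ h1
          rw [hs', nWordGL_conj hG2 hw hr₀] at ht'
          have hη : (((tabOf D).etaWord [i] r₀ : ℤ) : F) * 1 ≠ 0 := by
            rw [mul_one]
            exact etaWord_cast_ne_zero hG2 hw hr₀
          have := root_eq_of_xGL_eq hG2 h8 (reflWord_lt hG2 hw hr₀) hr₀ hη ht'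
          exact hrefl this
        apply (le_sup_right : _ ≤ D.parabolicSubgroup F {j | j ≠ i₀})
        exact Subgroup.subset_closure ⟨i, hne, hi, hsi⟩
    -- the Bruhat decomposition of `g`
    obtain ⟨b, hb, n, hn, u', hu', e⟩ :=
      (bruhat_normal_form (F := F) hG2 hT h3 h4 h5 h6 h8 h9).1 g hgG
    have hu'U := minusGen'_le_pos n hu'
    obtain ⟨u, hu, h, hh, rfl⟩ := borel_decomp hG2 hb
    obtain ⟨h₁, hh₁, w, hw, rfl⟩ := monomialSubgroup_le_nWords hG2 hT h9 hn
    have hwr := reflWord_lt hG2 hw hr₀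
    set T : GL D.Idx F := xGL hG1 hr₀ 1 with hT1
    have hu'T : u' * T = T * u' := hZ u' (hUMg hu'U) 1
    have huT : u * T = T * u := hZ u (hUMg hu) 1
    have e1 : (h₁ * nWordGL hG2 w) * T * (h₁ * nWordGL hG2 w)⁻¹ = h⁻¹ * T * h := by
      have hcomm : (u * h) * (h₁ * nWordGL hG2 w) * u' * T = T * ((u * h) * (h₁ * nWordGL hG2 w) * u') := by
        rw [← e]; exact hgt
      calc (h₁ * nWordGL hG2 w) * T * (h₁ * nWordGL hG2 w)⁻¹
          = (u * h)⁻¹ * ((u * h) * (h₁ * nWordGL hG2 w) * (T * u')) * u'⁻¹ * (h₁ * nWordGL hG2 w)⁻¹ := by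
            group
        _ = (u * h)⁻¹ * ((u * h) * (h₁ * nWordGL hG2 w) * (u' * T)) * u'⁻¹ * (h₁ * nWordGL hG2 w)⁻¹ := by
            rw [hu'T]
        _ = (u * h)⁻¹ * ((u * h) * (h₁ * nWordGL hG2 w) * u' * T) * u'⁻¹ * (h₁ * nWordGL hG2 w)⁻¹ := by
            group
        _ = (u * h)⁻¹ * (T * ((u * h) * (h₁ * nWordGL hG2 w) * u')) * u'⁻¹ * (h₁ * nWordGL hG2 w)⁻¹ := by
            rw [hcomm]
        _ = h⁻¹ * (u⁻¹ * (T * u)) * h := by group
        _ = h⁻¹ * (u⁻¹ * (u * T)) * h := by rw [huT]
        _ = h⁻¹ * T * h := by group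
    obtain ⟨t₁, ht₁⟩ := diagonal_conj_xGL' hG2 hh hr₀ (1 : F)
    obtain ⟨χ, hχ, hlin⟩ := diagonal_conj_xGL_lin hG2 hh₁ hwr
    have hconj : ∀ a : F, (h₁ * nWordGL hG2 w) * xGL hG1 hr₀ a * (h₁ * nWordGL hG2 w)⁻¹ =
        xGL hG1 hwr (χ * ((((tabOf D).etaWord w r₀ : ℤ) : F) * a)) := by
      intro a
      rw [← hlin, ← nWordGL_conj hG2 hw hr₀]
      group
    have hη : (((tabOf D).etaWord w r₀ : ℤ) : F) ≠ 0 := etaWord_cast_ne_zero hG2 hw hr₀
    have hwr0 : (tabOf D).reflWord w r₀ = r₀ := by
      have e2 := hconj 1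
      rw [← hT1, e1, ht₁] at e2
      exact root_eq_of_xGL_eq hG2 h8 hwr hr₀
        (mul_ne_zero hχ (mul_ne_zero hη one_ne_zero)) e2.symm
    have hnN : h₁ * nWordGL hG2 w ∈
        Subgroup.normalizer (D.rootSubgroup F r₀ : Set (GL D.Idx F)) := by
      apply mem_normalizer_rootSubgroup hG1 hr₀ (κ := χ * (((tabOf D).etaWord w r₀ : ℤ) : F))
        (mul_ne_zero hχ hη)
      intro a
      rw [hconj a, xGL_congr hG2 hwr0 hwr hr₀, mul_assoc]
    have hgN : u * h * (h₁ * nWordGL hG2 w) * u' ∈
        Subgroup.normalizer (D.rootSubgroup F r₀ : Set (GL D.Idx F)) :=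
      mul_mem (mul_mem (mul_mem (hUN hu) (hHN hh)) hnN) (hUN hu'U)
    have hgP : g ∈ D.parabolicSubgroup F {j | j ≠ i₀} := by
      have : (⟨g, hgG⟩ : ↥(D.group F)) ∈ Mn := by
        rw [hMn, Subgroup.mem_subgroupOf]
        change g ∈ _
        rw [e]; exact hgN
      have := hMnP this
      rw [Subgroup.mem_subgroupOf] at this
      exact this
    -- `P_J = Mg H`
    have hMg' : Mg = Subgroup.closure
        (rootGen D F (fun s => D.IsPosRoot s ∨ IsNegSimpleNe D i₀ s)) := by
      rw [hMg]
      apply le_antisymm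
      · apply sup_le
        · unfold ChevalleyDatum.posUnipotent
          apply Subgroup.closure_mono
          rintro x ⟨s, a, hs, hx⟩
          exact ⟨s, a, Or.inl hs, hx⟩
        · apply Subgroup.closure_mono
          rintro x ⟨s, a, hs, hx⟩
          exact ⟨s, a, Or.inr hs, hx⟩
      · rw [Subgroup.closure_le]
        rintro x ⟨s, a, hs | hs, hx⟩
        · exact (le_sup_left : D.posUnipotent F ≤ _) (Subgroup.subset_closure ⟨s, a, hs, hx⟩)
        · exact (le_sup_right : Subgroup.closure (rootGen D F (IsNegSimpleNe D i₀)) ≤ _)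
            (Subgroup.subset_closure ⟨s, a, hs, hx⟩)
    have hP12lt : ∀ s, (D.IsPosRoot s ∨ IsNegSimpleNe D i₀ s) → s < D.nroots := by
      rintro s (hs | hs)
      · exact hs.1
      · exact hNlt s hs
    have hHMg : D.diagonalSubgroup F ≤ Subgroup.normalizer (Mg : Set (GL D.Idx F)) := by
      rw [hMg']
      exact diagonalSubgroup_le_normalizer hG2 hP12lt
    have hsimple_pos : ∀ j < D.rank, D.IsPosRoot (D.simple j) := fun j hj =>
      (isPosRoot_iff hT (hG1.simple_lt hj)).mpr (simple_pos hG1 hT hj)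
    have hPle : D.parabolicSubgroup F {j | j ≠ i₀} ≤ Mg ⊔ D.diagonalSubgroup F := by
      unfold ChevalleyDatum.parabolicSubgroup ChevalleyDatum.borelSubgroup
      apply sup_le
      · apply sup_le
        · exact le_sup_of_le_left le_sup_left
        · exact le_sup_right
      · rw [Subgroup.closure_le]
        rintro x ⟨j, hjJ, hj, hx⟩
        apply (le_sup_left : Mg ≤ Mg ⊔ D.diagonalSubgroup F)
        rw [hMg']
        apply wordMat_mem_closure hG1 _ (D.nWord (D.simple j) (1 : F)) _ hx
        intro p hp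
        unfold ChevalleyDatum.nWord at hp
        simp only [List.mem_cons, List.not_mem_nil, or_false] at hp
        rcases hp with rfl | rfl | rfl
        · exact Or.inl (hsimple_pos j hj)
        · exact Or.inr ⟨j, hj, hjJ, rfl⟩
        · exact Or.inl (hsimple_pos j hj)
    have hmul := Subgroup.coe_mul_of_right_le_normalizer_left Mg (D.diagonalSubgroup F) hHMg
    obtain ⟨m, hm, h₂, hh₂, rfl⟩ : g ∈ (Mg : Set (GL D.Idx F)) * (D.diagonalSubgroup F : Set (GL D.Idx F)) := by
      rw [← hmul]; exact hPle hgP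
    -- the factor in `H` centralises `T`
    have hh₂T : h₂ * T = T * h₂ := by
      have hmT : m * T = T * m := hZ m hm 1
      calc h₂ * T = m⁻¹ * (m * h₂ * T) := by group
        _ = m⁻¹ * (T * (m * h₂)) := by rw [hgt]
        _ = m⁻¹ * (T * m) * h₂ := by group
        _ = m⁻¹ * (m * T) * h₂ := by rw [hmT]
        _ = T * h₂ := by group
    apply mul_mem hm
    rw [← torusHom_range hG1] at hh₂
    obtain ⟨c, rfl⟩ := hh₂
    rw [torusHom_apply] at hh₂T ⊢
    have hcne : ∀ i < D.rank, extc D.rank c i ≠ 0 := fun i _ => extc_ne_zero c i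
    have hmat := tMat_mul_x hG2 (extc D.rank c) hcne hr₀ (1 : F)
    set π : F := ((List.range D.rank).map (fun i => extc D.rank c i ^ D.cartan i r₀)).prod with hπ
    have hx1 : xGL hG1 hr₀ (π * 1) = xGL hG1 hr₀ 1 := by
      have e2 : (tGL c : GL D.Idx F) * T = xGL hG1 hr₀ (π * 1) * tGL c := by
        apply Units.ext
        rw [Units.val_mul, Units.val_mul, tGL_coe, hT1, xGL_coe, xGL_coe]
        exact hmat
      have e3 : xGL hG1 hr₀ (π * 1) * tGL c = T * tGL c := by rw [← e2, hh₂T]
      exact mul_right_cancel e3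
    have hπ1 : π = 1 := by
      have := xGL_injective hG2 hT h8 hr₀ hx1
      rwa [mul_one] at this
    have hπc : π = extc D.rank c i₀ := by
      rw [hπ]
      have : (List.range D.rank).map (fun i => extc D.rank c i ^ D.cartan i r₀) =
          (List.range D.rank).map (fun i => if i = i₀ then extc D.rank c i₀ else 1) := by
        apply List.map_congr_left
        intro i hi
        rw [hcart i (List.mem_range.mp hi)]
        by_cases h : i = i₀
        · rw [if_pos h, if_pos h, zpow_one, h]
        · rw [if_neg h, if_neg h, zpow_zero]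
      rw [this, list_range_prod_eq, Finset.prod_eq_single ⟨i₀, hi₀⟩]
      · rw [if_pos rfl]
      · intro b _ hb
        rw [if_neg]
        intro h
        exact hb (Fin.ext h)
      · intro h
        exact absurd (Finset.mem_univ _) h
    have hc0 : extc D.rank c i₀ = 1 := by rw [← hπc, hπ1]
    set L' := (List.range D.rank).erase i₀ with hL'
    have hL'lt : ∀ i ∈ L', i < D.rank := fun i hi => List.mem_range.mp (List.mem_of_mem_erase hi)
    have hL'ne : ∀ i ∈ L', i ≠ i₀ := by
      intro i hi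
      exact ((List.Nodup.mem_erase_iff List.nodup_range).mp hi).1
    have hprod : (tGL c : GL D.Idx F) = (L'.map (hS hG1 (extu D.rank c))).prod := by
      apply Units.ext
      rw [tGL_coe, prod_hS_coe hG1 _ _ hL'lt]
      unfold tMat
      congr 1
      have hperm : (List.range D.rank).Perm (i₀ :: L') :=
        List.perm_cons_erase (List.mem_range.mpr hi₀)
      have hfun : (fun i => ((extu D.rank c i : Fˣ) : F)) = extc D.rank c := by
        funext i; exact extu_coe c i
      rw [hfun, tEntry_perm hperm]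
      funext v
      rcases v with j | s
      · rfl
      · simp only [tEntry, Sum.elim_inr, List.map_cons, List.prod_cons]
        rw [hc0, _root_.one_zpow, one_mul]
    rw [hprod]
    apply Subgroup.list_prod_mem
    intro x hx
    rw [List.mem_map] at hx
    obtain ⟨i, hi, rfl⟩ := hx
    rw [hMg']
    apply wordMat_mem_closure hG1 _ (D.hWord (D.simple i) ((extu D.rank c i : Fˣ) : F)) _
      (hS_coe hG1 _ (hL'lt i hi))
    intro p hp
    unfold ChevalleyDatum.hWord ChevalleyDatum.nWord at hp
    simp only [List.mem_append, List.mem_cons, List.not_mem_nil, or_false] at hp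
    rcases hp with (rfl | rfl | rfl) | (rfl | rfl | rfl)
    · exact Or.inl (hsimple_pos i (hL'lt i hi))
    · exact Or.inr ⟨i, hL'lt i hi, hL'ne i hi, rfl⟩
    · exact Or.inl (hsimple_pos i (hL'lt i hi))
    · exact Or.inl (hsimple_pos i (hL'lt i hi))
    · exact Or.inr ⟨i, hL'lt i hi, hL'ne i hi, rfl⟩
    · exact Or.inl (hsimple_pos i (hL'lt i hi))
  · -- the easy inclusion
    intro g hg
    refine Subgroup.mem_inf.mpr ⟨hMgG hg, ?_⟩
    rw [Subgroup.mem_centralizer_iff]
    intro x hx
    rw [Set.mem_singleton_iff] at hx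
    rw [hx, htx]
    exact (hZ g hg 1).symm

end main

end Cfsg.Agent.Helper7.Chev
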