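import Mathlib
import Cfsg.Agent.Helper7.ChevCardH
import Cfsg.Agent.Helper7.ChevGood1

set_option autoImplicit false
set_option maxRecDepth 100000

/-! Table facts for the order of the diagonal subgroup: root coordinates and Smith normal forms of the Cartan matrices. -/

namespace Cfsg.Agent.Helper7.Chev

open Cfsg Cfsg.Lie

/-- Look up an entry of an integer table. -/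
def tabZ (T : Array (Array ℤ)) : ℕ → ℕ → ℤ := fun i j => (T.getD i #[]).getD j 0

def t17R_G2 : Array (Array ℤ) := #[#[-3, -3, -2, -1, -1, 0, 0, 1, 1, 2, 3, 3], #[-2, -1, -1, -1, 0, -1, 1, 0, 1, 1, 1, 2]]
def t17P_G2 : Array (Array ℤ) := #[#[0, -1], #[1, 2]]
def t17Q_G2 : Array (Array ℤ) := #[#[1, 2], #[0, 1]]
def t17P'_G2 : Array (Array ℤ) := #[#[2, 1], #[-1, 0]]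
def t17Q'_G2 : Array (Array ℤ) := #[#[1, -2], #[0, 1]]
def t17d_G2 : ℕ → ℕ := fun i => [1, 1].getD i 1
theorem T17_G2 : T17 chevG2 (tabZ t17R_G2) (tabZ t17P_G2) (tabZ t17Q_G2) (tabZ t17P'_G2) (tabZ t17Q'_G2) t17d_G2 := by decide

def t17R_B2 : Array (Array ℤ) := #[#[-2, -1, -1, 0, 0, 1, 1, 2], #[-1, -1, 0, -1, 1, 0, 1, 1]]
def t17P_B2 : Array (Array ℤ) := #[#[0, -1], #[1, 2]]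
def t17Q_B2 : Array (Array ℤ) := #[#[1, 2], #[0, 1]]
def t17P'_B2 : Array (Array ℤ) := #[#[2, 1], #[-1, 0]]
def t17Q'_B2 : Array (Array ℤ) := #[#[1, -2], #[0, 1]]
def t17d_B2 : ℕ → ℕ := fun i => [1, 2].getD i 1
theorem T17_B2 : T17 chevB2 (tabZ t17R_B2) (tabZ t17P_B2) (tabZ t17Q_B2) (tabZ t17P'_B2) (tabZ t17Q'_B2) t17d_B2 := by decide

def t17R_D4 : Array (Array ℤ) := #[#[-1, -1, -1, -1, -1, -1, 0, 0, 0, 0, 0, 0, 0, 0, 0, 0, 0, 0, 1, 1, 1, 1, 1, 1], #[-2, -1, -1, -1, -1, 0, -1, -1, -1, -1, 0, 0, 0, 0, 1, 1, 1, 1, 0, 1, 1, 1, 1, 2], #[-1, -1, -1, 0, 0, 0, -1, -1, 0, 0, -1, 0, 0, 1, 0, 0, 1, 1, 0, 0, 0, 1, 1, 1], #[-1, -1, 0, -1, 0, 0, -1, 0, -1, 0, 0, -1, 1, 0, 0, 1, 0, 1, 0, 0, 1, 0, 1, 1]]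
def t17P_D4 : Array (Array ℤ) := #[#[-1, 0, 0, 0], #[-2, -1, 0, 0], #[-3, -2, -1, 0], #[2, 2, 1, 1]]
def t17Q_D4 : Array (Array ℤ) := #[#[0, 0, 0, 1], #[1, 0, 0, 2], #[0, 1, -1, 1], #[0, 0, 1, 2]]
def t17P'_D4 : Array (Array ℤ) := #[#[-1, 0, 0, 0], #[2, -1, 0, 0], #[-1, 2, -1, 0], #[-1, 0, 1, 1]]
def t17Q'_D4 : Array (Array ℤ) := #[#[-2, 1, 0, 0], #[-3, 0, 1, 1], #[-2, 0, 0, 1], #[1, 0, 0, 0]]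
def t17d_D4 : ℕ → ℕ := fun i => [1, 1, 2, 2].getD i 1
theorem T17_D4 : T17 chevD4 (tabZ t17R_D4) (tabZ t17P_D4) (tabZ t17Q_D4) (tabZ t17P'_D4) (tabZ t17Q'_D4) t17d_D4 := by decide

def t17R_F4 : Array (Array ℤ) := #[#[-2, -2, -2, -2, -2, -2, -2, -1, -1, -1, -1, -1, -1, -1, -1, 0, 0, 0, 0, 0, 0, 0, 0, 0, 0, 0, 0, 0, 0, 0, 0, 0, 0, 1, 1, 1, 1, 1, 1, 1, 1, 2, 2, 2, 2, 2, 2, 2], #[-4, -4, -4, -3, -2, -2, -2, -3, -2, -2, -2, -1, -1, -1, 0, -2, -2, -2, -1, -1, -1, 0, 0, 0, 0, 0, 0, 1, 1, 1, 2, 2, 2, 0, 1, 1, 1, 2, 2, 2, 3, 2, 2, 2, 3, 4, 4, 4], #[-3, -3, -2, -2, -2, -1, -1, -2, -2, -1, -1, -1, -1, 0, 0, -2, -1, -1, -1, -1, 0, -1, -1, 0, 0, 1, 1, 0, 1, 1, 1, 1, 2, 0, 0, 1, 1, 1, 1, 2, 2, 1, 1, 2, 2, 2,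 3, 3], #[-2, -1, -1, -1, -1, -1, 0, -1, -1, -1, 0, -1, 0, 0, 0, -1, -1, 0, -1, 0, 0, -1, 0, -1, 1, 0, 1, 0, 0, 1, 0, 1, 1, 0, 0, 0, 1, 0, 1, 1, 1, 0, 1, 1, 1, 1, 1, 2]]
def t17P_F4 : Array (Array ℤ) := #[#[-1, 0, 0, 0], #[1, 0, -1, 0], #[-2, -1, 0, 0], #[-2, -2, -2, -1]]
def t17Q_F4 : Array (Array ℤ) := #[#[0, 0, 1, -2], #[1, 0, 2, -4], #[0, 0, 2, -3], #[0, 1, 2, -2]]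
def t17P'_F4 : Array (Array ℤ) := #[#[-1, 0, 0, 0], #[2, 0, -1, 0], #[-1, -1, 0, 0], #[0, 2, 2, -1]]
def t17Q'_F4 : Array (Array ℤ) := #[#[-2, 1, 0, 0], #[2, 0, -2, 1], #[-3, 0, 2, 0], #[-2, 0, 1, 0]]
def t17d_F4 : ℕ → ℕ := fun i => [1, 1, 1, 1].getD i 1
theorem T17_F4 : T17 chevF4 (tabZ t17R_F4) (tabZ t17P_F4) (tabZ t17Q_F4) (tabZ t17P'_F4) (tabZ t17Q'_F4) t17d_F4 := by decide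

def t17R_E6 : Array (Array ℤ) := #[#[-1, -1, -1, -1, -1, -1, -1, -1, -1, -1, -1, -1, -1, -1, -1, -1, 0, 0, 0, 0, 0, 0, 0, 0, 0, 0, 0, 0, 0, 0, 0, 0, 0, 0, 0, 0, 0, 0, 0, 0, 0, 0, 0, 0, 0, 0, 0, 0, 0, 0, 0, 0, 0, 0, 0, 0, 1, 1, 1, 1, 1, 1, 1, 1, 1, 1, 1, 1, 1, 1, 1, 1], #[-2, -1, -1, -1, -1, -1, -1, -1, -1, -1, -1, 0, 0, 0, 0, 0, -1, -1, -1, -1, -1, -1, -1, -1, -1, -1, 0, 0, 0, 0, 0, 0, 0, 0, 0, 0, 0, 0, 0, 0, 0, 0, 0, 0, 0, 0, 1, 1, 1, 1, 1, 1, 1, 1, 1, 1, 0, 0, 0, 0, 0, 1, 1, 1, 1, 1, 1, 1, 1, 1, 1, 2], #[-2, -2, -2, -2, -2, -1, -1, -1, -1, -1, -1, -1, -1, -1, -1, 0, -1, -1, -1, -1, -1, -1, 0, 0, 0, 0, -1, -1, -1, -1, 0, 0, 0, 0, 0, 0, 0, 0, 0, 0, 0, 0, 1, 1, 1, 1, 0, 0, 0, 0, 1, 1, 1, 1, 1,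 1, 0, 1, 1, 1, 1, 1, 1, 1, 1, 1, 1, 2, 2, 2, 2, 2], #[-3, -3, -2, -2, -2, -2, -2, -2, -1, -1, -1, -1, -1, -1, 0, 0, -2, -2, -2, -1, -1, -1, -1, -1, -1, 0, -1, -1, -1, 0, -1, -1, -1, 0, 0, 0, 0, 0, 0, 1, 1, 1, 0, 1, 1, 1, 0, 1, 1, 1, 1, 1, 1, 2, 2, 2, 0, 0, 1, 1, 1, 1, 1, 1, 2, 2, 2, 2, 2, 2, 3, 3], #[-2, -2, -2, -1, -1, -2, -1, -1, -1, -1, 0, -1, -1, 0, 0, 0, -2, -1, -1, -1, -1, 0, -1, -1, 0, 0, -1, -1, 0, 0, -1, -1, 0, -1, -1, 0, 0, 1, 1, 0, 1, 1, 0, 0, 1, 1, 0, 0, 1, 1, 0, 1, 1, 1, 1, 2, 0, 0, 0, 1, 1, 0, 1, 1, 1, 1, 2, 1, 1, 2, 2, 2], #[-1, -1, -1, -1, 0, -1, -1, 0, -1, 0, 0, -1, 0, 0, 0, 0, -1, -1, 0, -1, 0, 0, -1, 0, 0, 0, -1, 0, 0, 0, -1, 0, 0, -1, 0, -1, 1, 0, 1, 0, 0, 1, 0, 0, 0, 1, 0,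 0, 0, 1, 0, 0, 1, 0, 1, 1, 0, 0, 0, 0, 1, 0, 0, 1, 0, 1, 1, 0, 1, 1, 1, 1]]
def t17P_E6 : Array (Array ℤ) := #[#[-1, 0, 0, 0, 0, 0], #[0, -1, 0, 0, 0, 0], #[1, -2, 0, -1, 0, 0], #[2, -3, 0, -2, -1, 0], #[-2, 1, -1, 0, 0, 0], #[-5, 0, -4, -3, -2, -1]]
def t17Q_E6 : Array (Array ℤ) := #[#[0, 0, 0, 0, 1, -2], #[0, 0, 0, 0, 2, -3], #[1, 0, 0, 0, 2, -4], #[0, 1, 0, 0, 4, -6], #[0, 0, 1, 0, 4, -5], #[0, 0, 0, 1, 4, -4]]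
def t17P'_E6 : Array (Array ℤ) := #[#[-1, 0, 0, 0, 0, 0], #[0, -1, 0, 0, 0, 0], #[2, -1, 0, 0, -1, 0], #[-1, 2, -1, 0, 0, 0], #[0, -1, 2, -1, 0, 0], #[0, 0, -1, 2, 4, -1]]
def t17Q'_E6 : Array (Array ℤ) := #[#[-2, 0, 1, 0, 0, 0], #[0, -2, 0, 1, 0, 0], #[2, -3, 0, 0, 1, 0], #[4, -4, 0, 0, 0, 1], #[-3, 2, 0, 0, 0, 0], #[-2, 1, 0, 0, 0, 0]]
def t17d_E6 : ℕ → ℕ := fun i => [1, 1, 1, 1, 1, 3].getD i 1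
theorem T17_E6 : T17 chevE6 (tabZ t17R_E6) (tabZ t17P_E6) (tabZ t17Q_E6) (tabZ t17P'_E6) (tabZ t17Q'_E6) t17d_E6 := by decide

def t17R_E7 : Array (Array ℤ) := #[#[-2, -1, -1, -1, -1, -1, -1, -1, -1, -1, -1, -1, -1, -1, -1, -1, -1, -1, -1, -1, -1, -1, -1, -1, -1, -1, -1, -1, -1, -1, -1, -1, -1, 0, 0, 0, 0, 0, 0, 0, 0, 0, 0, 0, 0, 0, 0, 0, 0, 0, 0, 0, 0, 0, 0, 0, 0, 0, 0, 0, 0, 0, 0, 0, 0, 0, 0, 0, 0, 0, 0, 0, 0, 0, 0, 0, 0, 0, 0, 0, 0, 0, 0, 0, 0, 0, 0, 0, 0, 0, 0, 0, 0, 1, 1, 1, 1, 1, 1, 1, 1, 1, 1, 1, 1, 1, 1, 1, 1, 1, 1, 1, 1, 1, 1, 1, 1, 1, 1, 1, 1, 1, 1, 1, 1, 2], #[-2, -2, -2, -2, -2, -2, -2, -1, -1, -1, -1, -1, -1, -1, -1, -1, -1, -1, -1, -1, -1, -1, -1, -1, -1, -1, -1, 0, 0, 0, 0, 0, 0,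 -1, -1, -1, -1, -1, -1, -1, -1, -1, -1, -1, -1, -1, -1, -1, 0, 0, 0, 0, 0, 0, 0, 0, 0, 0, 0, 0, 0, 0, 0, 0, 0, 0, 0, 0, 0, 0, 0, 0, 0, 0, 0, 0, 0, 0, 1, 1, 1, 1, 1, 1, 1, 1, 1, 1, 1, 1, 1, 1, 1, 0, 0, 0, 0, 0, 0, 1, 1, 1, 1, 1, 1, 1, 1, 1, 1, 1, 1, 1, 1, 1, 1, 1, 1, 1, 1, 2, 2, 2, 2, 2, 2, 2], #[-3, -3, -2, -2, -2, -2, -2, -2, -2, -2, -2, -2, -2, -2, -2, -2, -2, -1, -1, -1, -1, -1, -1, -1, -1, -1, -1, -1, -1, -1, -1, -1, 0, -1, -1, -1, -1, -1, -1, -1, -1, -1, -1, 0, 0, 0, 0, 0, -1, -1, -1, -1, -1, 0, 0, 0, 0, 0, 0, 0, 0, 0, 0, 0, 0, 0, 0, 0, 0, 0, 0, 0, 0, 1, 1, 1, 1, 1, 0, 0, 0, 0, 0, 1, 1, 1, 1, 1, 1, 1, 1, 1, 1, 0, 1, 1, 1, 1, 1, 1, 1, 1, 1, 1, 1, 1, 1, 1, 1, 2, 2, 2, 2, 2, 2, 2, 2, 2, 2, 2,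 2, 2, 2, 2, 3, 3], #[-4, -4, -4, -3, -3, -3, -3, -3, -3, -3, -3, -2, -2, -2, -2, -2, -2, -2, -2, -2, -2, -2, -2, -1, -1, -1, -1, -1, -1, -1, -1, 0, 0, -2, -2, -2, -2, -2, -2, -1, -1, -1, -1, -1, -1, -1, -1, 0, -1, -1, -1, -1, 0, -1, -1, -1, -1, 0, 0, 0, 0, 0, 0, 0, 0, 0, 0, 0, 0, 1, 1, 1, 1, 0, 1, 1, 1, 1, 0, 1, 1, 1, 1, 1, 1, 1, 1, 2, 2, 2, 2, 2, 2, 0, 0, 1, 1, 1, 1, 1, 1, 1, 1, 2, 2, 2, 2, 2, 2, 2, 2, 2, 2, 2, 2, 3, 3, 3, 3, 3, 3, 3, 3, 4, 4, 4], #[-3, -3, -3, -3, -2, -2, -2, -3, -2, -2, -2, -2, -2, -2, -1, -1, -1, -2, -2, -2, -1, -1, -1, -1, -1, -1, 0, -1, -1, -1, 0, 0, 0, -2, -2, -2, -1, -1, -1, -1, -1, -1, 0, -1, -1, -1, 0, 0, -1, -1, -1, 0, 0, -1, -1, -1, 0, -1, -1, -1, 0, 0, 0, 0, 0, 0,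 1, 1, 1, 0, 1, 1, 1, 0, 0, 1, 1, 1, 0, 0, 1, 1, 1, 0, 1, 1, 1, 1, 1, 1, 2, 2, 2, 0, 0, 0, 1, 1, 1, 0, 1, 1, 1, 1, 1, 1, 2, 2, 2, 1, 1, 1, 2, 2, 2, 2, 2, 2, 3, 2, 2, 2, 3, 3, 3, 3], #[-2, -2, -2, -2, -2, -1, -1, -2, -2, -1, -1, -2, -1, -1, -1, -1, 0, -2, -1, -1, -1, -1, 0, -1, -1, 0, 0, -1, -1, 0, 0, 0, 0, -2, -1, -1, -1, -1, 0, -1, -1, 0, 0, -1, -1, 0, 0, 0, -1, -1, 0, 0, 0, -1, -1, 0, 0, -1, -1, 0, -1, -1, 0, 0, 1, 1, 0, 1, 1, 0, 0, 1, 1, 0, 0, 0, 1, 1, 0, 0, 0, 1, 1, 0, 0, 1, 1, 0, 1, 1, 1, 1, 2, 0, 0, 0, 0, 1, 1, 0, 0, 1, 1, 0, 1, 1, 1, 1, 2, 0, 1, 1, 1, 1, 2, 1, 1, 2, 2, 1, 1, 2, 2, 2, 2, 2], #[-1, -1, -1, -1, -1, -1, 0, -1, -1, -1, 0, -1, -1, 0, -1, 0, 0, -1, -1, 0, -1, 0, 0, -1, 0, 0, 0,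 -1, 0, 0, 0, 0, 0, -1, -1, 0, -1, 0, 0, -1, 0, 0, 0, -1, 0, 0, 0, 0, -1, 0, 0, 0, 0, -1, 0, 0, 0, -1, 0, 0, -1, 0, -1, 1, 0, 1, 0, 0, 1, 0, 0, 0, 1, 0, 0, 0, 0, 1, 0, 0, 0, 0, 1, 0, 0, 0, 1, 0, 0, 1, 0, 1, 1, 0, 0, 0, 0, 0, 1, 0, 0, 0, 1, 0, 0, 1, 0, 1, 1, 0, 0, 1, 0, 1, 1, 0, 1, 1, 1, 0, 1, 1, 1, 1, 1, 1]]
def t17P_E7 : Array (Array ℤ) := #[#[-1, 0, 0, 0, 0, 0, 0], #[0, -1, 0, 0, 0, 0, 0], #[1, -2, 0, -1, 0, 0, 0], #[2, -3, 0, -2, -1, 0, 0], #[3, -4, 0, -3, -2, -1, 0], #[-2, 1, -1, 0, 0, 0, 0], #[-4, -1, -4, -4, -3, -2, -1]]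
def t17Q_E7 : Array (Array ℤ) := #[#[0, 0, 0, 0, 0, 1, -2], #[0, 0, 0, 0, 0, 2, -3], #[1, 0, 0, 0, 0, 2, -4], #[0, 1, 0, 0, 0, 4, -6], #[0, 0, 1, 0, 0, 4, -5], #[0, 0, 0, 1, 0, 4, -4], #[0, 0, 0, 0, 1, 4, -3]]
def t17P'_E7 : Array (Array ℤ) := #[#[-1, 0, 0, 0, 0, 0, 0], #[0, -1, 0, 0, 0, 0, 0], #[2, -1, 0, 0, 0, -1, 0], #[-1, 2, -1, 0, 0, 0, 0], #[0, -1, 2, -1, 0, 0, 0], #[0, 0, -1, 2, -1, 0, 0], #[0, 0, 0, -1, 2, 4, -1]]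
def t17Q'_E7 : Array (Array ℤ) := #[#[-2, 0, 1, 0, 0, 0, 0], #[0, -2, 0, 1, 0, 0, 0], #[2, -3, 0, 0, 1, 0, 0], #[4, -4, 0, 0, 0, 1, 0], #[6, -5, 0, 0, 0, 0, 1], #[-3, 2, 0, 0, 0, 0, 0], #[-2, 1, 0, 0, 0, 0, 0]]
def t17d_E7 : ℕ → ℕ := fun i => [1, 1, 1, 1, 1, 1, 2].getD i 1
theorem T17_E7 : T17 chevE7 (tabZ t17R_E7) (tabZ t17P_E7) (tabZ t17Q_E7) (tabZ t17P'_E7) (tabZ t17Q'_E7) t17d_E7 := by decide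

def t17R_E8 : Array (Array ℤ) := #[#[-2, -2, -2, -2, -2, -2, -2, -2, -2, -2, -2, -2, -2, -2, -1, -1, -1, -1, -1, -1, -1, -1, -1, -1, -1, -1, -1, -1, -1, -1, -1, -1, -1, -1, -1, -1, -1, -1, -1, -1, -1, -1, -1, -1, -1, -1, -1, -1, -1, -1, -1, -1, -1, -1, -1, -1, -1, -1, -1, -1, -1, -1, -1, -1, -1, -1, -1, -1, -1, -1, -1, -1, -1, -1, -1, -1, -1, -1, 0, 0, 0, 0, 0, 0, 0, 0, 0, 0, 0, 0, 0, 0, 0, 0, 0, 0, 0, 0, 0, 0, 0, 0, 0, 0, 0, 0, 0, 0, 0, 0, 0, 0, 0, 0, 0, 0, 0, 0, 0, 0, 0, 0, 0, 0, 0, 0, 0, 0, 0, 0, 0, 0, 0, 0, 0, 0, 0, 0, 0, 0, 0, 0, 0, 0, 0, 0, 0, 0, 0, 0, 0, 0, 0, 0, 0, 0, 0, 0, 0, 0, 0, 0, 1, 1, 1, 1, 1, 1, 1, 1, 1, 1, 1, 1, 1, 1, 1, 1, 1, 1, 1, 1, 1, 1, 1, 1, 1, 1, 1, 1, 1, 1, 1, 1, 1, 1,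 1, 1, 1, 1, 1, 1, 1, 1, 1, 1, 1, 1, 1, 1, 1, 1, 1, 1, 1, 1, 1, 1, 1, 1, 1, 1, 1, 1, 1, 1, 2, 2, 2, 2, 2, 2, 2, 2, 2, 2, 2, 2, 2, 2], #[-3, -3, -3, -3, -3, -3, -3, -2, -2, -2, -2, -2, -2, -2, -3, -2, -2, -2, -2, -2, -2, -2, -2, -2, -2, -2, -2, -2, -2, -2, -2, -2, -2, -2, -2, -2, -1, -1, -1, -1, -1, -1, -1, -1, -1, -1, -1, -1, -1, -1, -1, -1, -1, -1, -1, -1, -1, -1, -1, -1, -1, -1, -1, -1, -1, -1, -1, -1, -1, -1, -1, 0, 0, 0, 0, 0, 0, 0, -1, -1, -1, -1, -1, -1, -1, -1, -1, -1, -1, -1, -1, -1, -1, -1, -1, -1, -1, -1, -1, 0, 0, 0, 0, 0, 0, 0, 0, 0, 0, 0, 0, 0, 0, 0, 0, 0, 0, 0, 0, 0, 0, 0, 0, 0, 0, 0, 0, 0, 0, 0, 0, 0, 0, 0, 0, 0, 0, 0, 0, 0, 0, 1, 1, 1, 1, 1, 1, 1, 1, 1, 1, 1, 1, 1, 1, 1, 1, 1, 1,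 1, 1, 1, 0, 0, 0, 0, 0, 0, 0, 1, 1, 1, 1, 1, 1, 1, 1, 1, 1, 1, 1, 1, 1, 1, 1, 1, 1, 1, 1, 1, 1, 1, 1, 1, 1, 1, 1, 1, 1, 1, 1, 1, 1, 1, 2, 2, 2, 2, 2, 2, 2, 2, 2, 2, 2, 2, 2, 2, 2, 2, 2, 2, 2, 2, 2, 3, 2, 2, 2, 2, 2, 2, 2, 3, 3, 3, 3, 3, 3, 3], #[-4, -4, -4, -4, -4, -4, -3, -4, -3, -3, -3, -3, -3, -3, -3, -3, -3, -3, -3, -3, -3, -2, -2, -2, -2, -2, -2, -2, -2, -2, -2, -2, -2, -2, -2, -2, -2, -2, -2, -2, -2, -2, -2, -2, -2, -2, -2, -2, -2, -2, -2, -2, -2, -2, -2, -2, -1, -1, -1, -1, -1, -1, -1, -1, -1, -1, -1, -1, -1, -1, -1, -1, -1, -1, -1, -1, -1, 0, -1, -1, -1, -1, -1, -1, -1, -1, -1, -1, -1, -1, -1, -1, -1, 0, 0, 0, 0, 0, 0, -1, -1, -1, -1, -1, -1, 0, 0, 0, 0, 0, 0, 0, 0, 0, 0, 0, 0, 0, 0, 0,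 0, 0, 0, 0, 0, 0, 0, 0, 0, 0, 0, 0, 0, 0, 0, 1, 1, 1, 1, 1, 1, 0, 0, 0, 0, 0, 0, 1, 1, 1, 1, 1, 1, 1, 1, 1, 1, 1, 1, 1, 1, 1, 0, 1, 1, 1, 1, 1, 1, 1, 1, 1, 1, 1, 1, 1, 1, 1, 1, 1, 1, 1, 1, 1, 2, 2, 2, 2, 2, 2, 2, 2, 2, 2, 2, 2, 2, 2, 2, 2, 2, 2, 2, 2, 2, 2, 2, 2, 2, 2, 2, 2, 2, 2, 2, 2, 2, 2, 2, 3, 3, 3, 3, 3, 3, 3, 3, 3, 3, 3, 3, 3, 4, 3, 4, 4, 4, 4, 4, 4], #[-6, -6, -6, -6, -6, -5, -5, -5, -5, -4, -4, -4, -4, -4, -5, -5, -4, -4, -4, -4, -4, -4, -4, -4, -4, -4, -3, -3, -3, -3, -3, -3, -3, -3, -3, -3, -3, -3, -3, -3, -3, -3, -3, -3, -3, -3, -2, -2, -2, -2, -2, -2, -2, -2, -2, -2, -2, -2, -2, -2, -2, -2, -2, -2, -2, -2, -1, -1, -1, -1, -1, -1, -1, -1, -1, -1, 0, 0, -2, -2, -2, -2, -2, -2, -2, -2,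 -2, -2, -1, -1, -1, -1, -1, -1, -1, -1, -1, -1, 0, -1, -1, -1, -1, -1, 0, -1, -1, -1, -1, -1, 0, 0, 0, 0, 0, 0, 0, 0, 0, 0, 0, 0, 0, 0, 0, 0, 0, 0, 0, 0, 1, 1, 1, 1, 1, 0, 1, 1, 1, 1, 1, 0, 1, 1, 1, 1, 1, 1, 1, 1, 1, 1, 2, 2, 2, 2, 2, 2, 2, 2, 2, 2, 0, 0, 1, 1, 1, 1, 1, 1, 1, 1, 1, 1, 2, 2, 2, 2, 2, 2, 2, 2, 2, 2, 2, 2, 2, 2, 2, 2, 2, 2, 2, 2, 3, 3, 3, 3, 3, 3, 3, 3, 3, 3, 3, 3, 3, 3, 3, 3, 3, 3, 3, 3, 4, 4, 4, 4, 4, 4, 4, 4, 4, 4, 5, 5, 4, 4, 4, 4, 4, 5, 5, 5, 5, 6, 6, 6, 6, 6], #[-5, -5, -5, -5, -4, -4, -4, -4, -4, -4, -3, -3, -3, -3, -4, -4, -4, -3, -3, -3, -3, -4, -3, -3, -3, -3, -3, -3, -3, -3, -2, -2, -2, -2, -2, -2, -3, -3, -3, -3, -2, -2, -2, -2, -2, -2, -2, -2, -2, -2, -2, -2, -1, -1,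 -1, -1, -2, -2, -2, -2, -2, -2, -1, -1, -1, -1, -1, -1, -1, -1, 0, -1, -1, -1, -1, 0, 0, 0, -2, -2, -2, -2, -2, -2, -1, -1, -1, -1, -1, -1, -1, -1, 0, -1, -1, -1, -1, 0, 0, -1, -1, -1, -1, 0, 0, -1, -1, -1, -1, 0, -1, -1, -1, -1, 0, 0, 0, 0, 0, 0, 0, 0, 0, 0, 0, 0, 1, 1, 1, 1, 0, 1, 1, 1, 1, 0, 0, 1, 1, 1, 1, 0, 0, 1, 1, 1, 1, 0, 1, 1, 1, 1, 1, 1, 1, 1, 2, 2, 2, 2, 2, 2, 0, 0, 0, 1, 1, 1, 1, 0, 1, 1, 1, 1, 1, 1, 1, 1, 2, 2, 2, 2, 2, 2, 1, 1, 1, 1, 2, 2, 2, 2, 2, 2, 2, 2, 2, 2, 2, 2, 3, 3, 3, 3, 2, 2, 2, 2, 2, 2, 3, 3, 3, 3, 3, 3, 3, 3, 4, 3, 3, 3, 3, 4, 4, 4, 3, 3, 3, 3, 4, 4, 4, 4, 4, 4, 5, 5, 5, 5], #[-4, -4, -4, -3, -3, -3, -3, -3, -3, -3, -3, -2, -2, -2, -3, -3, -3, -3, -2, -2, -2, -3, -3,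 -2, -2, -2, -3, -2, -2, -2, -2, -2, -2, -1, -1, -1, -3, -2, -2, -2, -2, -2, -2, -1, -1, -1, -2, -2, -2, -1, -1, -1, -1, -1, -1, 0, -2, -2, -2, -1, -1, -1, -1, -1, -1, 0, -1, -1, -1, 0, 0, -1, -1, -1, 0, 0, 0, 0, -2, -2, -2, -1, -1, -1, -1, -1, -1, 0, -1, -1, -1, 0, 0, -1, -1, -1, 0, 0, 0, -1, -1, -1, 0, 0, 0, -1, -1, -1, 0, 0, -1, -1, -1, 0, -1, -1, -1, 0, 0, 0, 0, 0, 0, 1, 1, 1, 0, 1, 1, 1, 0, 0, 1, 1, 1, 0, 0, 0, 1, 1, 1, 0, 0, 0, 1, 1, 1, 0, 0, 1, 1, 1, 0, 1, 1, 1, 1, 1, 1, 2, 2, 2, 0, 0, 0, 0, 1, 1, 1, 0, 0, 1, 1, 1, 0, 1, 1, 1, 1, 1, 1, 2, 2, 2, 0, 1, 1, 1, 1, 1, 1, 2, 2, 2, 1, 1, 1, 2, 2, 2, 2, 2, 2, 3, 1, 1, 1, 2, 2, 2, 2, 2, 2, 3, 2, 2, 2, 3, 3, 2, 2, 2, 3, 3, 3, 3, 2, 2, 2, 3, 3, 3, 3,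 3, 3, 3, 3, 4, 4, 4], #[-3, -3, -2, -2, -2, -2, -2, -2, -2, -2, -2, -2, -1, -1, -2, -2, -2, -2, -2, -1, -1, -2, -2, -2, -1, -1, -2, -2, -1, -1, -2, -1, -1, -1, -1, 0, -2, -2, -1, -1, -2, -1, -1, -1, -1, 0, -2, -1, -1, -1, -1, 0, -1, -1, 0, 0, -2, -1, -1, -1, -1, 0, -1, -1, 0, 0, -1, -1, 0, 0, 0, -1, -1, 0, 0, 0, 0, 0, -2, -1, -1, -1, -1, 0, -1, -1, 0, 0, -1, -1, 0, 0, 0, -1, -1, 0, 0, 0, 0, -1, -1, 0, 0, 0, 0, -1, -1, 0, 0, 0, -1, -1, 0, 0, -1, -1, 0, -1, -1, 0, 0, 1, 1, 0, 1, 1, 0, 0, 1, 1, 0, 0, 0, 1, 1, 0, 0, 0, 0, 1, 1, 0, 0, 0, 0, 1, 1, 0, 0, 0, 1, 1, 0, 0, 1, 1, 0, 1, 1, 1, 1, 2, 0, 0, 0, 0, 0, 1, 1, 0, 0, 0, 1, 1, 0, 0, 1, 1, 0, 1, 1, 1, 1, 2, 0, 0, 1, 1, 0, 1, 1, 1, 1, 2, 0, 1, 1, 1, 1,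 2, 1, 1, 2, 2, 0, 1, 1, 1, 1, 2, 1, 1, 2, 2, 1, 1, 2, 2, 2, 1, 1, 2, 2, 2, 2, 2, 1, 1, 2, 2, 2, 2, 2, 2, 2, 2, 2, 2, 3, 3], #[-2, -1, -1, -1, -1, -1, -1, -1, -1, -1, -1, -1, -1, 0, -1, -1, -1, -1, -1, -1, 0, -1, -1, -1, -1, 0, -1, -1, -1, 0, -1, -1, 0, -1, 0, 0, -1, -1, -1, 0, -1, -1, 0, -1, 0, 0, -1, -1, 0, -1, 0, 0, -1, 0, 0, 0, -1, -1, 0, -1, 0, 0, -1, 0, 0, 0, -1, 0, 0, 0, 0, -1, 0, 0, 0, 0, 0, 0, -1, -1, 0, -1, 0, 0, -1, 0, 0, 0, -1, 0, 0, 0, 0, -1, 0, 0, 0, 0, 0, -1, 0, 0, 0, 0, 0, -1, 0, 0, 0, 0, -1, 0, 0, 0, -1, 0, 0, -1, 0, -1, 1, 0, 1, 0, 0, 1, 0, 0, 0, 1, 0, 0, 0, 0, 1, 0, 0, 0, 0, 0, 1, 0, 0, 0, 0, 0, 1, 0, 0, 0, 0, 1, 0, 0, 0, 1, 0, 0, 1, 0, 1, 1, 0, 0, 0, 0, 0, 0, 1, 0, 0, 0, 0, 1,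 0, 0, 0, 1, 0, 0, 1, 0, 1, 1, 0, 0, 0, 1, 0, 0, 1, 0, 1, 1, 0, 0, 1, 0, 1, 1, 0, 1, 1, 1, 0, 0, 1, 0, 1, 1, 0, 1, 1, 1, 0, 1, 1, 1, 1, 0, 1, 1, 1, 1, 1, 1, 0, 1, 1, 1, 1, 1, 1, 1, 1, 1, 1, 1, 1, 2]]
def t17P_E8 : Array (Array ℤ) := #[#[-1, 0, 0, 0, 0, 0, 0, 0], #[0, -1, 0, 0, 0, 0, 0, 0], #[1, -2, 0, -1, 0, 0, 0, 0], #[2, -3, 0, -2, -1, 0, 0, 0], #[3, -4, 0, -3, -2, -1, 0, 0], #[4, -5, 0, -4, -3, -2, -1, 0], #[-2, 1, -1, 0, 0, 0, 0, 0], #[-3, -2, -4, -5, -4, -3, -2, -1]]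
def t17Q_E8 : Array (Array ℤ) := #[#[0, 0, 0, 0, 0, 0, 1, -2], #[0, 0, 0, 0, 0, 0, 2, -3], #[1, 0, 0, 0, 0, 0, 2, -4], #[0, 1, 0, 0, 0, 0, 4, -6], #[0, 0, 1, 0, 0, 0, 4, -5], #[0, 0, 0, 1, 0, 0, 4, -4], #[0, 0, 0, 0, 1, 0, 4, -3], #[0, 0, 0, 0, 0, 1, 4, -2]]
def t17P'_E8 : Array (Array ℤ) := #[#[-1, 0, 0, 0, 0, 0, 0, 0], #[0, -1, 0, 0, 0, 0, 0, 0], #[2, -1, 0, 0, 0, 0, -1, 0], #[-1, 2, -1, 0, 0, 0, 0, 0], #[0, -1, 2, -1, 0, 0, 0, 0], #[0, 0, -1, 2, -1, 0, 0, 0], #[0, 0, 0, -1, 2, -1, 0, 0], #[0, 0, 0, 0, -1, 2, 4, -1]]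
def t17Q'_E8 : Array (Array ℤ) := #[#[-2, 0, 1, 0, 0, 0, 0, 0], #[0, -2, 0, 1, 0, 0, 0, 0], #[2, -3, 0, 0, 1, 0, 0, 0], #[4, -4, 0, 0, 0, 1, 0, 0], #[6, -5, 0, 0, 0, 0, 1, 0], #[8, -6, 0, 0, 0, 0, 0, 1], #[-3, 2, 0, 0, 0, 0, 0, 0], #[-2, 1, 0, 0, 0, 0, 0, 0]]
def t17d_E8 : ℕ → ℕ := fun i => [1, 1, 1, 1, 1, 1, 1, 1].getD i 1
theorem T17_E8 : T17 chevE8 (tabZ t17R_E8) (tabZ t17P_E8) (tabZ t17Q_E8) (tabZ t17P'_E8) (tabZ t17Q'_E8) t17d_E8 := by decide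

end Cfsg.Agent.Helper7.Chev
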