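import Mathlib
import Cfsg.Agent.Helper7.ChevCharPA
import Cfsg.Agent.Helper7.ChevNorm
import Cfsg.Agent.Helper7.ChevRootCent
import Cfsg.Agent.Helper7.ChevT17

set_option autoImplicit false
set_option linter.unusedSectionVars false
set_option linter.unusedVariables false

/-!
The centraliser of the unipotent radical `U_J` in a proper standard parabolic subgroup `P_J` lies in `U`.
-/

namespace Cfsg.Agent.Helper7.Chev

open Cfsg Cfsg.Lie Matrix
open scoped Pointwise

/-- A subgroup normalising `V` normalises its intersection with the centraliser of `V`. -/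
theorem le_normalizer_inf_centralizer {G : Type*} [Group G] (P V : Subgroup G)
    (hPV : P ≤ Subgroup.normalizer (V : Set G)) :
    P ≤ Subgroup.normalizer ((P ⊓ Subgroup.centralizer (V : Set G) : Subgroup G) : Set G) := by
  have key : ∀ p ∈ P, ∀ c ∈ P ⊓ Subgroup.centralizer (V : Set G),
      p * c * p⁻¹ ∈ P ⊓ Subgroup.centralizer (V : Set G) := by
    intro p hp c hc
    obtain ⟨hcP, hcV⟩ := Subgroup.mem_inf.mp hc
    refine Subgroup.mem_inf.mpr ⟨mul_mem (mul_mem hp hcP) (inv_mem hp), ?_⟩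
    rw [Subgroup.mem_centralizer_iff]
    intro y hy
    have hy' : p⁻¹ * y * p⁻¹⁻¹ ∈ V :=
      (Subgroup.mem_normalizer_iff.mp (hPV (inv_mem hp)) y).mp hy
    have h1 := Subgroup.mem_centralizer_iff.mp hcV _ hy'
    calc y * (p * c * p⁻¹) = p * ((p⁻¹ * y * p⁻¹⁻¹) * c) * p⁻¹ := by group
      _ = p * (c * (p⁻¹ * y * p⁻¹⁻¹)) * p⁻¹ := by rw [h1]
      _ = p * c * p⁻¹ * y := by group
  intro p hp
  rw [Subgroup.mem_normalizer_iff]
  intro c
  constructor
  · intro hc
    exact key p hp c hc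
  · intro hc
    have := key p⁻¹ (inv_mem hp) _ hc
    have e : p⁻¹ * (p * c * p⁻¹) * p⁻¹⁻¹ = c := by group
    rwa [e] at this

variable {D : ChevalleyDatum} {F : Type*} [Field F]

section main

variable (hG : Good2 D) (hT : T0 D) (h3 : (tabOf D).T3) (h4 : (tabOf D).T4 60) (h5 : (tabOf D).T5)
  (h6 : (tabOf D).T6) (h8 : (tabOf D).T8) (h9 : (tabOf D).T9) (h14 : (tabOf D).T14)
  (h26 : (tabOf D).T26) (h27 : (tabOf D).T27) (h28 : (tabOf D).T28)
  {R P Q P' Q' : ℕ → ℕ → ℤ} {d : ℕ → ℕ} (h17 : T17 D R P Q P' Q' d)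

include hG hT in
/-- The root elements of the positive roots lying over a fundamental root outside `J` lie in `U_J`. -/
theorem xGL_mem_rad {J : Set ℕ} {i₀ : ℕ} (hi₀ : i₀ < D.rank) (hi₀J : i₀ ∉ J) {r : ℕ}
    (hr1 : D.nroots / 2 ≤ r) (hr : r < D.nroots) (hcr : (tabOf D).cr r i₀ ≠ 0) (t : F) :
    xGL hG.toGood1 hr t ∈ D.unipotentRadical F J := by
  apply Subgroup.subset_closure
  refine ⟨r, t, (isPosRoot_iff hT hr).mpr hr1, ?_, xGL_coe hG.toGood1 hr t⟩
  intro h
  exact hcr (h.2 i₀ hi₀ hi₀J)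

include hG hT h3 h4 h26 in
/-- The leading term of the conjugate of a positive root element by an element of `U`. -/
theorem unip_conj_xGL {u : GL D.Idx F} (hu : u ∈ D.posUnipotent F) {r : ℕ}
    (hr1 : D.nroots / 2 ≤ r) (hr : r < D.nroots) (a : F) :
    ∃ g' ∈ Uge D F (r + 1), u * xGL hG.toGood1 hr a * u⁻¹ = xGL hG.toGood1 hr a * g' := by
  have hG1 := hG.toGood1
  set x := xGL hG1 hr a with hx
  have hxU : x ∈ Uge D F r := Subgroup.subset_closure ⟨r, a, le_refl _, hr, xGL_coe hG1 hr _⟩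
  have hst := posUnipotent_le_chainStab (F := F) hG hT h3 h4 h26 hr1 hu
  have hc : u * x * u⁻¹ * x⁻¹ ∈ Uge D F (r + 1) := hst.2 x hxU
  have hxn : x⁻¹ ∈ Subgroup.normalizer (Uge D F (r + 1) : Set (GL D.Idx F)) := by
    apply inv_mem
    exact xGL_mem_normalizer_Uge_all hG hT h3 h4 h26 hr1 hr (by omega) _
  refine ⟨x⁻¹ * (u * x * u⁻¹ * x⁻¹) * x⁻¹⁻¹, (Subgroup.mem_normalizer_iff.mp hxn _).mp hc, ?_⟩
  group

include hG hT h3 h4 h5 h6 h8 h9 h14 h26 h27 in
/-- The centraliser of `U_J` in a proper `P_J` lies in `B`. -/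
theorem parabolic_inf_centralizer_rad_le_borel (J : Set ℕ) {i₀ : ℕ} (hi₀ : i₀ < D.rank)
    (hi₀J : i₀ ∉ J) :
    D.parabolicSubgroup F J ⊓ Subgroup.centralizer (D.unipotentRadical F J : Set (GL D.Idx F)) ≤
      D.borelSubgroup F := by
  have hG1 := hG.toGood1
  have hBG : D.borelSubgroup F ≤ D.group F := borelSubgroup_le_group hG1
  have hNG : D.monomialSubgroup F ≤ D.group F := monomialSubgroup_le_group hG1
  have hUB : D.posUnipotent F ≤ D.borelSubgroup F := le_sup_left
  have hPN := parabolic_le_normalizer_rad (F := F) hG hT h3 h4 h6 h14 J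
  have hBP : D.borelSubgroup F ≤ D.parabolicSubgroup F J := le_sup_left
  have hPG : D.parabolicSubgroup F J ≤ D.group F := by
    unfold ChevalleyDatum.parabolicSubgroup
    apply sup_le hBG
    rw [Subgroup.closure_le]
    rintro g ⟨j, _, hj, hg⟩
    apply hNG
    exact Subgroup.mem_sup_right
      (Subgroup.subset_closure ⟨D.simple j, hG1.simple_lt hj, hg⟩)
  set C : Subgroup (GL D.Idx F) :=
    D.parabolicSubgroup F J ⊓ Subgroup.centralizer (D.unipotentRadical F J : Set (GL D.Idx F)) with hC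
  have hCP : C ≤ D.parabolicSubgroup F J := inf_le_left
  have hBC : D.borelSubgroup F ≤ Subgroup.normalizer (C : Set (GL D.Idx F)) :=
    hBP.trans (le_normalizer_inf_centralizer _ _ hPN)
  obtain ⟨P, hPB, hPN', hPS⟩ := exists_bnPair (F := F) hG hT h3 h4 h5 h6 h8 h9
  set M : Subgroup (GL D.Idx F) := C ⊔ D.borelSubgroup F with hM
  have hMG : M ≤ D.group F := sup_le (hCP.trans hPG) hBG
  have hBM : P.B ≤ M.subgroupOf (D.group F) := by
    rw [hPB]
    intro b hb
    rw [Subgroup.mem_subgroupOf] at hb ⊢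
    exact (le_sup_right : D.borelSubgroup F ≤ M) hb
  have hpar := BN.eq_parabolic_of_le P (M.subgroupOf (D.group F)) hBM
  have hempty : P.S ∩ ((M.subgroupOf (D.group F) : Subgroup ↥(D.group F)) : Set ↥(D.group F)) = ∅ := by
    rw [Set.eq_empty_iff_forall_notMem]
    rintro s ⟨hsS, hsM⟩
    rw [hPS] at hsS
    obtain ⟨i, hi, hs⟩ := hsS
    have hs' : (s : GL D.Idx F) = nGL hG1 (hG1.simple_lt hi) :=
      Units.ext (hs.trans (nGL_coe hG1 (hG1.simple_lt hi)).symm)
    have hsM' : (s : GL D.Idx F) ∈ M := hsM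
    have hmul := Subgroup.coe_mul_of_right_le_normalizer_left C (D.borelSubgroup F) hBC
    have hsCB : (s : GL D.Idx F) ∈ (C : Set (GL D.Idx F)) * (D.borelSubgroup F : Set (GL D.Idx F)) := by
      rw [← hmul]; exact hsM'
    obtain ⟨c, hc, b, hb, hcb⟩ := hsCB
    -- the root moved by the reflection
    have h27' := h27 i₀ hi₀ i hi
    beta_reduce at h27'
    rw [List.any_eq_true] at h27'
    obtain ⟨r, hrmem, hrdec⟩ := h27'
    rw [List.mem_range'_1] at hrmem
    have hn : (tabOf D).n = D.nroots := rfl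
    rw [hn] at hrmem
    have hr1 : D.nroots / 2 ≤ r := hrmem.1
    have hr : r < D.nroots := by omega
    obtain ⟨hcr, hrefl⟩ := of_decide_eq_true hrdec
    set y := xGL hG1 hr (1 : F) with hy
    have hyU : y ∈ D.unipotentRadical F J := xGL_mem_rad hG hT hi₀ hi₀J hr1 hr hcr 1
    -- conjugation by `b`
    obtain ⟨χ, hχ, hlead⟩ := borel_conj_xGL (F := F) hG hT h3 h4 h26 hb hr1 hr
    obtain ⟨g', hg', e1⟩ := hlead 1
    rw [← hy] at e1
    have hbyU : b * y * b⁻¹ ∈ D.unipotentRadical F J :=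
      (Subgroup.mem_normalizer_iff.mp (hPN (hBP hb)) y).mp hyU
    have hcy : c * (b * y * b⁻¹) = (b * y * b⁻¹) * c :=
      (Subgroup.mem_centralizer_iff.mp hc.2 _ hbyU).symm
    -- conjugation by `s`
    have hw : ∀ k ∈ [i], k < D.rank := by
      intro k hk
      rw [List.mem_singleton] at hk
      rw [hk]; exact hi
    have hsw : (s : GL D.Idx F) = nWordGL hG [i] := by
      rw [nWordGL_cons hG hi, nWordGL_nil, mul_one]
      exact hs'
    have e2 := nWordGL_conj (F := F) hG hw hr (1 : F)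
    rw [← hsw, ← hy] at e2
    have hsy : (s : GL D.Idx F) * y * (s : GL D.Idx F)⁻¹ = b * y * b⁻¹ := by
      rw [← hcb]
      calc c * b * y * (c * b)⁻¹ = c * (b * y * b⁻¹) * c⁻¹ := by group
        _ = (b * y * b⁻¹) * c * c⁻¹ := by rw [hcy]
        _ = b * y * b⁻¹ := by group
    set r' := (tabOf D).reflWord [i] r with hr'
    have hr'lt : r' < D.nroots := reflWord_lt hG hw hr
    have hr'ne : r' ≠ r := by
      rw [hr', reflWord_cons]
      exact hrefl
    have hη : (((tabOf D).etaWord [i] r : ℤ) : F) * 1 ≠ 0 := by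
      rw [mul_one]
      exact etaWord_cast_ne_zero hG hw hr
    have e3 : xGL hG1 hr'lt ((((tabOf D).etaWord [i] r : ℤ) : F) * 1) = xGL hG1 hr (χ * 1) * g' := by
      rw [← e2, hsy, e1]
    by_cases hpos : D.nroots / 2 ≤ r'
    · exact hη (lead_ne hG hT h8 hr1 hr hpos hr'lt hr'ne (by rw [mul_one]; exact hχ) hg' e3)
    · -- a negative root element in `B`
      have hneg : D.IsNegRoot r' := (isNegRoot_iff hT hr'lt).mpr (by omega)
      have hmemV : xGL hG1 hr'lt ((((tabOf D).etaWord [i] r : ℤ) : F) * 1) ∈ D.negUnipotent F :=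
        Subgroup.subset_closure ⟨r', _, hneg, xGL_coe hG1 hr'lt _⟩
      have hmemB : xGL hG1 hr'lt ((((tabOf D).etaWord [i] r : ℤ) : F) * 1) ∈ D.borelSubgroup F := by
        rw [e3]
        apply hUB
        rw [posUnipotent_eq_Uge hT]
        apply mul_mem
        · exact Subgroup.subset_closure ⟨r, _, hr1, hr, xGL_coe hG1 hr _⟩
        · exact Uge_anti (by omega) hg'
      have h1 : xGL hG1 hr'lt ((((tabOf D).etaWord [i] r : ℤ) : F) * 1) ∈
          D.borelSubgroup F ⊓ D.negUnipotent F := ⟨hmemB, hmemV⟩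
      rw [borel_inf_negUnipotent hG hT, Subgroup.mem_bot, ← xGL_zero hG1 hr'lt] at h1
      exact hη (xGL_injective hG hT h8 hr'lt h1)
  rw [hempty] at hpar
  have hMB : M.subgroupOf (D.group F) = P.B := by
    rw [hpar]
    unfold BNPair.parabolic
    rw [Subgroup.closure_empty, sup_bot_eq]
  intro g hg
  have hgM : g ∈ M := (le_sup_left : C ≤ M) hg
  have hgG : g ∈ D.group F := hMG hgM
  have h1 : (⟨g, hgG⟩ : ↥(D.group F)) ∈ M.subgroupOf (D.group F) := hgM
  rw [hMB, hPB] at h1
  exact h1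

include hG hT h3 h4 h5 h6 h8 h9 h14 h26 h27 h28 h17 in
/-- The centraliser of `U_J` in a proper `P_J` lies in `U`. -/
theorem parabolic_inf_centralizer_rad_le (J : Set ℕ) {i₀ : ℕ} (hi₀ : i₀ < D.rank)
    (hi₀J : i₀ ∉ J) :
    D.parabolicSubgroup F J ⊓ Subgroup.centralizer (D.unipotentRadical F J : Set (GL D.Idx F)) ≤
      D.posUnipotent F := by
  have hG1 := hG.toGood1
  intro g hg
  have hgB := parabolic_inf_centralizer_rad_le_borel hG hT h3 h4 h5 h6 h8 h9 h14 h26 h27 J hi₀ hi₀J hg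
  obtain ⟨u, hu, h, hh, rfl⟩ := borel_decomp hG hgB
  rw [← torusHom_range hG1] at hh
  obtain ⟨c, rfl⟩ := hh
  rw [torusHom_apply] at hg ⊢
  have hcne : ∀ i < D.rank, extc D.rank c i ≠ 0 := fun i _ => extc_ne_zero c i
  -- the characters of the positive roots over `i₀` are trivial on `c`
  have hrad : ∀ r (hr1 : D.nroots / 2 ≤ r) (hr : r < D.nroots), (tabOf D).cr r i₀ ≠ 0 →
      zact (cartanM D) c ⟨r, hr⟩ = 1 := by
    intro r hr1 hr hcr
    set π : F := ((List.range D.rank).map (fun i => extc D.rank c i ^ D.cartan i r)).prod with hπ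
    have hπz : π = ((zact (cartanM D) c ⟨r, hr⟩ : Fˣ) : F) := by
      have := tEntry_extc (D := D) c ⟨r, hr⟩
      simp only [tEntry, Sum.elim_inr] at this
      exact this
    have hmat := tMat_mul_x hG (extc D.rank c) hcne hr (1 : F)
    have e1 : (tGL c : GL D.Idx F) * xGL hG1 hr 1 * (tGL c)⁻¹ = xGL hG1 hr (π * 1) := by
      rw [mul_inv_eq_iff_eq_mul]
      apply Units.ext
      rw [Units.val_mul, Units.val_mul, tGL_coe, xGL_coe, xGL_coe]
      exact hmat
    obtain ⟨g', hg', e2⟩ := unip_conj_xGL (F := F) hG hT h3 h4 h26 hu hr1 hr (π * 1)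
    have hyU : xGL hG1 hr (1 : F) ∈ D.unipotentRadical F J :=
      xGL_mem_rad hG hT hi₀ hi₀J hr1 hr hcr 1
    have hcomm := Subgroup.mem_centralizer_iff.mp hg.2 _ hyU
    have e3 : xGL hG1 hr (1 : F) = xGL hG1 hr (π * 1) * g' := by
      rw [← e2, ← e1]
      calc xGL hG1 hr (1 : F) = xGL hG1 hr 1 * (u * tGL c) * (u * tGL c)⁻¹ := by group
        _ = (u * tGL c) * xGL hG1 hr 1 * (u * tGL c)⁻¹ := by rw [hcomm]
        _ = u * (tGL c * xGL hG1 hr 1 * (tGL c)⁻¹) * u⁻¹ := by group
    have h1 := lead_eq hG hT h8 hr1 hr hg' e3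
    rw [mul_one] at h1
    apply Units.ext
    rw [← hπz, ← h1, Units.val_one]
  -- hence so are those of the fundamental roots
  have hsimple : zact (cartanC D) c = 1 := by
    funext j
    have h28' := h28 i₀ hi₀ j.val j.2
    beta_reduce at h28'
    rw [List.any_eq_true] at h28'
    obtain ⟨r, hrmem, hrdec⟩ := h28'
    rw [List.mem_range'_1] at hrmem
    have hn : (tabOf D).n = D.nroots := rfl
    rw [hn] at hrmem
    have hr1 : D.nroots / 2 ≤ r := hrmem.1
    have hr : r < D.nroots := by omega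
    rw [Bool.and_eq_true, Bool.or_eq_true] at hrdec
    obtain ⟨hcr, hcase⟩ := hrdec
    have hcr' := of_decide_eq_true hcr
    have hZr := hrad r hr1 hr hcr'
    have hsj : D.simple j.val < D.nroots := hG1.simple_lt j.2
    have hgoal : zact (cartanC D) c j = zact (cartanM D) c ⟨D.simple j.val, hsj⟩ := by
      rw [zact_apply, zact_apply]
      rfl
    rw [hgoal, Pi.one_apply]
    rcases hcase with hcase | hcase
    · have hrs : r = D.simple j.val := of_decide_eq_true hcase
      have : (⟨D.simple j.val, hsj⟩ : Fin D.nroots) = ⟨r, hr⟩ := by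
        apply Fin.ext
        exact hrs.symm
      rw [this, hZr]
    · rw [List.any_eq_true] at hcase
      obtain ⟨r', hr'mem, hr'dec⟩ := hcase
      rw [List.mem_range'_1, hn] at hr'mem
      have hr1' : D.nroots / 2 ≤ r' := hr'mem.1
      have hr' : r' < D.nroots := by omega
      rw [Bool.and_eq_true] at hr'dec
      obtain ⟨hcr2, hall⟩ := hr'dec
      have hZr' := hrad r' hr1' hr' (of_decide_eq_true hcr2)
      rw [List.all_eq_true] at hall
      have hadd : ∀ i : Fin D.rank, D.cartan i.val r = D.cartan i.val r' + D.cartan i.val (D.simple j.val) := by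
        intro i
        have hl : (tabOf D).l = D.rank := rfl
        exact of_decide_eq_true (hall i.val (List.mem_range.mpr (by rw [hl]; exact i.2)))
      have hprod : zact (cartanM D) c ⟨r, hr⟩ =
          zact (cartanM D) c ⟨r', hr'⟩ * zact (cartanM D) c ⟨D.simple j.val, hsj⟩ := by
        rw [zact_apply, zact_apply, zact_apply, ← Finset.prod_mul_distrib]
        apply Finset.prod_congr rfl
        intro i _
        rw [← _root_.zpow_add]
        congr 1
        exact hadd i
      rw [hZr, hZr', one_mul] at hprod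
      exact hprod.symm
  have hker : torusHom D F c = 1 := by
    rw [torusHom_ker, zact_cartanM_iff hG1 h17]
    exact hsimple
  rw [torusHom_apply] at hker
  rw [hker, mul_one]
  exact hu

end main

end Cfsg.Agent.Helper7.Chev
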