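import Mathlib
import Cfsg.Agent.Helper7.ChevCodes
import Cfsg.Agent.Helper7.ChevLevi1
import Cfsg.Agent.Helper7.ChevTabG2
import Cfsg.Agent.Helper7.ChevTabB2
import Cfsg.Agent.Helper7.ChevTabD4
import Cfsg.Agent.Helper7.ChevTabF4
import Cfsg.Agent.Helper7.ChevTabE6
import Cfsg.Agent.Helper7.ChevTabE7
import Cfsg.Agent.Helper7.ChevTabE8

set_option autoImplicit false

/-!
Level-14 table facts: the commutator terms of two positive roots.
-/

namespace Cfsg.Agent.Helper7.Chev

open Cfsg Cfsg.Lie

set_option maxRecDepth 1000000 in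
set_option maxHeartbeats 0 in
theorem T14fast_G2 : fastG2.T14 := by decide +kernel

theorem T14_G2 : (tabOf chevG2).T14 := tab_G2 ▸ T14fast_G2

set_option maxRecDepth 1000000 in
set_option maxHeartbeats 0 in
theorem T14fast_B2 : fastB2.T14 := by decide +kernel

theorem T14_B2 : (tabOf chevB2).T14 := tab_B2 ▸ T14fast_B2

set_option maxRecDepth 1000000 in
set_option maxHeartbeats 0 in
theorem T14fast_D4 : fastD4.T14 := by decide +kernel

theorem T14_D4 : (tabOf chevD4).T14 := tab_D4 ▸ T14fast_D4

set_option maxRecDepth 1000000 in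
set_option maxHeartbeats 0 in
theorem T14fast_F4 : fastF4.T14 := by decide +kernel

theorem T14_F4 : (tabOf chevF4).T14 := tab_F4 ▸ T14fast_F4

set_option maxRecDepth 1000000 in
set_option maxHeartbeats 0 in
theorem T14fast_E6 : fastE6.T14 := by decide +kernel

theorem T14_E6 : (tabOf chevE6).T14 := tab_E6 ▸ T14fast_E6

set_option maxRecDepth 1000000 in
set_option maxHeartbeats 0 in
theorem T14fast_E7 : fastE7.T14 := by decide +kernel

theorem T14_E7 : (tabOf chevE7).T14 := tab_E7 ▸ T14fast_E7

set_option maxRecDepth 1000000 in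
set_option maxHeartbeats 0 in
theorem T14fast_E8 : fastE8.T14 := by decide +kernel

theorem T14_E8 : (tabOf chevE8).T14 := tab_E8 ▸ T14fast_E8

/-- The level-14 table facts hold for each of the seven tabulated data. -/
theorem T14_of_mem (D : ChevalleyDatum)
    (hD : D ∈ [chevG2, chevB2, chevD4, chevF4, chevE6, chevE7, chevE8]) : (tabOf D).T14 :=
  chev_cases (p := fun D => (tabOf D).T14) D hD T14_G2 T14_B2 T14_D4 T14_F4 T14_E6 T14_E7 T14_E8

end Cfsg.Agent.Helper7.Chev
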