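import Mathlib
import Cfsg.Agent.Helper7.ChevCharPB
import Cfsg.Agent.Helper7.ChevT14
import Cfsg.Agent.Helper7.ChevT5
import Cfsg.Agent.Helper7.ChevT6
import Cfsg.Agent.Helper7.ChevT9
import Cfsg.Agent.Helper2.CharPLocal

set_option autoImplicit false
set_option linter.unusedSectionVars false
set_option linter.unusedVariables false

/-!
The generalised Fitting subgroup of a proper standard parabolic subgroup of a Chevalley group in characteristic
`p` is a `p`-group.
-/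

namespace Cfsg.Agent.Helper7.Chev

open Cfsg Cfsg.Lie Matrix

/-- A subgroup with a normal `p`-subgroup whose centraliser in it is a `p`-group has characteristic `p`. -/
theorem hasCharP_of_centralizer_isPGroup {G : Type*} [Group G] {p : ℕ} [Fact p.Prime]
    (P V : Subgroup G) (hVP : V ≤ P) (hPV : P ≤ Subgroup.normalizer (V : Set G)) (hV : IsPGroup p ↥V)
    (hC : IsPGroup p ↥(P ⊓ Subgroup.centralizer (V : Set G) : Subgroup G)) :
    Cfsg.Agent.Helper5.HasCharP p ↥P := by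
  set V' : Subgroup ↥P := V.subgroupOf P with hV'
  have hV'n : V'.Normal := by
    refine ⟨fun n hn g => ?_⟩
    rw [hV', Subgroup.mem_subgroupOf] at hn ⊢
    have := (Subgroup.mem_normalizer_iff.mp (hPV g.2) (n : G)).mp hn
    simpa using this
  have hV'p : IsPGroup p ↥V' := hV.comap_subtype
  have hV'le : V' ≤ Cfsg.pCore p ↥P := Cfsg.Agent.Helper5.le_pCore hV'n hV'p
  set C' : Subgroup ↥P := Subgroup.centralizer (V' : Set ↥P) with hC'
  have hC'n : C'.Normal := Subgroup.normal_centralizer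
  have hC'p : IsPGroup p ↥C' := by
    intro x
    have hx : ((x : ↥P) : G) ∈ P ⊓ Subgroup.centralizer (V : Set G) := by
      refine Subgroup.mem_inf.mpr ⟨(x : ↥P).2, ?_⟩
      rw [Subgroup.mem_centralizer_iff]
      intro v hv
      have hv' : (⟨v, hVP hv⟩ : ↥P) ∈ V' := by
        rw [hV', Subgroup.mem_subgroupOf]; exact hv
      have := Subgroup.mem_centralizer_iff.mp x.2 _ hv'
      exact congrArg (fun z : ↥P => (z : G)) this
    obtain ⟨k, hk⟩ := hC ⟨_, hx⟩
    refine ⟨k, ?_⟩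
    have hk' := congrArg (fun z : ↥(P ⊓ Subgroup.centralizer (V : Set G) : Subgroup G) => (z : G)) hk
    apply Subtype.ext
    apply Subtype.ext
    simpa using hk'
  have hC'le : C' ≤ Cfsg.pCore p ↥P := Cfsg.Agent.Helper5.le_pCore hC'n hC'p
  intro x hx
  apply hC'le
  exact Subgroup.centralizer_le (SetLike.coe_subset_coe.mpr hV'le) hx

variable {D : ChevalleyDatum} {F : Type*} [Field F]

section main

variable (hG : Good2 D) (hT : T0 D) (h3 : (tabOf D).T3) (h4 : (tabOf D).T4 60) (h5 : (tabOf D).T5)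
  (h6 : (tabOf D).T6) (h7 : (tabOf D).T7) (h8 : (tabOf D).T8) (h9 : (tabOf D).T9)
  (h14 : (tabOf D).T14)
  (h26 : (tabOf D).T26) (h27 : (tabOf D).T27) (h28 : (tabOf D).T28)
  {R P Q P' Q' : ℕ → ℕ → ℤ} {d : ℕ → ℕ} (h17 : T17 D R P Q P' Q' d)

include hG hT h3 h4 h5 h6 h7 h8 h9 h14 h26 h27 h28 h17 in
/-- A proper standard parabolic subgroup has characteristic `p`. -/
theorem parabolic_hasCharP [Fintype F] (p : ℕ) [Fact p.Prime] [CharP F p] (J : Set ℕ) {i₀ : ℕ}
    (hi₀ : i₀ < D.rank) (hi₀J : i₀ ∉ J) :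
    Cfsg.Agent.Helper5.HasCharP p ↥(D.parabolicSubgroup F J) := by
  have hG1 := hG.toGood1
  have hp : p.Prime := Fact.out
  obtain ⟨k, _, hq⟩ := FiniteField.card F p
  have hUp : IsPGroup p ↥(D.posUnipotent F) := by
    apply IsPGroup.of_card (n := (k : ℕ) * (D.nroots / 2))
    rw [card_posUnipotent hG hT h3 h4 h7 h8, hq, pow_mul]
  have hPN := parabolic_le_normalizer_rad (F := F) hG hT h3 h4 h6 h14 J
  have hVU : D.unipotentRadical F J ≤ D.posUnipotent F := by
    unfold ChevalleyDatum.unipotentRadical ChevalleyDatum.posUnipotent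
    apply Subgroup.closure_mono
    rintro g ⟨r, t, hr, _, hg⟩
    exact ⟨r, t, hr, hg⟩
  have hUP : D.posUnipotent F ≤ D.parabolicSubgroup F J :=
    le_trans le_sup_left (le_sup_left : D.borelSubgroup F ≤ D.parabolicSubgroup F J)
  apply hasCharP_of_centralizer_isPGroup (D.parabolicSubgroup F J) (D.unipotentRadical F J)
    (hVU.trans hUP) hPN (hUp.to_le hVU)
  exact hUp.to_le
    (parabolic_inf_centralizer_rad_le hG hT h3 h4 h5 h6 h8 h9 h14 h26 h27 h28 h17 J hi₀ hi₀J)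

end main

/-- Smith normal form tables exist for each of the seven data. -/
theorem exists_T17 (D : ChevalleyDatum)
    (hD : D ∈ [chevG2, chevB2, chevD4, chevF4, chevE6, chevE7, chevE8]) :
    ∃ (R P Q P' Q' : ℕ → ℕ → ℤ) (d : ℕ → ℕ), T17 D R P Q P' Q' d :=
  chev_cases (p := fun D => ∃ (R P Q P' Q' : ℕ → ℕ → ℤ) (d : ℕ → ℕ), T17 D R P Q P' Q' d) D hD
    ⟨_, _, _, _, _, _, T17_G2⟩ ⟨_, _, _, _, _, _, T17_B2⟩ ⟨_, _, _, _, _, _, T17_D4⟩
    ⟨_, _, _, _, _, _, T17_F4⟩ ⟨_, _, _, _, _, _, T17_E6⟩ ⟨_, _, _, _, _, _, T17_E7⟩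
    ⟨_, _, _, _, _, _, T17_E8⟩

/-- The statement S2155. -/
theorem chev_S2155 {F : Type*} [Field F] [Fintype F] (p : ℕ) [Fact p.Prime] [CharP F p]
    (D : ChevalleyDatum) (hD : D ∈ [chevG2, chevB2, chevD4, chevF4, chevE6, chevE7, chevE8])
    (J : Set ℕ) (hJ : ∃ i, i < D.rank ∧ i ∉ J) :
    IsPGroup p ↥(Cfsg.generalizedFittingSubgroup ↥(D.parabolicSubgroup F J)) := by
  have hG := good3_of_mem D hD
  have hT := T0_of_mem D hD
  have h5 := T5_of_mem D hD
  have h6 := T6_of_mem D hD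
  have h7 := T7_of_mem D hD
  have h8 := T8_of_mem D hD
  have h9 := T9_of_mem D hD
  have h14 := T14_of_mem D hD
  have h26 := T26_of_mem D hD
  have h27 := T27_of_mem D hD
  have h28 := T28_of_mem D hD
  obtain ⟨R, P, Q, P', Q', d, h17⟩ := exists_T17 D hD
  obtain ⟨i₀, hi₀, hi₀J⟩ := hJ
  rw [Cfsg.Agent.Helper2.isPGroup_generalizedFittingSubgroup_iff]
  exact parabolic_hasCharP hG.toGood2 hT hG.t3 hG.t4 h5 h6 h7 h8 h9 h14 h26 h27 h28 h17 p J hi₀ hi₀J

end Cfsg.Agent.Helper7.Chev
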