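import Mathlib
import Cfsg.Agent.Helper7.ChevCount

set_option autoImplicit false
set_option linter.unusedSectionVars false
set_option linter.unusedVariables false

/-!
A list of reduced words representing the elements of the Weyl group exists, without enumeration: every word acts
on the roots as a word all of whose prefixes are reduced.
-/

namespace Cfsg.Agent.Helper7.Chev

open Cfsg Cfsg.Lie Matrix

variable {D : ChevalleyDatum}

/-- Two words act in the same way on the roots. -/
def SameAct (D : ChevalleyDatum) (a b : List ℕ) : Prop :=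
  ∀ r < D.nroots, (tabOf D).reflWord a r = (tabOf D).reflWord b r

theorem SameAct.refl (a : List ℕ) : SameAct D a a := fun _ _ => rfl

theorem SameAct.symm {a b : List ℕ} (h : SameAct D a b) : SameAct D b a := fun r hr => (h r hr).symm

theorem SameAct.trans {a b c : List ℕ} (h : SameAct D a b) (h' : SameAct D b c) : SameAct D a c :=
  fun r hr => (h r hr).trans (h' r hr)

section reduce

variable (hG : Good2 D) (hT : T0 D) (h6 : (tabOf D).T6) (h8 : (tabOf D).T8)

include hG in
theorem SameAct.append_right {a b : List ℕ} (h : SameAct D a b) {c : List ℕ} (hc : ∀ i ∈ c, i < D.rank) :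
    SameAct D (a ++ c) (b ++ c) := by
  intro r hr
  rw [reflWord_append, reflWord_append]
  exact h _ (reflWord_lt hG hc hr)

theorem SameAct.append_left {a b : List ℕ} (h : SameAct D a b) (c : List ℕ) :
    SameAct D (c ++ a) (c ++ b) := by
  intro r hr
  rw [reflWord_append, reflWord_append, h r hr]

include hG hT h6 h8 in
/-- Every word acts as a word all of whose prefixes are reduced. -/
theorem exists_reduced : ∀ (m : ℕ) (v : List ℕ), v.length = m → (∀ i ∈ v, i < D.rank) →
    ∃ w : List ℕ, (∀ i ∈ w, i < D.rank) ∧ PrefixPos D w ∧ SameAct D w v := by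
  intro m
  induction m using Nat.strong_induction_on with
  | _ m ih =>
    intro v hvm hv
    have hG1 := hG.toGood1
    by_cases hpp : PrefixPos D v
    · exact ⟨v, hv, hpp, SameAct.refl v⟩
    · unfold PrefixPos at hpp
      push_neg at hpp
      obtain ⟨w₁, k, w₂, hvw, hneg⟩ := hpp
      have hw₁ : ∀ i ∈ w₁, i < D.rank := fun i hi => hv i (by rw [hvw]; simp [hi])
      have hw₂ : ∀ i ∈ w₂, i < D.rank := fun i hi => hv i (by rw [hvw]; simp [hi])
      have hk : k < D.rank := hv k (by rw [hvw]; simp)
      have hpk := hG1.simple_lt hk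
      have hpos : D.nroots / 2 ≤ (tabOf D).reflWord (w₁ ++ [k]) (D.simple k) := by
        rw [reflWord_append, reflWord_cons]
        change D.nroots / 2 ≤ (tabOf D).reflWord w₁ ((tabOf D).refl (D.simple k) (D.simple k))
        rw [refl_self, reflWord_neg hG hw₁ hpk]
        exact neg_pos_of_neg hG hT (reflWord_lt hG hw₁ hpk) hneg
      obtain ⟨w', hw', hlen, h, hh, e⟩ := exists_deletion (F := ℚ) hG hT h6 hw₁ hk hpos
      have hw₁k : ∀ i ∈ w₁ ++ [k], i < D.rank := by
        intro i hi
        rcases List.mem_append.mp hi with h | h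
        · exact hw₁ i h
        · rw [List.mem_singleton] at h; rw [h]; exact hk
      have hsame : SameAct D w' (w₁ ++ [k]) := by
        have hn := nWordGL_mem_normalizer (F := ℚ) hG w'
        have e' : (nWordGL hG (w₁ ++ [k]) : GL D.Idx ℚ) =
            nWordGL hG w' * ((nWordGL hG w')⁻¹ * h * nWordGL hG w') := by
          rw [e]; group
        exact reflWord_eq_of_nWordGL_eq (F := ℚ) hG hT h8 hw' hw₁k (conj_mem_diagonal' hn hh) e'
      have hv' : ∀ i ∈ w' ++ w₂, i < D.rank := by
        intro i hi
        rcases List.mem_append.mp hi with h | h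
        · exact hw' i h
        · exact hw₂ i h
      have hlen' : (w' ++ w₂).length < m := by
        rw [← hvm, hvw]
        simp only [List.length_append, List.length_cons]
        omega
      obtain ⟨w, hw, hwpp, hwsame⟩ := ih _ hlen' (w' ++ w₂) rfl hv'
      refine ⟨w, hw, hwpp, hwsame.trans ?_⟩
      have : v = (w₁ ++ [k]) ++ w₂ := by rw [hvw]; simp
      rw [this]
      exact hsame.append_right hG hw₂

end reduce

section abstract

variable (hG : Good2 D) (hT : T0 D) (h6 : (tabOf D).T6) (h8 : (tabOf D).T8)

include hG hT h6 h8 in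
/-- A list of reduced words representing each element of the Weyl group once exists. -/
theorem exists_wList : ∃ W : List (List ℕ), WList D W := by
  classical
  -- the action of a word as a function
  let act : List ℕ → (Fin D.nroots → ℕ) := fun w r => (tabOf D).reflWord w r.val
  have hact : ∀ a b : List ℕ, act a = act b ↔ SameAct D a b := by
    intro a b
    constructor
    · intro h r hr
      exact congrFun h ⟨r, hr⟩
    · intro h
      funext r
      exact h r.val r.2
  -- the set of actions is finite
  let good : List ℕ → Prop := fun w => (∀ i ∈ w, i < D.rank) ∧ PrefixPos D w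
  let S : Set (Fin D.nroots → ℕ) := {f | ∃ w, good w ∧ act w = f}
  have hSfin : S.Finite := by
    apply Set.Finite.subset (s := {f : Fin D.nroots → ℕ | ∀ r, f r < D.nroots})
    · have : {f : Fin D.nroots → ℕ | ∀ r, f r < D.nroots} =
          Set.pi Set.univ (fun _ : Fin D.nroots => Set.Iio D.nroots) := by
        ext f
        simp [Set.mem_pi]
      rw [this]
      exact Set.Finite.pi fun _ => Set.finite_Iio _
    · rintro f ⟨w, ⟨hw, _⟩, rfl⟩ r
      exact reflWord_lt hG hw r.2
  have hnil : good [] := by
    refine ⟨by simp, ?_⟩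
    intro w₁ k w₂ h
    exact absurd h (by simp)
  -- the chosen representatives
  have hex : ∀ f : S, ∃ w, good w ∧ act w = f.val := fun f => f.2
  let rep : S → List ℕ := fun f => if f.val = act [] then [] else Classical.choose (hex f)
  have hrep : ∀ f : S, good (rep f) ∧ act (rep f) = f.val := by
    intro f
    by_cases h : f.val = act []
    · simp only [rep, if_pos h]
      exact ⟨hnil, h.symm⟩
    · simp only [rep, if_neg h]
      exact Classical.choose_spec (hex f)
  haveI : Fintype S := hSfin.fintype
  refine ⟨(Finset.univ : Finset S).toList.map rep, ?_⟩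
  have hmem : ∀ w, w ∈ (Finset.univ : Finset S).toList.map rep ↔ ∃ f : S, rep f = w := by
    intro w
    simp [List.mem_map]
  have hinj : Function.Injective rep := by
    intro f g h
    apply Subtype.ext
    rw [← (hrep f).2, ← (hrep g).2, h]
  refine ⟨?_, ?_, ?_, ?_, ?_⟩
  · rw [hmem]
    refine ⟨⟨act [], [], hnil, rfl⟩, ?_⟩
    simp only [rep, if_pos]
  · exact (List.nodup_map_iff hinj).mpr (Finset.nodup_toList _)
  · intro w hw
    obtain ⟨f, rfl⟩ := (hmem w).mp hw
    exact (hrep f).1
  · intro w hw i hi
    obtain ⟨f, rfl⟩ := (hmem w).mp hw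
    have hiw : ∀ j ∈ i :: rep f, j < D.rank := by
      intro j hj
      rcases List.mem_cons.mp hj with rfl | hj
      · exact hi
      · exact (hrep f).1.1 j hj
    obtain ⟨w', hw', hpp, hsame⟩ := exists_reduced hG hT h6 h8 _ (i :: rep f) rfl hiw
    let g : S := ⟨act w', w', ⟨hw', hpp⟩, rfl⟩
    refine ⟨rep g, (hmem _).mpr ⟨g, rfl⟩, ?_⟩
    have h1 : SameAct D (rep g) w' := (hact _ _).mp (hrep g).2
    exact (h1.trans hsame).symm
  · intro w hw w' hw' h
    obtain ⟨f, rfl⟩ := (hmem w).mp hw
    obtain ⟨g, rfl⟩ := (hmem w').mp hw'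
    have : f = g := by
      apply Subtype.ext
      rw [← (hrep f).2, ← (hrep g).2]
      exact (hact _ _).mpr h
    rw [this]

end abstract

end Cfsg.Agent.Helper7.Chev
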