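import Mathlib
import Cfsg.Agent.Helper7.ChevUnique

set_option autoImplicit false
set_option linter.unusedSectionVars false
set_option linter.unusedVariables false

/-!
Uniqueness of the parameters of a product of root elements over the negative roots in decreasing order
(mirror of `word_unique`).
-/

namespace Cfsg.Agent.Helper7.Chev

open Cfsg Cfsg.Lie Matrix

variable {D : ChevalleyDatum} {F : Type*} [Field F]

/-- Column shape: the columns `e_v`, `v ≤ b`, have their non-zero entries in the rows `e_w`, `w ≤ v`. -/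
def ColInv (D : ChevalleyDatum) (F : Type*) [Field F] (b : ℕ) (A : Matrix D.Idx D.Idx F) : Prop :=
  ∀ v : Fin D.nroots, v.val ≤ b → ∀ c : D.Idx, A c (Sum.inr v) ≠ 0 →
    ∃ w : Fin D.nroots, w.val ≤ v.val ∧ c = Sum.inr w

theorem colInv_one (b : ℕ) : ColInv D F b 1 := by
  intro v _ c hc
  rw [Matrix.one_apply] at hc
  by_cases h : c = Sum.inr v
  · exact ⟨v, le_rfl, h⟩
  · rw [if_neg h] at hc; exact absurd rfl hc

theorem colInv_mul {b : ℕ} {A B : Matrix D.Idx D.Idx F} (hA : ColInv D F b A) (hB : ColInv D F b B) :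
    ColInv D F b (A * B) := by
  intro v hv c hc
  rw [Matrix.mul_apply] at hc
  obtain ⟨d, _, hd⟩ := Finset.exists_ne_zero_of_sum_ne_zero hc
  have hA0 : A c d ≠ 0 := left_ne_zero_of_mul hd
  have hB0 : B d (Sum.inr v) ≠ 0 := right_ne_zero_of_mul hd
  obtain ⟨w, hw1, rfl⟩ := hB v hv d hB0
  obtain ⟨w', hw'1, rfl⟩ := hA w (by omega) c hA0
  exact ⟨w', by omega, rfl⟩

/-- A root element of a negative root `r` with `-r` above `b` has the column shape. -/
theorem colInv_x (hT : T0 D) {b r : ℕ} (hr : r < D.nroots) (hneg : r < D.nroots / 2)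
    (hnb : b < D.neg r) (t : F) : ColInv D F b (D.x F r t) := by
  rw [x_of_lt D F hr]
  obtain ⟨_, _, _, _, hch⟩ := hT r hr
  intro v hv c hc
  have hsplit : D.xMat F ⟨r, hr⟩ t c (Sum.inr v) =
      (D.xMat F ⟨r, hr⟩ t - 1) c (Sum.inr v) + (1 : Matrix D.Idx D.Idx F) c (Sum.inr v) := by
    rw [Matrix.sub_apply]; ring
  rw [hsplit] at hc
  by_cases h1 : (1 : Matrix D.Idx D.Idx F) c (Sum.inr v) = 0
  · rw [h1, add_zero] at hc
    rcases xMat_sub_one_apply_ne_zero D ⟨r, hr⟩ t _ _ hc with ⟨i', h2, _⟩ |
      ⟨s, _, hs2, h3, _⟩ | ⟨s, u, h1', h2, hne⟩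
    · exact absurd h2 (by simp)
    · have : v = s := Sum.inr.inj h3
      rw [this] at hv
      simp only at hs2
      omega
    · obtain ⟨e, he, hes, q, hq, hqu⟩ := exists_entry_of_chainCoeff_ne_nil D hne
      have hlt := ((hch e he q hq).2 hneg)
      have hvs : v = s := Sum.inr.inj h1'
      refine ⟨u, ?_, h2⟩
      rw [hvs]
      omega
  · rw [Matrix.one_apply] at h1
    by_cases h : c = Sum.inr v
    · exact ⟨v, le_rfl, h⟩
    · rw [if_neg h] at h1; exact absurd rfl h1

/-- The subgroup generated by the root subgroups of the roots with index below `k`. -/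
def Vlt (D : ChevalleyDatum) (F : Type*) [Field F] (k : ℕ) : Subgroup (GL D.Idx F) :=
  Subgroup.closure {g | ∃ (r : ℕ) (t : F), r < k ∧ (g : Matrix D.Idx D.Idx F) = D.x F r t}

section unique

variable (hG : Good2 D) (hT : T0 D) (h8 : (tabOf D).T8)

include hG hT h8 in
/-- `X_k ∩ V_{< k} = 1` for a negative root `k`. -/
theorem eq_zero_of_xGL_mem_Vlt {k : ℕ} (hk1 : k < D.nroots / 2) (hk : k < D.nroots) {a : F}
    (h : xGL hG.toGood1 hk a ∈ Vlt D F k) : a = 0 := by
  have hG1 := hG.toGood1
  obtain ⟨h8a, h8b⟩ := h8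
  have hn : (tabOf D).n = D.nroots := rfl
  rw [hn] at h8b
  have hnegk : D.neg k = D.nroots - 1 - k := (h8a k hk).1
  have hinv : ∀ g : GL D.Idx F, g ∈ Vlt D F k →
      ColInv D F (D.neg k) (g : Matrix D.Idx D.Idx F) := by
    intro g hg
    unfold Vlt at hg
    have hgen : ∀ u : F, ∀ r : ℕ, r < k → ColInv D F (D.neg k) (D.x F r u) := by
      intro u r hrk
      have hr : r < D.nroots := by omega
      have hnegr : D.neg r = D.nroots - 1 - r := (h8a r hr).1
      apply colInv_x hT hr (by omega) (by omega)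
    induction hg using Subgroup.closure_induction'' with
    | one => rw [Units.val_one]; exact colInv_one _
    | mem x hx =>
      obtain ⟨r, u, hkr, hxm⟩ := hx
      rw [hxm]
      exact hgen u r hkr
    | inv_mem x hx =>
      obtain ⟨r, u, hkr, hxm⟩ := hx
      have hr : r < D.nroots := by omega
      rw [eq_xGL hG1 hr hxm, xGL_inv, xGL_coe]
      exact hgen (-u) r hkr
    | mul x y _ _ hx hy =>
      rw [Units.val_mul]
      exact colInv_mul hx hy
  have hc := hinv _ h
  have hnk := hG1.neg_lt hk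
  have hentry : ∀ i : Fin D.rank, a * ((cr D k i.val : ℤ) : F) = 0 := by
    intro i
    by_contra hne
    have e : ((xGL hG1 hk a : GL D.Idx F) : Matrix D.Idx D.Idx F) (Sum.inl i)
        (Sum.inr ⟨D.neg k, hnk⟩) = a * ((cr D k i.val : ℤ) : F) := by
      rw [xGL_coe]
      have e' : D.x F k a (Sum.inl i) (Sum.inr ⟨D.neg k, hnk⟩) =
          (D.x F k a *ᵥ eR D F (D.neg k)) (Sum.inl i) := by
        rw [eR_of_lt hnk, Matrix.mulVec_single_one]
        rfl
      rw [e', x_mulVec_eR_neg D F hk hnk (hG1.neg_ne hk)]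
      simp only [Pi.add_apply, Pi.smul_apply, eR_apply_inl, hR_apply_inl, smul_eq_mul, mul_zero,
        zero_add, add_zero]
    obtain ⟨w, _, hw⟩ := hc ⟨D.neg k, hnk⟩ le_rfl (Sum.inl i) (by rw [e]; exact hne)
    exact absurd hw (by simp)
  have hprim := (h8a k hk).2
  have hl : (tabOf D).l = D.rank := rfl
  rw [hl] at hprim
  have hmm : (List.range D.rank).map (fun i => ((tabOf D).cr k i).natAbs) =
      ((List.range D.rank).map (fun i => cr D k i)).map Int.natAbs := by
    rw [List.map_map]; rfl
  rw [hmm] at hprim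
  obtain ⟨c, hc', hc0⟩ := exists_cast_ne_zero (F := F) _ hprim
  rw [List.mem_map] at hc'
  obtain ⟨i, hi, rfl⟩ := hc'
  rw [List.mem_range] at hi
  have := hentry ⟨i, hi⟩
  exact (mul_eq_zero.mp this).resolve_right hc0

include hG in
/-- A product of root elements of index below `k` lies in `V_{< k}`. -/
theorem wordGL_mem_Vlt (k : ℕ) (hk : k ≤ D.nroots) (t : ℕ → F) :
    (((List.range k).reverse.map fun r => (r, t r)).map (xGL' hG.toGood1)).prod ∈ Vlt D F k := by
  apply Subgroup.list_prod_mem
  intro x hx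
  rw [List.mem_map] at hx
  obtain ⟨q, hq, rfl⟩ := hx
  rw [List.mem_map] at hq
  obtain ⟨r, hr, rfl⟩ := hq
  rw [List.mem_reverse, List.mem_range] at hr
  exact Subgroup.subset_closure ⟨r, t r, hr, xGL'_coe _ _⟩

include hG hT h8 in
/-- Uniqueness of the parameters of a product over the negative roots in decreasing order. -/
theorem negword_unique : ∀ (k : ℕ), k ≤ D.nroots / 2 → ∀ t t' : ℕ → F,
    D.wordMat F ((List.range k).reverse.map fun r => (r, t r)) =
      D.wordMat F ((List.range k).reverse.map fun r => (r, t' r)) →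
    ∀ r < k, t r = t' r := by
  have hG1 := hG.toGood1
  intro k
  induction k with
  | zero => intro _ t t' _ r hr; omega
  | succ k ih =>
    intro hk1 t t' h r hr
    have hk : k < D.nroots := by omega
    rw [List.range_succ, List.reverse_append, List.reverse_singleton, List.singleton_append,
      List.map_cons, List.map_cons, wordMat_cons, wordMat_cons] at h
    simp only at h
    set g := (((List.range k).reverse.map fun r => (r, t r)).map (xGL' hG1)).prod with hg
    set g' := (((List.range k).reverse.map fun r => (r, t' r)).map (xGL' hG1)).prod with hg'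
    have hgm : g ∈ Vlt D F k := wordGL_mem_Vlt hG k (by omega) t
    have hgm' : g' ∈ Vlt D F k := wordGL_mem_Vlt hG k (by omega) t'
    have e : xGL hG1 hk (t k) * g = xGL hG1 hk (t' k) * g' := by
      apply Units.ext
      rw [Units.val_mul, Units.val_mul, xGL_coe, xGL_coe, hg, hg', wordGL_coe, wordGL_coe]
      exact h
    have e2 : xGL hG1 hk (t k - t' k) = g' * g⁻¹ := by
      rw [sub_eq_add_neg, add_comm, ← xGL_mul, ← xGL_inv, eq_mul_inv_iff_mul_eq, mul_assoc, e,
        ← mul_assoc, inv_mul_cancel, one_mul]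
    have hmem : xGL hG1 hk (t k - t' k) ∈ Vlt D F k := by
      rw [e2]; exact mul_mem hgm' (inv_mem hgm)
    have h0 := eq_zero_of_xGL_mem_Vlt hG hT h8 (by omega) hk hmem
    have htk : t k = t' k := sub_eq_zero.mp h0
    rcases Nat.lt_succ_iff_lt_or_eq.mp hr with hr' | rfl
    · rw [htk] at e
      have e3 : g = g' := mul_left_cancel e
      apply ih (by omega) t t' _ r hr'
      have := congrArg (fun x : GL D.Idx F => (x : Matrix D.Idx D.Idx F)) e3
      simp only [hg, hg', wordGL_coe] at this
      exact this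
    · exact htk

end unique

end Cfsg.Agent.Helper7.Chev
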