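import Mathlib
import Cfsg.Agent.Helper7.StG
import Cfsg.Agent.Helper7.ChevCollect

set_option autoImplicit false
set_option linter.unusedSectionVars false
set_option linter.unusedVariables false

/-!
Groups generated by elements `xb r t` satisfying the additivity and the commutator relations of a Chevalley
datum, together with a homomorphism to the matrix group mapping `xb r t` to the root element `x_r(t)`:
basic facts, subgroups generated by sets of roots, and the triviality of the kernel on a subgroup generated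
by an ordered family of roots.
-/

namespace Cfsg.Agent.Helper7.St

open Cfsg Cfsg.Lie Matrix Cfsg.Agent.Helper7.Chev
open scoped Pointwise

/-- A group with elements `xb r t` subject to the relations (R1) and (R2), mapped to the matrix group. -/
structure StD (D : ChevalleyDatum) (K : Type*) [Field K] (Γ : Type*) [Group Γ] where
  /-- the elements `xb r t` -/
  xb : ℕ → K → Γ
  add : ∀ r, r < D.nroots → ∀ t u : K, xb r t * xb r u = xb r (t + u)
  comm : ∀ r s, r < D.nroots → s < D.nroots → s ≠ r → s ≠ D.neg r → ∀ t u : K,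
    xb s u * xb r t = xb r t * xb s u * ((D.commWord K r s t u).map fun p => xb p.1 p.2).prod
  /-- the homomorphism to the matrix group -/
  π : Γ →* GL D.Idx K
  hπ : ∀ r, r < D.nroots → ∀ t : K,
    ((π (xb r t) : GL D.Idx K) : Matrix D.Idx D.Idx K) = D.x K r t

variable {D : ChevalleyDatum} {K : Type*} [Field K] {Γ : Type*} [Group Γ] (S : StD D K Γ)

namespace StD

/-- The product of the elements `xb` along a word. -/
def wd (w : List (ℕ × K)) : Γ := (w.map fun p => S.xb p.1 p.2).prod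

theorem wd_nil : S.wd [] = 1 := rfl

theorem wd_cons (p : ℕ × K) (w : List (ℕ × K)) : S.wd (p :: w) = S.xb p.1 p.2 * S.wd w := by
  unfold wd; rw [List.map_cons, List.prod_cons]

theorem wd_append (w₁ w₂ : List (ℕ × K)) : S.wd (w₁ ++ w₂) = S.wd w₁ * S.wd w₂ := by
  unfold wd; rw [List.map_append, List.prod_append]

theorem xb_zero {r : ℕ} (hr : r < D.nroots) : S.xb r 0 = 1 := by
  have := S.add r hr 0 0
  rw [add_zero] at this
  exact mul_eq_left.mp this

theorem xb_inv {r : ℕ} (hr : r < D.nroots) (t : K) : (S.xb r t)⁻¹ = S.xb r (-t) := by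
  rw [inv_eq_iff_mul_eq_one, S.add r hr, add_neg_cancel, S.xb_zero hr]

theorem π_xb (hG : Good1 D) {r : ℕ} (hr : r < D.nroots) (t : K) :
    S.π (S.xb r t) = xGL hG hr t := eq_xGL hG hr (S.hπ r hr t)

theorem π_wd (w : List (ℕ × K)) (hw : ∀ q ∈ w, q.1 < D.nroots) :
    ((S.π (S.wd w) : GL D.Idx K) : Matrix D.Idx D.Idx K) = D.wordMat K w := by
  induction w with
  | nil => rw [wd_nil, map_one, wordMat_nil]; rfl
  | cons p w ih =>
    rw [wd_cons, map_mul, Units.val_mul, wordMat_cons, S.hπ p.1 (hw p List.mem_cons_self),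
      ih (fun q hq => hw q (List.mem_cons_of_mem _ hq))]

/-- The subgroup generated by the elements `xb r t` for the roots `r` satisfying `P`. -/
def XS (P : ℕ → Prop) : Subgroup Γ :=
  Subgroup.closure {g | ∃ (r : ℕ) (t : K), r < D.nroots ∧ P r ∧ g = S.xb r t}

theorem xb_mem_XS {P : ℕ → Prop} {r : ℕ} (hr : r < D.nroots) (hP : P r) (t : K) :
    S.xb r t ∈ S.XS P := Subgroup.subset_closure ⟨r, t, hr, hP, rfl⟩

theorem XS_mono {P Q : ℕ → Prop} (h : ∀ r, r < D.nroots → P r → Q r) : S.XS P ≤ S.XS Q := by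
  unfold XS
  apply Subgroup.closure_mono
  rintro g ⟨r, t, hr, hP, rfl⟩
  exact ⟨r, t, hr, h r hr hP, rfl⟩

theorem wd_mem_XS {P : ℕ → Prop} (w : List (ℕ × K)) (hw : ∀ q ∈ w, q.1 < D.nroots ∧ P q.1) :
    S.wd w ∈ S.XS P := by
  apply Subgroup.list_prod_mem
  intro x hx
  rw [List.mem_map] at hx
  obtain ⟨q, hq, rfl⟩ := hx
  exact S.xb_mem_XS (hw q hq).1 (hw q hq).2 _

/-- Conjugating a generator by `(xb r t)⁻¹` when the commutator terms stay inside. -/
theorem conj_mem_XS {P : ℕ → Prop} {r s : ℕ} (hr : r < D.nroots) (hs : s < D.nroots) (hsr : s ≠ r)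
    (hsn : s ≠ D.neg r) (hPs : P s)
    (hterms : ∀ c ∈ D.commTerms r s, c.1 < D.nroots ∧ P c.1) (t u : K) :
    (S.xb r t)⁻¹ * S.xb s u * S.xb r t ∈ S.XS P := by
  have e : (S.xb r t)⁻¹ * S.xb s u * S.xb r t = S.xb s u * S.wd (D.commWord K r s t u) := by
    rw [mul_assoc, inv_mul_eq_iff_eq_mul, S.comm r s hr hs hsr hsn t u, mul_assoc]
    rfl
  rw [e]
  apply mul_mem (S.xb_mem_XS hs hPs u)
  apply S.wd_mem_XS
  intro q hq
  unfold ChevalleyDatum.commWord at hq
  rw [List.mem_map] at hq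
  obtain ⟨c, hc, rfl⟩ := hq
  exact hterms c hc

/-- `xb r t` normalises the subgroup of a set of roots closed under the commutator terms with `r`. -/
theorem xb_mem_normalizer_XS {P : ℕ → Prop} {r : ℕ} (hr : r < D.nroots)
    (h : ∀ s, s < D.nroots → P s → s ≠ r ∧ s ≠ D.neg r ∧
      ∀ c ∈ D.commTerms r s, c.1 < D.nroots ∧ P c.1) (t : K) :
    S.xb r t ∈ Subgroup.normalizer (S.XS P : Set Γ) := by
  unfold XS
  apply mem_normalizer_closure
  · rintro x ⟨s, u, hs, hPs, rfl⟩
    obtain ⟨c1, c2, c3⟩ := h s hs hPs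
    have := S.conj_mem_XS hr hs c1 c2 hPs c3 (-t) u
    rwa [← S.xb_inv hr, inv_inv] at this
  · rintro x ⟨s, u, hs, hPs, rfl⟩
    obtain ⟨c1, c2, c3⟩ := h s hs hPs
    exact S.conj_mem_XS hr hs c1 c2 hPs c3 t u

/-- The subgroup of the elements `xb r t` for a fixed root `r`. -/
def Xr {r : ℕ} (hr : r < D.nroots) : Subgroup Γ where
  carrier := {g | ∃ t : K, g = S.xb r t}
  mul_mem' := by
    rintro _ _ ⟨t, rfl⟩ ⟨u, rfl⟩
    exact ⟨t + u, S.add r hr t u⟩
  one_mem' := ⟨0, (S.xb_zero hr).symm⟩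
  inv_mem' := by
    rintro _ ⟨t, rfl⟩
    exact ⟨-t, S.xb_inv hr t⟩

/-- Splitting off a root whose elements normalise the subgroup of the other roots. -/
theorem XS_decomp {P Q : ℕ → Prop} {r : ℕ} (hr : r < D.nroots)
    (hQ : ∀ s, s < D.nroots → Q s → s = r ∨ P s)
    (hnorm : ∀ t : K, S.xb r t ∈ Subgroup.normalizer (S.XS P : Set Γ)) {g : Γ} (hg : g ∈ S.XS Q) :
    ∃ (t : K) (g' : Γ), g' ∈ S.XS P ∧ g = S.xb r t * g' := by
  have hXn : S.Xr hr ≤ Subgroup.normalizer (S.XS P : Set Γ) := by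
    rintro x ⟨t, rfl⟩
    exact hnorm t
  have hmul := Subgroup.coe_mul_of_left_le_normalizer_right (S.Xr hr) (S.XS P) hXn
  have hle : S.XS Q ≤ S.Xr hr ⊔ S.XS P := by
    unfold XS
    rw [Subgroup.closure_le]
    rintro x ⟨s, t, hs, hQs, rfl⟩
    rcases hQ s hs hQs with rfl | hPs
    · exact (le_sup_left : S.Xr hr ≤ _) ⟨t, rfl⟩
    · exact (le_sup_right : Subgroup.closure _ ≤ _) (Subgroup.subset_closure ⟨s, t, hs, hPs, rfl⟩)
  have : g ∈ (S.Xr hr : Set Γ) * (S.XS P : Set Γ) := by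
    rw [← hmul]; exact hle hg
  obtain ⟨x, ⟨t, rfl⟩, g', hg', rfl⟩ := this
  exact ⟨t, g', hg', rfl⟩

/-! ### An ordered family of roots -/

section ordered

variable (e : ℕ → ℕ) (m : ℕ)

/-- The subgroup generated by the members of index at least `a` of the family. -/
def Ege (a : ℕ) : Subgroup Γ := S.XS (fun s => ∃ k, a ≤ k ∧ k < m ∧ s = e k)

theorem Ege_top : S.Ege e m m = ⊥ := by
  unfold Ege XS
  rw [Subgroup.closure_eq_bot_iff]
  rintro g ⟨r, t, _, ⟨k, h1, h2, _⟩, _⟩
  omega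

variable (he : ∀ a, a < m → e a < D.nroots)
  (hne : ∀ a b, a < b → b < m → e b ≠ e a ∧ e b ≠ D.neg (e a))
  (hterms : ∀ a b, a < b → b < m → ∀ c ∈ D.commTerms (e a) (e b), ∃ k, a < k ∧ k < m ∧ c.1 = e k)

include he hne hterms in
theorem xb_mem_normalizer_Ege {a : ℕ} (ha : a < m) (t : K) :
    S.xb (e a) t ∈ Subgroup.normalizer (S.Ege e m (a + 1) : Set Γ) := by
  apply S.xb_mem_normalizer_XS (he a ha)
  rintro s hs ⟨b, hab, hb, rfl⟩
  obtain ⟨c1, c2⟩ := hne a b (by omega) hb
  refine ⟨c1, c2, fun c hc => ?_⟩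
  obtain ⟨k, hk1, hk2, hk3⟩ := hterms a b (by omega) hb c hc
  rw [hk3]
  exact ⟨he k hk2, k, by omega, hk2, rfl⟩

include he hne hterms in
theorem Ege_decomp {a : ℕ} (ha : a < m) {g : Γ} (hg : g ∈ S.Ege e m a) :
    ∃ (t : K) (g' : Γ), g' ∈ S.Ege e m (a + 1) ∧ g = S.xb (e a) t * g' := by
  apply S.XS_decomp (he a ha) _ (S.xb_mem_normalizer_Ege e m he hne hterms ha) hg
  rintro s hs ⟨k, hk1, hk2, rfl⟩
  by_cases h : k = a
  · left; rw [h]
  · right; exact ⟨k, by omega, hk2, rfl⟩

include he hne hterms in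
/-- The homomorphism to the matrix group has trivial kernel on the subgroup of an ordered family, when
the image of each member meets the image of the later ones trivially. -/
theorem Ege_ker_trivial
    (hind : ∀ a, a < m → ∀ t : K, S.π (S.xb (e a) t) ∈ (S.Ege e m (a + 1)).map S.π → t = 0) :
    ∀ (j a : ℕ), a + j = m → ∀ g : Γ, g ∈ S.Ege e m a → S.π g = 1 → g = 1 := by
  intro j
  induction j with
  | zero =>
    intro a ha g hg _
    have : a = m := by omega
    rw [this, Ege_top, Subgroup.mem_bot] at hg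
    exact hg
  | succ j ih =>
    intro a ha g hg hπg
    have ha' : a < m := by omega
    obtain ⟨t, g', hg', rfl⟩ := S.Ege_decomp e m he hne hterms ha' hg
    have ht : t = 0 := by
      apply hind a ha' t
      rw [map_mul, mul_eq_one_iff_eq_inv] at hπg
      rw [hπg]
      exact inv_mem (Subgroup.mem_map_of_mem _ hg')
    rw [ht, S.xb_zero (he a ha'), one_mul] at hπg ⊢
    exact ih (a + 1) (by omega) g' hg' hπg

end ordered

end StD

end Cfsg.Agent.Helper7.St
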