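import Mathlib
import Cfsg.Agent.Helper7.ExchangeWords

set_option autoImplicit false

/-!
A group generated by involutions satisfying the exchange property is a Coxeter group
(Bourbaki, Lie IV §1.5 Prop. 5 and §1.6 Thm. 1).
-/

namespace Cfsg.Agent.Helper7.CoxExch

open Cfsg.Agent.Helper7.InvWords
open CoxeterSystem (alternatingWord)

section wp

variable {B G : Type*} [Group G] (g : B → G)

/-- Product of a word. -/
def wp (ω : List B) : G := (ω.map g).prod

@[simp] theorem wp_nil : wp g [] = 1 := rfl

theorem wp_cons (b : B) (ω : List B) : wp g (b :: ω) = g b * wp g ω := by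
  unfold wp
  rw [List.map_cons, List.prod_cons]

theorem wp_append (ω ω' : List B) : wp g (ω ++ ω') = wp g ω * wp g ω' := by
  unfold wp
  rw [List.map_append, List.prod_append]

theorem wp_singleton (b : B) : wp g [b] = g b := by
  rw [wp_cons, wp_nil, mul_one]

theorem wp_concat (ω : List B) (b : B) : wp g (ω.concat b) = wp g ω * g b := by
  rw [List.concat_eq_append, wp_append, wp_singleton]

theorem wp_alt (hg : ∀ b, g b * g b = 1) (q : ℕ) : ∀ a b : B,
    (wp g (alternatingWord a b q))⁻¹ * wp g (alternatingWord b a q) = (g b * g a) ^ q := by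
  induction q with
  | zero =>
    intro a b
    simp [alternatingWord]
  | succ q ih =>
    intro a b
    rw [CoxeterSystem.alternatingWord_succ, CoxeterSystem.alternatingWord_succ, wp_concat,
      wp_concat, mul_inv_rev]
    have hb : (g b)⁻¹ = g b := inv_eq_of_mul_eq_one_right (hg b)
    have e : (g b)⁻¹ * (wp g (alternatingWord b a q))⁻¹ * (wp g (alternatingWord a b q) * g a) =
        (g b)⁻¹ * ((wp g (alternatingWord b a q))⁻¹ * wp g (alternatingWord a b q)) * g a := by
      group
    rw [e, ih b a, hb, pow_succ, ← mul_assoc, mul_pow_mul]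

end wp

section main

variable {W : Type*} [Group W] {B : Type*} (ι : B → W)

/-- The hypotheses on `(W, ι)`. -/
structure Hyp : Prop where
  inj : Function.Injective ι
  invol : Invol (Set.range ι)
  one_not_mem : (1 : W) ∉ Set.range ι
  exch : Exchange (Set.range ι)
  gen : Subgroup.closure (Set.range ι) = ⊤

/-- A word over `B` is reduced in `W`. -/
def Red (ω : List B) : Prop := ω.length = len (Set.range ι) (wp ι ω)

variable {ι}

theorem isWord_map (ω : List B) : IsWord (Set.range ι) (ω.map ι) := by
  intro x hx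
  obtain ⟨b, -, rfl⟩ := List.mem_map.1 hx
  exact ⟨b, rfl⟩

theorem len_wp_le (ω : List B) : len (Set.range ι) (wp ι ω) ≤ ω.length := by
  have := len_le_of_word (isWord_map (ι := ι) ω)
  rwa [List.length_map] at this

theorem Hyp.mem (h : Hyp ι) (w : W) : w ∈ Subgroup.closure (Set.range ι) := by
  rw [h.gen]
  exact Subgroup.mem_top w

theorem Hyp.sq (h : Hyp ι) (b : B) : ι b * ι b = 1 := h.invol _ ⟨b, rfl⟩

theorem Red.tail (h : Hyp ι) {b : B} {ω : List B} (hr : Red ι (b :: ω)) : Red ι ω := by
  have := IsReduced.tail h.invol (r := ι b) (l := ω.map ι) (isWord_map (ι := ι) (b :: ω))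
    (by
      unfold InvWords.IsReduced
      unfold Red wp at hr
      simpa using hr)
  unfold InvWords.IsReduced at this
  unfold Red wp
  simpa using this

theorem Red.init (h : Hyp ι) {b : B} {ω : List B} (hr : Red ι (ω ++ [b])) : Red ι ω := by
  unfold Red at hr ⊢
  rw [wp_append, wp_singleton, List.length_append, List.length_singleton] at hr
  have h1 := len_mul_gen_le h.invol (r := ι b) ⟨b, rfl⟩ (h.mem (wp ι ω))
  have h2 := len_wp_le (ι := ι) ω
  omega

theorem red_of_length_le {ω : List B} (hle : ω.length ≤ len (Set.range ι) (wp ι ω)) : Red ι ω :=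
  le_antisymm hle (len_wp_le ω)

/-- Exchange for words over `B`. -/
theorem Hyp.exchB (h : Hyp ι) (ω : List B) (b : B) (hred : Red ι ω)
    (hle : len (Set.range ι) (ι b * wp ι ω) ≤ len (Set.range ι) (wp ι ω)) :
    ∃ i < ω.length, ι b * wp ι ω = wp ι (ω.eraseIdx i) := by
  obtain ⟨i, hi, he⟩ := h.exch (ω.map ι) (ι b) (isWord_map ω) ⟨b, rfl⟩
    (by rw [List.length_map]; exact hred) hle
  rw [List.length_map] at hi
  refine ⟨i, hi, ?_⟩
  rw [List.eraseIdx_map] at he
  exact he


section matsumoto

variable {G : Type*} [Group G] (ι) (g : B → G)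

/-- Matsumoto's property at length `q`. -/
def Mats (q : ℕ) : Prop :=
  ∀ ω ω' : List B, ω.length = q → ω'.length = q → Red ι ω → Red ι ω' → wp ι ω = wp ι ω' →
    wp g ω = wp g ω'

variable {ι} {g}

theorem stepA (h : Hyp ι) {q : ℕ} (IH : Mats ι g q) {s₀ t' : List B} {c d : B}
    (hlen : s₀.length = q) (hlen' : t'.length = q) (hr : Red ι (s₀ ++ [d]))
    (hr' : Red ι (c :: t')) (hw : wp ι (s₀ ++ [d]) = wp ι (c :: t'))
    (hne : wp g (s₀ ++ [d]) ≠ wp g (c :: t')) :
    Red ι (c :: s₀) ∧ wp ι (c :: s₀) = wp ι (s₀ ++ [d]) ∧ wp g (c :: s₀) ≠ wp g (s₀ ++ [d]) := by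
  have e1 : ι c * wp ι (s₀ ++ [d]) = wp ι t' := by
    rw [hw, wp_cons, ← mul_assoc, h.sq, one_mul]
  have hslen : (s₀ ++ [d]).length = q + 1 := by
    rw [List.length_append, List.length_singleton, hlen]
  have hlenw : len (Set.range ι) (wp ι (s₀ ++ [d])) = q + 1 := by
    rw [← hslen]
    exact hr.symm
  have hle : len (Set.range ι) (ι c * wp ι (s₀ ++ [d])) ≤ len (Set.range ι) (wp ι (s₀ ++ [d])) := by
    rw [e1, hlenw]
    have := len_wp_le (ι := ι) t'
    omega
  obtain ⟨j, hj, he⟩ := h.exchB (s₀ ++ [d]) c hr hle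
  have hredt' : Red ι t' := hr'.tail h
  have hlen_e : ((s₀ ++ [d]).eraseIdx j).length = q := by
    rw [List.length_eraseIdx_of_lt hj, hslen]
    rfl
  have hwu : wp ι (c :: (s₀ ++ [d]).eraseIdx j) = wp ι (s₀ ++ [d]) := by
    rw [wp_cons, ← he, ← mul_assoc, h.sq, one_mul]
  have hredu : Red ι (c :: (s₀ ++ [d]).eraseIdx j) := by
    apply red_of_length_le
    rw [hwu, hlenw, List.length_cons, hlen_e]
  have hgu : wp g (c :: (s₀ ++ [d]).eraseIdx j) = wp g (c :: t') := by
    rw [wp_cons, wp_cons, IH _ _ hlen_e hlen' (hredu.tail h) hredt' (he.symm.trans e1)]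
  rw [hslen] at hj
  by_cases hjq : j = s₀.length
  · have hd : (s₀ ++ [d]).eraseIdx j = s₀ := by
      rw [← List.dropLast_eq_eraseIdx (xs := s₀ ++ [d]) (i := j)
        (by rw [List.length_append, List.length_singleton, hjq]), List.dropLast_concat]
    rw [hd] at hredu hwu hgu
    refine ⟨hredu, hwu, ?_⟩
    rw [hgu]
    exact hne.symm
  · exfalso
    have hjlt : j < s₀.length := by omega
    have hd : (s₀ ++ [d]).eraseIdx j = s₀.eraseIdx j ++ [d] :=
      List.eraseIdx_append_of_lt_length hjlt [d]
    rw [hd] at hredu hwu hgu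
    apply hne
    rw [← hgu]
    have hredu' : Red ι ((c :: s₀.eraseIdx j) ++ [d]) := by
      rw [List.cons_append]
      exact hredu
    have hwu' : wp ι (c :: s₀.eraseIdx j) = wp ι s₀ := by
      have := hwu
      rw [← List.cons_append, wp_append, wp_append] at this
      exact mul_right_cancel this
    have hl : (c :: s₀.eraseIdx j).length = q := by
      rw [List.length_cons, List.length_eraseIdx_of_lt hjlt]
      omega
    have := IH _ _ hl hlen (hredu'.init h) (hr.init h) hwu'
    rw [wp_append, ← List.cons_append, wp_append, this]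

theorem stepA' (h : Hyp ι) {q : ℕ} (IH : Mats ι g q) {s s' t' : List B} {c : B}
    (hs' : s' = c :: t') (hlen : s.length = q + 1) (hlen' : s'.length = q + 1) (hr : Red ι s)
    (hr' : Red ι s') (hw : wp ι s = wp ι s') (hne : wp g s ≠ wp g s') :
    Red ι (c :: s.dropLast) ∧ wp ι (c :: s.dropLast) = wp ι s ∧
      wp g (c :: s.dropLast) ≠ wp g s := by
  have hsne : s ≠ [] := by
    intro h0
    rw [h0] at hlen
    simp at hlen
  obtain ⟨s₀, d, rfl⟩ : ∃ s₀ d, s = s₀ ++ [d] :=
    ⟨s.dropLast, s.getLast hsne, (List.dropLast_append_getLast hsne).symm⟩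
  subst hs'
  rw [List.dropLast_concat]
  have hl0 : s₀.length = q := by
    rw [List.length_append, List.length_singleton] at hlen
    omega
  have hl' : t'.length = q := by
    rw [List.length_cons] at hlen'
    omega
  exact stepA h IH hl0 hl' hr hr' hw hne

/-- The sequence of words in Bourbaki's argument. -/
def ys (a b : B) (s : List B) : ℕ → List B
  | 0 => s
  | k + 1 => (if Even k then b else a) :: (ys a b s k).dropLast

theorem ys_zero (a b : B) (s : List B) : ys a b s 0 = s := rfl

theorem ys_succ (a b : B) (s : List B) (k : ℕ) :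
    ys a b s (k + 1) = (if Even k then b else a) :: (ys a b s k).dropLast := rfl

theorem ys_length (a b : B) (s : List B) (hs : s ≠ []) (k : ℕ) :
    (ys a b s k).length = s.length := by
  induction k with
  | zero => rfl
  | succ k ih =>
    rw [ys_succ, List.length_cons, List.length_dropLast, ih]
    have : 0 < s.length := List.length_pos_of_ne_nil hs
    omega

theorem ys_head (a b : B) (t : List B) (k : ℕ) :
    ∃ tl, ys a b (a :: t) k = (if Even (k + 1) then b else a) :: tl := by
  cases k with
  | zero => exact ⟨t, by simp [ys_zero]⟩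
  | succ k =>
    refine ⟨(ys a b (a :: t) k).dropLast, ?_⟩
    rw [ys_succ]
    have : Even (k + 1 + 1) ↔ Even k := by
      rw [Nat.even_add_one, Nat.even_add_one, not_not]
    simp only [this]

theorem ys_eq (a b : B) (s : List B) (k : ℕ) (hk : k ≤ s.length) :
    ys a b s k = alternatingWord a b k ++ s.take (s.length - k) := by
  induction k with
  | zero =>
    rw [ys_zero, Nat.sub_zero, List.take_length]
    rfl
  | succ k ih =>
    rw [ys_succ, ih (by omega), CoxeterSystem.alternatingWord_succ']
    have hne : s.take (s.length - k) ≠ [] := by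
      intro h0
      have := congrArg List.length h0
      rw [List.length_take] at this
      simp at this
      omega
    rw [List.dropLast_append_of_ne_nil hne, List.dropLast_eq_take, List.length_take,
      List.take_take, List.cons_append]
    have e : min (min (s.length - k) s.length - 1) (s.length - k) = s.length - (k + 1) := by
      omega
    rw [e]

theorem matsumoto (h : Hyp ι) (hg : ∀ b, g b * g b = 1)
    (hbraid : ∀ a b, (g a * g b) ^ orderOf (ι a * ι b) = 1) : ∀ q, Mats ι g q := by
  intro q
  induction q with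
  | zero =>
    intro ω ω' hl hl' _ _ _
    rw [List.length_eq_zero_iff] at hl hl'
    rw [hl, hl']
  | succ q IH =>
    intro ω ω' hl hl' hr hr' hw
    by_contra hne
    obtain ⟨a, t, rfl⟩ := List.exists_cons_of_length_eq_add_one hl
    obtain ⟨b, t', rfl⟩ := List.exists_cons_of_length_eq_add_one hl'
    have hsne : (a :: t) ≠ [] := List.cons_ne_nil a t
    have key : ∀ k, Red ι (ys a b (a :: t) k) ∧ wp ι (ys a b (a :: t) k) = wp ι (a :: t) ∧
        Red ι (ys a b (a :: t) (k + 1)) ∧ wp ι (ys a b (a :: t) (k + 1)) = wp ι (a :: t) ∧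
        wp g (ys a b (a :: t) (k + 1)) ≠ wp g (ys a b (a :: t) k) := by
      intro k
      induction k with
      | zero =>
        have := stepA' h IH (s := a :: t) (s' := b :: t') rfl hl hl' hr hr' hw hne
        rw [ys_succ, ys_zero, if_pos (by decide : Even 0)]
        exact ⟨hr, rfl, this⟩
      | succ k ihk =>
        obtain ⟨h1, h2, h3, h4, h5⟩ := ihk
        obtain ⟨tl, htl⟩ := ys_head a b t k
        have := stepA' h IH (s := ys a b (a :: t) (k + 1)) (s' := ys a b (a :: t) k) htl
          (by rw [ys_length a b _ hsne, hl]) (by rw [ys_length a b _ hsne, hl]) h3 h1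
          (h4.trans h2.symm) h5
        rw [← ys_succ] at this
        exact ⟨h3, h4, this.1, this.2.1.trans h4, this.2.2⟩
    obtain ⟨-, h2, -, h4, h5⟩ := key q
    have e1 : ys a b (a :: t) (q + 1) = alternatingWord a b (q + 1) := by
      rw [ys_eq a b _ _ (by rw [hl]), hl, Nat.sub_self, List.take_zero, List.append_nil]
    have e2 : ys a b (a :: t) q = alternatingWord b a (q + 1) := by
      rw [ys_eq a b _ _ (by rw [hl]; omega), hl, CoxeterSystem.alternatingWord_succ,
        List.concat_eq_append]
      congr 1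
      have : q + 1 - q = 1 := by omega
      rw [this]
      rfl
    rw [e1] at h4 h5
    rw [e2] at h2 h5
    apply h5
    have hW := wp_alt ι h.sq (q + 1) a b
    rw [h4, h2, inv_mul_cancel] at hW
    have hdvd : orderOf (ι b * ι a) ∣ q + 1 := orderOf_dvd_iff_pow_eq_one.2 hW.symm
    obtain ⟨c, hc⟩ := hdvd
    have hG := wp_alt g hg (q + 1) a b
    have hp : (g b * g a) ^ (q + 1) = 1 := by
      rw [hc, pow_mul, hbraid b a, one_pow]
    rw [hp] at hG
    exact (inv_mul_eq_one.1 hG)

/-- Every word is equivalent to a reduced one. -/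
theorem exists_red (h : Hyp ι) (hg : ∀ b, g b * g b = 1)
    (hbraid : ∀ a b, (g a * g b) ^ orderOf (ι a * ι b) = 1) (ω : List B) :
    ∃ ω', Red ι ω' ∧ wp ι ω' = wp ι ω ∧ wp g ω' = wp g ω := by
  induction ω with
  | nil =>
    refine ⟨[], ?_, rfl, rfl⟩
    unfold Red
    rw [wp_nil, len_one]
    rfl
  | cons b ω₁ ih =>
    obtain ⟨ω₁', hr1, hw1, hg1⟩ := ih
    by_cases hred : Red ι (b :: ω₁')
    · exact ⟨b :: ω₁', hred, by rw [wp_cons, wp_cons, hw1], by rw [wp_cons, wp_cons, hg1]⟩
    · have hle : len (Set.range ι) (ι b * wp ι ω₁') ≤ len (Set.range ι) (wp ι ω₁') := by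
        have h1 := len_wp_le (ι := ι) (b :: ω₁')
        rw [wp_cons, List.length_cons] at h1
        have h2 : ¬ ((b :: ω₁').length = len (Set.range ι) (wp ι (b :: ω₁'))) := hred
        rw [wp_cons, List.length_cons] at h2
        have h3 : ω₁'.length = len (Set.range ι) (wp ι ω₁') := hr1
        omega
      obtain ⟨j, hj, he⟩ := h.exchB ω₁' b hr1 hle
      have hwv : wp ι (b :: ω₁'.eraseIdx j) = wp ι ω₁' := by
        rw [wp_cons, ← he, ← mul_assoc, h.sq, one_mul]
      have hlv : (b :: ω₁'.eraseIdx j).length = ω₁'.length := by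
        rw [List.length_cons, List.length_eraseIdx_of_lt hj]
        omega
      have hrv : Red ι (b :: ω₁'.eraseIdx j) := by
        apply red_of_length_le
        rw [hwv, hlv]
        exact le_of_eq hr1
      have hm := matsumoto h hg hbraid ω₁'.length _ _ hlv rfl hrv hr1 hwv
      refine ⟨ω₁'.eraseIdx j, hrv.tail h, ?_, ?_⟩
      · rw [← he, wp_cons, hw1]
      · rw [wp_cons, ← hg1, ← hm, wp_cons, ← mul_assoc, hg, one_mul]

end matsumoto


section coxeter

theorem Hyp.inv_eq (h : Hyp ι) (b : B) : (ι b)⁻¹ = ι b := h.invol.inv_eq ⟨b, rfl⟩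

/-- The Coxeter matrix of orders of products. -/
noncomputable def coxMat (h : Hyp ι) : CoxeterMatrix B where
  M := Matrix.of fun a b => orderOf (ι a * ι b)
  isSymm := by
    ext a b
    rw [Matrix.transpose_apply, Matrix.of_apply, Matrix.of_apply]
    have : (ι b * ι a)⁻¹ = ι a * ι b := by rw [mul_inv_rev, h.inv_eq, h.inv_eq]
    rw [← this, orderOf_inv]
  diagonal := by
    intro a
    rw [Matrix.of_apply, h.sq, orderOf_one]
  off_diagonal := by
    intro a b hab h1
    rw [Matrix.of_apply, orderOf_eq_one_iff] at h1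
    apply hab
    apply h.inj
    have := eq_inv_of_mul_eq_one_left h1
    rw [this, h.inv_eq]

theorem coxMat_apply (h : Hyp ι) (a b : B) : (coxMat h) a b = orderOf (ι a * ι b) := rfl

theorem isLiftable (h : Hyp ι) : (coxMat h).IsLiftable ι := by
  intro a b
  rw [coxMat_apply]
  exact pow_orderOf_eq_one _

/-- The natural map from the Coxeter group to `W`. -/
noncomputable def toW (h : Hyp ι) : (coxMat h).Group →* W :=
  (coxMat h).toCoxeterSystem.lift ⟨ι, isLiftable h⟩

theorem toW_simple (h : Hyp ι) (b : B) :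
    toW h ((coxMat h).toCoxeterSystem.simple b) = ι b :=
  (coxMat h).toCoxeterSystem.lift_apply_simple (isLiftable h) b

theorem toW_wp (h : Hyp ι) (ω : List B) :
    toW h (wp (coxMat h).toCoxeterSystem.simple ω) = wp ι ω := by
  induction ω with
  | nil => simp
  | cons b ω ih => rw [wp_cons, wp_cons, map_mul, ih, toW_simple]

theorem toW_injective (h : Hyp ι) : Function.Injective (toW h) := by
  rw [injective_iff_map_eq_one]
  intro x hx
  obtain ⟨ω, rfl⟩ := (coxMat h).toCoxeterSystem.wordProd_surjective x
  have hx' : toW h (wp (coxMat h).toCoxeterSystem.simple ω) = 1 := hx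
  rw [toW_wp] at hx'
  obtain ⟨ω', hr, hw, hg⟩ := exists_red (g := (coxMat h).toCoxeterSystem.simple) h
    (fun b => (coxMat h).toCoxeterSystem.simple_mul_simple_self b)
    (fun a b => by
      have := (coxMat h).toCoxeterSystem.simple_mul_simple_pow a b
      rwa [coxMat_apply] at this) ω
  have hlen : ω'.length = 0 := by
    have : ω'.length = len (Set.range ι) (wp ι ω') := hr
    rw [this, hw, hx', len_one]
  rw [List.length_eq_zero_iff] at hlen
  have : (coxMat h).toCoxeterSystem.wordProd ω = wp (coxMat h).toCoxeterSystem.simple ω := rfl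
  rw [this, ← hg, hlen, wp_nil]

theorem toW_surjective (h : Hyp ι) : Function.Surjective (toW h) := by
  rw [← MonoidHom.range_eq_top, eq_top_iff, ← h.gen, Subgroup.closure_le]
  rintro _ ⟨b, rfl⟩
  exact ⟨_, toW_simple h b⟩

/-- The Coxeter system on `W`. -/
noncomputable def coxSys (h : Hyp ι) : CoxeterSystem (coxMat h) W :=
  ⟨(MulEquiv.ofBijective (toW h) ⟨toW_injective h, toW_surjective h⟩).symm⟩

theorem coxSys_simple (h : Hyp ι) (b : B) : (coxSys h).simple b = ι b := by
  have : (coxSys h).simple b = toW h ((coxMat h).toCoxeterSystem.simple b) := rfl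
  rw [this, toW_simple]

/-- A group generated by involutions with the exchange property is a Coxeter group. -/
theorem exists_coxeterSystem (h : Hyp ι) :
    ∃ (M : CoxeterMatrix B) (cs : CoxeterSystem M W), ∀ b : B, cs.simple b = ι b :=
  ⟨coxMat h, coxSys h, coxSys_simple h⟩

end coxeter

end main

end Cfsg.Agent.Helper7.CoxExch
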