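import Mathlib
import Cfsg.Agent.Helper7.BNBruhat
import Cfsg.Agent.Helper7.CoxeterOfExchange

set_option autoImplicit false

/-!
The Weyl group of a (B,N)-pair is a Coxeter group: a homomorphism from `N` onto the Coxeter group of a given
Coxeter matrix, as soon as the orders of the products of the distinguished generators are given by the matrix.
-/

namespace Cfsg.Agent.Helper7.BN

open Cfsg Cfsg.Agent.Helper7.InvWords Cfsg.Agent.Helper7.CoxExch

theorem coxeterMatrix_ext {B : Type*} {M M' : CoxeterMatrix B} (h : ∀ a b, M a b = M' a b) :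
    M = M' := by
  cases M
  cases M'
  congr
  ext a b
  exact h a b

theorem coxeterSystem_cast {B W : Type*} [Group W] {M M' : CoxeterMatrix B} (e : M' = M)
    (cs : CoxeterSystem M' W) : ∃ cs' : CoxeterSystem M W, ∀ b, cs'.simple b = cs.simple b := by
  subst e
  exact ⟨cs, fun _ => rfl⟩

variable {G : Type*} [Group G] (P : Cfsg.BNPair G)

/-- A homomorphism from `N` onto the Coxeter group with kernel `B ⊓ N`. -/
theorem exists_coxeter_hom {n : ℕ} (M : CoxeterMatrix (Fin n)) (s : Fin n → G)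
    (hs : ∀ i, s i ∈ P.S) (hsurj : ∀ x ∈ P.S, ∃ i, s i = x) (hinj : Function.Injective s)
    (hMpos : ∀ i j, 0 < M i j)
    (hpow : ∀ i j, (s i * s j) ^ (M i j) ∈ P.B ∧
      ∀ k, 0 < k → k < M i j → (s i * s j) ^ k ∉ P.B) :
    ∃ φ : P.N →* M.Group, Function.Surjective φ ∧ φ.ker = TN P ∧
      ∀ i, φ ⟨s i, P.subset (hs i)⟩ = M.simple i := by
  set ι : Fin n → W P := fun i => proj P ⟨s i, P.subset (hs i)⟩ with hι
  have hrange : Set.range ι = RS P := by
    ext r
    constructor
    · rintro ⟨i, rfl⟩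
      exact mem_Rset_of_mem P (hs i) (P.subset (hs i))
    · rintro ⟨x, hx, rfl⟩
      obtain ⟨i, hi⟩ := hsurj _ hx
      refine ⟨i, ?_⟩
      change proj P ⟨s i, _⟩ = proj P x
      congr 1
      exact Subtype.ext hi
  have hyp : Hyp ι := by
    refine ⟨?_, ?_, ?_, ?_, ?_⟩
    · intro i j hij
      change proj P ⟨s i, _⟩ = proj P ⟨s j, _⟩ at hij
      rw [proj_eq_iff] at hij
      exact hinj (P.inj _ (hs i) _ (hs j) hij)
    · rw [hrange]; exact invol_RS P
    · rw [hrange]; exact one_not_mem_RS P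
    · rw [hrange]; exact exchange_RS P
    · rw [hrange]; exact closure_RS P
  have hpowι : ∀ i j k, (ι i * ι j) ^ k = 1 ↔ (s i * s j) ^ k ∈ P.B := by
    intro i j k
    change (proj P ⟨s i, _⟩ * proj P ⟨s j, _⟩) ^ k = 1 ↔ _
    rw [← map_mul, ← map_pow, proj_eq_one_iff]
    rfl
  have hM : coxMat hyp = M := by
    apply coxeterMatrix_ext
    intro i j
    rw [coxMat_apply, orderOf_eq_iff (hMpos i j)]
    constructor
    · exact (hpowι i j _).mpr (hpow i j).1
    · intro k hk hk0 h1
      exact (hpow i j).2 k hk0 hk ((hpowι i j k).mp h1)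
  obtain ⟨cs, hcs⟩ := coxeterSystem_cast hM (coxSys hyp)
  refine ⟨cs.mulEquiv.toMonoidHom.comp (proj P), ?_, ?_, ?_⟩
  · exact cs.mulEquiv.surjective.comp (proj_surjective P)
  · ext x
    rw [MonoidHom.mem_ker, MonoidHom.comp_apply]
    change cs.mulEquiv (proj P x) = 1 ↔ _
    rw [MulEquiv.map_eq_one_iff]
    change QuotientGroup.mk' (TN P) x = 1 ↔ _
    rw [← MonoidHom.mem_ker, QuotientGroup.ker_mk']
  · intro i
    rw [MonoidHom.comp_apply]
    change cs.mulEquiv (ι i) = _
    rw [← coxSys_simple hyp i, ← hcs i]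
    exact cs.mulEquiv.apply_symm_apply (M.simple i)

end Cfsg.Agent.Helper7.BN
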