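import Mathlib
import Cfsg.Agent.Helper7.BNCoxeter
import Cfsg.Agent.Helper7.ChevBN

set_option autoImplicit false
set_option linter.unusedSectionVars false
set_option linter.unusedVariables false

/-!
`N / H` is the Coxeter group of the type of a Chevalley group.
-/

namespace Cfsg.Agent.Helper7.Chev

open Cfsg Cfsg.Lie Matrix

/-- The `k`-fold repetition of a word. -/
def repW : ℕ → List ℕ → List ℕ
  | 0, _ => []
  | k + 1, w => w ++ repW k w

theorem mem_repW {k : ℕ} {w : List ℕ} {i : ℕ} (h : i ∈ repW k w) : i ∈ w := by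
  induction k with
  | zero => exact absurd h (List.not_mem_nil)
  | succ k ih =>
    rcases List.mem_append.mp h with h | h
    · exact h
    · exact ih h

namespace Tab

variable (T : Tab)

/-- The word preserves the set of the positive roots. -/
def posPres (w : List ℕ) : Prop := AllLt T.n (fun s => T.n / 2 ≤ s → T.n / 2 ≤ T.reflWord w s)

instance (w : List ℕ) : Decidable (T.posPres w) := by unfold posPres; infer_instance

/-- The orders of the products of two fundamental reflections. -/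
def T21 (m : ℕ → ℕ → ℕ) : Prop :=
  AllLt T.l (fun i => AllLt T.l (fun j => 0 < m i j ∧ T.posPres (repW (m i j) [i, j]) ∧
    AllLt (m i j) (fun k => 0 < k → ¬ T.posPres (repW k [i, j]))))

instance (m : ℕ → ℕ → ℕ) : Decidable (T.T21 m) := by unfold T21; infer_instance

end Tab

variable {D : ChevalleyDatum} {F : Type*} [Field F]

section cox

variable (hG : Good2 D) (hT : T0 D) (h3 : (tabOf D).T3) (h4 : (tabOf D).T4 60) (h5 : (tabOf D).T5)
  (h6 : (tabOf D).T6) (h8 : (tabOf D).T8) (h9 : (tabOf D).T9)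

theorem nWordGL_repW (k : ℕ) (w : List ℕ) :
    (nWordGL hG (repW k w) : GL D.Idx F) = (nWordGL hG w) ^ k := by
  induction k with
  | zero => rw [pow_zero]; rfl
  | succ k ih =>
    change nWordGL hG (w ++ repW k w) = _
    rw [nWordGL_append, ih, pow_succ']

include hG hT h6 h8 in
/-- The element of `N` of a word lies in `B` exactly when the word preserves the positive roots. -/
theorem nWordGL_mem_borel_iff {w : List ℕ} (hw : ∀ i ∈ w, i < D.rank) :
    (nWordGL hG w : GL D.Idx F) ∈ D.borelSubgroup F ↔ (tabOf D).posPres w := by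
  constructor
  · intro h s hs hsp
    exact reflWord_pos_of_mem_borel hG hT h8 hw h s hs hsp
  · intro h
    have hHB : D.diagonalSubgroup F ≤ D.borelSubgroup F := le_sup_right
    exact hHB (nWordGL_mem_diagonal_of_pos hG hT h6 h8 w.length w rfl hw (fun s hs hsp => h s hs hsp))

include hG hT h3 h4 h5 h6 h8 h9 in
/-- `N / H` is the Coxeter group of the given Coxeter matrix. -/
theorem exists_coxeter_hom_chev {n : ℕ} (hn : n = D.rank) (M : CoxeterMatrix (Fin n))
    {m : ℕ → ℕ → ℕ} (hm : ∀ i j : Fin n, M i j = m i j) (h21 : (tabOf D).T21 m) :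
    ∃ φ : ↥(D.monomialSubgroup F) →* M.Group, Function.Surjective φ ∧
      φ.ker = (D.diagonalSubgroup F).subgroupOf (D.monomialSubgroup F) ∧
      ∀ (i : Fin n) (g : ↥(D.monomialSubgroup F)),
        ((g : GL D.Idx F) : Matrix D.Idx D.Idx F) = D.nMat F (D.simple i) 1 → φ g = M.simple i := by
  have hG1 := hG.toGood1
  subst hn
  have hBG : D.borelSubgroup F ≤ D.group F := borelSubgroup_le_group hG1
  have hNG : D.monomialSubgroup F ≤ D.group F := monomialSubgroup_le_group hG1
  obtain ⟨P, hPB, hPN, hPS⟩ := exists_bnPair (F := F) hG hT h3 h4 h5 h6 h8 h9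
  have hnG : ∀ i (hi : i < D.rank), (nGL hG1 (hG1.simple_lt hi) : GL D.Idx F) ∈ D.group F :=
    fun i hi => hNG (nGL_mem_monomial hG (hG1.simple_lt hi))
  set s : Fin D.rank → ↥(D.group F) := fun i => ⟨nGL hG1 (hG1.simple_lt i.2), hnG i i.2⟩ with hs
  have hsS : ∀ i, s i ∈ P.S := by
    intro i
    rw [hPS]
    exact ⟨i, i.2, nGL_coe hG1 _⟩
  have hsurj : ∀ x ∈ P.S, ∃ i, s i = x := by
    intro x hx
    rw [hPS] at hx
    obtain ⟨i, hi, hx⟩ := hx
    exact ⟨⟨i, hi⟩, Subtype.ext (Units.ext ((nGL_coe hG1 _).trans hx.symm))⟩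
  have hinj : Function.Injective s := by
    intro i j hij
    by_contra hne
    have hne' : i.val ≠ j.val := fun h => hne (Fin.ext h)
    have h1 : (nGL hG1 (hG1.simple_lt i.2) : GL D.Idx F) = nGL hG1 (hG1.simple_lt j.2) :=
      congrArg Subtype.val hij
    apply nGL_inv_mul_not_mem_borel (F := F) hG hT h6 h8 h9 i.2 j.2 hne'
    rw [h1, inv_mul_cancel]
    exact one_mem _
  have hwij : ∀ (i j : Fin D.rank) (k : ℕ), ∀ a ∈ repW k [i.val, j.val], a < D.rank := by
    intro i j k a ha
    have := mem_repW ha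
    simp only [List.mem_cons, List.not_mem_nil, or_false] at this
    rcases this with rfl | rfl
    · exact i.2
    · exact j.2
  have hpowB : ∀ (i j : Fin D.rank) (k : ℕ),
      (s i * s j) ^ k ∈ P.B ↔ (tabOf D).posPres (repW k [i.val, j.val]) := by
    intro i j k
    rw [hPB, Subgroup.mem_subgroupOf, ← nWordGL_mem_borel_iff (F := F) hG hT h6 h8 (hwij i j k),
      nWordGL_repW, nWordGL_cons hG i.2, nWordGL_cons hG j.2, nWordGL_nil, mul_one]
    rfl
  have h21' : ∀ i j : Fin D.rank, 0 < M i j ∧ (s i * s j) ^ (M i j) ∈ P.B ∧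
      ∀ k, 0 < k → k < M i j → (s i * s j) ^ k ∉ P.B := by
    intro i j
    obtain ⟨c1, c2, c3⟩ := h21 i.val i.2 j.val j.2
    rw [hm i j]
    refine ⟨c1, (hpowB i j _).mpr c2, fun k hk0 hk => ?_⟩
    rw [hpowB]
    exact c3 k hk hk0
  obtain ⟨φ, hφs, hφk, hφi⟩ := BN.exists_coxeter_hom P M s hsS hsurj hinj (fun i j => (h21' i j).1)
    (fun i j => (h21' i j).2)
  -- transport to the monomial subgroup
  have hmemN : ∀ g : ↥(D.monomialSubgroup F), (⟨g, hNG g.2⟩ : ↥(D.group F)) ∈ P.N := by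
    intro g
    rw [hPN]
    exact g.2
  let ψ : ↥(D.monomialSubgroup F) →* ↥P.N :=
    { toFun := fun g => ⟨⟨g, hNG g.2⟩, hmemN g⟩
      map_one' := rfl
      map_mul' := fun _ _ => rfl }
  have hψs : Function.Surjective ψ := by
    rintro ⟨⟨g, hgG⟩, hgN⟩
    have hgN' : g ∈ D.monomialSubgroup F := by
      rw [hPN] at hgN
      exact hgN
    exact ⟨⟨g, hgN'⟩, rfl⟩
  refine ⟨φ.comp ψ, hφs.comp hψs, ?_, ?_⟩
  · ext g
    have hBmem : ∀ x : ↥(D.group F), x ∈ P.B ↔ (x : GL D.Idx F) ∈ D.borelSubgroup F := by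
      intro x
      rw [hPB, Subgroup.mem_subgroupOf]
    rw [MonoidHom.mem_ker, MonoidHom.comp_apply, ← MonoidHom.mem_ker, hφk, Subgroup.mem_subgroupOf,
      Subgroup.mem_subgroupOf]
    change (⟨g, hNG g.2⟩ : ↥(D.group F)) ∈ P.B ⊓ P.N ↔ _
    rw [← borel_inf_monomial hG hT h6 h8 h9]
    constructor
    · intro h
      exact Subgroup.mem_inf.mpr ⟨(hBmem _).mp (Subgroup.mem_inf.mp h).1, g.2⟩
    · intro h
      exact Subgroup.mem_inf.mpr ⟨(hBmem _).mpr (Subgroup.mem_inf.mp h).1, hmemN g⟩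
  · intro i g hg
    rw [MonoidHom.comp_apply, ← hφi i]
    congr 1
    apply Subtype.ext
    apply Subtype.ext
    exact Units.ext (hg.trans (nGL_coe hG1 _).symm)

end cox

end Cfsg.Agent.Helper7.Chev
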