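import Mathlib
import Cfsg.Agent.Helper7.ChevCoxeter

set_option autoImplicit false

/-!
Table facts used for the presented groups of Steinberg: mirrored versions of the level-5 and level-7 facts
for the negative roots, witnesses expressing a fundamental root element through root elements of other roots,
and the braid identities of the reflections.
-/

namespace Cfsg.Agent.Helper7.Chev

open Cfsg Cfsg.Lie

namespace Tab

variable (T : Tab)

/-- The commutator terms of two negative roots `s < r` have index below `r`. -/
def T7m : Prop :=
  AllLt T.n (fun r => r < T.n / 2 → AllLt T.n (fun s => s < r →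
    (T.commTerms r s).all (fun c => decide (c.1 < r)) = true))

instance : Decidable T.T7m := by unfold T7m; infer_instance

/-- All roots of the commutator terms of `(r, s)` are negative and different from `q`. -/
def termsInN (q r s : ℕ) : Bool :=
  (T.commTerms r s).all (fun c => decide (c.1 < T.n / 2 ∧ c.1 ≠ q))

/-- Mirror of the level-5 fact: for a fundamental root `p` and a negative root `s ≠ -p` the roots
`± i p + j s` are negative and different from `-p`. -/
def T5m : Prop :=
  AllLt T.l (fun i => T.neg (T.simple i) < T.n / 2 ∧ AllLt T.n (fun s => s < T.n / 2 →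
    s ≠ T.neg (T.simple i) →
    T.termsInN (T.neg (T.simple i)) (T.simple i) s = true ∧
      T.termsInN (T.neg (T.simple i)) (T.neg (T.simple i)) s = true))

instance : Decidable T.T5m := by unfold T5m; infer_instance

/-- Membership in the set `w_q(Φ⁻)`. -/
def inPsi (q s : ℕ) : Bool := (decide (s < T.n / 2) && decide (s ≠ T.neg q)) || decide (s = q)

/-- The witness `(j, a, b)` expresses the root elements of the `i`-th fundamental root `p` through root
elements of roots `γ ≠ ± p` with `w_p γ ∈ w_q(Φ⁻)`, `q` the `j`-th fundamental root. -/
def witOK (i j a b : ℕ) : Bool :=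
  let p := T.simple i
  let q := T.simple j
  let L := T.commTerms a b
  decide (j < T.l) && decide (j ≠ i) && decide (a < T.n) && decide (b < T.n) &&
  decide (b ≠ a) && decide (b ≠ T.neg a) &&
  decide ((L.filter (fun c => decide (c.1 = p))).length = 1) &&
  L.all (fun c => decide (c.1 ≠ p) ||
    ((decide (c.2.1 = 1) || decide (c.2.1 = -1)) && (decide (c.2.2.1 = 1) || decide (c.2.2.2 = 1)))) &&
  ([a, b] ++ (L.filter (fun c => decide (c.1 ≠ p))).map (fun c => c.1)).all
    (fun g => decide (g ≠ p) && decide (g ≠ T.neg p) && decide (g < T.n) && T.inPsi q (T.refl p g))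

/-- Level-27 fact: the witnesses are valid. -/
def T37 (wit : ℕ → ℕ × ℕ × ℕ) : Prop :=
  AllLt T.l (fun i => T.witOK i (wit i).1 (wit i).2.1 (wit i).2.2 = true)

instance (wit : ℕ → ℕ × ℕ × ℕ) : Decidable (T.T37 wit) := by unfold T37; infer_instance

/-- The alternating word `i, j, i, …` of length `k`. -/
def altW (i j : ℕ) : ℕ → List ℕ
  | 0 => []
  | k + 1 => i :: altW j i k

/-- Level-28 fact (braid identities): for the order `m` of `w_i w_j`, the alternating word of length `m - 1`
starting with `i` maps the fundamental root following it in the alternation to the `j`-th fundamental root. -/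
def T38 (m : ℕ → ℕ → ℕ) : Prop :=
  AllLt T.l (fun i => AllLt T.l (fun j => i ≠ j →
    0 < m i j ∧
    T.reflWord (altW i j (m i j - 1)) (T.simple (if m i j % 2 = 1 then i else j)) = T.simple j))

instance (m : ℕ → ℕ → ℕ) : Decidable (T.T38 m) := by unfold T38; infer_instance

end Tab

end Cfsg.Agent.Helper7.Chev
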