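import Mathlib
import Cfsg.Agent.Helper7.StA
import Cfsg.Agent.Helper7.StCert

set_option autoImplicit false
set_option linter.unusedSectionVars false
set_option linter.unusedVariables false

/-!
The subgroups generated by the positive roots and by the negative roots of a group with the relations
(R1), (R2): the homomorphism to the matrix group is injective on each of them.
-/

namespace Cfsg.Agent.Helper7.St

open Cfsg Cfsg.Lie Matrix Cfsg.Agent.Helper7.Chev
open scoped Pointwise

variable {D : ChevalleyDatum} {K : Type*} [Field K] {Γ : Type*} [Group Γ] (S : StD D K Γ)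

namespace StD

/-- The subgroup generated by the positive roots. -/
def Ub : Subgroup Γ := S.XS (fun s => D.nroots / 2 ≤ s)

/-- The subgroup generated by the negative roots. -/
def Vb : Subgroup Γ := S.XS (fun s => s < D.nroots / 2)

section inj

variable (hG : Good2 D) (hT : T0 D) (h7 : (tabOf D).T7) (h7m : (tabOf D).T7m) (h8 : (tabOf D).T8)

include hG hT h7 h8 in
/-- The kernel of `π` on the subgroup of the positive roots is trivial. -/
theorem Ub_ker_trivial {g : Γ} (hg : g ∈ S.Ub) (hπ : S.π g = 1) : g = 1 := by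
  have hG1 := hG.toGood1
  have hle : D.nroots / 2 ≤ D.nroots := Nat.div_le_self _ _
  have hneg : ∀ k, k < D.nroots → D.neg k = D.nroots - 1 - k := fun k hk => (h8.1 k hk).1
  obtain ⟨e, he_def⟩ : ∃ e : ℕ → ℕ, ∀ a, e a = D.nroots / 2 + a := ⟨_, fun _ => rfl⟩
  obtain ⟨m, hm⟩ : ∃ m : ℕ, m = D.nroots - D.nroots / 2 := ⟨_, rfl⟩
  have he : ∀ a, a < m → e a < D.nroots := by intro a ha; simp only [he_def]; omega
  have hne : ∀ a b, a < b → b < m → e b ≠ e a ∧ e b ≠ D.neg (e a) := by
    intro a b hab hb
    have := hneg (e a) (he a (by omega))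
    simp only [he_def] at this ⊢
    constructor
    · omega
    · rw [this]; omega
  have hterms : ∀ a b, a < b → b < m → ∀ c ∈ D.commTerms (e a) (e b),
      ∃ k, a < k ∧ k < m ∧ c.1 = e k := by
    intro a b hab hb c hc
    have h := h7 (e a) (he a (by omega))
      (by show D.nroots / 2 ≤ e a; simp only [he_def]; exact Nat.le_add_right _ _)
      (e b) (he b hb) (by simp only [he_def]; omega)
    rw [List.all_eq_true] at h
    have hc' := of_decide_eq_true (h c (by rw [commTerms_eq]; exact hc))
    have hn : (tabOf D).n = D.nroots := rfl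
    rw [hn] at hc'
    simp only [he_def] at hc' ⊢
    exact ⟨c.1 - D.nroots / 2, by omega, by omega, by omega⟩
  have hind : ∀ a, a < m → ∀ t : K,
      S.π (S.xb (e a) t) ∈ (S.Ege e m (a + 1)).map S.π → t = 0 := by
    intro a ha t hmem
    have hk := he a ha
    rw [S.π_xb hG1 hk] at hmem
    apply eq_zero_of_xGL_mem_Uge hG hT h8 (by simp only [he_def]; exact Nat.le_add_right _ _) hk
    have hsub : (S.Ege e m (a + 1)).map S.π ≤ Uge D K (e a + 1) := by
      rw [Subgroup.map_le_iff_le_comap]
      unfold Ege XS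
      rw [Subgroup.closure_le]
      rintro x ⟨s, u, hs, ⟨k, hk1, hk2, rfl⟩, rfl⟩
      rw [SetLike.mem_coe, Subgroup.mem_comap]
      apply Subgroup.subset_closure
      exact ⟨e k, u, by simp only [he_def]; omega, hs, S.hπ _ hs u⟩
    exact hsub hmem
  have hg' : g ∈ S.Ege e m 0 := by
    refine S.XS_mono ?_ hg
    intro r hr hpos
    exact ⟨r - D.nroots / 2, Nat.zero_le _, by omega, by simp only [he_def]; omega⟩
  exact S.Ege_ker_trivial e m he hne hterms hind m 0 (by omega) g hg' hπ

include hG hT h7m h8 in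
/-- The kernel of `π` on the subgroup of the negative roots is trivial. -/
theorem Vb_ker_trivial {g : Γ} (hg : g ∈ S.Vb) (hπ : S.π g = 1) : g = 1 := by
  have hG1 := hG.toGood1
  have hle : D.nroots / 2 ≤ D.nroots := Nat.div_le_self _ _
  have hneg : ∀ k, k < D.nroots → D.neg k = D.nroots - 1 - k := fun k hk => (h8.1 k hk).1
  obtain ⟨e, he_def⟩ : ∃ e : ℕ → ℕ, ∀ a, e a = D.nroots / 2 - 1 - a := ⟨_, fun _ => rfl⟩
  obtain ⟨m, hm⟩ : ∃ m : ℕ, m = D.nroots / 2 := ⟨_, rfl⟩
  have he : ∀ a, a < m → e a < D.nroots := by intro a ha; simp only [he_def]; omega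
  have hne : ∀ a b, a < b → b < m → e b ≠ e a ∧ e b ≠ D.neg (e a) := by
    intro a b hab hb
    have := hneg (e a) (he a (by omega))
    simp only [he_def] at this ⊢
    constructor
    · omega
    · rw [this]; omega
  have hterms : ∀ a b, a < b → b < m → ∀ c ∈ D.commTerms (e a) (e b),
      ∃ k, a < k ∧ k < m ∧ c.1 = e k := by
    intro a b hab hb c hc
    have h := h7m (e a) (he a (by omega))
      (by show e a < D.nroots / 2; simp only [he_def]; omega)
      (e b) (he b hb) (by simp only [he_def]; omega)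
    rw [List.all_eq_true] at h
    have hc' := of_decide_eq_true (h c (by rw [commTerms_eq]; exact hc))
    simp only [he_def] at hc' ⊢
    exact ⟨D.nroots / 2 - 1 - c.1, by omega, by omega, by omega⟩
  have hind : ∀ a, a < m → ∀ t : K,
      S.π (S.xb (e a) t) ∈ (S.Ege e m (a + 1)).map S.π → t = 0 := by
    intro a ha t hmem
    have hk := he a ha
    rw [S.π_xb hG1 hk] at hmem
    apply eq_zero_of_xGL_mem_Vlt hG hT h8 (by simp only [he_def]; omega) hk
    have hsub : (S.Ege e m (a + 1)).map S.π ≤ Vlt D K (e a) := by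
      rw [Subgroup.map_le_iff_le_comap]
      unfold Ege XS
      rw [Subgroup.closure_le]
      rintro x ⟨s, u, hs, ⟨k, hk1, hk2, rfl⟩, rfl⟩
      rw [SetLike.mem_coe, Subgroup.mem_comap]
      apply Subgroup.subset_closure
      exact ⟨e k, u, by simp only [he_def]; omega, S.hπ _ hs u⟩
    exact hsub hmem
  have hg' : g ∈ S.Ege e m 0 := by
    refine S.XS_mono ?_ hg
    intro r hr hlt
    exact ⟨D.nroots / 2 - 1 - r, Nat.zero_le _, by omega, by simp only [he_def]; omega⟩
  exact S.Ege_ker_trivial e m he hne hterms hind m 0 (by omega) g hg' hπ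

include hG hT h7 h8 in
theorem Ub_inj {g h : Γ} (hg : g ∈ S.Ub) (hh : h ∈ S.Ub) (e : S.π g = S.π h) : g = h := by
  have : g * h⁻¹ = 1 := by
    apply S.Ub_ker_trivial hG hT h7 h8 (mul_mem hg (inv_mem hh))
    rw [map_mul, map_inv, e, mul_inv_cancel]
  exact mul_inv_eq_one.mp this

include hG hT h7m h8 in
theorem Vb_inj {g h : Γ} (hg : g ∈ S.Vb) (hh : h ∈ S.Vb) (e : S.π g = S.π h) : g = h := by
  have : g * h⁻¹ = 1 := by
    apply S.Vb_ker_trivial hG hT h7m h8 (mul_mem hg (inv_mem hh))
    rw [map_mul, map_inv, e, mul_inv_cancel]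
  exact mul_inv_eq_one.mp this

end inj

end StD

end Cfsg.Agent.Helper7.St
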