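import Mathlib
import Cfsg.Agent.Helper7.StB
import Cfsg.Agent.Helper7.ChevBN

set_option autoImplicit false
set_option linter.unusedSectionVars false
set_option linter.unusedVariables false

/-!
The elements `nb i t` of a group with the relations (R1), (R2), and their action on the elements `xb s u`
for the roots `s` different from plus or minus the `i`-th fundamental root.
-/

namespace Cfsg.Agent.Helper7.St

open Cfsg Cfsg.Lie Matrix Cfsg.Agent.Helper7.Chev
open scoped Pointwise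

/-! ### The coefficient of the action of `n_p(t)` on a root element -/

section coeff

variable {D : ChevalleyDatum} {K : Type*} [Field K]

/-- The coefficient `c` with `n_p(t) x_s(u) n_p(t)⁻¹ = x_{w_p s}(c u)`, `p` the `i`-th fundamental root. -/
noncomputable def cf (D : ChevalleyDatum) (K : Type*) [Field K] (i s : ℕ) (t : K) : K :=
  t ^ ((tabOf D).pairing (D.simple i) ((tabOf D).refl (D.simple i) s)) *
    (((tabOf D).eta (D.simple i) s : ℤ) : K)

variable (hG : Good2 D) {i : ℕ} (hi : i < D.rank)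

include hG hi in
theorem eta_cast_mul_self {s : ℕ} (hs : s < D.nroots) :
    (((tabOf D).eta (D.simple i) s : ℤ) : K) * (((tabOf D).eta (D.simple i) s : ℤ) : K) = 1 := by
  rw [← Int.cast_mul, eta_sq hG.toGood1 (hG.toGood1.simple_lt hi) hs, Int.cast_one]

include hG hi in
theorem cf_ne_zero {s : ℕ} (hs : s < D.nroots) {t : K} (ht : t ≠ 0) : cf D K i s t ≠ 0 := by
  unfold cf
  apply mul_ne_zero (zpow_ne_zero _ ht)
  intro h
  have := eta_cast_mul_self (K := K) hG hi hs
  rw [h, mul_zero] at this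
  exact zero_ne_one this

include hG hi in
theorem cf_neg {s : ℕ} (hs : s < D.nroots) {t : K} (ht : t ≠ 0) :
    cf D K i (D.neg s) t = (cf D K i s t)⁻¹ := by
  have hG1 := hG.toGood1
  have hp := hG1.simple_lt hi
  have hws := hG.refl_lt hi hs
  apply eq_inv_of_mul_eq_one_left
  unfold cf
  rw [hG.refl_neg hi hs, pairing_neg_right hG1 (D.simple i) hws]
  have h1 : (((tabOf D).eta (D.simple i) (D.neg s) : ℤ) : K) *
      (((tabOf D).eta (D.simple i) s : ℤ) : K) = 1 := by
    rw [← Int.cast_mul, mul_comm, hG.eta_neg hi hs, Int.cast_one]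
  have h2 : t ^ (-(tabOf D).pairing (D.simple i) ((tabOf D).refl (D.simple i) s)) *
      t ^ ((tabOf D).pairing (D.simple i) ((tabOf D).refl (D.simple i) s)) = 1 := by
    rw [← zpow_add₀ ht]; simp
  linear_combination
    (((tabOf D).eta (D.simple i) (D.neg s) : ℤ) : K) * (((tabOf D).eta (D.simple i) s : ℤ) : K) * h2
      + h1

include hG hi in
/-- `n_p(t) x_s(u) = x_{w_p s}(c u) n_p(t)`. -/
theorem nMat_t_mul_x {s : ℕ} (hs : s < D.nroots) {t : K} (ht : t ≠ 0) (u : K) :
    D.nMat K (D.simple i) t * D.x K s u =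
      D.x K ((tabOf D).refl (D.simple i) s) (cf D K i s t * u) * D.nMat K (D.simple i) t := by
  have hG1 := hG.toGood1
  have hp := hG1.simple_lt hi
  have hws := hG.refl_lt hi hs
  rw [nMat_eq_hMat_mul hG1 hp ht, mul_assoc, nMat_mul_x hG hi hs u, ← mul_assoc,
    hMat_mul_x hG hp ht hws, mul_assoc]
  unfold cf
  rw [mul_assoc]

end coeff

variable {D : ChevalleyDatum} {K : Type*} [Field K] {Γ : Type*} [Group Γ] (S : StD D K Γ)

namespace StD

/-- `nb i t = xb p t * xb (-p) (-t⁻¹) * xb p t` for the `i`-th fundamental root `p`. -/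
def nb (i : ℕ) (t : K) : Γ :=
  S.xb (D.simple i) t * S.xb (D.neg (D.simple i)) (-t⁻¹) * S.xb (D.simple i) t

/-- The subgroup generated by the positive roots other than the `i`-th fundamental root. -/
def Up (i : ℕ) : Subgroup Γ := S.XS (fun s => D.nroots / 2 ≤ s ∧ s ≠ D.simple i)

/-- The subgroup generated by the negative roots other than minus the `i`-th fundamental root. -/
def Vp (i : ℕ) : Subgroup Γ := S.XS (fun s => s < D.nroots / 2 ∧ s ≠ D.neg (D.simple i))

theorem Up_le_Ub (i : ℕ) : S.Up i ≤ S.Ub := S.XS_mono (fun _ _ h => h.1)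

theorem Vp_le_Vb (i : ℕ) : S.Vp i ≤ S.Vb := S.XS_mono (fun _ _ h => h.1)

section basic

variable (hG : Good2 D) {i : ℕ} (hi : i < D.rank)

include hG hi in
theorem π_nb (t : K) :
    ((S.π (S.nb i t) : GL D.Idx K) : Matrix D.Idx D.Idx K) = D.nMat K (D.simple i) t := by
  have hG1 := hG.toGood1
  have hp := hG1.simple_lt hi
  have hnp := hG1.neg_lt hp
  unfold nb ChevalleyDatum.nMat ChevalleyDatum.nWord
  rw [map_mul, map_mul, Units.val_mul, Units.val_mul, S.hπ _ hp, S.hπ _ hnp, wordMat_cons,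
    wordMat_cons, wordMat_cons, wordMat_nil, mul_one, mul_assoc]

include hG hi in
theorem nb_inv (t : K) : (S.nb i t)⁻¹ = S.nb i (-t) := by
  have hG1 := hG.toGood1
  have hp := hG1.simple_lt hi
  have hnp := hG1.neg_lt hp
  unfold nb
  rw [_root_.mul_inv_rev, _root_.mul_inv_rev, S.xb_inv hp, S.xb_inv hnp, neg_neg, inv_neg, neg_neg, mul_assoc]

end basic

section norm

variable (hG : Good2 D) (hT : T0 D) (h5 : (tabOf D).T5) (h5m : (tabOf D).T5m) (h8 : (tabOf D).T8)
  {i : ℕ} (hi : i < D.rank)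

include hG hT h5 h8 hi in
/-- `xb (± p) t` normalises `Up i`. -/
theorem xb_mem_normalizer_Up (t : K) :
    S.xb (D.simple i) t ∈ Subgroup.normalizer (S.Up i : Set Γ) ∧
      S.xb (D.neg (D.simple i)) t ∈ Subgroup.normalizer (S.Up i : Set Γ) := by
  have hG1 := hG.toGood1
  have hp := hG1.simple_lt hi
  have hnp := hG1.neg_lt hp
  have hneg : ∀ k, k < D.nroots → D.neg k = D.nroots - 1 - k := fun k hk => (h8.1 k hk).1
  obtain ⟨hppos, h5'⟩ := h5 i hi
  have hppos' : D.nroots / 2 ≤ D.simple i := hppos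
  have hterm : ∀ r s, (tabOf D).termsIn (D.simple i) r s = true →
      ∀ c ∈ D.commTerms r s, c.1 < D.nroots ∧ (D.nroots / 2 ≤ c.1 ∧ c.1 ≠ D.simple i) := by
    intro r s h c hc
    unfold Tab.termsIn at h
    rw [List.all_eq_true] at h
    have := of_decide_eq_true (h c (by rw [commTerms_eq]; exact hc))
    exact ⟨this.2.2, this.1, this.2.1⟩
  constructor
  · apply S.xb_mem_normalizer_XS hp
    rintro s hs ⟨hs1, hs2⟩
    obtain ⟨t1, t2⟩ := h5' s hs hs1 hs2
    refine ⟨hs2, ?_, hterm _ _ t1⟩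
    rw [hneg _ hp]; omega
  · apply S.xb_mem_normalizer_XS hnp
    rintro s hs ⟨hs1, hs2⟩
    obtain ⟨t1, t2⟩ := h5' s hs hs1 hs2
    refine ⟨?_, ?_, hterm _ _ t2⟩
    · rw [hneg _ hp]; omega
    · rw [hG1.neg_neg hp]; exact hs2

include hG hT h5m h8 hi in
/-- `xb (± p) t` normalises `Vp i`. -/
theorem xb_mem_normalizer_Vp (t : K) :
    S.xb (D.simple i) t ∈ Subgroup.normalizer (S.Vp i : Set Γ) ∧
      S.xb (D.neg (D.simple i)) t ∈ Subgroup.normalizer (S.Vp i : Set Γ) := by
  have hG1 := hG.toGood1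
  have hp := hG1.simple_lt hi
  have hnp := hG1.neg_lt hp
  have hneg : ∀ k, k < D.nroots → D.neg k = D.nroots - 1 - k := fun k hk => (h8.1 k hk).1
  have hle : D.nroots / 2 ≤ D.nroots := Nat.div_le_self _ _
  obtain ⟨hpneg, h5'⟩ := h5m i hi
  have hpneg' : D.neg (D.simple i) < D.nroots / 2 := hpneg
  have hterm : ∀ r s, (tabOf D).termsInN (D.neg (D.simple i)) r s = true →
      ∀ c ∈ D.commTerms r s, c.1 < D.nroots ∧ (c.1 < D.nroots / 2 ∧ c.1 ≠ D.neg (D.simple i)) := by
    intro r s h c hc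
    unfold Tab.termsInN at h
    rw [List.all_eq_true] at h
    have := of_decide_eq_true (h c (by rw [commTerms_eq]; exact hc))
    have h1 : c.1 < D.nroots / 2 := this.1
    exact ⟨by omega, h1, this.2⟩
  have hpp : D.nroots / 2 ≤ D.simple i := by
    have := hneg _ hp
    rw [this] at hpneg'
    have h2 := h8.2
    have hn : (tabOf D).n = D.nroots := rfl
    rw [hn] at h2
    omega
  constructor
  · apply S.xb_mem_normalizer_XS hp
    rintro s hs ⟨hs1, hs2⟩
    obtain ⟨t1, t2⟩ := h5' s hs hs1 hs2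
    refine ⟨?_, hs2, hterm _ _ t1⟩
    omega
  · apply S.xb_mem_normalizer_XS hnp
    rintro s hs ⟨hs1, hs2⟩
    obtain ⟨t1, t2⟩ := h5' s hs hs1 hs2
    refine ⟨hs2, ?_, hterm _ _ t2⟩
    rw [hG1.neg_neg hp]; omega

include hG hT h5 h8 hi in
theorem nb_mem_normalizer_Up (t : K) : S.nb i t ∈ Subgroup.normalizer (S.Up i : Set Γ) := by
  unfold nb
  exact mul_mem (mul_mem (S.xb_mem_normalizer_Up hG hT h5 h8 hi t).1
    (S.xb_mem_normalizer_Up hG hT h5 h8 hi _).2) (S.xb_mem_normalizer_Up hG hT h5 h8 hi t).1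

include hG hT h5m h8 hi in
theorem nb_mem_normalizer_Vp (t : K) : S.nb i t ∈ Subgroup.normalizer (S.Vp i : Set Γ) := by
  unfold nb
  exact mul_mem (mul_mem (S.xb_mem_normalizer_Vp hG hT h5m h8 hi t).1
    (S.xb_mem_normalizer_Vp hG hT h5m h8 hi _).2) (S.xb_mem_normalizer_Vp hG hT h5m h8 hi t).1

end norm

section act

variable (hG : Good2 D) (hT : T0 D) (h5 : (tabOf D).T5) (h5m : (tabOf D).T5m) (h6 : (tabOf D).T6)
  (h7 : (tabOf D).T7) (h7m : (tabOf D).T7m) (h8 : (tabOf D).T8) {i : ℕ} (hi : i < D.rank)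

include hG hi in
/-- The images under `π` of the two sides of the relation for the action of `nb i t`. -/
theorem π_nb_conj {s : ℕ} (hs : s < D.nroots) {t : K} (ht : t ≠ 0) (u : K) :
    S.π (S.nb i t * S.xb s u * (S.nb i t)⁻¹) =
      S.π (S.xb ((tabOf D).refl (D.simple i) s) (cf D K i s t * u)) := by
  have hws := hG.refl_lt hi hs
  rw [map_mul, map_inv, mul_inv_eq_iff_eq_mul, ← map_mul]
  apply Units.ext
  rw [map_mul, map_mul, Units.val_mul, Units.val_mul, S.π_nb hG hi, S.hπ _ hs, S.hπ _ hws,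
    nMat_t_mul_x hG hi hs ht]

include hG hT h5 h6 h7 h8 hi in
/-- The action of `nb i t` on `xb s u` for a positive root `s` other than the `i`-th fundamental root. -/
theorem nb_conj_pos {s : ℕ} (hs : s < D.nroots) (hs1 : D.nroots / 2 ≤ s) (hs2 : s ≠ D.simple i)
    {t : K} (ht : t ≠ 0) (u : K) :
    S.nb i t * S.xb s u * (S.nb i t)⁻¹ =
      S.xb ((tabOf D).refl (D.simple i) s) (cf D K i s t * u) := by
  have hws := hG.refl_lt hi hs
  obtain ⟨k1, k2⟩ := h6 i hi s hs hs1 hs2
  apply S.Ub_inj hG hT h7 h8 _ (S.xb_mem_XS hws k1 _) (S.π_nb_conj hG hi hs ht u)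
  apply S.Up_le_Ub i
  exact (Subgroup.mem_normalizer_iff.mp (S.nb_mem_normalizer_Up hG hT h5 h8 hi t) _).mp
    (S.xb_mem_XS hs ⟨hs1, hs2⟩ u)

include hG hT h5m h6 h7m h8 hi in
/-- The action of `nb i t` on `xb s u` for a negative root `s` other than minus the `i`-th fundamental
root. -/
theorem nb_conj_neg {s : ℕ} (hs : s < D.nroots) (hs1 : s < D.nroots / 2)
    (hs2 : s ≠ D.neg (D.simple i)) {t : K} (ht : t ≠ 0) (u : K) :
    S.nb i t * S.xb s u * (S.nb i t)⁻¹ =
      S.xb ((tabOf D).refl (D.simple i) s) (cf D K i s t * u) := by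
  have hG1 := hG.toGood1
  have hp := hG1.simple_lt hi
  have hws := hG.refl_lt hi hs
  have hns := hG1.neg_lt hs
  have hneg : ∀ k, k < D.nroots → D.neg k = D.nroots - 1 - k := fun k hk => (h8.1 k hk).1
  have hev : D.nroots % 2 = 0 := h8.2
  have hwneg : (tabOf D).refl (D.simple i) s < D.nroots / 2 := by
    have h1 : D.nroots / 2 ≤ D.neg s := by rw [hneg s hs]; omega
    have h2 : D.neg s ≠ D.simple i := by
      intro h
      apply hs2
      rw [← h, hG1.neg_neg hs]
    obtain ⟨k1, k2⟩ := h6 i hi (D.neg s) hns h1 h2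
    have k1' : D.nroots / 2 ≤ (tabOf D).refl (D.simple i) (D.neg s) := k1
    rw [hG.refl_neg hi hs, hneg _ hws] at k1'
    omega
  apply S.Vb_inj hG hT h7m h8 _ (S.xb_mem_XS hws hwneg _) (S.π_nb_conj hG hi hs ht u)
  apply S.Vp_le_Vb i
  exact (Subgroup.mem_normalizer_iff.mp (S.nb_mem_normalizer_Vp hG hT h5m h8 hi t) _).mp
    (S.xb_mem_XS hs ⟨hs1, hs2⟩ u)

end act

end StD

end Cfsg.Agent.Helper7.St
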