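import Mathlib
import Cfsg.Agent.Helper7.StC
import Cfsg.Agent.Helper7.ChevSub2

set_option autoImplicit false
set_option linter.unusedSectionVars false
set_option linter.unusedVariables false

/-!
The action of `nb i t` on the elements `xb (± p) u`, `p` the `i`-th fundamental root, in a group with the
relations (R1), (R2) of a datum of rank at least two.
-/

namespace Cfsg.Agent.Helper7.St

open Cfsg Cfsg.Lie Matrix Cfsg.Agent.Helper7.Chev
open scoped Pointwise

theorem exists_split_of_filter_length_one {α : Type*} (P : α → Bool) :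
    ∀ L : List α, (L.filter P).length = 1 →
      ∃ (L₁ : List α) (c : α) (L₂ : List α), L = L₁ ++ c :: L₂ ∧ P c = true ∧
        (∀ x ∈ L₁, P x = false) ∧ (∀ x ∈ L₂, P x = false) := by
  intro L
  induction L with
  | nil => intro h; simp at h
  | cons x L ih =>
    intro h
    by_cases hx : P x = true
    · rw [List.filter_cons_of_pos hx, List.length_cons] at h
      have h0 : (L.filter P).length = 0 := by omega
      rw [List.length_eq_zero_iff, List.filter_eq_nil_iff] at h0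
      refine ⟨[], x, L, rfl, hx, fun _ h => absurd h List.not_mem_nil, fun y hy => ?_⟩
      simpa using h0 y hy
    · rw [List.filter_cons_of_neg hx] at h
      obtain ⟨L₁, c, L₂, e, hc, h1, h2⟩ := ih h
      refine ⟨x :: L₁, c, L₂, by rw [e]; rfl, hc, fun y hy => ?_, h2⟩
      rcases List.mem_cons.mp hy with rfl | hy
      · simpa using hx
      · exact h1 y hy

variable {D : ChevalleyDatum} {K : Type*} [Field K] {Γ : Type*} [Group Γ] (S : StD D K Γ)

namespace StD

/-- The subgroup generated by the roots of `w_q(Φ⁻)`, `q` the `j`-th fundamental root. -/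
def Vq (j : ℕ) : Subgroup Γ :=
  S.XS (fun s => (s < D.nroots / 2 ∧ s ≠ D.neg (D.simple j)) ∨ s = D.simple j)

section vq

variable (hG : Good2 D) (hT : T0 D) (h5 : (tabOf D).T5) (h5m : (tabOf D).T5m)
  (h7m : (tabOf D).T7m) (h8 : (tabOf D).T8)

include hT in
theorem π_Vb_le : (S.Vb).map S.π ≤ D.negUnipotent K := by
  rw [Subgroup.map_le_iff_le_comap]
  unfold Vb XS
  rw [Subgroup.closure_le]
  rintro x ⟨s, u, hs, hneg, rfl⟩
  rw [SetLike.mem_coe, Subgroup.mem_comap]
  apply Subgroup.subset_closure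
  exact ⟨s, u, (isNegRoot_iff hT hs).mpr hneg, S.hπ s hs u⟩

include hG hT h5 h5m h7m h8 in
/-- The kernel of `π` on `Vq j` is trivial. -/
theorem Vq_ker_trivial {j : ℕ} (hj : j < D.rank) {g : Γ} (hg : g ∈ S.Vq j) (hπ : S.π g = 1) :
    g = 1 := by
  have hG1 := hG.toGood1
  have hq := hG1.simple_lt hj
  obtain ⟨hqpos, _⟩ := h5 j hj
  have hqpos' : D.nroots / 2 ≤ D.simple j := hqpos
  obtain ⟨a, g', hg', rfl⟩ := S.XS_decomp (P := fun s => s < D.nroots / 2 ∧ s ≠ D.neg (D.simple j)) hq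
    (fun s _ h => h.symm) (fun t => (S.xb_mem_normalizer_Vp hG hT h5m h8 hj t).1) hg
  have hg'V : g' ∈ S.Vb := S.Vp_le_Vb j hg'
  have ha : a = 0 := by
    apply xGL_injective hG hT h8 hq
    rw [xGL_zero]
    have h1 : xGL hG1 hq a ∈ D.borelSubgroup K ⊓ D.negUnipotent K := by
      constructor
      · apply (le_sup_left : D.posUnipotent K ≤ D.borelSubgroup K)
        apply Subgroup.subset_closure
        exact ⟨D.simple j, a, (isPosRoot_iff hT hq).mpr hqpos', xGL_coe hG1 hq a⟩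
      · rw [map_mul, mul_eq_one_iff_eq_inv, S.π_xb hG1 hq] at hπ
        rw [hπ]
        exact (D.negUnipotent K).inv_mem (S.π_Vb_le hT (Subgroup.mem_map_of_mem _ hg'V))
    rw [borel_inf_negUnipotent hG hT, Subgroup.mem_bot] at h1
    exact h1
  rw [ha, S.xb_zero hq, one_mul] at hπ ⊢
  exact S.Vb_ker_trivial hG hT h7m h8 hg'V hπ

include hG hT h5 h5m h7m h8 in
theorem Vq_inj {j : ℕ} (hj : j < D.rank) {g h : Γ} (hg : g ∈ S.Vq j) (hh : h ∈ S.Vq j)
    (e : S.π g = S.π h) : g = h := by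
  have : g * h⁻¹ = 1 := by
    apply S.Vq_ker_trivial hG hT h5 h5m h7m h8 hj (mul_mem hg (inv_mem hh))
    rw [map_mul, map_inv, e, mul_inv_cancel]
  exact mul_inv_eq_one.mp this

end vq

section wit

/-- The set of roots `γ ≠ ± p` with `w_p γ ∈ w_q(Φ⁻)`. -/
def QP (D : ChevalleyDatum) (i j : ℕ) (γ : ℕ) : Prop :=
  γ ≠ D.simple i ∧ γ ≠ D.neg (D.simple i) ∧
    (tabOf D).inPsi (D.simple j) ((tabOf D).refl (D.simple i) γ) = true

/-- The root elements of a fundamental root are products of root elements of the roots of `QP`. -/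
theorem xb_simple_mem_XS {i j a b : ℕ} (hw : (tabOf D).witOK i j a b = true) (v : K) :
    S.xb (D.simple i) v ∈ S.XS (QP D i j) := by
  unfold Tab.witOK at hw
  simp only [Bool.and_eq_true, decide_eq_true_eq, List.all_eq_true, Bool.or_eq_true,
    List.mem_append, List.mem_map, List.mem_filter] at hw
  obtain ⟨⟨⟨⟨⟨⟨⟨⟨h1, h2⟩, h3⟩, h4⟩, h5⟩, h6⟩, h7⟩, h8⟩, h9⟩ := hw
  have ha : a < D.nroots := h3
  have hb : b < D.nroots := h4
  have hQ : ∀ x, (x ∈ [a, b] ∨ ∃ c, (c ∈ D.commTerms a b ∧ c.1 ≠ D.simple i) ∧ c.1 = x) →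
      x < D.nroots ∧ QP D i j x := by
    intro x hx
    obtain ⟨⟨⟨q1, q2⟩, q3⟩, q4⟩ := h9 x hx
    exact ⟨q3, q1, q2, q4⟩
  obtain ⟨L₁, c₀, L₂, eL, hc₀, hL₁, hL₂⟩ := exists_split_of_filter_length_one _ _ h7
  have eL' : D.commTerms a b = L₁ ++ c₀ :: L₂ := eL
  have hc₀p : c₀.1 = D.simple i := of_decide_eq_true hc₀
  have hc₀mem : c₀ ∈ D.commTerms a b := by rw [eL']; simp
  have hLQ : ∀ c ∈ D.commTerms a b, c.1 ≠ D.simple i → c.1 < D.nroots ∧ QP D i j c.1 :=
    fun c hc hne => hQ c.1 (Or.inr ⟨c, ⟨hc, hne⟩, rfl⟩)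
  have key : ∀ t' u' : K, S.xb (D.simple i)
      ((c₀.2.1 : K) * (-t') ^ c₀.2.2.1 * u' ^ c₀.2.2.2) ∈ S.XS (QP D i j) := by
    intro t' u'
    have hcomm := S.comm a b ha hb h5 h6 t' u'
    have hW : S.wd (D.commWord K a b t' u') ∈ S.XS (QP D i j) := by
      have e : S.wd (D.commWord K a b t' u') =
          (S.xb b u')⁻¹ * (S.xb a t')⁻¹ * (S.xb b u' * S.xb a t') := by
        rw [hcomm]; unfold wd; group
      rw [e]
      have hxa := S.xb_mem_XS ha (hQ a (Or.inl (by simp))).2 t'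
      have hxb := S.xb_mem_XS hb (hQ b (Or.inl (by simp))).2 u'
      exact mul_mem (mul_mem (inv_mem hxb) (inv_mem hxa)) (mul_mem hxb hxa)
    have hpart : ∀ L : List (ℕ × ℤ × ℕ × ℕ), (∀ c ∈ L, c ∈ D.commTerms a b) →
        (∀ c ∈ L, decide (c.1 = D.simple i) = false) →
        S.wd (L.map fun c => (c.1, (c.2.1 : K) * (-t') ^ c.2.2.1 * u' ^ c.2.2.2)) ∈
          S.XS (QP D i j) := by
      intro L hL1 hL2
      apply S.wd_mem_XS
      intro q hq
      rw [List.mem_map] at hq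
      obtain ⟨c, hc, rfl⟩ := hq
      exact hLQ c (hL1 c hc) (of_decide_eq_false (hL2 c hc))
    have h1' := hpart L₁ (fun c hc => by rw [eL']; simp [hc]) hL₁
    have h2' := hpart L₂ (fun c hc => by rw [eL']; simp [hc]) hL₂
    unfold ChevalleyDatum.commWord at hW
    rw [eL', List.map_append, List.map_cons, S.wd_append, S.wd_cons] at hW
    simp only at hW
    rw [hc₀p] at hW
    have := mul_mem (mul_mem (inv_mem h1') hW) (inv_mem h2')
    simpa [mul_assoc] using this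
  rcases h8 c₀ hc₀mem with hne | ⟨hC, hexp⟩
  · exact absurd hc₀p hne
  · have hCC : ((c₀.2.1 : ℤ) : K) * ((c₀.2.1 : ℤ) : K) = 1 := by
      rcases hC with h | h <;> rw [h] <;> simp
    rcases hexp with he | he
    · have := key (-(((c₀.2.1 : ℤ) : K) * v)) 1
      rw [he, neg_neg, pow_one, one_pow, mul_one, ← mul_assoc, hCC, one_mul] at this
      exact this
    · have := key (-1) (((c₀.2.1 : ℤ) : K) * v)
      rw [he, neg_neg, one_pow, mul_one, pow_one, ← mul_assoc, hCC, one_mul] at this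
      exact this

theorem witOK_lt {i j a b : ℕ} (hw : (tabOf D).witOK i j a b = true) : j < D.rank ∧ j ≠ i := by
  unfold Tab.witOK at hw
  simp only [Bool.and_eq_true, decide_eq_true_eq] at hw
  exact ⟨hw.1.1.1.1.1.1.1.1, hw.1.1.1.1.1.1.1.2⟩

end wit

section selfact

variable (hG : Good2 D) (hT : T0 D) (h5 : (tabOf D).T5) (h5m : (tabOf D).T5m) (h6 : (tabOf D).T6)
  (h7 : (tabOf D).T7) (h7m : (tabOf D).T7m) (h8 : (tabOf D).T8) {wit : ℕ → ℕ × ℕ × ℕ}
  (h27 : (tabOf D).T37 wit) {i : ℕ} (hi : i < D.rank)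

include hG hT h5 h5m h6 h7 h7m h8 hi in
/-- Conjugation by `nb i t` maps the subgroup of the roots of `QP` into `Vq j`. -/
theorem nb_conj_QP_mem {j : ℕ} (hj : j < D.rank) {t : K} (ht : t ≠ 0) {g : Γ}
    (hg : g ∈ S.XS (QP D i j)) : S.nb i t * g * (S.nb i t)⁻¹ ∈ S.Vq j := by
  unfold XS at hg
  unfold Vq XS
  refine conj_closure_le _ ?_ g hg
  rintro x ⟨γ, u, hγ, ⟨q1, q2, q3⟩, rfl⟩
  have hwγ := hG.refl_lt hi hγ
  have e : S.nb i t * S.xb γ u * (S.nb i t)⁻¹ =
      S.xb ((tabOf D).refl (D.simple i) γ) (cf D K i γ t * u) := by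
    by_cases hpos : D.nroots / 2 ≤ γ
    · exact S.nb_conj_pos hG hT h5 h6 h7 h8 hi hγ hpos q1 ht u
    · exact S.nb_conj_neg hG hT h5m h6 h7m h8 hi hγ (by omega) q2 ht u
  rw [e]
  apply Subgroup.subset_closure
  refine ⟨_, _, hwγ, ?_, rfl⟩
  unfold Tab.inPsi at q3
  simp only [Bool.or_eq_true, Bool.and_eq_true, decide_eq_true_eq] at q3
  exact q3

include hG hT h5 h5m h6 h7 h7m h8 h27 hi in
/-- The action of `nb i t` on `xb p u`, `p` the `i`-th fundamental root. -/
theorem nb_conj_self {t : K} (ht : t ≠ 0) (u : K) :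
    S.nb i t * S.xb (D.simple i) u * (S.nb i t)⁻¹ =
      S.xb (D.neg (D.simple i)) (cf D K i (D.simple i) t * u) := by
  have hG1 := hG.toGood1
  have hp := hG1.simple_lt hi
  have hnp := hG1.neg_lt hp
  have hw := h27 i hi
  obtain ⟨hj, hji⟩ := witOK_lt hw
  have hq := hG1.simple_lt hj
  have h1 := S.nb_conj_QP_mem hG hT h5 h5m h6 h7 h7m h8 hi hj ht (S.xb_simple_mem_XS hw u)
  have hnpneg : D.neg (D.simple i) < D.nroots / 2 := (h5m i hi).1
  have hne : D.neg (D.simple i) ≠ D.neg (D.simple (wit i).1) := by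
    intro h
    apply simple_ne hG hi hj (Ne.symm hji)
    rw [← hG1.neg_neg hp, h, hG1.neg_neg hq]
  have h2 : S.xb (D.neg (D.simple i)) (cf D K i (D.simple i) t * u) ∈ S.Vq (wit i).1 :=
    S.xb_mem_XS hnp (Or.inl ⟨hnpneg, hne⟩) _
  have e := S.π_nb_conj hG hi hp ht u
  rw [refl_self] at e
  exact S.Vq_inj hG hT h5 h5m h7m h8 hj h1 h2 e

include hG hT h5 h5m h6 h7 h7m h8 h27 hi in
/-- The action of `nb i t` on `xb (-p) u`, `p` the `i`-th fundamental root. -/
theorem nb_conj_negself {t : K} (ht : t ≠ 0) (u : K) :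
    S.nb i t * S.xb (D.neg (D.simple i)) u * (S.nb i t)⁻¹ =
      S.xb (D.simple i) (cf D K i (D.neg (D.simple i)) t * u) := by
  have hG1 := hG.toGood1
  have hp := hG1.simple_lt hi
  have hnp := hG1.neg_lt hp
  have hnt : -t ≠ 0 := neg_ne_zero.mpr ht
  have hc := cf_ne_zero (K := K) hG hi hp hnt
  have h1 := S.nb_conj_self hG hT h5 h5m h6 h7 h7m h8 h27 hi hnt ((cf D K i (D.simple i) (-t))⁻¹ * u)
  rw [← S.nb_inv hG hi, inv_inv, ← mul_assoc, mul_inv_cancel₀ hc, one_mul] at h1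
  have h2 : S.nb i t * S.xb (D.neg (D.simple i)) u * (S.nb i t)⁻¹ =
      S.xb (D.simple i) ((cf D K i (D.simple i) (-t))⁻¹ * u) := by
    rw [← h1]; group
  have e := S.π_nb_conj hG hi hnp ht u
  rw [h2, hG.refl_neg hi hp, refl_self, hG1.neg_neg hp, S.π_xb hG1 hp, S.π_xb hG1 hp] at e
  rw [h2, xGL_injective hG hT h8 hp e]

include hG hT h5 h5m h6 h7 h7m h8 h27 hi in
/-- The action of `nb i t` on the elements `xb s u`. -/
theorem nb_conj {s : ℕ} (hs : s < D.nroots) {t : K} (ht : t ≠ 0) (u : K) :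
    S.nb i t * S.xb s u * (S.nb i t)⁻¹ =
      S.xb ((tabOf D).refl (D.simple i) s) (cf D K i s t * u) := by
  have hG1 := hG.toGood1
  have hp := hG1.simple_lt hi
  by_cases h1 : s = D.simple i
  · rw [h1, refl_self]
    exact S.nb_conj_self hG hT h5 h5m h6 h7 h7m h8 h27 hi ht u
  · by_cases h2 : s = D.neg (D.simple i)
    · rw [h2, hG.refl_neg hi hp, refl_self, hG1.neg_neg hp]
      exact S.nb_conj_negself hG hT h5 h5m h6 h7 h7m h8 h27 hi ht u
    · by_cases hpos : D.nroots / 2 ≤ s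
      · exact S.nb_conj_pos hG hT h5 h6 h7 h8 hi hs hpos h1 ht u
      · exact S.nb_conj_neg hG hT h5m h6 h7m h8 hi hs (by omega) h2 ht u

end selfact

end StD

end Cfsg.Agent.Helper7.St
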