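import Mathlib
import Cfsg.Agent.Helper7.StE
import Cfsg.Agent.Helper7.ChevCount

set_option autoImplicit false
set_option linter.unusedSectionVars false
set_option linter.unusedVariables false

/-!
The subgroup generated by the elements `nb i t` of a group with the relations (R1), (R2) acts on the
elements `xb s u` through the Weyl group; the decomposition of the group into double cosets; the kernel
of the homomorphism to the matrix group is central.
-/

namespace Cfsg.Agent.Helper7.St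

open Cfsg Cfsg.Lie Matrix Cfsg.Agent.Helper7.Chev
open scoped Pointwise

variable {D : ChevalleyDatum} {K : Type*} [Field K] {Γ : Type*} [Group Γ] (S : StD D K Γ)

namespace StD

/-- The element `g` acts on the elements `xb s u` through the word `w` with the coefficients `ε`. -/
def MonE (g : Γ) (w : List ℕ) (ε : ℕ → K) : Prop :=
  (∀ i ∈ w, i < D.rank) ∧ ∀ s, s < D.nroots → ε s ≠ 0 ∧ ε (D.neg s) = (ε s)⁻¹ ∧
    ∀ u : K, g * S.xb s u * g⁻¹ = S.xb ((tabOf D).reflWord w s) (ε s * u)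

theorem monE_one : S.MonE 1 [] (fun _ => 1) := by
  refine ⟨fun _ h => absurd h List.not_mem_nil, fun s _ => ⟨one_ne_zero, inv_one.symm, fun u => ?_⟩⟩
  rw [one_mul, one_mul, inv_one, mul_one]
  rfl

section mon

variable (hG : Good2 D)

include hG in
theorem monE_mul {g g' : Γ} {w w' : List ℕ} {ε ε' : ℕ → K} (h : S.MonE g w ε)
    (h' : S.MonE g' w' ε') :
    S.MonE (g * g') (w ++ w') (fun s => ε ((tabOf D).reflWord w' s) * ε' s) := by
  obtain ⟨hw, h⟩ := h
  obtain ⟨hw', h'⟩ := h'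
  refine ⟨fun i hi => ?_, fun s hs => ?_⟩
  · rcases List.mem_append.mp hi with hi | hi
    · exact hw i hi
    · exact hw' i hi
  · have hs' := reflWord_lt hG hw' hs
    obtain ⟨a1, a2, a3⟩ := h' s hs
    obtain ⟨b1, b2, b3⟩ := h _ hs'
    refine ⟨mul_ne_zero b1 a1, ?_, fun u => ?_⟩
    · simp only
      rw [reflWord_neg hG hw' hs, b2, a2, _root_.mul_inv_rev, mul_comm]
    · have e : g * g' * S.xb s u * (g * g')⁻¹ = g * (g' * S.xb s u * g'⁻¹) * g⁻¹ := by group
      rw [e, a3, b3, reflWord_append, mul_assoc]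

include hG in
theorem monE_inv {g : Γ} {w : List ℕ} {ε : ℕ → K} (h : S.MonE g w ε) :
    S.MonE g⁻¹ w.reverse (fun s => (ε ((tabOf D).reflWord w.reverse s))⁻¹) := by
  obtain ⟨hw, h⟩ := h
  have hwr : ∀ i ∈ w.reverse, i < D.rank := fun i hi => hw i (List.mem_reverse.mp hi)
  refine ⟨hwr, fun s hs => ?_⟩
  have hs' := reflWord_lt hG hwr hs
  obtain ⟨b1, b2, b3⟩ := h _ hs'
  have hback : (tabOf D).reflWord w ((tabOf D).reflWord w.reverse s) = s := by
    have := reflWord_reverse hG hwr hs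
    rwa [List.reverse_reverse] at this
  refine ⟨inv_ne_zero b1, ?_, fun u => ?_⟩
  · simp only
    rw [reflWord_neg hG hwr hs, b2]
  · have := b3 ((ε ((tabOf D).reflWord w.reverse s))⁻¹ * u)
    rw [hback, ← mul_assoc, mul_inv_cancel₀ b1, one_mul] at this
    rw [← this]
    group

end mon

/-- The subgroup generated by the elements `nb i t`. -/
def Nb : Subgroup Γ :=
  Subgroup.closure {g | ∃ (i : ℕ) (t : K), i < D.rank ∧ t ≠ 0 ∧ g = S.nb i t}

theorem nb_mem_Nb {i : ℕ} (hi : i < D.rank) {t : K} (ht : t ≠ 0) : S.nb i t ∈ S.Nb :=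
  Subgroup.subset_closure ⟨i, t, hi, ht, rfl⟩

section main

variable (hG : Good2 D) (hT : T0 D) (h5 : (tabOf D).T5) (h5m : (tabOf D).T5m) (h6 : (tabOf D).T6)
  (h7 : (tabOf D).T7) (h7m : (tabOf D).T7m) (h8 : (tabOf D).T8) {wit : ℕ → ℕ × ℕ × ℕ}
  (h27 : (tabOf D).T37 wit)

include hG hT h5 h5m h6 h7 h7m h8 h27 in
theorem monE_nb {i : ℕ} (hi : i < D.rank) {t : K} (ht : t ≠ 0) :
    S.MonE (S.nb i t) [i] (fun s => cf D K i s t) := by
  refine ⟨fun j hj => by rw [List.mem_singleton.mp hj]; exact hi, fun s hs => ?_⟩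
  exact ⟨cf_ne_zero hG hi hs ht, cf_neg hG hi hs ht,
    fun u => S.nb_conj hG hT h5 h5m h6 h7 h7m h8 h27 hi hs ht u⟩

include hG hT h5 h5m h6 h7 h7m h8 h27 in
/-- Every element of `Nb` acts through a word. -/
theorem Nb_monE {g : Γ} (hg : g ∈ S.Nb) : ∃ (w : List ℕ) (ε : ℕ → K), S.MonE g w ε := by
  unfold Nb at hg
  induction hg using Subgroup.closure_induction with
  | mem x hx =>
    obtain ⟨i, t, hi, ht, rfl⟩ := hx
    exact ⟨_, _, S.monE_nb hG hT h5 h5m h6 h7 h7m h8 h27 hi ht⟩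
  | one => exact ⟨_, _, S.monE_one⟩
  | mul x y _ _ hx hy =>
    obtain ⟨w, ε, h⟩ := hx
    obtain ⟨w', ε', h'⟩ := hy
    exact ⟨_, _, S.monE_mul hG h h'⟩
  | inv x _ hx =>
    obtain ⟨w, ε, h⟩ := hx
    exact ⟨_, _, S.monE_inv hG h⟩

include hG hT h5 h5m h6 h7 h7m h8 h27 in
/-- Every word is realised by an element of `Nb`. -/
theorem exists_Nb_of_word (w : List ℕ) (hw : ∀ i ∈ w, i < D.rank) :
    ∃ g ∈ S.Nb, ∃ ε : ℕ → K, S.MonE g w ε := by
  induction w with
  | nil => exact ⟨1, one_mem _, _, S.monE_one⟩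
  | cons i w ih =>
    obtain ⟨g, hg, ε, h⟩ := ih (fun j hj => hw j (List.mem_cons_of_mem _ hj))
    have hi := hw i List.mem_cons_self
    have h1 := S.monE_nb hG hT h5 h5m h6 h7 h7m h8 h27 hi (one_ne_zero (α := K))
    exact ⟨S.nb i 1 * g, mul_mem (S.nb_mem_Nb hi one_ne_zero) hg, _, S.monE_mul hG h1 h⟩

/-- The set `Ub * Nb * Ub`. -/
def BS : Set Γ := {g | ∃ u₁ ∈ S.Ub, ∃ n ∈ S.Nb, ∃ u₂ ∈ S.Ub, g = u₁ * n * u₂}

include hG in
/-- The rank one identity expressing `xb (-p) c` through `nb`. -/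
theorem xb_neg_eq {i : ℕ} (hi : i < D.rank) {c : K} (hc : c ≠ 0) :
    S.xb (D.neg (D.simple i)) c =
      S.xb (D.simple i) c⁻¹ * S.nb i (-c⁻¹) * S.xb (D.simple i) c⁻¹ := by
  have hp := hG.toGood1.simple_lt hi
  unfold nb
  rw [inv_neg, inv_inv, neg_neg, ← S.xb_inv hp]
  group

include hG hT h5 h8 in
/-- `Ub = Up i * X_p`. -/
theorem Ub_decomp {i : ℕ} (hi : i < D.rank) {g : Γ} (hg : g ∈ S.Ub) :
    ∃ y ∈ S.Up i, ∃ a : K, g = y * S.xb (D.simple i) a := by
  have hp := hG.toGood1.simple_lt hi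
  obtain ⟨a, g', hg', e⟩ := S.XS_decomp (P := fun s => D.nroots / 2 ≤ s ∧ s ≠ D.simple i) hp
    (fun s _ h => by
      by_cases hs : s = D.simple i
      · exact Or.inl hs
      · exact Or.inr ⟨h, hs⟩)
    (fun t => (S.xb_mem_normalizer_Up hG hT h5 h8 hi t).1) (inv_mem hg)
  refine ⟨g'⁻¹, inv_mem hg', -a, ?_⟩
  rw [← S.xb_inv hp, ← _root_.mul_inv_rev, ← e, inv_inv]

include hG hT h5 h5m h6 h7 h7m h8 h27 in
/-- The set `Ub * Nb * Ub` is stable under left multiplication by `nb i t`. -/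
theorem nb_mul_mem_BS {i : ℕ} (hi : i < D.rank) {t : K} (ht : t ≠ 0) {g : Γ} (hg : g ∈ S.BS) :
    S.nb i t * g ∈ S.BS := by
  have hG1 := hG.toGood1
  have hp := hG1.simple_lt hi
  have hnp := hG1.neg_lt hp
  have hneg : ∀ k, k < D.nroots → D.neg k = D.nroots - 1 - k := fun k hk => (h8.1 k hk).1
  have hev : D.nroots % 2 = 0 := h8.2
  obtain ⟨hppos, _⟩ := h5 i hi
  have hppos' : D.nroots / 2 ≤ D.simple i := hppos
  obtain ⟨u₁, hu₁, n, hn, u₂, hu₂, rfl⟩ := hg
  obtain ⟨y, hy, a, rfl⟩ := S.Ub_decomp hG hT h5 h8 hi hu₁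
  have hy' : S.nb i t * y * (S.nb i t)⁻¹ ∈ S.Ub :=
    S.Up_le_Ub i ((Subgroup.mem_normalizer_iff.mp (S.nb_mem_normalizer_Up hG hT h5 h8 hi t) _).mp hy)
  obtain ⟨w, ε, hw, hM⟩ := S.Nb_monE hG hT h5 h5m h6 h7 h7m h8 h27 (inv_mem hn)
  have hr := reflWord_lt hG hw hp
  have hνN := S.nb_mem_Nb hi ht
  by_cases hpos : D.nroots / 2 ≤ (tabOf D).reflWord w (D.simple i)
  · obtain ⟨_, _, c3⟩ := hM _ hp
    have e1 := c3 a
    rw [inv_inv] at e1
    refine ⟨S.nb i t * y * (S.nb i t)⁻¹, hy', S.nb i t * n, mul_mem hνN hn,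
      S.xb ((tabOf D).reflWord w (D.simple i)) (ε (D.simple i) * a) * u₂,
      mul_mem (S.xb_mem_XS hr hpos _) hu₂, ?_⟩
    rw [← e1]
    group
  · have hrneg : (tabOf D).reflWord w (D.simple i) < D.nroots / 2 := by omega
    have e2 := S.nb_conj_self hG hT h5 h5m h6 h7 h7m h8 h27 hi ht a
    by_cases hc : cf D K i (D.simple i) t * a = 0
    · rw [hc, S.xb_zero hnp] at e2
      refine ⟨S.nb i t * y * (S.nb i t)⁻¹, hy', S.nb i t * n, mul_mem hνN hn, u₂, hu₂, ?_⟩
      have e3 : S.nb i t * S.xb (D.simple i) a = S.nb i t := by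
        rw [mul_inv_eq_one] at e2; exact e2
      calc S.nb i t * (y * S.xb (D.simple i) a * n * u₂)
          = S.nb i t * y * (S.nb i t)⁻¹ * (S.nb i t * S.xb (D.simple i) a) * n * u₂ := by group
        _ = S.nb i t * y * (S.nb i t)⁻¹ * (S.nb i t * n) * u₂ := by rw [e3]; group
    · have hc' : (cf D K i (D.simple i) t * a)⁻¹ ≠ 0 := inv_ne_zero hc
      have hc'' : -(cf D K i (D.simple i) t * a)⁻¹ ≠ 0 := neg_ne_zero.mpr hc'
      rw [S.xb_neg_eq hG hi hc] at e2
      -- move `xb p c⁻¹` across `nb i t * n`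
      have hnt : -t ≠ 0 := neg_ne_zero.mpr ht
      have e4 := S.nb_conj_self hG hT h5 h5m h6 h7 h7m h8 h27 hi hnt
        (cf D K i (D.simple i) t * a)⁻¹
      rw [← S.nb_inv hG hi, inv_inv] at e4
      obtain ⟨_, _, c3⟩ := hM _ hnp
      have e5 := c3 (cf D K i (D.simple i) (-t) * (cf D K i (D.simple i) t * a)⁻¹)
      rw [inv_inv, reflWord_neg hG hw hp] at e5
      have hnr := hG1.neg_lt hr
      have hnrpos : D.nroots / 2 ≤ D.neg ((tabOf D).reflWord w (D.simple i)) := by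
        rw [hneg _ hr]; omega
      refine ⟨S.nb i t * y * (S.nb i t)⁻¹ * S.xb (D.simple i) (cf D K i (D.simple i) t * a)⁻¹,
        mul_mem hy' (S.xb_mem_XS hp hppos' _),
        S.nb i (-(cf D K i (D.simple i) t * a)⁻¹) * (S.nb i t * n),
        mul_mem (S.nb_mem_Nb hi hc'') (mul_mem hνN hn),
        S.xb (D.neg ((tabOf D).reflWord w (D.simple i)))
          (ε (D.neg (D.simple i)) *
            (cf D K i (D.simple i) (-t) * (cf D K i (D.simple i) t * a)⁻¹)) * u₂,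
        mul_mem (S.xb_mem_XS hnr hnrpos _) hu₂, ?_⟩
      rw [← e5, ← e4]
      calc S.nb i t * (y * S.xb (D.simple i) a * n * u₂)
          = S.nb i t * y * (S.nb i t)⁻¹ *
              (S.nb i t * S.xb (D.simple i) a * (S.nb i t)⁻¹) * (S.nb i t * n) * u₂ := by group
        _ = _ := by rw [e2]; group

end main

end StD

end Cfsg.Agent.Helper7.St
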