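import Mathlib
import Cfsg.Agent.Helper7.StF

set_option autoImplicit false
set_option linter.unusedSectionVars false
set_option linter.unusedVariables false

/-!
In a group generated by elements `xb r t` with the relations (R1), (R2), every element is a product
`u n u'`, and the kernel of the homomorphism to the matrix group is contained in the subgroup generated
by the elements `nb i t` and is central.
-/

namespace Cfsg.Agent.Helper7.St

open Cfsg Cfsg.Lie Matrix Cfsg.Agent.Helper7.Chev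
open scoped Pointwise

variable {D : ChevalleyDatum} {K : Type*} [Field K] {Γ : Type*} [Group Γ] (S : StD D K Γ)

namespace StD

section main

variable (hG : Good2 D) (hT : T0 D) (h5 : (tabOf D).T5) (h5m : (tabOf D).T5m) (h6 : (tabOf D).T6)
  (h7 : (tabOf D).T7) (h7m : (tabOf D).T7m) (h8 : (tabOf D).T8) (h9 : (tabOf D).T9)
  {wit : ℕ → ℕ × ℕ × ℕ} (h27 : (tabOf D).T37 wit) {w₀ : List ℕ} (hw₀ : (tabOf D).W0ok w₀)
  (hgen : Subgroup.closure {g | ∃ (r : ℕ) (t : K), r < D.nroots ∧ g = S.xb r t} = ⊤)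

include hG hT h5 h5m h6 h7 h7m h8 h27 hw₀ in
/-- Every element `xb r t` lies in the subgroup generated by `Ub` and `Nb`. -/
theorem xb_mem_sup {r : ℕ} (hr : r < D.nroots) (v : K) : S.xb r v ∈ S.Ub ⊔ S.Nb := by
  by_cases hpos : D.nroots / 2 ≤ r
  · exact Subgroup.mem_sup_left (S.xb_mem_XS hr hpos v)
  · obtain ⟨hw1, hw2, hw3⟩ := hw₀
    have hl : (tabOf D).l = D.rank := rfl
    have hwr : ∀ i ∈ w₀.reverse, i < D.rank := fun i hi => hw1 i (List.mem_reverse.mp hi)
    have hr' := reflWord_lt hG hwr hr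
    have hr'pos : D.nroots / 2 ≤ (tabOf D).reflWord w₀.reverse r := hw3 r hr (by
      have hn : (tabOf D).n = D.nroots := rfl
      rw [hn]; omega)
    have hback : (tabOf D).reflWord w₀ ((tabOf D).reflWord w₀.reverse r) = r := by
      have := reflWord_reverse hG hwr hr
      rwa [List.reverse_reverse] at this
    obtain ⟨g, hg, ε, _, hM⟩ := S.exists_Nb_of_word hG hT h5 h5m h6 h7 h7m h8 h27 w₀ hw1
    obtain ⟨c1, _, c3⟩ := hM _ hr'
    have e := c3 ((ε ((tabOf D).reflWord w₀.reverse r))⁻¹ * v)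
    rw [hback, ← mul_assoc, mul_inv_cancel₀ c1, one_mul] at e
    rw [← e]
    have hgm : g ∈ S.Ub ⊔ S.Nb := Subgroup.mem_sup_right hg
    exact mul_mem (mul_mem hgm (Subgroup.mem_sup_left (S.xb_mem_XS hr' hr'pos _))) (inv_mem hgm)

include hG hT h5 h5m h6 h7 h7m h8 h27 hw₀ hgen in
/-- Every element is a product `u n u'`. -/
theorem mem_BS (g : Γ) : g ∈ S.BS := by
  have hG1 := hG.toGood1
  have htop : S.Ub ⊔ S.Nb = ⊤ := by
    rw [eq_top_iff, ← hgen, Subgroup.closure_le]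
    rintro x ⟨r, t, hr, rfl⟩
    exact S.xb_mem_sup hG hT h5 h5m h6 h7 h7m h8 h27 hw₀ hr t
  have hone : (1 : Γ) ∈ S.BS := ⟨1, one_mem _, 1, one_mem _, 1, one_mem _, by group⟩
  have hle : S.Ub ⊔ S.Nb ≤ Subgroup.closure ((S.Ub : Set Γ) ∪
      {g | ∃ (i : ℕ) (t : K), i < D.rank ∧ t ≠ 0 ∧ g = S.nb i t}) := by
    apply sup_le
    · intro x hx
      exact Subgroup.subset_closure (Or.inl hx)
    · unfold Nb
      exact Subgroup.closure_mono Set.subset_union_right
  have key : ∀ g ∈ Subgroup.closure ((S.Ub : Set Γ) ∪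
      {g | ∃ (i : ℕ) (t : K), i < D.rank ∧ t ≠ 0 ∧ g = S.nb i t}), ∀ x ∈ S.BS, g * x ∈ S.BS := by
    intro g hg'
    induction hg' using Subgroup.closure_induction'' with
    | one => intro x hx; rw [one_mul]; exact hx
    | mem y hy =>
      intro x hx
      rcases hy with hy | ⟨i, t, hi, ht, rfl⟩
      · obtain ⟨u₁, hu₁, n, hn, u₂, hu₂, rfl⟩ := hx
        exact ⟨y * u₁, mul_mem hy hu₁, n, hn, u₂, hu₂, by group⟩
      · exact S.nb_mul_mem_BS hG hT h5 h5m h6 h7 h7m h8 h27 hi ht hx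
    | inv_mem y hy =>
      intro x hx
      rcases hy with hy | ⟨i, t, hi, ht, rfl⟩
      · obtain ⟨u₁, hu₁, n, hn, u₂, hu₂, rfl⟩ := hx
        exact ⟨y⁻¹ * u₁, mul_mem (inv_mem hy) hu₁, n, hn, u₂, hu₂, by group⟩
      · rw [S.nb_inv hG hi]
        exact S.nb_mul_mem_BS hG hT h5 h5m h6 h7 h7m h8 h27 hi (neg_ne_zero.mpr ht) hx
    | mul y z _ _ hy hz =>
      intro x hx
      rw [mul_assoc]
      exact hy _ (hz x hx)
  have := key g (hle (by rw [htop]; exact Subgroup.mem_top g)) 1 hone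
  rwa [mul_one] at this

include hT in
theorem π_Ub_le : (S.Ub).map S.π ≤ D.posUnipotent K := by
  rw [Subgroup.map_le_iff_le_comap]
  unfold Ub XS
  rw [Subgroup.closure_le]
  rintro x ⟨s, u, hs, hpos, rfl⟩
  rw [SetLike.mem_coe, Subgroup.mem_comap]
  apply Subgroup.subset_closure
  exact ⟨s, u, (isPosRoot_iff hT hs).mpr hpos, S.hπ s hs u⟩

include hG in
theorem π_nb_mem_monomial {i : ℕ} (hi : i < D.rank) {t : K} (ht : t ≠ 0) :
    S.π (S.nb i t) ∈ D.monomialSubgroup K := by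
  have hG1 := hG.toGood1
  have hp := hG1.simple_lt hi
  have e : S.π (S.nb i t) = hGL hG1 hp t ht * nGL hG1 hp := by
    apply Units.ext
    rw [S.π_nb hG hi, Units.val_mul, hGL_coe, nGL_coe, nMat_eq_hMat_mul hG1 hp ht]
  rw [e]
  unfold ChevalleyDatum.monomialSubgroup
  apply mul_mem
  · apply Subgroup.mem_sup_left
    exact Subgroup.subset_closure ⟨_, t, hp, ht, hGL_coe hG1 hp t ht⟩
  · apply Subgroup.mem_sup_right
    exact Subgroup.subset_closure ⟨_, hp, nGL_coe hG1 hp⟩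

include hG in
theorem π_Nb_le : (S.Nb).map S.π ≤ D.monomialSubgroup K := by
  rw [Subgroup.map_le_iff_le_comap]
  unfold Nb
  rw [Subgroup.closure_le]
  rintro x ⟨i, t, hi, ht, rfl⟩
  rw [SetLike.mem_coe, Subgroup.mem_comap]
  exact S.π_nb_mem_monomial hG hi ht

include hG hT h5 h5m h6 h7 h7m h8 h27 in
/-- An element of `Nb` in the kernel of `π` commutes with the elements `xb s u`. -/
theorem Nb_ker_comm {n : Γ} (hn : n ∈ S.Nb) (hπ : S.π n = 1) {s : ℕ} (hs : s < D.nroots) (u : K) :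
    n * S.xb s u * n⁻¹ = S.xb s u := by
  have hG1 := hG.toGood1
  obtain ⟨w, ε, hw, hM⟩ := S.Nb_monE hG hT h5 h5m h6 h7 h7m h8 h27 hn
  obtain ⟨c1, _, c3⟩ := hM s hs
  have hs' := reflWord_lt hG hw hs
  have e := congrArg S.π (c3 u)
  rw [map_mul, map_mul, map_inv, hπ, one_mul, inv_one, mul_one, S.π_xb hG1 hs, S.π_xb hG1 hs'] at e
  by_cases hu : u = 0
  · rw [hu, S.xb_zero hs]; group
  · have hss := root_eq_of_xGL_eq hG h8 hs hs' hu e
    rw [c3 u]
    have e' : xGL hG1 hs u = xGL hG1 hs (ε s * u) := by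
      rw [e]
      exact (xGL_congr hG hss hs hs' _).symm
    rw [← hss, ← xGL_injective hG hT h8 hs e']

include hG hT h5 h5m h6 h7 h7m h8 h9 h27 hw₀ hgen in
/-- The kernel of `π` lies in `Nb` and in the centre. -/
theorem ker_mem {x : Γ} (hx : S.π x = 1) : x ∈ S.Nb ∧ x ∈ Subgroup.center Γ := by
  have hG1 := hG.toGood1
  obtain ⟨u₁, hu₁, n, hn, u₂, hu₂, rfl⟩ := S.mem_BS hG hT h5 h5m h6 h7 h7m h8 h27 hw₀ hgen x
  have hU1 : S.π u₁ ∈ D.posUnipotent K := S.π_Ub_le hT (Subgroup.mem_map_of_mem _ hu₁)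
  have hU2 : S.π u₂ ∈ D.posUnipotent K := S.π_Ub_le hT (Subgroup.mem_map_of_mem _ hu₂)
  have hN : S.π n ∈ D.monomialSubgroup K := S.π_Nb_le hG (Subgroup.mem_map_of_mem _ hn)
  rw [map_mul, map_mul] at hx
  have en : S.π n = (S.π u₁)⁻¹ * (S.π u₂)⁻¹ := by
    have h1 : S.π n = (S.π u₁)⁻¹ * (S.π u₁ * S.π n * S.π u₂) * (S.π u₂)⁻¹ := by group
    rw [h1, hx, mul_one]
  have hn1 : S.π n = 1 := by
    have : S.π n ∈ D.posUnipotent K ⊓ D.monomialSubgroup K := by
      refine ⟨?_, hN⟩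
      rw [en]
      exact (D.posUnipotent K).mul_mem ((D.posUnipotent K).inv_mem hU1)
        ((D.posUnipotent K).inv_mem hU2)
    rw [posUnipotent_inf_monomial hG hT h6 h8 h9, Subgroup.mem_bot] at this
    exact this
  have hu21 : u₂ = u₁⁻¹ := by
    apply S.Ub_inj hG hT h7 h8 hu₂ (inv_mem hu₁)
    rw [hn1, mul_one] at hx
    rw [map_inv]
    exact eq_inv_of_mul_eq_one_right hx
  have hcomm : ∀ g : Γ, g * n = n * g := by
    intro g
    have hg : g ∈ Subgroup.centralizer ({n} : Set Γ) := by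
      have hle : Subgroup.closure {g | ∃ (r : ℕ) (t : K), r < D.nroots ∧ g = S.xb r t} ≤
          Subgroup.centralizer ({n} : Set Γ) := by
        rw [Subgroup.closure_le]
        rintro y ⟨r, t, hr, rfl⟩
        rw [SetLike.mem_coe, Subgroup.mem_centralizer_iff]
        intro h hh
        rw [Set.mem_singleton_iff.mp hh]
        have := S.Nb_ker_comm hG hT h5 h5m h6 h7 h7m h8 h27 hn hn1 hr t
        rw [mul_inv_eq_iff_eq_mul] at this
        exact this
      apply hle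
      rw [hgen]
      exact Subgroup.mem_top g
    rw [Subgroup.mem_centralizer_iff] at hg
    exact (hg n rfl).symm
  have hxn : u₁ * n * u₂ = n := by
    rw [hu21, hcomm u₁, mul_assoc, mul_inv_cancel, mul_one]
  rw [hxn]
  exact ⟨hn, Subgroup.mem_center_iff.mpr hcomm⟩

end main

end StD

end Cfsg.Agent.Helper7.St
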