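import Mathlib
import Cfsg.Agent.Helper7.StH

set_option autoImplicit false
set_option linter.unusedSectionVars false
set_option linter.unusedVariables false

/-!
Alternating products of two involutions, and the subgroup generated by the elements `hb i t` of a group
with the relations (R1), (R2): it is normal in the subgroup generated by the elements `nb i t`.
-/

namespace Cfsg.Agent.Helper7.St

open Cfsg Cfsg.Lie Matrix Cfsg.Agent.Helper7.Chev
open scoped Pointwise

/-! ### Alternating products -/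

section alt

variable {G : Type*} [Group G]

/-- The alternating product `a b a …` with `k` factors. -/
def altP (a b : G) : ℕ → G
  | 0 => 1
  | k + 1 => a * altP b a k

theorem altP_add_two (a b : G) (k : ℕ) : altP a b (k + 2) = a * b * altP a b k := by
  change a * (b * altP a b k) = _
  rw [mul_assoc]

theorem altP_even (a b : G) (k : ℕ) : altP a b (2 * k) = (a * b) ^ k := by
  induction k with
  | zero => rw [Nat.mul_zero, pow_zero]; rfl
  | succ k ih =>
    have : 2 * (k + 1) = 2 * k + 2 := by ring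
    rw [this, altP_add_two, ih, pow_succ']

theorem altP_odd (a b : G) (k : ℕ) : altP a b (2 * k + 1) = (a * b) ^ k * a := by
  induction k with
  | zero => change a * 1 = _; rw [pow_zero, one_mul, mul_one]
  | succ k ih =>
    have : 2 * (k + 1) + 1 = (2 * k + 1) + 2 := by ring
    rw [this, altP_add_two, ih, pow_succ']
    simp only [mul_assoc]

theorem mul_pow_swap (a b : G) (k : ℕ) : a * (b * a) ^ k = (a * b) ^ k * a := by
  induction k with
  | zero => simp
  | succ k ih =>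
    calc a * (b * a) ^ (k + 1) = a * b * (a * (b * a) ^ k) := by
          rw [pow_succ']; simp only [mul_assoc]
      _ = (a * b) ^ (k + 1) * a := by rw [ih, pow_succ']; simp only [mul_assoc]

/-- The braid relation between two involutions gives the order of their product. -/
theorem pow_eq_one_of_braid {a b : G} (ha : a * a = 1) (hb : b * b = 1) {m : ℕ} (hm : 0 < m)
    (h : altP a b (m - 1) * (if m % 2 = 1 then a else b) = b * altP a b (m - 1)) :
    (a * b) ^ m = 1 := by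
  have hai : a⁻¹ = a := inv_eq_of_mul_eq_one_right ha
  have hbi : b⁻¹ = b := inv_eq_of_mul_eq_one_right hb
  have hinv : (a * b)⁻¹ = b * a := by rw [_root_.mul_inv_rev, hai, hbi]
  rcases Nat.even_or_odd' m with ⟨k, rfl | rfl⟩
  · -- `m = 2 k`
    obtain ⟨j, rfl⟩ : ∃ j, k = j + 1 := ⟨k - 1, by omega⟩
    have e1 : 2 * (j + 1) - 1 = 2 * j + 1 := by omega
    have e2 : (2 * (j + 1)) % 2 ≠ 1 := by omega
    rw [e1, if_neg e2, altP_odd] at h
    have h1 : (a * b) ^ (j + 1) = (b * a) ^ (j + 1) := by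
      calc (a * b) ^ (j + 1) = (a * b) ^ j * a * b := by rw [pow_succ, mul_assoc]
        _ = b * (a * (b * a) ^ j) := by rw [h, mul_pow_swap]
        _ = (b * a) ^ (j + 1) := by rw [pow_succ', mul_assoc]
    have h2 : (b * a) ^ (j + 1) = ((a * b) ^ (j + 1))⁻¹ := by rw [← inv_pow, hinv]
    rw [two_mul, pow_add]
    nth_rewrite 2 [h1]
    rw [h2, mul_inv_cancel]
  · -- `m = 2 k + 1`
    have e1 : 2 * k + 1 - 1 = 2 * k := by omega
    have e2 : (2 * k + 1) % 2 = 1 := by omega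
    rw [e1, if_pos e2, altP_even] at h
    have hy : ((a * b) ^ k * a) * ((a * b) ^ k * a) = 1 := by
      have : ((a * b) ^ k * a)⁻¹ = (a * b) ^ k * a := by
        rw [_root_.mul_inv_rev, hai, ← inv_pow, hinv, mul_pow_swap]
      rw [inv_eq_iff_mul_eq_one] at this
      exact this
    have e3 : (a * b) ^ (2 * k + 1) = ((a * b) ^ k * a) * (b * (a * b) ^ k) := by
      have e4 : 2 * k + 1 = k + (1 + k) := by ring
      rw [e4, pow_add, pow_add, pow_one]
      simp only [mul_assoc]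
    rw [e3, ← h, hy]

end alt

variable {D : ChevalleyDatum} {K : Type*} [Field K] {Γ : Type*} [Group Γ] (S : StD D K Γ)

namespace StD

/-- `nbr r t = xb r t * xb (-r) (-t⁻¹) * xb r t` for a root `r`. -/
def nbr (r : ℕ) (t : K) : Γ := S.xb r t * S.xb (D.neg r) (-t⁻¹) * S.xb r t

theorem nb_eq_nbr (i : ℕ) (t : K) : S.nb i t = S.nbr (D.simple i) t := rfl

/-- `hb i t = nb i t * nb i (-1)`. -/
def hb (i : ℕ) (t : K) : Γ := S.nb i t * S.nb i (-1)

/-- The subgroup generated by the elements `hb i t`. -/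
def Hb : Subgroup Γ :=
  Subgroup.closure {g | ∃ (i : ℕ) (t : K), i < D.rank ∧ t ≠ 0 ∧ g = S.hb i t}

theorem hb_mem_Hb {i : ℕ} (hi : i < D.rank) {t : K} (ht : t ≠ 0) : S.hb i t ∈ S.Hb :=
  Subgroup.subset_closure ⟨i, t, hi, ht, rfl⟩

theorem Hb_le_Nb : S.Hb ≤ S.Nb := by
  unfold Hb
  rw [Subgroup.closure_le]
  rintro x ⟨i, t, hi, ht, rfl⟩
  exact mul_mem (S.nb_mem_Nb hi ht) (S.nb_mem_Nb hi (neg_ne_zero.mpr one_ne_zero))

section conj

variable (hG : Good2 D)

include hG in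
/-- The action of an element acting through a word on the elements `nbr s t`. -/
theorem monE_conj_nbr {g : Γ} {w : List ℕ} {ε : ℕ → K} (h : S.MonE g w ε) {s : ℕ}
    (hs : s < D.nroots) (t : K) :
    g * S.nbr s t * g⁻¹ = S.nbr ((tabOf D).reflWord w s) (ε s * t) := by
  obtain ⟨hw, h⟩ := h
  have hns := hG.toGood1.neg_lt hs
  obtain ⟨a1, a2, a3⟩ := h s hs
  obtain ⟨b1, b2, b3⟩ := h _ hns
  unfold nbr
  have e : g * (S.xb s t * S.xb (D.neg s) (-t⁻¹) * S.xb s t) * g⁻¹ =
      (g * S.xb s t * g⁻¹) * (g * S.xb (D.neg s) (-t⁻¹) * g⁻¹) * (g * S.xb s t * g⁻¹) := by group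
  rw [e, a3, b3, reflWord_neg hG hw hs, a2, _root_.mul_inv_rev, mul_neg, mul_comm (ε s)⁻¹]

include hG in
theorem hb_mul_nb {i : ℕ} (hi : i < D.rank) (t : K) : S.hb i t * S.nb i 1 = S.nb i t := by
  unfold hb
  rw [← S.nb_inv hG hi, inv_mul_cancel_right]

include hG in
/-- `nb j x * (nb j y)⁻¹ = hb j x * (hb j y)⁻¹`. -/
theorem nb_mul_nb_inv {j : ℕ} (hj : j < D.rank) (x y : K) :
    S.nb j x * (S.nb j y)⁻¹ = S.hb j x * (S.hb j y)⁻¹ := by
  unfold hb
  group

end conj

section normal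

variable (hG : Good2 D) (hT : T0 D) (h5 : (tabOf D).T5) (h5m : (tabOf D).T5m) (h6 : (tabOf D).T6)
  (h7 : (tabOf D).T7) (h7m : (tabOf D).T7m) (h8 : (tabOf D).T8) {wit : ℕ → ℕ × ℕ × ℕ}
  (h27 : (tabOf D).T37 wit)

include hG hT h5 h5m h6 h7 h7m h8 h27 in
/-- Conjugation of `hb i a` by `nb j v`. -/
theorem nb_conj_hb_mem {i j : ℕ} (hi : i < D.rank) (hj : j < D.rank) {a v : K} (ha : a ≠ 0)
    (hv : v ≠ 0) : S.nb j v * S.hb i a * (S.nb j v)⁻¹ ∈ S.Hb := by
  have hG1 := hG.toGood1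
  have hq := hG1.simple_lt hj
  have hm1 : (-1 : K) ≠ 0 := neg_ne_zero.mpr one_ne_zero
  have M1 := S.monE_mul hG (S.monE_nb hG hT h5 h5m h6 h7 h7m h8 h27 hi ha)
    (S.monE_nb hG hT h5 h5m h6 h7 h7m h8 h27 hi hm1)
  have M2 := S.monE_inv hG M1
  have e1 := S.monE_conj_nbr hG M2 hq v
  have hrefl : (tabOf D).reflWord ([i] ++ [i]).reverse (D.simple j) = D.simple j := by
    change (tabOf D).refl (D.simple i) ((tabOf D).refl (D.simple i) (D.simple j)) = D.simple j
    exact hG.refl_refl hi hq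
  obtain ⟨c1, _, _⟩ := M2.2 _ hq
  simp only [] at c1 e1
  rw [hrefl] at c1
  rw [hrefl, inv_inv] at e1
  have e2 : S.nb j v * S.hb i a * (S.nb j v)⁻¹ =
      S.hb i a * ((S.hb i a)⁻¹ * S.nb j v * S.hb i a) * (S.nb j v)⁻¹ := by group
  rw [e2]
  change S.hb i a * ((S.hb i a)⁻¹ * S.nbr (D.simple j) v * S.hb i a) * (S.nb j v)⁻¹ ∈ S.Hb
  unfold hb
  rw [e1, mul_assoc]
  change S.nb i a * S.nb i (-1) * (S.nb j _ * (S.nb j v)⁻¹) ∈ S.Hb
  rw [S.nb_mul_nb_inv hG hj]
  exact mul_mem (S.hb_mem_Hb hi ha) (mul_mem (S.hb_mem_Hb hj (mul_ne_zero c1 hv))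
    (inv_mem (S.hb_mem_Hb hj hv)))

include hG hT h5 h5m h6 h7 h7m h8 h27 in
/-- `Hb` is normalised by `Nb`. -/
theorem Nb_le_normalizer_Hb : S.Nb ≤ Subgroup.normalizer (S.Hb : Set Γ) := by
  unfold Nb
  rw [Subgroup.closure_le]
  rintro x ⟨j, v, hj, hv, rfl⟩
  rw [SetLike.mem_coe]
  unfold Hb
  apply mem_normalizer_closure
  · rintro y ⟨i, a, hi, ha, rfl⟩
    exact S.nb_conj_hb_mem hG hT h5 h5m h6 h7 h7m h8 h27 hi hj ha hv
  · rintro y ⟨i, a, hi, ha, rfl⟩
    have := S.nb_conj_hb_mem hG hT h5 h5m h6 h7 h7m h8 h27 hi hj ha (neg_ne_zero.mpr hv)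
    rwa [← S.nb_inv hG hj, inv_inv] at this

end normal

end StD

end Cfsg.Agent.Helper7.St
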