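import Mathlib
import Cfsg.Agent.Helper7.StK
import Cfsg.Agent.Helper7.ChevCoxeter

set_option autoImplicit false
set_option linter.unusedSectionVars false
set_option linter.unusedVariables false

/-!
In a group with the relations (R1), (R2), the quotient of the subgroup generated by the elements `nb i t`
by the subgroup generated by the elements `hb i t` is a quotient of the Coxeter group; hence the elements
of the former subgroup in the kernel of the homomorphism to the matrix group lie in the latter.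
-/

namespace Cfsg.Agent.Helper7.St

open Cfsg Cfsg.Lie Matrix Cfsg.Agent.Helper7.Chev
open scoped Pointwise

theorem map_altP {G H : Type*} [Group G] [Group H] (f : G →* H) (a b : G) (k : ℕ) :
    f (altP a b k) = altP (f a) (f b) k := by
  induction k generalizing a b with
  | zero => exact map_one f
  | succ k ih =>
    change f (a * altP b a k) = f a * altP (f b) (f a) k
    rw [map_mul, ih]

variable {D : ChevalleyDatum} {K : Type*} [Field K] {Γ : Type*} [Group Γ] (S : StD D K Γ)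

namespace StD

section cox

variable (hG : Good2 D) (hT : T0 D) (h3 : (tabOf D).T3) (h4 : (tabOf D).T4 60) (h5 : (tabOf D).T5)
  (h5m : (tabOf D).T5m) (h6 : (tabOf D).T6)
  (h7 : (tabOf D).T7) (h7m : (tabOf D).T7m) (h8 : (tabOf D).T8) (h9 : (tabOf D).T9)
  {wit : ℕ → ℕ × ℕ × ℕ} (h27 : (tabOf D).T37 wit)

include hG hT h5 h5m h6 h7 h7m h8 h27 in
/-- The alternating products of the elements `nb i 1`, `nb j 1` act through the alternating words. -/
theorem monE_altP (k : ℕ) : ∀ {i j : ℕ}, i < D.rank → j < D.rank →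
    ∃ ε : ℕ → K, S.MonE (altP (S.nb i 1) (S.nb j 1) k) (Tab.altW i j k) ε := by
  induction k with
  | zero => intro i j _ _; exact ⟨_, S.monE_one⟩
  | succ k ih =>
    intro i j hi hj
    obtain ⟨ε, h⟩ := ih hj hi
    have h1 := S.monE_nb hG hT h5 h5m h6 h7 h7m h8 h27 hi (one_ne_zero (α := K))
    exact ⟨_, S.monE_mul hG h1 h⟩

theorem altP_mem {G : Type*} [Group G] (H : Subgroup G) {a b : G} (ha : a ∈ H) (hb : b ∈ H)
    (k : ℕ) : altP a b k ∈ H := by
  induction k generalizing a b with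
  | zero => exact one_mem H
  | succ k ih => exact mul_mem ha (ih hb ha)

include hG hT h5 h5m h6 h7 h7m h8 h27 in
/-- The braid relation, up to an element `nb j c`. -/
theorem braid_nb {m : ℕ → ℕ → ℕ} (h28 : (tabOf D).T38 m) {i j : ℕ} (hi : i < D.rank)
    (hj : j < D.rank) (hij : i ≠ j) :
    ∃ c : K, c ≠ 0 ∧ altP (S.nb i 1) (S.nb j 1) (m i j - 1) *
      S.nb (if m i j % 2 = 1 then i else j) 1 =
        S.nb j c * altP (S.nb i 1) (S.nb j 1) (m i j - 1) := by
  have hG1 := hG.toGood1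
  obtain ⟨_, h28'⟩ := h28 i hi j hj hij
  obtain ⟨ε, hM⟩ := S.monE_altP hG hT h5 h5m h6 h7 h7m h8 h27 (m i j - 1) hi hj
  have hx : (if m i j % 2 = 1 then i else j) < D.rank := by split_ifs <;> assumption
  have hpx := hG1.simple_lt hx
  have e := S.monE_conj_nbr hG hM hpx 1
  have h28'' : (tabOf D).reflWord (Tab.altW i j (m i j - 1))
      (D.simple (if m i j % 2 = 1 then i else j)) = D.simple j := h28'
  rw [h28'', mul_one] at e
  refine ⟨ε (D.simple (if m i j % 2 = 1 then i else j)), (hM.2 _ hpx).1, ?_⟩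
  have e' : altP (S.nb i 1) (S.nb j 1) (m i j - 1) * S.nb (if m i j % 2 = 1 then i else j) 1 *
      (altP (S.nb i 1) (S.nb j 1) (m i j - 1))⁻¹ =
      S.nb j (ε (D.simple (if m i j % 2 = 1 then i else j))) := e
  rw [← e']
  group

include hG hT h3 h4 h5 h5m h6 h7 h7m h8 h9 h27 in
/-- An element of `Nb` in the kernel of `π` lies in `Hb`. -/
theorem Nb_ker_le_Hb {n : ℕ} (hn : n = D.rank) (M : CoxeterMatrix (Fin n)) {m : ℕ → ℕ → ℕ}
    (hm : ∀ i j : Fin n, M i j = m i j) (h21 : (tabOf D).T21 m) (h28 : (tabOf D).T38 m)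
    {x : Γ} (hx : x ∈ S.Nb) (hπ : S.π x = 1) : x ∈ S.Hb := by
  subst hn
  have hG1 := hG.toGood1
  obtain ⟨φ, _, hφk, hφs⟩ := exists_coxeter_hom_chev (F := K) hG hT h3 h4 h5 h6 h8 h9 rfl M hm h21
  haveI hnormal : (S.Hb.subgroupOf S.Nb).Normal :=
    (Subgroup.normal_subgroupOf_iff_le_normalizer S.Hb_le_Nb).mpr
      (S.Nb_le_normalizer_Hb hG hT h5 h5m h6 h7 h7m h8 h27)
  -- the generators of the quotient
  have hnbN : ∀ (i : ℕ) (hi : i < D.rank) (t : K) (ht : t ≠ 0), S.nb i t ∈ S.Nb :=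
    fun i hi t ht => S.nb_mem_Nb hi ht
  let sb : Fin D.rank → ↥S.Nb ⧸ S.Hb.subgroupOf S.Nb :=
    fun i => QuotientGroup.mk ⟨S.nb i 1, hnbN i i.2 1 one_ne_zero⟩
  have hF1 : ∀ (i : Fin D.rank) (t : K) (ht : t ≠ 0),
      (QuotientGroup.mk ⟨S.nb i t, hnbN i i.2 t ht⟩ : ↥S.Nb ⧸ S.Hb.subgroupOf S.Nb) = sb i := by
    intro i t ht
    have hhN : S.hb i t ∈ S.Nb := S.Hb_le_Nb (S.hb_mem_Hb i.2 ht)
    have e : (⟨S.nb i t, hnbN i i.2 t ht⟩ : ↥S.Nb) =
        ⟨S.hb i t, hhN⟩ * ⟨S.nb i 1, hnbN i i.2 1 one_ne_zero⟩ :=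
      Subtype.ext (S.hb_mul_nb hG i.2 t).symm
    rw [e, QuotientGroup.mk_mul]
    have h1 : (QuotientGroup.mk ⟨S.hb i t, hhN⟩ : ↥S.Nb ⧸ S.Hb.subgroupOf S.Nb) = 1 := by
      rw [QuotientGroup.eq_one_iff]
      exact Subgroup.mem_subgroupOf.mpr (S.hb_mem_Hb i.2 ht)
    rw [h1, one_mul]
  have hF2 : ∀ i : Fin D.rank, sb i * sb i = 1 := by
    intro i
    change (QuotientGroup.mk (⟨S.nb i 1, hnbN i i.2 1 one_ne_zero⟩ * ⟨S.nb i 1, hnbN i i.2 1 one_ne_zero⟩) :
      ↥S.Nb ⧸ S.Hb.subgroupOf S.Nb) = 1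
    rw [QuotientGroup.eq_one_iff]
    apply Subgroup.mem_subgroupOf.mpr
    change S.nb i 1 * S.nb i 1 ∈ S.Hb
    have e : S.nb i 1 * S.nb i 1 = (S.hb i (-1))⁻¹ := by
      unfold hb
      rw [_root_.mul_inv_rev, S.nb_inv hG i.2, neg_neg]
    rw [e]
    exact inv_mem (S.hb_mem_Hb i.2 (neg_ne_zero.mpr one_ne_zero))
  have hF3 : ∀ i j : Fin D.rank, i ≠ j → (sb i * sb j) ^ m i j = 1 := by
    intro i j hij
    have hij' : i.val ≠ j.val := fun h => hij (Fin.ext h)
    obtain ⟨hpos, _⟩ := h28 i.val i.2 j.val j.2 hij'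
    obtain ⟨c, hc, hbr⟩ := S.braid_nb hG hT h5 h5m h6 h7 h7m h8 h27 h28 i.2 j.2 hij'
    apply pow_eq_one_of_braid (hF2 i) (hF2 j) hpos
    -- transport the braid relation to the quotient
    have haN : S.nb i 1 ∈ S.Nb := hnbN i i.2 1 one_ne_zero
    have hbN : S.nb j 1 ∈ S.Nb := hnbN j j.2 1 one_ne_zero
    have hgN : altP (S.nb i 1) (S.nb j 1) (m i j - 1) ∈ S.Nb := altP_mem S.Nb haN hbN _
    have hx' : (if m i j % 2 = 1 then i.val else j.val) < D.rank := by split_ifs <;> simp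
    have hxN : S.nb (if m i j % 2 = 1 then i.val else j.val) 1 ∈ S.Nb := hnbN _ hx' 1 one_ne_zero
    have hcN : S.nb j c ∈ S.Nb := hnbN j j.2 c hc
    have e1 : (⟨altP (S.nb i 1) (S.nb j 1) (m i j - 1), hgN⟩ : ↥S.Nb) * ⟨_, hxN⟩ =
        ⟨_, hcN⟩ * ⟨altP (S.nb i 1) (S.nb j 1) (m i j - 1), hgN⟩ := Subtype.ext hbr
    have e2 := congrArg (QuotientGroup.mk' (S.Hb.subgroupOf S.Nb)) e1
    rw [map_mul, map_mul] at e2
    have e3 : (⟨altP (S.nb i 1) (S.nb j 1) (m i j - 1), hgN⟩ : ↥S.Nb) =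
        altP (⟨S.nb i 1, haN⟩ : ↥S.Nb) ⟨S.nb j 1, hbN⟩ (m i j - 1) := by
      apply Subtype.ext
      exact (map_altP S.Nb.subtype ⟨S.nb i 1, haN⟩ ⟨S.nb j 1, hbN⟩ (m i j - 1)).symm
    rw [e3, map_altP] at e2
    have e4 : QuotientGroup.mk' (S.Hb.subgroupOf S.Nb) ⟨S.nb j c, hcN⟩ = sb j := hF1 j c hc
    have e5 : QuotientGroup.mk' (S.Hb.subgroupOf S.Nb)
        ⟨S.nb (if m i j % 2 = 1 then i.val else j.val) 1, hxN⟩ =
        if m i j % 2 = 1 then sb i else sb j := by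
      have hgen : ∀ (k : ℕ) (hk : k < D.rank) (hkN : S.nb k 1 ∈ S.Nb),
          QuotientGroup.mk' (S.Hb.subgroupOf S.Nb) ⟨S.nb k 1, hkN⟩ = sb ⟨k, hk⟩ := fun _ _ _ => rfl
      rw [hgen _ hx']
      split_ifs with h
      · congr 1
      · congr 1
    rw [e4, e5] at e2
    exact e2
  have hlift : M.IsLiftable sb := by
    intro i j
    by_cases hij : i = j
    · rw [hij, M.diagonal j, pow_one]
      exact hF2 j
    · rw [hm i j]
      exact hF3 i j hij
  -- the homomorphism from the Coxeter group to the quotient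
  let φb : M.Group →* ↥S.Nb ⧸ S.Hb.subgroupOf S.Nb := M.toCoxeterSystem.lift ⟨sb, hlift⟩
  have hφb : ∀ i, φb (M.simple i) = sb i := fun i => M.toCoxeterSystem.lift_apply_simple hlift i
  -- the homomorphism from the quotient to the Coxeter group
  have hπN : ∀ y : ↥S.Nb, S.π y ∈ D.monomialSubgroup K :=
    fun y => S.π_Nb_le hG (Subgroup.mem_map_of_mem _ y.2)
  let ρ : ↥S.Nb →* M.Group := φ.comp ((S.π.comp S.Nb.subtype).codRestrict _ hπN)
  have hρH : S.Hb.subgroupOf S.Nb ≤ ρ.ker := by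
    intro y hy
    rw [Subgroup.mem_subgroupOf] at hy
    rw [MonoidHom.mem_ker, MonoidHom.comp_apply, ← MonoidHom.mem_ker, hφk, Subgroup.mem_subgroupOf]
    change S.π y ∈ D.diagonalSubgroup K
    have hle : S.Hb ≤ (D.diagonalSubgroup K).comap S.π := by
      unfold Hb
      rw [Subgroup.closure_le]
      rintro z ⟨i, t, hi, ht, rfl⟩
      rw [SetLike.mem_coe, Subgroup.mem_comap]
      have hp := hG1.simple_lt hi
      apply Subgroup.subset_closure
      refine ⟨D.simple i, t, hp, ht, ?_⟩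
      unfold hb
      rw [map_mul, Units.val_mul, S.π_nb hG hi, S.π_nb hG hi]
      unfold ChevalleyDatum.hMat ChevalleyDatum.hWord ChevalleyDatum.nMat
      rw [wordMat_append]
    exact hle hy
  let ρb : ↥S.Nb ⧸ S.Hb.subgroupOf S.Nb →* M.Group := QuotientGroup.lift _ ρ hρH
  have hρb : ∀ i, ρb (sb i) = M.simple i := by
    intro i
    change ρ ⟨S.nb i 1, hnbN i i.2 1 one_ne_zero⟩ = M.simple i
    apply hφs i
    exact S.π_nb hG i.2 1
  have hcomp : ρb.comp φb = MonoidHom.id M.Group := by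
    apply M.toCoxeterSystem.ext_simple
    intro i
    rw [MonoidHom.comp_apply, CoxeterMatrix.toCoxeterSystem_simple, hφb, hρb]
    rfl
  -- `φb` is surjective
  have hsurj : ∀ (y : Γ) (hy : y ∈ S.Nb),
      (QuotientGroup.mk ⟨y, hy⟩ : ↥S.Nb ⧸ S.Hb.subgroupOf S.Nb) ∈ φb.range := by
    intro y hy
    unfold Nb at hy
    induction hy using Subgroup.closure_induction with
    | mem z hz =>
      obtain ⟨i, t, hi, ht, rfl⟩ := hz
      exact ⟨M.simple ⟨i, hi⟩, (hφb ⟨i, hi⟩).trans (hF1 ⟨i, hi⟩ t ht).symm⟩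
    | one => exact one_mem _
    | mul a b ha hb iha ihb =>
      have : (QuotientGroup.mk ⟨a * b, mul_mem (Subgroup.closure_le _ |>.mpr (fun _ h => Subgroup.subset_closure h) ha) (Subgroup.closure_le _ |>.mpr (fun _ h => Subgroup.subset_closure h) hb)⟩ :
          ↥S.Nb ⧸ S.Hb.subgroupOf S.Nb) = QuotientGroup.mk ⟨a, ha⟩ * QuotientGroup.mk ⟨b, hb⟩ := rfl
      exact mul_mem iha ihb
    | inv a ha iha => exact inv_mem iha
  obtain ⟨w, hw⟩ := hsurj x hx
  have hw1 : w = 1 := by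
    have h1 := congrArg (fun f => f w) hcomp
    simp only [MonoidHom.comp_apply, MonoidHom.id_apply] at h1
    rw [← h1, hw]
    change ρ ⟨x, hx⟩ = 1
    have : (S.π.comp S.Nb.subtype).codRestrict _ hπN ⟨x, hx⟩ = 1 := Subtype.ext hπ
    change φ ((S.π.comp S.Nb.subtype).codRestrict _ hπN ⟨x, hx⟩) = 1
    rw [this, map_one]
  rw [hw1, map_one] at hw
  have := (QuotientGroup.eq_one_iff _).mp hw.symm
  exact Subgroup.mem_subgroupOf.mp this

end cox

end StD

end Cfsg.Agent.Helper7.St
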