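import Mathlib
import Cfsg.Agent.Helper7.StCert

set_option autoImplicit false

/-!
Table fact: every root is the image of a fundamental root under a word of fundamental reflections.
-/

namespace Cfsg.Agent.Helper7.Chev

open Cfsg Cfsg.Lie

namespace Tab

variable (T : Tab)

/-- Level-29 fact: the `r`-th entry `(w, i)` of the list gives a word `w` mapping the `i`-th fundamental
root to the root `r`. -/
def T29 (orb : List (List ℕ × ℕ)) : Prop :=
  AllLt T.n (fun r => (orb.getD r ([], 0)).1.all (fun k => decide (k < T.l)) = true ∧
    (orb.getD r ([], 0)).2 < T.l ∧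
    T.reflWord (orb.getD r ([], 0)).1 (T.simple (orb.getD r ([], 0)).2) = r)

instance (orb : List (List ℕ × ℕ)) : Decidable (T.T29 orb) := by unfold T29; infer_instance

end Tab

end Cfsg.Agent.Helper7.Chev
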