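import Mathlib
import Cfsg.Agent.Helper7.StCert2

set_option autoImplicit false

/-!
Table facts for the central closedness of the presented groups of Steinberg: separating torus elements,
torus elements acting on a root by any scalar, and positivity of the commutator terms of positive roots in
the opposite order.
-/

namespace Cfsg.Agent.Helper7.Chev

open Cfsg Cfsg.Lie

namespace Tab

variable (T : Tab)

/-- Some root `γ` has `⟨r, γ⟩ = 0` and `⟨s, γ⟩ ≠ 0`, of absolute value at most `3`. -/
def sepB (r s : ℕ) : Bool :=
  (List.range T.n).any fun γ => decide (T.pairing γ r = 0) && decide (T.pairing γ s ≠ 0) &&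
    decide ((T.pairing γ s).natAbs ≤ 3)

/-- Two roots `s ≠ ± r` are separated by a torus element. -/
def TP1 : Prop :=
  AllLt T.n (fun r => AllLt T.n (fun s => s ≠ r → s ≠ T.neg r → T.sepB r s = true))

instance : Decidable T.TP1 := by unfold TP1; infer_instance

/-- The roots `s ≠ ± r` whose elements commute with those of `r` by the commutator formula. -/
def okB (r s : ℕ) : Bool :=
  decide (s < T.n) && decide (s ≠ r) && decide (s ≠ T.neg r) && (T.commTerms r s).isEmpty

/-- The root `r` is the last of two commutator terms of a pair `(p, q)`, with coefficient `± 1` and linear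
in the first parameter, and the roots `p`, `q` and the root of the other term commute with `r`. -/
def appA (r : ℕ) : Bool :=
  (List.range T.n).any fun p => (List.range T.n).any fun q =>
    decide (q ≠ p) && decide (q ≠ T.neg p) &&
    match T.commTerms p q with
    | [c₁, c₂] => decide (c₂.1 = r) && (decide (c₂.2.1 = 1) || decide (c₂.2.1 = -1)) &&
        decide (c₂.2.2.1 = 1) && T.okB r p && T.okB r q && T.okB r c₁.1
    | _ => false

/-- Some root `γ` has `⟨r, γ⟩ = ± 1`. -/
def unitB (r : ℕ) : Bool :=
  (List.range T.n).any fun γ => decide (T.pairing γ r = 1) || decide (T.pairing γ r = -1)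

/-- Each root either is acted on by any scalar or is a commutator term as in `appA`. -/
def TP3 : Prop := AllLt T.n (fun r => (T.unitB r || T.appA r) = true)

instance : Decidable T.TP3 := by unfold TP3; infer_instance

/-- The roots of the commutator terms of two positive roots `r < s`, taken in the order `(s, r)`, are
positive. -/
def T7s : Prop :=
  AllLt T.n (fun r => T.n / 2 ≤ r → AllLt T.n (fun s => r < s →
    (T.commTerms s r).all (fun c => decide (T.n / 2 ≤ c.1 ∧ c.1 < T.n)) = true))

instance : Decidable T.T7s := by unfold T7s; infer_instance

end Tab

end Cfsg.Agent.Helper7.Chev
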