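import Cfsg.Agent.Helper7.CoxEnum

set_option autoImplicit false
set_option maxRecDepth 100000

/-! Certificate of the order of the Coxeter group of type B2 (generated). -/

namespace Cfsg.Agent.Helper7.CoxB2

open Cfsg.Agent.Helper7.CoxEnum

/-- The Coxeter matrix as a table. -/
def mL : List (List Nat) := [[1, 4], [4, 1]]
/-- The Coxeter matrix as a function. -/
def m (a b : Nat) : Nat := (mL.getD a []).getD b 0
/-- The Cartan matrix as a table. -/
def AL : List (List Int) := [[2, -2], [-1, 2]]
/-- The Cartan matrix as a function. -/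
def A (a b : Nat) : Int := (AL.getD a []).getD b 0

/-- Level 1. -/
def L1 : Level where
  k := 1
  reps := [[], [0]]
  tab := [[1], [0]]
  rk := [[0], [1]]
  js := [[0], [1]]
  par := [0, 0]
  pj := [0, 0]
  vecs := [[1, 0], [-1, 2]]

theorem L1_ok : levelOk 2 m A L1 = true := by decide +kernel

/-- Level 2. -/
def L2 : Level where
  k := 2
  reps := [[], [1], [1, 0], [1, 0, 1]]
  tab := [[0, 1], [2, 0], [1, 3], [3, 2]]
  rk := [[6, 0], [2, 1], [3, 4], [7, 5]]
  js := [[2, 0], [0, 1], [1, 0], [4, 1]]
  par := [0, 0, 1, 2]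
  pj := [0, 1, 0, 1]
  vecs := [[0, 1], [1, -1], [-1, 1], [0, -1]]

theorem L2_ok : levelOk 2 m A L2 = true := by decide +kernel

/-- A row of the comparison of the Coxeter matrix with its table. -/
def hmRow (i : Fin 2) : Prop := ∀ j : Fin 2, CoxeterMatrix.B 2 i j = m i j

instance : DecidablePred hmRow := fun i => by unfold hmRow; infer_instance

theorem hm : ∀ i j : Fin 2, CoxeterMatrix.B 2 i j = m i j := by
  have h : ∀ i, hmRow i := by decide
  exact h

theorem hA : ∀ i j : Fin 2, (Smat A i * Smat A j) ^ m i j = 1 := by decide +kernel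

theorem prod_c : ([L1, L2].map Level.c).prod = 8 := by decide +kernel

/-- The order of the group, and a faithful representation. -/
theorem main : Nat.card (CoxeterMatrix.B 2).Group = 8 ∧
    ∃ f : (CoxeterMatrix.B 2).Group →* Matrix (Fin 2) (Fin 2) ℤ, Function.Injective f ∧
      ∀ j, f ((CoxeterMatrix.B 2).simple j) = Smat A j := by
  have h := coxeter_card (CoxeterMatrix.B 2) m A [L1, L2] hm hA ⟨rfl, L1_ok, rfl, L2_ok, trivial⟩ rfl
  rw [prod_c] at h
  exact h

end Cfsg.Agent.Helper7.CoxB2
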