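import Cfsg.Agent.Helper7.CoxEnum

set_option autoImplicit false
set_option maxRecDepth 100000

/-! Certificate of the order of the Coxeter group of type E6 (generated). -/

namespace Cfsg.Agent.Helper7.CoxE6

open Cfsg.Agent.Helper7.CoxEnum

/-- The Coxeter matrix as a table. -/
def mL : List (List Nat) := [[1, 2, 3, 2, 2, 2], [2, 1, 2, 3, 2, 2], [3, 2, 1, 3, 2, 2], [2, 3, 3, 1, 3, 2], [2, 2, 2, 3, 1, 3], [2, 2, 2, 2, 3, 1]]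
/-- The Coxeter matrix as a function. -/
def m (a b : Nat) : Nat := (mL.getD a []).getD b 0
/-- The Cartan matrix as a table. -/
def AL : List (List Int) := [[2, 0, -1, 0, 0, 0], [0, 2, 0, -1, 0, 0], [-1, 0, 2, -1, 0, 0], [0, -1, -1, 2, -1, 0], [0, 0, 0, -1, 2, -1], [0, 0, 0, 0, -1, 2]]
/-- The Cartan matrix as a function. -/
def A (a b : Nat) : Int := (AL.getD a []).getD b 0

/-- Level 1. -/
def L1 : Level where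
  k := 1
  reps := [[], [0]]
  tab := [[1], [0]]
  rk := [[0], [1]]
  js := [[0], [1]]
  par := [0, 0]
  pj := [0, 0]
  vecs := [[1, 0, 0, 0, 0, 0], [-1, 0, 1, 0, 0, 0]]

theorem L1_ok : levelOk 6 m A L1 = true := by decide +kernel

/-- Level 2. -/
def L2 : Level where
  k := 2
  reps := [[], [1]]
  tab := [[0, 1], [1, 0]]
  rk := [[2, 0], [3, 1]]
  js := [[2, 0], [4, 1]]
  par := [0, 0]
  pj := [0, 1]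
  vecs := [[0, 1, 0, 0, 0, 0], [0, -1, 0, 1, 0, 0]]

theorem L2_ok : levelOk 6 m A L2 = true := by decide +kernel

/-- Level 3. -/
def L3 : Level where
  k := 3
  reps := [[], [2], [2, 0]]
  tab := [[0, 0, 1], [2, 1, 0], [1, 2, 2]]
  rk := [[4, 5, 0], [2, 6, 1], [3, 7, 8]]
  js := [[2, 2, 0], [0, 5, 1], [1, 3, 3]]
  par := [0, 0, 1]
  pj := [0, 2, 0]
  vecs := [[0, 0, 1, 0, 0, 0], [1, 0, -1, 1, 0, 0], [-1, 0, 0, 1, 0, 0]]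

theorem L3_ok : levelOk 6 m A L3 = true := by decide +kernel

/-- Level 4. -/
def L4 : Level where
  k := 4
  reps := [[], [3], [3, 1], [3, 2], [3, 1, 2], [3, 2, 0], [3, 1, 2, 0], [3, 1, 2, 3], [3, 1, 2, 0, 3], [3, 1, 2, 0, 3, 2]]
  tab := [[0, 0, 0, 1], [1, 2, 3, 0], [2, 1, 4, 2], [5, 4, 1, 3], [6, 3, 2, 7], [3, 6, 5, 5], [4, 5, 6, 8], [8, 7, 7, 4], [7, 8, 9, 6], [9, 9, 8, 9]]
  rk := [[18, 19, 20, 0], [21, 2, 4, 1], [22, 3, 6, 23], [8, 24, 5, 26], [10, 25, 7, 12], [9, 27, 29, 30], [11, 28, 31, 14], [32, 34, 35, 13], [33, 36, 16, 15], [37, 38, 17, 39]]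
  js := [[2, 2, 2, 0], [6, 0, 0, 1], [4, 1, 0, 4], [0, 5, 1, 5], [0, 1, 1, 0], [1, 3, 3, 3], [1, 1, 3, 0], [6, 6, 6, 1], [1, 3, 0, 1], [5, 5, 1, 5]]
  par := [0, 0, 1, 1, 2, 3, 4, 4, 6, 8]
  pj := [0, 3, 1, 2, 2, 0, 0, 3, 3, 2]
  vecs := [[0, 0, 0, 1, 0, 0], [0, 1, 1, -1, 1, 0], [0, -1, 1, 0, 1, 0], [1, 1, -1, 0, 1, 0], [1, -1, -1, 1, 1, 0], [-1, 1, 0, 0, 1, 0], [-1, -1, 0, 1, 1, 0], [1, 0, 0, -1, 2, 0], [-1, 0, 1, -1, 2, 0], [0, 0, -1, 0, 2, 0]]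

theorem L4_ok : levelOk 6 m A L4 = true := by decide +kernel

/-- Level 5. -/
def L5 : Level where
  k := 5
  reps := [[], [4], [4, 3], [4, 3, 1], [4, 3, 2], [4, 3, 1, 2], [4, 3, 2, 0], [4, 3, 1, 2, 0], [4, 3, 1, 2, 3], [4, 3, 1, 2, 0, 3], [4, 3, 1, 2, 3, 4], [4, 3, 1, 2, 0, 3, 2], [4, 3, 1, 2, 0, 3, 4], [4, 3, 1, 2, 0, 3, 2, 4], [4, 3, 1, 2, 0, 3, 2, 4, 3], [4, 3, 1, 2, 0, 3, 2, 4, 3, 1]]
  tab := [[0, 0, 0, 0, 1], [1, 1, 1, 2, 0], [2, 3, 4, 1, 2], [3, 2, 5, 3, 3], [6, 5, 2, 4, 4], [7, 4, 3, 8, 5], [4, 7, 6, 6, 6], [5, 6, 7, 9, 7], [9, 8, 8, 5, 10], [8, 9, 11, 7, 12], [12, 10, 10, 10, 8], [11, 11, 9, 11, 13], [10, 12, 13, 12, 9], [13, 13, 12, 14, 11], [14, 15, 14, 13, 14], [15, 14, 15, 15, 15]]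
  rk := [[30, 31, 32, 33, 0], [34, 35, 36, 2, 1], [37, 4, 6, 3, 38], [39, 5, 8, 40, 41], [10, 42, 7, 44, 45], [12, 43, 9, 14, 46], [11, 47, 49, 50, 51], [13, 48, 52, 16, 53], [54, 56, 57, 15, 18], [55, 58, 20, 17, 22], [59, 61, 62, 63, 19], [64, 65, 21, 66, 24], [60, 67, 68, 70, 23], [71, 72, 69, 26, 25], [73, 28, 74, 27, 75], [76, 29, 77, 78, 79]]
  js := [[2, 2, 2, 2, 0], [7, 7, 7, 0, 1], [6, 0, 0, 1, 6], [4, 1, 0, 4, 4], [0, 5, 1, 5, 5], [0, 1, 1, 0, 4], [1, 3, 3, 3, 3], [1, 1, 3, 0, 3], [6, 6, 6, 1, 0], [1, 3, 0, 1, 0], [7, 7, 7, 7, 1], [5, 5, 1, 5, 0], [1, 3, 7, 3, 1], [5, 5, 1, 0, 1], [6, 0, 6, 1, 6], [4, 1, 4, 4, 4]]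
  par := [0, 0, 1, 2, 2, 3, 4, 5, 5, 7, 8, 9, 9, 11, 13, 14]
  pj := [0, 4, 3, 1, 2, 2, 0, 0, 3, 3, 4, 2, 4, 4, 3, 1]
  vecs := [[0, 0, 0, 0, 1, 0], [0, 0, 0, 1, -1, 1], [0, 1, 1, -1, 0, 1], [0, -1, 1, 0, 0, 1], [1, 1, -1, 0, 0, 1], [1, -1, -1, 1, 0, 1], [-1, 1, 0, 0, 0, 1], [-1, -1, 0, 1, 0, 1], [1, 0, 0, -1, 1, 1], [-1, 0, 1, -1, 1, 1], [1, 0, 0, 0, -1, 2], [0, 0, -1, 0, 1, 1], [-1, 0, 1, 0, -1, 2], [0, 0, -1, 1, -1, 2], [0, 1, 0, -1, 0, 2], [0, -1, 0, 0, 0, 2]]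

theorem L5_ok : levelOk 6 m A L5 = true := by decide +kernel

/-- Level 6. -/
def L6 : Level where
  k := 6
  reps := [[], [5], [5, 4], [5, 4, 3], [5, 4, 3, 1], [5, 4, 3, 2], [5, 4, 3, 1, 2], [5, 4, 3, 2, 0], [5, 4, 3, 1, 2, 0], [5, 4, 3, 1, 2, 3], [5, 4, 3, 1, 2, 0, 3], [5, 4, 3, 1, 2, 3, 4], [5, 4, 3, 1, 2, 0, 3, 2], [5, 4, 3, 1, 2, 0, 3, 4], [5, 4, 3, 1, 2, 3, 4, 5], [5, 4, 3, 1, 2, 0, 3, 2, 4], [5, 4, 3, 1, 2, 0, 3, 4, 5], [5, 4, 3, 1, 2, 0, 3, 2, 4, 3], [5, 4, 3, 1, 2, 0, 3, 2, 4, 5], [5, 4, 3, 1, 2, 0, 3, 2, 4, 3, 1], [5, 4, 3, 1, 2, 0, 3, 2, 4, 3, 5], [5, 4, 3, 1, 2, 0, 3, 2, 4, 3, 1, 5], [5, 4, 3, 1, 2, 0, 3, 2, 4, 3, 5, 4], [5, 4, 3, 1, 2, 0, 3, 2, 4, 3, 1, 5, 4], [5, 4, 3, 1, 2, 0, 3, 2, 4, 3, 1, 5, 4, 3], [5, 4, 3, 1, 2, 0, 3, 2, 4, 3, 1, 5, 4, 3, 2], [5, 4, 3, 1, 2, 0, 3, 2, 4,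 3, 1, 5, 4, 3, 2, 0]]
  tab := [[0, 0, 0, 0, 0, 1], [1, 1, 1, 1, 2, 0], [2, 2, 2, 3, 1, 2], [3, 4, 5, 2, 3, 3], [4, 3, 6, 4, 4, 4], [7, 6, 3, 5, 5, 5], [8, 5, 4, 9, 6, 6], [5, 8, 7, 7, 7, 7], [6, 7, 8, 10, 8, 8], [10, 9, 9, 6, 11, 9], [9, 10, 12, 8, 13, 10], [13, 11, 11, 11, 9, 14], [12, 12, 10, 12, 15, 12], [11, 13, 15, 13, 10, 16], [16, 14, 14, 14, 14, 11], [15, 15, 13, 17, 12, 18], [14, 16, 18, 16, 16, 13], [17, 19, 17, 15, 17, 20], [18, 18, 16, 20, 18, 15], [19, 17, 19, 19, 19, 21], [20, 21, 20, 18, 22, 17], [21, 20, 21, 21, 23, 19], [22, 23, 22, 22, 20, 22], [23, 22, 23, 24, 21, 23], [24, 24, 25, 23, 24, 24], [26, 25, 24, 25, 25, 25], [25, 26, 26, 26, 26, 26]]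
  rk := [[52, 53, 54, 55, 56, 0], [57, 58, 59, 60, 2, 1], [61, 62, 63, 4, 3, 64], [65, 6, 8, 5, 66, 67], [68, 7, 10, 69, 70, 71], [12, 72, 9, 74, 75, 76], [14, 73, 11, 16, 77, 78], [13, 79, 81, 82, 83, 84], [15, 80, 85, 18, 86, 87], [88, 90, 91, 17, 20, 92], [89, 93, 22, 19, 24, 94], [95, 97, 98, 99, 21, 26], [100, 101, 23, 102, 28, 103], [96, 104, 105, 107, 25, 30], [108, 110, 111, 112, 113, 27], [114, 115, 106, 32, 29, 34], [109, 116, 117, 119, 120, 31], [121, 36, 122, 33, 123, 38], [124, 125, 118, 126, 128, 35], [129, 37, 130, 131, 132, 40], [133, 134, 136, 127, 42, 39], [137, 135, 138, 139, 44, 41], [140, 141, 143, 144, 43, 145], [146, 142, 147, 46, 45, 148], [149, 150, 48, 47, 151, 152], [50, 153, 49, 154, 155, 156], [51, 157, 158, 159, 160, 161]]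
  js := [[2, 2, 2, 2, 2, 0], [8, 8, 8, 8, 0, 1], [7, 7, 7, 0, 1, 7], [6, 0, 0, 1, 6, 6], [4, 1, 0, 4, 4, 4], [0, 5, 1, 5, 5, 5], [0, 1, 1, 0, 4, 4], [1, 3, 3, 3, 3, 3], [1, 1, 3, 0, 3, 3], [6, 6, 6, 1, 0, 6], [1, 3, 0, 1, 0, 3], [7, 7, 7, 7, 1, 0], [5, 5, 1, 5, 0, 5], [1, 3, 7, 3, 1, 0], [8, 8, 8, 8, 8, 1], [5, 5, 1, 0, 1, 0], [1, 3, 8, 3, 3, 1], [6, 0, 6, 1, 6, 0], [5, 5, 1, 8, 5, 1], [4, 1, 4, 4, 4, 0], [6, 8, 6, 1, 0, 1], [4, 1, 4, 4, 0, 1], [7, 7, 7, 7, 1, 7], [4, 1, 4, 0, 1, 4], [6, 6, 0, 1, 6, 6], [0, 5, 1, 5, 5, 5], [1, 3, 3, 3, 3, 3]]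
  par := [0, 0, 1, 2, 3, 3, 4, 5, 6, 6, 8, 9, 10, 10, 11, 12, 13, 15, 15, 17, 17, 19, 20, 21, 23, 24, 25]
  pj := [0, 5, 4, 3, 1, 2, 2, 0, 0, 3, 3, 4, 2, 4, 5, 4, 5, 3, 5, 1, 5, 5, 4, 4, 3, 2, 0]
  vecs := [[0, 0, 0, 0, 0, 1], [0, 0, 0, 0, 1, -1], [0, 0, 0, 1, -1, 0], [0, 1, 1, -1, 0, 0], [0, -1, 1, 0, 0, 0], [1, 1, -1, 0, 0, 0], [1, -1, -1, 1, 0, 0], [-1, 1, 0, 0, 0, 0], [-1, -1, 0, 1, 0, 0], [1, 0, 0, -1, 1, 0], [-1, 0, 1, -1, 1, 0], [1, 0, 0, 0, -1, 1], [0, 0, -1, 0, 1, 0], [-1, 0, 1, 0, -1, 1], [1, 0, 0, 0, 0, -1], [0, 0, -1, 1, -1, 1], [-1, 0, 1, 0, 0, -1], [0, 1, 0, -1, 0, 1], [0, 0, -1, 1, 0, -1], [0, -1, 0, 0, 0, 1], [0, 1, 0, -1, 1, -1], [0, -1, 0, 0, 1, -1], [0, 1, 0, 0, -1, 0], [0, -1, 0, 1, -1, 0], [0, 0, 1, -1, 0, 0], [1, 0, -1, 0, 0, 0], [-1, 0, 0, 0, 0, 0]]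

theorem L6_ok : levelOk 6 m A L6 = true := by decide +kernel

/-- A row of the comparison of the Coxeter matrix with its table. -/
def hmRow (i : Fin 6) : Prop := ∀ j : Fin 6, CoxeterMatrix.E₆ i j = m i j

instance : DecidablePred hmRow := fun i => by unfold hmRow; infer_instance

theorem hm : ∀ i j : Fin 6, CoxeterMatrix.E₆ i j = m i j := by
  have h : ∀ i, hmRow i := by decide
  exact h

theorem hA : ∀ i j : Fin 6, (Smat A i * Smat A j) ^ m i j = 1 := by decide +kernel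

theorem prod_c : ([L1, L2, L3, L4, L5, L6].map Level.c).prod = 51840 := by decide +kernel

/-- The order of the group, and a faithful representation. -/
theorem main : Nat.card (CoxeterMatrix.E₆).Group = 51840 ∧
    ∃ f : (CoxeterMatrix.E₆).Group →* Matrix (Fin 6) (Fin 6) ℤ, Function.Injective f ∧
      ∀ j, f ((CoxeterMatrix.E₆).simple j) = Smat A j := by
  have h := coxeter_card (CoxeterMatrix.E₆) m A [L1, L2, L3, L4, L5, L6] hm hA ⟨rfl, L1_ok, rfl, L2_ok, rfl, L3_ok, rfl, L4_ok, rfl, L5_ok, rfl, L6_ok, trivial⟩ rfl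
  rw [prod_c] at h
  exact h

end Cfsg.Agent.Helper7.CoxE6
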