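import Cfsg.Agent.Helper7.CoxEnum

set_option autoImplicit false
set_option maxRecDepth 100000

/-! Certificate of the order of the Coxeter group of type F4 (generated). -/

namespace Cfsg.Agent.Helper7.CoxF4

open Cfsg.Agent.Helper7.CoxEnum

/-- The Coxeter matrix as a table. -/
def mL : List (List Nat) := [[1, 3, 2, 2], [3, 1, 4, 2], [2, 4, 1, 3], [2, 2, 3, 1]]
/-- The Coxeter matrix as a function. -/
def m (a b : Nat) : Nat := (mL.getD a []).getD b 0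
/-- The Cartan matrix as a table. -/
def AL : List (List Int) := [[2, -1, 0, 0], [-1, 2, -2, 0], [0, -1, 2, -1], [0, 0, -1, 2]]
/-- The Cartan matrix as a function. -/
def A (a b : Nat) : Int := (AL.getD a []).getD b 0

/-- Level 1. -/
def L1 : Level where
  k := 1
  reps := [[], [0]]
  tab := [[1], [0]]
  rk := [[0], [1]]
  js := [[0], [1]]
  par := [0, 0]
  pj := [0, 0]
  vecs := [[1, 0, 0, 0], [-1, 1, 0, 0]]

theorem L1_ok : levelOk 4 m A L1 = true := by decide +kernel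

/-- Level 2. -/
def L2 : Level where
  k := 2
  reps := [[], [1], [1, 0]]
  tab := [[0, 1], [2, 0], [1, 2]]
  rk := [[4, 0], [2, 1], [3, 5]]
  js := [[2, 0], [0, 1], [1, 3]]
  par := [0, 0, 1]
  pj := [0, 1, 0]
  vecs := [[0, 1, 0, 0], [1, -1, 2, 0], [-1, 0, 2, 0]]

theorem L2_ok : levelOk 4 m A L2 = true := by decide +kernel

/-- Level 3. -/
def L3 : Level where
  k := 3
  reps := [[], [2], [2, 1], [2, 1, 0], [2, 1, 2], [2, 1, 0, 2], [2, 1, 0, 2, 1], [2, 1, 0, 2, 1, 2]]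
  tab := [[0, 0, 1], [1, 2, 0], [3, 1, 4], [2, 3, 5], [5, 4, 2], [4, 6, 3], [6, 5, 7], [7, 7, 6]]
  rk := [[14, 15, 0], [16, 2, 1], [4, 3, 6], [5, 17, 8], [18, 20, 7], [19, 10, 9], [21, 11, 12], [22, 23, 13]]
  js := [[2, 2, 0], [5, 0, 1], [0, 1, 0], [1, 3, 0], [5, 5, 1], [1, 0, 1], [4, 1, 0], [5, 5, 1]]
  par := [0, 0, 1, 2, 2, 3, 5, 6]
  pj := [0, 2, 1, 0, 2, 2, 1, 2]
  vecs := [[0, 0, 1, 0], [0, 1, -1, 1], [1, -1, 1, 1], [-1, 0, 1, 1], [1, 0, -1, 2], [-1, 1, -1, 2], [0, -1, 1, 2], [0, 0, -1, 3]]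

theorem L3_ok : levelOk 4 m A L3 = true := by decide +kernel

/-- Level 4. -/
def L4 : Level where
  k := 4
  reps := [[], [3], [3, 2], [3, 2, 1], [3, 2, 1, 0], [3, 2, 1, 2], [3, 2, 1, 0, 2], [3, 2, 1, 2, 3], [3, 2, 1, 0, 2, 1], [3, 2, 1, 0, 2, 3], [3, 2, 1, 0, 2, 1, 2], [3, 2, 1, 0, 2, 1, 3], [3, 2, 1, 0, 2, 1, 2, 3], [3, 2, 1, 0, 2, 1, 3, 2], [3, 2, 1, 0, 2, 1, 2, 3, 2], [3, 2, 1, 0, 2, 1, 3, 2, 1], [3, 2, 1, 0, 2, 1, 2, 3, 2, 1], [3, 2, 1, 0, 2, 1, 3, 2, 1, 0], [3, 2, 1, 0, 2, 1, 2, 3, 2, 1, 0], [3, 2, 1, 0, 2, 1, 2, 3, 2, 1, 2], [3, 2, 1, 0, 2, 1, 2, 3, 2, 1, 0, 2], [3, 2, 1, 0, 2, 1, 2, 3, 2, 1, 0, 2, 1], [3, 2, 1, 0, 2, 1, 2, 3, 2, 1, 0, 2, 1, 2], [3, 2, 1, 0, 2, 1, 2, 3, 2, 1, 0, 2, 1, 2, 3]]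
  tab := [[0, 0, 0, 1], [1, 1, 2, 0], [2, 3, 1, 2], [4, 2, 5, 3], [3, 4, 6, 4], [6, 5, 3, 7], [5, 8, 4, 9], [9, 7, 7, 5], [8, 6, 10, 11], [7, 11, 9, 6], [10, 10, 8, 12], [11, 9, 13, 8], [12, 12, 14, 10], [13, 15, 11, 14], [14, 16, 12, 13], [17, 13, 15, 16], [18, 14, 19, 15], [15, 17, 17, 18], [16, 18, 20, 17], [20, 19, 16, 19], [19, 21, 18, 20], [21, 20, 22, 21], [22, 22, 21, 23], [23, 23, 23, 22]]
  rk := [[46, 47, 48, 0], [49, 50, 2, 1], [51, 4, 3, 52], [6, 5, 8, 53], [7, 54, 10, 55], [56, 58, 9, 12], [57, 14, 11, 16], [59, 61, 62, 13], [63, 15, 18, 20], [60, 64, 66, 17], [67, 68, 19, 22], [69, 65, 24, 21], [70, 71, 26, 23], [72, 28, 25, 73], [75, 30, 27, 74], [32, 29, 76, 77], [34, 31, 36, 78], [33, 79, 80, 81], [35, 83, 38, 82], [84, 86, 37, 87], [85, 40, 39, 88], [89, 41, 42, 90], [91, 92, 43, 44], [93, 94, 95, 45]]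
  js := [[2, 2, 2, 0], [6, 6, 0, 1], [5, 0, 1, 5], [0, 1, 0, 4], [1, 3, 0, 3], [5, 5, 1, 0], [1, 0, 1, 0], [6, 6, 6, 1], [4, 1, 0, 0], [1, 6, 3, 1], [5, 5, 1, 0], [4, 1, 0, 1], [6, 6, 0, 1], [5, 0, 1, 5], [5, 0, 1, 1], [0, 1, 4, 4], [0, 1, 0, 1], [1, 3, 3, 3], [1, 3, 0, 1], [5, 5, 1, 5], [1, 0, 1, 3], [4, 1, 0, 4], [5, 5, 1, 0], [6, 6, 6, 1]]
  par := [0, 0, 1, 2, 3, 3, 4, 5, 6, 6, 8, 8, 10, 11, 12, 13, 14, 15, 16, 16, 18, 20, 21, 22]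
  pj := [0, 3, 2, 1, 0, 2, 2, 3, 1, 3, 2, 3, 3, 2, 2, 1, 1, 0, 0, 2, 2, 1, 2, 3]
  vecs := [[0, 0, 0, 1], [0, 0, 1, -1], [0, 1, -1, 0], [1, -1, 1, 0], [-1, 0, 1, 0], [1, 0, -1, 1], [-1, 1, -1, 1], [1, 0, 0, -1], [0, -1, 1, 1], [-1, 1, 0, -1], [0, 0, -1, 2], [0, -1, 2, -1], [0, 0, 1, -2], [0, 1, -2, 1], [0, 1, -1, -1], [1, -1, 0, 1], [1, -1, 1, -1], [-1, 0, 0, 1], [-1, 0, 1, -1], [1, 0, -1, 0], [-1, 1, -1, 0], [0, -1, 1, 0], [0, 0, -1, 1], [0, 0, 0, -1]]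

theorem L4_ok : levelOk 4 m A L4 = true := by decide +kernel

/-- A row of the comparison of the Coxeter matrix with its table. -/
def hmRow (i : Fin 4) : Prop := ∀ j : Fin 4, CoxeterMatrix.F₄ i j = m i j

instance : DecidablePred hmRow := fun i => by unfold hmRow; infer_instance

theorem hm : ∀ i j : Fin 4, CoxeterMatrix.F₄ i j = m i j := by
  have h : ∀ i, hmRow i := by decide
  exact h

theorem hA : ∀ i j : Fin 4, (Smat A i * Smat A j) ^ m i j = 1 := by decide +kernel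

theorem prod_c : ([L1, L2, L3, L4].map Level.c).prod = 1152 := by decide +kernel

/-- The order of the group, and a faithful representation. -/
theorem main : Nat.card (CoxeterMatrix.F₄).Group = 1152 ∧
    ∃ f : (CoxeterMatrix.F₄).Group →* Matrix (Fin 4) (Fin 4) ℤ, Function.Injective f ∧
      ∀ j, f ((CoxeterMatrix.F₄).simple j) = Smat A j := by
  have h := coxeter_card (CoxeterMatrix.F₄) m A [L1, L2, L3, L4] hm hA ⟨rfl, L1_ok, rfl, L2_ok, rfl, L3_ok, rfl, L4_ok, trivial⟩ rfl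
  rw [prod_c] at h
  exact h

end Cfsg.Agent.Helper7.CoxF4
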