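import Mathlib
import Cfsg.Agent.Helper7.ChevCoxeter
import Cfsg.Agent.Helper7.ChevTabG2
import Cfsg.Agent.Helper7.ChevTabB2
import Cfsg.Agent.Helper7.ChevTabD4
import Cfsg.Agent.Helper7.ChevTabF4
import Cfsg.Agent.Helper7.ChevTabE6
import Cfsg.Agent.Helper7.ChevTabE7
import Cfsg.Agent.Helper7.ChevTabE8
import Cfsg.Agent.Helper7.CoxG2
import Cfsg.Agent.Helper7.CoxB2
import Cfsg.Agent.Helper7.CoxD4
import Cfsg.Agent.Helper7.CoxF4
import Cfsg.Agent.Helper7.CoxE6
import Cfsg.Agent.Helper7.CoxE7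
import Cfsg.Agent.Helper7.CoxE8

set_option autoImplicit false

/-!
Level-21 table facts: the orders of the products of two fundamental reflections are the entries of the
Coxeter matrix of the type.
-/

namespace Cfsg.Agent.Helper7.Chev

open Cfsg Cfsg.Lie

set_option maxRecDepth 1000000 in
set_option maxHeartbeats 0 in
theorem T21fast_G2 : fastG2.T21 CoxG2.m := by decide +kernel

theorem T21_G2 : (tabOf chevG2).T21 CoxG2.m := tab_G2 ▸ T21fast_G2

set_option maxRecDepth 1000000 in
set_option maxHeartbeats 0 in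
theorem T21fast_B2 : fastB2.T21 CoxB2.m := by decide +kernel

theorem T21_B2 : (tabOf chevB2).T21 CoxB2.m := tab_B2 ▸ T21fast_B2

set_option maxRecDepth 1000000 in
set_option maxHeartbeats 0 in
theorem T21fast_D4 : fastD4.T21 CoxD4.m := by decide +kernel

theorem T21_D4 : (tabOf chevD4).T21 CoxD4.m := tab_D4 ▸ T21fast_D4

set_option maxRecDepth 1000000 in
set_option maxHeartbeats 0 in
theorem T21fast_F4 : fastF4.T21 CoxF4.m := by decide +kernel

theorem T21_F4 : (tabOf chevF4).T21 CoxF4.m := tab_F4 ▸ T21fast_F4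

set_option maxRecDepth 1000000 in
set_option maxHeartbeats 0 in
theorem T21fast_E6 : fastE6.T21 CoxE6.m := by decide +kernel

theorem T21_E6 : (tabOf chevE6).T21 CoxE6.m := tab_E6 ▸ T21fast_E6

set_option maxRecDepth 1000000 in
set_option maxHeartbeats 0 in
theorem T21fast_E7 : fastE7.T21 CoxE7.m := by decide +kernel

theorem T21_E7 : (tabOf chevE7).T21 CoxE7.m := tab_E7 ▸ T21fast_E7

set_option maxRecDepth 1000000 in
set_option maxHeartbeats 0 in
theorem T21fast_E8 : fastE8.T21 CoxE8.m := by decide +kernel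

theorem T21_E8 : (tabOf chevE8).T21 CoxE8.m := tab_E8 ▸ T21fast_E8

end Cfsg.Agent.Helper7.Chev
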