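import Mathlib
import Cfsg.Agent.Helper7.StCert
import Cfsg.Agent.Helper7.ChevT7
import Cfsg.Agent.Helper7.ChevT21

set_option autoImplicit false

/-!
The table facts of `StCert` for the seven tabulated Chevalley data.
-/

namespace Cfsg.Agent.Helper7.Chev

open Cfsg Cfsg.Lie

/-- Witnesses for the fundamental root elements, type G2. -/
def witG2 (i : ℕ) : ℕ × ℕ × ℕ := [(1, 2, 10), (0, 0, 8)].getD i (0, 0, 0)

set_option maxRecDepth 1000000 in
set_option maxHeartbeats 0 in
theorem T7mfast_G2 : fastG2.T7m := by decide +kernel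

theorem T7m_G2 : (tabOf chevG2).T7m := tab_G2 ▸ T7mfast_G2

set_option maxRecDepth 1000000 in
set_option maxHeartbeats 0 in
theorem T5mfast_G2 : fastG2.T5m := by decide +kernel

theorem T5m_G2 : (tabOf chevG2).T5m := tab_G2 ▸ T5mfast_G2

set_option maxRecDepth 1000000 in
set_option maxHeartbeats 0 in
theorem T37fast_G2 : fastG2.T37 witG2 := by decide +kernel

theorem T37_G2 : (tabOf chevG2).T37 witG2 := tab_G2 ▸ T37fast_G2

set_option maxRecDepth 1000000 in
set_option maxHeartbeats 0 in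
theorem T38fast_G2 : fastG2.T38 CoxG2.m := by decide +kernel

theorem T38_G2 : (tabOf chevG2).T38 CoxG2.m := tab_G2 ▸ T38fast_G2

/-- Witnesses for the fundamental root elements, type B2. -/
def witB2 (i : ℕ) : ℕ × ℕ × ℕ := [(1, 1, 7), (0, 0, 6)].getD i (0, 0, 0)

set_option maxRecDepth 1000000 in
set_option maxHeartbeats 0 in
theorem T7mfast_B2 : fastB2.T7m := by decide +kernel

theorem T7m_B2 : (tabOf chevB2).T7m := tab_B2 ▸ T7mfast_B2

set_option maxRecDepth 1000000 in
set_option maxHeartbeats 0 in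
theorem T5mfast_B2 : fastB2.T5m := by decide +kernel

theorem T5m_B2 : (tabOf chevB2).T5m := tab_B2 ▸ T5mfast_B2

set_option maxRecDepth 1000000 in
set_option maxHeartbeats 0 in
theorem T37fast_B2 : fastB2.T37 witB2 := by decide +kernel

theorem T37_B2 : (tabOf chevB2).T37 witB2 := tab_B2 ▸ T37fast_B2

set_option maxRecDepth 1000000 in
set_option maxHeartbeats 0 in
theorem T38fast_B2 : fastB2.T38 CoxB2.m := by decide +kernel

theorem T38_B2 : (tabOf chevB2).T38 CoxB2.m := tab_B2 ▸ T38fast_B2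

/-- Witnesses for the fundamental root elements, type D4. -/
def witD4 (i : ℕ) : ℕ × ℕ × ℕ := [(1, 9, 19), (0, 5, 19), (1, 9, 16), (1, 9, 15)].getD i (0, 0, 0)

set_option maxRecDepth 1000000 in
set_option maxHeartbeats 0 in
theorem T7mfast_D4 : fastD4.T7m := by decide +kernel

theorem T7m_D4 : (tabOf chevD4).T7m := tab_D4 ▸ T7mfast_D4

set_option maxRecDepth 1000000 in
set_option maxHeartbeats 0 in
theorem T5mfast_D4 : fastD4.T5m := by decide +kernel

theorem T5m_D4 : (tabOf chevD4).T5m := tab_D4 ▸ T5mfast_D4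

set_option maxRecDepth 1000000 in
set_option maxHeartbeats 0 in
theorem T37fast_D4 : fastD4.T37 witD4 := by decide +kernel

theorem T37_D4 : (tabOf chevD4).T37 witD4 := tab_D4 ▸ T37fast_D4

set_option maxRecDepth 1000000 in
set_option maxHeartbeats 0 in
theorem T38fast_D4 : fastD4.T38 CoxD4.m := by decide +kernel

theorem T38_D4 : (tabOf chevD4).T38 CoxD4.m := tab_D4 ▸ T38fast_D4

/-- Witnesses for the fundamental root elements, type F4. -/
def witF4 (i : ℕ) : ℕ × ℕ × ℕ := [(1, 20, 34), (0, 14, 34), (1, 17, 28), (2, 22, 26)].getD i (0, 0, 0)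

set_option maxRecDepth 1000000 in
set_option maxHeartbeats 0 in
theorem T7mfast_F4 : fastF4.T7m := by decide +kernel

theorem T7m_F4 : (tabOf chevF4).T7m := tab_F4 ▸ T7mfast_F4

set_option maxRecDepth 1000000 in
set_option maxHeartbeats 0 in
theorem T5mfast_F4 : fastF4.T5m := by decide +kernel

theorem T5m_F4 : (tabOf chevF4).T5m := tab_F4 ▸ T5mfast_F4

set_option maxRecDepth 1000000 in
set_option maxHeartbeats 0 in
theorem T37fast_F4 : fastF4.T37 witF4 := by decide +kernel

theorem T37_F4 : (tabOf chevF4).T37 witF4 := tab_F4 ▸ T37fast_F4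

set_option maxRecDepth 1000000 in
set_option maxHeartbeats 0 in
theorem T38fast_F4 : fastF4.T38 CoxF4.m := by decide +kernel

theorem T38_F4 : (tabOf chevF4).T38 CoxF4.m := tab_F4 ▸ T38fast_F4

/-- Witnesses for the fundamental root elements, type E6. -/
def witE6 (i : ℕ) : ℕ × ℕ × ℕ := [(2, 29, 57), (3, 32, 47), (0, 15, 57), (1, 25, 47), (3, 32, 40), (4, 34, 38)].getD i (0, 0, 0)

set_option maxRecDepth 1000000 in
set_option maxHeartbeats 0 in
theorem T7mfast_E6 : fastE6.T7m := by decide +kernel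

theorem T7m_E6 : (tabOf chevE6).T7m := tab_E6 ▸ T7mfast_E6

set_option maxRecDepth 1000000 in
set_option maxHeartbeats 0 in
theorem T5mfast_E6 : fastE6.T5m := by decide +kernel

theorem T5m_E6 : (tabOf chevE6).T5m := tab_E6 ▸ T5mfast_E6

set_option maxRecDepth 1000000 in
set_option maxHeartbeats 0 in
theorem T37fast_E6 : fastE6.T37 witE6 := by decide +kernel

theorem T37_E6 : (tabOf chevE6).T37 witE6 := tab_E6 ▸ T37fast_E6

set_option maxRecDepth 1000000 in
set_option maxHeartbeats 0 in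
theorem T38fast_E6 : fastE6.T38 CoxE6.m := by decide +kernel

theorem T38_E6 : (tabOf chevE6).T38 CoxE6.m := tab_E6 ▸ T38fast_E6

/-- Witnesses for the fundamental root elements, type E7. -/
def witE7 (i : ℕ) : ℕ × ℕ × ℕ := [(2, 52, 94), (3, 56, 79), (0, 32, 94), (1, 47, 79), (3, 56, 70), (4, 59, 67), (5, 61, 65)].getD i (0, 0, 0)

set_option maxRecDepth 1000000 in
set_option maxHeartbeats 0 in
theorem T7mfast_E7 : fastE7.T7m := by decide +kernel

theorem T7m_E7 : (tabOf chevE7).T7m := tab_E7 ▸ T7mfast_E7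

set_option maxRecDepth 1000000 in
set_option maxHeartbeats 0 in
theorem T5mfast_E7 : fastE7.T5m := by decide +kernel

theorem T5m_E7 : (tabOf chevE7).T5m := tab_E7 ▸ T5mfast_E7

set_option maxRecDepth 1000000 in
set_option maxHeartbeats 0 in
theorem T37fast_E7 : fastE7.T37 witE7 := by decide +kernel

theorem T37_E7 : (tabOf chevE7).T37 witE7 := tab_E7 ▸ T37fast_E7

set_option maxRecDepth 1000000 in
set_option maxHeartbeats 0 in
theorem T38fast_E7 : fastE7.T38 CoxE7.m := by decide +kernel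

theorem T38_E7 : (tabOf chevE7).T38 CoxE7.m := tab_E7 ▸ T38fast_E7

/-- Witnesses for the fundamental root elements, type E8. -/
def witE8 (i : ℕ) : ℕ × ℕ × ℕ := [(2, 104, 163), (3, 109, 142), (0, 77, 163), (1, 98, 142), (3, 109, 131), (4, 113, 127), (5, 116, 124), (6, 118, 122)].getD i (0, 0, 0)

set_option maxRecDepth 1000000 in
set_option maxHeartbeats 0 in
theorem T7mfast_E8 : fastE8.T7m := by decide +kernel

theorem T7m_E8 : (tabOf chevE8).T7m := tab_E8 ▸ T7mfast_E8

set_option maxRecDepth 1000000 in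
set_option maxHeartbeats 0 in
theorem T5mfast_E8 : fastE8.T5m := by decide +kernel

theorem T5m_E8 : (tabOf chevE8).T5m := tab_E8 ▸ T5mfast_E8

set_option maxRecDepth 1000000 in
set_option maxHeartbeats 0 in
theorem T37fast_E8 : fastE8.T37 witE8 := by decide +kernel

theorem T37_E8 : (tabOf chevE8).T37 witE8 := tab_E8 ▸ T37fast_E8

set_option maxRecDepth 1000000 in
set_option maxHeartbeats 0 in
theorem T38fast_E8 : fastE8.T38 CoxE8.m := by decide +kernel

theorem T38_E8 : (tabOf chevE8).T38 CoxE8.m := tab_E8 ▸ T38fast_E8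

/-- The mirrored level-7 facts hold for each of the seven tabulated data. -/
theorem T7m_of_mem (D : ChevalleyDatum)
    (hD : D ∈ [chevG2, chevB2, chevD4, chevF4, chevE6, chevE7, chevE8]) : (tabOf D).T7m :=
  chev_cases (p := fun D => (tabOf D).T7m) D hD T7m_G2 T7m_B2 T7m_D4 T7m_F4 T7m_E6 T7m_E7 T7m_E8

/-- The mirrored level-5 facts hold for each of the seven tabulated data. -/
theorem T5m_of_mem (D : ChevalleyDatum)
    (hD : D ∈ [chevG2, chevB2, chevD4, chevF4, chevE6, chevE7, chevE8]) : (tabOf D).T5m :=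
  chev_cases (p := fun D => (tabOf D).T5m) D hD T5m_G2 T5m_B2 T5m_D4 T5m_F4 T5m_E6 T5m_E7 T5m_E8

/-- Witnesses exist for each of the seven tabulated data. -/
theorem T37_of_mem (D : ChevalleyDatum)
    (hD : D ∈ [chevG2, chevB2, chevD4, chevF4, chevE6, chevE7, chevE8]) :
    ∃ wit, (tabOf D).T37 wit :=
  chev_cases (p := fun D => ∃ wit, (tabOf D).T37 wit) D hD ⟨_, T37_G2⟩ ⟨_, T37_B2⟩ ⟨_, T37_D4⟩
    ⟨_, T37_F4⟩ ⟨_, T37_E6⟩ ⟨_, T37_E7⟩ ⟨_, T37_E8⟩

end Cfsg.Agent.Helper7.Chev
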