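import Mathlib
import Cfsg.Prelude.Def_SteinbergCover
import Cfsg.Agent.Helper7.StH
import Cfsg.Agent.Helper7.StCertAll
import Cfsg.Agent.Helper7.ChevGood3
import Cfsg.Agent.Helper7.ChevT5
import Cfsg.Agent.Helper7.ChevT6
import Cfsg.Agent.Helper7.ChevT9
import Cfsg.Agent.Helper7.ChevW0All

set_option autoImplicit false
set_option linter.unusedSectionVars false
set_option linter.unusedVariables false

/-!
The groups presented by the relators (R1), (R2) and possibly more relators holding in the matrix group:
the homomorphism onto the Chevalley group is a central extension.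
-/

namespace Cfsg.Agent.Helper7.St

open Cfsg Cfsg.Lie Matrix Cfsg.Agent.Helper7.Chev

theorem toGroup_mk {α G : Type*} [Group G] {f : α → G} {rels : Set (FreeGroup α)}
    (h : ∀ r ∈ rels, FreeGroup.lift f r = 1) (g : FreeGroup α) :
    PresentedGroup.toGroup h (PresentedGroup.mk rels g) = FreeGroup.lift f g := rfl

variable {D : ChevalleyDatum} {K : Type*} [Field K]

section lift

variable (hG : Good1 D)

/-- The homomorphism from the free group on the symbols to the matrix group. -/
noncomputable def liftX : FreeGroup (Fin D.nroots × K) →* GL D.Idx K :=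
  FreeGroup.lift fun p => xGL hG p.1.2 p.2

theorem liftX_stX (r : ℕ) (t : K) :
    ((liftX hG (D.stX r t) : GL D.Idx K) : Matrix D.Idx D.Idx K) = D.x K r t := by
  unfold ChevalleyDatum.stX
  split_ifs with h
  · unfold liftX
    rw [FreeGroup.lift_apply_of, xGL_coe]
  · rw [map_one]
    simp [ChevalleyDatum.x, h]

theorem liftX_stX_lt {r : ℕ} (hr : r < D.nroots) (t : K) :
    liftX hG (D.stX r t) = xGL hG hr t := eq_xGL hG hr (liftX_stX hG r t)

theorem liftX_stWord (w : List (ℕ × K)) :
    ((liftX hG (D.stWord w) : GL D.Idx K) : Matrix D.Idx D.Idx K) = D.wordMat K w := by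
  unfold ChevalleyDatum.stWord
  induction w with
  | nil => rw [List.map_nil, List.prod_nil, map_one, wordMat_nil]; rfl
  | cons p w ih =>
    rw [List.map_cons, List.prod_cons, map_mul, Units.val_mul, liftX_stX, ih, wordMat_cons]

end lift

section kill

variable (hG : Good3 D)

include hG in
/-- The relators (R1), (R2) hold in the matrix group. -/
theorem liftX_relsAB {g : FreeGroup (Fin D.nroots × K)} (hg : g ∈ D.steinbergRelsAB K) :
    liftX hG.toGood1 g = 1 := by
  have hG1 := hG.toGood1
  rcases hg with ⟨r, t₁, t₂, hr, rfl⟩ | ⟨r, s, t, u, hr, hs, hsr, hsn, rfl⟩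
  · rw [map_mul, map_mul, map_inv, liftX_stX_lt hG1 hr, liftX_stX_lt hG1 hr, liftX_stX_lt hG1 hr,
      xGL_mul, mul_inv_cancel]
  · have hc := hG.comm (F := K) hr hs hsr hsn t u
    have e : xGL hG1 hs u * xGL hG1 hr t =
        xGL hG1 hr t * xGL hG1 hs u * liftX hG1 (D.stWord (D.commWord K r s t u)) := by
      apply Units.ext
      rw [Units.val_mul, Units.val_mul, Units.val_mul, xGL_coe, xGL_coe, liftX_stWord, hc]
    rw [map_mul, map_mul, map_mul, map_mul, map_inv, map_inv, map_inv, liftX_stX_lt hG1 hr,
      liftX_stX_lt hG1 hs, mul_assoc ((xGL hG1 hs u)⁻¹ * (xGL hG1 hr t)⁻¹), e]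
    group

include hG in
/-- The relators (R1), (R2), (R3) hold in the matrix group. -/
theorem liftX_rels {g : FreeGroup (Fin D.nroots × K)} (hg : g ∈ D.steinbergRels K) :
    liftX hG.toGood1 g = 1 := by
  have hG1 := hG.toGood1
  rcases hg with hg | ⟨r, t₁, t₂, hr, h₁, h₂, rfl⟩
  · exact liftX_relsAB hG hg
  · have e : liftX hG1 (D.stH r t₁) * liftX hG1 (D.stH r t₂) = liftX hG1 (D.stH r (t₁ * t₂)) := by
      apply Units.ext
      unfold ChevalleyDatum.stH
      rw [Units.val_mul, liftX_stWord, liftX_stWord, liftX_stWord]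
      change D.hMat K r t₁ * D.hMat K r t₂ = D.hMat K r (t₁ * t₂)
      rw [hMat_eq hG1 hr h₁, hMat_eq hG1 hr h₂, hMat_eq hG1 hr (mul_ne_zero h₁ h₂),
        ← phiMat_mul hG1 hr _ _ (by simp [h₁]) (by simp [h₂])]
      congr 1
      ext i j
      fin_cases i <;> fin_cases j <;> simp [Matrix.mul_apply, Fin.sum_univ_two, mul_comm]
    rw [map_mul, map_mul, map_inv, e, mul_inv_cancel]

end kill

section presented

variable (hG : Good3 D) (rels : Set (FreeGroup (Fin D.nroots × K)))
  (hAB : D.steinbergRelsAB K ⊆ rels) (hkill : ∀ g ∈ rels, liftX hG.toGood1 g = 1)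

/-- The homomorphism from the presented group to the matrix group. -/
noncomputable def toGL : PresentedGroup rels →* GL D.Idx K :=
  PresentedGroup.toGroup (f := fun p => xGL hG.toGood1 p.1.2 p.2)
    (fun g hg => by have := hkill g hg; unfold liftX at this; exact this)

theorem toGL_mk (g : FreeGroup (Fin D.nroots × K)) :
    toGL hG rels hkill (PresentedGroup.mk rels g) = liftX hG.toGood1 g := rfl

/-- The structure on a group presented by a set of relators containing (R1), (R2) and holding in the
matrix group. -/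
noncomputable def stdOf : StD D K (PresentedGroup rels) where
  xb r t := PresentedGroup.mk rels (D.stX r t)
  add r hr t u := by
    have h : D.stX r t * D.stX r u * (D.stX r (t + u))⁻¹ ∈ rels :=
      hAB (Or.inl ⟨r, t, u, hr, rfl⟩)
    have := PresentedGroup.one_of_mem h
    rw [map_mul, map_mul, map_inv, mul_inv_eq_one] at this
    exact this
  comm r s hr hs hsr hsn t u := by
    have h : (D.stX s u)⁻¹ * (D.stX r t)⁻¹ * D.stX s u * D.stX r t *
        (D.stWord (D.commWord K r s t u))⁻¹ ∈ rels :=
      hAB (Or.inr ⟨r, s, t, u, hr, hs, hsr, hsn, rfl⟩)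
    have := PresentedGroup.one_of_mem h
    rw [map_mul, map_mul, map_mul, map_mul, map_inv, map_inv, map_inv, mul_inv_eq_one] at this
    have e : ((D.commWord K r s t u).map fun p => PresentedGroup.mk rels (D.stX p.1 p.2)).prod =
        PresentedGroup.mk rels (D.stWord (D.commWord K r s t u)) := by
      unfold ChevalleyDatum.stWord
      rw [map_list_prod, List.map_map]
      rfl
    rw [e, ← this]
    group
  π := toGL hG rels hkill
  hπ r hr t := by
    rw [toGL_mk]
    exact liftX_stX hG.toGood1 r t

theorem stdOf_xb (r : ℕ) (t : K) :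
    (stdOf hG rels hAB hkill).xb r t = PresentedGroup.mk rels (D.stX r t) := rfl

theorem stdOf_gen : Subgroup.closure {g | ∃ (r : ℕ) (t : K), r < D.nroots ∧
    g = (stdOf hG rels hAB hkill).xb r t} = ⊤ := by
  rw [eq_top_iff, ← PresentedGroup.closure_range_of, Subgroup.closure_le]
  rintro x ⟨⟨r, t⟩, rfl⟩
  apply Subgroup.subset_closure
  refine ⟨r.val, t, r.2, ?_⟩
  rw [stdOf_xb]
  unfold ChevalleyDatum.stX
  rw [dif_pos r.2]
  rfl

end presented

end Cfsg.Agent.Helper7.St
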