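import Mathlib
import Cfsg.Agent.Helper7.ScT
import Cfsg.Agent.Helper7.StCertAll

set_option autoImplicit false

/-!
Table facts of `ScT` for tabulated Chevalley data: the type E8.
-/

namespace Cfsg.Agent.Helper7.Chev

open Cfsg Cfsg.Lie

set_option maxRecDepth 1000000 in
set_option maxHeartbeats 0 in
theorem TP1fast_E8 : fastE8.TP1 := by decide +kernel

theorem TP1_E8 : (tabOf chevE8).TP1 := tab_E8 ▸ TP1fast_E8

set_option maxRecDepth 1000000 in
set_option maxHeartbeats 0 in
theorem TP3fast_E8 : fastE8.TP3 := by decide +kernel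

theorem TP3_E8 : (tabOf chevE8).TP3 := tab_E8 ▸ TP3fast_E8

set_option maxRecDepth 1000000 in
set_option maxHeartbeats 0 in
theorem T7sfast_E8 : fastE8.T7s := by decide +kernel

theorem T7s_E8 : (tabOf chevE8).T7s := tab_E8 ▸ T7sfast_E8


end Cfsg.Agent.Helper7.Chev
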