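import Mathlib
import Cfsg.Agent.Helper7.ScT
import Cfsg.Agent.Helper7.StCertAll

set_option autoImplicit false

/-!
Table facts of `ScT` for tabulated Chevalley data: the types G2, B2, D4, F4, E6.
-/

namespace Cfsg.Agent.Helper7.Chev

open Cfsg Cfsg.Lie

set_option maxRecDepth 1000000 in
set_option maxHeartbeats 0 in
theorem TP1fast_G2 : fastG2.TP1 := by decide +kernel

theorem TP1_G2 : (tabOf chevG2).TP1 := tab_G2 ▸ TP1fast_G2

set_option maxRecDepth 1000000 in
set_option maxHeartbeats 0 in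
theorem TP3fast_G2 : fastG2.TP3 := by decide +kernel

theorem TP3_G2 : (tabOf chevG2).TP3 := tab_G2 ▸ TP3fast_G2

set_option maxRecDepth 1000000 in
set_option maxHeartbeats 0 in
theorem T7sfast_G2 : fastG2.T7s := by decide +kernel

theorem T7s_G2 : (tabOf chevG2).T7s := tab_G2 ▸ T7sfast_G2

set_option maxRecDepth 1000000 in
set_option maxHeartbeats 0 in
theorem TP1fast_B2 : fastB2.TP1 := by decide +kernel

theorem TP1_B2 : (tabOf chevB2).TP1 := tab_B2 ▸ TP1fast_B2

set_option maxRecDepth 1000000 in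
set_option maxHeartbeats 0 in
theorem TP3fast_B2 : fastB2.TP3 := by decide +kernel

theorem TP3_B2 : (tabOf chevB2).TP3 := tab_B2 ▸ TP3fast_B2

set_option maxRecDepth 1000000 in
set_option maxHeartbeats 0 in
theorem T7sfast_B2 : fastB2.T7s := by decide +kernel

theorem T7s_B2 : (tabOf chevB2).T7s := tab_B2 ▸ T7sfast_B2

set_option maxRecDepth 1000000 in
set_option maxHeartbeats 0 in
theorem TP1fast_D4 : fastD4.TP1 := by decide +kernel

theorem TP1_D4 : (tabOf chevD4).TP1 := tab_D4 ▸ TP1fast_D4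

set_option maxRecDepth 1000000 in
set_option maxHeartbeats 0 in
theorem TP3fast_D4 : fastD4.TP3 := by decide +kernel

theorem TP3_D4 : (tabOf chevD4).TP3 := tab_D4 ▸ TP3fast_D4

set_option maxRecDepth 1000000 in
set_option maxHeartbeats 0 in
theorem T7sfast_D4 : fastD4.T7s := by decide +kernel

theorem T7s_D4 : (tabOf chevD4).T7s := tab_D4 ▸ T7sfast_D4

set_option maxRecDepth 1000000 in
set_option maxHeartbeats 0 in
theorem TP1fast_F4 : fastF4.TP1 := by decide +kernel

theorem TP1_F4 : (tabOf chevF4).TP1 := tab_F4 ▸ TP1fast_F4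

set_option maxRecDepth 1000000 in
set_option maxHeartbeats 0 in
theorem TP3fast_F4 : fastF4.TP3 := by decide +kernel

theorem TP3_F4 : (tabOf chevF4).TP3 := tab_F4 ▸ TP3fast_F4

set_option maxRecDepth 1000000 in
set_option maxHeartbeats 0 in
theorem T7sfast_F4 : fastF4.T7s := by decide +kernel

theorem T7s_F4 : (tabOf chevF4).T7s := tab_F4 ▸ T7sfast_F4

set_option maxRecDepth 1000000 in
set_option maxHeartbeats 0 in
theorem TP1fast_E6 : fastE6.TP1 := by decide +kernel

theorem TP1_E6 : (tabOf chevE6).TP1 := tab_E6 ▸ TP1fast_E6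

set_option maxRecDepth 1000000 in
set_option maxHeartbeats 0 in
theorem TP3fast_E6 : fastE6.TP3 := by decide +kernel

theorem TP3_E6 : (tabOf chevE6).TP3 := tab_E6 ▸ TP3fast_E6

set_option maxRecDepth 1000000 in
set_option maxHeartbeats 0 in
theorem T7sfast_E6 : fastE6.T7s := by decide +kernel

theorem T7s_E6 : (tabOf chevE6).T7s := tab_E6 ▸ T7sfast_E6


end Cfsg.Agent.Helper7.Chev
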