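import Mathlib
import Cfsg.Agent.Helper7.ScTabSmall
import Cfsg.Agent.Helper7.ScTabE7
import Cfsg.Agent.Helper7.ScTabE8

set_option autoImplicit false

/-!
The table facts of `ScT` for the seven tabulated Chevalley data.
-/

namespace Cfsg.Agent.Helper7.Chev

open Cfsg Cfsg.Lie

theorem TP1_of_mem (D : ChevalleyDatum)
    (hD : D ∈ [chevG2, chevB2, chevD4, chevF4, chevE6, chevE7, chevE8]) : (tabOf D).TP1 :=
  chev_cases (p := fun D => (tabOf D).TP1) D hD TP1_G2 TP1_B2 TP1_D4 TP1_F4 TP1_E6 TP1_E7 TP1_E8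

theorem TP3_of_mem (D : ChevalleyDatum)
    (hD : D ∈ [chevG2, chevB2, chevD4, chevF4, chevE6, chevE7, chevE8]) : (tabOf D).TP3 :=
  chev_cases (p := fun D => (tabOf D).TP3) D hD TP3_G2 TP3_B2 TP3_D4 TP3_F4 TP3_E6 TP3_E7 TP3_E8

theorem T7s_of_mem (D : ChevalleyDatum)
    (hD : D ∈ [chevG2, chevB2, chevD4, chevF4, chevE6, chevE7, chevE8]) : (tabOf D).T7s :=
  chev_cases (p := fun D => (tabOf D).T7s) D hD T7s_G2 T7s_B2 T7s_D4 T7s_F4 T7s_E6 T7s_E7 T7s_E8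


end Cfsg.Agent.Helper7.Chev
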