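import Mathlib
import Cfsg.Agent.Helper7.StCert2
import Cfsg.Agent.Helper7.ChevT7

set_option autoImplicit false

/-!
The table fact of `StCert2` for the seven tabulated Chevalley data: every root is the image of a fundamental
root under a word of fundamental reflections.
-/

namespace Cfsg.Agent.Helper7.Chev

open Cfsg Cfsg.Lie

/-- Words and fundamental roots for the roots of type G2. -/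
def orbG2 : List (List ℕ × ℕ) :=
  [([1, 0, 1], 1), ([0, 1], 1), ([0, 1, 0], 0), ([1, 0], 0), ([0], 0), ([1], 1), ([], 1), ([], 0),
    ([1], 0), ([0, 1], 0), ([0], 1), ([1, 0], 1)]

set_option maxRecDepth 1000000 in
set_option maxHeartbeats 0 in
theorem T29fast_G2 : fastG2.T29 orbG2 := by decide +kernel

theorem T29_G2 : (tabOf chevG2).T29 orbG2 := tab_G2 ▸ T29fast_G2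

/-- Words and fundamental roots for the roots of type B2. -/
def orbB2 : List (List ℕ × ℕ) :=
  [([0, 1], 1), ([1, 0], 0), ([0], 0), ([1], 1), ([], 1), ([], 0), ([1], 0), ([0], 1)]

set_option maxRecDepth 1000000 in
set_option maxHeartbeats 0 in
theorem T29fast_B2 : fastB2.T29 orbB2 := by decide +kernel

theorem T29_B2 : (tabOf chevB2).T29 orbB2 := tab_B2 ▸ T29fast_B2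

/-- Words and fundamental roots for the roots of type D4. -/
def orbD4 : List (List ℕ × ℕ) :=
  [([1, 3, 2, 1, 0], 0), ([3, 2, 1, 0], 0), ([2, 1, 0], 0), ([3, 1, 0], 0), ([1, 0], 0), ([0], 0),
    ([3, 2, 1], 1), ([2, 1], 1), ([3, 1], 1), ([1], 1), ([2], 2), ([3], 3), ([], 3), ([], 2),
    ([], 1), ([1], 3), ([1], 2), ([2, 1], 3), ([], 0), ([0], 1), ([0, 1], 3), ([0, 1], 2),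
    ([0, 2, 1], 3), ([1, 0, 2, 1], 3)]

set_option maxRecDepth 1000000 in
set_option maxHeartbeats 0 in
theorem T29fast_D4 : fastD4.T29 orbD4 := by decide +kernel

theorem T29_D4 : (tabOf chevD4).T29 orbD4 := tab_D4 ▸ T29fast_D4

/-- Words and fundamental roots for the roots of type F4. -/
def orbF4 : List (List ℕ × ℕ) :=
  [([3, 2, 1, 2, 3, 0, 1, 2], 2), ([2, 1, 2, 3, 0, 1, 2], 2), ([1, 2, 3, 0, 1, 2], 2),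
    ([0, 1, 2, 3, 1, 2, 1, 0], 0), ([2, 3, 0, 1, 2], 2), ([3, 0, 1, 2], 2), ([0, 1, 2], 2),
    ([1, 2, 3, 1, 2, 1, 0], 0), ([2, 3, 1, 2, 1, 0], 0), ([3, 1, 2, 1, 0], 0), ([1, 2, 1, 0], 0),
    ([3, 2, 1, 0], 0), ([2, 1, 0], 0), ([1, 0], 0), ([0], 0), ([2, 3, 1, 2], 2), ([3, 1, 2], 2),
    ([1, 2], 2), ([3, 2, 1], 1), ([2, 1], 1), ([1], 1), ([3, 2], 2), ([2], 2), ([3], 3), ([], 3),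
    ([], 2), ([2], 3), ([], 1), ([2], 1), ([3, 2], 1), ([1], 2), ([1, 2], 3), ([2, 1, 2], 3),
    ([], 0), ([0], 1), ([0, 2], 1), ([0, 3, 2], 1), ([1, 0, 2], 1), ([1, 0, 3, 2], 1),
    ([2, 1, 0, 3, 2], 1), ([1, 2, 1, 0, 3, 2], 1), ([0, 1], 2), ([0, 1, 2], 3), ([0, 2, 1, 2], 3),
    ([0, 1, 2, 1, 0, 3, 2], 1), ([1, 0, 2, 1, 2], 3), ([2, 1, 0, 2, 1, 2], 3),
    ([3, 2, 1, 0, 2, 1, 2], 3)]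

set_option maxRecDepth 1000000 in
set_option maxHeartbeats 0 in
theorem T29fast_F4 : fastF4.T29 orbF4 := by decide +kernel

theorem T29_F4 : (tabOf chevF4).T29 orbF4 := tab_F4 ▸ T29fast_F4

/-- Words and fundamental roots for the roots of type E6. -/
def orbE6 : List (List ℕ × ℕ) :=
  [([1, 3, 4, 5, 2, 3, 4, 1, 3, 2, 0], 0), ([3, 4, 5, 2, 3, 4, 1, 3, 2, 0], 0),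
    ([4, 5, 2, 3, 4, 1, 3, 2, 0], 0), ([5, 2, 3, 4, 1, 3, 2, 0], 0), ([2, 3, 4, 1, 3, 2, 0], 0),
    ([4, 5, 3, 4, 1, 3, 2, 0], 0), ([5, 3, 4, 1, 3, 2, 0], 0), ([3, 4, 1, 3, 2, 0], 0),
    ([5, 4, 1, 3, 2, 0], 0), ([4, 1, 3, 2, 0], 0), ([1, 3, 2, 0], 0), ([5, 4, 3, 2, 0], 0),
    ([4, 3, 2, 0], 0), ([3, 2, 0], 0), ([2, 0], 0), ([0], 0), ([4, 5, 3, 4, 2, 3, 1], 1),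
    ([5, 3, 4, 2, 3, 1], 1), ([3, 4, 2, 3, 1], 1), ([5, 4, 2, 3, 1], 1), ([4, 2, 3, 1], 1),
    ([2, 3, 1], 1), ([5, 4, 3, 1], 1), ([4, 3, 1], 1), ([3, 1], 1), ([1], 1), ([5, 4, 3, 2], 2),
    ([4, 3, 2], 2), ([3, 2], 2), ([2], 2), ([5, 4, 3], 3), ([4, 3], 3), ([3], 3), ([5, 4], 4),
    ([4], 4), ([5], 5), ([], 5), ([], 4), ([4], 5), ([], 3), ([3], 4), ([3, 4], 5), ([], 2),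
    ([2], 3), ([2, 3], 4), ([2, 3, 4], 5), ([], 1), ([1], 3), ([1, 3], 4), ([1, 3, 4], 5),
    ([1, 2], 3), ([1, 2, 3], 4), ([1, 2, 3, 4], 5), ([3, 1, 2, 3], 4), ([3, 1, 2, 3, 4], 5),
    ([4, 3, 1, 2, 3, 4], 5), ([], 0), ([0], 2), ([0, 2], 3), ([0, 2, 3], 4), ([0, 2, 3, 4], 5),
    ([0, 1, 2], 3), ([0, 1, 2, 3], 4), ([0, 1, 2, 3, 4], 5), ([0, 3, 1, 2, 3], 4),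
    ([0, 3, 1, 2, 3, 4], 5), ([0, 4, 3, 1, 2, 3, 4], 5), ([2, 0, 3, 1, 2, 3], 4),
    ([2, 0, 3, 1, 2, 3, 4], 5), ([2, 0, 4, 3, 1, 2, 3, 4], 5), ([3, 2, 0, 4, 3, 1, 2, 3, 4], 5),
    ([1, 3, 2, 0, 4, 3, 1, 2, 3, 4], 5)]

set_option maxRecDepth 1000000 in
set_option maxHeartbeats 0 in
theorem T29fast_E6 : fastE6.T29 orbE6 := by decide +kernel

theorem T29_E6 : (tabOf chevE6).T29 orbE6 := tab_E6 ▸ T29fast_E6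

/-- Words and fundamental roots for the roots of type E7. -/
def orbE7 : List (List ℕ × ℕ) :=
  [([0, 2, 3, 4, 5, 6, 1, 3, 4, 5, 2, 3, 4, 1, 3, 2, 0], 0),
    ([2, 3, 4, 5, 6, 1, 3, 4, 5, 2, 3, 4, 1, 3, 2, 0], 0),
    ([3, 4, 5, 6, 1, 3, 4, 5, 2, 3, 4, 1, 3, 2, 0], 0),
    ([4, 5, 6, 1, 3, 4, 5, 2, 3, 4, 1, 3, 2, 0], 0), ([5, 6, 1, 3, 4, 5, 2, 3, 4, 1, 3, 2, 0], 0),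
    ([6, 1, 3, 4, 5, 2, 3, 4, 1, 3, 2, 0], 0), ([1, 3, 4, 5, 2, 3, 4, 1, 3, 2, 0], 0),
    ([4, 5, 6, 3, 4, 5, 2, 3, 4, 1, 3, 2, 0], 0), ([5, 6, 3, 4, 5, 2, 3, 4, 1, 3, 2, 0], 0),
    ([6, 3, 4, 5, 2, 3, 4, 1, 3, 2, 0], 0), ([3, 4, 5, 2, 3, 4, 1, 3, 2, 0], 0),
    ([5, 6, 4, 5, 2, 3, 4, 1, 3, 2, 0], 0), ([6, 4, 5, 2, 3, 4, 1, 3, 2, 0], 0),
    ([4, 5, 2, 3, 4, 1, 3, 2, 0], 0), ([6, 5, 2, 3, 4, 1, 3, 2, 0], 0),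
    ([5, 2, 3, 4, 1, 3, 2, 0], 0), ([2, 3, 4, 1, 3, 2, 0], 0), ([5, 6, 4, 5, 3, 4, 1, 3, 2, 0], 0),
    ([6, 4, 5, 3, 4, 1, 3, 2, 0], 0), ([4, 5, 3, 4, 1, 3, 2, 0], 0), ([6, 5, 3, 4, 1, 3, 2, 0], 0),
    ([5, 3, 4, 1, 3, 2, 0], 0), ([3, 4, 1, 3, 2, 0], 0), ([6, 5, 4, 1, 3, 2, 0], 0),
    ([5, 4, 1, 3, 2, 0], 0), ([4, 1, 3, 2, 0], 0), ([1, 3, 2, 0], 0), ([6, 5, 4, 3, 2, 0], 0),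
    ([5, 4, 3, 2, 0], 0), ([4, 3, 2, 0], 0), ([3, 2, 0], 0), ([2, 0], 0), ([0], 0),
    ([5, 6, 4, 5, 3, 4, 2, 3, 1], 1), ([6, 4, 5, 3, 4, 2, 3, 1], 1), ([4, 5, 3, 4, 2, 3, 1], 1),
    ([6, 5, 3, 4, 2, 3, 1], 1), ([5, 3, 4, 2, 3, 1], 1), ([3, 4, 2, 3, 1], 1),
    ([6, 5, 4, 2, 3, 1], 1), ([5, 4, 2, 3, 1], 1), ([4, 2, 3, 1], 1), ([2, 3, 1], 1),
    ([6, 5, 4, 3, 1], 1), ([5, 4, 3, 1], 1), ([4, 3, 1], 1), ([3, 1], 1), ([1], 1),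
    ([6, 5, 4, 3, 2], 2), ([5, 4, 3, 2], 2), ([4, 3, 2], 2), ([3, 2], 2), ([2], 2),
    ([6, 5, 4, 3], 3), ([5, 4, 3], 3), ([4, 3], 3), ([3], 3), ([6, 5, 4], 4), ([5, 4], 4),
    ([4], 4), ([6, 5], 5), ([5], 5), ([6], 6), ([], 6), ([], 5), ([5], 6), ([], 4), ([4], 5),
    ([4, 5], 6), ([], 3), ([3], 4), ([3, 4], 5), ([3, 4, 5], 6), ([], 2), ([2], 3), ([2, 3], 4),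
    ([2, 3, 4], 5), ([2, 3, 4, 5], 6), ([], 1), ([1], 3), ([1, 3], 4), ([1, 3, 4], 5),
    ([1, 3, 4, 5], 6), ([1, 2], 3), ([1, 2, 3], 4), ([1, 2, 3, 4], 5), ([1, 2, 3, 4, 5], 6),
    ([3, 1, 2, 3], 4), ([3, 1, 2, 3, 4], 5), ([3, 1, 2, 3, 4, 5], 6), ([4, 3, 1, 2, 3, 4], 5),
    ([4, 3, 1, 2, 3, 4, 5], 6), ([5, 4, 3, 1, 2, 3, 4, 5], 6), ([], 0), ([0], 2), ([0, 2], 3),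
    ([0, 2, 3], 4), ([0, 2, 3, 4], 5), ([0, 2, 3, 4, 5], 6), ([0, 1, 2], 3), ([0, 1, 2, 3], 4),
    ([0, 1, 2, 3, 4], 5), ([0, 1, 2, 3, 4, 5], 6), ([0, 3, 1, 2, 3], 4), ([0, 3, 1, 2, 3, 4], 5),
    ([0, 3, 1, 2, 3, 4, 5], 6), ([0, 4, 3, 1, 2, 3, 4], 5), ([0, 4, 3, 1, 2, 3, 4, 5], 6),
    ([0, 5, 4, 3, 1, 2, 3, 4, 5], 6), ([2, 0, 3, 1, 2, 3], 4), ([2, 0, 3, 1, 2, 3, 4], 5),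
    ([2, 0, 3, 1, 2, 3, 4, 5], 6), ([2, 0, 4, 3, 1, 2, 3, 4], 5), ([2, 0, 4, 3, 1, 2, 3, 4, 5], 6),
    ([2, 0, 5, 4, 3, 1, 2, 3, 4, 5], 6), ([3, 2, 0, 4, 3, 1, 2, 3, 4], 5),
    ([3, 2, 0, 4, 3, 1, 2, 3, 4, 5], 6), ([3, 2, 0, 5, 4, 3, 1, 2, 3, 4, 5], 6),
    ([4, 3, 2, 0, 5, 4, 3, 1, 2, 3, 4, 5], 6), ([1, 3, 2, 0, 4, 3, 1, 2, 3, 4], 5),
    ([1, 3, 2, 0, 4, 3, 1, 2, 3, 4, 5], 6), ([1, 3, 2, 0, 5, 4, 3, 1, 2, 3, 4, 5], 6),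
    ([1, 4, 3, 2, 0, 5, 4, 3, 1, 2, 3, 4, 5], 6), ([3, 1, 4, 3, 2, 0, 5, 4, 3, 1, 2, 3, 4, 5], 6),
    ([2, 3, 1, 4, 3, 2, 0, 5, 4, 3, 1, 2, 3, 4, 5], 6),
    ([0, 2, 3, 1, 4, 3, 2, 0, 5, 4, 3, 1, 2, 3, 4, 5], 6)]

set_option maxRecDepth 1000000 in
set_option maxHeartbeats 0 in
theorem T29fast_E7 : fastE7.T29 orbE7 := by decide +kernel

theorem T29_E7 : (tabOf chevE7).T29 orbE7 := tab_E7 ▸ T29fast_E7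

/-- Words and fundamental roots for the roots of type E8. -/
def orbE8 : List (List ℕ × ℕ) :=
  [([7, 6, 5, 4, 3, 2, 1, 3, 4, 5, 6, 7, 0, 2, 3, 4, 5, 6, 1, 3, 4, 5, 2, 3, 4, 1, 3, 2, 0], 0),
    ([6, 5, 4, 3, 2, 1, 3, 4, 5, 6, 7, 0, 2, 3, 4, 5, 6, 1, 3, 4, 5, 2, 3, 4, 1, 3, 2, 0], 0),
    ([5, 4, 3, 2, 1, 3, 4, 5, 6, 7, 0, 2, 3, 4, 5, 6, 1, 3, 4, 5, 2, 3, 4, 1, 3, 2, 0], 0),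
    ([4, 3, 2, 1, 3, 4, 5, 6, 7, 0, 2, 3, 4, 5, 6, 1, 3, 4, 5, 2, 3, 4, 1, 3, 2, 0], 0),
    ([3, 2, 1, 3, 4, 5, 6, 7, 0, 2, 3, 4, 5, 6, 1, 3, 4, 5, 2, 3, 4, 1, 3, 2, 0], 0),
    ([2, 1, 3, 4, 5, 6, 7, 0, 2, 3, 4, 5, 6, 1, 3, 4, 5, 2, 3, 4, 1, 3, 2, 0], 0),
    ([1, 3, 4, 5, 6, 7, 0, 2, 3, 4, 5, 6, 1, 3, 4, 5, 2, 3, 4, 1, 3, 2, 0], 0),
    ([2, 3, 4, 5, 6, 7, 0, 2, 3, 4, 5, 6, 1, 3, 4, 5, 2, 3, 4, 1, 3, 2, 0], 0),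
    ([3, 4, 5, 6, 7, 0, 2, 3, 4, 5, 6, 1, 3, 4, 5, 2, 3, 4, 1, 3, 2, 0], 0),
    ([4, 5, 6, 7, 0, 2, 3, 4, 5, 6, 1, 3, 4, 5, 2, 3, 4, 1, 3, 2, 0], 0),
    ([5, 6, 7, 0, 2, 3, 4, 5, 6, 1, 3, 4, 5, 2, 3, 4, 1, 3, 2, 0], 0),
    ([6, 7, 0, 2, 3, 4, 5, 6, 1, 3, 4, 5, 2, 3, 4, 1, 3, 2, 0], 0),
    ([7, 0, 2, 3, 4, 5, 6, 1, 3, 4, 5, 2, 3, 4, 1, 3, 2, 0], 0),
    ([0, 2, 3, 4, 5, 6, 1, 3, 4, 5, 2, 3, 4, 1, 3, 2, 0], 0),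
    ([1, 3, 4, 5, 6, 7, 2, 3, 4, 5, 6, 1, 3, 4, 5, 2, 3, 4, 1, 3, 2, 0], 0),
    ([3, 4, 5, 6, 7, 2, 3, 4, 5, 6, 1, 3, 4, 5, 2, 3, 4, 1, 3, 2, 0], 0),
    ([4, 5, 6, 7, 2, 3, 4, 5, 6, 1, 3, 4, 5, 2, 3, 4, 1, 3, 2, 0], 0),
    ([5, 6, 7, 2, 3, 4, 5, 6, 1, 3, 4, 5, 2, 3, 4, 1, 3, 2, 0], 0),
    ([6, 7, 2, 3, 4, 5, 6, 1, 3, 4, 5, 2, 3, 4, 1, 3, 2, 0], 0),
    ([7, 2, 3, 4, 5, 6, 1, 3, 4, 5, 2, 3, 4, 1, 3, 2, 0], 0),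
    ([2, 3, 4, 5, 6, 1, 3, 4, 5, 2, 3, 4, 1, 3, 2, 0], 0),
    ([4, 5, 6, 7, 3, 4, 5, 6, 1, 3, 4, 5, 2, 3, 4, 1, 3, 2, 0], 0),
    ([5, 6, 7, 3, 4, 5, 6, 1, 3, 4, 5, 2, 3, 4, 1, 3, 2, 0], 0),
    ([6, 7, 3, 4, 5, 6, 1, 3, 4, 5, 2, 3, 4, 1, 3, 2, 0], 0),
    ([7, 3, 4, 5, 6, 1, 3, 4, 5, 2, 3, 4, 1, 3, 2, 0], 0),
    ([3, 4, 5, 6, 1, 3, 4, 5, 2, 3, 4, 1, 3, 2, 0], 0),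
    ([5, 6, 7, 4, 5, 6, 1, 3, 4, 5, 2, 3, 4, 1, 3, 2, 0], 0),
    ([6, 7, 4, 5, 6, 1, 3, 4, 5, 2, 3, 4, 1, 3, 2, 0], 0),
    ([7, 4, 5, 6, 1, 3, 4, 5, 2, 3, 4, 1, 3, 2, 0], 0),
    ([4, 5, 6, 1, 3, 4, 5, 2, 3, 4, 1, 3, 2, 0], 0),
    ([6, 7, 5, 6, 1, 3, 4, 5, 2, 3, 4, 1, 3, 2, 0], 0),
    ([7, 5, 6, 1, 3, 4, 5, 2, 3, 4, 1, 3, 2, 0], 0), ([5, 6, 1, 3, 4, 5, 2, 3, 4, 1, 3, 2, 0], 0),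
    ([7, 6, 1, 3, 4, 5, 2, 3, 4, 1, 3, 2, 0], 0), ([6, 1, 3, 4, 5, 2, 3, 4, 1, 3, 2, 0], 0),
    ([1, 3, 4, 5, 2, 3, 4, 1, 3, 2, 0], 0), ([5, 6, 7, 4, 5, 6, 3, 4, 5, 2, 3, 4, 1, 3, 2, 0], 0),
    ([6, 7, 4, 5, 6, 3, 4, 5, 2, 3, 4, 1, 3, 2, 0], 0),
    ([7, 4, 5, 6, 3, 4, 5, 2, 3, 4, 1, 3, 2, 0], 0), ([4, 5, 6, 3, 4, 5, 2, 3, 4, 1, 3, 2, 0], 0),
    ([6, 7, 5, 6, 3, 4, 5, 2, 3, 4, 1, 3, 2, 0], 0), ([7, 5, 6, 3, 4, 5, 2, 3, 4, 1, 3, 2, 0], 0),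
    ([5, 6, 3, 4, 5, 2, 3, 4, 1, 3, 2, 0], 0), ([7, 6, 3, 4, 5, 2, 3, 4, 1, 3, 2, 0], 0),
    ([6, 3, 4, 5, 2, 3, 4, 1, 3, 2, 0], 0), ([3, 4, 5, 2, 3, 4, 1, 3, 2, 0], 0),
    ([6, 7, 5, 6, 4, 5, 2, 3, 4, 1, 3, 2, 0], 0), ([7, 5, 6, 4, 5, 2, 3, 4, 1, 3, 2, 0], 0),
    ([5, 6, 4, 5, 2, 3, 4, 1, 3, 2, 0], 0), ([7, 6, 4, 5, 2, 3, 4, 1, 3, 2, 0], 0),
    ([6, 4, 5, 2, 3, 4, 1, 3, 2, 0], 0), ([4, 5, 2, 3, 4, 1, 3, 2, 0], 0),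
    ([7, 6, 5, 2, 3, 4, 1, 3, 2, 0], 0), ([6, 5, 2, 3, 4, 1, 3, 2, 0], 0),
    ([5, 2, 3, 4, 1, 3, 2, 0], 0), ([2, 3, 4, 1, 3, 2, 0], 0),
    ([6, 7, 5, 6, 4, 5, 3, 4, 1, 3, 2, 0], 0), ([7, 5, 6, 4, 5, 3, 4, 1, 3, 2, 0], 0),
    ([5, 6, 4, 5, 3, 4, 1, 3, 2, 0], 0), ([7, 6, 4, 5, 3, 4, 1, 3, 2, 0], 0),
    ([6, 4, 5, 3, 4, 1, 3, 2, 0], 0), ([4, 5, 3, 4, 1, 3, 2, 0], 0),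
    ([7, 6, 5, 3, 4, 1, 3, 2, 0], 0), ([6, 5, 3, 4, 1, 3, 2, 0], 0), ([5, 3, 4, 1, 3, 2, 0], 0),
    ([3, 4, 1, 3, 2, 0], 0), ([7, 6, 5, 4, 1, 3, 2, 0], 0), ([6, 5, 4, 1, 3, 2, 0], 0),
    ([5, 4, 1, 3, 2, 0], 0), ([4, 1, 3, 2, 0], 0), ([1, 3, 2, 0], 0), ([7, 6, 5, 4, 3, 2, 0], 0),
    ([6, 5, 4, 3, 2, 0], 0), ([5, 4, 3, 2, 0], 0), ([4, 3, 2, 0], 0), ([3, 2, 0], 0), ([2, 0], 0),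
    ([0], 0), ([6, 7, 5, 6, 4, 5, 3, 4, 2, 3, 1], 1), ([7, 5, 6, 4, 5, 3, 4, 2, 3, 1], 1),
    ([5, 6, 4, 5, 3, 4, 2, 3, 1], 1), ([7, 6, 4, 5, 3, 4, 2, 3, 1], 1),
    ([6, 4, 5, 3, 4, 2, 3, 1], 1), ([4, 5, 3, 4, 2, 3, 1], 1), ([7, 6, 5, 3, 4, 2, 3, 1], 1),
    ([6, 5, 3, 4, 2, 3, 1], 1), ([5, 3, 4, 2, 3, 1], 1), ([3, 4, 2, 3, 1], 1),
    ([7, 6, 5, 4, 2, 3, 1], 1), ([6, 5, 4, 2, 3, 1], 1), ([5, 4, 2, 3, 1], 1), ([4, 2, 3, 1], 1),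
    ([2, 3, 1], 1), ([7, 6, 5, 4, 3, 1], 1), ([6, 5, 4, 3, 1], 1), ([5, 4, 3, 1], 1),
    ([4, 3, 1], 1), ([3, 1], 1), ([1], 1), ([7, 6, 5, 4, 3, 2], 2), ([6, 5, 4, 3, 2], 2),
    ([5, 4, 3, 2], 2), ([4, 3, 2], 2), ([3, 2], 2), ([2], 2), ([7, 6, 5, 4, 3], 3),
    ([6, 5, 4, 3], 3), ([5, 4, 3], 3), ([4, 3], 3), ([3], 3), ([7, 6, 5, 4], 4), ([6, 5, 4], 4),
    ([5, 4], 4), ([4], 4), ([7, 6, 5], 5), ([6, 5], 5), ([5], 5), ([7, 6], 6), ([6], 6), ([7], 7),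
    ([], 7), ([], 6), ([6], 7), ([], 5), ([5], 6), ([5, 6], 7), ([], 4), ([4], 5), ([4, 5], 6),
    ([4, 5, 6], 7), ([], 3), ([3], 4), ([3, 4], 5), ([3, 4, 5], 6), ([3, 4, 5, 6], 7), ([], 2),
    ([2], 3), ([2, 3], 4), ([2, 3, 4], 5), ([2, 3, 4, 5], 6), ([2, 3, 4, 5, 6], 7), ([], 1),
    ([1], 3), ([1, 3], 4), ([1, 3, 4], 5), ([1, 3, 4, 5], 6), ([1, 3, 4, 5, 6], 7), ([1, 2], 3),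
    ([1, 2, 3], 4), ([1, 2, 3, 4], 5), ([1, 2, 3, 4, 5], 6), ([1, 2, 3, 4, 5, 6], 7),
    ([3, 1, 2, 3], 4), ([3, 1, 2, 3, 4], 5), ([3, 1, 2, 3, 4, 5], 6), ([3, 1, 2, 3, 4, 5, 6], 7),
    ([4, 3, 1, 2, 3, 4], 5), ([4, 3, 1, 2, 3, 4, 5], 6), ([4, 3, 1, 2, 3, 4, 5, 6], 7),
    ([5, 4, 3, 1, 2, 3, 4, 5], 6), ([5, 4, 3, 1, 2, 3, 4, 5, 6], 7),
    ([6, 5, 4, 3, 1, 2, 3, 4, 5, 6], 7), ([], 0), ([0], 2), ([0, 2], 3), ([0, 2, 3], 4),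
    ([0, 2, 3, 4], 5), ([0, 2, 3, 4, 5], 6), ([0, 2, 3, 4, 5, 6], 7), ([0, 1, 2], 3),
    ([0, 1, 2, 3], 4), ([0, 1, 2, 3, 4], 5), ([0, 1, 2, 3, 4, 5], 6), ([0, 1, 2, 3, 4, 5, 6], 7),
    ([0, 3, 1, 2, 3], 4), ([0, 3, 1, 2, 3, 4], 5), ([0, 3, 1, 2, 3, 4, 5], 6),
    ([0, 3, 1, 2, 3, 4, 5, 6], 7), ([0, 4, 3, 1, 2, 3, 4], 5), ([0, 4, 3, 1, 2, 3, 4, 5], 6),
    ([0, 4, 3, 1, 2, 3, 4, 5, 6], 7), ([0, 5, 4, 3, 1, 2, 3, 4, 5], 6),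
    ([0, 5, 4, 3, 1, 2, 3, 4, 5, 6], 7), ([0, 6, 5, 4, 3, 1, 2, 3, 4, 5, 6], 7),
    ([2, 0, 3, 1, 2, 3], 4), ([2, 0, 3, 1, 2, 3, 4], 5), ([2, 0, 3, 1, 2, 3, 4, 5], 6),
    ([2, 0, 3, 1, 2, 3, 4, 5, 6], 7), ([2, 0, 4, 3, 1, 2, 3, 4], 5),
    ([2, 0, 4, 3, 1, 2, 3, 4, 5], 6), ([2, 0, 4, 3, 1, 2, 3, 4, 5, 6], 7),
    ([2, 0, 5, 4, 3, 1, 2, 3, 4, 5], 6), ([2, 0, 5, 4, 3, 1, 2, 3, 4, 5, 6], 7),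
    ([2, 0, 6, 5, 4, 3, 1, 2, 3, 4, 5, 6], 7), ([3, 2, 0, 4, 3, 1, 2, 3, 4], 5),
    ([3, 2, 0, 4, 3, 1, 2, 3, 4, 5], 6), ([3, 2, 0, 4, 3, 1, 2, 3, 4, 5, 6], 7),
    ([3, 2, 0, 5, 4, 3, 1, 2, 3, 4, 5], 6), ([3, 2, 0, 5, 4, 3, 1, 2, 3, 4, 5, 6], 7),
    ([3, 2, 0, 6, 5, 4, 3, 1, 2, 3, 4, 5, 6], 7), ([4, 3, 2, 0, 5, 4, 3, 1, 2, 3, 4, 5], 6),
    ([4, 3, 2, 0, 5, 4, 3, 1, 2, 3, 4, 5, 6], 7), ([4, 3, 2, 0, 6, 5, 4, 3, 1, 2, 3, 4, 5, 6], 7),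
    ([5, 4, 3, 2, 0, 6, 5, 4, 3, 1, 2, 3, 4, 5, 6], 7), ([1, 3, 2, 0, 4, 3, 1, 2, 3, 4], 5),
    ([1, 3, 2, 0, 4, 3, 1, 2, 3, 4, 5], 6), ([1, 3, 2, 0, 4, 3, 1, 2, 3, 4, 5, 6], 7),
    ([1, 3, 2, 0, 5, 4, 3, 1, 2, 3, 4, 5], 6), ([1, 3, 2, 0, 5, 4, 3, 1, 2, 3, 4, 5, 6], 7),
    ([1, 3, 2, 0, 6, 5, 4, 3, 1, 2, 3, 4, 5, 6], 7), ([1, 4, 3, 2, 0, 5, 4, 3, 1, 2, 3, 4, 5], 6),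
    ([1, 4, 3, 2, 0, 5, 4, 3, 1, 2, 3, 4, 5, 6], 7),
    ([1, 4, 3, 2, 0, 6, 5, 4, 3, 1, 2, 3, 4, 5, 6], 7),
    ([1, 5, 4, 3, 2, 0, 6, 5, 4, 3, 1, 2, 3, 4, 5, 6], 7),
    ([3, 1, 4, 3, 2, 0, 5, 4, 3, 1, 2, 3, 4, 5], 6),
    ([3, 1, 4, 3, 2, 0, 5, 4, 3, 1, 2, 3, 4, 5, 6], 7),
    ([3, 1, 4, 3, 2, 0, 6, 5, 4, 3, 1, 2, 3, 4, 5, 6], 7),
    ([3, 1, 5, 4, 3, 2, 0, 6, 5, 4, 3, 1, 2, 3, 4, 5, 6], 7),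
    ([4, 3, 1, 5, 4, 3, 2, 0, 6, 5, 4, 3, 1, 2, 3, 4, 5, 6], 7),
    ([2, 3, 1, 4, 3, 2, 0, 5, 4, 3, 1, 2, 3, 4, 5], 6),
    ([2, 3, 1, 4, 3, 2, 0, 5, 4, 3, 1, 2, 3, 4, 5, 6], 7),
    ([2, 3, 1, 4, 3, 2, 0, 6, 5, 4, 3, 1, 2, 3, 4, 5, 6], 7),
    ([2, 3, 1, 5, 4, 3, 2, 0, 6, 5, 4, 3, 1, 2, 3, 4, 5, 6], 7),
    ([2, 4, 3, 1, 5, 4, 3, 2, 0, 6, 5, 4, 3, 1, 2, 3, 4, 5, 6], 7),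
    ([3, 2, 4, 3, 1, 5, 4, 3, 2, 0, 6, 5, 4, 3, 1, 2, 3, 4, 5, 6], 7),
    ([1, 3, 2, 4, 3, 1, 5, 4, 3, 2, 0, 6, 5, 4, 3, 1, 2, 3, 4, 5, 6], 7),
    ([0, 2, 3, 1, 4, 3, 2, 0, 5, 4, 3, 1, 2, 3, 4, 5], 6),
    ([0, 2, 3, 1, 4, 3, 2, 0, 5, 4, 3, 1, 2, 3, 4, 5, 6], 7),
    ([0, 2, 3, 1, 4, 3, 2, 0, 6, 5, 4, 3, 1, 2, 3, 4, 5, 6], 7),
    ([0, 2, 3, 1, 5, 4, 3, 2, 0, 6, 5, 4, 3, 1, 2, 3, 4, 5, 6], 7),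
    ([0, 2, 4, 3, 1, 5, 4, 3, 2, 0, 6, 5, 4, 3, 1, 2, 3, 4, 5, 6], 7),
    ([0, 3, 2, 4, 3, 1, 5, 4, 3, 2, 0, 6, 5, 4, 3, 1, 2, 3, 4, 5, 6], 7),
    ([2, 0, 3, 2, 4, 3, 1, 5, 4, 3, 2, 0, 6, 5, 4, 3, 1, 2, 3, 4, 5, 6], 7),
    ([0, 1, 3, 2, 4, 3, 1, 5, 4, 3, 2, 0, 6, 5, 4, 3, 1, 2, 3, 4, 5, 6], 7),
    ([1, 2, 0, 3, 2, 4, 3, 1, 5, 4, 3, 2, 0, 6, 5, 4, 3, 1, 2, 3, 4, 5, 6], 7),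
    ([3, 1, 2, 0, 3, 2, 4, 3, 1, 5, 4, 3, 2, 0, 6, 5, 4, 3, 1, 2, 3, 4, 5, 6], 7),
    ([4, 3, 1, 2, 0, 3, 2, 4, 3, 1, 5, 4, 3, 2, 0, 6, 5, 4, 3, 1, 2, 3, 4, 5, 6], 7),
    ([5, 4, 3, 1, 2, 0, 3, 2, 4, 3, 1, 5, 4, 3, 2, 0, 6, 5, 4, 3, 1, 2, 3, 4, 5, 6], 7),
    ([6, 5, 4, 3, 1, 2, 0, 3, 2, 4, 3, 1, 5, 4, 3, 2, 0, 6, 5, 4, 3, 1, 2, 3, 4, 5, 6], 7),
    ([7, 6, 5, 4, 3, 1, 2, 0, 3, 2, 4, 3, 1, 5, 4, 3, 2, 0, 6, 5, 4, 3, 1, 2, 3, 4, 5, 6], 7)]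

set_option maxRecDepth 1000000 in
set_option maxHeartbeats 0 in
theorem T29fast_E8 : fastE8.T29 orbE8 := by decide +kernel

theorem T29_E8 : (tabOf chevE8).T29 orbE8 := tab_E8 ▸ T29fast_E8

/-- Every root is conjugate to a fundamental root, for each of the seven tabulated data. -/
theorem T29_of_mem (D : ChevalleyDatum)
    (hD : D ∈ [chevG2, chevB2, chevD4, chevF4, chevE6, chevE7, chevE8]) :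
    ∃ orb, (tabOf D).T29 orb :=
  chev_cases (p := fun D => ∃ orb, (tabOf D).T29 orb) D hD ⟨_, T29_G2⟩ ⟨_, T29_B2⟩ ⟨_, T29_D4⟩
    ⟨_, T29_F4⟩ ⟨_, T29_E6⟩ ⟨_, T29_E7⟩ ⟨_, T29_E8⟩

end Cfsg.Agent.Helper7.Chev
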