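import Mathlib
import Cfsg.Agent.Helper7.StI

set_option autoImplicit false
set_option linter.unusedSectionVars false
set_option linter.unusedVariables false

/-!
The homomorphism from a group presented by relators containing (R1), (R2) onto the Chevalley group is a
central extension.
-/

namespace Cfsg.Agent.Helper7.St

open Cfsg Cfsg.Lie Matrix Cfsg.Agent.Helper7.Chev

variable {D : ChevalleyDatum} {K : Type*} [Field K]

section presented

variable (hG : Good3 D) (rels : Set (FreeGroup (Fin D.nroots × K)))
  (hAB : D.steinbergRelsAB K ⊆ rels) (hkill : ∀ g ∈ rels, liftX hG.toGood1 g = 1)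

theorem toGL_mem_group (x : PresentedGroup rels) : toGL hG rels hkill x ∈ D.group K := by
  have hG1 := hG.toGood1
  induction x using PresentedGroup.induction_on with
  | _ g =>
    rw [toGL_mk]
    have h1 : liftX hG1 g ∈ (liftX hG1 (K := K)).range := ⟨g, rfl⟩
    unfold liftX at h1 ⊢
    rw [FreeGroup.range_lift_eq_closure] at h1
    have hle : Subgroup.closure (Set.range fun p : Fin D.nroots × K => xGL hG1 p.1.2 p.2) ≤
        D.group K := by
      rw [Subgroup.closure_le]
      rintro y ⟨p, rfl⟩
      apply Subgroup.subset_closure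
      exact ⟨p.1, p.2, by rw [xGL_coe, x_of_lt D K p.1.2]⟩
    exact hle h1

/-- The homomorphism from the presented group to the Chevalley group. -/
noncomputable def toChev : PresentedGroup rels →* ↥(D.group K) :=
  (toGL hG rels hkill).codRestrict (D.group K) (toGL_mem_group hG rels hkill)

theorem toChev_coe (x : PresentedGroup rels) :
    ((toChev hG rels hkill x : ↥(D.group K)) : GL D.Idx K) = toGL hG rels hkill x := rfl

theorem toChev_stX (r : ℕ) (t : K) :
    ((toChev hG rels hkill (PresentedGroup.mk rels (D.stX r t)) : GL D.Idx K) :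
      Matrix D.Idx D.Idx K) = D.x K r t := by
  rw [toChev_coe, toGL_mk, liftX_stX]

theorem toChev_surjective : Function.Surjective (toChev hG rels hkill) := by
  have hG1 := hG.toGood1
  have key : ∀ y ∈ D.group K, ∃ x : PresentedGroup rels, toGL hG rels hkill x = y := by
    intro y hy
    unfold ChevalleyDatum.group at hy
    induction hy using Subgroup.closure_induction with
    | mem y hy =>
      obtain ⟨r, t, hy⟩ := hy
      refine ⟨PresentedGroup.mk rels (D.stX r.val t), ?_⟩
      apply Units.ext
      rw [toGL_mk, liftX_stX, hy, x_of_lt D K r.2]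
    | one => exact ⟨1, map_one _⟩
    | mul a b _ _ ha hb =>
      obtain ⟨x, rfl⟩ := ha
      obtain ⟨y, rfl⟩ := hb
      exact ⟨x * y, map_mul _ _ _⟩
    | inv a _ ha =>
      obtain ⟨x, rfl⟩ := ha
      exact ⟨x⁻¹, map_inv _ _⟩
  rintro ⟨y, hy⟩
  obtain ⟨x, hx⟩ := key y hy
  exact ⟨x, Subtype.ext hx⟩

theorem toChev_ker_iff (x : PresentedGroup rels) :
    toChev hG rels hkill x = 1 ↔ (stdOf hG rels hAB hkill).π x = 1 := by
  constructor
  · intro h
    have := congrArg Subtype.val h
    exact this
  · intro h
    exact Subtype.ext h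

end presented

/-- The kernel of the homomorphism from the presented group lies in the subgroup generated by the
elements `nb i t` and in the centre. -/
theorem toChev_ker_mem (hD : D ∈ [chevG2, chevB2, chevD4, chevF4, chevE6, chevE7, chevE8])
    (rels : Set (FreeGroup (Fin D.nroots × K))) (hAB : D.steinbergRelsAB K ⊆ rels)
    (hkill : ∀ g ∈ rels, liftX (good3_of_mem D hD).toGood1 g = 1) {x : PresentedGroup rels}
    (hx : toChev (good3_of_mem D hD) rels hkill x = 1) :
    x ∈ (stdOf (good3_of_mem D hD) rels hAB hkill).Nb ∧ x ∈ Subgroup.center (PresentedGroup rels) := by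
  have hG := good3_of_mem D hD
  obtain ⟨wit, h27⟩ := T37_of_mem D hD
  obtain ⟨w₀, hw₀⟩ := exists_W0ok D hD
  exact (stdOf (good3_of_mem D hD) rels hAB hkill).ker_mem hG.toGood2 (T0_of_mem D hD)
    (T5_of_mem D hD) (T5m_of_mem D hD) (T6_of_mem D hD) (T7_of_mem D hD) (T7m_of_mem D hD)
    (T8_of_mem D hD) (T9_of_mem D hD) h27 hw₀ (stdOf_gen _ rels hAB hkill)
    ((toChev_ker_iff _ rels hAB hkill x).mp hx)

end Cfsg.Agent.Helper7.St
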