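import Mathlib
import Cfsg.Agent.S1049
import Cfsg.Agent.S1051

set_option autoImplicit false
set_option linter.unusedSectionVars false
set_option linter.unusedVariables false

/-!
The centre of a Chevalley group of one of the seven tabulated types is trivial.
-/

namespace Cfsg.Agent.Helper7.St

open Cfsg Cfsg.Lie Matrix Cfsg.Agent.Helper7.Chev

variable {D : ChevalleyDatum} {K : Type*} [Field K]

theorem center_group_eq_bot (hD : D ∈ [chevG2, chevB2, chevD4, chevF4, chevE6, chevE7, chevE8]) :
    Subgroup.center ↥(D.group K) = ⊥ := by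
  have hG1 := good1_of_mem D hD
  rw [eq_bot_iff]
  intro z hz
  rw [Subgroup.mem_bot]
  rw [Subgroup.mem_center_iff] at hz
  have hcomm : ∀ g : GL D.Idx K, g ∈ D.group K → (z : GL D.Idx K) * g * (z : GL D.Idx K)⁻¹ = g := by
    intro g hg
    have := hz ⟨g, hg⟩
    have h2 : g * (z : GL D.Idx K) = (z : GL D.Idx K) * g := congrArg Subtype.val this
    rw [← h2]; group
  have hUG : D.unipotentRadical K ∅ ≤ D.group K := by
    unfold ChevalleyDatum.unipotentRadical
    rw [Subgroup.closure_le]
    rintro g ⟨r, t, hr, _, hg⟩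
    apply Subgroup.subset_closure
    exact ⟨⟨r, hr.1⟩, t, by rw [hg, x_of_lt D K hr.1]⟩
  have h49 := Cfsg.Agent.S1049.result (F := K) D hD ∅ (by simp)
  have hzB : (z : GL D.Idx K) ∈ D.borelSubgroup K := by
    have hmem : (z : GL D.Idx K) ∈
        Subgroup.normalizer (D.unipotentRadical K ∅ : Set (GL D.Idx K)) ⊓ D.group K := by
      refine Subgroup.mem_inf.mpr ⟨?_, z.2⟩
      rw [Subgroup.mem_normalizer_iff]
      intro h
      constructor
      · intro hh
        rw [hcomm h (hUG hh)]; exact hh
      · intro hh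
        have hhG : h ∈ D.group K := by
          have e : h = (z : GL D.Idx K)⁻¹ * ((z : GL D.Idx K) * h * (z : GL D.Idx K)⁻¹) *
              (z : GL D.Idx K) := by group
          rw [e]
          exact mul_mem (mul_mem (inv_mem z.2) (hUG hh)) z.2
        rw [hcomm h hhG] at hh; exact hh
    rw [h49] at hmem
    unfold ChevalleyDatum.parabolicSubgroup at hmem
    have he : {g : GL D.Idx K | ∃ j ∈ (∅ : Set ℕ), j < D.rank ∧
        (g : Matrix D.Idx D.Idx K) = D.nMat K (D.simple j) 1} = ∅ := by
      ext g; simp
    rw [he, Subgroup.closure_empty, sup_bot_eq] at hmem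
    exact hmem
  have h51 := Cfsg.Agent.S1051.result (F := K) D hD
  have hcore : z ∈ ((D.borelSubgroup K).subgroupOf (D.group K)).normalCore := by
    intro b
    have : b * z * b⁻¹ = z := by rw [hz b]; group
    rw [this]
    exact Subgroup.mem_subgroupOf.mpr hzB
  rw [h51, Subgroup.mem_bot] at hcore
  exact hcore

end Cfsg.Agent.Helper7.St
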