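import Mathlib

set_option autoImplicit false
set_option linter.unusedSectionVars false
set_option linter.unusedVariables false

/-!
# Groups with the Steinberg relations of type `A`

Elements `x i j t` (`i ≠ j`) of a group subject to additivity and to the commutator relations of the
elementary matrices: basic consequences.
-/

namespace Cfsg.Agent.Helper7.Sl

/-- Elements `x i j t` of a group `Γ` with the Steinberg relations of `SL_n`. -/
structure SD (n : ℕ) (K : Type*) [Field K] (Γ : Type*) [Group Γ] where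
  /-- the elements `x i j t` -/
  x : Fin n → Fin n → K → Γ
  add : ∀ i j, i ≠ j → ∀ t u : K, x i j t * x i j u = x i j (t + u)
  comm : ∀ i j k l, i ≠ j → k ≠ l → i ≠ l → j ≠ k → ∀ t u : K, x i j t * x k l u = x k l u * x i j t
  comm3 : ∀ i j l, i ≠ j → j ≠ l → i ≠ l → ∀ t u : K,
    x i j t * x j l u * (x i j t)⁻¹ * (x j l u)⁻¹ = x i l (t * u)

variable {n : ℕ} {K : Type*} [Field K] {Γ : Type*} [Group Γ] (S : SD n K Γ)

namespace SD

theorem x_zero {i j : Fin n} (hij : i ≠ j) : S.x i j 0 = 1 := by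
  have h := S.add i j hij 0 0
  rw [add_zero] at h
  exact mul_eq_left.mp h

theorem x_inv {i j : Fin n} (hij : i ≠ j) (t : K) : (S.x i j t)⁻¹ = S.x i j (-t) := by
  apply inv_eq_of_mul_eq_one_right
  rw [S.add i j hij, add_neg_cancel, S.x_zero hij]

/-- conjugation by a commuting root element. -/
theorem cj_comm {i j k l : Fin n} (hij : i ≠ j) (hkl : k ≠ l) (hil : i ≠ l) (hjk : j ≠ k) (t u : K) :
    MulAut.conj (S.x i j t) (S.x k l u) = S.x k l u := by
  rw [MulAut.conj_apply, S.comm i j k l hij hkl hil hjk, mul_inv_cancel_right]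

/-- `x_ij(t) x_jl(u) x_ij(t)⁻¹ = x_il(tu) x_jl(u)`. -/
theorem cj_one {i j l : Fin n} (hij : i ≠ j) (hjl : j ≠ l) (hil : i ≠ l) (t u : K) :
    MulAut.conj (S.x i j t) (S.x j l u) = S.x i l (t * u) * S.x j l u := by
  rw [MulAut.conj_apply, ← S.comm3 i j l hij hjl hil t u, inv_mul_cancel_right]

/-- `x_jl(u) x_ij(t) x_jl(u)⁻¹ = x_il(-tu) x_ij(t)`. -/
theorem cj_two {i j l : Fin n} (hij : i ≠ j) (hjl : j ≠ l) (hil : i ≠ l) (t u : K) :
    MulAut.conj (S.x j l u) (S.x i j t) = S.x i l (-(t * u)) * S.x i j t := by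
  rw [MulAut.conj_apply, ← S.x_inv hil, ← S.comm3 i j l hij hjl hil t u]
  group

/-- the elements `w_kl(u) = x_kl(u) x_lk(-u⁻¹) x_kl(u)`. -/
def w (k l : Fin n) (u : K) : Γ := S.x k l u * S.x l k (-u⁻¹) * S.x k l u

/-- the elements `h_kl(u) = w_kl(u) w_kl(-1)`. -/
def h (k l : Fin n) (u : K) : Γ := S.w k l u * S.w k l (-1)

theorem w_inv {k l : Fin n} (hkl : k ≠ l) (u : K) : (S.w k l u)⁻¹ = S.w k l (-u) := by
  unfold w
  rw [mul_inv_rev, mul_inv_rev, S.x_inv hkl, S.x_inv hkl.symm, neg_neg, inv_neg, neg_neg, mul_assoc]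

theorem h_one {k l : Fin n} (hkl : k ≠ l) : S.h k l 1 = 1 := by
  unfold h
  rw [← S.w_inv hkl, mul_inv_cancel]

theorem w_eq_h_mul {k l : Fin n} (hkl : k ≠ l) (u : K) : S.w k l u = S.h k l u * S.w k l 1 := by
  unfold h
  have : S.w k l (-1) = (S.w k l 1)⁻¹ := (S.w_inv hkl 1).symm
  rw [this, inv_mul_cancel_right]

/-- the subgroup generated by the root elements of a set of roots. -/
def XR (R : Fin n → Fin n → Prop) : Subgroup Γ :=
  Subgroup.closure {g | ∃ (i j : Fin n) (t : K), i ≠ j ∧ R i j ∧ g = S.x i j t}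

theorem x_mem_XR {R : Fin n → Fin n → Prop} {i j : Fin n} (hij : i ≠ j) (h : R i j) (t : K) :
    S.x i j t ∈ S.XR R :=
  Subgroup.subset_closure ⟨i, j, t, hij, h, rfl⟩

theorem XR_mono {R R' : Fin n → Fin n → Prop} (h : ∀ i j, R i j → R' i j) : S.XR R ≤ S.XR R' := by
  apply Subgroup.closure_mono
  rintro g ⟨i, j, t, hij, hR, rfl⟩
  exact ⟨i, j, t, hij, h i j hR, rfl⟩

/-- induction by multiplication on the left with root elements. -/
theorem XR_induction_left {R : Fin n → Fin n → Prop} {P : Γ → Prop} (h1 : P 1)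
    (hmul : ∀ (i j : Fin n) (t : K) (g : Γ), i ≠ j → R i j → g ∈ S.XR R → P g → P (S.x i j t * g))
    {g : Γ} (hg : g ∈ S.XR R) : P g := by
  unfold XR at hg
  induction hg using Subgroup.closure_induction_left with
  | one => exact h1
  | mul_left a ha b hb ih =>
    obtain ⟨i, j, t, hij, hR, rfl⟩ := ha
    exact hmul i j t b hij hR hb ih
  | inv_mul_cancel a ha b hb ih =>
    obtain ⟨i, j, t, hij, hR, rfl⟩ := ha
    rw [S.x_inv hij]
    exact hmul i j (-t) b hij hR hb ih

/-- induction by multiplication on the right with root elements. -/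
theorem XR_induction_right {R : Fin n → Fin n → Prop} {P : Γ → Prop} (h1 : P 1)
    (hmul : ∀ (i j : Fin n) (t : K) (g : Γ), i ≠ j → R i j → g ∈ S.XR R → P g → P (g * S.x i j t))
    {g : Γ} (hg : g ∈ S.XR R) : P g := by
  unfold XR at hg
  induction hg using Subgroup.closure_induction_right with
  | one => exact h1
  | mul_right a ha b hb ih =>
    obtain ⟨i, j, t, hij, hR, rfl⟩ := hb
    exact hmul i j t a hij hR ha ih
  | mul_inv_cancel a ha b hb ih =>
    obtain ⟨i, j, t, hij, hR, rfl⟩ := hb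
    rw [S.x_inv hij]
    exact hmul i j (-t) a hij hR ha ih

/-- the elements of the group of one root are the root elements. -/
theorem mem_XR_single {i₀ j₀ : Fin n} (h0 : i₀ ≠ j₀) {g : Γ}
    (hg : g ∈ S.XR (fun i j => i = i₀ ∧ j = j₀)) : ∃ t : K, g = S.x i₀ j₀ t := by
  refine S.XR_induction_left (P := fun g => ∃ t : K, g = S.x i₀ j₀ t) ?_ ?_ hg
  · exact ⟨0, (S.x_zero h0).symm⟩
  · rintro i j t g hij ⟨rfl, rfl⟩ hg ⟨u, rfl⟩
    exact ⟨t + u, S.add i j hij t u⟩

end SD

end Cfsg.Agent.Helper7.Sl
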