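import Mathlib
import Cfsg.Agent.Helper7.SlA

set_option autoImplicit false
set_option linter.unusedSectionVars false
set_option linter.unusedVariables false

/-!
# The action of the elements `w_kl(u)` on the root elements
-/

namespace Cfsg.Agent.Helper7.Sl

variable {n : ℕ} {K : Type*} [Field K] {Γ : Type*} [Group Γ] (S : SD n K Γ)

/-- the diagonal coefficients of the monomial matrix of `w_kl(u)`. -/
def cA (k l : Fin n) (u : K) (i : Fin n) : K := if i = l then u else if i = k then -u⁻¹ else 1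

theorem cA_ne_zero (k l : Fin n) {u : K} (hu : u ≠ 0) (i : Fin n) : cA k l u i ≠ 0 := by
  unfold cA
  split_ifs
  · exact hu
  · exact neg_ne_zero.mpr (inv_ne_zero hu)
  · exact one_ne_zero

namespace SD

theorem conj_w (k l : Fin n) (u : K) (g : Γ) :
    MulAut.conj (S.w k l u) g =
      MulAut.conj (S.x k l u) (MulAut.conj (S.x l k (-u⁻¹)) (MulAut.conj (S.x k l u) g)) := by
  unfold w
  rw [map_mul, map_mul, MulAut.mul_apply, MulAut.mul_apply]

/-- `w_kl(u) x_kj(c) w_kl(u)⁻¹ = x_lj(-u⁻¹ c)`. -/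
theorem w_conj_c1 {k l j : Fin n} (hkl : k ≠ l) (hjk : j ≠ k) (hjl : j ≠ l) {u : K} (hu : u ≠ 0) (c : K) :
    MulAut.conj (S.w k l u) (S.x k j c) = S.x l j (-u⁻¹ * c) := by
  rw [S.conj_w, S.cj_comm hkl hjk.symm hjk.symm hkl.symm, S.cj_one hkl.symm hjk.symm hjl.symm, map_mul,
    S.cj_one hkl hjl.symm hjk.symm, S.cj_comm hkl hjk.symm hjk.symm hkl.symm]
  have e1 : u * (-u⁻¹ * c) = -c := by field_simp
  rw [e1, mul_assoc, S.comm l j k j hjl.symm hjk.symm hjl.symm hjk, ← mul_assoc,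
    S.add k j hjk.symm, neg_add_cancel, S.x_zero hjk.symm, one_mul]

/-- `w_kl(u) x_lj(c) w_kl(u)⁻¹ = x_kj(u c)`. -/
theorem w_conj_c2 {k l j : Fin n} (hkl : k ≠ l) (hjk : j ≠ k) (hjl : j ≠ l) {u : K} (hu : u ≠ 0) (c : K) :
    MulAut.conj (S.w k l u) (S.x l j c) = S.x k j (u * c) := by
  rw [S.conj_w, S.cj_one hkl hjl.symm hjk.symm, map_mul, S.cj_one hkl.symm hjk.symm hjl.symm,
    S.cj_comm hkl.symm hjl.symm hjl.symm hkl]
  have e1 : -u⁻¹ * (u * c) = -c := by field_simp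
  rw [e1, mul_assoc, S.comm k j l j hjk.symm hjl.symm hjk.symm hjl, ← mul_assoc, S.add l j hjl.symm,
    neg_add_cancel, S.x_zero hjl.symm, one_mul, S.cj_comm hkl hjk.symm hjk.symm hkl.symm]

/-- `w_kl(u) x_ik(c) w_kl(u)⁻¹ = x_il(-(u c))`. -/
theorem w_conj_c3 {k l i : Fin n} (hkl : k ≠ l) (hik : i ≠ k) (hil : i ≠ l) {u : K} (hu : u ≠ 0) (c : K) :
    MulAut.conj (S.w k l u) (S.x i k c) = S.x i l (-(u * c)) := by
  rw [S.conj_w, S.cj_two hik hkl hil, map_mul, S.cj_two hil hkl.symm hik,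
    S.cj_comm hkl.symm hik hkl.symm hik.symm]
  have e1 : -(-(c * u) * -u⁻¹) = -c := by field_simp
  rw [e1, mul_assoc, S.comm i l i k hil hik hik hil.symm, ← mul_assoc, S.add i k hik, neg_add_cancel,
    S.x_zero hik, one_mul, S.cj_comm hkl hil hkl hil.symm, mul_comm c u]

/-- `w_kl(u) x_il(c) w_kl(u)⁻¹ = x_ik(u⁻¹ c)`. -/
theorem w_conj_c4 {k l i : Fin n} (hkl : k ≠ l) (hik : i ≠ k) (hil : i ≠ l) {u : K} (hu : u ≠ 0) (c : K) :
    MulAut.conj (S.w k l u) (S.x i l c) = S.x i k (u⁻¹ * c) := by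
  rw [S.conj_w, S.cj_comm hkl hil hkl hil.symm, S.cj_two hil hkl.symm hik, map_mul,
    S.cj_two hik hkl hil, S.cj_comm hkl hil hkl hil.symm]
  have e1 : -(-(c * -u⁻¹) * u) = -c := by field_simp
  have e2 : -(c * -u⁻¹) = u⁻¹ * c := by ring
  rw [e1, e2, mul_assoc, S.comm i k i l hik hil hil hik.symm, ← mul_assoc, S.add i l hil, neg_add_cancel,
    S.x_zero hil, one_mul]

/-- `w_kl(u)` commutes with `x_ij(c)` when `{i, j}` and `{k, l}` are disjoint. -/
theorem w_conj_c5 {k l i j : Fin n} (hkl : k ≠ l) (hij : i ≠ j) (hik : i ≠ k) (hil : i ≠ l) (hjk : j ≠ k)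
    (hjl : j ≠ l) (u c : K) : MulAut.conj (S.w k l u) (S.x i j c) = S.x i j c := by
  rw [S.conj_w, S.cj_comm hkl hij hjk.symm hil.symm, S.cj_comm hkl.symm hij hjl.symm hik.symm,
    S.cj_comm hkl hij hjk.symm hil.symm]

/-- `w_kl(u) x_kl(c) w_kl(u)⁻¹ = x_lk(-u⁻² c)`. -/
theorem w_conj_c6 {k l m : Fin n} (hkl : k ≠ l) (hmk : m ≠ k) (hml : m ≠ l) {u : K} (hu : u ≠ 0) (c : K) :
    MulAut.conj (S.w k l u) (S.x k l c) = S.x l k (-u⁻¹ * c * u⁻¹) := by
  have e := S.comm3 k m l hmk.symm hml hkl c 1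
  rw [mul_one] at e
  rw [← e, map_mul, map_mul, map_mul, map_inv, map_inv, S.w_conj_c1 hkl hmk hml hu,
    S.w_conj_c4 hkl hmk hml hu, S.comm3 l m k hml.symm hmk hkl.symm, mul_one]

/-- `w_kl(u) x_lk(c) w_kl(u)⁻¹ = x_kl(-u² c)`. -/
theorem w_conj_c7 {k l m : Fin n} (hkl : k ≠ l) (hmk : m ≠ k) (hml : m ≠ l) {u : K} (hu : u ≠ 0) (c : K) :
    MulAut.conj (S.w k l u) (S.x l k c) = S.x k l (u * c * -u) := by
  have e := S.comm3 l m k hml.symm hmk hkl.symm c 1
  rw [mul_one] at e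
  rw [← e, map_mul, map_mul, map_mul, map_inv, map_inv, S.w_conj_c2 hkl hmk hml hu,
    S.w_conj_c3 hkl hmk hml hu, S.comm3 k m l hmk.symm hml hkl, mul_one]

theorem exists_third (hn : 3 ≤ n) (k l : Fin n) : ∃ m : Fin n, m ≠ k ∧ m ≠ l := by
  by_contra hcon
  push Not at hcon
  have h1 : (Finset.univ : Finset (Fin n)) ⊆ {k, l} := by
    intro m _
    by_cases h : m = k
    · rw [h]; exact Finset.mem_insert_self _ _
    · rw [hcon m h]
      exact Finset.mem_insert_of_mem (Finset.mem_singleton_self _)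
  have h2 := Finset.card_le_card h1
  rw [Finset.card_univ, Fintype.card_fin] at h2
  have h3 : ({k, l} : Finset (Fin n)).card ≤ 2 := Finset.card_insert_le _ _
  omega

/-- **the action of `w_kl(u)` on the root elements.** -/
theorem w_conj (hn : 3 ≤ n) {k l : Fin n} (hkl : k ≠ l) {u : K} (hu : u ≠ 0) {i j : Fin n} (hij : i ≠ j)
    (c : K) :
    MulAut.conj (S.w k l u) (S.x i j c) =
      S.x (Equiv.swap k l i) (Equiv.swap k l j) (cA k l u i * (cA k l u j)⁻¹ * c) := by
  obtain ⟨m, hmk, hml⟩ := exists_third hn k l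
  by_cases hik : i = k
  · subst hik
    by_cases hjl : j = l
    · subst hjl
      rw [Equiv.swap_apply_left, Equiv.swap_apply_right, S.w_conj_c6 hkl hmk hml hu]
      unfold cA
      rw [if_neg hkl, if_pos rfl, if_pos rfl]
      congr 1
      ring
    · rw [Equiv.swap_apply_left, Equiv.swap_apply_of_ne_of_ne hij.symm hjl, S.w_conj_c1 hkl hij.symm hjl hu]
      unfold cA
      rw [if_neg hkl, if_pos rfl, if_neg hjl, if_neg hij.symm, inv_one, mul_one]
  · by_cases hil : i = l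
    · subst hil
      by_cases hjk : j = k
      · subst hjk
        rw [Equiv.swap_apply_left, Equiv.swap_apply_right, S.w_conj_c7 hkl hmk hml hu]
        unfold cA
        rw [if_pos rfl, if_neg hkl, if_pos rfl, inv_neg, inv_inv]
        congr 1
        ring
      · rw [Equiv.swap_apply_right, Equiv.swap_apply_of_ne_of_ne hjk hij.symm,
          S.w_conj_c2 hkl hjk hij.symm hu]
        unfold cA
        rw [if_pos rfl, if_neg hij.symm, if_neg hjk, inv_one, mul_one]
    · by_cases hjk : j = k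
      · subst hjk
        rw [Equiv.swap_apply_of_ne_of_ne hik hil, Equiv.swap_apply_left, S.w_conj_c3 hkl hik hil hu]
        unfold cA
        rw [if_neg hil, if_neg hik, if_neg hkl, if_pos rfl, inv_neg, inv_inv]
        congr 1
        ring
      · by_cases hjl : j = l
        · subst hjl
          rw [Equiv.swap_apply_of_ne_of_ne hik hil, Equiv.swap_apply_right, S.w_conj_c4 hkl hik hil hu]
          unfold cA
          rw [if_neg hil, if_neg hik, if_pos rfl, one_mul]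
        · rw [Equiv.swap_apply_of_ne_of_ne hik hil, Equiv.swap_apply_of_ne_of_ne hjk hjl,
            S.w_conj_c5 hkl hij hik hil hjk hjl]
          unfold cA
          rw [if_neg hil, if_neg hik, if_neg hjl, if_neg hjk, inv_one, mul_one, one_mul]

end SD

end Cfsg.Agent.Helper7.Sl
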