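import Mathlib
import Cfsg.Agent.Helper7.SlB

set_option autoImplicit false
set_option linter.unusedSectionVars false
set_option linter.unusedVariables false

/-!
# Elements acting monomially on the root elements, and the subgroup generated by the `w_kl(u)`
-/

namespace Cfsg.Agent.Helper7.Sl

variable {n : ℕ} {K : Type*} [Field K] {Γ : Type*} [Group Γ] (S : SD n K Γ)

namespace SD

/-- `g` acts on the root elements through the permutation `σ` with the coefficients `a`. -/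
def Mon (g : Γ) (σ : Equiv.Perm (Fin n)) (a : Fin n → K) : Prop :=
  (∀ i, a i ≠ 0) ∧ ∀ i j, i ≠ j → ∀ c : K,
    MulAut.conj g (S.x i j c) = S.x (σ i) (σ j) (a i * (a j)⁻¹ * c)

theorem mon_one : S.Mon 1 1 (fun _ => 1) := by
  refine ⟨fun _ => one_ne_zero, fun i j hij c => ?_⟩
  rw [map_one, MulAut.one_apply, Equiv.Perm.one_apply, Equiv.Perm.one_apply, inv_one, mul_one, one_mul]

theorem Mon.mul {g g' : Γ} {σ σ' : Equiv.Perm (Fin n)} {a a' : Fin n → K} (h : S.Mon g σ a)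
    (h' : S.Mon g' σ' a') : S.Mon (g * g') (σ * σ') (fun i => a (σ' i) * a' i) := by
  refine ⟨fun i => mul_ne_zero (h.1 _) (h'.1 _), fun i j hij c => ?_⟩
  rw [map_mul, MulAut.mul_apply, h'.2 i j hij, h.2 _ _ (fun e => hij (σ'.injective e)),
    Equiv.Perm.mul_apply, Equiv.Perm.mul_apply]
  congr 1
  rw [mul_inv]
  ring

theorem Mon.inv {g : Γ} {σ : Equiv.Perm (Fin n)} {a : Fin n → K} (h : S.Mon g σ a) :
    S.Mon g⁻¹ σ⁻¹ (fun i => (a (σ⁻¹ i))⁻¹) := by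
  refine ⟨fun i => inv_ne_zero (h.1 _), fun i j hij c => ?_⟩
  have hij' : σ⁻¹ i ≠ σ⁻¹ j := fun e => hij (σ⁻¹.injective e)
  have e := h.2 (σ⁻¹ i) (σ⁻¹ j) hij' ((a (σ⁻¹ i))⁻¹ * ((a (σ⁻¹ j))⁻¹)⁻¹ * c)
  have hσi : σ (σ⁻¹ i) = i := by rw [Equiv.Perm.inv_def, Equiv.apply_symm_apply]
  have hσj : σ (σ⁻¹ j) = j := by rw [Equiv.Perm.inv_def, Equiv.apply_symm_apply]
  rw [hσi, hσj] at e
  have e2 : a (σ⁻¹ i) * (a (σ⁻¹ j))⁻¹ * ((a (σ⁻¹ i))⁻¹ * ((a (σ⁻¹ j))⁻¹)⁻¹ * c) = c := by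
    have h1 := h.1 (σ⁻¹ i)
    have h2 := h.1 (σ⁻¹ j)
    field_simp
  rw [e2] at e
  rw [← e, map_inv, MulAut.inv_apply, MulEquiv.symm_apply_apply]

theorem mon_w (hn : 3 ≤ n) {k l : Fin n} (hkl : k ≠ l) {u : K} (hu : u ≠ 0) :
    S.Mon (S.w k l u) (Equiv.swap k l) (cA k l u) :=
  ⟨cA_ne_zero k l hu, fun i j hij c => S.w_conj hn hkl hu hij c⟩

/-- the subgroup generated by the elements `w_kl(u)`. -/
def Wt : Subgroup Γ := Subgroup.closure {g | ∃ (k l : Fin n) (u : K), k ≠ l ∧ u ≠ 0 ∧ g = S.w k l u}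

theorem w_mem_Wt {k l : Fin n} (hkl : k ≠ l) {u : K} (hu : u ≠ 0) : S.w k l u ∈ S.Wt :=
  Subgroup.subset_closure ⟨k, l, u, hkl, hu, rfl⟩

theorem exists_mon_of_mem_Wt (hn : 3 ≤ n) {g : Γ} (hg : g ∈ S.Wt) :
    ∃ (σ : Equiv.Perm (Fin n)) (a : Fin n → K), S.Mon g σ a := by
  unfold Wt at hg
  induction hg using Subgroup.closure_induction with
  | mem g hg =>
    obtain ⟨k, l, u, hkl, hu, rfl⟩ := hg
    exact ⟨_, _, S.mon_w hn hkl hu⟩
  | one => exact ⟨_, _, S.mon_one⟩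
  | mul a b _ _ iha ihb =>
    obtain ⟨σ, c, h⟩ := iha
    obtain ⟨σ', c', h'⟩ := ihb
    exact ⟨_, _, h.mul S h'⟩
  | inv a _ ih =>
    obtain ⟨σ, c, h⟩ := ih
    exact ⟨_, _, h.inv S⟩

/-- the action of a monomial element on the `w_kl(u)`. -/
theorem Mon.conj_w {g : Γ} {σ : Equiv.Perm (Fin n)} {a : Fin n → K} (h : S.Mon g σ a) {k l : Fin n}
    (hkl : k ≠ l) {u : K} (hu : u ≠ 0) :
    MulAut.conj g (S.w k l u) = S.w (σ k) (σ l) (a k * (a l)⁻¹ * u) := by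
  unfold w
  rw [map_mul, map_mul, h.2 k l hkl, h.2 l k hkl.symm]
  congr 3
  have h1 := h.1 k
  have h2 := h.1 l
  field_simp

/-- the action of a monomial element on the `h_kl(u)`. -/
theorem Mon.conj_h {g : Γ} {σ : Equiv.Perm (Fin n)} {a : Fin n → K} (h : S.Mon g σ a) {k l : Fin n}
    (hkl : k ≠ l) {u : K} (hu : u ≠ 0) :
    MulAut.conj g (S.h k l u) =
      S.h (σ k) (σ l) (a k * (a l)⁻¹ * u) * (S.h (σ k) (σ l) (a k * (a l)⁻¹))⁻¹ := by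
  have hσ : σ k ≠ σ l := fun e => hkl (σ.injective e)
  unfold SD.h
  rw [map_mul, h.conj_w S hkl hu, h.conj_w S hkl (neg_ne_zero.mpr one_ne_zero), mul_neg, mul_one,
    ← S.w_inv hσ (a k * (a l)⁻¹)]
  group

/-- `w_lk(s) = w_kl(-s⁻¹)`. -/
theorem w_swap (hn : 3 ≤ n) {k l : Fin n} (hkl : k ≠ l) {s : K} (hs : s ≠ 0) :
    S.w l k s = S.w k l (-s⁻¹) := by
  have hu : -s⁻¹ ≠ 0 := neg_ne_zero.mpr (inv_ne_zero hs)
  have e := (S.mon_w hn hkl hu).conj_w S hkl hu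
  rw [MulAut.conj_apply, mul_inv_cancel_right, Equiv.swap_apply_left, Equiv.swap_apply_right] at e
  rw [e]
  congr 1
  unfold cA
  rw [if_neg hkl, if_pos rfl, if_pos rfl]
  field_simp

end SD

end Cfsg.Agent.Helper7.Sl
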