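import Mathlib
import Cfsg.Agent.Helper7.SlC

set_option autoImplicit false
set_option linter.unusedSectionVars false
set_option linter.unusedVariables false

/-!
# The subgroup generated by the positive root elements

The homomorphism to the matrices is injective on it.
-/

namespace Cfsg.Agent.Helper7.Sl

open Matrix

theorem transvection_mul_apply {n : ℕ} {K : Type*} [Field K] (i j : Fin n) (t : K)
    (M : Matrix (Fin n) (Fin n) K) (a b : Fin n) :
    (Matrix.transvection i j t * M) a b = M a b + if a = i then t * M j b else 0 := by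
  unfold Matrix.transvection
  rw [add_mul, one_mul, Matrix.add_apply]
  congr 1
  by_cases h : a = i
  · subst h
    rw [if_pos rfl, Matrix.single_mul_apply_same]
  · rw [if_neg h, Matrix.single_mul_apply_of_ne _ _ _ _ _ h]

theorem mul_transvection_apply {n : ℕ} {K : Type*} [Field K] (i j : Fin n) (t : K)
    (M : Matrix (Fin n) (Fin n) K) (a b : Fin n) :
    (M * Matrix.transvection i j t) a b = M a b + if b = j then M a i * t else 0 := by
  unfold Matrix.transvection
  rw [mul_add, mul_one, Matrix.add_apply]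
  congr 1
  by_cases h : b = j
  · subst h
    rw [if_pos rfl, Matrix.mul_single_apply_same]
  · rw [if_neg h, Matrix.mul_single_apply_of_ne _ _ _ _ _ h]

variable {n : ℕ} {K : Type*} [Field K] {Γ : Type*} [Group Γ] (S : SD n K Γ)

namespace SD

/-- the subgroup generated by the positive root elements. -/
def Ut : Subgroup Γ := S.XR (fun i j => i < j)

/-- the subgroup generated by the positive root elements in the columns before the `m`-th. -/
def Hc (m : ℕ) : Subgroup Γ := S.XR (fun i j => i < j ∧ j.val < m)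

/-- the subgroup generated by the positive root elements in the `j`-th column and the rows before the `r`-th. -/
def Nc (j : Fin n) (r : ℕ) : Subgroup Γ := S.XR (fun i j' => j' = j ∧ i < j ∧ i.val < r)

theorem Ut_eq_Hc : S.Ut = S.Hc n := by
  apply le_antisymm
  · exact S.XR_mono (fun i j h => ⟨h, j.isLt⟩)
  · exact S.XR_mono (fun i j h => h.1)

theorem Nc_le_Ut (j : Fin n) (r : ℕ) : S.Nc j r ≤ S.Ut :=
  S.XR_mono (fun i j' h => by rw [h.1]; exact h.2.1)

theorem Hc_le_Ut (m : ℕ) : S.Hc m ≤ S.Ut := S.XR_mono (fun i j h => h.1)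

theorem Nc_step {j : Fin n} {r : ℕ} (hr : r < j.val) (hrn : r < n) {g : Γ} (hg : g ∈ S.Nc j (r + 1)) :
    ∃ (t : K) (b : Γ), b ∈ S.Nc j r ∧ g = S.x ⟨r, hrn⟩ j t * b := by
  have hi₀ : (⟨r, hrn⟩ : Fin n) ≠ j := by
    intro h
    have := congrArg Fin.val h
    simp only at this
    omega
  refine S.XR_induction_left (P := fun g => ∃ (t : K) (b : Γ), b ∈ S.Nc j r ∧
    g = S.x ⟨r, hrn⟩ j t * b) ?_ ?_ hg
  · exact ⟨0, 1, one_mem _, by rw [S.x_zero hi₀, one_mul]⟩
  · rintro i j' s g hij ⟨rfl, hlt, hir⟩ hg ⟨t, b, hb, rfl⟩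
    by_cases h : i.val = r
    · have : i = ⟨r, hrn⟩ := Fin.ext h
      subst this
      exact ⟨s + t, b, hb, by rw [← mul_assoc, S.add _ _ hij]⟩
    · have hir' : i.val < r := by omega
      have hne : i ≠ ⟨r, hrn⟩ := fun e => h (congrArg Fin.val e)
      refine ⟨t, S.x i j' s * b, ?_, ?_⟩
      · exact mul_mem (S.x_mem_XR hij ⟨rfl, hlt, hir'⟩ s) hb
      · rw [← mul_assoc, S.comm i j' ⟨r, hrn⟩ j' hij hi₀ hij hi₀.symm, mul_assoc]

section phi

variable (φ : Γ →* Matrix (Fin n) (Fin n) K)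
  (hφ : ∀ i j, i ≠ j → ∀ t, φ (S.x i j t) = Matrix.transvection i j t)

include hφ in
theorem Nc_shape {j : Fin n} {r : ℕ} {b : Γ} (hb : b ∈ S.Nc j r) :
    φ b j j = 1 ∧ (∀ k : Fin n, r ≤ k.val → k ≠ j → φ b k j = 0) ∧
      ∀ a c : Fin n, c ≠ j → φ b a c = (1 : Matrix (Fin n) (Fin n) K) a c := by
  refine S.XR_induction_left (P := fun b => φ b j j = 1 ∧ (∀ k : Fin n, r ≤ k.val → k ≠ j → φ b k j = 0) ∧
      ∀ a c : Fin n, c ≠ j → φ b a c = (1 : Matrix (Fin n) (Fin n) K) a c) ?_ ?_ hb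
  · rw [map_one]
    refine ⟨Matrix.one_apply_eq j, fun k _ hk => Matrix.one_apply_ne hk, fun _ _ _ => rfl⟩
  · rintro i j' s g hij ⟨rfl, hlt, hir⟩ hg ⟨h1, h2, h3⟩
    rw [map_mul, hφ i j' hij]
    refine ⟨?_, ?_, ?_⟩
    · rw [transvection_mul_apply, if_neg hij.symm, add_zero, h1]
    · intro k hk hkj
      have hki : k ≠ i := by
        intro e
        rw [e] at hk
        omega
      rw [transvection_mul_apply, if_neg hki, add_zero, h2 k hk hkj]
    · intro a c hc
      rw [transvection_mul_apply, h3 a c hc, h3 j' c hc, Matrix.one_apply_ne hc.symm, mul_zero, ite_self,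
        add_zero]

include hφ in
theorem Nc_inj {j : Fin n} : ∀ (r : ℕ), r ≤ j.val → ∀ y ∈ S.Nc j r, φ y = 1 → y = 1 := by
  intro r
  induction r with
  | zero =>
    intro _ y hy _
    refine S.XR_induction_left (P := fun y => y = 1) rfl ?_ hy
    rintro i j' s g hij ⟨_, _, hir⟩ _ _
    omega
  | succ r ih =>
    intro hr y hy hφy
    have hrn : r < n := by omega
    obtain ⟨t, b, hb, rfl⟩ := S.Nc_step (by omega) hrn hy
    have hi₀ : (⟨r, hrn⟩ : Fin n) ≠ j := by
      intro h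
      have := congrArg Fin.val h
      simp only at this
      omega
    obtain ⟨h1, h2, h3⟩ := S.Nc_shape φ hφ hb
    have e := congrFun (congrFun hφy ⟨r, hrn⟩) j
    rw [map_mul, hφ _ _ hi₀, transvection_mul_apply, if_pos rfl, h1, h2 _ (le_refl _) hi₀, zero_add, mul_one,
      Matrix.one_apply_ne hi₀] at e
    rw [e, S.x_zero hi₀, one_mul] at hφy ⊢
    exact ih (by omega) b hb hφy

theorem Nc_conj {j k l : Fin n} (hkl : k < l) (hlj : l < j) (t : K) {y : Γ} (hy : y ∈ S.Nc j j.val) :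
    MulAut.conj (S.x k l t) y ∈ S.Nc j j.val := by
  have hkl' : k ≠ l := ne_of_lt hkl
  refine S.XR_induction_left (P := fun y => MulAut.conj (S.x k l t) y ∈ S.Nc j j.val) ?_ ?_ hy
  · rw [map_one]
    exact one_mem _
  · rintro i j' s g hij ⟨rfl, hlt, hir⟩ hg ih
    rw [map_mul]
    refine mul_mem ?_ ih
    by_cases hli : l = i
    · subst hli
      rw [S.cj_one hkl' hij (ne_of_lt (hkl.trans hlt))]
      refine mul_mem (S.x_mem_XR (ne_of_lt (hkl.trans hlt)) ⟨rfl, hkl.trans hlt, ?_⟩ _)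
        (S.x_mem_XR hij ⟨rfl, hlt, hir⟩ _)
      exact Fin.lt_def.mp (hkl.trans hlt)
    · rw [S.cj_comm hkl' hij (ne_of_lt (hkl.trans hlj)) hli]
      exact S.x_mem_XR hij ⟨rfl, hlt, hir⟩ _

theorem Hc_step {m : ℕ} (hm : m < n) {g : Γ} (hg : g ∈ S.Hc (m + 1)) :
    ∃ (y h : Γ), y ∈ S.Nc ⟨m, hm⟩ m ∧ h ∈ S.Hc m ∧ g = y * h := by
  refine S.XR_induction_left (P := fun g => ∃ (y h : Γ), y ∈ S.Nc ⟨m, hm⟩ m ∧ h ∈ S.Hc m ∧ g = y * h)
    ?_ ?_ hg
  · exact ⟨1, 1, one_mem _, one_mem _, (mul_one 1).symm⟩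
  · rintro k l t g hkl ⟨hlt, hl⟩ hg ⟨y, h, hy, hh, rfl⟩
    by_cases hlm : l.val = m
    · have : l = ⟨m, hm⟩ := Fin.ext hlm
      subst this
      refine ⟨S.x k ⟨m, hm⟩ t * y, h, mul_mem (S.x_mem_XR hkl ⟨rfl, hlt, ?_⟩ t) hy, hh, by rw [mul_assoc]⟩
      exact Fin.lt_def.mp hlt
    · have hlm' : l.val < m := by omega
      refine ⟨MulAut.conj (S.x k l t) y, S.x k l t * h, ?_, mul_mem (S.x_mem_XR hkl ⟨hlt, hlm'⟩ t) hh, ?_⟩
      · exact S.Nc_conj hlt (Fin.lt_def.mpr hlm') t hy
      · rw [MulAut.conj_apply]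
        group

include hφ in
theorem Hc_shape {m : ℕ} {h : Γ} (hh : h ∈ S.Hc m) :
    ∀ a c : Fin n, m ≤ c.val → φ h a c = (1 : Matrix (Fin n) (Fin n) K) a c := by
  refine S.XR_induction_right (P := fun h => ∀ a c : Fin n, m ≤ c.val →
    φ h a c = (1 : Matrix (Fin n) (Fin n) K) a c) ?_ ?_ hh
  · intro a c _
    rw [map_one]
  · rintro k l t g hkl ⟨hlt, hl⟩ hg ih a c hc
    have hcl : c ≠ l := by
      intro e
      rw [e] at hc
      omega
    rw [map_mul, hφ k l hkl, mul_transvection_apply, if_neg hcl, add_zero, ih a c hc]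

include hφ in
theorem Hc_inj : ∀ (m : ℕ), m ≤ n → ∀ g ∈ S.Hc m, φ g = 1 → g = 1 := by
  intro m
  induction m with
  | zero =>
    intro _ g hg _
    refine S.XR_induction_left (P := fun y => y = 1) rfl ?_ hg
    rintro i j s g hij ⟨_, hj⟩ _ _
    omega
  | succ m ih =>
    intro hm g hg hφg
    have hm' : m < n := by omega
    obtain ⟨y, h, hy, hh, rfl⟩ := S.Hc_step hm' hg
    obtain ⟨h1, h2, h3⟩ := S.Nc_shape φ hφ hy
    have h4 := S.Hc_shape φ hφ hh
    rw [map_mul] at hφg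
    have hcol : ∀ a, φ y a ⟨m, hm'⟩ = (1 : Matrix (Fin n) (Fin n) K) a ⟨m, hm'⟩ := by
      intro a
      have e := congrFun (congrFun hφg a) ⟨m, hm'⟩
      rw [Matrix.mul_apply] at e
      have e2 : ∑ b, φ y a b * φ h b ⟨m, hm'⟩ =
          ∑ b, φ y a b * (1 : Matrix (Fin n) (Fin n) K) b ⟨m, hm'⟩ := by
        apply Finset.sum_congr rfl
        intro b _
        rw [h4 b ⟨m, hm'⟩ (le_refl _)]
      rw [e2, ← Matrix.mul_apply, Matrix.mul_one] at e
      exact e
    have hy1 : φ y = 1 := by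
      ext a c
      by_cases hc : c = ⟨m, hm'⟩
      · rw [hc]
        exact hcol a
      · exact h3 a c hc
    have hy2 := S.Nc_inj φ hφ m (le_refl _) y hy hy1
    subst hy2
    rw [map_one, one_mul] at hφg
    rw [one_mul]
    exact ih (by omega) h hh hφg

include hφ in
/-- **the homomorphism to the matrices is injective on the positive part.** -/
theorem Ut_inj {g : Γ} (hg : g ∈ S.Ut) (h : φ g = 1) : g = 1 := by
  rw [S.Ut_eq_Hc] at hg
  exact S.Hc_inj φ hφ n (le_refl _) g hg h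

include hφ in
/-- the matrices of the positive part are upper unitriangular. -/
theorem Ut_shape {g : Γ} (hg : g ∈ S.Ut) :
    (∀ a : Fin n, φ g a a = 1) ∧ ∀ a c : Fin n, c < a → φ g a c = 0 := by
  refine S.XR_induction_left (P := fun g => (∀ a : Fin n, φ g a a = 1) ∧
    ∀ a c : Fin n, c < a → φ g a c = 0) ?_ ?_ hg
  · rw [map_one]
    exact ⟨fun a => Matrix.one_apply_eq a, fun a c hca => Matrix.one_apply_ne (ne_of_gt hca)⟩
  · rintro i j t g hij hlt hg ⟨h1, h2⟩
    rw [map_mul, hφ i j hij]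
    refine ⟨fun a => ?_, fun a c hca => ?_⟩
    · rw [transvection_mul_apply, h1]
      by_cases hai : a = i
      · rw [if_pos hai, h2 j a (by rw [hai]; exact hlt), mul_zero, add_zero]
      · rw [if_neg hai, add_zero]
    · rw [transvection_mul_apply, h2 a c hca]
      by_cases hai : a = i
      · rw [if_pos hai, h2 j c (by rw [hai] at hca; exact hca.trans hlt), mul_zero, add_zero]
      · rw [if_neg hai, add_zero]

end phi

end SD

end Cfsg.Agent.Helper7.Sl
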