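import Mathlib
import Cfsg.Agent.Helper7.SlD

set_option autoImplicit false
set_option linter.unusedSectionVars false
set_option linter.unusedVariables false

/-!
# The Bruhat decomposition of a group with the Steinberg relations
-/

namespace Cfsg.Agent.Helper7.Sl

theorem swap_lt_swap {n : ℕ} {p q k l : Fin n} (hpq : q.val = p.val + 1) (hkl : k < l)
    (hne : ¬ (k = p ∧ l = q)) : Equiv.swap p q k < Equiv.swap p q l := by
  rw [Equiv.swap_apply_def, Equiv.swap_apply_def]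
  split_ifs <;> simp only [Fin.lt_def, Fin.ext_iff] at * <;> omega

variable {n : ℕ} {K : Type*} [Field K] {Γ : Type*} [Group Γ] (S : SD n K Γ)

namespace SD

theorem Mon.mul_x {g : Γ} {σ : Equiv.Perm (Fin n)} {a : Fin n → K} (h : S.Mon g σ a) {i j : Fin n}
    (hij : i ≠ j) (c : K) : g * S.x i j c = S.x (σ i) (σ j) (a i * (a j)⁻¹ * c) * g := by
  rw [← h.2 i j hij c, MulAut.conj_apply, inv_mul_cancel_right]

theorem Mon.x_mul {g : Γ} {σ : Equiv.Perm (Fin n)} {a : Fin n → K} (h : S.Mon g σ a) {i j : Fin n}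
    (hij : i ≠ j) (c : K) : ∃ c' : K, S.x i j c * g = g * S.x (σ⁻¹ i) (σ⁻¹ j) c' := by
  have e := (h.inv S).2 i j hij c
  refine ⟨(fun i => (a (σ⁻¹ i))⁻¹) i * ((fun i => (a (σ⁻¹ i))⁻¹) j)⁻¹ * c, ?_⟩
  rw [← e, MulAut.conj_apply, inv_inv, mul_assoc, mul_inv_cancel_left]

/-- `x_qp(s) = x_pq(s⁻¹) w_pq(-s⁻¹) x_pq(s⁻¹)`. -/
theorem x_neg_eq {p q : Fin n} (hpq : p ≠ q) {s : K} (hs : s ≠ 0) :
    S.x q p s = S.x p q s⁻¹ * S.w p q (-s⁻¹) * S.x p q s⁻¹ := by
  unfold w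
  have e1 : -(-s⁻¹)⁻¹ = s := by rw [inv_neg, inv_inv, neg_neg]
  rw [e1]
  have e2 : S.x p q s⁻¹ * S.x p q (-s⁻¹) = 1 := by
    rw [S.add p q hpq, add_neg_cancel, S.x_zero hpq]
  have e3 : S.x p q (-s⁻¹) * S.x p q s⁻¹ = 1 := by
    rw [S.add p q hpq, neg_add_cancel, S.x_zero hpq]
  calc S.x q p s = (S.x p q s⁻¹ * S.x p q (-s⁻¹)) * S.x q p s * (S.x p q (-s⁻¹) * S.x p q s⁻¹) := by
        rw [e2, e3, one_mul, mul_one]
    _ = _ := by simp only [mul_assoc]

/-- the positive root elements other than those of the root `(p, q)`. -/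
def Up (p q : Fin n) : Subgroup Γ := S.XR (fun i j => i < j ∧ ¬ (i = p ∧ j = q))

theorem Up_le_Ut (p q : Fin n) : S.Up p q ≤ S.Ut := S.XR_mono (fun i j h => h.1)

theorem Ut_split {p q : Fin n} (hpq : q.val = p.val + 1) {g : Γ} (hg : g ∈ S.Ut) :
    ∃ (u₁ : Γ) (t : K), u₁ ∈ S.Up p q ∧ g = u₁ * S.x p q t := by
  have hlt : p < q := Fin.lt_def.mpr (by omega)
  have hne : p ≠ q := ne_of_lt hlt
  refine S.XR_induction_right (P := fun g => ∃ (u₁ : Γ) (t : K), u₁ ∈ S.Up p q ∧ g = u₁ * S.x p q t)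
    ?_ ?_ hg
  · exact ⟨1, 0, one_mem _, by rw [S.x_zero hne, mul_one]⟩
  · rintro k l s g hkl hklt hg ⟨u₁, t, hu₁, rfl⟩
    by_cases hsame : k = p ∧ l = q
    · obtain ⟨rfl, rfl⟩ := hsame
      exact ⟨u₁, t + s, hu₁, by rw [mul_assoc, S.add _ _ hkl]⟩
    · have key : ∃ y ∈ S.Up p q, S.x p q t * S.x k l s = y * S.x p q t := by
        refine ⟨MulAut.conj (S.x p q t) (S.x k l s), ?_, by rw [MulAut.conj_apply, inv_mul_cancel_right]⟩
        by_cases hlp : l = p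
        · subst hlp
          have hkq : k ≠ q := ne_of_lt (hklt.trans hlt)
          rw [S.cj_two hkl hne hkq]
          refine mul_mem (S.x_mem_XR hkq ⟨hklt.trans hlt, fun h => hkl h.1⟩ _)
            (S.x_mem_XR hkl ⟨hklt, fun h => hkl h.1⟩ _)
        · by_cases hkq : k = q
          · subst hkq
            have hpl : p ≠ l := ne_of_lt (hlt.trans hklt)
            rw [S.cj_one hne hkl hpl]
            refine mul_mem (S.x_mem_XR hpl ⟨hlt.trans hklt, fun h => hkl h.2.symm⟩ _)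
              (S.x_mem_XR hkl ⟨hklt, fun h => hne h.1.symm⟩ _)
          · rw [S.cj_comm hne hkl (fun e => hlp e.symm) (fun e => hkq e.symm)]
            exact S.x_mem_XR hkl ⟨hklt, hsame⟩ _
      obtain ⟨y, hy, e⟩ := key
      exact ⟨u₁ * y, t, mul_mem hu₁ hy, by rw [mul_assoc, e, mul_assoc]⟩

theorem Up_conj (hn : 3 ≤ n) {p q : Fin n} (hpq : q.val = p.val + 1) {v : K} (hv : v ≠ 0) {u₁ : Γ}
    (hu₁ : u₁ ∈ S.Up p q) : MulAut.conj (S.w p q v) u₁ ∈ S.Ut := by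
  have hlt : p < q := Fin.lt_def.mpr (by omega)
  have hne : p ≠ q := ne_of_lt hlt
  refine S.XR_induction_left (P := fun u₁ => MulAut.conj (S.w p q v) u₁ ∈ S.Ut) ?_ ?_ hu₁
  · rw [map_one]
    exact one_mem _
  · rintro k l s g hkl ⟨hklt, hsame⟩ hg ih
    rw [map_mul, S.w_conj hn hne hv hkl]
    refine mul_mem (S.x_mem_XR ?_ (swap_lt_swap hpq hklt hsame) _) ih
    exact fun e => hkl ((Equiv.swap p q).injective e)

/-- the set of the products `u w u'`. -/
def Br : Set Γ := {g | ∃ u ∈ S.Ut, ∃ w ∈ S.Wt, ∃ u' ∈ S.Ut, g = u * w * u'}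

theorem one_mem_Br : (1 : Γ) ∈ S.Br :=
  ⟨1, one_mem _, 1, one_mem _, 1, one_mem _, by rw [mul_one, mul_one]⟩

theorem Br_ut_mul {a g : Γ} (ha : a ∈ S.Ut) (hg : g ∈ S.Br) : a * g ∈ S.Br := by
  obtain ⟨u, hu, w, hw, u', hu', rfl⟩ := hg
  exact ⟨a * u, mul_mem ha hu, w, hw, u', hu', by simp only [mul_assoc]⟩

theorem Br_w_mul (hn : 3 ≤ n) {p q : Fin n} (hpq : q.val = p.val + 1) {v : K} (hv : v ≠ 0) {g : Γ}
    (hg : g ∈ S.Br) : S.w p q v * g ∈ S.Br := by
  have hlt : p < q := Fin.lt_def.mpr (by omega)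
  have hne : p ≠ q := ne_of_lt hlt
  obtain ⟨u, hu, wn, hwn, u', hu', rfl⟩ := hg
  obtain ⟨u₁, t, hu₁, rfl⟩ := S.Ut_split hpq hu
  obtain ⟨σ, a, hM⟩ := S.exists_mon_of_mem_Wt hn hwn
  have hw : S.w p q v ∈ S.Wt := S.w_mem_Wt hne hv
  have hu₂ := S.Up_conj hn hpq hv hu₁
  have e0 : S.w p q v * u₁ = MulAut.conj (S.w p q v) u₁ * S.w p q v := by
    rw [MulAut.conj_apply, inv_mul_cancel_right]
  have hσne : σ⁻¹ p ≠ σ⁻¹ q := fun e => hne (σ⁻¹.injective e)
  rcases lt_or_gt_of_ne hσne with hcase | hcase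
  · -- the root stays positive
    obtain ⟨c', e1⟩ := hM.x_mul S hne t
    refine ⟨MulAut.conj (S.w p q v) u₁, hu₂, S.w p q v * wn, mul_mem hw hwn,
      S.x (σ⁻¹ p) (σ⁻¹ q) c' * u', mul_mem (S.x_mem_XR hσne hcase _) hu', ?_⟩
    calc S.w p q v * (u₁ * S.x p q t * wn * u')
        = (S.w p q v * u₁) * (S.x p q t * wn) * u' := by simp only [mul_assoc]
      _ = _ := by rw [e0, e1]; simp only [mul_assoc]
  · by_cases ht : t = 0
    · subst ht
      refine ⟨MulAut.conj (S.w p q v) u₁, hu₂, S.w p q v * wn, mul_mem hw hwn, u', hu', ?_⟩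
      rw [S.x_zero hne, mul_one]
      calc S.w p q v * (u₁ * wn * u') = (S.w p q v * u₁) * wn * u' := by simp only [mul_assoc]
        _ = _ := by rw [e0]; simp only [mul_assoc]
    · obtain ⟨m, hmp, hmq⟩ := exists_third hn p q
      have e1 : S.w p q v * S.x p q t = S.x q p (-v⁻¹ * t * v⁻¹) * S.w p q v := by
        rw [← S.w_conj_c6 hne hmp hmq hv, MulAut.conj_apply, inv_mul_cancel_right]
      have hs : -v⁻¹ * t * v⁻¹ ≠ 0 :=
        mul_ne_zero (mul_ne_zero (neg_ne_zero.mpr (inv_ne_zero hv)) ht) (inv_ne_zero hv)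
      obtain ⟨s, hsdef⟩ : ∃ s : K, s = -v⁻¹ * t * v⁻¹ := ⟨_, rfl⟩
      rw [← hsdef] at e1 hs
      have e2 := S.x_neg_eq hne hs
      have hM₁ : S.Mon (S.w p q v * wn) (Equiv.swap p q * σ) _ := (S.mon_w hn hne hv).mul S hM
      obtain ⟨c', e3⟩ := hM₁.x_mul S hne s⁻¹
      have e4 : (Equiv.swap p q * σ)⁻¹ p = σ⁻¹ q := by
        rw [mul_inv_rev, Equiv.Perm.mul_apply, Equiv.swap_inv, Equiv.swap_apply_left]
      have e5 : (Equiv.swap p q * σ)⁻¹ q = σ⁻¹ p := by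
        rw [mul_inv_rev, Equiv.Perm.mul_apply, Equiv.swap_inv, Equiv.swap_apply_right]
      rw [e4, e5] at e3
      refine ⟨MulAut.conj (S.w p q v) u₁ * S.x p q s⁻¹, mul_mem hu₂ (S.x_mem_XR hne hlt _),
        S.w p q (-s⁻¹) * (S.w p q v * wn),
        mul_mem (S.w_mem_Wt hne (neg_ne_zero.mpr (inv_ne_zero hs))) (mul_mem hw hwn),
        S.x (σ⁻¹ q) (σ⁻¹ p) c' * u', mul_mem (S.x_mem_XR hσne.symm hcase _) hu', ?_⟩
      calc S.w p q v * (u₁ * S.x p q t * wn * u')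
          = (S.w p q v * u₁) * (S.w p q v)⁻¹ * (S.w p q v * S.x p q t) * wn * u' := by group
        _ = MulAut.conj (S.w p q v) u₁ * S.x p q s⁻¹ * S.w p q (-s⁻¹) *
              (S.x p q s⁻¹ * (S.w p q v * wn)) * u' := by
            rw [e0, e1, e2]; group
        _ = _ := by rw [e3]; simp only [mul_assoc]

/-- the elements whose left multiplication preserves the set of the products `u w u'`. -/
def BrStab : Subgroup Γ where
  carrier := {a | (∀ g ∈ S.Br, a * g ∈ S.Br) ∧ ∀ g ∈ S.Br, a⁻¹ * g ∈ S.Br}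
  one_mem' := by
    refine ⟨fun g hg => ?_, fun g hg => ?_⟩
    · rw [one_mul]; exact hg
    · rw [inv_one, one_mul]; exact hg
  mul_mem' := by
    rintro a b ⟨ha1, ha2⟩ ⟨hb1, hb2⟩
    refine ⟨fun g hg => ?_, fun g hg => ?_⟩
    · rw [mul_assoc]; exact ha1 _ (hb1 _ hg)
    · rw [mul_inv_rev, mul_assoc]; exact hb2 _ (ha2 _ hg)
  inv_mem' := by
    rintro a ⟨ha1, ha2⟩
    refine ⟨ha2, fun g hg => ?_⟩
    rw [inv_inv]; exact ha1 g hg

theorem Ut_le_BrStab : S.Ut ≤ S.BrStab := by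
  intro a ha
  exact ⟨fun g hg => S.Br_ut_mul ha hg, fun g hg => S.Br_ut_mul (inv_mem ha) hg⟩

theorem w_mem_BrStab (hn : 3 ≤ n) {p q : Fin n} (hpq : q.val = p.val + 1) {v : K} (hv : v ≠ 0) :
    S.w p q v ∈ S.BrStab := by
  have hlt : p < q := Fin.lt_def.mpr (by omega)
  refine ⟨fun g hg => S.Br_w_mul hn hpq hv hg, fun g hg => ?_⟩
  rw [S.w_inv (ne_of_lt hlt)]
  exact S.Br_w_mul hn hpq (neg_ne_zero.mpr hv) hg

theorem x_lower_mem_BrStab (hn : 3 ≤ n) :
    ∀ (d : ℕ) (i j : Fin n), i.val = j.val + d + 1 → ∀ t : K, S.x i j t ∈ S.BrStab := by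
  intro d
  induction d with
  | zero =>
    intro i j hij t
    have hlt : j < i := Fin.lt_def.mpr (by omega)
    have hne : j ≠ i := ne_of_lt hlt
    obtain ⟨m, hmj, hmi⟩ := exists_third hn j i
    have e := S.w_conj_c6 hne hmj hmi (one_ne_zero (α := K)) (-t)
    have e2 : -(1 : K)⁻¹ * -t * 1⁻¹ = t := by rw [inv_one]; ring
    rw [e2] at e
    rw [← e, MulAut.conj_apply]
    have hw := S.w_mem_BrStab hn (p := j) (q := i) (by omega) (one_ne_zero (α := K))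
    exact mul_mem (mul_mem hw (S.Ut_le_BrStab (S.x_mem_XR hne hlt _))) (inv_mem hw)
  | succ d ih =>
    intro i j hij t
    have hi : i.val - 1 < n := by omega
    have hne : (⟨i.val - 1, hi⟩ : Fin n) ≠ i := by
      intro e
      have := congrArg Fin.val e
      simp only at this
      omega
    have hji' : j ≠ ⟨i.val - 1, hi⟩ := by
      intro e
      have := congrArg Fin.val e
      simp only at this
      omega
    have hji : j ≠ i := by
      intro e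
      rw [e] at hij
      omega
    have e := S.w_conj_c1 hne hji' hji (one_ne_zero (α := K)) (-t)
    have e2 : -(1 : K)⁻¹ * -t = t := by rw [inv_one]; ring
    rw [e2] at e
    rw [← e, MulAut.conj_apply]
    have hw := S.w_mem_BrStab hn (p := ⟨i.val - 1, hi⟩) (q := i) (by simp only; omega)
      (one_ne_zero (α := K))
    exact mul_mem (mul_mem hw (ih ⟨i.val - 1, hi⟩ j (by simp only; omega) (-t))) (inv_mem hw)

/-- **the Bruhat decomposition.** -/
theorem bruhat (hn : 3 ≤ n)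
    (hgen : Subgroup.closure {g | ∃ (i j : Fin n) (t : K), i ≠ j ∧ g = S.x i j t} = ⊤) (g : Γ) :
    g ∈ S.Br := by
  have h1 : S.BrStab = ⊤ := by
    rw [eq_top_iff, ← hgen, Subgroup.closure_le]
    rintro _ ⟨i, j, t, hij, rfl⟩
    rcases lt_or_gt_of_ne hij with h | h
    · exact S.Ut_le_BrStab (S.x_mem_XR hij h t)
    · have h' := Fin.lt_def.mp h
      exact S.x_lower_mem_BrStab hn (i.val - j.val - 1) i j (by omega) t
  have h2 : g ∈ S.BrStab := by rw [h1]; exact Subgroup.mem_top g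
  have := h2.1 1 S.one_mem_Br
  rwa [mul_one] at this

end SD

end Cfsg.Agent.Helper7.Sl
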