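import Mathlib
import Cfsg.Agent.Helper7.SlE

set_option autoImplicit false
set_option linter.unusedSectionVars false
set_option linter.unusedVariables false

/-!
# Rank one relations in a group with the Steinberg relations of type `A`
-/

namespace Cfsg.Agent.Helper7.Sl

variable {n : ℕ} {K : Type*} [Field K] {Γ : Type*} [Group Γ] (S : SD n K Γ)

namespace SD

section rank1

variable (hn : 3 ≤ n) {p q : Fin n} (hpq : p ≠ q)

include hn hpq in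
/-- `w(t) x(u) w(t)⁻¹ = y(-t⁻² u)`. -/
theorem nb_conj_x {t : K} (ht : t ≠ 0) (u : K) :
    S.w p q t * S.x p q u * (S.w p q t)⁻¹ = S.x q p (-(t ^ 2)⁻¹ * u) := by
  obtain ⟨m, hmp, hmq⟩ := exists_third hn p q
  have e := S.w_conj_c6 hpq hmp hmq ht u
  rw [MulAut.conj_apply] at e
  rw [e]
  congr 1
  field_simp

include hn hpq in
/-- `w(t) y(u) w(t)⁻¹ = x(-t² u)`. -/
theorem nb_conj_y {t : K} (ht : t ≠ 0) (u : K) :
    S.w p q t * S.x q p u * (S.w p q t)⁻¹ = S.x p q (-(t ^ 2) * u) := by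
  obtain ⟨m, hmp, hmq⟩ := exists_third hn p q
  have e := S.w_conj_c7 hpq hmp hmq ht u
  rw [MulAut.conj_apply] at e
  rw [e]
  congr 1
  ring

include hn hpq in
/-- `w(t) w(u) w(t)⁻¹ = w(t² u⁻¹)`. -/
theorem nb_conj_nb {t u : K} (ht : t ≠ 0) (hu : u ≠ 0) :
    S.w p q t * S.w p q u * (S.w p q t)⁻¹ = S.w p q (t ^ 2 * u⁻¹) := by
  have e := (S.mon_w hn hpq ht).conj_w S hpq hu
  rw [MulAut.conj_apply, Equiv.swap_apply_left, Equiv.swap_apply_right] at e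
  rw [e]
  have hc : cA p q t p * (cA p q t q)⁻¹ * u = -(t ^ 2)⁻¹ * u := by
    unfold cA
    rw [if_neg hpq, if_pos rfl, if_pos rfl]
    field_simp
  rw [hc]
  have hne : -(t ^ 2)⁻¹ * u ≠ 0 :=
    mul_ne_zero (neg_ne_zero.mpr (inv_ne_zero (pow_ne_zero 2 ht))) hu
  rw [S.w_swap hn hpq hne]
  congr 1
  field_simp

include hn hpq in
/-- `x(c) = y(c⁻¹) w(c) y(c⁻¹)`. -/
theorem xb_pos_eq {c : K} (hc : c ≠ 0) :
    S.x p q c = S.x q p c⁻¹ * S.w p q c * S.x q p c⁻¹ := by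
  have e := S.x_neg_eq hpq.symm hc
  have hs : -c⁻¹ ≠ 0 := neg_ne_zero.mpr (inv_ne_zero hc)
  rw [S.w_swap hn hpq hs, inv_neg, inv_inv, neg_neg] at e
  exact e

include hpq in
/-- `y(c) = x(c⁻¹) w(-c⁻¹) x(c⁻¹)`. -/
theorem xb_neg_eq {c : K} (hc : c ≠ 0) :
    S.x q p c = S.x p q c⁻¹ * S.w p q (-c⁻¹) * S.x p q c⁻¹ := S.x_neg_eq hpq hc

include hn hpq in
/-- `h(t) x(u) h(t)⁻¹ = x(t² u)`. -/
theorem hb_conj_x {t : K} (ht : t ≠ 0) (u : K) :
    S.h p q t * S.x p q u * (S.h p q t)⁻¹ = S.x p q (t ^ 2 * u) := by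
  have hm1 : (-1 : K) ≠ 0 := neg_ne_zero.mpr one_ne_zero
  have e1 := S.nb_conj_x hn hpq hm1 u
  have e2 := S.nb_conj_y hn hpq ht (-((-1 : K) ^ 2)⁻¹ * u)
  unfold h
  have e3 : S.w p q t * S.w p q (-1) * S.x p q u * (S.w p q t * S.w p q (-1))⁻¹ =
      S.w p q t * (S.w p q (-1) * S.x p q u * (S.w p q (-1))⁻¹) * (S.w p q t)⁻¹ := by group
  rw [e3, e1, e2]
  congr 1
  ring

include hn hpq in
/-- `h(t) y(u) h(t)⁻¹ = y(t⁻² u)`. -/
theorem hb_conj_y {t : K} (ht : t ≠ 0) (u : K) :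
    S.h p q t * S.x q p u * (S.h p q t)⁻¹ = S.x q p ((t ^ 2)⁻¹ * u) := by
  have hm1 : (-1 : K) ≠ 0 := neg_ne_zero.mpr one_ne_zero
  have e1 := S.nb_conj_y hn hpq hm1 u
  have e2 := S.nb_conj_x hn hpq ht (-((-1 : K) ^ 2) * u)
  unfold h
  have e3 : S.w p q t * S.w p q (-1) * S.x q p u * (S.w p q t * S.w p q (-1))⁻¹ =
      S.w p q t * (S.w p q (-1) * S.x q p u * (S.w p q (-1))⁻¹) * (S.w p q t)⁻¹ := by
    group
  rw [e3, e1, e2]
  congr 1
  ring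

include hn hpq in
/-- `h(t) w(u) h(t)⁻¹ = w(t² u)`. -/
theorem hb_conj_nb {t : K} (ht : t ≠ 0) (u : K) :
    S.h p q t * S.w p q u * (S.h p q t)⁻¹ = S.w p q (t ^ 2 * u) := by
  have e1 := S.hb_conj_x hn hpq ht u
  have e2 := S.hb_conj_y hn hpq ht (-u⁻¹)
  have e3 : S.h p q t * S.w p q u * (S.h p q t)⁻¹ =
      (S.h p q t * S.x p q u * (S.h p q t)⁻¹) *
        (S.h p q t * S.x q p (-u⁻¹) * (S.h p q t)⁻¹) *
        (S.h p q t * S.x p q u * (S.h p q t)⁻¹) := by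
    unfold w; group
  rw [e3, e1, e2]
  unfold w
  have hpar : (t ^ 2)⁻¹ * -u⁻¹ = -(t ^ 2 * u)⁻¹ := by rw [_root_.mul_inv_rev]; ring
  rw [hpar]

theorem nb_mul_nb_inv (a b : K) : S.w p q a * (S.w p q b)⁻¹ = S.h p q a * (S.h p q b)⁻¹ := by
  unfold h
  group

include hpq in
theorem hb_mul_nb (t : K) : S.h p q t * S.w p q 1 = S.w p q t := (S.w_eq_h_mul hpq t).symm

include hn hpq in
/-- `h(t) h(u) h(t)⁻¹ = h(t² u) h(t²)⁻¹`. -/
theorem hb_conj_hb' {t : K} (ht : t ≠ 0) (u : K) :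
    S.h p q t * S.h p q u * (S.h p q t)⁻¹ = S.h p q (t ^ 2 * u) * (S.h p q (t ^ 2))⁻¹ := by
  have e1 := S.hb_conj_nb hn hpq ht u
  have e2 := S.hb_conj_nb hn hpq ht (-1)
  have e3 : S.h p q t * S.h p q u * (S.h p q t)⁻¹ =
      (S.h p q t * S.w p q u * (S.h p q t)⁻¹) * (S.h p q t * S.w p q (-1) * (S.h p q t)⁻¹) := by
    have : S.h p q u = S.w p q u * S.w p q (-1) := rfl
    rw [this]; group
  rw [e3, e1, e2, mul_neg, mul_one, ← S.w_inv hpq, S.nb_mul_nb_inv]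

include hn hpq in
/-- `w(1) h(s) w(1)⁻¹ = h(s⁻¹)`. -/
theorem nb_one_conj_hb {s : K} (hs : s ≠ 0) :
    S.w p q 1 * S.h p q s * (S.w p q 1)⁻¹ = S.h p q s⁻¹ := by
  have hm1 : (-1 : K) ≠ 0 := neg_ne_zero.mpr one_ne_zero
  have e1 := S.nb_conj_nb hn hpq (one_ne_zero (α := K)) hs
  have e2 := S.nb_conj_nb hn hpq (one_ne_zero (α := K)) hm1
  rw [one_pow, one_mul] at e1 e2
  rw [inv_neg, inv_one] at e2
  have e3 : S.w p q 1 * S.h p q s * (S.w p q 1)⁻¹ =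
      (S.w p q 1 * S.w p q s * (S.w p q 1)⁻¹) * (S.w p q 1 * S.w p q (-1) * (S.w p q 1)⁻¹) := by
    have : S.h p q s = S.w p q s * S.w p q (-1) := rfl
    rw [this]; group
  rw [e3, e1, e2]
  rfl

include hn hpq in
/-- The identity `h(-u) = h(-u/t) h(t)` for `t + u = 1`. -/
theorem hb_of_add_eq_one {t u : K} (ht : t ≠ 0) (hu : u ≠ 0) (htu : t + u = 1) :
    S.h p q (-u) = S.h p q (-u / t) * S.h p q t := by
  have hm1 : (-1 : K) ≠ 0 := neg_ne_zero.mpr one_ne_zero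
  have hti : t⁻¹ ≠ 0 := inv_ne_zero ht
  have hnu : -u ≠ 0 := neg_ne_zero.mpr hu
  have ha : -u / t ≠ 0 := div_ne_zero hnu ht
  -- first expression of `y(1) x(-u)`
  have f1 : S.x q p 1 = S.x p q 1 * S.w p q (-1) * S.x p q 1 := by
    have := S.xb_neg_eq hpq (one_ne_zero (α := K))
    rwa [inv_one] at this
  have f2 : S.x p q 1 * S.x p q (-u) = S.x p q t := by
    rw [S.add _ _ hpq]
    congr 1
    rw [← htu]; ring
  have f3 : S.w p q (-1) * S.x p q t = S.x q p (-t) * S.w p q (-1) := by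
    have := S.nb_conj_x hn hpq hm1 t
    rw [mul_inv_eq_iff_eq_mul] at this
    rw [this]
    congr 2
    ring
  have f4 : S.x q p (-t) = S.x p q (-t⁻¹) * S.w p q t⁻¹ * S.x p q (-t⁻¹) := by
    have := S.xb_neg_eq hpq (neg_ne_zero.mpr ht)
    rwa [inv_neg, neg_neg] at this
  have f5 : S.x p q (-t⁻¹) * S.w p q (-1) = S.w p q (-1) * S.x q p t⁻¹ := by
    have := S.nb_conj_x hn hpq (one_ne_zero (α := K)) (-t⁻¹)
    rw [one_pow, inv_one, neg_mul, one_mul, neg_neg] at this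
    rw [← this, ← S.w_inv hpq]
    group
  have E1 : S.x q p 1 * S.x p q (-u) = S.x p q (-u / t) * S.h p q t⁻¹ * S.x q p t⁻¹ := by
    have hpar : (1 : K) + -t⁻¹ = -u / t := by
      field_simp
      rw [← htu]; ring
    calc S.x q p 1 * S.x p q (-u)
        = S.x p q 1 * S.w p q (-1) * (S.x p q 1 * S.x p q (-u)) := by rw [f1]; group
      _ = S.x p q 1 * (S.w p q (-1) * S.x p q t) := by rw [f2]; group
      _ = S.x p q 1 * S.x q p (-t) * S.w p q (-1) := by rw [f3]; group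
      _ = S.x p q 1 * S.x p q (-t⁻¹) * S.w p q t⁻¹ * (S.x p q (-t⁻¹) * S.w p q (-1)) := by
          rw [f4]; group
      _ = S.x p q (1 + -t⁻¹) * (S.w p q t⁻¹ * S.w p q (-1)) * S.x q p t⁻¹ := by
          rw [f5, S.add _ _ hpq]; group
      _ = _ := by rw [hpar]; rfl
  -- second expression
  have g1 := S.xb_pos_eq hn hpq hnu
  rw [inv_neg] at g1
  have hainv : (-u / t)⁻¹ = 1 + -u⁻¹ := by
    field_simp
    rw [← htu]; ring
  have E2 : S.x q p 1 * S.x p q (-u) = S.x q p (-u / t)⁻¹ * S.w p q (-u) * S.x q p (-u⁻¹) := by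
    rw [g1, hainv, ← S.add _ _ hpq.symm]
    group
  have g2 := S.xb_pos_eq hn hpq ha
  -- moving `y` across `h`
  have g3 : S.x q p (-u / t)⁻¹ * S.h p q t⁻¹ = S.h p q t⁻¹ * S.x q p ((t⁻¹) ^ 2 * (-u / t)⁻¹) := by
    have := S.hb_conj_y hn hpq hti ((t⁻¹) ^ 2 * (-u / t)⁻¹)
    rw [← mul_assoc, inv_mul_cancel₀ (pow_ne_zero 2 hti), one_mul, mul_inv_eq_iff_eq_mul] at this
    exact this.symm
  have g4 : S.x q p ((t⁻¹) ^ 2 * (-u / t)⁻¹) * S.x q p t⁻¹ = S.x q p (-u⁻¹) := by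
    rw [S.add _ _ hpq.symm]
    congr 1
    field_simp
    rw [← htu]; ring
  have I3 : S.w p q (-u / t) * S.h p q t⁻¹ = S.w p q (-u) := by
    have e := E1.symm.trans E2
    rw [g2] at e
    have e' : S.x q p (-u / t)⁻¹ * (S.w p q (-u / t) * S.h p q t⁻¹) * S.x q p (-u⁻¹) =
        S.x q p (-u / t)⁻¹ * S.w p q (-u) * S.x q p (-u⁻¹) := by
      rw [← e, ← g4]
      calc S.x q p (-u / t)⁻¹ * (S.w p q (-u / t) * S.h p q t⁻¹) *
            (S.x q p ((t⁻¹) ^ 2 * (-u / t)⁻¹) * S.x q p t⁻¹)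
          = S.x q p (-u / t)⁻¹ * S.w p q (-u / t) *
              (S.h p q t⁻¹ * S.x q p ((t⁻¹) ^ 2 * (-u / t)⁻¹)) * S.x q p t⁻¹ := by group
        _ = _ := by rw [← g3]; group
    exact mul_left_cancel (mul_right_cancel e')
  rw [← S.hb_mul_nb hpq (-u / t), ← S.hb_mul_nb hpq (-u)] at I3
  have e6 := S.nb_one_conj_hb hn hpq hti
  rw [inv_inv] at e6
  rw [← e6]
  have : S.h p q (-u) = S.h p q (-u / t) * S.w p q 1 * S.h p q t⁻¹ * (S.w p q 1)⁻¹ := by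
    rw [I3]; group
  rw [this]; group

end rank1

end SD

end Cfsg.Agent.Helper7.Sl
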