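import Mathlib
import Cfsg.Agent.Helper7.SlF

set_option autoImplicit false
set_option linter.unusedSectionVars false
set_option linter.unusedVariables false

/-!
# The kernel of the homomorphism to the matrices is central, and the relation (C) over a finite field
-/

namespace Cfsg.Agent.Helper7.Sl

open Matrix

variable {n : ℕ} {K : Type*} [Field K] {Γ : Type*} [Group Γ] (S : SD n K Γ)

/-- the diagonal coefficients of `h_pq(t)`. -/
def hA (p q : Fin n) (t : K) (i : Fin n) : K := if i = p then t else if i = q then t⁻¹ else 1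

theorem hA_ne_zero (p q : Fin n) {t : K} (ht : t ≠ 0) (i : Fin n) : hA p q t i ≠ 0 := by
  unfold hA
  split_ifs
  · exact ht
  · exact inv_ne_zero ht
  · exact one_ne_zero

namespace SD

theorem Mon.congr {g : Γ} {σ σ' : Equiv.Perm (Fin n)} {a a' : Fin n → K} (h : S.Mon g σ a) (hσ : σ = σ')
    (ha : ∀ i, a i = a' i) : S.Mon g σ' a' := by
  have : a = a' := funext ha
  rw [← this, ← hσ]
  exact h

theorem mon_h (hn : 3 ≤ n) {p q : Fin n} (hpq : p ≠ q) {t : K} (ht : t ≠ 0) :
    S.Mon (S.h p q t) 1 (hA p q t) := by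
  have hm1 : (-1 : K) ≠ 0 := neg_ne_zero.mpr one_ne_zero
  have h1 := (S.mon_w hn hpq ht).mul S (S.mon_w hn hpq hm1)
  refine h1.congr S (Equiv.swap_mul_self p q) ?_
  intro i
  unfold cA hA
  by_cases hip : i = p
  · subst hip
    rw [Equiv.swap_apply_left, if_pos rfl, if_neg hpq, if_pos rfl, if_pos rfl, inv_neg, inv_one, neg_neg,
      mul_one]
  · by_cases hiq : i = q
    · subst hiq
      rw [Equiv.swap_apply_right, if_neg hpq, if_pos rfl, if_pos rfl, if_neg hip, if_pos rfl]
      ring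
    · rw [Equiv.swap_apply_of_ne_of_ne hip hiq, if_neg hiq, if_neg hip, if_neg hiq, if_neg hip, if_neg hip,
        if_neg hiq, mul_one]

/-- an element commuting with the root elements is central. -/
theorem central_of_commute_x
    (hgen : Subgroup.closure {g | ∃ (i j : Fin n) (t : K), i ≠ j ∧ g = S.x i j t} = ⊤) {c : Γ}
    (h : ∀ i j, i ≠ j → ∀ t : K, S.x i j t * c = c * S.x i j t) (g : Γ) : g * c = c * g := by
  have h1 : Subgroup.closure {g | ∃ (i j : Fin n) (t : K), i ≠ j ∧ g = S.x i j t} ≤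
      Subgroup.centralizer {c} := by
    rw [Subgroup.closure_le]
    rintro _ ⟨i, j, t, hij, rfl⟩
    rw [SetLike.mem_coe, Subgroup.mem_centralizer_iff]
    intro d hd
    rw [Set.mem_singleton_iff] at hd
    rw [hd]
    exact (h i j hij t).symm
  have h2 : g ∈ Subgroup.centralizer {c} := h1 (by rw [hgen]; exact Subgroup.mem_top g)
  rw [Subgroup.mem_centralizer_iff] at h2
  exact (h2 c rfl).symm

/-- a monomial element with trivial coefficients and permutation is central. -/
theorem Mon.central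
    (hgen : Subgroup.closure {g | ∃ (i j : Fin n) (t : K), i ≠ j ∧ g = S.x i j t} = ⊤) {w : Γ}
    {σ : Equiv.Perm (Fin n)} {a : Fin n → K} (hM : S.Mon w σ a) (hσ : ∀ i, σ i = i)
    (ha : ∀ i j, i ≠ j → a i * (a j)⁻¹ = 1) (g : Γ) : g * w = w * g := by
  apply S.central_of_commute_x hgen
  intro i j hij t
  have e := hM.mul_x S hij t
  rw [hσ i, hσ j, ha i j hij, one_mul] at e
  exact e.symm

/-- the symbols. -/
def sym (p q : Fin n) (t u : K) : Γ := S.h p q t * S.h p q u * (S.h p q (t * u))⁻¹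

theorem hb_mul_eq (p q : Fin n) (t u : K) : S.h p q t * S.h p q u = S.sym p q t u * S.h p q (t * u) := by
  unfold sym; group

/-- the symbols are central. -/
theorem sym_central (hn : 3 ≤ n)
    (hgen : Subgroup.closure {g | ∃ (i j : Fin n) (t : K), i ≠ j ∧ g = S.x i j t} = ⊤)
    {p q : Fin n} (hpq : p ≠ q) {t u : K} (ht : t ≠ 0) (hu : u ≠ 0) (g : Γ) :
    g * S.sym p q t u = S.sym p q t u * g := by
  have hM := ((S.mon_h hn hpq ht).mul S (S.mon_h hn hpq hu)).mul S
    ((S.mon_h hn hpq (mul_ne_zero ht hu)).inv S)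
  unfold sym
  refine hM.central S hgen (fun i => by simp) ?_ g
  intro i j hij
  have key : ∀ i : Fin n, hA p q t i * hA p q u i * (hA p q (t * u) i)⁻¹ = 1 := by
    intro i
    unfold hA
    split_ifs <;> field_simp
  simp only [Equiv.Perm.one_apply, inv_one]
  rw [key i, key j, inv_one, mul_one]

section phi

variable (φ : Γ →* Matrix (Fin n) (Fin n) K)
  (hφ : ∀ i j, i ≠ j → ∀ t, φ (S.x i j t) = Matrix.transvection i j t)

include hφ in
theorem mon_ker (hn : 3 ≤ n)
    (hgen : Subgroup.closure {g | ∃ (i j : Fin n) (t : K), i ≠ j ∧ g = S.x i j t} = ⊤) {w : Γ}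
    {σ : Equiv.Perm (Fin n)} {a : Fin n → K} (hM : S.Mon w σ a) {v : Γ} (hv : v ∈ S.Ut)
    (hw : φ w = φ v) : (∀ g, g * w = w * g) ∧ φ w = 1 ∧ ∀ i, σ i = i := by
  obtain ⟨hb1, hb2⟩ := S.Ut_shape φ hφ hv
  rw [← hw] at hb1 hb2
  have hother : ∀ i : Fin n, ∃ j : Fin n, i ≠ j := by
    intro i
    obtain ⟨m, hm, _⟩ := exists_third hn i i
    exact ⟨m, hm.symm⟩
  have hrel : ∀ i j, i ≠ j → φ w * Matrix.transvection i j 1 =
      Matrix.transvection (σ i) (σ j) (a i * (a j)⁻¹ * 1) * φ w := by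
    intro i j hij
    have e := hM.mul_x S hij 1
    have hσ : σ i ≠ σ j := fun e => hij (σ.injective e)
    have e2 := congrArg φ e
    rw [map_mul, map_mul, hφ i j hij, hφ _ _ hσ] at e2
    exact e2
  have hσ : ∀ i, σ i = i := by
    intro i
    obtain ⟨j, hij⟩ := hother i
    have e := congrFun (congrFun (hrel i j hij) i) j
    rw [mul_transvection_apply, transvection_mul_apply, if_pos rfl, hb1 i, one_mul] at e
    by_contra hne
    rw [if_neg (fun h => hne h.symm), add_zero] at e
    have : (1 : K) = 0 := by linear_combination e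
    exact one_ne_zero this
  have hcoef : ∀ i j, i ≠ j → a i * (a j)⁻¹ = 1 := by
    intro i j hij
    have e := congrFun (congrFun (hrel i j hij) i) j
    rw [mul_transvection_apply, transvection_mul_apply, if_pos rfl, hb1 i, one_mul, hσ i, hσ j,
      if_pos rfl, hb1 j, mul_one, mul_one] at e
    linear_combination -e
  have hcen := hM.central S hgen hσ hcoef
  refine ⟨hcen, ?_, hσ⟩
  ext r i
  by_cases hri : r = i
  · rw [hri, hb1 i, Matrix.one_apply_eq]
  · rw [Matrix.one_apply_ne hri]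
    obtain ⟨j, hij⟩ := hother i
    have e := congrFun (congrFun (hrel i j hij) r) j
    rw [mul_transvection_apply, transvection_mul_apply, if_pos rfl, hσ i, if_neg hri, add_zero, mul_one] at e
    linear_combination e

include hφ in
/-- **the kernel of the homomorphism to the matrices is central and contained in `W̃`.** -/
theorem ker_central (hn : 3 ≤ n)
    (hgen : Subgroup.closure {g | ∃ (i j : Fin n) (t : K), i ≠ j ∧ g = S.x i j t} = ⊤) {c : Γ}
    (hc : φ c = 1) : c ∈ S.Wt ∧ ∀ g, g * c = c * g := by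
  obtain ⟨u, hu, wn, hwn, u', hu', rfl⟩ := S.bruhat hn hgen c
  obtain ⟨σ, a, hM⟩ := S.exists_mon_of_mem_Wt hn hwn
  have hv : u⁻¹ * u'⁻¹ ∈ S.Ut := mul_mem (inv_mem hu) (inv_mem hu')
  have hw : φ wn = φ (u⁻¹ * u'⁻¹) := by
    have e : wn = u⁻¹ * (u * wn * u') * u'⁻¹ := by group
    rw [e, map_mul, map_mul, hc, mul_one, ← map_mul]
  obtain ⟨hcen, hw1, _⟩ := S.mon_ker φ hφ hn hgen hM hv hw
  have e1 : u * wn * u' = wn * (u * u') := by
    rw [hcen u, mul_assoc]
  have e2 : φ (u * u') = 1 := by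
    rw [e1, map_mul, hw1, one_mul] at hc
    exact hc
  have e3 := S.Ut_inj φ hφ (mul_mem hu hu') e2
  rw [e1, e3, mul_one]
  exact ⟨hwn, hcen⟩

end phi

end SD

end Cfsg.Agent.Helper7.Sl
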