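import Mathlib
import Cfsg.Agent.S2530
import Cfsg.Agent.Helper7.SlH

set_option autoImplicit false
set_option linter.unusedSectionVars false
set_option linter.unusedVariables false

/-!
# The quotient of `W̃` by `H̃` is the symmetric group
-/

namespace Cfsg.Agent.Helper7.Sl

open Matrix

theorem pow_two_eq_one_of {G : Type*} [Group G] {a b : G} (ha : a * a = 1) (hb : b * b = 1)
    (hab : a * b = b * a) : (a * b) ^ 2 = 1 := by
  rw [pow_two]
  calc a * b * (a * b) = a * (b * a) * b := by simp only [mul_assoc]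
    _ = a * (a * b) * b := by rw [hab]
    _ = (a * a) * (b * b) := by simp only [mul_assoc]
    _ = 1 := by rw [ha, hb, one_mul]

theorem pow_three_eq_one_of {G : Type*} [Group G] {a b : G} (ha : a * a = 1) (hb : b * b = 1)
    (hab : a * b * a = b * a * b) : (a * b) ^ 3 = 1 := by
  rw [pow_succ, pow_two]
  calc a * b * (a * b) * (a * b) = (a * b * a) * (b * a * b) := by simp only [mul_assoc]
    _ = (a * b * a) * (a * b * a) := by rw [hab]
    _ = a * b * (a * a) * b * a := by simp only [mul_assoc]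
    _ = a * (b * b) * a := by rw [ha, mul_one]; simp only [mul_assoc]
    _ = 1 := by rw [hb, mul_one, ha]

variable {n : ℕ} {K : Type*} [Field K] {Γ : Type*} [Group Γ]

namespace SD

/-- the subgroup generated by the elements `h_kl(u)`. -/
def Ht (S : SD n K Γ) : Subgroup Γ :=
  Subgroup.closure {g | ∃ (k l : Fin n) (u : K), k ≠ l ∧ u ≠ 0 ∧ g = S.h k l u}

section general

variable (S : SD n K Γ)

theorem h_mem_Ht {k l : Fin n} (hkl : k ≠ l) {u : K} (hu : u ≠ 0) : S.h k l u ∈ S.Ht :=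
  Subgroup.subset_closure ⟨k, l, u, hkl, hu, rfl⟩

theorem Ht_le_Wt : S.Ht ≤ S.Wt := by
  unfold Ht
  rw [Subgroup.closure_le]
  rintro _ ⟨k, l, u, hkl, hu, rfl⟩
  exact mul_mem (S.w_mem_Wt hkl hu) (S.w_mem_Wt hkl (neg_ne_zero.mpr one_ne_zero))

theorem exists_mon_of_mem_Ht (hn : 3 ≤ n) {g : Γ} (hg : g ∈ S.Ht) : ∃ a : Fin n → K, S.Mon g 1 a := by
  unfold Ht at hg
  induction hg using Subgroup.closure_induction with
  | mem g hg =>
    obtain ⟨k, l, u, hkl, hu, rfl⟩ := hg
    exact ⟨_, S.mon_h hn hkl hu⟩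
  | one => exact ⟨_, S.mon_one⟩
  | mul a b _ _ iha ihb =>
    obtain ⟨c, h⟩ := iha
    obtain ⟨c', h'⟩ := ihb
    exact ⟨_, (h.mul S h').congr S (one_mul 1) (fun _ => rfl)⟩
  | inv a _ ih =>
    obtain ⟨c, h⟩ := ih
    exact ⟨_, (h.inv S).congr S inv_one (fun _ => rfl)⟩

theorem Ht_conj_mem (hn : 3 ≤ n) {g : Γ} (hg : g ∈ S.Wt) {h : Γ} (hh : h ∈ S.Ht) :
    g * h * g⁻¹ ∈ S.Ht := by
  obtain ⟨σ, a, hM⟩ := S.exists_mon_of_mem_Wt hn hg
  have h1 : S.Ht ≤ S.Ht.comap (MulAut.conj g).toMonoidHom := by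
    unfold Ht
    rw [Subgroup.closure_le]
    rintro _ ⟨k, l, u, hkl, hu, rfl⟩
    rw [SetLike.mem_coe, Subgroup.mem_comap]
    change MulAut.conj g (S.h k l u) ∈ _
    rw [hM.conj_h S hkl hu]
    have hσ : σ k ≠ σ l := fun e => hkl (σ.injective e)
    have hc : a k * (a l)⁻¹ ≠ 0 := mul_ne_zero (hM.1 k) (inv_ne_zero (hM.1 l))
    exact mul_mem (S.h_mem_Ht hσ (mul_ne_zero hc hu)) (inv_mem (S.h_mem_Ht hσ hc))
  have h2 := h1 hh
  rw [Subgroup.mem_comap] at h2
  exact h2

/-- the subgroup of `W̃` corresponding to `H̃`. -/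
def HtW : Subgroup S.Wt := S.Ht.subgroupOf S.Wt

theorem HtW_normal (hn : 3 ≤ n) : (S.HtW).Normal := by
  constructor
  intro h hh g
  unfold HtW at hh ⊢
  rw [Subgroup.mem_subgroupOf] at hh ⊢
  have := S.Ht_conj_mem hn g.2 hh
  simpa using this

end general

section cox

variable {m : ℕ} (S : SD (m + 1) K Γ)

/-- representatives of the simple reflections. -/
def sw (i : Fin m) : Γ := S.w i.castSucc i.succ 1

theorem castSucc_ne_succ (i : Fin m) : i.castSucc ≠ i.succ := by
  intro e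
  have := congrArg Fin.val e
  simp at this

theorem sw_mem_Wt (i : Fin m) : S.sw i ∈ S.Wt :=
  S.w_mem_Wt (castSucc_ne_succ i) one_ne_zero

theorem sw_mul_self_mem (i : Fin m) : S.sw i * S.sw i ∈ S.Ht := by
  have hne := castSucc_ne_succ i
  have e : S.sw i * S.sw i = (S.h i.castSucc i.succ (-1))⁻¹ := by
    unfold sw SD.h
    rw [_root_.mul_inv_rev, S.w_inv hne, neg_neg]
  rw [e]
  exact inv_mem (S.h_mem_Ht hne (neg_ne_zero.mpr one_ne_zero))

theorem sw_comm (hn : 3 ≤ m + 1) {i j : Fin m} (hij : i.val + 2 ≤ j.val) :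
    S.sw i * S.sw j = S.sw j * S.sw i := by
  have hi := castSucc_ne_succ i
  have hj := castSucc_ne_succ j
  have e := (S.mon_w hn hi (one_ne_zero (α := K))).conj_w S hj (one_ne_zero (α := K))
  have h1 : j.castSucc ≠ i.castSucc := fun e => by
    have := congrArg Fin.val e; simp at this; omega
  have h2 : j.castSucc ≠ i.succ := fun e => by
    have := congrArg Fin.val e; simp at this; omega
  have h3 : j.succ ≠ i.castSucc := fun e => by
    have := congrArg Fin.val e; simp at this; omega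
  have h4 : j.succ ≠ i.succ := fun e => by
    have := congrArg Fin.val e; simp at this; omega
  rw [Equiv.swap_apply_of_ne_of_ne h1 h2, Equiv.swap_apply_of_ne_of_ne h3 h4] at e
  unfold cA at e
  rw [if_neg h2, if_neg h1, if_neg h4, if_neg h3, inv_one, mul_one, mul_one, MulAut.conj_apply] at e
  unfold sw
  calc S.w i.castSucc i.succ 1 * S.w j.castSucc j.succ 1
      = (S.w i.castSucc i.succ 1 * S.w j.castSucc j.succ 1 * (S.w i.castSucc i.succ 1)⁻¹) *
          S.w i.castSucc i.succ 1 := by group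
    _ = _ := by rw [e]

theorem sw_braid (hn : 3 ≤ m + 1) {i j : Fin m} (hij : j.val = i.val + 1) :
    S.sw i * S.sw j * S.sw i = S.sw j * S.sw i * S.sw j := by
  have hi := castSucc_ne_succ i
  have hj := castSucc_ne_succ j
  have hm1 : (-1 : K) ≠ 0 := neg_ne_zero.mpr one_ne_zero
  have hjc : j.castSucc = i.succ := Fin.ext (by simp [hij])
  have h3 : j.succ ≠ i.castSucc := fun e => by
    have := congrArg Fin.val e; simp at this; omega
  have h4 : j.succ ≠ i.succ := fun e => by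
    have := congrArg Fin.val e; simp at this; omega
  have h5 : i.castSucc ≠ j.succ := h3.symm
  -- `s_i s_j s_i⁻¹ = w_{i,j+1}(1)`
  have e1 := (S.mon_w hn hi (one_ne_zero (α := K))).conj_w S hj (one_ne_zero (α := K))
  rw [hjc, Equiv.swap_apply_right, Equiv.swap_apply_of_ne_of_ne h3 h4] at e1
  unfold cA at e1
  rw [if_pos rfl, if_neg h4, if_neg h3, inv_one, mul_one, mul_one, MulAut.conj_apply] at e1
  -- `s_j⁻¹ s_i s_j = w_{i,j+1}(1)`
  have e2 := (S.mon_w hn hj hm1).conj_w S hi (one_ne_zero (α := K))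
  rw [hjc, Equiv.swap_apply_of_ne_of_ne hi h5, Equiv.swap_apply_left] at e2
  unfold cA at e2
  rw [if_neg h5, if_neg hi, if_neg h4.symm, if_pos rfl] at e2
  have hc : (1 : K) * (-(-1 : K)⁻¹)⁻¹ * 1 = 1 := by norm_num
  rw [hc, MulAut.conj_apply] at e2
  have e3 : S.sw i * S.sw j * (S.sw i)⁻¹ = (S.sw j)⁻¹ * S.sw i * S.sw j := by
    unfold sw
    rw [hjc, e1, ← e2, S.w_inv (hjc ▸ hj), S.w_inv (hjc ▸ hj), neg_neg]
  symm
  calc S.sw j * S.sw i * S.sw j = S.sw j * (S.sw i * S.sw j * (S.sw i)⁻¹) * S.sw i := by group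
    _ = S.sw j * ((S.sw j)⁻¹ * S.sw i * S.sw j) * S.sw i := by rw [e3]
    _ = S.sw i * S.sw j * S.sw i := by group

end cox

end SD

end Cfsg.Agent.Helper7.Sl
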