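import Mathlib
import Cfsg.Agent.Helper7.SlI

set_option autoImplicit false
set_option linter.unusedSectionVars false
set_option linter.unusedVariables false

/-!
# The elements of `W̃` acting trivially lie in `H̃`
-/

namespace Cfsg.Agent.Helper7.Sl

open Matrix

variable {K : Type*} [Field K] {Γ : Type*} [Group Γ]

namespace SD

section cox

variable {m : ℕ} (S : SD (m + 1) K Γ) [hN : (S.HtW).Normal]

/-- the classes of the simple reflections in the quotient of `W̃` by `H̃`. -/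
def fq (i : Fin m) : S.Wt ⧸ S.HtW := QuotientGroup.mk ⟨S.sw i, S.sw_mem_Wt i⟩

theorem mk_eq_one_iff {g : Γ} (hg : g ∈ S.Wt) :
    (QuotientGroup.mk (⟨g, hg⟩ : S.Wt) : S.Wt ⧸ S.HtW) = 1 ↔ g ∈ S.Ht := by
  rw [QuotientGroup.eq_one_iff]
  unfold HtW
  rw [Subgroup.mem_subgroupOf]

theorem fq_mul_self (i : Fin m) : S.fq i * S.fq i = 1 := by
  unfold fq
  rw [← QuotientGroup.mk_mul]
  exact (S.mk_eq_one_iff (mul_mem (S.sw_mem_Wt i) (S.sw_mem_Wt i))).mpr (S.sw_mul_self_mem i)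

theorem fq_liftable (hn : 3 ≤ m + 1) : (CoxeterMatrix.A m).IsLiftable S.fq := by
  intro i j
  rw [Cfsg.Agent.S2530.A_apply]
  by_cases hij : i = j
  · subst hij
    rw [if_pos rfl, pow_one, S.fq_mul_self]
  · rw [if_neg hij]
    have hne : i.val ≠ j.val := fun h => hij (Fin.ext h)
    by_cases hadj : (j : ℕ) + 1 = i ∨ (i : ℕ) + 1 = j
    · rw [if_pos hadj]
      rcases hadj with h | h
      · apply pow_three_eq_one_of (S.fq_mul_self i) (S.fq_mul_self j)
        unfold fq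
        rw [← QuotientGroup.mk_mul, ← QuotientGroup.mk_mul, ← QuotientGroup.mk_mul, ← QuotientGroup.mk_mul]
        congr 1
        apply Subtype.ext
        exact (S.sw_braid hn (i := j) (j := i) h.symm).symm
      · apply pow_three_eq_one_of (S.fq_mul_self i) (S.fq_mul_self j)
        unfold fq
        rw [← QuotientGroup.mk_mul, ← QuotientGroup.mk_mul, ← QuotientGroup.mk_mul, ← QuotientGroup.mk_mul]
        congr 1
        apply Subtype.ext
        exact S.sw_braid hn (i := i) (j := j) h.symm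
    · rw [if_neg hadj]
      push Not at hadj
      apply pow_two_eq_one_of (S.fq_mul_self i) (S.fq_mul_self j)
      unfold fq
      rw [← QuotientGroup.mk_mul, ← QuotientGroup.mk_mul]
      congr 1
      apply Subtype.ext
      rcases lt_or_gt_of_ne hne with h | h
      · exact S.sw_comm hn (by omega)
      · exact (S.sw_comm hn (by omega)).symm

/-- the homomorphism from the Coxeter group to the quotient of `W̃` by `H̃`. -/
noncomputable def psi (hn : 3 ≤ m + 1) : Cfsg.Agent.S2530.W m →* S.Wt ⧸ S.HtW :=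
  (Cfsg.Agent.S2530.cs m).lift ⟨S.fq, S.fq_liftable hn⟩

theorem psi_simple (hn : 3 ≤ m + 1) (i : Fin m) :
    S.psi hn ((Cfsg.Agent.S2530.cs m).simple i) = S.fq i :=
  (Cfsg.Agent.S2530.cs m).lift_apply_simple (S.fq_liftable hn) i

/-- the elements of `W̃` whose class is in the image of the Coxeter group. -/
noncomputable def Rg (hn : 3 ≤ m + 1) : Subgroup Γ :=
  ((S.psi hn).range.comap (QuotientGroup.mk' S.HtW)).map S.Wt.subtype

theorem mem_Rg_iff (hn : 3 ≤ m + 1) {g : Γ} :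
    g ∈ S.Rg hn ↔ ∃ hg : g ∈ S.Wt, (QuotientGroup.mk (⟨g, hg⟩ : S.Wt) : S.Wt ⧸ S.HtW) ∈ (S.psi hn).range := by
  unfold Rg
  rw [Subgroup.mem_map]
  constructor
  · rintro ⟨⟨g', hg'⟩, h1, rfl⟩
    exact ⟨hg', h1⟩
  · rintro ⟨hg, h1⟩
    exact ⟨⟨g, hg⟩, h1, rfl⟩

theorem Ht_le_Rg (hn : 3 ≤ m + 1) : S.Ht ≤ S.Rg hn := by
  intro g hg
  rw [S.mem_Rg_iff hn]
  refine ⟨S.Ht_le_Wt hg, ?_⟩
  rw [(S.mk_eq_one_iff (S.Ht_le_Wt hg)).mpr hg]
  exact one_mem _

theorem sw_mem_Rg (hn : 3 ≤ m + 1) (i : Fin m) : S.sw i ∈ S.Rg hn := by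
  rw [S.mem_Rg_iff hn]
  exact ⟨S.sw_mem_Wt i, ⟨_, S.psi_simple hn i⟩⟩

theorem w_one_mem_Rg (hn : 3 ≤ m + 1) :
    ∀ (d : ℕ) (k l : Fin (m + 1)), l.val = k.val + d + 1 → S.w k l 1 ∈ S.Rg hn := by
  intro d
  induction d with
  | zero =>
    intro k l hkl
    have hk : k.val < m := by have := l.isLt; omega
    have e1 : k = (⟨k.val, hk⟩ : Fin m).castSucc := Fin.ext rfl
    have e2 : l = (⟨k.val, hk⟩ : Fin m).succ := Fin.ext (by simp [hkl])
    have := S.sw_mem_Rg hn ⟨k.val, hk⟩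
    unfold sw at this
    rw [← e1, ← e2] at this
    exact this
  | succ d ih =>
    intro k l hkl
    have hl : l.val - 1 < m := by have := l.isLt; omega
    have e2 : l = (⟨l.val - 1, hl⟩ : Fin m).succ := Fin.ext (by simp; omega)
    have hl'l : (⟨l.val - 1, hl⟩ : Fin m).castSucc ≠ l := by
      intro e
      have := congrArg Fin.val e
      simp at this
      omega
    have hkl' : k ≠ (⟨l.val - 1, hl⟩ : Fin m).castSucc := by
      intro e
      have := congrArg Fin.val e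
      simp at this
      omega
    have hkl'' : k ≠ l := by
      intro e
      rw [e] at hkl
      omega
    have h1 := ih k (⟨l.val - 1, hl⟩ : Fin m).castSucc (by simp; omega)
    have h2 := S.sw_mem_Rg hn ⟨l.val - 1, hl⟩
    have e := (S.mon_w hn hl'l (one_ne_zero (α := K))).conj_w S hkl' (one_ne_zero (α := K))
    rw [Equiv.swap_apply_of_ne_of_ne hkl' hkl'', Equiv.swap_apply_left] at e
    unfold cA at e
    rw [if_neg hkl'', if_neg hkl', if_neg hl'l, if_pos rfl] at e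
    have hc : (1 : K) * (-(1 : K)⁻¹)⁻¹ * 1 = -1 := by norm_num
    rw [hc, MulAut.conj_apply, ← S.w_inv hkl''] at e
    have h3 : S.w (⟨l.val - 1, hl⟩ : Fin m).castSucc l 1 ∈ S.Rg hn := by
      unfold sw at h2
      rw [← e2] at h2
      exact h2
    have h4 := inv_mem (mul_mem (mul_mem h3 h1) (inv_mem h3))
    rw [e, inv_inv] at h4
    exact h4

theorem Wt_le_Rg (hn : 3 ≤ m + 1) : S.Wt ≤ S.Rg hn := by
  have key : ∀ (k l : Fin (m + 1)) (u : K), k < l → u ≠ 0 → S.w k l u ∈ S.Rg hn := by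
    intro k l u hkl hu
    rw [S.w_eq_h_mul (ne_of_lt hkl)]
    refine mul_mem (S.Ht_le_Rg hn (S.h_mem_Ht (ne_of_lt hkl) hu)) ?_
    have := Fin.lt_def.mp hkl
    exact S.w_one_mem_Rg hn (l.val - k.val - 1) k l (by omega)
  unfold Wt
  rw [Subgroup.closure_le]
  rintro _ ⟨k, l, u, hkl, hu, rfl⟩
  rcases lt_or_gt_of_ne hkl with h | h
  · exact key k l u h hu
  · rw [S.w_swap hn hkl.symm hu]
    exact key l k _ h (neg_ne_zero.mpr (inv_ne_zero hu))

theorem psi_mon (hn : 3 ≤ m + 1) (c : Cfsg.Agent.S2530.W m) :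
    ∀ (g : Γ) (hg : g ∈ S.Wt), (QuotientGroup.mk (⟨g, hg⟩ : S.Wt) : S.Wt ⧸ S.HtW) = S.psi hn c →
      ∃ a : Fin (m + 1) → K, S.Mon g (Cfsg.Agent.S2530.toPerm m c) a := by
  refine (Cfsg.Agent.S2530.cs m).simple_induction_left (p := fun c => ∀ (g : Γ) (hg : g ∈ S.Wt),
    (QuotientGroup.mk (⟨g, hg⟩ : S.Wt) : S.Wt ⧸ S.HtW) = S.psi hn c →
      ∃ a : Fin (m + 1) → K, S.Mon g (Cfsg.Agent.S2530.toPerm m c) a) c ?_ ?_
  · intro g hg h
    rw [map_one] at h
    have := (S.mk_eq_one_iff hg).mp h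
    rw [map_one]
    exact S.exists_mon_of_mem_Ht hn this
  · intro c i ih g hg h
    have hg' : (S.sw i)⁻¹ * g ∈ S.Wt := mul_mem (inv_mem (S.sw_mem_Wt i)) hg
    have h' : (QuotientGroup.mk (⟨(S.sw i)⁻¹ * g, hg'⟩ : S.Wt) : S.Wt ⧸ S.HtW) = S.psi hn c := by
      have e : (⟨(S.sw i)⁻¹ * g, hg'⟩ : S.Wt) = (⟨S.sw i, S.sw_mem_Wt i⟩ : S.Wt)⁻¹ * ⟨g, hg⟩ := by
        apply Subtype.ext
        rfl
      rw [e, QuotientGroup.mk_mul, QuotientGroup.mk_inv, h, map_mul, S.psi_simple hn]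
      unfold fq
      rw [inv_mul_cancel_left]
    obtain ⟨a, hM⟩ := ih _ hg' h'
    have hM2 := (S.mon_w hn (castSucc_ne_succ i) (one_ne_zero (α := K))).mul S hM
    have e : S.w i.castSucc i.succ 1 * ((S.sw i)⁻¹ * g) = g := by
      unfold sw
      rw [mul_inv_cancel_left]
    rw [e] at hM2
    rw [map_mul, Cfsg.Agent.S2530.toPerm_simple]
    exact ⟨_, hM2⟩

/-- **an element of `W̃` lies in `H̃` or acts through a non-trivial permutation.** -/
theorem exists_cox (hn : 3 ≤ m + 1) {g : Γ} (hg : g ∈ S.Wt) :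
    ∃ (σ : Equiv.Perm (Fin (m + 1))) (a : Fin (m + 1) → K), S.Mon g σ a ∧ (σ = 1 → g ∈ S.Ht) := by
  have h1 := S.Wt_le_Rg hn hg
  rw [S.mem_Rg_iff hn] at h1
  obtain ⟨_, c, hc⟩ := h1
  obtain ⟨a, hM⟩ := S.psi_mon hn c g hg hc.symm
  refine ⟨_, a, hM, ?_⟩
  intro hσ
  have hc1 : c = 1 := by
    apply (Cfsg.Agent.S2530.toPerm_bijective m).1
    rw [hσ, map_one]
  rw [hc1, map_one] at hc
  exact (S.mk_eq_one_iff hg).mp hc.symm

end cox

end SD

end Cfsg.Agent.Helper7.Sl
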