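import Mathlib
import Cfsg.Agent.Helper7.SlJ

set_option autoImplicit false
set_option linter.unusedSectionVars false
set_option linter.unusedVariables false

/-!
# The matrices of the elements `h_kl(t)` and the relations between them
-/

namespace Cfsg.Agent.Helper7.Sl

open Matrix

variable {n : ℕ} {K : Type*} [Field K] {Γ : Type*} [Group Γ] (S : SD n K Γ)

namespace SD

theorem w_mem_XR2 {k l : Fin n} (hkl : k ≠ l) (t : K) :
    S.w k l t ∈ S.XR (fun i j => (i = k ∧ j = l) ∨ (i = l ∧ j = k)) := by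
  unfold w
  exact mul_mem (mul_mem (S.x_mem_XR hkl (Or.inl ⟨rfl, rfl⟩) _) (S.x_mem_XR hkl.symm (Or.inr ⟨rfl, rfl⟩) _))
    (S.x_mem_XR hkl (Or.inl ⟨rfl, rfl⟩) _)

theorem h_mem_XR2 {k l : Fin n} (hkl : k ≠ l) (t : K) :
    S.h k l t ∈ S.XR (fun i j => (i = k ∧ j = l) ∨ (i = l ∧ j = k)) := by
  unfold SD.h
  exact mul_mem (S.w_mem_XR2 hkl _) (S.w_mem_XR2 hkl _)

section phi

variable (φ : Γ →* Matrix (Fin n) (Fin n) K)
  (hφ : ∀ i j, i ≠ j → ∀ t, φ (S.x i j t) = Matrix.transvection i j t)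

include hφ in
theorem phi_XR2_row {k l : Fin n} {g : Γ}
    (hg : g ∈ S.XR (fun i j => (i = k ∧ j = l) ∨ (i = l ∧ j = k))) {r : Fin n} (hrk : r ≠ k) (hrl : r ≠ l)
    (b : Fin n) : φ g r b = (1 : Matrix (Fin n) (Fin n) K) r b := by
  refine S.XR_induction_left (P := fun g => φ g r b = (1 : Matrix (Fin n) (Fin n) K) r b) ?_ ?_ hg
  · rw [map_one]
  · rintro i j t g hij hR hg ih
    have hri : r ≠ i := by
      rcases hR with ⟨rfl, _⟩ | ⟨rfl, _⟩
      · exact hrk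
      · exact hrl
    rw [map_mul, hφ i j hij, transvection_mul_apply, if_neg hri, add_zero, ih]

include hφ in
theorem Mon.phi_diag (hn : 3 ≤ n) {g : Γ} {a : Fin n → K} (hM : S.Mon g 1 a) :
    (∀ r i : Fin n, r ≠ i → φ g r i = 0) ∧
      ∀ i j : Fin n, i ≠ j → φ g i i = a i * (a j)⁻¹ * φ g j j := by
  have hrel : ∀ i j, i ≠ j → φ g * Matrix.transvection i j 1 =
      Matrix.transvection i j (a i * (a j)⁻¹ * 1) * φ g := by
    intro i j hij
    have e := hM.mul_x S hij 1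
    have e2 := congrArg φ e
    rw [map_mul, map_mul, hφ i j hij, Equiv.Perm.one_apply, Equiv.Perm.one_apply, hφ _ _ hij] at e2
    exact e2
  constructor
  · intro r i hri
    obtain ⟨j, hji, _⟩ := exists_third hn i i
    have e := congrFun (congrFun (hrel i j hji.symm) r) j
    rw [mul_transvection_apply, transvection_mul_apply, if_pos rfl, if_neg hri, add_zero, mul_one] at e
    linear_combination e
  · intro i j hij
    have e := congrFun (congrFun (hrel i j hij) i) j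
    rw [mul_transvection_apply, transvection_mul_apply, if_pos rfl, if_pos rfl, mul_one, mul_one] at e
    linear_combination e

include hφ in
/-- the matrix of `h_kl(t)`. -/
theorem phi_h (hn : 3 ≤ n) {k l : Fin n} (hkl : k ≠ l) {t : K} (ht : t ≠ 0) :
    φ (S.h k l t) = Matrix.diagonal (hA k l t) := by
  obtain ⟨m, hmk, hml⟩ := exists_third hn k l
  obtain ⟨h1, h2⟩ := (S.mon_h hn hkl ht).phi_diag S φ hφ hn
  have hm : φ (S.h k l t) m m = 1 := by
    rw [S.phi_XR2_row φ hφ (S.h_mem_XR2 hkl t) hmk hml, Matrix.one_apply_eq]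
  have hAm : hA k l t m = 1 := by
    unfold hA
    rw [if_neg hmk, if_neg hml]
  ext r i
  by_cases hri : r = i
  · subst hri
    rw [Matrix.diagonal_apply_eq]
    by_cases hrm : r = m
    · rw [hrm, hm, hAm]
    · rw [h2 r m hrm, hm, hAm, inv_one, mul_one, mul_one]
  · rw [Matrix.diagonal_apply_ne _ hri, h1 r i hri]

end phi

section relC

variable (hn : 3 ≤ n)
  (hC : ∀ p q : Fin n, p ≠ q → ∀ t u : K, t ≠ 0 → u ≠ 0 → S.h p q t * S.h p q u = S.h p q (t * u))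

include hC in
theorem h_inv {p q : Fin n} (hpq : p ≠ q) {t : K} (ht : t ≠ 0) : (S.h p q t)⁻¹ = S.h p q t⁻¹ := by
  apply inv_eq_of_mul_eq_one_right
  rw [hC p q hpq t t⁻¹ ht (inv_ne_zero ht), mul_inv_cancel₀ ht, S.h_one hpq]

include hC in
theorem h_comm_same {p q : Fin n} (hpq : p ≠ q) {t u : K} (ht : t ≠ 0) (hu : u ≠ 0) :
    S.h p q t * S.h p q u = S.h p q u * S.h p q t := by
  rw [hC p q hpq t u ht hu, hC p q hpq u t hu ht, mul_comm]

include hn hC in
/-- the elements `h_pq(t)` commute with each other. -/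
theorem h_comm {p q k l : Fin n} (hpq : p ≠ q) (hkl : k ≠ l) {t u : K} (ht : t ≠ 0) (hu : u ≠ 0) :
    S.h p q t * S.h k l u = S.h k l u * S.h p q t := by
  have e := (S.mon_h hn hpq ht).conj_h S hkl hu
  rw [Equiv.Perm.one_apply, Equiv.Perm.one_apply, MulAut.conj_apply] at e
  have hc : hA p q t k * (hA p q t l)⁻¹ ≠ 0 :=
    mul_ne_zero (hA_ne_zero p q ht k) (inv_ne_zero (hA_ne_zero p q ht l))
  rw [mul_comm _ u, ← hC k l hkl u _ hu hc, mul_inv_cancel_right] at e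
  calc S.h p q t * S.h k l u = (S.h p q t * S.h k l u * (S.h p q t)⁻¹) * S.h p q t := by group
    _ = _ := by rw [e]

include hn hC in
/-- `h_lk(t) = h_kl(t)⁻¹`. -/
theorem h_swap {k l : Fin n} (hkl : k ≠ l) {t : K} (ht : t ≠ 0) : S.h l k t = (S.h k l t)⁻¹ := by
  have hm1 : (-1 : K) ≠ 0 := neg_ne_zero.mpr one_ne_zero
  have e1 : S.w l k t = S.w k l (-t⁻¹) := S.w_swap hn hkl ht
  have e2 : S.w l k (-1) = S.w k l 1 := by
    rw [S.w_swap hn hkl hm1, inv_neg, inv_one, neg_neg]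
  have e3 : S.w k l (-t⁻¹) = S.h k l (-t⁻¹) * S.w k l 1 := S.w_eq_h_mul hkl _
  have e4 : S.w k l 1 * S.w k l 1 = (S.h k l (-1))⁻¹ := by
    unfold SD.h
    rw [_root_.mul_inv_rev, S.w_inv hkl, neg_neg]
  have e5 : S.h k l (-t⁻¹) = S.h k l t⁻¹ * S.h k l (-1) := by
    rw [hC k l hkl _ _ (inv_ne_zero ht) hm1, mul_neg, mul_one]
  unfold SD.h at e4 ⊢
  rw [e1, e2]
  change S.w k l (-t⁻¹) * S.w k l 1 = (S.h k l t)⁻¹
  rw [e3, mul_assoc]
  change S.h k l (-t⁻¹) * (S.w k l 1 * S.w k l 1) = (S.h k l t)⁻¹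
  rw [S.h_inv hC hkl ht, e5]
  have : S.w k l 1 * S.w k l 1 = (S.h k l (-1))⁻¹ := by
    unfold SD.h
    exact e4
  rw [this, mul_inv_cancel_right]

include hn hC in
/-- `h_kl(t) = h_kν(t) h_νl(t)`. -/
theorem h_split {k ν l : Fin n} (hkν : k ≠ ν) (hνl : ν ≠ l) (hkl : k ≠ l) {t : K} (ht : t ≠ 0) :
    S.h k l t = S.h k ν t * S.h ν l t := by
  have hm1 : (-1 : K) ≠ 0 := neg_ne_zero.mpr one_ne_zero
  -- first computation of the conjugate of `h_kν(t)` by `w_νl(1)`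
  have e1 := (S.mon_w hn hνl (one_ne_zero (α := K))).conj_h S hkν ht
  rw [Equiv.swap_apply_of_ne_of_ne hkν hkl, Equiv.swap_apply_left, MulAut.conj_apply] at e1
  have hc : cA ν l (1 : K) k * (cA ν l (1 : K) ν)⁻¹ = -1 := by
    unfold cA
    rw [if_neg hkl, if_neg hkν, if_neg hνl, if_pos rfl]
    norm_num
  rw [hc] at e1
  have e2 : S.h k l (-1 * t) * (S.h k l (-1))⁻¹ = S.h k l t := by
    rw [← hC k l hkl (-1) t hm1 ht, S.h_comm_same hC hkl hm1 ht, mul_inv_cancel_right]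
  rw [e2] at e1
  -- second computation
  have hM := (S.mon_h hn hkν ht).inv S
  have e3 := hM.conj_w S hνl (one_ne_zero (α := K))
  rw [inv_one, Equiv.Perm.one_apply, Equiv.Perm.one_apply, MulAut.conj_apply, inv_inv] at e3
  have hc2 : (hA k ν t ν)⁻¹ * ((hA k ν t l)⁻¹)⁻¹ * 1 = t := by
    unfold hA
    rw [if_neg hkν.symm, if_pos rfl, if_neg hkl.symm, if_neg hνl.symm]
    simp
  rw [hc2] at e3
  rw [← e1]
  have e4 : S.w ν l 1 * S.h k ν t * (S.w ν l 1)⁻¹ =
      S.h k ν t * ((S.h k ν t)⁻¹ * S.w ν l 1 * S.h k ν t) * (S.w ν l 1)⁻¹ := by group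
  rw [e4, e3, S.w_inv hνl, mul_assoc]
  rfl

end relC

end SD

end Cfsg.Agent.Helper7.Sl
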