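import Mathlib
import Cfsg.Agent.Helper7.SlK

set_option autoImplicit false
set_option linter.unusedSectionVars false
set_option linter.unusedVariables false

/-!
# The homomorphism to the matrices is injective on `H̃`, and on the whole group, over a finite field
-/

namespace Cfsg.Agent.Helper7.Sl

open Matrix

variable {n : ℕ} {K : Type*} [Field K] {Γ : Type*} [Group Γ] (S : SD n K Γ)

namespace SD

/-- the subgroup generated by the `h_kν(t)` with `k` before the `r`-th index. -/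
def Hnu (ν : Fin n) (r : ℕ) : Subgroup Γ :=
  Subgroup.closure {g | ∃ (k : Fin n) (t : K), k ≠ ν ∧ k.val < r ∧ t ≠ 0 ∧ g = S.h k ν t}

theorem h_mem_Hnu {ν k : Fin n} {r : ℕ} (hk : k ≠ ν) (hkr : k.val < r) {t : K} (ht : t ≠ 0) :
    S.h k ν t ∈ S.Hnu ν r :=
  Subgroup.subset_closure ⟨k, t, hk, hkr, ht, rfl⟩

theorem Hnu_mono (ν : Fin n) {r r' : ℕ} (h : r ≤ r') : S.Hnu ν r ≤ S.Hnu ν r' := by
  apply Subgroup.closure_mono
  rintro g ⟨k, t, hk, hkr, ht, rfl⟩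
  exact ⟨k, t, hk, by omega, ht, rfl⟩

section relC

variable (hn : 3 ≤ n)
  (hC : ∀ p q : Fin n, p ≠ q → ∀ t u : K, t ≠ 0 → u ≠ 0 → S.h p q t * S.h p q u = S.h p q (t * u))

include hC in
theorem Hnu_induction_left {ν : Fin n} {r : ℕ} {P : Γ → Prop} (h1 : P 1)
    (hmul : ∀ (k : Fin n) (t : K) (g : Γ), k ≠ ν → k.val < r → t ≠ 0 → g ∈ S.Hnu ν r → P g →
      P (S.h k ν t * g)) {g : Γ} (hg : g ∈ S.Hnu ν r) : P g := by
  unfold Hnu at hg
  induction hg using Subgroup.closure_induction_left with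
  | one => exact h1
  | mul_left a ha b hb ih =>
    obtain ⟨k, t, hk, hkr, ht, rfl⟩ := ha
    exact hmul k t b hk hkr ht hb ih
  | inv_mul_cancel a ha b hb ih =>
    obtain ⟨k, t, hk, hkr, ht, rfl⟩ := ha
    rw [S.h_inv hC hk ht]
    exact hmul k t⁻¹ b hk hkr (inv_ne_zero ht) hb ih

include hn hC in
theorem Ht_le_Hnu (ν : Fin n) : S.Ht ≤ S.Hnu ν n := by
  unfold Ht
  rw [Subgroup.closure_le]
  rintro _ ⟨k, l, t, hkl, ht, rfl⟩
  by_cases hlν : l = ν
  · subst hlν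
    exact S.h_mem_Hnu hkl k.isLt ht
  · by_cases hkν : k = ν
    · subst hkν
      rw [S.h_swap hn hC hkl.symm ht]
      exact inv_mem (S.h_mem_Hnu hlν l.isLt ht)
    · rw [S.h_split hn hC hkν (fun e => hlν e.symm) hkl ht, S.h_swap hn hC hlν ht]
      exact mul_mem (S.h_mem_Hnu hkν k.isLt ht) (inv_mem (S.h_mem_Hnu hlν l.isLt ht))

include hn hC in
theorem Hnu_step {ν : Fin n} {r : ℕ} (hrn : r < n) (hrν : (⟨r, hrn⟩ : Fin n) ≠ ν) {g : Γ}
    (hg : g ∈ S.Hnu ν (r + 1)) :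
    ∃ (t : K) (b : Γ), t ≠ 0 ∧ b ∈ S.Hnu ν r ∧ g = S.h ⟨r, hrn⟩ ν t * b := by
  refine S.Hnu_induction_left hC (P := fun g => ∃ (t : K) (b : Γ), t ≠ 0 ∧ b ∈ S.Hnu ν r ∧
    g = S.h ⟨r, hrn⟩ ν t * b) ?_ ?_ hg
  · exact ⟨1, 1, one_ne_zero, one_mem _, by rw [S.h_one hrν, one_mul]⟩
  · rintro k s g hk hkr hs hg ⟨t, b, ht, hb, rfl⟩
    by_cases h : k.val = r
    · have : k = ⟨r, hrn⟩ := Fin.ext h
      subst this
      exact ⟨s * t, b, mul_ne_zero hs ht, hb, by rw [← mul_assoc, hC _ _ hk s t hs ht]⟩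
    · refine ⟨t, S.h k ν s * b, ht, mul_mem (S.h_mem_Hnu hk (by omega) hs) hb, ?_⟩
      rw [← mul_assoc, S.h_comm hn hC hk hrν hs ht, mul_assoc]

theorem Hnu_step' {ν : Fin n} {r : ℕ} (hrn : r < n) (hrν : (⟨r, hrn⟩ : Fin n) = ν) :
    S.Hnu ν (r + 1) ≤ S.Hnu ν r := by
  apply Subgroup.closure_mono
  rintro g ⟨k, t, hk, hkr, ht, rfl⟩
  refine ⟨k, t, hk, ?_, ht, rfl⟩
  have : k.val ≠ r := by
    intro e
    apply hk
    rw [← hrν]
    exact Fin.ext e
  omega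

section phi

variable (φ : Γ →* Matrix (Fin n) (Fin n) K)
  (hφ : ∀ i j, i ≠ j → ∀ t, φ (S.x i j t) = Matrix.transvection i j t)

include hn hC hφ in
theorem Hnu_shape {ν : Fin n} {r : ℕ} {b : Γ} (hb : b ∈ S.Hnu ν r) :
    ∀ k : Fin n, r ≤ k.val → k ≠ ν → φ b k k = 1 := by
  refine S.Hnu_induction_left hC (P := fun b => ∀ k : Fin n, r ≤ k.val → k ≠ ν → φ b k k = 1) ?_ ?_ hb
  · intro k _ _
    rw [map_one, Matrix.one_apply_eq]
  · rintro k s g hk hkr hs hg ih k' hk' hk'ν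
    rw [map_mul, S.phi_h φ hφ hn hk hs, Matrix.diagonal_mul, ih k' hk' hk'ν, mul_one]
    unfold hA
    have : k' ≠ k := by
      intro e
      rw [e] at hk'
      omega
    rw [if_neg this, if_neg hk'ν]

include hn hC hφ in
theorem Hnu_inj {ν : Fin n} : ∀ (r : ℕ), r ≤ n → ∀ g ∈ S.Hnu ν r, φ g = 1 → g = 1 := by
  intro r
  induction r with
  | zero =>
    intro _ g hg _
    refine S.Hnu_induction_left hC (P := fun g => g = 1) rfl ?_ hg
    rintro k s g hk hkr hs hg ih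
    omega
  | succ r ih =>
    intro hr g hg hφg
    have hrn : r < n := by omega
    by_cases hrν : (⟨r, hrn⟩ : Fin n) = ν
    · exact ih (by omega) g (S.Hnu_step' hrn hrν hg) hφg
    · obtain ⟨t, b, ht, hb, rfl⟩ := S.Hnu_step hn hC hrn hrν hg
      have h1 := S.Hnu_shape hn hC φ hφ hb ⟨r, hrn⟩ (le_refl _) hrν
      have e := congrFun (congrFun hφg ⟨r, hrn⟩) ⟨r, hrn⟩
      rw [map_mul, S.phi_h φ hφ hn hrν ht, Matrix.diagonal_mul, h1, mul_one, Matrix.one_apply_eq] at e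
      unfold hA at e
      rw [if_pos rfl] at e
      rw [e, S.h_one hrν, one_mul] at hφg ⊢
      exact ih (by omega) b hb hφg

include hn hC hφ in
/-- the homomorphism to the matrices is injective on `H̃`. -/
theorem Ht_inj {g : Γ} (hg : g ∈ S.Ht) (h : φ g = 1) : g = 1 := by
  have h0 : 0 < n := by omega
  exact S.Hnu_inj hn hC φ hφ (ν := ⟨0, h0⟩) n (le_refl _) g (S.Ht_le_Hnu hn hC _ hg) h

end phi

end relC

section main

variable (φ : Γ →* Matrix (Fin n) (Fin n) K)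
  (hφ : ∀ i j, i ≠ j → ∀ t, φ (S.x i j t) = Matrix.transvection i j t)

include hφ in
/-- **over a finite field the homomorphism to the matrices is injective.** -/
theorem ker_trivial [Finite K] (hn : 3 ≤ n)
    (hgen : Subgroup.closure {g | ∃ (i j : Fin n) (t : K), i ≠ j ∧ g = S.x i j t} = ⊤) {c : Γ}
    (hc : φ c = 1) : c = 1 := by
  obtain ⟨m, rfl⟩ : ∃ m, n = m + 1 := ⟨n - 1, by omega⟩
  have hC : ∀ p q : Fin (m + 1), p ≠ q → ∀ t u : K, t ≠ 0 → u ≠ 0 →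
      S.h p q t * S.h p q u = S.h p q (t * u) :=
    fun p q hpq t u ht hu => S.h_mul_of_finite hn hgen hpq ht hu
  obtain ⟨hcW, hcen⟩ := S.ker_central φ hφ hn hgen hc
  haveI := S.HtW_normal hn
  obtain ⟨σ, a, hM, hσ⟩ := S.exists_cox hn hcW
  have h1 : φ c = φ 1 := by rw [hc, map_one]
  obtain ⟨_, _, hσ1⟩ := S.mon_ker φ hφ hn hgen hM (one_mem _) h1
  have hσ2 : σ = 1 := Equiv.ext hσ1
  exact S.Ht_inj hn hC φ hφ (hσ hσ2) hc

end main

end SD

end Cfsg.Agent.Helper7.Sl
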