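import Mathlib
import Cfsg.Agent.Helper7.Transvections
import Cfsg.Agent.Helper7.SlL

set_option autoImplicit false
set_option linter.unusedSectionVars false
set_option linter.unusedVariables false

/-!
# The Steinberg presentation of `SL_n` over a finite field
-/

namespace Cfsg.Agent.Helper7.Sl

open Matrix

section mat

variable {n : ℕ} {K : Type*} [Field K]

theorem slT_comm {i j k l : Fin n} (hij : i ≠ j) (hkl : k ≠ l) (hil : i ≠ l) (hjk : j ≠ k) (t u : K) :
    (SpecialLinearGroup.transvection hij t : SpecialLinearGroup (Fin n) K) *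
        SpecialLinearGroup.transvection hkl u =
      SpecialLinearGroup.transvection hkl u * SpecialLinearGroup.transvection hij t := by
  apply Subtype.ext
  change (SpecialLinearGroup.transvection hij t).1 * (SpecialLinearGroup.transvection hkl u).1 =
    (SpecialLinearGroup.transvection hkl u).1 * (SpecialLinearGroup.transvection hij t).1
  rw [SpecialLinearGroup.transvection_coe, SpecialLinearGroup.transvection_coe]
  have h1 : single i j t * single k l u = 0 := single_mul_single_of_ne _ _ _ _ hjk _
  have h2 : single k l u * single i j t = 0 := single_mul_single_of_ne _ _ _ _ hil.symm _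
  simp only [mul_add, add_mul, mul_one, one_mul, h1, h2, add_zero]
  abel

theorem slT_comm3 {i j l : Fin n} (hij : i ≠ j) (hjl : j ≠ l) (hil : i ≠ l) (t u : K) :
    (SpecialLinearGroup.transvection hij t : SpecialLinearGroup (Fin n) K) *
        SpecialLinearGroup.transvection hjl u * (SpecialLinearGroup.transvection hij t)⁻¹ *
        (SpecialLinearGroup.transvection hjl u)⁻¹ =
      SpecialLinearGroup.transvection hil (t * u) := by
  have key : (SpecialLinearGroup.transvection hij t : SpecialLinearGroup (Fin n) K) *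
        SpecialLinearGroup.transvection hjl u =
      SpecialLinearGroup.transvection hil (t * u) * SpecialLinearGroup.transvection hjl u *
        SpecialLinearGroup.transvection hij t := by
    apply Subtype.ext
    change (SpecialLinearGroup.transvection hij t).1 * (SpecialLinearGroup.transvection hjl u).1 =
      (SpecialLinearGroup.transvection hil (t * u)).1 * (SpecialLinearGroup.transvection hjl u).1 *
        (SpecialLinearGroup.transvection hij t).1
    rw [SpecialLinearGroup.transvection_coe, SpecialLinearGroup.transvection_coe,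
      SpecialLinearGroup.transvection_coe]
    have h1 : single i j t * single j l u = single i l (t * u) := single_mul_single_same _ _ _ _ _
    have h2 : single i l (t * u) * single j l u = 0 := single_mul_single_of_ne _ _ _ _ hjl.symm _
    have h3 : single j l u * single i j t = 0 := single_mul_single_of_ne _ _ _ _ hil.symm _
    have h4 : single i l (t * u) * single i j t = 0 := single_mul_single_of_ne _ _ _ _ hil.symm _
    simp only [mul_add, add_mul, mul_one, one_mul, h1, h2, h3, h4, add_zero]
    abel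
  rw [key]
  group

end mat

section pres

variable {K : Type*} [Field K] (n : ℕ)

/-- the index type of the generators. -/
abbrev RootIdx (n : ℕ) := {ij : Fin n × Fin n // ij.1 ≠ ij.2}

/-- the images of the generators in `SL_n`. -/
def genSL (p : RootIdx n × K) : SpecialLinearGroup (Fin n) K :=
  SpecialLinearGroup.transvection p.1.2 p.2

/-- the Steinberg relators. -/
def stRels (K : Type*) [Field K] (n : ℕ) : Set (FreeGroup (RootIdx n × K)) :=
  {g : FreeGroup ({ij : Fin n × Fin n // ij.1 ≠ ij.2} × K) | ∃ (a : {ij : Fin n × Fin n // ij.1 ≠ ij.2}) (t u : K),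
      g = FreeGroup.of (a, t) * FreeGroup.of (a, u) * (FreeGroup.of (a, t + u))⁻¹} ∪
    {g | ∃ (a b : {ij : Fin n × Fin n // ij.1 ≠ ij.2}) (t u : K), a.1.1 ≠ b.1.2 ∧ a.1.2 ≠ b.1.1 ∧
      g = FreeGroup.of (a, t) * FreeGroup.of (b, u) * (FreeGroup.of (a, t))⁻¹ * (FreeGroup.of (b, u))⁻¹} ∪
    {g | ∃ (a b : {ij : Fin n × Fin n // ij.1 ≠ ij.2}) (h : a.1.1 ≠ b.1.2) (t u : K), a.1.2 = b.1.1 ∧
      g = FreeGroup.of (a, t) * FreeGroup.of (b, u) * (FreeGroup.of (a, t))⁻¹ * (FreeGroup.of (b, u))⁻¹ *
        (FreeGroup.of (⟨(a.1.1, b.1.2), h⟩, t * u))⁻¹}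

theorem lift_genSL_rels : ∀ r ∈ stRels K n, FreeGroup.lift (genSL (K := K) n) r = 1 := by
  intro r hr
  rcases hr with (⟨a, t, u, rfl⟩ | ⟨a, b, t, u, h1, h2, rfl⟩) | ⟨a, b, h, t, u, h2, rfl⟩
  · rw [map_mul, map_mul, map_inv, FreeGroup.lift_apply_of, FreeGroup.lift_apply_of, FreeGroup.lift_apply_of]
    unfold genSL
    rw [mul_inv_eq_one]
    exact (SpecialLinearGroup.transvection_add a.2 t u).symm
  · rw [map_mul, map_mul, map_mul, map_inv, map_inv, FreeGroup.lift_apply_of, FreeGroup.lift_apply_of]
    unfold genSL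
    rw [slT_comm a.2 b.2 h1 h2 t u]
    group
  · obtain ⟨⟨i, j⟩, hij⟩ := a
    obtain ⟨⟨k, l⟩, hkl⟩ := b
    simp only at h h2 hij hkl
    subst h2
    rw [map_mul, map_mul, map_mul, map_mul, map_inv, map_inv, map_inv, FreeGroup.lift_apply_of,
      FreeGroup.lift_apply_of, FreeGroup.lift_apply_of]
    unfold genSL
    rw [mul_inv_eq_one]
    exact slT_comm3 hij hkl h t u

/-- the homomorphism from the presented group to `SL_n`. -/
noncomputable def toSL : PresentedGroup (stRels K n) →* SpecialLinearGroup (Fin n) K :=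
  PresentedGroup.toGroup (lift_genSL_rels n)

theorem toSL_of (p : RootIdx n × K) : toSL n (PresentedGroup.of p) = genSL n p :=
  PresentedGroup.toGroup.of (lift_genSL_rels n)

/-- the homomorphism from the presented group to the matrices. -/
noncomputable def toMat : PresentedGroup (stRels K n) →* Matrix (Fin n) (Fin n) K where
  toFun g := (toSL n g).1
  map_one' := by rw [map_one]; rfl
  map_mul' a b := by rw [map_mul]; rfl

/-- the root elements of the presented group. -/
noncomputable def px (i j : Fin n) (t : K) : PresentedGroup (stRels K n) :=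
  if h : i ≠ j then PresentedGroup.of (⟨(i, j), h⟩, t) else 1

theorem px_of {i j : Fin n} (h : i ≠ j) (t : K) :
    px n i j t = (PresentedGroup.of (⟨(i, j), h⟩, t) : PresentedGroup (stRels K n)) := dif_pos h

/-- the presented group carries the Steinberg relations. -/
noncomputable def presSD : SD n K (PresentedGroup (stRels K n)) where
  x := px n
  add := by
    intro i j hij t u
    rw [px_of n hij, px_of n hij, px_of n hij]
    have h : FreeGroup.of ((⟨(i, j), hij⟩ : RootIdx n), t) * FreeGroup.of ((⟨(i, j), hij⟩ : RootIdx n), u) *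
        (FreeGroup.of ((⟨(i, j), hij⟩ : RootIdx n), t + u))⁻¹ ∈ stRels K n :=
      Or.inl (Or.inl ⟨_, t, u, rfl⟩)
    have e := PresentedGroup.one_of_mem h
    rw [map_mul, map_mul, map_inv, mul_inv_eq_one] at e
    exact e
  comm := by
    intro i j k l hij hkl hil hjk t u
    rw [px_of n hij, px_of n hkl]
    have h : FreeGroup.of ((⟨(i, j), hij⟩ : RootIdx n), t) * FreeGroup.of ((⟨(k, l), hkl⟩ : RootIdx n), u) *
        (FreeGroup.of ((⟨(i, j), hij⟩ : RootIdx n), t))⁻¹ *
        (FreeGroup.of ((⟨(k, l), hkl⟩ : RootIdx n), u))⁻¹ ∈ stRels K n :=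
      Or.inl (Or.inr ⟨_, _, t, u, hil, hjk, rfl⟩)
    have e := PresentedGroup.one_of_mem h
    rw [map_mul, map_mul, map_mul, map_inv, map_inv, mul_inv_eq_one, mul_inv_eq_iff_eq_mul] at e
    exact e
  comm3 := by
    intro i j l hij hjl hil t u
    rw [px_of n hij, px_of n hjl, px_of n hil]
    have h : FreeGroup.of ((⟨(i, j), hij⟩ : RootIdx n), t) * FreeGroup.of ((⟨(j, l), hjl⟩ : RootIdx n), u) *
        (FreeGroup.of ((⟨(i, j), hij⟩ : RootIdx n), t))⁻¹ *
        (FreeGroup.of ((⟨(j, l), hjl⟩ : RootIdx n), u))⁻¹ *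
        (FreeGroup.of ((⟨(i, l), hil⟩ : RootIdx n), t * u))⁻¹ ∈ stRels K n :=
      Or.inr ⟨⟨(i, j), hij⟩, ⟨(j, l), hjl⟩, hil, t, u, rfl, rfl⟩
    have e := PresentedGroup.one_of_mem h
    rw [map_mul, map_mul, map_mul, map_mul, map_inv, map_inv, map_inv, mul_inv_eq_one] at e
    exact e

theorem toMat_px {i j : Fin n} (hij : i ≠ j) (t : K) :
    toMat n ((presSD (K := K) n).x i j t) = Matrix.transvection i j t := by
  change (toSL n (px n i j t)).1 = _
  rw [px_of n hij, toSL_of]
  rfl

theorem presSD_gen :
    Subgroup.closure {g | ∃ (i j : Fin n) (t : K), i ≠ j ∧ g = (presSD (K := K) n).x i j t} = ⊤ := by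
  rw [eq_top_iff, ← PresentedGroup.closure_range_of, Subgroup.closure_le]
  rintro _ ⟨⟨⟨⟨i, j⟩, hij⟩, t⟩, rfl⟩
  apply Subgroup.subset_closure
  exact ⟨i, j, t, hij, (px_of n hij t).symm⟩

/-- **the Steinberg presentation of `SL_n` over a finite field.** -/
theorem steinberg_iso [Finite K] (hn : 3 ≤ n) :
    ∃ e : PresentedGroup (stRels K n) ≃* SpecialLinearGroup (Fin n) K,
      ∀ (a : RootIdx n) (t : K),
        ((e (PresentedGroup.of (a, t)) : Matrix (Fin n) (Fin n) K)) = Matrix.transvection a.1.1 a.1.2 t := by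
  have hinj : Function.Injective (toSL (K := K) n) := by
    rw [injective_iff_map_eq_one]
    intro g hg
    have h1 : toMat n g = 1 := by
      change (toSL n g).1 = 1
      rw [hg]
      rfl
    exact (presSD (K := K) n).ker_trivial (toMat n) (fun i j hij t => toMat_px n hij t) hn (presSD_gen n) h1
  have hsurj : Function.Surjective (toSL (K := K) n) := by
    haveI : Nontrivial (Fin n) := Fin.nontrivial_iff_two_le.mpr (by omega)
    intro M
    refine Cfsg.Agent.Helper7.Transv.transvection_induction (fun M => ∃ g, toSL (K := K) n g = M) ?_ ?_ M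
    · intro i j hij a
      exact ⟨PresentedGroup.of (⟨(i, j), hij⟩, a), toSL_of n _⟩
    · rintro A B ⟨a, rfl⟩ ⟨b, rfl⟩
      exact ⟨a * b, map_mul _ _ _⟩
  refine ⟨MulEquiv.ofBijective (toSL n) ⟨hinj, hsurj⟩, ?_⟩
  intro a t
  have e : (MulEquiv.ofBijective (toSL n) ⟨hinj, hsurj⟩) (PresentedGroup.of (a, t)) =
      toSL (K := K) n (PresentedGroup.of (a, t)) := rfl
  rw [e, toSL_of]
  rfl

end pres

end Cfsg.Agent.Helper7.Sl
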