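import Mathlib

set_option autoImplicit false
set_option linter.unusedSectionVars false
set_option linter.unusedVariables false

/-!
Central extensions of a perfect group: conjugation by lifts, the commutator of lifts, and the elements
all of whose lifts commute with all lifts of a given element.
-/

namespace Cfsg.Agent.Helper7.Sc

/-- A central extension `ψ : E → Γ` of a perfect group `Γ`. -/
structure CExt (E Γ : Type*) [Group E] [Group Γ] where
  /-- the projection -/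
  ψ : E →* Γ
  surj : Function.Surjective ψ
  central : ψ.ker ≤ Subgroup.center E
  perfect : commutator Γ = ⊤

variable {E Γ : Type*} [Group E] [Group Γ] (C : CExt E Γ)

namespace CExt

/-- A chosen lift. -/
noncomputable def lf (d : Γ) : E := Function.surjInv C.surj d

theorem ψ_lf (d : Γ) : C.ψ (C.lf d) = d := Function.surjInv_eq C.surj d

theorem ker_comm {z : E} (hz : C.ψ z = 1) (x : E) : z * x = x * z :=
  (Subgroup.mem_center_iff.mp (C.central (MonoidHom.mem_ker.mpr hz)) x).symm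

/-- Conjugation by a lift of `d`. -/
noncomputable def kap (d : Γ) : MulAut E := MulAut.conj (C.lf d)

theorem kap_apply (d : Γ) (x : E) : C.kap d x = C.lf d * x * (C.lf d)⁻¹ := rfl

theorem kap_eq {d : Γ} {a : E} (ha : C.ψ a = d) (x : E) : C.kap d x = a * x * a⁻¹ := by
  have hz : C.ψ ((C.lf d)⁻¹ * a) = 1 := by rw [map_mul, map_inv, C.ψ_lf, ha, inv_mul_cancel]
  have hcomm := C.ker_comm hz x
  rw [kap_apply]
  have e : a * x * a⁻¹ = C.lf d * (((C.lf d)⁻¹ * a) * x) * ((C.lf d)⁻¹ * a)⁻¹ * (C.lf d)⁻¹ := by group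
  rw [e, hcomm]
  group

theorem kap_ψ (a x : E) : C.kap (C.ψ a) x = a * x * a⁻¹ := C.kap_eq rfl x

theorem ψ_kap (d : Γ) (x : E) : C.ψ (C.kap d x) = d * C.ψ x * d⁻¹ := by
  rw [kap_apply, map_mul, map_mul, map_inv, C.ψ_lf]

theorem kap_mul (d d' : Γ) (x : E) : C.kap (d * d') x = C.kap d (C.kap d' x) := by
  have h : C.ψ (C.lf d * C.lf d') = d * d' := by rw [map_mul, C.ψ_lf, C.ψ_lf]
  rw [C.kap_eq h, kap_apply, kap_apply]
  group

theorem kap_one (x : E) : C.kap 1 x = x := by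
  rw [C.kap_eq (map_one C.ψ)]
  group

theorem kap_inv_kap (d : Γ) (x : E) : C.kap d⁻¹ (C.kap d x) = x := by
  rw [← kap_mul, inv_mul_cancel, kap_one]

theorem kap_kap_inv (d : Γ) (x : E) : C.kap d (C.kap d⁻¹ x) = x := by
  rw [← kap_mul, mul_inv_cancel, kap_one]

theorem kap_ker {z : E} (hz : C.ψ z = 1) (d : Γ) : C.kap d z = z := by
  rw [kap_apply, ← C.ker_comm hz, mul_inv_cancel_right]

/-- The commutator of lifts. -/
noncomputable def cm (d d' : Γ) : E := C.lf d * C.lf d' * (C.lf d)⁻¹ * (C.lf d')⁻¹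

theorem cm_eq_kap {d d' : Γ} {b : E} (hb : C.ψ b = d') : C.cm d d' = C.kap d b * b⁻¹ := by
  have hz : C.ψ ((C.lf d')⁻¹ * b) = 1 := by rw [map_mul, map_inv, C.ψ_lf, hb, inv_mul_cancel]
  have e : b = C.lf d' * ((C.lf d')⁻¹ * b) := by group
  have h1 : C.kap d b = C.kap d (C.lf d') * ((C.lf d')⁻¹ * b) := by
    conv_lhs => rw [e]
    rw [map_mul, C.kap_ker hz]
  rw [h1]
  unfold cm
  rw [kap_apply]
  group

theorem cm_eq {d d' : Γ} {a b : E} (ha : C.ψ a = d) (hb : C.ψ b = d') :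
    C.cm d d' = a * b * a⁻¹ * b⁻¹ := by
  rw [C.cm_eq_kap hb, C.kap_eq ha]

theorem ψ_cm (d d' : Γ) : C.ψ (C.cm d d') = d * d' * d⁻¹ * d'⁻¹ := by
  unfold cm
  rw [map_mul, map_mul, map_mul, map_inv, map_inv, C.ψ_lf, C.ψ_lf]

theorem ψ_cm_of_comm {d d' : Γ} (h : d * d' = d' * d) : C.ψ (C.cm d d') = 1 := by
  rw [ψ_cm, h]
  group

theorem cm_inv (d d' : Γ) : (C.cm d d')⁻¹ = C.cm d' d := by
  unfold cm
  group

theorem cm_self (d : Γ) : C.cm d d = 1 := by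
  unfold cm
  group

theorem cm_mul_right (d d' d'' : Γ) :
    C.cm d (d' * d'') = C.cm d d' * C.kap d' (C.cm d d'') := by
  have h : C.ψ (C.lf d' * C.lf d'') = d' * d'' := by rw [map_mul, C.ψ_lf, C.ψ_lf]
  rw [C.cm_eq (C.ψ_lf d) h, kap_apply]
  unfold cm
  group

theorem cm_mul_right_of_comm {d d'' : Γ} (h : d * d'' = d'' * d) (d' : Γ) :
    C.cm d (d' * d'') = C.cm d d' * C.cm d d'' := by
  rw [cm_mul_right, C.kap_ker (C.ψ_cm_of_comm h)]

theorem kap_cm (g d d' : Γ) : C.kap g (C.cm d d') = C.cm (g * d * g⁻¹) (g * d' * g⁻¹) := by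
  have h1 : C.ψ (C.lf g * C.lf d * (C.lf g)⁻¹) = g * d * g⁻¹ := by
    rw [map_mul, map_mul, map_inv, C.ψ_lf, C.ψ_lf]
  have h2 : C.ψ (C.lf g * C.lf d' * (C.lf g)⁻¹) = g * d' * g⁻¹ := by
    rw [map_mul, map_mul, map_inv, C.ψ_lf, C.ψ_lf]
  rw [C.cm_eq h1 h2, kap_apply]
  unfold cm
  group

/-- All lifts of `d` commute with all lifts of `d'`. -/
def LC (d d' : Γ) : Prop := ∀ a b : E, C.ψ a = d → C.ψ b = d' → a * b = b * a

theorem LC_iff (d d' : Γ) : C.LC d d' ↔ C.cm d d' = 1 := by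
  constructor
  · intro h
    have := h _ _ (C.ψ_lf d) (C.ψ_lf d')
    unfold cm
    rw [this]
    group
  · intro h a b ha hb
    rw [C.cm_eq ha hb] at h
    calc a * b = (a * b * a⁻¹ * b⁻¹) * (b * a) := by group
      _ = b * a := by rw [h, one_mul]

theorem LC.symm {d d' : Γ} (h : C.LC d d') : C.LC d' d :=
  fun a b ha hb => (h b a hb ha).symm

theorem LC.kap_eq {d d' : Γ} (h : C.LC d d') {b : E} (hb : C.ψ b = d') : C.kap d b = b := by
  rw [kap_apply, h _ _ (C.ψ_lf d) hb, mul_inv_cancel_right]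

/-- The elements all of whose lifts commute with all lifts of `d'`. -/
def LCen (d' : Γ) : Subgroup Γ where
  carrier := {d | C.LC d d'}
  one_mem' := by
    intro a b ha _
    exact C.ker_comm ha b
  mul_mem' := by
    intro d₁ d₂ h₁ h₂ a b ha hb
    have hz : C.ψ ((C.lf d₁ * C.lf d₂)⁻¹ * a) = 1 := by
      rw [map_mul, map_inv, map_mul, C.ψ_lf, C.ψ_lf, ha, inv_mul_cancel]
    have e : a = C.lf d₁ * C.lf d₂ * ((C.lf d₁ * C.lf d₂)⁻¹ * a) := by group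
    have c1 : Commute (C.lf d₁) b := h₁ _ _ (C.ψ_lf d₁) hb
    have c2 : Commute (C.lf d₂) b := h₂ _ _ (C.ψ_lf d₂) hb
    have c3 : Commute ((C.lf d₁ * C.lf d₂)⁻¹ * a) b := C.ker_comm hz b
    rw [e]
    exact ((c1.mul_left c2).mul_left c3)
  inv_mem' := by
    intro d h a b ha hb
    have ha' : C.ψ a⁻¹ = d := by rw [map_inv, ha, inv_inv]
    have c : Commute a⁻¹ b := h _ _ ha' hb
    have := c.inv_left
    rwa [inv_inv] at this

theorem mem_LCen {d d' : Γ} : d ∈ C.LCen d' ↔ C.LC d d' := Iff.rfl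

theorem comm_central_mul {p q c₁ c₂ : E} (h1 : ∀ x, c₁ * x = x * c₁) (h2 : ∀ x, c₂ * x = x * c₂) :
    (p * c₁) * (q * c₂) * (p * c₁)⁻¹ * (q * c₂)⁻¹ = p * q * p⁻¹ * q⁻¹ := by
  have e1 : (p * c₁) * (q * c₂) * (p * c₁)⁻¹ * (q * c₂)⁻¹ =
      p * (c₁ * (q * c₂)) * c₁⁻¹ * p⁻¹ * (q * c₂)⁻¹ := by group
  rw [e1, h1]
  have e2 : p * (q * c₂ * c₁) * c₁⁻¹ * p⁻¹ * (q * c₂)⁻¹ = p * q * (c₂ * p⁻¹) * c₂⁻¹ * q⁻¹ := by
    group
  rw [e2, h2]
  group

/-- Lifts of central elements are central. -/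
theorem lift_central {z : Γ} (hz : z ∈ Subgroup.center Γ) {e : E} (he : C.ψ e = z) (x : E) :
    e * x = x * e := by
  have hzc : ∀ g : Γ, z * g = g * z := fun g => (Subgroup.mem_center_iff.mp hz g).symm
  have key : commutator Γ ≤ C.LCen z := by
    rw [commutator_def, Subgroup.commutator_le]
    intro g₁ _ g₂ _
    rw [mem_LCen]
    intro a b ha hb
    -- the commutator of the chosen lifts
    obtain ⟨p, hp⟩ : ∃ p, p = C.lf g₁ := ⟨_, rfl⟩
    obtain ⟨q, hq⟩ : ∃ q, q = C.lf g₂ := ⟨_, rfl⟩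
    have hpψ : C.ψ p = g₁ := by rw [hp, C.ψ_lf]
    have hqψ : C.ψ q = g₂ := by rw [hq, C.ψ_lf]
    have hc1 : C.ψ (p⁻¹ * (b * p * b⁻¹)) = 1 := by
      rw [map_mul, map_inv, map_mul, map_mul, map_inv, hb, hpψ, hzc g₁]
      group
    have hc2 : C.ψ (q⁻¹ * (b * q * b⁻¹)) = 1 := by
      rw [map_mul, map_inv, map_mul, map_mul, map_inv, hb, hqψ, hzc g₂]
      group
    have hb1 : b * (p * q * p⁻¹ * q⁻¹) * b⁻¹ = p * q * p⁻¹ * q⁻¹ := by
      have e : b * (p * q * p⁻¹ * q⁻¹) * b⁻¹ =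
          (p * (p⁻¹ * (b * p * b⁻¹))) * (q * (q⁻¹ * (b * q * b⁻¹))) *
            (p * (p⁻¹ * (b * p * b⁻¹)))⁻¹ * (q * (q⁻¹ * (b * q * b⁻¹)))⁻¹ := by group
      rw [e]
      exact comm_central_mul (C.ker_comm hc1) (C.ker_comm hc2)
    have hc : Commute b (p * q * p⁻¹ * q⁻¹) := by
      have : b * (p * q * p⁻¹ * q⁻¹) = (b * (p * q * p⁻¹ * q⁻¹) * b⁻¹) * b := by group
      rw [hb1] at this
      exact this
    have hz3 : C.ψ ((p * q * p⁻¹ * q⁻¹)⁻¹ * a) = 1 := by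
      rw [map_mul, map_inv, map_mul, map_mul, map_mul, map_inv, map_inv, hpψ, hqψ, ha,
        commutatorElement_def, inv_mul_cancel]
    have c3 : Commute ((p * q * p⁻¹ * q⁻¹)⁻¹ * a) b := C.ker_comm hz3 b
    have ea : a = (p * q * p⁻¹ * q⁻¹) * ((p * q * p⁻¹ * q⁻¹)⁻¹ * a) := by group
    rw [ea]
    exact (hc.symm.mul_left c3)
  have hx : C.ψ x ∈ C.LCen z := key (by rw [C.perfect]; trivial)
  exact (hx x e rfl he).symm

theorem cm_central_left {z : Γ} (hz : z ∈ Subgroup.center Γ) (d : Γ) : C.cm z d = 1 := by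
  rw [C.cm_eq (C.ψ_lf z) (C.ψ_lf d), C.lift_central hz (C.ψ_lf z)]
  group

theorem cm_mul_central {z : Γ} (hz : z ∈ Subgroup.center Γ) (d d' : Γ) :
    C.cm (d * z) d' = C.cm d d' := by
  have h : C.ψ (C.lf d * C.lf z) = d * z := by rw [map_mul, C.ψ_lf, C.ψ_lf]
  rw [C.cm_eq h (C.ψ_lf d'), C.cm_eq (C.ψ_lf d) (C.ψ_lf d')]
  have e : C.lf d * C.lf z * C.lf d' * (C.lf d * C.lf z)⁻¹ * (C.lf d')⁻¹ =
      C.lf d * (C.lf z * (C.lf d' * (C.lf z)⁻¹)) * (C.lf d)⁻¹ * (C.lf d')⁻¹ := by group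
  rw [e, C.lift_central hz (C.ψ_lf z)]
  group

end CExt

end Cfsg.Agent.Helper7.Sc
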