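import Mathlib
import Cfsg.Agent.Helper7.SlN
import Cfsg.Agent.Helper7.ScA

set_option autoImplicit false
set_option linter.unusedSectionVars false
set_option linter.unusedVariables false

/-!
# Central extensions of a group with the Steinberg relations of type `A`

The commutators of lifts of the root elements: if lifts of commuting root elements commute and the
commutator of lifts of `x_ih(a)`, `x_hj(b)` depends on `a b` only, the extension carries the Steinberg
relations.  Both hold when there are at least five indices, and for four indices when the lifts of root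
elements with disjoint indices commute.
-/

namespace Cfsg.Agent.Helper7.Sl

open Cfsg.Agent.Helper7.Sc

section cext

variable {E Γ : Type*} [Group E] [Group Γ] (C : CExt E Γ)

theorem cm_mul_left (a b c : Γ) : C.cm (a * b) c = C.kap a (C.cm b c) * C.cm a c := by
  have h : C.ψ (C.lf a * C.lf b) = a * b := by rw [map_mul, C.ψ_lf, C.ψ_lf]
  rw [C.cm_eq h (C.ψ_lf c), C.kap_apply]
  unfold CExt.cm
  group

/-- If `d` commutes with `A` and `B` then the lifts of `d` commute with the lifts of their commutator. -/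
theorem lc_of_comm_cm' {d A B d' : Γ} (h1 : d * A = A * d) (h2 : d * B = B * d)
    (h : A * B * A⁻¹ * B⁻¹ = d') : C.LC d d' := by
  rw [C.LC_iff]
  have hl : C.ψ (C.cm A B) = d' := by rw [C.ψ_cm, h]
  rw [C.cm_eq_kap hl, C.kap_cm]
  have e1 : d * A * d⁻¹ = A := by rw [h1]; group
  have e2 : d * B * d⁻¹ = B := by rw [h2]; group
  rw [e1, e2, mul_inv_cancel]

/-- the commutator of lifts of commuting elements is fixed by all conjugations by lifts. -/
theorem kap_cm_of_comm {d d' : Γ} (h : d * d' = d' * d) (g : Γ) : C.kap g (C.cm d d') = C.cm d d' :=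
  C.kap_ker (C.ψ_cm_of_comm h) g

/-- the commutator of lifts of commuting elements commutes with everything. -/
theorem cm_central {d d' : Γ} (h : d * d' = d' * d) (x : E) : C.cm d d' * x = x * C.cm d d' :=
  C.ker_comm (C.ψ_cm_of_comm h) x

end cext

/-- the group identity behind the independence of the middle index. -/
theorem step_two {E : Type*} [Group E] {U V W P Q R R' : E} (hP : P = U * V * U⁻¹ * V⁻¹)
    (hQ : Q = V * W * V⁻¹ * W⁻¹) (hR : R = U * Q * U⁻¹ * Q⁻¹) (hR' : R' = P * W * P⁻¹ * W⁻¹)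
    (hUW : U * W = W * U) (hPQ : P * Q = Q * P) (hQR : Q * R = R * Q) : R' = R := by
  have e1a : P * V * U = U * V := by rw [hP]; group
  have e1b : Q * W * V = V * W := by rw [hQ]; group
  have e1c : R * Q * U = U * Q := by rw [hR]; group
  have e1d : R' * W * P = P * W := by rw [hR']; group
  have h1 : U * V * W = P * Q * W * V * U := by
    calc U * V * W = P * V * (U * W) := by rw [← e1a]; group
      _ = P * (V * W) * U := by rw [hUW]; group
      _ = P * Q * W * V * U := by rw [← e1b]; group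
  have h2 : U * V * W = R * Q * W * P * V * U := by
    calc U * V * W = U * (V * W) := by group
      _ = U * Q * W * V := by rw [← e1b]; group
      _ = R * Q * (U * W) * V := by rw [← e1c]; group
      _ = R * Q * W * (U * V) := by rw [hUW]; group
      _ = R * Q * W * P * V * U := by rw [← e1a]; group
  have h3 : P * Q * W = R * Q * W * P := by
    have := h1.symm.trans h2
    exact mul_right_cancel (mul_right_cancel this)
  have h4 : Q * R' = R * Q := by
    have e : Q * R' * (W * P) = R * Q * (W * P) := by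
      calc Q * R' * (W * P) = Q * (R' * W * P) := by group
        _ = Q * (P * W) := by rw [e1d]
        _ = P * Q * W := by rw [← mul_assoc, ← hPQ]
        _ = R * Q * (W * P) := by rw [h3]; group
    exact mul_right_cancel e
  rw [← hQR] at h4
  exact mul_left_cancel h4

section main

variable {n : ℕ} {K : Type*} [Field K] {G E : Type*} [Group G] [Group E] (Sg : SD n K G)
  (C : CExt E G)

/-- lifts of commuting root elements commute. -/
def LCall : Prop :=
  ∀ i j k l : Fin n, i ≠ j → k ≠ l → i ≠ l → j ≠ k → ∀ t u : K, C.LC (Sg.x i j t) (Sg.x k l u)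

/-- with a further index, lifts of commuting root elements commute. -/
theorem lc_mid {i j k l h : Fin n} (hij : i ≠ j) (hkl : k ≠ l) (hil : i ≠ l) (hjk : j ≠ k)
    (hhi : h ≠ i) (hhj : h ≠ j) (hhk : h ≠ k) (hhl : h ≠ l) (t u : K) :
    C.LC (Sg.x i j t) (Sg.x k l u) := by
  have h3 := Sg.comm3 k h l hhk.symm hhl hkl u 1
  rw [mul_one] at h3
  exact lc_of_comm_cm' C (Sg.comm i j k h hij hhk.symm hhi.symm hjk t u)
    (Sg.comm i j h l hij hhl hil hhj.symm t 1) h3

theorem exists_not_mem (s : Finset (Fin n)) (hs : s.card < n) : ∃ h, h ∉ s := by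
  by_contra hcon
  push Not at hcon
  have : s = Finset.univ := Finset.eq_univ_iff_forall.mpr hcon
  rw [this, Finset.card_univ, Fintype.card_fin] at hs
  omega

/-- a further index, outside three given ones. -/
theorem exists_fourth (hn : 4 ≤ n) (i j k : Fin n) : ∃ h : Fin n, h ≠ i ∧ h ≠ j ∧ h ≠ k := by
  obtain ⟨h, hh⟩ := exists_not_mem ({i, j, k} : Finset (Fin n))
    (lt_of_le_of_lt Finset.card_le_three (by omega))
  simp only [Finset.mem_insert, Finset.mem_singleton, not_or] at hh
  exact ⟨h, hh.1, hh.2.1, hh.2.2⟩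

/-- a further index, outside four given ones. -/
theorem exists_fifth (hn : 5 ≤ n) (i j k l : Fin n) :
    ∃ h : Fin n, h ≠ i ∧ h ≠ j ∧ h ≠ k ∧ h ≠ l := by
  obtain ⟨h, hh⟩ := exists_not_mem ({i, j, k, l} : Finset (Fin n))
    (lt_of_le_of_lt Finset.card_le_four (by omega))
  simp only [Finset.mem_insert, Finset.mem_singleton, not_or] at hh
  exact ⟨h, hh.1, hh.2.1, hh.2.2.1, hh.2.2.2⟩

/-- the lifts of a root element commute with each other. -/
theorem lc_same (hn : 3 ≤ n) {i j : Fin n} (hij : i ≠ j) (t u : K) :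
    C.LC (Sg.x i j t) (Sg.x i j u) := by
  obtain ⟨h, hhi, hhj⟩ := SD.exists_third hn i j
  exact lc_mid Sg C hij hij hij hij.symm hhi hhj hhi hhj t u

/-- with at least five indices, lifts of commuting root elements commute. -/
theorem lcall_of_five (hn : 5 ≤ n) : LCall Sg C := by
  intro i j k l hij hkl hil hjk t u
  obtain ⟨h, hhi, hhj, hhk, hhl⟩ := exists_fifth hn i j k l
  exact lc_mid Sg C hij hkl hil hjk hhi hhj hhk hhl t u

/-- with at least four indices, it suffices to treat disjoint pairs of indices. -/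
theorem lcall_of_four (hn : 4 ≤ n)
    (hd : ∀ i j k l : Fin n, i ≠ j → k ≠ l → i ≠ k → i ≠ l → j ≠ k → j ≠ l → ∀ t u : K,
      C.LC (Sg.x i j t) (Sg.x k l u)) : LCall Sg C := by
  intro i j k l hij hkl hil hjk t u
  by_cases hik : i = k
  · subst hik
    obtain ⟨h, hhi, hhj, hhl⟩ := exists_fourth hn i j l
    exact lc_mid Sg C hij hkl hil hjk hhi hhj hhi hhl t u
  by_cases hjl : j = l
  · subst hjl
    obtain ⟨h, hhi, hhj, hhk⟩ := exists_fourth hn i j k
    exact lc_mid Sg C hij hkl hil hjk hhi hhj hhk hhj t u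
  exact hd i j k l hij hkl hik hil hjk hjl t u

/-- the commutator of lifts of `x_ih(a)` and `x_hj(b)`. -/
noncomputable def Fm (i h j : Fin n) (a b : K) : E := C.cm (Sg.x i h a) (Sg.x h j b)

theorem ψ_Fm {i h j : Fin n} (hih : i ≠ h) (hhj : h ≠ j) (hij : i ≠ j) (a b : K) :
    C.ψ (Fm Sg C i h j a b) = Sg.x i j (a * b) := by
  unfold Fm
  rw [C.ψ_cm, Sg.comm3 i h j hih hhj hij]

/-- moving the middle index. -/
theorem Fm_move (hL : LCall Sg C) {i h k j : Fin n} (hih : i ≠ h) (hik : i ≠ k) (hij : i ≠ j)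
    (hhk : h ≠ k) (hhj : h ≠ j) (hkj : k ≠ j) (a v b : K) :
    Fm Sg C i h j (a * v) b = Fm Sg C i k j a (v * b) := by
  have hPψ : C.ψ (C.cm (Sg.x i k a) (Sg.x k h v)) = Sg.x i h (a * v) := by
    rw [C.ψ_cm, Sg.comm3 i k h hik hhk.symm hih]
  have hQψ : C.ψ (C.cm (Sg.x k h v) (Sg.x h j b)) = Sg.x k j (v * b) := by
    rw [C.ψ_cm, Sg.comm3 k h j hhk.symm hhj hkj]
  have hR' : Fm Sg C i h j (a * v) b =
      C.cm (Sg.x i k a) (Sg.x k h v) * C.lf (Sg.x h j b) * (C.cm (Sg.x i k a) (Sg.x k h v))⁻¹ *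
        (C.lf (Sg.x h j b))⁻¹ := C.cm_eq hPψ (C.ψ_lf _)
  have hR : Fm Sg C i k j a (v * b) =
      C.lf (Sg.x i k a) * C.cm (Sg.x k h v) (Sg.x h j b) * (C.lf (Sg.x i k a))⁻¹ *
        (C.cm (Sg.x k h v) (Sg.x h j b))⁻¹ := C.cm_eq (C.ψ_lf _) hQψ
  have hRψ : C.ψ (Fm Sg C i k j a (v * b)) = Sg.x i j (a * (v * b)) := ψ_Fm Sg C hik hkj hij _ _
  refine step_two (U := C.lf (Sg.x i k a)) (V := C.lf (Sg.x k h v)) (W := C.lf (Sg.x h j b))
    (P := C.cm (Sg.x i k a) (Sg.x k h v)) (Q := C.cm (Sg.x k h v) (Sg.x h j b)) rfl rfl hR hR' ?_ ?_ ?_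
  · exact hL i k h j hik hhj hij hhk.symm a b _ _ (C.ψ_lf _) (C.ψ_lf _)
  · exact hL i h k j hih hkj hij hhk (a * v) (v * b) _ _ hPψ hQψ
  · exact hL k j i j hkj hij hkj hij.symm (v * b) (a * (v * b)) _ _ hQψ hRψ

/-- with four indices the commutator depends on the product only. -/
theorem Fm_prod (hn : 4 ≤ n) (hL : LCall Sg C) {i h j : Fin n} (hih : i ≠ h) (hhj : h ≠ j)
    (hij : i ≠ j) (a b : K) : Fm Sg C i h j a b = Fm Sg C i h j (a * b) 1 := by
  obtain ⟨k, hki, hkh, hkj⟩ := exists_fourth hn i h j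
  have e1 := Fm_move Sg C hL hih hki.symm hij hkh.symm hhj hkj a 1 b
  have e2 := Fm_move Sg C hL hih hki.symm hij hkh.symm hhj hkj a b 1
  rw [mul_one, one_mul] at e1
  rw [mul_one] at e2
  rw [e1, e2]

/-- with four indices the commutator does not depend on the middle index. -/
theorem Fm_mid (hL : LCall Sg C) {i h k j : Fin n} (hih : i ≠ h) (hik : i ≠ k) (hij : i ≠ j)
    (hhk : h ≠ k) (hhj : h ≠ j) (hkj : k ≠ j) (a b : K) :
    Fm Sg C i h j a b = Fm Sg C i k j a b := by
  have e1 := Fm_move Sg C hL hih hik hij hhk hhj hkj a 1 b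
  rw [mul_one, one_mul] at e1
  exact e1

/-- a chosen third index. -/
noncomputable def mid (hn : 3 ≤ n) (i j : Fin n) : Fin n := Classical.choose (SD.exists_third hn i j)

theorem mid_ne_left (hn : 3 ≤ n) (i j : Fin n) : mid hn i j ≠ i :=
  (Classical.choose_spec (SD.exists_third hn i j)).1

theorem mid_ne_right (hn : 3 ≤ n) (i j : Fin n) : mid hn i j ≠ j :=
  (Classical.choose_spec (SD.exists_third hn i j)).2

/-- the chosen lifts of the root elements. -/
noncomputable def sE (hn : 3 ≤ n) (i j : Fin n) (t : K) : E := Fm Sg C i (mid hn i j) j t 1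

theorem ψ_sE (hn : 3 ≤ n) {i j : Fin n} (hij : i ≠ j) (t : K) :
    C.ψ (sE Sg C hn i j t) = Sg.x i j t := by
  unfold sE
  rw [ψ_Fm Sg C (mid_ne_left hn i j).symm (mid_ne_right hn i j) hij, mul_one]

/-- the commutators of lifts are the chosen lifts. -/
def HF (hn : 3 ≤ n) : Prop :=
  ∀ i h j : Fin n, i ≠ h → h ≠ j → i ≠ j → ∀ a b : K, Fm Sg C i h j a b = sE Sg C hn i j (a * b)

theorem hF_of_four (hn : 4 ≤ n) (hL : LCall Sg C) : HF Sg C (by omega : 3 ≤ n) := by
  intro i h j hih hhj hij a b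
  have hn3 : 3 ≤ n := by omega
  unfold sE
  by_cases hm : h = mid hn3 i j
  · rw [← hm]
    exact Fm_prod Sg C hn hL hih hhj hij a b
  · rw [Fm_mid Sg C hL hih (mid_ne_left hn3 i j).symm hij hm hhj (mid_ne_right hn3 i j) a b]
    exact Fm_prod Sg C hn hL (mid_ne_left hn3 i j).symm (mid_ne_right hn3 i j) hij a b

/-- **the extension carries the Steinberg relations.** -/
theorem exists_SD (hn : 3 ≤ n) (hL : LCall Sg C) (hF : HF Sg C hn) :
    ∃ SE : SD n K E, ∀ i j, i ≠ j → ∀ t, C.ψ (SE.x i j t) = Sg.x i j t := by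
  refine ⟨{ x := sE Sg C hn, add := ?_, comm := ?_, comm3 := ?_ }, fun i j hij t => ψ_sE Sg C hn hij t⟩
  · intro i j hij t u
    have hmi := mid_ne_left hn i j
    have hmj := mid_ne_right hn i j
    have h1 : sE Sg C hn i j (t + u) = sE Sg C hn i j u * sE Sg C hn i j t := by
      unfold sE Fm
      rw [← Sg.add i (mid hn i j) hmi.symm t u, cm_mul_left]
      congr 1
      have hlc := hL i (mid hn i j) i j hmi.symm hij hij hmi t u
      exact hlc.kap_eq C (ψ_sE Sg C hn hij u)
    rw [h1]
    exact hL i j i j hij hij hij hij.symm t u _ _ (ψ_sE Sg C hn hij t) (ψ_sE Sg C hn hij u)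
  · intro i j k l hij hkl hil hjk t u
    exact hL i j k l hij hkl hil hjk t u _ _ (ψ_sE Sg C hn hij t) (ψ_sE Sg C hn hkl u)
  · intro i j l hij hjl hil t u
    rw [← C.cm_eq (ψ_sE Sg C hn hij t) (ψ_sE Sg C hn hjl u)]
    exact hF i j l hij hjl hil t u

end main

end Cfsg.Agent.Helper7.Sl
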