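import Mathlib

set_option autoImplicit false

/-!
Root elements of the orthogonal group of the hyperbolic quadratic form on `F^(n ⊕ n)`, written with
matrix units: the matrices `M i j = E i (bar j) - E j (bar i)` and `T i j t = 1 + t • M i j`.
-/

namespace Cfsg.Agent.Helper7.D4O

open Matrix

variable {n : ℕ} {F : Type*} [Field F]

/-- The index type. -/
abbrev Idx (n : ℕ) : Type := Fin n ⊕ Fin n

/-- The involution of the index type. -/
def bar (i : Idx n) : Idx n := Sum.swap i

@[simp] theorem bar_bar (i : Idx n) : bar (bar i) = i := Sum.swap_swap i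

theorem bar_ne (i : Idx n) : bar i ≠ i := by
  cases i <;> simp [bar]

theorem ne_bar (i : Idx n) : i ≠ bar i := fun h => bar_ne i h.symm

theorem bar_inj {i j : Idx n} : bar i = bar j ↔ i = j := by
  constructor
  · intro h
    have := congrArg bar h
    rwa [bar_bar, bar_bar] at this
  · intro h; rw [h]

theorem bar_eq_iff {i j : Idx n} : bar i = j ↔ i = bar j := by
  constructor
  · intro h; rw [← h, bar_bar]
  · intro h; rw [h, bar_bar]

@[simp] theorem bar_inl (m : Fin n) : bar (Sum.inl m : Idx n) = Sum.inr m := rfl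

@[simp] theorem bar_inr (m : Fin n) : bar (Sum.inr m : Idx n) = Sum.inl m := rfl

/-- Matrix units. -/
def E (a b : Idx n) : Matrix (Idx n) (Idx n) F := Matrix.single a b 1

theorem E_mul (a b c d : Idx n) :
    (E a b : Matrix (Idx n) (Idx n) F) * E c d = if b = c then E a d else 0 := by
  unfold E
  split_ifs with h
  · subst h
    rw [Matrix.single_mul_single_same, mul_one]
  · rw [Matrix.single_mul_single_of_ne _ _ _ _ h]

theorem E_apply (a b x y : Idx n) :
    (E a b : Matrix (Idx n) (Idx n) F) x y = if x = a ∧ y = b then 1 else 0 := by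
  unfold E
  rw [Matrix.single_apply]
  by_cases h : a = x ∧ b = y
  · rw [if_pos h, if_pos ⟨h.1.symm, h.2.symm⟩]
  · rw [if_neg h, if_neg (fun h' => h ⟨h'.1.symm, h'.2.symm⟩)]

/-- The basic skew elements. -/
def M (i j : Idx n) : Matrix (Idx n) (Idx n) F := E i (bar j) - E j (bar i)

theorem M_swap (i j : Idx n) : (M j i : Matrix (Idx n) (Idx n) F) = - M i j := by
  unfold M; rw [neg_sub]

theorem M_self (i : Idx n) : (M i i : Matrix (Idx n) (Idx n) F) = 0 := by
  unfold M; rw [sub_self]

theorem M_transpose (i j : Idx n) :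
    (M i j : Matrix (Idx n) (Idx n) F)ᵀ = M (bar j) (bar i) := by
  unfold M E
  rw [Matrix.transpose_sub, Matrix.transpose_single, Matrix.transpose_single, bar_bar, bar_bar]

theorem E_mul_M (a b k l : Idx n) :
    (E a b : Matrix (Idx n) (Idx n) F) * M k l =
      (if b = k then E a (bar l) else 0) - (if b = l then E a (bar k) else 0) := by
  unfold M
  rw [mul_sub, E_mul, E_mul]

theorem M_mul_E (k l a b : Idx n) :
    (M k l : Matrix (Idx n) (Idx n) F) * E a b =
      (if bar l = a then E k b else 0) - (if bar k = a then E l b else 0) := by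
  unfold M
  rw [sub_mul, E_mul, E_mul]

theorem M_mul (i j k l : Idx n) :
    (M i j : Matrix (Idx n) (Idx n) F) * M k l =
      (if bar j = k then E i (bar l) else 0) - (if bar j = l then E i (bar k) else 0)
        - (if bar i = k then E j (bar l) else 0) + (if bar i = l then E j (bar k) else 0) := by
  unfold M
  rw [sub_mul, mul_sub, mul_sub, E_mul, E_mul, E_mul, E_mul]
  abel

/-- The bracket of two basic skew elements. -/
theorem M_bracket (k l i j : Idx n) :
    (M k l : Matrix (Idx n) (Idx n) F) * M i j - M i j * M k l =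
      (if bar l = i then M k j else 0) - (if bar l = j then M k i else 0)
        - (if bar k = i then M l j else 0) + (if bar k = j then M l i else 0) := by
  rw [M_mul, M_mul]
  have e1 : (bar j = k) = (bar k = j) := by
    apply propext; rw [bar_eq_iff, eq_comm]
  have e2 : (bar j = l) = (bar l = j) := by
    apply propext; rw [bar_eq_iff, eq_comm]
  have e3 : (bar i = k) = (bar k = i) := by
    apply propext; rw [bar_eq_iff, eq_comm]
  have e4 : (bar i = l) = (bar l = i) := by
    apply propext; rw [bar_eq_iff, eq_comm]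
  simp only [e1, e2, e3, e4]
  unfold M
  split_ifs <;> abel

theorem M_sq {i j : Idx n} (h : i ≠ bar j) :
    (M i j : Matrix (Idx n) (Idx n) F) * M i j = 0 := by
  rw [M_mul]
  have h1 : ¬ bar j = i := fun e => h e.symm
  have h2 : ¬ bar j = j := bar_ne j
  have h3 : ¬ bar i = i := bar_ne i
  have h4 : ¬ bar i = j := fun e => h (bar_eq_iff.mp e)
  rw [if_neg h1, if_neg h2, if_neg h3, if_neg h4]
  abel

theorem ite_sub_ite_zero {α : Type*} [AddGroup α] (p q r : Prop) [Decidable p] [Decidable q]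
    [Decidable r] (X Y : α) (h1 : ¬ (p ∧ q)) (h2 : ¬ (p ∧ r)) :
    (if p then ((if q then X else 0) - (if r then Y else 0)) else 0) = 0 := by
  by_cases hp : p
  · rw [if_pos hp, if_neg (fun hq => h1 ⟨hp, hq⟩), if_neg (fun hr => h2 ⟨hp, hr⟩), sub_zero]
  · rw [if_neg hp]

/-- The triple products vanish. -/
theorem M_mul_M_mul_M {i j k l : Idx n} (hij : i ≠ j)
    (h1 : ¬ (i = bar k ∧ j = bar l)) (h2 : ¬ (i = bar l ∧ j = bar k)) :
    (M k l : Matrix (Idx n) (Idx n) F) * M i j * M k l = 0 := by
  rw [M_mul]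
  simp only [add_mul, sub_mul, ite_mul, zero_mul, E_mul_M]
  have c1 : ¬ (bar l = i ∧ bar j = k) := fun h => h2 ⟨h.1.symm, bar_eq_iff.mp h.2⟩
  have c2 : ¬ (bar l = i ∧ bar j = l) := fun h => hij (by rw [← h.1, ← h.2, bar_bar])
  have c3 : ¬ (bar l = j ∧ bar i = k) := fun h => h1 ⟨bar_eq_iff.mp h.2, h.1.symm⟩
  have c4 : ¬ (bar l = j ∧ bar i = l) := fun h => hij (by rw [← h.1, ← h.2, bar_bar])
  have c5 : ¬ (bar k = i ∧ bar j = k) := fun h => hij (by rw [← h.1, ← h.2, bar_bar])
  have c6 : ¬ (bar k = i ∧ bar j = l) := fun h => h1 ⟨h.1.symm, bar_eq_iff.mp h.2⟩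
  have c7 : ¬ (bar k = j ∧ bar i = k) := fun h => hij (by rw [← h.1, ← h.2, bar_bar])
  have c8 : ¬ (bar k = j ∧ bar i = l) := fun h => h2 ⟨bar_eq_iff.mp h.2, h.1.symm⟩
  rw [ite_sub_ite_zero _ _ _ _ _ c1 c2, ite_sub_ite_zero _ _ _ _ _ c3 c4,
    ite_sub_ite_zero _ _ _ _ _ c5 c6, ite_sub_ite_zero _ _ _ _ _ c7 c8]
  abel

/-- The root elements. -/
def T (i j : Idx n) (t : F) : Matrix (Idx n) (Idx n) F := 1 + t • M i j

theorem T_zero (i j : Idx n) : (T i j (0 : F)) = 1 := by
  unfold T; rw [zero_smul, add_zero]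

theorem T_swap (i j : Idx n) (t : F) : T j i t = T i j (-t) := by
  unfold T; rw [M_swap, smul_neg, neg_smul]

theorem T_add {i j : Idx n} (h : i ≠ bar j) (t u : F) : T i j (t + u) = T i j t * T i j u := by
  unfold T
  rw [mul_add, add_mul, add_mul, one_mul, mul_one, one_mul, smul_mul_smul_comm, M_sq h, smul_zero,
    add_zero, add_smul, add_assoc]

theorem T_mul_neg {i j : Idx n} (h : i ≠ bar j) (t : F) : T i j t * T i j (-t) = 1 := by
  rw [← T_add h, add_neg_cancel, T_zero]

theorem T_neg_mul {i j : Idx n} (h : i ≠ bar j) (t : F) : T i j (-t) * T i j t = 1 := by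
  rw [← T_add h, neg_add_cancel, T_zero]

/-- A ring identity for the group commutator of two unipotent elements. -/
theorem comm_of_nilp {R : Type*} [Ring R] (A B : R) (hA : A * A = 0) (hB : B * B = 0)
    (hABA : A * B * A = 0) (hBAB : B * A * B = 0) :
    (1 - A) * (1 - B) * (1 + A) * (1 + B) = 1 + (A * B - B * A) := by
  have e1 : (1 - A) * (1 - B) * (1 + A) =
      1 - B - B * A + A * B + (A * B * A - A * A) := by noncomm_ring
  rw [e1, hABA, hA, sub_zero, add_zero]
  have e2 : (1 - B - B * A + A * B) * (1 + B) =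
      1 + (A * B - B * A) - B * B - B * A * B + A * (B * B) := by noncomm_ring
  rw [e2, hB, hBAB, mul_zero, sub_zero, sub_zero, add_zero]

/-- The commutator of two root elements. -/
theorem T_comm {i j k l : Idx n} (hij : i ≠ j) (hkl : k ≠ l) (hij' : i ≠ bar j) (hkl' : k ≠ bar l)
    (h1 : ¬ (i = bar k ∧ j = bar l)) (h2 : ¬ (i = bar l ∧ j = bar k)) (t u : F) :
    T k l (-u) * T i j (-t) * T k l u * T i j t =
      1 + (u * t) • ((M k l : Matrix (Idx n) (Idx n) F) * M i j - M i j * M k l) := by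
  have hA : (u • (M k l : Matrix (Idx n) (Idx n) F)) * (u • M k l) = 0 := by
    rw [smul_mul_smul_comm, M_sq hkl', smul_zero]
  have hB : (t • (M i j : Matrix (Idx n) (Idx n) F)) * (t • M i j) = 0 := by
    rw [smul_mul_smul_comm, M_sq hij', smul_zero]
  have hABA : (u • (M k l : Matrix (Idx n) (Idx n) F)) * (t • M i j) * (u • M k l) = 0 := by
    rw [smul_mul_smul_comm, smul_mul_smul_comm, M_mul_M_mul_M hij h1 h2, smul_zero]
  have hBAB : (t • (M i j : Matrix (Idx n) (Idx n) F)) * (u • M k l) * (t • M i j) = 0 := by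
    rw [smul_mul_smul_comm, smul_mul_smul_comm,
      M_mul_M_mul_M hkl (fun h => h1 ⟨by rw [h.1, bar_bar], by rw [h.2, bar_bar]⟩)
        (fun h => h2 ⟨by rw [h.2, bar_bar], by rw [h.1, bar_bar]⟩), smul_zero]
  have := comm_of_nilp _ _ hA hB hABA hBAB
  unfold T
  rw [neg_smul, neg_smul, ← sub_eq_add_neg, ← sub_eq_add_neg, this, smul_mul_smul_comm,
    smul_mul_smul_comm, mul_comm t u, ← smul_sub]

end Cfsg.Agent.Helper7.D4O
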