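import Mathlib
import Cfsg.Prelude.Def_ChevD4
import Cfsg.Prelude.Def_ChevStructure
import Cfsg.Agent.Helper7.D4OA

set_option autoImplicit false
set_option maxHeartbeats 1600000
set_option maxRecDepth 100000

/-!
The table which attaches to each root of type `D₄` a root element of the eight-dimensional orthogonal
group, and the verification of its compatibility with the structure constants.
-/

namespace Cfsg.Agent.Helper7.D4O

open Cfsg Cfsg.Lie Matrix

/-- The ordered pairs of indices attached to the roots. -/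
def IJ : List (Idx 4 × Idx 4) :=
  [(Sum.inr 1, Sum.inr 0), (Sum.inr 2, Sum.inr 0), (Sum.inl 3, Sum.inr 0), (Sum.inr 3, Sum.inr 0),
   (Sum.inr 0, Sum.inl 2), (Sum.inl 1, Sum.inr 0), (Sum.inr 1, Sum.inr 2), (Sum.inr 1, Sum.inl 3),
   (Sum.inr 1, Sum.inr 3), (Sum.inl 2, Sum.inr 1), (Sum.inl 3, Sum.inr 2), (Sum.inr 3, Sum.inr 2),
   (Sum.inl 2, Sum.inl 3), (Sum.inl 2, Sum.inr 3), (Sum.inl 1, Sum.inr 2), (Sum.inl 3, Sum.inl 1),
   (Sum.inr 3, Sum.inl 1), (Sum.inl 2, Sum.inl 1), (Sum.inl 0, Sum.inr 1), (Sum.inr 2, Sum.inl 0),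
   (Sum.inl 0, Sum.inl 3), (Sum.inl 0, Sum.inr 3), (Sum.inl 0, Sum.inl 2), (Sum.inl 0, Sum.inl 1)]

/-- The first index attached to a root. -/
def rI (r : ℕ) : Idx 4 := (IJ.getD r (Sum.inl 0, Sum.inl 1)).1

/-- The second index attached to a root. -/
def rJ (r : ℕ) : Idx 4 := (IJ.getD r (Sum.inl 0, Sum.inl 1)).2

/-- The list of all indices. -/
def allIdx : List (Idx 4) :=
  [Sum.inl 0, Sum.inl 1, Sum.inl 2, Sum.inl 3, Sum.inr 0, Sum.inr 1, Sum.inr 2, Sum.inr 3]

theorem mem_allIdx (x : Idx 4) : x ∈ allIdx := by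
  rcases x with x | x <;> fin_cases x <;> simp [allIdx]

/-- The integral entries of the basic skew elements. -/
def Mz (i j x y : Idx 4) : ℤ :=
  (if x = i ∧ y = bar j then 1 else 0) - (if x = j ∧ y = bar i then 1 else 0)

/-- The integral entries of the bracket. -/
def brZ (k l i j x y : Idx 4) : ℤ :=
  (if bar l = i then Mz k j x y else 0) - (if bar l = j then Mz k i x y else 0)
    - (if bar k = i then Mz l j x y else 0) + (if bar k = j then Mz l i x y else 0)

/-- The check of one pair of roots. -/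
def chk (r s : ℕ) : Bool :=
  match chevD4.commTerms r s with
  | [] => allIdx.all fun x => allIdx.all fun y => brZ (rI s) (rJ s) (rI r) (rJ r) x y == 0
  | [(q, C, 1, 1)] => decide (q < 24) && allIdx.all fun x => allIdx.all fun y =>
      brZ (rI s) (rJ s) (rI r) (rJ r) x y == -C * Mz (rI q) (rJ q) x y
  | _ => false

theorem chk_all : ∀ r s : Fin 24, s ≠ r → s.val ≠ 23 - r.val → chk r s = true := by decide

theorem rIJ_facts : ∀ r : Fin 24, rI r ≠ rJ r ∧ rI r ≠ bar (rJ r) ∧
    rI (23 - r.val) = bar (rJ r) ∧ rJ (23 - r.val) = bar (rI r) := by decide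

theorem rIJ_pair : ∀ r s : Fin 24, s ≠ r → s.val ≠ 23 - r.val →
    ¬ (rI r = bar (rI s) ∧ rJ r = bar (rJ s)) ∧ ¬ (rI r = bar (rJ s) ∧ rJ r = bar (rI s)) := by
  decide

theorem neg_eq_fin : ∀ r : Fin 24, chevD4.neg r = 23 - r.val := by decide

theorem neg_eq {r : ℕ} (hr : r < 24) : chevD4.neg r = 23 - r := neg_eq_fin ⟨r, hr⟩

theorem rI_ne_rJ {r : ℕ} (hr : r < 24) : rI r ≠ rJ r := (rIJ_facts ⟨r, hr⟩).1

theorem rI_ne_bar_rJ {r : ℕ} (hr : r < 24) : rI r ≠ bar (rJ r) := (rIJ_facts ⟨r, hr⟩).2.1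

theorem rI_neg {r : ℕ} (hr : r < 24) : rI (23 - r) = bar (rJ r) := (rIJ_facts ⟨r, hr⟩).2.2.1

theorem rJ_neg {r : ℕ} (hr : r < 24) : rJ (23 - r) = bar (rI r) := (rIJ_facts ⟨r, hr⟩).2.2.2

variable {F : Type*} [Field F]

/-- The root elements attached to the roots of type `D₄`. -/
def yM (r : ℕ) (t : F) : Matrix (Idx 4) (Idx 4) F := if r < 24 then T (rI r) (rJ r) t else 1

theorem yM_of_lt {r : ℕ} (hr : r < 24) (t : F) : yM r t = T (rI r) (rJ r) t := if_pos hr

theorem yM_of_ge {r : ℕ} (hr : ¬ r < 24) (t : F) : yM r t = 1 := if_neg hr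

theorem yM_zero (r : ℕ) : yM r (0 : F) = 1 := by
  unfold yM
  split_ifs
  · exact T_zero _ _
  · rfl

theorem yM_add {r : ℕ} (hr : r < 24) (t u : F) : yM r t * yM r u = yM r (t + u) := by
  rw [yM_of_lt hr, yM_of_lt hr, yM_of_lt hr, T_add (rI_ne_bar_rJ hr)]

theorem M_apply (i j x y : Idx 4) :
    (M i j : Matrix (Idx 4) (Idx 4) F) x y = ((Mz i j x y : ℤ) : F) := by
  unfold M Mz
  rw [Matrix.sub_apply, E_apply, E_apply]
  push_cast
  split_ifs <;> simp

theorem bracket_apply (k l i j x y : Idx 4) :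
    (M k l * M i j - M i j * M k l : Matrix (Idx 4) (Idx 4) F) x y =
      ((brZ k l i j x y : ℤ) : F) := by
  rw [M_bracket]
  unfold brZ
  push_cast
  simp only [Matrix.add_apply, Matrix.sub_apply]
  split_ifs <;> simp [M_apply]

/-- The product of the root elements of a word. -/
def wordM (w : List (ℕ × F)) : Matrix (Idx 4) (Idx 4) F := (w.map fun p => yM p.1 p.2).prod

/-- The commutator relations. -/
theorem yM_comm {r s : ℕ} (hr : r < 24) (hs : s < 24) (hsr : s ≠ r) (hsn : s ≠ 23 - r) (t u : F) :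
    yM s (-u) * yM r (-t) * yM s u * yM r t = wordM (chevD4.commWord F r s t u) := by
  have hc := chk_all ⟨r, hr⟩ ⟨s, hs⟩ (fun h => hsr (congrArg Fin.val h)) hsn
  have hp := rIJ_pair ⟨r, hr⟩ ⟨s, hs⟩ (fun h => hsr (congrArg Fin.val h)) hsn
  rw [yM_of_lt hr, yM_of_lt hr, yM_of_lt hs, yM_of_lt hs,
    T_comm (F := F) (rI_ne_rJ hr) (rI_ne_rJ hs) (rI_ne_bar_rJ hr) (rI_ne_bar_rJ hs) hp.1 hp.2]
  unfold ChevalleyDatum.commWord wordM
  unfold chk at hc
  split at hc
  · rename_i heq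
    change chevD4.commTerms r s = [] at heq
    rw [heq]
    simp only [List.map_nil, List.prod_nil]
    have h0 : (M (rI s) (rJ s) : Matrix (Idx 4) (Idx 4) F) * M (rI r) (rJ r) -
        M (rI r) (rJ r) * M (rI s) (rJ s) = 0 := by
      ext x y
      rw [bracket_apply, Matrix.zero_apply]
      rw [List.all_eq_true] at hc
      have h1 := hc x (mem_allIdx x)
      rw [List.all_eq_true] at h1
      have h2 := h1 y (mem_allIdx y)
      rw [beq_iff_eq] at h2
      change brZ (rI s) (rJ s) (rI r) (rJ r) x y = 0 at h2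
      rw [h2, Int.cast_zero]
    rw [h0, smul_zero, add_zero]
  · rename_i q C heq
    change chevD4.commTerms r s = [(q, C, 1, 1)] at heq
    rw [heq]
    rw [Bool.and_eq_true, decide_eq_true_eq] at hc
    obtain ⟨hq, hc⟩ := hc
    simp only [List.map_cons, List.map_nil, List.prod_cons, List.prod_nil, mul_one, pow_one]
    rw [yM_of_lt hq]
    have h0 : (M (rI s) (rJ s) : Matrix (Idx 4) (Idx 4) F) * M (rI r) (rJ r) -
        M (rI r) (rJ r) * M (rI s) (rJ s) = (-(C : F)) • M (rI q) (rJ q) := by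
      ext x y
      rw [bracket_apply, Matrix.smul_apply, M_apply]
      rw [List.all_eq_true] at hc
      have h1 := hc x (mem_allIdx x)
      rw [List.all_eq_true] at h1
      have h2 := h1 y (mem_allIdx y)
      rw [beq_iff_eq] at h2
      change brZ (rI s) (rJ s) (rI r) (rJ r) x y = -C * Mz (rI q) (rJ q) x y at h2
      rw [h2]
      push_cast
      rw [smul_eq_mul]
    rw [h0]
    unfold T
    rw [smul_smul]
    congr 2
    ring
  · exact absurd hc (by simp)

end Cfsg.Agent.Helper7.D4O
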