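import Mathlib
import Cfsg.Prelude.Def_Steinberg
import Cfsg.Agent.Helper7.D4OB

set_option autoImplicit false
set_option maxHeartbeats 1600000

/-!
The relation for the elements `h_r(t)`, and the homomorphism from the group of Steinberg's presentation
of type `D₄` onto the group generated by the root elements of the eight-dimensional orthogonal group.
-/

namespace Cfsg.Agent.Helper7.D4O

open Cfsg Cfsg.Lie Matrix

section sl2

variable {F R : Type*} [Field F] [Ring R] [Algebra F R]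

theorem n_formula (e f : R) (he : e * e = 0) (hefe : e * f * e = e) (t : F) (ht : t ≠ 0) :
    (1 + t • e) * (1 + (-t⁻¹) • f) * (1 + t • e) = 1 + t • e - t⁻¹ • f - e * f - f * e := by
  simp only [mul_add, add_mul, mul_one, one_mul, smul_mul_assoc, mul_smul_comm, he, hefe,
    smul_zero, add_zero]
  match_scalars <;> field_simp <;> ring

theorem h_formula (e f : R) (he : e * e = 0) (hf : f * f = 0) (hefe : e * f * e = e)
    (hfef : f * e * f = f) (t : F) :
    (1 + t • e - t⁻¹ • f - e * f - f * e) * (1 + (-1 : F) • e - (-1 : F)⁻¹ • f - e * f - f * e) =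
      1 - e * f - f * e + t • (e * f) + t⁻¹ • (f * e) := by
  have h1 : e * (e * f) = 0 := by rw [← mul_assoc, he, zero_mul]
  have h2 : e * (f * e) = e := by rw [← mul_assoc, hefe]
  have h3 : f * (e * f) = f := by rw [← mul_assoc, hfef]
  have h4 : f * (f * e) = 0 := by rw [← mul_assoc, hf, zero_mul]
  have h5 : e * f * f = 0 := by rw [mul_assoc, hf, mul_zero]
  have h6 : f * e * e = 0 := by rw [mul_assoc, he, mul_zero]
  have h7 : e * f * (e * f) = e * f := by rw [← mul_assoc, hefe]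
  have h8 : e * f * (f * e) = 0 := by rw [← mul_assoc, h5, zero_mul]
  have h9 : f * e * (e * f) = 0 := by rw [← mul_assoc, h6, zero_mul]
  have h10 : f * e * (f * e) = f * e := by rw [← mul_assoc, hfef]
  simp only [mul_add, add_mul, mul_sub, sub_mul, mul_one, one_mul, smul_mul_assoc, mul_smul_comm,
    he, hf, hefe, hfef, h1, h2, h3, h4, h5, h6, h7, h8, h9, h10, smul_zero, add_zero, sub_zero]
  match_scalars <;> field_simp <;> ring

theorem h_mul_formula (e f : R) (he : e * e = 0) (hf : f * f = 0) (hefe : e * f * e = e)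
    (hfef : f * e * f = f) (t u : F) (ht : t ≠ 0) (hu : u ≠ 0) :
    (1 - e * f - f * e + t • (e * f) + t⁻¹ • (f * e)) *
        (1 - e * f - f * e + u • (e * f) + u⁻¹ • (f * e)) =
      1 - e * f - f * e + (t * u) • (e * f) + (t * u)⁻¹ • (f * e) := by
  have h5 : e * f * f = 0 := by rw [mul_assoc, hf, mul_zero]
  have h6 : f * e * e = 0 := by rw [mul_assoc, he, mul_zero]
  have h7 : e * f * (e * f) = e * f := by rw [← mul_assoc, hefe]
  have h8 : e * f * (f * e) = 0 := by rw [← mul_assoc, h5, zero_mul]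
  have h9 : f * e * (e * f) = 0 := by rw [← mul_assoc, h6, zero_mul]
  have h10 : f * e * (f * e) = f * e := by rw [← mul_assoc, hfef]
  simp only [mul_add, add_mul, mul_sub, sub_mul, mul_one, one_mul, smul_mul_assoc, mul_smul_comm,
    h7, h8, h9, h10, smul_zero, add_zero, sub_zero]
  match_scalars <;> field_simp <;> ring

end sl2

section generic

variable {n : ℕ} {F : Type*} [Field F]

theorem M_mul_Mt {i j : Idx n} (hij : i ≠ j) :
    (M i j : Matrix (Idx n) (Idx n) F) * M (bar j) (bar i) = E i i + E j j := by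
  rw [M_mul]
  have h1 : ¬ bar j = bar i := fun h => hij (bar_inj.mp h).symm
  have h2 : ¬ bar i = bar j := fun h => hij (bar_inj.mp h)
  rw [if_pos rfl, if_neg h1, if_neg h2, if_pos rfl, bar_bar, bar_bar, sub_zero, sub_zero]

theorem M_mul_Mt_mul_M {i j : Idx n} (hij : i ≠ j) :
    (M i j : Matrix (Idx n) (Idx n) F) * M (bar j) (bar i) * M i j = M i j := by
  rw [M_mul_Mt hij, add_mul, E_mul_M, E_mul_M, if_pos rfl, if_neg hij, if_neg hij.symm, if_pos rfl]
  unfold M
  abel

end generic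

variable {F : Type*} [Field F]

/-- The element `e` of the root `r`. -/
def eM (r : ℕ) : Matrix (Idx 4) (Idx 4) F := M (rI r) (rJ r)

/-- The element `f` of the root `r`. -/
def fM (r : ℕ) : Matrix (Idx 4) (Idx 4) F := M (bar (rJ r)) (bar (rI r))

theorem eM_sq {r : ℕ} (hr : r < 24) : (eM r : Matrix (Idx 4) (Idx 4) F) * eM r = 0 :=
  M_sq (rI_ne_bar_rJ hr)

theorem fM_sq {r : ℕ} (hr : r < 24) : (fM r : Matrix (Idx 4) (Idx 4) F) * fM r = 0 := by
  apply M_sq
  rw [bar_bar]
  intro h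
  exact rI_ne_bar_rJ hr h.symm

theorem eM_fM_eM {r : ℕ} (hr : r < 24) :
    (eM r : Matrix (Idx 4) (Idx 4) F) * fM r * eM r = eM r :=
  M_mul_Mt_mul_M (rI_ne_rJ hr)

theorem fM_eM_fM {r : ℕ} (hr : r < 24) :
    (fM r : Matrix (Idx 4) (Idx 4) F) * eM r * fM r = fM r := by
  have h : bar (rJ r) ≠ bar (rI r) := fun h => rI_ne_rJ hr (bar_inj.mp h).symm
  have := M_mul_Mt_mul_M (F := F) h
  rw [bar_bar, bar_bar] at this
  exact this

theorem yM_eq_eM {r : ℕ} (hr : r < 24) (t : F) : yM r t = 1 + t • eM r := yM_of_lt hr t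

theorem yM_neg_eq_fM {r : ℕ} (hr : r < 24) (t : F) : yM (23 - r) t = 1 + t • fM r := by
  have h : 23 - r < 24 := by omega
  rw [yM_of_lt h, rI_neg hr, rJ_neg hr]
  rfl

/-- The diagonal elements. -/
def hM8 (r : ℕ) (t : F) : Matrix (Idx 4) (Idx 4) F :=
  1 - eM r * fM r - fM r * eM r + t • (eM r * fM r) + t⁻¹ • (fM r * eM r)

theorem hM8_mul {r : ℕ} (hr : r < 24) {t u : F} (ht : t ≠ 0) (hu : u ≠ 0) :
    hM8 r t * hM8 r u = hM8 r (t * u) :=
  h_mul_formula (F := F) (R := Matrix (Idx 4) (Idx 4) F) (eM r) (fM r) (eM_sq hr) (fM_sq hr) (eM_fM_eM hr) (fM_eM_fM hr) t u ht hu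

theorem wordM_hWord {r : ℕ} (hr : r < 24) {t : F} (ht : t ≠ 0) :
    wordM (chevD4.hWord r t) = hM8 r t := by
  unfold wordM ChevalleyDatum.hWord ChevalleyDatum.nWord
  rw [neg_eq hr]
  simp only [List.cons_append, List.nil_append, List.map_cons, List.map_nil, List.prod_cons,
    List.prod_nil, mul_one]
  rw [yM_eq_eM hr, yM_eq_eM hr, yM_neg_eq_fM hr, yM_neg_eq_fM hr]
  have h1 := n_formula (F := F) (R := Matrix (Idx 4) (Idx 4) F) (eM r) (fM r) (eM_sq hr) (eM_fM_eM hr) t ht
  have h2 := n_formula (F := F) (R := Matrix (Idx 4) (Idx 4) F) (eM r) (fM r) (eM_sq hr) (eM_fM_eM hr) (-1 : F) (by norm_num)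
  have h3 := h_formula (F := F) (R := Matrix (Idx 4) (Idx 4) F) (eM r) (fM r) (eM_sq hr) (fM_sq hr) (eM_fM_eM hr) (fM_eM_fM hr) t
  unfold hM8
  rw [← h3, ← h1, ← h2]
  simp only [mul_assoc]

theorem yM_mul_neg (r : ℕ) (t : F) : yM r t * yM r (-t) = 1 := by
  by_cases hr : r < 24
  · rw [yM_add hr, add_neg_cancel, yM_zero]
  · rw [yM_of_ge hr, yM_of_ge hr, one_mul]

theorem yM_neg_mul (r : ℕ) (t : F) : yM r (-t) * yM r t = 1 := by
  by_cases hr : r < 24
  · rw [yM_add hr, neg_add_cancel, yM_zero]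
  · rw [yM_of_ge hr, yM_of_ge hr, one_mul]

/-- The root elements as invertible matrices. -/
def yG (r : ℕ) (t : F) : GL (Idx 4) F := ⟨yM r t, yM r (-t), yM_mul_neg r t, yM_neg_mul r t⟩

@[simp] theorem yG_coe (r : ℕ) (t : F) :
    ((yG r t : GL (Idx 4) F) : Matrix (Idx 4) (Idx 4) F) = yM r t := rfl

theorem yG_inv (r : ℕ) (t : F) : (yG r t)⁻¹ = yG r (-t) := by
  apply Units.ext
  rfl

theorem yG_add {r : ℕ} (hr : r < 24) (t u : F) : yG r t * yG r u = yG r (t + u) := by
  apply Units.ext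
  exact yM_add hr t u

theorem yG_of_ge {r : ℕ} (hr : ¬ r < 24) (t : F) : yG r t = 1 := by
  apply Units.ext
  exact yM_of_ge hr t

variable (F) in
/-- The subgroup generated by the root elements. -/
def E8 : Subgroup (GL (Idx 4) F) := Subgroup.closure {g | ∃ (r : ℕ) (t : F), r < 24 ∧ g = yG r t}

theorem yG_mem_E8 (r : ℕ) (t : F) : yG r t ∈ E8 F := by
  by_cases hr : r < 24
  · exact Subgroup.subset_closure ⟨r, t, hr, rfl⟩
  · rw [yG_of_ge hr]; exact one_mem _

/-- The homomorphism from the free group. -/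
noncomputable def liftY : FreeGroup (Fin chevD4.nroots × F) →* GL (Idx 4) F :=
  FreeGroup.lift fun p => yG p.1.val p.2

theorem liftY_stX (r : ℕ) (t : F) : liftY (chevD4.stX r t) = yG r t := by
  unfold ChevalleyDatum.stX
  split_ifs with h
  · unfold liftY
    rw [FreeGroup.lift_apply_of]
  · rw [map_one]
    have : ¬ r < 24 := h
    rw [yG_of_ge this]

theorem liftY_stWord (w : List (ℕ × F)) :
    liftY (chevD4.stWord w) = (w.map fun p => yG p.1 p.2).prod := by
  unfold ChevalleyDatum.stWord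
  rw [map_list_prod, List.map_map]
  congr 1
  apply List.map_congr_left
  intro p _
  exact liftY_stX p.1 p.2

theorem coe_prod_yG (w : List (ℕ × F)) :
    (((w.map fun p => yG p.1 p.2).prod : GL (Idx 4) F) : Matrix (Idx 4) (Idx 4) F) = wordM w := by
  unfold wordM
  induction w with
  | nil => simp
  | cons p w ih =>
    rw [List.map_cons, List.prod_cons, Units.val_mul, ih, List.map_cons, List.prod_cons, yG_coe]

theorem liftY_stH {r : ℕ} (hr : r < 24) {t : F} (ht : t ≠ 0) :
    ((liftY (chevD4.stH r t) : GL (Idx 4) F) : Matrix (Idx 4) (Idx 4) F) = hM8 r t := by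
  unfold ChevalleyDatum.stH
  rw [liftY_stWord, coe_prod_yG, wordM_hWord hr ht]

/-- The relators of Steinberg's presentation hold. -/
theorem liftY_rels {g : FreeGroup (Fin chevD4.nroots × F)} (hg : g ∈ chevD4.steinbergRels F) :
    liftY g = 1 := by
  rcases hg with (⟨r, t₁, t₂, hr, rfl⟩ | ⟨r, s, t, u, hr, hs, hsr, hsn, rfl⟩) |
    ⟨r, t₁, t₂, hr, ht₁, ht₂, rfl⟩
  · have hr' : r < 24 := hr
    rw [map_mul, map_mul, map_inv, liftY_stX, liftY_stX, liftY_stX, yG_add hr', mul_inv_cancel]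
  · have hr' : r < 24 := hr
    have hs' : s < 24 := hs
    have hsn' : s ≠ 23 - r := by rw [← neg_eq hr']; exact hsn
    rw [map_mul, map_mul, map_mul, map_mul, map_inv, map_inv, map_inv, liftY_stX, liftY_stX,
      liftY_stWord, mul_inv_eq_one, yG_inv, yG_inv]
    apply Units.ext
    rw [Units.val_mul, Units.val_mul, Units.val_mul, yG_coe, yG_coe, yG_coe, yG_coe, coe_prod_yG]
    exact yM_comm hr' hs' hsr hsn' t u
  · have hr' : r < 24 := hr
    rw [map_mul, map_mul, map_inv, mul_inv_eq_one]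
    apply Units.ext
    rw [Units.val_mul, liftY_stH hr' ht₁, liftY_stH hr' ht₂, liftY_stH hr' (mul_ne_zero ht₁ ht₂),
      hM8_mul hr' ht₁ ht₂]

/-- The homomorphism from the presented group. -/
noncomputable def stToGL : chevD4.SteinbergGroup F →* GL (Idx 4) F :=
  PresentedGroup.toGroup (f := fun p => yG p.1.val p.2)
    (fun g hg => by have := liftY_rels hg; unfold liftY at this; exact this)

theorem stToGL_of (p : Fin chevD4.nroots × F) :
    stToGL (PresentedGroup.of p) = yG p.1.val p.2 := by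
  unfold stToGL
  exact PresentedGroup.toGroup.of _

theorem stToGL_range : (stToGL (F := F)).range = E8 F := by
  rw [MonoidHom.range_eq_map, ← PresentedGroup.closure_range_of, MonoidHom.map_closure]
  unfold E8
  congr 1
  ext g
  constructor
  · rintro ⟨x, ⟨⟨r, t⟩, rfl⟩, rfl⟩
    refine ⟨r.val, t, r.2, ?_⟩
    rw [stToGL_of]
  · rintro ⟨r, t, hr, rfl⟩
    refine ⟨PresentedGroup.of (⟨r, hr⟩, t), ⟨(⟨r, hr⟩, t), rfl⟩, ?_⟩
    rw [stToGL_of]

end Cfsg.Agent.Helper7.D4O
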