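import Mathlib
import Cfsg.Prelude.Def_Classical
import Cfsg.Agent.Helper7.D4OA

set_option autoImplicit false
set_option maxHeartbeats 800000

/-!
The hyperbolic quadratic form on `F^(n ⊕ n)`, its polar form, and the action of the root elements on
vectors.
-/

namespace Cfsg.Agent.Helper7.D4O

open Cfsg Matrix

variable {n : ℕ} {F : Type*} [Field F]

/-- The basis vectors. -/
def bv (x : Idx n) : Idx n → F := Pi.single x 1

theorem bv_apply (x y : Idx n) : (bv x : Idx n → F) y = if y = x then 1 else 0 := by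
  unfold bv
  rw [Pi.single_apply]

/-- The quadratic form. -/
abbrev Qf (v : Idx n → F) : F := quadFormPlus n F v

/-- The polar form. -/
def Bp (v w : Idx n → F) : F := ∑ x : Idx n, v (bar x) * w x

theorem Qf_add (v w : Idx n → F) : Qf (v + w) = Qf v + Qf w + Bp v w := by
  unfold Qf quadFormPlus Bp
  rw [Fintype.sum_sum_type, ← Finset.sum_add_distrib, ← Finset.sum_add_distrib,
    ← Finset.sum_add_distrib]
  apply Finset.sum_congr rfl
  intro m _
  simp only [Pi.add_apply, bar_inl, bar_inr]
  ring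

theorem Bp_bv_right (v : Idx n → F) (x : Idx n) : Bp v (bv x) = v (bar x) := by
  unfold Bp
  simp only [bv_apply, mul_ite, mul_one, mul_zero]
  rw [Finset.sum_ite_eq']
  simp

theorem Bp_bv_left (v : Idx n → F) (x : Idx n) : Bp (bv x) v = v (bar x) := by
  unfold Bp
  simp only [bv_apply, ite_mul, one_mul, zero_mul]
  rw [Finset.sum_eq_single (bar x)]
  · rw [if_pos (bar_bar x)]
  · intro y _ hy
    rw [if_neg]
    intro h
    exact hy (by rw [← h, bar_bar])
  · intro h; exact absurd (Finset.mem_univ _) h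

theorem Bp_smul_left (c : F) (v w : Idx n → F) : Bp (c • v) w = c * Bp v w := by
  unfold Bp
  rw [Finset.mul_sum]
  apply Finset.sum_congr rfl
  intro x _
  simp only [Pi.smul_apply, smul_eq_mul]
  ring

theorem Bp_smul_right (c : F) (v w : Idx n → F) : Bp v (c • w) = c * Bp v w := by
  unfold Bp
  rw [Finset.mul_sum]
  apply Finset.sum_congr rfl
  intro x _
  simp only [Pi.smul_apply, smul_eq_mul]
  ring

theorem Qf_bv (x : Idx n) : Qf (bv x : Idx n → F) = 0 := by
  unfold Qf quadFormPlus
  apply Finset.sum_eq_zero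
  intro m _
  rcases x with x | x
  · have h : (bv (Sum.inl x) : Idx n → F) (Sum.inr m) = 0 := by
      rw [bv_apply, if_neg (by simp)]
    rw [h, mul_zero]
  · have h : (bv (Sum.inr x) : Idx n → F) (Sum.inl m) = 0 := by
      rw [bv_apply, if_neg (by simp)]
    rw [h, zero_mul]

variable (n F) in
/-- The group of isometries. -/
abbrev GO : Subgroup (GL (Idx n) F) := isometryGroup F (quadFormPlus n F)

theorem mem_GO {g : GL (Idx n) F} :
    g ∈ GO n F ↔ ∀ v, Qf ((g : Matrix (Idx n) (Idx n) F) *ᵥ v) = Qf v := by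
  constructor
  · intro h v; exact h v v
  · intro h u _; exact h u

theorem Qf_map {g : GL (Idx n) F} (hg : g ∈ GO n F) (v : Idx n → F) :
    Qf ((g : Matrix (Idx n) (Idx n) F) *ᵥ v) = Qf v := mem_GO.mp hg v

theorem Bp_map {g : GL (Idx n) F} (hg : g ∈ GO n F) (v w : Idx n → F) :
    Bp ((g : Matrix (Idx n) (Idx n) F) *ᵥ v) ((g : Matrix (Idx n) (Idx n) F) *ᵥ w) = Bp v w := by
  have h1 := Qf_add ((g : Matrix (Idx n) (Idx n) F) *ᵥ v) ((g : Matrix (Idx n) (Idx n) F) *ᵥ w)
  rw [← Matrix.mulVec_add, Qf_map hg, Qf_map hg, Qf_map hg, Qf_add] at h1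
  exact (add_left_cancel h1).symm

/-- The action of the root elements on vectors. -/
theorem T_mulVec (i j : Idx n) (t : F) (v : Idx n → F) (x : Idx n) :
    (T i j t *ᵥ v) x =
      v x + (if x = i then t * v (bar j) else 0) - (if x = j then t * v (bar i) else 0) := by
  unfold T M E
  rw [Matrix.add_mulVec, Matrix.one_mulVec, Matrix.smul_mulVec, Matrix.sub_mulVec,
    Matrix.single_mulVec_eq, Matrix.single_mulVec_eq]
  simp only [Pi.add_apply, Pi.smul_apply, Pi.sub_apply, Pi.single_apply, smul_eq_mul, one_mul,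
    mul_ite, mul_one, mul_zero, mul_sub]
  ring

theorem Qf_T {i j : Idx n} (h : i ≠ bar j) (t : F) (v : Idx n → F) :
    Qf (T i j t *ᵥ v) = Qf v := by
  obtain ⟨w, hw⟩ : ∃ w : Idx n → F, w = fun x =>
      (if x = i then t * v (bar j) else 0) - (if x = j then t * v (bar i) else 0) := ⟨_, rfl⟩
  have e : T i j t *ᵥ v = v + w := by
    funext x
    rw [T_mulVec, hw, Pi.add_apply, add_sub_assoc]
  rw [e, Qf_add]
  have h1 : Qf w = 0 := by
    unfold Qf quadFormPlus
    apply Finset.sum_eq_zero
    intro m _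
    rw [hw]
    by_cases a1 : (Sum.inl m : Idx n) = i
    · have a2 : ¬ (Sum.inr m : Idx n) = i := by rw [← a1]; simp
      have a3 : ¬ (Sum.inr m : Idx n) = j := by
        intro a3; apply h; rw [← a1, ← a3]; rfl
      simp only [a2, a3, if_false, sub_zero, mul_zero]
    · by_cases a4 : (Sum.inl m : Idx n) = j
      · have a2 : ¬ (Sum.inr m : Idx n) = j := by rw [← a4]; simp
        have a3 : ¬ (Sum.inr m : Idx n) = i := by
          intro a3; apply h; rw [← a4, ← a3]; rfl
        simp only [a2, a3, if_false, sub_zero, mul_zero]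
      · simp only [a1, a4, if_false, sub_zero, zero_mul]
  have h2 : Bp v w = 0 := by
    unfold Bp
    rw [hw]
    simp only [mul_sub, mul_ite, mul_zero, Finset.sum_sub_distrib, Finset.sum_ite_eq',
      Finset.mem_univ, if_true]
    ring
  rw [h1, h2, add_zero, add_zero]

end Cfsg.Agent.Helper7.D4O
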