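import Mathlib
import Cfsg.Agent.Helper7.D4OD

set_option autoImplicit false
set_option maxHeartbeats 800000

/-!
The group generated by the root elements of the orthogonal group of the hyperbolic form acts
transitively on the singular vectors: the elimination lemmas.
-/

namespace Cfsg.Agent.Helper7.D4O

open Cfsg Matrix

variable {n : ℕ} {F : Type*} [Field F]

/-- The root elements as invertible matrices. -/
def TG (i j : Idx n) (t : F) : GL (Idx n) F :=
  if h : i ≠ bar j then ⟨T i j t, T i j (-t), T_mul_neg h t, T_neg_mul h t⟩ else 1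

theorem TG_coe {i j : Idx n} (h : i ≠ bar j) (t : F) :
    ((TG i j t : GL (Idx n) F) : Matrix (Idx n) (Idx n) F) = T i j t := by
  unfold TG
  rw [dif_pos h]

theorem TG_mem_GO {i j : Idx n} (h : i ≠ bar j) (t : F) : TG i j t ∈ GO n F := by
  rw [mem_GO]
  intro v
  rw [TG_coe h]
  exact Qf_T h t v

variable (n F) in
/-- The subgroup generated by the root elements. -/
def EO : Subgroup (GL (Idx n) F) :=
  Subgroup.closure {g | ∃ (i j : Idx n) (t : F), i ≠ j ∧ i ≠ bar j ∧ g = TG i j t}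

theorem TG_mem_EO {i j : Idx n} (h1 : i ≠ j) (h2 : i ≠ bar j) (t : F) : TG i j t ∈ EO n F :=
  Subgroup.subset_closure ⟨i, j, t, h1, h2, rfl⟩

theorem EO_le_GO : EO n F ≤ GO n F := by
  unfold EO
  rw [Subgroup.closure_le]
  rintro g ⟨i, j, t, _, h2, rfl⟩
  exact TG_mem_GO h2 t

/-- The level of an index. -/
def lev (x : Idx n) : ℕ := Sum.elim Fin.val Fin.val x

@[simp] theorem lev_bar (x : Idx n) : lev (bar x) = lev x := by
  cases x <;> rfl

theorem eq_or_eq_bar_of_lev_eq {x y : Idx n} (h : lev x = lev y) : x = y ∨ x = bar y := by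
  rcases x with x | x <;> rcases y with y | y
  · left; exact congrArg Sum.inl (Fin.ext h)
  · right; exact congrArg Sum.inl (Fin.ext h)
  · right; exact congrArg Sum.inr (Fin.ext h)
  · left; exact congrArg Sum.inr (Fin.ext h)

/-- The subgroup of the matrices which fix the basis vectors with index in a given set. -/
def Fixer (S : Set (Idx n)) : Subgroup (GL (Idx n) F) where
  carrier := {g | ∀ x ∈ S, (g : Matrix (Idx n) (Idx n) F) *ᵥ bv x = bv x}
  mul_mem' {a b} ha hb := by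
    intro x hx
    rw [Units.val_mul, ← Matrix.mulVec_mulVec, hb x hx, ha x hx]
  one_mem' := by
    intro x _
    rw [Units.val_one, Matrix.one_mulVec]
  inv_mem' {a} ha := by
    intro x hx
    have h := ha x hx
    have h2 : ((a⁻¹ : GL (Idx n) F) : Matrix (Idx n) (Idx n) F) *ᵥ
        ((a : Matrix (Idx n) (Idx n) F) *ᵥ bv x) = bv x := by
      rw [Matrix.mulVec_mulVec, ← Units.val_mul, inv_mul_cancel, Units.val_one, Matrix.one_mulVec]
    rw [h] at h2
    exact h2

theorem mem_Fixer {S : Set (Idx n)} {g : GL (Idx n) F} :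
    g ∈ Fixer S ↔ ∀ x ∈ S, (g : Matrix (Idx n) (Idx n) F) *ᵥ bv x = bv x := Iff.rfl

theorem T_mulVec_bv {i j x : Idx n} (h1 : x ≠ bar j) (h2 : x ≠ bar i) (t : F) :
    T i j t *ᵥ (bv x : Idx n → F) = bv x := by
  funext y
  have e1 : (bv x : Idx n → F) (bar j) = 0 := by rw [bv_apply, if_neg (fun h => h1 h.symm)]
  have e2 : (bv x : Idx n → F) (bar i) = 0 := by rw [bv_apply, if_neg (fun h => h2 h.symm)]
  rw [T_mulVec, e1, e2, mul_zero, ite_self, ite_self, add_zero, sub_zero]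

theorem TG_mem_Fixer {i j : Idx n} (h : i ≠ bar j) (t : F) {S : Set (Idx n)}
    (hS : ∀ x ∈ S, x ≠ bar j ∧ x ≠ bar i) : TG i j t ∈ Fixer S := by
  intro x hx
  rw [TG_coe h]
  exact T_mulVec_bv (hS x hx).1 (hS x hx).2 t

theorem coe_mul_mulVec (e g : GL (Idx n) F) (v : Idx n → F) :
    ((e * g : GL (Idx n) F) : Matrix (Idx n) (Idx n) F) *ᵥ v =
      (e : Matrix (Idx n) (Idx n) F) *ᵥ ((g : Matrix (Idx n) (Idx n) F) *ᵥ v) := by
  rw [Units.val_mul, Matrix.mulVec_mulVec]

/-- The elimination of the coordinates other than `a` and `bar a`. -/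
theorem kill_aux {k : ℕ} {a : Idx n} (ha : k ≤ lev a) {v : Idx n → F} (hva : v a ≠ 0)
    (J : Finset (Idx n)) (hJ : ∀ j ∈ J, k ≤ lev j ∧ j ≠ a ∧ j ≠ bar a) :
    ∃ e ∈ EO n F ⊓ Fixer ({x | lev x < k} ∪ {bar a}),
      ((e : Matrix (Idx n) (Idx n) F) *ᵥ v) a = v a ∧
      (∀ j ∈ J, ((e : Matrix (Idx n) (Idx n) F) *ᵥ v) j = 0) ∧
      (∀ x, x ∉ J → x ≠ bar a → ((e : Matrix (Idx n) (Idx n) F) *ᵥ v) x = v x) := by
  induction J using Finset.induction_on with
  | empty =>
    refine ⟨1, one_mem _, ?_, ?_, ?_⟩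
    · rw [Units.val_one, Matrix.one_mulVec]
    · intro j hj; exact absurd hj (Finset.notMem_empty j)
    · intro x _ _; rw [Units.val_one, Matrix.one_mulVec]
  | insert j₀ J hj₀ ih =>
    obtain ⟨e, he, h1, h2, h3⟩ := ih (fun j hj => hJ j (Finset.mem_insert_of_mem hj))
    obtain ⟨hk, hja, hja'⟩ := hJ j₀ (Finset.mem_insert_self j₀ J)
    obtain ⟨v', hv'⟩ : ∃ v' : Idx n → F, v' = (e : Matrix (Idx n) (Idx n) F) *ᵥ v := ⟨_, rfl⟩
    rw [← hv'] at h1 h2 h3
    have hne : j₀ ≠ bar (bar a) := by rw [bar_bar]; exact hja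
    obtain ⟨t, ht⟩ : ∃ t : F, t = -(v' j₀) / v a := ⟨_, rfl⟩
    have hmem : TG j₀ (bar a) t ∈ EO n F ⊓ Fixer ({x | lev x < k} ∪ {bar a}) := by
      refine ⟨TG_mem_EO hja' hne t, TG_mem_Fixer hne t ?_⟩
      rintro x (hx | hx)
      · have hx' : lev x < k := hx
        constructor
        · rw [bar_bar]; intro h; rw [h] at hx'; omega
        · intro h; rw [h, lev_bar] at hx'; omega
      · have hx' : x = bar a := hx
        constructor
        · rw [bar_bar, hx']; exact bar_ne a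
        · rw [hx']; intro h; exact hja (bar_inj.mp h).symm
    refine ⟨TG j₀ (bar a) t * e, mul_mem hmem he, ?_, ?_, ?_⟩
    · rw [coe_mul_mulVec, ← hv', TG_coe hne, T_mulVec, if_neg hja.symm,
        if_neg (fun h => bar_ne a h.symm), add_zero, sub_zero, h1]
    · intro j hj
      rw [coe_mul_mulVec, ← hv', TG_coe hne, T_mulVec]
      rcases Finset.mem_insert.mp hj with rfl | hj'
      · rw [if_pos rfl, if_neg hja', bar_bar, h1, ht, sub_zero]
        field_simp
        ring
      · have hjj : j ≠ j₀ := fun h => hj₀ (h ▸ hj')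
        have hjb : j ≠ bar a := (hJ j (Finset.mem_insert_of_mem hj')).2.2
        rw [if_neg hjj, if_neg hjb, h2 j hj', add_zero, sub_zero]
    · intro x hx hxa
      have hx1 : x ≠ j₀ := fun h => hx (h ▸ Finset.mem_insert_self j₀ J)
      have hx2 : x ∉ J := fun h => hx (Finset.mem_insert_of_mem h)
      rw [coe_mul_mulVec, ← hv', TG_coe hne, T_mulVec, if_neg hx1, if_neg hxa, add_zero, sub_zero,
        h3 x hx2 hxa]

/-- The value of the quadratic form on a vector supported on a hyperbolic pair. -/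
theorem Qf_eq_of_supp {v : Idx n → F} (a : Idx n)
    (h : ∀ x, x ≠ a → x ≠ bar a → v x = 0) : Qf v = v a * v (bar a) := by
  unfold Qf quadFormPlus
  rcases a with m₀ | m₀
  · rw [Finset.sum_eq_single m₀]
    · rfl
    · intro m _ hm
      have : v (Sum.inl m) = 0 := h _ (by simpa using hm) (by simp)
      rw [this, zero_mul]
    · intro h'; exact absurd (Finset.mem_univ _) h'
  · rw [Finset.sum_eq_single m₀]
    · rw [mul_comm]; rfl
    · intro m _ hm
      have : v (Sum.inr m) = 0 := h _ (by simpa using hm) (by simp)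
      rw [this, mul_zero]
    · intro h'; exact absurd (Finset.mem_univ _) h'

/-- A singular vector with non-zero coordinate at `a` is mapped to a multiple of the basis vector. -/
theorem kill {k : ℕ} {a : Idx n} (ha : k ≤ lev a) {v : Idx n → F} (hva : v a ≠ 0)
    (hs : ∀ y, lev y < k → v y = 0) (hQ : Qf v = 0) :
    ∃ e ∈ EO n F ⊓ Fixer ({x | lev x < k} ∪ {bar a}),
      (e : Matrix (Idx n) (Idx n) F) *ᵥ v = v a • bv a := by
  obtain ⟨e, he, h1, h2, h3⟩ := kill_aux ha hva
    (Finset.univ.filter fun j => k ≤ lev j ∧ j ≠ a ∧ j ≠ bar a)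
    (fun j hj => (Finset.mem_filter.mp hj).2)
  refine ⟨e, he, ?_⟩
  obtain ⟨v', hv'⟩ : ∃ v' : Idx n → F, v' = (e : Matrix (Idx n) (Idx n) F) *ᵥ v := ⟨_, rfl⟩
  rw [← hv'] at h1 h2 h3 ⊢
  have hz : ∀ x, x ≠ a → x ≠ bar a → v' x = 0 := by
    intro x hxa hxa'
    by_cases hk : k ≤ lev x
    · exact h2 x (Finset.mem_filter.mpr ⟨Finset.mem_univ _, hk, hxa, hxa'⟩)
    · rw [h3 x (fun hx => hk (Finset.mem_filter.mp hx).2.1) hxa']
      exact hs x (by omega)
  have hQ' : Qf v' = 0 := by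
    rw [hv', Qf_map (EO_le_GO he.1), hQ]
  rw [Qf_eq_of_supp a hz, h1] at hQ'
  have hb : v' (bar a) = 0 := (mul_eq_zero.mp hQ').resolve_left hva
  funext x
  rw [Pi.smul_apply, bv_apply, smul_eq_mul]
  by_cases hxa : x = a
  · rw [hxa, h1, if_pos rfl, mul_one]
  · rw [if_neg hxa, mul_zero]
    by_cases hxa' : x = bar a
    · rw [hxa', hb]
    · exact hz x hxa hxa'

theorem exists_ne_zero_aux {k : ℕ} {a x : Idx n} (ha : k ≤ lev a) (hx : k ≤ lev x) (hxa : x ≠ a)
    (hxa' : x ≠ bar a) {v : Idx n → F} (hvx : v x ≠ 0) :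
    ∃ e ∈ EO n F ⊓ Fixer {y | lev y < k}, ((e : Matrix (Idx n) (Idx n) F) *ᵥ v) a ≠ 0 := by
  by_cases h : v a = 0
  · have hne : a ≠ bar (bar x) := by rw [bar_bar]; exact hxa.symm
    have hne' : a ≠ bar x := fun h' => hxa' (by rw [h', bar_bar])
    refine ⟨TG a (bar x) 1, ⟨TG_mem_EO hne' hne 1, TG_mem_Fixer hne 1 ?_⟩, ?_⟩
    · intro y hy
      have hy' : lev y < k := hy
      constructor
      · rw [bar_bar]; intro h'; rw [h'] at hy'; omega
      · intro h'; rw [h', lev_bar] at hy'; omega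
    · rw [TG_coe hne, T_mulVec, if_pos rfl, if_neg hne', bar_bar, h, zero_add, one_mul, sub_zero]
      exact hvx
  · refine ⟨1, one_mem _, ?_⟩
    rw [Units.val_one, Matrix.one_mulVec]
    exact h

/-- A non-zero vector is mapped to a vector with non-zero coordinate at `a`. -/
theorem exists_ne_zero {k : ℕ} {a j₀ : Idx n} (ha : k ≤ lev a) (hj₀ : k ≤ lev j₀) (hj₀a : j₀ ≠ a)
    (hj₀a' : j₀ ≠ bar a) {v : Idx n → F} (hv : v ≠ 0) (hs : ∀ y, lev y < k → v y = 0) :
    ∃ e ∈ EO n F ⊓ Fixer {y | lev y < k}, ((e : Matrix (Idx n) (Idx n) F) *ᵥ v) a ≠ 0 := by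
  by_cases h : ∃ x, x ≠ a ∧ x ≠ bar a ∧ v x ≠ 0
  · obtain ⟨x, hxa, hxa', hvx⟩ := h
    have hx : k ≤ lev x := by
      by_contra hlt
      exact hvx (hs x (by omega))
    exact exists_ne_zero_aux ha hx hxa hxa' hvx
  · push_neg at h
    by_cases h0 : v a = 0
    · have hb : v (bar a) ≠ 0 := by
        intro hb
        apply hv
        funext x
        by_cases hxa : x = a
        · rw [hxa, h0]; rfl
        · by_cases hxa' : x = bar a
          · rw [hxa', hb]; rfl
          · exact h x hxa hxa'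
      have hmem : TG j₀ a (1 : F) ∈ EO n F ⊓ Fixer {y | lev y < k} := by
        refine ⟨TG_mem_EO hj₀a hj₀a' 1, TG_mem_Fixer hj₀a' 1 ?_⟩
        intro y hy
        have hy' : lev y < k := hy
        constructor
        · intro h'; rw [h', lev_bar] at hy'; omega
        · intro h'; rw [h', lev_bar] at hy'; omega
      obtain ⟨v', hv'⟩ : ∃ v' : Idx n → F,
          v' = ((TG j₀ a (1 : F) : GL (Idx n) F) : Matrix (Idx n) (Idx n) F) *ᵥ v := ⟨_, rfl⟩
      have hv'j : v' j₀ ≠ 0 := by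
        rw [hv', TG_coe hj₀a', T_mulVec, if_pos rfl, if_neg hj₀a, h j₀ hj₀a hj₀a', zero_add, one_mul,
          sub_zero]
        exact hb
      obtain ⟨e2, he2, h2⟩ := exists_ne_zero_aux ha hj₀ hj₀a hj₀a' hv'j
      refine ⟨e2 * TG j₀ a 1, mul_mem he2 hmem, ?_⟩
      rw [coe_mul_mulVec, ← hv']
      exact h2
    · refine ⟨1, one_mem _, ?_⟩
      rw [Units.val_one, Matrix.one_mulVec]
      exact h0

end Cfsg.Agent.Helper7.D4O
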