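import Mathlib
import Cfsg.Agent.Helper7.D4OE

set_option autoImplicit false
set_option maxHeartbeats 800000

/-!
Every isometry of the hyperbolic quadratic form is, modulo the group generated by the root elements,
a monomial matrix: the reduction.
-/

namespace Cfsg.Agent.Helper7.D4O

open Cfsg Matrix

variable {n : ℕ} {F : Type*} [Field F]

/-- The matrix maps the basis vectors of level less than `k` to multiples of themselves. -/
def Red (k : ℕ) (g : GL (Idx n) F) : Prop :=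
  ∀ x : Idx n, lev x < k → ∃ c : F, (g : Matrix (Idx n) (Idx n) F) *ᵥ bv x = c • bv x

theorem bv_ne_zero (x : Idx n) : (bv x : Idx n → F) ≠ 0 := by
  intro h
  have := congrFun h x
  rw [bv_apply, if_pos rfl] at this
  exact one_ne_zero this

theorem mulVec_ne_zero (g : GL (Idx n) F) {v : Idx n → F} (hv : v ≠ 0) :
    (g : Matrix (Idx n) (Idx n) F) *ᵥ v ≠ 0 := by
  intro h
  apply hv
  have h2 : ((g⁻¹ : GL (Idx n) F) : Matrix (Idx n) (Idx n) F) *ᵥ
      ((g : Matrix (Idx n) (Idx n) F) *ᵥ v) = v := by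
    rw [Matrix.mulVec_mulVec, ← Units.val_mul, inv_mul_cancel, Units.val_one, Matrix.one_mulVec]
  rw [h, Matrix.mulVec_zero] at h2
  exact h2.symm

theorem coeff_ne_zero {g : GL (Idx n) F} {x : Idx n} {c : F}
    (h : (g : Matrix (Idx n) (Idx n) F) *ᵥ bv x = c • bv x) : c ≠ 0 := by
  intro hc
  rw [hc, zero_smul] at h
  exact mulVec_ne_zero g (bv_ne_zero x) h

theorem Red_mul {k : ℕ} {e g : GL (Idx n) F} (he : e ∈ Fixer {y : Idx n | lev y < k})
    (hr : Red k g) : Red k (e * g) := by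
  intro x hx
  obtain ⟨c, hc⟩ := hr x hx
  refine ⟨c, ?_⟩
  rw [coe_mul_mulVec, hc, Matrix.mulVec_smul, he x hx]

theorem Fixer_mono {S S' : Set (Idx n)} (h : S ⊆ S') : (Fixer S' : Subgroup (GL (Idx n) F)) ≤ Fixer S :=
  fun _ hg x hx => hg x (h hx)

/-- The support of the images of the other basis vectors. -/
theorem supp_of_Red {k : ℕ} {g : GL (Idx n) F} (hg : g ∈ GO n F) (hr : Red k g) {x y : Idx n}
    (hx : k ≤ lev x) (hy : lev y < k) : ((g : Matrix (Idx n) (Idx n) F) *ᵥ bv x) y = 0 := by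
  obtain ⟨c, hc⟩ := hr (bar y) (by rw [lev_bar]; exact hy)
  have hc0 := coeff_ne_zero hc
  have h1 := Bp_map hg (bv x) (bv (bar y))
  rw [hc, Bp_smul_right, Bp_bv_right, Bp_bv_right, bar_bar, bv_apply, if_neg] at h1
  · exact (mul_eq_zero.mp h1).resolve_left hc0
  · intro h; rw [h] at hy; omega

/-- One step of the reduction. -/
theorem red_step {k : ℕ} (hk : k + 1 < n) {g : GL (Idx n) F} (hg : g ∈ GO n F) (hr : Red k g) :
    ∃ e ∈ EO n F, Red (k + 1) (e * g) := by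
  obtain ⟨a, ha_def⟩ : ∃ a : Idx n, a = Sum.inl ⟨k, by omega⟩ := ⟨_, rfl⟩
  obtain ⟨j₀, hj₀_def⟩ : ∃ j₀ : Idx n, j₀ = Sum.inl ⟨k + 1, hk⟩ := ⟨_, rfl⟩
  have ha : lev a = k := by rw [ha_def]; rfl
  have hj₀ : lev j₀ = k + 1 := by rw [hj₀_def]; rfl
  have hj₀a : j₀ ≠ a := by intro h; rw [h] at hj₀; omega
  have hj₀a' : j₀ ≠ bar a := by intro h; rw [h, lev_bar] at hj₀; omega
  -- first vector
  obtain ⟨e1, he1, h1⟩ := exists_ne_zero (a := a) (j₀ := j₀) (k := k) (by omega) (by omega) hj₀a hj₀a'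
    (mulVec_ne_zero g (bv_ne_zero a)) (fun y hy => supp_of_Red hg hr (by omega) hy)
  have hg1 : e1 * g ∈ GO n F := mul_mem (EO_le_GO he1.1) hg
  have hr1 : Red k (e1 * g) := Red_mul he1.2 hr
  rw [← coe_mul_mulVec] at h1
  have hQ1 : Qf (((e1 * g : GL (Idx n) F) : Matrix (Idx n) (Idx n) F) *ᵥ bv a) = 0 := by
    rw [Qf_map hg1, Qf_bv]
  obtain ⟨e2, he2, h2⟩ := kill (a := a) (k := k) (by omega) h1
    (fun y hy => supp_of_Red hg1 hr1 (by omega) hy) hQ1
  obtain ⟨c, hc_def⟩ : ∃ c : F, c = (((e1 * g : GL (Idx n) F) : Matrix (Idx n) (Idx n) F) *ᵥ bv a) a :=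
    ⟨_, rfl⟩
  rw [← hc_def] at h1 h2
  rw [← coe_mul_mulVec] at h2
  have he2' : e2 ∈ Fixer {y : Idx n | lev y < k} :=
    Fixer_mono (Set.subset_union_left) he2.2
  have hg2 : e2 * (e1 * g) ∈ GO n F := mul_mem (EO_le_GO he2.1) hg1
  have hr2 : Red k (e2 * (e1 * g)) := Red_mul he2' hr1
  -- second vector
  obtain ⟨w, hw_def⟩ : ∃ w : Idx n → F,
      w = ((e2 * (e1 * g) : GL (Idx n) F) : Matrix (Idx n) (Idx n) F) *ᵥ bv (bar a) := ⟨_, rfl⟩
  have hw1 : c * w (bar a) = 1 := by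
    have := Bp_map hg2 (bv a) (bv (bar a))
    rw [h2, ← hw_def, Bp_smul_left, Bp_bv_left, Bp_bv_left, bv_apply, if_pos rfl] at this
    exact this
  have hwa : w (bar a) ≠ 0 := right_ne_zero_of_mul_eq_one hw1
  have hQw : Qf w = 0 := by rw [hw_def, Qf_map hg2, Qf_bv]
  obtain ⟨e3, he3, h3⟩ := kill (a := bar a) (k := k) (by rw [lev_bar]; omega) hwa
    (fun y hy => by rw [hw_def]; exact supp_of_Red hg2 hr2 (by rw [lev_bar]; omega) hy) hQw
  have he3' : e3 ∈ Fixer {y : Idx n | lev y < k} :=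
    Fixer_mono (Set.subset_union_left) he3.2
  have he3a : (e3 : Matrix (Idx n) (Idx n) F) *ᵥ bv a = bv a := by
    have := he3.2 (bar (bar a)) (Set.mem_union_right _ rfl)
    rw [bar_bar] at this
    exact this
  have hr3 : Red k (e3 * (e2 * (e1 * g))) := Red_mul he3' hr2
  refine ⟨e3 * e2 * e1, mul_mem (mul_mem he3.1 he2.1) he1.1, ?_⟩
  have hassoc : e3 * e2 * e1 * g = e3 * (e2 * (e1 * g)) := by simp only [mul_assoc]
  rw [hassoc]
  intro x hx
  by_cases hxk : lev x < k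
  · exact hr3 x hxk
  · have hxa : lev x = lev a := by omega
    rcases eq_or_eq_bar_of_lev_eq hxa with rfl | rfl
    · refine ⟨c, ?_⟩
      rw [coe_mul_mulVec, h2, Matrix.mulVec_smul, he3a]
    · refine ⟨w (bar a), ?_⟩
      rw [coe_mul_mulVec, ← hw_def, h3]

/-- The reduction to level `k`. -/
theorem red_all (k : ℕ) (hk : k < n) {g : GL (Idx n) F} (hg : g ∈ GO n F) :
    ∃ e ∈ EO n F, Red k (e * g) := by
  induction k with
  | zero =>
    refine ⟨1, one_mem _, ?_⟩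
    intro x hx
    exact absurd hx (Nat.not_lt_zero _)
  | succ k ih =>
    obtain ⟨e, he, hr⟩ := ih (by omega)
    obtain ⟨e', he', hr'⟩ := red_step hk (mul_mem (EO_le_GO he) hg) hr
    refine ⟨e' * e, mul_mem he' he, ?_⟩
    rw [mul_assoc]
    exact hr'

end Cfsg.Agent.Helper7.D4O
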