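import Mathlib
import Cfsg.Agent.Helper7.D4OF

set_option autoImplicit false
set_option maxHeartbeats 800000

/-!
The end of the reduction: the swap of a hyperbolic pair, and the decomposition of an isometry of the
hyperbolic quadratic form as the product of an element of the group generated by the root elements
and a diagonal matrix or the product of the swap and a diagonal matrix.
-/

namespace Cfsg.Agent.Helper7.D4O

open Cfsg Matrix

variable {n : ℕ} {F : Type*} [Field F]

/-- The swap of `a` and `bar a`. -/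
def swp (a : Idx n) : Equiv.Perm (Idx n) := Equiv.swap a (bar a)

theorem swp_self (a : Idx n) : swp a a = bar a := Equiv.swap_apply_left _ _

theorem swp_bar (a : Idx n) : swp a (bar a) = a := Equiv.swap_apply_right _ _

theorem swp_of_ne {a x : Idx n} (h1 : x ≠ a) (h2 : x ≠ bar a) : swp a x = x :=
  Equiv.swap_apply_of_ne_of_ne h1 h2

theorem swp_swp (a x : Idx n) : swp a (swp a x) = x := Equiv.swap_apply_self _ _ _

theorem bar_swp (a x : Idx n) : bar (swp a x) = swp a (bar x) := by
  by_cases h1 : x = a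
  · rw [h1, swp_self, swp_bar, bar_bar]
  · by_cases h2 : x = bar a
    · rw [h2, swp_bar, bar_bar, swp_self]
    · rw [swp_of_ne h1 h2, swp_of_ne (fun h => h2 (by rw [← h, bar_bar]))
        (fun h => h1 (bar_inj.mp h))]

/-- The matrix of the swap. -/
def SM (a : Idx n) : Matrix (Idx n) (Idx n) F := (swp a).permMatrix F

theorem SM_mulVec (a : Idx n) (v : Idx n → F) : (SM a : Matrix (Idx n) (Idx n) F) *ᵥ v = v ∘ swp a :=
  Matrix.permMatrix_mulVec _

theorem SM_mul_SM (a : Idx n) : (SM a : Matrix (Idx n) (Idx n) F) * SM a = 1 := by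
  unfold SM
  rw [← Matrix.permMatrix_mul]
  have : swp a * swp a = 1 := by
    ext x
    exact swp_swp a x
  rw [this, Matrix.permMatrix_one]

/-- The swap as an invertible matrix. -/
def SG (a : Idx n) : GL (Idx n) F := ⟨SM a, SM a, SM_mul_SM a, SM_mul_SM a⟩

@[simp] theorem SG_coe (a : Idx n) :
    ((SG a : GL (Idx n) F) : Matrix (Idx n) (Idx n) F) = SM a := rfl

theorem SG_mul_SG (a : Idx n) : (SG a : GL (Idx n) F) * SG a = 1 := by
  apply Units.ext
  exact SM_mul_SM a

theorem SG_inv (a : Idx n) : (SG a : GL (Idx n) F)⁻¹ = SG a :=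
  inv_eq_of_mul_eq_one_right (SG_mul_SG a)

theorem SM_mulVec_bv (a x : Idx n) :
    (SM a : Matrix (Idx n) (Idx n) F) *ᵥ bv x = bv (swp a x) := by
  rw [SM_mulVec]
  funext y
  rw [Function.comp_apply, bv_apply, bv_apply]
  by_cases h : y = swp a x
  · rw [if_pos h, if_pos (by rw [h, swp_swp])]
  · rw [if_neg h, if_neg (fun h' => h (by rw [← h', swp_swp]))]

theorem SG_mem_GO (a : Idx n) : (SG a : GL (Idx n) F) ∈ GO n F := by
  rw [mem_GO]
  intro v
  rw [SG_coe, SM_mulVec]
  unfold Qf quadFormPlus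
  apply Finset.sum_congr rfl
  intro m _
  rw [Function.comp_apply, Function.comp_apply]
  by_cases h1 : (Sum.inl m : Idx n) = a
  · have h2 : (Sum.inr m : Idx n) = bar a := by rw [← h1]; rfl
    rw [h1, h2, swp_self, swp_bar, mul_comm]
  · by_cases h2 : (Sum.inl m : Idx n) = bar a
    · have h3 : (Sum.inr m : Idx n) = a := by
        have := congrArg bar h2
        rw [bar_bar] at this
        rw [← this]; rfl
      rw [h2, h3, swp_self, swp_bar, mul_comm]
    · have h3 : (Sum.inr m : Idx n) ≠ a := by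
        intro h; apply h2; rw [← h]; rfl
      have h4 : (Sum.inr m : Idx n) ≠ bar a := by
        intro h; apply h1
        have := congrArg bar h
        rw [bar_bar] at this
        rw [← this]; rfl
      rw [swp_of_ne h1 h2, swp_of_ne h3 h4]

theorem lev_lt (x : Idx n) : lev x < n := by
  rcases x with x | x <;> exact x.2

theorem vec_eq_of_supp {v : Idx n → F} {a : Idx n} (h : ∀ x, x ≠ a → x ≠ bar a → v x = 0)
    (hb : v (bar a) = 0) : v = v a • bv a := by
  funext x
  rw [Pi.smul_apply, bv_apply, smul_eq_mul]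
  by_cases hxa : x = a
  · rw [hxa, if_pos rfl, mul_one]
  · rw [if_neg hxa, mul_zero]
    by_cases hxa' : x = bar a
    · rw [hxa', hb]
    · exact h x hxa hxa'

theorem Bp_eq_of_supp {v w : Idx n → F} (a : Idx n) (h : ∀ x, x ≠ a → x ≠ bar a → w x = 0) :
    Bp v w = v (bar a) * w a + v a * w (bar a) := by
  unfold Bp
  rw [Finset.sum_eq_add a (bar a) (ne_bar a)]
  · rw [bar_bar]
  · intro x _ hx
    rw [h x hx.1 hx.2, mul_zero]
  · intro h'; exact absurd (Finset.mem_univ _) h'
  · intro h'; exact absurd (Finset.mem_univ _) h'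

/-- The last step of the reduction. -/
theorem red_last (hn : 0 < n) {g : GL (Idx n) F} (hg : g ∈ GO n F) (hr : Red (n - 1) g) :
    Red n g ∨ Red n (SG (Sum.inl ⟨n - 1, by omega⟩) * g) := by
  obtain ⟨a, ha_def⟩ : ∃ a : Idx n, a = Sum.inl ⟨n - 1, by omega⟩ := ⟨_, rfl⟩
  rw [← ha_def]
  have ha : lev a = n - 1 := by rw [ha_def]; rfl
  have hlt : ∀ x : Idx n, x ≠ a → x ≠ bar a → lev x < n - 1 := by
    intro x h1 h2
    have := lev_lt x
    by_contra hc
    have hxa : lev x = lev a := by omega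
    rcases eq_or_eq_bar_of_lev_eq hxa with h | h
    · exact h1 h
    · exact h2 h
  obtain ⟨v, hv_def⟩ : ∃ v : Idx n → F, v = (g : Matrix (Idx n) (Idx n) F) *ᵥ bv a := ⟨_, rfl⟩
  obtain ⟨w, hw_def⟩ : ∃ w : Idx n → F, w = (g : Matrix (Idx n) (Idx n) F) *ᵥ bv (bar a) := ⟨_, rfl⟩
  have hv : ∀ x, x ≠ a → x ≠ bar a → v x = 0 := by
    intro x h1 h2
    rw [hv_def]
    exact supp_of_Red hg hr (by omega) (hlt x h1 h2)
  have hw : ∀ x, x ≠ a → x ≠ bar a → w x = 0 := by
    intro x h1 h2
    rw [hw_def]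
    exact supp_of_Red hg hr (by rw [lev_bar]; omega) (hlt x h1 h2)
  have hQv : v a * v (bar a) = 0 := by
    rw [← Qf_eq_of_supp a hv, hv_def, Qf_map hg, Qf_bv]
  have hQw : w a * w (bar a) = 0 := by
    rw [← Qf_eq_of_supp a hw, hw_def, Qf_map hg, Qf_bv]
  have hB : v (bar a) * w a + v a * w (bar a) = 1 := by
    rw [← Bp_eq_of_supp a hw, hv_def, hw_def, Bp_map hg, Bp_bv_left, bv_apply, if_pos rfl]
  have hw' : ∀ x, x ≠ bar a → x ≠ bar (bar a) → w x = 0 := by
    intro x h1 h2
    rw [bar_bar] at h2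
    exact hw x h2 h1
  have hv' : ∀ x, x ≠ bar a → x ≠ bar (bar a) → v x = 0 := by
    intro x h1 h2
    rw [bar_bar] at h2
    exact hv x h2 h1
  rcases mul_eq_zero.mp hQv with h0 | h0
  · -- `v a = 0`
    right
    rw [h0, zero_mul, add_zero] at hB
    have hwa : w a ≠ 0 := right_ne_zero_of_mul_eq_one hB
    have hwb : w (bar a) = 0 := (mul_eq_zero.mp hQw).resolve_left hwa
    have ev : v = v (bar a) • bv (bar a) := vec_eq_of_supp hv' (by rw [bar_bar]; exact h0)
    have ew : w = w a • bv a := vec_eq_of_supp hw hwb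
    intro x _
    by_cases h1 : x = a
    · refine ⟨v (bar a), ?_⟩
      rw [h1, coe_mul_mulVec, ← hv_def, ev, SG_coe, Matrix.mulVec_smul, SM_mulVec_bv, swp_bar,
        Pi.smul_apply, bv_apply, if_pos rfl, smul_eq_mul, mul_one]
    · by_cases h2 : x = bar a
      · refine ⟨w a, ?_⟩
        rw [h2, coe_mul_mulVec, ← hw_def, ew, SG_coe, Matrix.mulVec_smul, SM_mulVec_bv, swp_self,
          Pi.smul_apply, bv_apply, if_pos rfl, smul_eq_mul, mul_one]
      · obtain ⟨c, hc⟩ := hr x (hlt x h1 h2)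
        refine ⟨c, ?_⟩
        rw [coe_mul_mulVec, hc, SG_coe, Matrix.mulVec_smul, SM_mulVec_bv, swp_of_ne h1 h2]
  · -- `v (bar a) = 0`
    left
    rw [h0, zero_mul, zero_add] at hB
    have hwb : w (bar a) ≠ 0 := right_ne_zero_of_mul_eq_one hB
    have hwa : w a = 0 := (mul_eq_zero.mp hQw).resolve_right hwb
    have ev : v = v a • bv a := vec_eq_of_supp hv h0
    have ew : w = w (bar a) • bv (bar a) := vec_eq_of_supp hw' (by rw [bar_bar]; exact hwa)
    intro x _
    by_cases h1 : x = a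
    · refine ⟨v a, ?_⟩
      rw [h1, ← hv_def]
      exact ev
    · by_cases h2 : x = bar a
      · refine ⟨w (bar a), ?_⟩
        rw [h2, ← hw_def]
        exact ew
      · exact hr x (hlt x h1 h2)

/-- A matrix which maps all the basis vectors to multiples of themselves is diagonal. -/
theorem diag_of_Red {g : GL (Idx n) F} (hr : Red n g) :
    ∃ d : Idx n → F, (g : Matrix (Idx n) (Idx n) F) = Matrix.diagonal d := by
  choose d hd using fun x : Idx n => hr x (lev_lt x)
  refine ⟨d, ?_⟩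
  ext y x
  have h := congrFun (hd x) y
  unfold bv at h
  rw [Matrix.mulVec_single_one, Pi.smul_apply, Pi.single_apply, smul_eq_mul, mul_ite, mul_one,
    mul_zero] at h
  rw [Matrix.diagonal_apply]
  change (g : Matrix (Idx n) (Idx n) F) y x = _ at h
  rw [h]
  by_cases hyx : y = x
  · rw [if_pos hyx, if_pos hyx, hyx]
  · rw [if_neg hyx, if_neg hyx]

/-- The decomposition of an isometry. -/
theorem decomp (hn : 0 < n) {g : GL (Idx n) F} (hg : g ∈ GO n F) :
    ∃ e ∈ EO n F, ∃ d : Idx n → F,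
      ((e * g : GL (Idx n) F) : Matrix (Idx n) (Idx n) F) = Matrix.diagonal d ∨
      ((SG (Sum.inl ⟨n - 1, by omega⟩) * (e * g) : GL (Idx n) F) : Matrix (Idx n) (Idx n) F) =
        Matrix.diagonal d := by
  obtain ⟨e, he, hr⟩ := red_all (n - 1) (by omega) hg
  refine ⟨e, he, ?_⟩
  rcases red_last hn (mul_mem (EO_le_GO he) hg) hr with h | h
  · obtain ⟨d, hd⟩ := diag_of_Red h
    exact ⟨d, Or.inl hd⟩
  · obtain ⟨d, hd⟩ := diag_of_Red h
    exact ⟨d, Or.inr hd⟩

end Cfsg.Agent.Helper7.D4O
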