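import Mathlib
import Cfsg.Agent.Helper7.D4OG

set_option autoImplicit false
set_option maxHeartbeats 800000

/-!
The group generated by the root elements is normal in the group of isometries of the hyperbolic
quadratic form.
-/

namespace Cfsg.Agent.Helper7.D4O

open Cfsg Matrix

variable {n : ℕ} {F : Type*} [Field F]

theorem diag_mulVec_bv (d : Idx n → F) (x : Idx n) :
    Matrix.diagonal d *ᵥ (bv x : Idx n → F) = d x • bv x := by
  unfold bv
  rw [Matrix.diagonal_mulVec_single, mul_one]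
  funext y
  rw [Pi.smul_apply, Pi.single_apply, Pi.single_apply, smul_eq_mul, mul_ite, mul_one, mul_zero]

theorem diag_mul_bar {δ : GL (Idx n) F} (hδ : δ ∈ GO n F) {d : Idx n → F}
    (hd : (δ : Matrix (Idx n) (Idx n) F) = Matrix.diagonal d) (x : Idx n) :
    d x * d (bar x) = 1 := by
  have h := Bp_map hδ (bv x) (bv (bar x))
  rw [hd, diag_mulVec_bv, diag_mulVec_bv, Bp_smul_left, Bp_smul_right, Bp_bv_left, bv_apply,
    if_pos rfl, mul_one] at h
  exact h

theorem diag_mul_E (d : Idx n → F) (x y : Idx n) :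
    Matrix.diagonal d * (E x y : Matrix (Idx n) (Idx n) F) = d x • E x y := by
  ext u v
  rw [Matrix.diagonal_mul, Matrix.smul_apply, E_apply, smul_eq_mul]
  by_cases h : u = x ∧ v = y
  · rw [if_pos h, h.1]
  · rw [if_neg h, mul_zero, mul_zero]

theorem E_mul_diag (d : Idx n → F) (x y : Idx n) :
    (E x y : Matrix (Idx n) (Idx n) F) * Matrix.diagonal d = d y • E x y := by
  ext u v
  rw [Matrix.mul_diagonal, Matrix.smul_apply, E_apply, smul_eq_mul]
  by_cases h : u = x ∧ v = y
  · rw [if_pos h, h.2, mul_comm]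
  · rw [if_neg h, mul_zero, zero_mul]

theorem diag_mul_T {d : Idx n → F} (hd : ∀ x, d x * d (bar x) = 1) (i j : Idx n) (t : F) :
    Matrix.diagonal d * T i j t = T i j (d i * d j * t) * Matrix.diagonal d := by
  unfold T M
  rw [mul_add, add_mul, mul_one, one_mul, Matrix.mul_smul, Matrix.smul_mul, mul_sub, sub_mul,
    diag_mul_E, diag_mul_E, E_mul_diag, E_mul_diag, smul_sub, smul_sub, smul_smul, smul_smul,
    smul_smul, smul_smul]
  congr 2
  · congr 1
    have := hd j
    linear_combination (-(t * d i)) * this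
  · congr 1
    have := hd i
    linear_combination (-(t * d j)) * this

theorem diag_conj_mem_EO {δ : GL (Idx n) F} (hδ : δ ∈ GO n F) {d : Idx n → F}
    (hd : (δ : Matrix (Idx n) (Idx n) F) = Matrix.diagonal d) {x : GL (Idx n) F}
    (hx : x ∈ EO n F) : δ * x * δ⁻¹ ∈ EO n F := by
  have hle : EO n F ≤ (EO n F).comap (MulAut.conj δ).toMonoidHom := by
    unfold EO
    rw [Subgroup.closure_le]
    rintro _ ⟨i, j, t, h1, h2, rfl⟩
    rw [SetLike.mem_coe, Subgroup.mem_comap]
    change δ * TG i j t * δ⁻¹ ∈ _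
    have e : δ * TG i j t = TG i j (d i * d j * t) * δ := by
      apply Units.ext
      rw [Units.val_mul, Units.val_mul, TG_coe h2, TG_coe h2, hd]
      exact diag_mul_T (diag_mul_bar hδ hd) i j t
    rw [e, mul_assoc, mul_inv_cancel, mul_one]
    exact Subgroup.subset_closure ⟨i, j, _, h1, h2, rfl⟩
  exact hle hx

theorem SM_mul_mul_SM (a : Idx n) (A : Matrix (Idx n) (Idx n) F) :
    SM a * A * SM a = A.submatrix (swp a) (swp a) := by
  unfold SM Equiv.Perm.permMatrix
  rw [PEquiv.toMatrix_toPEquiv_mul, PEquiv.mul_toMatrix_toPEquiv, Matrix.submatrix_submatrix]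
  have : (swp a).symm = swp a := Equiv.symm_swap _ _
  rw [this]
  rfl

theorem SM_mul_T (a i j : Idx n) (t : F) :
    (SM a : Matrix (Idx n) (Idx n) F) * T i j t = T (swp a i) (swp a j) t * SM a := by
  have h1 : (SM a : Matrix (Idx n) (Idx n) F) * T i j t * SM a = T (swp a i) (swp a j) t := by
    rw [SM_mul_mul_SM]
    unfold T M E
    have hs : (swp a).symm = swp a := Equiv.symm_swap _ _
    rw [Matrix.submatrix_add, Matrix.submatrix_smul, Matrix.submatrix_sub]
    simp only [Pi.add_apply, Pi.smul_apply, Pi.sub_apply]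
    rw [Matrix.submatrix_one_equiv, Matrix.submatrix_single_equiv, Matrix.submatrix_single_equiv, hs,
      bar_swp, bar_swp]
  calc (SM a : Matrix (Idx n) (Idx n) F) * T i j t
      = SM a * T i j t * (SM a * SM a) := by rw [SM_mul_SM, mul_one]
    _ = SM a * T i j t * SM a * SM a := by rw [mul_assoc, mul_assoc, mul_assoc]
    _ = T (swp a i) (swp a j) t * SM a := by rw [h1]

theorem swp_ne {a i j : Idx n} (h : i ≠ j) : swp a i ≠ swp a j :=
  fun h' => h ((swp a).injective h')

theorem SG_conj_mem_EO (a : Idx n) {x : GL (Idx n) F} (hx : x ∈ EO n F) :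
    SG a * x * (SG a)⁻¹ ∈ EO n F := by
  have hle : EO n F ≤ (EO n F).comap (MulAut.conj (SG a)).toMonoidHom := by
    unfold EO
    rw [Subgroup.closure_le]
    rintro _ ⟨i, j, t, h1, h2, rfl⟩
    rw [SetLike.mem_coe, Subgroup.mem_comap]
    change SG a * TG i j t * (SG a)⁻¹ ∈ _
    have h2' : swp a i ≠ bar (swp a j) := by
      rw [bar_swp]; exact swp_ne h2
    have e : SG a * TG i j t = TG (swp a i) (swp a j) t * SG a := by
      apply Units.ext
      rw [Units.val_mul, Units.val_mul, TG_coe h2, TG_coe h2', SG_coe]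
      exact SM_mul_T a i j t
    rw [e, mul_assoc, mul_inv_cancel, mul_one]
    exact Subgroup.subset_closure ⟨_, _, t, swp_ne h1, h2', rfl⟩
  exact hle hx

/-- The group generated by the root elements is normalized by the isometries. -/
theorem conj_mem_EO (hn : 0 < n) {g : GL (Idx n) F} (hg : g ∈ GO n F) {x : GL (Idx n) F}
    (hx : x ∈ EO n F) : g * x * g⁻¹ ∈ EO n F := by
  obtain ⟨e, he, d, hd | hd⟩ := decomp hn hg
  · have hδ : e * g ∈ GO n F := mul_mem (EO_le_GO he) hg
    have h1 := diag_conj_mem_EO hδ hd hx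
    have h2 : g * x * g⁻¹ = e⁻¹ * (e * g * x * (e * g)⁻¹) * e := by group
    rw [h2]
    exact mul_mem (mul_mem (inv_mem he) h1) he
  · have hδ : SG (Sum.inl ⟨n - 1, by omega⟩) * (e * g) ∈ GO n F :=
      mul_mem (SG_mem_GO _) (mul_mem (EO_le_GO he) hg)
    have h1 := diag_conj_mem_EO hδ hd hx
    have h3 := SG_conj_mem_EO (Sum.inl ⟨n - 1, by omega⟩) h1
    rw [SG_inv] at h3
    have hS := SG_mul_SG (F := F) (Sum.inl ⟨n - 1, by omega⟩ : Idx n)
    have h2 : g * x * g⁻¹ = e⁻¹ * (SG (Sum.inl ⟨n - 1, by omega⟩) *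
        (SG (Sum.inl ⟨n - 1, by omega⟩) * (e * g) * x *
          (SG (Sum.inl ⟨n - 1, by omega⟩) * (e * g))⁻¹) * SG (Sum.inl ⟨n - 1, by omega⟩)) * e := by
      rw [_root_.mul_inv_rev, SG_inv]
      simp only [mul_assoc]
      rw [← mul_assoc (SG _) (SG _), hS, one_mul]
      rw [← mul_assoc (SG _) (SG _), hS, one_mul]
      group
    rw [h2]
    exact mul_mem (mul_mem (inv_mem he) h3) he

end Cfsg.Agent.Helper7.D4O
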