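import Mathlib
import Cfsg.Agent.Helper7.D4OH
import Cfsg.Agent.Helper7.D4OC

set_option autoImplicit false
set_option maxHeartbeats 800000

/-!
The commutator subgroup of the group of isometries of the hyperbolic quadratic form is the group
generated by the root elements.
-/

namespace Cfsg.Agent.Helper7.D4O

open Cfsg Matrix

variable {n : ℕ} {F : Type*} [Field F]

/-- The diagonal entries of the diagonal element attached to a pair. -/
def hd (i j : Idx n) (t : F) (x : Idx n) : F :=
  if x = i ∨ x = j then t else if x = bar i ∨ x = bar j then t⁻¹ else 1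

/-- The diagonal element attached to a pair, written with matrix units. -/
def Hm (i j : Idx n) (t : F) : Matrix (Idx n) (Idx n) F :=
  1 - M i j * M (bar j) (bar i) - M (bar j) (bar i) * M i j + t • (M i j * M (bar j) (bar i)) +
    t⁻¹ • (M (bar j) (bar i) * M i j)

/-- The diagonal element attached to a pair, as a product of root elements. -/
def HG (i j : Idx n) (t : F) : GL (Idx n) F :=
  TG i j t * TG (bar j) (bar i) (-t⁻¹) * TG i j t *
    (TG i j (-1) * TG (bar j) (bar i) (-(-1 : F)⁻¹) * TG i j (-1))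

theorem HG_mem_EO {i j : Idx n} (h1 : i ≠ j) (h2 : i ≠ bar j) (t : F) : HG i j t ∈ EO n F := by
  have h3 : bar j ≠ bar i := fun h => h1 (bar_inj.mp h).symm
  have h4 : bar j ≠ bar (bar i) := by rw [bar_bar]; exact fun h => h2 h.symm
  unfold HG
  exact mul_mem (mul_mem (mul_mem (TG_mem_EO h1 h2 _) (TG_mem_EO h3 h4 _)) (TG_mem_EO h1 h2 _))
    (mul_mem (mul_mem (TG_mem_EO h1 h2 _) (TG_mem_EO h3 h4 _)) (TG_mem_EO h1 h2 _))

theorem HG_coe {i j : Idx n} (h1 : i ≠ j) (h2 : i ≠ bar j) {t : F} (ht : t ≠ 0) :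
    ((HG i j t : GL (Idx n) F) : Matrix (Idx n) (Idx n) F) = Hm i j t := by
  have h3 : bar j ≠ bar i := fun h => h1 (bar_inj.mp h).symm
  have h4 : bar j ≠ bar (bar i) := by rw [bar_bar]; exact fun h => h2 h.symm
  have he : (M i j : Matrix (Idx n) (Idx n) F) * M i j = 0 := M_sq h2
  have hf : (M (bar j) (bar i) : Matrix (Idx n) (Idx n) F) * M (bar j) (bar i) = 0 := M_sq h4
  have hefe : (M i j : Matrix (Idx n) (Idx n) F) * M (bar j) (bar i) * M i j = M i j :=
    M_mul_Mt_mul_M h1
  have hfef : (M (bar j) (bar i) : Matrix (Idx n) (Idx n) F) * M i j * M (bar j) (bar i) =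
      M (bar j) (bar i) := by
    have := M_mul_Mt_mul_M (F := F) h3
    rw [bar_bar, bar_bar] at this
    exact this
  have n1 := n_formula (F := F) (R := Matrix (Idx n) (Idx n) F) (M i j) (M (bar j) (bar i)) he hefe t ht
  have n2 := n_formula (F := F) (R := Matrix (Idx n) (Idx n) F) (M i j) (M (bar j) (bar i)) he hefe
    (-1 : F) (by norm_num)
  have n3 := h_formula (F := F) (R := Matrix (Idx n) (Idx n) F) (M i j) (M (bar j) (bar i)) he hf hefe
    hfef t
  unfold HG Hm
  simp only [Units.val_mul, TG_coe h2, TG_coe h4]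
  unfold T
  rw [n1, n2, n3]

theorem E_self_eq_diag (x : Idx n) :
    (E x x : Matrix (Idx n) (Idx n) F) = Matrix.diagonal (Pi.single x 1) := by
  unfold E
  rw [Matrix.diagonal_single]

theorem Hm_eq_diag {i j : Idx n} (h1 : i ≠ j) (h2 : i ≠ bar j) (t : F) :
    Hm i j t = Matrix.diagonal (hd i j t) := by
  have h3 : bar j ≠ bar i := fun h => h1 (bar_inj.mp h).symm
  unfold Hm
  have e1 := M_mul_Mt (F := F) h1
  have e2 := M_mul_Mt (F := F) h3
  rw [bar_bar, bar_bar] at e2
  rw [e1, e2, E_self_eq_diag, E_self_eq_diag, E_self_eq_diag, E_self_eq_diag,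
    ← Matrix.diagonal_one]
  simp only [Matrix.diagonal_add, Matrix.diagonal_sub, ← Matrix.diagonal_smul]
  congr 1
  funext x
  simp only [Pi.add_apply, Pi.sub_apply, Pi.smul_apply, Pi.one_apply, Pi.single_apply, smul_eq_mul]
  unfold hd
  by_cases hi : x = i
  · have a1 : ¬ x = j := fun h => h1 (hi ▸ h)
    have a2 : ¬ x = bar j := fun h => h2 (hi ▸ h)
    have a3 : ¬ x = bar i := fun h => ne_bar i (hi ▸ h)
    simp only [hi, if_true, true_or]
    rw [hi] at a1 a2 a3
    simp only [a1, a2, a3, if_false]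
    ring
  · by_cases hj : x = j
    · have a2 : ¬ x = bar j := fun h => ne_bar j (hj ▸ h)
      have a3 : ¬ x = bar i := fun h => h2 (by rw [← hj, h, bar_bar])
      simp only [hj, if_true, or_true]
      rw [hj] at hi a2 a3
      simp only [hi, a2, a3, if_false]
      ring
    · by_cases hi' : x = bar i
      · have a2 : ¬ x = bar j := fun h => h1 (bar_inj.mp (hi' ▸ h))
        simp only [hi, hj, hi', if_true, if_false, true_or, or_self, false_or]
        rw [hi'] at hi hj a2
        simp only [hi, hj, a2, if_false, or_self]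
        ring
      · by_cases hj' : x = bar j
        · simp only [hi, hj, hj', if_true, if_false, or_true, or_self]
          rw [hj'] at hi hj hi'
          simp only [hi, hj, hi', if_false, or_self]
          ring
        · simp only [hi, hj, hi', hj', if_false, or_self]
          ring

theorem hd_ne_zero {i j : Idx n} {t : F} (ht : t ≠ 0) (x : Idx n) : hd i j t x ≠ 0 := by
  unfold hd
  split_ifs
  · exact ht
  · exact inv_ne_zero ht
  · exact one_ne_zero

/-- The commutator of the swap and a diagonal isometry lies in the group generated by the root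
elements. -/
theorem SG_diag {a p : Idx n} (hp1 : p ≠ a) (hp2 : p ≠ bar a) {δ : GL (Idx n) F}
    (hδ : δ ∈ GO n F) {d : Idx n → F} (hd' : (δ : Matrix (Idx n) (Idx n) F) = Matrix.diagonal d) :
    ∃ h ∈ EO n F, SG a * δ = h * (δ * SG a) := by
  have hdd := diag_mul_bar hδ hd'
  obtain ⟨c, hc_def⟩ : ∃ c : F, c = d (bar a) := ⟨_, rfl⟩
  have hc : c ≠ 0 := by
    rw [hc_def]
    exact right_ne_zero_of_mul_eq_one (hdd a)
  have q1 : bar p ≠ a := fun h => hp2 (by rw [← h, bar_bar])
  have q2 : bar p ≠ bar a := fun h => hp1 (bar_inj.mp h)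
  refine ⟨HG p a c * HG (bar p) a c, mul_mem (HG_mem_EO hp1 hp2 c) (HG_mem_EO q1 q2 c), ?_⟩
  apply Units.ext
  rw [Units.val_mul, Units.val_mul, Units.val_mul, Units.val_mul, HG_coe hp1 hp2 hc,
    HG_coe q1 q2 hc, hd', SG_coe, Hm_eq_diag hp1 hp2, Hm_eq_diag q1 q2]
  have h1 : (SM a : Matrix (Idx n) (Idx n) F) * Matrix.diagonal d =
      Matrix.diagonal (d ∘ swp a) * SM a := by
    calc (SM a : Matrix (Idx n) (Idx n) F) * Matrix.diagonal d
        = SM a * Matrix.diagonal d * (SM a * SM a) := by rw [SM_mul_SM, mul_one]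
      _ = SM a * Matrix.diagonal d * SM a * SM a := by rw [mul_assoc, mul_assoc, mul_assoc]
      _ = Matrix.diagonal (d ∘ swp a) * SM a := by
          rw [SM_mul_mul_SM, Matrix.submatrix_diagonal_equiv]
  rw [h1, ← mul_assoc, Matrix.diagonal_mul_diagonal, Matrix.diagonal_mul_diagonal]
  congr 2
  funext x
  rw [Function.comp_apply]
  unfold hd
  rw [bar_bar]
  by_cases xa : x = a
  · have b1 : ¬ x = p := fun h => hp1 (by rw [← h, xa])
    have b2 : ¬ x = bar p := fun h => q1 (by rw [← h, xa])
    rw [xa] at b1 b2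
    rw [xa, swp_self, if_pos (Or.inr rfl), if_pos (Or.inr rfl)]
    have := hdd a
    rw [hc_def]
    linear_combination (-(d (bar a))) * this
  · by_cases xa' : x = bar a
    · have b1 : ¬ bar a = p := fun h => hp2 h.symm
      have b2 : ¬ bar a = bar p := fun h => q2 h.symm
      have b3 : ¬ bar a = a := bar_ne a
      rw [xa', swp_bar, if_neg (by tauto), if_pos (Or.inr rfl), if_neg (by tauto),
        if_pos (Or.inr rfl)]
      have hne : d (bar a) ≠ 0 := by rw [← hc_def]; exact hc
      have hda : d a = (d (bar a))⁻¹ := eq_inv_of_mul_eq_one_left (hdd a)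
      rw [hc_def, hda]
      field_simp
    · rw [swp_of_ne xa xa']
      by_cases xp : x = p
      · have b1 : ¬ p = bar p := ne_bar p
        rw [xp, if_pos (Or.inl rfl), if_neg (by tauto), if_pos (Or.inl rfl)]
        field_simp
      · by_cases xp' : x = bar p
        · have b1 : ¬ bar p = p := bar_ne p
          rw [xp', if_neg (by tauto), if_pos (Or.inl rfl), if_pos (Or.inl rfl)]
          field_simp
        · rw [if_neg (by tauto), if_neg (by tauto), if_neg (by tauto), if_neg (by tauto), one_mul,
            one_mul]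

end Cfsg.Agent.Helper7.D4O
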