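import Mathlib
import Cfsg.Agent.Helper7.D4OI

set_option autoImplicit false
set_option maxHeartbeats 800000

/-!
The commutator subgroup of the group of isometries of the hyperbolic quadratic form in dimension at
least six is the group generated by the root elements.
-/

namespace Cfsg.Agent.Helper7.D4O

open Cfsg Matrix

variable {n : ℕ} {F : Type*} [Field F]

theorem comm_aux {G : Type*} [Group G] (s : G) (A : Set G)
    (hA : ∀ a ∈ A, ∀ b ∈ A, a * b = b * a) (hs : ∀ a ∈ A, s * a = a * s) (x y : G)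
    (hx : x ∈ A ∨ ∃ a ∈ A, x = s * a) (hy : y ∈ A ∨ ∃ b ∈ A, y = s * b) : x * y = y * x := by
  rcases hx with hx | ⟨a, ha, rfl⟩ <;> rcases hy with hy | ⟨b, hb, rfl⟩
  · exact hA x hx y hy
  · have h1 : Commute x s := (hs x hx).symm
    have h2 : Commute x b := hA x hx b hb
    exact h1.mul_right h2
  · have h1 : Commute s y := hs y hy
    have h2 : Commute a y := hA a ha y hy
    exact h1.mul_left h2
  · have h1 : Commute s a := hs a ha
    have h2 : Commute s b := hs b hb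
    have h3 : Commute a b := hA a ha b hb
    have h4 : Commute (s * a) s := (Commute.refl s).mul_left h1.symm
    have h5 : Commute (s * a) b := h2.mul_left h3
    exact h4.mul_right h5

variable (n F) in
/-- The group generated by the root elements, as a subgroup of the group of isometries. -/
def EN : Subgroup ↥(GO n F) := (EO n F).subgroupOf (GO n F)

theorem mem_EN {g : ↥(GO n F)} : g ∈ EN n F ↔ (g : GL (Idx n) F) ∈ EO n F := Subgroup.mem_subgroupOf

theorem EN_normal (hn : 0 < n) : (EN n F).Normal := by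
  constructor
  intro x hx g
  rw [mem_EN] at hx ⊢
  exact conj_mem_EO hn g.2 hx

/-- The commutator subgroup is contained in the group generated by the root elements. -/
theorem commutator_le_EN (hn : 2 ≤ n) : commutator ↥(GO n F) ≤ EN n F := by
  have hn0 : 0 < n := by omega
  have hnorm : (EN n F).Normal := EN_normal hn0
  rw [← Subgroup.Normal.quotient_commutative_iff_commutator_le]
  obtain ⟨a, ha_def⟩ : ∃ a : Idx n, a = Sum.inl ⟨n - 1, by omega⟩ := ⟨_, rfl⟩
  have hdec : ∀ g : GL (Idx n) F, g ∈ GO n F → ∃ e ∈ EO n F, ∃ d : Idx n → F,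
      ((e * g : GL (Idx n) F) : Matrix (Idx n) (Idx n) F) = Matrix.diagonal d ∨
      ((SG a * (e * g) : GL (Idx n) F) : Matrix (Idx n) (Idx n) F) = Matrix.diagonal d := by
    rw [ha_def]
    exact fun g hg => decomp hn0 hg
  obtain ⟨p, hp_def⟩ : ∃ p : Idx n, p = Sum.inl ⟨0, by omega⟩ := ⟨_, rfl⟩
  have hp1 : p ≠ a := by
    rw [ha_def, hp_def]
    intro h
    have := congrArg lev h
    change 0 = n - 1 at this
    omega
  have hp2 : p ≠ bar a := by
    rw [ha_def, hp_def]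
    intro h
    have := congrArg lev h
    rw [lev_bar] at this
    change 0 = n - 1 at this
    omega
  obtain ⟨s, hs_def⟩ : ∃ s : ↥(GO n F) ⧸ EN n F,
      s = QuotientGroup.mk (⟨SG a, SG_mem_GO a⟩ : ↥(GO n F)) := ⟨_, rfl⟩
  obtain ⟨A, hA_def⟩ : ∃ A : Set (↥(GO n F) ⧸ EN n F), A = {q | ∃ δ : ↥(GO n F),
      (∃ d : Idx n → F, ((δ : GL (Idx n) F) : Matrix (Idx n) (Idx n) F) = Matrix.diagonal d) ∧
        q = QuotientGroup.mk δ} := ⟨_, rfl⟩
  have hAA : ∀ x ∈ A, ∀ y ∈ A, x * y = y * x := by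
    rw [hA_def]
    rintro _ ⟨δ, ⟨d, hd⟩, rfl⟩ _ ⟨δ', ⟨d', hd'⟩, rfl⟩
    rw [← QuotientGroup.mk_mul, ← QuotientGroup.mk_mul]
    congr 1
    apply Subtype.ext
    apply Units.ext
    change ((δ : GL (Idx n) F) : Matrix (Idx n) (Idx n) F) * ((δ' : GL (Idx n) F) : Matrix _ _ F) =
      ((δ' : GL (Idx n) F) : Matrix _ _ F) * ((δ : GL (Idx n) F) : Matrix _ _ F)
    rw [hd, hd', Matrix.diagonal_mul_diagonal, Matrix.diagonal_mul_diagonal]
    congr 1
    funext x
    exact mul_comm _ _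
  have hsA : ∀ x ∈ A, s * x = x * s := by
    rw [hA_def]
    rintro _ ⟨δ, ⟨d, hd⟩, rfl⟩
    obtain ⟨h, hh, e⟩ := SG_diag hp1 hp2 δ.2 hd
    rw [hs_def, ← QuotientGroup.mk_mul, ← QuotientGroup.mk_mul]
    have e' : (⟨SG a, SG_mem_GO a⟩ : ↥(GO n F)) * δ =
        (⟨h, EO_le_GO hh⟩ : ↥(GO n F)) * (δ * ⟨SG a, SG_mem_GO a⟩) := by
      apply Subtype.ext
      exact e
    rw [e', QuotientGroup.mk_mul]
    have h1 : (QuotientGroup.mk (⟨h, EO_le_GO hh⟩ : ↥(GO n F)) : ↥(GO n F) ⧸ EN n F) = 1 := by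
      rw [QuotientGroup.eq_one_iff, mem_EN]
      exact hh
    rw [h1, one_mul]
  have hall : ∀ x : ↥(GO n F) ⧸ EN n F, x ∈ A ∨ ∃ b ∈ A, x = s * b := by
    intro x
    obtain ⟨g, rfl⟩ := QuotientGroup.mk_surjective x
    obtain ⟨e, he, d, hd | hd⟩ := hdec g g.2
    · left
      rw [hA_def]
      refine ⟨⟨e, EO_le_GO he⟩ * g, ⟨d, hd⟩, ?_⟩
      rw [QuotientGroup.mk_mul]
      have h1 : (QuotientGroup.mk (⟨e, EO_le_GO he⟩ : ↥(GO n F)) : ↥(GO n F) ⧸ EN n F) = 1 := by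
        rw [QuotientGroup.eq_one_iff, mem_EN]
        exact he
      rw [h1, one_mul]
    · right
      obtain ⟨S, hS⟩ : ∃ S : ↥(GO n F), S = ⟨SG a, SG_mem_GO a⟩ := ⟨_, rfl⟩
      obtain ⟨e', he'⟩ : ∃ e' : ↥(GO n F), e' = ⟨e, EO_le_GO he⟩ := ⟨_, rfl⟩
      have hSS : S * S = 1 := by
        rw [hS]
        apply Subtype.ext
        exact SG_mul_SG a
      have h1 : (QuotientGroup.mk e' : ↥(GO n F) ⧸ EN n F) = 1 := by
        rw [QuotientGroup.eq_one_iff, mem_EN, he']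
        exact he
      have hcoe : ((S * (e' * g) : ↥(GO n F)) : GL (Idx n) F) = SG a * (e * (g : GL (Idx n) F)) := by
        rw [hS, he']
        rfl
      refine ⟨QuotientGroup.mk (S * (e' * g)), ?_, ?_⟩
      · rw [hA_def]
        refine ⟨S * (e' * g), ⟨d, ?_⟩, rfl⟩
        rw [hcoe]
        exact hd
      · rw [hs_def, ← hS, QuotientGroup.mk_mul, ← mul_assoc, ← QuotientGroup.mk_mul, hSS,
          QuotientGroup.mk_one, one_mul, QuotientGroup.mk_mul, h1, one_mul]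
  exact ⟨⟨fun x y => comm_aux s A hAA hsA x y (hall x) (hall y)⟩⟩

/-- A root element is a commutator of root elements. -/
theorem TG_eq_commutator (hn : 3 ≤ n) {i j : Idx n} (h1 : i ≠ j) (h2 : i ≠ bar j) (t : F) :
    ∃ x ∈ EO n F, ∃ y ∈ EO n F, TG i j t = x * y * x⁻¹ * y⁻¹ := by
  obtain ⟨m, hm1, hm2⟩ : ∃ m : Fin n, m.val ≠ lev i ∧ m.val ≠ lev j := by
    by_cases c0 : 0 ≠ lev i ∧ 0 ≠ lev j
    · exact ⟨⟨0, by omega⟩, c0.1, c0.2⟩
    · by_cases c1 : 1 ≠ lev i ∧ 1 ≠ lev j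
      · exact ⟨⟨1, by omega⟩, c1.1, c1.2⟩
      · refine ⟨⟨2, by omega⟩, ?_, ?_⟩ <;> (change 2 ≠ _; omega)
  obtain ⟨p, hp_def⟩ : ∃ p : Idx n, p = Sum.inl m := ⟨_, rfl⟩
  have hp : lev p = m.val := by rw [hp_def]; rfl
  have p1 : p ≠ i := by intro h; rw [h] at hp; omega
  have p2 : p ≠ j := by intro h; rw [h] at hp; omega
  have p3 : p ≠ bar i := by intro h; rw [h, lev_bar] at hp; omega
  have p4 : p ≠ bar j := by intro h; rw [h, lev_bar] at hp; omega
  have q1 : i ≠ bar p := fun h => p3 (by rw [h, bar_bar])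
  have q2 : i ≠ bar (bar p) := by rw [bar_bar]; exact p1.symm
  refine ⟨TG i (bar p) (-1), TG_mem_EO q1 q2 _, TG p j (-t), TG_mem_EO p2 p4 _, ?_⟩
  have hx : (TG i (bar p) (-1 : F))⁻¹ = TG i (bar p) 1 := by
    apply inv_eq_of_mul_eq_one_right
    apply Units.ext
    rw [Units.val_mul, TG_coe q2, TG_coe q2, Units.val_one]
    exact T_neg_mul q2 1
  have hy : (TG p j (-t))⁻¹ = TG p j t := by
    apply inv_eq_of_mul_eq_one_right
    apply Units.ext
    rw [Units.val_mul, TG_coe p4, TG_coe p4, Units.val_one]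
    exact T_neg_mul p4 t
  rw [hx, hy]
  apply Units.ext
  rw [Units.val_mul, Units.val_mul, Units.val_mul, TG_coe h2, TG_coe q2, TG_coe q2, TG_coe p4,
    TG_coe p4]
  have hc := T_comm (F := F) (i := p) (j := j) (k := i) (l := bar p) p2 q1 p4 q2
    (fun h => p3 h.1) (fun h => h2 (by rw [h.2, bar_bar])) t 1
  rw [hc, M_bracket, bar_bar, if_pos rfl, if_neg p2, if_neg (fun h => p3 h.symm),
    if_neg (fun h => h2 (by rw [← h, bar_bar])), sub_zero, sub_zero, add_zero, one_mul]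
  rfl

end Cfsg.Agent.Helper7.D4O
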