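import Mathlib
import Cfsg.Agent.Helper7.SlO
import Cfsg.Agent.Helper7.SlG

set_option autoImplicit false
set_option linter.unusedSectionVars false
set_option linter.unusedVariables false

/-!
# Central extensions of a group with the Steinberg relations of type `A`: three and four indices

The commutators of lifts of commuting root elements are central and biadditive, and invariant under
conjugation by lifts of monomial elements; this settles the cases of three and of four indices, under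
conditions on the field.
-/

namespace Cfsg.Agent.Helper7.Sl

open Cfsg.Agent.Helper7.Sc

/-- an additive map to a group that is invariant under a scaling `c ≠ 1` is trivial. -/
theorem trivial_of_scale {K : Type*} [Field K] {A : Type*} [Group A] (φ : K → A)
    (hadd : ∀ t t', φ (t + t') = φ t * φ t') {c : K} (hc : c ≠ 1) (hs : ∀ t, φ (c * t) = φ t) :
    ∀ t, φ t = 1 := by
  have h0 : φ 0 = 1 := by
    have := hadd 0 0
    rw [add_zero] at this
    exact mul_eq_left.mp this.symm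
  have hneg : ∀ t, φ (-t) = (φ t)⁻¹ := by
    intro t
    have := hadd t (-t)
    rw [add_neg_cancel, h0] at this
    exact (inv_eq_of_mul_eq_one_right this.symm).symm
  intro t
  have hc1 : c - 1 ≠ 0 := sub_ne_zero.mpr hc
  have e : t = c * (t / (c - 1)) + -(t / (c - 1)) := by field_simp; ring
  rw [e, hadd, hs, hneg, mul_inv_cancel]

variable {n : ℕ} {K : Type*} [Field K] {G E : Type*} [Group G] [Group E] (Sg : SD n K G)
  (C : CExt E G)

section comm

variable {i j k l : Fin n} (hij : i ≠ j) (hkl : k ≠ l) (hil : i ≠ l) (hjk : j ≠ k)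

include hij hkl hil hjk in
theorem cmx_add_left (t t' u : K) :
    C.cm (Sg.x i j (t + t')) (Sg.x k l u) =
      C.cm (Sg.x i j t) (Sg.x k l u) * C.cm (Sg.x i j t') (Sg.x k l u) := by
  rw [← Sg.add i j hij t t', cm_mul_left, kap_cm_of_comm C (Sg.comm i j k l hij hkl hil hjk t' u)]
  exact cm_central C (Sg.comm i j k l hij hkl hil hjk t' u) _

include hij hkl hil hjk in
/-- invariance under a scaling of the first variable forces the lifts to commute. -/
theorem lc_of_scale {c : K} (hc : c ≠ 1)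
    (hs : ∀ t u : K, C.cm (Sg.x i j (c * t)) (Sg.x k l u) = C.cm (Sg.x i j t) (Sg.x k l u))
    (t u : K) : C.LC (Sg.x i j t) (Sg.x k l u) := by
  rw [C.LC_iff]
  exact trivial_of_scale (fun t => C.cm (Sg.x i j t) (Sg.x k l u))
    (fun t t' => cmx_add_left Sg C hij hkl hil hjk t t' u) hc (fun t => hs t u) t

end comm

/-- conjugation of a commutator of lifts of root elements by a lift of a monomial element. -/
theorem kap_cm_mon {g : G} {σ : Equiv.Perm (Fin n)} {a : Fin n → K} (hM : Sg.Mon g σ a)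
    {i j k l : Fin n} (hij : i ≠ j) (hkl : k ≠ l) (t u : K) :
    C.kap g (C.cm (Sg.x i j t) (Sg.x k l u)) =
      C.cm (Sg.x (σ i) (σ j) (a i * (a j)⁻¹ * t)) (Sg.x (σ k) (σ l) (a k * (a l)⁻¹ * u)) := by
  rw [C.kap_cm, ← MulAut.conj_apply, ← MulAut.conj_apply, hM.2 i j hij, hM.2 k l hkl]

/-- the element `h_pq(ν) h_p'q(ν)`. -/
def tor (p p' q : Fin n) (ν : K) : G := Sg.h p q ν * Sg.h p' q ν

/-- its diagonal coefficients. -/
def torA (p p' q : Fin n) (ν : K) (x : Fin n) : K := hA p q ν x * hA p' q ν x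

theorem mon_tor (hn : 3 ≤ n) {p p' q : Fin n} (hpq : p ≠ q) (hp'q : p' ≠ q) {ν : K} (hν : ν ≠ 0) :
    Sg.Mon (tor Sg p p' q ν) 1 (torA p p' q ν) := by
  have h := (Sg.mon_h hn hpq hν).mul Sg (Sg.mon_h hn hp'q hν)
  exact h.congr Sg (mul_one 1) (fun x => rfl)

theorem torA_p {p p' q : Fin n} (hpp' : p ≠ p') (hpq : p ≠ q) (ν : K) : torA p p' q ν p = ν := by
  unfold torA hA
  rw [if_pos rfl, if_neg hpp', if_neg hpq, mul_one]

theorem torA_p' {p p' q : Fin n} (hpp' : p ≠ p') (hp'q : p' ≠ q) (ν : K) : torA p p' q ν p' = ν := by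
  unfold torA hA
  rw [if_neg hpp'.symm, if_neg hp'q, if_pos rfl, one_mul]

theorem torA_q {p p' q : Fin n} (hpq : p ≠ q) (hp'q : p' ≠ q) (ν : K) :
    torA p p' q ν q = ν⁻¹ * ν⁻¹ := by
  unfold torA hA
  rw [if_neg hpq.symm, if_pos rfl, if_neg hp'q.symm]

/-- lifts of root elements of one row commute, when some `ν` has `ν³ ≠ 1`. -/
theorem lc_row (hn : 3 ≤ n) {i j l : Fin n} (hij : i ≠ j) (hil : i ≠ l) (hjl : j ≠ l) {ν : K}
    (hν : ν ≠ 0) (hν3 : ν * ν * ν ≠ 1) (t u : K) : C.LC (Sg.x i j t) (Sg.x i l u) := by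
  refine lc_of_scale Sg C hij hil hil hij.symm hν3 ?_ t u
  intro t u
  have hM := mon_tor Sg hn hij hjl.symm hν
  have h1 := kap_cm_mon Sg C hM hij hil t u
  rw [kap_cm_of_comm C (Sg.comm i j i l hij hil hil hij.symm t u)] at h1
  have e1 : torA i l j ν i * (torA i l j ν j)⁻¹ * t = ν * ν * ν * t := by
    rw [torA_p hil hij, torA_q hij hjl.symm]
    field_simp
  have e2 : torA i l j ν i * (torA i l j ν l)⁻¹ * u = u := by
    rw [torA_p hil hij, torA_p' hil hjl.symm]
    field_simp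
  rw [Equiv.Perm.one_apply, Equiv.Perm.one_apply, Equiv.Perm.one_apply, e1, e2] at h1
  exact h1.symm

/-- lifts of root elements of one column commute, when some `ν` has `ν³ ≠ 1`. -/
theorem lc_col (hn : 3 ≤ n) {i j k : Fin n} (hij : i ≠ j) (hik : i ≠ k) (hjk : j ≠ k) {ν : K}
    (hν : ν ≠ 0) (hν3 : ν * ν * ν ≠ 1) (t u : K) : C.LC (Sg.x i j t) (Sg.x k j u) := by
  have hc : ν⁻¹ * ν⁻¹ * ν⁻¹ ≠ 1 := by
    intro h
    apply hν3
    have : (ν * ν * ν) * (ν⁻¹ * ν⁻¹ * ν⁻¹) = 1 := by field_simp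
    rw [h, mul_one] at this
    exact this
  refine lc_of_scale Sg C hij hjk.symm hij hjk hc ?_ t u
  intro t u
  have hM := mon_tor Sg hn hik.symm hij.symm hν
  have h1 := kap_cm_mon Sg C hM hij hjk.symm t u
  rw [kap_cm_of_comm C (Sg.comm i j k j hij hjk.symm hij hjk t u)] at h1
  have e1 : torA k j i ν i * (torA k j i ν j)⁻¹ * t = ν⁻¹ * ν⁻¹ * ν⁻¹ * t := by
    rw [torA_q hik.symm hij.symm, torA_p' hjk.symm hij.symm]
  have e2 : torA k j i ν k * (torA k j i ν j)⁻¹ * u = u := by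
    rw [torA_p hjk.symm hik.symm, torA_p' hjk.symm hij.symm]
    field_simp
  rw [Equiv.Perm.one_apply, Equiv.Perm.one_apply, Equiv.Perm.one_apply, e1, e2] at h1
  exact h1.symm

/-- lifts of root elements with disjoint indices commute, when some `a` has `a² ≠ 1`. -/
theorem lc_disj_tor (hn : 3 ≤ n) {i j k l : Fin n} (hij : i ≠ j) (hkl : k ≠ l) (hik : i ≠ k)
    (hil : i ≠ l) (hjk : j ≠ k) (hjl : j ≠ l) {a : K} (ha : a ≠ 0) (ha2 : a * a ≠ 1) (t u : K) :
    C.LC (Sg.x i j t) (Sg.x k l u) := by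
  refine lc_of_scale Sg C hij hkl hil hjk ha2 ?_ t u
  intro t u
  have hM := Sg.mon_h hn hij ha
  have h1 := kap_cm_mon Sg C hM hij hkl t u
  rw [kap_cm_of_comm C (Sg.comm i j k l hij hkl hil hjk t u)] at h1
  have e1 : hA i j a i * (hA i j a j)⁻¹ * t = a * a * t := by
    unfold hA
    rw [if_pos rfl, if_neg hij.symm, if_pos rfl, inv_inv]
  have e2 : hA i j a k * (hA i j a l)⁻¹ * u = u := by
    unfold hA
    rw [if_neg hik.symm, if_neg hjk.symm, if_neg hil.symm, if_neg hjl.symm, inv_one, mul_one, one_mul]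
  rw [Equiv.Perm.one_apply, Equiv.Perm.one_apply, Equiv.Perm.one_apply, Equiv.Perm.one_apply, e1,
    e2] at h1
  exact h1.symm

/-- lifts of root elements with disjoint indices commute, over the field with three elements. -/
theorem lc_disj_three (hn : 3 ≤ n) {i j k l : Fin n} (hij : i ≠ j) (hkl : k ≠ l) (hik : i ≠ k)
    (hil : i ≠ l) (hjk : j ≠ k) (hjl : j ≠ l) (h3 : (3 : K) = 0)
    (hK : ∀ t u : K, t = 0 ∨ u = 0 ∨ u = t ∨ u = -t) (t u : K) :
    C.LC (Sg.x i j t) (Sg.x k l u) := by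
  have hm1 : (1 : K) ≠ 0 := one_ne_zero
  have hM := (Sg.mon_w hn hik hm1).mul Sg (Sg.mon_w hn hjl hm1)
  -- the function `f`
  have hcomm : ∀ t u : K, Sg.x i j t * Sg.x k l u = Sg.x k l u * Sg.x i j t :=
    fun t u => Sg.comm i j k l hij hkl hil hjk t u
  have hanti : ∀ t u : K, C.cm (Sg.x i j t) (Sg.x k l u) = (C.cm (Sg.x i j u) (Sg.x k l t))⁻¹ := by
    intro t u
    have h1 := kap_cm_mon Sg C hM hij hkl t u
    rw [kap_cm_of_comm C (hcomm t u)] at h1
    have s1 : (Equiv.swap i k * Equiv.swap j l) i = k := by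
      rw [Equiv.Perm.mul_apply, Equiv.swap_apply_of_ne_of_ne hij hil, Equiv.swap_apply_left]
    have s2 : (Equiv.swap i k * Equiv.swap j l) j = l := by
      rw [Equiv.Perm.mul_apply, Equiv.swap_apply_left, Equiv.swap_apply_of_ne_of_ne hil.symm hkl.symm]
    have s3 : (Equiv.swap i k * Equiv.swap j l) k = i := by
      rw [Equiv.Perm.mul_apply, Equiv.swap_apply_of_ne_of_ne hjk.symm hkl, Equiv.swap_apply_right]
    have s4 : (Equiv.swap i k * Equiv.swap j l) l = j := by
      rw [Equiv.Perm.mul_apply, Equiv.swap_apply_right, Equiv.swap_apply_of_ne_of_ne hij.symm hjk]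
    have e1 : cA i k (1 : K) ((Equiv.swap j l) i) * cA j l (1 : K) i *
        (cA i k (1 : K) ((Equiv.swap j l) j) * cA j l (1 : K) j)⁻¹ * t = t := by
      rw [Equiv.swap_apply_of_ne_of_ne hij hil, Equiv.swap_apply_left]
      unfold cA
      rw [if_neg hik, if_pos rfl, if_neg hil, if_neg hij, if_neg hkl.symm, if_neg hil.symm,
        if_neg hjl, if_pos rfl]
      field_simp
    have e2 : cA i k (1 : K) ((Equiv.swap j l) k) * cA j l (1 : K) k *
        (cA i k (1 : K) ((Equiv.swap j l) l) * cA j l (1 : K) l)⁻¹ * u = u := by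
      rw [Equiv.swap_apply_of_ne_of_ne hjk.symm hkl, Equiv.swap_apply_right]
      unfold cA
      rw [if_pos rfl, if_neg hkl, if_neg hjk.symm, if_neg hjk, if_neg hij.symm, if_pos rfl]
      field_simp
    rw [s1, s2, s3, s4, e1, e2] at h1
    rw [h1, C.cm_inv]
  have hdiag : ∀ t : K, C.cm (Sg.x i j t) (Sg.x k l t) = 1 := by
    intro t
    have h1 := hanti t t
    have h2 : C.cm (Sg.x i j t) (Sg.x k l t) * C.cm (Sg.x i j t) (Sg.x k l t) = 1 := by
      nth_rewrite 1 [h1]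
      exact inv_mul_cancel _
    have h4 : C.cm (Sg.x i j (t + t + t)) (Sg.x k l t) = 1 := by
      have : t + t + t = 0 := by
        have : t + t + t = 3 * t := by ring
        rw [this, h3, zero_mul]
      rw [this, Sg.x_zero hij, C.cm_eq (map_one C.ψ) (C.ψ_lf _)]
      group
    rw [cmx_add_left Sg C hij hkl hil hjk, cmx_add_left Sg C hij hkl hil hjk, h2, one_mul] at h4
    exact h4
  rw [C.LC_iff]
  rcases hK t u with rfl | rfl | rfl | rfl
  · rw [Sg.x_zero hij, C.cm_eq (map_one C.ψ) (C.ψ_lf _)]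
    group
  · rw [Sg.x_zero hkl, C.cm_eq (C.ψ_lf _) (map_one C.ψ)]
    group
  · exact hdiag u
  · rw [hanti, ← Sg.x_inv hij, ← C.cm_inv, inv_inv]
    have h5 : C.cm (Sg.x k l t) ((Sg.x i j t)⁻¹) = (C.cm (Sg.x k l t) (Sg.x i j t))⁻¹ := by
      have hc2 : Sg.x k l t * Sg.x i j t = Sg.x i j t * Sg.x k l t := (hcomm t t).symm
      have hc3 : Sg.x k l t * (Sg.x i j t)⁻¹ = (Sg.x i j t)⁻¹ * Sg.x k l t := by
        rw [Sg.x_inv hij]
        exact (hcomm (-t) t).symm
      have h6 := C.cm_mul_right_of_comm hc3 (Sg.x i j t)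
      rw [mul_inv_cancel] at h6
      have h7 : C.cm (Sg.x k l t) 1 = 1 := by
        rw [C.cm_eq (C.ψ_lf _) (map_one C.ψ)]
        group
      rw [h7] at h6
      exact (inv_eq_of_mul_eq_one_right h6.symm).symm
    rw [h5, ← C.cm_inv, inv_inv]
    exact hdiag t

/-- with three indices the commutator of lifts of `x_ih(a)`, `x_hj(b)` depends on `a b` only, when some
`ν` has `ν³ ≠ 1`. -/
theorem Fm_prod_three (hn : 3 ≤ n) {i h j : Fin n} (hih : i ≠ h) (hhj : h ≠ j) (hij : i ≠ j) {ν : K}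
    (hν : ν ≠ 0) (hν3 : ν * ν * ν ≠ 1) (a b : K) :
    Fm Sg C i h j a b = Fm Sg C i h j (a * b) 1 := by
  have hc : ν⁻¹ * ν⁻¹ * ν⁻¹ ≠ 1 := by
    intro h
    apply hν3
    have : (ν * ν * ν) * (ν⁻¹ * ν⁻¹ * ν⁻¹) = 1 := by field_simp
    rw [h, mul_one] at this
    exact this
  have hψ : ∀ t u : K, C.ψ (Fm Sg C i h j t u) = Sg.x i j (t * u) := fun t u => ψ_Fm Sg C hih hhj hij t u
  -- additivity in the first variable
  have hadd : ∀ t t' u : K, Fm Sg C i h j (t + t') u = Fm Sg C i h j t' u * Fm Sg C i h j t u := by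
    intro t t' u
    unfold Fm
    rw [← Sg.add i h hih t t', cm_mul_left]
    congr 1
    exact (lc_row Sg C hn hih hij hhj hν hν3 t (t' * u)).kap_eq C (hψ t' u)
  -- the central defect
  have hzψ : ∀ t u : K, C.ψ (Fm Sg C i h j t u * (Fm Sg C i h j (t * u) 1)⁻¹) = 1 := by
    intro t u
    rw [map_mul, map_inv, hψ, hψ, mul_one, mul_inv_cancel]
  have hzc : ∀ t u : K, ∀ x : E, Fm Sg C i h j t u * (Fm Sg C i h j (t * u) 1)⁻¹ * x =
      x * (Fm Sg C i h j t u * (Fm Sg C i h j (t * u) 1)⁻¹) := fun t u x => C.ker_comm (hzψ t u) x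
  have hkap : ∀ t u : K, C.kap (tor Sg h j i ν) (Fm Sg C i h j t u) =
      Fm Sg C i h j (ν⁻¹ * ν⁻¹ * ν⁻¹ * t) u := by
    intro t u
    unfold Fm
    rw [kap_cm_mon Sg C (mon_tor Sg hn hih.symm hij.symm hν) hih hhj t u, Equiv.Perm.one_apply,
      Equiv.Perm.one_apply, Equiv.Perm.one_apply, torA_q hih.symm hij.symm, torA_p hhj hih.symm,
      torA_p' hhj hij.symm]
    congr 2
    field_simp
  have hscale : ∀ t u : K, Fm Sg C i h j (ν⁻¹ * ν⁻¹ * ν⁻¹ * t) u *
      (Fm Sg C i h j (ν⁻¹ * ν⁻¹ * ν⁻¹ * t * u) 1)⁻¹ =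
      Fm Sg C i h j t u * (Fm Sg C i h j (t * u) 1)⁻¹ := by
    intro t u
    have h1 := C.kap_ker (hzψ t u) (tor Sg h j i ν)
    rw [map_mul, map_inv, hkap, hkap, ← mul_assoc] at h1
    exact h1
  have hzadd : ∀ u t t' : K, Fm Sg C i h j (t + t') u * (Fm Sg C i h j ((t + t') * u) 1)⁻¹ =
      Fm Sg C i h j t u * (Fm Sg C i h j (t * u) 1)⁻¹ *
        (Fm Sg C i h j t' u * (Fm Sg C i h j (t' * u) 1)⁻¹) := by
    intro u t t'
    calc Fm Sg C i h j (t + t') u * (Fm Sg C i h j ((t + t') * u) 1)⁻¹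
        = Fm Sg C i h j t' u * Fm Sg C i h j t u *
            (Fm Sg C i h j (t' * u) 1 * Fm Sg C i h j (t * u) 1)⁻¹ := by
          rw [hadd, add_mul, hadd]
      _ = Fm Sg C i h j t' u * (Fm Sg C i h j t u * (Fm Sg C i h j (t * u) 1)⁻¹) *
            (Fm Sg C i h j (t' * u) 1)⁻¹ := by group
      _ = Fm Sg C i h j t u * (Fm Sg C i h j (t * u) 1)⁻¹ * Fm Sg C i h j t' u *
            (Fm Sg C i h j (t' * u) 1)⁻¹ := by rw [← hzc t u]
      _ = _ := by group
  have hz := trivial_of_scale (fun t => Fm Sg C i h j t b * (Fm Sg C i h j (t * b) 1)⁻¹)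
    (fun t t' => hzadd b t t') hc (fun t => hscale t b) a
  exact mul_inv_eq_one.mp hz

end Cfsg.Agent.Helper7.Sl
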