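import Mathlib
import Cfsg.Agent.Helper7.SlP

set_option autoImplicit false
set_option linter.unusedSectionVars false
set_option linter.unusedVariables false

/-!
# Central extensions of `SL_n` over a finite field split (`n ≥ 3`, three exceptions)
-/

namespace Cfsg.Agent.Helper7.Sl

open Matrix Cfsg.Agent.Helper7.Sc

theorem four_distinct_false {n : ℕ} (h3 : n = 3) {i j k l : Fin n} (hij : i ≠ j) (hik : i ≠ k)
    (hil : i ≠ l) (hjk : j ≠ k) (hjl : j ≠ l) (hkl : k ≠ l) : False := by
  have hi := i.isLt
  have hj := j.isLt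
  have hk := k.isLt
  have hl := l.isLt
  have h1 : (i : ℕ) ≠ j := fun e => hij (Fin.ext e)
  have h2 : (i : ℕ) ≠ k := fun e => hik (Fin.ext e)
  have h3' : (i : ℕ) ≠ l := fun e => hil (Fin.ext e)
  have h4 : (j : ℕ) ≠ k := fun e => hjk (Fin.ext e)
  have h5 : (j : ℕ) ≠ l := fun e => hjl (Fin.ext e)
  have h6 : (k : ℕ) ≠ l := fun e => hkl (Fin.ext e)
  omega

section lift

variable {n : ℕ} {K : Type*} [Field K] {G E : Type*} [Group G] [Group E] (Sg : SD n K G)
  (C : CExt E G)

/-- **a central extension of a group with the Steinberg relations carries these relations**, under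
conditions on the field for three and for four indices. -/
theorem exists_SD_lift (hn : 3 ≤ n) (h3 : n = 3 → ∃ ν : K, ν ≠ 0 ∧ ν * ν * ν ≠ 1)
    (h4 : n = 4 → (∃ a : K, a ≠ 0 ∧ a * a ≠ 1) ∨
      ((3 : K) = 0 ∧ ∀ t u : K, t = 0 ∨ u = 0 ∨ u = t ∨ u = -t)) :
    ∃ SE : SD n K E, ∀ i j, i ≠ j → ∀ t, C.ψ (SE.x i j t) = Sg.x i j t := by
  by_cases hn3 : n = 3
  · obtain ⟨ν, hν, hν3⟩ := h3 hn3
    have hL : LCall Sg C := by
      intro i j k l hij hkl hil hjk t u
      by_cases hik : i = k
      · subst hik
        by_cases hjl : j = l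
        · subst hjl
          exact lc_same Sg C hn hij t u
        · exact lc_row Sg C hn hij hil hjl hν hν3 t u
      · by_cases hjl : j = l
        · subst hjl
          exact lc_col Sg C hn hij hik hjk hν hν3 t u
        · exact (four_distinct_false hn3 hij hik hil hjk hjl hkl).elim
    have hF : HF Sg C hn := by
      intro i h j hih hhj hij a b
      have hm : mid hn i j = h := by
        by_contra hne
        exact four_distinct_false hn3 hih hij (mid_ne_left hn i j).symm hhj (Ne.symm hne)
          (mid_ne_right hn i j).symm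
      unfold sE
      rw [hm]
      exact Fm_prod_three Sg C hn hih hhj hij hν hν3 a b
    exact exists_SD Sg C hn hL hF
  by_cases hn4 : n = 4
  · have hL : LCall Sg C := by
      rcases h4 hn4 with ⟨a, ha, ha2⟩ | ⟨h3K, hK⟩
      · exact lcall_of_four Sg C (by omega) (fun i j k l hij hkl hik hil hjk hjl t u =>
          lc_disj_tor Sg C hn hij hkl hik hil hjk hjl ha ha2 t u)
      · exact lcall_of_four Sg C (by omega) (fun i j k l hij hkl hik hil hjk hjl t u =>
          lc_disj_three Sg C hn hij hkl hik hil hjk hjl h3K hK t u)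
    exact exists_SD Sg C hn hL (hF_of_four Sg C (by omega) hL)
  · have hn5 : 5 ≤ n := by omega
    have hL : LCall Sg C := lcall_of_five Sg C hn5
    exact exists_SD Sg C hn hL (hF_of_four Sg C (by omega) hL)

end lift

section field

variable {K : Type*} [Field K] [Fintype K]

/-- a non-zero element whose `m`-th power is not one. -/
theorem exists_pow_ne_one (m : ℕ) (h : ¬ (Fintype.card K - 1 ∣ m)) : ∃ ν : K, ν ≠ 0 ∧ ν ^ m ≠ 1 := by
  classical
  obtain ⟨g, hg⟩ := IsCyclic.exists_generator (α := Kˣ)
  have hord : orderOf g = Fintype.card K - 1 := by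
    rw [orderOf_eq_card_of_forall_mem_zpowers hg, Nat.card_eq_fintype_card, Fintype.card_units]
  refine ⟨(g : K), Units.ne_zero g, ?_⟩
  intro hgm
  apply h
  rw [← hord]
  apply orderOf_dvd_of_pow_eq_one
  apply Units.ext
  rw [Units.val_pow_eq_pow_val, hgm, Units.val_one]

theorem card_three_facts (hK : Fintype.card K = 3) :
    (3 : K) = 0 ∧ ∀ t u : K, t = 0 ∨ u = 0 ∨ u = t ∨ u = -t := by
  have h3 : (3 : K) = 0 := by
    have := Nat.cast_card_eq_zero K
    rw [hK] at this
    exact_mod_cast this
  refine ⟨h3, ?_⟩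
  intro t u
  by_cases ht : t = 0
  · exact Or.inl ht
  right
  have hx := FiniteField.pow_card (u / t)
  rw [hK] at hx
  have hfac : (u / t) * ((u / t) - 1) * ((u / t) + 1) = 0 := by
    have : (u / t) * ((u / t) - 1) * ((u / t) + 1) = (u / t) ^ 3 - u / t := by ring
    rw [this, hx, sub_self]
  rcases mul_eq_zero.mp hfac with h | h
  · rcases mul_eq_zero.mp h with h | h
    · left
      rcases div_eq_zero_iff.mp h with h | h
      · exact h
      · exact absurd h ht
    · right; left
      have : u / t = 1 := sub_eq_zero.mp h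
      rw [div_eq_one_iff_eq ht] at this
      exact this
  · right; right
    have : u / t = -1 := eq_neg_of_add_eq_zero_left h
    rw [div_eq_iff ht] at this
    rw [this]
    ring

end field

section split

variable {n : ℕ} {K : Type*} [Field K] [Fintype K]

/-- **every central extension of `SL_n` over a finite field splits**, for `n ≥ 3` and apart from
`SL_3(2)`, `SL_3(4)`, `SL_4(2)`. -/
theorem sl_split (hn : 3 ≤ n) (h32 : ¬ (n = 3 ∧ Fintype.card K = 2))
    (h34 : ¬ (n = 3 ∧ Fintype.card K = 4)) (h42 : ¬ (n = 4 ∧ Fintype.card K = 2))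
    {E : Type*} [Group E] (ψ : E →* SpecialLinearGroup (Fin n) K) (hs : Function.Surjective ψ)
    (hc : ψ.ker ≤ Subgroup.center E) :
    ∃ τ : SpecialLinearGroup (Fin n) K →* E, ψ.comp τ = MonoidHom.id _ := by
  have hq2 : 2 ≤ Fintype.card K := Fintype.one_lt_card
  let C : CExt E (SpecialLinearGroup (Fin n) K) :=
    ⟨ψ, hs, hc, Cfsg.Agent.Helper7.Transv.commutator_SL_eq_top hn⟩
  have h3 : n = 3 → ∃ ν : K, ν ≠ 0 ∧ ν * ν * ν ≠ 1 := by
    intro hn3
    have hnd : ¬ (Fintype.card K - 1 ∣ 3) := by
      intro hd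
      have hle := Nat.le_of_dvd (by norm_num) hd
      have h1 : Fintype.card K - 1 = 1 ∨ Fintype.card K - 1 = 3 := by
        have : Fintype.card K - 1 ≠ 2 := by
          intro e
          rw [e] at hd
          norm_num at hd
        have : Fintype.card K - 1 ≠ 0 := by omega
        omega
      rcases h1 with h1 | h1
      · exact h32 ⟨hn3, by omega⟩
      · exact h34 ⟨hn3, by omega⟩
    obtain ⟨ν, hν, hν3⟩ := exists_pow_ne_one (K := K) 3 hnd
    refine ⟨ν, hν, ?_⟩
    intro e
    apply hν3
    rw [← e]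
    ring
  have h4 : n = 4 → (∃ a : K, a ≠ 0 ∧ a * a ≠ 1) ∨
      ((3 : K) = 0 ∧ ∀ t u : K, t = 0 ∨ u = 0 ∨ u = t ∨ u = -t) := by
    intro hn4
    by_cases hq3 : Fintype.card K = 3
    · exact Or.inr (card_three_facts hq3)
    · left
      have hnd : ¬ (Fintype.card K - 1 ∣ 2) := by
        intro hd
        have hle := Nat.le_of_dvd (by norm_num) hd
        have h1 : Fintype.card K = 2 ∨ Fintype.card K = 3 := by omega
        rcases h1 with h1 | h1
        · exact h42 ⟨hn4, h1⟩
        · exact hq3 h1
      obtain ⟨a, ha, ha2⟩ := exists_pow_ne_one (K := K) 2 hnd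
      refine ⟨a, ha, ?_⟩
      intro e
      apply ha2
      rw [← e]
      ring
  obtain ⟨SE, hSE⟩ := exists_SD_lift (slSD n K) C hn h3 h4
  exact SE.exists_section hn ψ (fun i j hij t => hSE i j hij t)

end split

end Cfsg.Agent.Helper7.Sl
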