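import Mathlib
import Cfsg.Agent.Helper7.SlQ
import Cfsg.Agent.Helper3.StemTransfer
import Cfsg.Agent.Helper4.L2pPSL
import Cfsg.Agent.S2117

set_option autoImplicit false
set_option linter.unusedSectionVars false
set_option linter.unusedVariables false

/-!
# The Schur multiplier of `PSL_n(q)`
-/

namespace Cfsg.Agent.Helper7.Sl

open Matrix Cfsg.Agent.Helper7.Sc

universe u

/-- Lifts to central extensions, for a group all of whose central extensions split. -/
theorem exists_lift_central {Δ G₁ E : Type*} [Group Δ] [Group G₁] [Group E]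
    (π₁ : E →* G₁) (hπ : Function.Surjective π₁)
    (hc : π₁.ker ≤ Subgroup.center E) (σ : Δ →* G₁)
    (hsplit : ∀ (P : Subgroup (E × Δ)) (ψ : ↥P →* Δ), Function.Surjective ψ →
      ψ.ker ≤ Subgroup.center ↥P → ∃ τ : Δ →* ↥P, ψ.comp τ = MonoidHom.id Δ) :
    ∃ τ : Δ →* E, π₁.comp τ = σ := by
  let P : Subgroup (E × Δ) :=
    { carrier := {x | π₁ x.1 = σ x.2}
      mul_mem' := by
        intro a b ha hb
        change π₁ (a * b).1 = σ (a * b).2
        rw [Prod.fst_mul, Prod.snd_mul, map_mul, map_mul, ha, hb]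
      one_mem' := by
        change π₁ (1 : E × Δ).1 = σ (1 : E × Δ).2
        rw [Prod.fst_one, Prod.snd_one, map_one, map_one]
      inv_mem' := by
        intro a ha
        change π₁ (a⁻¹).1 = σ (a⁻¹).2
        rw [Prod.fst_inv, Prod.snd_inv, map_inv, map_inv, ha] }
  have hP : ∀ x : E × Δ, x ∈ P ↔ π₁ x.1 = σ x.2 := fun x => Iff.rfl
  let ψ : ↥P →* Δ := (MonoidHom.snd E Δ).comp P.subtype
  have hψ_apply : ∀ x : ↥P, ψ x = x.1.2 := fun x => rfl
  have hψ : Function.Surjective ψ := by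
    intro d
    obtain ⟨e, he⟩ := hπ (σ d)
    exact ⟨⟨(e, d), (hP _).mpr he⟩, rfl⟩
  have hker : ψ.ker ≤ Subgroup.center ↥P := by
    intro x hx
    rw [MonoidHom.mem_ker, hψ_apply] at hx
    have hx1 : x.1.1 ∈ π₁.ker := by
      rw [MonoidHom.mem_ker, (hP _).mp x.2, hx, map_one]
    have hcen := hc hx1
    rw [Subgroup.mem_center_iff] at hcen ⊢
    intro y
    apply Subtype.ext
    apply Prod.ext
    · exact hcen y.1.1
    · change y.1.2 * x.1.2 = x.1.2 * y.1.2
      rw [hx, mul_one, one_mul]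
  obtain ⟨τ₀, hτ₀⟩ := hsplit P ψ hψ hker
  have hτ₀' : ∀ d, (τ₀ d).1.2 = d := by
    intro d
    have := congrArg (fun f => f d) hτ₀
    exact this
  refine ⟨((MonoidHom.fst E Δ).comp P.subtype).comp τ₀, ?_⟩
  apply MonoidHom.ext
  intro d
  change π₁ (τ₀ d).1.1 = σ d
  rw [(hP _).mp (τ₀ d).2, hτ₀']

/-- The Schur multiplier of a group with a finite perfect central extension from which every finite
central extension is reached. -/
theorem schur_of_universal_fin {G Δ : Type u} [Group G] [Group Δ] [Finite Δ] (θ : Δ →* G)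
    (hθs : Function.Surjective θ) (hθc : θ.ker ≤ Subgroup.center Δ) (hperf : commutator Δ = ⊤)
    (hlift : ∀ (Γ : Type u) [Group Γ] [Finite Γ] (σ : Γ →* G), Function.Surjective σ →
      σ.ker ≤ Subgroup.center Γ → ∃ τ : Δ →* Γ, σ.comp τ = θ)
    {A : Type*} [CommGroup A] (e : A ≃* θ.ker) : Cfsg.HasSchurMultiplier G A := by
  constructor
  · exact ⟨Δ, inferInstance, inferInstance, θ, ⟨hθs, hθc, by rw [hperf]; exact le_top⟩, ⟨e.symm⟩⟩
  · intro Γ _ _ σ ⟨hσs, hσc, hσd⟩
    obtain ⟨τ, hτ⟩ := hlift Γ σ hσs hσc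
    have hτ' : ∀ d, σ (τ d) = θ d := fun d => DFunLike.congr_fun hτ d
    have hcomm : commutator Γ ≤ τ.range := by
      rw [commutator_def, Subgroup.commutator_le]
      intro a _ b _
      obtain ⟨a', ha'⟩ := hθs (σ a)
      obtain ⟨b', hb'⟩ := hθs (σ b)
      have hza : ∀ x : Γ, (τ a')⁻¹ * a * x = x * ((τ a')⁻¹ * a) := by
        intro x
        have hz : (τ a')⁻¹ * a ∈ σ.ker := by
          rw [MonoidHom.mem_ker, map_mul, map_inv, hτ', ha', inv_mul_cancel]
        exact (Subgroup.mem_center_iff.mp (hσc hz) x).symm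
      have hzb : ∀ x : Γ, (τ b')⁻¹ * b * x = x * ((τ b')⁻¹ * b) := by
        intro x
        have hz : (τ b')⁻¹ * b ∈ σ.ker := by
          rw [MonoidHom.mem_ker, map_mul, map_inv, hτ', hb', inv_mul_cancel]
        exact (Subgroup.mem_center_iff.mp (hσc hz) x).symm
      have ea : a = τ a' * ((τ a')⁻¹ * a) := by group
      have eb : b = τ b' * ((τ b')⁻¹ * b) := by group
      refine ⟨a' * b' * a'⁻¹ * b'⁻¹, ?_⟩
      change _ = a * b * a⁻¹ * b⁻¹
      rw [map_mul, map_mul, map_mul, map_inv, map_inv]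
      conv_rhs => rw [ea, eb]
      exact (CExt.comm_central_mul hza hzb).symm
    have hmem : ∀ z : A, τ (e z : Δ) ∈ σ.ker := by
      intro z
      rw [MonoidHom.mem_ker, hτ']
      exact (e z).2
    refine ⟨(τ.comp (θ.ker.subtype.comp e.toMonoidHom)).codRestrict σ.ker hmem, ?_⟩
    intro y
    obtain ⟨d, hd⟩ := hcomm (hσd y.2)
    have hdk : d ∈ θ.ker := by
      rw [MonoidHom.mem_ker, ← hτ', hd]
      exact y.2
    refine ⟨e.symm ⟨d, hdk⟩, ?_⟩
    apply Subtype.ext
    change τ ((e (e.symm ⟨d, hdk⟩) : θ.ker) : Δ) = y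
    rw [MulEquiv.apply_symm_apply]
    exact hd

/-- **finite central extensions of `SL_2(q)` split**, `q ≠ 4, 9`. -/
theorem sl2_split_fin {F : Type u} [Field F] [Fintype F] (h4 : Fintype.card F ≠ 4)
    (h9 : Fintype.card F ≠ 9) (hperf : commutator (SpecialLinearGroup (Fin 2) F) = ⊤)
    {P : Type u} [Group P] [Finite P] (ψ : P →* SpecialLinearGroup (Fin 2) F)
    (hs : Function.Surjective ψ) (hc : ψ.ker ≤ Subgroup.center P) :
    ∃ τ : SpecialLinearGroup (Fin 2) F →* P, ψ.comp τ = MonoidHom.id _ := by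
  have hst := Cfsg.Agent.Helper3.StemTransfer.stem_of_central_surj ψ hs hc hperf
  obtain ⟨π, hπ⟩ := (Cfsg.Agent.S2117.result h4 h9).2 (commutator P)
    (ψ.comp (commutator P).subtype) hst
  have hinj : Function.Injective (ψ.comp (commutator P).subtype) := by
    rw [injective_iff_map_eq_one]
    intro y hy
    have hmem : y ∈ (ψ.comp (commutator P).subtype).ker := by rw [MonoidHom.mem_ker]; exact hy
    obtain ⟨z, hz⟩ := hπ ⟨y, hmem⟩
    have hsub : Subsingleton (Multiplicative (ZMod 1)) :=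
      inferInstanceAs (Subsingleton (ZMod 1))
    have hz1 : z = 1 := Subsingleton.elim _ _
    rw [hz1, map_one] at hz
    have := congrArg Subtype.val hz
    exact this.symm
  let e := MulEquiv.ofBijective (ψ.comp (commutator P).subtype) ⟨hinj, hst.1⟩
  refine ⟨(commutator P).subtype.comp e.symm.toMonoidHom, ?_⟩
  apply MonoidHom.ext
  intro g
  change (ψ.comp (commutator P).subtype) (e.symm g) = g
  exact e.apply_symm_apply g

/-- the centre of `SL_n(q)` is cyclic of order `gcd(n, q - 1)`. -/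
theorem center_sl {F : Type*} [Field F] [Fintype F] (n : ℕ) (hn : 1 ≤ n) :
    Nonempty (Multiplicative (ZMod (Nat.gcd n (Fintype.card F - 1))) ≃*
      Subgroup.center (SpecialLinearGroup (Fin n) F)) := by
  classical
  have e0 := SpecialLinearGroup.center_equiv_rootsOfUnity (n := Fin n) (R := F)
  have hm : max (Fintype.card (Fin n)) 1 = n := by
    rw [Fintype.card_fin]
    exact max_eq_left hn
  rw [hm] at e0
  have hcyc : IsCyclic (Subgroup.center (SpecialLinearGroup (Fin n) F)) :=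
    isCyclic_of_surjective e0.symm e0.symm.surjective
  have hroot : rootsOfUnity n F = (powMonoidHom n : Fˣ →* Fˣ).ker := by
    ext ζ
    rw [mem_rootsOfUnity, MonoidHom.mem_ker, powMonoidHom_apply]
  have hcard : Nat.card (Subgroup.center (SpecialLinearGroup (Fin n) F)) =
      Nat.gcd n (Fintype.card F - 1) := by
    rw [Nat.card_congr e0.toEquiv, hroot, IsCyclic.card_powMonoidHom_ker, Nat.card_eq_fintype_card,
      Fintype.card_units, Nat.gcd_comm]
  have e1 := zmodCyclicMulEquiv hcyc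
  rw [hcard] at e1
  exact ⟨e1⟩

/-- **the Schur multiplier of `PSL_n(q)`.** -/
theorem schur_psl {F : Type u} [Field F] [Fintype F] {q : ℕ} (hF : Fintype.card F = q) (n : ℕ)
    (hn : 2 ≤ n) (h2 : n = 2 → 4 ≤ q)
    (hexc : (n, q) ∉ ({(2, 4), (2, 9), (3, 2), (3, 4), (4, 2)} : Set (ℕ × ℕ))) :
    Cfsg.HasCyclicSchurMultiplier (Matrix.ProjectiveSpecialLinearGroup (Fin n) F)
      (Nat.gcd n (q - 1)) := by
  subst hF
  have h24 : ¬ (n = 2 ∧ Fintype.card F = 4) := by
    rintro ⟨h1, h2'⟩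
    apply hexc
    rw [h1, h2']
    simp
  have h29 : ¬ (n = 2 ∧ Fintype.card F = 9) := by
    rintro ⟨h1, h2'⟩
    apply hexc
    rw [h1, h2']
    simp
  have h32 : ¬ (n = 3 ∧ Fintype.card F = 2) := by
    rintro ⟨h1, h2'⟩
    apply hexc
    rw [h1, h2']
    simp
  have h34 : ¬ (n = 3 ∧ Fintype.card F = 4) := by
    rintro ⟨h1, h2'⟩
    apply hexc
    rw [h1, h2']
    simp
  have h42 : ¬ (n = 4 ∧ Fintype.card F = 2) := by
    rintro ⟨h1, h2'⟩
    apply hexc
    rw [h1, h2']
    simp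
  have hperf : commutator (SpecialLinearGroup (Fin n) F) = ⊤ := by
    by_cases hn3 : 3 ≤ n
    · exact Cfsg.Agent.Helper7.Transv.commutator_SL_eq_top hn3
    · obtain rfl : n = 2 := by omega
      have hq := h2 rfl
      have hnd : ¬ (Fintype.card F - 1 ∣ 2) := by
        intro hd
        have := Nat.le_of_dvd (by norm_num) hd
        omega
      obtain ⟨x, hx0, hx2⟩ := exists_pow_ne_one (K := F) 2 hnd
      exact Cfsg.Agent.Helper4.L2p.commutator_SL2_eq_top ⟨x, hx0, hx2⟩
  let θ : SpecialLinearGroup (Fin n) F →* Matrix.ProjectiveSpecialLinearGroup (Fin n) F :=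
    QuotientGroup.mk' (Subgroup.center (SpecialLinearGroup (Fin n) F))
  have hθs : Function.Surjective θ := QuotientGroup.mk'_surjective _
  have hker : θ.ker = Subgroup.center (SpecialLinearGroup (Fin n) F) := QuotientGroup.ker_mk' _
  have hθc : θ.ker ≤ Subgroup.center (SpecialLinearGroup (Fin n) F) := le_of_eq hker
  obtain ⟨e0⟩ := center_sl (F := F) n (by omega)
  have e : Multiplicative (ZMod (Nat.gcd n (Fintype.card F - 1))) ≃* θ.ker :=
    e0.trans (MulEquiv.subgroupCongr hker.symm)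
  refine schur_of_universal_fin θ hθs hθc hperf ?_ e
  intro Γ _ _ σ hσs hσc
  refine exists_lift_central σ hσs hσc θ ?_
  intro P ψ hψs hψc
  by_cases hn3 : 3 ≤ n
  · exact sl_split hn3 h32 h34 h42 ψ hψs hψc
  · obtain rfl : n = 2 := by omega
    exact sl2_split_fin (fun h => h24 ⟨rfl, h⟩) (fun h => h29 ⟨rfl, h⟩) hperf ψ hψs hψc

end Cfsg.Agent.Helper7.Sl
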