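import Mathlib

set_option autoImplicit false
set_option linter.unusedSectionVars false
set_option linter.unusedVariables false

/-!
Two facts on fields with more than four elements: an element whose given small power is not one, and the
additive subgroup generated by `1` and the elements `w + w⁻¹`.
-/

namespace Cfsg.Agent.Helper7.Sc

variable {K : Type*} [Field K]

theorem exists_pow_ne_one (hK : ∃ s : Finset K, 4 < s.card) {m : ℕ} (hm : 0 < m) (hm3 : m ≤ 3) :
    ∃ v : K, v ≠ 0 ∧ v ^ m ≠ 1 := by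
  classical
  obtain ⟨s, hs⟩ := hK
  by_contra hcon
  push_neg at hcon
  have hsub : s.erase 0 ⊆ (Polynomial.nthRoots m (1 : K)).toFinset := by
    intro x hx
    rw [Finset.mem_erase] at hx
    rw [Multiset.mem_toFinset, Polynomial.mem_nthRoots hm]
    exact hcon x hx.1
  have h1 := Finset.card_le_card hsub
  have h2 : (Polynomial.nthRoots m (1 : K)).toFinset.card ≤ m :=
    le_trans (Multiset.toFinset_card_le _) (Polynomial.card_nthRoots m 1)
  have h3 : s.card - 1 ≤ (s.erase 0).card := Finset.pred_card_le_card_erase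
  omega

theorem exists_zpow_ne_one (hK : ∃ s : Finset K, 4 < s.card) {m : ℤ} (hm : m ≠ 0)
    (hm3 : m.natAbs ≤ 3) : ∃ v : K, v ≠ 0 ∧ v ^ m ≠ 1 := by
  have hpos : 0 < m.natAbs := Int.natAbs_pos.mpr hm
  obtain ⟨v, hv0, hv⟩ := exists_pow_ne_one hK hpos hm3
  refine ⟨v, hv0, ?_⟩
  rcases Int.natAbs_eq m with h | h
  · rw [h, zpow_natCast]; exact hv
  · rw [h, zpow_neg, zpow_natCast]
    intro hc
    apply hv
    rw [inv_eq_one] at hc
    exact hc

/-- An additive subgroup of a field with more than four elements containing `1` and all the elements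
`w + w⁻¹` is the whole field. -/
theorem addSubgroup_eq_top (hK : ∃ s : Finset K, 4 < s.card) (A : AddSubgroup K) (h1 : (1 : K) ∈ A)
    (hw : ∀ w : K, w ≠ 0 → w + w⁻¹ ∈ A) : A = ⊤ := by
  classical
  -- the subgroup generated by the given elements
  obtain ⟨R, hR⟩ : ∃ R : AddSubgroup K,
      R = AddSubgroup.closure ({x | x = 1 ∨ ∃ w : K, w ≠ 0 ∧ x = w + w⁻¹}) := ⟨_, rfl⟩
  have hRA : R ≤ A := by
    rw [hR, AddSubgroup.closure_le]
    rintro x (rfl | ⟨w, hw0, rfl⟩)
    · exact h1
    · exact hw w hw0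
  have hR1 : (1 : K) ∈ R := by rw [hR]; exact AddSubgroup.subset_closure (Or.inl rfl)
  have hRw : ∀ w : K, w ≠ 0 → w + w⁻¹ ∈ R := by
    intro w hw0; rw [hR]; exact AddSubgroup.subset_closure (Or.inr ⟨w, hw0, rfl⟩)
  -- closed under products
  have hmulgen : ∀ w : K, w ≠ 0 → ∀ y ∈ R, (w + w⁻¹) * y ∈ R := by
    intro w hw0 y hy
    rw [hR] at hy
    induction hy using AddSubgroup.closure_induction with
    | mem x hx =>
      rcases hx with rfl | ⟨z, hz0, rfl⟩
      · rw [mul_one]; exact hRw w hw0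
      · have e : (w + w⁻¹) * (z + z⁻¹) = (w * z + (w * z)⁻¹) + (w / z + (w / z)⁻¹) := by
          field_simp
          ring
        rw [e]
        exact R.add_mem (hRw _ (mul_ne_zero hw0 hz0)) (hRw _ (div_ne_zero hw0 hz0))
    | zero => rw [mul_zero]; exact R.zero_mem
    | add x y _ _ hx hy => rw [mul_add]; exact R.add_mem hx hy
    | neg x _ hx => rw [mul_neg]; exact R.neg_mem hx
  have hmul : ∀ x ∈ R, ∀ y ∈ R, x * y ∈ R := by
    intro x hx y hy
    rw [hR] at hx
    induction hx using AddSubgroup.closure_induction with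
    | mem x hx =>
      rcases hx with rfl | ⟨w, hw0, rfl⟩
      · rw [one_mul]; exact hy
      · exact hmulgen w hw0 y hy
    | zero => rw [zero_mul]; exact R.zero_mem
    | add a b _ _ ha hb => rw [add_mul]; exact R.add_mem ha hb
    | neg a _ ha => rw [neg_mul]; exact R.neg_mem ha
  have hinv : ∀ x ∈ R, x ≠ 0 → x⁻¹ ∈ R := by
    intro x hx hx0
    have : x⁻¹ = (x + x⁻¹) - x := by ring
    rw [this]
    exact R.sub_mem (hRw x hx0) hx
  -- every element lies in `R`
  rw [eq_top_iff]
  refine le_trans ?_ hRA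
  intro w _
  by_contra hwR
  have hw0 : w ≠ 0 := fun h => hwR (h ▸ R.zero_mem)
  -- every nonzero element of `R` equals `-(w + w⁻¹)`
  have hkey : ∀ w : K, w ∉ R → ∀ a ∈ R, a ≠ 0 → a = -(w + w⁻¹) := by
    intro w hwR a ha ha0
    have hw0 : w ≠ 0 := fun h => hwR (h ▸ R.zero_mem)
    have hwa : w + a ∉ R := fun h => hwR (by simpa using R.sub_mem h ha)
    have hwa0 : w + a ≠ 0 := fun h => hwa (h ▸ R.zero_mem)
    have hc := hRw w hw0
    have hca := hRw (w + a) hwa0
    -- `(w + a)⁻¹ - w⁻¹ ∈ R`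
    have h2 : (w + a)⁻¹ - w⁻¹ ∈ R := by
      have : (w + a)⁻¹ - w⁻¹ = ((w + a) + (w + a)⁻¹) - (w + w⁻¹) - a := by ring
      rw [this]
      exact R.sub_mem (R.sub_mem hca hc) ha
    have h3 : (w + a)⁻¹ - w⁻¹ = -a * (w * (w + a))⁻¹ := by
      field_simp
      ring
    by_contra hne
    have hne' : a + (w + w⁻¹) ≠ 0 := fun h => hne (eq_neg_of_add_eq_zero_left h)
    -- `w * (w + a) ∈ R`
    have h4 : (w * (w + a))⁻¹ ∈ R := by
      have : (w * (w + a))⁻¹ = (-a)⁻¹ * (-a * (w * (w + a))⁻¹) := by
        field_simp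
      rw [this, ← h3]
      exact hmul _ (hinv _ (R.neg_mem ha) (neg_ne_zero.mpr ha0)) _ h2
    have h5 : w * (w + a) ∈ R := by
      have := hinv _ h4 (inv_ne_zero (mul_ne_zero hw0 hwa0))
      rwa [inv_inv] at this
    -- `w * (w + a) = (a + (w + w⁻¹)) * w - 1`
    have h6 : (a + (w + w⁻¹)) * w ∈ R := by
      have : (a + (w + w⁻¹)) * w = w * (w + a) + 1 := by
        field_simp
        ring
      rw [this]
      exact R.add_mem h5 hR1
    apply hwR
    have : w = (a + (w + w⁻¹))⁻¹ * ((a + (w + w⁻¹)) * w) := by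
      rw [← mul_assoc, inv_mul_cancel₀ hne', one_mul]
    rw [this]
    exact hmul _ (hinv _ (R.add_mem ha hc) hne') _ h6
  -- hence `R ⊆ {0, 1}` and the elements outside `R` are `w` and `-1 - w`
  have hc1 : (1 : K) = -(w + w⁻¹) := hkey w hwR 1 hR1 one_ne_zero
  obtain ⟨s, hs⟩ := hK
  have hsub : s ⊆ {0, 1, w, -1 - w} := by
    intro x _
    simp only [Finset.mem_insert, Finset.mem_singleton]
    by_cases hx0 : x = 0
    · left; exact hx0
    by_cases hxR : x ∈ R
    · right; left
      rw [hkey w hwR x hxR hx0, ← hc1]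
    · right; right
      have hcx : (1 : K) = -(x + x⁻¹) := hkey x hxR 1 hR1 one_ne_zero
      have e1 : w * w + w + 1 = 0 := by
        have : w * (1 : K) = w * -(w + w⁻¹) := by rw [← hc1]
        field_simp at this
        linear_combination this
      have e2 : x * x + x + 1 = 0 := by
        have : x * (1 : K) = x * -(x + x⁻¹) := by rw [← hcx]
        field_simp at this
        linear_combination this
      have e3 : (x - w) * (x + w + 1) = 0 := by linear_combination e2 - e1
      rcases mul_eq_zero.mp e3 with h | h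
      · left; exact sub_eq_zero.mp h
      · right; linear_combination h
  have := Finset.card_le_card hsub
  have h4 : ({0, 1, w, -1 - w} : Finset K).card ≤ 4 := Finset.card_le_four
  omega

end Cfsg.Agent.Helper7.Sc
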