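import Mathlib
import Cfsg.Agent.Helper7.ChevCodes
import Cfsg.Agent.Helper7.ChevPerfect
import Cfsg.Agent.Helper7.ChevTabG2
import Cfsg.Agent.Helper7.ChevTabB2
import Cfsg.Agent.Helper7.ChevTabD4
import Cfsg.Agent.Helper7.ChevTabF4
import Cfsg.Agent.Helper7.ChevTabE6
import Cfsg.Agent.Helper7.ChevTabE7
import Cfsg.Agent.Helper7.ChevTabE8

set_option autoImplicit false

/-!
Table facts for perfectness: every root element is a commutator of root elements (types `D₄`, `F₄`,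
`E₆`, `E₇`, `E₈`), or is so up to a factor `2` or is moved by an odd pairing (types `G₂`, `B₂`).
-/

namespace Cfsg.Agent.Helper7.Chev

open Cfsg Cfsg.Lie

/-- The witnesses for type `G2`. -/
def perfWG2 : List (ℕ × ℕ × ℤ) := [(1, 5, 1), (0, 6, 1), (0, 0, 0), (0, 0, 0), (1, 0, 0), (0, 10, -1), (1, 11, -1), (1, 0, 0), (0, 0, 0), (0, 0, 0), (5, 11, 1), (6, 10, 1)]

set_option maxRecDepth 1000000 in
set_option maxHeartbeats 0 in
theorem T12fast_G2 : fastG2.T12 perfWG2 := by decide +kernel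

theorem T12_G2 : (tabOf chevG2).T12 perfWG2 := tab_G2 ▸ T12fast_G2

/-- The witnesses for type `B2`. -/
def perfWB2 : List (ℕ × ℕ × ℤ) := [(1, 2, 2), (0, 0, 0), (0, 0, 0), (1, 5, -2), (2, 6, -2), (0, 0, 0), (0, 0, 0), (5, 6, 2)]

set_option maxRecDepth 1000000 in
set_option maxHeartbeats 0 in
theorem T12fast_B2 : fastB2.T12 perfWB2 := by decide +kernel

theorem T12_B2 : (tabOf chevB2).T12 perfWB2 := tab_B2 ▸ T12fast_B2

/-- The witnesses for type `D4`. -/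
def perfWD4 : List (ℕ × ℕ × ℤ) := [(1, 9, 1), (0, 14, 1), (0, 15, -1), (0, 16, -1), (0, 17, 1), (1, 17, 1), (0, 19, -1), (0, 20, 1), (0, 21, 1), (0, 22, -1), (1, 20, -1), (1, 21, -1), (2, 22, -1), (3, 22, -1), (1, 23, -1), (2, 23, 1), (3, 23, 1), (4, 23, -1), (6, 22, 1), (6, 23, 1), (7, 23, -1), (8, 23, -1), (9, 23, 1), (14, 22, 1)]

set_option maxRecDepth 1000000 in
set_option maxHeartbeats 0 in
theorem T11fast_D4 : fastD4.T11 perfWD4 := by decide +kernel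

theorem T11_D4 : (tabOf chevD4).T11 perfWD4 := tab_D4 ▸ T11fast_D4

/-- The witnesses for type `F4`. -/
def perfWF4 : List (ℕ × ℕ × ℤ) := [(1, 23, 1), (0, 24, 1), (0, 26, 1), (7, 14, 1), (0, 31, -1), (0, 32, 1), (1, 32, 1), (3, 33, 1), (3, 34, 1), (3, 35, -1), (3, 36, 1), (3, 37, -1), (3, 38, 1), (3, 39, -1), (3, 40, -1), (0, 42, -1), (0, 43, 1), (1, 43, 1), (7, 37, -1), (7, 38, 1), (7, 39, -1), (0, 45, -1), (1, 45, -1), (0, 46, -1), (1, 47, -1), (2, 46, -1), (2, 47, -1), (8, 40, -1), (9, 40, 1), (10, 40, -1), (4, 46, 1), (4, 47, 1), (5, 47, -1), (7, 44, -1), (8, 44, -1), (9, 44, 1), (10, 44, -1), (11, 44, 1), (12, 44, -1), (13, 44, 1), (14, 44, 1), (15, 46, 1), (15, 47, 1), (16, 47, -1), (33, 40, 1), (21, 47, 1), (23, 47, 1), (24, 46, 1)]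

set_option maxRecDepth 1000000 in
set_option maxHeartbeats 0 in
theorem T11fast_F4 : fastF4.T11 perfWF4 := by decide +kernel

theorem T11_F4 : (tabOf chevF4).T11 perfWF4 := tab_F4 ▸ T11fast_F4

/-- The witnesses for type `E6`. -/
def perfWE6 : List (ℕ × ℕ × ℤ) := [(1, 25, 1), (0, 46, 1), (0, 47, -1), (0, 48, 1), (0, 49, -1), (0, 50, 1), (0, 51, -1), (0, 52, 1), (0, 53, 1), (0, 54, -1), (0, 55, 1), (1, 53, 1), (1, 54, -1), (1, 55, 1), (2, 55, 1), (5, 55, 1), (0, 61, -1), (0, 62, 1), (0, 63, -1), (0, 64, -1), (0, 65, 1), (0, 66, -1), (0, 67, 1), (0, 68, -1), (0, 69, 1), (0, 70, -1), (1, 64, -1), (1, 65, 1), (1, 66, -1), (2, 66, -1), (1, 67, -1), (1, 68, 1), (1, 69, -1), (2, 67, 1), (2, 68, -1), (3, 67, -1), (4, 68, -1), (3, 69, -1), (4, 69, 1), (2, 70, -1), (3, 70, 1), (4, 70, -1), (5, 69, -1), (5, 70, -1), (6, 70, 1), (7, 70, -1), (1, 71, -1), (2, 71, 1), (3, 71, -1), (4, 71, 1), (5, 71, -1), (6, 71, 1), (7,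 71, -1), (8, 71, -1), (9, 71, 1), (10, 71, -1), (16, 66, 1), (16, 69, 1), (16, 70, 1), (17, 70, -1), (18, 70, 1), (16, 71, 1), (17, 71, -1), (18, 71, 1), (19, 71, 1), (20, 71, -1), (21, 71, 1), (22, 71, -1), (23, 71, 1), (24, 71, -1), (25, 71, 1), (46, 70, 1)]

set_option maxRecDepth 1000000 in
set_option maxHeartbeats 0 in
theorem T11fast_E6 : fastE6.T11 perfWE6 := by decide +kernel

theorem T11_E6 : (tabOf chevE6).T11 perfWE6 := tab_E6 ▸ T11fast_E6

/-- The witnesses for type `E7`. -/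
def perfWE7 : List (ℕ × ℕ × ℤ) := [(1, 32, 1), (0, 93, 1), (0, 94, -1), (0, 95, 1), (0, 96, -1), (0, 97, 1), (0, 98, -1), (0, 99, -1), (0, 100, 1), (0, 101, -1), (0, 102, 1), (0, 103, -1), (0, 104, 1), (0, 105, -1), (0, 106, -1), (0, 107, 1), (0, 108, -1), (0, 109, 1), (0, 110, -1), (0, 111, 1), (0, 112, 1), (0, 113, -1), (0, 114, 1), (0, 115, -1), (0, 116, 1), (0, 117, -1), (0, 118, 1), (0, 119, 1), (0, 120, -1), (0, 121, 1), (0, 122, -1), (0, 123, 1), (0, 124, -1), (1, 109, -1), (1, 110, 1), (1, 111, -1), (1, 112, -1), (1, 113, 1), (1, 114, -1), (1, 115, 1), (1, 116, -1), (1, 117, 1), (1, 118, -1), (2, 115, 1), (2, 116, -1), (2, 117, 1), (2, 118, -1), (3, 118, -1), (1, 119, -1), (1, 120, 1), (1, 121, -1), (1, 122, 1), (1, 123, -1), (2, 119, 1), (2, 120, -1), (2, 121, 1), (2, 122, -1), (3, 119, -1), (3, 120, 1), (3, 121, -1), (4, 119, 1), (4, 120, -1), (5, 119, -1), (6, 120, -1), (5, 121, -1), (6, 121, 1),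 (4, 122, -1), (5, 122, 1), (6, 122, -1), (3, 123, -1), (4, 123, 1), (5, 123, -1), (6, 123, 1), (2, 124, -1), (3, 124, 1), (4, 124, -1), (5, 124, 1), (6, 124, -1), (7, 122, -1), (7, 123, -1), (8, 123, 1), (9, 123, -1), (10, 123, 1), (7, 124, -1), (8, 124, 1), (9, 124, -1), (10, 124, 1), (11, 124, -1), (12, 124, 1), (13, 124, -1), (14, 124, -1), (15, 124, 1), (16, 124, -1), (1, 125, -1), (2, 125, 1), (3, 125, -1), (4, 125, 1), (5, 125, -1), (6, 125, 1), (7, 125, 1), (8, 125, -1), (9, 125, 1), (10, 125, -1), (11, 125, 1), (12, 125, -1), (13, 125, 1), (14, 125, 1), (15, 125, -1), (16, 125, 1), (17, 125, -1), (18, 125, 1), (19, 125, -1), (20, 125, -1), (21, 125, 1), (22, 125, -1), (23, 125, 1), (24, 125, -1), (25, 125, 1), (26, 125, -1), (27, 125, -1), (28, 125, 1), (29, 125, -1), (30, 125, 1), (31, 125, -1), (32, 125, 1), (93, 124, 1)]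

set_option maxRecDepth 1000000 in
set_option maxHeartbeats 0 in
theorem T11fast_E7 : fastE7.T11 perfWE7 := by decide +kernel

theorem T11_E7 : (tabOf chevE7).T11 perfWE7 := tab_E7 ▸ T11fast_E7

/-- The witnesses for type `E8`. -/
def perfWE8 : List (ℕ × ℕ × ℤ) := [(1, 119, 1), (0, 120, 1), (0, 122, 1), (0, 125, 1), (0, 129, 1), (0, 134, 1), (0, 140, 1), (0, 146, 1), (0, 151, -1), (0, 155, 1), (0, 158, -1), (0, 160, 1), (0, 161, -1), (1, 161, -1), (0, 168, 1), (0, 173, -1), (0, 177, 1), (0, 180, -1), (0, 182, 1), (0, 183, -1), (1, 183, -1), (0, 187, -1), (0, 190, 1), (0, 192, -1), (0, 193, 1), (1, 193, 1), (0, 196, -1), (0, 198, 1), (0, 199, -1), (1, 199, -1), (0, 201, -1), (0, 202, 1), (1, 202, 1), (0, 203, -1), (1, 203, -1), (2, 203, -1), (0, 206, 1), (0, 208, -1), (0, 209, 1), (1, 209, 1), (0, 211, 1), (0, 212, -1), (1, 212, -1), (0, 213, 1), (1, 213, 1), (2, 213, 1), (0, 215, -1), (0, 216, 1), (1, 216,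 1), (0, 217, -1), (1, 217, -1), (2, 217, -1), (0, 218, 1), (1, 218, 1), (2, 218, 1), (3, 218, 1), (0, 220, 1), (0, 221, -1), (1, 221, -1), (0, 222, 1), (1, 222, 1), (2, 222, 1), (0, 223, -1), (1, 223, -1), (2, 223, -1), (3, 223, -1), (0, 224, 1), (1, 224, 1), (2, 224, 1), (3, 224, 1), (4, 224, 1), (0, 225, -1), (1, 225, -1), (2, 225, -1), (3, 225, -1), (4, 225, -1), (5, 225, -1), (6, 225, -1), (0, 227, 1), (0, 228, -1), (1, 228, -1), (0, 229, 1), (1, 229, 1), (2, 229, 1), (0, 230, -1), (1, 230, -1), (2, 230, -1), (3, 230, -1), (0, 231, 1), (1, 231, 1), (2, 231, 1), (3, 231, 1), (4, 231, 1), (0, 232, -1), (1, 232, -1), (2, 232, -1), (3, 232, -1), (4, 232, -1), (5, 232, -1), (0, 233, -1), (1, 233, -1), (2, 233, -1), (3, 233, -1), (4, 233, -1), (5, 233, -1), (0, 234, -1), (1, 234, -1), (2, 234, -1), (3, 234, -1), (4, 234, -1), (0, 235, -1), (1, 235, -1), (2, 235, -1), (3, 235, -1), (0, 236, -1), (1, 236, -1),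 (2, 236, -1), (0, 237, -1), (1, 237, -1), (0, 238, -1), (1, 239, -1), (2, 238, -1), (2, 239, -1), (3, 237, -1), (3, 238, -1), (3, 239, -1), (4, 236, -1), (4, 237, -1), (4, 238, -1), (4, 239, -1), (5, 235, -1), (5, 236, -1), (5, 237, -1), (5, 238, -1), (5, 239, -1), (6, 234, -1), (6, 235, -1), (6, 236, -1), (6, 237, -1), (6, 238, -1), (6, 239, -1), (7, 234, -1), (7, 235, -1), (7, 236, -1), (7, 237, -1), (7, 238, -1), (7, 239, -1), (8, 235, 1), (8, 236, 1), (8, 237, 1), (8, 238, 1), (8, 239, 1), (9, 236, -1), (9, 237, -1), (9, 238, -1), (9, 239, -1), (10, 237, 1), (10, 238, 1), (10, 239, 1), (11, 238, -1), (11, 239, -1), (12, 239, 1), (14, 233, -1), (14, 234, -1), (14, 235, -1), (14, 236, -1), (14, 237, -1), (14, 238, -1), (14, 239, -1), (15, 235, 1), (15, 236, 1), (15, 237, 1), (15, 238, 1), (15, 239, 1), (16, 236, -1), (16, 237, -1), (16, 238, -1), (16, 239, -1), (17, 237, 1), (17, 238, 1), (17, 239, 1), (18,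 238, -1), (18, 239, -1), (19, 239, 1), (21, 236, 1), (21, 237, 1), (21, 238, 1), (21, 239, 1), (22, 237, -1), (22, 238, -1), (22, 239, -1), (23, 238, 1), (23, 239, 1), (24, 239, -1), (26, 237, 1), (26, 238, 1), (26, 239, 1), (27, 238, -1), (27, 239, -1), (28, 239, 1), (30, 238, 1), (30, 239, 1), (31, 239, -1), (33, 239, 1), (36, 237, -1), (36, 238, -1), (36, 239, -1), (37, 238, 1), (37, 239, 1), (38, 239, -1), (40, 238, -1), (40, 239, -1), (41, 239, 1), (43, 239, -1), (46, 238, 1), (46, 239, 1), (47, 239, -1), (49, 239, 1), (52, 239, -1), (56, 238, -1), (56, 239, -1), (57, 239, 1), (59, 239, -1), (62, 239, 1), (66, 239, -1), (71, 239, 1), (78, 238, -1), (78, 239, -1), (79, 239, 1), (81, 239, -1), (84, 239, 1), (88, 239, -1), (93, 239, 1), (99, 239, 1), (105, 239, 1), (110, 239, 1), (114, 239, 1), (117, 239, 1), (119, 239, 1), (120, 238, 1)]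

set_option maxRecDepth 1000000 in
set_option maxHeartbeats 0 in
theorem T11fast_E8 : fastE8.T11 perfWE8 := by decide +kernel

theorem T11_E8 : (tabOf chevE8).T11 perfWE8 := tab_E8 ▸ T11fast_E8

end Cfsg.Agent.Helper7.Chev
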