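import Mathlib
import Cfsg.Agent.Helper7.ChevGraph
import Cfsg.Agent.Helper7.ChevGood1

set_option autoImplicit false
set_option maxRecDepth 100000

/-! Table facts for the graph automorphisms of E₆ and D₄: the permutations of the roots and the signs. -/

namespace Cfsg.Agent.Helper7.Chev

open Cfsg Cfsg.Lie

/-- Look up an entry of a table of natural numbers. -/
def tabN (T : Array ℕ) : ℕ → ℕ := fun i => T.getD i 0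

/-- Look up an entry of a table of integers. -/
def tabI (T : Array ℤ) : ℕ → ℤ := fun i => T.getD i 0

def t18s_E6 : Array ℕ := #[0, 1, 2, 5, 16, 3, 6, 17, 8, 19, 22, 11, 26, 30, 33, 35, 4, 7, 18, 9, 20, 23, 10, 21, 24, 25, 12, 27, 31, 34, 13, 28, 32, 14, 29, 15, 56, 42, 57, 39, 43, 58, 37, 40, 44, 59, 46, 47, 50, 61, 48, 51, 62, 53, 64, 67, 36, 38, 41, 45, 60, 49, 52, 63, 54, 65, 68, 55, 66, 69, 70, 71]
def t18s'_E6 : Array ℕ := #[0, 1, 2, 5, 16, 3, 6, 17, 8, 19, 22, 11, 26, 30, 33, 35, 4, 7, 18, 9, 20, 23, 10, 21, 24, 25, 12, 27, 31, 34, 13, 28, 32, 14, 29, 15, 56, 42, 57, 39, 43, 58, 37, 40, 44, 59, 46, 47, 50, 61, 48, 51, 62, 53, 64, 67, 36, 38, 41, 45, 60, 49, 52, 63, 54, 65, 68, 55, 66, 69, 70, 71]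
def t18e_E6 : Array ℤ := #[1, 1, 1, 1, -1, 1, 1, -1, 1, -1, -1, 1, -1, 1, -1, 1, -1, -1, 1, -1, 1, 1, -1, 1, 1, 1, -1, 1, -1, 1, 1, -1, 1, -1, 1, 1, 1, 1, -1, 1, -1, 1, 1, -1, 1, -1, 1, 1, 1, -1, 1, 1, -1, 1, -1, -1, 1, -1, 1, -1, 1, -1, -1, 1, -1, 1, 1, -1, 1, 1, 1, 1]
theorem T18_E6 : T18 chevE6 (fun i => [5, 1, 4, 3, 2, 0].getD i 0) (fun i => [5, 1, 4, 3, 2, 0].getD i 0) (tabN t18s_E6) (tabN t18s'_E6) (tabI t18e_E6) := by decide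

def t18s_D4a : Array ℕ := #[0, 1, 6, 2, 7, 10, 3, 8, 4, 9, 11, 5, 18, 12, 14, 19, 15, 20, 13, 16, 21, 17, 22, 23]
def t18s'_D4a : Array ℕ := #[0, 1, 3, 6, 8, 11, 2, 4, 7, 9, 5, 10, 13, 18, 14, 16, 19, 21, 12, 15, 17, 20, 22, 23]
def t18e_D4a : Array ℤ := #[1, 1, -1, 1, -1, 1, -1, 1, -1, 1, 1, 1, 1, 1, 1, -1, 1, -1, 1, -1, 1, -1, 1, 1]
theorem T18_D4a : T18 chevD4 (fun i => [2, 1, 3, 0].getD i 0) (fun i => [3, 1, 0, 2].getD i 0) (tabN t18s_D4a) (tabN t18s'_D4a) (tabI t18e_D4a) := by decide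

def t18s_D4b : Array ℕ := #[0, 1, 3, 6, 8, 11, 2, 4, 7, 9, 5, 10, 13, 18, 14, 16, 19, 21, 12, 15, 17, 20, 22, 23]
def t18s'_D4b : Array ℕ := #[0, 1, 6, 2, 7, 10, 3, 8, 4, 9, 11, 5, 18, 12, 14, 19, 15, 20, 13, 16, 21, 17, 22, 23]
def t18e_D4b : Array ℤ := #[1, 1, 1, -1, -1, 1, -1, -1, 1, 1, 1, 1, 1, 1, 1, 1, -1, -1, 1, -1, -1, 1, 1, 1]
theorem T18_D4b : T18 chevD4 (fun i => [3, 1, 0, 2].getD i 0) (fun i => [2, 1, 3, 0].getD i 0) (tabN t18s_D4b) (tabN t18s'_D4b) (tabI t18e_D4b) := by decide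

end Cfsg.Agent.Helper7.Chev
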