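import Mathlib
import Cfsg.Agent.Helper7.ChevTw12
import Cfsg.Agent.Helper7.ChevPerfect

set_option autoImplicit false
set_option linter.unusedSectionVars false
set_option linter.unusedVariables false

/-!
Twisted groups, part 13: the twisted group is perfect.
-/

namespace Cfsg.Agent.Helper7.Chev

open Cfsg Cfsg.Lie Matrix
open scoped commutatorElement

variable {D : ChevalleyDatum} {K : Type*} [Field K]

theorem Adm.sub {f : K ≃+* K} {m : ℕ} {t u : K} (h : Adm f m t) (h' : Adm f m u) :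
    Adm f m (t - u) := by
  rw [sub_eq_add_neg]
  exact h.add h'.neg

theorem Adm.intCast {f : K ≃+* K} {m : ℕ} (z : ℤ) : Adm f m ((z : ℤ) : K) := by
  unfold Adm
  rw [map_intCast]

/-- The rank one identity `x(t) = [h(a), x(s)]`. -/
theorem upperSL_eq_comm {a : K} (ha : a ≠ 0) (ha1 : a * a ≠ 1) (t : K) :
    upperSL t = diagSL a ha * upperSL (t * (a * a - 1)⁻¹) * (diagSL a ha)⁻¹ *
      (upperSL (t * (a * a - 1)⁻¹))⁻¹ := by
  have hne : a * a - 1 ≠ 0 := sub_ne_zero.mpr ha1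
  have key0 : ∀ s : K, upperSL ((a * a - 1) * s) * upperSL s * diagSL a ha =
      diagSL a ha * upperSL s := by
    intro s
    apply Subtype.ext
    rw [Matrix.SpecialLinearGroup.coe_mul, Matrix.SpecialLinearGroup.coe_mul,
      Matrix.SpecialLinearGroup.coe_mul]
    change !![1, (a * a - 1) * s; 0, 1] * !![1, s; 0, 1] * !![a, 0; 0, a⁻¹] =
      !![a, 0; 0, a⁻¹] * !![1, s; 0, 1]
    ext i j
    fin_cases i <;> fin_cases j <;> simp [Matrix.mul_apply, Fin.sum_univ_two]
    field_simp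
    ring
  have key : upperSL t * upperSL (t * (a * a - 1)⁻¹) * diagSL a ha =
      diagSL a ha * upperSL (t * (a * a - 1)⁻¹) := by
    have := key0 (t * (a * a - 1)⁻¹)
    have e : (a * a - 1) * (t * (a * a - 1)⁻¹) = t := by
      rw [mul_comm t, ← mul_assoc, mul_inv_cancel₀ hne, one_mul]
    rwa [e] at this
  rw [← key]
  group

theorem exists_sq_ne_one {K : Type*} [Field K] [Fintype K] (h : 4 ≤ Fintype.card K) :
    ∃ a : K, a ≠ 0 ∧ a * a ≠ 1 := by
  classical
  by_contra hcon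
  push Not at hcon
  have hsub : (Finset.univ : Finset K) ⊆ {0, 1, -1} := by
    intro a _
    by_cases ha : a = 0
    · simp [ha]
    · have h1 := hcon a ha
      have h2 : (a - 1) * (a + 1) = 0 := by linear_combination h1
      rcases mul_eq_zero.mp h2 with h3 | h3
      · have : a = 1 := sub_eq_zero.mp h3
        simp [this]
      · have : a = -1 := eq_neg_of_add_eq_zero_left h3
        simp [this]
  have := Finset.card_le_card hsub
  rw [Finset.card_univ] at this
  have h3 := Finset.card_le_three (a := (0 : K)) (b := 1) (c := -1)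
  omega

section perfect

variable (hG : Good2 D) (hT : T0 D) (h3 : (tabOf D).T3) (h4 : (tabOf D).T4 60) (h5 : (tabOf D).T5)
  (h6 : (tabOf D).T6) (h7 : (tabOf D).T7) (h8 : (tabOf D).T8) (h9 : (tabOf D).T9)
  {ρ ρ' σ σ' : ℕ → ℕ} {ε : ℕ → ℤ} (h18 : T18 D ρ ρ' σ σ' ε) {cls : List (ℕ × ℕ)}
  (h19 : T19 D ρ σ cls) (h20 : (tabOf D).T20 ρ cls) (f : K ≃+* K)

/-- The derived subgroup of the twisted group, as a subgroup of the general linear group. -/
def twDer : Subgroup (GL D.Idx K) := ⁅twGroup hG h3 h4 h19 f, twGroup hG h3 h4 h19 f⁆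

theorem comm_mem_twDer {a b : GL D.Idx K} (ha : a ∈ twGroup hG h3 h4 h19 f)
    (hb : b ∈ twGroup hG h3 h4 h19 f) : a * b * a⁻¹ * b⁻¹ ∈ twDer hG h3 h4 h19 f :=
  Subgroup.commutator_mem_commutator ha hb

theorem conj_mem_twDer {g x : GL D.Idx K} (hg : g ∈ twGroup hG h3 h4 h19 f)
    (hx : x ∈ twDer hG h3 h4 h19 f) : g * x * g⁻¹ ∈ twDer hG h3 h4 h19 f := by
  unfold twDer at hx
  rw [Subgroup.commutator_def] at hx
  induction hx using Subgroup.closure_induction with
  | mem y hy =>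
    obtain ⟨a, ha, b, hb, rfl⟩ := hy
    have e : g * ⁅a, b⁆ * g⁻¹ = (g * a * g⁻¹) * (g * b * g⁻¹) * (g * a * g⁻¹)⁻¹ * (g * b * g⁻¹)⁻¹ := by
      rw [commutatorElement_def]; group
    rw [e]
    exact comm_mem_twDer hG h3 h4 h19 f (mul_mem (mul_mem hg ha) (inv_mem hg))
      (mul_mem (mul_mem hg hb) (inv_mem hg))
  | one => rw [mul_one, mul_inv_cancel]; exact one_mem _
  | mul a b _ _ ha hb =>
    have e : g * (a * b) * g⁻¹ = (g * a * g⁻¹) * (g * b * g⁻¹) := by group
    rw [e]; exact mul_mem ha hb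
  | inv a _ ha =>
    have e : g * a⁻¹ * g⁻¹ = (g * a * g⁻¹)⁻¹ := by group
    rw [e]; exact inv_mem ha

theorem conj_mem_twDer' {g x : GL D.Idx K} (hg : g ∈ twGroup hG h3 h4 h19 f)
    (hx : x ∈ twDer hG h3 h4 h19 f) : g⁻¹ * x * g ∈ twDer hG h3 h4 h19 f := by
  have := conj_mem_twDer hG h3 h4 h19 f (inv_mem hg) hx
  rwa [inv_inv] at this

/-- The twisted group is perfect as soon as it lies in its derived subgroup. -/
theorem commutator_eq_top_of_le_twDer
    (h : twGroup hG h3 h4 h19 f ≤ twDer hG h3 h4 h19 f) :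
    commutator ↥(twGroup hG h3 h4 h19 f) = ⊤ := by
  have hmap := Subgroup.map_subtype_commutator (twGroup hG h3 h4 h19 f)
  rw [eq_top_iff]
  intro x _
  have hx : (x : GL D.Idx K) ∈ twDer hG h3 h4 h19 f := h x.2
  unfold twDer at hx
  rw [← hmap] at hx
  obtain ⟨y, hy, e⟩ := hx
  have : y = x := Subtype.ext e
  rw [← this]
  exact hy

/-- `x_{-S}(t)` lies in the derived subgroup if `x_S(-t)` does. -/
theorem lower_mem_twDer_of_upper {c : ℕ × ℕ} (hc : c ∈ cls) {t : K}
    (h : clsHom hG h3 h4 h19 f hc (upperSL (-t)) ∈ twDer hG h3 h4 h19 f) :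
    clsHom hG h3 h4 h19 f hc (lowerSL t) ∈ twDer hG h3 h4 h19 f := by
  rw [lowerSL_eq_conj, map_mul, map_mul, map_inv]
  exact conj_mem_twDer hG h3 h4 h19 f (anti_mem_twGroup hG h3 h4 h19 f hc) h

/-- A class whose field of parameters contains an element `a ≠ 0` with `a² ≠ 1`. -/
theorem upper_mem_twDer_of_torus {c : ℕ × ℕ} (hc : c ∈ cls) {a : K} (ha0 : a ≠ 0)
    (ha1 : a * a ≠ 1) (hadm : Adm f c.2 a) {t : K} (ht : Adm f c.2 t) :
    clsHom hG h3 h4 h19 f hc (upperSL t) ∈ twDer hG h3 h4 h19 f := by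
  rw [upperSL_eq_comm ha0 ha1 t, map_mul, map_mul, map_mul, map_inv, map_inv]
  have hs : Adm f c.2 (t * (a * a - 1)⁻¹) := ht.mul ((hadm.mul hadm).sub Adm.one).inv
  exact comm_mem_twDer hG h3 h4 h19 f (diag_mem_twGroup hG h3 h4 h19 f hc ha0 hadm)
    (upper_mem_twGroup hG h3 h4 h19 f hc hs)

/-- The class homomorphism of a class with one root. -/
theorem clsHom_upper_one {i : ℕ} (hc : (i, 1) ∈ cls) (hi : i < D.rank) (t : K) :
    clsHom hG h3 h4 h19 f hc (upperSL t) = xGL hG.toGood1 (hG.toGood1.simple_lt hi) t := by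
  have hG1 := hG.toGood1
  rw [clsHom_upper, xiHom_apply]
  change ((List.range 1).map _).prod = _
  rw [List.range_one, List.map_singleton, List.prod_singleton, toAdd_ofAdd, pow_zero]
  have hp : clsRoot D ρ i 0 < D.nroots := hG1.simple_lt hi
  rw [xGL'_of_lt hG1 hp]
  rfl

/-- A class with one root `p` such that a conjugate `r` of `p` and a conjugate `q` of `p` under `N¹` satisfy
`[x_p(t), x_r(u)] = x_q(± t u)`. -/
theorem upper_mem_twDer_of_comm {i : ℕ} (hc : (i, 1) ∈ cls) (hi : i < D.rank)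
    {wa wb : List (ℕ × ℕ)} (hwa : ∀ c ∈ wa, c ∈ cls) (hwb : ∀ c ∈ wb, c ∈ cls) {c₀ : ℤ}
    (hst : (tabOf D).SingleTerm ((tabOf D).reflWord (wb.flatMap (clsWord ρ)) (D.simple i))
      (D.simple i) ((tabOf D).reflWord (wa.flatMap (clsWord ρ)) (D.simple i)) c₀)
    (hc₀ : c₀ = 1 ∨ c₀ = -1) {t : K} (ht : Adm f 1 t) :
    clsHom hG h3 h4 h19 f hc (upperSL t) ∈ twDer hG h3 h4 h19 f := by
  have hG1 := hG.toGood1
  have hp := hG1.simple_lt hi
  have hlt : ∀ (w : List (ℕ × ℕ)), (∀ c ∈ w, c ∈ cls) → ∀ j ∈ w.flatMap (clsWord ρ), j < D.rank := by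
    intro w hw j hj
    rw [List.mem_flatMap] at hj
    obtain ⟨c, hcw, hjc⟩ := hj
    exact clsWord_lt (D := D) h19 (hw c hcw) j hjc
  have hwa' := hlt wa hwa
  have hwb' := hlt wb hwb
  set na : GL D.Idx K := nWordGL hG (wa.flatMap (clsWord ρ)) with hna
  set nb : GL D.Idx K := nWordGL hG (wb.flatMap (clsWord ρ)) with hnb
  have hnaG : na ∈ twGroup hG h3 h4 h19 f := nWordGL_flatMap_mem hG h3 h4 h19 f hwa
  have hnbG : nb ∈ twGroup hG h3 h4 h19 f := nWordGL_flatMap_mem hG h3 h4 h19 f hwb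
  set r := (tabOf D).reflWord (wa.flatMap (clsWord ρ)) (D.simple i) with hrdef
  set q := (tabOf D).reflWord (wb.flatMap (clsWord ρ)) (D.simple i) with hqdef
  have hr : r < D.nroots := reflWord_lt hG hwa' hp
  have hq : q < D.nroots := reflWord_lt hG hwb' hp
  -- the root elements of `p` with parameters in the fixed field lie in the twisted group
  have hxp : ∀ u : K, Adm f 1 u → xGL hG1 hp u ∈ twGroup hG h3 h4 h19 f := by
    intro u hu
    rw [← clsHom_upper_one hG h3 h4 h19 f hc hi u]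
    exact upper_mem_twGroup hG h3 h4 h19 f hc hu
  -- the root elements of `r`
  set ηa : K := (((tabOf D).etaWord (wa.flatMap (clsWord ρ)) (D.simple i) : ℤ) : K) with hηa
  have hηηa : ηa * ηa = 1 := etaWord_cast_mul_self hG hwa' hp
  have hxr : ∀ u : K, Adm f 1 u → xGL hG1 hr u ∈ twGroup hG h3 h4 h19 f := by
    intro u hu
    have cj := nWordGL_conj (F := K) hG hwa' hp (ηa * u)
    rw [← hηa, ← mul_assoc, hηηa, one_mul] at cj
    rw [← cj]
    exact mul_mem (mul_mem hnaG (hxp _ ((Adm.intCast _).mul hu))) (inv_mem hnaG)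
  -- the root elements of `q` lie in the derived subgroup
  have hst' := hst
  obtain ⟨_, _, hsr, hsn, hct⟩ := hst'
  have hcomm := comm_all (F := K) hG h3 h4 hp hr hsr hsn
  have hc₀K : ((c₀ : ℤ) : K) ≠ 0 := by
    rcases hc₀ with h | h <;> rw [h] <;> simp
  have hxq : ∀ u : K, Adm f 1 u → xGL hG1 hq u ∈ twDer hG h3 h4 h19 f := by
    intro u hu
    set t₁ : K := -((c₀ : ℤ) : K)⁻¹ * u with ht₁
    have ht₁adm : Adm f 1 t₁ := ((Adm.intCast c₀).inv.neg).mul hu
    have hW : D.commWord K (D.simple i) r t₁ 1 = [(q, u)] := by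
      rw [commWord_eq]
      unfold Tab.commMono
      rw [hct]
      simp only [List.map_cons, List.map_nil, Mono.eval]
      congr 2
      rw [ht₁]
      push_cast
      field_simp
    have hf := hcomm t₁ 1
    rw [hW, wordMat_cons, wordMat_nil, mul_one] at hf
    have e1 : xGL hG1 hr (1 : K) * xGL hG1 hp t₁ =
        xGL hG1 hp t₁ * xGL hG1 hr 1 * xGL hG1 hq u := by
      apply Units.ext
      rw [Units.val_mul, Units.val_mul, Units.val_mul, xGL_coe, xGL_coe, xGL_coe]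
      exact hf
    have e2 : xGL hG1 hq u = (xGL hG1 hr (1 : K))⁻¹ * (xGL hG1 hp t₁)⁻¹ *
        (xGL hG1 hr (1 : K))⁻¹⁻¹ * (xGL hG1 hp t₁)⁻¹⁻¹ := by
      rw [inv_inv, inv_inv]
      have : xGL hG1 hq u = (xGL hG1 hp t₁ * xGL hG1 hr 1)⁻¹ *
          (xGL hG1 hr (1 : K) * xGL hG1 hp t₁) := by
        rw [e1]; group
      rw [this]; group
    rw [e2]
    exact comm_mem_twDer hG h3 h4 h19 f (inv_mem (hxr 1 Adm.one)) (inv_mem (hxp t₁ ht₁adm))
  -- conjugate back
  set ηb : K := (((tabOf D).etaWord (wb.flatMap (clsWord ρ)) (D.simple i) : ℤ) : K) with hηb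
  have cj := nWordGL_conj (F := K) hG hwb' hp t
  rw [← hηb, ← hnb] at cj
  rw [clsHom_upper_one hG h3 h4 h19 f hc hi t]
  have e : xGL hG1 hp t = nb⁻¹ * (nb * xGL hG1 hp t * nb⁻¹) * nb := by group
  rw [e, cj]
  exact conj_mem_twDer' hG h3 h4 h19 f hnbG (hxq _ ((Adm.intCast _).mul ht))

end perfect

end Cfsg.Agent.Helper7.Chev
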