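import Mathlib
import Cfsg.Agent.Helper7.ChevTw13
import Cfsg.Agent.Helper7.BNSimple

set_option autoImplicit false
set_option linter.unusedSectionVars false
set_option linter.unusedVariables false

/-!
Twisted groups, part 14: simplicity of the twisted groups.
-/

namespace Cfsg.Agent.Helper7.Chev

open Cfsg Cfsg.Lie Matrix

variable {D : ChevalleyDatum} {K : Type*} [Field K]

namespace Tab

variable (T : Tab)

/-- The reflections of two classes do not commute: the word `a b a b` sends a fundamental root to a negative root. -/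
def TwAdj (ρ : ℕ → ℕ) (a b : ℕ × ℕ) : Prop :=
  ∃ i < T.l, T.reflWord (clsWord ρ a ++ clsWord ρ b ++ clsWord ρ a ++ clsWord ρ b) (T.simple i) <
    T.n / 2

instance (ρ : ℕ → ℕ) (a b : ℕ × ℕ) : Decidable (T.TwAdj ρ a b) := by
  unfold TwAdj; infer_instance

/-- The classes can be arranged in a chain of classes whose consecutive reflections do not commute. -/
def TwChain (ρ : ℕ → ℕ) (cls chain : List (ℕ × ℕ)) : Prop :=
  (∀ c ∈ cls, c ∈ chain) ∧ (∀ c ∈ chain, c ∈ cls) ∧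
    ∀ k < chain.length - 1, T.TwAdj ρ (chain.getD k (0, 0)) (chain.getD (k + 1) (0, 0)) ∧
      T.TwAdj ρ (chain.getD (k + 1) (0, 0)) (chain.getD k (0, 0))

instance (ρ : ℕ → ℕ) (cls chain : List (ℕ × ℕ)) : Decidable (T.TwChain ρ cls chain) := by
  unfold TwChain; infer_instance

end Tab

theorem exists_flip {α : Type*} (L : List α) (d : α) (I : α → Prop) {x y : α} (hx : x ∈ L)
    (hy : y ∈ L) (hIx : I x) (hIy : ¬ I y) :
    ∃ k, k < L.length - 1 ∧ ((I (L.getD k d) ∧ ¬ I (L.getD (k + 1) d)) ∨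
      (¬ I (L.getD k d) ∧ I (L.getD (k + 1) d))) := by
  by_contra hno
  push Not at hno
  have hall : ∀ k, k < L.length → (I (L.getD k d) ↔ I (L.getD 0 d)) := by
    intro k
    induction k with
    | zero => intro _; exact Iff.rfl
    | succ k ih =>
      intro hk
      have hk' : k < L.length - 1 := by omega
      have h1 := hno k hk'
      have h2 := ih (by omega)
      constructor
      · intro h
        by_contra hc
        exact h1.2 (fun h' => hc (h2.mp h')) h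
      · intro h
        exact h1.1 (h2.mpr h)
  obtain ⟨kx, hkx, ekx⟩ := List.getElem_of_mem hx
  obtain ⟨ky, hky, eky⟩ := List.getElem_of_mem hy
  have e1 := hall kx hkx
  have e2 := hall ky hky
  rw [List.getD_eq_getElem _ _ hkx, ekx] at e1
  rw [List.getD_eq_getElem _ _ hky, eky] at e2
  exact hIy (e2.mpr (e1.mp hIx))

section simple

variable (hG : Good2 D) (hT : T0 D) (h3 : (tabOf D).T3) (h4 : (tabOf D).T4 60) (h5 : (tabOf D).T5)
  (h6 : (tabOf D).T6) (h7 : (tabOf D).T7) (h8 : (tabOf D).T8) (h9 : (tabOf D).T9)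
  {ρ ρ' σ σ' : ℕ → ℕ} {ε : ℕ → ℤ} (h18 : T18 D ρ ρ' σ σ' ε) {cls : List (ℕ × ℕ)}
  (h19 : T19 D ρ σ cls) (h20 : (tabOf D).T20 ρ cls) (f : K ≃+* K)

include hT h8 in
/-- The commutator of `n_a` and `n_b` does not lie in `B` if the reflections of the classes do not commute. -/
theorem ncls_comm_not_mem_borel {a b : ℕ × ℕ} (ha : a ∈ cls) (hb : b ∈ cls)
    (hadj : (tabOf D).TwAdj ρ a b) :
    clsHom hG h3 h4 h19 f ha antiSL * clsHom hG h3 h4 h19 f hb antiSL *
      (clsHom hG h3 h4 h19 f ha antiSL)⁻¹ * (clsHom hG h3 h4 h19 f hb antiSL)⁻¹ ∉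
        D.borelSubgroup K := by
  have hG1 := hG.toGood1
  intro hB
  have hHB : D.diagonalSubgroup K ≤ D.borelSubgroup K := le_sup_right
  set na : GL D.Idx K := clsHom hG h3 h4 h19 f ha antiSL with hna
  set nb : GL D.Idx K := clsHom hG h3 h4 h19 f hb antiSL with hnb
  have hwa := clsWord_lt (D := D) h19 ha
  have hwb := clsWord_lt (D := D) h19 hb
  have hw : ∀ k ∈ clsWord ρ a ++ clsWord ρ b ++ clsWord ρ a ++ clsWord ρ b, k < D.rank := by
    intro k hk
    simp only [List.mem_append] at hk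
    rcases hk with ((hk | hk) | hk) | hk
    · exact hwa k hk
    · exact hwb k hk
    · exact hwa k hk
    · exact hwb k hk
  have e : (nWordGL hG (clsWord ρ a ++ clsWord ρ b ++ clsWord ρ a ++ clsWord ρ b) : GL D.Idx K) =
      (na * nb * na⁻¹ * nb⁻¹) * (nb * (na * na) * nb⁻¹) * (nb * nb) := by
    rw [nWordGL_append, nWordGL_append, nWordGL_append, ← clsHom_anti hG h3 h4 h19 f ha,
      ← clsHom_anti hG h3 h4 h19 f hb, ← hna, ← hnb]
    group
  have hnbN : nb ∈ Subgroup.normalizer (D.diagonalSubgroup K : Set (GL D.Idx K)) :=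
    monomialSubgroup_le_normalizer hG (ncls_mem_monomial hG h3 h4 h19 f hb)
  have hsqa : na * na ∈ D.diagonalSubgroup K :=
    ((mem_twH hG h3 h4 h19 f).mp (ncls_sq_mem_twH hG h3 h4 h19 f ha)).1
  have hsqb : nb * nb ∈ D.diagonalSubgroup K :=
    ((mem_twH hG h3 h4 h19 f).mp (ncls_sq_mem_twH hG h3 h4 h19 f hb)).1
  have hmem : (nWordGL hG (clsWord ρ a ++ clsWord ρ b ++ clsWord ρ a ++ clsWord ρ b) :
      GL D.Idx K) ∈ D.borelSubgroup K := by
    rw [e]
    exact mul_mem (mul_mem hB (hHB (conj_mem_diagonal hnbN hsqa))) (hHB hsqb)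
  have hpos := reflWord_pos_of_mem_borel (F := K) hG hT h8 hw hmem
  obtain ⟨i, hi, hneg⟩ := hadj
  have hi' : i < D.rank := hi
  have := hpos (D.simple i) (hG1.simple_lt hi') (simple_pos hG1 hT hi')
  have hneg' : (tabOf D).reflWord (clsWord ρ a ++ clsWord ρ b ++ clsWord ρ a ++ clsWord ρ b)
      (D.simple i) < D.nroots / 2 := hneg
  omega

include hT h3 h4 h5 h6 h7 h8 h9 h18 h20 in
/-- Simplicity of the twisted group from perfectness. -/
theorem tw_isSimpleGroup {chain : List (ℕ × ℕ)} (hchain : (tabOf D).TwChain ρ cls chain)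
    {wcls : List (ℕ × ℕ)} (hwc : ∀ c ∈ wcls, c ∈ cls)
    (hw0 : (tabOf D).W0ok (wcls.flatMap (clsWord ρ))) {c₀ : ℕ × ℕ} (hc₀ : c₀ ∈ cls)
    (hperf : commutator ↥(twGroup hG h3 h4 h19 f) = ⊤) :
    IsSimpleGroup ↥(twGroup hG h3 h4 h19 f) ∧ ¬ IsMulCommutative ↥(twGroup hG h3 h4 h19 f) := by
  classical
  have hG1 := hG.toGood1
  obtain ⟨hch1, hch2, hch3⟩ := hchain
  obtain ⟨P, hPB, hPN, hPS⟩ := exists_bnPair_tw hG hT h3 h4 h5 h6 h7 h8 h9 h18 h19 h20 f
  have memB : ∀ x : ↥(twGroup hG h3 h4 h19 f),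
      x ∈ (D.borelSubgroup K ⊓ twGroup hG h3 h4 h19 f).subgroupOf (twGroup hG h3 h4 h19 f) ↔
        (x : GL D.Idx K) ∈ D.borelSubgroup K := by
    intro x
    rw [Subgroup.mem_subgroupOf, Subgroup.mem_inf]
    exact ⟨fun h => h.1, fun h => ⟨h, x.2⟩⟩
  -- nontrivial
  have hx0G : clsHom hG h3 h4 h19 f hc₀ (upperSL 1) ∈ twGroup hG h3 h4 h19 f :=
    upper_mem_twGroup hG h3 h4 h19 f hc₀ Adm.one
  have : Nontrivial ↥(twGroup hG h3 h4 h19 f) := by
    refine ⟨⟨⟨_, hx0G⟩, 1, ?_⟩⟩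
    intro h
    have h' : clsHom hG h3 h4 h19 f hc₀ (upperSL 1) = 1 := congrArg Subtype.val h
    rw [clsHom_upper] at h'
    have := xiHom_eq_one hG hT h3 h4 h7 h8 h19 h20 hc₀ h' 0 (h19.orbit c₀ hc₀).1
    rw [toAdd_ofAdd, pow_zero] at this
    exact one_ne_zero this
  have hnG : ∀ (c : ℕ × ℕ) (hc : c ∈ cls),
      clsHom hG h3 h4 h19 f hc antiSL ∈ twGroup hG h3 h4 h19 f :=
    fun c hc => anti_mem_twGroup hG h3 h4 h19 f hc
  have hnS : ∀ (c : ℕ × ℕ) (hc : c ∈ cls),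
      (⟨clsHom hG h3 h4 h19 f hc antiSL, hnG c hc⟩ : ↥(twGroup hG h3 h4 h19 f)) ∈ P.S := by
    intro c hc
    rw [hPS]
    exact ⟨c, hc, rfl⟩
  have hirr : P.Irreducible := by
    intro J hJ hJne hJc
    let I : ℕ × ℕ → Prop := fun c => ∃ hc : c ∈ cls,
      (⟨clsHom hG h3 h4 h19 f hc antiSL, hnG c hc⟩ : ↥(twGroup hG h3 h4 h19 f)) ∈ J
    obtain ⟨s, hsJ⟩ := hJne
    obtain ⟨s', hs'S, hs'J⟩ := hJc
    have hsS := hJ hsJ
    rw [hPS] at hsS hs'S
    obtain ⟨c, hc, hs⟩ := hsS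
    obtain ⟨c', hc', hs'⟩ := hs'S
    have hIc : I c := ⟨hc, by
      have : s = ⟨clsHom hG h3 h4 h19 f hc antiSL, hnG c hc⟩ := Subtype.ext hs
      rw [← this]; exact hsJ⟩
    have hIc' : ¬ I c' := by
      rintro ⟨_, h⟩
      apply hs'J
      have : s' = ⟨clsHom hG h3 h4 h19 f hc' antiSL, hnG c' hc'⟩ := Subtype.ext hs'
      rw [this]; exact h
    obtain ⟨k, hk, hflip⟩ := exists_flip chain (0, 0) I (hch1 c hc) (hch1 c' hc') hIc hIc'
    have hk1 : k < chain.length := by omega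
    have hk2 : k + 1 < chain.length := by omega
    have hacls : chain.getD k (0, 0) ∈ cls := by
      rw [List.getD_eq_getElem _ _ hk1]; exact hch2 _ (List.getElem_mem _)
    have hbcls : chain.getD (k + 1) (0, 0) ∈ cls := by
      rw [List.getD_eq_getElem _ _ hk2]; exact hch2 _ (List.getElem_mem _)
    obtain ⟨adj1, adj2⟩ := hch3 k hk
    set a := chain.getD k (0, 0) with ha
    set b := chain.getD (k + 1) (0, 0) with hb
    rcases hflip with ⟨hIa, hIb⟩ | ⟨hIa, hIb⟩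
    · obtain ⟨_, haJ⟩ := hIa
      have hbJ : (⟨clsHom hG h3 h4 h19 f hbcls antiSL, hnG b hbcls⟩ :
          ↥(twGroup hG h3 h4 h19 f)) ∉ J := fun h => hIb ⟨hbcls, h⟩
      refine ⟨_, haJ, _, ⟨hnS b hbcls, hbJ⟩, ?_⟩
      intro hmem
      rw [hPB, memB] at hmem
      exact ncls_comm_not_mem_borel hG hT h3 h4 h8 h19 f hacls hbcls adj1 hmem
    · obtain ⟨_, hbJ⟩ := hIb
      have haJ : (⟨clsHom hG h3 h4 h19 f hacls antiSL, hnG a hacls⟩ :
          ↥(twGroup hG h3 h4 h19 f)) ∉ J := fun h => hIa ⟨hacls, h⟩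
      refine ⟨_, hbJ, _, ⟨hnS a hacls, haJ⟩, ?_⟩
      intro hmem
      rw [hPB, memB] at hmem
      exact ncls_comm_not_mem_borel hG hT h3 h4 h8 h19 f hbcls hacls adj2 hmem
  have hsolv : Group.IsSolvable ↥P.B := by
    rw [hPB]
    have hBs : Group.IsSolvable ↥(D.borelSubgroup K) := borel_isSolvable (F := K) hG hT
    let φ : ↥((D.borelSubgroup K ⊓ twGroup hG h3 h4 h19 f).subgroupOf (twGroup hG h3 h4 h19 f)) →*
        ↥(D.borelSubgroup K) :=
      { toFun := fun x => ⟨((x : ↥(twGroup hG h3 h4 h19 f)) : GL D.Idx K), (memB x.1).mp x.2⟩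
        map_one' := rfl
        map_mul' := fun _ _ => rfl }
    apply solvable_of_solvable_injective (f := φ)
    intro x y hxy
    have := congrArg (fun z : ↥(D.borelSubgroup K) => (z : GL D.Idx K)) hxy
    exact Subtype.ext (Subtype.ext this)
  have hcore : P.B.normalCore = ⊥ := by
    rw [hPB]
    exact tw_normalCore_eq_bot hG hT h3 h4 h5 h6 h7 h8 h9 h18 h19 h20 f hwc hw0
  refine ⟨BN.isSimpleGroup_of_irreducible P hirr hsolv hperf hcore, ?_⟩
  intro hcomm
  have hbot : commutator ↥(twGroup hG h3 h4 h19 f) = ⊥ := by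
    rw [eq_bot_iff, commutator_def, Subgroup.commutator_le]
    intro a _ b _
    rw [Subgroup.mem_bot, commutatorElement_def]
    have := (isMulCommutative_iff.mp hcomm) a b
    rw [this]; group
  rw [hperf] at hbot
  exact top_ne_bot hbot

end simple

end Cfsg.Agent.Helper7.Chev
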