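import Mathlib
import Cfsg.Agent.Helper7.ChevTw14
import Cfsg.Agent.Helper7.ChevT18
import Cfsg.Agent.Helper7.ChevT5
import Cfsg.Agent.Helper7.ChevT6
import Cfsg.Agent.Helper7.ChevT7
import Cfsg.Agent.Helper7.ChevT9
import Cfsg.Prelude.Def_LieTwisted

set_option autoImplicit false
set_option linter.unusedSectionVars false
set_option linter.unusedVariables false

/-!
The twisted group `³D₄(q)`: the table facts and the identification with the group of the Prelude.
-/

namespace Cfsg.Agent.Helper7.Chev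

open Cfsg Cfsg.Lie Matrix

/-- The classes of fundamental roots of `D₄` under the triality automorphism. -/
abbrev clsD4 : List (ℕ × ℕ) := [(1, 1), (0, 3)]

set_option maxRecDepth 1000000 in
set_option maxHeartbeats 0 in
theorem T19_D4 : T19 chevD4 (fun i => [2, 1, 3, 0].getD i 0) (tabN t18s_D4a) clsD4 := by
  decide +kernel

set_option maxRecDepth 1000000 in
set_option maxHeartbeats 0 in
theorem T20fast_D4 : fastD4.T20 (fun i => [2, 1, 3, 0].getD i 0) clsD4 := by decide +kernel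

theorem T20_D4 : (tabOf chevD4).T20 (fun i => [2, 1, 3, 0].getD i 0) clsD4 :=
  tab_D4 ▸ T20fast_D4

/-- A word in the classes for the longest element. -/
abbrev w0clsD4 : List (ℕ × ℕ) := [(1, 1), (0, 3), (1, 1), (0, 3), (1, 1), (0, 3)]

theorem w0clsD4_mem : ∀ c ∈ w0clsD4, c ∈ clsD4 := by decide

set_option maxRecDepth 1000000 in
set_option maxHeartbeats 0 in
theorem W0clsfast_D4 :
    fastD4.W0ok (w0clsD4.flatMap (clsWord (fun i => [2, 1, 3, 0].getD i 0))) := by
  decide +kernel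

theorem W0cls_D4 :
    (tabOf chevD4).W0ok (w0clsD4.flatMap (clsWord (fun i => [2, 1, 3, 0].getD i 0))) :=
  tab_D4 ▸ W0clsfast_D4

theorem clsRoot_D4_10 : clsRoot chevD4 (fun i => [2, 1, 3, 0].getD i 0) 1 0 = d4p2 := by decide
theorem clsRoot_D4_00 : clsRoot chevD4 (fun i => [2, 1, 3, 0].getD i 0) 0 0 = d4p1 := by decide
theorem clsRoot_D4_01 : clsRoot chevD4 (fun i => [2, 1, 3, 0].getD i 0) 0 1 = d4p3 := by decide
theorem clsRoot_D4_02 : clsRoot chevD4 (fun i => [2, 1, 3, 0].getD i 0) 0 2 = d4p4 := by decide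
theorem neg_D4_p1 : chevD4.neg d4p1 = d4m1 := by decide
theorem neg_D4_p2 : chevD4.neg d4p2 = d4m2 := by decide
theorem neg_D4_p3 : chevD4.neg d4p3 = d4m3 := by decide
theorem neg_D4_p4 : chevD4.neg d4p4 = d4m4 := by decide

/-- The generating words of the Prelude are the words of the generators of the twisted group. -/
theorem d4Words_eq {K : Type*} [Field K] {q : ℕ} (f : K ≃+* K) (hf : ∀ t, f t = t ^ q)
    (hf3 : ∀ t, (((f : K →+* K)) ^ 3) t = t) :
    d4Words K q = twWords chevD4 (fun i => [2, 1, 3, 0].getD i 0) f clsD4 := by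
  have hff : ∀ t : K, f (f t) = t ^ (q ^ 2) := by
    intro t
    rw [hf, hf, ← pow_mul, ← sq]
  ext w
  unfold d4Words twWords
  constructor
  · rintro (⟨t, ht, r, hr, rfl⟩ | ⟨t, rs, hrs, rfl⟩)
    · have hadm : Adm f 1 t := (adm_one_iff f t).mpr ((hf t).trans ht)
      simp only [List.mem_cons, List.not_mem_nil, or_false] at hr
      rcases hr with rfl | rfl
      · exact ⟨(1, 1), by simp, t, hadm, Or.inl (by rw [upWord_one, clsRoot_D4_10])⟩
      · exact ⟨(1, 1), by simp, t, hadm, Or.inr (by rw [loWord_one, clsRoot_D4_10, neg_D4_p2])⟩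
    · have hadm : Adm f 3 t := hf3 t
      simp only [List.mem_cons, List.not_mem_nil, or_false] at hrs
      rcases hrs with rfl | rfl
      · exact ⟨(0, 3), by simp, t, hadm,
          Or.inl (by rw [upWord_three, clsRoot_D4_00, clsRoot_D4_01, clsRoot_D4_02, hff, hf])⟩
      · exact ⟨(0, 3), by simp, t, hadm,
          Or.inr (by rw [loWord_three, clsRoot_D4_00, clsRoot_D4_01, clsRoot_D4_02, neg_D4_p1,
            neg_D4_p3, neg_D4_p4, hff, hf])⟩
  · rintro ⟨c, hc, t, hadm, hw⟩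
    simp only [List.mem_cons, List.not_mem_nil, or_false] at hc
    rcases hc with rfl | rfl
    · left
      have ht : t ^ q = t := by rw [← hf]; exact (adm_one_iff f t).mp hadm
      rcases hw with rfl | rfl
      · exact ⟨t, ht, d4p2, by simp, by rw [upWord_one, clsRoot_D4_10]⟩
      · exact ⟨t, ht, d4m2, by simp, by rw [loWord_one, clsRoot_D4_10, neg_D4_p2]⟩
    · right
      rcases hw with rfl | rfl
      · exact ⟨t, (d4p1, d4p3, d4p4), by simp,
          by rw [upWord_three, clsRoot_D4_00, clsRoot_D4_01, clsRoot_D4_02, hff, hf]⟩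
      · exact ⟨t, (d4m1, d4m3, d4m4), by simp,
          by rw [loWord_three, clsRoot_D4_00, clsRoot_D4_01, clsRoot_D4_02, neg_D4_p1,
            neg_D4_p3, neg_D4_p4, hff, hf]⟩

/-- `³D₄(q)` is a twisted group in the sense of this development. -/
theorem twistedD4_eq {K : Type*} [Field K] [Fintype K] {q : ℕ} (hq : IsPrimePow q)
    (hK : Fintype.card K = q ^ 3) :
    ∃ f : K ≃+* K, (∀ t, f t = t ^ q) ∧ (∀ t, (((f : K →+* K)) ^ 3) t = t) ∧
      twistedD4 K q = twGroup good2_D4 T3_D4 T4_D4 T19_D4 f := by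
  obtain ⟨f, hf, hf3⟩ := exists_frobEquiv hq hK
  refine ⟨f, hf, hf3, ?_⟩
  rw [twGroup_eq_genSubgroup, ← d4Words_eq f hf hf3]
  rfl

set_option maxRecDepth 1000000 in
set_option maxHeartbeats 0 in
theorem ST_D4_1fast : fastD4.SingleTerm
    (fastD4.reflWord ([((1 : ℕ), (1 : ℕ)), (0, 3)].flatMap
      (clsWord (fun i => [2, 1, 3, 0].getD i 0))) (chevD4.simple 1)) (chevD4.simple 1)
    (fastD4.reflWord ([((0 : ℕ), (3 : ℕ))].flatMap
      (clsWord (fun i => [2, 1, 3, 0].getD i 0))) (chevD4.simple 1)) 1 := by decide +kernel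

theorem ST_D4_1 : (tabOf chevD4).SingleTerm
    ((tabOf chevD4).reflWord ([((1 : ℕ), (1 : ℕ)), (0, 3)].flatMap
      (clsWord (fun i => [2, 1, 3, 0].getD i 0))) (chevD4.simple 1)) (chevD4.simple 1)
    ((tabOf chevD4).reflWord ([((0 : ℕ), (3 : ℕ))].flatMap
      (clsWord (fun i => [2, 1, 3, 0].getD i 0))) (chevD4.simple 1)) 1 :=
  tab_D4 ▸ ST_D4_1fast

/-- `³D₄(q)` is perfect. -/
theorem twD4_perfect {K : Type*} [Field K] [Fintype K] (hK4 : 4 ≤ Fintype.card K) (f : K ≃+* K)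
    (hf3 : ∀ t, (((f : K →+* K)) ^ 3) t = t) :
    commutator ↥(twGroup good2_D4 T3_D4 T4_D4 T19_D4 f) = ⊤ := by
  obtain ⟨a, ha0, ha1⟩ := exists_sq_ne_one hK4
  have hup : ∀ (c : ℕ × ℕ) (hc : c ∈ clsD4) (t : K), Adm f c.2 t →
      clsHom good2_D4 T3_D4 T4_D4 T19_D4 f hc (upperSL t) ∈
        twDer good2_D4 T3_D4 T4_D4 T19_D4 f := by
    intro c hc t ht
    have hc' := hc
    simp only [List.mem_cons, List.not_mem_nil, or_false] at hc'
    rcases hc' with rfl | rfl
    · exact upper_mem_twDer_of_comm good2_D4 T3_D4 T4_D4 T19_D4 f hc (by decide)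
        (wa := [(0, 3)]) (wb := [(1, 1), (0, 3)]) (by decide) (by decide) ST_D4_1 (Or.inl rfl) ht
    · exact upper_mem_twDer_of_torus good2_D4 T3_D4 T4_D4 T19_D4 f hc ha0 ha1 (hf3 a) ht
  apply commutator_eq_top_of_le_twDer
  change Subgroup.closure (twGen good2_D4 T3_D4 T4_D4 T19_D4 f) ≤ _
  rw [Subgroup.closure_le]
  rintro g ⟨c, hc, t, ht, rfl | rfl⟩
  · exact hup c hc t ht
  · exact lower_mem_twDer_of_upper good2_D4 T3_D4 T4_D4 T19_D4 f hc (hup c hc (-t) ht.neg)

set_option maxRecDepth 1000000 in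
set_option maxHeartbeats 0 in
theorem TwChainfast_D4 : fastD4.TwChain (fun i => [2, 1, 3, 0].getD i 0) clsD4
    [(1, 1), (0, 3)] := by decide +kernel

theorem TwChain_D4 : (tabOf chevD4).TwChain (fun i => [2, 1, 3, 0].getD i 0) clsD4
    [(1, 1), (0, 3)] := tab_D4 ▸ TwChainfast_D4

/-- `³D₄(q)` is simple. -/
theorem twD4_simple {K : Type*} [Field K] [Fintype K] (hK4 : 4 ≤ Fintype.card K) (f : K ≃+* K)
    (hf3 : ∀ t, (((f : K →+* K)) ^ 3) t = t) :
    IsSimpleGroup ↥(twGroup good2_D4 T3_D4 T4_D4 T19_D4 f) ∧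
      ¬ IsMulCommutative ↥(twGroup good2_D4 T3_D4 T4_D4 T19_D4 f) :=
  tw_isSimpleGroup good2_D4 T0_D4 T3_D4 T4_D4 T5_D4 T6_D4 T7_D4 T8_D4 T9_D4 T18_D4a T19_D4 T20_D4 f
    TwChain_D4 w0clsD4_mem W0cls_D4 (c₀ := (1, 1)) (by decide) (twD4_perfect hK4 f hf3)

end Cfsg.Agent.Helper7.Chev
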