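import Mathlib

set_option autoImplicit false

/-!
The word of `n_a⁻¹ n_b⁻¹ n_a⁻¹ n_b⁻¹ · x_S(1,0) · y_S(0,1) · x_S(1,1)` in `F₄`.
-/

namespace Cfsg.Agent.Helper7.Chev

/-- The word of `n_a⁻¹ n_b⁻¹ n_a⁻¹ n_b⁻¹ · x_S(1,0) · y_S(0,1) · x_S(1,1)`. -/
def f4N2Word : List (ℕ × ℤ) :=
  [(27, -1), (20, 1), (27, -1), (25, -1), (22, 1), (25, -1), (27, -1), (20, 1), (27, -1), (25, -1), (22, 1), (25, -1),
    (27, 1), (25, 1), (28, 1), (19, 1), (17, 1), (27, 1), (25, 1), (30, 1)]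

end Cfsg.Agent.Helper7.Chev
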