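import Mathlib
import Cfsg.Agent.Helper7.ChevIso4
import Cfsg.Agent.Helper7.ChevPhi
import Cfsg.Agent.Helper7.ChevRank1

set_option autoImplicit false
set_option linter.unusedSectionVars false
set_option linter.unusedVariables false

/-!
Words in the root elements with integral parameters: the matrix of such a word is the image of a matrix of integers,
which is computed from the tables; a check on the tables that it is diagonal modulo `p`.
-/

namespace Cfsg.Agent.Helper7.Chev

open Cfsg Cfsg.Lie Matrix Cfsg.Agent.Helper7.Iso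

/-- The value of a list of monomials at an integer. -/
def evalLZ (L : List (ℕ × ℤ)) (z : ℤ) : ℤ := (L.map fun km => km.2 * z ^ km.1).sum

theorem evalL_intCast {F : Type*} [Field F] (L : List (ℕ × ℤ)) (z : ℤ) :
    evalL L ((z : ℤ) : F) = ((evalLZ L z : ℤ) : F) := by
  unfold evalL evalLZ
  induction L with
  | nil => simp
  | cons a L ih =>
    rw [List.map_cons, List.sum_cons, List.map_cons, List.sum_cons, ih]
    push_cast
    rfl

theorem zip_map_self {α β : Type*} (l : List α) (f : α → β) :
    l.zip (l.map f) = l.map fun a => (a, f a) := by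
  induction l with
  | nil => rfl
  | cons a l ih => simp [ih]

theorem list_range_sum_fin {M : Type*} [AddCommMonoid M] (n : ℕ) (f : ℕ → M) :
    ((List.range n).map f).sum = ∑ i : Fin n, f i.val := by
  rw [← Finset.sum_range (fun i => f i)]
  induction n with
  | zero => simp
  | succ n ih => rw [List.range_succ, List.map_append, List.sum_append, ih, Finset.sum_range_succ]; simp

namespace Tab

variable (T : Tab)

/-- The entries of `x_r(z)` for an integer `z`. -/
def xZ (r : ℕ) (z : ℤ) (i j : ℕ ⊕ ℕ) : ℤ := evalLZ (T.entry r i j) z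

/-- The rows of `x_r(z)`. -/
def rowsZ (r : ℕ) (z : ℤ) : List (List ℤ) :=
  T.idxList.map fun i => T.idxList.map fun j => T.xZ r z i j

/-- The scalar product of two lists. -/
def dotZ (a b : List ℤ) : ℤ := ((a.zip b).map fun p => p.1 * p.2).sum

/-- `x_r(z)` applied to a vector, as lists. -/
def actZ (r : ℕ) (z : ℤ) (v : List ℤ) : List ℤ := (T.rowsZ r z).map fun row => dotZ row v

/-- `x_r(z)` applied to a vector, as functions. -/
def actF (r : ℕ) (z : ℤ) (f : ℕ ⊕ ℕ → ℤ) : ℕ ⊕ ℕ → ℤ :=
  fun i => (T.idxList.map fun j => T.xZ r z i j * f j).sum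

theorem actZ_map (r : ℕ) (z : ℤ) (f : ℕ ⊕ ℕ → ℤ) :
    T.actZ r z (T.idxList.map f) = T.idxList.map (T.actF r z f) := by
  unfold actZ rowsZ
  rw [List.map_map]
  apply List.map_congr_left
  intro i _
  simp only [Function.comp_apply, dotZ, actF]
  rw [List.zip_map', List.map_map]
  rfl

/-- A word applied to a vector, as lists. -/
def wordActZ (w : List (ℕ × ℤ)) (v : List ℤ) : List ℤ := w.foldr (fun p v => T.actZ p.1 p.2 v) v

/-- A word applied to a vector, as functions. -/
def wordActF (w : List (ℕ × ℤ)) (f : ℕ ⊕ ℕ → ℤ) : ℕ ⊕ ℕ → ℤ :=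
  w.foldr (fun p f => T.actF p.1 p.2 f) f

theorem wordActZ_map (w : List (ℕ × ℤ)) (f : ℕ ⊕ ℕ → ℤ) :
    T.wordActZ w (T.idxList.map f) = T.idxList.map (T.wordActF w f) := by
  induction w with
  | nil => rfl
  | cons p w ih =>
    change T.actZ p.1 p.2 (T.wordActZ w (T.idxList.map f)) = _
    rw [ih, actZ_map]
    rfl

/-- The basis vectors. -/
def deltaZ (j : ℕ ⊕ ℕ) : ℕ ⊕ ℕ → ℤ := fun i => if i = j then 1 else 0

/-- The matrix of the word is diagonal modulo `p`, with the diagonal `d`. -/
def WordDiag (p : ℕ) (w : List (ℕ × ℤ)) (d : ℕ ⊕ ℕ → ℤ) : Prop :=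
  ∀ j ∈ T.idxList, ∀ iv ∈ T.idxList.zip (T.wordActZ w (T.idxList.map (deltaZ j))),
    ((p : ℕ) : ℤ) ∣ iv.2 - (if iv.1 = j then d j else 0)

instance (p : ℕ) (w : List (ℕ × ℤ)) (d : ℕ ⊕ ℕ → ℤ) : Decidable (T.WordDiag p w d) := by
  unfold WordDiag; infer_instance

theorem WordDiag.apply {p : ℕ} {w : List (ℕ × ℤ)} {d : ℕ ⊕ ℕ → ℤ} (h : T.WordDiag p w d)
    {i j : ℕ ⊕ ℕ} (hi : i ∈ T.idxList) (hj : j ∈ T.idxList) :
    ((p : ℕ) : ℤ) ∣ T.wordActF w (deltaZ j) i - (if i = j then d j else 0) := by
  have h1 := h j hj (i, T.wordActF w (deltaZ j) i) (by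
    rw [wordActZ_map, zip_map_self]
    exact List.mem_map.mpr ⟨i, hi, rfl⟩)
  exact h1

end Tab

variable {D : ChevalleyDatum} {F : Type*} [Field F]

/-- A sum over the list of the coordinates. -/
theorem sum_idxList (g : ℕ ⊕ ℕ → F) :
    ((tabOf D).idxList.map g).sum = ∑ k : D.Idx, g (raw D k) := by
  unfold Tab.idxList
  rw [List.map_append, List.sum_append, List.map_map, List.map_map, Fintype.sum_sum_type]
  congr 1
  · exact list_range_sum_fin D.rank (g ∘ Sum.inl)
  · exact list_range_sum_fin D.nroots (g ∘ Sum.inr)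

/-- The word with the parameters in the field. -/
def castWord (F : Type*) [Field F] (w : List (ℕ × ℤ)) : List (ℕ × F) := w.map fun q => (q.1, ((q.2 : ℤ) : F))

/-- The entries of the matrix of a word with integral parameters. -/
theorem wordMat_castWord_apply (hG : Good1 D) (w : List (ℕ × ℤ)) (hw : ∀ q ∈ w, q.1 < D.nroots)
    (i j : D.Idx) :
    D.wordMat F (castWord F w) i j =
      (((tabOf D).wordActF w (Tab.deltaZ (raw D j)) (raw D i) : ℤ) : F) := by
  induction w generalizing i with
  | nil =>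
    unfold castWord
    rw [List.map_nil, wordMat_nil, Matrix.one_apply]
    change _ = ((Tab.deltaZ (raw D j) (raw D i) : ℤ) : F)
    unfold Tab.deltaZ
    by_cases h : i = j
    · rw [if_pos h, if_pos (congrArg _ h)]; simp
    · rw [if_neg h, if_neg (fun h' => h (raw_injective h'))]; simp
  | cons q w ih =>
    have hq : q.1 < D.nroots := hw q List.mem_cons_self
    have hw' : ∀ q' ∈ w, q'.1 < D.nroots := fun q' h => hw q' (List.mem_cons_of_mem _ h)
    have e : castWord F (q :: w) = (q.1, ((q.2 : ℤ) : F)) :: castWord F w := rfl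
    rw [e, wordMat_cons, Matrix.mul_apply]
    change _ = (((tabOf D).actF q.1 q.2 ((tabOf D).wordActF w (Tab.deltaZ (raw D j))) (raw D i) : ℤ) : F)
    unfold Tab.actF
    rw [Int.cast_list_sum, List.map_map, sum_idxList]
    apply Finset.sum_congr rfl
    intro k _
    simp only [Function.comp_apply]
    rw [ih hw' k, x_of_lt D F hq, xMat_apply_eq_evalL ⟨q.1, hq⟩ (hG.keysNodup hq), evalL_intCast]
    push_cast
    rfl

/-- The matrix of a word with integral parameters which is diagonal modulo the characteristic. -/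
theorem wordMat_castWord_diagonal (hG : Good1 D) {p : ℕ} [CharP F p] (w : List (ℕ × ℤ))
    (hw : ∀ q ∈ w, q.1 < D.nroots) (d : ℕ ⊕ ℕ → ℤ) (h : (tabOf D).WordDiag p w d) :
    D.wordMat F (castWord F w) = Matrix.diagonal fun i => ((d (raw D i) : ℤ) : F) := by
  ext i j
  rw [wordMat_castWord_apply hG w hw, Matrix.diagonal_apply]
  have h1 := h.apply (tabOf D) (raw_mem_idxList i) (raw_mem_idxList j)
  have h2 := (CharP.intCast_eq_zero_iff F p _).mpr h1
  rw [Int.cast_sub, sub_eq_zero] at h2
  rw [h2]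
  by_cases hij : i = j
  · rw [if_pos hij, if_pos (congrArg _ hij), hij]
  · rw [if_neg hij, if_neg (fun h' => hij (raw_injective h'))]; simp

end Cfsg.Agent.Helper7.Chev
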