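import Mathlib
import Cfsg.Agent.Helper7.ChevWordZ

set_option autoImplicit false
set_option linter.unusedSectionVars false
set_option linter.unusedVariables false

/-!
Words in the root elements with integral parameters: the check that the matrix is diagonal modulo `p`, column by
column.
-/

namespace Cfsg.Agent.Helper7.Chev

open Cfsg Cfsg.Lie Matrix

namespace Tab

variable (T : Tab)

/-- The columns `js` of the matrix of the word are those of the diagonal matrix `d` modulo `p`. -/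
def WordDiagCols (p : ℕ) (w : List (ℕ × ℤ)) (d : ℕ ⊕ ℕ → ℤ) (js : List (ℕ ⊕ ℕ)) : Prop :=
  ∀ j ∈ js, ∀ iv ∈ T.idxList.zip (T.wordActZ w (T.idxList.map (deltaZ j))),
    ((p : ℕ) : ℤ) ∣ iv.2 - (if iv.1 = j then d j else 0)

instance (p : ℕ) (w : List (ℕ × ℤ)) (d : ℕ ⊕ ℕ → ℤ) (js : List (ℕ ⊕ ℕ)) :
    Decidable (T.WordDiagCols p w d js) := by
  unfold WordDiagCols; infer_instance

theorem wordDiagCols_append {p : ℕ} {w : List (ℕ × ℤ)} {d : ℕ ⊕ ℕ → ℤ} {js js' : List (ℕ ⊕ ℕ)}
    (h : T.WordDiagCols p w d js) (h' : T.WordDiagCols p w d js') : T.WordDiagCols p w d (js ++ js') := by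
  intro j hj
  rcases List.mem_append.mp hj with h1 | h1
  · exact h j h1
  · exact h' j h1

theorem wordDiag_of_cols {p : ℕ} {w : List (ℕ × ℤ)} {d : ℕ ⊕ ℕ → ℤ} {js : List (ℕ ⊕ ℕ)}
    (h : T.WordDiagCols p w d js) (hjs : ∀ j ∈ T.idxList, j ∈ js) : T.WordDiag p w d :=
  fun j hj => h j (hjs j hj)

end Tab

end Cfsg.Agent.Helper7.Chev
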