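import Mathlib
import Cfsg.Agent.Helper7.ChevWordZ2
import Cfsg.Agent.Helper7.ChevTabF4
import Cfsg.Agent.Helper7.ChevF4N2w

set_option autoImplicit false

/-!
The element `n_b n_a n_b n_a` of `N` in `F₄` in characteristic 2 as a word in the generators of the twisted group over
the prime field: a check on the tables, column 0.
-/

namespace Cfsg.Agent.Helper7.Chev

open Cfsg Cfsg.Lie Matrix

set_option maxRecDepth 1000000 in
theorem f4N2_col0 : fastF4.WordDiagCols 2 f4N2Word (fun _ => 1) [Sum.inl 0] := by decide +kernel

end Cfsg.Agent.Helper7.Chev
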