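import Mathlib
import Cfsg.Agent.Helper7.ChevF4N2k0
import Cfsg.Agent.Helper7.ChevF4N2k1
import Cfsg.Agent.Helper7.ChevF4N2k2
import Cfsg.Agent.Helper7.ChevF4N2k3
import Cfsg.Agent.Helper7.ChevF4N2k4
import Cfsg.Agent.Helper7.ChevF4N2k5
import Cfsg.Agent.Helper7.ChevF4N2k6
import Cfsg.Agent.Helper7.ChevF4N2k7
import Cfsg.Agent.Helper7.ChevF4N2k8
import Cfsg.Agent.Helper7.ChevF4N2k9
import Cfsg.Agent.Helper7.ChevF4N2k10
import Cfsg.Agent.Helper7.ChevF4N2k11
import Cfsg.Agent.Helper7.ChevF4N2k12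
import Cfsg.Agent.Helper7.ChevF4N2k13
import Cfsg.Agent.Helper7.ChevF4N2k14
import Cfsg.Agent.Helper7.ChevF4N2k15
import Cfsg.Agent.Helper7.ChevF4N2k16
import Cfsg.Agent.Helper7.ChevF4N2k17
import Cfsg.Agent.Helper7.ChevF4N2k18
import Cfsg.Agent.Helper7.ChevF4N2k19
import Cfsg.Agent.Helper7.ChevF4N2k20
import Cfsg.Agent.Helper7.ChevF4N2k21
import Cfsg.Agent.Helper7.ChevF4N2k22
import Cfsg.Agent.Helper7.ChevF4N2k23
import Cfsg.Agent.Helper7.ChevF4N2k24
import Cfsg.Agent.Helper7.ChevF4N2k25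
import Cfsg.Agent.Helper7.ChevF4N2k26
import Cfsg.Agent.Helper7.ChevF4N2k27
import Cfsg.Agent.Helper7.ChevF4N2k28
import Cfsg.Agent.Helper7.ChevF4N2k29
import Cfsg.Agent.Helper7.ChevF4N2k30
import Cfsg.Agent.Helper7.ChevF4N2k31
import Cfsg.Agent.Helper7.ChevF4N2k32
import Cfsg.Agent.Helper7.ChevF4N2k33
import Cfsg.Agent.Helper7.ChevF4N2k34
import Cfsg.Agent.Helper7.ChevF4N2k35
import Cfsg.Agent.Helper7.ChevF4N2k36
import Cfsg.Agent.Helper7.ChevF4N2k37
import Cfsg.Agent.Helper7.ChevF4N2k38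
import Cfsg.Agent.Helper7.ChevF4N2k39
import Cfsg.Agent.Helper7.ChevF4N2k40
import Cfsg.Agent.Helper7.ChevF4N2k41
import Cfsg.Agent.Helper7.ChevF4N2k42
import Cfsg.Agent.Helper7.ChevF4N2k43
import Cfsg.Agent.Helper7.ChevF4N2k44
import Cfsg.Agent.Helper7.ChevF4N2k45
import Cfsg.Agent.Helper7.ChevF4N2k46
import Cfsg.Agent.Helper7.ChevF4N2k47
import Cfsg.Agent.Helper7.ChevF4N2k48
import Cfsg.Agent.Helper7.ChevF4N2k49
import Cfsg.Agent.Helper7.ChevF4N2k50
import Cfsg.Agent.Helper7.ChevF4N2k51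

set_option autoImplicit false

/-!
The element `n_b n_a n_b n_a` of `N` in `F₄` in characteristic 2 as a word in the generators of the twisted group over
the prime field: the check on the tables.
-/

namespace Cfsg.Agent.Helper7.Chev

open Cfsg Cfsg.Lie Matrix

set_option maxRecDepth 100000 in
theorem f4N2_fast : fastF4.WordDiag 2 f4N2Word (fun _ => 1) := by
  have h := fastF4.wordDiagCols_append f4N2_col0 (fastF4.wordDiagCols_append f4N2_col1 (fastF4.wordDiagCols_append f4N2_col2 (fastF4.wordDiagCols_append f4N2_col3 (fastF4.wordDiagCols_append f4N2_col4 (fastF4.wordDiagCols_append f4N2_col5 (fastF4.wordDiagCols_append f4N2_col6 (fastF4.wordDiagCols_append f4N2_col7 (fastF4.wordDiagCols_append f4N2_col8 (fastF4.wordDiagCols_append f4N2_col9 (fastF4.wordDiagCols_append f4N2_col10 (fastF4.wordDiagCols_append f4N2_col11 (fastF4.wordDiagCols_append f4N2_col12 (fastF4.wordDiagCols_append f4N2_col13 (fastF4.wordDiagCols_append f4N2_col14 (fastF4.wordDiagCols_append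 f4N2_col15 (fastF4.wordDiagCols_append f4N2_col16 (fastF4.wordDiagCols_append f4N2_col17 (fastF4.wordDiagCols_append f4N2_col18 (fastF4.wordDiagCols_append f4N2_col19 (fastF4.wordDiagCols_append f4N2_col20 (fastF4.wordDiagCols_append f4N2_col21 (fastF4.wordDiagCols_append f4N2_col22 (fastF4.wordDiagCols_append f4N2_col23 (fastF4.wordDiagCols_append f4N2_col24 (fastF4.wordDiagCols_append f4N2_col25 (fastF4.wordDiagCols_append f4N2_col26 (fastF4.wordDiagCols_append f4N2_col27 (fastF4.wordDiagCols_append f4N2_col28 (fastF4.wordDiagCols_append f4N2_col29 (fastF4.wordDiagCols_append f4N2_col30 (fastF4.wordDiagCols_append f4N2_col31 (fastF4.wordDiagCols_append f4N2_col32 (fastF4.wordDiagCols_append f4N2_col33 (fastF4.wordDiagCols_append f4N2_col34 (fastF4.wordDiagCols_append f4N2_col35 (fastF4.wordDiagCols_append f4N2_col36 (fastF4.wordDiagCols_append f4N2_col37 (fastF4.wordDiagCols_append f4N2_col38 (fastF4.wordDiagCols_append f4N2_col39 (fastF4.wordDiagCols_append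 f4N2_col40 (fastF4.wordDiagCols_append f4N2_col41 (fastF4.wordDiagCols_append f4N2_col42 (fastF4.wordDiagCols_append f4N2_col43 (fastF4.wordDiagCols_append f4N2_col44 (fastF4.wordDiagCols_append f4N2_col45 (fastF4.wordDiagCols_append f4N2_col46 (fastF4.wordDiagCols_append f4N2_col47 (fastF4.wordDiagCols_append f4N2_col48 (fastF4.wordDiagCols_append f4N2_col49 (fastF4.wordDiagCols_append f4N2_col50 (f4N2_col51)))))))))))))))))))))))))))))))))))))))))))))))))))
  have h2 : fastF4.WordDiagCols 2 f4N2Word (fun _ => 1) fastF4.idxList := h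
  exact fastF4.wordDiag_of_cols h2 (fun j hj => hj)

theorem f4N2_F4 : (tabOf chevF4).WordDiag 2 f4N2Word (fun _ => 1) := tab_F4 ▸ f4N2_fast

end Cfsg.Agent.Helper7.Chev
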