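import Mathlib
import Cfsg.Agent.Helper7.ChevRee12
import Cfsg.Agent.Helper7.ChevIso7

set_option autoImplicit false
set_option linter.unusedSectionVars false
set_option linter.unusedVariables false

/-!
The twisting automorphism of `F₄` over a field of characteristic 2 on which `t ↦ t ^ 2 ^ (2m+1)` is the identity:
the composite of the field automorphism `θ : t ↦ t ^ 2 ^ m` and the special isogeny.  The root elements of `F₄`.
-/

namespace Cfsg.Agent.Helper7.Chev

open Cfsg Cfsg.Lie Matrix

variable {K : Type*} [Field K] [CharP K 2]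

/-- `θ : t ↦ t ^ 2 ^ m`. -/
noncomputable def f4Th (K : Type*) [Field K] [CharP K 2] (m : ℕ) : K →+* K := iterateFrobenius K 2 m

theorem f4Th_apply (m : ℕ) (t : K) : f4Th K m t = t ^ 2 ^ m := iterateFrobenius_def 2 m t

theorem f4Th_succ (m : ℕ) (t : K) : f4Th K (m + 1) t = (f4Th K m t) ^ 2 := by
  rw [f4Th_apply, f4Th_apply, ← pow_mul, pow_succ]

theorem f4Th_succ' (m : ℕ) (t : K) : f4Th K (m + 1) t = f4Th K m (t ^ 2) := by
  rw [f4Th_succ, map_pow]

theorem two_eq_zero' : (2 : K) = 0 := by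
  have := CharP.cast_eq_zero K 2
  exact_mod_cast this

theorem add_self_char2 (x : K) : x + x = 0 := by
  have h := two_eq_zero' (K := K)
  linear_combination x * h

theorem neg_eq_self_char2 (x : K) : -x = x := by
  have h := add_self_char2 x
  linear_combination -h

section tau

variable {m : ℕ} (hm : ∀ t : K, t ^ 2 ^ (2 * m + 1) = t)

include hm in
theorem f4Th_succ_f4Th (t : K) : f4Th K (m + 1) (f4Th K m t) = t := by
  rw [f4Th_apply, f4Th_apply, ← pow_mul, ← pow_add]
  have : m + (m + 1) = 2 * m + 1 := by ring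
  rw [this]
  exact hm t

include hm in
theorem f4Th_f4Th_succ (t : K) : f4Th K m (f4Th K (m + 1) t) = t := by
  rw [f4Th_apply, f4Th_apply, ← pow_mul, ← pow_add]
  have : m + 1 + m = 2 * m + 1 := by ring
  rw [this]
  exact hm t

include hm in
theorem f4_perfect (x : K) : ∃ y : K, y ^ 2 = x := by
  refine ⟨x ^ 2 ^ (2 * m), ?_⟩
  rw [← pow_mul, ← pow_succ]
  exact hm x

include hm in
theorem f4Th_bijective : Function.Bijective (f4Th K m) :=
  ⟨(f4Th K m).injective, fun x => ⟨f4Th K (m + 1) x, f4Th_f4Th_succ hm x⟩⟩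

include hm in
theorem f4Th_succ_bijective : Function.Bijective (f4Th K (m + 1)) :=
  ⟨(f4Th K (m + 1)).injective, fun x => ⟨f4Th K m x, f4Th_succ_f4Th hm x⟩⟩

/-- `θ` as an automorphism of the field. -/
noncomputable def f4ThEquiv : K ≃+* K := RingEquiv.ofBijective (f4Th K m) (f4Th_bijective hm)

theorem f4ThEquiv_apply (t : K) : f4ThEquiv hm t = f4Th K m t := rfl

/-- The twisting automorphism of `F₄`. -/
noncomputable def f4Tau : ↥(chevF4.group K) ≃* ↥(chevF4.group K) :=
  (chevFieldAut chevF4 (f4ThEquiv hm)).trans (isoF4 (f4_perfect hm))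

/-- The field endomorphisms of the twisting automorphism: `t ↦ t ^ (2θ)` on the short roots and `θ` on the long
roots. -/
noncomputable def f4F (K : Type*) [Field K] [CharP K 2] (m : ℕ) (r : ℕ) : K →+* K :=
  if isoSR_F4 r then f4Th K (m + 1) else f4Th K m

set_option maxRecDepth 100000 in
theorem f4Tau_rootAut : RootAut chevF4 K (f4Tau hm) isoRho_F4 (f4F K m) where
  lt := by
    intro r hr
    exact (T22_F4.2 r hr).1
  invol := by
    intro r hr
    exact (T22_F4.2 r hr).2.1
  pos := by decide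
  neg := by decide
  fneg := by
    intro r hr
    unfold f4F
    have : isoSR_F4 (chevF4.neg r) = isoSR_F4 r := by
      revert r
      decide
    rw [this]
  surj := by
    intro r hr
    unfold f4F
    split_ifs
    · exact (f4Th_succ_bijective hm).2
    · exact (f4Th_bijective hm).2
  map_x := by
    intro g r t hr hg
    have h1 : (((chevFieldAut chevF4 (f4ThEquiv hm) g : ↥(chevF4.group K)) : GL chevF4.Idx K) :
        Matrix chevF4.Idx chevF4.Idx K) = chevF4.x K r (f4Th K m t) := by
      rw [chevFieldAut_coe, hg, x_of_lt chevF4 K hr, x_of_lt chevF4 K hr]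
      exact xMat_map chevF4 ((f4ThEquiv hm : K ≃+* K) : K →+* K) ⟨r, hr⟩ t
    have h2 := isoF4_apply_x (f4_perfect hm) hr h1
    change (((isoF4 (f4_perfect hm) (chevFieldAut chevF4 (f4ThEquiv hm) g) : ↥(chevF4.group K)) :
      GL chevF4.Idx K) : Matrix chevF4.Idx chevF4.Idx K) = _
    rw [h2]
    congr 1
    unfold f4F
    split_ifs
    · rw [f4Th_succ]
    · rw [pow_one]

end tau

/-! ### The root elements of `F₄` -/

/-- The root elements of `F₄`. -/
noncomputable def fx (K : Type*) [Field K] (r : Fin 48) (t : K) : GL chevF4.Idx K :=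
  xGL good3_F4.toGood1 (r := r.val) r.2 t

omit [CharP K 2] in
theorem fx_coe (r : Fin 48) (t : K) :
    ((fx K r t : GL chevF4.Idx K) : Matrix chevF4.Idx chevF4.Idx K) = chevF4.x K r.val t :=
  xGL_coe _ _ _

omit [CharP K 2] in
theorem fx_add (r : Fin 48) (t u : K) : fx K r t * fx K r u = fx K r (t + u) :=
  xGL_mul _ _ _ _

omit [CharP K 2] in
theorem fx_zero (r : Fin 48) : fx K r (0 : K) = 1 := xGL_zero _ _

omit [CharP K 2] in
theorem fx_inv (r : Fin 48) (t : K) : (fx K r t)⁻¹ = fx K r (-t) := xGL_inv _ _ _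

theorem fx_inv' (r : Fin 48) (t : K) : (fx K r t)⁻¹ = fx K r t := by
  rw [fx_inv, neg_eq_self_char2]

omit [CharP K 2] in
theorem fx_mem_group (r : Fin 48) (t : K) : fx K r t ∈ chevF4.group K :=
  xGL_mem_group good3_F4.toGood2 r.2 t

omit [CharP K 2] in
theorem xGL'_eq_fx (r : Fin 48) (t : K) : xGL' good3_F4.toGood1 (r.val, t) = fx K r t := by
  unfold xGL' fx
  have h : (r.val, t).1 < chevF4.nroots := r.2
  rw [dif_pos h]

omit [CharP K 2] in
theorem f4_isPosRoot (r : ℕ) : chevF4.IsPosRoot r ↔ 24 ≤ r ∧ r < 48 := by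
  constructor
  · intro h
    exact ⟨(isPosRoot_iff T0_F4 h.1).mp h, h.1⟩
  · intro h
    exact (isPosRoot_iff T0_F4 h.2).mpr h.1

omit [CharP K 2] in
theorem f4_isNegRoot (r : ℕ) : chevF4.IsNegRoot r ↔ r < 24 := by
  constructor
  · intro h
    exact (isNegRoot_iff T0_F4 h.1).mp h
  · intro h
    exact (isNegRoot_iff T0_F4 (by change r < 48; omega)).mpr h

omit [CharP K 2] in
theorem fx_mem_pos {r : Fin 48} (hr : 24 ≤ r.val) (t : K) : fx K r t ∈ chevF4.posUnipotent K :=
  Subgroup.subset_closure ⟨r.val, t, (f4_isPosRoot r.val).mpr ⟨hr, r.2⟩, fx_coe r t⟩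

omit [CharP K 2] in
theorem fx_mem_neg {r : Fin 48} (hr : r.val < 24) (t : K) : fx K r t ∈ chevF4.negUnipotent K :=
  Subgroup.subset_closure ⟨r.val, t, (f4_isNegRoot r.val).mpr hr, fx_coe r t⟩

/-- Root elements of `F₄` whose roots do not add up to a root commute. -/
theorem fx_commute_of_nil {r s : Fin 48} (hsr : s.val ≠ r.val) (hsn : s.val ≠ chevF4.neg r.val)
    (h : (tabOf chevF4).commTerms r.val s.val = []) (t u : K) : Commute (fx K r t) (fx K s u) :=
  xGL_commute_of_terms_nil good3_F4.toGood2 good3_F4.t3 good3_F4.t4 r.2 s.2 hsr hsn h t u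

section tau

variable {m : ℕ} (hm : ∀ t : K, t ^ 2 ^ (2 * m + 1) = t)

/-- The twisting automorphism on the root elements. -/
theorem f4Tau_fx (r : Fin 48) (t : K) (r' : Fin 48) (hr' : isoRho_F4 r.val = r'.val) :
    extFun (f4Tau hm) (fx K r t) = fx K r' (f4F K m r.val t) := by
  unfold fx
  rw [(f4Tau_rootAut hm).map_xGL good3_F4.toGood2 r.2 t]
  exact xGL_congr' good3_F4.toGood1 hr' _ _ _

end tau

end Cfsg.Agent.Helper7.Chev
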