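import Mathlib
import Cfsg.Agent.Helper7.ChevF4a
import Cfsg.Agent.Helper7.ChevRee3
import Cfsg.Prelude.Def_LieTwisted

set_option autoImplicit false
set_option linter.unusedSectionVars false
set_option linter.unusedVariables false

/-!
The twisted group of type `F₄`: the generators are fixed by the twisting automorphism.
-/

namespace Cfsg.Agent.Helper7.Chev

open Cfsg Cfsg.Lie Matrix

variable {K : Type*} [Field K] [CharP K 2]

set_option maxRecDepth 100000 in
theorem f4_commTerms_27_25 : chevF4.commTerms 27 25 = [(28, -1, 1, 1), (30, -1, 2, 1)] := by decide +kernel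

set_option maxRecDepth 100000 in
theorem f4_commTerms_20_22 : chevF4.commTerms 20 22 = [(19, 1, 1, 1), (17, -1, 2, 1)] := by decide +kernel

set_option maxRecDepth 100000 in
theorem f4_commTerms_27_28 : chevF4.commTerms 27 28 = [(30, 2, 1, 1)] := by decide +kernel

set_option maxRecDepth 100000 in
theorem f4_commTerms_20_19 : chevF4.commTerms 20 19 = [(17, -2, 1, 1)] := by decide +kernel

set_option maxRecDepth 100000 in
theorem f4_commTerms_nil : ∀ p ∈ [(27, 30), (25, 28), (25, 30), (28, 30), (20, 17), (22, 19), (22, 17), (19, 17),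
    (33, 24), (14, 23)], (tabOf chevF4).commTerms p.1 p.2 = [] := by
  rw [tab_F4]
  decide +kernel

set_option maxRecDepth 1000000 in
theorem f4_nil_ne : ∀ r s : Fin 48, (r.val, s.val) ∈ [(27, 30), (25, 28), (25, 30), (28, 30), (20, 17), (22, 19),
    (22, 17), (19, 17), (33, 24), (14, 23)] → s.val ≠ r.val ∧ s.val ≠ chevF4.neg r.val := by decide +kernel

theorem fx_commute_nil {r s : Fin 48}
    (h : (r.val, s.val) ∈ [(27, 30), (25, 28), (25, 30), (28, 30), (20, 17), (22, 19), (22, 17), (19, 17),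
      (33, 24), (14, 23)]) (t u : K) : Commute (fx K r t) (fx K s u) := by
  have h1 := f4_commTerms_nil _ h
  have h2 := f4_nil_ne r s h
  exact fx_commute_of_nil h2.1 h2.2 h1 t u

/-- A quadruple of roots `a, b, a + b, 2a + b` of `F₄` spanning a positive system of type `B₂`, exchanged by the
symmetry of the roots, with the relations among their root elements in characteristic 2. -/
structure B2Quad (K : Type*) [Field K] [CharP K 2] where
  a : Fin 48
  b : Fin 48
  ab : Fin 48
  aab : Fin 48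
  comm_ba : ∀ t u : K, fx K b u * fx K a t = fx K a t * fx K b u * (fx K ab (t * u) * fx K aab (t ^ 2 * u))
  c_a_ab : ∀ t u : K, Commute (fx K a t) (fx K ab u)
  c_a_aab : ∀ t u : K, Commute (fx K a t) (fx K aab u)
  c_b_ab : ∀ t u : K, Commute (fx K b t) (fx K ab u)
  c_b_aab : ∀ t u : K, Commute (fx K b t) (fx K aab u)
  c_ab_aab : ∀ t u : K, Commute (fx K ab t) (fx K aab u)
  rho_a : isoRho_F4 a.val = b.val
  rho_b : isoRho_F4 b.val = a.val
  rho_ab : isoRho_F4 ab.val = aab.val
  rho_aab : isoRho_F4 aab.val = ab.val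
  sr_a : isoSR_F4 a.val = true
  sr_b : isoSR_F4 b.val = false
  sr_ab : isoSR_F4 ab.val = true
  sr_aab : isoSR_F4 aab.val = false

theorem fx_comm_27_25 (t u : K) :
    fx K 25 u * fx K 27 t = fx K 27 t * fx K 25 u * (fx K 28 (t * u) * fx K 30 (t ^ 2 * u)) := by
  have h := xGL_comm (K := K) good3_F4 (r := 27) (s := 25) (by decide) (by decide) (by decide)
    (by decide) t u
  unfold ChevalleyDatum.commWord at h
  rw [f4_commTerms_27_25] at h
  simp only [List.map_cons, List.map_nil, List.prod_cons, List.prod_nil, mul_one] at h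
  have e28 : ∀ c : K, xGL' good3_F4.toGood1 (28, c) = fx K 28 c := fun c => xGL'_eq_fx 28 c
  have e30 : ∀ c : K, xGL' good3_F4.toGood1 (30, c) = fx K 30 c := fun c => xGL'_eq_fx 30 c
  have a28 : ((-1 : ℤ) : K) * (-t) ^ 1 * u ^ 1 = t * u := by push_cast; ring
  have a30 : ((-1 : ℤ) : K) * (-t) ^ 2 * u ^ 1 = t ^ 2 * u := by
    push_cast
    rw [← neg_eq_self_char2 (t ^ 2 * u)]
    ring
  rw [e28, e30, a28, a30] at h
  exact h

theorem fx_comm_20_22 (t u : K) :
    fx K 22 u * fx K 20 t = fx K 20 t * fx K 22 u * (fx K 19 (t * u) * fx K 17 (t ^ 2 * u)) := by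
  have h := xGL_comm (K := K) good3_F4 (r := 20) (s := 22) (by decide) (by decide) (by decide)
    (by decide) t u
  unfold ChevalleyDatum.commWord at h
  rw [f4_commTerms_20_22] at h
  simp only [List.map_cons, List.map_nil, List.prod_cons, List.prod_nil, mul_one] at h
  have e19 : ∀ c : K, xGL' good3_F4.toGood1 (19, c) = fx K 19 c := fun c => xGL'_eq_fx 19 c
  have e17 : ∀ c : K, xGL' good3_F4.toGood1 (17, c) = fx K 17 c := fun c => xGL'_eq_fx 17 c
  have a19 : ((1 : ℤ) : K) * (-t) ^ 1 * u ^ 1 = t * u := by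
    push_cast
    rw [← neg_eq_self_char2 (t * u)]
    ring
  have a17 : ((-1 : ℤ) : K) * (-t) ^ 2 * u ^ 1 = t ^ 2 * u := by
    push_cast
    rw [← neg_eq_self_char2 (t ^ 2 * u)]
    ring
  rw [e19, e17, a19, a17] at h
  exact h

theorem fx_commute_27_28 (t u : K) : Commute (fx K 27 t) (fx K 28 u) := by
  have h := xGL_comm (K := K) good3_F4 (r := 27) (s := 28) (by decide) (by decide) (by decide)
    (by decide) t u
  unfold ChevalleyDatum.commWord at h
  rw [f4_commTerms_27_28] at h
  simp only [List.map_cons, List.map_nil, List.prod_cons, List.prod_nil, mul_one] at h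
  have e30 : ∀ c : K, xGL' good3_F4.toGood1 (30, c) = fx K 30 c := fun c => xGL'_eq_fx 30 c
  have h2 := two_eq_zero' (K := K)
  have a30 : ((2 : ℤ) : K) * (-t) ^ 1 * u ^ 1 = 0 := by
    push_cast
    linear_combination (-(t * u)) * h2
  rw [e30, a30, fx_zero, mul_one] at h
  exact h.symm

theorem fx_commute_20_19 (t u : K) : Commute (fx K 20 t) (fx K 19 u) := by
  have h := xGL_comm (K := K) good3_F4 (r := 20) (s := 19) (by decide) (by decide) (by decide)
    (by decide) t u
  unfold ChevalleyDatum.commWord at h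
  rw [f4_commTerms_20_19] at h
  simp only [List.map_cons, List.map_nil, List.prod_cons, List.prod_nil, mul_one] at h
  have e17 : ∀ c : K, xGL' good3_F4.toGood1 (17, c) = fx K 17 c := fun c => xGL'_eq_fx 17 c
  have h2 := two_eq_zero' (K := K)
  have a17 : ((-2 : ℤ) : K) * (-t) ^ 1 * u ^ 1 = 0 := by
    push_cast
    linear_combination (t * u) * h2
  rw [e17, a17, fx_zero, mul_one] at h
  exact h.symm

/-- The positive quadruple `p₂, p₃, p₂ + p₃, 2p₂ + p₃`. -/
noncomputable def quadPos (K : Type*) [Field K] [CharP K 2] : B2Quad K where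
  a := 27
  b := 25
  ab := 28
  aab := 30
  comm_ba := fx_comm_27_25
  c_a_ab := fx_commute_27_28
  c_a_aab := fun t u => fx_commute_nil (r := 27) (s := 30) (by decide) t u
  c_b_ab := fun t u => fx_commute_nil (r := 25) (s := 28) (by decide) t u
  c_b_aab := fun t u => fx_commute_nil (r := 25) (s := 30) (by decide) t u
  c_ab_aab := fun t u => fx_commute_nil (r := 28) (s := 30) (by decide) t u
  rho_a := by decide
  rho_b := by decide
  rho_ab := by decide
  rho_aab := by decide
  sr_a := by decide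
  sr_b := by decide
  sr_ab := by decide
  sr_aab := by decide

/-- The negative quadruple. -/
noncomputable def quadNeg (K : Type*) [Field K] [CharP K 2] : B2Quad K where
  a := 20
  b := 22
  ab := 19
  aab := 17
  comm_ba := fx_comm_20_22
  c_a_ab := fx_commute_20_19
  c_a_aab := fun t u => fx_commute_nil (r := 20) (s := 17) (by decide) t u
  c_b_ab := fun t u => fx_commute_nil (r := 22) (s := 19) (by decide) t u
  c_b_aab := fun t u => fx_commute_nil (r := 22) (s := 17) (by decide) t u
  c_ab_aab := fun t u => fx_commute_nil (r := 19) (s := 17) (by decide) t u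
  rho_a := by decide
  rho_b := by decide
  rho_ab := by decide
  rho_aab := by decide
  sr_a := by decide
  sr_b := by decide
  sr_ab := by decide
  sr_aab := by decide

namespace B2Quad

variable (q : B2Quad K)

/-- The element `x_a(s) x_b(t) x_{a+b}(c) x_{2a+b}(d)`. -/
noncomputable def xQ (s t c d : K) : GL chevF4.Idx K :=
  fx K q.a s * fx K q.b t * fx K q.ab c * fx K q.aab d

theorem xQ_mem_group (s t c d : K) : q.xQ s t c d ∈ chevF4.group K :=
  mul_mem (mul_mem (mul_mem (fx_mem_group _ _) (fx_mem_group _ _)) (fx_mem_group _ _)) (fx_mem_group _ _)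

/-- The multiplication law. -/
theorem xQ_mul (s t c d s' t' c' d' : K) :
    q.xQ s t c d * q.xQ s' t' c' d' =
      q.xQ (s + s') (t + t') (c + c' + s' * t) (d + d' + s' ^ 2 * t) := by
  unfold xQ
  have h1 := q.c_a_ab
  have h2 := q.c_a_aab
  have h3 := q.c_b_ab
  have h4 := q.c_b_aab
  have h5 := q.c_ab_aab
  calc fx K q.a s * fx K q.b t * fx K q.ab c * fx K q.aab d *
        (fx K q.a s' * fx K q.b t' * fx K q.ab c' * fx K q.aab d')
      = fx K q.a s * fx K q.b t * fx K q.ab c * (fx K q.aab d * fx K q.a s') * fx K q.b t' *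
          fx K q.ab c' * fx K q.aab d' := by simp only [mul_assoc]
    _ = fx K q.a s * fx K q.b t * (fx K q.ab c * fx K q.a s') * fx K q.aab d * fx K q.b t' *
          fx K q.ab c' * fx K q.aab d' := by rw [← (h2 s' d).eq]; simp only [mul_assoc]
    _ = fx K q.a s * (fx K q.b t * fx K q.a s') * fx K q.ab c * fx K q.aab d * fx K q.b t' *
          fx K q.ab c' * fx K q.aab d' := by rw [← (h1 s' c).eq]; simp only [mul_assoc]
    _ = fx K q.a s * (fx K q.a s' * fx K q.b t * (fx K q.ab (s' * t) * fx K q.aab (s' ^ 2 * t))) *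
          fx K q.ab c * fx K q.aab d * fx K q.b t' * fx K q.ab c' * fx K q.aab d' := by rw [q.comm_ba]
    _ = fx K q.a s * fx K q.a s' * fx K q.b t * fx K q.ab (s' * t) * fx K q.aab (s' ^ 2 * t) *
          fx K q.ab c * (fx K q.aab d * fx K q.b t') * fx K q.ab c' * fx K q.aab d' := by
        simp only [mul_assoc]
    _ = fx K q.a s * fx K q.a s' * fx K q.b t * fx K q.ab (s' * t) * fx K q.aab (s' ^ 2 * t) *
          (fx K q.ab c * fx K q.b t') * fx K q.aab d * fx K q.ab c' * fx K q.aab d' := by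
        rw [← (h4 t' d).eq]; simp only [mul_assoc]
    _ = fx K q.a s * fx K q.a s' * fx K q.b t * fx K q.ab (s' * t) * (fx K q.aab (s' ^ 2 * t) *
          fx K q.b t') * fx K q.ab c * fx K q.aab d * fx K q.ab c' * fx K q.aab d' := by
        rw [← (h3 t' c).eq]; simp only [mul_assoc]
    _ = fx K q.a s * fx K q.a s' * fx K q.b t * (fx K q.ab (s' * t) * fx K q.b t') *
          fx K q.aab (s' ^ 2 * t) * fx K q.ab c * fx K q.aab d * fx K q.ab c' * fx K q.aab d' := by
        rw [← (h4 t' (s' ^ 2 * t)).eq]; simp only [mul_assoc]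
    _ = fx K q.a s * fx K q.a s' * (fx K q.b t * fx K q.b t') * fx K q.ab (s' * t) *
          (fx K q.aab (s' ^ 2 * t) * fx K q.ab c) * (fx K q.aab d * fx K q.ab c') * fx K q.aab d' := by
        rw [← (h3 t' (s' * t)).eq]; simp only [mul_assoc]
    _ = fx K q.a s * fx K q.a s' * (fx K q.b t * fx K q.b t') * fx K q.ab (s' * t) *
          (fx K q.ab c * fx K q.aab (s' ^ 2 * t)) * (fx K q.ab c' * fx K q.aab d) * fx K q.aab d' := by
        rw [(h5 c (s' ^ 2 * t)).eq, (h5 c' d).eq]
    _ = fx K q.a s * fx K q.a s' * (fx K q.b t * fx K q.b t') * fx K q.ab (s' * t) *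
          fx K q.ab c * (fx K q.aab (s' ^ 2 * t) * fx K q.ab c') * fx K q.aab d * fx K q.aab d' := by
        simp only [mul_assoc]
    _ = fx K q.a s * fx K q.a s' * (fx K q.b t * fx K q.b t') * fx K q.ab (s' * t) *
          fx K q.ab c * (fx K q.ab c' * fx K q.aab (s' ^ 2 * t)) * fx K q.aab d * fx K q.aab d' := by
        rw [(h5 c' (s' ^ 2 * t)).eq]
    _ = (fx K q.a s * fx K q.a s') * (fx K q.b t * fx K q.b t') * (fx K q.ab (s' * t) *
          (fx K q.ab c * fx K q.ab c')) * (fx K q.aab (s' ^ 2 * t) * (fx K q.aab d * fx K q.aab d')) := by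
        simp only [mul_assoc]
    _ = _ := by
        rw [fx_add, fx_add, fx_add, fx_add, fx_add, fx_add]
        congr 2
        · congr 1; ring
        · ring

theorem xQ_zero : q.xQ (0 : K) 0 0 0 = 1 := by
  unfold xQ
  rw [fx_zero, fx_zero, fx_zero, fx_zero, mul_one, mul_one, mul_one]

section tau

variable {m : ℕ} (hm : ∀ t : K, t ^ 2 ^ (2 * m + 1) = t)

/-- The twisting automorphism on the elements of the quadruple. -/
theorem f4Tau_xQ (s t c d : K) :
    extFun (f4Tau hm) (q.xQ s t c d) =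
      q.xQ (f4Th K m t) (f4Th K (m + 1) s) (f4Th K m t * f4Th K (m + 1) s + f4Th K m d)
        (f4Th K m t ^ 2 * f4Th K (m + 1) s + f4Th K (m + 1) c) := by
  have ga := fx_mem_group (K := K) q.a s
  have gb := fx_mem_group (K := K) q.b t
  have gab := fx_mem_group (K := K) q.ab c
  have gaab := fx_mem_group (K := K) q.aab d
  have fa : f4F K m q.a.val = f4Th K (m + 1) := by unfold f4F; rw [q.sr_a]; rfl
  have fb : f4F K m q.b.val = f4Th K m := by unfold f4F; rw [q.sr_b]; rfl
  have fab : f4F K m q.ab.val = f4Th K (m + 1) := by unfold f4F; rw [q.sr_ab]; rfl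
  have faab : f4F K m q.aab.val = f4Th K m := by unfold f4F; rw [q.sr_aab]; rfl
  unfold xQ
  rw [extFun_mul _ (mul_mem (mul_mem ga gb) gab) gaab, extFun_mul _ (mul_mem ga gb) gab,
    extFun_mul _ ga gb, f4Tau_fx hm q.a s q.b q.rho_a, f4Tau_fx hm q.b t q.a q.rho_b,
    f4Tau_fx hm q.ab c q.aab q.rho_ab, f4Tau_fx hm q.aab d q.ab q.rho_aab, fa, fb, fab, faab,
    q.comm_ba]
  have h5 := q.c_ab_aab
  calc fx K q.a (f4Th K m t) * fx K q.b (f4Th K (m + 1) s) *
        (fx K q.ab (f4Th K m t * f4Th K (m + 1) s) * fx K q.aab (f4Th K m t ^ 2 * f4Th K (m + 1) s)) *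
        fx K q.aab (f4Th K (m + 1) c) * fx K q.ab (f4Th K m d)
      = fx K q.a (f4Th K m t) * fx K q.b (f4Th K (m + 1) s) *
          fx K q.ab (f4Th K m t * f4Th K (m + 1) s) * ((fx K q.aab (f4Th K m t ^ 2 * f4Th K (m + 1) s) *
          fx K q.aab (f4Th K (m + 1) c)) * fx K q.ab (f4Th K m d)) := by simp only [mul_assoc]
    _ = fx K q.a (f4Th K m t) * fx K q.b (f4Th K (m + 1) s) *
          fx K q.ab (f4Th K m t * f4Th K (m + 1) s) * (fx K q.ab (f4Th K m d) *
          (fx K q.aab (f4Th K m t ^ 2 * f4Th K (m + 1) s) * fx K q.aab (f4Th K (m + 1) c))) := by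
        rw [fx_add, (h5 _ _).eq]
    _ = fx K q.a (f4Th K m t) * fx K q.b (f4Th K (m + 1) s) *
          (fx K q.ab (f4Th K m t * f4Th K (m + 1) s) * fx K q.ab (f4Th K m d)) *
          (fx K q.aab (f4Th K m t ^ 2 * f4Th K (m + 1) s) * fx K q.aab (f4Th K (m + 1) c)) := by
        simp only [mul_assoc]
    _ = _ := by
        rw [fx_add, fx_add]

/-- The fixed elements of the quadruple: `x_a(t^θ) x_b(t) x_{a+b}(t^{θ+1} + u) x_{2a+b}(u^{2θ})`. -/
noncomputable def xS (m : ℕ) (t u : K) : GL chevF4.Idx K :=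
  q.xQ (f4Th K m t) t (f4Th K m t * t + u) (f4Th K (m + 1) u)

include hm in
theorem f4Tau_xS (t u : K) : extFun (f4Tau hm) (q.xS m t u) = q.xS m t u := by
  unfold xS
  rw [f4Tau_xQ]
  have h1 := f4Th_succ_f4Th hm
  have h2 := f4Th_f4Th_succ hm
  simp only [map_add, map_mul, h1, h2]
  congr 1
  · rw [f4Th_succ m t]
    have := add_self_char2 (f4Th K m t ^ 2 * t)
    linear_combination this

include hm in
/-- A fixed element of the quadruple is of the form `xS`. -/
theorem eq_xS_of_coords {s t c d : K} (h1 : s = f4Th K m t)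
    (h3 : c = f4Th K m t * f4Th K (m + 1) s + f4Th K m d) :
    q.xQ s t c d = q.xS m t (f4Th K m d) := by
  unfold xS
  have e1 : f4Th K (m + 1) s = t := by rw [h1]; exact f4Th_succ_f4Th hm t
  rw [f4Th_succ_f4Th hm d, h3, e1, ← h1]

theorem xS_coe (t u : K) :
    ((q.xS m t u : GL chevF4.Idx K) : Matrix chevF4.Idx chevF4.Idx K) =
      chevF4.wordMat K (b2ClassWord (2 ^ m) q.a.val q.b.val q.ab.val q.aab.val t u) := by
  unfold xS xQ b2ClassWord
  simp only [wordMat_cons, wordMat_nil, mul_one, Units.val_mul, fx_coe, f4Th_apply]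
  have e1 : t ^ 2 ^ m * t + u = t ^ (2 ^ m + 1) + u := by ring
  have e2 : u ^ 2 ^ (m + 1) = u ^ (2 * 2 ^ m) := by rw [pow_succ, mul_comm]
  rw [e1, e2]
  simp only [mul_assoc]

theorem xS_mem_group (t u : K) : q.xS m t u ∈ chevF4.group K := q.xQ_mem_group _ _ _ _

end tau

end B2Quad

end Cfsg.Agent.Helper7.Chev
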