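import Mathlib
import Cfsg.Agent.Helper7.ChevF4b

set_option autoImplicit false
set_option linter.unusedSectionVars false
set_option linter.unusedVariables false

/-!
The twisted group of type `F₄`: the generators `x_{p₁}(t^θ) x_{p₄}(t)`, and the twisted group consists of fixed elements.
-/

namespace Cfsg.Agent.Helper7.Chev

open Cfsg Cfsg.Lie Matrix

variable {K : Type*} [Field K] [CharP K 2] {m : ℕ}

/-- The element `x_r(t^θ) x_{r̄}(t)`. -/
noncomputable def xP (r rb : Fin 48) (m : ℕ) (t : K) : GL chevF4.Idx K := fx K r (f4Th K m t) * fx K rb t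

theorem xP_coe (r rb : Fin 48) (t : K) :
    ((xP r rb m t : GL chevF4.Idx K) : Matrix chevF4.Idx chevF4.Idx K) =
      chevF4.wordMat K (f4PairWord (2 ^ m) r.val rb.val t) := by
  unfold xP f4PairWord
  simp only [wordMat_cons, wordMat_nil, mul_one, Units.val_mul, fx_coe, f4Th_apply]

theorem xP_mem_group (r rb : Fin 48) (t : K) : xP r rb m t ∈ chevF4.group K :=
  mul_mem (fx_mem_group _ _) (fx_mem_group _ _)

theorem xP_zero (r rb : Fin 48) : xP r rb m (0 : K) = 1 := by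
  unfold xP
  rw [map_zero, fx_zero, fx_zero, mul_one]

section tau

variable (hm : ∀ t : K, t ^ 2 ^ (2 * m + 1) = t)

include hm in
theorem f4Tau_xP {r rb : Fin 48} (h1 : isoRho_F4 r.val = rb.val) (h2 : isoRho_F4 rb.val = r.val)
    (h3 : isoSR_F4 r.val = true) (h4 : isoSR_F4 rb.val = false)
    (hc : ∀ t u : K, Commute (fx K r t) (fx K rb u)) (t : K) :
    extFun (f4Tau hm) (xP r rb m t) = xP r rb m t := by
  unfold xP
  have fa : f4F K m r.val = f4Th K (m + 1) := by unfold f4F; rw [h3]; rfl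
  have fb : f4F K m rb.val = f4Th K m := by unfold f4F; rw [h4]; rfl
  rw [extFun_mul _ (fx_mem_group _ _) (fx_mem_group _ _), f4Tau_fx hm r _ rb h1, f4Tau_fx hm rb _ r h2,
    fa, fb, f4Th_succ_f4Th hm]
  exact ((hc _ _).eq).symm

include hm in
theorem f4Tau_xP_pos (t : K) : extFun (f4Tau hm) (xP 33 24 m t) = xP 33 24 m t :=
  f4Tau_xP hm (by decide) (by decide) (by decide) (by decide)
    (fun t u => fx_commute_nil (r := 33) (s := 24) (by decide) t u) t

include hm in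
theorem f4Tau_xP_neg (t : K) : extFun (f4Tau hm) (xP 14 23 m t) = xP 14 23 m t :=
  f4Tau_xP hm (by decide) (by decide) (by decide) (by decide)
    (fun t u => fx_commute_nil (r := 14) (s := 23) (by decide) t u) t

end tau

theorem xP_pos_mem_twisted (t : K) : xP 33 24 m t ∈ twistedF4 K (2 ^ m) :=
  Subgroup.subset_closure ⟨_, Or.inl ⟨t, Or.inl rfl⟩, xP_coe 33 24 t⟩

theorem xP_neg_mem_twisted (t : K) : xP 14 23 m t ∈ twistedF4 K (2 ^ m) :=
  Subgroup.subset_closure ⟨_, Or.inl ⟨t, Or.inr rfl⟩, xP_coe 14 23 t⟩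

theorem xS_pos_mem_twisted (t u : K) : (quadPos K).xS m t u ∈ twistedF4 K (2 ^ m) :=
  Subgroup.subset_closure ⟨_, Or.inr ⟨t, u, Or.inl rfl⟩, (quadPos K).xS_coe t u⟩

theorem xS_neg_mem_twisted (t u : K) : (quadNeg K).xS m t u ∈ twistedF4 K (2 ^ m) :=
  Subgroup.subset_closure ⟨_, Or.inr ⟨t, u, Or.inr rfl⟩, (quadNeg K).xS_coe t u⟩

/-- The twisted group is generated by the four families of elements. -/
theorem twistedF4_eq :
    twistedF4 K (2 ^ m) = Subgroup.closure (({g | ∃ t : K, g = xP 33 24 m t} ∪ {g | ∃ t : K, g = xP 14 23 m t}) ∪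
      ({g | ∃ t u : K, g = (quadPos K).xS m t u} ∪ {g | ∃ t u : K, g = (quadNeg K).xS m t u})) := by
  apply le_antisymm
  · unfold twistedF4 ChevalleyDatum.genSubgroup
    rw [Subgroup.closure_le]
    rintro g ⟨w, (⟨t, hw | hw⟩ | ⟨t, u, hw | hw⟩), hg⟩
    · apply Subgroup.subset_closure
      refine Or.inl (Or.inl ⟨t, ?_⟩)
      apply Units.ext
      rw [hg, hw, xP_coe]
      rfl
    · apply Subgroup.subset_closure
      refine Or.inl (Or.inr ⟨t, ?_⟩)
      apply Units.ext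
      rw [hg, hw, xP_coe]
      rfl
    · apply Subgroup.subset_closure
      refine Or.inr (Or.inl ⟨t, u, ?_⟩)
      apply Units.ext
      rw [hg, hw, B2Quad.xS_coe]
      rfl
    · apply Subgroup.subset_closure
      refine Or.inr (Or.inr ⟨t, u, ?_⟩)
      apply Units.ext
      rw [hg, hw, B2Quad.xS_coe]
      rfl
  · rw [Subgroup.closure_le]
    rintro g ((⟨t, rfl⟩ | ⟨t, rfl⟩) | (⟨t, u, rfl⟩ | ⟨t, u, rfl⟩))
    · exact xP_pos_mem_twisted t
    · exact xP_neg_mem_twisted t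
    · exact xS_pos_mem_twisted t u
    · exact xS_neg_mem_twisted t u

/-- The twisted group consists of fixed elements. -/
theorem twistedF4_le_fixSub (hm : ∀ t : K, t ^ 2 ^ (2 * m + 1) = t) :
    twistedF4 K (2 ^ m) ≤ fixSub (f4Tau hm) := by
  rw [twistedF4_eq, Subgroup.closure_le]
  rintro g ((⟨t, rfl⟩ | ⟨t, rfl⟩) | (⟨t, u, rfl⟩ | ⟨t, u, rfl⟩))
  · exact ⟨xP_mem_group _ _ _, f4Tau_xP_pos hm t⟩
  · exact ⟨xP_mem_group _ _ _, f4Tau_xP_neg hm t⟩
  · exact ⟨B2Quad.xS_mem_group _ _ _, B2Quad.f4Tau_xS _ hm t u⟩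
  · exact ⟨B2Quad.xS_mem_group _ _ _, B2Quad.f4Tau_xS _ hm t u⟩

theorem twistedF4_le_group : twistedF4 K (2 ^ m) ≤ chevF4.group K := by
  rw [twistedF4_eq, Subgroup.closure_le]
  rintro g ((⟨t, rfl⟩ | ⟨t, rfl⟩) | (⟨t, u, rfl⟩ | ⟨t, u, rfl⟩))
  · exact xP_mem_group _ _ _
  · exact xP_mem_group _ _ _
  · exact B2Quad.xS_mem_group _ _ _
  · exact B2Quad.xS_mem_group _ _ _

end Cfsg.Agent.Helper7.Chev
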