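import Mathlib
import Cfsg.Prelude.Def_LieExceptional

set_option autoImplicit false

/-!
A `(B, N)`-pair of rank one from a decomposition `G = B ∪ B n₀ B`.
-/

namespace Cfsg.Agent.Helper7.BN

open DoubleCoset

/-- A `(B, N)`-pair of rank one from a decomposition `G = B ∪ B n₀ B`. -/
theorem exists_bnPair_rankOne {G : Type*} [Group G] (B N : Subgroup G) (n₀ : G) (hn₀ : n₀ ∈ N)
    (hcover : ∀ g : G, g ∈ B ∨ ∃ b ∈ B, ∃ b' ∈ B, g = b * n₀ * b')
    (hnorm : ∀ n ∈ N, ∀ t ∈ B ⊓ N, n * t * n⁻¹ ∈ B)
    (hsq : n₀ * n₀ ∈ B)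
    (hN : ∀ n ∈ N, n ∈ B ∨ n₀⁻¹ * n ∈ B)
    (hne : ∃ b ∈ B, n₀ * b * n₀ ∉ B) :
    ∃ P : Cfsg.BNPair G, P.B = B ∧ P.N = N ∧ P.S = {n₀} := by
  refine ⟨{ B := B
            N := N
            S := {n₀}
            sup_eq_top := ?_
            conj_mem := hnorm
            subset := ?_
            sq_mem := ?_
            inj := ?_
            closure_sup := ?_
            mul_mem_union := ?_
            conj_ne := ?_ }, rfl, rfl, rfl⟩
  · rw [eq_top_iff]
    intro g _
    rcases hcover g with h | ⟨b, hb, b', hb', rfl⟩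
    · exact Subgroup.mem_sup_left h
    · exact mul_mem (mul_mem (Subgroup.mem_sup_left hb) (Subgroup.mem_sup_right hn₀))
        (Subgroup.mem_sup_left hb')
  · intro s hs
    rw [Set.mem_singleton_iff] at hs
    rw [hs]; exact hn₀
  · intro s hs
    rw [Set.mem_singleton_iff] at hs
    rw [hs]; exact hsq
  · intro s hs s' hs' _
    rw [Set.mem_singleton_iff] at hs hs'
    rw [hs, hs']
  · apply le_antisymm
    · apply sup_le
      · rw [Subgroup.closure_le]
        intro s hs
        rw [Set.mem_singleton_iff] at hs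
        rw [hs]; exact hn₀
      · exact inf_le_right
    · intro n hn
      rcases hN n hn with h | h
      · exact Subgroup.mem_sup_right (Subgroup.mem_inf.mpr ⟨h, hn⟩)
      · have e : n = n₀ * (n₀⁻¹ * n) := by group
        rw [e]
        exact mul_mem (Subgroup.mem_sup_left (Subgroup.subset_closure rfl))
          (Subgroup.mem_sup_right (Subgroup.mem_inf.mpr ⟨h, mul_mem (inv_mem hn₀) hn⟩))
  · intro s hs n hn b hb
    rw [Set.mem_singleton_iff] at hs
    subst hs
    rcases hN n hn with h | h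
    · left
      exact mem_doubleCoset.mpr ⟨1, one_mem _, n⁻¹ * b * n, mul_mem (mul_mem (inv_mem h) hb) h,
        by group⟩
    · rcases hcover (s * b * n) with hg | ⟨b₁, hb₁, b₂, hb₂, e⟩
      · left
        have hsn : s * n ∈ B := by
          have e : s * n = (s * s) * (s⁻¹ * n) := by group
          rw [e]; exact mul_mem hsq h
        exact mem_doubleCoset.mpr ⟨s * b * n * (s * n)⁻¹, mul_mem hg (inv_mem hsn), 1, one_mem _,
          by group⟩
      · right
        refine mem_doubleCoset.mpr ⟨b₁, hb₁, (s⁻¹ * n)⁻¹ * b₂, mul_mem (inv_mem h) hb₂, ?_⟩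
        rw [e]; group
  · intro s hs heq
    rw [Set.mem_singleton_iff] at hs
    subst hs
    obtain ⟨b, hb, hnb⟩ := hne
    apply hnb
    have : s * b * s ∈ (fun b : G => s * b * s) '' (B : Set G) := ⟨b, hb, rfl⟩
    rw [heq] at this
    exact this

end Cfsg.Agent.Helper7.BN
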