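import Mathlib
import Cfsg.Agent.Helper7.ChevRee12

set_option autoImplicit false
set_option linter.unusedSectionVars false
set_option linter.unusedVariables false

/-!
The twisted group of type `G₂`: the elements `h n_{w₀}` and the fixed elements of `N` outside `H`.
-/

namespace Cfsg.Agent.Helper7.Chev

open Cfsg Cfsg.Lie Matrix

section G2

variable {K : Type*} [Field K]

/-- The element `n_{w₀}` of `N`. -/
noncomputable def reeNw (K : Type*) [Field K] : GL chevG2.Idx K := nWordGL good3_G2.toGood2 w0G2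

theorem reeNw_mem : reeNw K ∈ chevG2.monomialSubgroup K := nWordGL_mem _ _

set_option maxRecDepth 100000 in
theorem g2_w0_sq_pos_fast : ∀ s < 12, 6 ≤ s → 6 ≤ fastG2.reflWord (w0G2 ++ w0G2) s := by decide +kernel

theorem g2_w0_sq_pos : ∀ s < chevG2.nroots, chevG2.nroots / 2 ≤ s →
    chevG2.nroots / 2 ≤ (tabOf chevG2).reflWord (w0G2 ++ w0G2) s := tab_G2 ▸ g2_w0_sq_pos_fast

theorem reeNw_sq_mem : reeNw K * reeNw K ∈ chevG2.diagonalSubgroup K := by
  unfold reeNw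
  rw [← nWordGL_append]
  refine nWordGL_mem_diagonal_of_pos good3_G2.toGood2 T0_G2 T6_G2 T8_G2 _ (w0G2 ++ w0G2) rfl ?_
    g2_w0_sq_pos
  decide

theorem reeNw_conj_pos {u : GL chevG2.Idx K} (hu : u ∈ chevG2.posUnipotent K) :
    reeNw K * u * (reeNw K)⁻¹ ∈ chevG2.negUnipotent K := by
  rw [← nWordGL_conj_pos_eq_neg (K := K) good3_G2.toGood2 T0_G2 W0_G2]
  exact ⟨u, hu, rfl⟩

theorem reeNw_conj_neg {v : GL chevG2.Idx K} (hv : v ∈ chevG2.negUnipotent K) :
    (reeNw K)⁻¹ * v * reeNw K ∈ chevG2.posUnipotent K := by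
  rw [← nWordGL_conj_pos_eq_neg (K := K) good3_G2.toGood2 T0_G2 W0_G2] at hv
  obtain ⟨u, hu, rfl⟩ := hv
  change (reeNw K)⁻¹ * (reeNw K * u * (reeNw K)⁻¹) * reeNw K ∈ _
  have : (reeNw K)⁻¹ * (reeNw K * u * (reeNw K)⁻¹) * reeNw K = u := by group
  rw [this]
  exact hu

theorem hnw_conj_pos {h : GL chevG2.Idx K} (hh : h ∈ chevG2.diagonalSubgroup K)
    {u : GL chevG2.Idx K} (hu : u ∈ chevG2.posUnipotent K) :
    (h * reeNw K) * u * (h * reeNw K)⁻¹ ∈ chevG2.negUnipotent K := by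
  have e : (h * reeNw K) * u * (h * reeNw K)⁻¹ = h * (reeNw K * u * (reeNw K)⁻¹) * h⁻¹ := by group
  rw [e]
  exact (Subgroup.mem_set_normalizer_iff.mp
    (diagonalSubgroup_le_normalizer_neg good3_G2.toGood2 hh) _).mp (reeNw_conj_pos hu)

theorem hnw_conj_neg {h : GL chevG2.Idx K} (hh : h ∈ chevG2.diagonalSubgroup K)
    {v : GL chevG2.Idx K} (hv : v ∈ chevG2.negUnipotent K) :
    (h * reeNw K)⁻¹ * v * (h * reeNw K) ∈ chevG2.posUnipotent K := by
  have e : (h * reeNw K)⁻¹ * v * (h * reeNw K) = (reeNw K)⁻¹ * (h⁻¹ * v * h⁻¹⁻¹) * reeNw K := by group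
  rw [e]
  exact reeNw_conj_neg ((Subgroup.mem_set_normalizer_iff.mp
    (diagonalSubgroup_le_normalizer_neg good3_G2.toGood2 (inv_mem hh)) _).mp hv)

/-- Products of two elements of `H n_{w₀}`. -/
theorem hnw_mul_hnw {h h' : GL chevG2.Idx K} (hh : h ∈ chevG2.diagonalSubgroup K)
    (hh' : h' ∈ chevG2.diagonalSubgroup K) :
    (h * reeNw K) * (h' * reeNw K) ∈ chevG2.diagonalSubgroup K := by
  have e : (h * reeNw K) * (h' * reeNw K) = h * (reeNw K * h' * (reeNw K)⁻¹) * (reeNw K * reeNw K) := by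
    group
  rw [e]
  exact mul_mem (mul_mem hh (conj_mem_diagonal
    (monomialSubgroup_le_normalizer good3_G2.toGood2 reeNw_mem) hh')) reeNw_sq_mem

theorem hnw_mul_hnw_inv {h h' : GL chevG2.Idx K} (hh : h ∈ chevG2.diagonalSubgroup K)
    (hh' : h' ∈ chevG2.diagonalSubgroup K) :
    (h * reeNw K) * (h' * reeNw K)⁻¹ ∈ chevG2.diagonalSubgroup K := by
  have e : (h * reeNw K) * (h' * reeNw K)⁻¹ = h * h'⁻¹ := by group
  rw [e]
  exact mul_mem hh (inv_mem hh')

theorem hnw_inv_mul_hnw {h h' : GL chevG2.Idx K} (hh : h ∈ chevG2.diagonalSubgroup K)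
    (hh' : h' ∈ chevG2.diagonalSubgroup K) :
    (h * reeNw K)⁻¹ * (h' * reeNw K) ∈ chevG2.diagonalSubgroup K := by
  have e : (h * reeNw K)⁻¹ * (h' * reeNw K) = (reeNw K)⁻¹ * (h⁻¹ * h') * reeNw K := by group
  rw [e]
  exact conj_mem_diagonal' (monomialSubgroup_le_normalizer good3_G2.toGood2 reeNw_mem)
    (mul_mem (inv_mem hh) hh')

theorem hnw_not_mem_borel {h : GL chevG2.Idx K} (hh : h ∈ chevG2.diagonalSubgroup K) :
    h * reeNw K ∉ chevG2.borelSubgroup K := by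
  intro hc
  -- then `x_a(1)` would be conjugated into `B ∩ V`
  have hu : gx K 7 1 ∈ chevG2.posUnipotent K :=
    Subgroup.subset_closure ⟨7, 1, (isPosRoot_iff T0_G2 (by decide)).mpr (by decide), gx_coe 7 1⟩
  have hv := hnw_conj_pos hh hu
  have hb : (h * reeNw K) * gx K 7 1 * (h * reeNw K)⁻¹ ∈ chevG2.borelSubgroup K :=
    mul_mem (mul_mem hc (Subgroup.mem_sup_left hu)) (inv_mem hc)
  have : (h * reeNw K) * gx K 7 1 * (h * reeNw K)⁻¹ ∈
      chevG2.borelSubgroup K ⊓ chevG2.negUnipotent K := ⟨hb, hv⟩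
  rw [borel_inf_negUnipotent good3_G2.toGood2 T0_G2, Subgroup.mem_bot] at this
  have h1 : gx K 7 (1 : K) = 1 := by
    calc gx K 7 (1 : K) = (h * reeNw K)⁻¹ * ((h * reeNw K) * gx K 7 1 * (h * reeNw K)⁻¹) *
          (h * reeNw K) := by group
      _ = 1 := by rw [this]; group
  exact xGL_ne_one good3_G2.toGood2 T0_G2 T8_G2 (by decide) one_ne_zero h1

end G2

end Cfsg.Agent.Helper7.Chev
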