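import Mathlib
import Cfsg.Agent.Helper7.ChevRee13

set_option autoImplicit false
set_option linter.unusedSectionVars false
set_option linter.unusedVariables false

/-!
The twisted group of type `G₂`: `G¹ = U¹ H¹ ∪ U¹ H¹ n₀ U¹`.
-/

namespace Cfsg.Agent.Helper7.Chev

open Cfsg Cfsg.Lie Matrix

section G2

variable {K : Type*} [Field K] [CharP K 3] {m : ℕ} (hm : ∀ t : K, t ^ 3 ^ (2 * m + 1) = t)

/-- `U¹ = U ∩ G¹`. -/
def rU (K : Type*) [Field K] (m : ℕ) : Subgroup (GL chevG2.Idx K) :=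
  chevG2.posUnipotent K ⊓ twistedG2 K (3 ^ m)

/-- `H¹ = H ∩ G¹`. -/
def rH (K : Type*) [Field K] (m : ℕ) : Subgroup (GL chevG2.Idx K) :=
  chevG2.diagonalSubgroup K ⊓ twistedG2 K (3 ^ m)

/-- `N¹ = N ∩ G¹`. -/
def rN (K : Type*) [Field K] (m : ℕ) : Subgroup (GL chevG2.Idx K) :=
  chevG2.monomialSubgroup K ⊓ twistedG2 K (3 ^ m)

omit [CharP K 3] in
theorem mem_rU {g : GL chevG2.Idx K} :
    g ∈ rU K m ↔ g ∈ chevG2.posUnipotent K ∧ g ∈ twistedG2 K (3 ^ m) := Subgroup.mem_inf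

omit [CharP K 3] in
theorem mem_rH {g : GL chevG2.Idx K} :
    g ∈ rH K m ↔ g ∈ chevG2.diagonalSubgroup K ∧ g ∈ twistedG2 K (3 ^ m) := Subgroup.mem_inf

omit [CharP K 3] in
theorem mem_rN {g : GL chevG2.Idx K} :
    g ∈ rN K m ↔ g ∈ chevG2.monomialSubgroup K ∧ g ∈ twistedG2 K (3 ^ m) := Subgroup.mem_inf

include hm in
theorem ree_fixed_pos_mem {u : GL chevG2.Idx K} (hu : u ∈ chevG2.posUnipotent K)
    (hfix : extFun (reeTau hm) u = u) : u ∈ rU K m := by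
  obtain ⟨t, a, b, rfl⟩ := exists_ru_of_fixed hm hu hfix
  exact mem_rU.mpr ⟨hu, ru_mem_twisted t a b⟩

omit [CharP K 3] in
theorem rH_conj_rU {h u : GL chevG2.Idx K} (hh : h ∈ rH K m) (hu : u ∈ rU K m) :
    h * u * h⁻¹ ∈ rU K m := by
  rw [mem_rH] at hh
  rw [mem_rU] at hu ⊢
  exact ⟨(Subgroup.mem_set_normalizer_iff.mp
    (diagonalSubgroup_le_normalizer_pos good3_G2.toGood2 hh.1) _).mp hu.1,
    mul_mem (mul_mem hh.2 hu.2) (inv_mem hh.2)⟩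

omit [CharP K 3] in
theorem rH_conj_rU' {h u : GL chevG2.Idx K} (hh : h ∈ rH K m) (hu : u ∈ rU K m) :
    h⁻¹ * u * h ∈ rU K m := by
  have := rH_conj_rU (inv_mem hh) hu
  rwa [inv_inv] at this

omit [CharP K 3] in
theorem rN_conj_rH {n h : GL chevG2.Idx K} (hn : n ∈ rN K m) (hh : h ∈ rH K m) :
    n * h * n⁻¹ ∈ rH K m := by
  rw [mem_rN] at hn
  rw [mem_rH] at hh ⊢
  exact ⟨conj_mem_diagonal (monomialSubgroup_le_normalizer good3_G2.toGood2 hn.1) hh.1,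
    mul_mem (mul_mem hn.2 hh.2) (inv_mem hn.2)⟩

include hm in
theorem rN_cases {n : GL chevG2.Idx K} (hn : n ∈ rN K m) :
    n ∈ chevG2.diagonalSubgroup K ∨ ∃ h ∈ chevG2.diagonalSubgroup K, n = h * reeNw K := by
  rw [mem_rN] at hn
  exact ree_mono_fixed hm hn.1 (twistedG2_le_fixSub hm hn.2).2

include hm in
/-- The Bruhat decomposition in `G¹` of a fixed element of `V` other than the identity. -/
theorem ree_bruhat_neg {v : GL chevG2.Idx K} (hv : v ∈ chevG2.negUnipotent K)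
    (hvG : v ∈ twistedG2 K (3 ^ m)) (hv1 : v ≠ 1) :
    ∃ u₁ ∈ rU K m, ∃ n ∈ rN K m, ∃ u₂ ∈ rU K m, n ∉ chevG2.diagonalSubgroup K ∧ v = u₁ * n * u₂ := by
  obtain ⟨u₁, hu₁, n, hn, u₂, hu₂, f1, f2, f3, hnH, e⟩ :=
    (reeTau_rootAut hm).bruhat_neg good3_G2.toGood2 T0_G2 good3_G2.t3 good3_G2.t4 T5_G2 T6_G2 T8_G2
      T9_G2 hv (twistedG2_le_fixSub hm hvG).2 hv1
  have h1 := ree_fixed_pos_mem hm hu₁ f1
  have h2 := ree_fixed_pos_mem hm hu₂ f3
  refine ⟨u₁, h1, n, mem_rN.mpr ⟨hn, ?_⟩, u₂, h2, hnH, e⟩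
  have : n = u₁⁻¹ * v * u₂⁻¹ := by rw [e]; group
  rw [this]
  exact mul_mem (mul_mem (inv_mem (mem_rU.mp h1).2) hvG) (inv_mem (mem_rU.mp h2).2)

theorem ru_zero : ru m (0 : K) 0 0 = 1 := by
  unfold ru uA
  simp only [map_zero, mul_zero, add_zero, gx_zero, one_mul]
  exact gA_zero

include hm in
/-- There is an element of `N¹` outside `H`. -/
theorem exists_rN_not_mem : ∃ n ∈ rN K m, n ∉ chevG2.diagonalSubgroup K := by
  have hv : rv m (0 : K) 1 0 ∈ chevG2.negUnipotent K :=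
    nuGL_pos good3_G2.toGood2 T0_G2 T25_G2 (uA_mem_pos _ _ _ _ _ _)
  have hv1 : rv m (0 : K) 1 0 ≠ 1 := by
    intro h
    unfold rv at h
    have h2 : ru m (0 : K) 1 0 = 1 := by
      have := congrArg (nuGL good3_G2.toGood1) h
      rw [nuGL_nuGL, map_one] at this
      exact this
    rw [← ru_zero (m := m)] at h2
    have := (ru_injective h2).2.1
    exact one_ne_zero this
  obtain ⟨u₁, _, n, hn, u₂, _, hnH, _⟩ := ree_bruhat_neg hm hv (rv_mem_twisted 0 1 0) hv1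
  exact ⟨n, hn, hnH⟩

end G2

end Cfsg.Agent.Helper7.Chev
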