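import Mathlib
import Cfsg.Agent.Helper7.ChevRee14

set_option autoImplicit false
set_option linter.unusedSectionVars false
set_option linter.unusedVariables false

/-!
The twisted group of type `G₂`: `G¹ = U¹ H¹ ∪ U¹ H¹ n₀ U¹`.
-/

namespace Cfsg.Agent.Helper7.Chev

open Cfsg Cfsg.Lie Matrix

section G2

variable {K : Type*} [Field K] [CharP K 3] {m : ℕ} (hm : ∀ t : K, t ^ 3 ^ (2 * m + 1) = t)

include hm in
/-- The product of two elements of `N¹` outside `H` lies in `H¹`. -/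
theorem rN_mul_mem {n n' : GL chevG2.Idx K} (hn : n ∈ rN K m) (hn' : n' ∈ rN K m)
    (hnH : n ∉ chevG2.diagonalSubgroup K) (hn'H : n' ∉ chevG2.diagonalSubgroup K) :
    n * n' ∈ rH K m ∧ n * n'⁻¹ ∈ rH K m ∧ n⁻¹ * n' ∈ rH K m := by
  rcases rN_cases hm hn with h | ⟨h, hh, rfl⟩
  · exact absurd h hnH
  rcases rN_cases hm hn' with h' | ⟨h', hh', rfl⟩
  · exact absurd h' hn'H
  have g1 := (mem_rN.mp hn).2
  have g2 := (mem_rN.mp hn').2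
  exact ⟨mem_rH.mpr ⟨hnw_mul_hnw hh hh', mul_mem g1 g2⟩,
    mem_rH.mpr ⟨hnw_mul_hnw_inv hh hh', mul_mem g1 (inv_mem g2)⟩,
    mem_rH.mpr ⟨hnw_inv_mul_hnw hh hh', mul_mem (inv_mem g1) g2⟩⟩

/-- The set `U¹ H¹ ∪ U¹ H¹ n₀ U¹`. -/
def reeX (K : Type*) [Field K] (m : ℕ) (n₀ : GL chevG2.Idx K) : Set (GL chevG2.Idx K) :=
  {g | (∃ u ∈ rU K m, ∃ h ∈ rH K m, g = u * h) ∨
    (∃ u ∈ rU K m, ∃ h ∈ rH K m, ∃ u' ∈ rU K m, g = u * h * n₀ * u')}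

variable {n₀ : GL chevG2.Idx K}

omit [CharP K 3] in
theorem reeX_one : (1 : GL chevG2.Idx K) ∈ reeX K m n₀ :=
  Or.inl ⟨1, one_mem _, 1, one_mem _, by rw [mul_one]⟩

omit [CharP K 3] in
theorem reeX_rU_mul {u₀ g : GL chevG2.Idx K} (hu₀ : u₀ ∈ rU K m) (hg : g ∈ reeX K m n₀) :
    u₀ * g ∈ reeX K m n₀ := by
  rcases hg with ⟨u, hu, h, hh, rfl⟩ | ⟨u, hu, h, hh, u', hu', rfl⟩
  · exact Or.inl ⟨u₀ * u, mul_mem hu₀ hu, h, hh, by group⟩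
  · exact Or.inr ⟨u₀ * u, mul_mem hu₀ hu, h, hh, u', hu', by group⟩

omit [CharP K 3] in
theorem reeX_rH_mul {h₀ g : GL chevG2.Idx K} (hh₀ : h₀ ∈ rH K m) (hg : g ∈ reeX K m n₀) :
    h₀ * g ∈ reeX K m n₀ := by
  rcases hg with ⟨u, hu, h, hh, rfl⟩ | ⟨u, hu, h, hh, u', hu', rfl⟩
  · exact Or.inl ⟨h₀ * u * h₀⁻¹, rH_conj_rU hh₀ hu, h₀ * h, mul_mem hh₀ hh, by group⟩
  · exact Or.inr ⟨h₀ * u * h₀⁻¹, rH_conj_rU hh₀ hu, h₀ * h, mul_mem hh₀ hh, u', hu', by group⟩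

variable (hn₀ : n₀ ∈ rN K m) (hn₀H : n₀ ∉ chevG2.diagonalSubgroup K)

include hm hn₀ hn₀H in
/-- `n₀ u n₀⁻¹ ∈ U¹ H¹ n₀ U¹` for `u ∈ U¹` other than the identity. -/
theorem ree_conj_decomp {u : GL chevG2.Idx K} (hu : u ∈ rU K m) (hu1 : u ≠ 1) :
    ∃ u₁ ∈ rU K m, ∃ h₁ ∈ rH K m, ∃ u₂ ∈ rU K m, n₀ * u * n₀⁻¹ = u₁ * h₁ * n₀ * u₂ := by
  rcases rN_cases hm hn₀ with h | ⟨h, hh, e⟩
  · exact absurd h hn₀H
  have hv : n₀ * u * n₀⁻¹ ∈ chevG2.negUnipotent K := by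
    rw [e]; exact hnw_conj_pos hh (mem_rU.mp hu).1
  have hvG : n₀ * u * n₀⁻¹ ∈ twistedG2 K (3 ^ m) :=
    mul_mem (mul_mem (mem_rN.mp hn₀).2 (mem_rU.mp hu).2) (inv_mem (mem_rN.mp hn₀).2)
  have hv1 : n₀ * u * n₀⁻¹ ≠ 1 := by
    intro hc
    apply hu1
    calc u = n₀⁻¹ * (n₀ * u * n₀⁻¹) * n₀ := by group
      _ = 1 := by rw [hc]; group
  obtain ⟨u₁, hu₁, n, hn, u₂, hu₂, hnH, ev⟩ := ree_bruhat_neg hm hv hvG hv1
  refine ⟨u₁, hu₁, n * n₀⁻¹, (rN_mul_mem hm hn hn₀ hnH hn₀H).2.1, u₂, hu₂, ?_⟩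
  rw [ev]; group

include hm hn₀ hn₀H in
theorem reeX_n0_mul {g : GL chevG2.Idx K} (hg : g ∈ reeX K m n₀) : n₀ * g ∈ reeX K m n₀ := by
  have hsq := (rN_mul_mem hm hn₀ hn₀ hn₀H hn₀H).1
  rcases hg with ⟨u, hu, h, hh, rfl⟩ | ⟨u, hu, h, hh, u', hu', rfl⟩
  · exact Or.inr ⟨1, one_mem _, n₀ * h * n₀⁻¹, rN_conj_rH hn₀ hh, h⁻¹ * u * h, rH_conj_rU' hh hu,
      by group⟩
  · by_cases hu1 : u = 1
    · subst hu1
      have h2 : n₀ * h * n₀⁻¹ * (n₀ * n₀) ∈ rH K m := mul_mem (rN_conj_rH hn₀ hh) hsq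
      refine Or.inl ⟨(n₀ * h * n₀⁻¹ * (n₀ * n₀)) * u' * (n₀ * h * n₀⁻¹ * (n₀ * n₀))⁻¹,
        rH_conj_rU h2 hu', n₀ * h * n₀⁻¹ * (n₀ * n₀), h2, by group⟩
    · obtain ⟨u₁, hu₁, h₁, hh₁, u₂, hu₂, e⟩ := ree_conj_decomp hm hn₀ hn₀H hu hu1
      set h₂ : GL chevG2.Idx K := n₀ * h * n₀⁻¹ * (n₀ * n₀) with hh₂def
      have hh₂ : h₂ ∈ rH K m := mul_mem (rN_conj_rH hn₀ hh) hsq
      refine Or.inr ⟨u₁, hu₁, h₁ * (n₀ * h₂ * n₀⁻¹), mul_mem hh₁ (rN_conj_rH hn₀ hh₂),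
        (h₂⁻¹ * u₂ * h₂) * u', mul_mem (rH_conj_rU' hh₂ hu₂) hu', ?_⟩
      calc n₀ * (u * h * n₀ * u') = (n₀ * u * n₀⁻¹) * (n₀ * h * n₀⁻¹ * (n₀ * n₀)) * u' := by group
        _ = (u₁ * h₁ * n₀ * u₂) * h₂ * u' := by rw [e]
        _ = _ := by group

include hm hn₀ hn₀H in
theorem reeX_n0_inv_mul {g : GL chevG2.Idx K} (hg : g ∈ reeX K m n₀) : n₀⁻¹ * g ∈ reeX K m n₀ := by
  have hsq := (rN_mul_mem hm hn₀ hn₀ hn₀H hn₀H).1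
  have : n₀⁻¹ * g = (n₀ * n₀)⁻¹ * (n₀ * g) := by group
  rw [this]
  exact reeX_rH_mul (inv_mem hsq) (reeX_n0_mul hm hn₀ hn₀H hg)

include hm hn₀ hn₀H in
/-- `G¹ = U¹ H¹ ∪ U¹ H¹ n₀ U¹`. -/
theorem twistedG2_subset_reeX {g : GL chevG2.Idx K} (hg : g ∈ twistedG2 K (3 ^ m)) :
    g ∈ reeX K m n₀ := by
  have hle : twistedG2 K (3 ^ m) ≤ Subgroup.closure ((rU K m : Set (GL chevG2.Idx K)) ∪ {n₀}) := by
    rw [twistedG2_eq, Subgroup.closure_le]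
    rintro x (⟨t, a, b, rfl⟩ | ⟨t, a, b, rfl⟩)
    · exact Subgroup.subset_closure (Or.inl (mem_rU.mpr ⟨uA_mem_pos _ _ _ _ _ _, ru_mem_twisted t a b⟩))
    · rcases rN_cases hm hn₀ with h | ⟨h, hh, e⟩
      · exact absurd h hn₀H
      have hv : rv m t a b ∈ chevG2.negUnipotent K :=
        nuGL_pos good3_G2.toGood2 T0_G2 T25_G2 (uA_mem_pos _ _ _ _ _ _)
      have hu : n₀⁻¹ * rv m t a b * n₀ ∈ rU K m := by
        refine mem_rU.mpr ⟨?_, mul_mem (mul_mem (inv_mem (mem_rN.mp hn₀).2) (rv_mem_twisted t a b))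
          (mem_rN.mp hn₀).2⟩
        rw [e]; exact hnw_conj_neg hh hv
      have e2 : rv m t a b = n₀ * (n₀⁻¹ * rv m t a b * n₀) * n₀⁻¹ := by group
      rw [e2]
      have hn₀c : n₀ ∈ Subgroup.closure ((rU K m : Set (GL chevG2.Idx K)) ∪ {n₀}) :=
        Subgroup.subset_closure (Or.inr rfl)
      exact mul_mem (mul_mem hn₀c (Subgroup.subset_closure (Or.inl hu))) (inv_mem hn₀c)
  have key : ∀ y ∈ Subgroup.closure ((rU K m : Set (GL chevG2.Idx K)) ∪ {n₀}), y ∈ reeX K m n₀ := by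
    intro y hy
    induction hy using Subgroup.closure_induction_left with
    | one => exact reeX_one
    | mul_left x hx y _ ih =>
      rcases hx with hx | hx
      · exact reeX_rU_mul hx ih
      · rw [Set.mem_singleton_iff] at hx
        subst hx
        exact reeX_n0_mul hm hn₀ hn₀H ih
    | inv_mul_cancel x hx y _ ih =>
      rcases hx with hx | hx
      · exact reeX_rU_mul (inv_mem hx) ih
      · rw [Set.mem_singleton_iff] at hx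
        subst hx
        exact reeX_n0_inv_mul hm hn₀ hn₀H ih
  exact key g (hle hg)

end G2

end Cfsg.Agent.Helper7.Chev
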