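import Mathlib
import Cfsg.Agent.Helper7.ChevRee15
import Cfsg.Agent.Helper7.BNRankOneMk

set_option autoImplicit false
set_option linter.unusedSectionVars false
set_option linter.unusedVariables false

/-!
The twisted group of type `G₂`: `B¹ = U¹ H¹`, `N¹ = H¹ ∪ n₀ H¹`, the `(B, N)`-pair.
-/

namespace Cfsg.Agent.Helper7.Chev

open Cfsg Cfsg.Lie Matrix

section G2

variable {K : Type*} [Field K] [CharP K 3] {m : ℕ} (hm : ∀ t : K, t ^ 3 ^ (2 * m + 1) = t)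

omit [CharP K 3] in
theorem rU_le_borel {u : GL chevG2.Idx K} (hu : u ∈ rU K m) : u ∈ chevG2.borelSubgroup K :=
  Subgroup.mem_sup_left (mem_rU.mp hu).1

omit [CharP K 3] in
theorem rH_le_borel {h : GL chevG2.Idx K} (hh : h ∈ rH K m) : h ∈ chevG2.borelSubgroup K :=
  Subgroup.mem_sup_right (mem_rH.mp hh).1

include hm in
/-- An element of `N¹` outside `H` is not in `B`. -/
theorem rN_not_mem_borel {n : GL chevG2.Idx K} (hn : n ∈ rN K m)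
    (hnH : n ∉ chevG2.diagonalSubgroup K) : n ∉ chevG2.borelSubgroup K := by
  rcases rN_cases hm hn with h | ⟨h, hh, rfl⟩
  · exact absurd h hnH
  · exact hnw_not_mem_borel hh

include hm in
/-- `B ∩ G¹ = U¹ H¹`. -/
theorem mem_borel_inf_twistedG2 {g : GL chevG2.Idx K} :
    g ∈ chevG2.borelSubgroup K ⊓ twistedG2 K (3 ^ m) ↔ ∃ u ∈ rU K m, ∃ h ∈ rH K m, g = u * h := by
  constructor
  · intro hg
    rw [Subgroup.mem_inf] at hg
    obtain ⟨n₀, hn₀, hn₀H⟩ := exists_rN_not_mem hm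
    rcases twistedG2_subset_reeX hm hn₀ hn₀H hg.2 with h | ⟨u, hu, h, hh, u', hu', e⟩
    · exact h
    · exfalso
      apply rN_not_mem_borel hm hn₀ hn₀H
      have : n₀ = h⁻¹ * u⁻¹ * g * u'⁻¹ := by rw [e]; group
      rw [this]
      exact mul_mem (mul_mem (mul_mem (inv_mem (rH_le_borel hh)) (inv_mem (rU_le_borel hu))) hg.1)
        (inv_mem (rU_le_borel hu'))
  · rintro ⟨u, hu, h, hh, rfl⟩
    exact Subgroup.mem_inf.mpr ⟨mul_mem (rU_le_borel hu) (rH_le_borel hh),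
      mul_mem (mem_rU.mp hu).2 (mem_rH.mp hh).2⟩

variable {n₀ : GL chevG2.Idx K} (hn₀ : n₀ ∈ rN K m) (hn₀H : n₀ ∉ chevG2.diagonalSubgroup K)

include hm hn₀ hn₀H in
/-- Every element of `G¹` is in `B ∩ G¹` or in `(B ∩ G¹) n₀ (B ∩ G¹)`. -/
theorem twistedG2_cover {g : GL chevG2.Idx K} (hg : g ∈ twistedG2 K (3 ^ m)) :
    g ∈ chevG2.borelSubgroup K ⊓ twistedG2 K (3 ^ m) ∨
      ∃ b ∈ chevG2.borelSubgroup K ⊓ twistedG2 K (3 ^ m),
        ∃ b' ∈ chevG2.borelSubgroup K ⊓ twistedG2 K (3 ^ m), g = b * n₀ * b' := by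
  rcases twistedG2_subset_reeX hm hn₀ hn₀H hg with h | ⟨u, hu, h, hh, u', hu', e⟩
  · exact Or.inl ((mem_borel_inf_twistedG2 hm).mpr h)
  · right
    refine ⟨u * h, (mem_borel_inf_twistedG2 hm).mpr ⟨u, hu, h, hh, rfl⟩, u',
      (mem_borel_inf_twistedG2 hm).mpr ⟨u', hu', 1, one_mem _, by rw [mul_one]⟩, e⟩

include hm hn₀ hn₀H in
/-- `N¹ = H¹ ∪ n₀ H¹`. -/
theorem rN_cases' {n : GL chevG2.Idx K} (hn : n ∈ rN K m) : n ∈ rH K m ∨ n₀⁻¹ * n ∈ rH K m := by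
  by_cases h : n ∈ chevG2.diagonalSubgroup K
  · exact Or.inl (mem_rH.mpr ⟨h, (mem_rN.mp hn).2⟩)
  · exact Or.inr (rN_mul_mem hm hn₀ hn hn₀H h).2.2

include hm in
/-- The `(B, N)`-pair of the twisted group of type `G₂`. -/
theorem ree_exists_bnPair :
    ∃ P : Cfsg.BNPair ↥(twistedG2 K (3 ^ m)),
      P.B = (chevG2.borelSubgroup K ⊓ twistedG2 K (3 ^ m)).subgroupOf (twistedG2 K (3 ^ m)) ∧
      P.N = (chevG2.monomialSubgroup K ⊓ twistedG2 K (3 ^ m)).subgroupOf (twistedG2 K (3 ^ m)) := by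
  obtain ⟨n₀, hn₀, hn₀H⟩ := exists_rN_not_mem hm
  have hn₀G : n₀ ∈ twistedG2 K (3 ^ m) := (mem_rN.mp hn₀).2
  have hBNH := borel_inf_monomial (F := K) good3_G2.toGood2 T0_G2 T6_G2 T8_G2 T9_G2
  have hHB : chevG2.diagonalSubgroup K ≤ chevG2.borelSubgroup K := le_sup_right
  have memB : ∀ x : ↥(twistedG2 K (3 ^ m)),
      x ∈ (chevG2.borelSubgroup K ⊓ twistedG2 K (3 ^ m)).subgroupOf (twistedG2 K (3 ^ m)) ↔
        (x : GL chevG2.Idx K) ∈ chevG2.borelSubgroup K := by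
    intro x
    rw [Subgroup.mem_subgroupOf, Subgroup.mem_inf]
    exact ⟨fun h => h.1, fun h => ⟨h, x.2⟩⟩
  have memN : ∀ x : ↥(twistedG2 K (3 ^ m)),
      x ∈ (chevG2.monomialSubgroup K ⊓ twistedG2 K (3 ^ m)).subgroupOf (twistedG2 K (3 ^ m)) ↔
        (x : GL chevG2.Idx K) ∈ chevG2.monomialSubgroup K := by
    intro x
    rw [Subgroup.mem_subgroupOf, Subgroup.mem_inf]
    exact ⟨fun h => h.1, fun h => ⟨h, x.2⟩⟩
  have hcover : ∀ g : ↥(twistedG2 K (3 ^ m)),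
      g ∈ (chevG2.borelSubgroup K ⊓ twistedG2 K (3 ^ m)).subgroupOf (twistedG2 K (3 ^ m)) ∨
      ∃ b ∈ (chevG2.borelSubgroup K ⊓ twistedG2 K (3 ^ m)).subgroupOf (twistedG2 K (3 ^ m)),
      ∃ b' ∈ (chevG2.borelSubgroup K ⊓ twistedG2 K (3 ^ m)).subgroupOf (twistedG2 K (3 ^ m)),
        g = b * (⟨n₀, hn₀G⟩ : ↥(twistedG2 K (3 ^ m))) * b' := by
    intro g
    rcases twistedG2_cover hm hn₀ hn₀H g.2 with h | ⟨b, hb, b', hb', e⟩
    · exact Or.inl ((memB g).mpr (Subgroup.mem_inf.mp h).1)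
    · right
      refine ⟨⟨b, (Subgroup.mem_inf.mp hb).2⟩, (memB _).mpr (Subgroup.mem_inf.mp hb).1,
        ⟨b', (Subgroup.mem_inf.mp hb').2⟩, (memB _).mpr (Subgroup.mem_inf.mp hb').1, ?_⟩
      exact Subtype.ext e
  have hnorm : ∀ n ∈ (chevG2.monomialSubgroup K ⊓ twistedG2 K (3 ^ m)).subgroupOf (twistedG2 K (3 ^ m)),
      ∀ t ∈ (chevG2.borelSubgroup K ⊓ twistedG2 K (3 ^ m)).subgroupOf (twistedG2 K (3 ^ m)) ⊓
        (chevG2.monomialSubgroup K ⊓ twistedG2 K (3 ^ m)).subgroupOf (twistedG2 K (3 ^ m)),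
      n * t * n⁻¹ ∈ (chevG2.borelSubgroup K ⊓ twistedG2 K (3 ^ m)).subgroupOf (twistedG2 K (3 ^ m)) := by
    intro n hn t ht
    rw [memN] at hn
    rw [Subgroup.mem_inf, memB, memN] at ht
    rw [memB]
    have htH : (t : GL chevG2.Idx K) ∈ chevG2.diagonalSubgroup K := by
      rw [← hBNH]; exact Subgroup.mem_inf.mpr ht
    rw [Subgroup.coe_mul, Subgroup.coe_mul, Subgroup.coe_inv]
    exact hHB (conj_mem_diagonal (monomialSubgroup_le_normalizer good3_G2.toGood2 hn) htH)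
  have hsq : (⟨n₀, hn₀G⟩ : ↥(twistedG2 K (3 ^ m))) * ⟨n₀, hn₀G⟩ ∈
      (chevG2.borelSubgroup K ⊓ twistedG2 K (3 ^ m)).subgroupOf (twistedG2 K (3 ^ m)) := by
    rw [memB]
    exact rH_le_borel (rN_mul_mem hm hn₀ hn₀ hn₀H hn₀H).1
  have hN : ∀ n ∈ (chevG2.monomialSubgroup K ⊓ twistedG2 K (3 ^ m)).subgroupOf (twistedG2 K (3 ^ m)),
      n ∈ (chevG2.borelSubgroup K ⊓ twistedG2 K (3 ^ m)).subgroupOf (twistedG2 K (3 ^ m)) ∨
      (⟨n₀, hn₀G⟩ : ↥(twistedG2 K (3 ^ m)))⁻¹ * n ∈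
        (chevG2.borelSubgroup K ⊓ twistedG2 K (3 ^ m)).subgroupOf (twistedG2 K (3 ^ m)) := by
    intro n hn
    rw [memN] at hn
    have hn' : (n : GL chevG2.Idx K) ∈ rN K m := mem_rN.mpr ⟨hn, n.2⟩
    rcases rN_cases' hm hn₀ hn₀H hn' with h | h
    · exact Or.inl ((memB n).mpr (rH_le_borel h))
    · right
      rw [memB]
      exact rH_le_borel h
  have hne : ∃ b ∈ (chevG2.borelSubgroup K ⊓ twistedG2 K (3 ^ m)).subgroupOf (twistedG2 K (3 ^ m)),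
      (⟨n₀, hn₀G⟩ : ↥(twistedG2 K (3 ^ m))) * b * ⟨n₀, hn₀G⟩ ∉
        (chevG2.borelSubgroup K ⊓ twistedG2 K (3 ^ m)).subgroupOf (twistedG2 K (3 ^ m)) := by
    have hu : ru m (1 : K) 0 0 ∈ rU K m := mem_rU.mpr ⟨uA_mem_pos _ _ _ _ _ _, ru_mem_twisted 1 0 0⟩
    have hu1 : ru m (1 : K) 0 0 ≠ 1 := by
      intro h
      rw [← ru_zero (m := m)] at h
      exact one_ne_zero (ru_injective h).1
    refine ⟨⟨ru m 1 0 0, (mem_rU.mp hu).2⟩, (memB _).mpr (rU_le_borel hu), ?_⟩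
    rw [memB]
    intro hc
    change n₀ * ru m 1 0 0 * n₀ ∈ _ at hc
    -- then `n₀ u n₀⁻¹ ∈ B ∩ V`
    rcases rN_cases hm hn₀ with h | ⟨h, hh, e⟩
    · exact absurd h hn₀H
    have hv : n₀ * ru m (1 : K) 0 0 * n₀⁻¹ ∈ chevG2.negUnipotent K := by
      rw [e]; exact hnw_conj_pos hh (mem_rU.mp hu).1
    have hb : n₀ * ru m (1 : K) 0 0 * n₀⁻¹ ∈ chevG2.borelSubgroup K := by
      have e2 : n₀ * ru m (1 : K) 0 0 * n₀⁻¹ = (n₀ * ru m 1 0 0 * n₀) * (n₀ * n₀)⁻¹ := by group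
      rw [e2]
      exact mul_mem hc (inv_mem (rH_le_borel (rN_mul_mem hm hn₀ hn₀ hn₀H hn₀H).1))
    have : n₀ * ru m (1 : K) 0 0 * n₀⁻¹ ∈ chevG2.borelSubgroup K ⊓ chevG2.negUnipotent K :=
      ⟨hb, hv⟩
    rw [borel_inf_negUnipotent good3_G2.toGood2 T0_G2, Subgroup.mem_bot] at this
    apply hu1
    calc ru m (1 : K) 0 0 = n₀⁻¹ * (n₀ * ru m 1 0 0 * n₀⁻¹) * n₀ := by group
      _ = 1 := by rw [this]; group
  obtain ⟨P, hPB, hPN, _⟩ := BN.exists_bnPair_rankOne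
    ((chevG2.borelSubgroup K ⊓ twistedG2 K (3 ^ m)).subgroupOf (twistedG2 K (3 ^ m)))
    ((chevG2.monomialSubgroup K ⊓ twistedG2 K (3 ^ m)).subgroupOf (twistedG2 K (3 ^ m)))
    (⟨n₀, hn₀G⟩ : ↥(twistedG2 K (3 ^ m))) ((memN _).mpr (mem_rN.mp hn₀).1) hcover hnorm hsq hN hne
  exact ⟨P, hPB, hPN⟩

end G2

end Cfsg.Agent.Helper7.Chev
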