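import Mathlib
import Cfsg.Agent.Helper7.ChevRee8

set_option autoImplicit false
set_option linter.unusedSectionVars false
set_option linter.unusedVariables false

/-!
The group `U¹ = G¹ ∩ U` of the twisted group of type `G₂` over a finite field.
-/

namespace Cfsg.Agent.Helper7.Chev

open Cfsg Cfsg.Lie Matrix

/-- A finite field with `3 ^ n` elements has characteristic 3. -/
theorem charP_three_of_card {K : Type*} [Field K] [Fintype K] {n : ℕ} (hn : 0 < n)
    (hK : Fintype.card K = 3 ^ n) : CharP K 3 := by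
  obtain ⟨p, hp⟩ := CharP.exists K
  obtain ⟨k, hprime, hcard⟩ := FiniteField.card K p
  rw [hK] at hcard
  have hdvd : p ∣ 3 ^ n := by
    rw [hcard]
    exact dvd_pow_self p k.ne_zero
  have h3 : p ∣ 3 := hprime.dvd_of_dvd_pow hdvd
  have : p = 3 := (Nat.prime_dvd_prime_iff_eq hprime Nat.prime_three).mp h3
  rw [this] at hp
  exact hp

theorem pow_card_three {K : Type*} [Field K] [Fintype K] {n : ℕ} (hK : Fintype.card K = 3 ^ n)
    (t : K) : t ^ 3 ^ n = t := by
  rw [← hK]
  exact FiniteField.pow_card t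

section G2

variable {K : Type*} [Field K] [CharP K 3] {m : ℕ} (hm : ∀ t : K, t ^ 3 ^ (2 * m + 1) = t)

include hm in
/-- The parametrisation of `U¹`. -/
theorem ree_posInf_bijective :
    Function.Bijective (fun p : K × K × K =>
      (⟨ru m p.1 p.2.1 p.2.2, (mem_pos_inf_twistedG2 hm).mpr ⟨_, _, _, rfl⟩⟩ :
        ↥(chevG2.posUnipotent K ⊓ twistedG2 K (3 ^ m)))) := by
  constructor
  · rintro ⟨t, u, v⟩ ⟨t', u', v'⟩ h
    have := ru_injective (congrArg Subtype.val h)
    simp only at this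
    obtain ⟨rfl, rfl, rfl⟩ := this
    rfl
  · rintro ⟨g, hg⟩
    obtain ⟨t, u, v, rfl⟩ := (mem_pos_inf_twistedG2 hm).mp hg
    exact ⟨(t, u, v), rfl⟩

include hm in
theorem ree_card_posInf [Fintype K] :
    Nat.card ↥(chevG2.posUnipotent K ⊓ twistedG2 K (3 ^ m)) = Fintype.card K ^ 3 := by
  rw [← Nat.card_congr (Equiv.ofBijective _ (ree_posInf_bijective hm)), Nat.card_eq_fintype_card,
    Fintype.card_prod, Fintype.card_prod]
  ring

end G2

/-- The statement of S1101. -/
theorem ree_S1101 {K : Type*} [Field K] [Fintype K] {m : ℕ} (hK : Fintype.card K = 3 ^ (2 * m + 1)) :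
    (∀ g : GL chevG2.Idx K, g ∈ chevG2.posUnipotent K ⊓ twistedG2 K (3 ^ m) ↔
      ∃ t u v : K, (g : Matrix chevG2.Idx chevG2.Idx K) = chevG2.wordMat K (reeWordU (3 ^ m) t u v)) ∧
    Nat.card ↥(chevG2.posUnipotent K ⊓ twistedG2 K (3 ^ m)) = (3 ^ (2 * m + 1)) ^ 3 := by
  haveI := charP_three_of_card (by omega) hK
  have hm := pow_card_three hK
  constructor
  · intro g
    rw [mem_pos_inf_twistedG2 hm]
    constructor
    · rintro ⟨t, u, v, rfl⟩
      exact ⟨t, u, v, ru_coe t u v⟩
    · rintro ⟨t, u, v, h⟩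
      refine ⟨t, u, v, ?_⟩
      apply Units.ext
      rw [h, ru_coe]
  · rw [ree_card_posInf hm, hK]

end Cfsg.Agent.Helper7.Chev
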