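import Mathlib
import Cfsg.Agent.Helper7.ChevRee16
import Cfsg.Agent.Helper7.ChevRee9

set_option autoImplicit false
set_option linter.unusedSectionVars false
set_option linter.unusedVariables false

/-!
The twisted group of type `G₂`: `N¹ / H¹` has order 2; the statements over a finite field.
-/

namespace Cfsg.Agent.Helper7.Chev

open Cfsg Cfsg.Lie Matrix

section G2

variable {K : Type*} [Field K] [CharP K 3] {m : ℕ} (hm : ∀ t : K, t ^ 3 ^ (2 * m + 1) = t)

open Classical in
/-- The homomorphism of `N¹` onto the group of order 2 with kernel `H¹`. -/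
noncomputable def reeSign (hm : ∀ t : K, t ^ 3 ^ (2 * m + 1) = t) :
    ↥(chevG2.monomialSubgroup K ⊓ twistedG2 K (3 ^ m)) →* Multiplicative (ZMod 2) where
  toFun n := if (n : GL chevG2.Idx K) ∈ chevG2.diagonalSubgroup K then 1 else Multiplicative.ofAdd 1
  map_one' := by
    rw [if_pos]
    exact one_mem _
  map_mul' a b := by
    have ha : (a : GL chevG2.Idx K) ∈ rN K m := a.2
    have hb : (b : GL chevG2.Idx K) ∈ rN K m := b.2
    by_cases h1 : (a : GL chevG2.Idx K) ∈ chevG2.diagonalSubgroup K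
    · by_cases h2 : (b : GL chevG2.Idx K) ∈ chevG2.diagonalSubgroup K
      · rw [if_pos h1, if_pos h2, if_pos (by rw [Subgroup.coe_mul]; exact mul_mem h1 h2), one_mul]
      · rw [if_pos h1, if_neg h2, if_neg, one_mul]
        rw [Subgroup.coe_mul]
        intro hc
        apply h2
        have : (b : GL chevG2.Idx K) = (a : GL chevG2.Idx K)⁻¹ * ((a : GL chevG2.Idx K) * b) := by group
        rw [this]
        exact mul_mem (inv_mem h1) hc
    · by_cases h2 : (b : GL chevG2.Idx K) ∈ chevG2.diagonalSubgroup K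
      · rw [if_neg h1, if_pos h2, if_neg, mul_one]
        rw [Subgroup.coe_mul]
        intro hc
        apply h1
        have : (a : GL chevG2.Idx K) = ((a : GL chevG2.Idx K) * b) * (b : GL chevG2.Idx K)⁻¹ := by group
        rw [this]
        exact mul_mem hc (inv_mem h2)
      · rw [if_neg h1, if_neg h2, if_pos]
        · rfl
        · rw [Subgroup.coe_mul]
          exact (mem_rH.mp (rN_mul_mem hm ha hb h1 h2).1).1

theorem reeSign_of_mem {n : ↥(chevG2.monomialSubgroup K ⊓ twistedG2 K (3 ^ m))}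
    (h : (n : GL chevG2.Idx K) ∈ chevG2.diagonalSubgroup K) : reeSign hm n = 1 := by
  classical
  change (if (n : GL chevG2.Idx K) ∈ chevG2.diagonalSubgroup K then (1 : Multiplicative (ZMod 2))
    else Multiplicative.ofAdd 1) = 1
  rw [if_pos h]

theorem reeSign_of_not_mem {n : ↥(chevG2.monomialSubgroup K ⊓ twistedG2 K (3 ^ m))}
    (h : (n : GL chevG2.Idx K) ∉ chevG2.diagonalSubgroup K) :
    reeSign hm n = Multiplicative.ofAdd 1 := by
  classical
  change (if (n : GL chevG2.Idx K) ∈ chevG2.diagonalSubgroup K then (1 : Multiplicative (ZMod 2))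
    else Multiplicative.ofAdd 1) = _
  rw [if_neg h]

include hm in
/-- `N¹ / H¹` has order 2. -/
theorem ree_exists_sign :
    ∃ φ : ↥(chevG2.monomialSubgroup K ⊓ twistedG2 K (3 ^ m)) →* Multiplicative (ZMod 2),
      Function.Surjective φ ∧
      φ.ker = (chevG2.diagonalSubgroup K ⊓ twistedG2 K (3 ^ m)).subgroupOf
        (chevG2.monomialSubgroup K ⊓ twistedG2 K (3 ^ m)) := by
  refine ⟨reeSign hm, ?_, ?_⟩
  · obtain ⟨n₀, hn₀, hn₀H⟩ := exists_rN_not_mem hm
    intro z
    have hz : z = 1 ∨ z = Multiplicative.ofAdd 1 := by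
      revert z; decide
    rcases hz with rfl | rfl
    · exact ⟨1, map_one _⟩
    · exact ⟨⟨n₀, hn₀⟩, reeSign_of_not_mem hm hn₀H⟩
  · ext n
    rw [MonoidHom.mem_ker, Subgroup.mem_subgroupOf, Subgroup.mem_inf]
    constructor
    · intro h
      by_cases h1 : (n : GL chevG2.Idx K) ∈ chevG2.diagonalSubgroup K
      · exact ⟨h1, (Subgroup.mem_inf.mp n.2).2⟩
      · rw [reeSign_of_not_mem hm h1] at h
        exact absurd h (by decide)
    · intro h
      exact reeSign_of_mem hm h.1

end G2

/-- The statement of S1091. -/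
theorem ree_S1091 {K : Type*} [Field K] [Fintype K] {m : ℕ} (hK : Fintype.card K = 3 ^ (2 * m + 1)) :
    ∃ P : Cfsg.BNPair ↥(twistedG2 K (3 ^ m)),
      P.B = (chevG2.borelSubgroup K ⊓ twistedG2 K (3 ^ m)).subgroupOf (twistedG2 K (3 ^ m)) ∧
      P.N = (chevG2.monomialSubgroup K ⊓ twistedG2 K (3 ^ m)).subgroupOf (twistedG2 K (3 ^ m)) := by
  haveI := charP_three_of_card (by omega) hK
  exact ree_exists_bnPair (pow_card_three hK)

/-- The statement of S1115. -/
theorem ree_S1115 {K : Type*} [Field K] [Fintype K] {m : ℕ} (hK : Fintype.card K = 3 ^ (2 * m + 1)) :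
    ∃ φ : ↥(chevG2.monomialSubgroup K ⊓ twistedG2 K (3 ^ m)) →* Multiplicative (ZMod 2),
      Function.Surjective φ ∧
      φ.ker = (chevG2.diagonalSubgroup K ⊓ twistedG2 K (3 ^ m)).subgroupOf
        (chevG2.monomialSubgroup K ⊓ twistedG2 K (3 ^ m)) := by
  haveI := charP_three_of_card (by omega) hK
  exact ree_exists_sign (pow_card_three hK)

end Cfsg.Agent.Helper7.Chev
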