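import Mathlib
import Cfsg.Agent.Helper7.ChevRee17
import Cfsg.Agent.Helper7.ChevCardH

set_option autoImplicit false
set_option linter.unusedSectionVars false
set_option linter.unusedVariables false

/-!
The torus of the Chevalley group of type `G₂`, the action of the twisting automorphism on it, and the fixed elements
`h(s) = h_a(θ s) h_b(s)`.
-/

namespace Cfsg.Agent.Helper7.Chev

open Cfsg Cfsg.Lie Matrix

section torus

variable {K : Type*} [Field K]

theorem hGL_congr' {D : ChevalleyDatum} (hG1 : Good1 D) {r r' : ℕ} (h : r = r') (hr : r < D.nroots)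
    (hr' : r' < D.nroots) {c c' : K} (hcc : c = c') (hc : c ≠ 0) (hc' : c' ≠ 0) :
    (hGL hG1 hr c hc : GL D.Idx K) = hGL hG1 hr' c' hc' := by
  subst h; subst hcc; rfl

/-- The parameters of a torus element of `G₂`. -/
def g2c (c₀ c₁ : Kˣ) : Fin chevG2.rank → Kˣ := fun i => if i.val = 0 then c₀ else c₁

theorem g2c_mul (c₀ c₁ d₀ d₁ : Kˣ) : g2c c₀ c₁ * g2c d₀ d₁ = g2c (c₀ * d₀) (c₁ * d₁) := by
  funext i
  unfold g2c
  rw [Pi.mul_apply]
  split_ifs <;> rfl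

theorem g2c_surj (c : Fin chevG2.rank → Kˣ) : c = g2c (c ⟨0, by decide⟩) (c ⟨1, by decide⟩) := by
  funext i
  unfold g2c
  have hi : i.val < 2 := i.2
  by_cases h : i.val = 0
  · rw [if_pos h]; congr 1; exact Fin.ext h
  · rw [if_neg h]; congr 1; apply Fin.ext; change i.val = 1; omega

/-- The torus element `h_a(c₀) h_b(c₁)` of `G₂`. -/
noncomputable def tG2 (c₀ c₁ : Kˣ) : GL chevG2.Idx K := torusHom chevG2 K (g2c c₀ c₁)

theorem tG2_mul (c₀ c₁ d₀ d₁ : Kˣ) : tG2 c₀ c₁ * tG2 d₀ d₁ = tG2 (c₀ * d₀) (c₁ * d₁) := by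
  unfold tG2
  rw [← map_mul, g2c_mul]

theorem tG2_one : tG2 (1 : Kˣ) 1 = 1 := by
  unfold tG2
  have : g2c (1 : Kˣ) 1 = 1 := by
    funext i; unfold g2c; split_ifs <;> rfl
  rw [this, map_one]

theorem tG2_inv (c₀ c₁ : Kˣ) : (tG2 c₀ c₁)⁻¹ = tG2 c₀⁻¹ c₁⁻¹ := by
  rw [inv_eq_iff_mul_eq_one, tG2_mul, mul_inv_cancel, mul_inv_cancel, tG2_one]

/-- `h_a(c)` as an invertible matrix. -/
noncomputable def gh7 (c : Kˣ) : GL chevG2.Idx K :=
  hGL good3_G2.toGood1 (r := 7) (by decide) (c : K) c.ne_zero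

/-- `h_b(c)` as an invertible matrix. -/
noncomputable def gh6 (c : Kˣ) : GL chevG2.Idx K :=
  hGL good3_G2.toGood1 (r := 6) (by decide) (c : K) c.ne_zero

theorem tG2_eq (c₀ c₁ : Kˣ) : tG2 c₀ c₁ = gh7 c₀ * gh6 c₁ := by
  apply Units.ext
  unfold tG2 gh7 gh6
  rw [torusHom_apply, tGL_coe, Units.val_mul, hGL_coe, hGL_coe]
  unfold tMat
  have h := prod_hMat_simple (F := K) good3_G2.toGood1 (List.range chevG2.rank)
    (fun i hi => List.mem_range.mp hi) (extc chevG2.rank (g2c c₀ c₁)) (fun i _ => extc_ne_zero _ i)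
  rw [← h]
  have e : List.range chevG2.rank = [0, 1] := by decide
  rw [e]
  simp only [List.map_cons, List.map_nil, List.prod_cons, List.prod_nil, mul_one]
  have e0 : extc chevG2.rank (g2c c₀ c₁) 0 = (c₀ : K) := by
    unfold extc; rw [dif_pos (by decide)]; rfl
  have e1 : extc chevG2.rank (g2c c₀ c₁) 1 = (c₁ : K) := by
    unfold extc; rw [dif_pos (by decide)]; rfl
  rw [e0, e1]
  rfl

theorem tG2_injective {c₀ c₁ d₀ d₁ : Kˣ} (h : tG2 c₀ c₁ = tG2 d₀ d₁) : c₀ = d₀ ∧ c₁ = d₁ := by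
  have h1 : tG2 (c₀ * d₀⁻¹) (c₁ * d₁⁻¹) = 1 := by
    rw [← tG2_mul, ← tG2_inv, h, mul_inv_cancel]
  unfold tG2 at h1
  rw [torusHom_ker] at h1
  have h9 := congrFun h1 (⟨9, by decide⟩ : Fin chevG2.nroots)
  have h11 := congrFun h1 (⟨11, by decide⟩ : Fin chevG2.nroots)
  rw [zact_apply] at h9 h11
  have hu : (Finset.univ : Finset (Fin chevG2.rank)) = {⟨0, by decide⟩, ⟨1, by decide⟩} := by decide
  rw [hu, Finset.prod_insert (by decide), Finset.prod_singleton] at h9 h11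
  have a1 : cartanM chevG2 ⟨0, by decide⟩ ⟨9, by decide⟩ = 1 := by decide
  have a2 : cartanM chevG2 ⟨1, by decide⟩ ⟨9, by decide⟩ = 0 := by decide
  have a3 : cartanM chevG2 ⟨0, by decide⟩ ⟨11, by decide⟩ = 0 := by decide
  have a4 : cartanM chevG2 ⟨1, by decide⟩ ⟨11, by decide⟩ = 1 := by decide
  rw [a1, a2] at h9
  rw [a3, a4] at h11
  simp only [zpow_one, zpow_zero, mul_one, one_mul, Pi.one_apply] at h9 h11
  have b0 : g2c (c₀ * d₀⁻¹) (c₁ * d₁⁻¹) ⟨0, by decide⟩ = c₀ * d₀⁻¹ := rfl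
  have b1 : g2c (c₀ * d₀⁻¹) (c₁ * d₁⁻¹) ⟨1, by decide⟩ = c₁ * d₁⁻¹ := rfl
  rw [b0] at h9
  rw [b1] at h11
  exact ⟨mul_inv_eq_one.mp h9, mul_inv_eq_one.mp h11⟩

theorem tG2_mem_diagonal (c₀ c₁ : Kˣ) : tG2 c₀ c₁ ∈ chevG2.diagonalSubgroup K := by
  rw [← torusHom_range good3_G2.toGood1]
  exact ⟨_, rfl⟩

theorem exists_tG2 {g : GL chevG2.Idx K} (hg : g ∈ chevG2.diagonalSubgroup K) :
    ∃ c₀ c₁ : Kˣ, g = tG2 c₀ c₁ := by
  rw [← torusHom_range good3_G2.toGood1] at hg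
  obtain ⟨c, rfl⟩ := hg
  refine ⟨c ⟨0, by decide⟩, c ⟨1, by decide⟩, ?_⟩
  unfold tG2
  rw [← g2c_surj]

theorem gh7_mem_group (c : Kˣ) : gh7 c ∈ chevG2.group K :=
  diagonalSubgroup_le_group good3_G2.toGood1 (hGL_mem_diagonal good3_G2.toGood2 _ _ _)

theorem gh6_mem_group (c : Kˣ) : gh6 c ∈ chevG2.group K :=
  diagonalSubgroup_le_group good3_G2.toGood1 (hGL_mem_diagonal good3_G2.toGood2 _ _ _)

theorem gh7_gh6_comm (c d : Kˣ) : gh7 c * gh6 d = gh6 d * gh7 c := by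
  apply Units.ext
  unfold gh7 gh6
  rw [Units.val_mul, Units.val_mul, hGL_coe, hGL_coe,
    hMat_eq_diagonal good3_G2.toGood1 (by decide) c.ne_zero,
    hMat_eq_diagonal good3_G2.toGood1 (by decide) d.ne_zero, Matrix.diagonal_mul_diagonal,
    Matrix.diagonal_mul_diagonal]
  congr 1
  funext v
  exact mul_comm _ _

end torus

section tau

variable {K : Type*} [Field K] [CharP K 3] {m : ℕ} (hm : ∀ t : K, t ^ 3 ^ (2 * m + 1) = t)

include hm in
theorem reeTau_gh7 (c : Kˣ) :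
    extFun (reeTau hm) (gh7 c) = gh6 (Units.map (reeTh K (m + 1) : K →* K) c) := by
  unfold gh7 gh6
  rw [(reeTau_rootAut hm).map_hGL good3_G2.toGood2 (r := 7) (by decide)]
  exact hGL_congr' good3_G2.toGood1 (by decide) _ _ rfl _ _

include hm in
theorem reeTau_gh6 (c : Kˣ) :
    extFun (reeTau hm) (gh6 c) = gh7 (Units.map (reeTh K m : K →* K) c) := by
  unfold gh7 gh6
  rw [(reeTau_rootAut hm).map_hGL good3_G2.toGood2 (r := 6) (by decide)]
  exact hGL_congr' good3_G2.toGood1 (by decide) _ _ rfl _ _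

include hm in
/-- The twisting automorphism on the torus. -/
theorem reeTau_tG2 (c₀ c₁ : Kˣ) :
    extFun (reeTau hm) (tG2 c₀ c₁) =
      tG2 (Units.map (reeTh K m : K →* K) c₁) (Units.map (reeTh K (m + 1) : K →* K) c₀) := by
  rw [tG2_eq, tG2_eq, extFun_mul _ (gh7_mem_group _) (gh6_mem_group _), reeTau_gh7, reeTau_gh6,
    gh7_gh6_comm]

/-- The fixed elements of the torus. -/
noncomputable def gh (K : Type*) [Field K] [CharP K 3] (m : ℕ) : Kˣ →* GL chevG2.Idx K where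
  toFun s := tG2 (Units.map (reeTh K m : K →* K) s) s
  map_one' := by rw [map_one, tG2_one]
  map_mul' a b := by rw [map_mul, tG2_mul]

theorem gh_apply (s : Kˣ) : gh K m s = tG2 (Units.map (reeTh K m : K →* K) s) s := rfl

theorem gh_injective : Function.Injective (gh K m) := by
  intro a b h
  exact (tG2_injective h).2

theorem gh_mem_diagonal (s : Kˣ) : gh K m s ∈ chevG2.diagonalSubgroup K := tG2_mem_diagonal _ _

include hm in
theorem reeTau_gh (s : Kˣ) : extFun (reeTau hm) (gh K m s) = gh K m s := by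
  rw [gh_apply, reeTau_tG2]
  congr 1
  apply Units.ext
  change reeTh K (m + 1) (reeTh K m (s : K)) = (s : K)
  exact reeTh_succ_reeTh hm _

include hm in
/-- A fixed element of the torus is an `h(s)`. -/
theorem exists_gh_of_fixed {g : GL chevG2.Idx K} (hg : g ∈ chevG2.diagonalSubgroup K)
    (hfix : extFun (reeTau hm) g = g) : ∃ s : Kˣ, g = gh K m s := by
  obtain ⟨c₀, c₁, rfl⟩ := exists_tG2 hg
  rw [reeTau_tG2] at hfix
  obtain ⟨h0, _⟩ := tG2_injective hfix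
  exact ⟨c₁, by rw [gh_apply, h0]⟩

end tau

end Cfsg.Agent.Helper7.Chev
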