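import Mathlib
import Cfsg.Agent.Helper7.ChevF4c
import Cfsg.Agent.Helper7.ChevRee18

set_option autoImplicit false
set_option linter.unusedSectionVars false
set_option linter.unusedVariables false

/-!
The subgroup `φ_{p₁}(θ g) φ_{p₄}(g)` (`g ∈ SL₂(K)`) of the twisted group of type `F₄`.
-/

namespace Cfsg.Agent.Helper7.Chev

open Cfsg Cfsg.Lie Matrix

variable {K : Type*} [Field K] [CharP K 2] {m : ℕ}

set_option maxRecDepth 100000 in
theorem ortho_F4_33_24 : Ortho chevF4 33 24 := by decide +kernel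

/-- The list of the two homomorphisms `g ↦ φ_{p₁}(θ g)` and `φ_{p₄}`. -/
noncomputable def f4PhiList (K : Type*) [Field K] [CharP K 2] (m : ℕ) :
    List (Matrix.SpecialLinearGroup (Fin 2) K →* GL chevF4.Idx K) :=
  [(phiHom good3_F4.toGood1 (r := 33) (by decide)).comp (Matrix.SpecialLinearGroup.map (f4Th K m)),
    phiHom good3_F4.toGood1 (r := 24) (by decide)]

theorem f4PhiList_pairwise :
    (f4PhiList K m).Pairwise fun φ ψ => ∀ x y, Commute (φ x) (ψ y) := by
  unfold f4PhiList
  simp only [List.pairwise_cons, List.mem_cons, List.not_mem_nil, or_false, forall_eq,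
    IsEmpty.forall_iff, implies_true, List.Pairwise.nil, and_true]
  intro x y
  exact phiHom_commute good3_F4.toGood2 good3_F4.t3 good3_F4.t4 (by decide) (by decide) ortho_F4_33_24 _ _

/-- The homomorphism `g ↦ φ_{p₁}(θ g) φ_{p₄}(g)`. -/
noncomputable def f4Phi (K : Type*) [Field K] [CharP K 2] (m : ℕ) :
    Matrix.SpecialLinearGroup (Fin 2) K →* GL chevF4.Idx K :=
  listHom (f4PhiList K m) f4PhiList_pairwise

theorem f4Phi_apply (g : Matrix.SpecialLinearGroup (Fin 2) K) :
    f4Phi K m g = phiHom good3_F4.toGood1 (r := 33) (by decide)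
        (Matrix.SpecialLinearGroup.map (f4Th K m) g) *
      phiHom good3_F4.toGood1 (r := 24) (by decide) g := by
  change listHomFun (f4PhiList K m) g = _
  unfold listHomFun f4PhiList
  simp only [List.map_cons, List.map_nil, List.prod_cons, List.prod_nil, mul_one]
  rfl

theorem f4Phi_upper (c : K) : f4Phi K m (upperSL c) = xP 33 24 m c := by
  rw [f4Phi_apply, map_upperSL, phiHom_upper', phiHom_upper']
  rfl

theorem f4Phi_lower (c : K) : f4Phi K m (lowerSL c) = xP 14 23 m c := by
  rw [f4Phi_apply, map_lowerSL, phiHom_lower', phiHom_lower']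
  rfl

/-- The image of `f4Phi` lies in the twisted group. -/
theorem f4Phi_mem (g : Matrix.SpecialLinearGroup (Fin 2) K) : f4Phi K m g ∈ twistedF4 K (2 ^ m) := by
  have h : (⊤ : Subgroup (Matrix.SpecialLinearGroup (Fin 2) K)) ≤
      (twistedF4 K (2 ^ m)).comap (f4Phi K m) := by
    rw [← sl2_generated, Subgroup.closure_le]
    rintro x (⟨t, rfl⟩ | ⟨t, rfl⟩)
    · show f4Phi K m (upperSL t) ∈ twistedF4 K (2 ^ m)
      rw [f4Phi_upper]
      exact xP_pos_mem_twisted _
    · show f4Phi K m (lowerSL t) ∈ twistedF4 K (2 ^ m)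
      rw [f4Phi_lower]
      exact xP_neg_mem_twisted _
  exact h (Subgroup.mem_top g)

/-- The element `n_{p₁} n_{p₄}` of `N`. -/
noncomputable def f4N1 (K : Type*) [Field K] : GL chevF4.Idx K := nWordGL good3_F4.toGood2 [0, 3]

omit [CharP K 2] in
theorem f4N1_eq : f4N1 K = nGL good3_F4.toGood1 (r := 33) (by decide) * nGL good3_F4.toGood1 (r := 24) (by decide) := by
  unfold f4N1
  rw [nWordGL_cons good3_F4.toGood2 (by decide : 0 < chevF4.rank),
    nWordGL_cons good3_F4.toGood2 (by decide : 3 < chevF4.rank), nWordGL_nil, mul_one]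
  rfl

theorem f4Phi_anti : f4Phi K m antiSL = f4N1 K := by
  rw [f4Phi_apply, map_antiSL, f4N1_eq]
  rfl

theorem f4N1_mem_twisted : f4N1 K ∈ twistedF4 K (2 ^ m) := by
  rw [← f4Phi_anti (m := m)]
  exact f4Phi_mem _

/-- `h_{p₁}(c)` and the like as invertible matrices. -/
noncomputable def fh (K : Type*) [Field K] (r : Fin 48) (c : Kˣ) : GL chevF4.Idx K :=
  hGL good3_F4.toGood1 (r := r.val) r.2 (c : K) c.ne_zero

omit [CharP K 2] in
theorem fh_mem_diagonal (r : Fin 48) (c : Kˣ) : fh K r c ∈ chevF4.diagonalSubgroup K :=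
  hGL_mem_diagonal good3_F4.toGood2 _ _ _

theorem f4Phi_diag (c : Kˣ) :
    f4Phi K m (diagSL (c : K) c.ne_zero) = fh K 33 (Units.map (f4Th K m : K →* K) c) * fh K 24 c := by
  rw [f4Phi_apply, map_diagSL]
  rfl

theorem fh_pair_mem_twisted (c : Kˣ) :
    fh K 33 (Units.map (f4Th K m : K →* K) c) * fh K 24 c ∈ twistedF4 K (2 ^ m) := by
  rw [← f4Phi_diag]
  exact f4Phi_mem _

end Cfsg.Agent.Helper7.Chev
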