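import Mathlib
import Cfsg.Agent.Helper7.ChevF4d
import Cfsg.Agent.Helper7.ChevF4N2

set_option autoImplicit false
set_option linter.unusedSectionVars false
set_option linter.unusedVariables false

/-!
The twisted group of type `F₄`: the element `n_b n_a n_b n_a` of `N` lies in the twisted group.
-/

namespace Cfsg.Agent.Helper7.Chev

open Cfsg Cfsg.Lie Matrix

section general

variable {D : ChevalleyDatum} {F : Type*} [Field F]

/-- The inverse of `n_r` as a word. -/
theorem nGL_inv_eq (hG : Good1 D) {r : ℕ} (hr : r < D.nroots) :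
    (nGL hG hr : GL D.Idx F)⁻¹ =
      xGL hG hr (-1 : F) * xGL hG (hG.neg_lt hr) (1 : F) * xGL hG hr (-1 : F) := by
  have e : (nGL hG hr : GL D.Idx F) =
      xGL hG hr (1 : F) * xGL hG (hG.neg_lt hr) (-1 : F) * xGL hG hr (1 : F) := by
    apply Units.ext
    rw [nGL_coe, Units.val_mul, Units.val_mul, xGL_coe, xGL_coe]
    unfold ChevalleyDatum.nMat ChevalleyDatum.nWord
    simp only [wordMat_cons, wordMat_nil, mul_one, inv_one, mul_assoc]
  rw [inv_eq_iff_mul_eq_one, e]
  calc xGL hG hr (1 : F) * xGL hG (hG.neg_lt hr) (-1 : F) * xGL hG hr (1 : F) *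
        (xGL hG hr (-1 : F) * xGL hG (hG.neg_lt hr) (1 : F) * xGL hG hr (-1 : F))
      = xGL hG hr (1 : F) * (xGL hG (hG.neg_lt hr) (-1 : F) * ((xGL hG hr (1 : F) * xGL hG hr (-1 : F)) *
          xGL hG (hG.neg_lt hr) (1 : F))) * xGL hG hr (-1 : F) := by simp only [mul_assoc]
    _ = 1 := by
        rw [xGL_mul, add_neg_cancel, xGL_zero, one_mul, xGL_mul, neg_add_cancel, xGL_zero, mul_one,
          xGL_mul, add_neg_cancel, xGL_zero]

end general

variable {K : Type*} [Field K] [CharP K 2] {m : ℕ}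

/-- The element `n_b n_a n_b n_a` of `N`. -/
noncomputable def f4N2 (K : Type*) [Field K] : GL chevF4.Idx K := nWordGL good3_F4.toGood2 [2, 1, 2, 1]

omit [CharP K 2] in
theorem f4N2_def : f4N2 K = nGL good3_F4.toGood1 (r := 25) (by decide) * nGL good3_F4.toGood1 (r := 27) (by decide) *
    nGL good3_F4.toGood1 (r := 25) (by decide) * nGL good3_F4.toGood1 (r := 27) (by decide) := by
  unfold f4N2
  rw [nWordGL_cons good3_F4.toGood2 (by decide : 2 < chevF4.rank),
    nWordGL_cons good3_F4.toGood2 (by decide : 1 < chevF4.rank),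
    nWordGL_cons good3_F4.toGood2 (by decide : 2 < chevF4.rank),
    nWordGL_cons good3_F4.toGood2 (by decide : 1 < chevF4.rank), nWordGL_nil, mul_one]
  simp only [mul_assoc]
  rfl

/-- `n_b n_a n_b n_a = x_S(1,0) y_S(0,1) x_S(1,1)`. -/
theorem f4N2_eq :
    f4N2 K = (quadPos K).xS m 1 0 * (quadNeg K).xS m 0 1 * (quadPos K).xS m 1 1 := by
  have hG1 := good3_F4.toGood1
  have key : (fx K 27 (-1) * fx K 20 1 * fx K 27 (-1)) * (fx K 25 (-1) * fx K 22 1 * fx K 25 (-1)) *
      (fx K 27 (-1) * fx K 20 1 * fx K 27 (-1)) * (fx K 25 (-1) * fx K 22 1 * fx K 25 (-1)) *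
      ((fx K 27 1 * fx K 25 1 * fx K 28 1) * (fx K 19 1 * fx K 17 1) * (fx K 27 1 * fx K 25 1 * fx K 30 1)) = 1 := by
    apply Units.ext
    have h := wordMat_castWord_diagonal (F := K) hG1 (p := 2) f4N2Word (by decide) (fun _ => 1) f4N2_F4
    have e : (Matrix.diagonal fun i : chevF4.Idx => (((fun _ => 1 : ℕ ⊕ ℕ → ℤ) (raw chevF4 i) : ℤ) : K)) = 1 := by
      ext i j
      simp [Matrix.diagonal_apply, Matrix.one_apply]
    rw [e] at h
    rw [Units.val_one, ← h]
    unfold castWord f4N2Word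
    simp only [List.map_cons, List.map_nil, wordMat_cons, wordMat_nil, mul_one, Units.val_mul, fx_coe,
      Int.cast_neg, Int.cast_one, mul_assoc]
    rfl
  have ea : (nGL hG1 (r := 27) (by decide) : GL chevF4.Idx K)⁻¹ = fx K 27 (-1) * fx K 20 1 * fx K 27 (-1) :=
    nGL_inv_eq hG1 _
  have eb : (nGL hG1 (r := 25) (by decide) : GL chevF4.Idx K)⁻¹ = fx K 25 (-1) * fx K 22 1 * fx K 25 (-1) :=
    nGL_inv_eq hG1 _
  rw [← ea, ← eb] at key
  have e1 : (quadPos K).xS m 1 0 = fx K 27 1 * fx K 25 1 * fx K 28 1 := by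
    unfold B2Quad.xS B2Quad.xQ quadPos
    simp only [map_one, map_zero, mul_one, add_zero, fx_zero]
  have e2 : (quadNeg K).xS m 0 1 = fx K 19 1 * fx K 17 1 := by
    unfold B2Quad.xS B2Quad.xQ quadNeg
    simp only [map_one, map_zero, mul_zero, zero_add, fx_zero, one_mul]
  have e3 : (quadPos K).xS m 1 1 = fx K 27 1 * fx K 25 1 * fx K 30 1 := by
    unfold B2Quad.xS B2Quad.xQ quadPos
    simp only [map_one, mul_one]
    rw [add_self_char2, fx_zero, mul_one]
  rw [e1, e2, e3, f4N2_def]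
  set A : GL chevF4.Idx K := nGL hG1 (r := 27) (by decide) with hA
  set B : GL chevF4.Idx K := nGL hG1 (r := 25) (by decide) with hB
  set X : GL chevF4.Idx K := fx K 27 1 * fx K 25 1 * fx K 28 1 * (fx K 19 1 * fx K 17 1) *
    (fx K 27 1 * fx K 25 1 * fx K 30 1) with hX
  have : X = B * A * B * A := by
    calc X = (B * A * B * A) * (A⁻¹ * B⁻¹ * A⁻¹ * B⁻¹ * X) := by group
      _ = B * A * B * A := by rw [key, mul_one]
  exact this.symm

theorem f4N2_mem_twisted : f4N2 K ∈ twistedF4 K (2 ^ m) := by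
  rw [f4N2_eq (m := m)]
  exact mul_mem (mul_mem (xS_pos_mem_twisted _ _) (xS_neg_mem_twisted _ _)) (xS_pos_mem_twisted _ _)

end Cfsg.Agent.Helper7.Chev
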