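import Mathlib
import Cfsg.Agent.Helper7.ChevWF4c0
import Cfsg.Agent.Helper7.ChevWF4c1
import Cfsg.Agent.Helper7.ChevWF4c2
import Cfsg.Agent.Helper7.ChevWF4c3
import Cfsg.Agent.Helper7.ChevWF4c4
import Cfsg.Agent.Helper7.ChevWF4c5

set_option autoImplicit false
set_option maxRecDepth 1000000
set_option maxHeartbeats 4000000

/-! The certificate for the Weyl group of type F4. -/

namespace Cfsg.Agent.Helper7.Chev

open Cfsg Cfsg.Lie

theorem wClosed_F4 : closedF chevF4 wR_F4 wL_F4 wN_F4 = true := by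
  apply closedF_of_chunks chevF4 wR_F4 wL_F4 wN_F4 192 6
  · intro j hj
    interval_cases j
    · exact wClosed_F4_0
    · exact wClosed_F4_1
    · exact wClosed_F4_2
    · exact wClosed_F4_3
    · exact wClosed_F4_4
    · exact wClosed_F4_5
  · decide +kernel

theorem wCert_F4 : WCert chevF4 wR_F4 wL_F4 wN_F4 wK_F4 :=
  ⟨wRefl_F4, rfl, by decide +kernel, wOk_F4, wClosed_F4, wKeys_F4, wNodup_F4⟩

end Cfsg.Agent.Helper7.Chev
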