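import Mathlib
import Cfsg.Agent.Helper7.ChevF4e
import Cfsg.Agent.Helper7.ChevRee10
import Cfsg.Agent.Helper7.ChevWF4All
import Cfsg.Agent.Helper7.ChevT6
import Cfsg.Agent.Helper7.ChevT9

set_option autoImplicit false
set_option linter.unusedSectionVars false
set_option linter.unusedVariables false

/-!
The twisted group of type `F₄`: the fixed elements of `N` under the twisting automorphism.
-/

namespace Cfsg.Agent.Helper7.Chev

open Cfsg Cfsg.Lie Matrix

section general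

variable {D : ChevalleyDatum} {F : Type*} [Field F] (hG : Good2 D) (hT : T0 D) (h6 : (tabOf D).T6)
  (h8 : (tabOf D).T8)

include hT h6 h8 in
/-- The element of `N` of a word lies in `H` if and only if the word acts trivially on the roots. -/
theorem nWordGL_mem_diagonal_iff {w : List ℕ} (hw : ∀ i ∈ w, i < D.rank) :
    (nWordGL hG w : GL D.Idx F) ∈ D.diagonalSubgroup F ↔ ∀ r < D.nroots, (tabOf D).reflWord w r = r := by
  constructor
  · intro h r hr
    have e : (nWordGL hG w : GL D.Idx F) = nWordGL hG [] * nWordGL hG w := by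
      rw [nWordGL_nil, one_mul]
    have := reflWord_eq_of_nWordGL_eq (F := F) hG hT h8 (a := []) (b := w) (by simp) hw h e r hr
    exact this.symm
  · intro h
    exact nWordGL_mem_diagonal_of_pos hG hT h6 h8 _ w rfl hw (fun s hs hsp => by rw [h s hs]; exact hsp)

end general

/-- The word commutes with the symmetry of the roots. -/
def f4Comm (T : Tab) (w : List ℕ) : Bool :=
  (List.range 48).all fun r => T.reflWord w (isoRho_F4 r) == isoRho_F4 (T.reflWord w r)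

/-- The words of the list of the Weyl group of `F₄` commuting with the symmetry of the roots. -/
def f4WFix : List (List ℕ) := [[], [0, 3], [1, 2, 1, 2], [0, 1, 3, 2, 1, 2], [1, 2, 1, 0, 2, 3], [0, 1, 3, 2, 1, 0, 2, 3],
  [1, 2, 1, 0, 2, 1, 3, 2, 1, 2], [0, 1, 2, 3, 2, 1, 0, 2, 1, 3, 2, 1], [1, 2, 1, 0, 2, 1, 3, 2, 1, 0, 2, 3],
  [0, 1, 2, 3, 2, 1, 0, 2, 1, 2, 3, 2, 1, 0], [1, 2, 1, 0, 2, 1, 2, 3, 2, 1, 0, 2, 1, 3, 2, 1],
  [0, 1, 2, 1, 3, 2, 1, 0, 2, 1, 2, 3, 2, 1, 0, 2, 1, 2], [1, 2, 1, 0, 2, 1, 2, 3, 2, 1, 0, 2, 1, 2, 3, 2, 1, 0],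
  [0, 1, 2, 1, 0, 3, 2, 1, 0, 2, 1, 2, 3, 2, 1, 0, 2, 1, 2, 3],
  [1, 0, 2, 1, 0, 2, 1, 2, 3, 2, 1, 0, 2, 1, 2, 3, 2, 1, 0, 2, 1, 2],
  [0, 1, 0, 2, 1, 0, 2, 1, 2, 3, 2, 1, 0, 2, 1, 2, 3, 2, 1, 0, 2, 1, 2, 3]]

set_option maxRecDepth 1000000 in
theorem f4WFix_fast : wL_F4.filter (f4Comm fastF4) = f4WFix := by decide +kernel

theorem f4WFix_eq : wL_F4.filter (f4Comm (tabOf chevF4)) = f4WFix := tab_F4 ▸ f4WFix_fast

theorem wList_F4 : WList chevF4 wL_F4 := wList_of_cert good3_F4.toGood2 wCert_F4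

theorem f4WFix_sub : ∀ w ∈ f4WFix, w ∈ wL_F4 := by
  intro w hw
  rw [← f4WFix_eq] at hw
  exact (List.mem_filter.mp hw).1

theorem f4WFix_lt : ∀ w ∈ f4WFix, ∀ i ∈ w, i < chevF4.rank := fun w hw =>
  (wList_F4.ok w (f4WFix_sub w hw)).1

section tau

variable {K : Type*} [Field K] [CharP K 2] {m : ℕ} (hm : ∀ t : K, t ^ 2 ^ (2 * m + 1) = t)

/-- A fixed element of `N` is the product of an element of `H` and the element of `N` of one of the 16 words. -/
theorem f4_mono_fixed {n : GL chevF4.Idx K} (hn : n ∈ chevF4.monomialSubgroup K)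
    (hfix : extFun (f4Tau hm) n = n) :
    ∃ w ∈ f4WFix, ∃ h ∈ chevF4.diagonalSubgroup K, n = h * nWordGL good3_F4.toGood2 w := by
  obtain ⟨w, hwW, h, hh, e⟩ := exists_rep (F := K) good3_F4.toGood2 T0_F4 T6_F4 T8_F4 T9_F4 wList_F4 hn
  have hw := (wList_F4.ok w hwW).1
  rw [e] at hfix
  have hcomm : ∀ r < 48, (tabOf chevF4).reflWord w (isoRho_F4 r) =
      isoRho_F4 ((tabOf chevF4).reflWord w r) := fun r hr =>
    (f4Tau_rootAut hm).reflWord_comm good3_F4.toGood2 T8_F4 hh hw hfix hr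
  refine ⟨w, ?_, h, hh, e⟩
  rw [← f4WFix_eq, List.mem_filter]
  refine ⟨hwW, ?_⟩
  unfold f4Comm
  rw [List.all_eq_true]
  intro r hr
  rw [beq_iff_eq]
  exact hcomm r (List.mem_range.mp hr)

end tau

end Cfsg.Agent.Helper7.Chev
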