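import Mathlib
import Cfsg.Agent.Helper7.ChevRootCent
import Cfsg.Agent.Helper7.ChevTabF4
import Cfsg.Agent.Helper7.ChevTabE6
import Cfsg.Agent.Helper7.ChevTabE7
import Cfsg.Agent.Helper7.ChevTabE8

set_option autoImplicit false
set_option linter.unusedSectionVars false
set_option linter.unusedVariables false

/-!
The centraliser of a root element: the table check and its consequences.
-/

namespace Cfsg.Agent.Helper7.Chev

open Cfsg Cfsg.Lie Matrix

/-- The table check for the centraliser of `x_{r₀}(1)`: the commutator formula of `r₀` with every positive root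
and with the negatives of the fundamental roots other than the `i₀`-th has only terms whose coefficient passes
the test `ok`; the Cartan integers of `r₀`; the reflection in the `i₀`-th fundamental root moves `r₀`. -/
def Tab.cenOK (T : Tab) (r₀ i₀ : ℕ) (ok : ℤ → Bool) : Bool :=
  ((List.range T.n).all fun s =>
    (!(decide (T.n / 2 ≤ s)) && !((List.range T.l).any fun j => j != i₀ && s == T.neg (T.simple j))) ||
      s == r₀ || (s != T.neg r₀ && (T.commTerms r₀ s).all fun c => ok c.2.1)) &&
  ((List.range T.l).all fun i => T.cartan i r₀ == if i = i₀ then 1 else 0) &&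
  (T.refl (T.simple i₀) r₀ != r₀) && decide (r₀ < T.n) && decide (i₀ < T.l)

variable {D : ChevalleyDatum} {F : Type*} [Field F]

theorem x_zero_cen (r : ℕ) : D.x F r (0 : F) = 1 := by
  unfold ChevalleyDatum.x
  split_ifs with h
  · exact xMat_zero D ⟨r, h⟩
  · rfl

/-- Root elements commute when all coefficients of the commutator formula vanish in the field. -/
theorem x_comm_of_coeff_zero (hG : Good3 D) {r s : ℕ} (hr : r < D.nroots) (hs : s < D.nroots)
    (hsr : s ≠ r) (hsn : s ≠ D.neg r)
    (hz : ∀ c ∈ D.commTerms r s, ((c.2.1 : ℤ) : F) = 0) (t u : F) :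
    D.x F r t * D.x F s u = D.x F s u * D.x F r t := by
  have hc := hG.comm (F := F) hr hs hsr hsn t u
  have hw : D.wordMat F (D.commWord F r s t u) = 1 := by
    unfold ChevalleyDatum.commWord
    generalize D.commTerms r s = L at hz
    induction L with
    | nil => rw [List.map_nil, wordMat_nil]
    | cons c L ih =>
      rw [List.map_cons, wordMat_cons, ih (fun c' hc' => hz c' (List.mem_cons_of_mem _ hc'))]
      have h0 := hz c List.mem_cons_self
      simp only [h0, zero_mul, mul_one]
      exact x_zero_cen c.1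
  rw [hw, mul_one] at hc
  exact hc.symm

section main

variable (hG : Good3 D) (hT : T0 D) (h5 : (tabOf D).T5) (h6 : (tabOf D).T6) (h8 : (tabOf D).T8)
  (h9 : (tabOf D).T9)

include hG hT h5 h6 h8 h9 in
/-- The centraliser of `x_{r₀}(1)` from the table check. -/
theorem root_centralizer_of_cenOK {r₀ i₀ : ℕ} {ok : ℤ → Bool}
    (hok : ∀ c : ℤ, ok c = true → ((c : ℤ) : F) = 0)
    (hchk : (tabOf D).cenOK r₀ i₀ ok = true)
    (t : GL D.Idx F) (ht : (t : Matrix D.Idx D.Idx F) = D.x F r₀ 1) :
    D.group F ⊓ Subgroup.centralizer {t} =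
      D.posUnipotent F ⊔ Subgroup.closure (rootGen D F (IsNegSimpleNe D i₀)) := by
  have hG1 := hG.toGood2.toGood1
  unfold Tab.cenOK at hchk
  simp only [Bool.and_eq_true, decide_eq_true_eq] at hchk
  obtain ⟨⟨⟨⟨hA, hB⟩, hC⟩, hr₀⟩, hi₀⟩ := hchk
  change r₀ < D.nroots at hr₀
  change i₀ < D.rank at hi₀
  rw [List.all_eq_true] at hA hB
  have hcomm : ∀ s < D.nroots, (D.nroots / 2 ≤ s ∨ IsNegSimpleNe D i₀ s) → ∀ a u : F,
      D.x F r₀ a * D.x F s u = D.x F s u * D.x F r₀ a := by
    intro s hs hcase a u
    have h1 := hA s (List.mem_range.mpr hs)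
    rw [Bool.or_eq_true, Bool.or_eq_true] at h1
    rcases h1 with (h1 | h1) | h1
    · exfalso
      rw [Bool.and_eq_true, Bool.not_eq_true', decide_eq_false_iff_not, Bool.not_eq_true',
        ← Bool.not_eq_true, List.any_eq_true] at h1
      rcases hcase with hc | ⟨j, hj, hji, rfl⟩
      · exact h1.1 hc
      · apply h1.2
        refine ⟨j, List.mem_range.mpr hj, ?_⟩
        rw [Bool.and_eq_true, bne_iff_ne, beq_iff_eq]
        exact ⟨hji, rfl⟩
    · rw [beq_iff_eq] at h1
      subst h1
      have e1 := xGL_mul hG1 hs a u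
      have e2 := xGL_mul hG1 hs u a
      rw [add_comm] at e1
      have := congrArg (fun x : GL D.Idx F => (x : Matrix D.Idx D.Idx F)) (e1.trans e2.symm)
      simpa only [Units.val_mul, xGL_coe] using this
    · rw [Bool.and_eq_true, bne_iff_ne, List.all_eq_true] at h1
      by_cases hsr : s = r₀
      · subst hsr
        have e1 := xGL_mul hG1 hs a u
        have e2 := xGL_mul hG1 hs u a
        rw [add_comm] at e1
        have := congrArg (fun x : GL D.Idx F => (x : Matrix D.Idx D.Idx F)) (e1.trans e2.symm)
        simpa only [Units.val_mul, xGL_coe] using this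
      · apply x_comm_of_coeff_zero hG hr₀ hs hsr h1.1
        intro c hc
        exact hok _ (h1.2 c hc)
  apply root_centralizer hG hT h5 h6 h8 h9 hr₀ hi₀
  · intro s hs a u
    exact hcomm s hs.1 (Or.inl ((isPosRoot_iff hT hs.1).mp hs)) a u
  · intro s hs a u
    obtain ⟨j, hj, hji, rfl⟩ := hs
    exact hcomm _ (hG1.neg_lt (hG1.simple_lt hj)) (Or.inr ⟨j, hj, hji, rfl⟩) a u
  · intro i hi
    have := hB i (List.mem_range.mpr hi)
    rw [beq_iff_eq] at this
    exact this
  · rw [bne_iff_ne] at hC
    exact hC
  · exact ht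

end main

end Cfsg.Agent.Helper7.Chev
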