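import Mathlib
import Cfsg.Agent.Helper7.ChevRootCent2

set_option autoImplicit false
set_option linter.unusedSectionVars false
set_option linter.unusedVariables false

/-!
The centralisers of the highest root elements in types `E₆`, `E₇`, `E₈`, `F₄`, and of the highest short root
element of `F₄` in characteristic two: the table checks.
-/

namespace Cfsg.Agent.Helper7.Chev

open Cfsg Cfsg.Lie Matrix

set_option maxRecDepth 1000000 in
set_option maxHeartbeats 0 in
theorem cenOK_fastE6 : fastE6.cenOK 71 1 (fun _ => false) = true := by decide +kernel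

set_option maxRecDepth 1000000 in
set_option maxHeartbeats 0 in
theorem cenOK_fastE7 : fastE7.cenOK 125 0 (fun _ => false) = true := by decide +kernel

set_option maxRecDepth 1000000 in
set_option maxHeartbeats 0 in
theorem cenOK_fastE8 : fastE8.cenOK 239 7 (fun _ => false) = true := by decide +kernel

set_option maxRecDepth 1000000 in
set_option maxHeartbeats 0 in
theorem cenOK_fastF4_long : fastF4.cenOK 47 3 (fun _ => false) = true := by decide +kernel

set_option maxRecDepth 1000000 in
set_option maxHeartbeats 0 in
theorem cenOK_fastF4_short : fastF4.cenOK 44 0 (fun c => c % 2 == 0) = true := by decide +kernel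

theorem cenOK_E6 : (tabOf chevE6).cenOK 71 1 (fun _ => false) = true := tab_E6 ▸ cenOK_fastE6
theorem cenOK_E7 : (tabOf chevE7).cenOK 125 0 (fun _ => false) = true := tab_E7 ▸ cenOK_fastE7
theorem cenOK_E8 : (tabOf chevE8).cenOK 239 7 (fun _ => false) = true := tab_E8 ▸ cenOK_fastE8
theorem cenOK_F4_long : (tabOf chevF4).cenOK 47 3 (fun _ => false) = true := tab_F4 ▸ cenOK_fastF4_long
theorem cenOK_F4_short : (tabOf chevF4).cenOK 44 0 (fun c => c % 2 == 0) = true :=
  tab_F4 ▸ cenOK_fastF4_short

end Cfsg.Agent.Helper7.Chev
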