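import Mathlib
import Cfsg.Agent.Helper7.ChevRootCent3

set_option autoImplicit false
set_option linter.unusedSectionVars false
set_option linter.unusedVariables false

/-!
The centralisers of the highest root elements in types `E₆`, `E₇`, `E₈`, `F₄`, and of the highest short root
element of `F₄` in characteristic two.
-/

namespace Cfsg.Agent.Helper7.Chev

open Cfsg Cfsg.Lie Matrix

variable {F : Type*} [Field F]

/-- Rewriting the generators in terms of a list of roots. -/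
theorem closure_rootGen_negSimpleNe (D : ChevalleyDatum) (i₀ : ℕ) (L : List ℕ)
    (h1 : ∀ j < D.rank, j ≠ i₀ → D.neg (D.simple j) ∈ L)
    (h2 : ∀ s ∈ L, ∃ j < D.rank, j ≠ i₀ ∧ s = D.neg (D.simple j)) :
    Subgroup.closure (rootGen D F (IsNegSimpleNe D i₀)) =
      Subgroup.closure {g : GL D.Idx F | ∃ s ∈ L, ∃ c : F,
        (g : Matrix D.Idx D.Idx F) = D.x F s c} := by
  congr 1
  ext g
  constructor
  · rintro ⟨s, c, ⟨j, hj, hji, rfl⟩, hg⟩
    exact ⟨_, h1 j hj hji, c, hg⟩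
  · rintro ⟨s, hs, c, hg⟩
    exact ⟨s, c, h2 s hs, hg⟩

theorem negSimple_E6_1 : ∀ j < chevE6.rank, j ≠ 1 →
    chevE6.neg (chevE6.simple j) ∈ [15, 29, 32, 34, 35] := by decide +kernel
theorem negSimple_E6_2 : ∀ s ∈ [15, 29, 32, 34, 35],
    ∃ j < chevE6.rank, j ≠ 1 ∧ s = chevE6.neg (chevE6.simple j) := by decide +kernel

theorem negSimple_E7_1 : ∀ j < chevE7.rank, j ≠ 0 →
    chevE7.neg (chevE7.simple j) ∈ [47, 52, 56, 59, 61, 62] := by decide +kernel
theorem negSimple_E7_2 : ∀ s ∈ [47, 52, 56, 59, 61, 62],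
    ∃ j < chevE7.rank, j ≠ 0 ∧ s = chevE7.neg (chevE7.simple j) := by decide +kernel

theorem negSimple_E8_1 : ∀ j < chevE8.rank, j ≠ 7 →
    chevE8.neg (chevE8.simple j) ∈ [77, 98, 104, 109, 113, 116, 118] := by decide +kernel
theorem negSimple_E8_2 : ∀ s ∈ [77, 98, 104, 109, 113, 116, 118],
    ∃ j < chevE8.rank, j ≠ 7 ∧ s = chevE8.neg (chevE8.simple j) := by decide +kernel

/-- The statement S2209. -/
theorem chev_S2209 (d : ChevalleyDatum × List ℕ)
    (hd : d ∈ [(chevE6, [15, 29, 32, 34, 35]), (chevE7, [47, 52, 56, 59, 61, 62]),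
      (chevE8, [77, 98, 104, 109, 113, 116, 118])])
    (t : GL d.1.Idx F) (ht : (t : Matrix d.1.Idx d.1.Idx F) = d.1.x F (d.1.nroots - 1) 1) :
    d.1.group F ⊓ Subgroup.centralizer {t} = d.1.posUnipotent F ⊔
      Subgroup.closure {g : GL d.1.Idx F | ∃ s ∈ d.2, ∃ c : F,
        (g : Matrix d.1.Idx d.1.Idx F) = d.1.x F s c} := by
  have hok : ∀ c : ℤ, (fun _ : ℤ => false) c = true → ((c : ℤ) : F) = 0 := by
    intro c h
    exact absurd h (by simp)
  have hd' : d = (chevE6, [15, 29, 32, 34, 35]) ∨ d = (chevE7, [47, 52, 56, 59, 61, 62]) ∨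
      d = (chevE8, [77, 98, 104, 109, 113, 116, 118]) := by simpa using hd
  rcases hd' with rfl | rfl | rfl
  · change (t : Matrix chevE6.Idx chevE6.Idx F) = chevE6.x F 71 1 at ht
    change chevE6.group F ⊓ Subgroup.centralizer {t} = chevE6.posUnipotent F ⊔
      Subgroup.closure {g : GL chevE6.Idx F | ∃ s ∈ [15, 29, 32, 34, 35], ∃ c : F,
        (g : Matrix chevE6.Idx chevE6.Idx F) = chevE6.x F s c}
    rw [root_centralizer_of_cenOK good3_E6 T0_E6 T5_E6 T6_E6 T8_E6 T9_E6 hok cenOK_E6 t ht,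
      closure_rootGen_negSimpleNe chevE6 1 _ negSimple_E6_1 negSimple_E6_2]
  · change (t : Matrix chevE7.Idx chevE7.Idx F) = chevE7.x F 125 1 at ht
    change chevE7.group F ⊓ Subgroup.centralizer {t} = chevE7.posUnipotent F ⊔
      Subgroup.closure {g : GL chevE7.Idx F | ∃ s ∈ [47, 52, 56, 59, 61, 62], ∃ c : F,
        (g : Matrix chevE7.Idx chevE7.Idx F) = chevE7.x F s c}
    rw [root_centralizer_of_cenOK good3_E7 T0_E7 T5_E7 T6_E7 T8_E7 T9_E7 hok cenOK_E7 t ht,
      closure_rootGen_negSimpleNe chevE7 0 _ negSimple_E7_1 negSimple_E7_2]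
  · change (t : Matrix chevE8.Idx chevE8.Idx F) = chevE8.x F 239 1 at ht
    change chevE8.group F ⊓ Subgroup.centralizer {t} = chevE8.posUnipotent F ⊔
      Subgroup.closure {g : GL chevE8.Idx F | ∃ s ∈ [77, 98, 104, 109, 113, 116, 118], ∃ c : F,
        (g : Matrix chevE8.Idx chevE8.Idx F) = chevE8.x F s c}
    rw [root_centralizer_of_cenOK good3_E8 T0_E8 T5_E8 T6_E8 T8_E8 T9_E8 hok cenOK_E8 t ht,
      closure_rootGen_negSimpleNe chevE8 7 _ negSimple_E8_1 negSimple_E8_2]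

end Cfsg.Agent.Helper7.Chev
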