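import Mathlib
import Cfsg.Agent.Helper7.ChevRootCent4

set_option autoImplicit false
set_option linter.unusedSectionVars false
set_option linter.unusedVariables false

/-!
The centralisers of the highest root element and of the highest short root element of `F₄` in characteristic two.
-/

namespace Cfsg.Agent.Helper7.Chev

open Cfsg Cfsg.Lie Matrix

variable {F : Type*} [Field F]

theorem negSimple_F4_3a : ∀ j < chevF4.rank, j ≠ 3 →
    chevF4.neg (chevF4.simple j) ∈ [14, 20, 22] := by decide +kernel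
theorem negSimple_F4_3b : ∀ s ∈ [14, 20, 22],
    ∃ j < chevF4.rank, j ≠ 3 ∧ s = chevF4.neg (chevF4.simple j) := by decide +kernel
theorem negSimple_F4_0a : ∀ j < chevF4.rank, j ≠ 0 →
    chevF4.neg (chevF4.simple j) ∈ [20, 22, 23] := by decide +kernel
theorem negSimple_F4_0b : ∀ s ∈ [20, 22, 23],
    ∃ j < chevF4.rank, j ≠ 0 ∧ s = chevF4.neg (chevF4.simple j) := by decide +kernel

/-- The subgroup generated by the root elements of three roots is the join of the three root subgroups. -/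
theorem closure_three (D : ChevalleyDatum) (a b c : ℕ) :
    Subgroup.closure {g : GL D.Idx F | ∃ s ∈ [a, b, c], ∃ t : F,
        (g : Matrix D.Idx D.Idx F) = D.x F s t} =
      D.rootSubgroup F a ⊔ D.rootSubgroup F b ⊔ D.rootSubgroup F c := by
  unfold ChevalleyDatum.rootSubgroup
  rw [← Subgroup.closure_union, ← Subgroup.closure_union]
  congr 1
  ext g
  simp only [List.mem_cons, List.not_mem_nil, or_false, Set.mem_setOf_eq, Set.mem_union]
  constructor
  · rintro ⟨s, rfl | rfl | rfl, t, hg⟩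
    · exact Or.inl (Or.inl ⟨t, hg⟩)
    · exact Or.inl (Or.inr ⟨t, hg⟩)
    · exact Or.inr ⟨t, hg⟩
  · rintro ((⟨t, hg⟩ | ⟨t, hg⟩) | ⟨t, hg⟩)
    · exact ⟨a, Or.inl rfl, t, hg⟩
    · exact ⟨b, Or.inr (Or.inl rfl), t, hg⟩
    · exact ⟨c, Or.inr (Or.inr rfl), t, hg⟩

/-- The statement S2178. -/
theorem chev_S2178 [CharP F 2] (t u : GL chevF4.Idx F)
    (ht : (t : Matrix chevF4.Idx chevF4.Idx F) = chevF4.x F 47 1)
    (hu : (u : Matrix chevF4.Idx chevF4.Idx F) = chevF4.x F 44 1) :
    chevF4.group F ⊓ Subgroup.centralizer {t} =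
      chevF4.posUnipotent F ⊔ chevF4.rootSubgroup F 14 ⊔ chevF4.rootSubgroup F 20 ⊔
        chevF4.rootSubgroup F 22 ∧
    chevF4.group F ⊓ Subgroup.centralizer {u} =
      chevF4.posUnipotent F ⊔ chevF4.rootSubgroup F 20 ⊔ chevF4.rootSubgroup F 22 ⊔
        chevF4.rootSubgroup F 23 := by
  have hok1 : ∀ c : ℤ, (fun _ : ℤ => false) c = true → ((c : ℤ) : F) = 0 := by
    intro c h
    exact absurd h (by simp)
  have hok2 : ∀ c : ℤ, (fun c : ℤ => c % 2 == 0) c = true → ((c : ℤ) : F) = 0 := by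
    intro c h
    rw [beq_iff_eq] at h
    obtain ⟨k, rfl⟩ : (2 : ℤ) ∣ c := Int.dvd_of_emod_eq_zero h
    have h2 : (2 : F) = 0 := by
      have := CharP.cast_eq_zero F 2
      exact_mod_cast this
    push_cast
    rw [h2, zero_mul]
  constructor
  · rw [root_centralizer_of_cenOK good3_F4 T0_F4 T5_F4 T6_F4 T8_F4 T9_F4 hok1 cenOK_F4_long t ht,
      closure_rootGen_negSimpleNe chevF4 3 _ negSimple_F4_3a negSimple_F4_3b, closure_three,
      ← sup_assoc, ← sup_assoc]
  · rw [root_centralizer_of_cenOK good3_F4 T0_F4 T5_F4 T6_F4 T8_F4 T9_F4 hok2 cenOK_F4_short u hu,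
      closure_rootGen_negSimpleNe chevF4 0 _ negSimple_F4_0a negSimple_F4_0b, closure_three,
      ← sup_assoc, ← sup_assoc]

end Cfsg.Agent.Helper7.Chev
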