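import Mathlib
import Cfsg.Agent.Helper7.ChevRootCent2
import Cfsg.Agent.Helper7.ChevUnique

set_option autoImplicit false
set_option linter.unusedSectionVars false
set_option linter.unusedVariables false

/-!
The subgroup generated by the root subgroup of the highest root and one of its conjugates is a `p`-group or is
conjugate to the subgroup generated by the root subgroups of the highest and of the lowest root.
-/

namespace Cfsg.Agent.Helper7.Chev

open Cfsg Cfsg.Lie Matrix

/-- The table check: for every root `s` other than `-r₀` the word `cert s` maps `r₀` and `s` to positive roots. -/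
def Tab.pairOK (T : Tab) (r₀ : ℕ) (cert : List (List ℕ)) : Bool :=
  (List.range T.n).all fun s => s == T.neg r₀ ||
    ((cert.getD s []).all (fun i => decide (i < T.l)) &&
      decide (T.n / 2 ≤ T.reflWord (cert.getD s []) r₀) &&
      decide (T.n / 2 ≤ T.reflWord (cert.getD s []) s))

variable {D : ChevalleyDatum} {F : Type*} [Field F]

theorem conj_mul_toMonoidHom {G : Type*} [Group G] (a b : G) :
    (MulAut.conj (a * b)).toMonoidHom =
      (MulAut.conj a).toMonoidHom.comp (MulAut.conj b).toMonoidHom := by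
  ext x
  simp [mul_assoc]

section norm

variable (hG1 : Good1 D) {r s : ℕ} (hr : r < D.nroots) (hs : s < D.nroots)

include hG1 hr hs in
/-- An element mapping a root subgroup linearly onto another one. -/
theorem map_conj_rootSubgroup {g : GL D.Idx F} {κ : F} (hκ : κ ≠ 0)
    (h : ∀ a : F, g * xGL hG1 hr a * g⁻¹ = xGL hG1 hs (κ * a)) :
    (D.rootSubgroup F r).map (MulAut.conj g).toMonoidHom = D.rootSubgroup F s := by
  unfold ChevalleyDatum.rootSubgroup
  rw [MonoidHom.map_closure]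
  congr 1
  ext y
  constructor
  · rintro ⟨x, ⟨a, hx⟩, rfl⟩
    refine ⟨κ * a, ?_⟩
    change ((g * x * g⁻¹ : GL D.Idx F) : Matrix D.Idx D.Idx F) = _
    rw [eq_xGL hG1 hr hx, h a, xGL_coe]
  · rintro ⟨a, hy⟩
    refine ⟨xGL hG1 hr (κ⁻¹ * a), ⟨_, xGL_coe hG1 hr _⟩, ?_⟩
    change g * xGL hG1 hr (κ⁻¹ * a) * g⁻¹ = y
    rw [h, ← mul_assoc, mul_inv_cancel₀ hκ, one_mul, eq_xGL hG1 hs hy]

end norm

section main

variable (hG : Good3 D) (hT : T0 D) (h5 : (tabOf D).T5) (h6 : (tabOf D).T6) (h7 : (tabOf D).T7)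
  (h8 : (tabOf D).T8) (h9 : (tabOf D).T9)

include hG hT h5 h6 h7 h8 h9 in
theorem rootPair_dichotomy [Fintype F] (p : ℕ) [Fact p.Prime] [CharP F p] {r₀ : ℕ}
    (hr₀ : r₀ < D.nroots)
    (hcommU : ∀ s, D.IsPosRoot s → ∀ a u : F, D.x F r₀ a * D.x F s u = D.x F s u * D.x F r₀ a)
    {cert : List (List ℕ)} (hcert : (tabOf D).pairOK r₀ cert = true)
    (g : GL D.Idx F) (hg : g ∈ D.group F) :
    IsPGroup p ↥(D.rootSubgroup F r₀ ⊔
      (D.rootSubgroup F r₀).map (MulAut.conj g).toMonoidHom) ∨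
    ∃ h ∈ D.group F, (D.rootSubgroup F r₀ ⊔
      (D.rootSubgroup F r₀).map (MulAut.conj g).toMonoidHom).map (MulAut.conj h).toMonoidHom =
        D.rootSubgroup F r₀ ⊔ D.rootSubgroup F (D.neg r₀) := by
  have hG2 := hG.toGood2
  have hG1 := hG2.toGood1
  have h3 := hG.t3
  have h4 := hG.t4
  have hBG : D.borelSubgroup F ≤ D.group F := borelSubgroup_le_group hG1
  -- `U` centralises the root subgroup
  have hZ : ∀ u ∈ D.posUnipotent F, ∀ a : F, u * xGL hG1 hr₀ a = xGL hG1 hr₀ a * u := by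
    have hle : D.posUnipotent F ≤ Subgroup.centralizer (Set.range fun a : F => xGL hG1 hr₀ a) := by
      unfold ChevalleyDatum.posUnipotent
      rw [Subgroup.closure_le]
      rintro x ⟨s, u, hs, hx⟩
      rw [SetLike.mem_coe, Subgroup.mem_centralizer_iff]
      rintro _ ⟨a, rfl⟩
      apply Units.ext
      change ((xGL hG1 hr₀ a * x : GL D.Idx F) : Matrix D.Idx D.Idx F) =
        ((x * xGL hG1 hr₀ a : GL D.Idx F) : Matrix D.Idx D.Idx F)
      rw [Units.val_mul, Units.val_mul, hx, xGL_coe]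
      exact hcommU s hs a u
    intro m hm a
    exact ((Subgroup.mem_centralizer_iff.mp (hle hm)) (xGL hG1 hr₀ a) ⟨a, rfl⟩).symm
  have hmapU : ∀ u ∈ D.posUnipotent F,
      (D.rootSubgroup F r₀).map (MulAut.conj u).toMonoidHom = D.rootSubgroup F r₀ := by
    intro u hu
    apply map_conj_rootSubgroup hG1 hr₀ hr₀ (κ := 1) one_ne_zero
    intro a
    rw [one_mul, hZ u hu a]
    group
  have hmapH : ∀ h ∈ D.diagonalSubgroup F,
      (D.rootSubgroup F r₀).map (MulAut.conj h).toMonoidHom = D.rootSubgroup F r₀ := by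
    intro h hh
    obtain ⟨χ, hχ, hlin⟩ := diagonal_conj_xGL_lin hG2 hh hr₀
    exact map_conj_rootSubgroup hG1 hr₀ hr₀ hχ hlin
  -- the Bruhat decomposition of `g`
  obtain ⟨b, hb, n, hn, u', hu', e⟩ :=
    (bruhat_normal_form (F := F) hG2 hT h3 h4 h5 h6 h8 h9).1 g hg
  have hu'U := minusGen'_le_pos n hu'
  obtain ⟨u, hu, h, hh, rfl⟩ := borel_decomp hG2 hb
  obtain ⟨h₁, hh₁, w, hw, rfl⟩ := monomialSubgroup_le_nWords hG2 hT h9 hn
  have hwr := reflWord_lt hG2 hw hr₀
  set s := (tabOf D).reflWord w r₀ with hs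
  obtain ⟨χ, hχ, hlin⟩ := diagonal_conj_xGL_lin hG2 hh₁ hwr
  have hη : (((tabOf D).etaWord w r₀ : ℤ) : F) ≠ 0 := etaWord_cast_ne_zero hG2 hw hr₀
  have hmapN : (D.rootSubgroup F r₀).map (MulAut.conj (h₁ * nWordGL hG2 w)).toMonoidHom =
      D.rootSubgroup F s := by
    apply map_conj_rootSubgroup hG1 hr₀ hwr (κ := χ * (((tabOf D).etaWord w r₀ : ℤ) : F))
      (mul_ne_zero hχ hη)
    intro a
    rw [show χ * (((tabOf D).etaWord w r₀ : ℤ) : F) * a =
      χ * ((((tabOf D).etaWord w r₀ : ℤ) : F) * a) from mul_assoc _ _ _, ← hlin,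
      ← nWordGL_conj hG2 hw hr₀]
    group
  -- the conjugate of the root subgroup
  have hconj : (D.rootSubgroup F r₀).map (MulAut.conj g).toMonoidHom =
      (D.rootSubgroup F s).map (MulAut.conj (u * h)).toMonoidHom := by
    rw [e, conj_mul_toMonoidHom, ← Subgroup.map_map, hmapU u' hu'U, conj_mul_toMonoidHom,
      ← Subgroup.map_map, hmapN]
  have hX : (D.rootSubgroup F r₀).map (MulAut.conj (u * h)).toMonoidHom = D.rootSubgroup F r₀ := by
    rw [conj_mul_toMonoidHom, ← Subgroup.map_map, hmapH h hh, hmapU u hu]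
  have hsup : D.rootSubgroup F r₀ ⊔ (D.rootSubgroup F r₀).map (MulAut.conj g).toMonoidHom =
      (D.rootSubgroup F r₀ ⊔ D.rootSubgroup F s).map (MulAut.conj (u * h)).toMonoidHom := by
    rw [Subgroup.map_sup, hX, hconj]
  rw [hsup]
  by_cases hsn : s = D.neg r₀
  · right
    refine ⟨(u * h)⁻¹, inv_mem (hBG (mul_mem (le_sup_left (a := D.posUnipotent F) hu)
      (le_sup_right (b := D.diagonalSubgroup F) hh))), ?_⟩
    rw [Subgroup.map_map, ← conj_mul_toMonoidHom, inv_mul_cancel, hsn]
    ext x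
    simp
  · left
    -- the certificate
    unfold Tab.pairOK at hcert
    rw [List.all_eq_true] at hcert
    have h1 := hcert s (List.mem_range.mpr hwr)
    rw [Bool.or_eq_true, beq_iff_eq] at h1
    rcases h1 with h1 | h1
    · exact absurd h1 hsn
    rw [Bool.and_eq_true, Bool.and_eq_true, List.all_eq_true, decide_eq_true_eq,
      decide_eq_true_eq] at h1
    obtain ⟨⟨hc1, hc2⟩, hc3⟩ := h1
    set v := cert.getD s [] with hv
    have hvlt : ∀ i ∈ v, i < D.rank := fun i hi => by
      have := hc1 i hi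
      rw [decide_eq_true_eq] at this
      exact this
    have hvr := reflWord_lt hG2 hvlt hr₀
    have hvs := reflWord_lt hG2 hvlt hwr
    have hmapV : ∀ {q : ℕ} (hq : q < D.nroots),
        (D.rootSubgroup F q).map (MulAut.conj (nWordGL hG2 v : GL D.Idx F)).toMonoidHom =
          D.rootSubgroup F ((tabOf D).reflWord v q) := by
      intro q hq
      apply map_conj_rootSubgroup hG1 hq (reflWord_lt hG2 hvlt hq)
        (κ := (((tabOf D).etaWord v q : ℤ) : F)) (etaWord_cast_ne_zero hG2 hvlt hq)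
      intro a
      exact nWordGL_conj hG2 hvlt hq a
    have hposle : ∀ {q : ℕ} (hq : q < D.nroots), D.nroots / 2 ≤ q →
        D.rootSubgroup F q ≤ D.posUnipotent F := by
      intro q hq hpos
      unfold ChevalleyDatum.rootSubgroup ChevalleyDatum.posUnipotent
      apply Subgroup.closure_mono
      rintro x ⟨a, hx⟩
      exact ⟨q, a, (isPosRoot_iff hT hq).mpr hpos, hx⟩
    have hle1 : (D.rootSubgroup F r₀ ⊔ D.rootSubgroup F s).map
        (MulAut.conj (nWordGL hG2 v : GL D.Idx F)).toMonoidHom ≤ D.posUnipotent F := by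
      rw [Subgroup.map_sup, hmapV hr₀, hmapV hwr]
      exact sup_le (hposle hvr hc2) (hposle hvs hc3)
    -- `U` is a `p`-group
    have hUp : IsPGroup p ↥(D.posUnipotent F) := by
      obtain ⟨k, _, hk⟩ := FiniteField.card F p
      apply IsPGroup.of_card (n := (k : ℕ) * (D.nroots / 2))
      rw [card_posUnipotent hG2 hT h3 h4 h7 h8, hk, pow_mul]
    have hp1 : IsPGroup p ↥((D.rootSubgroup F r₀ ⊔ D.rootSubgroup F s).map
        (MulAut.conj (nWordGL hG2 v : GL D.Idx F)).toMonoidHom) := hUp.to_le hle1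
    have hp2 : IsPGroup p ↥(D.rootSubgroup F r₀ ⊔ D.rootSubgroup F s) := by
      have e2 := (Subgroup.equivMapOfInjective (D.rootSubgroup F r₀ ⊔ D.rootSubgroup F s)
        (MulAut.conj (nWordGL hG2 v : GL D.Idx F)).toMonoidHom (MulAut.conj _).injective)
      exact hp1.of_equiv e2.symm
    have e3 := (Subgroup.equivMapOfInjective (D.rootSubgroup F r₀ ⊔ D.rootSubgroup F s)
      (MulAut.conj (u * h)).toMonoidHom (MulAut.conj _).injective)
    exact hp2.of_equiv e3

end main

end Cfsg.Agent.Helper7.Chev
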