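import Mathlib
import Cfsg.Agent.Helper7.ChevRootPair
import Cfsg.Agent.Helper7.ChevRootCent3
import Cfsg.Agent.Helper7.ChevTabG2
import Cfsg.Agent.Helper7.ChevTabD4

set_option autoImplicit false

/-! Certificates: for every root `s` other than the lowest root, a word mapping the highest root and `s` to positive roots. -/

namespace Cfsg.Agent.Helper7.Chev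

open Cfsg Cfsg.Lie

def pairCert_G2 : List (List ℕ) := [[], [1, 0], [0, 1, 0], [0, 1], [0], [0, 1], [], [], [], [], [], []]

set_option maxRecDepth 1000000 in
set_option maxHeartbeats 0 in
theorem pairOK_fastG2 : fastG2.pairOK 11 pairCert_G2 = true := by decide +kernel

theorem pairOK_G2 : (tabOf chevG2).pairOK 11 pairCert_G2 = true := tab_G2 ▸ pairOK_fastG2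

def pairCert_D4 : List (List ℕ) := [[], [2, 0, 1, 3, 1, 0], [0, 1, 2], [0, 1, 3], [1, 3, 0, 1], [3, 2, 0, 1, 0], [3, 1, 2], [1, 2], [2, 0, 1, 3, 1, 0], [3, 2, 0, 1], [2], [0, 1, 3, 0, 1, 2], [], [], [], [], [], [], [], [], [], [], [], []]

set_option maxRecDepth 1000000 in
set_option maxHeartbeats 0 in
theorem pairOK_fastD4 : fastD4.pairOK 23 pairCert_D4 = true := by decide +kernel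

theorem pairOK_D4 : (tabOf chevD4).pairOK 23 pairCert_D4 = true := tab_D4 ▸ pairOK_fastD4

def pairCert_E6 : List (List ℕ) := [[], [2, 3, 0, 2, 1, 3, 4, 5, 2, 3, 0, 2, 1, 3, 4, 0, 2, 3, 2], [5, 4, 3, 2, 1, 3, 4, 5, 3, 4, 2, 1, 3, 0, 2, 0], [4, 3, 0, 2, 1, 3, 4, 5, 2, 3, 4, 2, 3, 0, 2, 0], [5, 1, 3, 4, 3, 2, 1, 3, 0, 2, 0], [2, 3, 0, 2, 1, 3, 4, 5, 3, 4, 1], [1, 3, 4, 2, 3, 0, 2, 1, 3, 4, 5, 3, 2, 1, 3, 4, 3], [0, 2, 3, 4, 1, 3, 0], [4, 5, 3, 4, 2, 3, 0, 2, 1, 3, 4, 5, 0, 2, 1, 3, 4, 2, 0], [2, 3, 4, 5, 4, 3, 2, 1, 3, 4, 3, 2, 1, 0], [2, 3, 4, 0, 2, 1, 3, 0, 2, 1, 0], [3, 4, 5, 2, 3, 0, 2, 1, 3, 4, 2, 1, 3, 0, 2, 0], [3, 4, 5, 1, 3, 4, 3, 0, 2, 1, 3, 0,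 2, 0], [2, 3, 4, 3, 0, 2, 0], [1, 3, 0, 2, 1], [3, 4, 5, 0, 2, 1, 3, 4, 1, 3, 2, 1, 0], [5, 1, 3, 4, 2, 3, 0, 2, 1, 3, 4, 5, 3, 2, 1, 3, 4, 2, 1], [3, 0, 2, 1, 3, 4, 5, 2, 1, 3, 0, 2], [3, 2, 1, 3, 4, 2, 3, 0, 2, 1, 3, 0, 2, 1, 0], [5, 4, 2, 3, 0, 2, 1, 3, 4, 5, 3, 2, 1, 3, 0, 2, 1], [5, 2, 3, 0, 2, 1, 3, 4, 2, 3, 2, 1], [2, 3, 4, 5, 4, 2, 1, 3, 2, 1], [3, 4, 5, 3, 4, 3, 1], [5, 3, 4, 2, 3, 0, 2, 1, 3, 4, 5, 2, 1, 3, 4, 1], [5, 3, 2, 1, 3, 4, 1, 3, 1], [2, 1, 3, 4, 5, 3, 2, 1, 3, 4, 2, 1, 3, 1], [3, 2, 1, 3, 4, 5, 2, 3, 4, 3], [5, 3, 2, 1, 3, 4, 3, 2, 1, 3, 2], [3, 0, 2, 1, 3, 4, 5, 0, 2, 1, 3, 4, 0, 2, 1, 3, 0, 2, 0], [2, 3, 4, 3, 2, 1], [2, 3, 0, 2,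 1, 3, 4, 5, 2], [2, 1, 3, 4, 0], [1, 3, 4, 5, 2, 1, 3, 4, 2, 1, 3], [2, 1, 3, 4, 5, 3, 4], [3, 2, 1, 3, 4, 2, 3, 2], [5, 4, 3, 2, 1, 3, 4, 5, 2, 3, 4, 3, 2, 1, 3, 2, 1], [], [], [], [], [], [], [], [], [], [], [], [], [], [], [], [], [], [], [], [], [], [], [], [], [], [], [], [], [], [], [], [], [], [], [], []]

set_option maxRecDepth 1000000 in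
set_option maxHeartbeats 0 in
theorem pairOK_fastE6 : fastE6.pairOK 71 pairCert_E6 = true := by decide +kernel

theorem pairOK_E6 : (tabOf chevE6).pairOK 71 pairCert_E6 = true := tab_E6 ▸ pairOK_fastE6

def pairCert_E7 : List (List ℕ) := [[], [6, 2, 3, 4, 5, 1, 3, 4, 2, 3, 0, 2, 1, 3, 4, 5, 6, 4, 5, 3, 4, 2, 3, 0, 2, 1, 3, 4, 5, 2, 1, 3, 4, 3, 1], [5, 6, 0, 2, 3, 4, 5, 1, 3, 4, 2, 3, 0, 2, 1, 3, 4, 5, 6, 4, 5, 1, 3, 4, 2, 3, 0, 2, 1, 3, 4, 5, 3, 2, 1, 3, 4, 1, 3, 1], [2, 3, 0, 2, 1, 3, 4, 5, 6, 3, 0, 2, 1, 3, 4, 5, 1, 3, 4, 2, 3, 0, 2, 1, 3, 4, 1, 3, 2], [4, 5, 6, 2, 3, 4, 5, 1, 3, 4, 2, 3, 0, 2, 1, 3, 4, 5, 6, 1, 3, 4, 5, 3, 4, 2, 3, 2, 1], [6, 3, 4,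 5, 1, 3, 4, 2, 3, 0, 2, 1, 3, 4, 5, 6, 2, 1, 3, 4, 5, 4, 2, 3, 0, 2, 1, 3, 4, 0, 2, 3, 1], [4, 5, 1, 3, 4, 2, 3, 0, 2, 1, 3, 4, 5, 6, 3, 2, 1, 3, 4, 5, 0, 2, 1, 3, 4, 3, 2, 1, 3, 1], [1, 3, 4, 5, 6, 0, 2, 3, 4, 5, 1, 3, 4, 2, 3, 0, 2, 1, 3, 4, 5, 6, 5, 4, 2, 3, 0, 2, 1, 3, 4, 5, 1, 3, 4, 2, 1, 3, 1], [6, 5, 1, 3, 4, 2, 3, 0, 2, 1, 3, 4, 5, 6, 4, 5, 1, 3, 4, 2, 3, 0, 2, 1, 3, 4, 5, 3, 0, 2, 1, 3, 4, 2, 1, 3, 1], [4, 3, 2, 1, 3, 4, 5, 6, 0, 2, 3, 4, 5, 1, 3, 4, 2, 3, 0, 2, 1, 3, 4, 5, 6, 0, 2, 1, 3, 4, 5, 1, 3, 4, 3], [2, 3, 4, 5, 0, 2, 1, 3, 4, 2, 3, 0], [1, 3, 4, 5, 6, 4, 3, 0, 2, 1, 3, 4, 5, 3, 4, 1, 3, 0, 2, 1, 0], [6, 4, 5, 3, 4, 2, 3, 0, 2, 1, 3, 4,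 5, 6, 3, 0, 2, 1, 3, 4, 2, 3, 0, 2], [6, 1, 3, 4, 2, 3, 0, 2, 1, 3, 4, 5, 2, 3, 0, 2, 1, 3, 4, 0, 2, 1, 3, 0, 2], [5, 3, 4, 2, 3, 0, 2, 1, 3, 4, 5, 6, 3, 2, 1, 3, 4, 5, 2, 3, 0, 2, 0], [4, 3, 0, 2, 1, 3, 4, 5, 6, 4, 5, 3, 4, 2, 1, 3, 0, 2, 0], [0, 2, 1, 3, 4, 5, 6, 5, 0, 2, 3, 4, 2, 3, 0, 2, 1, 3, 0, 2, 0], [2, 1, 3, 4, 5, 6, 0, 2, 1, 3, 4, 5, 0, 2, 3, 4, 2, 0], [5, 4, 3, 0, 2, 1, 3, 4, 5, 6, 0, 2, 3, 4, 0, 2, 3, 2], [1, 3, 4, 2, 3, 0, 2, 1, 3, 4, 5, 6, 3, 4, 5, 1, 3, 4, 2, 3, 0, 2, 1, 3, 4, 5, 3, 0, 2, 1, 3, 4, 2, 3, 2, 1], [3, 0, 2, 1, 3, 4, 5, 6, 3, 4, 2, 3, 1, 0], [6, 2, 3, 0, 2, 1, 3, 4, 5, 3, 2, 1, 3, 4, 2, 3, 0, 2, 1, 3, 0, 2, 1], [6, 5, 4, 3, 0,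 2, 1, 3, 4, 5, 6, 5, 3, 4, 2, 3, 0, 2, 1, 3, 4, 5, 3, 0, 2, 1, 3, 4, 2, 1, 3, 1], [6, 0, 2, 3, 4, 5, 1, 3, 4, 2, 3, 0, 2, 1, 3, 4, 5, 6, 2, 3, 4, 5, 3, 2, 1, 3, 4, 1, 0], [3, 0, 2, 1, 3, 4, 5, 4, 0, 2, 1], [3, 4, 5, 2, 3, 0, 2, 1, 3, 4, 0, 2, 0], [6, 3, 4, 2, 3, 0, 2, 1, 3, 4, 5, 4, 3, 0, 2, 1, 3, 4, 2, 3, 0, 2, 1, 3, 2], [4, 5, 6, 2, 3, 4, 2, 0], [6, 5, 1, 3, 4, 2, 3, 0, 2, 1, 3, 4, 5, 2, 3, 0, 2, 1, 3, 4, 0, 2, 1, 3, 0, 2], [5, 6, 3, 4, 5, 3, 4, 3, 0, 2, 0], [0, 2, 3, 2, 0], [3, 4, 2, 3, 0, 2, 1, 3, 4, 5, 6, 3, 2, 1, 3, 4, 5, 2, 1, 3, 2, 0], [0], [5, 3, 4, 2, 3, 0, 2, 1, 3, 4, 5, 6, 2, 3, 4, 5, 3, 0, 2], [6, 5, 1, 3, 4, 2, 3, 0, 2, 1, 3, 4, 5, 6, 3,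 2, 1, 3, 4, 5, 4, 3, 0, 2, 1, 3, 4, 0, 2, 1, 3, 1, 0], [0, 2, 3, 4, 5, 6, 2, 3, 0, 2, 1, 3, 4, 5, 4, 2, 3, 0, 2, 1, 3, 4, 3, 0, 2, 1, 3, 1], [4, 5, 6, 2, 3, 4, 5, 1, 3, 4, 2, 3, 0, 2, 1, 3, 4, 5, 6, 3, 2, 1, 3, 4, 5, 1, 3, 4, 1], [3, 2, 1, 3, 4, 5, 6, 0, 2, 3, 4, 5, 1, 3, 4, 2, 3, 0, 2, 1, 3, 4, 5, 6, 3, 0, 2, 1, 3, 4, 5, 4, 2, 1, 3, 1], [1, 3, 4, 2, 3, 0, 2, 1, 3, 4, 5, 6, 3, 4, 5, 3, 2, 1, 3, 4, 3, 0, 2, 1, 3, 1], [5, 4, 2, 3, 0, 2, 1, 3, 4, 5, 6, 2, 1, 3, 4, 5, 1, 3, 0, 2, 0], [4, 5, 3, 4, 2, 3, 0, 2, 1, 3, 4, 5, 6, 3, 4, 5, 1, 3, 4, 2, 3, 0, 2, 1, 3, 4, 5, 3, 0, 2, 1, 3, 4, 3, 2, 1], [3, 4, 5, 6, 2, 3, 4, 5, 4, 2, 3, 0, 2, 1, 3, 4, 0, 2, 3, 0, 2, 1,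 0], [2, 1, 3, 4, 3, 0, 2, 1, 3, 0, 2, 1, 0], [1, 3, 4, 5, 6, 5, 1, 3, 1], [4, 5, 6, 2, 1, 3, 4, 5, 4, 0], [5, 2, 3, 4, 1], [3, 4, 5, 6, 5, 3, 2, 1, 3, 4, 2, 3, 0, 2, 1, 3, 0, 2], [5, 6, 2, 1, 3, 4, 5, 2, 1], [5, 6, 0, 2, 3, 4, 5, 1, 3, 4, 2, 3, 0, 2, 1, 3, 4, 5, 6, 5, 3, 4, 2, 3, 0, 2, 1, 3, 4, 5, 1, 3, 4], [5, 6, 4, 5, 1, 3, 4, 2, 3, 0, 2, 1, 3, 4, 5, 6, 4, 5, 3, 4, 2, 3, 0, 2, 1, 3, 4, 5, 2, 3, 4, 2], [2, 3, 4, 3], [5, 6, 2, 3, 0, 2, 1, 3, 4, 5, 4, 3, 2, 1, 3, 4, 3, 0, 2, 1, 3, 1], [5, 6, 4, 5, 2, 3, 4, 3, 0, 2], [2, 1, 3, 4, 5, 6, 0, 2, 3, 4, 5, 1, 3, 4, 2, 3, 0, 2, 1, 3, 4, 5, 6, 5, 3, 4, 2, 3, 0, 2, 1, 3, 4, 5, 2, 1, 3, 4, 2, 1, 3, 1], [4, 5, 6, 0,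 2, 1, 3, 4, 5, 4, 2, 3, 0, 2, 1, 3, 4, 2, 3], [6, 5, 1, 3, 4, 2, 3, 0, 2, 1, 3, 4, 5, 4, 3, 2, 1, 3, 4, 0, 2, 1, 3, 0], [2, 3, 4, 2, 3, 0, 2, 1, 3, 1], [1, 3, 4, 5, 6, 5, 4, 3, 0, 2, 1, 3, 4, 5, 3, 4], [1, 3, 4, 2, 3, 0, 2, 1, 3, 4, 5, 6, 5, 1, 3, 4, 2, 3, 0, 2, 1, 3, 4, 5, 3, 4, 1, 3, 0], [2, 3, 4, 5, 6, 5, 3, 4, 0], [4, 5, 6, 4, 0], [1, 3, 4, 5, 6, 2, 3, 4, 5, 1, 3, 4, 2, 3, 0, 2, 1, 3, 4, 5, 6, 0, 2, 3, 4, 5, 3, 4, 3, 2, 1, 3, 0, 2], [5, 4, 3, 2, 1, 3, 4, 5, 6, 1, 3, 4, 5, 3, 4], [], [], [], [], [], [], [], [], [], [], [], [], [], [], [], [], [], [], [], [], [], [], [], [], [], [], [], [], [], [], [], [], [], [], [], [], [], [], [], [], [], [], [],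 [], [], [], [], [], [], [], [], [], [], [], [], [], [], [], [], [], [], [], []]

set_option maxRecDepth 1000000 in
set_option maxHeartbeats 0 in
theorem pairOK_fastE7 : fastE7.pairOK 125 pairCert_E7 = true := by decide +kernel

theorem pairOK_E7 : (tabOf chevE7).pairOK 125 pairCert_E7 = true := tab_E7 ▸ pairOK_fastE7

def pairCert_E8 : List (List ℕ) := [[], [6, 7, 5, 6, 4, 5, 1, 3, 4, 2, 3, 0, 2, 1, 3, 4, 5, 6, 7, 6, 2, 3, 4, 5, 1, 3, 4, 2, 3, 0, 2, 1, 3, 4, 5, 6, 3, 4, 5, 1, 3, 4, 2, 3, 0, 2, 1, 3, 4, 5, 3, 2, 1, 3, 4, 3, 0, 2, 1, 3, 0, 2, 1], [7, 6, 5, 4, 3, 2, 1, 3, 4, 5, 6, 7, 6, 2, 3, 4, 5, 1, 3, 4, 2, 3, 0, 2, 1, 3, 4, 5, 6, 1, 3, 4, 2, 3, 0, 2,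 1, 3, 4, 5, 1, 3, 4, 2, 3, 0, 2, 1, 3, 4, 2, 3, 0, 2, 1, 3, 0, 2, 1], [5, 4, 3, 0, 2, 1, 3, 4, 5, 6, 7, 0, 2, 3, 4, 5, 1, 3, 4, 2, 3, 0, 2, 1, 3, 4, 5, 6, 4, 5, 1, 3, 4, 2, 3, 0, 2, 1, 3, 4, 5, 0, 2, 1, 3, 4, 3, 2, 1, 3, 2, 1], [3, 4, 5, 1, 3, 4, 2, 3, 0, 2, 1, 3, 4, 5, 6, 7, 6, 2, 3, 4, 5, 1, 3, 4, 2, 3, 0, 2, 1, 3, 4, 5, 6, 3, 4, 5, 1, 3, 4, 2, 3, 0, 2, 1, 3, 4, 5, 4, 3, 0, 2, 1, 3, 4, 3, 0, 2, 1, 3, 0, 2, 1, 0], [5, 6, 7, 1, 3, 4, 5, 6, 2, 3, 4, 5, 1, 3, 4, 2, 3, 0, 2, 1, 3, 4, 5, 6, 7, 2, 3, 4, 5, 6, 2, 3, 0, 2, 1, 3, 4, 5, 3, 4, 2, 3, 0, 2, 1, 3, 4, 3, 0, 2, 1, 3, 0, 2, 0], [7, 4, 3, 2, 1, 3, 4, 5, 6, 0, 2, 3, 4, 5, 1, 3, 4, 2, 3, 0, 2, 1, 3, 4, 5,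 6, 7, 6, 5, 1, 3, 4, 2, 3, 0, 2, 1, 3, 4, 5, 6, 2, 3, 4, 5, 1, 3, 4, 2, 3, 0, 2, 1, 3, 4, 5, 3, 0, 2, 1, 3, 4, 1, 3, 0, 2, 1, 0], [5, 4, 2, 3, 0, 2, 1, 3, 4, 5, 6, 7, 5, 4, 2, 3, 0, 2, 1, 3, 4, 5, 6, 5, 4, 2, 3, 0, 2, 1, 3, 4, 5, 2, 3, 4, 3, 0, 2, 1, 3, 2], [4, 5, 6, 7, 1, 3, 4, 5, 6, 2, 3, 4, 5, 1, 3, 4, 2, 3, 0, 2, 1, 3, 4, 5, 6, 7, 5, 6, 2, 3, 4, 5, 1, 3, 4, 2, 3, 0, 2, 1, 3, 4, 5, 6, 2, 3, 4, 5, 1, 3, 4, 2, 3, 0, 2, 1, 3, 4, 5, 1, 3, 4, 2, 3, 0, 2, 1, 3, 4, 3, 2, 1, 3, 0], [5, 3, 4, 2, 3, 0, 2, 1, 3, 4, 5, 6, 7, 2, 3, 4, 5, 1, 3, 4, 2, 3, 0, 2, 1, 3, 4, 5, 6, 2, 3, 4, 5, 1, 3, 4, 2, 3, 0, 2, 1, 3, 4, 5, 1, 3, 4, 2, 3, 0, 2, 1, 3, 4, 1], [4, 5, 6, 7,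 3, 4, 5, 6, 2, 3, 4, 5, 1, 3, 4, 2, 3, 0, 2, 1, 3, 4, 5, 6, 7, 4, 5, 6, 0, 2, 3, 4, 5, 1, 3, 4, 2, 3, 0, 2, 1, 3, 4, 5, 6, 4, 5, 1, 3, 4, 2, 3, 0, 2, 1, 3, 4, 5, 4, 2, 3, 0, 2, 1, 3, 4, 2, 3, 0, 2, 1, 3, 1, 0], [7, 6, 5, 4, 2, 3, 0, 2, 1, 3, 4, 5, 6, 7, 6, 2, 3, 4, 5, 1, 3, 4, 2, 3, 0, 2, 1, 3, 4, 5, 6, 5, 1, 3, 4, 2, 3, 0, 2, 1, 3, 4, 5, 1, 3, 4, 2, 3, 0, 2, 1, 3, 4, 3, 0, 2, 1, 3, 2, 0], [3, 4, 5, 6, 7, 5, 6, 5, 4, 3, 0, 2, 1, 3, 4, 5, 1, 3, 4, 2, 3, 0, 2, 1, 3, 4, 3, 0, 2, 1, 3, 0, 2, 1, 0], [5, 4, 3, 2, 1, 3, 4, 5, 6, 7, 5, 1, 3, 4, 2, 3, 0, 2, 1, 3, 4, 5, 6, 5, 1, 3, 4, 2, 3, 0, 2, 1, 3, 4, 5, 4, 3, 0, 2, 1, 3, 4, 3, 0, 2, 1, 3, 1], [6, 5, 4, 3, 0,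 2, 1, 3, 4, 5, 6, 7, 6, 3, 4, 5, 1, 3, 4, 2, 3, 0, 2, 1, 3, 4, 5, 6, 1, 3, 4, 5, 3, 2, 1, 3, 4, 3, 1], [4, 5, 6, 7, 2, 3, 4, 5, 6, 0, 2, 3, 4, 5, 1, 3, 4, 2, 3, 0, 2, 1, 3, 4, 5, 6, 7, 5, 4, 2, 3, 0, 2, 1, 3, 4, 5, 6, 4, 5, 2, 1, 3, 4, 3], [2, 3, 4, 5, 6, 0, 2, 3, 4, 5, 1, 3, 4, 2, 3, 0, 2, 1, 3, 4, 5, 6, 7, 0, 2, 3, 4, 5, 6, 0, 2, 3, 4, 5, 4, 2], [5, 3, 4, 2, 3, 0, 2, 1, 3, 4, 5, 6, 7, 3, 4, 5, 6, 0, 2, 3, 4, 5, 1, 3, 4, 2, 3, 0, 2, 1, 3, 4, 5, 6, 3, 4, 2, 3, 0, 2, 1, 3, 4, 5, 3, 0, 2, 1, 3, 4, 3, 0, 2, 1, 3, 1], [6, 4, 5, 1, 3, 4, 2, 3, 0, 2, 1, 3, 4, 5, 6, 7, 3, 4, 2, 3, 0, 2, 1, 3, 4, 5, 6, 5, 2, 1, 3, 4, 3, 0, 2, 1, 3, 0, 2, 0], [7, 6, 3, 4, 5, 1,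 3, 4, 2, 3, 0, 2, 1, 3, 4, 5, 6, 7, 6, 5, 1, 3, 4, 2, 3, 0, 2, 1, 3, 4, 5, 6, 5, 4, 3, 0, 2, 1, 3, 4, 5, 3, 4, 2, 3, 0, 2, 1, 3, 4, 3, 0, 2, 1, 3, 0, 2, 1, 0], [2, 3, 0, 2, 1, 3, 4, 5, 6, 7, 6, 5, 1, 3, 4, 2, 3, 0, 2, 1, 3, 4, 5, 6, 4, 5, 3, 4, 2, 3, 0, 2, 1, 3, 4, 5, 4, 3, 2, 1, 3, 4, 1, 3, 1], [2, 3, 4, 5, 1, 3, 4, 2, 3, 0, 2, 1, 3, 4, 5, 6, 7, 3, 4, 2, 3, 0, 2, 1, 3, 4, 5, 6, 2, 3, 4, 5, 1, 3, 4, 3, 1], [6, 7, 5, 6, 3, 4, 5, 1, 3, 4, 2, 3, 0, 2, 1, 3, 4, 5, 6, 7, 3, 4, 5, 1, 3, 4, 2, 3, 0, 2, 1, 3, 4, 5, 6, 2, 3, 4, 5, 3, 4, 1], [4, 5, 6, 7, 3, 4, 5, 6, 2, 3, 4, 5, 1, 3, 4, 2, 3, 0, 2, 1, 3, 4, 5, 6, 7, 5, 6, 4, 5, 3, 4, 2, 3, 0, 2, 1, 3, 4, 5, 6, 5,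 1, 3, 4, 2, 3, 0, 2, 1, 3, 4, 5, 4, 3, 0, 2, 1, 3, 4, 2, 3, 0, 2, 1, 3, 1, 0], [7, 5, 6, 4, 5, 1, 3, 4, 2, 3, 0, 2, 1, 3, 4, 5, 6, 7, 5, 6, 3, 4, 5, 1, 3, 4, 2, 3, 0, 2, 1, 3, 4, 5, 6, 3, 4, 5, 1, 3, 4, 2, 3, 0, 2, 1, 3, 4, 5, 4, 3, 0, 2, 1, 3, 4, 0, 2, 1, 3, 2, 1], [7, 2, 1, 3, 4, 5, 6, 3, 2, 1, 3, 4, 5, 4, 2, 3, 0, 2, 1, 3, 4, 3, 2, 1, 3], [5, 6, 7, 3, 2, 1, 3, 4, 5, 6, 0, 2, 3, 4, 5, 1, 3, 4, 2, 3, 0, 2, 1, 3, 4, 5, 6, 7, 5, 6, 0, 2, 3, 4, 5, 1, 3, 4, 2, 3, 0, 2, 1, 3, 4, 5, 6, 4, 3, 0, 2, 1, 3, 4, 5, 2, 1, 3, 4, 3, 1], [6, 2, 3, 4, 5, 1, 3, 4, 2, 3, 0, 2, 1, 3, 4, 5, 6, 7, 2, 1, 3, 4, 5, 6, 0, 2, 3, 4, 5, 1, 3, 4, 2, 3, 0, 2, 1, 3, 4, 5, 6, 2, 1, 3,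 4, 5, 3, 0, 2, 1, 3, 4, 3, 2], [5, 3, 4, 2, 3, 0, 2, 1, 3, 4, 5, 6, 7, 6, 4, 5, 1, 3, 4, 2, 3, 0, 2, 1, 3, 4, 5, 6, 4, 5, 1, 3, 4, 2, 3, 0, 2, 1, 3, 4, 5, 1, 3, 4, 2, 3, 0, 2, 1, 3, 4, 0, 2, 1, 3, 1, 0], [6, 2, 3, 4, 5, 1, 3, 4, 2, 3, 0, 2, 1, 3, 4, 5, 6, 7, 2, 1, 3, 4, 5, 6, 0, 2, 3, 4, 5, 1, 3, 4, 2, 3, 0, 2, 1, 3, 4, 5, 6, 3, 4, 5, 1, 3, 4, 2, 3, 0, 2, 1, 3, 4, 5, 2, 1, 3, 4, 0, 2, 3, 0], [0, 2, 3, 4, 5, 1, 3, 4, 2, 3, 0, 2, 1, 3, 4, 5, 6, 7, 0, 2, 3, 4, 5, 6, 5, 4, 2, 3, 2, 1], [4, 5, 6, 7, 2, 3, 4, 5, 6, 0, 2, 3, 4, 5, 1, 3, 4, 2, 3, 0, 2, 1, 3, 4, 5, 6, 7, 2, 3, 4, 5, 6, 5, 4, 2, 3, 0, 2, 1, 3, 4, 5, 1, 3, 4, 3, 1], [2, 3, 4, 5, 1, 3, 4, 2, 3, 0,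 2, 1, 3, 4, 5, 6, 7, 6, 5, 4, 2, 3, 0, 2, 1, 3, 4, 5, 6, 5, 4, 2, 3, 0, 2, 1, 3, 4, 5, 0, 2, 3, 4, 1, 3, 2, 1], [5, 1, 3, 4, 2, 3, 0, 2, 1, 3, 4, 5, 6, 7, 5, 6, 0, 2, 3, 4, 5, 0, 2, 1, 3, 4, 2, 1, 3, 0, 2, 1, 0], [1, 3, 4, 5, 6, 5, 4, 2, 3, 0, 2, 1, 3, 4, 5, 1, 3, 4, 2, 3, 0, 2, 1, 3, 4, 2, 3, 2, 1, 0], [5, 1, 3, 4, 2, 3, 0, 2, 1, 3, 4, 5, 6, 7, 5, 1, 3, 4, 2, 3, 0, 2, 1, 3, 4, 5, 6, 5, 4, 3, 0, 2, 1, 3, 4, 5, 3, 4, 2, 3, 0, 2, 1, 3, 4, 2, 3, 0, 2, 1, 3, 0, 2, 1, 0], [2, 3, 4, 5, 6, 0, 2, 3, 4, 5, 1, 3, 4, 2, 3, 0, 2, 1, 3, 4, 5, 6, 7, 5, 4, 3, 0, 2, 1, 3, 4, 5, 6, 4, 5, 2, 3, 2, 0], [0, 2, 3, 4, 5, 6, 7, 2, 3, 0, 2, 1, 3, 4, 5, 6, 4, 5, 2, 1, 3, 4, 3,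 2], [4, 5, 6, 7, 1, 3, 4, 5, 6, 2, 3, 4, 5, 1, 3, 4, 2, 3, 0, 2, 1, 3, 4, 5, 6, 7, 4, 5, 3, 4, 2, 3, 0, 2, 1, 3, 4, 5, 6, 5, 4, 2, 3, 0, 2, 1, 3, 4, 5, 3, 0, 2, 1, 3, 4, 3, 0, 2, 1, 3, 0, 2, 0], [7, 3, 4, 5, 6, 2, 3, 4, 5, 1, 3, 4, 2, 3, 0, 2, 1, 3, 4, 5, 6, 7, 4, 5, 6, 2, 3, 4, 5, 1, 3, 4, 2, 3, 0, 2, 1, 3, 4, 5, 6, 2, 3, 4, 5, 1, 3, 4, 2, 3, 0, 2, 1, 3, 4, 5, 4, 3, 2, 1, 3, 4, 1], [5, 4, 3, 2, 1, 3, 4, 5, 6, 0, 2, 3, 4, 5, 1, 3, 4, 2, 3, 0, 2, 1, 3, 4, 5, 6, 7, 5, 3, 4, 2, 3, 0, 2, 1, 3, 4, 5, 6, 4, 5, 0, 2, 1], [0, 2, 3, 4, 5, 6, 7, 6, 3, 2, 1, 3, 4, 5, 1, 3, 4, 2, 1, 3, 0, 2, 0], [6, 5, 3, 4, 2, 3, 0, 2, 1, 3, 4, 5, 6, 7, 6, 0, 2, 3, 4, 5, 1, 3, 4,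 2, 3, 0, 2, 1, 3, 4, 5, 6, 5, 1, 3, 4, 2, 3, 0, 2, 1, 3, 4, 5, 2, 3, 0, 2, 1, 3, 4, 3, 0, 2], [2, 3, 4, 5, 6, 0, 2, 3, 4, 5, 1, 3, 4, 2, 3, 0, 2, 1, 3, 4, 5, 6, 7, 3, 4, 5, 6, 3, 4, 3, 0, 2, 1, 3, 2, 1], [6, 2, 3, 4, 5, 1, 3, 4, 2, 3, 0, 2, 1, 3, 4, 5, 6, 7, 3, 4, 5, 6, 3, 4, 5, 2, 3, 0, 2, 1, 3, 4, 2, 3, 0, 2, 1, 3, 0, 2], [5, 6, 7, 2, 3, 4, 5, 6, 1, 3, 4, 2, 3, 0, 2, 1, 3, 4, 5, 4, 3, 2, 1, 3, 4, 2, 3, 0, 2, 0], [6, 5, 3, 4, 2, 3, 0, 2, 1, 3, 4, 5, 6, 7, 2, 3, 4, 5, 6, 3, 4, 5, 4, 0, 2, 0], [7, 3, 4, 5, 6, 0, 2, 3, 4, 5, 1, 3, 4, 2, 3, 0, 2, 1, 3, 4, 5, 6, 7, 3, 4, 5, 6, 3, 0, 2], [2, 1, 3, 4, 5, 6, 7, 5, 4, 2, 3, 0, 2, 1, 3, 4, 5, 6, 3, 2, 1, 3, 4,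 5, 2, 3, 2, 0], [7, 5, 6, 4, 5, 3, 4, 2, 3, 0, 2, 1, 3, 4, 5, 6, 7, 3, 2, 1, 3, 4, 5, 6, 5, 3, 0, 2], [4, 3, 2, 1, 3, 4, 5, 6, 7, 5, 6, 4, 5, 3, 4, 2, 3, 0, 2, 1, 3, 4, 5, 6, 5, 1, 3, 4, 2, 3, 0, 2, 1, 3, 4, 5, 4, 3, 0, 2, 1, 3, 4, 3, 0, 2, 1, 3, 0, 2, 1], [3, 4, 5, 6, 3, 4, 2, 3, 0, 2, 1, 3, 4, 5, 2, 1, 3, 4, 0, 2, 0], [6, 5, 4, 3, 2, 1, 3, 4, 5, 6, 7, 4, 3, 2, 1, 3, 4, 5, 6, 4, 2, 3, 0, 2, 1, 3, 4, 5, 3, 4, 2, 3, 0, 2, 1, 3, 4, 2, 3, 0, 2, 1, 3, 2, 1, 0], [2, 3, 4, 5, 6, 7, 5, 3, 4, 2, 3, 0, 2, 1, 3, 4, 5, 6, 3, 4, 5, 0, 2, 3, 4, 2, 1, 3, 0, 2, 1], [7, 6, 5, 1, 3, 4, 2, 3, 0, 2, 1, 3, 4, 5, 6, 7, 5, 2, 1, 3, 4, 3, 0, 2, 1, 3, 0, 2, 1], [0, 2, 1, 3, 4,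 5, 6, 7, 6, 4, 5, 1, 3, 4, 2, 3, 0, 2, 1, 3, 4, 5, 6, 5, 3, 4, 2, 3, 0, 2, 1, 3, 4, 5, 0, 2, 3, 4, 3, 2, 1, 3, 0, 2, 1, 0], [5, 6, 7, 4, 3, 2, 1, 3, 4, 5, 6, 1, 3, 4, 5, 4, 2, 3, 2, 1, 0], [6, 5, 4, 3, 2, 1, 3, 4, 5, 6, 7, 6, 5, 3, 2, 1, 3, 4, 1, 0], [5, 4, 2, 3, 0, 2, 1, 3, 4, 5, 6, 7, 2, 3, 4, 5, 6, 2, 1, 3, 4, 5, 4, 0], [7, 6, 5, 3, 4, 2, 3, 0, 2, 1, 3, 4, 5, 6, 7, 6, 2, 3, 4, 5, 3, 4, 2, 3, 0, 2, 1, 3, 4, 3, 2, 1, 3, 1, 0], [6, 4, 5, 3, 4, 2, 3, 0, 2, 1, 3, 4, 5, 6, 3, 4, 5, 4, 2, 3, 0, 2, 1, 3, 4, 3, 1, 0], [2, 3, 4, 5, 6, 3, 4, 5, 3, 2, 1, 3, 4, 1, 0], [5, 6, 7, 2, 1, 3, 4, 5, 6, 0, 2, 3, 4, 5, 1, 3, 4, 2, 3, 0, 2, 1, 3, 4, 5, 6, 7, 6, 5, 1, 3, 4,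 2, 3, 0, 2, 1, 3, 4, 5, 6, 5, 4, 2, 3, 0, 2, 1, 3, 4, 5, 4, 2, 3, 0, 2, 1, 3, 4, 2, 3, 0, 2, 1, 3, 0, 2, 1, 0], [7, 4, 5, 6, 3, 4, 5, 1, 3, 4, 2, 3, 0, 2, 1, 3, 4, 5, 6, 7, 5, 6, 4, 5, 3, 4, 2, 3, 0, 2, 1, 3, 4, 5, 6, 5, 4, 2, 3, 0, 2, 1, 3, 4, 5, 3, 4, 2, 3, 0, 2, 1, 3, 4, 2, 3, 0, 2, 1, 3, 0, 2, 1], [0, 2, 3, 4, 5, 6, 4, 3, 2, 1, 3, 4, 5, 2, 1, 3, 4, 2, 3, 0, 2, 1, 3, 0, 2, 1, 0], [7, 2, 3, 4, 5, 6, 4, 3, 2, 1, 3, 2, 0], [3, 4, 5, 6, 7, 5, 6, 5, 0, 2, 3, 4, 2, 1, 3, 0, 2, 1, 0], [4, 5, 6, 7, 0, 2, 3, 4, 5, 6, 5, 2, 3, 2, 1], [5, 6, 2, 3, 4, 5, 3, 4, 3, 1, 0], [3, 4, 5, 6, 5, 4, 3, 0, 2, 1, 3, 4, 5, 4, 2, 3, 0, 2, 1, 3, 4, 3, 0, 2, 1, 3, 0, 2, 0], [4,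 5, 6, 0, 2, 3, 4, 5, 3, 4, 2, 3, 0, 2, 1, 3, 4, 2, 3, 0, 2, 1, 3, 0, 2], [0, 2, 3, 4, 5, 6, 7, 4, 5, 6, 4, 5], [4, 5, 3, 4, 2, 3, 0, 2, 1, 3, 4, 5, 6, 7, 3, 0, 2, 1, 3, 4, 5, 6, 4, 5, 2, 0], [2, 3, 4, 5, 3, 0, 2, 0], [6, 2, 3, 4, 0, 2, 0], [1, 3, 4, 5, 6, 7, 5, 6, 5, 4, 3, 0, 2, 1, 3, 4, 5, 4, 2, 3, 0, 2, 1, 3, 4, 2, 3, 0, 2, 1, 3, 1, 0], [5, 6, 7, 5, 6, 0, 2, 0], [5, 4, 0], [5, 6, 4, 5, 1, 3, 4, 2, 3, 0, 2, 1, 3, 4, 5, 6, 7, 1, 3, 4, 5, 6, 3, 4, 5, 3, 4], [3, 2, 1, 3, 4, 5, 6, 7, 6, 3, 2, 1, 3, 4, 5, 2, 3], [5, 6, 2, 3, 4, 5, 1, 3, 4, 2, 3, 0, 2, 1, 3, 4, 5, 6, 7, 4, 3, 2, 1, 3, 4, 5, 6, 2, 3, 4, 5, 2], [5, 6, 4, 5, 1, 3, 4, 2, 3, 0, 2, 1, 3, 4, 5, 6,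 7, 5, 1, 3, 4, 2, 3, 0, 2, 1, 3, 4, 5, 6, 5, 1, 3, 4, 2, 3, 0, 2, 1, 3, 4, 5, 3, 4, 2, 3, 0, 2, 1, 3, 4, 0, 2, 1, 3, 1], [4, 5, 6, 7, 1, 3, 4, 5, 6, 2, 3, 4, 5, 1, 3, 4, 2, 3, 0, 2, 1, 3, 4, 5, 6, 7, 5, 6, 0, 2, 3, 4, 5, 1, 3, 4, 2, 3, 0, 2, 1, 3, 4, 5, 6, 4, 5, 3, 4, 2, 3, 0, 2, 1, 3, 4, 5, 1, 3, 4, 2, 3, 0, 2, 1, 3, 4, 2, 3, 2, 1, 0], [3, 4, 5, 2, 1, 3, 4, 2, 1, 3, 2, 1], [4, 3, 0, 2, 1, 3, 4, 5, 6, 7, 6, 4, 5, 4, 3, 2, 1, 3, 4, 3, 0, 2, 1, 3, 0, 2, 1, 0], [6, 7, 5, 3, 4, 2, 3, 0, 2, 1, 3, 4, 5, 6, 4, 5, 3, 4, 2, 3, 0, 2, 1, 3, 4, 5, 4, 3, 0, 2, 1, 3, 4, 2, 3, 0, 2, 1, 3, 0, 2], [6, 7, 4, 3, 2, 1, 3, 4, 5, 6, 3, 4, 2, 3, 0, 2, 1, 3, 4, 5, 2, 1, 3, 4,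 3, 0, 2, 1, 3, 2, 1, 0], [7, 2, 3, 4, 5, 6, 3, 2, 1, 3, 4, 5, 2, 3, 0, 2, 1, 3, 4, 3, 0, 2, 1, 3, 0, 2, 0], [4, 2, 3, 0, 2, 1, 3, 4, 5, 6, 7, 4, 5, 6, 1, 0], [5, 6, 7, 3, 4, 5, 6, 5, 2, 1], [7, 3, 4, 2, 3, 0, 2, 1, 3, 4, 5, 6, 0, 2, 3, 4, 5, 0, 2, 1, 3, 4, 0, 2, 1, 3, 0, 2, 1, 0], [7, 5, 4, 3, 0, 2, 1, 3, 4, 5, 2, 3, 4, 2, 3, 0, 2, 1, 3, 2, 1], [0, 2, 3, 1, 0], [6, 4, 5, 3, 4, 2, 3, 0, 2, 1, 3, 4, 5, 6, 7, 4, 5, 6, 1, 3, 4, 5, 3, 4, 2, 1, 3, 1], [7, 6, 4, 5, 3, 4, 2, 3, 0, 2, 1, 3, 4, 5, 6, 7, 3, 0, 2, 1, 3, 4, 5, 6, 2, 3, 0, 2, 1, 3, 4, 5, 4, 2, 1, 3, 1, 0], [3, 0, 2, 1, 3, 4, 5, 6, 7, 5, 6, 5, 4, 3, 0, 2, 1, 3, 4, 5, 3, 4, 2, 3, 0, 2, 1, 3, 4, 1, 3,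 1], [6, 7, 4, 5, 6, 3, 4, 5, 1, 3, 4, 2, 3, 0, 2, 1, 3, 4, 5, 6, 7, 5, 1, 3, 4, 2, 3, 0, 2, 1, 3, 4, 5, 6, 5, 1, 3, 4, 2, 3, 0, 2, 1, 3, 4, 5, 1, 3, 4, 2, 3, 0, 2, 1, 3, 4, 2, 3, 0, 2, 1, 3, 2, 1, 0], [7, 4, 5, 6, 0, 2, 1, 3, 2, 1, 0], [3, 1], [2, 3, 4, 5, 6, 7, 5, 2, 3], [2, 3, 4, 5, 6, 7, 5, 4, 3, 2, 1, 3, 4, 5, 6, 1], [7, 3, 2, 1, 3, 4, 5, 6, 1, 3, 4, 5, 2, 3, 4], [4, 5, 4, 2, 3, 0, 2, 1, 3, 4, 2, 3, 0, 2, 1, 3, 0, 2, 1, 0], [7, 6, 4, 5, 1, 3, 4, 2, 3, 0, 2, 1, 3, 4, 5, 6, 7, 6, 3, 4, 5, 1, 3, 4, 2, 3, 0, 2, 1, 3, 4, 5, 6, 2, 1, 3, 4, 5, 2, 3, 4, 3, 0, 2, 1, 3, 0, 2], [2, 3, 0, 2], [2, 1, 3, 4, 5, 6, 7, 0, 2, 3, 4, 5, 6, 3, 4, 5, 4], [3, 4, 5, 6, 7,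 1, 3, 4, 5, 6, 3, 4, 3, 0, 2, 1, 3], [5, 6, 7, 3, 2, 1, 3, 4, 5, 6, 1, 3, 4, 5, 3, 4], [1, 3, 4, 5, 6, 7, 6, 5, 4, 3, 0, 2, 1, 3, 4, 5, 6, 4, 3, 2, 1, 3, 4, 2, 1, 3, 0], [3], [3, 2, 1, 3, 4, 5, 6, 7, 5, 6, 5, 4, 2, 1, 3, 0, 2, 0], [4, 5, 6, 7, 4, 5, 6, 5, 1], [6, 5, 4, 3, 2, 1, 3, 4, 5, 6, 7, 3, 0, 2, 1, 3, 4, 5, 6, 2, 3, 0, 2, 1, 3, 4, 5, 4, 3, 0, 2, 1], [6, 7, 6, 4, 1], [5, 6, 7, 6], [2, 1, 3, 4, 5, 6, 7, 4, 5, 6, 5, 3, 1], [5, 6, 4, 5, 1, 3, 4, 2, 3, 0, 2, 1, 3, 4, 5, 6, 7, 5, 6, 3, 2, 1, 3, 4, 5, 3, 0, 2, 1], [6, 7, 3, 4, 5, 6], [5, 1, 3, 4, 2, 3, 0, 2, 1, 3, 4, 5, 6, 7, 6, 5, 4, 2, 3, 0, 2, 1, 3, 4, 5, 6, 5, 4, 3, 2, 1, 3, 4, 5, 2, 3, 4, 1, 3], [7],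 [], [], [], [], [], [], [], [], [], [], [], [], [], [], [], [], [], [], [], [], [], [], [], [], [], [], [], [], [], [], [], [], [], [], [], [], [], [], [], [], [], [], [], [], [], [], [], [], [], [], [], [], [], [], [], [], [], [], [], [], [], [], [], [], [], [], [], [], [], [], [], [], [], [], [], [], [], [], [], [], [], [], [], [], [], [], [], [], [], [], [], [], [], [], [], [], [], [], [], [], [], [], [], [], [], [], [], [], [], [], [], [], [], [], [], [], [], [], [], []]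

set_option maxRecDepth 1000000 in
set_option maxHeartbeats 0 in
theorem pairOK_fastE8 : fastE8.pairOK 239 pairCert_E8 = true := by decide +kernel

theorem pairOK_E8 : (tabOf chevE8).pairOK 239 pairCert_E8 = true := tab_E8 ▸ pairOK_fastE8

set_option maxRecDepth 1000000 in
set_option maxHeartbeats 0 in
theorem cenOK_fastG2 : fastG2.cenOK 11 1 (fun _ => false) = true := by decide +kernel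

theorem cenOK_G2 : (tabOf chevG2).cenOK 11 1 (fun _ => false) = true := tab_G2 ▸ cenOK_fastG2

set_option maxRecDepth 1000000 in
set_option maxHeartbeats 0 in
theorem cenOK_fastD4 : fastD4.cenOK 23 1 (fun _ => false) = true := by decide +kernel

theorem cenOK_D4 : (tabOf chevD4).cenOK 23 1 (fun _ => false) = true := tab_D4 ▸ cenOK_fastD4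

end Cfsg.Agent.Helper7.Chev
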