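import Mathlib
import Cfsg.Agent.Helper7.ChevRootPair2

set_option autoImplicit false
set_option linter.unusedSectionVars false
set_option linter.unusedVariables false

/-!
The subgroup generated by the root subgroup of the highest root and one of its conjugates, in characteristic two.
-/

namespace Cfsg.Agent.Helper7.Chev

open Cfsg Cfsg.Lie Matrix

variable {D : ChevalleyDatum} {F : Type*} [Field F]

/-- The root elements of `r₀` commute with those of the positive roots, from the table check. -/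
theorem commU_of_cenOK (hG : Good3 D) (hT : T0 D) {r₀ i₀ : ℕ}
    (hchk : (tabOf D).cenOK r₀ i₀ (fun _ => false) = true) :
    ∀ s, D.IsPosRoot s → ∀ a u : F, D.x F r₀ a * D.x F s u = D.x F s u * D.x F r₀ a := by
  have hG1 := hG.toGood2.toGood1
  unfold Tab.cenOK at hchk
  simp only [Bool.and_eq_true, decide_eq_true_eq] at hchk
  obtain ⟨⟨⟨⟨hA, hB⟩, hC⟩, hr₀⟩, hi₀⟩ := hchk
  change r₀ < D.nroots at hr₀
  rw [List.all_eq_true] at hA
  intro s hs' a u
  have hs := hs'.1
  have hpos := (isPosRoot_iff hT hs).mp hs'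
  have h1 := hA s (List.mem_range.mpr hs)
  rw [Bool.or_eq_true, Bool.or_eq_true] at h1
  have hself : ∀ (q : ℕ) (hq : q < D.nroots), D.x F q a * D.x F q u = D.x F q u * D.x F q a := by
    intro q hq
    have e1 := xGL_mul hG1 hq a u
    have e2 := xGL_mul hG1 hq u a
    rw [add_comm] at e1
    have := congrArg (fun x : GL D.Idx F => (x : Matrix D.Idx D.Idx F)) (e1.trans e2.symm)
    simpa only [Units.val_mul, xGL_coe] using this
  rcases h1 with (h1 | h1) | h1
  · exfalso
    rw [Bool.and_eq_true, Bool.not_eq_true', decide_eq_false_iff_not] at h1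
    exact h1.1 hpos
  · rw [beq_iff_eq] at h1
    subst h1
    exact hself s hs
  · rw [Bool.and_eq_true, bne_iff_ne, List.all_eq_true] at h1
    by_cases hsr : s = r₀
    · subst hsr
      exact hself s hs
    · apply x_comm_of_coeff_zero hG hr₀ hs hsr h1.1
      intro c hc
      exact absurd (h1.2 c hc) (by simp)

theorem neg_highest_G2 : chevG2.neg 11 = 0 := by decide +kernel
theorem neg_highest_D4 : chevD4.neg 23 = 0 := by decide +kernel
theorem neg_highest_E6 : chevE6.neg 71 = 0 := by decide +kernel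
theorem neg_highest_E7 : chevE7.neg 125 = 0 := by decide +kernel
theorem neg_highest_E8 : chevE8.neg 239 = 0 := by decide +kernel

/-- The statement S2186. -/
theorem chev_S2186 [Fintype F] [CharP F 2] (D : ChevalleyDatum)
    (hD : D ∈ [chevG2, chevD4, chevE6, chevE7, chevE8]) (g : GL D.Idx F) (hg : g ∈ D.group F) :
    IsPGroup 2 ↥(D.rootSubgroup F (D.nroots - 1) ⊔
      (D.rootSubgroup F (D.nroots - 1)).map (MulAut.conj g).toMonoidHom) ∨
    ∃ h ∈ D.group F, (D.rootSubgroup F (D.nroots - 1) ⊔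
      (D.rootSubgroup F (D.nroots - 1)).map (MulAut.conj g).toMonoidHom).map
        (MulAut.conj h).toMonoidHom = D.rootSubgroup F (D.nroots - 1) ⊔ D.rootSubgroup F 0 := by
  haveI : Fact (Nat.Prime 2) := ⟨Nat.prime_two⟩
  have hD' : D = chevG2 ∨ D = chevD4 ∨ D = chevE6 ∨ D = chevE7 ∨ D = chevE8 := by simpa using hD
  rcases hD' with rfl | rfl | rfl | rfl | rfl
  · have := rootPair_dichotomy good3_G2 T0_G2 T5_G2 T6_G2 T7_G2 T8_G2 T9_G2 2 (r₀ := 11) (by decide)
      (commU_of_cenOK good3_G2 T0_G2 cenOK_G2) pairOK_G2 g hg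
    rw [neg_highest_G2] at this
    exact this
  · have := rootPair_dichotomy good3_D4 T0_D4 T5_D4 T6_D4 T7_D4 T8_D4 T9_D4 2 (r₀ := 23) (by decide)
      (commU_of_cenOK good3_D4 T0_D4 cenOK_D4) pairOK_D4 g hg
    rw [neg_highest_D4] at this
    exact this
  · have := rootPair_dichotomy good3_E6 T0_E6 T5_E6 T6_E6 T7_E6 T8_E6 T9_E6 2 (r₀ := 71) (by decide)
      (commU_of_cenOK good3_E6 T0_E6 cenOK_E6) pairOK_E6 g hg
    rw [neg_highest_E6] at this
    exact this
  · have := rootPair_dichotomy good3_E7 T0_E7 T5_E7 T6_E7 T7_E7 T8_E7 T9_E7 2 (r₀ := 125) (by decide)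
      (commU_of_cenOK good3_E7 T0_E7 cenOK_E7) pairOK_E7 g hg
    rw [neg_highest_E7] at this
    exact this
  · have := rootPair_dichotomy good3_E8 T0_E8 T5_E8 T6_E8 T7_E8 T8_E8 T9_E8 2 (r₀ := 239) (by decide)
      (commU_of_cenOK good3_E8 T0_E8 cenOK_E8) pairOK_E8 g hg
    rw [neg_highest_E8] at this
    exact this

end Cfsg.Agent.Helper7.Chev
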