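import Mathlib
import Cfsg.Agent.Helper7.ChevRootPair3
import Cfsg.Agent.Helper7.ChevRee11
import Cfsg.Agent.Helper7.ChevCount
import Cfsg.Agent.Helper7.ChevRootCent5
import Cfsg.Agent.Helper7.ChevUnique

set_option autoImplicit false
set_option linter.unusedSectionVars false
set_option linter.unusedVariables false

/-!
Normality of the subgroups `U_{≥ m}` in `U` from a table check of the commutator terms, and the shape of the
elements of `U_{≥ 9}` in type `G₂`.
-/

namespace Cfsg.Agent.Helper7.Chev

open Cfsg Cfsg.Lie Matrix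
open scoped Pointwise

variable {D : ChevalleyDatum} {F : Type*} [Field F]

section normal

variable (hG : Good3 D) (hT : T0 D)

include hG hT in
/-- `X_k` normalises `U_{≥ m}` when the commutator terms of `k` with the roots of index at least `m` have index
at least `m`. -/
theorem xGL_mem_normalizer_Uge_of_terms {k m : ℕ} (hk1 : D.nroots / 2 ≤ k) (hk : k < D.nroots)
    (hterms : ∀ s, m ≤ s → s < D.nroots → s ≠ k → ∀ c ∈ D.commTerms k s, m ≤ c.1 ∧ c.1 < D.nroots)
    (hm : D.nroots / 2 ≤ m) (t : F) :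
    xGL hG.toGood2.toGood1 hk t ∈ Subgroup.normalizer (Uge D F m : Set (GL D.Idx F)) := by
  have hG2 := hG.toGood2
  have hG1 := hG2.toGood1
  have key : ∀ (t : F) (x : GL D.Idx F), x ∈ geGen D F m →
      (xGL hG1 hk t)⁻¹ * x * xGL hG1 hk t ∈ Uge D F m := by
    rintro t x ⟨s, u, hms, hs, hx⟩
    rw [eq_xGL hG1 hs hx]
    by_cases hsk : s = k
    · subst hsk
      have e : (xGL hG1 hs t)⁻¹ * xGL hG1 hs u * xGL hG1 hs t = xGL hG1 hs u := by
        rw [xGL_inv, xGL_mul, xGL_mul]
        congr 1
        ring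
      rw [e]
      exact Subgroup.subset_closure ⟨s, u, hms, hs, xGL_coe hG1 hs u⟩
    · have hsn : s ≠ D.neg k := by
        intro h
        obtain ⟨_, k2, _⟩ := hT k hk
        have hkpos : D.IsPosRoot k := (isPosRoot_iff hT hk).mpr hk1
        have := (k2 hkpos).2
        omega
      have hc := hG.comm (F := F) hk hs hsk hsn t u
      have hw : ∀ q ∈ D.commWord F k s t u, m ≤ q.1 ∧ q.1 < D.nroots := by
        intro q hq
        unfold ChevalleyDatum.commWord at hq
        rw [List.mem_map] at hq
        obtain ⟨c, hc', rfl⟩ := hq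
        exact hterms s hms hs hsk c hc'
      have e : (xGL hG1 hk t)⁻¹ * xGL hG1 hs u * xGL hG1 hk t =
          xGL hG1 hs u * ((D.commWord F k s t u).map (xGL' hG1)).prod := by
        rw [mul_assoc, inv_mul_eq_iff_eq_mul]
        apply Units.ext
        rw [Units.val_mul, Units.val_mul, Units.val_mul, xGL_coe, xGL_coe, wordGL_coe, hc, mul_assoc]
      rw [e]
      apply mul_mem
      · exact Subgroup.subset_closure ⟨s, u, hms, hs, xGL_coe hG1 hs u⟩
      · apply Subgroup.list_prod_mem
        intro y hy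
        rw [List.mem_map] at hy
        obtain ⟨q, hq, rfl⟩ := hy
        obtain ⟨q1, q2⟩ := hw q hq
        exact Subgroup.subset_closure ⟨q.1, q.2, q1, q2, xGL'_coe hG1 q⟩
  unfold Uge
  apply mem_normalizer_closure
  · intro x hx
    have := key (-t) x hx
    rwa [← xGL_inv, inv_inv] at this
  · intro x hx
    exact key t x hx

include hG hT in
/-- `U` normalises `U_{≥ m}` under the table check. -/
theorem posUnipotent_le_normalizer_Uge {m : ℕ}
    (hterms : ∀ k, D.nroots / 2 ≤ k → k < D.nroots → ∀ s, m ≤ s → s < D.nroots → s ≠ k →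
      ∀ c ∈ D.commTerms k s, m ≤ c.1 ∧ c.1 < D.nroots)
    (hm : D.nroots / 2 ≤ m) :
    D.posUnipotent F ≤ Subgroup.normalizer (Uge D F m : Set (GL D.Idx F)) := by
  have hG1 := hG.toGood2.toGood1
  unfold ChevalleyDatum.posUnipotent
  rw [Subgroup.closure_le]
  rintro x ⟨k, t, hkpos, hx⟩
  have hk := hkpos.1
  have hk1 := (isPosRoot_iff hT hk).mp hkpos
  rw [SetLike.mem_coe, eq_xGL hG1 hk hx]
  exact xGL_mem_normalizer_Uge_of_terms hG hT hk1 hk (hterms k hk1 hk) hm t

end normal

end Cfsg.Agent.Helper7.Chev
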