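import Mathlib
import Cfsg.Agent.Helper7.G2CentA

set_option autoImplicit false
set_option linter.unusedSectionVars false
set_option linter.unusedVariables false

/-!
The subgroups `U_{≥ 9}` and `U_{≥ 10}` of the Chevalley group of type `G₂`.
-/

namespace Cfsg.Agent.Helper7.Chev

open Cfsg Cfsg.Lie Matrix
open scoped Pointwise

variable {F : Type*} [Field F]

set_option maxRecDepth 1000000 in
theorem g2_terms_bool : ∀ m ∈ [9, 10], ∀ k < 12, 6 ≤ k → ∀ s < 12, m ≤ s → s ≠ k →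
    (chevG2.commTerms k s).all (fun c => decide (m ≤ c.1 ∧ c.1 < 12)) = true := by decide +kernel

theorem g2_terms {m : ℕ} (hm : m ∈ [9, 10]) : ∀ k, chevG2.nroots / 2 ≤ k → k < chevG2.nroots →
    ∀ s, m ≤ s → s < chevG2.nroots → s ≠ k →
      ∀ c ∈ chevG2.commTerms k s, m ≤ c.1 ∧ c.1 < chevG2.nroots := by
  intro k hk1 hk s hms hs hsk c hc
  have h := g2_terms_bool m hm k hk hk1 s hs hms hsk
  rw [List.all_eq_true] at h
  exact of_decide_eq_true (h c hc)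

theorem g2_lt (r : ℕ) (h : r < 12) : r < chevG2.nroots := h

abbrev g2G1 : Good1 chevG2 := good3_G2.toGood2.toGood1

/-- The root element `x_r(a)` of `G₂` as an invertible matrix, for `r < 12`. -/
noncomputable def xg (r : Fin 12) (a : F) : GL chevG2.Idx F := xGL g2G1 (g2_lt r.val r.isLt) a

theorem U_le_normalizer_Uge9 :
    chevG2.posUnipotent F ≤ Subgroup.normalizer (Uge chevG2 F 9 : Set (GL chevG2.Idx F)) :=
  posUnipotent_le_normalizer_Uge good3_G2 T0_G2 (g2_terms (by decide)) (by decide)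

theorem U_le_normalizer_Uge10 :
    chevG2.posUnipotent F ≤ Subgroup.normalizer (Uge chevG2 F 10 : Set (GL chevG2.Idx F)) :=
  posUnipotent_le_normalizer_Uge good3_G2 T0_G2 (g2_terms (by decide)) (by decide)

theorem Uge_eq_rootGen (D : ChevalleyDatum) (k : ℕ) :
    Uge D F k = Subgroup.closure (rootGen D F (fun r => k ≤ r ∧ r < D.nroots)) := by
  unfold Uge
  congr 1
  ext g
  constructor
  · rintro ⟨r, t, h1, h2, h3⟩
    exact ⟨r, t, ⟨h1, h2⟩, h3⟩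
  · rintro ⟨r, t, ⟨h1, h2⟩, h3⟩
    exact ⟨r, t, h1, h2, h3⟩

theorem H_le_normalizer_Uge (k : ℕ) :
    chevG2.diagonalSubgroup F ≤ Subgroup.normalizer (Uge chevG2 F k : Set (GL chevG2.Idx F)) := by
  rw [Uge_eq_rootGen]
  exact diagonalSubgroup_le_normalizer good3_G2.toGood2 (fun r h => h.2)

theorem B_le_normalizer_Uge9 :
    chevG2.borelSubgroup F ≤ Subgroup.normalizer (Uge chevG2 F 9 : Set (GL chevG2.Idx F)) :=
  sup_le U_le_normalizer_Uge9 (H_le_normalizer_Uge 9)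

/-- The elements of `U_{≥ 9}`. -/
theorem mem_Uge9 {g : GL chevG2.Idx F} (hg : g ∈ Uge chevG2 F 9) :
    ∃ c₀ c₁ c₂ : F, g = xg 9 c₀ * xg 10 c₁ * xg 11 c₂ := by
  obtain ⟨t, ht⟩ := Uge_word good3_G2.toGood2 T0_G2 T3_G2 T4_G2 T7_G2 3 9 (by decide) (by decide) g hg
  refine ⟨t 9, t 10, t 11, ?_⟩
  apply Units.ext
  rw [ht]
  simp only [List.range', List.map_cons, List.map_nil, wordMat_cons, wordMat_nil, Units.val_mul, xg,
    xGL_coe, mul_one, mul_assoc]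
  rfl

theorem xg_mem_Uge {k : ℕ} (r : Fin 12) (hkr : k ≤ r.val) (a : F) : xg r a ∈ Uge chevG2 F k :=
  Subgroup.subset_closure ⟨r.val, a, hkr, r.isLt, xGL_coe g2G1 _ a⟩

/-- `X_k ∩ U_{≥ k+1} = 1` in `G₂`. -/
theorem xg_eq_zero_of_mem_Uge (k : Fin 12) (hk1 : 6 ≤ k.val) {a : F}
    (h : xg k a ∈ Uge chevG2 F (k.val + 1)) : a = 0 :=
  eq_zero_of_xGL_mem_Uge good3_G2.toGood2 T0_G2 T8_G2 hk1 (g2_lt k.val k.isLt) h

theorem xg_mul (r : Fin 12) (a b : F) : xg r a * xg r b = xg r (a + b) :=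
  xGL_mul g2G1 _ a b

theorem xg_inv (r : Fin 12) (a : F) : (xg r a)⁻¹ = xg r (-a) := xGL_inv g2G1 _ a

theorem xg_zero (r : Fin 12) : xg r (0 : F) = 1 := by
  apply Units.ext
  rw [xg, xGL_coe, Units.val_one]
  exact x_zero_cen r.val

theorem xg_coe (r : Fin 12) (a : F) :
    ((xg r a : GL chevG2.Idx F) : Matrix chevG2.Idx chevG2.Idx F) = chevG2.x F r.val a :=
  xGL_coe g2G1 _ a

/-- Uniqueness of the coordinates in `U_{≥ 9}`. -/
theorem Uge9_unique {c₀ c₁ c₂ d₀ d₁ d₂ : F}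
    (h : xg 9 c₀ * xg 10 c₁ * xg 11 c₂ =
      xg 9 d₀ * xg 10 d₁ * xg 11 d₂) :
    c₀ = d₀ ∧ c₁ = d₁ ∧ c₂ = d₂ := by
  have h0 : c₀ = d₀ := by
    have e : xg 9 (c₀ - d₀) =
        (xg 10 d₁ * xg 11 d₂) *
          (xg 10 c₁ * xg 11 c₂)⁻¹ := by
      rw [sub_eq_add_neg, add_comm, ← xg_mul, ← xg_inv, eq_mul_inv_iff_mul_eq, mul_assoc,
        ← mul_assoc (xg 9 c₀), h]
      group
    have hm : xg 9 (c₀ - d₀) ∈ Uge chevG2 F ((9 : Fin 12).val + 1) := by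
      rw [e]
      exact mul_mem (mul_mem (xg_mem_Uge _ (by decide) _) (xg_mem_Uge _ (by decide) _))
        (inv_mem (mul_mem (xg_mem_Uge _ (by decide) _) (xg_mem_Uge _ (by decide) _)))
    exact sub_eq_zero.mp (xg_eq_zero_of_mem_Uge _ (by decide) hm)
  subst h0
  have h' : xg 10 c₁ * xg 11 c₂ =
      xg 10 d₁ * xg 11 d₂ := by
    rw [mul_assoc, mul_assoc] at h
    exact mul_left_cancel h
  have h1 : c₁ = d₁ := by
    have e : xg 10 (c₁ - d₁) = xg 11 d₂ * (xg 11 c₂)⁻¹ := by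
      rw [sub_eq_add_neg, add_comm, ← xg_mul, ← xg_inv, eq_mul_inv_iff_mul_eq, mul_assoc, h']
      group
    have hm : xg 10 (c₁ - d₁) ∈ Uge chevG2 F ((10 : Fin 12).val + 1) := by
      rw [e]
      exact mul_mem (xg_mem_Uge _ (by decide) _) (inv_mem (xg_mem_Uge _ (by decide) _))
    exact sub_eq_zero.mp (xg_eq_zero_of_mem_Uge _ (by decide) hm)
  subst h1
  refine ⟨rfl, rfl, ?_⟩
  have h'' : xg 11 c₂ = xg 11 d₂ := mul_left_cancel h'
  have e : xg 11 (c₂ - d₂) = 1 := by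
    rw [sub_eq_add_neg, ← xg_mul, ← xg_inv, h'', mul_inv_cancel]
  have hm : xg 11 (c₂ - d₂) ∈ Uge chevG2 F ((11 : Fin 12).val + 1) := by
    rw [e]; exact one_mem _
  exact sub_eq_zero.mp (xg_eq_zero_of_mem_Uge _ (by decide) hm)

end Cfsg.Agent.Helper7.Chev
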