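import Mathlib
import Cfsg.Agent.Helper7.G2CentB

set_option autoImplicit false
set_option linter.unusedSectionVars false
set_option linter.unusedVariables false

/-!
Commutation relations between root elements of the Chevalley group of type `G₂`.
-/

namespace Cfsg.Agent.Helper7.Chev

open Cfsg Cfsg.Lie Matrix
open scoped Pointwise

variable {F : Type*} [Field F]

/-- Root elements commute when the list of commutator terms is empty. -/
theorem xg_comm_nil {r s : Fin 12} (hsr : s.val ≠ r.val) (hsn : s.val ≠ chevG2.neg r.val)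
    (hterms : chevG2.commTerms r.val s.val = []) (t u : F) :
    xg s u * xg r t = xg r t * xg s u := by
  have hc := good3_G2.comm (F := F) (g2_lt r.val r.isLt) (g2_lt s.val s.isLt) hsr hsn t u
  unfold ChevalleyDatum.commWord at hc
  rw [hterms, List.map_nil, wordMat_nil, mul_one] at hc
  apply Units.ext
  rw [Units.val_mul, Units.val_mul, xg_coe, xg_coe]
  exact hc

/-- The commutator formula with one term. -/
theorem xg_comm_single {r s q : Fin 12} {c : ℤ} {i j : ℕ}
    (hsr : s.val ≠ r.val) (hsn : s.val ≠ chevG2.neg r.val)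
    (hterms : chevG2.commTerms r.val s.val = [(q.val, c, i, j)]) (t u : F) :
    xg s u * xg r t = xg r t * xg s u * xg q ((c : F) * (-t) ^ i * u ^ j) := by
  have hc := good3_G2.comm (F := F) (g2_lt r.val r.isLt) (g2_lt s.val s.isLt) hsr hsn t u
  unfold ChevalleyDatum.commWord at hc
  rw [hterms, List.map_cons, List.map_nil, wordMat_cons, wordMat_nil, mul_one] at hc
  apply Units.ext
  rw [Units.val_mul, Units.val_mul, Units.val_mul, xg_coe, xg_coe, xg_coe]
  exact hc

/-- The pairs of roots of `G₂` (among those needed) whose root elements commute. -/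
def g2NilPairs : List (Fin 12 × Fin 12) :=
  [(9, 10), (9, 11), (10, 11), (9, 6), (9, 5), (11, 6), (11, 7), (11, 8), (10, 7),
    (10, 8), (10, 9), (11, 9), (11, 10), (10, 5), (6, 8), (7, 5), (4, 11), (4, 6), (11, 4), (6, 4)]

set_option maxRecDepth 100000 in
theorem g2_nil_pairs : ∀ p ∈ g2NilPairs,
    chevG2.commTerms p.1.val p.2.val = [] ∧ p.2.val ≠ p.1.val ∧ p.2.val ≠ chevG2.neg p.1.val := by
  decide +kernel

set_option maxRecDepth 100000 in
theorem g2_terms_9_8 : chevG2.commTerms 9 8 = [(11, -3, 1, 1)] ∧ chevG2.neg 9 = 2 := by decide +kernel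
set_option maxRecDepth 100000 in
theorem g2_terms_9_7 : chevG2.commTerms 9 7 = [(10, -3, 1, 1)] := by decide +kernel
set_option maxRecDepth 100000 in
theorem g2_terms_10_6 : chevG2.commTerms 10 6 = [(11, -1, 1, 1)] ∧ chevG2.neg 10 = 1 := by
  decide +kernel
set_option maxRecDepth 100000 in
theorem g2_terms_11_5 : chevG2.commTerms 11 5 = [(10, -1, 1, 1)] ∧ chevG2.neg 11 = 0 := by
  decide +kernel

theorem xg_comm_of_mem {r s : Fin 12} (h : (r, s) ∈ g2NilPairs) (t u : F) :
    xg s u * xg r t = xg r t * xg s u := by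
  obtain ⟨h1, h2, h3⟩ := g2_nil_pairs (r, s) h
  exact xg_comm_nil h2 h3 h1 t u

theorem xg_8_9 (c χ : F) : xg 8 c * xg 9 χ = xg 9 χ * xg 8 c * xg 11 (3 * χ * c) := by
  rw [xg_comm_single (r := 9) (s := 8) (q := 11) (by decide)
    (by change (8 : ℕ) ≠ chevG2.neg 9; rw [g2_terms_9_8.2]; decide) g2_terms_9_8.1 χ c]
  congr 2
  push_cast
  ring

theorem xg_7_9 (b χ : F) : xg 7 b * xg 9 χ = xg 9 χ * xg 7 b * xg 10 (3 * χ * b) := by
  rw [xg_comm_single (r := 9) (s := 7) (q := 10) (by decide)
    (by change (7 : ℕ) ≠ chevG2.neg 9; rw [g2_terms_9_8.2]; decide) g2_terms_9_7 χ b]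
  congr 2
  push_cast
  ring

theorem xg_6_10 (a d : F) : xg 6 a * xg 10 d = xg 10 d * xg 6 a * xg 11 (d * a) := by
  rw [xg_comm_single (r := 10) (s := 6) (q := 11) (by decide)
    (by change (6 : ℕ) ≠ chevG2.neg 10; rw [g2_terms_10_6.2]; decide) g2_terms_10_6.1 d a]
  congr 2
  push_cast
  ring

theorem xg_5_11 (a d : F) : xg 5 a * xg 11 d = xg 11 d * xg 5 a * xg 10 (d * a) := by
  rw [xg_comm_single (r := 11) (s := 5) (q := 10) (by decide)
    (by change (5 : ℕ) ≠ chevG2.neg 11; rw [g2_terms_11_5.2]; decide) g2_terms_11_5.1 d a]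
  congr 2
  push_cast
  ring

end Cfsg.Agent.Helper7.Chev
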