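import Mathlib
import Cfsg.Agent.Helper7.G2CentC

set_option autoImplicit false
set_option linter.unusedSectionVars false
set_option linter.unusedVariables false

/-!
Conjugation of the elements of `V = X₉ X₁₀ X₁₁` by the root elements of `U` in type `G₂`.
-/

namespace Cfsg.Agent.Helper7.Chev

open Cfsg Cfsg.Lie Matrix
open scoped Pointwise

variable {F : Type*} [Field F]

/-- The element `x₉(a) x₁₀(b) x₁₁(c)` of `V`. -/
noncomputable def vg (a b c : F) : GL chevG2.Idx F := xg 9 a * xg 10 b * xg 11 c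

theorem c9_10 (a b : F) : Commute (xg 9 a) (xg 10 b) :=
  (xg_comm_of_mem (r := 9) (s := 10) (by decide) a b).symm
theorem c9_11 (a b : F) : Commute (xg 9 a) (xg 11 b) :=
  (xg_comm_of_mem (r := 9) (s := 11) (by decide) a b).symm
theorem c10_11 (a b : F) : Commute (xg 10 a) (xg 11 b) :=
  (xg_comm_of_mem (r := 10) (s := 11) (by decide) a b).symm
theorem c8_11 (a b : F) : Commute (xg 8 a) (xg 11 b) :=
  xg_comm_of_mem (r := 11) (s := 8) (by decide) b a
theorem c8_10 (a b : F) : Commute (xg 8 a) (xg 10 b) :=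
  xg_comm_of_mem (r := 10) (s := 8) (by decide) b a
theorem c7_11 (a b : F) : Commute (xg 7 a) (xg 11 b) :=
  xg_comm_of_mem (r := 11) (s := 7) (by decide) b a
theorem c7_10 (a b : F) : Commute (xg 7 a) (xg 10 b) :=
  xg_comm_of_mem (r := 10) (s := 7) (by decide) b a
theorem c6_11 (a b : F) : Commute (xg 6 a) (xg 11 b) :=
  xg_comm_of_mem (r := 11) (s := 6) (by decide) b a
theorem c6_9 (a b : F) : Commute (xg 6 a) (xg 9 b) :=
  xg_comm_of_mem (r := 9) (s := 6) (by decide) b a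
theorem c5_9 (a b : F) : Commute (xg 5 a) (xg 9 b) :=
  xg_comm_of_mem (r := 9) (s := 5) (by decide) b a
theorem c5_10 (a b : F) : Commute (xg 5 a) (xg 10 b) :=
  xg_comm_of_mem (r := 10) (s := 5) (by decide) b a
theorem c6_8 (a b : F) : Commute (xg 6 a) (xg 8 b) :=
  (xg_comm_of_mem (r := 6) (s := 8) (by decide) a b).symm
theorem c5_7 (a b : F) : Commute (xg 5 a) (xg 7 b) :=
  xg_comm_of_mem (r := 7) (s := 5) (by decide) b a
theorem c4_11 (a b : F) : Commute (xg 4 a) (xg 11 b) :=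
  xg_comm_of_mem (r := 11) (s := 4) (by decide) b a
theorem c4_6 (a b : F) : Commute (xg 4 a) (xg 6 b) :=
  xg_comm_of_mem (r := 6) (s := 4) (by decide) b a

theorem xg_self_comm (r : Fin 12) (a b : F) : Commute (xg r a) (xg r b) := by
  unfold Commute SemiconjBy
  rw [xg_mul, xg_mul, add_comm]

/-- Multiplication in `V`. -/
theorem vg_mul (a b c a' b' c' : F) : vg a b c * vg a' b' c' = vg (a + a') (b + b') (c + c') := by
  unfold vg
  rw [← xg_mul 9, ← xg_mul 10, ← xg_mul 11]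
  have e1 := (c9_10 a' b).eq
  have e2 := (c9_11 a' c).eq
  have e3 := (c10_11 b' c).eq
  calc xg 9 a * xg 10 b * xg 11 c * (xg 9 a' * xg 10 b' * xg 11 c')
      = xg 9 a * xg 10 b * (xg 11 c * xg 9 a') * xg 10 b' * xg 11 c' := by group
    _ = xg 9 a * xg 10 b * (xg 9 a' * xg 11 c) * xg 10 b' * xg 11 c' := by rw [e2]
    _ = xg 9 a * (xg 10 b * xg 9 a') * (xg 11 c * xg 10 b') * xg 11 c' := by group
    _ = xg 9 a * (xg 9 a' * xg 10 b) * (xg 10 b' * xg 11 c) * xg 11 c' := by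
      rw [e1, e3]
    _ = _ := by group

theorem vg_zero : vg (0 : F) 0 0 = 1 := by
  unfold vg
  rw [xg_zero, xg_zero, xg_zero, one_mul, one_mul]

theorem vg_inv (a b c : F) : (vg a b c)⁻¹ = vg (-a) (-b) (-c) := by
  rw [inv_eq_iff_mul_eq_one, vg_mul, add_neg_cancel, add_neg_cancel, add_neg_cancel, vg_zero]

theorem vg_mem_Uge9 (a b c : F) : vg a b c ∈ Uge chevG2 F 9 :=
  mul_mem (mul_mem (xg_mem_Uge _ (by decide) _) (xg_mem_Uge _ (by decide) _))
    (xg_mem_Uge _ (by decide) _)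

theorem vg_inj {a b c a' b' c' : F} (h : vg a b c = vg a' b' c') : a = a' ∧ b = b' ∧ c = c' :=
  Uge9_unique h

theorem vg_comm (a b c a' b' c' : F) : Commute (vg a b c) (vg a' b' c') := by
  unfold Commute SemiconjBy
  rw [vg_mul, vg_mul, add_comm a, add_comm b, add_comm c]

/-- Conjugation by `x₈`. -/
theorem sc8 (e a b c : F) : SemiconjBy (xg 8 e) (vg a b c) (vg a b (c + 3 * a * e)) := by
  have h1 : SemiconjBy (xg 8 e) (xg 9 a) (xg 9 a * xg 11 (3 * a * e)) := by
    unfold SemiconjBy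
    rw [xg_8_9, mul_assoc, (c8_11 e _).eq]
    exact (mul_assoc _ _ _).symm
  have h2 : SemiconjBy (xg 8 e) (xg 10 b) (xg 10 b) := c8_10 e b
  have h3 : SemiconjBy (xg 8 e) (xg 11 c) (xg 11 c) := c8_11 e c
  have h := (h1.mul_right h2).mul_right h3
  have e' : xg 9 a * xg 11 (3 * a * e) * xg 10 b * xg 11 c = vg a b (c + 3 * a * e) := by
    unfold vg
    rw [add_comm c, ← xg_mul 11]
    have := (c10_11 b (3 * a * e)).eq
    calc xg 9 a * xg 11 (3 * a * e) * xg 10 b * xg 11 c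
        = xg 9 a * (xg 11 (3 * a * e) * xg 10 b) * xg 11 c := by group
      _ = xg 9 a * (xg 10 b * xg 11 (3 * a * e)) * xg 11 c := by rw [this]
      _ = _ := by group
  rw [e'] at h
  exact h

/-- Conjugation by `x₇`. -/
theorem sc7 (e a b c : F) : SemiconjBy (xg 7 e) (vg a b c) (vg a (b + 3 * a * e) c) := by
  have h1 : SemiconjBy (xg 7 e) (xg 9 a) (xg 9 a * xg 10 (3 * a * e)) := by
    unfold SemiconjBy
    rw [xg_7_9, mul_assoc, (c7_10 e _).eq]
    exact (mul_assoc _ _ _).symm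
  have h2 : SemiconjBy (xg 7 e) (xg 10 b) (xg 10 b) := c7_10 e b
  have h3 : SemiconjBy (xg 7 e) (xg 11 c) (xg 11 c) := c7_11 e c
  have h := (h1.mul_right h2).mul_right h3
  have e' : xg 9 a * xg 10 (3 * a * e) * xg 10 b * xg 11 c = vg a (b + 3 * a * e) c := by
    unfold vg
    rw [add_comm b, ← xg_mul 10]
    group
  rw [e'] at h
  exact h

/-- Conjugation by `x₆`. -/
theorem sc6 (e a b c : F) : SemiconjBy (xg 6 e) (vg a b c) (vg a b (c + b * e)) := by
  have h1 : SemiconjBy (xg 6 e) (xg 9 a) (xg 9 a) := c6_9 e a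
  have h2 : SemiconjBy (xg 6 e) (xg 10 b) (xg 10 b * xg 11 (b * e)) := by
    unfold SemiconjBy
    rw [xg_6_10, mul_assoc, (c6_11 e _).eq]
    exact (mul_assoc _ _ _).symm
  have h3 : SemiconjBy (xg 6 e) (xg 11 c) (xg 11 c) := c6_11 e c
  have h := (h1.mul_right h2).mul_right h3
  have e' : xg 9 a * (xg 10 b * xg 11 (b * e)) * xg 11 c = vg a b (c + b * e) := by
    unfold vg
    rw [add_comm c, ← xg_mul 11]
    group
  rw [e'] at h
  exact h

/-- Conjugation by `x₅`. -/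
theorem sc5 (e a b c : F) : SemiconjBy (xg 5 e) (vg a b c) (vg a (b + c * e) c) := by
  have h1 : SemiconjBy (xg 5 e) (xg 9 a) (xg 9 a) := c5_9 e a
  have h2 : SemiconjBy (xg 5 e) (xg 10 b) (xg 10 b) := c5_10 e b
  have h3 : SemiconjBy (xg 5 e) (xg 11 c) (xg 11 c * xg 10 (c * e)) := by
    unfold SemiconjBy
    rw [xg_5_11, mul_assoc, (c5_10 e _).eq]
    exact (mul_assoc _ _ _).symm
  have h := (h1.mul_right h2).mul_right h3
  have e' : xg 9 a * xg 10 b * (xg 11 c * xg 10 (c * e)) = vg a (b + c * e) c := by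
    unfold vg
    rw [← xg_mul 10]
    have := (c10_11 (c * e) c).eq
    calc xg 9 a * xg 10 b * (xg 11 c * xg 10 (c * e))
        = xg 9 a * xg 10 b * (xg 10 (c * e) * xg 11 c) := by rw [this]
      _ = _ := by group
  rw [e'] at h
  exact h

/-- The elements of `U_{≥ 9}` are the `vg a b c`. -/
theorem mem_Uge9' {g : GL chevG2.Idx F} (hg : g ∈ Uge chevG2 F 9) : ∃ a b c : F, g = vg a b c :=
  mem_Uge9 hg

end Cfsg.Agent.Helper7.Chev
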