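import Mathlib
import Cfsg.Agent.Helper7.G2CentD

set_option autoImplicit false
set_option linter.unusedSectionVars false
set_option linter.unusedVariables false

/-!
The elements of the torus centralising a root element of a fundamental weight, and the centraliser of `x₉(1)` in
the Borel subgroup of `G₂`.
-/

namespace Cfsg.Agent.Helper7.Chev

open Cfsg Cfsg.Lie Matrix
open scoped Pointwise

section torus

variable {D : ChevalleyDatum} {F : Type*} [Field F]
variable (hG : Good3 D) (hT : T0 D) (h8 : (tabOf D).T8)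

include hG hT h8 in
/-- An element of `H` centralising `x_{r₀}(1)`, where `r₀` has Cartan integer one with the `i₀`-th fundamental
root and zero with the others, is a product of `h_{p_i}(c)` for `i ≠ i₀`. -/
theorem torus_cent_of_cartan {r₀ i₀ : ℕ} (hr₀ : r₀ < D.nroots) (hi₀ : i₀ < D.rank)
    (hcart : ∀ i < D.rank, D.cartan i r₀ = if i = i₀ then 1 else 0)
    {P : ℕ → Prop} (hP : ∀ i < D.rank, i ≠ i₀ → P (D.simple i) ∧ P (D.neg (D.simple i)))
    {h : GL D.Idx F} (hh : h ∈ D.diagonalSubgroup F)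
    (hc : h * xGL hG.toGood2.toGood1 hr₀ 1 = xGL hG.toGood2.toGood1 hr₀ 1 * h) :
    h ∈ Subgroup.closure (rootGen D F P) := by
  have hG2 := hG.toGood2
  have hG1 := hG2.toGood1
  set T : GL D.Idx F := xGL hG1 hr₀ 1 with hT1
  rw [← torusHom_range hG1] at hh
  obtain ⟨c, rfl⟩ := hh
  rw [torusHom_apply] at hc ⊢
  have hcne : ∀ i < D.rank, extc D.rank c i ≠ 0 := fun i _ => extc_ne_zero c i
  have hmat := tMat_mul_x hG2 (extc D.rank c) hcne hr₀ (1 : F)
  set π : F := ((List.range D.rank).map (fun i => extc D.rank c i ^ D.cartan i r₀)).prod with hπ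
  have hx1 : xGL hG1 hr₀ (π * 1) = xGL hG1 hr₀ 1 := by
    have e2 : (tGL c : GL D.Idx F) * T = xGL hG1 hr₀ (π * 1) * tGL c := by
      apply Units.ext
      rw [Units.val_mul, Units.val_mul, tGL_coe, hT1, xGL_coe, xGL_coe]
      exact hmat
    have e3 : xGL hG1 hr₀ (π * 1) * tGL c = T * tGL c := by rw [← e2, hc]
    exact mul_right_cancel e3
  have hπ1 : π = 1 := by
    have := xGL_injective hG2 hT h8 hr₀ hx1
    rwa [mul_one] at this
  have hπc : π = extc D.rank c i₀ := by
    rw [hπ]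
    have : (List.range D.rank).map (fun i => extc D.rank c i ^ D.cartan i r₀) =
        (List.range D.rank).map (fun i => if i = i₀ then extc D.rank c i₀ else 1) := by
      apply List.map_congr_left
      intro i hi
      rw [hcart i (List.mem_range.mp hi)]
      by_cases h : i = i₀
      · rw [if_pos h, if_pos h, zpow_one, h]
      · rw [if_neg h, if_neg h, zpow_zero]
    rw [this, list_range_prod_eq, Finset.prod_eq_single ⟨i₀, hi₀⟩]
    · rw [if_pos rfl]
    · intro b _ hb
      rw [if_neg]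
      intro h
      exact hb (Fin.ext h)
    · intro h
      exact absurd (Finset.mem_univ _) h
  have hc0 : extc D.rank c i₀ = 1 := by rw [← hπc, hπ1]
  set L' := (List.range D.rank).erase i₀ with hL'
  have hL'lt : ∀ i ∈ L', i < D.rank := fun i hi => List.mem_range.mp (List.mem_of_mem_erase hi)
  have hL'ne : ∀ i ∈ L', i ≠ i₀ := by
    intro i hi
    exact ((List.Nodup.mem_erase_iff List.nodup_range).mp hi).1
  have hprod : (tGL c : GL D.Idx F) = (L'.map (hS hG1 (extu D.rank c))).prod := by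
    apply Units.ext
    rw [tGL_coe, prod_hS_coe hG1 _ _ hL'lt]
    unfold tMat
    congr 1
    have hperm : (List.range D.rank).Perm (i₀ :: L') :=
      List.perm_cons_erase (List.mem_range.mpr hi₀)
    have hfun : (fun i => ((extu D.rank c i : Fˣ) : F)) = extc D.rank c := by
      funext i; exact extu_coe c i
    rw [hfun, tEntry_perm hperm]
    funext v
    rcases v with j | s
    · rfl
    · simp only [tEntry, Sum.elim_inr, List.map_cons, List.prod_cons]
      rw [hc0, _root_.one_zpow, one_mul]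
  rw [hprod]
  apply Subgroup.list_prod_mem
  intro x hx
  rw [List.mem_map] at hx
  obtain ⟨i, hi, rfl⟩ := hx
  obtain ⟨hP1, hP2⟩ := hP i (hL'lt i hi) (hL'ne i hi)
  apply wordMat_mem_closure hG1 _ (D.hWord (D.simple i) ((extu D.rank c i : Fˣ) : F)) _
    (hS_coe hG1 _ (hL'lt i hi))
  intro p hp
  unfold ChevalleyDatum.hWord ChevalleyDatum.nWord at hp
  simp only [List.mem_append, List.mem_cons, List.not_mem_nil, or_false] at hp
  rcases hp with (rfl | rfl | rfl) | (rfl | rfl | rfl)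
  · exact hP1
  · exact hP2
  · exact hP1
  · exact hP1
  · exact hP2
  · exact hP1

end torus

section g2

variable {F : Type*} [Field F]

/-- The roots `2a+b, 3a+b, 3a+2b, b, -b` of `G₂`. -/
def PY (r : ℕ) : Prop := r = 9 ∨ r = 10 ∨ r = 11 ∨ r = 6 ∨ r = 5

/-- The subgroup generated by the root subgroups of `2a+b, 3a+b, 3a+2b, b, -b`. -/
def YG (F : Type*) [Field F] : Subgroup (GL chevG2.Idx F) := Subgroup.closure (rootGen chevG2 F PY)

theorem xg_mem_YG (r : Fin 12) (hr : PY r.val) (a : F) : xg r a ∈ YG F :=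
  Subgroup.subset_closure ⟨r.val, a, hr, xg_coe r a⟩

theorem vg_mem_YG (a b c : F) : vg a b c ∈ YG F :=
  mul_mem (mul_mem (xg_mem_YG 9 (Or.inl rfl) a) (xg_mem_YG 10 (Or.inr (Or.inl rfl)) b))
    (xg_mem_YG 11 (Or.inr (Or.inr (Or.inl rfl))) c)

theorem vg_one_eq : vg (1 : F) 0 0 = xg 9 1 := by
  unfold vg
  rw [xg_zero, xg_zero, mul_one, mul_one]

theorem vg_eq_x9 (a : F) : vg a 0 0 = xg 9 a := by
  unfold vg
  rw [xg_zero, xg_zero, mul_one, mul_one]

theorem eq_xg (r : Fin 12) {x : GL chevG2.Idx F} {u : F}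
    (hx : (x : Matrix chevG2.Idx chevG2.Idx F) = chevG2.x F r.val u) : x = xg r u :=
  Units.ext (by rw [hx, xg_coe])

/-- `Y` centralises `x₉(1)`. -/
theorem YG_comm {g : GL chevG2.Idx F} (hg : g ∈ YG F) (a : F) : g * xg 9 a = xg 9 a * g := by
  have hle : YG F ≤ Subgroup.centralizer {xg 9 a} := by
    unfold YG
    rw [Subgroup.closure_le]
    rintro x ⟨s, u, hs, hx⟩
    rw [SetLike.mem_coe, Subgroup.mem_centralizer_iff]
    intro y hy
    rw [Set.mem_singleton_iff] at hy
    subst hy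
    rcases hs with rfl | rfl | rfl | rfl | rfl
    · have : x = xg 9 u := eq_xg 9 hx
      rw [this]; exact (xg_self_comm 9 a u).eq
    · have : x = xg 10 u := eq_xg 10 hx
      rw [this]; exact (c9_10 a u).eq
    · have : x = xg 11 u := eq_xg 11 hx
      rw [this]; exact (c9_11 a u).eq
    · have : x = xg 6 u := eq_xg 6 hx
      rw [this]; exact (c6_9 u a).eq.symm
    · have : x = xg 5 u := eq_xg 5 hx
      rw [this]; exact (c5_9 u a).eq.symm
  exact ((Subgroup.mem_centralizer_iff.mp (hle hg)) _ rfl).symm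

set_option maxRecDepth 100000 in
theorem g2_cartan_9 : ∀ i < chevG2.rank, chevG2.cartan i 9 = if i = 0 then 1 else 0 := by
  decide +kernel

set_option maxRecDepth 100000 in
theorem g2_simple_PY : ∀ i < chevG2.rank, i ≠ 0 →
    (chevG2.simple i = 6 ∧ chevG2.neg (chevG2.simple i) = 5) := by decide +kernel

/-- The elements of `H` centralising `x₉(1)` lie in `Y`. -/
theorem torus_cent_G2 {h : GL chevG2.Idx F} (hh : h ∈ chevG2.diagonalSubgroup F)
    (hc : h * xg 9 1 = xg 9 1 * h) : h ∈ YG F := by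
  apply torus_cent_of_cartan good3_G2 T0_G2 T8_G2 (r₀ := 9) (i₀ := 0) (by decide) (by decide)
    g2_cartan_9 _ hh hc
  intro i hi hi0
  obtain ⟨e1, e2⟩ := g2_simple_PY i hi hi0
  rw [e2, e1]
  exact ⟨Or.inr (Or.inr (Or.inr (Or.inl rfl))), Or.inr (Or.inr (Or.inr (Or.inr rfl)))⟩

/-- The centraliser of `x₉(1)` in the Borel subgroup lies in `Y`. -/
theorem borel_cent_G2 (h3 : (3 : F) ≠ 0) {b : GL chevG2.Idx F} (hb : b ∈ chevG2.borelSubgroup F)
    (hc : b * xg 9 1 = xg 9 1 * b) : b ∈ YG F := by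
  have hG2 := good3_G2.toGood2
  obtain ⟨u, hu, h, hh, rfl⟩ := borel_decomp hG2 hb
  obtain ⟨χ, hχ, hlin⟩ := diagonal_conj_xGL_lin hG2 hh (g2_lt 9 (by decide))
  have hlin1 : h * xg 9 1 * h⁻¹ = xg 9 χ := by
    have := hlin 1
    rw [mul_one] at this
    exact this
  have e1 : u * xg 9 χ = xg 9 1 * u := by
    rw [← hlin1]
    calc u * (h * xg 9 1 * h⁻¹) = (u * h * xg 9 1) * h⁻¹ := by group
      _ = (xg 9 1 * (u * h)) * h⁻¹ := by rw [hc]
      _ = _ := by group
  rw [posUnipotent_eq_Uge T0_G2] at hu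
  obtain ⟨a, u7, hu7, rfl⟩ := Uge_decomp hG2 T0_G2 T3_G2 T4_G2 T7_G2 (k := 6) (by decide) (by decide) hu
  obtain ⟨b', u8, hu8, rfl⟩ :=
    Uge_decomp hG2 T0_G2 T3_G2 T4_G2 T7_G2 (k := 7) (by decide) (by decide) hu7
  obtain ⟨c, z, hz, rfl⟩ :=
    Uge_decomp hG2 T0_G2 T3_G2 T4_G2 T7_G2 (k := 8) (by decide) (by decide) hu8
  obtain ⟨z0, z1, z2, rfl⟩ := mem_Uge9' hz
  change xg 6 a * (xg 7 b' * (xg 8 c * vg z0 z1 z2)) * xg 9 χ =
    xg 9 1 * (xg 6 a * (xg 7 b' * (xg 8 c * vg z0 z1 z2))) at e1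
  have s0 : SemiconjBy (vg z0 z1 z2) (vg χ 0 0) (vg χ 0 0) := vg_comm _ _ _ _ _ _
  have s1 := (sc8 c χ 0 0).mul_left s0
  have s2 := (sc7 b' χ 0 (0 + 3 * χ * c)).mul_left s1
  have s3 := (sc6 a χ (0 + 3 * χ * b') (0 + 3 * χ * c)).mul_left s2
  have e2 := s3.eq
  rw [vg_eq_x9, e1, ← vg_one_eq] at e2
  have e3 := mul_right_cancel e2
  obtain ⟨i1, i2, i3⟩ := vg_inj e3
  subst i1
  have hb0 : b' = 0 := by
    have : (3 : F) * b' = 0 := by linear_combination -i2
    exact (mul_eq_zero.mp this).resolve_left h3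
  subst hb0
  have hc0 : c = 0 := by
    have : (3 : F) * c = 0 := by linear_combination -i3
    exact (mul_eq_zero.mp this).resolve_left h3
  subst hc0
  have hh' : h ∈ YG F := by
    apply torus_cent_G2 hh
    have : h * xg 9 1 * h⁻¹ = xg 9 1 := hlin1
    calc h * xg 9 1 = (h * xg 9 1 * h⁻¹) * h := by group
      _ = xg 9 1 * h := by rw [this]
  apply mul_mem _ hh'
  change xg 6 a * (xg 7 0 * (xg 8 0 * vg z0 z1 z2)) ∈ YG F
  rw [xg_zero, xg_zero, one_mul, one_mul]
  exact mul_mem (xg_mem_YG 6 (Or.inr (Or.inr (Or.inr (Or.inl rfl)))) a) (vg_mem_YG _ _ _)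

end g2

end Cfsg.Agent.Helper7.Chev
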