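import Mathlib
import Cfsg.Agent.Helper7.G2CentE

set_option autoImplicit false
set_option linter.unusedSectionVars false
set_option linter.unusedVariables false

/-!
The centraliser of the short root element `x₉(1)` in the Chevalley group of type `G₂` (characteristic not three).
-/

namespace Cfsg.Agent.Helper7.Chev

open Cfsg Cfsg.Lie Matrix
open scoped Pointwise

variable {F : Type*} [Field F]

set_option maxRecDepth 1000000 in
theorem g2_w_cases_fast : ∀ w ∈ wL_G2, w = [] ∨ w = [1] ∨ fastG2.reflWord w 9 < 6 ∨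
    (fastG2.reflWord w 9 = 8 ∧ fastG2.reflWord w 10 = 6 ∧ fastG2.reflWord w 11 = 11) ∨
    (fastG2.reflWord w 9 = 8 ∧ fastG2.reflWord w 10 = 11 ∧ fastG2.reflWord w 11 = 6) ∨
    (fastG2.reflWord w 9 = 7 ∧ fastG2.reflWord w 10 = 10 ∧ fastG2.reflWord w 11 = 5) ∨
    (fastG2.reflWord w 9 = 7 ∧ fastG2.reflWord w 10 = 5 ∧ fastG2.reflWord w 11 = 10) := by
  decide +kernel

theorem g2_w_cases : ∀ w ∈ wL_G2, w = [] ∨ w = [1] ∨ (tabOf chevG2).reflWord w 9 < 6 ∨
    ((tabOf chevG2).reflWord w 9 = 8 ∧ (tabOf chevG2).reflWord w 10 = 6 ∧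
      (tabOf chevG2).reflWord w 11 = 11) ∨
    ((tabOf chevG2).reflWord w 9 = 8 ∧ (tabOf chevG2).reflWord w 10 = 11 ∧
      (tabOf chevG2).reflWord w 11 = 6) ∨
    ((tabOf chevG2).reflWord w 9 = 7 ∧ (tabOf chevG2).reflWord w 10 = 10 ∧
      (tabOf chevG2).reflWord w 11 = 5) ∨
    ((tabOf chevG2).reflWord w 9 = 7 ∧ (tabOf chevG2).reflWord w 10 = 5 ∧
      (tabOf chevG2).reflWord w 11 = 10) := tab_G2 ▸ g2_w_cases_fast

set_option maxRecDepth 1000000 in
theorem g2_minus1_fast : ∀ r < 12, 6 ≤ r → fastG2.reflWord [1] r < 6 → r = 6 := by decide +kernel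

theorem g2_minus1 : ∀ r < 12, 6 ≤ r → (tabOf chevG2).reflWord [1] r < 6 → r = 6 :=
  tab_G2 ▸ g2_minus1_fast

/-- Conjugation of a root element by the element of `N` of a word. -/
theorem conj_xg {w : List ℕ} (hw : ∀ i ∈ w, i < chevG2.rank) (s r : Fin 12)
    (h : (tabOf chevG2).reflWord w s.val = r.val) :
    ∃ k : F, k ≠ 0 ∧ ∀ a : F, nWordGL good3_G2.toGood2 w * xg s a * (nWordGL good3_G2.toGood2 w)⁻¹ =
      xg r (k * a) := by
  refine ⟨(((tabOf chevG2).etaWord w s.val : ℤ) : F),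
    etaWord_cast_ne_zero good3_G2.toGood2 hw (g2_lt s.val s.isLt), fun a => ?_⟩
  have := nWordGL_conj (F := F) good3_G2.toGood2 hw (g2_lt s.val s.isLt) a
  unfold xg
  rw [this]
  exact xGL_congr good3_G2.toGood2 h _ _ _

theorem Uge_le_U (k : ℕ) (hk : 6 ≤ k) : Uge chevG2 F k ≤ chevG2.posUnipotent F := by
  rw [posUnipotent_eq_Uge T0_G2]
  exact Uge_anti hk

theorem xg_neg_mem (r : Fin 12) (hr : r.val < 6) (a : F) : xg r a ∈ chevG2.negUnipotent F :=
  Subgroup.subset_closure ⟨r.val, a, (isNegRoot_iff T0_G2 (g2_lt r.val r.isLt)).mpr hr, xg_coe r a⟩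

/-- A negative root element lying in `U` is trivial. -/
theorem xg_neg_eq_one (r : Fin 12) (hr : r.val < 6) {a : F} (h : xg r a ∈ chevG2.posUnipotent F) :
    xg r a = 1 := by
  have : xg r a ∈ chevG2.borelSubgroup F ⊓ chevG2.negUnipotent F :=
    ⟨(le_sup_left : chevG2.posUnipotent F ≤ chevG2.borelSubgroup F) h, xg_neg_mem r hr a⟩
  rw [borel_inf_negUnipotent good3_G2.toGood2 T0_G2, Subgroup.mem_bot] at this
  exact this

/-- The centraliser of `x₉(1)`. -/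
theorem g2_short_cent (h3 : (3 : F) ≠ 0) {g : GL chevG2.Idx F} (hgG : g ∈ chevG2.group F)
    (hc : g * xg 9 1 = xg 9 1 * g) : g ∈ YG F := by
  have hG2 := good3_G2.toGood2
  have hG1 := hG2.toGood1
  obtain ⟨w, hwW, b, hb, u', hu', e⟩ :=
    exists_normal_form hG2 T0_G2 T3_G2 T4_G2 T5_G2 T6_G2 T8_G2 T9_G2 wList_G2 hgG
  have hw := (wList_G2.ok w hwW).1
  have hUB : chevG2.posUnipotent F ≤ chevG2.borelSubgroup F := le_sup_left
  have hu'U : u' ∈ chevG2.posUnipotent F := by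
    have : Subgroup.closure (minusGen chevG2 F w) ≤ chevG2.posUnipotent F := by
      apply Subgroup.closure_mono
      rintro x ⟨r, t, hr, _, hx⟩
      exact ⟨r, t, hr, hx⟩
    exact this hu'
  set T : GL chevG2.Idx F := xg 9 1 with hT
  set n : GL chevG2.Idx F := nWordGL hG2 w with hn
  have hTne : T ≠ 1 := xGL_ne_one hG2 T0_G2 T8_G2 (g2_lt 9 (by decide)) one_ne_zero
  -- the elements `y` and `v`
  have hTU9 : T ∈ Uge chevG2 F 9 := xg_mem_Uge 9 (by decide) 1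
  have hy9 : u' * T * u'⁻¹ ∈ Uge chevG2 F 9 :=
    (Subgroup.mem_set_normalizer_iff.mp (U_le_normalizer_Uge9 hu'U) _).mp hTU9
  obtain ⟨c₀, c₁, c₂, hy⟩ := mem_Uge9' hy9
  have hc₀ : c₀ ≠ 0 := by
    rintro rfl
    have h10 : u' * T * u'⁻¹ ∈ Uge chevG2 F 10 := by
      rw [hy]
      unfold vg
      rw [xg_zero, one_mul]
      exact mul_mem (xg_mem_Uge 10 (by decide) _) (xg_mem_Uge 11 (by decide) _)
    have : T ∈ Uge chevG2 F 10 :=
      (Subgroup.mem_set_normalizer_iff.mp (U_le_normalizer_Uge10 hu'U) _).mpr h10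
    exact one_ne_zero (xg_eq_zero_of_mem_Uge 9 (by decide) this)
  have hv9 : b⁻¹ * T * b ∈ Uge chevG2 F 9 := by
    have := (Subgroup.mem_set_normalizer_iff.mp (B_le_normalizer_Uge9 (inv_mem hb)) _).mp hTU9
    rwa [inv_inv] at this
  have hmain : n * (u' * T * u'⁻¹) * n⁻¹ = b⁻¹ * T * b := by
    have h1 : b * n * u' * T = T * (b * n * u') := by rw [← e]; exact hc
    calc n * (u' * T * u'⁻¹) * n⁻¹ = b⁻¹ * (b * n * u' * T) * u'⁻¹ * n⁻¹ := by group
      _ = b⁻¹ * (T * (b * n * u')) * u'⁻¹ * n⁻¹ := by rw [h1]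
      _ = _ := by group
  have hconj : ∀ (r₁ r₂ r₃ : Fin 12), (tabOf chevG2).reflWord w 9 = r₁.val →
      (tabOf chevG2).reflWord w 10 = r₂.val → (tabOf chevG2).reflWord w 11 = r₃.val →
      ∃ e₀ e₁ e₂ : F, e₀ ≠ 0 ∧ xg r₁ e₀ * xg r₂ e₁ * xg r₃ e₂ ∈ Uge chevG2 F 9 := by
    intro r₁ r₂ r₃ h1 h2 h3'
    obtain ⟨k₀, hk₀, f₀⟩ := conj_xg (F := F) hw 9 r₁ h1
    obtain ⟨k₁, hk₁, f₁⟩ := conj_xg (F := F) hw 10 r₂ h2
    obtain ⟨k₂, hk₂, f₂⟩ := conj_xg (F := F) hw 11 r₃ h3'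
    refine ⟨k₀ * c₀, k₁ * c₁, k₂ * c₂, mul_ne_zero hk₀ hc₀, ?_⟩
    rw [← f₀, ← f₁, ← f₂]
    have : n * xg 9 c₀ * n⁻¹ * (n * xg 10 c₁ * n⁻¹) * (n * xg 11 c₂ * n⁻¹) =
        n * (u' * T * u'⁻¹) * n⁻¹ := by
      rw [hy]; unfold vg; group
    rw [this, hmain]
    exact hv9
  rcases g2_w_cases w hwW with rfl | rfl | hneg | ⟨h1, h2, h3'⟩ | ⟨h1, h2, h3'⟩ | ⟨h1, h2, h3'⟩ |
    ⟨h1, h2, h3'⟩
  · -- `w = 1`
    have hn1 : n = 1 := nWordGL_nil hG2
    rw [hn1, mul_one] at e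
    apply borel_cent_G2 h3 _ hc
    rw [e]
    exact mul_mem hb (hUB hu'U)
  · -- `w = s_b`
    have hu'Y : u' ∈ YG F := by
      have : Subgroup.closure (minusGen chevG2 F [1]) ≤ YG F := by
        unfold YG
        apply Subgroup.closure_mono
        rintro x ⟨r, t, hr, hrneg, hx⟩
        have hr12 : r < 12 := hr.1
        have hr6 : 6 ≤ r := (isPosRoot_iff T0_G2 hr.1).mp hr
        have := g2_minus1 r hr12 hr6 hrneg
        subst this
        exact ⟨6, t, Or.inr (Or.inr (Or.inr (Or.inl rfl))), hx⟩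
      exact this hu'
    have hnY : n ∈ YG F := by
      have h1lt : (1 : ℕ) < chevG2.rank := by decide
      have e1 : n = nGL hG1 (hG1.simple_lt h1lt) := by
        rw [hn, nWordGL_cons hG2 h1lt, nWordGL_nil, mul_one]
      rw [e1]
      unfold YG
      apply wordMat_mem_closure hG1 _ (chevG2.nWord (chevG2.simple 1) (1 : F)) _ (nGL_coe hG1 _)
      intro p hp
      unfold ChevalleyDatum.nWord at hp
      simp only [List.mem_cons, List.not_mem_nil, or_false] at hp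
      have s1 : chevG2.simple 1 = 6 := by decide
      have s2 : chevG2.neg 6 = 5 := by decide
      rcases hp with rfl | rfl | rfl
      · rw [s1]; exact Or.inr (Or.inr (Or.inr (Or.inl rfl)))
      · rw [s1, s2]; exact Or.inr (Or.inr (Or.inr (Or.inr rfl)))
      · rw [s1]; exact Or.inr (Or.inr (Or.inr (Or.inl rfl)))
    have hbc : b * T = T * b := by
      have e2 : b = g * u'⁻¹ * n⁻¹ := by rw [e]; group
      have c1 := YG_comm (inv_mem hu'Y) (1 : F)
      have c2 := YG_comm (inv_mem hnY) (1 : F)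
      rw [e2]
      calc g * u'⁻¹ * n⁻¹ * T = g * u'⁻¹ * (n⁻¹ * T) := by group
        _ = g * u'⁻¹ * (T * n⁻¹) := by rw [c2]
        _ = g * (u'⁻¹ * T) * n⁻¹ := by group
        _ = g * (T * u'⁻¹) * n⁻¹ := by rw [c1]
        _ = (g * T) * u'⁻¹ * n⁻¹ := by group
        _ = (T * g) * u'⁻¹ * n⁻¹ := by rw [hc]
        _ = _ := by group
    rw [e]
    exact mul_mem (mul_mem (borel_cent_G2 h3 hb hbc) hnY) hu'Y
  · -- `w` maps `2a+b` to a negative root
    exfalso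
    have hTm : T ∈ Subgroup.closure (minusGen chevG2 F w) :=
      Subgroup.subset_closure ⟨9, 1, (isPosRoot_iff T0_G2 (by decide)).mpr (by decide), hneg,
        xg_coe 9 1⟩
    have e2 : b * n * (u' * T) = (T * b) * n * u' := by
      calc b * n * (u' * T) = (b * n * u') * T := by group
        _ = g * T := by rw [e]
        _ = T * g := hc
        _ = T * (b * n * u') := by rw [e]
        _ = _ := by group
    have hTB : T ∈ chevG2.borelSubgroup F :=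
      hUB (Uge_le_U 9 (by decide) hTU9)
    obtain ⟨_, hbb, _⟩ := normal_form_unique hG2 T0_G2 T3_G2 T4_G2 T5_G2 T6_G2 T8_G2 T9_G2 wList_G2
      hwW hwW hb (mul_mem hTB hb) (mul_mem hu' hTm) hu' e2
    apply hTne
    have : T * b = 1 * b := by rw [one_mul]; exact hbb.symm
    exact mul_right_cancel this
  · -- `(8, 6, 11)`
    exfalso
    obtain ⟨e₀, e₁, e₂, he₀, hmem⟩ := hconj 8 6 11 h1 h2 h3'
    have h6 : xg 6 e₁ ∈ Uge chevG2 F ((6 : Fin 12).val + 1) := by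
      have : xg 6 e₁ = (xg 8 e₀)⁻¹ * (xg 8 e₀ * xg 6 e₁ * xg 11 e₂) * (xg 11 e₂)⁻¹ := by group
      rw [this]
      exact mul_mem (mul_mem (inv_mem (xg_mem_Uge 8 (by decide) _)) (Uge_anti (by decide) hmem))
        (inv_mem (xg_mem_Uge 11 (by decide) _))
    have he₁ := xg_eq_zero_of_mem_Uge 6 (by decide) h6
    subst he₁
    rw [xg_zero, mul_one] at hmem
    have h8 : xg 8 e₀ ∈ Uge chevG2 F ((8 : Fin 12).val + 1) := by
      have : xg 8 e₀ = (xg 8 e₀ * xg 11 e₂) * (xg 11 e₂)⁻¹ := by group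
      rw [this]
      exact mul_mem hmem (inv_mem (xg_mem_Uge 11 (by decide) _))
    exact he₀ (xg_eq_zero_of_mem_Uge 8 (by decide) h8)
  · -- `(8, 11, 6)`
    exfalso
    obtain ⟨e₀, e₁, e₂, he₀, hmem⟩ := hconj 8 11 6 h1 h2 h3'
    have h6 : xg 6 e₂ ∈ Uge chevG2 F ((6 : Fin 12).val + 1) := by
      have : xg 6 e₂ = (xg 8 e₀ * xg 11 e₁)⁻¹ * (xg 8 e₀ * xg 11 e₁ * xg 6 e₂) := by group
      rw [this]
      exact mul_mem (inv_mem (mul_mem (xg_mem_Uge 8 (by decide) _) (xg_mem_Uge 11 (by decide) _)))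
        (Uge_anti (by decide) hmem)
    have he₂ := xg_eq_zero_of_mem_Uge 6 (by decide) h6
    subst he₂
    rw [xg_zero, mul_one] at hmem
    have h8 : xg 8 e₀ ∈ Uge chevG2 F ((8 : Fin 12).val + 1) := by
      have : xg 8 e₀ = (xg 8 e₀ * xg 11 e₁) * (xg 11 e₁)⁻¹ := by group
      rw [this]
      exact mul_mem hmem (inv_mem (xg_mem_Uge 11 (by decide) _))
    exact he₀ (xg_eq_zero_of_mem_Uge 8 (by decide) h8)
  · -- `(7, 10, 5)`
    exfalso
    obtain ⟨e₀, e₁, e₂, he₀, hmem⟩ := hconj 7 10 5 h1 h2 h3'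
    have h5 : xg 5 e₂ ∈ chevG2.posUnipotent F := by
      have : xg 5 e₂ = (xg 7 e₀ * xg 10 e₁)⁻¹ * (xg 7 e₀ * xg 10 e₁ * xg 5 e₂) := by group
      rw [this]
      exact mul_mem (inv_mem (mul_mem (Uge_le_U 7 (by decide) (xg_mem_Uge 7 (by decide) _))
        (Uge_le_U 10 (by decide) (xg_mem_Uge 10 (by decide) _)))) (Uge_le_U 9 (by decide) hmem)
    rw [xg_neg_eq_one 5 (by decide) h5, mul_one] at hmem
    have h7 : xg 7 e₀ ∈ Uge chevG2 F ((7 : Fin 12).val + 1) := by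
      have : xg 7 e₀ = (xg 7 e₀ * xg 10 e₁) * (xg 10 e₁)⁻¹ := by group
      rw [this]
      exact mul_mem (Uge_anti (by decide) hmem) (inv_mem (xg_mem_Uge 10 (by decide) _))
    exact he₀ (xg_eq_zero_of_mem_Uge 7 (by decide) h7)
  · -- `(7, 5, 10)`
    exfalso
    obtain ⟨e₀, e₁, e₂, he₀, hmem⟩ := hconj 7 5 10 h1 h2 h3'
    have h5 : xg 5 e₁ ∈ chevG2.posUnipotent F := by
      have : xg 5 e₁ = (xg 7 e₀)⁻¹ * (xg 7 e₀ * xg 5 e₁ * xg 10 e₂) * (xg 10 e₂)⁻¹ := by group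
      rw [this]
      exact mul_mem (mul_mem (inv_mem (Uge_le_U 7 (by decide) (xg_mem_Uge 7 (by decide) _)))
        (Uge_le_U 9 (by decide) hmem)) (inv_mem (Uge_le_U 10 (by decide) (xg_mem_Uge 10 (by decide) _)))
    rw [xg_neg_eq_one 5 (by decide) h5, mul_one] at hmem
    have h7 : xg 7 e₀ ∈ Uge chevG2 F ((7 : Fin 12).val + 1) := by
      have : xg 7 e₀ = (xg 7 e₀ * xg 10 e₂) * (xg 10 e₂)⁻¹ := by group
      rw [this]
      exact mul_mem (Uge_anti (by decide) hmem) (inv_mem (xg_mem_Uge 10 (by decide) _))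
    exact he₀ (xg_eq_zero_of_mem_Uge 7 (by decide) h7)

end Cfsg.Agent.Helper7.Chev
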