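import Mathlib
import Cfsg.Agent.Helper7.G2CentF

set_option autoImplicit false
set_option linter.unusedSectionVars false
set_option linter.unusedVariables false

/-!
The statement S2180: centralisers of the long and short root involutions of `G₂(q)`, `q` even.
-/

namespace Cfsg.Agent.Helper7.Chev

open Cfsg Cfsg.Lie Matrix
open scoped Pointwise

variable {F : Type*} [Field F]

theorem negSimple_G2_1a : ∀ j < chevG2.rank, j ≠ 1 → chevG2.neg (chevG2.simple j) ∈ [4] := by
  decide +kernel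
theorem negSimple_G2_1b : ∀ s ∈ [4], ∃ j < chevG2.rank, j ≠ 1 ∧ s = chevG2.neg (chevG2.simple j) := by
  decide +kernel

theorem closure_single_root (D : ChevalleyDatum) (a : ℕ) :
    Subgroup.closure {g : GL D.Idx F | ∃ s ∈ [a], ∃ t : F,
        (g : Matrix D.Idx D.Idx F) = D.x F s t} = D.rootSubgroup F a := by
  unfold ChevalleyDatum.rootSubgroup
  congr 1
  ext g
  simp only [List.mem_cons, List.not_mem_nil, or_false, Set.mem_setOf_eq]
  constructor
  · rintro ⟨s, rfl, t, hg⟩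
    exact ⟨t, hg⟩
  · rintro ⟨t, hg⟩
    exact ⟨a, rfl, t, hg⟩

theorem YG_eq : YG F = chevG2.rootSubgroup F 9 ⊔ chevG2.rootSubgroup F 10 ⊔ chevG2.rootSubgroup F 11 ⊔
    chevG2.rootSubgroup F 6 ⊔ chevG2.rootSubgroup F 5 := by
  unfold YG ChevalleyDatum.rootSubgroup
  rw [← Subgroup.closure_union, ← Subgroup.closure_union, ← Subgroup.closure_union,
    ← Subgroup.closure_union]
  congr 1
  ext g
  simp only [rootGen, PY, Set.mem_setOf_eq, Set.mem_union]
  constructor
  · rintro ⟨s, t, rfl | rfl | rfl | rfl | rfl, hg⟩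
    · exact Or.inl (Or.inl (Or.inl (Or.inl ⟨t, hg⟩)))
    · exact Or.inl (Or.inl (Or.inl (Or.inr ⟨t, hg⟩)))
    · exact Or.inl (Or.inl (Or.inr ⟨t, hg⟩))
    · exact Or.inl (Or.inr ⟨t, hg⟩)
    · exact Or.inr ⟨t, hg⟩
  · rintro ((((⟨t, hg⟩ | ⟨t, hg⟩) | ⟨t, hg⟩) | ⟨t, hg⟩) | ⟨t, hg⟩)
    · exact ⟨9, t, Or.inl rfl, hg⟩
    · exact ⟨10, t, Or.inr (Or.inl rfl), hg⟩
    · exact ⟨11, t, Or.inr (Or.inr (Or.inl rfl)), hg⟩
    · exact ⟨6, t, Or.inr (Or.inr (Or.inr (Or.inl rfl))), hg⟩
    · exact ⟨5, t, Or.inr (Or.inr (Or.inr (Or.inr rfl))), hg⟩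

theorem YG_le_group : YG F ≤ chevG2.group F := by
  unfold YG
  rw [Subgroup.closure_le]
  rintro x ⟨s, u, hs, hx⟩
  have hs12 : s < chevG2.nroots := by
    rcases hs with rfl | rfl | rfl | rfl | rfl <;> decide
  rw [SetLike.mem_coe, eq_xGL g2G1 hs12 hx]
  exact xGL_mem_group good3_G2.toGood2 hs12 u

/-- The centraliser of the short root element `x₉(1)`, in characteristic other than three. -/
theorem g2_short_centralizer (h3 : (3 : F) ≠ 0) (t : GL chevG2.Idx F)
    (ht : (t : Matrix chevG2.Idx chevG2.Idx F) = chevG2.x F 9 1) :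
    chevG2.group F ⊓ Subgroup.centralizer {t} = YG F := by
  have htx : t = xg 9 1 := eq_xg 9 ht
  apply le_antisymm
  · intro g hg
    obtain ⟨hgG, hgC⟩ := Subgroup.mem_inf.mp hg
    apply g2_short_cent h3 hgG
    have := Subgroup.mem_centralizer_iff.mp hgC t (Set.mem_singleton t)
    rw [htx] at this
    exact this.symm
  · intro g hg
    refine Subgroup.mem_inf.mpr ⟨YG_le_group hg, ?_⟩
    rw [Subgroup.mem_centralizer_iff]
    intro x hx
    rw [Set.mem_singleton_iff] at hx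
    rw [hx, htx]
    exact (YG_comm hg 1).symm

/-- The statement S2180. -/
theorem chev_S2180 [CharP F 2] (z t : GL chevG2.Idx F)
    (hz : (z : Matrix chevG2.Idx chevG2.Idx F) = chevG2.x F 11 1)
    (ht : (t : Matrix chevG2.Idx chevG2.Idx F) = chevG2.x F 9 1) :
    chevG2.group F ⊓ Subgroup.centralizer {z} =
      chevG2.posUnipotent F ⊔ chevG2.rootSubgroup F 4 ∧
    chevG2.group F ⊓ Subgroup.centralizer {t} =
      chevG2.rootSubgroup F 9 ⊔ chevG2.rootSubgroup F 10 ⊔ chevG2.rootSubgroup F 11 ⊔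
        chevG2.rootSubgroup F 6 ⊔ chevG2.rootSubgroup F 5 := by
  have hok1 : ∀ c : ℤ, (fun _ : ℤ => false) c = true → ((c : ℤ) : F) = 0 := by
    intro c h
    exact absurd h (by simp)
  have h2 : (2 : F) = 0 := by
    have := CharP.cast_eq_zero F 2
    exact_mod_cast this
  have h3 : (3 : F) ≠ 0 := by
    have : (3 : F) = 1 := by linear_combination h2
    rw [this]
    exact one_ne_zero
  constructor
  · rw [root_centralizer_of_cenOK good3_G2 T0_G2 T5_G2 T6_G2 T8_G2 T9_G2 hok1 cenOK_G2 z hz,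
      closure_rootGen_negSimpleNe chevG2 1 _ negSimple_G2_1a negSimple_G2_1b, closure_single_root]
  · rw [g2_short_centralizer h3 t ht, YG_eq]

end Cfsg.Agent.Helper7.Chev
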