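import Mathlib
import Cfsg.Agent.Helper7.G2CentG

set_option autoImplicit false
set_option linter.unusedSectionVars false
set_option linter.unusedVariables false

/-!
The commutation relations between the positive root elements of `G₂` in characteristic two.
-/

namespace Cfsg.Agent.Helper7.Chev

open Cfsg Cfsg.Lie Matrix
open scoped Pointwise

variable {F : Type*} [Field F]

/-- The commutator formula with three terms. -/
theorem xg_comm_three {r s q₁ q₂ q₃ : Fin 12} {c₁ c₂ c₃ : ℤ} {i₁ j₁ i₂ j₂ i₃ j₃ : ℕ}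
    (hsr : s.val ≠ r.val) (hsn : s.val ≠ chevG2.neg r.val)
    (hterms : chevG2.commTerms r.val s.val =
      [(q₁.val, c₁, i₁, j₁), (q₂.val, c₂, i₂, j₂), (q₃.val, c₃, i₃, j₃)]) (t u : F) :
    xg s u * xg r t = xg r t * xg s u * (xg q₁ ((c₁ : F) * (-t) ^ i₁ * u ^ j₁) *
      (xg q₂ ((c₂ : F) * (-t) ^ i₂ * u ^ j₂) * xg q₃ ((c₃ : F) * (-t) ^ i₃ * u ^ j₃))) := by
  have hc := good3_G2.comm (F := F) (g2_lt r.val r.isLt) (g2_lt s.val s.isLt) hsr hsn t u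
  unfold ChevalleyDatum.commWord at hc
  rw [hterms] at hc
  simp only [List.map_cons, List.map_nil, wordMat_cons, wordMat_nil, mul_one] at hc
  apply Units.ext
  simp only [Units.val_mul, xg_coe]
  exact hc

/-- The commutator formula with four terms. -/
theorem xg_comm_four {r s q₁ q₂ q₃ q₄ : Fin 12} {c₁ c₂ c₃ c₄ : ℤ} {i₁ j₁ i₂ j₂ i₃ j₃ i₄ j₄ : ℕ}
    (hsr : s.val ≠ r.val) (hsn : s.val ≠ chevG2.neg r.val)
    (hterms : chevG2.commTerms r.val s.val =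
      [(q₁.val, c₁, i₁, j₁), (q₂.val, c₂, i₂, j₂), (q₃.val, c₃, i₃, j₃), (q₄.val, c₄, i₄, j₄)])
    (t u : F) :
    xg s u * xg r t = xg r t * xg s u * (xg q₁ ((c₁ : F) * (-t) ^ i₁ * u ^ j₁) *
      (xg q₂ ((c₂ : F) * (-t) ^ i₂ * u ^ j₂) * (xg q₃ ((c₃ : F) * (-t) ^ i₃ * u ^ j₃) *
        xg q₄ ((c₄ : F) * (-t) ^ i₄ * u ^ j₄)))) := by
  have hc := good3_G2.comm (F := F) (g2_lt r.val r.isLt) (g2_lt s.val s.isLt) hsr hsn t u
  unfold ChevalleyDatum.commWord at hc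
  rw [hterms] at hc
  simp only [List.map_cons, List.map_nil, wordMat_cons, wordMat_nil, mul_one] at hc
  apply Units.ext
  simp only [Units.val_mul, xg_coe]
  exact hc

set_option maxRecDepth 100000 in
theorem g2_terms_6_7 : chevG2.commTerms 6 7 = [(8, 1, 1, 1), (9, 1, 1, 2), (10, -1, 1, 3), (11, -2, 2, 3)] ∧
    chevG2.neg 6 = 5 := by decide +kernel
set_option maxRecDepth 100000 in
theorem g2_terms_7_8 : chevG2.commTerms 7 8 = [(9, -2, 1, 1), (10, -3, 2, 1), (11, 3, 1, 2)] ∧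
    chevG2.neg 7 = 4 := by decide +kernel

section char2

variable [CharP F 2]

theorem two_eq_zero_F : (2 : F) = 0 := by
  have := CharP.cast_eq_zero F 2
  exact_mod_cast this

theorem neg_eq_F (a : F) : -a = a := by
  have h2 := two_eq_zero_F (F := F)
  linear_combination (-a) * h2

theorem xg_inv2 (r : Fin 12) (a : F) : (xg r a)⁻¹ = xg r a := by rw [xg_inv, neg_eq_F]

theorem xg_sq2 (r : Fin 12) (a : F) : xg r a * xg r a = 1 := by
  rw [xg_mul]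
  have h2 := two_eq_zero_F (F := F)
  have : a + a = 0 := by linear_combination a * h2
  rw [this, xg_zero]

/-- `x₇(u) x₆(t) = x₆(t) x₇(u) x₈(tu) x₉(tu²) x₁₀(tu³)`. -/
theorem xg2_7_6 (u t : F) : xg 7 u * xg 6 t =
    xg 6 t * xg 7 u * (xg 8 (t * u) * (xg 9 (t * u ^ 2) * xg 10 (t * u ^ 3))) := by
  have h2 := two_eq_zero_F (F := F)
  rw [xg_comm_four (r := 6) (s := 7) (q₁ := 8) (q₂ := 9) (q₃ := 10) (q₄ := 11) (by decide)
    (by change (7 : ℕ) ≠ chevG2.neg 6; rw [g2_terms_6_7.2]; decide) g2_terms_6_7.1 t u]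
  have e4 : ((-2 : ℤ) : F) * (-t) ^ 2 * u ^ 3 = 0 := by
    push_cast; linear_combination (-(t ^ 2 * u ^ 3)) * h2
  have e1 : ((1 : ℤ) : F) * (-t) ^ 1 * u ^ 1 = t * u := by
    push_cast; linear_combination (-(t * u)) * h2
  have e2 : ((1 : ℤ) : F) * (-t) ^ 1 * u ^ 2 = t * u ^ 2 := by
    push_cast; linear_combination (-(t * u ^ 2)) * h2
  have e3 : ((-1 : ℤ) : F) * (-t) ^ 1 * u ^ 3 = t * u ^ 3 := by
    push_cast; ring
  rw [e1, e2, e3, e4, xg_zero, mul_one]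

/-- `x₈(u) x₇(t) = x₇(t) x₈(u) x₁₀(t²u) x₁₁(tu²)`. -/
theorem xg2_8_7 (u t : F) : xg 8 u * xg 7 t =
    xg 7 t * xg 8 u * (xg 10 (t ^ 2 * u) * xg 11 (t * u ^ 2)) := by
  have h2 := two_eq_zero_F (F := F)
  rw [xg_comm_three (r := 7) (s := 8) (q₁ := 9) (q₂ := 10) (q₃ := 11) (by decide)
    (by change (8 : ℕ) ≠ chevG2.neg 7; rw [g2_terms_7_8.2]; decide) g2_terms_7_8.1 t u]
  have e1 : ((-2 : ℤ) : F) * (-t) ^ 1 * u ^ 1 = 0 := by
    push_cast; linear_combination (t * u) * h2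
  have e2 : ((-3 : ℤ) : F) * (-t) ^ 2 * u ^ 1 = t ^ 2 * u := by
    push_cast; linear_combination (-2 * (t ^ 2 * u)) * h2
  have e3 : ((3 : ℤ) : F) * (-t) ^ 1 * u ^ 2 = t * u ^ 2 := by
    push_cast; linear_combination (-2 * (t * u ^ 2)) * h2
  rw [e1, e2, e3, xg_zero, one_mul]

/-- `x₉(u) x₇(t) = x₇(t) x₉(u) x₁₀(tu)`. -/
theorem xg2_9_7 (u t : F) : xg 9 u * xg 7 t = xg 7 t * xg 9 u * xg 10 (t * u) := by
  have h2 := two_eq_zero_F (F := F)
  have h := xg_7_9 t u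
  -- `x₇(t) x₉(u) = x₉(u) x₇(t) x₁₀(3ut)`
  have e : (3 : F) * u * t = t * u := by linear_combination (u * t) * h2
  rw [e] at h
  have c := (c7_10 t (t * u)).eq
  calc xg 9 u * xg 7 t = xg 9 u * xg 7 t * xg 10 (t * u) * xg 10 (t * u) := by
        rw [mul_assoc, xg_sq2, mul_one]
    _ = xg 7 t * xg 9 u * xg 10 (t * u) := by rw [← h]

/-- `x₉(u) x₈(t) = x₈(t) x₉(u) x₁₁(tu)`. -/
theorem xg2_9_8 (u t : F) : xg 9 u * xg 8 t = xg 8 t * xg 9 u * xg 11 (t * u) := by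
  have h2 := two_eq_zero_F (F := F)
  have h := xg_8_9 t u
  have e : (3 : F) * u * t = t * u := by linear_combination (u * t) * h2
  rw [e] at h
  calc xg 9 u * xg 8 t = xg 9 u * xg 8 t * xg 11 (t * u) * xg 11 (t * u) := by
        rw [mul_assoc, xg_sq2, mul_one]
    _ = xg 8 t * xg 9 u * xg 11 (t * u) := by rw [← h]

/-- `x₁₀(u) x₆(t) = x₆(t) x₁₀(u) x₁₁(tu)`. -/
theorem xg2_10_6 (u t : F) : xg 10 u * xg 6 t = xg 6 t * xg 10 u * xg 11 (t * u) := by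
  have h := xg_6_10 t u
  have e : u * t = t * u := mul_comm _ _
  rw [e] at h
  calc xg 10 u * xg 6 t = xg 10 u * xg 6 t * xg 11 (t * u) * xg 11 (t * u) := by
        rw [mul_assoc, xg_sq2, mul_one]
    _ = xg 6 t * xg 10 u * xg 11 (t * u) := by rw [← h]

end char2

end Cfsg.Agent.Helper7.Chev
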