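import Mathlib
import Cfsg.Agent.Helper7.G2InvA
import Cfsg.Agent.Helper7.ChevTwD4

set_option autoImplicit false
set_option linter.unusedSectionVars false
set_option linter.unusedVariables false

/-!
Root elements of the Chevalley group of type `D₄` and their commutation relations in characteristic two.
-/

namespace Cfsg.Agent.Helper7.Chev

open Cfsg Cfsg.Lie Matrix
open scoped Pointwise

variable {K : Type*} [Field K]

theorem d4_lt (r : ℕ) (h : r < 24) : r < chevD4.nroots := h

abbrev d4G1 : Good1 chevD4 := good2_D4.toGood1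

/-- The root element `x_r(a)` of `D₄` as an invertible matrix, for `r < 24`. -/
noncomputable def xd (r : Fin 24) (a : K) : GL chevD4.Idx K := xGL d4G1 (d4_lt r.val r.isLt) a

theorem xd_mul (r : Fin 24) (a b : K) : xd r a * xd r b = xd r (a + b) := xGL_mul d4G1 _ a b

theorem xd_inv (r : Fin 24) (a : K) : (xd r a)⁻¹ = xd r (-a) := xGL_inv d4G1 _ a

theorem xd_zero (r : Fin 24) : xd r (0 : K) = 1 := xGL_zero d4G1 _

theorem xd_coe (r : Fin 24) (a : K) :
    ((xd r a : GL chevD4.Idx K) : Matrix chevD4.Idx chevD4.Idx K) = chevD4.x K r.val a :=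
  xGL_coe d4G1 _ a

theorem xd_mem_Uge {k : ℕ} (r : Fin 24) (hkr : k ≤ r.val) (a : K) : xd r a ∈ Uge chevD4 K k :=
  Subgroup.subset_closure ⟨r.val, a, hkr, r.isLt, xGL_coe d4G1 _ a⟩

/-- `X_k ∩ U_{≥ k+1} = 1` in `D₄`. -/
theorem xd_eq_zero_of_mem_Uge (k : Fin 24) (hk1 : 12 ≤ k.val) {a : K}
    (h : xd k a ∈ Uge chevD4 K (k.val + 1)) : a = 0 :=
  eq_zero_of_xGL_mem_Uge good2_D4 T0_D4 T8_D4 hk1 (d4_lt k.val k.isLt) h

theorem xd_mem_U (r : Fin 24) (hr : 12 ≤ r.val) (a : K) : xd r a ∈ chevD4.posUnipotent K := by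
  rw [posUnipotent_eq_Uge T0_D4]
  exact xd_mem_Uge r hr a

theorem xd_mem_group (r : Fin 24) (a : K) : xd r a ∈ chevD4.group K :=
  xGL_mem_group good2_D4 (d4_lt r.val r.isLt) a

/-- Root elements commute when the list of commutator terms is empty. -/
theorem xd_comm_nil {r s : Fin 24} (hsr : s.val ≠ r.val) (hsn : s.val ≠ chevD4.neg r.val)
    (hterms : chevD4.commTerms r.val s.val = []) (t u : K) :
    xd s u * xd r t = xd r t * xd s u := by
  have hc := good3_D4.comm (F := K) (d4_lt r.val r.isLt) (d4_lt s.val s.isLt) hsr hsn t u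
  unfold ChevalleyDatum.commWord at hc
  rw [hterms, List.map_nil, wordMat_nil, mul_one] at hc
  apply Units.ext
  rw [Units.val_mul, Units.val_mul, xd_coe, xd_coe]
  exact hc

/-- The commutator formula with one term. -/
theorem xd_comm_single {r s q : Fin 24} {c : ℤ} {i j : ℕ}
    (hsr : s.val ≠ r.val) (hsn : s.val ≠ chevD4.neg r.val)
    (hterms : chevD4.commTerms r.val s.val = [(q.val, c, i, j)]) (t u : K) :
    xd s u * xd r t = xd r t * xd s u * xd q ((c : K) * (-t) ^ i * u ^ j) := by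
  have hc := good3_D4.comm (F := K) (d4_lt r.val r.isLt) (d4_lt s.val s.isLt) hsr hsn t u
  unfold ChevalleyDatum.commWord at hc
  rw [hterms, List.map_cons, List.map_nil, wordMat_cons, wordMat_nil, mul_one] at hc
  apply Units.ext
  rw [Units.val_mul, Units.val_mul, Units.val_mul, xd_coe, xd_coe, xd_coe]
  exact hc

/-- The pairs of positive roots of `D₄` whose root elements commute. -/
def d4NilPairs : List (Fin 24 × Fin 24) :=
  [(12, 13), (12, 15), (12, 17), (12, 18), (12, 20), (12, 22), (12, 23), (13, 16), (13, 17), (13, 18),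
    (13, 21), (13, 22), (13, 23), (14, 15), (14, 16), (14, 17), (14, 19), (14, 20), (14, 21), (14, 23),
    (15, 16), (15, 17), (15, 19), (15, 20), (15, 22), (15, 23), (16, 17), (16, 19), (16, 21), (16, 22),
    (16, 23), (17, 20), (17, 21), (17, 22), (17, 23), (18, 19), (18, 20), (18, 21), (18, 22), (18, 23),
    (19, 20), (19, 21), (19, 22), (19, 23), (20, 21), (20, 22), (20, 23), (21, 22), (21, 23), (22, 23)]

/-- The pairs of positive roots of `D₄` whose sum is a root, with the sum and the structure constant. -/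
def d4SumPairs : List (Fin 24 × Fin 24 × Fin 24 × ℤ) :=
  [(12, 14, 15, 1), (12, 16, 17, 1), (12, 19, 20, 1), (12, 21, 22, 1), (13, 14, 16, 1), (13, 15, 17, 1),
    (13, 19, 21, 1), (13, 20, 22, 1), (14, 18, 19, 1), (14, 22, 23, 1), (15, 18, 20, 1), (15, 21, 23, -1),
    (16, 18, 21, 1), (16, 20, 23, -1), (17, 18, 22, 1), (17, 19, 23, 1)]

set_option maxRecDepth 100000 in
theorem d4_nil_pairs : ∀ p ∈ d4NilPairs,
    chevD4.commTerms p.1.val p.2.val = [] ∧ p.2.val ≠ p.1.val ∧ p.2.val ≠ chevD4.neg p.1.val := by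
  decide +kernel

set_option maxRecDepth 100000 in
theorem d4_sum_pairs : ∀ p ∈ d4SumPairs,
    chevD4.commTerms p.1.val p.2.1.val = [(p.2.2.1.val, p.2.2.2, 1, 1)] ∧ p.2.1.val ≠ p.1.val ∧
      p.2.1.val ≠ chevD4.neg p.1.val ∧ (p.2.2.2 = 1 ∨ p.2.2.2 = -1) := by
  decide +kernel

theorem xd_comm_of_mem {r s : Fin 24} (h : (r, s) ∈ d4NilPairs) (t u : K) :
    xd s u * xd r t = xd r t * xd s u := by
  obtain ⟨h1, h2, h3⟩ := d4_nil_pairs (r, s) h
  exact xd_comm_nil h2 h3 h1 t u

section char2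

variable [CharP K 2]

/-- The commutation relation of two positive root elements whose roots add up to a root, in characteristic two. -/
theorem xd_swap_of_mem {r s q : Fin 24} {c : ℤ} (h : (r, s, q, c) ∈ d4SumPairs) (u t : K) :
    xd s u * xd r t = xd r t * xd s u * xd q (t * u) := by
  obtain ⟨h1, h2, h3, h4⟩ := d4_sum_pairs (r, s, q, c) h
  have h2' := two_eq_zero_F (F := K)
  rw [xd_comm_single h2 h3 h1 t u]
  congr 2
  rcases h4 with h4 | h4
  · simp only at h4
    rw [h4]
    push_cast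
    linear_combination (-(t * u)) * h2'
  · simp only at h4
    rw [h4]
    push_cast
    ring

theorem xd_inv2 (r : Fin 24) (a : K) : (xd r a)⁻¹ = xd r a := by rw [xd_inv, neg_eq_F]

theorem xd_sq2 (r : Fin 24) (a : K) : xd r a * xd r a = 1 := by
  have h2 := two_eq_zero_F (F := K)
  have : a + a = 0 := by linear_combination a * h2
  rw [xd_mul, this, xd_zero]

end char2

end Cfsg.Agent.Helper7.Chev
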