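import Mathlib
import Cfsg.Agent.Helper7.ChevFix2

set_option autoImplicit false
set_option linter.unusedSectionVars false
set_option linter.unusedVariables false
set_option linter.style.haveILetI false

/-!
The fixed points of a field automorphism of prime order of a Chevalley group of type `G₂`, `F₄` or `E₈` over a
finite field.
-/

namespace Cfsg.Agent.Helper7.Chev

open Cfsg Cfsg.Lie Matrix

/-- The fixed field of an automorphism of a finite field, as a field in the lowest universe. -/
theorem exists_fixed_field {F : Type*} [Field F] [Fintype F] (σ : F ≃+* F) :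
    ∃ (F₀ : Type) (_ : Field F₀) (_ : Fintype F₀) (ι : F₀ →+* F),
      Fintype.card F = Fintype.card F₀ ^ orderOf σ ∧ (∀ x : F, σ x = x ↔ x ∈ Set.range ι) := by
  classical
  let G : Subgroup (RingAut F) := Subgroup.zpowers (σ : RingAut F)
  haveI : Finite (RingAut F) := DFunLike.finite (RingAut F)
  haveI : Fintype G := Fintype.ofFinite _
  have hcardG : Fintype.card G = orderOf σ := by
    rw [← Nat.card_eq_fintype_card]; exact Nat.card_zpowers σ
  have hrank := FixedPoints.finrank_eq_card G F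
  set K₀ := FixedPoints.subfield G F with hK₀
  have hmem : ∀ x : F, x ∈ K₀ ↔ σ x = x := by
    intro x
    constructor
    · intro hx
      exact hx ⟨σ, Subgroup.mem_zpowers _⟩
    · intro hx g
      have hle : G ≤ MulAction.stabilizer (RingAut F) x := by
        rw [Subgroup.zpowers_le]
        exact hx
      exact hle g.2
  haveI : Fintype K₀ := Fintype.ofFinite _
  have hcardF : Fintype.card F = Fintype.card K₀ ^ orderOf σ := by
    rw [← hcardG, ← hrank]
    exact Module.card_eq_pow_finrank
  let e : Fin (Fintype.card K₀) ≃ K₀ := (Fintype.equivFin K₀).symm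
  letI : Field (Fin (Fintype.card K₀)) := e.field
  refine ⟨Fin (Fintype.card K₀), e.field, inferInstance,
    K₀.subtype.comp (e.ringEquiv : _ →+* K₀), ?_, ?_⟩
  · rw [Fintype.card_fin]; exact hcardF
  · intro x
    rw [← hmem]
    constructor
    · intro hx
      exact ⟨e.symm ⟨x, hx⟩, by simp⟩
    · rintro ⟨y, rfl⟩
      simp

variable {D : ChevalleyDatum} {K F : Type*} [Field K] [Field F]

/-- The homomorphism `G(K) → G(F)` induced by a ring homomorphism. -/
noncomputable def chevMap (D : ChevalleyDatum) (ι : K →+* F) : ↥(D.group K) →* ↥(D.group F) :=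
  ((glMap ι).comp (D.group K).subtype).codRestrict (D.group F)
    (fun g => map_group_le ι ⟨g, g.2, rfl⟩)

theorem chevMap_coe (ι : K →+* F) (g : ↥(D.group K)) :
    ((chevMap D ι g : ↥(D.group F)) : GL D.Idx F) = glMap ι (g : GL D.Idx K) := rfl

theorem chevMap_injective (ι : K →+* F) : Function.Injective (chevMap D ι) := by
  intro a b h
  apply Subtype.ext
  apply glMap_injective ι
  rw [← chevMap_coe, ← chevMap_coe, h]

/-- The field automorphisms as a group of automorphisms of the Chevalley group. -/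
noncomputable def chevFieldAutHom (D : ChevalleyDatum) (F : Type*) [Field F] :
    (F ≃+* F) →* MulAut ↥(D.group F) where
  toFun := Cfsg.Agent.Helper7.chevFieldAut D
  map_one' := by
    apply MulEquiv.ext
    intro g
    apply Subtype.ext
    apply Units.ext
    rw [Cfsg.Agent.Helper7.chevFieldAut_coe]
    ext i j
    rfl
  map_mul' := by
    intro a b
    apply MulEquiv.ext
    intro g
    apply Subtype.ext
    apply Units.ext
    rw [MulAut.mul_apply, Cfsg.Agent.Helper7.chevFieldAut_coe, Cfsg.Agent.Helper7.chevFieldAut_coe,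
      Cfsg.Agent.Helper7.chevFieldAut_coe]
    ext i j
    rfl

section main

variable (hG : Good2 D) (hT : T0 D) (h3 : (tabOf D).T3) (h4 : (tabOf D).T4 60) (h5 : (tabOf D).T5)
  (h6 : (tabOf D).T6) (h7 : (tabOf D).T7) (h8 : (tabOf D).T8) (h9 : (tabOf D).T9)
  {R P Q P' Q' : ℕ → ℕ → ℤ} {d : ℕ → ℕ} (h17 : T17 D R P Q P' Q' d) (hd : ∀ i < D.rank, d i = 1)
  (h0 : 0 < D.nroots)

include hG hT h8 h0 in
theorem chevFieldAutHom_injective : Function.Injective (chevFieldAutHom D F) := by
  have hG1 := hG.toGood1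
  intro a b hab
  apply RingEquiv.ext
  intro t
  have h1 := congrArg (fun f : MulAut ↥(D.group F) => f ⟨xGL hG1 h0 t, xGL_mem_group hG h0 t⟩) hab
  have h2 := congrArg (fun g : ↥(D.group F) => ((g : GL D.Idx F) : Matrix D.Idx D.Idx F)) h1
  simp only [chevFieldAutHom, MonoidHom.coe_mk, OneHom.coe_mk,
    Cfsg.Agent.Helper7.chevFieldAut_coe, xGL_coe] at h2
  have ha : (D.x F 0 t).map a = D.x F 0 (a t) := x_map (a : F →+* F) 0 t
  have hb : (D.x F 0 t).map b = D.x F 0 (b t) := x_map (b : F →+* F) 0 t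
  rw [ha, hb] at h2
  have h3' : xGL hG1 h0 (a t) = xGL hG1 h0 (b t) := by
    apply Units.ext
    rw [xGL_coe, xGL_coe]
    exact h2
  by_contra hne
  have hne' : a t - b t ≠ 0 := sub_ne_zero.mpr hne
  apply xGL_ne_one hG hT h8 h0 hne'
  rw [sub_eq_add_neg, ← xGL_mul, ← xGL_inv, h3', mul_inv_cancel]

/-- An automorphism acting on the root elements through `σ` is the field automorphism of `σ`. -/
theorem eq_chevFieldAut {φ : ↥(D.group F) ≃* ↥(D.group F)} {σ : F ≃+* F}
    (hφ : ∀ (g : ↥(D.group F)) (r : ℕ) (t : F), r < D.nroots →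
      ((g : GL D.Idx F) : Matrix D.Idx D.Idx F) = D.x F r t →
        ((φ g : GL D.Idx F) : Matrix D.Idx D.Idx F) = D.x F r (σ t)) :
    φ = Cfsg.Agent.Helper7.chevFieldAut D σ := by
  apply MulEquiv.ext
  rintro ⟨g, hg⟩
  have key : ∀ (x : GL D.Idx F) (hx : x ∈ D.group F),
      φ ⟨x, hx⟩ = Cfsg.Agent.Helper7.chevFieldAut D σ ⟨x, hx⟩ := by
    intro x hx
    unfold ChevalleyDatum.group at hx
    induction hx using Subgroup.closure_induction with
    | mem x hx =>
      have hx2 := hx
      obtain ⟨r, t, hx'⟩ := hx2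
      apply Subtype.ext
      apply Units.ext
      have hxr : ((x : GL D.Idx F) : Matrix D.Idx D.Idx F) = D.x F r.val t := by
        rw [hx', x_of_lt D F r.2]
      rw [hφ ⟨x, Subgroup.subset_closure hx⟩ r.val t r.2 hxr,
        Cfsg.Agent.Helper7.chevFieldAut_coe]
      change _ = (x : Matrix D.Idx D.Idx F).map σ
      rw [hxr]
      exact (x_map (σ : F →+* F) r.val t).symm
    | one => exact (map_one φ).trans (map_one _).symm
    | mul x y hx hy ihx ihy =>
      have e : (⟨x * y, mul_mem hx hy⟩ : ↥(D.group F)) = ⟨x, hx⟩ * ⟨y, hy⟩ := rfl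
      have := congrArg₂ (· * ·) ihx ihy
      simp only [← map_mul] at this
      exact this
    | inv x hx ihx =>
      have e : (⟨x⁻¹, inv_mem hx⟩ : ↥(D.group F)) = (⟨x, hx⟩ : ↥(D.group F))⁻¹ := rfl
      have := congrArg (·⁻¹) ihx
      simp only [← map_inv] at this
      exact this
  exact key g hg

include hG hT h3 h4 h5 h6 h7 h8 h9 h17 hd in
/-- The fixed points of the field automorphism of `σ` form the group over the fixed field. -/
theorem fix_equiv (σ : F ≃+* F) (ι : K →+* F) (hσ : ∀ x : F, σ x = x ↔ x ∈ Set.range ι) :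
    Nonempty (↥((MulEquiv.toMonoidHom (Cfsg.Agent.Helper7.chevFieldAut D σ)).eqLocus
      (MonoidHom.id ↥(D.group F))) ≃* ↥(D.group K)) := by
  have hrange : (chevMap D ι).range =
      (MulEquiv.toMonoidHom (Cfsg.Agent.Helper7.chevFieldAut D σ)).eqLocus
        (MonoidHom.id ↥(D.group F)) := by
    ext g
    constructor
    · rintro ⟨g', rfl⟩
      change Cfsg.Agent.Helper7.chevFieldAut D σ (chevMap D ι g') = chevMap D ι g'
      apply Subtype.ext
      apply Units.ext
      rw [Cfsg.Agent.Helper7.chevFieldAut_coe, chevMap_coe, glMap_coe]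
      ext i j
      simp only [Matrix.map_apply]
      exact (hσ _).mpr ⟨_, rfl⟩
    · intro hg
      have hg' : Cfsg.Agent.Helper7.chevFieldAut D σ g = g := hg
      have hfix : ((g : GL D.Idx F) : Matrix D.Idx D.Idx F).map σ = (g : GL D.Idx F) := by
        rw [← Cfsg.Agent.Helper7.chevFieldAut_coe, hg']
      obtain ⟨g', hg'K, e⟩ := fixed_mem hG hT h3 h4 h5 h6 h7 h8 h9 h17 hd σ ι hσ g.2 hfix
      exact ⟨⟨g', hg'K⟩, Subtype.ext e⟩
  exact ⟨((MonoidHom.ofInjective (chevMap_injective (D := D) ι)).trans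
    (MulEquiv.subgroupCongr hrange)).symm⟩

include hG hT h3 h4 h5 h6 h7 h8 h9 h17 hd h0 in
/-- The common statement of S2662, S2663 and S2664. -/
theorem fieldAut_fixed_points {F : Type*} [Field F] [Fintype F]
    (φ : MulAut ↥(D.group F)) (hφ : D.IsFieldAut φ) (r : ℕ) (hr : r.Prime) (ho : orderOf φ = r) :
    ∃ (F₀ : Type) (_ : Field F₀) (_ : Fintype F₀), Fintype.card F = Fintype.card F₀ ^ r ∧
      Nonempty (↥((MulEquiv.toMonoidHom φ).eqLocus (MonoidHom.id ↥(D.group F))) ≃*
        ↥(D.group F₀)) := by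
  obtain ⟨σ, hσ⟩ := hφ
  have hφσ : φ = Cfsg.Agent.Helper7.chevFieldAut D σ := eq_chevFieldAut hσ
  have hord : orderOf σ = r := by
    rw [← ho, hφσ]
    exact (orderOf_injective (chevFieldAutHom D F)
      (chevFieldAutHom_injective hG hT h8 h0) σ).symm
  obtain ⟨F₀, iF, iFt, ι, hcard, hfix⟩ := exists_fixed_field σ
  refine ⟨F₀, iF, iFt, ?_, ?_⟩
  · rw [← hord]; exact hcard
  · rw [hφσ]
    exact fix_equiv hG hT h3 h4 h5 h6 h7 h8 h9 h17 hd σ ι hfix

end main

end Cfsg.Agent.Helper7.Chev
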