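import Mathlib
import Cfsg.Agent.Helper7.ChevFix3
import Cfsg.Agent.Helper7.ChevBN
import Cfsg.Agent.Helper7.BNParabolic

set_option autoImplicit false
set_option linter.unusedSectionVars false
set_option linter.unusedVariables false

/-!
The vanishing of the first cohomology of an involutory field automorphism on the subgroups `U` and `B` of a
Chevalley group over a finite field of characteristic two, and the normaliser of `U`.
-/

namespace Cfsg.Agent.Helper7.Chev

open Cfsg Cfsg.Lie Matrix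

section tw

variable {G : Type*} [Group G] (Φ : G →* G)

/-- Twisted conjugation preserves the cocycle condition of an involutory endomorphism. -/
theorem twConj_cocycle (hΦ : ∀ x, Φ (Φ x) = x) {g : G} (hg : g * Φ g = 1) (k : G) :
    (k * g * (Φ k)⁻¹) * Φ (k * g * (Φ k)⁻¹) = 1 := by
  rw [map_mul, map_mul, map_inv, hΦ]
  have : k * g * (Φ k)⁻¹ * (Φ k * Φ g * k⁻¹) = k * (g * Φ g) * k⁻¹ := by group
  rw [this, hg, mul_one, mul_inv_cancel]

theorem twConj_comp (v k g : G) :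
    v * (k * g * (Φ k)⁻¹) * (Φ v)⁻¹ = (v * k) * g * (Φ (v * k))⁻¹ := by
  rw [map_mul, _root_.mul_inv_rev]; group

end tw

/-- Additive Hilbert 90 for an involution of a field of characteristic two. -/
theorem exists_add_conj_eq {F : Type*} [Field F] [CharP F 2] (σ : F ≃+* F)
    (hσ : σ ≠ RingEquiv.refl F) (hσ2 : ∀ t, σ (σ t) = t) {a : F} (ha : σ a = a) :
    ∃ c : F, c + σ c = a := by
  have : ∃ θ, σ θ ≠ θ := by
    by_contra h
    exact hσ (RingEquiv.ext fun t => by
      by_contra ht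
      exact h ⟨t, ht⟩)
  obtain ⟨θ, hθ⟩ := this
  have hδ0 : θ + σ θ ≠ 0 := by
    intro h0
    apply hθ
    have : σ θ = -θ := (neg_eq_of_add_eq_zero_right h0).symm
    rw [this, CharTwo.neg_eq]
  have hσδ : σ (θ + σ θ) = θ + σ θ := by rw [map_add, hσ2, add_comm]
  refine ⟨a * θ / (θ + σ θ), ?_⟩
  rw [map_div₀, map_mul, ha, hσδ, ← add_div, ← mul_add, mul_div_assoc, div_self hδ0, mul_one]

variable {D : ChevalleyDatum} {F : Type*} [Field F]

section inv

variable (σ : F ≃+* F)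

theorem glMap_Uge (k : ℕ) {u : GL D.Idx F} (hu : u ∈ Uge D F k) :
    glMap (D := D) (σ : F →+* F) u ∈ Uge D F k := by
  have : (Uge D F k).map (glMap (D := D) (σ : F →+* F)) ≤ Uge D F k := by
    unfold Uge
    rw [MonoidHom.map_closure, Subgroup.closure_le]
    rintro _ ⟨x, ⟨r, t, h1, h2, hx⟩, rfl⟩
    apply Subgroup.subset_closure
    refine ⟨r, σ t, h1, h2, ?_⟩
    rw [glMap_coe, hx, x_map]
    rfl
  exact this ⟨u, hu, rfl⟩

theorem glMap_posUnipotent (hT : T0 D) {u : GL D.Idx F} (hu : u ∈ D.posUnipotent F) :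
    glMap (D := D) (σ : F →+* F) u ∈ D.posUnipotent F := by
  rw [posUnipotent_eq_Uge hT] at hu ⊢
  exact glMap_Uge σ _ hu

theorem glMap_diagonal {h : GL D.Idx F} (hh : h ∈ D.diagonalSubgroup F) :
    glMap (D := D) (σ : F →+* F) h ∈ D.diagonalSubgroup F := by
  have : (D.diagonalSubgroup F).map (glMap (D := D) (σ : F →+* F)) ≤ D.diagonalSubgroup F := by
    unfold ChevalleyDatum.diagonalSubgroup
    rw [MonoidHom.map_closure, Subgroup.closure_le]
    rintro _ ⟨x, ⟨r, t, h1, h2, hx⟩, rfl⟩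
    apply Subgroup.subset_closure
    refine ⟨r, σ t, h1, (map_ne_zero σ).mpr h2, ?_⟩
    rw [glMap_coe, hx, hMat_map]
    rfl
  exact this ⟨h, hh, rfl⟩

theorem glMap_glMap (hσ2 : ∀ t, σ (σ t) = t) (g : GL D.Idx F) :
    glMap (D := D) (σ : F →+* F) (glMap (D := D) (σ : F →+* F) g) = g := by
  apply Units.ext
  rw [glMap_coe, glMap_coe, Matrix.map_map]
  ext i j
  simp only [Matrix.map_apply, Function.comp_apply]
  exact hσ2 _

end inv

section lang

variable (hG : Good2 D) (hT : T0 D) (h3 : (tabOf D).T3) (h4 : (tabOf D).T4 60)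
  (h7 : (tabOf D).T7) (h8 : (tabOf D).T8)
  [CharP F 2] (σ : F ≃+* F) (hσ : σ ≠ RingEquiv.refl F) (hσ2 : ∀ t, σ (σ t) = t)

include hG hT h3 h4 h7 h8 hσ hσ2 in
/-- `H¹(⟨σ⟩, U) = 1`, by dévissage along the root subgroups. -/
theorem lang_Uge : ∀ (j k : ℕ), k + j = D.nroots → D.nroots / 2 ≤ k → ∀ u : GL D.Idx F,
    u ∈ Uge D F k → u * glMap (D := D) (σ : F →+* F) u = 1 →
      ∃ v ∈ D.posUnipotent F, v * u * (glMap (D := D) (σ : F →+* F) v)⁻¹ = 1 := by
  intro j
  induction j with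
  | zero =>
    intro k hk _ u hu _
    have : k = D.nroots := by omega
    rw [this, Uge_top, Subgroup.mem_bot] at hu
    refine ⟨1, one_mem _, ?_⟩
    rw [hu, map_one, inv_one, mul_one, mul_one]
  | succ j ih =>
    intro k hk hk1 u hu hcoc
    have hG1 := hG.toGood1
    have hkn : k < D.nroots := by omega
    obtain ⟨a, u', hu', rfl⟩ := Uge_decomp hG hT h3 h4 h7 hk1 hkn hu
    have hΦx : ∀ t, glMap (D := D) (σ : F →+* F) (xGL hG1 hkn t) = xGL hG1 hkn (σ t) :=
      fun t => glMap_xGL _ hG1 hkn t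
    have hnorm := fun t => xGL_mem_normalizer_Uge (F := F) hG hT h3 h4 h7 hk1 hkn t
    have hΦu' : glMap (D := D) (σ : F →+* F) u' ∈ Uge D F (k + 1) := glMap_Uge σ (k + 1) hu'
    have hy : (xGL hG1 hkn (σ a))⁻¹ * u' * xGL hG1 hkn (σ a) ∈ Uge D F (k + 1) := by
      have := (Subgroup.mem_set_normalizer_iff.mp (hnorm (-(σ a))) u').mp hu'
      rw [← xGL_inv, inv_inv] at this
      exact this
    have e1 : xGL hG1 hkn (a + σ a) =
        ((xGL hG1 hkn (σ a))⁻¹ * u' * xGL hG1 hkn (σ a) * glMap (D := D) (σ : F →+* F) u')⁻¹ := by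
      rw [← xGL_mul, eq_inv_iff_mul_eq_one]
      rw [map_mul, hΦx] at hcoc
      rw [← hcoc]
      group
    have ha0 : a + σ a = 0 := eq_zero_of_xGL_mem_Uge hG hT h8 hk1 hkn
      (by rw [e1]; exact inv_mem (mul_mem hy hΦu'))
    have ha : σ a = a := by
      have : σ a = -a := (neg_eq_of_add_eq_zero_right ha0).symm
      rw [this, CharTwo.neg_eq]
    obtain ⟨c, hc⟩ := exists_add_conj_eq σ hσ hσ2 ha
    have hv₁ : xGL hG1 hkn c ∈ D.posUnipotent F := by
      rw [posUnipotent_eq_Uge hT]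
      exact Uge_anti hk1 (Subgroup.subset_closure ⟨k, c, le_rfl, hkn, xGL_coe hG1 hkn c⟩)
    have hu₁ : xGL hG1 hkn c * (xGL hG1 hkn a * u') *
        (glMap (D := D) (σ : F →+* F) (xGL hG1 hkn c))⁻¹ ∈ Uge D F (k + 1) := by
      rw [hΦx]
      have e : xGL hG1 hkn c * (xGL hG1 hkn a * u') * (xGL hG1 hkn (σ c))⁻¹ =
          xGL hG1 hkn (c + a + -σ c) *
            (xGL hG1 hkn (σ c) * u' * (xGL hG1 hkn (σ c))⁻¹) := by
        rw [← xGL_mul, ← xGL_mul, ← xGL_inv]
        group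
      rw [e]
      have h0 : c + a + -σ c = 0 := by
        have : c + a + -σ c = c + c := by rw [← hc]; ring
        rw [this, CharTwo.add_self_eq_zero]
      rw [h0, xGL_zero, one_mul]
      exact (Subgroup.mem_set_normalizer_iff.mp (hnorm (σ c)) u').mp hu'
    have hcoc₁ := twConj_cocycle (glMap (D := D) (σ : F →+* F)) (glMap_glMap σ hσ2) hcoc
      (xGL hG1 hkn c)
    obtain ⟨v₂, hv₂, e₂⟩ := ih (k + 1) (by omega) (by omega) _ hu₁ hcoc₁
    refine ⟨v₂ * xGL hG1 hkn c, mul_mem hv₂ hv₁, ?_⟩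
    rw [← twConj_comp]
    exact e₂

/-- The diagonal subgroup has odd order in characteristic two. -/
theorem odd_card_diagonal [Fintype F] (hG1 : Good1 D) : Odd (Nat.card (D.diagonalSubgroup F)) := by
  classical
  rw [← torusHom_range hG1]
  have hdvd := Subgroup.card_range_dvd (torusHom D F)
  have hodd : Odd (Nat.card (Fin D.rank → Fˣ)) := by
    rw [Nat.card_eq_fintype_card, Fintype.card_fun, Fintype.card_units, Fintype.card_fin]
    apply Odd.pow
    obtain ⟨n, hp, hn⟩ := FiniteField.card F 2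
    rw [hn]
    apply Nat.Even.sub_odd (Nat.one_le_two_pow) _ odd_one
    exact (Nat.even_pow.mpr ⟨even_two, n.ne_zero⟩)
  exact Odd.of_dvd_nat hodd hdvd

include hG hT h3 h4 h7 h8 hσ hσ2 in
/-- `H¹(⟨σ⟩, B) = 1`. -/
theorem lang_borel [Fintype F] {b : GL D.Idx F} (hb : b ∈ D.borelSubgroup F)
    (hcoc : b * glMap (D := D) (σ : F →+* F) b = 1) :
    ∃ v ∈ D.borelSubgroup F, v * b * (glMap (D := D) (σ : F →+* F) v)⁻¹ = 1 := by
  have hG1 := hG.toGood1
  obtain ⟨u, hu, h, hh, rfl⟩ := borel_decomp hG hb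
  have hΦu := glMap_posUnipotent σ hT hu
  have hΦh := glMap_diagonal σ hh
  have hHn := diagonalSubgroup_le_normalizer_pos (F := F) hG
  have e0 : (u * (h * glMap (D := D) (σ : F →+* F) u * h⁻¹)) *
      (h * glMap (D := D) (σ : F →+* F) h) = 1 := by
    rw [← hcoc, map_mul]
    group
  have e1 := eq_inv_of_mul_eq_one_right e0
  have hhU : h * glMap (D := D) (σ : F →+* F) h ∈ D.posUnipotent F := by
    rw [e1]
    exact inv_mem (mul_mem hu ((Subgroup.mem_set_normalizer_iff.mp (hHn hh) _).mp hΦu))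
  have hh1 : h * glMap (D := D) (σ : F →+* F) h = 1 := by
    have : h * glMap (D := D) (σ : F →+* F) h ∈ D.posUnipotent F ⊓ D.diagonalSubgroup F :=
      ⟨hhU, mul_mem hh hΦh⟩
    rw [posUnipotent_inf_diagonal hG hT] at this
    exact Subgroup.mem_bot.mp this
  have hΦh' : glMap (D := D) (σ : F →+* F) h = h⁻¹ := eq_inv_of_mul_eq_one_right hh1
  obtain ⟨j, hj⟩ := odd_card_diagonal (F := F) hG1
  have hpow : h ^ (2 * j + 1) = 1 := by
    rw [← hj]
    have := pow_card_eq_one' (G := ↥(D.diagonalSubgroup F)) (x := ⟨h, hh⟩)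
    exact congrArg Subtype.val this
  have hm : h ^ j ∈ D.diagonalSubgroup F := pow_mem hh j
  have hΦm : glMap (D := D) (σ : F →+* F) (h ^ j) = (h ^ j)⁻¹ := by
    rw [map_pow, hΦh', inv_pow]
  have hmm : h ^ j * h * h ^ j = 1 := by
    rw [← pow_succ, ← pow_add]
    have : j + 1 + j = 2 * j + 1 := by ring
    rw [this, hpow]
  have hb₁ : h ^ j * (u * h) * (glMap (D := D) (σ : F →+* F) (h ^ j))⁻¹ =
      h ^ j * u * (h ^ j)⁻¹ := by
    rw [hΦm, inv_inv]
    have : h ^ j * (u * h) * h ^ j = h ^ j * u * (h ^ j)⁻¹ * (h ^ j * h * h ^ j) := by group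
    rw [this, hmm, mul_one]
  have hb₁U : h ^ j * (u * h) * (glMap (D := D) (σ : F →+* F) (h ^ j))⁻¹ ∈
      Uge D F (D.nroots / 2) := by
    rw [hb₁, ← posUnipotent_eq_Uge hT]
    exact (Subgroup.mem_set_normalizer_iff.mp (hHn hm) _).mp hu
  have hcoc₁ := twConj_cocycle (glMap (D := D) (σ : F →+* F)) (glMap_glMap σ hσ2) hcoc (h ^ j)
  have hle : D.nroots / 2 ≤ D.nroots := Nat.div_le_self _ _
  obtain ⟨v, hv, ev⟩ := lang_Uge hG hT h3 h4 h7 h8 σ hσ hσ2 (D.nroots - D.nroots / 2)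
    (D.nroots / 2) (by omega) le_rfl _ hb₁U hcoc₁
  refine ⟨v * h ^ j, mul_mem (Subgroup.mem_sup_left hv) (Subgroup.mem_sup_right hm), ?_⟩
  rw [← twConj_comp]
  exact ev

end lang

section norm

variable (hG : Good2 D) (hT : T0 D) (h3 : (tabOf D).T3) (h4 : (tabOf D).T4 60) (h5 : (tabOf D).T5)
  (h6 : (tabOf D).T6) (h8 : (tabOf D).T8) (h9 : (tabOf D).T9)

include hG hT h3 h4 h5 h6 h8 h9 in
/-- The normaliser of `U` in the Chevalley group is `B`. -/
theorem normalizer_pos_inf_group_le :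
    Subgroup.normalizer (D.posUnipotent F : Set (GL D.Idx F)) ⊓ D.group F ≤ D.borelSubgroup F := by
  have hG1 := hG.toGood1
  have hBG : D.borelSubgroup F ≤ D.group F := borelSubgroup_le_group hG1
  have hUB : D.posUnipotent F ≤ D.borelSubgroup F := le_sup_left
  have hBN : D.borelSubgroup F ≤ Subgroup.normalizer (D.posUnipotent F : Set (GL D.Idx F)) := by
    unfold ChevalleyDatum.borelSubgroup
    exact sup_le Subgroup.le_normalizer (diagonalSubgroup_le_normalizer_pos hG)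
  obtain ⟨P, hPB, hPN', hPS⟩ := exists_bnPair (F := F) hG hT h3 h4 h5 h6 h8 h9
  set M : Subgroup (GL D.Idx F) :=
    Subgroup.normalizer (D.posUnipotent F : Set (GL D.Idx F)) ⊓ D.group F with hM
  have hBM : P.B ≤ M.subgroupOf (D.group F) := by
    rw [hPB]
    intro b hb
    rw [Subgroup.mem_subgroupOf] at hb ⊢
    exact ⟨hBN hb, b.2⟩
  have hpar := BN.eq_parabolic_of_le P (M.subgroupOf (D.group F)) hBM
  intro g hg
  have hgG : g ∈ D.group F := hg.2
  have hg' : (⟨g, hgG⟩ : ↥(D.group F)) ∈ M.subgroupOf (D.group F) := hg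
  rw [hpar] at hg'
  have hle : P.parabolic (P.S ∩ ((M.subgroupOf (D.group F) : Subgroup ↥(D.group F)) :
      Set ↥(D.group F))) ≤ (D.borelSubgroup F).subgroupOf (D.group F) := by
    unfold BNPair.parabolic
    apply sup_le
    · rw [hPB]
    · rw [Subgroup.closure_le]
      rintro s ⟨hsS, hsM⟩
      exfalso
      rw [hPS] at hsS
      obtain ⟨k, hk, hs⟩ := hsS
      have hs' : (s : GL D.Idx F) = nGL hG1 (hG1.simple_lt hk) :=
        Units.ext (hs.trans (nGL_coe hG1 (hG1.simple_lt hk)).symm)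
      have hsN : (s : GL D.Idx F) ∈
          Subgroup.normalizer (D.posUnipotent F : Set (GL D.Idx F)) := hsM.1
      have hp := hG1.simple_lt hk
      have hpos : D.IsPosRoot (D.simple k) :=
        (isPosRoot_iff hT hp).mpr (simple_pos hG1 hT hk)
      have hx : xGL hG1 hp (1 : F) ∈ D.posUnipotent F :=
        Subgroup.subset_closure ⟨D.simple k, 1, hpos, xGL_coe hG1 hp 1⟩
      have hc := (Subgroup.mem_set_normalizer_iff.mp hsN _).mp hx
      rw [hs'] at hc
      exact nGL_conj_self_not_mem_borel (F := F) hG hT h8 hk (hUB hc)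
  exact hle hg'

end norm

end Cfsg.Agent.Helper7.Chev
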