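import Mathlib
import Cfsg.Agent.Helper7.ChevLang1
import Cfsg.Agent.Helper7.ChevSylow
import Cfsg.Agent.Helper7.ChevTw11

set_option autoImplicit false
set_option linter.unusedSectionVars false
set_option linter.unusedVariables false
set_option linter.style.haveILetI false

/-!
Automorphisms of a Chevalley group over a finite field, part A: up to an inner automorphism, an automorphism
stabilises `U` and `V`, hence also `B`, `B⁻` and `H`.
-/

namespace Cfsg.Agent.Helper7.Chev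

open Cfsg Cfsg.Lie Matrix

variable {D : ChevalleyDatum} {F : Type*} [Field F]

/-- The automorphism `θ` maps the part of `K` in the group onto the part of `K'` in the group. -/
def MapsOnto (θ : ↥(D.group F) ≃* ↥(D.group F)) (K K' : Subgroup (GL D.Idx F)) : Prop :=
  ∀ x : ↥(D.group F), (x : GL D.Idx F) ∈ K ↔ ((θ x : ↥(D.group F)) : GL D.Idx F) ∈ K'

theorem MapsOnto.symm {θ : ↥(D.group F) ≃* ↥(D.group F)} {K K' : Subgroup (GL D.Idx F)}
    (h : MapsOnto θ K K') : MapsOnto θ.symm K' K := by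
  intro x
  have := h (θ.symm x)
  rw [MulEquiv.apply_symm_apply] at this
  exact this.symm

theorem MapsOnto.trans {θ θ' : ↥(D.group F) ≃* ↥(D.group F)} {K K' K'' : Subgroup (GL D.Idx F)}
    (h : MapsOnto θ K K') (h' : MapsOnto θ' K' K'') : MapsOnto (θ.trans θ') K K'' := by
  intro x
  rw [h x, h' (θ x)]
  rfl

theorem MapsOnto.inf {θ : ↥(D.group F) ≃* ↥(D.group F)} {K₁ K₁' K₂ K₂' : Subgroup (GL D.Idx F)}
    (h₁ : MapsOnto θ K₁ K₁') (h₂ : MapsOnto θ K₂ K₂') : MapsOnto θ (K₁ ⊓ K₂) (K₁' ⊓ K₂') := by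
  intro x
  rw [Subgroup.mem_inf, Subgroup.mem_inf, h₁ x, h₂ x]

theorem mapsOnto_conj (g : ↥(D.group F)) (K : Subgroup (GL D.Idx F)) :
    MapsOnto (MulAut.conj g) K (K.map (MulAut.conj (g : GL D.Idx F)).toMonoidHom) := by
  intro x
  constructor
  · intro hx
    exact ⟨x, hx, rfl⟩
  · rintro ⟨y, hy, e⟩
    have : y = x := (MulAut.conj (g : GL D.Idx F)).injective e
    rw [← this]
    exact hy

/-- An automorphism mapping `K` onto `K'` maps the normaliser of `K` in the group onto that of `K'`. -/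
theorem MapsOnto.normalizer {θ : ↥(D.group F) ≃* ↥(D.group F)} {K K' : Subgroup (GL D.Idx F)}
    (hK : K ≤ D.group F) (hK' : K' ≤ D.group F) (h : MapsOnto θ K K') :
    MapsOnto θ (Subgroup.normalizer (K : Set (GL D.Idx F)) ⊓ D.group F)
      (Subgroup.normalizer (K' : Set (GL D.Idx F)) ⊓ D.group F) := by
  have key : ∀ (θ : ↥(D.group F) ≃* ↥(D.group F)) (K K' : Subgroup (GL D.Idx F)),
      K ≤ D.group F → K' ≤ D.group F → MapsOnto θ K K' → ∀ x : ↥(D.group F),
      (x : GL D.Idx F) ∈ Subgroup.normalizer (K : Set (GL D.Idx F)) →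
      ((θ x : ↥(D.group F)) : GL D.Idx F) ∈ Subgroup.normalizer (K' : Set (GL D.Idx F)) := by
    intro θ K K' hK hK' h x hx
    rw [Subgroup.mem_set_normalizer_iff] at hx ⊢
    have hmem : ∀ y : ↥(D.group F), (y : GL D.Idx F) ∈ K' ↔
        ((θ x : ↥(D.group F)) : GL D.Idx F) * y * ((θ x : ↥(D.group F)) : GL D.Idx F)⁻¹ ∈ K' := by
      intro y
      have h1 : ((θ.symm y : ↥(D.group F)) : GL D.Idx F) ∈ K ↔
          (x : GL D.Idx F) * ((θ.symm y : ↥(D.group F)) : GL D.Idx F) * (x : GL D.Idx F)⁻¹ ∈ K :=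
        hx ((θ.symm y : ↥(D.group F)) : GL D.Idx F)
      have h2 := h (θ.symm y)
      rw [MulEquiv.apply_symm_apply] at h2
      have h3 := h (x * θ.symm y * x⁻¹)
      rw [map_mul, map_mul, map_inv, MulEquiv.apply_symm_apply] at h3
      exact h2.symm.trans (h1.trans h3)
    intro y
    by_cases hy : y ∈ D.group F
    · exact hmem ⟨y, hy⟩
    · constructor
      · intro hyK
        exact absurd (hK' hyK) hy
      · intro hyK
        exfalso
        apply hy
        have h3' := hK' hyK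
        have : y = ((θ x : ↥(D.group F)) : GL D.Idx F)⁻¹ *
            (((θ x : ↥(D.group F)) : GL D.Idx F) * y * ((θ x : ↥(D.group F)) : GL D.Idx F)⁻¹) *
            ((θ x : ↥(D.group F)) : GL D.Idx F) := by group
        rw [this]
        exact mul_mem (mul_mem (inv_mem (θ x).2) h3') (θ x).2
  intro x
  constructor
  · rintro ⟨hx, _⟩
    exact ⟨key θ K K' hK hK' h x hx, (θ x).2⟩
  · rintro ⟨hx, _⟩
    have := key θ.symm K' K hK' hK h.symm (θ x) hx
    rw [MulEquiv.symm_apply_apply] at this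
    exact ⟨this, x.2⟩

section normalize

variable (hG : Good2 D) (hT : T0 D) (h3 : (tabOf D).T3) (h4 : (tabOf D).T4 60) (h5 : (tabOf D).T5)
  (h6 : (tabOf D).T6) (h7 : (tabOf D).T7) (h8 : (tabOf D).T8) (h9 : (tabOf D).T9)

include hG hT h3 h4 h7 h8 h9 in
/-- An element of `N` conjugating `U` to a subgroup meeting `U` trivially conjugates `U` onto `V`. -/
theorem conj_pos_eq_neg_of_inf_eq_bot [Fintype F] {w₀ : List ℕ} (hw₀ : (tabOf D).W0ok w₀)
    {m : GL D.Idx F} (hm : m ∈ D.monomialSubgroup F)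
    (h : D.posUnipotent F ⊓ (D.posUnipotent F).map (MulAut.conj m).toMonoidHom = ⊥) :
    (D.posUnipotent F).map (MulAut.conj m).toMonoidHom = D.negUnipotent F := by
  classical
  have hG1 := hG.toGood1
  obtain ⟨h₀, hh₀, w, hw, rfl⟩ := monomialSubgroup_le_nWords hG hT h9 hm
  have hHU := diagonalSubgroup_le_normalizer_pos (F := F) hG
  have hHV := diagonalSubgroup_le_normalizer_neg (F := F) hG
  -- conjugation of a root element
  have hconj : ∀ {s : ℕ} (hs : s < D.nroots) (t : F),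
      (h₀ * nWordGL hG w) * xGL hG1 hs t * (h₀ * nWordGL hG w)⁻¹ =
        h₀ * xGL hG1 (reflWord_lt hG hw hs) ((((tabOf D).etaWord w s : ℤ) : F) * t) * h₀⁻¹ := by
    intro s hs t
    rw [← nWordGL_conj hG hw hs t]
    group
  -- every positive root goes to a negative root
  have hneg : ∀ s < D.nroots, D.nroots / 2 ≤ s → (tabOf D).reflWord w s < D.nroots / 2 := by
    intro s hs hpos
    by_contra hc
    rw [not_lt] at hc
    have hs' := reflWord_lt hG hw hs
    have hxU : xGL hG1 hs (1 : F) ∈ D.posUnipotent F :=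
      Subgroup.subset_closure ⟨s, 1, (isPosRoot_iff hT hs).mpr hpos, xGL_coe hG1 hs 1⟩
    have h1 : (h₀ * nWordGL hG w) * xGL hG1 hs (1 : F) * (h₀ * nWordGL hG w)⁻¹ ∈
        D.posUnipotent F := by
      rw [hconj hs 1]
      apply (Subgroup.mem_set_normalizer_iff.mp (hHU hh₀) _).mp
      exact Subgroup.subset_closure ⟨_, _, (isPosRoot_iff hT hs').mpr hc, xGL_coe hG1 hs' _⟩
    have h2 : (h₀ * nWordGL hG w) * xGL hG1 hs (1 : F) * (h₀ * nWordGL hG w)⁻¹ ∈
        (D.posUnipotent F).map (MulAut.conj (h₀ * nWordGL hG w)).toMonoidHom :=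
      ⟨_, hxU, rfl⟩
    have h3' : (h₀ * nWordGL hG w) * xGL hG1 hs (1 : F) * (h₀ * nWordGL hG w)⁻¹ ∈
        (⊥ : Subgroup (GL D.Idx F)) := by
      rw [← h]; exact ⟨h1, h2⟩
    rw [Subgroup.mem_bot, mul_inv_eq_one, mul_eq_left] at h3'
    exact xGL_ne_one hG hT h8 hs one_ne_zero h3'
  have hle : (D.posUnipotent F).map (MulAut.conj (h₀ * nWordGL hG w)).toMonoidHom ≤
      D.negUnipotent F := by
    unfold ChevalleyDatum.posUnipotent
    rw [MonoidHom.map_closure, Subgroup.closure_le]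
    rintro _ ⟨x, ⟨s, t, hs, hx⟩, rfl⟩
    have hslt := hs.1
    have hs' := reflWord_lt hG hw hslt
    rw [eq_xGL hG1 hslt hx]
    change (h₀ * nWordGL hG w) * xGL hG1 hslt t * (h₀ * nWordGL hG w)⁻¹ ∈ D.negUnipotent F
    rw [hconj hslt t]
    apply (Subgroup.mem_set_normalizer_iff.mp (hHV hh₀) _).mp
    exact Subgroup.subset_closure ⟨_, _, (isNegRoot_iff hT hs').mpr
      (hneg s hslt ((isPosRoot_iff hT hslt).mp hs)), xGL_coe hG1 hs' _⟩
  haveI : Finite (GL D.Idx F) := inferInstance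
  apply Subgroup.eq_of_le_of_card_ge hle
  rw [← nWordGL_conj_pos_eq_neg (K := F) hG hT hw₀]
  rw [Subgroup.card_map_of_injective (MulAut.conj _).injective,
    Subgroup.card_map_of_injective (MulAut.conj _).injective]

end normalize

theorem mem_map_conj {G : Type*} [Group G] {K : Subgroup G} {g z : G} :
    z ∈ K.map (MulAut.conj g).toMonoidHom ↔ g⁻¹ * z * g ∈ K := by
  rw [Subgroup.mem_map_equiv, MulAut.conj_symm_apply]

section normalize2

variable (hG : Good2 D) (hT : T0 D) (h3 : (tabOf D).T3) (h4 : (tabOf D).T4 60) (h5 : (tabOf D).T5)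
  (h6 : (tabOf D).T6) (h7 : (tabOf D).T7) (h8 : (tabOf D).T8) (h9 : (tabOf D).T9)
  [Fintype F] (p : ℕ) [Fact p.Prime] {w₀ : List ℕ} (hw₀ : (tabOf D).W0ok w₀)
  (hSyl : ∃ P : Sylow p ↥(D.group F),
    (P : Subgroup ↥(D.group F)) = (D.posUnipotent F).subgroupOf (D.group F))

include hG hT h3 h4 h5 h6 h7 h8 h9 hw₀ hSyl in
/-- Up to an inner automorphism, an automorphism stabilises `U` and `V`. -/
theorem exists_normalize (θ : ↥(D.group F) ≃* ↥(D.group F)) :
    ∃ x : ↥(D.group F),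
      MapsOnto (θ.trans (MulAut.conj x)) (D.posUnipotent F) (D.posUnipotent F) ∧
      MapsOnto (θ.trans (MulAut.conj x)) (D.negUnipotent F) (D.negUnipotent F) := by
  classical
  have hG1 := hG.toGood1
  have hBG : D.borelSubgroup F ≤ D.group F := borelSubgroup_le_group hG1
  have hUB : D.posUnipotent F ≤ D.borelSubgroup F := le_sup_left
  have hUG : D.posUnipotent F ≤ D.group F := le_trans hUB hBG
  have hNG : D.monomialSubgroup F ≤ D.group F := monomialSubgroup_le_group hG1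
  obtain ⟨PU, hPU⟩ := hSyl
  -- Step 1: stabilise `U`
  obtain ⟨k, hk⟩ := MulAction.exists_smul_eq ↥(D.group F) ((θ : MulAut ↥(D.group F)) • PU) PU
  set θ₁ : ↥(D.group F) ≃* ↥(D.group F) := θ.trans (MulAut.conj k) with hθ₁
  have hθ₁U : MapsOnto θ₁ (D.posUnipotent F) (D.posUnipotent F) := by
    have hsub : ((PU : Subgroup ↥(D.group F)).map (θ : MulAut ↥(D.group F)).toMonoidHom).map
        (MulAut.conj k).toMonoidHom = PU := by
      have := congrArg (fun P : Sylow p ↥(D.group F) => (P : Subgroup ↥(D.group F))) hk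
      exact this
    intro x
    have h1 : (x : GL D.Idx F) ∈ D.posUnipotent F ↔ x ∈ (PU : Subgroup ↥(D.group F)) := by
      rw [hPU, Subgroup.mem_subgroupOf]
    have h2 : ((θ₁ x : ↥(D.group F)) : GL D.Idx F) ∈ D.posUnipotent F ↔
        θ₁ x ∈ (PU : Subgroup ↥(D.group F)) := by
      rw [hPU, Subgroup.mem_subgroupOf]
    rw [h1, h2]
    constructor
    · intro hx
      rw [← hsub]
      exact ⟨θ x, ⟨x, hx, rfl⟩, rfl⟩
    · intro hx
      rw [← hsub] at hx
      obtain ⟨y, ⟨z, hz, rfl⟩, e⟩ := hx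
      have : z = x := θ₁.injective e
      rw [← this]
      exact hz
  -- Step 2: the image of `V`
  have hn₀N : (nWordGL hG w₀ : GL D.Idx F) ∈ D.monomialSubgroup F := nWordGL_mem hG w₀
  have hn₀G : (nWordGL hG w₀ : GL D.Idx F) ∈ D.group F := hNG hn₀N
  have hV : (D.posUnipotent F).map (MulAut.conj (nWordGL hG w₀)).toMonoidHom = D.negUnipotent F :=
    nWordGL_conj_pos_eq_neg (K := F) hG hT hw₀
  set y : ↥(D.group F) := θ₁ ⟨nWordGL hG w₀, hn₀G⟩ with hy
  have hθ₁V : MapsOnto θ₁ (D.negUnipotent F)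
      ((D.posUnipotent F).map (MulAut.conj (y : GL D.Idx F)).toMonoidHom) := by
    intro x
    rw [← hV, mem_map_conj, mem_map_conj]
    have := hθ₁U ((⟨nWordGL hG w₀, hn₀G⟩ : ↥(D.group F))⁻¹ * x * ⟨nWordGL hG w₀, hn₀G⟩)
    rw [map_mul, map_mul, map_inv] at this
    exact this
  have hUV : D.posUnipotent F ⊓ D.negUnipotent F = ⊥ := by
    rw [eq_bot_iff, ← borel_inf_negUnipotent (F := F) hG hT]
    exact inf_le_inf_right _ hUB
  have hdisj : D.posUnipotent F ⊓
      (D.posUnipotent F).map (MulAut.conj (y : GL D.Idx F)).toMonoidHom = ⊥ := by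
    rw [eq_bot_iff]
    rintro z ⟨hz1, hz2⟩
    rw [Subgroup.mem_bot]
    have hzG : z ∈ D.group F := hUG hz1
    have e : θ₁ (θ₁.symm ⟨z, hzG⟩) = ⟨z, hzG⟩ := θ₁.apply_symm_apply _
    have h1 : ((θ₁.symm ⟨z, hzG⟩ : ↥(D.group F)) : GL D.Idx F) ∈ D.posUnipotent F := by
      rw [hθ₁U, e]; exact hz1
    have h2 : ((θ₁.symm ⟨z, hzG⟩ : ↥(D.group F)) : GL D.Idx F) ∈ D.negUnipotent F := by
      rw [hθ₁V, e]; exact hz2
    have h3' : ((θ₁.symm ⟨z, hzG⟩ : ↥(D.group F)) : GL D.Idx F) ∈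
        (⊥ : Subgroup (GL D.Idx F)) := by
      rw [← hUV]; exact ⟨h1, h2⟩
    rw [Subgroup.mem_bot] at h3'
    have h4' : θ₁.symm ⟨z, hzG⟩ = 1 := Subtype.ext h3'
    rw [h4', map_one] at e
    exact (congrArg Subtype.val e).symm
  -- Bruhat decomposition of `y⁻¹`
  obtain ⟨b, hb, n, hn, u, hu, e⟩ :=
    (bruhat_normal_form (F := F) hG hT h3 h4 h5 h6 h8 h9).1 ((y : GL D.Idx F)⁻¹) (inv_mem y.2)
  have huU : u ∈ D.posUnipotent F := by
    refine (Subgroup.closure_mono ?_ : Subgroup.closure (minusGen' D F n) ≤ D.posUnipotent F) hu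
    rintro x ⟨r, t, hr, _, hx⟩
    exact ⟨r, t, hr, hx⟩
  have hye : (y : GL D.Idx F) = u⁻¹ * n⁻¹ * b⁻¹ := by
    rw [← _root_.inv_inj, e]; group
  have hbN : b ∈ Subgroup.normalizer (D.posUnipotent F : Set (GL D.Idx F)) := by
    have hBN : D.borelSubgroup F ≤
        Subgroup.normalizer (D.posUnipotent F : Set (GL D.Idx F)) := by
      unfold ChevalleyDatum.borelSubgroup
      exact sup_le Subgroup.le_normalizer (diagonalSubgroup_le_normalizer_pos hG)
    exact hBN hb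
  have hyU : ∀ z, z ∈ (D.posUnipotent F).map (MulAut.conj (y : GL D.Idx F)).toMonoidHom ↔
      u * z * u⁻¹ ∈ (D.posUnipotent F).map (MulAut.conj n⁻¹).toMonoidHom := by
    intro z
    rw [mem_map_conj, mem_map_conj, hye]
    have hb' := Subgroup.mem_set_normalizer_iff.mp hbN (n * (u * z * u⁻¹) * n⁻¹)
    have e1 : (u⁻¹ * n⁻¹ * b⁻¹)⁻¹ * z * (u⁻¹ * n⁻¹ * b⁻¹) =
        b * (n * (u * z * u⁻¹) * n⁻¹) * b⁻¹ := by group
    have e2 : n⁻¹⁻¹ * (u * z * u⁻¹) * n⁻¹ = n * (u * z * u⁻¹) * n⁻¹ := by rw [inv_inv]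
    rw [e1, e2]
    exact hb'.symm
  have hdisj2 : D.posUnipotent F ⊓ (D.posUnipotent F).map (MulAut.conj n⁻¹).toMonoidHom = ⊥ := by
    rw [eq_bot_iff]
    rintro z ⟨hz1, hz2⟩
    rw [Subgroup.mem_bot]
    have h1 : u⁻¹ * z * u ∈ D.posUnipotent F := mul_mem (mul_mem (inv_mem huU) hz1) huU
    have h2 : u⁻¹ * z * u ∈ (D.posUnipotent F).map (MulAut.conj (y : GL D.Idx F)).toMonoidHom := by
      rw [hyU]
      have : u * (u⁻¹ * z * u) * u⁻¹ = z := by group
      rw [this]; exact hz2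
    have h3' : u⁻¹ * z * u ∈ (⊥ : Subgroup (GL D.Idx F)) := by
      rw [← hdisj]; exact ⟨h1, h2⟩
    rw [Subgroup.mem_bot] at h3'
    have : z = u * (u⁻¹ * z * u) * u⁻¹ := by group
    rw [this, h3']; group
  have hnV := conj_pos_eq_neg_of_inf_eq_bot hG hT h3 h4 h7 h8 h9 hw₀ (inv_mem hn) hdisj2
  -- Step 3
  have huG : u ∈ D.group F := hUG huU
  have hcoe : ∀ x, (((θ.trans (MulAut.conj (⟨u, huG⟩ * k))) x : ↥(D.group F)) : GL D.Idx F) =
      u * ((θ₁ x : ↥(D.group F)) : GL D.Idx F) * u⁻¹ := by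
    intro x
    have : (θ.trans (MulAut.conj (⟨u, huG⟩ * k))) x =
        ⟨u, huG⟩ * θ₁ x * (⟨u, huG⟩ : ↥(D.group F))⁻¹ := by
      simp only [hθ₁, MulEquiv.trans_apply, MulAut.conj_apply]
      group
    rw [this]
    rfl
  refine ⟨⟨u, huG⟩ * k, ?_, ?_⟩
  · intro x
    rw [hθ₁U x, hcoe]
    constructor
    · intro hx
      exact mul_mem (mul_mem huU hx) (inv_mem huU)
    · intro hx
      have : ((θ₁ x : ↥(D.group F)) : GL D.Idx F) =
          u⁻¹ * (u * ((θ₁ x : ↥(D.group F)) : GL D.Idx F) * u⁻¹) * u := by group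
      rw [this]
      exact mul_mem (mul_mem (inv_mem huU) hx) huU
  · intro x
    rw [hθ₁V x, hyU, hnV, hcoe]

end normalize2

end Cfsg.Agent.Helper7.Chev
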