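import Mathlib
import Cfsg.Agent.Helper7.ChevW0All
import Cfsg.Agent.Helper7.ChevComm

set_option autoImplicit false

/-!
Table facts for the study of the automorphisms of the Chevalley groups: the longest element of the Weyl group
maps the negatives of the fundamental roots onto the fundamental roots, and root elements of a fundamental root
and of the negative of another one commute.
-/

namespace Cfsg.Agent.Helper7.Chev

open Cfsg Cfsg.Lie

namespace Tab

variable (T : Tab)

/-- The word `w` maps the negatives of the fundamental roots onto the fundamental roots. -/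
def W0simple (w : List ℕ) : Prop :=
  AllLt T.l (fun i => ∃ j, j < T.l ∧ T.reflWord w (T.neg (T.simple i)) = T.simple j) ∧
  AllLt T.l (fun j => ∃ i, i < T.l ∧ T.reflWord w (T.neg (T.simple i)) = T.simple j)

instance (w : List ℕ) : Decidable (T.W0simple w) := by unfold W0simple; infer_instance

/-- The commutator formula has no terms for a fundamental root and the negative of another one. -/
def SimpleComm : Prop :=
  AllLt T.l (fun i => AllLt T.l (fun j => i ≠ j → T.commTerms (T.simple j) (T.neg (T.simple i)) = []))

instance : Decidable T.SimpleComm := by unfold SimpleComm; infer_instance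

end Tab

set_option maxRecDepth 1000000 in
set_option maxHeartbeats 0 in
theorem W0simplefast_G2 : fastG2.W0simple w0G2 := by decide +kernel
theorem W0simple_G2 : (tabOf chevG2).W0simple w0G2 := tab_G2 ▸ W0simplefast_G2
set_option maxRecDepth 1000000 in
set_option maxHeartbeats 0 in
theorem W0simplefast_B2 : fastB2.W0simple w0B2 := by decide +kernel
theorem W0simple_B2 : (tabOf chevB2).W0simple w0B2 := tab_B2 ▸ W0simplefast_B2
set_option maxRecDepth 1000000 in
set_option maxHeartbeats 0 in
theorem W0simplefast_D4 : fastD4.W0simple w0D4 := by decide +kernel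
theorem W0simple_D4 : (tabOf chevD4).W0simple w0D4 := tab_D4 ▸ W0simplefast_D4
set_option maxRecDepth 1000000 in
set_option maxHeartbeats 0 in
theorem W0simplefast_F4 : fastF4.W0simple w0F4 := by decide +kernel
theorem W0simple_F4 : (tabOf chevF4).W0simple w0F4 := tab_F4 ▸ W0simplefast_F4
set_option maxRecDepth 1000000 in
set_option maxHeartbeats 0 in
theorem W0simplefast_E6 : fastE6.W0simple w0E6 := by decide +kernel
theorem W0simple_E6 : (tabOf chevE6).W0simple w0E6 := tab_E6 ▸ W0simplefast_E6
set_option maxRecDepth 1000000 in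
set_option maxHeartbeats 0 in
theorem W0simplefast_E7 : fastE7.W0simple w0E7 := by decide +kernel
theorem W0simple_E7 : (tabOf chevE7).W0simple w0E7 := tab_E7 ▸ W0simplefast_E7
set_option maxRecDepth 1000000 in
set_option maxHeartbeats 0 in
theorem W0simplefast_E8 : fastE8.W0simple w0E8 := by decide +kernel
theorem W0simple_E8 : (tabOf chevE8).W0simple w0E8 := tab_E8 ▸ W0simplefast_E8

set_option maxRecDepth 1000000 in
set_option maxHeartbeats 0 in
theorem SimpleCommfast_G2 : fastG2.SimpleComm := by decide +kernel
theorem SimpleComm_G2 : (tabOf chevG2).SimpleComm := tab_G2 ▸ SimpleCommfast_G2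
set_option maxRecDepth 1000000 in
set_option maxHeartbeats 0 in
theorem SimpleCommfast_B2 : fastB2.SimpleComm := by decide +kernel
theorem SimpleComm_B2 : (tabOf chevB2).SimpleComm := tab_B2 ▸ SimpleCommfast_B2
set_option maxRecDepth 1000000 in
set_option maxHeartbeats 0 in
theorem SimpleCommfast_D4 : fastD4.SimpleComm := by decide +kernel
theorem SimpleComm_D4 : (tabOf chevD4).SimpleComm := tab_D4 ▸ SimpleCommfast_D4
set_option maxRecDepth 1000000 in
set_option maxHeartbeats 0 in
theorem SimpleCommfast_F4 : fastF4.SimpleComm := by decide +kernel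
theorem SimpleComm_F4 : (tabOf chevF4).SimpleComm := tab_F4 ▸ SimpleCommfast_F4
set_option maxRecDepth 1000000 in
set_option maxHeartbeats 0 in
theorem SimpleCommfast_E6 : fastE6.SimpleComm := by decide +kernel
theorem SimpleComm_E6 : (tabOf chevE6).SimpleComm := tab_E6 ▸ SimpleCommfast_E6
set_option maxRecDepth 1000000 in
set_option maxHeartbeats 0 in
theorem SimpleCommfast_E7 : fastE7.SimpleComm := by decide +kernel
theorem SimpleComm_E7 : (tabOf chevE7).SimpleComm := tab_E7 ▸ SimpleCommfast_E7
set_option maxRecDepth 1000000 in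
set_option maxHeartbeats 0 in
theorem SimpleCommfast_E8 : fastE8.SimpleComm := by decide +kernel
theorem SimpleComm_E8 : (tabOf chevE8).SimpleComm := tab_E8 ▸ SimpleCommfast_E8

/-- The data needed on the longest element, for each of the seven tabulated data. -/
theorem exists_W0ok_simple (D : ChevalleyDatum)
    (hD : D ∈ [chevG2, chevB2, chevD4, chevF4, chevE6, chevE7, chevE8]) :
    ∃ w : List ℕ, (tabOf D).W0ok w ∧ (tabOf D).W0simple w :=
  chev_cases (p := fun D => ∃ w : List ℕ, (tabOf D).W0ok w ∧ (tabOf D).W0simple w) D hD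
    ⟨_, W0_G2, W0simple_G2⟩ ⟨_, W0_B2, W0simple_B2⟩ ⟨_, W0_D4, W0simple_D4⟩
    ⟨_, W0_F4, W0simple_F4⟩ ⟨_, W0_E6, W0simple_E6⟩ ⟨_, W0_E7, W0simple_E7⟩
    ⟨_, W0_E8, W0simple_E8⟩

theorem simpleComm_of_mem (D : ChevalleyDatum)
    (hD : D ∈ [chevG2, chevB2, chevD4, chevF4, chevE6, chevE7, chevE8]) :
    (tabOf D).SimpleComm :=
  chev_cases (p := fun D => (tabOf D).SimpleComm) D hD SimpleComm_G2 SimpleComm_B2 SimpleComm_D4
    SimpleComm_F4 SimpleComm_E6 SimpleComm_E7 SimpleComm_E8

end Cfsg.Agent.Helper7.Chev
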