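import Mathlib
import Cfsg.Agent.Helper7.ChevAutA
import Cfsg.Agent.Helper7.BNAut
import Cfsg.Agent.Helper7.ChevAutT
import Cfsg.Agent.Helper7.ChevGood3

set_option autoImplicit false
set_option linter.unusedSectionVars false
set_option linter.unusedVariables false
set_option linter.style.haveILetI false

/-!
Automorphisms of a Chevalley group over a finite field, part B: an automorphism stabilising `U` and `V`
permutes the root subgroups of the fundamental roots and of their negatives.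
-/

namespace Cfsg.Agent.Helper7.Chev

open Cfsg Cfsg.Lie Matrix
open scoped Pointwise

variable {D : ChevalleyDatum} {F : Type*} [Field F]

section cell

variable (hG : Good2 D) (hT : T0 D) (h3 : (tabOf D).T3) (h4 : (tabOf D).T4 60) (h5 : (tabOf D).T5)
  (h6 : (tabOf D).T6) (h8 : (tabOf D).T8) (h9 : (tabOf D).T9)

theorem antiSL_mul_lower_one :
    (antiSL : Matrix.SpecialLinearGroup (Fin 2) F) * lowerSL 1 = upperSL (-1) * antiSL := by
  apply Subtype.ext
  rw [Matrix.SpecialLinearGroup.coe_mul, Matrix.SpecialLinearGroup.coe_mul]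
  change !![0, 1; -1, 0] * !![1, 0; 1, 1] = !![1, -1; 0, 1] * !![0, 1; -1, 0]
  ext i j
  fin_cases i <;> fin_cases j <;> simp [Matrix.mul_apply, Fin.sum_univ_two]

include hG hT h3 h4 h5 h6 h8 in
/-- An element of `V` in the double coset `B n_p B` lies in `X_{-p}`. -/
theorem mem_rootSubgroup_neg_of_mem_cell {i : ℕ} (hi : i < D.rank) {v b₁ b₂ : GL D.Idx F}
    (hv : v ∈ D.negUnipotent F) (hb₁ : b₁ ∈ D.borelSubgroup F) (hb₂ : b₂ ∈ D.borelSubgroup F)
    (e : v = b₁ * nGL hG.toGood1 (hG.toGood1.simple_lt hi) * b₂) :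
    v ∈ D.rootSubgroup F (D.neg (D.simple i)) := by
  have hG1 := hG.toGood1
  have hp := hG1.simple_lt hi
  have hnp := hG1.neg_lt hp
  have hUB : D.posUnipotent F ≤ D.borelSubgroup F := le_sup_left
  have hHB : D.diagonalSubgroup F ≤ D.borelSubgroup F := le_sup_right
  have hBV := borel_inf_negUnipotent (F := F) hG hT
  set n := nGL (F := F) hG1 hp with hndef
  have hnN : n ∈ D.monomialSubgroup F := by
    unfold ChevalleyDatum.monomialSubgroup
    apply (le_sup_right : Subgroup.closure _ ≤ _)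
    exact Subgroup.subset_closure ⟨D.simple i, hp, nGL_coe _ _⟩
  have hnH := monomialSubgroup_le_normalizer (F := F) hG hnN
  obtain ⟨hppos, _⟩ := h5 i hi
  -- decompose `b₂ = h' a x(c)`
  obtain ⟨u, hu, h, hh, e₂⟩ := borel_decomp hG (inv_mem hb₂)
  have hb₂e : b₂ = h⁻¹ * u⁻¹ := by
    rw [← inv_inv b₂, e₂]; group
  have hXn : D.rootSubgroup F (D.simple i) ≤
      Subgroup.normalizer (Subgroup.closure (upGen D F (D.simple i)) : Set (GL D.Idx F)) :=
    le_trans le_sup_left (rootSubgroup_le_normalizer_up hG hT h3 h4 h5 hi)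
  have hmul := Subgroup.coe_mul_of_right_le_normalizer_left
    (Subgroup.closure (upGen D F (D.simple i))) (D.rootSubgroup F (D.simple i)) hXn
  have hu' : u⁻¹ ∈ (Subgroup.closure (upGen D F (D.simple i)) : Set (GL D.Idx F)) *
      (D.rootSubgroup F (D.simple i) : Set (GL D.Idx F)) := by
    rw [← hmul, up_sup_rootSubgroup hG hT h5 hi]
    exact inv_mem hu
  obtain ⟨a, ha, x, hx, e₃⟩ := hu'
  obtain ⟨c, rfl⟩ := mem_rootSubgroup hG1 hp hx
  have haU : a ∈ D.posUnipotent F := by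
    rw [← up_sup_rootSubgroup hG hT h5 hi]
    exact Subgroup.mem_sup_left ha
  have hnup := nGL_mem_normalizer_up (F := F) hG hT h6 hi
  have hna : n * a * n⁻¹ ∈ D.posUnipotent F := by
    rw [← up_sup_rootSubgroup hG hT h5 hi]
    exact Subgroup.mem_sup_left ((Subgroup.mem_set_normalizer_iff.mp hnup a).mp ha)
  -- `v = b n x(c)`
  set b := b₁ * (n * h⁻¹ * n⁻¹) * (n * a * n⁻¹) with hbdef
  have hbB : b ∈ D.borelSubgroup F :=
    mul_mem (mul_mem hb₁ (hHB (conj_mem_diagonal hnH (inv_mem hh)))) (hUB hna)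
  have ev : v = b * n * xGL hG1 hp c := by
    rw [e, hb₂e, ← e₃, hbdef]
    simp only [smul_eq_mul]
    group
  by_cases hc : c = 0
  · -- impossible
    exfalso
    rw [hc, xGL_zero, mul_one] at ev
    have hx₁V : xGL hG1 hnp (1 : F) ∈ D.negUnipotent F :=
      Subgroup.subset_closure ⟨_, 1, (isNegRoot_iff hT hnp).mpr
        (by have := neg_neg_of_pos hG hT hp hppos; exact this), xGL_coe hG1 hnp 1⟩
    have hconj : n * xGL hG1 hnp (1 : F) * n⁻¹ = xGL hG1 hp (-1) := by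
      rw [← phiHom_lower' hG1 hp, hndef]
      unfold nGL xGL
      rw [← map_mul, antiSL_mul_lower_one, map_mul, mul_inv_cancel_right]
    have h1 : v * xGL hG1 hnp (1 : F) * v⁻¹ ∈ D.borelSubgroup F := by
      have : v * xGL hG1 hnp (1 : F) * v⁻¹ = b * (n * xGL hG1 hnp (1 : F) * n⁻¹) * b⁻¹ := by
        rw [ev]; group
      rw [this, hconj]
      refine mul_mem (mul_mem hbB (hUB ?_)) (inv_mem hbB)
      exact Subgroup.subset_closure ⟨_, _, (isPosRoot_iff hT hp).mpr hppos, xGL_coe hG1 hp _⟩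
    have h2 : v * xGL hG1 hnp (1 : F) * v⁻¹ ∈ D.negUnipotent F :=
      mul_mem (mul_mem hv hx₁V) (inv_mem hv)
    have h3' : v * xGL hG1 hnp (1 : F) * v⁻¹ ∈ (⊥ : Subgroup (GL D.Idx F)) := by
      rw [← hBV]; exact ⟨h1, h2⟩
    rw [Subgroup.mem_bot, mul_inv_eq_one, mul_eq_left] at h3'
    exact xGL_ne_one hG hT h8 hnp one_ne_zero h3'
  · have hc' : c⁻¹ ≠ 0 := inv_ne_zero hc
    have hlow : xGL hG1 hnp c⁻¹ = xGL hG1 hp c *
        hGL hG1 hp (-c) (neg_ne_zero.mpr hc) * n * xGL hG1 hp c := by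
      rw [← phiHom_lower' hG1 hp, lowerSL_eq hc', hndef]
      unfold nGL xGL hGL
      simp only [map_mul, inv_inv]
    have hxB : xGL hG1 hp c ∈ D.borelSubgroup F := hUB
      (Subgroup.subset_closure ⟨_, _, (isPosRoot_iff hT hp).mpr hppos, xGL_coe hG1 hp _⟩)
    have hhB : hGL hG1 hp (-c) (neg_ne_zero.mpr hc) ∈ D.borelSubgroup F := hHB
      (Subgroup.subset_closure ⟨_, _, hp, neg_ne_zero.mpr hc, hGL_coe hG1 hp _ _⟩)
    have hxV : xGL hG1 hnp c⁻¹ ∈ D.negUnipotent F :=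
      Subgroup.subset_closure ⟨_, _, (isNegRoot_iff hT hnp).mpr
        (by have := neg_neg_of_pos hG hT hp hppos; exact this), xGL_coe hG1 hnp _⟩
    have h1 : v * (xGL hG1 hnp c⁻¹)⁻¹ ∈ D.borelSubgroup F := by
      have : v * (xGL hG1 hnp c⁻¹)⁻¹ = b * (hGL hG1 hp (-c) (neg_ne_zero.mpr hc))⁻¹ *
          (xGL hG1 hp c)⁻¹ := by
        rw [ev, hlow]; group
      rw [this]
      exact mul_mem (mul_mem hbB (inv_mem hhB)) (inv_mem hxB)
    have h2 : v * (xGL hG1 hnp c⁻¹)⁻¹ ∈ D.negUnipotent F := mul_mem hv (inv_mem hxV)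
    have h3' : v * (xGL hG1 hnp c⁻¹)⁻¹ ∈ (⊥ : Subgroup (GL D.Idx F)) := by
      rw [← hBV]; exact ⟨h1, h2⟩
    rw [Subgroup.mem_bot, mul_inv_eq_one] at h3'
    rw [h3']
    exact Subgroup.subset_closure ⟨c⁻¹, xGL_coe hG1 hnp _⟩

end cell

section perm

variable (hG3 : Good3 D) (hT : T0 D) (h5 : (tabOf D).T5)
  (h6 : (tabOf D).T6) (h8 : (tabOf D).T8) (h9 : (tabOf D).T9)

include hG3 hT h5 h6 h8 h9 in
/-- An automorphism stabilising `U` stabilises `B`. -/
theorem MapsOnto.borel {θ : ↥(D.group F) ≃* ↥(D.group F)}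
    (hU : MapsOnto θ (D.posUnipotent F) (D.posUnipotent F)) :
    MapsOnto θ (D.borelSubgroup F) (D.borelSubgroup F) := by
  have hG := hG3.toGood2
  have hG1 := hG.toGood1
  have hBG : D.borelSubgroup F ≤ D.group F := borelSubgroup_le_group hG1
  have hUG : D.posUnipotent F ≤ D.group F := le_trans le_sup_left hBG
  have hBN : D.borelSubgroup F ≤ Subgroup.normalizer (D.posUnipotent F : Set (GL D.Idx F)) := by
    unfold ChevalleyDatum.borelSubgroup
    exact sup_le Subgroup.le_normalizer (diagonalSubgroup_le_normalizer_pos hG)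
  have heq : Subgroup.normalizer (D.posUnipotent F : Set (GL D.Idx F)) ⊓ D.group F =
      D.borelSubgroup F :=
    le_antisymm (normalizer_pos_inf_group_le hG hT hG3.t3 hG3.t4 h5 h6 h8 h9) (le_inf hBN hBG)
  have := hU.normalizer hUG hUG
  rwa [heq] at this

include hG3 hT h5 h6 h8 h9 in
/-- An automorphism stabilising `U` and `V` permutes the root subgroups of the negatives of the fundamental
roots. -/
theorem exists_neg_simple_map {θ : ↥(D.group F) ≃* ↥(D.group F)}
    (hU : MapsOnto θ (D.posUnipotent F) (D.posUnipotent F))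
    (hV : MapsOnto θ (D.negUnipotent F) (D.negUnipotent F)) {i : ℕ} (hi : i < D.rank) :
    ∃ j, j < D.rank ∧ MapsOnto θ (D.rootSubgroup F (D.neg (D.simple i)))
      (D.rootSubgroup F (D.neg (D.simple j))) := by
  have hG := hG3.toGood2
  have hG1 := hG.toGood1
  have h3 := hG3.t3
  have h4 := hG3.t4
  have hBG : D.borelSubgroup F ≤ D.group F := borelSubgroup_le_group hG1
  have hUB : D.posUnipotent F ≤ D.borelSubgroup F := le_sup_left
  have hHB : D.diagonalSubgroup F ≤ D.borelSubgroup F := le_sup_right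
  have hNG : D.monomialSubgroup F ≤ D.group F := monomialSubgroup_le_group hG1
  have hBV := borel_inf_negUnipotent (F := F) hG hT
  have hB := MapsOnto.borel hG3 hT h5 h6 h8 h9 hU
  obtain ⟨P, hPB, hPN, hPS⟩ := exists_bnPair (F := F) hG hT h3 h4 h5 h6 h8 h9
  have hθB : ∀ x, x ∈ P.B ↔ θ x ∈ P.B := by
    intro x
    rw [hPB, Subgroup.mem_subgroupOf, Subgroup.mem_subgroupOf]
    exact hB x
  -- the elements `n_p` of the group
  have hnG : ∀ {k : ℕ} (hk : k < D.rank), nGL (F := F) hG1 (hG1.simple_lt hk) ∈ D.group F := by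
    intro k hk
    apply hNG
    unfold ChevalleyDatum.monomialSubgroup
    apply (le_sup_right : Subgroup.closure _ ≤ _)
    exact Subgroup.subset_closure ⟨D.simple k, hG1.simple_lt hk, nGL_coe _ _⟩
  have hsS : ∀ {k : ℕ} (hk : k < D.rank),
      (⟨nGL (F := F) hG1 (hG1.simple_lt hk), hnG hk⟩ : ↥(D.group F)) ∈ P.S := by
    intro k hk
    rw [hPS]
    exact ⟨k, hk, nGL_coe _ _⟩
  -- one direction
  have key : ∀ (θ' : ↥(D.group F) ≃* ↥(D.group F)),
      MapsOnto θ' (D.negUnipotent F) (D.negUnipotent F) → ∀ {a b : ℕ} (ha : a < D.rank)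
      (hb : b < D.rank),
      (∀ x, x ∈ P.parabolic {(⟨nGL (F := F) hG1 (hG1.simple_lt ha), hnG ha⟩ : ↥(D.group F))} ↔
        θ' x ∈ P.parabolic {(⟨nGL (F := F) hG1 (hG1.simple_lt hb), hnG hb⟩ : ↥(D.group F))}) →
      ∀ x : ↥(D.group F), (x : GL D.Idx F) ∈ D.rootSubgroup F (D.neg (D.simple a)) →
        ((θ' x : ↥(D.group F)) : GL D.Idx F) ∈ D.rootSubgroup F (D.neg (D.simple b)) := by
    intro θ' hV' a b ha hb hpar x hx
    have hp := hG1.simple_lt ha
    have hnp := hG1.neg_lt hp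
    obtain ⟨hppos, _⟩ := h5 a ha
    obtain ⟨t, hxt⟩ := mem_rootSubgroup hG1 hnp hx
    have hxV : (x : GL D.Idx F) ∈ D.negUnipotent F := by
      rw [hxt]
      exact Subgroup.subset_closure ⟨_, _, (isNegRoot_iff hT hnp).mpr
        (neg_neg_of_pos hG hT hp hppos), xGL_coe hG1 hnp _⟩
    have hxP : x ∈ P.parabolic {(⟨nGL (F := F) hG1 hp, hnG ha⟩ : ↥(D.group F))} := by
      by_cases ht : t = 0
      · have : x = 1 := by
          apply Subtype.ext
          rw [hxt, ht, xGL_zero]; rfl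
        rw [this]; exact one_mem _
      · have ht' : t⁻¹ ≠ 0 := inv_ne_zero ht
        have hlow : xGL hG1 hnp t = xGL hG1 hp t⁻¹ *
            hGL hG1 hp (-t⁻¹) (neg_ne_zero.mpr ht') * nGL hG1 hp * xGL hG1 hp t⁻¹ := by
          rw [← phiHom_lower' hG1 hp, lowerSL_eq ht]
          unfold nGL xGL hGL
          simp only [map_mul]
        have hxB : xGL hG1 hp t⁻¹ ∈ D.borelSubgroup F := hUB
          (Subgroup.subset_closure ⟨_, _, (isPosRoot_iff hT hp).mpr hppos, xGL_coe hG1 hp _⟩)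
        have hhB : hGL hG1 hp (-t⁻¹) (neg_ne_zero.mpr ht') ∈ D.borelSubgroup F := hHB
          (Subgroup.subset_closure ⟨_, _, hp, neg_ne_zero.mpr ht', hGL_coe hG1 hp _ _⟩)
        have e : x = (⟨xGL hG1 hp t⁻¹ * hGL hG1 hp (-t⁻¹) (neg_ne_zero.mpr ht'),
            hBG (mul_mem hxB hhB)⟩ : ↥(D.group F)) * ⟨nGL (F := F) hG1 hp, hnG ha⟩ *
            ⟨xGL hG1 hp t⁻¹, hBG hxB⟩ := by
          apply Subtype.ext
          rw [hxt, hlow]
          rfl
        rw [e]
        refine mul_mem (mul_mem (BN.B_le_parabolic P _ ?_) (BN.mem_parabolic_of_mem P rfl))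
          (BN.B_le_parabolic P _ ?_)
        · rw [hPB, Subgroup.mem_subgroupOf]; exact mul_mem hxB hhB
        · rw [hPB, Subgroup.mem_subgroupOf]; exact hxB
    have hyV := (hV' x).mp hxV
    have hyP := (hpar x).mp hxP
    rcases (BN.mem_parabolic_singleton P (hsS hb) _).mp hyP with hyB | hyC
    · rw [hPB, Subgroup.mem_subgroupOf] at hyB
      have : ((θ' x : ↥(D.group F)) : GL D.Idx F) ∈ (⊥ : Subgroup (GL D.Idx F)) := by
        rw [← hBV]; exact ⟨hyB, hyV⟩
      rw [Subgroup.mem_bot] at this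
      rw [this]; exact one_mem _
    · obtain ⟨b₁, hb₁, b₂, hb₂, e⟩ := (BN.mem_C P).mp hyC
      rw [hPB, Subgroup.mem_subgroupOf] at hb₁ hb₂
      have e' : ((θ' x : ↥(D.group F)) : GL D.Idx F) =
          (b₁ : GL D.Idx F) * nGL hG1 (hG1.simple_lt hb) * (b₂ : GL D.Idx F) := by
        rw [e]; rfl
      exact mem_rootSubgroup_neg_of_mem_cell hG hT h3 h4 h5 h6 h8 hb hyV hb₁ hb₂ e'
  obtain ⟨s', hs'S, hpar⟩ := BN.exists_parabolic_map P θ hθB (hsS hi)
  have hs'S2 := hs'S
  rw [hPS] at hs'S2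
  obtain ⟨j, hj, hs'j⟩ := hs'S2
  have hs'eq : s' = ⟨nGL (F := F) hG1 (hG1.simple_lt hj), hnG hj⟩ := by
    apply Subtype.ext
    apply Units.ext
    rw [hs'j, nGL_coe]
  rw [hs'eq] at hpar
  refine ⟨j, hj, fun x => ⟨key θ hV hi hj hpar x, fun hx => ?_⟩⟩
  have hpar' : ∀ y, y ∈ P.parabolic {(⟨nGL (F := F) hG1 (hG1.simple_lt hj), hnG hj⟩ :
      ↥(D.group F))} ↔ θ.symm y ∈
        P.parabolic {(⟨nGL (F := F) hG1 (hG1.simple_lt hi), hnG hi⟩ : ↥(D.group F))} := by
    intro y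
    rw [hpar (θ.symm y), θ.apply_symm_apply]
  have := key θ.symm hV.symm hj hi hpar' (θ x) hx
  rwa [θ.symm_apply_apply] at this

section upper

variable [Fintype F] {w₀ : List ℕ} (hw₀ : (tabOf D).W0ok w₀) (hw₀s : (tabOf D).W0simple w₀)

include hG3 hT h8 hw₀ in
/-- The representative of the longest element conjugates `V` onto `U`. -/
theorem nWordGL_conj_neg_eq_pos :
    (D.negUnipotent F).map (MulAut.conj (nWordGL hG3.toGood2 w₀)).toMonoidHom =
      D.posUnipotent F := by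
  classical
  have hG := hG3.toGood2
  have hG1 := hG.toGood1
  obtain ⟨hw1, hw2, hw3⟩ := hw₀
  have hw1' : ∀ i ∈ w₀, i < D.rank := hw1
  have hle : (D.negUnipotent F).map (MulAut.conj (nWordGL hG w₀)).toMonoidHom ≤
      D.posUnipotent F := by
    unfold ChevalleyDatum.negUnipotent
    rw [MonoidHom.map_closure, Subgroup.closure_le]
    rintro _ ⟨x, ⟨s, t, hs, hx⟩, rfl⟩
    have hslt := hs.1
    have hs' := reflWord_lt hG hw1' hslt
    rw [eq_xGL hG1 hslt hx]
    change nWordGL hG w₀ * xGL hG1 hslt t * (nWordGL hG w₀)⁻¹ ∈ D.posUnipotent F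
    rw [nWordGL_conj hG hw1' hslt t]
    apply Subgroup.subset_closure
    refine ⟨_, _, (isPosRoot_iff hT hs').mpr ?_, xGL_coe hG1 hs' _⟩
    -- `s = -p` with `p` positive, and `w₀ p` is negative
    have hsneg : s < D.nroots / 2 := (isNegRoot_iff hT hslt).mp hs
    have hp := hG1.neg_lt hslt
    have hppos : D.nroots / 2 ≤ D.neg s := neg_pos_of_neg hG hT hslt hsneg
    have h1 := hw2 (D.neg s) hp hppos
    have h2 : (tabOf D).reflWord w₀ (D.neg s) = D.neg ((tabOf D).reflWord w₀ s) :=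
      reflWord_neg hG hw1' hslt
    have h1' : D.neg ((tabOf D).reflWord w₀ s) < D.nroots / 2 := by rw [← h2]; exact h1
    by_contra hc
    rw [not_le] at hc
    have := neg_pos_of_neg hG hT hs' hc
    change D.nroots / 2 ≤ D.neg ((tabOf D).reflWord w₀ s) at this
    omega
  haveI : Finite (GL D.Idx F) := inferInstance
  apply Subgroup.eq_of_le_of_card_ge hle
  rw [Subgroup.card_map_of_injective (MulAut.conj _).injective,
    ← nWordGL_conj_pos_eq_neg (K := F) hG hT ⟨hw1, hw2, hw3⟩,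
    Subgroup.card_map_of_injective (MulAut.conj _).injective]

include hG3 hT h8 in
/-- Conjugation by a word maps a root subgroup onto a root subgroup. -/
theorem nWordGL_conj_rootSubgroup {w : List ℕ} (hw : ∀ i ∈ w, i < D.rank) {s : ℕ}
    (hs : s < D.nroots) :
    (D.rootSubgroup F s).map (MulAut.conj (nWordGL hG3.toGood2 w)).toMonoidHom =
      D.rootSubgroup F ((tabOf D).reflWord w s) := by
  have hG := hG3.toGood2
  have hG1 := hG.toGood1
  have hs' := reflWord_lt hG hw hs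
  apply le_antisymm
  · unfold ChevalleyDatum.rootSubgroup
    rw [MonoidHom.map_closure, Subgroup.closure_le]
    rintro _ ⟨x, ⟨t, hx⟩, rfl⟩
    rw [eq_xGL hG1 hs hx]
    change nWordGL hG w * xGL hG1 hs t * (nWordGL hG w)⁻¹ ∈ Subgroup.closure _
    rw [nWordGL_conj hG hw hs t]
    exact Subgroup.subset_closure ⟨_, xGL_coe hG1 hs' _⟩
  · intro y hy
    obtain ⟨u, rfl⟩ := mem_rootSubgroup hG1 hs' hy
    refine ⟨xGL hG1 hs ((((tabOf D).etaWord w s : ℤ) : F) * u), ?_, ?_⟩
    · exact Subgroup.subset_closure ⟨_, xGL_coe hG1 hs _⟩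
    · change nWordGL hG w * xGL hG1 hs _ * (nWordGL hG w)⁻¹ = _
      rw [nWordGL_conj hG hw hs, ← mul_assoc, etaWord_cast_mul_self hG hw hs, one_mul]

include hG3 hT h5 h6 h8 h9 hw₀ hw₀s in
/-- An automorphism stabilising `U` and `V` permutes the root subgroups of the fundamental roots. -/
theorem exists_simple_map {θ : ↥(D.group F) ≃* ↥(D.group F)}
    (hU : MapsOnto θ (D.posUnipotent F) (D.posUnipotent F))
    (hV : MapsOnto θ (D.negUnipotent F) (D.negUnipotent F)) {j : ℕ} (hj : j < D.rank) :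
    ∃ j', j' < D.rank ∧ MapsOnto θ (D.rootSubgroup F (D.simple j))
      (D.rootSubgroup F (D.simple j')) := by
  have hG := hG3.toGood2
  have hG1 := hG.toGood1
  have hNG : D.monomialSubgroup F ≤ D.group F := monomialSubgroup_le_group hG1
  have hw1 : ∀ i ∈ w₀, i < D.rank := hw₀.1
  have hn₀G : (nWordGL hG w₀ : GL D.Idx F) ∈ D.group F := hNG (nWordGL_mem hG w₀)
  set c : ↥(D.group F) ≃* ↥(D.group F) := MulAut.conj ⟨nWordGL hG w₀, hn₀G⟩ with hc
  have hcUV : MapsOnto c (D.posUnipotent F) (D.negUnipotent F) := by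
    have := mapsOnto_conj (⟨nWordGL hG w₀, hn₀G⟩ : ↥(D.group F)) (D.posUnipotent F)
    rwa [nWordGL_conj_pos_eq_neg (K := F) hG hT hw₀] at this
  have hcVU : MapsOnto c (D.negUnipotent F) (D.posUnipotent F) := by
    have := mapsOnto_conj (⟨nWordGL hG w₀, hn₀G⟩ : ↥(D.group F)) (D.negUnipotent F)
    rwa [nWordGL_conj_neg_eq_pos hG3 hT h8 hw₀] at this
  have hcX : ∀ {a b : ℕ} (ha : a < D.rank),
      (tabOf D).reflWord w₀ (D.neg (D.simple a)) = D.simple b →
      MapsOnto c (D.rootSubgroup F (D.neg (D.simple a))) (D.rootSubgroup F (D.simple b)) := by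
    intro a b ha hab
    have := mapsOnto_conj (⟨nWordGL hG w₀, hn₀G⟩ : ↥(D.group F))
      (D.rootSubgroup F (D.neg (D.simple a)))
    rwa [nWordGL_conj_rootSubgroup hG3 hT h8 hw1 (hG1.neg_lt (hG1.simple_lt ha)), hab] at this
  set θ' : ↥(D.group F) ≃* ↥(D.group F) := c.trans (θ.trans c.symm) with hθ'
  have hU' : MapsOnto θ' (D.posUnipotent F) (D.posUnipotent F) :=
    hcUV.trans (hV.trans hcUV.symm)
  have hV' : MapsOnto θ' (D.negUnipotent F) (D.negUnipotent F) :=
    hcVU.trans (hU.trans hcVU.symm)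
  obtain ⟨i, hi, hij⟩ := hw₀s.2 j hj
  obtain ⟨i', hi', hmap⟩ := exists_neg_simple_map hG3 hT h5 h6 h8 h9 hU' hV' hi
  obtain ⟨j', hj', hij'⟩ := hw₀s.1 i' hi'
  refine ⟨j', hj', ?_⟩
  have h1 := (hcX hi hij).symm.trans (hmap.trans (hcX hi' hij'))
  have e : c.symm.trans (θ'.trans c) = θ := by
    apply MulEquiv.ext
    intro x
    simp only [hθ', MulEquiv.trans_apply, MulEquiv.apply_symm_apply]
  rwa [e] at h1

include hG3 hT h8 in
/-- Root elements of a fundamental root and of its negative do not commute. -/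
theorem simple_not_commute {i : ℕ} (hi : i < D.rank) :
    xGL hG3.toGood2.toGood1 (hG3.toGood2.toGood1.simple_lt hi) (1 : F) *
      xGL hG3.toGood2.toGood1 (hG3.toGood2.toGood1.neg_lt (hG3.toGood2.toGood1.simple_lt hi)) 1 ≠
    xGL hG3.toGood2.toGood1 (hG3.toGood2.toGood1.neg_lt (hG3.toGood2.toGood1.simple_lt hi)) 1 *
      xGL hG3.toGood2.toGood1 (hG3.toGood2.toGood1.simple_lt hi) (1 : F) := by
  have hG := hG3.toGood2
  have hG1 := hG.toGood1
  have hp := hG1.simple_lt hi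
  have hnp := hG1.neg_lt hp
  intro hcomm
  -- `n = a b⁻¹ a` conjugates `a` to `b⁻¹`
  have e1 : (antiSL : Matrix.SpecialLinearGroup (Fin 2) F) =
      upperSL 1 * lowerSL (-1) * upperSL 1 := by
    apply Subtype.ext
    rw [Matrix.SpecialLinearGroup.coe_mul, Matrix.SpecialLinearGroup.coe_mul]
    change !![0, 1; -1, 0] = !![1, 1; 0, 1] * !![1, 0; -1, 1] * !![1, 1; 0, 1]
    ext i j
    fin_cases i <;> fin_cases j <;> simp [Matrix.mul_apply, Fin.sum_univ_two]
  have hn : nGL (F := F) hG1 hp = xGL hG1 hp 1 * (xGL hG1 hnp 1)⁻¹ * xGL hG1 hp 1 := by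
    rw [xGL_inv, ← phiHom_lower' hG1 hp]
    unfold nGL xGL
    rw [e1, map_mul, map_mul]
  have hconj : nGL (F := F) hG1 hp * xGL hG1 hp 1 * (nGL hG1 hp)⁻¹ = (xGL hG1 hnp 1)⁻¹ := by
    rw [xGL_inv, ← phiHom_lower' hG1 hp]
    unfold nGL xGL
    rw [← map_mul, antiSL_mul_upper, map_mul, mul_inv_cancel_right]
  have hcomm' : xGL hG1 hp (1 : F) * (xGL hG1 hnp 1)⁻¹ = (xGL hG1 hnp 1)⁻¹ * xGL hG1 hp 1 := by
    rw [eq_inv_mul_iff_mul_eq, ← mul_assoc, ← hcomm, mul_assoc, mul_inv_cancel, mul_one]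
  have e2 : nGL (F := F) hG1 hp * xGL hG1 hp 1 * (nGL hG1 hp)⁻¹ = xGL hG1 hp 1 := by
    rw [hn]
    have key : ∀ a b : GL D.Idx F, a * b = b * a → (a * b * a) * a = a * (a * b * a) := by
      intro a b hab
      symm
      calc a * (a * b * a) = a * ((a * b) * a) := by group
        _ = a * ((b * a) * a) := by rw [hab]
        _ = (a * b) * (a * a) := by group
        _ = (a * b * a) * a := by group
    rw [key _ _ hcomm', mul_inv_cancel_right]
  rw [e2] at hconj
  -- `a = b⁻¹` lies in `U ∩ V`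
  have hBV := borel_inf_negUnipotent (F := F) hG hT
  have hppos := simple_pos hG1 hT hi
  have h1 : xGL hG1 hp (1 : F) ∈ D.borelSubgroup F :=
    (le_sup_left : D.posUnipotent F ≤ D.borelSubgroup F)
      (Subgroup.subset_closure ⟨_, _, (isPosRoot_iff hT hp).mpr hppos, xGL_coe hG1 hp _⟩)
  have h2 : xGL hG1 hp (1 : F) ∈ D.negUnipotent F := by
    rw [hconj]
    exact inv_mem (Subgroup.subset_closure ⟨_, _, (isNegRoot_iff hT hnp).mpr
      (neg_neg_of_pos hG hT hp hppos), xGL_coe hG1 hnp _⟩)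
  have h3' : xGL hG1 hp (1 : F) ∈ (⊥ : Subgroup (GL D.Idx F)) := by
    rw [← hBV]; exact ⟨h1, h2⟩
  exact xGL_ne_one hG hT h8 hp one_ne_zero (Subgroup.mem_bot.mp h3')

end upper

end perm

end Cfsg.Agent.Helper7.Chev
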