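import Mathlib
import Cfsg.Agent.Helper7.ChevAutB

set_option autoImplicit false
set_option linter.unusedSectionVars false
set_option linter.unusedVariables false
set_option linter.style.haveILetI false

/-!
Automorphisms of a Chevalley group over a finite field, part C: an automorphism stabilising `U` and `V` maps
`x_{±p}(t)` to `x_{±ρ p}(f_p^±(t))` for a permutation `ρ` of the fundamental roots, and the rank one analysis of
the functions `f_p^±`.
-/

namespace Cfsg.Agent.Helper7.Chev

open Cfsg Cfsg.Lie Matrix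
open scoped Pointwise

variable {D : ChevalleyDatum} {F : Type*} [Field F]

/-- The automorphism `θ` maps `x_{±p_i}(t)` to `x_{±p_{ρ i}}(f_i(t))`, resp. `g_i(t)`. -/
def SimpleAut (θ : ↥(D.group F) ≃* ↥(D.group F)) (ρ : ℕ → ℕ) (f g : ℕ → F → F) : Prop :=
  ∀ i < D.rank, ρ i < D.rank ∧ ∀ (x : ↥(D.group F)) (t : F),
    (((x : GL D.Idx F) : Matrix D.Idx D.Idx F) = D.x F (D.simple i) t →
      ((θ x : GL D.Idx F) : Matrix D.Idx D.Idx F) = D.x F (D.simple (ρ i)) (f i t)) ∧
    (((x : GL D.Idx F) : Matrix D.Idx D.Idx F) = D.x F (D.neg (D.simple i)) t →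
      ((θ x : GL D.Idx F) : Matrix D.Idx D.Idx F) = D.x F (D.neg (D.simple (ρ i))) (g i t))

section perm

variable (hG3 : Good3 D) (hT : T0 D) (h5 : (tabOf D).T5)
  (h6 : (tabOf D).T6) (h8 : (tabOf D).T8) (h9 : (tabOf D).T9) (hSC : (tabOf D).SimpleComm)
  [Fintype F] {w₀ : List ℕ} (hw₀ : (tabOf D).W0ok w₀) (hw₀s : (tabOf D).W0simple w₀)

include hG3 hT hSC in
/-- Root elements of a fundamental root and of the negative of another one commute. -/
theorem simple_commute {a b : ℕ} (ha : a < D.rank) (hb : b < D.rank) (hab : a ≠ b) (t u : F) :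
    xGL hG3.toGood2.toGood1 (hG3.toGood2.toGood1.simple_lt ha) t *
      xGL hG3.toGood2.toGood1 (hG3.toGood2.toGood1.neg_lt (hG3.toGood2.toGood1.simple_lt hb)) u =
    xGL hG3.toGood2.toGood1 (hG3.toGood2.toGood1.neg_lt (hG3.toGood2.toGood1.simple_lt hb)) u *
      xGL hG3.toGood2.toGood1 (hG3.toGood2.toGood1.simple_lt ha) t := by
  have hG := hG3.toGood2
  have hG1 := hG.toGood1
  have hpa := hG1.simple_lt ha
  have hpb := hG1.simple_lt hb
  have hnb := hG1.neg_lt hpb
  have hne : D.simple a ≠ D.simple b := by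
    intro h
    have h1 := hG1.cr_simple ha ha
    have h2 := hG1.cr_simple hb ha
    rw [h, h2, if_pos rfl, if_neg hab] at h1
    exact zero_ne_one h1
  have hsr : D.neg (D.simple b) ≠ D.simple a := by
    intro h
    have h1 := neg_neg_of_pos hG hT hpb (simple_pos hG1 hT hb)
    have h2 := simple_pos hG1 hT ha
    omega
  have hsn : D.neg (D.simple b) ≠ D.neg (D.simple a) := by
    intro h
    apply hne
    rw [← hG1.neg_neg hpa, ← h, hG1.neg_neg hpb]
  have hc := hG3.comm (F := F) hpa hnb hsr hsn t u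
  have hnil : D.commWord F (D.simple a) (D.neg (D.simple b)) t u = [] := by
    unfold ChevalleyDatum.commWord
    have := hSC b hb a ha (Ne.symm hab)
    rw [show D.commTerms (D.simple a) (D.neg (D.simple b)) =
      (tabOf D).commTerms (D.simple a) (D.neg (D.simple b)) from (commTerms_eq D _ _).symm]
    rw [show (tabOf D).commTerms (D.simple a) (D.neg (D.simple b)) = [] from this]
    rfl
  rw [hnil, wordMat_nil, mul_one] at hc
  apply Units.ext
  rw [Units.val_mul, Units.val_mul, xGL_coe, xGL_coe]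
  exact hc.symm

include hG3 hT h5 h6 h8 h9 hSC hw₀ hw₀s in
/-- An automorphism stabilising `U` and `V` permutes the root subgroups of the fundamental roots and of their
negatives, in the same way. -/
theorem exists_perm {θ : ↥(D.group F) ≃* ↥(D.group F)}
    (hU : MapsOnto θ (D.posUnipotent F) (D.posUnipotent F))
    (hV : MapsOnto θ (D.negUnipotent F) (D.negUnipotent F)) {i : ℕ} (hi : i < D.rank) :
    ∃ j, j < D.rank ∧
      MapsOnto θ (D.rootSubgroup F (D.simple i)) (D.rootSubgroup F (D.simple j)) ∧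
      MapsOnto θ (D.rootSubgroup F (D.neg (D.simple i))) (D.rootSubgroup F (D.neg (D.simple j))) := by
  have hG := hG3.toGood2
  have hG1 := hG.toGood1
  have hp := hG1.simple_lt hi
  have hnp := hG1.neg_lt hp
  obtain ⟨j, hj, hjm⟩ := exists_neg_simple_map hG3 hT h5 h6 h8 h9 hU hV hi
  obtain ⟨j', hj', hjm'⟩ := exists_simple_map hG3 hT h5 h6 h8 h9 hw₀ hw₀s hU hV hi
  have hjj : j' = j := by
    by_contra hne
    set a : ↥(D.group F) := ⟨xGL hG1 hp 1, xGL_mem_group hG hp 1⟩ with ha
    set b : ↥(D.group F) := ⟨xGL hG1 hnp 1, xGL_mem_group hG hnp 1⟩ with hb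
    have h1 := (hjm' a).mp (Subgroup.subset_closure ⟨1, xGL_coe hG1 hp 1⟩)
    have h2 := (hjm b).mp (Subgroup.subset_closure ⟨1, xGL_coe hG1 hnp 1⟩)
    obtain ⟨t, ht⟩ := mem_rootSubgroup hG1 (hG1.simple_lt hj') h1
    obtain ⟨u, hu⟩ := mem_rootSubgroup hG1 (hG1.neg_lt (hG1.simple_lt hj)) h2
    have hcomm := simple_commute hG3 hT hSC hj' hj hne t u
    rw [← ht, ← hu] at hcomm
    have hcomm' : θ a * θ b = θ b * θ a := Subtype.ext hcomm
    rw [← map_mul, ← map_mul] at hcomm'
    have hab := θ.injective hcomm'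
    have hab' := congrArg Subtype.val hab
    exact simple_not_commute hG3 hT h8 hi hab'
  rw [hjj] at hjm'
  exact ⟨j, hj, hjm', hjm⟩

include hG3 hT h5 h6 h8 h9 hSC hw₀ hw₀s in
/-- An automorphism stabilising `U` and `V` acts on the root elements of the fundamental roots and of their
negatives through a permutation and functions on the field. -/
theorem exists_simpleAut {θ : ↥(D.group F) ≃* ↥(D.group F)}
    (hU : MapsOnto θ (D.posUnipotent F) (D.posUnipotent F))
    (hV : MapsOnto θ (D.negUnipotent F) (D.negUnipotent F)) :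
    ∃ (ρ : ℕ → ℕ) (f g : ℕ → F → F), SimpleAut θ ρ f g := by
  classical
  have hG := hG3.toGood2
  have hG1 := hG.toGood1
  have key : ∀ i : ℕ, ∃ (j : ℕ) (fi gi : F → F), i < D.rank → (j < D.rank ∧
      ∀ (x : ↥(D.group F)) (t : F),
        (((x : GL D.Idx F) : Matrix D.Idx D.Idx F) = D.x F (D.simple i) t →
          ((θ x : GL D.Idx F) : Matrix D.Idx D.Idx F) = D.x F (D.simple j) (fi t)) ∧
        (((x : GL D.Idx F) : Matrix D.Idx D.Idx F) = D.x F (D.neg (D.simple i)) t →
          ((θ x : GL D.Idx F) : Matrix D.Idx D.Idx F) = D.x F (D.neg (D.simple j)) (gi t))) := by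
    intro i
    by_cases hi : i < D.rank
    · obtain ⟨j, hj, hm1, hm2⟩ := exists_perm hG3 hT h5 h6 h8 h9 hSC hw₀ hw₀s hU hV hi
      have hp := hG1.simple_lt hi
      have hnp := hG1.neg_lt hp
      have h1 : ∀ t : F, ∃ u : F, ((θ ⟨xGL hG1 hp t, xGL_mem_group hG hp t⟩ : ↥(D.group F)) :
          GL D.Idx F) = xGL hG1 (hG1.simple_lt hj) u := by
        intro t
        exact mem_rootSubgroup hG1 (hG1.simple_lt hj)
          ((hm1 ⟨xGL hG1 hp t, xGL_mem_group hG hp t⟩).mp
            (Subgroup.subset_closure ⟨t, xGL_coe hG1 hp t⟩))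
      have h2 : ∀ t : F, ∃ u : F, ((θ ⟨xGL hG1 hnp t, xGL_mem_group hG hnp t⟩ : ↥(D.group F)) :
          GL D.Idx F) = xGL hG1 (hG1.neg_lt (hG1.simple_lt hj)) u := by
        intro t
        exact mem_rootSubgroup hG1 (hG1.neg_lt (hG1.simple_lt hj))
          ((hm2 ⟨xGL hG1 hnp t, xGL_mem_group hG hnp t⟩).mp
            (Subgroup.subset_closure ⟨t, xGL_coe hG1 hnp t⟩))
      choose fi hfi using h1
      choose gi hgi using h2
      refine ⟨j, fi, gi, fun _ => ⟨hj, fun x t => ⟨fun hx => ?_, fun hx => ?_⟩⟩⟩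
      · have : x = ⟨xGL hG1 hp t, xGL_mem_group hG hp t⟩ :=
          Subtype.ext (eq_xGL hG1 hp hx)
        rw [this, hfi t, xGL_coe]
      · have : x = ⟨xGL hG1 hnp t, xGL_mem_group hG hnp t⟩ :=
          Subtype.ext (eq_xGL hG1 hnp hx)
        rw [this, hgi t, xGL_coe]
    · exact ⟨0, fun _ => 0, fun _ => 0, fun h => absurd h hi⟩
  choose ρ f g h using key
  exact ⟨ρ, f, g, fun i hi => h i hi⟩

end perm

end Cfsg.Agent.Helper7.Chev
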