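import Mathlib
import Cfsg.Agent.Helper7.ChevBorel

set_option autoImplicit false
set_option linter.unusedSectionVars false
set_option linter.unusedVariables false

/-!
Two homomorphisms from `SL₂(F)`, `F` a finite field, that agree on the upper and on the lower unitriangular
subgroups up to functions `f`, `g` of the parameter: the functions are `t ↦ c σ(t)` and `t ↦ c⁻¹ σ(t)` for a
field automorphism `σ`.
-/

namespace Cfsg.Agent.Helper7.Chev

open Matrix

variable {F : Type*} [Field F]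

theorem sl2p_upper_add (t u : F) : upperSL (t + u) = upperSL t * upperSL u := by
  apply Subtype.ext
  rw [Matrix.SpecialLinearGroup.coe_mul]
  change !![1, t + u; 0, 1] = !![1, t; 0, 1] * !![1, u; 0, 1]
  ext i j
  fin_cases i <;> fin_cases j <;> simp [Matrix.mul_apply, Fin.sum_univ_two, add_comm]

theorem sl2p_lower_add (t u : F) : lowerSL (t + u) = lowerSL t * lowerSL u := by
  apply Subtype.ext
  rw [Matrix.SpecialLinearGroup.coe_mul]
  change !![1, 0; t + u, 1] = !![1, 0; t, 1] * !![1, 0; u, 1]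
  ext i j
  fin_cases i <;> fin_cases j <;> simp [Matrix.mul_apply, Fin.sum_univ_two, add_comm]

theorem sl2p_upper_zero : upperSL (0 : F) = 1 := by
  apply Subtype.ext
  change !![1, 0; 0, 1] = ((1 : Matrix.SpecialLinearGroup (Fin 2) F) : Matrix (Fin 2) (Fin 2) F)
  rw [Matrix.SpecialLinearGroup.coe_one]
  exact Matrix.one_fin_two.symm

theorem sl2p_lower_zero : lowerSL (0 : F) = 1 := by
  apply Subtype.ext
  change !![1, 0; 0, 1] = ((1 : Matrix.SpecialLinearGroup (Fin 2) F) : Matrix (Fin 2) (Fin 2) F)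
  rw [Matrix.SpecialLinearGroup.coe_one]
  exact Matrix.one_fin_two.symm

theorem sl2p_upper_neg (t : F) : upperSL (-t) = (upperSL t)⁻¹ := by
  rw [eq_inv_iff_mul_eq_one, ← sl2p_upper_add, neg_add_cancel, sl2p_upper_zero]

theorem sl2p_lower_neg (t : F) : lowerSL (-t) = (lowerSL t)⁻¹ := by
  rw [eq_inv_iff_mul_eq_one, ← sl2p_lower_add, neg_add_cancel, sl2p_lower_zero]

/-- The monomial element `n(t)`. -/
def monoSL (t : F) (ht : t ≠ 0) : Matrix.SpecialLinearGroup (Fin 2) F :=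
  ⟨!![0, t; -t⁻¹, 0], by simp [Matrix.det_fin_two, ht]⟩

theorem sl2p_mono_eq {t : F} (ht : t ≠ 0) :
    monoSL t ht = upperSL t * lowerSL (-t⁻¹) * upperSL t := by
  apply Subtype.ext
  rw [Matrix.SpecialLinearGroup.coe_mul, Matrix.SpecialLinearGroup.coe_mul]
  change !![0, t; -t⁻¹, 0] = !![1, t; 0, 1] * !![1, 0; -t⁻¹, 1] * !![1, t; 0, 1]
  ext i j
  fin_cases i <;> fin_cases j <;> simp [Matrix.mul_apply, Fin.sum_univ_two, ht]

theorem sl2p_mono_conj {t : F} (ht : t ≠ 0) (u : F) :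
    monoSL t ht * upperSL u = lowerSL (-(t⁻¹ * t⁻¹ * u)) * monoSL t ht := by
  apply Subtype.ext
  rw [Matrix.SpecialLinearGroup.coe_mul, Matrix.SpecialLinearGroup.coe_mul]
  change !![0, t; -t⁻¹, 0] * !![1, u; 0, 1] = !![1, 0; -(t⁻¹ * t⁻¹ * u), 1] * !![0, t; -t⁻¹, 0]
  ext i j
  fin_cases i <;> fin_cases j <;> simp [Matrix.mul_apply, Fin.sum_univ_two, ht]
  field_simp

theorem sl2p_mono_mul {a c : F} (ha : a ≠ 0) (hc : c ≠ 0) :
    monoSL a ha * (monoSL c hc)⁻¹ = diagSL (a / c) (div_ne_zero ha hc) := by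
  rw [mul_inv_eq_iff_eq_mul]
  apply Subtype.ext
  rw [Matrix.SpecialLinearGroup.coe_mul]
  change !![0, a; -a⁻¹, 0] = !![a / c, 0; 0, (a / c)⁻¹] * !![0, c; -c⁻¹, 0]
  ext i j
  fin_cases i <;> fin_cases j <;> simp [Matrix.mul_apply, Fin.sum_univ_two, ha, hc]
  field_simp

theorem sl2p_diag_conj {m : F} (hm : m ≠ 0) (u : F) :
    diagSL m hm * upperSL u = upperSL (m * m * u) * diagSL m hm := by
  apply Subtype.ext
  rw [Matrix.SpecialLinearGroup.coe_mul, Matrix.SpecialLinearGroup.coe_mul]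
  change !![m, 0; 0, m⁻¹] * !![1, u; 0, 1] = !![1, m * m * u; 0, 1] * !![m, 0; 0, m⁻¹]
  ext i j
  fin_cases i <;> fin_cases j <;> simp [Matrix.mul_apply, Fin.sum_univ_two, hm]
  field_simp

/-- The big cell factorisation of `x(a) y(b) x(a)` when `m = 1 + a b ≠ 0`. -/
theorem sl2p_big_cell (a b m : F) (hm : m ≠ 0) (hmdef : m = 1 + a * b) :
    upperSL a * lowerSL b * upperSL a =
      lowerSL (b / m) * diagSL m hm * upperSL (a * (1 + m) / m) := by
  apply Subtype.ext
  rw [Matrix.SpecialLinearGroup.coe_mul, Matrix.SpecialLinearGroup.coe_mul,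
    Matrix.SpecialLinearGroup.coe_mul, Matrix.SpecialLinearGroup.coe_mul]
  change !![1, a; 0, 1] * !![1, 0; b, 1] * !![1, a; 0, 1] =
    !![1, 0; b / m, 1] * !![m, 0; 0, m⁻¹] * !![1, a * (1 + m) / m; 0, 1]
  ext i j
  fin_cases i <;> fin_cases j <;> simp [Matrix.mul_apply, Fin.sum_univ_two, hm] <;> field_simp <;>
    rw [hmdef] <;> ring

/-- An additive map of a finite field with `σ 1 = 1` and `σ (t² u) = σ(t)² σ(u)` is multiplicative. -/
theorem field_mul_of_sq [Finite F] (σ : F → F) (hadd : ∀ t u, σ (t + u) = σ t + σ u) (h1 : σ 1 = 1)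
    (hsq : ∀ t u, σ (t * t * u) = σ t * σ t * σ u) : ∀ t u, σ (t * u) = σ t * σ u := by
  have h0 : σ 0 = 0 := by
    have := hadd 0 0
    rw [add_zero] at this
    exact left_eq_add.mp this
  have hneg : ∀ t, σ (-t) = -σ t := by
    intro t
    have := hadd t (-t)
    rw [add_neg_cancel, h0] at this
    exact (neg_eq_of_add_eq_zero_right this.symm).symm
  have hsub : ∀ t u, σ (t - u) = σ t - σ u := by
    intro t u
    rw [sub_eq_add_neg, hadd, hneg, ← sub_eq_add_neg]
  have hs : ∀ t, σ (t * t) = σ t * σ t := by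
    intro t
    have := hsq t 1
    rwa [mul_one, h1, mul_one] at this
  have hsq' : ∀ t u, σ (t * t * u) = σ (t * t) * σ u := by
    intro t u
    rw [hsq, hs]
  intro t u
  by_cases h2 : (2 : F) = 0
  · have hchar : ringChar F = 2 := by
      have h : ((2 : ℕ) : F) = 0 := by exact_mod_cast h2
      have hd := ringChar.dvd h
      rcases (Nat.dvd_prime Nat.prime_two).mp hd with hp | hp
      · exact absurd hp CharP.ringChar_ne_one
      · exact hp
    obtain ⟨s, hs'⟩ := FiniteField.isSquare_of_char_two hchar t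
    rw [hs', hsq']
  · have ht : t = ((t + 1) / 2) * ((t + 1) / 2) - ((t - 1) / 2) * ((t - 1) / 2) := by
      field_simp
      ring
    have e1 : t * u = ((t + 1) / 2) * ((t + 1) / 2) * u - ((t - 1) / 2) * ((t - 1) / 2) * u := by
      rw [← sub_mul, ← ht]
    rw [e1, hsub, hsq', hsq', ← sub_mul, ← hsub, ← ht]

section pair

variable {Γ : Type*} [Group Γ]
  (φ ψ : Matrix.SpecialLinearGroup (Fin 2) F →* Γ) (f g : F → F)
  (hu : ∀ t, φ (upperSL t) = ψ (upperSL (f t)))
  (hl : ∀ t, φ (lowerSL t) = ψ (lowerSL (g t)))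
  (hφ : ∀ x y, φ (upperSL x) = φ (lowerSL y) → x = 0 ∧ y = 0)
  (hψ : ∀ x y, ψ (upperSL x) = ψ (lowerSL y) → x = 0 ∧ y = 0)

include hψ in
theorem sl2p_upper_inj {x y : F} (h : ψ (upperSL x) = ψ (upperSL y)) : x = y := by
  have h1 : ψ (upperSL (x - y)) = ψ (lowerSL 0) := by
    rw [sub_eq_add_neg, sl2p_upper_add, sl2p_upper_neg, map_mul, map_inv, h, mul_inv_cancel,
      sl2p_lower_zero, map_one]
  exact sub_eq_zero.mp (hψ _ _ h1).1

include hψ in
theorem sl2p_lower_inj {x y : F} (h : ψ (lowerSL x) = ψ (lowerSL y)) : x = y := by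
  have h1 : ψ (upperSL 0) = ψ (lowerSL (x - y)) := by
    rw [sub_eq_add_neg, sl2p_lower_add, sl2p_lower_neg, map_mul, map_inv, h, mul_inv_cancel,
      sl2p_upper_zero, map_one]
  exact sub_eq_zero.mp (hψ _ _ h1).2

include hu hψ in
theorem sl2p_f_add (t u : F) : f (t + u) = f t + f u := by
  apply sl2p_upper_inj ψ hψ
  rw [← hu, sl2p_upper_add, map_mul, hu, hu, ← map_mul, ← sl2p_upper_add]

include hl hψ in
theorem sl2p_g_add (t u : F) : g (t + u) = g t + g u := by
  apply sl2p_lower_inj ψ hψ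
  rw [← hl, sl2p_lower_add, map_mul, hl, hl, ← map_mul, ← sl2p_lower_add]

include hu hψ in
theorem sl2p_f_zero : f 0 = 0 := by
  have := sl2p_f_add φ ψ f hu hψ 0 0
  rw [add_zero] at this
  exact left_eq_add.mp this

include hl hψ in
theorem sl2p_g_zero : g 0 = 0 := by
  have := sl2p_g_add φ ψ g hl hψ 0 0
  rw [add_zero] at this
  exact left_eq_add.mp this

include hu hψ in
theorem sl2p_f_neg (t : F) : f (-t) = -f t := by
  have := sl2p_f_add φ ψ f hu hψ t (-t)
  rw [add_neg_cancel, sl2p_f_zero φ ψ f hu hψ] at this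
  exact (neg_eq_of_add_eq_zero_right this.symm).symm

include hu hφ in
theorem sl2p_f_inj {t u : F} (h : f t = f u) : t = u := by
  apply sl2p_upper_inj φ hφ
  rw [hu, hu, h]

include hu hφ hψ in
theorem sl2p_f_one_ne : f 1 ≠ 0 := by
  intro h
  rw [← sl2p_f_zero φ ψ f hu hψ] at h
  exact one_ne_zero (sl2p_f_inj φ ψ f hu hφ h)

include hu hl hφ hψ in
/-- The key relation between `f` and `g`. -/
theorem sl2p_key {t : F} (ht : t ≠ 0) : f t * g (-t⁻¹) = -1 := by
  by_contra hne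
  set a := f t with ha
  set b := g (-t⁻¹) with hb
  set m := 1 + a * b with hm
  have hm0 : m ≠ 0 := by
    intro h0
    apply hne
    rw [hm] at h0
    linear_combination h0
  -- the image of the monomial element
  have h1 : φ (monoSL t ht) = ψ (lowerSL (b / m) * diagSL m hm0 * upperSL (a * (1 + m) / m)) := by
    rw [sl2p_mono_eq ht, map_mul, map_mul, hu, hl, ← map_mul, ← map_mul, ← ha, ← hb,
      sl2p_big_cell a b m hm0 hm]
  have h2 := congrArg φ (sl2p_mono_conj ht (1 : F))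
  rw [map_mul, map_mul, h1, hu, hl, ← map_mul, ← map_mul] at h2
  set c := f 1 with hc
  set d := g (-(t⁻¹ * t⁻¹ * 1)) with hd
  set l := b / m with hl'
  set v := a * (1 + m) / m with hv
  -- rearrange
  have e1 : lowerSL l * diagSL m hm0 * upperSL v * upperSL c =
      lowerSL l * upperSL (m * m * c) * (diagSL m hm0 * upperSL v) := by
    rw [mul_assoc (lowerSL l * diagSL m hm0), ← sl2p_upper_add, add_comm v c, sl2p_upper_add,
      ← mul_assoc, mul_assoc (lowerSL l), sl2p_diag_conj hm0 c]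
    simp only [mul_assoc]
  have e2 : lowerSL d * (lowerSL l * diagSL m hm0 * upperSL v) =
      lowerSL l * lowerSL d * (diagSL m hm0 * upperSL v) := by
    rw [← sl2p_lower_add, add_comm l d, sl2p_lower_add]
    simp only [mul_assoc]
  rw [e1, e2, map_mul, map_mul (f := ψ) (lowerSL l * lowerSL d), mul_left_inj, map_mul, map_mul,
    mul_right_inj] at h2
  have h3 := (hψ _ _ h2).1
  have hc0 : c ≠ 0 := sl2p_f_one_ne φ ψ f hu hφ hψ
  rcases mul_eq_zero.mp h3 with h4 | h4
  · rcases mul_eq_zero.mp h4 with h5 | h5 <;> exact hm0 h5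
  · exact hc0 h4

include hu hl hφ hψ in
theorem sl2p_g_eq {s : F} (hs : s ≠ 0) : g s = (f s⁻¹)⁻¹ := by
  have h := sl2p_key φ ψ f g hu hl hφ hψ (t := -s⁻¹) (neg_ne_zero.mpr (inv_ne_zero hs))
  rw [sl2p_f_neg φ ψ f hu hψ, inv_neg, neg_neg, inv_inv] at h
  have h' : f s⁻¹ * g s = 1 := by linear_combination -h
  exact eq_inv_of_mul_eq_one_right h'

include hu hφ hψ in
theorem sl2p_f_ne {t : F} (ht : t ≠ 0) : f t ≠ 0 := by
  intro h
  rw [← sl2p_f_zero φ ψ f hu hψ] at h
  exact ht (sl2p_f_inj φ ψ f hu hφ h)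

include hu hl hφ hψ in
theorem sl2p_mono {t : F} (ht : t ≠ 0) :
    φ (monoSL t ht) = ψ (monoSL (f t) (sl2p_f_ne φ ψ f hu hφ hψ ht)) := by
  have hk := sl2p_key φ ψ f g hu hl hφ hψ ht
  have hft := sl2p_f_ne φ ψ f hu hφ hψ ht
  have hb : g (-t⁻¹) = -(f t)⁻¹ := by
    apply mul_left_cancel₀ hft
    rw [hk, mul_neg, mul_inv_cancel₀ hft]
  rw [sl2p_mono_eq ht, sl2p_mono_eq hft, map_mul, map_mul, hu, hl, hb, map_mul, map_mul]

theorem sl2p_diag_eq {t : F} (ht : t ≠ 0) :
    diagSL t ht = monoSL t ht * (monoSL (1 : F) one_ne_zero)⁻¹ := by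
  rw [sl2p_mono_mul ht one_ne_zero]
  congr 1
  rw [div_one]

include hu hl hφ hψ in
/-- The images of the diagonal elements. -/
theorem sl2p_diag {t : F} (ht : t ≠ 0) :
    φ (diagSL t ht) = ψ (diagSL (f t / f 1) (div_ne_zero (sl2p_f_ne φ ψ f hu hφ hψ ht)
      (sl2p_f_one_ne φ ψ f hu hφ hψ))) := by
  rw [sl2p_diag_eq ht, map_mul, map_inv, sl2p_mono φ ψ f g hu hl hφ hψ ht,
    sl2p_mono φ ψ f g hu hl hφ hψ one_ne_zero, ← map_inv, ← map_mul, sl2p_mono_mul]

include hu hl hφ hψ in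
theorem sl2p_f_sq (t u : F) : f (t * t * u) = f t / f 1 * (f t / f 1) * f u := by
  by_cases ht : t = 0
  · rw [ht, zero_mul, zero_mul, sl2p_f_zero φ ψ f hu hψ, zero_div, zero_mul, zero_mul]
  apply sl2p_upper_inj ψ hψ
  have h := congrArg φ (sl2p_diag_conj ht u)
  rw [map_mul, map_mul, sl2p_diag φ ψ f g hu hl hφ hψ ht, hu, hu, ← map_mul, sl2p_diag_conj, map_mul,
    mul_left_inj] at h
  exact h.symm

include hu hl hφ hψ in
/-- The functions `f` and `g` are `c σ` and `c⁻¹ σ` for a field automorphism `σ`. -/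
theorem sl2p_main [Finite F] :
    ∃ (c : Fˣ) (σ : F ≃+* F), ∀ t, f t = c * σ t ∧ g t = ((c⁻¹ : Fˣ) : F) * σ t := by
  have hc0 := sl2p_f_one_ne φ ψ f hu hφ hψ
  have hadd := sl2p_f_add φ ψ f hu hψ
  have hmul := field_mul_of_sq (fun t => f t / f 1)
    (fun t u => by show f (t + u) / f 1 = f t / f 1 + f u / f 1; rw [hadd, add_div])
    (div_self hc0)
    (fun t u => by
      show f (t * t * u) / f 1 = f t / f 1 * (f t / f 1) * (f u / f 1)
      rw [sl2p_f_sq φ ψ f g hu hl hφ hψ, mul_div_assoc])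
  let σ' : F →+* F :=
    { toFun := fun t => f t / f 1
      map_one' := div_self hc0
      map_mul' := hmul
      map_zero' := by show f 0 / f 1 = 0; rw [sl2p_f_zero φ ψ f hu hψ, zero_div]
      map_add' := fun t u => by show f (t + u) / f 1 = f t / f 1 + f u / f 1; rw [hadd, add_div] }
  have hinj : Function.Injective σ' := σ'.injective
  have hbij : Function.Bijective σ' := ⟨hinj, Finite.injective_iff_surjective.mp hinj⟩
  refine ⟨Units.mk0 (f 1) hc0, RingEquiv.ofBijective σ' hbij, fun t => ?_⟩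
  have e1 : ∀ s, (RingEquiv.ofBijective σ' hbij) s = f s / f 1 := fun _ => rfl
  have e2 : ∀ s, f s = f 1 * (f s / f 1) := fun s => by field_simp
  refine ⟨?_, ?_⟩
  · rw [e1, Units.val_mk0]
    exact e2 t
  · by_cases ht : t = 0
    · rw [ht, sl2p_g_zero φ ψ g hl hψ, map_zero, mul_zero]
    · rw [sl2p_g_eq φ ψ f g hu hl hφ hψ ht]
      have e3 : (RingEquiv.ofBijective σ' hbij) t = ((RingEquiv.ofBijective σ' hbij) t⁻¹)⁻¹ := by
        rw [map_inv₀, inv_inv]
      have hft := sl2p_f_ne φ ψ f hu hφ hψ (inv_ne_zero ht)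
      rw [e3, e1, Units.val_inv_eq_inv_val, Units.val_mk0]
      field_simp

include hu hl hφ hψ in
/-- The images of the diagonal elements, in terms of the field automorphism. -/
theorem sl2p_diag' (c : Fˣ) (σ : F ≃+* F) (hfc : ∀ t, f t = c * σ t) {t : F} (ht : t ≠ 0)
    (hσt : σ t ≠ 0) : φ (diagSL t ht) = ψ (diagSL (σ t) hσt) := by
  rw [sl2p_diag φ ψ f g hu hl hφ hψ ht]
  congr 2
  rw [hfc t, hfc 1, map_one, mul_one, mul_div_cancel_left₀ _ c.ne_zero]

end pair

end Cfsg.Agent.Helper7.Chev
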