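import Mathlib
import Cfsg.Agent.Helper7.ChevTwU4
import Cfsg.Agent.Helper7.ChevCount

set_option autoImplicit false
set_option linter.unusedSectionVars false
set_option linter.unusedVariables false

/-!
Twisted groups: the sharp form of the Bruhat decomposition and the order of the group over a finite field, given a
list of words in the classes of fundamental roots representing the elements of the Weyl group of the twisted group.
-/

namespace Cfsg.Agent.Helper7.Chev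

open Cfsg Cfsg.Lie Matrix DoubleCoset
open scoped Pointwise

variable {D : ChevalleyDatum} {K : Type*} [Field K]

/-- A list of words in the classes representing the elements of the Weyl group of the twisted group, each exactly
once, by words all of whose prefixes map the next fundamental root to a positive root. -/
structure TwWList (D : ChevalleyDatum) (ρ : ℕ → ℕ) (cls : List (ℕ × ℕ))
    (W : List (List (ℕ × ℕ))) : Prop where
  nil_mem : [] ∈ W
  nodup : W.Nodup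
  ok : ∀ L ∈ W, (∀ c ∈ L, c ∈ cls) ∧ PrefixPos D (L.flatMap (clsWord ρ))
  closed : ∀ L ∈ W, ∀ c ∈ cls, ∃ L' ∈ W, ∀ r < D.nroots,
    (tabOf D).reflWord (clsWord ρ c ++ L.flatMap (clsWord ρ)) r =
      (tabOf D).reflWord (L'.flatMap (clsWord ρ)) r
  inj : ∀ L ∈ W, ∀ L' ∈ W, (∀ r < D.nroots, (tabOf D).reflWord (L.flatMap (clsWord ρ)) r =
    (tabOf D).reflWord (L'.flatMap (clsWord ρ)) r) → L = L'

section main

variable (hG : Good2 D) (hT : T0 D) (h3 : (tabOf D).T3) (h4 : (tabOf D).T4 60) (h5 : (tabOf D).T5)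
  (h6 : (tabOf D).T6) (h7 : (tabOf D).T7) (h8 : (tabOf D).T8) (h9 : (tabOf D).T9)
  {ρ ρ' σ σ' : ℕ → ℕ} {ε : ℕ → ℤ} (h18 : T18 D ρ ρ' σ σ' ε) {cls : List (ℕ × ℕ)}
  (h19 : T19 D ρ σ cls) (h20 : (tabOf D).T20 ρ cls) (f : K ≃+* K)

theorem nclsWord_mem_twGroup {c : ℕ × ℕ} (hc : c ∈ cls) :
    (nWordGL hG (clsWord ρ c) : GL D.Idx K) ∈ twGroup hG h3 h4 h19 f := by
  rw [← clsHom_anti hG h3 h4 h19 f hc]
  exact anti_mem_twGroup hG h3 h4 h19 f hc

include hT h5 h6 h7 h8 h18 h20 in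
/-- `n_w U¹ ⊆ U¹ n_w (U_w⁻)¹` for a word in the classes all of whose prefixes map the next fundamental root to a
positive root. -/
theorem tw_nWord_mul_mem : ∀ L : List (ℕ × ℕ), (∀ c ∈ L, c ∈ cls) →
    PrefixPos D (L.flatMap (clsWord ρ)) → ∀ u ∈ twU hG h3 h4 h19 f,
    ∃ b ∈ twU hG h3 h4 h19 f, ∃ u' ∈ twM hG h18 f (L.flatMap (clsWord ρ)),
      nWordGL hG (L.flatMap (clsWord ρ)) * u = b * nWordGL hG (L.flatMap (clsWord ρ)) * u' := by
  intro L
  induction L using List.reverseRecOn with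
  | nil =>
    intro _ _ u hu
    refine ⟨u, hu, 1, one_mem _, ?_⟩
    rw [List.flatMap_nil, nWordGL_nil]
    group
  | append_singleton L c ih =>
    intro hL hpp u hu
    have hc : c ∈ cls := hL c (by simp)
    have hL' : ∀ c' ∈ L, c' ∈ cls := fun c' hc' => hL c' (by simp [hc'])
    rw [List.flatMap_append, List.flatMap_singleton] at hpp ⊢
    set w' : List ℕ := L.flatMap (clsWord ρ) with hw'def
    have hw' : ∀ i ∈ w', i < D.rank := flatMap_clsWord_lt h19 hL'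
    obtain ⟨hpp', hpos⟩ := cls_pos_of_prefixPos hG h19 hc hpp
    obtain ⟨ih1, ih2, _⟩ := twM_main hG hT h3 h4 h5 h6 h7 h8 h18 h19 h20 f L hL' hpp'
    set n : GL D.Idx K := nWordGL hG (clsWord ρ c) with hn
    have hnG : n ∈ twGroup hG h3 h4 h19 f := nclsWord_mem_twGroup hG h3 h4 h19 f hc
    rw [mem_twU] at hu
    have hufix := twGroup_le_twFix hG h3 h4 h18 h19 f hu.2
    obtain ⟨u₁, hu₁, t, ht, e₁⟩ :=
      exists_upS_mul_cls_of_fixed hG hT h3 h4 h5 h7 h8 h18 h19 h20 f hc hu.1 hufix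
    set x : GL D.Idx K := clsHom hG h3 h4 h19 f hc (upperSL t) with hx
    have hxG : x ∈ twGroup hG h3 h4 h19 f := upper_mem_twGroup hG h3 h4 h19 f hc ht
    have hu₁G : u₁ ∈ twGroup hG h3 h4 h19 f := by
      have e : u₁ = u * x⁻¹ := by rw [e₁]; group
      rw [e]
      exact mul_mem hu.2 (inv_mem hxG)
    have hnorm := nclsWord_mem_normalizer_upS hG hT h3 h4 h6 h19 f hc (K := K)
    have hv : n * u₁ * n⁻¹ ∈ twU hG h3 h4 h19 f := by
      rw [mem_twU]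
      exact ⟨upS_le_pos (InCls D ρ c) ((Subgroup.mem_set_normalizer_iff.mp hnorm u₁).mp hu₁),
        mul_mem (mul_mem hnG hu₁G) (inv_mem hnG)⟩
    obtain ⟨b, hb, u₃, hu₃, e₃⟩ := ih hL' hpp' _ hv
    refine ⟨b, hb, n⁻¹ * u₃ * n * x,
      mul_mem (twM_compose hG hT h3 h4 h6 h8 h18 h19 f hw' hc hpos ih1 hu₃).2
        (upper_mem_twM hG hT h3 h4 h18 h19 f hw' hc hpos ht), ?_⟩
    rw [nWordGL_append, e₁, ← hn]
    calc nWordGL hG w' * n * (u₁ * x) = (nWordGL hG w' * (n * u₁ * n⁻¹)) * n * x := by group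
      _ = (b * nWordGL hG w' * u₃) * n * x := by rw [e₃]
      _ = _ := by group

theorem conj_mem_twH {n h : GL D.Idx K} (hnN : n ∈ D.monomialSubgroup K)
    (hnG : n ∈ twGroup hG h3 h4 h19 f) (hh : h ∈ twH hG h3 h4 h19 f) :
    n * h * n⁻¹ ∈ twH hG h3 h4 h19 f := by
  rw [mem_twH] at hh ⊢
  exact ⟨conj_mem_diagonal (monomialSubgroup_le_normalizer hG hnN) hh.1,
    mul_mem (mul_mem hnG hh.2) (inv_mem hnG)⟩

variable {W : List (List (ℕ × ℕ))} (hW : TwWList D ρ cls W)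

include hT h6 h8 hW in
/-- Left multiplication of a representative by `n_S`. -/
theorem exists_rep_step {c : ℕ × ℕ} (hc : c ∈ cls) {y : GL D.Idx K}
    (hy : ∃ L ∈ W, ∃ h₀ ∈ twH hG h3 h4 h19 f, y = h₀ * nWordGL hG (L.flatMap (clsWord ρ))) :
    ∃ L ∈ W, ∃ h₀ ∈ twH hG h3 h4 h19 f,
      nWordGL hG (clsWord ρ c) * y = h₀ * nWordGL hG (L.flatMap (clsWord ρ)) := by
  obtain ⟨L, hLW, h₁, hh₁, rfl⟩ := hy
  obtain ⟨L', hL'W, hact⟩ := hW.closed L hLW c hc
  have hL := (hW.ok L hLW).1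
  have hL' := (hW.ok L' hL'W).1
  have hw := flatMap_clsWord_lt h19 hL
  have hw' := flatMap_clsWord_lt h19 hL'
  have hcw := clsWord_lt h19 hc
  have hcat : ∀ i ∈ clsWord ρ c ++ L.flatMap (clsWord ρ), i < D.rank := by
    intro i hi
    rcases List.mem_append.mp hi with h | h
    · exact hcw i h
    · exact hw i h
  obtain ⟨h₂, hh₂, e₂⟩ := nWordGL_eq_of_reflWord_eq (F := K) hG hT h6 h8 hcat hw' hact
  rw [nWordGL_append] at e₂
  set n : GL D.Idx K := nWordGL hG (clsWord ρ c) with hn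
  have hnG : n ∈ twGroup hG h3 h4 h19 f := nclsWord_mem_twGroup hG h3 h4 h19 f hc
  have hnN : n ∈ D.monomialSubgroup K := nWordGL_mem hG _
  have hLG := nWordGL_flatMap_mem hG h3 h4 h19 f hL
  have hL'G := nWordGL_flatMap_mem hG h3 h4 h19 f hL'
  have hh₂G : h₂ ∈ twH hG h3 h4 h19 f := by
    rw [mem_twH]
    refine ⟨hh₂, ?_⟩
    have e : h₂ = n * nWordGL hG (L.flatMap (clsWord ρ)) *
        (nWordGL hG (L'.flatMap (clsWord ρ)))⁻¹ := by rw [e₂]; group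
    rw [e]
    exact mul_mem (mul_mem hnG hLG) (inv_mem hL'G)
  refine ⟨L', hL'W, (n * h₁ * n⁻¹) * h₂,
    mul_mem (conj_mem_twH hG h3 h4 h19 f hnN hnG hh₁) hh₂G, ?_⟩
  calc n * (h₁ * nWordGL hG (L.flatMap (clsWord ρ)))
      = (n * h₁ * n⁻¹) * (n * nWordGL hG (L.flatMap (clsWord ρ))) := by group
    _ = (n * h₁ * n⁻¹) * (h₂ * nWordGL hG (L'.flatMap (clsWord ρ))) := by rw [e₂]
    _ = _ := by group

include hT h6 h8 hW in
/-- Every element of `⟨n_S⟩ H¹` is represented, modulo `H¹`, by a word of the list. -/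
theorem exists_rep_tw {n : GL D.Idx K} (hn : n ∈ twN0 hG h3 h4 h19 f) :
    ∃ L ∈ W, ∃ h₀ ∈ twH hG h3 h4 h19 f, n = h₀ * nWordGL hG (L.flatMap (clsWord ρ)) := by
  have hcl : ∀ s ∈ Subgroup.closure (twS hG h3 h4 h19 f),
      ∃ L ∈ W, ∃ h₀ ∈ twH hG h3 h4 h19 f, s = h₀ * nWordGL hG (L.flatMap (clsWord ρ)) := by
    intro s hs
    induction hs using Subgroup.closure_induction_left with
    | one =>
      refine ⟨[], hW.nil_mem, 1, one_mem _, ?_⟩
      rw [List.flatMap_nil, nWordGL_nil, one_mul]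
    | mul_left x hx y _ ih =>
      obtain ⟨c, hc, rfl⟩ := hx
      rw [clsHom_anti]
      exact exists_rep_step hG hT h3 h4 h6 h8 h19 f hW hc ih
    | inv_mul_cancel x hx y _ ih =>
      obtain ⟨c, hc, rfl⟩ := hx
      have hsq := ncls_sq_mem_twH hG h3 h4 h19 f hc
      rw [clsHom_anti] at hsq ⊢
      obtain ⟨L, hLW, h₁, hh₁, e₁⟩ := exists_rep_step hG hT h3 h4 h6 h8 h19 f hW hc ih
      refine ⟨L, hLW, (nWordGL hG (clsWord ρ c) * nWordGL hG (clsWord ρ c))⁻¹ * h₁,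
        mul_mem (inv_mem hsq) hh₁, ?_⟩
      rw [mul_assoc, ← e₁]
      group
  have hnorm : Subgroup.closure (twS hG h3 h4 h19 f) ≤
      Subgroup.normalizer (twH hG h3 h4 h19 f : Set (GL D.Idx K)) := by
    intro s hs
    have hsN := twS_le_twN hG h3 h4 h19 f hs
    rw [mem_twN] at hsN
    rw [Subgroup.mem_set_normalizer_iff]
    intro h
    constructor
    · intro hh
      exact conj_mem_twH hG h3 h4 h19 f hsN.1 hsN.2 hh
    · intro hh
      have := conj_mem_twH hG h3 h4 h19 f (inv_mem hsN.1) (inv_mem hsN.2) hh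
      rw [inv_inv] at this
      have e : h = s⁻¹ * (s * h * s⁻¹) * s := by group
      rw [e]
      exact this
  have hmul := Subgroup.coe_mul_of_left_le_normalizer_right
    (Subgroup.closure (twS hG h3 h4 h19 f)) (twH hG h3 h4 h19 f) hnorm
  obtain ⟨s, hs, h, hh, rfl⟩ : n ∈ (Subgroup.closure (twS hG h3 h4 h19 f) : Set (GL D.Idx K)) *
      (twH hG h3 h4 h19 f : Set (GL D.Idx K)) := by
    rw [← hmul]; exact hn
  obtain ⟨L, hLW, h₁, hh₁, rfl⟩ := hcl s hs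
  have hL := (hW.ok L hLW).1
  set m : GL D.Idx K := nWordGL hG (L.flatMap (clsWord ρ)) with hm
  refine ⟨L, hLW, h₁ * (m * h * m⁻¹), mul_mem hh₁
    (conj_mem_twH hG h3 h4 h19 f (nWordGL_mem hG _) (nWordGL_flatMap_mem hG h3 h4 h19 f hL) hh), ?_⟩
  change h₁ * m * h = h₁ * (m * h * m⁻¹) * m
  group

include hT h5 h6 h7 h8 h9 h18 h20 hW in
/-- Every element of the twisted group is `b n_w u` with `w` in the list, `b ∈ B¹` and `u ∈ (U_w⁻)¹`. -/
theorem exists_normal_form_tw {g : GL D.Idx K} (hg : g ∈ twGroup hG h3 h4 h19 f) :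
    ∃ L ∈ W, ∃ b ∈ twB hG h3 h4 h19 f, ∃ u ∈ twM hG h18 f (L.flatMap (clsWord ρ)),
      g = b * nWordGL hG (L.flatMap (clsWord ρ)) * u := by
  obtain ⟨n, hn, hgn⟩ := twGroup_le_twBNB hG hT h3 h4 h5 h6 h7 h8 h9 h18 h19 h20 f hg
  obtain ⟨b₁, hb₁, b₂, hb₂, rfl⟩ := mem_doubleCoset.mp hgn
  have hnN := (mem_twN hG h3 h4 h19 f).mp (twN0_le_twN hG h3 h4 h19 f hn)
  -- `b₂ = h₂ u₂`
  have hb₂' : b₂⁻¹ ∈ twB hG h3 h4 h19 f := inv_mem hb₂
  obtain ⟨u₀, hu₀, h₀, hh₀, e₀⟩ := twB_decomp hG h3 h4 h19 f hb₂'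
  have e₂ : b₂ = h₀⁻¹ * u₀⁻¹ := by
    have : b₂ = (b₂⁻¹)⁻¹ := by rw [inv_inv]
    rw [this, e₀]; group
  obtain ⟨L, hLW, h, hh, en⟩ := exists_rep_tw hG hT h3 h4 h6 h8 h19 f hW hn
  obtain ⟨hL, hpp⟩ := hW.ok L hLW
  obtain ⟨b, hb, u', hu', e₃⟩ :=
    tw_nWord_mul_mem hG hT h3 h4 h5 h6 h7 h8 h18 h19 h20 f L hL hpp u₀⁻¹ (inv_mem hu₀)
  refine ⟨L, hLW, b₁ * (n * h₀⁻¹ * n⁻¹) * (h * b), ?_, u', hu', ?_⟩
  · exact mul_mem (mul_mem hb₁ (twH_le_twB hG h3 h4 h19 f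
      (conj_mem_twH hG h3 h4 h19 f hnN.1 hnN.2 (inv_mem hh₀))))
      (mul_mem (twH_le_twB hG h3 h4 h19 f hh) (twU_le_twB hG h3 h4 h19 f hb))
  · rw [e₂]
    have e₄ : n * u₀⁻¹ = h * b * nWordGL hG (L.flatMap (clsWord ρ)) * u' := by
      rw [en]
      calc h * nWordGL hG (L.flatMap (clsWord ρ)) * u₀⁻¹
          = h * (nWordGL hG (L.flatMap (clsWord ρ)) * u₀⁻¹) := by group
        _ = h * (b * nWordGL hG (L.flatMap (clsWord ρ)) * u') := by rw [e₃]
        _ = _ := by group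
    calc b₁ * n * (h₀⁻¹ * u₀⁻¹) = b₁ * (n * h₀⁻¹ * n⁻¹) * (n * u₀⁻¹) := by group
      _ = b₁ * (n * h₀⁻¹ * n⁻¹) * (h * b * nWordGL hG (L.flatMap (clsWord ρ)) * u') := by rw [e₄]
      _ = _ := by group

include hT h5 h6 h7 h8 h9 h18 h20 hW in
/-- Uniqueness of the normal form. -/
theorem normal_form_unique_tw {L L' : List (ℕ × ℕ)} (hLW : L ∈ W) (hL'W : L' ∈ W)
    {b b' u u' : GL D.Idx K} (hb : b ∈ twB hG h3 h4 h19 f) (hb' : b' ∈ twB hG h3 h4 h19 f)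
    (hu : u ∈ twM hG h18 f (L.flatMap (clsWord ρ))) (hu' : u' ∈ twM hG h18 f (L'.flatMap (clsWord ρ)))
    (e : b * nWordGL hG (L.flatMap (clsWord ρ)) * u = b' * nWordGL hG (L'.flatMap (clsWord ρ)) * u') :
    L = L' ∧ b = b' ∧ u = u' := by
  obtain ⟨hL, hpp⟩ := hW.ok L hLW
  obtain ⟨hL', hpp'⟩ := hW.ok L' hL'W
  have hw := flatMap_clsWord_lt h19 hL
  have hw' := flatMap_clsWord_lt h19 hL'
  have hsub : ∀ v : List ℕ, (∀ i ∈ v, i < D.rank) →
      Subgroup.closure (minusGen D K v) ≤ Subgroup.closure (minusGen' D K (nWordGL hG v)) := by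
    intro v hv
    apply Subgroup.closure_mono
    have := minusGen_subset (F := K) hG hT hv (one_mem (D.diagonalSubgroup K))
    rwa [one_mul] at this
  have hm := (twM_main hG hT h3 h4 h5 h6 h7 h8 h18 h19 h20 f L hL hpp).1
  have hm' := (twM_main hG hT h3 h4 h5 h6 h7 h8 h18 h19 h20 f L' hL' hpp').1
  have key := (bruhat_normal_form (F := K) hG hT h3 h4 h5 h6 h8 h9).2 b b'
    (nWordGL hG (L.flatMap (clsWord ρ))) (nWordGL hG (L'.flatMap (clsWord ρ))) u u'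
    (twB_le_borel hG h3 h4 h19 f hb) (twB_le_borel hG h3 h4 h19 f hb') (nWordGL_mem hG _)
    (nWordGL_mem hG _) (hsub _ hw (hm hu)) (hsub _ hw' (hm' hu')) e
  have hLL : L = L' := by
    apply hW.inj L hLW L' hL'W
    apply reflWord_eq_of_nWordGL_eq hG hT h8 hw hw' key.1
    group
  subst hLL
  exact ⟨rfl, key.2 rfl⟩

include hT in
/-- The order of `B¹ = U¹ H¹`. -/
theorem card_twB :
    Nat.card (twB hG h3 h4 h19 f) = Nat.card (twU hG h3 h4 h19 f) * Nat.card (twH hG h3 h4 h19 f) := by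
  let Φ : ↥(twU hG h3 h4 h19 f) × ↥(twH hG h3 h4 h19 f) → ↥(twB hG h3 h4 h19 f) := fun p =>
    ⟨(p.1 : GL D.Idx K) * (p.2 : GL D.Idx K),
      mul_mem (twU_le_twB hG h3 h4 h19 f p.1.2) (twH_le_twB hG h3 h4 h19 f p.2.2)⟩
  have hinj : Function.Injective Φ := by
    rintro ⟨⟨u, hu⟩, ⟨h, hh⟩⟩ ⟨⟨u', hu'⟩, ⟨h', hh'⟩⟩ e
    have e' : u * h = u' * h' := congrArg (fun x : ↥(twB hG h3 h4 h19 f) => (x : GL D.Idx K)) e
    rw [mem_twU] at hu hu'
    rw [mem_twH] at hh hh'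
    have hmem : u'⁻¹ * u ∈ D.posUnipotent K ⊓ D.diagonalSubgroup K := by
      refine Subgroup.mem_inf.mpr ⟨mul_mem (inv_mem hu'.1) hu.1, ?_⟩
      have : u'⁻¹ * u = h' * h⁻¹ := by
        calc u'⁻¹ * u = u'⁻¹ * (u * h) * h⁻¹ := by group
          _ = u'⁻¹ * (u' * h') * h⁻¹ := by rw [e']
          _ = _ := by group
      rw [this]
      exact mul_mem hh'.1 (inv_mem hh.1)
    rw [posUnipotent_inf_diagonal hG hT, Subgroup.mem_bot] at hmem
    have huu : u = u' := (inv_mul_eq_one.mp hmem).symm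
    subst huu
    have hhh : h = h' := mul_left_cancel e'
    subst hhh
    rfl
  have hsurj : Function.Surjective Φ := by
    rintro ⟨b, hb⟩
    obtain ⟨u, hu, h, hh, rfl⟩ := twB_decomp hG h3 h4 h19 f hb
    exact ⟨⟨⟨u, hu⟩, ⟨h, hh⟩⟩, rfl⟩
  rw [← Nat.card_congr (Equiv.ofBijective Φ ⟨hinj, hsurj⟩), Nat.card_prod]

end main

end Cfsg.Agent.Helper7.Chev
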