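import Mathlib
import Cfsg.Agent.Helper7.ChevTwO1
import Cfsg.Agent.Helper7.ChevTw12
import Cfsg.Agent.Helper7.ChevAutA

set_option autoImplicit false
set_option linter.unusedSectionVars false
set_option linter.unusedVariables false
set_option linter.style.haveILetI false

/-!
Automorphisms of a twisted group over a finite field, part A: up to an inner automorphism, an automorphism
stabilises `U¹` and `V¹`.
-/

namespace Cfsg.Agent.Helper7.Chev

open Cfsg Cfsg.Lie Matrix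

/-! ### Automorphisms of a subgroup and subgroups of the ambient group -/

section generic

variable {Γ : Type*} [Group Γ] {G1 : Subgroup Γ}

/-- The automorphism `θ` of `G1` maps the part of `A` in `G1` onto the part of `A'` in `G1`. -/
def SMapsOnto (θ : ↥G1 ≃* ↥G1) (A A' : Subgroup Γ) : Prop :=
  ∀ x : ↥G1, (x : Γ) ∈ A ↔ ((θ x : ↥G1) : Γ) ∈ A'

theorem SMapsOnto.symm {θ : ↥G1 ≃* ↥G1} {A A' : Subgroup Γ} (h : SMapsOnto θ A A') :
    SMapsOnto θ.symm A' A := by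
  intro x
  have := h (θ.symm x)
  rw [MulEquiv.apply_symm_apply] at this
  exact this.symm

theorem SMapsOnto.trans {θ θ' : ↥G1 ≃* ↥G1} {A A' A'' : Subgroup Γ} (h : SMapsOnto θ A A')
    (h' : SMapsOnto θ' A' A'') : SMapsOnto (θ.trans θ') A A'' := by
  intro x
  rw [h x, h' (θ x)]
  rfl

theorem SMapsOnto.inf {θ : ↥G1 ≃* ↥G1} {A₁ A₁' A₂ A₂' : Subgroup Γ} (h₁ : SMapsOnto θ A₁ A₁')
    (h₂ : SMapsOnto θ A₂ A₂') : SMapsOnto θ (A₁ ⊓ A₂) (A₁' ⊓ A₂') := by
  intro x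
  rw [Subgroup.mem_inf, Subgroup.mem_inf, h₁ x, h₂ x]

theorem SMapsOnto.refl (A : Subgroup Γ) : SMapsOnto (MulEquiv.refl ↥G1) A A := fun _ => Iff.rfl

theorem sMapsOnto_conj (g : ↥G1) (A : Subgroup Γ) :
    SMapsOnto (MulAut.conj g) A (A.map (MulAut.conj (g : Γ)).toMonoidHom) := by
  intro x
  constructor
  · intro hx
    exact ⟨x, hx, rfl⟩
  · rintro ⟨y, hy, e⟩
    have : y = x := (MulAut.conj (g : Γ)).injective e
    rw [← this]
    exact hy

theorem sMapsOnto_conj_of_mem_normalizer {A : Subgroup Γ} {y : ↥G1}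
    (h : (y : Γ) ∈ Subgroup.normalizer (A : Set Γ)) : SMapsOnto (MulAut.conj y) A A := by
  intro x
  exact Subgroup.mem_set_normalizer_iff.mp h x

/-- An element of `G1` whose inner automorphism maps `A` onto `A` normalises `A`. -/
theorem mem_normalizer_of_sMapsOnto_conj {A : Subgroup Γ} (hA : A ≤ G1) {y : ↥G1}
    (h : SMapsOnto (MulAut.conj y) A A) : (y : Γ) ∈ Subgroup.normalizer (A : Set Γ) := by
  rw [Subgroup.mem_set_normalizer_iff]
  intro g
  constructor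
  · intro hg
    exact (h ⟨g, hA hg⟩).mp hg
  · intro hg
    have hgG : g ∈ G1 := by
      have h1 := hA hg
      have : g = (y : Γ)⁻¹ * ((y : Γ) * g * (y : Γ)⁻¹) * y := by group
      rw [this]
      exact mul_mem (mul_mem (inv_mem y.2) h1) y.2
    exact (h ⟨g, hgG⟩).mpr hg

/-- An automorphism mapping `A` onto `A'` maps the normaliser of `A` in `G1` onto that of `A'`. -/
theorem SMapsOnto.normalizer {θ : ↥G1 ≃* ↥G1} {A A' : Subgroup Γ} (hA : A ≤ G1) (hA' : A' ≤ G1)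
    (h : SMapsOnto θ A A') :
    SMapsOnto θ (Subgroup.normalizer (A : Set Γ) ⊓ G1) (Subgroup.normalizer (A' : Set Γ) ⊓ G1) := by
  have key : ∀ (θ : ↥G1 ≃* ↥G1) (A A' : Subgroup Γ), A ≤ G1 → A' ≤ G1 → SMapsOnto θ A A' →
      ∀ x : ↥G1, (x : Γ) ∈ Subgroup.normalizer (A : Set Γ) →
        ((θ x : ↥G1) : Γ) ∈ Subgroup.normalizer (A' : Set Γ) := by
    intro θ A A' hA hA' h x hx
    rw [Subgroup.mem_set_normalizer_iff] at hx ⊢
    have hmem : ∀ y : ↥G1, (y : Γ) ∈ A' ↔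
        ((θ x : ↥G1) : Γ) * y * ((θ x : ↥G1) : Γ)⁻¹ ∈ A' := by
      intro y
      have h1 : ((θ.symm y : ↥G1) : Γ) ∈ A ↔
          (x : Γ) * ((θ.symm y : ↥G1) : Γ) * (x : Γ)⁻¹ ∈ A := hx ((θ.symm y : ↥G1) : Γ)
      have h2 := h (θ.symm y)
      rw [MulEquiv.apply_symm_apply] at h2
      have h3 := h (x * θ.symm y * x⁻¹)
      rw [map_mul, map_mul, map_inv, MulEquiv.apply_symm_apply] at h3
      exact h2.symm.trans (h1.trans h3)
    intro y
    by_cases hy : y ∈ G1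
    · exact hmem ⟨y, hy⟩
    · constructor
      · intro hyA
        exact absurd (hA' hyA) hy
      · intro hyA
        exfalso
        apply hy
        have h3' := hA' hyA
        have : y = ((θ x : ↥G1) : Γ)⁻¹ * (((θ x : ↥G1) : Γ) * y * ((θ x : ↥G1) : Γ)⁻¹) *
            ((θ x : ↥G1) : Γ) := by group
        rw [this]
        exact mul_mem (mul_mem (inv_mem (θ x).2) h3') (θ x).2
  intro x
  constructor
  · rintro ⟨hx, _⟩
    exact ⟨key θ A A' hA hA' h x hx, (θ x).2⟩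
  · rintro ⟨hx, _⟩
    have := key θ.symm A' A hA' hA h.symm (θ x) hx
    rw [MulEquiv.symm_apply_apply] at this
    exact ⟨this, x.2⟩

end generic

/-! ### The abstract normalisation argument -/

/-- In a finite group with a Sylow subgroup `U`, an opposite subgroup `V` and a sharp Bruhat decomposition, every
automorphism stabilises `U` and `V` up to an inner automorphism. -/
theorem exists_normalize_abstract {G : Type*} [Group G] [Finite G] (p : ℕ) [Fact p.Prime]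
    (U V : Subgroup G) (PU : Sylow p G) (hPU : (PU : Subgroup G) = U) (hUV : U ⊓ V = ⊥)
    (n₀ : G) (hn₀ : U.map (MulAut.conj n₀).toMonoidHom = V) (NN : Set G)
    (hbruhat : ∀ g : G, ∃ b ∈ Subgroup.normalizer (U : Set G), ∃ n ∈ NN, ∃ u ∈ U, g = b * n * u)
    (hkey : ∀ n ∈ NN, U ⊓ U.map (MulAut.conj n⁻¹).toMonoidHom = ⊥ →
      U.map (MulAut.conj n⁻¹).toMonoidHom = V)
    (θ : G ≃* G) :
    ∃ x : G, (∀ y, y ∈ U ↔ (θ.trans (MulAut.conj x)) y ∈ U) ∧
      (∀ y, y ∈ V ↔ (θ.trans (MulAut.conj x)) y ∈ V) := by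
  classical
  -- Step 1: stabilise `U`
  obtain ⟨k, hk⟩ := MulAction.exists_smul_eq G ((θ : MulAut G) • PU) PU
  obtain ⟨θ₁, hθ₁⟩ : ∃ θ₁ : G ≃* G, θ₁ = θ.trans (MulAut.conj k) := ⟨_, rfl⟩
  have hθ₁U : ∀ y, y ∈ U ↔ θ₁ y ∈ U := by
    have hsub : ((PU : Subgroup G).map (θ : MulAut G).toMonoidHom).map
        (MulAut.conj k).toMonoidHom = PU := by
      have := congrArg (fun P : Sylow p G => (P : Subgroup G)) hk
      exact this
    rw [hPU] at hsub
    intro y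
    constructor
    · intro hy
      rw [← hsub, hθ₁]
      exact ⟨θ y, ⟨y, hy, rfl⟩, rfl⟩
    · intro hy
      rw [← hsub] at hy
      obtain ⟨y', ⟨z, hz, rfl⟩, e⟩ := hy
      have hz' : θ₁ z = θ₁ y := by
        rw [← e, hθ₁]
        rfl
      have : z = y := θ₁.injective hz'
      rw [← this]
      exact hz
  -- Step 2: the image of `V`
  obtain ⟨y₀, hy₀⟩ : ∃ y₀ : G, y₀ = θ₁ n₀ := ⟨_, rfl⟩
  have hθ₁V : ∀ z, z ∈ V ↔ θ₁ z ∈ U.map (MulAut.conj y₀).toMonoidHom := by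
    intro z
    rw [← hn₀, mem_map_conj, mem_map_conj, hθ₁U, hy₀, map_mul, map_mul, map_inv]
  have hdisj : U ⊓ U.map (MulAut.conj y₀).toMonoidHom = ⊥ := by
    rw [eq_bot_iff]
    rintro z ⟨hz1, hz2⟩
    rw [Subgroup.mem_bot]
    have e : θ₁ (θ₁.symm z) = z := θ₁.apply_symm_apply z
    have h1 : θ₁.symm z ∈ U := by rw [hθ₁U, e]; exact hz1
    have h2 : θ₁.symm z ∈ V := by rw [hθ₁V, e]; exact hz2
    have h3 : θ₁.symm z ∈ (⊥ : Subgroup G) := by rw [← hUV]; exact ⟨h1, h2⟩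
    rw [Subgroup.mem_bot] at h3
    rw [h3, map_one] at e
    exact e.symm
  -- Step 3: the Bruhat decomposition of `y₀⁻¹`
  obtain ⟨b, hb, n, hn, u, hu, e⟩ := hbruhat y₀⁻¹
  have hye : y₀ = u⁻¹ * n⁻¹ * b⁻¹ := by
    rw [← _root_.inv_inj, e]; group
  have hyU : ∀ z, z ∈ U.map (MulAut.conj y₀).toMonoidHom ↔
      u * z * u⁻¹ ∈ U.map (MulAut.conj n⁻¹).toMonoidHom := by
    intro z
    rw [mem_map_conj, mem_map_conj, hye]
    have hb' := Subgroup.mem_set_normalizer_iff.mp hb (n * (u * z * u⁻¹) * n⁻¹)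
    have e1 : (u⁻¹ * n⁻¹ * b⁻¹)⁻¹ * z * (u⁻¹ * n⁻¹ * b⁻¹) =
        b * (n * (u * z * u⁻¹) * n⁻¹) * b⁻¹ := by group
    have e2 : n⁻¹⁻¹ * (u * z * u⁻¹) * n⁻¹ = n * (u * z * u⁻¹) * n⁻¹ := by rw [inv_inv]
    rw [e1, e2]
    exact hb'.symm
  have hdisj2 : U ⊓ U.map (MulAut.conj n⁻¹).toMonoidHom = ⊥ := by
    rw [eq_bot_iff]
    rintro z ⟨hz1, hz2⟩
    rw [Subgroup.mem_bot]
    have h1 : u⁻¹ * z * u ∈ U := mul_mem (mul_mem (inv_mem hu) hz1) hu
    have h2 : u⁻¹ * z * u ∈ U.map (MulAut.conj y₀).toMonoidHom := by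
      rw [hyU]
      have : u * (u⁻¹ * z * u) * u⁻¹ = z := by group
      rw [this]; exact hz2
    have h3 : u⁻¹ * z * u ∈ (⊥ : Subgroup G) := by rw [← hdisj]; exact ⟨h1, h2⟩
    rw [Subgroup.mem_bot] at h3
    have : z = u * (u⁻¹ * z * u) * u⁻¹ := by group
    rw [this, h3]; group
  have hnV := hkey n hn hdisj2
  -- Step 4
  have hcoe : ∀ y, (θ.trans (MulAut.conj (u * k))) y = u * θ₁ y * u⁻¹ := by
    intro y
    rw [hθ₁]
    simp only [MulEquiv.trans_apply, MulAut.conj_apply]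
    group
  refine ⟨u * k, ?_, ?_⟩
  · intro y
    rw [hθ₁U y, hcoe]
    constructor
    · intro hy
      exact mul_mem (mul_mem hu hy) (inv_mem hu)
    · intro hy
      have : θ₁ y = u⁻¹ * (u * θ₁ y * u⁻¹) * u := by group
      rw [this]
      exact mul_mem (mul_mem (inv_mem hu) hy) hu
  · intro y
    rw [hθ₁V y, hyU, hnV, hcoe]

end Cfsg.Agent.Helper7.Chev
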