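import Mathlib
import Cfsg.Agent.Helper7.TwAutA

set_option autoImplicit false
set_option linter.unusedSectionVars false
set_option linter.unusedVariables false
set_option linter.style.haveILetI false

/-!
Automorphisms of a twisted group over a finite field, part B: the normalisation argument in the twisted group.
-/

namespace Cfsg.Agent.Helper7.Chev

open Cfsg Cfsg.Lie Matrix DoubleCoset

variable {D : ChevalleyDatum} {K : Type*} [Field K]

section tw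

variable (hG : Good2 D) (hT : T0 D) (h3 : (tabOf D).T3) (h4 : (tabOf D).T4 60) (h5 : (tabOf D).T5)
  (h6 : (tabOf D).T6) (h7 : (tabOf D).T7) (h8 : (tabOf D).T8) (h9 : (tabOf D).T9)
  {ρ ρ' σ σ' : ℕ → ℕ} {ε : ℕ → ℤ} (h18 : T18 D ρ ρ' σ σ' ε) {cls : List (ℕ × ℕ)}
  (h19 : T19 D ρ σ cls) (h20 : (tabOf D).T20 ρ cls) (f : K ≃+* K)
  {W : List (List (ℕ × ℕ))} (hW : TwWList D ρ cls W)
  {wcls : List (ℕ × ℕ)} (hwc : ∀ c ∈ wcls, c ∈ cls)
  (hw0 : (tabOf D).W0ok (wcls.flatMap (clsWord ρ)))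

/-- `V¹`. -/
def twV : Subgroup (GL D.Idx K) := D.negUnipotent K ⊓ twGroup hG h3 h4 h19 f

theorem mem_twV {g : GL D.Idx K} :
    g ∈ twV hG h3 h4 h19 f ↔ g ∈ D.negUnipotent K ∧ g ∈ twGroup hG h3 h4 h19 f := Subgroup.mem_inf

include hT hwc hw0 in
/-- The representative of the longest element conjugates `U¹` onto `V¹`. -/
theorem twU_map_conj_n0 :
    (twU hG h3 h4 h19 f).map
        (MulAut.conj (nWordGL hG (wcls.flatMap (clsWord ρ)) : GL D.Idx K)).toMonoidHom =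
      twV hG h3 h4 h19 f := by
  have hn₀G : (nWordGL hG (wcls.flatMap (clsWord ρ)) : GL D.Idx K) ∈ twGroup hG h3 h4 h19 f :=
    nWordGL_flatMap_mem hG h3 h4 h19 f hwc
  have hUV := nWordGL_conj_pos_eq_neg (K := K) hG hT hw0
  ext z
  rw [mem_map_conj, mem_twU, mem_twV, ← hUV, mem_map_conj]
  constructor
  · rintro ⟨h1, h2⟩
    refine ⟨h1, ?_⟩
    have : z = nWordGL hG (wcls.flatMap (clsWord ρ)) *
        ((nWordGL hG (wcls.flatMap (clsWord ρ)))⁻¹ * z * nWordGL hG (wcls.flatMap (clsWord ρ))) *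
        (nWordGL hG (wcls.flatMap (clsWord ρ)))⁻¹ := by group
    rw [this]
    exact mul_mem (mul_mem hn₀G h2) (inv_mem hn₀G)
  · rintro ⟨h1, h2⟩
    exact ⟨h1, mul_mem (mul_mem (inv_mem hn₀G) h2) hn₀G⟩

include hT h5 h6 h7 h8 h9 h18 h20 hW hwc hw0 in
/-- An element of `N¹` conjugating `U¹` to a subgroup meeting `U¹` trivially conjugates `U¹` onto `V¹`. -/
theorem tw_conj_eq_neg_of_inf_eq_bot [Fintype K] {m : GL D.Idx K} (hm : m ∈ twN hG h3 h4 h19 f)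
    (h : twU hG h3 h4 h19 f ⊓ (twU hG h3 h4 h19 f).map (MulAut.conj m).toMonoidHom = ⊥) :
    (twU hG h3 h4 h19 f).map (MulAut.conj m).toMonoidHom = twV hG h3 h4 h19 f := by
  classical
  have hG1 := hG.toGood1
  rw [monomial_inf_twGroup hG hT h3 h4 h5 h6 h7 h8 h9 h18 h19 h20 f] at hm
  obtain ⟨L, hLW, h₀, hh₀, rfl⟩ := exists_rep_tw hG hT h3 h4 h6 h8 h19 f hW hm
  obtain ⟨hL, hpp⟩ := hW.ok L hLW
  obtain ⟨nw, hnw⟩ : ∃ nw : GL D.Idx K, nw = nWordGL hG (L.flatMap (clsWord ρ)) := ⟨_, rfl⟩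
  rw [← hnw] at h ⊢
  have hnwG : nw ∈ twGroup hG h3 h4 h19 f := by
    rw [hnw]; exact nWordGL_flatMap_mem hG h3 h4 h19 f hL
  have hh₀' := (mem_twH hG h3 h4 h19 f).mp hh₀
  have hle : (twU hG h3 h4 h19 f).map (MulAut.conj (h₀ * nw)).toMonoidHom ≤
      twV hG h3 h4 h19 f := by
    rintro _ ⟨u, hu, rfl⟩
    change (h₀ * nw) * u * (h₀ * nw)⁻¹ ∈ twV hG h3 h4 h19 f
    obtain ⟨b, hb, u', hu', e⟩ :=
      tw_nWord_mul_mem hG hT h3 h4 h5 h6 h7 h8 h18 h19 h20 f L hL hpp u hu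
    rw [← hnw] at e
    have hu'G : u' ∈ twGroup hG h3 h4 h19 f :=
      (twM_main hG hT h3 h4 h5 h6 h7 h8 h18 h19 h20 f L hL hpp).2.1 hu'
    obtain ⟨hu'U, hu'fix, hu'V⟩ := (mem_twM hG h18 f).mp hu'
    rw [← hnw] at hu'V
    have hu'tw : u' ∈ twU hG h3 h4 h19 f := (mem_twU hG h3 h4 h19 f).mpr ⟨hu'U, hu'G⟩
    have eb : b = nw * (u * u'⁻¹) * nw⁻¹ := by
      have e1 : nw * u * u'⁻¹ = b * nw := by rw [e]; group
      calc b = (b * nw) * nw⁻¹ := by group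
        _ = nw * u * u'⁻¹ * nw⁻¹ := by rw [e1]
        _ = nw * (u * u'⁻¹) * nw⁻¹ := by group
    have hb1 : h₀ * b * h₀⁻¹ ∈ (⊥ : Subgroup (GL D.Idx K)) := by
      rw [← h]
      refine ⟨(Subgroup.mem_set_normalizer_iff.mp (twH_le_normalizer hG h3 h4 h19 f hh₀) b).mp hb,
        ⟨u * u'⁻¹, mul_mem hu (inv_mem hu'tw), ?_⟩⟩
      change (h₀ * nw) * (u * u'⁻¹) * (h₀ * nw)⁻¹ = h₀ * b * h₀⁻¹
      rw [eb]; group
    rw [Subgroup.mem_bot] at hb1
    have hb1' : b = 1 := by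
      have : b = h₀⁻¹ * (h₀ * b * h₀⁻¹) * h₀ := by group
      rw [this, hb1]; group
    have hu_eq : u = u' := by
      rw [hb1', one_mul] at e
      exact mul_left_cancel e
    rw [hu_eq, mem_twV]
    refine ⟨?_, mul_mem (mul_mem (mul_mem hh₀'.2 hnwG) hu'G) (inv_mem (mul_mem hh₀'.2 hnwG))⟩
    have : (h₀ * nw) * u' * (h₀ * nw)⁻¹ = h₀ * (nw * u' * nw⁻¹) * h₀⁻¹ := by group
    rw [this]
    exact (Subgroup.mem_set_normalizer_iff.mp
      (diagonalSubgroup_le_normalizer_neg hG hh₀'.1) _).mp hu'V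
  haveI : Finite (GL D.Idx K) := inferInstance
  apply Subgroup.eq_of_le_of_card_ge hle
  rw [← twU_map_conj_n0 hG hT h3 h4 h19 f hwc hw0,
    Subgroup.card_map_of_injective (MulAut.conj _).injective,
    Subgroup.card_map_of_injective (MulAut.conj _).injective]

include hT h5 h6 h7 h8 h9 h18 h20 in
/-- `G¹ = B¹ N¹ U¹`. -/
theorem tw_bruhat {g : GL D.Idx K} (hg : g ∈ twGroup hG h3 h4 h19 f) :
    ∃ b ∈ twB hG h3 h4 h19 f, ∃ n ∈ twN hG h3 h4 h19 f, ∃ u ∈ twU hG h3 h4 h19 f,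
      g = b * n * u := by
  obtain ⟨n, hn, hgn⟩ := twGroup_le_twBNB hG hT h3 h4 h5 h6 h7 h8 h9 h18 h19 h20 f hg
  obtain ⟨b₁, hb₁, b₂, hb₂, rfl⟩ := mem_doubleCoset.mp hgn
  obtain ⟨u, hu, h, hh, rfl⟩ := twB_decomp hG h3 h4 h19 f hb₂
  refine ⟨b₁, hb₁, n * h, mul_mem (twN0_le_twN hG h3 h4 h19 f hn) (twH_le_twN hG h3 h4 h19 f hh),
    h⁻¹ * u * h, ?_, by group⟩
  have := (Subgroup.mem_set_normalizer_iff.mp
    (twH_le_normalizer hG h3 h4 h19 f (inv_mem hh)) u).mp hu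
  rwa [inv_inv] at this

/-- `B¹` normalises `U¹`. -/
theorem twB_le_normalizer :
    twB hG h3 h4 h19 f ≤ Subgroup.normalizer (twU hG h3 h4 h19 f : Set (GL D.Idx K)) :=
  sup_le Subgroup.le_normalizer (twH_le_normalizer hG h3 h4 h19 f)

include hT in
theorem twU_inf_twV : twU hG h3 h4 h19 f ⊓ twV hG h3 h4 h19 f = ⊥ := by
  rw [eq_bot_iff, ← borel_inf_negUnipotent (F := K) hG hT]
  rintro z ⟨hz1, hz2⟩
  exact ⟨(le_sup_left : D.posUnipotent K ≤ D.borelSubgroup K) hz1.1, hz2.1⟩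

include hT h5 h6 h7 h8 h9 h18 h20 hW hwc hw0 in
/-- Up to an inner automorphism, an automorphism of the twisted group stabilises `U` and `V`. -/
theorem tw_exists_normalize [Fintype K] (p : ℕ) [Fact p.Prime]
    (hSyl : ∃ P : Sylow p ↥(twGroup hG h3 h4 h19 f),
      (P : Subgroup ↥(twGroup hG h3 h4 h19 f)) =
        (D.posUnipotent K).subgroupOf (twGroup hG h3 h4 h19 f))
    (θ : ↥(twGroup hG h3 h4 h19 f) ≃* ↥(twGroup hG h3 h4 h19 f)) :
    ∃ x : ↥(twGroup hG h3 h4 h19 f),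
      SMapsOnto (θ.trans (MulAut.conj x)) (D.posUnipotent K) (D.posUnipotent K) ∧
      SMapsOnto (θ.trans (MulAut.conj x)) (D.negUnipotent K) (D.negUnipotent K) := by
  classical
  haveI : Finite (GL D.Idx K) := inferInstance
  obtain ⟨PU, hPU⟩ := hSyl
  obtain ⟨G1, hG1def⟩ : ∃ G1 : Subgroup (GL D.Idx K), G1 = twGroup hG h3 h4 h19 f := ⟨_, rfl⟩
  have hn₀G : (nWordGL hG (wcls.flatMap (clsWord ρ)) : GL D.Idx K) ∈ twGroup hG h3 h4 h19 f :=
    nWordGL_flatMap_mem hG h3 h4 h19 f hwc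
  have hUV := nWordGL_conj_pos_eq_neg (K := K) hG hT hw0
  have memU : ∀ z : ↥(twGroup hG h3 h4 h19 f),
      z ∈ (D.posUnipotent K).subgroupOf (twGroup hG h3 h4 h19 f) ↔
        (z : GL D.Idx K) ∈ twU hG h3 h4 h19 f := by
    intro z
    rw [Subgroup.mem_subgroupOf, mem_twU]
    exact ⟨fun h => ⟨h, z.2⟩, fun h => h.1⟩
  have memV : ∀ z : ↥(twGroup hG h3 h4 h19 f),
      z ∈ (D.negUnipotent K).subgroupOf (twGroup hG h3 h4 h19 f) ↔
        (z : GL D.Idx K) ∈ twV hG h3 h4 h19 f := by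
    intro z
    rw [Subgroup.mem_subgroupOf, mem_twV]
    exact ⟨fun h => ⟨h, z.2⟩, fun h => h.1⟩
  have memMap : ∀ (g z : ↥(twGroup hG h3 h4 h19 f)),
      z ∈ ((D.posUnipotent K).subgroupOf (twGroup hG h3 h4 h19 f)).map
          (MulAut.conj g).toMonoidHom ↔
        (z : GL D.Idx K) ∈ (twU hG h3 h4 h19 f).map (MulAut.conj (g : GL D.Idx K)).toMonoidHom := by
    intro g z
    rw [mem_map_conj, mem_map_conj, memU]
    rfl
  obtain ⟨x, hxU, hxV⟩ := exists_normalize_abstract p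
    ((D.posUnipotent K).subgroupOf (twGroup hG h3 h4 h19 f))
    ((D.negUnipotent K).subgroupOf (twGroup hG h3 h4 h19 f)) PU hPU
    (by
      rw [eq_bot_iff]
      rintro z ⟨hz1, hz2⟩
      rw [Subgroup.mem_bot]
      have : (z : GL D.Idx K) ∈ (⊥ : Subgroup (GL D.Idx K)) := by
        rw [← twU_inf_twV hG hT h3 h4 h19 f]
        exact ⟨(memU z).mp hz1, (memV z).mp hz2⟩
      exact Subtype.ext (Subgroup.mem_bot.mp this))
    ⟨nWordGL hG (wcls.flatMap (clsWord ρ)), hn₀G⟩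
    (by
      ext z
      rw [memMap, memV, twU_map_conj_n0 hG hT h3 h4 h19 f hwc hw0])
    {n | (n : GL D.Idx K) ∈ twN hG h3 h4 h19 f}
    (by
      intro g
      obtain ⟨b, hb, n, hn, u, hu, e⟩ :=
        tw_bruhat hG hT h3 h4 h5 h6 h7 h8 h9 h18 h19 h20 f g.2
      have hbG := twB_le_twGroup hG h3 h4 h19 f hb
      have hnG := ((mem_twN hG h3 h4 h19 f).mp hn).2
      have huG := ((mem_twU hG h3 h4 h19 f).mp hu).2
      refine ⟨⟨b, hbG⟩, ?_, ⟨n, hnG⟩, hn, ⟨u, huG⟩, (memU _).mpr hu, Subtype.ext e⟩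
      rw [Subgroup.mem_set_normalizer_iff]
      intro z
      rw [SetLike.mem_coe, SetLike.mem_coe, memU, memU]
      exact Subgroup.mem_set_normalizer_iff.mp (twB_le_normalizer hG h3 h4 h19 f hb) z)
    (by
      intro n hn hdisj
      have hn' : ((n⁻¹ : ↥(twGroup hG h3 h4 h19 f)) : GL D.Idx K) ∈ twN hG h3 h4 h19 f :=
        inv_mem hn
      have hd : twU hG h3 h4 h19 f ⊓ (twU hG h3 h4 h19 f).map
          (MulAut.conj ((n⁻¹ : ↥(twGroup hG h3 h4 h19 f)) : GL D.Idx K)).toMonoidHom = ⊥ := by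
        rw [eq_bot_iff]
        rintro z ⟨hz1, hz2⟩
        rw [Subgroup.mem_bot]
        have hzG := ((mem_twU hG h3 h4 h19 f).mp hz1).2
        have : (⟨z, hzG⟩ : ↥(twGroup hG h3 h4 h19 f)) ∈ (⊥ : Subgroup ↥(twGroup hG h3 h4 h19 f)) := by
          rw [← hdisj]
          exact ⟨(memU _).mpr hz1, (memMap _ _).mpr hz2⟩
        exact congrArg Subtype.val (Subgroup.mem_bot.mp this)
      have key := tw_conj_eq_neg_of_inf_eq_bot hG hT h3 h4 h5 h6 h7 h8 h9 h18 h19 h20 f hW hwc hw0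
        hn' hd
      ext z
      rw [memMap, memV, key])
    θ
  exact ⟨x, fun y => hxU y, fun y => hxV y⟩

end tw

end Cfsg.Agent.Helper7.Chev
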