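import Mathlib
import Cfsg.Agent.Helper7.TwAutB
import Cfsg.Agent.Helper7.BNAut
import Cfsg.Agent.Helper7.ChevAutB
import Cfsg.Agent.Helper7.SL2Pair

set_option autoImplicit false
set_option linter.unusedSectionVars false
set_option linter.unusedVariables false
set_option linter.style.haveILetI false

/-!
Automorphisms of a twisted group over a finite field, part C: an automorphism stabilising `U` and `V` permutes
the subgroups `X_{-S}` of the classes `S` of fundamental roots.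
-/

namespace Cfsg.Agent.Helper7.Chev

open Cfsg Cfsg.Lie Matrix DoubleCoset

variable {D : ChevalleyDatum} {K : Type*} [Field K]

section tw

variable (hG : Good2 D) (hT : T0 D) (h3 : (tabOf D).T3) (h4 : (tabOf D).T4 60) (h5 : (tabOf D).T5)
  (h6 : (tabOf D).T6) (h7 : (tabOf D).T7) (h8 : (tabOf D).T8) (h9 : (tabOf D).T9)
  {ρ ρ' σ σ' : ℕ → ℕ} {ε : ℕ → ℤ} (h18 : T18 D ρ ρ' σ σ' ε) {cls : List (ℕ × ℕ)}
  (h19 : T19 D ρ σ cls) (h20 : (tabOf D).T20 ρ cls) (f : K ≃+* K)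

/-- `X_S¹`: the elements `x_S(t)` with admissible parameters. -/
def twX {c : ℕ × ℕ} (hc : c ∈ cls) : Subgroup (GL D.Idx K) where
  carrier := {g | ∃ t : K, Adm f c.2 t ∧ g = clsHom hG h3 h4 h19 f hc (upperSL t)}
  mul_mem' := by
    rintro _ _ ⟨t, ht, rfl⟩ ⟨u, hu, rfl⟩
    exact ⟨t + u, ht.add hu, by rw [sl2p_upper_add, map_mul]⟩
  one_mem' := ⟨0, Adm.zero, by rw [sl2p_upper_zero, map_one]⟩
  inv_mem' := by
    rintro _ ⟨t, ht, rfl⟩
    exact ⟨-t, ht.neg, by rw [sl2p_upper_neg, map_inv]⟩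

/-- `X_{-S}¹`: the elements `x_{-S}(t)` with admissible parameters. -/
def twY {c : ℕ × ℕ} (hc : c ∈ cls) : Subgroup (GL D.Idx K) where
  carrier := {g | ∃ t : K, Adm f c.2 t ∧ g = clsHom hG h3 h4 h19 f hc (lowerSL t)}
  mul_mem' := by
    rintro _ _ ⟨t, ht, rfl⟩ ⟨u, hu, rfl⟩
    exact ⟨t + u, ht.add hu, by rw [sl2p_lower_add, map_mul]⟩
  one_mem' := ⟨0, Adm.zero, by rw [sl2p_lower_zero, map_one]⟩
  inv_mem' := by
    rintro _ ⟨t, ht, rfl⟩
    exact ⟨-t, ht.neg, by rw [sl2p_lower_neg, map_inv]⟩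

theorem mem_twX {c : ℕ × ℕ} (hc : c ∈ cls) {g : GL D.Idx K} :
    g ∈ twX hG h3 h4 h19 f hc ↔
      ∃ t : K, Adm f c.2 t ∧ g = clsHom hG h3 h4 h19 f hc (upperSL t) := Iff.rfl

theorem mem_twY {c : ℕ × ℕ} (hc : c ∈ cls) {g : GL D.Idx K} :
    g ∈ twY hG h3 h4 h19 f hc ↔
      ∃ t : K, Adm f c.2 t ∧ g = clsHom hG h3 h4 h19 f hc (lowerSL t) := Iff.rfl

include hT in
theorem twX_le_twU {c : ℕ × ℕ} (hc : c ∈ cls) :
    twX hG h3 h4 h19 f hc ≤ twU hG h3 h4 h19 f := by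
  rintro _ ⟨t, ht, rfl⟩
  exact (mem_twU hG h3 h4 h19 f).mpr
    ⟨clsHom_upper_mem hG hT h3 h4 h19 f hc t, upper_mem_twGroup hG h3 h4 h19 f hc ht⟩

include hT in
theorem twY_le_twV {c : ℕ × ℕ} (hc : c ∈ cls) :
    twY hG h3 h4 h19 f hc ≤ twV hG h3 h4 h19 f := by
  rintro _ ⟨t, ht, rfl⟩
  exact (mem_twV hG h3 h4 h19 f).mpr
    ⟨clsHom_lower_mem hG hT h3 h4 h19 f hc t, lower_mem_twGroup hG h3 h4 h19 f hc ht⟩

/-- `x_{-S}(t) = n_S x_S(-t) n_S⁻¹`. -/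
theorem clsHom_lower_eq_conj {c : ℕ × ℕ} (hc : c ∈ cls) (t : K) :
    clsHom hG h3 h4 h19 f hc (lowerSL t) =
      clsHom hG h3 h4 h19 f hc antiSL * clsHom hG h3 h4 h19 f hc (upperSL (-t)) *
        (clsHom hG h3 h4 h19 f hc antiSL)⁻¹ := by
  rw [lowerSL_eq_conj, map_mul, map_mul, map_inv]

include hT h7 h8 h20 in
/-- The parameter of `x_{-S}(t)` is determined. -/
theorem clsHom_lower_injective {c : ℕ × ℕ} (hc : c ∈ cls) {t₁ t₂ : K}
    (e : clsHom hG h3 h4 h19 f hc (lowerSL t₁) = clsHom hG h3 h4 h19 f hc (lowerSL t₂)) :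
    t₁ = t₂ := by
  rw [clsHom_lower_eq_conj, clsHom_lower_eq_conj] at e
  have e' := mul_left_cancel (mul_right_cancel e)
  have := clsHom_upper_injective hG hT h3 h4 h7 h8 h19 h20 f hc e'
  exact neg_injective this

/-- `n_S` conjugates `X_S¹` onto `X_{-S}¹`. -/
theorem twX_map_conj_ncls {c : ℕ × ℕ} (hc : c ∈ cls) :
    (twX hG h3 h4 h19 f hc).map
        (MulAut.conj (clsHom hG h3 h4 h19 f hc antiSL)).toMonoidHom =
      twY hG h3 h4 h19 f hc := by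
  ext z
  constructor
  · rintro ⟨_, ⟨t, ht, rfl⟩, rfl⟩
    refine ⟨-t, ht.neg, ?_⟩
    rw [clsHom_lower_eq_conj, neg_neg]
    rfl
  · rintro ⟨t, ht, rfl⟩
    refine ⟨clsHom hG h3 h4 h19 f hc (upperSL (-t)), ⟨-t, ht.neg, rfl⟩, ?_⟩
    rw [clsHom_lower_eq_conj]
    rfl

/-! ### The normaliser of `U¹` -/

include hT h5 h6 h7 h8 h9 h18 h20 in
/-- The normaliser of `U¹` in the twisted group is `B¹`. -/
theorem tw_normalizer_inf_le :
    Subgroup.normalizer (twU hG h3 h4 h19 f : Set (GL D.Idx K)) ⊓ twGroup hG h3 h4 h19 f ≤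
      twB hG h3 h4 h19 f := by
  obtain ⟨P, hPB, hPN, hPS⟩ := exists_bnPair_tw hG hT h3 h4 h5 h6 h7 h8 h9 h18 h19 h20 f
  have hBeq := borel_inf_twGroup hG hT h3 h4 h5 h6 h7 h8 h9 h18 h19 h20 f
  obtain ⟨M, hM⟩ : ∃ M : Subgroup (GL D.Idx K),
      M = Subgroup.normalizer (twU hG h3 h4 h19 f : Set (GL D.Idx K)) ⊓ twGroup hG h3 h4 h19 f :=
    ⟨_, rfl⟩
  rw [← hM]
  have hBM : P.B ≤ M.subgroupOf (twGroup hG h3 h4 h19 f) := by
    rw [hPB]
    intro b hb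
    rw [Subgroup.mem_subgroupOf] at hb ⊢
    rw [hBeq] at hb
    rw [hM]
    exact ⟨twB_le_normalizer hG h3 h4 h19 f hb, b.2⟩
  have hpar := BN.eq_parabolic_of_le P (M.subgroupOf (twGroup hG h3 h4 h19 f)) hBM
  intro g hg
  have hgG : g ∈ twGroup hG h3 h4 h19 f := by rw [hM] at hg; exact hg.2
  have hg' : (⟨g, hgG⟩ : ↥(twGroup hG h3 h4 h19 f)) ∈
      M.subgroupOf (twGroup hG h3 h4 h19 f) := hg
  rw [hpar] at hg'
  have hle : P.parabolic (P.S ∩ ((M.subgroupOf (twGroup hG h3 h4 h19 f) :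
      Subgroup ↥(twGroup hG h3 h4 h19 f)) : Set ↥(twGroup hG h3 h4 h19 f))) ≤
      (twB hG h3 h4 h19 f).subgroupOf (twGroup hG h3 h4 h19 f) := by
    unfold BNPair.parabolic
    apply sup_le
    · rw [hPB, hBeq]
    · rw [Subgroup.closure_le]
      rintro s ⟨hsS, hsM⟩
      exfalso
      rw [hPS] at hsS
      obtain ⟨c, hc, hs⟩ := hsS
      have hsN : (s : GL D.Idx K) ∈
          Subgroup.normalizer (twU hG h3 h4 h19 f : Set (GL D.Idx K)) := by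
        have : (s : GL D.Idx K) ∈ M := hsM
        rw [hM] at this
        exact this.1
      have hx : clsHom hG h3 h4 h19 f hc (upperSL 1) ∈ twU hG h3 h4 h19 f :=
        twX_le_twU hG hT h3 h4 h19 f hc ⟨1, Adm.one, rfl⟩
      have hcj := (Subgroup.mem_set_normalizer_iff.mp hsN _).mp hx
      rw [hs] at hcj
      exact ncls_conj_not_mem_borel hG hT h3 h4 h7 h8 h19 h20 f hc
        (twB_le_borel hG h3 h4 h19 f (twU_le_twB hG h3 h4 h19 f hcj))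
  exact hle hg'

theorem sMapsOnto_twU {θ : ↥(twGroup hG h3 h4 h19 f) ≃* ↥(twGroup hG h3 h4 h19 f)}
    (hU : SMapsOnto θ (D.posUnipotent K) (D.posUnipotent K)) :
    SMapsOnto θ (twU hG h3 h4 h19 f) (twU hG h3 h4 h19 f) := by
  intro x
  rw [mem_twU, mem_twU]
  exact ⟨fun h => ⟨(hU x).mp h.1, (θ x).2⟩, fun h => ⟨(hU x).mpr h.1, x.2⟩⟩

include hT h5 h6 h7 h8 h9 h18 h20 in
/-- An automorphism stabilising `U` stabilises `B`. -/
theorem SMapsOnto.twBorel {θ : ↥(twGroup hG h3 h4 h19 f) ≃* ↥(twGroup hG h3 h4 h19 f)}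
    (hU : SMapsOnto θ (D.posUnipotent K) (D.posUnipotent K)) :
    SMapsOnto θ (twB hG h3 h4 h19 f) (twB hG h3 h4 h19 f) := by
  have hUG : twU hG h3 h4 h19 f ≤ twGroup hG h3 h4 h19 f := inf_le_right
  have heq : Subgroup.normalizer (twU hG h3 h4 h19 f : Set (GL D.Idx K)) ⊓
      twGroup hG h3 h4 h19 f = twB hG h3 h4 h19 f :=
    le_antisymm (tw_normalizer_inf_le hG hT h3 h4 h5 h6 h7 h8 h9 h18 h19 h20 f)
      (le_inf (twB_le_normalizer hG h3 h4 h19 f) (twB_le_twGroup hG h3 h4 h19 f))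
  have := (sMapsOnto_twU hG h3 h4 h19 f hU).normalizer hUG hUG
  rwa [heq] at this

/-! ### The cells of the minimal parabolic subgroups -/

include hT h5 h6 h7 h8 h18 h20 in
/-- An element of `V` in the double coset `B¹ n_S B¹` lies in `X_{-S}¹`. -/
theorem mem_twY_of_mem_cell {c : ℕ × ℕ} (hc : c ∈ cls) {v b₁ b₂ : GL D.Idx K}
    (hv : v ∈ D.negUnipotent K) (hb₁ : b₁ ∈ twB hG h3 h4 h19 f) (hb₂ : b₂ ∈ twB hG h3 h4 h19 f)
    (e : v = b₁ * clsHom hG h3 h4 h19 f hc antiSL * b₂) : v ∈ twY hG h3 h4 h19 f hc := by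
  have hG1 := hG.toGood1
  have hBV := borel_inf_negUnipotent (F := K) hG hT
  have hBB := twB_le_borel hG h3 h4 h19 f (K := K)
  obtain ⟨nc, hncdef⟩ : ∃ nc : GL D.Idx K, nc = clsHom hG h3 h4 h19 f hc antiSL := ⟨_, rfl⟩
  have hncG : nc ∈ twGroup hG h3 h4 h19 f := by rw [hncdef]; exact anti_mem_twGroup hG h3 h4 h19 f hc
  have hncN : nc ∈ D.monomialSubgroup K := by rw [hncdef]; exact ncls_mem_monomial hG h3 h4 h19 f hc
  -- decompose `b₂ = h'⁻¹ a' x_S(-t)`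
  obtain ⟨u', hu', hu'G, t, ht, h', hh', e₂⟩ :=
    twB_decomp_cls hG hT h3 h4 h5 h7 h8 h18 h19 h20 f hc (inv_mem hb₂)
  obtain ⟨x, hxdef⟩ : ∃ x : GL D.Idx K, x = clsHom hG h3 h4 h19 f hc (upperSL (-t)) := ⟨_, rfl⟩
  have hxinv : (clsHom hG h3 h4 h19 f hc (upperSL t))⁻¹ = x := by
    rw [hxdef, sl2p_upper_neg, map_inv]
  have hxG : x ∈ twGroup hG h3 h4 h19 f := by
    rw [hxdef]; exact upper_mem_twGroup hG h3 h4 h19 f hc ht.neg
  have hxnorm : x ∈ Subgroup.normalizer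
      (Subgroup.closure (upGenS D K (InCls D ρ c)) : Set (GL D.Idx K)) := by
    rw [hxdef, clsHom_upper]
    exact xiHom_mem_normalizer hG hT h3 h4 h5 h19 h20 hc _
  have hb₂e : b₂ = h'⁻¹ * (x * u'⁻¹ * x⁻¹) * x := by
    have : b₂ = (b₂⁻¹)⁻¹ := by rw [inv_inv]
    rw [this, e₂, ← hxinv]; group
  have ha' : x * u'⁻¹ * x⁻¹ ∈ Subgroup.closure (upGenS D K (InCls D ρ c)) :=
    (Subgroup.mem_set_normalizer_iff.mp hxnorm _).mp (inv_mem hu')
  have ha'G : x * u'⁻¹ * x⁻¹ ∈ twGroup hG h3 h4 h19 f :=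
    mul_mem (mul_mem hxG (inv_mem hu'G)) (inv_mem hxG)
  obtain ⟨b, hbdef⟩ : ∃ b : GL D.Idx K,
      b = b₁ * (nc * h'⁻¹ * nc⁻¹) * (nc * (x * u'⁻¹ * x⁻¹) * nc⁻¹) := ⟨_, rfl⟩
  have hbB : b ∈ twB hG h3 h4 h19 f := by
    rw [hbdef]
    refine mul_mem (mul_mem hb₁ (twH_le_twB hG h3 h4 h19 f ?_)) (twU_le_twB hG h3 h4 h19 f ?_)
    · exact conj_mem_twH hG h3 h4 h19 f hncN hncG (inv_mem hh')
    · rw [hncdef]
      exact ncls_conj_mem_twU hG hT h3 h4 h6 h19 f hc ha' ha'G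
  have ev : v = b * nc * x := by
    rw [e, hb₂e, hbdef, ← hncdef]; group
  by_cases hs : t = 0
  · exfalso
    have hx1 : x = 1 := by rw [hxdef, hs, neg_zero, sl2p_upper_zero, map_one]
    rw [hx1, mul_one] at ev
    have hx₁V : clsHom hG h3 h4 h19 f hc (lowerSL 1) ∈ D.negUnipotent K :=
      clsHom_lower_mem hG hT h3 h4 h19 f hc 1
    have hconj : nc * clsHom hG h3 h4 h19 f hc (lowerSL 1) * nc⁻¹ =
        clsHom hG h3 h4 h19 f hc (upperSL (-1)) := by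
      rw [hncdef, ← map_mul, antiSL_mul_lower_one, map_mul, mul_inv_cancel_right]
    have h1 : v * clsHom hG h3 h4 h19 f hc (lowerSL 1) * v⁻¹ ∈ D.borelSubgroup K := by
      have : v * clsHom hG h3 h4 h19 f hc (lowerSL 1) * v⁻¹ =
          b * (nc * clsHom hG h3 h4 h19 f hc (lowerSL 1) * nc⁻¹) * b⁻¹ := by
        rw [ev]; group
      rw [this, hconj]
      exact mul_mem (mul_mem (hBB hbB)
        (Subgroup.mem_sup_left (clsHom_upper_mem hG hT h3 h4 h19 f hc _))) (inv_mem (hBB hbB))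
    have h2 : v * clsHom hG h3 h4 h19 f hc (lowerSL 1) * v⁻¹ ∈ D.negUnipotent K :=
      mul_mem (mul_mem hv hx₁V) (inv_mem hv)
    have h3' : v * clsHom hG h3 h4 h19 f hc (lowerSL 1) * v⁻¹ ∈ (⊥ : Subgroup (GL D.Idx K)) := by
      rw [← hBV]; exact ⟨h1, h2⟩
    rw [Subgroup.mem_bot, mul_inv_eq_one, mul_eq_left] at h3'
    have h0 : clsHom hG h3 h4 h19 f hc (lowerSL 1) = clsHom hG h3 h4 h19 f hc (lowerSL 0) := by
      rw [h3', sl2p_lower_zero, map_one]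
    exact one_ne_zero (clsHom_lower_injective hG hT h3 h4 h7 h8 h19 h20 f hc h0)
  · have hs' : -t ≠ 0 := neg_ne_zero.mpr hs
    have hs'' : (-t)⁻¹ ≠ 0 := inv_ne_zero hs'
    have hlow : clsHom hG h3 h4 h19 f hc (lowerSL (-t)⁻¹) =
        x * clsHom hG h3 h4 h19 f hc (diagSL (-(-t)) (neg_ne_zero.mpr hs')) * nc * x := by
      have := congrArg (clsHom hG h3 h4 h19 f hc) (lowerSL_eq hs'')
      simp only [map_mul, inv_inv] at this
      rw [this, hxdef, hncdef]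
    have hhB : clsHom hG h3 h4 h19 f hc (diagSL (-(-t)) (neg_ne_zero.mpr hs')) ∈
        D.borelSubgroup K :=
      Subgroup.mem_sup_right (clsHom_diag_mem hG h3 h4 h19 f hc _)
    have hxB : x ∈ D.borelSubgroup K := by
      rw [hxdef]
      exact Subgroup.mem_sup_left (clsHom_upper_mem hG hT h3 h4 h19 f hc _)
    have hxV : clsHom hG h3 h4 h19 f hc (lowerSL (-t)⁻¹) ∈ D.negUnipotent K :=
      clsHom_lower_mem hG hT h3 h4 h19 f hc _
    have h1 : v * (clsHom hG h3 h4 h19 f hc (lowerSL (-t)⁻¹))⁻¹ ∈ D.borelSubgroup K := by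
      have : v * (clsHom hG h3 h4 h19 f hc (lowerSL (-t)⁻¹))⁻¹ =
          b * (clsHom hG h3 h4 h19 f hc (diagSL (-(-t)) (neg_ne_zero.mpr hs')))⁻¹ * x⁻¹ := by
        rw [ev, hlow]; group
      rw [this]
      exact mul_mem (mul_mem (hBB hbB) (inv_mem hhB)) (inv_mem hxB)
    have h2 : v * (clsHom hG h3 h4 h19 f hc (lowerSL (-t)⁻¹))⁻¹ ∈ D.negUnipotent K :=
      mul_mem hv (inv_mem hxV)
    have h3' : v * (clsHom hG h3 h4 h19 f hc (lowerSL (-t)⁻¹))⁻¹ ∈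
        (⊥ : Subgroup (GL D.Idx K)) := by
      rw [← hBV]; exact ⟨h1, h2⟩
    rw [Subgroup.mem_bot, mul_inv_eq_one] at h3'
    exact ⟨(-t)⁻¹, ht.neg.inv, h3'⟩

end tw

end Cfsg.Agent.Helper7.Chev
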