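import Mathlib
import Cfsg.Agent.Helper7.TwAutC
import Cfsg.Agent.Helper7.ChevAutC
import Cfsg.Agent.Helper7.ChevTw14

set_option autoImplicit false
set_option linter.unusedSectionVars false
set_option linter.unusedVariables false
set_option linter.style.haveILetI false

/-!
Automorphisms of a twisted group over a finite field, part D: an automorphism stabilising `U` and `V` permutes
the subgroups `X_S¹` and `X_{-S}¹` of the classes `S` of fundamental roots, in the same way.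
-/

namespace Cfsg.Agent.Helper7.Chev

open Cfsg Cfsg.Lie Matrix DoubleCoset

variable {D : ChevalleyDatum} {K : Type*} [Field K]

/-- An automorphism mapping `A` onto `A'` gives a bijection between them. -/
theorem SMapsOnto.card_eq {Γ : Type*} [Group Γ] {G1 : Subgroup Γ} {θ : ↥G1 ≃* ↥G1}
    {A A' : Subgroup Γ} (hA : A ≤ G1) (hA' : A' ≤ G1) (h : SMapsOnto θ A A') :
    Nat.card A = Nat.card A' := by
  apply Nat.card_congr
  refine ⟨fun a => ⟨θ ⟨a.1, hA a.2⟩, (h _).mp a.2⟩,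
    fun a => ⟨θ.symm ⟨a.1, hA' a.2⟩, (h.symm _).mp a.2⟩, ?_, ?_⟩
  · intro a
    apply Subtype.ext
    simp
  · intro a
    apply Subtype.ext
    simp

section tw

variable (hG : Good2 D) (hT : T0 D) (h3 : (tabOf D).T3) (h4 : (tabOf D).T4 60) (h5 : (tabOf D).T5)
  (h6 : (tabOf D).T6) (h7 : (tabOf D).T7) (h8 : (tabOf D).T8) (h9 : (tabOf D).T9)
  {ρ ρ' σ σ' : ℕ → ℕ} {ε : ℕ → ℤ} (h18 : T18 D ρ ρ' σ σ' ε) {cls : List (ℕ × ℕ)}
  (h19 : T19 D ρ σ cls) (h20 : (tabOf D).T20 ρ cls) (f : K ≃+* K)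

include hT h5 h6 h7 h8 h9 h18 h20 in
/-- An automorphism stabilising `U` and `V` permutes the subgroups `X_{-S}¹`. -/
theorem exists_neg_cls_map {θ : ↥(twGroup hG h3 h4 h19 f) ≃* ↥(twGroup hG h3 h4 h19 f)}
    (hU : SMapsOnto θ (D.posUnipotent K) (D.posUnipotent K))
    (hV : SMapsOnto θ (D.negUnipotent K) (D.negUnipotent K)) {c : ℕ × ℕ} (hc : c ∈ cls) :
    ∃ (c' : ℕ × ℕ) (hc' : c' ∈ cls),
      SMapsOnto θ (twY hG h3 h4 h19 f hc) (twY hG h3 h4 h19 f hc') := by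
  have hBV := borel_inf_negUnipotent (F := K) hG hT
  have hBeq := borel_inf_twGroup hG hT h3 h4 h5 h6 h7 h8 h9 h18 h19 h20 f
  have hB := SMapsOnto.twBorel hG hT h3 h4 h5 h6 h7 h8 h9 h18 h19 h20 f hU
  obtain ⟨P, hPB, hPN, hPS⟩ := exists_bnPair_tw hG hT h3 h4 h5 h6 h7 h8 h9 h18 h19 h20 f
  have memB : ∀ x : ↥(twGroup hG h3 h4 h19 f), x ∈ P.B ↔ (x : GL D.Idx K) ∈ twB hG h3 h4 h19 f := by
    intro x
    rw [hPB, Subgroup.mem_subgroupOf, hBeq]
  have hθB : ∀ x, x ∈ P.B ↔ θ x ∈ P.B := fun x => by rw [memB, memB]; exact hB x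
  have hncG : ∀ {a : ℕ × ℕ} (ha : a ∈ cls),
      clsHom hG h3 h4 h19 f ha antiSL ∈ twGroup hG h3 h4 h19 f :=
    fun ha => anti_mem_twGroup hG h3 h4 h19 f ha
  have hsS : ∀ {a : ℕ × ℕ} (ha : a ∈ cls),
      (⟨clsHom hG h3 h4 h19 f ha antiSL, hncG ha⟩ : ↥(twGroup hG h3 h4 h19 f)) ∈ P.S := by
    intro a ha
    rw [hPS]
    exact ⟨a, ha, rfl⟩
  have key : ∀ (θ' : ↥(twGroup hG h3 h4 h19 f) ≃* ↥(twGroup hG h3 h4 h19 f)),
      SMapsOnto θ' (D.negUnipotent K) (D.negUnipotent K) → ∀ {a b : ℕ × ℕ} (ha : a ∈ cls)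
      (hb : b ∈ cls),
      (∀ x, x ∈ P.parabolic {(⟨clsHom hG h3 h4 h19 f ha antiSL, hncG ha⟩ :
          ↥(twGroup hG h3 h4 h19 f))} ↔
        θ' x ∈ P.parabolic {(⟨clsHom hG h3 h4 h19 f hb antiSL, hncG hb⟩ :
          ↥(twGroup hG h3 h4 h19 f))}) →
      ∀ x : ↥(twGroup hG h3 h4 h19 f), (x : GL D.Idx K) ∈ twY hG h3 h4 h19 f ha →
        ((θ' x : ↥(twGroup hG h3 h4 h19 f)) : GL D.Idx K) ∈ twY hG h3 h4 h19 f hb := by
    intro θ' hV' a b ha hb hpar x hx
    obtain ⟨t, ht, hxt⟩ := hx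
    have hxV : (x : GL D.Idx K) ∈ D.negUnipotent K := by
      rw [hxt]; exact clsHom_lower_mem hG hT h3 h4 h19 f ha t
    have hxP : x ∈ P.parabolic {(⟨clsHom hG h3 h4 h19 f ha antiSL, hncG ha⟩ :
        ↥(twGroup hG h3 h4 h19 f))} := by
      by_cases ht0 : t = 0
      · have : x = 1 := by
          apply Subtype.ext
          rw [hxt, ht0, sl2p_lower_zero, map_one]; rfl
        rw [this]; exact one_mem _
      · have ht' : t⁻¹ ≠ 0 := inv_ne_zero ht0
        have hlow : clsHom hG h3 h4 h19 f ha (lowerSL t) =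
            clsHom hG h3 h4 h19 f ha (upperSL t⁻¹) *
              clsHom hG h3 h4 h19 f ha (diagSL (-t⁻¹) (neg_ne_zero.mpr ht')) *
              clsHom hG h3 h4 h19 f ha antiSL * clsHom hG h3 h4 h19 f ha (upperSL t⁻¹) := by
          rw [lowerSL_eq ht0]
          simp only [map_mul]
        have hxu : clsHom hG h3 h4 h19 f ha (upperSL t⁻¹) ∈ twGroup hG h3 h4 h19 f :=
          upper_mem_twGroup hG h3 h4 h19 f ha ht.inv
        have hhd : clsHom hG h3 h4 h19 f ha (diagSL (-t⁻¹) (neg_ne_zero.mpr ht')) ∈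
            twGroup hG h3 h4 h19 f :=
          diag_mem_twGroup hG h3 h4 h19 f ha (neg_ne_zero.mpr ht') ht.inv.neg
        have hxuB : clsHom hG h3 h4 h19 f ha (upperSL t⁻¹) ∈ twB hG h3 h4 h19 f :=
          twU_le_twB hG h3 h4 h19 f (twX_le_twU hG hT h3 h4 h19 f ha ⟨_, ht.inv, rfl⟩)
        have hhdB : clsHom hG h3 h4 h19 f ha (diagSL (-t⁻¹) (neg_ne_zero.mpr ht')) ∈
            twB hG h3 h4 h19 f :=
          twH_le_twB hG h3 h4 h19 f ((mem_twH hG h3 h4 h19 f).mpr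
            ⟨clsHom_diag_mem hG h3 h4 h19 f ha _, hhd⟩)
        have e : x = (⟨clsHom hG h3 h4 h19 f ha (upperSL t⁻¹) *
            clsHom hG h3 h4 h19 f ha (diagSL (-t⁻¹) (neg_ne_zero.mpr ht')),
            mul_mem hxu hhd⟩ : ↥(twGroup hG h3 h4 h19 f)) *
            ⟨clsHom hG h3 h4 h19 f ha antiSL, hncG ha⟩ *
            ⟨clsHom hG h3 h4 h19 f ha (upperSL t⁻¹), hxu⟩ := by
          apply Subtype.ext
          rw [hxt, hlow]
          rfl
        rw [e]
        refine mul_mem (mul_mem (BN.B_le_parabolic P _ ?_) (BN.mem_parabolic_of_mem P rfl))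
          (BN.B_le_parabolic P _ ?_)
        · rw [memB]; exact mul_mem hxuB hhdB
        · rw [memB]; exact hxuB
    have hyV := (hV' x).mp hxV
    have hyP := (hpar x).mp hxP
    rcases (BN.mem_parabolic_singleton P (hsS hb) _).mp hyP with hyB | hyC
    · rw [memB] at hyB
      have : ((θ' x : ↥(twGroup hG h3 h4 h19 f)) : GL D.Idx K) ∈
          (⊥ : Subgroup (GL D.Idx K)) := by
        rw [← hBV]; exact ⟨twB_le_borel hG h3 h4 h19 f hyB, hyV⟩
      rw [Subgroup.mem_bot] at this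
      rw [this]; exact one_mem _
    · obtain ⟨b₁, hb₁, b₂, hb₂, e⟩ := (BN.mem_C P).mp hyC
      rw [memB] at hb₁ hb₂
      have e' : ((θ' x : ↥(twGroup hG h3 h4 h19 f)) : GL D.Idx K) =
          (b₁ : GL D.Idx K) * clsHom hG h3 h4 h19 f hb antiSL * (b₂ : GL D.Idx K) := by
        rw [e]; rfl
      exact mem_twY_of_mem_cell hG hT h3 h4 h5 h6 h7 h8 h18 h19 h20 f hb hyV hb₁ hb₂ e'
  obtain ⟨s', hs'S, hpar⟩ := BN.exists_parabolic_map P θ hθB (hsS hc)
  have hs'S2 := hs'S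
  rw [hPS] at hs'S2
  obtain ⟨c', hc', hs'c⟩ := hs'S2
  have hs'eq : s' = ⟨clsHom hG h3 h4 h19 f hc' antiSL, hncG hc'⟩ := Subtype.ext hs'c
  rw [hs'eq] at hpar
  refine ⟨c', hc', fun x => ⟨key θ hV hc hc' hpar x, fun hx => ?_⟩⟩
  have hpar' : ∀ y, y ∈ P.parabolic {(⟨clsHom hG h3 h4 h19 f hc' antiSL, hncG hc'⟩ :
      ↥(twGroup hG h3 h4 h19 f))} ↔ θ.symm y ∈
        P.parabolic {(⟨clsHom hG h3 h4 h19 f hc antiSL, hncG hc⟩ :
          ↥(twGroup hG h3 h4 h19 f))} := by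
    intro y
    rw [hpar (θ.symm y), θ.apply_symm_apply]
  have := key θ.symm hV.symm hc' hc hpar' (θ x) hx
  rwa [θ.symm_apply_apply] at this

/-! ### Fixed points in the subgroup generated by the root subgroups of a class -/

include hG hT h19 in
theorem rootGen_inCls_le_pos {c : ℕ × ℕ} (hc : c ∈ cls) :
    Subgroup.closure (rootGen D K (InCls D ρ c)) ≤ D.posUnipotent K := by
  have hG1 := hG.toGood1
  obtain ⟨_, _, hlt⟩ := h19.orbit c hc
  apply Subgroup.closure_mono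
  rintro g ⟨r, t, ⟨j, hj, rfl⟩, hg⟩
  exact ⟨_, t, (isPosRoot_iff hT (hG1.simple_lt (hlt j hj))).mpr (simple_pos hG1 hT (hlt j hj)), hg⟩

include hT h19 in
theorem rootGen_inCls_le_range {c : ℕ × ℕ} (hc : c ∈ cls) :
    Subgroup.closure (rootGen D K (InCls D ρ c)) ≤ (xiHom hG h3 h4 h19 hc (K := K)).range := by
  have hG1 := hG.toGood1
  obtain ⟨_, _, hlt⟩ := h19.orbit c hc
  rw [Subgroup.closure_le]
  rintro g ⟨r, t, ⟨j, hj, rfl⟩, hg⟩
  refine ⟨Multiplicative.ofAdd (Pi.single j t), ?_⟩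
  have hp : clsRoot D ρ c.1 j < D.nroots := hG1.simple_lt (hlt j hj)
  rw [xiHom_single hG h3 h4 h19 hc hj t, xGL'_of_lt hG1 hp]
  exact (eq_xGL hG1 hp hg).symm

include hT h5 h7 h8 h18 h20 in
/-- A fixed point of the twisting automorphism in the subgroup generated by the root subgroups of a class `S` is
an element `x_S(t)` with an admissible parameter. -/
theorem mem_twX_of_fixed {c : ℕ × ℕ} (hc : c ∈ cls) {g : GL D.Idx K}
    (hg : g ∈ Subgroup.closure (rootGen D K (InCls D ρ c))) (hfix : twAut h18 f g = g) :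
    g ∈ twX hG h3 h4 h19 f hc := by
  have hgU := rootGen_inCls_le_pos hG hT h19 hc hg
  have hgR := rootGen_inCls_le_range hG hT h3 h4 h19 hc hg
  obtain ⟨u', hu', t, ht, e⟩ :=
    exists_upS_mul_cls_of_fixed hG hT h3 h4 h5 h7 h8 h18 h19 h20 f hc hgU hfix
  have hxR : clsHom hG h3 h4 h19 f hc (upperSL t) ∈ (xiHom hG h3 h4 h19 hc (K := K)).range := by
    rw [clsHom_upper]; exact ⟨_, rfl⟩
  have hu'R : u' ∈ (xiHom hG h3 h4 h19 hc (K := K)).range := by
    have : u' = g * (clsHom hG h3 h4 h19 f hc (upperSL t))⁻¹ := by rw [e]; group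
    rw [this]
    exact mul_mem hgR (inv_mem hxR)
  have hu'1 := upS_inf_xi hG hT h3 h4 h7 h8 h19 h20 hc hu' hu'R
  rw [hu'1, one_mul] at e
  exact ⟨t, ht, e⟩

/-! ### Commutation of the subgroups of two classes -/

include h19 in
/-- Distinct classes are disjoint. -/
theorem cls_disjoint {c c' : ℕ × ℕ} (hc : c ∈ cls) (hc' : c' ∈ cls) (hne : c ≠ c') {j k : ℕ}
    (hj : j < c.2) (hk : k < c'.2) : ρ^[j] c.1 ≠ ρ^[k] c'.1 := by
  obtain ⟨hm, horb, hlt⟩ := h19.orbit c hc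
  obtain ⟨hm', horb', hlt'⟩ := h19.orbit c' hc'
  intro e
  have e1 : ρ^[c'.2 - k + j] c.1 = c'.1 := by
    rw [Function.iterate_add_apply, e, ← Function.iterate_add_apply]
    have : c'.2 - k + k = c'.2 := by omega
    rw [this, horb']
  have hper : Function.IsPeriodicPt ρ c.2 c.1 := horb
  have e2 := hper.iterate_mod_apply (c'.2 - k + j)
  rw [e1] at e2
  exact h19.disj c hc c' hc' hne _ (Nat.mod_lt _ hm) e2

include hT h19 in
/-- `x_S(t)` and `x_{-S'}(u)` commute for distinct classes `S`, `S'`. -/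
theorem cls_upper_lower_commute [Fintype K] (hSC : (tabOf D).SimpleComm) {c c' : ℕ × ℕ} (hc : c ∈ cls)
    (hc' : c' ∈ cls) (hne : c ≠ c') (t u : K) :
    Commute (clsHom hG h3 h4 h19 f hc (upperSL t)) (clsHom hG h3 h4 h19 f hc' (lowerSL u)) := by
  have hG1 := hG.toGood1
  have hG3 : Good3 D := { toGood2 := hG, t3 := h3, t4 := h4 }
  obtain ⟨_, _, hlt⟩ := h19.orbit c hc
  obtain ⟨_, _, hlt'⟩ := h19.orbit c' hc'
  rw [clsHom_apply, clsHom_apply]
  apply Commute.list_prod_left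
  intro x hx
  rw [List.mem_map] at hx
  obtain ⟨j, hj, rfl⟩ := hx
  rw [List.mem_range] at hj
  apply Commute.list_prod_right
  intro y hy
  rw [List.mem_map] at hy
  obtain ⟨k, hk, rfl⟩ := hy
  rw [List.mem_range] at hk
  unfold clsFactor
  rw [MonoidHom.comp_apply, MonoidHom.comp_apply, phiS_of_lt hG1 (hlt j hj),
    phiS_of_lt hG1 (hlt' k hk), map_upperSL, map_lowerSL, phiHom_upper', phiHom_lower']
  exact simple_commute hG3 hT hSC (hlt j hj) (hlt' k hk)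
    (cls_disjoint h19 hc hc' hne hj hk) _ _

include hT h7 h8 h20 in
/-- `x_S(1)` and `x_{-S}(1)` do not commute. -/
theorem cls_not_commute {c : ℕ × ℕ} (hc : c ∈ cls) :
    ¬ Commute (clsHom hG h3 h4 h19 f hc (upperSL 1)) (clsHom hG h3 h4 h19 f hc (lowerSL 1)) := by
  intro hcomm
  obtain ⟨a, hadef⟩ : ∃ a : GL D.Idx K, a = clsHom hG h3 h4 h19 f hc (upperSL 1) := ⟨_, rfl⟩
  obtain ⟨b, hbdef⟩ : ∃ b : GL D.Idx K, b = clsHom hG h3 h4 h19 f hc (lowerSL 1) := ⟨_, rfl⟩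
  rw [← hadef, ← hbdef] at hcomm
  have hn : clsHom hG h3 h4 h19 f hc antiSL = a * b⁻¹ * a := by
    rw [antiSL_eq, map_mul, map_mul, sl2p_lower_neg, map_inv, hadef, hbdef]
  have hconj : clsHom hG h3 h4 h19 f hc antiSL * a * (clsHom hG h3 h4 h19 f hc antiSL)⁻¹ = b⁻¹ := by
    rw [hadef, hbdef, ← map_mul, antiSL_mul_upper, map_mul, mul_inv_cancel_right, sl2p_lower_neg,
      map_inv]
  have hcomm' : a * b⁻¹ = b⁻¹ * a := (hcomm.inv_right).eq
  have e2 : clsHom hG h3 h4 h19 f hc antiSL * a * (clsHom hG h3 h4 h19 f hc antiSL)⁻¹ = a := by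
    rw [hn]
    have key : (a * b⁻¹ * a) * a = a * (a * b⁻¹ * a) := by
      calc (a * b⁻¹ * a) * a = a * (b⁻¹ * a) * a := by group
        _ = a * (a * b⁻¹) * a := by rw [hcomm']
        _ = a * (a * b⁻¹ * a) := by group
    rw [key, mul_inv_cancel_right]
  rw [e2] at hconj
  have h1 : a ∈ D.borelSubgroup K := by
    rw [hadef]
    exact Subgroup.mem_sup_left (clsHom_upper_mem hG hT h3 h4 h19 f hc 1)
  have h2 : a ∈ D.negUnipotent K := by
    rw [hconj, hbdef]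
    exact inv_mem (clsHom_lower_mem hG hT h3 h4 h19 f hc 1)
  have h3' : a ∈ (⊥ : Subgroup (GL D.Idx K)) := by
    rw [← borel_inf_negUnipotent (F := K) hG hT]; exact ⟨h1, h2⟩
  rw [Subgroup.mem_bot, hadef] at h3'
  have h0 : clsHom hG h3 h4 h19 f hc (upperSL 1) = clsHom hG h3 h4 h19 f hc (upperSL 0) := by
    rw [h3', sl2p_upper_zero, map_one]
  exact one_ne_zero (clsHom_upper_injective hG hT h3 h4 h7 h8 h19 h20 f hc h0)

end tw

end Cfsg.Agent.Helper7.Chev
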