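import Mathlib
import Cfsg.Agent.Helper7.TwAutD

set_option autoImplicit false
set_option linter.unusedSectionVars false
set_option linter.unusedVariables false
set_option linter.style.haveILetI false

/-!
Automorphisms of a twisted group over a finite field, part E: an automorphism stabilising `U` and `V` permutes
the subgroups `X_S¹` and `X_{-S}¹` of the classes `S` of fundamental roots, in the same way.
-/

namespace Cfsg.Agent.Helper7.Chev

open Cfsg Cfsg.Lie Matrix DoubleCoset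

variable {D : ChevalleyDatum} {K : Type*} [Field K]

section tw

variable (hG : Good2 D) (hT : T0 D) (h3 : (tabOf D).T3) (h4 : (tabOf D).T4 60) (h5 : (tabOf D).T5)
  (h6 : (tabOf D).T6) (h7 : (tabOf D).T7) (h8 : (tabOf D).T8) (h9 : (tabOf D).T9)
  {ρ ρ' σ σ' : ℕ → ℕ} {ε : ℕ → ℤ} (h18 : T18 D ρ ρ' σ σ' ε) {cls : List (ℕ × ℕ)}
  (h19 : T19 D ρ σ cls) (h20 : (tabOf D).T20 ρ cls) (f : K ≃+* K)
  {wcls : List (ℕ × ℕ)} (hwc : ∀ c ∈ wcls, c ∈ cls)
  (hw0 : (tabOf D).W0ok (wcls.flatMap (clsWord ρ)))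
  (hstar : ∀ c ∈ cls, ∀ j < c.2, ∃ k < c.2,
    (tabOf D).reflWord (wcls.flatMap (clsWord ρ)) (D.neg (clsRoot D ρ c.1 j)) = clsRoot D ρ c.1 k)

include hT h19 in
theorem clsHom_lower_mem_closure {c : ℕ × ℕ} (hc : c ∈ cls) (t : K) :
    clsHom hG h3 h4 h19 f hc (lowerSL t) ∈
      Subgroup.closure (rootGen D K (fun r => ∃ j < c.2, r = D.neg (clsRoot D ρ c.1 j))) := by
  have hG1 := hG.toGood1
  obtain ⟨_, _, hlt⟩ := h19.orbit c hc
  rw [clsHom_apply]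
  apply Subgroup.list_prod_mem
  intro x hx
  rw [List.mem_map] at hx
  obtain ⟨j, hj, rfl⟩ := hx
  rw [List.mem_range] at hj
  unfold clsFactor
  rw [MonoidHom.comp_apply, phiS_of_lt hG1 (hlt j hj), map_lowerSL, phiHom_lower']
  have hp := hG1.simple_lt (hlt j hj)
  have hnp := hG1.neg_lt hp
  exact Subgroup.subset_closure ⟨_, _, ⟨j, hj, rfl⟩, xGL_coe hG1 hnp _⟩

include hT h5 h7 h8 h18 h20 hwc hw0 hstar in
/-- The representative of the longest element conjugates `X_{-S}¹` onto `X_S¹`. -/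
theorem twY_map_conj_n0 [Fintype K] {c : ℕ × ℕ} (hc : c ∈ cls) :
    (twY hG h3 h4 h19 f hc).map
        (MulAut.conj (nWordGL hG (wcls.flatMap (clsWord ρ)) : GL D.Idx K)).toMonoidHom =
      twX hG h3 h4 h19 f hc := by
  classical
  have hG1 := hG.toGood1
  obtain ⟨_, _, hlt⟩ := h19.orbit c hc
  have hw : ∀ i ∈ wcls.flatMap (clsWord ρ), i < D.rank := flatMap_clsWord_lt h19 hwc
  have hn₀G : (nWordGL hG (wcls.flatMap (clsWord ρ)) : GL D.Idx K) ∈ twGroup hG h3 h4 h19 f :=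
    nWordGL_flatMap_mem hG h3 h4 h19 f hwc
  have hle : (twY hG h3 h4 h19 f hc).map
      (MulAut.conj (nWordGL hG (wcls.flatMap (clsWord ρ)) : GL D.Idx K)).toMonoidHom ≤
        twX hG h3 h4 h19 f hc := by
    rintro _ ⟨_, ⟨t, ht, rfl⟩, rfl⟩
    change nWordGL hG (wcls.flatMap (clsWord ρ)) * clsHom hG h3 h4 h19 f hc (lowerSL t) *
      (nWordGL hG (wcls.flatMap (clsWord ρ)))⁻¹ ∈ twX hG h3 h4 h19 f hc
    apply mem_twX_of_fixed hG hT h3 h4 h5 h7 h8 h18 h19 h20 f hc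
    · apply conj_closure_le (nWordGL hG (wcls.flatMap (clsWord ρ)) : GL D.Idx K) _ _
        (clsHom_lower_mem_closure hG hT h3 h4 h19 f hc t)
      rintro x ⟨r, u, ⟨j, hj, rfl⟩, hx⟩
      have hp := hG1.simple_lt (hlt j hj)
      have hnp := hG1.neg_lt hp
      rw [eq_xGL hG1 hnp hx, nWordGL_conj hG hw hnp]
      obtain ⟨k, hk, ek⟩ := hstar c hc j hj
      exact Subgroup.subset_closure ⟨_, _, ⟨k, hk, ek⟩, xGL_coe hG1 _ _⟩
    · exact twGroup_le_twFix hG h3 h4 h18 h19 f (mul_mem (mul_mem hn₀G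
        (lower_mem_twGroup hG h3 h4 h19 f hc ht)) (inv_mem hn₀G))
  haveI : Finite (GL D.Idx K) := inferInstance
  apply Subgroup.eq_of_le_of_card_ge hle
  rw [Subgroup.card_map_of_injective (MulAut.conj _).injective,
    ← twX_map_conj_ncls hG h3 h4 h19 f hc,
    Subgroup.card_map_of_injective (MulAut.conj _).injective]

include hT h5 h6 h7 h8 h9 h18 h20 hwc hw0 hstar in
/-- An automorphism stabilising `U` and `V` permutes the subgroups `X_S¹` and `X_{-S}¹`, in the same way. -/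
theorem exists_cls_map [Fintype K] (hSC : (tabOf D).SimpleComm)
    {θ : ↥(twGroup hG h3 h4 h19 f) ≃* ↥(twGroup hG h3 h4 h19 f)}
    (hU : SMapsOnto θ (D.posUnipotent K) (D.posUnipotent K))
    (hV : SMapsOnto θ (D.negUnipotent K) (D.negUnipotent K)) {c : ℕ × ℕ} (hc : c ∈ cls) :
    ∃ (c' : ℕ × ℕ) (hc' : c' ∈ cls),
      SMapsOnto θ (twX hG h3 h4 h19 f hc) (twX hG h3 h4 h19 f hc') ∧
        SMapsOnto θ (twY hG h3 h4 h19 f hc) (twY hG h3 h4 h19 f hc') := by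
  classical
  have hG3 : Good3 D := { toGood2 := hG, t3 := h3, t4 := h4 }
  have hn₀G : (nWordGL hG (wcls.flatMap (clsWord ρ)) : GL D.Idx K) ∈ twGroup hG h3 h4 h19 f :=
    nWordGL_flatMap_mem hG h3 h4 h19 f hwc
  obtain ⟨cn, hcn⟩ : ∃ cn : ↥(twGroup hG h3 h4 h19 f) ≃* ↥(twGroup hG h3 h4 h19 f),
      cn = MulAut.conj ⟨nWordGL hG (wcls.flatMap (clsWord ρ)), hn₀G⟩ := ⟨_, rfl⟩
  have hcUV : SMapsOnto cn (D.posUnipotent K) (D.negUnipotent K) := by
    have := sMapsOnto_conj (⟨nWordGL hG (wcls.flatMap (clsWord ρ)), hn₀G⟩ :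
      ↥(twGroup hG h3 h4 h19 f)) (D.posUnipotent K)
    rw [nWordGL_conj_pos_eq_neg (K := K) hG hT hw0] at this
    rw [hcn]; exact this
  have hcVU : SMapsOnto cn (D.negUnipotent K) (D.posUnipotent K) := by
    have := sMapsOnto_conj (⟨nWordGL hG (wcls.flatMap (clsWord ρ)), hn₀G⟩ :
      ↥(twGroup hG h3 h4 h19 f)) (D.negUnipotent K)
    rw [nWordGL_conj_neg_eq_pos hG3 hT h8 hw0] at this
    rw [hcn]; exact this
  have hcX : ∀ {a : ℕ × ℕ} (ha : a ∈ cls),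
      SMapsOnto cn (twY hG h3 h4 h19 f ha) (twX hG h3 h4 h19 f ha) := by
    intro a ha
    have := sMapsOnto_conj (⟨nWordGL hG (wcls.flatMap (clsWord ρ)), hn₀G⟩ :
      ↥(twGroup hG h3 h4 h19 f)) (twY hG h3 h4 h19 f ha)
    rw [twY_map_conj_n0 hG hT h3 h4 h5 h7 h8 h18 h19 h20 f hwc hw0 hstar ha] at this
    rw [hcn]; exact this
  obtain ⟨θ', hθ'⟩ : ∃ θ' : ↥(twGroup hG h3 h4 h19 f) ≃* ↥(twGroup hG h3 h4 h19 f),
      θ' = cn.trans (θ.trans cn.symm) := ⟨_, rfl⟩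
  have hU' : SMapsOnto θ' (D.posUnipotent K) (D.posUnipotent K) := by
    rw [hθ']; exact hcUV.trans (hV.trans hcUV.symm)
  have hV' : SMapsOnto θ' (D.negUnipotent K) (D.negUnipotent K) := by
    rw [hθ']; exact hcVU.trans (hU.trans hcVU.symm)
  obtain ⟨c', hc', hmap⟩ :=
    exists_neg_cls_map hG hT h3 h4 h5 h6 h7 h8 h9 h18 h19 h20 f hU' hV' hc
  have h1 := (hcX hc).symm.trans (hmap.trans (hcX hc'))
  have e : cn.symm.trans (θ'.trans cn) = θ := by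
    apply MulEquiv.ext
    intro x
    simp only [hθ', MulEquiv.trans_apply, MulEquiv.apply_symm_apply]
  rw [e] at h1
  obtain ⟨c'', hc'', hmap2⟩ :=
    exists_neg_cls_map hG hT h3 h4 h5 h6 h7 h8 h9 h18 h19 h20 f hU hV hc
  have hcc : c' = c'' := by
    by_contra hne
    obtain ⟨a, ha⟩ : ∃ a : ↥(twGroup hG h3 h4 h19 f),
        (a : GL D.Idx K) = clsHom hG h3 h4 h19 f hc (upperSL 1) :=
      ⟨⟨_, upper_mem_twGroup hG h3 h4 h19 f hc Adm.one⟩, rfl⟩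
    obtain ⟨b, hb⟩ : ∃ b : ↥(twGroup hG h3 h4 h19 f),
        (b : GL D.Idx K) = clsHom hG h3 h4 h19 f hc (lowerSL 1) :=
      ⟨⟨_, lower_mem_twGroup hG h3 h4 h19 f hc Adm.one⟩, rfl⟩
    obtain ⟨t, _, ht⟩ := (h1 a).mp ⟨1, Adm.one, ha⟩
    obtain ⟨u, _, hu⟩ := (hmap2 b).mp ⟨1, Adm.one, hb⟩
    have hcomm := cls_upper_lower_commute hG hT h3 h4 h19 f hSC hc' hc'' hne t u
    rw [← ht, ← hu] at hcomm
    have hcomm' : θ a * θ b = θ b * θ a := Subtype.ext hcomm.eq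
    rw [← map_mul, ← map_mul] at hcomm'
    have hab := congrArg Subtype.val (θ.injective hcomm')
    rw [Subgroup.coe_mul, Subgroup.coe_mul, ha, hb] at hab
    exact cls_not_commute hG hT h3 h4 h7 h8 h19 h20 f hc hab
  subst hcc
  exact ⟨c', hc', h1, hmap2⟩

include hT h5 h7 h8 h18 h20 hwc hw0 hstar in
/-- The subgroups `X_S¹` of two classes whose reflections do not commute do not commute. -/
theorem twX_not_commute_of_adj [Fintype K] (hSC : (tabOf D).SimpleComm) {a b : ℕ × ℕ}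
    (ha : a ∈ cls) (hb : b ∈ cls) (hne : a ≠ b) (hadj : (tabOf D).TwAdj ρ a b) :
    ¬ ∀ x ∈ twX hG h3 h4 h19 f ha, ∀ y ∈ twX hG h3 h4 h19 f hb, Commute x y := by
  intro hXX
  obtain ⟨n₀, hn₀⟩ : ∃ n₀ : GL D.Idx K, n₀ = nWordGL hG (wcls.flatMap (clsWord ρ)) := ⟨_, rfl⟩
  have hYX : ∀ {c : ℕ × ℕ} (hc : c ∈ cls) (y : GL D.Idx K), y ∈ twY hG h3 h4 h19 f hc →
      n₀ * y * n₀⁻¹ ∈ twX hG h3 h4 h19 f hc := by
    intro c hc y hy
    rw [← twY_map_conj_n0 hG hT h3 h4 h5 h7 h8 h18 h19 h20 f hwc hw0 hstar hc, ← hn₀]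
    exact ⟨y, hy, rfl⟩
  have hYY : ∀ x ∈ twY hG h3 h4 h19 f ha, ∀ y ∈ twY hG h3 h4 h19 f hb, Commute x y := by
    intro x hx y hy
    have h := (hXX _ (hYX ha x hx) _ (hYX hb y hy)).eq
    have e1 : n₀ * x * n₀⁻¹ * (n₀ * y * n₀⁻¹) = n₀ * (x * y) * n₀⁻¹ := by group
    have e2 : n₀ * y * n₀⁻¹ * (n₀ * x * n₀⁻¹) = n₀ * (y * x) * n₀⁻¹ := by group
    rw [e1, e2] at h
    exact mul_left_cancel (mul_right_cancel h)
  have hna : clsHom hG h3 h4 h19 f ha antiSL = clsHom hG h3 h4 h19 f ha (upperSL 1) *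
      clsHom hG h3 h4 h19 f ha (lowerSL (-1)) * clsHom hG h3 h4 h19 f ha (upperSL 1) := by
    rw [antiSL_eq, map_mul, map_mul]
  have hnb : clsHom hG h3 h4 h19 f hb antiSL = clsHom hG h3 h4 h19 f hb (upperSL 1) *
      clsHom hG h3 h4 h19 f hb (lowerSL (-1)) * clsHom hG h3 h4 h19 f hb (upperSL 1) := by
    rw [antiSL_eq, map_mul, map_mul]
  have c1 : Commute (clsHom hG h3 h4 h19 f ha (upperSL 1)) (clsHom hG h3 h4 h19 f hb (upperSL 1)) :=
    hXX _ ⟨1, Adm.one, rfl⟩ _ ⟨1, Adm.one, rfl⟩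
  have c2 : Commute (clsHom hG h3 h4 h19 f ha (upperSL 1))
      (clsHom hG h3 h4 h19 f hb (lowerSL (-1))) :=
    cls_upper_lower_commute hG hT h3 h4 h19 f hSC ha hb hne _ _
  have c3 : Commute (clsHom hG h3 h4 h19 f ha (lowerSL (-1)))
      (clsHom hG h3 h4 h19 f hb (upperSL 1)) :=
    (cls_upper_lower_commute hG hT h3 h4 h19 f hSC hb ha (Ne.symm hne) _ _).symm
  have c4 : Commute (clsHom hG h3 h4 h19 f ha (lowerSL (-1)))
      (clsHom hG h3 h4 h19 f hb (lowerSL (-1))) :=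
    hYY _ ⟨-1, Adm.one.neg, rfl⟩ _ ⟨-1, Adm.one.neg, rfl⟩
  have hcomm : Commute (clsHom hG h3 h4 h19 f ha antiSL) (clsHom hG h3 h4 h19 f hb antiSL) := by
    rw [hna, hnb]
    have k1 : Commute (clsHom hG h3 h4 h19 f ha (upperSL 1))
        (clsHom hG h3 h4 h19 f hb (upperSL 1) * clsHom hG h3 h4 h19 f hb (lowerSL (-1)) *
          clsHom hG h3 h4 h19 f hb (upperSL 1)) := (c1.mul_right c2).mul_right c1
    have k2 : Commute (clsHom hG h3 h4 h19 f ha (lowerSL (-1)))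
        (clsHom hG h3 h4 h19 f hb (upperSL 1) * clsHom hG h3 h4 h19 f hb (lowerSL (-1)) *
          clsHom hG h3 h4 h19 f hb (upperSL 1)) := (c3.mul_right c4).mul_right c3
    exact (k1.mul_left k2).mul_left k1
  apply ncls_comm_not_mem_borel hG hT h3 h4 h8 h19 f ha hb hadj
  have : clsHom hG h3 h4 h19 f ha antiSL * clsHom hG h3 h4 h19 f hb antiSL *
      (clsHom hG h3 h4 h19 f ha antiSL)⁻¹ * (clsHom hG h3 h4 h19 f hb antiSL)⁻¹ = 1 := by
    rw [hcomm.eq]; group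
  rw [this]
  exact one_mem _

/-- The subgroups `X_S¹` of two classes all of whose roots have trivial commutators commute. -/
theorem twX_commute_of_nil {a b : ℕ × ℕ} (ha : a ∈ cls) (hb : b ∈ cls)
    (hnil : ∀ j < a.2, ∀ k < b.2,
      (tabOf D).commTerms (clsRoot D ρ a.1 j) (clsRoot D ρ b.1 k) = [] ∧
        clsRoot D ρ b.1 k ≠ clsRoot D ρ a.1 j ∧ clsRoot D ρ b.1 k ≠ D.neg (clsRoot D ρ a.1 j)) :
    ∀ x ∈ twX hG h3 h4 h19 f ha, ∀ y ∈ twX hG h3 h4 h19 f hb, Commute x y := by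
  have hG1 := hG.toGood1
  obtain ⟨_, _, hlt⟩ := h19.orbit a ha
  obtain ⟨_, _, hlt'⟩ := h19.orbit b hb
  rintro _ ⟨t, _, rfl⟩ _ ⟨u, _, rfl⟩
  rw [clsHom_apply, clsHom_apply]
  apply Commute.list_prod_left
  intro x hx
  rw [List.mem_map] at hx
  obtain ⟨j, hj, rfl⟩ := hx
  rw [List.mem_range] at hj
  apply Commute.list_prod_right
  intro y hy
  rw [List.mem_map] at hy
  obtain ⟨k, hk, rfl⟩ := hy
  rw [List.mem_range] at hk
  unfold clsFactor
  rw [MonoidHom.comp_apply, MonoidHom.comp_apply, phiS_of_lt hG1 (hlt j hj),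
    phiS_of_lt hG1 (hlt' k hk), map_upperSL, map_upperSL, phiHom_upper', phiHom_upper']
  obtain ⟨n1, n2, n3⟩ := hnil j hj k hk
  exact xGL_commute_of_terms_nil hG h3 h4 (hG1.simple_lt (hlt j hj)) (hG1.simple_lt (hlt' k hk))
    n2 n3 n1 _ _

end tw

end Cfsg.Agent.Helper7.Chev
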