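import Mathlib
import Cfsg.Agent.Helper7.TwAutE

set_option autoImplicit false
set_option linter.unusedSectionVars false
set_option linter.unusedVariables false
set_option linter.style.haveILetI false

/-!
Automorphisms of a twisted group over a finite field, part F: the rank one analysis.  An automorphism stabilising
`X_S¹` and `X_{-S}¹` maps `x_S(t)` to `x_S(a τ(t))` and `x_{-S}(t)` to `x_{-S}(a⁻¹ τ(t))` for a unit `a` and an
automorphism `τ` of the field of parameters of the class `S`.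
-/

namespace Cfsg.Agent.Helper7.Chev

open Cfsg Cfsg.Lie Matrix DoubleCoset

variable {D : ChevalleyDatum} {K : Type*} [Field K]

/-- The field of the admissible parameters of a class of length `m`. -/
def admField (f : K ≃+* K) (m : ℕ) : Subfield K where
  carrier := {t | Adm f m t}
  mul_mem' := fun h h' => h.mul h'
  one_mem' := Adm.one
  add_mem' := fun h h' => h.add h'
  zero_mem' := Adm.zero
  neg_mem' := fun h => h.neg
  inv_mem' := fun _ h => h.inv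

theorem mem_admField {f : K ≃+* K} {m : ℕ} {t : K} : t ∈ admField f m ↔ Adm f m t := Iff.rfl

section maps

variable {F : Type*} [Field F]

theorem sl2map_upper (φ : F →+* K) (t : F) :
    Matrix.SpecialLinearGroup.map φ (upperSL t) = upperSL (φ t) := by
  apply Subtype.ext
  change φ.mapMatrix (!![1, t; 0, 1] : Matrix (Fin 2) (Fin 2) F) = !![1, φ t; 0, 1]
  ext i j
  fin_cases i <;> fin_cases j <;> simp

theorem sl2map_lower (φ : F →+* K) (t : F) :
    Matrix.SpecialLinearGroup.map φ (lowerSL t) = lowerSL (φ t) := by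
  apply Subtype.ext
  change φ.mapMatrix (!![1, 0; t, 1] : Matrix (Fin 2) (Fin 2) F) = !![1, 0; φ t, 1]
  ext i j
  fin_cases i <;> fin_cases j <;> simp

theorem sl2map_diag (φ : F →+* K) (a : F) (ha : a ≠ 0) :
    Matrix.SpecialLinearGroup.map φ (diagSL a ha) = diagSL (φ a) ((map_ne_zero φ).mpr ha) := by
  apply Subtype.ext
  change φ.mapMatrix (!![a, 0; 0, a⁻¹] : Matrix (Fin 2) (Fin 2) F) = !![φ a, 0; 0, (φ a)⁻¹]
  ext i j
  fin_cases i <;> fin_cases j <;> simp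

end maps

section tw

variable (hG : Good2 D) (hT : T0 D) (h3 : (tabOf D).T3) (h4 : (tabOf D).T4 60) (h5 : (tabOf D).T5)
  (h6 : (tabOf D).T6) (h7 : (tabOf D).T7) (h8 : (tabOf D).T8) (h9 : (tabOf D).T9)
  {ρ ρ' σ σ' : ℕ → ℕ} {ε : ℕ → ℤ} (h18 : T18 D ρ ρ' σ σ' ε) {cls : List (ℕ × ℕ)}
  (h19 : T19 D ρ σ cls) (h20 : (tabOf D).T20 ρ cls) (f : K ≃+* K)
  {F : Type*} [Field F]

theorem clsHom_map_mem {c : ℕ × ℕ} (hc : c ∈ cls) (ι : F →+* K) (hι : ∀ s : F, Adm f c.2 (ι s))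
    (g : Matrix.SpecialLinearGroup (Fin 2) F) :
    clsHom hG h3 h4 h19 f hc (Matrix.SpecialLinearGroup.map ι g) ∈ twGroup hG h3 h4 h19 f := by
  have hg : g ∈ Subgroup.closure
      ({g | ∃ t : F, g = upperSL t} ∪ {g | ∃ t : F, g = lowerSL t}) := by
    rw [sl2_generated]; trivial
  induction hg using Subgroup.closure_induction with
  | mem x hx =>
    rcases hx with ⟨t, rfl⟩ | ⟨t, rfl⟩
    · rw [sl2map_upper]; exact upper_mem_twGroup hG h3 h4 h19 f hc (hι t)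
    · rw [sl2map_lower]; exact lower_mem_twGroup hG h3 h4 h19 f hc (hι t)
  | one => rw [map_one, map_one]; exact one_mem _
  | mul a b _ _ ha hb => rw [map_mul, map_mul]; exact mul_mem ha hb
  | inv a _ ha => rw [map_inv, map_inv]; exact inv_mem ha

/-- The homomorphism from `SL₂` of the field of parameters of a class to the twisted group. -/
noncomputable def clsSub {c : ℕ × ℕ} (hc : c ∈ cls) (ι : F →+* K) (hι : ∀ s : F, Adm f c.2 (ι s)) :
    Matrix.SpecialLinearGroup (Fin 2) F →* ↥(twGroup hG h3 h4 h19 f) :=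
  ((clsHom hG h3 h4 h19 f hc).comp (Matrix.SpecialLinearGroup.map ι)).codRestrict
    (twGroup hG h3 h4 h19 f) (clsHom_map_mem hG h3 h4 h19 f hc ι hι)

theorem clsSub_coe {c : ℕ × ℕ} (hc : c ∈ cls) (ι : F →+* K) (hι : ∀ s : F, Adm f c.2 (ι s))
    (g : Matrix.SpecialLinearGroup (Fin 2) F) :
    ((clsSub hG h3 h4 h19 f hc ι hι g : ↥(twGroup hG h3 h4 h19 f)) : GL D.Idx K) =
      clsHom hG h3 h4 h19 f hc (Matrix.SpecialLinearGroup.map ι g) := rfl

theorem clsSub_upper {c : ℕ × ℕ} (hc : c ∈ cls) (ι : F →+* K) (hι : ∀ s : F, Adm f c.2 (ι s))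
    (s : F) :
    ((clsSub hG h3 h4 h19 f hc ι hι (upperSL s) : ↥(twGroup hG h3 h4 h19 f)) : GL D.Idx K) =
      clsHom hG h3 h4 h19 f hc (upperSL (ι s)) := by
  rw [clsSub_coe, sl2map_upper]

theorem clsSub_lower {c : ℕ × ℕ} (hc : c ∈ cls) (ι : F →+* K) (hι : ∀ s : F, Adm f c.2 (ι s))
    (s : F) :
    ((clsSub hG h3 h4 h19 f hc ι hι (lowerSL s) : ↥(twGroup hG h3 h4 h19 f)) : GL D.Idx K) =
      clsHom hG h3 h4 h19 f hc (lowerSL (ι s)) := by
  rw [clsSub_coe, sl2map_lower]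

theorem clsSub_diag {c : ℕ × ℕ} (hc : c ∈ cls) (ι : F →+* K) (hι : ∀ s : F, Adm f c.2 (ι s))
    (s : F) (hs : s ≠ 0) :
    ((clsSub hG h3 h4 h19 f hc ι hι (diagSL s hs) : ↥(twGroup hG h3 h4 h19 f)) : GL D.Idx K) =
      clsHom hG h3 h4 h19 f hc (diagSL (ι s) ((map_ne_zero ι).mpr hs)) := by
  rw [clsSub_coe, sl2map_diag]

include hT h7 h8 h20 in
/-- The upper and lower unitriangular images meet trivially. -/
theorem clsSub_upper_lower {c : ℕ × ℕ} (hc : c ∈ cls) (ι : F →+* K)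
    (hι : ∀ s : F, Adm f c.2 (ι s)) (x y : F)
    (h : clsSub hG h3 h4 h19 f hc ι hι (upperSL x) = clsSub hG h3 h4 h19 f hc ι hι (lowerSL y)) :
    x = 0 ∧ y = 0 := by
  have h' := congrArg Subtype.val h
  rw [clsSub_upper, clsSub_lower] at h'
  have h1 : clsHom hG h3 h4 h19 f hc (upperSL (ι x)) ∈ D.borelSubgroup K :=
    Subgroup.mem_sup_left (clsHom_upper_mem hG hT h3 h4 h19 f hc _)
  have h2 : clsHom hG h3 h4 h19 f hc (upperSL (ι x)) ∈ D.negUnipotent K := by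
    rw [h']; exact clsHom_lower_mem hG hT h3 h4 h19 f hc _
  have h3' : clsHom hG h3 h4 h19 f hc (upperSL (ι x)) ∈ (⊥ : Subgroup (GL D.Idx K)) := by
    rw [← borel_inf_negUnipotent (F := K) hG hT]; exact ⟨h1, h2⟩
  rw [Subgroup.mem_bot] at h3'
  constructor
  · have h0 : clsHom hG h3 h4 h19 f hc (upperSL (ι x)) = clsHom hG h3 h4 h19 f hc (upperSL 0) := by
      rw [h3', sl2p_upper_zero, map_one]
    have := clsHom_upper_injective hG hT h3 h4 h7 h8 h19 h20 f hc h0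
    exact (map_eq_zero ι).mp this
  · rw [h3'] at h'
    have h0 : clsHom hG h3 h4 h19 f hc (lowerSL (ι y)) = clsHom hG h3 h4 h19 f hc (lowerSL 0) := by
      rw [← h', sl2p_lower_zero, map_one]
    have := clsHom_lower_injective hG hT h3 h4 h7 h8 h19 h20 f hc h0
    exact (map_eq_zero ι).mp this

include hT h7 h8 h20 in
/-- The rank one analysis for a class stabilised by the automorphism. -/
theorem tw_rank_one [Finite F] {c : ℕ × ℕ} (hc : c ∈ cls) (ι : F →+* K)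
    (hι : ∀ s : F, Adm f c.2 (ι s)) (hι' : ∀ t : K, Adm f c.2 t → ∃ s : F, ι s = t)
    {θ : ↥(twGroup hG h3 h4 h19 f) ≃* ↥(twGroup hG h3 h4 h19 f)}
    (hX : SMapsOnto θ (twX hG h3 h4 h19 f hc) (twX hG h3 h4 h19 f hc))
    (hY : SMapsOnto θ (twY hG h3 h4 h19 f hc) (twY hG h3 h4 h19 f hc)) :
    ∃ (a : Fˣ) (τ : F ≃+* F),
      (∀ s : F, θ (clsSub hG h3 h4 h19 f hc ι hι (upperSL s)) =
        clsSub hG h3 h4 h19 f hc ι hι (upperSL (a * τ s))) ∧
      (∀ s : F, θ (clsSub hG h3 h4 h19 f hc ι hι (lowerSL s)) =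
        clsSub hG h3 h4 h19 f hc ι hι (lowerSL (((a⁻¹ : Fˣ) : F) * τ s))) ∧
      (∀ (s : F) (hs : s ≠ 0), θ (clsSub hG h3 h4 h19 f hc ι hι (diagSL s hs)) =
        clsSub hG h3 h4 h19 f hc ι hι (diagSL (τ s) ((map_ne_zero τ).mpr hs))) := by
  have h1 : ∀ s : F, ∃ s' : F, θ (clsSub hG h3 h4 h19 f hc ι hι (upperSL s)) =
      clsSub hG h3 h4 h19 f hc ι hι (upperSL s') := by
    intro s
    obtain ⟨t, ht, e⟩ := (hX (clsSub hG h3 h4 h19 f hc ι hι (upperSL s))).mp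
      ⟨ι s, hι s, clsSub_upper hG h3 h4 h19 f hc ι hι s⟩
    obtain ⟨s', rfl⟩ := hι' t ht
    exact ⟨s', Subtype.ext (by rw [e, clsSub_upper])⟩
  have h2 : ∀ s : F, ∃ s' : F, θ (clsSub hG h3 h4 h19 f hc ι hι (lowerSL s)) =
      clsSub hG h3 h4 h19 f hc ι hι (lowerSL s') := by
    intro s
    obtain ⟨t, ht, e⟩ := (hY (clsSub hG h3 h4 h19 f hc ι hι (lowerSL s))).mp
      ⟨ι s, hι s, clsSub_lower hG h3 h4 h19 f hc ι hι s⟩
    obtain ⟨s', rfl⟩ := hι' t ht
    exact ⟨s', Subtype.ext (by rw [e, clsSub_lower])⟩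
  choose fF hfF using h1
  choose gF hgF using h2
  have hψ := clsSub_upper_lower hG hT h3 h4 h7 h8 h19 h20 f hc ι hι
  have hφ : ∀ x y, (θ.toMonoidHom.comp (clsSub hG h3 h4 h19 f hc ι hι)) (upperSL x) =
      (θ.toMonoidHom.comp (clsSub hG h3 h4 h19 f hc ι hι)) (lowerSL y) → x = 0 ∧ y = 0 := by
    intro x y hxy
    exact hψ x y (θ.injective hxy)
  obtain ⟨a, τ, haτ⟩ := sl2p_main (θ.toMonoidHom.comp (clsSub hG h3 h4 h19 f hc ι hι))
    (clsSub hG h3 h4 h19 f hc ι hι) fF gF hfF hgF hφ hψ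
  refine ⟨a, τ, fun s => ?_, fun s => ?_, fun s hs => ?_⟩
  · rw [← (haτ s).1]; exact hfF s
  · rw [← (haτ s).2]; exact hgF s
  · exact sl2p_diag' (θ.toMonoidHom.comp (clsSub hG h3 h4 h19 f hc ι hι))
      (clsSub hG h3 h4 h19 f hc ι hι) fF gF hfF hgF hφ hψ a τ (fun t => (haτ t).1) hs _

end tw

end Cfsg.Agent.Helper7.Chev
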