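import Mathlib
import Cfsg.Agent.Helper7.TwAutF

set_option autoImplicit false
set_option linter.unusedSectionVars false
set_option linter.unusedVariables false
set_option linter.style.haveILetI false

/-!
Automorphisms of a twisted group over a finite field, part G: the field automorphisms attached to two classes
linked by the action of the torus agree.
-/

namespace Cfsg.Agent.Helper7.Chev

open Cfsg Cfsg.Lie Matrix DoubleCoset

variable {D : ChevalleyDatum} {K : Type*} [Field K]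

/-- The elements `h_S(a)` of the class `c` act on `x_{S'}(u)`, for the class `c'`, through `u ↦ a⁻¹ u`. -/
def Linked (D : ChevalleyDatum) (ρ : ℕ → ℕ) (c c' : ℕ × ℕ) : Prop :=
  ∀ k < c'.2, ∀ j < c.2,
    (tabOf D).pairing (clsRoot D ρ c.1 j) (clsRoot D ρ c'.1 k) = if j = k % c.2 then -1 else 0

instance (D : ChevalleyDatum) (ρ : ℕ → ℕ) (c c' : ℕ × ℕ) : Decidable (Linked D ρ c c') := by
  unfold Linked; infer_instance

theorem adm_pow_mod {f : K ≃+* K} {m : ℕ} {s : K} (hs : Adm f m s) (k : ℕ) :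
    (((f : K →+* K)) ^ k) s = (((f : K →+* K)) ^ (k % m)) s := by
  have hmul : ∀ n : ℕ, (((f : K →+* K)) ^ (m * n)) s = s := by
    intro n
    induction n with
    | zero => rfl
    | succ n ih =>
      rw [Nat.mul_succ, pow_add]
      change (((f : K →+* K)) ^ (m * n)) ((((f : K →+* K)) ^ m) s) = s
      rw [hs, ih]
  conv_lhs => rw [← Nat.mod_add_div k m, pow_add]
  change (((f : K →+* K)) ^ (k % m)) ((((f : K →+* K)) ^ (m * (k / m))) s) = _
  rw [hmul]

section tw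

variable (hG : Good2 D) (hT : T0 D) (h3 : (tabOf D).T3) (h4 : (tabOf D).T4 60) (h5 : (tabOf D).T5)
  (h6 : (tabOf D).T6) (h7 : (tabOf D).T7) (h8 : (tabOf D).T8) (h9 : (tabOf D).T9)
  {ρ ρ' σ σ' : ℕ → ℕ} {ε : ℕ → ℤ} (h18 : T18 D ρ ρ' σ σ' ε) {cls : List (ℕ × ℕ)}
  (h19 : T19 D ρ σ cls) (h20 : (tabOf D).T20 ρ cls) (f : K ≃+* K)

/-- Conjugation of a root element by `h_r(a)`. -/
theorem hGL_conj_xGL {r : ℕ} (hr : r < D.nroots) {a : K} (ha : a ≠ 0) {s : ℕ} (hs : s < D.nroots)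
    (v : K) :
    hGL hG.toGood1 hr a ha * xGL hG.toGood1 hs v * (hGL hG.toGood1 hr a ha)⁻¹ =
      xGL hG.toGood1 hs (a ^ (tabOf D).pairing r s * v) := by
  rw [mul_inv_eq_iff_eq_mul]
  apply Units.ext
  rw [Units.val_mul, Units.val_mul, hGL_coe, xGL_coe, xGL_coe]
  exact hMat_mul_x hG hr ha hs v

include h19 in
/-- Conjugation of a root element by a product of factors of `h_S(a)`. -/
theorem clsFactor_diag_conj {c : ℕ × ℕ} (hc : c ∈ cls) {a : K} (ha : a ≠ 0) {s : ℕ}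
    (hs : s < D.nroots) : ∀ (L : List ℕ), (∀ j ∈ L, j < c.2) → ∀ v : K,
    (L.map fun j => clsFactor hG.toGood1 ρ f c.1 j (diagSL a ha)).prod * xGL hG.toGood1 hs v *
        ((L.map fun j => clsFactor hG.toGood1 ρ f c.1 j (diagSL a ha)).prod)⁻¹ =
      xGL hG.toGood1 hs ((L.map fun j =>
        ((((f : K →+* K)) ^ j) a) ^ (tabOf D).pairing (clsRoot D ρ c.1 j) s).prod * v) := by
  have hG1 := hG.toGood1
  obtain ⟨_, _, hlt⟩ := h19.orbit c hc
  intro L
  induction L with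
  | nil => intro _ v; simp
  | cons j L ih =>
    intro hL v
    have hj : j < c.2 := hL j List.mem_cons_self
    have hL' : ∀ k ∈ L, k < c.2 := fun k hk => hL k (List.mem_cons_of_mem _ hk)
    rw [List.map_cons, List.prod_cons, List.map_cons, List.prod_cons]
    have e : ∀ (A P x : GL D.Idx K), A * P * x * (A * P)⁻¹ = A * (P * x * P⁻¹) * A⁻¹ := by
      intro A P x; group
    rw [e, ih hL' v]
    have hF : clsFactor hG1 ρ f c.1 j (diagSL a ha) =
        hGL hG1 (hG1.simple_lt (hlt j hj)) ((((f : K →+* K)) ^ j) a)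
          ((map_ne_zero (((f : K →+* K)) ^ j)).mpr ha) := by
      unfold clsFactor
      rw [MonoidHom.comp_apply, phiS_of_lt hG1 (hlt j hj), map_diagSL]
      rfl
    rw [hF, hGL_conj_xGL hG, mul_assoc]
    rfl

include h19 in
/-- The action of `h_S(a)` on `x_{S'}(u)` for two linked classes. -/
theorem clsHom_diag_conj {c c' : ℕ × ℕ} (hc : c ∈ cls) (hc' : c' ∈ cls) (hL : Linked D ρ c c')
    {a : K} (ha : a ≠ 0) (hadm : Adm f c.2 a) (u : K) :
    clsHom hG h3 h4 h19 f hc (diagSL a ha) * clsHom hG h3 h4 h19 f hc' (upperSL u) *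
        (clsHom hG h3 h4 h19 f hc (diagSL a ha))⁻¹ =
      clsHom hG h3 h4 h19 f hc' (upperSL (a⁻¹ * u)) := by
  have hG1 := hG.toGood1
  obtain ⟨hm, _, hlt⟩ := h19.orbit c hc
  obtain ⟨_, _, hlt'⟩ := h19.orbit c' hc'
  obtain ⟨h, hh⟩ : ∃ h : GL D.Idx K, h = clsHom hG h3 h4 h19 f hc (diagSL a ha) := ⟨_, rfl⟩
  rw [← hh]
  have hconj : ∀ L : List (GL D.Idx K), h * L.prod * h⁻¹ = (L.map fun x => h * x * h⁻¹).prod := by
    intro L
    induction L with
    | nil => simp
    | cons x L ih =>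
      rw [List.prod_cons, List.map_cons, List.prod_cons, ← ih]
      group
  rw [clsHom_apply hG h3 h4 h19 f hc' (upperSL u), clsHom_apply hG h3 h4 h19 f hc' (upperSL (a⁻¹ * u)),
    hconj, List.map_map]
  congr 1
  apply List.map_congr_left
  intro k hk
  rw [List.mem_range] at hk
  simp only [Function.comp_apply]
  have hp' := hG1.simple_lt (hlt' k hk)
  have hF : ∀ v : K, clsFactor hG1 ρ f c'.1 k (upperSL v) =
      xGL hG1 hp' ((((f : K →+* K)) ^ k) v) := by
    intro v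
    unfold clsFactor
    rw [MonoidHom.comp_apply, phiS_of_lt hG1 (hlt' k hk), map_upperSL, phiHom_upper']
  rw [hF, hF, hh, clsHom_apply,
    clsFactor_diag_conj hG h19 f hc ha hp' (List.range c.2) (fun j hj => List.mem_range.mp hj)]
  congr 1
  have hprod : ((List.range c.2).map fun j =>
      ((((f : K →+* K)) ^ j) a) ^ (tabOf D).pairing (clsRoot D ρ c.1 j) (D.simple (ρ^[k] c'.1))).prod =
      ((((f : K →+* K)) ^ k) a)⁻¹ := by
    rw [List.prod_map_eq_pow_single (k % c.2)]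
    · rw [List.count_eq_one_of_mem List.nodup_range (List.mem_range.mpr (Nat.mod_lt _ hm)), pow_one]
      have := hL k hk (k % c.2) (Nat.mod_lt _ hm)
      rw [if_pos rfl] at this
      change (tabOf D).pairing (clsRoot D ρ c.1 (k % c.2)) (D.simple (ρ^[k] c'.1)) = -1 at this
      rw [this, _root_.zpow_neg_one, ← adm_pow_mod hadm k]
    · intro j hjne hj
      rw [List.mem_range] at hj
      have := hL k hk j hj
      rw [if_neg hjne] at this
      change (tabOf D).pairing (clsRoot D ρ c.1 j) (D.simple (ρ^[k] c'.1)) = 0 at this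
      rw [this, _root_.zpow_zero]
  rw [hprod, map_mul, map_inv₀]

end tw

section link

variable (hG : Good2 D) (hT : T0 D) (h3 : (tabOf D).T3) (h4 : (tabOf D).T4 60) (h5 : (tabOf D).T5)
  (h6 : (tabOf D).T6) (h7 : (tabOf D).T7) (h8 : (tabOf D).T8) (h9 : (tabOf D).T9)
  {ρ ρ' σ σ' : ℕ → ℕ} {ε : ℕ → ℤ} (h18 : T18 D ρ ρ' σ σ' ε) {cls : List (ℕ × ℕ)}
  (h19 : T19 D ρ σ cls) (h20 : (tabOf D).T20 ρ cls) (f : K ≃+* K)
  {F F' : Type*} [Field F] [Field F']

include hT h7 h8 h20 in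
/-- The field automorphisms of two linked classes agree. -/
theorem tw_link {c c' : ℕ × ℕ} (hc : c ∈ cls) (hc' : c' ∈ cls) (hL : Linked D ρ c c')
    (ι : F →+* K) (hι : ∀ s : F, Adm f c.2 (ι s)) (ι' : F' →+* K)
    (hι' : ∀ s : F', Adm f c'.2 (ι' s)) (j : F →+* F') (hj : ∀ s, ι' (j s) = ι s)
    {θ : ↥(twGroup hG h3 h4 h19 f) ≃* ↥(twGroup hG h3 h4 h19 f)} {τ : F ≃+* F} {a' : F'ˣ}
    {τ' : F' ≃+* F'}
    (hdiag : ∀ (s : F) (hs : s ≠ 0), θ (clsSub hG h3 h4 h19 f hc ι hι (diagSL s hs)) =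
      clsSub hG h3 h4 h19 f hc ι hι (diagSL (τ s) ((map_ne_zero τ).mpr hs)))
    (hup' : ∀ s : F', θ (clsSub hG h3 h4 h19 f hc' ι' hι' (upperSL s)) =
      clsSub hG h3 h4 h19 f hc' ι' hι' (upperSL (a' * τ' s))) :
    ∀ s : F, τ' (j s) = j (τ s) := by
  intro s
  by_cases hs : s = 0
  · rw [hs, map_zero, map_zero, map_zero, map_zero]
  have hI : ∀ (s : F) (hs : s ≠ 0) (u : F'),
      clsSub hG h3 h4 h19 f hc ι hι (diagSL s hs) * clsSub hG h3 h4 h19 f hc' ι' hι' (upperSL u) *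
        (clsSub hG h3 h4 h19 f hc ι hι (diagSL s hs))⁻¹ =
      clsSub hG h3 h4 h19 f hc' ι' hι' (upperSL ((j s)⁻¹ * u)) := by
    intro s hs u
    apply Subtype.ext
    rw [Subgroup.coe_mul, Subgroup.coe_mul, Subgroup.coe_inv, clsSub_diag, clsSub_upper, clsSub_upper,
      clsHom_diag_conj hG h3 h4 h19 f hc hc' hL _ (hι s), map_mul, map_inv₀, hj]
  have h1 := congrArg θ (hI s hs 1)
  rw [map_mul, map_mul, map_inv, hdiag s hs, hup', hup', hI (τ s) ((map_ne_zero τ).mpr hs)] at h1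
  have h2 := sl2p_upper_inj (clsSub hG h3 h4 h19 f hc' ι' hι')
    (clsSub_upper_lower hG hT h3 h4 h7 h8 h19 h20 f hc' ι' hι') h1
  rw [map_one, mul_one, map_mul, map_one, mul_one, map_inv₀, mul_comm] at h2
  have h3' := mul_left_cancel₀ a'.ne_zero h2
  exact (inv_injective h3').symm

end link

end Cfsg.Agent.Helper7.Chev
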