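import Mathlib
import Cfsg.Agent.Helper7.ChevTw14
import Cfsg.Agent.Helper7.ChevT18
import Cfsg.Agent.Helper7.ChevT5
import Cfsg.Agent.Helper7.ChevT6
import Cfsg.Agent.Helper7.ChevT7
import Cfsg.Agent.Helper7.ChevT9
import Cfsg.Prelude.Def_LieTwisted

set_option autoImplicit false
set_option linter.unusedSectionVars false
set_option linter.unusedVariables false

/-!
The twisted group `²E₆(q)`: the table facts and the identification with the group of the Prelude.
-/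

namespace Cfsg.Agent.Helper7.Chev

open Cfsg Cfsg.Lie Matrix

/-- The classes of fundamental roots of `E₆` under the graph automorphism. -/
abbrev clsE6 : List (ℕ × ℕ) := [(1, 1), (3, 1), (0, 2), (2, 2)]

set_option maxRecDepth 1000000 in
set_option maxHeartbeats 0 in
theorem T19_E6 : T19 chevE6 (fun i => [5, 1, 4, 3, 2, 0].getD i 0) (tabN t18s_E6) clsE6 := by
  decide +kernel

set_option maxRecDepth 1000000 in
set_option maxHeartbeats 0 in
theorem T20fast_E6 : fastE6.T20 (fun i => [5, 1, 4, 3, 2, 0].getD i 0) clsE6 := by decide +kernel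

theorem T20_E6 : (tabOf chevE6).T20 (fun i => [5, 1, 4, 3, 2, 0].getD i 0) clsE6 :=
  tab_E6 ▸ T20fast_E6

/-- A word in the classes for the longest element. -/
abbrev w0clsE6 : List (ℕ × ℕ) :=
  [(1, 1), (3, 1), (0, 2), (2, 2), (1, 1), (3, 1), (0, 2), (2, 2), (1, 1), (3, 1), (0, 2), (2, 2),
   (1, 1), (3, 1), (0, 2), (2, 2), (1, 1), (3, 1), (0, 2), (2, 2), (1, 1), (3, 1), (0, 2), (2, 2)]

theorem w0clsE6_mem : ∀ c ∈ w0clsE6, c ∈ clsE6 := by decide

set_option maxRecDepth 1000000 in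
set_option maxHeartbeats 0 in
theorem W0clsfast_E6 :
    fastE6.W0ok (w0clsE6.flatMap (clsWord (fun i => [5, 1, 4, 3, 2, 0].getD i 0))) := by
  decide +kernel

theorem W0cls_E6 :
    (tabOf chevE6).W0ok (w0clsE6.flatMap (clsWord (fun i => [5, 1, 4, 3, 2, 0].getD i 0))) :=
  tab_E6 ▸ W0clsfast_E6

theorem clsRoot_E6_10 : clsRoot chevE6 (fun i => [5, 1, 4, 3, 2, 0].getD i 0) 1 0 = e6p2 := by decide
theorem clsRoot_E6_30 : clsRoot chevE6 (fun i => [5, 1, 4, 3, 2, 0].getD i 0) 3 0 = e6p4 := by decide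
theorem clsRoot_E6_00 : clsRoot chevE6 (fun i => [5, 1, 4, 3, 2, 0].getD i 0) 0 0 = e6p1 := by decide
theorem clsRoot_E6_01 : clsRoot chevE6 (fun i => [5, 1, 4, 3, 2, 0].getD i 0) 0 1 = e6p6 := by decide
theorem clsRoot_E6_20 : clsRoot chevE6 (fun i => [5, 1, 4, 3, 2, 0].getD i 0) 2 0 = e6p3 := by decide
theorem clsRoot_E6_21 : clsRoot chevE6 (fun i => [5, 1, 4, 3, 2, 0].getD i 0) 2 1 = e6p5 := by decide
theorem neg_E6_p1 : chevE6.neg e6p1 = e6m1 := by decide
theorem neg_E6_p2 : chevE6.neg e6p2 = e6m2 := by decide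
theorem neg_E6_p3 : chevE6.neg e6p3 = e6m3 := by decide
theorem neg_E6_p4 : chevE6.neg e6p4 = e6m4 := by decide
theorem neg_E6_p5 : chevE6.neg e6p5 = e6m5 := by decide
theorem neg_E6_p6 : chevE6.neg e6p6 = e6m6 := by decide

/-- The generating words of the Prelude are the words of the generators of the twisted group. -/
theorem e6Words_eq {K : Type*} [Field K] {q : ℕ} (f : K ≃+* K) (hf : ∀ t, f t = t ^ q)
    (hf2 : ∀ t, (((f : K →+* K)) ^ 2) t = t) :
    e6Words K q = twWords chevE6 (fun i => [5, 1, 4, 3, 2, 0].getD i 0) f clsE6 := by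
  ext w
  unfold e6Words twWords
  constructor
  · rintro (⟨t, ht, r, hr, rfl⟩ | ⟨t, rs, hrs, rfl⟩)
    · have hadm : Adm f 1 t := (adm_one_iff f t).mpr ((hf t).trans ht)
      simp only [List.mem_cons, List.not_mem_nil, or_false] at hr
      rcases hr with rfl | rfl | rfl | rfl
      · exact ⟨(1, 1), by simp, t, hadm, Or.inl (by rw [upWord_one, clsRoot_E6_10])⟩
      · exact ⟨(1, 1), by simp, t, hadm, Or.inr (by rw [loWord_one, clsRoot_E6_10, neg_E6_p2])⟩
      · exact ⟨(3, 1), by simp, t, hadm, Or.inl (by rw [upWord_one, clsRoot_E6_30])⟩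
      · exact ⟨(3, 1), by simp, t, hadm, Or.inr (by rw [loWord_one, clsRoot_E6_30, neg_E6_p4])⟩
    · have hadm : Adm f 2 t := hf2 t
      simp only [List.mem_cons, List.not_mem_nil, or_false] at hrs
      rcases hrs with rfl | rfl | rfl | rfl
      · exact ⟨(0, 2), by simp, t, hadm,
          Or.inl (by rw [upWord_two, clsRoot_E6_00, clsRoot_E6_01, hf])⟩
      · exact ⟨(0, 2), by simp, t, hadm,
          Or.inr (by rw [loWord_two, clsRoot_E6_00, clsRoot_E6_01, neg_E6_p1, neg_E6_p6, hf])⟩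
      · exact ⟨(2, 2), by simp, t, hadm,
          Or.inl (by rw [upWord_two, clsRoot_E6_20, clsRoot_E6_21, hf])⟩
      · exact ⟨(2, 2), by simp, t, hadm,
          Or.inr (by rw [loWord_two, clsRoot_E6_20, clsRoot_E6_21, neg_E6_p3, neg_E6_p5, hf])⟩
  · rintro ⟨c, hc, t, hadm, hw⟩
    simp only [List.mem_cons, List.not_mem_nil, or_false] at hc
    rcases hc with rfl | rfl | rfl | rfl
    · left
      have ht : t ^ q = t := by rw [← hf]; exact (adm_one_iff f t).mp hadm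
      rcases hw with rfl | rfl
      · exact ⟨t, ht, e6p2, by simp, by rw [upWord_one, clsRoot_E6_10]⟩
      · exact ⟨t, ht, e6m2, by simp, by rw [loWord_one, clsRoot_E6_10, neg_E6_p2]⟩
    · left
      have ht : t ^ q = t := by rw [← hf]; exact (adm_one_iff f t).mp hadm
      rcases hw with rfl | rfl
      · exact ⟨t, ht, e6p4, by simp, by rw [upWord_one, clsRoot_E6_30]⟩
      · exact ⟨t, ht, e6m4, by simp, by rw [loWord_one, clsRoot_E6_30, neg_E6_p4]⟩
    · right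
      rcases hw with rfl | rfl
      · exact ⟨t, (e6p1, e6p6), by simp, by rw [upWord_two, clsRoot_E6_00, clsRoot_E6_01, hf]⟩
      · exact ⟨t, (e6m1, e6m6), by simp,
          by rw [loWord_two, clsRoot_E6_00, clsRoot_E6_01, neg_E6_p1, neg_E6_p6, hf]⟩
    · right
      rcases hw with rfl | rfl
      · exact ⟨t, (e6p3, e6p5), by simp, by rw [upWord_two, clsRoot_E6_20, clsRoot_E6_21, hf]⟩
      · exact ⟨t, (e6m3, e6m5), by simp,
          by rw [loWord_two, clsRoot_E6_20, clsRoot_E6_21, neg_E6_p3, neg_E6_p5, hf]⟩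

/-- `²E₆(q)` is a twisted group in the sense of this development. -/
theorem twistedE6_eq {K : Type*} [Field K] [Fintype K] {q : ℕ} (hq : IsPrimePow q)
    (hK : Fintype.card K = q ^ 2) :
    ∃ f : K ≃+* K, (∀ t, f t = t ^ q) ∧ (∀ t, (((f : K →+* K)) ^ 2) t = t) ∧
      twistedE6 K q = twGroup good2_E6 T3_E6 T4_E6 T19_E6 f := by
  obtain ⟨f, hf, hf2⟩ := exists_frobEquiv hq hK
  refine ⟨f, hf, hf2, ?_⟩
  rw [twGroup_eq_genSubgroup, ← e6Words_eq f hf hf2]
  rfl

set_option maxRecDepth 1000000 in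
set_option maxHeartbeats 0 in
theorem ST_E6_1fast : fastE6.SingleTerm
    (fastE6.reflWord ([((3 : ℕ), (1 : ℕ))].flatMap (clsWord (fun i => [5, 1, 4, 3, 2, 0].getD i 0)))
      (chevE6.simple 1)) (chevE6.simple 1)
    (fastE6.reflWord ([((1 : ℕ), (1 : ℕ)), (3, 1)].flatMap
      (clsWord (fun i => [5, 1, 4, 3, 2, 0].getD i 0))) (chevE6.simple 1)) (-1) := by decide +kernel

theorem ST_E6_1 : (tabOf chevE6).SingleTerm
    ((tabOf chevE6).reflWord ([((3 : ℕ), (1 : ℕ))].flatMap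
      (clsWord (fun i => [5, 1, 4, 3, 2, 0].getD i 0))) (chevE6.simple 1)) (chevE6.simple 1)
    ((tabOf chevE6).reflWord ([((1 : ℕ), (1 : ℕ)), (3, 1)].flatMap
      (clsWord (fun i => [5, 1, 4, 3, 2, 0].getD i 0))) (chevE6.simple 1)) (-1) :=
  tab_E6 ▸ ST_E6_1fast

set_option maxRecDepth 1000000 in
set_option maxHeartbeats 0 in
theorem ST_E6_3fast : fastE6.SingleTerm
    (fastE6.reflWord ([((1 : ℕ), (1 : ℕ))].flatMap (clsWord (fun i => [5, 1, 4, 3, 2, 0].getD i 0)))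
      (chevE6.simple 3)) (chevE6.simple 3)
    (fastE6.reflWord ([((3 : ℕ), (1 : ℕ)), (1, 1)].flatMap
      (clsWord (fun i => [5, 1, 4, 3, 2, 0].getD i 0))) (chevE6.simple 3)) 1 := by decide +kernel

theorem ST_E6_3 : (tabOf chevE6).SingleTerm
    ((tabOf chevE6).reflWord ([((1 : ℕ), (1 : ℕ))].flatMap
      (clsWord (fun i => [5, 1, 4, 3, 2, 0].getD i 0))) (chevE6.simple 3)) (chevE6.simple 3)
    ((tabOf chevE6).reflWord ([((3 : ℕ), (1 : ℕ)), (1, 1)].flatMap
      (clsWord (fun i => [5, 1, 4, 3, 2, 0].getD i 0))) (chevE6.simple 3)) 1 :=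
  tab_E6 ▸ ST_E6_3fast

/-- `²E₆(q)` is perfect. -/
theorem twE6_perfect {K : Type*} [Field K] [Fintype K] (hK4 : 4 ≤ Fintype.card K) (f : K ≃+* K)
    (hf2 : ∀ t, (((f : K →+* K)) ^ 2) t = t) :
    commutator ↥(twGroup good2_E6 T3_E6 T4_E6 T19_E6 f) = ⊤ := by
  obtain ⟨a, ha0, ha1⟩ := exists_sq_ne_one hK4
  have hup : ∀ (c : ℕ × ℕ) (hc : c ∈ clsE6) (t : K), Adm f c.2 t →
      clsHom good2_E6 T3_E6 T4_E6 T19_E6 f hc (upperSL t) ∈
        twDer good2_E6 T3_E6 T4_E6 T19_E6 f := by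
    intro c hc t ht
    have hc' := hc
    simp only [List.mem_cons, List.not_mem_nil, or_false] at hc'
    rcases hc' with rfl | rfl | rfl | rfl
    · exact upper_mem_twDer_of_comm good2_E6 T3_E6 T4_E6 T19_E6 f hc (by decide)
        (wa := [(1, 1), (3, 1)]) (wb := [(3, 1)]) (by decide) (by decide) ST_E6_1 (Or.inr rfl) ht
    · exact upper_mem_twDer_of_comm good2_E6 T3_E6 T4_E6 T19_E6 f hc (by decide)
        (wa := [(3, 1), (1, 1)]) (wb := [(1, 1)]) (by decide) (by decide) ST_E6_3 (Or.inl rfl) ht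
    · exact upper_mem_twDer_of_torus good2_E6 T3_E6 T4_E6 T19_E6 f hc ha0 ha1 (hf2 a) ht
    · exact upper_mem_twDer_of_torus good2_E6 T3_E6 T4_E6 T19_E6 f hc ha0 ha1 (hf2 a) ht
  apply commutator_eq_top_of_le_twDer
  change Subgroup.closure (twGen good2_E6 T3_E6 T4_E6 T19_E6 f) ≤ _
  rw [Subgroup.closure_le]
  rintro g ⟨c, hc, t, ht, rfl | rfl⟩
  · exact hup c hc t ht
  · exact lower_mem_twDer_of_upper good2_E6 T3_E6 T4_E6 T19_E6 f hc (hup c hc (-t) ht.neg)

set_option maxRecDepth 1000000 in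
set_option maxHeartbeats 0 in
theorem TwChainfast_E6 : fastE6.TwChain (fun i => [5, 1, 4, 3, 2, 0].getD i 0) clsE6
    [(1, 1), (3, 1), (2, 2), (0, 2)] := by decide +kernel

theorem TwChain_E6 : (tabOf chevE6).TwChain (fun i => [5, 1, 4, 3, 2, 0].getD i 0) clsE6
    [(1, 1), (3, 1), (2, 2), (0, 2)] := tab_E6 ▸ TwChainfast_E6

/-- `²E₆(q)` is simple. -/
theorem twE6_simple {K : Type*} [Field K] [Fintype K] (hK4 : 4 ≤ Fintype.card K) (f : K ≃+* K)
    (hf2 : ∀ t, (((f : K →+* K)) ^ 2) t = t) :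
    IsSimpleGroup ↥(twGroup good2_E6 T3_E6 T4_E6 T19_E6 f) ∧
      ¬ IsMulCommutative ↥(twGroup good2_E6 T3_E6 T4_E6 T19_E6 f) :=
  tw_isSimpleGroup good2_E6 T0_E6 T3_E6 T4_E6 T5_E6 T6_E6 T7_E6 T8_E6 T9_E6 T18_E6 T19_E6 T20_E6 f
    TwChain_E6 w0clsE6_mem W0cls_E6 (c₀ := (1, 1)) (by decide) (twE6_perfect hK4 f hf2)

end Cfsg.Agent.Helper7.Chev
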