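import Mathlib
import Cfsg.Agent.Helper7.ChevTwH1

set_option autoImplicit false
set_option linter.unusedSectionVars false
set_option linter.unusedVariables false

/-!
Twisted groups: `H ⊓ G¹` is the image of the fixed parameters, and its order.
-/

namespace Cfsg.Agent.Helper7.Chev

open Cfsg Cfsg.Lie Matrix

section zact

variable {G : Type*} [CommGroup G] {l : ℕ}

/-- The kernel of an integer matrix with a given Smith normal form acting on tuples. -/
theorem zact_ker_iff {C P Q P' Q' : Matrix (Fin l) (Fin l) ℤ} {d : Fin l → ℕ}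
    (h : P * C * Q = Matrix.diagonal (fun i => (d i : ℤ))) (hP : P * P' = 1) (hQ : Q * Q' = 1)
    (c : Fin l → G) : zact C c = 1 ↔ ∀ i, (zact P' c) i ^ d i = 1 := by
  have hP' : P' * P = 1 := mul_eq_one_comm.mp hP
  have e1 : zact (Matrix.diagonal (fun i => (d i : ℤ))) (zact P' c) = zact Q (zact C c) := by
    rw [← zact_mul, ← h, ← zact_mul]
    congr 1
    rw [← Matrix.mul_assoc, ← Matrix.mul_assoc, hP', Matrix.one_mul]
  constructor
  · intro hc i
    have := congrFun e1 i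
    rw [zact_diagonal, hc, map_one] at this
    simpa using this
  · intro hc
    apply zact_injective_of_mul_eq_one hQ
    rw [map_one, ← e1]
    funext i
    rw [zact_diagonal]
    simpa using hc i

/-- The elements of the kernel are the images of the tuples of roots of unity. -/
theorem zact_ker_eq {C P Q P' Q' : Matrix (Fin l) (Fin l) ℤ} {d : Fin l → ℕ}
    (h : P * C * Q = Matrix.diagonal (fun i => (d i : ℤ))) (hP : P * P' = 1) (hQ : Q * Q' = 1)
    {c : Fin l → G} (hc : zact C c = 1) :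
    ∃ e : Fin l → G, (∀ i, e i ^ d i = 1) ∧ c = zact P e := by
  have hP' : P' * P = 1 := mul_eq_one_comm.mp hP
  refine ⟨zact P' c, (zact_ker_iff h hP hQ c).mp hc, ?_⟩
  rw [← zact_mul, hP', zact_one]

/-- The exponent of the kernel. -/
theorem zact_ker_pow {C P Q P' Q' : Matrix (Fin l) (Fin l) ℤ} {d : Fin l → ℕ}
    (h : P * C * Q = Matrix.diagonal (fun i => (d i : ℤ))) (hP : P * P' = 1) (hQ : Q * Q' = 1)
    {n : ℕ} (hn : ∀ i, d i ∣ n) {c : Fin l → G} (hc : zact C c = 1) : c ^ n = 1 := by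
  obtain ⟨e, he, rfl⟩ := zact_ker_eq h hP hQ hc
  rw [← map_pow]
  have : e ^ n = 1 := by
    funext i
    obtain ⟨k, hk⟩ := hn i
    rw [Pi.pow_apply, hk, pow_mul, he i, one_pow]
    rfl
  rw [this, map_one]

end zact

variable {D : ChevalleyDatum} {K : Type*} [Field K]

section main

variable (hG : Good2 D) (hT : T0 D) (h3 : (tabOf D).T3) (h4 : (tabOf D).T4 60)
  {ρ ρ' σ σ' : ℕ → ℕ} {ε : ℕ → ℤ} (h18 : T18 D ρ ρ' σ σ' ε) {cls : List (ℕ × ℕ)}
  (h19 : T19 D ρ σ cls) (f : K ≃+* K)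

include h18 in
/-- `H ⊓ G¹` is the image of the fixed parameters. -/
theorem diagonal_inf_twGroup (hperm : ((List.range D.rank).map ρ).Perm (List.range D.rank))
    (hcls : (cls.flatMap (clsWord ρ)).Perm (List.range D.rank))
    (hv : ∀ c : Fin D.rank → Kˣ, torusHom D K (sigC h18 f c) = torusHom D K c →
      ∃ c', sigC h18 f c' = c' ∧ torusHom D K c' = torusHom D K c) :
    D.diagonalSubgroup K ⊓ twGroup hG h3 h4 h19 f = (sigFix h18 f).map (torusHom D K) := by
  have hG1 := hG.toGood1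
  apply le_antisymm
  · intro g hg
    obtain ⟨hgH, hgG⟩ := Subgroup.mem_inf.mp hg
    rw [← torusHom_range hG1] at hgH
    obtain ⟨c, rfl⟩ := hgH
    have hfix : twAut h18 f (torusHom D K c) = torusHom D K c :=
      twGroup_le_twFix hG h3 h4 h18 h19 f hgG
    rw [twAut_torusHom hG h18 f hperm] at hfix
    obtain ⟨c', hc', e⟩ := hv c hfix
    exact ⟨c', hc', e⟩
  · rintro _ ⟨c, hc, rfl⟩
    exact Subgroup.mem_inf.mpr ⟨tGL_mem hG1 c,
      torusHom_mem_twGroup hG h3 h4 h18 h19 f hcls hc⟩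

include h18 in
/-- The order of `H ⊓ G¹`. -/
theorem card_diagonal_inf_twGroup [Finite K]
    (hperm : ((List.range D.rank).map ρ).Perm (List.range D.rank))
    (hcls : (cls.flatMap (clsWord ρ)).Perm (List.range D.rank))
    (hv : ∀ c : Fin D.rank → Kˣ, torusHom D K (sigC h18 f c) = torusHom D K c →
      ∃ c', sigC h18 f c' = c' ∧ torusHom D K c' = torusHom D K c) :
    Nat.card {c : Fin D.rank → Kˣ // sigC h18 f c = c ∧ torusHom D K c = 1} *
        Nat.card ↥(D.diagonalSubgroup K ⊓ twGroup hG h3 h4 h19 f) =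
      Nat.card {c : Fin D.rank → Kˣ // sigC h18 f c = c} := by
  rw [diagonal_inf_twGroup hG h3 h4 h18 h19 f hperm hcls hv]
  set φ : ↥(sigFix h18 f) →* GL D.Idx K := (torusHom D K).comp (sigFix h18 f).subtype with hφ
  have hrange : φ.range = (sigFix h18 f).map (torusHom D K) := by
    rw [hφ, MonoidHom.range_comp, Subgroup.range_subtype]
  have hker : Nat.card φ.ker =
      Nat.card {c : Fin D.rank → Kˣ // sigC h18 f c = c ∧ torusHom D K c = 1} := by
    apply Nat.card_congr
    exact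
      { toFun := fun x => ⟨x.1.1, x.1.2, x.2⟩
        invFun := fun y => ⟨⟨y.1, y.2.1⟩, y.2.2⟩
        left_inv := fun _ => rfl
        right_inv := fun _ => rfl }
  have hdom : Nat.card ↥(sigFix h18 f) = Nat.card {c : Fin D.rank → Kˣ // sigC h18 f c = c} := rfl
  rw [← hrange, ← hker, ← hdom, ← Subgroup.index_ker, Subgroup.card_mul_index]

end main

/-! ### The vanishing of the obstruction -/

section vanish

variable {ρ ρ' σ σ' : ℕ → ℕ} {ε : ℕ → ℤ} (h18 : T18 D ρ ρ' σ σ' ε) (f : K ≃+* K)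

/-- The case of a twisting automorphism of order two and a kernel of exponent three. -/
theorem vanish_two (hinv : ∀ c, sigC h18 f (sigC h18 f c) = c)
    (hexp : ∀ z : Fin D.rank → Kˣ, torusHom D K z = 1 → z ^ 3 = 1)
    (c : Fin D.rank → Kˣ) (hc : torusHom D K (sigC h18 f c) = torusHom D K c) :
    ∃ c', sigC h18 f c' = c' ∧ torusHom D K c' = torusHom D K c := by
  obtain ⟨z, hz⟩ : ∃ z, z = sigC h18 f c * c⁻¹ := ⟨_, rfl⟩
  have hzker : torusHom D K z = 1 := by
    rw [hz, map_mul, map_inv, hc, mul_inv_cancel]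
  have hz3 : z ^ 3 = 1 := hexp z hzker
  have hsc : sigC h18 f c = z * c := by rw [hz, inv_mul_cancel_right]
  obtain ⟨z1, hz1⟩ : ∃ z1, z1 = sigC h18 f z := ⟨_, rfl⟩
  have hsz : z1 * z = 1 := by
    have h1 := hinv c
    rw [hsc, map_mul, hsc, ← hz1, ← mul_assoc] at h1
    exact mul_right_cancel (h1.trans (one_mul c).symm)
  have hz1' : z1 = z ^ 2 := by
    have e1 : z1 = z⁻¹ := eq_inv_of_mul_eq_one_left hsz
    have e2 : z ^ 2 * z = 1 := by rw [← pow_succ]; exact hz3
    rw [e1]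
    exact (eq_inv_of_mul_eq_one_left e2).symm
  refine ⟨c * z ^ 2, ?_, ?_⟩
  · rw [map_mul, map_pow, hsc, ← hz1, hz1']
    have e3 : (z ^ 2) ^ 2 = z := by
      calc (z ^ 2) ^ 2 = z ^ 3 * z := by rw [← pow_mul, pow_succ z 3]
        _ = z := by rw [hz3, one_mul]
    rw [e3, mul_comm z c, mul_assoc, ← sq]
  · rw [map_mul, map_pow, hzker, one_pow, mul_one]

/-- The case of a twisting automorphism of order three and a kernel of exponent two. -/
theorem vanish_three (hinv : ∀ c, sigC h18 f (sigC h18 f (sigC h18 f c)) = c)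
    (hexp : ∀ z : Fin D.rank → Kˣ, torusHom D K z = 1 → z ^ 2 = 1)
    (hker : ∀ z : Fin D.rank → Kˣ, torusHom D K z = 1 → torusHom D K (sigC h18 f z) = 1)
    (c : Fin D.rank → Kˣ) (hc : torusHom D K (sigC h18 f c) = torusHom D K c) :
    ∃ c', sigC h18 f c' = c' ∧ torusHom D K c' = torusHom D K c := by
  obtain ⟨z, hz⟩ : ∃ z, z = sigC h18 f c * c⁻¹ := ⟨_, rfl⟩
  have hzker : torusHom D K z = 1 := by
    rw [hz, map_mul, map_inv, hc, mul_inv_cancel]
  have hsc : sigC h18 f c = z * c := by rw [hz, inv_mul_cancel_right]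
  obtain ⟨z1, hz1⟩ : ∃ z1, z1 = sigC h18 f z := ⟨_, rfl⟩
  obtain ⟨z2, hz2⟩ : ∃ z2, z2 = sigC h18 f z1 := ⟨_, rfl⟩
  have hnorm : z2 * (z1 * z) = 1 := by
    have h1 := hinv c
    rw [hsc, map_mul, hsc, ← hz1, map_mul, map_mul, hsc, ← hz1, ← hz2, ← mul_assoc, ← mul_assoc] at h1
    rw [← mul_assoc]
    exact mul_right_cancel (h1.trans (one_mul c).symm)
  have hz1sq : z1 * z1 = 1 := by rw [← sq, hz1]; exact hexp _ (hker z hzker)
  have e : z * z2 = z1 := by
    have e1 : (z * z2) * z1 = 1 := by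
      rw [← hnorm, mul_comm z z2, mul_assoc, mul_comm z z1]
    rw [eq_inv_of_mul_eq_one_left e1]
    exact (eq_inv_of_mul_eq_one_left hz1sq).symm
  refine ⟨c * z1, ?_, ?_⟩
  · rw [map_mul, hsc, ← hz2, mul_comm z c, mul_assoc, e]
  · rw [map_mul, hz1, hker z hzker, mul_one]

end vanish

end Cfsg.Agent.Helper7.Chev
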