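import Mathlib
import Cfsg.Agent.Helper7.ChevTwH2
import Cfsg.Agent.Helper7.ChevTwU4

set_option autoImplicit false
set_option linter.unusedSectionVars false
set_option linter.unusedVariables false

/-!
Twisted groups: auxiliary facts on the action of the twisting automorphism on the parameters of the torus.
-/

namespace Cfsg.Agent.Helper7.Chev

open Cfsg Cfsg.Lie Matrix

variable {D : ChevalleyDatum} {K : Type*} [Field K]

section sig

variable {ρ ρ' σ σ' : ℕ → ℕ} {ε : ℕ → ℤ} (h18 : T18 D ρ ρ' σ σ' ε) (f : K ≃+* K)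

theorem sigC_val (c : Fin D.rank → Kˣ) (i : Fin D.rank) :
    (sigC h18 f c) i = Units.map ((f : K →+* K) : K →* K) (c ⟨ρ' i.val, (h18.rho i.val i.2).2.1⟩) := rfl

/-- The fixed tuples of parameters, pointwise. -/
theorem sigC_eq_iff (c : Fin D.rank → Kˣ) :
    sigC h18 f c = c ↔ ∀ i (hi : i < D.rank),
      f ((c ⟨ρ' i, (h18.rho i hi).2.1⟩ : Kˣ) : K) = ((c ⟨i, hi⟩ : Kˣ) : K) := by
  constructor
  · intro h i hi
    have := congrFun h ⟨i, hi⟩
    rw [← this]
    rfl
  · intro h
    funext i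
    apply Units.ext
    exact h i.val i.2

/-- The twisting automorphism has order two on the parameters. -/
theorem sigC_sigC (hρ : ∀ i < D.rank, ρ' (ρ' i) = i) (hf2 : ∀ t, (((f : K →+* K)) ^ 2) t = t)
    (c : Fin D.rank → Kˣ) : sigC h18 f (sigC h18 f c) = c := by
  funext i
  apply Units.ext
  rw [sigC_apply, sigC_apply]
  have := hf2 ((c i : Kˣ) : K)
  rw [pow_two] at this
  change f (f _) = _
  have e : (⟨ρ' (ρ' i.val), (h18.rho (ρ' i.val) (h18.rho i.val i.2).2.1).2.1⟩ : Fin D.rank) = i :=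
    Fin.ext (hρ i.val i.2)
  rw [e]
  exact this

/-- The twisting automorphism has order three on the parameters. -/
theorem sigC_sigC_sigC (hρ : ∀ i < D.rank, ρ' (ρ' (ρ' i)) = i)
    (hf3 : ∀ t, (((f : K →+* K)) ^ 3) t = t) (c : Fin D.rank → Kˣ) :
    sigC h18 f (sigC h18 f (sigC h18 f c)) = c := by
  funext i
  apply Units.ext
  rw [sigC_apply, sigC_apply, sigC_apply]
  have := hf3 ((c i : Kˣ) : K)
  rw [pow_succ, pow_two] at this
  change f (f (f _)) = _
  have e : (⟨ρ' (ρ' (ρ' i.val)), (h18.rho (ρ' (ρ' i.val))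
      (h18.rho (ρ' i.val) (h18.rho i.val i.2).2.1).2.1).2.1⟩ : Fin D.rank) = i :=
    Fin.ext (hρ i.val i.2)
  rw [e]
  exact this

end sig

section smith

variable (hG : Good1 D) {R P Q P' Q' : ℕ → ℕ → ℤ} {d : ℕ → ℕ} (h17 : T17 D R P Q P' Q' d)

include hG h17 in
/-- The kernel of the torus, in terms of the Smith normal form of the Cartan matrix. -/
theorem torusHom_ker_smith {z : Fin D.rank → Kˣ} (hz : torusHom D K z = 1) :
    ∃ e : Fin D.rank → Kˣ, (∀ i, e i ^ d i.val = 1) ∧ z = zact (toM D.rank D.rank P) e := by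
  rw [torusHom_ker, zact_cartanM_iff hG h17] at hz
  have hS : toM D.rank D.rank P * cartanC D * toM D.rank D.rank Q =
      Matrix.diagonal (fun i : Fin D.rank => (d i.val : ℤ)) := by
    unfold cartanC
    rw [toM_mul, toM_mul]
    exact toM_diagonal h17.smith
  have hP : toM D.rank D.rank P * toM D.rank D.rank P' = 1 := by
    rw [toM_mul]; exact toM_one h17.invP
  have hQ : toM D.rank D.rank Q * toM D.rank D.rank Q' = 1 := by
    rw [toM_mul]; exact toM_one h17.invQ
  exact zact_ker_eq hS hP hQ hz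

include hG h17 in
/-- The exponent of the kernel of the torus. -/
theorem torusHom_ker_pow {n : ℕ} (hn : ∀ i < D.rank, d i ∣ n) {z : Fin D.rank → Kˣ}
    (hz : torusHom D K z = 1) : z ^ n = 1 := by
  obtain ⟨e, he, rfl⟩ := torusHom_ker_smith hG h17 hz
  rw [← map_pow]
  have : e ^ n = 1 := by
    funext i
    obtain ⟨k, hk⟩ := hn i.val i.2
    rw [Pi.pow_apply, hk, pow_mul, he i, one_pow]
    rfl
  rw [this, map_one]

end smith

section units

variable [Fintype K]

/-- The number of fixed points of `a ↦ a ^ q` among the units of a field with `q ^ n` elements. -/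
theorem card_units_pow_eq_self {q n : ℕ} (hq : 2 ≤ q) (hn : 0 < n) (hK : Fintype.card K = q ^ n) :
    Nat.card {a : Kˣ // a ^ q = a} = q - 1 := by
  classical
  have hunits : Nat.card Kˣ = q ^ n - 1 := by
    rw [Nat.card_eq_fintype_card, Fintype.card_units, hK]
  have hdvd : q - 1 ∣ q ^ n - 1 := by
    have := Nat.sub_dvd_pow_sub_pow q 1 n
    rwa [one_pow] at this
  have h1 : Nat.card {g : Kˣ // g ^ (q - 1) = 1} = q - 1 := by
    rw [card_pow_eq_one_subtype, hunits]
    exact Nat.gcd_eq_right hdvd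
  rw [← h1]
  apply Nat.card_congr
  apply Equiv.subtypeEquivRight
  intro a
  have e : a ^ q = a ^ (q - 1) * a := by rw [← pow_succ]; congr 1; omega
  rw [e]
  exact mul_eq_right

/-- The fixed units of the field automorphism `t ↦ t ^ q`. -/
theorem card_units_fixed {q n : ℕ} (hq : 2 ≤ q) (hn : 0 < n) (hK : Fintype.card K = q ^ n)
    {f : K ≃+* K} (hf : ∀ t, f t = t ^ q) :
    Nat.card {a : Kˣ // Units.map ((f : K →+* K) : K →* K) a = a} = q - 1 := by
  rw [← card_units_pow_eq_self hq hn hK]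
  apply Nat.card_congr
  apply Equiv.subtypeEquivRight
  intro a
  rw [Units.ext_iff, Units.ext_iff, Units.val_pow_eq_pow_val, ← hf]
  rfl

end units

end Cfsg.Agent.Helper7.Chev
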