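import Mathlib
import Cfsg.Agent.Helper7.ChevTwH3
import Cfsg.Agent.Helper7.ChevTwE6
import Cfsg.Agent.Helper7.ChevT17

set_option autoImplicit false
set_option linter.unusedSectionVars false
set_option linter.unusedVariables false

/-!
The order of `H¹ = H ⊓ G¹` for `²E₆(q)`.
-/

namespace Cfsg.Agent.Helper7.Chev

open Cfsg Cfsg.Lie Matrix

theorem rhoperm_E6 : ((List.range chevE6.rank).map (fun i => [5, 1, 4, 3, 2, 0].getD i 0)).Perm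
    (List.range chevE6.rank) := by decide

theorem clsperm_E6 : (clsE6.flatMap (clsWord (fun i => [5, 1, 4, 3, 2, 0].getD i 0))).Perm
    (List.range chevE6.rank) := by decide

section

variable {K : Type*} [Field K] (f : K ≃+* K)

/-- The pattern of the elements of the kernel of the torus of `E₆`. -/
def patE6 (ζ : Kˣ) : Fin chevE6.rank → Kˣ := fun i => [ζ, 1, ζ ^ 2, 1, ζ, ζ ^ 2].getD i.val 1

theorem zpow_of_pow_three {ζ : Kˣ} (h : ζ ^ 3 = 1) (a b : ℤ) (hab : a = b + 3 * ((a - b) / 3)) :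
    ζ ^ a = ζ ^ b := by
  have h3 : ζ ^ (3 : ℤ) = 1 := by exact_mod_cast h
  rw [hab, _root_.zpow_add, _root_.zpow_mul, h3, _root_.one_zpow, mul_one]

/-- The kernel of the torus of `E₆`. -/
theorem ker_E6 {c : Fin chevE6.rank → Kˣ} (hc : torusHom chevE6 K c = 1) :
    ∃ ζ : Kˣ, ζ ^ 3 = 1 ∧ c = patE6 ζ := by
  obtain ⟨e, he, rfl⟩ : ∃ e : Fin 6 → Kˣ, (∀ i : Fin 6, e i ^ t17d_E6 i.val = 1) ∧
      c = zact (toM 6 6 (tabZ t17P_E6)) e := torusHom_ker_smith good1_E6 T17_E6 hc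
  have h0 : e 0 = 1 := by simpa [t17d_E6] using he 0
  have h1 : e 1 = 1 := by simpa [t17d_E6] using he 1
  have h2 : e 2 = 1 := by simpa [t17d_E6] using he 2
  have h3 : e 3 = 1 := by simpa [t17d_E6] using he 3
  have h4 : e 4 = 1 := by simpa [t17d_E6] using he 4
  have h5 : e 5 ^ 3 = 1 := by simpa [t17d_E6] using he 5
  refine ⟨e 5, h5, ?_⟩
  have goal : ∀ j : Fin 6, zact (toM 6 6 (tabZ t17P_E6)) e j = patE6 (e 5) j := ?_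
  · exact funext goal
  intro j
  rw [zact_apply]
  have hprod : ∀ j : Fin 6, (∏ i : Fin 6, e i ^ toM 6 6 (tabZ t17P_E6) i j) =
      e 5 ^ toM 6 6 (tabZ t17P_E6) 5 j := by
    intro j
    rw [Fin.prod_univ_six, h0, h1, h2, h3, h4]
    simp
  change (∏ i : Fin 6, e i ^ toM 6 6 (tabZ t17P_E6) i j) = _
  rw [hprod]
  fin_cases j
  · change e 5 ^ (-5 : ℤ) = e 5
    rw [zpow_of_pow_three h5 (-5) 1 (by norm_num), zpow_one]
  · change e 5 ^ (0 : ℤ) = 1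
    rw [zpow_zero]
  · change e 5 ^ (-4 : ℤ) = e 5 ^ 2
    rw [zpow_of_pow_three h5 (-4) 2 (by norm_num)]
    norm_cast
  · change e 5 ^ (-3 : ℤ) = 1
    rw [zpow_of_pow_three h5 (-3) 0 (by norm_num), zpow_zero]
  · change e 5 ^ (-2 : ℤ) = e 5
    rw [zpow_of_pow_three h5 (-2) 1 (by norm_num), zpow_one]
  · change e 5 ^ (-1 : ℤ) = e 5 ^ 2
    rw [zpow_of_pow_three h5 (-1) 2 (by norm_num)]
    norm_cast

theorem cartanC_E6 : ∀ i j : Fin 6, cartanC chevE6 i j =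
    ([[2, 0, -1, 0, 0, 0], [0, 2, 0, -1, 0, 0], [-1, 0, 2, -1, 0, 0], [0, -1, -1, 2, -1, 0],
      [0, 0, 0, -1, 2, -1], [0, 0, 0, 0, -1, 2]].getD i.val []).getD j.val 0 := by
  intro i j
  fin_cases i <;> fin_cases j <;> rfl

/-- The elements of the pattern lie in the kernel of the torus. -/
theorem patE6_ker {ζ : Kˣ} (h : ζ ^ 3 = 1) : torusHom chevE6 K (patE6 ζ) = 1 := by
  rw [torusHom_ker, zact_cartanM_iff good1_E6 T17_E6]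
  have h3 : ζ ^ (3 : ℤ) = 1 := by exact_mod_cast h
  have key : ∀ j : Fin 6, (∏ i : Fin 6, patE6 ζ i ^ cartanC chevE6 i j) = 1 := by
    intro j
    rw [Fin.prod_univ_six]
    simp only [cartanC_E6]
    fin_cases j
    · change ζ ^ (2 : ℤ) * 1 ^ (0 : ℤ) * (ζ ^ 2) ^ (-1 : ℤ) * 1 ^ (0 : ℤ) * ζ ^ (0 : ℤ) *
        (ζ ^ 2) ^ (0 : ℤ) = 1
      simp
    · change ζ ^ (0 : ℤ) * 1 ^ (2 : ℤ) * (ζ ^ 2) ^ (0 : ℤ) * 1 ^ (-1 : ℤ) * ζ ^ (0 : ℤ) *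
        (ζ ^ 2) ^ (0 : ℤ) = 1
      simp
    · change ζ ^ (-1 : ℤ) * 1 ^ (0 : ℤ) * (ζ ^ 2) ^ (2 : ℤ) * 1 ^ (-1 : ℤ) * ζ ^ (0 : ℤ) *
        (ζ ^ 2) ^ (0 : ℤ) = 1
      have : ζ ^ (-1 : ℤ) * (ζ ^ 2) ^ (2 : ℤ) = ζ ^ (3 : ℤ) := by
        rw [← zpow_natCast ζ 2, ← _root_.zpow_mul, ← _root_.zpow_add]
        norm_num
      simp only [_root_.one_zpow, _root_.zpow_zero, mul_one]
      rw [this, h3]
    · change ζ ^ (0 : ℤ) * 1 ^ (-1 : ℤ) * (ζ ^ 2) ^ (-1 : ℤ) * 1 ^ (2 : ℤ) * ζ ^ (-1 : ℤ) *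
        (ζ ^ 2) ^ (0 : ℤ) = 1
      have : (ζ ^ 2) ^ (-1 : ℤ) * ζ ^ (-1 : ℤ) = (ζ ^ (3 : ℤ))⁻¹ := by
        rw [← zpow_natCast ζ 2, ← _root_.zpow_mul, ← _root_.zpow_add, ← _root_.zpow_neg]
        norm_num
      simp only [_root_.one_zpow, _root_.zpow_zero, mul_one, one_mul]
      rw [this, h3, inv_one]
    · change ζ ^ (0 : ℤ) * 1 ^ (0 : ℤ) * (ζ ^ 2) ^ (0 : ℤ) * 1 ^ (-1 : ℤ) * ζ ^ (2 : ℤ) *
        (ζ ^ 2) ^ (-1 : ℤ) = 1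
      simp
    · change ζ ^ (0 : ℤ) * 1 ^ (0 : ℤ) * (ζ ^ 2) ^ (0 : ℤ) * 1 ^ (0 : ℤ) * ζ ^ (-1 : ℤ) *
        (ζ ^ 2) ^ (2 : ℤ) = 1
      have : ζ ^ (-1 : ℤ) * (ζ ^ 2) ^ (2 : ℤ) = ζ ^ (3 : ℤ) := by
        rw [← zpow_natCast ζ 2, ← _root_.zpow_mul, ← _root_.zpow_add]
        norm_num
      simp only [_root_.one_zpow, _root_.zpow_zero, mul_one, one_mul]
      rw [this, h3]
  funext j
  rw [zact_apply]
  exact key j

end

end Cfsg.Agent.Helper7.Chev
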