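import Mathlib
import Cfsg.Agent.Helper7.ChevTwHE6

set_option autoImplicit false
set_option linter.unusedSectionVars false
set_option linter.unusedVariables false

/-!
The order of `H¹ = H ⊓ G¹` for `²E₆(q)`: the counts.
-/

namespace Cfsg.Agent.Helper7.Chev

open Cfsg Cfsg.Lie Matrix

section

variable {K : Type*} [Field K] (f : K ≃+* K)

/-- The field automorphism on the units. -/
noncomputable abbrev uF : Kˣ →* Kˣ := Units.map ((f : K →+* K) : K →* K)

theorem uF_uF (hf2 : ∀ t, (((f : K →+* K)) ^ 2) t = t) (a : Kˣ) : uF f (uF f a) = a := by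
  apply Units.ext
  have := hf2 (a : K)
  rw [pow_two] at this
  exact this

abbrev e6i0 : Fin chevE6.rank := ⟨0, by decide⟩
abbrev e6i1 : Fin chevE6.rank := ⟨1, by decide⟩
abbrev e6i2 : Fin chevE6.rank := ⟨2, by decide⟩
abbrev e6i3 : Fin chevE6.rank := ⟨3, by decide⟩
abbrev e6i4 : Fin chevE6.rank := ⟨4, by decide⟩
abbrev e6i5 : Fin chevE6.rank := ⟨5, by decide⟩

/-- The fixed tuples of parameters for `E₆`. -/
theorem sigC_fixed_E6 (c : Fin chevE6.rank → Kˣ) :
    sigC T18_E6 f c = c ↔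
      uF f (c e6i5) = c e6i0 ∧ uF f (c e6i1) = c e6i1 ∧ uF f (c e6i4) = c e6i2 ∧
        uF f (c e6i3) = c e6i3 ∧ uF f (c e6i2) = c e6i4 ∧ uF f (c e6i0) = c e6i5 := by
  constructor
  · intro h
    exact ⟨congrFun h e6i0, congrFun h e6i1, congrFun h e6i2, congrFun h e6i3, congrFun h e6i4,
      congrFun h e6i5⟩
  · rintro ⟨h0, h1, h2, h3, h4, h5⟩
    funext i
    obtain ⟨i, hi⟩ := i
    have hi' : i < 6 := hi
    interval_cases i
    · exact h0
    · exact h1
    · exact h2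
    · exact h3
    · exact h4
    · exact h5

/-- The fixed tuples of parameters for `E₆` are given by four parameters. -/
noncomputable def sigFixEquivE6 (hf2 : ∀ t, (((f : K →+* K)) ^ 2) t = t) :
    {c : Fin chevE6.rank → Kˣ // sigC T18_E6 f c = c} ≃
      {a : Kˣ // uF f a = a} × {a : Kˣ // uF f a = a} × Kˣ × Kˣ where
  toFun c := (⟨c.1 e6i1, ((sigC_fixed_E6 f c.1).mp c.2).2.1⟩,
    ⟨c.1 e6i3, ((sigC_fixed_E6 f c.1).mp c.2).2.2.2.1⟩, c.1 e6i0, c.1 e6i2)
  invFun p := ⟨fun i => [p.2.2.1, p.1.1, p.2.2.2, p.2.1.1, uF f p.2.2.2, uF f p.2.2.1].getD i.val 1, by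
    rw [sigC_fixed_E6]
    exact ⟨uF_uF f hf2 _, p.1.2, uF_uF f hf2 _, p.2.1.2, rfl, rfl⟩⟩
  left_inv c := by
    obtain ⟨h0, h1, h2, h3, h4, h5⟩ := (sigC_fixed_E6 f c.1).mp c.2
    apply Subtype.ext
    funext i
    obtain ⟨i, hi⟩ := i
    have hi' : i < 6 := hi
    interval_cases i
    · rfl
    · rfl
    · rfl
    · rfl
    · exact h4
    · exact h5
  right_inv p := by
    obtain ⟨⟨a1, h1⟩, ⟨a3, h3⟩, a0, a2⟩ := p
    rfl

end

section count

variable {K : Type*} [Field K] [Fintype K] {q : ℕ}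

/-- The number of the fixed tuples of parameters for `E₆`. -/
theorem card_sigFix_E6 (hq : 2 ≤ q) (hK : Fintype.card K = q ^ 2) {f : K ≃+* K}
    (hf : ∀ t, f t = t ^ q) (hf2 : ∀ t, (((f : K →+* K)) ^ 2) t = t) :
    Nat.card {c : Fin chevE6.rank → Kˣ // sigC T18_E6 f c = c} =
      (q - 1) * ((q - 1) * ((q ^ 2 - 1) * (q ^ 2 - 1))) := by
  classical
  have hu : Nat.card Kˣ = q ^ 2 - 1 := by
    rw [Nat.card_eq_fintype_card, Fintype.card_units, hK]
  rw [Nat.card_congr (sigFixEquivE6 f hf2), Nat.card_prod, Nat.card_prod, Nat.card_prod,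
    card_units_fixed hq (by norm_num) hK hf, hu]

end count

end Cfsg.Agent.Helper7.Chev
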