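import Mathlib
import Cfsg.Agent.Helper7.ChevTwHE6b

set_option autoImplicit false
set_option linter.unusedSectionVars false
set_option linter.unusedVariables false

/-!
The order of `H¹ = H ⊓ G¹` for `²E₆(q)`: the kernel and the result.
-/

namespace Cfsg.Agent.Helper7.Chev

open Cfsg Cfsg.Lie Matrix

section

variable {K : Type*} [Field K] {q : ℕ} (f : K ≃+* K)

theorem uF_eq_pow (hf : ∀ t, f t = t ^ q) (a : Kˣ) : uF f a = a ^ q := by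
  apply Units.ext
  rw [Units.val_pow_eq_pow_val, ← hf]
  rfl

theorem sq_eq_inv_of_cube {ζ : Kˣ} (h : ζ ^ 3 = 1) : ζ ^ 2 = ζ⁻¹ := by
  have : ζ ^ 2 * ζ = 1 := by rw [← pow_succ]; exact h
  exact eq_inv_of_mul_eq_one_left this

theorem uF_of_root (hf : ∀ t, f t = t ^ q) {ζ : Kˣ} (h3 : ζ ^ 3 = 1) (hq1 : ζ ^ (q + 1) = 1) :
    uF f ζ = ζ ^ 2 ∧ uF f (ζ ^ 2) = ζ := by
  have hA : uF f ζ = ζ ^ 2 := by
    rw [uF_eq_pow f hf, sq_eq_inv_of_cube h3]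
    have : ζ ^ q * ζ = 1 := by rw [← pow_succ]; exact hq1
    exact eq_inv_of_mul_eq_one_left this
  refine ⟨hA, ?_⟩
  rw [map_pow, hA, ← pow_mul]
  calc ζ ^ (2 * 2) = ζ ^ 3 * ζ := by rw [← pow_succ]
    _ = ζ := by rw [h3, one_mul]

/-- The fixed elements of the kernel of the torus of `E₆`. -/
noncomputable def kerFixEquivE6 (hf : ∀ t, f t = t ^ q) :
    {c : Fin chevE6.rank → Kˣ // sigC T18_E6 f c = c ∧ torusHom chevE6 K c = 1} ≃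
      {ζ : Kˣ // ζ ^ 3 = 1 ∧ ζ ^ (q + 1) = 1} where
  toFun c := ⟨c.1 e6i0, by
    obtain ⟨ζ, hζ, hc⟩ := ker_E6 c.2.2
    obtain ⟨h0, h1, h2, h3, h4, h5⟩ := (sigC_fixed_E6 f c.1).mp c.2.1
    rw [hc] at h5 ⊢
    change uF f ζ = ζ ^ 2 at h5
    change ζ ^ 3 = 1 ∧ ζ ^ (q + 1) = 1
    refine ⟨hζ, ?_⟩
    rw [pow_succ, ← uF_eq_pow f hf, h5, ← pow_succ]
    exact hζ⟩
  invFun ζ := ⟨patE6 ζ.1, by
    obtain ⟨hA, hB⟩ := uF_of_root f hf ζ.2.1 ζ.2.2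
    rw [sigC_fixed_E6]
    exact ⟨hB, map_one _, hA, map_one _, hB, hA⟩, patE6_ker ζ.2.1⟩
  left_inv c := by
    obtain ⟨ζ, hζ, hc⟩ := ker_E6 c.2.2
    apply Subtype.ext
    change patE6 (c.1 e6i0) = c.1
    rw [hc]
    rfl
  right_inv ζ := rfl

end

section count

variable {K : Type*} [Field K] [Fintype K] {q : ℕ}

theorem card_root_E6 (hK : Fintype.card K = q ^ 2) :
    Nat.card {ζ : Kˣ // ζ ^ 3 = 1 ∧ ζ ^ (q + 1) = 1} = Nat.gcd 3 (q + 1) := by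
  classical
  have hu : Nat.card Kˣ = q ^ 2 - 1 := by
    rw [Nat.card_eq_fintype_card, Fintype.card_units, hK]
  have e : {ζ : Kˣ // ζ ^ 3 = 1 ∧ ζ ^ (q + 1) = 1} ≃ {ζ : Kˣ // ζ ^ (Nat.gcd 3 (q + 1)) = 1} := by
    apply Equiv.subtypeEquivRight
    intro ζ
    exact pow_gcd_eq_one.symm
  rw [Nat.card_congr e, card_pow_eq_one_subtype, hu]
  apply Nat.gcd_eq_right
  have h1 : q ^ 2 - 1 = (q + 1) * (q - 1) := by
    have := Nat.sq_sub_sq q 1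
    rwa [one_pow] at this
  rw [h1]
  exact Dvd.dvd.mul_right (Nat.gcd_dvd_right 3 (q + 1)) _

/-- `gcd(3, q + 1) · |H ⊓ ²E₆(q)| = (q - 1) ^ 4 (q + 1) ^ 2`. -/
theorem twE6_card_H (hq : IsPrimePow q) (hK : Fintype.card K = q ^ 2) :
    Nat.gcd 3 (q + 1) * Nat.card ↥(chevE6.diagonalSubgroup K ⊓ twistedE6 K q) =
      (q - 1) ^ 4 * (q + 1) ^ 2 := by
  obtain ⟨f, hf, hf2, e⟩ := twistedE6_eq hq hK
  rw [e]
  have hρ : ∀ i < chevE6.rank, (fun i => [5, 1, 4, 3, 2, 0].getD i 0) ((fun i => [5, 1, 4, 3, 2, 0].getD i 0) i) = i := by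
    decide
  have hv := vanish_two T18_E6 f (sigC_sigC T18_E6 f hρ hf2)
    (fun z hz => torusHom_ker_pow good1_E6 T17_E6 (n := 3) (by decide) hz)
  have key := card_diagonal_inf_twGroup good2_E6 T3_E6 T4_E6 T18_E6 T19_E6 f rhoperm_E6 clsperm_E6 hv
  rw [Nat.card_congr (kerFixEquivE6 f hf), card_root_E6 hK,
    card_sigFix_E6 hq.two_le hK hf hf2] at key
  rw [key]
  have h1 : q ^ 2 - 1 = (q + 1) * (q - 1) := by
    have := Nat.sq_sub_sq q 1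
    rwa [one_pow] at this
  rw [h1]
  ring

end count

end Cfsg.Agent.Helper7.Chev
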