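import Mathlib
import Cfsg.Agent.Helper7.ChevTwHE6c
import Cfsg.Agent.Helper7.ChevTwD4

set_option autoImplicit false
set_option linter.unusedSectionVars false
set_option linter.unusedVariables false

/-!
The order of `H¹ = H ⊓ G¹` for `³D₄(q)`.
-/

namespace Cfsg.Agent.Helper7.Chev

open Cfsg Cfsg.Lie Matrix

theorem rhoperm_D4 : ((List.range chevD4.rank).map (fun i => [2, 1, 3, 0].getD i 0)).Perm
    (List.range chevD4.rank) := by decide

theorem clsperm_D4 : (clsD4.flatMap (clsWord (fun i => [2, 1, 3, 0].getD i 0))).Perm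
    (List.range chevD4.rank) := by decide

section

variable {K : Type*} [Field K] (f : K ≃+* K)

abbrev d4i0 : Fin chevD4.rank := ⟨0, by decide⟩
abbrev d4i1 : Fin chevD4.rank := ⟨1, by decide⟩
abbrev d4i2 : Fin chevD4.rank := ⟨2, by decide⟩
abbrev d4i3 : Fin chevD4.rank := ⟨3, by decide⟩

theorem zpow_of_pow_two {ζ : Kˣ} (h : ζ ^ 2 = 1) (a b : ℤ) (hab : a = b + 2 * ((a - b) / 2)) :
    ζ ^ a = ζ ^ b := by
  have h2 : ζ ^ (2 : ℤ) = 1 := by exact_mod_cast h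
  rw [hab, _root_.zpow_add, _root_.zpow_mul, h2, _root_.one_zpow, mul_one]

/-- The kernel of the torus of `D₄`. -/
theorem ker_D4 {c : Fin chevD4.rank → Kˣ} (hc : torusHom chevD4 K c = 1) :
    c d4i1 = 1 ∧ c d4i2 = c d4i0 * c d4i3 ∧ c d4i0 ^ 2 = 1 ∧ c d4i3 ^ 2 = 1 := by
  obtain ⟨e, he, rfl⟩ : ∃ e : Fin 4 → Kˣ, (∀ i : Fin 4, e i ^ t17d_D4 i.val = 1) ∧
      c = zact (toM 4 4 (tabZ t17P_D4)) e := torusHom_ker_smith good1_D4 T17_D4 hc
  have h0 : e 0 = 1 := by simpa [t17d_D4] using he 0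
  have h1 : e 1 = 1 := by simpa [t17d_D4] using he 1
  have h2 : e 2 ^ 2 = 1 := by simpa [t17d_D4] using he 2
  have h3 : e 3 ^ 2 = 1 := by simpa [t17d_D4] using he 3
  have hprod : ∀ j : Fin 4, zact (toM 4 4 (tabZ t17P_D4)) e j =
      e 2 ^ toM 4 4 (tabZ t17P_D4) 2 j * e 3 ^ toM 4 4 (tabZ t17P_D4) 3 j := by
    intro j
    rw [zact_apply, Fin.prod_univ_four, h0, h1]
    simp
  have c0 : zact (toM 4 4 (tabZ t17P_D4)) e (0 : Fin 4) = e 2 := by
    rw [hprod]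
    change e 2 ^ (-3 : ℤ) * e 3 ^ (2 : ℤ) = e 2
    rw [zpow_of_pow_two h2 (-3) 1 (by norm_num), zpow_of_pow_two h3 2 0 (by norm_num)]
    simp
  have c1 : zact (toM 4 4 (tabZ t17P_D4)) e (1 : Fin 4) = 1 := by
    rw [hprod]
    change e 2 ^ (-2 : ℤ) * e 3 ^ (2 : ℤ) = 1
    rw [zpow_of_pow_two h2 (-2) 0 (by norm_num), zpow_of_pow_two h3 2 0 (by norm_num)]
    simp
  have c2 : zact (toM 4 4 (tabZ t17P_D4)) e (2 : Fin 4) = e 2 * e 3 := by
    rw [hprod]
    change e 2 ^ (-1 : ℤ) * e 3 ^ (1 : ℤ) = e 2 * e 3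
    rw [zpow_of_pow_two h2 (-1) 1 (by norm_num)]
    simp
  have c3 : zact (toM 4 4 (tabZ t17P_D4)) e (3 : Fin 4) = e 3 := by
    rw [hprod]
    change e 2 ^ (0 : ℤ) * e 3 ^ (1 : ℤ) = e 3
    simp
  refine ⟨c1, ?_, ?_, ?_⟩
  · exact c2.trans (congrArg₂ (· * ·) c0.symm c3.symm)
  · exact (congrArg (· ^ 2) c0).trans h2
  · exact (congrArg (· ^ 2) c3).trans h3

/-- The fixed tuples of parameters for `D₄`. -/
theorem sigC_fixed_D4 (c : Fin chevD4.rank → Kˣ) :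
    sigC T18_D4a f c = c ↔
      uF f (c d4i3) = c d4i0 ∧ uF f (c d4i1) = c d4i1 ∧ uF f (c d4i0) = c d4i2 ∧
        uF f (c d4i2) = c d4i3 := by
  constructor
  · intro h
    exact ⟨congrFun h d4i0, congrFun h d4i1, congrFun h d4i2, congrFun h d4i3⟩
  · rintro ⟨h0, h1, h2, h3⟩
    funext i
    obtain ⟨i, hi⟩ := i
    have hi' : i < 4 := hi
    interval_cases i
    · exact h0
    · exact h1
    · exact h2
    · exact h3

theorem uF_uF_uF (hf3 : ∀ t, (((f : K →+* K)) ^ 3) t = t) (a : Kˣ) : uF f (uF f (uF f a)) = a := by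
  apply Units.ext
  have := hf3 (a : K)
  rw [pow_succ, pow_two] at this
  exact this

/-- The fixed tuples of parameters for `D₄` are given by two parameters. -/
noncomputable def sigFixEquivD4 (hf3 : ∀ t, (((f : K →+* K)) ^ 3) t = t) :
    {c : Fin chevD4.rank → Kˣ // sigC T18_D4a f c = c} ≃ {a : Kˣ // uF f a = a} × Kˣ where
  toFun c := (⟨c.1 d4i1, ((sigC_fixed_D4 f c.1).mp c.2).2.1⟩, c.1 d4i0)
  invFun p := ⟨fun i => [p.2, p.1.1, uF f p.2, uF f (uF f p.2)].getD i.val 1, by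
    rw [sigC_fixed_D4]
    exact ⟨uF_uF_uF f hf3 _, p.1.2, rfl, rfl⟩⟩
  left_inv c := by
    obtain ⟨h0, h1, h2, h3⟩ := (sigC_fixed_D4 f c.1).mp c.2
    apply Subtype.ext
    funext i
    obtain ⟨i, hi⟩ := i
    have hi' : i < 4 := hi
    interval_cases i
    · rfl
    · rfl
    · exact h2
    · change uF f (uF f (c.1 d4i0)) = c.1 d4i3
      rw [h2, h3]
  right_inv p := by
    obtain ⟨⟨a1, h1⟩, a0⟩ := p
    rfl

/-- A unit of square one is fixed by every field automorphism. -/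
theorem uF_of_sq {a : Kˣ} (h : a ^ 2 = 1) : uF f a = a := by
  apply Units.ext
  have h' : (a : K) * (a : K) = 1 := by
    have := congrArg (fun u : Kˣ => (u : K)) h
    simpa [pow_two] using this
  change f (a : K) = (a : K)
  rcases mul_self_eq_one_iff.mp h' with h1 | h1
  · rw [h1, map_one]
  · rw [h1, map_neg, map_one]

/-- The fixed elements of the kernel of the torus of `D₄` are trivial. -/
theorem kerFix_D4 {c : Fin chevD4.rank → Kˣ} (hfix : sigC T18_D4a f c = c)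
    (hker : torusHom chevD4 K c = 1) : c = 1 := by
  obtain ⟨k1, k2, k3, k4⟩ := ker_D4 hker
  obtain ⟨h0, h1, h2, h3⟩ := (sigC_fixed_D4 f c).mp hfix
  rw [uF_of_sq f k3] at h2
  have hc3 : c d4i3 = 1 := by
    rw [← h2] at k2
    exact (mul_eq_left.mp k2.symm)
  have hc2sq : c d4i2 ^ 2 = 1 := by rw [← h2]; exact k3
  rw [uF_of_sq f hc2sq, hc3] at h3
  have hc0 : c d4i0 = 1 := by rw [h2, h3]
  funext i
  obtain ⟨i, hi⟩ := i
  have hi' : i < 4 := hi
  interval_cases i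
  · exact hc0
  · exact k1
  · exact h3
  · exact hc3

end

section count

variable {K : Type*} [Field K] [Fintype K] {q : ℕ}

/-- `|H ⊓ ³D₄(q)| = (q - 1) ^ 2 (q ^ 2 + q + 1)`. -/
theorem twD4_card_H (hq : IsPrimePow q) (hK : Fintype.card K = q ^ 3) :
    Nat.card ↥(chevD4.diagonalSubgroup K ⊓ twistedD4 K q) = (q - 1) ^ 2 * (q ^ 2 + q + 1) := by
  classical
  obtain ⟨f, hf, hf3, e⟩ := twistedD4_eq hq hK
  rw [e]
  have hρ : ∀ i < chevD4.rank, (fun i => [3, 1, 0, 2].getD i 0)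
      ((fun i => [3, 1, 0, 2].getD i 0) ((fun i => [3, 1, 0, 2].getD i 0) i)) = i := by
    decide
  have hkerσ : ∀ z : Fin chevD4.rank → Kˣ, torusHom chevD4 K z = 1 →
      torusHom chevD4 K (sigC T18_D4a f z) = 1 := by
    intro z hz
    rw [← twAut_torusHom good2_D4 T18_D4a f rhoperm_D4, hz, map_one]
  have hv := vanish_three T18_D4a f (sigC_sigC_sigC T18_D4a f hρ hf3)
    (fun z hz => torusHom_ker_pow good1_D4 T17_D4 (n := 2) (by decide) hz) hkerσ
  have key := card_diagonal_inf_twGroup good2_D4 T3_D4 T4_D4 T18_D4a T19_D4 f rhoperm_D4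
    clsperm_D4 hv
  have hone : Nat.card {c : Fin chevD4.rank → Kˣ //
      sigC T18_D4a f c = c ∧ torusHom chevD4 K c = 1} = 1 := by
    rw [Nat.card_eq_one_iff_unique]
    refine ⟨⟨?_⟩, ⟨⟨1, map_one _, map_one _⟩⟩⟩
    rintro ⟨a, ha1, ha2⟩ ⟨b, hb1, hb2⟩
    apply Subtype.ext
    change a = b
    rw [kerFix_D4 f ha1 ha2, kerFix_D4 f hb1 hb2]
  have hu : Nat.card Kˣ = q ^ 3 - 1 := by
    rw [Nat.card_eq_fintype_card, Fintype.card_units, hK]
  rw [hone, one_mul, Nat.card_congr (sigFixEquivD4 f hf3), Nat.card_prod,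
    card_units_fixed hq.two_le (by norm_num) hK hf, hu] at key
  rw [key]
  obtain ⟨k, rfl⟩ : ∃ k, q = k + 1 := ⟨q - 1, by have := hq.two_le; omega⟩
  have h3 : (k + 1) ^ 3 - 1 = k * ((k + 1) ^ 2 + (k + 1) + 1) := by
    apply Nat.sub_eq_of_eq_add
    ring
  rw [h3, Nat.add_sub_cancel]
  ring

end count

end Cfsg.Agent.Helper7.Chev
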