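import Mathlib
import Cfsg.Agent.Helper7.ChevTwU4
import Cfsg.Agent.Helper7.ChevTwE6
import Cfsg.Agent.Helper7.ChevTwD4

set_option autoImplicit false

/-!
The orders of `U¹ = U ⊓ G¹` for `²E₆(q)` and `³D₄(q)`.
-/

namespace Cfsg.Agent.Helper7.Chev

open Cfsg Cfsg.Lie

set_option maxRecDepth 1000000 in
set_option maxHeartbeats 0 in
theorem PPclsfast_E6 :
    fastE6.prefixPos (w0clsE6.flatMap (clsWord (fun i => [5, 1, 4, 3, 2, 0].getD i 0))) = true := by
  decide +kernel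

theorem PPcls_E6 :
    (tabOf chevE6).prefixPos (w0clsE6.flatMap (clsWord (fun i => [5, 1, 4, 3, 2, 0].getD i 0))) = true :=
  tab_E6 ▸ PPclsfast_E6

/-- `|U ⊓ ²E₆(q)| = q ^ 36`. -/
theorem twE6_card_U {K : Type*} [Field K] [Fintype K] {q : ℕ} (hq : IsPrimePow q)
    (hK : Fintype.card K = q ^ 2) :
    Nat.card ↥(chevE6.posUnipotent K ⊓ twistedE6 K q) = q ^ 36 := by
  obtain ⟨f, hf, hf2, e⟩ := twistedE6_eq hq hK
  rw [e, card_posUnipotent_inf_twGroup good2_E6 T0_E6 T3_E6 T4_E6 T5_E6 T6_E6 T7_E6 T8_E6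
    T18_E6 T19_E6 T20_E6 f w0clsE6_mem (prefixPos_of_tab PPcls_E6) W0cls_E6]
  have h1 : Nat.card {t : K // Adm f 1 t} = q := card_adm_one hq.two_le (by norm_num) hK hf
  have h2 : Nat.card {t : K // Adm f 2 t} = q ^ 2 := by rw [card_adm_full hf2, hK]
  simp only [w0clsE6, List.map_cons, List.map_nil, List.prod_cons, List.prod_nil, h1, h2]
  ring

set_option maxRecDepth 1000000 in
set_option maxHeartbeats 0 in
theorem PPclsfast_D4 :
    fastD4.prefixPos (w0clsD4.flatMap (clsWord (fun i => [2, 1, 3, 0].getD i 0))) = true := by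
  decide +kernel

theorem PPcls_D4 :
    (tabOf chevD4).prefixPos (w0clsD4.flatMap (clsWord (fun i => [2, 1, 3, 0].getD i 0))) = true :=
  tab_D4 ▸ PPclsfast_D4

/-- `|U ⊓ ³D₄(q)| = q ^ 12`. -/
theorem twD4_card_U {K : Type*} [Field K] [Fintype K] {q : ℕ} (hq : IsPrimePow q)
    (hK : Fintype.card K = q ^ 3) :
    Nat.card ↥(chevD4.posUnipotent K ⊓ twistedD4 K q) = q ^ 12 := by
  obtain ⟨f, hf, hf3, e⟩ := twistedD4_eq hq hK
  rw [e, card_posUnipotent_inf_twGroup good2_D4 T0_D4 T3_D4 T4_D4 T5_D4 T6_D4 T7_D4 T8_D4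
    T18_D4a T19_D4 T20_D4 f w0clsD4_mem (prefixPos_of_tab PPcls_D4) W0cls_D4]
  have h1 : Nat.card {t : K // Adm f 1 t} = q := card_adm_one hq.two_le (by norm_num) hK hf
  have h3 : Nat.card {t : K // Adm f 3 t} = q ^ 3 := by rw [card_adm_full hf3, hK]
  simp only [w0clsD4, List.map_cons, List.map_nil, List.prod_cons, List.prod_nil, h1, h3]
  ring

end Cfsg.Agent.Helper7.Chev
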