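import Mathlib
import Cfsg.Agent.Helper7.ScA

set_option autoImplicit false
set_option linter.unusedSectionVars false
set_option linter.unusedVariables false

/-!
# S2110 (`³D₄(q)` has trivial Schur multiplier), part A: general lemmas on central extensions

`C : CExt E G` is a central extension `ψ : E → G` (see `Helper7/ScA.lean`); `C.cm d d'` is the commutator of lifts, `C.kap d` the
conjugation by a lift, `C.LC d d'` says that all lifts of `d` commute with all lifts of `d'`.

* `td_cm_mul_left`, `td_cm_mul_left_of_comm`, `td_cm_mul_right_of_comm`: bimultiplicativity of `cm` on commuting pairs.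
* `td_lc_comm_kill`: lifts of `d` commute with the lifts of a commutator of two elements commuting with `d`.
* `td_lc_of_rot`: the rotation argument.
* `td_lc_of_coprime`: lifts of commuting elements of coprime orders commute.
* `td_scalar_trick`: a biadditive map `c` with `c (κ t) (κ u) = c t u` for all `κ ≠ 0` is trivial if the field has more than four elements.
-/

namespace Cfsg.Agent.Helper7.Td

open Cfsg.Agent.Helper7.Sc


/-! ### additive families of group elements -/

section additive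

variable {A : Type*} [AddCommGroup A] {H : Type*} [Group H]

theorem td_add_zero {f : A → H} (hf : ∀ t u, f t * f u = f (t + u)) : f 0 = 1 := by
  have h := hf 0 0
  rw [add_zero] at h
  exact mul_eq_left.mp h

theorem td_add_inv {f : A → H} (hf : ∀ t u, f t * f u = f (t + u)) (t : A) : (f t)⁻¹ = f (-t) := by
  apply inv_eq_of_mul_eq_one_right
  rw [hf, add_neg_cancel, td_add_zero hf]

theorem td_add_comm {f : A → H} (hf : ∀ t u, f t * f u = f (t + u)) (t u : A) : f t * f u = f u * f t := by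
  rw [hf, hf, add_comm]

theorem td_add_sub {f : A → H} (hf : ∀ t u, f t * f u = f (t + u)) (t u : A) : f t * (f u)⁻¹ = f (t - u) := by
  rw [td_add_inv hf, hf, sub_eq_add_neg]

end additive

theorem td_add_pow {K : Type*} [Ring K] {H : Type*} [Group H] {f : K → H} (hf : ∀ t u, f t * f u = f (t + u))
    (t : K) (n : ℕ) : f t ^ n = f (n * t) := by
  have h0 : f 0 = 1 := by
    have h := hf 0 0
    rw [add_zero] at h
    exact mul_eq_left.mp h
  induction n with
  | zero => rw [pow_zero, Nat.cast_zero, zero_mul, h0]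
  | succ n ih => rw [pow_succ, ih, hf, Nat.cast_succ, add_mul, one_mul]

variable {E G : Type*} [Group E] [Group G] (C : CExt E G)

theorem td_lc_one_left (d : G) : C.LC 1 d := (C.LCen d).one_mem

theorem td_lc_mul_left {a b d : G} (ha : C.LC a d) (hb : C.LC b d) : C.LC (a * b) d :=
  (C.LCen d).mul_mem ha hb

theorem td_lc_mul_right {a b d : G} (ha : C.LC d a) (hb : C.LC d b) : C.LC d (a * b) :=
  (td_lc_mul_left C (ha.symm C) (hb.symm C)).symm C

theorem td_lc_inv_left {a d : G} (ha : C.LC a d) : C.LC a⁻¹ d := (C.LCen d).inv_mem ha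

theorem td_lc_inv_right {a d : G} (ha : C.LC d a) : C.LC d a⁻¹ := (td_lc_inv_left C (ha.symm C)).symm C

theorem td_cm_one_left (d : G) : C.cm 1 d = 1 := by
  rw [C.cm_eq (map_one C.ψ) (C.ψ_lf d)]
  group

theorem td_cm_one_right (d : G) : C.cm d 1 = 1 := by
  rw [C.cm_eq (C.ψ_lf d) (map_one C.ψ)]
  group

/-- `[ab, c] = ᵃ[b, c] [a, c]`. -/
theorem td_cm_mul_left (a b c : G) : C.cm (a * b) c = C.kap a (C.cm b c) * C.cm a c := by
  have h : C.ψ (C.lf a * C.lf b) = a * b := by rw [map_mul, C.ψ_lf, C.ψ_lf]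
  rw [C.cm_eq h (C.ψ_lf c), C.kap_apply]
  unfold CExt.cm
  group

/-- the commutator of lifts of commuting elements is central. -/
theorem td_cm_comm {d d' : G} (h : d * d' = d' * d) (x : E) : C.cm d d' * x = x * C.cm d d' :=
  C.ker_comm (C.ψ_cm_of_comm h) x

theorem td_cm_mul_left_of_comm {a b c : G} (hb : b * c = c * b) :
    C.cm (a * b) c = C.cm a c * C.cm b c := by
  rw [td_cm_mul_left, C.kap_ker (C.ψ_cm_of_comm hb), td_cm_comm C hb]

theorem td_cm_mul_right_of_comm {a b c : G} (hc : a * c = c * a) :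
    C.cm a (b * c) = C.cm a b * C.cm a c :=
  C.cm_mul_right_of_comm hc b

theorem td_cm_inv_left_of_comm {a c : G} (h : a * c = c * a) : C.cm a⁻¹ c = (C.cm a c)⁻¹ := by
  have h' : a⁻¹ * c = c * a⁻¹ := by
    calc a⁻¹ * c = a⁻¹ * (c * a) * a⁻¹ := by group
      _ = a⁻¹ * (a * c) * a⁻¹ := by rw [h]
      _ = c * a⁻¹ := by group
  have e := td_cm_mul_left_of_comm C (a := a) h'
  rw [mul_inv_cancel, td_cm_one_left] at e
  exact eq_inv_of_mul_eq_one_right e.symm

/-- **comm-kill**: lifts of a commutator `[g₁, g₂]` of two elements commuting with `d` commute with the lifts of `d`. -/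
theorem td_lc_comm_kill {g₁ g₂ d : G} (h1 : g₁ * d = d * g₁) (h2 : g₂ * d = d * g₂) :
    C.LC (g₁ * g₂ * g₁⁻¹ * g₂⁻¹) d := by
  have h1' : g₁⁻¹ * d = d * g₁⁻¹ := by
    calc g₁⁻¹ * d = g₁⁻¹ * (d * g₁) * g₁⁻¹ := by group
      _ = g₁⁻¹ * (g₁ * d) * g₁⁻¹ := by rw [h1]
      _ = d * g₁⁻¹ := by group
  have h2' : g₂⁻¹ * d = d * g₂⁻¹ := by
    calc g₂⁻¹ * d = g₂⁻¹ * (d * g₂) * g₂⁻¹ := by group
      _ = g₂⁻¹ * (g₂ * d) * g₂⁻¹ := by rw [h2]
      _ = d * g₂⁻¹ := by group
  rw [C.LC_iff, td_cm_mul_left_of_comm C h2', td_cm_mul_left_of_comm C h1', td_cm_mul_left_of_comm C h2,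
    td_cm_inv_left_of_comm C h1, td_cm_inv_left_of_comm C h2]
  have hc := td_cm_comm C h1
  calc C.cm g₁ d * C.cm g₂ d * (C.cm g₁ d)⁻¹ * (C.cm g₂ d)⁻¹
      = C.cm g₂ d * C.cm g₁ d * (C.cm g₁ d)⁻¹ * (C.cm g₂ d)⁻¹ := by rw [hc]
    _ = 1 := by group

/-- **the rotation argument**: lifts of `p v` and `q` commute, if some `g` fixes `q` and acts on the additive family `p` by a map
`ρ` with `ρ - 1` surjective. -/
theorem td_lc_of_rot {A : Type*} [AddGroup A] (p : A → G) (q : G)
    (hp : ∀ v v', p v * p v' = p (v + v')) (hcomm : ∀ v, p v * q = q * p v) (g : G) (ρ : A → A)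
    (hρ : ∀ w, ∃ v, ρ v - v = w) (hgp : ∀ v, g * p v * g⁻¹ = p (ρ v)) (hgq : g * q * g⁻¹ = q) (v : A) :
    C.LC (p v) q := by
  have hadd : ∀ a b : A, C.cm (p (a + b)) q = C.cm (p a) q * C.cm (p b) q := by
    intro a b
    rw [← hp a b, td_cm_mul_left_of_comm C (hcomm b)]
  have h0 : C.cm (p 0) q = 1 := by
    have h := hadd 0 0
    rw [add_zero] at h
    exact mul_eq_left.mp h.symm
  have hneg : ∀ a : A, C.cm (p (-a)) q = (C.cm (p a) q)⁻¹ := by
    intro a
    have h := hadd a (-a)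
    rw [add_neg_cancel, h0] at h
    exact eq_inv_of_mul_eq_one_right h.symm
  have hinv : ∀ a : A, C.cm (p (ρ a)) q = C.cm (p a) q := by
    intro a
    have h1 := C.kap_ker (C.ψ_cm_of_comm (hcomm a)) g
    rw [C.kap_cm, hgp, hgq] at h1
    exact h1
  rw [C.LC_iff]
  obtain ⟨u, hu⟩ := hρ v
  rw [← hu, sub_eq_add_neg, hadd, hneg, hinv, mul_inv_cancel]

/-- powers in the first variable. -/
theorem td_cm_pow_left {a c : G} (h : a * c = c * a) (n : ℕ) : C.cm (a ^ n) c = (C.cm a c) ^ n := by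
  induction n with
  | zero => rw [pow_zero, pow_zero, td_cm_one_left]
  | succ n ih => rw [pow_succ, pow_succ, td_cm_mul_left_of_comm C h, ih]

/-- powers in the second variable. -/
theorem td_cm_pow_right {a c : G} (h : a * c = c * a) (n : ℕ) : C.cm a (c ^ n) = (C.cm a c) ^ n := by
  induction n with
  | zero => rw [pow_zero, pow_zero, td_cm_one_right]
  | succ n ih => rw [pow_succ, pow_succ, td_cm_mul_right_of_comm C h, ih]

/-- **lifts of commuting elements of coprime orders commute.** -/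
theorem td_lc_of_coprime {h y : G} (hcomm : h * y = y * h) {m p : ℕ} (hm : h ^ m = 1) (hp : y ^ p = 1)
    (hmp : Nat.Coprime m p) : C.LC h y := by
  rw [C.LC_iff]
  have e1 : (C.cm h y) ^ m = 1 := by rw [← td_cm_pow_left C hcomm, hm, td_cm_one_left]
  have e2 : (C.cm h y) ^ p = 1 := by rw [← td_cm_pow_right C hcomm, hp, td_cm_one_right]
  have d1 := orderOf_dvd_of_pow_eq_one e1
  have d2 := orderOf_dvd_of_pow_eq_one e2
  have : orderOf (C.cm h y) ∣ 1 := by
    have := Nat.dvd_gcd d1 d2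
    rwa [hmp.gcd_eq_one] at this
  exact orderOf_eq_one_iff.mp (Nat.dvd_one.mp this)

/-- **the scalar trick**: a biadditive map with `c (κ t) (κ u) = c t u` for all `κ ≠ 0` is trivial, when the field has an element
`a ∉ {0, -1}` with `a² + a + 1 ≠ 0`. -/
theorem td_scalar_trick {K : Type*} [Field K] (c : K → K → E)
    (hl : ∀ t t' u, c (t + t') u = c t u * c t' u) (hr : ∀ t u u', c t (u + u') = c t u * c t u')
    (hinv : ∀ κ : K, κ ≠ 0 → ∀ t u, c (κ * t) (κ * u) = c t u)
    {a : K} (ha0 : a ≠ 0) (ha1 : a + 1 ≠ 0) (ha : a ^ 2 + a + 1 ≠ 0) (t u : K) : c t u = 1 := by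
  have hr0 : ∀ t, c t 0 = 1 := by
    intro t
    have h := hr t 0 0
    rw [add_zero] at h
    exact mul_eq_left.mp h.symm
  have hrneg : ∀ t u, c t (-u) = (c t u)⁻¹ := by
    intro t u
    have h := hr t u (-u)
    rw [add_neg_cancel, hr0] at h
    exact eq_inv_of_mul_eq_one_right h.symm
  -- `c (κ t) u = c t (κ⁻¹ u)`
  have hmove : ∀ κ : K, κ ≠ 0 → ∀ t u, c (κ * t) u = c t (κ⁻¹ * u) := by
    intro κ hκ t u
    have h := hinv κ⁻¹ (inv_ne_zero hκ) (κ * t) u
    rw [← mul_assoc, inv_mul_cancel₀ hκ, one_mul] at h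
    exact h.symm
  -- the key identity
  have key : ∀ t u, c t (((a + 1)⁻¹ - a⁻¹ - 1) * u) = 1 := by
    intro t u
    have h1 : c ((a + 1) * t) u = c t ((a + 1)⁻¹ * u) := hmove _ ha1 t u
    have h2 : c ((a + 1) * t) u = c t (a⁻¹ * u) * c t u := by
      rw [add_mul, one_mul, hl, hmove a ha0]
    have e : ((a + 1)⁻¹ - a⁻¹ - 1) * u = (a + 1)⁻¹ * u + -(a⁻¹ * u + u) := by ring
    rw [e, hr, hrneg, hr, ← h1, h2, mul_inv_cancel]
  have hs : (a + 1)⁻¹ - a⁻¹ - 1 ≠ 0 := by
    intro h
    apply ha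
    field_simp at h
    linear_combination -h
  have := key t (((a + 1)⁻¹ - a⁻¹ - 1)⁻¹ * u)
  rwa [← mul_assoc, mul_inv_cancel₀ hs, one_mul] at this

end Cfsg.Agent.Helper7.Td
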