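import Mathlib

set_option autoImplicit false
set_option linter.unusedSectionVars false
set_option linter.unusedVariables false

/-!
# S2110, part F: a field with an automorphism of order three

`T : Tw3 K` is a ring endomorphism `σ` of the field `K` with `σ³ = 1`, `σ ≠ 1`.  `T.tr`, `T.nm` are the trace and the norm to the fixed
field.  Facts: an element of norm one which is not a square root of one (`exists_nm_one`), the map `μ ↦ μ² / N μ` is a bijection of the
non-zero elements of a finite `K` (`exists_sq_eq`), an element of trace one (`exists_tr_one`), the additive Hilbert 90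
(`exists_sub_of_tr_zero`), and an element `a ∉ {0, -1}` with `a² + a + 1 ≠ 0` (`exists_scalar`).
-/

namespace Cfsg.Agent.Helper7.Td

/-- A ring endomorphism of order three. -/
structure Tw3 (K : Type*) [Field K] where
  /-- the automorphism -/
  σ : K →+* K
  σ3 : ∀ t, σ (σ (σ t)) = t
  ne : ∃ a, σ a ≠ a

namespace Tw3

variable {K : Type*} [Field K] (T : Tw3 K)

/-- the trace. -/
def tr (t : K) : K := t + T.σ t + T.σ (T.σ t)

/-- the norm. -/
def nm (t : K) : K := t * T.σ t * T.σ (T.σ t)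

theorem σ_inj {a b : K} (h : T.σ a = T.σ b) : a = b := by
  have := congrArg (fun x => T.σ (T.σ x)) h
  simpa only [T.σ3] using this

theorem σ_tr (t : K) : T.σ (T.tr t) = T.tr t := by
  unfold tr
  rw [map_add, map_add, T.σ3]
  ring

theorem σ_nm (t : K) : T.σ (T.nm t) = T.nm t := by
  unfold nm
  rw [map_mul, map_mul, T.σ3]
  ring

theorem tr_σ (t : K) : T.tr (T.σ t) = T.tr t := by
  unfold tr
  rw [T.σ3]
  ring

theorem nm_σ (t : K) : T.nm (T.σ t) = T.nm t := by
  unfold nm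
  rw [T.σ3]
  ring

theorem tr_add (t u : K) : T.tr (t + u) = T.tr t + T.tr u := by
  unfold tr
  rw [map_add, map_add]
  ring

theorem tr_zero : T.tr 0 = 0 := by
  unfold tr
  rw [map_zero, map_zero]
  ring

theorem tr_neg (t : K) : T.tr (-t) = -T.tr t := by
  unfold tr
  rw [map_neg, map_neg]
  ring

theorem tr_sub (t u : K) : T.tr (t - u) = T.tr t - T.tr u := by
  rw [sub_eq_add_neg, tr_add, tr_neg, sub_eq_add_neg]

theorem nm_mul (t u : K) : T.nm (t * u) = T.nm t * T.nm u := by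
  unfold nm
  rw [map_mul, map_mul]
  ring

theorem nm_one : T.nm 1 = 1 := by
  unfold nm
  rw [map_one, map_one]
  ring

theorem nm_ne_zero {t : K} (ht : t ≠ 0) : T.nm t ≠ 0 := by
  unfold nm
  have h1 : T.σ t ≠ 0 := (map_ne_zero T.σ).mpr ht
  have h2 : T.σ (T.σ t) ≠ 0 := (map_ne_zero T.σ).mpr h1
  exact mul_ne_zero (mul_ne_zero ht h1) h2

theorem nm_inv (t : K) : T.nm t⁻¹ = (T.nm t)⁻¹ := by
  unfold nm
  rw [map_inv₀, map_inv₀, mul_inv, mul_inv]

/-- `Tr (c w) = c Tr w` for a fixed `c`. -/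
theorem tr_mul_fixed {c : K} (hc : T.σ c = c) (w : K) : T.tr (c * w) = c * T.tr w := by
  unfold tr
  simp only [map_mul, hc]
  ring

/-- `N c = c³` for a fixed `c`. -/
theorem nm_fixed {c : K} (hc : T.σ c = c) : T.nm c = c ^ 3 := by
  unfold nm
  rw [hc, hc]
  ring

/-- an element with `σ² a ≠ a`. -/
theorem exists_σσ_ne : ∃ a, T.σ (T.σ a) ≠ a := by
  obtain ⟨a, ha⟩ := T.ne
  refine ⟨a, fun h => ha ?_⟩
  have := congrArg T.σ h
  rw [T.σ3] at this
  exact this.symm

/-- **an element of norm one whose square is not one.** -/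
theorem exists_nm_one : ∃ μ : K, μ ≠ 0 ∧ T.nm μ = 1 ∧ μ ^ 2 ≠ 1 := by
  obtain ⟨a, ha⟩ := T.ne
  have ha0 : a ≠ 0 := by
    rintro rfl
    exact ha (map_zero _)
  have h1 : T.σ a ≠ 0 := (map_ne_zero T.σ).mpr ha0
  have h2 : T.σ (T.σ a) ≠ 0 := (map_ne_zero T.σ).mpr h1
  have hμ1 : a / T.σ a ≠ 1 := by
    intro h
    rw [div_eq_one_iff_eq h1] at h
    exact ha h.symm
  have hnm : T.nm (a / T.σ a) = 1 := by
    unfold nm
    simp only [map_div₀, T.σ3]
    field_simp
  refine ⟨a / T.σ a, div_ne_zero ha0 h1, hnm, ?_⟩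
  intro hsq
  -- `μ = -1`, so `N μ = -1 = 1` and the characteristic is two
  have hm : a / T.σ a = -1 := by
    have : (a / T.σ a - 1) * (a / T.σ a + 1) = 0 := by linear_combination hsq
    rcases mul_eq_zero.mp this with h | h
    · exact absurd (sub_eq_zero.mp h) hμ1
    · exact eq_neg_of_add_eq_zero_left h
  rw [hm] at hnm
  have h2 : (-1 : K) = 1 := by
    have : T.nm (-1) = -1 := by
      unfold nm
      rw [map_neg, map_neg, map_one, map_one]
      ring
    rw [this] at hnm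
    exact hnm
  exact hμ1 (hm.trans h2)

/-- a fixed square root: if `μ²` is fixed then `μ` is fixed. -/
theorem fixed_of_sq_fixed {μ : K} (h : T.σ (μ ^ 2) = μ ^ 2) : T.σ μ = μ := by
  rw [map_pow] at h
  have : (T.σ μ - μ) * (T.σ μ + μ) = 0 := by linear_combination h
  rcases mul_eq_zero.mp this with h1 | h1
  · exact sub_eq_zero.mp h1
  · have e : T.σ μ = -μ := eq_neg_of_add_eq_zero_left h1
    have e3 : T.σ (T.σ (T.σ μ)) = -μ := by rw [e, map_neg, e, neg_neg, e]
    rw [T.σ3] at e3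
    rw [e, ← e3]

/-- `μ ↦ μ² / N μ` is injective on the non-zero elements. -/
theorem eq_one_of_sq_eq_nm {μ : K} (hμ : μ ≠ 0) (h : μ ^ 2 = T.nm μ) : μ = 1 := by
  have hfix : T.σ μ = μ := T.fixed_of_sq_fixed (by rw [h, T.σ_nm])
  rw [T.nm_fixed hfix] at h
  have : μ ^ 2 * (μ - 1) = 0 := by linear_combination -h
  rcases mul_eq_zero.mp this with h1 | h1
  · exact absurd (pow_eq_zero_iff (two_ne_zero)|>.mp h1) hμ
  · exact sub_eq_zero.mp h1

/-- **`μ ↦ μ² / N μ` is onto the non-zero elements of a finite field.** -/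
theorem exists_sq_eq [Finite K] {κ : K} (hκ : κ ≠ 0) : ∃ μ : K, μ ≠ 0 ∧ μ ^ 2 = κ * T.nm μ := by
  classical
  -- the homomorphism on the units
  let σu : Kˣ →* Kˣ := Units.map (T.σ : K →* K)
  let φ : Kˣ →* Kˣ :=
    { toFun := fun μ => μ ^ 2 * (μ * σu μ * σu (σu μ))⁻¹
      map_one' := by simp
      map_mul' := by
        intro a b
        simp only [map_mul, mul_pow, mul_inv]
        ac_rfl }
  have hφ : ∀ μ : Kˣ, ((φ μ : Kˣ) : K) = (μ : K) ^ 2 * (T.nm (μ : K))⁻¹ := by
    intro μ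
    change ((μ ^ 2 * (μ * σu μ * σu (σu μ))⁻¹ : Kˣ) : K) = _
    rw [Units.val_mul, Units.val_pow_eq_pow_val, Units.val_inv_eq_inv_val, Units.val_mul, Units.val_mul]
    rfl
  have hinj : Function.Injective φ := by
    rw [injective_iff_map_eq_one]
    intro μ hμ
    have h1 : ((φ μ : Kˣ) : K) = 1 := by rw [hμ]; rfl
    rw [hφ] at h1
    have hn : T.nm (μ : K) ≠ 0 := T.nm_ne_zero μ.ne_zero
    have h2 : (μ : K) ^ 2 = T.nm (μ : K) := by
      field_simp at h1
      exact h1
    exact Units.ext (T.eq_one_of_sq_eq_nm μ.ne_zero h2)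
  have hsurj : Function.Surjective φ := Finite.injective_iff_surjective.mp hinj
  obtain ⟨μ, hμ⟩ := hsurj (Units.mk0 κ hκ)
  refine ⟨μ, μ.ne_zero, ?_⟩
  have h1 : ((φ μ : Kˣ) : K) = κ := by rw [hμ]; rfl
  rw [hφ] at h1
  have hn : T.nm (μ : K) ≠ 0 := T.nm_ne_zero μ.ne_zero
  rw [← h1]
  field_simp

/-- the trace is not identically zero (Artin's argument). -/
theorem exists_tr_ne_zero : ∃ θ, T.tr θ ≠ 0 := by
  by_contra hcon
  push Not at hcon
  obtain ⟨a, ha⟩ := T.ne
  have ha2 : T.σ (T.σ a) ≠ T.σ a := fun h => ha (T.σ_inj h)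
  -- `(σ a - a) σ t + (σ² a - a) σ² t = 0`
  have h1 : ∀ t, (T.σ a - a) * T.σ t + (T.σ (T.σ a) - a) * T.σ (T.σ t) = 0 := by
    intro t
    have e1 := hcon (a * t)
    have e2 := hcon t
    unfold tr at e1 e2
    simp only [map_mul] at e1
    linear_combination e1 - a * e2
  -- `(σ² a - a) (σ² a - σ a) σ² t = 0`
  have h2 : ∀ t, (T.σ (T.σ a) - a) * (T.σ (T.σ a) - T.σ a) * T.σ (T.σ t) = 0 := by
    intro t
    have e1 := h1 (a * t)
    have e2 := h1 t
    simp only [map_mul] at e1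
    linear_combination e1 - T.σ a * e2
  have h3 := h2 1
  rw [map_one, map_one, mul_one] at h3
  rcases mul_eq_zero.mp h3 with h | h
  · have e : T.σ (T.σ a) = a := sub_eq_zero.mp h
    have := congrArg T.σ e
    rw [T.σ3] at this
    exact ha this.symm
  · exact ha2 (sub_eq_zero.mp h)

/-- **an element of trace one.** -/
theorem exists_tr_one : ∃ θ, T.tr θ = 1 := by
  obtain ⟨θ, hθ⟩ := T.exists_tr_ne_zero
  refine ⟨(T.tr θ)⁻¹ * θ, ?_⟩
  rw [T.tr_mul_fixed (by rw [map_inv₀, T.σ_tr]), inv_mul_cancel₀ hθ]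

/-- **the additive Hilbert 90.** -/
theorem exists_sub_of_tr_zero {w : K} (hw : T.tr w = 0) : ∃ y, w = y - T.σ y := by
  obtain ⟨θ, hθ⟩ := T.exists_tr_one
  refine ⟨w * T.σ θ + (w + T.σ w) * T.σ (T.σ θ), ?_⟩
  unfold tr at hw hθ
  rw [map_add, map_mul, map_mul, map_add, T.σ3]
  linear_combination θ * hw - w * hθ

/-- an element `a ∉ {0, -1}` with `a² + a + 1 ≠ 0`. -/
theorem exists_scalar [Fintype K] (hK : 4 < Fintype.card K) :
    ∃ a : K, a ≠ 0 ∧ a + 1 ≠ 0 ∧ a ^ 2 + a + 1 ≠ 0 := by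
  classical
  open Polynomial in
  have hf : (X * (X + 1) * (X ^ 2 + X + 1) : K[X]) ≠ 0 := by
    have h1 : (X : K[X]) ≠ 0 := X_ne_zero
    have h2 : (X + 1 : K[X]) ≠ 0 := by
      have : (X + 1 : K[X]) = X + C 1 := by simp
      rw [this]
      exact X_add_C_ne_zero 1
    have h3 : (X ^ 2 + X + 1 : K[X]) ≠ 0 := by
      intro h
      have := congrArg (fun p => p.coeff 2) h
      simp [coeff_X, coeff_one] at this
    exact mul_ne_zero (mul_ne_zero h1 h2) h3
  open Polynomial in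
  have hdeg : (X * (X + 1) * (X ^ 2 + X + 1) : K[X]).natDegree ≤ 4 := by
    compute_degree
  open Polynomial in
  obtain ⟨a, ha⟩ := exists_eval_ne_zero_of_natDegree_lt_card _ hf (by
    rw [Cardinal.mk_fintype]
    exact_mod_cast lt_of_le_of_lt hdeg hK)
  open Polynomial in
  simp only [eval_mul, eval_add, eval_X, eval_one, eval_pow] at ha
  refine ⟨a, ?_, ?_, ?_⟩
  · rintro rfl
    simp at ha
  · intro h
    rw [h] at ha
    simp at ha
  · intro h
    rw [h] at ha
    simp at ha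

end Tw3

end Cfsg.Agent.Helper7.Td
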