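import Mathlib
import Cfsg.Agent.Helper7.TdA
import Cfsg.Agent.Helper7.TdF

set_option autoImplicit false
set_option linter.unusedSectionVars false
set_option linter.unusedVariables false

/-!
# S2110, part B: the positive root system of `³D₄` inside a group, and the first steps for a central extension

`S : TdSys K G`: a field `K` with an automorphism `σ` of order three, root elements `xa, xab, x2ab : K → G` (short roots `a`, `a+b`,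
`2a+b`) and `yb, y3ab, y3a2b : K → G` (long roots `b`, `3a+b`, `3a+2b`, in the parametrization `y w = x (Tr w)`), the negative short
root elements `xma` (`-a`), the commutator relations `r1`–`r6` and the torus elements `ha μ`, `hb λ`.

For a central extension `C : CExt E G`:
* `lc_*`: lifts of commuting root elements commute (rotation argument for the mixed pairs, comm-kill for the long pairs, the scalar
  trick for the short root groups).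
-/

namespace Cfsg.Agent.Helper7.Td

open Cfsg.Agent.Helper7.Sc

/-- the positive root elements of `³D₄(q)` (and the negative short root `-a`), their relations and the torus. -/
structure TdSys (K : Type*) [Field K] [Fintype K] (G : Type*) [Group G] extends Tw3 K where
  card_gt : 4 < Fintype.card K
  /-- characteristic -/
  p : ℕ
  hp : (p : K) = 0
  /-- an exponent of the torus -/
  m : ℕ
  hmp : Nat.Coprime m p
  /-- short root elements -/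
  xa : K → G
  xab : K → G
  x2ab : K → G
  xma : K → G
  /-- long root elements, `y w = x (Tr w)` -/
  yb : K → G
  y3ab : K → G
  y3a2b : K → G
  xa_add : ∀ t u, xa t * xa u = xa (t + u)
  xab_add : ∀ t u, xab t * xab u = xab (t + u)
  x2ab_add : ∀ t u, x2ab t * x2ab u = x2ab (t + u)
  xma_add : ∀ t u, xma t * xma u = xma (t + u)
  yb_add : ∀ t u, yb t * yb u = yb (t + u)
  y3ab_add : ∀ t u, y3ab t * y3ab u = y3ab (t + u)
  y3a2b_add : ∀ t u, y3a2b t * y3a2b u = y3a2b (t + u)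
  yb_σ : ∀ w, yb (σ w) = yb w
  y3ab_σ : ∀ w, y3ab (σ w) = y3ab w
  y3a2b_σ : ∀ w, y3a2b (σ w) = y3a2b w
  r1 : ∀ w t, yb w * xa t * (yb w)⁻¹ * (xa t)⁻¹ =
    xab (toTw3.tr w * t) * x2ab (toTw3.tr w * t * σ t) * y3ab (w * toTw3.nm t) *
      y3a2b (-(toTw3.tr w * w * toTw3.nm t))
  r2 : ∀ t s, xa t * xab s * (xa t)⁻¹ * (xab s)⁻¹ =
    x2ab (s * σ t + σ s * t) * y3ab (s * σ t * σ (σ t)) * y3a2b (s * σ s * σ (σ t))
  r3 : ∀ t s, xa t * x2ab s * (xa t)⁻¹ * (x2ab s)⁻¹ = y3ab (σ s * t)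
  r4 : ∀ t s, xab t * x2ab s * (xab t)⁻¹ * (x2ab s)⁻¹ = y3a2b (σ s * t)
  r5 : ∀ w v, yb w * y3ab v * (yb w)⁻¹ * (y3ab v)⁻¹ = y3a2b (toTw3.tr w * v)
  r6 : ∀ t s, xma t * xab s * (xma t)⁻¹ * (xab s)⁻¹ = yb (-(s * t))
  c_a_3ab : ∀ t w, xa t * y3ab w = y3ab w * xa t
  c_a_3a2b : ∀ t w, xa t * y3a2b w = y3a2b w * xa t
  c_ab_b : ∀ t w, xab t * yb w = yb w * xab t
  c_2ab_b : ∀ t w, x2ab t * yb w = yb w * x2ab t
  c_ab_3ab : ∀ t w, xab t * y3ab w = y3ab w * xab t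
  c_ab_3a2b : ∀ t w, xab t * y3a2b w = y3a2b w * xab t
  c_2ab_3ab : ∀ t w, x2ab t * y3ab w = y3ab w * x2ab t
  c_2ab_3a2b : ∀ t w, x2ab t * y3a2b w = y3a2b w * x2ab t
  c_ma_b : ∀ t w, xma t * yb w = yb w * xma t
  c_b_3a2b : ∀ w v, yb w * y3a2b v = y3a2b v * yb w
  c_3ab_3a2b : ∀ w v, y3ab w * y3a2b v = y3a2b v * y3ab w
  /-- the torus elements `h_a(μ)` -/
  ha : K → G
  /-- the torus elements `h_b(λ)`, `λ` fixed by `σ` -/
  hb : K → G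
  ha_ha : ∀ μ ν, μ ≠ 0 → ν ≠ 0 → ha μ * ha ν = ha ν * ha μ
  ha_hb : ∀ μ l, μ ≠ 0 → l ≠ 0 → σ l = l → ha μ * hb l = hb l * ha μ
  hb_hb : ∀ l l', l ≠ 0 → l' ≠ 0 → σ l = l → σ l' = l' → hb l * hb l' = hb l' * hb l
  ha_pow : ∀ μ, μ ≠ 0 → ha μ ^ m = 1
  hb_pow : ∀ l, l ≠ 0 → σ l = l → hb l ^ m = 1
  ha_xa : ∀ μ, μ ≠ 0 → ∀ t, ha μ * xa t * (ha μ)⁻¹ = xa (μ ^ 2 * t)
  ha_xab : ∀ μ, μ ≠ 0 → ∀ t, ha μ * xab t * (ha μ)⁻¹ = xab (μ ^ 2 * (toTw3.nm μ)⁻¹ * t)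
  ha_x2ab : ∀ μ, μ ≠ 0 → ∀ t, ha μ * x2ab t * (ha μ)⁻¹ = x2ab (toTw3.nm μ * (σ (σ μ) ^ 2)⁻¹ * t)
  ha_xma : ∀ μ, μ ≠ 0 → ∀ t, ha μ * xma t * (ha μ)⁻¹ = xma ((μ ^ 2)⁻¹ * t)
  ha_yb : ∀ μ, μ ≠ 0 → ∀ w, ha μ * yb w * (ha μ)⁻¹ = yb ((toTw3.nm μ)⁻¹ * w)
  ha_y3ab : ∀ μ, μ ≠ 0 → ∀ w, ha μ * y3ab w * (ha μ)⁻¹ = y3ab (toTw3.nm μ * w)
  ha_y3a2b : ∀ μ, μ ≠ 0 → ∀ w, ha μ * y3a2b w * (ha μ)⁻¹ = y3a2b w
  hb_xa : ∀ l, l ≠ 0 → σ l = l → ∀ t, hb l * xa t * (hb l)⁻¹ = xa (l⁻¹ * t)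
  hb_xab : ∀ l, l ≠ 0 → σ l = l → ∀ t, hb l * xab t * (hb l)⁻¹ = xab (l * t)
  hb_x2ab : ∀ l, l ≠ 0 → σ l = l → ∀ t, hb l * x2ab t * (hb l)⁻¹ = x2ab t
  hb_xma : ∀ l, l ≠ 0 → σ l = l → ∀ t, hb l * xma t * (hb l)⁻¹ = xma (l * t)
  hb_yb : ∀ l, l ≠ 0 → σ l = l → ∀ w, hb l * yb w * (hb l)⁻¹ = yb (l ^ 2 * w)
  hb_y3ab : ∀ l, l ≠ 0 → σ l = l → ∀ w, hb l * y3ab w * (hb l)⁻¹ = y3ab (l⁻¹ * w)
  hb_y3a2b : ∀ l, l ≠ 0 → σ l = l → ∀ w, hb l * y3a2b w * (hb l)⁻¹ = y3a2b (l * w)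

namespace TdSys

variable {K : Type*} [Field K] [Fintype K] {G E : Type*} [Group G] [Group E] (S : TdSys K G) (C : CExt E G)

/-- the root elements have order dividing `p`. -/
theorem pow_p {f : K → G} (hf : ∀ t u, f t * f u = f (t + u)) (t : K) : f t ^ S.p = 1 := by
  rw [td_add_pow hf, S.hp, zero_mul, td_add_zero hf]

/-- the long root elements depend on the trace only. -/
theorem long_congr {H : Type*} [Group H] {f : K → H} (hf : ∀ t u, f t * f u = f (t + u))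
    (hσ : ∀ w, f (S.σ w) = f w) {w w' : K}
    (h : S.tr w = S.tr w') : f w = f w' := by
  have h0 : S.tr (w - w') = 0 := by rw [S.tr_sub, h, sub_self]
  obtain ⟨y, hy⟩ := S.exists_sub_of_tr_zero h0
  have e : w = w' + (y + -S.σ y) := by rw [← sub_eq_add_neg, ← hy]; ring
  rw [e, ← hf, ← hf, ← td_add_inv hf, hσ, mul_inv_cancel, mul_one]

/-! ### the rotation element -/

/-- lifts of a short root element and of a long root element which commute, commute. -/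
theorem lc_short_long {x y : K → G} (hx : ∀ t u, x t * x u = x (t + u)) (hcomm : ∀ t w, x t * y w = y w * x t)
    {g : G} {ν : K} (hν : ν ≠ 1) (hgx : ∀ t, g * x t * g⁻¹ = x (ν * t)) (hgy : ∀ w, g * y w * g⁻¹ = y w)
    (t w : K) : C.LC (x t) (y w) := by
  have hν1 : ν - 1 ≠ 0 := sub_ne_zero.mpr hν
  refine td_lc_of_rot C x (y w) hx (fun v => hcomm v w) g (fun t => ν * t) (fun u => ⟨(ν - 1)⁻¹ * u, ?_⟩) hgx
    (hgy w) t
  field_simp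

/-- a norm one element `μ₁` whose square is not one: `ha μ₁` is the rotation element. -/
theorem exists_rot : ∃ μ : K, μ ≠ 0 ∧ S.nm μ = 1 ∧ μ ^ 2 ≠ 1 := S.exists_nm_one

theorem lc_a_3ab (t w : K) : C.LC (S.xa t) (S.y3ab w) := by
  obtain ⟨μ, h0, hn, hs⟩ := S.exists_rot
  exact lc_short_long C S.xa_add S.c_a_3ab hs (S.ha_xa μ h0)
    (fun w => by rw [S.ha_y3ab μ h0, hn, one_mul]) t w

theorem lc_a_3a2b (t w : K) : C.LC (S.xa t) (S.y3a2b w) := by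
  obtain ⟨μ, h0, hn, hs⟩ := S.exists_rot
  exact lc_short_long C S.xa_add S.c_a_3a2b hs (S.ha_xa μ h0) (S.ha_y3a2b μ h0) t w

theorem lc_ab_b (t w : K) : C.LC (S.xab t) (S.yb w) := by
  obtain ⟨μ, h0, hn, hs⟩ := S.exists_rot
  refine lc_short_long C S.xab_add S.c_ab_b (ν := μ ^ 2) hs
    (fun t => by rw [S.ha_xab μ h0, hn, inv_one, mul_one])
    (fun w => by rw [S.ha_yb μ h0, hn, inv_one, one_mul]) t w

theorem lc_ab_3ab (t w : K) : C.LC (S.xab t) (S.y3ab w) := by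
  obtain ⟨μ, h0, hn, hs⟩ := S.exists_rot
  refine lc_short_long C S.xab_add S.c_ab_3ab (ν := μ ^ 2) hs
    (fun t => by rw [S.ha_xab μ h0, hn, inv_one, mul_one])
    (fun w => by rw [S.ha_y3ab μ h0, hn, one_mul]) t w

theorem lc_ab_3a2b (t w : K) : C.LC (S.xab t) (S.y3a2b w) := by
  obtain ⟨μ, h0, hn, hs⟩ := S.exists_rot
  refine lc_short_long C S.xab_add S.c_ab_3a2b (ν := μ ^ 2) hs
    (fun t => by rw [S.ha_xab μ h0, hn, inv_one, mul_one]) (S.ha_y3a2b μ h0) t w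

/-- the scalar by which the rotation element acts on `x2ab`. -/
theorem rot_2ab {μ : K} (h0 : μ ≠ 0) (hs : μ ^ 2 ≠ 1) : (S.σ (S.σ μ) ^ 2)⁻¹ ≠ 1 := by
  intro h
  apply hs
  have h1 : S.σ (S.σ μ) ^ 2 = 1 := by rw [← inv_inv (S.σ (S.σ μ) ^ 2), h, inv_one]
  apply S.σ_inj
  apply S.σ_inj
  rw [map_pow, map_pow, h1, map_one, map_one]

theorem lc_2ab_b (t w : K) : C.LC (S.x2ab t) (S.yb w) := by
  obtain ⟨μ, h0, hn, hs⟩ := S.exists_rot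
  refine lc_short_long C S.x2ab_add S.c_2ab_b (S.rot_2ab h0 hs)
    (fun t => by rw [S.ha_x2ab μ h0, hn, one_mul])
    (fun w => by rw [S.ha_yb μ h0, hn, inv_one, one_mul]) t w

theorem lc_2ab_3ab (t w : K) : C.LC (S.x2ab t) (S.y3ab w) := by
  obtain ⟨μ, h0, hn, hs⟩ := S.exists_rot
  refine lc_short_long C S.x2ab_add S.c_2ab_3ab (S.rot_2ab h0 hs)
    (fun t => by rw [S.ha_x2ab μ h0, hn, one_mul])
    (fun w => by rw [S.ha_y3ab μ h0, hn, one_mul]) t w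

theorem lc_2ab_3a2b (t w : K) : C.LC (S.x2ab t) (S.y3a2b w) := by
  obtain ⟨μ, h0, hn, hs⟩ := S.exists_rot
  refine lc_short_long C S.x2ab_add S.c_2ab_3a2b (S.rot_2ab h0 hs)
    (fun t => by rw [S.ha_x2ab μ h0, hn, one_mul]) (S.ha_y3a2b μ h0) t w

/-! ### the long root elements: comm-kill -/

/-- `y3ab w = [xa w, x2ab 1]`. -/
theorem y3ab_eq_comm (w : K) : S.y3ab w = S.xa w * S.x2ab 1 * (S.xa w)⁻¹ * (S.x2ab 1)⁻¹ := by
  rw [S.r3, map_one, one_mul]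

/-- `y3a2b w = [xab w, x2ab 1]`. -/
theorem y3a2b_eq_comm (w : K) : S.y3a2b w = S.xab w * S.x2ab 1 * (S.xab w)⁻¹ * (S.x2ab 1)⁻¹ := by
  rw [S.r4, map_one, one_mul]

/-- `yb w = [xma 1, xab (-w)]`. -/
theorem yb_eq_comm (w : K) : S.yb w = S.xma 1 * S.xab (-w) * (S.xma 1)⁻¹ * (S.xab (-w))⁻¹ := by
  rw [S.r6, mul_one, neg_neg]

theorem lc_3ab_3ab (w v : K) : C.LC (S.y3ab w) (S.y3ab v) := by
  rw [S.y3ab_eq_comm w]
  exact td_lc_comm_kill C (S.c_a_3ab w v) (S.c_2ab_3ab 1 v)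

theorem lc_3ab_3a2b (w v : K) : C.LC (S.y3ab w) (S.y3a2b v) := by
  rw [S.y3ab_eq_comm w]
  exact td_lc_comm_kill C (S.c_a_3a2b w v) (S.c_2ab_3a2b 1 v)

theorem lc_3a2b_3a2b (w v : K) : C.LC (S.y3a2b w) (S.y3a2b v) := by
  rw [S.y3a2b_eq_comm w]
  exact td_lc_comm_kill C (S.c_ab_3a2b w v) (S.c_2ab_3a2b 1 v)

theorem lc_3a2b_b (w v : K) : C.LC (S.y3a2b w) (S.yb v) := by
  rw [S.y3a2b_eq_comm w]
  exact td_lc_comm_kill C (S.c_ab_b w v) (S.c_2ab_b 1 v)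

theorem lc_b_b (w v : K) : C.LC (S.yb w) (S.yb v) := by
  rw [S.yb_eq_comm w]
  exact td_lc_comm_kill C (S.c_ma_b 1 v) (S.c_ab_b (-w) v)

/-! ### the short root groups: the scalar trick -/

include S in
/-- lifts of elements of a short root group commute, if the torus acts on it by all scalars. -/
theorem lc_short {x : K → G} (hx : ∀ t u, x t * x u = x (t + u))
    (htor : ∀ κ : K, κ ≠ 0 → ∃ g : G, ∀ t, g * x t * g⁻¹ = x (κ * t)) (t u : K) : C.LC (x t) (x u) := by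
  obtain ⟨a, ha0, ha1, ha⟩ := Tw3.exists_scalar S.card_gt
  rw [C.LC_iff]
  refine td_scalar_trick (fun t u => C.cm (x t) (x u)) ?_ ?_ ?_ ha0 ha1 ha t u
  · intro t t' u
    rw [← hx, td_cm_mul_left_of_comm C (td_add_comm hx t' u)]
  · intro t u u'
    rw [← hx, td_cm_mul_right_of_comm C (td_add_comm hx t u')]
  · intro κ hκ t u
    obtain ⟨g, hg⟩ := htor κ hκ
    have h1 := C.kap_ker (C.ψ_cm_of_comm (td_add_comm hx t u)) g
    rw [C.kap_cm, hg, hg] at h1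
    exact h1

theorem lc_a_a (t u : K) : C.LC (S.xa t) (S.xa u) := by
  refine S.lc_short C S.xa_add (fun κ hκ => ?_) t u
  obtain ⟨μ, hμ, hμκ⟩ := S.exists_sq_eq hκ
  have hn : S.nm μ ≠ 0 := S.nm_ne_zero hμ
  refine ⟨S.ha μ * S.hb (S.nm μ), fun t => ?_⟩
  have e : S.ha μ * S.hb (S.nm μ) * S.xa t * (S.ha μ * S.hb (S.nm μ))⁻¹ =
      S.ha μ * (S.hb (S.nm μ) * S.xa t * (S.hb (S.nm μ))⁻¹) * (S.ha μ)⁻¹ := by group
  rw [e, S.hb_xa _ hn (S.σ_nm μ), S.ha_xa μ hμ]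
  congr 1
  rw [← mul_assoc, hμκ]
  field_simp

theorem lc_ab_ab (t u : K) : C.LC (S.xab t) (S.xab u) := by
  refine S.lc_short C S.xab_add (fun κ hκ => ?_) t u
  obtain ⟨μ, hμ, hμκ⟩ := S.exists_sq_eq hκ
  have hn : S.nm μ ≠ 0 := S.nm_ne_zero hμ
  refine ⟨S.ha μ, fun t => ?_⟩
  rw [S.ha_xab μ hμ, hμκ]
  congr 1
  field_simp

theorem lc_2ab_2ab (t u : K) : C.LC (S.x2ab t) (S.x2ab u) := by
  refine S.lc_short C S.x2ab_add (fun κ hκ => ?_) t u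
  -- `κ = σ² (N μ / μ²)`
  have hκ' : (S.σ κ)⁻¹ ≠ 0 := inv_ne_zero ((map_ne_zero S.σ).mpr hκ)
  obtain ⟨μ, hμ, hμκ⟩ := S.exists_sq_eq hκ'
  have hn : S.nm μ ≠ 0 := S.nm_ne_zero hμ
  refine ⟨S.ha μ, fun t => ?_⟩
  rw [S.ha_x2ab μ hμ]
  congr 2
  have h1 : S.σ (S.σ (μ ^ 2)) = S.σ (S.σ ((S.σ κ)⁻¹ * S.nm μ)) := by rw [hμκ]
  rw [map_mul, map_mul, map_inv₀, map_inv₀, S.σ3, S.σ_nm, S.σ_nm, map_pow, map_pow] at h1
  rw [h1]
  field_simp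

end TdSys

end Cfsg.Agent.Helper7.Td
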