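import Mathlib
import Cfsg.Agent.Helper7.D4InvA

set_option autoImplicit false
set_option linter.unusedSectionVars false
set_option linter.unusedVariables false

/-!
The normal form in the group `U` of `D₄` in characteristic two, and left multiplication by root elements
(generated text).
-/

namespace Cfsg.Agent.Helper7.Chev

open Cfsg Cfsg.Lie Matrix
open scoped Pointwise

variable {K : Type*} [Field K]

noncomputable def w23 (t23 : K) : GL chevD4.Idx K := xd 23 t23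
noncomputable def w22 (t22 t23 : K) : GL chevD4.Idx K := xd 22 t22 * w23 t23
noncomputable def w21 (t21 t22 t23 : K) : GL chevD4.Idx K := xd 21 t21 * w22 t22 t23
noncomputable def w20 (t20 t21 t22 t23 : K) : GL chevD4.Idx K := xd 20 t20 * w21 t21 t22 t23
noncomputable def w19 (t19 t20 t21 t22 t23 : K) : GL chevD4.Idx K := xd 19 t19 * w20 t20 t21 t22 t23
noncomputable def w18 (t18 t19 t20 t21 t22 t23 : K) : GL chevD4.Idx K := xd 18 t18 * w19 t19 t20 t21 t22 t23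
noncomputable def w17 (t17 t18 t19 t20 t21 t22 t23 : K) : GL chevD4.Idx K := xd 17 t17 * w18 t18 t19 t20 t21 t22 t23
noncomputable def w16 (t16 t17 t18 t19 t20 t21 t22 t23 : K) : GL chevD4.Idx K := xd 16 t16 * w17 t17 t18 t19 t20 t21 t22 t23
noncomputable def w15 (t15 t16 t17 t18 t19 t20 t21 t22 t23 : K) : GL chevD4.Idx K := xd 15 t15 * w16 t16 t17 t18 t19 t20 t21 t22 t23
noncomputable def w14 (t14 t15 t16 t17 t18 t19 t20 t21 t22 t23 : K) : GL chevD4.Idx K := xd 14 t14 * w15 t15 t16 t17 t18 t19 t20 t21 t22 t23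
noncomputable def w13 (t13 t14 t15 t16 t17 t18 t19 t20 t21 t22 t23 : K) : GL chevD4.Idx K := xd 13 t13 * w14 t14 t15 t16 t17 t18 t19 t20 t21 t22 t23
noncomputable def w12 (t12 t13 t14 t15 t16 t17 t18 t19 t20 t21 t22 t23 : K) : GL chevD4.Idx K := xd 12 t12 * w13 t13 t14 t15 t16 t17 t18 t19 t20 t21 t22 t23

section char2

variable [CharP K 2]

theorem ld23_23 (s t23 : K) :
    xd 23 s * w23 t23 =
      w23 (t23 + s) := by
  unfold w23
  rw [xd_mul, add_comm]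

theorem ld23_22 (s t22 t23 : K) :
    xd 23 s * w22 t22 t23 =
      w22 t22 (t23 + s) := by
  unfold w22
  rw [← mul_assoc, xd_comm_of_mem (r := 22) (s := 23) (by decide), mul_assoc, ld23_23]

theorem ld22_22 (s t22 t23 : K) :
    xd 22 s * w22 t22 t23 =
      w22 (t22 + s) t23 := by
  unfold w22
  rw [← mul_assoc, xd_mul, add_comm]

theorem ld23_21 (s t21 t22 t23 : K) :
    xd 23 s * w21 t21 t22 t23 =
      w21 t21 t22 (t23 + s) := by
  unfold w21
  rw [← mul_assoc, xd_comm_of_mem (r := 21) (s := 23) (by decide), mul_assoc, ld23_22]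

theorem ld22_21 (s t21 t22 t23 : K) :
    xd 22 s * w21 t21 t22 t23 =
      w21 t21 (t22 + s) t23 := by
  unfold w21
  rw [← mul_assoc, xd_comm_of_mem (r := 21) (s := 22) (by decide), mul_assoc, ld22_22]

theorem ld21_21 (s t21 t22 t23 : K) :
    xd 21 s * w21 t21 t22 t23 =
      w21 (t21 + s) t22 t23 := by
  unfold w21
  rw [← mul_assoc, xd_mul, add_comm]

theorem ld23_20 (s t20 t21 t22 t23 : K) :
    xd 23 s * w20 t20 t21 t22 t23 =
      w20 t20 t21 t22 (t23 + s) := by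
  unfold w20
  rw [← mul_assoc, xd_comm_of_mem (r := 20) (s := 23) (by decide), mul_assoc, ld23_21]

theorem ld22_20 (s t20 t21 t22 t23 : K) :
    xd 22 s * w20 t20 t21 t22 t23 =
      w20 t20 t21 (t22 + s) t23 := by
  unfold w20
  rw [← mul_assoc, xd_comm_of_mem (r := 20) (s := 22) (by decide), mul_assoc, ld22_21]

theorem ld21_20 (s t20 t21 t22 t23 : K) :
    xd 21 s * w20 t20 t21 t22 t23 =
      w20 t20 (t21 + s) t22 t23 := by
  unfold w20
  rw [← mul_assoc, xd_comm_of_mem (r := 20) (s := 21) (by decide), mul_assoc, ld21_21]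

theorem ld20_20 (s t20 t21 t22 t23 : K) :
    xd 20 s * w20 t20 t21 t22 t23 =
      w20 (t20 + s) t21 t22 t23 := by
  unfold w20
  rw [← mul_assoc, xd_mul, add_comm]

theorem ld23_19 (s t19 t20 t21 t22 t23 : K) :
    xd 23 s * w19 t19 t20 t21 t22 t23 =
      w19 t19 t20 t21 t22 (t23 + s) := by
  unfold w19
  rw [← mul_assoc, xd_comm_of_mem (r := 19) (s := 23) (by decide), mul_assoc, ld23_20]

theorem ld22_19 (s t19 t20 t21 t22 t23 : K) :
    xd 22 s * w19 t19 t20 t21 t22 t23 =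
      w19 t19 t20 t21 (t22 + s) t23 := by
  unfold w19
  rw [← mul_assoc, xd_comm_of_mem (r := 19) (s := 22) (by decide), mul_assoc, ld22_20]

theorem ld21_19 (s t19 t20 t21 t22 t23 : K) :
    xd 21 s * w19 t19 t20 t21 t22 t23 =
      w19 t19 t20 (t21 + s) t22 t23 := by
  unfold w19
  rw [← mul_assoc, xd_comm_of_mem (r := 19) (s := 21) (by decide), mul_assoc, ld21_20]

theorem ld20_19 (s t19 t20 t21 t22 t23 : K) :
    xd 20 s * w19 t19 t20 t21 t22 t23 =
      w19 t19 (t20 + s) t21 t22 t23 := by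
  unfold w19
  rw [← mul_assoc, xd_comm_of_mem (r := 19) (s := 20) (by decide), mul_assoc, ld20_20]

theorem ld19_19 (s t19 t20 t21 t22 t23 : K) :
    xd 19 s * w19 t19 t20 t21 t22 t23 =
      w19 (t19 + s) t20 t21 t22 t23 := by
  unfold w19
  rw [← mul_assoc, xd_mul, add_comm]

theorem ld23_18 (s t18 t19 t20 t21 t22 t23 : K) :
    xd 23 s * w18 t18 t19 t20 t21 t22 t23 =
      w18 t18 t19 t20 t21 t22 (t23 + s) := by
  unfold w18
  rw [← mul_assoc, xd_comm_of_mem (r := 18) (s := 23) (by decide), mul_assoc, ld23_19]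

theorem ld22_18 (s t18 t19 t20 t21 t22 t23 : K) :
    xd 22 s * w18 t18 t19 t20 t21 t22 t23 =
      w18 t18 t19 t20 t21 (t22 + s) t23 := by
  unfold w18
  rw [← mul_assoc, xd_comm_of_mem (r := 18) (s := 22) (by decide), mul_assoc, ld22_19]

theorem ld21_18 (s t18 t19 t20 t21 t22 t23 : K) :
    xd 21 s * w18 t18 t19 t20 t21 t22 t23 =
      w18 t18 t19 t20 (t21 + s) t22 t23 := by
  unfold w18
  rw [← mul_assoc, xd_comm_of_mem (r := 18) (s := 21) (by decide), mul_assoc, ld21_19]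

theorem ld20_18 (s t18 t19 t20 t21 t22 t23 : K) :
    xd 20 s * w18 t18 t19 t20 t21 t22 t23 =
      w18 t18 t19 (t20 + s) t21 t22 t23 := by
  unfold w18
  rw [← mul_assoc, xd_comm_of_mem (r := 18) (s := 20) (by decide), mul_assoc, ld20_19]

theorem ld19_18 (s t18 t19 t20 t21 t22 t23 : K) :
    xd 19 s * w18 t18 t19 t20 t21 t22 t23 =
      w18 t18 (t19 + s) t20 t21 t22 t23 := by
  unfold w18
  rw [← mul_assoc, xd_comm_of_mem (r := 18) (s := 19) (by decide), mul_assoc, ld19_19]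

theorem ld18_18 (s t18 t19 t20 t21 t22 t23 : K) :
    xd 18 s * w18 t18 t19 t20 t21 t22 t23 =
      w18 (t18 + s) t19 t20 t21 t22 t23 := by
  unfold w18
  rw [← mul_assoc, xd_mul, add_comm]

theorem ld23_17 (s t17 t18 t19 t20 t21 t22 t23 : K) :
    xd 23 s * w17 t17 t18 t19 t20 t21 t22 t23 =
      w17 t17 t18 t19 t20 t21 t22 (t23 + s) := by
  unfold w17
  rw [← mul_assoc, xd_comm_of_mem (r := 17) (s := 23) (by decide), mul_assoc, ld23_18]

theorem ld22_17 (s t17 t18 t19 t20 t21 t22 t23 : K) :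
    xd 22 s * w17 t17 t18 t19 t20 t21 t22 t23 =
      w17 t17 t18 t19 t20 t21 (t22 + s) t23 := by
  unfold w17
  rw [← mul_assoc, xd_comm_of_mem (r := 17) (s := 22) (by decide), mul_assoc, ld22_18]

theorem ld21_17 (s t17 t18 t19 t20 t21 t22 t23 : K) :
    xd 21 s * w17 t17 t18 t19 t20 t21 t22 t23 =
      w17 t17 t18 t19 t20 (t21 + s) t22 t23 := by
  unfold w17
  rw [← mul_assoc, xd_comm_of_mem (r := 17) (s := 21) (by decide), mul_assoc, ld21_18]

theorem ld20_17 (s t17 t18 t19 t20 t21 t22 t23 : K) :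
    xd 20 s * w17 t17 t18 t19 t20 t21 t22 t23 =
      w17 t17 t18 t19 (t20 + s) t21 t22 t23 := by
  unfold w17
  rw [← mul_assoc, xd_comm_of_mem (r := 17) (s := 20) (by decide), mul_assoc, ld20_18]

theorem ld19_17 (s t17 t18 t19 t20 t21 t22 t23 : K) :
    xd 19 s * w17 t17 t18 t19 t20 t21 t22 t23 =
      w17 t17 t18 (t19 + s) t20 t21 t22 (t23 + (t17 * s)) := by
  unfold w17
  rw [← mul_assoc, xd_swap_of_mem (r := 17) (s := 19) (q := 23) (c := 1) (by decide), mul_assoc, mul_assoc,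
    ld23_18, ld19_18]

theorem ld18_17 (s t17 t18 t19 t20 t21 t22 t23 : K) :
    xd 18 s * w17 t17 t18 t19 t20 t21 t22 t23 =
      w17 t17 (t18 + s) t19 t20 t21 (t22 + (t17 * s)) t23 := by
  unfold w17
  rw [← mul_assoc, xd_swap_of_mem (r := 17) (s := 18) (q := 22) (c := 1) (by decide), mul_assoc, mul_assoc,
    ld22_18, ld18_18]

theorem ld17_17 (s t17 t18 t19 t20 t21 t22 t23 : K) :
    xd 17 s * w17 t17 t18 t19 t20 t21 t22 t23 =
      w17 (t17 + s) t18 t19 t20 t21 t22 t23 := by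
  unfold w17
  rw [← mul_assoc, xd_mul, add_comm]

theorem ld23_16 (s t16 t17 t18 t19 t20 t21 t22 t23 : K) :
    xd 23 s * w16 t16 t17 t18 t19 t20 t21 t22 t23 =
      w16 t16 t17 t18 t19 t20 t21 t22 (t23 + s) := by
  unfold w16
  rw [← mul_assoc, xd_comm_of_mem (r := 16) (s := 23) (by decide), mul_assoc, ld23_17]

theorem ld22_16 (s t16 t17 t18 t19 t20 t21 t22 t23 : K) :
    xd 22 s * w16 t16 t17 t18 t19 t20 t21 t22 t23 =
      w16 t16 t17 t18 t19 t20 t21 (t22 + s) t23 := by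
  unfold w16
  rw [← mul_assoc, xd_comm_of_mem (r := 16) (s := 22) (by decide), mul_assoc, ld22_17]

theorem ld21_16 (s t16 t17 t18 t19 t20 t21 t22 t23 : K) :
    xd 21 s * w16 t16 t17 t18 t19 t20 t21 t22 t23 =
      w16 t16 t17 t18 t19 t20 (t21 + s) t22 t23 := by
  unfold w16
  rw [← mul_assoc, xd_comm_of_mem (r := 16) (s := 21) (by decide), mul_assoc, ld21_17]

theorem ld20_16 (s t16 t17 t18 t19 t20 t21 t22 t23 : K) :
    xd 20 s * w16 t16 t17 t18 t19 t20 t21 t22 t23 =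
      w16 t16 t17 t18 t19 (t20 + s) t21 t22 (t23 + (t16 * s)) := by
  unfold w16
  rw [← mul_assoc, xd_swap_of_mem (r := 16) (s := 20) (q := 23) (c := -1) (by decide), mul_assoc, mul_assoc,
    ld23_17, ld20_17]

theorem ld19_16 (s t16 t17 t18 t19 t20 t21 t22 t23 : K) :
    xd 19 s * w16 t16 t17 t18 t19 t20 t21 t22 t23 =
      w16 t16 t17 t18 (t19 + s) t20 t21 t22 (t23 + (t17 * s)) := by
  unfold w16
  rw [← mul_assoc, xd_comm_of_mem (r := 16) (s := 19) (by decide), mul_assoc, ld19_17]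

theorem ld18_16 (s t16 t17 t18 t19 t20 t21 t22 t23 : K) :
    xd 18 s * w16 t16 t17 t18 t19 t20 t21 t22 t23 =
      w16 t16 t17 (t18 + s) t19 t20 (t21 + (t16 * s)) (t22 + (t17 * s)) t23 := by
  unfold w16
  rw [← mul_assoc, xd_swap_of_mem (r := 16) (s := 18) (q := 21) (c := 1) (by decide), mul_assoc, mul_assoc,
    ld21_17, ld18_17]

theorem ld17_16 (s t16 t17 t18 t19 t20 t21 t22 t23 : K) :
    xd 17 s * w16 t16 t17 t18 t19 t20 t21 t22 t23 =
      w16 t16 (t17 + s) t18 t19 t20 t21 t22 t23 := by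
  unfold w16
  rw [← mul_assoc, xd_comm_of_mem (r := 16) (s := 17) (by decide), mul_assoc, ld17_17]

theorem ld16_16 (s t16 t17 t18 t19 t20 t21 t22 t23 : K) :
    xd 16 s * w16 t16 t17 t18 t19 t20 t21 t22 t23 =
      w16 (t16 + s) t17 t18 t19 t20 t21 t22 t23 := by
  unfold w16
  rw [← mul_assoc, xd_mul, add_comm]

theorem ld23_15 (s t15 t16 t17 t18 t19 t20 t21 t22 t23 : K) :
    xd 23 s * w15 t15 t16 t17 t18 t19 t20 t21 t22 t23 =
      w15 t15 t16 t17 t18 t19 t20 t21 t22 (t23 + s) := by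
  unfold w15
  rw [← mul_assoc, xd_comm_of_mem (r := 15) (s := 23) (by decide), mul_assoc, ld23_16]

theorem ld22_15 (s t15 t16 t17 t18 t19 t20 t21 t22 t23 : K) :
    xd 22 s * w15 t15 t16 t17 t18 t19 t20 t21 t22 t23 =
      w15 t15 t16 t17 t18 t19 t20 t21 (t22 + s) t23 := by
  unfold w15
  rw [← mul_assoc, xd_comm_of_mem (r := 15) (s := 22) (by decide), mul_assoc, ld22_16]

theorem ld21_15 (s t15 t16 t17 t18 t19 t20 t21 t22 t23 : K) :
    xd 21 s * w15 t15 t16 t17 t18 t19 t20 t21 t22 t23 =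
      w15 t15 t16 t17 t18 t19 t20 (t21 + s) t22 (t23 + (t15 * s)) := by
  unfold w15
  rw [← mul_assoc, xd_swap_of_mem (r := 15) (s := 21) (q := 23) (c := -1) (by decide), mul_assoc, mul_assoc,
    ld23_16, ld21_16]

theorem ld20_15 (s t15 t16 t17 t18 t19 t20 t21 t22 t23 : K) :
    xd 20 s * w15 t15 t16 t17 t18 t19 t20 t21 t22 t23 =
      w15 t15 t16 t17 t18 t19 (t20 + s) t21 t22 (t23 + (t16 * s)) := by
  unfold w15
  rw [← mul_assoc, xd_comm_of_mem (r := 15) (s := 20) (by decide), mul_assoc, ld20_16]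

theorem ld19_15 (s t15 t16 t17 t18 t19 t20 t21 t22 t23 : K) :
    xd 19 s * w15 t15 t16 t17 t18 t19 t20 t21 t22 t23 =
      w15 t15 t16 t17 t18 (t19 + s) t20 t21 t22 (t23 + (t17 * s)) := by
  unfold w15
  rw [← mul_assoc, xd_comm_of_mem (r := 15) (s := 19) (by decide), mul_assoc, ld19_16]

theorem ld18_15 (s t15 t16 t17 t18 t19 t20 t21 t22 t23 : K) :
    xd 18 s * w15 t15 t16 t17 t18 t19 t20 t21 t22 t23 =
      w15 t15 t16 t17 (t18 + s) t19 (t20 + (t15 * s)) (t21 + (t16 * s)) (t22 + (t17 * s)) (t23 + (t16 * (t15 * s))) := by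
  unfold w15
  rw [← mul_assoc, xd_swap_of_mem (r := 15) (s := 18) (q := 20) (c := 1) (by decide), mul_assoc, mul_assoc,
    ld20_16, ld18_16]

theorem ld17_15 (s t15 t16 t17 t18 t19 t20 t21 t22 t23 : K) :
    xd 17 s * w15 t15 t16 t17 t18 t19 t20 t21 t22 t23 =
      w15 t15 t16 (t17 + s) t18 t19 t20 t21 t22 t23 := by
  unfold w15
  rw [← mul_assoc, xd_comm_of_mem (r := 15) (s := 17) (by decide), mul_assoc, ld17_16]

theorem ld16_15 (s t15 t16 t17 t18 t19 t20 t21 t22 t23 : K) :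
    xd 16 s * w15 t15 t16 t17 t18 t19 t20 t21 t22 t23 =
      w15 t15 (t16 + s) t17 t18 t19 t20 t21 t22 t23 := by
  unfold w15
  rw [← mul_assoc, xd_comm_of_mem (r := 15) (s := 16) (by decide), mul_assoc, ld16_16]

theorem ld15_15 (s t15 t16 t17 t18 t19 t20 t21 t22 t23 : K) :
    xd 15 s * w15 t15 t16 t17 t18 t19 t20 t21 t22 t23 =
      w15 (t15 + s) t16 t17 t18 t19 t20 t21 t22 t23 := by
  unfold w15
  rw [← mul_assoc, xd_mul, add_comm]

theorem ld23_14 (s t14 t15 t16 t17 t18 t19 t20 t21 t22 t23 : K) :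
    xd 23 s * w14 t14 t15 t16 t17 t18 t19 t20 t21 t22 t23 =
      w14 t14 t15 t16 t17 t18 t19 t20 t21 t22 (t23 + s) := by
  unfold w14
  rw [← mul_assoc, xd_comm_of_mem (r := 14) (s := 23) (by decide), mul_assoc, ld23_15]

theorem ld22_14 (s t14 t15 t16 t17 t18 t19 t20 t21 t22 t23 : K) :
    xd 22 s * w14 t14 t15 t16 t17 t18 t19 t20 t21 t22 t23 =
      w14 t14 t15 t16 t17 t18 t19 t20 t21 (t22 + s) (t23 + (t14 * s)) := by
  unfold w14
  rw [← mul_assoc, xd_swap_of_mem (r := 14) (s := 22) (q := 23) (c := 1) (by decide), mul_assoc, mul_assoc,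
    ld23_15, ld22_15]

theorem ld21_14 (s t14 t15 t16 t17 t18 t19 t20 t21 t22 t23 : K) :
    xd 21 s * w14 t14 t15 t16 t17 t18 t19 t20 t21 t22 t23 =
      w14 t14 t15 t16 t17 t18 t19 t20 (t21 + s) t22 (t23 + (t15 * s)) := by
  unfold w14
  rw [← mul_assoc, xd_comm_of_mem (r := 14) (s := 21) (by decide), mul_assoc, ld21_15]

theorem ld20_14 (s t14 t15 t16 t17 t18 t19 t20 t21 t22 t23 : K) :
    xd 20 s * w14 t14 t15 t16 t17 t18 t19 t20 t21 t22 t23 =
      w14 t14 t15 t16 t17 t18 t19 (t20 + s) t21 t22 (t23 + (t16 * s)) := by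
  unfold w14
  rw [← mul_assoc, xd_comm_of_mem (r := 14) (s := 20) (by decide), mul_assoc, ld20_15]

theorem ld19_14 (s t14 t15 t16 t17 t18 t19 t20 t21 t22 t23 : K) :
    xd 19 s * w14 t14 t15 t16 t17 t18 t19 t20 t21 t22 t23 =
      w14 t14 t15 t16 t17 t18 (t19 + s) t20 t21 t22 (t23 + (t17 * s)) := by
  unfold w14
  rw [← mul_assoc, xd_comm_of_mem (r := 14) (s := 19) (by decide), mul_assoc, ld19_15]

theorem ld18_14 (s t14 t15 t16 t17 t18 t19 t20 t21 t22 t23 : K) :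
    xd 18 s * w14 t14 t15 t16 t17 t18 t19 t20 t21 t22 t23 =
      w14 t14 t15 t16 t17 (t18 + s) (t19 + (t14 * s)) (t20 + (t15 * s)) (t21 + (t16 * s)) (t22 + (t17 * s)) ((t23 + (t17 * (t14 * s))) + (t16 * (t15 * s))) := by
  unfold w14
  rw [← mul_assoc, xd_swap_of_mem (r := 14) (s := 18) (q := 19) (c := 1) (by decide), mul_assoc, mul_assoc,
    ld19_15, ld18_15]

theorem ld17_14 (s t14 t15 t16 t17 t18 t19 t20 t21 t22 t23 : K) :
    xd 17 s * w14 t14 t15 t16 t17 t18 t19 t20 t21 t22 t23 =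
      w14 t14 t15 t16 (t17 + s) t18 t19 t20 t21 t22 t23 := by
  unfold w14
  rw [← mul_assoc, xd_comm_of_mem (r := 14) (s := 17) (by decide), mul_assoc, ld17_15]

theorem ld16_14 (s t14 t15 t16 t17 t18 t19 t20 t21 t22 t23 : K) :
    xd 16 s * w14 t14 t15 t16 t17 t18 t19 t20 t21 t22 t23 =
      w14 t14 t15 (t16 + s) t17 t18 t19 t20 t21 t22 t23 := by
  unfold w14
  rw [← mul_assoc, xd_comm_of_mem (r := 14) (s := 16) (by decide), mul_assoc, ld16_15]

theorem ld15_14 (s t14 t15 t16 t17 t18 t19 t20 t21 t22 t23 : K) :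
    xd 15 s * w14 t14 t15 t16 t17 t18 t19 t20 t21 t22 t23 =
      w14 t14 (t15 + s) t16 t17 t18 t19 t20 t21 t22 t23 := by
  unfold w14
  rw [← mul_assoc, xd_comm_of_mem (r := 14) (s := 15) (by decide), mul_assoc, ld15_15]

theorem ld14_14 (s t14 t15 t16 t17 t18 t19 t20 t21 t22 t23 : K) :
    xd 14 s * w14 t14 t15 t16 t17 t18 t19 t20 t21 t22 t23 =
      w14 (t14 + s) t15 t16 t17 t18 t19 t20 t21 t22 t23 := by
  unfold w14
  rw [← mul_assoc, xd_mul, add_comm]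

theorem ld23_13 (s t13 t14 t15 t16 t17 t18 t19 t20 t21 t22 t23 : K) :
    xd 23 s * w13 t13 t14 t15 t16 t17 t18 t19 t20 t21 t22 t23 =
      w13 t13 t14 t15 t16 t17 t18 t19 t20 t21 t22 (t23 + s) := by
  unfold w13
  rw [← mul_assoc, xd_comm_of_mem (r := 13) (s := 23) (by decide), mul_assoc, ld23_14]

theorem ld22_13 (s t13 t14 t15 t16 t17 t18 t19 t20 t21 t22 t23 : K) :
    xd 22 s * w13 t13 t14 t15 t16 t17 t18 t19 t20 t21 t22 t23 =
      w13 t13 t14 t15 t16 t17 t18 t19 t20 t21 (t22 + s) (t23 + (t14 * s)) := by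
  unfold w13
  rw [← mul_assoc, xd_comm_of_mem (r := 13) (s := 22) (by decide), mul_assoc, ld22_14]

theorem ld21_13 (s t13 t14 t15 t16 t17 t18 t19 t20 t21 t22 t23 : K) :
    xd 21 s * w13 t13 t14 t15 t16 t17 t18 t19 t20 t21 t22 t23 =
      w13 t13 t14 t15 t16 t17 t18 t19 t20 (t21 + s) t22 (t23 + (t15 * s)) := by
  unfold w13
  rw [← mul_assoc, xd_comm_of_mem (r := 13) (s := 21) (by decide), mul_assoc, ld21_14]

theorem ld20_13 (s t13 t14 t15 t16 t17 t18 t19 t20 t21 t22 t23 : K) :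
    xd 20 s * w13 t13 t14 t15 t16 t17 t18 t19 t20 t21 t22 t23 =
      w13 t13 t14 t15 t16 t17 t18 t19 (t20 + s) t21 (t22 + (t13 * s)) ((t23 + (t14 * (t13 * s))) + (t16 * s)) := by
  unfold w13
  rw [← mul_assoc, xd_swap_of_mem (r := 13) (s := 20) (q := 22) (c := 1) (by decide), mul_assoc, mul_assoc,
    ld22_14, ld20_14]

theorem ld19_13 (s t13 t14 t15 t16 t17 t18 t19 t20 t21 t22 t23 : K) :
    xd 19 s * w13 t13 t14 t15 t16 t17 t18 t19 t20 t21 t22 t23 =
      w13 t13 t14 t15 t16 t17 t18 (t19 + s) t20 (t21 + (t13 * s)) t22 ((t23 + (t15 * (t13 * s))) + (t17 * s)) := by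
  unfold w13
  rw [← mul_assoc, xd_swap_of_mem (r := 13) (s := 19) (q := 21) (c := 1) (by decide), mul_assoc, mul_assoc,
    ld21_14, ld19_14]

theorem ld18_13 (s t13 t14 t15 t16 t17 t18 t19 t20 t21 t22 t23 : K) :
    xd 18 s * w13 t13 t14 t15 t16 t17 t18 t19 t20 t21 t22 t23 =
      w13 t13 t14 t15 t16 t17 (t18 + s) (t19 + (t14 * s)) (t20 + (t15 * s)) (t21 + (t16 * s)) (t22 + (t17 * s)) ((t23 + (t17 * (t14 * s))) + (t16 * (t15 * s))) := by
  unfold w13
  rw [← mul_assoc, xd_comm_of_mem (r := 13) (s := 18) (by decide), mul_assoc, ld18_14]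

theorem ld17_13 (s t13 t14 t15 t16 t17 t18 t19 t20 t21 t22 t23 : K) :
    xd 17 s * w13 t13 t14 t15 t16 t17 t18 t19 t20 t21 t22 t23 =
      w13 t13 t14 t15 t16 (t17 + s) t18 t19 t20 t21 t22 t23 := by
  unfold w13
  rw [← mul_assoc, xd_comm_of_mem (r := 13) (s := 17) (by decide), mul_assoc, ld17_14]

theorem ld16_13 (s t13 t14 t15 t16 t17 t18 t19 t20 t21 t22 t23 : K) :
    xd 16 s * w13 t13 t14 t15 t16 t17 t18 t19 t20 t21 t22 t23 =
      w13 t13 t14 t15 (t16 + s) t17 t18 t19 t20 t21 t22 t23 := by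
  unfold w13
  rw [← mul_assoc, xd_comm_of_mem (r := 13) (s := 16) (by decide), mul_assoc, ld16_14]

theorem ld15_13 (s t13 t14 t15 t16 t17 t18 t19 t20 t21 t22 t23 : K) :
    xd 15 s * w13 t13 t14 t15 t16 t17 t18 t19 t20 t21 t22 t23 =
      w13 t13 t14 (t15 + s) t16 (t17 + (t13 * s)) t18 t19 t20 t21 t22 t23 := by
  unfold w13
  rw [← mul_assoc, xd_swap_of_mem (r := 13) (s := 15) (q := 17) (c := 1) (by decide), mul_assoc, mul_assoc,
    ld17_14, ld15_14]

theorem ld14_13 (s t13 t14 t15 t16 t17 t18 t19 t20 t21 t22 t23 : K) :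
    xd 14 s * w13 t13 t14 t15 t16 t17 t18 t19 t20 t21 t22 t23 =
      w13 t13 (t14 + s) t15 (t16 + (t13 * s)) t17 t18 t19 t20 t21 t22 t23 := by
  unfold w13
  rw [← mul_assoc, xd_swap_of_mem (r := 13) (s := 14) (q := 16) (c := 1) (by decide), mul_assoc, mul_assoc,
    ld16_14, ld14_14]

theorem ld13_13 (s t13 t14 t15 t16 t17 t18 t19 t20 t21 t22 t23 : K) :
    xd 13 s * w13 t13 t14 t15 t16 t17 t18 t19 t20 t21 t22 t23 =
      w13 (t13 + s) t14 t15 t16 t17 t18 t19 t20 t21 t22 t23 := by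
  unfold w13
  rw [← mul_assoc, xd_mul, add_comm]

theorem ld23_12 (s t12 t13 t14 t15 t16 t17 t18 t19 t20 t21 t22 t23 : K) :
    xd 23 s * w12 t12 t13 t14 t15 t16 t17 t18 t19 t20 t21 t22 t23 =
      w12 t12 t13 t14 t15 t16 t17 t18 t19 t20 t21 t22 (t23 + s) := by
  unfold w12
  rw [← mul_assoc, xd_comm_of_mem (r := 12) (s := 23) (by decide), mul_assoc, ld23_13]

theorem ld22_12 (s t12 t13 t14 t15 t16 t17 t18 t19 t20 t21 t22 t23 : K) :
    xd 22 s * w12 t12 t13 t14 t15 t16 t17 t18 t19 t20 t21 t22 t23 =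
      w12 t12 t13 t14 t15 t16 t17 t18 t19 t20 t21 (t22 + s) (t23 + (t14 * s)) := by
  unfold w12
  rw [← mul_assoc, xd_comm_of_mem (r := 12) (s := 22) (by decide), mul_assoc, ld22_13]

theorem ld21_12 (s t12 t13 t14 t15 t16 t17 t18 t19 t20 t21 t22 t23 : K) :
    xd 21 s * w12 t12 t13 t14 t15 t16 t17 t18 t19 t20 t21 t22 t23 =
      w12 t12 t13 t14 t15 t16 t17 t18 t19 t20 (t21 + s) (t22 + (t12 * s)) ((t23 + (t14 * (t12 * s))) + (t15 * s)) := by
  unfold w12
  rw [← mul_assoc, xd_swap_of_mem (r := 12) (s := 21) (q := 22) (c := 1) (by decide), mul_assoc, mul_assoc,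
    ld22_13, ld21_13]

theorem ld20_12 (s t12 t13 t14 t15 t16 t17 t18 t19 t20 t21 t22 t23 : K) :
    xd 20 s * w12 t12 t13 t14 t15 t16 t17 t18 t19 t20 t21 t22 t23 =
      w12 t12 t13 t14 t15 t16 t17 t18 t19 (t20 + s) t21 (t22 + (t13 * s)) ((t23 + (t14 * (t13 * s))) + (t16 * s)) := by
  unfold w12
  rw [← mul_assoc, xd_comm_of_mem (r := 12) (s := 20) (by decide), mul_assoc, ld20_13]

theorem ld19_12 (s t12 t13 t14 t15 t16 t17 t18 t19 t20 t21 t22 t23 : K) :
    xd 19 s * w12 t12 t13 t14 t15 t16 t17 t18 t19 t20 t21 t22 t23 =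
      w12 t12 t13 t14 t15 t16 t17 t18 (t19 + s) (t20 + (t12 * s)) (t21 + (t13 * s)) (t22 + (t13 * (t12 * s))) ((((t23 + (t14 * (t13 * (t12 * s)))) + (t16 * (t12 * s))) + (t15 * (t13 * s))) + (t17 * s)) := by
  unfold w12
  rw [← mul_assoc, xd_swap_of_mem (r := 12) (s := 19) (q := 20) (c := 1) (by decide), mul_assoc, mul_assoc,
    ld20_13, ld19_13]

theorem ld18_12 (s t12 t13 t14 t15 t16 t17 t18 t19 t20 t21 t22 t23 : K) :
    xd 18 s * w12 t12 t13 t14 t15 t16 t17 t18 t19 t20 t21 t22 t23 =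
      w12 t12 t13 t14 t15 t16 t17 (t18 + s) (t19 + (t14 * s)) (t20 + (t15 * s)) (t21 + (t16 * s)) (t22 + (t17 * s)) ((t23 + (t17 * (t14 * s))) + (t16 * (t15 * s))) := by
  unfold w12
  rw [← mul_assoc, xd_comm_of_mem (r := 12) (s := 18) (by decide), mul_assoc, ld18_13]

theorem ld17_12 (s t12 t13 t14 t15 t16 t17 t18 t19 t20 t21 t22 t23 : K) :
    xd 17 s * w12 t12 t13 t14 t15 t16 t17 t18 t19 t20 t21 t22 t23 =
      w12 t12 t13 t14 t15 t16 (t17 + s) t18 t19 t20 t21 t22 t23 := by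
  unfold w12
  rw [← mul_assoc, xd_comm_of_mem (r := 12) (s := 17) (by decide), mul_assoc, ld17_13]

theorem ld16_12 (s t12 t13 t14 t15 t16 t17 t18 t19 t20 t21 t22 t23 : K) :
    xd 16 s * w12 t12 t13 t14 t15 t16 t17 t18 t19 t20 t21 t22 t23 =
      w12 t12 t13 t14 t15 (t16 + s) (t17 + (t12 * s)) t18 t19 t20 t21 t22 t23 := by
  unfold w12
  rw [← mul_assoc, xd_swap_of_mem (r := 12) (s := 16) (q := 17) (c := 1) (by decide), mul_assoc, mul_assoc,
    ld17_13, ld16_13]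

theorem ld15_12 (s t12 t13 t14 t15 t16 t17 t18 t19 t20 t21 t22 t23 : K) :
    xd 15 s * w12 t12 t13 t14 t15 t16 t17 t18 t19 t20 t21 t22 t23 =
      w12 t12 t13 t14 (t15 + s) t16 (t17 + (t13 * s)) t18 t19 t20 t21 t22 t23 := by
  unfold w12
  rw [← mul_assoc, xd_comm_of_mem (r := 12) (s := 15) (by decide), mul_assoc, ld15_13]

theorem ld14_12 (s t12 t13 t14 t15 t16 t17 t18 t19 t20 t21 t22 t23 : K) :
    xd 14 s * w12 t12 t13 t14 t15 t16 t17 t18 t19 t20 t21 t22 t23 =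
      w12 t12 t13 (t14 + s) (t15 + (t12 * s)) (t16 + (t13 * s)) (t17 + (t13 * (t12 * s))) t18 t19 t20 t21 t22 t23 := by
  unfold w12
  rw [← mul_assoc, xd_swap_of_mem (r := 12) (s := 14) (q := 15) (c := 1) (by decide), mul_assoc, mul_assoc,
    ld15_13, ld14_13]

theorem ld13_12 (s t12 t13 t14 t15 t16 t17 t18 t19 t20 t21 t22 t23 : K) :
    xd 13 s * w12 t12 t13 t14 t15 t16 t17 t18 t19 t20 t21 t22 t23 =
      w12 t12 (t13 + s) t14 t15 t16 t17 t18 t19 t20 t21 t22 t23 := by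
  unfold w12
  rw [← mul_assoc, xd_comm_of_mem (r := 12) (s := 13) (by decide), mul_assoc, ld13_13]

theorem ld12_12 (s t12 t13 t14 t15 t16 t17 t18 t19 t20 t21 t22 t23 : K) :
    xd 12 s * w12 t12 t13 t14 t15 t16 t17 t18 t19 t20 t21 t22 t23 =
      w12 (t12 + s) t13 t14 t15 t16 t17 t18 t19 t20 t21 t22 t23 := by
  unfold w12
  rw [← mul_assoc, xd_mul, add_comm]

end char2

theorem w12_zero : w12 (0 : K) 0 0 0 0 0 0 0 0 0 0 0 = 1 := by
  unfold w12 w13 w14 w15 w16 w17 w18 w19 w20 w21 w22 w23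
  simp only [xd_zero, mul_one]

theorem w12_congr {t12 t12' t13 t13' t14 t14' t15 t15' t16 t16' t17 t17' t18 t18' t19 t19' t20 t20' t21 t21' t22 t22' t23 t23' : K}
    (h12 : t12 = t12') (h13 : t13 = t13') (h14 : t14 = t14') (h15 : t15 = t15') (h16 : t16 = t16') (h17 : t17 = t17') (h18 : t18 = t18') (h19 : t19 = t19') (h20 : t20 = t20') (h21 : t21 = t21') (h22 : t22 = t22') (h23 : t23 = t23') :
    w12 t12 t13 t14 t15 t16 t17 t18 t19 t20 t21 t22 t23 = w12 t12' t13' t14' t15' t16' t17' t18' t19' t20' t21' t22' t23' := by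
  subst h12 h13 h14 h15 h16 h17 h18 h19 h20 h21 h22 h23
  rfl

theorem eq_of_mul_w12 {X Y : GL chevD4.Idx K}
    (h : X * w12 (0 : K) 0 0 0 0 0 0 0 0 0 0 0 = Y * w12 (0 : K) 0 0 0 0 0 0 0 0 0 0 0) : X = Y :=
  mul_right_cancel h

end Cfsg.Agent.Helper7.Chev
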