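import Mathlib
import Cfsg.Agent.Helper7.D4InvB

set_option autoImplicit false
set_option linter.unusedSectionVars false
set_option linter.unusedVariables false
set_option maxHeartbeats 1000000
set_option linter.unusedSimpArgs false

/-!
The twisted root elements of `³D₄` in characteristic two: normal form, conjugation and squares (generated text).
-/

namespace Cfsg.Agent.Helper7.Chev

open Cfsg Cfsg.Lie Matrix
open scoped Pointwise

variable {K : Type*} [Field K]

/-- The twisted root elements of the short roots `a`, `a+b`, `2a+b` and of the long roots `b`, `3a+b`, `3a+2b`. -/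
noncomputable def tA (f : K ≃+* K) (t : K) : GL chevD4.Idx K := xd 18 t * (xd 13 (f t) * xd 12 (f (f t)))
noncomputable def tB (u : K) : GL chevD4.Idx K := xd 14 u
noncomputable def tC (f : K ≃+* K) (t : K) : GL chevD4.Idx K := xd 19 t * (xd 16 (f t) * xd 15 (f (f t)))
noncomputable def tD (f : K ≃+* K) (t : K) : GL chevD4.Idx K := xd 21 t * (xd 17 (f t) * xd 20 (f (f t)))
noncomputable def tE (u : K) : GL chevD4.Idx K := xd 22 u
noncomputable def tG (u : K) : GL chevD4.Idx K := xd 23 u
/-- The normal form in `U¹`. -/
noncomputable def tw (f : K ≃+* K) (b a c d e g : K) : GL chevD4.Idx K :=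
  tB b * (tA f a * (tC f c * (tD f d * (tE e * tG g))))

section char2

variable [CharP K 2] (f : K ≃+* K) (hf3 : ∀ t, f (f (f t)) = t)

include hf3 in
theorem tw_eq_w12 (b a c d e g : K) :
    tw f b a c d e g = w12 (f (f a)) (f a) (b) (f (f a) * b + f (f c)) (f a * b + f c) (f a * f (f a) * b + f d) (a) (c) (a * f (f c) + f (f d)) (a * f c + d) (a * f d + e) (a * f c * f (f c) + c * f d + g) := by
  have h2 := two_eq_zero_F (F := K)
  rw [← mul_one (tw f b a c d e g), ← w12_zero]
  simp only [tw, tA, tB, tC, tD, tE, tG, mul_assoc]
  rw [ld23_12, ld22_12, ld20_12, ld17_12, ld21_12, ld15_12, ld16_12, ld19_12, ld12_12, ld13_12, ld18_12, ld14_12]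
  apply w12_congr
  · (try simp only [map_add, map_mul, map_zero, map_pow, hf3]) <;>
      linear_combination (0) * h2
  · (try simp only [map_add, map_mul, map_zero, map_pow, hf3]) <;>
      linear_combination (0) * h2
  · (try simp only [map_add, map_mul, map_zero, map_pow, hf3]) <;>
      linear_combination (0) * h2
  · (try simp only [map_add, map_mul, map_zero, map_pow, hf3]) <;>
      linear_combination (0) * h2
  · (try simp only [map_add, map_mul, map_zero, map_pow, hf3]) <;>
      linear_combination (0) * h2
  · (try simp only [map_add, map_mul, map_zero, map_pow, hf3]) <;>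
      linear_combination (0) * h2
  · (try simp only [map_add, map_mul, map_zero, map_pow, hf3]) <;>
      linear_combination (0) * h2
  · (try simp only [map_add, map_mul, map_zero, map_pow, hf3]) <;>
      linear_combination (0) * h2
  · (try simp only [map_add, map_mul, map_zero, map_pow, hf3]) <;>
      linear_combination (0) * h2
  · (try simp only [map_add, map_mul, map_zero, map_pow, hf3]) <;>
      linear_combination (0) * h2
  · (try simp only [map_add, map_mul, map_zero, map_pow, hf3]) <;>
      linear_combination (0) * h2
  · (try simp only [map_add, map_mul, map_zero, map_pow, hf3]) <;>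
      linear_combination (0) * h2

include hf3 in
theorem cjB (r b a c d e g : K) (hb : f b = b) (he : f e = e) (hg : f g = g) (hs : f r = r) :
    tB (r) * tw f b a c d e g * tB (r) =
      tw f (b) (a) (a * r + c) (a * f a * r + d) (a * f a * f (f a) * r + e) (a * f a * f (f c) * r + a * f (f a) * f c * r + f a * f (f a) * c * r + e * r + g) := by
  have h2 := two_eq_zero_F (F := K)
  apply eq_of_mul_w12
  simp only [tw, tA, tB, tC, tD, tE, tG, mul_assoc]
  conv_lhs => rw [ld14_12, ld23_12, ld22_12, ld20_12, ld17_12, ld21_12, ld15_12, ld16_12, ld19_12, ld12_12, ld13_12, ld18_12, ld14_12, ld14_12]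
  conv_rhs => rw [ld23_12, ld22_12, ld20_12, ld17_12, ld21_12, ld15_12, ld16_12, ld19_12, ld12_12, ld13_12, ld18_12, ld14_12]
  apply w12_congr
  · (try simp only [map_add, map_mul, map_zero, map_pow, hf3, hb, he, hg, hs]) <;>
      linear_combination (0) * h2
  · (try simp only [map_add, map_mul, map_zero, map_pow, hf3, hb, he, hg, hs]) <;>
      linear_combination (0) * h2
  · (try simp only [map_add, map_mul, map_zero, map_pow, hf3, hb, he, hg, hs]) <;>
      linear_combination (r) * h2
  · (try simp only [map_add, map_mul, map_zero, map_pow, hf3, hb, he, hg, hs]) <;>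
      linear_combination (0) * h2
  · (try simp only [map_add, map_mul, map_zero, map_pow, hf3, hb, he, hg, hs]) <;>
      linear_combination (0) * h2
  · (try simp only [map_add, map_mul, map_zero, map_pow, hf3, hb, he, hg, hs]) <;>
      linear_combination (0) * h2
  · (try simp only [map_add, map_mul, map_zero, map_pow, hf3, hb, he, hg, hs]) <;>
      linear_combination (0) * h2
  · (try simp only [map_add, map_mul, map_zero, map_pow, hf3, hb, he, hg, hs]) <;>
      linear_combination (0) * h2
  · (try simp only [map_add, map_mul, map_zero, map_pow, hf3, hb, he, hg, hs]) <;>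
      linear_combination ((-1) * a * f (f a) * r) * h2
  · (try simp only [map_add, map_mul, map_zero, map_pow, hf3, hb, he, hg, hs]) <;>
      linear_combination ((-1) * a * f a * r) * h2
  · (try simp only [map_add, map_mul, map_zero, map_pow, hf3, hb, he, hg, hs]) <;>
      linear_combination ((-1) * a * f a * f (f a) * r) * h2
  · (try simp only [map_add, map_mul, map_zero, map_pow, hf3, hb, he, hg, hs]) <;>
      linear_combination ((-1) * a * f a * f (f a) * r ^ 2 + (-1) * a * f a * f (f c) * r + (-1) * a * f (f a) * f c * r + (-1) * f a * f (f a) * c * r) * h2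

include hf3 in
theorem cjA (s b a c d e g : K) (hb : f b = b) (he : f e = e) (hg : f g = g) :
    tA f (s) * tw f b a c d e g * tA f (s) =
      tw f (b) (a) (b * s + c) (a * b * f s + f a * b * s + b * s * f s + c * f s + f c * s + d) (a * f a * b * f (f s) + a * f (f a) * b * f s + a * b * f s * f (f s) + f a * f (f a) * b * s + f a * b * s * f (f s) + f (f a) * b * s * f s + b * s * f s * f (f s) + c * f s * f (f s) + f c * s * f (f s) + f (f c) * s * f s + d * f (f s) + f d * s + f (f d) * f s + e) (a * b * f c * f (f s) + a * b * f (f c) * f s + a * b ^ 2 * f s * f (f s) + f a * b * c * f (f s) + f a * b * f (f c) * s + f a * b ^ 2 * s * f (f s) + f (f a) * b * c * f s + f (f a) * b * f c * s + f (f a) * b ^ 2 * s * f s + b * c * f s * f (f s) + b * f c * s * f (f s) + b * f (f c) * s * f s + b ^ 2 * s * f s * f (f s) + c * f c * f (f s) + c * f (f c) * f s + f c * f (f c) * s + g) := by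
  have h2 := two_eq_zero_F (F := K)
  apply eq_of_mul_w12
  simp only [tw, tA, tB, tC, tD, tE, tG, mul_assoc]
  conv_lhs => rw [ld12_12, ld13_12, ld18_12, ld23_12, ld22_12, ld20_12, ld17_12, ld21_12, ld15_12, ld16_12, ld19_12, ld12_12, ld13_12, ld18_12, ld14_12, ld12_12, ld13_12, ld18_12]
  conv_rhs => rw [ld23_12, ld22_12, ld20_12, ld17_12, ld21_12, ld15_12, ld16_12, ld19_12, ld12_12, ld13_12, ld18_12, ld14_12]
  apply w12_congr
  · (try simp only [map_add, map_mul, map_zero, map_pow, hf3, hb, he, hg]) <;>
      linear_combination (f (f s)) * h2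
  · (try simp only [map_add, map_mul, map_zero, map_pow, hf3, hb, he, hg]) <;>
      linear_combination (f s) * h2
  · (try simp only [map_add, map_mul, map_zero, map_pow, hf3, hb, he, hg]) <;>
      linear_combination (0) * h2
  · (try simp only [map_add, map_mul, map_zero, map_pow, hf3, hb, he, hg]) <;>
      linear_combination (0) * h2
  · (try simp only [map_add, map_mul, map_zero, map_pow, hf3, hb, he, hg]) <;>
      linear_combination (0) * h2
  · (try simp only [map_add, map_mul, map_zero, map_pow, hf3, hb, he, hg]) <;>
      linear_combination (0) * h2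
  · (try simp only [map_add, map_mul, map_zero, map_pow, hf3, hb, he, hg]) <;>
      linear_combination (s) * h2
  · (try simp only [map_add, map_mul, map_zero, map_pow, hf3, hb, he, hg]) <;>
      linear_combination (0) * h2
  · (try simp only [map_add, map_mul, map_zero, map_pow, hf3, hb, he, hg]) <;>
      linear_combination ((-1) * a * b * f (f s)) * h2
  · (try simp only [map_add, map_mul, map_zero, map_pow, hf3, hb, he, hg]) <;>
      linear_combination ((-1) * a * b * f s) * h2
  · (try simp only [map_add, map_mul, map_zero, map_pow, hf3, hb, he, hg]) <;>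
      linear_combination ((-1) * a * f a * b * f (f s) + (-1) * a * f (f a) * b * f s + (-1) * a * b * f s * f (f s)) * h2
  · (try simp only [map_add, map_mul, map_zero, map_pow, hf3, hb, he, hg]) <;>
      linear_combination ((-1) * a * b * f c * f (f s) + (-1) * a * b * f (f c) * f s + (-1) * a * b ^ 2 * f s * f (f s) + f a * f (f a) * b ^ 2 * s + (-1) * f a * b * c * f (f s) + (-1) * f (f a) * b * c * f s + (-1) * b * c * f s * f (f s)) * h2

include hf3 in
theorem cjC (s b a c d e g : K) (hb : f b = b) (he : f e = e) (hg : f g = g) :
    tC f (s) * tw f b a c d e g * tC f (s) =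
      tw f (b) (a) (c) (a * f s + f a * s + d) (a * f a * f (f s) + a * f (f a) * f s + f a * f (f a) * s + e) (a * f c * f (f s) + a * f (f c) * f s + a * f s * f (f s) + f a * c * f (f s) + f a * f (f c) * s + f a * s * f (f s) + f (f a) * c * f s + f (f a) * f c * s + f (f a) * s * f s + d * f (f s) + f d * s + f (f d) * f s + g) := by
  have h2 := two_eq_zero_F (F := K)
  apply eq_of_mul_w12
  simp only [tw, tA, tB, tC, tD, tE, tG, mul_assoc]
  conv_lhs => rw [ld15_12, ld16_12, ld19_12, ld23_12, ld22_12, ld20_12, ld17_12, ld21_12, ld15_12, ld16_12, ld19_12, ld12_12, ld13_12, ld18_12, ld14_12, ld15_12, ld16_12, ld19_12]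
  conv_rhs => rw [ld23_12, ld22_12, ld20_12, ld17_12, ld21_12, ld15_12, ld16_12, ld19_12, ld12_12, ld13_12, ld18_12, ld14_12]
  apply w12_congr
  · (try simp only [map_add, map_mul, map_zero, map_pow, hf3, hb, he, hg]) <;>
      linear_combination (0) * h2
  · (try simp only [map_add, map_mul, map_zero, map_pow, hf3, hb, he, hg]) <;>
      linear_combination (0) * h2
  · (try simp only [map_add, map_mul, map_zero, map_pow, hf3, hb, he, hg]) <;>
      linear_combination (0) * h2
  · (try simp only [map_add, map_mul, map_zero, map_pow, hf3, hb, he, hg]) <;>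
      linear_combination (f (f s)) * h2
  · (try simp only [map_add, map_mul, map_zero, map_pow, hf3, hb, he, hg]) <;>
      linear_combination (f s) * h2
  · (try simp only [map_add, map_mul, map_zero, map_pow, hf3, hb, he, hg]) <;>
      linear_combination (0) * h2
  · (try simp only [map_add, map_mul, map_zero, map_pow, hf3, hb, he, hg]) <;>
      linear_combination (0) * h2
  · (try simp only [map_add, map_mul, map_zero, map_pow, hf3, hb, he, hg]) <;>
      linear_combination (s) * h2
  · (try simp only [map_add, map_mul, map_zero, map_pow, hf3, hb, he, hg]) <;>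
      linear_combination (0) * h2
  · (try simp only [map_add, map_mul, map_zero, map_pow, hf3, hb, he, hg]) <;>
      linear_combination (0) * h2
  · (try simp only [map_add, map_mul, map_zero, map_pow, hf3, hb, he, hg]) <;>
      linear_combination ((-1) * a * f a * f (f s) + (-1) * a * f (f a) * f s) * h2
  · (try simp only [map_add, map_mul, map_zero, map_pow, hf3, hb, he, hg]) <;>
      linear_combination (2 * f a * f (f a) * b * s + (-1) * f a * c * f (f s) + f a * s * f (f s) + (-1) * f (f a) * c * f s + f (f a) * s * f s) * h2

include hf3 in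
theorem cjD (s b a c d e g : K) (hb : f b = b) (he : f e = e) (hg : f g = g) :
    tD f (s) * tw f b a c d e g * tD f (s) =
      tw f (b) (a) (c) (d) (a * f s + f a * f (f s) + f (f a) * s + e) (c * f s + f c * f (f s) + f (f c) * s + g) := by
  have h2 := two_eq_zero_F (F := K)
  apply eq_of_mul_w12
  simp only [tw, tA, tB, tC, tD, tE, tG, mul_assoc]
  conv_lhs => rw [ld20_12, ld17_12, ld21_12, ld23_12, ld22_12, ld20_12, ld17_12, ld21_12, ld15_12, ld16_12, ld19_12, ld12_12, ld13_12, ld18_12, ld14_12, ld20_12, ld17_12, ld21_12]
  conv_rhs => rw [ld23_12, ld22_12, ld20_12, ld17_12, ld21_12, ld15_12, ld16_12, ld19_12, ld12_12, ld13_12, ld18_12, ld14_12]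
  apply w12_congr
  · (try simp only [map_add, map_mul, map_zero, map_pow, hf3, hb, he, hg]) <;>
      linear_combination (0) * h2
  · (try simp only [map_add, map_mul, map_zero, map_pow, hf3, hb, he, hg]) <;>
      linear_combination (0) * h2
  · (try simp only [map_add, map_mul, map_zero, map_pow, hf3, hb, he, hg]) <;>
      linear_combination (0) * h2
  · (try simp only [map_add, map_mul, map_zero, map_pow, hf3, hb, he, hg]) <;>
      linear_combination (0) * h2
  · (try simp only [map_add, map_mul, map_zero, map_pow, hf3, hb, he, hg]) <;>
      linear_combination (0) * h2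
  · (try simp only [map_add, map_mul, map_zero, map_pow, hf3, hb, he, hg]) <;>
      linear_combination (f s) * h2
  · (try simp only [map_add, map_mul, map_zero, map_pow, hf3, hb, he, hg]) <;>
      linear_combination (0) * h2
  · (try simp only [map_add, map_mul, map_zero, map_pow, hf3, hb, he, hg]) <;>
      linear_combination (0) * h2
  · (try simp only [map_add, map_mul, map_zero, map_pow, hf3, hb, he, hg]) <;>
      linear_combination (f (f s)) * h2
  · (try simp only [map_add, map_mul, map_zero, map_pow, hf3, hb, he, hg]) <;>
      linear_combination (s) * h2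
  · (try simp only [map_add, map_mul, map_zero, map_pow, hf3, hb, he, hg]) <;>
      linear_combination (0) * h2
  · (try simp only [map_add, map_mul, map_zero, map_pow, hf3, hb, he, hg]) <;>
      linear_combination (f a * b * f (f s) + f (f a) * b * s) * h2

include hf3 in
theorem cjE (r b a c d e g : K) (hb : f b = b) (he : f e = e) (hg : f g = g) (hs : f r = r) :
    tE (r) * tw f b a c d e g * tE (r) =
      tw f (b) (a) (c) (d) (e) (b * r + g) := by
  have h2 := two_eq_zero_F (F := K)
  apply eq_of_mul_w12
  simp only [tw, tA, tB, tC, tD, tE, tG, mul_assoc]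
  conv_lhs => rw [ld22_12, ld23_12, ld22_12, ld20_12, ld17_12, ld21_12, ld15_12, ld16_12, ld19_12, ld12_12, ld13_12, ld18_12, ld14_12, ld22_12]
  conv_rhs => rw [ld23_12, ld22_12, ld20_12, ld17_12, ld21_12, ld15_12, ld16_12, ld19_12, ld12_12, ld13_12, ld18_12, ld14_12]
  apply w12_congr
  · (try simp only [map_add, map_mul, map_zero, map_pow, hf3, hb, he, hg, hs]) <;>
      linear_combination (0) * h2
  · (try simp only [map_add, map_mul, map_zero, map_pow, hf3, hb, he, hg, hs]) <;>
      linear_combination (0) * h2
  · (try simp only [map_add, map_mul, map_zero, map_pow, hf3, hb, he, hg, hs]) <;>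
      linear_combination (0) * h2
  · (try simp only [map_add, map_mul, map_zero, map_pow, hf3, hb, he, hg, hs]) <;>
      linear_combination (0) * h2
  · (try simp only [map_add, map_mul, map_zero, map_pow, hf3, hb, he, hg, hs]) <;>
      linear_combination (0) * h2
  · (try simp only [map_add, map_mul, map_zero, map_pow, hf3, hb, he, hg, hs]) <;>
      linear_combination (0) * h2
  · (try simp only [map_add, map_mul, map_zero, map_pow, hf3, hb, he, hg, hs]) <;>
      linear_combination (0) * h2
  · (try simp only [map_add, map_mul, map_zero, map_pow, hf3, hb, he, hg, hs]) <;>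
      linear_combination (0) * h2
  · (try simp only [map_add, map_mul, map_zero, map_pow, hf3, hb, he, hg, hs]) <;>
      linear_combination (0) * h2
  · (try simp only [map_add, map_mul, map_zero, map_pow, hf3, hb, he, hg, hs]) <;>
      linear_combination (0) * h2
  · (try simp only [map_add, map_mul, map_zero, map_pow, hf3, hb, he, hg, hs]) <;>
      linear_combination (r) * h2
  · (try simp only [map_add, map_mul, map_zero, map_pow, hf3, hb, he, hg, hs]) <;>
      linear_combination (0) * h2

include hf3 in
theorem tw_sq (b a c d e g : K) (hb : f b = b) (he : f e = e) (hg : f g = g) :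
    tw f b a c d e g * tw f b a c d e g =
      tw f (0) (0) (a * b) (a * f a * b + a * f c + f a * c) (a * f a * f (f a) * b + a * f a * f (f c) + a * f (f a) * f c + a * f d + f a * f (f a) * c + f a * f (f d) + f (f a) * d) (a * f a * f (f a) * b ^ 2 + a * f c * f (f c) + f a * c * f (f c) + f (f a) * c * f c + b * e + c * f d + f c * f (f d) + f (f c) * d) := by
  have h2 := two_eq_zero_F (F := K)
  apply eq_of_mul_w12
  simp only [tw, tA, tB, tC, tD, tE, tG, mul_assoc]
  conv_lhs => rw [ld23_12, ld22_12, ld20_12, ld17_12, ld21_12, ld15_12, ld16_12, ld19_12, ld12_12, ld13_12, ld18_12, ld14_12, ld23_12, ld22_12, ld20_12, ld17_12, ld21_12, ld15_12, ld16_12, ld19_12, ld12_12, ld13_12, ld18_12, ld14_12]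
  conv_rhs => rw [ld23_12, ld22_12, ld20_12, ld17_12, ld21_12, ld15_12, ld16_12, ld19_12, ld12_12, ld13_12, ld18_12, ld14_12]
  apply w12_congr
  · (try simp only [map_add, map_mul, map_zero, map_pow, hf3, hb, he, hg]) <;>
      linear_combination (f (f a)) * h2
  · (try simp only [map_add, map_mul, map_zero, map_pow, hf3, hb, he, hg]) <;>
      linear_combination (f a) * h2
  · (try simp only [map_add, map_mul, map_zero, map_pow, hf3, hb, he, hg]) <;>
      linear_combination (b) * h2
  · (try simp only [map_add, map_mul, map_zero, map_pow, hf3, hb, he, hg]) <;>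
      linear_combination (f (f a) * b + f (f c)) * h2
  · (try simp only [map_add, map_mul, map_zero, map_pow, hf3, hb, he, hg]) <;>
      linear_combination (f a * b + f c) * h2
  · (try simp only [map_add, map_mul, map_zero, map_pow, hf3, hb, he, hg]) <;>
      linear_combination (2 * f a * f (f a) * b + f d) * h2
  · (try simp only [map_add, map_mul, map_zero, map_pow, hf3, hb, he, hg]) <;>
      linear_combination (a) * h2
  · (try simp only [map_add, map_mul, map_zero, map_pow, hf3, hb, he, hg]) <;>
      linear_combination (c) * h2
  · (try simp only [map_add, map_mul, map_zero, map_pow, hf3, hb, he, hg]) <;>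
      linear_combination (a * f (f c) + f (f d)) * h2
  · (try simp only [map_add, map_mul, map_zero, map_pow, hf3, hb, he, hg]) <;>
      linear_combination (a * f c + d) * h2
  · (try simp only [map_add, map_mul, map_zero, map_pow, hf3, hb, he, hg]) <;>
      linear_combination (a * f d + e) * h2
  · (try simp only [map_add, map_mul, map_zero, map_pow, hf3, hb, he, hg]) <;>
      linear_combination (a * f a * b * f (f c) + a * f (f a) * b * f c + a * b * f d + 2 * a * f c * f (f c) + 2 * f a * f (f a) * b * c + f a * b * f (f d) + f a * c * f (f c) + f (f a) * b * d + f (f a) * c * f c + c * f d + g) * h2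

end char2

end Cfsg.Agent.Helper7.Chev
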