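import Mathlib
import Cfsg.Agent.Helper7.D4InvC

set_option autoImplicit false
set_option linter.unusedSectionVars false
set_option linter.unusedVariables false

/-!
Uniqueness of the normal forms in `U` (type `D₄`) and in `U¹` (type `³D₄`).
-/

namespace Cfsg.Agent.Helper7.Chev

open Cfsg Cfsg.Lie Matrix
open scoped Pointwise

variable {K : Type*} [Field K]

/-- The parameters of a normal form as a function of the index of the root. -/
def w12fun (t12 t13 t14 t15 t16 t17 t18 t19 t20 t21 t22 t23 : K) : ℕ → K :=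
  fun r => [t12, t13, t14, t15, t16, t17, t18, t19, t20, t21, t22, t23].getD (r - 12) 0

theorem w12_coe (t12 t13 t14 t15 t16 t17 t18 t19 t20 t21 t22 t23 : K) :
    ((w12 t12 t13 t14 t15 t16 t17 t18 t19 t20 t21 t22 t23 : GL chevD4.Idx K) :
      Matrix chevD4.Idx chevD4.Idx K) =
      chevD4.wordMat K ((List.range' 12 12).map fun r =>
        (r, w12fun t12 t13 t14 t15 t16 t17 t18 t19 t20 t21 t22 t23 r)) := by
  unfold w12 w13 w14 w15 w16 w17 w18 w19 w20 w21 w22 w23
  simp only [List.range', List.map_cons, List.map_nil, wordMat_cons, wordMat_nil, Units.val_mul,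
    xd_coe, mul_one]
  rfl

/-- Uniqueness of the normal form in `U`. -/
theorem w12_inj {t12 t13 t14 t15 t16 t17 t18 t19 t20 t21 t22 t23
    s12 s13 s14 s15 s16 s17 s18 s19 s20 s21 s22 s23 : K}
    (h : w12 t12 t13 t14 t15 t16 t17 t18 t19 t20 t21 t22 t23 =
      w12 s12 s13 s14 s15 s16 s17 s18 s19 s20 s21 s22 s23) :
    t12 = s12 ∧ t13 = s13 ∧ t14 = s14 ∧ t15 = s15 ∧ t16 = s16 ∧ t17 = s17 ∧ t18 = s18 ∧ t19 = s19 ∧
      t20 = s20 ∧ t21 = s21 ∧ t22 = s22 ∧ t23 = s23 := by
  have h' := congrArg (fun g : GL chevD4.Idx K => (g : Matrix chevD4.Idx chevD4.Idx K)) h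
  simp only [w12_coe] at h'
  have key := word_unique good2_D4 T0_D4 T8_D4 12 12 rfl (by decide) _ _ h'
  refine ⟨key 12 (by decide), key 13 (by decide), key 14 (by decide), key 15 (by decide),
    key 16 (by decide), key 17 (by decide), key 18 (by decide), key 19 (by decide),
    key 20 (by decide), key 21 (by decide), key 22 (by decide), key 23 (by decide)⟩

theorem w12_mem_U (t12 t13 t14 t15 t16 t17 t18 t19 t20 t21 t22 t23 : K) :
    w12 t12 t13 t14 t15 t16 t17 t18 t19 t20 t21 t22 t23 ∈ chevD4.posUnipotent K := by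
  unfold w12 w13 w14 w15 w16 w17 w18 w19 w20 w21 w22 w23
  have h := fun (r : Fin 24) (hr : 12 ≤ r.val) (a : K) => xd_mem_U r hr a
  exact mul_mem (h 12 (by decide) _) (mul_mem (h 13 (by decide) _) (mul_mem (h 14 (by decide) _)
    (mul_mem (h 15 (by decide) _) (mul_mem (h 16 (by decide) _) (mul_mem (h 17 (by decide) _)
    (mul_mem (h 18 (by decide) _) (mul_mem (h 19 (by decide) _) (mul_mem (h 20 (by decide) _)
    (mul_mem (h 21 (by decide) _) (mul_mem (h 22 (by decide) _) (h 23 (by decide) _)))))))))))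

section char2

variable [CharP K 2] (f : K ≃+* K) (hf3 : ∀ t, f (f (f t)) = t)

include hf3 in
/-- Uniqueness of the normal form in `U¹`. -/
theorem tw_inj {b a c d e g b' a' c' d' e' g' : K}
    (h : tw f b a c d e g = tw f b' a' c' d' e' g') :
    b = b' ∧ a = a' ∧ c = c' ∧ d = d' ∧ e = e' ∧ g = g' := by
  rw [tw_eq_w12 f hf3, tw_eq_w12 f hf3] at h
  obtain ⟨-, -, h14, -, -, -, h18, h19, -, h21, h22, h23⟩ := w12_inj h
  subst h14 h18 h19
  have hd : d = d' := by linear_combination h21
  subst hd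
  have he : e = e' := by linear_combination h22
  subst he
  have hg : g = g' := by linear_combination h23
  subst hg
  exact ⟨rfl, rfl, rfl, rfl, rfl, rfl⟩

include hf3 in
theorem tw_mem_U (b a c d e g : K) : tw f b a c d e g ∈ chevD4.posUnipotent K := by
  rw [tw_eq_w12 f hf3]
  exact w12_mem_U _ _ _ _ _ _ _ _ _ _ _ _

theorem tw_zero : tw f (0 : K) 0 0 0 0 0 = 1 := by
  unfold tw tA tB tC tD tE tG
  simp only [map_zero, xd_zero, mul_one]

end char2

end Cfsg.Agent.Helper7.Chev
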