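import Mathlib
import Cfsg.Agent.Helper7.TdB

set_option autoImplicit false
set_option linter.unusedSectionVars false
set_option linter.unusedVariables false

/-!
# S2110, part C: canonical lifts of the root elements

* `sl`: the canonical lift `⟦g₀, x ((ν - 1)⁻¹ t)⟧` of a short root element (`g₀` the rotation element acting on `x` by `ν ≠ 1`):
  `sl_ψ`, `sl_add`, `sl_kap` (equivariance under elements commuting with `g₀`).
* `cm_pair_eq`: for a pair `x₁, x₂` of short root groups with `[x₁ t, x₂ s] = y (σ s · t)` and enough torus elements centralizing the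
  lifts of `y`, the commutator of lifts `⟦x₁ t, x₂ s⟧` is `D (σ s · t)` with `D w = ⟦x₁ w, x₂ 1⟧`; `pl` is this `D`.
-/

namespace Cfsg.Agent.Helper7.Td

open Cfsg.Agent.Helper7.Sc

variable {K : Type*} [Field K] {G E : Type*} [Group G] [Group E] (C : CExt E G)

/-! ### canonical lifts of a short root group -/

/-- the canonical lift of `x t`: the commutator of lifts of the rotation element `g₀` and of `x ((ν - 1)⁻¹ t)`. -/
noncomputable def sl (x : K → G) (g₀ : G) (ν : K) (t : K) : E := C.cm g₀ (x ((ν - 1)⁻¹ * t))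

section sl

variable {x : K → G} (hx : ∀ t u, x t * x u = x (t + u)) (hlc : ∀ t u, C.LC (x t) (x u))
  {g₀ : G} {ν : K} (hν : ν ≠ 1) (hg₀ : ∀ t, g₀ * x t * g₀⁻¹ = x (ν * t))

include hx hν hg₀ in
theorem sl_ψ (t : K) : C.ψ (sl C x g₀ ν t) = x t := by
  have hν1 : ν - 1 ≠ 0 := sub_ne_zero.mpr hν
  unfold sl
  rw [C.ψ_cm, hg₀, td_add_sub hx]
  congr 1
  field_simp

include hx hlc hν hg₀ in
theorem sl_add (t u : K) : sl C x g₀ ν t * sl C x g₀ ν u = sl C x g₀ ν (t + u) := by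
  have h2 := sl_ψ C hx hν hg₀ u
  unfold sl at h2 ⊢
  rw [mul_add, ← hx, C.cm_mul_right, (hlc _ _).kap_eq C h2]

include hg₀ in
/-- equivariance under an element commuting with the rotation element. -/
theorem sl_kap {g : G} (hgg : g * g₀ = g₀ * g) {χ : K} (hg : ∀ t, g * x t * g⁻¹ = x (χ * t)) (t : K) :
    C.kap g (sl C x g₀ ν t) = sl C x g₀ ν (χ * t) := by
  unfold sl
  have e : g * g₀ * g⁻¹ = g₀ := by rw [hgg]; group
  rw [C.kap_cm, e, hg]
  congr 2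
  ring

end sl

/-! ### the commutator of lifts of two short root groups whose sum is a long root -/

section pair

variable {x₁ x₂ y : K → G} (σ : K →+* K) (σ3 : ∀ t, σ (σ (σ t)) = t)
  (hx₁ : ∀ t u, x₁ t * x₁ u = x₁ (t + u)) (hx₂ : ∀ t u, x₂ t * x₂ u = x₂ (t + u))
  (hrel : ∀ t s, x₁ t * x₂ s * (x₁ t)⁻¹ * (x₂ s)⁻¹ = y (σ s * t))
  (htor : ∀ κ : K, κ ≠ 0 → ∃ g : G, (∀ t, g * x₁ t * g⁻¹ = x₁ (κ * t)) ∧
    (∀ s, g * x₂ s * g⁻¹ = x₂ (σ (σ κ⁻¹) * s)) ∧ ∀ w, C.LC g (y w))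

/-- the lift `⟦x₁ w, x₂ 1⟧` of `y w`. -/
noncomputable def pl (x₁ x₂ : K → G) (w : K) : E := C.cm (x₁ w) (x₂ 1)

include hrel in
theorem pl_ψ (w : K) : C.ψ (pl C x₁ x₂ w) = y w := by
  unfold pl
  rw [C.ψ_cm, hrel, map_one, one_mul]

include σ3 hx₁ hx₂ hrel htor in
/-- `⟦x₁ t, x₂ s⟧ = D (σ s · t)`. -/
theorem cm_pair_eq (t s : K) : C.cm (x₁ t) (x₂ s) = pl C x₁ x₂ (σ s * t) := by
  unfold pl
  by_cases hs : s = 0
  · rw [hs, map_zero, zero_mul, td_add_zero hx₁, td_add_zero hx₂, td_cm_one_left, td_cm_one_right]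
  · have hκ : σ s ≠ 0 := (map_ne_zero σ).mpr hs
    obtain ⟨g, hg1, hg2, hg3⟩ := htor (σ s) hκ
    have hψ : C.ψ (C.cm (x₁ t) (x₂ s)) = y (σ s * t) := by rw [C.ψ_cm, hrel]
    have h1 := (hg3 (σ s * t)).kap_eq C hψ
    rw [C.kap_cm, hg1, hg2] at h1
    rw [← h1]
    congr 2
    rw [map_inv₀, map_inv₀, σ3, inv_mul_cancel₀ hs]

include hx₁ hrel in
/-- additivity of `D`, if the lifts of `x₁` commute with those of `y`. -/
theorem pl_add (hlc : ∀ t w, C.LC (x₁ t) (y w)) (hyy : ∀ w v, C.LC (y w) (y v)) (w w' : K) :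
    pl C x₁ x₂ w * pl C x₁ x₂ w' = pl C x₁ x₂ (w + w') := by
  have h1 := pl_ψ C σ hrel w
  have h2 := pl_ψ C σ hrel w'
  have hc : pl C x₁ x₂ w * pl C x₁ x₂ w' = pl C x₁ x₂ w' * pl C x₁ x₂ w := hyy w w' _ _ h1 h2
  unfold pl at h1 h2 hc ⊢
  rw [← hx₁, td_cm_mul_left, (hlc w w').kap_eq C h2, hc]

end pair

end Cfsg.Agent.Helper7.Td
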