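import Mathlib
import Cfsg.Agent.Helper7.TdC

set_option autoImplicit false
set_option linter.unusedSectionVars false
set_option linter.unusedVariables false

/-!
# S2110, part D: the canonical lifts of the positive root elements of `³D₄`

For `S : TdSys K G` and a central extension `C : CExt E G`: the lifts `Xa, Xab, X2ab` of the short root elements (commutators with the
rotation element `g₀ = ha μ₁`), the lifts `Y3ab w = ⟦xa w, x2ab 1⟧`, `Y3a2b w = ⟦xab w, x2ab 1⟧` of the long root elements,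
`⟦xa t, x2ab s⟧ = Y3ab (σ s · t)`, `⟦xab t, x2ab s⟧ = Y3a2b (σ s · t)`, and the invariance of `Y3ab`, `Y3a2b` under `σ` (so that they depend on the
trace only), which comes out of the two ways of expanding `⟦xa (t₁ + t₂), xab s⟧` and `⟦xa t, xab (s₁ + s₂)⟧`.
-/

namespace Cfsg.Agent.Helper7.Td

open Cfsg.Agent.Helper7.Sc

namespace TdSys

variable {K : Type*} [Field K] [Fintype K] {G E : Type*} [Group G] [Group E] (S : TdSys K G) (C : CExt E G)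

/-- the parameter of the rotation element. -/
noncomputable def μ₁ : K := Classical.choose S.exists_rot

theorem μ₁_ne : S.μ₁ ≠ 0 := (Classical.choose_spec S.exists_rot).1

theorem μ₁_nm : S.nm S.μ₁ = 1 := (Classical.choose_spec S.exists_rot).2.1

theorem μ₁_sq : S.μ₁ ^ 2 ≠ 1 := (Classical.choose_spec S.exists_rot).2.2

/-- the rotation element. -/
noncomputable def g₀ : G := S.ha S.μ₁

/-- the scalar by which the rotation element acts on `x2ab`. -/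
noncomputable def ν₂ : K := (S.σ (S.σ S.μ₁) ^ 2)⁻¹

theorem ν₂_ne : S.ν₂ ≠ 1 := S.rot_2ab S.μ₁_ne S.μ₁_sq

theorem g₀_xa (t : K) : S.g₀ * S.xa t * S.g₀⁻¹ = S.xa (S.μ₁ ^ 2 * t) := S.ha_xa _ S.μ₁_ne t

theorem g₀_xab (t : K) : S.g₀ * S.xab t * S.g₀⁻¹ = S.xab (S.μ₁ ^ 2 * t) := by
  unfold g₀
  rw [S.ha_xab _ S.μ₁_ne, S.μ₁_nm, inv_one, mul_one]

theorem g₀_x2ab (t : K) : S.g₀ * S.x2ab t * S.g₀⁻¹ = S.x2ab (S.ν₂ * t) := by
  unfold g₀ ν₂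
  rw [S.ha_x2ab _ S.μ₁_ne, S.μ₁_nm, one_mul]

/-- the canonical lifts. -/
noncomputable def Xa (t : K) : E := sl C S.xa S.g₀ (S.μ₁ ^ 2) t

noncomputable def Xab (t : K) : E := sl C S.xab S.g₀ (S.μ₁ ^ 2) t

noncomputable def X2ab (t : K) : E := sl C S.x2ab S.g₀ S.ν₂ t

noncomputable def Y3ab (w : K) : E := pl C S.xa S.x2ab w

noncomputable def Y3a2b (w : K) : E := pl C S.xab S.x2ab w

theorem Xa_ψ (t : K) : C.ψ (S.Xa C t) = S.xa t := sl_ψ C S.xa_add S.μ₁_sq S.g₀_xa t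

theorem Xab_ψ (t : K) : C.ψ (S.Xab C t) = S.xab t := sl_ψ C S.xab_add S.μ₁_sq S.g₀_xab t

theorem X2ab_ψ (t : K) : C.ψ (S.X2ab C t) = S.x2ab t := sl_ψ C S.x2ab_add S.ν₂_ne S.g₀_x2ab t

theorem Y3ab_ψ (w : K) : C.ψ (S.Y3ab C w) = S.y3ab w := pl_ψ C S.σ S.r3 w

theorem Y3a2b_ψ (w : K) : C.ψ (S.Y3a2b C w) = S.y3a2b w := pl_ψ C S.σ S.r4 w

theorem Xa_add (t u : K) : S.Xa C t * S.Xa C u = S.Xa C (t + u) :=
  sl_add C S.xa_add (S.lc_a_a C) S.μ₁_sq S.g₀_xa t u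

theorem Xab_add (t u : K) : S.Xab C t * S.Xab C u = S.Xab C (t + u) :=
  sl_add C S.xab_add (S.lc_ab_ab C) S.μ₁_sq S.g₀_xab t u

theorem X2ab_add (t u : K) : S.X2ab C t * S.X2ab C u = S.X2ab C (t + u) :=
  sl_add C S.x2ab_add (S.lc_2ab_2ab C) S.ν₂_ne S.g₀_x2ab t u

theorem Y3ab_add (w v : K) : S.Y3ab C w * S.Y3ab C v = S.Y3ab C (w + v) :=
  pl_add C S.σ S.xa_add S.r3 (S.lc_a_3ab C) (S.lc_3ab_3ab C) w v

theorem Y3a2b_add (w v : K) : S.Y3a2b C w * S.Y3a2b C v = S.Y3a2b C (w + v) :=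
  pl_add C S.σ S.xab_add S.r4 (S.lc_ab_3a2b C) (S.lc_3a2b_3a2b C) w v

/-! ### the torus elements used for the pairs -/

/-- a product of two commuting torus elements has exponent `m`. -/
theorem ha_hb_pow {μ l : K} (hμ : μ ≠ 0) (hl : l ≠ 0) (hσ : S.σ l = l) : (S.ha μ * S.hb l) ^ S.m = 1 := by
  have hc : Commute (S.ha μ) (S.hb l) := S.ha_hb μ l hμ hl hσ
  rw [hc.mul_pow, S.ha_pow μ hμ, S.hb_pow l hl hσ, one_mul]

/-- `⟦xa t, x2ab s⟧ = Y3ab (σ s · t)`. -/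
theorem cm_a_2ab (t s : K) : C.cm (S.xa t) (S.x2ab s) = S.Y3ab C (S.σ s * t) := by
  refine cm_pair_eq C S.σ S.σ3 S.xa_add S.x2ab_add S.r3 (fun κ hκ => ?_) t s
  obtain ⟨μ, hμ, hμκ⟩ := S.exists_sq_eq hκ
  have hn : S.nm μ ≠ 0 := S.nm_ne_zero hμ
  have hσn := S.σ_nm μ
  have hκ' : κ = μ ^ 2 * (S.nm μ)⁻¹ := by rw [hμκ]; field_simp
  refine ⟨S.ha μ * S.hb (S.nm μ), fun t => ?_, fun s => ?_, fun w => ?_⟩
  · have e : S.ha μ * S.hb (S.nm μ) * S.xa t * (S.ha μ * S.hb (S.nm μ))⁻¹ =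
        S.ha μ * (S.hb (S.nm μ) * S.xa t * (S.hb (S.nm μ))⁻¹) * (S.ha μ)⁻¹ := by group
    rw [e, S.hb_xa _ hn hσn, S.ha_xa μ hμ, hκ']
    congr 1
    ring
  · have e : S.ha μ * S.hb (S.nm μ) * S.x2ab s * (S.ha μ * S.hb (S.nm μ))⁻¹ =
        S.ha μ * (S.hb (S.nm μ) * S.x2ab s * (S.hb (S.nm μ))⁻¹) * (S.ha μ)⁻¹ := by group
    rw [e, S.hb_x2ab _ hn hσn, S.ha_x2ab μ hμ, hκ']
    congr 2
    rw [mul_inv, inv_inv, map_mul, map_mul, map_inv₀, map_inv₀, map_pow, map_pow, hσn, hσn]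
    ring
  · have e : S.ha μ * S.hb (S.nm μ) * S.y3ab w * (S.ha μ * S.hb (S.nm μ))⁻¹ = S.y3ab w := by
      have e' : S.ha μ * S.hb (S.nm μ) * S.y3ab w * (S.ha μ * S.hb (S.nm μ))⁻¹ =
          S.ha μ * (S.hb (S.nm μ) * S.y3ab w * (S.hb (S.nm μ))⁻¹) * (S.ha μ)⁻¹ := by group
      rw [e', S.hb_y3ab _ hn hσn, S.ha_y3ab μ hμ, ← mul_assoc, mul_inv_cancel₀ hn, one_mul]
    refine td_lc_of_coprime C ?_ (S.ha_hb_pow hμ hn hσn) (S.pow_p S.y3ab_add w) S.hmp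
    calc S.ha μ * S.hb (S.nm μ) * S.y3ab w
        = (S.ha μ * S.hb (S.nm μ) * S.y3ab w * (S.ha μ * S.hb (S.nm μ))⁻¹) * (S.ha μ * S.hb (S.nm μ)) := by group
      _ = S.y3ab w * (S.ha μ * S.hb (S.nm μ)) := by rw [e]

/-- `⟦xab t, x2ab s⟧ = Y3a2b (σ s · t)`. -/
theorem cm_ab_2ab (t s : K) : C.cm (S.xab t) (S.x2ab s) = S.Y3a2b C (S.σ s * t) := by
  refine cm_pair_eq C S.σ S.σ3 S.xab_add S.x2ab_add S.r4 (fun κ hκ => ?_) t s
  obtain ⟨μ, hμ, hμκ⟩ := S.exists_sq_eq hκ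
  have hn : S.nm μ ≠ 0 := S.nm_ne_zero hμ
  have hσn := S.σ_nm μ
  have hκ' : κ = μ ^ 2 * (S.nm μ)⁻¹ := by rw [hμκ]; field_simp
  refine ⟨S.ha μ, fun t => ?_, fun s => ?_, fun w => ?_⟩
  · rw [S.ha_xab μ hμ, hκ']
  · rw [S.ha_x2ab μ hμ, hκ']
    congr 2
    rw [mul_inv, inv_inv, map_mul, map_mul, map_inv₀, map_inv₀, map_pow, map_pow, hσn, hσn]
    ring
  · refine td_lc_of_coprime C ?_ (S.ha_pow μ hμ) (S.pow_p S.y3a2b_add w) S.hmp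
    calc S.ha μ * S.y3a2b w = (S.ha μ * S.y3a2b w * (S.ha μ)⁻¹) * S.ha μ := by group
      _ = S.y3a2b w * S.ha μ := by rw [S.ha_y3a2b μ hμ]

end TdSys

end Cfsg.Agent.Helper7.Td
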