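import Mathlib
import Cfsg.Agent.Helper7.TdD

set_option autoImplicit false
set_option linter.unusedSectionVars false
set_option linter.unusedVariables false

/-!
# S2110, part E: the lifts of the long root elements depend on the trace only

`Y3ab_σ`, `Y3a2b_σ`: `Y3ab (σ y) = Y3ab y`, `Y3a2b (σ y) = Y3a2b y`; hence `Y3ab_congr`, `Y3a2b_congr`.
-/

namespace Cfsg.Agent.Helper7.Td

open Cfsg.Agent.Helper7.Sc

theorem td_cm_mul_right_of_lc {E G : Type*} [Group E] [Group G] (C : CExt E G) {a b c : G} (h : C.LC a c) :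
    C.cm a (b * c) = C.cm a b := by
  rw [C.cm_mul_right, (C.LC_iff a c).mp h, map_one, mul_one]

namespace TdSys

variable {K : Type*} [Field K] [Fintype K] {G E : Type*} [Group G] [Group E] (S : TdSys K G) (C : CExt E G)

/-- the elements `x2ab f · y3ab g · y3a2b h`. -/
def m3 (f g h : K) : G := S.x2ab f * S.y3ab g * S.y3a2b h

theorem lc_m3_2ab (f g h t : K) : C.LC (S.m3 f g h) (S.x2ab t) :=
  td_lc_mul_left C (td_lc_mul_left C (S.lc_2ab_2ab C f t) ((S.lc_2ab_3ab C t g).symm C))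
    ((S.lc_2ab_3a2b C t h).symm C)

theorem lc_m3_3ab (f g h w : K) : C.LC (S.m3 f g h) (S.y3ab w) :=
  td_lc_mul_left C (td_lc_mul_left C (S.lc_2ab_3ab C f w) (S.lc_3ab_3ab C g w))
    ((S.lc_3ab_3a2b C w h).symm C)

theorem lc_m3_3a2b (f g h w : K) : C.LC (S.m3 f g h) (S.y3a2b w) :=
  td_lc_mul_left C (td_lc_mul_left C (S.lc_2ab_3a2b C f w) (S.lc_3ab_3a2b C g w))
    (S.lc_3a2b_3a2b C h w)

theorem lc_m3_m3 (f g h f' g' h' : K) : C.LC (S.m3 f g h) (S.m3 f' g' h') :=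
  td_lc_mul_right C (td_lc_mul_right C (S.lc_m3_2ab C f g h f') (S.lc_m3_3ab C f g h g'))
    (S.lc_m3_3a2b C f g h h')

/-- `⟦xa t, x2ab f · y3ab g · y3a2b h⟧ = Y3ab (σ f · t)`. -/
theorem cm_a_m3 (t f g h : K) : C.cm (S.xa t) (S.m3 f g h) = S.Y3ab C (S.σ f * t) := by
  unfold m3
  rw [td_cm_mul_right_of_lc C (S.lc_a_3a2b C t h), td_cm_mul_right_of_lc C (S.lc_a_3ab C t g), S.cm_a_2ab]

/-- `⟦xab t, x2ab f · y3ab g · y3a2b h⟧ = Y3a2b (σ f · t)`. -/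
theorem cm_ab_m3 (t f g h : K) : C.cm (S.xab t) (S.m3 f g h) = S.Y3a2b C (S.σ f * t) := by
  unfold m3
  rw [td_cm_mul_right_of_lc C (S.lc_ab_3a2b C t h), td_cm_mul_right_of_lc C (S.lc_ab_3ab C t g), S.cm_ab_2ab]

/-- the relation `r2` with the right hand side written with `m3`. -/
theorem r2' (t s : K) : S.xa t * S.xab s * (S.xa t)⁻¹ * (S.xab s)⁻¹ =
    S.m3 (s * S.σ t + S.σ s * t) (s * S.σ t * S.σ (S.σ t)) (s * S.σ s * S.σ (S.σ t)) := S.r2 t s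

theorem ψ_cm_a_ab (t s : K) : C.ψ (C.cm (S.xa t) (S.xab s)) =
    S.m3 (s * S.σ t + S.σ s * t) (s * S.σ t * S.σ (S.σ t)) (s * S.σ s * S.σ (S.σ t)) := by
  rw [C.ψ_cm, S.r2']

/-- the two ways of expanding `⟦xa (t₁ + t₂), xab s⟧`. -/
theorem Y3ab_symm (t₁ t₂ s : K) :
    S.Y3ab C (S.σ (s * S.σ t₂ + S.σ s * t₂) * t₁) = S.Y3ab C (S.σ (s * S.σ t₁ + S.σ s * t₁) * t₂) := by
  have key : ∀ t₁ t₂ : K, C.cm (S.xa (t₁ + t₂)) (S.xab s) =
      S.Y3ab C (S.σ (s * S.σ t₂ + S.σ s * t₂) * t₁) * C.cm (S.xa t₂) (S.xab s) * C.cm (S.xa t₁) (S.xab s) := by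
    intro t₁ t₂
    rw [← S.xa_add, td_cm_mul_left]
    have h := C.cm_eq_kap (d := S.xa t₁) (S.ψ_cm_a_ab C t₂ s)
    rw [S.cm_a_m3] at h
    rw [h]
    group
  have h1 := key t₁ t₂
  have h2 := key t₂ t₁
  rw [add_comm t₂ t₁, h1] at h2
  have hc : C.cm (S.xa t₂) (S.xab s) * C.cm (S.xa t₁) (S.xab s) =
      C.cm (S.xa t₁) (S.xab s) * C.cm (S.xa t₂) (S.xab s) :=
    S.lc_m3_m3 C _ _ _ _ _ _ _ _ (S.ψ_cm_a_ab C t₂ s) (S.ψ_cm_a_ab C t₁ s)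
  rw [mul_assoc, mul_assoc, hc] at h2
  exact mul_right_cancel h2

theorem Y3ab_sub_of_eq {A B : K} (h : S.Y3ab C A = S.Y3ab C B) : S.Y3ab C (A - B) = 1 := by
  rw [← td_add_sub (S.Y3ab_add C), h, mul_inv_cancel]

/-- **`Y3ab` is invariant under `σ`.** -/
theorem Y3ab_σ (y : K) : S.Y3ab C (S.σ y) = S.Y3ab C y := by
  obtain ⟨a, ha⟩ := S.exists_σσ_ne
  have hd : a - S.σ (S.σ a) ≠ 0 := sub_ne_zero.mpr (Ne.symm ha)
  have hd' : S.σ a - a ≠ 0 := by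
    intro h
    have e : S.σ a = a := sub_eq_zero.mp h
    apply ha
    rw [e, e]
  -- `σ s = y / (a - σ² a)`
  have h := S.Y3ab_symm C a 1 (S.σ (S.σ (y / (a - S.σ (S.σ a)))))
  simp only [map_one, mul_one, map_add, map_mul, S.σ3] at h
  -- the difference of the two arguments is `y - σ y`
  rw [map_div₀, map_sub, S.σ3] at h
  have h1 := S.Y3ab_sub_of_eq C h
  have h2 : S.Y3ab C (y - S.σ y) = 1 := by
    rw [← h1]
    congr 1
    field_simp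
    ring
  rw [← td_add_sub (S.Y3ab_add C)] at h2
  exact (mul_inv_eq_one.mp h2).symm

/-- the two ways of expanding `⟦xa t, xab (s₁ + s₂)⟧`. -/
theorem Y3a2b_symm (t s₁ s₂ : K) :
    S.Y3a2b C (S.σ (s₂ * S.σ t + S.σ s₂ * t) * s₁) = S.Y3a2b C (S.σ (s₁ * S.σ t + S.σ s₁ * t) * s₂) := by
  have key : ∀ s₁ s₂ : K, C.cm (S.xa t) (S.xab (s₁ + s₂)) =
      C.cm (S.xa t) (S.xab s₁) * (S.Y3a2b C (S.σ (s₂ * S.σ t + S.σ s₂ * t) * s₁) * C.cm (S.xa t) (S.xab s₂)) := by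
    intro s₁ s₂
    rw [← S.xab_add, C.cm_mul_right]
    have h := C.cm_eq_kap (d := S.xab s₁) (S.ψ_cm_a_ab C t s₂)
    rw [S.cm_ab_m3] at h
    rw [h]
    group
  have h1 := key s₁ s₂
  have h2 := key s₂ s₁
  rw [add_comm s₂ s₁, h1] at h2
  have hc : C.cm (S.xa t) (S.xab s₂) * C.cm (S.xa t) (S.xab s₁) =
      C.cm (S.xa t) (S.xab s₁) * C.cm (S.xa t) (S.xab s₂) :=
    S.lc_m3_m3 C _ _ _ _ _ _ _ _ (S.ψ_cm_a_ab C t s₂) (S.ψ_cm_a_ab C t s₁)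
  have hy : ∀ (v s : K), S.Y3a2b C v * C.cm (S.xa t) (S.xab s) = C.cm (S.xa t) (S.xab s) * S.Y3a2b C v :=
    fun v s => ((S.lc_m3_3a2b C _ _ _ v).symm C) _ _ (S.Y3a2b_ψ C v) (S.ψ_cm_a_ab C t s)
  -- move the `Y` factors to the front
  have e1 : C.cm (S.xa t) (S.xab s₁) * (S.Y3a2b C (S.σ (s₂ * S.σ t + S.σ s₂ * t) * s₁) * C.cm (S.xa t) (S.xab s₂)) =
      S.Y3a2b C (S.σ (s₂ * S.σ t + S.σ s₂ * t) * s₁) * (C.cm (S.xa t) (S.xab s₁) * C.cm (S.xa t) (S.xab s₂)) := by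
    rw [← mul_assoc, ← hy, mul_assoc]
  have e2 : C.cm (S.xa t) (S.xab s₂) * (S.Y3a2b C (S.σ (s₁ * S.σ t + S.σ s₁ * t) * s₂) * C.cm (S.xa t) (S.xab s₁)) =
      S.Y3a2b C (S.σ (s₁ * S.σ t + S.σ s₁ * t) * s₂) * (C.cm (S.xa t) (S.xab s₁) * C.cm (S.xa t) (S.xab s₂)) := by
    rw [← mul_assoc, ← hy, mul_assoc, hc]
  rw [e1, e2] at h2
  exact mul_right_cancel h2

theorem Y3a2b_sub_of_eq {A B : K} (h : S.Y3a2b C A = S.Y3a2b C B) : S.Y3a2b C (A - B) = 1 := by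
  rw [← td_add_sub (S.Y3a2b_add C), h, mul_inv_cancel]

/-- **`Y3a2b` is invariant under `σ`.** -/
theorem Y3a2b_σ (y : K) : S.Y3a2b C (S.σ y) = S.Y3a2b C y := by
  obtain ⟨a, ha⟩ := S.exists_σσ_ne
  have hd : a - S.σ (S.σ a) ≠ 0 := sub_ne_zero.mpr (Ne.symm ha)
  have hd' : S.σ a - a ≠ 0 := by
    intro h
    have e : S.σ a = a := sub_eq_zero.mp h
    apply ha
    rw [e, e]
  have h := S.Y3a2b_symm C (S.σ (S.σ (y / (a - S.σ (S.σ a))))) a 1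
  simp only [map_one, mul_one, one_mul, map_add, map_mul, S.σ3] at h
  rw [map_div₀, map_sub, S.σ3] at h
  have h1 := S.Y3a2b_sub_of_eq C h
  have h2 : S.Y3a2b C (y - S.σ y) = 1 := by
    rw [← h1]
    congr 1
    field_simp
    ring
  rw [← td_add_sub (S.Y3a2b_add C)] at h2
  exact (mul_inv_eq_one.mp h2).symm

/-- the lifts of the long root elements depend on the trace only. -/
theorem Y3ab_congr {w w' : K} (h : S.tr w = S.tr w') : S.Y3ab C w = S.Y3ab C w' :=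
  S.long_congr (S.Y3ab_add C) (S.Y3ab_σ C) h

theorem Y3a2b_congr {w w' : K} (h : S.tr w = S.tr w') : S.Y3a2b C w = S.Y3a2b C w' :=
  S.long_congr (S.Y3a2b_add C) (S.Y3a2b_σ C) h

end TdSys

end Cfsg.Agent.Helper7.Td
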