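import Mathlib
import Cfsg.Agent.Helper7.TdE

set_option autoImplicit false
set_option linter.unusedSectionVars false
set_option linter.unusedVariables false

/-!
# S2110, part G: decompositions `central · N`, the subgroup `N3`, torus elements

* `TdDec C N e c`: `e = c · n` with `c` in the kernel and `n ∈ N`; unique if `ψ` is injective on `N` (`TdDec.unique`).
* `TdSys.Uniq`: uniqueness of the expression `xa t · yb w · xab s · x2ab f · y3ab g · y3a2b h` downstairs.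
* `TdSys.M3`, `TdSys.N3`: the lifts `X2ab f · Y3ab g · Y3a2b h` form a subgroup on which `ψ` is injective.
* `TdSys.IsTor`: torus elements commuting with the rotation element, and how conjugation by their lifts acts on the canonical lifts.
-/

namespace Cfsg.Agent.Helper7.Td

open Cfsg.Agent.Helper7.Sc

section principle

variable {E G : Type*} [Group E] [Group G] (C : CExt E G)

/-- `e = c · n` with `c` in the kernel and `n ∈ N`. -/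
def TdDec (N : Subgroup E) (e c : E) : Prop := C.ψ c = 1 ∧ ∃ n ∈ N, e = c * n

variable {C}

theorem TdDec.of_mem {N : Subgroup E} {n : E} (hn : n ∈ N) : TdDec C N n 1 :=
  ⟨map_one _, n, hn, (one_mul n).symm⟩

theorem TdDec.mul {N : Subgroup E} {e₁ e₂ c₁ c₂ : E} (h₁ : TdDec C N e₁ c₁) (h₂ : TdDec C N e₂ c₂) :
    TdDec C N (e₁ * e₂) (c₁ * c₂) := by
  obtain ⟨hc₁, n₁, hn₁, rfl⟩ := h₁
  obtain ⟨hc₂, n₂, hn₂, rfl⟩ := h₂
  refine ⟨by rw [map_mul, hc₁, hc₂, one_mul], n₁ * n₂, N.mul_mem hn₁ hn₂, ?_⟩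
  have h := C.ker_comm hc₂ n₁
  calc c₁ * n₁ * (c₂ * n₂) = c₁ * (n₁ * c₂) * n₂ := by group
    _ = c₁ * (c₂ * n₁) * n₂ := by rw [h]
    _ = c₁ * c₂ * (n₁ * n₂) := by group

theorem TdDec.inv {N : Subgroup E} {e c : E} (h : TdDec C N e c) : TdDec C N e⁻¹ c⁻¹ := by
  obtain ⟨hc, n, hn, rfl⟩ := h
  refine ⟨by rw [map_inv, hc, inv_one], n⁻¹, N.inv_mem hn, ?_⟩
  have h := C.ker_comm hc n
  rw [h]
  group

theorem TdDec.kap {N : Subgroup E} {e c : E} (h : TdDec C N e c) {d : G} (hd : ∀ n ∈ N, C.kap d n ∈ N) :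
    TdDec C N (C.kap d e) c := by
  obtain ⟨hc, n, hn, rfl⟩ := h
  exact ⟨hc, C.kap d n, hd n hn, by rw [map_mul, C.kap_ker hc]⟩

theorem TdDec.unique {N : Subgroup E} (hN : ∀ n ∈ N, C.ψ n = 1 → n = 1) {e c c' : E}
    (h : TdDec C N e c) (h' : TdDec C N e c') : c = c' := by
  obtain ⟨hc, n, hn, rfl⟩ := h
  obtain ⟨hc', n', hn', e⟩ := h'
  have h1 : n * n'⁻¹ = c⁻¹ * c' := by
    calc n * n'⁻¹ = c⁻¹ * (c * n) * n'⁻¹ := by group
      _ = c⁻¹ * (c' * n') * n'⁻¹ := by rw [e]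
      _ = c⁻¹ * c' := by group
  have h2 : n * n'⁻¹ = 1 := hN _ (N.mul_mem hn (N.inv_mem hn'))
    (by rw [h1, map_mul, map_inv, hc, hc', inv_one, one_mul])
  rw [h2] at h1
  exact inv_mul_eq_one.mp h1.symm

theorem TdDec.mem_of_one {N : Subgroup E} {e : E} (h : TdDec C N e 1) : e ∈ N := by
  obtain ⟨_, n, hn, rfl⟩ := h
  rwa [one_mul]

/-- an element whose image is the image of an element of `N` decomposes. -/
theorem TdDec.of_ψ_eq {N : Subgroup E} {e n : E} (hn : n ∈ N) (h : C.ψ e = C.ψ n) : TdDec C N e (e * n⁻¹) :=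
  ⟨by rw [map_mul, map_inv, h, mul_inv_cancel], n, hn, by group⟩

theorem td_mul3 {H : Type*} [Group H] {a b c a' b' c' : H} (h1 : b * a' = a' * b) (h2 : c * a' = a' * c)
    (h3 : c * b' = b' * c) : a * b * c * (a' * b' * c') = (a * a') * (b * b') * (c * c') := by
  calc a * b * c * (a' * b' * c') = a * b * (c * a') * b' * c' := by group
    _ = a * b * (a' * c) * b' * c' := by rw [h2]
    _ = a * (b * a') * (c * b') * c' := by group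
    _ = a * (a' * b) * (b' * c) * c' := by rw [h1, h3]
    _ = (a * a') * (b * b') * (c * c') := by group

/-- conjugation by the inverse of a lift. -/
theorem td_inv_conj {d : G} {a : E} (ha : C.ψ a = d) (x : E) : a⁻¹ * x * a = C.kap d⁻¹ x := by
  have h : C.ψ a⁻¹ = d⁻¹ := by rw [map_inv, ha]
  rw [C.kap_eq h, inv_inv]

/-- `kap d b = ⟦d, d'⟧ · b` for a lift `b` of `d'`. -/
theorem td_kap_eq_cm_mul {d d' : G} {b : E} (hb : C.ψ b = d') : C.kap d b = C.cm d d' * b := by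
  rw [C.cm_eq_kap hb, inv_mul_cancel_right]

end principle

namespace TdSys

variable {K : Type*} [Field K] [Fintype K] {G E : Type*} [Group G] [Group E] (S : TdSys K G) (C : CExt E G)

/-- uniqueness of the expression of an element of the unipotent group downstairs. -/
def Uniq : Prop := ∀ t w s f g h t' w' s' f' g' h' : K,
  S.xa t * S.yb w * S.xab s * S.m3 f g h = S.xa t' * S.yb w' * S.xab s' * S.m3 f' g' h' →
  t = t' ∧ S.tr w = S.tr w' ∧ s = s' ∧ f = f' ∧ S.tr g = S.tr g' ∧ S.tr h = S.tr h'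

variable {S}

theorem Uniq.m4 (hu : S.Uniq) {s f g h s' f' g' h' : K}
    (e : S.xab s * S.m3 f g h = S.xab s' * S.m3 f' g' h') :
    s = s' ∧ f = f' ∧ S.tr g = S.tr g' ∧ S.tr h = S.tr h' := by
  have h0 := hu 0 0 s f g h 0 0 s' f' g' h'
  simp only [td_add_zero S.xa_add, td_add_zero S.yb_add, one_mul] at h0
  exact (h0 e).2.2

theorem Uniq.m3 (hu : S.Uniq) {f g h f' g' h' : K} (e : S.m3 f g h = S.m3 f' g' h') :
    f = f' ∧ S.tr g = S.tr g' ∧ S.tr h = S.tr h' := by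
  have h0 := hu.m4 (s := 0) (s' := 0) (f := f) (g := g) (h := h) (f' := f') (g' := g') (h' := h')
  simp only [td_add_zero S.xab_add, one_mul] at h0
  exact (h0 e).2

variable (S)

/-! ### the lifts `X2ab f · Y3ab g · Y3a2b h` -/

/-- the lift `X2ab f · Y3ab g · Y3a2b h` of `m3 f g h`. -/
noncomputable def M3 (f g h : K) : E := S.X2ab C f * S.Y3ab C g * S.Y3a2b C h

theorem M3_ψ (f g h : K) : C.ψ (S.M3 C f g h) = S.m3 f g h := by
  unfold M3 m3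
  rw [map_mul, map_mul, S.X2ab_ψ, S.Y3ab_ψ, S.Y3a2b_ψ]

theorem X2ab_Y3ab_comm (f g : K) : S.X2ab C f * S.Y3ab C g = S.Y3ab C g * S.X2ab C f :=
  S.lc_2ab_3ab C f g _ _ (S.X2ab_ψ C f) (S.Y3ab_ψ C g)

theorem X2ab_Y3a2b_comm (f h : K) : S.X2ab C f * S.Y3a2b C h = S.Y3a2b C h * S.X2ab C f :=
  S.lc_2ab_3a2b C f h _ _ (S.X2ab_ψ C f) (S.Y3a2b_ψ C h)

theorem Y3ab_Y3a2b_comm (g h : K) : S.Y3ab C g * S.Y3a2b C h = S.Y3a2b C h * S.Y3ab C g :=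
  S.lc_3ab_3a2b C g h _ _ (S.Y3ab_ψ C g) (S.Y3a2b_ψ C h)

theorem M3_mul (f g h f' g' h' : K) :
    S.M3 C f g h * S.M3 C f' g' h' = S.M3 C (f + f') (g + g') (h + h') := by
  unfold M3
  rw [td_mul3 (S.X2ab_Y3ab_comm C f' g).symm (S.X2ab_Y3a2b_comm C f' h).symm (S.Y3ab_Y3a2b_comm C g' h).symm,
    S.X2ab_add, S.Y3ab_add, S.Y3a2b_add]

theorem M3_zero : S.M3 C 0 0 0 = 1 := by
  unfold M3
  rw [td_add_zero (S.X2ab_add C), td_add_zero (S.Y3ab_add C), td_add_zero (S.Y3a2b_add C), one_mul, one_mul]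

theorem M3_inv (f g h : K) : (S.M3 C f g h)⁻¹ = S.M3 C (-f) (-g) (-h) := by
  apply inv_eq_of_mul_eq_one_right
  rw [S.M3_mul, add_neg_cancel, add_neg_cancel, add_neg_cancel, S.M3_zero]

theorem M3_congr {f g h f' g' h' : K} (hf : f = f') (hg : S.tr g = S.tr g') (hh : S.tr h = S.tr h') :
    S.M3 C f g h = S.M3 C f' g' h' := by
  unfold M3
  rw [hf, S.Y3ab_congr C hg, S.Y3a2b_congr C hh]

theorem Y3ab_eq_M3 (w : K) : S.Y3ab C w = S.M3 C 0 w 0 := by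
  unfold M3
  rw [td_add_zero (S.X2ab_add C), td_add_zero (S.Y3a2b_add C), one_mul, mul_one]

theorem Y3a2b_eq_M3 (w : K) : S.Y3a2b C w = S.M3 C 0 0 w := by
  unfold M3
  rw [td_add_zero (S.X2ab_add C), td_add_zero (S.Y3ab_add C), one_mul, one_mul]

theorem X2ab_eq_M3 (f : K) : S.X2ab C f = S.M3 C f 0 0 := by
  unfold M3
  rw [td_add_zero (S.Y3ab_add C), td_add_zero (S.Y3a2b_add C), mul_one, mul_one]

/-- the subgroup of the `M3 f g h`. -/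
noncomputable def N3 : Subgroup E where
  carrier := {e | ∃ f g h, e = S.M3 C f g h}
  one_mem' := ⟨0, 0, 0, (S.M3_zero C).symm⟩
  mul_mem' := by
    rintro _ _ ⟨f, g, h, rfl⟩ ⟨f', g', h', rfl⟩
    exact ⟨_, _, _, S.M3_mul C f g h f' g' h'⟩
  inv_mem' := by
    rintro _ ⟨f, g, h, rfl⟩
    exact ⟨_, _, _, S.M3_inv C f g h⟩

theorem mem_N3 {e : E} : e ∈ S.N3 C ↔ ∃ f g h, e = S.M3 C f g h := Iff.rfl

theorem M3_mem (f g h : K) : S.M3 C f g h ∈ S.N3 C := ⟨f, g, h, rfl⟩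

variable {S}

theorem Uniq.N3_inj (hu : S.Uniq) : ∀ n ∈ S.N3 C, C.ψ n = 1 → n = 1 := by
  rintro _ ⟨f, g, h, rfl⟩ h1
  rw [S.M3_ψ] at h1
  have h0 : S.m3 (0 : K) 0 0 = 1 := by rw [← S.M3_ψ C, S.M3_zero, map_one]
  rw [← h0] at h1
  obtain ⟨e1, e2, e3⟩ := hu.m3 h1
  rw [S.M3_congr C e1 e2 e3, S.M3_zero]

variable (S)

/-- conjugation by a lift of `xa t`. -/
theorem kap_xa_M3 (t f g h : K) : C.kap (S.xa t) (S.M3 C f g h) = S.M3 C f (g + S.σ f * t) h := by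
  rw [td_kap_eq_cm_mul (S.M3_ψ C f g h), S.cm_a_m3, S.Y3ab_eq_M3, S.M3_mul, zero_add, zero_add,
    add_comm]

/-- conjugation by a lift of `xab t`. -/
theorem kap_xab_M3 (t f g h : K) : C.kap (S.xab t) (S.M3 C f g h) = S.M3 C f g (h + S.σ f * t) := by
  rw [td_kap_eq_cm_mul (S.M3_ψ C f g h), S.cm_ab_m3, S.Y3a2b_eq_M3, S.M3_mul, zero_add, zero_add,
    add_comm]

theorem kap_xa_N3 (t : K) : ∀ n ∈ S.N3 C, C.kap (S.xa t) n ∈ S.N3 C := by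
  rintro _ ⟨f, g, h, rfl⟩
  rw [S.kap_xa_M3]
  exact S.M3_mem C _ _ _

theorem kap_xab_N3 (t : K) : ∀ n ∈ S.N3 C, C.kap (S.xab t) n ∈ S.N3 C := by
  rintro _ ⟨f, g, h, rfl⟩
  rw [S.kap_xab_M3]
  exact S.M3_mem C _ _ _

/-! ### torus elements -/

/-- a torus element commuting with the rotation element, with its scalars on the short root groups. -/
structure IsTor (τ : G) (ca cab c2ab : K) : Prop where
  comm : τ * S.g₀ = S.g₀ * τ
  xa : ∀ t, τ * S.xa t * τ⁻¹ = S.xa (ca * t)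
  xab : ∀ t, τ * S.xab t * τ⁻¹ = S.xab (cab * t)
  x2ab : ∀ t, τ * S.x2ab t * τ⁻¹ = S.x2ab (c2ab * t)

variable {S}

theorem IsTor.kap_Xa {τ : G} {ca cab c2ab : K} (h : S.IsTor τ ca cab c2ab) (t : K) :
    C.kap τ (S.Xa C t) = S.Xa C (ca * t) := sl_kap C S.g₀_xa h.comm h.xa t

theorem IsTor.kap_Xab {τ : G} {ca cab c2ab : K} (h : S.IsTor τ ca cab c2ab) (t : K) :
    C.kap τ (S.Xab C t) = S.Xab C (cab * t) := sl_kap C S.g₀_xab h.comm h.xab t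

theorem IsTor.kap_X2ab {τ : G} {ca cab c2ab : K} (h : S.IsTor τ ca cab c2ab) (t : K) :
    C.kap τ (S.X2ab C t) = S.X2ab C (c2ab * t) := sl_kap C S.g₀_x2ab h.comm h.x2ab t

theorem IsTor.kap_Y3ab {τ : G} {ca cab c2ab : K} (h : S.IsTor τ ca cab c2ab) (w : K) :
    C.kap τ (S.Y3ab C w) = S.Y3ab C (S.σ c2ab * (ca * w)) := by
  unfold Y3ab pl
  rw [C.kap_cm, h.xa, h.x2ab, mul_one, S.cm_a_2ab]
  rfl

theorem IsTor.kap_Y3a2b {τ : G} {ca cab c2ab : K} (h : S.IsTor τ ca cab c2ab) (w : K) :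
    C.kap τ (S.Y3a2b C w) = S.Y3a2b C (S.σ c2ab * (cab * w)) := by
  unfold Y3a2b pl
  rw [C.kap_cm, h.xab, h.x2ab, mul_one, S.cm_ab_2ab]
  rfl

theorem IsTor.kap_M3 {τ : G} {ca cab c2ab : K} (h : S.IsTor τ ca cab c2ab) (f g' h' : K) :
    C.kap τ (S.M3 C f g' h') = S.M3 C (c2ab * f) (S.σ c2ab * (ca * g')) (S.σ c2ab * (cab * h')) := by
  unfold M3
  rw [map_mul, map_mul, h.kap_X2ab, h.kap_Y3ab, h.kap_Y3a2b]

theorem IsTor.kap_N3 {τ : G} {ca cab c2ab : K} (h : S.IsTor τ ca cab c2ab) :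
    ∀ n ∈ S.N3 C, C.kap τ n ∈ S.N3 C := by
  rintro _ ⟨f, g, h', rfl⟩
  rw [h.kap_M3]
  exact S.M3_mem C _ _ _

variable (S)

theorem isTor_ha {μ : K} (hμ : μ ≠ 0) :
    S.IsTor (S.ha μ) (μ ^ 2) (μ ^ 2 * (S.nm μ)⁻¹) (S.nm μ * (S.σ (S.σ μ) ^ 2)⁻¹) :=
  ⟨S.ha_ha μ S.μ₁ hμ S.μ₁_ne, S.ha_xa μ hμ, S.ha_xab μ hμ, S.ha_x2ab μ hμ⟩

theorem isTor_g₀ : S.IsTor S.g₀ (S.μ₁ ^ 2) (S.μ₁ ^ 2) S.ν₂ :=
  ⟨rfl, S.g₀_xa, S.g₀_xab, S.g₀_x2ab⟩

theorem isTor_ha_hb {μ l : K} (hμ : μ ≠ 0) (hl : l ≠ 0) (hσ : S.σ l = l) :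
    S.IsTor (S.ha μ * S.hb l) (μ ^ 2 * l⁻¹) (μ ^ 2 * (S.nm μ)⁻¹ * l) (S.nm μ * (S.σ (S.σ μ) ^ 2)⁻¹) := by
  have e : ∀ x : G, S.ha μ * S.hb l * x * (S.ha μ * S.hb l)⁻¹ =
      S.ha μ * (S.hb l * x * (S.hb l)⁻¹) * (S.ha μ)⁻¹ := fun x => by group
  refine ⟨?_, fun t => ?_, fun t => ?_, fun t => ?_⟩
  · have h1 : S.hb l * S.g₀ = S.g₀ * S.hb l := (S.ha_hb S.μ₁ l S.μ₁_ne hl hσ).symm
    have h2 : S.ha μ * S.g₀ = S.g₀ * S.ha μ := S.ha_ha μ S.μ₁ hμ S.μ₁_ne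
    rw [mul_assoc, h1, ← mul_assoc, h2, mul_assoc]
  · rw [e, S.hb_xa l hl hσ, S.ha_xa μ hμ, mul_assoc]
  · rw [e, S.hb_xab l hl hσ, S.ha_xab μ hμ]
    congr 1
    ring
  · rw [e, S.hb_x2ab l hl hσ, S.ha_x2ab μ hμ]

end TdSys

end Cfsg.Agent.Helper7.Td
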