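import Mathlib
import Cfsg.Agent.Helper7.TdG

set_option autoImplicit false
set_option linter.unusedSectionVars false
set_option linter.unusedVariables false

/-!
# S2110, part H: the relation `r2` for the canonical lifts

`cm_a_ab`: `⟦xa t, xab s⟧ = X2ab (s·σt + σs·t) · Y3ab (s·σt·σσt) · Y3a2b (s·σs·σσt)`.
-/

namespace Cfsg.Agent.Helper7.Td

open Cfsg.Agent.Helper7.Sc

namespace TdSys

variable {K : Type*} [Field K] [Fintype K] {G E : Type*} [Group G] [Group E] (S : TdSys K G) (C : CExt E G)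

/-- the expected value of `⟦xa t, xab s⟧`. -/
noncomputable def ExR (t s : K) : E :=
  S.M3 C (s * S.σ t + S.σ s * t) (s * S.σ t * S.σ (S.σ t)) (s * S.σ s * S.σ (S.σ t))

/-- the discrepancy. -/
noncomputable def zR (t s : K) : E := C.cm (S.xa t) (S.xab s) * (S.ExR C t s)⁻¹

theorem ExR_ψ (t s : K) : C.ψ (S.ExR C t s) = C.ψ (C.cm (S.xa t) (S.xab s)) := by
  unfold ExR
  rw [S.M3_ψ, S.ψ_cm_a_ab]

theorem zR_dec (t s : K) : TdDec C (S.N3 C) (C.cm (S.xa t) (S.xab s)) (S.zR C t s) :=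
  TdDec.of_ψ_eq (S.M3_mem C _ _ _) (S.ExR_ψ C t s).symm

theorem zR_ψ (t s : K) : C.ψ (S.zR C t s) = 1 := (S.zR_dec C t s).1

variable {S}

theorem Uniq.zR_add_left (hu : S.Uniq) (t₁ t₂ s : K) :
    S.zR C t₁ s * S.zR C t₂ s = S.zR C (t₁ + t₂) s := by
  have h1 : C.cm (S.xa (t₁ + t₂)) (S.xab s) =
      C.kap (S.xa t₁) (C.cm (S.xa t₂) (S.xab s)) * C.cm (S.xa t₁) (S.xab s) := by
    rw [← S.xa_add, td_cm_mul_left]
  have h2 := ((S.zR_dec C t₂ s).kap (S.kap_xa_N3 C t₁)).mul (S.zR_dec C t₁ s)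
  rw [← h1] at h2
  have h3 := TdDec.unique (hu.N3_inj C) h2 (S.zR_dec C (t₁ + t₂) s)
  rw [← h3]
  exact C.ker_comm (S.zR_ψ C t₁ s) _

theorem Uniq.zR_add_right (hu : S.Uniq) (t s₁ s₂ : K) :
    S.zR C t s₁ * S.zR C t s₂ = S.zR C t (s₁ + s₂) := by
  have h1 : C.cm (S.xa t) (S.xab (s₁ + s₂)) =
      C.cm (S.xa t) (S.xab s₁) * C.kap (S.xab s₁) (C.cm (S.xa t) (S.xab s₂)) := by
    rw [← S.xab_add, C.cm_mul_right]
  have h2 := (S.zR_dec C t s₁).mul ((S.zR_dec C t s₂).kap (S.kap_xab_N3 C s₁))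
  rw [← h1] at h2
  exact TdDec.unique (hu.N3_inj C) h2 (S.zR_dec C t (s₁ + s₂))

/-- invariance under torus elements. -/
theorem Uniq.zR_tor (hu : S.Uniq) {τ : G} {ca cab c2ab : K} (h : S.IsTor τ ca cab c2ab) (t s : K) :
    S.zR C (ca * t) (cab * s) = S.zR C t s := by
  have h2 := (S.zR_dec C t s).kap (h.kap_N3 C)
  rw [C.kap_cm, h.xa, h.xab] at h2
  exact TdDec.unique (hu.N3_inj C) (S.zR_dec C (ca * t) (cab * s)) h2

theorem Uniq.zR_eq_one (hu : S.Uniq) (t s : K) : S.zR C t s = 1 := by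
  by_cases hc : ∃ c : K, S.σ c = c ∧ c ≠ 0 ∧ c ≠ 1
  · obtain ⟨c, hσ, h0, h1⟩ := hc
    have hτ := S.isTor_ha_hb h0 h0 hσ
    have e1 : c ^ 2 * c⁻¹ = c := by field_simp
    have e2 : c ^ 2 * (S.nm c)⁻¹ * c = 1 := by rw [S.nm_fixed hσ]; field_simp
    rw [e1, e2] at hτ
    have hinv : ∀ t, S.zR C (c * t) s = S.zR C t s := by
      intro t
      have := hu.zR_tor C hτ t s
      rwa [one_mul] at this
    have hadd : ∀ t u, S.zR C t s * S.zR C u s = S.zR C (t + u) s := fun t u => hu.zR_add_left C t u s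
    have hc1 : c - 1 ≠ 0 := sub_ne_zero.mpr h1
    have key : ∀ t, S.zR C ((c - 1) * t) s = 1 := by
      intro t
      have e : (c - 1) * t = c * t - t := by ring
      rw [e, ← td_add_sub hadd, hinv, mul_inv_cancel]
    have := key ((c - 1)⁻¹ * t)
    rwa [← mul_assoc, mul_inv_cancel₀ hc1, one_mul] at this
  · have hfix : ∀ c : K, S.σ c = c → c ≠ 0 → c = 1 := by
      intro c hσ h0
      by_contra h1
      exact hc ⟨c, hσ, h0, h1⟩
    obtain ⟨a, ha0, ha1, ha⟩ := Tw3.exists_scalar S.card_gt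
    refine td_scalar_trick (fun t s => S.zR C t s) (fun t t' u => (hu.zR_add_left C t t' u).symm)
      (fun t u u' => (hu.zR_add_right C t u u').symm) ?_ ha0 ha1 ha t s
    intro κ hκ t u
    obtain ⟨μ, hμ, hμκ⟩ := S.exists_sq_eq hκ
    have hn : S.nm μ = 1 := hfix _ (S.σ_nm μ) (S.nm_ne_zero hμ)
    have hτ := S.isTor_ha hμ
    rw [hn, inv_one, mul_one, hμκ, hn, mul_one] at hτ
    exact hu.zR_tor C hτ t u

/-- **the relation `r2` for the lifts.** -/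
theorem Uniq.cm_a_ab (hu : S.Uniq) (t s : K) : C.cm (S.xa t) (S.xab s) =
    S.M3 C (s * S.σ t + S.σ s * t) (s * S.σ t * S.σ (S.σ t)) (s * S.σ s * S.σ (S.σ t)) := by
  have h := hu.zR_eq_one C t s
  unfold zR at h
  exact mul_inv_eq_one.mp h

end TdSys

end Cfsg.Agent.Helper7.Td
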