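import Mathlib
import Cfsg.Agent.Helper7.TdH

set_option autoImplicit false
set_option linter.unusedSectionVars false
set_option linter.unusedVariables false

/-!
# S2110, part I: the relations `r5` and `r1` for the canonical lifts

* `kap_yb_Y3ab`: conjugation of `Y3ab v` by a lift of `yb w` (the relation `r5`).
* `M4`, `N4`: the subgroup of the `Xab s · M3 f g h`.
* `Uniq.cm_b_a`: the relation `r1`.
-/

namespace Cfsg.Agent.Helper7.Td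

open Cfsg.Agent.Helper7.Sc

namespace TdSys

variable {K : Type*} [Field K] [Fintype K] {G E : Type*} [Group G] [Group E] (S : TdSys K G) (C : CExt E G)

/-- the elements `xab s · m3 f g h`. -/
def m4 (s f g h : K) : G := S.xab s * S.m3 f g h

/-- the relation `r1` written with `m4`. -/
theorem r1' (w t : K) : S.yb w * S.xa t * (S.yb w)⁻¹ * (S.xa t)⁻¹ =
    S.m4 (S.tr w * t) (S.tr w * t * S.σ t) (w * S.nm t) (-(S.tr w * w * S.nm t)) := by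
  rw [S.r1]
  unfold m4 m3
  group

/-- **the relation `r5` for the lifts**: conjugation of `Y3ab v` by a lift of `yb w`. -/
theorem kap_yb_Y3ab (w v : K) : C.kap (S.yb w) (S.Y3ab C v) = S.Y3ab C v * S.Y3a2b C (S.tr w * v) := by
  have e1 : S.yb w * S.xa v * (S.yb w)⁻¹ =
      S.m4 (S.tr w * v) (S.tr w * v * S.σ v) (w * S.nm v) (-(S.tr w * w * S.nm v)) * S.xa v := by
    rw [← S.r1']
    group
  have e2 : S.yb w * S.x2ab 1 * (S.yb w)⁻¹ = S.x2ab 1 := by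
    rw [← S.c_2ab_b]
    group
  have hY : S.Y3ab C v = C.cm (S.xa v) (S.x2ab 1) := rfl
  have hlc : C.LC (S.m4 (S.tr w * v) (S.tr w * v * S.σ v) (w * S.nm v) (-(S.tr w * w * S.nm v))) (S.y3ab v) :=
    td_lc_mul_left C (S.lc_ab_3ab C _ v) (S.lc_m3_3ab C _ _ _ v)
  rw [hY, C.kap_cm, e1, e2, td_cm_mul_left, ← hY, hlc.kap_eq C (S.Y3ab_ψ C v)]
  congr 1
  unfold m4
  rw [td_cm_mul_left, (C.LC_iff _ _).mp (S.lc_m3_2ab C _ _ _ 1), map_one, one_mul, S.cm_ab_2ab, map_one, one_mul]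

/-! ### the subgroup `N4` -/

/-- the lift `Xab s · M3 f g h` of `m4 s f g h`. -/
noncomputable def M4 (s f g h : K) : E := S.Xab C s * S.M3 C f g h

theorem M4_ψ (s f g h : K) : C.ψ (S.M4 C s f g h) = S.m4 s f g h := by
  unfold M4 m4
  rw [map_mul, S.Xab_ψ, S.M3_ψ]

/-- moving `Xab` to the left of `M3`. -/
theorem M3_mul_Xab (f g h s : K) : S.M3 C f g h * S.Xab C s = S.Xab C s * S.M3 C f g (h + S.σ f * -s) := by
  have h1 := td_inv_conj (S.Xab_ψ C s) (S.M3 C f g h)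
  rw [td_add_inv S.xab_add, S.kap_xab_M3] at h1
  rw [← h1]
  group

theorem M4_mul (s f g h s' f' g' h' : K) :
    S.M4 C s f g h * S.M4 C s' f' g' h' = S.M4 C (s + s') (f + f') (g + g') (h + S.σ f * -s' + h') := by
  unfold M4
  calc S.Xab C s * S.M3 C f g h * (S.Xab C s' * S.M3 C f' g' h')
      = S.Xab C s * (S.M3 C f g h * S.Xab C s') * S.M3 C f' g' h' := by group
    _ = S.Xab C s * (S.Xab C s' * S.M3 C f g (h + S.σ f * -s')) * S.M3 C f' g' h' := by rw [S.M3_mul_Xab]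
    _ = (S.Xab C s * S.Xab C s') * (S.M3 C f g (h + S.σ f * -s') * S.M3 C f' g' h') := by group
    _ = _ := by rw [S.Xab_add, S.M3_mul]

theorem M4_zero : S.M4 C 0 0 0 0 = 1 := by
  unfold M4
  rw [td_add_zero (S.Xab_add C), S.M3_zero, one_mul]

theorem M4_congr {s f g h s' f' g' h' : K} (hs : s = s') (hf : f = f') (hg : S.tr g = S.tr g')
    (hh : S.tr h = S.tr h') : S.M4 C s f g h = S.M4 C s' f' g' h' := by
  unfold M4
  rw [hs, S.M3_congr C hf hg hh]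

theorem M4_inv (s f g h : K) : (S.M4 C s f g h)⁻¹ = S.M4 C (-s) (-f) (-g) (-(h + S.σ f * s)) := by
  apply inv_eq_of_mul_eq_one_right
  rw [S.M4_mul, ← S.M4_zero C]
  congr 1
  · ring
  · ring
  · ring
  · ring

/-- the subgroup of the `M4 s f g h`. -/
noncomputable def N4 : Subgroup E where
  carrier := {e | ∃ s f g h, e = S.M4 C s f g h}
  one_mem' := ⟨0, 0, 0, 0, (S.M4_zero C).symm⟩
  mul_mem' := by
    rintro _ _ ⟨s, f, g, h, rfl⟩ ⟨s', f', g', h', rfl⟩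
    exact ⟨_, _, _, _, S.M4_mul C s f g h s' f' g' h'⟩
  inv_mem' := by
    rintro _ ⟨s, f, g, h, rfl⟩
    exact ⟨_, _, _, _, S.M4_inv C s f g h⟩

theorem M4_mem (s f g h : K) : S.M4 C s f g h ∈ S.N4 C := ⟨s, f, g, h, rfl⟩

theorem M3_eq_M4 (f g h : K) : S.M3 C f g h = S.M4 C 0 f g h := by
  unfold M4
  rw [td_add_zero (S.Xab_add C), one_mul]

theorem Xab_eq_M4 (s : K) : S.Xab C s = S.M4 C s 0 0 0 := by
  unfold M4
  rw [S.M3_zero, mul_one]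

theorem N3_le_N4 : S.N3 C ≤ S.N4 C := by
  rintro _ ⟨f, g, h, rfl⟩
  rw [S.M3_eq_M4]
  exact S.M4_mem C _ _ _ _

theorem M3_mem_N4 (f g h : K) : S.M3 C f g h ∈ S.N4 C := S.N3_le_N4 C (S.M3_mem C f g h)

theorem Xab_mem_N4 (s : K) : S.Xab C s ∈ S.N4 C := by
  rw [S.Xab_eq_M4]
  exact S.M4_mem C _ _ _ _

variable {S}

theorem Uniq.N4_inj (hu : S.Uniq) : ∀ n ∈ S.N4 C, C.ψ n = 1 → n = 1 := by
  rintro _ ⟨s, f, g, h, rfl⟩ h1
  rw [S.M4_ψ] at h1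
  have h0 : S.m4 (0 : K) 0 0 0 = 1 := by rw [← S.M4_ψ C, S.M4_zero, map_one]
  rw [← h0] at h1
  obtain ⟨e0, e1, e2, e3⟩ := hu.m4 h1
  rw [S.M4_congr C e0 e1 e2 e3, S.M4_zero]

/-- conjugation by a lift of `xa t` preserves `N4`. -/
theorem Uniq.kap_xa_N4 (hu : S.Uniq) (t : K) : ∀ n ∈ S.N4 C, C.kap (S.xa t) n ∈ S.N4 C := by
  rintro _ ⟨s, f, g, h, rfl⟩
  unfold M4
  rw [map_mul, td_kap_eq_cm_mul (S.Xab_ψ C s), hu.cm_a_ab, S.kap_xa_M3]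
  exact (S.N4 C).mul_mem ((S.N4 C).mul_mem (S.M3_mem_N4 C _ _ _) (S.Xab_mem_N4 C s)) (S.M3_mem_N4 C _ _ _)

variable (S)

/-- conjugation by a lift of `yb w`. -/
theorem kap_yb_M3 (w f g h : K) : C.kap (S.yb w) (S.M3 C f g h) = S.M3 C f g (S.tr w * g + h) := by
  unfold M3
  rw [map_mul, map_mul, ((S.lc_2ab_b C f w).symm C).kap_eq C (S.X2ab_ψ C f), S.kap_yb_Y3ab,
    ((S.lc_3a2b_b C h w).symm C).kap_eq C (S.Y3a2b_ψ C h), ← S.Y3a2b_add]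
  group

theorem kap_yb_Xab (w s : K) : C.kap (S.yb w) (S.Xab C s) = S.Xab C s :=
  ((S.lc_ab_b C s w).symm C).kap_eq C (S.Xab_ψ C s)

theorem kap_yb_N4 (w : K) : ∀ n ∈ S.N4 C, C.kap (S.yb w) n ∈ S.N4 C := by
  rintro _ ⟨s, f, g, h, rfl⟩
  unfold M4
  rw [map_mul, S.kap_yb_Xab, S.kap_yb_M3]
  exact S.M4_mem C _ _ _ _

variable {S}

theorem IsTor.kap_N4 {τ : G} {ca cab c2ab : K} (h : S.IsTor τ ca cab c2ab) :
    ∀ n ∈ S.N4 C, C.kap τ n ∈ S.N4 C := by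
  rintro _ ⟨s, f, g, h', rfl⟩
  unfold M4
  rw [map_mul, h.kap_Xab, h.kap_M3]
  exact S.M4_mem C _ _ _ _

variable (S)

/-! ### the relation `r1` -/

/-- the expected value of `⟦yb w, xa t⟧`. -/
noncomputable def ExQ (w t : K) : E :=
  S.M4 C (S.tr w * t) (S.tr w * t * S.σ t) (w * S.nm t) (-(S.tr w * w * S.nm t))

/-- the discrepancy. -/
noncomputable def zQ (w t : K) : E := C.cm (S.yb w) (S.xa t) * (S.ExQ C w t)⁻¹

theorem ExQ_ψ (w t : K) : C.ψ (S.ExQ C w t) = C.ψ (C.cm (S.yb w) (S.xa t)) := by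
  unfold ExQ
  rw [S.M4_ψ, C.ψ_cm, S.r1']

theorem zQ_dec (w t : K) : TdDec C (S.N4 C) (C.cm (S.yb w) (S.xa t)) (S.zQ C w t) :=
  TdDec.of_ψ_eq (S.M4_mem C _ _ _ _) (S.ExQ_ψ C w t).symm

variable {S}

theorem Uniq.zQ_add (hu : S.Uniq) (w t₁ t₂ : K) : S.zQ C w t₁ * S.zQ C w t₂ = S.zQ C w (t₁ + t₂) := by
  have h1 : C.cm (S.yb w) (S.xa (t₁ + t₂)) =
      C.cm (S.yb w) (S.xa t₁) * C.kap (S.xa t₁) (C.cm (S.yb w) (S.xa t₂)) := by
    rw [← S.xa_add, C.cm_mul_right]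
  have h2 := (S.zQ_dec C w t₁).mul ((S.zQ_dec C w t₂).kap (hu.kap_xa_N4 C t₁))
  rw [← h1] at h2
  exact TdDec.unique (hu.N4_inj C) h2 (S.zQ_dec C w (t₁ + t₂))

theorem Uniq.zQ_rot (hu : S.Uniq) (w t : K) : S.zQ C w (S.μ₁ ^ 2 * t) = S.zQ C w t := by
  have h2 := (S.zQ_dec C w t).kap (S.isTor_g₀.kap_N4 C)
  have e : S.g₀ * S.yb w * S.g₀⁻¹ = S.yb w := by
    unfold g₀
    rw [S.ha_yb _ S.μ₁_ne, S.μ₁_nm, inv_one, one_mul]
  rw [C.kap_cm, e, S.g₀_xa] at h2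
  exact TdDec.unique (hu.N4_inj C) (S.zQ_dec C w (S.μ₁ ^ 2 * t)) h2

theorem Uniq.zQ_eq_one (hu : S.Uniq) (w t : K) : S.zQ C w t = 1 := by
  have hadd : ∀ t u, S.zQ C w t * S.zQ C w u = S.zQ C w (t + u) := fun t u => hu.zQ_add C w t u
  have hc1 : S.μ₁ ^ 2 - 1 ≠ 0 := sub_ne_zero.mpr S.μ₁_sq
  have key : ∀ t, S.zQ C w ((S.μ₁ ^ 2 - 1) * t) = 1 := by
    intro t
    have e : (S.μ₁ ^ 2 - 1) * t = S.μ₁ ^ 2 * t - t := by ring
    rw [e, ← td_add_sub hadd, hu.zQ_rot, mul_inv_cancel]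
  have := key ((S.μ₁ ^ 2 - 1)⁻¹ * t)
  rwa [← mul_assoc, mul_inv_cancel₀ hc1, one_mul] at this

/-- **the relation `r1` for the lifts.** -/
theorem Uniq.cm_b_a (hu : S.Uniq) (w t : K) : C.cm (S.yb w) (S.xa t) =
    S.M4 C (S.tr w * t) (S.tr w * t * S.σ t) (w * S.nm t) (-(S.tr w * w * S.nm t)) := by
  have h := hu.zQ_eq_one C w t
  unfold zQ at h
  exact mul_inv_eq_one.mp h

end TdSys

end Cfsg.Agent.Helper7.Td
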