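import Mathlib
import Cfsg.Agent.Helper7.TdI

set_option autoImplicit false
set_option linter.unusedSectionVars false
set_option linter.unusedVariables false

/-!
# S2110, part J: the lift of `yb`, the normal form, and the splitting over the unipotent subgroup

* `Yb`: the lift `⟦xma 1, xab (-(Tr w · θ))⟧` of `yb w` (`Tr θ = 1`), additive.
* `Ut`: the subgroup of the `Xa t · Yb w · n`, `n ∈ N4`.
* `Uniq.split`: a central extension of a perfect group containing a system `S : TdSys K G` with unique expressions splits over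
  the subgroup `{xa t · yb w · xab s · x2ab f · y3ab g · y3a2b h}`.
-/

namespace Cfsg.Agent.Helper7.Td

open Cfsg.Agent.Helper7.Sc

namespace TdSys

variable {K : Type*} [Field K] [Fintype K] {G E : Type*} [Group G] [Group E] (S : TdSys K G) (C : CExt E G)

/-- an element of trace one. -/
noncomputable def θ : K := Classical.choose S.exists_tr_one

theorem θ_tr : S.tr S.θ = 1 := Classical.choose_spec S.exists_tr_one

/-- the lift of `yb w`. -/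
noncomputable def Yb (w : K) : E := C.cm (S.xma 1) (S.xab (-(S.tr w * S.θ)))

theorem Yb_ψ (w : K) : C.ψ (S.Yb C w) = S.yb w := by
  unfold Yb
  rw [C.ψ_cm, S.r6, mul_one, neg_neg]
  exact S.long_congr S.yb_add S.yb_σ (by rw [S.tr_mul_fixed (S.σ_tr w), S.θ_tr, mul_one])

theorem Yb_add (w w' : K) : S.Yb C w * S.Yb C w' = S.Yb C (w + w') := by
  have h2 := S.Yb_ψ C w'
  unfold Yb at h2 ⊢
  rw [S.tr_add, add_mul, neg_add, ← S.xab_add, C.cm_mul_right, (S.lc_ab_b C _ w').kap_eq C h2]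

theorem Yb_congr {w w' : K} (h : S.tr w = S.tr w') : S.Yb C w = S.Yb C w' := by
  unfold Yb
  rw [h]

theorem Yb_zero : S.Yb C 0 = 1 := td_add_zero (S.Yb_add C)

theorem Yb_inv (w : K) : (S.Yb C w)⁻¹ = S.Yb C (-w) := td_add_inv (S.Yb_add C) w

theorem Xa_inv (t : K) : (S.Xa C t)⁻¹ = S.Xa C (-t) := td_add_inv (S.Xa_add C) t

/-! ### moving elements of `N4` to the right -/

variable {S}

theorem Uniq.N4_mul_Xa (hu : S.Uniq) {n : E} (hn : n ∈ S.N4 C) (t : K) :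
    ∃ n' ∈ S.N4 C, n * S.Xa C t = S.Xa C t * n' := by
  refine ⟨(S.Xa C t)⁻¹ * n * S.Xa C t, ?_, by group⟩
  rw [td_inv_conj (S.Xa_ψ C t), td_add_inv S.xa_add]
  exact hu.kap_xa_N4 C (-t) n hn

variable (S)

theorem N4_mul_Yb {n : E} (hn : n ∈ S.N4 C) (w : K) :
    ∃ n' ∈ S.N4 C, n * S.Yb C w = S.Yb C w * n' := by
  refine ⟨(S.Yb C w)⁻¹ * n * S.Yb C w, ?_, by group⟩
  rw [td_inv_conj (S.Yb_ψ C w), td_add_inv S.yb_add]
  exact S.kap_yb_N4 C (-w) n hn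

variable {S}

theorem Uniq.Yb_mul_Xa (hu : S.Uniq) (v t : K) :
    ∃ n ∈ S.N4 C, S.Yb C v * S.Xa C t = S.Xa C t * n * S.Yb C v := by
  refine ⟨(S.Xa C t)⁻¹ * S.Yb C v * S.Xa C t * (S.Yb C v)⁻¹, ?_, by group⟩
  rw [td_inv_conj (S.Xa_ψ C t), td_add_inv S.xa_add, td_kap_eq_cm_mul (S.Yb_ψ C v), mul_inv_cancel_right,
    ← C.cm_inv, hu.cm_b_a]
  exact (S.N4 C).inv_mem (S.M4_mem C _ _ _ _)

/-! ### the normal form -/

variable (S)

/-- the elements `Xa t · Yb w · n`, `n ∈ N4`. -/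
def InU (e : E) : Prop := ∃ t w : K, ∃ n ∈ S.N4 C, e = S.Xa C t * S.Yb C w * n

variable {S}

theorem InU.mul_left_Xa {e : E} (h : S.InU C e) (u : K) : S.InU C (S.Xa C u * e) := by
  obtain ⟨t, w, n, hn, rfl⟩ := h
  exact ⟨u + t, w, n, hn, by rw [← S.Xa_add]; group⟩

theorem Uniq.mul_left_N4 (hu : S.Uniq) {e : E} (h : S.InU C e) {n₁ : E} (hn₁ : n₁ ∈ S.N4 C) :
    S.InU C (n₁ * e) := by
  obtain ⟨t, w, n, hn, rfl⟩ := h
  obtain ⟨n₂, hn₂, e₂⟩ := hu.N4_mul_Xa C hn₁ t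
  obtain ⟨n₃, hn₃, e₃⟩ := S.N4_mul_Yb C hn₂ w
  refine ⟨t, w, n₃ * n, (S.N4 C).mul_mem hn₃ hn, ?_⟩
  calc n₁ * (S.Xa C t * S.Yb C w * n) = (n₁ * S.Xa C t) * S.Yb C w * n := by group
    _ = S.Xa C t * (n₂ * S.Yb C w) * n := by rw [e₂]; group
    _ = S.Xa C t * S.Yb C w * (n₃ * n) := by rw [e₃]; group

theorem Uniq.mul_left_Yb (hu : S.Uniq) {e : E} (h : S.InU C e) (v : K) : S.InU C (S.Yb C v * e) := by
  obtain ⟨t, w, n, hn, rfl⟩ := h
  obtain ⟨n₁, hn₁, e₁⟩ := hu.Yb_mul_Xa C v t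
  obtain ⟨n₂, hn₂, e₂⟩ := S.N4_mul_Yb C hn₁ (v + w)
  refine ⟨t, v + w, n₂ * n, (S.N4 C).mul_mem hn₂ hn, ?_⟩
  calc S.Yb C v * (S.Xa C t * S.Yb C w * n) = (S.Yb C v * S.Xa C t) * S.Yb C w * n := by group
    _ = S.Xa C t * n₁ * (S.Yb C v * S.Yb C w) * n := by rw [e₁]; group
    _ = S.Xa C t * (n₁ * S.Yb C (v + w)) * n := by rw [S.Yb_add]; group
    _ = S.Xa C t * S.Yb C (v + w) * (n₂ * n) := by rw [e₂]; group

theorem inU_one : S.InU C (1 : E) :=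
  ⟨0, 0, 1, (S.N4 C).one_mem, by rw [td_add_zero (S.Xa_add C), S.Yb_zero]; group⟩

/-- the lift of the unipotent subgroup. -/
noncomputable def Uniq.Ut (hu : S.Uniq) : Subgroup E where
  carrier := {e | S.InU C e}
  one_mem' := inU_one C
  mul_mem' := by
    rintro _ e₂ ⟨t, w, n, hn, rfl⟩ h₂
    have h := (hu.mul_left_Yb C (hu.mul_left_N4 C h₂ hn) w).mul_left_Xa C t
    have e : S.Xa C t * S.Yb C w * n * e₂ = S.Xa C t * (S.Yb C w * (n * e₂)) := by group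
    show S.InU C _
    rw [e]
    exact h
  inv_mem' := by
    rintro _ ⟨t, w, n, hn, rfl⟩
    have h := hu.mul_left_N4 C (hu.mul_left_Yb C ((inU_one (S := S) C).mul_left_Xa C (-t)) (-w))
      ((S.N4 C).inv_mem hn)
    have e : (S.Xa C t * S.Yb C w * n)⁻¹ = n⁻¹ * (S.Yb C (-w) * (S.Xa C (-t) * 1)) := by
      rw [← S.Yb_inv, ← S.Xa_inv]
      group
    show S.InU C _
    rw [e]
    exact h

theorem Uniq.mem_Ut (hu : S.Uniq) {e : E} : e ∈ hu.Ut C ↔ S.InU C e := Iff.rfl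

theorem Uniq.Ut_inf_ker (hu : S.Uniq) : hu.Ut C ⊓ C.ψ.ker = ⊥ := by
  rw [eq_bot_iff]
  rintro e ⟨h1, h2⟩
  rw [Subgroup.mem_bot]
  obtain ⟨t, w, n, ⟨s, f, g, h, rfl⟩, rfl⟩ := h1
  have h3 : C.ψ (S.Xa C t * S.Yb C w * S.M4 C s f g h) = 1 := MonoidHom.mem_ker.mp h2
  rw [map_mul, map_mul, S.Xa_ψ, S.Yb_ψ, S.M4_ψ] at h3
  have h0 : S.xa 0 * S.yb 0 * S.xab 0 * S.m3 (0 : K) 0 0 = 1 := by
    have : S.m3 (0 : K) 0 0 = 1 := by rw [← S.M3_ψ C, S.M3_zero, map_one]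
    rw [td_add_zero S.xa_add, td_add_zero S.yb_add, td_add_zero S.xab_add, this]
    group
  have h4 : S.xa t * S.yb w * S.xab s * S.m3 f g h = S.xa 0 * S.yb 0 * S.xab 0 * S.m3 (0 : K) 0 0 := by
    rw [h0, ← h3]
    unfold TdSys.m4
    group
  obtain ⟨e1, e2, e3, e4, e5, e6⟩ := hu t w s f g h 0 0 0 0 0 0 h4
  rw [e1, S.Yb_congr C e2, S.M4_congr C e3 e4 e5 e6, td_add_zero (S.Xa_add C), S.Yb_zero, S.M4_zero]
  group

theorem Uniq.map_Ut (hu : S.Uniq) (g : G) : g ∈ (hu.Ut C).map C.ψ ↔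
    ∃ t w s f g' h : K, g = S.xa t * S.yb w * S.xab s * S.m3 f g' h := by
  constructor
  · rintro ⟨e, ⟨t, w, n, ⟨s, f, g', h, rfl⟩, rfl⟩, rfl⟩
    refine ⟨t, w, s, f, g', h, ?_⟩
    rw [map_mul, map_mul, S.Xa_ψ, S.Yb_ψ, S.M4_ψ]
    unfold TdSys.m4
    group
  · rintro ⟨t, w, s, f, g', h, rfl⟩
    refine ⟨S.Xa C t * S.Yb C w * S.M4 C s f g' h, ⟨t, w, _, S.M4_mem C s f g' h, rfl⟩, ?_⟩
    rw [map_mul, map_mul, S.Xa_ψ, S.Yb_ψ, S.M4_ψ]
    unfold TdSys.m4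
    group

/-- **the extension splits over the unipotent subgroup.** -/
theorem Uniq.split (hu : S.Uniq) (U : Subgroup G)
    (hU : ∀ g : G, g ∈ U ↔ ∃ t w s f g' h : K, g = S.xa t * S.yb w * S.xab s * S.m3 f g' h) :
    ∃ Ut : Subgroup E, Ut ⊓ C.ψ.ker = ⊥ ∧ Ut.map C.ψ = U := by
  refine ⟨hu.Ut C, hu.Ut_inf_ker C, ?_⟩
  ext g
  rw [hu.map_Ut C g, hU g]

end TdSys

end Cfsg.Agent.Helper7.Td
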