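import Mathlib
import Cfsg.Agent.Helper7.TdJ

set_option autoImplicit false
set_option linter.unusedSectionVars false
set_option linter.unusedVariables false

/-!
# S2110, part K: transfer

If a central extension `ψ : E → G` splits over a subgroup `U` of finite index (`Ut ⊓ ker ψ = ⊥`, `Ut.map ψ = U`), then every element of
`ker ψ ⊓ commutator E` has order dividing the index of `U`; for a finite stem extension and `p ∤ [G : U]` the kernel has order prime to `p`.
`TdSys.Uniq.card_ker_coprime`: this for a group containing a system `S : TdSys K G`.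
-/

namespace Cfsg.Agent.Helper7.Td

open Cfsg.Agent.Helper7.Sc
open scoped commutatorElement

section transfer

variable {E G : Type*} [Group E] [Group G]

/-- Transfer into the abelianization of a subgroup of finite index. -/
theorem td_pow_index_mem_commutator (P : Subgroup E) [P.FiniteIndex] (z : E)
    (hz : z ∈ Subgroup.center E) (hz' : z ∈ commutator E) : z ^ P.index ∈ ⁅P, P⁆ := by
  have key : ∀ (k : ℕ) (g₀ : E), g₀⁻¹ * z ^ k * g₀ ∈ P → g₀⁻¹ * z ^ k * g₀ = z ^ k := by
    intro k g₀ _
    have h := (Subgroup.mem_center_iff.mp (pow_mem hz k)) g₀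
    rw [mul_assoc, ← h, inv_mul_cancel_left]
  have h1 := MonoidHom.transfer_eq_pow (Abelianization.of : ↥P →* Abelianization ↥P) z key
  have h2 : MonoidHom.transfer (Abelianization.of : ↥P →* Abelianization ↥P) z = 1 :=
    MonoidHom.mem_ker.mp (Abelianization.commutator_subset_ker _ hz')
  rw [h2] at h1
  have h3 : (⟨z ^ P.index, MonoidHom.transfer_eq_pow_aux z key⟩ : ↥P) ∈ commutator ↥P := by
    rw [← Abelianization.ker_of]
    exact MonoidHom.mem_ker.mpr h1.symm
  rw [← Subgroup.map_subtype_commutator]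
  exact ⟨_, h3, rfl⟩

/-- an element of the kernel lying in the commutator subgroup has order dividing the index of a subgroup over which the extension
splits. -/
theorem td_pow_index_eq_one (ψ : E →* G) (hs : Function.Surjective ψ) (hc : ψ.ker ≤ Subgroup.center E)
    (Ut : Subgroup E) (h1 : Ut ⊓ ψ.ker = ⊥) (U : Subgroup G) (h2 : Ut.map ψ = U) [hU : U.FiniteIndex] {z : E}
    (hz : z ∈ ψ.ker) (hz' : z ∈ commutator E) : z ^ U.index = 1 := by
  have hidx : (U.comap ψ).index = U.index := Subgroup.index_comap_of_surjective U hs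
  have : (U.comap ψ).FiniteIndex := ⟨by rw [hidx]; exact hU.index_ne_zero⟩
  have h3 := td_pow_index_mem_commutator (U.comap ψ) z (hc hz) hz'
  rw [hidx] at h3
  have h4 : ⁅U.comap ψ, U.comap ψ⁆ ≤ Ut := by
    rw [Subgroup.commutator_le]
    intro a ha b hb
    rw [Subgroup.mem_comap, ← h2] at ha hb
    obtain ⟨u, hu, hua⟩ := ha
    obtain ⟨v, hv, hvb⟩ := hb
    have hca : u⁻¹ * a ∈ ψ.ker := by rw [MonoidHom.mem_ker, map_mul, map_inv, hua, inv_mul_cancel]
    have hcb : v⁻¹ * b ∈ ψ.ker := by rw [MonoidHom.mem_ker, map_mul, map_inv, hvb, inv_mul_cancel]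
    have ka : ∀ x, (u⁻¹ * a) * x = x * (u⁻¹ * a) := fun x => ((Subgroup.mem_center_iff.mp (hc hca)) x).symm
    have kb : ∀ x, (v⁻¹ * b) * x = x * (v⁻¹ * b) := fun x => ((Subgroup.mem_center_iff.mp (hc hcb)) x).symm
    have e : ⁅a, b⁆ = ⁅u, v⁆ := by
      rw [commutatorElement_def, commutatorElement_def]
      have ea : a = u * (u⁻¹ * a) := by group
      have eb : b = v * (v⁻¹ * b) := by group
      rw [ea, eb]
      exact CExt.comm_central_mul (p := u) (q := v) ka kb
    rw [e]
    exact Ut.commutator_mem_commutator hu hv |> fun h => (Subgroup.commutator_le_self Ut) h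
  have h5 : z ^ U.index ∈ Ut ⊓ ψ.ker := ⟨h4 h3, pow_mem hz _⟩
  rw [h1] at h5
  exact Subgroup.mem_bot.mp h5

/-- the kernel of a finite stem extension which splits over a subgroup of index prime to `p` has order prime to `p`. -/
theorem td_card_ker_coprime [Finite E] (ψ : E →* G) (hs : Function.Surjective ψ) (hc : ψ.ker ≤ Subgroup.center E)
    (hk : ψ.ker ≤ commutator E) (Ut : Subgroup E) (h1 : Ut ⊓ ψ.ker = ⊥) (U : Subgroup G) (h2 : Ut.map ψ = U)
    [hU : U.FiniteIndex] {p : ℕ} (hp : p.Prime) (hpU : ¬ p ∣ U.index) : (Nat.card ψ.ker).Coprime p := by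
  rw [Nat.coprime_comm, hp.coprime_iff_not_dvd]
  intro hd
  have : Fact p.Prime := ⟨hp⟩
  obtain ⟨z, hz⟩ := exists_prime_orderOf_dvd_card' p hd
  have h3 := td_pow_index_eq_one ψ hs hc Ut h1 U h2 z.2 (hk z.2)
  have h4 : (z : E) ^ U.index = 1 := h3
  have h5 : orderOf (z : E) ∣ U.index := orderOf_dvd_of_pow_eq_one h4
  rw [Subgroup.orderOf_coe, hz] at h5
  exact hpU h5

end transfer

/-- **Theorem I**: the kernel of a finite stem extension of a perfect group containing a system `S : TdSys K G` with unique expressions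
has order prime to `p`, if `p` does not divide the index of the unipotent subgroup. -/
theorem TdSys.Uniq.card_ker_coprime {K : Type*} [Field K] [Fintype K] {G E : Type*} [Group G] [Group E] [Finite E]
    {S : TdSys K G} (hu : S.Uniq) (ψ : E →* G) (hs : Function.Surjective ψ) (hc : ψ.ker ≤ Subgroup.center E)
    (hk : ψ.ker ≤ commutator E) (hperf : commutator G = ⊤) (U : Subgroup G)
    (hU : ∀ g : G, g ∈ U ↔ ∃ t w s f g' h : K, g = S.xa t * S.yb w * S.xab s * S.m3 f g' h) [U.FiniteIndex]
    {p : ℕ} (hp : p.Prime) (hpU : ¬ p ∣ U.index) : (Nat.card ψ.ker).Coprime p := by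
  obtain ⟨Ut, h1, h2⟩ := hu.split (⟨ψ, hs, hc, hperf⟩ : CExt E G) U hU
  exact td_card_ker_coprime ψ hs hc hk Ut h1 U h2 hp hpU

end Cfsg.Agent.Helper7.Td
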