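import Mathlib
import Cfsg.Agent.Helper7.TdK

set_option autoImplicit false
set_option linter.unusedSectionVars false
set_option linter.unusedVariables false

/-!
# S2110, part L: the unipotent subgroup by counting

`TdSys.Uniq.mem_iff_of_card`: if a finite subgroup `U` of order at most `q ^ 12` contains all products
`xa t · yb w · xab s · x2ab f · y3ab g · y3a2b h`, the expressions are unique, `|K| = q ^ 3` and the fixed field has `q` elements, then `U`
is the set of these products.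
-/

namespace Cfsg.Agent.Helper7.Td

open Cfsg.Agent.Helper7.Sc

namespace TdSys

variable {K : Type*} [Field K] [Fintype K] {G : Type*} [Group G] {S : TdSys K G}

theorem tr_fixed_mul_θ {c : K} (hc : S.σ c = c) : S.tr (c * S.θ) = c := by
  rw [S.tr_mul_fixed hc, S.θ_tr, mul_one]

theorem Uniq.mem_iff_of_card {q : ℕ} (hu : S.Uniq) (U : Subgroup G) [Finite U]
    (hsub : ∀ t w s f g h : K, S.xa t * S.yb w * S.xab s * S.m3 f g h ∈ U)
    (hK : Fintype.card K = q ^ 3) (hk : Nat.card {c : K // S.σ c = c} = q) (hU : Nat.card U ≤ q ^ 12) (g : G) :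
    g ∈ U ↔ ∃ t w s f g' h : K, g = S.xa t * S.yb w * S.xab s * S.m3 f g' h := by
  constructor
  · intro hg
    let kk := {c : K // S.σ c = c}
    let φ : K × kk × K × K × kk × kk → U := fun x =>
      ⟨S.xa x.1 * S.yb (x.2.1.1 * S.θ) * S.xab x.2.2.1 * S.m3 x.2.2.2.1 (x.2.2.2.2.1.1 * S.θ) (x.2.2.2.2.2.1 * S.θ),
        hsub _ _ _ _ _ _⟩
    have hinj : Function.Injective φ := by
      rintro ⟨t, u, s, f, v, z⟩ ⟨t', u', s', f', v', z'⟩ h
      have h' := congrArg Subtype.val h
      obtain ⟨e1, e2, e3, e4, e5, e6⟩ := hu _ _ _ _ _ _ _ _ _ _ _ _ h'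
      simp only at e1 e2 e3 e4 e5 e6
      rw [tr_fixed_mul_θ u.2, tr_fixed_mul_θ u'.2] at e2
      rw [tr_fixed_mul_θ v.2, tr_fixed_mul_θ v'.2] at e5
      rw [tr_fixed_mul_θ z.2, tr_fixed_mul_θ z'.2] at e6
      rw [e1, Subtype.ext e2, e3, e4, Subtype.ext e5, Subtype.ext e6]
    have hcard : Nat.card (K × kk × K × K × kk × kk) = q ^ 12 := by
      have hK' : Nat.card K = q ^ 3 := by rw [Nat.card_eq_fintype_card, hK]
      simp only [Nat.card_prod, hK', show Nat.card kk = q from hk]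
      ring
    have hbij := hinj.bijective_of_nat_card_le (by rw [hcard]; exact hU)
    obtain ⟨⟨t, u, s, f, v, z⟩, hx⟩ := hbij.2 ⟨g, hg⟩
    exact ⟨t, _, s, f, _, _, (congrArg Subtype.val hx).symm⟩
  · rintro ⟨t, w, s, f, g', h, rfl⟩
    exact hsub _ _ _ _ _ _

end TdSys

end Cfsg.Agent.Helper7.Td
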