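import Mathlib
import Cfsg.Agent.Helper7.ChevTwO1

set_option autoImplicit false

set_option linter.unusedSectionVars false
set_option linter.unusedVariables false

/-!
Twisted groups: the order of the group over a finite field from the sharp form of the Bruhat decomposition.
-/

namespace Cfsg.Agent.Helper7.Chev

open Cfsg Cfsg.Lie Matrix DoubleCoset
open scoped Pointwise

variable {D : ChevalleyDatum} {K : Type*} [Field K]

section main

variable (hG : Good2 D) (hT : T0 D) (h3 : (tabOf D).T3) (h4 : (tabOf D).T4 60) (h5 : (tabOf D).T5)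
  (h6 : (tabOf D).T6) (h7 : (tabOf D).T7) (h8 : (tabOf D).T8) (h9 : (tabOf D).T9)
  {ρ ρ' σ σ' : ℕ → ℕ} {ε : ℕ → ℤ} (h18 : T18 D ρ ρ' σ σ' ε) {cls : List (ℕ × ℕ)}
  (h19 : T19 D ρ σ cls) (h20 : (tabOf D).T20 ρ cls) (f : K ≃+* K)
  {W : List (List (ℕ × ℕ))} (hW : TwWList D ρ cls W)

include hT h5 h6 h7 h8 h9 h18 h20 hW in
/-- The order of the twisted group. -/
theorem card_twGroup [Fintype K] :
    Nat.card (twGroup hG h3 h4 h19 f) =
      Nat.card (twU hG h3 h4 h19 f) * Nat.card (twH hG h3 h4 h19 f) *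
        (W.map fun L => (L.map fun c => Nat.card {t : K // Adm f c.2 t}).prod).sum := by
  have hBG := twB_le_twGroup hG h3 h4 h19 f (K := K)
  have hMG : ∀ i : Fin W.length, twM hG h18 f ((W.get i).flatMap (clsWord ρ)) ≤
      twGroup hG h3 h4 h19 f := by
    intro i
    obtain ⟨hL, hpp⟩ := hW.ok _ (List.get_mem W i)
    exact (twM_main hG hT h3 h4 h5 h6 h7 h8 h18 h19 h20 f _ hL hpp).2.1
  let Φ : (Σ i : Fin W.length,
      ↥(twB hG h3 h4 h19 f) × ↥(twM hG h18 f ((W.get i).flatMap (clsWord ρ)))) →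
        ↥(twGroup hG h3 h4 h19 f) :=
    fun x => ⟨(x.2.1 : GL D.Idx K) * nWordGL hG ((W.get x.1).flatMap (clsWord ρ)) *
        (x.2.2 : GL D.Idx K),
      mul_mem (mul_mem (hBG x.2.1.2)
        (nWordGL_flatMap_mem hG h3 h4 h19 f (hW.ok _ (List.get_mem W x.1)).1)) (hMG x.1 x.2.2.2)⟩
  have hinj : Function.Injective Φ := by
    rintro ⟨i, ⟨b, hb⟩, ⟨u, hu⟩⟩ ⟨i', ⟨b', hb'⟩, ⟨u', hu'⟩⟩ e
    have e' : b * nWordGL hG ((W.get i).flatMap (clsWord ρ)) * u =
        b' * nWordGL hG ((W.get i').flatMap (clsWord ρ)) * u' :=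
      congrArg (fun x : ↥(twGroup hG h3 h4 h19 f) => (x : GL D.Idx K)) e
    obtain ⟨hww, hbb, huu⟩ := normal_form_unique_tw hG hT h3 h4 h5 h6 h7 h8 h9 h18 h19 h20 f hW
      (List.get_mem W i) (List.get_mem W i') hb hb' hu hu' e'
    have hii : i = i' := (List.Nodup.get_inj_iff hW.nodup).mp hww
    subst hii
    subst hbb
    subst huu
    rfl
  have hsurj : Function.Surjective Φ := by
    rintro ⟨g, hg⟩
    obtain ⟨L, hLW, b, hb, u, hu, rfl⟩ :=
      exists_normal_form_tw hG hT h3 h4 h5 h6 h7 h8 h9 h18 h19 h20 f hW hg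
    obtain ⟨i, rfl⟩ := List.mem_iff_get.mp hLW
    exact ⟨⟨i, ⟨b, hb⟩, ⟨u, hu⟩⟩, rfl⟩
  rw [← Nat.card_congr (Equiv.ofBijective Φ ⟨hinj, hsurj⟩), Nat.card_sigma]
  have hterm : ∀ i : Fin W.length,
      Nat.card (↥(twB hG h3 h4 h19 f) × ↥(twM hG h18 f ((W.get i).flatMap (clsWord ρ)))) =
        Nat.card (twU hG h3 h4 h19 f) * Nat.card (twH hG h3 h4 h19 f) *
          ((W.get i).map fun c => Nat.card {t : K // Adm f c.2 t}).prod := by
    intro i
    obtain ⟨hL, hpp⟩ := hW.ok _ (List.get_mem W i)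
    rw [Nat.card_prod, card_twB hG hT h3 h4 h19 f,
      (twM_main hG hT h3 h4 h5 h6 h7 h8 h18 h19 h20 f _ hL hpp).2.2]
  rw [Finset.sum_congr rfl (fun i _ => hterm i), ← Finset.mul_sum]
  congr 1
  have key := Fin.sum_univ_fun_getElem W
    (fun L => (L.map fun c => Nat.card {t : K // Adm f c.2 t}).prod)
  simp only [List.get_eq_getElem]
  exact key

end main

end Cfsg.Agent.Helper7.Chev
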