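import Mathlib
import Cfsg.Agent.Helper7.ChevTwO2
import Cfsg.Agent.Helper7.ChevWCert

set_option autoImplicit false
set_option linter.unusedSectionVars false
set_option linter.unusedVariables false

/-!
Twisted groups: a checkable certificate for a list of words in the classes representing the elements of the Weyl
group of the twisted group.
-/

namespace Cfsg.Agent.Helper7.Chev

open Cfsg Cfsg.Lie Matrix

namespace Tab

/-- The table of the fundamental reflections agrees with the reflections of the datum. -/
def ReflTab (T : Tab) (R : ℕ × ℕ) : Prop :=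
  ∀ i < T.l, ∀ r < T.n, T.refl (T.simple i) r = fastRefl R i r

instance (T : Tab) (R : ℕ × ℕ) : Decidable (T.ReflTab R) := by
  unfold ReflTab; infer_instance

end Tab

/-- Left multiplication by the reflections of the classes permutes the list, as certified by `nxt`. -/
def twClosedF (n : ℕ) (R : ℕ × ℕ) (cw : List (List ℕ)) (Wf : List (List ℕ)) (nxt : List (List ℕ)) :
    Bool :=
  (Wf.zip nxt).all fun p => decide (p.2.length = cw.length) &&
    (p.2.zip cw).all fun q => decide (q.1 < Wf.length) &&
      (List.range n).all fun r => fastWord R (q.2 ++ p.1) r == fastWord R (Wf.getD q.1 []) r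

/-- The check of `twClosedF` on a chunk of the list. -/
def twClosedChunk (n : ℕ) (R : ℕ × ℕ) (cw : List (List ℕ)) (Wf : List (List ℕ))
    (nxt : List (List ℕ)) (a k : ℕ) : Bool :=
  (((Wf.zip nxt).drop a).take k).all fun p => decide (p.2.length = cw.length) &&
    (p.2.zip cw).all fun q => decide (q.1 < Wf.length) &&
      (List.range n).all fun r => fastWord R (q.2 ++ p.1) r == fastWord R (Wf.getD q.1 []) r

theorem twClosedF_of_chunks (n : ℕ) (R : ℕ × ℕ) (cw : List (List ℕ)) (Wf : List (List ℕ))
    (nxt : List (List ℕ)) (k m : ℕ) (h : ∀ j < m, twClosedChunk n R cw Wf nxt (j * k) k = true)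
    (hlen : Wf.length ≤ m * k) : twClosedF n R cw Wf nxt = true := by
  unfold twClosedF
  apply all_of_chunks _ k m _ h
  rw [List.length_zip]
  exact le_trans (Nat.min_le_left _ _) hlen

/-- The certificate. -/
structure TwWCert (D : ChevalleyDatum) (R : ℕ × ℕ) (ρ : ℕ → ℕ) (cls : List (ℕ × ℕ))
    (W : List (List (ℕ × ℕ))) (Wf : List (List ℕ)) (nxt : List (List ℕ)) (K : List ℕ) : Prop where
  refl_eq : (tabOf D).ReflTab R
  head : W.head? = some []
  flat : W.map (fun L => L.flatMap (clsWord ρ)) = Wf
  len : nxt.length = W.length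
  mem : (W.all fun L => L.all fun c => decide (c ∈ cls)) = true
  ok : (Wf.all fun w => prefixPosF D R w) = true
  closed : twClosedF D.nroots R (cls.map (clsWord ρ)) Wf nxt = true
  keys : Wf.map (keyF D R) = K
  nodup : nodupB K = true

variable {D : ChevalleyDatum}

section cert

variable (hG : Good2 D) {R : ℕ × ℕ} (hR : (tabOf D).ReflTab R)

include hG hR in
theorem fastWordTw_eq' {w : List ℕ} (hw : ∀ i ∈ w, i < D.rank) {s : ℕ} (hs : s < D.nroots) :
    (tabOf D).reflWord w s = fastWord R w s := by
  induction w with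
  | nil => rfl
  | cons i w ih =>
    have hi : i < D.rank := hw i List.mem_cons_self
    have hw' : ∀ j ∈ w, j < D.rank := fun j hj => hw j (List.mem_cons_of_mem _ hj)
    rw [reflWord_cons]
    change _ = fastRefl R i (fastWord R w s)
    rw [← ih hw']
    exact hR i hi _ (reflWord_lt hG hw' hs)

include hG hR in
theorem prefixPos_of_cert' {w : List ℕ} (hw : ∀ i ∈ w, i < D.rank) (h : prefixPosF D R w = true) :
    PrefixPos D w := by
  intro w₁ k w₂ hwe
  unfold prefixPosF at h
  rw [List.all_eq_true] at h
  have hm : w₁.length < w.length := by rw [hwe]; simp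
  have := h w₁.length (List.mem_range.mpr hm)
  rw [decide_eq_true_eq] at this
  have htake : w.take w₁.length = w₁ := by rw [hwe]; simp
  have hget : w.getD w₁.length 0 = k := by rw [hwe]; simp
  rw [htake, hget] at this
  have hw₁ : ∀ i ∈ w₁, i < D.rank := fun i hi => hw i (by rw [hwe]; simp [hi])
  have hk : k < D.rank := hw k (by rw [hwe]; simp)
  rw [fastWordTw_eq' hG hR hw₁ (hG.toGood1.simple_lt hk)]
  exact this

variable {ρ σ : ℕ → ℕ} {cls : List (ℕ × ℕ)} (h19 : T19 D ρ σ cls)
  {W : List (List (ℕ × ℕ))} {Wf : List (List ℕ)} {nxt : List (List ℕ)} {K : List ℕ}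
  (hC : TwWCert D R ρ cls W Wf nxt K)

include hG h19 hC in
/-- A certified list represents the Weyl group of the twisted group. -/
theorem twWList_of_cert : TwWList D ρ cls W := by
  have hG1 := hG.toGood1
  have hR := hC.refl_eq
  have hflat := hC.flat
  subst hflat
  have hmemcls : ∀ L ∈ W, ∀ c ∈ L, c ∈ cls := by
    intro L hL c hc
    have h := hC.mem
    rw [List.all_eq_true] at h
    have h1 := h L hL
    rw [List.all_eq_true] at h1
    exact of_decide_eq_true (h1 c hc)
  have hlt : ∀ L ∈ W, ∀ i ∈ L.flatMap (clsWord ρ), i < D.rank := fun L hL =>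
    flatMap_clsWord_lt h19 (hmemcls L hL)
  have hok : ∀ L ∈ W, (∀ c ∈ L, c ∈ cls) ∧ PrefixPos D (L.flatMap (clsWord ρ)) := by
    intro L hL
    refine ⟨hmemcls L hL, ?_⟩
    have h := hC.ok
    rw [List.all_eq_true] at h
    exact prefixPos_of_cert' hG hR (hlt L hL) (h _ (List.mem_map_of_mem hL))
  have hnd : ((W.map fun L => L.flatMap (clsWord ρ)).map (keyF D R)).Nodup := by
    rw [hC.keys]; exact nodup_of_nodupB _ hC.nodup
  have hndf : (W.map fun L => L.flatMap (clsWord ρ)).Nodup := List.Nodup.of_map _ hnd
  have hkey : ∀ L ∈ W, ∀ L' ∈ W,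
      (∀ r < D.nroots, (tabOf D).reflWord (L.flatMap (clsWord ρ)) r =
        (tabOf D).reflWord (L'.flatMap (clsWord ρ)) r) → L = L' := by
    intro L hL L' hL' hact
    apply List.inj_on_of_nodup_map hndf hL hL'
    apply List.inj_on_of_nodup_map hnd (List.mem_map_of_mem hL) (List.mem_map_of_mem hL')
    unfold keyF
    apply foldr_congr_mem
    intro i hi acc
    rw [List.mem_range] at hi
    have hp := hG1.simple_lt hi
    rw [← fastWordTw_eq' hG hR (hlt L hL) hp, ← fastWordTw_eq' hG hR (hlt L' hL') hp, hact _ hp]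
  refine ⟨?_, (List.Nodup.of_map _ hndf), hok, ?_, hkey⟩
  · have h := hC.head
    cases W with
    | nil => simp at h
    | cons a W' =>
      simp only [List.head?_cons, Option.some.injEq] at h
      rw [h]; exact List.mem_cons_self
  · intro L hL c hc
    obtain ⟨j, hjl, rfl⟩ := List.mem_iff_getElem.mp hL
    obtain ⟨i, hil, rfl⟩ := List.mem_iff_getElem.mp hc
    have hjn : j < nxt.length := by rw [hC.len]; exact hjl
    have hcl := hC.closed
    unfold twClosedF at hcl
    rw [List.all_eq_true] at hcl
    have hmem : ((W[j]).flatMap (clsWord ρ), nxt[j]) ∈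
        (W.map fun L => L.flatMap (clsWord ρ)).zip nxt := by
      rw [List.mem_iff_getElem]
      refine ⟨j, by simp [hjl, hjn], by simp⟩
    have h1 := hcl _ hmem
    rw [Bool.and_eq_true, decide_eq_true_eq, List.all_eq_true] at h1
    obtain ⟨hlen, h2⟩ := h1
    rw [List.length_map] at hlen
    have hil' : i < nxt[j].length := by rw [hlen]; exact hil
    have hmem2 : (nxt[j][i], clsWord ρ cls[i]) ∈ nxt[j].zip (cls.map (clsWord ρ)) := by
      rw [List.mem_iff_getElem]
      refine ⟨i, by simp [hil, hil'], by simp⟩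
    have h3 := h2 _ hmem2
    rw [Bool.and_eq_true, decide_eq_true_eq, List.all_eq_true, List.length_map] at h3
    obtain ⟨hk, h4⟩ := h3
    refine ⟨W[nxt[j][i]], List.getElem_mem hk, ?_⟩
    intro r hr
    have h5 := h4 r (List.mem_range.mpr hr)
    rw [beq_iff_eq] at h5
    have hcat : ∀ k ∈ clsWord ρ cls[i] ++ (W[j]).flatMap (clsWord ρ), k < D.rank := by
      intro k hk'
      rcases List.mem_append.mp hk' with h | h
      · exact clsWord_lt h19 hc k h
      · exact hlt _ hL k h
    rw [fastWordTw_eq' hG hR hcat hr, fastWordTw_eq' hG hR (hlt _ (List.getElem_mem hk)) hr, h5]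
    congr 1
    simp [hk]

end cert

end Cfsg.Agent.Helper7.Chev
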