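import Mathlib
import Cfsg.Agent.Helper7.ChevTwO3
import Cfsg.Agent.Helper7.ChevOrder

set_option autoImplicit false
set_option linter.unusedSectionVars false
set_option linter.unusedVariables false

/-!
Twisted groups: the order formula from a certified list of elements of the Weyl group of the twisted group.
-/

namespace Cfsg.Agent.Helper7.Chev

open Cfsg Cfsg.Lie Matrix

variable {D : ChevalleyDatum} {K : Type*} [Field K]

theorem clsWord_length (ρ : ℕ → ℕ) (c : ℕ × ℕ) : (clsWord ρ c).length = c.2 := by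
  unfold clsWord
  simp

/-- The number of fixed points in `U_w⁻` when each class has as many admissible parameters as the power of `q`
given by its size. -/
theorem prod_adm_eq {ρ : ℕ → ℕ} {cls : List (ℕ × ℕ)} {f : K ≃+* K} {q : ℕ}
    (hadm : ∀ c ∈ cls, Nat.card {t : K // Adm f c.2 t} = q ^ c.2) :
    ∀ L : List (ℕ × ℕ), (∀ c ∈ L, c ∈ cls) →
      (L.map fun c => Nat.card {t : K // Adm f c.2 t}).prod = q ^ (L.flatMap (clsWord ρ)).length := by
  intro L
  induction L with
  | nil => intro _; rfl
  | cons c L ih =>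
    intro hL
    rw [List.map_cons, List.prod_cons, List.flatMap_cons, List.length_append, clsWord_length, pow_add,
      hadm c (hL c List.mem_cons_self), ih fun c' hc' => hL c' (List.mem_cons_of_mem _ hc')]

section order

variable (hG : Good2 D) (hT : T0 D) (h3 : (tabOf D).T3) (h4 : (tabOf D).T4 60) (h5 : (tabOf D).T5)
  (h6 : (tabOf D).T6) (h7 : (tabOf D).T7) (h8 : (tabOf D).T8) (h9 : (tabOf D).T9)
  {ρ ρ' σ σ' : ℕ → ℕ} {ε : ℕ → ℤ} (h18 : T18 D ρ ρ' σ σ' ε) {cls : List (ℕ × ℕ)}
  (h19 : T19 D ρ σ cls) (h20 : (tabOf D).T20 ρ cls) (f : K ≃+* K)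
  {R : ℕ × ℕ} {W : List (List (ℕ × ℕ))} {Wf : List (List ℕ)} {nxt : List (List ℕ)} {Ks : List ℕ}
  (hC : TwWCert D R ρ cls W Wf nxt Ks)

include hT h5 h6 h7 h8 h9 h18 h20 hC in
/-- The order of the twisted group in terms of the orders of `U¹` and `H¹` and the Poincaré polynomial. -/
theorem card_twGroup_of_cert [Fintype K] {q m : ℕ} {C : List ℕ}
    (hadm : ∀ c ∈ cls, Nat.card {t : K // Adm f c.2 t} = q ^ c.2)
    (hcount : Wf.map List.length =
      (List.range m).flatMap fun k => List.replicate (C.getD k 0) k) :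
    Nat.card (twGroup hG h3 h4 h19 f) =
      Nat.card ↥(D.posUnipotent K ⊓ twGroup hG h3 h4 h19 f) *
        Nat.card ↥(D.diagonalSubgroup K ⊓ twGroup hG h3 h4 h19 f) *
          ((List.range m).map fun k => C.getD k 0 * q ^ k).sum := by
  have hW := twWList_of_cert hG h19 hC
  rw [card_twGroup hG hT h3 h4 h5 h6 h7 h8 h9 h18 h19 h20 f hW]
  change Nat.card ↥(D.posUnipotent K ⊓ twGroup hG h3 h4 h19 f) *
    Nat.card ↥(D.diagonalSubgroup K ⊓ twGroup hG h3 h4 h19 f) * _ = _
  congr 1
  have e : (W.map fun L => (L.map fun c => Nat.card {t : K // Adm f c.2 t}).prod) =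
      (Wf.map List.length).map fun x => q ^ x := by
    rw [← hC.flat, List.map_map, List.map_map]
    apply List.map_congr_left
    intro L hL
    simp only [Function.comp_apply]
    exact prod_adm_eq hadm L (hW.ok L hL).1
  rw [e, hcount, sum_pow_flatMap]

end order

end Cfsg.Agent.Helper7.Chev
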