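import Mathlib
import Cfsg.Agent.Helper7.ChevTwO3
import Cfsg.Agent.Helper7.ChevTwD4

set_option autoImplicit false
set_option maxRecDepth 1000000
set_option maxHeartbeats 4000000

/-! The elements of the Weyl group of the twisted group of type D4 as words in the classes, with the parts of the certificate. -/

namespace Cfsg.Agent.Helper7.Chev

open Cfsg Cfsg.Lie

def twR_D4 : ℕ × ℕ := (24, 0x17151613141210110e0f0d0b0c0a080906070503040102001714131615120f0e11100a0c0b0d07060908050201040300161715141213110d0c09100f08070e0b0a060405030200011711100f0e05161514130d0c0b0a04030201120908070600)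
def twL_D4 : List (List (ℕ × ℕ)) := [[], [(1, 1)], [(0, 3)], [(1, 1), (0, 3)], [(0, 3), (1, 1)], [(1, 1), (0, 3), (1, 1)], [(0, 3), (1, 1), (0, 3)], [(1, 1), (0, 3), (1, 1), (0, 3)], [(0, 3), (1, 1), (0, 3), (1, 1)], [(1, 1), (0, 3), (1, 1), (0, 3), (1, 1)], [(0, 3), (1, 1), (0, 3), (1, 1), (0, 3)], [(1, 1), (0, 3), (1, 1), (0, 3), (1, 1), (0, 3)]]
def twF_D4 : List (List ℕ) := [[], [1], [0, 2, 3], [1, 0, 2, 3], [0, 2, 3, 1], [1, 0, 2, 3, 1], [0, 2, 3, 1, 0, 2, 3], [1, 0, 2, 3, 1, 0, 2, 3], [0, 2, 3, 1, 0, 2, 3, 1], [1, 0, 2, 3, 1, 0, 2, 3, 1], [0, 2, 3, 1, 0, 2, 3, 1, 0, 2, 3], [1, 0, 2, 3, 1, 0, 2, 3, 1, 0, 2, 3]]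
def twN_D4 : List (List ℕ) := [[1, 2], [0, 4], [3, 0], [2, 6], [5, 1], [4, 8], [7, 3], [6, 10], [9, 5], [8, 11], [11, 7], [10, 9]]
def twC_D4 : List ℕ := [1, 1, 0, 1, 2, 1, 0, 1, 2, 1, 0, 1, 1]
def twK_D4 : List ℕ := [202182162, 252709139, 185210373, 134682372, 353632529, 353632273, 33756934, 33756678, 252706835, 202178834, 134680068, 185207045]

theorem twReflfast_D4 : fastD4.ReflTab twR_D4 := by decide +kernel

theorem twRefl_D4 : (tabOf chevD4).ReflTab twR_D4 := tab_D4 ▸ twReflfast_D4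

theorem twFlat_D4 : twL_D4.map (fun L => L.flatMap (clsWord (fun i => [2, 1, 3, 0].getD i 0))) = twF_D4 := by decide +kernel

theorem twMem_D4 : (twL_D4.all fun L => L.all fun c => decide (c ∈ clsD4)) = true := by decide +kernel

theorem twOk_D4 : (twF_D4.all fun w => prefixPosF chevD4 twR_D4 w) = true := by decide +kernel

theorem twKeys_D4 : twF_D4.map (keyF chevD4 twR_D4) = twK_D4 := by decide +kernel

theorem twNodup_D4 : nodupB twK_D4 = true := by decide +kernel

theorem twCount_D4 : twF_D4.map List.length = (List.range 13).flatMap (fun k => List.replicate (twC_D4.getD k 0) k) := by decide +kernel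

end Cfsg.Agent.Helper7.Chev
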