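import Mathlib
import Cfsg.Agent.Helper7.ChevTwWD4

set_option autoImplicit false
set_option maxRecDepth 1000000
set_option maxHeartbeats 4000000

/-! Part 0 of the closure check for the Weyl group of the twisted group of type D4. -/

namespace Cfsg.Agent.Helper7.Chev

open Cfsg Cfsg.Lie

theorem twClosed_D4_0 : twClosedChunk chevD4.nroots twR_D4 (clsD4.map (clsWord (fun i => [2, 1, 3, 0].getD i 0))) twF_D4 twN_D4 (0 * 12) 12 = true := by decide +kernel

end Cfsg.Agent.Helper7.Chev
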