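import Mathlib
import Cfsg.Agent.Helper7.ChevTwWD4c0

set_option autoImplicit false
set_option maxRecDepth 1000000
set_option maxHeartbeats 4000000

/-! The certificate for the Weyl group of the twisted group of type D4. -/

namespace Cfsg.Agent.Helper7.Chev

open Cfsg Cfsg.Lie

theorem twClosed_D4 : twClosedF chevD4.nroots twR_D4 (clsD4.map (clsWord (fun i => [2, 1, 3, 0].getD i 0))) twF_D4 twN_D4 = true := by
  apply twClosedF_of_chunks chevD4.nroots twR_D4 (clsD4.map (clsWord (fun i => [2, 1, 3, 0].getD i 0))) twF_D4 twN_D4 12 1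
  · intro j hj
    interval_cases j
    · exact twClosed_D4_0
  · decide +kernel

theorem twCert_D4 : TwWCert chevD4 twR_D4 (fun i => [2, 1, 3, 0].getD i 0) clsD4 twL_D4 twF_D4 twN_D4 twK_D4 :=
  ⟨twRefl_D4, rfl, twFlat_D4, by decide +kernel, twMem_D4, twOk_D4, twClosed_D4, twKeys_D4, twNodup_D4⟩

end Cfsg.Agent.Helper7.Chev
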