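import Mathlib
import Cfsg.Agent.Helper7.ChevTwO4
import Cfsg.Agent.Helper7.ChevTwWD4All
import Cfsg.Agent.Helper7.ChevTwU5
import Cfsg.Agent.Helper7.ChevTwHD4

set_option autoImplicit false

/-!
The order of `³D₄(q)`.
-/

namespace Cfsg.Agent.Helper7.Chev

open Cfsg Cfsg.Lie

/-- `|³D₄(q)| = q ^ 12 (q ^ 2 - 1) (q ^ 6 - 1) (q ^ 8 + q ^ 4 + 1)`. -/
theorem twD4_card {K : Type*} [Field K] [Fintype K] {q : ℕ} (hq : IsPrimePow q)
    (hK : Fintype.card K = q ^ 3) :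
    Nat.card ↥(twistedD4 K q) = q ^ 12 * (q ^ 2 - 1) * (q ^ 6 - 1) * (q ^ 8 + q ^ 4 + 1) := by
  have hU := twD4_card_U hq hK
  have hH := twD4_card_H hq hK
  obtain ⟨f, hf, hf3, e⟩ := twistedD4_eq hq hK
  rw [e] at hU hH ⊢
  have h1 : Nat.card {t : K // Adm f 1 t} = q := card_adm_one hq.two_le (by norm_num) hK hf
  have h3 : Nat.card {t : K // Adm f 3 t} = q ^ 3 := by rw [card_adm_full hf3, hK]
  have hadm : ∀ c ∈ clsD4, Nat.card {t : K // Adm f c.2 t} = q ^ c.2 := by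
    intro c hc
    simp only [clsD4, List.mem_cons, List.not_mem_nil, or_false] at hc
    rcases hc with rfl | rfl
    · rw [h1, pow_one]
    · exact h3
  have hcard := card_twGroup_of_cert good2_D4 T0_D4 T3_D4 T4_D4 T5_D4 T6_D4 T7_D4 T8_D4 T9_D4
    T18_D4a T19_D4 T20_D4 f twCert_D4 hadm twCount_D4
  rw [hcard, hU, hH]
  have hsum : (List.map (fun k => twC_D4.getD k 0 * q ^ k) (List.range 13)).sum =
      1 * q ^ 0 + (1 * q ^ 1 + (0 * q ^ 2 + (1 * q ^ 3 + (2 * q ^ 4 + (1 * q ^ 5 + (0 * q ^ 6 +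
        (1 * q ^ 7 + (2 * q ^ 8 + (1 * q ^ 9 + (0 * q ^ 10 + (1 * q ^ 11 + (1 * q ^ 12 + 0)))))))))))) :=
    rfl
  rw [hsum]
  have hq1 : 1 ≤ q := le_trans (by norm_num) hq.two_le
  have hp : ∀ k : ℕ, 1 ≤ q ^ k := fun k => Nat.one_le_pow _ _ hq1
  zify [hq1, hp 2, hp 6]
  ring

end Cfsg.Agent.Helper7.Chev
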