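import Mathlib
import Cfsg.Agent.Helper7.ChevT16

set_option autoImplicit false

/-!
Table facts on the coordinates of the roots on the fundamental roots: the numbers `wt W k s` are the multiples by a
fixed positive integer of integers which are `1` or `0` on the fundamental roots.
-/

namespace Cfsg.Agent.Helper7.Chev

open Cfsg Cfsg.Lie

namespace Tab

variable (T : Tab)

/-- The numbers `wt W k s` are multiples of `N`, and on the fundamental roots they are `N` or `0`. -/
def T40 (W : List (List ℤ)) (N : ℤ) : Prop :=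
  0 < N ∧ AllLt T.n (fun s => AllLt T.l (fun k => N ∣ T.wt W k s)) ∧
    AllLt T.l (fun j => AllLt T.l (fun k => T.wt W k (T.simple j) = if k = j then N else 0))

instance (W : List (List ℤ)) (N : ℤ) : Decidable (T.T40 W N) := by unfold T40; infer_instance

end Tab

set_option maxRecDepth 1000000 in
set_option maxHeartbeats 0 in
theorem T40fast_G2 : fastG2.T40 wtMatG2 1 := by decide +kernel
theorem T40_G2 : (tabOf chevG2).T40 wtMatG2 1 := tab_G2 ▸ T40fast_G2
set_option maxRecDepth 1000000 in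
set_option maxHeartbeats 0 in
theorem T40fast_B2 : fastB2.T40 wtMatB2 2 := by decide +kernel
theorem T40_B2 : (tabOf chevB2).T40 wtMatB2 2 := tab_B2 ▸ T40fast_B2
set_option maxRecDepth 1000000 in
set_option maxHeartbeats 0 in
theorem T40fast_D4 : fastD4.T40 wtMatD4 2 := by decide +kernel
theorem T40_D4 : (tabOf chevD4).T40 wtMatD4 2 := tab_D4 ▸ T40fast_D4
set_option maxRecDepth 1000000 in
set_option maxHeartbeats 0 in
theorem T40fast_F4 : fastF4.T40 wtMatF4 1 := by decide +kernel
theorem T40_F4 : (tabOf chevF4).T40 wtMatF4 1 := tab_F4 ▸ T40fast_F4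
set_option maxRecDepth 1000000 in
set_option maxHeartbeats 0 in
theorem T40fast_E6 : fastE6.T40 wtMatE6 3 := by decide +kernel
theorem T40_E6 : (tabOf chevE6).T40 wtMatE6 3 := tab_E6 ▸ T40fast_E6
set_option maxRecDepth 1000000 in
set_option maxHeartbeats 0 in
theorem T40fast_E7 : fastE7.T40 wtMatE7 2 := by decide +kernel
theorem T40_E7 : (tabOf chevE7).T40 wtMatE7 2 := tab_E7 ▸ T40fast_E7
set_option maxRecDepth 1000000 in
set_option maxHeartbeats 0 in
theorem T40fast_E8 : fastE8.T40 wtMatE8 1 := by decide +kernel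
theorem T40_E8 : (tabOf chevE8).T40 wtMatE8 1 := tab_E8 ▸ T40fast_E8

theorem T40_of_mem (D : ChevalleyDatum)
    (hD : D ∈ [chevG2, chevB2, chevD4, chevF4, chevE6, chevE7, chevE8]) :
    ∃ (W : List (List ℤ)) (N : ℤ), (tabOf D).T40 W N :=
  chev_cases (p := fun D => ∃ (W : List (List ℤ)) (N : ℤ), (tabOf D).T40 W N) D hD
    ⟨_, _, T40_G2⟩ ⟨_, _, T40_B2⟩ ⟨_, _, T40_D4⟩ ⟨_, _, T40_F4⟩ ⟨_, _, T40_E6⟩ ⟨_, _, T40_E7⟩
    ⟨_, _, T40_E8⟩

end Cfsg.Agent.Helper7.Chev
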