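import Mathlib
import Cfsg.Agent.Helper7.ChevAutC
import Cfsg.Agent.Helper7.SL2Pair
import Cfsg.Agent.Helper7.ChevRee1

set_option autoImplicit false
set_option linter.unusedSectionVars false
set_option linter.unusedVariables false
set_option linter.style.haveILetI false

/-!
Automorphisms of a Chevalley group over a finite field, part D: the rank one analysis.  An automorphism
stabilising `U` and `V` maps `x_{p_i}(t)` to `x_{p_{ρ i}}(c_i τ_i(t))` and `x_{-p_i}(t)` to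
`x_{-p_{ρ i}}(c_i⁻¹ τ_i(t))` for field automorphisms `τ_i`.
-/

namespace Cfsg.Agent.Helper7.Chev

open Cfsg Cfsg.Lie Matrix
open scoped Pointwise

variable {D : ChevalleyDatum} {F : Type*} [Field F]

theorem phiG_upper (hG : Good2 D) {r : ℕ} (hr : r < D.nroots) (t : F) :
    ((phiG hG hr (upperSL t) : ↥(D.group F)) : GL D.Idx F) = xGL hG.toGood1 hr t := rfl

theorem phiG_lower (hG : Good2 D) {r : ℕ} (hr : r < D.nroots) (t : F) :
    ((phiG hG hr (lowerSL t) : ↥(D.group F)) : GL D.Idx F) =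
      xGL hG.toGood1 (hG.toGood1.neg_lt hr) t := by
  rw [phiG_coe]
  exact eq_xGL hG.toGood1 (hG.toGood1.neg_lt hr) (phiHom_lower hG.toGood1 hr t)

theorem phiG_diag (hG : Good2 D) {r : ℕ} (hr : r < D.nroots) (t : F) (ht : t ≠ 0) :
    ((phiG hG hr (diagSL t ht) : ↥(D.group F)) : GL D.Idx F) = hGL hG.toGood1 hr t ht := rfl

theorem phiG_upper_mat (hG : Good2 D) {r : ℕ} (hr : r < D.nroots) (t : F) :
    (((phiG hG hr (upperSL t) : ↥(D.group F)) : GL D.Idx F) : Matrix D.Idx D.Idx F) = D.x F r t :=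
  phiHom_upper hG.toGood1 hr t

theorem phiG_lower_mat (hG : Good2 D) {r : ℕ} (hr : r < D.nroots) (t : F) :
    (((phiG hG hr (lowerSL t) : ↥(D.group F)) : GL D.Idx F) : Matrix D.Idx D.Idx F) =
      D.x F (D.neg r) t :=
  phiHom_lower hG.toGood1 hr t

theorem eq_phiG_upper (hG : Good2 D) {r : ℕ} (hr : r < D.nroots) {x : ↥(D.group F)} {t : F}
    (hx : ((x : GL D.Idx F) : Matrix D.Idx D.Idx F) = D.x F r t) : x = phiG hG hr (upperSL t) := by
  apply Subtype.ext
  apply Units.ext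
  rw [hx, phiG_upper_mat]

theorem eq_phiG_lower (hG : Good2 D) {r : ℕ} (hr : r < D.nroots) {x : ↥(D.group F)} {t : F}
    (hx : ((x : GL D.Idx F) : Matrix D.Idx D.Idx F) = D.x F (D.neg r) t) :
    x = phiG hG hr (lowerSL t) := by
  apply Subtype.ext
  apply Units.ext
  rw [hx, phiG_lower_mat]

/-- For a positive root, the upper and lower unitriangular images meet trivially. -/
theorem phiG_upper_lower (hG : Good2 D) (hT : T0 D) (h8 : (tabOf D).T8) {r : ℕ} (hr : r < D.nroots)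
    (hpos : D.nroots / 2 ≤ r) (x y : F)
    (h : phiG hG hr (upperSL x) = (phiG hG hr (lowerSL y) : ↥(D.group F))) : x = 0 ∧ y = 0 := by
  have hG1 := hG.toGood1
  have hnr := hG1.neg_lt hr
  have h' := congrArg Subtype.val h
  rw [phiG_upper, phiG_lower] at h'
  have h1 : xGL hG1 hr x ∈ D.borelSubgroup F :=
    (le_sup_left : D.posUnipotent F ≤ D.borelSubgroup F)
      (Subgroup.subset_closure ⟨_, _, (isPosRoot_iff hT hr).mpr hpos, xGL_coe hG1 hr _⟩)
  have h2 : xGL hG1 hr x ∈ D.negUnipotent F := by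
    rw [h']
    exact Subgroup.subset_closure ⟨_, _, (isNegRoot_iff hT hnr).mpr
      (neg_neg_of_pos hG hT hr hpos), xGL_coe hG1 hnr _⟩
  have h3 : xGL hG1 hr x ∈ D.borelSubgroup F ⊓ D.negUnipotent F := ⟨h1, h2⟩
  rw [borel_inf_negUnipotent hG hT, Subgroup.mem_bot] at h3
  constructor
  · by_contra hx
    exact xGL_ne_one hG hT h8 hr hx h3
  · by_contra hy
    rw [h3] at h'
    exact xGL_ne_one hG hT h8 hnr hy h'.symm

/-- The normal form of an automorphism on the fundamental root elements, their negatives and the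
corresponding diagonal elements. -/
def NormalAut (hG : Good2 D) (θ : ↥(D.group F) ≃* ↥(D.group F)) (ρ : ℕ → ℕ) (c : ℕ → Fˣ)
    (τ : ℕ → F ≃+* F) : Prop :=
  ∀ (i : ℕ) (hi : i < D.rank), ∃ hj : ρ i < D.rank,
    (∀ t : F, θ (phiG hG (hG.toGood1.simple_lt hi) (upperSL t)) =
      phiG hG (hG.toGood1.simple_lt hj) (upperSL (c i * τ i t))) ∧
    (∀ t : F, θ (phiG hG (hG.toGood1.simple_lt hi) (lowerSL t)) =
      phiG hG (hG.toGood1.simple_lt hj) (lowerSL (((c i)⁻¹ : Fˣ) * τ i t))) ∧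
    (∀ (t : F) (ht : t ≠ 0), θ (phiG hG (hG.toGood1.simple_lt hi) (diagSL t ht)) =
      phiG hG (hG.toGood1.simple_lt hj) (diagSL (τ i t) ((map_ne_zero (τ i)).mpr ht)))

section rankone

variable (hG : Good2 D) (hT : T0 D) (h8 : (tabOf D).T8) [Finite F]

include hT h8 in
/-- The rank one analysis, for one fundamental root. -/
theorem simpleAut_rank_one {θ : ↥(D.group F) ≃* ↥(D.group F)} {ρ : ℕ → ℕ} {f g : ℕ → F → F}
    (h : SimpleAut θ ρ f g) {i : ℕ} (hi : i < D.rank) :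
    ∃ (c : Fˣ) (σ : F ≃+* F), ∃ hj : ρ i < D.rank,
      (∀ t : F, θ (phiG hG (hG.toGood1.simple_lt hi) (upperSL t)) =
        phiG hG (hG.toGood1.simple_lt hj) (upperSL (c * σ t))) ∧
      (∀ t : F, θ (phiG hG (hG.toGood1.simple_lt hi) (lowerSL t)) =
        phiG hG (hG.toGood1.simple_lt hj) (lowerSL ((c⁻¹ : Fˣ) * σ t))) ∧
      (∀ (t : F) (ht : t ≠ 0), θ (phiG hG (hG.toGood1.simple_lt hi) (diagSL t ht)) =
        phiG hG (hG.toGood1.simple_lt hj) (diagSL (σ t) ((map_ne_zero σ).mpr ht))) := by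
  have hG1 := hG.toGood1
  obtain ⟨hj, hx⟩ := h i hi
  have hp := hG1.simple_lt hi
  have hq := hG1.simple_lt hj
  set φ : Matrix.SpecialLinearGroup (Fin 2) F →* ↥(D.group F) :=
    θ.toMonoidHom.comp (phiG hG hp) with hφdef
  set ψ : Matrix.SpecialLinearGroup (Fin 2) F →* ↥(D.group F) := phiG hG hq with hψdef
  have hu : ∀ t, φ (upperSL t) = ψ (upperSL (f i t)) := by
    intro t
    exact eq_phiG_upper hG hq ((hx _ t).1 (phiG_upper_mat hG hp t))
  have hl : ∀ t, φ (lowerSL t) = ψ (lowerSL (g i t)) := by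
    intro t
    exact eq_phiG_lower hG hq ((hx _ t).2 (phiG_lower_mat hG hp t))
  have hψ : ∀ x y, ψ (upperSL x) = ψ (lowerSL y) → x = 0 ∧ y = 0 :=
    phiG_upper_lower hG hT h8 hq (simple_pos hG1 hT hj)
  have hφ : ∀ x y, φ (upperSL x) = φ (lowerSL y) → x = 0 ∧ y = 0 := by
    intro x y hxy
    exact phiG_upper_lower hG hT h8 hp (simple_pos hG1 hT hi) x y (θ.injective hxy)
  obtain ⟨c, σ, hcσ⟩ := sl2p_main φ ψ (f i) (g i) hu hl hφ hψ
  refine ⟨c, σ, hj, fun t => ?_, fun t => ?_, fun t ht => ?_⟩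
  · rw [← (hcσ t).1]
    exact hu t
  · rw [← (hcσ t).2]
    exact hl t
  · exact sl2p_diag' φ ψ (f i) (g i) hu hl hφ hψ c σ (fun t => (hcσ t).1) ht _

include hT h8 in
/-- The rank one analysis, for all fundamental roots. -/
theorem exists_normalAut_of_simpleAut {θ : ↥(D.group F) ≃* ↥(D.group F)} {ρ : ℕ → ℕ}
    {f g : ℕ → F → F} (h : SimpleAut θ ρ f g) :
    ∃ (c : ℕ → Fˣ) (τ : ℕ → F ≃+* F), NormalAut hG θ ρ c τ := by
  classical
  have key : ∀ i : ℕ, ∃ (c : Fˣ) (σ : F ≃+* F), ∀ hi : i < D.rank, ∃ hj : ρ i < D.rank,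
      (∀ t : F, θ (phiG hG (hG.toGood1.simple_lt hi) (upperSL t)) =
        phiG hG (hG.toGood1.simple_lt hj) (upperSL (c * σ t))) ∧
      (∀ t : F, θ (phiG hG (hG.toGood1.simple_lt hi) (lowerSL t)) =
        phiG hG (hG.toGood1.simple_lt hj) (lowerSL ((c⁻¹ : Fˣ) * σ t))) ∧
      (∀ (t : F) (ht : t ≠ 0), θ (phiG hG (hG.toGood1.simple_lt hi) (diagSL t ht)) =
        phiG hG (hG.toGood1.simple_lt hj) (diagSL (σ t) ((map_ne_zero σ).mpr ht))) := by
    intro i
    by_cases hi : i < D.rank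
    · obtain ⟨c, σ, hcσ⟩ := simpleAut_rank_one hG hT h8 h hi
      exact ⟨c, σ, fun _ => hcσ⟩
    · exact ⟨1, RingEquiv.refl F, fun hi' => absurd hi' hi⟩
  choose c τ hcτ using key
  exact ⟨c, τ, fun i hi => hcτ i hi⟩

end rankone

end Cfsg.Agent.Helper7.Chev
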