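import Mathlib
import Cfsg.Agent.Helper7.ChevAutT

set_option autoImplicit false

/-!
Further table facts for the study of the automorphisms of the Chevalley groups: the commutator formula for two
fundamental roots.
-/

namespace Cfsg.Agent.Helper7.Chev

open Cfsg Cfsg.Lie

namespace Tab

variable (T : Tab)

/-- Fundamental roots that are not joined in the diagram have commuting root elements. -/
def AdjNil : Prop :=
  AllLt T.l (fun i => AllLt T.l (fun j => i ≠ j → T.cartan i (T.simple j) = 0 →
    T.commTerms (T.simple i) (T.simple j) = []))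

instance : Decidable T.AdjNil := by unfold AdjNil; infer_instance

/-- The shape of a list of terms of the commutator formula: the first term is `(k, ±1, 1, 1)` for a positive
root `k`, and the other terms have roots of larger index. -/
def adjOK (L : List (ℕ × ℤ × ℕ × ℕ)) : Prop :=
  L ≠ [] ∧ ((L.headD (0, 0, 0, 0)).2.1 = 1 ∨ (L.headD (0, 0, 0, 0)).2.1 = -1) ∧
    (L.headD (0, 0, 0, 0)).2.2.1 = 1 ∧ (L.headD (0, 0, 0, 0)).2.2.2 = 1 ∧
    T.n / 2 ≤ (L.headD (0, 0, 0, 0)).1 ∧ (L.headD (0, 0, 0, 0)).1 < T.n ∧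
    ∀ e ∈ L.tail, (L.headD (0, 0, 0, 0)).1 < e.1 ∧ e.1 < T.n

instance (L : List (ℕ × ℤ × ℕ × ℕ)) : Decidable (T.adjOK L) := by unfold adjOK; infer_instance

/-- Fundamental roots that are joined in the diagram have a commutator formula of the shape `adjOK`. -/
def AdjComm : Prop :=
  AllLt T.l (fun i => AllLt T.l (fun j => i ≠ j → T.cartan i (T.simple j) ≠ 0 →
    T.adjOK (T.commTerms (T.simple i) (T.simple j))))

instance : Decidable T.AdjComm := by unfold AdjComm; infer_instance

/-- The Cartan integers of two distinct fundamental roots are `0`, `-1`, `-2` or `-3`, and they vanish together. -/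
def CartanOK : Prop :=
  AllLt T.l (fun i => AllLt T.l (fun j => i ≠ j →
    (T.cartan i (T.simple j) = 0 ∨ T.cartan i (T.simple j) = -1 ∨ T.cartan i (T.simple j) = -2 ∨
      T.cartan i (T.simple j) = -3) ∧ (T.cartan i (T.simple j) = 0 → T.cartan j (T.simple i) = 0)))

instance : Decidable T.CartanOK := by unfold CartanOK; infer_instance

/-- All the Cartan integers of two distinct fundamental roots are `0` or `-1`. -/
def SimplyLaced : Prop :=
  AllLt T.l (fun i => AllLt T.l (fun j => i ≠ j →
    (T.cartan i (T.simple j) = 0 ∨ T.cartan i (T.simple j) = -1)))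

instance : Decidable T.SimplyLaced := by unfold SimplyLaced; infer_instance

/-- The nodes reached from the node `0` along a list of edges. -/
def reach (es : List (ℕ × ℕ)) : List ℕ :=
  es.foldl (fun acc e => if e.1 ∈ acc then e.2 :: acc else acc) [0]

/-- The list of edges is a spanning tree of the diagram, in an order in which it grows from the node `0`. -/
def Tree (es : List (ℕ × ℕ)) : Prop :=
  (∀ e ∈ es, e.1 < T.l ∧ e.2 < T.l ∧ e.1 ≠ e.2 ∧ T.cartan e.1 (T.simple e.2) ≠ 0) ∧
    AllLt T.l (fun i => i ∈ reach es)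

instance (es : List (ℕ × ℕ)) : Decidable (T.Tree es) := by unfold Tree; infer_instance

end Tab

set_option maxRecDepth 1000000 in
set_option maxHeartbeats 0 in
theorem AdjNilfast_G2 : fastG2.AdjNil := by decide +kernel
theorem AdjNil_G2 : (tabOf chevG2).AdjNil := tab_G2 ▸ AdjNilfast_G2
set_option maxRecDepth 1000000 in
set_option maxHeartbeats 0 in
theorem AdjCommfast_G2 : fastG2.AdjComm := by decide +kernel
theorem AdjComm_G2 : (tabOf chevG2).AdjComm := tab_G2 ▸ AdjCommfast_G2
set_option maxRecDepth 1000000 in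
set_option maxHeartbeats 0 in
theorem CartanOKfast_G2 : fastG2.CartanOK := by decide +kernel
theorem CartanOK_G2 : (tabOf chevG2).CartanOK := tab_G2 ▸ CartanOKfast_G2
set_option maxRecDepth 1000000 in
set_option maxHeartbeats 0 in
theorem AdjNilfast_B2 : fastB2.AdjNil := by decide +kernel
theorem AdjNil_B2 : (tabOf chevB2).AdjNil := tab_B2 ▸ AdjNilfast_B2
set_option maxRecDepth 1000000 in
set_option maxHeartbeats 0 in
theorem AdjCommfast_B2 : fastB2.AdjComm := by decide +kernel
theorem AdjComm_B2 : (tabOf chevB2).AdjComm := tab_B2 ▸ AdjCommfast_B2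
set_option maxRecDepth 1000000 in
set_option maxHeartbeats 0 in
theorem CartanOKfast_B2 : fastB2.CartanOK := by decide +kernel
theorem CartanOK_B2 : (tabOf chevB2).CartanOK := tab_B2 ▸ CartanOKfast_B2
set_option maxRecDepth 1000000 in
set_option maxHeartbeats 0 in
theorem AdjNilfast_D4 : fastD4.AdjNil := by decide +kernel
theorem AdjNil_D4 : (tabOf chevD4).AdjNil := tab_D4 ▸ AdjNilfast_D4
set_option maxRecDepth 1000000 in
set_option maxHeartbeats 0 in
theorem AdjCommfast_D4 : fastD4.AdjComm := by decide +kernel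
theorem AdjComm_D4 : (tabOf chevD4).AdjComm := tab_D4 ▸ AdjCommfast_D4
set_option maxRecDepth 1000000 in
set_option maxHeartbeats 0 in
theorem CartanOKfast_D4 : fastD4.CartanOK := by decide +kernel
theorem CartanOK_D4 : (tabOf chevD4).CartanOK := tab_D4 ▸ CartanOKfast_D4
set_option maxRecDepth 1000000 in
set_option maxHeartbeats 0 in
theorem AdjNilfast_F4 : fastF4.AdjNil := by decide +kernel
theorem AdjNil_F4 : (tabOf chevF4).AdjNil := tab_F4 ▸ AdjNilfast_F4
set_option maxRecDepth 1000000 in
set_option maxHeartbeats 0 in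
theorem AdjCommfast_F4 : fastF4.AdjComm := by decide +kernel
theorem AdjComm_F4 : (tabOf chevF4).AdjComm := tab_F4 ▸ AdjCommfast_F4
set_option maxRecDepth 1000000 in
set_option maxHeartbeats 0 in
theorem CartanOKfast_F4 : fastF4.CartanOK := by decide +kernel
theorem CartanOK_F4 : (tabOf chevF4).CartanOK := tab_F4 ▸ CartanOKfast_F4
set_option maxRecDepth 1000000 in
set_option maxHeartbeats 0 in
theorem AdjNilfast_E6 : fastE6.AdjNil := by decide +kernel
theorem AdjNil_E6 : (tabOf chevE6).AdjNil := tab_E6 ▸ AdjNilfast_E6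
set_option maxRecDepth 1000000 in
set_option maxHeartbeats 0 in
theorem AdjCommfast_E6 : fastE6.AdjComm := by decide +kernel
theorem AdjComm_E6 : (tabOf chevE6).AdjComm := tab_E6 ▸ AdjCommfast_E6
set_option maxRecDepth 1000000 in
set_option maxHeartbeats 0 in
theorem CartanOKfast_E6 : fastE6.CartanOK := by decide +kernel
theorem CartanOK_E6 : (tabOf chevE6).CartanOK := tab_E6 ▸ CartanOKfast_E6
set_option maxRecDepth 1000000 in
set_option maxHeartbeats 0 in
theorem AdjNilfast_E7 : fastE7.AdjNil := by decide +kernel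
theorem AdjNil_E7 : (tabOf chevE7).AdjNil := tab_E7 ▸ AdjNilfast_E7
set_option maxRecDepth 1000000 in
set_option maxHeartbeats 0 in
theorem AdjCommfast_E7 : fastE7.AdjComm := by decide +kernel
theorem AdjComm_E7 : (tabOf chevE7).AdjComm := tab_E7 ▸ AdjCommfast_E7
set_option maxRecDepth 1000000 in
set_option maxHeartbeats 0 in
theorem CartanOKfast_E7 : fastE7.CartanOK := by decide +kernel
theorem CartanOK_E7 : (tabOf chevE7).CartanOK := tab_E7 ▸ CartanOKfast_E7
set_option maxRecDepth 1000000 in
set_option maxHeartbeats 0 in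
theorem AdjNilfast_E8 : fastE8.AdjNil := by decide +kernel
theorem AdjNil_E8 : (tabOf chevE8).AdjNil := tab_E8 ▸ AdjNilfast_E8
set_option maxRecDepth 1000000 in
set_option maxHeartbeats 0 in
theorem AdjCommfast_E8 : fastE8.AdjComm := by decide +kernel
theorem AdjComm_E8 : (tabOf chevE8).AdjComm := tab_E8 ▸ AdjCommfast_E8
set_option maxRecDepth 1000000 in
set_option maxHeartbeats 0 in
theorem CartanOKfast_E8 : fastE8.CartanOK := by decide +kernel
theorem CartanOK_E8 : (tabOf chevE8).CartanOK := tab_E8 ▸ CartanOKfast_E8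
set_option maxRecDepth 1000000 in
set_option maxHeartbeats 0 in
theorem SimplyLacedfast_D4 : fastD4.SimplyLaced := by decide +kernel
theorem SimplyLaced_D4 : (tabOf chevD4).SimplyLaced := tab_D4 ▸ SimplyLacedfast_D4
/-- A spanning tree of the diagram of type `D4`. -/
def treeD4 : List (ℕ × ℕ) := [(0, 1), (1, 2), (1, 3)]
set_option maxRecDepth 1000000 in
set_option maxHeartbeats 0 in
theorem Treefast_D4 : fastD4.Tree treeD4 := by decide +kernel
theorem Tree_D4 : (tabOf chevD4).Tree treeD4 := tab_D4 ▸ Treefast_D4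
set_option maxRecDepth 1000000 in
set_option maxHeartbeats 0 in
theorem SimplyLacedfast_E6 : fastE6.SimplyLaced := by decide +kernel
theorem SimplyLaced_E6 : (tabOf chevE6).SimplyLaced := tab_E6 ▸ SimplyLacedfast_E6
/-- A spanning tree of the diagram of type `E6`. -/
def treeE6 : List (ℕ × ℕ) := [(0, 2), (2, 3), (3, 1), (3, 4), (4, 5)]
set_option maxRecDepth 1000000 in
set_option maxHeartbeats 0 in
theorem Treefast_E6 : fastE6.Tree treeE6 := by decide +kernel
theorem Tree_E6 : (tabOf chevE6).Tree treeE6 := tab_E6 ▸ Treefast_E6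
set_option maxRecDepth 1000000 in
set_option maxHeartbeats 0 in
theorem SimplyLacedfast_E7 : fastE7.SimplyLaced := by decide +kernel
theorem SimplyLaced_E7 : (tabOf chevE7).SimplyLaced := tab_E7 ▸ SimplyLacedfast_E7
/-- A spanning tree of the diagram of type `E7`. -/
def treeE7 : List (ℕ × ℕ) := [(0, 2), (2, 3), (3, 1), (3, 4), (4, 5), (5, 6)]
set_option maxRecDepth 1000000 in
set_option maxHeartbeats 0 in
theorem Treefast_E7 : fastE7.Tree treeE7 := by decide +kernel
theorem Tree_E7 : (tabOf chevE7).Tree treeE7 := tab_E7 ▸ Treefast_E7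
set_option maxRecDepth 1000000 in
set_option maxHeartbeats 0 in
theorem SimplyLacedfast_E8 : fastE8.SimplyLaced := by decide +kernel
theorem SimplyLaced_E8 : (tabOf chevE8).SimplyLaced := tab_E8 ▸ SimplyLacedfast_E8
/-- A spanning tree of the diagram of type `E8`. -/
def treeE8 : List (ℕ × ℕ) := [(0, 2), (2, 3), (3, 1), (3, 4), (4, 5), (5, 6), (6, 7)]
set_option maxRecDepth 1000000 in
set_option maxHeartbeats 0 in
theorem Treefast_E8 : fastE8.Tree treeE8 := by decide +kernel
theorem Tree_E8 : (tabOf chevE8).Tree treeE8 := tab_E8 ▸ Treefast_E8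

theorem adjNil_of_mem (D : ChevalleyDatum)
    (hD : D ∈ [chevG2, chevB2, chevD4, chevF4, chevE6, chevE7, chevE8]) :
    (tabOf D).AdjNil :=
  chev_cases (p := fun D => (tabOf D).AdjNil) D hD AdjNil_G2 AdjNil_B2 AdjNil_D4
    AdjNil_F4 AdjNil_E6 AdjNil_E7 AdjNil_E8

theorem adjComm_of_mem (D : ChevalleyDatum)
    (hD : D ∈ [chevG2, chevB2, chevD4, chevF4, chevE6, chevE7, chevE8]) :
    (tabOf D).AdjComm :=
  chev_cases (p := fun D => (tabOf D).AdjComm) D hD AdjComm_G2 AdjComm_B2 AdjComm_D4
    AdjComm_F4 AdjComm_E6 AdjComm_E7 AdjComm_E8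

theorem cartanOK_of_mem (D : ChevalleyDatum)
    (hD : D ∈ [chevG2, chevB2, chevD4, chevF4, chevE6, chevE7, chevE8]) :
    (tabOf D).CartanOK :=
  chev_cases (p := fun D => (tabOf D).CartanOK) D hD CartanOK_G2 CartanOK_B2 CartanOK_D4
    CartanOK_F4 CartanOK_E6 CartanOK_E7 CartanOK_E8

set_option maxRecDepth 1000000 in
set_option maxHeartbeats 0 in
theorem isLong_D4 : ∀ j : Fin chevD4.rank, chevD4.isLong (chevD4.simple j) = false := by
  decide +kernel

set_option maxRecDepth 1000000 in
set_option maxHeartbeats 0 in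
theorem isLong_E7 : ∀ j : Fin chevE7.rank, chevE7.isLong (chevE7.simple j) = false := by
  decide +kernel

set_option maxRecDepth 1000000 in
set_option maxHeartbeats 0 in
theorem isLong_E8 : ∀ j : Fin chevE8.rank, chevE8.isLong (chevE8.simple j) = false := by
  decide +kernel

set_option maxRecDepth 1000000 in
set_option maxHeartbeats 0 in
theorem isLongSimple_E6 : ∀ j : Fin chevE6.rank, chevE6.isLong (chevE6.simple j) = false := by
  decide +kernel

end Cfsg.Agent.Helper7.Chev
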