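import Mathlib
import Cfsg.Agent.Helper7.ChevAutD
import Cfsg.Agent.Helper7.ChevAutT2

set_option autoImplicit false
set_option linter.unusedSectionVars false
set_option linter.unusedVariables false
set_option linter.style.haveILetI false

/-!
Automorphisms of a Chevalley group over a finite field, part E: consequences of the normal form on the
fundamental root elements.  The permutation `ρ` of the nodes is injective and preserves the relation of being
joined in the diagram, and the field automorphisms `τ_i` are related through the action of the torus.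
-/

namespace Cfsg.Agent.Helper7.Chev

open Cfsg Cfsg.Lie Matrix
open scoped Pointwise

variable {D : ChevalleyDatum} {F : Type*} [Field F]

section adj

variable (hG3 : Good3 D) (hT : T0 D) (h8 : (tabOf D).T8)

include hG3 hT in
/-- Root elements of two fundamental roots not joined in the diagram commute. -/
theorem simple_nonadj_commute (hAN : (tabOf D).AdjNil) {i j : ℕ} (hi : i < D.rank) (hj : j < D.rank)
    (hij : i ≠ j) (hc : D.cartan i (D.simple j) = 0) (t u : F) :
    xGL hG3.toGood2.toGood1 (hG3.toGood2.toGood1.simple_lt hi) t *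
      xGL hG3.toGood2.toGood1 (hG3.toGood2.toGood1.simple_lt hj) u =
    xGL hG3.toGood2.toGood1 (hG3.toGood2.toGood1.simple_lt hj) u *
      xGL hG3.toGood2.toGood1 (hG3.toGood2.toGood1.simple_lt hi) t := by
  have hG := hG3.toGood2
  have hG1 := hG.toGood1
  have hpa := hG1.simple_lt hi
  have hpb := hG1.simple_lt hj
  have hne : D.simple j ≠ D.simple i := by
    intro h
    have h1 := hG1.cr_simple hi hi
    have h2 := hG1.cr_simple hj hi
    rw [← h, h2, if_pos rfl, if_neg hij] at h1
    exact zero_ne_one h1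
  have hsn : D.simple j ≠ D.neg (D.simple i) := by
    intro h
    have h1 := neg_neg_of_pos hG hT hpa (simple_pos hG1 hT hi)
    have h2 := simple_pos hG1 hT hj
    omega
  have hcm := hG3.comm (F := F) hpa hpb hne hsn t u
  have hnil : D.commWord F (D.simple i) (D.simple j) t u = [] := by
    unfold ChevalleyDatum.commWord
    have := hAN i hi j hj hij hc
    rw [show D.commTerms (D.simple i) (D.simple j) =
      (tabOf D).commTerms (D.simple i) (D.simple j) from (commTerms_eq D _ _).symm]
    rw [show (tabOf D).commTerms (D.simple i) (D.simple j) = [] from this]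
    rfl
  rw [hnil, wordMat_nil, mul_one] at hcm
  apply Units.ext
  simp only [Units.val_mul, xGL_coe]
  exact hcm.symm

include hG3 hT h8 in
/-- Root elements of two fundamental roots joined in the diagram do not commute. -/
theorem simple_adj_not_commute (hAC : (tabOf D).AdjComm) {i j : ℕ} (hi : i < D.rank)
    (hj : j < D.rank) (hij : i ≠ j) (hc : D.cartan i (D.simple j) ≠ 0) :
    xGL hG3.toGood2.toGood1 (hG3.toGood2.toGood1.simple_lt hi) (1 : F) *
      xGL hG3.toGood2.toGood1 (hG3.toGood2.toGood1.simple_lt hj) 1 ≠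
    xGL hG3.toGood2.toGood1 (hG3.toGood2.toGood1.simple_lt hj) 1 *
      xGL hG3.toGood2.toGood1 (hG3.toGood2.toGood1.simple_lt hi) 1 := by
  have hG := hG3.toGood2
  have hG1 := hG.toGood1
  have hpa := hG1.simple_lt hi
  have hpb := hG1.simple_lt hj
  have hne : D.simple j ≠ D.simple i := by
    intro h
    have h1 := hG1.cr_simple hi hi
    have h2 := hG1.cr_simple hj hi
    rw [← h, h2, if_pos rfl, if_neg hij] at h1
    exact zero_ne_one h1
  have hsn : D.simple j ≠ D.neg (D.simple i) := by
    intro h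
    have h1 := neg_neg_of_pos hG hT hpa (simple_pos hG1 hT hi)
    have h2 := simple_pos hG1 hT hj
    omega
  intro hcomm
  have hcm := hG3.comm (F := F) hpa hpb hne hsn 1 1
  set L := (tabOf D).commTerms (D.simple i) (D.simple j) with hLdef
  have hAC' : L ≠ [] ∧ ((L.headD (0, 0, 0, 0)).2.1 = 1 ∨ (L.headD (0, 0, 0, 0)).2.1 = -1) ∧
    (L.headD (0, 0, 0, 0)).2.2.1 = 1 ∧ (L.headD (0, 0, 0, 0)).2.2.2 = 1 ∧
    D.nroots / 2 ≤ (L.headD (0, 0, 0, 0)).1 ∧ (L.headD (0, 0, 0, 0)).1 < D.nroots ∧
    ∀ e ∈ L.tail, (L.headD (0, 0, 0, 0)).1 < e.1 ∧ e.1 < D.nroots := hAC i hi j hj hij hc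
  obtain ⟨hL, hsign, ha, hb, hk1, hk, hrest⟩ := hAC'
  have hLeq : D.commTerms (D.simple i) (D.simple j) = L.headD (0, 0, 0, 0) :: L.tail := by
    rw [← commTerms_eq D _ _]
    change L = _
    cases hL' : L with
    | nil => exact absurd hL' hL
    | cons e rest => rfl
  set e := L.headD (0, 0, 0, 0) with hedef
  set cf : F := (e.2.1 : F) * (-1) ^ e.2.2.1 * 1 ^ e.2.2.2 with hcf
  set rest : List (ℕ × F) :=
    L.tail.map (fun c => (c.1, (c.2.1 : F) * (-1) ^ c.2.2.1 * 1 ^ c.2.2.2)) with hrestdef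
  have hword : D.commWord F (D.simple i) (D.simple j) 1 1 = (e.1, cf) :: rest := by
    unfold ChevalleyDatum.commWord
    rw [hLeq, List.map_cons]
  rw [hword, wordMat_cons] at hcm
  -- the rest of the word lies in `Uge (k + 1)`
  set R : GL D.Idx F := (rest.map (xGL' hG1)).prod with hR
  have hRmem : R ∈ Uge D F (e.1 + 1) := by
    apply Subgroup.list_prod_mem
    intro x hx
    rw [List.mem_map] at hx
    obtain ⟨p, hp, rfl⟩ := hx
    rw [hrestdef, List.mem_map] at hp
    obtain ⟨c, hc', rfl⟩ := hp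
    obtain ⟨h1, h2⟩ := hrest c hc'
    apply Subgroup.subset_closure
    refine ⟨c.1, _, h1, h2, xGL'_coe hG1 _⟩
  have hRcoe : (R : Matrix D.Idx D.Idx F) = D.wordMat F rest := wordGL_coe hG1 rest
  have hGL : xGL hG1 hpb (1 : F) * xGL hG1 hpa 1 =
      xGL hG1 hpa 1 * xGL hG1 hpb 1 * (xGL hG1 hk cf * R) := by
    apply Units.ext
    simp only [Units.val_mul, xGL_coe, hRcoe]
    exact hcm
  rw [← hcomm] at hGL
  have h1 : xGL hG1 hk cf * R = 1 := by
    have := hGL
    nth_rw 1 [← mul_one (xGL hG1 hpa (1 : F) * xGL hG1 hpb 1)] at this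
    exact (mul_left_cancel this).symm
  have h2 : xGL hG1 hk cf ∈ Uge D F (e.1 + 1) := by
    rw [eq_inv_of_mul_eq_one_left h1]
    exact inv_mem hRmem
  have h3 := eq_zero_of_xGL_mem_Uge hG hT h8 hk1 hk h2
  have hcf0 : cf ≠ 0 := by
    rw [hcf, ha, hb]
    rcases hsign with h | h <;> rw [h] <;> simp
  exact hcf0 h3

end adj

/-- Conjugation of a root element by a diagonal element, in the group. -/
theorem phiG_diag_mul_upper (hG : Good2 D) {r s : ℕ} (hr : r < D.nroots) (hs : s < D.nroots) {c : F}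
    (hc : c ≠ 0) (t : F) :
    phiG hG hr (diagSL c hc) * phiG hG hs (upperSL t) =
      phiG hG hs (upperSL (c ^ (tabOf D).pairing r s * t)) * phiG hG hr (diagSL c hc) := by
  apply Subtype.ext
  apply Units.ext
  rw [Subgroup.coe_mul, Subgroup.coe_mul, Units.val_mul, Units.val_mul, phiG_upper_mat, phiG_upper_mat,
    phiG_diag, hGL_coe]
  exact hMat_mul_x hG hr hc hs t

section normal

variable (hG3 : Good3 D) (hT : T0 D) (h8 : (tabOf D).T8) (hSC : (tabOf D).SimpleComm)
  (hAN : (tabOf D).AdjNil) (hAC : (tabOf D).AdjComm)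
  {θ : ↥(D.group F) ≃* ↥(D.group F)} {ρ : ℕ → ℕ} {c : ℕ → Fˣ} {τ : ℕ → F ≃+* F}
  (h : NormalAut hG3.toGood2 θ ρ c τ) [Fintype F]

include hG3 hT h8 hSC h in
/-- The map `ρ` is injective on the nodes. -/
theorem normalAut_inj {i j : ℕ} (hi : i < D.rank) (hj : j < D.rank) (hρ : ρ i = ρ j) : i = j := by
  have hG := hG3.toGood2
  have hG1 := hG.toGood1
  by_contra hij
  obtain ⟨hi', hu_i, hl_i, -⟩ := h i hi
  obtain ⟨hj', hu_j, hl_j, -⟩ := h j hj
  set t : F := (τ i).symm ((c i)⁻¹ : Fˣ) with ht
  set u : F := (τ j).symm (c j) with hu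
  have e1 : (c i : F) * τ i t = 1 := by
    rw [ht, RingEquiv.apply_symm_apply, ← Units.val_mul, mul_inv_cancel, Units.val_one]
  have e2 : (((c j)⁻¹ : Fˣ) : F) * τ j u = 1 := by
    rw [hu, RingEquiv.apply_symm_apply, ← Units.val_mul, inv_mul_cancel, Units.val_one]
  have hcomm : phiG hG (hG1.simple_lt hi) (upperSL t) * phiG hG (hG1.simple_lt hj) (lowerSL u) =
      phiG hG (hG1.simple_lt hj) (lowerSL u) * phiG hG (hG1.simple_lt hi) (upperSL t) := by
    apply Subtype.ext
    rw [Subgroup.coe_mul, Subgroup.coe_mul, phiG_upper, phiG_lower]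
    exact simple_commute hG3 hT hSC hi hj hij t u
  have hcomm' := congrArg θ hcomm
  rw [map_mul, map_mul, hu_i, hl_j, e1, e2] at hcomm'
  have hcomm'' := congrArg Subtype.val hcomm'
  rw [Subgroup.coe_mul, Subgroup.coe_mul, phiG_upper, phiG_lower,
    xGL_congr' hG1 (by rw [hρ]) (hG1.simple_lt hi') (hG1.simple_lt hj') 1] at hcomm''
  exact simple_not_commute hG3 hT h8 hj' hcomm''

include hG3 hT h8 h in
/-- The relation between the field automorphisms given by the action of the torus. -/
theorem normalAut_torus {i j : ℕ} (hi : i < D.rank) (hj : j < D.rank) {t : F} (ht : t ≠ 0) :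
    (τ i t) ^ (D.cartan (ρ i) (D.simple (ρ j))) = (τ j t) ^ (D.cartan i (D.simple j)) := by
  have hG := hG3.toGood2
  have hG1 := hG.toGood1
  obtain ⟨hi', -, -, hd_i⟩ := h i hi
  obtain ⟨hj', hu_j, -, -⟩ := h j hj
  have hτt : τ i t ≠ 0 := (map_ne_zero (τ i)).mpr ht
  have hrel := phiG_diag_mul_upper hG (hG1.simple_lt hi) (hG1.simple_lt hj) ht (1 : F)
  have hrel' := congrArg θ hrel
  rw [map_mul, map_mul, hd_i t ht, hu_j, hu_j,
    phiG_diag_mul_upper hG (hG1.simple_lt hi') (hG1.simple_lt hj') hτt, mul_left_inj] at hrel'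
  have hψ := phiG_upper_lower (F := F) hG hT h8 (hG1.simple_lt hj') (simple_pos hG1 hT hj')
  have h1 := sl2p_upper_inj (phiG hG (hG1.simple_lt hj')) hψ hrel'
  rw [pairing_simple hG1 hi', pairing_simple hG1 hi, map_one, mul_one, mul_one, map_zpow₀,
    mul_comm] at h1
  exact mul_left_cancel₀ (c j).ne_zero h1

include hG3 hT h8 hSC hAN hAC h in
/-- The map `ρ` preserves the relation of being joined in the diagram. -/
theorem normalAut_adj {i j : ℕ} (hi : i < D.rank) (hj : j < D.rank) (hij : i ≠ j) :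
    D.cartan i (D.simple j) = 0 ↔ D.cartan (ρ i) (D.simple (ρ j)) = 0 := by
  have hG := hG3.toGood2
  have hG1 := hG.toGood1
  have hρij : ρ i ≠ ρ j := fun hρ => hij (normalAut_inj hG3 hT h8 hSC h hi hj hρ)
  obtain ⟨hi', hu_i, -, -⟩ := h i hi
  obtain ⟨hj', hu_j, -, -⟩ := h j hj
  constructor
  · intro h0
    by_contra hne
    set t : F := (τ i).symm ((c i)⁻¹ : Fˣ) with ht
    set u : F := (τ j).symm ((c j)⁻¹ : Fˣ) with hu
    have e1 : (c i : F) * τ i t = 1 := by
      rw [ht, RingEquiv.apply_symm_apply, ← Units.val_mul, mul_inv_cancel, Units.val_one]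
    have e2 : (c j : F) * τ j u = 1 := by
      rw [hu, RingEquiv.apply_symm_apply, ← Units.val_mul, mul_inv_cancel, Units.val_one]
    have hcomm : phiG hG (hG1.simple_lt hi) (upperSL t) * phiG hG (hG1.simple_lt hj) (upperSL u) =
        phiG hG (hG1.simple_lt hj) (upperSL u) * phiG hG (hG1.simple_lt hi) (upperSL t) := by
      apply Subtype.ext
      rw [Subgroup.coe_mul, Subgroup.coe_mul, phiG_upper, phiG_upper]
      exact simple_nonadj_commute hG3 hT hAN hi hj hij h0 t u
    have hcomm' := congrArg θ hcomm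
    rw [map_mul, map_mul, hu_i, hu_j, e1, e2] at hcomm'
    have hcomm'' := congrArg Subtype.val hcomm'
    rw [Subgroup.coe_mul, Subgroup.coe_mul, phiG_upper, phiG_upper] at hcomm''
    exact simple_adj_not_commute hG3 hT h8 hAC hi' hj' hρij hne hcomm''
  · intro h0
    by_contra hne
    have hcomm : phiG hG (hG1.simple_lt hi') (upperSL ((c i : F) * τ i 1)) *
        phiG hG (hG1.simple_lt hj') (upperSL ((c j : F) * τ j 1)) =
        phiG hG (hG1.simple_lt hj') (upperSL ((c j : F) * τ j 1)) *
          phiG hG (hG1.simple_lt hi') (upperSL ((c i : F) * τ i 1)) := by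
      apply Subtype.ext
      rw [Subgroup.coe_mul, Subgroup.coe_mul, phiG_upper, phiG_upper]
      exact simple_nonadj_commute hG3 hT hAN hi' hj' hρij h0 _ _
    rw [← hu_i, ← hu_j, ← map_mul, ← map_mul] at hcomm
    have hcomm' := θ.injective hcomm
    have hcomm'' := congrArg Subtype.val hcomm'
    rw [Subgroup.coe_mul, Subgroup.coe_mul, phiG_upper, phiG_upper] at hcomm''
    exact simple_adj_not_commute hG3 hT h8 hAC hi hj hij hne hcomm''

end normal

end Cfsg.Agent.Helper7.Chev
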