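import Mathlib
import Cfsg.Agent.Helper7.ChevPerfect
import Cfsg.Agent.Helper7.ChevBN
import Cfsg.Agent.Helper7.ChevPara

set_option autoImplicit false
set_option linter.unusedSectionVars false
set_option linter.unusedVariables false

/-!
Generation of a Chevalley group by the monomial subgroup and one or two fundamental root subgroups, from
certificates on the tables: lists of words mapping a base root to the roots of its orbit, and commutator formulas with
a single term for the other roots.
-/

namespace Cfsg.Agent.Helper7.Chev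

open Cfsg Cfsg.Lie Matrix

namespace Tab

variable (T : Tab)

/-- The word listed at `r` maps the base root to `r`. -/
def InOrb (base : ℕ) (W : List (List ℕ)) (r : ℕ) : Prop :=
  (∀ i ∈ W.getD r [], i < T.l) ∧ T.reflWord (W.getD r []) base = r

instance (base : ℕ) (W : List (List ℕ)) (r : ℕ) : Decidable (T.InOrb base W r) := by
  unfold InOrb; infer_instance

/-- Every root is in the orbit of the base root, or is the single term of the commutator formula of two roots of
the orbit, with constant `± k`. -/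
def GenCert (base : ℕ) (W : List (List ℕ)) (C : List (ℕ × ℕ × ℤ)) (k : ℤ) : Prop :=
  ∀ q < T.n, T.InOrb base W q ∨
    (T.SingleTerm q (C.getD q (0, 0, 0)).1 (C.getD q (0, 0, 0)).2.1 (C.getD q (0, 0, 0)).2.2 ∧
      ((C.getD q (0, 0, 0)).2.2 = k ∨ (C.getD q (0, 0, 0)).2.2 = -k) ∧
      T.InOrb base W (C.getD q (0, 0, 0)).1 ∧ T.InOrb base W (C.getD q (0, 0, 0)).2.1)

instance (base : ℕ) (W : List (List ℕ)) (C : List (ℕ × ℕ × ℤ)) (k : ℤ) : Decidable (T.GenCert base W C k) := by
  unfold GenCert; infer_instance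

/-- Every root is in the orbit of one of two base roots. -/
def GenCert2 (a b : ℕ) (Wa Wb : List (List ℕ)) : Prop :=
  ∀ q < T.n, T.InOrb a Wa q ∨ T.InOrb b Wb q

instance (a b : ℕ) (Wa Wb : List (List ℕ)) : Decidable (T.GenCert2 a b Wa Wb) := by
  unfold GenCert2; infer_instance

end Tab

variable {D : ChevalleyDatum} {F : Type*} [Field F]

section gen

variable (hG : Good2 D) (M : Subgroup (GL D.Idx F))

/-- The root elements of the root `r` lie in `M`. -/
def InM (r : ℕ) : Prop := ∃ hr : r < D.nroots, ∀ t : F, xGL hG.toGood1 hr t ∈ M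

variable {M}

theorem inM_of_rootSubgroup_le {r : ℕ} (hr : r < D.nroots) (h : D.rootSubgroup F r ≤ M) : InM hG M r :=
  ⟨hr, fun t => h (Subgroup.subset_closure ⟨t, xGL_coe hG.toGood1 hr t⟩)⟩

variable (hN : D.monomialSubgroup F ≤ M)

include hN in
/-- The roots with root elements in `M` are stable under the Weyl group. -/
theorem inM_reflWord {w : List ℕ} (hw : ∀ i ∈ w, i < D.rank) {s : ℕ} (hs : InM hG M s) :
    InM hG M ((tabOf D).reflWord w s) := by
  obtain ⟨hs', h⟩ := hs
  refine ⟨reflWord_lt hG hw hs', fun t => ?_⟩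
  have hn : (nWordGL hG w : GL D.Idx F) ∈ M := hN (nWordGL_mem hG w)
  have e := nWordGL_conj (F := F) hG hw hs' ((((tabOf D).etaWord w s : ℤ) : F) * t)
  rw [← mul_assoc, etaWord_cast_mul_self hG hw hs', one_mul] at e
  rw [← e]
  exact mul_mem (mul_mem hn (h _)) (inv_mem hn)

include hN in
theorem inM_of_reflWord {w : List ℕ} (hw : ∀ i ∈ w, i < D.rank) {s : ℕ} (hs : s < D.nroots)
    (h : InM hG M ((tabOf D).reflWord w s)) : InM hG M s := by
  have hrev : ∀ i ∈ w.reverse, i < D.rank := fun i hi => hw i (List.mem_reverse.mp hi)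
  have := inM_reflWord hG hN hrev h
  have e : (tabOf D).reflWord w.reverse ((tabOf D).reflWord w s) = s := reflWord_reverse hG hw hs
  rwa [e] at this

/-- The single term of a commutator formula with invertible constant. -/
theorem inM_of_singleTerm {q r s : ℕ} {c : ℤ}
    (hst : (tabOf D).SingleTerm q r s c) (hcomm : Comm D F r s) (hc : (c : F) ≠ 0)
    (hq : q < D.nroots) (hr : InM hG M r) (hs : InM hG M s) : InM hG M q := by
  have hG1 := hG.toGood1
  obtain ⟨hr', hrM⟩ := hr
  obtain ⟨hs', hsM⟩ := hs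
  refine ⟨hq, fun t' => ?_⟩
  obtain ⟨_, _, hsr, hsn, hct⟩ := hst
  set t : F := -(c : F)⁻¹ * t' with ht
  have hW : D.commWord F r s t 1 = [(q, t')] := by
    rw [commWord_eq]
    unfold Tab.commMono
    rw [hct]
    simp only [List.map_cons, List.map_nil, Mono.eval]
    congr 2
    rw [ht]
    push_cast
    field_simp
  have hf := hcomm t 1
  rw [hW, wordMat_cons, wordMat_nil, mul_one] at hf
  have e1 : xGL hG1 hs' (1 : F) * xGL hG1 hr' t =
      xGL hG1 hr' t * xGL hG1 hs' 1 * xGL hG1 hq t' := by
    apply Units.ext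
    rw [Units.val_mul, Units.val_mul, Units.val_mul, xGL_coe, xGL_coe, xGL_coe]
    exact hf
  have e2 : xGL hG1 hq t' = (xGL hG1 hr' t * xGL hG1 hs' 1)⁻¹ *
      (xGL hG1 hs' (1 : F) * xGL hG1 hr' t) := by
    rw [e1]; group
  rw [e2]
  exact mul_mem (inv_mem (mul_mem (hrM _) (hsM _))) (mul_mem (hsM _) (hrM _))

/-- A subgroup containing all the root elements contains the group. -/
theorem group_le_of_inM (h : ∀ q < D.nroots, InM hG M q) : D.group F ≤ M := by
  unfold ChevalleyDatum.group
  rw [Subgroup.closure_le]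
  rintro x ⟨r, t, hx⟩
  obtain ⟨_, hM⟩ := h r.val r.2
  have e : x = xGL hG.toGood1 r.2 t := by
    apply Units.ext
    rw [hx, xGL_coe, x_of_lt D F r.2]
  rw [e]
  exact hM t

variable (hcomm : ∀ r s, r < D.nroots → s < D.nroots → s ≠ r → s ≠ D.neg r → Comm D F r s)

include hN in
theorem inM_of_inOrb {base : ℕ} {W : List (List ℕ)} (hb : InM hG M base) {r : ℕ}
    (h : (tabOf D).InOrb base W r) : InM hG M r := by
  obtain ⟨hw, e⟩ := h
  rw [← e]
  exact inM_reflWord hG hN hw hb

include hN hcomm in
/-- All the root elements lie in `M` as soon as those of the base root do. -/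
theorem inM_of_genCert {base : ℕ} {W : List (List ℕ)} {C : List (ℕ × ℕ × ℤ)} {k : ℤ}
    (cert : (tabOf D).GenCert base W C k) (hk : (k : F) ≠ 0) (hb : InM hG M base) :
    ∀ q < D.nroots, InM hG M q := by
  intro q hq
  rcases cert q hq with h | ⟨hst, hc, hr, hs⟩
  · exact inM_of_inOrb hG hN hb h
  · have hst' := hst
    obtain ⟨hr', hs', hsr, hsn, _⟩ := hst'
    refine inM_of_singleTerm hG hst (hcomm _ _ hr' hs' hsr hsn) ?_ hq
      (inM_of_inOrb hG hN hb hr) (inM_of_inOrb hG hN hb hs)
    rcases hc with hc | hc <;> rw [hc]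
    · exact hk
    · rw [Int.cast_neg]; exact neg_ne_zero.mpr hk

include hN hcomm in
/-- Generation by `N` and the root subgroup of a fundamental root in the orbit of the base root. -/
theorem group_le_of_genCert {base : ℕ} {W : List (List ℕ)} {C : List (ℕ × ℕ × ℤ)} {k : ℤ}
    (cert : (tabOf D).GenCert base W C k) (hk : (k : F) ≠ 0) (hbase : base < D.nroots) {p : ℕ}
    (hp : (tabOf D).InOrb base W p) (hpM : InM hG M p) : D.group F ≤ M := by
  apply group_le_of_inM hG
  apply inM_of_genCert hG hN hcomm cert hk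
  obtain ⟨hw, e⟩ := hp
  rw [← e] at hpM
  exact inM_of_reflWord hG hN hw hbase hpM

include hN in
/-- Generation by `N` and the root subgroups of two fundamental roots. -/
theorem group_le_of_genCert2 {a b : ℕ} {Wa Wb : List (List ℕ)}
    (cert : (tabOf D).GenCert2 a b Wa Wb) (ha : a < D.nroots) (hb : b < D.nroots) {p p' : ℕ}
    (hp : (tabOf D).InOrb a Wa p) (hp' : (tabOf D).InOrb b Wb p') (hpM : InM hG M p) (hpM' : InM hG M p') :
    D.group F ≤ M := by
  apply group_le_of_inM hG
  have haM : InM hG M a := by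
    obtain ⟨hw, e⟩ := hp
    rw [← e] at hpM
    exact inM_of_reflWord hG hN hw ha hpM
  have hbM : InM hG M b := by
    obtain ⟨hw, e⟩ := hp'
    rw [← e] at hpM'
    exact inM_of_reflWord hG hN hw hb hpM'
  intro q hq
  rcases cert q hq with h | h
  · exact inM_of_inOrb hG hN haM h
  · exact inM_of_inOrb hG hN hbM h

end gen

end Cfsg.Agent.Helper7.Chev
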