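import Mathlib
import Cfsg.Agent.Helper7.ChevGen
import Cfsg.Agent.Helper7.ChevCodes
import Cfsg.Agent.Helper7.ChevTabG2
import Cfsg.Agent.Helper7.ChevTabB2
import Cfsg.Agent.Helper7.ChevTabD4
import Cfsg.Agent.Helper7.ChevTabF4
import Cfsg.Agent.Helper7.ChevTabE6
import Cfsg.Agent.Helper7.ChevTabE7
import Cfsg.Agent.Helper7.ChevTabE8

set_option autoImplicit false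
set_option maxRecDepth 100000

/-!
Certificates for the generation of the Chevalley groups by the monomial subgroup and fundamental root subgroups.
-/

namespace Cfsg.Agent.Helper7.Chev

open Cfsg Cfsg.Lie

def gW_G2 : List (List ℕ) :=
  [[0, 0, 0, 0, 0, 0, 0, 0, 0], [0, 0, 0, 0, 0, 0, 0, 0, 0], [0, 1, 0], [1, 0], [0],
  [0, 0, 0, 0, 0, 0, 0, 0, 0], [0, 0, 0, 0, 0, 0, 0, 0, 0], [], [1], [0, 1], [0, 0, 0, 0, 0, 0, 0, 0, 0],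
  [0, 0, 0, 0, 0, 0, 0, 0, 0]]

def gC_G2 : List (ℕ × ℕ × ℤ) :=
  [(2, (3, 3)), (2, (4, 3)), (0, (0, 0)), (0, (0, 0)), (0, (0, 0)), (3, (7, -3)), (4, (8, -3)),
  (0, (0, 0)), (0, (0, 0)), (0, (0, 0)), (7, (9, 3)), (8, (9, 3))]

theorem genCert_G2_fast : fastG2.GenCert 7 gW_G2 gC_G2 3 := by decide +kernel

theorem genCert_G2 : (tabOf chevG2).GenCert 7 gW_G2 gC_G2 3 := tab_G2 ▸ genCert_G2_fast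

theorem genOrb_G2_fast : ∀ i ∈ [0], fastG2.InOrb 7 gW_G2 (fastG2.simple i) := by decide +kernel

theorem genOrb_G2 : ∀ i ∈ [0], (tabOf chevG2).InOrb 7 gW_G2 ((tabOf chevG2).simple i) :=
  tab_G2 ▸ genOrb_G2_fast

def gW_B2 : List (List ℕ) :=
  [[0, 0, 0, 0, 0, 0, 0, 0, 0], [1, 0], [0], [0, 0, 0, 0, 0, 0, 0, 0, 0], [0, 0, 0, 0, 0, 0, 0, 0, 0], [],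
  [1], [0, 0, 0, 0, 0, 0, 0, 0, 0]]

def gC_B2 : List (ℕ × ℕ × ℤ) :=
  [(1, (2, 2)), (0, (0, 0)), (0, (0, 0)), (1, (5, -2)), (2, (6, -2)), (0, (0, 0)), (0, (0, 0)),
  (5, (6, 2))]

theorem genCert_B2_fast : fastB2.GenCert 5 gW_B2 gC_B2 2 := by decide +kernel

theorem genCert_B2 : (tabOf chevB2).GenCert 5 gW_B2 gC_B2 2 := tab_B2 ▸ genCert_B2_fast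

theorem genOrb_B2_fast : ∀ i ∈ [0], fastB2.InOrb 5 gW_B2 (fastB2.simple i) := by decide +kernel

theorem genOrb_B2 : ∀ i ∈ [0], (tabOf chevB2).InOrb 5 gW_B2 ((tabOf chevB2).simple i) :=
  tab_B2 ▸ genOrb_B2_fast

def gW_D4 : List (List ℕ) :=
  [[1, 3, 2, 1, 0], [3, 2, 1, 0], [2, 1, 0], [3, 1, 0], [1, 0], [0], [3, 2, 0, 1, 0], [2, 0, 1, 0],
  [3, 0, 1, 0], [0, 1, 0], [1, 2, 0, 1, 0], [1, 3, 0, 1, 0], [1, 3, 0, 1], [1, 2, 0, 1], [0, 1],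
  [3, 0, 1], [2, 0, 1], [3, 2, 0, 1], [], [1], [3, 1], [2, 1], [3, 2, 1], [1, 3, 2, 1]]

def gC_D4 : List (ℕ × ℕ × ℤ) := []

theorem genCert_D4_fast : fastD4.GenCert 18 gW_D4 gC_D4 1 := by decide +kernel

theorem genCert_D4 : (tabOf chevD4).GenCert 18 gW_D4 gC_D4 1 := tab_D4 ▸ genCert_D4_fast

theorem genOrb_D4_fast : ∀ i ∈ [0, 1, 2, 3], fastD4.InOrb 18 gW_D4 (fastD4.simple i) := by decide +kernel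

theorem genOrb_D4 : ∀ i ∈ [0, 1, 2, 3], (tabOf chevD4).InOrb 18 gW_D4 ((tabOf chevD4).simple i) :=
  tab_D4 ▸ genOrb_D4_fast

def gW_F4 : List (List ℕ) :=
  [[0, 0, 0, 0, 0, 0, 0, 0, 0], [0, 0, 0, 0, 0, 0, 0, 0, 0], [0, 0, 0, 0, 0, 0, 0, 0, 0],
  [0, 1, 2, 3, 1, 2, 1, 0], [0, 0, 0, 0, 0, 0, 0, 0, 0], [0, 0, 0, 0, 0, 0, 0, 0, 0],
  [0, 0, 0, 0, 0, 0, 0, 0, 0], [1, 2, 3, 1, 2, 1, 0], [2, 3, 1, 2, 1, 0], [3, 1, 2, 1, 0], [1, 2, 1, 0],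
  [3, 2, 1, 0], [2, 1, 0], [1, 0], [0], [0, 0, 0, 0, 0, 0, 0, 0, 0], [0, 0, 0, 0, 0, 0, 0, 0, 0],
  [0, 0, 0, 0, 0, 0, 0, 0, 0], [3, 2, 0, 1, 0], [2, 0, 1, 0], [0, 1, 0], [0, 0, 0, 0, 0, 0, 0, 0, 0],
  [0, 0, 0, 0, 0, 0, 0, 0, 0], [0, 0, 0, 0, 0, 0, 0, 0, 0], [0, 0, 0, 0, 0, 0, 0, 0, 0],
  [0, 0, 0, 0, 0, 0, 0, 0, 0], [0, 0, 0, 0, 0, 0, 0, 0, 0], [0, 1], [2, 0, 1], [3, 2, 0, 1],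
  [0, 0, 0, 0, 0, 0, 0, 0, 0], [0, 0, 0, 0, 0, 0, 0, 0, 0], [0, 0, 0, 0, 0, 0, 0, 0, 0], [], [1], [2, 1],
  [3, 2, 1], [1, 2, 1], [3, 1, 2, 1], [2, 3, 1, 2, 1], [1, 2, 3, 1, 2, 1], [0, 0, 0, 0, 0, 0, 0, 0, 0],
  [0, 0, 0, 0, 0, 0, 0, 0, 0], [0, 0, 0, 0, 0, 0, 0, 0, 0], [0, 1, 2, 3, 1, 2, 1],
  [0, 0, 0, 0, 0, 0, 0, 0, 0], [0, 0, 0, 0, 0, 0, 0, 0, 0], [0, 0, 0, 0, 0, 0, 0, 0, 0]]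

def gC_F4 : List (ℕ × ℕ × ℤ) :=
  [(3, (18, 2)), (3, (19, 2)), (3, (20, 2)), (0, (0, 0)), (3, (27, 2)), (3, (28, -2)), (3, (29, 2)),
  (0, (0, 0)), (0, (0, 0)), (0, (0, 0)), (0, (0, 0)), (0, (0, 0)), (0, (0, 0)), (0, (0, 0)), (0, (0, 0)),
  (7, (34, -2)), (7, (35, 2)), (7, (36, -2)), (0, (0, 0)), (0, (0, 0)), (0, (0, 0)), (8, (37, 2)),
  (8, (38, -2)), (9, (37, -2)), (10, (38, -2)), (9, (39, -2)), (10, (39, 2)), (0, (0, 0)), (0, (0, 0)),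
  (0, (0, 0)), (11, (40, -2)), (12, (40, 2)), (13, (40, -2)), (0, (0, 0)), (0, (0, 0)), (0, (0, 0)),
  (0, (0, 0)), (0, (0, 0)), (0, (0, 0)), (0, (0, 0)), (0, (0, 0)), (18, (44, 2)), (19, (44, -2)),
  (20, (44, 2)), (0, (0, 0)), (27, (44, 2)), (28, (44, 2)), (29, (44, 2))]

theorem genCert_F4_fast : fastF4.GenCert 33 gW_F4 gC_F4 2 := by decide +kernel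

theorem genCert_F4 : (tabOf chevF4).GenCert 33 gW_F4 gC_F4 2 := tab_F4 ▸ genCert_F4_fast

theorem genOrb_F4_fast : ∀ i ∈ [0, 1], fastF4.InOrb 33 gW_F4 (fastF4.simple i) := by decide +kernel

theorem genOrb_F4 : ∀ i ∈ [0, 1], (tabOf chevF4).InOrb 33 gW_F4 ((tabOf chevF4).simple i) :=
  tab_F4 ▸ genOrb_F4_fast

def gW_E6 : List (List ℕ) :=
  [[1, 3, 4, 5, 2, 3, 4, 1, 3, 2, 0], [3, 4, 5, 2, 3, 4, 1, 3, 2, 0], [4, 5, 2, 3, 4, 1, 3, 2, 0],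
  [5, 2, 3, 4, 1, 3, 2, 0], [2, 3, 4, 1, 3, 2, 0], [4, 5, 3, 4, 1, 3, 2, 0], [5, 3, 4, 1, 3, 2, 0],
  [3, 4, 1, 3, 2, 0], [5, 4, 1, 3, 2, 0], [4, 1, 3, 2, 0], [1, 3, 2, 0], [5, 4, 3, 2, 0], [4, 3, 2, 0],
  [3, 2, 0], [2, 0], [0], [4, 5, 3, 4, 1, 3, 0, 2, 0], [5, 3, 4, 1, 3, 0, 2, 0], [3, 4, 1, 3, 0, 2, 0],
  [5, 4, 1, 3, 0, 2, 0], [4, 1, 3, 0, 2, 0], [1, 3, 0, 2, 0], [5, 4, 2, 1, 3, 0, 2, 0],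
  [4, 2, 1, 3, 0, 2, 0], [2, 1, 3, 0, 2, 0], [3, 2, 1, 3, 0, 2, 0], [5, 4, 3, 0, 2, 0], [4, 3, 0, 2, 0],
  [3, 0, 2, 0], [0, 2, 0], [5, 4, 2, 3, 0, 2, 0], [4, 2, 3, 0, 2, 0], [2, 3, 0, 2, 0],
  [5, 3, 4, 2, 3, 0, 2, 0], [3, 4, 2, 3, 0, 2, 0], [4, 5, 3, 4, 2, 3, 0, 2, 0], [4, 5, 3, 4, 2, 3, 0, 2],
  [3, 4, 2, 3, 0, 2], [5, 3, 4, 2, 3, 0, 2], [2, 3, 0, 2], [4, 2, 3, 0, 2], [5, 4, 2, 3, 0, 2], [0, 2],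
  [3, 0, 2], [4, 3, 0, 2], [5, 4, 3, 0, 2], [3, 2, 1, 3, 0, 2], [2, 1, 3, 0, 2], [4, 2, 1, 3, 0, 2],
  [5, 4, 2, 1, 3, 0, 2], [1, 3, 0, 2], [4, 1, 3, 0, 2], [5, 4, 1, 3, 0, 2], [3, 4, 1, 3, 0, 2],
  [5, 3, 4, 1, 3, 0, 2], [4, 5, 3, 4, 1, 3, 0, 2], [], [2], [3, 2], [4, 3, 2], [5, 4, 3, 2], [1, 3, 2],
  [4, 1, 3, 2], [5, 4, 1, 3, 2], [3, 4, 1, 3, 2], [5, 3, 4, 1, 3, 2], [4, 5, 3, 4, 1, 3, 2],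
  [2, 3, 4, 1, 3, 2], [5, 2, 3, 4, 1, 3, 2], [4, 5, 2, 3, 4, 1, 3, 2], [3, 4, 5, 2, 3, 4, 1, 3, 2],
  [1, 3, 4, 5, 2, 3, 4, 1, 3, 2]]

def gC_E6 : List (ℕ × ℕ × ℤ) := []

theorem genCert_E6_fast : fastE6.GenCert 56 gW_E6 gC_E6 1 := by decide +kernel

theorem genCert_E6 : (tabOf chevE6).GenCert 56 gW_E6 gC_E6 1 := tab_E6 ▸ genCert_E6_fast

theorem genOrb_E6_fast : ∀ i ∈ [0, 1, 2, 3, 4, 5], fastE6.InOrb 56 gW_E6 (fastE6.simple i) := by decide +kernel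

theorem genOrb_E6 : ∀ i ∈ [0, 1, 2, 3, 4, 5], (tabOf chevE6).InOrb 56 gW_E6 ((tabOf chevE6).simple i) :=
  tab_E6 ▸ genOrb_E6_fast

def gW_E7 : List (List ℕ) :=
  [[0, 2, 3, 4, 5, 6, 1, 3, 4, 5, 2, 3, 4, 1, 3, 2, 0], [2, 3, 4, 5, 6, 1, 3, 4, 5, 2, 3, 4, 1, 3, 2, 0],
  [3, 4, 5, 6, 1, 3, 4, 5, 2, 3, 4, 1, 3, 2, 0], [4, 5, 6, 1, 3, 4, 5, 2, 3, 4, 1, 3, 2, 0],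
  [5, 6, 1, 3, 4, 5, 2, 3, 4, 1, 3, 2, 0], [6, 1, 3, 4, 5, 2, 3, 4, 1, 3, 2, 0],
  [1, 3, 4, 5, 2, 3, 4, 1, 3, 2, 0], [4, 5, 6, 3, 4, 5, 2, 3, 4, 1, 3, 2, 0],
  [5, 6, 3, 4, 5, 2, 3, 4, 1, 3, 2, 0], [6, 3, 4, 5, 2, 3, 4, 1, 3, 2, 0], [3, 4, 5, 2, 3, 4, 1, 3, 2, 0],
  [5, 6, 4, 5, 2, 3, 4, 1, 3, 2, 0], [6, 4, 5, 2, 3, 4, 1, 3, 2, 0], [4, 5, 2, 3, 4, 1, 3, 2, 0],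
  [6, 5, 2, 3, 4, 1, 3, 2, 0], [5, 2, 3, 4, 1, 3, 2, 0], [2, 3, 4, 1, 3, 2, 0],
  [5, 6, 4, 5, 3, 4, 1, 3, 2, 0], [6, 4, 5, 3, 4, 1, 3, 2, 0], [4, 5, 3, 4, 1, 3, 2, 0],
  [6, 5, 3, 4, 1, 3, 2, 0], [5, 3, 4, 1, 3, 2, 0], [3, 4, 1, 3, 2, 0], [6, 5, 4, 1, 3, 2, 0],
  [5, 4, 1, 3, 2, 0], [4, 1, 3, 2, 0], [1, 3, 2, 0], [6, 5, 4, 3, 2, 0], [5, 4, 3, 2, 0], [4, 3, 2, 0],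
  [3, 2, 0], [2, 0], [0], [5, 6, 4, 5, 3, 4, 1, 3, 0, 2, 0], [6, 4, 5, 3, 4, 1, 3, 0, 2, 0],
  [4, 5, 3, 4, 1, 3, 0, 2, 0], [6, 5, 3, 4, 1, 3, 0, 2, 0], [5, 3, 4, 1, 3, 0, 2, 0],
  [3, 4, 1, 3, 0, 2, 0], [6, 5, 4, 1, 3, 0, 2, 0], [5, 4, 1, 3, 0, 2, 0], [4, 1, 3, 0, 2, 0],
  [1, 3, 0, 2, 0], [6, 5, 4, 2, 1, 3, 0, 2, 0], [5, 4, 2, 1, 3, 0, 2, 0], [4, 2, 1, 3, 0, 2, 0],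
  [2, 1, 3, 0, 2, 0], [3, 2, 1, 3, 0, 2, 0], [6, 5, 4, 3, 0, 2, 0], [5, 4, 3, 0, 2, 0], [4, 3, 0, 2, 0],
  [3, 0, 2, 0], [0, 2, 0], [6, 5, 4, 2, 3, 0, 2, 0], [5, 4, 2, 3, 0, 2, 0], [4, 2, 3, 0, 2, 0],
  [2, 3, 0, 2, 0], [6, 5, 3, 4, 2, 3, 0, 2, 0], [5, 3, 4, 2, 3, 0, 2, 0], [3, 4, 2, 3, 0, 2, 0],
  [6, 4, 5, 3, 4, 2, 3, 0, 2, 0], [4, 5, 3, 4, 2, 3, 0, 2, 0], [5, 6, 4, 5, 3, 4, 2, 3, 0, 2, 0],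
  [5, 6, 4, 5, 3, 4, 2, 3, 0, 2], [4, 5, 3, 4, 2, 3, 0, 2], [6, 4, 5, 3, 4, 2, 3, 0, 2],
  [3, 4, 2, 3, 0, 2], [5, 3, 4, 2, 3, 0, 2], [6, 5, 3, 4, 2, 3, 0, 2], [2, 3, 0, 2], [4, 2, 3, 0, 2],
  [5, 4, 2, 3, 0, 2], [6, 5, 4, 2, 3, 0, 2], [0, 2], [3, 0, 2], [4, 3, 0, 2], [5, 4, 3, 0, 2],
  [6, 5, 4, 3, 0, 2], [3, 2, 1, 3, 0, 2], [2, 1, 3, 0, 2], [4, 2, 1, 3, 0, 2], [5, 4, 2, 1, 3, 0, 2],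
  [6, 5, 4, 2, 1, 3, 0, 2], [1, 3, 0, 2], [4, 1, 3, 0, 2], [5, 4, 1, 3, 0, 2], [6, 5, 4, 1, 3, 0, 2],
  [3, 4, 1, 3, 0, 2], [5, 3, 4, 1, 3, 0, 2], [6, 5, 3, 4, 1, 3, 0, 2], [4, 5, 3, 4, 1, 3, 0, 2],
  [6, 4, 5, 3, 4, 1, 3, 0, 2], [5, 6, 4, 5, 3, 4, 1, 3, 0, 2], [], [2], [3, 2], [4, 3, 2], [5, 4, 3, 2],
  [6, 5, 4, 3, 2], [1, 3, 2], [4, 1, 3, 2], [5, 4, 1, 3, 2], [6, 5, 4, 1, 3, 2], [3, 4, 1, 3, 2],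
  [5, 3, 4, 1, 3, 2], [6, 5, 3, 4, 1, 3, 2], [4, 5, 3, 4, 1, 3, 2], [6, 4, 5, 3, 4, 1, 3, 2],
  [5, 6, 4, 5, 3, 4, 1, 3, 2], [2, 3, 4, 1, 3, 2], [5, 2, 3, 4, 1, 3, 2], [6, 5, 2, 3, 4, 1, 3, 2],
  [4, 5, 2, 3, 4, 1, 3, 2], [6, 4, 5, 2, 3, 4, 1, 3, 2], [5, 6, 4, 5, 2, 3, 4, 1, 3, 2],
  [3, 4, 5, 2, 3, 4, 1, 3, 2], [6, 3, 4, 5, 2, 3, 4, 1, 3, 2], [5, 6, 3, 4, 5, 2, 3, 4, 1, 3, 2],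
  [4, 5, 6, 3, 4, 5, 2, 3, 4, 1, 3, 2], [1, 3, 4, 5, 2, 3, 4, 1, 3, 2], [6, 1, 3, 4, 5, 2, 3, 4, 1, 3, 2],
  [5, 6, 1, 3, 4, 5, 2, 3, 4, 1, 3, 2], [4, 5, 6, 1, 3, 4, 5, 2, 3, 4, 1, 3, 2],
  [3, 4, 5, 6, 1, 3, 4, 5, 2, 3, 4, 1, 3, 2], [2, 3, 4, 5, 6, 1, 3, 4, 5, 2, 3, 4, 1, 3, 2],
  [0, 2, 3, 4, 5, 6, 1, 3, 4, 5, 2, 3, 4, 1, 3, 2]]

def gC_E7 : List (ℕ × ℕ × ℤ) := []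

theorem genCert_E7_fast : fastE7.GenCert 93 gW_E7 gC_E7 1 := by decide +kernel

theorem genCert_E7 : (tabOf chevE7).GenCert 93 gW_E7 gC_E7 1 := tab_E7 ▸ genCert_E7_fast

theorem genOrb_E7_fast : ∀ i ∈ [0, 1, 2, 3, 4, 5, 6], fastE7.InOrb 93 gW_E7 (fastE7.simple i) := by decide +kernel

theorem genOrb_E7 : ∀ i ∈ [0, 1, 2, 3, 4, 5, 6], (tabOf chevE7).InOrb 93 gW_E7 ((tabOf chevE7).simple i) :=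
  tab_E7 ▸ genOrb_E7_fast

def gW_E8 : List (List ℕ) :=
  [[7, 6, 5, 4, 3, 2, 1, 3, 4, 5, 6, 7, 0, 2, 3, 4, 5, 6, 1, 3, 4, 5, 2, 3, 4, 1, 3, 2, 0],
  [6, 5, 4, 3, 2, 1, 3, 4, 5, 6, 7, 0, 2, 3, 4, 5, 6, 1, 3, 4, 5, 2, 3, 4, 1, 3, 2, 0],
  [5, 4, 3, 2, 1, 3, 4, 5, 6, 7, 0, 2, 3, 4, 5, 6, 1, 3, 4, 5, 2, 3, 4, 1, 3, 2, 0],
  [4, 3, 2, 1, 3, 4, 5, 6, 7, 0, 2, 3, 4, 5, 6, 1, 3, 4, 5, 2, 3, 4, 1, 3, 2, 0],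
  [3, 2, 1, 3, 4, 5, 6, 7, 0, 2, 3, 4, 5, 6, 1, 3, 4, 5, 2, 3, 4, 1, 3, 2, 0],
  [2, 1, 3, 4, 5, 6, 7, 0, 2, 3, 4, 5, 6, 1, 3, 4, 5, 2, 3, 4, 1, 3, 2, 0],
  [1, 3, 4, 5, 6, 7, 0, 2, 3, 4, 5, 6, 1, 3, 4, 5, 2, 3, 4, 1, 3, 2, 0],
  [2, 3, 4, 5, 6, 7, 0, 2, 3, 4, 5, 6, 1, 3, 4, 5, 2, 3, 4, 1, 3, 2, 0],
  [3, 4, 5, 6, 7, 0, 2, 3, 4, 5, 6, 1, 3, 4, 5, 2, 3, 4, 1, 3, 2, 0],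
  [4, 5, 6, 7, 0, 2, 3, 4, 5, 6, 1, 3, 4, 5, 2, 3, 4, 1, 3, 2, 0],
  [5, 6, 7, 0, 2, 3, 4, 5, 6, 1, 3, 4, 5, 2, 3, 4, 1, 3, 2, 0],
  [6, 7, 0, 2, 3, 4, 5, 6, 1, 3, 4, 5, 2, 3, 4, 1, 3, 2, 0],
  [7, 0, 2, 3, 4, 5, 6, 1, 3, 4, 5, 2, 3, 4, 1, 3, 2, 0],
  [0, 2, 3, 4, 5, 6, 1, 3, 4, 5, 2, 3, 4, 1, 3, 2, 0],
  [1, 3, 4, 5, 6, 7, 2, 3, 4, 5, 6, 1, 3, 4, 5, 2, 3, 4, 1, 3, 2, 0],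
  [3, 4, 5, 6, 7, 2, 3, 4, 5, 6, 1, 3, 4, 5, 2, 3, 4, 1, 3, 2, 0],
  [4, 5, 6, 7, 2, 3, 4, 5, 6, 1, 3, 4, 5, 2, 3, 4, 1, 3, 2, 0],
  [5, 6, 7, 2, 3, 4, 5, 6, 1, 3, 4, 5, 2, 3, 4, 1, 3, 2, 0],
  [6, 7, 2, 3, 4, 5, 6, 1, 3, 4, 5, 2, 3, 4, 1, 3, 2, 0],
  [7, 2, 3, 4, 5, 6, 1, 3, 4, 5, 2, 3, 4, 1, 3, 2, 0], [2, 3, 4, 5, 6, 1, 3, 4, 5, 2, 3, 4, 1, 3, 2, 0],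
  [4, 5, 6, 7, 3, 4, 5, 6, 1, 3, 4, 5, 2, 3, 4, 1, 3, 2, 0],
  [5, 6, 7, 3, 4, 5, 6, 1, 3, 4, 5, 2, 3, 4, 1, 3, 2, 0],
  [6, 7, 3, 4, 5, 6, 1, 3, 4, 5, 2, 3, 4, 1, 3, 2, 0], [7, 3, 4, 5, 6, 1, 3, 4, 5, 2, 3, 4, 1, 3, 2, 0],
  [3, 4, 5, 6, 1, 3, 4, 5, 2, 3, 4, 1, 3, 2, 0], [5, 6, 7, 4, 5, 6, 1, 3, 4, 5, 2, 3, 4, 1, 3, 2, 0],
  [6, 7, 4, 5, 6, 1, 3, 4, 5, 2, 3, 4, 1, 3, 2, 0], [7, 4, 5, 6, 1, 3, 4, 5, 2, 3, 4, 1, 3, 2, 0],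
  [4, 5, 6, 1, 3, 4, 5, 2, 3, 4, 1, 3, 2, 0], [6, 7, 5, 6, 1, 3, 4, 5, 2, 3, 4, 1, 3, 2, 0],
  [7, 5, 6, 1, 3, 4, 5, 2, 3, 4, 1, 3, 2, 0], [5, 6, 1, 3, 4, 5, 2, 3, 4, 1, 3, 2, 0],
  [7, 6, 1, 3, 4, 5, 2, 3, 4, 1, 3, 2, 0], [6, 1, 3, 4, 5, 2, 3, 4, 1, 3, 2, 0],
  [1, 3, 4, 5, 2, 3, 4, 1, 3, 2, 0], [5, 6, 7, 4, 5, 6, 3, 4, 5, 2, 3, 4, 1, 3, 2, 0],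
  [6, 7, 4, 5, 6, 3, 4, 5, 2, 3, 4, 1, 3, 2, 0], [7, 4, 5, 6, 3, 4, 5, 2, 3, 4, 1, 3, 2, 0],
  [4, 5, 6, 3, 4, 5, 2, 3, 4, 1, 3, 2, 0], [6, 7, 5, 6, 3, 4, 5, 2, 3, 4, 1, 3, 2, 0],
  [7, 5, 6, 3, 4, 5, 2, 3, 4, 1, 3, 2, 0], [5, 6, 3, 4, 5, 2, 3, 4, 1, 3, 2, 0],
  [7, 6, 3, 4, 5, 2, 3, 4, 1, 3, 2, 0], [6, 3, 4, 5, 2, 3, 4, 1, 3, 2, 0], [3, 4, 5, 2, 3, 4, 1, 3, 2, 0],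
  [6, 7, 5, 6, 4, 5, 2, 3, 4, 1, 3, 2, 0], [7, 5, 6, 4, 5, 2, 3, 4, 1, 3, 2, 0],
  [5, 6, 4, 5, 2, 3, 4, 1, 3, 2, 0], [7, 6, 4, 5, 2, 3, 4, 1, 3, 2, 0], [6, 4, 5, 2, 3, 4, 1, 3, 2, 0],
  [4, 5, 2, 3, 4, 1, 3, 2, 0], [7, 6, 5, 2, 3, 4, 1, 3, 2, 0], [6, 5, 2, 3, 4, 1, 3, 2, 0],
  [5, 2, 3, 4, 1, 3, 2, 0], [2, 3, 4, 1, 3, 2, 0], [6, 7, 5, 6, 4, 5, 3, 4, 1, 3, 2, 0],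
  [7, 5, 6, 4, 5, 3, 4, 1, 3, 2, 0], [5, 6, 4, 5, 3, 4, 1, 3, 2, 0], [7, 6, 4, 5, 3, 4, 1, 3, 2, 0],
  [6, 4, 5, 3, 4, 1, 3, 2, 0], [4, 5, 3, 4, 1, 3, 2, 0], [7, 6, 5, 3, 4, 1, 3, 2, 0],
  [6, 5, 3, 4, 1, 3, 2, 0], [5, 3, 4, 1, 3, 2, 0], [3, 4, 1, 3, 2, 0], [7, 6, 5, 4, 1, 3, 2, 0],
  [6, 5, 4, 1, 3, 2, 0], [5, 4, 1, 3, 2, 0], [4, 1, 3, 2, 0], [1, 3, 2, 0], [7, 6, 5, 4, 3, 2, 0],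
  [6, 5, 4, 3, 2, 0], [5, 4, 3, 2, 0], [4, 3, 2, 0], [3, 2, 0], [2, 0], [0],
  [6, 7, 5, 6, 4, 5, 3, 4, 1, 3, 0, 2, 0], [7, 5, 6, 4, 5, 3, 4, 1, 3, 0, 2, 0],
  [5, 6, 4, 5, 3, 4, 1, 3, 0, 2, 0], [7, 6, 4, 5, 3, 4, 1, 3, 0, 2, 0], [6, 4, 5, 3, 4, 1, 3, 0, 2, 0],
  [4, 5, 3, 4, 1, 3, 0, 2, 0], [7, 6, 5, 3, 4, 1, 3, 0, 2, 0], [6, 5, 3, 4, 1, 3, 0, 2, 0],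
  [5, 3, 4, 1, 3, 0, 2, 0], [3, 4, 1, 3, 0, 2, 0], [7, 6, 5, 4, 1, 3, 0, 2, 0], [6, 5, 4, 1, 3, 0, 2, 0],
  [5, 4, 1, 3, 0, 2, 0], [4, 1, 3, 0, 2, 0], [1, 3, 0, 2, 0], [7, 6, 5, 4, 2, 1, 3, 0, 2, 0],
  [6, 5, 4, 2, 1, 3, 0, 2, 0], [5, 4, 2, 1, 3, 0, 2, 0], [4, 2, 1, 3, 0, 2, 0], [2, 1, 3, 0, 2, 0],
  [3, 2, 1, 3, 0, 2, 0], [7, 6, 5, 4, 3, 0, 2, 0], [6, 5, 4, 3, 0, 2, 0], [5, 4, 3, 0, 2, 0],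
  [4, 3, 0, 2, 0], [3, 0, 2, 0], [0, 2, 0], [7, 6, 5, 4, 2, 3, 0, 2, 0], [6, 5, 4, 2, 3, 0, 2, 0],
  [5, 4, 2, 3, 0, 2, 0], [4, 2, 3, 0, 2, 0], [2, 3, 0, 2, 0], [7, 6, 5, 3, 4, 2, 3, 0, 2, 0],
  [6, 5, 3, 4, 2, 3, 0, 2, 0], [5, 3, 4, 2, 3, 0, 2, 0], [3, 4, 2, 3, 0, 2, 0],
  [7, 6, 4, 5, 3, 4, 2, 3, 0, 2, 0], [6, 4, 5, 3, 4, 2, 3, 0, 2, 0], [4, 5, 3, 4, 2, 3, 0, 2, 0],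
  [7, 5, 6, 4, 5, 3, 4, 2, 3, 0, 2, 0], [5, 6, 4, 5, 3, 4, 2, 3, 0, 2, 0],
  [6, 7, 5, 6, 4, 5, 3, 4, 2, 3, 0, 2, 0], [6, 7, 5, 6, 4, 5, 3, 4, 2, 3, 0, 2],
  [5, 6, 4, 5, 3, 4, 2, 3, 0, 2], [7, 5, 6, 4, 5, 3, 4, 2, 3, 0, 2], [4, 5, 3, 4, 2, 3, 0, 2],
  [6, 4, 5, 3, 4, 2, 3, 0, 2], [7, 6, 4, 5, 3, 4, 2, 3, 0, 2], [3, 4, 2, 3, 0, 2], [5, 3, 4, 2, 3, 0, 2],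
  [6, 5, 3, 4, 2, 3, 0, 2], [7, 6, 5, 3, 4, 2, 3, 0, 2], [2, 3, 0, 2], [4, 2, 3, 0, 2],
  [5, 4, 2, 3, 0, 2], [6, 5, 4, 2, 3, 0, 2], [7, 6, 5, 4, 2, 3, 0, 2], [0, 2], [3, 0, 2], [4, 3, 0, 2],
  [5, 4, 3, 0, 2], [6, 5, 4, 3, 0, 2], [7, 6, 5, 4, 3, 0, 2], [3, 2, 1, 3, 0, 2], [2, 1, 3, 0, 2],
  [4, 2, 1, 3, 0, 2], [5, 4, 2, 1, 3, 0, 2], [6, 5, 4, 2, 1, 3, 0, 2], [7, 6, 5, 4, 2, 1, 3, 0, 2],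
  [1, 3, 0, 2], [4, 1, 3, 0, 2], [5, 4, 1, 3, 0, 2], [6, 5, 4, 1, 3, 0, 2], [7, 6, 5, 4, 1, 3, 0, 2],
  [3, 4, 1, 3, 0, 2], [5, 3, 4, 1, 3, 0, 2], [6, 5, 3, 4, 1, 3, 0, 2], [7, 6, 5, 3, 4, 1, 3, 0, 2],
  [4, 5, 3, 4, 1, 3, 0, 2], [6, 4, 5, 3, 4, 1, 3, 0, 2], [7, 6, 4, 5, 3, 4, 1, 3, 0, 2],
  [5, 6, 4, 5, 3, 4, 1, 3, 0, 2], [7, 5, 6, 4, 5, 3, 4, 1, 3, 0, 2], [6, 7, 5, 6, 4, 5, 3, 4, 1, 3, 0, 2],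
  [], [2], [3, 2], [4, 3, 2], [5, 4, 3, 2], [6, 5, 4, 3, 2], [7, 6, 5, 4, 3, 2], [1, 3, 2], [4, 1, 3, 2],
  [5, 4, 1, 3, 2], [6, 5, 4, 1, 3, 2], [7, 6, 5, 4, 1, 3, 2], [3, 4, 1, 3, 2], [5, 3, 4, 1, 3, 2],
  [6, 5, 3, 4, 1, 3, 2], [7, 6, 5, 3, 4, 1, 3, 2], [4, 5, 3, 4, 1, 3, 2], [6, 4, 5, 3, 4, 1, 3, 2],
  [7, 6, 4, 5, 3, 4, 1, 3, 2], [5, 6, 4, 5, 3, 4, 1, 3, 2], [7, 5, 6, 4, 5, 3, 4, 1, 3, 2],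
  [6, 7, 5, 6, 4, 5, 3, 4, 1, 3, 2], [2, 3, 4, 1, 3, 2], [5, 2, 3, 4, 1, 3, 2], [6, 5, 2, 3, 4, 1, 3, 2],
  [7, 6, 5, 2, 3, 4, 1, 3, 2], [4, 5, 2, 3, 4, 1, 3, 2], [6, 4, 5, 2, 3, 4, 1, 3, 2],
  [7, 6, 4, 5, 2, 3, 4, 1, 3, 2], [5, 6, 4, 5, 2, 3, 4, 1, 3, 2], [7, 5, 6, 4, 5, 2, 3, 4, 1, 3, 2],
  [6, 7, 5, 6, 4, 5, 2, 3, 4, 1, 3, 2], [3, 4, 5, 2, 3, 4, 1, 3, 2], [6, 3, 4, 5, 2, 3, 4, 1, 3, 2],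
  [7, 6, 3, 4, 5, 2, 3, 4, 1, 3, 2], [5, 6, 3, 4, 5, 2, 3, 4, 1, 3, 2],
  [7, 5, 6, 3, 4, 5, 2, 3, 4, 1, 3, 2], [6, 7, 5, 6, 3, 4, 5, 2, 3, 4, 1, 3, 2],
  [4, 5, 6, 3, 4, 5, 2, 3, 4, 1, 3, 2], [7, 4, 5, 6, 3, 4, 5, 2, 3, 4, 1, 3, 2],
  [6, 7, 4, 5, 6, 3, 4, 5, 2, 3, 4, 1, 3, 2], [5, 6, 7, 4, 5, 6, 3, 4, 5, 2, 3, 4, 1, 3, 2],
  [1, 3, 4, 5, 2, 3, 4, 1, 3, 2], [6, 1, 3, 4, 5, 2, 3, 4, 1, 3, 2], [7, 6, 1, 3, 4, 5, 2, 3, 4, 1, 3, 2],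
  [5, 6, 1, 3, 4, 5, 2, 3, 4, 1, 3, 2], [7, 5, 6, 1, 3, 4, 5, 2, 3, 4, 1, 3, 2],
  [6, 7, 5, 6, 1, 3, 4, 5, 2, 3, 4, 1, 3, 2], [4, 5, 6, 1, 3, 4, 5, 2, 3, 4, 1, 3, 2],
  [7, 4, 5, 6, 1, 3, 4, 5, 2, 3, 4, 1, 3, 2], [6, 7, 4, 5, 6, 1, 3, 4, 5, 2, 3, 4, 1, 3, 2],
  [5, 6, 7, 4, 5, 6, 1, 3, 4, 5, 2, 3, 4, 1, 3, 2], [3, 4, 5, 6, 1, 3, 4, 5, 2, 3, 4, 1, 3, 2],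
  [7, 3, 4, 5, 6, 1, 3, 4, 5, 2, 3, 4, 1, 3, 2], [6, 7, 3, 4, 5, 6, 1, 3, 4, 5, 2, 3, 4, 1, 3, 2],
  [5, 6, 7, 3, 4, 5, 6, 1, 3, 4, 5, 2, 3, 4, 1, 3, 2],
  [4, 5, 6, 7, 3, 4, 5, 6, 1, 3, 4, 5, 2, 3, 4, 1, 3, 2], [2, 3, 4, 5, 6, 1, 3, 4, 5, 2, 3, 4, 1, 3, 2],
  [7, 2, 3, 4, 5, 6, 1, 3, 4, 5, 2, 3, 4, 1, 3, 2], [6, 7, 2, 3, 4, 5, 6, 1, 3, 4, 5, 2, 3, 4, 1, 3, 2],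
  [5, 6, 7, 2, 3, 4, 5, 6, 1, 3, 4, 5, 2, 3, 4, 1, 3, 2],
  [4, 5, 6, 7, 2, 3, 4, 5, 6, 1, 3, 4, 5, 2, 3, 4, 1, 3, 2],
  [3, 4, 5, 6, 7, 2, 3, 4, 5, 6, 1, 3, 4, 5, 2, 3, 4, 1, 3, 2],
  [1, 3, 4, 5, 6, 7, 2, 3, 4, 5, 6, 1, 3, 4, 5, 2, 3, 4, 1, 3, 2],
  [0, 2, 3, 4, 5, 6, 1, 3, 4, 5, 2, 3, 4, 1, 3, 2], [7, 0, 2, 3, 4, 5, 6, 1, 3, 4, 5, 2, 3, 4, 1, 3, 2],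
  [6, 7, 0, 2, 3, 4, 5, 6, 1, 3, 4, 5, 2, 3, 4, 1, 3, 2],
  [5, 6, 7, 0, 2, 3, 4, 5, 6, 1, 3, 4, 5, 2, 3, 4, 1, 3, 2],
  [4, 5, 6, 7, 0, 2, 3, 4, 5, 6, 1, 3, 4, 5, 2, 3, 4, 1, 3, 2],
  [3, 4, 5, 6, 7, 0, 2, 3, 4, 5, 6, 1, 3, 4, 5, 2, 3, 4, 1, 3, 2],
  [2, 3, 4, 5, 6, 7, 0, 2, 3, 4, 5, 6, 1, 3, 4, 5, 2, 3, 4, 1, 3, 2],
  [1, 3, 4, 5, 6, 7, 0, 2, 3, 4, 5, 6, 1, 3, 4, 5, 2, 3, 4, 1, 3, 2],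
  [2, 1, 3, 4, 5, 6, 7, 0, 2, 3, 4, 5, 6, 1, 3, 4, 5, 2, 3, 4, 1, 3, 2],
  [3, 2, 1, 3, 4, 5, 6, 7, 0, 2, 3, 4, 5, 6, 1, 3, 4, 5, 2, 3, 4, 1, 3, 2],
  [4, 3, 2, 1, 3, 4, 5, 6, 7, 0, 2, 3, 4, 5, 6, 1, 3, 4, 5, 2, 3, 4, 1, 3, 2],
  [5, 4, 3, 2, 1, 3, 4, 5, 6, 7, 0, 2, 3, 4, 5, 6, 1, 3, 4, 5, 2, 3, 4, 1, 3, 2],
  [6, 5, 4, 3, 2, 1, 3, 4, 5, 6, 7, 0, 2, 3, 4, 5, 6, 1, 3, 4, 5, 2, 3, 4, 1, 3, 2],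
  [7, 6, 5, 4, 3, 2, 1, 3, 4, 5, 6, 7, 0, 2, 3, 4, 5, 6, 1, 3, 4, 5, 2, 3, 4, 1, 3, 2]]

def gC_E8 : List (ℕ × ℕ × ℤ) := []

theorem genCert_E8_fast : fastE8.GenCert 162 gW_E8 gC_E8 1 := by decide +kernel

theorem genCert_E8 : (tabOf chevE8).GenCert 162 gW_E8 gC_E8 1 := tab_E8 ▸ genCert_E8_fast

theorem genOrb_E8_fast : ∀ i ∈ [0, 1, 2, 3, 4, 5, 6, 7], fastE8.InOrb 162 gW_E8 (fastE8.simple i) := by decide +kernel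

theorem genOrb_E8 : ∀ i ∈ [0, 1, 2, 3, 4, 5, 6, 7], (tabOf chevE8).InOrb 162 gW_E8 ((tabOf chevE8).simple i) :=
  tab_E8 ▸ genOrb_E8_fast

def gWb_G2 : List (List ℕ) :=
  [[1, 0, 1], [0, 1], [0, 0, 0, 0, 0, 0, 0, 0, 0], [0, 0, 0, 0, 0, 0, 0, 0, 0],
  [0, 0, 0, 0, 0, 0, 0, 0, 0], [1], [], [0, 0, 0, 0, 0, 0, 0, 0, 0], [0, 0, 0, 0, 0, 0, 0, 0, 0],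
  [0, 0, 0, 0, 0, 0, 0, 0, 0], [0], [1, 0]]

theorem genCert2_G2_fast : fastG2.GenCert2 7 6 gW_G2 gWb_G2 := by decide +kernel

theorem genCert2_G2 : (tabOf chevG2).GenCert2 7 6 gW_G2 gWb_G2 := tab_G2 ▸ genCert2_G2_fast

theorem genOrbB_G2_fast : ∀ i ∈ [1], fastG2.InOrb 6 gWb_G2 (fastG2.simple i) := by decide +kernel

theorem genOrbB_G2 : ∀ i ∈ [1], (tabOf chevG2).InOrb 6 gWb_G2 ((tabOf chevG2).simple i) :=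
  tab_G2 ▸ genOrbB_G2_fast

def gWb_B2 : List (List ℕ) :=
  [[0, 1], [0, 0, 0, 0, 0, 0, 0, 0, 0], [0, 0, 0, 0, 0, 0, 0, 0, 0], [1], [], [0, 0, 0, 0, 0, 0, 0, 0, 0],
  [0, 0, 0, 0, 0, 0, 0, 0, 0], [0]]

theorem genCert2_B2_fast : fastB2.GenCert2 5 4 gW_B2 gWb_B2 := by decide +kernel

theorem genCert2_B2 : (tabOf chevB2).GenCert2 5 4 gW_B2 gWb_B2 := tab_B2 ▸ genCert2_B2_fast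

theorem genOrbB_B2_fast : ∀ i ∈ [1], fastB2.InOrb 4 gWb_B2 (fastB2.simple i) := by decide +kernel

theorem genOrbB_B2 : ∀ i ∈ [1], (tabOf chevB2).InOrb 4 gWb_B2 ((tabOf chevB2).simple i) :=
  tab_B2 ▸ genOrbB_B2_fast

def gWb_F4 : List (List ℕ) :=
  [[3, 2, 1, 2, 3, 0, 1, 2], [2, 1, 2, 3, 0, 1, 2], [1, 2, 3, 0, 1, 2], [0, 0, 0, 0, 0, 0, 0, 0, 0],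
  [2, 3, 0, 1, 2], [3, 0, 1, 2], [0, 1, 2], [0, 0, 0, 0, 0, 0, 0, 0, 0], [0, 0, 0, 0, 0, 0, 0, 0, 0],
  [0, 0, 0, 0, 0, 0, 0, 0, 0], [0, 0, 0, 0, 0, 0, 0, 0, 0], [0, 0, 0, 0, 0, 0, 0, 0, 0],
  [0, 0, 0, 0, 0, 0, 0, 0, 0], [0, 0, 0, 0, 0, 0, 0, 0, 0], [0, 0, 0, 0, 0, 0, 0, 0, 0], [2, 3, 1, 2],
  [3, 1, 2], [1, 2], [0, 0, 0, 0, 0, 0, 0, 0, 0], [0, 0, 0, 0, 0, 0, 0, 0, 0],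
  [0, 0, 0, 0, 0, 0, 0, 0, 0], [3, 2], [2], [2, 3, 2], [2, 3], [], [3], [0, 0, 0, 0, 0, 0, 0, 0, 0],
  [0, 0, 0, 0, 0, 0, 0, 0, 0], [0, 0, 0, 0, 0, 0, 0, 0, 0], [1], [3, 1], [2, 3, 1],
  [0, 0, 0, 0, 0, 0, 0, 0, 0], [0, 0, 0, 0, 0, 0, 0, 0, 0], [0, 0, 0, 0, 0, 0, 0, 0, 0],
  [0, 0, 0, 0, 0, 0, 0, 0, 0], [0, 0, 0, 0, 0, 0, 0, 0, 0], [0, 0, 0, 0, 0, 0, 0, 0, 0],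
  [0, 0, 0, 0, 0, 0, 0, 0, 0], [0, 0, 0, 0, 0, 0, 0, 0, 0], [0, 1], [3, 0, 1], [2, 3, 0, 1],
  [0, 0, 0, 0, 0, 0, 0, 0, 0], [1, 2, 3, 0, 1], [2, 1, 2, 3, 0, 1], [3, 2, 1, 2, 3, 0, 1]]

theorem genCert2_F4_fast : fastF4.GenCert2 33 25 gW_F4 gWb_F4 := by decide +kernel

theorem genCert2_F4 : (tabOf chevF4).GenCert2 33 25 gW_F4 gWb_F4 := tab_F4 ▸ genCert2_F4_fast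

theorem genOrbB_F4_fast : ∀ i ∈ [2, 3], fastF4.InOrb 25 gWb_F4 (fastF4.simple i) := by decide +kernel

theorem genOrbB_F4 : ∀ i ∈ [2, 3], (tabOf chevF4).InOrb 25 gWb_F4 ((tabOf chevF4).simple i) :=
  tab_F4 ▸ genOrbB_F4_fast

end Cfsg.Agent.Helper7.Chev
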