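import Mathlib
import Cfsg.Agent.Helper7.ChevGenCert
import Cfsg.Agent.Helper7.ChevGood3
import Cfsg.Prelude.Def_ChevAutomorphisms

set_option autoImplicit false
set_option linter.unusedSectionVars false
set_option linter.unusedVariables false

/-!
The Chevalley groups are generated by the monomial subgroup and one fundamental root subgroup (two in the
characteristics with a graph symmetry exchanging the root lengths).
-/

namespace Cfsg.Agent.Helper7.Chev

open Cfsg Cfsg.Lie Matrix

theorem isLong_G2 : chevG2.isLong (chevG2.simple 0) = false ∧ chevG2.isLong (chevG2.simple 1) = true := by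
  decide

theorem isLong_B2 : chevB2.isLong (chevB2.simple 0) = false ∧ chevB2.isLong (chevB2.simple 1) = true := by
  decide

theorem isLong_F4 : chevF4.isLong (chevF4.simple 0) = false ∧ chevF4.isLong (chevF4.simple 1) = false ∧
    chevF4.isLong (chevF4.simple 2) = true ∧ chevF4.isLong (chevF4.simple 3) = true := by
  decide

section

variable {K : Type*} [Field K]

theorem two_ne_zero_of_ringChar (h : ringChar K ≠ 2) : ((2 : ℤ) : K) ≠ 0 := by
  have := Ring.two_ne_zero h
  exact_mod_cast this

theorem three_ne_zero_of_ringChar (h : ringChar K ≠ 3) : ((3 : ℤ) : K) ≠ 0 := by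
  intro h0
  apply h
  apply CharP.ringChar_of_prime_eq_zero Nat.prime_three
  exact_mod_cast h0

theorem one_ne_zero_cast : ((1 : ℤ) : K) ≠ 0 := by
  rw [Int.cast_one]
  exact one_ne_zero

/-- The statement of S2416. -/
theorem chev_S2416 (D : ChevalleyDatum)
    (hD : D ∈ [chevG2, chevB2, chevD4, chevF4, chevE6, chevE7, chevE8])
    (h2 : D ∈ [chevB2, chevF4] → ringChar K ≠ 2) (h3 : D = chevG2 → ringChar K ≠ 3)
    (i : ℕ) (hi : i < D.rank) (hshort : D.isLong (D.simple i) = false) :
    D.group K ≤ D.monomialSubgroup K ⊔ D.rootSubgroup K (D.simple i) := by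
  simp only [List.mem_cons, List.not_mem_nil, or_false] at hD
  rcases hD with rfl | rfl | rfl | rfl | rfl | rfl | rfl
  · -- G₂
    have hi' : i < 2 := hi
    have h0 : i = 0 := by
      interval_cases i
      · rfl
      · rw [isLong_G2.2] at hshort; exact absurd hshort (by decide)
    subst h0
    exact group_le_of_genCert good3_G2.toGood2 le_sup_left
      (fun r s hr hs hsr hsn => good3_G2.comm hr hs hsr hsn) genCert_G2
      (three_ne_zero_of_ringChar (h3 rfl)) (by decide) (genOrb_G2 0 (by simp))
      (inM_of_rootSubgroup_le _ (by decide) le_sup_right)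
  · -- B₂
    have hi' : i < 2 := hi
    have h0 : i = 0 := by
      interval_cases i
      · rfl
      · rw [isLong_B2.2] at hshort; exact absurd hshort (by decide)
    subst h0
    exact group_le_of_genCert good3_B2.toGood2 le_sup_left
      (fun r s hr hs hsr hsn => good3_B2.comm hr hs hsr hsn) genCert_B2
      (two_ne_zero_of_ringChar (h2 (by simp))) (by decide) (genOrb_B2 0 (by simp))
      (inM_of_rootSubgroup_le _ (by decide) le_sup_right)
  · -- D₄
    have hi' : i < 4 := hi
    have hmem : i ∈ [0, 1, 2, 3] := by interval_cases i <;> simp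
    exact group_le_of_genCert good3_D4.toGood2 le_sup_left
      (fun r s hr hs hsr hsn => good3_D4.comm hr hs hsr hsn) genCert_D4
      one_ne_zero_cast (by decide) (genOrb_D4 i hmem)
      (inM_of_rootSubgroup_le _ (good3_D4.toGood1.simple_lt hi) le_sup_right)
  · -- F₄
    have hi' : i < 4 := hi
    have hmem : i ∈ [0, 1] := by
      interval_cases i
      · simp
      · simp
      · rw [isLong_F4.2.2.1] at hshort; exact absurd hshort (by decide)
      · rw [isLong_F4.2.2.2] at hshort; exact absurd hshort (by decide)
    exact group_le_of_genCert good3_F4.toGood2 le_sup_left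
      (fun r s hr hs hsr hsn => good3_F4.comm hr hs hsr hsn) genCert_F4
      (two_ne_zero_of_ringChar (h2 (by simp))) (by decide) (genOrb_F4 i hmem)
      (inM_of_rootSubgroup_le _ (good3_F4.toGood1.simple_lt hi) le_sup_right)
  · -- E₆
    have hi' : i < 6 := hi
    have hmem : i ∈ [0, 1, 2, 3, 4, 5] := by interval_cases i <;> simp
    exact group_le_of_genCert good3_E6.toGood2 le_sup_left
      (fun r s hr hs hsr hsn => good3_E6.comm hr hs hsr hsn) genCert_E6
      one_ne_zero_cast (by decide) (genOrb_E6 i hmem)
      (inM_of_rootSubgroup_le _ (good3_E6.toGood1.simple_lt hi) le_sup_right)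
  · -- E₇
    have hi' : i < 7 := hi
    have hmem : i ∈ [0, 1, 2, 3, 4, 5, 6] := by interval_cases i <;> simp
    exact group_le_of_genCert good3_E7.toGood2 le_sup_left
      (fun r s hr hs hsr hsn => good3_E7.comm hr hs hsr hsn) genCert_E7
      one_ne_zero_cast (by decide) (genOrb_E7 i hmem)
      (inM_of_rootSubgroup_le _ (good3_E7.toGood1.simple_lt hi) le_sup_right)
  · -- E₈
    have hi' : i < 8 := hi
    have hmem : i ∈ [0, 1, 2, 3, 4, 5, 6, 7] := by interval_cases i <;> simp
    exact group_le_of_genCert good3_E8.toGood2 le_sup_left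
      (fun r s hr hs hsr hsn => good3_E8.comm hr hs hsr hsn) genCert_E8
      one_ne_zero_cast (by decide) (genOrb_E8 i hmem)
      (inM_of_rootSubgroup_le _ (good3_E8.toGood1.simple_lt hi) le_sup_right)

/-- The statement of S2417. -/
theorem chev_S2417 (e : ChevalleyDatum × ℕ)
    (he : e ∈ [(chevB2, 2), (chevF4, 2), (chevG2, 3)])
    (i j : ℕ) (hi : i < e.1.rank) (hj : j < e.1.rank) (hshort : e.1.isLong (e.1.simple i) = false)
    (hlong : e.1.isLong (e.1.simple j) = true) :
    e.1.group K ≤ e.1.monomialSubgroup K ⊔ e.1.rootSubgroup K (e.1.simple i) ⊔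
      e.1.rootSubgroup K (e.1.simple j) := by
  obtain ⟨D, c⟩ := e
  simp only [List.mem_cons, Prod.mk.injEq, List.not_mem_nil, or_false] at he
  change D.group K ≤ D.monomialSubgroup K ⊔ D.rootSubgroup K (D.simple i) ⊔ D.rootSubgroup K (D.simple j)
  change i < D.rank at hi
  change j < D.rank at hj
  change D.isLong (D.simple i) = false at hshort
  change D.isLong (D.simple j) = true at hlong
  have hN : D.monomialSubgroup K ≤
      D.monomialSubgroup K ⊔ D.rootSubgroup K (D.simple i) ⊔ D.rootSubgroup K (D.simple j) :=
    le_trans le_sup_left le_sup_left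
  have hXi : D.rootSubgroup K (D.simple i) ≤
      D.monomialSubgroup K ⊔ D.rootSubgroup K (D.simple i) ⊔ D.rootSubgroup K (D.simple j) :=
    le_trans le_sup_right le_sup_left
  have hXj : D.rootSubgroup K (D.simple j) ≤
      D.monomialSubgroup K ⊔ D.rootSubgroup K (D.simple i) ⊔ D.rootSubgroup K (D.simple j) :=
    le_sup_right
  rcases he with ⟨rfl, rfl⟩ | ⟨rfl, rfl⟩ | ⟨rfl, rfl⟩
  · -- B₂
    have hi' : i < 2 := hi
    have hj' : j < 2 := hj
    have h0 : i = 0 := by
      interval_cases i
      · rfl
      · rw [isLong_B2.2] at hshort; exact absurd hshort (by decide)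
    have h1 : j = 1 := by
      interval_cases j
      · rw [isLong_B2.1] at hlong; exact absurd hlong (by decide)
      · rfl
    subst h0 h1
    exact group_le_of_genCert2 good3_B2.toGood2 hN genCert2_B2 (by decide) (by decide)
      (genOrb_B2 0 (by simp)) (genOrbB_B2 1 (by simp))
      (inM_of_rootSubgroup_le _ (by decide) hXi) (inM_of_rootSubgroup_le _ (by decide) hXj)
  · -- F₄
    have hi' : i < 4 := hi
    have hj' : j < 4 := hj
    have hmi : i ∈ [0, 1] := by
      interval_cases i
      · simp
      · simp
      · rw [isLong_F4.2.2.1] at hshort; exact absurd hshort (by decide)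
      · rw [isLong_F4.2.2.2] at hshort; exact absurd hshort (by decide)
    have hmj : j ∈ [2, 3] := by
      interval_cases j
      · rw [isLong_F4.1] at hlong; exact absurd hlong (by decide)
      · rw [isLong_F4.2.1] at hlong; exact absurd hlong (by decide)
      · simp
      · simp
    exact group_le_of_genCert2 good3_F4.toGood2 hN genCert2_F4 (by decide) (by decide)
      (genOrb_F4 i hmi) (genOrbB_F4 j hmj)
      (inM_of_rootSubgroup_le _ (good3_F4.toGood1.simple_lt hi) hXi)
      (inM_of_rootSubgroup_le _ (good3_F4.toGood1.simple_lt hj) hXj)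
  · -- G₂
    have hi' : i < 2 := hi
    have hj' : j < 2 := hj
    have h0 : i = 0 := by
      interval_cases i
      · rfl
      · rw [isLong_G2.2] at hshort; exact absurd hshort (by decide)
    have h1 : j = 1 := by
      interval_cases j
      · rw [isLong_G2.1] at hlong; exact absurd hlong (by decide)
      · rfl
    subst h0 h1
    exact group_le_of_genCert2 good3_G2.toGood2 hN genCert2_G2 (by decide) (by decide)
      (genOrb_G2 0 (by simp)) (genOrbB_G2 1 (by simp))
      (inM_of_rootSubgroup_le _ (by decide) hXi) (inM_of_rootSubgroup_le _ (by decide) hXj)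

end

end Cfsg.Agent.Helper7.Chev
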