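import Mathlib
import Cfsg.Agent.Helper7.ChevAutT2
import Cfsg.Agent.Helper7.ChevGen2

set_option autoImplicit false
set_option linter.unusedSectionVars false
set_option linter.unusedVariables false
set_option linter.style.haveILetI false

/-!
Automorphisms of a Chevalley group over a finite field, part F: from the relations between the permutation of
the nodes and the field automorphisms attached to the fundamental roots to a symmetry of the diagram and a single
field automorphism.
-/

namespace Cfsg.Agent.Helper7.Chev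

open Cfsg Cfsg.Lie Matrix

variable {D : ChevalleyDatum} {F : Type*} [Field F]

/-- The relations satisfied by the permutation of the nodes and the field automorphisms. -/
structure NormalData (D : ChevalleyDatum) (F : Type*) [Field F] (ρ : ℕ → ℕ) (τ : ℕ → F ≃+* F) :
    Prop where
  lt : ∀ i, i < D.rank → ρ i < D.rank
  inj : ∀ i j, i < D.rank → j < D.rank → ρ i = ρ j → i = j
  adj : ∀ i j, i < D.rank → j < D.rank → i ≠ j →
    (D.cartan i (D.simple j) = 0 ↔ D.cartan (ρ i) (D.simple (ρ j)) = 0)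
  torus : ∀ i j, i < D.rank → j < D.rank → ∀ t : F, t ≠ 0 →
    (τ i t) ^ (D.cartan (ρ i) (D.simple (ρ j))) = (τ j t) ^ (D.cartan i (D.simple j))

/-- The conclusion: a symmetry of the diagram and a field automorphism. -/
def Endgame (D : ChevalleyDatum) (F : Type*) [Field F] (ρ : ℕ → ℕ) (τ : ℕ → F ≃+* F) : Prop :=
  ∃ (π : Equiv.Perm (Fin D.rank)) (σ : F ≃+* F), D.IsDiagramSymmetry π ∧
    ∀ i : Fin D.rank, ((π i : ℕ) = ρ i) ∧
      ∀ t : F, τ i t = (σ t) ^ (D.graphExp (ringChar F) i (π i))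

theorem NormalData.exists_perm {ρ : ℕ → ℕ} {τ : ℕ → F ≃+* F} (h : NormalData D F ρ τ) :
    ∃ π : Equiv.Perm (Fin D.rank), ∀ i : Fin D.rank, (π i : ℕ) = ρ i := by
  set f : Fin D.rank → Fin D.rank := fun i => ⟨ρ i, h.lt i i.2⟩ with hf
  have hinj : Function.Injective f := by
    intro i j hij
    have := congrArg Fin.val hij
    exact Fin.ext (h.inj i j i.2 j.2 this)
  have hbij : Function.Bijective f := Finite.injective_iff_bijective.mp hinj
  exact ⟨Equiv.ofBijective f hbij, fun i => rfl⟩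

theorem graphExp_self (c i : ℕ) : D.graphExp c i i = 1 := by
  unfold ChevalleyDatum.graphExp
  cases D.isLong (D.simple i) <;> rfl

section torus

variable {ρ : ℕ → ℕ} {τ : ℕ → F ≃+* F} (h : NormalData D F ρ τ)

include h in
/-- Both Cartan integers equal to `-1`: the field automorphisms coincide. -/
theorem NormalData.eq_of_one {i j : ℕ} (hi : i < D.rank) (hj : j < D.rank)
    (h1 : D.cartan i (D.simple j) = -1) (h2 : D.cartan (ρ i) (D.simple (ρ j)) = -1) :
    τ i = τ j := by
  ext t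
  by_cases ht : t = 0
  · rw [ht, map_zero, map_zero]
  · have := h.torus i j hi hj t ht
    rw [h1, h2, _root_.zpow_neg_one, _root_.zpow_neg_one] at this
    exact inv_injective this

include h in
theorem NormalData.pow_of_neg {i j : ℕ} (hi : i < D.rank) (hj : j < D.rank)
    (h1 : D.cartan i (D.simple j) = -1) {n : ℕ} (h2 : D.cartan (ρ i) (D.simple (ρ j)) = -(n : ℤ))
    (t : F) (hn : n ≠ 0) : τ j t = (τ i t) ^ n := by
  by_cases ht : t = 0
  · rw [ht, map_zero, map_zero, zero_pow hn]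
  · have := h.torus i j hi hj t ht
    rw [h1, h2, _root_.zpow_neg_one, _root_.zpow_neg, zpow_natCast] at this
    exact (inv_injective this).symm

include h in
/-- Cartan integers `-1` and `-2`: the characteristic is two and the field automorphisms differ by the
Frobenius map. -/
theorem NormalData.pow_of_two {i j : ℕ} (hi : i < D.rank) (hj : j < D.rank)
    (h1 : D.cartan i (D.simple j) = -1) (h2 : D.cartan (ρ i) (D.simple (ρ j)) = -2) (t : F) :
    τ j t = (τ i t) ^ (ringChar F) := by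
  have hp : ∀ t, τ j t = (τ i t) ^ 2 := fun t =>
    h.pow_of_neg hi hj h1 (n := 2) (by rw [h2]; rfl) t two_ne_zero
  have h2' : (2 : F) = 0 := by
    have e := hp ((τ i).symm 1 + (τ i).symm 1)
    rw [map_add, map_add, hp, RingEquiv.apply_symm_apply] at e
    linear_combination -e
  have hchar : ringChar F = 2 := by
    have hc : ((2 : ℕ) : F) = 0 := by exact_mod_cast h2'
    rcases (Nat.dvd_prime Nat.prime_two).mp (ringChar.dvd hc) with hp' | hp'
    · exact absurd hp' CharP.ringChar_ne_one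
    · exact hp'
  rw [hchar]
  exact hp t

include h in
/-- Cartan integers `-1` and `-3`: the field automorphisms differ by the Frobenius map. -/
theorem NormalData.pow_of_three {i j : ℕ} (hi : i < D.rank) (hj : j < D.rank)
    (h1 : D.cartan i (D.simple j) = -1) (h2 : D.cartan (ρ i) (D.simple (ρ j)) = -3) (t : F) :
    τ j t = (τ i t) ^ (ringChar F) := by
  have hp : ∀ t, τ j t = (τ i t) ^ 3 := fun t =>
    h.pow_of_neg hi hj h1 (n := 3) (by rw [h2]; rfl) t three_ne_zero
  -- additivity of the cube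
  have hadd : ∀ a : F, 3 * (a * (a + 1)) = 0 := by
    intro a
    have e := hp ((τ i).symm a + (τ i).symm 1)
    rw [map_add, map_add, hp, hp, RingEquiv.apply_symm_apply, RingEquiv.apply_symm_apply] at e
    linear_combination -e
  have h6 : (6 : F) = 0 := by
    have := hadd 1
    linear_combination this
  by_cases h3 : (3 : F) = 0
  · have hchar : ringChar F = 3 := by
      have hc : ((3 : ℕ) : F) = 0 := by exact_mod_cast h3
      rcases (Nat.dvd_prime Nat.prime_three).mp (ringChar.dvd hc) with hp' | hp'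
      · exact absurd hp' CharP.ringChar_ne_one
      · exact hp'
    rw [hchar]
    exact hp t
  · have h2' : (2 : F) = 0 := by
      have : (2 : F) * 3 = 0 := by linear_combination h6
      exact (mul_eq_zero.mp this).resolve_right h3
    have hchar : ringChar F = 2 := by
      have hc : ((2 : ℕ) : F) = 0 := by exact_mod_cast h2'
      rcases (Nat.dvd_prime Nat.prime_two).mp (ringChar.dvd hc) with hp' | hp'
      · exact absurd hp' CharP.ringChar_ne_one
      · exact hp'
    rw [hchar, hp t]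
    set a := τ i t with ha
    have := hadd a
    have h4 : a * (a + 1) = 0 := (mul_eq_zero.mp this).resolve_left h3
    have h5 : a ^ 2 = a := by
      have : a ^ 2 + a = 0 := by linear_combination h4
      have h6 : a ^ 2 = -a := eq_neg_of_add_eq_zero_left this
      rw [h6]
      have : a + a = 0 := by linear_combination a * h2'
      exact (eq_neg_of_add_eq_zero_left this).symm
    calc a ^ 3 = a ^ 2 * a := by ring
      _ = a * a := by rw [h5]
      _ = a ^ 2 := by ring

end torus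

/-! ### One root length -/

theorem reach_const {α : Type*} (c : ℕ → α) (es : List (ℕ × ℕ)) (h : ∀ e ∈ es, c e.1 = c e.2) :
    ∀ i ∈ Tab.reach es, c i = c 0 := by
  unfold Tab.reach
  have key : ∀ (es : List (ℕ × ℕ)) (acc : List ℕ), (∀ e ∈ es, c e.1 = c e.2) →
      (∀ x ∈ acc, c x = c 0) →
      ∀ i ∈ es.foldl (fun acc e => if e.1 ∈ acc then e.2 :: acc else acc) acc, c i = c 0 := by
    intro es
    induction es with
    | nil => intro acc _ hacc i hi; exact hacc i hi
    | cons e es ih =>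
      intro acc hes hacc i hi
      rw [List.foldl_cons] at hi
      apply ih _ (fun e' he' => hes e' (List.mem_cons_of_mem _ he')) _ i hi
      intro x hx
      split_ifs at hx with hmem
      · rcases List.mem_cons.mp hx with rfl | hx'
        · rw [← hes e List.mem_cons_self]
          exact hacc _ hmem
        · exact hacc x hx'
      · exact hacc x hx
  exact key es [0] h (fun x hx => by rw [List.mem_singleton.mp hx])

/-- The conclusion when all the roots have the same length. -/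
theorem endgame_simplyLaced (hSL : (tabOf D).SimplyLaced) {es : List (ℕ × ℕ)}
    (hTree : (tabOf D).Tree es) (hlong : ∀ j : Fin D.rank, D.isLong (D.simple j) = false)
    (hpos : 0 < D.rank)
    {ρ : ℕ → ℕ} {τ : ℕ → F ≃+* F} (h : NormalData D F ρ τ) : Endgame D F ρ τ := by
  obtain ⟨π, hπ⟩ := h.exists_perm
  have hSL' : ∀ i j, i < D.rank → j < D.rank → i ≠ j →
      D.cartan i (D.simple j) = 0 ∨ D.cartan i (D.simple j) = -1 := fun i j hi hj hij =>
    hSL i hi j hj hij
  -- the Cartan integers are preserved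
  have hcart : ∀ i j, i < D.rank → j < D.rank → i ≠ j →
      D.cartan (ρ i) (D.simple (ρ j)) = D.cartan i (D.simple j) := by
    intro i j hi hj hij
    have hρij : ρ i ≠ ρ j := fun hρ => hij (h.inj i j hi hj hρ)
    have ha := h.adj i j hi hj hij
    rcases hSL' i j hi hj hij with h0 | h1
    · rw [h0, ha.mp h0]
    · rcases hSL' (ρ i) (ρ j) (h.lt i hi) (h.lt j hj) hρij with h0' | h1'
      · rw [ha.mpr h0'] at h1
        exact absurd h1 (by decide)
      · rw [h1, h1']
  have hedge : ∀ e ∈ es, τ e.1 = τ e.2 := by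
    intro e he
    obtain ⟨h1, h2, h3, h4⟩ := hTree.1 e he
    have hc : D.cartan e.1 (D.simple e.2) = -1 := (hSL' e.1 e.2 h1 h2 h3).resolve_left h4
    exact h.eq_of_one h1 h2 hc (by rw [hcart e.1 e.2 h1 h2 h3, hc])
  have hconst : ∀ i, i < D.rank → τ i = τ 0 := fun i hi =>
    reach_const τ es hedge i (hTree.2 i hi)
  refine ⟨π, τ 0, ?_, fun i => ⟨hπ i, fun t => ?_⟩⟩
  · intro i j hij
    have hij' : (i : ℕ) ≠ j := fun h' => hij (Fin.ext h')
    unfold ChevalleyDatum.bonds
    rw [hπ i, hπ j, hcart i j i.2 j.2 hij', hcart j i j.2 i.2 (Ne.symm hij')]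
  · have : D.graphExp (ringChar F) i (π i) = 1 := by
      unfold ChevalleyDatum.graphExp
      rw [hlong (π i)]
      rfl
    rw [this, pow_one, hconst i i.2]

/-! ### Two root lengths -/

theorem endgame_intro {ρ : ℕ → ℕ} {τ : ℕ → F ≃+* F} (π : Equiv.Perm (Fin D.rank))
    (hπ : ∀ i : Fin D.rank, (π i : ℕ) = ρ i) (hsym : D.IsDiagramSymmetry π) (σ : F ≃+* F)
    (hσ : ∀ i, i < D.rank → ∀ t : F, τ i t = σ t ^ D.graphExp (ringChar F) i (ρ i)) :
    Endgame D F ρ τ :=
  ⟨π, σ, hsym, fun i => ⟨hπ i, fun t => by rw [hπ i]; exact hσ i i.2 t⟩⟩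

set_option maxRecDepth 100000 in
theorem allSym_B2 : ∀ π : Equiv.Perm (Fin chevB2.rank), chevB2.IsDiagramSymmetry π := by
  unfold ChevalleyDatum.IsDiagramSymmetry
  decide

set_option maxRecDepth 100000 in
theorem allSym_G2 : ∀ π : Equiv.Perm (Fin chevG2.rank), chevG2.IsDiagramSymmetry π := by
  unfold ChevalleyDatum.IsDiagramSymmetry
  decide

set_option maxRecDepth 1000000 in
set_option maxHeartbeats 0 in
theorem sym_F4 : ∀ π : Equiv.Perm (Fin chevF4.rank),
    (∀ i j : Fin chevF4.rank, i ≠ j → (chevF4.cartan i (chevF4.simple j) = 0 ↔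
      chevF4.cartan (π i) (chevF4.simple (π j)) = 0)) →
    chevF4.IsDiagramSymmetry π ∧ ((∀ i : Fin chevF4.rank, (π i : ℕ) = i) ∨
      (∀ i : Fin chevF4.rank, (π i : ℕ) = 3 - i)) := by
  unfold ChevalleyDatum.IsDiagramSymmetry
  decide +kernel

theorem graphExp_B2_01 (c : ℕ) : chevB2.graphExp c 0 1 = c := by
  unfold ChevalleyDatum.graphExp
  rw [isLong_B2.1, isLong_B2.2]
  rfl

theorem graphExp_B2_10 (c : ℕ) : chevB2.graphExp c 1 0 = 1 := by
  unfold ChevalleyDatum.graphExp
  rw [isLong_B2.1, isLong_B2.2]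
  rfl

theorem graphExp_G2_01 (c : ℕ) : chevG2.graphExp c 0 1 = c := by
  unfold ChevalleyDatum.graphExp
  rw [isLong_G2.1, isLong_G2.2]
  rfl

theorem graphExp_G2_10 (c : ℕ) : chevG2.graphExp c 1 0 = 1 := by
  unfold ChevalleyDatum.graphExp
  rw [isLong_G2.1, isLong_G2.2]
  rfl

theorem graphExp_F4_03 (c : ℕ) : chevF4.graphExp c 0 3 = c := by
  unfold ChevalleyDatum.graphExp
  rw [isLong_F4.1, isLong_F4.2.2.2]
  rfl

theorem graphExp_F4_12 (c : ℕ) : chevF4.graphExp c 1 2 = c := by
  unfold ChevalleyDatum.graphExp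
  rw [isLong_F4.2.1, isLong_F4.2.2.1]
  rfl

theorem graphExp_F4_21 (c : ℕ) : chevF4.graphExp c 2 1 = 1 := by
  unfold ChevalleyDatum.graphExp
  rw [isLong_F4.2.1, isLong_F4.2.2.1]
  rfl

theorem graphExp_F4_30 (c : ℕ) : chevF4.graphExp c 3 0 = 1 := by
  unfold ChevalleyDatum.graphExp
  rw [isLong_F4.1, isLong_F4.2.2.2]
  rfl

/-- The conclusion for type `B₂`. -/
theorem endgame_B2 {ρ : ℕ → ℕ} {τ : ℕ → F ≃+* F} (h : NormalData chevB2 F ρ τ) :
    Endgame chevB2 F ρ τ := by
  obtain ⟨π, hπ⟩ := h.exists_perm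
  have hsym : chevB2.IsDiagramSymmetry π := allSym_B2 π
  have c01 : chevB2.cartan 0 (chevB2.simple 1) = -2 := by decide
  have c10 : chevB2.cartan 1 (chevB2.simple 0) = -1 := by decide
  have hr0 : (0 : ℕ) < chevB2.rank := by decide
  have hr1 : (1 : ℕ) < chevB2.rank := by decide
  have h0 : ρ 0 < 2 := h.lt 0 hr0
  have h1 : ρ 1 < 2 := h.lt 1 hr1
  have hne : ρ 0 ≠ ρ 1 := fun e => absurd (h.inj 0 1 hr0 hr1 e) (by decide)
  rcases (show (ρ 0 = 0 ∧ ρ 1 = 1) ∨ (ρ 0 = 1 ∧ ρ 1 = 0) by omega) with ⟨e0, e1⟩ | ⟨e0, e1⟩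
  · have hτ : τ 1 = τ 0 := h.eq_of_one hr1 hr0 c10 (by rw [e1, e0]; exact c10)
    refine endgame_intro π hπ hsym (τ 0) ?_
    intro i hi t
    change i < 2 at hi
    interval_cases i
    · rw [e0, graphExp_self, pow_one]
    · rw [e1, graphExp_self, pow_one, hτ]
  · have hτ : ∀ t, τ 0 t = (τ 1 t) ^ (ringChar F) :=
      h.pow_of_two hr1 hr0 c10 (by rw [e1, e0]; exact c01)
    refine endgame_intro π hπ hsym (τ 1) ?_
    intro i hi t
    change i < 2 at hi
    interval_cases i
    · rw [e0, graphExp_B2_01]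
      exact hτ t
    · rw [e1, graphExp_B2_10, pow_one]

/-- The conclusion for type `G₂`. -/
theorem endgame_G2 {ρ : ℕ → ℕ} {τ : ℕ → F ≃+* F} (h : NormalData chevG2 F ρ τ) :
    Endgame chevG2 F ρ τ := by
  obtain ⟨π, hπ⟩ := h.exists_perm
  have hsym : chevG2.IsDiagramSymmetry π := allSym_G2 π
  have c01 : chevG2.cartan 0 (chevG2.simple 1) = -3 := by decide
  have c10 : chevG2.cartan 1 (chevG2.simple 0) = -1 := by decide
  have hr0 : (0 : ℕ) < chevG2.rank := by decide
  have hr1 : (1 : ℕ) < chevG2.rank := by decide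
  have h0 : ρ 0 < 2 := h.lt 0 hr0
  have h1 : ρ 1 < 2 := h.lt 1 hr1
  have hne : ρ 0 ≠ ρ 1 := fun e => absurd (h.inj 0 1 hr0 hr1 e) (by decide)
  rcases (show (ρ 0 = 0 ∧ ρ 1 = 1) ∨ (ρ 0 = 1 ∧ ρ 1 = 0) by omega) with ⟨e0, e1⟩ | ⟨e0, e1⟩
  · have hτ : τ 1 = τ 0 := h.eq_of_one hr1 hr0 c10 (by rw [e1, e0]; exact c10)
    refine endgame_intro π hπ hsym (τ 0) ?_
    intro i hi t
    change i < 2 at hi
    interval_cases i
    · rw [e0, graphExp_self, pow_one]
    · rw [e1, graphExp_self, pow_one, hτ]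
  · have hτ : ∀ t, τ 0 t = (τ 1 t) ^ (ringChar F) :=
      h.pow_of_three hr1 hr0 c10 (by rw [e1, e0]; exact c01)
    refine endgame_intro π hπ hsym (τ 1) ?_
    intro i hi t
    change i < 2 at hi
    interval_cases i
    · rw [e0, graphExp_G2_01]
      exact hτ t
    · rw [e1, graphExp_G2_10, pow_one]

/-- The conclusion for type `F₄`. -/
theorem endgame_F4 {ρ : ℕ → ℕ} {τ : ℕ → F ≃+* F} (h : NormalData chevF4 F ρ τ) :
    Endgame chevF4 F ρ τ := by
  obtain ⟨π, hπ⟩ := h.exists_perm
  have hadj : ∀ i j : Fin chevF4.rank, i ≠ j → (chevF4.cartan i (chevF4.simple j) = 0 ↔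
      chevF4.cartan (π i) (chevF4.simple (π j)) = 0) := by
    intro i j hij
    rw [hπ i, hπ j]
    exact h.adj i j i.2 j.2 (fun h' => hij (Fin.ext h'))
  obtain ⟨hsym, hcase⟩ := sym_F4 π hadj
  have c01 : chevF4.cartan 0 (chevF4.simple 1) = -1 := by decide
  have c10 : chevF4.cartan 1 (chevF4.simple 0) = -1 := by decide
  have c12 : chevF4.cartan 1 (chevF4.simple 2) = -2 := by decide
  have c21 : chevF4.cartan 2 (chevF4.simple 1) = -1 := by decide
  have c23 : chevF4.cartan 2 (chevF4.simple 3) = -1 := by decide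
  have c32 : chevF4.cartan 3 (chevF4.simple 2) = -1 := by decide
  have hr0 : (0 : ℕ) < chevF4.rank := by decide
  have hr1 : (1 : ℕ) < chevF4.rank := by decide
  have hr2 : (2 : ℕ) < chevF4.rank := by decide
  have hr3 : (3 : ℕ) < chevF4.rank := by decide
  have hρ : ∀ (i : ℕ) (hi : i < chevF4.rank), ρ i = ((π ⟨i, hi⟩ : Fin chevF4.rank) : ℕ) :=
    fun i hi => (hπ ⟨i, hi⟩).symm
  rcases hcase with hid | hrev
  · have e0 : ρ 0 = 0 := by rw [hρ 0 hr0, hid]
    have e1 : ρ 1 = 1 := by rw [hρ 1 hr1, hid]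
    have e2 : ρ 2 = 2 := by rw [hρ 2 hr2, hid]
    have e3 : ρ 3 = 3 := by rw [hρ 3 hr3, hid]
    have h01 : τ 0 = τ 1 := h.eq_of_one hr0 hr1 c01 (by rw [e0, e1]; exact c01)
    have h21 : τ 2 = τ 1 := h.eq_of_one hr2 hr1 c21 (by rw [e2, e1]; exact c21)
    have h23 : τ 2 = τ 3 := h.eq_of_one hr2 hr3 c23 (by rw [e2, e3]; exact c23)
    refine endgame_intro π hπ hsym (τ 0) ?_
    intro i hi t
    change i < 4 at hi
    interval_cases i
    · rw [e0, graphExp_self, pow_one]
    · rw [e1, graphExp_self, pow_one, h01]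
    · rw [e2, graphExp_self, pow_one, h01, h21]
    · rw [e3, graphExp_self, pow_one, h01, ← h23, h21]
  · have e0 : ρ 0 = 3 := by rw [hρ 0 hr0, hrev]; rfl
    have e1 : ρ 1 = 2 := by rw [hρ 1 hr1, hrev]; rfl
    have e2 : ρ 2 = 1 := by rw [hρ 2 hr2, hrev]; rfl
    have e3 : ρ 3 = 0 := by rw [hρ 3 hr3, hrev]; rfl
    have h01 : τ 0 = τ 1 := h.eq_of_one hr0 hr1 c01 (by rw [e0, e1]; exact c32)
    have h23 : τ 2 = τ 3 := h.eq_of_one hr2 hr3 c23 (by rw [e2, e3]; exact c10)
    have h21 : ∀ t, τ 1 t = (τ 2 t) ^ (ringChar F) :=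
      h.pow_of_two hr2 hr1 c21 (by rw [e2, e1]; exact c12)
    refine endgame_intro π hπ hsym (τ 2) ?_
    intro i hi t
    change i < 4 at hi
    interval_cases i
    · rw [e0, graphExp_F4_03, h01]
      exact h21 t
    · rw [e1, graphExp_F4_12]
      exact h21 t
    · rw [e2, graphExp_F4_21, pow_one]
    · rw [e3, graphExp_F4_30, pow_one, h23]

/-- The conclusion for the seven tabulated data. -/
theorem endgame_of_mem (D : ChevalleyDatum)
    (hD : D ∈ [chevG2, chevB2, chevD4, chevF4, chevE6, chevE7, chevE8])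
    {ρ : ℕ → ℕ} {τ : ℕ → F ≃+* F} (h : NormalData D F ρ τ) : Endgame D F ρ τ := by
  revert h
  exact chev_cases
    (p := fun D => ∀ {ρ : ℕ → ℕ} {τ : ℕ → F ≃+* F}, NormalData D F ρ τ → Endgame D F ρ τ) D hD
    (fun h => endgame_G2 h) (fun h => endgame_B2 h)
    (fun h => endgame_simplyLaced SimplyLaced_D4 Tree_D4 isLong_D4 (by decide) h)
    (fun h => endgame_F4 h)
    (fun h => endgame_simplyLaced SimplyLaced_E6 Tree_E6 isLongSimple_E6 (by decide) h)
    (fun h => endgame_simplyLaced SimplyLaced_E7 Tree_E7 isLong_E7 (by decide) h)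
    (fun h => endgame_simplyLaced SimplyLaced_E8 Tree_E8 isLong_E8 (by decide) h)

end Cfsg.Agent.Helper7.Chev
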