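import Mathlib
import Cfsg.Agent.S2157
import Cfsg.Agent.Helper7.ChevGood3
import Cfsg.Agent.Helper7.ChevT5
import Cfsg.Agent.Helper7.ChevT6
import Cfsg.Agent.Helper7.ChevT7
import Cfsg.Agent.Helper7.ChevT9
import Cfsg.Agent.Helper7.ChevBN
import Cfsg.Agent.Helper7.ChevRee12
import Cfsg.Agent.Helper7.BNParabolic

set_option autoImplicit false
set_option linter.unusedSectionVars false
set_option linter.unusedVariables false

/-!
An element of a Chevalley group that is the diagonal matrix of a character of the root lattice lies in `H`.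
-/

namespace Cfsg.Agent.Helper7.Chev

open Cfsg Cfsg.Lie Matrix Cfsg.Agent.Helper7.Tri

variable {F : Type*} [Field F]

theorem charDiag_mul_inv (D : ChevalleyDatum) (χ : ℕ → Fˣ) :
    D.charDiag F χ * D.charDiag F (fun s => (χ s)⁻¹) = 1 := by
  unfold ChevalleyDatum.charDiag
  rw [Matrix.diagonal_mul_diagonal, ← Matrix.diagonal_one]
  congr 1
  funext i
  rcases i with i | i
  · simp
  · simp

/-- The statement S2158. -/
theorem chev_S2158 (D : ChevalleyDatum)
    (hD : D ∈ [chevG2, chevB2, chevD4, chevF4, chevE6, chevE7, chevE8])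
    (χ : ℕ → Fˣ) (hχ : D.IsRootCharacter χ) (g : GL D.Idx F) (hg : g ∈ D.group F)
    (hgχ : (g : Matrix D.Idx D.Idx F) = D.charDiag F χ) : g ∈ D.diagonalSubgroup F := by
  have hG := good3_of_mem D hD
  have hT := T0_of_mem D hD
  have h5 := T5_of_mem D hD
  have h6 := T6_of_mem D hD
  have h8 := T8_of_mem D hD
  have h9 := T9_of_mem D hD
  have hG2 := hG.toGood2
  have hG1 := hG2.toGood1
  obtain ⟨P, hPB, hPN, hPS⟩ := exists_bnPair (F := F) hG2 hT hG.t3 hG.t4 h5 h6 h8 h9
  -- the inverse of `g`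
  have hginv : ((g⁻¹ : GL D.Idx F) : Matrix D.Idx D.Idx F) = D.charDiag F (fun s => (χ s)⁻¹) := by
    have h1 : ((g⁻¹ : GL D.Idx F) : Matrix D.Idx D.Idx F) * (g : Matrix D.Idx D.Idx F) = 1 := by
      rw [← Units.val_mul, inv_mul_cancel, Units.val_one]
    calc ((g⁻¹ : GL D.Idx F) : Matrix D.Idx D.Idx F)
        = ((g⁻¹ : GL D.Idx F) : Matrix D.Idx D.Idx F) *
            (D.charDiag F χ * D.charDiag F (fun s => (χ s)⁻¹)) := by
          rw [charDiag_mul_inv, Matrix.mul_one]
      _ = D.charDiag F (fun s => (χ s)⁻¹) := by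
          rw [← Matrix.mul_assoc, ← hgχ, h1, Matrix.one_mul]
  -- `g` normalises `U`
  have hU : ∀ u ∈ D.posUnipotent F, g * u * g⁻¹ ∈ D.posUnipotent F := by
    intro u hu
    unfold ChevalleyDatum.posUnipotent at hu
    induction hu using Subgroup.closure_induction with
    | mem x hx =>
      obtain ⟨r, t, hr, hx⟩ := hx
      apply Subgroup.subset_closure
      refine ⟨r, (χ r : F) * t, hr, ?_⟩
      rw [Units.val_mul, Units.val_mul, hgχ, hginv, hx]
      exact Cfsg.Agent.S2157.result D hD χ hχ r hr.1 t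
    | one => rw [mul_one, mul_inv_cancel]; exact one_mem _
    | mul x y _ _ hx hy =>
      have : g * (x * y) * g⁻¹ = (g * x * g⁻¹) * (g * y * g⁻¹) := by group
      rw [this]; exact mul_mem hx hy
    | inv x _ hx =>
      have : g * x⁻¹ * g⁻¹ = (g * x * g⁻¹)⁻¹ := by group
      rw [this]; exact inv_mem hx
  -- `g` centralises `H`
  have hH : ∀ h ∈ D.diagonalSubgroup F, g * h * g⁻¹ = h := by
    intro h hh
    obtain ⟨d, hd⟩ := diagonalSubgroup_diag hG1 hh
    have hcomm : g * h = h * g := by
      apply Units.ext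
      rw [Units.val_mul, Units.val_mul, hgχ, hd]
      unfold ChevalleyDatum.charDiag
      rw [Matrix.diagonal_mul_diagonal, Matrix.diagonal_mul_diagonal]
      congr 1
      funext i
      exact mul_comm _ _
    rw [hcomm, mul_assoc, mul_inv_cancel, mul_one]
  -- hence `g` normalises `B`, so lies in `B`
  have hgB : (⟨g, hg⟩ : ↥(D.group F)) ∈ P.B := by
    apply BN.mem_of_conj_B_le P le_rfl
    intro b hb
    rw [hPB] at hb ⊢
    rw [Subgroup.mem_subgroupOf] at hb ⊢
    obtain ⟨u, hu, h, hh, e⟩ := borel_decomp hG2 hb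
    have : ((⟨g, hg⟩ * b * (⟨g, hg⟩ : ↥(D.group F))⁻¹ : ↥(D.group F)) : GL D.Idx F) =
        (g * u * g⁻¹) * (g * h * g⁻¹) := by
      push_cast
      rw [e]
      group
    rw [this, hH h hh]
    exact mul_mem (le_sup_left (a := D.posUnipotent F) (hU u hu))
      (le_sup_right (b := D.diagonalSubgroup F) hh)
  rw [hPB, Subgroup.mem_subgroupOf] at hgB
  obtain ⟨u, hu, h, hh, e⟩ := borel_decomp hG2 hgB
  change g = u * h at e
  -- `u = g h⁻¹` is diagonal and unitriangular, hence trivial
  have hu1 : u = 1 := by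
    have hue : u = g * h⁻¹ := by rw [e]; group
    obtain ⟨d, hd⟩ := diagonalSubgroup_diag hG1 (inv_mem hh)
    have hud : (u : Matrix D.Idx D.Idx F) =
        Matrix.diagonal (fun i => Sum.elim (fun _ => (1 : F)) (fun r => (χ r.val : F)) i * d i) := by
      rw [hue, Units.val_mul, hgχ, hd]
      unfold ChevalleyDatum.charDiag
      rw [Matrix.diagonal_mul_diagonal]
    have hR : Raises (lvl D) 1 ((u : Matrix D.Idx D.Idx F) - 1) := posUnipotent_le D hT F hu
    apply Units.ext
    rw [Units.val_one, hud]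
    ext i j
    by_cases hij : i = j
    · subst hij
      rw [Matrix.diagonal_apply_eq, Matrix.one_apply_eq]
      by_contra hne
      have h1 : ((u : Matrix D.Idx D.Idx F) - 1) i i ≠ 0 := by
        rw [hud, Matrix.sub_apply, Matrix.diagonal_apply_eq, Matrix.one_apply_eq]
        exact sub_ne_zero.mpr hne
      have := hR i i h1
      omega
    · rw [Matrix.diagonal_apply_ne _ hij, Matrix.one_apply_ne hij]
  rw [e, hu1, one_mul]
  exact hh

end Cfsg.Agent.Helper7.Chev
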