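import Mathlib
import Cfsg.Agent.Helper7.ChevAutT3
import Cfsg.Agent.Helper7.ChevDiagH
import Cfsg.Agent.S2157

set_option autoImplicit false
set_option linter.unusedSectionVars false
set_option linter.unusedVariables false
set_option linter.style.haveILetI false

/-!
Characters of the root lattice with prescribed values on the fundamental roots, and the diagonal automorphisms
of a Chevalley group.
-/

namespace Cfsg.Agent.Helper7.Chev

open Cfsg Cfsg.Lie Matrix

variable {D : ChevalleyDatum} {F : Type*} [Field F]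

/-- The `k`-th coordinate of the root `s` on the fundamental roots. -/
def coordZ (D : ChevalleyDatum) (W : List (List ℤ)) (N : ℤ) (k s : ℕ) : ℤ := (tabOf D).wt W k s / N

/-- The character of the root lattice with given values on the fundamental roots. -/
noncomputable def rootChar (D : ChevalleyDatum) (W : List (List ℤ)) (N : ℤ) (a : ℕ → Fˣ) (s : ℕ) : Fˣ :=
  ∏ k ∈ Finset.range D.rank, (a k) ^ (coordZ D W N k s)

section character

variable (hG : Good2 D) {W : List (List ℤ)} {N : ℤ} (h40 : (tabOf D).T40 W N)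

include hG h40 in
theorem coordZ_neg {r : ℕ} (hr : r < D.nroots) {k : ℕ} (hk : k < D.rank) :
    coordZ D W N k (D.neg r) = - coordZ D W N k r := by
  unfold coordZ
  rw [wt_neg hG hr k, Int.neg_ediv_of_dvd (h40.2.1 r hr k hk)]

include hG h40 in
theorem coordZ_chain {r s k' : ℕ} (hr : r < D.nroots) (hs : s < D.nroots)
    (hc : D.chainRoot r s 1 = some k') {k : ℕ} (hk : k < D.rank) :
    coordZ D W N k k' = coordZ D W N k r + coordZ D W N k s := by
  unfold ChevalleyDatum.chainRoot at hc
  rw [Option.map_eq_some_iff] at hc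
  obtain ⟨e, he, rfl⟩ := hc
  have hmem : (e, 0) ∈ (D.chainEntry r s).zipIdx := List.mk_mem_zipIdx_iff_getElem?.mpr he
  have h1 := wt_chain (W := W) hG hr hs k hmem
  unfold coordZ
  simp only [zero_add, Nat.cast_one, one_mul] at h1
  rw [h1, Int.add_ediv_of_dvd_right (h40.2.1 r hr k hk), add_comm]

include h40 in
theorem coordZ_simple {j k : ℕ} (hj : j < D.rank) (hk : k < D.rank) :
    coordZ D W N k (D.simple j) = if k = j then 1 else 0 := by
  unfold coordZ
  have := h40.2.2 j hj k hk
  change (tabOf D).wt W k (D.simple j) = _ at this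
  rw [this]
  split_ifs
  · exact Int.ediv_self (ne_of_gt h40.1)
  · exact Int.zero_ediv N

include h40 in
theorem rootChar_simple (a : ℕ → Fˣ) {j : ℕ} (hj : j < D.rank) :
    rootChar D W N a (D.simple j) = a j := by
  unfold rootChar
  rw [Finset.prod_eq_single j]
  · rw [coordZ_simple h40 hj hj, if_pos rfl, zpow_one]
  · intro k hk hkj
    rw [coordZ_simple h40 hj (Finset.mem_range.mp hk), if_neg hkj, zpow_zero]
  · intro h
    exact absurd (Finset.mem_range.mpr hj) h

include hG h40 in
theorem isRootCharacter_rootChar (a : ℕ → Fˣ) : D.IsRootCharacter (rootChar D W N a) := by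
  constructor
  · intro r hr
    unfold rootChar
    rw [← Finset.prod_inv_distrib]
    apply Finset.prod_congr rfl
    intro k hk
    rw [coordZ_neg hG h40 hr (Finset.mem_range.mp hk), _root_.zpow_neg]
  · intro r s k' hr hs hc
    unfold rootChar
    rw [← Finset.prod_mul_distrib]
    apply Finset.prod_congr rfl
    intro k hk
    rw [coordZ_chain hG h40 hr hs hc (Finset.mem_range.mp hk), _root_.zpow_add]

end character

theorem isRootCharacter_inv {χ : ℕ → Fˣ} (hχ : D.IsRootCharacter χ) :
    D.IsRootCharacter (fun s => (χ s)⁻¹) := by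
  constructor
  · intro r hr
    show (χ (D.neg r))⁻¹ = ((χ r)⁻¹)⁻¹
    rw [hχ.1 r hr]
  · intro r s k hr hs hc
    show (χ k)⁻¹ = (χ r)⁻¹ * (χ s)⁻¹
    rw [hχ.2 r s k hr hs hc, _root_.mul_inv_rev, mul_comm]

/-- The diagonal matrix of a character as an invertible matrix. -/
noncomputable def charDiagGL (D : ChevalleyDatum) (χ : ℕ → Fˣ) : GL D.Idx F :=
  ⟨D.charDiag F χ, D.charDiag F (fun s => (χ s)⁻¹), charDiag_mul_inv D χ, by
    have := charDiag_mul_inv (F := F) D (fun s => (χ s)⁻¹)
    simp only [inv_inv] at this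
    exact this⟩

theorem charDiagGL_coe (χ : ℕ → Fˣ) :
    ((charDiagGL D χ : GL D.Idx F) : Matrix D.Idx D.Idx F) = D.charDiag F χ := rfl

theorem charDiagGL_inv_coe (χ : ℕ → Fˣ) :
    (((charDiagGL D χ)⁻¹ : GL D.Idx F) : Matrix D.Idx D.Idx F) = D.charDiag F (fun s => (χ s)⁻¹) := rfl

theorem charDiagGL_inv (χ : ℕ → Fˣ) :
    (charDiagGL D χ : GL D.Idx F)⁻¹ = charDiagGL D (fun s => (χ s)⁻¹) := by
  apply Units.ext
  rfl

end Cfsg.Agent.Helper7.Chev
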