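import Mathlib
import Cfsg.Agent.Helper7.ChevAutE
import Cfsg.Agent.Helper7.ChevAutF
import Cfsg.Agent.Helper7.ChevAutG
import Cfsg.Agent.Helper7.ChevFieldAut

set_option autoImplicit false
set_option linter.unusedSectionVars false
set_option linter.unusedVariables false
set_option linter.style.haveILetI false

/-!
Automorphisms of a Chevalley group over a finite field, part H: the diagonal automorphisms, and the decomposition
of an arbitrary automorphism as a product of an inner, a diagonal, a graph and a field automorphism.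
-/

namespace Cfsg.Agent.Helper7.Chev

open Cfsg Cfsg.Lie Matrix

variable {D : ChevalleyDatum} {F : Type*} [Field F]

section diagAut

variable (hD : D ∈ [chevG2, chevB2, chevD4, chevF4, chevE6, chevE7, chevE8])

include hD in
/-- Conjugation by the diagonal matrix of a character of the root lattice preserves the group. -/
theorem charDiag_conj_mem {χ : ℕ → Fˣ} (hχ : D.IsRootCharacter χ) {g : GL D.Idx F}
    (hg : g ∈ D.group F) : charDiagGL D χ * g * (charDiagGL D χ)⁻¹ ∈ D.group F := by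
  have hG := good2_of_mem D hD
  have hG1 := hG.toGood1
  have hle : D.group F ≤ (D.group F).comap (MulAut.conj (charDiagGL D χ)).toMonoidHom := by
    unfold ChevalleyDatum.group
    rw [Subgroup.closure_le]
    rintro x ⟨r, t, hx⟩
    rw [SetLike.mem_coe, Subgroup.mem_comap]
    change charDiagGL D χ * x * (charDiagGL D χ)⁻¹ ∈ _
    have : charDiagGL D χ * x * (charDiagGL D χ)⁻¹ = xGL hG1 r.2 ((χ r : F) * t) := by
      apply Units.ext
      rw [Units.val_mul, Units.val_mul, charDiagGL_coe, charDiagGL_inv_coe, hx, xGL_coe,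
        ← x_of_lt D F r.2]
      exact Cfsg.Agent.S2157.result D hD χ hχ r r.2 t
    rw [this]
    exact xGL_mem_group hG r.2 _
  exact hle hg

/-- The diagonal automorphism attached to a character of the root lattice. -/
noncomputable def diagAut (χ : ℕ → Fˣ) (hχ : D.IsRootCharacter χ) :
    ↥(D.group F) ≃* ↥(D.group F) where
  toFun g := ⟨charDiagGL D χ * g * (charDiagGL D χ)⁻¹, charDiag_conj_mem hD hχ g.2⟩
  invFun g := ⟨(charDiagGL D χ)⁻¹ * g * charDiagGL D χ, by
    have := charDiag_conj_mem hD (isRootCharacter_inv hχ) g.2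
    rwa [← charDiagGL_inv, inv_inv] at this⟩
  left_inv g := Subtype.ext (by
    show (charDiagGL D χ)⁻¹ * (charDiagGL D χ * g * (charDiagGL D χ)⁻¹) * charDiagGL D χ = g
    group)
  right_inv g := Subtype.ext (by
    show charDiagGL D χ * ((charDiagGL D χ)⁻¹ * g * charDiagGL D χ) * (charDiagGL D χ)⁻¹ = g
    group)
  map_mul' a b := Subtype.ext (by
    show charDiagGL D χ * ((a * b : ↥(D.group F)) : GL D.Idx F) * (charDiagGL D χ)⁻¹ =
      charDiagGL D χ * a * (charDiagGL D χ)⁻¹ * (charDiagGL D χ * b * (charDiagGL D χ)⁻¹)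
    rw [Subgroup.coe_mul]
    group)

theorem diagAut_coe (χ : ℕ → Fˣ) (hχ : D.IsRootCharacter χ) (g : ↥(D.group F)) :
    ((diagAut hD χ hχ g : ↥(D.group F)) : GL D.Idx F) =
      charDiagGL D χ * g * (charDiagGL D χ)⁻¹ := rfl

theorem isDiagonalAut_diagAut (χ : ℕ → Fˣ) (hχ : D.IsRootCharacter χ) :
    D.IsDiagonalAut (diagAut (F := F) hD χ hχ) := by
  refine ⟨χ, hχ, fun g => ?_⟩
  rw [diagAut_coe, Units.val_mul, Units.val_mul, charDiagGL_coe, charDiagGL_inv_coe]

theorem diagAut_inv_apply (χ : ℕ → Fˣ) (hχ : D.IsRootCharacter χ) (g : ↥(D.group F)) :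
    diagAut hD χ hχ (diagAut hD (fun s => (χ s)⁻¹) (isRootCharacter_inv hχ) g) = g := by
  apply Subtype.ext
  rw [diagAut_coe, diagAut_coe, ← charDiagGL_inv]
  group

theorem diagAut_phiG_upper (hG : Good2 D) (χ : ℕ → Fˣ) (hχ : D.IsRootCharacter χ) {r : ℕ}
    (hr : r < D.nroots) (t : F) :
    diagAut hD χ hχ (phiG hG hr (upperSL t)) = phiG hG hr (upperSL ((χ r : F) * t)) := by
  apply eq_phiG_upper
  rw [diagAut_coe, Units.val_mul, Units.val_mul, charDiagGL_coe, charDiagGL_inv_coe, phiG_upper_mat]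
  exact Cfsg.Agent.S2157.result D hD χ hχ r hr t

theorem diagAut_phiG_lower (hG : Good2 D) (χ : ℕ → Fˣ) (hχ : D.IsRootCharacter χ) {r : ℕ}
    (hr : r < D.nroots) (t : F) :
    diagAut hD χ hχ (phiG hG hr (lowerSL t)) =
      phiG hG hr (lowerSL ((((χ r)⁻¹ : Fˣ) : F) * t)) := by
  apply eq_phiG_lower
  rw [diagAut_coe, Units.val_mul, Units.val_mul, charDiagGL_coe, charDiagGL_inv_coe, phiG_lower_mat,
    ← hχ.1 r hr]
  exact Cfsg.Agent.S2157.result D hD χ hχ (D.neg r) (hG.toGood1.neg_lt hr) t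

end diagAut

/-! ### Field automorphisms -/

theorem isFieldAut_chevFieldAut (σ : F ≃+* F) :
    D.IsFieldAut (Cfsg.Agent.Helper7.chevFieldAut D σ) := by
  refine ⟨σ, fun g r t hr hg => ?_⟩
  rw [Cfsg.Agent.Helper7.chevFieldAut_coe, hg, x_of_lt D F hr, x_of_lt D F hr]
  exact Cfsg.Agent.Helper7.xMat_map D (σ : F →+* F) ⟨r, hr⟩ t

theorem chevFieldAut_phiG_upper (hG : Good2 D) (σ : F ≃+* F) {r : ℕ} (hr : r < D.nroots) (t : F) :
    Cfsg.Agent.Helper7.chevFieldAut D σ (phiG hG hr (upperSL t)) = phiG hG hr (upperSL (σ t)) := by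
  apply eq_phiG_upper
  rw [Cfsg.Agent.Helper7.chevFieldAut_coe, phiG_upper_mat, x_of_lt D F hr, x_of_lt D F hr]
  exact Cfsg.Agent.Helper7.xMat_map D (σ : F →+* F) ⟨r, hr⟩ t

theorem chevFieldAut_phiG_lower (hG : Good2 D) (σ : F ≃+* F) {r : ℕ} (hr : r < D.nroots) (t : F) :
    Cfsg.Agent.Helper7.chevFieldAut D σ (phiG hG hr (lowerSL t)) = phiG hG hr (lowerSL (σ t)) := by
  have hnr := hG.toGood1.neg_lt hr
  apply eq_phiG_lower
  rw [Cfsg.Agent.Helper7.chevFieldAut_coe, phiG_lower_mat, x_of_lt D F hnr, x_of_lt D F hnr]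
  exact Cfsg.Agent.Helper7.xMat_map D (σ : F →+* F) ⟨D.neg r, hnr⟩ t

end Cfsg.Agent.Helper7.Chev
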