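import Mathlib
import Cfsg.Agent.Helper7.ChevAutH

set_option autoImplicit false
set_option linter.unusedSectionVars false
set_option linter.unusedVariables false
set_option linter.style.haveILetI false

/-!
Automorphisms of a Chevalley group over a finite field, part I: every automorphism is a product of an inner, a
diagonal, a graph and a field automorphism.
-/

namespace Cfsg.Agent.Helper7.Chev

open Cfsg Cfsg.Lie Matrix

variable {D : ChevalleyDatum} {F : Type*} [Field F]

/-- The normal form of an automorphism stabilising `U` and `V`: the data of the decomposition. -/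
theorem exists_normalData [Fintype F] (D : ChevalleyDatum)
    (hD : D ∈ [chevG2, chevB2, chevD4, chevF4, chevE6, chevE7, chevE8])
    {θ : ↥(D.group F) ≃* ↥(D.group F)}
    (hU : MapsOnto θ (D.posUnipotent F) (D.posUnipotent F))
    (hV : MapsOnto θ (D.negUnipotent F) (D.negUnipotent F)) :
    ∃ (ρ : ℕ → ℕ) (c : ℕ → Fˣ) (τ : ℕ → F ≃+* F),
      NormalAut (good3_of_mem D hD).toGood2 θ ρ c τ ∧ NormalData D F ρ τ := by
  have hG3 := good3_of_mem D hD
  have hG := hG3.toGood2
  have hT := T0_of_mem D hD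
  have h5 := T5_of_mem D hD
  have h6 := T6_of_mem D hD
  have h8 := T8_of_mem D hD
  have h9 := T9_of_mem D hD
  have hSC := simpleComm_of_mem D hD
  have hAN := adjNil_of_mem D hD
  have hAC := adjComm_of_mem D hD
  obtain ⟨w₀, hw₀, hw₀s⟩ := exists_W0ok_simple D hD
  obtain ⟨ρ, f, g, hS⟩ := exists_simpleAut hG3 hT h5 h6 h8 h9 hSC hw₀ hw₀s hU hV
  obtain ⟨c, τ, hN⟩ := exists_normalAut_of_simpleAut hG hT h8 hS
  refine ⟨ρ, c, τ, hN, ?_⟩
  exact
    { lt := fun i hi => (hN i hi).1
      inj := fun i j hi hj hρ => normalAut_inj hG3 hT h8 hSC hN hi hj hρ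
      adj := fun i j hi hj hij => normalAut_adj hG3 hT h8 hSC hAN hAC hN hi hj hij
      torus := fun i j hi hj t ht => normalAut_torus hG3 hT h8 hN hi hj ht }

/-- The statement of S2156: every automorphism of a Chevalley group over a finite field is the product of an
inner, a diagonal, a graph and a field automorphism. -/
theorem chev_S2156 [Finite F] (D : ChevalleyDatum)
    (hD : D ∈ [chevG2, chevB2, chevD4, chevF4, chevE6, chevE7, chevE8])
    (θ : ↥(D.group F) ≃* ↥(D.group F)) :
    ∃ (x : ↥(D.group F)) (d g f : ↥(D.group F) ≃* ↥(D.group F)),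
      D.IsDiagonalAut d ∧ D.IsGraphAut g ∧ D.IsFieldAut f ∧
        ∀ y : ↥(D.group F), θ y = x * d (g (f y)) * x⁻¹ := by
  classical
  haveI : Fintype F := Fintype.ofFinite F
  obtain ⟨p, hp⟩ := CharP.exists F
  haveI := hp
  haveI : Fact p.Prime := ⟨CharP.char_is_prime F p⟩
  have hG3 := good3_of_mem D hD
  have hG := hG3.toGood2
  have hG1 := hG.toGood1
  have hT := T0_of_mem D hD
  have h5 := T5_of_mem D hD
  have h6 := T6_of_mem D hD
  have h7 := T7_of_mem D hD
  have h8 := T8_of_mem D hD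
  have h9 := T9_of_mem D hD
  obtain ⟨w₀, hw₀, hw₀s⟩ := exists_W0ok_simple D hD
  have hSyl := chev_S2326 (F := F) p D hD
  obtain ⟨x, hU, hV⟩ := exists_normalize hG hT hG3.t3 hG3.t4 h5 h6 h7 h8 h9 p hw₀ hSyl θ
  set θ' : ↥(D.group F) ≃* ↥(D.group F) := θ.trans (MulAut.conj x) with hθ'
  obtain ⟨ρ, c, τ, hN, hND⟩ := exists_normalData D hD hU hV
  obtain ⟨π, σ, hsym, hπσ⟩ := endgame_of_mem D hD hND
  obtain ⟨W, N, h40⟩ := T40_of_mem D hD
  -- the character
  set a : ℕ → Fˣ := fun k => if hk : k < D.rank then c (π.symm ⟨k, hk⟩) else 1 with ha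
  have haρ : ∀ i : Fin D.rank, a (ρ i) = c i := by
    intro i
    rw [← (hπσ i).1, ha]
    simp only [Fin.is_lt, dite_true, Fin.eta, Equiv.symm_apply_apply]
  set χ : ℕ → Fˣ := rootChar D W N a with hχdef
  have hχ : D.IsRootCharacter χ := isRootCharacter_rootChar hG h40 a
  have hχs : ∀ i : Fin D.rank, χ (D.simple (ρ i)) = c i := by
    intro i
    rw [hχdef, rootChar_simple h40 a (hND.lt i i.2), haρ]
  set d := diagAut (F := F) hD χ hχ with hd
  set dinv := diagAut (F := F) hD (fun s => (χ s)⁻¹) (isRootCharacter_inv hχ) with hdinv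
  set fσ := Cfsg.Agent.Helper7.chevFieldAut D σ with hfσ
  set gr : ↥(D.group F) ≃* ↥(D.group F) := fσ.symm.trans (θ'.trans dinv) with hgr
  refine ⟨x⁻¹, d, gr, fσ, isDiagonalAut_diagAut hD χ hχ, ?_, isFieldAut_chevFieldAut σ, ?_⟩
  · refine ⟨π, hsym, fun g i t => ⟨fun hg => ?_, fun hg => ?_⟩⟩
    · obtain ⟨hj, hup, -, -⟩ := hN i i.2
      have hp' := hG1.simple_lt i.2
      have hg' : g = fσ (phiG hG hp' (upperSL (σ.symm t))) := by
        rw [hfσ, chevFieldAut_phiG_upper, RingEquiv.apply_symm_apply]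
        exact eq_phiG_upper hG hp' hg
      have e1 : gr g = phiG hG (hG1.simple_lt hj)
          (upperSL (t ^ D.graphExp (ringChar F) i (π i))) := by
        rw [hgr, hg']
        show dinv (θ' (fσ.symm (fσ _))) = _
        rw [MulEquiv.symm_apply_apply, hup, hdinv, diagAut_phiG_upper, (hπσ i).2,
          RingEquiv.apply_symm_apply, hχs i]
        congr 2
        rw [← mul_assoc, ← Units.val_mul, inv_mul_cancel, Units.val_one, one_mul]
      rw [e1, phiG_upper_mat, (hπσ i).1]
    · obtain ⟨hj, -, hlow, -⟩ := hN i i.2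
      have hp' := hG1.simple_lt i.2
      have hg' : g = fσ (phiG hG hp' (lowerSL (σ.symm t))) := by
        rw [hfσ, chevFieldAut_phiG_lower, RingEquiv.apply_symm_apply]
        exact eq_phiG_lower hG hp' hg
      have e1 : gr g = phiG hG (hG1.simple_lt hj)
          (lowerSL (t ^ D.graphExp (ringChar F) i (π i))) := by
        rw [hgr, hg']
        show dinv (θ' (fσ.symm (fσ _))) = _
        rw [MulEquiv.symm_apply_apply, hlow, hdinv, diagAut_phiG_lower, (hπσ i).2,
          RingEquiv.apply_symm_apply, hχs i]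
        congr 2
        rw [inv_inv, ← mul_assoc, ← Units.val_mul, mul_inv_cancel, Units.val_one, one_mul]
      rw [e1, phiG_lower_mat, (hπσ i).1]
  · intro y
    have e1 : d (gr (fσ y)) = θ' y := by
      rw [hgr]
      show d (dinv (θ' (fσ.symm (fσ y)))) = _
      rw [MulEquiv.symm_apply_apply, hd, hdinv, diagAut_inv_apply]
    rw [e1, hθ']
    show θ y = x⁻¹ * (x * θ y * x⁻¹) * x⁻¹⁻¹
    group

end Cfsg.Agent.Helper7.Chev
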