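import Mathlib
import Cfsg.Agent.Helper7.ChevAutI
import Cfsg.Agent.Helper7.ChevCardH
import Cfsg.Agent.Helper7.ChevRootCent
import Cfsg.Prelude.Def_KGroupFacts

set_option autoImplicit false
set_option linter.unusedSectionVars false
set_option linter.unusedVariables false
set_option linter.style.haveILetI false

/-!
The outer automorphism group of a Chevalley group over a finite field, part A: the order of `Out` is the order of
the group of the automorphisms stabilising `U` and `V` divided by the order of `H`.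
-/

namespace Cfsg.Agent.Helper7.Chev

open Cfsg Cfsg.Lie Matrix

variable {D : ChevalleyDatum} {F : Type*} [Field F]

/-- The group of the automorphisms stabilising `U` and `V`. -/
def stabUV (D : ChevalleyDatum) (F : Type*) [Field F] : Subgroup (MulAut ↥(D.group F)) where
  carrier := {θ | MapsOnto θ (D.posUnipotent F) (D.posUnipotent F) ∧
    MapsOnto θ (D.negUnipotent F) (D.negUnipotent F)}
  mul_mem' := by
    rintro a b ⟨ha1, ha2⟩ ⟨hb1, hb2⟩
    exact ⟨hb1.trans ha1, hb2.trans ha2⟩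
  one_mem' := ⟨fun x => Iff.rfl, fun x => Iff.rfl⟩
  inv_mem' := by
    rintro a ⟨ha1, ha2⟩
    exact ⟨ha1.symm, ha2.symm⟩

theorem mem_stabUV {θ : MulAut ↥(D.group F)} :
    θ ∈ stabUV D F ↔ MapsOnto θ (D.posUnipotent F) (D.posUnipotent F) ∧
      MapsOnto θ (D.negUnipotent F) (D.negUnipotent F) := Iff.rfl

/-- An element of the group whose inner automorphism maps `K` onto `K` normalises `K`. -/
theorem mem_normalizer_of_mapsOnto_conj {K : Subgroup (GL D.Idx F)} (hK : K ≤ D.group F)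
    {y : ↥(D.group F)} (h : MapsOnto (MulAut.conj y) K K) :
    (y : GL D.Idx F) ∈ Subgroup.normalizer (K : Set (GL D.Idx F)) := by
  rw [Subgroup.mem_set_normalizer_iff]
  intro g
  constructor
  · intro hg
    exact (h ⟨g, hK hg⟩).mp hg
  · intro hg
    have hgG : g ∈ D.group F := by
      have h1 := hK hg
      have : g = (y : GL D.Idx F)⁻¹ * ((y : GL D.Idx F) * g * (y : GL D.Idx F)⁻¹) * y := by group
      rw [this]
      exact mul_mem (mul_mem (inv_mem y.2) h1) y.2
    exact (h ⟨g, hgG⟩).mpr hg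

theorem mapsOnto_conj_of_mem_normalizer {K : Subgroup (GL D.Idx F)} {y : ↥(D.group F)}
    (h : (y : GL D.Idx F) ∈ Subgroup.normalizer (K : Set (GL D.Idx F))) :
    MapsOnto (MulAut.conj y) K K := by
  intro x
  exact Subgroup.mem_set_normalizer_iff.mp h x

section nv

variable (hG : Good2 D) (hT : T0 D) (h3 : (tabOf D).T3) (h4 : (tabOf D).T4 60) (h5 : (tabOf D).T5)
  (h6 : (tabOf D).T6) (h8 : (tabOf D).T8) (h9 : (tabOf D).T9)
  {w₀ : List ℕ} (hw₀ : (tabOf D).W0ok w₀)

include hG hT h3 h4 h5 h6 h8 h9 hw₀ in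
/-- The normaliser of `V` in the Chevalley group is `VH`. -/
theorem normalizer_neg_inf_group_le :
    Subgroup.normalizer (D.negUnipotent F : Set (GL D.Idx F)) ⊓ D.group F ≤
      D.negUnipotent F ⊔ D.diagonalSubgroup F := by
  have hG1 := hG.toGood1
  set n : GL D.Idx F := nWordGL hG w₀ with hn
  have hnM : n ∈ D.monomialSubgroup F := nWordGL_mem hG w₀
  have hnG : n ∈ D.group F := monomialSubgroup_le_group hG1 hnM
  have hnH := monomialSubgroup_le_normalizer (F := F) hG hnM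
  have hUV : (D.posUnipotent F).map (MulAut.conj n).toMonoidHom = D.negUnipotent F :=
    nWordGL_conj_pos_eq_neg hG hT hw₀
  have hHH : (D.diagonalSubgroup F).map (MulAut.conj n).toMonoidHom = D.diagonalSubgroup F := by
    apply le_antisymm
    · rintro _ ⟨h, hh, rfl⟩
      exact conj_mem_diagonal hnH hh
    · intro h hh
      refine ⟨n⁻¹ * h * n, conj_mem_diagonal' hnH hh, ?_⟩
      show n * (n⁻¹ * h * n) * n⁻¹ = h
      group
  intro y hy
  obtain ⟨hyN, hyG⟩ := Subgroup.mem_inf.mp hy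
  -- `n⁻¹ y n` normalises `U`
  have h1 : n⁻¹ * y * n ∈ Subgroup.normalizer (D.posUnipotent F : Set (GL D.Idx F)) := by
    rw [Subgroup.mem_set_normalizer_iff]
    intro g
    have e1 : ∀ z : GL D.Idx F, z ∈ D.posUnipotent F ↔ n * z * n⁻¹ ∈ D.negUnipotent F := by
      intro z
      rw [← hUV]
      constructor
      · intro hz
        exact ⟨z, hz, rfl⟩
      · rintro ⟨z', hz', e⟩
        have : z' = z := (MulAut.conj n).injective e
        rwa [← this]
    show g ∈ D.posUnipotent F ↔ n⁻¹ * y * n * g * (n⁻¹ * y * n)⁻¹ ∈ D.posUnipotent F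
    have e2 : n * g * n⁻¹ ∈ D.negUnipotent F ↔ y * (n * g * n⁻¹) * y⁻¹ ∈ D.negUnipotent F :=
      Subgroup.mem_set_normalizer_iff.mp hyN (n * g * n⁻¹)
    rw [e1 g, e1 (n⁻¹ * y * n * g * (n⁻¹ * y * n)⁻¹), e2]
    have : n * (n⁻¹ * y * n * g * (n⁻¹ * y * n)⁻¹) * n⁻¹ = y * (n * g * n⁻¹) * y⁻¹ := by group
    rw [this]
  have h2 : n⁻¹ * y * n ∈ D.borelSubgroup F :=
    normalizer_pos_inf_group_le hG hT h3 h4 h5 h6 h8 h9
      (Subgroup.mem_inf.mpr ⟨h1, mul_mem (mul_mem (inv_mem hnG) hyG) hnG⟩)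
  have h3' : y ∈ (D.borelSubgroup F).map (MulAut.conj n).toMonoidHom := by
    refine ⟨n⁻¹ * y * n, h2, ?_⟩
    show n * (n⁻¹ * y * n) * n⁻¹ = y
    group
  unfold ChevalleyDatum.borelSubgroup at h3'
  rwa [Subgroup.map_sup, hUV, hHH] at h3'

end nv

section central

variable (hG : Good2 D) (hT : T0 D) (h8 : (tabOf D).T8)

include hG hT h8 in
/-- An element of `H` commuting with all the root elements is trivial. -/
theorem diagonal_eq_one_of_central {h : GL D.Idx F} (hh : h ∈ D.diagonalSubgroup F)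
    (hc : ∀ (r : ℕ) (hr : r < D.nroots), h * xGL hG.toGood1 hr 1 = xGL hG.toGood1 hr 1 * h) :
    h = 1 := by
  have hG1 := hG.toGood1
  rw [← torusHom_range hG1] at hh
  obtain ⟨c, rfl⟩ := hh
  rw [torusHom_ker]
  funext s
  apply Units.ext
  rw [← tEntry_extc]
  have h1 := hc s.val s.2
  have h2 := tMat_mul_x (F := F) hG (extc D.rank c) (fun i _ => extc_ne_zero c i) s.2 (1 : F)
  have h3 : xGL hG1 s.2 (tEntry D (List.range D.rank) (extc D.rank c) (Sum.inr s) * 1) *
      torusHom D F c = xGL hG1 s.2 1 * torusHom D F c := by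
    rw [← h1]
    apply Units.ext
    rw [Units.val_mul, Units.val_mul, xGL_coe, xGL_coe, torusHom_apply, tGL_coe]
    exact h2.symm
  have h4 := xGL_injective hG hT h8 s.2 (mul_right_cancel h3)
  rw [mul_one] at h4
  rw [h4]
  rfl

end central

theorem negUnipotent_le_group' : D.negUnipotent F ≤ D.group F := by
  unfold ChevalleyDatum.negUnipotent
  rw [Subgroup.closure_le]
  rintro g ⟨r, t, hr, hg⟩
  apply Subgroup.subset_closure
  exact ⟨⟨r, hr.1⟩, t, by rw [hg, x_of_lt D F hr.1]⟩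

section card

variable [Fintype F] (D : ChevalleyDatum)
  (hD : D ∈ [chevG2, chevB2, chevD4, chevF4, chevE6, chevE7, chevE8])

include hD in
/-- Every automorphism is the product of an inner automorphism and an automorphism stabilising `U` and `V`. -/
theorem stabUV_sup_inn : stabUV D F ⊔ Cfsg.Inn ↥(D.group F) = ⊤ := by
  classical
  obtain ⟨p, hp⟩ := CharP.exists F
  haveI := hp
  haveI : Fact p.Prime := ⟨CharP.char_is_prime F p⟩
  have hG3 := good3_of_mem D hD
  have hG := hG3.toGood2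
  have hT := T0_of_mem D hD
  obtain ⟨w₀, hw₀, hw₀s⟩ := exists_W0ok_simple D hD
  have hSyl := chev_S2326 (F := F) p D hD
  rw [eq_top_iff]
  intro θ _
  obtain ⟨x, hU, hV⟩ := exists_normalize hG hT hG3.t3 hG3.t4 (T5_of_mem D hD) (T6_of_mem D hD)
    (T7_of_mem D hD) (T8_of_mem D hD) (T9_of_mem D hD) p hw₀ hSyl θ
  have h1 : MulAut.conj x * θ ∈ stabUV D F := ⟨hU, hV⟩
  have h2 : θ = (MulAut.conj x * θ) * (θ⁻¹ * (MulAut.conj x)⁻¹ * θ) := by group
  rw [h2]
  apply Subgroup.mul_mem_sup h1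
  have hn : (Cfsg.Inn ↥(D.group F)).Normal := inferInstance
  have h3 : (MulAut.conj x)⁻¹ ∈ Cfsg.Inn ↥(D.group F) := inv_mem ⟨x, rfl⟩
  have := hn.conj_mem _ h3 θ⁻¹
  rwa [inv_inv] at this

include hD in
/-- An inner automorphism stabilises `U` and `V` if and only if it comes from `H`. -/
theorem conj_mem_stabUV_iff (y : ↥(D.group F)) :
    MulAut.conj y ∈ stabUV D F ↔ (y : GL D.Idx F) ∈ D.diagonalSubgroup F := by
  have hG3 := good3_of_mem D hD
  have hG := hG3.toGood2
  have hG1 := hG.toGood1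
  have hT := T0_of_mem D hD
  obtain ⟨w₀, hw₀, hw₀s⟩ := exists_W0ok_simple D hD
  constructor
  · rintro ⟨hU, hV⟩
    have h1 := mem_normalizer_of_mapsOnto_conj (posUnipotent_le_group (D := D) (F := F)) hU
    have h2 := mem_normalizer_of_mapsOnto_conj (negUnipotent_le_group' (D := D) (F := F)) hV
    have h3 := normalizer_pos_inf_group_le hG hT hG3.t3 hG3.t4 (T5_of_mem D hD) (T6_of_mem D hD)
      (T8_of_mem D hD) (T9_of_mem D hD) (Subgroup.mem_inf.mpr ⟨h1, y.2⟩)
    have h4 := normalizer_neg_inf_group_le hG hT hG3.t3 hG3.t4 (T5_of_mem D hD) (T6_of_mem D hD)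
      (T8_of_mem D hD) (T9_of_mem D hD) hw₀ (Subgroup.mem_inf.mpr ⟨h2, y.2⟩)
    rw [← borel_inf_negBorel hG hT]
    exact Subgroup.mem_inf.mpr ⟨h3, h4⟩
  · intro hy
    exact ⟨mapsOnto_conj_of_mem_normalizer (diagonalSubgroup_le_normalizer_pos hG hy),
      mapsOnto_conj_of_mem_normalizer (diagonalSubgroup_le_normalizer_neg hG hy)⟩

include hD in
theorem card_inn_inf_stabUV :
    Nat.card ↥(Cfsg.Inn ↥(D.group F) ⊓ stabUV D F) = Nat.card (D.diagonalSubgroup F) := by
  have hG3 := good3_of_mem D hD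
  have hG := hG3.toGood2
  have hG1 := hG.toGood1
  have hT := T0_of_mem D hD
  have h8 := T8_of_mem D hD
  have hHG : D.diagonalSubgroup F ≤ D.group F := diagonalSubgroup_le_group hG1
  symm
  apply Nat.card_congr
  refine Equiv.ofBijective
    (fun h : ↥(D.diagonalSubgroup F) =>
      (⟨MulAut.conj (⟨h.1, hHG h.2⟩ : ↥(D.group F)),
        Subgroup.mem_inf.mpr ⟨⟨_, rfl⟩, (conj_mem_stabUV_iff D hD _).mpr h.2⟩⟩ :
        ↥(Cfsg.Inn ↥(D.group F) ⊓ stabUV D F))) ⟨?_, ?_⟩
  · intro h h' heq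
    have heq' : MulAut.conj (⟨h.1, hHG h.2⟩ : ↥(D.group F)) =
        MulAut.conj (⟨h'.1, hHG h'.2⟩ : ↥(D.group F)) := congrArg Subtype.val heq
    have key : (h'.1)⁻¹ * h.1 = 1 := by
      apply diagonal_eq_one_of_central hG hT h8 (mul_mem (inv_mem h'.2) h.2)
      intro r hr
      have h1 := DFunLike.congr_fun heq' ⟨xGL hG1 hr 1, xGL_mem_group hG hr 1⟩
      have h2 := congrArg Subtype.val h1
      simp only [MulAut.conj_apply, Subgroup.coe_mul, Subgroup.coe_inv] at h2
      calc (h'.1)⁻¹ * h.1 * xGL hG1 hr 1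
          = (h'.1)⁻¹ * (h.1 * xGL hG1 hr 1 * (h.1)⁻¹) * h.1 := by group
        _ = (h'.1)⁻¹ * (h'.1 * xGL hG1 hr 1 * (h'.1)⁻¹) * h.1 := by rw [h2]
        _ = xGL hG1 hr 1 * ((h'.1)⁻¹ * h.1) := by group
    apply Subtype.ext
    exact (inv_mul_eq_one.mp key).symm
  · rintro ⟨θ, hθ⟩
    obtain ⟨⟨y, rfl⟩, hθ2⟩ := Subgroup.mem_inf.mp hθ
    exact ⟨⟨y.1, (conj_mem_stabUV_iff D hD y).mp hθ2⟩, rfl⟩

include hD in
/-- The order of `Out` times the order of `H` is the order of the group of the automorphisms stabilising `U`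
and `V`. -/
theorem card_out_mul :
    Nat.card (Cfsg.Out ↥(D.group F)) * Nat.card (D.diagonalSubgroup F) = Nat.card (stabUV D F) := by
  have h1 : Nat.card (Cfsg.Out ↥(D.group F)) = (Cfsg.Inn ↥(D.group F)).relIndex (stabUV D F) := by
    rw [← Subgroup.relIndex_sup_right (stabUV D F) (Cfsg.Inn ↥(D.group F)), stabUV_sup_inn D hD,
      Subgroup.relIndex_top_right, Subgroup.index_eq_card]
  rw [h1, ← card_inn_inf_stabUV D hD, ← Subgroup.inf_relIndex_right, mul_comm,
    ← Subgroup.relIndex_bot_left, ← Subgroup.relIndex_bot_left]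
  exact Subgroup.relIndex_mul_relIndex _ _ _ bot_le inf_le_right

end card

end Cfsg.Agent.Helper7.Chev
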