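import Mathlib
import Cfsg.Agent.Helper7.TwAutG
import Cfsg.Agent.Helper7.ChevAutG
import Cfsg.Agent.Helper7.ChevTwH1

set_option autoImplicit false
set_option linter.unusedSectionVars false
set_option linter.unusedVariables false
set_option linter.style.haveILetI false

/-!
Automorphisms of a twisted group over a finite field, part H: the products of a diagonal and a field automorphism.
-/

namespace Cfsg.Agent.Helper7.Chev

open Cfsg Cfsg.Lie Matrix DoubleCoset

variable {D : ChevalleyDatum} {K : Type*} [Field K]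

theorem commute_pow_of_commute {f : K ≃+* K} {τ : K ≃+* K} (hτ : ∀ t, τ (f t) = f (τ t)) (m : ℕ)
    (t : K) : τ ((((f : K →+* K)) ^ m) t) = (((f : K →+* K)) ^ m) (τ t) := by
  induction m generalizing t with
  | zero => rfl
  | succ m ih =>
    rw [pow_succ]
    change τ ((((f : K →+* K)) ^ m) (f t)) = (((f : K →+* K)) ^ m) (f (τ t))
    rw [ih, hτ]

theorem adm_map {f : K ≃+* K} {τ : K ≃+* K} (hτ : ∀ t, τ (f t) = f (τ t)) {m : ℕ} {t : K}
    (ht : Adm f m t) : Adm f m (τ t) := by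
  unfold Adm at ht ⊢
  rw [← commute_pow_of_commute hτ, ht]

theorem commute_symm {f : K ≃+* K} {τ : K ≃+* K} (hτ : ∀ t, τ (f t) = f (τ t)) (t : K) :
    τ.symm (f t) = f (τ.symm t) := by
  apply τ.injective
  rw [RingEquiv.apply_symm_apply, hτ, RingEquiv.apply_symm_apply]

section tw

variable (hG : Good2 D) (hT : T0 D) (h3 : (tabOf D).T3) (h4 : (tabOf D).T4 60) (h5 : (tabOf D).T5)
  (h6 : (tabOf D).T6) (h7 : (tabOf D).T7) (h8 : (tabOf D).T8) (h9 : (tabOf D).T9)
  {ρ ρ' σ σ' : ℕ → ℕ} {ε : ℕ → ℤ} (h18 : T18 D ρ ρ' σ σ' ε) {cls : List (ℕ × ℕ)}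
  (h19 : T19 D ρ σ cls) (h20 : (tabOf D).T20 ρ cls) (f : K ≃+* K)
  (hD : D ∈ [chevG2, chevB2, chevD4, chevF4, chevE6, chevE7, chevE8])
  {Wt : List (List ℤ)} {N : ℤ} (h40 : (tabOf D).T40 Wt N)

/-- The twisted group is generated, as a group, by its generators. -/
theorem tw_aut_ext {θ₁ θ₂ : ↥(twGroup hG h3 h4 h19 f) ≃* ↥(twGroup hG h3 h4 h19 f)}
    (h : ∀ x : ↥(twGroup hG h3 h4 h19 f), (x : GL D.Idx K) ∈ twGen hG h3 h4 h19 f → θ₁ x = θ₂ x) :
    θ₁ = θ₂ := by
  have hcl : Subgroup.closure {x : ↥(twGroup hG h3 h4 h19 f) |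
      (x : GL D.Idx K) ∈ twGen hG h3 h4 h19 f} = ⊤ := by
    rw [eq_top_iff]
    intro x _
    obtain ⟨y', hy', hy'S⟩ := exists_lift_closure (twGroup hG h3 h4 h19 f) (twGen hG h3 h4 h19 f)
      Subgroup.subset_closure x.2
    have : y' = x := Subtype.ext hy'
    rw [← this]
    exact hy'S
  have key : θ₁.toMonoidHom = θ₂.toMonoidHom :=
    MonoidHom.eq_of_eqOn_dense hcl (fun x hx => h x hx)
  apply MulEquiv.ext
  intro x
  exact DFunLike.congr_fun key x

/-- The ambient automorphism: a field automorphism followed by the conjugation by the diagonal matrix of the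
character with prescribed values on the fundamental roots. -/
noncomputable def twAmb (Wt : List (List ℤ)) (N : ℤ) (z : Fin D.rank → Kˣ) (τ : K ≃+* K) :
    GL D.Idx K ≃* GL D.Idx K :=
  (glFieldAut τ).trans (MulAut.conj (charDiagGL D (rootChar D Wt N (extu D.rank z))))

include hD h40 in
theorem twAmb_xGL (z : Fin D.rank → Kˣ) (τ : K ≃+* K) {r : ℕ} (hr : r < D.nroots) (t : K) :
    twAmb Wt N z τ (xGL hG.toGood1 hr t) =
      xGL hG.toGood1 hr ((rootChar D Wt N (extu D.rank z) r : K) * τ t) := by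
  have hG1 := hG.toGood1
  have h1 : glFieldAut τ (xGL hG1 hr t) = xGL hG1 hr (τ t) := by
    apply Units.ext
    rw [glFieldAut_coe, xGL_coe, xGL_coe, x_of_lt D K hr, x_of_lt D K hr]
    exact xMat_map D (τ : K →+* K) ⟨r, hr⟩ t
  unfold twAmb
  rw [MulEquiv.trans_apply, h1, MulAut.conj_apply]
  apply Units.ext
  rw [Units.val_mul, Units.val_mul, charDiagGL_coe, charDiagGL_inv_coe, xGL_coe, xGL_coe]
  exact Cfsg.Agent.S2157.result D hD _ (isRootCharacter_rootChar hG h40 _) r hr (τ t)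

include h18 h19 in
theorem adm_extu {z : Fin D.rank → Kˣ} (hz : sigC h18 f z = z) {c : ℕ × ℕ} (hc : c ∈ cls) :
    Adm f c.2 ((extu D.rank z c.1 : Kˣ) : K) := by
  obtain ⟨_, horb, _⟩ := h19.orbit c hc
  have := extu_iterate_of_fixed h18 h19 f hz hc c.2 le_rfl
  rw [horb] at this
  exact this.symm

include hD h40 h18 in
theorem twAmb_clsHom_upper {z : Fin D.rank → Kˣ} (hz : sigC h18 f z = z) {τ : K ≃+* K}
    (hτ : ∀ t, τ (f t) = f (τ t)) {c : ℕ × ℕ} (hc : c ∈ cls) (t : K) :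
    twAmb Wt N z τ (clsHom hG h3 h4 h19 f hc (upperSL t)) =
      clsHom hG h3 h4 h19 f hc (upperSL (((extu D.rank z c.1 : Kˣ) : K) * τ t)) := by
  have hG1 := hG.toGood1
  obtain ⟨_, _, hlt⟩ := h19.orbit c hc
  rw [clsHom_apply, clsHom_apply, map_list_prod, List.map_map]
  congr 1
  apply List.map_congr_left
  intro j hj
  rw [List.mem_range] at hj
  simp only [Function.comp_apply]
  have hp := hG1.simple_lt (hlt j hj)
  have hF : ∀ v : K, clsFactor hG1 ρ f c.1 j (upperSL v) =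
      xGL hG1 hp ((((f : K →+* K)) ^ j) v) := by
    intro v
    unfold clsFactor
    rw [MonoidHom.comp_apply, phiS_of_lt hG1 (hlt j hj), map_upperSL, phiHom_upper']
  rw [hF, hF, twAmb_xGL hG hD h40, rootChar_simple h40 _ (hlt j hj),
    extu_iterate_of_fixed h18 h19 f hz hc j (le_of_lt hj), commute_pow_of_commute hτ, map_mul]

include hD h40 h18 in
theorem twAmb_clsHom_lower {z : Fin D.rank → Kˣ} (hz : sigC h18 f z = z) {τ : K ≃+* K}
    (hτ : ∀ t, τ (f t) = f (τ t)) {c : ℕ × ℕ} (hc : c ∈ cls) (t : K) :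
    twAmb Wt N z τ (clsHom hG h3 h4 h19 f hc (lowerSL t)) =
      clsHom hG h3 h4 h19 f hc (lowerSL ((((extu D.rank z c.1)⁻¹ : Kˣ) : K) * τ t)) := by
  have hG1 := hG.toGood1
  obtain ⟨_, _, hlt⟩ := h19.orbit c hc
  rw [clsHom_apply, clsHom_apply, map_list_prod, List.map_map]
  congr 1
  apply List.map_congr_left
  intro j hj
  rw [List.mem_range] at hj
  simp only [Function.comp_apply]
  have hp := hG1.simple_lt (hlt j hj)
  have hnp := hG1.neg_lt hp
  have hF : ∀ v : K, clsFactor hG1 ρ f c.1 j (lowerSL v) =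
      xGL hG1 hnp ((((f : K →+* K)) ^ j) v) := by
    intro v
    unfold clsFactor
    rw [MonoidHom.comp_apply, phiS_of_lt hG1 (hlt j hj), map_lowerSL, phiHom_lower']
  rw [hF, hF, twAmb_xGL hG hD h40, (isRootCharacter_rootChar hG h40 _).1 _ hp,
    rootChar_simple h40 _ (hlt j hj), commute_pow_of_commute hτ, map_mul, Units.val_inv_eq_inv_val,
    Units.val_inv_eq_inv_val, extu_iterate_of_fixed h18 h19 f hz hc j (le_of_lt hj), map_inv₀]

include hD h40 h18 in
/-- The ambient automorphism stabilises the twisted group. -/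
theorem twAmb_map_twGroup {z : Fin D.rank → Kˣ} (hz : sigC h18 f z = z) {τ : K ≃+* K}
    (hτ : ∀ t, τ (f t) = f (τ t)) :
    (twGroup hG h3 h4 h19 f).map (twAmb Wt N z τ).toMonoidHom = twGroup hG h3 h4 h19 f := by
  have hτ' := commute_symm hτ
  unfold twGroup
  rw [MonoidHom.map_closure]
  congr 1
  ext g
  constructor
  · rintro ⟨_, ⟨c, hc, t, ht, rfl | rfl⟩, rfl⟩
    · refine ⟨c, hc, _, (adm_extu h18 h19 f hz hc).mul (adm_map hτ ht), Or.inl ?_⟩
      exact twAmb_clsHom_upper hG h3 h4 h18 h19 f hD h40 hz hτ hc t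
    · refine ⟨c, hc, _, (adm_extu h18 h19 f hz hc).inv.mul (adm_map hτ ht), Or.inr ?_⟩
      have := twAmb_clsHom_lower hG h3 h4 h18 h19 f hD h40 hz hτ hc t
      rw [Units.val_inv_eq_inv_val] at this
      exact this
  · rintro ⟨c, hc, t, ht, rfl | rfl⟩
    · refine ⟨clsHom hG h3 h4 h19 f hc
        (upperSL (τ.symm ((((extu D.rank z c.1 : Kˣ) : K))⁻¹ * t))),
        ⟨c, hc, _, adm_map hτ' ((adm_extu h18 h19 f hz hc).inv.mul ht), Or.inl rfl⟩, ?_⟩
      change twAmb Wt N z τ _ = _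
      rw [twAmb_clsHom_upper hG h3 h4 h18 h19 f hD h40 hz hτ hc, RingEquiv.apply_symm_apply,
        mul_inv_cancel_left₀ (Units.ne_zero _)]
    · refine ⟨clsHom hG h3 h4 h19 f hc
        (lowerSL (τ.symm ((((extu D.rank z c.1 : Kˣ) : K)) * t))),
        ⟨c, hc, _, adm_map hτ' ((adm_extu h18 h19 f hz hc).mul ht), Or.inr rfl⟩, ?_⟩
      change twAmb Wt N z τ _ = _
      rw [twAmb_clsHom_lower hG h3 h4 h18 h19 f hD h40 hz hτ hc, RingEquiv.apply_symm_apply,
        Units.val_inv_eq_inv_val, inv_mul_cancel_left₀ (Units.ne_zero _)]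

include hG hD h40 in
/-- The ambient automorphism stabilises the subgroup generated by the root subgroups of a set of roots. -/
theorem twAmb_map_rootGen (z : Fin D.rank → Kˣ) (τ : K ≃+* K) {P : ℕ → Prop}
    (hP : ∀ r, P r → r < D.nroots) :
    (Subgroup.closure (rootGen D K P)).map (twAmb Wt N z τ).toMonoidHom =
      Subgroup.closure (rootGen D K P) := by
  have hG1 := hG.toGood1
  rw [MonoidHom.map_closure]
  congr 1
  ext g
  constructor
  · rintro ⟨x, ⟨r, t, hr, hx⟩, rfl⟩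
    have hrl := hP r hr
    refine ⟨r, (rootChar D Wt N (extu D.rank z) r : K) * τ t, hr, ?_⟩
    change ((twAmb Wt N z τ x : GL D.Idx K) : Matrix D.Idx D.Idx K) = _
    rw [eq_xGL hG1 hrl hx, twAmb_xGL hG hD h40, xGL_coe]
  · rintro ⟨r, t, hr, hx⟩
    have hrl := hP r hr
    refine ⟨xGL hG1 hrl (τ.symm (((rootChar D Wt N (extu D.rank z) r : Kˣ) : K)⁻¹ * t)),
      ⟨r, _, hr, xGL_coe hG1 hrl _⟩, ?_⟩
    change twAmb Wt N z τ _ = _
    rw [twAmb_xGL hG hD h40, RingEquiv.apply_symm_apply, mul_inv_cancel_left₀ (Units.ne_zero _)]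
    exact (eq_xGL hG1 hrl hx).symm

/-- The product of a diagonal and a field automorphism of the twisted group. -/
noncomputable def twDF {z : Fin D.rank → Kˣ} (hz : sigC h18 f z = z) {τ : K ≃+* K}
    (hτ : ∀ t, τ (f t) = f (τ t)) :
    ↥(twGroup hG h3 h4 h19 f) ≃* ↥(twGroup hG h3 h4 h19 f) :=
  ((twAmb Wt N z τ).subgroupMap (twGroup hG h3 h4 h19 f)).trans
    (MulEquiv.subgroupCongr (twAmb_map_twGroup hG h3 h4 h18 h19 f hD h40 hz hτ))

theorem twDF_coe {z : Fin D.rank → Kˣ} (hz : sigC h18 f z = z) {τ : K ≃+* K}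
    (hτ : ∀ t, τ (f t) = f (τ t)) (g : ↥(twGroup hG h3 h4 h19 f)) :
    ((twDF hG h3 h4 h18 h19 f hD h40 hz hτ g : ↥(twGroup hG h3 h4 h19 f)) : GL D.Idx K) =
      twAmb Wt N z τ (g : GL D.Idx K) := rfl

/-- The automorphism stabilises the subgroups stabilised by the ambient automorphism. -/
theorem twDF_sMapsOnto {z : Fin D.rank → Kˣ} (hz : sigC h18 f z = z) {τ : K ≃+* K}
    (hτ : ∀ t, τ (f t) = f (τ t)) {A : Subgroup (GL D.Idx K)}
    (hA : A.map (twAmb Wt N z τ).toMonoidHom = A) :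
    SMapsOnto (twDF hG h3 h4 h18 h19 f hD h40 hz hτ) A A := by
  intro x
  rw [twDF_coe]
  constructor
  · intro hx
    rw [← hA]
    exact ⟨x, hx, rfl⟩
  · intro hx
    rw [← hA] at hx
    obtain ⟨y, hy, e⟩ := hx
    have : y = (x : GL D.Idx K) := (twAmb Wt N z τ).injective e
    rw [← this]
    exact hy

end tw

end Cfsg.Agent.Helper7.Chev
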