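import Mathlib
import Cfsg.Agent.Helper7.TwAutH
import Cfsg.Agent.Helper7.ChevOutA

set_option autoImplicit false
set_option linter.unusedSectionVars false
set_option linter.unusedVariables false
set_option linter.style.haveILetI false

/-!
The outer automorphism group of a twisted group over a finite field, part A: the order of `Out` times the order of
`H¹` is the order of the group of the automorphisms stabilising `U¹` and `V¹`.
-/

namespace Cfsg.Agent.Helper7.Chev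

open Cfsg Cfsg.Lie Matrix

variable {D : ChevalleyDatum} {K : Type*} [Field K]

section tw

variable (hG : Good2 D) (hT : T0 D) (h3 : (tabOf D).T3) (h4 : (tabOf D).T4 60) (h5 : (tabOf D).T5)
  (h6 : (tabOf D).T6) (h7 : (tabOf D).T7) (h8 : (tabOf D).T8) (h9 : (tabOf D).T9)
  {ρ ρ' σ σ' : ℕ → ℕ} {ε : ℕ → ℤ} (h18 : T18 D ρ ρ' σ σ' ε) {cls : List (ℕ × ℕ)}
  (h19 : T19 D ρ σ cls) (h20 : (tabOf D).T20 ρ cls) (f : K ≃+* K)
  {W : List (List (ℕ × ℕ))} (hW : TwWList D ρ cls W)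
  {wcls : List (ℕ × ℕ)} (hwc : ∀ c ∈ wcls, c ∈ cls)
  (hw0 : (tabOf D).W0ok (wcls.flatMap (clsWord ρ)))

/-- The group of the automorphisms of the twisted group stabilising `U¹` and `V¹`. -/
def twStabUV : Subgroup (MulAut ↥(twGroup hG h3 h4 h19 f)) where
  carrier := {θ | SMapsOnto θ (D.posUnipotent K) (D.posUnipotent K) ∧
    SMapsOnto θ (D.negUnipotent K) (D.negUnipotent K)}
  mul_mem' := by
    rintro a b ⟨ha1, ha2⟩ ⟨hb1, hb2⟩
    exact ⟨hb1.trans ha1, hb2.trans ha2⟩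
  one_mem' := ⟨fun x => Iff.rfl, fun x => Iff.rfl⟩
  inv_mem' := by
    rintro a ⟨ha1, ha2⟩
    exact ⟨ha1.symm, ha2.symm⟩

theorem mem_twStabUV {θ : MulAut ↥(twGroup hG h3 h4 h19 f)} :
    θ ∈ twStabUV hG h3 h4 h19 f ↔ SMapsOnto θ (D.posUnipotent K) (D.posUnipotent K) ∧
      SMapsOnto θ (D.negUnipotent K) (D.negUnipotent K) := Iff.rfl

include hT h5 h6 h7 h8 h9 h18 h20 hW hwc hw0 in
/-- Every automorphism is the product of an inner automorphism and an automorphism stabilising `U¹` and `V¹`. -/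
theorem twStabUV_sup_inn [Fintype K] (p : ℕ) [Fact p.Prime]
    (hSyl : ∃ P : Sylow p ↥(twGroup hG h3 h4 h19 f),
      (P : Subgroup ↥(twGroup hG h3 h4 h19 f)) =
        (D.posUnipotent K).subgroupOf (twGroup hG h3 h4 h19 f)) :
    twStabUV hG h3 h4 h19 f ⊔ Cfsg.Inn ↥(twGroup hG h3 h4 h19 f) = ⊤ := by
  classical
  rw [eq_top_iff]
  intro θ _
  obtain ⟨x, hU, hV⟩ := tw_exists_normalize hG hT h3 h4 h5 h6 h7 h8 h9 h18 h19 h20 f hW hwc hw0 p
    hSyl θ
  have h1 : MulAut.conj x * θ ∈ twStabUV hG h3 h4 h19 f := ⟨hU, hV⟩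
  have h2 : θ = (MulAut.conj x * θ) * (θ⁻¹ * (MulAut.conj x)⁻¹ * θ) := by group
  rw [h2]
  apply Subgroup.mul_mem_sup h1
  have hn : (Cfsg.Inn ↥(twGroup hG h3 h4 h19 f)).Normal := inferInstance
  have h3' : (MulAut.conj x)⁻¹ ∈ Cfsg.Inn ↥(twGroup hG h3 h4 h19 f) := inv_mem ⟨x, rfl⟩
  have := hn.conj_mem _ h3' θ⁻¹
  rwa [inv_inv] at this

include hT h5 h6 h7 h8 h9 h18 h20 hwc hw0 in
/-- An inner automorphism stabilises `U¹` and `V¹` if and only if it comes from `H¹`. -/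
theorem conj_mem_twStabUV_iff (y : ↥(twGroup hG h3 h4 h19 f)) :
    MulAut.conj y ∈ twStabUV hG h3 h4 h19 f ↔ (y : GL D.Idx K) ∈ D.diagonalSubgroup K := by
  have hG1 := hG.toGood1
  constructor
  · rintro ⟨hU, hV⟩
    have hUG : twU hG h3 h4 h19 f ≤ twGroup hG h3 h4 h19 f := inf_le_right
    have hVG : twV hG h3 h4 h19 f ≤ twGroup hG h3 h4 h19 f := inf_le_right
    have hU' := sMapsOnto_twU hG h3 h4 h19 f hU
    have hV' : SMapsOnto (MulAut.conj y) (twV hG h3 h4 h19 f) (twV hG h3 h4 h19 f) := by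
      intro x
      rw [mem_twV, mem_twV]
      exact ⟨fun h => ⟨(hV x).mp h.1, (MulAut.conj y x).2⟩, fun h => ⟨(hV x).mpr h.1, x.2⟩⟩
    have h1 := mem_normalizer_of_sMapsOnto_conj hUG hU'
    have h2 := mem_normalizer_of_sMapsOnto_conj hVG hV'
    have hyB : (y : GL D.Idx K) ∈ D.borelSubgroup K :=
      twB_le_borel hG h3 h4 h19 f
        (tw_normalizer_inf_le hG hT h3 h4 h5 h6 h7 h8 h9 h18 h19 h20 f
          (Subgroup.mem_inf.mpr ⟨h1, y.2⟩))
    obtain ⟨n, hn⟩ : ∃ n : GL D.Idx K, n = nWordGL hG (wcls.flatMap (clsWord ρ)) := ⟨_, rfl⟩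
    have hnM : n ∈ D.monomialSubgroup K := by rw [hn]; exact nWordGL_mem hG _
    have hnG : n ∈ twGroup hG h3 h4 h19 f := by
      rw [hn]; exact nWordGL_flatMap_mem hG h3 h4 h19 f hwc
    have hUV : (D.posUnipotent K).map (MulAut.conj n).toMonoidHom = D.negUnipotent K := by
      rw [hn]; exact nWordGL_conj_pos_eq_neg hG hT hw0
    have hUV' : (twU hG h3 h4 h19 f).map (MulAut.conj n).toMonoidHom = twV hG h3 h4 h19 f := by
      rw [hn]; exact twU_map_conj_n0 hG hT h3 h4 h19 f hwc hw0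
    -- `n⁻¹ y n` normalises `U¹`
    have h3' : n⁻¹ * y * n ∈ Subgroup.normalizer (twU hG h3 h4 h19 f : Set (GL D.Idx K)) := by
      rw [Subgroup.mem_set_normalizer_iff]
      intro g
      have e1 : ∀ z : GL D.Idx K, z ∈ twU hG h3 h4 h19 f ↔ n * z * n⁻¹ ∈ twV hG h3 h4 h19 f := by
        intro z
        rw [← hUV']
        constructor
        · intro hz
          exact ⟨z, hz, rfl⟩
        · rintro ⟨z', hz', e⟩
          have : z' = z := (MulAut.conj n).injective e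
          rwa [← this]
      show g ∈ twU hG h3 h4 h19 f ↔ n⁻¹ * y * n * g * (n⁻¹ * y * n)⁻¹ ∈ twU hG h3 h4 h19 f
      have e2 : n * g * n⁻¹ ∈ twV hG h3 h4 h19 f ↔
          (y : GL D.Idx K) * (n * g * n⁻¹) * (y : GL D.Idx K)⁻¹ ∈ twV hG h3 h4 h19 f :=
        Subgroup.mem_set_normalizer_iff.mp h2 (n * g * n⁻¹)
      rw [e1 g, e1 (n⁻¹ * y * n * g * (n⁻¹ * y * n)⁻¹), e2]
      have : n * (n⁻¹ * y * n * g * (n⁻¹ * y * n)⁻¹) * n⁻¹ =
          (y : GL D.Idx K) * (n * g * n⁻¹) * (y : GL D.Idx K)⁻¹ := by group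
      rw [this]
    have h4' : n⁻¹ * y * n ∈ D.borelSubgroup K :=
      twB_le_borel hG h3 h4 h19 f
        (tw_normalizer_inf_le hG hT h3 h4 h5 h6 h7 h8 h9 h18 h19 h20 f
          (Subgroup.mem_inf.mpr ⟨h3', mul_mem (mul_mem (inv_mem hnG) y.2) hnG⟩))
    exact le_diagonal_of_conj hG hT hnM hUV hyB h4'
  · intro hy
    exact ⟨sMapsOnto_conj_of_mem_normalizer (diagonalSubgroup_le_normalizer_pos hG hy),
      sMapsOnto_conj_of_mem_normalizer (diagonalSubgroup_le_normalizer_neg hG hy)⟩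

end tw

end Cfsg.Agent.Helper7.Chev
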