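import Mathlib
import Cfsg.Agent.Helper7.TwOutA
import Cfsg.Agent.Helper7.ChevTwH2

set_option autoImplicit false
set_option linter.unusedSectionVars false
set_option linter.unusedVariables false
set_option linter.style.haveILetI false

/-!
The outer automorphism group of a twisted group over a finite field, part B: the counting.
-/

namespace Cfsg.Agent.Helper7.Chev

open Cfsg Cfsg.Lie Matrix

variable {D : ChevalleyDatum} {K : Type*} [Field K]

/-- The centre of a simple group which is not commutative is trivial. -/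
theorem eq_one_of_central_of_simple {G : Type*} [Group G] [IsSimpleGroup G]
    (hnc : ¬ IsMulCommutative G) {y : G} (hy : ∀ x : G, y * x = x * y) : y = 1 := by
  have hyc : y ∈ Subgroup.center G := by
    rw [Subgroup.mem_center_iff]
    intro x
    exact (hy x).symm
  rcases (inferInstance : (Subgroup.center G).Normal).eq_bot_or_eq_top with h | h
  · rw [h] at hyc
    exact Subgroup.mem_bot.mp hyc
  · exfalso
    apply hnc
    refine ⟨⟨fun a b => ?_⟩⟩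
    have ha : a ∈ Subgroup.center G := by rw [h]; trivial
    exact ((Subgroup.mem_center_iff.mp ha) b).symm

section tw

variable (hG : Good2 D) (hT : T0 D) (h3 : (tabOf D).T3) (h4 : (tabOf D).T4 60) (h5 : (tabOf D).T5)
  (h6 : (tabOf D).T6) (h7 : (tabOf D).T7) (h8 : (tabOf D).T8) (h9 : (tabOf D).T9)
  {ρ ρ' σ σ' : ℕ → ℕ} {ε : ℕ → ℤ} (h18 : T18 D ρ ρ' σ σ' ε) {cls : List (ℕ × ℕ)}
  (h19 : T19 D ρ σ cls) (h20 : (tabOf D).T20 ρ cls) (f : K ≃+* K)
  {W : List (List (ℕ × ℕ))} (hW : TwWList D ρ cls W)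
  {wcls : List (ℕ × ℕ)} (hwc : ∀ c ∈ wcls, c ∈ cls)
  (hw0 : (tabOf D).W0ok (wcls.flatMap (clsWord ρ)))

include hT h5 h6 h7 h8 h9 h18 h20 hwc hw0 in
theorem card_inn_inf_twStabUV
    (hZ : ∀ y : ↥(twGroup hG h3 h4 h19 f), (∀ x, y * x = x * y) → y = 1) :
    Nat.card ↥(Cfsg.Inn ↥(twGroup hG h3 h4 h19 f) ⊓ twStabUV hG h3 h4 h19 f) =
      Nat.card ↥(twH hG h3 h4 h19 f) := by
  have hiff := conj_mem_twStabUV_iff hG hT h3 h4 h5 h6 h7 h8 h9 h18 h19 h20 f hwc hw0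
  symm
  apply Nat.card_congr
  refine Equiv.ofBijective
    (fun h : ↥(twH hG h3 h4 h19 f) =>
      (⟨MulAut.conj (⟨h.1, ((mem_twH hG h3 h4 h19 f).mp h.2).2⟩ : ↥(twGroup hG h3 h4 h19 f)),
        Subgroup.mem_inf.mpr ⟨⟨_, rfl⟩, (hiff _).mpr ((mem_twH hG h3 h4 h19 f).mp h.2).1⟩⟩ :
        ↥(Cfsg.Inn ↥(twGroup hG h3 h4 h19 f) ⊓ twStabUV hG h3 h4 h19 f))) ⟨?_, ?_⟩
  · intro h h' heq
    have heq' : MulAut.conj (⟨h.1, ((mem_twH hG h3 h4 h19 f).mp h.2).2⟩ :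
          ↥(twGroup hG h3 h4 h19 f)) =
        MulAut.conj (⟨h'.1, ((mem_twH hG h3 h4 h19 f).mp h'.2).2⟩ :
          ↥(twGroup hG h3 h4 h19 f)) := congrArg Subtype.val heq
    obtain ⟨a, ha⟩ : ∃ a : ↥(twGroup hG h3 h4 h19 f),
      a = ⟨h.1, ((mem_twH hG h3 h4 h19 f).mp h.2).2⟩ := ⟨_, rfl⟩
    obtain ⟨b, hb⟩ : ∃ b : ↥(twGroup hG h3 h4 h19 f),
      b = ⟨h'.1, ((mem_twH hG h3 h4 h19 f).mp h'.2).2⟩ := ⟨_, rfl⟩
    rw [← ha, ← hb] at heq'
    have key : b⁻¹ * a = 1 := by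
      apply hZ
      intro x
      have h1 := DFunLike.congr_fun heq' x
      simp only [MulAut.conj_apply] at h1
      calc b⁻¹ * a * x = b⁻¹ * (a * x * a⁻¹) * a := by group
        _ = b⁻¹ * (b * x * b⁻¹) * a := by rw [h1]
        _ = x * (b⁻¹ * a) := by group
    have hab : a = b := (inv_mul_eq_one.mp key).symm
    apply Subtype.ext
    have := congrArg Subtype.val hab
    rw [ha, hb] at this
    exact this
  · rintro ⟨θ, hθ⟩
    obtain ⟨⟨y, rfl⟩, hθ2⟩ := Subgroup.mem_inf.mp hθ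
    exact ⟨⟨y.1, (mem_twH hG h3 h4 h19 f).mpr ⟨(hiff y).mp hθ2, y.2⟩⟩, rfl⟩

include hT h5 h6 h7 h8 h9 h18 h20 hW hwc hw0 in
/-- The order of `Out` times the order of `H¹` is the order of the group of the automorphisms stabilising
`U¹` and `V¹`. -/
theorem card_out_mul_tw [Fintype K] (p : ℕ) [Fact p.Prime]
    (hSyl : ∃ P : Sylow p ↥(twGroup hG h3 h4 h19 f),
      (P : Subgroup ↥(twGroup hG h3 h4 h19 f)) =
        (D.posUnipotent K).subgroupOf (twGroup hG h3 h4 h19 f))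
    (hZ : ∀ y : ↥(twGroup hG h3 h4 h19 f), (∀ x, y * x = x * y) → y = 1) :
    Nat.card (Cfsg.Out ↥(twGroup hG h3 h4 h19 f)) * Nat.card ↥(twH hG h3 h4 h19 f) =
      Nat.card ↥(twStabUV hG h3 h4 h19 f) := by
  have h1 : Nat.card (Cfsg.Out ↥(twGroup hG h3 h4 h19 f)) =
      (Cfsg.Inn ↥(twGroup hG h3 h4 h19 f)).relIndex (twStabUV hG h3 h4 h19 f) := by
    rw [← Subgroup.relIndex_sup_right (twStabUV hG h3 h4 h19 f) (Cfsg.Inn ↥(twGroup hG h3 h4 h19 f)),
      twStabUV_sup_inn hG hT h3 h4 h5 h6 h7 h8 h9 h18 h19 h20 f hW hwc hw0 p hSyl,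
      Subgroup.relIndex_top_right, Subgroup.index_eq_card]
  rw [h1, ← card_inn_inf_twStabUV hG hT h3 h4 h5 h6 h7 h8 h9 h18 h19 h20 f hwc hw0 hZ,
    ← Subgroup.inf_relIndex_right, mul_comm, ← Subgroup.relIndex_bot_left,
    ← Subgroup.relIndex_bot_left]
  exact Subgroup.relIndex_mul_relIndex _ _ _ bot_le inf_le_right

/-! ### The parametrisation -/

variable (hD : D ∈ [chevG2, chevB2, chevD4, chevF4, chevE6, chevE7, chevE8])
  {Wt : List (List ℤ)} {N : ℤ} (h40 : (tabOf D).T40 Wt N)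

theorem twDF_mem_twStabUV {z : Fin D.rank → Kˣ} (hz : sigC h18 f z = z) {τ : K ≃+* K}
    (hτ : ∀ t, τ (f t) = f (τ t)) :
    (twDF hG h3 h4 h18 h19 f hD h40 hz hτ : MulAut ↥(twGroup hG h3 h4 h19 f)) ∈
      twStabUV hG h3 h4 h19 f :=
  ⟨twDF_sMapsOnto hG h3 h4 h18 h19 f hD h40 hz hτ
      (by rw [posUnipotent_eq]; exact twAmb_map_rootGen hG hD h40 z τ (fun r h => h.1)),
    twDF_sMapsOnto hG h3 h4 h18 h19 f hD h40 hz hτ
      (by rw [negUnipotent_eq]; exact twAmb_map_rootGen hG hD h40 z τ (fun r h => h.1))⟩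

include hT h7 h8 h20 in
/-- The action of the automorphism on the root elements of the twisted group. -/
theorem twDF_upper_eq {z z' : Fin D.rank → Kˣ} (hz : sigC h18 f z = z) (hz' : sigC h18 f z' = z')
    {τ τ' : K ≃+* K} (hτ : ∀ t, τ (f t) = f (τ t)) (hτ' : ∀ t, τ' (f t) = f (τ' t))
    (e : twDF hG h3 h4 h18 h19 f hD h40 hz hτ = twDF hG h3 h4 h18 h19 f hD h40 hz' hτ')
    {c : ℕ × ℕ} (hc : c ∈ cls) {t : K} (ht : Adm f c.2 t) :
    ((extu D.rank z c.1 : Kˣ) : K) * τ t = ((extu D.rank z' c.1 : Kˣ) : K) * τ' t := by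
  have h1 := DFunLike.congr_fun e ⟨clsHom hG h3 h4 h19 f hc (upperSL t),
    upper_mem_twGroup hG h3 h4 h19 f hc ht⟩
  have h2 := congrArg Subtype.val h1
  rw [twDF_coe, twDF_coe] at h2
  change twAmb Wt N z τ (clsHom hG h3 h4 h19 f hc (upperSL t)) =
    twAmb Wt N z' τ' (clsHom hG h3 h4 h19 f hc (upperSL t)) at h2
  rw [twAmb_clsHom_upper hG h3 h4 h18 h19 f hD h40 hz hτ hc,
    twAmb_clsHom_upper hG h3 h4 h18 h19 f hD h40 hz' hτ' hc] at h2
  exact clsHom_upper_injective hG hT h3 h4 h7 h8 h19 h20 f hc h2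

include hT h7 h8 h20 in
/-- The parameters of the automorphism are determined. -/
theorem twDF_injective (htop : ∃ c ∈ cls, ∀ t : K, Adm f c.2 t)
    {z z' : Fin D.rank → Kˣ} (hz : sigC h18 f z = z) (hz' : sigC h18 f z' = z')
    {τ τ' : K ≃+* K} (hτ : ∀ t, τ (f t) = f (τ t)) (hτ' : ∀ t, τ' (f t) = f (τ' t))
    (e : twDF hG h3 h4 h18 h19 f hD h40 hz hτ = twDF hG h3 h4 h18 h19 f hD h40 hz' hτ') :
    z = z' ∧ τ = τ' := by
  have key := fun {c : ℕ × ℕ} (hc : c ∈ cls) {t : K} (ht : Adm f c.2 t) =>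
    twDF_upper_eq hG hT h3 h4 h7 h8 h18 h19 h20 f hD h40 hz hz' hτ hτ' e hc ht
  have h1 : ∀ c ∈ cls, ((extu D.rank z c.1 : Kˣ) : K) = ((extu D.rank z' c.1 : Kˣ) : K) := by
    intro c hc
    have := key hc (Adm.one (f := f) (m := c.2))
    rwa [map_one, map_one, mul_one, mul_one] at this
  have hzz : z = z' := by
    funext i
    obtain ⟨c, hc, j, hj, hji⟩ := h19.cover i.val i.2
    have e1 := extu_iterate_of_fixed h18 h19 f hz hc j (le_of_lt hj)
    have e2 := extu_iterate_of_fixed h18 h19 f hz' hc j (le_of_lt hj)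
    rw [hji] at e1 e2
    apply Units.ext
    have e3 : ((extu D.rank z i.val : Kˣ) : K) = ((extu D.rank z' i.val : Kˣ) : K) := by
      rw [e1, e2, h1 c hc]
    unfold extu at e3
    rwa [dif_pos i.2, dif_pos i.2] at e3
  refine ⟨hzz, ?_⟩
  obtain ⟨c, hc, hall⟩ := htop
  ext t
  have := key hc (hall t)
  rw [hzz] at this
  exact mul_left_cancel₀ (Units.ne_zero _) this

include hT h5 h6 h7 h8 h9 h18 h20 hW hwc hw0 in
/-- The order of the outer automorphism group of a twisted group all of whose automorphisms stabilising `U¹` and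
`V¹` are products of a diagonal and a field automorphism. -/
theorem card_out_tw [Fintype K] (p : ℕ) [Fact p.Prime]
    (hSyl : ∃ P : Sylow p ↥(twGroup hG h3 h4 h19 f),
      (P : Subgroup ↥(twGroup hG h3 h4 h19 f)) =
        (D.posUnipotent K).subgroupOf (twGroup hG h3 h4 h19 f))
    (hZ : ∀ y : ↥(twGroup hG h3 h4 h19 f), (∀ x, y * x = x * y) → y = 1)
    (hfτ : ∀ (τ : K ≃+* K) (t : K), τ (f t) = f (τ t))
    (htop : ∃ c ∈ cls, ∀ t : K, Adm f c.2 t)
    (hsurj : ∀ θ ∈ twStabUV hG h3 h4 h19 f, ∃ (z : Fin D.rank → Kˣ) (hz : sigC h18 f z = z)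
      (τ : K ≃+* K), θ = twDF hG h3 h4 h18 h19 f hD h40 hz (hfτ τ))
    (hperm : ((List.range D.rank).map ρ).Perm (List.range D.rank))
    (hcls : (cls.flatMap (clsWord ρ)).Perm (List.range D.rank))
    (hv : ∀ c : Fin D.rank → Kˣ, torusHom D K (sigC h18 f c) = torusHom D K c →
      ∃ c', sigC h18 f c' = c' ∧ torusHom D K c' = torusHom D K c) :
    Nat.card (Cfsg.Out ↥(twGroup hG h3 h4 h19 f)) =
      Nat.card {c : Fin D.rank → Kˣ // sigC h18 f c = c ∧ torusHom D K c = 1} *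
        Nat.card (K ≃+* K) := by
  classical
  have hcardS : Nat.card ↥(twStabUV hG h3 h4 h19 f) =
      Nat.card {c : Fin D.rank → Kˣ // sigC h18 f c = c} * Nat.card (K ≃+* K) := by
    rw [← Nat.card_prod]
    symm
    apply Nat.card_congr
    refine Equiv.ofBijective
      (fun q : {c : Fin D.rank → Kˣ // sigC h18 f c = c} × (K ≃+* K) =>
        (⟨twDF hG h3 h4 h18 h19 f hD h40 q.1.2 (hfτ q.2),
          twDF_mem_twStabUV hG h3 h4 h18 h19 f hD h40 q.1.2 (hfτ q.2)⟩ :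
          ↥(twStabUV hG h3 h4 h19 f))) ⟨?_, ?_⟩
    · rintro ⟨⟨z, hz⟩, τ⟩ ⟨⟨z', hz'⟩, τ'⟩ heq
      have heq' : twDF hG h3 h4 h18 h19 f hD h40 hz (hfτ τ) =
          twDF hG h3 h4 h18 h19 f hD h40 hz' (hfτ τ') := congrArg Subtype.val heq
      obtain ⟨e1, e2⟩ := twDF_injective hG hT h3 h4 h7 h8 h18 h19 h20 f hD h40 htop hz hz'
        (hfτ τ) (hfτ τ') heq'
      subst e1
      subst e2
      rfl
    · rintro ⟨θ, hθ⟩
      obtain ⟨z, hz, τ, rfl⟩ := hsurj θ hθ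
      exact ⟨(⟨z, hz⟩, τ), rfl⟩
  have h1 := card_out_mul_tw hG hT h3 h4 h5 h6 h7 h8 h9 h18 h19 h20 f hW hwc hw0 p hSyl hZ
  have h2 := card_diagonal_inf_twGroup hG h3 h4 h18 h19 f hperm hcls hv
  have hHpos : 0 < Nat.card ↥(twH hG h3 h4 h19 f) := Nat.card_pos
  have h3' : Nat.card (Cfsg.Out ↥(twGroup hG h3 h4 h19 f)) * Nat.card ↥(twH hG h3 h4 h19 f) =
      (Nat.card {c : Fin D.rank → Kˣ // sigC h18 f c = c ∧ torusHom D K c = 1} *
        Nat.card (K ≃+* K)) * Nat.card ↥(twH hG h3 h4 h19 f) := by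
    rw [h1, hcardS, ← h2]
    unfold twH
    ring
  exact Nat.eq_of_mul_eq_mul_right hHpos h3'

end tw

end Cfsg.Agent.Helper7.Chev
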