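import Mathlib
import Cfsg.Agent.Helper7.TwOutB

set_option autoImplicit false
set_option linter.unusedSectionVars false
set_option linter.unusedVariables false
set_option linter.style.haveILetI false

/-!
The outer automorphism group of a twisted group over a finite field, part C: tools for the identification of an
automorphism stabilising `U¹` and `V¹` with a product of a diagonal and a field automorphism.
-/

namespace Cfsg.Agent.Helper7.Chev

open Cfsg Cfsg.Lie Matrix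

variable {D : ChevalleyDatum} {K : Type*} [Field K]

/-- A subgroup of a given prime power order and of index prime to `p` is a Sylow subgroup. -/
theorem exists_sylow_of_card_mul {G : Type*} [Group G] [Finite G] (p : ℕ) [Fact p.Prime]
    (H : Subgroup G) {a d m : ℕ} (hH : Nat.card H = p ^ a) (hGc : d * Nat.card G = p ^ a * m)
    (hm : ¬ p ∣ m) : ∃ P : Sylow p G, (P : Subgroup G) = H := by
  have hp : p.Prime := Fact.out
  obtain ⟨k, hk⟩ : Nat.card H ∣ Nat.card G := Subgroup.card_subgroup_dvd_card H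
  rw [hH] at hk
  have hpa : 0 < p ^ a := pow_pos hp.pos a
  have hdk : d * k = m := by
    apply Nat.eq_of_mul_eq_mul_left hpa
    rw [← hGc, hk]
    ring
  have hpk : ¬ p ∣ k := fun h => hm (hdk ▸ Dvd.dvd.mul_left h d)
  have hk0 : k ≠ 0 := by
    rintro rfl
    exact hpk (dvd_zero p)
  have hfac : (Nat.card G).factorization p = a := by
    rw [hk, Nat.factorization_mul hpa.ne' hk0]
    simp only [Finsupp.coe_add, Pi.add_apply]
    rw [Nat.Prime.factorization_pow hp, Nat.factorization_eq_zero_of_not_dvd hpk]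
    simp
  have hcard : Nat.card H = p ^ (Nat.card G).factorization p := by rw [hfac, hH]
  exact ⟨Sylow.ofCard _ hcard, Sylow.coe_ofCard _ hcard⟩

/-- An automorphism mapping `A` onto `A'` and `B` onto `B'` preserves the commutation. -/
theorem SMapsOnto.commute {Γ : Type*} [Group Γ] {G1 : Subgroup Γ} {θ : ↥G1 ≃* ↥G1}
    {A A' B B' : Subgroup Γ} (hA' : A' ≤ G1) (hB' : B' ≤ G1) (h₁ : SMapsOnto θ A A')
    (h₂ : SMapsOnto θ B B') (h : ∀ x ∈ A, ∀ y ∈ B, Commute x y) :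
    ∀ x ∈ A', ∀ y ∈ B', Commute x y := by
  intro x hx y hy
  have hx' := (h₁.symm ⟨x, hA' hx⟩).mp hx
  have hy' := (h₂.symm ⟨y, hB' hy⟩).mp hy
  have hc := h _ hx' _ hy'
  have hc' : Commute (θ.symm ⟨x, hA' hx⟩) (θ.symm ⟨y, hB' hy⟩) := Subtype.ext hc.eq
  have hc'' := hc'.map θ
  rw [MulEquiv.apply_symm_apply, MulEquiv.apply_symm_apply] at hc''
  exact congrArg Subtype.val hc''.eq

section tw

variable (hG : Good2 D) (hT : T0 D) (h3 : (tabOf D).T3) (h4 : (tabOf D).T4 60) (h5 : (tabOf D).T5)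
  (h6 : (tabOf D).T6) (h7 : (tabOf D).T7) (h8 : (tabOf D).T8) (h9 : (tabOf D).T9)
  {ρ ρ' σ σ' : ℕ → ℕ} {ε : ℕ → ℤ} (h18 : T18 D ρ ρ' σ σ' ε) {cls : List (ℕ × ℕ)}
  (h19 : T19 D ρ σ cls) (h20 : (tabOf D).T20 ρ cls) (f : K ≃+* K)

include hT in
theorem twX_le_twGroup {c : ℕ × ℕ} (hc : c ∈ cls) :
    twX hG h3 h4 h19 f hc ≤ twGroup hG h3 h4 h19 f :=
  le_trans (twX_le_twU hG hT h3 h4 h19 f hc) inf_le_right

include hT h7 h8 h20 in
/-- The order of `X_S¹`. -/
theorem card_twX {c : ℕ × ℕ} (hc : c ∈ cls) :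
    Nat.card ↥(twX hG h3 h4 h19 f hc) = Nat.card {t : K // Adm f c.2 t} := by
  symm
  apply Nat.card_congr
  refine Equiv.ofBijective
    (fun t : {t : K // Adm f c.2 t} =>
      (⟨clsHom hG h3 h4 h19 f hc (upperSL t.1), ⟨t.1, t.2, rfl⟩⟩ : ↥(twX hG h3 h4 h19 f hc)))
    ⟨?_, ?_⟩
  · intro t t' e
    apply Subtype.ext
    exact clsHom_upper_injective hG hT h3 h4 h7 h8 h19 h20 f hc (congrArg Subtype.val e)
  · rintro ⟨_, t, ht, rfl⟩
    exact ⟨⟨t, ht⟩, rfl⟩

/-- The action of an automorphism on the root elements of a class is given by the parameters. -/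
def ClsParam (θ : ↥(twGroup hG h3 h4 h19 f) ≃* ↥(twGroup hG h3 h4 h19 f)) (z : Fin D.rank → Kˣ)
    (τ : K ≃+* K) {c : ℕ × ℕ} (hc : c ∈ cls) : Prop :=
  (∀ (t : K) (ht : Adm f c.2 t),
    ((θ ⟨clsHom hG h3 h4 h19 f hc (upperSL t), upper_mem_twGroup hG h3 h4 h19 f hc ht⟩ :
      ↥(twGroup hG h3 h4 h19 f)) : GL D.Idx K) =
      clsHom hG h3 h4 h19 f hc (upperSL (((extu D.rank z c.1 : Kˣ) : K) * τ t))) ∧
  (∀ (t : K) (ht : Adm f c.2 t),
    ((θ ⟨clsHom hG h3 h4 h19 f hc (lowerSL t), lower_mem_twGroup hG h3 h4 h19 f hc ht⟩ :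
      ↥(twGroup hG h3 h4 h19 f)) : GL D.Idx K) =
      clsHom hG h3 h4 h19 f hc (lowerSL ((((extu D.rank z c.1)⁻¹ : Kˣ) : K) * τ t)))

/-- The rank one analysis gives the action on the root elements of the class. -/
theorem clsParam_of_rank_one {F : Type*} [Field F] {c : ℕ × ℕ} (hc : c ∈ cls) (ι : F →+* K)
    (hι : ∀ s : F, Adm f c.2 (ι s)) (hι' : ∀ t : K, Adm f c.2 t → ∃ s : F, ι s = t)
    {θ : ↥(twGroup hG h3 h4 h19 f) ≃* ↥(twGroup hG h3 h4 h19 f)} {a : Fˣ} {τc : F ≃+* F}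
    {τ : K ≃+* K} (hτι : ∀ s, τ (ι s) = ι (τc s)) {z : Fin D.rank → Kˣ}
    (hu : ((extu D.rank z c.1 : Kˣ) : K) = ι a)
    (hup : ∀ s : F, θ (clsSub hG h3 h4 h19 f hc ι hι (upperSL s)) =
      clsSub hG h3 h4 h19 f hc ι hι (upperSL (a * τc s)))
    (hlow : ∀ s : F, θ (clsSub hG h3 h4 h19 f hc ι hι (lowerSL s)) =
      clsSub hG h3 h4 h19 f hc ι hι (lowerSL (((a⁻¹ : Fˣ) : F) * τc s))) :
    ClsParam hG h3 h4 h19 f θ z τ hc := by
  constructor
  · intro t ht
    obtain ⟨s, rfl⟩ := hι' t ht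
    have e : (⟨clsHom hG h3 h4 h19 f hc (upperSL (ι s)),
        upper_mem_twGroup hG h3 h4 h19 f hc ht⟩ : ↥(twGroup hG h3 h4 h19 f)) =
        clsSub hG h3 h4 h19 f hc ι hι (upperSL s) :=
      Subtype.ext (clsSub_upper hG h3 h4 h19 f hc ι hι s).symm
    rw [e, hup, clsSub_upper, map_mul, hu, hτι]
  · intro t ht
    obtain ⟨s, rfl⟩ := hι' t ht
    have e : (⟨clsHom hG h3 h4 h19 f hc (lowerSL (ι s)),
        lower_mem_twGroup hG h3 h4 h19 f hc ht⟩ : ↥(twGroup hG h3 h4 h19 f)) =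
        clsSub hG h3 h4 h19 f hc ι hι (lowerSL s) :=
      Subtype.ext (clsSub_lower hG h3 h4 h19 f hc ι hι s).symm
    rw [e, hlow, clsSub_lower, map_mul, Units.val_inv_eq_inv_val, Units.val_inv_eq_inv_val, map_inv₀,
      hu, hτι]

variable (hD : D ∈ [chevG2, chevB2, chevD4, chevF4, chevE6, chevE7, chevE8])
  {Wt : List (List ℤ)} {N : ℤ} (h40 : (tabOf D).T40 Wt N)

/-- An automorphism whose action on the root elements of all the classes is given by the same parameters is the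
product of the diagonal and the field automorphism with these parameters. -/
theorem eq_twDF_of_clsParam {θ : ↥(twGroup hG h3 h4 h19 f) ≃* ↥(twGroup hG h3 h4 h19 f)}
    {z : Fin D.rank → Kˣ} (hz : sigC h18 f z = z) {τ : K ≃+* K} (hτ : ∀ t, τ (f t) = f (τ t))
    (h : ∀ (c : ℕ × ℕ) (hc : c ∈ cls), ClsParam hG h3 h4 h19 f θ z τ hc) :
    θ = twDF hG h3 h4 h18 h19 f hD h40 hz hτ := by
  apply tw_aut_ext hG h3 h4 h19 f
  intro x hx
  obtain ⟨c, hc, t, ht, e | e⟩ := hx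
  · have ex : x = ⟨clsHom hG h3 h4 h19 f hc (upperSL t), upper_mem_twGroup hG h3 h4 h19 f hc ht⟩ :=
      Subtype.ext e
    apply Subtype.ext
    rw [ex, (h c hc).1 t ht, twDF_coe]
    exact (twAmb_clsHom_upper hG h3 h4 h18 h19 f hD h40 hz hτ hc t).symm
  · have ex : x = ⟨clsHom hG h3 h4 h19 f hc (lowerSL t), lower_mem_twGroup hG h3 h4 h19 f hc ht⟩ :=
      Subtype.ext e
    apply Subtype.ext
    rw [ex, (h c hc).2 t ht, twDF_coe]
    exact (twAmb_clsHom_lower hG h3 h4 h18 h19 f hD h40 hz hτ hc t).symm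

end tw

end Cfsg.Agent.Helper7.Chev
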