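import Mathlib
import Cfsg.Agent.Helper7.TwOutC
import Cfsg.Agent.Helper7.ChevTwO6
import Cfsg.Agent.Helper7.ChevTwHE6c
import Cfsg.Agent.Helper7.ChevTwWE6All
import Cfsg.Agent.Helper7.ChevAutT3
import Cfsg.Agent.Helper7.ChevAutT
import Cfsg.Agent.Helper7.FieldAutCard

set_option autoImplicit false
set_option linter.unusedSectionVars false
set_option linter.unusedVariables false
set_option linter.style.haveILetI false

/-!
The outer automorphism group of `²E₆(q)`, part A: the facts on the tables.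
-/

namespace Cfsg.Agent.Helper7.Chev

open Cfsg Cfsg.Lie Matrix

set_option maxRecDepth 1000000 in
set_option maxHeartbeats 0 in
theorem hstarfast_E6 : ∀ c ∈ clsE6, ∀ j < c.2, ∃ k < c.2,
    fastE6.reflWord (w0clsE6.flatMap (clsWord (fun i => [5, 1, 4, 3, 2, 0].getD i 0)))
      (chevE6.neg (clsRoot chevE6 (fun i => [5, 1, 4, 3, 2, 0].getD i 0) c.1 j)) =
      clsRoot chevE6 (fun i => [5, 1, 4, 3, 2, 0].getD i 0) c.1 k := by decide +kernel

theorem hstar_E6 : ∀ c ∈ clsE6, ∀ j < c.2, ∃ k < c.2,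
    (tabOf chevE6).reflWord (w0clsE6.flatMap (clsWord (fun i => [5, 1, 4, 3, 2, 0].getD i 0)))
      (chevE6.neg (clsRoot chevE6 (fun i => [5, 1, 4, 3, 2, 0].getD i 0) c.1 j)) =
      clsRoot chevE6 (fun i => [5, 1, 4, 3, 2, 0].getD i 0) c.1 k := tab_E6 ▸ hstarfast_E6

/-- The linking condition with respect to a table. -/
def LinkedT (T : Tab) (D : ChevalleyDatum) (ρ : ℕ → ℕ) (c c' : ℕ × ℕ) : Prop :=
  ∀ k < c'.2, ∀ j < c.2,
    T.pairing (clsRoot D ρ c.1 j) (clsRoot D ρ c'.1 k) = if j = k % c.2 then -1 else 0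

instance (T : Tab) (D : ChevalleyDatum) (ρ : ℕ → ℕ) (c c' : ℕ × ℕ) : Decidable (LinkedT T D ρ c c') := by
  unfold LinkedT; infer_instance

theorem linked_of_linkedT {D : ChevalleyDatum} {ρ : ℕ → ℕ} {c c' : ℕ × ℕ}
    (h : LinkedT (tabOf D) D ρ c c') : Linked D ρ c c' := h

set_option maxRecDepth 1000000 in
set_option maxHeartbeats 0 in
theorem linkedfast_E6_ab :
    LinkedT fastE6 chevE6 (fun i => [5, 1, 4, 3, 2, 0].getD i 0) (1, 1) (3, 1) := by decide +kernel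

set_option maxRecDepth 1000000 in
set_option maxHeartbeats 0 in
theorem linkedfast_E6_bC :
    LinkedT fastE6 chevE6 (fun i => [5, 1, 4, 3, 2, 0].getD i 0) (3, 1) (2, 2) := by decide +kernel

set_option maxRecDepth 1000000 in
set_option maxHeartbeats 0 in
theorem linkedfast_E6_CD :
    LinkedT fastE6 chevE6 (fun i => [5, 1, 4, 3, 2, 0].getD i 0) (2, 2) (0, 2) := by decide +kernel

theorem linked_E6_ab : Linked chevE6 (fun i => [5, 1, 4, 3, 2, 0].getD i 0) (1, 1) (3, 1) :=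
  linked_of_linkedT (tab_E6 ▸ linkedfast_E6_ab)

theorem linked_E6_bC : Linked chevE6 (fun i => [5, 1, 4, 3, 2, 0].getD i 0) (3, 1) (2, 2) :=
  linked_of_linkedT (tab_E6 ▸ linkedfast_E6_bC)

theorem linked_E6_CD : Linked chevE6 (fun i => [5, 1, 4, 3, 2, 0].getD i 0) (2, 2) (0, 2) :=
  linked_of_linkedT (tab_E6 ▸ linkedfast_E6_CD)

/-- The roots of two classes have trivial commutators, with respect to a table. -/
def NilT (T : Tab) (D : ChevalleyDatum) (ρ : ℕ → ℕ) (a b : ℕ × ℕ) : Prop :=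
  ∀ j < a.2, ∀ k < b.2,
    T.commTerms (clsRoot D ρ a.1 j) (clsRoot D ρ b.1 k) = [] ∧
      clsRoot D ρ b.1 k ≠ clsRoot D ρ a.1 j ∧ clsRoot D ρ b.1 k ≠ D.neg (clsRoot D ρ a.1 j)

instance (T : Tab) (D : ChevalleyDatum) (ρ : ℕ → ℕ) (a b : ℕ × ℕ) : Decidable (NilT T D ρ a b) := by
  unfold NilT; infer_instance

set_option maxRecDepth 1000000 in
set_option maxHeartbeats 0 in
theorem nilfast_E6_aC :
    NilT fastE6 chevE6 (fun i => [5, 1, 4, 3, 2, 0].getD i 0) (1, 1) (2, 2) := by decide +kernel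

set_option maxRecDepth 1000000 in
set_option maxHeartbeats 0 in
theorem nilfast_E6_aD :
    NilT fastE6 chevE6 (fun i => [5, 1, 4, 3, 2, 0].getD i 0) (1, 1) (0, 2) := by decide +kernel

set_option maxRecDepth 1000000 in
set_option maxHeartbeats 0 in
theorem nilfast_E6_bD :
    NilT fastE6 chevE6 (fun i => [5, 1, 4, 3, 2, 0].getD i 0) (3, 1) (0, 2) := by decide +kernel

theorem nil_E6_aC : NilT (tabOf chevE6) chevE6 (fun i => [5, 1, 4, 3, 2, 0].getD i 0) (1, 1) (2, 2) :=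
  tab_E6 ▸ nilfast_E6_aC

theorem nil_E6_aD : NilT (tabOf chevE6) chevE6 (fun i => [5, 1, 4, 3, 2, 0].getD i 0) (1, 1) (0, 2) :=
  tab_E6 ▸ nilfast_E6_aD

theorem nil_E6_bD : NilT (tabOf chevE6) chevE6 (fun i => [5, 1, 4, 3, 2, 0].getD i 0) (3, 1) (0, 2) :=
  tab_E6 ▸ nilfast_E6_bD

set_option maxRecDepth 1000000 in
set_option maxHeartbeats 0 in
theorem twAdjfast_E6_bC :
    fastE6.TwAdj (fun i => [5, 1, 4, 3, 2, 0].getD i 0) (3, 1) (2, 2) := by decide +kernel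

theorem twAdj_E6_bC :
    (tabOf chevE6).TwAdj (fun i => [5, 1, 4, 3, 2, 0].getD i 0) (3, 1) (2, 2) :=
  tab_E6 ▸ twAdjfast_E6_bC

theorem mem_list_E6 : chevE6 ∈ [chevG2, chevB2, chevD4, chevF4, chevE6, chevE7, chevE8] := by simp

end Cfsg.Agent.Helper7.Chev
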