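import Mathlib
import Cfsg.Agent.Helper7.ChevCoxeter
import Cfsg.Agent.Helper7.ChevTw9

set_option autoImplicit false
set_option linter.unusedSectionVars false
set_option linter.unusedVariables false

/-!
`N¹ / H¹` of a twisted group is the Coxeter group of the twisted type.
-/

namespace Cfsg.Agent.Helper7.Chev

open Cfsg Cfsg.Lie Matrix

namespace Tab

variable (T : Tab)

/-- The orders of the products of two reflections of classes of fundamental roots. -/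
def T21tw (ρ : ℕ → ℕ) (cl : List (ℕ × ℕ)) (m : ℕ → ℕ → ℕ) : Prop :=
  AllLt cl.length (fun i => AllLt cl.length (fun j => 0 < m i j ∧
    T.posPres (repW (m i j) (clsWord ρ (cl.getD i (0, 0)) ++ clsWord ρ (cl.getD j (0, 0)))) ∧
    AllLt (m i j) (fun k => 0 < k →
      ¬ T.posPres (repW k (clsWord ρ (cl.getD i (0, 0)) ++ clsWord ρ (cl.getD j (0, 0)))))))

instance (ρ : ℕ → ℕ) (cl : List (ℕ × ℕ)) (m : ℕ → ℕ → ℕ) : Decidable (T.T21tw ρ cl m) := by
  unfold T21tw; infer_instance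

end Tab

variable {D : ChevalleyDatum} {K : Type*} [Field K]

theorem mem_repW_append {k : ℕ} {w w' : List ℕ} {i : ℕ} (h : i ∈ repW k (w ++ w')) :
    i ∈ w ∨ i ∈ w' := List.mem_append.mp (mem_repW h)

section cox

variable (hG : Good2 D) (hT : T0 D) (h3 : (tabOf D).T3) (h4 : (tabOf D).T4 60) (h5 : (tabOf D).T5)
  (h6 : (tabOf D).T6) (h7 : (tabOf D).T7) (h8 : (tabOf D).T8) (h9 : (tabOf D).T9)
  {ρ ρ' σ σ' : ℕ → ℕ} {ε : ℕ → ℤ} (h18 : T18 D ρ ρ' σ σ' ε) {cls : List (ℕ × ℕ)}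
  (h19 : T19 D ρ σ cls) (h20 : (tabOf D).T20 ρ cls) (f : K ≃+* K)

include hT h3 h4 h5 h6 h7 h8 h9 h18 h20 in
/-- `N¹ / H¹` is the Coxeter group of the given Coxeter matrix. -/
theorem exists_coxeter_hom_tw {n : ℕ} (M : CoxeterMatrix (Fin n)) (cl : List (ℕ × ℕ))
    (hn : cl.length = n) (hperm : cl.Perm cls) (hnd : cl.Nodup)
    {m : ℕ → ℕ → ℕ} (hm : ∀ i j : Fin n, M i j = m i j) (h21 : (tabOf D).T21tw ρ cl m) :
    ∃ φ : ↥(D.monomialSubgroup K ⊓ twGroup hG h3 h4 h19 f) →* M.Group, Function.Surjective φ ∧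
      φ.ker = (D.diagonalSubgroup K ⊓ twGroup hG h3 h4 h19 f).subgroupOf
        (D.monomialSubgroup K ⊓ twGroup hG h3 h4 h19 f) := by
  have hG1 := hG.toGood1
  subst hn
  obtain ⟨P, hPB, hPN, hPS⟩ := exists_bnPair_tw hG hT h3 h4 h5 h6 h7 h8 h9 h18 h19 h20 f
  have hBmem : ∀ x : ↥(twGroup hG h3 h4 h19 f), x ∈ P.B ↔ (x : GL D.Idx K) ∈ D.borelSubgroup K := by
    intro x
    rw [hPB, Subgroup.mem_subgroupOf, Subgroup.mem_inf]
    exact ⟨fun h => h.1, fun h => ⟨h, x.2⟩⟩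
  have hNmem : ∀ x : ↥(twGroup hG h3 h4 h19 f),
      x ∈ P.N ↔ (x : GL D.Idx K) ∈ D.monomialSubgroup K := by
    intro x
    rw [hPN, Subgroup.mem_subgroupOf, Subgroup.mem_inf]
    exact ⟨fun h => h.1, fun h => ⟨h, x.2⟩⟩
  have hcl : ∀ i : Fin cl.length, cl.getD i.val (0, 0) ∈ cls := by
    intro i
    rw [List.getD_eq_getElem _ _ i.2]
    exact hperm.mem_iff.mp (List.getElem_mem i.2)
  set s : Fin cl.length → ↥(twGroup hG h3 h4 h19 f) := fun i =>
    ⟨clsHom hG h3 h4 h19 f (hcl i) antiSL, anti_mem_twGroup hG h3 h4 h19 f (hcl i)⟩ with hs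
  have hsS : ∀ i, s i ∈ P.S := by
    intro i
    rw [hPS]
    exact ⟨_, hcl i, rfl⟩
  have hsurj : ∀ x ∈ P.S, ∃ i, s i = x := by
    intro x hx
    rw [hPS] at hx
    obtain ⟨c, hc, hx⟩ := hx
    have hc' : c ∈ cl := hperm.mem_iff.mpr hc
    obtain ⟨i, hi, hci⟩ := List.getElem_of_mem hc'
    refine ⟨⟨i, hi⟩, Subtype.ext ?_⟩
    rw [hx]
    have : cl.getD i (0, 0) = c := by rw [List.getD_eq_getElem _ _ hi]; exact hci
    subst this
    rfl
  have hinj : Function.Injective s := by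
    intro i j hij
    by_contra hne
    have hne' : cl.getD i.val (0, 0) ≠ cl.getD j.val (0, 0) := by
      rw [List.getD_eq_getElem _ _ i.2, List.getD_eq_getElem _ _ j.2]
      intro h
      exact hne (Fin.ext ((List.Nodup.getElem_inj_iff hnd).mp h))
    have h1 : clsHom hG h3 h4 h19 f (hcl i) antiSL = clsHom hG h3 h4 h19 f (hcl j) antiSL :=
      congrArg Subtype.val hij
    apply ncls_inv_mul_not_mem_borel hG hT h3 h4 h6 h8 h9 h19 f (hcl i) (hcl j) hne'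
    rw [h1, inv_mul_cancel]
    exact one_mem _
  have hwij : ∀ (i j : Fin cl.length) (k : ℕ),
      ∀ a ∈ repW k (clsWord ρ (cl.getD i.val (0, 0)) ++ clsWord ρ (cl.getD j.val (0, 0))),
        a < D.rank := by
    intro i j k a ha
    rcases mem_repW_append ha with h | h
    · exact clsWord_lt h19 (hcl i) a h
    · exact clsWord_lt h19 (hcl j) a h
  have hpowB : ∀ (i j : Fin cl.length) (k : ℕ),
      (s i * s j) ^ k ∈ P.B ↔ (tabOf D).posPres
        (repW k (clsWord ρ (cl.getD i.val (0, 0)) ++ clsWord ρ (cl.getD j.val (0, 0)))) := by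
    intro i j k
    rw [hBmem, ← nWordGL_mem_borel_iff (F := K) hG hT h6 h8 (hwij i j k),
      nWordGL_repW, nWordGL_append, ← clsHom_anti hG h3 h4 h19 f (hcl i),
      ← clsHom_anti hG h3 h4 h19 f (hcl j)]
    rfl
  have h21' : ∀ i j : Fin cl.length, 0 < M i j ∧ (s i * s j) ^ (M i j) ∈ P.B ∧
      ∀ k, 0 < k → k < M i j → (s i * s j) ^ k ∉ P.B := by
    intro i j
    obtain ⟨c1, c2, c3⟩ := h21 i.val i.2 j.val j.2
    rw [hm i j]
    refine ⟨c1, (hpowB i j _).mpr c2, fun k hk0 hk => ?_⟩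
    rw [hpowB]
    exact c3 k hk hk0
  obtain ⟨φ, hφs, hφk, hφi⟩ := BN.exists_coxeter_hom P M s hsS hsurj hinj (fun i j => (h21' i j).1)
    (fun i j => (h21' i j).2)
  -- transport to `N ⊓ G¹`
  have hmemG : ∀ g : ↥(D.monomialSubgroup K ⊓ twGroup hG h3 h4 h19 f),
      (g : GL D.Idx K) ∈ twGroup hG h3 h4 h19 f := fun g => (Subgroup.mem_inf.mp g.2).2
  have hmemN : ∀ g : ↥(D.monomialSubgroup K ⊓ twGroup hG h3 h4 h19 f),
      (⟨g, hmemG g⟩ : ↥(twGroup hG h3 h4 h19 f)) ∈ P.N := by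
    intro g
    rw [hNmem]
    exact (Subgroup.mem_inf.mp g.2).1
  let ψ : ↥(D.monomialSubgroup K ⊓ twGroup hG h3 h4 h19 f) →* ↥P.N :=
    { toFun := fun g => ⟨⟨g, hmemG g⟩, hmemN g⟩
      map_one' := rfl
      map_mul' := fun _ _ => rfl }
  have hψs : Function.Surjective ψ := by
    rintro ⟨⟨g, hgG⟩, hgN⟩
    have hgN' : g ∈ D.monomialSubgroup K := (hNmem _).mp hgN
    exact ⟨⟨g, Subgroup.mem_inf.mpr ⟨hgN', hgG⟩⟩, rfl⟩
  refine ⟨φ.comp ψ, hφs.comp hψs, ?_⟩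
  ext g
  rw [MonoidHom.mem_ker, MonoidHom.comp_apply, ← MonoidHom.mem_ker, hφk, Subgroup.mem_subgroupOf,
    Subgroup.mem_subgroupOf]
  change (⟨g, hmemG g⟩ : ↥(twGroup hG h3 h4 h19 f)) ∈ P.B ⊓ P.N ↔ _
  rw [← borel_inf_monomial hG hT h6 h8 h9]
  constructor
  · intro h
    exact Subgroup.mem_inf.mpr ⟨Subgroup.mem_inf.mpr
      ⟨(hBmem _).mp (Subgroup.mem_inf.mp h).1, (Subgroup.mem_inf.mp g.2).1⟩, hmemG g⟩
  · intro h
    exact Subgroup.mem_inf.mpr ⟨(hBmem _).mpr (Subgroup.mem_inf.mp (Subgroup.mem_inf.mp h).1).1,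
      hmemN g⟩

end cox

end Cfsg.Agent.Helper7.Chev
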