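import Mathlib
import Cfsg.Agent.Helper7.ChevTwCox
import Cfsg.Agent.Helper7.ChevTwE6
import Cfsg.Agent.Helper7.ChevTwD4
import Cfsg.Agent.Helper7.CoxF4
import Cfsg.Agent.Helper7.CoxG2

set_option autoImplicit false

/-!
`N¹ / H¹` of `²E₆(q)` and `³D₄(q)` are the Coxeter groups of types `F₄` and `G₂`.
-/

namespace Cfsg.Agent.Helper7.Chev

open Cfsg Cfsg.Lie

/-- The classes of fundamental roots of `E₆` in the order of the nodes of `F₄`. -/
abbrev chainE6 : List (ℕ × ℕ) := [(1, 1), (3, 1), (2, 2), (0, 2)]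

set_option maxRecDepth 1000000 in
set_option maxHeartbeats 0 in
theorem T21twfast_E6 : fastE6.T21tw (fun i => [5, 1, 4, 3, 2, 0].getD i 0) chainE6 CoxF4.m := by
  decide +kernel

theorem T21tw_E6 : (tabOf chevE6).T21tw (fun i => [5, 1, 4, 3, 2, 0].getD i 0) chainE6 CoxF4.m :=
  tab_E6 ▸ T21twfast_E6

theorem chainE6_perm : chainE6.Perm clsE6 := by decide

theorem chainE6_nodup : chainE6.Nodup := by decide

/-- `N¹ / H¹ ≅ W(F₄)` for `²E₆(q)`. -/
theorem twE6_coxeter {K : Type*} [Field K] [Fintype K] {q : ℕ} (hq : IsPrimePow q)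
    (hK : Fintype.card K = q ^ 2) :
    ∃ φ : ↥(chevE6.monomialSubgroup K ⊓ twistedE6 K q) →* (CoxeterMatrix.F₄).Group,
      Function.Surjective φ ∧
      φ.ker = (chevE6.diagonalSubgroup K ⊓ twistedE6 K q).subgroupOf
        (chevE6.monomialSubgroup K ⊓ twistedE6 K q) := by
  obtain ⟨f, hf, hf2, e⟩ := twistedE6_eq hq hK
  rw [e]
  exact exists_coxeter_hom_tw good2_E6 T0_E6 T3_E6 T4_E6 T5_E6 T6_E6 T7_E6 T8_E6 T9_E6
    T18_E6 T19_E6 T20_E6 f CoxeterMatrix.F₄ chainE6 rfl chainE6_perm chainE6_nodup CoxF4.hm T21tw_E6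

/-- The classes of fundamental roots of `D₄` in the order of the nodes of `G₂`. -/
abbrev chainD4 : List (ℕ × ℕ) := [(1, 1), (0, 3)]

set_option maxRecDepth 1000000 in
set_option maxHeartbeats 0 in
theorem T21twfast_D4 : fastD4.T21tw (fun i => [2, 1, 3, 0].getD i 0) chainD4 CoxG2.m := by
  decide +kernel

theorem T21tw_D4 : (tabOf chevD4).T21tw (fun i => [2, 1, 3, 0].getD i 0) chainD4 CoxG2.m :=
  tab_D4 ▸ T21twfast_D4

theorem chainD4_perm : chainD4.Perm clsD4 := by decide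

theorem chainD4_nodup : chainD4.Nodup := by decide

/-- `N¹ / H¹ ≅ W(G₂)` for `³D₄(q)`. -/
theorem twD4_coxeter {K : Type*} [Field K] [Fintype K] {q : ℕ} (hq : IsPrimePow q)
    (hK : Fintype.card K = q ^ 3) :
    ∃ φ : ↥(chevD4.monomialSubgroup K ⊓ twistedD4 K q) →* (CoxeterMatrix.G₂).Group,
      Function.Surjective φ ∧
      φ.ker = (chevD4.diagonalSubgroup K ⊓ twistedD4 K q).subgroupOf
        (chevD4.monomialSubgroup K ⊓ twistedD4 K q) := by
  obtain ⟨f, hf, hf3, e⟩ := twistedD4_eq hq hK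
  rw [e]
  exact exists_coxeter_hom_tw good2_D4 T0_D4 T3_D4 T4_D4 T5_D4 T6_D4 T7_D4 T8_D4 T9_D4
    T18_D4a T19_D4 T20_D4 f CoxeterMatrix.G₂ chainD4 rfl chainD4_perm chainD4_nodup CoxG2.hm T21tw_D4

end Cfsg.Agent.Helper7.Chev
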