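import Mathlib
import Cfsg.Agent.Helper7.ScB

set_option autoImplicit false
set_option linter.unusedSectionVars false
set_option linter.unusedVariables false

/-!
Two general facts for the computation of Schur multipliers: a power of a central element of the commutator
subgroup lies in the commutator subgroup of any subgroup of finite index (transfer); and a biadditive
alternating map on a field with more than four elements that is invariant under the scalars is trivial.
-/

namespace Cfsg.Agent.Helper7.SzMul

/-- Transfer into the abelianization of a subgroup of finite index. -/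
theorem pow_index_mem_commutator {Γ : Type*} [Group Γ] (P : Subgroup Γ) [P.FiniteIndex] (z : Γ)
    (hz : z ∈ Subgroup.center Γ) (hz' : z ∈ commutator Γ) : z ^ P.index ∈ ⁅P, P⁆ := by
  have key : ∀ (k : ℕ) (g₀ : Γ), g₀⁻¹ * z ^ k * g₀ ∈ P → g₀⁻¹ * z ^ k * g₀ = z ^ k := by
    intro k g₀ _
    have h := (Subgroup.mem_center_iff.mp (pow_mem hz k)) g₀
    rw [mul_assoc, ← h, inv_mul_cancel_left]
  have h1 := MonoidHom.transfer_eq_pow (Abelianization.of : ↥P →* Abelianization ↥P) z key
  have h2 : MonoidHom.transfer (Abelianization.of : ↥P →* Abelianization ↥P) z = 1 :=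
    MonoidHom.mem_ker.mp (Abelianization.commutator_subset_ker _ hz')
  rw [h2] at h1
  have h3 : (⟨z ^ P.index, MonoidHom.transfer_eq_pow_aux z key⟩ : ↥P) ∈ commutator ↥P := by
    rw [← Abelianization.ker_of]
    exact MonoidHom.mem_ker.mpr h1.symm
  rw [← Subgroup.map_subtype_commutator]
  exact ⟨_, h3, rfl⟩

variable {K : Type*} [Field K]

/-- A biadditive alternating map on a field with more than four elements, with values in a group, that is
invariant under the scalars is trivial. -/
theorem biadd_eq_one_of_scale (hK : ∃ s : Finset K, 4 < s.card) {E : Type*} [Group E]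
    (f : K → K → E) (hl : ∀ x x' y, f (x + x') y = f x y * f x' y)
    (hr : ∀ x y y', f x (y + y') = f x y * f x y') (hd : ∀ x, f x x = 1)
    (hs : ∀ v : K, v ≠ 0 → ∀ x y, f (v * x) (v * y) = f x y) : ∀ x y, f x y = 1 := by
  have hzr : ∀ x, f x 0 = 1 := by
    intro x
    have := hr x 0 0
    rw [add_zero] at this
    exact (mul_eq_left.mp this.symm)
  have hzl : ∀ y, f 0 y = 1 := by
    intro y
    have := hl 0 0 y
    rw [add_zero] at this
    exact (mul_eq_left.mp this.symm)
  have hanti : ∀ x y, f x y * f y x = 1 := by
    intro x y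
    have h1 := hd (x + y)
    rw [hl, hr, hr, hd, hd, one_mul, mul_one] at h1
    exact h1
  let A : AddSubgroup K :=
    { carrier := {w | f 1 w = 1}
      zero_mem' := hzr 1
      add_mem' := by
        intro a b ha hb
        rw [Set.mem_setOf_eq] at ha hb ⊢
        rw [hr, ha, hb, one_mul]
      neg_mem' := by
        intro a ha
        rw [Set.mem_setOf_eq] at ha ⊢
        have := hr 1 a (-a)
        rw [add_neg_cancel, hzr, ha, one_mul] at this
        exact this.symm }
  have hA1 : (1 : K) ∈ A := hd 1
  have hAw : ∀ w : K, w ≠ 0 → w + w⁻¹ ∈ A := by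
    intro w hw
    change f 1 (w + w⁻¹) = 1
    rw [hr]
    have e1 := hs w hw 1 w⁻¹
    rw [mul_one, mul_inv_cancel₀ hw] at e1
    rw [← e1]
    exact hanti 1 w
  have hAtop := Cfsg.Agent.Helper7.Sc.addSubgroup_eq_top hK A hA1 hAw
  have hone : ∀ w : K, f 1 w = 1 := by
    intro w
    have : w ∈ A := by rw [hAtop]; trivial
    exact this
  intro x y
  by_cases hx : x = 0
  · rw [hx, hzl]
  · have := hs x hx 1 (x⁻¹ * y)
    rw [mul_one, ← mul_assoc, mul_inv_cancel₀ hx, one_mul] at this
    rw [this, hone]

end Cfsg.Agent.Helper7.SzMul
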