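import Mathlib
import Cfsg.Prelude.Def_SteinbergCover

set_option autoImplicit false
set_option linter.unusedSectionVars false
set_option linter.unusedVariables false

/-!
A map of root indices that respects negatives and the terms of the commutator formula induces a
homomorphism between the groups given by Steinberg's presentation.
-/

namespace Cfsg.Agent.Helper7.St

open Cfsg Cfsg.Lie

/-- A map of root indices compatible with the tables. -/
structure Emb (D D' : ChevalleyDatum) (ι : ℕ → ℕ) : Prop where
  lt : ∀ r, r < D.nroots → ι r < D'.nroots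
  ge : ∀ r, D.nroots ≤ r → D'.nroots ≤ ι r
  neg_lt : ∀ r, r < D.nroots → D.neg r < D.nroots
  neg : ∀ r, r < D.nroots → ι (D.neg r) = D'.neg (ι r)
  inj : ∀ r s, r < D.nroots → s < D.nroots → ι r = ι s → r = s
  comm : ∀ r s, r < D.nroots → s < D.nroots → s ≠ r → s ≠ D.neg r →
    (D.commTerms r s).map (fun c => (ι c.1, c.2)) = D'.commTerms (ι r) (ι s)

variable {D D' : ChevalleyDatum} {ι : ℕ → ℕ} (h : Emb D D' ι) (K : Type*) [Field K]

/-- The images of the generators. -/
def embGen (D D' : ChevalleyDatum) (ι : ℕ → ℕ) (K : Type*) [Field K] :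
    Fin D.nroots × K → D'.SteinbergGroup K :=
  fun p => D'.stGen K (ι p.1.val) p.2

include h in
theorem embLift_stX (r : ℕ) (t : K) :
    FreeGroup.lift (embGen D D' ι K) (D.stX r t) =
      PresentedGroup.mk (D'.steinbergRels K) (D'.stX (ι r) t) := by
  unfold ChevalleyDatum.stX
  by_cases hr : r < D.nroots
  · rw [dif_pos hr, FreeGroup.lift_apply_of]
    rfl
  · rw [dif_neg hr, map_one, dif_neg (not_lt.mpr (h.ge r (not_lt.mp hr))), map_one]

include h in
theorem embLift_stWord (w : List (ℕ × K)) :
    FreeGroup.lift (embGen D D' ι K) (D.stWord w) =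
      PresentedGroup.mk (D'.steinbergRels K) (D'.stWord (w.map fun p => (ι p.1, p.2))) := by
  unfold ChevalleyDatum.stWord
  induction w with
  | nil => simp
  | cons p w ih =>
    rw [List.map_cons, List.prod_cons, map_mul, ih, embLift_stX h, List.map_cons, List.map_cons,
      List.prod_cons, map_mul]

include h in
theorem emb_hWord {r : ℕ} (hr : r < D.nroots) (t : K) :
    (D.hWord r t).map (fun p => (ι p.1, p.2)) = D'.hWord (ι r) t := by
  unfold ChevalleyDatum.hWord ChevalleyDatum.nWord
  simp only [List.map_cons, List.map_nil, List.cons_append, List.nil_append, h.neg r hr]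

include h in
theorem embLift_stH {r : ℕ} (hr : r < D.nroots) (t : K) :
    FreeGroup.lift (embGen D D' ι K) (D.stH r t) =
      PresentedGroup.mk (D'.steinbergRels K) (D'.stH (ι r) t) := by
  unfold ChevalleyDatum.stH
  rw [embLift_stWord h, emb_hWord h K hr]

include h in
theorem emb_commWord {r s : ℕ} (hr : r < D.nroots) (hs : s < D.nroots) (hsr : s ≠ r)
    (hsn : s ≠ D.neg r) (t u : K) :
    (D.commWord K r s t u).map (fun p => (ι p.1, p.2)) = D'.commWord K (ι r) (ι s) t u := by
  unfold ChevalleyDatum.commWord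
  rw [← h.comm r s hr hs hsr hsn, List.map_map, List.map_map]
  rfl

include h in
theorem embLift_rels : ∀ g ∈ D.steinbergRels K, FreeGroup.lift (embGen D D' ι K) g = 1 := by
  intro g hg
  rcases hg with (⟨r, t₁, t₂, hr, rfl⟩ | ⟨r, s, t, u, hr, hs, hsr, hsn, rfl⟩) |
    ⟨r, t₁, t₂, hr, h₁, h₂, rfl⟩
  · rw [map_mul, map_mul, map_inv, embLift_stX h, embLift_stX h, embLift_stX h, ← map_mul,
      ← map_inv, ← map_mul]
    exact PresentedGroup.one_of_mem (Or.inl (Or.inl ⟨ι r, t₁, t₂, h.lt r hr, rfl⟩))
  · rw [map_mul, map_mul, map_mul, map_mul, map_inv, map_inv, map_inv, embLift_stX h,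
      embLift_stX h, embLift_stWord h, emb_commWord h K hr hs hsr hsn, ← map_inv, ← map_inv,
      ← map_inv, ← map_mul, ← map_mul, ← map_mul, ← map_mul]
    refine PresentedGroup.one_of_mem (Or.inl (Or.inr ⟨ι r, ι s, t, u, h.lt r hr, h.lt s hs, ?_, ?_, rfl⟩))
    · intro e
      exact hsr (h.inj s r hs hr e)
    · intro e
      rw [← h.neg r hr] at e
      exact hsn (h.inj s _ hs (h.neg_lt r hr) e)
  · rw [map_mul, map_mul, map_inv, embLift_stH h K hr, embLift_stH h K hr, embLift_stH h K hr,
      ← map_mul, ← map_inv, ← map_mul]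
    exact PresentedGroup.one_of_mem (Or.inr ⟨ι r, t₁, t₂, h.lt r hr, h₁, h₂, rfl⟩)

/-- The homomorphism between the presented groups. -/
noncomputable def embHom : D.SteinbergGroup K →* D'.SteinbergGroup K :=
  PresentedGroup.toGroup (embLift_rels h K)

theorem embHom_mk (g : FreeGroup (Fin D.nroots × K)) :
    embHom h K (PresentedGroup.mk (D.steinbergRels K) g) =
      FreeGroup.lift (embGen D D' ι K) g := rfl

theorem embHom_stH {r : ℕ} (hr : r < D.nroots) (t : K) :
    embHom h K (PresentedGroup.mk (D.steinbergRels K) (D.stH r t)) =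
      PresentedGroup.mk (D'.steinbergRels K) (D'.stH (ι r) t) := by
  rw [embHom_mk, embLift_stH h K hr]

end Cfsg.Agent.Helper7.St
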