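import Mathlib
import Cfsg.Agent.Helper7.StK
import Cfsg.Agent.Helper7.ChevFix2

set_option autoImplicit false
set_option linter.unusedSectionVars false
set_option linter.unusedVariables false

/-!
In a group with the relations (R1), (R2), (R3) the subgroup generated by the elements `hb i t` is
commutative, its elements are the products of the `hb i (c i)`, and, when the torus of the Chevalley
group is `(Kˣ)^l`, the homomorphism to the matrix group is injective on it.
-/

namespace Cfsg.Agent.Helper7.St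

open Cfsg Cfsg.Lie Matrix Cfsg.Agent.Helper7.Chev
open scoped Pointwise

variable {D : ChevalleyDatum} {K : Type*} [Field K] {Γ : Type*} [Group Γ] (S : StD D K Γ)

namespace StD

section comm

variable (hG : Good2 D) (hT : T0 D) (h5 : (tabOf D).T5) (h5m : (tabOf D).T5m) (h6 : (tabOf D).T6)
  (h7 : (tabOf D).T7) (h7m : (tabOf D).T7m) (h8 : (tabOf D).T8) {wit : ℕ → ℕ × ℕ × ℕ}
  (h27 : (tabOf D).T37 wit)
  (hR3 : ∀ i, i < D.rank → ∀ a b : K, a ≠ 0 → b ≠ 0 → S.hb i a * S.hb i b = S.hb i (a * b))

include hG in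
theorem hb_one {i : ℕ} (hi : i < D.rank) : S.hb i 1 = 1 := by
  unfold hb
  rw [← S.nb_inv hG hi, mul_inv_cancel]

include hG hT h5 h5m h6 h7 h7m h8 h27 hR3 in
/-- The elements `hb i a` and `hb j b` commute. -/
theorem hb_conj_hb {i j : ℕ} (hi : i < D.rank) (hj : j < D.rank) {a b : K} (ha : a ≠ 0)
    (hb : b ≠ 0) : S.hb i a * S.hb j b * (S.hb i a)⁻¹ = S.hb j b := by
  have hG1 := hG.toGood1
  have hq := hG1.simple_lt hj
  have hm1 : (-1 : K) ≠ 0 := neg_ne_zero.mpr one_ne_zero
  have M1 := S.monE_mul hG (S.monE_nb hG hT h5 h5m h6 h7 h7m h8 h27 hi ha)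
    (S.monE_nb hG hT h5 h5m h6 h7 h7m h8 h27 hi hm1)
  have hrefl : (tabOf D).reflWord ([i] ++ [i]) (D.simple j) = D.simple j := by
    change (tabOf D).refl (D.simple i) ((tabOf D).refl (D.simple i) (D.simple j)) = D.simple j
    exact hG.refl_refl hi hq
  obtain ⟨c1, _, _⟩ := M1.2 _ hq
  have e1 := S.monE_conj_nbr hG M1 hq b
  have e2 := S.monE_conj_nbr hG M1 hq (-1)
  simp only [] at c1 e1 e2
  rw [hrefl] at e1 e2
  obtain ⟨lam, hlam⟩ : ∃ lam : K, lam = cf D K i ((tabOf D).reflWord [i] (D.simple j)) a *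
      cf D K i (D.simple j) (-1) := ⟨_, rfl⟩
  rw [← hlam] at c1 e1 e2
  have e3 : S.hb i a * S.hb j b * (S.hb i a)⁻¹ =
      (S.hb i a * S.nbr (D.simple j) b * (S.hb i a)⁻¹) *
        (S.hb i a * S.nbr (D.simple j) (-1) * (S.hb i a)⁻¹) := by
    have : S.hb j b = S.nbr (D.simple j) b * S.nbr (D.simple j) (-1) := rfl
    rw [this]; group
  have e1' : S.hb i a * S.nbr (D.simple j) b * (S.hb i a)⁻¹ = S.nb j (lam * b) := e1
  have e2' : S.hb i a * S.nbr (D.simple j) (-1) * (S.hb i a)⁻¹ = S.nb j (lam * -1) := e2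
  rw [e3, e1', e2', mul_neg, mul_one, ← S.nb_inv hG hj, S.nb_mul_nb_inv hG hj, mul_comm lam b,
    ← hR3 j hj b lam hb c1, mul_inv_cancel_right]

include hG hT h5 h5m h6 h7 h7m h8 h27 hR3 in
/-- `Hb` is commutative. -/
theorem Hb_comm : ∀ x ∈ S.Hb, ∀ y ∈ S.Hb, x * y = y * x := by
  have step1 : ∀ (i : ℕ) (a : K), i < D.rank → a ≠ 0 → ∀ y ∈ S.Hb, S.hb i a * y = y * S.hb i a := by
    intro i a hi ha y hy
    unfold Hb at hy
    induction hy using Subgroup.closure_induction with
    | mem z hz =>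
      obtain ⟨j, b, hj, hb, rfl⟩ := hz
      have := S.hb_conj_hb hG hT h5 h5m h6 h7 h7m h8 h27 hR3 hi hj ha hb
      rw [mul_inv_eq_iff_eq_mul] at this
      exact this
    | one => rw [mul_one, one_mul]
    | mul u v _ _ hu hv => rw [← mul_assoc, hu, mul_assoc, hv, mul_assoc]
    | inv u _ hu =>
      have : S.hb i a * u⁻¹ = u⁻¹ * (u * S.hb i a) * u⁻¹ := by group
      rw [this, ← hu]; group
  intro x hx y hy
  unfold Hb at hx
  induction hx using Subgroup.closure_induction with
  | mem z hz =>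
    obtain ⟨i, a, hi, ha, rfl⟩ := hz
    exact step1 i a hi ha y hy
  | one => rw [mul_one, one_mul]
  | mul u v _ _ hu hv => rw [mul_assoc, hv, ← mul_assoc, hu, mul_assoc]
  | inv u _ hu =>
    have : u⁻¹ * y = u⁻¹ * (y * u) * u⁻¹ := by group
    rw [this, ← hu]; group

end comm

section torus

variable (hG : Good2 D) (hT : T0 D) (h5 : (tabOf D).T5) (h5m : (tabOf D).T5m) (h6 : (tabOf D).T6)
  (h7 : (tabOf D).T7) (h7m : (tabOf D).T7m) (h8 : (tabOf D).T8) {wit : ℕ → ℕ × ℕ × ℕ}
  (h27 : (tabOf D).T37 wit)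
  (hR3 : ∀ i, i < D.rank → ∀ a b : K, a ≠ 0 → b ≠ 0 → S.hb i a * S.hb i b = S.hb i (a * b))
  {R P Q P' Q' : ℕ → ℕ → ℤ} {d : ℕ → ℕ} (h17 : T17 D R P Q P' Q' d)
  (hd : ∀ i < D.rank, d i = 1)

include hG in
theorem π_hb {i : ℕ} (hi : i < D.rank) (t : K) :
    ((S.π (S.hb i t) : GL D.Idx K) : Matrix D.Idx D.Idx K) = D.hMat K (D.simple i) t := by
  unfold hb
  rw [map_mul, Units.val_mul, S.π_nb hG hi, S.π_nb hG hi]
  unfold ChevalleyDatum.hMat ChevalleyDatum.hWord ChevalleyDatum.nMat
  rw [wordMat_append]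

include hG hT h5 h5m h6 h7 h7m h8 h27 hR3 h17 hd in
/-- The kernel of `π` on `Hb` is trivial when the torus of the Chevalley group is `(Kˣ)^l`. -/
theorem Hb_ker_trivial {x : Γ} (hx : x ∈ S.Hb) (hπ : S.π x = 1) : x = 1 := by
  classical
  have hG1 := hG.toGood1
  have hcomm := S.Hb_comm hG hT h5 h5m h6 h7 h7m h8 h27 hR3
  letI : CommGroup ↥S.Hb :=
    { (inferInstance : Group ↥S.Hb) with
      mul_comm := fun a b => Subtype.ext (hcomm a a.2 b b.2) }
  -- the generators as elements of the subgroup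
  let g : ℕ → K → ↥S.Hb := fun i t =>
    if h : i < D.rank ∧ t ≠ 0 then ⟨S.hb i t, S.hb_mem_Hb h.1 h.2⟩ else 1
  have hg_val : ∀ i t, i < D.rank → t ≠ 0 → ((g i t : ↥S.Hb) : Γ) = S.hb i t := by
    intro i t hi ht
    simp only [g, dif_pos (And.intro hi ht)]
  have hg_one : ∀ i, g i 1 = 1 := by
    intro i
    by_cases hi : i < D.rank
    · apply Subtype.ext
      rw [hg_val i 1 hi one_ne_zero, S.hb_one hG hi]; rfl
    · simp only [g]
      rw [dif_neg (fun h => hi h.1)]
  have hg_mul : ∀ i a b, i < D.rank → a ≠ 0 → b ≠ 0 → g i a * g i b = g i (a * b) := by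
    intro i a b hi ha hb
    apply Subtype.ext
    rw [Subgroup.coe_mul, hg_val i a hi ha, hg_val i b hi hb, hg_val i _ hi (mul_ne_zero ha hb),
      hR3 i hi a b ha hb]
  -- every element is a product
  have hprod : ∀ (y : Γ) (hy : y ∈ S.Hb), ∃ c : ℕ → K, (∀ i, c i ≠ 0) ∧
      (⟨y, hy⟩ : ↥S.Hb) = ((List.range D.rank).map fun i => g i (c i)).prod := by
    intro y hy
    unfold Hb at hy
    have hgen : ∀ (j : ℕ) (t : K) (hj : j < D.rank) (ht : t ≠ 0),
        g j t = ((List.range D.rank).map fun i => g i (Function.update (fun _ => (1 : K)) j t i)).prod := by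
      intro j t hj ht
      rw [← List.prod_toFinset _ (List.nodup_range), List.toFinset_range,
        Finset.prod_eq_single j]
      · rw [Function.update_self]
      · intro b _ hb
        rw [Function.update_of_ne hb, hg_one]
      · intro h
        exact absurd (Finset.mem_range.mpr hj) h
    induction hy using Subgroup.closure_induction'' with
    | one =>
      refine ⟨fun _ => 1, fun _ => one_ne_zero, ?_⟩
      symm
      apply List.prod_eq_one
      intro z hz
      rw [List.mem_map] at hz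
      obtain ⟨i, _, rfl⟩ := hz
      exact hg_one i
    | mem z hz =>
      obtain ⟨j, t, hj, ht, rfl⟩ := hz
      refine ⟨Function.update (fun _ => (1 : K)) j t, fun i => ?_, ?_⟩
      · by_cases h : i = j
        · rw [h, Function.update_self]; exact ht
        · rw [Function.update_of_ne h]; exact one_ne_zero
      · rw [← hgen j t hj ht]
        exact Subtype.ext (hg_val j t hj ht).symm
    | inv_mem z hz =>
      obtain ⟨j, t, hj, ht, rfl⟩ := hz
      refine ⟨Function.update (fun _ => (1 : K)) j t⁻¹, fun i => ?_, ?_⟩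
      · by_cases h : i = j
        · rw [h, Function.update_self]; exact inv_ne_zero ht
        · rw [Function.update_of_ne h]; exact one_ne_zero
      · rw [← hgen j t⁻¹ hj (inv_ne_zero ht)]
        apply Subtype.ext
        rw [hg_val j _ hj (inv_ne_zero ht)]
        have := hR3 j hj t t⁻¹ ht (inv_ne_zero ht)
        rw [mul_inv_cancel₀ ht, S.hb_one hG hj] at this
        exact inv_eq_of_mul_eq_one_right this
    | mul a b ha hb iha ihb =>
      obtain ⟨c, hc, e1⟩ := iha
      obtain ⟨c', hc', e2⟩ := ihb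
      refine ⟨fun i => c i * c' i, fun i => mul_ne_zero (hc i) (hc' i), ?_⟩
      have : (⟨a * b, mul_mem ha hb⟩ : ↥S.Hb) = ⟨a, ha⟩ * ⟨b, hb⟩ := rfl
      rw [this, e1, e2, ← List.prod_map_mul]
      congr 1
      apply List.map_congr_left
      intro i hi
      exact hg_mul i _ _ (List.mem_range.mp hi) (hc i) (hc' i)
  obtain ⟨c, hc, e⟩ := hprod x hx
  -- the image under `π`
  have hπc : ((S.π x : GL D.Idx K) : Matrix D.Idx D.Idx K) = tMat D c := by
    have hL : ∀ L : List ℕ, (∀ i ∈ L, i < D.rank) →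
        ((S.π (((L.map fun i => g i (c i)).prod : ↥S.Hb) : Γ) : GL D.Idx K) :
          Matrix D.Idx D.Idx K) = (L.map fun i => D.hMat K (D.simple i) (c i)).prod := by
      intro L
      induction L with
      | nil =>
        intro _
        rw [List.map_nil, List.prod_nil, List.map_nil, List.prod_nil, Subgroup.coe_one, map_one]
        rfl
      | cons i L ih =>
        intro hL
        have hi := hL i List.mem_cons_self
        rw [List.map_cons, List.prod_cons, List.map_cons, List.prod_cons, Subgroup.coe_mul, map_mul,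
          Units.val_mul, ih (fun j hj => hL j (List.mem_cons_of_mem _ hj)), hg_val i (c i) hi (hc i),
          S.π_hb hG hi]
    have e1 : x = ((((List.range D.rank).map fun i => g i (c i)).prod : ↥S.Hb) : Γ) := by
      rw [← e]
    rw [e1, hL _ (fun i hi => List.mem_range.mp hi),
      prod_hMat_simple hG1 _ (fun i hi => List.mem_range.mp hi) c (fun i _ => hc i)]
    rfl
  let c' : Fin D.rank → Kˣ := fun i => Units.mk0 (c i.val) (hc i.val)
  have ht : torusHom D K c' = 1 := by
    apply Units.ext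
    rw [torusHom_apply, tGL_coe, Units.val_one, ← Units.val_one, ← hπ, hπc]
    apply tMat_congr
    intro i hi
    simp only [extc, dif_pos hi, c', Units.val_mk0]
  have hc1 : c' = 1 := by
    apply torusHom_injective (F := K) hG1 h17 hd
    rw [ht, map_one]
  have hci : ∀ i, i < D.rank → c i = 1 := by
    intro i hi
    have := congrFun hc1 ⟨i, hi⟩
    simp only [c', Pi.one_apply] at this
    have h2 := congrArg Units.val this
    rw [Units.val_mk0, Units.val_one] at h2
    exact h2
  have hx1 : (⟨x, hx⟩ : ↥S.Hb) = 1 := by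
    rw [e]
    apply List.prod_eq_one
    intro z hz
    rw [List.mem_map] at hz
    obtain ⟨i, hi, rfl⟩ := hz
    rw [hci i (List.mem_range.mp hi)]
    exact hg_one i
  exact congrArg Subtype.val hx1

end torus

end StD

end Cfsg.Agent.Helper7.St
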