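import Mathlib
import Cfsg.Agent.Helper7.StN

set_option autoImplicit false
set_option linter.unusedSectionVars false
set_option linter.unusedVariables false

/-!
In a group with the relations (R1), (R2), (R3) every element of the subgroup generated by the elements
`hb i t` is a product `hb 0 (c 0) ⋯ hb (l-1) (c (l-1))`, and the matrix of such a product is the torus
element with parameters `c`.
-/

namespace Cfsg.Agent.Helper7.St

open Cfsg Cfsg.Lie Matrix Cfsg.Agent.Helper7.Chev
open scoped Pointwise

variable {D : ChevalleyDatum} {K : Type*} [Field K] {Γ : Type*} [Group Γ] (S : StD D K Γ)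

namespace StD

/-- The product of the elements `hb i (c i)`. -/
def hpr (c : ℕ → K) : Γ := ((List.range D.rank).map fun i => S.hb i (c i)).prod

theorem hpr_congr {c c' : ℕ → K} (h : ∀ i, i < D.rank → c i = c' i) : S.hpr c = S.hpr c' := by
  unfold hpr
  congr 1
  apply List.map_congr_left
  intro i hi
  rw [h i (List.mem_range.mp hi)]

section torus

variable (hG : Good2 D) (hT : T0 D) (h5 : (tabOf D).T5) (h5m : (tabOf D).T5m) (h6 : (tabOf D).T6)
  (h7 : (tabOf D).T7) (h7m : (tabOf D).T7m) (h8 : (tabOf D).T8) {wit : ℕ → ℕ × ℕ × ℕ}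
  (h27 : (tabOf D).T37 wit)
  (hR3 : ∀ i, i < D.rank → ∀ a b : K, a ≠ 0 → b ≠ 0 → S.hb i a * S.hb i b = S.hb i (a * b))

theorem hpr_mem_Hb (c : ℕ → K) (hc : ∀ i, c i ≠ 0) : S.hpr c ∈ S.Hb := by
  unfold hpr
  apply Subgroup.list_prod_mem
  intro x hx
  rw [List.mem_map] at hx
  obtain ⟨i, hi, rfl⟩ := hx
  exact S.hb_mem_Hb (List.mem_range.mp hi) (hc i)

include hG in
/-- The matrix of a product. -/
theorem π_hpr (c : ℕ → K) (hc : ∀ i, c i ≠ 0) :
    ((S.π (S.hpr c) : GL D.Idx K) : Matrix D.Idx D.Idx K) = tMat D c := by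
  have hG1 := hG.toGood1
  have hL : ∀ L : List ℕ, (∀ i ∈ L, i < D.rank) →
      ((S.π ((L.map fun i => S.hb i (c i)).prod) : GL D.Idx K) :
        Matrix D.Idx D.Idx K) = (L.map fun i => D.hMat K (D.simple i) (c i)).prod := by
    intro L
    induction L with
    | nil =>
      intro _
      rw [List.map_nil, List.prod_nil, List.map_nil, List.prod_nil, map_one]
      rfl
    | cons i L ih =>
      intro hL
      have hi := hL i List.mem_cons_self
      rw [List.map_cons, List.prod_cons, List.map_cons, List.prod_cons, map_mul,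
        Units.val_mul, ih (fun j hj => hL j (List.mem_cons_of_mem _ hj)), S.π_hb hG hi]
  unfold hpr
  rw [hL _ (fun i hi => List.mem_range.mp hi),
    prod_hMat_simple hG1 _ (fun i hi => List.mem_range.mp hi) c (fun i _ => hc i)]
  rfl

include hG hT h5 h5m h6 h7 h7m h8 h27 hR3 in
/-- Every element of `Hb` is a product. -/
theorem Hb_exists_hpr {y : Γ} (hy : y ∈ S.Hb) : ∃ c : ℕ → K, (∀ i, c i ≠ 0) ∧ y = S.hpr c := by
  classical
  have hG1 := hG.toGood1
  have hcomm := S.Hb_comm hG hT h5 h5m h6 h7 h7m h8 h27 hR3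
  letI : CommGroup ↥S.Hb :=
    { (inferInstance : Group ↥S.Hb) with
      mul_comm := fun a b => Subtype.ext (hcomm a a.2 b b.2) }
  -- the generators as elements of the subgroup
  let g : ℕ → K → ↥S.Hb := fun i t =>
    if h : i < D.rank ∧ t ≠ 0 then ⟨S.hb i t, S.hb_mem_Hb h.1 h.2⟩ else 1
  have hg_val : ∀ i t, i < D.rank → t ≠ 0 → ((g i t : ↥S.Hb) : Γ) = S.hb i t := by
    intro i t hi ht
    simp only [g, dif_pos (And.intro hi ht)]
  have hg_one : ∀ i, g i 1 = 1 := by
    intro i
    by_cases hi : i < D.rank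
    · apply Subtype.ext
      rw [hg_val i 1 hi one_ne_zero, S.hb_one hG hi]; rfl
    · simp only [g]
      rw [dif_neg (fun h => hi h.1)]
  have hg_mul : ∀ i a b, i < D.rank → a ≠ 0 → b ≠ 0 → g i a * g i b = g i (a * b) := by
    intro i a b hi ha hb
    apply Subtype.ext
    rw [Subgroup.coe_mul, hg_val i a hi ha, hg_val i b hi hb, hg_val i _ hi (mul_ne_zero ha hb),
      hR3 i hi a b ha hb]
  -- every element is a product
  have hprod : ∀ (y : Γ) (hy : y ∈ S.Hb), ∃ c : ℕ → K, (∀ i, c i ≠ 0) ∧
      (⟨y, hy⟩ : ↥S.Hb) = ((List.range D.rank).map fun i => g i (c i)).prod := by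
    intro y hy
    unfold Hb at hy
    have hgen : ∀ (j : ℕ) (t : K) (hj : j < D.rank) (ht : t ≠ 0),
        g j t = ((List.range D.rank).map fun i => g i (Function.update (fun _ => (1 : K)) j t i)).prod := by
      intro j t hj ht
      rw [← List.prod_toFinset _ (List.nodup_range), List.toFinset_range,
        Finset.prod_eq_single j]
      · rw [Function.update_self]
      · intro b _ hb
        rw [Function.update_of_ne hb, hg_one]
      · intro h
        exact absurd (Finset.mem_range.mpr hj) h
    induction hy using Subgroup.closure_induction'' with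
    | one =>
      refine ⟨fun _ => 1, fun _ => one_ne_zero, ?_⟩
      symm
      apply List.prod_eq_one
      intro z hz
      rw [List.mem_map] at hz
      obtain ⟨i, _, rfl⟩ := hz
      exact hg_one i
    | mem z hz =>
      obtain ⟨j, t, hj, ht, rfl⟩ := hz
      refine ⟨Function.update (fun _ => (1 : K)) j t, fun i => ?_, ?_⟩
      · by_cases h : i = j
        · rw [h, Function.update_self]; exact ht
        · rw [Function.update_of_ne h]; exact one_ne_zero
      · rw [← hgen j t hj ht]
        exact Subtype.ext (hg_val j t hj ht).symm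
    | inv_mem z hz =>
      obtain ⟨j, t, hj, ht, rfl⟩ := hz
      refine ⟨Function.update (fun _ => (1 : K)) j t⁻¹, fun i => ?_, ?_⟩
      · by_cases h : i = j
        · rw [h, Function.update_self]; exact inv_ne_zero ht
        · rw [Function.update_of_ne h]; exact one_ne_zero
      · rw [← hgen j t⁻¹ hj (inv_ne_zero ht)]
        apply Subtype.ext
        rw [hg_val j _ hj (inv_ne_zero ht)]
        have := hR3 j hj t t⁻¹ ht (inv_ne_zero ht)
        rw [mul_inv_cancel₀ ht, S.hb_one hG hj] at this
        exact inv_eq_of_mul_eq_one_right this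
    | mul a b ha hb iha ihb =>
      obtain ⟨c, hc, e1⟩ := iha
      obtain ⟨c', hc', e2⟩ := ihb
      refine ⟨fun i => c i * c' i, fun i => mul_ne_zero (hc i) (hc' i), ?_⟩
      have : (⟨a * b, mul_mem ha hb⟩ : ↥S.Hb) = ⟨a, ha⟩ * ⟨b, hb⟩ := rfl
      rw [this, e1, e2, ← List.prod_map_mul]
      congr 1
      apply List.map_congr_left
      intro i hi
      exact hg_mul i _ _ (List.mem_range.mp hi) (hc i) (hc' i)
  obtain ⟨c, hc, e⟩ := hprod y hy
  refine ⟨c, hc, ?_⟩
  have e1 : y = ((((List.range D.rank).map fun i => g i (c i)).prod : ↥S.Hb) : Γ) := by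
    rw [← e]
  rw [e1]
  have hL : ∀ L : List ℕ, (∀ i ∈ L, i < D.rank) →
      ((((L.map fun i => g i (c i)).prod : ↥S.Hb)) : Γ) = (L.map fun i => S.hb i (c i)).prod := by
    intro L
    induction L with
    | nil => intro _; rfl
    | cons i L ih =>
      intro hL
      have hi := hL i List.mem_cons_self
      rw [List.map_cons, List.prod_cons, List.map_cons, List.prod_cons, Subgroup.coe_mul,
        ih (fun j hj => hL j (List.mem_cons_of_mem _ hj)), hg_val i (c i) hi (hc i)]
  unfold hpr
  exact hL _ (fun i hi => List.mem_range.mp hi)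

end torus

end StD

end Cfsg.Agent.Helper7.St
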