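import Mathlib
import Cfsg.Agent.Helper7.StJ
import Cfsg.Agent.Helper7.StL

set_option autoImplicit false
set_option linter.unusedSectionVars false
set_option linter.unusedVariables false

/-!
The kernel of a homomorphism from the group presented by (R1), (R2), (R3) to the Chevalley group mapping
the generators to the root elements lies in the subgroup generated by the elements `h̄_p(t)`, `p`
fundamental.
-/

namespace Cfsg.Agent.Helper7.St

open Cfsg Cfsg.Lie Matrix Cfsg.Agent.Helper7.Chev

variable {D : ChevalleyDatum} {K : Type*} [Field K]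

section presented

variable (hG : Good3 D) (rels : Set (FreeGroup (Fin D.nroots × K)))
  (hAB : D.steinbergRelsAB K ⊆ rels) (hkill : ∀ g ∈ rels, liftX hG.toGood1 g = 1)

/-- A homomorphism to the Chevalley group mapping the generators to the root elements is `toChev`. -/
theorem eq_toChev (θ : PresentedGroup rels →* ↥(D.group K))
    (hθ : ∀ (r : ℕ) (t : K), r < D.nroots →
      ((θ (PresentedGroup.mk rels (D.stX r t)) : GL D.Idx K) : Matrix D.Idx D.Idx K) = D.x K r t) :
    θ = toChev hG rels hkill := by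
  apply PresentedGroup.ext
  rintro ⟨r, t⟩
  have e : (PresentedGroup.of (r, t) : PresentedGroup rels) =
      PresentedGroup.mk rels (D.stX r.val t) := by
    unfold ChevalleyDatum.stX
    rw [dif_pos r.2]
    rfl
  rw [e]
  apply Subtype.ext
  apply Units.ext
  rw [hθ r.val t r.2, toChev_stX]

theorem stdOf_nbr (r : ℕ) (t : K) :
    (stdOf hG rels hAB hkill).nbr r t = PresentedGroup.mk rels (D.stWord (D.nWord r t)) := by
  unfold StD.nbr ChevalleyDatum.stWord ChevalleyDatum.nWord
  rw [stdOf_xb, stdOf_xb]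
  simp only [List.map_cons, List.map_nil, List.prod_cons, List.prod_nil, mul_one, map_mul, mul_assoc]

theorem stdOf_hb (i : ℕ) (t : K) :
    (stdOf hG rels hAB hkill).hb i t = PresentedGroup.mk rels (D.stH (D.simple i) t) := by
  unfold StD.hb ChevalleyDatum.stH ChevalleyDatum.hWord
  rw [StD.nb_eq_nbr, StD.nb_eq_nbr, stdOf_nbr, stdOf_nbr, ← map_mul]
  congr 1
  unfold ChevalleyDatum.stWord
  rw [List.map_append, List.prod_append]

end presented

/-- The kernel lies in the subgroup generated by the elements `h̄_p(t)`. -/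
theorem steinberg_ker_le (hD : D ∈ [chevG2, chevB2, chevD4, chevF4, chevE6, chevE7, chevE8])
    {n : ℕ} (hn : n = D.rank) (M : CoxeterMatrix (Fin n)) {m : ℕ → ℕ → ℕ}
    (hm : ∀ i j : Fin n, M i j = m i j) (h21 : (tabOf D).T21 m) (h28 : (tabOf D).T38 m)
    (θ : D.SteinbergGroup K →* ↥(D.group K))
    (hθ : ∀ (r : ℕ) (t : K), r < D.nroots →
      ((θ (D.stGen K r t) : GL D.Idx K) : Matrix D.Idx D.Idx K) = D.x K r t) :
    θ.ker ≤ Subgroup.closure {h | ∃ (i : ℕ) (t : K), i < D.rank ∧ t ≠ 0 ∧
      h = PresentedGroup.mk (D.steinbergRels K) (D.stH (D.simple i) t)} := by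
  have hG := good3_of_mem D hD
  have hkill : ∀ g ∈ D.steinbergRels K, liftX (good3_of_mem D hD).toGood1 g = 1 :=
    fun g hg => liftX_rels (good3_of_mem D hD) hg
  have hAB : D.steinbergRelsAB K ⊆ D.steinbergRels K := fun g hg => Or.inl hg
  have hθ' := eq_toChev (good3_of_mem D hD) (D.steinbergRels K) hkill θ hθ
  obtain ⟨wit, h27⟩ := T37_of_mem D hD
  intro x hx
  rw [MonoidHom.mem_ker, hθ'] at hx
  have hN := (toChev_ker_mem hD (D.steinbergRels K) hAB hkill hx).1
  have hπ := (toChev_ker_iff (good3_of_mem D hD) (D.steinbergRels K) hAB hkill x).mp hx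
  have hH := (stdOf (good3_of_mem D hD) (D.steinbergRels K) hAB hkill).Nb_ker_le_Hb hG.toGood2
    (T0_of_mem D hD) hG.t3 hG.t4 (T5_of_mem D hD) (T5m_of_mem D hD) (T6_of_mem D hD)
    (T7_of_mem D hD) (T7m_of_mem D hD) (T8_of_mem D hD) (T9_of_mem D hD) h27 hn M hm h21 h28 hN hπ
  have hle : (stdOf (good3_of_mem D hD) (D.steinbergRels K) hAB hkill).Hb ≤
      Subgroup.closure {h | ∃ (i : ℕ) (t : K), i < D.rank ∧ t ≠ 0 ∧
        h = PresentedGroup.mk (D.steinbergRels K) (D.stH (D.simple i) t)} := by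
    unfold StD.Hb
    apply Subgroup.closure_mono
    rintro y ⟨i, t, hi, ht, rfl⟩
    exact ⟨i, t, hi, ht, stdOf_hb _ _ hAB hkill i t⟩
  exact hle hH

end Cfsg.Agent.Helper7.St
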