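import Mathlib
import Cfsg.Agent.Helper7.StM
import Cfsg.Agent.Helper7.StN
import Cfsg.Agent.Helper7.StZ

set_option autoImplicit false
set_option linter.unusedSectionVars false
set_option linter.unusedVariables false

/-!
The centre of the group presented by (R1), (R2), (R3) is trivial when the torus of the Chevalley group is
`(Kˣ)^l`.
-/

namespace Cfsg.Agent.Helper7.St

open Cfsg Cfsg.Lie Matrix Cfsg.Agent.Helper7.Chev

variable {D : ChevalleyDatum} {K : Type*} [Field K]

theorem steinberg_center_trivial (hD : D ∈ [chevG2, chevB2, chevD4, chevF4, chevE6, chevE7, chevE8])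
    {n : ℕ} (hn : n = D.rank) (M : CoxeterMatrix (Fin n)) {m : ℕ → ℕ → ℕ}
    (hm : ∀ i j : Fin n, M i j = m i j) (h21 : (tabOf D).T21 m) (h28 : (tabOf D).T38 m)
    {R P Q P' Q' : ℕ → ℕ → ℤ} {d : ℕ → ℕ} (h17 : T17 D R P Q P' Q' d)
    (hd : ∀ i < D.rank, d i = 1) :
    Subgroup.center (D.SteinbergGroup K) = ⊥ := by
  have hG := good3_of_mem D hD
  have hG1 := hG.toGood1
  have hkill : ∀ g ∈ D.steinbergRels K, liftX (good3_of_mem D hD).toGood1 g = 1 :=
    fun g hg => liftX_rels (good3_of_mem D hD) hg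
  have hAB : D.steinbergRelsAB K ⊆ D.steinbergRels K := fun g hg => Or.inl hg
  obtain ⟨wit, h27⟩ := T37_of_mem D hD
  have hsurj := toChev_surjective (good3_of_mem D hD) (D.steinbergRels K) hkill
  rw [eq_bot_iff]
  intro z hz
  rw [Subgroup.mem_bot]
  -- `z` lies in the kernel
  have hzk : toChev (good3_of_mem D hD) (D.steinbergRels K) hkill z = 1 := by
    have hc : toChev (good3_of_mem D hD) (D.steinbergRels K) hkill z ∈
        Subgroup.center ↥(D.group K) := by
      rw [Subgroup.mem_center_iff]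
      intro g
      obtain ⟨y, rfl⟩ := hsurj g
      rw [← map_mul, ← map_mul, (Subgroup.mem_center_iff.mp hz) y]
    rw [center_group_eq_bot hD, Subgroup.mem_bot] at hc
    exact hc
  have hN := (toChev_ker_mem hD (D.steinbergRels K) hAB hkill hzk).1
  have hπ := (toChev_ker_iff (good3_of_mem D hD) (D.steinbergRels K) hAB hkill z).mp hzk
  have hH := (stdOf (good3_of_mem D hD) (D.steinbergRels K) hAB hkill).Nb_ker_le_Hb hG.toGood2
    (T0_of_mem D hD) hG.t3 hG.t4 (T5_of_mem D hD) (T5m_of_mem D hD) (T6_of_mem D hD)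
    (T7_of_mem D hD) (T7m_of_mem D hD) (T8_of_mem D hD) (T9_of_mem D hD) h27 hn M hm h21 h28 hN hπ
  have hR3 : ∀ i, i < D.rank → ∀ a b : K, a ≠ 0 → b ≠ 0 →
      (stdOf (good3_of_mem D hD) (D.steinbergRels K) hAB hkill).hb i a *
        (stdOf (good3_of_mem D hD) (D.steinbergRels K) hAB hkill).hb i b =
      (stdOf (good3_of_mem D hD) (D.steinbergRels K) hAB hkill).hb i (a * b) := by
    intro i hi a b ha hb
    rw [stdOf_hb, stdOf_hb, stdOf_hb]
    have h : D.stH (D.simple i) a * D.stH (D.simple i) b * (D.stH (D.simple i) (a * b))⁻¹ ∈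
        D.steinbergRels K := Or.inr ⟨D.simple i, a, b, hG1.simple_lt hi, ha, hb, rfl⟩
    have := PresentedGroup.one_of_mem h
    rw [map_mul, map_mul, map_inv, mul_inv_eq_one] at this
    exact this
  exact (stdOf (good3_of_mem D hD) (D.steinbergRels K) hAB hkill).Hb_ker_trivial hG.toGood2
    (T0_of_mem D hD) (T5_of_mem D hD) (T5m_of_mem D hD) (T6_of_mem D hD)
    (T7_of_mem D hD) (T7m_of_mem D hD) (T8_of_mem D hD) h27 hR3 h17 hd hH hπ

end Cfsg.Agent.Helper7.St
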