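import Mathlib
import Cfsg.Agent.Helper7.StEmbA
import Cfsg.Agent.Helper7.StEmbC
import Cfsg.Agent.Helper7.StO
import Cfsg.Agent.Helper7.ChevCardH

set_option autoImplicit false
set_option linter.unusedSectionVars false
set_option linter.unusedVariables false

/-!
The centre of the group given by Steinberg's presentation, for a datum whose root system embeds in one with
unimodular Cartan matrix: it is in bijection with the kernel of the torus `(Kˣ)^l` of the adjoint group.
-/

namespace Cfsg.Agent.Helper7.St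

open Cfsg Cfsg.Lie Matrix Cfsg.Agent.Helper7.Chev

variable {D : ChevalleyDatum} {K : Type*} [Field K]

/-- The group given by the presentation, with its elements `xb` and its homomorphism to the matrix
group. -/
noncomputable def stS (hD : D ∈ [chevG2, chevB2, chevD4, chevF4, chevE6, chevE7, chevE8])
    (K : Type*) [Field K] : StD D K (D.SteinbergGroup K) :=
  stdOf (good3_of_mem D hD) (D.steinbergRels K) (fun g hg => Or.inl hg)
    (fun g hg => liftX_rels (good3_of_mem D hD) hg)

section basic

variable (hD : D ∈ [chevG2, chevB2, chevD4, chevF4, chevE6, chevE7, chevE8])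

theorem stS_hb (i : ℕ) (t : K) :
    (stS hD K).hb i t = PresentedGroup.mk (D.steinbergRels K) (D.stH (D.simple i) t) :=
  stdOf_hb _ _ _ _ i t

theorem stS_R3 : ∀ i, i < D.rank → ∀ a b : K, a ≠ 0 → b ≠ 0 →
    (stS hD K).hb i a * (stS hD K).hb i b = (stS hD K).hb i (a * b) := by
  intro i hi a b ha hb
  have hG1 := (good3_of_mem D hD).toGood1
  rw [stS_hb, stS_hb, stS_hb]
  have h : D.stH (D.simple i) a * D.stH (D.simple i) b * (D.stH (D.simple i) (a * b))⁻¹ ∈
      D.steinbergRels K := Or.inr ⟨D.simple i, a, b, hG1.simple_lt hi, ha, hb, rfl⟩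
  have := PresentedGroup.one_of_mem h
  rw [map_mul, map_mul, map_inv, mul_inv_eq_one] at this
  exact this

/-- Every element of `Hb` is a product. -/
theorem stS_exists_hpr {y : D.SteinbergGroup K} (hy : y ∈ (stS hD K).Hb) :
    ∃ c : ℕ → K, (∀ i, c i ≠ 0) ∧ y = (stS hD K).hpr c := by
  obtain ⟨wit, h27⟩ := T37_of_mem D hD
  exact (stS hD K).Hb_exists_hpr (good3_of_mem D hD).toGood2
    (T0_of_mem D hD) (T5_of_mem D hD) (T5m_of_mem D hD) (T6_of_mem D hD)
    (T7_of_mem D hD) (T7m_of_mem D hD) (T8_of_mem D hD) h27 (stS_R3 hD) hy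

theorem stS_π_hpr (c : ℕ → K) (hc : ∀ i, c i ≠ 0) :
    (((stS hD K).π ((stS hD K).hpr c) : GL D.Idx K) : Matrix D.Idx D.Idx K) = tMat D c :=
  (stS hD K).π_hpr (good3_of_mem D hD).toGood2 c hc

/-- The centre consists of the elements of `Hb` with trivial matrix. -/
theorem mem_center_iff_stS {n : ℕ} (hn : n = D.rank) (M : CoxeterMatrix (Fin n)) {m : ℕ → ℕ → ℕ}
    (hm : ∀ i j : Fin n, M i j = m i j) (h21 : (tabOf D).T21 m) (h28 : (tabOf D).T38 m)
    (z : D.SteinbergGroup K) :
    z ∈ Subgroup.center (D.SteinbergGroup K) ↔ z ∈ (stS hD K).Hb ∧ (stS hD K).π z = 1 := by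
  have hG := good3_of_mem D hD
  have hG1 := hG.toGood1
  have hkill : ∀ g ∈ D.steinbergRels K, liftX (good3_of_mem D hD).toGood1 g = 1 :=
    fun g hg => liftX_rels (good3_of_mem D hD) hg
  have hAB : D.steinbergRelsAB K ⊆ D.steinbergRels K := fun g hg => Or.inl hg
  obtain ⟨wit, h27⟩ := T37_of_mem D hD
  have hsurj := toChev_surjective (good3_of_mem D hD) (D.steinbergRels K) hkill
  constructor
  · intro hz
    have hzk : toChev (good3_of_mem D hD) (D.steinbergRels K) hkill z = 1 := by
      have hc : toChev (good3_of_mem D hD) (D.steinbergRels K) hkill z ∈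
          Subgroup.center ↥(D.group K) := by
        rw [Subgroup.mem_center_iff]
        intro g
        obtain ⟨y, rfl⟩ := hsurj g
        rw [← map_mul, ← map_mul, (Subgroup.mem_center_iff.mp hz) y]
      rw [center_group_eq_bot hD, Subgroup.mem_bot] at hc
      exact hc
    have hN := (toChev_ker_mem hD (D.steinbergRels K) hAB hkill hzk).1
    have hπ := (toChev_ker_iff (good3_of_mem D hD) (D.steinbergRels K) hAB hkill z).mp hzk
    have hH := (stdOf (good3_of_mem D hD) (D.steinbergRels K) hAB hkill).Nb_ker_le_Hb hG.toGood2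
      (T0_of_mem D hD) hG.t3 hG.t4 (T5_of_mem D hD) (T5m_of_mem D hD) (T6_of_mem D hD)
      (T7_of_mem D hD) (T7m_of_mem D hD) (T8_of_mem D hD) (T9_of_mem D hD) h27 hn M hm h21 h28 hN hπ
    exact ⟨hH, hπ⟩
  · rintro ⟨_, hπ⟩
    have hzk := (toChev_ker_iff (good3_of_mem D hD) (D.steinbergRels K) hAB hkill z).mpr hπ
    exact (toChev_ker_mem hD (D.steinbergRels K) hAB hkill hzk).2

end basic

section emb

variable {D' : ChevalleyDatum} {ι : ℕ → ℕ}
  (hD : D ∈ [chevG2, chevB2, chevD4, chevF4, chevE6, chevE7, chevE8])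
  (hD' : D' ∈ [chevG2, chevB2, chevD4, chevF4, chevE6, chevE7, chevE8])
  (h : Emb D D' ι) (hs : ∀ i, i < D.rank → ι (D.simple i) = D'.simple i)
  (hle : D.rank ≤ D'.rank)

include hs in
theorem embHom_hb {i : ℕ} (hi : i < D.rank) (t : K) :
    embHom h K ((stS hD K).hb i t) = (stS hD' K).hb i t := by
  have hG1 := (good3_of_mem D hD).toGood1
  rw [stS_hb, stS_hb, embHom_stH h K (hG1.simple_lt hi), hs i hi]

/-- Extension of the parameters by `1`. -/
def extOne (l : ℕ) (c : ℕ → K) : ℕ → K := fun i => if i < l then c i else 1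

theorem extOne_ne_zero {l : ℕ} {c : ℕ → K} (hc : ∀ i, c i ≠ 0) (i : ℕ) : extOne l c i ≠ 0 := by
  unfold extOne
  split_ifs
  · exact hc i
  · exact one_ne_zero

include hs hle in
theorem embHom_hpr (c : ℕ → K) :
    embHom h K ((stS hD K).hpr c) = (stS hD' K).hpr (extOne D.rank c) := by
  have hG' := (good3_of_mem D' hD').toGood2
  obtain ⟨k, hk⟩ := Nat.exists_eq_add_of_le hle
  unfold StD.hpr
  rw [hk, List.range_add, List.map_append, List.prod_append, map_list_prod, List.map_map]
  have e2 : (((List.range k).map (fun x => D.rank + x)).map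
      fun i => (stS hD' K).hb i (extOne D.rank c i)).prod = 1 := by
    apply List.prod_eq_one
    intro x hx
    rw [List.mem_map] at hx
    obtain ⟨i, hi, rfl⟩ := hx
    rw [List.mem_map] at hi
    obtain ⟨j, hj, rfl⟩ := hi
    have hjk := List.mem_range.mp hj
    unfold extOne
    rw [if_neg (by omega)]
    exact (stS hD' K).hb_one hG' (by omega)
  rw [e2, mul_one]
  congr 1
  apply List.map_congr_left
  intro i hi
  have hi' := List.mem_range.mp hi
  rw [Function.comp_apply, embHom_hb hD hD' h hs hi']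
  unfold extOne
  rw [if_pos hi']

variable {R P Q P' Q' : ℕ → ℕ → ℤ} {d : ℕ → ℕ} (h17 : T17 D' R P Q P' Q' d)
  (hd : ∀ i < D'.rank, d i = 1)

include h17 hd in
/-- In the group of the datum with unimodular Cartan matrix the parameters of a product are determined. -/
theorem hpr_inj_unimodular {c c₂ : ℕ → K} (hc : ∀ i, c i ≠ 0) (hc₂ : ∀ i, c₂ i ≠ 0)
    (heq : (stS hD' K).hpr c = (stS hD' K).hpr c₂) : ∀ i, i < D'.rank → c i = c₂ i := by
  have hG1 := (good3_of_mem D' hD').toGood1
  have e1 := stS_π_hpr hD' c hc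
  have e2 := stS_π_hpr hD' c₂ hc₂
  rw [heq] at e1
  have e3 : tMat D' c = tMat D' c₂ := e1.symm.trans e2
  let u : Fin D'.rank → Kˣ := fun i => Units.mk0 (c i.val) (hc i.val)
  let u₂ : Fin D'.rank → Kˣ := fun i => Units.mk0 (c₂ i.val) (hc₂ i.val)
  have ht : torusHom D' K u = torusHom D' K u₂ := by
    apply Units.ext
    rw [torusHom_apply, torusHom_apply, tGL_coe, tGL_coe]
    have a1 : tMat D' (extc D'.rank u) = tMat D' c := by
      apply tMat_congr
      intro i hi
      simp only [extc, dif_pos hi, u, Units.val_mk0]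
    have a2 : tMat D' (extc D'.rank u₂) = tMat D' c₂ := by
      apply tMat_congr
      intro i hi
      simp only [extc, dif_pos hi, u₂, Units.val_mk0]
    rw [a1, a2, e3]
  have hu := torusHom_injective (F := K) hG1 h17 hd ht
  intro i hi
  have := congrFun hu ⟨i, hi⟩
  simp only [u, u₂] at this
  have h2 := congrArg Units.val this
  rw [Units.val_mk0, Units.val_mk0] at h2
  exact h2

include hD' h hs hle h17 hd in
/-- The parameters of a product are determined. -/
theorem hpr_inj_of_emb {c c₂ : ℕ → K} (hc : ∀ i, c i ≠ 0) (hc₂ : ∀ i, c₂ i ≠ 0)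
    (heq : (stS hD K).hpr c = (stS hD K).hpr c₂) : ∀ i, i < D.rank → c i = c₂ i := by
  have e := congrArg (embHom h K) heq
  rw [embHom_hpr hD hD' h hs hle, embHom_hpr hD hD' h hs hle] at e
  intro i hi
  have := hpr_inj_unimodular hD' h17 hd (extOne_ne_zero hc) (extOne_ne_zero hc₂) e i (by omega)
  unfold extOne at this
  rw [if_pos hi, if_pos hi] at this
  exact this

end emb

end Cfsg.Agent.Helper7.St
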