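import Mathlib
import Cfsg.Agent.Helper7.StEmbD

set_option autoImplicit false
set_option linter.unusedSectionVars false
set_option linter.unusedVariables false

/-!
The order of the centre of the group given by Steinberg's presentation over a finite field, for a datum whose
root system embeds in one with unimodular Cartan matrix.
-/

namespace Cfsg.Agent.Helper7.St

open Cfsg Cfsg.Lie Matrix Cfsg.Agent.Helper7.Chev

variable {D : ChevalleyDatum} {K : Type*} [Field K]

/-- The order of the kernel of the torus. -/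
theorem card_ker_torusHom [Fintype K] (hG : Good1 D) {R P Q P' Q' : ℕ → ℕ → ℤ} {d : ℕ → ℕ}
    (h17 : T17 D R P Q P' Q' d) :
    Nat.card {c : Fin D.rank → Kˣ // torusHom D K c = 1} =
      ∏ i : Fin D.rank, (Fintype.card K - 1).gcd (d i.val) := by
  classical
  have hcard : Nat.card Kˣ = Fintype.card K - 1 := by
    rw [Nat.card_units, Nat.card_eq_fintype_card]
  have h2 : Nat.card {c : Fin D.rank → Kˣ // torusHom D K c = 1} =
      Nat.card {c : Fin D.rank → Kˣ // zact (cartanC D) c = 1} := by
    apply Nat.card_congr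
    apply Equiv.subtypeEquivRight
    intro c
    rw [torusHom_ker, zact_cartanM_iff hG h17]
  have hS : toM D.rank D.rank P * cartanC D * toM D.rank D.rank Q =
      Matrix.diagonal (fun i : Fin D.rank => (d i.val : ℤ)) := by
    unfold cartanC
    rw [toM_mul, toM_mul]
    exact toM_diagonal h17.smith
  have hP : toM D.rank D.rank P * toM D.rank D.rank P' = 1 := by
    rw [toM_mul]; exact toM_one h17.invP
  have hQ : toM D.rank D.rank Q * toM D.rank D.rank Q' = 1 := by
    rw [toM_mul]; exact toM_one h17.invQ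
  rw [h2, card_ker_zact hS hP hQ, hcard]

section emb

variable {D' : ChevalleyDatum} {ι : ℕ → ℕ}
  (hD : D ∈ [chevG2, chevB2, chevD4, chevF4, chevE6, chevE7, chevE8])
  (hD' : D' ∈ [chevG2, chevB2, chevD4, chevF4, chevE6, chevE7, chevE8])
  (h : Emb D D' ι) (hs : ∀ i, i < D.rank → ι (D.simple i) = D'.simple i)
  (hle : D.rank ≤ D'.rank)
  {R P Q P' Q' : ℕ → ℕ → ℤ} {d : ℕ → ℕ} (h17 : T17 D' R P Q P' Q' d)
  (hd : ∀ i < D'.rank, d i = 1)
  {n : ℕ} (hn : n = D.rank) (M : CoxeterMatrix (Fin n)) {m : ℕ → ℕ → ℕ}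
  (hm : ∀ i j : Fin n, M i j = m i j) (h21 : (tabOf D).T21 m) (h28 : (tabOf D).T38 m)

include hD hD' h hs hle h17 hd hn hm h21 h28 in
/-- The centre is in bijection with the kernel of the torus. -/
theorem card_center_of_emb :
    Nat.card (Subgroup.center (D.SteinbergGroup K)) =
      Nat.card {c : Fin D.rank → Kˣ // torusHom D K c = 1} := by
  symm
  have hmem : ∀ c : Fin D.rank → Kˣ, torusHom D K c = 1 →
      (stS hD K).hpr (extc D.rank c) ∈ Subgroup.center (D.SteinbergGroup K) := by
    intro c hc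
    rw [mem_center_iff_stS hD hn M hm h21 h28]
    refine ⟨(stS hD K).hpr_mem_Hb _ (extc_ne_zero c), ?_⟩
    apply Units.ext
    rw [stS_π_hpr hD _ (extc_ne_zero c), ← tGL_coe, ← torusHom_apply, hc]
  apply Nat.card_congr
  refine Equiv.ofBijective
    (fun c => ⟨(stS hD K).hpr (extc D.rank c.1), hmem c.1 c.2⟩) ⟨?_, ?_⟩
  · rintro ⟨c, hc⟩ ⟨c₂, hc₂⟩ e
    have e' : (stS hD K).hpr (extc D.rank c) = (stS hD K).hpr (extc D.rank c₂) :=
      congrArg Subtype.val e
    have := hpr_inj_of_emb hD hD' h hs hle h17 hd (extc_ne_zero c) (extc_ne_zero c₂) e'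
    apply Subtype.ext
    funext i
    apply Units.ext
    have hi := this i.val i.2
    rw [extc_val, extc_val] at hi
    exact hi
  · rintro ⟨z, hz⟩
    rw [mem_center_iff_stS hD hn M hm h21 h28] at hz
    obtain ⟨c, hc, rfl⟩ := stS_exists_hpr hD hz.1
    let u : Fin D.rank → Kˣ := fun i => Units.mk0 (c i.val) (hc i.val)
    have hu : ∀ i, i < D.rank → extc D.rank u i = c i := by
      intro i hi
      simp only [extc, dif_pos hi, u, Units.val_mk0]
    have hpr_eq : (stS hD K).hpr (extc D.rank u) = (stS hD K).hpr c := (stS hD K).hpr_congr hu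
    have hker : torusHom D K u = 1 := by
      apply Units.ext
      rw [torusHom_apply, tGL_coe, tMat_congr hu, ← stS_π_hpr hD c hc, hz.2]
    exact ⟨⟨u, hker⟩, Subtype.ext hpr_eq⟩

end emb

end Cfsg.Agent.Helper7.St
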