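import Mathlib
import Cfsg.Agent.Helper7.StEmbA
import Cfsg.Agent.Helper7.ChevComm
import Cfsg.Agent.Helper7.ChevCodes

set_option autoImplicit false
set_option linter.unusedSectionVars false
set_option linter.unusedVariables false

/-!
The decidable form, on the fast tables, of the compatibility of a map of root indices.
-/

namespace Cfsg.Agent.Helper7.Chev

open Cfsg Cfsg.Lie Cfsg.Agent.Helper7.St

namespace Tab

/-- Compatibility of `ι` with the tables at the root `r`. -/
def EmbRow (T T' : Tab) (ι : ℕ → ℕ) (r : ℕ) : Prop :=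
  ι r < T'.n ∧ T.neg r < T.n ∧ ι (T.neg r) = T'.neg (ι r) ∧
    AllLt T.n (fun s => (ι r = ι s → r = s) ∧
      (s = r ∨ s = T.neg r ∨
        (T.commTerms r s).map (fun c => (ι c.1, c.2)) = T'.commTerms (ι r) (ι s)))

instance (T T' : Tab) (ι : ℕ → ℕ) (r : ℕ) : Decidable (EmbRow T T' ι r) := by
  unfold EmbRow; infer_instance

/-- Compatibility of `ι` with the tables. -/
def EmbOK (T T' : Tab) (ι : ℕ → ℕ) : Prop := AllLt T.n (EmbRow T T' ι)

instance (T T' : Tab) (ι : ℕ → ℕ) : Decidable (EmbOK T T' ι) := by unfold EmbOK; infer_instance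

end Tab

/-- The map given by a list, with a default value. -/
def listMap (L : List ℕ) (d : ℕ) : ℕ → ℕ := fun r => L.getD r d

theorem emb_of_tab {D D' : ChevalleyDatum} {L : List ℕ} (hL : L.length = D.nroots)
    (h : Tab.EmbOK (tabOf D) (tabOf D') (listMap L D'.nroots)) :
    Emb D D' (listMap L D'.nroots) where
  lt r hr := (h r hr).1
  ge r hr := by
    unfold listMap
    rw [List.getD_eq_default _ _ (by omega)]
  neg_lt r hr := (h r hr).2.1
  neg r hr := (h r hr).2.2.1
  inj r s hr hs e := ((h r hr).2.2.2 s hs).1 e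
  comm r s hr hs hsr hsn := by
    rcases ((h r hr).2.2.2 s hs).2 with h1 | h1 | h1
    · exact absurd h1 hsr
    · exact absurd h1 hsn
    · exact h1

end Cfsg.Agent.Helper7.Chev
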