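import Mathlib
import Cfsg.Agent.Helper7.StEmbB
import Cfsg.Agent.Helper7.ChevTabE6
import Cfsg.Agent.Helper7.ChevTabE8

set_option autoImplicit false

/-!
The root system of type E6 inside the root system of type E8: the roots whose last coefficients vanish.
The tables agree.
-/

namespace Cfsg.Agent.Helper7.Chev

open Cfsg Cfsg.Lie Cfsg.Agent.Helper7.St

/-- The indices in type E8 of the roots of type E6. -/
def iotaE6 : List ℕ := [35, 45, 51, 54, 55, 61, 64, 65, 68, 69, 70, 73, 74, 75, 76, 77, 83, 86, 87, 90, 91, 92, 95, 96, 97, 98, 101, 102, 103, 104, 107, 108, 109, 112, 113, 116, 123, 126, 127, 130, 131, 132, 135, 136, 137, 138, 141, 142, 143, 144, 147, 148, 149, 152, 153, 156, 162, 163, 164, 165, 166, 169, 170, 171, 174, 175, 178, 184, 185, 188, 194, 204]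

set_option maxRecDepth 1000000 in
set_option maxHeartbeats 0 in
theorem embRows_E6_0 :
    AllLt 9 (fun k => Tab.EmbRow fastE6 fastE8 (listMap iotaE6 240) (0 * 9 + k)) := by
  decide +kernel

set_option maxRecDepth 1000000 in
set_option maxHeartbeats 0 in
theorem embRows_E6_1 :
    AllLt 9 (fun k => Tab.EmbRow fastE6 fastE8 (listMap iotaE6 240) (1 * 9 + k)) := by
  decide +kernel

set_option maxRecDepth 1000000 in
set_option maxHeartbeats 0 in
theorem embRows_E6_2 :
    AllLt 9 (fun k => Tab.EmbRow fastE6 fastE8 (listMap iotaE6 240) (2 * 9 + k)) := by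
  decide +kernel

set_option maxRecDepth 1000000 in
set_option maxHeartbeats 0 in
theorem embRows_E6_3 :
    AllLt 9 (fun k => Tab.EmbRow fastE6 fastE8 (listMap iotaE6 240) (3 * 9 + k)) := by
  decide +kernel

set_option maxRecDepth 1000000 in
set_option maxHeartbeats 0 in
theorem embRows_E6_4 :
    AllLt 9 (fun k => Tab.EmbRow fastE6 fastE8 (listMap iotaE6 240) (4 * 9 + k)) := by
  decide +kernel

set_option maxRecDepth 1000000 in
set_option maxHeartbeats 0 in
theorem embRows_E6_5 :
    AllLt 9 (fun k => Tab.EmbRow fastE6 fastE8 (listMap iotaE6 240) (5 * 9 + k)) := by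
  decide +kernel

set_option maxRecDepth 1000000 in
set_option maxHeartbeats 0 in
theorem embRows_E6_6 :
    AllLt 9 (fun k => Tab.EmbRow fastE6 fastE8 (listMap iotaE6 240) (6 * 9 + k)) := by
  decide +kernel

set_option maxRecDepth 1000000 in
set_option maxHeartbeats 0 in
theorem embRows_E6_7 :
    AllLt 9 (fun k => Tab.EmbRow fastE6 fastE8 (listMap iotaE6 240) (7 * 9 + k)) := by
  decide +kernel

theorem embRows_E6 : Tab.EmbOK fastE6 fastE8 (listMap iotaE6 240) := by
  refine allLt_chunks (P := Tab.EmbRow fastE6 fastE8 (listMap iotaE6 240)) 9 8 ?_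
  intro a ha
  interval_cases a
  · exact embRows_E6_0
  · exact embRows_E6_1
  · exact embRows_E6_2
  · exact embRows_E6_3
  · exact embRows_E6_4
  · exact embRows_E6_5
  · exact embRows_E6_6
  · exact embRows_E6_7

theorem emb_E6 : Emb chevE6 chevE8 (listMap iotaE6 240) := by
  have h : Tab.EmbOK (tabOf chevE6) (tabOf chevE8) (listMap iotaE6 chevE8.nroots) := by
    rw [tab_E6, tab_E8]
    exact embRows_E6
  exact emb_of_tab rfl h

theorem emb_simple_E6 : ∀ i, i < chevE6.rank →
    listMap iotaE6 240 (chevE6.simple i) = chevE8.simple i := by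
  decide

end Cfsg.Agent.Helper7.Chev
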