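import Mathlib
import Cfsg.Agent.Helper7.StK

set_option autoImplicit false
set_option linter.unusedSectionVars false
set_option linter.unusedVariables false

/-!
Rank one relations in a group with the relations (R1), (R2): the explicit action of `nb i t` and `hb i t`
on the root elements of plus or minus the `i`-th fundamental root, and the identity
`hb i (-u) = hb i (-u / t) * hb i t` for `t + u = 1`.
-/

namespace Cfsg.Agent.Helper7.St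

open Cfsg Cfsg.Lie Matrix Cfsg.Agent.Helper7.Chev
open scoped Pointwise

section coeff

variable {D : ChevalleyDatum} {K : Type*} [Field K]

theorem cf_self (hG : Good2 D) {i : ℕ} (hi : i < D.rank) (t : K) :
    cf D K i (D.simple i) t = -(t ^ 2)⁻¹ := by
  have hG1 := hG.toGood1
  have hp := hG1.simple_lt hi
  unfold cf
  rw [refl_self, pairing_neg_right hG1 (D.simple i) hp, hG1.pairing_self hp, eta_self]
  rw [_root_.zpow_neg, Int.cast_neg, Int.cast_one, mul_neg, mul_one]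
  norm_cast

theorem cf_negself (hG : Good2 D) {i : ℕ} (hi : i < D.rank) {t : K} (ht : t ≠ 0) :
    cf D K i (D.neg (D.simple i)) t = -(t ^ 2) := by
  rw [cf_neg hG hi (hG.toGood1.simple_lt hi) ht, cf_self hG hi, inv_neg, inv_inv]

end coeff

variable {D : ChevalleyDatum} {K : Type*} [Field K] {Γ : Type*} [Group Γ] (S : StD D K Γ)

namespace StD

section rank1

variable (hG : Good2 D) (hT : T0 D) (h5 : (tabOf D).T5) (h5m : (tabOf D).T5m) (h6 : (tabOf D).T6)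
  (h7 : (tabOf D).T7) (h7m : (tabOf D).T7m) (h8 : (tabOf D).T8) {wit : ℕ → ℕ × ℕ × ℕ}
  (h27 : (tabOf D).T37 wit) {i : ℕ} (hi : i < D.rank)

include hG hT h5 h5m h6 h7 h7m h8 h27 hi in
/-- `w(t) x(u) w(t)⁻¹ = y(-t⁻² u)`. -/
theorem nb_conj_x {t : K} (ht : t ≠ 0) (u : K) :
    S.nb i t * S.xb (D.simple i) u * (S.nb i t)⁻¹ = S.xb (D.neg (D.simple i)) (-(t ^ 2)⁻¹ * u) := by
  rw [S.nb_conj_self hG hT h5 h5m h6 h7 h7m h8 h27 hi ht, cf_self hG hi]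

include hG hT h5 h5m h6 h7 h7m h8 h27 hi in
/-- `w(t) y(u) w(t)⁻¹ = x(-t² u)`. -/
theorem nb_conj_y {t : K} (ht : t ≠ 0) (u : K) :
    S.nb i t * S.xb (D.neg (D.simple i)) u * (S.nb i t)⁻¹ = S.xb (D.simple i) (-(t ^ 2) * u) := by
  rw [S.nb_conj_negself hG hT h5 h5m h6 h7 h7m h8 h27 hi ht, cf_negself hG hi ht]

include hG hT h5 h5m h6 h7 h7m h8 h27 hi in
/-- `y(s) x(-s⁻¹) y(s) = w(-s⁻¹)`. -/
theorem nbr_neg_eq {s : K} (hs : s ≠ 0) :
    S.nbr (D.neg (D.simple i)) s = S.nb i (-s⁻¹) := by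
  have hG1 := hG.toGood1
  have hp := hG1.simple_lt hi
  have hc : -s⁻¹ ≠ 0 := neg_ne_zero.mpr (inv_ne_zero hs)
  have M := S.monE_nb hG hT h5 h5m h6 h7 h7m h8 h27 hi hc
  have e := S.monE_conj_nbr hG M hp (-s⁻¹)
  have hr : (tabOf D).reflWord [i] (D.simple i) = D.neg (D.simple i) := by
    change (tabOf D).refl (D.simple i) (D.simple i) = _
    exact refl_self _
  rw [hr, cf_self hG hi] at e
  have hpar : -((-s⁻¹) ^ 2)⁻¹ * -s⁻¹ = s := by field_simp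
  rw [hpar] at e
  rw [← e, ← S.nb_eq_nbr]
  group

include hG hT h5 h5m h6 h7 h7m h8 h27 hi in
/-- `w(t) w(u) w(t)⁻¹ = w(t² u⁻¹)`. -/
theorem nb_conj_nb {t u : K} (ht : t ≠ 0) (hu : u ≠ 0) :
    S.nb i t * S.nb i u * (S.nb i t)⁻¹ = S.nb i (t ^ 2 * u⁻¹) := by
  have hG1 := hG.toGood1
  have hp := hG1.simple_lt hi
  have M := S.monE_nb hG hT h5 h5m h6 h7 h7m h8 h27 hi ht
  have e := S.monE_conj_nbr hG M hp u
  have hr : (tabOf D).reflWord [i] (D.simple i) = D.neg (D.simple i) := by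
    change (tabOf D).refl (D.simple i) (D.simple i) = _
    exact refl_self _
  rw [hr, cf_self hG hi] at e
  have hne : -(t ^ 2)⁻¹ * u ≠ 0 :=
    mul_ne_zero (neg_ne_zero.mpr (inv_ne_zero (pow_ne_zero 2 ht))) hu
  rw [S.nbr_neg_eq hG hT h5 h5m h6 h7 h7m h8 h27 hi hne] at e
  have hpar : -(-(t ^ 2)⁻¹ * u)⁻¹ = t ^ 2 * u⁻¹ := by field_simp
  rw [hpar] at e
  exact e

include hG hT h5 h5m h6 h7 h7m h8 h27 hi in
/-- `x(c) = y(c⁻¹) w(c) y(c⁻¹)`. -/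
theorem xb_pos_eq {c : K} (hc : c ≠ 0) :
    S.xb (D.simple i) c =
      S.xb (D.neg (D.simple i)) c⁻¹ * S.nb i c * S.xb (D.neg (D.simple i)) c⁻¹ := by
  have hG1 := hG.toGood1
  have hp := hG1.simple_lt hi
  have hnp := hG1.neg_lt hp
  have hs : -c⁻¹ ≠ 0 := neg_ne_zero.mpr (inv_ne_zero hc)
  have e := S.nbr_neg_eq hG hT h5 h5m h6 h7 h7m h8 h27 hi hs
  rw [inv_neg, inv_inv, neg_neg] at e
  rw [← e]
  unfold nbr
  rw [hG1.neg_neg hp, inv_neg, inv_inv, neg_neg, ← S.xb_inv hnp]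
  group

include hG hT h5 h5m h6 h7 h7m h8 h27 hi in
/-- `h(t) x(u) h(t)⁻¹ = x(t² u)`. -/
theorem hb_conj_x {t : K} (ht : t ≠ 0) (u : K) :
    S.hb i t * S.xb (D.simple i) u * (S.hb i t)⁻¹ = S.xb (D.simple i) (t ^ 2 * u) := by
  have hm1 : (-1 : K) ≠ 0 := neg_ne_zero.mpr one_ne_zero
  have e1 := S.nb_conj_x hG hT h5 h5m h6 h7 h7m h8 h27 hi hm1 u
  have e2 := S.nb_conj_y hG hT h5 h5m h6 h7 h7m h8 h27 hi ht (-((-1 : K) ^ 2)⁻¹ * u)
  unfold hb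
  have e3 : S.nb i t * S.nb i (-1) * S.xb (D.simple i) u * (S.nb i t * S.nb i (-1))⁻¹ =
      S.nb i t * (S.nb i (-1) * S.xb (D.simple i) u * (S.nb i (-1))⁻¹) * (S.nb i t)⁻¹ := by group
  rw [e3, e1, e2]
  congr 1
  ring

include hG hT h5 h5m h6 h7 h7m h8 h27 hi in
/-- `h(t) y(u) h(t)⁻¹ = y(t⁻² u)`. -/
theorem hb_conj_y {t : K} (ht : t ≠ 0) (u : K) :
    S.hb i t * S.xb (D.neg (D.simple i)) u * (S.hb i t)⁻¹ =
      S.xb (D.neg (D.simple i)) ((t ^ 2)⁻¹ * u) := by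
  have hm1 : (-1 : K) ≠ 0 := neg_ne_zero.mpr one_ne_zero
  have e1 := S.nb_conj_y hG hT h5 h5m h6 h7 h7m h8 h27 hi hm1 u
  have e2 := S.nb_conj_x hG hT h5 h5m h6 h7 h7m h8 h27 hi ht (-((-1 : K) ^ 2) * u)
  unfold hb
  have e3 : S.nb i t * S.nb i (-1) * S.xb (D.neg (D.simple i)) u * (S.nb i t * S.nb i (-1))⁻¹ =
      S.nb i t * (S.nb i (-1) * S.xb (D.neg (D.simple i)) u * (S.nb i (-1))⁻¹) * (S.nb i t)⁻¹ := by
    group
  rw [e3, e1, e2]
  congr 1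
  ring

include hG hT h5 h5m h6 h7 h7m h8 h27 hi in
/-- `h(t) w(u) h(t)⁻¹ = w(t² u)`. -/
theorem hb_conj_nb {t : K} (ht : t ≠ 0) (u : K) :
    S.hb i t * S.nb i u * (S.hb i t)⁻¹ = S.nb i (t ^ 2 * u) := by
  have e1 := S.hb_conj_x hG hT h5 h5m h6 h7 h7m h8 h27 hi ht u
  have e2 := S.hb_conj_y hG hT h5 h5m h6 h7 h7m h8 h27 hi ht (-u⁻¹)
  have e3 : S.hb i t * S.nb i u * (S.hb i t)⁻¹ =
      (S.hb i t * S.xb (D.simple i) u * (S.hb i t)⁻¹) *
        (S.hb i t * S.xb (D.neg (D.simple i)) (-u⁻¹) * (S.hb i t)⁻¹) *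
        (S.hb i t * S.xb (D.simple i) u * (S.hb i t)⁻¹) := by
    unfold nb; group
  rw [e3, e1, e2]
  unfold nb
  have hpar : (t ^ 2)⁻¹ * -u⁻¹ = -(t ^ 2 * u)⁻¹ := by rw [_root_.mul_inv_rev]; ring
  rw [hpar]

include hG hT h5 h5m h6 h7 h7m h8 h27 hi in
/-- `h(t) h(u) h(t)⁻¹ = h(t² u) h(t²)⁻¹`. -/
theorem hb_conj_hb' {t : K} (ht : t ≠ 0) (u : K) :
    S.hb i t * S.hb i u * (S.hb i t)⁻¹ = S.hb i (t ^ 2 * u) * (S.hb i (t ^ 2))⁻¹ := by
  have e1 := S.hb_conj_nb hG hT h5 h5m h6 h7 h7m h8 h27 hi ht u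
  have e2 := S.hb_conj_nb hG hT h5 h5m h6 h7 h7m h8 h27 hi ht (-1)
  have e3 : S.hb i t * S.hb i u * (S.hb i t)⁻¹ =
      (S.hb i t * S.nb i u * (S.hb i t)⁻¹) * (S.hb i t * S.nb i (-1) * (S.hb i t)⁻¹) := by
    have : S.hb i u = S.nb i u * S.nb i (-1) := rfl
    rw [this]; group
  rw [e3, e1, e2, mul_neg, mul_one, ← S.nb_inv hG hi, S.nb_mul_nb_inv hG hi]

include hG hT h5 h5m h6 h7 h7m h8 h27 hi in
/-- `w(1) h(s) w(1)⁻¹ = h(s⁻¹)`. -/
theorem nb_one_conj_hb {s : K} (hs : s ≠ 0) :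
    S.nb i 1 * S.hb i s * (S.nb i 1)⁻¹ = S.hb i s⁻¹ := by
  have hm1 : (-1 : K) ≠ 0 := neg_ne_zero.mpr one_ne_zero
  have e1 := S.nb_conj_nb hG hT h5 h5m h6 h7 h7m h8 h27 hi (one_ne_zero (α := K)) hs
  have e2 := S.nb_conj_nb hG hT h5 h5m h6 h7 h7m h8 h27 hi (one_ne_zero (α := K)) hm1
  rw [one_pow, one_mul] at e1 e2
  rw [inv_neg, inv_one] at e2
  have e3 : S.nb i 1 * S.hb i s * (S.nb i 1)⁻¹ =
      (S.nb i 1 * S.nb i s * (S.nb i 1)⁻¹) * (S.nb i 1 * S.nb i (-1) * (S.nb i 1)⁻¹) := by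
    have : S.hb i s = S.nb i s * S.nb i (-1) := rfl
    rw [this]; group
  rw [e3, e1, e2]
  rfl

include hG hT h5 h5m h6 h7 h7m h8 h27 hi in
/-- The identity `h(-u) = h(-u/t) h(t)` for `t + u = 1`. -/
theorem hb_of_add_eq_one {t u : K} (ht : t ≠ 0) (hu : u ≠ 0) (htu : t + u = 1) :
    S.hb i (-u) = S.hb i (-u / t) * S.hb i t := by
  have hG1 := hG.toGood1
  have hp := hG1.simple_lt hi
  have hnp := hG1.neg_lt hp
  have hm1 : (-1 : K) ≠ 0 := neg_ne_zero.mpr one_ne_zero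
  have hti : t⁻¹ ≠ 0 := inv_ne_zero ht
  have hnu : -u ≠ 0 := neg_ne_zero.mpr hu
  have ha : -u / t ≠ 0 := div_ne_zero hnu ht
  -- first expression of `y(1) x(-u)`
  have f1 : S.xb (D.neg (D.simple i)) 1 =
      S.xb (D.simple i) 1 * S.nb i (-1) * S.xb (D.simple i) 1 := by
    have := S.xb_neg_eq hG hi (one_ne_zero (α := K))
    rwa [inv_one] at this
  have f2 : S.xb (D.simple i) 1 * S.xb (D.simple i) (-u) = S.xb (D.simple i) t := by
    rw [S.add _ hp]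
    congr 1
    rw [← htu]; ring
  have f3 : S.nb i (-1) * S.xb (D.simple i) t = S.xb (D.neg (D.simple i)) (-t) * S.nb i (-1) := by
    have := S.nb_conj_x hG hT h5 h5m h6 h7 h7m h8 h27 hi hm1 t
    rw [mul_inv_eq_iff_eq_mul] at this
    rw [this]
    congr 2
    ring
  have f4 : S.xb (D.neg (D.simple i)) (-t) =
      S.xb (D.simple i) (-t⁻¹) * S.nb i t⁻¹ * S.xb (D.simple i) (-t⁻¹) := by
    have := S.xb_neg_eq hG hi (neg_ne_zero.mpr ht)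
    rwa [inv_neg, neg_neg] at this
  have f5 : S.xb (D.simple i) (-t⁻¹) * S.nb i (-1) =
      S.nb i (-1) * S.xb (D.neg (D.simple i)) t⁻¹ := by
    have := S.nb_conj_x hG hT h5 h5m h6 h7 h7m h8 h27 hi (one_ne_zero (α := K)) (-t⁻¹)
    rw [one_pow, inv_one, neg_mul, one_mul, neg_neg] at this
    rw [← this, ← S.nb_inv hG hi]
    group
  have E1 : S.xb (D.neg (D.simple i)) 1 * S.xb (D.simple i) (-u) =
      S.xb (D.simple i) (-u / t) * S.hb i t⁻¹ * S.xb (D.neg (D.simple i)) t⁻¹ := by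
    have hpar : (1 : K) + -t⁻¹ = -u / t := by
      field_simp
      rw [← htu]; ring
    calc S.xb (D.neg (D.simple i)) 1 * S.xb (D.simple i) (-u)
        = S.xb (D.simple i) 1 * S.nb i (-1) *
            (S.xb (D.simple i) 1 * S.xb (D.simple i) (-u)) := by rw [f1]; group
      _ = S.xb (D.simple i) 1 * (S.nb i (-1) * S.xb (D.simple i) t) := by rw [f2]; group
      _ = S.xb (D.simple i) 1 * S.xb (D.neg (D.simple i)) (-t) * S.nb i (-1) := by rw [f3]; group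
      _ = S.xb (D.simple i) 1 * S.xb (D.simple i) (-t⁻¹) * S.nb i t⁻¹ *
            (S.xb (D.simple i) (-t⁻¹) * S.nb i (-1)) := by rw [f4]; group
      _ = S.xb (D.simple i) (1 + -t⁻¹) * (S.nb i t⁻¹ * S.nb i (-1)) *
            S.xb (D.neg (D.simple i)) t⁻¹ := by rw [f5, S.add _ hp]; group
      _ = _ := by rw [hpar]; rfl
  -- second expression
  have g1 := S.xb_pos_eq hG hT h5 h5m h6 h7 h7m h8 h27 hi hnu
  rw [inv_neg] at g1
  have hainv : (-u / t)⁻¹ = 1 + -u⁻¹ := by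
    field_simp
    rw [← htu]; ring
  have E2 : S.xb (D.neg (D.simple i)) 1 * S.xb (D.simple i) (-u) =
      S.xb (D.neg (D.simple i)) (-u / t)⁻¹ * S.nb i (-u) * S.xb (D.neg (D.simple i)) (-u⁻¹) := by
    rw [g1, hainv, ← S.add _ hnp]
    group
  have g2 := S.xb_pos_eq hG hT h5 h5m h6 h7 h7m h8 h27 hi ha
  -- moving `y` across `h`
  have g3 : S.xb (D.neg (D.simple i)) (-u / t)⁻¹ * S.hb i t⁻¹ =
      S.hb i t⁻¹ * S.xb (D.neg (D.simple i)) ((t⁻¹) ^ 2 * (-u / t)⁻¹) := by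
    have := S.hb_conj_y hG hT h5 h5m h6 h7 h7m h8 h27 hi hti ((t⁻¹) ^ 2 * (-u / t)⁻¹)
    rw [← mul_assoc, inv_mul_cancel₀ (pow_ne_zero 2 hti), one_mul, mul_inv_eq_iff_eq_mul] at this
    exact this.symm
  have g4 : S.xb (D.neg (D.simple i)) ((t⁻¹) ^ 2 * (-u / t)⁻¹) * S.xb (D.neg (D.simple i)) t⁻¹ =
      S.xb (D.neg (D.simple i)) (-u⁻¹) := by
    rw [S.add _ hnp]
    congr 1
    field_simp
    rw [← htu]; ring
  have I3 : S.nb i (-u / t) * S.hb i t⁻¹ = S.nb i (-u) := by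
    have e := E1.symm.trans E2
    rw [g2] at e
    have e' : S.xb (D.neg (D.simple i)) (-u / t)⁻¹ * (S.nb i (-u / t) * S.hb i t⁻¹) *
        S.xb (D.neg (D.simple i)) (-u⁻¹) =
        S.xb (D.neg (D.simple i)) (-u / t)⁻¹ * S.nb i (-u) * S.xb (D.neg (D.simple i)) (-u⁻¹) := by
      rw [← e, ← g4]
      calc S.xb (D.neg (D.simple i)) (-u / t)⁻¹ * (S.nb i (-u / t) * S.hb i t⁻¹) *
            (S.xb (D.neg (D.simple i)) ((t⁻¹) ^ 2 * (-u / t)⁻¹) * S.xb (D.neg (D.simple i)) t⁻¹)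
          = S.xb (D.neg (D.simple i)) (-u / t)⁻¹ * S.nb i (-u / t) *
              (S.hb i t⁻¹ * S.xb (D.neg (D.simple i)) ((t⁻¹) ^ 2 * (-u / t)⁻¹)) *
              S.xb (D.neg (D.simple i)) t⁻¹ := by group
        _ = _ := by rw [← g3]; group
    exact mul_left_cancel (mul_right_cancel e')
  rw [← S.hb_mul_nb hG hi (-u / t), ← S.hb_mul_nb hG hi (-u)] at I3
  have e6 := S.nb_one_conj_hb hG hT h5 h5m h6 h7 h7m h8 h27 hi hti
  rw [inv_inv] at e6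
  rw [← e6]
  have : S.hb i (-u) = S.hb i (-u / t) * S.nb i 1 * S.hb i t⁻¹ * (S.nb i 1)⁻¹ := by
    rw [I3]; group
  rw [this]; group

end rank1

end StD

end Cfsg.Agent.Helper7.St
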