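import Mathlib
import Cfsg.Agent.Helper7.StEmbB
import Cfsg.Agent.Helper7.ChevTabE7
import Cfsg.Agent.Helper7.ChevTabE8

set_option autoImplicit false

/-!
The root system of type E7 inside the root system of type E8: the roots whose last coefficients vanish.
The tables agree.
-/

namespace Cfsg.Agent.Helper7.Chev

open Cfsg Cfsg.Lie Cfsg.Agent.Helper7.St

/-- The indices in type E8 of the roots of type E7. -/
def iotaE7 : List ℕ := [13, 20, 25, 29, 32, 34, 35, 39, 42, 44, 45, 48, 50, 51, 53, 54, 55, 58, 60, 61, 63, 64, 65, 67, 68, 69, 70, 72, 73, 74, 75, 76, 77, 80, 82, 83, 85, 86, 87, 89, 90, 91, 92, 94, 95, 96, 97, 98, 100, 101, 102, 103, 104, 106, 107, 108, 109, 111, 112, 113, 115, 116, 118, 121, 123, 124, 126, 127, 128, 130, 131, 132, 133, 135, 136, 137, 138, 139, 141, 142, 143, 144, 145, 147, 148, 149, 150, 152, 153, 154, 156, 157, 159, 162, 163, 164, 165, 166, 167, 169, 170, 171, 172, 174, 175, 176, 178, 179, 181, 184, 185, 186, 188, 189, 191, 194, 195, 197, 200, 204, 205, 207, 210, 214, 219, 226]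

set_option maxRecDepth 1000000 in
set_option maxHeartbeats 0 in
theorem embRows_E7_0 :
    AllLt 9 (fun k => Tab.EmbRow fastE7 fastE8 (listMap iotaE7 240) (0 * 9 + k)) := by
  decide +kernel

set_option maxRecDepth 1000000 in
set_option maxHeartbeats 0 in
theorem embRows_E7_1 :
    AllLt 9 (fun k => Tab.EmbRow fastE7 fastE8 (listMap iotaE7 240) (1 * 9 + k)) := by
  decide +kernel

set_option maxRecDepth 1000000 in
set_option maxHeartbeats 0 in
theorem embRows_E7_2 :
    AllLt 9 (fun k => Tab.EmbRow fastE7 fastE8 (listMap iotaE7 240) (2 * 9 + k)) := by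
  decide +kernel

set_option maxRecDepth 1000000 in
set_option maxHeartbeats 0 in
theorem embRows_E7_3 :
    AllLt 9 (fun k => Tab.EmbRow fastE7 fastE8 (listMap iotaE7 240) (3 * 9 + k)) := by
  decide +kernel

set_option maxRecDepth 1000000 in
set_option maxHeartbeats 0 in
theorem embRows_E7_4 :
    AllLt 9 (fun k => Tab.EmbRow fastE7 fastE8 (listMap iotaE7 240) (4 * 9 + k)) := by
  decide +kernel

set_option maxRecDepth 1000000 in
set_option maxHeartbeats 0 in
theorem embRows_E7_5 :
    AllLt 9 (fun k => Tab.EmbRow fastE7 fastE8 (listMap iotaE7 240) (5 * 9 + k)) := by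
  decide +kernel

set_option maxRecDepth 1000000 in
set_option maxHeartbeats 0 in
theorem embRows_E7_6 :
    AllLt 9 (fun k => Tab.EmbRow fastE7 fastE8 (listMap iotaE7 240) (6 * 9 + k)) := by
  decide +kernel

set_option maxRecDepth 1000000 in
set_option maxHeartbeats 0 in
theorem embRows_E7_7 :
    AllLt 9 (fun k => Tab.EmbRow fastE7 fastE8 (listMap iotaE7 240) (7 * 9 + k)) := by
  decide +kernel

set_option maxRecDepth 1000000 in
set_option maxHeartbeats 0 in
theorem embRows_E7_8 :
    AllLt 9 (fun k => Tab.EmbRow fastE7 fastE8 (listMap iotaE7 240) (8 * 9 + k)) := by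
  decide +kernel

set_option maxRecDepth 1000000 in
set_option maxHeartbeats 0 in
theorem embRows_E7_9 :
    AllLt 9 (fun k => Tab.EmbRow fastE7 fastE8 (listMap iotaE7 240) (9 * 9 + k)) := by
  decide +kernel

set_option maxRecDepth 1000000 in
set_option maxHeartbeats 0 in
theorem embRows_E7_10 :
    AllLt 9 (fun k => Tab.EmbRow fastE7 fastE8 (listMap iotaE7 240) (10 * 9 + k)) := by
  decide +kernel

set_option maxRecDepth 1000000 in
set_option maxHeartbeats 0 in
theorem embRows_E7_11 :
    AllLt 9 (fun k => Tab.EmbRow fastE7 fastE8 (listMap iotaE7 240) (11 * 9 + k)) := by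
  decide +kernel

set_option maxRecDepth 1000000 in
set_option maxHeartbeats 0 in
theorem embRows_E7_12 :
    AllLt 9 (fun k => Tab.EmbRow fastE7 fastE8 (listMap iotaE7 240) (12 * 9 + k)) := by
  decide +kernel

set_option maxRecDepth 1000000 in
set_option maxHeartbeats 0 in
theorem embRows_E7_13 :
    AllLt 9 (fun k => Tab.EmbRow fastE7 fastE8 (listMap iotaE7 240) (13 * 9 + k)) := by
  decide +kernel

theorem embRows_E7 : Tab.EmbOK fastE7 fastE8 (listMap iotaE7 240) := by
  refine allLt_chunks (P := Tab.EmbRow fastE7 fastE8 (listMap iotaE7 240)) 9 14 ?_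
  intro a ha
  interval_cases a
  · exact embRows_E7_0
  · exact embRows_E7_1
  · exact embRows_E7_2
  · exact embRows_E7_3
  · exact embRows_E7_4
  · exact embRows_E7_5
  · exact embRows_E7_6
  · exact embRows_E7_7
  · exact embRows_E7_8
  · exact embRows_E7_9
  · exact embRows_E7_10
  · exact embRows_E7_11
  · exact embRows_E7_12
  · exact embRows_E7_13

theorem emb_E7 : Emb chevE7 chevE8 (listMap iotaE7 240) := by
  have h : Tab.EmbOK (tabOf chevE7) (tabOf chevE8) (listMap iotaE7 chevE8.nroots) := by
    rw [tab_E7, tab_E8]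
    exact embRows_E7
  exact emb_of_tab rfl h

theorem emb_simple_E7 : ∀ i, i < chevE7.rank →
    listMap iotaE7 240 (chevE7.simple i) = chevE8.simple i := by
  decide

end Cfsg.Agent.Helper7.Chev
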