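import Mathlib
import Cfsg.Agent.Helper7.ChevF4f
import Cfsg.Agent.Helper2.DihedralIso

set_option autoImplicit false
set_option linter.unusedSectionVars false
set_option linter.unusedVariables false

/-!
The twisted group of type `F₄`: `N¹ / H¹` is the dihedral group of order 16.
-/

namespace Cfsg.Agent.Helper7.Chev

open Cfsg Cfsg.Lie Matrix

/-- A finite field with `2 ^ n` elements has characteristic 2. -/
theorem charP_two_of_card {K : Type*} [Field K] [Fintype K] {n : ℕ} (hn : 0 < n)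
    (hK : Fintype.card K = 2 ^ n) : CharP K 2 := by
  obtain ⟨p, hp⟩ := CharP.exists K
  obtain ⟨k, hprime, hcard⟩ := FiniteField.card K p
  rw [hK] at hcard
  have hdvd : p ∣ 2 ^ n := by
    rw [hcard]
    exact dvd_pow_self p k.ne_zero
  have h2 : p ∣ 2 := hprime.dvd_of_dvd_pow hdvd
  have : p = 2 := (Nat.prime_dvd_prime_iff_eq hprime Nat.prime_two).mp h2
  rw [this] at hp
  exact hp

theorem pow_card_two {K : Type*} [Field K] [Fintype K] {n : ℕ} (hK : Fintype.card K = 2 ^ n)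
    (t : K) : t ^ 2 ^ n = t := by
  rw [← hK]
  exact FiniteField.pow_card t

/-- The word of `(n₁ n₂) ^ k`. -/
def f4W12 (k : ℕ) : List ℕ := (List.replicate k [0, 3, 2, 1, 2, 1]).flatten

theorem f4W12_lt (k : ℕ) : ∀ i ∈ f4W12 k, i < chevF4.rank := by
  intro i hi
  unfold f4W12 at hi
  rw [List.mem_flatten] at hi
  obtain ⟨l, hl, hi⟩ := hi
  rw [List.mem_replicate] at hl
  obtain ⟨_, rfl⟩ := hl
  revert i
  decide

set_option maxRecDepth 1000000 in
theorem f4_sq1_fast : ∀ r < 48, fastF4.reflWord [0, 3, 0, 3] r = r := by decide +kernel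

set_option maxRecDepth 1000000 in
theorem f4_sq2_fast : ∀ r < 48, fastF4.reflWord [2, 1, 2, 1, 2, 1, 2, 1] r = r := by decide +kernel

set_option maxRecDepth 1000000 in
theorem f4_pw8_fast : ∀ r < 48, fastF4.reflWord (f4W12 8) r = r := by decide +kernel

set_option maxRecDepth 1000000 in
theorem f4_ne_fast : fastF4.reflWord [0, 3] 33 ≠ 33 ∧ fastF4.reflWord [2, 1, 2, 1] 27 ≠ 27 ∧
    fastF4.reflWord (f4W12 4) 33 ≠ 33 := by decide +kernel

theorem f4_sq1 : ∀ r < 48, (tabOf chevF4).reflWord [0, 3, 0, 3] r = r := tab_F4 ▸ f4_sq1_fast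

theorem f4_sq2 : ∀ r < 48, (tabOf chevF4).reflWord [2, 1, 2, 1, 2, 1, 2, 1] r = r := tab_F4 ▸ f4_sq2_fast

theorem f4_pw8 : ∀ r < 48, (tabOf chevF4).reflWord (f4W12 8) r = r := tab_F4 ▸ f4_pw8_fast

theorem f4_ne : (tabOf chevF4).reflWord [0, 3] 33 ≠ 33 ∧ (tabOf chevF4).reflWord [2, 1, 2, 1] 27 ≠ 27 ∧
    (tabOf chevF4).reflWord (f4W12 4) 33 ≠ 33 := tab_F4 ▸ f4_ne_fast

section words

variable {K : Type*} [Field K]

theorem f4_mem_diag_iff {w : List ℕ} (hw : ∀ i ∈ w, i < chevF4.rank) :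
    (nWordGL good3_F4.toGood2 w : GL chevF4.Idx K) ∈ chevF4.diagonalSubgroup K ↔
      ∀ r < 48, (tabOf chevF4).reflWord w r = r :=
  nWordGL_mem_diagonal_iff good3_F4.toGood2 T0_F4 T6_F4 T8_F4 hw

theorem f4N1_sq_mem : f4N1 K * f4N1 K ∈ chevF4.diagonalSubgroup K := by
  unfold f4N1
  rw [← nWordGL_append]
  exact (f4_mem_diag_iff (by decide)).mpr f4_sq1

theorem f4N2_sq_mem : f4N2 K * f4N2 K ∈ chevF4.diagonalSubgroup K := by
  unfold f4N2
  rw [← nWordGL_append]
  exact (f4_mem_diag_iff (by decide)).mpr f4_sq2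

theorem f4N1_not_mem : f4N1 K ∉ chevF4.diagonalSubgroup K := fun h =>
  f4_ne.1 ((f4_mem_diag_iff (by decide)).mp h 33 (by decide))

theorem f4N2_not_mem : f4N2 K ∉ chevF4.diagonalSubgroup K := fun h =>
  f4_ne.2.1 ((f4_mem_diag_iff (by decide)).mp h 27 (by decide))

theorem f4N12_pow (k : ℕ) : (f4N1 K * f4N2 K) ^ k = nWordGL good3_F4.toGood2 (f4W12 k) := by
  induction k with
  | zero => rfl
  | succ k ih =>
    rw [pow_succ', ih]
    unfold f4W12 f4N1 f4N2
    rw [List.replicate_succ, List.flatten_cons, nWordGL_append, ← nWordGL_append]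
    rfl

theorem f4N12_pow8_mem : (f4N1 K * f4N2 K) ^ 8 ∈ chevF4.diagonalSubgroup K := by
  rw [f4N12_pow]
  exact (f4_mem_diag_iff (f4W12_lt 8)).mpr f4_pw8

theorem f4N12_pow4_not_mem : (f4N1 K * f4N2 K) ^ 4 ∉ chevF4.diagonalSubgroup K := by
  rw [f4N12_pow]
  exact fun h => f4_ne.2.2 ((f4_mem_diag_iff (f4W12_lt 4)).mp h 33 (by decide))

theorem f4N1_mem_mono : f4N1 K ∈ chevF4.monomialSubgroup K := nWordGL_mem _ _

theorem f4N2_mem_mono : f4N2 K ∈ chevF4.monomialSubgroup K := nWordGL_mem _ _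

end words

section quot

variable {K : Type*} [Field K] [CharP K 2] {m : ℕ}

/-- `H¹` as a subgroup of `N¹`. -/
abbrev f4HN (K : Type*) [Field K] (m : ℕ) :
    Subgroup ↥(chevF4.monomialSubgroup K ⊓ twistedF4 K (2 ^ m)) :=
  (chevF4.diagonalSubgroup K ⊓ twistedF4 K (2 ^ m)).subgroupOf
    (chevF4.monomialSubgroup K ⊓ twistedF4 K (2 ^ m))

omit [CharP K 2] in
theorem mem_f4HN {n : ↥(chevF4.monomialSubgroup K ⊓ twistedF4 K (2 ^ m))} :
    n ∈ f4HN K m ↔ (n : GL chevF4.Idx K) ∈ chevF4.diagonalSubgroup K := by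
  rw [Subgroup.mem_subgroupOf, Subgroup.mem_inf]
  exact ⟨fun h => h.1, fun h => ⟨h, (Subgroup.mem_inf.mp n.2).2⟩⟩

instance f4HN_normal : (f4HN K m).Normal := by
  constructor
  intro h hh n
  rw [mem_f4HN] at hh ⊢
  rw [Subgroup.coe_mul, Subgroup.coe_mul, Subgroup.coe_inv]
  exact conj_mem_diagonal (monomialSubgroup_le_normalizer good3_F4.toGood2 (Subgroup.mem_inf.mp n.2).1) hh

/-- `n₁` as an element of `N¹`. -/
noncomputable def f4n1 (K : Type*) [Field K] [CharP K 2] (m : ℕ) :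
    ↥(chevF4.monomialSubgroup K ⊓ twistedF4 K (2 ^ m)) :=
  ⟨f4N1 K, Subgroup.mem_inf.mpr ⟨f4N1_mem_mono, f4N1_mem_twisted⟩⟩

/-- `n₂` as an element of `N¹`. -/
noncomputable def f4n2 (K : Type*) [Field K] [CharP K 2] (m : ℕ) :
    ↥(chevF4.monomialSubgroup K ⊓ twistedF4 K (2 ^ m)) :=
  ⟨f4N2 K, Subgroup.mem_inf.mpr ⟨f4N2_mem_mono, f4N2_mem_twisted⟩⟩

variable (hm : ∀ t : K, t ^ 2 ^ (2 * m + 1) = t)

include hm in
/-- `N¹ / H¹` has at most 16 elements. -/
theorem card_f4_quot_le [Finite K] :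
    Nat.card (↥(chevF4.monomialSubgroup K ⊓ twistedF4 K (2 ^ m)) ⧸ f4HN K m) ≤ 16 := by
  classical
  have key : ∀ n : ↥(chevF4.monomialSubgroup K ⊓ twistedF4 K (2 ^ m)),
      ∃ w ∈ f4WFix, ∃ h ∈ chevF4.diagonalSubgroup K, (n : GL chevF4.Idx K) = h * nWordGL good3_F4.toGood2 w :=
    fun n => f4_mono_fixed hm (Subgroup.mem_inf.mp n.2).1
      (twistedF4_le_fixSub hm (Subgroup.mem_inf.mp n.2).2).2
  let g : (↥(chevF4.monomialSubgroup K ⊓ twistedF4 K (2 ^ m)) ⧸ f4HN K m) → {w // w ∈ f4WFix} :=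
    fun q => ⟨(key q.out).choose, (key q.out).choose_spec.1⟩
  have hg : Function.Injective g := by
    intro q q' e
    have e1 : (key q.out).choose = (key q'.out).choose := congrArg Subtype.val e
    obtain ⟨h, hh, e2⟩ := (key q.out).choose_spec.2
    obtain ⟨h', hh', e3⟩ := (key q'.out).choose_spec.2
    rw [← e1] at e3
    set w := (key q.out).choose with hw
    have hmem : (q.out)⁻¹ * q'.out ∈ f4HN K m := by
      rw [mem_f4HN, Subgroup.coe_mul, Subgroup.coe_inv, e2, e3]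
      have e4 : (h * nWordGL good3_F4.toGood2 w)⁻¹ * (h' * nWordGL good3_F4.toGood2 w) =
          (nWordGL good3_F4.toGood2 w : GL chevF4.Idx K)⁻¹ * (h⁻¹ * h') * nWordGL good3_F4.toGood2 w := by
        group
      rw [e4]
      exact conj_mem_diagonal' (monomialSubgroup_le_normalizer good3_F4.toGood2 (nWordGL_mem _ _))
        (mul_mem (inv_mem hh) hh')
    have := QuotientGroup.eq.mpr hmem
    rw [QuotientGroup.out_eq', QuotientGroup.out_eq'] at this
    exact this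
  have h1 := Nat.card_le_card_of_injective g hg
  have h2 : Nat.card {w // w ∈ f4WFix} ≤ 16 := by
    rw [Nat.card_eq_fintype_card, Fintype.card_of_subtype f4WFix.toFinset (fun x => List.mem_toFinset)]
    exact (List.toFinset_card_le f4WFix).trans (by decide)
  exact h1.trans h2

include hm in
/-- `N¹ / H¹` is the dihedral group of order 16. -/
theorem f4_exists_dihedral [Finite K] :
    ∃ φ : ↥(chevF4.monomialSubgroup K ⊓ twistedF4 K (2 ^ m)) →* DihedralGroup 8,
      Function.Surjective φ ∧ φ.ker = f4HN K m := by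
  set x : ↥(chevF4.monomialSubgroup K ⊓ twistedF4 K (2 ^ m)) ⧸ f4HN K m :=
    QuotientGroup.mk (f4n1 K m) with hx
  set y : ↥(chevF4.monomialSubgroup K ⊓ twistedF4 K (2 ^ m)) ⧸ f4HN K m :=
    QuotientGroup.mk (f4n2 K m) with hy
  have hxx : x * x = 1 := by
    rw [hx, ← QuotientGroup.mk_mul, QuotientGroup.eq_one_iff, mem_f4HN]
    exact f4N1_sq_mem
  have hyy : y * y = 1 := by
    rw [hy, ← QuotientGroup.mk_mul, QuotientGroup.eq_one_iff, mem_f4HN]
    exact f4N2_sq_mem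
  have hx1 : x ≠ 1 := by
    rw [hx, Ne, QuotientGroup.eq_one_iff, mem_f4HN]
    exact f4N1_not_mem
  have hy1 : y ≠ 1 := by
    rw [hy, Ne, QuotientGroup.eq_one_iff, mem_f4HN]
    exact f4N2_not_mem
  have h8 : orderOf (x * y) = 8 := by
    have e : x * y = QuotientGroup.mk (s := f4HN K m) (f4n1 K m * f4n2 K m) := rfl
    apply orderOf_eq_prime_pow (p := 2) (n := 2)
    · rw [e, ← QuotientGroup.mk_pow, QuotientGroup.eq_one_iff, mem_f4HN, Subgroup.coe_pow,
        Subgroup.coe_mul]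
      exact f4N12_pow4_not_mem
    · rw [e, ← QuotientGroup.mk_pow, QuotientGroup.eq_one_iff, mem_f4HN, Subgroup.coe_pow,
        Subgroup.coe_mul]
      exact f4N12_pow8_mem
  haveI : Finite (GL chevF4.Idx K) := inferInstance
  obtain ⟨e⟩ := Cfsg.Agent.Helper2.closure_pair_invol_equiv_dihedral hxx hyy hx1 hy1
  rw [h8] at e
  have htop : Subgroup.closure ({x, y} : Set _) = ⊤ := by
    apply Subgroup.eq_top_of_le_card
    rw [Nat.card_congr e.toEquiv, DihedralGroup.nat_card]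
    exact card_f4_quot_le hm
  let e2 : (↥(chevF4.monomialSubgroup K ⊓ twistedF4 K (2 ^ m)) ⧸ f4HN K m) ≃* DihedralGroup 8 :=
    (Subgroup.topEquiv.symm.trans (MulEquiv.subgroupCongr htop.symm)).trans e
  refine ⟨e2.toMonoidHom.comp (QuotientGroup.mk' (f4HN K m)), ?_, ?_⟩
  · exact e2.surjective.comp (QuotientGroup.mk'_surjective _)
  · ext n
    rw [MonoidHom.mem_ker, MonoidHom.comp_apply]
    change e2 (QuotientGroup.mk' (f4HN K m) n) = 1 ↔ _
    rw [MulEquiv.map_eq_one_iff, QuotientGroup.mk'_apply, QuotientGroup.eq_one_iff]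

end quot

/-- The statement of S1111. -/
theorem f4_S1111 {K : Type*} [Field K] [Fintype K] {m : ℕ} (hK : Fintype.card K = 2 ^ (2 * m + 1)) :
    ∃ φ : ↥(chevF4.monomialSubgroup K ⊓ twistedF4 K (2 ^ m)) →* DihedralGroup 8, Function.Surjective φ ∧
      φ.ker = (chevF4.diagonalSubgroup K ⊓ twistedF4 K (2 ^ m)).subgroupOf
        (chevF4.monomialSubgroup K ⊓ twistedF4 K (2 ^ m)) := by
  haveI := charP_two_of_card (by omega) hK
  exact f4_exists_dihedral (pow_card_two hK)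

end Cfsg.Agent.Helper7.Chev
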