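import Mathlib
import Cfsg.Agent.Helper7.ChevF4g
import Cfsg.Agent.Helper7.ChevRee18
import Cfsg.Agent.Helper7.ChevT17
import Cfsg.Agent.Helper7.ChevTwH3

set_option autoImplicit false
set_option linter.unusedSectionVars false
set_option linter.unusedVariables false

/-!
The torus of the Chevalley group of type `F₄`, the action of the twisting automorphism on it, and the fixed elements
`h(s, u) = h_{p₁}(θ s) h_a(θ u) h_b(u) h_{p₄}(s)`; `|H¹| = (q - 1)²`.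
-/

namespace Cfsg.Agent.Helper7.Chev

open Cfsg Cfsg.Lie Matrix

section general

variable {D : ChevalleyDatum} {F : Type*} [Field F] (hG : Good2 D)

/-- Conjugation of `h_r(c)` by `n_p` for a fundamental root `p`. -/
theorem nGL_mul_hGL {i : ℕ} (hi : i < D.rank) {r : ℕ} (hr : r < D.nroots) (c : F) (hc : c ≠ 0) :
    nGL hG.toGood1 (hG.toGood1.simple_lt hi) * hGL hG.toGood1 hr c hc =
      hGL hG.toGood1 (hG.refl_lt hi hr) c hc * nGL hG.toGood1 (hG.toGood1.simple_lt hi) := by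
  apply Units.ext
  rw [Units.val_mul, Units.val_mul, nGL_coe, hGL_coe, hGL_coe, nMat_mul_hMat hG hi hr hc]

/-- Conjugation of `h_r(c)` by the element of `N` of a word. -/
theorem nWordGL_mul_hGL {w : List ℕ} (hw : ∀ i ∈ w, i < D.rank) {r : ℕ} (hr : r < D.nroots) (c : F)
    (hc : c ≠ 0) :
    nWordGL hG w * hGL hG.toGood1 hr c hc =
      hGL hG.toGood1 (reflWord_lt hG hw hr) c hc * nWordGL hG w := by
  induction w with
  | nil => rw [nWordGL_nil, one_mul, mul_one]; rfl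
  | cons i w ih =>
    have hi : i < D.rank := hw i List.mem_cons_self
    have hw' : ∀ j ∈ w, j < D.rank := fun j hj => hw j (List.mem_cons_of_mem _ hj)
    rw [nWordGL_cons hG hi, mul_assoc, ih hw', ← mul_assoc, nGL_mul_hGL hG hi, mul_assoc]
    rfl

end general

section torus

variable {K : Type*} [Field K]

/-- The parameters of a torus element of `F₄`. -/
def f4c (c₀ c₁ c₂ c₃ : Kˣ) : Fin chevF4.rank → Kˣ := fun i =>
  if i.val = 0 then c₀ else if i.val = 1 then c₁ else if i.val = 2 then c₂ else c₃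

theorem f4c_mul (c₀ c₁ c₂ c₃ d₀ d₁ d₂ d₃ : Kˣ) :
    f4c c₀ c₁ c₂ c₃ * f4c d₀ d₁ d₂ d₃ = f4c (c₀ * d₀) (c₁ * d₁) (c₂ * d₂) (c₃ * d₃) := by
  funext i
  unfold f4c
  rw [Pi.mul_apply]
  split_ifs <;> rfl

theorem f4c_surj (c : Fin chevF4.rank → Kˣ) :
    c = f4c (c ⟨0, by decide⟩) (c ⟨1, by decide⟩) (c ⟨2, by decide⟩) (c ⟨3, by decide⟩) := by
  funext i
  unfold f4c
  have hi : i.val < 4 := i.2
  by_cases h0 : i.val = 0
  · rw [if_pos h0]; congr 1; exact Fin.ext h0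
  rw [if_neg h0]
  by_cases h1 : i.val = 1
  · rw [if_pos h1]; congr 1; exact Fin.ext h1
  rw [if_neg h1]
  by_cases h2 : i.val = 2
  · rw [if_pos h2]; congr 1; exact Fin.ext h2
  rw [if_neg h2]
  congr 1; apply Fin.ext; change i.val = 3; omega

/-- The torus element `h_{p₁}(c₀) h_a(c₁) h_b(c₂) h_{p₄}(c₃)` of `F₄`. -/
noncomputable def tF4 (c₀ c₁ c₂ c₃ : Kˣ) : GL chevF4.Idx K := torusHom chevF4 K (f4c c₀ c₁ c₂ c₃)

theorem tF4_mul (c₀ c₁ c₂ c₃ d₀ d₁ d₂ d₃ : Kˣ) :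
    tF4 c₀ c₁ c₂ c₃ * tF4 d₀ d₁ d₂ d₃ = tF4 (c₀ * d₀) (c₁ * d₁) (c₂ * d₂) (c₃ * d₃) := by
  unfold tF4
  rw [← map_mul, f4c_mul]

theorem tF4_one : tF4 (1 : Kˣ) 1 1 1 = 1 := by
  unfold tF4
  have : f4c (1 : Kˣ) 1 1 1 = 1 := by
    funext i; unfold f4c; split_ifs <;> rfl
  rw [this, map_one]

theorem tF4_inv (c₀ c₁ c₂ c₃ : Kˣ) : (tF4 c₀ c₁ c₂ c₃)⁻¹ = tF4 c₀⁻¹ c₁⁻¹ c₂⁻¹ c₃⁻¹ := by
  rw [inv_eq_iff_mul_eq_one, tF4_mul, mul_inv_cancel, mul_inv_cancel, mul_inv_cancel, mul_inv_cancel,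
    tF4_one]

theorem tF4_injective {c₀ c₁ c₂ c₃ d₀ d₁ d₂ d₃ : Kˣ} (h : tF4 c₀ c₁ c₂ c₃ = tF4 d₀ d₁ d₂ d₃) :
    c₀ = d₀ ∧ c₁ = d₁ ∧ c₂ = d₂ ∧ c₃ = d₃ := by
  have h1 : tF4 (c₀ * d₀⁻¹) (c₁ * d₁⁻¹) (c₂ * d₂⁻¹) (c₃ * d₃⁻¹) = 1 := by
    rw [← tF4_mul, ← tF4_inv, h, mul_inv_cancel]
  unfold tF4 at h1
  have h2 := torusHom_ker_pow good3_F4.toGood1 T17_F4 (n := 1) (fun i hi => by
    have hi4 : i < 4 := hi
    interval_cases i <;> decide) h1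
  rw [pow_one] at h2
  have e0 := congrFun h2 ⟨0, by decide⟩
  have e1 := congrFun h2 ⟨1, by decide⟩
  have e2 := congrFun h2 ⟨2, by decide⟩
  have e3 := congrFun h2 ⟨3, by decide⟩
  exact ⟨mul_inv_eq_one.mp e0, mul_inv_eq_one.mp e1, mul_inv_eq_one.mp e2, mul_inv_eq_one.mp e3⟩

theorem tF4_mem_diagonal (c₀ c₁ c₂ c₃ : Kˣ) : tF4 c₀ c₁ c₂ c₃ ∈ chevF4.diagonalSubgroup K := by
  rw [← torusHom_range good3_F4.toGood1]
  exact ⟨_, rfl⟩

theorem exists_tF4 {g : GL chevF4.Idx K} (hg : g ∈ chevF4.diagonalSubgroup K) :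
    ∃ c₀ c₁ c₂ c₃ : Kˣ, g = tF4 c₀ c₁ c₂ c₃ := by
  rw [← torusHom_range good3_F4.toGood1] at hg
  obtain ⟨c, rfl⟩ := hg
  refine ⟨c ⟨0, by decide⟩, c ⟨1, by decide⟩, c ⟨2, by decide⟩, c ⟨3, by decide⟩, ?_⟩
  unfold tF4
  rw [← f4c_surj]

theorem lt_nroots_F4 (r : Fin 48) : r.val < chevF4.nroots := r.2

theorem fh_def (r : Fin 48) (c : Kˣ) :
    fh K r c = hGL good3_F4.toGood1 (lt_nroots_F4 r) (c : K) c.ne_zero := rfl

/-- `h_r(c)` in terms of the parameters of the torus. -/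
theorem fh_eq_tF4 (r : Fin 48) (c : Kˣ) :
    fh K r c = tF4 (c ^ cr chevF4 r.val 0) (c ^ cr chevF4 r.val 1) (c ^ cr chevF4 r.val 2)
      (c ^ cr chevF4 r.val 3) := by
  apply Units.ext
  unfold tF4
  rw [fh_def, hGL_coe, hMat_eq_tMat good3_F4.toGood1 (lt_nroots_F4 r) c.ne_zero, torusHom_apply, tGL_coe]
  apply tMat_congr
  intro i hi
  have hi4 : i < 4 := hi
  interval_cases i
  · unfold extc; rw [dif_pos (by decide)]
    change _ = ((c ^ cr chevF4 r.val 0 : Kˣ) : K)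
    rw [Units.val_zpow_eq_zpow_val]
  · unfold extc; rw [dif_pos (by decide)]
    change _ = ((c ^ cr chevF4 r.val 1 : Kˣ) : K)
    rw [Units.val_zpow_eq_zpow_val]
  · unfold extc; rw [dif_pos (by decide)]
    change _ = ((c ^ cr chevF4 r.val 2 : Kˣ) : K)
    rw [Units.val_zpow_eq_zpow_val]
  · unfold extc; rw [dif_pos (by decide)]
    change _ = ((c ^ cr chevF4 r.val 3 : Kˣ) : K)
    rw [Units.val_zpow_eq_zpow_val]

theorem cr_F4_simple : 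
    (cr chevF4 33 0 = 1 ∧ cr chevF4 33 1 = 0 ∧ cr chevF4 33 2 = 0 ∧ cr chevF4 33 3 = 0) ∧
    (cr chevF4 27 0 = 0 ∧ cr chevF4 27 1 = 1 ∧ cr chevF4 27 2 = 0 ∧ cr chevF4 27 3 = 0) ∧
    (cr chevF4 25 0 = 0 ∧ cr chevF4 25 1 = 0 ∧ cr chevF4 25 2 = 1 ∧ cr chevF4 25 3 = 0) ∧
    (cr chevF4 24 0 = 0 ∧ cr chevF4 24 1 = 0 ∧ cr chevF4 24 2 = 0 ∧ cr chevF4 24 3 = 1) := by
  decide

theorem cr_F4_37_32 : 
    (cr chevF4 37 0 = 1 ∧ cr chevF4 37 1 = 2 ∧ cr chevF4 37 2 = 2 ∧ cr chevF4 37 3 = 0) ∧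
    (cr chevF4 32 0 = 0 ∧ cr chevF4 32 1 = 1 ∧ cr chevF4 32 2 = 2 ∧ cr chevF4 32 3 = 1) := by
  decide

theorem fh_33 (c : Kˣ) : fh K 33 c = tF4 c 1 1 1 := by
  rw [fh_eq_tF4]
  obtain ⟨⟨h0, h1, h2, h3⟩, _⟩ := cr_F4_simple
  change tF4 (c ^ cr chevF4 33 0) (c ^ cr chevF4 33 1) (c ^ cr chevF4 33 2) (c ^ cr chevF4 33 3) = _
  rw [h0, h1, h2, h3, zpow_one, zpow_zero]

theorem fh_27 (c : Kˣ) : fh K 27 c = tF4 1 c 1 1 := by
  rw [fh_eq_tF4]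
  obtain ⟨_, ⟨h0, h1, h2, h3⟩, _⟩ := cr_F4_simple
  change tF4 (c ^ cr chevF4 27 0) (c ^ cr chevF4 27 1) (c ^ cr chevF4 27 2) (c ^ cr chevF4 27 3) = _
  rw [h0, h1, h2, h3, zpow_one, zpow_zero]

theorem fh_25 (c : Kˣ) : fh K 25 c = tF4 1 1 c 1 := by
  rw [fh_eq_tF4]
  obtain ⟨_, _, ⟨h0, h1, h2, h3⟩, _⟩ := cr_F4_simple
  change tF4 (c ^ cr chevF4 25 0) (c ^ cr chevF4 25 1) (c ^ cr chevF4 25 2) (c ^ cr chevF4 25 3) = _
  rw [h0, h1, h2, h3, zpow_one, zpow_zero]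

theorem fh_24 (c : Kˣ) : fh K 24 c = tF4 1 1 1 c := by
  rw [fh_eq_tF4]
  obtain ⟨_, _, _, ⟨h0, h1, h2, h3⟩⟩ := cr_F4_simple
  change tF4 (c ^ cr chevF4 24 0) (c ^ cr chevF4 24 1) (c ^ cr chevF4 24 2) (c ^ cr chevF4 24 3) = _
  rw [h0, h1, h2, h3, zpow_one, zpow_zero]

theorem fh_37 (c : Kˣ) : fh K 37 c = tF4 c (c ^ 2) (c ^ 2) 1 := by
  rw [fh_eq_tF4]
  obtain ⟨⟨h0, h1, h2, h3⟩, _⟩ := cr_F4_37_32
  change tF4 (c ^ cr chevF4 37 0) (c ^ cr chevF4 37 1) (c ^ cr chevF4 37 2) (c ^ cr chevF4 37 3) = _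
  rw [h0, h1, h2, h3, zpow_one, zpow_zero]
  rfl

theorem fh_32 (c : Kˣ) : fh K 32 c = tF4 1 c (c ^ 2) c := by
  rw [fh_eq_tF4]
  obtain ⟨_, ⟨h0, h1, h2, h3⟩⟩ := cr_F4_37_32
  change tF4 (c ^ cr chevF4 32 0) (c ^ cr chevF4 32 1) (c ^ cr chevF4 32 2) (c ^ cr chevF4 32 3) = _
  rw [h0, h1, h2, h3, zpow_one, zpow_zero]
  rfl

theorem tF4_eq (c₀ c₁ c₂ c₃ : Kˣ) :
    tF4 c₀ c₁ c₂ c₃ = fh K 33 c₀ * fh K 27 c₁ * fh K 25 c₂ * fh K 24 c₃ := by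
  rw [fh_33, fh_27, fh_25, fh_24, tF4_mul, tF4_mul, tF4_mul]
  simp only [mul_one, one_mul]

theorem fh_mem_group (r : Fin 48) (c : Kˣ) : fh K r c ∈ chevF4.group K :=
  diagonalSubgroup_le_group good3_F4.toGood1 (fh_mem_diagonal r c)

/-- Conjugation of `h_r(c)` by the element `n₂`. -/
theorem f4N2_mul_fh (r : Fin 48) (c : Kˣ) (r' : Fin 48)
    (hr' : (tabOf chevF4).reflWord [2, 1, 2, 1] r.val = r'.val) :
    f4N2 K * fh K r c = fh K r' c * f4N2 K := by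
  unfold f4N2
  rw [fh_def, fh_def, nWordGL_mul_hGL good3_F4.toGood2 (by decide) (lt_nroots_F4 r)]
  congr 1
  exact hGL_congr' good3_F4.toGood1 hr' _ _ rfl _ _

end torus

section tau

variable {K : Type*} [Field K] [CharP K 2] {m : ℕ} (hm : ∀ t : K, t ^ 2 ^ (2 * m + 1) = t)

include hm in
theorem f4Tau_fh (r : Fin 48) (c : Kˣ) (r' : Fin 48) (hr' : isoRho_F4 r.val = r'.val) :
    extFun (f4Tau hm) (fh K r c) = fh K r' (Units.map (f4F K m r.val : K →* K) c) := by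
  rw [fh_def, fh_def, (f4Tau_rootAut hm).map_hGL good3_F4.toGood2 (lt_nroots_F4 r)]
  exact hGL_congr' good3_F4.toGood1 hr' _ _ rfl _ _

include hm in
/-- The twisting automorphism on the torus. -/
theorem f4Tau_tF4 (c₀ c₁ c₂ c₃ : Kˣ) :
    extFun (f4Tau hm) (tF4 c₀ c₁ c₂ c₃) =
      tF4 (Units.map (f4Th K m : K →* K) c₃) (Units.map (f4Th K m : K →* K) c₂)
        (Units.map (f4Th K (m + 1) : K →* K) c₁) (Units.map (f4Th K (m + 1) : K →* K) c₀) := by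
  rw [tF4_eq, extFun_mul _ (mul_mem (mul_mem (fh_mem_group _ _) (fh_mem_group _ _)) (fh_mem_group _ _))
      (fh_mem_group _ _),
    extFun_mul _ (mul_mem (fh_mem_group _ _) (fh_mem_group _ _)) (fh_mem_group _ _),
    extFun_mul _ (fh_mem_group _ _) (fh_mem_group _ _),
    f4Tau_fh hm 33 c₀ 24 (by decide), f4Tau_fh hm 27 c₁ 25 (by decide), f4Tau_fh hm 25 c₂ 27 (by decide),
    f4Tau_fh hm 24 c₃ 33 (by decide), fh_33, fh_27, fh_25, fh_24, tF4_mul, tF4_mul, tF4_mul]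
  simp only [mul_one, one_mul]
  have e33 : f4F K m (33 : Fin 48).val = f4Th K (m + 1) := by
    unfold f4F; rw [if_pos (by decide)]
  have e27 : f4F K m (27 : Fin 48).val = f4Th K (m + 1) := by
    unfold f4F; rw [if_pos (by decide)]
  have e25 : f4F K m (25 : Fin 48).val = f4Th K m := by
    unfold f4F; rw [if_neg (by decide)]
  have e24 : f4F K m (24 : Fin 48).val = f4Th K m := by
    unfold f4F; rw [if_neg (by decide)]
  rw [e33, e27, e25, e24]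

/-- The map `θ` on the units. -/
noncomputable def f4ThU (K : Type*) [Field K] [CharP K 2] (m : ℕ) : Kˣ →* Kˣ :=
  Units.map (f4Th K m : K →* K)

theorem f4ThU_coe (x : Kˣ) : ((f4ThU K m x : Kˣ) : K) = f4Th K m (x : K) := rfl

/-- The fixed elements of the torus. -/
noncomputable def gh4 (K : Type*) [Field K] [CharP K 2] (m : ℕ) : Kˣ × Kˣ →* GL chevF4.Idx K where
  toFun p := tF4 (f4ThU K m p.1) (f4ThU K m p.2) p.2 p.1
  map_one' := by rw [Prod.fst_one, Prod.snd_one, map_one, tF4_one]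
  map_mul' a b := by rw [Prod.fst_mul, Prod.snd_mul, map_mul, map_mul, tF4_mul]

theorem gh4_apply (s u : Kˣ) :
    gh4 K m (s, u) = tF4 (f4ThU K m s) (f4ThU K m u) u s := rfl

theorem cg_aux1 {G : Type*} [CommGroup G] (a u : G) : a ^ 2 * u⁻¹ * (u * a⁻¹) = a := by
  rw [mul_assoc, inv_mul_cancel_left, pow_two, mul_inv_cancel_right]

theorem cg_aux2 {G : Type*} [CommGroup G] (a u : G) : a ^ 2 * u⁻¹ * (u ^ 2 * (a ^ 2)⁻¹) = u := by
  rw [mul_comm (u ^ 2), ← mul_assoc, mul_assoc (a ^ 2), mul_comm u⁻¹, ← mul_assoc, mul_inv_cancel, one_mul,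
    pow_two, inv_mul_cancel_left]

theorem gh4_injective : Function.Injective (gh4 K m) := by
  rintro ⟨s, u⟩ ⟨s', u'⟩ h
  rw [gh4_apply, gh4_apply] at h
  obtain ⟨_, _, h2, h3⟩ := tF4_injective h
  rw [h2, h3]

theorem gh4_mem_diagonal (p : Kˣ × Kˣ) : gh4 K m p ∈ chevF4.diagonalSubgroup K := tF4_mem_diagonal _ _ _ _

include hm in
/-- A fixed element of the torus is an `h(s, u)`. -/
theorem exists_gh4_of_fixed {g : GL chevF4.Idx K} (hg : g ∈ chevF4.diagonalSubgroup K)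
    (hfix : extFun (f4Tau hm) g = g) : ∃ p : Kˣ × Kˣ, g = gh4 K m p := by
  obtain ⟨c₀, c₁, c₂, c₃, rfl⟩ := exists_tF4 hg
  rw [f4Tau_tF4] at hfix
  obtain ⟨h0, h1, _, _⟩ := tF4_injective hfix
  refine ⟨(c₃, c₂), ?_⟩
  rw [gh4_apply]
  unfold f4ThU
  rw [h0, h1]

theorem gh4_fst_mem (s : Kˣ) : gh4 K m (s, 1) ∈ twistedF4 K (2 ^ m) := by
  have := fh_pair_mem_twisted (K := K) (m := m) s
  rw [fh_33, fh_24, tF4_mul] at this
  simp only [mul_one, one_mul] at this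
  rw [gh4_apply, map_one]
  exact this

include hm in
theorem gh4_snd_mem (u : Kˣ) : gh4 K m (1, u) ∈ twistedF4 K (2 ^ m) := by
  -- `s = u / θ u`
  obtain ⟨θ, hθ⟩ : ∃ θ : Kˣ →* Kˣ, θ = f4ThU K m := ⟨_, rfl⟩
  obtain ⟨s, hs⟩ : ∃ s : Kˣ, s = u * (θ u)⁻¹ := ⟨_, rfl⟩
  have hθθ : ∀ x : Kˣ, (θ (θ x)) ^ 2 = x := by
    intro x
    apply Units.ext
    rw [Units.val_pow_eq_pow_val, hθ]
    change (f4Th K m (f4Th K m (x : K))) ^ 2 = (x : K)
    rw [← f4Th_succ, f4Th_succ_f4Th hm]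
  have h1 : f4N2 K * gh4 K m (s, 1) * (f4N2 K)⁻¹ * (gh4 K m (s, 1))⁻¹ ∈ twistedF4 K (2 ^ m) :=
    mul_mem (mul_mem (mul_mem f4N2_mem_twisted (gh4_fst_mem s)) (inv_mem f4N2_mem_twisted))
      (inv_mem (gh4_fst_mem s))
  have h2 : f4N2 K * gh4 K m (s, 1) * (f4N2 K)⁻¹ * (gh4 K m (s, 1))⁻¹ = gh4 K m (1, u) := by
    have e1 : gh4 K m (s, 1) = fh K 33 (θ s) * fh K 24 s := by
      rw [gh4_apply, fh_33, fh_24, tF4_mul, map_one, hθ]
      simp only [mul_one, one_mul]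
    have e2 : f4N2 K * gh4 K m (s, 1) * (f4N2 K)⁻¹ = fh K 37 (θ s) * fh K 32 s := by
      rw [e1, ← mul_assoc, f4N2_mul_fh 33 _ 37 (by decide), mul_assoc (fh K 37 _),
        f4N2_mul_fh 24 _ 32 (by decide), ← mul_assoc, mul_inv_cancel_right]
    have a1 : (θ s) ^ 2 * s = θ u := by
      rw [hs, map_mul, map_inv, mul_pow, inv_pow, hθθ]
      exact cg_aux1 _ _
    have a2 : (θ s) ^ 2 * s ^ 2 = u := by
      rw [hs, map_mul, map_inv, mul_pow, inv_pow, hθθ, mul_pow, inv_pow]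
      exact cg_aux2 _ _
    rw [e2, fh_37, fh_32, tF4_mul, gh4_apply, tF4_inv, tF4_mul, gh4_apply, map_one, ← hθ]
    simp only [mul_one, one_mul, inv_one, mul_inv_cancel]
    rw [a1, a2]
  rw [← h2]
  exact h1

include hm in
/-- Every `h(s, u)` lies in the twisted group. -/
theorem gh4_mem_twisted (p : Kˣ × Kˣ) : gh4 K m p ∈ twistedF4 K (2 ^ m) := by
  have e : p = (p.1, 1) * (1, p.2) := by
    rw [Prod.mk_mul_mk, mul_one, one_mul]
  rw [e, map_mul]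
  exact mul_mem (gh4_fst_mem _) (gh4_snd_mem hm _)

include hm in
/-- `H¹` is the group of the `h(s, u)`. -/
theorem f4H_eq_range :
    chevF4.diagonalSubgroup K ⊓ twistedF4 K (2 ^ m) = (gh4 K m).range := by
  apply le_antisymm
  · intro g hg
    obtain ⟨p, rfl⟩ := exists_gh4_of_fixed hm hg.1 (twistedF4_le_fixSub hm hg.2).2
    exact ⟨p, rfl⟩
  · rintro _ ⟨p, rfl⟩
    exact ⟨gh4_mem_diagonal p, gh4_mem_twisted hm p⟩

end tau

section finite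

variable {K : Type*} [Field K] [Fintype K] [CharP K 2] {m : ℕ}

theorem f4_card_H (hK : Fintype.card K = 2 ^ (2 * m + 1)) :
    Nat.card ↥(chevF4.diagonalSubgroup K ⊓ twistedF4 K (2 ^ m)) = (2 ^ (2 * m + 1) - 1) ^ 2 := by
  rw [f4H_eq_range (pow_card_two hK),
    ← Nat.card_congr (MonoidHom.ofInjective (gh4_injective (K := K) (m := m))).toEquiv,
    Nat.card_prod, Nat.card_units, Nat.card_eq_fintype_card, hK, sq]

end finite

/-- The statement of S1110. -/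
theorem f4_S1110 {K : Type*} [Field K] [Fintype K] {m : ℕ} (hK : Fintype.card K = 2 ^ (2 * m + 1)) :
    Nat.card ↥(chevF4.diagonalSubgroup K ⊓ twistedF4 K (2 ^ m)) = (2 ^ (2 * m + 1) - 1) ^ 2 := by
  haveI := charP_two_of_card (by omega) hK
  exact f4_card_H hK

end Cfsg.Agent.Helper7.Chev
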