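import Mathlib
import Cfsg.Agent.Helper7.ChevF4h
import Cfsg.Agent.Helper7.ChevTwF2
import Cfsg.Agent.Helper7.ChevUnique
import Cfsg.Agent.Helper7.ChevT14
import Cfsg.Agent.Helper7.ChevT16

set_option autoImplicit false
set_option linter.unusedSectionVars false
set_option linter.unusedVariables false

/-!
The twisted group of type `F₄`: the two classes of fundamental roots, the subgroups `X_J` of `U` and their fixed
points.
-/

namespace Cfsg.Agent.Helper7.Chev

open Cfsg Cfsg.Lie Matrix

section general

variable {D : ChevalleyDatum} {F : Type*} [Field F]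

theorem x_zero' (r : ℕ) : D.x F r (0 : F) = 1 := by
  unfold ChevalleyDatum.x
  split_ifs with h
  · exact xMat_zero D ⟨r, h⟩
  · rfl

/-- The factors of a word with parameter zero can be left out. -/
theorem wordMat_map_filter (L : List ℕ) (T : ℕ → F) (p : ℕ → Bool)
    (h : ∀ r ∈ L, p r = false → T r = 0) :
    D.wordMat F (L.map fun r => (r, T r)) = D.wordMat F ((L.filter p).map fun r => (r, T r)) := by
  induction L with
  | nil => rfl
  | cons r L ih =>
    have ih' := ih (fun r' hr' => h r' (List.mem_cons_of_mem _ hr'))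
    rw [List.map_cons, wordMat_cons]
    by_cases hp : p r = true
    · rw [List.filter_cons_of_pos hp, List.map_cons, wordMat_cons, ih']
    · have hp' : p r = false := by simpa using hp
      rw [List.filter_cons_of_neg hp, h r List.mem_cons_self hp']
      change D.x F r 0 * _ = _
      rw [x_zero', one_mul, ih']

end general

section f4

variable {K : Type*} [Field K]

/-- The parameters of the ordered product expression of an element of `U` are determined. -/
theorem f4_word_inj {T₁ T₂ : ℕ → K} (h1 : ∀ r, ¬ chevF4.IsPosRoot r → T₁ r = 0)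
    (h2 : ∀ r, ¬ chevF4.IsPosRoot r → T₂ r = 0)
    (e : chevF4.wordMat K (chevF4.posRoots.map fun r => (r, T₁ r)) =
      chevF4.wordMat K (chevF4.posRoots.map fun r => (r, T₂ r))) : T₁ = T₂ := by
  obtain ⟨g, hg, hge⟩ := word_mem_posUnipotent good3_F4.toGood2 T0_F4 T₁
  obtain ⟨t, _, huniq⟩ := (posUnipotent_unique_word good3_F4.toGood2 T0_F4 good3_F4.t3 good3_F4.t4
    T7_F4 T8_F4).1 g hg
  rw [huniq T₁ ⟨h1, hge⟩, huniq T₂ ⟨h2, hge.trans e⟩]

theorem f4_posRoots : chevF4.posRoots = List.range' 24 24 := posRoots_eq T0_F4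

end f4

section pair

variable {K : Type*} [Field K] [CharP K 2]

/-- The elements `x_{p₁}(s) x_{p₄}(t)`. -/
noncomputable def fP (s t : K) : GL chevF4.Idx K := fx K 33 s * fx K 24 t

theorem fP_comm (s t : K) : Commute (fx K 33 s) (fx K 24 t) :=
  fx_commute_nil (r := 33) (s := 24) (by decide) s t

theorem fP_mul (s t s' t' : K) : fP s t * fP s' t' = fP (s + s') (t + t') := by
  unfold fP
  calc fx K 33 s * fx K 24 t * (fx K 33 s' * fx K 24 t')
      = fx K 33 s * (fx K 24 t * fx K 33 s') * fx K 24 t' := by simp only [mul_assoc]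
    _ = fx K 33 s * (fx K 33 s' * fx K 24 t) * fx K 24 t' := by rw [(fP_comm s' t).eq]
    _ = (fx K 33 s * fx K 33 s') * (fx K 24 t * fx K 24 t') := by simp only [mul_assoc]
    _ = _ := by rw [fx_add, fx_add]

theorem fP_zero : fP (0 : K) 0 = 1 := by
  unfold fP
  rw [fx_zero, fx_zero, mul_one]

theorem fP_inv (s t : K) : (fP s t)⁻¹ = fP s t := by
  rw [inv_eq_iff_mul_eq_one, fP_mul, add_self_char2, add_self_char2, fP_zero]

/-- The parameters of `fP` as a function on the roots. -/
def fPT (s t : K) : ℕ → K := fun r => if r = 24 then t else if r = 33 then s else 0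

theorem fP_coe (s t : K) :
    ((fP s t : GL chevF4.Idx K) : Matrix chevF4.Idx chevF4.Idx K) =
      chevF4.wordMat K (chevF4.posRoots.map fun r => (r, fPT s t r)) := by
  rw [wordMat_map_filter _ _ (fun r => r == 24 || r == 33), f4_posRoots]
  · have e : (List.range' 24 24).filter (fun r => r == 24 || r == 33) = [24, 33] := by decide
    rw [e]
    simp only [List.map_cons, List.map_nil, wordMat_cons, wordMat_nil, mul_one]
    have e1 : fPT s t 24 = t := by unfold fPT; rw [if_pos rfl]
    have e2 : fPT s t 33 = s := by unfold fPT; rw [if_neg (by decide), if_pos rfl]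
    rw [e1, e2]
    unfold fP
    rw [(fP_comm s t).eq, Units.val_mul, fx_coe, fx_coe]
    rfl
  · intro r _ hp
    unfold fPT
    have h1 : r ≠ 24 := by
      rintro rfl
      simp at hp
    have h2 : r ≠ 33 := by
      rintro rfl
      simp at hp
    rw [if_neg h1, if_neg h2]

theorem fP_injective {s t s' t' : K} (h : fP s t = fP s' t') : s = s' ∧ t = t' := by
  have e : fPT s t = fPT s' t' := by
    apply f4_word_inj
    · intro r hr
      unfold fPT
      have h1 : r ≠ 24 := by
        rintro rfl
        exact hr ((f4_isPosRoot 24).mpr (by omega))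
      have h2 : r ≠ 33 := by
        rintro rfl
        exact hr ((f4_isPosRoot 33).mpr (by omega))
      rw [if_neg h1, if_neg h2]
    · intro r hr
      unfold fPT
      have h1 : r ≠ 24 := by
        rintro rfl
        exact hr ((f4_isPosRoot 24).mpr (by omega))
      have h2 : r ≠ 33 := by
        rintro rfl
        exact hr ((f4_isPosRoot 33).mpr (by omega))
      rw [if_neg h1, if_neg h2]
    · rw [← fP_coe, ← fP_coe, h]
  have e1 := congrFun e 24
  have e2 := congrFun e 33
  unfold fPT at e1 e2
  rw [if_pos rfl, if_pos rfl] at e1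
  rw [if_neg (by decide), if_pos rfl, if_neg (by decide), if_pos rfl] at e2
  exact ⟨e2, e1⟩

theorem fP_mem_group (s t : K) : fP s t ∈ chevF4.group K :=
  mul_mem (fx_mem_group _ _) (fx_mem_group _ _)

section tau

variable {m : ℕ} (hm : ∀ t : K, t ^ 2 ^ (2 * m + 1) = t)

include hm in
theorem f4Tau_fP (s t : K) :
    extFun (f4Tau hm) (fP s t) = fP (f4Th K m t) (f4Th K (m + 1) s) := by
  unfold fP
  have fa : f4F K m (33 : Fin 48).val = f4Th K (m + 1) := by unfold f4F; rw [if_pos (by decide)]
  have fb : f4F K m (24 : Fin 48).val = f4Th K m := by unfold f4F; rw [if_neg (by decide)]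
  rw [extFun_mul _ (fx_mem_group _ _) (fx_mem_group _ _), f4Tau_fx hm 33 _ 24 (by decide),
    f4Tau_fx hm 24 _ 33 (by decide), fa, fb]
  exact ((fP_comm _ _).eq).symm

include hm in
/-- A fixed `fP s t` is an `xP`. -/
theorem fP_fixed {s t : K} (h : extFun (f4Tau hm) (fP s t) = fP s t) : fP s t = xP 33 24 m t := by
  rw [f4Tau_fP] at h
  obtain ⟨h1, _⟩ := fP_injective h
  unfold xP
  rw [h1]
  rfl

theorem xP_eq_fP (t : K) : xP 33 24 m t = fP (f4Th K m t) t := rfl

end tau

end pair

section quad

variable {K : Type*} [Field K] [CharP K 2]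

theorem xQ_inv (q : B2Quad K) (s t c d : K) :
    (q.xQ s t c d)⁻¹ = q.xQ s t (c + s * t) (d + s ^ 2 * t) := by
  rw [inv_eq_iff_mul_eq_one, q.xQ_mul, add_self_char2, add_self_char2]
  have e1 : c + (c + s * t) + s * t = 0 := by
    have h1 := add_self_char2 c
    have h2 := add_self_char2 (s * t)
    linear_combination h1 + h2
  have e2 : d + (d + s ^ 2 * t) + s ^ 2 * t = 0 := by
    have h1 := add_self_char2 d
    have h2 := add_self_char2 (s ^ 2 * t)
    linear_combination h1 + h2
  rw [e1, e2, q.xQ_zero]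

/-- The product in the order of the roots. -/
theorem xQ_reorder (q : B2Quad K) (s t c d : K) :
    q.xQ s t c d = fx K q.b t * fx K q.a s * fx K q.ab (c + s * t) * fx K q.aab (d + s ^ 2 * t) := by
  unfold B2Quad.xQ
  have h := q.comm_ba s t
  have h5 := q.c_ab_aab
  have e : fx K q.a s * fx K q.b t =
      fx K q.b t * fx K q.a s * (fx K q.ab (s * t) * fx K q.aab (s ^ 2 * t)) := by
    rw [h]
    have : fx K q.ab (s * t) * fx K q.aab (s ^ 2 * t) * (fx K q.ab (s * t) * fx K q.aab (s ^ 2 * t)) = 1 := by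
      calc fx K q.ab (s * t) * fx K q.aab (s ^ 2 * t) * (fx K q.ab (s * t) * fx K q.aab (s ^ 2 * t))
          = fx K q.ab (s * t) * (fx K q.aab (s ^ 2 * t) * fx K q.ab (s * t)) * fx K q.aab (s ^ 2 * t) := by
            simp only [mul_assoc]
        _ = fx K q.ab (s * t) * (fx K q.ab (s * t) * fx K q.aab (s ^ 2 * t)) * fx K q.aab (s ^ 2 * t) := by
            rw [(h5 (s * t) (s ^ 2 * t)).eq]
        _ = (fx K q.ab (s * t) * fx K q.ab (s * t)) * (fx K q.aab (s ^ 2 * t) * fx K q.aab (s ^ 2 * t)) := by
            simp only [mul_assoc]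
        _ = 1 := by rw [fx_add, fx_add, add_self_char2, add_self_char2, fx_zero, fx_zero, mul_one]
    rw [mul_assoc (fx K q.a s * fx K q.b t), this, mul_one]
  rw [e]
  calc fx K q.b t * fx K q.a s * (fx K q.ab (s * t) * fx K q.aab (s ^ 2 * t)) * fx K q.ab c * fx K q.aab d
      = fx K q.b t * fx K q.a s * fx K q.ab (s * t) * (fx K q.aab (s ^ 2 * t) * fx K q.ab c) * fx K q.aab d := by
        simp only [mul_assoc]
    _ = fx K q.b t * fx K q.a s * fx K q.ab (s * t) * (fx K q.ab c * fx K q.aab (s ^ 2 * t)) * fx K q.aab d := by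
        rw [(h5 c (s ^ 2 * t)).eq]
    _ = fx K q.b t * fx K q.a s * (fx K q.ab (s * t) * fx K q.ab c) *
          (fx K q.aab (s ^ 2 * t) * fx K q.aab d) := by simp only [mul_assoc]
    _ = _ := by
        rw [fx_add, fx_add, add_comm (s * t), add_comm (s ^ 2 * t)]

/-- The parameters of `xQ` for the positive quadruple as a function on the roots. -/
def fQT (s t c d : K) : ℕ → K := fun r =>
  if r = 25 then t else if r = 27 then s else if r = 28 then c else if r = 30 then d else 0

theorem fQT_zero {s t c d : K} {r : ℕ} (h : r ≠ 25 ∧ r ≠ 27 ∧ r ≠ 28 ∧ r ≠ 30) : fQT s t c d r = 0 := by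
  unfold fQT
  rw [if_neg h.1, if_neg h.2.1, if_neg h.2.2.1, if_neg h.2.2.2]

theorem xQ_coe (s t c d : K) :
    (((quadPos K).xQ s t c d : GL chevF4.Idx K) : Matrix chevF4.Idx chevF4.Idx K) =
      chevF4.wordMat K (chevF4.posRoots.map fun r => (r, fQT s t (c + s * t) (d + s ^ 2 * t) r)) := by
  rw [wordMat_map_filter _ _ (fun r => r == 25 || r == 27 || r == 28 || r == 30), f4_posRoots]
  · have e : (List.range' 24 24).filter (fun r => r == 25 || r == 27 || r == 28 || r == 30) =
        [25, 27, 28, 30] := by decide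
    rw [e]
    simp only [List.map_cons, List.map_nil, wordMat_cons, wordMat_nil, mul_one]
    have e1 : ∀ s t c d : K, fQT s t c d 25 = t := by intro s t c d; unfold fQT; rw [if_pos rfl]
    have e2 : ∀ s t c d : K, fQT s t c d 27 = s := by
      intro s t c d; unfold fQT; rw [if_neg (by decide), if_pos rfl]
    have e3 : ∀ s t c d : K, fQT s t c d 28 = c := by
      intro s t c d; unfold fQT; rw [if_neg (by decide), if_neg (by decide), if_pos rfl]
    have e4 : ∀ s t c d : K, fQT s t c d 30 = d := by
      intro s t c d; unfold fQT; rw [if_neg (by decide), if_neg (by decide), if_neg (by decide), if_pos rfl]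
    rw [e1, e2, e3, e4, xQ_reorder]
    simp only [Units.val_mul, fx_coe, mul_assoc]
    rfl
  · intro r _ hp
    apply fQT_zero
    refine ⟨?_, ?_, ?_, ?_⟩ <;> (rintro rfl; simp at hp)

theorem xQ_injective {s t c d s' t' c' d' : K}
    (h : (quadPos K).xQ s t c d = (quadPos K).xQ s' t' c' d') : s = s' ∧ t = t' ∧ c = c' ∧ d = d' := by
  have hz : ∀ (s t c d : K) (r : ℕ), ¬ chevF4.IsPosRoot r → fQT s t c d r = 0 := by
    intro s t c d r hr
    apply fQT_zero
    refine ⟨?_, ?_, ?_, ?_⟩ <;> (rintro rfl; exact hr ((f4_isPosRoot _).mpr (by omega)))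
  have e : fQT s t (c + s * t) (d + s ^ 2 * t) = fQT s' t' (c' + s' * t') (d' + s' ^ 2 * t') := by
    apply f4_word_inj (hz _ _ _ _) (hz _ _ _ _)
    rw [← xQ_coe, ← xQ_coe, h]
  have e1 := congrFun e 25
  have e2 := congrFun e 27
  have e3 := congrFun e 28
  have e4 := congrFun e 30
  unfold fQT at e1 e2 e3 e4
  rw [if_pos rfl, if_pos rfl] at e1
  rw [if_neg (by decide), if_pos rfl, if_neg (by decide), if_pos rfl] at e2
  rw [if_neg (by decide), if_neg (by decide), if_pos rfl, if_neg (by decide), if_neg (by decide),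
    if_pos rfl] at e3
  rw [if_neg (by decide), if_neg (by decide), if_neg (by decide), if_pos rfl, if_neg (by decide),
    if_neg (by decide), if_neg (by decide), if_pos rfl] at e4
  subst e1 e2
  exact ⟨rfl, rfl, add_right_cancel e3, add_right_cancel e4⟩

section tau

variable {m : ℕ} (hm : ∀ t : K, t ^ 2 ^ (2 * m + 1) = t)

include hm in
/-- A fixed `xQ s t c d` is an `xS`. -/
theorem xQ_fixed {s t c d : K}
    (h : extFun (f4Tau hm) ((quadPos K).xQ s t c d) = (quadPos K).xQ s t c d) :
    (quadPos K).xQ s t c d = (quadPos K).xS m t (f4Th K m d) := by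
  rw [(quadPos K).f4Tau_xQ hm] at h
  obtain ⟨h1, _, h3, _⟩ := xQ_injective h
  exact (quadPos K).eq_xS_of_coords hm h1.symm h3.symm

theorem xS_injective {t u t' u' : K} (h : (quadPos K).xS m t u = (quadPos K).xS m t' u') :
    t = t' ∧ u = u' := by
  unfold B2Quad.xS at h
  obtain ⟨_, h2, h3, _⟩ := xQ_injective h
  subst h2
  exact ⟨rfl, add_left_cancel h3⟩

end tau

end quad

end Cfsg.Agent.Helper7.Chev
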