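import Mathlib
import Cfsg.Agent.Helper7.ChevF4i

set_option autoImplicit false
set_option linter.unusedSectionVars false
set_option linter.unusedVariables false

/-!
The twisted group of type `F₄`: the class data of the two classes of fundamental roots, and `|U¹| = q¹²`.
-/

namespace Cfsg.Agent.Helper7.Chev

open Cfsg Cfsg.Lie Matrix

section roots

/-- The class `{p₁, p₄}`. -/
def f4J1 : Set ℕ := {0, 3}

/-- The class `{p₂, p₃}`. -/
def f4J2 : Set ℕ := {1, 2}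

theorem f4_J1_dec : ∀ r < 48, ((chevF4.coroot.getD r #[]).getD 1 0 = 0 ∧
    (chevF4.coroot.getD r #[]).getD 2 0 = 0) ↔ r ∈ [14, 23, 24, 33] := by decide

theorem f4_J2_dec : ∀ r < 48, ((chevF4.coroot.getD r #[]).getD 0 0 = 0 ∧
    (chevF4.coroot.getD r #[]).getD 3 0 = 0) ↔ r ∈ [17, 19, 20, 22, 25, 27, 28, 30] := by decide

theorem f4_inJ1_iff (r : ℕ) : chevF4.InRootSub f4J1 r ↔ r ∈ [14, 23, 24, 33] := by
  constructor
  · rintro ⟨hr, h⟩
    have h1 := h 1 (by decide) (by unfold f4J1; simp)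
    have h2 := h 2 (by decide) (by unfold f4J1; simp)
    exact (f4_J1_dec r hr).mp ⟨h1, h2⟩
  · intro hr
    have hlt : r < 48 := by
      simp only [List.mem_cons, List.not_mem_nil, or_false] at hr
      omega
    obtain ⟨h1, h2⟩ := (f4_J1_dec r hlt).mpr hr
    refine ⟨hlt, fun i hi hiJ => ?_⟩
    have hi4 : i < 4 := hi
    unfold f4J1 at hiJ
    simp only [Set.mem_insert_iff, Set.mem_singleton_iff, not_or] at hiJ
    interval_cases i
    · exact absurd rfl hiJ.1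
    · exact h1
    · exact h2
    · exact absurd rfl hiJ.2

theorem f4_inJ2_iff (r : ℕ) : chevF4.InRootSub f4J2 r ↔ r ∈ [17, 19, 20, 22, 25, 27, 28, 30] := by
  constructor
  · rintro ⟨hr, h⟩
    have h1 := h 0 (by decide) (by unfold f4J2; simp)
    have h2 := h 3 (by decide) (by unfold f4J2; simp)
    exact (f4_J2_dec r hr).mp ⟨h1, h2⟩
  · intro hr
    have hlt : r < 48 := by
      simp only [List.mem_cons, List.not_mem_nil, or_false] at hr
      omega
    obtain ⟨h1, h2⟩ := (f4_J2_dec r hlt).mpr hr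
    refine ⟨hlt, fun i hi hiJ => ?_⟩
    have hi4 : i < 4 := hi
    unfold f4J2 at hiJ
    simp only [Set.mem_insert_iff, Set.mem_singleton_iff, not_or] at hiJ
    interval_cases i
    · exact h1
    · exact absurd rfl hiJ.1
    · exact absurd rfl hiJ.2
    · exact h2

theorem f4_inJ1Pos_iff (r : ℕ) : InJPos chevF4 f4J1 r ↔ r = 24 ∨ r = 33 := by
  unfold InJPos
  rw [f4_inJ1_iff, f4_isPosRoot]
  simp only [List.mem_cons, List.not_mem_nil, or_false]
  omega

theorem f4_inJ2Pos_iff (r : ℕ) : InJPos chevF4 f4J2 r ↔ r = 25 ∨ r = 27 ∨ r = 28 ∨ r = 30 := by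
  unfold InJPos
  rw [f4_inJ2_iff, f4_isPosRoot]
  simp only [List.mem_cons, List.not_mem_nil, or_false]
  omega

theorem f4_rho_J1 : ∀ r, chevF4.InRootSub f4J1 r → chevF4.InRootSub f4J1 (isoRho_F4 r) := by
  intro r hr
  rw [f4_inJ1_iff] at hr ⊢
  revert r
  decide

theorem f4_rho_J2 : ∀ r, chevF4.InRootSub f4J2 r → chevF4.InRootSub f4J2 (isoRho_F4 r) := by
  intro r hr
  rw [f4_inJ2_iff] at hr ⊢
  revert r
  decide

theorem f4_word_J1_fast : ∀ r ∈ [24, 33], fastF4.reflWord [0, 3] r = 47 - r := by decide +kernel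

theorem f4_word_J2_fast : ∀ r ∈ [25, 27, 28, 30], fastF4.reflWord [2, 1, 2, 1] r = 47 - r := by
  decide +kernel

theorem f4_word_J1 : ∀ r ∈ [24, 33], (tabOf chevF4).reflWord [0, 3] r = 47 - r := tab_F4 ▸ f4_word_J1_fast

theorem f4_word_J2 : ∀ r ∈ [25, 27, 28, 30], (tabOf chevF4).reflWord [2, 1, 2, 1] r = 47 - r :=
  tab_F4 ▸ f4_word_J2_fast

theorem f4_neg_eq : ∀ r < 48, chevF4.neg r = 47 - r := by decide

theorem f4_Pword_J1 : ∀ r, InJPos chevF4 f4J1 r →
    ∃ r', InJPos chevF4 f4J1 r' ∧ (tabOf chevF4).reflWord [0, 3] r = chevF4.neg r' := by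
  intro r hr
  refine ⟨r, hr, ?_⟩
  rw [f4_inJ1Pos_iff] at hr
  have hlt : r < 48 := by omega
  rw [f4_neg_eq r hlt]
  apply f4_word_J1
  simp only [List.mem_cons, List.not_mem_nil, or_false]
  exact hr

theorem f4_Pword_J2 : ∀ r, InJPos chevF4 f4J2 r →
    ∃ r', InJPos chevF4 f4J2 r' ∧ (tabOf chevF4).reflWord [2, 1, 2, 1] r = chevF4.neg r' := by
  intro r hr
  refine ⟨r, hr, ?_⟩
  rw [f4_inJ2Pos_iff] at hr
  have hlt : r < 48 := by omega
  rw [f4_neg_eq r hlt]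
  apply f4_word_J2
  simp only [List.mem_cons, List.not_mem_nil, or_false]
  exact hr

theorem f4_wordJ1_mem : ∀ i ∈ [0, 3], i < chevF4.rank ∧ i ∈ f4J1 := by
  intro i hi
  simp only [List.mem_cons, List.not_mem_nil, or_false] at hi
  unfold f4J1
  rcases hi with rfl | rfl
  · exact ⟨by decide, by simp⟩
  · exact ⟨by decide, by simp⟩

theorem f4_wordJ2_mem : ∀ i ∈ [2, 1, 2, 1], i < chevF4.rank ∧ i ∈ f4J2 := by
  intro i hi
  simp only [List.mem_cons, List.not_mem_nil, or_false] at hi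
  unfold f4J2
  rcases hi with rfl | rfl | rfl | rfl
  · exact ⟨by decide, by simp⟩
  · exact ⟨by decide, by simp⟩
  · exact ⟨by decide, by simp⟩
  · exact ⟨by decide, by simp⟩

end roots

section XJ

variable {K : Type*} [Field K] [CharP K 2]

/-- `X_{J₁}` is the set of the `fP s t`. -/
theorem mem_XJ1_iff {g : GL chevF4.Idx K} :
    g ∈ Subgroup.closure (rootGen chevF4 K (InJPos chevF4 f4J1)) ↔ ∃ s t : K, g = fP s t := by
  constructor
  · intro hg
    induction hg using Subgroup.closure_induction with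
    | mem y hy =>
      obtain ⟨r, t, hr, hy⟩ := hy
      rw [f4_inJ1Pos_iff] at hr
      rcases hr with rfl | rfl
      · refine ⟨0, t, ?_⟩
        apply Units.ext
        rw [hy]
        unfold fP
        rw [fx_zero, one_mul, fx_coe]
        rfl
      · refine ⟨t, 0, ?_⟩
        apply Units.ext
        rw [hy]
        unfold fP
        rw [fx_zero, mul_one, fx_coe]
        rfl
    | one => exact ⟨0, 0, fP_zero.symm⟩
    | mul a b _ _ ha hb =>
      obtain ⟨s, t, rfl⟩ := ha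
      obtain ⟨s', t', rfl⟩ := hb
      exact ⟨_, _, fP_mul s t s' t'⟩
    | inv a _ ha =>
      obtain ⟨s, t, rfl⟩ := ha
      exact ⟨_, _, fP_inv s t⟩
  · rintro ⟨s, t, rfl⟩
    unfold fP
    apply mul_mem
    · exact Subgroup.subset_closure ⟨33, s, (f4_inJ1Pos_iff 33).mpr (Or.inr rfl), fx_coe 33 s⟩
    · exact Subgroup.subset_closure ⟨24, t, (f4_inJ1Pos_iff 24).mpr (Or.inl rfl), fx_coe 24 t⟩

/-- `X_{J₂}` is the set of the `xQ s t c d`. -/
theorem mem_XJ2_iff {g : GL chevF4.Idx K} :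
    g ∈ Subgroup.closure (rootGen chevF4 K (InJPos chevF4 f4J2)) ↔
      ∃ s t c d : K, g = (quadPos K).xQ s t c d := by
  constructor
  · intro hg
    induction hg using Subgroup.closure_induction with
    | mem y hy =>
      obtain ⟨r, t, hr, hy⟩ := hy
      rw [f4_inJ2Pos_iff] at hr
      rcases hr with rfl | rfl | rfl | rfl
      · refine ⟨0, t, 0, 0, ?_⟩
        apply Units.ext
        rw [hy]
        unfold B2Quad.xQ
        rw [fx_zero, fx_zero, fx_zero, one_mul, mul_one, mul_one, fx_coe]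
        rfl
      · refine ⟨t, 0, 0, 0, ?_⟩
        apply Units.ext
        rw [hy]
        unfold B2Quad.xQ
        rw [fx_zero, fx_zero, fx_zero, mul_one, mul_one, mul_one, fx_coe]
        rfl
      · refine ⟨0, 0, t, 0, ?_⟩
        apply Units.ext
        rw [hy]
        unfold B2Quad.xQ
        rw [fx_zero, fx_zero, fx_zero, one_mul, one_mul, mul_one, fx_coe]
        rfl
      · refine ⟨0, 0, 0, t, ?_⟩
        apply Units.ext
        rw [hy]
        unfold B2Quad.xQ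
        rw [fx_zero, fx_zero, fx_zero, one_mul, one_mul, one_mul, fx_coe]
        rfl
    | one => exact ⟨0, 0, 0, 0, ((quadPos K).xQ_zero).symm⟩
    | mul a b _ _ ha hb =>
      obtain ⟨s, t, c, d, rfl⟩ := ha
      obtain ⟨s', t', c', d', rfl⟩ := hb
      exact ⟨_, _, _, _, (quadPos K).xQ_mul s t c d s' t' c' d'⟩
    | inv a _ ha =>
      obtain ⟨s, t, c, d, rfl⟩ := ha
      exact ⟨_, _, _, _, xQ_inv (quadPos K) s t c d⟩
  · rintro ⟨s, t, c, d, rfl⟩
    unfold B2Quad.xQ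
    refine mul_mem (mul_mem (mul_mem ?_ ?_) ?_) ?_
    · exact Subgroup.subset_closure ⟨27, s, (f4_inJ2Pos_iff 27).mpr (by omega), fx_coe 27 s⟩
    · exact Subgroup.subset_closure ⟨25, t, (f4_inJ2Pos_iff 25).mpr (by omega), fx_coe 25 t⟩
    · exact Subgroup.subset_closure ⟨28, c, (f4_inJ2Pos_iff 28).mpr (by omega), fx_coe 28 c⟩
    · exact Subgroup.subset_closure ⟨30, d, (f4_inJ2Pos_iff 30).mpr (by omega), fx_coe 30 d⟩

variable {m : ℕ} (hm : ∀ t : K, t ^ 2 ^ (2 * m + 1) = t)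

include hm in
/-- The fixed points of `X_{J₁}`. -/
theorem mem_XJ1_fix_iff {g : GL chevF4.Idx K} :
    g ∈ Subgroup.closure (rootGen chevF4 K (InJPos chevF4 f4J1)) ⊓ fixSub (f4Tau hm) ↔
      ∃ t : K, g = xP 33 24 m t := by
  constructor
  · rintro ⟨hg, _, hfix⟩
    obtain ⟨s, t, rfl⟩ := mem_XJ1_iff.mp hg
    exact ⟨t, fP_fixed hm hfix⟩
  · rintro ⟨t, rfl⟩
    refine Subgroup.mem_inf.mpr ⟨mem_XJ1_iff.mpr ⟨_, _, xP_eq_fP t⟩, ?_⟩
    exact twistedF4_le_fixSub hm (xP_pos_mem_twisted t)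

include hm in
/-- The fixed points of `X_{J₂}`. -/
theorem mem_XJ2_fix_iff {g : GL chevF4.Idx K} :
    g ∈ Subgroup.closure (rootGen chevF4 K (InJPos chevF4 f4J2)) ⊓ fixSub (f4Tau hm) ↔
      ∃ t u : K, g = (quadPos K).xS m t u := by
  constructor
  · rintro ⟨hg, _, hfix⟩
    obtain ⟨s, t, c, d, rfl⟩ := mem_XJ2_iff.mp hg
    exact ⟨t, _, xQ_fixed hm hfix⟩
  · rintro ⟨t, u, rfl⟩
    refine Subgroup.mem_inf.mpr ⟨mem_XJ2_iff.mpr ⟨_, _, _, _, rfl⟩, ?_⟩
    exact twistedF4_le_fixSub hm (xS_pos_mem_twisted t u)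

include hm in
theorem card_XJ1_fix [Finite K] :
    Nat.card ↥(Subgroup.closure (rootGen chevF4 K (InJPos chevF4 f4J1)) ⊓ fixSub (f4Tau hm)) =
      Nat.card K := by
  symm
  apply Nat.card_congr
  refine Equiv.ofBijective (fun t => ⟨xP 33 24 m t, (mem_XJ1_fix_iff hm).mpr ⟨t, rfl⟩⟩) ⟨?_, ?_⟩
  · intro t t' h
    have h' : xP 33 24 m t = xP 33 24 m t' := congrArg Subtype.val h
    rw [xP_eq_fP, xP_eq_fP] at h'
    exact (fP_injective h').2
  · rintro ⟨g, hg⟩
    obtain ⟨t, rfl⟩ := (mem_XJ1_fix_iff hm).mp hg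
    exact ⟨t, rfl⟩

include hm in
theorem card_XJ2_fix [Finite K] :
    Nat.card ↥(Subgroup.closure (rootGen chevF4 K (InJPos chevF4 f4J2)) ⊓ fixSub (f4Tau hm)) =
      Nat.card K * Nat.card K := by
  rw [← Nat.card_prod]
  symm
  apply Nat.card_congr
  refine Equiv.ofBijective (fun p : K × K => ⟨(quadPos K).xS m p.1 p.2,
    (mem_XJ2_fix_iff hm).mpr ⟨p.1, p.2, rfl⟩⟩) ⟨?_, ?_⟩
  · rintro ⟨t, u⟩ ⟨t', u'⟩ h
    have h' : (quadPos K).xS m t u = (quadPos K).xS m t' u' := congrArg Subtype.val h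
    obtain ⟨h1, h2⟩ := xS_injective h'
    rw [h1, h2]
  · rintro ⟨g, hg⟩
    obtain ⟨t, u, rfl⟩ := (mem_XJ2_fix_iff hm).mp hg
    exact ⟨(t, u), rfl⟩

end XJ

section cls

variable {K : Type*} [Field K] [CharP K 2] {m : ℕ} (hm : ∀ t : K, t ^ 2 ^ (2 * m + 1) = t)

/-- The class data of `J₁`. -/
noncomputable def f4Cls1 : FCls good3_F4.toGood2 K (fixSub (f4Tau hm)) (twistedF4 K (2 ^ m)) :=
  (f4Tau_rootAut hm).fcls good3_F4.toGood2 T0_F4 good3_F4.t3 good3_F4.t4 T6_F4 T14_F4 T16_F4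
    f4_rho_J1 f4_wordJ1_mem f4_Pword_J1
    (twistedF4_le_fixSub hm f4N1_mem_twisted) f4N1_mem_twisted
    (by
      intro g hg
      obtain ⟨t, rfl⟩ := (mem_XJ1_fix_iff hm).mp hg
      exact xP_pos_mem_twisted t)

/-- The class data of `J₂`. -/
noncomputable def f4Cls2 : FCls good3_F4.toGood2 K (fixSub (f4Tau hm)) (twistedF4 K (2 ^ m)) :=
  (f4Tau_rootAut hm).fcls good3_F4.toGood2 T0_F4 good3_F4.t3 good3_F4.t4 T6_F4 T14_F4 T16_F4
    f4_rho_J2 f4_wordJ2_mem f4_Pword_J2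
    (twistedF4_le_fixSub hm f4N2_mem_twisted) f4N2_mem_twisted
    (by
      intro g hg
      obtain ⟨t, u, rfl⟩ := (mem_XJ2_fix_iff hm).mp hg
      exact xS_pos_mem_twisted t u)

theorem f4Cls1_word : (f4Cls1 hm).word = [0, 3] := rfl
theorem f4Cls2_word : (f4Cls2 hm).word = [2, 1, 2, 1] := rfl
theorem f4Cls1_P : (f4Cls1 hm).P = InJPos chevF4 f4J1 := rfl
theorem f4Cls2_P : (f4Cls2 hm).P = InJPos chevF4 f4J2 := rfl
theorem f4Cls1_X : (f4Cls1 hm).X =
    Subgroup.closure (rootGen chevF4 K (InJPos chevF4 f4J1)) ⊓ fixSub (f4Tau hm) := rfl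
theorem f4Cls2_X : (f4Cls2 hm).X =
    Subgroup.closure (rootGen chevF4 K (InJPos chevF4 f4J2)) ⊓ fixSub (f4Tau hm) := rfl

end cls

end Cfsg.Agent.Helper7.Chev
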