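import Mathlib
import Cfsg.Agent.Helper7.ChevF4j

set_option autoImplicit false
set_option linter.unusedSectionVars false
set_option linter.unusedVariables false

/-!
The twisted group of type `F₄`: the alternating words in the two classes, and `|U¹| = q¹²`.
-/

namespace Cfsg.Agent.Helper7.Chev

open Cfsg Cfsg.Lie Matrix

/-- The alternating word in the classes with `k` factors; it starts with the first class if `b` is false and
with the second class otherwise. -/
def f4AltWord (b : Bool) (k : ℕ) : List ℕ :=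
  ((List.range k).map fun j => if (j % 2 = 0) = !b then [0, 3] else [2, 1, 2, 1]).flatten

set_option maxRecDepth 100000 in
theorem f4_altPos_fast : ∀ b : Bool, ∀ k < 8,
    (((k % 2 = 0) = !b) → ∀ r ∈ [24, 33], 24 ≤ fastF4.reflWord (f4AltWord b k) r) ∧
    (¬ ((k % 2 = 0) = !b) → ∀ r ∈ [25, 27, 28, 30], 24 ≤ fastF4.reflWord (f4AltWord b k) r) := by
  decide +kernel

theorem f4_altPos : ∀ b : Bool, ∀ k < 8,
    (((k % 2 = 0) = !b) → ∀ r ∈ [24, 33], 24 ≤ (tabOf chevF4).reflWord (f4AltWord b k) r) ∧
    (¬ ((k % 2 = 0) = !b) → ∀ r ∈ [25, 27, 28, 30], 24 ≤ (tabOf chevF4).reflWord (f4AltWord b k) r) :=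
  tab_F4 ▸ f4_altPos_fast

set_option maxRecDepth 100000 in
theorem f4_altW0_fast : ∀ b : Bool, fastF4.W0ok (f4AltWord b 8) := by decide +kernel

theorem f4_altW0 : ∀ b : Bool, (tabOf chevF4).W0ok (f4AltWord b 8) := tab_F4 ▸ f4_altW0_fast

section cls

variable {K : Type*} [Field K] [CharP K 2] {m : ℕ} (hm : ∀ t : K, t ^ 2 ^ (2 * m + 1) = t)

/-- The alternating list of classes, reversed. -/
noncomputable def f4AltList (b : Bool) :
    ℕ → List (FCls good3_F4.toGood2 K (fixSub (f4Tau hm)) (twistedF4 K (2 ^ m)))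
  | 0 => []
  | k + 1 => (if (k % 2 = 0) = !b then f4Cls1 hm else f4Cls2 hm) :: f4AltList b k

theorem f4AltList_word (b : Bool) (k : ℕ) :
    (f4AltList hm b k).reverse.flatMap FCls.word = f4AltWord b k := by
  induction k with
  | zero => rfl
  | succ k ih =>
    have e : f4AltWord b (k + 1) =
        f4AltWord b k ++ (if (k % 2 = 0) = !b then [0, 3] else [2, 1, 2, 1]) := by
      unfold f4AltWord
      rw [List.range_succ, List.map_append, List.flatten_append]
      simp
    rw [e]
    change ((if (k % 2 = 0) = !b then f4Cls1 hm else f4Cls2 hm) :: f4AltList hm b k).reverse.flatMap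
      FCls.word = _
    rw [List.reverse_cons, List.flatMap_append, ih, List.flatMap_singleton]
    congr 1
    split_ifs <;> rfl

theorem f4AltList_pos (b : Bool) : ∀ k ≤ 8, FClsPos good3_F4.toGood2 (f4AltList hm b k) := by
  intro k
  induction k with
  | zero => intro _; trivial
  | succ k ih =>
    intro hk
    refine ⟨?_, ih (by omega)⟩
    rw [f4AltList_word]
    obtain ⟨h1, h2⟩ := f4_altPos b k (by omega)
    intro r hr
    by_cases hc : (k % 2 = 0) = !b
    · rw [if_pos hc, f4Cls1_P, f4_inJ1Pos_iff] at hr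
      apply h1 hc
      simp only [List.mem_cons, List.not_mem_nil, or_false]
      exact hr
    · rw [if_neg hc, f4Cls2_P, f4_inJ2Pos_iff] at hr
      apply h2 hc
      simp only [List.mem_cons, List.not_mem_nil, or_false]
      exact hr

variable [Finite K]

theorem f4AltList_card (b : Bool) (k : ℕ) :
    ((f4AltList hm b k).map fun c => Nat.card c.X).prod =
      ((List.range k).map fun j => if (j % 2 = 0) = !b then Nat.card K else Nat.card K * Nat.card K).prod := by
  induction k with
  | zero => rfl
  | succ k ih =>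
    change (((if (k % 2 = 0) = !b then f4Cls1 hm else f4Cls2 hm) :: f4AltList hm b k).map
      fun c => Nat.card c.X).prod = _
    rw [List.map_cons, List.prod_cons, ih, List.range_succ, List.map_append, List.prod_append,
      List.map_singleton, List.prod_singleton, mul_comm]
    congr 1
    split_ifs
    · rw [f4Cls1_X, card_XJ1_fix hm]
    · rw [f4Cls2_X, card_XJ2_fix hm]

/-- `U¹` is the group of the fixed points in `U`, and `|U¹| = q¹²`. -/
theorem f4_posUnipotent_inf :
    chevF4.posUnipotent K ⊓ twistedF4 K (2 ^ m) = chevF4.posUnipotent K ⊓ fixSub (f4Tau hm) ∧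
      Nat.card ↥(chevF4.posUnipotent K ⊓ twistedF4 K (2 ^ m)) = Nat.card K ^ 12 := by
  have h := posUnipotent_inf_eq_fix good3_F4.toGood2 T0_F4 T8_F4 (twistedF4_le_fixSub hm)
    (f4AltList hm false 8) (f4AltList_pos hm false 8 le_rfl)
    (by rw [f4AltList_word]; exact f4_altW0 false)
  refine ⟨h.1, ?_⟩
  rw [h.2, f4AltList_card]
  simp [List.range_succ]
  ring

end cls

section finite

variable {K : Type*} [Field K] [Fintype K] [CharP K 2] {m : ℕ}

theorem f4_card_U (hK : Fintype.card K = 2 ^ (2 * m + 1)) :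
    Nat.card ↥(chevF4.posUnipotent K ⊓ twistedF4 K (2 ^ m)) = (2 ^ (2 * m + 1)) ^ 12 := by
  rw [(f4_posUnipotent_inf (pow_card_two hK)).2, Nat.card_eq_fintype_card, hK]

end finite

/-- The statement of S1090. -/
theorem f4_S1090 {K : Type*} [Field K] [Fintype K] {m : ℕ} (hK : Fintype.card K = 2 ^ (2 * m + 1)) :
    Nat.card ↥(chevF4.posUnipotent K ⊓ twistedF4 K (2 ^ m)) = (2 ^ (2 * m + 1)) ^ 12 := by
  haveI := charP_two_of_card (by omega) hK
  exact f4_card_U hK

end Cfsg.Agent.Helper7.Chev
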