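import Mathlib
import Cfsg.Agent.Helper7.ChevF4k
import Cfsg.Agent.Helper7.ChevTwF3

set_option autoImplicit false
set_option linter.unusedSectionVars false
set_option linter.unusedVariables false

/-!
The twisted group of type `F₄`: the list of the 16 alternating words, the sharp Bruhat decomposition and the order.
-/

namespace Cfsg.Agent.Helper7.Chev

open Cfsg Cfsg.Lie Matrix

/-- The 16 alternating words in the two classes. -/
def f4Wl : List (List ℕ) :=
  (List.range 9).map (f4AltWord false) ++ (List.range' 1 7).map (f4AltWord true)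

theorem f4Wl_nodup : f4Wl.Nodup := by decide

theorem f4Wl_lt : ∀ w ∈ f4Wl, ∀ i ∈ w, i < chevF4.rank := by decide

set_option maxRecDepth 1000000 in
theorem f4Wl_inj_fast : ∀ w ∈ f4Wl, ∀ w' ∈ f4Wl,
    (∀ r < 48, fastF4.reflWord w r = fastF4.reflWord w' r) → w = w' := by decide +kernel

theorem f4Wl_inj : ∀ w ∈ f4Wl, ∀ w' ∈ f4Wl,
    (∀ r < 48, (tabOf chevF4).reflWord w r = (tabOf chevF4).reflWord w' r) → w = w' :=
  tab_F4 ▸ f4Wl_inj_fast

set_option maxRecDepth 1000000 in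
theorem f4Wl_rep_fast : ∀ w ∈ f4WFix, ∃ w' ∈ f4Wl,
    ∀ r < 48, fastF4.reflWord w r = fastF4.reflWord w' r := by decide +kernel

theorem f4Wl_rep : ∀ w ∈ f4WFix, ∃ w' ∈ f4Wl,
    ∀ r < 48, (tabOf chevF4).reflWord w r = (tabOf chevF4).reflWord w' r :=
  tab_F4 ▸ f4Wl_rep_fast

theorem f4Wl_cases : ∀ w ∈ f4Wl, ∃ b : Bool, ∃ k ≤ 8, w = f4AltWord b k := by
  intro w hw
  unfold f4Wl at hw
  rw [List.mem_append, List.mem_map, List.mem_map] at hw
  rcases hw with ⟨k, hk, rfl⟩ | ⟨k, hk, rfl⟩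
  · rw [List.mem_range] at hk
    exact ⟨false, k, by omega, rfl⟩
  · rw [List.mem_range'_1] at hk
    exact ⟨true, k, by omega, rfl⟩

section tw

variable {K : Type*} [Field K] [CharP K 2] {m : ℕ} (hm : ∀ t : K, t ^ 2 ^ (2 * m + 1) = t)

theorem f4AltWord_succ (b : Bool) (k : ℕ) :
    f4AltWord b (k + 1) = f4AltWord b k ++ (if (k % 2 = 0) = !b then [0, 3] else [2, 1, 2, 1]) := by
  unfold f4AltWord
  rw [List.range_succ, List.map_append, List.flatten_append]
  simp

theorem f4AltWord_mem_twisted (b : Bool) (k : ℕ) :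
    (nWordGL good3_F4.toGood2 (f4AltWord b k) : GL chevF4.Idx K) ∈ twistedF4 K (2 ^ m) := by
  induction k with
  | zero =>
    have : f4AltWord b 0 = [] := rfl
    rw [this, nWordGL_nil]
    exact one_mem _
  | succ k ih =>
    rw [f4AltWord_succ, nWordGL_append]
    apply mul_mem ih
    split_ifs
    · exact f4N1_mem_twisted
    · exact f4N2_mem_twisted

variable [Finite K]

include hm in
theorem f4_fWList : FWList good3_F4.toGood2 (fixSub (f4Tau hm)) (twistedF4 K (2 ^ m)) f4Wl where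
  nodup := f4Wl_nodup
  lt := f4Wl_lt
  mem := by
    intro w hw
    obtain ⟨b, k, _, rfl⟩ := f4Wl_cases w hw
    exact f4AltWord_mem_twisted b k
  rep := by
    rintro n ⟨hnN, hnG⟩
    obtain ⟨w, hw, h, hh, rfl⟩ := f4_mono_fixed hm hnN (twistedF4_le_fixSub hm hnG).2
    obtain ⟨w', hw', hact⟩ := f4Wl_rep w hw
    have hwl : ∀ i ∈ w, i < chevF4.rank := f4WFix_lt w hw
    obtain ⟨h₂, hh₂, e₂⟩ := nWordGL_eq_of_reflWord_eq (F := K) good3_F4.toGood2 T0_F4 T6_F4 T8_F4 hwl
      (f4Wl_lt w' hw') hact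
    refine ⟨w', hw', h * h₂, Subgroup.mem_inf.mpr ⟨mul_mem hh hh₂, ?_⟩, by rw [e₂]; group⟩
    obtain ⟨b, k, _, rfl⟩ := f4Wl_cases w' hw'
    have : h * h₂ = h * nWordGL good3_F4.toGood2 w * (nWordGL good3_F4.toGood2 (f4AltWord b k))⁻¹ := by
      rw [e₂]; group
    rw [this]
    exact mul_mem hnG (inv_mem (f4AltWord_mem_twisted b k))
  inj := f4Wl_inj
  minus := by
    intro w hw
    obtain ⟨b, k, hk, rfl⟩ := f4Wl_cases w hw
    have := (fM_main good3_F4.toGood2 T0_F4 T8_F4 (f4AltList hm b k) (f4AltList_pos hm b k hk)).1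
    rwa [f4AltList_word] at this

include hm in
theorem f4_card_fM (b : Bool) (k : ℕ) (hk : k ≤ 8) :
    Nat.card ↥(fM good3_F4.toGood2 (fixSub (f4Tau hm)) (f4AltWord b k)) =
      ((List.range k).map fun j => if (j % 2 = 0) = !b then Nat.card K else Nat.card K * Nat.card K).prod := by
  have := (fM_main good3_F4.toGood2 T0_F4 T8_F4 (f4AltList hm b k) (f4AltList_pos hm b k hk)).2.2
  rw [f4AltList_word, f4AltList_card] at this
  exact this

include hm in
/-- The order of the twisted group in terms of the order of the field. -/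
theorem f4_card_twisted_aux :
    Nat.card ↥(twistedF4 K (2 ^ m)) =
      Nat.card ↥(chevF4.posUnipotent K ⊓ twistedF4 K (2 ^ m)) *
        Nat.card ↥(chevF4.diagonalSubgroup K ⊓ twistedF4 K (2 ^ m)) *
        (1 + Nat.card K + Nat.card K ^ 2 + 2 * Nat.card K ^ 3 + Nat.card K ^ 4 + Nat.card K ^ 5 +
          2 * Nat.card K ^ 6 + Nat.card K ^ 7 + Nat.card K ^ 8 + 2 * Nat.card K ^ 9 + Nat.card K ^ 10 +
          Nat.card K ^ 11 + Nat.card K ^ 12) := by
  have hU : chevF4.posUnipotent K ⊓ fixSub (f4Tau hm) ≤ twistedF4 K (2 ^ m) := by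
    rw [← (f4_posUnipotent_inf hm).1]
    exact inf_le_right
  rw [card_fix good3_F4.toGood2 T0_F4 good3_F4.t3 good3_F4.t4 T5_F4 T6_F4 T8_F4 T9_F4 (f4Tau_rootAut hm)
    (twistedF4_le_fixSub hm) hU (f4_fWList hm)]
  congr 1
  unfold f4Wl
  rw [List.map_append, List.sum_append, List.map_map, List.map_map]
  have e1 : ∀ k ∈ List.range 9, ((fun w => Nat.card ↥(fM good3_F4.toGood2 (fixSub (f4Tau hm)) w)) ∘
      f4AltWord false) k = ((List.range k).map fun j => if (j % 2 = 0) = !false then Nat.card K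
        else Nat.card K * Nat.card K).prod := by
    intro k hk
    rw [List.mem_range] at hk
    exact f4_card_fM hm false k (by omega)
  have e2 : ∀ k ∈ List.range' 1 7, ((fun w => Nat.card ↥(fM good3_F4.toGood2 (fixSub (f4Tau hm)) w)) ∘
      f4AltWord true) k = ((List.range k).map fun j => if (j % 2 = 0) = !true then Nat.card K
        else Nat.card K * Nat.card K).prod := by
    intro k hk
    rw [List.mem_range'_1] at hk
    exact f4_card_fM hm true k (by omega)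
  rw [List.map_congr_left e1, List.map_congr_left e2]
  simp [List.range_succ, List.range']
  ring

end tw

section finite

variable {K : Type*} [Field K] [Fintype K] [CharP K 2] {m : ℕ}

theorem f4_order_identity (q : ℕ) (hq : 1 ≤ q) :
    q ^ 12 * (q - 1) ^ 2 * (1 + q + q ^ 2 + 2 * q ^ 3 + q ^ 4 + q ^ 5 + 2 * q ^ 6 + q ^ 7 + q ^ 8 +
      2 * q ^ 9 + q ^ 10 + q ^ 11 + q ^ 12) =
      q ^ 12 * (q - 1) * (q ^ 3 + 1) * (q ^ 4 - 1) * (q ^ 6 + 1) := by
  obtain ⟨p, rfl⟩ : ∃ p, q = p + 1 := ⟨q - 1, by omega⟩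
  have e1 : p + 1 - 1 = p := Nat.add_sub_cancel p 1
  have e2 : (p + 1) ^ 4 - 1 = p * (p + 2) * ((p + 1) ^ 2 + 1) := by
    have : (p + 1) ^ 4 = p * (p + 2) * ((p + 1) ^ 2 + 1) + 1 := by ring
    rw [this, Nat.add_sub_cancel]
  rw [e1, e2]
  ring

theorem f4_card_twisted (hK : Fintype.card K = 2 ^ (2 * m + 1)) :
    Nat.card ↥(twistedF4 K (2 ^ m)) =
      (2 ^ (2 * m + 1)) ^ 12 * (2 ^ (2 * m + 1) - 1) * ((2 ^ (2 * m + 1)) ^ 3 + 1) *
        ((2 ^ (2 * m + 1)) ^ 4 - 1) * ((2 ^ (2 * m + 1)) ^ 6 + 1) := by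
  rw [f4_card_twisted_aux (pow_card_two hK), f4_card_U hK, f4_card_H hK, Nat.card_eq_fintype_card, hK]
  exact f4_order_identity _ Nat.one_le_two_pow

end finite

/-- The statement of S1068. -/
theorem f4_S1068 {K : Type*} [Field K] [Fintype K] {m : ℕ} (hK : Fintype.card K = 2 ^ (2 * m + 1)) :
    Nat.card ↥(twistedF4 K (2 ^ m)) =
      (2 ^ (2 * m + 1)) ^ 12 * (2 ^ (2 * m + 1) - 1) * ((2 ^ (2 * m + 1)) ^ 3 + 1) *
        ((2 ^ (2 * m + 1)) ^ 4 - 1) * ((2 ^ (2 * m + 1)) ^ 6 + 1) := by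
  haveI := charP_two_of_card (by omega) hK
  exact f4_card_twisted hK

end Cfsg.Agent.Helper7.Chev
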