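import Mathlib
import Cfsg.Agent.Helper7.ChevTwF3

set_option autoImplicit false
set_option linter.unusedSectionVars false
set_option linter.unusedVariables false

/-!
The `(B, N)`-pair of a subgroup `G¹` of the fixed points of an automorphism permuting the root subgroups, which
contains the fixed points of `U`: the facts at the level of the ambient group.
-/

namespace Cfsg.Agent.Helper7.Chev

open Cfsg Cfsg.Lie Matrix

variable {D : ChevalleyDatum} {K : Type*} [Field K]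

theorem upGenS_eq_rootGen (P : ℕ → Prop) :
    upGenS D K P = rootGen D K (fun s => D.IsPosRoot s ∧ ¬ P s) := by
  ext g
  constructor
  · rintro ⟨s, t, hs, hns, hg⟩
    exact ⟨s, t, ⟨hs, hns⟩, hg⟩
  · rintro ⟨s, t, ⟨hs, hns⟩, hg⟩
    exact ⟨s, t, hs, hns, hg⟩

/-- The hypotheses on the classes and the words for the `(B, N)`-pair. -/
structure FBNData (hG : Good2 D) {Fx G1 : Subgroup (GL D.Idx K)} (Wl : List (List ℕ))
    (cls : List (FCls hG K Fx G1)) : Prop where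
  sq : ∀ c ∈ cls, (nWordGL hG c.word * nWordGL hG c.word : GL D.Idx K) ∈ D.diagonalSubgroup K
  inj : ∀ c ∈ cls, ∀ c' ∈ cls,
    ((nWordGL hG c.word)⁻¹ * nWordGL hG c'.word : GL D.Idx K) ∈ D.diagonalSubgroup K → c.word = c'.word
  gen : ∀ w ∈ Wl, (nWordGL hG w : GL D.Idx K) ∈
    Subgroup.closure {n : GL D.Idx K | ∃ c ∈ cls, n = nWordGL hG c.word}
  unorm : ∀ c ∈ cls, D.posUnipotent K ≤
    Subgroup.normalizer (Subgroup.closure (upGenS D K c.P) : Set (GL D.Idx K))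
  rank1 : ∀ c ∈ cls, ∀ w ∈ Wl,
    (∀ r < D.nroots, D.nroots / 2 ≤ r → ¬ c.P r → D.nroots / 2 ≤ (tabOf D).reflWord w r) →
      w = [] ∨ ∀ r < D.nroots, (tabOf D).reflWord w r = (tabOf D).reflWord c.word r
  dich : ∀ c ∈ cls, ∀ w ∈ Wl, (∀ r, c.P r → D.nroots / 2 ≤ (tabOf D).reflWord w.reverse r) ∨
    (∀ r, c.P r → (tabOf D).reflWord w.reverse r < D.nroots / 2)
  ne : ∀ c ∈ cls, ∃ x ∈ c.X, x ≠ 1

section main

variable (hG : Good2 D) (hT : T0 D) (h3 : (tabOf D).T3) (h4 : (tabOf D).T4 60) (h5 : (tabOf D).T5)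
  (h6 : (tabOf D).T6) (h8 : (tabOf D).T8) (h9 : (tabOf D).T9)
  {τ : ↥(D.group K) ≃* ↥(D.group K)} {ρ : ℕ → ℕ} {f : ℕ → K →+* K}
  (hτ : RootAut D K τ ρ f) {G1 : Subgroup (GL D.Idx K)}
  (hle : G1 ≤ fixSub τ) (hU : D.posUnipotent K ⊓ fixSub τ ≤ G1)
  {Wl : List (List ℕ)} (hW : FWList hG (fixSub τ) G1 Wl)
  {cls : List (FCls hG K (fixSub τ) G1)} (hD : FBNData hG Wl cls)

include hG hT h3 h4 h5 h6 h8 h9 hτ hle hU in
/-- `B¹ = U¹ H¹`. -/
theorem borel_fix_decomp {b : GL D.Idx K} (hb : b ∈ D.borelSubgroup K ⊓ G1) :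
    ∃ u ∈ D.posUnipotent K ⊓ G1, ∃ h ∈ D.diagonalSubgroup K ⊓ G1, b = u * h := by
  obtain ⟨hbB, hbG⟩ := hb
  obtain ⟨u, hu, h, hh, rfl⟩ := borel_decomp hG hbB
  have hHN : D.diagonalSubgroup K ≤ D.monomialSubgroup K := le_sup_left
  have e : u * h = u * h * 1 := (mul_one _).symm
  obtain ⟨f1, _, _⟩ := hτ.bruhat_fixed hG hT h3 h4 h5 h6 h8 h9 hu (hHN hh) (one_mem _) e (hle hbG).2
  have huG : u ∈ G1 := hU ⟨hu, posUnipotent_le_group hu, f1⟩
  refine ⟨u, Subgroup.mem_inf.mpr ⟨hu, huG⟩, h, Subgroup.mem_inf.mpr ⟨hh, ?_⟩, rfl⟩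
  have : h = u⁻¹ * (u * h) := by group
  rw [this]
  exact mul_mem (inv_mem huG) hbG

theorem pos_fix_le_borel_fix : D.posUnipotent K ⊓ G1 ≤ D.borelSubgroup K ⊓ G1 :=
  inf_le_inf_right _ le_sup_left

theorem diag_fix_le_borel_fix : D.diagonalSubgroup K ⊓ G1 ≤ D.borelSubgroup K ⊓ G1 :=
  inf_le_inf_right _ le_sup_right

include hG in
theorem mono_conj_diag_fix {n h : GL D.Idx K} (hn : n ∈ D.monomialSubgroup K ⊓ G1)
    (hh : h ∈ D.diagonalSubgroup K ⊓ G1) : n * h * n⁻¹ ∈ D.diagonalSubgroup K ⊓ G1 :=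
  Subgroup.mem_inf.mpr ⟨conj_mem_diagonal (monomialSubgroup_le_normalizer hG hn.1) hh.1,
    mul_mem (mul_mem hn.2 hh.2) (inv_mem hn.2)⟩

include hG in
theorem mono_conj_diag_fix' {n h : GL D.Idx K} (hn : n ∈ D.monomialSubgroup K ⊓ G1)
    (hh : h ∈ D.diagonalSubgroup K ⊓ G1) : n⁻¹ * h * n ∈ D.diagonalSubgroup K ⊓ G1 :=
  Subgroup.mem_inf.mpr ⟨conj_mem_diagonal' (monomialSubgroup_le_normalizer hG hn.1) hh.1,
    mul_mem (mul_mem (inv_mem hn.2) hh.2) hn.2⟩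

variable (c : FCls hG K (fixSub τ) G1)

theorem FCls.n_mono_fix : (nWordGL hG c.word : GL D.Idx K) ∈ D.monomialSubgroup K ⊓ G1 :=
  Subgroup.mem_inf.mpr ⟨nWordGL_mem hG _, c.n_G1⟩

include hG hT h3 h4 h5 h6 h8 h9 hτ hle hU in
/-- The first case of the double coset condition: `n⁻¹ X_P n ⊆ U`. -/
theorem FCls.mul_mem_first {n : GL D.Idx K} (hn : n ∈ D.monomialSubgroup K ⊓ G1)
    (hpos : ∀ x ∈ Subgroup.closure (rootGen D K c.P), n⁻¹ * x * n ∈ D.posUnipotent K)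
    {b : GL D.Idx K} (hb : b ∈ D.borelSubgroup K ⊓ G1) :
    ∃ b₁ ∈ D.borelSubgroup K ⊓ G1, ∃ b₂ ∈ D.borelSubgroup K ⊓ G1,
      nWordGL hG c.word * b * n = b₁ * (nWordGL hG c.word * n) * b₂ := by
  obtain ⟨u, hu, h, hh, rfl⟩ := borel_fix_decomp hG hT h3 h4 h5 h6 h8 h9 hτ hle hU hb
  obtain ⟨u', hu', x, hx, rfl⟩ := c.decomp u ⟨hu.1, hle hu.2⟩
  set s : GL D.Idx K := nWordGL hG c.word with hs
  have hsG : s ∈ G1 := c.n_G1
  have hxG : x ∈ G1 := c.X_G1 hx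
  have hu'G : u' ∈ G1 := by
    have : u' = u' * x * x⁻¹ := by group
    rw [this]
    exact mul_mem hu.2 (inv_mem hxG)
  have h1 : s * u' * s⁻¹ ∈ D.posUnipotent K ⊓ G1 := by
    refine Subgroup.mem_inf.mpr
      ⟨upS_le_pos c.P ((Subgroup.mem_set_normalizer_iff.mp c.n_norm u').mp hu'), ?_⟩
    exact mul_mem (mul_mem hsG hu'G) (inv_mem hsG)
  have h2 : n⁻¹ * x * n ∈ D.posUnipotent K ⊓ G1 :=
    Subgroup.mem_inf.mpr ⟨hpos x (c.X_le hx), mul_mem (mul_mem (inv_mem hn.2) hxG) hn.2⟩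
  have h3' : n⁻¹ * h * n ∈ D.diagonalSubgroup K ⊓ G1 := mono_conj_diag_fix' hG hn hh
  refine ⟨s * u' * s⁻¹, pos_fix_le_borel_fix h1, (n⁻¹ * x * n) * (n⁻¹ * h * n),
    mul_mem (pos_fix_le_borel_fix h2) (diag_fix_le_borel_fix h3'), by group⟩

include hG hT h8 in
/-- The condition of the first case in terms of the word. -/
theorem FCls.pos_of_word {w : List ℕ} (hw : ∀ i ∈ w, i < D.rank)
    (hpos : ∀ r, c.P r → D.nroots / 2 ≤ (tabOf D).reflWord w.reverse r)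
    {h : GL D.Idx K} (hh : h ∈ D.diagonalSubgroup K) :
    ∀ x ∈ Subgroup.closure (rootGen D K c.P),
      (h * nWordGL hG w)⁻¹ * x * (h * nWordGL hG w) ∈ D.posUnipotent K := by
  have hG1 := hG.toGood1
  have key := conj_closure_le (S := rootGen D K c.P)
    (S' := rootGen D K D.IsPosRoot) (h * nWordGL hG w : GL D.Idx K)⁻¹ ?_
  · intro x hx
    have := key x hx
    rwa [inv_inv] at this
  · rintro x ⟨r, t, hr, hx⟩
    rw [inv_inv]
    have hrl := (c.P_pos r hr).1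
    rw [eq_xGL hG1 hrl hx]
    obtain ⟨hs, t', e, _⟩ := nW_inv_conj (K := K) hG hT h8 hh hw hrl t
    rw [e]
    exact Subgroup.subset_closure ⟨_, t', (isPosRoot_iff hT hs).mpr (hpos r hr), xGL_coe hG1 hs t'⟩

include hG hT in
/-- `n_P X_P n_P⁻¹` lies in the subgroup generated by the root subgroups of the negatives of the roots of `P`. -/
theorem FCls.conj_XP_le :
    ∀ x ∈ Subgroup.closure (rootGen D K c.P), nWordGL hG c.word * x * (nWordGL hG c.word)⁻¹ ∈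
      Subgroup.closure (rootGen D K (fun r => ∃ r', c.P r' ∧ r = D.neg r')) := by
  have hG1 := hG.toGood1
  apply conj_closure_le
  rintro x ⟨r, t, hr, hx⟩
  have hrl := (c.P_pos r hr).1
  rw [eq_xGL hG1 hrl hx, nWordGL_conj hG c.word_lt hrl]
  obtain ⟨r', hr', e⟩ := c.P_word r hr
  exact Subgroup.subset_closure ⟨_, _, ⟨r', hr', e⟩, xGL_coe hG1 _ _⟩

include hG hT in
theorem FCls.negP_le_neg :
    Subgroup.closure (rootGen D K (fun r => ∃ r', c.P r' ∧ r = D.neg r')) ≤ D.negUnipotent K := by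
  apply Subgroup.closure_mono
  rintro x ⟨r, t, ⟨r', hr', rfl⟩, hx⟩
  have hr'l := (c.P_pos r' hr').1
  refine ⟨_, t, ?_, hx⟩
  exact (isNegRoot_iff hT (hG.toGood1.neg_lt hr'l)).mpr
    (Cfsg.Agent.Helper7.Chev.neg_neg_of_pos hG hT hr'l ((isPosRoot_iff hT hr'l).mp (c.P_pos r' hr')))

include hG hT h8 in
/-- The condition of the first case for `n_P⁻¹ n` in terms of the word of `n`, in the second case. -/
theorem FCls.pos_of_word_neg {w : List ℕ} (hw : ∀ i ∈ w, i < D.rank)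
    (hneg : ∀ r, c.P r → (tabOf D).reflWord w.reverse r < D.nroots / 2)
    {h : GL D.Idx K} (hh : h ∈ D.diagonalSubgroup K) :
    ∀ x ∈ Subgroup.closure (rootGen D K c.P),
      ((nWordGL hG c.word)⁻¹ * (h * nWordGL hG w))⁻¹ * x * ((nWordGL hG c.word)⁻¹ * (h * nWordGL hG w)) ∈
        D.posUnipotent K := by
  have hG1 := hG.toGood1
  intro x hx
  have h1 := c.conj_XP_le hG hT x hx
  have key := conj_closure_le (S := rootGen D K (fun r => ∃ r', c.P r' ∧ r = D.neg r'))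
    (S' := rootGen D K D.IsPosRoot) (h * nWordGL hG w : GL D.Idx K)⁻¹ ?_
  · have := key _ h1
    rw [inv_inv] at this
    have e : ((nWordGL hG c.word)⁻¹ * (h * nWordGL hG w))⁻¹ * x *
        ((nWordGL hG c.word)⁻¹ * (h * nWordGL hG w)) =
        (h * nWordGL hG w)⁻¹ * (nWordGL hG c.word * x * (nWordGL hG c.word)⁻¹) * (h * nWordGL hG w) := by
      group
    rw [e]
    exact this
  · rintro y ⟨r, t, ⟨r', hr', rfl⟩, hy⟩
    rw [inv_inv]
    have hr'l := (c.P_pos r' hr').1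
    have hrl := hG1.neg_lt hr'l
    rw [eq_xGL hG1 hrl hy]
    obtain ⟨hs, t', e, _⟩ := nW_inv_conj (K := K) hG hT h8 hh hw hrl t
    rw [e]
    refine Subgroup.subset_closure ⟨_, t', (isPosRoot_iff hT hs).mpr ?_, xGL_coe hG1 hs t'⟩
    have hwr : ∀ i ∈ w.reverse, i < D.rank := fun i hi => hw i (List.mem_reverse.mp hi)
    rw [reflWord_neg hG hwr hr'l]
    exact neg_pos_of_neg hG hT (reflWord_lt hG hwr hr'l) (hneg r' hr')

include hG hT h3 h4 h5 h6 h8 h9 hτ hle hU hW hD in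
/-- The rank one step: a non-trivial fixed point of `n_P X_P n_P⁻¹` lies in `U¹ H¹ n_P U¹`. -/
theorem FCls.rank_one (hc : c ∈ cls) {x : GL D.Idx K} (hx : x ∈ c.X) (hx1 : x ≠ 1) :
    ∃ u ∈ D.posUnipotent K ⊓ G1, ∃ h ∈ D.diagonalSubgroup K ⊓ G1, ∃ u' ∈ D.posUnipotent K ⊓ G1,
      nWordGL hG c.word * x * (nWordGL hG c.word)⁻¹ = u * h * nWordGL hG c.word * u' := by
  have hG1 := hG.toGood1
  set s : GL D.Idx K := nWordGL hG c.word with hs
  have hsG : s ∈ G1 := c.n_G1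
  have hxG : x ∈ G1 := c.X_G1 hx
  set g : GL D.Idx K := s * x * s⁻¹ with hg
  have hgG : g ∈ G1 := mul_mem (mul_mem hsG hxG) (inv_mem hsG)
  have hgV : g ∈ D.negUnipotent K := c.negP_le_neg hG hT (c.conj_XP_le hG hT x (c.X_le hx))
  have hg1 : g ≠ 1 := by
    intro h1
    apply hx1
    have : x = s⁻¹ * g * s := by rw [hg]; group
    rw [this, h1]
    group
  obtain ⟨u, hu, n, hn, u', hu', e⟩ := exists_bruhat_fix hG hT h3 h4 h5 h6 h8 h9 hτ hle hU hgG
  have hu'U : u' ∈ D.posUnipotent K := minusGen'_le_pos n hu'.1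
  -- `n` normalises `U_P`
  have hUn := hD.unorm c hc
  have hxn : x ∈ Subgroup.normalizer (Subgroup.closure (upGenS D K c.P) : Set (GL D.Idx K)) :=
    hUn (c.XP_le_pos hG (c.X_le hx))
  have hgn : g ∈ Subgroup.normalizer (Subgroup.closure (upGenS D K c.P) : Set (GL D.Idx K)) :=
    mul_mem (mul_mem c.n_norm hxn) (inv_mem c.n_norm)
  have hnn : n ∈ Subgroup.normalizer (Subgroup.closure (upGenS D K c.P) : Set (GL D.Idx K)) := by
    have : n = u⁻¹ * g * u'⁻¹ := by rw [e]; group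
    rw [this]
    exact mul_mem (mul_mem (inv_mem (hUn hu.1)) hgn) (inv_mem (hUn hu'U))
  obtain ⟨w, hw, h, hh, rfl⟩ := hW.rep n hn
  have hwl := hW.lt w hw
  have hHn : D.diagonalSubgroup K ≤
      Subgroup.normalizer (Subgroup.closure (upGenS D K c.P) : Set (GL D.Idx K)) := by
    rw [upGenS_eq_rootGen]
    exact diagonalSubgroup_le_normalizer hG (fun r hr => hr.1.1)
  have hwn : (nWordGL hG w : GL D.Idx K) ∈
      Subgroup.normalizer (Subgroup.closure (upGenS D K c.P) : Set (GL D.Idx K)) := by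
    have : (nWordGL hG w : GL D.Idx K) = h⁻¹ * (h * nWordGL hG w) := by group
    rw [this]
    exact mul_mem (inv_mem (hHn hh.1)) hnn
  have hroots : ∀ r < D.nroots, D.nroots / 2 ≤ r → ¬ c.P r → D.nroots / 2 ≤ (tabOf D).reflWord w r := by
    intro r hr hrpos hrP
    by_contra hneg
    have hxr : xGL hG1 hr (1 : K) ∈ Subgroup.closure (upGenS D K c.P) :=
      Subgroup.subset_closure ⟨r, 1, (isPosRoot_iff hT hr).mpr hrpos, hrP, xGL_coe hG1 hr 1⟩
    have hconj := (Subgroup.mem_set_normalizer_iff.mp hwn _).mp hxr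
    rw [nWordGL_conj hG hwl hr] at hconj
    have hrl := reflWord_lt hG hwl hr
    have hV : xGL hG1 hrl ((((tabOf D).etaWord w r : ℤ) : K) * 1) ∈ D.negUnipotent K :=
      Subgroup.subset_closure ⟨_, _, (isNegRoot_iff hT hrl).mpr (by omega), xGL_coe hG1 hrl _⟩
    have hB : xGL hG1 hrl ((((tabOf D).etaWord w r : ℤ) : K) * 1) ∈ D.borelSubgroup K :=
      Subgroup.mem_sup_left (upS_le_pos c.P hconj)
    have hmem : xGL hG1 hrl ((((tabOf D).etaWord w r : ℤ) : K) * 1) ∈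
        D.borelSubgroup K ⊓ D.negUnipotent K := Subgroup.mem_inf.mpr ⟨hB, hV⟩
    rw [borel_inf_negUnipotent hG hT, Subgroup.mem_bot] at hmem
    refine xGL_ne_one hG hT h8 hrl ?_ hmem
    rw [mul_one]
    exact etaWord_cast_ne_zero hG hwl hr
  rcases hD.rank1 c hc w hw hroots with rfl | hact
  · exfalso
    apply hg1
    rw [nWordGL_nil, mul_one] at e
    have hB : g ∈ D.borelSubgroup K := by
      rw [e]
      exact mul_mem (mul_mem (Subgroup.mem_sup_left hu.1) (Subgroup.mem_sup_right hh.1))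
        (Subgroup.mem_sup_left hu'U)
    have hmem : g ∈ D.borelSubgroup K ⊓ D.negUnipotent K := Subgroup.mem_inf.mpr ⟨hB, hgV⟩
    rw [borel_inf_negUnipotent hG hT, Subgroup.mem_bot] at hmem
    exact hmem
  · obtain ⟨h₂, hh₂, e₂⟩ := nWordGL_eq_of_reflWord_eq (F := K) hG hT h6 h8 hwl c.word_lt hact
    have hh₂G : h₂ ∈ G1 := by
      have : h₂ = nWordGL hG w * s⁻¹ := by rw [e₂, ← hs]; group
      rw [this]
      exact mul_mem (hW.mem w hw) (inv_mem hsG)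
    refine ⟨u, hu, h * h₂, Subgroup.mem_inf.mpr ⟨mul_mem hh.1 hh₂, mul_mem hh.2 hh₂G⟩, u',
      Subgroup.mem_inf.mpr ⟨hu'U, hu'.2⟩, ?_⟩
    rw [e, e₂, ← hs]
    group

end main

end Cfsg.Agent.Helper7.Chev
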