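import Mathlib
import Cfsg.Agent.Helper7.ChevTwF4
import Cfsg.Agent.Helper7.ChevTw9

set_option autoImplicit false
set_option linter.unusedSectionVars false
set_option linter.unusedVariables false

/-!
The `(B, N)`-pair of a subgroup `G¹` of the fixed points of an automorphism permuting the root subgroups, which
contains the fixed points of `U`.
-/

namespace Cfsg.Agent.Helper7.Chev

open Cfsg Cfsg.Lie Matrix DoubleCoset
open scoped Pointwise

variable {D : ChevalleyDatum} {K : Type*} [Field K]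

section main

variable (hG : Good2 D) (hT : T0 D) (h3 : (tabOf D).T3) (h4 : (tabOf D).T4 60) (h5 : (tabOf D).T5)
  (h6 : (tabOf D).T6) (h8 : (tabOf D).T8) (h9 : (tabOf D).T9)
  {τ : ↥(D.group K) ≃* ↥(D.group K)} {ρ : ℕ → ℕ} {f : ℕ → K →+* K}
  (hτ : RootAut D K τ ρ f) {G1 : Subgroup (GL D.Idx K)}
  (hle : G1 ≤ fixSub τ) (hU : D.posUnipotent K ⊓ fixSub τ ≤ G1)
  {Wl : List (List ℕ)} (hW : FWList hG (fixSub τ) G1 Wl)
  {cls : List (FCls hG K (fixSub τ) G1)} (hD : FBNData hG Wl cls)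
  (c : FCls hG K (fixSub τ) G1)

include hD in
theorem FCls.sq_mem_fix (hc : c ∈ cls) :
    (nWordGL hG c.word * nWordGL hG c.word : GL D.Idx K) ∈ D.diagonalSubgroup K ⊓ G1 :=
  Subgroup.mem_inf.mpr ⟨hD.sq c hc, mul_mem c.n_G1 c.n_G1⟩

include hG hT h3 h4 h5 h6 h8 h9 hτ hle hU hW hD in
/-- `n_P B¹ n_P ⊆ B¹ ∪ B¹ n_P B¹`. -/
theorem FCls.conj_borel (hc : c ∈ cls) {b : GL D.Idx K} (hb : b ∈ D.borelSubgroup K ⊓ G1) :
    nWordGL hG c.word * b * nWordGL hG c.word ∈ D.borelSubgroup K ⊓ G1 ∨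
      ∃ b₁ ∈ D.borelSubgroup K ⊓ G1, ∃ b₂ ∈ D.borelSubgroup K ⊓ G1,
        nWordGL hG c.word * b * nWordGL hG c.word = b₁ * nWordGL hG c.word * b₂ := by
  obtain ⟨u, hu, h, hh, rfl⟩ := borel_fix_decomp hG hT h3 h4 h5 h6 h8 h9 hτ hle hU hb
  obtain ⟨u', hu', x, hx, rfl⟩ := c.decomp u ⟨hu.1, hle hu.2⟩
  obtain ⟨s, hs⟩ : ∃ s : GL D.Idx K, s = nWordGL hG c.word := ⟨_, rfl⟩
  rw [← hs]
  have hsG : s ∈ G1 := by rw [hs]; exact c.n_G1
  have hsN : s ∈ D.monomialSubgroup K ⊓ G1 := by rw [hs]; exact c.n_mono_fix hG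
  have hxG : x ∈ G1 := c.X_G1 hx
  have hu'G : u' ∈ G1 := by
    have : u' = u' * x * x⁻¹ := by group
    rw [this]
    exact mul_mem hu.2 (inv_mem hxG)
  have h1 : s * u' * s⁻¹ ∈ D.borelSubgroup K ⊓ G1 := by
    apply pos_fix_le_borel_fix
    refine Subgroup.mem_inf.mpr ⟨?_, mul_mem (mul_mem hsG hu'G) (inv_mem hsG)⟩
    rw [hs]
    exact upS_le_pos c.P ((Subgroup.mem_set_normalizer_iff.mp c.n_norm u').mp hu')
  have h2 : s * h * s⁻¹ ∈ D.borelSubgroup K ⊓ G1 :=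
    diag_fix_le_borel_fix (mono_conj_diag_fix hG hsN hh)
  have h3' : s * s ∈ D.borelSubgroup K ⊓ G1 := by
    rw [hs]
    exact diag_fix_le_borel_fix (c.sq_mem_fix hG hD hc)
  by_cases hx1 : x = 1
  · left
    subst hx1
    have e : s * (u' * 1 * h) * s = (s * u' * s⁻¹) * (s * h * s⁻¹) * (s * s) := by group
    rw [e]
    exact mul_mem (mul_mem h1 h2) h3'
  · right
    obtain ⟨u₁, hu₁, h₁, hh₁, u₂, hu₂, e⟩ :=
      c.rank_one hG hT h3 h4 h5 h6 h8 h9 hτ hle hU hW hD hc hx hx1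
    rw [← hs] at e
    refine ⟨(s * u' * s⁻¹) * u₁ * h₁, mul_mem (mul_mem h1 (pos_fix_le_borel_fix hu₁))
      (diag_fix_le_borel_fix hh₁), u₂ * (s * h * s⁻¹) * (s * s),
      mul_mem (mul_mem (pos_fix_le_borel_fix hu₂) h2) h3', ?_⟩
    calc s * (u' * x * h) * s = (s * u' * s⁻¹) * (s * x * s⁻¹) * (s * h * s⁻¹) * (s * s) := by group
      _ = (s * u' * s⁻¹) * (u₁ * h₁ * s * u₂) * (s * h * s⁻¹) * (s * s) := by rw [e]
      _ = _ := by group

include hG hT h3 h4 h5 h6 h8 h9 hτ hle hU hW hD in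
/-- The double coset condition. -/
theorem FCls.mul_mem_union_fix (hc : c ∈ cls) {n : GL D.Idx K} (hn : n ∈ D.monomialSubgroup K ⊓ G1)
    {b : GL D.Idx K} (hb : b ∈ D.borelSubgroup K ⊓ G1) :
    (∃ b₁ ∈ D.borelSubgroup K ⊓ G1, ∃ b₂ ∈ D.borelSubgroup K ⊓ G1,
        nWordGL hG c.word * b * n = b₁ * (nWordGL hG c.word * n) * b₂) ∨
      (∃ b₁ ∈ D.borelSubgroup K ⊓ G1, ∃ b₂ ∈ D.borelSubgroup K ⊓ G1,
        nWordGL hG c.word * b * n = b₁ * n * b₂) := by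
  obtain ⟨w, hw, h, hh, e⟩ := hW.rep n hn
  have hwl := hW.lt w hw
  rcases hD.dich c hc w hw with hpos | hneg
  · left
    have hp := c.pos_of_word hG hT h8 hwl hpos hh.1
    rw [← e] at hp
    exact c.mul_mem_first hG hT h3 h4 h5 h6 h8 h9 hτ hle hU hn hp hb
  · obtain ⟨s, hs⟩ : ∃ s : GL D.Idx K, s = nWordGL hG c.word := ⟨_, rfl⟩
    have hsN : s ∈ D.monomialSubgroup K ⊓ G1 := by rw [hs]; exact c.n_mono_fix hG
    have hn' : s⁻¹ * n ∈ D.monomialSubgroup K ⊓ G1 := mul_mem (inv_mem hsN) hn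
    have hp := c.pos_of_word_neg hG hT h8 hwl hneg hh.1
    rw [← e, ← hs] at hp
    have hsq : s * s ∈ D.borelSubgroup K ⊓ G1 := by
      rw [hs]
      exact diag_fix_le_borel_fix (c.sq_mem_fix hG hD hc)
    rw [← hs]
    rcases c.conj_borel hG hT h3 h4 h5 h6 h8 h9 hτ hle hU hW hD hc hb with hB | ⟨b₁, hb₁, b₂, hb₂, e₂⟩
    · left
      rw [← hs] at hB
      refine ⟨(s * b * s) * (s * s)⁻¹, mul_mem hB (inv_mem hsq), 1, one_mem _, by group⟩
    · right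
      rw [← hs] at e₂
      have hfirst := c.mul_mem_first hG hT h3 h4 h5 h6 h8 h9 hτ hle hU hn' hp hb₂
      rw [← hs] at hfirst
      obtain ⟨b₃, hb₃, b₄, hb₄, e₃⟩ := hfirst
      refine ⟨b₁ * b₃, mul_mem hb₁ hb₃, b₄, hb₄, ?_⟩
      calc s * b * n = (s * b * s) * (s⁻¹ * n) := by group
        _ = (b₁ * s * b₂) * (s⁻¹ * n) := by rw [e₂]
        _ = b₁ * (s * b₂ * (s⁻¹ * n)) := by group
        _ = b₁ * (b₃ * (s * (s⁻¹ * n)) * b₄) := by rw [e₃]
        _ = _ := by group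

include hG hT hD in
/-- `n_P B¹ n_P ≠ B¹`. -/
theorem FCls.conj_ne_fix (hc : c ∈ cls) :
    ∃ x ∈ D.borelSubgroup K ⊓ G1, nWordGL hG c.word * x * nWordGL hG c.word ∉ D.borelSubgroup K := by
  obtain ⟨x, hx, hx1⟩ := hD.ne c hc
  refine ⟨x, pos_fix_le_borel_fix (Subgroup.mem_inf.mpr ⟨c.XP_le_pos hG (c.X_le hx), c.X_G1 hx⟩), ?_⟩
  intro hB
  apply hx1
  obtain ⟨s, hs⟩ : ∃ s : GL D.Idx K, s = nWordGL hG c.word := ⟨_, rfl⟩
  have hsq : s * s ∈ D.borelSubgroup K := by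
    rw [hs]
    exact Subgroup.mem_sup_right (hD.sq c hc)
  have hV : s * x * s⁻¹ ∈ D.negUnipotent K := by
    rw [hs]
    exact c.negP_le_neg hG hT (c.conj_XP_le hG hT x (c.X_le hx))
  have hB' : s * x * s⁻¹ ∈ D.borelSubgroup K := by
    have : s * x * s⁻¹ = (s * x * s) * (s * s)⁻¹ := by group
    rw [this, hs]
    rw [hs] at hsq
    exact mul_mem hB (inv_mem hsq)
  have hmem : s * x * s⁻¹ ∈ D.borelSubgroup K ⊓ D.negUnipotent K := Subgroup.mem_inf.mpr ⟨hB', hV⟩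
  rw [borel_inf_negUnipotent hG hT, Subgroup.mem_bot] at hmem
  have : x = s⁻¹ * (s * x * s⁻¹) * s := by group
  rw [this, hmem]
  group

include hG hT h3 h4 h5 h6 h8 h9 hτ hle hU hW hD in
/-- The `(B, N)`-pair of `G¹`. -/
theorem exists_bnPair_fix :
    ∃ P : Cfsg.BNPair ↥G1,
      P.B = (D.borelSubgroup K ⊓ G1).subgroupOf G1 ∧
      P.N = (D.monomialSubgroup K ⊓ G1).subgroupOf G1 ∧
      P.S = {n : ↥G1 | ∃ c ∈ cls, (n : GL D.Idx K) = nWordGL hG c.word} := by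
  have hG1 := hG.toGood1
  have hHB : D.diagonalSubgroup K ≤ D.borelSubgroup K := le_sup_right
  have hBNH := borel_inf_monomial (F := K) hG hT h6 h8 h9
  have hBG : D.borelSubgroup K ⊓ G1 ≤ G1 := inf_le_right
  have hNG : D.monomialSubgroup K ⊓ G1 ≤ G1 := inf_le_right
  have memB : ∀ x : ↥G1, x ∈ (D.borelSubgroup K ⊓ G1).subgroupOf G1 ↔
      (x : GL D.Idx K) ∈ D.borelSubgroup K := by
    intro x
    rw [Subgroup.mem_subgroupOf, Subgroup.mem_inf]
    exact ⟨fun h => h.1, fun h => ⟨h, x.2⟩⟩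
  have memN : ∀ x : ↥G1, x ∈ (D.monomialSubgroup K ⊓ G1).subgroupOf G1 ↔
      (x : GL D.Idx K) ∈ D.monomialSubgroup K := by
    intro x
    rw [Subgroup.mem_subgroupOf, Subgroup.mem_inf]
    exact ⟨fun h => h.1, fun h => ⟨h, x.2⟩⟩
  have memB1 : ∀ x : ↥G1, (x : GL D.Idx K) ∈ D.borelSubgroup K ↔
      (x : GL D.Idx K) ∈ D.borelSubgroup K ⊓ G1 := by
    intro x
    rw [Subgroup.mem_inf]
    exact ⟨fun h => ⟨h, x.2⟩, fun h => h.1⟩
  have memN1 : ∀ x : ↥G1, (x : GL D.Idx K) ∈ D.monomialSubgroup K ↔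
      (x : GL D.Idx K) ∈ D.monomialSubgroup K ⊓ G1 := by
    intro x
    rw [Subgroup.mem_inf]
    exact ⟨fun h => ⟨h, x.2⟩, fun h => h.1⟩
  refine ⟨{ B := (D.borelSubgroup K ⊓ G1).subgroupOf G1
            N := (D.monomialSubgroup K ⊓ G1).subgroupOf G1
            S := {n : ↥G1 | ∃ c ∈ cls, (n : GL D.Idx K) = nWordGL hG c.word}
            sup_eq_top := ?_
            conj_mem := ?_
            subset := ?_
            sq_mem := ?_
            inj := ?_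
            closure_sup := ?_
            mul_mem_union := ?_
            conj_ne := ?_ }, rfl, rfl, rfl⟩
  · -- `B` and `N` generate
    rw [← Subgroup.subgroupOf_sup hBG hNG]
    have : (D.borelSubgroup K ⊓ G1) ⊔ (D.monomialSubgroup K ⊓ G1) = G1 := by
      apply le_antisymm (sup_le hBG hNG)
      intro g hg
      obtain ⟨u, hu, n, hn, u', hu', rfl⟩ := exists_bruhat_fix hG hT h3 h4 h5 h6 h8 h9 hτ hle hU hg
      have hu'B : u' ∈ D.borelSubgroup K ⊓ G1 :=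
        pos_fix_le_borel_fix (Subgroup.mem_inf.mpr ⟨minusGen'_le_pos n hu'.1, hu'.2⟩)
      exact mul_mem (mul_mem (Subgroup.mem_sup_left (pos_fix_le_borel_fix hu))
        (Subgroup.mem_sup_right hn)) (Subgroup.mem_sup_left hu'B)
    rw [this, Subgroup.subgroupOf_self]
  · intro n hn t ht
    rw [memN] at hn
    rw [Subgroup.mem_inf, memB, memN] at ht
    rw [memB]
    have htH : (t : GL D.Idx K) ∈ D.diagonalSubgroup K := by
      rw [← hBNH]
      exact Subgroup.mem_inf.mpr ht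
    rw [Subgroup.coe_mul, Subgroup.coe_mul, Subgroup.coe_inv]
    exact hHB (conj_mem_diagonal (monomialSubgroup_le_normalizer hG hn) htH)
  · rintro n ⟨c, hc, hn⟩
    change n ∈ (D.monomialSubgroup K ⊓ G1).subgroupOf G1
    rw [memN, hn]
    exact nWordGL_mem hG _
  · rintro s ⟨c, hc, hs⟩
    rw [memB, Subgroup.coe_mul, hs]
    exact hHB (hD.sq c hc)
  · rintro s ⟨c, hc, hs⟩ s' ⟨c', hc', hs'⟩ hmem
    rw [memB, Subgroup.coe_mul, Subgroup.coe_inv, hs, hs'] at hmem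
    have hH : (nWordGL hG c.word : GL D.Idx K)⁻¹ * nWordGL hG c'.word ∈ D.diagonalSubgroup K := by
      rw [← hBNH]
      exact Subgroup.mem_inf.mpr ⟨hmem, mul_mem (inv_mem (nWordGL_mem hG _)) (nWordGL_mem hG _)⟩
    have := hD.inj c hc c' hc' hH
    apply Subtype.ext
    rw [hs, hs', this]
  · apply le_antisymm
    · apply sup_le
      · rw [Subgroup.closure_le]
        rintro n ⟨c, hc, hn⟩
        change n ∈ (D.monomialSubgroup K ⊓ G1).subgroupOf G1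
        rw [memN, hn]
        exact nWordGL_mem hG _
      · exact inf_le_right
    · intro n hn
      rw [memN, memN1] at hn
      obtain ⟨w, hw, h, hh, e⟩ := hW.rep _ hn
      have hgen := hD.gen w hw
      have hsub : {n : GL D.Idx K | ∃ c ∈ cls, n = nWordGL hG c.word} ⊆ (G1 : Set (GL D.Idx K)) := by
        rintro g ⟨c, _, rfl⟩
        exact c.n_G1
      obtain ⟨y', hy', hy'S⟩ := exists_lift_closure G1 _ hsub hgen
      have e' : n = ⟨h, hh.2⟩ * y' := by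
        apply Subtype.ext
        rw [Subgroup.coe_mul, hy', e]
      rw [e']
      apply mul_mem
      · apply Subgroup.mem_sup_right
        rw [Subgroup.mem_inf, memB, memN]
        exact ⟨hHB hh.1, Subgroup.mem_sup_left hh.1⟩
      · apply Subgroup.mem_sup_left
        refine (Subgroup.closure_mono ?_) hy'S
        rintro x ⟨c, hc, hx⟩
        exact ⟨c, hc, hx⟩
  · rintro s ⟨c, hc, hs⟩ n hn b hb
    rw [memN, memN1] at hn
    rw [memB, memB1] at hb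
    have key := c.mul_mem_union_fix hG hT h3 h4 h5 h6 h8 h9 hτ hle hU hW hD hc hn hb
    rw [← hs] at key
    have lift : ∀ x : GL D.Idx K, x ∈ D.borelSubgroup K ⊓ G1 →
        ∃ x' : ↥G1, (x' : GL D.Idx K) = x ∧ x' ∈ (D.borelSubgroup K ⊓ G1).subgroupOf G1 := by
      intro x hx
      refine ⟨⟨x, hx.2⟩, rfl, ?_⟩
      rw [memB]
      exact hx.1
    rcases key with ⟨b₁, hb₁, b₂, hb₂, e⟩ | ⟨b₁, hb₁, b₂, hb₂, e⟩
    · left
      obtain ⟨b₁', rfl, hb₁'⟩ := lift b₁ hb₁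
      obtain ⟨b₂', rfl, hb₂'⟩ := lift b₂ hb₂
      refine mem_doubleCoset.mpr ⟨b₁', hb₁', b₂', hb₂', ?_⟩
      apply Subtype.ext
      simpa only [Subgroup.coe_mul] using e
    · right
      obtain ⟨b₁', rfl, hb₁'⟩ := lift b₁ hb₁
      obtain ⟨b₂', rfl, hb₂'⟩ := lift b₂ hb₂
      refine mem_doubleCoset.mpr ⟨b₁', hb₁', b₂', hb₂', ?_⟩
      apply Subtype.ext
      simpa only [Subgroup.coe_mul] using e
  · rintro s ⟨c, hc, hs⟩ heq
    obtain ⟨x, hx, hxn⟩ := c.conj_ne_fix hG hT hD hc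
    have hmem : s * ⟨x, hx.2⟩ * s ∈
        (((D.borelSubgroup K ⊓ G1).subgroupOf G1 : Subgroup ↥G1) : Set ↥G1) := by
      rw [← heq]
      refine ⟨⟨x, hx.2⟩, ?_, rfl⟩
      rw [SetLike.mem_coe, memB]
      exact hx.1
    rw [SetLike.mem_coe, memB, Subgroup.coe_mul, Subgroup.coe_mul, hs] at hmem
    exact hxn hmem

end main

end Cfsg.Agent.Helper7.Chev
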