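import Mathlib
import Cfsg.Agent.Helper7.ChevF4l
import Cfsg.Agent.Helper7.ChevTwF5

set_option autoImplicit false
set_option linter.unusedSectionVars false
set_option linter.unusedVariables false

/-!
The twisted group of type `F₄`: the `(B, N)`-pair.
-/

namespace Cfsg.Agent.Helper7.Chev

open Cfsg Cfsg.Lie Matrix

set_option maxRecDepth 1000000 in
theorem f4_rank1_J1_fast : ∀ w ∈ f4Wl,
    (∀ r < 48, 24 ≤ r → ¬ (r = 24 ∨ r = 33) → 24 ≤ fastF4.reflWord w r) →
      w = [] ∨ ∀ r < 48, fastF4.reflWord w r = fastF4.reflWord [0, 3] r := by decide +kernel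

set_option maxRecDepth 1000000 in
theorem f4_rank1_J2_fast : ∀ w ∈ f4Wl,
    (∀ r < 48, 24 ≤ r → ¬ (r = 25 ∨ r = 27 ∨ r = 28 ∨ r = 30) → 24 ≤ fastF4.reflWord w r) →
      w = [] ∨ ∀ r < 48, fastF4.reflWord w r = fastF4.reflWord [2, 1, 2, 1] r := by decide +kernel

theorem f4_rank1_J1 : ∀ w ∈ f4Wl,
    (∀ r < 48, 24 ≤ r → ¬ (r = 24 ∨ r = 33) → 24 ≤ (tabOf chevF4).reflWord w r) →
      w = [] ∨ ∀ r < 48, (tabOf chevF4).reflWord w r = (tabOf chevF4).reflWord [0, 3] r :=
  tab_F4 ▸ f4_rank1_J1_fast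

theorem f4_rank1_J2 : ∀ w ∈ f4Wl,
    (∀ r < 48, 24 ≤ r → ¬ (r = 25 ∨ r = 27 ∨ r = 28 ∨ r = 30) → 24 ≤ (tabOf chevF4).reflWord w r) →
      w = [] ∨ ∀ r < 48, (tabOf chevF4).reflWord w r = (tabOf chevF4).reflWord [2, 1, 2, 1] r :=
  tab_F4 ▸ f4_rank1_J2_fast

set_option maxRecDepth 1000000 in
theorem f4_dich_J1_fast : ∀ w ∈ f4Wl, (∀ r ∈ [24, 33], 24 ≤ fastF4.reflWord w.reverse r) ∨
    (∀ r ∈ [24, 33], fastF4.reflWord w.reverse r < 24) := by decide +kernel

set_option maxRecDepth 1000000 in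
theorem f4_dich_J2_fast : ∀ w ∈ f4Wl, (∀ r ∈ [25, 27, 28, 30], 24 ≤ fastF4.reflWord w.reverse r) ∨
    (∀ r ∈ [25, 27, 28, 30], fastF4.reflWord w.reverse r < 24) := by decide +kernel

theorem f4_dich_J1 : ∀ w ∈ f4Wl, (∀ r ∈ [24, 33], 24 ≤ (tabOf chevF4).reflWord w.reverse r) ∨
    (∀ r ∈ [24, 33], (tabOf chevF4).reflWord w.reverse r < 24) := tab_F4 ▸ f4_dich_J1_fast

theorem f4_dich_J2 : ∀ w ∈ f4Wl, (∀ r ∈ [25, 27, 28, 30], 24 ≤ (tabOf chevF4).reflWord w.reverse r) ∨
    (∀ r ∈ [25, 27, 28, 30], (tabOf chevF4).reflWord w.reverse r < 24) := tab_F4 ▸ f4_dich_J2_fast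

section tw

variable {K : Type*} [Field K] [CharP K 2] {m : ℕ} (hm : ∀ t : K, t ^ 2 ^ (2 * m + 1) = t)

/-- The two classes. -/
noncomputable def f4ClsList :
    List (FCls good3_F4.toGood2 K (fixSub (f4Tau hm)) (twistedF4 K (2 ^ m))) := [f4Cls1 hm, f4Cls2 hm]

theorem f4N1_eq_word : (nWordGL good3_F4.toGood2 (f4Cls1 hm).word : GL chevF4.Idx K) = f4N1 K := rfl

theorem f4N2_eq_word : (nWordGL good3_F4.toGood2 (f4Cls2 hm).word : GL chevF4.Idx K) = f4N2 K := rfl

theorem f4N1_inv_mul_N2_not_mem : (f4N1 K)⁻¹ * f4N2 K ∉ chevF4.diagonalSubgroup K := by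
  intro h
  apply f4N12_pow4_not_mem (K := K)
  have : f4N1 K * f4N2 K = (f4N1 K * f4N1 K) * ((f4N1 K)⁻¹ * f4N2 K) := by group
  rw [this]
  exact pow_mem (mul_mem f4N1_sq_mem h) 4

theorem f4AltWord_mem_closure (b : Bool) (k : ℕ) :
    (nWordGL good3_F4.toGood2 (f4AltWord b k) : GL chevF4.Idx K) ∈
      Subgroup.closure {n : GL chevF4.Idx K | ∃ c ∈ f4ClsList hm, n = nWordGL good3_F4.toGood2 c.word} := by
  induction k with
  | zero =>
    have : f4AltWord b 0 = [] := rfl
    rw [this, nWordGL_nil]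
    exact one_mem _
  | succ k ih =>
    rw [f4AltWord_succ, nWordGL_append]
    apply mul_mem ih
    apply Subgroup.subset_closure
    split_ifs
    · exact ⟨f4Cls1 hm, by unfold f4ClsList; simp, rfl⟩
    · exact ⟨f4Cls2 hm, by unfold f4ClsList; simp, rfl⟩

theorem xP_ne_one : xP 33 24 m (1 : K) ≠ 1 := by
  intro h
  rw [xP_eq_fP, ← fP_zero] at h
  exact one_ne_zero (fP_injective h).2

theorem xS_ne_one : (quadPos K).xS m (1 : K) 0 ≠ 1 := by
  intro h
  have e : (quadPos K).xS m (0 : K) 0 = 1 := by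
    unfold B2Quad.xS
    rw [map_zero, map_zero, mul_zero, add_zero]
    exact (quadPos K).xQ_zero
  rw [← e] at h
  exact one_ne_zero (xS_injective h).1

include hm in
theorem f4_fbnData : FBNData good3_F4.toGood2 f4Wl (f4ClsList hm) where
  sq := by
    intro c hc
    unfold f4ClsList at hc
    simp only [List.mem_cons, List.not_mem_nil, or_false] at hc
    rcases hc with rfl | rfl
    · rw [f4N1_eq_word]; exact f4N1_sq_mem
    · rw [f4N2_eq_word]; exact f4N2_sq_mem
  inj := by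
    intro c hc c' hc' h
    unfold f4ClsList at hc hc'
    simp only [List.mem_cons, List.not_mem_nil, or_false] at hc hc'
    rcases hc with rfl | rfl <;> rcases hc' with rfl | rfl
    · rfl
    · rw [f4N1_eq_word, f4N2_eq_word] at h
      exact absurd h f4N1_inv_mul_N2_not_mem
    · rw [f4N1_eq_word, f4N2_eq_word] at h
      have : (f4N1 K)⁻¹ * f4N2 K = ((f4N2 K)⁻¹ * f4N1 K)⁻¹ := by group
      exact absurd (this ▸ inv_mem h) f4N1_inv_mul_N2_not_mem
    · rfl
  gen := by
    intro w hw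
    obtain ⟨b, k, _, rfl⟩ := f4Wl_cases w hw
    exact f4AltWord_mem_closure hm b k
  unorm := by
    intro c hc
    unfold f4ClsList at hc
    simp only [List.mem_cons, List.not_mem_nil, or_false] at hc
    rcases hc with rfl | rfl
    · rw [f4Cls1_P, upGenS_InJPos]
      exact posUnipotent_le_normalizer_rad good3_F4.toGood2 T0_F4 good3_F4.t3 good3_F4.t4 T14_F4 f4J1
    · rw [f4Cls2_P, upGenS_InJPos]
      exact posUnipotent_le_normalizer_rad good3_F4.toGood2 T0_F4 good3_F4.t3 good3_F4.t4 T14_F4 f4J2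
  rank1 := by
    intro c hc w hw h
    unfold f4ClsList at hc
    simp only [List.mem_cons, List.not_mem_nil, or_false] at hc
    rcases hc with rfl | rfl
    · apply f4_rank1_J1 w hw
      intro r hr hpos hn
      apply h r hr hpos
      rw [f4Cls1_P, f4_inJ1Pos_iff]
      exact hn
    · apply f4_rank1_J2 w hw
      intro r hr hpos hn
      apply h r hr hpos
      rw [f4Cls2_P, f4_inJ2Pos_iff]
      exact hn
  dich := by
    intro c hc w hw
    unfold f4ClsList at hc
    simp only [List.mem_cons, List.not_mem_nil, or_false] at hc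
    rcases hc with rfl | rfl
    · rcases f4_dich_J1 w hw with h | h
      · left
        intro r hr
        rw [f4Cls1_P, f4_inJ1Pos_iff] at hr
        apply h
        simp only [List.mem_cons, List.not_mem_nil, or_false]
        exact hr
      · right
        intro r hr
        rw [f4Cls1_P, f4_inJ1Pos_iff] at hr
        apply h
        simp only [List.mem_cons, List.not_mem_nil, or_false]
        exact hr
    · rcases f4_dich_J2 w hw with h | h
      · left
        intro r hr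
        rw [f4Cls2_P, f4_inJ2Pos_iff] at hr
        apply h
        simp only [List.mem_cons, List.not_mem_nil, or_false]
        exact hr
      · right
        intro r hr
        rw [f4Cls2_P, f4_inJ2Pos_iff] at hr
        apply h
        simp only [List.mem_cons, List.not_mem_nil, or_false]
        exact hr
  ne := by
    intro c hc
    unfold f4ClsList at hc
    simp only [List.mem_cons, List.not_mem_nil, or_false] at hc
    rcases hc with rfl | rfl
    · exact ⟨xP 33 24 m 1, (mem_XJ1_fix_iff hm).mpr ⟨1, rfl⟩, xP_ne_one⟩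
    · exact ⟨(quadPos K).xS m 1 0, (mem_XJ2_fix_iff hm).mpr ⟨1, 0, rfl⟩, xS_ne_one⟩

variable [Finite K]

include hm in
theorem f4_posFix_le : chevF4.posUnipotent K ⊓ fixSub (f4Tau hm) ≤ twistedF4 K (2 ^ m) := by
  rw [← (f4_posUnipotent_inf hm).1]
  exact inf_le_right

include hm in
/-- The `(B, N)`-pair of the twisted group of type `F₄`. -/
theorem f4_exists_bnPair :
    ∃ P : Cfsg.BNPair ↥(twistedF4 K (2 ^ m)),
      P.B = (chevF4.borelSubgroup K ⊓ twistedF4 K (2 ^ m)).subgroupOf (twistedF4 K (2 ^ m)) ∧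
      P.N = (chevF4.monomialSubgroup K ⊓ twistedF4 K (2 ^ m)).subgroupOf (twistedF4 K (2 ^ m)) ∧
      P.S = {n : ↥(twistedF4 K (2 ^ m)) | ∃ c ∈ f4ClsList hm,
        (n : GL chevF4.Idx K) = nWordGL good3_F4.toGood2 c.word} :=
  exists_bnPair_fix good3_F4.toGood2 T0_F4 good3_F4.t3 good3_F4.t4 T5_F4 T6_F4 T8_F4 T9_F4
    (f4Tau_rootAut hm) (twistedF4_le_fixSub hm) (f4_posFix_le hm) (f4_fWList hm) (f4_fbnData hm)

end tw

/-- The statement of S1089. -/
theorem f4_S1089 {K : Type*} [Field K] [Fintype K] {m : ℕ} (hK : Fintype.card K = 2 ^ (2 * m + 1)) :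
    ∃ P : Cfsg.BNPair ↥(twistedF4 K (2 ^ m)),
      P.B = (chevF4.borelSubgroup K ⊓ twistedF4 K (2 ^ m)).subgroupOf (twistedF4 K (2 ^ m)) ∧
      P.N = (chevF4.monomialSubgroup K ⊓ twistedF4 K (2 ^ m)).subgroupOf (twistedF4 K (2 ^ m)) := by
  haveI := charP_two_of_card (by omega) hK
  obtain ⟨P, h1, h2, _⟩ := f4_exists_bnPair (pow_card_two hK)
  exact ⟨P, h1, h2⟩

end Cfsg.Agent.Helper7.Chev
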