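import Mathlib
import Cfsg.Agent.Helper7.ChevF4m

set_option autoImplicit false
set_option linter.unusedSectionVars false
set_option linter.unusedVariables false

/-!
The twisted group of type `F₄`: the action of the torus on the root elements, and the core of `B¹`.
-/

namespace Cfsg.Agent.Helper7.Chev

open Cfsg Cfsg.Lie Matrix

section torus

variable {K : Type*} [Field K]

theorem fh_mul_fx (r₀ : Fin 48) (c : Kˣ) (r : Fin 48) (t : K) :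
    fh K r₀ c * fx K r t =
      fx K r (((c ^ (tabOf chevF4).pairing r₀.val r.val : Kˣ) : K) * t) * fh K r₀ c := by
  apply Units.ext
  rw [fh_def, Units.val_mul, Units.val_mul, hGL_coe, fx_coe, fx_coe,
    hMat_mul_x good3_F4.toGood2 (lt_nroots_F4 r₀) c.ne_zero (lt_nroots_F4 r) t,
    Units.val_zpow_eq_zpow_val]

theorem f4_pairing_simple (r : ℕ) :
    (tabOf chevF4).pairing 33 r = chevF4.cartan 0 r ∧ (tabOf chevF4).pairing 27 r = chevF4.cartan 1 r ∧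
    (tabOf chevF4).pairing 25 r = chevF4.cartan 2 r ∧ (tabOf chevF4).pairing 24 r = chevF4.cartan 3 r :=
  ⟨pairing_simple good3_F4.toGood1 (i := 0) (by decide) r,
    pairing_simple good3_F4.toGood1 (i := 1) (by decide) r,
    pairing_simple good3_F4.toGood1 (i := 2) (by decide) r,
    pairing_simple good3_F4.toGood1 (i := 3) (by decide) r⟩

/-- The character of the torus on the root subgroup of `r`. -/
def f4chi (c₀ c₁ c₂ c₃ : Kˣ) (r : Fin 48) : Kˣ :=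
  c₀ ^ chevF4.cartan 0 r.val * c₁ ^ chevF4.cartan 1 r.val * c₂ ^ chevF4.cartan 2 r.val *
    c₃ ^ chevF4.cartan 3 r.val

theorem tF4_mul_fx (c₀ c₁ c₂ c₃ : Kˣ) (r : Fin 48) (t : K) :
    tF4 c₀ c₁ c₂ c₃ * fx K r t = fx K r ((f4chi c₀ c₁ c₂ c₃ r : K) * t) * tF4 c₀ c₁ c₂ c₃ := by
  obtain ⟨p0, p1, p2, p3⟩ := f4_pairing_simple r.val
  have e0 : (tabOf chevF4).pairing (33 : Fin 48).val r.val = chevF4.cartan 0 r.val := p0
  have e1 : (tabOf chevF4).pairing (27 : Fin 48).val r.val = chevF4.cartan 1 r.val := p1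
  have e2 : (tabOf chevF4).pairing (25 : Fin 48).val r.val = chevF4.cartan 2 r.val := p2
  have e3 : (tabOf chevF4).pairing (24 : Fin 48).val r.val = chevF4.cartan 3 r.val := p3
  rw [tF4_eq, mul_assoc, fh_mul_fx, e3, ← mul_assoc, mul_assoc (fh K 33 c₀ * fh K 27 c₁), fh_mul_fx, e2,
    ← mul_assoc, mul_assoc (fh K 33 c₀), fh_mul_fx, e1, ← mul_assoc, fh_mul_fx, e0]
  unfold f4chi
  simp only [Units.val_mul, mul_assoc]

theorem tF4_conj_fx (c₀ c₁ c₂ c₃ : Kˣ) (r : Fin 48) (t : K) :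
    tF4 c₀ c₁ c₂ c₃ * fx K r t * (tF4 c₀ c₁ c₂ c₃)⁻¹ = fx K r ((f4chi c₀ c₁ c₂ c₃ r : K) * t) := by
  rw [tF4_mul_fx, mul_inv_cancel_right]

theorem f4_cartan_simple :
    (chevF4.cartan 0 33 = 2 ∧ chevF4.cartan 1 33 = -1 ∧ chevF4.cartan 2 33 = 0 ∧ chevF4.cartan 3 33 = 0) ∧
    (chevF4.cartan 0 27 = -1 ∧ chevF4.cartan 1 27 = 2 ∧ chevF4.cartan 2 27 = -1 ∧ chevF4.cartan 3 27 = 0) ∧
    (chevF4.cartan 0 25 = 0 ∧ chevF4.cartan 1 25 = -2 ∧ chevF4.cartan 2 25 = 2 ∧ chevF4.cartan 3 25 = -1) ∧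
    (chevF4.cartan 0 24 = 0 ∧ chevF4.cartan 1 24 = 0 ∧ chevF4.cartan 2 24 = -1 ∧ chevF4.cartan 3 24 = 2) := by
  decide

theorem f4chi_33 (c₀ c₁ c₂ c₃ : Kˣ) : f4chi c₀ c₁ c₂ c₃ 33 = c₀ ^ 2 * c₁⁻¹ := by
  obtain ⟨⟨h0, h1, h2, h3⟩, _⟩ := f4_cartan_simple
  unfold f4chi
  change c₀ ^ chevF4.cartan 0 33 * c₁ ^ chevF4.cartan 1 33 * c₂ ^ chevF4.cartan 2 33 *
    c₃ ^ chevF4.cartan 3 33 = _
  rw [h0, h1, h2, h3, zpow_zero, zpow_zero, mul_one, mul_one, _root_.zpow_neg_one]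
  rfl

theorem f4chi_27 (c₀ c₁ c₂ c₃ : Kˣ) : f4chi c₀ c₁ c₂ c₃ 27 = c₀⁻¹ * c₁ ^ 2 * c₂⁻¹ := by
  obtain ⟨_, ⟨h0, h1, h2, h3⟩, _⟩ := f4_cartan_simple
  unfold f4chi
  change c₀ ^ chevF4.cartan 0 27 * c₁ ^ chevF4.cartan 1 27 * c₂ ^ chevF4.cartan 2 27 *
    c₃ ^ chevF4.cartan 3 27 = _
  rw [h0, h1, h2, h3, zpow_zero, mul_one, _root_.zpow_neg_one, _root_.zpow_neg_one]
  rfl

theorem f4chi_25 (c₀ c₁ c₂ c₃ : Kˣ) : f4chi c₀ c₁ c₂ c₃ 25 = (c₁ ^ 2)⁻¹ * c₂ ^ 2 * c₃⁻¹ := by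
  obtain ⟨_, _, ⟨h0, h1, h2, h3⟩, _⟩ := f4_cartan_simple
  unfold f4chi
  change c₀ ^ chevF4.cartan 0 25 * c₁ ^ chevF4.cartan 1 25 * c₂ ^ chevF4.cartan 2 25 *
    c₃ ^ chevF4.cartan 3 25 = _
  rw [h0, h1, h2, h3, zpow_zero, one_mul, _root_.zpow_neg_one, _root_.zpow_neg]
  rfl

theorem f4chi_24 (c₀ c₁ c₂ c₃ : Kˣ) : f4chi c₀ c₁ c₂ c₃ 24 = c₂⁻¹ * c₃ ^ 2 := by
  obtain ⟨_, _, _, ⟨h0, h1, h2, h3⟩⟩ := f4_cartan_simple
  unfold f4chi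
  change c₀ ^ chevF4.cartan 0 24 * c₁ ^ chevF4.cartan 1 24 * c₂ ^ chevF4.cartan 2 24 *
    c₃ ^ chevF4.cartan 3 24 = _
  rw [h0, h1, h2, h3, zpow_zero, zpow_zero, one_mul, one_mul, _root_.zpow_neg_one]
  rfl

/-- A torus element acting trivially on the four fundamental root subgroups is trivial. -/
theorem f4chi_trivial {c₀ c₁ c₂ c₃ : Kˣ} (h33 : f4chi c₀ c₁ c₂ c₃ 33 = 1) (h27 : f4chi c₀ c₁ c₂ c₃ 27 = 1)
    (h25 : f4chi c₀ c₁ c₂ c₃ 25 = 1) (h24 : f4chi c₀ c₁ c₂ c₃ 24 = 1) :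
    c₀ = 1 ∧ c₁ = 1 ∧ c₂ = 1 ∧ c₃ = 1 := by
  rw [f4chi_33, mul_inv_eq_one] at h33
  rw [f4chi_24, inv_mul_eq_one] at h24
  rw [f4chi_27, mul_inv_eq_one, ← h33] at h27
  rw [f4chi_25, mul_inv_eq_one, ← h33, h24] at h25
  -- `c₁ = c₀²`, `c₂ = c₃²`, `c₀⁻¹ c₀⁴ = c₂`, `(c₀⁴)⁻¹ (c₃²)² = c₃`
  have e2 : c₂ = c₀ ^ 3 := by
    rw [← h27]
    group
  have h5 : c₃ ^ 2 = c₀ ^ 3 := h24.symm.trans e2
  rw [h5] at h25
  have e3 : c₃ = c₀ ^ 2 := by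
    rw [← h25]
    group
  rw [e3] at h5
  have e0 : c₀ = 1 := by
    have : c₀ ^ 3 * c₀ = c₀ ^ 3 * 1 := by
      rw [mul_one]
      calc c₀ ^ 3 * c₀ = (c₀ ^ 2) ^ 2 := by group
        _ = c₀ ^ 3 := h5
    exact mul_left_cancel this
  subst e0
  rw [one_pow] at e2 e3 h33
  exact ⟨rfl, h33.symm, e2, e3⟩

end torus

section core

variable {K : Type*} [Field K] [CharP K 2] {m : ℕ} (hm : ∀ t : K, t ^ 2 ^ (2 * m + 1) = t)

/-- The element of `N` of the longest word. -/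
noncomputable def f4Nw (K : Type*) [Field K] : GL chevF4.Idx K :=
  nWordGL good3_F4.toGood2 (f4AltWord false 8)

theorem f4Nw_mem_twisted : f4Nw K ∈ twistedF4 K (2 ^ m) := f4AltWord_mem_twisted false 8

omit [CharP K 2] in
theorem f4Nw_conj_pos {u : GL chevF4.Idx K} (hu : u ∈ chevF4.posUnipotent K) :
    f4Nw K * u * (f4Nw K)⁻¹ ∈ chevF4.negUnipotent K := by
  rw [← nWordGL_conj_pos_eq_neg (K := K) good3_F4.toGood2 T0_F4 (f4_altW0 false)]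
  exact ⟨u, hu, rfl⟩

omit [CharP K 2] in
/-- An element of `B` whose conjugate by `n_{w₀}` is in `B` is in `H`. -/
theorem f4_borel_conj_mem_diagonal {g : GL chevF4.Idx K} (hg : g ∈ chevF4.borelSubgroup K)
    (hc : f4Nw K * g * (f4Nw K)⁻¹ ∈ chevF4.borelSubgroup K) : g ∈ chevF4.diagonalSubgroup K := by
  obtain ⟨u, hu, h, hh, rfl⟩ := borel_decomp good3_F4.toGood2 hg
  have hN : f4Nw K ∈ Subgroup.normalizer (chevF4.diagonalSubgroup K : Set (GL chevF4.Idx K)) :=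
    monomialSubgroup_le_normalizer good3_F4.toGood2 (nWordGL_mem _ _)
  have e : f4Nw K * (u * h) * (f4Nw K)⁻¹ =
      (f4Nw K * u * (f4Nw K)⁻¹) * (f4Nw K * h * (f4Nw K)⁻¹) := by group
  have h1 : f4Nw K * (u * h) * (f4Nw K)⁻¹ ∈ chevF4.negUnipotent K ⊔ chevF4.diagonalSubgroup K := by
    rw [e]
    exact mul_mem (Subgroup.mem_sup_left (f4Nw_conj_pos hu))
      (Subgroup.mem_sup_right (conj_mem_diagonal hN hh))
  have h2 : f4Nw K * (u * h) * (f4Nw K)⁻¹ ∈ chevF4.diagonalSubgroup K := by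
    rw [← borel_inf_negBorel (F := K) good3_F4.toGood2 T0_F4]
    exact Subgroup.mem_inf.mpr ⟨hc, h1⟩
  have h3 := conj_mem_diagonal' hN h2
  have e2 : (f4Nw K)⁻¹ * (f4Nw K * (u * h) * (f4Nw K)⁻¹) * f4Nw K = u * h := by group
  rwa [e2] at h3

include hm in
/-- An element of `G¹` all of whose conjugates under `G¹` lie in `B` is the identity. -/
theorem f4_core_trivial {g : GL chevF4.Idx K} (hg : g ∈ twistedF4 K (2 ^ m))
    (hc : ∀ b ∈ twistedF4 K (2 ^ m), b * g * b⁻¹ ∈ chevF4.borelSubgroup K) : g = 1 := by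
  have hall : ∀ b ∈ twistedF4 K (2 ^ m), b * g * b⁻¹ ∈ chevF4.diagonalSubgroup K := by
    intro b hb
    apply f4_borel_conj_mem_diagonal (hc b hb)
    have : f4Nw K * (b * g * b⁻¹) * (f4Nw K)⁻¹ = (f4Nw K * b) * g * (f4Nw K * b)⁻¹ := by group
    rw [this]
    exact hc _ (mul_mem f4Nw_mem_twisted hb)
  have hgH : g ∈ chevF4.diagonalSubgroup K := by
    have := hall 1 (one_mem _)
    rwa [one_mul, inv_one, mul_one] at this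
  obtain ⟨c₀, c₁, c₂, c₃, rfl⟩ := exists_tF4 hgH
  -- the torus element commutes with the elements of `U¹`
  have hcomm : ∀ u ∈ chevF4.posUnipotent K ⊓ twistedF4 K (2 ^ m),
      tF4 c₀ c₁ c₂ c₃ * u * (tF4 c₀ c₁ c₂ c₃)⁻¹ = u := by
    intro u hu
    have h1 : tF4 c₀ c₁ c₂ c₃ * u * (tF4 c₀ c₁ c₂ c₃)⁻¹ * u⁻¹ ∈
        chevF4.posUnipotent K ⊓ chevF4.diagonalSubgroup K := by
      refine Subgroup.mem_inf.mpr ⟨?_, ?_⟩
      · exact mul_mem ((Subgroup.mem_set_normalizer_iff.mp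
          (diagonalSubgroup_le_normalizer_pos good3_F4.toGood2 hgH) u).mp hu.1) (inv_mem hu.1)
      · have e : tF4 c₀ c₁ c₂ c₃ * u * (tF4 c₀ c₁ c₂ c₃)⁻¹ * u⁻¹ =
            tF4 c₀ c₁ c₂ c₃ * (u * tF4 c₀ c₁ c₂ c₃ * u⁻¹)⁻¹ := by group
        rw [e]
        exact mul_mem hgH (inv_mem (hall _ hu.2))
    rw [posUnipotent_inf_diagonal good3_F4.toGood2 T0_F4, Subgroup.mem_bot] at h1
    exact mul_inv_eq_one.mp h1
  -- the action on `x_{p₁}(1) x_{p₄}(1)`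
  have hP := hcomm (xP 33 24 m 1) (Subgroup.mem_inf.mpr
    ⟨XJ_le_pos f4J1 ((mem_XJ1_fix_iff hm).mpr ⟨1, rfl⟩).1, xP_pos_mem_twisted 1⟩)
  have eP : tF4 c₀ c₁ c₂ c₃ * xP 33 24 m (1 : K) * (tF4 c₀ c₁ c₂ c₃)⁻¹ =
      fP ((f4chi c₀ c₁ c₂ c₃ 33 : K) * f4Th K m 1) ((f4chi c₀ c₁ c₂ c₃ 24 : K) * 1) := by
    unfold xP fP
    rw [← tF4_conj_fx, ← tF4_conj_fx]
    group
  rw [eP, xP_eq_fP, map_one, mul_one, mul_one] at hP
  obtain ⟨hP1, hP2⟩ := fP_injective hP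
  -- the action on `x_a(1) x_b(1) x_{a+b}(1)`
  have hS := hcomm ((quadPos K).xS m 1 0) (Subgroup.mem_inf.mpr
    ⟨XJ_le_pos f4J2 ((mem_XJ2_fix_iff hm).mpr ⟨1, 0, rfl⟩).1, xS_pos_mem_twisted 1 0⟩)
  have eS : tF4 c₀ c₁ c₂ c₃ * (quadPos K).xS m (1 : K) 0 * (tF4 c₀ c₁ c₂ c₃)⁻¹ =
      (quadPos K).xQ ((f4chi c₀ c₁ c₂ c₃ 27 : K) * f4Th K m 1) ((f4chi c₀ c₁ c₂ c₃ 25 : K) * 1)
        ((f4chi c₀ c₁ c₂ c₃ 28 : K) * (f4Th K m 1 * 1 + 0)) ((f4chi c₀ c₁ c₂ c₃ 30 : K) * f4Th K (m + 1) 0) := by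
    unfold B2Quad.xS B2Quad.xQ
    change tF4 c₀ c₁ c₂ c₃ * (fx K 27 _ * fx K 25 _ * fx K 28 _ * fx K 30 _) * _ =
      fx K 27 _ * fx K 25 _ * fx K 28 _ * fx K 30 _
    rw [← tF4_conj_fx, ← tF4_conj_fx, ← tF4_conj_fx, ← tF4_conj_fx]
    group
  rw [eS] at hS
  unfold B2Quad.xS at hS
  obtain ⟨hS1, hS2, _, _⟩ := xQ_injective hS
  rw [map_one, mul_one] at hS1
  rw [mul_one] at hS2
  have h33 : f4chi c₀ c₁ c₂ c₃ 33 = 1 := Units.ext hP1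
  have h24 : f4chi c₀ c₁ c₂ c₃ 24 = 1 := Units.ext hP2
  have h27 : f4chi c₀ c₁ c₂ c₃ 27 = 1 := Units.ext hS1
  have h25 : f4chi c₀ c₁ c₂ c₃ 25 = 1 := Units.ext hS2
  obtain ⟨rfl, rfl, rfl, rfl⟩ := f4chi_trivial h33 h27 h25 h24
  exact tF4_one

end core

/-- The statement of S1113. -/
theorem f4_S1113 {K : Type*} [Field K] [Fintype K] {m : ℕ} (hK : Fintype.card K = 2 ^ (2 * m + 1)) :
    ((chevF4.borelSubgroup K ⊓ twistedF4 K (2 ^ m)).subgroupOf (twistedF4 K (2 ^ m))).normalCore = ⊥ := by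
  haveI := charP_two_of_card (by omega) hK
  have hm := pow_card_two hK
  rw [eq_bot_iff]
  intro x hx
  rw [Subgroup.mem_bot]
  apply Subtype.ext
  apply f4_core_trivial hm x.2
  intro b hb
  have h1 := hx ⟨b, hb⟩
  rw [Subgroup.mem_subgroupOf] at h1
  exact (Subgroup.mem_inf.mp h1).1

end Cfsg.Agent.Helper7.Chev
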