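import Mathlib
import Cfsg.Agent.Helper7.ChevF4n

set_option autoImplicit false
set_option linter.unusedSectionVars false
set_option linter.unusedVariables false

/-!
The twisted group of type `F₄`: the multiplication of the fixed root subgroups and the action of the fixed torus on
them.
-/

namespace Cfsg.Agent.Helper7.Chev

open Cfsg Cfsg.Lie Matrix

section mul

variable {K : Type*} [Field K] [CharP K 2] {m : ℕ} (hm : ∀ t : K, t ^ 2 ^ (2 * m + 1) = t)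

theorem xP_mul (t t' : K) : xP 33 24 m t * xP 33 24 m t' = xP 33 24 m (t + t') := by
  rw [xP_eq_fP, xP_eq_fP, xP_eq_fP, fP_mul, map_add]

theorem xP_inv (t : K) : (xP 33 24 m t)⁻¹ = xP 33 24 m t := by
  rw [xP_eq_fP, fP_inv]

include hm in
/-- The multiplication of the fixed points of the quadruple. -/
theorem xS_mul (t u t' u' : K) :
    (quadPos K).xS m t u * (quadPos K).xS m t' u' =
      (quadPos K).xS m (t + t') (u + u' + f4Th K m t * t') := by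
  unfold B2Quad.xS
  rw [B2Quad.xQ_mul]
  have h1 : f4Th K (m + 1) (f4Th K m t) = t := f4Th_succ_f4Th hm t
  have h2 : f4Th K (m + 1) t' = (f4Th K m t') ^ 2 := f4Th_succ m t'
  congr 1
  · rw [map_add]
  · rw [map_add]
    have := add_self_char2 (f4Th K m t * t')
    linear_combination -this
  · rw [map_add, map_add, map_mul, h1, h2]
    ring

include hm in
theorem xS_zero : (quadPos K).xS m (0 : K) 0 = 1 := by
  unfold B2Quad.xS
  rw [map_zero, map_zero, zero_mul, add_zero]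
  exact (quadPos K).xQ_zero

include hm in
theorem xS_inv (t u : K) : ((quadPos K).xS m t u)⁻¹ = (quadPos K).xS m t (u + f4Th K m t * t) := by
  rw [inv_eq_iff_mul_eq_one, xS_mul hm, add_self_char2, ← xS_zero hm]
  congr 1
  have h1 := add_self_char2 u
  have h2 := add_self_char2 (f4Th K m t * t)
  linear_combination h1 + h2

end mul

section torus

variable {K : Type*} [Field K] [CharP K 2] {m : ℕ} (hm : ∀ t : K, t ^ 2 ^ (2 * m + 1) = t)

theorem f4_cartan_30 :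
    chevF4.cartan 0 30 = -2 ∧ chevF4.cartan 1 30 = 2 ∧ chevF4.cartan 2 30 = 0 ∧ chevF4.cartan 3 30 = -1 := by
  decide

theorem f4chi_30 (c₀ c₁ c₂ c₃ : Kˣ) : f4chi c₀ c₁ c₂ c₃ 30 = (c₀ ^ 2)⁻¹ * c₁ ^ 2 * c₃⁻¹ := by
  obtain ⟨h0, h1, h2, h3⟩ := f4_cartan_30
  unfold f4chi
  change c₀ ^ chevF4.cartan 0 30 * c₁ ^ chevF4.cartan 1 30 * c₂ ^ chevF4.cartan 2 30 *
    c₃ ^ chevF4.cartan 3 30 = _
  rw [h0, h1, h2, h3, zpow_zero, mul_one, _root_.zpow_neg_one, _root_.zpow_neg]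
  rfl

theorem tF4_conj_fP (c₀ c₁ c₂ c₃ : Kˣ) (s t : K) :
    tF4 c₀ c₁ c₂ c₃ * fP s t * (tF4 c₀ c₁ c₂ c₃)⁻¹ =
      fP ((f4chi c₀ c₁ c₂ c₃ 33 : K) * s) ((f4chi c₀ c₁ c₂ c₃ 24 : K) * t) := by
  unfold fP
  rw [← tF4_conj_fx, ← tF4_conj_fx]
  group

theorem tF4_conj_xQ (q : B2Quad K) (c₀ c₁ c₂ c₃ : Kˣ) (s t c d : K) :
    tF4 c₀ c₁ c₂ c₃ * q.xQ s t c d * (tF4 c₀ c₁ c₂ c₃)⁻¹ =
      q.xQ ((f4chi c₀ c₁ c₂ c₃ q.a : K) * s) ((f4chi c₀ c₁ c₂ c₃ q.b : K) * t)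
        ((f4chi c₀ c₁ c₂ c₃ q.ab : K) * c) ((f4chi c₀ c₁ c₂ c₃ q.aab : K) * d) := by
  unfold B2Quad.xQ
  rw [← tF4_conj_fx, ← tF4_conj_fx, ← tF4_conj_fx, ← tF4_conj_fx]
  group

include hm in
/-- The action of the fixed torus on the fixed points of the first class. -/
theorem gh4_conj_xP (s u : Kˣ) (t : K) :
    gh4 K m (s, u) * xP 33 24 m t * (gh4 K m (s, u))⁻¹ = xP 33 24 m ((u : K)⁻¹ * (s : K) ^ 2 * t) := by
  have hmem : gh4 K m (s, u) * xP 33 24 m t * (gh4 K m (s, u))⁻¹ ∈ twistedF4 K (2 ^ m) :=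
    mul_mem (mul_mem (gh4_mem_twisted hm _) (xP_pos_mem_twisted t)) (inv_mem (gh4_mem_twisted hm _))
  obtain ⟨_, hfix⟩ := twistedF4_le_fixSub hm hmem
  rw [gh4_apply, xP_eq_fP, tF4_conj_fP] at hfix ⊢
  rw [fP_fixed hm hfix, f4chi_24]
  congr 1
  rw [Units.val_mul, Units.val_inv_eq_inv_val, Units.val_pow_eq_pow_val]

include hm in
/-- The action of the fixed torus on the fixed points of the second class. -/
theorem gh4_conj_xS (s u : Kˣ) (t v : K) :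
    gh4 K m (s, u) * (quadPos K).xS m t v * (gh4 K m (s, u))⁻¹ =
      (quadPos K).xS m ((f4Th K m (u : K) ^ 2)⁻¹ * (u : K) ^ 2 * (s : K)⁻¹ * t)
        ((s : K)⁻¹ * (f4Th K m (s : K))⁻¹ * (u : K) * v) := by
  have hmem : gh4 K m (s, u) * (quadPos K).xS m t v * (gh4 K m (s, u))⁻¹ ∈ twistedF4 K (2 ^ m) :=
    mul_mem (mul_mem (gh4_mem_twisted hm _) (xS_pos_mem_twisted t v)) (inv_mem (gh4_mem_twisted hm _))
  obtain ⟨_, hfix⟩ := twistedF4_le_fixSub hm hmem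
  rw [gh4_apply] at hfix ⊢
  unfold B2Quad.xS at hfix ⊢
  rw [tF4_conj_xQ] at hfix ⊢
  rw [xQ_fixed hm hfix]
  have ea : (quadPos K).aab = 30 := rfl
  have eb : (quadPos K).b = 25 := rfl
  rw [ea, eb, f4chi_25, f4chi_30]
  have h1 : f4Th K m (f4Th K (m + 1) v) = v := f4Th_f4Th_succ hm v
  have h2 : ∀ x : K, f4Th K m (f4Th K m x) ^ 2 = x := by
    intro x
    rw [← f4Th_succ, f4Th_succ_f4Th hm]
  have e1 : (((((f4ThU K m) u ^ 2)⁻¹ * u ^ 2 * s⁻¹ : Kˣ) : K)) * t =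
      (f4Th K m (u : K) ^ 2)⁻¹ * (u : K) ^ 2 * (s : K)⁻¹ * t := by
    simp only [Units.val_mul, Units.val_inv_eq_inv_val, Units.val_pow_eq_pow_val, f4ThU_coe]
  have e2 : f4Th K m ((((((f4ThU K m) s ^ 2)⁻¹ * (f4ThU K m) u ^ 2 * s⁻¹ : Kˣ) : K)) * f4Th K (m + 1) v) =
      (s : K)⁻¹ * (f4Th K m (s : K))⁻¹ * (u : K) * v := by
    simp only [Units.val_mul, Units.val_inv_eq_inv_val, Units.val_pow_eq_pow_val, f4ThU_coe, map_mul,
      map_inv₀, map_pow, h1, h2]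
    ring
  rw [e1, e2]
  rfl

end torus

end Cfsg.Agent.Helper7.Chev
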