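import Mathlib
import Cfsg.Agent.Helper7.ChevF4o

set_option autoImplicit false
set_option linter.unusedSectionVars false
set_option linter.unusedVariables false

/-!
The twisted group of type `F₄` over the field with `2 ^ (2 m + 1)` elements, `m ≥ 1`, is perfect.
-/

namespace Cfsg.Agent.Helper7.Chev

open Cfsg Cfsg.Lie Matrix

section der

variable {K : Type*} [Field K] [CharP K 2] {m : ℕ} (hm : ∀ t : K, t ^ 2 ^ (2 * m + 1) = t)

/-- The image in `GL` of the derived subgroup of the twisted group. -/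
noncomputable def f4Der (K : Type*) [Field K] (m : ℕ) : Subgroup (GL chevF4.Idx K) :=
  (commutator ↥(twistedF4 K (2 ^ m))).map (twistedF4 K (2 ^ m)).subtype

omit [CharP K 2] in
theorem f4Der_comm {a b : GL chevF4.Idx K} (ha : a ∈ twistedF4 K (2 ^ m)) (hb : b ∈ twistedF4 K (2 ^ m)) :
    a * b * a⁻¹ * b⁻¹ ∈ f4Der K m := by
  have h : ∀ x y : ↥(twistedF4 K (2 ^ m)), x * y * x⁻¹ * y⁻¹ ∈ commutator ↥(twistedF4 K (2 ^ m)) := by
    intro x y
    rw [← commutatorElement_def]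
    exact Subgroup.commutator_mem_commutator (Subgroup.mem_top _) (Subgroup.mem_top _)
  exact ⟨_, h ⟨a, ha⟩ ⟨b, hb⟩, rfl⟩

omit [CharP K 2] in
theorem f4Der_conj {g x : GL chevF4.Idx K} (hg : g ∈ twistedF4 K (2 ^ m)) (hx : x ∈ f4Der K m) :
    g * x * g⁻¹ ∈ f4Der K m := by
  obtain ⟨y, hy, rfl⟩ := hx
  have hn : (commutator ↥(twistedF4 K (2 ^ m))).Normal := inferInstance
  exact ⟨⟨g, hg⟩ * y * (⟨g, hg⟩ : ↥(twistedF4 K (2 ^ m)))⁻¹, hn.conj_mem y hy _, rfl⟩

omit [CharP K 2] in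
theorem f4Der_le : f4Der K m ≤ twistedF4 K (2 ^ m) := by
  rintro _ ⟨y, _, rfl⟩
  exact y.2

variable (hs : ∃ s : Kˣ, s ≠ 1)

theorem unit_add_one_ne_zero {s : Kˣ} (hs1 : s ≠ 1) : (s : K) + 1 ≠ 0 := by
  intro h
  apply hs1
  apply Units.ext
  have h2 := add_self_char2 (1 : K)
  rw [Units.val_one]
  linear_combination h - h2

include hm hs in
/-- The fixed points of the first class lie in the derived subgroup. -/
theorem xP_mem_f4Der (t : K) : xP 33 24 m t ∈ f4Der K m := by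
  obtain ⟨s, hs1⟩ := hs
  have key : ∀ t₀ : K, xP 33 24 m (((s : K) + 1) ^ 2 * t₀) ∈ f4Der K m := by
    intro t₀
    have h := f4Der_comm (K := K) (m := m) (gh4_mem_twisted hm (s, 1)) (xP_pos_mem_twisted t₀)
    rw [gh4_conj_xP hm, xP_inv, xP_mul] at h
    convert h using 2
    rw [Units.val_one, inv_one, one_mul]
    have h2 := add_self_char2 ((s : K) * t₀)
    linear_combination h2
  have hne : ((s : K) + 1) ^ 2 ≠ 0 := pow_ne_zero 2 (unit_add_one_ne_zero hs1)
  have := key (t / ((s : K) + 1) ^ 2)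
  rwa [mul_div_cancel₀ _ hne] at this

include hm hs in
/-- The centre of the fixed points of the second class lies in the derived subgroup. -/
theorem xS_center_mem_f4Der (v : K) : (quadPos K).xS m 0 v ∈ f4Der K m := by
  obtain ⟨s, hs1⟩ := hs
  have key : ∀ v₀ : K, (quadPos K).xS m 0 (((s : K) + 1) * v₀) ∈ f4Der K m := by
    intro v₀
    have h := f4Der_comm (K := K) (m := m) (gh4_mem_twisted hm (1, s)) (xS_pos_mem_twisted 0 v₀)
    rw [gh4_conj_xS hm, xS_inv hm, xS_mul hm] at h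
    convert h using 2
    · rw [mul_zero, add_zero]
    · simp only [mul_zero, add_zero, Units.val_one, map_one, inv_one]
      ring
  have hne : (s : K) + 1 ≠ 0 := unit_add_one_ne_zero hs1
  have := key (v / ((s : K) + 1))
  rwa [mul_div_cancel₀ _ hne] at this

include hm hs in
/-- The fixed points of the second class lie in the derived subgroup. -/
theorem xS_mem_f4Der (t v : K) : (quadPos K).xS m t v ∈ f4Der K m := by
  have hs' := hs
  obtain ⟨s, hs1⟩ := hs
  have key : ∀ t₀ : K, ∃ v₁ : K, (quadPos K).xS m (((s : K)⁻¹ + 1) * t₀) v₁ ∈ f4Der K m := by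
    intro t₀
    have h := f4Der_comm (K := K) (m := m) (gh4_mem_twisted hm (s, 1)) (xS_pos_mem_twisted t₀ 0)
    rw [gh4_conj_xS hm, xS_inv hm, xS_mul hm] at h
    have e : (f4Th K m ((1 : Kˣ) : K) ^ 2)⁻¹ * ((1 : Kˣ) : K) ^ 2 * (s : K)⁻¹ * t₀ + t₀ =
        ((s : K)⁻¹ + 1) * t₀ := by
      rw [Units.val_one, map_one]
      ring
    rw [e] at h
    exact ⟨_, h⟩
  have hne : (s : K)⁻¹ + 1 ≠ 0 := by
    have := unit_add_one_ne_zero (K := K) (s := s⁻¹) (fun h => hs1 (inv_eq_one.mp h))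
    rwa [Units.val_inv_eq_inv_val] at this
  obtain ⟨v₁, h1⟩ := key (t / ((s : K)⁻¹ + 1))
  rw [mul_div_cancel₀ _ hne] at h1
  have h2 := mul_mem h1 (xS_center_mem_f4Der hm hs' (v - v₁))
  rw [xS_mul hm] at h2
  convert h2 using 2
  · rw [add_zero]
  · ring

include hm hs in
/-- The negative elements of the first class lie in the derived subgroup. -/
theorem xP_neg_mem_f4Der (t : K) : xP 14 23 m t ∈ f4Der K m := by
  rw [← f4Phi_lower, lowerSL_eq_conj, map_mul, map_mul, map_inv, f4Phi_anti, f4Phi_upper]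
  exact f4Der_conj f4N1_mem_twisted (xP_mem_f4Der hm hs _)

theorem f4_word_J2neg_fast : ∀ r ∈ [17, 19, 20, 22], fastF4.reflWord [2, 1, 2, 1] r = 47 - r := by
  decide +kernel

theorem f4_word_J2neg : ∀ r ∈ [17, 19, 20, 22], (tabOf chevF4).reflWord [2, 1, 2, 1] r = 47 - r :=
  tab_F4 ▸ f4_word_J2neg_fast

omit [CharP K 2] in
theorem f4N2_conj_fx (r : Fin 48) (t : K) (r' : Fin 48)
    (hr' : (tabOf chevF4).reflWord [2, 1, 2, 1] r.val = r'.val) :
    ∃ t' : K, f4N2 K * fx K r t * (f4N2 K)⁻¹ = fx K r' t' := by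
  unfold f4N2 fx
  rw [nWordGL_conj good3_F4.toGood2 (by decide) r.2 t]
  exact ⟨_, xGL_congr' good3_F4.toGood1 hr' _ _ _⟩

/-- Conjugation by `n₂` maps the negative quadruple to the positive one. -/
theorem f4N2_conj_xQ_neg (s t c d : K) :
    ∃ s' t' c' d' : K, f4N2 K * (quadNeg K).xQ s t c d * (f4N2 K)⁻¹ = (quadPos K).xQ s' t' c' d' := by
  obtain ⟨s', e1⟩ := f4N2_conj_fx (K := K) 20 s 27 (f4_word_J2neg 20 (by decide))
  obtain ⟨t', e2⟩ := f4N2_conj_fx (K := K) 22 t 25 (f4_word_J2neg 22 (by decide))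
  obtain ⟨c', e3⟩ := f4N2_conj_fx (K := K) 19 c 28 (f4_word_J2neg 19 (by decide))
  obtain ⟨d', e4⟩ := f4N2_conj_fx (K := K) 17 d 30 (f4_word_J2neg 17 (by decide))
  refine ⟨s', t', c', d', ?_⟩
  change f4N2 K * (fx K 20 s * fx K 22 t * fx K 19 c * fx K 17 d) * (f4N2 K)⁻¹ =
    fx K 27 s' * fx K 25 t' * fx K 28 c' * fx K 30 d'
  rw [← e1, ← e2, ← e3, ← e4]
  group

include hm hs in
/-- The negative elements of the second class lie in the derived subgroup. -/
theorem xS_neg_mem_f4Der (t u : K) : (quadNeg K).xS m t u ∈ f4Der K m := by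
  obtain ⟨s', t', c', d', e⟩ := f4N2_conj_xQ_neg (f4Th K m t) t (f4Th K m t * t + u) (f4Th K (m + 1) u)
  have e' : f4N2 K * (quadNeg K).xS m t u * (f4N2 K)⁻¹ = (quadPos K).xQ s' t' c' d' := e
  have hmem : f4N2 K * (quadNeg K).xS m t u * (f4N2 K)⁻¹ ∈ twistedF4 K (2 ^ m) :=
    mul_mem (mul_mem f4N2_mem_twisted (xS_neg_mem_twisted t u)) (inv_mem f4N2_mem_twisted)
  obtain ⟨_, hfix⟩ := twistedF4_le_fixSub hm hmem
  rw [e'] at hfix
  have e3 := xQ_fixed hm hfix
  have e4 : (quadNeg K).xS m t u =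
      (f4N2 K)⁻¹ * ((quadPos K).xS m t' (f4Th K m d')) * ((f4N2 K)⁻¹)⁻¹ := by
    rw [← e3, ← e']
    group
  rw [e4]
  exact f4Der_conj (inv_mem f4N2_mem_twisted) (xS_mem_f4Der hm hs _ _)

include hm hs in
/-- The twisted group is perfect. -/
theorem f4_perfect_of_unit : commutator ↥(twistedF4 K (2 ^ m)) = ⊤ := by
  have hle : twistedF4 K (2 ^ m) ≤ f4Der K m := by
    conv_lhs => rw [twistedF4_eq]
    rw [Subgroup.closure_le]
    rintro g ((⟨t, rfl⟩ | ⟨t, rfl⟩) | (⟨t, u, rfl⟩ | ⟨t, u, rfl⟩))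
    · exact xP_mem_f4Der hm hs t
    · exact xP_neg_mem_f4Der hm hs t
    · exact xS_mem_f4Der hm hs t u
    · exact xS_neg_mem_f4Der hm hs t u
  rw [eq_top_iff]
  intro x _
  obtain ⟨y, hy, hxy⟩ := hle x.2
  have : y = x := Subtype.ext hxy
  rw [← this]
  exact hy

end der

theorem exists_unit_ne_one {K : Type*} [Field K] [Fintype K] (hK : 2 < Fintype.card K) :
    ∃ s : Kˣ, s ≠ 1 := by
  classical
  by_contra h
  push_neg at h
  have hsub : (Finset.univ : Finset K) ⊆ {0, 1} := by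
    intro s _
    simp only [Finset.mem_insert, Finset.mem_singleton]
    by_cases h0 : s = 0
    · exact Or.inl h0
    · right
      have := h (Units.mk0 s h0)
      have h2 := congrArg (fun x : Kˣ => (x : K)) this
      simpa using h2
  have hc := Finset.card_le_card hsub
  rw [Finset.card_univ] at hc
  have h2 : ({0, 1} : Finset K).card ≤ 2 := Finset.card_le_two
  omega

/-- The statement of S1112. -/
theorem f4_S1112 {K : Type*} [Field K] [Fintype K] {m : ℕ} (hK : Fintype.card K = 2 ^ (2 * m + 1))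
    (hm1 : 1 ≤ m) : commutator ↥(twistedF4 K (2 ^ m)) = ⊤ := by
  haveI := charP_two_of_card (by omega) hK
  have hm := pow_card_two hK
  apply f4_perfect_of_unit hm
  apply exists_unit_ne_one
  rw [hK]
  have h8 : 2 ^ 3 ≤ 2 ^ (2 * m + 1) := Nat.pow_le_pow_right (by norm_num) (by omega)
  omega

end Cfsg.Agent.Helper7.Chev
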