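import Mathlib
import Cfsg.Agent.Helper7.ChevF4p
import Cfsg.Agent.Helper7.BNSimple

set_option autoImplicit false
set_option linter.unusedSectionVars false
set_option linter.unusedVariables false

/-!
The twisted group of type `F₄` over the field with `2 ^ (2 m + 1)` elements, `m ≥ 1`, is simple.
-/

namespace Cfsg.Agent.Helper7.Chev

open Cfsg Cfsg.Lie Matrix

section comm

variable {K : Type*} [Field K]

/-- The commutator of `n₁` and `n₂` is not in `B`. -/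
theorem f4_comm_not_mem_borel :
    f4N1 K * f4N2 K * (f4N1 K)⁻¹ * (f4N2 K)⁻¹ ∉ chevF4.borelSubgroup K := by
  intro hB
  have hN : f4N1 K * f4N2 K * (f4N1 K)⁻¹ * (f4N2 K)⁻¹ ∈ chevF4.monomialSubgroup K :=
    mul_mem (mul_mem (mul_mem f4N1_mem_mono f4N2_mem_mono) (inv_mem f4N1_mem_mono)) (inv_mem f4N2_mem_mono)
  have hH : f4N1 K * f4N2 K * (f4N1 K)⁻¹ * (f4N2 K)⁻¹ ∈ chevF4.diagonalSubgroup K := by
    rw [← borel_inf_monomial good3_F4.toGood2 T0_F4 T6_F4 T8_F4 T9_F4]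
    exact Subgroup.mem_inf.mpr ⟨hB, hN⟩
  apply f4N12_pow4_not_mem (K := K)
  have hnorm : f4N2 K ∈ Subgroup.normalizer (chevF4.diagonalSubgroup K : Set (GL chevF4.Idx K)) :=
    monomialSubgroup_le_normalizer good3_F4.toGood2 f4N2_mem_mono
  have h1 : f4N2 K * (f4N1 K * f4N1 K) * (f4N2 K)⁻¹ ∈ chevF4.diagonalSubgroup K :=
    (Subgroup.mem_set_normalizer_iff.mp hnorm _).mp f4N1_sq_mem
  have e0 : (f4N1 K * f4N2 K * (f4N1 K)⁻¹ * (f4N2 K)⁻¹) * (f4N2 K * (f4N1 K * f4N1 K) * (f4N2 K)⁻¹) *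
      (f4N2 K * f4N2 K) = (f4N1 K * f4N2 K) * (f4N1 K * f4N2 K) := by group
  have e : (f4N1 K * f4N2 K) ^ 4 = ((f4N1 K * f4N2 K) * (f4N1 K * f4N2 K)) ^ 2 := by
    rw [← pow_two, ← pow_mul]
  rw [e, ← e0]
  exact pow_mem (mul_mem (mul_mem hH h1) f4N2_sq_mem) 2

theorem f4_comm_not_mem_borel' :
    f4N2 K * f4N1 K * (f4N2 K)⁻¹ * (f4N1 K)⁻¹ ∉ chevF4.borelSubgroup K := by
  intro hB
  apply f4_comm_not_mem_borel (K := K)
  have e : f4N1 K * f4N2 K * (f4N1 K)⁻¹ * (f4N2 K)⁻¹ = (f4N2 K * f4N1 K * (f4N2 K)⁻¹ * (f4N1 K)⁻¹)⁻¹ := by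
    group
  rw [e]
  exact inv_mem hB

end comm

/-- The statement of S1072. -/
theorem f4_S1072 {K : Type*} [Field K] [Fintype K] {m : ℕ} (hm1 : 1 ≤ m)
    (hK : Fintype.card K = 2 ^ (2 * m + 1)) :
    IsSimpleGroup ↥(twistedF4 K (2 ^ m)) ∧ ¬ IsMulCommutative ↥(twistedF4 K (2 ^ m)) := by
  haveI := charP_two_of_card (by omega) hK
  have hm := pow_card_two hK
  have hperf := f4_S1112 hK hm1
  obtain ⟨P, hPB, hPN, hPS⟩ := f4_exists_bnPair (K := K) hm
  have memB : ∀ x : ↥(twistedF4 K (2 ^ m)),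
      x ∈ (chevF4.borelSubgroup K ⊓ twistedF4 K (2 ^ m)).subgroupOf (twistedF4 K (2 ^ m)) ↔
        (x : GL chevF4.Idx K) ∈ chevF4.borelSubgroup K := by
    intro x
    rw [Subgroup.mem_subgroupOf, Subgroup.mem_inf]
    exact ⟨fun h => h.1, fun h => ⟨h, x.2⟩⟩
  have hS : ∀ s ∈ P.S, (s : GL chevF4.Idx K) = f4N1 K ∨ (s : GL chevF4.Idx K) = f4N2 K := by
    intro s hs
    rw [hPS] at hs
    obtain ⟨c, hc, e⟩ := hs
    unfold f4ClsList at hc
    simp only [List.mem_cons, List.not_mem_nil, or_false] at hc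
    rcases hc with rfl | rfl
    · left; rw [e]; rfl
    · right; rw [e]; rfl
  have hirr : P.Irreducible := by
    intro J hJ ⟨s, hs⟩ ⟨s', hs'⟩
    refine ⟨s, hs, s', hs', ?_⟩
    intro hB
    rw [hPB, memB] at hB
    have hne : (s : GL chevF4.Idx K) ≠ (s' : GL chevF4.Idx K) := by
      intro h
      have : s = s' := Subtype.ext h
      rw [this] at hs
      exact hs'.2 hs
    have hcoe : ((s * s' * s⁻¹ * s'⁻¹ : ↥(twistedF4 K (2 ^ m))) : GL chevF4.Idx K) =
        (s : GL chevF4.Idx K) * (s' : GL chevF4.Idx K) * (s : GL chevF4.Idx K)⁻¹ *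
          (s' : GL chevF4.Idx K)⁻¹ := rfl
    rw [hcoe] at hB
    rcases hS s (hJ hs) with h1 | h1 <;> rcases hS s' hs'.1 with h2 | h2
    · exact hne (h1.trans h2.symm)
    · rw [h1, h2] at hB
      exact f4_comm_not_mem_borel hB
    · rw [h1, h2] at hB
      exact f4_comm_not_mem_borel' hB
    · exact hne (h1.trans h2.symm)
  have hsolv : Group.IsSolvable ↥P.B := by
    rw [hPB]
    have hBs : Group.IsSolvable ↥(chevF4.borelSubgroup K) :=
      borel_isSolvable (F := K) good3_F4.toGood2 T0_F4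
    let φ : ↥((chevF4.borelSubgroup K ⊓ twistedF4 K (2 ^ m)).subgroupOf (twistedF4 K (2 ^ m))) →*
        ↥(chevF4.borelSubgroup K) :=
      { toFun := fun x => ⟨((x : ↥(twistedF4 K (2 ^ m))) : GL chevF4.Idx K), (memB x.1).mp x.2⟩
        map_one' := rfl
        map_mul' := fun _ _ => rfl }
    apply solvable_of_solvable_injective (f := φ)
    intro x y hxy
    have := congrArg (fun z : ↥(chevF4.borelSubgroup K) => (z : GL chevF4.Idx K)) hxy
    exact Subtype.ext (Subtype.ext this)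
  have hcore : P.B.normalCore = ⊥ := by
    rw [hPB]
    exact f4_S1113 hK
  haveI : Nontrivial ↥(twistedF4 K (2 ^ m)) := by
    refine ⟨⟨⟨xP 33 24 m (1 : K), xP_pos_mem_twisted _⟩, 1, ?_⟩⟩
    intro h
    exact xP_ne_one (K := K) (m := m) (congrArg Subtype.val h)
  refine ⟨BN.isSimpleGroup_of_irreducible P hirr hsolv hperf hcore, ?_⟩
  intro hcomm
  have hbot : commutator ↥(twistedF4 K (2 ^ m)) = ⊥ := by
    rw [eq_bot_iff, commutator_def, Subgroup.commutator_le]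
    intro a _ b _
    rw [Subgroup.mem_bot, commutatorElement_def]
    have := (isMulCommutative_iff.mp hcomm) a b
    rw [this]; group
  rw [hperf] at hbot
  exact top_ne_bot hbot

end Cfsg.Agent.Helper7.Chev
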