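import Mathlib
import Cfsg.Agent.Helper7.ChevF4q
import Cfsg.Agent.Helper7.ChevCharPTab

set_option autoImplicit false
set_option linter.unusedSectionVars false
set_option linter.unusedVariables false

/-!
The commutation relations of the positive root elements of `F₄` in characteristic two (generated text).
-/

namespace Cfsg.Agent.Helper7.Chev

open Cfsg Cfsg.Lie Matrix
open scoped Pointwise

variable {K : Type*} [Field K]

/-- Root elements commute when the list of commutator terms is empty. -/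
theorem fx_swap_nil {r s : Fin 48} (hsr : s.val ≠ r.val) (hsn : s.val ≠ chevF4.neg r.val)
    (hterms : chevF4.commTerms r.val s.val = []) (t u : K) :
    fx K s u * fx K r t = fx K r t * fx K s u := by
  have h := xGL_comm (K := K) good3_F4 r.2 s.2 hsr hsn t u
  unfold ChevalleyDatum.commWord at h
  rw [hterms, List.map_nil, List.map_nil, List.prod_nil, mul_one] at h
  exact h

/-- The commutator formula with one term. -/
theorem fx_swap_single {r s q : Fin 48} {c : ℤ} {i j : ℕ}
    (hsr : s.val ≠ r.val) (hsn : s.val ≠ chevF4.neg r.val)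
    (hterms : chevF4.commTerms r.val s.val = [(q.val, c, i, j)]) (t u : K) :
    fx K s u * fx K r t = fx K r t * fx K s u * fx K q ((c : K) * (-t) ^ i * u ^ j) := by
  have h := xGL_comm (K := K) good3_F4 r.2 s.2 hsr hsn t u
  unfold ChevalleyDatum.commWord at h
  rw [hterms] at h
  simp only [List.map_cons, List.map_nil, List.prod_cons, List.prod_nil, mul_one, xGL'_eq_fx] at h
  exact h

/-- The commutator formula with two terms. -/
theorem fx_swap_double {r s q q' : Fin 48} {c c' : ℤ} {i j i' j' : ℕ}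
    (hsr : s.val ≠ r.val) (hsn : s.val ≠ chevF4.neg r.val)
    (hterms : chevF4.commTerms r.val s.val = [(q.val, c, i, j), (q'.val, c', i', j')]) (t u : K) :
    fx K s u * fx K r t = fx K r t * fx K s u *
      (fx K q ((c : K) * (-t) ^ i * u ^ j) * fx K q' ((c' : K) * (-t) ^ i' * u ^ j')) := by
  have h := xGL_comm (K := K) good3_F4 r.2 s.2 hsr hsn t u
  unfold ChevalleyDatum.commWord at h
  rw [hterms] at h
  simp only [List.map_cons, List.map_nil, List.prod_cons, List.prod_nil, mul_one, xGL'_eq_fx] at h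
  exact h

/-- The pairs of positive roots of `F₄` whose sum is not a root. -/
def f4NilPairs : List (Fin 48 × Fin 48) :=
  [(24, 26), (24, 27), (24, 29), (24, 31), (24, 32), (24, 33), (24, 34), (24, 36), (24, 38), (24, 39),
    (24, 40), (24, 42), (24, 43), (24, 44), (24, 45), (24, 47), (25, 26), (25, 28), (25, 29), (25, 30),
    (25, 32), (25, 33), (25, 35), (25, 36), (25, 37), (25, 39), (25, 40), (25, 41), (25, 43), (25, 44),
    (25, 46), (25, 47), (26, 28), (26, 29), (26, 31), (26, 32), (26, 33), (26, 35), (26, 36), (26, 38),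
    (26, 39), (26, 40), (26, 42), (26, 43), (26, 44), (26, 46), (26, 47), (27, 30), (27, 31), (27, 32),
    (27, 34), (27, 37), (27, 38), (27, 40), (27, 41), (27, 42), (27, 45), (27, 46), (27, 47), (28, 30),
    (28, 31), (28, 32), (28, 35), (28, 37), (28, 39), (28, 40), (28, 41), (28, 43), (28, 45), (28, 46),
    (28, 47), (29, 30), (29, 31), (29, 32), (29, 36), (29, 38), (29, 39), (29, 40), (29, 42), (29, 43),
    (29, 45), (29, 46), (29, 47), (30, 31), (30, 32), (30, 34), (30, 35), (30, 37), (30, 38), (30, 39),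
    (30, 40), (30, 41), (30, 44), (30, 45), (30, 46), (30, 47), (31, 32), (31, 34), (31, 36), (31, 37),
    (31, 38), (31, 39), (31, 40), (31, 42), (31, 44), (31, 45), (31, 46), (31, 47), (32, 35), (32, 36),
    (32, 37), (32, 38), (32, 39), (32, 40), (32, 43), (32, 44), (32, 45), (32, 46), (32, 47), (33, 34),
    (33, 35), (33, 36), (33, 41), (33, 42), (33, 43), (33, 44), (33, 45), (33, 46), (33, 47), (34, 37),
    (34, 38), (34, 41), (34, 42), (34, 43), (34, 44), (34, 45), (34, 46), (34, 47), (35, 37), (35, 39),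
    (35, 41), (35, 42), (35, 43), (35, 44), (35, 45), (35, 46), (35, 47), (36, 38), (36, 39), (36, 41),
    (36, 42), (36, 43), (36, 44), (36, 45), (36, 46), (36, 47), (37, 40), (37, 41), (37, 42), (37, 43),
    (37, 44), (37, 45), (37, 46), (37, 47), (38, 40), (38, 41), (38, 42), (38, 43), (38, 44), (38, 45),
    (38, 46), (38, 47), (39, 40), (39, 41), (39, 42), (39, 43), (39, 44), (39, 45), (39, 46), (39, 47),
    (40, 41), (40, 42), (40, 43), (40, 44), (40, 45), (40, 46), (40, 47), (41, 42), (41, 43), (41, 44),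
    (41, 45), (41, 46), (41, 47), (42, 43), (42, 44), (42, 45), (42, 46), (42, 47), (43, 44), (43, 45),
    (43, 46), (43, 47), (44, 45), (44, 46), (44, 47), (45, 46), (45, 47), (46, 47)]

/-- The pairs of positive roots of `F₄` whose sum is a root, with an even structure constant. -/
def f4EvenPairs : List (Fin 48 × Fin 48 × Fin 48 × ℤ) :=
  [(27, 28, 30, 2), (27, 29, 31, 2), (27, 44, 45, 2), (28, 29, 32, 2), (28, 44, 46, 2), (29, 44, 47, 2),
    (33, 37, 41, 2), (33, 38, 42, 2), (33, 39, 43, 2), (34, 35, 41, -2), (34, 36, 42, -2), (34, 40, 45, 2),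
    (35, 36, 43, -2), (35, 40, 46, 2), (36, 40, 47, 2), (37, 38, 45, -2), (37, 39, 46, -2), (38, 39, 47, -2)]

/-- The pairs of positive roots of `F₄` with a single commutator term, with an odd structure constant. -/
def f4SumPairs : List (Fin 48 × Fin 48 × Fin 48 × ℤ) :=
  [(24, 25, 26, 1), (24, 30, 31, 1), (24, 41, 42, 1), (24, 46, 47, 1), (25, 31, 32, 1), (25, 42, 43, 1),
    (25, 45, 46, 1), (26, 30, 32, -1), (26, 41, 43, -1), (26, 45, 47, 1), (27, 33, 34, 1), (27, 35, 37, 1),
    (27, 36, 38, 1), (27, 39, 40, 1), (28, 33, 35, 1), (28, 34, 37, -1), (28, 36, 39, 1), (28, 38, 40, -1),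
    (29, 33, 36, 1), (29, 34, 38, -1), (29, 35, 39, -1), (29, 37, 40, 1), (30, 42, 45, -1), (30, 43, 46, -1),
    (31, 41, 45, 1), (31, 43, 47, -1), (32, 41, 46, 1), (32, 42, 47, 1), (33, 40, 44, 1), (34, 39, 44, 1),
    (35, 38, 44, -1), (36, 37, 44, 1)]

/-- The pairs `(r, s)` of positive roots of `F₄` with commutator terms `r + s` and `r + 2s`. -/
def f4Dbl12 : List (Fin 48 × Fin 48 × Fin 48 × ℤ × Fin 48 × ℤ) :=
  [(24, 28, 29, 1, 32, -1), (24, 35, 36, 1, 43, 1), (24, 37, 38, 1, 45, 1), (25, 27, 28, 1, 30, -1),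
    (25, 34, 35, 1, 41, 1), (25, 38, 39, 1, 47, 1), (26, 27, 29, 1, 31, -1), (26, 34, 36, 1, 42, 1),
    (26, 37, 39, -1, 46, -1), (30, 33, 37, 1, 41, -1), (30, 36, 40, 1, 47, -1), (31, 33, 38, 1, 42, -1),
    (31, 35, 40, -1, 46, 1), (32, 33, 39, 1, 43, -1), (32, 34, 40, 1, 45, -1)]

/-- The pairs `(r, s)` of positive roots of `F₄` with commutator terms `r + s` and `2r + s`. -/
def f4Dbl21 : List (Fin 48 × Fin 48 × Fin 48 × ℤ × Fin 48 × ℤ) :=
  [(27, 43, 44, 1, 45, 1), (28, 42, 44, -1, 46, -1), (29, 41, 44, 1, 47, 1)]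

set_option maxRecDepth 1000000 in
theorem f4_nil_pairs_fast : ∀ p ∈ f4NilPairs,
    fastF4.commTerms p.1.val p.2.val = [] ∧ p.2.val ≠ p.1.val ∧ p.2.val ≠ 47 - p.1.val := by
  decide +kernel

set_option maxRecDepth 1000000 in
theorem f4_even_pairs_fast : ∀ p ∈ f4EvenPairs,
    fastF4.commTerms p.1.val p.2.1.val = [(p.2.2.1.val, p.2.2.2, 1, 1)] ∧ p.2.1.val ≠ p.1.val ∧
      p.2.1.val ≠ 47 - p.1.val ∧ (p.2.2.2 = 2 ∨ p.2.2.2 = -2) := by
  decide +kernel

set_option maxRecDepth 1000000 in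
theorem f4_sum_pairs_fast : ∀ p ∈ f4SumPairs,
    fastF4.commTerms p.1.val p.2.1.val = [(p.2.2.1.val, p.2.2.2, 1, 1)] ∧ p.2.1.val ≠ p.1.val ∧
      p.2.1.val ≠ 47 - p.1.val ∧ (p.2.2.2 = 1 ∨ p.2.2.2 = -1) := by
  decide +kernel

set_option maxRecDepth 1000000 in
theorem f4_dbl12_fast : ∀ p ∈ f4Dbl12,
    fastF4.commTerms p.1.val p.2.1.val =
        [(p.2.2.1.val, p.2.2.2.1, 1, 1), (p.2.2.2.2.1.val, p.2.2.2.2.2, 1, 2)] ∧
      p.2.1.val ≠ p.1.val ∧ p.2.1.val ≠ 47 - p.1.val ∧ (p.2.2.2.1 = 1 ∨ p.2.2.2.1 = -1) ∧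
      (p.2.2.2.2.2 = 1 ∨ p.2.2.2.2.2 = -1) := by
  decide +kernel

set_option maxRecDepth 1000000 in
theorem f4_dbl21_fast : ∀ p ∈ f4Dbl21,
    fastF4.commTerms p.1.val p.2.1.val =
        [(p.2.2.1.val, p.2.2.2.1, 1, 1), (p.2.2.2.2.1.val, p.2.2.2.2.2, 2, 1)] ∧
      p.2.1.val ≠ p.1.val ∧ p.2.1.val ≠ 47 - p.1.val ∧ (p.2.2.2.1 = 1 ∨ p.2.2.2.1 = -1) ∧
      (p.2.2.2.2.2 = 1 ∨ p.2.2.2.2.2 = -1) := by
  decide +kernel

theorem f4_neg_fin (r : Fin 48) : chevF4.neg r.val = 47 - r.val := f4_neg_eq r.val r.2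

theorem f4_commTerms_fast (r s : ℕ) : chevF4.commTerms r s = fastF4.commTerms r s := by
  rw [← commTerms_eq, tab_F4]

section char2

variable [CharP K 2]

theorem cast_odd_char2 {c : ℤ} (h : c = 1 ∨ c = -1) : ((c : ℤ) : K) = 1 := by
  rcases h with h | h
  · rw [h]; push_cast; rfl
  · rw [h]; push_cast; exact neg_eq_self_char2 1

theorem cast_even_char2 {c : ℤ} (h : c = 2 ∨ c = -2) : ((c : ℤ) : K) = 0 := by
  have h2 := two_eq_zero' (K := K)
  rcases h with h | h
  · rw [h]; push_cast; exact h2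
  · rw [h]; push_cast; rw [h2, neg_zero]

/-- Positive root elements of `F₄` whose roots do not add up to a root commute. -/
theorem fx_comm_of_nil {r s : Fin 48} (h : (r, s) ∈ f4NilPairs) (t u : K) :
    fx K s u * fx K r t = fx K r t * fx K s u := by
  obtain ⟨h1, h2, h3⟩ := f4_nil_pairs_fast (r, s) h
  exact fx_swap_nil h2 (by rw [f4_neg_fin]; exact h3) (by rw [f4_commTerms_fast]; exact h1) t u

/-- Positive root elements of `F₄` with an even structure constant commute in characteristic two. -/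
theorem fx_comm_of_even {r s q : Fin 48} {c : ℤ} (h : (r, s, q, c) ∈ f4EvenPairs) (t u : K) :
    fx K s u * fx K r t = fx K r t * fx K s u := by
  obtain ⟨h1, h2, h3, h4⟩ := f4_even_pairs_fast (r, s, q, c) h
  rw [fx_swap_single h2 (by rw [f4_neg_fin]; exact h3) (by rw [f4_commTerms_fast]; exact h1) t u]
  simp only at h4
  rw [cast_even_char2 h4, zero_mul, zero_mul, fx_zero, mul_one]

/-- The commutation relation of two positive root elements whose roots add up to a root, in characteristic two. -/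
theorem fx_comm_of_sum {r s q : Fin 48} {c : ℤ} (h : (r, s, q, c) ∈ f4SumPairs) (u t : K) :
    fx K s u * fx K r t = fx K r t * fx K s u * fx K q (t * u) := by
  obtain ⟨h1, h2, h3, h4⟩ := f4_sum_pairs_fast (r, s, q, c) h
  rw [fx_swap_single h2 (by rw [f4_neg_fin]; exact h3) (by rw [f4_commTerms_fast]; exact h1) t u]
  simp only at h4
  rw [cast_odd_char2 h4, neg_eq_self_char2, pow_one, pow_one, one_mul]

/-- The commutation relation with the terms `r + s`, `r + 2s`, in characteristic two. -/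
theorem fx_comm_of_dbl12 {r s q q' : Fin 48} {c c' : ℤ} (h : (r, s, q, c, q', c') ∈ f4Dbl12) (u t : K) :
    fx K s u * fx K r t = fx K r t * fx K s u * (fx K q (t * u) * fx K q' (t * u ^ 2)) := by
  obtain ⟨h1, h2, h3, h4, h5⟩ := f4_dbl12_fast (r, s, q, c, q', c') h
  rw [fx_swap_double h2 (by rw [f4_neg_fin]; exact h3) (by rw [f4_commTerms_fast]; exact h1) t u]
  simp only at h4 h5
  rw [cast_odd_char2 h4, cast_odd_char2 h5, neg_eq_self_char2, pow_one, pow_one]
  simp only [one_mul]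

/-- The commutation relation with the terms `r + s`, `2r + s`, in characteristic two. -/
theorem fx_comm_of_dbl21 {r s q q' : Fin 48} {c c' : ℤ} (h : (r, s, q, c, q', c') ∈ f4Dbl21) (u t : K) :
    fx K s u * fx K r t = fx K r t * fx K s u * (fx K q (t * u) * fx K q' (t ^ 2 * u)) := by
  obtain ⟨h1, h2, h3, h4, h5⟩ := f4_dbl21_fast (r, s, q, c, q', c') h
  rw [fx_swap_double h2 (by rw [f4_neg_fin]; exact h3) (by rw [f4_commTerms_fast]; exact h1) t u]
  simp only at h4 h5
  rw [cast_odd_char2 h4, cast_odd_char2 h5, neg_eq_self_char2, pow_one, pow_one]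
  simp only [one_mul]

theorem fx_sq2 (r : Fin 48) (a : K) : fx K r a * fx K r a = 1 := by
  rw [fx_add, add_self_char2, fx_zero]

end char2

end Cfsg.Agent.Helper7.Chev
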