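import Mathlib
import Cfsg.Agent.Helper7.F4InvA

set_option autoImplicit false
set_option linter.unusedSectionVars false
set_option linter.unusedVariables false

/-!
The normal form in the group `U` of `F₄` in characteristic two, and left multiplication by root elements
(generated text).
-/

namespace Cfsg.Agent.Helper7.Chev

open Cfsg Cfsg.Lie Matrix
open scoped Pointwise

variable {K : Type*} [Field K]

noncomputable def fw47 (t47 : K) : GL chevF4.Idx K := fx K 47 t47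
noncomputable def fw46 (t46 t47 : K) : GL chevF4.Idx K := fx K 46 t46 * fw47 t47
noncomputable def fw45 (t45 t46 t47 : K) : GL chevF4.Idx K := fx K 45 t45 * fw46 t46 t47
noncomputable def fw44 (t44 t45 t46 t47 : K) : GL chevF4.Idx K := fx K 44 t44 * fw45 t45 t46 t47
noncomputable def fw43 (t43 t44 t45 t46 t47 : K) : GL chevF4.Idx K := fx K 43 t43 * fw44 t44 t45 t46 t47
noncomputable def fw42 (t42 t43 t44 t45 t46 t47 : K) : GL chevF4.Idx K := fx K 42 t42 * fw43 t43 t44 t45 t46 t47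
noncomputable def fw41 (t41 t42 t43 t44 t45 t46 t47 : K) : GL chevF4.Idx K := fx K 41 t41 * fw42 t42 t43 t44 t45 t46 t47
noncomputable def fw40 (t40 t41 t42 t43 t44 t45 t46 t47 : K) : GL chevF4.Idx K := fx K 40 t40 * fw41 t41 t42 t43 t44 t45 t46 t47
noncomputable def fw39 (t39 t40 t41 t42 t43 t44 t45 t46 t47 : K) : GL chevF4.Idx K := fx K 39 t39 * fw40 t40 t41 t42 t43 t44 t45 t46 t47
noncomputable def fw38 (t38 t39 t40 t41 t42 t43 t44 t45 t46 t47 : K) : GL chevF4.Idx K := fx K 38 t38 * fw39 t39 t40 t41 t42 t43 t44 t45 t46 t47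
noncomputable def fw37 (t37 t38 t39 t40 t41 t42 t43 t44 t45 t46 t47 : K) : GL chevF4.Idx K := fx K 37 t37 * fw38 t38 t39 t40 t41 t42 t43 t44 t45 t46 t47
noncomputable def fw36 (t36 t37 t38 t39 t40 t41 t42 t43 t44 t45 t46 t47 : K) : GL chevF4.Idx K := fx K 36 t36 * fw37 t37 t38 t39 t40 t41 t42 t43 t44 t45 t46 t47
noncomputable def fw35 (t35 t36 t37 t38 t39 t40 t41 t42 t43 t44 t45 t46 t47 : K) : GL chevF4.Idx K := fx K 35 t35 * fw36 t36 t37 t38 t39 t40 t41 t42 t43 t44 t45 t46 t47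
noncomputable def fw34 (t34 t35 t36 t37 t38 t39 t40 t41 t42 t43 t44 t45 t46 t47 : K) : GL chevF4.Idx K := fx K 34 t34 * fw35 t35 t36 t37 t38 t39 t40 t41 t42 t43 t44 t45 t46 t47
noncomputable def fw33 (t33 t34 t35 t36 t37 t38 t39 t40 t41 t42 t43 t44 t45 t46 t47 : K) : GL chevF4.Idx K := fx K 33 t33 * fw34 t34 t35 t36 t37 t38 t39 t40 t41 t42 t43 t44 t45 t46 t47
noncomputable def fw32 (t32 t33 t34 t35 t36 t37 t38 t39 t40 t41 t42 t43 t44 t45 t46 t47 : K) : GL chevF4.Idx K := fx K 32 t32 * fw33 t33 t34 t35 t36 t37 t38 t39 t40 t41 t42 t43 t44 t45 t46 t47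
noncomputable def fw31 (t31 t32 t33 t34 t35 t36 t37 t38 t39 t40 t41 t42 t43 t44 t45 t46 t47 : K) : GL chevF4.Idx K := fx K 31 t31 * fw32 t32 t33 t34 t35 t36 t37 t38 t39 t40 t41 t42 t43 t44 t45 t46 t47
noncomputable def fw30 (t30 t31 t32 t33 t34 t35 t36 t37 t38 t39 t40 t41 t42 t43 t44 t45 t46 t47 : K) : GL chevF4.Idx K := fx K 30 t30 * fw31 t31 t32 t33 t34 t35 t36 t37 t38 t39 t40 t41 t42 t43 t44 t45 t46 t47
noncomputable def fw29 (t29 t30 t31 t32 t33 t34 t35 t36 t37 t38 t39 t40 t41 t42 t43 t44 t45 t46 t47 : K) : GL chevF4.Idx K := fx K 29 t29 * fw30 t30 t31 t32 t33 t34 t35 t36 t37 t38 t39 t40 t41 t42 t43 t44 t45 t46 t47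
noncomputable def fw28 (t28 t29 t30 t31 t32 t33 t34 t35 t36 t37 t38 t39 t40 t41 t42 t43 t44 t45 t46 t47 : K) : GL chevF4.Idx K := fx K 28 t28 * fw29 t29 t30 t31 t32 t33 t34 t35 t36 t37 t38 t39 t40 t41 t42 t43 t44 t45 t46 t47
noncomputable def fw27 (t27 t28 t29 t30 t31 t32 t33 t34 t35 t36 t37 t38 t39 t40 t41 t42 t43 t44 t45 t46 t47 : K) : GL chevF4.Idx K := fx K 27 t27 * fw28 t28 t29 t30 t31 t32 t33 t34 t35 t36 t37 t38 t39 t40 t41 t42 t43 t44 t45 t46 t47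
noncomputable def fw26 (t26 t27 t28 t29 t30 t31 t32 t33 t34 t35 t36 t37 t38 t39 t40 t41 t42 t43 t44 t45 t46 t47 : K) : GL chevF4.Idx K := fx K 26 t26 * fw27 t27 t28 t29 t30 t31 t32 t33 t34 t35 t36 t37 t38 t39 t40 t41 t42 t43 t44 t45 t46 t47
noncomputable def fw25 (t25 t26 t27 t28 t29 t30 t31 t32 t33 t34 t35 t36 t37 t38 t39 t40 t41 t42 t43 t44 t45 t46 t47 : K) : GL chevF4.Idx K := fx K 25 t25 * fw26 t26 t27 t28 t29 t30 t31 t32 t33 t34 t35 t36 t37 t38 t39 t40 t41 t42 t43 t44 t45 t46 t47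
noncomputable def fw24 (t24 t25 t26 t27 t28 t29 t30 t31 t32 t33 t34 t35 t36 t37 t38 t39 t40 t41 t42 t43 t44 t45 t46 t47 : K) : GL chevF4.Idx K := fx K 24 t24 * fw25 t25 t26 t27 t28 t29 t30 t31 t32 t33 t34 t35 t36 t37 t38 t39 t40 t41 t42 t43 t44 t45 t46 t47

section char2

variable [CharP K 2]

theorem fl47_47 (s t47 : K) :
    fx K 47 s * fw47 t47 =
      fw47 (t47 + s) := by
  unfold fw47
  rw [fx_add, add_comm]

theorem fl47_46 (s t46 t47 : K) :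
    fx K 47 s * fw46 t46 t47 =
      fw46 t46 (t47 + s) := by
  unfold fw46
  rw [← mul_assoc, fx_comm_of_nil (r := 46) (s := 47) (by decide), mul_assoc, fl47_47]

theorem fl46_46 (s t46 t47 : K) :
    fx K 46 s * fw46 t46 t47 =
      fw46 (t46 + s) t47 := by
  unfold fw46
  rw [← mul_assoc, fx_add, add_comm]

theorem fl47_45 (s t45 t46 t47 : K) :
    fx K 47 s * fw45 t45 t46 t47 =
      fw45 t45 t46 (t47 + s) := by
  unfold fw45
  rw [← mul_assoc, fx_comm_of_nil (r := 45) (s := 47) (by decide), mul_assoc, fl47_46]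

theorem fl46_45 (s t45 t46 t47 : K) :
    fx K 46 s * fw45 t45 t46 t47 =
      fw45 t45 (t46 + s) t47 := by
  unfold fw45
  rw [← mul_assoc, fx_comm_of_nil (r := 45) (s := 46) (by decide), mul_assoc, fl46_46]

theorem fl45_45 (s t45 t46 t47 : K) :
    fx K 45 s * fw45 t45 t46 t47 =
      fw45 (t45 + s) t46 t47 := by
  unfold fw45
  rw [← mul_assoc, fx_add, add_comm]

theorem fl47_44 (s t44 t45 t46 t47 : K) :
    fx K 47 s * fw44 t44 t45 t46 t47 =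
      fw44 t44 t45 t46 (t47 + s) := by
  unfold fw44
  rw [← mul_assoc, fx_comm_of_nil (r := 44) (s := 47) (by decide), mul_assoc, fl47_45]

theorem fl46_44 (s t44 t45 t46 t47 : K) :
    fx K 46 s * fw44 t44 t45 t46 t47 =
      fw44 t44 t45 (t46 + s) t47 := by
  unfold fw44
  rw [← mul_assoc, fx_comm_of_nil (r := 44) (s := 46) (by decide), mul_assoc, fl46_45]

theorem fl45_44 (s t44 t45 t46 t47 : K) :
    fx K 45 s * fw44 t44 t45 t46 t47 =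
      fw44 t44 (t45 + s) t46 t47 := by
  unfold fw44
  rw [← mul_assoc, fx_comm_of_nil (r := 44) (s := 45) (by decide), mul_assoc, fl45_45]

theorem fl44_44 (s t44 t45 t46 t47 : K) :
    fx K 44 s * fw44 t44 t45 t46 t47 =
      fw44 (t44 + s) t45 t46 t47 := by
  unfold fw44
  rw [← mul_assoc, fx_add, add_comm]

theorem fl47_43 (s t43 t44 t45 t46 t47 : K) :
    fx K 47 s * fw43 t43 t44 t45 t46 t47 =
      fw43 t43 t44 t45 t46 (t47 + s) := by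
  unfold fw43
  rw [← mul_assoc, fx_comm_of_nil (r := 43) (s := 47) (by decide), mul_assoc, fl47_44]

theorem fl46_43 (s t43 t44 t45 t46 t47 : K) :
    fx K 46 s * fw43 t43 t44 t45 t46 t47 =
      fw43 t43 t44 t45 (t46 + s) t47 := by
  unfold fw43
  rw [← mul_assoc, fx_comm_of_nil (r := 43) (s := 46) (by decide), mul_assoc, fl46_44]

theorem fl45_43 (s t43 t44 t45 t46 t47 : K) :
    fx K 45 s * fw43 t43 t44 t45 t46 t47 =
      fw43 t43 t44 (t45 + s) t46 t47 := by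
  unfold fw43
  rw [← mul_assoc, fx_comm_of_nil (r := 43) (s := 45) (by decide), mul_assoc, fl45_44]

theorem fl44_43 (s t43 t44 t45 t46 t47 : K) :
    fx K 44 s * fw43 t43 t44 t45 t46 t47 =
      fw43 t43 (t44 + s) t45 t46 t47 := by
  unfold fw43
  rw [← mul_assoc, fx_comm_of_nil (r := 43) (s := 44) (by decide), mul_assoc, fl44_44]

theorem fl43_43 (s t43 t44 t45 t46 t47 : K) :
    fx K 43 s * fw43 t43 t44 t45 t46 t47 =
      fw43 (t43 + s) t44 t45 t46 t47 := by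
  unfold fw43
  rw [← mul_assoc, fx_add, add_comm]

theorem fl47_42 (s t42 t43 t44 t45 t46 t47 : K) :
    fx K 47 s * fw42 t42 t43 t44 t45 t46 t47 =
      fw42 t42 t43 t44 t45 t46 (t47 + s) := by
  unfold fw42
  rw [← mul_assoc, fx_comm_of_nil (r := 42) (s := 47) (by decide), mul_assoc, fl47_43]

theorem fl46_42 (s t42 t43 t44 t45 t46 t47 : K) :
    fx K 46 s * fw42 t42 t43 t44 t45 t46 t47 =
      fw42 t42 t43 t44 t45 (t46 + s) t47 := by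
  unfold fw42
  rw [← mul_assoc, fx_comm_of_nil (r := 42) (s := 46) (by decide), mul_assoc, fl46_43]

theorem fl45_42 (s t42 t43 t44 t45 t46 t47 : K) :
    fx K 45 s * fw42 t42 t43 t44 t45 t46 t47 =
      fw42 t42 t43 t44 (t45 + s) t46 t47 := by
  unfold fw42
  rw [← mul_assoc, fx_comm_of_nil (r := 42) (s := 45) (by decide), mul_assoc, fl45_43]

theorem fl44_42 (s t42 t43 t44 t45 t46 t47 : K) :
    fx K 44 s * fw42 t42 t43 t44 t45 t46 t47 =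
      fw42 t42 t43 (t44 + s) t45 t46 t47 := by
  unfold fw42
  rw [← mul_assoc, fx_comm_of_nil (r := 42) (s := 44) (by decide), mul_assoc, fl44_43]

theorem fl43_42 (s t42 t43 t44 t45 t46 t47 : K) :
    fx K 43 s * fw42 t42 t43 t44 t45 t46 t47 =
      fw42 t42 (t43 + s) t44 t45 t46 t47 := by
  unfold fw42
  rw [← mul_assoc, fx_comm_of_nil (r := 42) (s := 43) (by decide), mul_assoc, fl43_43]

theorem fl42_42 (s t42 t43 t44 t45 t46 t47 : K) :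
    fx K 42 s * fw42 t42 t43 t44 t45 t46 t47 =
      fw42 (t42 + s) t43 t44 t45 t46 t47 := by
  unfold fw42
  rw [← mul_assoc, fx_add, add_comm]

theorem fl47_41 (s t41 t42 t43 t44 t45 t46 t47 : K) :
    fx K 47 s * fw41 t41 t42 t43 t44 t45 t46 t47 =
      fw41 t41 t42 t43 t44 t45 t46 (t47 + s) := by
  unfold fw41
  rw [← mul_assoc, fx_comm_of_nil (r := 41) (s := 47) (by decide), mul_assoc, fl47_42]

theorem fl46_41 (s t41 t42 t43 t44 t45 t46 t47 : K) :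
    fx K 46 s * fw41 t41 t42 t43 t44 t45 t46 t47 =
      fw41 t41 t42 t43 t44 t45 (t46 + s) t47 := by
  unfold fw41
  rw [← mul_assoc, fx_comm_of_nil (r := 41) (s := 46) (by decide), mul_assoc, fl46_42]

theorem fl45_41 (s t41 t42 t43 t44 t45 t46 t47 : K) :
    fx K 45 s * fw41 t41 t42 t43 t44 t45 t46 t47 =
      fw41 t41 t42 t43 t44 (t45 + s) t46 t47 := by
  unfold fw41
  rw [← mul_assoc, fx_comm_of_nil (r := 41) (s := 45) (by decide), mul_assoc, fl45_42]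

theorem fl44_41 (s t41 t42 t43 t44 t45 t46 t47 : K) :
    fx K 44 s * fw41 t41 t42 t43 t44 t45 t46 t47 =
      fw41 t41 t42 t43 (t44 + s) t45 t46 t47 := by
  unfold fw41
  rw [← mul_assoc, fx_comm_of_nil (r := 41) (s := 44) (by decide), mul_assoc, fl44_42]

theorem fl43_41 (s t41 t42 t43 t44 t45 t46 t47 : K) :
    fx K 43 s * fw41 t41 t42 t43 t44 t45 t46 t47 =
      fw41 t41 t42 (t43 + s) t44 t45 t46 t47 := by
  unfold fw41
  rw [← mul_assoc, fx_comm_of_nil (r := 41) (s := 43) (by decide), mul_assoc, fl43_42]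

theorem fl42_41 (s t41 t42 t43 t44 t45 t46 t47 : K) :
    fx K 42 s * fw41 t41 t42 t43 t44 t45 t46 t47 =
      fw41 t41 (t42 + s) t43 t44 t45 t46 t47 := by
  unfold fw41
  rw [← mul_assoc, fx_comm_of_nil (r := 41) (s := 42) (by decide), mul_assoc, fl42_42]

theorem fl41_41 (s t41 t42 t43 t44 t45 t46 t47 : K) :
    fx K 41 s * fw41 t41 t42 t43 t44 t45 t46 t47 =
      fw41 (t41 + s) t42 t43 t44 t45 t46 t47 := by
  unfold fw41
  rw [← mul_assoc, fx_add, add_comm]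

theorem fl47_40 (s t40 t41 t42 t43 t44 t45 t46 t47 : K) :
    fx K 47 s * fw40 t40 t41 t42 t43 t44 t45 t46 t47 =
      fw40 t40 t41 t42 t43 t44 t45 t46 (t47 + s) := by
  unfold fw40
  rw [← mul_assoc, fx_comm_of_nil (r := 40) (s := 47) (by decide), mul_assoc, fl47_41]

theorem fl46_40 (s t40 t41 t42 t43 t44 t45 t46 t47 : K) :
    fx K 46 s * fw40 t40 t41 t42 t43 t44 t45 t46 t47 =
      fw40 t40 t41 t42 t43 t44 t45 (t46 + s) t47 := by
  unfold fw40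
  rw [← mul_assoc, fx_comm_of_nil (r := 40) (s := 46) (by decide), mul_assoc, fl46_41]

theorem fl45_40 (s t40 t41 t42 t43 t44 t45 t46 t47 : K) :
    fx K 45 s * fw40 t40 t41 t42 t43 t44 t45 t46 t47 =
      fw40 t40 t41 t42 t43 t44 (t45 + s) t46 t47 := by
  unfold fw40
  rw [← mul_assoc, fx_comm_of_nil (r := 40) (s := 45) (by decide), mul_assoc, fl45_41]

theorem fl44_40 (s t40 t41 t42 t43 t44 t45 t46 t47 : K) :
    fx K 44 s * fw40 t40 t41 t42 t43 t44 t45 t46 t47 =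
      fw40 t40 t41 t42 t43 (t44 + s) t45 t46 t47 := by
  unfold fw40
  rw [← mul_assoc, fx_comm_of_nil (r := 40) (s := 44) (by decide), mul_assoc, fl44_41]

theorem fl43_40 (s t40 t41 t42 t43 t44 t45 t46 t47 : K) :
    fx K 43 s * fw40 t40 t41 t42 t43 t44 t45 t46 t47 =
      fw40 t40 t41 t42 (t43 + s) t44 t45 t46 t47 := by
  unfold fw40
  rw [← mul_assoc, fx_comm_of_nil (r := 40) (s := 43) (by decide), mul_assoc, fl43_41]

theorem fl42_40 (s t40 t41 t42 t43 t44 t45 t46 t47 : K) :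
    fx K 42 s * fw40 t40 t41 t42 t43 t44 t45 t46 t47 =
      fw40 t40 t41 (t42 + s) t43 t44 t45 t46 t47 := by
  unfold fw40
  rw [← mul_assoc, fx_comm_of_nil (r := 40) (s := 42) (by decide), mul_assoc, fl42_41]

theorem fl41_40 (s t40 t41 t42 t43 t44 t45 t46 t47 : K) :
    fx K 41 s * fw40 t40 t41 t42 t43 t44 t45 t46 t47 =
      fw40 t40 (t41 + s) t42 t43 t44 t45 t46 t47 := by
  unfold fw40
  rw [← mul_assoc, fx_comm_of_nil (r := 40) (s := 41) (by decide), mul_assoc, fl41_41]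

theorem fl40_40 (s t40 t41 t42 t43 t44 t45 t46 t47 : K) :
    fx K 40 s * fw40 t40 t41 t42 t43 t44 t45 t46 t47 =
      fw40 (t40 + s) t41 t42 t43 t44 t45 t46 t47 := by
  unfold fw40
  rw [← mul_assoc, fx_add, add_comm]

theorem fl47_39 (s t39 t40 t41 t42 t43 t44 t45 t46 t47 : K) :
    fx K 47 s * fw39 t39 t40 t41 t42 t43 t44 t45 t46 t47 =
      fw39 t39 t40 t41 t42 t43 t44 t45 t46 (t47 + s) := by
  unfold fw39
  rw [← mul_assoc, fx_comm_of_nil (r := 39) (s := 47) (by decide), mul_assoc, fl47_40]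

theorem fl46_39 (s t39 t40 t41 t42 t43 t44 t45 t46 t47 : K) :
    fx K 46 s * fw39 t39 t40 t41 t42 t43 t44 t45 t46 t47 =
      fw39 t39 t40 t41 t42 t43 t44 t45 (t46 + s) t47 := by
  unfold fw39
  rw [← mul_assoc, fx_comm_of_nil (r := 39) (s := 46) (by decide), mul_assoc, fl46_40]

theorem fl45_39 (s t39 t40 t41 t42 t43 t44 t45 t46 t47 : K) :
    fx K 45 s * fw39 t39 t40 t41 t42 t43 t44 t45 t46 t47 =
      fw39 t39 t40 t41 t42 t43 t44 (t45 + s) t46 t47 := by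
  unfold fw39
  rw [← mul_assoc, fx_comm_of_nil (r := 39) (s := 45) (by decide), mul_assoc, fl45_40]

theorem fl44_39 (s t39 t40 t41 t42 t43 t44 t45 t46 t47 : K) :
    fx K 44 s * fw39 t39 t40 t41 t42 t43 t44 t45 t46 t47 =
      fw39 t39 t40 t41 t42 t43 (t44 + s) t45 t46 t47 := by
  unfold fw39
  rw [← mul_assoc, fx_comm_of_nil (r := 39) (s := 44) (by decide), mul_assoc, fl44_40]

theorem fl43_39 (s t39 t40 t41 t42 t43 t44 t45 t46 t47 : K) :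
    fx K 43 s * fw39 t39 t40 t41 t42 t43 t44 t45 t46 t47 =
      fw39 t39 t40 t41 t42 (t43 + s) t44 t45 t46 t47 := by
  unfold fw39
  rw [← mul_assoc, fx_comm_of_nil (r := 39) (s := 43) (by decide), mul_assoc, fl43_40]

theorem fl42_39 (s t39 t40 t41 t42 t43 t44 t45 t46 t47 : K) :
    fx K 42 s * fw39 t39 t40 t41 t42 t43 t44 t45 t46 t47 =
      fw39 t39 t40 t41 (t42 + s) t43 t44 t45 t46 t47 := by
  unfold fw39
  rw [← mul_assoc, fx_comm_of_nil (r := 39) (s := 42) (by decide), mul_assoc, fl42_40]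

theorem fl41_39 (s t39 t40 t41 t42 t43 t44 t45 t46 t47 : K) :
    fx K 41 s * fw39 t39 t40 t41 t42 t43 t44 t45 t46 t47 =
      fw39 t39 t40 (t41 + s) t42 t43 t44 t45 t46 t47 := by
  unfold fw39
  rw [← mul_assoc, fx_comm_of_nil (r := 39) (s := 41) (by decide), mul_assoc, fl41_40]

theorem fl40_39 (s t39 t40 t41 t42 t43 t44 t45 t46 t47 : K) :
    fx K 40 s * fw39 t39 t40 t41 t42 t43 t44 t45 t46 t47 =
      fw39 t39 (t40 + s) t41 t42 t43 t44 t45 t46 t47 := by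
  unfold fw39
  rw [← mul_assoc, fx_comm_of_nil (r := 39) (s := 40) (by decide), mul_assoc, fl40_40]

theorem fl39_39 (s t39 t40 t41 t42 t43 t44 t45 t46 t47 : K) :
    fx K 39 s * fw39 t39 t40 t41 t42 t43 t44 t45 t46 t47 =
      fw39 (t39 + s) t40 t41 t42 t43 t44 t45 t46 t47 := by
  unfold fw39
  rw [← mul_assoc, fx_add, add_comm]

theorem fl47_38 (s t38 t39 t40 t41 t42 t43 t44 t45 t46 t47 : K) :
    fx K 47 s * fw38 t38 t39 t40 t41 t42 t43 t44 t45 t46 t47 =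
      fw38 t38 t39 t40 t41 t42 t43 t44 t45 t46 (t47 + s) := by
  unfold fw38
  rw [← mul_assoc, fx_comm_of_nil (r := 38) (s := 47) (by decide), mul_assoc, fl47_39]

theorem fl46_38 (s t38 t39 t40 t41 t42 t43 t44 t45 t46 t47 : K) :
    fx K 46 s * fw38 t38 t39 t40 t41 t42 t43 t44 t45 t46 t47 =
      fw38 t38 t39 t40 t41 t42 t43 t44 t45 (t46 + s) t47 := by
  unfold fw38
  rw [← mul_assoc, fx_comm_of_nil (r := 38) (s := 46) (by decide), mul_assoc, fl46_39]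

theorem fl45_38 (s t38 t39 t40 t41 t42 t43 t44 t45 t46 t47 : K) :
    fx K 45 s * fw38 t38 t39 t40 t41 t42 t43 t44 t45 t46 t47 =
      fw38 t38 t39 t40 t41 t42 t43 t44 (t45 + s) t46 t47 := by
  unfold fw38
  rw [← mul_assoc, fx_comm_of_nil (r := 38) (s := 45) (by decide), mul_assoc, fl45_39]

theorem fl44_38 (s t38 t39 t40 t41 t42 t43 t44 t45 t46 t47 : K) :
    fx K 44 s * fw38 t38 t39 t40 t41 t42 t43 t44 t45 t46 t47 =
      fw38 t38 t39 t40 t41 t42 t43 (t44 + s) t45 t46 t47 := by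
  unfold fw38
  rw [← mul_assoc, fx_comm_of_nil (r := 38) (s := 44) (by decide), mul_assoc, fl44_39]

theorem fl43_38 (s t38 t39 t40 t41 t42 t43 t44 t45 t46 t47 : K) :
    fx K 43 s * fw38 t38 t39 t40 t41 t42 t43 t44 t45 t46 t47 =
      fw38 t38 t39 t40 t41 t42 (t43 + s) t44 t45 t46 t47 := by
  unfold fw38
  rw [← mul_assoc, fx_comm_of_nil (r := 38) (s := 43) (by decide), mul_assoc, fl43_39]

theorem fl42_38 (s t38 t39 t40 t41 t42 t43 t44 t45 t46 t47 : K) :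
    fx K 42 s * fw38 t38 t39 t40 t41 t42 t43 t44 t45 t46 t47 =
      fw38 t38 t39 t40 t41 (t42 + s) t43 t44 t45 t46 t47 := by
  unfold fw38
  rw [← mul_assoc, fx_comm_of_nil (r := 38) (s := 42) (by decide), mul_assoc, fl42_39]

theorem fl41_38 (s t38 t39 t40 t41 t42 t43 t44 t45 t46 t47 : K) :
    fx K 41 s * fw38 t38 t39 t40 t41 t42 t43 t44 t45 t46 t47 =
      fw38 t38 t39 t40 (t41 + s) t42 t43 t44 t45 t46 t47 := by
  unfold fw38
  rw [← mul_assoc, fx_comm_of_nil (r := 38) (s := 41) (by decide), mul_assoc, fl41_39]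

theorem fl40_38 (s t38 t39 t40 t41 t42 t43 t44 t45 t46 t47 : K) :
    fx K 40 s * fw38 t38 t39 t40 t41 t42 t43 t44 t45 t46 t47 =
      fw38 t38 t39 (t40 + s) t41 t42 t43 t44 t45 t46 t47 := by
  unfold fw38
  rw [← mul_assoc, fx_comm_of_nil (r := 38) (s := 40) (by decide), mul_assoc, fl40_39]

theorem fl39_38 (s t38 t39 t40 t41 t42 t43 t44 t45 t46 t47 : K) :
    fx K 39 s * fw38 t38 t39 t40 t41 t42 t43 t44 t45 t46 t47 =
      fw38 t38 (t39 + s) t40 t41 t42 t43 t44 t45 t46 t47 := by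
  unfold fw38
  rw [← mul_assoc, fx_comm_of_even (r := 38) (s := 39) (q := 47) (c := -2) (by decide), mul_assoc, fl39_39]

theorem fl38_38 (s t38 t39 t40 t41 t42 t43 t44 t45 t46 t47 : K) :
    fx K 38 s * fw38 t38 t39 t40 t41 t42 t43 t44 t45 t46 t47 =
      fw38 (t38 + s) t39 t40 t41 t42 t43 t44 t45 t46 t47 := by
  unfold fw38
  rw [← mul_assoc, fx_add, add_comm]

theorem fl47_37 (s t37 t38 t39 t40 t41 t42 t43 t44 t45 t46 t47 : K) :
    fx K 47 s * fw37 t37 t38 t39 t40 t41 t42 t43 t44 t45 t46 t47 =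
      fw37 t37 t38 t39 t40 t41 t42 t43 t44 t45 t46 (t47 + s) := by
  unfold fw37
  rw [← mul_assoc, fx_comm_of_nil (r := 37) (s := 47) (by decide), mul_assoc, fl47_38]

theorem fl46_37 (s t37 t38 t39 t40 t41 t42 t43 t44 t45 t46 t47 : K) :
    fx K 46 s * fw37 t37 t38 t39 t40 t41 t42 t43 t44 t45 t46 t47 =
      fw37 t37 t38 t39 t40 t41 t42 t43 t44 t45 (t46 + s) t47 := by
  unfold fw37
  rw [← mul_assoc, fx_comm_of_nil (r := 37) (s := 46) (by decide), mul_assoc, fl46_38]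

theorem fl45_37 (s t37 t38 t39 t40 t41 t42 t43 t44 t45 t46 t47 : K) :
    fx K 45 s * fw37 t37 t38 t39 t40 t41 t42 t43 t44 t45 t46 t47 =
      fw37 t37 t38 t39 t40 t41 t42 t43 t44 (t45 + s) t46 t47 := by
  unfold fw37
  rw [← mul_assoc, fx_comm_of_nil (r := 37) (s := 45) (by decide), mul_assoc, fl45_38]

theorem fl44_37 (s t37 t38 t39 t40 t41 t42 t43 t44 t45 t46 t47 : K) :
    fx K 44 s * fw37 t37 t38 t39 t40 t41 t42 t43 t44 t45 t46 t47 =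
      fw37 t37 t38 t39 t40 t41 t42 t43 (t44 + s) t45 t46 t47 := by
  unfold fw37
  rw [← mul_assoc, fx_comm_of_nil (r := 37) (s := 44) (by decide), mul_assoc, fl44_38]

theorem fl43_37 (s t37 t38 t39 t40 t41 t42 t43 t44 t45 t46 t47 : K) :
    fx K 43 s * fw37 t37 t38 t39 t40 t41 t42 t43 t44 t45 t46 t47 =
      fw37 t37 t38 t39 t40 t41 t42 (t43 + s) t44 t45 t46 t47 := by
  unfold fw37
  rw [← mul_assoc, fx_comm_of_nil (r := 37) (s := 43) (by decide), mul_assoc, fl43_38]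

theorem fl42_37 (s t37 t38 t39 t40 t41 t42 t43 t44 t45 t46 t47 : K) :
    fx K 42 s * fw37 t37 t38 t39 t40 t41 t42 t43 t44 t45 t46 t47 =
      fw37 t37 t38 t39 t40 t41 (t42 + s) t43 t44 t45 t46 t47 := by
  unfold fw37
  rw [← mul_assoc, fx_comm_of_nil (r := 37) (s := 42) (by decide), mul_assoc, fl42_38]

theorem fl41_37 (s t37 t38 t39 t40 t41 t42 t43 t44 t45 t46 t47 : K) :
    fx K 41 s * fw37 t37 t38 t39 t40 t41 t42 t43 t44 t45 t46 t47 =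
      fw37 t37 t38 t39 t40 (t41 + s) t42 t43 t44 t45 t46 t47 := by
  unfold fw37
  rw [← mul_assoc, fx_comm_of_nil (r := 37) (s := 41) (by decide), mul_assoc, fl41_38]

theorem fl40_37 (s t37 t38 t39 t40 t41 t42 t43 t44 t45 t46 t47 : K) :
    fx K 40 s * fw37 t37 t38 t39 t40 t41 t42 t43 t44 t45 t46 t47 =
      fw37 t37 t38 t39 (t40 + s) t41 t42 t43 t44 t45 t46 t47 := by
  unfold fw37
  rw [← mul_assoc, fx_comm_of_nil (r := 37) (s := 40) (by decide), mul_assoc, fl40_38]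

theorem fl39_37 (s t37 t38 t39 t40 t41 t42 t43 t44 t45 t46 t47 : K) :
    fx K 39 s * fw37 t37 t38 t39 t40 t41 t42 t43 t44 t45 t46 t47 =
      fw37 t37 t38 (t39 + s) t40 t41 t42 t43 t44 t45 t46 t47 := by
  unfold fw37
  rw [← mul_assoc, fx_comm_of_even (r := 37) (s := 39) (q := 46) (c := -2) (by decide), mul_assoc, fl39_38]

theorem fl38_37 (s t37 t38 t39 t40 t41 t42 t43 t44 t45 t46 t47 : K) :
    fx K 38 s * fw37 t37 t38 t39 t40 t41 t42 t43 t44 t45 t46 t47 =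
      fw37 t37 (t38 + s) t39 t40 t41 t42 t43 t44 t45 t46 t47 := by
  unfold fw37
  rw [← mul_assoc, fx_comm_of_even (r := 37) (s := 38) (q := 45) (c := -2) (by decide), mul_assoc, fl38_38]

theorem fl37_37 (s t37 t38 t39 t40 t41 t42 t43 t44 t45 t46 t47 : K) :
    fx K 37 s * fw37 t37 t38 t39 t40 t41 t42 t43 t44 t45 t46 t47 =
      fw37 (t37 + s) t38 t39 t40 t41 t42 t43 t44 t45 t46 t47 := by
  unfold fw37
  rw [← mul_assoc, fx_add, add_comm]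

theorem fl47_36 (s t36 t37 t38 t39 t40 t41 t42 t43 t44 t45 t46 t47 : K) :
    fx K 47 s * fw36 t36 t37 t38 t39 t40 t41 t42 t43 t44 t45 t46 t47 =
      fw36 t36 t37 t38 t39 t40 t41 t42 t43 t44 t45 t46 (t47 + s) := by
  unfold fw36
  rw [← mul_assoc, fx_comm_of_nil (r := 36) (s := 47) (by decide), mul_assoc, fl47_37]

theorem fl46_36 (s t36 t37 t38 t39 t40 t41 t42 t43 t44 t45 t46 t47 : K) :
    fx K 46 s * fw36 t36 t37 t38 t39 t40 t41 t42 t43 t44 t45 t46 t47 =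
      fw36 t36 t37 t38 t39 t40 t41 t42 t43 t44 t45 (t46 + s) t47 := by
  unfold fw36
  rw [← mul_assoc, fx_comm_of_nil (r := 36) (s := 46) (by decide), mul_assoc, fl46_37]

theorem fl45_36 (s t36 t37 t38 t39 t40 t41 t42 t43 t44 t45 t46 t47 : K) :
    fx K 45 s * fw36 t36 t37 t38 t39 t40 t41 t42 t43 t44 t45 t46 t47 =
      fw36 t36 t37 t38 t39 t40 t41 t42 t43 t44 (t45 + s) t46 t47 := by
  unfold fw36
  rw [← mul_assoc, fx_comm_of_nil (r := 36) (s := 45) (by decide), mul_assoc, fl45_37]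

theorem fl44_36 (s t36 t37 t38 t39 t40 t41 t42 t43 t44 t45 t46 t47 : K) :
    fx K 44 s * fw36 t36 t37 t38 t39 t40 t41 t42 t43 t44 t45 t46 t47 =
      fw36 t36 t37 t38 t39 t40 t41 t42 t43 (t44 + s) t45 t46 t47 := by
  unfold fw36
  rw [← mul_assoc, fx_comm_of_nil (r := 36) (s := 44) (by decide), mul_assoc, fl44_37]

theorem fl43_36 (s t36 t37 t38 t39 t40 t41 t42 t43 t44 t45 t46 t47 : K) :
    fx K 43 s * fw36 t36 t37 t38 t39 t40 t41 t42 t43 t44 t45 t46 t47 =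
      fw36 t36 t37 t38 t39 t40 t41 t42 (t43 + s) t44 t45 t46 t47 := by
  unfold fw36
  rw [← mul_assoc, fx_comm_of_nil (r := 36) (s := 43) (by decide), mul_assoc, fl43_37]

theorem fl42_36 (s t36 t37 t38 t39 t40 t41 t42 t43 t44 t45 t46 t47 : K) :
    fx K 42 s * fw36 t36 t37 t38 t39 t40 t41 t42 t43 t44 t45 t46 t47 =
      fw36 t36 t37 t38 t39 t40 t41 (t42 + s) t43 t44 t45 t46 t47 := by
  unfold fw36
  rw [← mul_assoc, fx_comm_of_nil (r := 36) (s := 42) (by decide), mul_assoc, fl42_37]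

theorem fl41_36 (s t36 t37 t38 t39 t40 t41 t42 t43 t44 t45 t46 t47 : K) :
    fx K 41 s * fw36 t36 t37 t38 t39 t40 t41 t42 t43 t44 t45 t46 t47 =
      fw36 t36 t37 t38 t39 t40 (t41 + s) t42 t43 t44 t45 t46 t47 := by
  unfold fw36
  rw [← mul_assoc, fx_comm_of_nil (r := 36) (s := 41) (by decide), mul_assoc, fl41_37]

theorem fl40_36 (s t36 t37 t38 t39 t40 t41 t42 t43 t44 t45 t46 t47 : K) :
    fx K 40 s * fw36 t36 t37 t38 t39 t40 t41 t42 t43 t44 t45 t46 t47 =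
      fw36 t36 t37 t38 t39 (t40 + s) t41 t42 t43 t44 t45 t46 t47 := by
  unfold fw36
  rw [← mul_assoc, fx_comm_of_even (r := 36) (s := 40) (q := 47) (c := 2) (by decide), mul_assoc, fl40_37]

theorem fl39_36 (s t36 t37 t38 t39 t40 t41 t42 t43 t44 t45 t46 t47 : K) :
    fx K 39 s * fw36 t36 t37 t38 t39 t40 t41 t42 t43 t44 t45 t46 t47 =
      fw36 t36 t37 t38 (t39 + s) t40 t41 t42 t43 t44 t45 t46 t47 := by
  unfold fw36
  rw [← mul_assoc, fx_comm_of_nil (r := 36) (s := 39) (by decide), mul_assoc, fl39_37]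

theorem fl38_36 (s t36 t37 t38 t39 t40 t41 t42 t43 t44 t45 t46 t47 : K) :
    fx K 38 s * fw36 t36 t37 t38 t39 t40 t41 t42 t43 t44 t45 t46 t47 =
      fw36 t36 t37 (t38 + s) t39 t40 t41 t42 t43 t44 t45 t46 t47 := by
  unfold fw36
  rw [← mul_assoc, fx_comm_of_nil (r := 36) (s := 38) (by decide), mul_assoc, fl38_37]

theorem fl37_36 (s t36 t37 t38 t39 t40 t41 t42 t43 t44 t45 t46 t47 : K) :
    fx K 37 s * fw36 t36 t37 t38 t39 t40 t41 t42 t43 t44 t45 t46 t47 =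
      fw36 t36 (t37 + s) t38 t39 t40 t41 t42 t43 (t44 + (t36 * s)) t45 t46 t47 := by
  unfold fw36
  rw [← mul_assoc, fx_comm_of_sum (r := 36) (s := 37) (q := 44) (c := 1) (by decide), mul_assoc, mul_assoc,
    fl44_37, fl37_37]

theorem fl36_36 (s t36 t37 t38 t39 t40 t41 t42 t43 t44 t45 t46 t47 : K) :
    fx K 36 s * fw36 t36 t37 t38 t39 t40 t41 t42 t43 t44 t45 t46 t47 =
      fw36 (t36 + s) t37 t38 t39 t40 t41 t42 t43 t44 t45 t46 t47 := by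
  unfold fw36
  rw [← mul_assoc, fx_add, add_comm]

theorem fl47_35 (s t35 t36 t37 t38 t39 t40 t41 t42 t43 t44 t45 t46 t47 : K) :
    fx K 47 s * fw35 t35 t36 t37 t38 t39 t40 t41 t42 t43 t44 t45 t46 t47 =
      fw35 t35 t36 t37 t38 t39 t40 t41 t42 t43 t44 t45 t46 (t47 + s) := by
  unfold fw35
  rw [← mul_assoc, fx_comm_of_nil (r := 35) (s := 47) (by decide), mul_assoc, fl47_36]

theorem fl46_35 (s t35 t36 t37 t38 t39 t40 t41 t42 t43 t44 t45 t46 t47 : K) :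
    fx K 46 s * fw35 t35 t36 t37 t38 t39 t40 t41 t42 t43 t44 t45 t46 t47 =
      fw35 t35 t36 t37 t38 t39 t40 t41 t42 t43 t44 t45 (t46 + s) t47 := by
  unfold fw35
  rw [← mul_assoc, fx_comm_of_nil (r := 35) (s := 46) (by decide), mul_assoc, fl46_36]

theorem fl45_35 (s t35 t36 t37 t38 t39 t40 t41 t42 t43 t44 t45 t46 t47 : K) :
    fx K 45 s * fw35 t35 t36 t37 t38 t39 t40 t41 t42 t43 t44 t45 t46 t47 =
      fw35 t35 t36 t37 t38 t39 t40 t41 t42 t43 t44 (t45 + s) t46 t47 := by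
  unfold fw35
  rw [← mul_assoc, fx_comm_of_nil (r := 35) (s := 45) (by decide), mul_assoc, fl45_36]

theorem fl44_35 (s t35 t36 t37 t38 t39 t40 t41 t42 t43 t44 t45 t46 t47 : K) :
    fx K 44 s * fw35 t35 t36 t37 t38 t39 t40 t41 t42 t43 t44 t45 t46 t47 =
      fw35 t35 t36 t37 t38 t39 t40 t41 t42 t43 (t44 + s) t45 t46 t47 := by
  unfold fw35
  rw [← mul_assoc, fx_comm_of_nil (r := 35) (s := 44) (by decide), mul_assoc, fl44_36]

theorem fl43_35 (s t35 t36 t37 t38 t39 t40 t41 t42 t43 t44 t45 t46 t47 : K) :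
    fx K 43 s * fw35 t35 t36 t37 t38 t39 t40 t41 t42 t43 t44 t45 t46 t47 =
      fw35 t35 t36 t37 t38 t39 t40 t41 t42 (t43 + s) t44 t45 t46 t47 := by
  unfold fw35
  rw [← mul_assoc, fx_comm_of_nil (r := 35) (s := 43) (by decide), mul_assoc, fl43_36]

theorem fl42_35 (s t35 t36 t37 t38 t39 t40 t41 t42 t43 t44 t45 t46 t47 : K) :
    fx K 42 s * fw35 t35 t36 t37 t38 t39 t40 t41 t42 t43 t44 t45 t46 t47 =
      fw35 t35 t36 t37 t38 t39 t40 t41 (t42 + s) t43 t44 t45 t46 t47 := by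
  unfold fw35
  rw [← mul_assoc, fx_comm_of_nil (r := 35) (s := 42) (by decide), mul_assoc, fl42_36]

theorem fl41_35 (s t35 t36 t37 t38 t39 t40 t41 t42 t43 t44 t45 t46 t47 : K) :
    fx K 41 s * fw35 t35 t36 t37 t38 t39 t40 t41 t42 t43 t44 t45 t46 t47 =
      fw35 t35 t36 t37 t38 t39 t40 (t41 + s) t42 t43 t44 t45 t46 t47 := by
  unfold fw35
  rw [← mul_assoc, fx_comm_of_nil (r := 35) (s := 41) (by decide), mul_assoc, fl41_36]

theorem fl40_35 (s t35 t36 t37 t38 t39 t40 t41 t42 t43 t44 t45 t46 t47 : K) :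
    fx K 40 s * fw35 t35 t36 t37 t38 t39 t40 t41 t42 t43 t44 t45 t46 t47 =
      fw35 t35 t36 t37 t38 t39 (t40 + s) t41 t42 t43 t44 t45 t46 t47 := by
  unfold fw35
  rw [← mul_assoc, fx_comm_of_even (r := 35) (s := 40) (q := 46) (c := 2) (by decide), mul_assoc, fl40_36]

theorem fl39_35 (s t35 t36 t37 t38 t39 t40 t41 t42 t43 t44 t45 t46 t47 : K) :
    fx K 39 s * fw35 t35 t36 t37 t38 t39 t40 t41 t42 t43 t44 t45 t46 t47 =
      fw35 t35 t36 t37 t38 (t39 + s) t40 t41 t42 t43 t44 t45 t46 t47 := by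
  unfold fw35
  rw [← mul_assoc, fx_comm_of_nil (r := 35) (s := 39) (by decide), mul_assoc, fl39_36]

theorem fl38_35 (s t35 t36 t37 t38 t39 t40 t41 t42 t43 t44 t45 t46 t47 : K) :
    fx K 38 s * fw35 t35 t36 t37 t38 t39 t40 t41 t42 t43 t44 t45 t46 t47 =
      fw35 t35 t36 t37 (t38 + s) t39 t40 t41 t42 t43 (t44 + (t35 * s)) t45 t46 t47 := by
  unfold fw35
  rw [← mul_assoc, fx_comm_of_sum (r := 35) (s := 38) (q := 44) (c := -1) (by decide), mul_assoc, mul_assoc,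
    fl44_36, fl38_36]

theorem fl37_35 (s t35 t36 t37 t38 t39 t40 t41 t42 t43 t44 t45 t46 t47 : K) :
    fx K 37 s * fw35 t35 t36 t37 t38 t39 t40 t41 t42 t43 t44 t45 t46 t47 =
      fw35 t35 t36 (t37 + s) t38 t39 t40 t41 t42 t43 (t44 + (t36 * s)) t45 t46 t47 := by
  unfold fw35
  rw [← mul_assoc, fx_comm_of_nil (r := 35) (s := 37) (by decide), mul_assoc, fl37_36]

theorem fl36_35 (s t35 t36 t37 t38 t39 t40 t41 t42 t43 t44 t45 t46 t47 : K) :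
    fx K 36 s * fw35 t35 t36 t37 t38 t39 t40 t41 t42 t43 t44 t45 t46 t47 =
      fw35 t35 (t36 + s) t37 t38 t39 t40 t41 t42 t43 t44 t45 t46 t47 := by
  unfold fw35
  rw [← mul_assoc, fx_comm_of_even (r := 35) (s := 36) (q := 43) (c := -2) (by decide), mul_assoc, fl36_36]

theorem fl35_35 (s t35 t36 t37 t38 t39 t40 t41 t42 t43 t44 t45 t46 t47 : K) :
    fx K 35 s * fw35 t35 t36 t37 t38 t39 t40 t41 t42 t43 t44 t45 t46 t47 =
      fw35 (t35 + s) t36 t37 t38 t39 t40 t41 t42 t43 t44 t45 t46 t47 := by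
  unfold fw35
  rw [← mul_assoc, fx_add, add_comm]

theorem fl47_34 (s t34 t35 t36 t37 t38 t39 t40 t41 t42 t43 t44 t45 t46 t47 : K) :
    fx K 47 s * fw34 t34 t35 t36 t37 t38 t39 t40 t41 t42 t43 t44 t45 t46 t47 =
      fw34 t34 t35 t36 t37 t38 t39 t40 t41 t42 t43 t44 t45 t46 (t47 + s) := by
  unfold fw34
  rw [← mul_assoc, fx_comm_of_nil (r := 34) (s := 47) (by decide), mul_assoc, fl47_35]

theorem fl46_34 (s t34 t35 t36 t37 t38 t39 t40 t41 t42 t43 t44 t45 t46 t47 : K) :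
    fx K 46 s * fw34 t34 t35 t36 t37 t38 t39 t40 t41 t42 t43 t44 t45 t46 t47 =
      fw34 t34 t35 t36 t37 t38 t39 t40 t41 t42 t43 t44 t45 (t46 + s) t47 := by
  unfold fw34
  rw [← mul_assoc, fx_comm_of_nil (r := 34) (s := 46) (by decide), mul_assoc, fl46_35]

theorem fl45_34 (s t34 t35 t36 t37 t38 t39 t40 t41 t42 t43 t44 t45 t46 t47 : K) :
    fx K 45 s * fw34 t34 t35 t36 t37 t38 t39 t40 t41 t42 t43 t44 t45 t46 t47 =
      fw34 t34 t35 t36 t37 t38 t39 t40 t41 t42 t43 t44 (t45 + s) t46 t47 := by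
  unfold fw34
  rw [← mul_assoc, fx_comm_of_nil (r := 34) (s := 45) (by decide), mul_assoc, fl45_35]

theorem fl44_34 (s t34 t35 t36 t37 t38 t39 t40 t41 t42 t43 t44 t45 t46 t47 : K) :
    fx K 44 s * fw34 t34 t35 t36 t37 t38 t39 t40 t41 t42 t43 t44 t45 t46 t47 =
      fw34 t34 t35 t36 t37 t38 t39 t40 t41 t42 t43 (t44 + s) t45 t46 t47 := by
  unfold fw34
  rw [← mul_assoc, fx_comm_of_nil (r := 34) (s := 44) (by decide), mul_assoc, fl44_35]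

theorem fl43_34 (s t34 t35 t36 t37 t38 t39 t40 t41 t42 t43 t44 t45 t46 t47 : K) :
    fx K 43 s * fw34 t34 t35 t36 t37 t38 t39 t40 t41 t42 t43 t44 t45 t46 t47 =
      fw34 t34 t35 t36 t37 t38 t39 t40 t41 t42 (t43 + s) t44 t45 t46 t47 := by
  unfold fw34
  rw [← mul_assoc, fx_comm_of_nil (r := 34) (s := 43) (by decide), mul_assoc, fl43_35]

theorem fl42_34 (s t34 t35 t36 t37 t38 t39 t40 t41 t42 t43 t44 t45 t46 t47 : K) :
    fx K 42 s * fw34 t34 t35 t36 t37 t38 t39 t40 t41 t42 t43 t44 t45 t46 t47 =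
      fw34 t34 t35 t36 t37 t38 t39 t40 t41 (t42 + s) t43 t44 t45 t46 t47 := by
  unfold fw34
  rw [← mul_assoc, fx_comm_of_nil (r := 34) (s := 42) (by decide), mul_assoc, fl42_35]

theorem fl41_34 (s t34 t35 t36 t37 t38 t39 t40 t41 t42 t43 t44 t45 t46 t47 : K) :
    fx K 41 s * fw34 t34 t35 t36 t37 t38 t39 t40 t41 t42 t43 t44 t45 t46 t47 =
      fw34 t34 t35 t36 t37 t38 t39 t40 (t41 + s) t42 t43 t44 t45 t46 t47 := by
  unfold fw34
  rw [← mul_assoc, fx_comm_of_nil (r := 34) (s := 41) (by decide), mul_assoc, fl41_35]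

theorem fl40_34 (s t34 t35 t36 t37 t38 t39 t40 t41 t42 t43 t44 t45 t46 t47 : K) :
    fx K 40 s * fw34 t34 t35 t36 t37 t38 t39 t40 t41 t42 t43 t44 t45 t46 t47 =
      fw34 t34 t35 t36 t37 t38 t39 (t40 + s) t41 t42 t43 t44 t45 t46 t47 := by
  unfold fw34
  rw [← mul_assoc, fx_comm_of_even (r := 34) (s := 40) (q := 45) (c := 2) (by decide), mul_assoc, fl40_35]

theorem fl39_34 (s t34 t35 t36 t37 t38 t39 t40 t41 t42 t43 t44 t45 t46 t47 : K) :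
    fx K 39 s * fw34 t34 t35 t36 t37 t38 t39 t40 t41 t42 t43 t44 t45 t46 t47 =
      fw34 t34 t35 t36 t37 t38 (t39 + s) t40 t41 t42 t43 (t44 + (t34 * s)) t45 t46 t47 := by
  unfold fw34
  rw [← mul_assoc, fx_comm_of_sum (r := 34) (s := 39) (q := 44) (c := 1) (by decide), mul_assoc, mul_assoc,
    fl44_35, fl39_35]

theorem fl38_34 (s t34 t35 t36 t37 t38 t39 t40 t41 t42 t43 t44 t45 t46 t47 : K) :
    fx K 38 s * fw34 t34 t35 t36 t37 t38 t39 t40 t41 t42 t43 t44 t45 t46 t47 =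
      fw34 t34 t35 t36 t37 (t38 + s) t39 t40 t41 t42 t43 (t44 + (t35 * s)) t45 t46 t47 := by
  unfold fw34
  rw [← mul_assoc, fx_comm_of_nil (r := 34) (s := 38) (by decide), mul_assoc, fl38_35]

theorem fl37_34 (s t34 t35 t36 t37 t38 t39 t40 t41 t42 t43 t44 t45 t46 t47 : K) :
    fx K 37 s * fw34 t34 t35 t36 t37 t38 t39 t40 t41 t42 t43 t44 t45 t46 t47 =
      fw34 t34 t35 t36 (t37 + s) t38 t39 t40 t41 t42 t43 (t44 + (t36 * s)) t45 t46 t47 := by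
  unfold fw34
  rw [← mul_assoc, fx_comm_of_nil (r := 34) (s := 37) (by decide), mul_assoc, fl37_35]

theorem fl36_34 (s t34 t35 t36 t37 t38 t39 t40 t41 t42 t43 t44 t45 t46 t47 : K) :
    fx K 36 s * fw34 t34 t35 t36 t37 t38 t39 t40 t41 t42 t43 t44 t45 t46 t47 =
      fw34 t34 t35 (t36 + s) t37 t38 t39 t40 t41 t42 t43 t44 t45 t46 t47 := by
  unfold fw34
  rw [← mul_assoc, fx_comm_of_even (r := 34) (s := 36) (q := 42) (c := -2) (by decide), mul_assoc, fl36_35]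

theorem fl35_34 (s t34 t35 t36 t37 t38 t39 t40 t41 t42 t43 t44 t45 t46 t47 : K) :
    fx K 35 s * fw34 t34 t35 t36 t37 t38 t39 t40 t41 t42 t43 t44 t45 t46 t47 =
      fw34 t34 (t35 + s) t36 t37 t38 t39 t40 t41 t42 t43 t44 t45 t46 t47 := by
  unfold fw34
  rw [← mul_assoc, fx_comm_of_even (r := 34) (s := 35) (q := 41) (c := -2) (by decide), mul_assoc, fl35_35]

theorem fl34_34 (s t34 t35 t36 t37 t38 t39 t40 t41 t42 t43 t44 t45 t46 t47 : K) :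
    fx K 34 s * fw34 t34 t35 t36 t37 t38 t39 t40 t41 t42 t43 t44 t45 t46 t47 =
      fw34 (t34 + s) t35 t36 t37 t38 t39 t40 t41 t42 t43 t44 t45 t46 t47 := by
  unfold fw34
  rw [← mul_assoc, fx_add, add_comm]

theorem fl47_33 (s t33 t34 t35 t36 t37 t38 t39 t40 t41 t42 t43 t44 t45 t46 t47 : K) :
    fx K 47 s * fw33 t33 t34 t35 t36 t37 t38 t39 t40 t41 t42 t43 t44 t45 t46 t47 =
      fw33 t33 t34 t35 t36 t37 t38 t39 t40 t41 t42 t43 t44 t45 t46 (t47 + s) := by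
  unfold fw33
  rw [← mul_assoc, fx_comm_of_nil (r := 33) (s := 47) (by decide), mul_assoc, fl47_34]

theorem fl46_33 (s t33 t34 t35 t36 t37 t38 t39 t40 t41 t42 t43 t44 t45 t46 t47 : K) :
    fx K 46 s * fw33 t33 t34 t35 t36 t37 t38 t39 t40 t41 t42 t43 t44 t45 t46 t47 =
      fw33 t33 t34 t35 t36 t37 t38 t39 t40 t41 t42 t43 t44 t45 (t46 + s) t47 := by
  unfold fw33
  rw [← mul_assoc, fx_comm_of_nil (r := 33) (s := 46) (by decide), mul_assoc, fl46_34]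

theorem fl45_33 (s t33 t34 t35 t36 t37 t38 t39 t40 t41 t42 t43 t44 t45 t46 t47 : K) :
    fx K 45 s * fw33 t33 t34 t35 t36 t37 t38 t39 t40 t41 t42 t43 t44 t45 t46 t47 =
      fw33 t33 t34 t35 t36 t37 t38 t39 t40 t41 t42 t43 t44 (t45 + s) t46 t47 := by
  unfold fw33
  rw [← mul_assoc, fx_comm_of_nil (r := 33) (s := 45) (by decide), mul_assoc, fl45_34]

theorem fl44_33 (s t33 t34 t35 t36 t37 t38 t39 t40 t41 t42 t43 t44 t45 t46 t47 : K) :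
    fx K 44 s * fw33 t33 t34 t35 t36 t37 t38 t39 t40 t41 t42 t43 t44 t45 t46 t47 =
      fw33 t33 t34 t35 t36 t37 t38 t39 t40 t41 t42 t43 (t44 + s) t45 t46 t47 := by
  unfold fw33
  rw [← mul_assoc, fx_comm_of_nil (r := 33) (s := 44) (by decide), mul_assoc, fl44_34]

theorem fl43_33 (s t33 t34 t35 t36 t37 t38 t39 t40 t41 t42 t43 t44 t45 t46 t47 : K) :
    fx K 43 s * fw33 t33 t34 t35 t36 t37 t38 t39 t40 t41 t42 t43 t44 t45 t46 t47 =
      fw33 t33 t34 t35 t36 t37 t38 t39 t40 t41 t42 (t43 + s) t44 t45 t46 t47 := by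
  unfold fw33
  rw [← mul_assoc, fx_comm_of_nil (r := 33) (s := 43) (by decide), mul_assoc, fl43_34]

theorem fl42_33 (s t33 t34 t35 t36 t37 t38 t39 t40 t41 t42 t43 t44 t45 t46 t47 : K) :
    fx K 42 s * fw33 t33 t34 t35 t36 t37 t38 t39 t40 t41 t42 t43 t44 t45 t46 t47 =
      fw33 t33 t34 t35 t36 t37 t38 t39 t40 t41 (t42 + s) t43 t44 t45 t46 t47 := by
  unfold fw33
  rw [← mul_assoc, fx_comm_of_nil (r := 33) (s := 42) (by decide), mul_assoc, fl42_34]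

theorem fl41_33 (s t33 t34 t35 t36 t37 t38 t39 t40 t41 t42 t43 t44 t45 t46 t47 : K) :
    fx K 41 s * fw33 t33 t34 t35 t36 t37 t38 t39 t40 t41 t42 t43 t44 t45 t46 t47 =
      fw33 t33 t34 t35 t36 t37 t38 t39 t40 (t41 + s) t42 t43 t44 t45 t46 t47 := by
  unfold fw33
  rw [← mul_assoc, fx_comm_of_nil (r := 33) (s := 41) (by decide), mul_assoc, fl41_34]

theorem fl40_33 (s t33 t34 t35 t36 t37 t38 t39 t40 t41 t42 t43 t44 t45 t46 t47 : K) :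
    fx K 40 s * fw33 t33 t34 t35 t36 t37 t38 t39 t40 t41 t42 t43 t44 t45 t46 t47 =
      fw33 t33 t34 t35 t36 t37 t38 t39 (t40 + s) t41 t42 t43 (t44 + (t33 * s)) t45 t46 t47 := by
  unfold fw33
  rw [← mul_assoc, fx_comm_of_sum (r := 33) (s := 40) (q := 44) (c := 1) (by decide), mul_assoc, mul_assoc,
    fl44_34, fl40_34]

theorem fl39_33 (s t33 t34 t35 t36 t37 t38 t39 t40 t41 t42 t43 t44 t45 t46 t47 : K) :
    fx K 39 s * fw33 t33 t34 t35 t36 t37 t38 t39 t40 t41 t42 t43 t44 t45 t46 t47 =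
      fw33 t33 t34 t35 t36 t37 t38 (t39 + s) t40 t41 t42 t43 (t44 + (t34 * s)) t45 t46 t47 := by
  unfold fw33
  rw [← mul_assoc, fx_comm_of_even (r := 33) (s := 39) (q := 43) (c := 2) (by decide), mul_assoc, fl39_34]

theorem fl38_33 (s t33 t34 t35 t36 t37 t38 t39 t40 t41 t42 t43 t44 t45 t46 t47 : K) :
    fx K 38 s * fw33 t33 t34 t35 t36 t37 t38 t39 t40 t41 t42 t43 t44 t45 t46 t47 =
      fw33 t33 t34 t35 t36 t37 (t38 + s) t39 t40 t41 t42 t43 (t44 + (t35 * s)) t45 t46 t47 := by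
  unfold fw33
  rw [← mul_assoc, fx_comm_of_even (r := 33) (s := 38) (q := 42) (c := 2) (by decide), mul_assoc, fl38_34]

theorem fl37_33 (s t33 t34 t35 t36 t37 t38 t39 t40 t41 t42 t43 t44 t45 t46 t47 : K) :
    fx K 37 s * fw33 t33 t34 t35 t36 t37 t38 t39 t40 t41 t42 t43 t44 t45 t46 t47 =
      fw33 t33 t34 t35 t36 (t37 + s) t38 t39 t40 t41 t42 t43 (t44 + (t36 * s)) t45 t46 t47 := by
  unfold fw33
  rw [← mul_assoc, fx_comm_of_even (r := 33) (s := 37) (q := 41) (c := 2) (by decide), mul_assoc, fl37_34]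

theorem fl36_33 (s t33 t34 t35 t36 t37 t38 t39 t40 t41 t42 t43 t44 t45 t46 t47 : K) :
    fx K 36 s * fw33 t33 t34 t35 t36 t37 t38 t39 t40 t41 t42 t43 t44 t45 t46 t47 =
      fw33 t33 t34 t35 (t36 + s) t37 t38 t39 t40 t41 t42 t43 t44 t45 t46 t47 := by
  unfold fw33
  rw [← mul_assoc, fx_comm_of_nil (r := 33) (s := 36) (by decide), mul_assoc, fl36_34]

theorem fl35_33 (s t33 t34 t35 t36 t37 t38 t39 t40 t41 t42 t43 t44 t45 t46 t47 : K) :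
    fx K 35 s * fw33 t33 t34 t35 t36 t37 t38 t39 t40 t41 t42 t43 t44 t45 t46 t47 =
      fw33 t33 t34 (t35 + s) t36 t37 t38 t39 t40 t41 t42 t43 t44 t45 t46 t47 := by
  unfold fw33
  rw [← mul_assoc, fx_comm_of_nil (r := 33) (s := 35) (by decide), mul_assoc, fl35_34]

theorem fl34_33 (s t33 t34 t35 t36 t37 t38 t39 t40 t41 t42 t43 t44 t45 t46 t47 : K) :
    fx K 34 s * fw33 t33 t34 t35 t36 t37 t38 t39 t40 t41 t42 t43 t44 t45 t46 t47 =
      fw33 t33 (t34 + s) t35 t36 t37 t38 t39 t40 t41 t42 t43 t44 t45 t46 t47 := by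
  unfold fw33
  rw [← mul_assoc, fx_comm_of_nil (r := 33) (s := 34) (by decide), mul_assoc, fl34_34]

theorem fl33_33 (s t33 t34 t35 t36 t37 t38 t39 t40 t41 t42 t43 t44 t45 t46 t47 : K) :
    fx K 33 s * fw33 t33 t34 t35 t36 t37 t38 t39 t40 t41 t42 t43 t44 t45 t46 t47 =
      fw33 (t33 + s) t34 t35 t36 t37 t38 t39 t40 t41 t42 t43 t44 t45 t46 t47 := by
  unfold fw33
  rw [← mul_assoc, fx_add, add_comm]

theorem fl47_32 (s t32 t33 t34 t35 t36 t37 t38 t39 t40 t41 t42 t43 t44 t45 t46 t47 : K) :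
    fx K 47 s * fw32 t32 t33 t34 t35 t36 t37 t38 t39 t40 t41 t42 t43 t44 t45 t46 t47 =
      fw32 t32 t33 t34 t35 t36 t37 t38 t39 t40 t41 t42 t43 t44 t45 t46 (t47 + s) := by
  unfold fw32
  rw [← mul_assoc, fx_comm_of_nil (r := 32) (s := 47) (by decide), mul_assoc, fl47_33]

theorem fl46_32 (s t32 t33 t34 t35 t36 t37 t38 t39 t40 t41 t42 t43 t44 t45 t46 t47 : K) :
    fx K 46 s * fw32 t32 t33 t34 t35 t36 t37 t38 t39 t40 t41 t42 t43 t44 t45 t46 t47 =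
      fw32 t32 t33 t34 t35 t36 t37 t38 t39 t40 t41 t42 t43 t44 t45 (t46 + s) t47 := by
  unfold fw32
  rw [← mul_assoc, fx_comm_of_nil (r := 32) (s := 46) (by decide), mul_assoc, fl46_33]

theorem fl45_32 (s t32 t33 t34 t35 t36 t37 t38 t39 t40 t41 t42 t43 t44 t45 t46 t47 : K) :
    fx K 45 s * fw32 t32 t33 t34 t35 t36 t37 t38 t39 t40 t41 t42 t43 t44 t45 t46 t47 =
      fw32 t32 t33 t34 t35 t36 t37 t38 t39 t40 t41 t42 t43 t44 (t45 + s) t46 t47 := by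
  unfold fw32
  rw [← mul_assoc, fx_comm_of_nil (r := 32) (s := 45) (by decide), mul_assoc, fl45_33]

theorem fl44_32 (s t32 t33 t34 t35 t36 t37 t38 t39 t40 t41 t42 t43 t44 t45 t46 t47 : K) :
    fx K 44 s * fw32 t32 t33 t34 t35 t36 t37 t38 t39 t40 t41 t42 t43 t44 t45 t46 t47 =
      fw32 t32 t33 t34 t35 t36 t37 t38 t39 t40 t41 t42 t43 (t44 + s) t45 t46 t47 := by
  unfold fw32
  rw [← mul_assoc, fx_comm_of_nil (r := 32) (s := 44) (by decide), mul_assoc, fl44_33]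

theorem fl43_32 (s t32 t33 t34 t35 t36 t37 t38 t39 t40 t41 t42 t43 t44 t45 t46 t47 : K) :
    fx K 43 s * fw32 t32 t33 t34 t35 t36 t37 t38 t39 t40 t41 t42 t43 t44 t45 t46 t47 =
      fw32 t32 t33 t34 t35 t36 t37 t38 t39 t40 t41 t42 (t43 + s) t44 t45 t46 t47 := by
  unfold fw32
  rw [← mul_assoc, fx_comm_of_nil (r := 32) (s := 43) (by decide), mul_assoc, fl43_33]

theorem fl42_32 (s t32 t33 t34 t35 t36 t37 t38 t39 t40 t41 t42 t43 t44 t45 t46 t47 : K) :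
    fx K 42 s * fw32 t32 t33 t34 t35 t36 t37 t38 t39 t40 t41 t42 t43 t44 t45 t46 t47 =
      fw32 t32 t33 t34 t35 t36 t37 t38 t39 t40 t41 (t42 + s) t43 t44 t45 t46 (t47 + (t32 * s)) := by
  unfold fw32
  rw [← mul_assoc, fx_comm_of_sum (r := 32) (s := 42) (q := 47) (c := 1) (by decide), mul_assoc, mul_assoc,
    fl47_33, fl42_33]

theorem fl41_32 (s t32 t33 t34 t35 t36 t37 t38 t39 t40 t41 t42 t43 t44 t45 t46 t47 : K) :
    fx K 41 s * fw32 t32 t33 t34 t35 t36 t37 t38 t39 t40 t41 t42 t43 t44 t45 t46 t47 =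
      fw32 t32 t33 t34 t35 t36 t37 t38 t39 t40 (t41 + s) t42 t43 t44 t45 (t46 + (t32 * s)) t47 := by
  unfold fw32
  rw [← mul_assoc, fx_comm_of_sum (r := 32) (s := 41) (q := 46) (c := 1) (by decide), mul_assoc, mul_assoc,
    fl46_33, fl41_33]

theorem fl40_32 (s t32 t33 t34 t35 t36 t37 t38 t39 t40 t41 t42 t43 t44 t45 t46 t47 : K) :
    fx K 40 s * fw32 t32 t33 t34 t35 t36 t37 t38 t39 t40 t41 t42 t43 t44 t45 t46 t47 =
      fw32 t32 t33 t34 t35 t36 t37 t38 t39 (t40 + s) t41 t42 t43 (t44 + (t33 * s)) t45 t46 t47 := by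
  unfold fw32
  rw [← mul_assoc, fx_comm_of_nil (r := 32) (s := 40) (by decide), mul_assoc, fl40_33]

theorem fl39_32 (s t32 t33 t34 t35 t36 t37 t38 t39 t40 t41 t42 t43 t44 t45 t46 t47 : K) :
    fx K 39 s * fw32 t32 t33 t34 t35 t36 t37 t38 t39 t40 t41 t42 t43 t44 t45 t46 t47 =
      fw32 t32 t33 t34 t35 t36 t37 t38 (t39 + s) t40 t41 t42 t43 (t44 + (t34 * s)) t45 t46 t47 := by
  unfold fw32
  rw [← mul_assoc, fx_comm_of_nil (r := 32) (s := 39) (by decide), mul_assoc, fl39_33]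

theorem fl38_32 (s t32 t33 t34 t35 t36 t37 t38 t39 t40 t41 t42 t43 t44 t45 t46 t47 : K) :
    fx K 38 s * fw32 t32 t33 t34 t35 t36 t37 t38 t39 t40 t41 t42 t43 t44 t45 t46 t47 =
      fw32 t32 t33 t34 t35 t36 t37 (t38 + s) t39 t40 t41 t42 t43 (t44 + (t35 * s)) t45 t46 t47 := by
  unfold fw32
  rw [← mul_assoc, fx_comm_of_nil (r := 32) (s := 38) (by decide), mul_assoc, fl38_33]

theorem fl37_32 (s t32 t33 t34 t35 t36 t37 t38 t39 t40 t41 t42 t43 t44 t45 t46 t47 : K) :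
    fx K 37 s * fw32 t32 t33 t34 t35 t36 t37 t38 t39 t40 t41 t42 t43 t44 t45 t46 t47 =
      fw32 t32 t33 t34 t35 t36 (t37 + s) t38 t39 t40 t41 t42 t43 (t44 + (t36 * s)) t45 t46 t47 := by
  unfold fw32
  rw [← mul_assoc, fx_comm_of_nil (r := 32) (s := 37) (by decide), mul_assoc, fl37_33]

theorem fl36_32 (s t32 t33 t34 t35 t36 t37 t38 t39 t40 t41 t42 t43 t44 t45 t46 t47 : K) :
    fx K 36 s * fw32 t32 t33 t34 t35 t36 t37 t38 t39 t40 t41 t42 t43 t44 t45 t46 t47 =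
      fw32 t32 t33 t34 t35 (t36 + s) t37 t38 t39 t40 t41 t42 t43 t44 t45 t46 t47 := by
  unfold fw32
  rw [← mul_assoc, fx_comm_of_nil (r := 32) (s := 36) (by decide), mul_assoc, fl36_33]

theorem fl35_32 (s t32 t33 t34 t35 t36 t37 t38 t39 t40 t41 t42 t43 t44 t45 t46 t47 : K) :
    fx K 35 s * fw32 t32 t33 t34 t35 t36 t37 t38 t39 t40 t41 t42 t43 t44 t45 t46 t47 =
      fw32 t32 t33 t34 (t35 + s) t36 t37 t38 t39 t40 t41 t42 t43 t44 t45 t46 t47 := by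
  unfold fw32
  rw [← mul_assoc, fx_comm_of_nil (r := 32) (s := 35) (by decide), mul_assoc, fl35_33]

theorem fl34_32 (s t32 t33 t34 t35 t36 t37 t38 t39 t40 t41 t42 t43 t44 t45 t46 t47 : K) :
    fx K 34 s * fw32 t32 t33 t34 t35 t36 t37 t38 t39 t40 t41 t42 t43 t44 t45 t46 t47 =
      fw32 t32 t33 (t34 + s) t35 t36 t37 t38 t39 (t40 + (t32 * s)) t41 t42 t43 (t44 + (t33 * (t32 * s))) (t45 + (t32 * s ^ 2)) t46 t47 := by
  unfold fw32
  rw [← mul_assoc, fx_comm_of_dbl12 (r := 32) (s := 34) (q := 40) (c := 1) (q' := 45) (c' := -1) (by decide),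
    mul_assoc, mul_assoc, mul_assoc, fl45_33, fl40_33, fl34_33]

theorem fl33_32 (s t32 t33 t34 t35 t36 t37 t38 t39 t40 t41 t42 t43 t44 t45 t46 t47 : K) :
    fx K 33 s * fw32 t32 t33 t34 t35 t36 t37 t38 t39 t40 t41 t42 t43 t44 t45 t46 t47 =
      fw32 t32 (t33 + s) t34 t35 t36 t37 t38 (t39 + (t32 * s)) t40 t41 t42 (t43 + (t32 * s ^ 2)) (t44 + (t34 * (t32 * s))) t45 t46 t47 := by
  unfold fw32
  rw [← mul_assoc, fx_comm_of_dbl12 (r := 32) (s := 33) (q := 39) (c := 1) (q' := 43) (c' := -1) (by decide),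
    mul_assoc, mul_assoc, mul_assoc, fl43_33, fl39_33, fl33_33]

theorem fl32_32 (s t32 t33 t34 t35 t36 t37 t38 t39 t40 t41 t42 t43 t44 t45 t46 t47 : K) :
    fx K 32 s * fw32 t32 t33 t34 t35 t36 t37 t38 t39 t40 t41 t42 t43 t44 t45 t46 t47 =
      fw32 (t32 + s) t33 t34 t35 t36 t37 t38 t39 t40 t41 t42 t43 t44 t45 t46 t47 := by
  unfold fw32
  rw [← mul_assoc, fx_add, add_comm]

theorem fl47_31 (s t31 t32 t33 t34 t35 t36 t37 t38 t39 t40 t41 t42 t43 t44 t45 t46 t47 : K) :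
    fx K 47 s * fw31 t31 t32 t33 t34 t35 t36 t37 t38 t39 t40 t41 t42 t43 t44 t45 t46 t47 =
      fw31 t31 t32 t33 t34 t35 t36 t37 t38 t39 t40 t41 t42 t43 t44 t45 t46 (t47 + s) := by
  unfold fw31
  rw [← mul_assoc, fx_comm_of_nil (r := 31) (s := 47) (by decide), mul_assoc, fl47_32]

theorem fl46_31 (s t31 t32 t33 t34 t35 t36 t37 t38 t39 t40 t41 t42 t43 t44 t45 t46 t47 : K) :
    fx K 46 s * fw31 t31 t32 t33 t34 t35 t36 t37 t38 t39 t40 t41 t42 t43 t44 t45 t46 t47 =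
      fw31 t31 t32 t33 t34 t35 t36 t37 t38 t39 t40 t41 t42 t43 t44 t45 (t46 + s) t47 := by
  unfold fw31
  rw [← mul_assoc, fx_comm_of_nil (r := 31) (s := 46) (by decide), mul_assoc, fl46_32]

theorem fl45_31 (s t31 t32 t33 t34 t35 t36 t37 t38 t39 t40 t41 t42 t43 t44 t45 t46 t47 : K) :
    fx K 45 s * fw31 t31 t32 t33 t34 t35 t36 t37 t38 t39 t40 t41 t42 t43 t44 t45 t46 t47 =
      fw31 t31 t32 t33 t34 t35 t36 t37 t38 t39 t40 t41 t42 t43 t44 (t45 + s) t46 t47 := by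
  unfold fw31
  rw [← mul_assoc, fx_comm_of_nil (r := 31) (s := 45) (by decide), mul_assoc, fl45_32]

theorem fl44_31 (s t31 t32 t33 t34 t35 t36 t37 t38 t39 t40 t41 t42 t43 t44 t45 t46 t47 : K) :
    fx K 44 s * fw31 t31 t32 t33 t34 t35 t36 t37 t38 t39 t40 t41 t42 t43 t44 t45 t46 t47 =
      fw31 t31 t32 t33 t34 t35 t36 t37 t38 t39 t40 t41 t42 t43 (t44 + s) t45 t46 t47 := by
  unfold fw31
  rw [← mul_assoc, fx_comm_of_nil (r := 31) (s := 44) (by decide), mul_assoc, fl44_32]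

theorem fl43_31 (s t31 t32 t33 t34 t35 t36 t37 t38 t39 t40 t41 t42 t43 t44 t45 t46 t47 : K) :
    fx K 43 s * fw31 t31 t32 t33 t34 t35 t36 t37 t38 t39 t40 t41 t42 t43 t44 t45 t46 t47 =
      fw31 t31 t32 t33 t34 t35 t36 t37 t38 t39 t40 t41 t42 (t43 + s) t44 t45 t46 (t47 + (t31 * s)) := by
  unfold fw31
  rw [← mul_assoc, fx_comm_of_sum (r := 31) (s := 43) (q := 47) (c := -1) (by decide), mul_assoc, mul_assoc,
    fl47_32, fl43_32]

theorem fl42_31 (s t31 t32 t33 t34 t35 t36 t37 t38 t39 t40 t41 t42 t43 t44 t45 t46 t47 : K) :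
    fx K 42 s * fw31 t31 t32 t33 t34 t35 t36 t37 t38 t39 t40 t41 t42 t43 t44 t45 t46 t47 =
      fw31 t31 t32 t33 t34 t35 t36 t37 t38 t39 t40 t41 (t42 + s) t43 t44 t45 t46 (t47 + (t32 * s)) := by
  unfold fw31
  rw [← mul_assoc, fx_comm_of_nil (r := 31) (s := 42) (by decide), mul_assoc, fl42_32]

theorem fl41_31 (s t31 t32 t33 t34 t35 t36 t37 t38 t39 t40 t41 t42 t43 t44 t45 t46 t47 : K) :
    fx K 41 s * fw31 t31 t32 t33 t34 t35 t36 t37 t38 t39 t40 t41 t42 t43 t44 t45 t46 t47 =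
      fw31 t31 t32 t33 t34 t35 t36 t37 t38 t39 t40 (t41 + s) t42 t43 t44 (t45 + (t31 * s)) (t46 + (t32 * s)) t47 := by
  unfold fw31
  rw [← mul_assoc, fx_comm_of_sum (r := 31) (s := 41) (q := 45) (c := 1) (by decide), mul_assoc, mul_assoc,
    fl45_32, fl41_32]

theorem fl40_31 (s t31 t32 t33 t34 t35 t36 t37 t38 t39 t40 t41 t42 t43 t44 t45 t46 t47 : K) :
    fx K 40 s * fw31 t31 t32 t33 t34 t35 t36 t37 t38 t39 t40 t41 t42 t43 t44 t45 t46 t47 =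
      fw31 t31 t32 t33 t34 t35 t36 t37 t38 t39 (t40 + s) t41 t42 t43 (t44 + (t33 * s)) t45 t46 t47 := by
  unfold fw31
  rw [← mul_assoc, fx_comm_of_nil (r := 31) (s := 40) (by decide), mul_assoc, fl40_32]

theorem fl39_31 (s t31 t32 t33 t34 t35 t36 t37 t38 t39 t40 t41 t42 t43 t44 t45 t46 t47 : K) :
    fx K 39 s * fw31 t31 t32 t33 t34 t35 t36 t37 t38 t39 t40 t41 t42 t43 t44 t45 t46 t47 =
      fw31 t31 t32 t33 t34 t35 t36 t37 t38 (t39 + s) t40 t41 t42 t43 (t44 + (t34 * s)) t45 t46 t47 := by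
  unfold fw31
  rw [← mul_assoc, fx_comm_of_nil (r := 31) (s := 39) (by decide), mul_assoc, fl39_32]

theorem fl38_31 (s t31 t32 t33 t34 t35 t36 t37 t38 t39 t40 t41 t42 t43 t44 t45 t46 t47 : K) :
    fx K 38 s * fw31 t31 t32 t33 t34 t35 t36 t37 t38 t39 t40 t41 t42 t43 t44 t45 t46 t47 =
      fw31 t31 t32 t33 t34 t35 t36 t37 (t38 + s) t39 t40 t41 t42 t43 (t44 + (t35 * s)) t45 t46 t47 := by
  unfold fw31
  rw [← mul_assoc, fx_comm_of_nil (r := 31) (s := 38) (by decide), mul_assoc, fl38_32]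

theorem fl37_31 (s t31 t32 t33 t34 t35 t36 t37 t38 t39 t40 t41 t42 t43 t44 t45 t46 t47 : K) :
    fx K 37 s * fw31 t31 t32 t33 t34 t35 t36 t37 t38 t39 t40 t41 t42 t43 t44 t45 t46 t47 =
      fw31 t31 t32 t33 t34 t35 t36 (t37 + s) t38 t39 t40 t41 t42 t43 (t44 + (t36 * s)) t45 t46 t47 := by
  unfold fw31
  rw [← mul_assoc, fx_comm_of_nil (r := 31) (s := 37) (by decide), mul_assoc, fl37_32]

theorem fl36_31 (s t31 t32 t33 t34 t35 t36 t37 t38 t39 t40 t41 t42 t43 t44 t45 t46 t47 : K) :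
    fx K 36 s * fw31 t31 t32 t33 t34 t35 t36 t37 t38 t39 t40 t41 t42 t43 t44 t45 t46 t47 =
      fw31 t31 t32 t33 t34 t35 (t36 + s) t37 t38 t39 t40 t41 t42 t43 t44 t45 t46 t47 := by
  unfold fw31
  rw [← mul_assoc, fx_comm_of_nil (r := 31) (s := 36) (by decide), mul_assoc, fl36_32]

theorem fl35_31 (s t31 t32 t33 t34 t35 t36 t37 t38 t39 t40 t41 t42 t43 t44 t45 t46 t47 : K) :
    fx K 35 s * fw31 t31 t32 t33 t34 t35 t36 t37 t38 t39 t40 t41 t42 t43 t44 t45 t46 t47 =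
      fw31 t31 t32 t33 t34 (t35 + s) t36 t37 t38 t39 (t40 + (t31 * s)) t41 t42 t43 (t44 + (t33 * (t31 * s))) t45 (t46 + (t31 * s ^ 2)) t47 := by
  unfold fw31
  rw [← mul_assoc, fx_comm_of_dbl12 (r := 31) (s := 35) (q := 40) (c := -1) (q' := 46) (c' := 1) (by decide),
    mul_assoc, mul_assoc, mul_assoc, fl46_32, fl40_32, fl35_32]

theorem fl34_31 (s t31 t32 t33 t34 t35 t36 t37 t38 t39 t40 t41 t42 t43 t44 t45 t46 t47 : K) :
    fx K 34 s * fw31 t31 t32 t33 t34 t35 t36 t37 t38 t39 t40 t41 t42 t43 t44 t45 t46 t47 =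
      fw31 t31 t32 t33 (t34 + s) t35 t36 t37 t38 t39 (t40 + (t32 * s)) t41 t42 t43 (t44 + (t33 * (t32 * s))) (t45 + (t32 * s ^ 2)) t46 t47 := by
  unfold fw31
  rw [← mul_assoc, fx_comm_of_nil (r := 31) (s := 34) (by decide), mul_assoc, fl34_32]

theorem fl33_31 (s t31 t32 t33 t34 t35 t36 t37 t38 t39 t40 t41 t42 t43 t44 t45 t46 t47 : K) :
    fx K 33 s * fw31 t31 t32 t33 t34 t35 t36 t37 t38 t39 t40 t41 t42 t43 t44 t45 t46 t47 =
      fw31 t31 t32 (t33 + s) t34 t35 t36 t37 (t38 + (t31 * s)) (t39 + (t32 * s)) t40 t41 (t42 + (t31 * s ^ 2)) (t43 + (t32 * s ^ 2)) ((t44 + (t35 * (t31 * s))) + (t34 * (t32 * s))) t45 t46 (t47 + (t32 * (t31 * s ^ 2))) := by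
  unfold fw31
  rw [← mul_assoc, fx_comm_of_dbl12 (r := 31) (s := 33) (q := 38) (c := 1) (q' := 42) (c' := -1) (by decide),
    mul_assoc, mul_assoc, mul_assoc, fl42_32, fl38_32, fl33_32]

theorem fl32_31 (s t31 t32 t33 t34 t35 t36 t37 t38 t39 t40 t41 t42 t43 t44 t45 t46 t47 : K) :
    fx K 32 s * fw31 t31 t32 t33 t34 t35 t36 t37 t38 t39 t40 t41 t42 t43 t44 t45 t46 t47 =
      fw31 t31 (t32 + s) t33 t34 t35 t36 t37 t38 t39 t40 t41 t42 t43 t44 t45 t46 t47 := by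
  unfold fw31
  rw [← mul_assoc, fx_comm_of_nil (r := 31) (s := 32) (by decide), mul_assoc, fl32_32]

theorem fl31_31 (s t31 t32 t33 t34 t35 t36 t37 t38 t39 t40 t41 t42 t43 t44 t45 t46 t47 : K) :
    fx K 31 s * fw31 t31 t32 t33 t34 t35 t36 t37 t38 t39 t40 t41 t42 t43 t44 t45 t46 t47 =
      fw31 (t31 + s) t32 t33 t34 t35 t36 t37 t38 t39 t40 t41 t42 t43 t44 t45 t46 t47 := by
  unfold fw31
  rw [← mul_assoc, fx_add, add_comm]

theorem fl47_30 (s t30 t31 t32 t33 t34 t35 t36 t37 t38 t39 t40 t41 t42 t43 t44 t45 t46 t47 : K) :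
    fx K 47 s * fw30 t30 t31 t32 t33 t34 t35 t36 t37 t38 t39 t40 t41 t42 t43 t44 t45 t46 t47 =
      fw30 t30 t31 t32 t33 t34 t35 t36 t37 t38 t39 t40 t41 t42 t43 t44 t45 t46 (t47 + s) := by
  unfold fw30
  rw [← mul_assoc, fx_comm_of_nil (r := 30) (s := 47) (by decide), mul_assoc, fl47_31]

theorem fl46_30 (s t30 t31 t32 t33 t34 t35 t36 t37 t38 t39 t40 t41 t42 t43 t44 t45 t46 t47 : K) :
    fx K 46 s * fw30 t30 t31 t32 t33 t34 t35 t36 t37 t38 t39 t40 t41 t42 t43 t44 t45 t46 t47 =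
      fw30 t30 t31 t32 t33 t34 t35 t36 t37 t38 t39 t40 t41 t42 t43 t44 t45 (t46 + s) t47 := by
  unfold fw30
  rw [← mul_assoc, fx_comm_of_nil (r := 30) (s := 46) (by decide), mul_assoc, fl46_31]

theorem fl45_30 (s t30 t31 t32 t33 t34 t35 t36 t37 t38 t39 t40 t41 t42 t43 t44 t45 t46 t47 : K) :
    fx K 45 s * fw30 t30 t31 t32 t33 t34 t35 t36 t37 t38 t39 t40 t41 t42 t43 t44 t45 t46 t47 =
      fw30 t30 t31 t32 t33 t34 t35 t36 t37 t38 t39 t40 t41 t42 t43 t44 (t45 + s) t46 t47 := by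
  unfold fw30
  rw [← mul_assoc, fx_comm_of_nil (r := 30) (s := 45) (by decide), mul_assoc, fl45_31]

theorem fl44_30 (s t30 t31 t32 t33 t34 t35 t36 t37 t38 t39 t40 t41 t42 t43 t44 t45 t46 t47 : K) :
    fx K 44 s * fw30 t30 t31 t32 t33 t34 t35 t36 t37 t38 t39 t40 t41 t42 t43 t44 t45 t46 t47 =
      fw30 t30 t31 t32 t33 t34 t35 t36 t37 t38 t39 t40 t41 t42 t43 (t44 + s) t45 t46 t47 := by
  unfold fw30
  rw [← mul_assoc, fx_comm_of_nil (r := 30) (s := 44) (by decide), mul_assoc, fl44_31]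

theorem fl43_30 (s t30 t31 t32 t33 t34 t35 t36 t37 t38 t39 t40 t41 t42 t43 t44 t45 t46 t47 : K) :
    fx K 43 s * fw30 t30 t31 t32 t33 t34 t35 t36 t37 t38 t39 t40 t41 t42 t43 t44 t45 t46 t47 =
      fw30 t30 t31 t32 t33 t34 t35 t36 t37 t38 t39 t40 t41 t42 (t43 + s) t44 t45 (t46 + (t30 * s)) (t47 + (t31 * s)) := by
  unfold fw30
  rw [← mul_assoc, fx_comm_of_sum (r := 30) (s := 43) (q := 46) (c := -1) (by decide), mul_assoc, mul_assoc,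
    fl46_31, fl43_31]

theorem fl42_30 (s t30 t31 t32 t33 t34 t35 t36 t37 t38 t39 t40 t41 t42 t43 t44 t45 t46 t47 : K) :
    fx K 42 s * fw30 t30 t31 t32 t33 t34 t35 t36 t37 t38 t39 t40 t41 t42 t43 t44 t45 t46 t47 =
      fw30 t30 t31 t32 t33 t34 t35 t36 t37 t38 t39 t40 t41 (t42 + s) t43 t44 (t45 + (t30 * s)) t46 (t47 + (t32 * s)) := by
  unfold fw30
  rw [← mul_assoc, fx_comm_of_sum (r := 30) (s := 42) (q := 45) (c := -1) (by decide), mul_assoc, mul_assoc,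
    fl45_31, fl42_31]

theorem fl41_30 (s t30 t31 t32 t33 t34 t35 t36 t37 t38 t39 t40 t41 t42 t43 t44 t45 t46 t47 : K) :
    fx K 41 s * fw30 t30 t31 t32 t33 t34 t35 t36 t37 t38 t39 t40 t41 t42 t43 t44 t45 t46 t47 =
      fw30 t30 t31 t32 t33 t34 t35 t36 t37 t38 t39 t40 (t41 + s) t42 t43 t44 (t45 + (t31 * s)) (t46 + (t32 * s)) t47 := by
  unfold fw30
  rw [← mul_assoc, fx_comm_of_nil (r := 30) (s := 41) (by decide), mul_assoc, fl41_31]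

theorem fl40_30 (s t30 t31 t32 t33 t34 t35 t36 t37 t38 t39 t40 t41 t42 t43 t44 t45 t46 t47 : K) :
    fx K 40 s * fw30 t30 t31 t32 t33 t34 t35 t36 t37 t38 t39 t40 t41 t42 t43 t44 t45 t46 t47 =
      fw30 t30 t31 t32 t33 t34 t35 t36 t37 t38 t39 (t40 + s) t41 t42 t43 (t44 + (t33 * s)) t45 t46 t47 := by
  unfold fw30
  rw [← mul_assoc, fx_comm_of_nil (r := 30) (s := 40) (by decide), mul_assoc, fl40_31]

theorem fl39_30 (s t30 t31 t32 t33 t34 t35 t36 t37 t38 t39 t40 t41 t42 t43 t44 t45 t46 t47 : K) :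
    fx K 39 s * fw30 t30 t31 t32 t33 t34 t35 t36 t37 t38 t39 t40 t41 t42 t43 t44 t45 t46 t47 =
      fw30 t30 t31 t32 t33 t34 t35 t36 t37 t38 (t39 + s) t40 t41 t42 t43 (t44 + (t34 * s)) t45 t46 t47 := by
  unfold fw30
  rw [← mul_assoc, fx_comm_of_nil (r := 30) (s := 39) (by decide), mul_assoc, fl39_31]

theorem fl38_30 (s t30 t31 t32 t33 t34 t35 t36 t37 t38 t39 t40 t41 t42 t43 t44 t45 t46 t47 : K) :
    fx K 38 s * fw30 t30 t31 t32 t33 t34 t35 t36 t37 t38 t39 t40 t41 t42 t43 t44 t45 t46 t47 =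
      fw30 t30 t31 t32 t33 t34 t35 t36 t37 (t38 + s) t39 t40 t41 t42 t43 (t44 + (t35 * s)) t45 t46 t47 := by
  unfold fw30
  rw [← mul_assoc, fx_comm_of_nil (r := 30) (s := 38) (by decide), mul_assoc, fl38_31]

theorem fl37_30 (s t30 t31 t32 t33 t34 t35 t36 t37 t38 t39 t40 t41 t42 t43 t44 t45 t46 t47 : K) :
    fx K 37 s * fw30 t30 t31 t32 t33 t34 t35 t36 t37 t38 t39 t40 t41 t42 t43 t44 t45 t46 t47 =
      fw30 t30 t31 t32 t33 t34 t35 t36 (t37 + s) t38 t39 t40 t41 t42 t43 (t44 + (t36 * s)) t45 t46 t47 := by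
  unfold fw30
  rw [← mul_assoc, fx_comm_of_nil (r := 30) (s := 37) (by decide), mul_assoc, fl37_31]

theorem fl36_30 (s t30 t31 t32 t33 t34 t35 t36 t37 t38 t39 t40 t41 t42 t43 t44 t45 t46 t47 : K) :
    fx K 36 s * fw30 t30 t31 t32 t33 t34 t35 t36 t37 t38 t39 t40 t41 t42 t43 t44 t45 t46 t47 =
      fw30 t30 t31 t32 t33 t34 t35 (t36 + s) t37 t38 t39 (t40 + (t30 * s)) t41 t42 t43 (t44 + (t33 * (t30 * s))) t45 t46 (t47 + (t30 * s ^ 2)) := by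
  unfold fw30
  rw [← mul_assoc, fx_comm_of_dbl12 (r := 30) (s := 36) (q := 40) (c := 1) (q' := 47) (c' := -1) (by decide),
    mul_assoc, mul_assoc, mul_assoc, fl47_31, fl40_31, fl36_31]

theorem fl35_30 (s t30 t31 t32 t33 t34 t35 t36 t37 t38 t39 t40 t41 t42 t43 t44 t45 t46 t47 : K) :
    fx K 35 s * fw30 t30 t31 t32 t33 t34 t35 t36 t37 t38 t39 t40 t41 t42 t43 t44 t45 t46 t47 =
      fw30 t30 t31 t32 t33 t34 (t35 + s) t36 t37 t38 t39 (t40 + (t31 * s)) t41 t42 t43 (t44 + (t33 * (t31 * s))) t45 (t46 + (t31 * s ^ 2)) t47 := by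
  unfold fw30
  rw [← mul_assoc, fx_comm_of_nil (r := 30) (s := 35) (by decide), mul_assoc, fl35_31]

theorem fl34_30 (s t30 t31 t32 t33 t34 t35 t36 t37 t38 t39 t40 t41 t42 t43 t44 t45 t46 t47 : K) :
    fx K 34 s * fw30 t30 t31 t32 t33 t34 t35 t36 t37 t38 t39 t40 t41 t42 t43 t44 t45 t46 t47 =
      fw30 t30 t31 t32 t33 (t34 + s) t35 t36 t37 t38 t39 (t40 + (t32 * s)) t41 t42 t43 (t44 + (t33 * (t32 * s))) (t45 + (t32 * s ^ 2)) t46 t47 := by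
  unfold fw30
  rw [← mul_assoc, fx_comm_of_nil (r := 30) (s := 34) (by decide), mul_assoc, fl34_31]

theorem fl33_30 (s t30 t31 t32 t33 t34 t35 t36 t37 t38 t39 t40 t41 t42 t43 t44 t45 t46 t47 : K) :
    fx K 33 s * fw30 t30 t31 t32 t33 t34 t35 t36 t37 t38 t39 t40 t41 t42 t43 t44 t45 t46 t47 =
      fw30 t30 t31 t32 (t33 + s) t34 t35 t36 (t37 + (t30 * s)) (t38 + (t31 * s)) (t39 + (t32 * s)) t40 (t41 + (t30 * s ^ 2)) (t42 + (t31 * s ^ 2)) (t43 + (t32 * s ^ 2)) (((t44 + (t36 * (t30 * s))) + (t35 * (t31 * s))) + (t34 * (t32 * s))) (t45 + (t31 * (t30 * s ^ 2))) (t46 + (t32 * (t30 * s ^ 2))) (t47 + (t32 * (t31 * s ^ 2))) := by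
  unfold fw30
  rw [← mul_assoc, fx_comm_of_dbl12 (r := 30) (s := 33) (q := 37) (c := 1) (q' := 41) (c' := -1) (by decide),
    mul_assoc, mul_assoc, mul_assoc, fl41_31, fl37_31, fl33_31]

theorem fl32_30 (s t30 t31 t32 t33 t34 t35 t36 t37 t38 t39 t40 t41 t42 t43 t44 t45 t46 t47 : K) :
    fx K 32 s * fw30 t30 t31 t32 t33 t34 t35 t36 t37 t38 t39 t40 t41 t42 t43 t44 t45 t46 t47 =
      fw30 t30 t31 (t32 + s) t33 t34 t35 t36 t37 t38 t39 t40 t41 t42 t43 t44 t45 t46 t47 := by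
  unfold fw30
  rw [← mul_assoc, fx_comm_of_nil (r := 30) (s := 32) (by decide), mul_assoc, fl32_31]

theorem fl31_30 (s t30 t31 t32 t33 t34 t35 t36 t37 t38 t39 t40 t41 t42 t43 t44 t45 t46 t47 : K) :
    fx K 31 s * fw30 t30 t31 t32 t33 t34 t35 t36 t37 t38 t39 t40 t41 t42 t43 t44 t45 t46 t47 =
      fw30 t30 (t31 + s) t32 t33 t34 t35 t36 t37 t38 t39 t40 t41 t42 t43 t44 t45 t46 t47 := by
  unfold fw30
  rw [← mul_assoc, fx_comm_of_nil (r := 30) (s := 31) (by decide), mul_assoc, fl31_31]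

theorem fl30_30 (s t30 t31 t32 t33 t34 t35 t36 t37 t38 t39 t40 t41 t42 t43 t44 t45 t46 t47 : K) :
    fx K 30 s * fw30 t30 t31 t32 t33 t34 t35 t36 t37 t38 t39 t40 t41 t42 t43 t44 t45 t46 t47 =
      fw30 (t30 + s) t31 t32 t33 t34 t35 t36 t37 t38 t39 t40 t41 t42 t43 t44 t45 t46 t47 := by
  unfold fw30
  rw [← mul_assoc, fx_add, add_comm]

theorem fl47_29 (s t29 t30 t31 t32 t33 t34 t35 t36 t37 t38 t39 t40 t41 t42 t43 t44 t45 t46 t47 : K) :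
    fx K 47 s * fw29 t29 t30 t31 t32 t33 t34 t35 t36 t37 t38 t39 t40 t41 t42 t43 t44 t45 t46 t47 =
      fw29 t29 t30 t31 t32 t33 t34 t35 t36 t37 t38 t39 t40 t41 t42 t43 t44 t45 t46 (t47 + s) := by
  unfold fw29
  rw [← mul_assoc, fx_comm_of_nil (r := 29) (s := 47) (by decide), mul_assoc, fl47_30]

theorem fl46_29 (s t29 t30 t31 t32 t33 t34 t35 t36 t37 t38 t39 t40 t41 t42 t43 t44 t45 t46 t47 : K) :
    fx K 46 s * fw29 t29 t30 t31 t32 t33 t34 t35 t36 t37 t38 t39 t40 t41 t42 t43 t44 t45 t46 t47 =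
      fw29 t29 t30 t31 t32 t33 t34 t35 t36 t37 t38 t39 t40 t41 t42 t43 t44 t45 (t46 + s) t47 := by
  unfold fw29
  rw [← mul_assoc, fx_comm_of_nil (r := 29) (s := 46) (by decide), mul_assoc, fl46_30]

theorem fl45_29 (s t29 t30 t31 t32 t33 t34 t35 t36 t37 t38 t39 t40 t41 t42 t43 t44 t45 t46 t47 : K) :
    fx K 45 s * fw29 t29 t30 t31 t32 t33 t34 t35 t36 t37 t38 t39 t40 t41 t42 t43 t44 t45 t46 t47 =
      fw29 t29 t30 t31 t32 t33 t34 t35 t36 t37 t38 t39 t40 t41 t42 t43 t44 (t45 + s) t46 t47 := by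
  unfold fw29
  rw [← mul_assoc, fx_comm_of_nil (r := 29) (s := 45) (by decide), mul_assoc, fl45_30]

theorem fl44_29 (s t29 t30 t31 t32 t33 t34 t35 t36 t37 t38 t39 t40 t41 t42 t43 t44 t45 t46 t47 : K) :
    fx K 44 s * fw29 t29 t30 t31 t32 t33 t34 t35 t36 t37 t38 t39 t40 t41 t42 t43 t44 t45 t46 t47 =
      fw29 t29 t30 t31 t32 t33 t34 t35 t36 t37 t38 t39 t40 t41 t42 t43 (t44 + s) t45 t46 t47 := by
  unfold fw29
  rw [← mul_assoc, fx_comm_of_even (r := 29) (s := 44) (q := 47) (c := 2) (by decide), mul_assoc, fl44_30]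

theorem fl43_29 (s t29 t30 t31 t32 t33 t34 t35 t36 t37 t38 t39 t40 t41 t42 t43 t44 t45 t46 t47 : K) :
    fx K 43 s * fw29 t29 t30 t31 t32 t33 t34 t35 t36 t37 t38 t39 t40 t41 t42 t43 t44 t45 t46 t47 =
      fw29 t29 t30 t31 t32 t33 t34 t35 t36 t37 t38 t39 t40 t41 t42 (t43 + s) t44 t45 (t46 + (t30 * s)) (t47 + (t31 * s)) := by
  unfold fw29
  rw [← mul_assoc, fx_comm_of_nil (r := 29) (s := 43) (by decide), mul_assoc, fl43_30]

theorem fl42_29 (s t29 t30 t31 t32 t33 t34 t35 t36 t37 t38 t39 t40 t41 t42 t43 t44 t45 t46 t47 : K) :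
    fx K 42 s * fw29 t29 t30 t31 t32 t33 t34 t35 t36 t37 t38 t39 t40 t41 t42 t43 t44 t45 t46 t47 =
      fw29 t29 t30 t31 t32 t33 t34 t35 t36 t37 t38 t39 t40 t41 (t42 + s) t43 t44 (t45 + (t30 * s)) t46 (t47 + (t32 * s)) := by
  unfold fw29
  rw [← mul_assoc, fx_comm_of_nil (r := 29) (s := 42) (by decide), mul_assoc, fl42_30]

theorem fl41_29 (s t29 t30 t31 t32 t33 t34 t35 t36 t37 t38 t39 t40 t41 t42 t43 t44 t45 t46 t47 : K) :
    fx K 41 s * fw29 t29 t30 t31 t32 t33 t34 t35 t36 t37 t38 t39 t40 t41 t42 t43 t44 t45 t46 t47 =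
      fw29 t29 t30 t31 t32 t33 t34 t35 t36 t37 t38 t39 t40 (t41 + s) t42 t43 (t44 + (t29 * s)) (t45 + (t31 * s)) (t46 + (t32 * s)) (t47 + (t29 ^ 2 * s)) := by
  unfold fw29
  rw [← mul_assoc, fx_comm_of_dbl21 (r := 29) (s := 41) (q := 44) (c := 1) (q' := 47) (c' := 1) (by decide),
    mul_assoc, mul_assoc, mul_assoc, fl47_30, fl44_30, fl41_30]

theorem fl40_29 (s t29 t30 t31 t32 t33 t34 t35 t36 t37 t38 t39 t40 t41 t42 t43 t44 t45 t46 t47 : K) :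
    fx K 40 s * fw29 t29 t30 t31 t32 t33 t34 t35 t36 t37 t38 t39 t40 t41 t42 t43 t44 t45 t46 t47 =
      fw29 t29 t30 t31 t32 t33 t34 t35 t36 t37 t38 t39 (t40 + s) t41 t42 t43 (t44 + (t33 * s)) t45 t46 t47 := by
  unfold fw29
  rw [← mul_assoc, fx_comm_of_nil (r := 29) (s := 40) (by decide), mul_assoc, fl40_30]

theorem fl39_29 (s t29 t30 t31 t32 t33 t34 t35 t36 t37 t38 t39 t40 t41 t42 t43 t44 t45 t46 t47 : K) :
    fx K 39 s * fw29 t29 t30 t31 t32 t33 t34 t35 t36 t37 t38 t39 t40 t41 t42 t43 t44 t45 t46 t47 =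
      fw29 t29 t30 t31 t32 t33 t34 t35 t36 t37 t38 (t39 + s) t40 t41 t42 t43 (t44 + (t34 * s)) t45 t46 t47 := by
  unfold fw29
  rw [← mul_assoc, fx_comm_of_nil (r := 29) (s := 39) (by decide), mul_assoc, fl39_30]

theorem fl38_29 (s t29 t30 t31 t32 t33 t34 t35 t36 t37 t38 t39 t40 t41 t42 t43 t44 t45 t46 t47 : K) :
    fx K 38 s * fw29 t29 t30 t31 t32 t33 t34 t35 t36 t37 t38 t39 t40 t41 t42 t43 t44 t45 t46 t47 =
      fw29 t29 t30 t31 t32 t33 t34 t35 t36 t37 (t38 + s) t39 t40 t41 t42 t43 (t44 + (t35 * s)) t45 t46 t47 := by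
  unfold fw29
  rw [← mul_assoc, fx_comm_of_nil (r := 29) (s := 38) (by decide), mul_assoc, fl38_30]

theorem fl37_29 (s t29 t30 t31 t32 t33 t34 t35 t36 t37 t38 t39 t40 t41 t42 t43 t44 t45 t46 t47 : K) :
    fx K 37 s * fw29 t29 t30 t31 t32 t33 t34 t35 t36 t37 t38 t39 t40 t41 t42 t43 t44 t45 t46 t47 =
      fw29 t29 t30 t31 t32 t33 t34 t35 t36 (t37 + s) t38 t39 (t40 + (t29 * s)) t41 t42 t43 ((t44 + (t33 * (t29 * s))) + (t36 * s)) t45 t46 t47 := by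
  unfold fw29
  rw [← mul_assoc, fx_comm_of_sum (r := 29) (s := 37) (q := 40) (c := 1) (by decide), mul_assoc, mul_assoc,
    fl40_30, fl37_30]

theorem fl36_29 (s t29 t30 t31 t32 t33 t34 t35 t36 t37 t38 t39 t40 t41 t42 t43 t44 t45 t46 t47 : K) :
    fx K 36 s * fw29 t29 t30 t31 t32 t33 t34 t35 t36 t37 t38 t39 t40 t41 t42 t43 t44 t45 t46 t47 =
      fw29 t29 t30 t31 t32 t33 t34 t35 (t36 + s) t37 t38 t39 (t40 + (t30 * s)) t41 t42 t43 (t44 + (t33 * (t30 * s))) t45 t46 (t47 + (t30 * s ^ 2)) := by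
  unfold fw29
  rw [← mul_assoc, fx_comm_of_nil (r := 29) (s := 36) (by decide), mul_assoc, fl36_30]

theorem fl35_29 (s t29 t30 t31 t32 t33 t34 t35 t36 t37 t38 t39 t40 t41 t42 t43 t44 t45 t46 t47 : K) :
    fx K 35 s * fw29 t29 t30 t31 t32 t33 t34 t35 t36 t37 t38 t39 t40 t41 t42 t43 t44 t45 t46 t47 =
      fw29 t29 t30 t31 t32 t33 t34 (t35 + s) t36 t37 t38 (t39 + (t29 * s)) (t40 + (t31 * s)) t41 t42 t43 ((t44 + (t34 * (t29 * s))) + (t33 * (t31 * s))) t45 (t46 + (t31 * s ^ 2)) t47 := by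
  unfold fw29
  rw [← mul_assoc, fx_comm_of_sum (r := 29) (s := 35) (q := 39) (c := -1) (by decide), mul_assoc, mul_assoc,
    fl39_30, fl35_30]

theorem fl34_29 (s t29 t30 t31 t32 t33 t34 t35 t36 t37 t38 t39 t40 t41 t42 t43 t44 t45 t46 t47 : K) :
    fx K 34 s * fw29 t29 t30 t31 t32 t33 t34 t35 t36 t37 t38 t39 t40 t41 t42 t43 t44 t45 t46 t47 =
      fw29 t29 t30 t31 t32 t33 (t34 + s) t35 t36 t37 (t38 + (t29 * s)) t39 (t40 + (t32 * s)) t41 t42 t43 ((t44 + (t35 * (t29 * s))) + (t33 * (t32 * s))) (t45 + (t32 * s ^ 2)) t46 t47 := by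
  unfold fw29
  rw [← mul_assoc, fx_comm_of_sum (r := 29) (s := 34) (q := 38) (c := -1) (by decide), mul_assoc, mul_assoc,
    fl38_30, fl34_30]

theorem fl33_29 (s t29 t30 t31 t32 t33 t34 t35 t36 t37 t38 t39 t40 t41 t42 t43 t44 t45 t46 t47 : K) :
    fx K 33 s * fw29 t29 t30 t31 t32 t33 t34 t35 t36 t37 t38 t39 t40 t41 t42 t43 t44 t45 t46 t47 =
      fw29 t29 t30 t31 t32 (t33 + s) t34 t35 (t36 + (t29 * s)) (t37 + (t30 * s)) (t38 + (t31 * s)) (t39 + (t32 * s)) (t40 + (t30 * (t29 * s))) (t41 + (t30 * s ^ 2)) (t42 + (t31 * s ^ 2)) (t43 + (t32 * s ^ 2)) ((((t44 + (t33 * (t30 * (t29 * s)))) + ((t36 + (t29 * s)) * (t30 * s))) + (t35 * (t31 * s))) + (t34 * (t32 * s))) (t45 + (t31 * (t30 * s ^ 2))) (t46 + (t32 * (t30 * s ^ 2))) ((t47 + (t30 * (t29 * s) ^ 2)) + (t32 * (t31 * s ^ 2))) := by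
  unfold fw29
  rw [← mul_assoc, fx_comm_of_sum (r := 29) (s := 33) (q := 36) (c := 1) (by decide), mul_assoc, mul_assoc,
    fl36_30, fl33_30]

theorem fl32_29 (s t29 t30 t31 t32 t33 t34 t35 t36 t37 t38 t39 t40 t41 t42 t43 t44 t45 t46 t47 : K) :
    fx K 32 s * fw29 t29 t30 t31 t32 t33 t34 t35 t36 t37 t38 t39 t40 t41 t42 t43 t44 t45 t46 t47 =
      fw29 t29 t30 t31 (t32 + s) t33 t34 t35 t36 t37 t38 t39 t40 t41 t42 t43 t44 t45 t46 t47 := by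
  unfold fw29
  rw [← mul_assoc, fx_comm_of_nil (r := 29) (s := 32) (by decide), mul_assoc, fl32_30]

theorem fl31_29 (s t29 t30 t31 t32 t33 t34 t35 t36 t37 t38 t39 t40 t41 t42 t43 t44 t45 t46 t47 : K) :
    fx K 31 s * fw29 t29 t30 t31 t32 t33 t34 t35 t36 t37 t38 t39 t40 t41 t42 t43 t44 t45 t46 t47 =
      fw29 t29 t30 (t31 + s) t32 t33 t34 t35 t36 t37 t38 t39 t40 t41 t42 t43 t44 t45 t46 t47 := by
  unfold fw29
  rw [← mul_assoc, fx_comm_of_nil (r := 29) (s := 31) (by decide), mul_assoc, fl31_30]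

theorem fl30_29 (s t29 t30 t31 t32 t33 t34 t35 t36 t37 t38 t39 t40 t41 t42 t43 t44 t45 t46 t47 : K) :
    fx K 30 s * fw29 t29 t30 t31 t32 t33 t34 t35 t36 t37 t38 t39 t40 t41 t42 t43 t44 t45 t46 t47 =
      fw29 t29 (t30 + s) t31 t32 t33 t34 t35 t36 t37 t38 t39 t40 t41 t42 t43 t44 t45 t46 t47 := by
  unfold fw29
  rw [← mul_assoc, fx_comm_of_nil (r := 29) (s := 30) (by decide), mul_assoc, fl30_30]

theorem fl29_29 (s t29 t30 t31 t32 t33 t34 t35 t36 t37 t38 t39 t40 t41 t42 t43 t44 t45 t46 t47 : K) :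
    fx K 29 s * fw29 t29 t30 t31 t32 t33 t34 t35 t36 t37 t38 t39 t40 t41 t42 t43 t44 t45 t46 t47 =
      fw29 (t29 + s) t30 t31 t32 t33 t34 t35 t36 t37 t38 t39 t40 t41 t42 t43 t44 t45 t46 t47 := by
  unfold fw29
  rw [← mul_assoc, fx_add, add_comm]

theorem fl47_28 (s t28 t29 t30 t31 t32 t33 t34 t35 t36 t37 t38 t39 t40 t41 t42 t43 t44 t45 t46 t47 : K) :
    fx K 47 s * fw28 t28 t29 t30 t31 t32 t33 t34 t35 t36 t37 t38 t39 t40 t41 t42 t43 t44 t45 t46 t47 =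
      fw28 t28 t29 t30 t31 t32 t33 t34 t35 t36 t37 t38 t39 t40 t41 t42 t43 t44 t45 t46 (t47 + s) := by
  unfold fw28
  rw [← mul_assoc, fx_comm_of_nil (r := 28) (s := 47) (by decide), mul_assoc, fl47_29]

theorem fl46_28 (s t28 t29 t30 t31 t32 t33 t34 t35 t36 t37 t38 t39 t40 t41 t42 t43 t44 t45 t46 t47 : K) :
    fx K 46 s * fw28 t28 t29 t30 t31 t32 t33 t34 t35 t36 t37 t38 t39 t40 t41 t42 t43 t44 t45 t46 t47 =
      fw28 t28 t29 t30 t31 t32 t33 t34 t35 t36 t37 t38 t39 t40 t41 t42 t43 t44 t45 (t46 + s) t47 := by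
  unfold fw28
  rw [← mul_assoc, fx_comm_of_nil (r := 28) (s := 46) (by decide), mul_assoc, fl46_29]

theorem fl45_28 (s t28 t29 t30 t31 t32 t33 t34 t35 t36 t37 t38 t39 t40 t41 t42 t43 t44 t45 t46 t47 : K) :
    fx K 45 s * fw28 t28 t29 t30 t31 t32 t33 t34 t35 t36 t37 t38 t39 t40 t41 t42 t43 t44 t45 t46 t47 =
      fw28 t28 t29 t30 t31 t32 t33 t34 t35 t36 t37 t38 t39 t40 t41 t42 t43 t44 (t45 + s) t46 t47 := by
  unfold fw28
  rw [← mul_assoc, fx_comm_of_nil (r := 28) (s := 45) (by decide), mul_assoc, fl45_29]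

theorem fl44_28 (s t28 t29 t30 t31 t32 t33 t34 t35 t36 t37 t38 t39 t40 t41 t42 t43 t44 t45 t46 t47 : K) :
    fx K 44 s * fw28 t28 t29 t30 t31 t32 t33 t34 t35 t36 t37 t38 t39 t40 t41 t42 t43 t44 t45 t46 t47 =
      fw28 t28 t29 t30 t31 t32 t33 t34 t35 t36 t37 t38 t39 t40 t41 t42 t43 (t44 + s) t45 t46 t47 := by
  unfold fw28
  rw [← mul_assoc, fx_comm_of_even (r := 28) (s := 44) (q := 46) (c := 2) (by decide), mul_assoc, fl44_29]

theorem fl43_28 (s t28 t29 t30 t31 t32 t33 t34 t35 t36 t37 t38 t39 t40 t41 t42 t43 t44 t45 t46 t47 : K) :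
    fx K 43 s * fw28 t28 t29 t30 t31 t32 t33 t34 t35 t36 t37 t38 t39 t40 t41 t42 t43 t44 t45 t46 t47 =
      fw28 t28 t29 t30 t31 t32 t33 t34 t35 t36 t37 t38 t39 t40 t41 t42 (t43 + s) t44 t45 (t46 + (t30 * s)) (t47 + (t31 * s)) := by
  unfold fw28
  rw [← mul_assoc, fx_comm_of_nil (r := 28) (s := 43) (by decide), mul_assoc, fl43_29]

theorem fl42_28 (s t28 t29 t30 t31 t32 t33 t34 t35 t36 t37 t38 t39 t40 t41 t42 t43 t44 t45 t46 t47 : K) :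
    fx K 42 s * fw28 t28 t29 t30 t31 t32 t33 t34 t35 t36 t37 t38 t39 t40 t41 t42 t43 t44 t45 t46 t47 =
      fw28 t28 t29 t30 t31 t32 t33 t34 t35 t36 t37 t38 t39 t40 t41 (t42 + s) t43 (t44 + (t28 * s)) (t45 + (t30 * s)) (t46 + (t28 ^ 2 * s)) (t47 + (t32 * s)) := by
  unfold fw28
  rw [← mul_assoc, fx_comm_of_dbl21 (r := 28) (s := 42) (q := 44) (c := -1) (q' := 46) (c' := -1) (by decide),
    mul_assoc, mul_assoc, mul_assoc, fl46_29, fl44_29, fl42_29]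

theorem fl41_28 (s t28 t29 t30 t31 t32 t33 t34 t35 t36 t37 t38 t39 t40 t41 t42 t43 t44 t45 t46 t47 : K) :
    fx K 41 s * fw28 t28 t29 t30 t31 t32 t33 t34 t35 t36 t37 t38 t39 t40 t41 t42 t43 t44 t45 t46 t47 =
      fw28 t28 t29 t30 t31 t32 t33 t34 t35 t36 t37 t38 t39 t40 (t41 + s) t42 t43 (t44 + (t29 * s)) (t45 + (t31 * s)) (t46 + (t32 * s)) (t47 + (t29 ^ 2 * s)) := by
  unfold fw28
  rw [← mul_assoc, fx_comm_of_nil (r := 28) (s := 41) (by decide), mul_assoc, fl41_29]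

theorem fl40_28 (s t28 t29 t30 t31 t32 t33 t34 t35 t36 t37 t38 t39 t40 t41 t42 t43 t44 t45 t46 t47 : K) :
    fx K 40 s * fw28 t28 t29 t30 t31 t32 t33 t34 t35 t36 t37 t38 t39 t40 t41 t42 t43 t44 t45 t46 t47 =
      fw28 t28 t29 t30 t31 t32 t33 t34 t35 t36 t37 t38 t39 (t40 + s) t41 t42 t43 (t44 + (t33 * s)) t45 t46 t47 := by
  unfold fw28
  rw [← mul_assoc, fx_comm_of_nil (r := 28) (s := 40) (by decide), mul_assoc, fl40_29]

theorem fl39_28 (s t28 t29 t30 t31 t32 t33 t34 t35 t36 t37 t38 t39 t40 t41 t42 t43 t44 t45 t46 t47 : K) :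
    fx K 39 s * fw28 t28 t29 t30 t31 t32 t33 t34 t35 t36 t37 t38 t39 t40 t41 t42 t43 t44 t45 t46 t47 =
      fw28 t28 t29 t30 t31 t32 t33 t34 t35 t36 t37 t38 (t39 + s) t40 t41 t42 t43 (t44 + (t34 * s)) t45 t46 t47 := by
  unfold fw28
  rw [← mul_assoc, fx_comm_of_nil (r := 28) (s := 39) (by decide), mul_assoc, fl39_29]

theorem fl38_28 (s t28 t29 t30 t31 t32 t33 t34 t35 t36 t37 t38 t39 t40 t41 t42 t43 t44 t45 t46 t47 : K) :
    fx K 38 s * fw28 t28 t29 t30 t31 t32 t33 t34 t35 t36 t37 t38 t39 t40 t41 t42 t43 t44 t45 t46 t47 =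
      fw28 t28 t29 t30 t31 t32 t33 t34 t35 t36 t37 (t38 + s) t39 (t40 + (t28 * s)) t41 t42 t43 ((t44 + (t33 * (t28 * s))) + (t35 * s)) t45 t46 t47 := by
  unfold fw28
  rw [← mul_assoc, fx_comm_of_sum (r := 28) (s := 38) (q := 40) (c := -1) (by decide), mul_assoc, mul_assoc,
    fl40_29, fl38_29]

theorem fl37_28 (s t28 t29 t30 t31 t32 t33 t34 t35 t36 t37 t38 t39 t40 t41 t42 t43 t44 t45 t46 t47 : K) :
    fx K 37 s * fw28 t28 t29 t30 t31 t32 t33 t34 t35 t36 t37 t38 t39 t40 t41 t42 t43 t44 t45 t46 t47 =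
      fw28 t28 t29 t30 t31 t32 t33 t34 t35 t36 (t37 + s) t38 t39 (t40 + (t29 * s)) t41 t42 t43 ((t44 + (t33 * (t29 * s))) + (t36 * s)) t45 t46 t47 := by
  unfold fw28
  rw [← mul_assoc, fx_comm_of_nil (r := 28) (s := 37) (by decide), mul_assoc, fl37_29]

theorem fl36_28 (s t28 t29 t30 t31 t32 t33 t34 t35 t36 t37 t38 t39 t40 t41 t42 t43 t44 t45 t46 t47 : K) :
    fx K 36 s * fw28 t28 t29 t30 t31 t32 t33 t34 t35 t36 t37 t38 t39 t40 t41 t42 t43 t44 t45 t46 t47 =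
      fw28 t28 t29 t30 t31 t32 t33 t34 t35 (t36 + s) t37 t38 (t39 + (t28 * s)) (t40 + (t30 * s)) t41 t42 t43 ((t44 + (t34 * (t28 * s))) + (t33 * (t30 * s))) t45 t46 (t47 + (t30 * s ^ 2)) := by
  unfold fw28
  rw [← mul_assoc, fx_comm_of_sum (r := 28) (s := 36) (q := 39) (c := 1) (by decide), mul_assoc, mul_assoc,
    fl39_29, fl36_29]

theorem fl35_28 (s t28 t29 t30 t31 t32 t33 t34 t35 t36 t37 t38 t39 t40 t41 t42 t43 t44 t45 t46 t47 : K) :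
    fx K 35 s * fw28 t28 t29 t30 t31 t32 t33 t34 t35 t36 t37 t38 t39 t40 t41 t42 t43 t44 t45 t46 t47 =
      fw28 t28 t29 t30 t31 t32 t33 t34 (t35 + s) t36 t37 t38 (t39 + (t29 * s)) (t40 + (t31 * s)) t41 t42 t43 ((t44 + (t34 * (t29 * s))) + (t33 * (t31 * s))) t45 (t46 + (t31 * s ^ 2)) t47 := by
  unfold fw28
  rw [← mul_assoc, fx_comm_of_nil (r := 28) (s := 35) (by decide), mul_assoc, fl35_29]

theorem fl34_28 (s t28 t29 t30 t31 t32 t33 t34 t35 t36 t37 t38 t39 t40 t41 t42 t43 t44 t45 t46 t47 : K) :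
    fx K 34 s * fw28 t28 t29 t30 t31 t32 t33 t34 t35 t36 t37 t38 t39 t40 t41 t42 t43 t44 t45 t46 t47 =
      fw28 t28 t29 t30 t31 t32 t33 (t34 + s) t35 t36 (t37 + (t28 * s)) (t38 + (t29 * s)) t39 ((t40 + (t29 * (t28 * s))) + (t32 * s)) t41 t42 t43 ((((t44 + (t33 * (t29 * (t28 * s)))) + (t36 * (t28 * s))) + (t35 * (t29 * s))) + (t33 * (t32 * s))) (t45 + (t32 * s ^ 2)) t46 t47 := by
  unfold fw28
  rw [← mul_assoc, fx_comm_of_sum (r := 28) (s := 34) (q := 37) (c := -1) (by decide), mul_assoc, mul_assoc,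
    fl37_29, fl34_29]

theorem fl33_28 (s t28 t29 t30 t31 t32 t33 t34 t35 t36 t37 t38 t39 t40 t41 t42 t43 t44 t45 t46 t47 : K) :
    fx K 33 s * fw28 t28 t29 t30 t31 t32 t33 t34 t35 t36 t37 t38 t39 t40 t41 t42 t43 t44 t45 t46 t47 =
      fw28 t28 t29 t30 t31 t32 (t33 + s) t34 (t35 + (t28 * s)) (t36 + (t29 * s)) (t37 + (t30 * s)) (t38 + (t31 * s)) ((t39 + (t29 * (t28 * s))) + (t32 * s)) ((t40 + (t31 * (t28 * s))) + (t30 * (t29 * s))) (t41 + (t30 * s ^ 2)) (t42 + (t31 * s ^ 2)) (t43 + (t32 * s ^ 2)) ((((((t44 + (t34 * (t29 * (t28 * s)))) + (t33 * (t31 * (t28 * s)))) + (t33 * (t30 * (t29 * s)))) + ((t36 + (t29 * s)) * (t30 * s))) + ((t35 + (t28 * s)) * (t31 * s))) + (t34 * (t32 * s))) (t45 + (t31 * (t30 * s ^ 2))) ((t46 + (t31 * (t28 * s) ^ 2)) + (t32 * (t30 * s ^ 2))) ((t47 + (t30 * (t29 * s) ^ 2)) + (t32 * (t31 * s ^ 2))) := by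
  unfold fw28
  rw [← mul_assoc, fx_comm_of_sum (r := 28) (s := 33) (q := 35) (c := 1) (by decide), mul_assoc, mul_assoc,
    fl35_29, fl33_29]

theorem fl32_28 (s t28 t29 t30 t31 t32 t33 t34 t35 t36 t37 t38 t39 t40 t41 t42 t43 t44 t45 t46 t47 : K) :
    fx K 32 s * fw28 t28 t29 t30 t31 t32 t33 t34 t35 t36 t37 t38 t39 t40 t41 t42 t43 t44 t45 t46 t47 =
      fw28 t28 t29 t30 t31 (t32 + s) t33 t34 t35 t36 t37 t38 t39 t40 t41 t42 t43 t44 t45 t46 t47 := by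
  unfold fw28
  rw [← mul_assoc, fx_comm_of_nil (r := 28) (s := 32) (by decide), mul_assoc, fl32_29]

theorem fl31_28 (s t28 t29 t30 t31 t32 t33 t34 t35 t36 t37 t38 t39 t40 t41 t42 t43 t44 t45 t46 t47 : K) :
    fx K 31 s * fw28 t28 t29 t30 t31 t32 t33 t34 t35 t36 t37 t38 t39 t40 t41 t42 t43 t44 t45 t46 t47 =
      fw28 t28 t29 t30 (t31 + s) t32 t33 t34 t35 t36 t37 t38 t39 t40 t41 t42 t43 t44 t45 t46 t47 := by
  unfold fw28
  rw [← mul_assoc, fx_comm_of_nil (r := 28) (s := 31) (by decide), mul_assoc, fl31_29]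

theorem fl30_28 (s t28 t29 t30 t31 t32 t33 t34 t35 t36 t37 t38 t39 t40 t41 t42 t43 t44 t45 t46 t47 : K) :
    fx K 30 s * fw28 t28 t29 t30 t31 t32 t33 t34 t35 t36 t37 t38 t39 t40 t41 t42 t43 t44 t45 t46 t47 =
      fw28 t28 t29 (t30 + s) t31 t32 t33 t34 t35 t36 t37 t38 t39 t40 t41 t42 t43 t44 t45 t46 t47 := by
  unfold fw28
  rw [← mul_assoc, fx_comm_of_nil (r := 28) (s := 30) (by decide), mul_assoc, fl30_29]

theorem fl29_28 (s t28 t29 t30 t31 t32 t33 t34 t35 t36 t37 t38 t39 t40 t41 t42 t43 t44 t45 t46 t47 : K) :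
    fx K 29 s * fw28 t28 t29 t30 t31 t32 t33 t34 t35 t36 t37 t38 t39 t40 t41 t42 t43 t44 t45 t46 t47 =
      fw28 t28 (t29 + s) t30 t31 t32 t33 t34 t35 t36 t37 t38 t39 t40 t41 t42 t43 t44 t45 t46 t47 := by
  unfold fw28
  rw [← mul_assoc, fx_comm_of_even (r := 28) (s := 29) (q := 32) (c := 2) (by decide), mul_assoc, fl29_29]

theorem fl28_28 (s t28 t29 t30 t31 t32 t33 t34 t35 t36 t37 t38 t39 t40 t41 t42 t43 t44 t45 t46 t47 : K) :
    fx K 28 s * fw28 t28 t29 t30 t31 t32 t33 t34 t35 t36 t37 t38 t39 t40 t41 t42 t43 t44 t45 t46 t47 =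
      fw28 (t28 + s) t29 t30 t31 t32 t33 t34 t35 t36 t37 t38 t39 t40 t41 t42 t43 t44 t45 t46 t47 := by
  unfold fw28
  rw [← mul_assoc, fx_add, add_comm]

theorem fl47_27 (s t27 t28 t29 t30 t31 t32 t33 t34 t35 t36 t37 t38 t39 t40 t41 t42 t43 t44 t45 t46 t47 : K) :
    fx K 47 s * fw27 t27 t28 t29 t30 t31 t32 t33 t34 t35 t36 t37 t38 t39 t40 t41 t42 t43 t44 t45 t46 t47 =
      fw27 t27 t28 t29 t30 t31 t32 t33 t34 t35 t36 t37 t38 t39 t40 t41 t42 t43 t44 t45 t46 (t47 + s) := by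
  unfold fw27
  rw [← mul_assoc, fx_comm_of_nil (r := 27) (s := 47) (by decide), mul_assoc, fl47_28]

theorem fl46_27 (s t27 t28 t29 t30 t31 t32 t33 t34 t35 t36 t37 t38 t39 t40 t41 t42 t43 t44 t45 t46 t47 : K) :
    fx K 46 s * fw27 t27 t28 t29 t30 t31 t32 t33 t34 t35 t36 t37 t38 t39 t40 t41 t42 t43 t44 t45 t46 t47 =
      fw27 t27 t28 t29 t30 t31 t32 t33 t34 t35 t36 t37 t38 t39 t40 t41 t42 t43 t44 t45 (t46 + s) t47 := by
  unfold fw27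
  rw [← mul_assoc, fx_comm_of_nil (r := 27) (s := 46) (by decide), mul_assoc, fl46_28]

theorem fl45_27 (s t27 t28 t29 t30 t31 t32 t33 t34 t35 t36 t37 t38 t39 t40 t41 t42 t43 t44 t45 t46 t47 : K) :
    fx K 45 s * fw27 t27 t28 t29 t30 t31 t32 t33 t34 t35 t36 t37 t38 t39 t40 t41 t42 t43 t44 t45 t46 t47 =
      fw27 t27 t28 t29 t30 t31 t32 t33 t34 t35 t36 t37 t38 t39 t40 t41 t42 t43 t44 (t45 + s) t46 t47 := by
  unfold fw27
  rw [← mul_assoc, fx_comm_of_nil (r := 27) (s := 45) (by decide), mul_assoc, fl45_28]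

theorem fl44_27 (s t27 t28 t29 t30 t31 t32 t33 t34 t35 t36 t37 t38 t39 t40 t41 t42 t43 t44 t45 t46 t47 : K) :
    fx K 44 s * fw27 t27 t28 t29 t30 t31 t32 t33 t34 t35 t36 t37 t38 t39 t40 t41 t42 t43 t44 t45 t46 t47 =
      fw27 t27 t28 t29 t30 t31 t32 t33 t34 t35 t36 t37 t38 t39 t40 t41 t42 t43 (t44 + s) t45 t46 t47 := by
  unfold fw27
  rw [← mul_assoc, fx_comm_of_even (r := 27) (s := 44) (q := 45) (c := 2) (by decide), mul_assoc, fl44_28]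

theorem fl43_27 (s t27 t28 t29 t30 t31 t32 t33 t34 t35 t36 t37 t38 t39 t40 t41 t42 t43 t44 t45 t46 t47 : K) :
    fx K 43 s * fw27 t27 t28 t29 t30 t31 t32 t33 t34 t35 t36 t37 t38 t39 t40 t41 t42 t43 t44 t45 t46 t47 =
      fw27 t27 t28 t29 t30 t31 t32 t33 t34 t35 t36 t37 t38 t39 t40 t41 t42 (t43 + s) (t44 + (t27 * s)) (t45 + (t27 ^ 2 * s)) (t46 + (t30 * s)) (t47 + (t31 * s)) := by
  unfold fw27
  rw [← mul_assoc, fx_comm_of_dbl21 (r := 27) (s := 43) (q := 44) (c := 1) (q' := 45) (c' := 1) (by decide),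
    mul_assoc, mul_assoc, mul_assoc, fl45_28, fl44_28, fl43_28]

theorem fl42_27 (s t27 t28 t29 t30 t31 t32 t33 t34 t35 t36 t37 t38 t39 t40 t41 t42 t43 t44 t45 t46 t47 : K) :
    fx K 42 s * fw27 t27 t28 t29 t30 t31 t32 t33 t34 t35 t36 t37 t38 t39 t40 t41 t42 t43 t44 t45 t46 t47 =
      fw27 t27 t28 t29 t30 t31 t32 t33 t34 t35 t36 t37 t38 t39 t40 t41 (t42 + s) t43 (t44 + (t28 * s)) (t45 + (t30 * s)) (t46 + (t28 ^ 2 * s)) (t47 + (t32 * s)) := by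
  unfold fw27
  rw [← mul_assoc, fx_comm_of_nil (r := 27) (s := 42) (by decide), mul_assoc, fl42_28]

theorem fl41_27 (s t27 t28 t29 t30 t31 t32 t33 t34 t35 t36 t37 t38 t39 t40 t41 t42 t43 t44 t45 t46 t47 : K) :
    fx K 41 s * fw27 t27 t28 t29 t30 t31 t32 t33 t34 t35 t36 t37 t38 t39 t40 t41 t42 t43 t44 t45 t46 t47 =
      fw27 t27 t28 t29 t30 t31 t32 t33 t34 t35 t36 t37 t38 t39 t40 (t41 + s) t42 t43 (t44 + (t29 * s)) (t45 + (t31 * s)) (t46 + (t32 * s)) (t47 + (t29 ^ 2 * s)) := by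
  unfold fw27
  rw [← mul_assoc, fx_comm_of_nil (r := 27) (s := 41) (by decide), mul_assoc, fl41_28]

theorem fl40_27 (s t27 t28 t29 t30 t31 t32 t33 t34 t35 t36 t37 t38 t39 t40 t41 t42 t43 t44 t45 t46 t47 : K) :
    fx K 40 s * fw27 t27 t28 t29 t30 t31 t32 t33 t34 t35 t36 t37 t38 t39 t40 t41 t42 t43 t44 t45 t46 t47 =
      fw27 t27 t28 t29 t30 t31 t32 t33 t34 t35 t36 t37 t38 t39 (t40 + s) t41 t42 t43 (t44 + (t33 * s)) t45 t46 t47 := by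
  unfold fw27
  rw [← mul_assoc, fx_comm_of_nil (r := 27) (s := 40) (by decide), mul_assoc, fl40_28]

theorem fl39_27 (s t27 t28 t29 t30 t31 t32 t33 t34 t35 t36 t37 t38 t39 t40 t41 t42 t43 t44 t45 t46 t47 : K) :
    fx K 39 s * fw27 t27 t28 t29 t30 t31 t32 t33 t34 t35 t36 t37 t38 t39 t40 t41 t42 t43 t44 t45 t46 t47 =
      fw27 t27 t28 t29 t30 t31 t32 t33 t34 t35 t36 t37 t38 (t39 + s) (t40 + (t27 * s)) t41 t42 t43 ((t44 + (t33 * (t27 * s))) + (t34 * s)) t45 t46 t47 := by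
  unfold fw27
  rw [← mul_assoc, fx_comm_of_sum (r := 27) (s := 39) (q := 40) (c := 1) (by decide), mul_assoc, mul_assoc,
    fl40_28, fl39_28]

theorem fl38_27 (s t27 t28 t29 t30 t31 t32 t33 t34 t35 t36 t37 t38 t39 t40 t41 t42 t43 t44 t45 t46 t47 : K) :
    fx K 38 s * fw27 t27 t28 t29 t30 t31 t32 t33 t34 t35 t36 t37 t38 t39 t40 t41 t42 t43 t44 t45 t46 t47 =
      fw27 t27 t28 t29 t30 t31 t32 t33 t34 t35 t36 t37 (t38 + s) t39 (t40 + (t28 * s)) t41 t42 t43 ((t44 + (t33 * (t28 * s))) + (t35 * s)) t45 t46 t47 := by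
  unfold fw27
  rw [← mul_assoc, fx_comm_of_nil (r := 27) (s := 38) (by decide), mul_assoc, fl38_28]

theorem fl37_27 (s t27 t28 t29 t30 t31 t32 t33 t34 t35 t36 t37 t38 t39 t40 t41 t42 t43 t44 t45 t46 t47 : K) :
    fx K 37 s * fw27 t27 t28 t29 t30 t31 t32 t33 t34 t35 t36 t37 t38 t39 t40 t41 t42 t43 t44 t45 t46 t47 =
      fw27 t27 t28 t29 t30 t31 t32 t33 t34 t35 t36 (t37 + s) t38 t39 (t40 + (t29 * s)) t41 t42 t43 ((t44 + (t33 * (t29 * s))) + (t36 * s)) t45 t46 t47 := by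
  unfold fw27
  rw [← mul_assoc, fx_comm_of_nil (r := 27) (s := 37) (by decide), mul_assoc, fl37_28]

theorem fl36_27 (s t27 t28 t29 t30 t31 t32 t33 t34 t35 t36 t37 t38 t39 t40 t41 t42 t43 t44 t45 t46 t47 : K) :
    fx K 36 s * fw27 t27 t28 t29 t30 t31 t32 t33 t34 t35 t36 t37 t38 t39 t40 t41 t42 t43 t44 t45 t46 t47 =
      fw27 t27 t28 t29 t30 t31 t32 t33 t34 t35 (t36 + s) t37 (t38 + (t27 * s)) (t39 + (t28 * s)) ((t40 + (t28 * (t27 * s))) + (t30 * s)) t41 t42 t43 ((((t44 + (t33 * (t28 * (t27 * s)))) + (t35 * (t27 * s))) + (t34 * (t28 * s))) + (t33 * (t30 * s))) t45 t46 (t47 + (t30 * s ^ 2)) := by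
  unfold fw27
  rw [← mul_assoc, fx_comm_of_sum (r := 27) (s := 36) (q := 38) (c := 1) (by decide), mul_assoc, mul_assoc,
    fl38_28, fl36_28]

theorem fl35_27 (s t27 t28 t29 t30 t31 t32 t33 t34 t35 t36 t37 t38 t39 t40 t41 t42 t43 t44 t45 t46 t47 : K) :
    fx K 35 s * fw27 t27 t28 t29 t30 t31 t32 t33 t34 t35 t36 t37 t38 t39 t40 t41 t42 t43 t44 t45 t46 t47 =
      fw27 t27 t28 t29 t30 t31 t32 t33 t34 (t35 + s) t36 (t37 + (t27 * s)) t38 (t39 + (t29 * s)) ((t40 + (t29 * (t27 * s))) + (t31 * s)) t41 t42 t43 ((((t44 + (t33 * (t29 * (t27 * s)))) + (t36 * (t27 * s))) + (t34 * (t29 * s))) + (t33 * (t31 * s))) t45 (t46 + (t31 * s ^ 2)) t47 := by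
  unfold fw27
  rw [← mul_assoc, fx_comm_of_sum (r := 27) (s := 35) (q := 37) (c := 1) (by decide), mul_assoc, mul_assoc,
    fl37_28, fl35_28]

theorem fl34_27 (s t27 t28 t29 t30 t31 t32 t33 t34 t35 t36 t37 t38 t39 t40 t41 t42 t43 t44 t45 t46 t47 : K) :
    fx K 34 s * fw27 t27 t28 t29 t30 t31 t32 t33 t34 t35 t36 t37 t38 t39 t40 t41 t42 t43 t44 t45 t46 t47 =
      fw27 t27 t28 t29 t30 t31 t32 t33 (t34 + s) t35 t36 (t37 + (t28 * s)) (t38 + (t29 * s)) t39 ((t40 + (t29 * (t28 * s))) + (t32 * s)) t41 t42 t43 ((((t44 + (t33 * (t29 * (t28 * s)))) + (t36 * (t28 * s))) + (t35 * (t29 * s))) + (t33 * (t32 * s))) (t45 + (t32 * s ^ 2)) t46 t47 := by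
  unfold fw27
  rw [← mul_assoc, fx_comm_of_nil (r := 27) (s := 34) (by decide), mul_assoc, fl34_28]

theorem fl33_27 (s t27 t28 t29 t30 t31 t32 t33 t34 t35 t36 t37 t38 t39 t40 t41 t42 t43 t44 t45 t46 t47 : K) :
    fx K 33 s * fw27 t27 t28 t29 t30 t31 t32 t33 t34 t35 t36 t37 t38 t39 t40 t41 t42 t43 t44 t45 t46 t47 =
      fw27 t27 t28 t29 t30 t31 t32 (t33 + s) (t34 + (t27 * s)) (t35 + (t28 * s)) (t36 + (t29 * s)) ((t37 + (t28 * (t27 * s))) + (t30 * s)) ((t38 + (t29 * (t27 * s))) + (t31 * s)) ((t39 + (t29 * (t28 * s))) + (t32 * s)) ((((t40 + (t29 * (t28 * (t27 * s)))) + (t32 * (t27 * s))) + (t31 * (t28 * s))) + (t30 * (t29 * s))) (t41 + (t30 * s ^ 2)) (t42 + (t31 * s ^ 2)) (t43 + (t32 * s ^ 2)) ((((((((((t44 + (t33 * (t29 * (t28 * (t27 * s))))) + (t36 * (t28 * (t27 * s)))) + (t35 * (t29 * (t27 * s)))) + (t33 * (t32 * (t27 * s)))) + ((t34 + (t27 * s)) * (t29 * (t28 * s))))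 + (t33 * (t31 * (t28 * s)))) + (t33 * (t30 * (t29 * s)))) + ((t36 + (t29 * s)) * (t30 * s))) + ((t35 + (t28 * s)) * (t31 * s))) + ((t34 + (t27 * s)) * (t32 * s))) ((t45 + (t32 * (t27 * s) ^ 2)) + (t31 * (t30 * s ^ 2))) ((t46 + (t31 * (t28 * s) ^ 2)) + (t32 * (t30 * s ^ 2))) ((t47 + (t30 * (t29 * s) ^ 2)) + (t32 * (t31 * s ^ 2))) := by
  unfold fw27
  rw [← mul_assoc, fx_comm_of_sum (r := 27) (s := 33) (q := 34) (c := 1) (by decide), mul_assoc, mul_assoc,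
    fl34_28, fl33_28]

theorem fl32_27 (s t27 t28 t29 t30 t31 t32 t33 t34 t35 t36 t37 t38 t39 t40 t41 t42 t43 t44 t45 t46 t47 : K) :
    fx K 32 s * fw27 t27 t28 t29 t30 t31 t32 t33 t34 t35 t36 t37 t38 t39 t40 t41 t42 t43 t44 t45 t46 t47 =
      fw27 t27 t28 t29 t30 t31 (t32 + s) t33 t34 t35 t36 t37 t38 t39 t40 t41 t42 t43 t44 t45 t46 t47 := by
  unfold fw27
  rw [← mul_assoc, fx_comm_of_nil (r := 27) (s := 32) (by decide), mul_assoc, fl32_28]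

theorem fl31_27 (s t27 t28 t29 t30 t31 t32 t33 t34 t35 t36 t37 t38 t39 t40 t41 t42 t43 t44 t45 t46 t47 : K) :
    fx K 31 s * fw27 t27 t28 t29 t30 t31 t32 t33 t34 t35 t36 t37 t38 t39 t40 t41 t42 t43 t44 t45 t46 t47 =
      fw27 t27 t28 t29 t30 (t31 + s) t32 t33 t34 t35 t36 t37 t38 t39 t40 t41 t42 t43 t44 t45 t46 t47 := by
  unfold fw27
  rw [← mul_assoc, fx_comm_of_nil (r := 27) (s := 31) (by decide), mul_assoc, fl31_28]

theorem fl30_27 (s t27 t28 t29 t30 t31 t32 t33 t34 t35 t36 t37 t38 t39 t40 t41 t42 t43 t44 t45 t46 t47 : K) :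
    fx K 30 s * fw27 t27 t28 t29 t30 t31 t32 t33 t34 t35 t36 t37 t38 t39 t40 t41 t42 t43 t44 t45 t46 t47 =
      fw27 t27 t28 t29 (t30 + s) t31 t32 t33 t34 t35 t36 t37 t38 t39 t40 t41 t42 t43 t44 t45 t46 t47 := by
  unfold fw27
  rw [← mul_assoc, fx_comm_of_nil (r := 27) (s := 30) (by decide), mul_assoc, fl30_28]

theorem fl29_27 (s t27 t28 t29 t30 t31 t32 t33 t34 t35 t36 t37 t38 t39 t40 t41 t42 t43 t44 t45 t46 t47 : K) :
    fx K 29 s * fw27 t27 t28 t29 t30 t31 t32 t33 t34 t35 t36 t37 t38 t39 t40 t41 t42 t43 t44 t45 t46 t47 =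
      fw27 t27 t28 (t29 + s) t30 t31 t32 t33 t34 t35 t36 t37 t38 t39 t40 t41 t42 t43 t44 t45 t46 t47 := by
  unfold fw27
  rw [← mul_assoc, fx_comm_of_even (r := 27) (s := 29) (q := 31) (c := 2) (by decide), mul_assoc, fl29_28]

theorem fl28_27 (s t27 t28 t29 t30 t31 t32 t33 t34 t35 t36 t37 t38 t39 t40 t41 t42 t43 t44 t45 t46 t47 : K) :
    fx K 28 s * fw27 t27 t28 t29 t30 t31 t32 t33 t34 t35 t36 t37 t38 t39 t40 t41 t42 t43 t44 t45 t46 t47 =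
      fw27 t27 (t28 + s) t29 t30 t31 t32 t33 t34 t35 t36 t37 t38 t39 t40 t41 t42 t43 t44 t45 t46 t47 := by
  unfold fw27
  rw [← mul_assoc, fx_comm_of_even (r := 27) (s := 28) (q := 30) (c := 2) (by decide), mul_assoc, fl28_28]

theorem fl27_27 (s t27 t28 t29 t30 t31 t32 t33 t34 t35 t36 t37 t38 t39 t40 t41 t42 t43 t44 t45 t46 t47 : K) :
    fx K 27 s * fw27 t27 t28 t29 t30 t31 t32 t33 t34 t35 t36 t37 t38 t39 t40 t41 t42 t43 t44 t45 t46 t47 =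
      fw27 (t27 + s) t28 t29 t30 t31 t32 t33 t34 t35 t36 t37 t38 t39 t40 t41 t42 t43 t44 t45 t46 t47 := by
  unfold fw27
  rw [← mul_assoc, fx_add, add_comm]

theorem fl47_26 (s t26 t27 t28 t29 t30 t31 t32 t33 t34 t35 t36 t37 t38 t39 t40 t41 t42 t43 t44 t45 t46 t47 : K) :
    fx K 47 s * fw26 t26 t27 t28 t29 t30 t31 t32 t33 t34 t35 t36 t37 t38 t39 t40 t41 t42 t43 t44 t45 t46 t47 =
      fw26 t26 t27 t28 t29 t30 t31 t32 t33 t34 t35 t36 t37 t38 t39 t40 t41 t42 t43 t44 t45 t46 (t47 + s) := by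
  unfold fw26
  rw [← mul_assoc, fx_comm_of_nil (r := 26) (s := 47) (by decide), mul_assoc, fl47_27]

theorem fl46_26 (s t26 t27 t28 t29 t30 t31 t32 t33 t34 t35 t36 t37 t38 t39 t40 t41 t42 t43 t44 t45 t46 t47 : K) :
    fx K 46 s * fw26 t26 t27 t28 t29 t30 t31 t32 t33 t34 t35 t36 t37 t38 t39 t40 t41 t42 t43 t44 t45 t46 t47 =
      fw26 t26 t27 t28 t29 t30 t31 t32 t33 t34 t35 t36 t37 t38 t39 t40 t41 t42 t43 t44 t45 (t46 + s) t47 := by
  unfold fw26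
  rw [← mul_assoc, fx_comm_of_nil (r := 26) (s := 46) (by decide), mul_assoc, fl46_27]

theorem fl45_26 (s t26 t27 t28 t29 t30 t31 t32 t33 t34 t35 t36 t37 t38 t39 t40 t41 t42 t43 t44 t45 t46 t47 : K) :
    fx K 45 s * fw26 t26 t27 t28 t29 t30 t31 t32 t33 t34 t35 t36 t37 t38 t39 t40 t41 t42 t43 t44 t45 t46 t47 =
      fw26 t26 t27 t28 t29 t30 t31 t32 t33 t34 t35 t36 t37 t38 t39 t40 t41 t42 t43 t44 (t45 + s) t46 (t47 + (t26 * s)) := by
  unfold fw26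
  rw [← mul_assoc, fx_comm_of_sum (r := 26) (s := 45) (q := 47) (c := 1) (by decide), mul_assoc, mul_assoc,
    fl47_27, fl45_27]

theorem fl44_26 (s t26 t27 t28 t29 t30 t31 t32 t33 t34 t35 t36 t37 t38 t39 t40 t41 t42 t43 t44 t45 t46 t47 : K) :
    fx K 44 s * fw26 t26 t27 t28 t29 t30 t31 t32 t33 t34 t35 t36 t37 t38 t39 t40 t41 t42 t43 t44 t45 t46 t47 =
      fw26 t26 t27 t28 t29 t30 t31 t32 t33 t34 t35 t36 t37 t38 t39 t40 t41 t42 t43 (t44 + s) t45 t46 t47 := by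
  unfold fw26
  rw [← mul_assoc, fx_comm_of_nil (r := 26) (s := 44) (by decide), mul_assoc, fl44_27]

theorem fl43_26 (s t26 t27 t28 t29 t30 t31 t32 t33 t34 t35 t36 t37 t38 t39 t40 t41 t42 t43 t44 t45 t46 t47 : K) :
    fx K 43 s * fw26 t26 t27 t28 t29 t30 t31 t32 t33 t34 t35 t36 t37 t38 t39 t40 t41 t42 t43 t44 t45 t46 t47 =
      fw26 t26 t27 t28 t29 t30 t31 t32 t33 t34 t35 t36 t37 t38 t39 t40 t41 t42 (t43 + s) (t44 + (t27 * s)) (t45 + (t27 ^ 2 * s)) (t46 + (t30 * s)) (t47 + (t31 * s)) := by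
  unfold fw26
  rw [← mul_assoc, fx_comm_of_nil (r := 26) (s := 43) (by decide), mul_assoc, fl43_27]

theorem fl42_26 (s t26 t27 t28 t29 t30 t31 t32 t33 t34 t35 t36 t37 t38 t39 t40 t41 t42 t43 t44 t45 t46 t47 : K) :
    fx K 42 s * fw26 t26 t27 t28 t29 t30 t31 t32 t33 t34 t35 t36 t37 t38 t39 t40 t41 t42 t43 t44 t45 t46 t47 =
      fw26 t26 t27 t28 t29 t30 t31 t32 t33 t34 t35 t36 t37 t38 t39 t40 t41 (t42 + s) t43 (t44 + (t28 * s)) (t45 + (t30 * s)) (t46 + (t28 ^ 2 * s)) (t47 + (t32 * s)) := by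
  unfold fw26
  rw [← mul_assoc, fx_comm_of_nil (r := 26) (s := 42) (by decide), mul_assoc, fl42_27]

theorem fl41_26 (s t26 t27 t28 t29 t30 t31 t32 t33 t34 t35 t36 t37 t38 t39 t40 t41 t42 t43 t44 t45 t46 t47 : K) :
    fx K 41 s * fw26 t26 t27 t28 t29 t30 t31 t32 t33 t34 t35 t36 t37 t38 t39 t40 t41 t42 t43 t44 t45 t46 t47 =
      fw26 t26 t27 t28 t29 t30 t31 t32 t33 t34 t35 t36 t37 t38 t39 t40 (t41 + s) t42 (t43 + (t26 * s)) ((t44 + (t27 * (t26 * s))) + (t29 * s)) ((t45 + (t27 ^ 2 * (t26 * s))) + (t31 * s)) ((t46 + (t30 * (t26 * s))) + (t32 * s)) ((t47 + (t31 * (t26 * s))) + (t29 ^ 2 * s)) := by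
  unfold fw26
  rw [← mul_assoc, fx_comm_of_sum (r := 26) (s := 41) (q := 43) (c := -1) (by decide), mul_assoc, mul_assoc,
    fl43_27, fl41_27]

theorem fl40_26 (s t26 t27 t28 t29 t30 t31 t32 t33 t34 t35 t36 t37 t38 t39 t40 t41 t42 t43 t44 t45 t46 t47 : K) :
    fx K 40 s * fw26 t26 t27 t28 t29 t30 t31 t32 t33 t34 t35 t36 t37 t38 t39 t40 t41 t42 t43 t44 t45 t46 t47 =
      fw26 t26 t27 t28 t29 t30 t31 t32 t33 t34 t35 t36 t37 t38 t39 (t40 + s) t41 t42 t43 (t44 + (t33 * s)) t45 t46 t47 := by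
  unfold fw26
  rw [← mul_assoc, fx_comm_of_nil (r := 26) (s := 40) (by decide), mul_assoc, fl40_27]

theorem fl39_26 (s t26 t27 t28 t29 t30 t31 t32 t33 t34 t35 t36 t37 t38 t39 t40 t41 t42 t43 t44 t45 t46 t47 : K) :
    fx K 39 s * fw26 t26 t27 t28 t29 t30 t31 t32 t33 t34 t35 t36 t37 t38 t39 t40 t41 t42 t43 t44 t45 t46 t47 =
      fw26 t26 t27 t28 t29 t30 t31 t32 t33 t34 t35 t36 t37 t38 (t39 + s) (t40 + (t27 * s)) t41 t42 t43 ((t44 + (t33 * (t27 * s))) + (t34 * s)) t45 t46 t47 := by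
  unfold fw26
  rw [← mul_assoc, fx_comm_of_nil (r := 26) (s := 39) (by decide), mul_assoc, fl39_27]

theorem fl38_26 (s t26 t27 t28 t29 t30 t31 t32 t33 t34 t35 t36 t37 t38 t39 t40 t41 t42 t43 t44 t45 t46 t47 : K) :
    fx K 38 s * fw26 t26 t27 t28 t29 t30 t31 t32 t33 t34 t35 t36 t37 t38 t39 t40 t41 t42 t43 t44 t45 t46 t47 =
      fw26 t26 t27 t28 t29 t30 t31 t32 t33 t34 t35 t36 t37 (t38 + s) t39 (t40 + (t28 * s)) t41 t42 t43 ((t44 + (t33 * (t28 * s))) + (t35 * s)) t45 t46 t47 := by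
  unfold fw26
  rw [← mul_assoc, fx_comm_of_nil (r := 26) (s := 38) (by decide), mul_assoc, fl38_27]

theorem fl37_26 (s t26 t27 t28 t29 t30 t31 t32 t33 t34 t35 t36 t37 t38 t39 t40 t41 t42 t43 t44 t45 t46 t47 : K) :
    fx K 37 s * fw26 t26 t27 t28 t29 t30 t31 t32 t33 t34 t35 t36 t37 t38 t39 t40 t41 t42 t43 t44 t45 t46 t47 =
      fw26 t26 t27 t28 t29 t30 t31 t32 t33 t34 t35 t36 (t37 + s) t38 (t39 + (t26 * s)) ((t40 + (t27 * (t26 * s))) + (t29 * s)) t41 t42 t43 ((((t44 + (t33 * (t27 * (t26 * s)))) + (t34 * (t26 * s))) + (t33 * (t29 * s))) + (t36 * s)) t45 (t46 + (t26 * s ^ 2)) t47 := by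
  unfold fw26
  rw [← mul_assoc, fx_comm_of_dbl12 (r := 26) (s := 37) (q := 39) (c := -1) (q' := 46) (c' := -1) (by decide),
    mul_assoc, mul_assoc, mul_assoc, fl46_27, fl39_27, fl37_27]

theorem fl36_26 (s t26 t27 t28 t29 t30 t31 t32 t33 t34 t35 t36 t37 t38 t39 t40 t41 t42 t43 t44 t45 t46 t47 : K) :
    fx K 36 s * fw26 t26 t27 t28 t29 t30 t31 t32 t33 t34 t35 t36 t37 t38 t39 t40 t41 t42 t43 t44 t45 t46 t47 =
      fw26 t26 t27 t28 t29 t30 t31 t32 t33 t34 t35 (t36 + s) t37 (t38 + (t27 * s)) (t39 + (t28 * s)) ((t40 + (t28 * (t27 * s))) + (t30 * s)) t41 t42 t43 ((((t44 + (t33 * (t28 * (t27 * s)))) + (t35 * (t27 * s))) + (t34 * (t28 * s))) + (t33 * (t30 * s))) t45 t46 (t47 + (t30 * s ^ 2)) := by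
  unfold fw26
  rw [← mul_assoc, fx_comm_of_nil (r := 26) (s := 36) (by decide), mul_assoc, fl36_27]

theorem fl35_26 (s t26 t27 t28 t29 t30 t31 t32 t33 t34 t35 t36 t37 t38 t39 t40 t41 t42 t43 t44 t45 t46 t47 : K) :
    fx K 35 s * fw26 t26 t27 t28 t29 t30 t31 t32 t33 t34 t35 t36 t37 t38 t39 t40 t41 t42 t43 t44 t45 t46 t47 =
      fw26 t26 t27 t28 t29 t30 t31 t32 t33 t34 (t35 + s) t36 (t37 + (t27 * s)) t38 (t39 + (t29 * s)) ((t40 + (t29 * (t27 * s))) + (t31 * s)) t41 t42 t43 ((((t44 + (t33 * (t29 * (t27 * s)))) + (t36 * (t27 * s))) + (t34 * (t29 * s))) + (t33 * (t31 * s))) t45 (t46 + (t31 * s ^ 2)) t47 := by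
  unfold fw26
  rw [← mul_assoc, fx_comm_of_nil (r := 26) (s := 35) (by decide), mul_assoc, fl35_27]

theorem fl34_26 (s t26 t27 t28 t29 t30 t31 t32 t33 t34 t35 t36 t37 t38 t39 t40 t41 t42 t43 t44 t45 t46 t47 : K) :
    fx K 34 s * fw26 t26 t27 t28 t29 t30 t31 t32 t33 t34 t35 t36 t37 t38 t39 t40 t41 t42 t43 t44 t45 t46 t47 =
      fw26 t26 t27 t28 t29 t30 t31 t32 t33 (t34 + s) t35 (t36 + (t26 * s)) (t37 + (t28 * s)) ((t38 + (t27 * (t26 * s))) + (t29 * s)) (t39 + (t28 * (t26 * s))) ((((t40 + (t28 * (t27 * (t26 * s)))) + (t30 * (t26 * s))) + (t29 * (t28 * s))) + (t32 * s)) t41 (t42 + (t26 * s ^ 2)) t43 (((((((((t44 + (t28 * (t26 * s ^ 2))) + (t33 * (t28 * (t27 * (t26 * s))))) + (t35 * (t27 * (t26 * s)))) + (t34 * (t28 * (t26 * s)))) + (t33 * (t30 * (t26 * s)))) + (t33 * (t29 * (t28 * s)))) + ((t36 + (t26 * s)) * (t28 * s))) + (t35 * (t29 * s))) + (t33 * (t32 * s))) ((t45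 + (t30 * (t26 * s ^ 2))) + (t32 * s ^ 2)) (t46 + (t28 ^ 2 * (t26 * s ^ 2))) ((t47 + (t32 * (t26 * s ^ 2))) + (t30 * (t26 * s) ^ 2)) := by
  unfold fw26
  rw [← mul_assoc, fx_comm_of_dbl12 (r := 26) (s := 34) (q := 36) (c := 1) (q' := 42) (c' := 1) (by decide),
    mul_assoc, mul_assoc, mul_assoc, fl42_27, fl36_27, fl34_27]

theorem fl33_26 (s t26 t27 t28 t29 t30 t31 t32 t33 t34 t35 t36 t37 t38 t39 t40 t41 t42 t43 t44 t45 t46 t47 : K) :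
    fx K 33 s * fw26 t26 t27 t28 t29 t30 t31 t32 t33 t34 t35 t36 t37 t38 t39 t40 t41 t42 t43 t44 t45 t46 t47 =
      fw26 t26 t27 t28 t29 t30 t31 t32 (t33 + s) (t34 + (t27 * s)) (t35 + (t28 * s)) (t36 + (t29 * s)) ((t37 + (t28 * (t27 * s))) + (t30 * s)) ((t38 + (t29 * (t27 * s))) + (t31 * s)) ((t39 + (t29 * (t28 * s))) + (t32 * s)) ((((t40 + (t29 * (t28 * (t27 * s)))) + (t32 * (t27 * s))) + (t31 * (t28 * s))) + (t30 * (t29 * s))) (t41 + (t30 * s ^ 2)) (t42 + (t31 * s ^ 2)) (t43 + (t32 * s ^ 2)) ((((((((((t44 + (t33 * (t29 * (t28 * (t27 * s))))) + (t36 * (t28 * (t27 * s)))) + (t35 * (t29 * (t27 * s)))) + (t33 * (t32 * (t27 * s)))) + ((t34 + (t27 * s)) * (t29 * (t28 * s)))) + (t33 * (t31 * (t28 * s)))) + (t33 * (t30 * (t29 * s)))) + ((t36 + (t29 * s)) * (t30 * s))) + ((t35 + (t28 * s)) * (t31 * s))) + ((t34 + (t27 * s)) * (t32 * s))) ((t45 + (t32 * (t27 * s) ^ 2)) + (t31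 * (t30 * s ^ 2))) ((t46 + (t31 * (t28 * s) ^ 2)) + (t32 * (t30 * s ^ 2))) ((t47 + (t30 * (t29 * s) ^ 2)) + (t32 * (t31 * s ^ 2))) := by
  unfold fw26
  rw [← mul_assoc, fx_comm_of_nil (r := 26) (s := 33) (by decide), mul_assoc, fl33_27]

theorem fl32_26 (s t26 t27 t28 t29 t30 t31 t32 t33 t34 t35 t36 t37 t38 t39 t40 t41 t42 t43 t44 t45 t46 t47 : K) :
    fx K 32 s * fw26 t26 t27 t28 t29 t30 t31 t32 t33 t34 t35 t36 t37 t38 t39 t40 t41 t42 t43 t44 t45 t46 t47 =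
      fw26 t26 t27 t28 t29 t30 t31 (t32 + s) t33 t34 t35 t36 t37 t38 t39 t40 t41 t42 t43 t44 t45 t46 t47 := by
  unfold fw26
  rw [← mul_assoc, fx_comm_of_nil (r := 26) (s := 32) (by decide), mul_assoc, fl32_27]

theorem fl31_26 (s t26 t27 t28 t29 t30 t31 t32 t33 t34 t35 t36 t37 t38 t39 t40 t41 t42 t43 t44 t45 t46 t47 : K) :
    fx K 31 s * fw26 t26 t27 t28 t29 t30 t31 t32 t33 t34 t35 t36 t37 t38 t39 t40 t41 t42 t43 t44 t45 t46 t47 =
      fw26 t26 t27 t28 t29 t30 (t31 + s) t32 t33 t34 t35 t36 t37 t38 t39 t40 t41 t42 t43 t44 t45 t46 t47 := by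
  unfold fw26
  rw [← mul_assoc, fx_comm_of_nil (r := 26) (s := 31) (by decide), mul_assoc, fl31_27]

theorem fl30_26 (s t26 t27 t28 t29 t30 t31 t32 t33 t34 t35 t36 t37 t38 t39 t40 t41 t42 t43 t44 t45 t46 t47 : K) :
    fx K 30 s * fw26 t26 t27 t28 t29 t30 t31 t32 t33 t34 t35 t36 t37 t38 t39 t40 t41 t42 t43 t44 t45 t46 t47 =
      fw26 t26 t27 t28 t29 (t30 + s) t31 (t32 + (t26 * s)) t33 t34 t35 t36 t37 t38 t39 t40 t41 t42 t43 t44 t45 t46 t47 := by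
  unfold fw26
  rw [← mul_assoc, fx_comm_of_sum (r := 26) (s := 30) (q := 32) (c := -1) (by decide), mul_assoc, mul_assoc,
    fl32_27, fl30_27]

theorem fl29_26 (s t26 t27 t28 t29 t30 t31 t32 t33 t34 t35 t36 t37 t38 t39 t40 t41 t42 t43 t44 t45 t46 t47 : K) :
    fx K 29 s * fw26 t26 t27 t28 t29 t30 t31 t32 t33 t34 t35 t36 t37 t38 t39 t40 t41 t42 t43 t44 t45 t46 t47 =
      fw26 t26 t27 t28 (t29 + s) t30 t31 t32 t33 t34 t35 t36 t37 t38 t39 t40 t41 t42 t43 t44 t45 t46 t47 := by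
  unfold fw26
  rw [← mul_assoc, fx_comm_of_nil (r := 26) (s := 29) (by decide), mul_assoc, fl29_27]

theorem fl28_26 (s t26 t27 t28 t29 t30 t31 t32 t33 t34 t35 t36 t37 t38 t39 t40 t41 t42 t43 t44 t45 t46 t47 : K) :
    fx K 28 s * fw26 t26 t27 t28 t29 t30 t31 t32 t33 t34 t35 t36 t37 t38 t39 t40 t41 t42 t43 t44 t45 t46 t47 =
      fw26 t26 t27 (t28 + s) t29 t30 t31 t32 t33 t34 t35 t36 t37 t38 t39 t40 t41 t42 t43 t44 t45 t46 t47 := by
  unfold fw26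
  rw [← mul_assoc, fx_comm_of_nil (r := 26) (s := 28) (by decide), mul_assoc, fl28_27]

theorem fl27_26 (s t26 t27 t28 t29 t30 t31 t32 t33 t34 t35 t36 t37 t38 t39 t40 t41 t42 t43 t44 t45 t46 t47 : K) :
    fx K 27 s * fw26 t26 t27 t28 t29 t30 t31 t32 t33 t34 t35 t36 t37 t38 t39 t40 t41 t42 t43 t44 t45 t46 t47 =
      fw26 t26 (t27 + s) t28 (t29 + (t26 * s)) t30 (t31 + (t26 * s ^ 2)) t32 t33 t34 t35 t36 t37 t38 t39 t40 t41 t42 t43 t44 t45 t46 t47 := by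
  unfold fw26
  rw [← mul_assoc, fx_comm_of_dbl12 (r := 26) (s := 27) (q := 29) (c := 1) (q' := 31) (c' := -1) (by decide),
    mul_assoc, mul_assoc, mul_assoc, fl31_27, fl29_27, fl27_27]

theorem fl26_26 (s t26 t27 t28 t29 t30 t31 t32 t33 t34 t35 t36 t37 t38 t39 t40 t41 t42 t43 t44 t45 t46 t47 : K) :
    fx K 26 s * fw26 t26 t27 t28 t29 t30 t31 t32 t33 t34 t35 t36 t37 t38 t39 t40 t41 t42 t43 t44 t45 t46 t47 =
      fw26 (t26 + s) t27 t28 t29 t30 t31 t32 t33 t34 t35 t36 t37 t38 t39 t40 t41 t42 t43 t44 t45 t46 t47 := by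
  unfold fw26
  rw [← mul_assoc, fx_add, add_comm]

theorem fl47_25 (s t25 t26 t27 t28 t29 t30 t31 t32 t33 t34 t35 t36 t37 t38 t39 t40 t41 t42 t43 t44 t45 t46 t47 : K) :
    fx K 47 s * fw25 t25 t26 t27 t28 t29 t30 t31 t32 t33 t34 t35 t36 t37 t38 t39 t40 t41 t42 t43 t44 t45 t46 t47 =
      fw25 t25 t26 t27 t28 t29 t30 t31 t32 t33 t34 t35 t36 t37 t38 t39 t40 t41 t42 t43 t44 t45 t46 (t47 + s) := by
  unfold fw25
  rw [← mul_assoc, fx_comm_of_nil (r := 25) (s := 47) (by decide), mul_assoc, fl47_26]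

theorem fl46_25 (s t25 t26 t27 t28 t29 t30 t31 t32 t33 t34 t35 t36 t37 t38 t39 t40 t41 t42 t43 t44 t45 t46 t47 : K) :
    fx K 46 s * fw25 t25 t26 t27 t28 t29 t30 t31 t32 t33 t34 t35 t36 t37 t38 t39 t40 t41 t42 t43 t44 t45 t46 t47 =
      fw25 t25 t26 t27 t28 t29 t30 t31 t32 t33 t34 t35 t36 t37 t38 t39 t40 t41 t42 t43 t44 t45 (t46 + s) t47 := by
  unfold fw25
  rw [← mul_assoc, fx_comm_of_nil (r := 25) (s := 46) (by decide), mul_assoc, fl46_26]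

theorem fl45_25 (s t25 t26 t27 t28 t29 t30 t31 t32 t33 t34 t35 t36 t37 t38 t39 t40 t41 t42 t43 t44 t45 t46 t47 : K) :
    fx K 45 s * fw25 t25 t26 t27 t28 t29 t30 t31 t32 t33 t34 t35 t36 t37 t38 t39 t40 t41 t42 t43 t44 t45 t46 t47 =
      fw25 t25 t26 t27 t28 t29 t30 t31 t32 t33 t34 t35 t36 t37 t38 t39 t40 t41 t42 t43 t44 (t45 + s) (t46 + (t25 * s)) (t47 + (t26 * s)) := by
  unfold fw25
  rw [← mul_assoc, fx_comm_of_sum (r := 25) (s := 45) (q := 46) (c := 1) (by decide), mul_assoc, mul_assoc,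
    fl46_26, fl45_26]

theorem fl44_25 (s t25 t26 t27 t28 t29 t30 t31 t32 t33 t34 t35 t36 t37 t38 t39 t40 t41 t42 t43 t44 t45 t46 t47 : K) :
    fx K 44 s * fw25 t25 t26 t27 t28 t29 t30 t31 t32 t33 t34 t35 t36 t37 t38 t39 t40 t41 t42 t43 t44 t45 t46 t47 =
      fw25 t25 t26 t27 t28 t29 t30 t31 t32 t33 t34 t35 t36 t37 t38 t39 t40 t41 t42 t43 (t44 + s) t45 t46 t47 := by
  unfold fw25
  rw [← mul_assoc, fx_comm_of_nil (r := 25) (s := 44) (by decide), mul_assoc, fl44_26]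

theorem fl43_25 (s t25 t26 t27 t28 t29 t30 t31 t32 t33 t34 t35 t36 t37 t38 t39 t40 t41 t42 t43 t44 t45 t46 t47 : K) :
    fx K 43 s * fw25 t25 t26 t27 t28 t29 t30 t31 t32 t33 t34 t35 t36 t37 t38 t39 t40 t41 t42 t43 t44 t45 t46 t47 =
      fw25 t25 t26 t27 t28 t29 t30 t31 t32 t33 t34 t35 t36 t37 t38 t39 t40 t41 t42 (t43 + s) (t44 + (t27 * s)) (t45 + (t27 ^ 2 * s)) (t46 + (t30 * s)) (t47 + (t31 * s)) := by
  unfold fw25
  rw [← mul_assoc, fx_comm_of_nil (r := 25) (s := 43) (by decide), mul_assoc, fl43_26]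

theorem fl42_25 (s t25 t26 t27 t28 t29 t30 t31 t32 t33 t34 t35 t36 t37 t38 t39 t40 t41 t42 t43 t44 t45 t46 t47 : K) :
    fx K 42 s * fw25 t25 t26 t27 t28 t29 t30 t31 t32 t33 t34 t35 t36 t37 t38 t39 t40 t41 t42 t43 t44 t45 t46 t47 =
      fw25 t25 t26 t27 t28 t29 t30 t31 t32 t33 t34 t35 t36 t37 t38 t39 t40 t41 (t42 + s) (t43 + (t25 * s)) ((t44 + (t27 * (t25 * s))) + (t28 * s)) ((t45 + (t27 ^ 2 * (t25 * s))) + (t30 * s)) ((t46 + (t30 * (t25 * s))) + (t28 ^ 2 * s)) ((t47 + (t31 * (t25 * s))) + (t32 * s)) := by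
  unfold fw25
  rw [← mul_assoc, fx_comm_of_sum (r := 25) (s := 42) (q := 43) (c := 1) (by decide), mul_assoc, mul_assoc,
    fl43_26, fl42_26]

theorem fl41_25 (s t25 t26 t27 t28 t29 t30 t31 t32 t33 t34 t35 t36 t37 t38 t39 t40 t41 t42 t43 t44 t45 t46 t47 : K) :
    fx K 41 s * fw25 t25 t26 t27 t28 t29 t30 t31 t32 t33 t34 t35 t36 t37 t38 t39 t40 t41 t42 t43 t44 t45 t46 t47 =
      fw25 t25 t26 t27 t28 t29 t30 t31 t32 t33 t34 t35 t36 t37 t38 t39 t40 (t41 + s) t42 (t43 + (t26 * s)) ((t44 + (t27 * (t26 * s))) + (t29 * s)) ((t45 + (t27 ^ 2 * (t26 * s))) + (t31 * s)) ((t46 + (t30 * (t26 * s))) + (t32 * s)) ((t47 + (t31 * (t26 * s))) + (t29 ^ 2 * s)) := by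
  unfold fw25
  rw [← mul_assoc, fx_comm_of_nil (r := 25) (s := 41) (by decide), mul_assoc, fl41_26]

theorem fl40_25 (s t25 t26 t27 t28 t29 t30 t31 t32 t33 t34 t35 t36 t37 t38 t39 t40 t41 t42 t43 t44 t45 t46 t47 : K) :
    fx K 40 s * fw25 t25 t26 t27 t28 t29 t30 t31 t32 t33 t34 t35 t36 t37 t38 t39 t40 t41 t42 t43 t44 t45 t46 t47 =
      fw25 t25 t26 t27 t28 t29 t30 t31 t32 t33 t34 t35 t36 t37 t38 t39 (t40 + s) t41 t42 t43 (t44 + (t33 * s)) t45 t46 t47 := by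
  unfold fw25
  rw [← mul_assoc, fx_comm_of_nil (r := 25) (s := 40) (by decide), mul_assoc, fl40_26]

theorem fl39_25 (s t25 t26 t27 t28 t29 t30 t31 t32 t33 t34 t35 t36 t37 t38 t39 t40 t41 t42 t43 t44 t45 t46 t47 : K) :
    fx K 39 s * fw25 t25 t26 t27 t28 t29 t30 t31 t32 t33 t34 t35 t36 t37 t38 t39 t40 t41 t42 t43 t44 t45 t46 t47 =
      fw25 t25 t26 t27 t28 t29 t30 t31 t32 t33 t34 t35 t36 t37 t38 (t39 + s) (t40 + (t27 * s)) t41 t42 t43 ((t44 + (t33 * (t27 * s))) + (t34 * s)) t45 t46 t47 := by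
  unfold fw25
  rw [← mul_assoc, fx_comm_of_nil (r := 25) (s := 39) (by decide), mul_assoc, fl39_26]

theorem fl38_25 (s t25 t26 t27 t28 t29 t30 t31 t32 t33 t34 t35 t36 t37 t38 t39 t40 t41 t42 t43 t44 t45 t46 t47 : K) :
    fx K 38 s * fw25 t25 t26 t27 t28 t29 t30 t31 t32 t33 t34 t35 t36 t37 t38 t39 t40 t41 t42 t43 t44 t45 t46 t47 =
      fw25 t25 t26 t27 t28 t29 t30 t31 t32 t33 t34 t35 t36 t37 (t38 + s) (t39 + (t25 * s)) ((t40 + (t27 * (t25 * s))) + (t28 * s)) t41 t42 t43 ((((t44 + (t33 * (t27 * (t25 * s)))) + (t34 * (t25 * s))) + (t33 * (t28 * s))) + (t35 * s)) t45 t46 (t47 + (t25 * s ^ 2)) := by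
  unfold fw25
  rw [← mul_assoc, fx_comm_of_dbl12 (r := 25) (s := 38) (q := 39) (c := 1) (q' := 47) (c' := 1) (by decide),
    mul_assoc, mul_assoc, mul_assoc, fl47_26, fl39_26, fl38_26]

theorem fl37_25 (s t25 t26 t27 t28 t29 t30 t31 t32 t33 t34 t35 t36 t37 t38 t39 t40 t41 t42 t43 t44 t45 t46 t47 : K) :
    fx K 37 s * fw25 t25 t26 t27 t28 t29 t30 t31 t32 t33 t34 t35 t36 t37 t38 t39 t40 t41 t42 t43 t44 t45 t46 t47 =
      fw25 t25 t26 t27 t28 t29 t30 t31 t32 t33 t34 t35 t36 (t37 + s) t38 (t39 + (t26 * s)) ((t40 + (t27 * (t26 * s))) + (t29 * s)) t41 t42 t43 ((((t44 + (t33 * (t27 * (t26 * s)))) + (t34 * (t26 * s))) + (t33 * (t29 * s))) + (t36 * s)) t45 (t46 + (t26 * s ^ 2)) t47 := by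
  unfold fw25
  rw [← mul_assoc, fx_comm_of_nil (r := 25) (s := 37) (by decide), mul_assoc, fl37_26]

theorem fl36_25 (s t25 t26 t27 t28 t29 t30 t31 t32 t33 t34 t35 t36 t37 t38 t39 t40 t41 t42 t43 t44 t45 t46 t47 : K) :
    fx K 36 s * fw25 t25 t26 t27 t28 t29 t30 t31 t32 t33 t34 t35 t36 t37 t38 t39 t40 t41 t42 t43 t44 t45 t46 t47 =
      fw25 t25 t26 t27 t28 t29 t30 t31 t32 t33 t34 t35 (t36 + s) t37 (t38 + (t27 * s)) (t39 + (t28 * s)) ((t40 + (t28 * (t27 * s))) + (t30 * s)) t41 t42 t43 ((((t44 + (t33 * (t28 * (t27 * s)))) + (t35 * (t27 * s))) + (t34 * (t28 * s))) + (t33 * (t30 * s))) t45 t46 (t47 + (t30 * s ^ 2)) := by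
  unfold fw25
  rw [← mul_assoc, fx_comm_of_nil (r := 25) (s := 36) (by decide), mul_assoc, fl36_26]

theorem fl35_25 (s t25 t26 t27 t28 t29 t30 t31 t32 t33 t34 t35 t36 t37 t38 t39 t40 t41 t42 t43 t44 t45 t46 t47 : K) :
    fx K 35 s * fw25 t25 t26 t27 t28 t29 t30 t31 t32 t33 t34 t35 t36 t37 t38 t39 t40 t41 t42 t43 t44 t45 t46 t47 =
      fw25 t25 t26 t27 t28 t29 t30 t31 t32 t33 t34 (t35 + s) t36 (t37 + (t27 * s)) t38 (t39 + (t29 * s)) ((t40 + (t29 * (t27 * s))) + (t31 * s)) t41 t42 t43 ((((t44 + (t33 * (t29 * (t27 * s)))) + (t36 * (t27 * s))) + (t34 * (t29 * s))) + (t33 * (t31 * s))) t45 (t46 + (t31 * s ^ 2)) t47 := by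
  unfold fw25
  rw [← mul_assoc, fx_comm_of_nil (r := 25) (s := 35) (by decide), mul_assoc, fl35_26]

theorem fl34_25 (s t25 t26 t27 t28 t29 t30 t31 t32 t33 t34 t35 t36 t37 t38 t39 t40 t41 t42 t43 t44 t45 t46 t47 : K) :
    fx K 34 s * fw25 t25 t26 t27 t28 t29 t30 t31 t32 t33 t34 t35 t36 t37 t38 t39 t40 t41 t42 t43 t44 t45 t46 t47 =
      fw25 t25 t26 t27 t28 t29 t30 t31 t32 t33 (t34 + s) (t35 + (t25 * s)) (t36 + (t26 * s)) ((t37 + (t27 * (t25 * s))) + (t28 * s)) ((t38 + (t27 * (t26 * s))) + (t29 * s)) ((t39 + (t29 * (t25 * s))) + (t28 * (t26 * s))) ((((((t40 + (t29 * (t27 * (t25 * s)))) + (t31 * (t25 * s))) + (t28 * (t27 * (t26 * s)))) + (t30 * (t26 * s))) + (t29 * (t28 * s))) + (t32 * s)) (t41 + (t25 * s ^ 2)) (t42 + (t26 * s ^ 2)) (t43 + (t26 * (t25 * s ^ 2))) (((((((((((((((t44 + (t27 * (t26 * (t25 * s ^ 2)))) + (t29 * (t25 * s ^ 2))) + (t33 * (t29 * (t27 * (t25 *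 s))))) + (t36 * (t27 * (t25 * s)))) + (t34 * (t29 * (t25 * s)))) + (t33 * (t31 * (t25 * s)))) + (t28 * (t26 * s ^ 2))) + (t33 * (t28 * (t27 * (t26 * s))))) + ((t35 + (t25 * s)) * (t27 * (t26 * s)))) + (t34 * (t28 * (t26 * s)))) + (t33 * (t30 * (t26 * s)))) + (t33 * (t29 * (t28 * s)))) + ((t36 + (t26 * s)) * (t28 * s))) + ((t35 + (t25 * s)) * (t29 * s))) + (t33 * (t32 * s))) ((((t45 + (t27 ^ 2 * (t26 * (t25 * s ^ 2)))) + (t31 * (t25 * s ^ 2))) + (t30 * (t26 * s ^ 2))) + (t32 * s ^ 2)) ((((t46 + (t30 * (t26 * (t25 * s ^ 2)))) + (t32 * (t25 * s ^ 2))) + (t31 * (t25 * s) ^ 2)) + (t28 ^ 2 * (t26 * s ^ 2))) ((((t47 + (t31 * (t26 * (t25 * s ^ 2)))) + (t29 ^ 2 * (t25 * s ^ 2))) + (t32 * (t26 * s ^ 2))) + (t30 * (t26 * s) ^ 2)) := by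
  unfold fw25
  rw [← mul_assoc, fx_comm_of_dbl12 (r := 25) (s := 34) (q := 35) (c := 1) (q' := 41) (c' := 1) (by decide),
    mul_assoc, mul_assoc, mul_assoc, fl41_26, fl35_26, fl34_26]

theorem fl33_25 (s t25 t26 t27 t28 t29 t30 t31 t32 t33 t34 t35 t36 t37 t38 t39 t40 t41 t42 t43 t44 t45 t46 t47 : K) :
    fx K 33 s * fw25 t25 t26 t27 t28 t29 t30 t31 t32 t33 t34 t35 t36 t37 t38 t39 t40 t41 t42 t43 t44 t45 t46 t47 =
      fw25 t25 t26 t27 t28 t29 t30 t31 t32 (t33 + s) (t34 + (t27 * s)) (t35 + (t28 * s)) (t36 + (t29 * s)) ((t37 + (t28 * (t27 * s))) + (t30 * s)) ((t38 + (t29 * (t27 * s))) + (t31 * s)) ((t39 + (t29 * (t28 * s))) + (t32 * s)) ((((t40 + (t29 * (t28 * (t27 * s)))) + (t32 * (t27 * s))) + (t31 * (t28 * s))) + (t30 * (t29 * s))) (t41 + (t30 * s ^ 2)) (t42 + (t31 * s ^ 2)) (t43 + (t32 * s ^ 2)) ((((((((((t44 + (t33 * (t29 * (t28 * (t27 * s))))) + (t36 * (t28 *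 (t27 * s)))) + (t35 * (t29 * (t27 * s)))) + (t33 * (t32 * (t27 * s)))) + ((t34 + (t27 * s)) * (t29 * (t28 * s)))) + (t33 * (t31 * (t28 * s)))) + (t33 * (t30 * (t29 * s)))) + ((t36 + (t29 * s)) * (t30 * s))) + ((t35 + (t28 * s)) * (t31 * s))) + ((t34 + (t27 * s)) * (t32 * s))) ((t45 + (t32 * (t27 * s) ^ 2)) + (t31 * (t30 * s ^ 2))) ((t46 + (t31 * (t28 * s) ^ 2)) + (t32 * (t30 * s ^ 2))) ((t47 + (t30 * (t29 * s) ^ 2)) + (t32 * (t31 * s ^ 2))) := by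
  unfold fw25
  rw [← mul_assoc, fx_comm_of_nil (r := 25) (s := 33) (by decide), mul_assoc, fl33_26]

theorem fl32_25 (s t25 t26 t27 t28 t29 t30 t31 t32 t33 t34 t35 t36 t37 t38 t39 t40 t41 t42 t43 t44 t45 t46 t47 : K) :
    fx K 32 s * fw25 t25 t26 t27 t28 t29 t30 t31 t32 t33 t34 t35 t36 t37 t38 t39 t40 t41 t42 t43 t44 t45 t46 t47 =
      fw25 t25 t26 t27 t28 t29 t30 t31 (t32 + s) t33 t34 t35 t36 t37 t38 t39 t40 t41 t42 t43 t44 t45 t46 t47 := by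
  unfold fw25
  rw [← mul_assoc, fx_comm_of_nil (r := 25) (s := 32) (by decide), mul_assoc, fl32_26]

theorem fl31_25 (s t25 t26 t27 t28 t29 t30 t31 t32 t33 t34 t35 t36 t37 t38 t39 t40 t41 t42 t43 t44 t45 t46 t47 : K) :
    fx K 31 s * fw25 t25 t26 t27 t28 t29 t30 t31 t32 t33 t34 t35 t36 t37 t38 t39 t40 t41 t42 t43 t44 t45 t46 t47 =
      fw25 t25 t26 t27 t28 t29 t30 (t31 + s) (t32 + (t25 * s)) t33 t34 t35 t36 t37 t38 t39 t40 t41 t42 t43 t44 t45 t46 t47 := by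
  unfold fw25
  rw [← mul_assoc, fx_comm_of_sum (r := 25) (s := 31) (q := 32) (c := 1) (by decide), mul_assoc, mul_assoc,
    fl32_26, fl31_26]

theorem fl30_25 (s t25 t26 t27 t28 t29 t30 t31 t32 t33 t34 t35 t36 t37 t38 t39 t40 t41 t42 t43 t44 t45 t46 t47 : K) :
    fx K 30 s * fw25 t25 t26 t27 t28 t29 t30 t31 t32 t33 t34 t35 t36 t37 t38 t39 t40 t41 t42 t43 t44 t45 t46 t47 =
      fw25 t25 t26 t27 t28 t29 (t30 + s) t31 (t32 + (t26 * s)) t33 t34 t35 t36 t37 t38 t39 t40 t41 t42 t43 t44 t45 t46 t47 := by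
  unfold fw25
  rw [← mul_assoc, fx_comm_of_nil (r := 25) (s := 30) (by decide), mul_assoc, fl30_26]

theorem fl29_25 (s t25 t26 t27 t28 t29 t30 t31 t32 t33 t34 t35 t36 t37 t38 t39 t40 t41 t42 t43 t44 t45 t46 t47 : K) :
    fx K 29 s * fw25 t25 t26 t27 t28 t29 t30 t31 t32 t33 t34 t35 t36 t37 t38 t39 t40 t41 t42 t43 t44 t45 t46 t47 =
      fw25 t25 t26 t27 t28 (t29 + s) t30 t31 t32 t33 t34 t35 t36 t37 t38 t39 t40 t41 t42 t43 t44 t45 t46 t47 := by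
  unfold fw25
  rw [← mul_assoc, fx_comm_of_nil (r := 25) (s := 29) (by decide), mul_assoc, fl29_26]

theorem fl28_25 (s t25 t26 t27 t28 t29 t30 t31 t32 t33 t34 t35 t36 t37 t38 t39 t40 t41 t42 t43 t44 t45 t46 t47 : K) :
    fx K 28 s * fw25 t25 t26 t27 t28 t29 t30 t31 t32 t33 t34 t35 t36 t37 t38 t39 t40 t41 t42 t43 t44 t45 t46 t47 =
      fw25 t25 t26 t27 (t28 + s) t29 t30 t31 t32 t33 t34 t35 t36 t37 t38 t39 t40 t41 t42 t43 t44 t45 t46 t47 := by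
  unfold fw25
  rw [← mul_assoc, fx_comm_of_nil (r := 25) (s := 28) (by decide), mul_assoc, fl28_26]

theorem fl27_25 (s t25 t26 t27 t28 t29 t30 t31 t32 t33 t34 t35 t36 t37 t38 t39 t40 t41 t42 t43 t44 t45 t46 t47 : K) :
    fx K 27 s * fw25 t25 t26 t27 t28 t29 t30 t31 t32 t33 t34 t35 t36 t37 t38 t39 t40 t41 t42 t43 t44 t45 t46 t47 =
      fw25 t25 t26 (t27 + s) (t28 + (t25 * s)) (t29 + (t26 * s)) (t30 + (t25 * s ^ 2)) (t31 + (t26 * s ^ 2)) (t32 + (t26 * (t25 * s ^ 2))) t33 t34 t35 t36 t37 t38 t39 t40 t41 t42 t43 t44 t45 t46 t47 := by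
  unfold fw25
  rw [← mul_assoc, fx_comm_of_dbl12 (r := 25) (s := 27) (q := 28) (c := 1) (q' := 30) (c' := -1) (by decide),
    mul_assoc, mul_assoc, mul_assoc, fl30_26, fl28_26, fl27_26]

theorem fl26_25 (s t25 t26 t27 t28 t29 t30 t31 t32 t33 t34 t35 t36 t37 t38 t39 t40 t41 t42 t43 t44 t45 t46 t47 : K) :
    fx K 26 s * fw25 t25 t26 t27 t28 t29 t30 t31 t32 t33 t34 t35 t36 t37 t38 t39 t40 t41 t42 t43 t44 t45 t46 t47 =
      fw25 t25 (t26 + s) t27 t28 t29 t30 t31 t32 t33 t34 t35 t36 t37 t38 t39 t40 t41 t42 t43 t44 t45 t46 t47 := by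
  unfold fw25
  rw [← mul_assoc, fx_comm_of_nil (r := 25) (s := 26) (by decide), mul_assoc, fl26_26]

theorem fl25_25 (s t25 t26 t27 t28 t29 t30 t31 t32 t33 t34 t35 t36 t37 t38 t39 t40 t41 t42 t43 t44 t45 t46 t47 : K) :
    fx K 25 s * fw25 t25 t26 t27 t28 t29 t30 t31 t32 t33 t34 t35 t36 t37 t38 t39 t40 t41 t42 t43 t44 t45 t46 t47 =
      fw25 (t25 + s) t26 t27 t28 t29 t30 t31 t32 t33 t34 t35 t36 t37 t38 t39 t40 t41 t42 t43 t44 t45 t46 t47 := by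
  unfold fw25
  rw [← mul_assoc, fx_add, add_comm]

theorem fl47_24 (s t24 t25 t26 t27 t28 t29 t30 t31 t32 t33 t34 t35 t36 t37 t38 t39 t40 t41 t42 t43 t44 t45 t46 t47 : K) :
    fx K 47 s * fw24 t24 t25 t26 t27 t28 t29 t30 t31 t32 t33 t34 t35 t36 t37 t38 t39 t40 t41 t42 t43 t44 t45 t46 t47 =
      fw24 t24 t25 t26 t27 t28 t29 t30 t31 t32 t33 t34 t35 t36 t37 t38 t39 t40 t41 t42 t43 t44 t45 t46 (t47 + s) := by
  unfold fw24
  rw [← mul_assoc, fx_comm_of_nil (r := 24) (s := 47) (by decide), mul_assoc, fl47_25]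

theorem fl46_24 (s t24 t25 t26 t27 t28 t29 t30 t31 t32 t33 t34 t35 t36 t37 t38 t39 t40 t41 t42 t43 t44 t45 t46 t47 : K) :
    fx K 46 s * fw24 t24 t25 t26 t27 t28 t29 t30 t31 t32 t33 t34 t35 t36 t37 t38 t39 t40 t41 t42 t43 t44 t45 t46 t47 =
      fw24 t24 t25 t26 t27 t28 t29 t30 t31 t32 t33 t34 t35 t36 t37 t38 t39 t40 t41 t42 t43 t44 t45 (t46 + s) (t47 + (t24 * s)) := by
  unfold fw24
  rw [← mul_assoc, fx_comm_of_sum (r := 24) (s := 46) (q := 47) (c := 1) (by decide), mul_assoc, mul_assoc,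
    fl47_25, fl46_25]

theorem fl45_24 (s t24 t25 t26 t27 t28 t29 t30 t31 t32 t33 t34 t35 t36 t37 t38 t39 t40 t41 t42 t43 t44 t45 t46 t47 : K) :
    fx K 45 s * fw24 t24 t25 t26 t27 t28 t29 t30 t31 t32 t33 t34 t35 t36 t37 t38 t39 t40 t41 t42 t43 t44 t45 t46 t47 =
      fw24 t24 t25 t26 t27 t28 t29 t30 t31 t32 t33 t34 t35 t36 t37 t38 t39 t40 t41 t42 t43 t44 (t45 + s) (t46 + (t25 * s)) (t47 + (t26 * s)) := by
  unfold fw24
  rw [← mul_assoc, fx_comm_of_nil (r := 24) (s := 45) (by decide), mul_assoc, fl45_25]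

theorem fl44_24 (s t24 t25 t26 t27 t28 t29 t30 t31 t32 t33 t34 t35 t36 t37 t38 t39 t40 t41 t42 t43 t44 t45 t46 t47 : K) :
    fx K 44 s * fw24 t24 t25 t26 t27 t28 t29 t30 t31 t32 t33 t34 t35 t36 t37 t38 t39 t40 t41 t42 t43 t44 t45 t46 t47 =
      fw24 t24 t25 t26 t27 t28 t29 t30 t31 t32 t33 t34 t35 t36 t37 t38 t39 t40 t41 t42 t43 (t44 + s) t45 t46 t47 := by
  unfold fw24
  rw [← mul_assoc, fx_comm_of_nil (r := 24) (s := 44) (by decide), mul_assoc, fl44_25]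

theorem fl43_24 (s t24 t25 t26 t27 t28 t29 t30 t31 t32 t33 t34 t35 t36 t37 t38 t39 t40 t41 t42 t43 t44 t45 t46 t47 : K) :
    fx K 43 s * fw24 t24 t25 t26 t27 t28 t29 t30 t31 t32 t33 t34 t35 t36 t37 t38 t39 t40 t41 t42 t43 t44 t45 t46 t47 =
      fw24 t24 t25 t26 t27 t28 t29 t30 t31 t32 t33 t34 t35 t36 t37 t38 t39 t40 t41 t42 (t43 + s) (t44 + (t27 * s)) (t45 + (t27 ^ 2 * s)) (t46 + (t30 * s)) (t47 + (t31 * s)) := by
  unfold fw24
  rw [← mul_assoc, fx_comm_of_nil (r := 24) (s := 43) (by decide), mul_assoc, fl43_25]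

theorem fl42_24 (s t24 t25 t26 t27 t28 t29 t30 t31 t32 t33 t34 t35 t36 t37 t38 t39 t40 t41 t42 t43 t44 t45 t46 t47 : K) :
    fx K 42 s * fw24 t24 t25 t26 t27 t28 t29 t30 t31 t32 t33 t34 t35 t36 t37 t38 t39 t40 t41 t42 t43 t44 t45 t46 t47 =
      fw24 t24 t25 t26 t27 t28 t29 t30 t31 t32 t33 t34 t35 t36 t37 t38 t39 t40 t41 (t42 + s) (t43 + (t25 * s)) ((t44 + (t27 * (t25 * s))) + (t28 * s)) ((t45 + (t27 ^ 2 * (t25 * s))) + (t30 * s)) ((t46 + (t30 * (t25 * s))) + (t28 ^ 2 * s)) ((t47 + (t31 * (t25 * s))) + (t32 * s)) := by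
  unfold fw24
  rw [← mul_assoc, fx_comm_of_nil (r := 24) (s := 42) (by decide), mul_assoc, fl42_25]

theorem fl41_24 (s t24 t25 t26 t27 t28 t29 t30 t31 t32 t33 t34 t35 t36 t37 t38 t39 t40 t41 t42 t43 t44 t45 t46 t47 : K) :
    fx K 41 s * fw24 t24 t25 t26 t27 t28 t29 t30 t31 t32 t33 t34 t35 t36 t37 t38 t39 t40 t41 t42 t43 t44 t45 t46 t47 =
      fw24 t24 t25 t26 t27 t28 t29 t30 t31 t32 t33 t34 t35 t36 t37 t38 t39 t40 (t41 + s) (t42 + (t24 * s)) ((t43 + (t25 * (t24 * s))) + (t26 * s)) ((((t44 + (t27 * (t25 * (t24 * s)))) + (t28 * (t24 * s))) + (t27 * (t26 * s))) + (t29 * s)) ((((t45 + (t27 ^ 2 * (t25 * (t24 * s)))) + (t30 * (t24 * s))) + (t27 ^ 2 * (t26 * s))) + (t31 * s)) ((((t46 + (t30 * (t25 * (t24 * s)))) + (t28 ^ 2 * (t24 * s))) + (t30 * (t26 * s))) + (t32 * s)) ((((t47 + (t31 * (t25 * (t24 * s)))) + (t32 * (t24 * s))) + (t31 * (t26 * s))) + (t29 ^ 2 * s)) := by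
  unfold fw24
  rw [← mul_assoc, fx_comm_of_sum (r := 24) (s := 41) (q := 42) (c := 1) (by decide), mul_assoc, mul_assoc,
    fl42_25, fl41_25]

theorem fl40_24 (s t24 t25 t26 t27 t28 t29 t30 t31 t32 t33 t34 t35 t36 t37 t38 t39 t40 t41 t42 t43 t44 t45 t46 t47 : K) :
    fx K 40 s * fw24 t24 t25 t26 t27 t28 t29 t30 t31 t32 t33 t34 t35 t36 t37 t38 t39 t40 t41 t42 t43 t44 t45 t46 t47 =
      fw24 t24 t25 t26 t27 t28 t29 t30 t31 t32 t33 t34 t35 t36 t37 t38 t39 (t40 + s) t41 t42 t43 (t44 + (t33 * s)) t45 t46 t47 := by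
  unfold fw24
  rw [← mul_assoc, fx_comm_of_nil (r := 24) (s := 40) (by decide), mul_assoc, fl40_25]

theorem fl39_24 (s t24 t25 t26 t27 t28 t29 t30 t31 t32 t33 t34 t35 t36 t37 t38 t39 t40 t41 t42 t43 t44 t45 t46 t47 : K) :
    fx K 39 s * fw24 t24 t25 t26 t27 t28 t29 t30 t31 t32 t33 t34 t35 t36 t37 t38 t39 t40 t41 t42 t43 t44 t45 t46 t47 =
      fw24 t24 t25 t26 t27 t28 t29 t30 t31 t32 t33 t34 t35 t36 t37 t38 (t39 + s) (t40 + (t27 * s)) t41 t42 t43 ((t44 + (t33 * (t27 * s))) + (t34 * s)) t45 t46 t47 := by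
  unfold fw24
  rw [← mul_assoc, fx_comm_of_nil (r := 24) (s := 39) (by decide), mul_assoc, fl39_25]

theorem fl38_24 (s t24 t25 t26 t27 t28 t29 t30 t31 t32 t33 t34 t35 t36 t37 t38 t39 t40 t41 t42 t43 t44 t45 t46 t47 : K) :
    fx K 38 s * fw24 t24 t25 t26 t27 t28 t29 t30 t31 t32 t33 t34 t35 t36 t37 t38 t39 t40 t41 t42 t43 t44 t45 t46 t47 =
      fw24 t24 t25 t26 t27 t28 t29 t30 t31 t32 t33 t34 t35 t36 t37 (t38 + s) (t39 + (t25 * s)) ((t40 + (t27 * (t25 * s))) + (t28 * s)) t41 t42 t43 ((((t44 + (t33 * (t27 * (t25 * s)))) + (t34 * (t25 * s))) + (t33 * (t28 * s))) + (t35 * s)) t45 t46 (t47 + (t25 * s ^ 2)) := by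
  unfold fw24
  rw [← mul_assoc, fx_comm_of_nil (r := 24) (s := 38) (by decide), mul_assoc, fl38_25]

theorem fl37_24 (s t24 t25 t26 t27 t28 t29 t30 t31 t32 t33 t34 t35 t36 t37 t38 t39 t40 t41 t42 t43 t44 t45 t46 t47 : K) :
    fx K 37 s * fw24 t24 t25 t26 t27 t28 t29 t30 t31 t32 t33 t34 t35 t36 t37 t38 t39 t40 t41 t42 t43 t44 t45 t46 t47 =
      fw24 t24 t25 t26 t27 t28 t29 t30 t31 t32 t33 t34 t35 t36 (t37 + s) (t38 + (t24 * s)) ((t39 + (t25 * (t24 * s))) + (t26 * s)) ((((t40 + (t27 * (t25 * (t24 * s)))) + (t28 * (t24 * s))) + (t27 * (t26 * s))) + (t29 * s)) t41 t42 t43 ((((((((t44 + (t33 * (t27 * (t25 * (t24 * s))))) + (t34 * (t25 * (t24 * s)))) + (t33 * (t28 * (t24 * s)))) + (t35 * (t24 * s))) + (t33 * (t27 * (t26 * s)))) + (t34 * (t26 * s))) + (t33 * (t29 * s))) + (t36 * s)) (t45 + (t24 * s ^ 2)) ((t46 + (t25 * (t24 * s ^ 2))) + (t26 * s ^ 2)) ((t47 + (t26 * (t24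 * s ^ 2))) + (t25 * (t24 * s) ^ 2)) := by
  unfold fw24
  rw [← mul_assoc, fx_comm_of_dbl12 (r := 24) (s := 37) (q := 38) (c := 1) (q' := 45) (c' := 1) (by decide),
    mul_assoc, mul_assoc, mul_assoc, fl45_25, fl38_25, fl37_25]

theorem fl36_24 (s t24 t25 t26 t27 t28 t29 t30 t31 t32 t33 t34 t35 t36 t37 t38 t39 t40 t41 t42 t43 t44 t45 t46 t47 : K) :
    fx K 36 s * fw24 t24 t25 t26 t27 t28 t29 t30 t31 t32 t33 t34 t35 t36 t37 t38 t39 t40 t41 t42 t43 t44 t45 t46 t47 =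
      fw24 t24 t25 t26 t27 t28 t29 t30 t31 t32 t33 t34 t35 (t36 + s) t37 (t38 + (t27 * s)) (t39 + (t28 * s)) ((t40 + (t28 * (t27 * s))) + (t30 * s)) t41 t42 t43 ((((t44 + (t33 * (t28 * (t27 * s)))) + (t35 * (t27 * s))) + (t34 * (t28 * s))) + (t33 * (t30 * s))) t45 t46 (t47 + (t30 * s ^ 2)) := by
  unfold fw24
  rw [← mul_assoc, fx_comm_of_nil (r := 24) (s := 36) (by decide), mul_assoc, fl36_25]

theorem fl35_24 (s t24 t25 t26 t27 t28 t29 t30 t31 t32 t33 t34 t35 t36 t37 t38 t39 t40 t41 t42 t43 t44 t45 t46 t47 : K) :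
    fx K 35 s * fw24 t24 t25 t26 t27 t28 t29 t30 t31 t32 t33 t34 t35 t36 t37 t38 t39 t40 t41 t42 t43 t44 t45 t46 t47 =
      fw24 t24 t25 t26 t27 t28 t29 t30 t31 t32 t33 t34 (t35 + s) (t36 + (t24 * s)) (t37 + (t27 * s)) (t38 + (t27 * (t24 * s))) ((t39 + (t28 * (t24 * s))) + (t29 * s)) ((((t40 + (t28 * (t27 * (t24 * s)))) + (t30 * (t24 * s))) + (t29 * (t27 * s))) + (t31 * s)) t41 t42 (t43 + (t24 * s ^ 2)) (((((((((t44 + (t27 * (t24 * s ^ 2))) + (t33 * (t28 * (t27 * (t24 * s))))) + (t35 * (t27 * (t24 * s)))) + (t34 * (t28 * (t24 * s)))) + (t33 * (t30 * (t24 * s)))) + (t33 * (t29 * (t27 * s)))) + ((t36 + (t24 * s)) * (t27 * s))) + (t34 * (t29 * s))) + (t33 * (t31 * s))) (t45 + (t27 ^ 2 * (t24 * s ^ 2))) ((t46 + (t30 * (t24 * s ^ 2))) + (t31 * s ^ 2)) ((t47 + (t31 * (t24 * s ^ 2))) + (t30 * (t24 * s) ^ 2)) := by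
  unfold fw24
  rw [← mul_assoc, fx_comm_of_dbl12 (r := 24) (s := 35) (q := 36) (c := 1) (q' := 43) (c' := 1) (by decide),
    mul_assoc, mul_assoc, mul_assoc, fl43_25, fl36_25, fl35_25]

theorem fl34_24 (s t24 t25 t26 t27 t28 t29 t30 t31 t32 t33 t34 t35 t36 t37 t38 t39 t40 t41 t42 t43 t44 t45 t46 t47 : K) :
    fx K 34 s * fw24 t24 t25 t26 t27 t28 t29 t30 t31 t32 t33 t34 t35 t36 t37 t38 t39 t40 t41 t42 t43 t44 t45 t46 t47 =
      fw24 t24 t25 t26 t27 t28 t29 t30 t31 t32 t33 (t34 + s) (t35 + (t25 * s)) (t36 + (t26 * s)) ((t37 + (t27 * (t25 * s))) + (t28 * s)) ((t38 + (t27 * (t26 * s))) + (t29 * s)) ((t39 + (t29 * (t25 * s))) + (t28 * (t26 * s))) ((((((t40 + (t29 * (t27 * (t25 * s)))) + (t31 * (t25 * s))) + (t28 * (t27 * (t26 * s)))) + (t30 * (t26 * s))) + (t29 * (t28 * s))) + (t32 * s)) (t41 + (t25 * s ^ 2)) (t42 + (t26 * s ^ 2)) (t43 + (t26 * (t25 * s ^ 2))) (((((((((((((((t44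 + (t27 * (t26 * (t25 * s ^ 2)))) + (t29 * (t25 * s ^ 2))) + (t33 * (t29 * (t27 * (t25 * s))))) + (t36 * (t27 * (t25 * s)))) + (t34 * (t29 * (t25 * s)))) + (t33 * (t31 * (t25 * s)))) + (t28 * (t26 * s ^ 2))) + (t33 * (t28 * (t27 * (t26 * s))))) + ((t35 + (t25 * s)) * (t27 * (t26 * s)))) + (t34 * (t28 * (t26 * s)))) + (t33 * (t30 * (t26 * s)))) + (t33 * (t29 * (t28 * s)))) + ((t36 + (t26 * s)) * (t28 * s))) + ((t35 + (t25 * s)) * (t29 * s))) + (t33 * (t32 * s))) ((((t45 + (t27 ^ 2 * (t26 * (t25 * s ^ 2)))) + (t31 * (t25 * s ^ 2))) + (t30 * (t26 * s ^ 2))) + (t32 * s ^ 2)) ((((t46 + (t30 * (t26 * (t25 * s ^ 2)))) + (t32 * (t25 * s ^ 2))) + (t31 * (t25 * s) ^ 2)) + (t28 ^ 2 * (t26 * s ^ 2))) ((((t47 + (t31 * (t26 * (t25 * s ^ 2)))) + (t29 ^ 2 * (t25 * s ^ 2))) + (t32 * (t26 * s ^ 2))) + (t30 * (t26 * s) ^ 2)) := by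
  unfold fw24
  rw [← mul_assoc, fx_comm_of_nil (r := 24) (s := 34) (by decide), mul_assoc, fl34_25]

theorem fl33_24 (s t24 t25 t26 t27 t28 t29 t30 t31 t32 t33 t34 t35 t36 t37 t38 t39 t40 t41 t42 t43 t44 t45 t46 t47 : K) :
    fx K 33 s * fw24 t24 t25 t26 t27 t28 t29 t30 t31 t32 t33 t34 t35 t36 t37 t38 t39 t40 t41 t42 t43 t44 t45 t46 t47 =
      fw24 t24 t25 t26 t27 t28 t29 t30 t31 t32 (t33 + s) (t34 + (t27 * s)) (t35 + (t28 * s)) (t36 + (t29 * s)) ((t37 + (t28 * (t27 * s))) + (t30 * s)) ((t38 + (t29 * (t27 * s))) + (t31 * s)) ((t39 + (t29 * (t28 * s))) + (t32 * s)) ((((t40 + (t29 * (t28 * (t27 * s)))) + (t32 * (t27 * s))) + (t31 * (t28 * s))) + (t30 * (t29 * s))) (t41 + (t30 * s ^ 2)) (t42 + (t31 * s ^ 2)) (t43 + (t32 * s ^ 2)) ((((((((((t44 + (t33 * (t29 * (t28 * (t27 * s))))) + (t36 * (t28 * (t27 * s)))) + (t35 * (t29 * (t27 * s)))) + (t33 * (t32 * (t27 * s)))) +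 ((t34 + (t27 * s)) * (t29 * (t28 * s)))) + (t33 * (t31 * (t28 * s)))) + (t33 * (t30 * (t29 * s)))) + ((t36 + (t29 * s)) * (t30 * s))) + ((t35 + (t28 * s)) * (t31 * s))) + ((t34 + (t27 * s)) * (t32 * s))) ((t45 + (t32 * (t27 * s) ^ 2)) + (t31 * (t30 * s ^ 2))) ((t46 + (t31 * (t28 * s) ^ 2)) + (t32 * (t30 * s ^ 2))) ((t47 + (t30 * (t29 * s) ^ 2)) + (t32 * (t31 * s ^ 2))) := by
  unfold fw24
  rw [← mul_assoc, fx_comm_of_nil (r := 24) (s := 33) (by decide), mul_assoc, fl33_25]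

theorem fl32_24 (s t24 t25 t26 t27 t28 t29 t30 t31 t32 t33 t34 t35 t36 t37 t38 t39 t40 t41 t42 t43 t44 t45 t46 t47 : K) :
    fx K 32 s * fw24 t24 t25 t26 t27 t28 t29 t30 t31 t32 t33 t34 t35 t36 t37 t38 t39 t40 t41 t42 t43 t44 t45 t46 t47 =
      fw24 t24 t25 t26 t27 t28 t29 t30 t31 (t32 + s) t33 t34 t35 t36 t37 t38 t39 t40 t41 t42 t43 t44 t45 t46 t47 := by
  unfold fw24
  rw [← mul_assoc, fx_comm_of_nil (r := 24) (s := 32) (by decide), mul_assoc, fl32_25]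

theorem fl31_24 (s t24 t25 t26 t27 t28 t29 t30 t31 t32 t33 t34 t35 t36 t37 t38 t39 t40 t41 t42 t43 t44 t45 t46 t47 : K) :
    fx K 31 s * fw24 t24 t25 t26 t27 t28 t29 t30 t31 t32 t33 t34 t35 t36 t37 t38 t39 t40 t41 t42 t43 t44 t45 t46 t47 =
      fw24 t24 t25 t26 t27 t28 t29 t30 (t31 + s) (t32 + (t25 * s)) t33 t34 t35 t36 t37 t38 t39 t40 t41 t42 t43 t44 t45 t46 t47 := by
  unfold fw24
  rw [← mul_assoc, fx_comm_of_nil (r := 24) (s := 31) (by decide), mul_assoc, fl31_25]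

theorem fl30_24 (s t24 t25 t26 t27 t28 t29 t30 t31 t32 t33 t34 t35 t36 t37 t38 t39 t40 t41 t42 t43 t44 t45 t46 t47 : K) :
    fx K 30 s * fw24 t24 t25 t26 t27 t28 t29 t30 t31 t32 t33 t34 t35 t36 t37 t38 t39 t40 t41 t42 t43 t44 t45 t46 t47 =
      fw24 t24 t25 t26 t27 t28 t29 (t30 + s) (t31 + (t24 * s)) ((t32 + (t25 * (t24 * s))) + (t26 * s)) t33 t34 t35 t36 t37 t38 t39 t40 t41 t42 t43 t44 t45 t46 t47 := by
  unfold fw24
  rw [← mul_assoc, fx_comm_of_sum (r := 24) (s := 30) (q := 31) (c := 1) (by decide), mul_assoc, mul_assoc,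
    fl31_25, fl30_25]

theorem fl29_24 (s t24 t25 t26 t27 t28 t29 t30 t31 t32 t33 t34 t35 t36 t37 t38 t39 t40 t41 t42 t43 t44 t45 t46 t47 : K) :
    fx K 29 s * fw24 t24 t25 t26 t27 t28 t29 t30 t31 t32 t33 t34 t35 t36 t37 t38 t39 t40 t41 t42 t43 t44 t45 t46 t47 =
      fw24 t24 t25 t26 t27 t28 (t29 + s) t30 t31 t32 t33 t34 t35 t36 t37 t38 t39 t40 t41 t42 t43 t44 t45 t46 t47 := by
  unfold fw24
  rw [← mul_assoc, fx_comm_of_nil (r := 24) (s := 29) (by decide), mul_assoc, fl29_25]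

theorem fl28_24 (s t24 t25 t26 t27 t28 t29 t30 t31 t32 t33 t34 t35 t36 t37 t38 t39 t40 t41 t42 t43 t44 t45 t46 t47 : K) :
    fx K 28 s * fw24 t24 t25 t26 t27 t28 t29 t30 t31 t32 t33 t34 t35 t36 t37 t38 t39 t40 t41 t42 t43 t44 t45 t46 t47 =
      fw24 t24 t25 t26 t27 (t28 + s) (t29 + (t24 * s)) t30 t31 (t32 + (t24 * s ^ 2)) t33 t34 t35 t36 t37 t38 t39 t40 t41 t42 t43 t44 t45 t46 t47 := by
  unfold fw24
  rw [← mul_assoc, fx_comm_of_dbl12 (r := 24) (s := 28) (q := 29) (c := 1) (q' := 32) (c' := -1) (by decide),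
    mul_assoc, mul_assoc, mul_assoc, fl32_25, fl29_25, fl28_25]

theorem fl27_24 (s t24 t25 t26 t27 t28 t29 t30 t31 t32 t33 t34 t35 t36 t37 t38 t39 t40 t41 t42 t43 t44 t45 t46 t47 : K) :
    fx K 27 s * fw24 t24 t25 t26 t27 t28 t29 t30 t31 t32 t33 t34 t35 t36 t37 t38 t39 t40 t41 t42 t43 t44 t45 t46 t47 =
      fw24 t24 t25 t26 (t27 + s) (t28 + (t25 * s)) (t29 + (t26 * s)) (t30 + (t25 * s ^ 2)) (t31 + (t26 * s ^ 2)) (t32 + (t26 * (t25 * s ^ 2))) t33 t34 t35 t36 t37 t38 t39 t40 t41 t42 t43 t44 t45 t46 t47 := by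
  unfold fw24
  rw [← mul_assoc, fx_comm_of_nil (r := 24) (s := 27) (by decide), mul_assoc, fl27_25]

theorem fl26_24 (s t24 t25 t26 t27 t28 t29 t30 t31 t32 t33 t34 t35 t36 t37 t38 t39 t40 t41 t42 t43 t44 t45 t46 t47 : K) :
    fx K 26 s * fw24 t24 t25 t26 t27 t28 t29 t30 t31 t32 t33 t34 t35 t36 t37 t38 t39 t40 t41 t42 t43 t44 t45 t46 t47 =
      fw24 t24 t25 (t26 + s) t27 t28 t29 t30 t31 t32 t33 t34 t35 t36 t37 t38 t39 t40 t41 t42 t43 t44 t45 t46 t47 := by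
  unfold fw24
  rw [← mul_assoc, fx_comm_of_nil (r := 24) (s := 26) (by decide), mul_assoc, fl26_25]

theorem fl25_24 (s t24 t25 t26 t27 t28 t29 t30 t31 t32 t33 t34 t35 t36 t37 t38 t39 t40 t41 t42 t43 t44 t45 t46 t47 : K) :
    fx K 25 s * fw24 t24 t25 t26 t27 t28 t29 t30 t31 t32 t33 t34 t35 t36 t37 t38 t39 t40 t41 t42 t43 t44 t45 t46 t47 =
      fw24 t24 (t25 + s) (t26 + (t24 * s)) t27 t28 t29 t30 t31 t32 t33 t34 t35 t36 t37 t38 t39 t40 t41 t42 t43 t44 t45 t46 t47 := by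
  unfold fw24
  rw [← mul_assoc, fx_comm_of_sum (r := 24) (s := 25) (q := 26) (c := 1) (by decide), mul_assoc, mul_assoc,
    fl26_25, fl25_25]

theorem fl24_24 (s t24 t25 t26 t27 t28 t29 t30 t31 t32 t33 t34 t35 t36 t37 t38 t39 t40 t41 t42 t43 t44 t45 t46 t47 : K) :
    fx K 24 s * fw24 t24 t25 t26 t27 t28 t29 t30 t31 t32 t33 t34 t35 t36 t37 t38 t39 t40 t41 t42 t43 t44 t45 t46 t47 =
      fw24 (t24 + s) t25 t26 t27 t28 t29 t30 t31 t32 t33 t34 t35 t36 t37 t38 t39 t40 t41 t42 t43 t44 t45 t46 t47 := by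
  unfold fw24
  rw [← mul_assoc, fx_add, add_comm]

end char2

theorem fw24_zero : fw24 (0 : K) 0 0 0 0 0 0 0 0 0 0 0 0 0 0 0 0 0 0 0 0 0 0 0 = 1 := by
  unfold fw24 fw25 fw26 fw27 fw28 fw29 fw30 fw31 fw32 fw33 fw34 fw35 fw36 fw37 fw38 fw39 fw40 fw41 fw42 fw43 fw44 fw45 fw46 fw47
  simp only [fx_zero, mul_one]

theorem fw24_congr {t24 t24' t25 t25' t26 t26' t27 t27' t28 t28' t29 t29' t30 t30' t31 t31' t32 t32' t33 t33' t34 t34' t35 t35' t36 t36' t37 t37' t38 t38' t39 t39' t40 t40' t41 t41' t42 t42' t43 t43' t44 t44' t45 t45' t46 t46' t47 t47' : K}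
    (h24 : t24 = t24') (h25 : t25 = t25') (h26 : t26 = t26') (h27 : t27 = t27') (h28 : t28 = t28') (h29 : t29 = t29') (h30 : t30 = t30') (h31 : t31 = t31') (h32 : t32 = t32') (h33 : t33 = t33') (h34 : t34 = t34') (h35 : t35 = t35') (h36 : t36 = t36') (h37 : t37 = t37') (h38 : t38 = t38') (h39 : t39 = t39') (h40 : t40 = t40') (h41 : t41 = t41') (h42 : t42 = t42') (h43 : t43 = t43') (h44 : t44 = t44') (h45 : t45 = t45') (h46 : t46 = t46') (h47 : t47 = t47') :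
    fw24 t24 t25 t26 t27 t28 t29 t30 t31 t32 t33 t34 t35 t36 t37 t38 t39 t40 t41 t42 t43 t44 t45 t46 t47 = fw24 t24' t25' t26' t27' t28' t29' t30' t31' t32' t33' t34' t35' t36' t37' t38' t39' t40' t41' t42' t43' t44' t45' t46' t47' := by
  subst h24 h25 h26 h27 h28 h29 h30 h31 h32 h33 h34 h35 h36 h37 h38 h39 h40 h41 h42 h43 h44 h45 h46 h47
  rfl

theorem eq_of_mul_fw24 {X Y : GL chevF4.Idx K}
    (h : X * fw24 (0 : K) 0 0 0 0 0 0 0 0 0 0 0 0 0 0 0 0 0 0 0 0 0 0 0 = Y * fw24 (0 : K) 0 0 0 0 0 0 0 0 0 0 0 0 0 0 0 0 0 0 0 0 0 0 0) : X = Y :=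
  mul_right_cancel h

end Cfsg.Agent.Helper7.Chev
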