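import Mathlib
import Cfsg.Agent.Helper7.F4InvB

set_option autoImplicit false
set_option linter.unusedSectionVars false
set_option linter.unusedVariables false
set_option maxHeartbeats 4000000
set_option linter.unusedSimpArgs false

/-!
The twisted root elements of `²F₄` in characteristic two: normal form, conjugation and squares (generated text).
-/

namespace Cfsg.Agent.Helper7.Chev

open Cfsg Cfsg.Lie Matrix
open scoped Pointwise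

variable {K : Type*} [Field K]

/-- The twisted root elements of `²F₄`, in the order of the octagon. -/
noncomputable def tY1 (f : K →+* K) (p : K) : GL chevF4.Idx K := fx K 33 p * fx K 24 (f p)
noncomputable def tY2 (f : K →+* K) (v w : K) : GL chevF4.Idx K :=
  fx K 34 v * (fx K 26 (f v) * (fx K 36 (v * f v + w) * fx K 42 (f w)))
noncomputable def tY3 (f : K →+* K) (p : K) : GL chevF4.Idx K := fx K 38 p * fx K 43 (f p)
noncomputable def tY4 (f : K →+* K) (v w : K) : GL chevF4.Idx K :=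
  fx K 29 v * (fx K 41 (f v) * (fx K 44 (v * f v + w) * fx K 47 (f w)))
noncomputable def tY5 (f : K →+* K) (p : K) : GL chevF4.Idx K := fx K 39 p * fx K 45 (f p)
noncomputable def tY6 (f : K →+* K) (v w : K) : GL chevF4.Idx K :=
  fx K 35 v * (fx K 31 (f v) * (fx K 40 (v * f v + w) * fx K 46 (f w)))
noncomputable def tY7 (f : K →+* K) (p : K) : GL chevF4.Idx K := fx K 37 p * fx K 32 (f p)
noncomputable def tY8 (f : K →+* K) (v w : K) : GL chevF4.Idx K :=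
  fx K 27 v * (fx K 25 (f v) * (fx K 28 (v * f v + w) * fx K 30 (f w)))
/-- The normal form in `U¹`. -/
noncomputable def tw8 (f : K →+* K) (p1 v2 w2 p3 v4 w4 p5 v6 w6 p7 v8 w8 : K) : GL chevF4.Idx K :=
  tY1 f p1 * (tY2 f v2 w2 * (tY3 f p3 * (tY4 f v4 w4 * (tY5 f p5 * (tY6 f v6 w6 * (tY7 f p7 * tY8 f v8 w8))))))

section char2

variable [CharP K 2] (f : K →+* K) (hf2 : ∀ t, f (f t) = t ^ 2)

include hf2 in
theorem tw8_eq_fw24 (p1 v2 w2 p3 v4 w4 p5 v6 w6 p7 v8 w8 : K) :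
    tw8 f p1 v2 w2 p3 v4 w4 p5 v6 w6 p7 v8 w8 =
      fw24 (f p1) (f v8) (f v2) (v8) (w8) (v4) (v8 ^ 2 * f v8 + f w8) (f v6) (f p7 + f v6 * f v8) (p1) (p1 * v8 + v2) (p1 * w8 + v2 * f v8 + v6) (p1 * v4 + w2) (p1 * v8 * w8 + p1 * v8 ^ 2 * f v8 + p1 * f w8 + p7 + v2 * v8 * f v8 + v2 * w8 + v6 * v8) (p1 * v4 * v8 + p1 * f v6 + p3 + v2 * v4 + v8 * w2) (p1 * f p7 + p1 * v4 * w8 + p1 * f v6 * f v8 + p3 * f v8 + p5 + v2 * v4 * f v8 + w2 * w8) (p1 * f p7 * v8 + p1 * v4 * v8 * w8 + p1 * v4 * v8 ^ 2 * f v8 + p1 * v4 * f w8 + p1 * f v6 * v8 * f v8 + p1 * f v6 * w8 + p3 * v8 * f v8 + p3 * w8 + p5 * v8 + f p7 * v2 + v2 * v4 * v8 * f v8 + v2 * v4 * w8 + v8 * w2 * w8 + v8 ^ 2 * f v8 * w2 + w2 * f w8 + w6) (p1 ^ 2 * v8 ^ 2 * f v8 + p1 ^ 2 * f w8 + v2 ^ 2 * f v8 + f v4) (p1 ^ 2 * f v6 + v2 ^ 2 * f v2 + f w2) (p1 ^ 2 * f p7 + p1 ^ 2 * f v6 * f v8 + f p3 + v2 ^ 2 * f v2 * f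 v8 + f v8 * f w2) (p1 * f p7 * v2 + p1 * v2 * v4 * v8 * f v8 + p1 * v2 * v4 * w8 + p1 * v4 * v6 * v8 + p1 * v6 * f v6 + p1 * v8 * w2 * w8 + p1 * v8 ^ 2 * f v8 * w2 + p1 * w2 * f w8 + p1 ^ 2 * f p7 * v8 + p1 ^ 2 * v4 * v8 * w8 + p1 ^ 2 * v4 * v8 ^ 2 * f v8 + p1 ^ 2 * v4 * f w8 + p1 ^ 2 * f v6 * v8 * f v8 + p1 ^ 2 * f v6 * w8 + p3 * v6 + f p3 * v8 + v2 * v4 * v6 + v2 * v8 * f v8 * w2 + v2 * w2 * w8 + v2 ^ 2 * f v2 * v8 * f v8 + v2 ^ 2 * f v2 * w8 + v4 * f v4 + v6 * v8 * w2 + v8 * f v8 * f w2 + f w2 * w8 + w4) (p1 ^ 2 * f p7 * v8 ^ 2 + p1 ^ 2 * f v6 * f w8 + f p3 * v8 ^ 2 + f p5 + f p7 * v2 ^ 2 + v2 ^ 2 * f v2 * f w8 + f v4 * f v6 + f w2 * f w8) (p1 ^ 2 * f p7 * v8 ^ 2 * f v8 + p1 ^ 2 * f p7 * f w8 + p1 ^ 2 * f v6 * v8 ^ 2 * (f v8) ^ 2 + p1 ^ 2 * f v6 * f v8 * f w8 + p1 ^ 2 * f v6 * w8 ^ 2 + f p3 * v8 ^ 2 * f v8 + f p3 * f w8 + f p5 * f v8 + f p7 * v2 ^ 2 * f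 v8 + f p7 * f v4 + v2 ^ 2 * f v2 * v8 ^ 2 * (f v8) ^ 2 + v2 ^ 2 * f v2 * f v8 * f w8 + v2 ^ 2 * f v2 * w8 ^ 2 + f v4 * f v6 * f v8 + v6 ^ 2 * f v6 + v8 ^ 2 * (f v8) ^ 2 * f w2 + f v8 * f w2 * f w8 + f w2 * w8 ^ 2 + f w6) (p1 ^ 2 * f p7 * f v6 + p1 ^ 2 * v4 ^ 2 * v8 ^ 2 * f v8 + p1 ^ 2 * v4 ^ 2 * f w8 + p1 ^ 2 * (f v6) ^ 2 * f v8 + p3 ^ 2 * f v8 + f p3 * f v6 + f p7 * v2 ^ 2 * f v2 + f p7 * f w2 + v2 ^ 2 * v4 ^ 2 * f v8 + v8 ^ 2 * f v8 * w2 ^ 2 + w2 ^ 2 * f w8 + f w4) := by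
  have h2 := two_eq_zero' (K := K)
  rw [← mul_one (tw8 f p1 v2 w2 p3 v4 w4 p5 v6 w6 p7 v8 w8), ← fw24_zero]
  simp only [tw8, tY1, tY2, tY3, tY4, tY5, tY6, tY7, tY8, mul_assoc]
  rw [fl30_24, fl28_24, fl25_24, fl27_24, fl32_24, fl37_24, fl46_24, fl40_24, fl31_24, fl35_24, fl45_24, fl39_24, fl47_24, fl44_24, fl41_24, fl29_24, fl43_24, fl38_24, fl42_24, fl36_24, fl26_24, fl34_24, fl24_24, fl33_24]
  apply fw24_congr
  · (try simp only [map_add, map_mul, map_zero, map_pow, hf2]) <;>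
      linear_combination (0) * h2
  · (try simp only [map_add, map_mul, map_zero, map_pow, hf2]) <;>
      linear_combination (0) * h2
  · (try simp only [map_add, map_mul, map_zero, map_pow, hf2]) <;>
      linear_combination (0) * h2
  · (try simp only [map_add, map_mul, map_zero, map_pow, hf2]) <;>
      linear_combination (0) * h2
  · (try simp only [map_add, map_mul, map_zero, map_pow, hf2]) <;>
      linear_combination (v8 * f v8) * h2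
  · (try simp only [map_add, map_mul, map_zero, map_pow, hf2]) <;>
      linear_combination (0) * h2
  · (try simp only [map_add, map_mul, map_zero, map_pow, hf2]) <;>
      linear_combination (0) * h2
  · (try simp only [map_add, map_mul, map_zero, map_pow, hf2]) <;>
      linear_combination (0) * h2
  · (try simp only [map_add, map_mul, map_zero, map_pow, hf2]) <;>
      linear_combination (0) * h2
  · (try simp only [map_add, map_mul, map_zero, map_pow, hf2]) <;>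
      linear_combination (0) * h2
  · (try simp only [map_add, map_mul, map_zero, map_pow, hf2]) <;>
      linear_combination (0) * h2
  · (try simp only [map_add, map_mul, map_zero, map_pow, hf2]) <;>
      linear_combination (p1 * v8 * f v8) * h2
  · (try simp only [map_add, map_mul, map_zero, map_pow, hf2]) <;>
      linear_combination (v2 * f v2) * h2
  · (try simp only [map_add, map_mul, map_zero, map_pow, hf2]) <;>
      linear_combination (p1 * v8 ^ 2 * f v8 + v2 * v8 * f v8) * h2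
  · (try simp only [map_add, map_mul, map_zero, map_pow, hf2]) <;>
      linear_combination (v2 * f v2 * v8) * h2
  · (try simp only [map_add, map_mul, map_zero, map_pow, hf2]) <;>
      linear_combination (p1 * v4 * v8 * f v8 + 2 * v2 * f v2 * v8 * f v8 + v2 * f v2 * w8 + v8 * f v8 * w2) * h2
  · (try simp only [map_add, map_mul, map_zero, map_pow, hf2]) <;>
      linear_combination (p1 * v4 * v8 ^ 2 * f v8 + p1 * f v6 * v8 * f v8 + p3 * v8 * f v8 + v2 * f v2 * v8 * w8 + 3 * v2 * f v2 * v8 ^ 2 * f v8 + v2 * f v2 * f w8 + v2 * v4 * v8 * f v8 + v2 * f v6 * f v8 + v6 * f v6 + v8 ^ 2 * f v8 * w2) * h2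
  · (try simp only [map_add, map_mul, map_zero, map_pow, hf2]) <;>
      linear_combination (0) * h2
  · (try simp only [map_add, map_mul, map_zero, map_pow, hf2]) <;>
      linear_combination (0) * h2
  · (try simp only [map_add, map_mul, map_zero, map_pow, hf2]) <;>
      linear_combination (0) * h2
  · (try simp only [map_add, map_mul, map_zero, map_pow, hf2]) <;>
      linear_combination (p1 * v2 * f v2 * v8 * w8 + 3 * p1 * v2 * f v2 * v8 ^ 2 * f v8 + p1 * v2 * f v2 * f w8 + p1 * v2 * v4 * v8 * f v8 + p1 * v2 * f v6 * f v8 + p1 * v8 ^ 2 * f v8 * w2 + p1 ^ 2 * v4 * v8 ^ 2 * f v8 + p1 ^ 2 * f v6 * v8 * f v8 + v2 * f v2 * v6 * v8 + v2 * v8 * f v8 * w2 + 4 * v2 ^ 2 * f v2 * v8 * f v8 + v2 ^ 2 * f v2 * w8 + v2 ^ 2 * v4 * f v8 + v8 * f v8 * f w2) * h2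
  · (try simp only [map_add, map_mul, map_zero, map_pow, hf2]) <;>
      linear_combination (p1 ^ 2 * f v6 * v8 ^ 2 * f v8 + v2 ^ 2 * f v2 * v8 ^ 2 * f v8 + v2 ^ 2 * f v6 * f v8 + v8 ^ 2 * f v8 * f w2) * h2
  · (try simp only [map_add, map_mul, map_zero, map_pow, hf2]) <;>
      linear_combination (2 * p1 ^ 2 * f v6 * v8 * f v8 * w8 + 2 * p1 ^ 2 * f v6 * v8 ^ 2 * (f v8) ^ 2 + 2 * v2 ^ 2 * f v2 * v8 * f v8 * w8 + 2 * v2 ^ 2 * f v2 * v8 ^ 2 * (f v8) ^ 2 + v2 ^ 2 * f v6 * (f v8) ^ 2 + 2 * v8 * f v8 * f w2 * w8 + 2 * v8 ^ 2 * (f v8) ^ 2 * f w2) * h2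
  · (try simp only [map_add, map_mul, map_zero, map_pow, hf2]) <;>
      linear_combination (v2 * f v2 * v8 ^ 2 * f v8 * w2 + v2 * f v2 * w2 * f w8 + v2 ^ 2 * f v2 * f v6 * f v8 + v2 ^ 2 * (f v2) ^ 2 * v8 ^ 2 * f v8 + v2 ^ 2 * (f v2) ^ 2 * f w8 + f v6 * f v8 * f w2) * h2

include hf2 in
theorem cj1 (s p1 v2 w2 p3 v4 w4 p5 v6 w6 p7 v8 w8 : K) :
    tY1 f s * tw8 f p1 v2 w2 p3 v4 w4 p5 v6 w6 p7 v8 w8 =
      tw8 f (p1) (s * v8 + v2) (s * f s * w8 + s * v4 + f s * v2 * f v8 + f s * v6 + w2) (p3 + p7 * f s + s * f s * v8 * w8 + s * f s * v8 ^ 2 * f v8 + s * f s * f w8 + s * v4 * v8 + s * f v6) (f s * w8 + v4) (p5 * s * v8 + p7 * s * f s * v8 * f v8 + p7 * s * f s * w8 + p7 * f s * v6 + f p7 * s ^ 2 * v8 + s * f s * v6 * v8 * w8 + s * f s * v6 * v8 ^ 2 * f v8 + s * f s * v6 * f w8 + s * w6 + s ^ 2 * f s * v8 * f v8 * f w8 + s ^ 2 * f s * v8 * w8 ^ 2 + s ^ 2 * f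 s * v8 ^ 3 * (f v8) ^ 2 + s ^ 2 * f s * w8 * f w8 + s ^ 2 * v4 * f w8 + w4) (p5 + p7 * f s * f v8 + f p7 * s + s * f s * v8 ^ 2 * (f v8) ^ 2 + s * f s * f v8 * f w8 + s * f s * w8 ^ 2 + f s * v6 * w8) (s * v8 * f v8 + s * w8 + v6) (p7 * f s * w8 + f p7 * s * v8 + s * f s * v8 * f v8 * f w8 + s * f s * v8 * w8 ^ 2 + s * f s * v8 ^ 3 * (f v8) ^ 2 + f s * v6 * v8 ^ 2 * f v8 + f s * v6 * f w8 + w6) (p7 + s * v8 * w8 + s * v8 ^ 2 * f v8 + s * f w8) (v8) (w8) * tY1 f s := by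
  have h2 := two_eq_zero' (K := K)
  apply eq_of_mul_fw24
  simp only [tw8, tY1, tY2, tY3, tY4, tY5, tY6, tY7, tY8, mul_assoc]
  conv_lhs => rw [fl30_24, fl28_24, fl25_24, fl27_24, fl32_24, fl37_24, fl46_24, fl40_24, fl31_24, fl35_24, fl45_24, fl39_24, fl47_24, fl44_24, fl41_24, fl29_24, fl43_24, fl38_24, fl42_24, fl36_24, fl26_24, fl34_24, fl24_24, fl33_24, fl24_24, fl33_24]
  conv_rhs => rw [fl24_24, fl33_24, fl30_24, fl28_24, fl25_24, fl27_24, fl32_24, fl37_24, fl46_24, fl40_24, fl31_24, fl35_24, fl45_24, fl39_24, fl47_24, fl44_24, fl41_24, fl29_24, fl43_24, fl38_24, fl42_24, fl36_24, fl26_24, fl34_24, fl24_24, fl33_24]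
  apply fw24_congr
  · (try simp only [map_add, map_mul, map_zero, map_pow, hf2]) <;>
      linear_combination (0) * h2
  · (try simp only [map_add, map_mul, map_zero, map_pow, hf2]) <;>
      linear_combination (0) * h2
  · (try simp only [map_add, map_mul, map_zero, map_pow, hf2]) <;>
      linear_combination ((-1) * f s * f v8) * h2
  · (try simp only [map_add, map_mul, map_zero, map_pow, hf2]) <;>
      linear_combination (0) * h2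
  · (try simp only [map_add, map_mul, map_zero, map_pow, hf2]) <;>
      linear_combination (0) * h2
  · (try simp only [map_add, map_mul, map_zero, map_pow, hf2]) <;>
      linear_combination ((-1) * f s * v8 * f v8 + (-1) * f s * w8) * h2
  · (try simp only [map_add, map_mul, map_zero, map_pow, hf2]) <;>
      linear_combination (0) * h2
  · (try simp only [map_add, map_mul, map_zero, map_pow, hf2]) <;>
      linear_combination ((-1) * f s * v8 ^ 2 * f v8 + (-1) * f s * f w8) * h2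
  · (try simp only [map_add, map_mul, map_zero, map_pow, hf2]) <;>
      linear_combination ((-1) * f s * v8 * f v8 * w8 + (-2) * f s * v8 ^ 2 * (f v8) ^ 2 + (-1) * f s * f v8 * f w8 + (-1) * f s * w8 ^ 2) * h2
  · (try simp only [map_add, map_mul, map_zero, map_pow, hf2]) <;>
      linear_combination (0) * h2
  · (try simp only [map_add, map_mul, map_zero, map_pow, hf2]) <;>
      linear_combination (0) * h2
  · (try simp only [map_add, map_mul, map_zero, map_pow, hf2]) <;>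
      linear_combination (0) * h2
  · (try simp only [map_add, map_mul, map_zero, map_pow, hf2]) <;>
      linear_combination ((-1) * p1 * f s * v8 * f v8 + (-1) * p1 * f s * w8 + (-2) * s * f s * v8 * f v8 + (-1) * s * f s * w8 + (-1) * s * f v2 * v8 + (-2) * f s * v2 * f v8 + (-1) * f s * v6) * h2
  · (try simp only [map_add, map_mul, map_zero, map_pow, hf2]) <;>
      linear_combination ((-1) * s * v8 * w8 + (-1) * s * v8 ^ 2 * f v8) * h2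
  · (try simp only [map_add, map_mul, map_zero, map_pow, hf2]) <;>
      linear_combination ((-1) * p1 * f s * v8 * w8 + (-2) * p1 * f s * v8 ^ 2 * f v8 + (-1) * p1 * f s * f w8 + (-1) * p7 * f s + (-3) * s * f s * v8 * w8 + (-4) * s * f s * v8 ^ 2 * f v8 + (-1) * s * f s * f w8 + (-1) * s * f v2 * v8 ^ 2 + (-1) * s * v4 * v8 + (-3) * f s * v2 * v8 * f v8 + (-1) * f s * v2 * w8 + (-1) * f s * v6 * v8) * h2
  · (try simp only [map_add, map_mul, map_zero, map_pow, hf2]) <;>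
      linear_combination ((-4) * p1 * f s * v8 * f v8 * w8 + (-4) * p1 * f s * v8 ^ 2 * (f v8) ^ 2 + (-1) * p1 * f s * f v8 * f w8 + (-2) * p1 * f s * w8 ^ 2 + (-2) * p7 * f s * f v8 + (-8) * s * f s * v8 * f v8 * w8 + (-8) * s * f s * v8 ^ 2 * (f v8) ^ 2 + (-2) * s * f s * f v8 * f w8 + (-2) * s * f s * w8 ^ 2 + (-1) * s * f v2 * v8 * w8 + (-2) * s * f v2 * v8 ^ 2 * f v8 + (-1) * s * v4 * v8 * f v8 + (-5) * f s * v2 * v8 * (f v8) ^ 2 + (-3) * f s * v2 * f v8 * w8 + (-3) * f s * v6 * v8 * f v8 + (-2) * f s * v6 * w8) * h2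
  · (try simp only [map_add, map_mul, map_zero, map_pow, hf2]) <;>
      linear_combination ((-4) * p1 * f s * v8 * f v8 * f w8 + (-2) * p1 * f s * v8 * w8 ^ 2 + (-6) * p1 * f s * v8 ^ 2 * f v8 * w8 + (-7) * p1 * f s * v8 ^ 3 * (f v8) ^ 2 + (-2) * p1 * f s * w8 * f w8 + (-5) * p7 * f s * v8 * f v8 + (-2) * p7 * f s * w8 + (-1) * f p7 * s * v8 + (-11) * s * f s * v8 * f v8 * f w8 + (-6) * s * f s * v8 * w8 ^ 2 + (-19) * s * f s * v8 ^ 2 * f v8 * w8 + (-20) * s * f s * v8 ^ 3 * (f v8) ^ 2 + (-4) * s * f s * w8 * f w8 + (-1) * s * f v2 * v8 * f w8 + (-1) * s * f v2 * v8 ^ 2 * w8 + (-3) * s * f v2 * v8 ^ 3 * f v8 + (-1) * s * v4 * v8 * w8 + (-3) * s * v4 * v8 ^ 2 * f v8 + (-2) * s * f v6 * v8 * f v8 + (-1) * s * f v6 * w8 + (-7) * f s * v2 * v8 * f v8 * w8 + (-12) * f s * v2 * v8 ^ 2 * (f v8) ^ 2 + (-4) * f s * v2 * f v8 * f w8 + (-2) * f s * v2 * w8 ^ 2 + (-2)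 * f s * v6 * v8 * w8 + (-6) * f s * v6 * v8 ^ 2 * f v8 + (-3) * f s * v6 * f w8) * h2
  · (try simp only [map_add, map_mul, map_zero, map_pow, hf2]) <;>
      linear_combination ((-1) * s * v2 * v8 * f v8) * h2
  · (try simp only [map_add, map_mul, map_zero, map_pow, hf2]) <;>
      linear_combination ((-1) * p1 ^ 2 * f s * v8 ^ 2 * f v8 + (-1) * p1 ^ 2 * f s * f w8 + (-2) * s * f s * v2 * v8 * f v8 + (-1) * s * v2 * f v2 * v8 + (-1) * s ^ 2 * f s * v8 ^ 2 * f v8 + (-1) * s ^ 2 * f s * f w8 + (-1) * s ^ 2 * f v2 * v8 ^ 2 + (-1) * f s * v2 ^ 2 * f v8 + (-1) * f s * f v4) * h2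
  · (try simp only [map_add, map_mul, map_zero, map_pow, hf2]) <;>
      linear_combination ((-1) * p1 ^ 2 * f s * v8 * f v8 * w8 + (-2) * p1 ^ 2 * f s * v8 ^ 2 * (f v8) ^ 2 + (-1) * p1 ^ 2 * f s * f v8 * f w8 + (-1) * p1 ^ 2 * f s * w8 ^ 2 + (-2) * s * f s * v2 * v8 * (f v8) ^ 2 + (-1) * s * f s * v6 * v8 * f v8 + (-1) * s * f s * v6 * w8 + (-1) * s * v2 * f v2 * v8 * f v8 + (-1) * s ^ 2 * f s * v8 * f v8 * w8 + (-2) * s ^ 2 * f s * v8 ^ 2 * (f v8) ^ 2 + (-2) * s ^ 2 * f s * f v8 * f w8 + (-1) * s ^ 2 * f s * w8 ^ 2 + (-1) * s ^ 2 * f v2 * v8 ^ 2 * f v8 + (-1) * f s * v2 ^ 2 * (f v8) ^ 2 + (-2) * f s * f v4 * f v8 + (-1) * f s * v6 ^ 2) * h2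
  · (try simp only [map_add, map_mul, map_zero, map_pow, hf2]) <;>
      linear_combination ((-9) * p1 * s * f s * v8 * f v8 * f w8 + (-6) * p1 * s * f s * v8 * w8 ^ 2 + (-19) * p1 * s * f s * v8 ^ 2 * f v8 * w8 + (-21) * p1 * s * f s * v8 ^ 3 * (f v8) ^ 2 + (-4) * p1 * s * f s * w8 * f w8 + (-1) * p1 * s * f v2 * v8 * f w8 + (-1) * p1 * s * f v2 * v8 ^ 2 * w8 + (-3) * p1 * s * f v2 * v8 ^ 3 * f v8 + (-7) * p1 * f s * v2 * v8 * f v8 * w8 + (-12) * p1 * f s * v2 * v8 ^ 2 * (f v8) ^ 2 + (-4) * p1 * f s * v2 * f v8 * f w8 + (-2) * p1 * f s * v2 * w8 ^ 2 + (-2) * p1 * f s * v6 * v8 * w8 + (-5) * p1 * f s * v6 * v8 ^ 2 * f v8 + (-2) * p1 * f s * v6 * f w8 + (-4) * p1 ^ 2 * f s * v8 * f v8 * f w8 + (-2) * p1 ^ 2 * f s * v8 * w8 ^ 2 + (-6) * p1 ^ 2 * f s * v8 ^ 2 * f v8 * w8 + (-7) * p1 ^ 2 * f s * v8 ^ 3 * (f v8) ^ 2 + (-2) * p1 ^ 2 * f s * w8 * f w8 + (-2) * p3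 * s * v8 * f v8 + (-1) * p3 * s * w8 + (-1) * p5 * s * v8 + (-6) * p7 * s * f s * v8 * f v8 + (-3) * p7 * s * f s * w8 + (-1) * p7 * f s * v6 + (-2) * f p7 * s ^ 2 * v8 + (-24) * s * f s * v2 * v8 * f v8 * w8 + (-37) * s * f s * v2 * v8 ^ 2 * (f v8) ^ 2 + (-4) * s * f s * v2 * f v8 * f w8 + (-4) * s * f s * v2 * w8 ^ 2 + (-8) * s * f s * v6 * v8 * w8 + (-15) * s * f s * v6 * v8 ^ 2 * f v8 + (-4) * s * f s * v6 * f w8 + (-4) * s * v2 * f v2 * v8 * w8 + (-10) * s * v2 * f v2 * v8 ^ 2 * f v8 + (-4) * s * v2 * v4 * v8 * f v8 + (-1) * s * v2 * v4 * w8 + (-1) * s * f v2 * v6 * v8 ^ 2 + (-1) * s * v4 * v6 * v8 + (-1) * s * v6 * f v6 + (-1) * s * v8 * w2 * w8 + (-2) * s * v8 ^ 2 * f v8 * w2 + (-1) * s * w6 + (-17) * s ^ 2 * f s * v8 * f v8 * f w8 + (-11) * s ^ 2 * f s * v8 * w8 ^ 2 + (-34) * s ^ 2 * f s * v8 ^ 2 * f v8 * w8 + (-36) * s ^ 2 * f s * v8 ^ 3 * (f v8)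 ^ 2 + (-7) * s ^ 2 * f s * w8 * f w8 + (-1) * s ^ 2 * f v2 * v8 * f w8 + (-4) * s ^ 2 * f v2 * v8 ^ 2 * w8 + (-10) * s ^ 2 * f v2 * v8 ^ 3 * f v8 + (-3) * s ^ 2 * v4 * v8 * w8 + (-7) * s ^ 2 * v4 * v8 ^ 2 * f v8 + (-1) * s ^ 2 * v4 * f w8 + (-4) * s ^ 2 * f v6 * v8 * f v8 + (-2) * s ^ 2 * f v6 * w8 + (-6) * f s * v2 * v6 * v8 * f v8 + (-2) * f s * v2 * v6 * w8 + (-11) * f s * v2 ^ 2 * v8 * (f v8) ^ 2 + (-5) * f s * v2 ^ 2 * f v8 * w8 + (-5) * f s * f v4 * v8 * f v8 + (-2) * f s * f v4 * w8 + (-2) * f s * v6 ^ 2 * v8) * h2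
  · (try simp only [map_add, map_mul, map_zero, map_pow, hf2]) <;>
      linear_combination ((-3) * p1 ^ 2 * f s * v8 ^ 2 * f v8 * f w8 + (-1) * p1 ^ 2 * f s * v8 ^ 2 * w8 ^ 2 + (-1) * p1 ^ 2 * f s * v8 ^ 3 * f v8 * w8 + (-3) * p1 ^ 2 * f s * v8 ^ 4 * (f v8) ^ 2 + (-1) * p1 ^ 2 * f s * (f w8) ^ 2 + (-1) * p7 * s * f s * v8 * w8 + (-1) * p7 * s * f s * v8 ^ 2 * f v8 + (-1) * p7 * s * f s * f w8 + (-1) * p7 ^ 2 * f s + (-1) * f p7 * s * v2 * v8 + (-1) * f p7 * s ^ 2 * v8 ^ 2 + (-6) * s * f s * v2 * v8 * f v8 * f w8 + (-2) * s * f s * v2 * v8 * w8 ^ 2 + (-2) * s * f s * v2 * v8 ^ 2 * f v8 * w8 + (-10) * s * f s * v2 * v8 ^ 3 * (f v8) ^ 2 + (-1) * s * f s * v6 * v8 ^ 2 * w8 + (-1) * s * f s * v6 * v8 ^ 3 * f v8 + (-1) * s * v2 * f v2 * v8 * f w8 + (-2) * s * v2 * f v2 * v8 ^ 3 * f v8 + (-2) * s * v2 * f v6 * v8 * f v8 + (-1) * s ^ 2 * f s * v8 * w8 * f w8 + (-8)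 * s ^ 2 * f s * v8 ^ 2 * f v8 * f w8 + (-3) * s ^ 2 * f s * v8 ^ 2 * w8 ^ 2 + (-3) * s ^ 2 * f s * v8 ^ 3 * f v8 * w8 + (-7) * s ^ 2 * f s * v8 ^ 4 * (f v8) ^ 2 + (-3) * s ^ 2 * f s * (f w8) ^ 2 + (-1) * s ^ 2 * f v2 * v8 ^ 2 * f w8 + (-2) * s ^ 2 * f v2 * v8 ^ 4 * f v8 + (-1) * s ^ 2 * f v6 * v8 ^ 2 * f v8 + (-1) * s ^ 2 * f v6 * f w8 + (-1) * f s * v2 ^ 2 * v8 * f v8 * w8 + (-5) * f s * v2 ^ 2 * v8 ^ 2 * (f v8) ^ 2 + (-3) * f s * v2 ^ 2 * f v8 * f w8 + (-1) * f s * v2 ^ 2 * w8 ^ 2 + (-4) * f s * f v4 * v8 ^ 2 * f v8 + (-2) * f s * f v4 * f w8 + (-1) * f s * v6 ^ 2 * v8 ^ 2) * h2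
  · (try simp only [map_add, map_mul, map_zero, map_pow, hf2]) <;>
      linear_combination ((-5) * p1 ^ 2 * f s * v8 * f v8 * w8 * f w8 + (-2) * p1 ^ 2 * f s * v8 ^ 2 * f v8 * w8 ^ 2 + (-7) * p1 ^ 2 * f s * v8 ^ 2 * (f v8) ^ 2 * f w8 + (-5) * p1 ^ 2 * f s * v8 ^ 3 * (f v8) ^ 2 * w8 + (-6) * p1 ^ 2 * f s * v8 ^ 4 * (f v8) ^ 3 + (-1) * p1 ^ 2 * f s * f v8 * (f w8) ^ 2 + (-2) * p1 ^ 2 * f s * w8 ^ 2 * f w8 + (-2) * p7 * s * f s * v8 * f v8 * w8 + (-2) * p7 * s * f s * v8 ^ 2 * (f v8) ^ 2 + (-2) * p7 * s * f s * f v8 * f w8 + (-2) * p7 ^ 2 * f s * f v8 + (-1) * f p7 * s * v2 * v8 * f v8 + (-1) * f p7 * s ^ 2 * v8 ^ 2 * f v8 + (-1) * f p7 * s ^ 2 * f w8 + (-4) * s * f s * v2 * v8 * f v8 * w8 ^ 2 + (-6) * s * f s * v2 * v8 * (f v8) ^ 2 * f w8 + (-10) * s * f s * v2 * v8 ^ 2 * (f v8) ^ 2 * w8 + (-16) * s * f s * v2 * v8 ^ 3 * (f v8) ^ 3 + (-3) * s * f s * v6 * v8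 * f v8 * f w8 + (-3) * s * f s * v6 * v8 ^ 2 * f v8 * w8 + (-3) * s * f s * v6 * v8 ^ 3 * (f v8) ^ 2 + (-3) * s * f s * v6 * w8 * f w8 + (-1) * s * v2 * f v2 * v8 * f v8 * f w8 + (-1) * s * v2 * f v2 * v8 * w8 ^ 2 + (-4) * s * v2 * f v2 * v8 ^ 2 * f v8 * w8 + (-5) * s * v2 * f v2 * v8 ^ 3 * (f v8) ^ 2 + (-2) * s * v2 * f v6 * v8 * (f v8) ^ 2 + (-1) * s * v6 * f v6 * v8 * f v8 + (-1) * s * v6 * f v6 * w8 + (-10) * s ^ 2 * f s * v8 * f v8 * w8 * f w8 + (-6) * s ^ 2 * f s * v8 ^ 2 * f v8 * w8 ^ 2 + (-15) * s ^ 2 * f s * v8 ^ 2 * (f v8) ^ 2 * f w8 + (-10) * s ^ 2 * f s * v8 ^ 3 * (f v8) ^ 2 * w8 + (-12) * s ^ 2 * f s * v8 ^ 4 * (f v8) ^ 3 + (-5) * s ^ 2 * f s * f v8 * (f w8) ^ 2 + (-4) * s ^ 2 * f s * w8 ^ 2 * f w8 + (-1) * s ^ 2 * f v2 * v8 ^ 2 * f v8 * f w8 + (-1) * s ^ 2 * f v2 * v8 ^ 2 * w8 ^ 2 + (-4) * s ^ 2 * f v2 * v8 ^ 3 * f v8 * w8 + (-5) * s ^ 2 * f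 v2 * v8 ^ 4 * (f v8) ^ 2 + (-1) * s ^ 2 * f v6 * v8 * f v8 * w8 + (-2) * s ^ 2 * f v6 * v8 ^ 2 * (f v8) ^ 2 + (-1) * s ^ 2 * f v6 * f v8 * f w8 + (-1) * s ^ 2 * f v6 * w8 ^ 2 + (-5) * f s * v2 ^ 2 * v8 * (f v8) ^ 2 * w8 + (-8) * f s * v2 ^ 2 * v8 ^ 2 * (f v8) ^ 3 + (-2) * f s * v2 ^ 2 * f v8 * w8 ^ 2 + (-3) * f s * v2 ^ 2 * (f v8) ^ 2 * f w8 + (-5) * f s * f v4 * v8 * f v8 * w8 + (-8) * f s * f v4 * v8 ^ 2 * (f v8) ^ 2 + (-3) * f s * f v4 * f v8 * f w8 + (-2) * f s * f v4 * w8 ^ 2 + (-2) * f s * v6 ^ 2 * v8 ^ 2 * f v8 + (-2) * f s * v6 ^ 2 * f w8) * h2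
  · (try simp only [map_add, map_mul, map_zero, map_pow, hf2]) <;>
      linear_combination ((-1) * p1 ^ 2 * f p7 * f s * v8 ^ 2 * f v8 + (-1) * p1 ^ 2 * f p7 * f s * f w8 + (-2) * p1 ^ 2 * f s * v4 * v8 * f v8 * f w8 + (-2) * p1 ^ 2 * f s * v4 * v8 ^ 2 * f v8 * w8 + (-2) * p1 ^ 2 * f s * v4 * v8 ^ 3 * (f v8) ^ 2 + (-2) * p1 ^ 2 * f s * v4 * w8 * f w8 + (-1) * p1 ^ 2 * f s * f v6 * v8 * f v8 * w8 + (-3) * p1 ^ 2 * f s * f v6 * v8 ^ 2 * (f v8) ^ 2 + (-2) * p1 ^ 2 * f s * f v6 * f v8 * f w8 + (-1) * p1 ^ 2 * f s * f v6 * w8 ^ 2 + (-6) * p1 ^ 2 * (f s) ^ 2 * v8 * f v8 * w8 * f w8 + (-4) * p1 ^ 2 * (f s) ^ 2 * v8 ^ 2 * f v8 * w8 ^ 2 + (-8) * p1 ^ 2 * (f s) ^ 2 * v8 ^ 2 * (f v8) ^ 2 * f w8 + (-6) * p1 ^ 2 * (f s) ^ 2 * v8 ^ 3 * (f v8) ^ 2 * w8 + (-6) * p1 ^ 2 * (f s) ^ 2 * v8 ^ 4 * (f v8) ^ 3 + (-2) * p1 ^ 2 * (f s) ^ 2 * f v8 * (f w8) ^ 2 + (-4) * p1 ^ 2 * (f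 s) ^ 2 * w8 ^ 2 * f w8 + (-1) * p3 * p7 * f s * f v8 + (-1) * p3 * s * f s * v8 * f v8 * w8 + (-1) * p3 * s * f s * v8 ^ 2 * (f v8) ^ 2 + (-1) * p3 * s * f s * f v8 * f w8 + (-1) * p3 * s * v4 * v8 * f v8 + (-1) * p3 * s * f v6 * f v8 + (-1) * f p3 * f s * v8 ^ 2 * f v8 + (-1) * f p3 * f s * f w8 + (-1) * f p5 * f s * f v8 + (-1) * p7 * s * f s * v4 * v8 * f v8 + (-1) * p7 * s * f s * f v6 * f v8 + (-3) * p7 * s * (f s) ^ 2 * v8 * f v8 * w8 + (-3) * p7 * s * (f s) ^ 2 * v8 ^ 2 * (f v8) ^ 2 + (-3) * p7 * s * (f s) ^ 2 * f v8 * f w8 + (-3) * p7 ^ 2 * (f s) ^ 2 * f v8 + (-2) * f p7 * s * f s * v2 * v8 * f v8 + (-1) * f p7 * s * v2 * f v2 * v8 + (-3) * f p7 * s ^ 2 * f s * v8 ^ 2 * f v8 + (-3) * f p7 * s ^ 2 * f s * f w8 + (-1) * f p7 * s ^ 2 * f v2 * v8 ^ 2 + (-1) * f p7 * s ^ 2 * f v6 + (-1) * f p7 * f s * v2 ^ 2 * f v8 + (-1) * f p7 * f s * f v4 + (-11) * s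 * f s * v2 * f v2 * v8 * f v8 * f w8 + (-2) * s * f s * v2 * f v2 * v8 * w8 ^ 2 + (-3) * s * f s * v2 * f v2 * v8 ^ 2 * f v8 * w8 + (-13) * s * f s * v2 * f v2 * v8 ^ 3 * (f v8) ^ 2 + (-1) * s * f s * v2 * f v2 * w8 * f w8 + (-4) * s * f s * v2 * v4 * v8 * f v8 * w8 + (-6) * s * f s * v2 * v4 * v8 ^ 2 * (f v8) ^ 2 + (-2) * s * f s * v2 * v4 * f v8 * f w8 + (-4) * s * f s * v2 * f v6 * v8 * (f v8) ^ 2 + (-1) * s * f s * f v2 * v6 * v8 * f w8 + (-1) * s * f s * f v2 * v6 * v8 ^ 3 * f v8 + (-1) * s * f s * v4 * v6 * v8 ^ 2 * f v8 + (-1) * s * f s * v4 * v6 * f w8 + (-1) * s * f s * v6 * f v6 * v8 * f v8 + (-1) * s * f s * v6 * f v6 * w8 + (-1) * s * f s * v8 * f v8 * w2 * f w8 + (-1) * s * f s * v8 ^ 2 * f v8 * w2 * w8 + (-1) * s * f s * v8 ^ 3 * (f v8) ^ 2 * w2 + (-1) * s * f s * w2 * w8 * f w8 + (-8) * s * (f s) ^ 2 * v2 * v8 * f v8 * w8 ^ 2 + (-14) * s * (f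 s) ^ 2 * v2 * v8 * (f v8) ^ 2 * f w8 + (-14) * s * (f s) ^ 2 * v2 * v8 ^ 2 * (f v8) ^ 2 * w8 + (-22) * s * (f s) ^ 2 * v2 * v8 ^ 3 * (f v8) ^ 3 + (-2) * s * (f s) ^ 2 * v2 * f v8 * w8 * f w8 + (-4) * s * (f s) ^ 2 * v6 * v8 * f v8 * f w8 + (-4) * s * (f s) ^ 2 * v6 * v8 ^ 2 * f v8 * w8 + (-4) * s * (f s) ^ 2 * v6 * v8 ^ 3 * (f v8) ^ 2 + (-4) * s * (f s) ^ 2 * v6 * w8 * f w8 + (-1) * s * v2 * f v2 * v4 * v8 ^ 2 * f v8 + (-1) * s * v2 * f v2 * v4 * f w8 + (-2) * s * v2 * f v2 * f v6 * v8 * f v8 + (-2) * s * v2 * (f v2) ^ 2 * v8 * f w8 + (-2) * s * v2 * (f v2) ^ 2 * v8 ^ 3 * f v8 + (-1) * s * v2 * v4 ^ 2 * v8 * f v8 + (-1) * s * f v2 * v8 * w2 * f w8 + (-1) * s * f v2 * v8 ^ 3 * f v8 * w2 + (-1) * s * v4 * v8 ^ 2 * f v8 * w2 + (-1) * s * v4 * w2 * f w8 + (-1) * s ^ 2 * f s * f v2 * v8 * w8 * f w8 + (-7) * s ^ 2 * f s * f v2 * v8 ^ 2 * f v8 * f w8 + (-2) * s ^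 2 * f s * f v2 * v8 ^ 2 * w8 ^ 2 + (-3) * s ^ 2 * f s * f v2 * v8 ^ 3 * f v8 * w8 + (-9) * s ^ 2 * f s * f v2 * v8 ^ 4 * (f v8) ^ 2 + (-2) * s ^ 2 * f s * v4 * v8 * f v8 * f w8 + (-4) * s ^ 2 * f s * v4 * v8 ^ 2 * f v8 * w8 + (-4) * s ^ 2 * f s * v4 * v8 ^ 3 * (f v8) ^ 2 + (-1) * s ^ 2 * f s * v4 * w8 * f w8 + (-3) * s ^ 2 * f s * f v6 * v8 * f v8 * w8 + (-8) * s ^ 2 * f s * f v6 * v8 ^ 2 * (f v8) ^ 2 + (-7) * s ^ 2 * f s * f v6 * f v8 * f w8 + (-3) * s ^ 2 * f s * f v6 * w8 ^ 2 + (-11) * s ^ 2 * (f s) ^ 2 * v8 * f v8 * w8 * f w8 + (-10) * s ^ 2 * (f s) ^ 2 * v8 ^ 2 * f v8 * w8 ^ 2 + (-22) * s ^ 2 * (f s) ^ 2 * v8 ^ 2 * (f v8) ^ 2 * f w8 + (-13) * s ^ 2 * (f s) ^ 2 * v8 ^ 3 * (f v8) ^ 2 * w8 + (-16) * s ^ 2 * (f s) ^ 2 * v8 ^ 4 * (f v8) ^ 3 + (-9) * s ^ 2 * (f s) ^ 2 * f v8 * (f w8) ^ 2 + (-6) * s ^ 2 * (f s) ^ 2 * w8 ^ 2 * f w8 + (-1) * s ^ 2 * f v2 * v4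 * v8 * f w8 + (-1) * s ^ 2 * f v2 * v4 * v8 ^ 3 * f v8 + (-2) * s ^ 2 * f v2 * f v6 * v8 ^ 2 * f v8 + (-1) * s ^ 2 * (f v2) ^ 2 * v8 ^ 2 * f w8 + (-1) * s ^ 2 * (f v2) ^ 2 * v8 ^ 4 * f v8 + (-1) * s ^ 2 * v4 * f v6 * v8 * f v8 + (-1) * s ^ 2 * v4 ^ 2 * v8 ^ 2 * f v8 + (-1) * s ^ 2 * (f v6) ^ 2 * f v8 + (-1) * f s * v2 * f v2 * v6 * v8 ^ 2 * f v8 + (-1) * f s * v2 * f v2 * v6 * f w8 + (-2) * f s * v2 * v8 ^ 2 * (f v8) ^ 2 * w2 + (-2) * f s * v2 * f v8 * w2 * f w8 + (-1) * f s * v2 ^ 2 * f v2 * v8 * f v8 * w8 + (-7) * f s * v2 ^ 2 * f v2 * v8 ^ 2 * (f v8) ^ 2 + (-6) * f s * v2 ^ 2 * f v2 * f v8 * f w8 + (-1) * f s * v2 ^ 2 * f v2 * w8 ^ 2 + (-2) * f s * v2 ^ 2 * v4 * v8 * (f v8) ^ 2 + (-2) * f s * v2 ^ 2 * v4 * f v8 * w8 + (-2) * f s * v2 ^ 2 * f v6 * (f v8) ^ 2 + (-3) * f s * f v4 * f v6 * f v8 + (-1) * f s * v6 * v8 ^ 2 * f v8 * w2 + (-1) * f s * v6 * w2 *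 f w8 + (-1) * f s * v6 ^ 2 * f v6 + (-1) * f s * v8 * f v8 * f w2 * w8 + (-3) * f s * v8 ^ 2 * (f v8) ^ 2 * f w2 + (-2) * f s * f v8 * f w2 * f w8 + (-1) * f s * f w2 * w8 ^ 2 + (-1) * f s * f w6 + (-2) * (f s) ^ 2 * v2 * v6 * v8 ^ 2 * (f v8) ^ 2 + (-2) * (f s) ^ 2 * v2 * v6 * f v8 * f w8 + (-6) * (f s) ^ 2 * v2 ^ 2 * v8 * (f v8) ^ 2 * w8 + (-12) * (f s) ^ 2 * v2 ^ 2 * v8 ^ 2 * (f v8) ^ 3 + (-4) * (f s) ^ 2 * v2 ^ 2 * f v8 * w8 ^ 2 + (-8) * (f s) ^ 2 * v2 ^ 2 * (f v8) ^ 2 * f w8 + (-4) * (f s) ^ 2 * f v4 * v8 * f v8 * w8 + (-10) * (f s) ^ 2 * f v4 * v8 ^ 2 * (f v8) ^ 2 + (-6) * (f s) ^ 2 * f v4 * f v8 * f w8 + (-3) * (f s) ^ 2 * f v4 * w8 ^ 2 + (-3) * (f s) ^ 2 * v6 ^ 2 * v8 ^ 2 * f v8 + (-3) * (f s) ^ 2 * v6 ^ 2 * f w8) * h2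

include hf2 in
theorem cj2v (s p1 v2 w2 p3 v4 w4 p5 v6 w6 p7 v8 w8 : K) :
    tY2 f s 0 * tw8 f p1 v2 w2 p3 v4 w4 p5 v6 w6 p7 v8 w8 =
      tw8 f (p1) (v2) (s * f v2 + f s * v2 + w2) (p3 + s * v4) (f s * v8 + v4) (p5 * s + s ^ 2 * f s * w8 + s ^ 2 * v4 * f v8 + w4) (p5 + p7 * f s + s * f s * v8 * f v8 + s * f s * w8 + f s * v6 * v8) (s * f v8 + v6) (p7 * f s * v8 + f p7 * s + s * f s * v8 * w8 + s * f s * v8 ^ 2 * f v8 + f s * v6 * v8 ^ 2 + w6) (p7 + s * w8) (v8) (w8) * tY2 f s 0 := by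
  have h2 := two_eq_zero' (K := K)
  apply eq_of_mul_fw24
  simp only [tw8, tY1, tY2, tY3, tY4, tY5, tY6, tY7, tY8, mul_assoc]
  conv_lhs => rw [fl30_24, fl28_24, fl25_24, fl27_24, fl32_24, fl37_24, fl46_24, fl40_24, fl31_24, fl35_24, fl45_24, fl39_24, fl47_24, fl44_24, fl41_24, fl29_24, fl43_24, fl38_24, fl42_24, fl36_24, fl26_24, fl34_24, fl24_24, fl33_24, fl42_24, fl36_24, fl26_24, fl34_24]
  conv_rhs => rw [fl42_24, fl36_24, fl26_24, fl34_24, fl30_24, fl28_24, fl25_24, fl27_24, fl32_24, fl37_24, fl46_24, fl40_24, fl31_24, fl35_24, fl45_24, fl39_24, fl47_24, fl44_24, fl41_24, fl29_24, fl43_24, fl38_24, fl42_24, fl36_24, fl26_24, fl34_24, fl24_24, fl33_24]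
  apply fw24_congr
  · (try simp only [map_add, map_mul, map_zero, map_pow, hf2]) <;>
      linear_combination (0) * h2
  · (try simp only [map_add, map_mul, map_zero, map_pow, hf2]) <;>
      linear_combination (0) * h2
  · (try simp only [map_add, map_mul, map_zero, map_pow, hf2]) <;>
      linear_combination (0) * h2
  · (try simp only [map_add, map_mul, map_zero, map_pow, hf2]) <;>
      linear_combination (0) * h2
  · (try simp only [map_add, map_mul, map_zero, map_pow, hf2]) <;>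
      linear_combination (0) * h2
  · (try simp only [map_add, map_mul, map_zero, map_pow, hf2]) <;>
      linear_combination ((-1) * f s * v8) * h2
  · (try simp only [map_add, map_mul, map_zero, map_pow, hf2]) <;>
      linear_combination (0) * h2
  · (try simp only [map_add, map_mul, map_zero, map_pow, hf2]) <;>
      linear_combination ((-1) * f s * v8 ^ 2) * h2
  · (try simp only [map_add, map_mul, map_zero, map_pow, hf2]) <;>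
      linear_combination ((-1) * f s * v8 ^ 2 * f v8 + (-1) * f s * f w8) * h2
  · (try simp only [map_add, map_mul, map_zero, map_pow, hf2]) <;>
      linear_combination (0) * h2
  · (try simp only [map_add, map_mul, map_zero, map_pow, hf2]) <;>
      linear_combination (0) * h2
  · (try simp only [map_add, map_mul, map_zero, map_pow, hf2]) <;>
      linear_combination (0) * h2
  · (try simp only [map_add, map_mul, map_zero, map_pow, hf2]) <;>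
      linear_combination ((-1) * p1 * f s * v8 + (-1) * f s * v2) * h2
  · (try simp only [map_add, map_mul, map_zero, map_pow, hf2]) <;>
      linear_combination (s * v8 * f v8) * h2
  · (try simp only [map_add, map_mul, map_zero, map_pow, hf2]) <;>
      linear_combination ((-2) * p1 * f s * v8 ^ 2 + s * f s * v8 + (-2) * f s * v2 * v8) * h2
  · (try simp only [map_add, map_mul, map_zero, map_pow, hf2]) <;>
      linear_combination ((-1) * p1 * f s * v8 * w8 + (-3) * p1 * f s * v8 ^ 2 * f v8 + (-1) * p1 * f s * f w8 + (-1) * p7 * f s + s * f s * v8 * f v8 + (-3) * f s * v2 * v8 * f v8 + (-1) * f s * v2 * w8 + (-1) * f s * v6 * v8) * h2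
  · (try simp only [map_add, map_mul, map_zero, map_pow, hf2]) <;>
      linear_combination ((-2) * p1 * f s * v8 * f w8 + (-2) * p1 * f s * v8 ^ 2 * w8 + (-6) * p1 * f s * v8 ^ 3 * f v8 + (-2) * p7 * f s * v8 + (-1) * s * f s * v8 * w8 + s * f s * f w8 + (-2) * f s * v2 * v8 * w8 + (-8) * f s * v2 * v8 ^ 2 * f v8 + (-2) * f s * v2 * f w8 + (-3) * f s * v6 * v8 ^ 2) * h2
  · (try simp only [map_add, map_mul, map_zero, map_pow, hf2]) <;>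
      linear_combination (0) * h2
  · (try simp only [map_add, map_mul, map_zero, map_pow, hf2]) <;>
      linear_combination ((-1) * p1 ^ 2 * f s * v8 ^ 2 + (-1) * f s * v2 ^ 2) * h2
  · (try simp only [map_add, map_mul, map_zero, map_pow, hf2]) <;>
      linear_combination ((-1) * p1 ^ 2 * f s * v8 ^ 2 * f v8 + (-1) * p1 ^ 2 * f s * f w8 + (-1) * f s * v2 ^ 2 * f v8 + (-1) * f s * f v4) * h2
  · (try simp only [map_add, map_mul, map_zero, map_pow, hf2]) <;>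
      linear_combination (p1 * s * f s * v8 * w8 + (-1) * p1 * s * f s * v8 ^ 2 * f v8 + (-1) * p1 * s * f s * f w8 + p1 * s * f v2 * v8 * w8 + 2 * p1 * s * f v2 * v8 ^ 2 * f v8 + 3 * p1 * s * v4 * v8 * f v8 + p1 * s * v4 * w8 + (-2) * p1 * f s * v2 * v8 * w8 + (-8) * p1 * f s * v2 * v8 ^ 2 * f v8 + (-2) * p1 * f s * v2 * f w8 + (-2) * p1 * f s * v6 * v8 ^ 2 + (-2) * p1 ^ 2 * f s * v8 * f w8 + (-2) * p1 ^ 2 * f s * v8 ^ 2 * w8 + (-6) * p1 ^ 2 * f s * v8 ^ 3 * f v8 + (-1) * p3 * s * f v8 + (-1) * p5 * s + (-2) * p7 * s * f s + (-5) * s * f s * v2 * v8 * f v8 + (-1) * s * f s * v2 * w8 + (-1) * s * f s * v6 * v8 + s ^ 2 * f s * v8 * f v8 + (-1) * s ^ 2 * f s * w8 + (-1) * s ^ 2 * v4 * f v8 + (-2) * f s * v2 * v6 * v8 + (-8) * f s * v2 ^ 2 * v8 * f v8 + (-2) * f s * v2 ^ 2 * w8 + (-2) * f s * f v4 * v8) * h2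
  · (try simp only [map_add, map_mul, map_zero, map_pow, hf2]) <;>
      linear_combination ((-2) * p1 ^ 2 * f s * v8 ^ 2 * f w8 + (-2) * p1 ^ 2 * f s * v8 ^ 4 * f v8 + (-1) * s ^ 2 * f s * v8 ^ 2 * f v8 + (-4) * f s * v2 ^ 2 * v8 ^ 2 * f v8 + (-2) * f s * v2 ^ 2 * f w8 + (-2) * f s * f v4 * v8 ^ 2) * h2
  · (try simp only [map_add, map_mul, map_zero, map_pow, hf2]) <;>
      linear_combination ((-2) * p1 ^ 2 * f s * v8 ^ 2 * f v8 * f w8 + (-1) * p1 ^ 2 * f s * v8 ^ 2 * w8 ^ 2 + (-4) * p1 ^ 2 * f s * v8 ^ 3 * f v8 * w8 + (-5) * p1 ^ 2 * f s * v8 ^ 4 * (f v8) ^ 2 + (-1) * p1 ^ 2 * f s * (f w8) ^ 2 + (-1) * p7 * s * f s * w8 + (-1) * p7 ^ 2 * f s + (-1) * f p7 * s ^ 2 * f v8 + (-2) * s * f s * v6 * v8 ^ 2 * f v8 + (-1) * s * v6 * f v6 * f v8 + 2 * s ^ 2 * f s * v8 * f v8 * w8 + (-1) * s ^ 2 * f s * v8 ^ 2 * (f v8) ^ 2 + (-2) * s ^ 2 * f s * f v8 * f w8 + (-1)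 * s ^ 2 * f v6 * (f v8) ^ 2 + (-4) * f s * v2 ^ 2 * v8 * f v8 * w8 + (-7) * f s * v2 ^ 2 * v8 ^ 2 * (f v8) ^ 2 + (-2) * f s * v2 ^ 2 * f v8 * f w8 + (-1) * f s * v2 ^ 2 * w8 ^ 2 + (-2) * f s * f v4 * v8 ^ 2 * f v8 + (-2) * f s * f v4 * f w8 + (-1) * f s * v6 ^ 2 * v8 ^ 2) * h2
  · (try simp only [map_add, map_mul, map_zero, map_pow, hf2]) <;>
      linear_combination ((-1) * p1 ^ 2 * f p7 * f s * v8 ^ 2 + (-2) * p1 ^ 2 * f s * v4 * v8 * f w8 + (-2) * p1 ^ 2 * f s * v4 * v8 ^ 3 * f v8 + (-2) * p1 ^ 2 * f s * f v6 * v8 ^ 2 * f v8 + (-1) * p1 ^ 2 * f s * f v6 * f w8 + (-4) * p1 ^ 2 * (f s) ^ 2 * v8 ^ 2 * f w8 + (-4) * p1 ^ 2 * (f s) ^ 2 * v8 ^ 4 * f v8 + (-1) * p3 * s * v4 * f v8 + (-1) * f p3 * f s * v8 ^ 2 + (-1) * f p5 * f s + (-1) * f p7 * f s * v2 ^ 2 + (-1) * s * f s * v2 * f v2 * v8 ^ 2 * f v8 + (-1) * s * f s * v2 * f v2 * f w8 + (-1) * s * v2 * (f v2)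 ^ 2 * v8 ^ 2 * f v8 + (-1) * s * v2 * (f v2) ^ 2 * f w8 + (-1) * s * f v2 * v8 ^ 2 * f v8 * w2 + (-1) * s * f v2 * w2 * f w8 + (-1) * s ^ 2 * f s * f v2 * v8 ^ 2 * f v8 + (-1) * s ^ 2 * (f s) ^ 2 * v8 ^ 2 * f v8 + (-1) * f s * v2 * v8 ^ 2 * f v8 * w2 + (-1) * f s * v2 * w2 * f w8 + (-4) * f s * v2 ^ 2 * f v2 * v8 ^ 2 * f v8 + (-3) * f s * v2 ^ 2 * f v2 * f w8 + (-2) * f s * v2 ^ 2 * v4 * v8 * f v8 + (-2) * f s * v2 ^ 2 * f v6 * f v8 + (-1) * f s * f v4 * f v6 + (-2) * f s * v8 ^ 2 * f v8 * f w2 + (-1) * f s * f w2 * f w8 + (-7) * (f s) ^ 2 * v2 ^ 2 * v8 ^ 2 * f v8 + (-3) * (f s) ^ 2 * v2 ^ 2 * f w8 + (-3) * (f s) ^ 2 * f v4 * v8 ^ 2) * h2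

include hf2 in
theorem cj2w (s p1 v2 w2 p3 v4 w4 p5 v6 w6 p7 v8 w8 : K) :
    tY2 f 0 s * tw8 f p1 v2 w2 p3 v4 w4 p5 v6 w6 p7 v8 w8 =
      tw8 f (p1) (v2) (w2) (p3 + s * v8) (v4) (p7 * s + s * v6 * v8 + f s * w8 + w4) (p5 + s * v8 * f v8 + s * w8) (v6) (s * v8 * w8 + s * v8 ^ 2 * f v8 + s * f w8 + w6) (p7) (v8) (w8) * tY2 f 0 s := by
  have h2 := two_eq_zero' (K := K)
  apply eq_of_mul_fw24
  simp only [tw8, tY1, tY2, tY3, tY4, tY5, tY6, tY7, tY8, mul_assoc]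
  conv_lhs => rw [fl30_24, fl28_24, fl25_24, fl27_24, fl32_24, fl37_24, fl46_24, fl40_24, fl31_24, fl35_24, fl45_24, fl39_24, fl47_24, fl44_24, fl41_24, fl29_24, fl43_24, fl38_24, fl42_24, fl36_24, fl26_24, fl34_24, fl24_24, fl33_24, fl42_24, fl36_24, fl26_24, fl34_24]
  conv_rhs => rw [fl42_24, fl36_24, fl26_24, fl34_24, fl30_24, fl28_24, fl25_24, fl27_24, fl32_24, fl37_24, fl46_24, fl40_24, fl31_24, fl35_24, fl45_24, fl39_24, fl47_24, fl44_24, fl41_24, fl29_24, fl43_24, fl38_24, fl42_24, fl36_24, fl26_24, fl34_24, fl24_24, fl33_24]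
  apply fw24_congr
  · (try simp only [map_add, map_mul, map_zero, map_pow, hf2]) <;>
      linear_combination (0) * h2
  · (try simp only [map_add, map_mul, map_zero, map_pow, hf2]) <;>
      linear_combination (0) * h2
  · (try simp only [map_add, map_mul, map_zero, map_pow, hf2]) <;>
      linear_combination (0) * h2
  · (try simp only [map_add, map_mul, map_zero, map_pow, hf2]) <;>
      linear_combination (0) * h2
  · (try simp only [map_add, map_mul, map_zero, map_pow, hf2]) <;>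
      linear_combination (0) * h2
  · (try simp only [map_add, map_mul, map_zero, map_pow, hf2]) <;>
      linear_combination (0) * h2
  · (try simp only [map_add, map_mul, map_zero, map_pow, hf2]) <;>
      linear_combination (0) * h2
  · (try simp only [map_add, map_mul, map_zero, map_pow, hf2]) <;>
      linear_combination (0) * h2
  · (try simp only [map_add, map_mul, map_zero, map_pow, hf2]) <;>
      linear_combination (0) * h2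
  · (try simp only [map_add, map_mul, map_zero, map_pow, hf2]) <;>
      linear_combination (0) * h2
  · (try simp only [map_add, map_mul, map_zero, map_pow, hf2]) <;>
      linear_combination (0) * h2
  · (try simp only [map_add, map_mul, map_zero, map_pow, hf2]) <;>
      linear_combination (0) * h2
  · (try simp only [map_add, map_mul, map_zero, map_pow, hf2]) <;>
      linear_combination (0) * h2
  · (try simp only [map_add, map_mul, map_zero, map_pow, hf2]) <;>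
      linear_combination (0) * h2
  · (try simp only [map_add, map_mul, map_zero, map_pow, hf2]) <;>
      linear_combination (0) * h2
  · (try simp only [map_add, map_mul, map_zero, map_pow, hf2]) <;>
      linear_combination (0) * h2
  · (try simp only [map_add, map_mul, map_zero, map_pow, hf2]) <;>
      linear_combination ((-1) * s * v8 * w8 + (-1) * s * v8 ^ 2 * f v8) * h2
  · (try simp only [map_add, map_mul, map_zero, map_pow, hf2]) <;>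
      linear_combination (0) * h2
  · (try simp only [map_add, map_mul, map_zero, map_pow, hf2]) <;>
      linear_combination (0) * h2
  · (try simp only [map_add, map_mul, map_zero, map_pow, hf2]) <;>
      linear_combination (0) * h2
  · (try simp only [map_add, map_mul, map_zero, map_pow, hf2]) <;>
      linear_combination (p1 * s * v8 * w8 + 2 * p1 * s * v8 ^ 2 * f v8 + (-1) * p7 * s + (-1) * s * v6 * v8 + f s * v8 * f v8) * h2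
  · (try simp only [map_add, map_mul, map_zero, map_pow, hf2]) <;>
      linear_combination (0) * h2
  · (try simp only [map_add, map_mul, map_zero, map_pow, hf2]) <;>
      linear_combination (2 * f s * v8 * f v8 * w8 + f s * v8 ^ 2 * (f v8) ^ 2 + (-1) * f s * f v8 * f w8) * h2
  · (try simp only [map_add, map_mul, map_zero, map_pow, hf2]) <;>
      linear_combination ((-1) * p3 * s * v8 * f v8) * h2

include hf2 in
theorem cj3 (s p1 v2 w2 p3 v4 w4 p5 v6 w6 p7 v8 w8 : K) :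
    tY3 f s * tw8 f p1 v2 w2 p3 v4 w4 p5 v6 w6 p7 v8 w8 =
      tw8 f (p1) (v2) (w2) (p3) (v4) (s * v6 + f s * v8 + w4) (p5 + s * f v8) (v6) (s * w8 + w6) (p7) (v8) (w8) * tY3 f s := by
  have h2 := two_eq_zero' (K := K)
  apply eq_of_mul_fw24
  simp only [tw8, tY1, tY2, tY3, tY4, tY5, tY6, tY7, tY8, mul_assoc]
  conv_lhs => rw [fl30_24, fl28_24, fl25_24, fl27_24, fl32_24, fl37_24, fl46_24, fl40_24, fl31_24, fl35_24, fl45_24, fl39_24, fl47_24, fl44_24, fl41_24, fl29_24, fl43_24, fl38_24, fl42_24, fl36_24, fl26_24, fl34_24, fl24_24, fl33_24, fl43_24, fl38_24]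
  conv_rhs => rw [fl43_24, fl38_24, fl30_24, fl28_24, fl25_24, fl27_24, fl32_24, fl37_24, fl46_24, fl40_24, fl31_24, fl35_24, fl45_24, fl39_24, fl47_24, fl44_24, fl41_24, fl29_24, fl43_24, fl38_24, fl42_24, fl36_24, fl26_24, fl34_24, fl24_24, fl33_24]
  apply fw24_congr
  · (try simp only [map_add, map_mul, map_zero, map_pow, hf2]) <;>
      linear_combination (0) * h2
  · (try simp only [map_add, map_mul, map_zero, map_pow, hf2]) <;>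
      linear_combination (0) * h2
  · (try simp only [map_add, map_mul, map_zero, map_pow, hf2]) <;>
      linear_combination (0) * h2
  · (try simp only [map_add, map_mul, map_zero, map_pow, hf2]) <;>
      linear_combination (0) * h2
  · (try simp only [map_add, map_mul, map_zero, map_pow, hf2]) <;>
      linear_combination (0) * h2
  · (try simp only [map_add, map_mul, map_zero, map_pow, hf2]) <;>
      linear_combination (0) * h2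
  · (try simp only [map_add, map_mul, map_zero, map_pow, hf2]) <;>
      linear_combination (0) * h2
  · (try simp only [map_add, map_mul, map_zero, map_pow, hf2]) <;>
      linear_combination (0) * h2
  · (try simp only [map_add, map_mul, map_zero, map_pow, hf2]) <;>
      linear_combination (0) * h2
  · (try simp only [map_add, map_mul, map_zero, map_pow, hf2]) <;>
      linear_combination (0) * h2
  · (try simp only [map_add, map_mul, map_zero, map_pow, hf2]) <;>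
      linear_combination (0) * h2
  · (try simp only [map_add, map_mul, map_zero, map_pow, hf2]) <;>
      linear_combination (0) * h2
  · (try simp only [map_add, map_mul, map_zero, map_pow, hf2]) <;>
      linear_combination (0) * h2
  · (try simp only [map_add, map_mul, map_zero, map_pow, hf2]) <;>
      linear_combination (0) * h2
  · (try simp only [map_add, map_mul, map_zero, map_pow, hf2]) <;>
      linear_combination (0) * h2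
  · (try simp only [map_add, map_mul, map_zero, map_pow, hf2]) <;>
      linear_combination (0) * h2
  · (try simp only [map_add, map_mul, map_zero, map_pow, hf2]) <;>
      linear_combination (s * v8 * f v8) * h2
  · (try simp only [map_add, map_mul, map_zero, map_pow, hf2]) <;>
      linear_combination (0) * h2
  · (try simp only [map_add, map_mul, map_zero, map_pow, hf2]) <;>
      linear_combination (0) * h2
  · (try simp only [map_add, map_mul, map_zero, map_pow, hf2]) <;>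
      linear_combination (0) * h2
  · (try simp only [map_add, map_mul, map_zero, map_pow, hf2]) <;>
      linear_combination (3 * p1 * s * v8 * f v8 + p1 * s * w8 + s * v2 * f v8) * h2
  · (try simp only [map_add, map_mul, map_zero, map_pow, hf2]) <;>
      linear_combination (0) * h2
  · (try simp only [map_add, map_mul, map_zero, map_pow, hf2]) <;>
      linear_combination (0) * h2
  · (try simp only [map_add, map_mul, map_zero, map_pow, hf2]) <;>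
      linear_combination (0) * h2

include hf2 in
theorem cj4v (s p1 v2 w2 p3 v4 w4 p5 v6 w6 p7 v8 w8 : K) :
    tY4 f s 0 * tw8 f p1 v2 w2 p3 v4 w4 p5 v6 w6 p7 v8 w8 =
      tw8 f (p1) (v2) (p1 * s + w2) (p3 + s * v2) (v4) (s * f v4 + f s * v4 + w4) (p5 + s * v6) (v6) (p7 * s + w6) (p7) (v8) (w8) * tY4 f s 0 := by
  have h2 := two_eq_zero' (K := K)
  apply eq_of_mul_fw24
  simp only [tw8, tY1, tY2, tY3, tY4, tY5, tY6, tY7, tY8, mul_assoc]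
  conv_lhs => rw [fl30_24, fl28_24, fl25_24, fl27_24, fl32_24, fl37_24, fl46_24, fl40_24, fl31_24, fl35_24, fl45_24, fl39_24, fl47_24, fl44_24, fl41_24, fl29_24, fl43_24, fl38_24, fl42_24, fl36_24, fl26_24, fl34_24, fl24_24, fl33_24, fl47_24, fl44_24, fl41_24, fl29_24]
  conv_rhs => rw [fl47_24, fl44_24, fl41_24, fl29_24, fl30_24, fl28_24, fl25_24, fl27_24, fl32_24, fl37_24, fl46_24, fl40_24, fl31_24, fl35_24, fl45_24, fl39_24, fl47_24, fl44_24, fl41_24, fl29_24, fl43_24, fl38_24, fl42_24, fl36_24, fl26_24, fl34_24, fl24_24, fl33_24]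
  apply fw24_congr
  · (try simp only [map_add, map_mul, map_zero, map_pow, hf2]) <;>
      linear_combination (0) * h2
  · (try simp only [map_add, map_mul, map_zero, map_pow, hf2]) <;>
      linear_combination (0) * h2
  · (try simp only [map_add, map_mul, map_zero, map_pow, hf2]) <;>
      linear_combination (0) * h2
  · (try simp only [map_add, map_mul, map_zero, map_pow, hf2]) <;>
      linear_combination (0) * h2
  · (try simp only [map_add, map_mul, map_zero, map_pow, hf2]) <;>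
      linear_combination (0) * h2
  · (try simp only [map_add, map_mul, map_zero, map_pow, hf2]) <;>
      linear_combination (0) * h2
  · (try simp only [map_add, map_mul, map_zero, map_pow, hf2]) <;>
      linear_combination (0) * h2
  · (try simp only [map_add, map_mul, map_zero, map_pow, hf2]) <;>
      linear_combination (0) * h2
  · (try simp only [map_add, map_mul, map_zero, map_pow, hf2]) <;>
      linear_combination (0) * h2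
  · (try simp only [map_add, map_mul, map_zero, map_pow, hf2]) <;>
      linear_combination (0) * h2
  · (try simp only [map_add, map_mul, map_zero, map_pow, hf2]) <;>
      linear_combination (0) * h2
  · (try simp only [map_add, map_mul, map_zero, map_pow, hf2]) <;>
      linear_combination (0) * h2
  · (try simp only [map_add, map_mul, map_zero, map_pow, hf2]) <;>
      linear_combination ((-1) * p1 * s) * h2
  · (try simp only [map_add, map_mul, map_zero, map_pow, hf2]) <;>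
      linear_combination (0) * h2
  · (try simp only [map_add, map_mul, map_zero, map_pow, hf2]) <;>
      linear_combination ((-1) * p1 * s * v8 + (-1) * s * v2) * h2
  · (try simp only [map_add, map_mul, map_zero, map_pow, hf2]) <;>
      linear_combination ((-2) * p1 * s * v8 * f v8 + (-1) * p1 * s * w8 + (-1) * s * v2 * f v8 + (-1) * s * v6) * h2
  · (try simp only [map_add, map_mul, map_zero, map_pow, hf2]) <;>
      linear_combination ((-1) * p1 * s * v8 * w8 + (-3) * p1 * s * v8 ^ 2 * f v8 + (-1) * p1 * s * f w8 + (-1) * p7 * s + (-3) * s * v2 * v8 * f v8 + (-1) * s * v2 * w8 + (-1) * s * v6 * v8) * h2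
  · (try simp only [map_add, map_mul, map_zero, map_pow, hf2]) <;>
      linear_combination (0) * h2
  · (try simp only [map_add, map_mul, map_zero, map_pow, hf2]) <;>
      linear_combination (0) * h2
  · (try simp only [map_add, map_mul, map_zero, map_pow, hf2]) <;>
      linear_combination (0) * h2
  · (try simp only [map_add, map_mul, map_zero, map_pow, hf2]) <;>
      linear_combination ((-3) * p1 * s * v2 * v8 * f v8 + (-1) * p1 * s * v2 * w8 + (-1) * p1 * s * v6 * v8 + (-1) * p1 ^ 2 * s * v8 * w8 + (-3) * p1 ^ 2 * s * v8 ^ 2 * f v8 + (-1) * p1 ^ 2 * s * f w8 + (-1) * s * v2 * v6 + (-1) * s * v2 ^ 2 * f v8 + (-1) * s * f v4) * h2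
  · (try simp only [map_add, map_mul, map_zero, map_pow, hf2]) <;>
      linear_combination (0) * h2
  · (try simp only [map_add, map_mul, map_zero, map_pow, hf2]) <;>
      linear_combination (0) * h2
  · (try simp only [map_add, map_mul, map_zero, map_pow, hf2]) <;>
      linear_combination ((-1) * p1 * s * v2 * f v2 * v8 ^ 2 * f v8 + (-1) * p1 * s * v2 * f v2 * f w8 + (-1) * p1 * s * v8 ^ 2 * f v8 * w2 + (-1) * p1 * s * w2 * f w8 + (-1) * p1 ^ 2 * s * v4 * v8 ^ 2 * f v8 + (-1) * p1 ^ 2 * s * v4 * f w8 + (-1) * p1 ^ 2 * s ^ 2 * v8 ^ 2 * f v8 + (-1) * p1 ^ 2 * s ^ 2 * f w8 + (-1) * p3 * s * v2 * f v8 + (-1) * s * v2 ^ 2 * v4 * f v8 + (-1) * s ^ 2 * v2 ^ 2 * f v8 + (-1) * s ^ 2 * f v4) * h2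

include hf2 in
theorem cj4w (s p1 v2 w2 p3 v4 w4 p5 v6 w6 p7 v8 w8 : K) :
    tY4 f 0 s * tw8 f p1 v2 w2 p3 v4 w4 p5 v6 w6 p7 v8 w8 =
      tw8 f (p1) (v2) (w2) (p3) (v4) (w4) (p5) (v6) (w6) (p7) (v8) (w8) * tY4 f 0 s := by
  have h2 := two_eq_zero' (K := K)
  apply eq_of_mul_fw24
  simp only [tw8, tY1, tY2, tY3, tY4, tY5, tY6, tY7, tY8, mul_assoc]
  conv_lhs => rw [fl30_24, fl28_24, fl25_24, fl27_24, fl32_24, fl37_24, fl46_24, fl40_24, fl31_24, fl35_24, fl45_24, fl39_24, fl47_24, fl44_24, fl41_24, fl29_24, fl43_24, fl38_24, fl42_24, fl36_24, fl26_24, fl34_24, fl24_24, fl33_24, fl47_24, fl44_24, fl41_24, fl29_24]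
  conv_rhs => rw [fl47_24, fl44_24, fl41_24, fl29_24, fl30_24, fl28_24, fl25_24, fl27_24, fl32_24, fl37_24, fl46_24, fl40_24, fl31_24, fl35_24, fl45_24, fl39_24, fl47_24, fl44_24, fl41_24, fl29_24, fl43_24, fl38_24, fl42_24, fl36_24, fl26_24, fl34_24, fl24_24, fl33_24]
  apply fw24_congr
  · (try simp only [map_add, map_mul, map_zero, map_pow, hf2]) <;>
      linear_combination (0) * h2
  · (try simp only [map_add, map_mul, map_zero, map_pow, hf2]) <;>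
      linear_combination (0) * h2
  · (try simp only [map_add, map_mul, map_zero, map_pow, hf2]) <;>
      linear_combination (0) * h2
  · (try simp only [map_add, map_mul, map_zero, map_pow, hf2]) <;>
      linear_combination (0) * h2
  · (try simp only [map_add, map_mul, map_zero, map_pow, hf2]) <;>
      linear_combination (0) * h2
  · (try simp only [map_add, map_mul, map_zero, map_pow, hf2]) <;>
      linear_combination (0) * h2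
  · (try simp only [map_add, map_mul, map_zero, map_pow, hf2]) <;>
      linear_combination (0) * h2
  · (try simp only [map_add, map_mul, map_zero, map_pow, hf2]) <;>
      linear_combination (0) * h2
  · (try simp only [map_add, map_mul, map_zero, map_pow, hf2]) <;>
      linear_combination (0) * h2
  · (try simp only [map_add, map_mul, map_zero, map_pow, hf2]) <;>
      linear_combination (0) * h2
  · (try simp only [map_add, map_mul, map_zero, map_pow, hf2]) <;>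
      linear_combination (0) * h2
  · (try simp only [map_add, map_mul, map_zero, map_pow, hf2]) <;>
      linear_combination (0) * h2
  · (try simp only [map_add, map_mul, map_zero, map_pow, hf2]) <;>
      linear_combination (0) * h2
  · (try simp only [map_add, map_mul, map_zero, map_pow, hf2]) <;>
      linear_combination (0) * h2
  · (try simp only [map_add, map_mul, map_zero, map_pow, hf2]) <;>
      linear_combination (0) * h2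
  · (try simp only [map_add, map_mul, map_zero, map_pow, hf2]) <;>
      linear_combination (0) * h2
  · (try simp only [map_add, map_mul, map_zero, map_pow, hf2]) <;>
      linear_combination (0) * h2
  · (try simp only [map_add, map_mul, map_zero, map_pow, hf2]) <;>
      linear_combination (0) * h2
  · (try simp only [map_add, map_mul, map_zero, map_pow, hf2]) <;>
      linear_combination (0) * h2
  · (try simp only [map_add, map_mul, map_zero, map_pow, hf2]) <;>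
      linear_combination (0) * h2
  · (try simp only [map_add, map_mul, map_zero, map_pow, hf2]) <;>
      linear_combination (0) * h2
  · (try simp only [map_add, map_mul, map_zero, map_pow, hf2]) <;>
      linear_combination (0) * h2
  · (try simp only [map_add, map_mul, map_zero, map_pow, hf2]) <;>
      linear_combination (0) * h2
  · (try simp only [map_add, map_mul, map_zero, map_pow, hf2]) <;>
      linear_combination (0) * h2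

include hf2 in
theorem cj5 (s p1 v2 w2 p3 v4 w4 p5 v6 w6 p7 v8 w8 : K) :
    tY5 f s * tw8 f p1 v2 w2 p3 v4 w4 p5 v6 w6 p7 v8 w8 =
      tw8 f (p1) (v2) (w2) (p3) (v4) (s * v2 + w4) (p5) (v6) (s * v8 + w6) (p7) (v8) (w8) * tY5 f s := by
  have h2 := two_eq_zero' (K := K)
  apply eq_of_mul_fw24
  simp only [tw8, tY1, tY2, tY3, tY4, tY5, tY6, tY7, tY8, mul_assoc]
  conv_lhs => rw [fl30_24, fl28_24, fl25_24, fl27_24, fl32_24, fl37_24, fl46_24, fl40_24, fl31_24, fl35_24, fl45_24, fl39_24, fl47_24, fl44_24, fl41_24, fl29_24, fl43_24, fl38_24, fl42_24, fl36_24, fl26_24, fl34_24, fl24_24, fl33_24, fl45_24, fl39_24]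
  conv_rhs => rw [fl45_24, fl39_24, fl30_24, fl28_24, fl25_24, fl27_24, fl32_24, fl37_24, fl46_24, fl40_24, fl31_24, fl35_24, fl45_24, fl39_24, fl47_24, fl44_24, fl41_24, fl29_24, fl43_24, fl38_24, fl42_24, fl36_24, fl26_24, fl34_24, fl24_24, fl33_24]
  apply fw24_congr
  · (try simp only [map_add, map_mul, map_zero, map_pow, hf2]) <;>
      linear_combination (0) * h2
  · (try simp only [map_add, map_mul, map_zero, map_pow, hf2]) <;>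
      linear_combination (0) * h2
  · (try simp only [map_add, map_mul, map_zero, map_pow, hf2]) <;>
      linear_combination (0) * h2
  · (try simp only [map_add, map_mul, map_zero, map_pow, hf2]) <;>
      linear_combination (0) * h2
  · (try simp only [map_add, map_mul, map_zero, map_pow, hf2]) <;>
      linear_combination (0) * h2
  · (try simp only [map_add, map_mul, map_zero, map_pow, hf2]) <;>
      linear_combination (0) * h2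
  · (try simp only [map_add, map_mul, map_zero, map_pow, hf2]) <;>
      linear_combination (0) * h2
  · (try simp only [map_add, map_mul, map_zero, map_pow, hf2]) <;>
      linear_combination (0) * h2
  · (try simp only [map_add, map_mul, map_zero, map_pow, hf2]) <;>
      linear_combination (0) * h2
  · (try simp only [map_add, map_mul, map_zero, map_pow, hf2]) <;>
      linear_combination (0) * h2
  · (try simp only [map_add, map_mul, map_zero, map_pow, hf2]) <;>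
      linear_combination (0) * h2
  · (try simp only [map_add, map_mul, map_zero, map_pow, hf2]) <;>
      linear_combination (0) * h2
  · (try simp only [map_add, map_mul, map_zero, map_pow, hf2]) <;>
      linear_combination (0) * h2
  · (try simp only [map_add, map_mul, map_zero, map_pow, hf2]) <;>
      linear_combination (0) * h2
  · (try simp only [map_add, map_mul, map_zero, map_pow, hf2]) <;>
      linear_combination (0) * h2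
  · (try simp only [map_add, map_mul, map_zero, map_pow, hf2]) <;>
      linear_combination (0) * h2
  · (try simp only [map_add, map_mul, map_zero, map_pow, hf2]) <;>
      linear_combination (0) * h2
  · (try simp only [map_add, map_mul, map_zero, map_pow, hf2]) <;>
      linear_combination (0) * h2
  · (try simp only [map_add, map_mul, map_zero, map_pow, hf2]) <;>
      linear_combination (0) * h2
  · (try simp only [map_add, map_mul, map_zero, map_pow, hf2]) <;>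
      linear_combination (0) * h2
  · (try simp only [map_add, map_mul, map_zero, map_pow, hf2]) <;>
      linear_combination (p1 * s * v8) * h2
  · (try simp only [map_add, map_mul, map_zero, map_pow, hf2]) <;>
      linear_combination (0) * h2
  · (try simp only [map_add, map_mul, map_zero, map_pow, hf2]) <;>
      linear_combination (0) * h2
  · (try simp only [map_add, map_mul, map_zero, map_pow, hf2]) <;>
      linear_combination (0) * h2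

include hf2 in
theorem cj6v (s p1 v2 w2 p3 v4 w4 p5 v6 w6 p7 v8 w8 : K) :
    tY6 f s 0 * tw8 f p1 v2 w2 p3 v4 w4 p5 v6 w6 p7 v8 w8 =
      tw8 f (p1) (v2) (f p1 * s + w2) (p1 * f s + p3) (v4) (p3 * s + w4) (p5 + s * v4) (v6) (s * f v6 + f s * v6 + w6) (p7 + s * v8) (v8) (w8) * tY6 f s 0 := by
  have h2 := two_eq_zero' (K := K)
  apply eq_of_mul_fw24
  simp only [tw8, tY1, tY2, tY3, tY4, tY5, tY6, tY7, tY8, mul_assoc]
  conv_lhs => rw [fl30_24, fl28_24, fl25_24, fl27_24, fl32_24, fl37_24, fl46_24, fl40_24, fl31_24, fl35_24, fl45_24, fl39_24, fl47_24, fl44_24, fl41_24, fl29_24, fl43_24, fl38_24, fl42_24, fl36_24, fl26_24, fl34_24, fl24_24, fl33_24, fl46_24, fl40_24, fl31_24, fl35_24]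
  conv_rhs => rw [fl46_24, fl40_24, fl31_24, fl35_24, fl30_24, fl28_24, fl25_24, fl27_24, fl32_24, fl37_24, fl46_24, fl40_24, fl31_24, fl35_24, fl45_24, fl39_24, fl47_24, fl44_24, fl41_24, fl29_24, fl43_24, fl38_24, fl42_24, fl36_24, fl26_24, fl34_24, fl24_24, fl33_24]
  apply fw24_congr
  · (try simp only [map_add, map_mul, map_zero, map_pow, hf2]) <;>
      linear_combination (0) * h2
  · (try simp only [map_add, map_mul, map_zero, map_pow, hf2]) <;>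
      linear_combination (0) * h2
  · (try simp only [map_add, map_mul, map_zero, map_pow, hf2]) <;>
      linear_combination (0) * h2
  · (try simp only [map_add, map_mul, map_zero, map_pow, hf2]) <;>
      linear_combination (0) * h2
  · (try simp only [map_add, map_mul, map_zero, map_pow, hf2]) <;>
      linear_combination (0) * h2
  · (try simp only [map_add, map_mul, map_zero, map_pow, hf2]) <;>
      linear_combination (0) * h2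
  · (try simp only [map_add, map_mul, map_zero, map_pow, hf2]) <;>
      linear_combination (0) * h2
  · (try simp only [map_add, map_mul, map_zero, map_pow, hf2]) <;>
      linear_combination (0) * h2
  · (try simp only [map_add, map_mul, map_zero, map_pow, hf2]) <;>
      linear_combination (0) * h2
  · (try simp only [map_add, map_mul, map_zero, map_pow, hf2]) <;>
      linear_combination (0) * h2
  · (try simp only [map_add, map_mul, map_zero, map_pow, hf2]) <;>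
      linear_combination (0) * h2
  · (try simp only [map_add, map_mul, map_zero, map_pow, hf2]) <;>
      linear_combination (0) * h2
  · (try simp only [map_add, map_mul, map_zero, map_pow, hf2]) <;>
      linear_combination (0) * h2
  · (try simp only [map_add, map_mul, map_zero, map_pow, hf2]) <;>
      linear_combination (0) * h2
  · (try simp only [map_add, map_mul, map_zero, map_pow, hf2]) <;>
      linear_combination ((-1) * p1 * f s) * h2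
  · (try simp only [map_add, map_mul, map_zero, map_pow, hf2]) <;>
      linear_combination ((-1) * p1 * f s * f v8) * h2
  · (try simp only [map_add, map_mul, map_zero, map_pow, hf2]) <;>
      linear_combination ((-3) * p1 * f s * v8 * f v8 + (-1) * p1 * f s * w8 + (-1) * f s * v2 * f v8 + (-1) * f s * v6) * h2
  · (try simp only [map_add, map_mul, map_zero, map_pow, hf2]) <;>
      linear_combination (0) * h2
  · (try simp only [map_add, map_mul, map_zero, map_pow, hf2]) <;>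
      linear_combination ((-1) * p1 ^ 2 * f s) * h2
  · (try simp only [map_add, map_mul, map_zero, map_pow, hf2]) <;>
      linear_combination ((-1) * p1 ^ 2 * f s * f v8) * h2
  · (try simp only [map_add, map_mul, map_zero, map_pow, hf2]) <;>
      linear_combination (p1 * f p1 * s * v8 * w8 + 2 * p1 * f p1 * s * v8 ^ 2 * f v8 + p1 * s * v4 * v8 + (-1) * p1 * f s * v2 * f v8 + (-1) * p1 * f s * v6 + (-3) * p1 ^ 2 * f s * v8 * f v8 + (-1) * p1 ^ 2 * f s * w8 + (-1) * p3 * s) * h2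
  · (try simp only [map_add, map_mul, map_zero, map_pow, hf2]) <;>
      linear_combination ((-2) * p1 ^ 2 * f s * v8 ^ 2 * f v8 + (-1) * p1 ^ 2 * f s * f w8 + (-1) * f s * v2 ^ 2 * f v8 + (-1) * f s * f v4) * h2
  · (try simp only [map_add, map_mul, map_zero, map_pow, hf2]) <;>
      linear_combination ((-4) * p1 ^ 2 * f s * v8 * f v8 * w8 + (-5) * p1 ^ 2 * f s * v8 ^ 2 * (f v8) ^ 2 + (-1) * p1 ^ 2 * f s * f v8 * f w8 + (-1) * p1 ^ 2 * f s * w8 ^ 2 + (-1) * f s * v2 ^ 2 * (f v8) ^ 2 + (-1) * f s * f v4 * f v8 + (-1) * f s * v6 ^ 2) * h2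
  · (try simp only [map_add, map_mul, map_zero, map_pow, hf2]) <;>
      linear_combination ((-1) * p1 * p3 * f s * f v8 + (-1) * p1 ^ 2 * f p7 * f s + (-2) * p1 ^ 2 * f s * f v6 * f v8 + (-2) * p1 ^ 2 * (f s) ^ 2 * f v8 + (-1) * f p1 * s * v2 * f v2 * v8 ^ 2 * f v8 + (-1) * f p1 * s * v2 * f v2 * f w8 + (-1) * f p1 * s * v8 ^ 2 * f v8 * w2 + (-1) * f p1 * s * w2 * f w8 + (-1) * f p3 * f s + (-1) * f s * v2 ^ 2 * f v2 * f v8 + (-1) * f s * f v8 * f w2) * h2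

include hf2 in
theorem cj6w (s p1 v2 w2 p3 v4 w4 p5 v6 w6 p7 v8 w8 : K) :
    tY6 f 0 s * tw8 f p1 v2 w2 p3 v4 w4 p5 v6 w6 p7 v8 w8 =
      tw8 f (p1) (v2) (w2) (p3) (v4) (p1 * s + w4) (p5) (v6) (w6) (p7) (v8) (w8) * tY6 f 0 s := by
  have h2 := two_eq_zero' (K := K)
  apply eq_of_mul_fw24
  simp only [tw8, tY1, tY2, tY3, tY4, tY5, tY6, tY7, tY8, mul_assoc]
  conv_lhs => rw [fl30_24, fl28_24, fl25_24, fl27_24, fl32_24, fl37_24, fl46_24, fl40_24, fl31_24, fl35_24, fl45_24, fl39_24, fl47_24, fl44_24, fl41_24, fl29_24, fl43_24, fl38_24, fl42_24, fl36_24, fl26_24, fl34_24, fl24_24, fl33_24, fl46_24, fl40_24, fl31_24, fl35_24]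
  conv_rhs => rw [fl46_24, fl40_24, fl31_24, fl35_24, fl30_24, fl28_24, fl25_24, fl27_24, fl32_24, fl37_24, fl46_24, fl40_24, fl31_24, fl35_24, fl45_24, fl39_24, fl47_24, fl44_24, fl41_24, fl29_24, fl43_24, fl38_24, fl42_24, fl36_24, fl26_24, fl34_24, fl24_24, fl33_24]
  apply fw24_congr
  · (try simp only [map_add, map_mul, map_zero, map_pow, hf2]) <;>
      linear_combination (0) * h2
  · (try simp only [map_add, map_mul, map_zero, map_pow, hf2]) <;>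
      linear_combination (0) * h2
  · (try simp only [map_add, map_mul, map_zero, map_pow, hf2]) <;>
      linear_combination (0) * h2
  · (try simp only [map_add, map_mul, map_zero, map_pow, hf2]) <;>
      linear_combination (0) * h2
  · (try simp only [map_add, map_mul, map_zero, map_pow, hf2]) <;>
      linear_combination (0) * h2
  · (try simp only [map_add, map_mul, map_zero, map_pow, hf2]) <;>
      linear_combination (0) * h2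
  · (try simp only [map_add, map_mul, map_zero, map_pow, hf2]) <;>
      linear_combination (0) * h2
  · (try simp only [map_add, map_mul, map_zero, map_pow, hf2]) <;>
      linear_combination (0) * h2
  · (try simp only [map_add, map_mul, map_zero, map_pow, hf2]) <;>
      linear_combination (0) * h2
  · (try simp only [map_add, map_mul, map_zero, map_pow, hf2]) <;>
      linear_combination (0) * h2
  · (try simp only [map_add, map_mul, map_zero, map_pow, hf2]) <;>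
      linear_combination (0) * h2
  · (try simp only [map_add, map_mul, map_zero, map_pow, hf2]) <;>
      linear_combination (0) * h2
  · (try simp only [map_add, map_mul, map_zero, map_pow, hf2]) <;>
      linear_combination (0) * h2
  · (try simp only [map_add, map_mul, map_zero, map_pow, hf2]) <;>
      linear_combination (0) * h2
  · (try simp only [map_add, map_mul, map_zero, map_pow, hf2]) <;>
      linear_combination (0) * h2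
  · (try simp only [map_add, map_mul, map_zero, map_pow, hf2]) <;>
      linear_combination (0) * h2
  · (try simp only [map_add, map_mul, map_zero, map_pow, hf2]) <;>
      linear_combination (0) * h2
  · (try simp only [map_add, map_mul, map_zero, map_pow, hf2]) <;>
      linear_combination (0) * h2
  · (try simp only [map_add, map_mul, map_zero, map_pow, hf2]) <;>
      linear_combination (0) * h2
  · (try simp only [map_add, map_mul, map_zero, map_pow, hf2]) <;>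
      linear_combination (0) * h2
  · (try simp only [map_add, map_mul, map_zero, map_pow, hf2]) <;>
      linear_combination (0) * h2
  · (try simp only [map_add, map_mul, map_zero, map_pow, hf2]) <;>
      linear_combination (0) * h2
  · (try simp only [map_add, map_mul, map_zero, map_pow, hf2]) <;>
      linear_combination (0) * h2
  · (try simp only [map_add, map_mul, map_zero, map_pow, hf2]) <;>
      linear_combination (0) * h2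

include hf2 in
theorem cj7 (s p1 v2 w2 p3 v4 w4 p5 v6 w6 p7 v8 w8 : K) :
    tY7 f s * tw8 f p1 v2 w2 p3 v4 w4 p5 v6 w6 p7 v8 w8 =
      tw8 f (p1) (v2) (w2) (f p1 * s + p3) (v4) (p1 * f s * v2 + s * v2 * f v2 + s * w2 + w4) (p1 * f s + p5 + s * f v2) (v6) (s * v4 + f s * v2 + w6) (p7) (v8) (w8) * tY7 f s := by
  have h2 := two_eq_zero' (K := K)
  apply eq_of_mul_fw24
  simp only [tw8, tY1, tY2, tY3, tY4, tY5, tY6, tY7, tY8, mul_assoc]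
  conv_lhs => rw [fl30_24, fl28_24, fl25_24, fl27_24, fl32_24, fl37_24, fl46_24, fl40_24, fl31_24, fl35_24, fl45_24, fl39_24, fl47_24, fl44_24, fl41_24, fl29_24, fl43_24, fl38_24, fl42_24, fl36_24, fl26_24, fl34_24, fl24_24, fl33_24, fl32_24, fl37_24]
  conv_rhs => rw [fl32_24, fl37_24, fl30_24, fl28_24, fl25_24, fl27_24, fl32_24, fl37_24, fl46_24, fl40_24, fl31_24, fl35_24, fl45_24, fl39_24, fl47_24, fl44_24, fl41_24, fl29_24, fl43_24, fl38_24, fl42_24, fl36_24, fl26_24, fl34_24, fl24_24, fl33_24]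
  apply fw24_congr
  · (try simp only [map_add, map_mul, map_zero, map_pow, hf2]) <;>
      linear_combination (0) * h2
  · (try simp only [map_add, map_mul, map_zero, map_pow, hf2]) <;>
      linear_combination (0) * h2
  · (try simp only [map_add, map_mul, map_zero, map_pow, hf2]) <;>
      linear_combination (0) * h2
  · (try simp only [map_add, map_mul, map_zero, map_pow, hf2]) <;>
      linear_combination (0) * h2
  · (try simp only [map_add, map_mul, map_zero, map_pow, hf2]) <;>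
      linear_combination (0) * h2
  · (try simp only [map_add, map_mul, map_zero, map_pow, hf2]) <;>
      linear_combination (0) * h2
  · (try simp only [map_add, map_mul, map_zero, map_pow, hf2]) <;>
      linear_combination (0) * h2
  · (try simp only [map_add, map_mul, map_zero, map_pow, hf2]) <;>
      linear_combination (0) * h2
  · (try simp only [map_add, map_mul, map_zero, map_pow, hf2]) <;>
      linear_combination (0) * h2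
  · (try simp only [map_add, map_mul, map_zero, map_pow, hf2]) <;>
      linear_combination (0) * h2
  · (try simp only [map_add, map_mul, map_zero, map_pow, hf2]) <;>
      linear_combination (0) * h2
  · (try simp only [map_add, map_mul, map_zero, map_pow, hf2]) <;>
      linear_combination (0) * h2
  · (try simp only [map_add, map_mul, map_zero, map_pow, hf2]) <;>
      linear_combination (0) * h2
  · (try simp only [map_add, map_mul, map_zero, map_pow, hf2]) <;>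
      linear_combination (0) * h2
  · (try simp only [map_add, map_mul, map_zero, map_pow, hf2]) <;>
      linear_combination (0) * h2
  · (try simp only [map_add, map_mul, map_zero, map_pow, hf2]) <;>
      linear_combination ((-1) * p1 * f s) * h2
  · (try simp only [map_add, map_mul, map_zero, map_pow, hf2]) <;>
      linear_combination ((-1) * p1 * f s * v8 + (-1) * f s * v2) * h2
  · (try simp only [map_add, map_mul, map_zero, map_pow, hf2]) <;>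
      linear_combination (0) * h2
  · (try simp only [map_add, map_mul, map_zero, map_pow, hf2]) <;>
      linear_combination (0) * h2
  · (try simp only [map_add, map_mul, map_zero, map_pow, hf2]) <;>
      linear_combination ((-1) * p1 ^ 2 * f s) * h2
  · (try simp only [map_add, map_mul, map_zero, map_pow, hf2]) <;>
      linear_combination (3 * p1 * f p1 * s * v8 * f v8 + p1 * f p1 * s * w8 + p1 * s * f v2 * v8 + p1 * s * v4 + (-1) * p1 * f s * v2 + (-1) * p1 ^ 2 * f s * v8 + f p1 * s * v2 * f v8 + s * v2 * f v2) * h2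
  · (try simp only [map_add, map_mul, map_zero, map_pow, hf2]) <;>
      linear_combination ((-1) * p1 ^ 2 * f s * v8 ^ 2 + (-1) * f s * v2 ^ 2) * h2
  · (try simp only [map_add, map_mul, map_zero, map_pow, hf2]) <;>
      linear_combination ((-1) * p1 ^ 2 * f s * v8 ^ 2 * f v8 + (-1) * p1 ^ 2 * f s * f w8 + (-1) * f s * v2 ^ 2 * f v8 + (-1) * f s * f v4) * h2
  · (try simp only [map_add, map_mul, map_zero, map_pow, hf2]) <;>
      linear_combination ((-1) * p1 ^ 2 * f s * f v6 + (-1) * f p1 * p3 * s * f v8 + (-1) * f s * v2 ^ 2 * f v2 + (-1) * f s * f w2) * h2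

include hf2 in
theorem cj8v (s p1 v2 w2 p3 v4 w4 p5 v6 w6 p7 v8 w8 : K) :
    tY8 f s 0 * tw8 f p1 v2 w2 p3 v4 w4 p5 v6 w6 p7 v8 w8 =
      tw8 f (p1) (p1 * s + v2) (p1 * s * f v2 + w2) (p1 * f p1 * s ^ 2 * f s + p3 + s * v2 * f v2 + s * w2) (s * f v2 + v4) (p1 * f p1 * s ^ 2 * (f s) ^ 2 * v2 + p1 * p3 * s * f s + p1 ^ 2 * f p1 * s ^ 3 * (f s) ^ 2 + p3 * f s * v2 + f p3 * s + s * f s * v2 * w2 + s * f s * v2 ^ 2 * f v2 + s * f v2 * f v4 + w4) (p1 * f p1 * s ^ 2 * (f s) ^ 2 + p1 * s * f s * v4 + p3 * f s + p5 + s * f s * w2 + f s * v2 * v4) (p1 * s * f s + f s * v2 + v6) (p1 * f p1 * s ^ 3 * (f s) ^ 2 + p1 * s * f s * f v6 + p1 * s ^ 2 * f s * v4 + f p1 * s ^ 2 * (f s) ^ 2 * v2 + p5 * s + s ^ 2 * f s * w2 + f s * v2 * f v6 + w6) (p1 * s ^ 2 * f s + p7 + s * v6) (v8) (s * f v8 + f s * v8 + w8) * tY8 f s 0 := by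
  have h2 := two_eq_zero' (K := K)
  apply eq_of_mul_fw24
  simp only [tw8, tY1, tY2, tY3, tY4, tY5, tY6, tY7, tY8, mul_assoc]
  conv_lhs => rw [fl30_24, fl28_24, fl25_24, fl27_24, fl32_24, fl37_24, fl46_24, fl40_24, fl31_24, fl35_24, fl45_24, fl39_24, fl47_24, fl44_24, fl41_24, fl29_24, fl43_24, fl38_24, fl42_24, fl36_24, fl26_24, fl34_24, fl24_24, fl33_24, fl30_24, fl28_24, fl25_24, fl27_24]
  conv_rhs => rw [fl30_24, fl28_24, fl25_24, fl27_24, fl30_24, fl28_24, fl25_24, fl27_24, fl32_24, fl37_24, fl46_24, fl40_24, fl31_24, fl35_24, fl45_24, fl39_24, fl47_24, fl44_24, fl41_24, fl29_24, fl43_24, fl38_24, fl42_24, fl36_24, fl26_24, fl34_24, fl24_24, fl33_24]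
  apply fw24_congr
  · (try simp only [map_add, map_mul, map_zero, map_pow, hf2]) <;>
      linear_combination (0) * h2
  · (try simp only [map_add, map_mul, map_zero, map_pow, hf2]) <;>
      linear_combination (0) * h2
  · (try simp only [map_add, map_mul, map_zero, map_pow, hf2]) <;>
      linear_combination (0) * h2
  · (try simp only [map_add, map_mul, map_zero, map_pow, hf2]) <;>
      linear_combination (0) * h2
  · (try simp only [map_add, map_mul, map_zero, map_pow, hf2]) <;>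
      linear_combination ((-1) * f s * v8) * h2
  · (try simp only [map_add, map_mul, map_zero, map_pow, hf2]) <;>
      linear_combination (f p1 * s * f s) * h2
  · (try simp only [map_add, map_mul, map_zero, map_pow, hf2]) <;>
      linear_combination ((-1) * f s * v8 ^ 2) * h2
  · (try simp only [map_add, map_mul, map_zero, map_pow, hf2]) <;>
      linear_combination (0) * h2
  · (try simp only [map_add, map_mul, map_zero, map_pow, hf2]) <;>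
      linear_combination ((-1) * f s * f v6) * h2
  · (try simp only [map_add, map_mul, map_zero, map_pow, hf2]) <;>
      linear_combination (0) * h2
  · (try simp only [map_add, map_mul, map_zero, map_pow, hf2]) <;>
      linear_combination ((-1) * p1 * s) * h2
  · (try simp only [map_add, map_mul, map_zero, map_pow, hf2]) <;>
      linear_combination ((-2) * p1 * s * f s + (-1) * p1 * s * f v8 + (-1) * p1 * f s * v8 + (-1) * f s * v2) * h2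
  · (try simp only [map_add, map_mul, map_zero, map_pow, hf2]) <;>
      linear_combination ((-1) * p1 * f p1 * s * f s + (-2) * p1 * s * f v2 + (-1) * f p1 * f s * v2) * h2
  · (try simp only [map_add, map_mul, map_zero, map_pow, hf2]) <;>
      linear_combination ((-4) * p1 * s * f s * v8 + (-3) * p1 * s * v8 * f v8 + (-1) * p1 * s * w8 + (-4) * p1 * s ^ 2 * f s + (-2) * p1 * s ^ 2 * f v8 + (-2) * p1 * f s * v8 ^ 2 + (-2) * s * f s * v2 + (-1) * s * v2 * f v8 + (-1) * s * v6 + (-2) * f s * v2 * v8) * h2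
  · (try simp only [map_add, map_mul, map_zero, map_pow, hf2]) <;>
      linear_combination ((-1) * p1 * f p1 * s * f s * v8 + (-2) * p1 * f p1 * s ^ 2 * f s + (-2) * p1 * s * f v2 * v8 + (-1) * p1 * s * v4 + (-3) * p1 * s ^ 2 * f v2 + (-1) * f p1 * s * f s * v2 + (-1) * f p1 * f s * v2 * v8 + (-2) * s * v2 * f v2 + (-1) * s * w2) * h2
  · (try simp only [map_add, map_mul, map_zero, map_pow, hf2]) <;>
      linear_combination ((-2) * p1 * f p1 * s * f s * v8 * f v8 + (-1) * p1 * f p1 * s * f s * w8 + (-2) * p1 * f p1 * s * (f s) ^ 2 * v8 + (-2) * p1 * f p1 * s ^ 2 * f s * f v8 + (-4) * p1 * f p1 * s ^ 2 * (f s) ^ 2 + (-4) * p1 * s * f s * f v2 * v8 + (-2) * p1 * s * f s * v4 + (-4) * p1 * s * f v2 * v8 * f v8 + (-2) * p1 * s * f v2 * w8 + (-1) * p1 * s * v4 * f v8 + (-5) * p1 * s ^ 2 * f s * f v2 + (-3) * p1 * s ^ 2 * f v2 * f v8 + (-1) * p1 * f s * v4 * v8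 + (-1) * p1 * f s * f v6 + (-1) * f p1 * s * f s * v2 * f v8 + (-2) * f p1 * s * (f s) ^ 2 * v2 + (-2) * f p1 * f s * v2 * v8 * f v8 + (-1) * f p1 * f s * v2 * w8 + (-2) * f p1 * (f s) ^ 2 * v2 * v8 + (-1) * p3 * f s + (-3) * s * f s * v2 * f v2 + (-2) * s * f s * w2 + (-2) * s * v2 * f v2 * f v8 + (-1) * s * f v8 * w2 + (-2) * f s * v2 * f v2 * v8 + (-1) * f s * v2 * v4 + (-1) * f s * v8 * w2) * h2
  · (try simp only [map_add, map_mul, map_zero, map_pow, hf2]) <;>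
      linear_combination ((-1) * p1 * f p1 * s * f s * v8 * w8 + (-3) * p1 * f p1 * s * f s * v8 ^ 2 * f v8 + (-1) * p1 * f p1 * s * f s * f w8 + (-4) * p1 * f p1 * s * (f s) ^ 2 * v8 ^ 2 + (-6) * p1 * f p1 * s ^ 2 * f s * v8 * f v8 + (-2) * p1 * f p1 * s ^ 2 * f s * w8 + (-8) * p1 * f p1 * s ^ 2 * (f s) ^ 2 * v8 + (-5) * p1 * f p1 * s ^ 3 * f s * f v8 + (-10) * p1 * f p1 * s ^ 3 * (f s) ^ 2 + (-1) * p1 * f p7 * s + (-8) * p1 * s * f s * f v2 * v8 ^ 2 + (-4) * p1 * s * f s * v4 * v8 + (-5) * p1 * s * f s * f v6 + (-2) * p1 * s * f v2 * v8 * w8 + (-6) * p1 * s * f v2 * v8 ^ 2 * f v8 + (-2) * p1 * s * f v2 * f w8 + (-3) * p1 * s * v4 * v8 * f v8 + (-1) * p1 * s * v4 * w8 + (-2) * p1 * s * f v6 * f v8 + (-11) * p1 * s ^ 2 * f s * f v2 * v8 + (-4) * p1 * s ^ 2 * f s * v4 + (-9) * p1 * s ^ 2 * f v2 * v8 * f v8 + (-3) * p1 * s ^ 2 * f v2 * w8 + (-2) * p1 * s ^ 2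 * v4 * f v8 + (-11) * p1 * s ^ 3 * f s * f v2 + (-7) * p1 * s ^ 3 * f v2 * f v8 + (-2) * p1 * f s * v4 * v8 ^ 2 + (-2) * p1 * f s * f v6 * v8 + (-3) * f p1 * s * f s * v2 * v8 * f v8 + (-1) * f p1 * s * f s * v2 * w8 + (-4) * f p1 * s * (f s) ^ 2 * v2 * v8 + (-3) * f p1 * s ^ 2 * f s * v2 * f v8 + (-1) * f p1 * s ^ 2 * f s * v6 + (-6) * f p1 * s ^ 2 * (f s) ^ 2 * v2 + (-1) * f p1 * f s * v2 * v8 * w8 + (-3) * f p1 * f s * v2 * v8 ^ 2 * f v8 + (-1) * f p1 * f s * v2 * f w8 + (-4) * f p1 * (f s) ^ 2 * v2 * v8 ^ 2 + (-2) * p3 * s * f s + (-1) * p3 * s * f v8 + (-2) * p3 * f s * v8 + (-1) * p5 * s + (-7) * s * f s * v2 * f v2 * v8 + (-2) * s * f s * v2 * v4 + (-4) * s * f s * v8 * w2 + (-6) * s * v2 * f v2 * v8 * f v8 + (-2) * s * v2 * f v2 * w8 + (-1) * s * v2 * v4 * f v8 + (-3) * s * v8 * f v8 * w2 + (-1) * s * w2 * w8 + (-8) * s ^ 2 * f s * v2 * f v2 + (-4)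 * s ^ 2 * f s * w2 + (-5) * s ^ 2 * v2 * f v2 * f v8 + (-1) * s ^ 2 * f v2 * v6 + (-2) * s ^ 2 * f v8 * w2 + (-4) * f s * v2 * f v2 * v8 ^ 2 + (-2) * f s * v2 * v4 * v8 + (-3) * f s * v2 * f v6 + (-2) * f s * v8 ^ 2 * w2) * h2
  · (try simp only [map_add, map_mul, map_zero, map_pow, hf2]) <;>
      linear_combination ((-1) * p1 * s * f s * v2 + (-1) * p1 * s * v2 * f v8 + (-1) * p1 ^ 2 * s ^ 2 * f s + (-1) * p1 ^ 2 * s ^ 2 * f v8 + (-1) * p1 ^ 2 * f s * v8 ^ 2 + (-1) * f s * v2 ^ 2) * h2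
  · (try simp only [map_add, map_mul, map_zero, map_pow, hf2]) <;>
      linear_combination ((-1) * p1 * f p1 * s * f s * v2 + (-1) * p1 * s * v2 * f v2 + (-1) * p1 ^ 2 * f p1 * s ^ 2 * f s + (-1) * p1 ^ 2 * s ^ 2 * f v2 + (-1) * f p1 * f s * v2 ^ 2) * h2
  · (try simp only [map_add, map_mul, map_zero, map_pow, hf2]) <;>
      linear_combination ((-1) * p1 * f p1 * s * f s * v2 * f v8 + (-1) * p1 * f p1 * s * (f s) ^ 2 * v2 + (-1) * p1 * s * f s * v2 * f v2 + (-1) * p1 * s * v2 * f v2 * f v8 + (-1) * p1 ^ 2 * f p1 * s ^ 2 * f s * f v8 + (-2) * p1 ^ 2 * f p1 * s ^ 2 * (f s) ^ 2 + (-1) * p1 ^ 2 * s ^ 2 * f s * f v2 + (-1) * p1 ^ 2 * s ^ 2 * f v2 * f v8 + (-1) * p1 ^ 2 * f s * f v6 + (-1) * f p1 * f s * v2 ^ 2 * f v8 + (-1) * f p1 * (f s) ^ 2 * v2 ^ 2 + (-1) * f s * v2 ^ 2 * f v2 + (-1) * f s * f w2) * h2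
  · (try simp only [map_add, map_mul, map_zero, map_pow, hf2]) <;>
      linear_combination ((-12) * p1 * f p1 * s * f s * v2 * v8 * f v8 + (-4) * p1 * f p1 * s * f s * v2 * w8 + (-1) * p1 * f p1 * s * f s * v6 * v8 + (-15) * p1 * f p1 * s * (f s) ^ 2 * v2 * v8 + (-9) * p1 * f p1 * s ^ 2 * f s * v2 * f v8 + (-2) * p1 * f p1 * s ^ 2 * f s * v6 + (-17) * p1 * f p1 * s ^ 2 * (f s) ^ 2 * v2 + (-1) * p1 * f p1 * f s * v2 * v8 * w8 + (-3) * p1 * f p1 * f s * v2 * v8 ^ 2 * f v8 + (-1) * p1 * f p1 * f s * v2 * f w8 + (-4) * p1 * f p1 * (f s) ^ 2 * v2 * v8 ^ 2 + (-1) * p1 * p3 * s * f s + (-19) * p1 * s * f s * v2 * f v2 * v8 + (-5) * p1 * s * f s * v2 * v4 + (-4) * p1 * s * f s * v8 * w2 + (-15) * p1 * s * v2 * f v2 * v8 * f v8 + (-5) * p1 * s * v2 * f v2 * w8 + (-3) * p1 * s * v2 * v4 * f v8 + (-2) * p1 * s * f v2 * v6 * v8 + (-1) * p1 * s * v4 * v6 + (-3) * p1 *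 s * v8 * f v8 * w2 + (-1) * p1 * s * w2 * w8 + (-23) * p1 * s ^ 2 * f s * v2 * f v2 + (-4) * p1 * s ^ 2 * f s * w2 + (-13) * p1 * s ^ 2 * v2 * f v2 * f v8 + (-3) * p1 * s ^ 2 * f v2 * v6 + (-2) * p1 * s ^ 2 * f v8 * w2 + (-4) * p1 * f s * v2 * f v2 * v8 ^ 2 + (-2) * p1 * f s * v2 * v4 * v8 + (-2) * p1 * f s * v2 * f v6 + (-2) * p1 * f s * v8 ^ 2 * w2 + (-1) * p1 ^ 2 * f p1 * s * f s * v8 * w8 + (-3) * p1 ^ 2 * f p1 * s * f s * v8 ^ 2 * f v8 + (-1) * p1 ^ 2 * f p1 * s * f s * f w8 + (-4) * p1 ^ 2 * f p1 * s * (f s) ^ 2 * v8 ^ 2 + (-9) * p1 ^ 2 * f p1 * s ^ 2 * f s * v8 * f v8 + (-3) * p1 ^ 2 * f p1 * s ^ 2 * f s * w8 + (-12) * p1 ^ 2 * f p1 * s ^ 2 * (f s) ^ 2 * v8 + (-7) * p1 ^ 2 * f p1 * s ^ 3 * f s * f v8 + (-14) * p1 ^ 2 * f p1 * s ^ 3 * (f s) ^ 2 + (-1) * p1 ^ 2 * f p7 * s + (-8) * p1 ^ 2 * s * f s * f v2 * v8 ^ 2 + (-4) * p1 ^ 2 * s * f s * v4 * v8 +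 (-4) * p1 ^ 2 * s * f s * f v6 + (-2) * p1 ^ 2 * s * f v2 * v8 * w8 + (-6) * p1 ^ 2 * s * f v2 * v8 ^ 2 * f v8 + (-2) * p1 ^ 2 * s * f v2 * f w8 + (-3) * p1 ^ 2 * s * v4 * v8 * f v8 + (-1) * p1 ^ 2 * s * v4 * w8 + (-2) * p1 ^ 2 * s * f v6 * f v8 + (-19) * p1 ^ 2 * s ^ 2 * f s * f v2 * v8 + (-5) * p1 ^ 2 * s ^ 2 * f s * v4 + (-15) * p1 ^ 2 * s ^ 2 * f v2 * v8 * f v8 + (-5) * p1 ^ 2 * s ^ 2 * f v2 * w8 + (-3) * p1 ^ 2 * s ^ 2 * v4 * f v8 + (-20) * p1 ^ 2 * s ^ 3 * f s * f v2 + (-12) * p1 ^ 2 * s ^ 3 * f v2 * f v8 + (-2) * p1 ^ 2 * f s * v4 * v8 ^ 2 + (-2) * p1 ^ 2 * f s * f v6 * v8 + (-1) * f p1 * s * f s * v2 * v6 + (-4) * f p1 * s * f s * v2 ^ 2 * f v8 + (-7) * f p1 * s * (f s) ^ 2 * v2 ^ 2 + (-1) * f p1 * f s * v2 * v6 * v8 + (-6) * f p1 * f s * v2 ^ 2 * v8 * f v8 + (-2) * f p1 * f s * v2 ^ 2 * w8 + (-7) * f p1 * (f s) ^ 2 * v2 ^ 2 * v8 + (-1) * p3 * f s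 * v2 + (-1) * f p3 * s + (-3) * s * f s * v2 * w2 + (-9) * s * f s * v2 ^ 2 * f v2 + (-2) * s * f s * f w2 + (-2) * s * v2 * f v2 * v6 + (-1) * s * v2 * f v8 * w2 + (-4) * s * v2 ^ 2 * f v2 * f v8 + (-1) * s * f v2 * f v4 + (-1) * s * v6 * w2 + (-1) * s * f v8 * f w2 + (-2) * f s * v2 * v8 * w2 + (-6) * f s * v2 ^ 2 * f v2 * v8 + (-2) * f s * v2 ^ 2 * v4 + (-2) * f s * v8 * f w2) * h2
  · (try simp only [map_add, map_mul, map_zero, map_pow, hf2]) <;>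
      linear_combination ((-2) * p1 * f p1 * s * f s * v2 * v8 ^ 2 * f v8 + (-1) * p1 * f p1 * s * f s * v2 * f w8 + (-3) * p1 * f p1 * s * (f s) ^ 2 * v2 * v8 ^ 2 + (-2) * p1 * f p1 * s ^ 2 * f s * v2 * v8 * f v8 + (-2) * p1 * f p1 * s ^ 2 * (f s) ^ 2 * v2 * v8 + (-4) * p1 * f p1 * s ^ 3 * f s * v2 * f v8 + (-5) * p1 * f p1 * s ^ 3 * (f s) ^ 2 * v2 + (-1) * p1 * f p7 * s * v2 + (-3) * p1 * s * f s * v2 * f v2 * v8 ^ 2 + (-3) * p1 * s * f s * v2 * f v6 + (-2) * p1 * s * v2 * f v2 * v8 ^ 2 * f v8 + (-1) * p1 * s * v2 * f v2 * f w8 + (-2) * p1 * s * v2 * f v6 * f v8 + (-2) * p1 * s ^ 2 * f s * v2 * f v2 * v8 + (-2) * p1 * s ^ 2 * v2 * f v2 * v8 * f v8 + (-4) * p1 * s ^ 3 * f s * v2 * f v2 + (-4) * p1 * s ^ 3 * v2 * f v2 * f v8 + (-2) * p1 ^ 2 * f p1 * s ^ 2 * f s * v8 ^ 2 * f v8 + (-1) * p1 ^ 2 * f p1 * s ^ 2 * f s * f w8 + (-4) * p1 ^ 2 * f p1 * s ^ 2 * (f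 s) ^ 2 * v8 ^ 2 + (-2) * p1 ^ 2 * f p1 * s ^ 3 * f s * v8 * f v8 + (-4) * p1 ^ 2 * f p1 * s ^ 3 * (f s) ^ 2 * v8 + (-3) * p1 ^ 2 * f p1 * s ^ 4 * f s * f v8 + (-5) * p1 ^ 2 * f p1 * s ^ 4 * (f s) ^ 2 + (-1) * p1 ^ 2 * f p7 * s * v8 + (-1) * p1 ^ 2 * f p7 * s ^ 2 + (-2) * p1 ^ 2 * s * f s * f v6 * v8 + (-1) * p1 ^ 2 * s * f v6 * v8 * f v8 + (-3) * p1 ^ 2 * s ^ 2 * f s * f v2 * v8 ^ 2 + (-3) * p1 ^ 2 * s ^ 2 * f s * f v6 + (-2) * p1 ^ 2 * s ^ 2 * f v2 * v8 ^ 2 * f v8 + (-1) * p1 ^ 2 * s ^ 2 * f v2 * f w8 + (-2) * p1 ^ 2 * s ^ 2 * f v6 * f v8 + (-2) * p1 ^ 2 * s ^ 3 * f s * f v2 * v8 + (-2) * p1 ^ 2 * s ^ 3 * f v2 * v8 * f v8 + (-3) * p1 ^ 2 * s ^ 4 * f s * f v2 + (-3) * p1 ^ 2 * s ^ 4 * f v2 * f v8 + (-2) * p1 ^ 2 * f s * f v6 * v8 ^ 2 + (-2) * f p1 * s * f s * v2 ^ 2 * v8 * f v8 + (-2) * f p1 * s * (f s) ^ 2 * v2 ^ 2 * v8 + (-3) * f p1 * s ^ 2 * f s * v2 ^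 2 * f v8 + (-1) * f p1 * s ^ 2 * f s * f v4 + (-4) * f p1 * s ^ 2 * (f s) ^ 2 * v2 ^ 2 + (-2) * f p1 * f s * v2 ^ 2 * v8 ^ 2 * f v8 + (-1) * f p1 * f s * v2 ^ 2 * f w8 + (-3) * f p1 * (f s) ^ 2 * v2 ^ 2 * v8 ^ 2 + (-1) * f p3 * s * v8 + (-1) * f p3 * s ^ 2 + (-2) * s * f s * v2 ^ 2 * f v2 * v8 + (-2) * s * f s * v8 * f w2 + (-1) * s * v2 ^ 2 * f v2 * v8 * f v8 + (-1) * s * v8 * f v8 * f w2 + (-3) * s ^ 2 * f s * v2 ^ 2 * f v2 + (-2) * s ^ 2 * f s * f w2 + (-2) * s ^ 2 * v2 ^ 2 * f v2 * f v8 + (-1) * s ^ 2 * f v2 * f v4 + (-1) * s ^ 2 * f v8 * f w2 + (-2) * f s * v2 ^ 2 * f v2 * v8 ^ 2 + (-2) * f s * v2 ^ 2 * f v6 + (-2) * f s * v8 ^ 2 * f w2) * h2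
  · (try simp only [map_add, map_mul, map_zero, map_pow, hf2]) <;>
      linear_combination ((-4) * p1 * f p1 * s * f s * v2 * v8 * f v8 * w8 + (-5) * p1 * f p1 * s * f s * v2 * v8 ^ 2 * (f v8) ^ 2 + (-1) * p1 * f p1 * s * f s * v2 * f v8 * f w8 + (-1) * p1 * f p1 * s * f s * v2 * w8 ^ 2 + (-4) * p1 * f p1 * s * (f s) ^ 2 * v2 * v8 * w8 + (-11) * p1 * f p1 * s * (f s) ^ 2 * v2 * v8 ^ 2 * f v8 + (-1) * p1 * f p1 * s * (f s) ^ 2 * v2 * f w8 + (-6) * p1 * f p1 * s * (f s) ^ 3 * v2 * v8 ^ 2 + (-4) * p1 * f p1 * s ^ 2 * f s * v2 * v8 * (f v8) ^ 2 + (-2) * p1 * f p1 * s ^ 2 * f s * v2 * f v8 * w8 + (-12) * p1 * f p1 * s ^ 2 * (f s) ^ 2 * v2 * v8 * f v8 + (-4) * p1 * f p1 * s ^ 2 * (f s) ^ 2 * v2 * w8 + (-8) * p1 * f p1 * s ^ 2 * (f s) ^ 3 * v2 * v8 + (-4) * p1 * f p1 * s ^ 3 * f s * v2 * (f v8) ^ 2 + (-11) * p1 * f p1 * s ^ 3 * (f s) ^ 2 * v2 * f v8 + (-1) * p1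 * f p1 * s ^ 3 * (f s) ^ 2 * v6 + (-9) * p1 * f p1 * s ^ 3 * (f s) ^ 3 * v2 + (-1) * p1 * f p7 * s * f s * v2 + (-1) * p1 * f p7 * s * v2 * f v8 + (-4) * p1 * s * f s * v2 * f v2 * v8 * w8 + (-11) * p1 * s * f s * v2 * f v2 * v8 ^ 2 * f v8 + (-1) * p1 * s * f s * v2 * f v2 * f w8 + (-5) * p1 * s * f s * v2 * f v6 * f v8 + (-1) * p1 * s * f s * v6 * f v6 + (-6) * p1 * s * (f s) ^ 2 * v2 * f v2 * v8 ^ 2 + (-4) * p1 * s * (f s) ^ 2 * v2 * f v6 + (-4) * p1 * s * v2 * f v2 * v8 * f v8 * w8 + (-5) * p1 * s * v2 * f v2 * v8 ^ 2 * (f v8) ^ 2 + (-1) * p1 * s * v2 * f v2 * f v8 * f w8 + (-1) * p1 * s * v2 * f v2 * w8 ^ 2 + (-2) * p1 * s * v2 * f v6 * (f v8) ^ 2 + (-12) * p1 * s ^ 2 * f s * v2 * f v2 * v8 * f v8 + (-4) * p1 * s ^ 2 * f s * v2 * f v2 * w8 + (-8) * p1 * s ^ 2 * (f s) ^ 2 * v2 * f v2 * v8 + (-4) * p1 * s ^ 2 * v2 * f v2 * v8 * (f v8) ^ 2 + (-2) * p1 * s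 ^ 2 * v2 * f v2 * f v8 * w8 + (-10) * p1 * s ^ 3 * f s * v2 * f v2 * f v8 + (-1) * p1 * s ^ 3 * f s * f v2 * v6 + (-8) * p1 * s ^ 3 * (f s) ^ 2 * v2 * f v2 + (-4) * p1 * s ^ 3 * v2 * f v2 * (f v8) ^ 2 + (-4) * p1 ^ 2 * f p1 * s ^ 2 * f s * v8 * f v8 * w8 + (-5) * p1 ^ 2 * f p1 * s ^ 2 * f s * v8 ^ 2 * (f v8) ^ 2 + (-1) * p1 ^ 2 * f p1 * s ^ 2 * f s * f v8 * f w8 + (-1) * p1 ^ 2 * f p1 * s ^ 2 * f s * w8 ^ 2 + (-4) * p1 ^ 2 * f p1 * s ^ 2 * (f s) ^ 2 * v8 * w8 + (-12) * p1 ^ 2 * f p1 * s ^ 2 * (f s) ^ 2 * v8 ^ 2 * f v8 + (-2) * p1 ^ 2 * f p1 * s ^ 2 * (f s) ^ 2 * f w8 + (-8) * p1 ^ 2 * f p1 * s ^ 2 * (f s) ^ 3 * v8 ^ 2 + (-4) * p1 ^ 2 * f p1 * s ^ 3 * f s * v8 * (f v8) ^ 2 + (-2) * p1 ^ 2 * f p1 * s ^ 3 * f s * f v8 * w8 + (-12) * p1 ^ 2 * f p1 * s ^ 3 * (f s) ^ 2 * v8 * f v8 + (-4) * p1 ^ 2 * f p1 * s ^ 3 * (f s) ^ 2 * w8 + (-8) * p1 ^ 2 * f p1 * s ^ 3 * (f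 s) ^ 3 * v8 + (-3) * p1 ^ 2 * f p1 * s ^ 4 * f s * (f v8) ^ 2 + (-10) * p1 ^ 2 * f p1 * s ^ 4 * (f s) ^ 2 * f v8 + (-9) * p1 ^ 2 * f p1 * s ^ 4 * (f s) ^ 3 + (-1) * p1 ^ 2 * f p7 * s ^ 2 * f s + (-1) * p1 ^ 2 * f p7 * s ^ 2 * f v8 + (-1) * p1 ^ 2 * f p7 * f s * v8 ^ 2 + (-6) * p1 ^ 2 * s * f s * f v6 * v8 * f v8 + (-2) * p1 ^ 2 * s * f s * f v6 * w8 + (-4) * p1 ^ 2 * s * (f s) ^ 2 * f v6 * v8 + (-2) * p1 ^ 2 * s * f v6 * v8 * (f v8) ^ 2 + (-1) * p1 ^ 2 * s * f v6 * f v8 * w8 + (-4) * p1 ^ 2 * s ^ 2 * f s * f v2 * v8 * w8 + (-11) * p1 ^ 2 * s ^ 2 * f s * f v2 * v8 ^ 2 * f v8 + (-1) * p1 ^ 2 * s ^ 2 * f s * f v2 * f w8 + (-6) * p1 ^ 2 * s ^ 2 * f s * f v6 * f v8 + (-6) * p1 ^ 2 * s ^ 2 * (f s) ^ 2 * f v2 * v8 ^ 2 + (-5) * p1 ^ 2 * s ^ 2 * (f s) ^ 2 * f v6 + (-4) * p1 ^ 2 * s ^ 2 * f v2 * v8 * f v8 * w8 + (-5) * p1 ^ 2 * s ^ 2 * f v2 * v8 ^ 2 * (f v8) ^ 2 + (-1)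 * p1 ^ 2 * s ^ 2 * f v2 * f v8 * f w8 + (-1) * p1 ^ 2 * s ^ 2 * f v2 * w8 ^ 2 + (-2) * p1 ^ 2 * s ^ 2 * f v6 * (f v8) ^ 2 + (-12) * p1 ^ 2 * s ^ 3 * f s * f v2 * v8 * f v8 + (-4) * p1 ^ 2 * s ^ 3 * f s * f v2 * w8 + (-8) * p1 ^ 2 * s ^ 3 * (f s) ^ 2 * f v2 * v8 + (-4) * p1 ^ 2 * s ^ 3 * f v2 * v8 * (f v8) ^ 2 + (-2) * p1 ^ 2 * s ^ 3 * f v2 * f v8 * w8 + (-8) * p1 ^ 2 * s ^ 4 * f s * f v2 * f v8 + (-7) * p1 ^ 2 * s ^ 4 * (f s) ^ 2 * f v2 + (-3) * p1 ^ 2 * s ^ 4 * f v2 * (f v8) ^ 2 + (-2) * p1 ^ 2 * f s * f v6 * v8 * w8 + (-6) * p1 ^ 2 * f s * f v6 * v8 ^ 2 * f v8 + (-1) * p1 ^ 2 * f s * f v6 * f w8 + (-4) * p1 ^ 2 * (f s) ^ 2 * f v6 * v8 ^ 2 + (-4) * f p1 * s * f s * v2 ^ 2 * v8 * (f v8) ^ 2 + (-2) * f p1 * s * f s * v2 ^ 2 * f v8 * w8 + (-12) * f p1 * s * (f s) ^ 2 * v2 ^ 2 * v8 * f v8 + (-4) * f p1 * s * (f s) ^ 2 * v2 ^ 2 * w8 + (-8) * f p1 * s * (f s) ^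 3 * v2 ^ 2 * v8 + (-3) * f p1 * s ^ 2 * f s * v2 ^ 2 * (f v8) ^ 2 + (-1) * f p1 * s ^ 2 * f s * f v4 * f v8 + (-1) * f p1 * s ^ 2 * f s * v6 ^ 2 + (-1) * f p1 * s ^ 2 * (f s) ^ 2 * v2 * v6 + (-9) * f p1 * s ^ 2 * (f s) ^ 2 * v2 ^ 2 * f v8 + (-2) * f p1 * s ^ 2 * (f s) ^ 2 * f v4 + (-8) * f p1 * s ^ 2 * (f s) ^ 3 * v2 ^ 2 + (-4) * f p1 * f s * v2 ^ 2 * v8 * f v8 * w8 + (-5) * f p1 * f s * v2 ^ 2 * v8 ^ 2 * (f v8) ^ 2 + (-1) * f p1 * f s * v2 ^ 2 * f v8 * f w8 + (-1) * f p1 * f s * v2 ^ 2 * w8 ^ 2 + (-4) * f p1 * (f s) ^ 2 * v2 ^ 2 * v8 * w8 + (-11) * f p1 * (f s) ^ 2 * v2 ^ 2 * v8 ^ 2 * f v8 + (-1) * f p1 * (f s) ^ 2 * v2 ^ 2 * f w8 + (-6) * f p1 * (f s) ^ 3 * v2 ^ 2 * v8 ^ 2 + (-1) * f p3 * s ^ 2 * f s + (-1) * f p3 * s ^ 2 * f v8 + (-1) * f p3 * f s * v8 ^ 2 + (-1) * f p5 * f s + (-1) * f p7 * f s * v2 ^ 2 + (-6) * s * f s * v2 ^ 2 * f v2 * v8 * f v8 + (-2)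 * s * f s * v2 ^ 2 * f v2 * w8 + (-6) * s * f s * v8 * f v8 * f w2 + (-2) * s * f s * f w2 * w8 + (-4) * s * (f s) ^ 2 * v2 ^ 2 * f v2 * v8 + (-4) * s * (f s) ^ 2 * v8 * f w2 + (-2) * s * v2 ^ 2 * f v2 * v8 * (f v8) ^ 2 + (-1) * s * v2 ^ 2 * f v2 * f v8 * w8 + (-2) * s * v8 * (f v8) ^ 2 * f w2 + (-1) * s * f v8 * f w2 * w8 + (-1) * s ^ 2 * f s * v2 * f v2 * v6 + (-6) * s ^ 2 * f s * v2 ^ 2 * f v2 * f v8 + (-1) * s ^ 2 * f s * f v2 * f v4 + (-4) * s ^ 2 * f s * f v8 * f w2 + (-5) * s ^ 2 * (f s) ^ 2 * v2 ^ 2 * f v2 + (-4) * s ^ 2 * (f s) ^ 2 * f w2 + (-2) * s ^ 2 * v2 ^ 2 * f v2 * (f v8) ^ 2 + (-1) * s ^ 2 * f v2 * f v4 * f v8 + (-1) * s ^ 2 * f v2 * v6 ^ 2 + (-1) * s ^ 2 * (f v8) ^ 2 * f w2 + (-1) * f s * v2 * v6 * f v6 + (-2) * f s * v2 ^ 2 * f v2 * v8 * w8 + (-6) * f s * v2 ^ 2 * f v2 * v8 ^ 2 * f v8 + (-1) * f s * v2 ^ 2 * f v2 * f w8 + (-3) * f s * v2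 ^ 2 * f v6 * f v8 + (-1) * f s * f v4 * f v6 + (-2) * f s * v8 * f w2 * w8 + (-6) * f s * v8 ^ 2 * f v8 * f w2 + (-1) * f s * f w2 * f w8 + (-4) * (f s) ^ 2 * v2 ^ 2 * f v2 * v8 ^ 2 + (-3) * (f s) ^ 2 * v2 ^ 2 * f v6 + (-4) * (f s) ^ 2 * v8 ^ 2 * f w2) * h2
  · (try simp only [map_add, map_mul, map_zero, map_pow, hf2]) <;>
      linear_combination ((-1) * p1 * f p1 * p3 * s ^ 2 * f s * f v8 + (-1) * p1 * f p1 * p3 * s ^ 2 * (f s) ^ 2 + (-1) * p1 * f p1 * f p7 * s * f s * v2 + (-5) * p1 * f p1 * s * f s * v2 * f v2 * v8 ^ 2 * f v8 + (-5) * p1 * f p1 * s * f s * v2 * f v2 * f w8 + (-2) * p1 * f p1 * s * f s * v2 * f v6 * f v8 + (-1) * p1 * f p1 * s * f s * v8 ^ 2 * f v8 * w2 + (-1) * p1 * f p1 * s * f s * w2 * f w8 + (-10) * p1 * f p1 * s * (f s) ^ 2 * v2 * f v2 * v8 ^ 2 + (-3) * p1 * f p1 * s * (f s) ^ 2 * v2 * f v6 + (-2) * p1 * f p1 * s * (f s) ^ 2 * v8 ^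 2 * w2 + (-10) * p1 * f p1 * s ^ 3 * f s * v2 * f v2 * f v8 + (-2) * p1 * f p1 * s ^ 3 * f s * f v8 * w2 + (-11) * p1 * f p1 * s ^ 3 * (f s) ^ 2 * v2 * f v2 + (-2) * p1 * f p1 * s ^ 3 * (f s) ^ 2 * w2 + (-2) * p1 * (f p1) ^ 2 * s * (f s) ^ 2 * v2 * v8 ^ 2 * f v8 + (-2) * p1 * (f p1) ^ 2 * s * (f s) ^ 2 * v2 * f w8 + (-4) * p1 * (f p1) ^ 2 * s * (f s) ^ 3 * v2 * v8 ^ 2 + (-4) * p1 * (f p1) ^ 2 * s ^ 3 * (f s) ^ 2 * v2 * f v8 + (-5) * p1 * (f p1) ^ 2 * s ^ 3 * (f s) ^ 3 * v2 + (-1) * p1 * f p7 * s * v2 * f v2 + (-3) * p1 * s * f s * v2 * f v2 * f v6 + (-6) * p1 * s * f s * v2 * (f v2) ^ 2 * v8 ^ 2 + (-1) * p1 * s * f s * v2 * v4 ^ 2 + (-4) * p1 * s * f s * f v2 * v8 ^ 2 * w2 + (-2) * p1 * s * v2 * f v2 * f v6 * f v8 + (-3) * p1 * s * v2 * (f v2) ^ 2 * v8 ^ 2 * f v8 + (-3) * p1 * s * v2 * (f v2) ^ 2 * f w8 + (-1) * p1 * s * v2 * v4 ^ 2 * f v8 + (-2) * p1 * s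 * f v2 * v8 ^ 2 * f v8 * w2 + (-2) * p1 * s * f v2 * w2 * f w8 + (-2) * p1 * s ^ 2 * f s * v2 * f v2 * v4 + (-2) * p1 * s ^ 2 * v2 * f v2 * v4 * f v8 + (-6) * p1 * s ^ 3 * f s * v2 * (f v2) ^ 2 + (-2) * p1 * s ^ 3 * f s * f v2 * w2 + (-6) * p1 * s ^ 3 * v2 * (f v2) ^ 2 * f v8 + (-2) * p1 * s ^ 3 * f v2 * f v8 * w2 + (-1) * p1 ^ 2 * f p1 * f p7 * s ^ 2 * f s + (-3) * p1 ^ 2 * f p1 * s ^ 2 * f s * f v2 * v8 ^ 2 * f v8 + (-3) * p1 ^ 2 * f p1 * s ^ 2 * f s * f v2 * f w8 + (-2) * p1 ^ 2 * f p1 * s ^ 2 * f s * f v6 * f v8 + (-6) * p1 ^ 2 * f p1 * s ^ 2 * (f s) ^ 2 * f v2 * v8 ^ 2 + (-4) * p1 ^ 2 * f p1 * s ^ 2 * (f s) ^ 2 * f v6 + (-6) * p1 ^ 2 * f p1 * s ^ 4 * f s * f v2 * f v8 + (-8) * p1 ^ 2 * f p1 * s ^ 4 * (f s) ^ 2 * f v2 + (-1) * p1 ^ 2 * (f p1) ^ 2 * s ^ 2 * (f s) ^ 2 * v8 ^ 2 * f v8 + (-1) * p1 ^ 2 * (f p1) ^ 2 * s ^ 2 * (f s) ^ 2 * f w8 + (-2) * p1 ^ 2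 * (f p1) ^ 2 * s ^ 2 * (f s) ^ 3 * v8 ^ 2 + (-3) * p1 ^ 2 * (f p1) ^ 2 * s ^ 4 * (f s) ^ 2 * f v8 + (-5) * p1 ^ 2 * (f p1) ^ 2 * s ^ 4 * (f s) ^ 3 + (-1) * p1 ^ 2 * f p7 * s ^ 2 * f v2 + (-2) * p1 ^ 2 * s * f s * f v2 * v4 * v8 ^ 2 + (-1) * p1 ^ 2 * s * f v2 * v4 * v8 ^ 2 * f v8 + (-1) * p1 ^ 2 * s * f v2 * v4 * f w8 + (-3) * p1 ^ 2 * s ^ 2 * f s * f v2 * f v6 + (-6) * p1 ^ 2 * s ^ 2 * f s * (f v2) ^ 2 * v8 ^ 2 + (-1) * p1 ^ 2 * s ^ 2 * f s * v4 ^ 2 + (-2) * p1 ^ 2 * s ^ 2 * f v2 * f v6 * f v8 + (-3) * p1 ^ 2 * s ^ 2 * (f v2) ^ 2 * v8 ^ 2 * f v8 + (-3) * p1 ^ 2 * s ^ 2 * (f v2) ^ 2 * f w8 + (-1) * p1 ^ 2 * s ^ 2 * v4 ^ 2 * f v8 + (-2) * p1 ^ 2 * s ^ 3 * f s * f v2 * v4 + (-2) * p1 ^ 2 * s ^ 3 * f v2 * v4 * f v8 + (-5) * p1 ^ 2 * s ^ 4 * f s * (f v2) ^ 2 + (-5) * p1 ^ 2 * s ^ 4 * (f v2) ^ 2 * f v8 + (-1) * p1 ^ 2 * f s * v4 ^ 2 * v8 ^ 2 + (-1) * p1 ^ 2 * f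 s * (f v6) ^ 2 + (-1) * f p1 * f p3 * s ^ 2 * f s + (-1) * f p1 * f p7 * f s * v2 ^ 2 + (-1) * f p1 * s ^ 2 * f s * v2 * f v8 * w2 + (-5) * f p1 * s ^ 2 * f s * v2 ^ 2 * f v2 * f v8 + (-1) * f p1 * s ^ 2 * f s * f v8 * f w2 + (-1) * f p1 * s ^ 2 * (f s) ^ 2 * v2 * w2 + (-6) * f p1 * s ^ 2 * (f s) ^ 2 * v2 ^ 2 * f v2 + (-2) * f p1 * s ^ 2 * (f s) ^ 2 * f w2 + (-1) * f p1 * f s * v2 * v8 ^ 2 * f v8 * w2 + (-1) * f p1 * f s * v2 * w2 * f w8 + (-2) * f p1 * f s * v2 ^ 2 * f v2 * v8 ^ 2 * f v8 + (-2) * f p1 * f s * v2 ^ 2 * f v2 * f w8 + (-2) * f p1 * f s * v2 ^ 2 * f v6 * f v8 + (-2) * f p1 * (f s) ^ 2 * v2 * v8 ^ 2 * w2 + (-4) * f p1 * (f s) ^ 2 * v2 ^ 2 * f v2 * v8 ^ 2 + (-3) * f p1 * (f s) ^ 2 * v2 ^ 2 * f v6 + (-3) * (f p1) ^ 2 * s ^ 2 * (f s) ^ 2 * v2 ^ 2 * f v8 + (-4) * (f p1) ^ 2 * s ^ 2 * (f s) ^ 3 * v2 ^ 2 + (-1) * (f p1) ^ 2 * (f s) ^ 2 * v2 ^ 2 * v8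 ^ 2 * f v8 + (-1) * (f p1) ^ 2 * (f s) ^ 2 * v2 ^ 2 * f w8 + (-2) * (f p1) ^ 2 * (f s) ^ 3 * v2 ^ 2 * v8 ^ 2 + (-1) * p3 * s * f s * v2 * f v2 + (-1) * p3 * s * f s * w2 + (-1) * p3 * s * v2 * f v2 * f v8 + (-1) * p3 * s * f v8 * w2 + (-1) * p3 ^ 2 * f s + (-1) * f p3 * s ^ 2 * f v2 + (-1) * s * f s * v2 ^ 2 * f v2 * v4 + (-1) * s * v2 ^ 2 * f v2 * v4 * f v8 + (-2) * s ^ 2 * f s * v2 * f v2 * w2 + (-4) * s ^ 2 * f s * v2 ^ 2 * (f v2) ^ 2 + (-2) * s ^ 2 * f s * f v2 * f w2 + (-1) * s ^ 2 * f s * w2 ^ 2 + (-2) * s ^ 2 * v2 * f v2 * f v8 * w2 + (-3) * s ^ 2 * v2 ^ 2 * (f v2) ^ 2 * f v8 + (-1) * s ^ 2 * f v2 * f v8 * f w2 + (-1) * s ^ 2 * f v8 * w2 ^ 2 + (-2) * f s * v2 * f v2 * v8 ^ 2 * w2 + (-2) * f s * v2 ^ 2 * f v2 * f v6 + (-2) * f s * v2 ^ 2 * (f v2) ^ 2 * v8 ^ 2 + (-1) * f s * v2 ^ 2 * v4 ^ 2 + (-2) * f s * f v6 * f w2 + (-1) * f s * v8 ^ 2 * w2 ^ 2) *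 h2

include hf2 in
theorem cj8w (s p1 v2 w2 p3 v4 w4 p5 v6 w6 p7 v8 w8 : K) :
    tY8 f 0 s * tw8 f p1 v2 w2 p3 v4 w4 p5 v6 w6 p7 v8 w8 =
      tw8 f (p1) (v2) (p1 * f p1 * s + w2) (p1 * f p1 * f s + f p1 * s * v2 + p3) (f p1 * s + v4) (p1 * f p1 * s ^ 2 * v2 + p1 * p3 * s + p1 * f s * v2 * f v2 + p1 * f s * w2 + p1 ^ 2 * f p1 * s * f s + f p1 * s * f v4 + s * v2 * w2 + s * v2 ^ 2 * f v2 + s * f w2 + w4) (p1 * f p1 * s ^ 2 + p1 * s * v4 + p1 * f s * f v2 + p5 + s * w2) (p1 * s + v6) (p1 * s * f v6 + p1 * f s * v4 + f p1 * s ^ 2 * v2 + p3 * s + s * v2 * v4 + f s * v2 * f v2 + f s * w2 + w6) (p1 * f s + p7 + s * v2) (v8) (w8) * tY8 f 0 s := by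
  have h2 := two_eq_zero' (K := K)
  apply eq_of_mul_fw24
  simp only [tw8, tY1, tY2, tY3, tY4, tY5, tY6, tY7, tY8, mul_assoc]
  conv_lhs => rw [fl30_24, fl28_24, fl25_24, fl27_24, fl32_24, fl37_24, fl46_24, fl40_24, fl31_24, fl35_24, fl45_24, fl39_24, fl47_24, fl44_24, fl41_24, fl29_24, fl43_24, fl38_24, fl42_24, fl36_24, fl26_24, fl34_24, fl24_24, fl33_24, fl30_24, fl28_24, fl25_24, fl27_24]
  conv_rhs => rw [fl30_24, fl28_24, fl25_24, fl27_24, fl30_24, fl28_24, fl25_24, fl27_24, fl32_24, fl37_24, fl46_24, fl40_24, fl31_24, fl35_24, fl45_24, fl39_24, fl47_24, fl44_24, fl41_24, fl29_24, fl43_24, fl38_24, fl42_24, fl36_24, fl26_24, fl34_24, fl24_24, fl33_24]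
  apply fw24_congr
  · (try simp only [map_add, map_mul, map_zero, map_pow, hf2]) <;>
      linear_combination (0) * h2
  · (try simp only [map_add, map_mul, map_zero, map_pow, hf2]) <;>
      linear_combination (0) * h2
  · (try simp only [map_add, map_mul, map_zero, map_pow, hf2]) <;>
      linear_combination (0) * h2
  · (try simp only [map_add, map_mul, map_zero, map_pow, hf2]) <;>
      linear_combination (0) * h2
  · (try simp only [map_add, map_mul, map_zero, map_pow, hf2]) <;>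
      linear_combination (0) * h2
  · (try simp only [map_add, map_mul, map_zero, map_pow, hf2]) <;>
      linear_combination (0) * h2
  · (try simp only [map_add, map_mul, map_zero, map_pow, hf2]) <;>
      linear_combination (0) * h2
  · (try simp only [map_add, map_mul, map_zero, map_pow, hf2]) <;>
      linear_combination (0) * h2
  · (try simp only [map_add, map_mul, map_zero, map_pow, hf2]) <;>
      linear_combination (0) * h2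
  · (try simp only [map_add, map_mul, map_zero, map_pow, hf2]) <;>
      linear_combination (0) * h2
  · (try simp only [map_add, map_mul, map_zero, map_pow, hf2]) <;>
      linear_combination (0) * h2
  · (try simp only [map_add, map_mul, map_zero, map_pow, hf2]) <;>
      linear_combination ((-1) * p1 * s) * h2
  · (try simp only [map_add, map_mul, map_zero, map_pow, hf2]) <;>
      linear_combination ((-1) * p1 * f p1 * s) * h2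
  · (try simp only [map_add, map_mul, map_zero, map_pow, hf2]) <;>
      linear_combination ((-1) * p1 * s * v8 + (-1) * p1 * f s + (-1) * s * v2) * h2
  · (try simp only [map_add, map_mul, map_zero, map_pow, hf2]) <;>
      linear_combination ((-1) * p1 * f p1 * s * v8 + (-1) * p1 * f p1 * f s + (-1) * f p1 * s * v2) * h2
  · (try simp only [map_add, map_mul, map_zero, map_pow, hf2]) <;>
      linear_combination ((-2) * p1 * f p1 * s * v8 * f v8 + (-1) * p1 * f p1 * s * w8 + (-2) * p1 * f p1 * s ^ 2 + (-1) * p1 * f p1 * f s * f v8 + (-1) * p1 * s * v4 + (-1) * p1 * f s * f v2 + (-1) * f p1 * s * v2 * f v8 + (-1) * s * v2 * f v2 + (-1) * s * w2) * h2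
  · (try simp only [map_add, map_mul, map_zero, map_pow, hf2]) <;>
      linear_combination ((-3) * p1 * f p1 * s * f s + (-1) * p1 * f p1 * s * v8 * w8 + (-3) * p1 * f p1 * s * v8 ^ 2 * f v8 + (-1) * p1 * f p1 * s * f w8 + (-2) * p1 * f p1 * s ^ 2 * v8 + (-3) * p1 * f p1 * f s * v8 * f v8 + (-1) * p1 * f p1 * f s * w8 + (-1) * p1 * s * v4 * v8 + (-2) * p1 * s * f v6 + (-1) * p1 * f s * f v2 * v8 + (-1) * p1 * f s * v4 + (-3) * f p1 * s * v2 * v8 * f v8 + (-1) * f p1 * s * v2 * w8 + (-2) * f p1 * s ^ 2 * v2 + (-1) * f p1 * f s * v2 * f v8 + (-1) * f p1 * f s * v6 + (-1) * p3 * s + (-1) * s * v2 * f v2 * v8 + (-1) * s * v2 * v4 + (-1) * s * v8 * w2 + (-2) * f s * v2 * f v2 + (-1) * f s * w2) * h2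
  · (try simp only [map_add, map_mul, map_zero, map_pow, hf2]) <;>
      linear_combination ((-1) * p1 ^ 2 * f s) * h2
  · (try simp only [map_add, map_mul, map_zero, map_pow, hf2]) <;>
      linear_combination ((-1) * p1 ^ 2 * f p1 * f s) * h2
  · (try simp only [map_add, map_mul, map_zero, map_pow, hf2]) <;>
      linear_combination ((-1) * p1 ^ 2 * f p1 * s ^ 2 + (-1) * p1 ^ 2 * f p1 * f s * f v8 + (-1) * p1 ^ 2 * f s * f v2) * h2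
  · (try simp only [map_add, map_mul, map_zero, map_pow, hf2]) <;>
      linear_combination ((-3) * p1 * f p1 * s * v2 * v8 * f v8 + (-1) * p1 * f p1 * s * v2 * w8 + (-1) * p1 * f p1 * s * v6 * v8 + (-3) * p1 * f p1 * s ^ 2 * v2 + (-1) * p1 * f p1 * f s * v2 * f v8 + (-1) * p1 * f p1 * f s * v6 + (-1) * p1 * p3 * s + (-2) * p1 * s * v2 * f v2 * v8 + (-1) * p1 * s * v2 * v4 + (-1) * p1 * s * v8 * w2 + (-2) * p1 * f s * v2 * f v2 + (-1) * p1 * f s * w2 + (-4) * p1 ^ 2 * f p1 * s * f s + (-1) * p1 ^ 2 * f p1 * s * v8 * w8 + (-3) * p1 ^ 2 * f p1 * s * v8 ^ 2 * f v8 + (-1) * p1 ^ 2 * f p1 * s * f w8 + (-3) * p1 ^ 2 * f p1 * s ^ 2 * v8 + (-3) * p1 ^ 2 * f p1 * f s * v8 * f v8 + (-1) * p1 ^ 2 * f p1 * f s * w8 + (-1) * p1 ^ 2 * s * v4 * v8 + (-1) * p1 ^ 2 * s * f v6 + (-1) * p1 ^ 2 * f s * f v2 * v8 + (-1) * p1 ^ 2 * f s * v4 + (-1) * f p1 * s * v2 * v6 + (-1) *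 f p1 * s * v2 ^ 2 * f v8 + (-1) * f p1 * s * f v4 + (-1) * s * v2 * w2 + (-2) * s * v2 ^ 2 * f v2 + (-1) * s * f w2) * h2
  · (try simp only [map_add, map_mul, map_zero, map_pow, hf2]) <;>
      linear_combination ((-1) * p1 ^ 2 * f p1 * s ^ 2 * v8 ^ 2 + (-2) * p1 ^ 2 * f p1 * f s * v8 ^ 2 * f v8 + (-1) * p1 ^ 2 * f p1 * f s * f w8 + (-2) * p1 ^ 2 * f p1 * (f s) ^ 2 + (-1) * p1 ^ 2 * f s * f v2 * v8 ^ 2 + (-1) * p1 ^ 2 * f s * f v6 + (-1) * f p1 * s ^ 2 * v2 ^ 2 + (-1) * f p1 * f s * v2 ^ 2 * f v8 + (-1) * f p1 * f s * f v4 + (-1) * f s * v2 ^ 2 * f v2 + (-1) * f s * f w2) * h2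
  · (try simp only [map_add, map_mul, map_zero, map_pow, hf2]) <;>
      linear_combination ((-1) * p1 * f p1 * s * f s * v6 + (-1) * p1 * s * v6 * f v6 + (-4) * p1 ^ 2 * f p1 * s * f s * v8 * f v8 + (-2) * p1 ^ 2 * f p1 * s * f s * w8 + (-3) * p1 ^ 2 * f p1 * s ^ 2 * f s + (-1) * p1 ^ 2 * f p1 * s ^ 2 * v8 ^ 2 * f v8 + (-1) * p1 ^ 2 * f p1 * s ^ 2 * f w8 + (-4) * p1 ^ 2 * f p1 * f s * v8 * f v8 * w8 + (-5) * p1 ^ 2 * f p1 * f s * v8 ^ 2 * (f v8) ^ 2 + (-1) * p1 ^ 2 * f p1 * f s * f v8 * f w8 + (-1) * p1 ^ 2 * f p1 * f s * w8 ^ 2 + (-2) * p1 ^ 2 * f p1 * (f s) ^ 2 * f v8 + (-1) * p1 ^ 2 * f p7 * f s + (-2) * p1 ^ 2 * s * f v6 * v8 * f v8 + (-1) * p1 ^ 2 * s * f v6 * w8 + (-1) * p1 ^ 2 * s ^ 2 * f v6 + (-1) * p1 ^ 2 * f s * f v2 * v8 ^ 2 * f v8 + (-1) * p1 ^ 2 * f s * f v2 * f w8 + (-1) * p1 ^ 2 * f s * f v6 * f v8 + (-2) * p1 ^ 2 * (f s) ^ 2 * f v2 + (-1)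 * f p1 * s ^ 2 * v2 ^ 2 * f v8 + (-1) * f p1 * s ^ 2 * f v4 + (-1) * f p1 * f s * v2 ^ 2 * (f v8) ^ 2 + (-1) * f p1 * f s * f v4 * f v8 + (-1) * f p1 * f s * v6 ^ 2 + (-1) * f p3 * f s + (-2) * s * v2 ^ 2 * f v2 * v8 * f v8 + (-1) * s * v2 ^ 2 * f v2 * w8 + (-2) * s * v8 * f v8 * f w2 + (-1) * s * f w2 * w8 + (-1) * s ^ 2 * v2 ^ 2 * f v2 + (-1) * s ^ 2 * f w2 + (-1) * f s * v2 ^ 2 * f v2 * f v8 + (-1) * f s * f v2 * f v4 + (-1) * f s * f v8 * f w2) * h2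
  · (try simp only [map_add, map_mul, map_zero, map_pow, hf2]) <;>
      linear_combination ((-1) * p1 * f p1 * p3 * f s * f v8 + (-1) * p1 * f p1 * s * f s * v2 * f v2 + (-1) * p1 * f p1 * s * f s * w2 + (-1) * p1 * f p1 * s * v2 * f v2 * v8 ^ 2 * f v8 + (-1) * p1 * f p1 * s * v2 * f v2 * f w8 + (-1) * p1 * f p1 * s * v8 ^ 2 * f v8 * w2 + (-1) * p1 * f p1 * s * w2 * f w8 + (-1) * p1 * (f p1) ^ 2 * s * f s * v2 * f v8 + (-1) * p1 ^ 2 * f p1 * f p7 * f s + (-1) * p1 ^ 2 * f p1 * s * f s * v4 + (-1) * p1 ^ 2 * f p1 * s * v4 * v8 ^ 2 * f v8 + (-1) * p1 ^ 2 * f p1 * s * v4 * f w8 + (-1) * p1 ^ 2 * f p1 * s ^ 2 * f v6 + (-2) * p1 ^ 2 * f p1 * f s * f v6 * f v8 + (-2) * p1 ^ 2 * f p1 * (f s) ^ 2 * f v2 + (-3) * p1 ^ 2 * (f p1) ^ 2 * s ^ 2 * f s + (-1) * p1 ^ 2 * (f p1) ^ 2 * s ^ 2 * v8 ^ 2 * f v8 + (-1) * p1 ^ 2 * (f p1) ^ 2 * s ^ 2 * f w8 + (-2) * p1 ^ 2 * (f p1)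 ^ 2 * (f s) ^ 2 * f v8 + (-1) * p1 ^ 2 * f s * f v2 * f v6 + (-1) * p1 ^ 2 * f s * v4 ^ 2 + (-1) * f p1 * p3 * s * v2 * f v8 + (-1) * f p1 * f p3 * f s + (-1) * f p1 * s * v2 ^ 2 * v4 * f v8 + (-1) * f p1 * s ^ 2 * v2 ^ 2 * f v2 + (-1) * f p1 * s ^ 2 * f w2 + (-1) * f p1 * f s * v2 ^ 2 * f v2 * f v8 + (-1) * f p1 * f s * f v8 * f w2 + (-1) * (f p1) ^ 2 * s ^ 2 * v2 ^ 2 * f v8 + (-1) * f s * v2 * f v2 * w2 + (-2) * f s * v2 ^ 2 * (f v2) ^ 2 + (-1) * f s * f v2 * f w2 + (-1) * f s * w2 ^ 2) * h2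

include hf2 in
theorem tw8_sq (p1 v2 w2 p3 v4 w4 p5 v6 w6 p7 v8 w8 : K) :
    tw8 f p1 v2 w2 p3 v4 w4 p5 v6 w6 p7 v8 w8 * tw8 f p1 v2 w2 p3 v4 w4 p5 v6 w6 p7 v8 w8 =
      tw8 f (0) (p1 * v8) (p1 * f p1 * w8 + p1 * f v2 * v8 + p1 * v4 + f p1 * v2 * f v8 + f p1 * v6 + v2 * f v2) (p1 * f p1 * v8 * w8 + p1 * f p1 * v8 ^ 2 * f v8 + p1 * f p1 * f w8 + p1 * v4 * v8 + p1 * f v6 + f p1 * p7 + f p1 * v2 * w8 + v2 * f v2 * v8 + v2 * v4 + v8 * w2) (f p1 * w8 + f v2 * v8) (p1 * f p1 * p7 * v8 * f v8 + p1 * f p1 * p7 * w8 + p1 * f p1 * v2 * v8 ^ 2 * (f v8) ^ 2 + p1 * f p1 * v2 * f v8 * f w8 + p1 * f p1 * v2 * w8 ^ 2 + p1 * f p1 * v6 * v8 * w8 + p1 * f p1 * v6 * v8 ^ 2 * f v8 + p1 * f p1 * v6 * f w8 + p1 * p3 * v8 * f v8 + p1 * p3 * w8 + p1 * p5 * v8 + p1 * f p7 * v2 + p1 * v2 * f v2 * f w8 + p1 * w2 * f w8 + p1 * w6 + p1 ^ 2 * f p1 * v8 * f v8 * f w8 + p1 ^ 2 * f p1 *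 v8 * w8 ^ 2 + p1 ^ 2 * f p1 * v8 ^ 3 * (f v8) ^ 2 + p1 ^ 2 * f p1 * w8 * f w8 + p1 ^ 2 * f p7 * v8 + p1 ^ 2 * v4 * f w8 + f p1 * p7 * v2 * f v8 + f p1 * p7 * v6 + f p1 * v2 * v6 * w8 + f p1 * v2 ^ 2 * f v8 * w8 + f p1 * f v4 * w8 + p3 * v2 * f v8 + p3 * v6 + f p3 * v8 + p5 * v2 + p7 * v2 * f v2 + p7 * w2 + v2 * f v2 * v6 * v8 + v2 * v8 * f v8 * w2 + v2 * w2 * w8 + v2 ^ 2 * f v2 * v8 * f v8 + v2 ^ 2 * f v2 * w8 + v2 ^ 2 * v4 * f v8 + f v2 * f v4 * v8 + v4 * f v4 + v6 * v8 * w2 + f w2 * w8) (p1 * f p1 * v8 ^ 2 * (f v8) ^ 2 + p1 * f p1 * f v8 * f w8 + p1 * f p1 * w8 ^ 2 + p1 * f p7 + p1 * f v2 * f w8 + p1 * v4 * v8 * f v8 + p1 * v4 * w8 + f p1 * p7 * f v8 + f p1 * v6 * w8 + p3 * f v8 + p7 * f v2 + v2 * v4 * f v8 + f v2 * v6 * v8 + v4 * v6 + v8 * f v8 * w2 + w2 * w8) (p1 * v8 * f v8 + p1 * w8 + v2 * f v8) (p1 * f p1 * v8 * f v8 * f w8 + p1 * f p1 * v8 * w8 ^ 2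 + p1 * f p1 * v8 ^ 3 * (f v8) ^ 2 + p1 * f p7 * v8 + p1 * f v2 * v8 * f w8 + p1 * v4 * v8 * w8 + p1 * v4 * v8 ^ 2 * f v8 + p1 * v4 * f w8 + p1 * f v6 * v8 * f v8 + p1 * f v6 * w8 + f p1 * p7 * w8 + f p1 * v2 * v8 ^ 2 * (f v8) ^ 2 + f p1 * v2 * f v8 * f w8 + f p1 * v2 * w8 ^ 2 + f p1 * v6 * v8 ^ 2 * f v8 + f p1 * v6 * f w8 + p3 * w8 + p5 * v8 + p7 * f v2 * v8 + p7 * v4 + f p7 * v2 + v2 * f v2 * f w8 + v2 * v4 * w8 + v2 * f v6 * f v8 + f v2 * v6 * v8 ^ 2 + v6 * f v6 + v8 * w2 * w8 + v8 ^ 2 * f v8 * w2 + w2 * f w8) (p1 * v8 * w8 + p1 * v8 ^ 2 * f v8 + p1 * f w8 + v2 * w8 + v6 * v8) (0) (v8 * f v8) := by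
  have h2 := two_eq_zero' (K := K)
  apply eq_of_mul_fw24
  simp only [tw8, tY1, tY2, tY3, tY4, tY5, tY6, tY7, tY8, mul_assoc]
  conv_lhs => rw [fl30_24, fl28_24, fl25_24, fl27_24, fl32_24, fl37_24, fl46_24, fl40_24, fl31_24, fl35_24, fl45_24, fl39_24, fl47_24, fl44_24, fl41_24, fl29_24, fl43_24, fl38_24, fl42_24, fl36_24, fl26_24, fl34_24, fl24_24, fl33_24, fl30_24, fl28_24, fl25_24, fl27_24, fl32_24, fl37_24, fl46_24, fl40_24, fl31_24, fl35_24, fl45_24, fl39_24, fl47_24, fl44_24, fl41_24, fl29_24, fl43_24, fl38_24, fl42_24, fl36_24, fl26_24, fl34_24, fl24_24, fl33_24]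
  conv_rhs => rw [fl30_24, fl28_24, fl25_24, fl27_24, fl32_24, fl37_24, fl46_24, fl40_24, fl31_24, fl35_24, fl45_24, fl39_24, fl47_24, fl44_24, fl41_24, fl29_24, fl43_24, fl38_24, fl42_24, fl36_24, fl26_24, fl34_24, fl24_24, fl33_24]
  apply fw24_congr
  · (try simp only [map_add, map_mul, map_zero, map_pow, hf2]) <;>
      linear_combination (f p1) * h2
  · (try simp only [map_add, map_mul, map_zero, map_pow, hf2]) <;>
      linear_combination (f v8) * h2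
  · (try simp only [map_add, map_mul, map_zero, map_pow, hf2]) <;>
      linear_combination (f v2) * h2
  · (try simp only [map_add, map_mul, map_zero, map_pow, hf2]) <;>
      linear_combination (v8) * h2
  · (try simp only [map_add, map_mul, map_zero, map_pow, hf2]) <;>
      linear_combination (2 * v8 * f v8 + w8) * h2
  · (try simp only [map_add, map_mul, map_zero, map_pow, hf2]) <;>
      linear_combination (f p1 * v8 * f v8 + v4) * h2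
  · (try simp only [map_add, map_mul, map_zero, map_pow, hf2]) <;>
      linear_combination (v8 ^ 2 * f v8 + f w8) * h2
  · (try simp only [map_add, map_mul, map_zero, map_pow, hf2]) <;>
      linear_combination (f v6) * h2
  · (try simp only [map_add, map_mul, map_zero, map_pow, hf2]) <;>
      linear_combination (f p1 * v8 * f v8 * w8 + f p1 * v8 ^ 2 * (f v8) ^ 2 + f p7 + f v2 * v8 ^ 2 * f v8 + f v6 * f v8) * h2
  · (try simp only [map_add, map_mul, map_zero, map_pow, hf2]) <;>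
      linear_combination (p1) * h2
  · (try simp only [map_add, map_mul, map_zero, map_pow, hf2]) <;>
      linear_combination (p1 * v8 + v2) * h2
  · (try simp only [map_add, map_mul, map_zero, map_pow, hf2]) <;>
      linear_combination (3 * p1 * v8 * f v8 + p1 * w8 + v2 * f v8 + v6) * h2
  · (try simp only [map_add, map_mul, map_zero, map_pow, hf2]) <;>
      linear_combination (p1 * v4 + 2 * v2 * f v2 + w2) * h2
  · (try simp only [map_add, map_mul, map_zero, map_pow, hf2]) <;>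
      linear_combination (2 * p1 * v8 * w8 + 7 * p1 * v8 ^ 2 * f v8 + p1 * f w8 + p7 + 6 * v2 * v8 * f v8 + v2 * w8 + v6 * v8) * h2
  · (try simp only [map_add, map_mul, map_zero, map_pow, hf2]) <;>
      linear_combination (2 * p1 * f p1 * v8 ^ 2 * f v8 + p1 * f v2 * v8 ^ 2 + 2 * p1 * v4 * v8 + p1 * f v6 + 2 * f p1 * v2 * v8 * f v8 + f p1 * v6 * v8 + p3 + 4 * v2 * f v2 * v8 + v2 * v4 + v8 * w2) * h2
  · (try simp only [map_add, map_mul, map_zero, map_pow, hf2]) <;>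
      linear_combination (5 * p1 * f p1 * v8 * f v8 * w8 + 5 * p1 * f p1 * v8 ^ 2 * (f v8) ^ 2 + p1 * f p1 * w8 ^ 2 + p1 * f p7 + p1 * f v2 * v8 * w8 + 3 * p1 * f v2 * v8 ^ 2 * f v8 + 5 * p1 * v4 * v8 * f v8 + 2 * p1 * v4 * w8 + 2 * p1 * f v6 * f v8 + f p1 * p7 * f v8 + 4 * f p1 * v2 * v8 * (f v8) ^ 2 + 2 * f p1 * v2 * f v8 * w8 + 3 * f p1 * v6 * v8 * f v8 + f p1 * v6 * w8 + p3 * f v8 + p5 + 10 * v2 * f v2 * v8 * f v8 + 4 * v2 * f v2 * w8 + 2 * v2 * v4 * f v8 + 3 * v8 * f v8 * w2 + w2 * w8) * h2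
  · (try simp only [map_add, map_mul, map_zero, map_pow, hf2]) <;>
      linear_combination (3 * p1 * f p1 * v8 * f v8 * f w8 + 2 * p1 * f p1 * v8 * w8 ^ 2 + 11 * p1 * f p1 * v8 ^ 2 * f v8 * w8 + 15 * p1 * f p1 * v8 ^ 3 * (f v8) ^ 2 + p1 * f p1 * w8 * f w8 + 2 * p1 * f p7 * v8 + p1 * f v2 * v8 * f w8 + 2 * p1 * f v2 * v8 ^ 2 * w8 + 9 * p1 * f v2 * v8 ^ 3 * f v8 + 4 * p1 * v4 * v8 * w8 + 13 * p1 * v4 * v8 ^ 2 * f v8 + 2 * p1 * v4 * f w8 + 8 * p1 * f v6 * v8 * f v8 + 2 * p1 * f v6 * w8 + 6 * f p1 * p7 * v8 * f v8 + f p1 * p7 * w8 + 9 * f p1 * v2 * v8 * f v8 * w8 + 16 * f p1 * v2 * v8 ^ 2 * (f v8) ^ 2 + f p1 * v2 * f v8 * f w8 + f p1 * v2 * w8 ^ 2 + 3 * f p1 * v6 * v8 * w8 + 8 * f p1 * v6 * v8 ^ 2 * f v8 + f p1 * v6 * f w8 + 6 * p3 * v8 * f v8 + p3 * w8 + p5 * v8 + p7 * f v2 * v8 + f p7 * v2 + 8 * v2 * f v2 * v8 * w8 + 27 * v2 * f v2 * v8 ^ 2 * f v8 + 4 * v2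 * f v2 * f w8 + 10 * v2 * v4 * v8 * f v8 + 2 * v2 * v4 * w8 + 4 * v2 * f v6 * f v8 + f v2 * v6 * v8 ^ 2 + v4 * v6 * v8 + 2 * v6 * f v6 + 2 * v8 * w2 * w8 + 7 * v8 ^ 2 * f v8 * w2 + w2 * f w8 + w6) * h2
  · (try simp only [map_add, map_mul, map_zero, map_pow, hf2]) <;>
      linear_combination (2 * p1 ^ 2 * v8 ^ 2 * f v8 + p1 ^ 2 * f w8 + v2 ^ 2 * f v8 + f v4) * h2
  · (try simp only [map_add, map_mul, map_zero, map_pow, hf2]) <;>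
      linear_combination (p1 ^ 2 * f v6 + v2 ^ 2 * f v2 + f w2) * h2
  · (try simp only [map_add, map_mul, map_zero, map_pow, hf2]) <;>
      linear_combination (p1 ^ 2 * f p1 * v8 * f v8 * w8 + p1 ^ 2 * f p1 * v8 ^ 2 * (f v8) ^ 2 + p1 ^ 2 * f p7 + p1 ^ 2 * f v2 * v8 ^ 2 * f v8 + 2 * p1 ^ 2 * f v6 * f v8 + f p1 * v2 ^ 2 * (f v8) ^ 2 + f p1 * f v4 * f v8 + f p3 + 2 * v2 ^ 2 * f v2 * f v8 + f v8 * f w2) * h2
  · (try simp only [map_add, map_mul, map_zero, map_pow, hf2]) <;>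
      linear_combination (8 * p1 * f p1 * p7 * v8 * f v8 + p1 * f p1 * p7 * w8 + 29 * p1 * f p1 * v2 * v8 * f v8 * w8 + 52 * p1 * f p1 * v2 * v8 ^ 2 * (f v8) ^ 2 + 5 * p1 * f p1 * v2 * f v8 * f w8 + 4 * p1 * f p1 * v2 * w8 ^ 2 + 9 * p1 * f p1 * v6 * v8 * w8 + 25 * p1 * f p1 * v6 * v8 ^ 2 * f v8 + 3 * p1 * f p1 * v6 * f w8 + 6 * p1 * p3 * v8 * f v8 + p1 * p3 * w8 + p1 * p5 * v8 + 2 * p1 * p7 * f v2 * v8 + p1 * p7 * v4 + 3 * p1 * f p7 * v2 + 26 * p1 * v2 * f v2 * v8 * w8 + 87 * p1 * v2 * f v2 * v8 ^ 2 * f v8 + 10 * p1 * v2 * f v2 * f w8 + 34 * p1 * v2 * v4 * v8 * f v8 + 8 * p1 * v2 * v4 * w8 + 10 * p1 * v2 * f v6 * f v8 + 5 * p1 * f v2 * v6 * v8 ^ 2 + 7 * p1 * v4 * v6 * v8 + 4 * p1 * v6 * f v6 + 8 * p1 * v8 * w2 * w8 + 25 * p1 * v8 ^ 2 * f v8 * w2 + 3 * p1 * w2 * f w8 + 11 * p1 ^ 2 * f p1 * v8 * f v8 * f w8 + 7 * p1 ^ 2 * f p1 * v8 * w8 ^ 2 + 35 * p1 ^ 2 * f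 p1 * v8 ^ 2 * f v8 * w8 + 46 * p1 ^ 2 * f p1 * v8 ^ 3 * (f v8) ^ 2 + 3 * p1 ^ 2 * f p1 * w8 * f w8 + 5 * p1 ^ 2 * f p7 * v8 + 4 * p1 ^ 2 * f v2 * v8 * f w8 + 8 * p1 ^ 2 * f v2 * v8 ^ 2 * w8 + 27 * p1 ^ 2 * f v2 * v8 ^ 3 * f v8 + 14 * p1 ^ 2 * v4 * v8 * w8 + 42 * p1 ^ 2 * v4 * v8 ^ 2 * f v8 + 5 * p1 ^ 2 * v4 * f w8 + 20 * p1 ^ 2 * f v6 * v8 * f v8 + 5 * p1 ^ 2 * f v6 * w8 + f p1 * p7 * v2 * f v8 + 13 * f p1 * v2 * v6 * v8 * f v8 + 3 * f p1 * v2 * v6 * w8 + 19 * f p1 * v2 ^ 2 * v8 * (f v8) ^ 2 + 5 * f p1 * v2 ^ 2 * f v8 * w8 + 6 * f p1 * f v4 * v8 * f v8 + f p1 * f v4 * w8 + 3 * f p1 * v6 ^ 2 * v8 + p3 * v2 * f v8 + p3 * v6 + f p3 * v8 + p7 * v2 * f v2 + 10 * v2 * f v2 * v6 * v8 + 3 * v2 * v4 * v6 + 13 * v2 * v8 * f v8 * w2 + 3 * v2 * w2 * w8 + 48 * v2 ^ 2 * f v2 * v8 * f v8 + 11 * v2 ^ 2 * f v2 * w8 + 7 * v2 ^ 2 * v4 * f v8 + f v2 * f v4 * v8 + v4 * f v4 +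 3 * v6 * v8 * w2 + 6 * v8 * f v8 * f w2 + f w2 * w8 + w4) * h2
  · (try simp only [map_add, map_mul, map_zero, map_pow, hf2]) <;>
      linear_combination (3 * p1 ^ 2 * f p1 * v8 ^ 2 * f v8 * f w8 + p1 ^ 2 * f p1 * v8 ^ 2 * w8 ^ 2 + 4 * p1 ^ 2 * f p1 * v8 ^ 3 * f v8 * w8 + 6 * p1 ^ 2 * f p1 * v8 ^ 4 * (f v8) ^ 2 + 4 * p1 ^ 2 * f p7 * v8 ^ 2 + 2 * p1 ^ 2 * f v2 * v8 ^ 2 * f w8 + 5 * p1 ^ 2 * f v2 * v8 ^ 4 * f v8 + 9 * p1 ^ 2 * f v6 * v8 ^ 2 * f v8 + 2 * p1 ^ 2 * f v6 * f w8 + f p1 * v2 ^ 2 * v8 * f v8 * w8 + 7 * f p1 * v2 ^ 2 * v8 ^ 2 * (f v8) ^ 2 + 2 * f p1 * v2 ^ 2 * f v8 * f w8 + 7 * f p1 * f v4 * v8 ^ 2 * f v8 + f p1 * f v4 * f w8 + 2 * f p1 * v6 ^ 2 * v8 ^ 2 + 2 * f p3 * v8 ^ 2 + f p5 + f p7 * v2 ^ 2 + 13 * v2 ^ 2 * f v2 * v8 ^ 2 * f v8 + 3 * v2 ^ 2 * f v2 * f w8 + 4 * v2 ^ 2 * f v6 * f v8 + 2 * f v2 * f v4 * v8 ^ 2 + f v4 * f v6 + 6 * v8 ^ 2 * f v8 *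 f w2 + f w2 * f w8) * h2
  · (try simp only [map_add, map_mul, map_zero, map_pow, hf2]) <;>
      linear_combination ((-1) * p1 * f p1 * v2 * v8 * (f v8) ^ 2 * f w8 + (-1) * p1 * f p1 * v2 * v8 ^ 2 * (f v8) ^ 2 * w8 + (-1) * p1 * f p1 * v2 * v8 ^ 3 * (f v8) ^ 3 + (-1) * p1 * f p1 * v2 * f v8 * w8 * f w8 + (-1) * p1 * v2 * f v2 * v8 ^ 2 * f v8 * w8 + (-1) * p1 * v2 * f v2 * v8 ^ 3 * (f v8) ^ 2 + 11 * p1 ^ 2 * f p1 * v8 * f v8 * w8 * f w8 + 2 * p1 ^ 2 * f p1 * v8 ^ 2 * f v8 * w8 ^ 2 + 15 * p1 ^ 2 * f p1 * v8 ^ 2 * (f v8) ^ 2 * f w8 + 12 * p1 ^ 2 * f p1 * v8 ^ 3 * (f v8) ^ 2 * w8 + 15 * p1 ^ 2 * f p1 * v8 ^ 4 * (f v8) ^ 3 + 2 * p1 ^ 2 * f p1 * w8 ^ 2 * f w8 + 3 * p1 ^ 2 * f p7 * v8 ^ 2 * f v8 + 2 * p1 ^ 2 * f p7 * f w8 + 3 * p1 ^ 2 * f v2 * v8 ^ 2 * f v8 * f w8 + p1 ^ 2 * f v2 * v8 ^ 2 * w8 ^ 2 + 9 * p1 ^ 2 * f v2 * v8 ^ 3 * f v8 * w8 + 14 * p1 ^ 2 * f v2 * v8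 ^ 4 * (f v8) ^ 2 + 22 * p1 ^ 2 * f v6 * v8 * f v8 * w8 + 31 * p1 ^ 2 * f v6 * v8 ^ 2 * (f v8) ^ 2 + 3 * p1 ^ 2 * f v6 * f v8 * f w8 + 4 * p1 ^ 2 * f v6 * w8 ^ 2 + f p1 * p7 ^ 2 * f v8 + 12 * f p1 * v2 ^ 2 * v8 * (f v8) ^ 2 * w8 + 19 * f p1 * v2 ^ 2 * v8 ^ 2 * (f v8) ^ 3 + 2 * f p1 * v2 ^ 2 * f v8 * w8 ^ 2 + 4 * f p1 * v2 ^ 2 * (f v8) ^ 2 * f w8 + 11 * f p1 * f v4 * v8 * f v8 * w8 + 17 * f p1 * f v4 * v8 ^ 2 * (f v8) ^ 2 + 3 * f p1 * f v4 * f v8 * f w8 + 2 * f p1 * f v4 * w8 ^ 2 + f p1 * v6 ^ 2 * v8 ^ 2 * f v8 + f p1 * v6 ^ 2 * f w8 + 2 * f p3 * v8 ^ 2 * f v8 + f p3 * f w8 + f p5 * f v8 + 2 * f p7 * v2 ^ 2 * f v8 + f p7 * f v4 + 22 * v2 ^ 2 * f v2 * v8 * f v8 * w8 + 36 * v2 ^ 2 * f v2 * v8 ^ 2 * (f v8) ^ 2 + 5 * v2 ^ 2 * f v2 * f v8 * f w8 + 4 * v2 ^ 2 * f v2 * w8 ^ 2 + 7 * v2 ^ 2 * f v6 * (f v8) ^ 2 + 2 * f v2 * f v4 * v8 ^ 2 * f v8 + f v2 * f v4 * f w8 +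 2 * f v4 * f v6 * f v8 + v6 ^ 2 * f v6 + 12 * v8 * f v8 * f w2 * w8 + 17 * v8 ^ 2 * (f v8) ^ 2 * f w2 + 2 * f v8 * f w2 * f w8 + 2 * f w2 * w8 ^ 2 + f w6) * h2
  · (try simp only [map_add, map_mul, map_zero, map_pow, hf2]) <;>
      linear_combination ((-1) * p1 * f p1 * v2 * f v2 * v8 ^ 2 * f v8 * w8 + (-2) * p1 * f p1 * v2 * f v2 * v8 ^ 3 * (f v8) ^ 2 + (-1) * p1 * f p1 * v2 * v4 * v8 ^ 2 * (f v8) ^ 2 + (-1) * p1 * f p1 * f v2 * v6 * v8 ^ 3 * f v8 + (-1) * p1 * f p1 * v4 * v6 * v8 ^ 2 * f v8 + (-1) * p1 * (f p1) ^ 2 * v2 * v8 ^ 2 * (f v8) ^ 2 * w8 + (-1) * p1 * (f p1) ^ 2 * v2 * v8 ^ 3 * (f v8) ^ 3 + (-1) * p1 * (f p1) ^ 2 * v6 * v8 ^ 2 * f v8 * w8 + (-1) * p1 * (f p1) ^ 2 * v6 * v8 ^ 3 * (f v8) ^ 2 + (-1) * p1 * v2 * f v2 * v4 * v8 ^ 2 * f v8 + (-1) * p1 * v2 * (f v2) ^ 2 * v8 ^ 3 * f v8 + 2 * p1 ^ 2 * f p1 * f v2 * v8 * w8 * f w8 + 4 * p1 ^ 2 * f p1 *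 f v2 * v8 ^ 2 * f v8 * f w8 + (-1) * p1 ^ 2 * f p1 * f v2 * v8 ^ 2 * w8 ^ 2 + 3 * p1 ^ 2 * f p1 * f v2 * v8 ^ 3 * f v8 * w8 + 6 * p1 ^ 2 * f p1 * f v2 * v8 ^ 4 * (f v8) ^ 2 + (-1) * p1 ^ 2 * f p1 * f v2 * (f w8) ^ 2 + 8 * p1 ^ 2 * f p1 * v4 * v8 * f v8 * f w8 + 5 * p1 ^ 2 * f p1 * v4 * v8 ^ 2 * f v8 * w8 + 11 * p1 ^ 2 * f p1 * v4 * v8 ^ 3 * (f v8) ^ 2 + 4 * p1 ^ 2 * f p1 * v4 * w8 * f w8 + 2 * p1 ^ 2 * f p1 * f v6 * v8 * f v8 * w8 + 3 * p1 ^ 2 * f p1 * f v6 * v8 ^ 2 * (f v8) ^ 2 + p1 ^ 2 * f p1 * f v6 * f v8 * f w8 + 5 * p1 ^ 2 * (f p1) ^ 2 * v8 * f v8 * w8 * f w8 + 4 * p1 ^ 2 * (f p1) ^ 2 * v8 ^ 2 * (f v8) ^ 2 * f w8 + 6 * p1 ^ 2 * (f p1) ^ 2 * v8 ^ 3 * (f v8) ^ 2 * w8 + 5 * p1 ^ 2 * (f p1) ^ 2 * v8 ^ 4 * (f v8) ^ 3 + (-1) * p1 ^ 2 * (f p1) ^ 2 * f v8 * (f w8) ^ 2 + 2 * p1 ^ 2 * f p7 * f v6 + 4 * p1 ^ 2 * f v2 * v4 * v8 * f w8 + 5 * p1 ^ 2 * f v2 * v4 * v8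 ^ 3 * f v8 + 3 * p1 ^ 2 * f v2 * f v6 * v8 ^ 2 * f v8 + 2 * p1 ^ 2 * (f v2) ^ 2 * v8 ^ 4 * f v8 + 6 * p1 ^ 2 * v4 ^ 2 * v8 ^ 2 * f v8 + 4 * p1 ^ 2 * v4 ^ 2 * f w8 + 3 * p1 ^ 2 * (f v6) ^ 2 * f v8 + f p1 * f p7 * v2 ^ 2 * f v8 + f p1 * f p7 * f v4 + (-1) * f p1 * v2 * f v2 * v6 * v8 ^ 2 * f v8 + 4 * f p1 * v2 ^ 2 * f v2 * v8 * f v8 * w8 + 15 * f p1 * v2 ^ 2 * f v2 * v8 ^ 2 * (f v8) ^ 2 + 6 * f p1 * v2 ^ 2 * f v2 * f v8 * f w8 + 8 * f p1 * v2 ^ 2 * v4 * v8 * (f v8) ^ 2 + 4 * f p1 * v2 ^ 2 * v4 * f v8 * w8 + 3 * f p1 * v2 ^ 2 * f v6 * (f v8) ^ 2 + f p1 * f v2 * f v4 * v8 * w8 + 4 * f p1 * f v2 * f v4 * v8 ^ 2 * f v8 + 2 * f p1 * v4 * f v4 * v8 * f v8 + f p1 * v4 * f v4 * w8 + 4 * f p1 * f v4 * f v6 * f v8 + f p1 * v6 ^ 2 * f v6 + f p1 * v8 * f v8 * f w2 * w8 + 2 * f p1 * v8 ^ 2 * (f v8) ^ 2 * f w2 + f p1 * f v8 * f w2 * f w8 + (f p1) ^ 2 * p7 ^ 2 * f v8 + (-1)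 * (f p1) ^ 2 * v2 * v6 * v8 ^ 2 * (f v8) ^ 2 + 5 * (f p1) ^ 2 * v2 ^ 2 * v8 * (f v8) ^ 2 * w8 + 7 * (f p1) ^ 2 * v2 ^ 2 * v8 ^ 2 * (f v8) ^ 3 + (f p1) ^ 2 * v2 ^ 2 * f v8 * w8 ^ 2 + 2 * (f p1) ^ 2 * v2 ^ 2 * (f v8) ^ 2 * f w8 + 3 * (f p1) ^ 2 * f v4 * v8 * f v8 * w8 + 4 * (f p1) ^ 2 * f v4 * v8 ^ 2 * (f v8) ^ 2 + (f p1) ^ 2 * f v4 * f v8 * f w8 + (f p1) ^ 2 * v6 ^ 2 * v8 ^ 2 * f v8 + (f p1) ^ 2 * v6 ^ 2 * f w8 + p3 ^ 2 * f v8 + f p3 * f v6 + 2 * f p7 * v2 ^ 2 * f v2 + f p7 * f w2 + 4 * v2 * f v2 * v8 ^ 2 * f v8 * w2 + 3 * v2 * f v2 * w2 * f w8 + 4 * v2 ^ 2 * f v2 * v4 * v8 * f v8 + 7 * v2 ^ 2 * f v2 * f v6 * f v8 + 12 * v2 ^ 2 * (f v2) ^ 2 * v8 ^ 2 * f v8 + 6 * v2 ^ 2 * (f v2) ^ 2 * f w8 + 4 * v2 ^ 2 * v4 ^ 2 * f v8 + f v2 * v4 * f v4 * v8 + f v2 * f v4 * f v6 + f v2 * v8 ^ 2 * f v8 * f w2 + 4 * f v6 * f v8 * f w2 + 2 * v8 ^ 2 * f v8 * w2 ^ 2 + w2 ^ 2 * f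 w8 + f w4) * h2

end char2

end Cfsg.Agent.Helper7.Chev
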