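import Mathlib
import Cfsg.Agent.Helper7.F4InvC

set_option autoImplicit false
set_option linter.unusedSectionVars false
set_option linter.unusedVariables false
set_option maxHeartbeats 1000000

/-!
Uniqueness of the normal forms in `U` (type `F₄`) and in `U¹` (type `²F₄`).
-/

namespace Cfsg.Agent.Helper7.Chev

open Cfsg Cfsg.Lie Matrix
open scoped Pointwise

variable {K : Type*} [Field K]

/-- The parameters of a normal form as a function of the index of the root. -/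
def fw24fun (t24 t25 t26 t27 t28 t29 t30 t31 t32 t33 t34 t35 t36 t37 t38 t39 t40 t41 t42 t43 t44 t45 t46 t47 : K) : ℕ → K :=
  fun r => [t24, t25, t26, t27, t28, t29, t30, t31, t32, t33, t34, t35, t36, t37, t38, t39, t40, t41, t42, t43, t44, t45, t46, t47].getD (r - 24) 0

theorem fw24_coe (t24 t25 t26 t27 t28 t29 t30 t31 t32 t33 t34 t35 t36 t37 t38 t39 t40 t41 t42 t43 t44 t45 t46 t47 : K) :
    ((fw24 t24 t25 t26 t27 t28 t29 t30 t31 t32 t33 t34 t35 t36 t37 t38 t39 t40 t41 t42 t43 t44 t45 t46 t47 : GL chevF4.Idx K) :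
      Matrix chevF4.Idx chevF4.Idx K) =
      chevF4.wordMat K ((List.range' 24 24).map fun r =>
        (r, fw24fun t24 t25 t26 t27 t28 t29 t30 t31 t32 t33 t34 t35 t36 t37 t38 t39 t40 t41 t42 t43 t44 t45 t46 t47 r)) := by
  unfold fw24 fw25 fw26 fw27 fw28 fw29 fw30 fw31 fw32 fw33 fw34 fw35 fw36 fw37 fw38 fw39 fw40 fw41 fw42 fw43 fw44 fw45 fw46 fw47
  simp only [List.range', List.map_cons, List.map_nil, wordMat_cons, wordMat_nil, Units.val_mul,
    fx_coe, mul_one]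
  rfl

/-- Uniqueness of the normal form in `U`. -/
theorem fw24_inj {t24 t25 t26 t27 t28 t29 t30 t31 t32 t33 t34 t35 t36 t37 t38 t39 t40 t41 t42 t43 t44 t45 t46 t47
    s24 s25 s26 s27 s28 s29 s30 s31 s32 s33 s34 s35 s36 s37 s38 s39 s40 s41 s42 s43 s44 s45 s46 s47 : K}
    (h : fw24 t24 t25 t26 t27 t28 t29 t30 t31 t32 t33 t34 t35 t36 t37 t38 t39 t40 t41 t42 t43 t44 t45 t46 t47 =
      fw24 s24 s25 s26 s27 s28 s29 s30 s31 s32 s33 s34 s35 s36 s37 s38 s39 s40 s41 s42 s43 s44 s45 s46 s47) :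
    t24 = s24 ∧ t25 = s25 ∧ t26 = s26 ∧ t27 = s27 ∧ t28 = s28 ∧ t29 = s29 ∧ t30 = s30 ∧ t31 = s31 ∧ t32 = s32 ∧ t33 = s33 ∧ t34 = s34 ∧ t35 = s35 ∧ t36 = s36 ∧ t37 = s37 ∧ t38 = s38 ∧ t39 = s39 ∧ t40 = s40 ∧ t41 = s41 ∧ t42 = s42 ∧ t43 = s43 ∧ t44 = s44 ∧ t45 = s45 ∧ t46 = s46 ∧ t47 = s47 := by
  have h' := congrArg (fun g : GL chevF4.Idx K => (g : Matrix chevF4.Idx chevF4.Idx K)) h
  simp only [fw24_coe] at h'
  have key := word_unique good3_F4.toGood2 T0_F4 T8_F4 24 24 rfl (by decide) _ _ h'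
  refine ⟨key 24 (by decide), key 25 (by decide), key 26 (by decide), key 27 (by decide), key 28 (by decide), key 29 (by decide), key 30 (by decide), key 31 (by decide), key 32 (by decide), key 33 (by decide), key 34 (by decide), key 35 (by decide), key 36 (by decide), key 37 (by decide), key 38 (by decide), key 39 (by decide), key 40 (by decide), key 41 (by decide), key 42 (by decide), key 43 (by decide), key 44 (by decide), key 45 (by decide), key 46 (by decide), key 47 (by decide)⟩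

theorem fw24_mem_U (t24 t25 t26 t27 t28 t29 t30 t31 t32 t33 t34 t35 t36 t37 t38 t39 t40 t41 t42 t43 t44 t45 t46 t47 : K) :
    fw24 t24 t25 t26 t27 t28 t29 t30 t31 t32 t33 t34 t35 t36 t37 t38 t39 t40 t41 t42 t43 t44 t45 t46 t47 ∈ chevF4.posUnipotent K := by
  unfold fw24 fw25 fw26 fw27 fw28 fw29 fw30 fw31 fw32 fw33 fw34 fw35 fw36 fw37 fw38 fw39 fw40 fw41 fw42 fw43 fw44 fw45 fw46 fw47
  have h := fun (r : Fin 48) (hr : 24 ≤ r.val) (a : K) => fx_mem_pos (K := K) (r := r) hr a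
  exact mul_mem (h 24 (by decide) _) (mul_mem (h 25 (by decide) _) (mul_mem (h 26 (by decide) _) (mul_mem (h 27 (by decide) _) (mul_mem (h 28 (by decide) _) (mul_mem (h 29 (by decide) _) (mul_mem (h 30 (by decide) _) (mul_mem (h 31 (by decide) _) (mul_mem (h 32 (by decide) _) (mul_mem (h 33 (by decide) _) (mul_mem (h 34 (by decide) _) (mul_mem (h 35 (by decide) _) (mul_mem (h 36 (by decide) _) (mul_mem (h 37 (by decide) _) (mul_mem (h 38 (by decide) _) (mul_mem (h 39 (by decide) _) (mul_mem (h 40 (by decide) _) (mul_mem (h 41 (by decide) _) (mul_mem (h 42 (by decide) _) (mul_mem (h 43 (by decide) _) (mul_mem (h 44 (by decide) _) (mul_mem (h 45 (by decide) _) (mul_mem (h 46 (by decide) _) (h 47 (by decide) _)))))))))))))))))))))))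

section char2

variable [CharP K 2] (f : K →+* K) (hf2 : ∀ t, f (f t) = t ^ 2)

include hf2 in
/-- Uniqueness of the normal form in `U¹`. -/
theorem tw8_inj {p1 v2 w2 p3 v4 w4 p5 v6 w6 p7 v8 w8 p1' v2' w2' p3' v4' w4' p5' v6' w6' p7' v8' w8' : K}
    (h : tw8 f p1 v2 w2 p3 v4 w4 p5 v6 w6 p7 v8 w8 = tw8 f p1' v2' w2' p3' v4' w4' p5' v6' w6' p7' v8' w8') :
    p1 = p1' ∧ v2 = v2' ∧ w2 = w2' ∧ p3 = p3' ∧ v4 = v4' ∧ w4 = w4' ∧ p5 = p5' ∧ v6 = v6' ∧ w6 = w6' ∧ p7 = p7' ∧ v8 = v8' ∧ w8 = w8' := by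
  rw [tw8_eq_fw24 f hf2, tw8_eq_fw24 f hf2] at h
  obtain ⟨h24, h25, h26, h27, h28, h29, h30, h31, h32, h33, h34, h35, h36, h37, h38, h39, h40, h41, h42, h43, h44, h45, h46, h47⟩ := fw24_inj h
  subst h33 h27 h28 h29
  have ev2 : v2 = v2' := by linear_combination h34
  subst ev2
  have ev6 : v6 = v6' := by linear_combination h35
  subst ev6
  have ew2 : w2 = w2' := by linear_combination h36
  subst ew2
  have ep7 : p7 = p7' := by linear_combination h37
  subst ep7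
  have ep3 : p3 = p3' := by linear_combination h38
  subst ep3
  have ep5 : p5 = p5' := by linear_combination h39
  subst ep5
  have ew6 : w6 = w6' := by linear_combination h40
  subst ew6
  have ew4 : w4 = w4' := by linear_combination h44
  subst ew4
  exact ⟨rfl, rfl, rfl, rfl, rfl, rfl, rfl, rfl, rfl, rfl, rfl, rfl⟩

include hf2 in
theorem tw8_mem_U (p1 v2 w2 p3 v4 w4 p5 v6 w6 p7 v8 w8 : K) : tw8 f p1 v2 w2 p3 v4 w4 p5 v6 w6 p7 v8 w8 ∈ chevF4.posUnipotent K := by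
  rw [tw8_eq_fw24 f hf2]
  exact fw24_mem_U _ _ _ _ _ _ _ _ _ _ _ _ _ _ _ _ _ _ _ _ _ _ _ _

theorem tw8_zero : tw8 f (0 : K) 0 0 0 0 0 0 0 0 0 0 0 = 1 := by
  unfold tw8 tY1 tY2 tY3 tY4 tY5 tY6 tY7 tY8
  simp only [map_zero, mul_zero, add_zero, fx_zero, mul_one]

end char2

end Cfsg.Agent.Helper7.Chev
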