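import Mathlib
import Cfsg.Agent.Helper7.F4InvD

set_option autoImplicit false
set_option linter.unusedSectionVars false
set_option linter.unusedVariables false

/-!
`²F₄(q)`: the twisted root elements in the twisted group, conjugation by the two fundamental reflections and by
the torus.
-/

namespace Cfsg.Agent.Helper7.Chev

open Cfsg Cfsg.Lie Matrix
open scoped Pointwise

variable {K : Type*} [Field K] [CharP K 2]

/-- Conjugacy in the twisted group of type `F₄`. -/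
def ConjF (m : ℕ) (g g' : GL chevF4.Idx K) : Prop := ∃ h ∈ twistedF4 K (2 ^ m), h * g * h⁻¹ = g'

theorem ConjF.refl (m : ℕ) (g : GL chevF4.Idx K) : ConjF m g g := ⟨1, one_mem _, by group⟩

theorem ConjF.trans {m : ℕ} {g₁ g₂ g₃ : GL chevF4.Idx K} (h₁ : ConjF m g₁ g₂)
    (h₂ : ConjF m g₂ g₃) : ConjF m g₁ g₃ := by
  obtain ⟨h, hh, e⟩ := h₁
  obtain ⟨k, hk, e'⟩ := h₂
  refine ⟨k * h, mul_mem hk hh, ?_⟩
  rw [← e', ← e]
  group

theorem ConjF.symm {m : ℕ} {g₁ g₂ : GL chevF4.Idx K} (h₁ : ConjF m g₁ g₂) : ConjF m g₂ g₁ := by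
  obtain ⟨h, hh, e⟩ := h₁
  refine ⟨h⁻¹, inv_mem hh, ?_⟩
  rw [← e]
  group

theorem ConjF.of_eq {m : ℕ} {g₁ g₂ : GL chevF4.Idx K} (h : g₁ = g₂) : ConjF m g₁ g₂ :=
  h ▸ ConjF.refl m g₁

/-- Conjugacy from a relation `x g = g' x`. -/
theorem ConjF.of_mul_eq {m : ℕ} {x g g' : GL chevF4.Idx K} (hx : x ∈ twistedF4 K (2 ^ m))
    (h : x * g = g' * x) : ConjF m g g' :=
  ⟨x, hx, by rw [h]; group⟩

set_option maxRecDepth 1000000 in
theorem f4_refl_tabA_fast :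
    fastF4.reflWord [0, 3] 34 = 27 ∧ fastF4.reflWord [0, 3] 26 = 25 ∧ fastF4.reflWord [0, 3] 36 = 28 ∧
      fastF4.reflWord [0, 3] 42 = 30 ∧
    fastF4.reflWord [0, 3] 38 = 37 ∧ fastF4.reflWord [0, 3] 43 = 32 ∧
    fastF4.reflWord [0, 3] 29 = 35 ∧ fastF4.reflWord [0, 3] 41 = 31 ∧ fastF4.reflWord [0, 3] 44 = 40 ∧
      fastF4.reflWord [0, 3] 47 = 46 ∧
    fastF4.reflWord [0, 3] 39 = 39 ∧ fastF4.reflWord [0, 3] 45 = 45 ∧
    fastF4.reflWord [0, 3] 35 = 29 ∧ fastF4.reflWord [0, 3] 31 = 41 ∧ fastF4.reflWord [0, 3] 40 = 44 ∧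
      fastF4.reflWord [0, 3] 46 = 47 ∧
    fastF4.reflWord [0, 3] 37 = 38 ∧ fastF4.reflWord [0, 3] 32 = 43 ∧
    fastF4.reflWord [0, 3] 27 = 34 ∧ fastF4.reflWord [0, 3] 25 = 26 ∧ fastF4.reflWord [0, 3] 28 = 36 ∧
      fastF4.reflWord [0, 3] 30 = 42 := by decide +kernel

set_option maxRecDepth 1000000 in
theorem f4_refl_tabB_fast :
    fastF4.reflWord [2, 1, 2, 1] 33 = 37 ∧ fastF4.reflWord [2, 1, 2, 1] 24 = 32 ∧
    fastF4.reflWord [2, 1, 2, 1] 34 = 35 ∧ fastF4.reflWord [2, 1, 2, 1] 26 = 31 ∧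
      fastF4.reflWord [2, 1, 2, 1] 36 = 40 ∧ fastF4.reflWord [2, 1, 2, 1] 42 = 46 ∧
    fastF4.reflWord [2, 1, 2, 1] 38 = 39 ∧ fastF4.reflWord [2, 1, 2, 1] 43 = 45 ∧
    fastF4.reflWord [2, 1, 2, 1] 29 = 29 ∧ fastF4.reflWord [2, 1, 2, 1] 41 = 41 ∧
      fastF4.reflWord [2, 1, 2, 1] 44 = 44 ∧ fastF4.reflWord [2, 1, 2, 1] 47 = 47 ∧
    fastF4.reflWord [2, 1, 2, 1] 39 = 38 ∧ fastF4.reflWord [2, 1, 2, 1] 45 = 43 ∧
    fastF4.reflWord [2, 1, 2, 1] 35 = 34 ∧ fastF4.reflWord [2, 1, 2, 1] 31 = 26 ∧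
      fastF4.reflWord [2, 1, 2, 1] 40 = 36 ∧ fastF4.reflWord [2, 1, 2, 1] 46 = 42 ∧
    fastF4.reflWord [2, 1, 2, 1] 37 = 33 ∧ fastF4.reflWord [2, 1, 2, 1] 32 = 24 := by decide +kernel

theorem f4_wA_lt : ∀ i ∈ [0, 3], i < chevF4.rank := by decide
theorem f4_wB_lt : ∀ i ∈ [2, 1, 2, 1], i < chevF4.rank := by decide

/-- Conjugation of a root element by the element of `N` of a word, in characteristic two. -/
theorem conj_fx {w : List ℕ} (hw : ∀ i ∈ w, i < chevF4.rank) (s r : Fin 48)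
    (h : fastF4.reflWord w s.val = r.val) (a : K) :
    nWordGL good3_F4.toGood2 w * fx K s a * (nWordGL good3_F4.toGood2 w)⁻¹ = fx K r a := by
  have h2 := two_eq_zero' (K := K)
  have := nWordGL_conj (F := K) good3_F4.toGood2 hw s.2 a
  unfold fx
  rw [this]
  have hη := etaWord_cast_mul_self (F := K) good3_F4.toGood2 hw s.2
  have hη1 : (((tabOf chevF4).etaWord w s.val : ℤ) : K) = 1 := by
    set η : K := (((tabOf chevF4).etaWord w s.val : ℤ) : K)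
    have : (η - 1) * (η - 1) = 0 := by linear_combination hη + (1 - η) * h2
    have := mul_self_eq_zero.mp this
    exact sub_eq_zero.mp this
  rw [hη1, one_mul]
  exact xGL_congr good3_F4.toGood2 (by rw [tab_F4]; exact h) _ _ _

section nmoves

variable (f : K →+* K)

theorem conj_mul2 {G : Type*} [Group G] (n a b : G) :
    n * (a * b) * n⁻¹ = n * a * n⁻¹ * (n * b * n⁻¹) := by group

theorem conj_mul4 {G : Type*} [Group G] (n a b c d : G) :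
    n * (a * (b * (c * d))) * n⁻¹ = n * a * n⁻¹ * (n * b * n⁻¹ * (n * c * n⁻¹ * (n * d * n⁻¹))) := by
  group

theorem nA_tY2 (v w : K) : f4N1 K * tY2 f v w * (f4N1 K)⁻¹ = tY8 f v w := by
  have c := fun (s r : Fin 48) h (a : K) => conj_fx (K := K) f4_wA_lt s r h a
  have T := f4_refl_tabA_fast
  unfold tY2 tY8 f4N1
  rw [conj_mul4, c 34 27 T.1, c 26 25 T.2.1, c 36 28 T.2.2.1, c 42 30 T.2.2.2.1]

theorem nA_tY3 (p : K) : f4N1 K * tY3 f p * (f4N1 K)⁻¹ = tY7 f p := by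
  have c := fun (s r : Fin 48) h (a : K) => conj_fx (K := K) f4_wA_lt s r h a
  have T := f4_refl_tabA_fast.2.2.2.2
  unfold tY3 tY7 f4N1
  rw [conj_mul2, c 38 37 T.1, c 43 32 T.2.1]

theorem nA_tY4 (v w : K) : f4N1 K * tY4 f v w * (f4N1 K)⁻¹ = tY6 f v w := by
  have c := fun (s r : Fin 48) h (a : K) => conj_fx (K := K) f4_wA_lt s r h a
  have T := f4_refl_tabA_fast.2.2.2.2.2.2
  unfold tY4 tY6 f4N1
  rw [conj_mul4, c 29 35 T.1, c 41 31 T.2.1, c 44 40 T.2.2.1, c 47 46 T.2.2.2.1]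

theorem nA_tY5 (p : K) : f4N1 K * tY5 f p * (f4N1 K)⁻¹ = tY5 f p := by
  have c := fun (s r : Fin 48) h (a : K) => conj_fx (K := K) f4_wA_lt s r h a
  have T := f4_refl_tabA_fast.2.2.2.2.2.2.2.2.2.2
  unfold tY5 f4N1
  rw [conj_mul2, c 39 39 T.1, c 45 45 T.2.1]

theorem nA_tY6 (v w : K) : f4N1 K * tY6 f v w * (f4N1 K)⁻¹ = tY4 f v w := by
  have c := fun (s r : Fin 48) h (a : K) => conj_fx (K := K) f4_wA_lt s r h a
  have T := f4_refl_tabA_fast.2.2.2.2.2.2.2.2.2.2.2.2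
  unfold tY4 tY6 f4N1
  rw [conj_mul4, c 35 29 T.1, c 31 41 T.2.1, c 40 44 T.2.2.1, c 46 47 T.2.2.2.1]

theorem nA_tY7 (p : K) : f4N1 K * tY7 f p * (f4N1 K)⁻¹ = tY3 f p := by
  have c := fun (s r : Fin 48) h (a : K) => conj_fx (K := K) f4_wA_lt s r h a
  have T := f4_refl_tabA_fast.2.2.2.2.2.2.2.2.2.2.2.2.2.2.2.2
  unfold tY3 tY7 f4N1
  rw [conj_mul2, c 37 38 T.1, c 32 43 T.2.1]

theorem nA_tY8 (v w : K) : f4N1 K * tY8 f v w * (f4N1 K)⁻¹ = tY2 f v w := by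
  have c := fun (s r : Fin 48) h (a : K) => conj_fx (K := K) f4_wA_lt s r h a
  have T := f4_refl_tabA_fast.2.2.2.2.2.2.2.2.2.2.2.2.2.2.2.2.2.2
  unfold tY2 tY8 f4N1
  rw [conj_mul4, c 27 34 T.1, c 25 26 T.2.1, c 28 36 T.2.2.1, c 30 42 T.2.2.2]

theorem nB_tY1 (p : K) : f4N2 K * tY1 f p * (f4N2 K)⁻¹ = tY7 f p := by
  have c := fun (s r : Fin 48) h (a : K) => conj_fx (K := K) f4_wB_lt s r h a
  have T := f4_refl_tabB_fast
  unfold tY1 tY7 f4N2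
  rw [conj_mul2, c 33 37 T.1, c 24 32 T.2.1]

theorem nB_tY2 (v w : K) : f4N2 K * tY2 f v w * (f4N2 K)⁻¹ = tY6 f v w := by
  have c := fun (s r : Fin 48) h (a : K) => conj_fx (K := K) f4_wB_lt s r h a
  have T := f4_refl_tabB_fast.2.2
  unfold tY2 tY6 f4N2
  rw [conj_mul4, c 34 35 T.1, c 26 31 T.2.1, c 36 40 T.2.2.1, c 42 46 T.2.2.2.1]

theorem nB_tY3 (p : K) : f4N2 K * tY3 f p * (f4N2 K)⁻¹ = tY5 f p := by
  have c := fun (s r : Fin 48) h (a : K) => conj_fx (K := K) f4_wB_lt s r h a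
  have T := f4_refl_tabB_fast.2.2.2.2.2.2
  unfold tY3 tY5 f4N2
  rw [conj_mul2, c 38 39 T.1, c 43 45 T.2.1]

theorem nB_tY4 (v w : K) : f4N2 K * tY4 f v w * (f4N2 K)⁻¹ = tY4 f v w := by
  have c := fun (s r : Fin 48) h (a : K) => conj_fx (K := K) f4_wB_lt s r h a
  have T := f4_refl_tabB_fast.2.2.2.2.2.2.2.2
  unfold tY4 f4N2
  rw [conj_mul4, c 29 29 T.1, c 41 41 T.2.1, c 44 44 T.2.2.1, c 47 47 T.2.2.2.1]

theorem nB_tY5 (p : K) : f4N2 K * tY5 f p * (f4N2 K)⁻¹ = tY3 f p := by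
  have c := fun (s r : Fin 48) h (a : K) => conj_fx (K := K) f4_wB_lt s r h a
  have T := f4_refl_tabB_fast.2.2.2.2.2.2.2.2.2.2.2.2
  unfold tY3 tY5 f4N2
  rw [conj_mul2, c 39 38 T.1, c 45 43 T.2.1]

theorem nB_tY6 (v w : K) : f4N2 K * tY6 f v w * (f4N2 K)⁻¹ = tY2 f v w := by
  have c := fun (s r : Fin 48) h (a : K) => conj_fx (K := K) f4_wB_lt s r h a
  have T := f4_refl_tabB_fast.2.2.2.2.2.2.2.2.2.2.2.2.2.2
  unfold tY2 tY6 f4N2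
  rw [conj_mul4, c 35 34 T.1, c 31 26 T.2.1, c 40 36 T.2.2.1, c 46 42 T.2.2.2.1]

theorem nB_tY7 (p : K) : f4N2 K * tY7 f p * (f4N2 K)⁻¹ = tY1 f p := by
  have c := fun (s r : Fin 48) h (a : K) => conj_fx (K := K) f4_wB_lt s r h a
  have T := f4_refl_tabB_fast.2.2.2.2.2.2.2.2.2.2.2.2.2.2.2.2.2.2
  unfold tY1 tY7 f4N2
  rw [conj_mul2, c 37 33 T.1, c 32 24 T.2]

end nmoves

section twisted

variable {m : ℕ} (hm : ∀ t : K, t ^ 2 ^ (2 * m + 1) = t)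

include hm in
/-- The square of the map `φ = 2θ` is the Frobenius map. -/
theorem f4Ph_f4Ph (t : K) : f4Th K (m + 1) (f4Th K (m + 1) t) = t ^ 2 := by
  rw [f4Th_succ m (f4Th K (m + 1) t), f4Th_f4Th_succ hm]

include hm in
theorem tY1_eq_xP (p : K) : tY1 (f4Th K (m + 1)) p = xP 33 24 m (f4Th K (m + 1) p) := by
  unfold tY1 xP
  rw [f4Th_f4Th_succ hm]

include hm in
theorem tY8_eq_xS (v w : K) :
    tY8 (f4Th K (m + 1)) v w = (quadPos K).xS m (f4Th K (m + 1) v) w := by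
  unfold tY8 B2Quad.xS B2Quad.xQ
  rw [f4Th_f4Th_succ hm]
  simp only [mul_assoc]
  rfl

include hm in
theorem tY1_mem (p : K) : tY1 (f4Th K (m + 1)) p ∈ twistedF4 K (2 ^ m) := by
  rw [tY1_eq_xP hm]
  exact xP_pos_mem_twisted _

include hm in
theorem tY8_mem (v w : K) : tY8 (f4Th K (m + 1)) v w ∈ twistedF4 K (2 ^ m) := by
  rw [tY8_eq_xS hm]
  exact xS_pos_mem_twisted _ _

theorem nA_mem : f4N1 K ∈ twistedF4 K (2 ^ m) := f4N1_mem_twisted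

theorem nB_mem : f4N2 K ∈ twistedF4 K (2 ^ m) := f4N2_mem_twisted

theorem conj_mem {n x : GL chevF4.Idx K} (hn : n ∈ twistedF4 K (2 ^ m)) (hx : x ∈ twistedF4 K (2 ^ m)) :
    n * x * n⁻¹ ∈ twistedF4 K (2 ^ m) := mul_mem (mul_mem hn hx) (inv_mem hn)

include hm in
theorem tY7_mem (p : K) : tY7 (f4Th K (m + 1)) p ∈ twistedF4 K (2 ^ m) := by
  rw [← nB_tY1]
  exact conj_mem nB_mem (tY1_mem hm p)

include hm in
theorem tY3_mem (p : K) : tY3 (f4Th K (m + 1)) p ∈ twistedF4 K (2 ^ m) := by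
  rw [← nA_tY7]
  exact conj_mem nA_mem (tY7_mem hm p)

include hm in
theorem tY5_mem (p : K) : tY5 (f4Th K (m + 1)) p ∈ twistedF4 K (2 ^ m) := by
  rw [← nB_tY3]
  exact conj_mem nB_mem (tY3_mem hm p)

include hm in
theorem tY2_mem (v w : K) : tY2 (f4Th K (m + 1)) v w ∈ twistedF4 K (2 ^ m) := by
  rw [← nA_tY8]
  exact conj_mem nA_mem (tY8_mem hm v w)

include hm in
theorem tY6_mem (v w : K) : tY6 (f4Th K (m + 1)) v w ∈ twistedF4 K (2 ^ m) := by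
  rw [← nB_tY2]
  exact conj_mem nB_mem (tY2_mem hm v w)

include hm in
theorem tY4_mem (v w : K) : tY4 (f4Th K (m + 1)) v w ∈ twistedF4 K (2 ^ m) := by
  rw [← nA_tY6]
  exact conj_mem nA_mem (tY6_mem hm v w)

include hm in
/-- The normal forms lie in `U ∩ G¹`. -/
theorem tw8_mem_U1 (p1 v2 w2 p3 v4 w4 p5 v6 w6 p7 v8 w8 : K) :
    tw8 (f4Th K (m + 1)) p1 v2 w2 p3 v4 w4 p5 v6 w6 p7 v8 w8 ∈
      chevF4.posUnipotent K ⊓ twistedF4 K (2 ^ m) := by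
  refine ⟨tw8_mem_U _ (f4Ph_f4Ph hm) _ _ _ _ _ _ _ _ _ _ _ _, ?_⟩
  unfold tw8
  exact mul_mem (tY1_mem hm _) (mul_mem (tY2_mem hm _ _) (mul_mem (tY3_mem hm _) (mul_mem (tY4_mem hm _ _)
    (mul_mem (tY5_mem hm _) (mul_mem (tY6_mem hm _ _) (mul_mem (tY7_mem hm _) (tY8_mem hm _ _)))))))

end twisted

section count

variable {K : Type*} [Field K] [Fintype K] [CharP K 2] {m : ℕ}

/-- Every element of `U ∩ G¹` is a normal form. -/
theorem exists_tw8 (hK : Fintype.card K = 2 ^ (2 * m + 1)) {u : GL chevF4.Idx K}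
    (hu : u ∈ chevF4.posUnipotent K ⊓ twistedF4 K (2 ^ m)) :
    ∃ p1 v2 w2 p3 v4 w4 p5 v6 w6 p7 v8 w8 : K,
      u = tw8 (f4Th K (m + 1)) p1 v2 w2 p3 v4 w4 p5 v6 w6 p7 v8 w8 := by
  have hm := pow_card_two hK
  have hf2 := f4Ph_f4Ph hm
  let φ : K × K × K × K × K × K × K × K × K × K × K × K →
      ↥(chevF4.posUnipotent K ⊓ twistedF4 K (2 ^ m)) := fun p =>
    ⟨tw8 (f4Th K (m + 1)) p.1 p.2.1 p.2.2.1 p.2.2.2.1 p.2.2.2.2.1 p.2.2.2.2.2.1 p.2.2.2.2.2.2.1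
      p.2.2.2.2.2.2.2.1 p.2.2.2.2.2.2.2.2.1 p.2.2.2.2.2.2.2.2.2.1 p.2.2.2.2.2.2.2.2.2.2.1
      p.2.2.2.2.2.2.2.2.2.2.2, tw8_mem_U1 hm _ _ _ _ _ _ _ _ _ _ _ _⟩
  have hinj : Function.Injective φ := by
    rintro ⟨a1, a2, a3, a4, a5, a6, a7, a8, a9, a10, a11, a12⟩
      ⟨b1, b2, b3, b4, b5, b6, b7, b8, b9, b10, b11, b12⟩ h
    have h' := congrArg Subtype.val h
    obtain ⟨h1, h2, h3, h4, h5, h6, h7, h8, h9, h10, h11, h12⟩ := tw8_inj _ hf2 h'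
    simp only at h1 h2 h3 h4 h5 h6 h7 h8 h9 h10 h11 h12
    subst h1 h2 h3 h4 h5 h6 h7 h8 h9 h10 h11 h12
    rfl
  have hcard : Nat.card (K × K × K × K × K × K × K × K × K × K × K × K) = (2 ^ (2 * m + 1)) ^ 12 := by
    simp only [Nat.card_prod, Nat.card_eq_fintype_card (α := K), hK]
    ring
  have hbij := hinj.bijective_of_nat_card_le (by rw [hcard, f4_card_U hK])
  obtain ⟨⟨a1, a2, a3, a4, a5, a6, a7, a8, a9, a10, a11, a12⟩, hp⟩ := hbij.2 ⟨u, hu⟩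
  refine ⟨a1, a2, a3, a4, a5, a6, a7, a8, a9, a10, a11, a12, ?_⟩
  have := congrArg Subtype.val hp
  exact this.symm

end count

end Cfsg.Agent.Helper7.Chev
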