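import Mathlib
import Cfsg.Agent.Helper7.F4InvE

set_option autoImplicit false
set_option linter.unusedSectionVars false
set_option linter.unusedVariables false

/-!
Involutions of `²F₄(q)`: the two standard involutions, involutions in normal form.
-/

namespace Cfsg.Agent.Helper7.Chev

open Cfsg Cfsg.Lie Matrix
open scoped Pointwise

variable {K : Type*} [Field K] [CharP K 2]

/-- Conjugate to one of the two standard involutions `x_{P}(1)` (a product of a short and of a long root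
element) and `x_{S}(0, 1)` (central in a root group of Suzuki type). -/
def IsStdF (m : ℕ) (g : GL chevF4.Idx K) : Prop :=
  ConjF m g (tY1 (f4Th K (m + 1)) 1) ∨ ConjF m g (tY8 (f4Th K (m + 1)) 0 1)

theorem IsStdF.of_conj {m : ℕ} {g g' : GL chevF4.Idx K} (h : ConjF m g g') (h' : IsStdF m g') :
    IsStdF m g := by
  rcases h' with h' | h'
  · exact Or.inl (h.trans h')
  · exact Or.inr (h.trans h')

/-- An involution of the twisted group. -/
def IsInvF (m : ℕ) (x : GL chevF4.Idx K) : Prop := x ∈ twistedF4 K (2 ^ m) ∧ x * x = 1 ∧ x ≠ 1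

theorem IsInvF.of_conj {m : ℕ} {x y : GL chevF4.Idx K} (h : ConjF m x y) (hx : IsInvF m x) :
    IsInvF m y := by
  obtain ⟨k, hk, rfl⟩ := h
  obtain ⟨h1, h2, h3⟩ := hx
  refine ⟨mul_mem (mul_mem hk h1) (inv_mem hk), ?_, ?_⟩
  · calc k * x * k⁻¹ * (k * x * k⁻¹) = k * (x * x) * k⁻¹ := by group
      _ = 1 := by rw [h2]; group
  · intro h
    apply h3
    calc x = k⁻¹ * (k * x * k⁻¹) * k := by group
      _ = 1 := by rw [h]; group

section zero

variable (f : K →+* K)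

theorem tY1_zero : tY1 f (0 : K) = 1 := by unfold tY1; simp only [map_zero, fx_zero, mul_one]
theorem tY3_zero : tY3 f (0 : K) = 1 := by unfold tY3; simp only [map_zero, fx_zero, mul_one]
theorem tY5_zero : tY5 f (0 : K) = 1 := by unfold tY5; simp only [map_zero, fx_zero, mul_one]
theorem tY7_zero : tY7 f (0 : K) = 1 := by unfold tY7; simp only [map_zero, fx_zero, mul_one]
theorem tY2_zero : tY2 f (0 : K) 0 = 1 := by
  unfold tY2; simp only [map_zero, mul_zero, add_zero, fx_zero, mul_one]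
theorem tY4_zero : tY4 f (0 : K) 0 = 1 := by
  unfold tY4; simp only [map_zero, mul_zero, add_zero, fx_zero, mul_one]
theorem tY6_zero : tY6 f (0 : K) 0 = 1 := by
  unfold tY6; simp only [map_zero, mul_zero, add_zero, fx_zero, mul_one]
theorem tY8_zero : tY8 f (0 : K) 0 = 1 := by
  unfold tY8; simp only [map_zero, mul_zero, add_zero, fx_zero, mul_one]

theorem tw8_congr {p1 v2 w2 p3 v4 w4 p5 v6 w6 p7 v8 w8 p1' v2' w2' p3' v4' w4' p5' v6' w6' p7' v8' w8' : K}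
    (h1 : p1 = p1') (h2 : v2 = v2') (h3 : w2 = w2') (h4 : p3 = p3') (h5 : v4 = v4') (h6 : w4 = w4')
    (h7 : p5 = p5') (h8 : v6 = v6') (h9 : w6 = w6') (h10 : p7 = p7') (h11 : v8 = v8') (h12 : w8 = w8') :
    tw8 f p1 v2 w2 p3 v4 w4 p5 v6 w6 p7 v8 w8 = tw8 f p1' v2' w2' p3' v4' w4' p5' v6' w6' p7' v8' w8' := by
  subst h1 h2 h3 h4 h5 h6 h7 h8 h9 h10 h11 h12
  rfl

theorem tw8_Y1 (p : K) : tw8 f p 0 0 0 0 0 0 0 0 0 0 0 = tY1 f p := by
  unfold tw8
  rw [tY2_zero, tY3_zero, tY4_zero, tY5_zero, tY6_zero, tY7_zero, tY8_zero]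
  simp only [mul_one]

theorem tw8_Y2 (v w : K) : tw8 f 0 v w 0 0 0 0 0 0 0 0 0 = tY2 f v w := by
  unfold tw8
  rw [tY1_zero, tY3_zero, tY4_zero, tY5_zero, tY6_zero, tY7_zero, tY8_zero]
  simp only [mul_one, one_mul]

theorem tw8_Y4 (v w : K) : tw8 f 0 0 0 0 v w 0 0 0 0 0 0 = tY4 f v w := by
  unfold tw8
  rw [tY1_zero, tY2_zero, tY3_zero, tY5_zero, tY6_zero, tY7_zero, tY8_zero]
  simp only [mul_one, one_mul]

theorem tw8_Y6 (v w : K) : tw8 f 0 0 0 0 0 0 0 v w 0 0 0 = tY6 f v w := by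
  unfold tw8
  rw [tY1_zero, tY2_zero, tY3_zero, tY4_zero, tY5_zero, tY7_zero, tY8_zero]
  simp only [mul_one, one_mul]

theorem tw8_Y8 (v w : K) : tw8 f 0 0 0 0 0 0 0 0 0 0 v w = tY8 f v w := by
  unfold tw8
  rw [tY1_zero, tY2_zero, tY3_zero, tY4_zero, tY5_zero, tY6_zero, tY7_zero]
  simp only [one_mul]

end zero

section twisted

variable {m : ℕ} (hm : ∀ t : K, t ^ 2 ^ (2 * m + 1) = t)

theorem conjF_nA (x : GL chevF4.Idx K) : ConjF m x (f4N1 K * x * (f4N1 K)⁻¹) := ⟨f4N1 K, nA_mem, rfl⟩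

theorem conjF_nB (x : GL chevF4.Idx K) : ConjF m x (f4N2 K * x * (f4N2 K)⁻¹) := ⟨f4N2 K, nB_mem, rfl⟩

include hm in
/-- The elements `x_P(p)`, `p ≠ 0`, are standard. -/
theorem stdY1 {p : K} (hp : p ≠ 0) : IsStdF m (tY1 (f4Th K (m + 1)) p) := by
  left
  have hfp : f4Th K (m + 1) p ≠ 0 := (map_ne_zero _).mpr hp
  obtain ⟨c, hc⟩ := f4_perfect hm (f4Th K (m + 1) p)⁻¹
  have hc0 : c ≠ 0 := by
    rintro rfl
    rw [zero_pow (by norm_num)] at hc
    exact inv_ne_zero hfp hc.symm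
  refine ⟨gh4 K m (Units.mk0 c hc0, 1), gh4_mem_twisted hm _, ?_⟩
  rw [tY1_eq_xP hm, tY1_eq_xP hm, gh4_conj_xP hm, map_one]
  congr 1
  rw [Units.val_one, inv_one, one_mul, Units.val_mk0, hc, inv_mul_cancel₀ hfp]

include hm in
/-- The elements `x_S(0, w)`, `w ≠ 0`, are standard. -/
theorem stdZ8 {w : K} (hw : w ≠ 0) : IsStdF m (tY8 (f4Th K (m + 1)) 0 w) := by
  right
  refine ⟨gh4 K m (1, Units.mk0 w⁻¹ (inv_ne_zero hw)), gh4_mem_twisted hm _, ?_⟩
  rw [tY8_eq_xS hm, tY8_eq_xS hm, gh4_conj_xS hm, map_zero, mul_zero]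
  congr 1
  rw [Units.val_one, inv_one, one_mul, map_one, inv_one, one_mul, Units.val_mk0, inv_mul_cancel₀ hw]

include hm in
theorem stdZ2 {w : K} (hw : w ≠ 0) : IsStdF m (tY2 (f4Th K (m + 1)) 0 w) := by
  refine IsStdF.of_conj (conjF_nA _) ?_
  rw [nA_tY2]
  exact stdZ8 hm hw

include hm in
theorem stdZ6 {w : K} (hw : w ≠ 0) : IsStdF m (tY6 (f4Th K (m + 1)) 0 w) := by
  refine IsStdF.of_conj (conjF_nB _) ?_
  rw [nB_tY6]
  exact stdZ2 hm hw

include hm in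
theorem stdZ4 {w : K} (hw : w ≠ 0) : IsStdF m (tY4 (f4Th K (m + 1)) 0 w) := by
  refine IsStdF.of_conj (conjF_nA _) ?_
  rw [nA_tY4]
  exact stdZ6 hm hw

include hm in
/-- The twelve coordinates of the square of a normal form which is an involution vanish. -/
theorem invF_sq {p1 v2 w2 p3 v4 w4 p5 v6 w6 p7 v8 w8 : K}
    (h : IsInvF m (tw8 (f4Th K (m + 1)) p1 v2 w2 p3 v4 w4 p5 v6 w6 p7 v8 w8)) : v8 = 0 := by
  obtain ⟨-, hsq, -⟩ := h
  rw [tw8_sq _ (f4Ph_f4Ph hm), ← tw8_zero (f4Th K (m + 1))] at hsq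
  obtain ⟨-, -, -, -, -, -, -, -, -, -, -, h12⟩ := tw8_inj _ (f4Ph_f4Ph hm) hsq
  rcases mul_eq_zero.mp h12 with h | h
  · exact h
  · exact (map_eq_zero _).mp h

end twisted

end Cfsg.Agent.Helper7.Chev
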