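import Mathlib
import Cfsg.Agent.Helper7.F4InvF

set_option autoImplicit false
set_option linter.unusedSectionVars false
set_option linter.unusedVariables false
set_option maxHeartbeats 4000000
set_option linter.unusedSimpArgs false

/-!
`²F₄`: products of commuting twisted root elements in normal form (generated text).
-/

namespace Cfsg.Agent.Helper7.Chev

open Cfsg Cfsg.Lie Matrix
open scoped Pointwise

variable {K : Type*} [Field K] [CharP K 2] (f : K →+* K) (hf2 : ∀ t, f (f t) = t ^ 2)

include hf2 in
theorem reorder_54321 (a b c d e : K) :
    tY5 f a * (tY4 f 0 b * (tY3 f c * (tY2 f 0 d * (tY1 f e)))) =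
      tw8 f e 0 d c 0 b a 0 0 0 0 0 := by
  have h2 := two_eq_zero' (K := K)
  apply eq_of_mul_fw24
  simp only [tw8, tY1, tY2, tY3, tY4, tY5, tY6, tY7, tY8, mul_assoc]
  conv_lhs => rw [fl24_24, fl33_24, fl42_24, fl36_24, fl26_24, fl34_24, fl43_24, fl38_24, fl47_24, fl44_24, fl41_24, fl29_24, fl45_24, fl39_24]
  conv_rhs => rw [fl30_24, fl28_24, fl25_24, fl27_24, fl32_24, fl37_24, fl46_24, fl40_24, fl31_24, fl35_24, fl45_24, fl39_24, fl47_24, fl44_24, fl41_24, fl29_24, fl43_24, fl38_24, fl42_24, fl36_24, fl26_24, fl34_24, fl24_24, fl33_24]
  apply fw24_congr
  · (try simp only [map_add, map_mul, map_zero, map_pow, hf2]) <;>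
      linear_combination (0) * h2
  · (try simp only [map_add, map_mul, map_zero, map_pow, hf2]) <;>
      linear_combination (0) * h2
  · (try simp only [map_add, map_mul, map_zero, map_pow, hf2]) <;>
      linear_combination (0) * h2
  · (try simp only [map_add, map_mul, map_zero, map_pow, hf2]) <;>
      linear_combination (0) * h2
  · (try simp only [map_add, map_mul, map_zero, map_pow, hf2]) <;>
      linear_combination (0) * h2
  · (try simp only [map_add, map_mul, map_zero, map_pow, hf2]) <;>
      linear_combination (0) * h2
  · (try simp only [map_add, map_mul, map_zero, map_pow, hf2]) <;>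
      linear_combination (0) * h2
  · (try simp only [map_add, map_mul, map_zero, map_pow, hf2]) <;>
      linear_combination (0) * h2
  · (try simp only [map_add, map_mul, map_zero, map_pow, hf2]) <;>
      linear_combination (0) * h2
  · (try simp only [map_add, map_mul, map_zero, map_pow, hf2]) <;>
      linear_combination (0) * h2
  · (try simp only [map_add, map_mul, map_zero, map_pow, hf2]) <;>
      linear_combination (0) * h2
  · (try simp only [map_add, map_mul, map_zero, map_pow, hf2]) <;>
      linear_combination (0) * h2
  · (try simp only [map_add, map_mul, map_zero, map_pow, hf2]) <;>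
      linear_combination (0) * h2
  · (try simp only [map_add, map_mul, map_zero, map_pow, hf2]) <;>
      linear_combination (0) * h2
  · (try simp only [map_add, map_mul, map_zero, map_pow, hf2]) <;>
      linear_combination (0) * h2
  · (try simp only [map_add, map_mul, map_zero, map_pow, hf2]) <;>
      linear_combination (0) * h2
  · (try simp only [map_add, map_mul, map_zero, map_pow, hf2]) <;>
      linear_combination (0) * h2
  · (try simp only [map_add, map_mul, map_zero, map_pow, hf2]) <;>
      linear_combination (0) * h2
  · (try simp only [map_add, map_mul, map_zero, map_pow, hf2]) <;>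
      linear_combination (0) * h2
  · (try simp only [map_add, map_mul, map_zero, map_pow, hf2]) <;>
      linear_combination (0) * h2
  · (try simp only [map_add, map_mul, map_zero, map_pow, hf2]) <;>
      linear_combination (0) * h2
  · (try simp only [map_add, map_mul, map_zero, map_pow, hf2]) <;>
      linear_combination (0) * h2
  · (try simp only [map_add, map_mul, map_zero, map_pow, hf2]) <;>
      linear_combination (0) * h2
  · (try simp only [map_add, map_mul, map_zero, map_pow, hf2]) <;>
      linear_combination (0) * h2

include hf2 in
theorem reorder_76543 (a b c d e : K) :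
    tY7 f a * (tY6 f 0 b * (tY5 f c * (tY4 f 0 d * (tY3 f e)))) =
      tw8 f 0 0 0 e 0 d c 0 b a 0 0 := by
  have h2 := two_eq_zero' (K := K)
  apply eq_of_mul_fw24
  simp only [tw8, tY1, tY2, tY3, tY4, tY5, tY6, tY7, tY8, mul_assoc]
  conv_lhs => rw [fl43_24, fl38_24, fl47_24, fl44_24, fl41_24, fl29_24, fl45_24, fl39_24, fl46_24, fl40_24, fl31_24, fl35_24, fl32_24, fl37_24]
  conv_rhs => rw [fl30_24, fl28_24, fl25_24, fl27_24, fl32_24, fl37_24, fl46_24, fl40_24, fl31_24, fl35_24, fl45_24, fl39_24, fl47_24, fl44_24, fl41_24, fl29_24, fl43_24, fl38_24, fl42_24, fl36_24, fl26_24, fl34_24, fl24_24, fl33_24]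
  apply fw24_congr
  · (try simp only [map_add, map_mul, map_zero, map_pow, hf2]) <;>
      linear_combination (0) * h2
  · (try simp only [map_add, map_mul, map_zero, map_pow, hf2]) <;>
      linear_combination (0) * h2
  · (try simp only [map_add, map_mul, map_zero, map_pow, hf2]) <;>
      linear_combination (0) * h2
  · (try simp only [map_add, map_mul, map_zero, map_pow, hf2]) <;>
      linear_combination (0) * h2
  · (try simp only [map_add, map_mul, map_zero, map_pow, hf2]) <;>
      linear_combination (0) * h2
  · (try simp only [map_add, map_mul, map_zero, map_pow, hf2]) <;>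
      linear_combination (0) * h2
  · (try simp only [map_add, map_mul, map_zero, map_pow, hf2]) <;>
      linear_combination (0) * h2
  · (try simp only [map_add, map_mul, map_zero, map_pow, hf2]) <;>
      linear_combination (0) * h2
  · (try simp only [map_add, map_mul, map_zero, map_pow, hf2]) <;>
      linear_combination (0) * h2
  · (try simp only [map_add, map_mul, map_zero, map_pow, hf2]) <;>
      linear_combination (0) * h2
  · (try simp only [map_add, map_mul, map_zero, map_pow, hf2]) <;>
      linear_combination (0) * h2
  · (try simp only [map_add, map_mul, map_zero, map_pow, hf2]) <;>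
      linear_combination (0) * h2
  · (try simp only [map_add, map_mul, map_zero, map_pow, hf2]) <;>
      linear_combination (0) * h2
  · (try simp only [map_add, map_mul, map_zero, map_pow, hf2]) <;>
      linear_combination (0) * h2
  · (try simp only [map_add, map_mul, map_zero, map_pow, hf2]) <;>
      linear_combination (0) * h2
  · (try simp only [map_add, map_mul, map_zero, map_pow, hf2]) <;>
      linear_combination (0) * h2
  · (try simp only [map_add, map_mul, map_zero, map_pow, hf2]) <;>
      linear_combination (0) * h2
  · (try simp only [map_add, map_mul, map_zero, map_pow, hf2]) <;>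
      linear_combination (0) * h2
  · (try simp only [map_add, map_mul, map_zero, map_pow, hf2]) <;>
      linear_combination (0) * h2
  · (try simp only [map_add, map_mul, map_zero, map_pow, hf2]) <;>
      linear_combination (0) * h2
  · (try simp only [map_add, map_mul, map_zero, map_pow, hf2]) <;>
      linear_combination (0) * h2
  · (try simp only [map_add, map_mul, map_zero, map_pow, hf2]) <;>
      linear_combination (0) * h2
  · (try simp only [map_add, map_mul, map_zero, map_pow, hf2]) <;>
      linear_combination (0) * h2
  · (try simp only [map_add, map_mul, map_zero, map_pow, hf2]) <;>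
      linear_combination (0) * h2

include hf2 in
theorem reorder_65432 (a b c d e : K) :
    tY6 f 0 a * (tY5 f b * (tY4 f 0 c * (tY3 f d * (tY2 f 0 e)))) =
      tw8 f 0 0 e d 0 c b 0 a 0 0 0 := by
  have h2 := two_eq_zero' (K := K)
  apply eq_of_mul_fw24
  simp only [tw8, tY1, tY2, tY3, tY4, tY5, tY6, tY7, tY8, mul_assoc]
  conv_lhs => rw [fl42_24, fl36_24, fl26_24, fl34_24, fl43_24, fl38_24, fl47_24, fl44_24, fl41_24, fl29_24, fl45_24, fl39_24, fl46_24, fl40_24, fl31_24, fl35_24]
  conv_rhs => rw [fl30_24, fl28_24, fl25_24, fl27_24, fl32_24, fl37_24, fl46_24, fl40_24, fl31_24, fl35_24, fl45_24, fl39_24, fl47_24, fl44_24, fl41_24, fl29_24, fl43_24, fl38_24, fl42_24, fl36_24, fl26_24, fl34_24, fl24_24, fl33_24]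
  apply fw24_congr
  · (try simp only [map_add, map_mul, map_zero, map_pow, hf2]) <;>
      linear_combination (0) * h2
  · (try simp only [map_add, map_mul, map_zero, map_pow, hf2]) <;>
      linear_combination (0) * h2
  · (try simp only [map_add, map_mul, map_zero, map_pow, hf2]) <;>
      linear_combination (0) * h2
  · (try simp only [map_add, map_mul, map_zero, map_pow, hf2]) <;>
      linear_combination (0) * h2
  · (try simp only [map_add, map_mul, map_zero, map_pow, hf2]) <;>
      linear_combination (0) * h2
  · (try simp only [map_add, map_mul, map_zero, map_pow, hf2]) <;>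
      linear_combination (0) * h2
  · (try simp only [map_add, map_mul, map_zero, map_pow, hf2]) <;>
      linear_combination (0) * h2
  · (try simp only [map_add, map_mul, map_zero, map_pow, hf2]) <;>
      linear_combination (0) * h2
  · (try simp only [map_add, map_mul, map_zero, map_pow, hf2]) <;>
      linear_combination (0) * h2
  · (try simp only [map_add, map_mul, map_zero, map_pow, hf2]) <;>
      linear_combination (0) * h2
  · (try simp only [map_add, map_mul, map_zero, map_pow, hf2]) <;>
      linear_combination (0) * h2
  · (try simp only [map_add, map_mul, map_zero, map_pow, hf2]) <;>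
      linear_combination (0) * h2
  · (try simp only [map_add, map_mul, map_zero, map_pow, hf2]) <;>
      linear_combination (0) * h2
  · (try simp only [map_add, map_mul, map_zero, map_pow, hf2]) <;>
      linear_combination (0) * h2
  · (try simp only [map_add, map_mul, map_zero, map_pow, hf2]) <;>
      linear_combination (0) * h2
  · (try simp only [map_add, map_mul, map_zero, map_pow, hf2]) <;>
      linear_combination (0) * h2
  · (try simp only [map_add, map_mul, map_zero, map_pow, hf2]) <;>
      linear_combination (0) * h2
  · (try simp only [map_add, map_mul, map_zero, map_pow, hf2]) <;>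
      linear_combination (0) * h2
  · (try simp only [map_add, map_mul, map_zero, map_pow, hf2]) <;>
      linear_combination (0) * h2
  · (try simp only [map_add, map_mul, map_zero, map_pow, hf2]) <;>
      linear_combination (0) * h2
  · (try simp only [map_add, map_mul, map_zero, map_pow, hf2]) <;>
      linear_combination (0) * h2
  · (try simp only [map_add, map_mul, map_zero, map_pow, hf2]) <;>
      linear_combination (0) * h2
  · (try simp only [map_add, map_mul, map_zero, map_pow, hf2]) <;>
      linear_combination (0) * h2
  · (try simp only [map_add, map_mul, map_zero, map_pow, hf2]) <;>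
      linear_combination (0) * h2

end Cfsg.Agent.Helper7.Chev
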