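import Mathlib
import Cfsg.Agent.Helper7.F4InvG

set_option autoImplicit false
set_option linter.unusedSectionVars false
set_option linter.unusedVariables false
set_option maxHeartbeats 1000000
set_option linter.unusedSimpArgs false

/-!
`²F₄`: conjugation of normal forms by twisted root elements, as conjugacy in the twisted group (generated text).
-/

namespace Cfsg.Agent.Helper7.Chev

open Cfsg Cfsg.Lie Matrix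
open scoped Pointwise

variable {K : Type*} [Field K] [CharP K 2] {m : ℕ} (hm : ∀ t : K, t ^ 2 ^ (2 * m + 1) = t)

local notation "φ" => f4Th K (m + 1)

include hm in
theorem mv1 (s p1 v2 w2 p3 v4 w4 p5 v6 w6 p7 v8 w8 : K) :
    ConjF m (tw8 φ p1 v2 w2 p3 v4 w4 p5 v6 w6 p7 v8 w8)
      (tw8 φ p1 (s * v8 + v2) (s * φ s * w8 + s * v4 + φ s * v2 * φ v8 + φ s * v6 + w2) (p3 + p7 * φ s + s * φ s * v8 * w8 + s * φ s * v8 ^ 2 * φ v8 + s * φ s * φ w8 + s * v4 * v8 + s * φ v6) (φ s * w8 + v4) (p5 * s * v8 + p7 * s * φ s * v8 * φ v8 + p7 * s * φ s * w8 + p7 * φ s * v6 + φ p7 * s ^ 2 * v8 + s * φ s * v6 * v8 * w8 + s * φ s * v6 * v8 ^ 2 * φ v8 + s * φ s * v6 * φ w8 + s * w6 + s ^ 2 * φ s * v8 * φ v8 * φ w8 + s ^ 2 * φ s * v8 * w8 ^ 2 + s ^ 2 * φ s * v8 ^ 3 * (φ v8) ^ 2 + s ^ 2 * φ s *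 w8 * φ w8 + s ^ 2 * v4 * φ w8 + w4) (p5 + p7 * φ s * φ v8 + φ p7 * s + s * φ s * v8 ^ 2 * (φ v8) ^ 2 + s * φ s * φ v8 * φ w8 + s * φ s * w8 ^ 2 + φ s * v6 * w8) (s * v8 * φ v8 + s * w8 + v6) (p7 * φ s * w8 + φ p7 * s * v8 + s * φ s * v8 * φ v8 * φ w8 + s * φ s * v8 * w8 ^ 2 + s * φ s * v8 ^ 3 * (φ v8) ^ 2 + φ s * v6 * v8 ^ 2 * φ v8 + φ s * v6 * φ w8 + w6) (p7 + s * v8 * w8 + s * v8 ^ 2 * φ v8 + s * φ w8) v8 w8) :=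
  ConjF.of_mul_eq (tY1_mem hm s) (cj1 φ (f4Ph_f4Ph hm) s p1 v2 w2 p3 v4 w4 p5 v6 w6 p7 v8 w8)

include hm in
theorem mv2v (s p1 v2 w2 p3 v4 w4 p5 v6 w6 p7 v8 w8 : K) :
    ConjF m (tw8 φ p1 v2 w2 p3 v4 w4 p5 v6 w6 p7 v8 w8)
      (tw8 φ p1 v2 (s * φ v2 + φ s * v2 + w2) (p3 + s * v4) (φ s * v8 + v4) (p5 * s + s ^ 2 * φ s * w8 + s ^ 2 * v4 * φ v8 + w4) (p5 + p7 * φ s + s * φ s * v8 * φ v8 + s * φ s * w8 + φ s * v6 * v8) (s * φ v8 + v6) (p7 * φ s * v8 + φ p7 * s + s * φ s * v8 * w8 + s * φ s * v8 ^ 2 * φ v8 + φ s * v6 * v8 ^ 2 + w6) (p7 + s * w8) v8 w8) :=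
  ConjF.of_mul_eq (tY2_mem hm s 0) (cj2v φ (f4Ph_f4Ph hm) s p1 v2 w2 p3 v4 w4 p5 v6 w6 p7 v8 w8)

include hm in
theorem mv2w (s p1 v2 w2 p3 v4 w4 p5 v6 w6 p7 v8 w8 : K) :
    ConjF m (tw8 φ p1 v2 w2 p3 v4 w4 p5 v6 w6 p7 v8 w8)
      (tw8 φ p1 v2 w2 (p3 + s * v8) v4 (p7 * s + s * v6 * v8 + φ s * w8 + w4) (p5 + s * v8 * φ v8 + s * w8) v6 (s * v8 * w8 + s * v8 ^ 2 * φ v8 + s * φ w8 + w6) p7 v8 w8) :=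
  ConjF.of_mul_eq (tY2_mem hm 0 s) (cj2w φ (f4Ph_f4Ph hm) s p1 v2 w2 p3 v4 w4 p5 v6 w6 p7 v8 w8)

include hm in
theorem mv3 (s p1 v2 w2 p3 v4 w4 p5 v6 w6 p7 v8 w8 : K) :
    ConjF m (tw8 φ p1 v2 w2 p3 v4 w4 p5 v6 w6 p7 v8 w8)
      (tw8 φ p1 v2 w2 p3 v4 (s * v6 + φ s * v8 + w4) (p5 + s * φ v8) v6 (s * w8 + w6) p7 v8 w8) :=
  ConjF.of_mul_eq (tY3_mem hm s) (cj3 φ (f4Ph_f4Ph hm) s p1 v2 w2 p3 v4 w4 p5 v6 w6 p7 v8 w8)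

include hm in
theorem mv4v (s p1 v2 w2 p3 v4 w4 p5 v6 w6 p7 v8 w8 : K) :
    ConjF m (tw8 φ p1 v2 w2 p3 v4 w4 p5 v6 w6 p7 v8 w8)
      (tw8 φ p1 v2 (p1 * s + w2) (p3 + s * v2) v4 (s * φ v4 + φ s * v4 + w4) (p5 + s * v6) v6 (p7 * s + w6) p7 v8 w8) :=
  ConjF.of_mul_eq (tY4_mem hm s 0) (cj4v φ (f4Ph_f4Ph hm) s p1 v2 w2 p3 v4 w4 p5 v6 w6 p7 v8 w8)

include hm in
theorem mv4w (s p1 v2 w2 p3 v4 w4 p5 v6 w6 p7 v8 w8 : K) :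
    ConjF m (tw8 φ p1 v2 w2 p3 v4 w4 p5 v6 w6 p7 v8 w8)
      (tw8 φ p1 v2 w2 p3 v4 w4 p5 v6 w6 p7 v8 w8) :=
  ConjF.of_mul_eq (tY4_mem hm 0 s) (cj4w φ (f4Ph_f4Ph hm) s p1 v2 w2 p3 v4 w4 p5 v6 w6 p7 v8 w8)

include hm in
theorem mv5 (s p1 v2 w2 p3 v4 w4 p5 v6 w6 p7 v8 w8 : K) :
    ConjF m (tw8 φ p1 v2 w2 p3 v4 w4 p5 v6 w6 p7 v8 w8)
      (tw8 φ p1 v2 w2 p3 v4 (s * v2 + w4) p5 v6 (s * v8 + w6) p7 v8 w8) :=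
  ConjF.of_mul_eq (tY5_mem hm s) (cj5 φ (f4Ph_f4Ph hm) s p1 v2 w2 p3 v4 w4 p5 v6 w6 p7 v8 w8)

include hm in
theorem mv6v (s p1 v2 w2 p3 v4 w4 p5 v6 w6 p7 v8 w8 : K) :
    ConjF m (tw8 φ p1 v2 w2 p3 v4 w4 p5 v6 w6 p7 v8 w8)
      (tw8 φ p1 v2 (φ p1 * s + w2) (p1 * φ s + p3) v4 (p3 * s + w4) (p5 + s * v4) v6 (s * φ v6 + φ s * v6 + w6) (p7 + s * v8) v8 w8) :=
  ConjF.of_mul_eq (tY6_mem hm s 0) (cj6v φ (f4Ph_f4Ph hm) s p1 v2 w2 p3 v4 w4 p5 v6 w6 p7 v8 w8)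

include hm in
theorem mv6w (s p1 v2 w2 p3 v4 w4 p5 v6 w6 p7 v8 w8 : K) :
    ConjF m (tw8 φ p1 v2 w2 p3 v4 w4 p5 v6 w6 p7 v8 w8)
      (tw8 φ p1 v2 w2 p3 v4 (p1 * s + w4) p5 v6 w6 p7 v8 w8) :=
  ConjF.of_mul_eq (tY6_mem hm 0 s) (cj6w φ (f4Ph_f4Ph hm) s p1 v2 w2 p3 v4 w4 p5 v6 w6 p7 v8 w8)

include hm in
theorem mv7 (s p1 v2 w2 p3 v4 w4 p5 v6 w6 p7 v8 w8 : K) :
    ConjF m (tw8 φ p1 v2 w2 p3 v4 w4 p5 v6 w6 p7 v8 w8)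
      (tw8 φ p1 v2 w2 (φ p1 * s + p3) v4 (p1 * φ s * v2 + s * v2 * φ v2 + s * w2 + w4) (p1 * φ s + p5 + s * φ v2) v6 (s * v4 + φ s * v2 + w6) p7 v8 w8) :=
  ConjF.of_mul_eq (tY7_mem hm s) (cj7 φ (f4Ph_f4Ph hm) s p1 v2 w2 p3 v4 w4 p5 v6 w6 p7 v8 w8)

include hm in
theorem mv8v (s p1 v2 w2 p3 v4 w4 p5 v6 w6 p7 v8 w8 : K) :
    ConjF m (tw8 φ p1 v2 w2 p3 v4 w4 p5 v6 w6 p7 v8 w8)
      (tw8 φ p1 (p1 * s + v2) (p1 * s * φ v2 + w2) (p1 * φ p1 * s ^ 2 * φ s + p3 + s * v2 * φ v2 + s * w2) (s * φ v2 + v4) (p1 * φ p1 * s ^ 2 * (φ s) ^ 2 * v2 + p1 * p3 * s * φ s + p1 ^ 2 * φ p1 * s ^ 3 * (φ s) ^ 2 + p3 * φ s * v2 + φ p3 * s + s * φ s * v2 * w2 + s * φ s * v2 ^ 2 * φ v2 + s * φ v2 * φ v4 + w4) (p1 * φ p1 * s ^ 2 * (φ s) ^ 2 + p1 * s * φ s * v4 + p3 * φ s + p5 + s * φ s * w2 + φ s * v2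 * v4) (p1 * s * φ s + φ s * v2 + v6) (p1 * φ p1 * s ^ 3 * (φ s) ^ 2 + p1 * s * φ s * φ v6 + p1 * s ^ 2 * φ s * v4 + φ p1 * s ^ 2 * (φ s) ^ 2 * v2 + p5 * s + s ^ 2 * φ s * w2 + φ s * v2 * φ v6 + w6) (p1 * s ^ 2 * φ s + p7 + s * v6) v8 (s * φ v8 + φ s * v8 + w8)) :=
  ConjF.of_mul_eq (tY8_mem hm s 0) (cj8v φ (f4Ph_f4Ph hm) s p1 v2 w2 p3 v4 w4 p5 v6 w6 p7 v8 w8)

include hm in
theorem mv8w (s p1 v2 w2 p3 v4 w4 p5 v6 w6 p7 v8 w8 : K) :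
    ConjF m (tw8 φ p1 v2 w2 p3 v4 w4 p5 v6 w6 p7 v8 w8)
      (tw8 φ p1 v2 (p1 * φ p1 * s + w2) (p1 * φ p1 * φ s + φ p1 * s * v2 + p3) (φ p1 * s + v4) (p1 * φ p1 * s ^ 2 * v2 + p1 * p3 * s + p1 * φ s * v2 * φ v2 + p1 * φ s * w2 + p1 ^ 2 * φ p1 * s * φ s + φ p1 * s * φ v4 + s * v2 * w2 + s * v2 ^ 2 * φ v2 + s * φ w2 + w4) (p1 * φ p1 * s ^ 2 + p1 * s * v4 + p1 * φ s * φ v2 + p5 + s * w2) (p1 * s + v6) (p1 * s * φ v6 + p1 * φ s * v4 + φ p1 * s ^ 2 * v2 + p3 * s + s * v2 * v4 + φ s * v2 * φ v2 + φ s * w2 + w6) (p1 * φ s + p7 + s * v2) v8 w8) :=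
  ConjF.of_mul_eq (tY8_mem hm 0 s) (cj8w φ (f4Ph_f4Ph hm) s p1 v2 w2 p3 v4 w4 p5 v6 w6 p7 v8 w8)

include hm in
theorem exI1 (s p1 v2 w2 p3 v4 w4 p5 v6 w6 p7 : K) :
    ∃ w2' p3' v4' w4' p5' v6' w6' p7' : K,
      ConjF m (tw8 φ p1 v2 w2 p3 v4 w4 p5 v6 w6 p7 0 0)
        (tw8 φ p1 (p1 * s + v2) w2' p3' v4' w4' p5' v6' w6' p7' 0 0) := by
  refine ⟨(p1 * s * φ v2 + w2), (p1 * φ p1 * s ^ 2 * φ s + p3 + s * v2 * φ v2 + s * w2), (s * φ v2 + v4), (p1 * φ p1 * s ^ 2 * (φ s) ^ 2 * v2 + p1 * p3 * s * φ s + p1 ^ 2 * φ p1 * s ^ 3 * (φ s) ^ 2 + p3 * φ s * v2 + φ p3 * s + s * φ s * v2 * w2 + s * φ s * v2 ^ 2 * φ v2 + s * φ v2 * φ v4 + w4), (p1 * φ p1 * s ^ 2 * (φ s) ^ 2 + p1 * s * φ s * v4 + p3 * φ s + p5 + s * φ s * w2 + φ s * v2 * v4), (p1 * s * φ s + φ s * v2 + v6), (p1 * φ p1 * s ^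 3 * (φ s) ^ 2 + p1 * s * φ s * φ v6 + p1 * s ^ 2 * φ s * v4 + φ p1 * s ^ 2 * (φ s) ^ 2 * v2 + p5 * s + s ^ 2 * φ s * w2 + φ s * v2 * φ v6 + w6), (p1 * s ^ 2 * φ s + p7 + s * v6), ?_⟩
  refine (mv8v hm s p1 v2 w2 p3 v4 w4 p5 v6 w6 p7 0 0).trans (ConjF.of_eq ?_)
  apply tw8_congr <;> (try simp only [map_zero]) <;> ring

include hm in
theorem exI2 (s p1 w2 p3 v4 w4 p5 v6 w6 p7 : K) :
    ∃ w2' p3' v4' w4' p5' w6' p7' : K,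
      ConjF m (tw8 φ p1 0 w2 p3 v4 w4 p5 v6 w6 p7 0 0)
        (tw8 φ p1 0 w2' p3' v4' w4' p5' (p1 * s + v6) w6' p7' 0 0) := by
  refine ⟨(p1 * φ p1 * s + w2), (p1 * φ p1 * φ s + p3), (φ p1 * s + v4), (p1 * p3 * s + p1 * φ s * w2 + p1 ^ 2 * φ p1 * s * φ s + φ p1 * s * φ v4 + s * φ w2 + w4), (p1 * φ p1 * s ^ 2 + p1 * s * v4 + p5 + s * w2), (p1 * s * φ v6 + p1 * φ s * v4 + p3 * s + φ s * w2 + w6), (p1 * φ s + p7), ?_⟩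
  refine (mv8w hm s p1 0 w2 p3 v4 w4 p5 v6 w6 p7 0 0).trans (ConjF.of_eq ?_)
  apply tw8_congr <;> (try simp only [map_zero]) <;> ring

include hm in
theorem exI4 (s p1 w2 p3 w4 p5 : K) :
    ∃ w2' p3' w4' : K,
      ConjF m (tw8 φ p1 0 w2 p3 0 w4 p5 0 0 0 0 0)
        (tw8 φ p1 0 w2' p3' 0 w4' (p1 * φ s + p5) 0 0 0 0 0) := by
  refine ⟨w2, (φ p1 * s + p3), (s * w2 + w4), ?_⟩
  refine (mv7 hm s p1 0 w2 p3 0 w4 p5 0 0 0 0 0).trans (ConjF.of_eq ?_)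
  apply tw8_congr <;> (try simp only [map_zero]) <;> ring

include hm in
theorem exI5 (s p1 w2 p3 w4 : K) :
    ∃ w2' w4' : K,
      ConjF m (tw8 φ p1 0 w2 p3 0 w4 0 0 0 0 0 0)
        (tw8 φ p1 0 w2' (p1 * φ s + p3) 0 w4' 0 0 0 0 0 0) := by
  refine ⟨(φ p1 * s + w2), (p3 * s + w4), ?_⟩
  refine (mv6v hm s p1 0 w2 p3 0 w4 0 0 0 0 0 0).trans (ConjF.of_eq ?_)
  apply tw8_congr <;> (try simp only [map_zero]) <;> ring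

include hm in
theorem exI6 (s p1 w2 w4 : K) :
    ConjF m (tw8 φ p1 0 w2 0 0 w4 0 0 0 0 0 0)
        (tw8 φ p1 0 (p1 * s + w2) 0 0 w4 0 0 0 0 0 0) := by
  refine (mv4v hm s p1 0 w2 0 0 w4 0 0 0 0 0 0).trans (ConjF.of_eq ?_)
  apply tw8_congr <;> (try simp only [map_zero]) <;> ring

include hm in
theorem exI7 (s p1 w4 : K) :
    ConjF m (tw8 φ p1 0 0 0 0 w4 0 0 0 0 0 0)
        (tw8 φ p1 0 0 0 0 (p1 * s + w4) 0 0 0 0 0 0) := by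
  refine (mv6w hm s p1 0 0 0 0 w4 0 0 0 0 0 0).trans (ConjF.of_eq ?_)
  apply tw8_congr <;> (try simp only [map_zero]) <;> ring

include hm in
theorem exIIa (s w2 p3 v4 w4 p5 v6 w6 p7 w8 : K) :
    ∃ w2' p3' v4' w4' p5' w6' p7' : K,
      ConjF m (tw8 φ 0 0 w2 p3 v4 w4 p5 v6 w6 p7 0 w8)
        (tw8 φ 0 0 w2' p3' v4' w4' p5' (s * w8 + v6) w6' p7' 0 w8) := by
  refine ⟨(s * φ s * w8 + s * v4 + φ s * v6 + w2), (p3 + p7 * φ s + s * φ s * φ w8 + s * φ v6), (φ s * w8 + v4), (p7 * s * φ s * w8 + p7 * φ s * v6 + s * φ s * v6 * φ w8 + s * w6 + s ^ 2 * φ s * w8 * φ w8 + s ^ 2 * v4 * φ w8 + w4), (p5 + φ p7 * s + s * φ s * w8 ^ 2 + φ s * v6 * w8), (p7 * φ s * w8 + φ s * v6 * φ w8 + w6), (p7 + s * φ w8), ?_⟩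
  refine (mv1 hm s 0 0 w2 p3 v4 w4 p5 v6 w6 p7 0 w8).trans (ConjF.of_eq ?_)
  apply tw8_congr <;> (try simp only [map_zero]) <;> ring

include hm in
theorem exA3a (s w4 p5 w6 : K) :
    ConjF m (tw8 φ 0 0 0 0 0 w4 p5 0 w6 0 0 0)
        (tw8 φ 0 0 0 0 0 w4 p5 0 (p5 * s + w6) 0 0 0) := by
  refine (mv8v hm s 0 0 0 0 0 w4 p5 0 w6 0 0 0).trans (ConjF.of_eq ?_)
  apply tw8_congr <;> (try simp only [map_zero]) <;> ring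

include hm in
theorem exA3b (s w4 w6 : K) :
    ConjF m (tw8 φ 0 0 0 0 0 w4 0 0 w6 0 0 0)
        (tw8 φ 0 0 0 0 0 (s * w6 + w4) 0 0 w6 0 0 0) := by
  refine (mv1 hm s 0 0 0 0 0 w4 0 0 w6 0 0 0).trans (ConjF.of_eq ?_)
  apply tw8_congr <;> (try simp only [map_zero]) <;> ring

include hm in
theorem exB2a (s w2 p3 w4 p5 w6 : K) :
    ∃ w4' p5' w6' : K,
      ConjF m (tw8 φ 0 0 w2 p3 0 w4 p5 0 w6 0 0 0)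
        (tw8 φ 0 0 w2 (p3 + s * w2) 0 w4' p5' 0 w6' 0 0 0) := by
  refine ⟨(φ p3 * s + w4), (p3 * φ s + p5 + s * φ s * w2), (p5 * s + s ^ 2 * φ s * w2 + w6), ?_⟩
  refine (mv8v hm s 0 0 w2 p3 0 w4 p5 0 w6 0 0 0).trans (ConjF.of_eq ?_)
  apply tw8_congr <;> (try simp only [map_zero]) <;> ring

include hm in
theorem exB2b (s w2 w4 p5 w6 : K) :
    ∃ w4' p5' : K,
      ConjF m (tw8 φ 0 0 w2 0 0 w4 p5 0 w6 0 0 0)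
        (tw8 φ 0 0 w2 0 0 w4' p5' 0 (φ s * w2 + w6) 0 0 0) := by
  refine ⟨(s * φ w2 + w4), (p5 + s * w2), ?_⟩
  refine (mv8w hm s 0 0 w2 0 0 w4 p5 0 w6 0 0 0).trans (ConjF.of_eq ?_)
  apply tw8_congr <;> (try simp only [map_zero]) <;> ring

end Cfsg.Agent.Helper7.Chev
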