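import Mathlib
import Cfsg.Agent.Helper7.F4InvH

set_option autoImplicit false
set_option linter.unusedSectionVars false
set_option linter.unusedVariables false
set_option maxHeartbeats 1000000

/-!
Involutions of `U¹` in `²F₄(q)`: every involution in normal form is conjugate to `x_P(1)` or to `x_S(0, 1)`.
-/

namespace Cfsg.Agent.Helper7.Chev

open Cfsg Cfsg.Lie Matrix
open scoped Pointwise

variable {K : Type*} [Field K] [CharP K 2] {m : ℕ} (hm : ∀ t : K, t ^ 2 ^ (2 * m + 1) = t)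

local notation "φ" => f4Th K (m + 1)

theorem conj_mul5 {G : Type*} [Group G] (n a b c d e : G) :
    n * (a * (b * (c * (d * e)))) * n⁻¹ =
      n * a * n⁻¹ * (n * b * n⁻¹ * (n * c * n⁻¹ * (n * d * n⁻¹ * (n * e * n⁻¹)))) := by
  group

include hm in
theorem nB_formA (p3 w4 p5 w6 p7 : K) :
    f4N2 K * tw8 φ 0 0 0 p3 0 w4 p5 0 w6 p7 0 0 * (f4N2 K)⁻¹ = tw8 φ p7 0 w6 p5 0 w4 p3 0 0 0 0 0 := by
  have e : tw8 φ 0 0 0 p3 0 w4 p5 0 w6 p7 0 0 =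
      tY3 φ p3 * (tY4 φ 0 w4 * (tY5 φ p5 * (tY6 φ 0 w6 * tY7 φ p7))) := by
    unfold tw8; rw [tY1_zero, tY2_zero, tY8_zero, one_mul, one_mul, mul_one]
  rw [e, conj_mul5, nB_tY3, nB_tY4, nB_tY5, nB_tY6, nB_tY7]
  exact reorder_54321 φ (f4Ph_f4Ph hm) p3 w4 p5 w6 p7

include hm in
theorem nA_formA (p3 w4 p5 w6 p7 : K) :
    f4N1 K * tw8 φ 0 0 0 p3 0 w4 p5 0 w6 p7 0 0 * (f4N1 K)⁻¹ = tw8 φ 0 0 0 p7 0 w6 p5 0 w4 p3 0 0 := by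
  have e : tw8 φ 0 0 0 p3 0 w4 p5 0 w6 p7 0 0 =
      tY3 φ p3 * (tY4 φ 0 w4 * (tY5 φ p5 * (tY6 φ 0 w6 * tY7 φ p7))) := by
    unfold tw8; rw [tY1_zero, tY2_zero, tY8_zero, one_mul, one_mul, mul_one]
  rw [e, conj_mul5, nA_tY3, nA_tY4, nA_tY5, nA_tY6, nA_tY7]
  exact reorder_76543 φ (f4Ph_f4Ph hm) p3 w4 p5 w6 p7

include hm in
theorem nB_formB (w2 p3 w4 p5 w6 : K) :
    f4N2 K * tw8 φ 0 0 w2 p3 0 w4 p5 0 w6 0 0 0 * (f4N2 K)⁻¹ = tw8 φ 0 0 w6 p5 0 w4 p3 0 w2 0 0 0 := by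
  have e : tw8 φ 0 0 w2 p3 0 w4 p5 0 w6 0 0 0 =
      tY2 φ 0 w2 * (tY3 φ p3 * (tY4 φ 0 w4 * (tY5 φ p5 * tY6 φ 0 w6))) := by
    unfold tw8; rw [tY1_zero, tY7_zero, tY8_zero, one_mul, mul_one, mul_one]
  rw [e, conj_mul5, nB_tY2, nB_tY3, nB_tY4, nB_tY5, nB_tY6]
  exact reorder_65432 φ (f4Ph_f4Ph hm) w2 p3 w4 p5 w6

include hm in
theorem nA_formC (w4 p5 w6 p7 w8 : K) :
    f4N1 K * tw8 φ 0 0 0 0 0 w4 p5 0 w6 p7 0 w8 * (f4N1 K)⁻¹ = tw8 φ 0 0 w8 p7 0 w6 p5 0 w4 0 0 0 := by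
  have e : tw8 φ 0 0 0 0 0 w4 p5 0 w6 p7 0 w8 =
      tY4 φ 0 w4 * (tY5 φ p5 * (tY6 φ 0 w6 * (tY7 φ p7 * tY8 φ 0 w8))) := by
    unfold tw8; rw [tY1_zero, tY2_zero, tY3_zero, one_mul, one_mul, one_mul]
  rw [e, conj_mul5, nA_tY4, nA_tY5, nA_tY6, nA_tY7, nA_tY8]
  exact reorder_65432 φ (f4Ph_f4Ph hm) w4 p5 w6 p7 w8

include hm in
/-- The conditions for a normal form (with `v₈ = 0`) to be an involution. -/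
theorem invF_cond {p1 v2 w2 p3 v4 w4 p5 v6 w6 p7 w8 : K}
    (h : IsInvF m (tw8 φ p1 v2 w2 p3 v4 w4 p5 v6 w6 p7 0 w8)) :
    p1 * φ p1 * w8 + p1 * v4 + φ p1 * v6 + v2 * φ v2 = 0 ∧
    p1 * φ p1 * φ w8 + p1 * φ v6 + φ p1 * p7 + φ p1 * v2 * w8 + v2 * v4 = 0 ∧
    φ p1 * w8 = 0 ∧
    p1 * φ p1 * p7 * w8 + p1 * φ p1 * v2 * w8 ^ 2 + p1 * φ p1 * v6 * φ w8 + p1 * p3 * w8 + p1 * φ p7 * v2 +
      p1 * v2 * φ v2 * φ w8 + p1 * w2 * φ w8 + p1 * w6 + p1 ^ 2 * φ p1 * w8 * φ w8 + p1 ^ 2 * v4 * φ w8 +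
      φ p1 * p7 * v6 + φ p1 * v2 * v6 * w8 + φ p1 * φ v4 * w8 + p3 * v6 + p5 * v2 + p7 * v2 * φ v2 + p7 * w2 +
      v2 * w2 * w8 + v2 ^ 2 * φ v2 * w8 + v4 * φ v4 + φ w2 * w8 = 0 ∧
    p1 * φ p1 * w8 ^ 2 + p1 * φ p7 + p1 * φ v2 * φ w8 + p1 * v4 * w8 + φ p1 * v6 * w8 + p7 * φ v2 + v4 * v6 +
      w2 * w8 = 0 ∧
    p1 * w8 = 0 ∧
    p1 * v4 * φ w8 + p1 * φ v6 * w8 + φ p1 * p7 * w8 + φ p1 * v2 * w8 ^ 2 + φ p1 * v6 * φ w8 + p3 * w8 + p7 * v4 +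
      φ p7 * v2 + v2 * φ v2 * φ w8 + v2 * v4 * w8 + v6 * φ v6 + w2 * φ w8 = 0 ∧
    p1 * φ w8 + v2 * w8 = 0 := by
  obtain ⟨-, hsq, -⟩ := h
  rw [tw8_sq _ (f4Ph_f4Ph hm), ← tw8_zero φ] at hsq
  obtain ⟨-, -, h3, h4, h5, h6, h7, h8, h9, h10, -, -⟩ := tw8_inj _ (f4Ph_f4Ph hm) hsq
  simp only [map_zero] at h3 h4 h5 h6 h7 h8 h9 h10
  refine ⟨by linear_combination h3, by linear_combination h4, by linear_combination h5,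
    by linear_combination h6, by linear_combination h7, by linear_combination h8,
    by linear_combination h9, by linear_combination h10⟩

end Cfsg.Agent.Helper7.Chev
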