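import Mathlib
import Cfsg.Agent.Helper7.F4InvI

set_option autoImplicit false
set_option linter.unusedSectionVars false
set_option linter.unusedVariables false
set_option maxHeartbeats 1000000

/-!
Involutions of `U¹` in `²F₄(q)`: the case `p₁ ≠ 0`.
-/

namespace Cfsg.Agent.Helper7.Chev

open Cfsg Cfsg.Lie Matrix
open scoped Pointwise

variable {K : Type*} [Field K] [CharP K 2] {m : ℕ} (hm : ∀ t : K, t ^ 2 ^ (2 * m + 1) = t)

local notation "φ" => f4Th K (m + 1)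

theorem mul_div_add_self {a b : K} (ha : a ≠ 0) : a * (b / a) + b = 0 := by
  rw [mul_div_cancel₀ _ ha]
  exact add_self_char2 b

include hm in
theorem exists_phi_mul {a b : K} (ha : a ≠ 0) : ∃ s : K, a * φ s + b = 0 := by
  obtain ⟨s, hs⟩ := (f4Th_succ_bijective hm).2 (b / a)
  exact ⟨s, by rw [hs]; exact mul_div_add_self ha⟩

include hm in
theorem std_I7 {p1 w4 : K} (hp1 : p1 ≠ 0) : IsStdF m (tw8 φ p1 0 0 0 0 w4 0 0 0 0 0 0) := by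
  have hc := exI7 hm (w4 / p1) p1 w4
  rw [mul_div_add_self hp1, tw8_Y1] at hc
  exact IsStdF.of_conj hc (stdY1 hm hp1)

include hm in
theorem std_I6 {p1 w2 w4 : K} (hp1 : p1 ≠ 0) : IsStdF m (tw8 φ p1 0 w2 0 0 w4 0 0 0 0 0 0) := by
  have hc := exI6 hm (w2 / p1) p1 w2 w4
  rw [mul_div_add_self hp1] at hc
  exact IsStdF.of_conj hc (std_I7 hm hp1)

include hm in
theorem std_I5 {p1 w2 p3 w4 : K} (hp1 : p1 ≠ 0) : IsStdF m (tw8 φ p1 0 w2 p3 0 w4 0 0 0 0 0 0) := by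
  obtain ⟨s, hs⟩ := exists_phi_mul hm (b := p3) hp1
  obtain ⟨w2', w4', hc⟩ := exI5 hm s p1 w2 p3 w4
  rw [hs] at hc
  exact IsStdF.of_conj hc (std_I6 hm hp1)

include hm in
theorem std_I4 {p1 w2 p3 w4 p5 : K} (hp1 : p1 ≠ 0) : IsStdF m (tw8 φ p1 0 w2 p3 0 w4 p5 0 0 0 0 0) := by
  obtain ⟨s, hs⟩ := exists_phi_mul hm (b := p5) hp1
  obtain ⟨w2', p3', w4', hc⟩ := exI4 hm s p1 w2 p3 w4 p5
  rw [hs] at hc
  exact IsStdF.of_conj hc (std_I5 hm hp1)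

include hm in
theorem std_I3 {p1 w2 p3 v4 w4 p5 w6 p7 : K} (hp1 : p1 ≠ 0)
    (h : IsInvF m (tw8 φ p1 0 w2 p3 v4 w4 p5 0 w6 p7 0 0)) :
    IsStdF m (tw8 φ p1 0 w2 p3 v4 w4 p5 0 w6 p7 0 0) := by
  obtain ⟨c2, c3, -, c4, -, -, -, -⟩ := invF_cond hm h
  have hfp1 : φ p1 ≠ 0 := (map_ne_zero _).mpr hp1
  simp only [map_zero, mul_zero, zero_mul, add_zero, zero_add] at c2 c3
  have hv4 : v4 = 0 := by
    rcases mul_eq_zero.mp c2 with h | h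
    · exact absurd h hp1
    · exact h
  have hp7 : p7 = 0 := by
    rcases mul_eq_zero.mp c3 with h | h
    · exact absurd h hfp1
    · exact h
  subst hv4 hp7
  simp only [map_zero, mul_zero, zero_mul, add_zero, zero_add] at c4
  have hw6 : w6 = 0 := by
    rcases mul_eq_zero.mp c4 with h | h
    · exact absurd h hp1
    · exact h
  subst hw6
  exact std_I4 hm hp1

include hm in
theorem std_I2 {p1 w2 p3 v4 w4 p5 v6 w6 p7 : K} (hp1 : p1 ≠ 0)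
    (h : IsInvF m (tw8 φ p1 0 w2 p3 v4 w4 p5 v6 w6 p7 0 0)) :
    IsStdF m (tw8 φ p1 0 w2 p3 v4 w4 p5 v6 w6 p7 0 0) := by
  obtain ⟨w2', p3', v4', w4', p5', w6', p7', hc⟩ := exI2 hm (v6 / p1) p1 w2 p3 v4 w4 p5 v6 w6 p7
  rw [mul_div_add_self hp1] at hc
  exact IsStdF.of_conj hc (std_I3 hm hp1 (IsInvF.of_conj hc h))

include hm in
theorem std_I1 {p1 v2 w2 p3 v4 w4 p5 v6 w6 p7 : K} (hp1 : p1 ≠ 0)
    (h : IsInvF m (tw8 φ p1 v2 w2 p3 v4 w4 p5 v6 w6 p7 0 0)) :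
    IsStdF m (tw8 φ p1 v2 w2 p3 v4 w4 p5 v6 w6 p7 0 0) := by
  obtain ⟨w2', p3', v4', w4', p5', v6', w6', p7', hc⟩ := exI1 hm (v2 / p1) p1 v2 w2 p3 v4 w4 p5 v6 w6 p7
  rw [mul_div_add_self hp1] at hc
  exact IsStdF.of_conj hc (std_I2 hm hp1 (IsInvF.of_conj hc h))

include hm in
/-- The case `p₁ ≠ 0`. -/
theorem std_I {p1 v2 w2 p3 v4 w4 p5 v6 w6 p7 w8 : K} (hp1 : p1 ≠ 0)
    (h : IsInvF m (tw8 φ p1 v2 w2 p3 v4 w4 p5 v6 w6 p7 0 w8)) :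
    IsStdF m (tw8 φ p1 v2 w2 p3 v4 w4 p5 v6 w6 p7 0 w8) := by
  obtain ⟨-, -, -, -, -, c6, -, -⟩ := invF_cond hm h
  have hw8 : w8 = 0 := by
    rcases mul_eq_zero.mp c6 with h | h
    · exact absurd h hp1
    · exact h
  subst hw8
  exact std_I1 hm hp1 h

end Cfsg.Agent.Helper7.Chev
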