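import Mathlib
import Cfsg.Agent.Helper7.F4InvJ

set_option autoImplicit false
set_option linter.unusedSectionVars false
set_option linter.unusedVariables false
set_option maxHeartbeats 1000000

/-!
Involutions of `U¹` in `²F₄(q)`: the case `p₁ = 0`, and the classification.
-/

namespace Cfsg.Agent.Helper7.Chev

open Cfsg Cfsg.Lie Matrix
open scoped Pointwise

variable {K : Type*} [Field K] [CharP K 2] {m : ℕ} (hm : ∀ t : K, t ^ 2 ^ (2 * m + 1) = t)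

local notation "φ" => f4Th K (m + 1)

include hm in
/-- The elementary abelian group `Y₃ Z₄ Y₅ Z₆ Y₇`, case `p₇ ≠ 0`. -/
theorem std_A1 {p3 w4 p5 w6 p7 : K} (hp7 : p7 ≠ 0)
    (h : IsInvF m (tw8 φ 0 0 0 p3 0 w4 p5 0 w6 p7 0 0)) :
    IsStdF m (tw8 φ 0 0 0 p3 0 w4 p5 0 w6 p7 0 0) := by
  have hc := conjF_nB (m := m) (tw8 φ 0 0 0 p3 0 w4 p5 0 w6 p7 0 0)
  rw [nB_formA hm] at hc
  exact IsStdF.of_conj hc (std_I hm hp7 (IsInvF.of_conj hc h))

include hm in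
/-- The elementary abelian group `Y₃ Z₄ Y₅ Z₆ Y₇`, case `p₃ ≠ 0`. -/
theorem std_A2 {p3 w4 p5 w6 p7 : K} (hp3 : p3 ≠ 0)
    (h : IsInvF m (tw8 φ 0 0 0 p3 0 w4 p5 0 w6 p7 0 0)) :
    IsStdF m (tw8 φ 0 0 0 p3 0 w4 p5 0 w6 p7 0 0) := by
  have hc := conjF_nA (m := m) (tw8 φ 0 0 0 p3 0 w4 p5 0 w6 p7 0 0)
  rw [nA_formA hm] at hc
  exact IsStdF.of_conj hc (std_A1 hm hp3 (IsInvF.of_conj hc h))

include hm in
/-- The elementary abelian group `Y₃ Z₄ Y₅ Z₆ Y₇`. -/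
theorem std_A {p3 w4 p5 w6 p7 : K}
    (h : IsInvF m (tw8 φ 0 0 0 p3 0 w4 p5 0 w6 p7 0 0)) :
    IsStdF m (tw8 φ 0 0 0 p3 0 w4 p5 0 w6 p7 0 0) := by
  by_cases hp7 : p7 = 0
  swap
  · exact std_A1 hm hp7 h
  by_cases hp3 : p3 = 0
  swap
  · exact std_A2 hm hp3 h
  subst hp7 hp3
  by_cases hp5 : p5 = 0
  · subst hp5
    by_cases hw6 : w6 = 0
    · subst hw6
      have hw4 : w4 ≠ 0 := by
        rintro rfl
        exact h.2.2 (tw8_zero φ)
      rw [tw8_Y4]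
      exact stdZ4 hm hw4
    · have hc := exA3b hm (w4 / w6) w4 w6
      rw [div_mul_cancel₀ _ hw6, add_self_char2, tw8_Y6] at hc
      exact IsStdF.of_conj hc (stdZ6 hm hw6)
  · have hc := exA3a hm (w6 / p5) w4 p5 w6
    rw [mul_div_add_self hp5] at hc
    refine IsStdF.of_conj hc ?_
    have h1 := IsInvF.of_conj hc h
    have hc2 := conjF_nB (m := m) (tw8 φ 0 0 0 0 0 w4 p5 0 0 0 0 0)
    rw [nB_formB hm] at hc2
    exact IsStdF.of_conj hc2 (std_A2 hm hp5 (IsInvF.of_conj hc2 h1))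

include hm in
/-- The elementary abelian group `Z₂ Y₃ Z₄ Y₅ Z₆`, case `w₆ = 0`. -/
theorem std_B1 {w2 p3 w4 p5 : K}
    (h : IsInvF m (tw8 φ 0 0 w2 p3 0 w4 p5 0 0 0 0 0)) :
    IsStdF m (tw8 φ 0 0 w2 p3 0 w4 p5 0 0 0 0 0) := by
  have hc := conjF_nB (m := m) (tw8 φ 0 0 w2 p3 0 w4 p5 0 0 0 0 0)
  rw [nB_formB hm] at hc
  exact IsStdF.of_conj hc (std_A hm (IsInvF.of_conj hc h))

include hm in
/-- The elementary abelian group `Z₂ Y₃ Z₄ Y₅ Z₆`. -/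
theorem std_B {w2 p3 w4 p5 w6 : K}
    (h : IsInvF m (tw8 φ 0 0 w2 p3 0 w4 p5 0 w6 0 0 0)) :
    IsStdF m (tw8 φ 0 0 w2 p3 0 w4 p5 0 w6 0 0 0) := by
  by_cases hw2 : w2 = 0
  · subst hw2
    exact std_A hm h
  -- kill `p₃`
  obtain ⟨w4', p5', w6', hc⟩ := exB2a hm (p3 / w2) w2 p3 w4 p5 w6
  rw [div_mul_cancel₀ _ hw2, add_self_char2] at hc
  refine IsStdF.of_conj hc ?_
  have h1 := IsInvF.of_conj hc h
  -- kill `w₆`
  obtain ⟨s, hs⟩ := (f4Th_succ_bijective hm).2 (w6' / w2)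
  obtain ⟨w4'', p5'', hc2⟩ := exB2b hm s w2 w4' p5' w6'
  rw [hs, div_mul_cancel₀ _ hw2, add_self_char2] at hc2
  exact IsStdF.of_conj hc2 (std_B1 hm (IsInvF.of_conj hc2 h1))

include hm in
/-- The case `p₁ = 0`, `w₈ = 0`. -/
theorem std_IIb {w2 p3 v4 w4 p5 v6 w6 p7 : K}
    (h : IsInvF m (tw8 φ 0 0 w2 p3 v4 w4 p5 v6 w6 p7 0 0)) :
    IsStdF m (tw8 φ 0 0 w2 p3 v4 w4 p5 v6 w6 p7 0 0) := by
  obtain ⟨-, -, -, c4, c5, -, c6, -⟩ := invF_cond hm h
  simp only [map_zero, mul_zero, zero_mul, add_zero, zero_add, ne_eq, OfNat.ofNat_ne_zero,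
    not_false_eq_true, zero_pow] at c4 c5 c6
  -- c4 : p3 * v6 + p7 * w2 + v4 * φ v4 = 0, c5 : v4 * v6 = 0, c6 : p7 * v4 + v6 * φ v6 = 0
  have hv4 : v4 = 0 := by
    by_contra hv4
    have hv6 : v6 = 0 := by
      rcases mul_eq_zero.mp c5 with h | h
      · exact absurd h hv4
      · exact h
    subst hv6
    simp only [map_zero, mul_zero, zero_mul, add_zero, zero_add, ne_eq, OfNat.ofNat_ne_zero,
    not_false_eq_true, zero_pow] at c4 c6
    have hp7 : p7 = 0 := by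
      rcases mul_eq_zero.mp c6 with h | h
      · exact h
      · exact absurd h hv4
    subst hp7
    simp only [zero_mul, zero_add] at c4
    rcases mul_eq_zero.mp c4 with h | h
    · exact hv4 h
    · exact hv4 ((map_eq_zero _).mp h)
  subst hv4
  simp only [map_zero, mul_zero, zero_mul, add_zero, zero_add, ne_eq, OfNat.ofNat_ne_zero,
    not_false_eq_true, zero_pow] at c4 c6
  have hv6 : v6 = 0 := by
    rcases mul_eq_zero.mp c6 with h | h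
    · exact h
    · exact (map_eq_zero _).mp h
  subst hv6
  simp only [mul_zero, zero_add] at c4
  by_cases hw2 : w2 = 0
  · subst hw2
    exact std_A hm h
  · have hp7 : p7 = 0 := by
      rcases mul_eq_zero.mp c4 with h | h
      · exact h
      · exact absurd h hw2
    subst hp7
    exact std_B hm h

include hm in
/-- The case `p₁ = 0`, `w₈ ≠ 0`, `v₆ = 0`. -/
theorem std_IIa' {w2 p3 v4 w4 p5 w6 p7 w8 : K} (hw8 : w8 ≠ 0)
    (h : IsInvF m (tw8 φ 0 0 w2 p3 v4 w4 p5 0 w6 p7 0 w8)) :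
    IsStdF m (tw8 φ 0 0 w2 p3 v4 w4 p5 0 w6 p7 0 w8) := by
  obtain ⟨-, -, -, c4, c5, -, c6, -⟩ := invF_cond hm h
  simp only [map_zero, mul_zero, zero_mul, add_zero, zero_add, ne_eq, OfNat.ofNat_ne_zero,
    not_false_eq_true, zero_pow] at c4 c5 c6
  -- c5 : w2 * w8 = 0
  have hw2 : w2 = 0 := by
    rcases mul_eq_zero.mp c5 with h | h
    · exact h
    · exact absurd h hw8
  subst hw2
  simp only [map_zero, mul_zero, zero_mul, add_zero, zero_add, ne_eq, OfNat.ofNat_ne_zero,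
    not_false_eq_true, zero_pow] at c4 c6
  have hv4 : v4 = 0 := by
    rcases mul_eq_zero.mp c4 with h | h
    · exact h
    · exact (map_eq_zero _).mp h
  subst hv4
  simp only [mul_zero, add_zero] at c6
  have hp3 : p3 = 0 := by
    rcases mul_eq_zero.mp c6 with h | h
    · exact h
    · exact absurd h hw8
  subst hp3
  have hc := conjF_nA (m := m) (tw8 φ 0 0 0 0 0 w4 p5 0 w6 p7 0 w8)
  rw [nA_formC hm] at hc
  exact IsStdF.of_conj hc (std_B hm (IsInvF.of_conj hc h))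

include hm in
/-- The case `p₁ = 0`. -/
theorem std_II {v2 w2 p3 v4 w4 p5 v6 w6 p7 w8 : K}
    (h : IsInvF m (tw8 φ 0 v2 w2 p3 v4 w4 p5 v6 w6 p7 0 w8)) :
    IsStdF m (tw8 φ 0 v2 w2 p3 v4 w4 p5 v6 w6 p7 0 w8) := by
  obtain ⟨c2, -, -, -, -, -, -, -⟩ := invF_cond hm h
  simp only [map_zero, mul_zero, zero_mul, add_zero, zero_add, ne_eq, OfNat.ofNat_ne_zero,
    not_false_eq_true, zero_pow] at c2
  have hv2 : v2 = 0 := by
    rcases mul_eq_zero.mp c2 with h | h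
    · exact h
    · exact (map_eq_zero _).mp h
  subst hv2
  by_cases hw8 : w8 = 0
  · subst hw8
    exact std_IIb hm h
  · obtain ⟨w2', p3', v4', w4', p5', w6', p7', hc⟩ := exIIa hm (v6 / w8) w2 p3 v4 w4 p5 v6 w6 p7 w8
    rw [div_mul_cancel₀ _ hw8, add_self_char2] at hc
    exact IsStdF.of_conj hc (std_IIa' hm hw8 (IsInvF.of_conj hc h))

include hm in
/-- Every involution of `U¹` is conjugate to `x_P(1)` or to `x_S(0, 1)`. -/
theorem stdF_of_inv {p1 v2 w2 p3 v4 w4 p5 v6 w6 p7 v8 w8 : K}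
    (h : IsInvF m (tw8 φ p1 v2 w2 p3 v4 w4 p5 v6 w6 p7 v8 w8)) :
    IsStdF m (tw8 φ p1 v2 w2 p3 v4 w4 p5 v6 w6 p7 v8 w8) := by
  have hv8 := invF_sq hm h
  subst hv8
  by_cases hp1 : p1 = 0
  · subst hp1
    exact std_II hm h
  · exact std_I hm hp1 h

end Cfsg.Agent.Helper7.Chev
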