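import Mathlib
import Cfsg.Agent.Helper7.F4InvK
import Cfsg.Agent.Helper7.ChevCharPA

set_option autoImplicit false
set_option linter.unusedSectionVars false
set_option linter.unusedVariables false
set_option maxHeartbeats 1000000

/-!
`²F₄(q)`: every element of order two is conjugate to `x_P(1)` or to `x_S(0, 1)`, and these two are not conjugate.
-/

namespace Cfsg.Agent.Helper7.Chev

open Cfsg Cfsg.Lie Matrix
open scoped Pointwise

section sylow

variable {K : Type*} [Field K] [Fintype K] [CharP K 2] {m : ℕ}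

/-- Every element of order two is conjugate to an element of `U¹`. -/
theorem f4_exists_conj_mem_U1 (hK : Fintype.card K = 2 ^ (2 * m + 1)) {x : GL chevF4.Idx K}
    (hx : x ∈ twistedF4 K (2 ^ m)) (ho : orderOf x = 2) :
    ∃ h ∈ twistedF4 K (2 ^ m), h * x * h⁻¹ ∈ chevF4.posUnipotent K ⊓ twistedF4 K (2 ^ m) := by
  haveI : Fact (Nat.Prime 2) := ⟨Nat.prime_two⟩
  set q : ℕ := 2 ^ (2 * m + 1) with hq
  set G := twistedF4 K (2 ^ m) with hGdef
  set U1 : Subgroup ↥G := (chevF4.posUnipotent K ⊓ G).subgroupOf G with hU1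
  have hcU : Nat.card ↥U1 = q ^ 12 := by
    rw [← f4_card_U hK]
    exact Nat.card_congr (Subgroup.subgroupOfEquivOfLe inf_le_right).toEquiv
  have hpU : IsPGroup 2 ↥U1 := by
    apply IsPGroup.of_card (n := (2 * m + 1) * 12)
    rw [hcU, hq, pow_mul]
  have hG : Nat.card ↥G = q ^ 12 * (q - 1) * (q ^ 3 + 1) * (q ^ 4 - 1) * (q ^ 6 + 1) := f4_card_twisted hK
  have hidx : ¬ 2 ∣ U1.index := by
    have h1 := U1.card_mul_index
    rw [hcU, hG, mul_assoc, mul_assoc, mul_assoc] at h1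
    have hq0 : 0 < q ^ 12 := by rw [hq]; positivity
    have h2 := Nat.eq_of_mul_eq_mul_left hq0 h1
    rw [h2]
    have h2q : 2 ∣ q := by rw [hq]; exact dvd_pow_self 2 (by omega)
    have hq1 : 1 ≤ q := by rw [hq]; exact Nat.one_le_two_pow
    have e3 : 2 ∣ q ^ 3 := dvd_pow h2q (by norm_num)
    have e4 : 2 ∣ q ^ 4 := dvd_pow h2q (by norm_num)
    have e6 : 2 ∣ q ^ 6 := dvd_pow h2q (by norm_num)
    have p4 : 1 ≤ q ^ 4 := Nat.one_le_pow _ _ hq1
    intro hd
    rcases (Nat.Prime.dvd_mul Nat.prime_two).mp hd with h | h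
    · omega
    · rcases (Nat.Prime.dvd_mul Nat.prime_two).mp h with h | h
      · omega
      · rcases (Nat.Prime.dvd_mul Nat.prime_two).mp h with h | h
        · omega
        · omega
  let P : Sylow 2 ↥G := hpU.toSylow hidx
  let x' : ↥G := ⟨x, hx⟩
  have ho' : orderOf x' = 2 := by
    rw [← ho]
    exact Subgroup.orderOf_mk x hx
  have hp : IsPGroup 2 (Subgroup.zpowers x') := by
    apply IsPGroup.of_card (n := 1)
    rw [Nat.card_zpowers, ho', pow_one]
  obtain ⟨Q, hQ⟩ := hp.exists_le_sylow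
  obtain ⟨h, hh⟩ := MulAction.exists_smul_eq ↥G Q P
  refine ⟨h.1, h.2, ?_⟩
  have hgQ : x' ∈ (Q : Subgroup ↥G) := hQ (Subgroup.mem_zpowers x')
  have : h * x' * h⁻¹ ∈ (P : Subgroup ↥G) := by
    rw [← hh, Sylow.coe_subgroup_smul]
    have := Subgroup.smul_mem_pointwise_smul x' (MulAut.conj h) _ hgQ
    rwa [MulAut.smul_def, MulAut.conj_apply] at this
  have hP : (P : Subgroup ↥G) = U1 := rfl
  rw [hP, hU1, Subgroup.mem_subgroupOf] at this
  simpa using this

/-- Every element of order two of `²F₄(q)` is conjugate to `x_P(1)` or to `x_S(0, 1)`. -/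
theorem stdF_of_order_two (hK : Fintype.card K = 2 ^ (2 * m + 1)) {x : GL chevF4.Idx K}
    (hx : x ∈ twistedF4 K (2 ^ m)) (ho : orderOf x = 2) : IsStdF m x := by
  have hm := pow_card_two hK
  obtain ⟨h, hh, hU⟩ := f4_exists_conj_mem_U1 hK hx ho
  obtain ⟨p1, v2, w2, p3, v4, w4, p5, v6, w6, p7, v8, w8, hu⟩ := exists_tw8 hK hU
  have hc : ConjF m x (tw8 (f4Th K (m + 1)) p1 v2 w2 p3 v4 w4 p5 v6 w6 p7 v8 w8) := ⟨h, hh, hu⟩
  refine IsStdF.of_conj hc ?_
  have hx2 : x * x = 1 := by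
    have := pow_orderOf_eq_one x
    rwa [ho, sq] at this
  have hx1 : x ≠ 1 := by
    rintro rfl
    rw [orderOf_one] at ho
    omega
  exact stdF_of_inv hm (IsInvF.of_conj hc ⟨hx, hx2, hx1⟩)

end sylow

section nonconj

variable {K : Type*} [Field K]

set_option maxRecDepth 1000000 in
theorem f4_w44_fast : ∀ w ∈ f4Wl,
    (25 ≤ fastF4.reflWord w 44 ∧ fastF4.reflWord w 44 < 48 ∧ 25 ≤ fastF4.reflWord w 47 ∧
      fastF4.reflWord w 47 < 48) ∨ (fastF4.reflWord w 44 < 24 ∧ fastF4.reflWord w 47 < 24) := by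
  decide +kernel

/-- `B` normalises every term of the filtration of `U`. -/
theorem f4_B_le_normalizer_Uge {k : ℕ} (hk : 24 ≤ k) :
    chevF4.borelSubgroup K ≤ Subgroup.normalizer (Uge chevF4 K k : Set (GL chevF4.Idx K)) := by
  refine sup_le ?_ (diagonalSubgroup_le_normalizer_Uge good3_F4.toGood2 k)
  rw [posUnipotent_eq_Uge T0_F4]
  exact Uge_le_normalizer_Uge good3_F4.toGood2 T0_F4 good3_F4.t3 good3_F4.t4 T26_F4 (le_refl _) hk

theorem fx_mem_Uge {k : ℕ} (r : Fin 48) (hkr : k ≤ r.val) (a : K) : fx K r a ∈ Uge chevF4 K k :=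
  Subgroup.subset_closure ⟨r.val, a, hkr, r.isLt, fx_coe r a⟩

theorem fx_eq_zero_of_mem_Uge (k : Fin 48) (hk1 : 24 ≤ k.val) {a : K}
    (h : fx K k a ∈ Uge chevF4 K (k.val + 1)) : a = 0 :=
  eq_zero_of_xGL_mem_Uge good3_F4.toGood2 T0_F4 T8_F4 hk1 k.isLt h

variable [Fintype K] [CharP K 2] {m : ℕ}

/-- The elements `x_S(0, s)` of the fourth root group are central in `U¹`. -/
theorem tY4_central (hK : Fintype.card K = 2 ^ (2 * m + 1)) {u : GL chevF4.Idx K}
    (hu : u ∈ chevF4.posUnipotent K ⊓ twistedF4 K (2 ^ m)) (s : K) :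
    tY4 (f4Th K (m + 1)) 0 s * u = u * tY4 (f4Th K (m + 1)) 0 s := by
  obtain ⟨p1, v2, w2, p3, v4, w4, p5, v6, w6, p7, v8, w8, rfl⟩ := exists_tw8 hK hu
  exact cj4w _ (f4Ph_f4Ph (pow_card_two hK)) s p1 v2 w2 p3 v4 w4 p5 v6 w6 p7 v8 w8

/-- The central involution `x_{44}(1) x_{47}(1)` of `U¹` is not conjugate to `x_P(1)`. -/
theorem not_conjF_Z4_Y1 (hK : Fintype.card K = 2 ^ (2 * m + 1)) :
    ¬ ConjF m (tY4 (f4Th K (m + 1)) 0 (1 : K)) (tY1 (f4Th K (m + 1)) 1) := by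
  have hm := pow_card_two hK
  rintro ⟨g, hgG, hconj⟩
  obtain ⟨w, hwW, u, hu, h, hh, u', hu', e⟩ :=
    exists_normal_form_fix good3_F4.toGood2 T0_F4 good3_F4.t3 good3_F4.t4 T5_F4 T6_F4 T8_F4 T9_F4
      (f4Tau_rootAut hm) (twistedF4_le_fixSub hm) (f4_posFix_le hm) (f4_fWList hm) hgG
  have hw : ∀ i ∈ w, i < chevF4.rank := f4Wl_lt w hwW
  have hu'U : u' ∈ chevF4.posUnipotent K ⊓ twistedF4 K (2 ^ m) := by
    rw [(f4_posUnipotent_inf hm).1]
    have := (mem_fM good3_F4.toGood2).mp hu'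
    exact ⟨this.1, this.2.1⟩
  set b : GL chevF4.Idx K := u * h with hb
  have hbB : b ∈ chevF4.borelSubgroup K :=
    mul_mem ((le_sup_left : chevF4.posUnipotent K ≤ chevF4.borelSubgroup K) hu.1)
      ((le_sup_right : chevF4.diagonalSubgroup K ≤ chevF4.borelSubgroup K) hh.1)
  set T : GL chevF4.Idx K := tY1 (f4Th K (m + 1)) 1 with hT
  set z : GL chevF4.Idx K := tY4 (f4Th K (m + 1)) 0 1 with hz
  set n : GL chevF4.Idx K := nWordGL good3_F4.toGood2 w with hn
  have hcz : z * u' = u' * z := tY4_central hK hu'U 1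
  have hmain : n * z * n⁻¹ = b⁻¹ * T * b := by
    have hconj' : g * z * g⁻¹ = T := hconj
    have e' : g = b * n * u' := e
    rw [← hconj', e']
    calc n * z * n⁻¹ = n * (z * u') * u'⁻¹ * n⁻¹ := by group
      _ = n * (u' * z) * u'⁻¹ * n⁻¹ := by rw [hcz]
      _ = _ := by group
  have hz' : z = fx K 44 1 * fx K 47 1 := by
    rw [hz]; unfold tY4
    rw [map_zero, map_one, zero_mul, zero_add, fx_zero, fx_zero, one_mul, one_mul]
  have hT' : T = fx K 33 1 * fx K 24 1 := by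
    rw [hT]; unfold tY1; rw [map_one]
  have hlist := f4_w44_fast w hwW
  rcases hlist with ⟨h1, h2, h3, h4⟩ | ⟨h1, h2⟩
  · -- both images are positive roots of index at least 25
    have c1 := conj_fx (K := K) hw 44 ⟨fastF4.reflWord w 44, h2⟩ rfl 1
    have c2 := conj_fx (K := K) hw 47 ⟨fastF4.reflWord w 47, h4⟩ rfl 1
    have hnz : n * z * n⁻¹ ∈ Uge chevF4 K 25 := by
      rw [hz', conj_mul2, hn, c1, c2]
      exact mul_mem (fx_mem_Uge _ h1 _) (fx_mem_Uge _ h3 _)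
    rw [hmain] at hnz
    have hT25 : T ∈ Uge chevF4 K 25 := by
      have := (Subgroup.mem_set_normalizer_iff.mp
        (f4_B_le_normalizer_Uge (K := K) (k := 25) (by norm_num) (inv_mem hbB)) T).mpr
      rw [inv_inv] at this
      exact this hnz
    have h24 : fx K 24 (1 : K) = (fx K 33 1)⁻¹ * T := by rw [hT']; group
    have : fx K 24 (1 : K) ∈ Uge chevF4 K 25 := by
      rw [h24]
      exact mul_mem (inv_mem (fx_mem_Uge 33 (by decide) _)) hT25
    exact one_ne_zero (fx_eq_zero_of_mem_Uge 24 (by decide) this)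
  · -- both images are negative roots
    have c1 := conj_fx (K := K) hw 44 ⟨fastF4.reflWord w 44, lt_trans h1 (by norm_num)⟩ rfl 1
    have c2 := conj_fx (K := K) hw 47 ⟨fastF4.reflWord w 47, lt_trans h2 (by norm_num)⟩ rfl 1
    have hnz : n * z * n⁻¹ ∈ chevF4.negUnipotent K := by
      rw [hz', conj_mul2, hn, c1, c2]
      exact mul_mem (fx_mem_neg h1 _) (fx_mem_neg h2 _)
    have hTU : T ∈ chevF4.posUnipotent K := by
      rw [hT']
      exact mul_mem (fx_mem_pos (by decide) _) (fx_mem_pos (by decide) _)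
    have hbTb : b⁻¹ * T * b ∈ chevF4.borelSubgroup K :=
      mul_mem (mul_mem (inv_mem hbB) ((le_sup_left : chevF4.posUnipotent K ≤ chevF4.borelSubgroup K) hTU))
        hbB
    have h1' : n * z * n⁻¹ ∈ chevF4.borelSubgroup K ⊓ chevF4.negUnipotent K := ⟨hmain ▸ hbTb, hnz⟩
    rw [borel_inf_negUnipotent good3_F4.toGood2 T0_F4, Subgroup.mem_bot] at h1'
    have hz1 : z = 1 := by
      calc z = n⁻¹ * (n * z * n⁻¹) * n := by group
        _ = 1 := by rw [h1']; group
    rw [hz, ← tw8_Y4, ← tw8_zero (f4Th K (m + 1))] at hz1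
    exact one_ne_zero (tw8_inj _ (f4Ph_f4Ph hm) hz1).2.2.2.2.2.1

end nonconj

end Cfsg.Agent.Helper7.Chev
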