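import Mathlib
import Cfsg.Agent.Helper7.F4InvL

set_option autoImplicit false
set_option linter.unusedSectionVars false
set_option linter.unusedVariables false
set_option maxHeartbeats 1000000

/-!
Products of root elements of `F₄` with distinct roots: the coefficients of the roots below `k` of a product
lying in `U_{≥ k}` vanish, also after conjugation by an element of `N`.
-/

namespace Cfsg.Agent.Helper7.Chev

open Cfsg Cfsg.Lie Matrix
open scoped Pointwise

section prod

variable {K : Type*} [Field K]

/-- The product of the root elements of a list of roots with coefficients. -/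
noncomputable def fxProd (L : List (Fin 48 × K)) : GL chevF4.Idx K :=
  (L.map fun p => fx K p.1 p.2).prod

theorem fxProd_nil : fxProd ([] : List (Fin 48 × K)) = 1 := rfl

theorem fxProd_cons (p : Fin 48 × K) (L : List (Fin 48 × K)) :
    fxProd (p :: L) = fx K p.1 p.2 * fxProd L := by
  unfold fxProd
  rw [List.map_cons, List.prod_cons]

theorem fxProd_append (L L' : List (Fin 48 × K)) : fxProd (L ++ L') = fxProd L * fxProd L' := by
  unfold fxProd
  rw [List.map_append, List.prod_append]

theorem fxProd_mem {H : Subgroup (GL chevF4.Idx K)} (L : List (Fin 48 × K))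
    (h : ∀ p ∈ L, fx K p.1 p.2 ∈ H) : fxProd L ∈ H := by
  induction L with
  | nil => exact one_mem _
  | cons p L ih =>
    rw [fxProd_cons]
    exact mul_mem (h p List.mem_cons_self) (ih fun q hq => h q (List.mem_cons_of_mem _ hq))

/-- The coefficients of the roots below `k` of a product of root elements with distinct positive roots lying in
`U_{≥ k}` vanish. -/
theorem peel_Uge {k : ℕ} (L : List (Fin 48 × K)) (hpos : ∀ p ∈ L, 24 ≤ p.1.val)
    (hnd : (L.map Prod.fst).Nodup) (hmem : fxProd L ∈ Uge chevF4 K k) :
    ∀ p ∈ L, p.1.val < k → p.2 = 0 := by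
  have key : ∀ j : ℕ, ∀ p ∈ L, p.1.val = j → j < k → p.2 = 0 := by
    intro j
    induction j using Nat.strong_induction_on with
    | _ j ih =>
      intro p hp hj hlt
      obtain ⟨L1, L2, rfl⟩ := List.append_of_mem hp
      have hnd' : p.1 ∉ (L1 ++ L2).map Prod.fst := by
        rw [List.map_append, List.map_cons] at hnd
        have := List.nodup_middle.mp hnd
        rw [List.map_append]
        exact (List.nodup_cons.mp this).1
      have hother : ∀ q ∈ L1 ++ L2, fx K q.1 q.2 ∈ Uge chevF4 K (j + 1) := by
        intro q hq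
        have hqL : q ∈ L1 ++ p :: L2 := by
          rcases List.mem_append.mp hq with h | h
          · exact List.mem_append_left _ h
          · exact List.mem_append_right _ (List.mem_cons_of_mem _ h)
        rcases lt_trichotomy q.1.val j with h | h | h
        · have := ih q.1.val h q hqL rfl (by omega)
          rw [this, fx_zero]
          exact one_mem _
        · exfalso
          apply hnd'
          have e : q.1 = p.1 := Fin.ext (by omega)
          rw [← e]
          exact List.mem_map_of_mem hq
        · exact fx_mem_Uge q.1 (by omega) q.2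
      have hA : fxProd L1 ∈ Uge chevF4 K (j + 1) :=
        fxProd_mem L1 fun q hq => hother q (List.mem_append_left _ hq)
      have hB : fxProd L2 ∈ Uge chevF4 K (j + 1) :=
        fxProd_mem L2 fun q hq => hother q (List.mem_append_right _ hq)
      have hg : fxProd (L1 ++ p :: L2) ∈ Uge chevF4 K (j + 1) := Uge_anti (by omega) hmem
      rw [fxProd_append, fxProd_cons] at hg
      have e : fx K p.1 p.2 = (fxProd L1)⁻¹ * (fxProd L1 * (fx K p.1 p.2 * fxProd L2)) * (fxProd L2)⁻¹ := by
        group
      have hp' : fx K p.1 p.2 ∈ Uge chevF4 K (p.1.val + 1) := by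
        rw [hj, e]
        exact mul_mem (mul_mem (inv_mem hA) hg) (inv_mem hB)
      exact fx_eq_zero_of_mem_Uge p.1 (hpos p hp) hp'
  intro p hp hlt
  exact key p.1.val p hp rfl hlt

/-- Root elements of roots of index at least `39` commute. -/
theorem f4_nil_ge39 : ∀ r s : Fin 48, 39 ≤ r.val → r.val < s.val → (r, s) ∈ f4NilPairs := by decide

variable [CharP K 2]

theorem fx_comm_ge39 {r s : Fin 48} (hr : 39 ≤ r.val) (hs : 39 ≤ s.val) (t u : K) :
    fx K r t * fx K s u = fx K s u * fx K r t := by
  rcases lt_trichotomy r.val s.val with h | h | h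
  · exact (fx_comm_of_nil (f4_nil_ge39 r s hr h) t u).symm
  · have e : r = s := Fin.ext h
    subst e
    rw [fx_add, fx_add, add_comm]
  · exact fx_comm_of_nil (f4_nil_ge39 s r hs h) u t

theorem fx_comm_fxProd {r : Fin 48} (hr : 39 ≤ r.val) (t : K) (L : List (Fin 48 × K))
    (hL : ∀ p ∈ L, 39 ≤ p.1.val) : fx K r t * fxProd L = fxProd L * fx K r t := by
  induction L with
  | nil => rw [fxProd_nil, mul_one, one_mul]
  | cons p L ih =>
    rw [fxProd_cons, ← mul_assoc, fx_comm_ge39 hr (hL p List.mem_cons_self), mul_assoc,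
      ih fun q hq => hL q (List.mem_cons_of_mem _ hq), mul_assoc]

/-- A product of commuting root elements, split along a predicate. -/
theorem fxProd_filter (P : Fin 48 × K → Bool) (L : List (Fin 48 × K)) (hL : ∀ p ∈ L, 39 ≤ p.1.val) :
    fxProd L = fxProd (L.filter P) * fxProd (L.filter fun p => !P p) := by
  induction L with
  | nil => simp [fxProd_nil]
  | cons p L ih =>
    have hL' : ∀ q ∈ L, 39 ≤ q.1.val := fun q hq => hL q (List.mem_cons_of_mem _ hq)
    have hp := hL p List.mem_cons_self
    rw [fxProd_cons, ih hL']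
    by_cases h : P p = true
    · rw [List.filter_cons_of_pos h, List.filter_cons_of_neg (by simp [h]), fxProd_cons, mul_assoc]
    · have h' : P p = false := by simpa using h
      rw [List.filter_cons_of_neg (by simp [h']), List.filter_cons_of_pos (by simp [h']), fxProd_cons,
        ← mul_assoc, fx_comm_fxProd hp p.2 _ (fun q hq => hL' q (List.mem_filter.mp hq).1), mul_assoc]

end prod

section conj

variable {K : Type*} [Field K] [CharP K 2]

/-- The image of a root under the element of the Weyl group of a word. -/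
def f4Img (w : List ℕ) (r : Fin 48) : Fin 48 :=
  if h : fastF4.reflWord w r.val < 48 then ⟨fastF4.reflWord w r.val, h⟩ else r

theorem f4Img_val {w : List ℕ} (hw : ∀ i ∈ w, i < chevF4.rank) (r : Fin 48) :
    (f4Img w r).val = fastF4.reflWord w r.val := by
  have h : fastF4.reflWord w r.val < 48 := by
    have := reflWord_lt good3_F4.toGood2 hw (s := r.val) r.2
    rwa [tab_F4] at this
  unfold f4Img
  rw [dif_pos h]

theorem f4Img_injective {w : List ℕ} (hw : ∀ i ∈ w, i < chevF4.rank) : Function.Injective (f4Img w) := by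
  intro r s h
  have h' := congrArg Fin.val h
  rw [f4Img_val hw, f4Img_val hw, ← tab_F4] at h'
  exact Fin.ext (reflWord_injective good3_F4.toGood2 hw r.2 s.2 h')

theorem conj_fx_img {w : List ℕ} (hw : ∀ i ∈ w, i < chevF4.rank) (r : Fin 48) (a : K) :
    nWordGL good3_F4.toGood2 w * fx K r a * (nWordGL good3_F4.toGood2 w)⁻¹ = fx K (f4Img w r) a :=
  conj_fx hw r (f4Img w r) (f4Img_val hw r).symm a

theorem conj_fxProd {w : List ℕ} (hw : ∀ i ∈ w, i < chevF4.rank) (L : List (Fin 48 × K)) :
    nWordGL good3_F4.toGood2 w * fxProd L * (nWordGL good3_F4.toGood2 w)⁻¹ =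
      fxProd (L.map fun p => (f4Img w p.1, p.2)) := by
  induction L with
  | nil => rw [fxProd_nil, List.map_nil, fxProd_nil]; group
  | cons p L ih =>
    rw [List.map_cons, fxProd_cons, fxProd_cons, conj_mul2, ih, conj_fx_img hw]

/-- The coefficients of a product of root elements with distinct roots of index at least `39`, one of whose
conjugates under `N` lies in `U_{≥ k}`, vanish at the roots whose image is below `k`. -/
theorem conj_peel {w : List ℕ} (hw : ∀ i ∈ w, i < chevF4.rank) {k : ℕ} (hk : 24 ≤ k)
    (L : List (Fin 48 × K)) (hL : ∀ p ∈ L, 39 ≤ p.1.val) (hnd : (L.map Prod.fst).Nodup)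
    (hmem : nWordGL good3_F4.toGood2 w * fxProd L * (nWordGL good3_F4.toGood2 w)⁻¹ ∈ Uge chevF4 K k) :
    ∀ p ∈ L, p.2 = 0 ∨ k ≤ fastF4.reflWord w p.1.val := by
  set n : GL chevF4.Idx K := nWordGL good3_F4.toGood2 w with hn
  set P : Fin 48 × K → Bool := fun p => decide (fastF4.reflWord w p.1.val < 24) with hP
  set Lneg := L.filter P with hLneg
  set Lpos := L.filter (fun p => !P p) with hLpos
  have hsplit : fxProd L = fxProd Lneg * fxProd Lpos := fxProd_filter P L hL
  have hN : n * fxProd Lneg * n⁻¹ ∈ chevF4.negUnipotent K := by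
    rw [hn, conj_fxProd hw]
    apply fxProd_mem
    intro q hq
    obtain ⟨p, hp, rfl⟩ := List.mem_map.mp hq
    have hp' := (List.mem_filter.mp hp).2
    simp only [hP, decide_eq_true_eq] at hp'
    exact fx_mem_neg (by rw [f4Img_val hw]; exact hp') _
  have hPpos : n * fxProd Lpos * n⁻¹ ∈ chevF4.posUnipotent K := by
    rw [hn, conj_fxProd hw]
    apply fxProd_mem
    intro q hq
    obtain ⟨p, hp, rfl⟩ := List.mem_map.mp hq
    have hp' := (List.mem_filter.mp hp).2
    simp only [hP, Bool.not_eq_true', decide_eq_false_iff_not, not_lt] at hp'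
    exact fx_mem_pos (by rw [f4Img_val hw]; exact hp') _
  have hprod : n * fxProd L * n⁻¹ = n * fxProd Lneg * n⁻¹ * (n * fxProd Lpos * n⁻¹) := by
    rw [hsplit]; group
  have hU : n * fxProd L * n⁻¹ ∈ chevF4.posUnipotent K := by
    rw [posUnipotent_eq_Uge T0_F4]
    exact Uge_anti hk hmem
  have hN1 : n * fxProd Lneg * n⁻¹ = 1 := by
    have h1 : n * fxProd Lneg * n⁻¹ = n * fxProd L * n⁻¹ * (n * fxProd Lpos * n⁻¹)⁻¹ := by
      rw [hprod]; group
    have h2 : n * fxProd Lneg * n⁻¹ ∈ chevF4.borelSubgroup K ⊓ chevF4.negUnipotent K := by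
      refine ⟨?_, hN⟩
      rw [h1]
      exact (le_sup_left : chevF4.posUnipotent K ≤ chevF4.borelSubgroup K)
        (mul_mem hU (inv_mem hPpos))
    rwa [borel_inf_negUnipotent good3_F4.toGood2 T0_F4, Subgroup.mem_bot] at h2
  have hneg1 : fxProd Lneg = 1 := by
    calc fxProd Lneg = n⁻¹ * (n * fxProd Lneg * n⁻¹) * n := by group
      _ = 1 := by rw [hN1]; group
  have hsub : ∀ (Q : Fin 48 × K → Bool), ((L.filter Q).map Prod.fst).Nodup := fun Q =>
    (List.filter_sublist.map Prod.fst).nodup hnd
  have hnegz : ∀ p ∈ Lneg, p.2 = 0 := by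
    intro p hp
    refine peel_Uge (k := 48) Lneg (fun q hq => ?_) (hsub P) ?_ p hp p.1.2
    · have := hL q (List.mem_filter.mp hq).1
      omega
    · rw [hneg1]
      exact one_mem _
  have hposmem : fxProd (Lpos.map fun p => (f4Img w p.1, p.2)) ∈ Uge chevF4 K k := by
    rw [← conj_fxProd hw, ← hn]
    have : n * fxProd Lpos * n⁻¹ = n * fxProd L * n⁻¹ := by rw [hprod, hN1, one_mul]
    rw [this]
    exact hmem
  have hposz := peel_Uge (k := k) (Lpos.map fun p => (f4Img w p.1, p.2)) (by
      intro q hq
      obtain ⟨p, hp, rfl⟩ := List.mem_map.mp hq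
      have hp' := (List.mem_filter.mp hp).2
      simp only [hP, Bool.not_eq_true', decide_eq_false_iff_not, not_lt] at hp'
      rw [f4Img_val hw]
      exact hp') (by
      rw [List.map_map]
      have : (Prod.fst ∘ fun p : Fin 48 × K => (f4Img w p.1, p.2)) = f4Img w ∘ Prod.fst := by
        funext p; rfl
      rw [this, ← List.map_map]
      exact (hsub _).map (f4Img_injective hw)) hposmem
  intro p hp
  by_cases hc : fastF4.reflWord w p.1.val < 24
  · left
    exact hnegz p (List.mem_filter.mpr ⟨hp, by simp [hP, hc]⟩)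
  · by_cases hc2 : fastF4.reflWord w p.1.val < k
    · left
      have hp1 : p ∈ Lpos := List.mem_filter.mpr ⟨hp, by simp [hP, hc]⟩
      have := hposz (f4Img w p.1, p.2) (List.mem_map_of_mem hp1) (by
        show (f4Img w p.1).val < k
        rw [f4Img_val hw]; exact hc2)
      exact this
    · right
      omega

end conj

end Cfsg.Agent.Helper7.Chev
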