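import Mathlib
import Cfsg.Agent.Helper7.ChevF4a

set_option autoImplicit false
set_option linter.unusedSectionVars false
set_option linter.unusedVariables false

/-!
The automorphisms of the Suzuki `2`-group `A(q, θ)` commuting with the action of a torus: an algebraic lemma for the
automorphisms of the large Ree groups.
-/

namespace Cfsg.Agent.Helper7.Chev

open Cfsg Cfsg.Lie

variable {K : Type*} [Field K] [CharP K 2] {m : ℕ} (hm : ∀ t : K, t ^ 2 ^ (2 * m + 1) = t)

include hm in
theorem f4Th_f4Th_sq (x : K) : f4Th K m (f4Th K m x) ^ 2 = x := by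
  rw [← f4Th_succ, f4Th_succ_f4Th hm]

include hm in
/-- `c ↦ c θ(c)` is onto the non-zero elements. -/
theorem exists_mul_f4Th_eq {k : K} (hk : k ≠ 0) : ∃ c : K, c ≠ 0 ∧ c * f4Th K m c = k := by
  have hθk : f4Th K m k ≠ 0 := (map_ne_zero _).mpr hk
  refine ⟨k ^ 2 / f4Th K m k ^ 2, div_ne_zero (pow_ne_zero 2 hk) (pow_ne_zero 2 hθk), ?_⟩
  rw [map_div₀, map_pow, map_pow, f4Th_f4Th_sq hm]
  field_simp

theorem f4Th_mul_self_eq_zero {x : K} (h : f4Th K m x * x = 0) : x = 0 := by
  rcases mul_eq_zero.mp h with h | h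
  · exact (map_eq_zero _).mp h
  · exact h

include hm in
/-- An automorphism of the group of the pairs `(t, v)` with the law `(t, v) (t', v') = (t + t', v + v' + θ(t) t')`
which commutes with the maps `(t, v) ↦ (c t, c θ(c) v)` is of the form `(t, v) ↦ (l t, l θ(l) v)`. -/
theorem suzuki_aut_of_equivariant (hne : ∃ c : K, f4Th K m c ≠ c) (F G : K → K → K)
    (hmul : ∀ t v t' v' : K,
      F (t + t') (v + v' + f4Th K m t * t') = F t v + F t' v' ∧
      G (t + t') (v + v' + f4Th K m t * t') = G t v + G t' v' + f4Th K m (F t v) * F t' v')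
    (heq : ∀ c : K, c ≠ 0 → ∀ t v : K,
      F (c * t) (c * f4Th K m c * v) = c * F t v ∧ G (c * t) (c * f4Th K m c * v) = c * f4Th K m c * G t v)
    (hinj : ¬ (F 1 0 = 0 ∧ G 1 0 = 0)) :
    ∃ l : K, l ≠ 0 ∧ ∀ t v : K, F t v = l * t ∧ G t v = l * f4Th K m l * v := by
  have hF00 : F 0 0 = 0 := by
    have := (hmul 0 0 0 0).1
    simp only [add_zero, map_zero, mul_zero] at this
    exact left_eq_add.mp this
  have hG00 : G 0 0 = 0 := by
    have := (hmul 0 0 0 0).2
    simp only [add_zero, map_zero, mul_zero, hF00] at this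
    exact left_eq_add.mp this
  -- step 1
  have hF0 : ∀ v, F 0 v = 0 := by
    intro v
    have := (hmul 0 v 0 v).2
    simp only [add_zero, map_zero, mul_zero, zero_mul, add_self_char2, hG00, zero_add] at this
    exact f4Th_mul_self_eq_zero this.symm
  have hμadd : ∀ v v', G 0 (v + v') = G 0 v + G 0 v' := by
    intro v v'
    have := (hmul 0 v 0 v').2
    simp only [add_zero, map_zero, mul_zero, zero_mul, hF0] at this
    exact this
  have hμmul : ∀ k v : K, k ≠ 0 → G 0 (k * v) = k * G 0 v := by
    intro k v hk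
    obtain ⟨c, hc, e⟩ := exists_mul_f4Th_eq hm hk
    have := (heq c hc 0 v).2
    rw [mul_zero, e] at this
    exact this
  have hμ : ∀ v, G 0 v = G 0 1 * v := by
    intro v
    by_cases hv : v = 0
    · rw [hv, hG00, mul_zero]
    · have := hμmul v 1 hv
      rw [mul_one] at this
      rw [this, mul_comm]
  -- step 3
  have hF3 : ∀ t v, F t v = F t 0 := by
    intro t v
    have := (hmul t 0 0 v).1
    simp only [add_zero, zero_add, mul_zero, hF0] at this
    exact this
  have hG3 : ∀ t v, G t v = G t 0 + G 0 1 * v := by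
    intro t v
    have := (hmul t 0 0 v).2
    simp only [add_zero, zero_add, mul_zero, hF0] at this
    rw [this, hμ v]
  -- step 4
  have hφadd : ∀ t t', F (t + t') 0 = F t 0 + F t' 0 := by
    intro t t'
    have := (hmul t 0 t' 0).1
    rw [hF3] at this
    exact this
  have hφ : ∀ t, F t 0 = F 1 0 * t := by
    intro t
    by_cases ht : t = 0
    · rw [ht, hF00, mul_zero]
    · have := (heq t ht 1 0).1
      rw [mul_one, mul_zero] at this
      rw [this, mul_comm]
  obtain ⟨l, hl⟩ : ∃ l : K, l = F 1 0 := ⟨_, rfl⟩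
  rw [← hl] at hφ
  -- step 5
  have hμ1 : G 0 1 = l * f4Th K m l := by
    have := (hmul 1 0 1 0).2
    rw [add_self_char2, hG3 0, hG00, hF3 1 0, hφ 1] at this
    simp only [zero_add, mul_one, map_one, one_mul, add_self_char2] at this
    rw [this, mul_comm]
  have hgadd : ∀ t t', G (t + t') 0 = G t 0 + G t' 0 := by
    intro t t'
    have := (hmul t 0 t' 0).2
    rw [hG3 (t + t'), hμ1, hF3 t 0, hF3 t' 0, hφ t, hφ t', map_mul, zero_add, zero_add] at this
    have e : l * f4Th K m l * (f4Th K m t * t') = f4Th K m l * f4Th K m t * (l * t') := by ring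
    rw [e] at this
    exact add_right_cancel this
  have hgmul : ∀ c t : K, c ≠ 0 → G (c * t) 0 = c * f4Th K m c * G t 0 := by
    intro c t hc
    have := (heq c hc t 0).2
    rw [mul_zero] at this
    exact this
  have hg0 : ∀ t, G t 0 = 0 := by
    intro t
    obtain ⟨c₀, hc₀⟩ := hne
    have hc0 : c₀ ≠ 0 := by
      rintro rfl
      exact hc₀ (map_zero _)
    have hc1 : c₀ + 1 ≠ 0 := by
      intro h
      have : c₀ = 1 := by
        have h2 := add_self_char2 (1 : K)
        linear_combination h - h2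
      apply hc₀
      rw [this, map_one]
    have h1 := hgmul (c₀ + 1) t hc1
    rw [add_mul, one_mul, hgadd, hgmul c₀ t hc0, map_add, map_one] at h1
    have h2 : (c₀ + f4Th K m c₀) * G t 0 = 0 := by
      linear_combination -h1
    rcases mul_eq_zero.mp h2 with h | h
    · exfalso
      apply hc₀
      have h5 := add_self_char2 c₀
      linear_combination h - h5
    · exact h
  have hl0 : l ≠ 0 := by
    intro h0
    apply hinj
    exact ⟨by rw [← hl, h0], hg0 1⟩
  refine ⟨l, hl0, fun t v => ⟨?_, ?_⟩⟩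
  · rw [hF3, hφ]
  · rw [hG3, hg0, hμ1, zero_add]

end Cfsg.Agent.Helper7.Chev
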