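import Mathlib
import Cfsg.Agent.Helper7.ChevTwF5
import Cfsg.Agent.Helper7.TwAutA
import Cfsg.Agent.Helper7.BNAut

set_option autoImplicit false
set_option linter.unusedSectionVars false
set_option linter.unusedVariables false
set_option linter.style.haveILetI false

/-!
Automorphisms of a subgroup `G¹` of the fixed points of an automorphism permuting the root subgroups, part A: the
cells of the minimal parabolic subgroups, in terms of the classes of roots.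
-/

namespace Cfsg.Agent.Helper7.Chev

open Cfsg Cfsg.Lie Matrix DoubleCoset
open scoped Pointwise

variable {D : ChevalleyDatum} {K : Type*} [Field K]

section main

variable (hG : Good2 D) (hT : T0 D) (h3 : (tabOf D).T3) (h4 : (tabOf D).T4 60) (h5 : (tabOf D).T5)
  (h6 : (tabOf D).T6) (h8 : (tabOf D).T8) (h9 : (tabOf D).T9)
  {τ : ↥(D.group K) ≃* ↥(D.group K)} {ρ : ℕ → ℕ} {f : ℕ → K →+* K}
  (hτ : RootAut D K τ ρ f) {G1 : Subgroup (GL D.Idx K)}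
  (hle : G1 ≤ fixSub τ) (hU : D.posUnipotent K ⊓ fixSub τ ≤ G1)
  {Wl : List (List ℕ)} (hW : FWList hG (fixSub τ) G1 Wl)
  {cls : List (FCls hG K (fixSub τ) G1)} (hD : FBNData hG Wl cls)
  (c : FCls hG K (fixSub τ) G1)

include hG hT in
/-- `n_P X n_P⁻¹` lies in `V`. -/
theorem FCls.conj_X_mem_neg {x : GL D.Idx K} (hx : x ∈ c.X) :
    nWordGL hG c.word * x * (nWordGL hG c.word)⁻¹ ∈ D.negUnipotent K :=
  c.negP_le_neg hG hT (c.conj_XP_le hG hT x (c.X_le hx))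

theorem FCls.conj_X_mem_G1 {x : GL D.Idx K} (hx : x ∈ c.X) :
    nWordGL hG c.word * x * (nWordGL hG c.word)⁻¹ ∈ G1 :=
  mul_mem (mul_mem c.n_G1 (c.X_G1 hx)) (inv_mem c.n_G1)

include hG hT h3 h4 h5 h6 h8 h9 hτ hle hU hW hD in
/-- A non-trivial element of `n_P X n_P⁻¹` lies in `B¹ n_P x'` for some `x' ∈ X`. -/
theorem FCls.cell_of_conj (hc : c ∈ cls) {x : GL D.Idx K} (hx : x ∈ c.X) (hx1 : x ≠ 1) :
    ∃ b ∈ D.borelSubgroup K ⊓ G1, ∃ x' ∈ c.X,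
      nWordGL hG c.word * x * (nWordGL hG c.word)⁻¹ = b * nWordGL hG c.word * x' := by
  obtain ⟨u, hu, h, hh, u', hu', e⟩ :=
    c.rank_one hG hT h3 h4 h5 h6 h8 h9 hτ hle hU hW hD hc hx hx1
  obtain ⟨a, ha, x', hx', rfl⟩ := c.decomp u' ⟨hu'.1, hle hu'.2⟩
  obtain ⟨s, hs⟩ : ∃ s : GL D.Idx K, s = nWordGL hG c.word := ⟨_, rfl⟩
  rw [← hs] at e ⊢
  have hsG : s ∈ G1 := by rw [hs]; exact c.n_G1
  have haG : a ∈ G1 := by
    have : a = a * x' * x'⁻¹ := by group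
    rw [this]
    exact mul_mem hu'.2 (inv_mem (c.X_G1 hx'))
  have h1 : s * a * s⁻¹ ∈ D.borelSubgroup K ⊓ G1 := by
    apply pos_fix_le_borel_fix
    refine Subgroup.mem_inf.mpr ⟨?_, mul_mem (mul_mem hsG haG) (inv_mem hsG)⟩
    rw [hs]
    exact upS_le_pos c.P ((Subgroup.mem_set_normalizer_iff.mp c.n_norm a).mp ha)
  refine ⟨u * h * (s * a * s⁻¹),
    mul_mem (mul_mem (pos_fix_le_borel_fix hu) (diag_fix_le_borel_fix hh)) h1, x', hx', ?_⟩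
  rw [e]
  group

include hG hT hD in
/-- No element of `V` lies in `B n_P`. -/
theorem FCls.not_borel_mul_n (hc : c ∈ cls) {v b : GL D.Idx K} (hv : v ∈ D.negUnipotent K)
    (hb : b ∈ D.borelSubgroup K) (e : v = b * nWordGL hG c.word) : False := by
  obtain ⟨x, hx, hx1⟩ := hD.ne c hc
  obtain ⟨s, hs⟩ : ∃ s : GL D.Idx K, s = nWordGL hG c.word := ⟨_, rfl⟩
  rw [← hs] at e
  have hsq : s * s ∈ D.borelSubgroup K := by
    rw [hs]
    exact Subgroup.mem_sup_right (hD.sq c hc)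
  have hxB : x ∈ D.borelSubgroup K := Subgroup.mem_sup_left (c.XP_le_pos hG (c.X_le hx))
  have hyV : s * x * s⁻¹ ∈ D.negUnipotent K := by
    rw [hs]
    exact c.conj_X_mem_neg hG hT hx
  have h1 : v * (s * x * s⁻¹) * v⁻¹ ∈ D.borelSubgroup K := by
    have : v * (s * x * s⁻¹) * v⁻¹ = b * ((s * s) * x * (s * s)⁻¹) * b⁻¹ := by
      rw [e]
      group
    rw [this]
    exact mul_mem (mul_mem hb (mul_mem (mul_mem hsq hxB) (inv_mem hsq))) (inv_mem hb)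
  have h2 : v * (s * x * s⁻¹) * v⁻¹ ∈ D.negUnipotent K := mul_mem (mul_mem hv hyV) (inv_mem hv)
  have hmem : v * (s * x * s⁻¹) * v⁻¹ ∈ D.borelSubgroup K ⊓ D.negUnipotent K :=
    Subgroup.mem_inf.mpr ⟨h1, h2⟩
  rw [borel_inf_negUnipotent hG hT, Subgroup.mem_bot] at hmem
  apply hx1
  have h3' : s * x * s⁻¹ = 1 := by
    have : s * x * s⁻¹ = v⁻¹ * (v * (s * x * s⁻¹) * v⁻¹) * v := by group
    rw [this, hmem]
    group
  have : x = s⁻¹ * (s * x * s⁻¹) * s := by group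
  rw [this, h3']
  group

include hG hT in
/-- Two elements of `V` in the same coset `B n_P x'` are equal. -/
theorem FCls.cell_inj {v₁ v₂ b₁ b₂ g : GL D.Idx K} (hv₁ : v₁ ∈ D.negUnipotent K)
    (hv₂ : v₂ ∈ D.negUnipotent K) (hb₁ : b₁ ∈ D.borelSubgroup K) (hb₂ : b₂ ∈ D.borelSubgroup K)
    (e₁ : v₁ = b₁ * g) (e₂ : v₂ = b₂ * g) : v₁ = v₂ := by
  have hmem : v₁ * v₂⁻¹ ∈ D.borelSubgroup K ⊓ D.negUnipotent K := by
    refine Subgroup.mem_inf.mpr ⟨?_, mul_mem hv₁ (inv_mem hv₂)⟩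
    have : v₁ * v₂⁻¹ = b₁ * b₂⁻¹ := by
      rw [e₁, e₂]
      group
    rw [this]
    exact mul_mem hb₁ (inv_mem hb₂)
  rw [borel_inf_negUnipotent hG hT, Subgroup.mem_bot] at hmem
  exact mul_inv_eq_one.mp hmem

include hG hT h3 h4 h5 h6 h8 h9 hτ hle hU hW hD in
/-- Every coset `B¹ n_P x'`, `x' ≠ 1`, contains a non-trivial element of `n_P X n_P⁻¹`. -/
theorem FCls.cell_surj [Finite K] (hc : c ∈ cls) {x' : GL D.Idx K} (hx' : x' ∈ c.X) (hx'1 : x' ≠ 1) :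
    ∃ x ∈ c.X, x ≠ 1 ∧ ∃ b ∈ D.borelSubgroup K ⊓ G1,
      nWordGL hG c.word * x * (nWordGL hG c.word)⁻¹ = b * nWordGL hG c.word * x' := by
  classical
  haveI : Finite (GL D.Idx K) := inferInstance
  obtain ⟨s, hs⟩ : ∃ s : GL D.Idx K, s = nWordGL hG c.word := ⟨_, rfl⟩
  rw [← hs]
  have key : ∀ x : {x : ↥c.X // (x : GL D.Idx K) ≠ 1},
      ∃ x'' : {x : ↥c.X // (x : GL D.Idx K) ≠ 1}, ∃ b ∈ D.borelSubgroup K ⊓ G1,
        s * ((x : ↥c.X) : GL D.Idx K) * s⁻¹ = b * s * ((x'' : ↥c.X) : GL D.Idx K) := by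
    rintro ⟨⟨x, hx⟩, hx1⟩
    obtain ⟨b, hb, x'', hx'', e⟩ :=
      c.cell_of_conj hG hT h3 h4 h5 h6 h8 h9 hτ hle hU hW hD hc hx hx1
    rw [← hs] at e
    have hne : x'' ≠ 1 := by
      rintro rfl
      rw [mul_one] at e
      have hv : s * x * s⁻¹ ∈ D.negUnipotent K := by
        rw [hs]
        exact c.conj_X_mem_neg hG hT hx
      rw [hs] at e
      exact c.not_borel_mul_n hG hT hD hc (by rw [hs] at hv; exact hv) hb.1 e
    exact ⟨⟨⟨x'', hx''⟩, hne⟩, b, hb, e⟩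
  choose Ψ hΨ using key
  have hinj : Function.Injective Ψ := by
    intro x₁ x₂ h12
    obtain ⟨b₁, hb₁, e₁⟩ := hΨ x₁
    obtain ⟨b₂, hb₂, e₂⟩ := hΨ x₂
    rw [h12] at e₁
    have hv₁ : s * ((x₁ : ↥c.X) : GL D.Idx K) * s⁻¹ ∈ D.negUnipotent K := by
      rw [hs]
      exact c.conj_X_mem_neg hG hT x₁.1.2
    have hv₂ : s * ((x₂ : ↥c.X) : GL D.Idx K) * s⁻¹ ∈ D.negUnipotent K := by
      rw [hs]
      exact c.conj_X_mem_neg hG hT x₂.1.2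
    have e₁' : s * ((x₁ : ↥c.X) : GL D.Idx K) * s⁻¹ =
        b₁ * (s * ((Ψ x₂ : ↥c.X) : GL D.Idx K)) := by rw [e₁]; group
    have e₂' : s * ((x₂ : ↥c.X) : GL D.Idx K) * s⁻¹ =
        b₂ * (s * ((Ψ x₂ : ↥c.X) : GL D.Idx K)) := by rw [e₂]; group
    have := FCls.cell_inj hG hT hv₁ hv₂ hb₁.1 hb₂.1 e₁' e₂'
    have h' : ((x₁ : ↥c.X) : GL D.Idx K) = ((x₂ : ↥c.X) : GL D.Idx K) := by
      have e3 : ((x₁ : ↥c.X) : GL D.Idx K) = s⁻¹ * (s * ((x₁ : ↥c.X) : GL D.Idx K) * s⁻¹) * s := by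
        group
      rw [e3, this]
      group
    exact Subtype.ext (Subtype.ext h')
  have hsurj := Finite.injective_iff_surjective.mp hinj
  obtain ⟨x, hx⟩ := hsurj ⟨⟨x', hx'⟩, hx'1⟩
  obtain ⟨b, hb, e⟩ := hΨ x
  rw [hx] at e
  exact ⟨x.1.1, x.1.2, x.2, b, hb, e⟩

include hG hT h3 h4 h5 h6 h8 h9 hτ hle hU hW hD in
/-- An element of `V¹` in the double coset `B¹ n_P B¹` lies in `n_P X n_P⁻¹`. -/
theorem FCls.mem_conj_of_mem_cell [Finite K] (hc : c ∈ cls) {v b₁ b₂ : GL D.Idx K}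
    (hv : v ∈ D.negUnipotent K) (hb₁ : b₁ ∈ D.borelSubgroup K ⊓ G1)
    (hb₂ : b₂ ∈ D.borelSubgroup K ⊓ G1) (e : v = b₁ * nWordGL hG c.word * b₂) :
    ∃ x ∈ c.X, v = nWordGL hG c.word * x * (nWordGL hG c.word)⁻¹ := by
  obtain ⟨s, hs⟩ : ∃ s : GL D.Idx K, s = nWordGL hG c.word := ⟨_, rfl⟩
  rw [← hs] at e ⊢
  have hsG : s ∈ G1 := by rw [hs]; exact c.n_G1
  have hsN : s ∈ D.monomialSubgroup K ⊓ G1 := by rw [hs]; exact c.n_mono_fix hG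
  -- `b₂ = h⁻¹ a x'`
  obtain ⟨u, hu, h, hh, e₂⟩ :=
    borel_fix_decomp hG hT h3 h4 h5 h6 h8 h9 hτ hle hU (inv_mem hb₂)
  obtain ⟨huU, huG⟩ := Subgroup.mem_inf.mp hu
  obtain ⟨a, ha, x', hx', e₃⟩ := c.decomp u⁻¹ (Subgroup.mem_inf.mpr ⟨inv_mem huU, hle (inv_mem huG)⟩)
  have hb₂e : b₂ = h⁻¹ * a * x' := by
    have : b₂ = (b₂⁻¹)⁻¹ := by rw [inv_inv]
    rw [this, e₂, _root_.mul_inv_rev, e₃]
    group
  have haG : a ∈ G1 := by
    have : a = u⁻¹ * x'⁻¹ := by rw [e₃]; group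
    rw [this]
    exact mul_mem (inv_mem huG) (inv_mem (c.X_G1 hx'))
  have h1 : s * a * s⁻¹ ∈ D.borelSubgroup K ⊓ G1 := by
    apply pos_fix_le_borel_fix
    refine Subgroup.mem_inf.mpr ⟨?_, mul_mem (mul_mem hsG haG) (inv_mem hsG)⟩
    rw [hs]
    exact upS_le_pos c.P ((Subgroup.mem_set_normalizer_iff.mp c.n_norm a).mp ha)
  have h2 : s * h⁻¹ * s⁻¹ ∈ D.borelSubgroup K ⊓ G1 :=
    diag_fix_le_borel_fix (mono_conj_diag_fix hG hsN (inv_mem hh))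
  obtain ⟨b, hbdef⟩ : ∃ b : GL D.Idx K, b = b₁ * (s * h⁻¹ * s⁻¹) * (s * a * s⁻¹) := ⟨_, rfl⟩
  have hbB : b ∈ D.borelSubgroup K ⊓ G1 := by
    rw [hbdef]
    exact mul_mem (mul_mem hb₁ h2) h1
  have ev : v = b * s * x' := by
    rw [e, hb₂e, hbdef]
    group
  by_cases hx'1 : x' = 1
  · exfalso
    rw [hx'1, mul_one, hs] at ev
    exact c.not_borel_mul_n hG hT hD hc hv hbB.1 ev
  · obtain ⟨x, hx, _, b', hb', e'⟩ :=
      c.cell_surj hG hT h3 h4 h5 h6 h8 h9 hτ hle hU hW hD hc hx' hx'1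
    rw [← hs] at e'
    refine ⟨x, hx, ?_⟩
    have hv' : s * x * s⁻¹ ∈ D.negUnipotent K := by
      rw [hs]
      exact c.conj_X_mem_neg hG hT hx
    have ev' : v = b * (s * x') := by rw [ev]; group
    have e'' : s * x * s⁻¹ = b' * (s * x') := by rw [e']; group
    exact FCls.cell_inj hG hT hv hv' hbB.1 hb'.1 ev' e''

include hG hT h3 h4 h5 h6 h8 h9 hτ hle hU hW hD in
/-- The elements of `n_P X n_P⁻¹` act freely on the cosets `B n_P x₁`, `x₁ ≠ 1`. -/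
theorem FCls.cell_free [Finite K] (hc : c ∈ cls) {x₁ y : GL D.Idx K} (hx₁ : x₁ ∈ c.X) (hx₁1 : x₁ ≠ 1)
    (hy : y ∈ D.negUnipotent K)
    (h : nWordGL hG c.word * x₁ * y * x₁⁻¹ * (nWordGL hG c.word)⁻¹ ∈ D.borelSubgroup K) : y = 1 := by
  obtain ⟨x, hx, _, b, hb, e⟩ :=
    c.cell_surj hG hT h3 h4 h5 h6 h8 h9 hτ hle hU hW hD hc hx₁ hx₁1
  obtain ⟨s, hs⟩ : ∃ s : GL D.Idx K, s = nWordGL hG c.word := ⟨_, rfl⟩
  rw [← hs] at e h
  have hy₁ : s * x * s⁻¹ ∈ D.negUnipotent K := by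
    rw [hs]
    exact c.conj_X_mem_neg hG hT hx
  have e1 : s * x₁ = b⁻¹ * (s * x * s⁻¹) := by
    rw [e]
    group
  have h1 : (s * x * s⁻¹) * y * (s * x * s⁻¹)⁻¹ ∈ D.borelSubgroup K := by
    have : (s * x * s⁻¹) * y * (s * x * s⁻¹)⁻¹ = b * (s * x₁ * y * x₁⁻¹ * s⁻¹) * b⁻¹ := by
      have e2 : s * x₁ * y * x₁⁻¹ * s⁻¹ = (s * x₁) * y * (s * x₁)⁻¹ := by group
      rw [e2, e1]
      group
    rw [this]
    exact mul_mem (mul_mem hb.1 h) (inv_mem hb.1)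
  have h2 : (s * x * s⁻¹) * y * (s * x * s⁻¹)⁻¹ ∈ D.negUnipotent K :=
    mul_mem (mul_mem hy₁ hy) (inv_mem hy₁)
  have hmem : (s * x * s⁻¹) * y * (s * x * s⁻¹)⁻¹ ∈ D.borelSubgroup K ⊓ D.negUnipotent K :=
    Subgroup.mem_inf.mpr ⟨h1, h2⟩
  rw [borel_inf_negUnipotent hG hT, Subgroup.mem_bot] at hmem
  have : y = (s * x * s⁻¹)⁻¹ * ((s * x * s⁻¹) * y * (s * x * s⁻¹)⁻¹) * (s * x * s⁻¹) := by group
  rw [this, hmem]
  group

end main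

end Cfsg.Agent.Helper7.Chev
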