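import Mathlib
import Cfsg.Agent.Helper7.FAutA
import Cfsg.Agent.Helper7.ChevAutA

set_option autoImplicit false
set_option linter.unusedSectionVars false
set_option linter.unusedVariables false
set_option linter.style.haveILetI false

/-!
Automorphisms of a subgroup `G¹` of the fixed points of an automorphism permuting the root subgroups, part B: an
automorphism stabilising `U` and `V` permutes the subgroups `n_P X_P n_P⁻¹`; an automorphism fixing `X_P`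
elementwise fixes `n_P X_P n_P⁻¹` elementwise.
-/

namespace Cfsg.Agent.Helper7.Chev

open Cfsg Cfsg.Lie Matrix DoubleCoset
open scoped Pointwise

variable {D : ChevalleyDatum} {K : Type*} [Field K]

section main

variable (hG : Good2 D) (hT : T0 D) (h3 : (tabOf D).T3) (h4 : (tabOf D).T4 60) (h5 : (tabOf D).T5)
  (h6 : (tabOf D).T6) (h8 : (tabOf D).T8) (h9 : (tabOf D).T9)
  {τ : ↥(D.group K) ≃* ↥(D.group K)} {ρ : ℕ → ℕ} {f : ℕ → K →+* K}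
  (hτ : RootAut D K τ ρ f) {G1 : Subgroup (GL D.Idx K)}
  (hle : G1 ≤ fixSub τ) (hU : D.posUnipotent K ⊓ fixSub τ ≤ G1)
  {Wl : List (List ℕ)} (hW : FWList hG (fixSub τ) G1 Wl)
  {cls : List (FCls hG K (fixSub τ) G1)} (hD : FBNData hG Wl cls)
  (c : FCls hG K (fixSub τ) G1)

/-- The subgroup `n_P X n_P⁻¹`. -/
noncomputable def FCls.Y : Subgroup (GL D.Idx K) :=
  c.X.map (MulAut.conj (nWordGL hG c.word : GL D.Idx K)).toMonoidHom

theorem FCls.mem_Y {g : GL D.Idx K} :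
    g ∈ c.Y hG ↔ ∃ x ∈ c.X, g = nWordGL hG c.word * x * (nWordGL hG c.word)⁻¹ := by
  unfold FCls.Y
  constructor
  · rintro ⟨x, hx, rfl⟩
    exact ⟨x, hx, rfl⟩
  · rintro ⟨x, hx, rfl⟩
    exact ⟨x, hx, rfl⟩

include hT in
theorem FCls.Y_le_neg : c.Y hG ≤ D.negUnipotent K := by
  intro g hg
  obtain ⟨x, hx, rfl⟩ := (c.mem_Y hG).mp hg
  exact c.conj_X_mem_neg hG hT hx

theorem FCls.Y_le_G1 : c.Y hG ≤ G1 := by
  intro g hg
  obtain ⟨x, hx, rfl⟩ := (c.mem_Y hG).mp hg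
  exact c.conj_X_mem_G1 hG hx

include hG hT h3 h4 h5 h6 h8 h9 hτ hle hU in
/-- `B¹` normalises `U¹`. -/
theorem borel_fix_le_normalizer :
    D.borelSubgroup K ⊓ G1 ≤
      Subgroup.normalizer ((D.posUnipotent K ⊓ G1 : Subgroup (GL D.Idx K)) : Set (GL D.Idx K)) := by
  intro b hb
  obtain ⟨u, hu, h, hh, rfl⟩ := borel_fix_decomp hG hT h3 h4 h5 h6 h8 h9 hτ hle hU hb
  apply mul_mem (Subgroup.le_normalizer hu)
  rw [Subgroup.mem_set_normalizer_iff]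
  intro g
  have hn := Subgroup.mem_set_normalizer_iff.mp (diagonalSubgroup_le_normalizer_pos hG hh.1) g
  rw [SetLike.mem_coe, SetLike.mem_coe, Subgroup.mem_inf, Subgroup.mem_inf]
  constructor
  · rintro ⟨h1, h2⟩
    exact ⟨hn.mp h1, mul_mem (mul_mem hh.2 h2) (inv_mem hh.2)⟩
  · rintro ⟨h1, h2⟩
    refine ⟨hn.mpr h1, ?_⟩
    have : g = h⁻¹ * (h * g * h⁻¹) * h := by group
    rw [this]
    exact mul_mem (mul_mem (inv_mem hh.2) h2) hh.2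

include hG hT h3 h4 h5 h6 h8 h9 hτ hle hU hW hD in
/-- The normaliser of `U¹` in `G¹` is `B¹`. -/
theorem fix_normalizer_le :
    Subgroup.normalizer ((D.posUnipotent K ⊓ G1 : Subgroup (GL D.Idx K)) : Set (GL D.Idx K)) ⊓ G1 ≤
      D.borelSubgroup K ⊓ G1 := by
  obtain ⟨P, hPB, hPN, hPS⟩ := exists_bnPair_fix hG hT h3 h4 h5 h6 h8 h9 hτ hle hU hW hD
  obtain ⟨M, hM⟩ : ∃ M : Subgroup (GL D.Idx K),
      M = Subgroup.normalizer ((D.posUnipotent K ⊓ G1 : Subgroup (GL D.Idx K)) :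
        Set (GL D.Idx K)) ⊓ G1 := ⟨_, rfl⟩
  rw [← hM]
  have hBM : P.B ≤ M.subgroupOf G1 := by
    rw [hPB]
    intro b hb
    rw [Subgroup.mem_subgroupOf] at hb ⊢
    rw [hM]
    exact ⟨borel_fix_le_normalizer hG hT h3 h4 h5 h6 h8 h9 hτ hle hU hb, b.2⟩
  have hpar := BN.eq_parabolic_of_le P (M.subgroupOf G1) hBM
  intro g hg
  have hgG : g ∈ G1 := by rw [hM] at hg; exact hg.2
  have hg' : (⟨g, hgG⟩ : ↥G1) ∈ M.subgroupOf G1 := hg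
  rw [hpar] at hg'
  have hle' : P.parabolic (P.S ∩ ((M.subgroupOf G1 : Subgroup ↥G1) : Set ↥G1)) ≤
      (D.borelSubgroup K ⊓ G1).subgroupOf G1 := by
    unfold BNPair.parabolic
    apply sup_le
    · rw [hPB]
    · rw [Subgroup.closure_le]
      rintro s ⟨hsS, hsM⟩
      exfalso
      rw [hPS] at hsS
      obtain ⟨c, hc, hs⟩ := hsS
      have hsN : (s : GL D.Idx K) ∈
          Subgroup.normalizer ((D.posUnipotent K ⊓ G1 : Subgroup (GL D.Idx K)) :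
            Set (GL D.Idx K)) := by
        have : (s : GL D.Idx K) ∈ M := hsM
        rw [hM] at this
        exact this.1
      obtain ⟨x, hx, hx1⟩ := hD.ne c hc
      have hxU : x ∈ D.posUnipotent K ⊓ G1 :=
        Subgroup.mem_inf.mpr ⟨c.XP_le_pos hG (c.X_le hx), c.X_G1 hx⟩
      have hcj := (Subgroup.mem_set_normalizer_iff.mp hsN _).mp hxU
      rw [hs] at hcj
      have hV := c.conj_X_mem_neg hG hT hx
      have hmem : nWordGL hG c.word * x * (nWordGL hG c.word)⁻¹ ∈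
          D.borelSubgroup K ⊓ D.negUnipotent K :=
        Subgroup.mem_inf.mpr ⟨Subgroup.mem_sup_left hcj.1, hV⟩
      rw [borel_inf_negUnipotent hG hT, Subgroup.mem_bot] at hmem
      apply hx1
      have : x = (nWordGL hG c.word)⁻¹ * (nWordGL hG c.word * x * (nWordGL hG c.word)⁻¹) *
          nWordGL hG c.word := by group
      rw [this, hmem]
      group
  exact hle' hg'

include hG hT h3 h4 h5 h6 h8 h9 hτ hle hU hW hD in
/-- An automorphism stabilising `U` stabilises `B`. -/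
theorem SMapsOnto.fixBorel {θ : ↥G1 ≃* ↥G1}
    (hθU : SMapsOnto θ (D.posUnipotent K) (D.posUnipotent K)) :
    SMapsOnto θ (D.borelSubgroup K) (D.borelSubgroup K) := by
  have hUG : (D.posUnipotent K ⊓ G1 : Subgroup (GL D.Idx K)) ≤ G1 := inf_le_right
  have heq : Subgroup.normalizer ((D.posUnipotent K ⊓ G1 : Subgroup (GL D.Idx K)) :
      Set (GL D.Idx K)) ⊓ G1 = D.borelSubgroup K ⊓ G1 :=
    le_antisymm (fix_normalizer_le hG hT h3 h4 h5 h6 h8 h9 hτ hle hU hW hD)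
      (le_inf (borel_fix_le_normalizer hG hT h3 h4 h5 h6 h8 h9 hτ hle hU) inf_le_right)
  have hU1 : SMapsOnto θ (D.posUnipotent K ⊓ G1) (D.posUnipotent K ⊓ G1) := by
    intro x
    rw [Subgroup.mem_inf, Subgroup.mem_inf]
    exact ⟨fun h => ⟨(hθU x).mp h.1, (θ x).2⟩, fun h => ⟨(hθU x).mpr h.1, x.2⟩⟩
  have := hU1.normalizer hUG hUG
  rw [heq] at this
  intro x
  have h1 := this x
  rw [Subgroup.mem_inf, Subgroup.mem_inf] at h1
  exact ⟨fun h => (h1.mp ⟨h, x.2⟩).1, fun h => (h1.mpr ⟨h, (θ x).2⟩).1⟩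

include hG hT h3 h4 h5 h6 h8 h9 hτ hle hU hW hD in
/-- An automorphism stabilising `U` and `V` permutes the subgroups `n_P X_P n_P⁻¹`. -/
theorem exists_conj_cls_map [Finite K] {θ : ↥G1 ≃* ↥G1}
    (hθU : SMapsOnto θ (D.posUnipotent K) (D.posUnipotent K))
    (hθV : SMapsOnto θ (D.negUnipotent K) (D.negUnipotent K)) (hc : c ∈ cls) :
    ∃ c' ∈ cls, SMapsOnto θ (c.Y hG) (c'.Y hG) := by
  have hBV := borel_inf_negUnipotent (F := K) hG hT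
  have hB := SMapsOnto.fixBorel hG hT h3 h4 h5 h6 h8 h9 hτ hle hU hW hD hθU
  obtain ⟨P, hPB, hPN, hPS⟩ := exists_bnPair_fix hG hT h3 h4 h5 h6 h8 h9 hτ hle hU hW hD
  have memB : ∀ x : ↥G1, x ∈ P.B ↔ (x : GL D.Idx K) ∈ D.borelSubgroup K := by
    intro x
    rw [hPB, Subgroup.mem_subgroupOf, Subgroup.mem_inf]
    exact ⟨fun h => h.1, fun h => ⟨h, x.2⟩⟩
  have hθB : ∀ x, x ∈ P.B ↔ θ x ∈ P.B := fun x => by rw [memB, memB]; exact hB x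
  -- the key direction
  have key : ∀ (θ : ↥G1 ≃* ↥G1), SMapsOnto θ (D.negUnipotent K) (D.negUnipotent K) →
      ∀ (a a' : FCls hG K (fixSub τ) G1) (ha : a ∈ cls) (ha' : a' ∈ cls),
      (∀ x, x ∈ P.parabolic {(⟨nWordGL hG a.word, a.n_G1⟩ : ↥G1)} →
        θ x ∈ P.parabolic {(⟨nWordGL hG a'.word, a'.n_G1⟩ : ↥G1)}) →
      ∀ x : ↥G1, (x : GL D.Idx K) ∈ a.Y hG → ((θ x : ↥G1) : GL D.Idx K) ∈ a'.Y hG := by
    intro θ hV a a' ha ha' hpar x hx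
    have hsS' : (⟨nWordGL hG a'.word, a'.n_G1⟩ : ↥G1) ∈ P.S := by
      rw [hPS]
      exact ⟨a', ha', rfl⟩
    obtain ⟨x₀, hx₀, e⟩ := (a.mem_Y hG).mp hx
    by_cases hx₀1 : x₀ = 1
    · have hx1 : x = 1 := by
        apply Subtype.ext
        rw [e, hx₀1]
        simp
      rw [hx1, map_one]
      exact one_mem _
    · obtain ⟨b, hb, x', hx', e'⟩ :=
        a.cell_of_conj hG hT h3 h4 h5 h6 h8 h9 hτ hle hU hW hD ha hx₀ hx₀1
      have hx'B : x' ∈ D.borelSubgroup K ⊓ G1 := pos_fix_le_borel_fix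
        (Subgroup.mem_inf.mpr ⟨a.XP_le_pos hG (a.X_le hx'), a.X_G1 hx'⟩)
      have hxC : x ∈ BN.C P (⟨nWordGL hG a.word, a.n_G1⟩ : ↥G1) := by
        rw [BN.mem_C]
        refine ⟨⟨b, hb.2⟩, (memB _).mpr hb.1, ⟨x', hx'B.2⟩, (memB _).mpr hx'B.1, ?_⟩
        apply Subtype.ext
        rw [e, e']
        rfl
      have hsS : (⟨nWordGL hG a.word, a.n_G1⟩ : ↥G1) ∈ P.S := by
        rw [hPS]
        exact ⟨a, ha, rfl⟩
      have hxP : x ∈ P.parabolic {(⟨nWordGL hG a.word, a.n_G1⟩ : ↥G1)} :=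
        (BN.mem_parabolic_singleton P hsS x).mpr (Or.inr hxC)
      have hθxP := hpar x hxP
      have hθxV : ((θ x : ↥G1) : GL D.Idx K) ∈ D.negUnipotent K :=
        (hV x).mp (a.Y_le_neg hG hT hx)
      rcases (BN.mem_parabolic_singleton P hsS' (θ x)).mp hθxP with hB' | hC'
      · have hmem : ((θ x : ↥G1) : GL D.Idx K) ∈ D.borelSubgroup K ⊓ D.negUnipotent K :=
          Subgroup.mem_inf.mpr ⟨(memB _).mp hB', hθxV⟩
        rw [hBV, Subgroup.mem_bot] at hmem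
        rw [hmem]
        exact one_mem _
      · obtain ⟨b₁, hb₁, b₂, hb₂, e₂⟩ := (BN.mem_C P).mp hC'
        have e₂' : ((θ x : ↥G1) : GL D.Idx K) =
            (b₁ : GL D.Idx K) * nWordGL hG a'.word * (b₂ : GL D.Idx K) := by
          rw [e₂]
          rfl
        obtain ⟨x'', hx'', e₃⟩ := a'.mem_conj_of_mem_cell hG hT h3 h4 h5 h6 h8 h9 hτ hle hU hW hD
          ha' hθxV (Subgroup.mem_inf.mpr ⟨(memB _).mp hb₁, b₁.2⟩)
          (Subgroup.mem_inf.mpr ⟨(memB _).mp hb₂, b₂.2⟩) e₂'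
        exact (a'.mem_Y hG).mpr ⟨x'', hx'', e₃⟩
  have hsS : (⟨nWordGL hG c.word, c.n_G1⟩ : ↥G1) ∈ P.S := by
    rw [hPS]
    exact ⟨c, hc, rfl⟩
  obtain ⟨s', hs'S, hpar⟩ := BN.exists_parabolic_map P θ hθB hsS
  have hs'S' := hs'S
  rw [hPS] at hs'S'
  obtain ⟨c', hc', hs'⟩ := hs'S'
  have hs'eq : s' = ⟨nWordGL hG c'.word, c'.n_G1⟩ := Subtype.ext hs'
  rw [hs'eq] at hpar
  refine ⟨c', hc', fun x => ⟨key θ hθV c c' hc hc' (fun y hy => (hpar y).mp hy) x, fun hx => ?_⟩⟩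
  have := key θ.symm hθV.symm c' c hc' hc (fun y hy => by
    rw [hpar (θ.symm y), θ.apply_symm_apply]
    exact hy) (θ x) hx
  rwa [θ.symm_apply_apply] at this

include hG hT h3 h4 h5 h6 h8 h9 hτ hle hU hW hD in
/-- An automorphism stabilising `B` and `n_P X_P n_P⁻¹` and fixing `X_P` elementwise fixes `n_P X_P n_P⁻¹`
elementwise. -/
theorem FCls.fix_conj_of_fix [Finite K] (hc : c ∈ cls) {θ : ↥G1 ≃* ↥G1}
    (hθB : SMapsOnto θ (D.borelSubgroup K) (D.borelSubgroup K))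
    (hθY : SMapsOnto θ (c.Y hG) (c.Y hG))
    (hfix : ∀ x : ↥G1, (x : GL D.Idx K) ∈ c.X → θ x = x) :
    ∀ y : ↥G1, (y : GL D.Idx K) ∈ c.Y hG → θ y = y := by
  obtain ⟨s, hs⟩ : ∃ s : GL D.Idx K, s = nWordGL hG c.word := ⟨_, rfl⟩
  have hsG : s ∈ G1 := by rw [hs]; exact c.n_G1
  have hYs : ∀ {g : GL D.Idx K}, g ∈ c.Y hG ↔ ∃ x ∈ c.X, g = s * x * s⁻¹ := by
    intro g
    rw [c.mem_Y hG, hs]
  have hcell : ∀ {x : GL D.Idx K}, x ∈ c.X → x ≠ 1 →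
      ∃ b ∈ D.borelSubgroup K ⊓ G1, ∃ x' ∈ c.X, s * x * s⁻¹ = b * s * x' := by
    intro x hx hx1
    rw [hs]
    exact c.cell_of_conj hG hT h3 h4 h5 h6 h8 h9 hτ hle hU hW hD hc hx hx1
  have hθBG : ∀ {b : GL D.Idx K} (hb : b ∈ D.borelSubgroup K ⊓ G1),
      ((θ ⟨b, hb.2⟩ : ↥G1) : GL D.Idx K) ∈ D.borelSubgroup K ⊓ G1 := by
    intro b hb
    exact Subgroup.mem_inf.mpr ⟨(hθB ⟨b, hb.2⟩).mp hb.1, (θ ⟨b, hb.2⟩).2⟩
  have hXG : ∀ {x : GL D.Idx K}, x ∈ c.X → x ∈ D.borelSubgroup K ⊓ G1 := fun {x} hx =>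
    pos_fix_le_borel_fix (Subgroup.mem_inf.mpr ⟨c.XP_le_pos hG (c.X_le hx), c.X_G1 hx⟩)
  -- a non-trivial element
  obtain ⟨x₀, hx₀, hx₀1⟩ := hD.ne c hc
  obtain ⟨b, hb, x', hx', e⟩ := hcell hx₀ hx₀1
  obtain ⟨y₀, hy₀def⟩ : ∃ y₀ : ↥G1, (y₀ : GL D.Idx K) = s * x₀ * s⁻¹ :=
    ⟨⟨s * x₀ * s⁻¹, mul_mem (mul_mem hsG (c.X_G1 hx₀)) (inv_mem hsG)⟩, rfl⟩
  have hy₀Y : (y₀ : GL D.Idx K) ∈ c.Y hG := hYs.mpr ⟨x₀, hx₀, hy₀def⟩
  have hy₀1 : y₀ ≠ 1 := by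
    intro h1
    apply hx₀1
    have h2 : s * x₀ * s⁻¹ = 1 := by rw [← hy₀def, h1]; rfl
    have : x₀ = s⁻¹ * (s * x₀ * s⁻¹) * s := by group
    rw [this, h2]
    group
  have hθy₀1 : θ y₀ ≠ 1 := fun h => hy₀1 (θ.injective (by rw [h, map_one]))
  have hθy₀Y := (hθY y₀).mp hy₀Y
  obtain ⟨x₂, hx₂, e₂⟩ := hYs.mp hθy₀Y
  have hx₂1 : x₂ ≠ 1 := by
    rintro rfl
    apply hθy₀1
    apply Subtype.ext
    rw [e₂]
    simp
  obtain ⟨b'', hb'', x'', hx'', e''⟩ := hcell hx₂ hx₂1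
  -- the image of `s`
  have hsdecomp : (⟨s, hsG⟩ : ↥G1) = (⟨b, hb.2⟩ : ↥G1)⁻¹ * y₀ * (⟨x', c.X_G1 hx'⟩ : ↥G1)⁻¹ := by
    apply Subtype.ext
    simp only [Subgroup.coe_mul, Subgroup.coe_inv]
    rw [hy₀def, e]
    group
  have hθs : ((θ ⟨s, hsG⟩ : ↥G1) : GL D.Idx K) =
      ((θ ⟨b, hb.2⟩ : ↥G1) : GL D.Idx K)⁻¹ * b'' * s * (x'' * x'⁻¹) := by
    rw [hsdecomp, map_mul, map_mul, map_inv, map_inv, hfix ⟨x', c.X_G1 hx'⟩ hx']
    simp only [Subgroup.coe_mul, Subgroup.coe_inv]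
    rw [e₂, e'']
    group
  obtain ⟨b₀, hb₀def⟩ : ∃ b₀ : GL D.Idx K, b₀ = ((θ ⟨b, hb.2⟩ : ↥G1) : GL D.Idx K)⁻¹ * b'' := ⟨_, rfl⟩
  have hb₀ : b₀ ∈ D.borelSubgroup K ⊓ G1 := by
    rw [hb₀def]
    exact mul_mem (inv_mem (hθBG hb)) hb''
  obtain ⟨x₁, hx₁def⟩ : ∃ x₁ : GL D.Idx K, x₁ = x'' * x'⁻¹ := ⟨_, rfl⟩
  have hx₁ : x₁ ∈ c.X := by
    rw [hx₁def]
    exact mul_mem hx'' (inv_mem hx')
  rw [← hb₀def, ← hx₁def] at hθs
  -- `x₁ = 1`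
  have hx₁1 : x₁ = 1 := by
    by_contra hne
    apply hθy₀1
    have hsq : s * s ∈ D.borelSubgroup K ⊓ G1 := by
      rw [hs]
      exact diag_fix_le_borel_fix (c.sq_mem_fix hG hD hc)
    have h1 : s * (y₀ : GL D.Idx K) * s⁻¹ ∈ D.borelSubgroup K ⊓ G1 := by
      have : s * (y₀ : GL D.Idx K) * s⁻¹ = (s * s) * x₀ * (s * s)⁻¹ := by
        rw [hy₀def]
        group
      rw [this]
      exact mul_mem (mul_mem hsq (hXG hx₀)) (inv_mem hsq)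
    have h2 := hθBG h1
    have e3 : ((θ ⟨s * (y₀ : GL D.Idx K) * s⁻¹, h1.2⟩ : ↥G1) : GL D.Idx K) =
        b₀ * (s * x₁ * ((θ y₀ : ↥G1) : GL D.Idx K) * x₁⁻¹ * s⁻¹) * b₀⁻¹ := by
      have : (⟨s * (y₀ : GL D.Idx K) * s⁻¹, h1.2⟩ : ↥G1) = ⟨s, hsG⟩ * y₀ * (⟨s, hsG⟩ : ↥G1)⁻¹ :=
        Subtype.ext rfl
      rw [this, map_mul, map_mul, map_inv]
      simp only [Subgroup.coe_mul, Subgroup.coe_inv]
      rw [hθs]
      group
    rw [e3] at h2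
    have h4' : s * x₁ * ((θ y₀ : ↥G1) : GL D.Idx K) * x₁⁻¹ * s⁻¹ ∈ D.borelSubgroup K := by
      have : s * x₁ * ((θ y₀ : ↥G1) : GL D.Idx K) * x₁⁻¹ * s⁻¹ =
          b₀⁻¹ * (b₀ * (s * x₁ * ((θ y₀ : ↥G1) : GL D.Idx K) * x₁⁻¹ * s⁻¹) * b₀⁻¹) * b₀ := by group
      rw [this]
      exact mul_mem (mul_mem (inv_mem hb₀.1) h2.1) hb₀.1
    rw [hs] at h4'
    have := c.cell_free hG hT h3 h4 h5 h6 h8 h9 hτ hle hU hW hD hc hx₁ hne
      (c.Y_le_neg hG hT hθy₀Y) h4'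
    exact Subtype.ext this
  rw [hx₁1, mul_one] at hθs
  -- conclusion
  intro y hy
  obtain ⟨x, hx, ey⟩ := hYs.mp hy
  by_cases hx1 : x = 1
  · have : y = 1 := by
      apply Subtype.ext
      rw [ey, hx1]
      simp
    rw [this, map_one]
  · obtain ⟨b₃, hb₃, x₃, hx₃, e₃⟩ := hcell hx hx1
    have hydecomp : y = (⟨b₃, hb₃.2⟩ : ↥G1) * ⟨s, hsG⟩ * ⟨x₃, c.X_G1 hx₃⟩ := by
      apply Subtype.ext
      simp only [Subgroup.coe_mul]
      rw [ey, e₃]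
    have hθy : ((θ y : ↥G1) : GL D.Idx K) =
        (((θ ⟨b₃, hb₃.2⟩ : ↥G1) : GL D.Idx K) * b₀) * (s * x₃) := by
      rw [hydecomp, map_mul, map_mul, hfix ⟨x₃, c.X_G1 hx₃⟩ hx₃]
      simp only [Subgroup.coe_mul]
      rw [hθs]
      group
    have hy' : (y : GL D.Idx K) = b₃ * (s * x₃) := by
      rw [ey, e₃]
      group
    apply Subtype.ext
    exact FCls.cell_inj hG hT (c.Y_le_neg hG hT ((hθY y).mp hy)) (c.Y_le_neg hG hT hy)
      (mul_mem (hθBG hb₃).1 hb₀.1) hb₃.1 hθy hy'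

end main

end Cfsg.Agent.Helper7.Chev
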