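import Mathlib
import Cfsg.Agent.Helper7.FAutB
import Cfsg.Agent.Helper7.ChevAutB

set_option autoImplicit false
set_option linter.unusedSectionVars false
set_option linter.unusedVariables false
set_option linter.style.haveILetI false

/-!
Automorphisms of a subgroup `G¹` of the fixed points of an automorphism permuting the root subgroups, part C: up to an
inner automorphism, an automorphism stabilises `U¹` and `V¹`.
-/

namespace Cfsg.Agent.Helper7.Chev

open Cfsg Cfsg.Lie Matrix DoubleCoset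
open scoped Pointwise

variable {D : ChevalleyDatum} {K : Type*} [Field K]

section main

variable (hG : Good2 D) (hT : T0 D) (h3 : (tabOf D).T3) (h4 : (tabOf D).T4 60) (h5 : (tabOf D).T5)
  (h6 : (tabOf D).T6) (h8 : (tabOf D).T8) (h9 : (tabOf D).T9)
  {τ : ↥(D.group K) ≃* ↥(D.group K)} {ρ : ℕ → ℕ} {f : ℕ → K →+* K}
  (hτ : RootAut D K τ ρ f) {G1 : Subgroup (GL D.Idx K)}
  (hle : G1 ≤ fixSub τ) (hU : D.posUnipotent K ⊓ fixSub τ ≤ G1)
  {Wl : List (List ℕ)} (hW : FWList hG (fixSub τ) G1 Wl)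
  {cls : List (FCls hG K (fixSub τ) G1)} (hD : FBNData hG Wl cls)

include hG hT h3 h4 h5 h6 h8 h9 hτ hle hU hW hD in
/-- Up to an inner automorphism, an automorphism of `G¹` stabilises `U` and `V`. -/
theorem fix_exists_normalize [Fintype K] (p : ℕ) [Fact p.Prime]
    (hSyl : ∃ P : Sylow p ↥G1, (P : Subgroup ↥G1) = (D.posUnipotent K).subgroupOf G1)
    {w₀ : List ℕ} (hw₀ : (tabOf D).W0ok w₀) (hw₀G : (nWordGL hG w₀ : GL D.Idx K) ∈ G1)
    (hlong : ∀ w ∈ Wl, w = w₀ ∨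
      ∃ c ∈ cls, ∀ r, c.P r → D.nroots / 2 ≤ (tabOf D).reflWord w.reverse r)
    (θ : ↥G1 ≃* ↥G1) :
    ∃ x : ↥G1, SMapsOnto (θ.trans (MulAut.conj x)) (D.posUnipotent K) (D.posUnipotent K) ∧
      SMapsOnto (θ.trans (MulAut.conj x)) (D.negUnipotent K) (D.negUnipotent K) := by
  classical
  haveI : Finite (GL D.Idx K) := inferInstance
  have hG3 : Good3 D := { toGood2 := hG, t3 := h3, t4 := h4 }
  obtain ⟨PU, hPU⟩ := hSyl
  have hUV := nWordGL_conj_pos_eq_neg (K := K) hG hT hw₀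
  have hVU : (D.negUnipotent K).map (MulAut.conj (nWordGL hG w₀ : GL D.Idx K)).toMonoidHom =
      D.posUnipotent K := nWordGL_conj_neg_eq_pos hG3 hT h8 hw₀
  obtain ⟨n₀, hn₀⟩ : ∃ n₀ : GL D.Idx K, n₀ = nWordGL hG w₀ := ⟨_, rfl⟩
  rw [← hn₀] at hUV hVU hw₀G
  have memU : ∀ z : ↥G1, z ∈ (D.posUnipotent K).subgroupOf G1 ↔ (z : GL D.Idx K) ∈ D.posUnipotent K :=
    fun z => Subgroup.mem_subgroupOf
  have memV : ∀ z : ↥G1, z ∈ (D.negUnipotent K).subgroupOf G1 ↔ (z : GL D.Idx K) ∈ D.negUnipotent K :=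
    fun z => Subgroup.mem_subgroupOf
  have memMap : ∀ (g z : ↥G1), z ∈ ((D.posUnipotent K).subgroupOf G1).map (MulAut.conj g).toMonoidHom ↔
      (g : GL D.Idx K)⁻¹ * (z : GL D.Idx K) * (g : GL D.Idx K) ∈ D.posUnipotent K := by
    intro g z
    rw [mem_map_conj, memU]
    rfl
  obtain ⟨x, hxU, hxV⟩ := exists_normalize_abstract p
    ((D.posUnipotent K).subgroupOf G1) ((D.negUnipotent K).subgroupOf G1) PU hPU
    (by
      rw [eq_bot_iff]
      rintro z ⟨hz1, hz2⟩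
      rw [Subgroup.mem_bot]
      have : (z : GL D.Idx K) ∈ D.borelSubgroup K ⊓ D.negUnipotent K :=
        Subgroup.mem_inf.mpr ⟨Subgroup.mem_sup_left ((memU z).mp hz1), (memV z).mp hz2⟩
      rw [borel_inf_negUnipotent hG hT, Subgroup.mem_bot] at this
      exact Subtype.ext this)
    ⟨n₀, hw₀G⟩
    (by
      ext z
      rw [memMap, memV, ← hUV, mem_map_conj])
    {n | (n : GL D.Idx K) ∈ D.monomialSubgroup K}
    (by
      intro g
      obtain ⟨u, hu, n, hn, u', hu', e⟩ :=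
        exists_bruhat_fix hG hT h3 h4 h5 h6 h8 h9 hτ hle hU g.2
      have hu'U : u' ∈ D.posUnipotent K := minusGen'_le_pos n hu'.1
      refine ⟨⟨u, hu.2⟩, ?_, ⟨n, hn.2⟩, hn.1, ⟨u', hu'.2⟩, (memU _).mpr hu'U, Subtype.ext e⟩
      apply Subgroup.le_normalizer
      exact (memU _).mpr hu.1)
    (by
      intro n hn hdisj
      have hnN : (n : GL D.Idx K) ∈ D.monomialSubgroup K ⊓ G1 := Subgroup.mem_inf.mpr ⟨hn, n.2⟩
      obtain ⟨w, hw, h, hh, e⟩ := hW.rep _ hnN
      have hwl := hW.lt w hw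
      rcases hlong w hw with rfl | ⟨c, hc, hpos⟩
      · ext z
        rw [memMap, memV]
        have e1 : ((n⁻¹ : ↥G1) : GL D.Idx K)⁻¹ * (z : GL D.Idx K) * ((n⁻¹ : ↥G1) : GL D.Idx K) =
            h * (n₀ * (z : GL D.Idx K) * n₀⁻¹) * h⁻¹ := by
          rw [Subgroup.coe_inv, inv_inv, e, ← hn₀]
          group
        rw [e1]
        have hn1 := Subgroup.mem_set_normalizer_iff.mp (diagonalSubgroup_le_normalizer_pos hG hh.1)
          (n₀ * (z : GL D.Idx K) * n₀⁻¹)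
        rw [SetLike.mem_coe, SetLike.mem_coe] at hn1
        rw [← hn1, ← hVU, mem_map_conj]
        have e2 : n₀⁻¹ * (n₀ * (z : GL D.Idx K) * n₀⁻¹) * n₀ = (z : GL D.Idx K) := by group
        rw [e2]
      · exfalso
        obtain ⟨x, hx, hx1⟩ := hD.ne c hc
        have hp := c.pos_of_word hG hT h8 hwl hpos hh.1 x (c.X_le hx)
        rw [← e] at hp
        have hzG : (n : GL D.Idx K)⁻¹ * x * (n : GL D.Idx K) ∈ G1 :=
          mul_mem (mul_mem (inv_mem n.2) (c.X_G1 hx)) n.2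
        have hmem : (⟨(n : GL D.Idx K)⁻¹ * x * (n : GL D.Idx K), hzG⟩ : ↥G1) ∈
            (⊥ : Subgroup ↥G1) := by
          rw [← hdisj]
          refine ⟨(memU _).mpr hp, (memMap _ _).mpr ?_⟩
          have e1 : ((n⁻¹ : ↥G1) : GL D.Idx K)⁻¹ * ((n : GL D.Idx K)⁻¹ * x * (n : GL D.Idx K)) *
              ((n⁻¹ : ↥G1) : GL D.Idx K) = x := by
            rw [Subgroup.coe_inv]
            group
          change ((n⁻¹ : ↥G1) : GL D.Idx K)⁻¹ * ((n : GL D.Idx K)⁻¹ * x * (n : GL D.Idx K)) *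
              ((n⁻¹ : ↥G1) : GL D.Idx K) ∈ D.posUnipotent K
          rw [e1]
          exact c.XP_le_pos hG (c.X_le hx)
        rw [Subgroup.mem_bot] at hmem
        have h1 : (n : GL D.Idx K)⁻¹ * x * (n : GL D.Idx K) = 1 := congrArg Subtype.val hmem
        apply hx1
        have : x = (n : GL D.Idx K) * ((n : GL D.Idx K)⁻¹ * x * (n : GL D.Idx K)) *
            (n : GL D.Idx K)⁻¹ := by group
        rw [this, h1]
        group)
    θ
  exact ⟨x, fun y => by rw [← memU, ← memU]; exact hxU y, fun y => by rw [← memV, ← memV]; exact hxV y⟩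

end main

end Cfsg.Agent.Helper7.Chev
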