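import Mathlib
import Cfsg.Agent.Helper7.FAutC

set_option autoImplicit false
set_option linter.unusedSectionVars false
set_option linter.unusedVariables false
set_option linter.style.haveILetI false

/-!
Automorphisms of a subgroup `G¹` of the fixed points of an automorphism permuting the root subgroups, part D: the
representative of the longest element conjugates `n_P X_P n_P⁻¹` onto `X_P`; some generalities.
-/

namespace Cfsg.Agent.Helper7.Chev

open Cfsg Cfsg.Lie Matrix DoubleCoset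
open scoped Pointwise

variable {D : ChevalleyDatum} {K : Type*} [Field K]

/-- A subgroup of a given prime power order and of index prime to `p` is a Sylow subgroup. -/
theorem sylow_of_card_mul_F {G : Type*} [Group G] [Finite G] (p : ℕ) [Fact p.Prime]
    (H : Subgroup G) {a d m : ℕ} (hH : Nat.card H = p ^ a) (hGc : d * Nat.card G = p ^ a * m)
    (hm : ¬ p ∣ m) : ∃ P : Sylow p G, (P : Subgroup G) = H := by
  have hp : p.Prime := Fact.out
  obtain ⟨k, hk⟩ : Nat.card H ∣ Nat.card G := Subgroup.card_subgroup_dvd_card H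
  rw [hH] at hk
  have hpa : 0 < p ^ a := pow_pos hp.pos a
  have hdk : d * k = m := by
    apply Nat.eq_of_mul_eq_mul_left hpa
    rw [← hGc, hk]
    ring
  have hpk : ¬ p ∣ k := fun h => hm (hdk ▸ Dvd.dvd.mul_left h d)
  have hk0 : k ≠ 0 := by
    rintro rfl
    exact hpk (dvd_zero p)
  have hfac : (Nat.card G).factorization p = a := by
    rw [hk, Nat.factorization_mul hpa.ne' hk0]
    simp only [Finsupp.coe_add, Pi.add_apply]
    rw [Nat.Prime.factorization_pow hp, Nat.factorization_eq_zero_of_not_dvd hpk]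
    simp
  have hcard : Nat.card H = p ^ (Nat.card G).factorization p := by rw [hfac, hH]
  exact ⟨Sylow.ofCard _ hcard, Sylow.coe_ofCard _ hcard⟩

/-- An automorphism mapping `A` onto `A'` and `B` onto `B'` preserves the commutation. -/
theorem SMapsOnto.commute_F {Γ : Type*} [Group Γ] {G1 : Subgroup Γ} {θ : ↥G1 ≃* ↥G1}
    {A A' B B' : Subgroup Γ} (hA' : A' ≤ G1) (hB' : B' ≤ G1) (h₁ : SMapsOnto θ A A')
    (h₂ : SMapsOnto θ B B') (h : ∀ x ∈ A, ∀ y ∈ B, Commute x y) :
    ∀ x ∈ A', ∀ y ∈ B', Commute x y := by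
  intro x hx y hy
  have hx' := (h₁.symm ⟨x, hA' hx⟩).mp hx
  have hy' := (h₂.symm ⟨y, hB' hy⟩).mp hy
  have hc := h _ hx' _ hy'
  have hc' : Commute (θ.symm ⟨x, hA' hx⟩) (θ.symm ⟨y, hB' hy⟩) := Subtype.ext hc.eq
  have hc'' := hc'.map θ
  rw [MulEquiv.apply_symm_apply, MulEquiv.apply_symm_apply] at hc''
  exact congrArg Subtype.val hc''.eq

section main

variable (hG : Good2 D) (hT : T0 D)
  {τ : ↥(D.group K) ≃* ↥(D.group K)} {G1 : Subgroup (GL D.Idx K)}
  (hle : G1 ≤ fixSub τ)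
  (c : FCls hG K (fixSub τ) G1)

include hG hT hle in
/-- The element of `N` of a word mapping the negatives of the roots of the class to roots of the class conjugates
`n_P X_P n_P⁻¹` into `X_P`. -/
theorem FCls.conj_Y_mem_X (hX : c.X = Subgroup.closure (rootGen D K c.P) ⊓ fixSub τ)
    {w₀ : List ℕ} (hw₀l : ∀ i ∈ w₀, i < D.rank) (hw₀G : (nWordGL hG w₀ : GL D.Idx K) ∈ G1)
    (hmap : ∀ r, c.P r → ∃ r', c.P r' ∧ (tabOf D).reflWord w₀ (D.neg r) = r') :
    ∀ g ∈ c.Y hG, nWordGL hG w₀ * g * (nWordGL hG w₀)⁻¹ ∈ c.X := by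
  have hG1 := hG.toGood1
  intro g hg
  have hgG : g ∈ G1 := c.Y_le_G1 hG hg
  obtain ⟨x, hx, rfl⟩ := (c.mem_Y hG).mp hg
  rw [hX]
  refine Subgroup.mem_inf.mpr ⟨?_, hle (mul_mem (mul_mem hw₀G hgG) (inv_mem hw₀G))⟩
  have h1 := c.conj_XP_le hG hT x (c.X_le hx)
  refine conj_closure_le (S := rootGen D K (fun r => ∃ r', c.P r' ∧ r = D.neg r'))
    (S' := rootGen D K c.P) (nWordGL hG w₀ : GL D.Idx K) ?_ _ h1
  rintro y ⟨r, t, ⟨r', hr', rfl⟩, hy⟩
  have hr'l := (c.P_pos r' hr').1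
  have hrl := hG1.neg_lt hr'l
  rw [eq_xGL hG1 hrl hy, nWordGL_conj hG hw₀l hrl]
  obtain ⟨r'', hr'', e⟩ := hmap r' hr'
  exact Subgroup.subset_closure ⟨_, _, e ▸ hr'', xGL_coe hG1 _ _⟩

include hG hT hle in
/-- The element of `N` of a word mapping the negatives of the roots of the class to roots of the class conjugates
`n_P X_P n_P⁻¹` onto `X_P`. -/
theorem FCls.Y_map_conj_eq [Finite K] (hX : c.X = Subgroup.closure (rootGen D K c.P) ⊓ fixSub τ)
    {w₀ : List ℕ} (hw₀l : ∀ i ∈ w₀, i < D.rank) (hw₀G : (nWordGL hG w₀ : GL D.Idx K) ∈ G1)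
    (hmap : ∀ r, c.P r → ∃ r', c.P r' ∧ (tabOf D).reflWord w₀ (D.neg r) = r') :
    (c.Y hG).map (MulAut.conj (nWordGL hG w₀ : GL D.Idx K)).toMonoidHom = c.X := by
  haveI : Finite (GL D.Idx K) := inferInstance
  have hle' : (c.Y hG).map (MulAut.conj (nWordGL hG w₀ : GL D.Idx K)).toMonoidHom ≤ c.X := by
    rintro _ ⟨g, hg, rfl⟩
    exact c.conj_Y_mem_X hG hT hle hX hw₀l hw₀G hmap g hg
  apply Subgroup.eq_of_le_of_card_ge hle'
  rw [Subgroup.card_map_of_injective (MulAut.conj _).injective]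
  unfold FCls.Y
  rw [Subgroup.card_map_of_injective (MulAut.conj _).injective]

end main

end Cfsg.Agent.Helper7.Chev
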