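import Mathlib
import Cfsg.Agent.Helper7.FAutD
import Cfsg.Agent.Helper7.ChevF4q

set_option autoImplicit false
set_option linter.unusedSectionVars false
set_option linter.unusedVariables false
set_option linter.style.haveILetI false

/-!
Automorphisms of the large Ree groups `²F₄(q)`, part A: up to an inner automorphism, an automorphism stabilises
`U¹` and `V¹`, and then the four subgroups `X_{±a}`, `X_{±b}` of the two classes of fundamental roots.
-/

namespace Cfsg.Agent.Helper7.Chev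

open Cfsg Cfsg.Lie Matrix

set_option maxRecDepth 1000000 in
theorem f4_long_fast : ∀ w ∈ f4Wl, w = f4AltWord false 8 ∨
    (∀ r ∈ [24, 33], 24 ≤ fastF4.reflWord w.reverse r) ∨
    (∀ r ∈ [25, 27, 28, 30], 24 ≤ fastF4.reflWord w.reverse r) := by decide +kernel

theorem f4_long : ∀ w ∈ f4Wl, w = f4AltWord false 8 ∨
    (∀ r ∈ [24, 33], 24 ≤ (tabOf chevF4).reflWord w.reverse r) ∨
    (∀ r ∈ [25, 27, 28, 30], 24 ≤ (tabOf chevF4).reflWord w.reverse r) := tab_F4 ▸ f4_long_fast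

set_option maxRecDepth 1000000 in
theorem f4_w0neg_fast :
    (∀ r ∈ [24, 33], fastF4.reflWord (f4AltWord false 8) (47 - r) ∈ [24, 33]) ∧
    (∀ r ∈ [25, 27, 28, 30], fastF4.reflWord (f4AltWord false 8) (47 - r) ∈ [25, 27, 28, 30]) := by
  decide +kernel

theorem f4_w0neg :
    (∀ r ∈ [24, 33], (tabOf chevF4).reflWord (f4AltWord false 8) (47 - r) ∈ [24, 33]) ∧
    (∀ r ∈ [25, 27, 28, 30], (tabOf chevF4).reflWord (f4AltWord false 8) (47 - r) ∈
      [25, 27, 28, 30]) := tab_F4 ▸ f4_w0neg_fast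

section stab

variable {K : Type*} [Field K] [CharP K 2] {m : ℕ}

/-- The automorphism stabilises `U` and `V`. -/
def F4Stab (θ : ↥(twistedF4 K (2 ^ m)) ≃* ↥(twistedF4 K (2 ^ m))) : Prop :=
  SMapsOnto θ (chevF4.posUnipotent K) (chevF4.posUnipotent K) ∧
    SMapsOnto θ (chevF4.negUnipotent K) (chevF4.negUnipotent K)

theorem F4Stab.trans {θ θ' : ↥(twistedF4 K (2 ^ m)) ≃* ↥(twistedF4 K (2 ^ m))} (h : F4Stab θ)
    (h' : F4Stab θ') : F4Stab (θ.trans θ') :=
  ⟨h.1.trans h'.1, h.2.trans h'.2⟩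

theorem F4Stab.symm {θ : ↥(twistedF4 K (2 ^ m)) ≃* ↥(twistedF4 K (2 ^ m))} (h : F4Stab θ) :
    F4Stab θ.symm :=
  ⟨h.1.symm, h.2.symm⟩

theorem F4Stab.mul {θ θ' : ↥(twistedF4 K (2 ^ m)) ≃* ↥(twistedF4 K (2 ^ m))} (h : F4Stab θ)
    (h' : F4Stab θ') : F4Stab (θ * θ' : MulAut ↥(twistedF4 K (2 ^ m))) :=
  h'.trans h

/-- Conjugation by an element of `H¹` stabilises `U` and `V`. -/
theorem f4Stab_conj_diag {h : ↥(twistedF4 K (2 ^ m))}
    (hh : (h : GL chevF4.Idx K) ∈ chevF4.diagonalSubgroup K) : F4Stab (MulAut.conj h) :=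
  ⟨sMapsOnto_conj_of_mem_normalizer (diagonalSubgroup_le_normalizer_pos good3_F4.toGood2 hh),
    sMapsOnto_conj_of_mem_normalizer (diagonalSubgroup_le_normalizer_neg good3_F4.toGood2 hh)⟩

end stab

section finite

variable {K : Type*} [Field K] [Fintype K] [CharP K 2] {m : ℕ}

theorem f4_odd_part (q : ℕ) (hq : Even q) (hq1 : 1 ≤ q) :
    ¬ 2 ∣ (q - 1) * (q ^ 3 + 1) * (q ^ 4 - 1) * (q ^ 6 + 1) := by
  have h1 : Odd (q - 1) := Nat.Even.sub_odd hq1 hq odd_one
  have h2 : Odd (q ^ 3 + 1) := (hq.pow_of_ne_zero (by norm_num)).add_one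
  have h3 : Odd (q ^ 4 - 1) :=
    Nat.Even.sub_odd (Nat.one_le_pow _ _ hq1) (hq.pow_of_ne_zero (by norm_num)) odd_one
  have h4 : Odd (q ^ 6 + 1) := (hq.pow_of_ne_zero (by norm_num)).add_one
  exact (((h1.mul h2).mul h3).mul h4).not_two_dvd_nat

/-- Up to an inner automorphism, an automorphism stabilises `U` and `V`. -/
theorem f4_exists_stab (hK : Fintype.card K = 2 ^ (2 * m + 1))
    (θ : ↥(twistedF4 K (2 ^ m)) ≃* ↥(twistedF4 K (2 ^ m))) :
    ∃ x : ↥(twistedF4 K (2 ^ m)), F4Stab (θ.trans (MulAut.conj x)) := by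
  have hm := pow_card_two hK
  haveI : Fact (Nat.Prime 2) := ⟨Nat.prime_two⟩
  have hSyl : ∃ P : Sylow 2 ↥(twistedF4 K (2 ^ m)),
      (P : Subgroup ↥(twistedF4 K (2 ^ m))) =
        (chevF4.posUnipotent K).subgroupOf (twistedF4 K (2 ^ m)) := by
    apply sylow_of_card_mul_F 2 _ (a := (2 * m + 1) * 12) (d := 1)
      (m := (2 ^ (2 * m + 1) - 1) * ((2 ^ (2 * m + 1)) ^ 3 + 1) * ((2 ^ (2 * m + 1)) ^ 4 - 1) *
        ((2 ^ (2 * m + 1)) ^ 6 + 1))
    · rw [← Subgroup.inf_subgroupOf_right,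
        Nat.card_congr (Subgroup.subgroupOfEquivOfLe inf_le_right).toEquiv, f4_card_U hK, pow_mul]
    · rw [one_mul, f4_card_twisted hK, pow_mul]
      ring
    · exact f4_odd_part _ (Nat.even_pow.mpr ⟨even_two, by omega⟩) Nat.one_le_two_pow
  apply fix_exists_normalize good3_F4.toGood2 T0_F4 good3_F4.t3 good3_F4.t4 T5_F4 T6_F4 T8_F4 T9_F4
    (f4Tau_rootAut hm) (twistedF4_le_fixSub hm) (f4_posFix_le hm) (f4_fWList hm) (f4_fbnData hm) 2 hSyl
    (f4_altW0 false) (f4AltWord_mem_twisted false 8)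
  intro w hw
  rcases f4_long w hw with h | h | h
  · exact Or.inl h
  · refine Or.inr ⟨f4Cls1 hm, by unfold f4ClsList; simp, ?_⟩
    intro r hr
    rw [f4Cls1_P, f4_inJ1Pos_iff] at hr
    apply h
    simp only [List.mem_cons, List.not_mem_nil, or_false]
    exact hr
  · refine Or.inr ⟨f4Cls2 hm, by unfold f4ClsList; simp, ?_⟩
    intro r hr
    rw [f4Cls2_P, f4_inJ2Pos_iff] at hr
    apply h
    simp only [List.mem_cons, List.not_mem_nil, or_false]
    exact hr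

end finite

end Cfsg.Agent.Helper7.Chev
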