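import Mathlib
import Cfsg.Agent.Helper7.F4AutA

set_option autoImplicit false
set_option linter.unusedSectionVars false
set_option linter.unusedVariables false
set_option linter.style.haveILetI false

/-!
Automorphisms of the large Ree groups `²F₄(q)`, part B: an automorphism stabilising `U¹` and `V¹` stabilises the four
subgroups `X_{±a}`, `X_{±b}` of the two classes of fundamental roots.
-/

namespace Cfsg.Agent.Helper7.Chev

open Cfsg Cfsg.Lie Matrix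

section desc

variable {K : Type*} [Field K] [CharP K 2] {m : ℕ} (hm : ∀ t : K, t ^ 2 ^ (2 * m + 1) = t)

theorem mem_f4X1 {g : GL chevF4.Idx K} : g ∈ (f4Cls1 hm).X ↔ ∃ t : K, g = xP 33 24 m t :=
  mem_XJ1_fix_iff hm

theorem mem_f4X2 {g : GL chevF4.Idx K} : g ∈ (f4Cls2 hm).X ↔ ∃ t u : K, g = (quadPos K).xS m t u :=
  mem_XJ2_fix_iff hm

theorem f4N1_conj_xP (t : K) : f4N1 K * xP 33 24 m t * (f4N1 K)⁻¹ = xP 14 23 m t := by
  rw [← f4Phi_anti (m := m), ← f4Phi_upper, ← map_mul, antiSL_mul_upper, map_mul, mul_inv_cancel_right,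
    f4Phi_lower, neg_eq_self_char2]

theorem mem_f4Y1 {g : GL chevF4.Idx K} :
    g ∈ (f4Cls1 hm).Y good3_F4.toGood2 ↔ ∃ t : K, g = xP 14 23 m t := by
  rw [FCls.mem_Y]
  constructor
  · rintro ⟨x, hx, rfl⟩
    obtain ⟨t, rfl⟩ := (mem_f4X1 hm).mp hx
    exact ⟨t, f4N1_conj_xP t⟩
  · rintro ⟨t, rfl⟩
    exact ⟨xP 33 24 m t, (mem_f4X1 hm).mpr ⟨t, rfl⟩, (f4N1_conj_xP t).symm⟩

theorem mem_f4Y2 {g : GL chevF4.Idx K} :
    g ∈ (f4Cls2 hm).Y good3_F4.toGood2 ↔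
      ∃ t u : K, g = f4N2 K * (quadPos K).xS m t u * (f4N2 K)⁻¹ := by
  rw [FCls.mem_Y]
  constructor
  · rintro ⟨x, hx, rfl⟩
    obtain ⟨t, u, rfl⟩ := (mem_f4X2 hm).mp hx
    exact ⟨t, u, rfl⟩
  · rintro ⟨t, u, rfl⟩
    exact ⟨_, (mem_f4X2 hm).mpr ⟨t, u, rfl⟩, rfl⟩

/-- The first class is commutative. -/
theorem f4Y1_commute : ∀ x ∈ (f4Cls1 hm).Y good3_F4.toGood2, ∀ y ∈ (f4Cls1 hm).Y good3_F4.toGood2,
    Commute x y := by
  intro x hx y hy
  rw [FCls.mem_Y] at hx hy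
  obtain ⟨x, hx, rfl⟩ := hx
  obtain ⟨y, hy, rfl⟩ := hy
  obtain ⟨t, rfl⟩ := (mem_f4X1 hm).mp hx
  obtain ⟨u, rfl⟩ := (mem_f4X1 hm).mp hy
  have h : Commute (xP 33 24 m t) (xP 33 24 m u) := by
    change _ = _
    rw [xP_mul, xP_mul, add_comm]
  have h2 := h.map (MulAut.conj (nWordGL good3_F4.toGood2 (f4Cls1 hm).word : GL chevF4.Idx K))
  simpa using h2

include hm in
/-- The Frobenius power is not the identity. -/
theorem exists_f4Th_ne (hs : ∃ s : Kˣ, s ≠ 1) : ∃ t : K, f4Th K m t ≠ t := by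
  by_contra hcon
  push_neg at hcon
  obtain ⟨s, hs1⟩ := hs
  apply hs1
  have h1 : f4Th K (m + 1) (f4Th K m (s : K)) = s := f4Th_succ_f4Th hm _
  rw [f4Th_succ, hcon, hcon] at h1
  have h2 : (s : K) * ((s : K) - 1) = 0 := by linear_combination h1
  rcases mul_eq_zero.mp h2 with h | h
  · exact absurd h s.ne_zero
  · exact Units.ext (sub_eq_zero.mp h)

/-- The second class is not commutative. -/
theorem f4Y2_not_commute (hs : ∃ s : Kˣ, s ≠ 1) :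
    ¬ ∀ x ∈ (f4Cls2 hm).Y good3_F4.toGood2, ∀ y ∈ (f4Cls2 hm).Y good3_F4.toGood2, Commute x y := by
  intro hcomm
  obtain ⟨t, ht⟩ := exists_f4Th_ne hm hs
  have h := hcomm _ ((mem_f4Y2 hm).mpr ⟨1, 0, rfl⟩) _ ((mem_f4Y2 hm).mpr ⟨t, 0, rfl⟩)
  have h' : (quadPos K).xS m 1 0 * (quadPos K).xS m t 0 = (quadPos K).xS m t 0 * (quadPos K).xS m 1 0 := by
    have e := h.eq
    have e1 : f4N2 K * ((quadPos K).xS m 1 0 * (quadPos K).xS m t 0) * (f4N2 K)⁻¹ =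
        f4N2 K * ((quadPos K).xS m t 0 * (quadPos K).xS m 1 0) * (f4N2 K)⁻¹ := by
      calc f4N2 K * ((quadPos K).xS m 1 0 * (quadPos K).xS m t 0) * (f4N2 K)⁻¹
          = (f4N2 K * (quadPos K).xS m 1 0 * (f4N2 K)⁻¹) *
            (f4N2 K * (quadPos K).xS m t 0 * (f4N2 K)⁻¹) := by group
        _ = (f4N2 K * (quadPos K).xS m t 0 * (f4N2 K)⁻¹) *
            (f4N2 K * (quadPos K).xS m 1 0 * (f4N2 K)⁻¹) := e
        _ = _ := by group
    exact mul_left_cancel (mul_right_cancel e1)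
  rw [xS_mul hm, xS_mul hm] at h'
  have h2 := (xS_injective h').2
  apply ht
  rw [map_one, one_mul, mul_one] at h2
  simp only [zero_add, add_zero] at h2
  exact h2.symm

end desc

section finite

variable {K : Type*} [Field K] [Fintype K] [CharP K 2] {m : ℕ}
  (hm : ∀ t : K, t ^ 2 ^ (2 * m + 1) = t) (hs : ∃ s : Kˣ, s ≠ 1)

include hm in
/-- An automorphism stabilising `U` stabilises `B`. -/
theorem F4Stab.borel {θ : ↥(twistedF4 K (2 ^ m)) ≃* ↥(twistedF4 K (2 ^ m))} (hθ : F4Stab θ) :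
    SMapsOnto θ (chevF4.borelSubgroup K) (chevF4.borelSubgroup K) :=
  SMapsOnto.fixBorel good3_F4.toGood2 T0_F4 good3_F4.t3 good3_F4.t4 T5_F4 T6_F4 T8_F4 T9_F4
    (f4Tau_rootAut hm) (twistedF4_le_fixSub hm) (f4_posFix_le hm) (f4_fWList hm) (f4_fbnData hm) hθ.1

include hs in
/-- An automorphism stabilising `U` and `V` stabilises `X_{-a}`. -/
theorem F4Stab.Y1 {θ : ↥(twistedF4 K (2 ^ m)) ≃* ↥(twistedF4 K (2 ^ m))} (hθ : F4Stab θ) :
    SMapsOnto θ ((f4Cls1 hm).Y good3_F4.toGood2) ((f4Cls1 hm).Y good3_F4.toGood2) := by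
  obtain ⟨c', hc', hmap⟩ := exists_conj_cls_map good3_F4.toGood2 T0_F4 good3_F4.t3 good3_F4.t4 T5_F4
    T6_F4 T8_F4 T9_F4 (f4Tau_rootAut hm) (twistedF4_le_fixSub hm) (f4_posFix_le hm) (f4_fWList hm)
    (f4_fbnData hm) (f4Cls1 hm) hθ.1 hθ.2 (by unfold f4ClsList; simp)
  unfold f4ClsList at hc'
  simp only [List.mem_cons, List.not_mem_nil, or_false] at hc'
  rcases hc' with rfl | rfl
  · exact hmap
  · exfalso
    exact f4Y2_not_commute hm hs (SMapsOnto.commute_F ((f4Cls2 hm).Y_le_G1 good3_F4.toGood2)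
      ((f4Cls2 hm).Y_le_G1 good3_F4.toGood2) hmap hmap (f4Y1_commute hm))

include hs in
/-- An automorphism stabilising `U` and `V` stabilises `X_{-b}`. -/
theorem F4Stab.Y2 {θ : ↥(twistedF4 K (2 ^ m)) ≃* ↥(twistedF4 K (2 ^ m))} (hθ : F4Stab θ) :
    SMapsOnto θ ((f4Cls2 hm).Y good3_F4.toGood2) ((f4Cls2 hm).Y good3_F4.toGood2) := by
  obtain ⟨c', hc', hmap⟩ := exists_conj_cls_map good3_F4.toGood2 T0_F4 good3_F4.t3 good3_F4.t4 T5_F4
    T6_F4 T8_F4 T9_F4 (f4Tau_rootAut hm) (twistedF4_le_fixSub hm) (f4_posFix_le hm) (f4_fWList hm)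
    (f4_fbnData hm) (f4Cls2 hm) hθ.1 hθ.2 (by unfold f4ClsList; simp)
  unfold f4ClsList at hc'
  simp only [List.mem_cons, List.not_mem_nil, or_false] at hc'
  rcases hc' with rfl | rfl
  · exfalso
    exact f4Y2_not_commute hm hs (SMapsOnto.commute_F ((f4Cls2 hm).Y_le_G1 good3_F4.toGood2)
      ((f4Cls2 hm).Y_le_G1 good3_F4.toGood2) hmap.symm hmap.symm (f4Y1_commute hm))
  · exact hmap

/-- The representative of the longest element conjugates `X_{-a}` onto `X_a`. -/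
theorem f4Nw_conj_Y1 : ((f4Cls1 hm).Y good3_F4.toGood2).map (MulAut.conj (f4Nw K)).toMonoidHom =
    (f4Cls1 hm).X := by
  apply FCls.Y_map_conj_eq good3_F4.toGood2 T0_F4 (twistedF4_le_fixSub hm) (f4Cls1 hm) (f4Cls1_X hm)
    (f4_altW0 false).1 (f4AltWord_mem_twisted false 8)
  intro r hr
  rw [f4Cls1_P, f4_inJ1Pos_iff] at hr
  have hr48 : r < 48 := by omega
  have h := f4_w0neg.1 r (by simp only [List.mem_cons, List.not_mem_nil, or_false]; exact hr)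
  rw [f4_neg_eq r hr48]
  refine ⟨_, ?_, rfl⟩
  rw [f4Cls1_P, f4_inJ1Pos_iff]
  simpa using h

/-- The representative of the longest element conjugates `X_{-b}` onto `X_b`. -/
theorem f4Nw_conj_Y2 : ((f4Cls2 hm).Y good3_F4.toGood2).map (MulAut.conj (f4Nw K)).toMonoidHom =
    (f4Cls2 hm).X := by
  apply FCls.Y_map_conj_eq good3_F4.toGood2 T0_F4 (twistedF4_le_fixSub hm) (f4Cls2 hm) (f4Cls2_X hm)
    (f4_altW0 false).1 (f4AltWord_mem_twisted false 8)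
  intro r hr
  rw [f4Cls2_P, f4_inJ2Pos_iff] at hr
  have hr48 : r < 48 := by omega
  have h := f4_w0neg.2 r (by simp only [List.mem_cons, List.not_mem_nil, or_false]; exact hr)
  rw [f4_neg_eq r hr48]
  refine ⟨_, ?_, rfl⟩
  rw [f4Cls2_P, f4_inJ2Pos_iff]
  simpa using h

/-- Conjugating an automorphism stabilising `U` and `V` by the representative of the longest element. -/
theorem F4Stab.conj_n0 {θ : ↥(twistedF4 K (2 ^ m)) ≃* ↥(twistedF4 K (2 ^ m))} (hθ : F4Stab θ) :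
    F4Stab ((MulAut.conj (⟨f4Nw K, f4Nw_mem_twisted⟩ : ↥(twistedF4 K (2 ^ m)))).trans
      (θ.trans (MulAut.conj (⟨f4Nw K, f4Nw_mem_twisted⟩ : ↥(twistedF4 K (2 ^ m)))).symm)) := by
  have hcUV : SMapsOnto (MulAut.conj (⟨f4Nw K, f4Nw_mem_twisted⟩ : ↥(twistedF4 K (2 ^ m))))
      (chevF4.posUnipotent K) (chevF4.negUnipotent K) := by
    have := sMapsOnto_conj (⟨f4Nw K, f4Nw_mem_twisted⟩ : ↥(twistedF4 K (2 ^ m))) (chevF4.posUnipotent K)
    rw [show ((⟨f4Nw K, f4Nw_mem_twisted⟩ : ↥(twistedF4 K (2 ^ m))) : GL chevF4.Idx K) =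
      nWordGL good3_F4.toGood2 (f4AltWord false 8) from rfl,
      nWordGL_conj_pos_eq_neg (K := K) good3_F4.toGood2 T0_F4 (f4_altW0 false)] at this
    exact this
  have hcVU : SMapsOnto (MulAut.conj (⟨f4Nw K, f4Nw_mem_twisted⟩ : ↥(twistedF4 K (2 ^ m))))
      (chevF4.negUnipotent K) (chevF4.posUnipotent K) := by
    have := sMapsOnto_conj (⟨f4Nw K, f4Nw_mem_twisted⟩ : ↥(twistedF4 K (2 ^ m))) (chevF4.negUnipotent K)
    rw [show ((⟨f4Nw K, f4Nw_mem_twisted⟩ : ↥(twistedF4 K (2 ^ m))) : GL chevF4.Idx K) =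
      nWordGL good3_F4.toGood2 (f4AltWord false 8) from rfl,
      nWordGL_conj_neg_eq_pos good3_F4 T0_F4 T8_F4 (f4_altW0 false)] at this
    exact this
  exact ⟨hcUV.trans (hθ.2.trans hcUV.symm), hcVU.trans (hθ.1.trans hcVU.symm)⟩

include hs in
/-- An automorphism stabilising `U` and `V` stabilises `X_a`. -/
theorem F4Stab.X1 {θ : ↥(twistedF4 K (2 ^ m)) ≃* ↥(twistedF4 K (2 ^ m))} (hθ : F4Stab θ) :
    SMapsOnto θ (f4Cls1 hm).X (f4Cls1 hm).X := by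
  have hcX : SMapsOnto (MulAut.conj (⟨f4Nw K, f4Nw_mem_twisted⟩ : ↥(twistedF4 K (2 ^ m))))
      ((f4Cls1 hm).Y good3_F4.toGood2) (f4Cls1 hm).X := by
    have := sMapsOnto_conj (⟨f4Nw K, f4Nw_mem_twisted⟩ : ↥(twistedF4 K (2 ^ m)))
      ((f4Cls1 hm).Y good3_F4.toGood2)
    rw [show ((⟨f4Nw K, f4Nw_mem_twisted⟩ : ↥(twistedF4 K (2 ^ m))) : GL chevF4.Idx K) = f4Nw K from rfl,
      f4Nw_conj_Y1 hm] at this
    exact this
  have h1 := hcX.symm.trans ((hθ.conj_n0.Y1 hm hs).trans hcX)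
  have e : (MulAut.conj (⟨f4Nw K, f4Nw_mem_twisted⟩ : ↥(twistedF4 K (2 ^ m)))).symm.trans
      (((MulAut.conj (⟨f4Nw K, f4Nw_mem_twisted⟩ : ↥(twistedF4 K (2 ^ m)))).trans
        (θ.trans (MulAut.conj (⟨f4Nw K, f4Nw_mem_twisted⟩ : ↥(twistedF4 K (2 ^ m)))).symm)).trans
          (MulAut.conj (⟨f4Nw K, f4Nw_mem_twisted⟩ : ↥(twistedF4 K (2 ^ m))))) = θ := by
    apply MulEquiv.ext
    intro x
    simp only [MulEquiv.trans_apply, MulEquiv.apply_symm_apply]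
  rw [e] at h1
  exact h1

include hs in
/-- An automorphism stabilising `U` and `V` stabilises `X_b`. -/
theorem F4Stab.X2 {θ : ↥(twistedF4 K (2 ^ m)) ≃* ↥(twistedF4 K (2 ^ m))} (hθ : F4Stab θ) :
    SMapsOnto θ (f4Cls2 hm).X (f4Cls2 hm).X := by
  have hcX : SMapsOnto (MulAut.conj (⟨f4Nw K, f4Nw_mem_twisted⟩ : ↥(twistedF4 K (2 ^ m))))
      ((f4Cls2 hm).Y good3_F4.toGood2) (f4Cls2 hm).X := by
    have := sMapsOnto_conj (⟨f4Nw K, f4Nw_mem_twisted⟩ : ↥(twistedF4 K (2 ^ m)))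
      ((f4Cls2 hm).Y good3_F4.toGood2)
    rw [show ((⟨f4Nw K, f4Nw_mem_twisted⟩ : ↥(twistedF4 K (2 ^ m))) : GL chevF4.Idx K) = f4Nw K from rfl,
      f4Nw_conj_Y2 hm] at this
    exact this
  have h1 := hcX.symm.trans ((hθ.conj_n0.Y2 hm hs).trans hcX)
  have e : (MulAut.conj (⟨f4Nw K, f4Nw_mem_twisted⟩ : ↥(twistedF4 K (2 ^ m)))).symm.trans
      (((MulAut.conj (⟨f4Nw K, f4Nw_mem_twisted⟩ : ↥(twistedF4 K (2 ^ m)))).trans
        (θ.trans (MulAut.conj (⟨f4Nw K, f4Nw_mem_twisted⟩ : ↥(twistedF4 K (2 ^ m)))).symm)).trans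
          (MulAut.conj (⟨f4Nw K, f4Nw_mem_twisted⟩ : ↥(twistedF4 K (2 ^ m))))) = θ := by
    apply MulEquiv.ext
    intro x
    simp only [MulEquiv.trans_apply, MulEquiv.apply_symm_apply]
  rw [e] at h1
  exact h1

end finite

end Cfsg.Agent.Helper7.Chev
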