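import Mathlib
import Cfsg.Agent.Helper7.F4AutB
import Cfsg.Agent.Helper7.ChevFix1

set_option autoImplicit false
set_option linter.unusedSectionVars false
set_option linter.unusedVariables false
set_option linter.style.haveILetI false

/-!
Automorphisms of the large Ree groups `²F₄(q)`, part C: the field automorphisms.
-/

namespace Cfsg.Agent.Helper7.Chev

open Cfsg Cfsg.Lie Matrix

section field

variable {K : Type*} [Field K] [CharP K 2] {m : ℕ}

omit [CharP K 2] in
theorem glMap_fx (σ : K ≃+* K) (r : Fin 48) (t : K) :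
    glMap (D := chevF4) (σ : K →+* K) (fx K r t) = fx K r (σ t) :=
  glMap_xGL (σ : K →+* K) good3_F4.toGood1 r.2 t

theorem f4Th_map (σ : K ≃+* K) (t : K) : σ (f4Th K m t) = f4Th K m (σ t) := by
  rw [f4Th_apply, f4Th_apply, map_pow]

theorem glMap_xP (σ : K ≃+* K) (r rb : Fin 48) (t : K) :
    glMap (D := chevF4) (σ : K →+* K) (xP r rb m t) = xP r rb m (σ t) := by
  unfold xP
  rw [map_mul, glMap_fx, glMap_fx, f4Th_map]

theorem glMap_xS (q : B2Quad K) (σ : K ≃+* K) (t u : K) :
    glMap (D := chevF4) (σ : K →+* K) (q.xS m t u) = q.xS m (σ t) (σ u) := by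
  unfold B2Quad.xS B2Quad.xQ
  simp only [map_mul, glMap_fx, f4Th_map, map_add]

theorem glMap_mem_twistedF4 (σ : K ≃+* K) {g : GL chevF4.Idx K} (hg : g ∈ twistedF4 K (2 ^ m)) :
    glMap (D := chevF4) (σ : K →+* K) g ∈ twistedF4 K (2 ^ m) := by
  rw [twistedF4_eq (K := K) (m := m)] at hg
  induction hg using Subgroup.closure_induction with
  | mem x hx =>
    rcases hx with (⟨t, rfl⟩ | ⟨t, rfl⟩) | (⟨t, u, rfl⟩ | ⟨t, u, rfl⟩)
    · rw [glMap_xP]
      exact xP_pos_mem_twisted _
    · rw [glMap_xP]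
      exact xP_neg_mem_twisted _
    · rw [glMap_xS]
      exact xS_pos_mem_twisted _ _
    · rw [glMap_xS]
      exact xS_neg_mem_twisted _ _
  | one => rw [map_one]; exact one_mem _
  | mul x y _ _ hx hy => rw [map_mul]; exact mul_mem hx hy
  | inv x _ hx => rw [map_inv]; exact inv_mem hx

/-- The field automorphism as an endomorphism of the group. -/
noncomputable def f4FieldHom (K : Type*) [Field K] [CharP K 2] (m : ℕ) (σ : K ≃+* K) :
    ↥(twistedF4 K (2 ^ m)) →* ↥(twistedF4 K (2 ^ m)) :=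
  ((glMap (D := chevF4) (σ : K →+* K)).comp (twistedF4 K (2 ^ m)).subtype).codRestrict
    (twistedF4 K (2 ^ m)) (fun g => glMap_mem_twistedF4 σ g.2)

theorem f4FieldHom_coe (σ : K ≃+* K) (g : ↥(twistedF4 K (2 ^ m))) :
    ((f4FieldHom K m σ g : ↥(twistedF4 K (2 ^ m))) : GL chevF4.Idx K) =
      glMap (D := chevF4) (σ : K →+* K) (g : GL chevF4.Idx K) := rfl

theorem f4FieldHom_f4FieldHom (σ σ' : K ≃+* K) (g : ↥(twistedF4 K (2 ^ m))) :
    f4FieldHom K m σ (f4FieldHom K m σ' g) = f4FieldHom K m (σ * σ') g := by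
  apply Subtype.ext
  apply Units.ext
  rw [f4FieldHom_coe, f4FieldHom_coe, f4FieldHom_coe, glMap_coe, glMap_coe, glMap_coe]
  ext i j
  rfl

theorem f4FieldHom_one (g : ↥(twistedF4 K (2 ^ m))) : f4FieldHom K m 1 g = g := by
  apply Subtype.ext
  apply Units.ext
  rw [f4FieldHom_coe, glMap_coe]
  ext i j
  rfl

/-- The field automorphisms of the large Ree group. -/
noncomputable def f4FieldAut (K : Type*) [Field K] [CharP K 2] (m : ℕ) :
    (K ≃+* K) →* MulAut ↥(twistedF4 K (2 ^ m)) where
  toFun σ :=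
    { toFun := f4FieldHom K m σ
      invFun := f4FieldHom K m σ⁻¹
      left_inv := fun g => by rw [f4FieldHom_f4FieldHom, inv_mul_cancel, f4FieldHom_one]
      right_inv := fun g => by rw [f4FieldHom_f4FieldHom, mul_inv_cancel, f4FieldHom_one]
      map_mul' := map_mul (f4FieldHom K m σ) }
  map_one' := by
    apply MulEquiv.ext
    intro g
    exact f4FieldHom_one g
  map_mul' σ σ' := by
    apply MulEquiv.ext
    intro g
    exact (f4FieldHom_f4FieldHom σ σ' g).symm

theorem f4FieldAut_coe (σ : K ≃+* K) (g : ↥(twistedF4 K (2 ^ m))) :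
    ((f4FieldAut K m σ g : ↥(twistedF4 K (2 ^ m))) : GL chevF4.Idx K) =
      glMap (D := chevF4) (σ : K →+* K) (g : GL chevF4.Idx K) := rfl

omit [CharP K 2] in
theorem glMap_negUnipotent (σ : K ≃+* K) {u : GL chevF4.Idx K} (hu : u ∈ chevF4.negUnipotent K) :
    glMap (D := chevF4) (σ : K →+* K) u ∈ chevF4.negUnipotent K := by
  have : (chevF4.negUnipotent K).map (glMap (D := chevF4) (σ : K →+* K)) ≤ chevF4.negUnipotent K := by
    unfold ChevalleyDatum.negUnipotent
    rw [MonoidHom.map_closure, Subgroup.closure_le]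
    rintro _ ⟨x, ⟨r, t, h1, hx⟩, rfl⟩
    apply Subgroup.subset_closure
    refine ⟨r, σ t, h1, ?_⟩
    rw [glMap_coe, hx, x_map]
    rfl
  exact this ⟨u, hu, rfl⟩

/-- A field automorphism stabilises `U` and `V`. -/
theorem f4Stab_fieldAut (σ : K ≃+* K) : F4Stab (f4FieldAut K m σ) := by
  have hinv : ∀ g : ↥(twistedF4 K (2 ^ m)), f4FieldAut K m σ⁻¹ (f4FieldAut K m σ g) = g := by
    intro g
    rw [← MulAut.mul_apply, ← map_mul, inv_mul_cancel, map_one]
    rfl
  constructor
  · intro x
    constructor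
    · intro hx
      rw [f4FieldAut_coe]
      exact glMap_posUnipotent σ T0_F4 hx
    · intro hx
      have := glMap_posUnipotent σ⁻¹ T0_F4 hx
      rw [← f4FieldAut_coe, hinv] at this
      exact this
  · intro x
    constructor
    · intro hx
      rw [f4FieldAut_coe]
      exact glMap_negUnipotent σ hx
    · intro hx
      have := glMap_negUnipotent σ⁻¹ hx
      rw [← f4FieldAut_coe, hinv] at this
      exact this

end field

end Cfsg.Agent.Helper7.Chev
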