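import Mathlib
import Cfsg.Agent.Helper7.F4AutC
import Cfsg.Agent.Helper7.F4AlgA
import Cfsg.Agent.Helper7.SL2Pair

set_option autoImplicit false
set_option linter.unusedSectionVars false
set_option linter.unusedVariables false
set_option linter.style.haveILetI false

/-!
Automorphisms of the large Ree groups `²F₄(q)`, part D: the rank one analysis of the first class, and the
automorphisms of the subgroup of the second class.
-/

namespace Cfsg.Agent.Helper7.Chev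

open Cfsg Cfsg.Lie Matrix

section elems

variable {K : Type*} [Field K] [CharP K 2] {m : ℕ}

/-- The elements `x_a(t)` of the twisted group. -/
noncomputable def xaS (m : ℕ) (t : K) : ↥(twistedF4 K (2 ^ m)) := ⟨xP 33 24 m t, xP_pos_mem_twisted t⟩

/-- The elements `x_{-a}(t)` of the twisted group. -/
noncomputable def yaS (m : ℕ) (t : K) : ↥(twistedF4 K (2 ^ m)) := ⟨xP 14 23 m t, xP_neg_mem_twisted t⟩

/-- The elements `x_b(t, u)` of the twisted group. -/
noncomputable def xbS (m : ℕ) (t u : K) : ↥(twistedF4 K (2 ^ m)) :=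
  ⟨(quadPos K).xS m t u, xS_pos_mem_twisted t u⟩

theorem xaS_coe (t : K) : ((xaS m t : ↥(twistedF4 K (2 ^ m))) : GL chevF4.Idx K) = xP 33 24 m t := rfl

theorem yaS_coe (t : K) : ((yaS m t : ↥(twistedF4 K (2 ^ m))) : GL chevF4.Idx K) = xP 14 23 m t := rfl

theorem xbS_coe (t u : K) :
    ((xbS m t u : ↥(twistedF4 K (2 ^ m))) : GL chevF4.Idx K) = (quadPos K).xS m t u := rfl

/-- The homomorphism of `SL₂(K)` into the twisted group. -/
noncomputable def f4PhiS (K : Type*) [Field K] [CharP K 2] (m : ℕ) :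
    Matrix.SpecialLinearGroup (Fin 2) K →* ↥(twistedF4 K (2 ^ m)) :=
  (f4Phi K m).codRestrict (twistedF4 K (2 ^ m)) f4Phi_mem

theorem f4PhiS_coe (g : Matrix.SpecialLinearGroup (Fin 2) K) :
    ((f4PhiS K m g : ↥(twistedF4 K (2 ^ m))) : GL chevF4.Idx K) = f4Phi K m g := rfl

theorem f4PhiS_upper (t : K) : f4PhiS K m (upperSL t) = xaS m t := Subtype.ext (f4Phi_upper t)

theorem f4PhiS_lower (t : K) : f4PhiS K m (lowerSL t) = yaS m t := Subtype.ext (f4Phi_lower t)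

theorem xaS_injective {t t' : K} (h : xaS m t = xaS m t') : t = t' := by
  have h' : xP 33 24 m t = xP 33 24 m t' := congrArg Subtype.val h
  rw [xP_eq_fP, xP_eq_fP] at h'
  exact (fP_injective h').2

theorem yaS_injective {t t' : K} (h : yaS m t = yaS m t') : t = t' := by
  have h' : xP 14 23 m t = xP 14 23 m t' := congrArg Subtype.val h
  rw [← f4N1_conj_xP, ← f4N1_conj_xP] at h'
  have h'' : xP 33 24 m t = xP 33 24 m t' := mul_left_cancel (mul_right_cancel h')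
  rw [xP_eq_fP, xP_eq_fP] at h''
  exact (fP_injective h'').2

theorem xaS_zero : xaS m (0 : K) = 1 := Subtype.ext (xP_zero 33 24)

theorem yaS_zero : yaS m (0 : K) = 1 := Subtype.ext (xP_zero 14 23)

theorem xbS_injective {t u t' u' : K} (h : xbS m t u = xbS m t' u') : t = t' ∧ u = u' :=
  xS_injective (congrArg Subtype.val h)

theorem f4PhiS_upper_lower (x y : K) (h : f4PhiS K m (upperSL x) = f4PhiS K m (lowerSL y)) :
    x = 0 ∧ y = 0 := by
  rw [f4PhiS_upper, f4PhiS_lower] at h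
  have h' : xP 33 24 m x = xP 14 23 m y := congrArg Subtype.val h
  have h1 : xP 33 24 m x ∈ chevF4.borelSubgroup K :=
    Subgroup.mem_sup_left (mul_mem (fx_mem_pos (by decide) _) (fx_mem_pos (by decide) _))
  have h2 : xP 33 24 m x ∈ chevF4.negUnipotent K := by
    rw [h']
    exact mul_mem (fx_mem_neg (by decide) _) (fx_mem_neg (by decide) _)
  have h3 : xP 33 24 m x ∈ chevF4.borelSubgroup K ⊓ chevF4.negUnipotent K := Subgroup.mem_inf.mpr ⟨h1, h2⟩
  rw [borel_inf_negUnipotent good3_F4.toGood2 T0_F4, Subgroup.mem_bot] at h3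
  have hx : x = 0 := by
    apply xaS_injective (m := m)
    rw [xaS_zero]
    exact Subtype.ext h3
  refine ⟨hx, ?_⟩
  apply yaS_injective (m := m)
  rw [yaS_zero, ← h, hx, xaS_zero]

/-- The diagonal elements of `SL₂(K)` and the lower unitriangular elements. -/
theorem sl2p_diag_conj_lower {F : Type*} [Field F] {d : F} (hd : d ≠ 0) (u : F) :
    diagSL d hd * lowerSL u = lowerSL (d⁻¹ * d⁻¹ * u) * diagSL d hd := by
  apply Subtype.ext
  rw [Matrix.SpecialLinearGroup.coe_mul, Matrix.SpecialLinearGroup.coe_mul]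
  change !![d, 0; 0, d⁻¹] * !![1, 0; u, 1] = !![1, 0; d⁻¹ * d⁻¹ * u, 1] * !![d, 0; 0, d⁻¹]
  ext i j
  fin_cases i <;> fin_cases j <;> simp [Matrix.mul_apply, Fin.sum_univ_two, hd]
  field_simp

theorem f4PhiS_diag_conj_xaS {d : K} (hd : d ≠ 0) (t : K) :
    f4PhiS K m (diagSL d hd) * xaS m t * (f4PhiS K m (diagSL d hd))⁻¹ = xaS m (d * d * t) := by
  rw [← f4PhiS_upper, ← map_mul, sl2p_diag_conj hd, map_mul, mul_inv_cancel_right, f4PhiS_upper]

theorem f4PhiS_diag_conj_yaS {d : K} (hd : d ≠ 0) (t : K) :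
    f4PhiS K m (diagSL d hd) * yaS m t * (f4PhiS K m (diagSL d hd))⁻¹ = yaS m (d⁻¹ * d⁻¹ * t) := by
  rw [← f4PhiS_lower, ← map_mul, sl2p_diag_conj_lower hd, map_mul, mul_inv_cancel_right, f4PhiS_lower]

theorem f4PhiS_diag_coe (s : Kˣ) :
    ((f4PhiS K m (diagSL (s : K) s.ne_zero) : ↥(twistedF4 K (2 ^ m))) : GL chevF4.Idx K) =
      gh4 K m (s, 1) := by
  rw [f4PhiS_coe, f4Phi_diag, fh_33, fh_24, tF4_mul, gh4_apply, map_one]
  simp only [mul_one, one_mul]
  rfl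

theorem f4PhiS_diag_mem (s : Kˣ) :
    ((f4PhiS K m (diagSL (s : K) s.ne_zero) : ↥(twistedF4 K (2 ^ m))) : GL chevF4.Idx K) ∈
      chevF4.diagonalSubgroup K := by
  rw [f4PhiS_diag_coe]
  exact gh4_mem_diagonal _

variable (hm : ∀ t : K, t ^ 2 ^ (2 * m + 1) = t)

include hm in
theorem f4PhiS_diag_conj_xbS (s : Kˣ) (t v : K) :
    f4PhiS K m (diagSL (s : K) s.ne_zero) * xbS m t v * (f4PhiS K m (diagSL (s : K) s.ne_zero))⁻¹ =
      xbS m ((s : K)⁻¹ * t) ((s : K)⁻¹ * (f4Th K m (s : K))⁻¹ * v) := by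
  apply Subtype.ext
  simp only [Subgroup.coe_mul, Subgroup.coe_inv]
  rw [f4PhiS_diag_coe, xbS_coe, xbS_coe, gh4_conj_xS hm]
  simp only [Units.val_one, map_one, one_pow, inv_one, one_mul, mul_one]

/-- An automorphism fixing the elements `x_{±a}(t)` fixes the image of `SL₂(K)`. -/
theorem fix_f4PhiS {θ : ↥(twistedF4 K (2 ^ m)) ≃* ↥(twistedF4 K (2 ^ m))}
    (hx : ∀ t : K, θ (xaS m t) = xaS m t) (hy : ∀ t : K, θ (yaS m t) = yaS m t)
    (g : Matrix.SpecialLinearGroup (Fin 2) K) : θ (f4PhiS K m g) = f4PhiS K m g := by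
  have hg : g ∈ Subgroup.closure
      ({g | ∃ t : K, g = upperSL t} ∪ {g | ∃ t : K, g = lowerSL t}) := by
    rw [sl2_generated]; trivial
  induction hg using Subgroup.closure_induction with
  | mem x hx' =>
    rcases hx' with ⟨t, rfl⟩ | ⟨t, rfl⟩
    · rw [f4PhiS_upper, hx]
    · rw [f4PhiS_lower, hy]
  | one => rw [map_one, map_one]
  | mul a b _ _ ha hb => rw [map_mul, map_mul, ha, hb]
  | inv a _ ha => rw [map_inv, map_inv, ha]

end elems

section finite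

variable {K : Type*} [Field K] [Fintype K] [CharP K 2] {m : ℕ}
  (hm : ∀ t : K, t ^ 2 ^ (2 * m + 1) = t) (hs : ∃ s : Kˣ, s ≠ 1)

include hm hs in
/-- The rank one analysis of the first class. -/
theorem F4Stab.rank_one_a {θ : ↥(twistedF4 K (2 ^ m)) ≃* ↥(twistedF4 K (2 ^ m))} (hθ : F4Stab θ) :
    ∃ (c : Kˣ) (σ : K ≃+* K), (∀ t : K, θ (xaS m t) = xaS m (c * σ t)) ∧
      (∀ t : K, θ (yaS m t) = yaS m (((c⁻¹ : Kˣ) : K) * σ t)) := by
  have h1 : ∀ t : K, ∃ t' : K, θ (xaS m t) = xaS m t' := by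
    intro t
    obtain ⟨t', e⟩ := (mem_f4X1 hm).mp ((hθ.X1 hm hs (xaS m t)).mp ((mem_f4X1 hm).mpr ⟨t, rfl⟩))
    exact ⟨t', Subtype.ext e⟩
  have h2 : ∀ t : K, ∃ t' : K, θ (yaS m t) = yaS m t' := by
    intro t
    obtain ⟨t', e⟩ := (mem_f4Y1 hm).mp ((hθ.Y1 hm hs (yaS m t)).mp ((mem_f4Y1 hm).mpr ⟨t, rfl⟩))
    exact ⟨t', Subtype.ext e⟩
  choose fF hfF using h1
  choose gF hgF using h2
  have hψ := f4PhiS_upper_lower (K := K) (m := m)
  have hφ : ∀ x y, (θ.toMonoidHom.comp (f4PhiS K m)) (upperSL x) =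
      (θ.toMonoidHom.comp (f4PhiS K m)) (lowerSL y) → x = 0 ∧ y = 0 := by
    intro x y hxy
    exact hψ x y (θ.injective hxy)
  have hu : ∀ t, (θ.toMonoidHom.comp (f4PhiS K m)) (upperSL t) = f4PhiS K m (upperSL (fF t)) := by
    intro t
    rw [f4PhiS_upper, ← hfF, ← f4PhiS_upper]
    rfl
  have hl : ∀ t, (θ.toMonoidHom.comp (f4PhiS K m)) (lowerSL t) = f4PhiS K m (lowerSL (gF t)) := by
    intro t
    rw [f4PhiS_lower, ← hgF, ← f4PhiS_lower]
    rfl
  obtain ⟨c, σ, hcσ⟩ := sl2p_main (θ.toMonoidHom.comp (f4PhiS K m)) (f4PhiS K m) fF gF hu hl hφ hψ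
  refine ⟨c, σ, fun t => ?_, fun t => ?_⟩
  · rw [hfF, (hcσ t).1]
  · rw [hgF, (hcσ t).2]

include hm hs in
/-- An automorphism stabilising `U` and `V` and fixing the elements `x_{±a}(t)` acts on `X_b` through
`(t, v) ↦ (l t, l θ(l) v)`. -/
theorem F4Stab.class_b {θ : ↥(twistedF4 K (2 ^ m)) ≃* ↥(twistedF4 K (2 ^ m))} (hθ : F4Stab θ)
    (hx : ∀ t : K, θ (xaS m t) = xaS m t) (hy : ∀ t : K, θ (yaS m t) = yaS m t) :
    ∃ l : K, l ≠ 0 ∧ ∀ t v : K, θ (xbS m t v) = xbS m (l * t) (l * f4Th K m l * v) := by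
  have h1 : ∀ t v : K, ∃ t' v' : K, θ (xbS m t v) = xbS m t' v' := by
    intro t v
    obtain ⟨t', v', e⟩ := (mem_f4X2 hm).mp ((hθ.X2 hm hs (xbS m t v)).mp ((mem_f4X2 hm).mpr ⟨t, v, rfl⟩))
    exact ⟨t', v', Subtype.ext e⟩
  choose F G hFG using h1
  have hmulS : ∀ t u t' u' : K, xbS m t u * xbS m t' u' = xbS m (t + t') (u + u' + f4Th K m t * t') := by
    intro t u t' u'
    apply Subtype.ext
    exact xS_mul hm t u t' u'
  have hmul : ∀ t v t' v' : K,
      F (t + t') (v + v' + f4Th K m t * t') = F t v + F t' v' ∧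
      G (t + t') (v + v' + f4Th K m t * t') = G t v + G t' v' + f4Th K m (F t v) * F t' v' := by
    intro t v t' v'
    have e := congrArg θ (hmulS t v t' v')
    rw [map_mul, hFG, hFG, hFG, hmulS] at e
    obtain ⟨e1, e2⟩ := xbS_injective e
    exact ⟨e1.symm, e2.symm⟩
  have heq : ∀ c : K, c ≠ 0 → ∀ t v : K,
      F (c * t) (c * f4Th K m c * v) = c * F t v ∧
        G (c * t) (c * f4Th K m c * v) = c * f4Th K m c * G t v := by
    intro c hc t v
    obtain ⟨s, hs'⟩ : ∃ s : Kˣ, (s : K) = c⁻¹ := ⟨Units.mk0 c⁻¹ (inv_ne_zero hc), rfl⟩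
    have hsc : (s : K)⁻¹ = c := by rw [hs', inv_inv]
    have e := congrArg θ (f4PhiS_diag_conj_xbS hm s t v)
    rw [map_mul, map_mul, map_inv, fix_f4PhiS hx hy, hFG, hFG, f4PhiS_diag_conj_xbS hm] at e
    obtain ⟨e1, e2⟩ := xbS_injective e
    rw [← map_inv₀, hsc] at e1 e2
    exact ⟨e1.symm, e2.symm⟩
  have hinj : ¬ (F 1 0 = 0 ∧ G 1 0 = 0) := by
    rintro ⟨e1, e2⟩
    have h0 : θ (xbS m 1 0) = 1 := by
      rw [hFG, e1, e2]
      exact Subtype.ext (xS_zero hm)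
    have h1 : xbS m (1 : K) 0 = 1 := θ.injective (by rw [h0, map_one])
    exact xS_ne_one (congrArg Subtype.val h1)
  obtain ⟨l, hl0, hl⟩ := suzuki_aut_of_equivariant hm (exists_f4Th_ne hm hs) F G hmul heq hinj
  refine ⟨l, hl0, fun t v => ?_⟩
  rw [hFG, (hl t v).1, (hl t v).2]

end finite

end Cfsg.Agent.Helper7.Chev
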