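import Mathlib
import Cfsg.Agent.Helper7.F4AutD
import Cfsg.Agent.Helper7.FieldAutCard
import Cfsg.Prelude.Def_KGroupFacts

set_option autoImplicit false
set_option linter.unusedSectionVars false
set_option linter.unusedVariables false
set_option linter.style.haveILetI false

/-!
Automorphisms of the large Ree groups `²F₄(q)`, part E: every automorphism is the product of an inner and a field
automorphism; the order of the outer automorphism group.
-/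

namespace Cfsg.Agent.Helper7.Chev

open Cfsg Cfsg.Lie Matrix

section torus

variable {K : Type*} [Field K] [CharP K 2] {m : ℕ} (hm : ∀ t : K, t ^ 2 ^ (2 * m + 1) = t)

/-- The elements `h(s, u)` of the twisted group. -/
noncomputable def ghS4 (p : Kˣ × Kˣ) : ↥(twistedF4 K (2 ^ m)) := ⟨gh4 K m p, gh4_mem_twisted hm p⟩

theorem ghS4_coe (p : Kˣ × Kˣ) :
    ((ghS4 hm p : ↥(twistedF4 K (2 ^ m))) : GL chevF4.Idx K) = gh4 K m p := rfl

theorem ghS4_conj_xaS (s u : Kˣ) (t : K) :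
    ghS4 hm (s, u) * xaS m t * (ghS4 hm (s, u))⁻¹ = xaS m ((u : K)⁻¹ * (s : K) ^ 2 * t) := by
  apply Subtype.ext
  simp only [Subgroup.coe_mul, Subgroup.coe_inv]
  rw [ghS4_coe, xaS_coe, xaS_coe, gh4_conj_xP hm]

theorem ghS4_conj_xbS (s u : Kˣ) (t v : K) :
    ghS4 hm (s, u) * xbS m t v * (ghS4 hm (s, u))⁻¹ =
      xbS m ((f4Th K m (u : K) ^ 2)⁻¹ * (u : K) ^ 2 * (s : K)⁻¹ * t)
        ((s : K)⁻¹ * (f4Th K m (s : K))⁻¹ * (u : K) * v) := by
  apply Subtype.ext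
  simp only [Subgroup.coe_mul, Subgroup.coe_inv]
  rw [ghS4_coe, xbS_coe, xbS_coe, gh4_conj_xS hm]

/-- The inverse of `n₂` conjugates `X_b` into `X_{-b}`. -/
theorem f4N2_inv_conj_mem_Y2 {x : GL chevF4.Idx K} (hx : x ∈ (f4Cls2 hm).X) :
    (f4N2 K)⁻¹ * x * f4N2 K ∈ (f4Cls2 hm).Y good3_F4.toGood2 := by
  rw [FCls.mem_Y]
  have hsq : f4N2 K * f4N2 K ∈ chevF4.diagonalSubgroup K := f4N2_sq_mem
  have hsqG : f4N2 K * f4N2 K ∈ twistedF4 K (2 ^ m) := mul_mem f4N2_mem_twisted f4N2_mem_twisted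
  refine ⟨(f4N2 K * f4N2 K)⁻¹ * x * (f4N2 K * f4N2 K), ?_, ?_⟩
  · rw [f4Cls2_X] at hx ⊢
    refine Subgroup.mem_inf.mpr ⟨?_, ?_⟩
    · have hn := diagonalSubgroup_le_normalizer (F := K) good3_F4.toGood2
        (P := InJPos chevF4 f4J2) (fun r hr => hr.1.1) (inv_mem hsq)
      have := (Subgroup.mem_set_normalizer_iff.mp hn x).mp hx.1
      rwa [inv_inv] at this
    · exact mul_mem (mul_mem (inv_mem (twistedF4_le_fixSub hm hsqG)) hx.2) (twistedF4_le_fixSub hm hsqG)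
  · rw [f4N2_eq_word]
    group

/-- The elements of the negative quadruple lie in `X_{-b}`. -/
theorem xS_neg_mem_Y2 (t u : K) : (quadNeg K).xS m t u ∈ (f4Cls2 hm).Y good3_F4.toGood2 := by
  obtain ⟨s', t', c', d', e⟩ := f4N2_conj_xQ_neg (f4Th K m t) t (f4Th K m t * t + u) (f4Th K (m + 1) u)
  have e' : f4N2 K * (quadNeg K).xS m t u * (f4N2 K)⁻¹ = (quadPos K).xQ s' t' c' d' := e
  have hmem : f4N2 K * (quadNeg K).xS m t u * (f4N2 K)⁻¹ ∈ twistedF4 K (2 ^ m) :=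
    mul_mem (mul_mem f4N2_mem_twisted (xS_neg_mem_twisted t u)) (inv_mem f4N2_mem_twisted)
  obtain ⟨_, hfix⟩ := twistedF4_le_fixSub hm hmem
  rw [e'] at hfix
  have e3 := xQ_fixed hm hfix
  have e4 : (quadNeg K).xS m t u =
      (f4N2 K)⁻¹ * ((quadPos K).xS m t' (f4Th K m d')) * f4N2 K := by
    rw [← e3, ← e']
    group
  rw [e4]
  exact f4N2_inv_conj_mem_Y2 hm ((mem_f4X2 hm).mpr ⟨_, _, rfl⟩)

end torus

section finite

variable {K : Type*} [Field K] [Fintype K] [CharP K 2] {m : ℕ}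
  (hm : ∀ t : K, t ^ 2 ^ (2 * m + 1) = t) (hs : ∃ s : Kˣ, s ≠ 1)

include hm hs in
/-- An automorphism stabilising `U` and `V` and fixing the elements `x_a(t)` and `x_b(t, v)` is trivial. -/
theorem F4Stab.eq_one {θ : ↥(twistedF4 K (2 ^ m)) ≃* ↥(twistedF4 K (2 ^ m))} (hθ : F4Stab θ)
    (hx : ∀ t : K, θ (xaS m t) = xaS m t) (hxb : ∀ t v : K, θ (xbS m t v) = xbS m t v) :
    ∀ g : ↥(twistedF4 K (2 ^ m)), θ g = g := by
  have hY1 : ∀ y : ↥(twistedF4 K (2 ^ m)),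
      (y : GL chevF4.Idx K) ∈ (f4Cls1 hm).Y good3_F4.toGood2 → θ y = y := by
    apply FCls.fix_conj_of_fix good3_F4.toGood2 T0_F4 good3_F4.t3 good3_F4.t4 T5_F4 T6_F4 T8_F4 T9_F4
      (f4Tau_rootAut hm) (twistedF4_le_fixSub hm) (f4_posFix_le hm) (f4_fWList hm) (f4_fbnData hm)
      (f4Cls1 hm) (by unfold f4ClsList; simp) (hθ.borel hm) (hθ.Y1 hm hs)
    intro x hx'
    obtain ⟨t, e⟩ := (mem_f4X1 hm).mp hx'
    have : x = xaS m t := Subtype.ext e
    rw [this, hx]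
  have hY2 : ∀ y : ↥(twistedF4 K (2 ^ m)),
      (y : GL chevF4.Idx K) ∈ (f4Cls2 hm).Y good3_F4.toGood2 → θ y = y := by
    apply FCls.fix_conj_of_fix good3_F4.toGood2 T0_F4 good3_F4.t3 good3_F4.t4 T5_F4 T6_F4 T8_F4 T9_F4
      (f4Tau_rootAut hm) (twistedF4_le_fixSub hm) (f4_posFix_le hm) (f4_fWList hm) (f4_fbnData hm)
      (f4Cls2 hm) (by unfold f4ClsList; simp) (hθ.borel hm) (hθ.Y2 hm hs)
    intro x hx'
    obtain ⟨t, v, e⟩ := (mem_f4X2 hm).mp hx'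
    have : x = xbS m t v := Subtype.ext e
    rw [this, hxb]
  have key : ∀ g : GL chevF4.Idx K, g ∈ Subgroup.closure
      (({g | ∃ t : K, g = xP 33 24 m t} ∪ {g | ∃ t : K, g = xP 14 23 m t}) ∪
        ({g | ∃ t u : K, g = (quadPos K).xS m t u} ∪ {g | ∃ t u : K, g = (quadNeg K).xS m t u})) →
      ∀ hg : g ∈ twistedF4 K (2 ^ m), θ ⟨g, hg⟩ = ⟨g, hg⟩ := by
    intro g hg
    induction hg using Subgroup.closure_induction with
    | mem x hx' =>
      intro hg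
      rcases hx' with (⟨t, rfl⟩ | ⟨t, rfl⟩) | (⟨t, u, rfl⟩ | ⟨t, u, rfl⟩)
      · exact hx t
      · exact hY1 _ ((mem_f4Y1 hm).mpr ⟨t, rfl⟩)
      · exact hxb t u
      · exact hY2 _ (xS_neg_mem_Y2 hm t u)
    | one =>
      intro hg
      exact map_one θ
    | mul a b ha hb iha ihb =>
      intro hg
      have haG : a ∈ twistedF4 K (2 ^ m) := by rw [twistedF4_eq (K := K) (m := m)]; exact ha
      have hbG : b ∈ twistedF4 K (2 ^ m) := by rw [twistedF4_eq (K := K) (m := m)]; exact hb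
      have : (⟨a * b, hg⟩ : ↥(twistedF4 K (2 ^ m))) = ⟨a, haG⟩ * ⟨b, hbG⟩ := rfl
      rw [this, map_mul, iha haG, ihb hbG]
    | inv a ha iha =>
      intro hg
      have haG : a ∈ twistedF4 K (2 ^ m) := by rw [twistedF4_eq (K := K) (m := m)]; exact ha
      have : (⟨a⁻¹, hg⟩ : ↥(twistedF4 K (2 ^ m))) = (⟨a, haG⟩ : ↥(twistedF4 K (2 ^ m)))⁻¹ := rfl
      rw [this, map_inv, iha haG]
  rintro ⟨g, hg⟩
  have hg' := hg
  rw [twistedF4_eq (K := K) (m := m)] at hg'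
  exact key g hg' hg

end finite

end Cfsg.Agent.Helper7.Chev
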