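import Mathlib

set_option autoImplicit false
set_option linter.unusedSectionVars false

/-!
Matrices of `p`-power order in `GL₄(q)` for an odd prime `p` dividing `q² + 1`: they act irreducibly, their
commutant is commutative, and the finite groups commuting with them are cyclic.
-/

namespace Cfsg.Agent.Helper7.IrredPrime

open Matrix Polynomial

/-! ### Number theory -/

theorem two_ne_zero_zmod {p : ℕ} (hp : p.Prime) (hp2 : p ≠ 2) : (2 : ZMod p) ≠ 0 := by
  intro h
  have h1 : ((2 : ℕ) : ZMod p) = 0 := by exact_mod_cast h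
  rw [ZMod.natCast_eq_zero_iff] at h1
  have := (Nat.prime_dvd_prime_iff_eq hp Nat.prime_two).1 h1
  exact hp2 this

theorem eq_zero_of_pow_modEq_one {p q : ℕ} (hp : p.Prime) (hp2 : p ≠ 2) (hd : p ∣ q ^ 2 + 1)
    {e : ℕ} (he : e < 4) (h : q ^ e ≡ 1 [MOD p]) : e = 0 := by
  have : Fact p.Prime := ⟨hp⟩
  have h2 := two_ne_zero_zmod hp hp2
  have hq : (q : ZMod p) ^ 2 = -1 := by
    have : ((q ^ 2 + 1 : ℕ) : ZMod p) = 0 := (ZMod.natCast_eq_zero_iff _ _).2 hd
    push_cast at this
    exact eq_neg_of_add_eq_zero_left this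
  have he' : (q : ZMod p) ^ e = 1 := by
    have := (ZMod.natCast_eq_natCast_iff _ _ _).2 h
    push_cast at this
    exact this
  interval_cases e
  · rfl
  · exfalso
    rw [pow_one] at he'
    rw [he', one_pow] at hq
    apply h2
    linear_combination hq
  · exfalso
    rw [he'] at hq
    apply h2
    linear_combination hq
  · exfalso
    have h3 : (q : ZMod p) = -1 := by
      have : (q : ZMod p) ^ 3 = (q : ZMod p) ^ 2 * q := by ring
      rw [this, hq] at he'
      linear_combination -he'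
    rw [h3] at hq
    apply h2
    linear_combination hq

theorem not_dvd_of_dvd_sq_add_one {p q : ℕ} (hp : p.Prime) (hd : p ∣ q ^ 2 + 1) : ¬ p ∣ q := by
  intro h
  have h1 : p ∣ q ^ 2 := Dvd.dvd.pow h (by norm_num)
  have := (Nat.dvd_add_right h1).1 hd
  exact hp.one_lt.ne' (Nat.dvd_one.1 this)

theorem eq_of_pow_modEq {p q : ℕ} (hp : p.Prime) (hp2 : p ≠ 2) (hd : p ∣ q ^ 2 + 1)
    {a b : ℕ} (hba : b ≤ a) (ha : a ≤ 4) (h : q ^ a ≡ q ^ b [MOD p]) : a = b ∨ (a = 4 ∧ b = 0) := by
  have hcop : Nat.Coprime (q ^ b) p := by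
    apply Nat.Coprime.pow_left
    exact (Nat.Coprime.symm ((Nat.Prime.coprime_iff_not_dvd hp).2 (not_dvd_of_dvd_sq_add_one hp hd)))
  have h1 : q ^ b * q ^ (a - b) ≡ q ^ b * 1 [MOD p] := by
    rw [← pow_add, Nat.add_sub_cancel' hba, mul_one]
    exact h
  have h2 : q ^ (a - b) ≡ 1 [MOD p] := Nat.ModEq.cancel_left_of_coprime (by rwa [Nat.coprime_comm] at hcop) h1
  by_cases h4 : a - b < 4
  · left
    have := eq_zero_of_pow_modEq_one hp hp2 hd h4 h2
    omega
  · right
    omega

/-! ### The counting lemma -/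

variable {F : Type*} [Field F] [Fintype F]

/-- The fixed vectors of a matrix. -/
def fixSub (x : Matrix (Fin 4) (Fin 4) F) : Submodule F (Fin 4 → F) :=
  LinearMap.ker (Matrix.toLin' x - 1)

theorem mem_fixSub (x : Matrix (Fin 4) (Fin 4) F) (v : Fin 4 → F) : v ∈ fixSub x ↔ x *ᵥ v = v := by
  unfold fixSub
  rw [LinearMap.mem_ker, LinearMap.sub_apply, Matrix.toLin'_apply, Module.End.one_apply, sub_eq_zero]

theorem card_modEq {p k : ℕ} [hp : Fact p.Prime] {x : Matrix (Fin 4) (Fin 4) F} (hx : x ^ p ^ k = 1)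
    (W : Submodule F (Fin 4 → F)) (hW : ∀ v ∈ W, x *ᵥ v ∈ W) :
    Nat.card W ≡ Nat.card ↥(W ⊓ fixSub x) [MOD p] := by
  classical
  let f : Function.End W := fun v => ⟨x *ᵥ v.1, hW _ v.2⟩
  have hf : ∀ (n : ℕ) (v : W), (((f ^ n) v : W) : Fin 4 → F) = (x ^ n) *ᵥ v.1 := by
    intro n
    induction n with
    | zero =>
      intro v
      rw [pow_zero, pow_zero, Matrix.one_mulVec]
      rfl
    | succ n ih =>
      intro v
      have e : (f ^ (n + 1)) v = (f ^ n) (f v) := by
        rw [pow_succ]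
        rfl
      rw [e, ih, pow_succ, ← Matrix.mulVec_mulVec]
  have hfp : f ^ p ^ k = 1 := by
    funext v
    apply Subtype.ext
    rw [hf, hx, Matrix.one_mulVec]
    rfl
  have h1 := Equiv.Perm.card_fixedPoints_modEq hfp
  have hc : Fintype.card (Function.fixedPoints f) = Nat.card ↥(W ⊓ fixSub x) := by
    rw [← Nat.card_eq_fintype_card]
    apply Nat.card_congr
    exact ⟨fun v => ⟨v.1.1, ⟨v.1.2, (mem_fixSub x _).2 (congrArg Subtype.val v.2)⟩⟩,
    fun v => ⟨⟨v.1, v.2.1⟩, Subtype.ext ((mem_fixSub x _).1 v.2.2)⟩, fun v => rfl, fun v => rfl⟩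
  rw [Nat.card_eq_fintype_card, ← hc]
  exact h1

theorem card_submodule (W : Submodule F (Fin 4 → F)) :
    Nat.card W = Fintype.card F ^ Module.finrank F W := by
  classical
  rw [Nat.card_eq_fintype_card]
  exact Module.card_eq_pow_finrank

theorem finrank_le_four (W : Submodule F (Fin 4 → F)) : Module.finrank F W ≤ 4 := by
  have := Submodule.finrank_le W
  rwa [Module.finrank_fin_fun] at this

/-- The hypotheses on the matrix. -/
structure Hyp (x : Matrix (Fin 4) (Fin 4) F) (p : ℕ) : Prop where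
  prime : p.Prime
  odd : p ≠ 2
  dvd : p ∣ Fintype.card F ^ 2 + 1
  pow : ∃ k : ℕ, x ^ p ^ k = 1
  ne_one : x ≠ 1

variable {x : Matrix (Fin 4) (Fin 4) F} {p : ℕ}

theorem Hyp.fixSub_eq_bot (h : Hyp x p) : fixSub x = ⊥ := by
  have : Fact p.Prime := ⟨h.prime⟩
  obtain ⟨k, hk⟩ := h.pow
  have h1 := card_modEq hk ⊤ (fun v _ => Submodule.mem_top)
  rw [top_inf_eq, card_submodule, card_submodule, finrank_top, Module.finrank_fin_fun] at h1
  rcases eq_of_pow_modEq h.prime h.odd h.dvd (finrank_le_four _) le_rfl h1 with h2 | ⟨-, h2⟩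
  · exfalso
    apply h.ne_one
    have htop : fixSub x = ⊤ := by
      apply Submodule.eq_top_of_finrank_eq
      rw [← h2, Module.finrank_fin_fun]
    apply Matrix.toLin'.injective
    apply LinearMap.ext
    intro v
    have : v ∈ fixSub x := by rw [htop]; exact Submodule.mem_top
    rw [Matrix.toLin'_apply, (mem_fixSub x v).1 this, Matrix.toLin'_one, LinearMap.id_apply]
  · exact Submodule.finrank_eq_zero.1 h2

theorem Hyp.eq_zero_of_fixed (h : Hyp x p) {v : Fin 4 → F} (hv : x *ᵥ v = v) : v = 0 := by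
  have : v ∈ fixSub x := (mem_fixSub x v).2 hv
  rw [h.fixSub_eq_bot, Submodule.mem_bot] at this
  exact this

/-- Irreducibility. -/
theorem Hyp.eq_bot_or_eq_top (h : Hyp x p) (W : Submodule F (Fin 4 → F))
    (hW : ∀ v ∈ W, x *ᵥ v ∈ W) : W = ⊥ ∨ W = ⊤ := by
  have : Fact p.Prime := ⟨h.prime⟩
  obtain ⟨k, hk⟩ := h.pow
  have h1 := card_modEq hk W hW
  rw [h.fixSub_eq_bot, inf_bot_eq, card_submodule, card_submodule, finrank_bot] at h1
  rcases eq_of_pow_modEq h.prime h.odd h.dvd (Nat.zero_le _) (finrank_le_four _) h1 with h2 | ⟨h2, -⟩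
  · left
    exact Submodule.finrank_eq_zero.1 h2
  · right
    apply Submodule.eq_top_of_finrank_eq
    rw [h2, Module.finrank_fin_fun]

/-! ### The commutant -/

theorem commute_aeval {c x : Matrix (Fin 4) (Fin 4) F} (hc : c * x = x * c) (g : F[X]) :
    c * aeval x g = aeval x g * c := by
  have h1 : x ∈ Subalgebra.centralizer F ({c} : Set (Matrix (Fin 4) (Fin 4) F)) := by
    rw [Subalgebra.mem_centralizer_iff]
    intro y hy
    rw [Set.mem_singleton_iff] at hy
    rw [hy, hc]
  have h2 : Algebra.adjoin F {x} ≤ Subalgebra.centralizer F ({c} : Set (Matrix (Fin 4) (Fin 4) F)) :=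
    Algebra.adjoin_le (Set.singleton_subset_iff.2 h1)
  have h3 := h2 (aeval_mem_adjoin_singleton (R := F) (x := x) (p := g))
  rw [Subalgebra.mem_centralizer_iff] at h3
  exact h3 c rfl

/-- Every vector is a polynomial in `x` applied to a given non-zero vector. -/
theorem Hyp.exists_poly (h : Hyp x p) {v₀ : Fin 4 → F} (hv₀ : v₀ ≠ 0) (w : Fin 4 → F) :
    ∃ f : F[X], w = (aeval x f) *ᵥ v₀ := by
  let φ : F[X] →ₗ[F] (Fin 4 → F) :=
    { toFun := fun f => (aeval x f) *ᵥ v₀
      map_add' := by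
        intro f g
        rw [map_add, Matrix.add_mulVec]
      map_smul' := by
        intro c f
        rw [map_smul, Matrix.smul_mulVec]
        rfl }
  have hφ : ∀ f, φ f = (aeval x f) *ᵥ v₀ := fun _ => rfl
  have hinv : ∀ v ∈ LinearMap.range φ, x *ᵥ v ∈ LinearMap.range φ := by
    rintro _ ⟨f, rfl⟩
    refine ⟨X * f, ?_⟩
    rw [hφ, hφ, map_mul, aeval_X, Matrix.mulVec_mulVec]
  rcases h.eq_bot_or_eq_top _ hinv with h0 | h1
  · exfalso
    apply hv₀
    have : v₀ ∈ LinearMap.range φ := ⟨1, by rw [hφ, map_one, Matrix.one_mulVec]⟩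
    rw [h0, Submodule.mem_bot] at this
    exact this
  · have : w ∈ LinearMap.range φ := by
      rw [h1]
      exact Submodule.mem_top
    obtain ⟨f, hf⟩ := this
    exact ⟨f, hf.symm⟩

/-- The matrices commuting with `x` are polynomials in `x`. -/
theorem Hyp.commutant (h : Hyp x p) {c : Matrix (Fin 4) (Fin 4) F} (hc : c * x = x * c) :
    ∃ f : F[X], c = aeval x f := by
  have hv₀ : (Pi.single 0 1 : Fin 4 → F) ≠ 0 := by
    intro e
    have := congrFun e 0
    simp at this
  obtain ⟨f, hf⟩ := h.exists_poly hv₀ (c *ᵥ Pi.single 0 1)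
  refine ⟨f, ?_⟩
  apply Matrix.toLin'.injective
  apply LinearMap.ext
  intro w
  obtain ⟨g, rfl⟩ := h.exists_poly hv₀ w
  rw [Matrix.toLin'_apply, Matrix.toLin'_apply, Matrix.mulVec_mulVec, commute_aeval hc,
    ← Matrix.mulVec_mulVec, hf, Matrix.mulVec_mulVec, Matrix.mulVec_mulVec, ← map_mul, ← map_mul,
    mul_comm]

/-- The matrices commuting with `x` commute with each other. -/
theorem Hyp.commute (h : Hyp x p) {c c' : Matrix (Fin 4) (Fin 4) F} (hc : c * x = x * c)
    (hc' : c' * x = x * c') : c * c' = c' * c := by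
  obtain ⟨f, rfl⟩ := h.commutant hc
  obtain ⟨f', rfl⟩ := h.commutant hc'
  rw [← map_mul, ← map_mul, mul_comm]

/-- A non-zero matrix commuting with `x` is injective. -/
theorem Hyp.mulVec_injective (h : Hyp x p) {c : Matrix (Fin 4) (Fin 4) F} (hc : c * x = x * c)
    (hc0 : c ≠ 0) {v : Fin 4 → F} (hv : c *ᵥ v = 0) : v = 0 := by
  have hinv : ∀ v ∈ LinearMap.ker (Matrix.toLin' c), x *ᵥ v ∈ LinearMap.ker (Matrix.toLin' c) := by
    intro v hv
    rw [LinearMap.mem_ker, Matrix.toLin'_apply] at hv ⊢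
    rw [Matrix.mulVec_mulVec, hc, ← Matrix.mulVec_mulVec, hv, Matrix.mulVec_zero]
  rcases h.eq_bot_or_eq_top _ hinv with h0 | h1
  · have : v ∈ LinearMap.ker (Matrix.toLin' c) := by
      rw [LinearMap.mem_ker, Matrix.toLin'_apply]
      exact hv
    rw [h0, Submodule.mem_bot] at this
    exact this
  · exfalso
    apply hc0
    apply Matrix.toLin'.injective
    rw [map_zero]
    exact LinearMap.ker_eq_top.1 h1

/-- A finite group of matrices commuting with `x` is cyclic. -/
theorem Hyp.isCyclic (h : Hyp x p) {P : Type*} [Group P] [Finite P]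
    (ψ : P →* Matrix (Fin 4) (Fin 4) F) (hψ : Function.Injective ψ)
    (hcomm : ∀ y : P, ψ y * x = x * ψ y) : IsCyclic P := by
  have hsc : ∀ a ∈ ({x} : Set (Matrix (Fin 4) (Fin 4) F)), ∀ b ∈ ({x} : Set (Matrix (Fin 4) (Fin 4) F)),
      a * b = b * a := by
    intro a ha b hb
    rw [Set.mem_singleton_iff] at ha hb
    rw [ha, hb]
  have hmc := Algebra.isMulCommutative_adjoin F hsc
  let _ : CommRing (Algebra.adjoin F ({x} : Set (Matrix (Fin 4) (Fin 4) F))) :=
    { (inferInstance : Ring (Algebra.adjoin F ({x} : Set (Matrix (Fin 4) (Fin 4) F)))) with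
      mul_comm := fun a b => hmc.is_comm.comm a b }
  have hmem : ∀ c : Matrix (Fin 4) (Fin 4) F, c * x = x * c → c ∈ Algebra.adjoin F {x} := by
    intro c hc
    obtain ⟨f, rfl⟩ := h.commutant hc
    exact aeval_mem_adjoin_singleton _ _
  have hxc : ∀ a : Algebra.adjoin F ({x} : Set (Matrix (Fin 4) (Fin 4) F)),
      (a : Matrix (Fin 4) (Fin 4) F) * x = x * a := by
    intro a
    have hx : (⟨x, Algebra.subset_adjoin rfl⟩ : Algebra.adjoin F ({x} : Set (Matrix (Fin 4) (Fin 4) F))) * a =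
        a * ⟨x, Algebra.subset_adjoin rfl⟩ := mul_comm _ _
    have := congrArg Subtype.val hx
    exact this.symm
  have : IsDomain (Algebra.adjoin F ({x} : Set (Matrix (Fin 4) (Fin 4) F))) := by
    have : Nontrivial (Algebra.adjoin F ({x} : Set (Matrix (Fin 4) (Fin 4) F))) := by
      refine ⟨⟨0, 1, ?_⟩⟩
      intro e
      have := congrArg Subtype.val e
      exact zero_ne_one this
    have : NoZeroDivisors (Algebra.adjoin F ({x} : Set (Matrix (Fin 4) (Fin 4) F))) := by
      constructor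
      intro a b hab
      by_contra hcon
      rw [not_or] at hcon
      have ha0 : (a : Matrix (Fin 4) (Fin 4) F) ≠ 0 := fun e => hcon.1 (Subtype.ext e)
      apply hcon.2
      apply Subtype.ext
      apply Matrix.toLin'.injective
      apply LinearMap.ext
      intro v
      have hab' : (a : Matrix (Fin 4) (Fin 4) F) * b = 0 := congrArg Subtype.val hab
      have : (a : Matrix (Fin 4) (Fin 4) F) *ᵥ ((b : Matrix (Fin 4) (Fin 4) F) *ᵥ v) = 0 := by
        rw [Matrix.mulVec_mulVec, hab', Matrix.zero_mulVec]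
      have := h.mulVec_injective (hxc a) ha0 this
      rw [Matrix.toLin'_apply, this]
      simp
    exact NoZeroDivisors.to_isDomain _
  let f : P →* Algebra.adjoin F ({x} : Set (Matrix (Fin 4) (Fin 4) F)) :=
    { toFun := fun y => ⟨ψ y, hmem _ (hcomm y)⟩
      map_one' := Subtype.ext (map_one ψ)
      map_mul' := fun a b => Subtype.ext (map_mul ψ a b) }
  have hf : Function.Injective f := by
    intro a b hab
    exact hψ (congrArg Subtype.val hab)
  exact isCyclic_of_injective_ringHom f hf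

end Cfsg.Agent.Helper7.IrredPrime
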