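import Mathlib
import Cfsg.Prelude.Def_ClassicalGeometry

set_option autoImplicit false

/-!
Symplectic transvections `1 + c • v (J v)ᵀ`.
-/

namespace Cfsg.Agent.Helper7.Symp

open Matrix

variable {l : Type*} [DecidableEq l] [Fintype l] {R : Type*} [CommRing R]

theorem J_mulVec_J_mulVec (v : l ⊕ l → R) : J l R *ᵥ (J l R *ᵥ v) = -v := by
  rw [mulVec_mulVec, J_squared, neg_mulVec, one_mulVec]

theorem J_mulVec_vecMul_J (v : l ⊕ l → R) : (J l R *ᵥ v) ᵥ* J l R = v := by
  have h : J l R *ᵥ v = v ᵥ* (-J l R) := by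
    rw [← J_transpose, vecMul_transpose]
  rw [h, vecMul_vecMul, neg_mul, J_squared, neg_neg, vecMul_one]

theorem dotProduct_J_mulVec_self (v : l ⊕ l → R) : v ⬝ᵥ (J l R *ᵥ v) = 0 := by
  simp only [dotProduct, mulVec, J, Fintype.sum_sum_type, fromBlocks_apply₁₁, fromBlocks_apply₁₂,
    fromBlocks_apply₂₁, fromBlocks_apply₂₂, Matrix.zero_apply, Matrix.neg_apply, Matrix.one_apply]
  simp only [zero_mul, Finset.sum_const_zero, zero_add, add_zero, neg_mul, ite_mul, one_mul,
    Finset.sum_neg_distrib, Finset.sum_ite_eq, Finset.mem_univ, if_true, mul_neg]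
  rw [neg_add_eq_zero]
  apply Finset.sum_congr rfl
  intro i _
  ring

theorem J_mulVec_dotProduct_self (v : l ⊕ l → R) : (J l R *ᵥ v) ⬝ᵥ v = 0 := by
  rw [dotProduct_comm]; exact dotProduct_J_mulVec_self v

end Cfsg.Agent.Helper7.Symp

namespace Cfsg.Agent.Helper7.Symp

open Matrix

variable {R : Type*} [CommRing R]

theorem sympTransvection_mem (m : ℕ) (v : Fin m ⊕ Fin m → R) (c : R) :
    Cfsg.sympTransvection m v c ∈ Matrix.symplecticGroup (Fin m) R := by
  rw [SymplecticGroup.mem_iff]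
  unfold Cfsg.sympTransvection
  rw [transpose_add, transpose_one, transpose_smul, transpose_vecMulVec]
  rw [add_mul, one_mul, smul_mul_assoc, vecMulVec_mul, J_mulVec_vecMul_J]
  rw [mul_add, mul_one, add_mul, mul_smul_comm, mul_smul_comm, smul_mul_assoc,
    vecMulVec_mul_vecMulVec, mul_vecMulVec, J_mulVec_J_mulVec, dotProduct_J_mulVec_self]
  simp only [zero_smul, vecMulVec_zero, smul_zero, add_zero, neg_vecMulVec, smul_neg]
  abel

theorem sympTransvection_mul (m : ℕ) (v : Fin m ⊕ Fin m → R) (c d : R) :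
    Cfsg.sympTransvection m v c * Cfsg.sympTransvection m v d = Cfsg.sympTransvection m v (c + d) := by
  unfold Cfsg.sympTransvection
  rw [add_mul, one_mul, mul_add, mul_one, smul_mul_assoc, mul_smul_comm, vecMulVec_mul_vecMulVec,
    J_mulVec_dotProduct_self]
  simp only [zero_smul, vecMulVec_zero, smul_zero, add_zero]
  rw [add_smul]
  abel

theorem sympTransvection_conj {F : Type*} [Field F] (m : ℕ) (v : Fin m ⊕ Fin m → F)
    (A : Matrix (Fin m ⊕ Fin m) (Fin m ⊕ Fin m) F) (a : F)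
    (hA : A ∈ Matrix.symplecticGroup (Fin m) F) (hAv : A *ᵥ v = a • v) (c : F) :
    A * Cfsg.sympTransvection m v c * A⁻¹ = Cfsg.sympTransvection m v (c * (a * a)) := by
  have hdet : IsUnit A.det := SymplecticGroup.symplectic_det hA
  have hAA : A * A⁻¹ = 1 := mul_nonsing_inv A hdet
  have h1 : a • ((J (Fin m) F *ᵥ v) ᵥ* A) = J (Fin m) F *ᵥ v := by
    have hA' := (SymplecticGroup.mem_iff').mp hA
    have : (Aᵀ * J (Fin m) F * A) *ᵥ v = J (Fin m) F *ᵥ v := by rw [hA']
    rw [← mulVec_mulVec, hAv, mulVec_smul, ← mulVec_mulVec, mulVec_transpose] at this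
    exact this
  have h2 : (J (Fin m) F *ᵥ v) ᵥ* A⁻¹ = a • (J (Fin m) F *ᵥ v) := by
    conv_lhs => rw [← h1]
    rw [smul_vecMul, vecMul_vecMul, hAA, vecMul_one]
  unfold Cfsg.sympTransvection
  rw [mul_add, mul_one, add_mul, hAA, mul_smul_comm, smul_mul_assoc, mul_vecMulVec, vecMulVec_mul,
    hAv, h2, smul_vecMulVec, vecMulVec_smul, smul_smul, smul_smul, mul_assoc]

end Cfsg.Agent.Helper7.Symp
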