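import Mathlib
import Cfsg.Prelude.Def_ClassicalGeometry
import Cfsg.Agent.Helper7.SympTransvection

set_option autoImplicit false

/-!
Transitivity properties of the group generated by the symplectic transvections.
-/

namespace Cfsg.Agent.Helper7.Symp

open Matrix Cfsg

variable {F : Type*} [Field F] {m : ℕ}

theorem sympForm_add_left (u u' v : Fin m ⊕ Fin m → F) :
    sympForm m F (u + u') v = sympForm m F u v + sympForm m F u' v := by
  unfold sympForm; rw [add_dotProduct]

theorem sympForm_add_right (u v v' : Fin m ⊕ Fin m → F) :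
    sympForm m F u (v + v') = sympForm m F u v + sympForm m F u v' := by
  unfold sympForm; rw [mulVec_add, dotProduct_add]

theorem sympForm_smul_left (c : F) (u v : Fin m ⊕ Fin m → F) :
    sympForm m F (c • u) v = c * sympForm m F u v := by
  unfold sympForm; rw [smul_dotProduct, smul_eq_mul]

theorem sympForm_smul_right (c : F) (u v : Fin m ⊕ Fin m → F) :
    sympForm m F u (c • v) = c * sympForm m F u v := by
  unfold sympForm; rw [mulVec_smul, dotProduct_smul, smul_eq_mul]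

theorem sympForm_self (u : Fin m ⊕ Fin m → F) : sympForm m F u u = 0 :=
  dotProduct_J_mulVec_self u

theorem sympForm_neg_right (u v : Fin m ⊕ Fin m → F) :
    sympForm m F u (-v) = -sympForm m F u v := by
  unfold sympForm; rw [mulVec_neg, dotProduct_neg]

theorem sympForm_sub_right (u v v' : Fin m ⊕ Fin m → F) :
    sympForm m F u (v - v') = sympForm m F u v - sympForm m F u v' := by
  rw [sub_eq_add_neg, sympForm_add_right, sympForm_neg_right, sub_eq_add_neg]

theorem sympForm_swap (u v : Fin m ⊕ Fin m → F) : sympForm m F u v = -sympForm m F v u := by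
  have h := sympForm_self (u + v)
  rw [sympForm_add_left, sympForm_add_right, sympForm_add_right, sympForm_self, sympForm_self,
    zero_add, add_zero] at h
  exact eq_neg_of_add_eq_zero_left h

theorem sympForm_sub_left (u u' v : Fin m ⊕ Fin m → F) :
    sympForm m F (u - u') v = sympForm m F u v - sympForm m F u' v := by
  rw [sympForm_swap, sympForm_sub_right, sympForm_swap v u, sympForm_swap v u']; ring

/-- Non-degeneracy. -/
theorem exists_sympForm_ne_zero {u : Fin m ⊕ Fin m → F} (hu : u ≠ 0) :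
    ∃ y : Fin m ⊕ Fin m → F, sympForm m F u y ≠ 0 := by
  obtain ⟨i, hi⟩ : ∃ i, u i ≠ 0 := by
    by_contra h
    push Not at h
    exact hu (funext h)
  refine ⟨-(J (Fin m) F *ᵥ Pi.single i 1), ?_⟩
  unfold sympForm
  rw [mulVec_neg, J_mulVec_J_mulVec, neg_neg, dotProduct_single, mul_one]
  exact hi

/-- The action of a symplectic transvection. -/
theorem sympTransvection_mulVec (w : Fin m ⊕ Fin m → F) (c : F) (x : Fin m ⊕ Fin m → F) :
    sympTransvection m w c *ᵥ x = x + (c * sympForm m F x w) • w := by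
  unfold sympTransvection sympForm
  rw [add_mulVec, one_mulVec, smul_mulVec, vecMulVec_mulVec, dotProduct_comm]
  congr 1
  ext i
  simp only [Pi.smul_apply, MulOpposite.smul_eq_mul_unop, MulOpposite.unop_op, smul_eq_mul]
  ring

/-- The subgroup generated by the symplectic transvections. -/
def transvectionSubgroup (m : ℕ) (F : Type*) [Field F] : Subgroup (Matrix.symplecticGroup (Fin m) F) :=
  Subgroup.closure {A : Matrix.symplecticGroup (Fin m) F | ∃ (w : Fin m ⊕ Fin m → F) (c : F),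
    (A : Matrix (Fin m ⊕ Fin m) (Fin m ⊕ Fin m) F) = Cfsg.sympTransvection m w c}

/-- A transvection as an element of the symplectic group. -/
def T (w : Fin m ⊕ Fin m → F) (c : F) : Matrix.symplecticGroup (Fin m) F :=
  ⟨sympTransvection m w c, sympTransvection_mem m w c⟩

theorem T_mem (w : Fin m ⊕ Fin m → F) (c : F) : T w c ∈ transvectionSubgroup m F :=
  Subgroup.subset_closure ⟨w, c, rfl⟩

theorem T_mulVec (w : Fin m ⊕ Fin m → F) (c : F) (x : Fin m ⊕ Fin m → F) :
    (T w c : Matrix (Fin m ⊕ Fin m) (Fin m ⊕ Fin m) F) *ᵥ x = x + (c * sympForm m F x w) • w :=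
  sympTransvection_mulVec w c x

theorem coe_mul_mulVec (A B : Matrix.symplecticGroup (Fin m) F) (x : Fin m ⊕ Fin m → F) :
    ((A * B : Matrix.symplecticGroup (Fin m) F) : Matrix (Fin m ⊕ Fin m) (Fin m ⊕ Fin m) F) *ᵥ x =
      (A : Matrix (Fin m ⊕ Fin m) (Fin m ⊕ Fin m) F) *ᵥ
        ((B : Matrix (Fin m ⊕ Fin m) (Fin m ⊕ Fin m) F) *ᵥ x) := by
  rw [mulVec_mulVec]; rfl

/-- One transvection carries `u` to `u'` when `f(u, u') ≠ 0`, fixing every `z` orthogonal to both. -/
theorem exists_T_of_ne_zero {u u' : Fin m ⊕ Fin m → F} (h : sympForm m F u u' ≠ 0) :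
    ∃ (w : Fin m ⊕ Fin m → F) (c : F),
      (T w c : Matrix (Fin m ⊕ Fin m) (Fin m ⊕ Fin m) F) *ᵥ u = u' ∧
      ∀ z, sympForm m F z u = sympForm m F z u' →
        (T w c : Matrix (Fin m ⊕ Fin m) (Fin m ⊕ Fin m) F) *ᵥ z = z := by
  refine ⟨u - u', (sympForm m F u u')⁻¹, ?_, ?_⟩
  · rw [T_mulVec, sympForm_sub_right, sympForm_self, zero_sub, mul_neg, inv_mul_cancel₀ h, neg_smul,
      one_smul]
    abel
  · intro z hz
    rw [T_mulVec, sympForm_sub_right, hz, sub_self, mul_zero, zero_smul, add_zero]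

/-- Transitivity on non-zero vectors. -/
theorem exists_mem_mulVec_eq {u u' : Fin m ⊕ Fin m → F} (hu : u ≠ 0) (hu' : u' ≠ 0) :
    ∃ g ∈ transvectionSubgroup m F,
      (g : Matrix (Fin m ⊕ Fin m) (Fin m ⊕ Fin m) F) *ᵥ u = u' := by
  by_cases h : sympForm m F u u' ≠ 0
  · obtain ⟨w, c, e, _⟩ := exists_T_of_ne_zero h
    exact ⟨T w c, T_mem w c, e⟩
  · push Not at h
    -- an intermediate vector
    obtain ⟨a, ha⟩ := exists_sympForm_ne_zero hu
    obtain ⟨b, hb⟩ := exists_sympForm_ne_zero hu'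
    have hz : ∃ z, sympForm m F u z ≠ 0 ∧ sympForm m F z u' ≠ 0 := by
      by_cases h1 : sympForm m F u' a ≠ 0
      · refine ⟨a, ha, ?_⟩
        rw [sympForm_swap]; exact neg_ne_zero.mpr h1
      · push Not at h1
        by_cases h2 : sympForm m F u b ≠ 0
        · refine ⟨b, h2, ?_⟩
          rw [sympForm_swap]; exact neg_ne_zero.mpr hb
        · push Not at h2
          refine ⟨a + b, ?_, ?_⟩
          · rw [sympForm_add_right, h2, add_zero]; exact ha
          · rw [sympForm_swap, sympForm_add_right, h1, zero_add]; exact neg_ne_zero.mpr hb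
    obtain ⟨z, hz1, hz2⟩ := hz
    obtain ⟨w₁, c₁, e₁, _⟩ := exists_T_of_ne_zero hz1
    obtain ⟨w₂, c₂, e₂, _⟩ := exists_T_of_ne_zero hz2
    refine ⟨T w₂ c₂ * T w₁ c₁, Subgroup.mul_mem _ (T_mem _ _) (T_mem _ _), ?_⟩
    rw [coe_mul_mulVec, e₁, e₂]

/-- Elements of the symplectic group preserve the form. -/
theorem sympForm_mulVec (g : Matrix.symplecticGroup (Fin m) F) (x y : Fin m ⊕ Fin m → F) :
    sympForm m F ((g : Matrix (Fin m ⊕ Fin m) (Fin m ⊕ Fin m) F) *ᵥ x)
      ((g : Matrix (Fin m ⊕ Fin m) (Fin m ⊕ Fin m) F) *ᵥ y) = sympForm m F x y := by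
  unfold sympForm
  have h := (SymplecticGroup.mem_iff').mp g.2
  rw [mulVec_mulVec, ← vecMul_transpose (g : Matrix (Fin m ⊕ Fin m) (Fin m ⊕ Fin m) F) x,
    ← dotProduct_mulVec, mulVec_mulVec, ← Matrix.mul_assoc, h]

/-- Transitivity on hyperbolic pairs. -/
theorem exists_mem_mulVec_pair {u v u' v' : Fin m ⊕ Fin m → F} (h : sympForm m F u v = 1)
    (h' : sympForm m F u' v' = 1) :
    ∃ g ∈ transvectionSubgroup m F,
      (g : Matrix (Fin m ⊕ Fin m) (Fin m ⊕ Fin m) F) *ᵥ u = u' ∧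
      (g : Matrix (Fin m ⊕ Fin m) (Fin m ⊕ Fin m) F) *ᵥ v = v' := by
  have hu : u ≠ 0 := by
    rintro rfl
    unfold sympForm at h
    rw [zero_dotProduct] at h
    exact zero_ne_one h
  have hu' : u' ≠ 0 := by
    rintro rfl
    unfold sympForm at h'
    rw [zero_dotProduct] at h'
    exact zero_ne_one h'
  obtain ⟨g₁, hg₁, e₁⟩ := exists_mem_mulVec_eq hu hu'
  set v₁ := (g₁ : Matrix (Fin m ⊕ Fin m) (Fin m ⊕ Fin m) F) *ᵥ v with hv₁
  have hv₁' : sympForm m F u' v₁ = 1 := by
    rw [← e₁, hv₁, sympForm_mulVec, h]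
  -- now fix `u'` and move `v₁` to `v'`
  have key : ∃ g₂ ∈ transvectionSubgroup m F,
      (g₂ : Matrix (Fin m ⊕ Fin m) (Fin m ⊕ Fin m) F) *ᵥ u' = u' ∧
      (g₂ : Matrix (Fin m ⊕ Fin m) (Fin m ⊕ Fin m) F) *ᵥ v₁ = v' := by
    by_cases hc : sympForm m F v₁ v' ≠ 0
    · obtain ⟨w, c, e, hfix⟩ := exists_T_of_ne_zero hc
      exact ⟨T w c, T_mem w c, hfix u' (by rw [hv₁', h']), e⟩
    · push Not at hc
      have h1 : sympForm m F v₁ (v₁ + u') ≠ 0 := by
        rw [sympForm_add_right, sympForm_self, zero_add, sympForm_swap, hv₁']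
        exact neg_ne_zero.mpr one_ne_zero
      have h2 : sympForm m F (v₁ + u') v' ≠ 0 := by
        rw [sympForm_add_left, hc, zero_add, h']
        exact one_ne_zero
      obtain ⟨w₁, c₁, e₁', hfix₁⟩ := exists_T_of_ne_zero h1
      obtain ⟨w₂, c₂, e₂', hfix₂⟩ := exists_T_of_ne_zero h2
      refine ⟨T w₂ c₂ * T w₁ c₁, Subgroup.mul_mem _ (T_mem _ _) (T_mem _ _), ?_, ?_⟩
      · rw [coe_mul_mulVec, hfix₁ u' (by rw [sympForm_add_right, sympForm_self, add_zero]),
          hfix₂ u' (by rw [sympForm_add_right, sympForm_self, add_zero, hv₁', h'])]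
      · rw [coe_mul_mulVec, e₁', e₂']
  obtain ⟨g₂, hg₂, e₂, e₃⟩ := key
  refine ⟨g₂ * g₁, Subgroup.mul_mem _ hg₂ hg₁, ?_, ?_⟩
  · rw [coe_mul_mulVec, e₁, e₂]
  · rw [coe_mul_mulVec, ← hv₁, e₃]

end Cfsg.Agent.Helper7.Symp
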