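import Mathlib
import Cfsg.Prelude.Def_ClassicalGeometry
import Cfsg.Agent.Helper7.SympTransitive

set_option autoImplicit false

/-!
Generation of the symplectic group by symplectic transvections.
-/

namespace Cfsg.Agent.Helper7.Symp

open Matrix Cfsg

variable {F : Type*} [Field F] {m : ℕ}

local notation "VV" => (Fin m ⊕ Fin m → F)

/-- The subgroup generated by the transvections with vector in `S`. -/
def HS (S : Submodule F (Fin m ⊕ Fin m → F)) : Subgroup (Matrix.symplecticGroup (Fin m) F) :=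
  Subgroup.closure {A | ∃ w ∈ S, ∃ c : F, A = T w c}

theorem T_mem_HS {S : Submodule F (Fin m ⊕ Fin m → F)} {w : Fin m ⊕ Fin m → F} (hw : w ∈ S) (c : F) :
    T w c ∈ HS S :=
  Subgroup.subset_closure ⟨w, hw, c, rfl⟩

theorem HS_mono {S S' : Submodule F (Fin m ⊕ Fin m → F)} (h : S ≤ S') : HS S ≤ HS S' := by
  apply Subgroup.closure_mono
  rintro A ⟨w, hw, c, rfl⟩
  exact ⟨w, h hw, c, rfl⟩

theorem HS_le_transvectionSubgroup (S : Submodule F (Fin m ⊕ Fin m → F)) :
    HS S ≤ transvectionSubgroup m F := by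
  apply Subgroup.closure_mono
  rintro A ⟨w, _, c, rfl⟩
  exact ⟨w, c, rfl⟩

theorem coe_one_mulVec (x : Fin m ⊕ Fin m → F) :
    ((1 : Matrix.symplecticGroup (Fin m) F) : Matrix (Fin m ⊕ Fin m) (Fin m ⊕ Fin m) F) *ᵥ x = x := by
  change (1 : Matrix (Fin m ⊕ Fin m) (Fin m ⊕ Fin m) F) *ᵥ x = x
  exact one_mulVec x

theorem coe_inv_mulVec_eq (g : Matrix.symplecticGroup (Fin m) F) {x y : Fin m ⊕ Fin m → F}
    (h : (g : Matrix (Fin m ⊕ Fin m) (Fin m ⊕ Fin m) F) *ᵥ x = y) :
    ((g⁻¹ : Matrix.symplecticGroup (Fin m) F) : Matrix (Fin m ⊕ Fin m) (Fin m ⊕ Fin m) F) *ᵥ y = x := by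
  rw [← h, ← coe_mul_mulVec, inv_mul_cancel, coe_one_mulVec]

/-- Elements of `HS S` fix the vectors orthogonal to `S` and preserve `S`. -/
theorem HS_fix {S : Submodule F (Fin m ⊕ Fin m → F)} {g : Matrix.symplecticGroup (Fin m) F}
    (hg : g ∈ HS S) :
    (∀ r : Fin m ⊕ Fin m → F, (∀ s ∈ S, sympForm m F r s = 0) →
      (g : Matrix (Fin m ⊕ Fin m) (Fin m ⊕ Fin m) F) *ᵥ r = r) ∧
    (∀ s ∈ S, (g : Matrix (Fin m ⊕ Fin m) (Fin m ⊕ Fin m) F) *ᵥ s ∈ S) := by
  induction hg using Subgroup.closure_induction'' with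
  | one =>
    exact ⟨fun r _ => coe_one_mulVec r, fun s hs => by rw [coe_one_mulVec]; exact hs⟩
  | mem g hg =>
    obtain ⟨w, hw, c, rfl⟩ := hg
    refine ⟨fun r hr => ?_, fun s hs => ?_⟩
    · rw [T_mulVec, hr w hw, mul_zero, zero_smul, add_zero]
    · rw [T_mulVec]
      exact S.add_mem hs (S.smul_mem _ hw)
  | inv_mem g hg =>
    obtain ⟨w, hw, c, rfl⟩ := hg
    refine ⟨fun r hr => ?_, fun s hs => ?_⟩
    · apply coe_inv_mulVec_eq
      rw [T_mulVec, hr w hw, mul_zero, zero_smul, add_zero]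
    · -- the inverse of `T w c` is `T w (-c)`
      have hinv : (T w c)⁻¹ = T w (-c) := by
        apply inv_eq_of_mul_eq_one_right
        apply Subtype.ext
        change sympTransvection m w c * sympTransvection m w (-c) = 1
        rw [sympTransvection_mul, add_neg_cancel]
        unfold sympTransvection
        rw [zero_smul, add_zero]
      rw [hinv, T_mulVec]
      exact S.add_mem hs (S.smul_mem _ hw)
  | mul g₁ g₂ _ _ h₁ h₂ =>
    refine ⟨fun r hr => ?_, fun s hs => ?_⟩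
    · rw [coe_mul_mulVec, h₂.1 r hr, h₁.1 r hr]
    · rw [coe_mul_mulVec]
      exact h₁.2 _ (h₂.2 s hs)

/-- One transvection in `HS S`. -/
theorem exists_T_of_ne_zero_rel {S : Submodule F (Fin m ⊕ Fin m → F)}
    {u u' : Fin m ⊕ Fin m → F} (hu : u ∈ S) (hu' : u' ∈ S) (h : sympForm m F u u' ≠ 0) :
    ∃ g ∈ HS S, (g : Matrix (Fin m ⊕ Fin m) (Fin m ⊕ Fin m) F) *ᵥ u = u' ∧
      ∀ z, sympForm m F z u = sympForm m F z u' →
        (g : Matrix (Fin m ⊕ Fin m) (Fin m ⊕ Fin m) F) *ᵥ z = z := by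
  refine ⟨T (u - u') (sympForm m F u u')⁻¹, T_mem_HS (S.sub_mem hu hu') _, ?_, ?_⟩
  · rw [T_mulVec, sympForm_sub_right, sympForm_self, zero_sub, mul_neg, inv_mul_cancel₀ h, neg_smul,
      one_smul]
    abel
  · intro z hz
    rw [T_mulVec, sympForm_sub_right, hz, sub_self, mul_zero, zero_smul, add_zero]

/-- Transitivity on non-zero vectors of a non-degenerate subspace. -/
theorem exists_mem_mulVec_eq_rel {S : Submodule F (Fin m ⊕ Fin m → F)}
    (hS : ∀ x ∈ S, x ≠ 0 → ∃ y ∈ S, sympForm m F x y ≠ 0)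
    {u u' : Fin m ⊕ Fin m → F} (huS : u ∈ S) (hu'S : u' ∈ S) (hu : u ≠ 0) (hu' : u' ≠ 0) :
    ∃ g ∈ HS S, (g : Matrix (Fin m ⊕ Fin m) (Fin m ⊕ Fin m) F) *ᵥ u = u' := by
  by_cases h : sympForm m F u u' ≠ 0
  · obtain ⟨g, hg, e, _⟩ := exists_T_of_ne_zero_rel huS hu'S h
    exact ⟨g, hg, e⟩
  · push Not at h
    obtain ⟨a, haS, ha⟩ := hS u huS hu
    obtain ⟨b, hbS, hb⟩ := hS u' hu'S hu'
    have hz : ∃ z ∈ S, sympForm m F u z ≠ 0 ∧ sympForm m F z u' ≠ 0 := by
      by_cases h1 : sympForm m F u' a ≠ 0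
      · refine ⟨a, haS, ha, ?_⟩
        rw [sympForm_swap]; exact neg_ne_zero.mpr h1
      · push Not at h1
        by_cases h2 : sympForm m F u b ≠ 0
        · refine ⟨b, hbS, h2, ?_⟩
          rw [sympForm_swap]; exact neg_ne_zero.mpr hb
        · push Not at h2
          refine ⟨a + b, S.add_mem haS hbS, ?_, ?_⟩
          · rw [sympForm_add_right, h2, add_zero]; exact ha
          · rw [sympForm_swap, sympForm_add_right, h1, zero_add]; exact neg_ne_zero.mpr hb
    obtain ⟨z, hzS, hz1, hz2⟩ := hz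
    obtain ⟨g₁, hg₁, e₁, _⟩ := exists_T_of_ne_zero_rel huS hzS hz1
    obtain ⟨g₂, hg₂, e₂, _⟩ := exists_T_of_ne_zero_rel hzS hu'S hz2
    refine ⟨g₂ * g₁, Subgroup.mul_mem _ hg₂ hg₁, ?_⟩
    rw [coe_mul_mulVec, e₁, e₂]

/-- Transitivity on hyperbolic pairs of a non-degenerate subspace. -/
theorem exists_mem_mulVec_pair_rel {S : Submodule F (Fin m ⊕ Fin m → F)}
    (hS : ∀ x ∈ S, x ≠ 0 → ∃ y ∈ S, sympForm m F x y ≠ 0)
    {u v u' v' : Fin m ⊕ Fin m → F} (huS : u ∈ S) (hvS : v ∈ S) (hu'S : u' ∈ S) (hv'S : v' ∈ S)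
    (h : sympForm m F u v = 1) (h' : sympForm m F u' v' = 1) :
    ∃ g ∈ HS S, (g : Matrix (Fin m ⊕ Fin m) (Fin m ⊕ Fin m) F) *ᵥ u = u' ∧
      (g : Matrix (Fin m ⊕ Fin m) (Fin m ⊕ Fin m) F) *ᵥ v = v' := by
  have hu : u ≠ 0 := by
    rintro rfl
    unfold sympForm at h
    rw [zero_dotProduct] at h
    exact zero_ne_one h
  have hu' : u' ≠ 0 := by
    rintro rfl
    unfold sympForm at h'
    rw [zero_dotProduct] at h'
    exact zero_ne_one h'
  obtain ⟨g₁, hg₁, e₁⟩ := exists_mem_mulVec_eq_rel hS huS hu'S hu hu'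
  set v₁ := (g₁ : Matrix (Fin m ⊕ Fin m) (Fin m ⊕ Fin m) F) *ᵥ v with hv₁
  have hv₁S : v₁ ∈ S := (HS_fix hg₁).2 v hvS
  have hv₁' : sympForm m F u' v₁ = 1 := by
    rw [← e₁, hv₁, sympForm_mulVec, h]
  have key : ∃ g₂ ∈ HS S,
      (g₂ : Matrix (Fin m ⊕ Fin m) (Fin m ⊕ Fin m) F) *ᵥ u' = u' ∧
      (g₂ : Matrix (Fin m ⊕ Fin m) (Fin m ⊕ Fin m) F) *ᵥ v₁ = v' := by
    by_cases hc : sympForm m F v₁ v' ≠ 0
    · obtain ⟨g, hg, e, hfix⟩ := exists_T_of_ne_zero_rel hv₁S hv'S hc
      exact ⟨g, hg, hfix u' (by rw [hv₁', h']), e⟩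
    · push Not at hc
      have h1 : sympForm m F v₁ (v₁ + u') ≠ 0 := by
        rw [sympForm_add_right, sympForm_self, zero_add, sympForm_swap, hv₁']
        exact neg_ne_zero.mpr one_ne_zero
      have h2 : sympForm m F (v₁ + u') v' ≠ 0 := by
        rw [sympForm_add_left, hc, zero_add, h']
        exact one_ne_zero
      obtain ⟨k₁, hk₁, e₁', hfix₁⟩ := exists_T_of_ne_zero_rel hv₁S (S.add_mem hv₁S hu'S) h1
      obtain ⟨k₂, hk₂, e₂', hfix₂⟩ := exists_T_of_ne_zero_rel (S.add_mem hv₁S hu'S) hv'S h2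
      refine ⟨k₂ * k₁, Subgroup.mul_mem _ hk₂ hk₁, ?_, ?_⟩
      · rw [coe_mul_mulVec, hfix₁ u' (by rw [sympForm_add_right, sympForm_self, add_zero]),
          hfix₂ u' (by rw [sympForm_add_right, sympForm_self, add_zero, hv₁', h'])]
      · rw [coe_mul_mulVec, e₁', e₂']
  obtain ⟨g₂, hg₂, e₂, e₃⟩ := key
  refine ⟨g₂ * g₁, Subgroup.mul_mem _ hg₂ hg₁, ?_, ?_⟩
  · rw [coe_mul_mulVec, e₁, e₂]
  · rw [coe_mul_mulVec, ← hv₁, e₃]

/-- The part of `S` orthogonal to `u` and `v`. -/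
def perpIn (S : Submodule F (Fin m ⊕ Fin m → F)) (u v : Fin m ⊕ Fin m → F) :
    Submodule F (Fin m ⊕ Fin m → F) where
  carrier := {x | x ∈ S ∧ sympForm m F x u = 0 ∧ sympForm m F x v = 0}
  add_mem' := by
    rintro a b ⟨ha, ha1, ha2⟩ ⟨hb, hb1, hb2⟩
    refine ⟨S.add_mem ha hb, ?_, ?_⟩
    · rw [sympForm_add_left, ha1, hb1, add_zero]
    · rw [sympForm_add_left, ha2, hb2, add_zero]
  zero_mem' := by
    refine ⟨S.zero_mem, ?_, ?_⟩ <;> · unfold sympForm; rw [zero_dotProduct]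
  smul_mem' := by
    rintro c a ⟨ha, ha1, ha2⟩
    refine ⟨S.smul_mem c ha, ?_, ?_⟩
    · rw [sympForm_smul_left, ha1, mul_zero]
    · rw [sympForm_smul_left, ha2, mul_zero]

theorem eq_one_of_mulVec (A : Matrix.symplecticGroup (Fin m) F)
    (h : ∀ x : Fin m ⊕ Fin m → F, (A : Matrix (Fin m ⊕ Fin m) (Fin m ⊕ Fin m) F) *ᵥ x = x) : A = 1 := by
  apply Subtype.ext
  change (A : Matrix (Fin m ⊕ Fin m) (Fin m ⊕ Fin m) F) = 1
  ext i j
  have := congrFun (h (Pi.single j 1)) i
  rw [mulVec_single_one] at this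
  rw [Matrix.one_apply]
  rw [Pi.single_apply] at this
  simpa [eq_comm] using this

/-- The main induction: an isometry fixing `R` pointwise, where `V = R ⊕ S` orthogonally, is a
product of transvections with vectors in `S`. -/
theorem mem_HS_of_fix : ∀ (k : ℕ) (R S : Submodule F (Fin m ⊕ Fin m → F)),
    Module.finrank F S = k →
    (∀ r ∈ R, ∀ s ∈ S, sympForm m F r s = 0) →
    (∀ x : Fin m ⊕ Fin m → F, ∃ r ∈ R, ∃ s ∈ S, x = r + s) →
    ∀ A : Matrix.symplecticGroup (Fin m) F,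
      (∀ r ∈ R, (A : Matrix (Fin m ⊕ Fin m) (Fin m ⊕ Fin m) F) *ᵥ r = r) → A ∈ HS S := by
  intro k
  induction k using Nat.strong_induction_on with
  | _ k ih =>
    intro R S hk hRS hdec A hA
    -- non-degeneracy of `S` and `R`
    have hSnd : ∀ x ∈ S, x ≠ 0 → ∃ y ∈ S, sympForm m F x y ≠ 0 := by
      intro x hx hx0
      obtain ⟨y₀, hy₀⟩ := exists_sympForm_ne_zero hx0
      obtain ⟨r, hr, s, hs, rfl⟩ := hdec y₀
      refine ⟨s, hs, ?_⟩
      rw [sympForm_add_right, sympForm_swap x r, hRS r hr x hx, neg_zero, zero_add] at hy₀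
      exact hy₀
    have hRnd : ∀ x ∈ R, (∀ r ∈ R, sympForm m F x r = 0) → x = 0 := by
      intro x hx hxR
      by_contra hx0
      obtain ⟨y₀, hy₀⟩ := exists_sympForm_ne_zero hx0
      obtain ⟨r, hr, s, hs, rfl⟩ := hdec y₀
      apply hy₀
      rw [sympForm_add_right, hxR r hr, hRS x hx s hs, add_zero]
    -- `A` preserves `S`
    have hAS : ∀ s ∈ S, (A : Matrix (Fin m ⊕ Fin m) (Fin m ⊕ Fin m) F) *ᵥ s ∈ S := by
      intro s hs
      obtain ⟨r', hr', s', hs', e⟩ := hdec ((A : Matrix (Fin m ⊕ Fin m) (Fin m ⊕ Fin m) F) *ᵥ s)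
      have hr'0 : r' = 0 := by
        apply hRnd r' hr'
        intro r hr
        have e1 : r' = (A : Matrix (Fin m ⊕ Fin m) (Fin m ⊕ Fin m) F) *ᵥ s - s' := by
          rw [e]; abel
        have e2 : sympForm m F ((A : Matrix (Fin m ⊕ Fin m) (Fin m ⊕ Fin m) F) *ᵥ s) r =
            sympForm m F s r := by
          conv_lhs => rw [← hA r hr]
          exact sympForm_mulVec A s r
        rw [e1, sympForm_sub_left, e2, sympForm_swap s r, hRS r hr s hs, sympForm_swap s' r,
          hRS r hr s' hs']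
        simp
      rw [e, hr'0, zero_add]
      exact hs'
    by_cases hS : S = ⊥
    · -- `A` is the identity
      have hall : ∀ x : Fin m ⊕ Fin m → F, (A : Matrix (Fin m ⊕ Fin m) (Fin m ⊕ Fin m) F) *ᵥ x = x := by
        intro x
        obtain ⟨r, hr, s, hs, rfl⟩ := hdec x
        rw [hS, Submodule.mem_bot] at hs
        rw [hs, add_zero]
        exact hA r hr
      rw [eq_one_of_mulVec A hall]
      exact Subgroup.one_mem _
    · obtain ⟨x, hxS, hx0⟩ := Submodule.exists_mem_ne_zero_of_ne_bot hS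
      obtain ⟨y, hyS, hxy⟩ := hSnd x hxS hx0
      set u := x with hu
      set v := (sympForm m F x y)⁻¹ • y with hv
      have hvS : v ∈ S := S.smul_mem _ hyS
      have huv : sympForm m F u v = 1 := by
        rw [hv, sympForm_smul_right, inv_mul_cancel₀ hxy]
      have hvu : sympForm m F v u = -1 := by rw [sympForm_swap, huv]
      have hAuv : sympForm m F ((A : Matrix (Fin m ⊕ Fin m) (Fin m ⊕ Fin m) F) *ᵥ u)
          ((A : Matrix (Fin m ⊕ Fin m) (Fin m ⊕ Fin m) F) *ᵥ v) = 1 := by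
        rw [sympForm_mulVec, huv]
      obtain ⟨h, hh, e1, e2⟩ := exists_mem_mulVec_pair_rel hSnd (hAS u hxS) (hAS v hvS) hxS hvS
        hAuv huv
      -- `A' = h A`
      have hfixR : ∀ r ∈ R, ((h * A : Matrix.symplecticGroup (Fin m) F) :
          Matrix (Fin m ⊕ Fin m) (Fin m ⊕ Fin m) F) *ᵥ r = r := by
        intro r hr
        rw [coe_mul_mulVec, hA r hr]
        exact (HS_fix hh).1 r (hRS r hr)
      have hfixu : ((h * A : Matrix.symplecticGroup (Fin m) F) :
          Matrix (Fin m ⊕ Fin m) (Fin m ⊕ Fin m) F) *ᵥ u = u := by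
        rw [coe_mul_mulVec, e1]
      have hfixv : ((h * A : Matrix.symplecticGroup (Fin m) F) :
          Matrix (Fin m ⊕ Fin m) (Fin m ⊕ Fin m) F) *ᵥ v = v := by
        rw [coe_mul_mulVec, e2]
      have hS'le : perpIn S u v ≤ S := fun z hz => hz.1
      have hS'lt : perpIn S u v < S := by
        refine lt_of_le_of_ne hS'le ?_
        intro heq
        have : u ∈ perpIn S u v := by rw [heq]; exact hxS
        have h1 := this.2.2
        rw [huv] at h1
        exact one_ne_zero h1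
      have hlt := Submodule.finrank_lt_finrank_of_lt hS'lt
      have hmem := ih (Module.finrank F (perpIn S u v)) (by omega)
        (R ⊔ Submodule.span F {u, v}) (perpIn S u v) rfl
        (by
          intro r' hr' s' hs'
          rw [Submodule.mem_sup] at hr'
          obtain ⟨r, hr, w, hw, rfl⟩ := hr'
          rw [Submodule.mem_span_pair] at hw
          obtain ⟨a, b, rfl⟩ := hw
          rw [sympForm_add_left, sympForm_add_left, sympForm_smul_left, sympForm_smul_left,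
            hRS r hr s' hs'.1, sympForm_swap u s', hs'.2.1, sympForm_swap v s', hs'.2.2]
          simp)
        (by
          intro z
          obtain ⟨r, hr, s, hs, rfl⟩ := hdec z
          refine ⟨r + (sympForm m F s v • u + (-sympForm m F s u) • v),
            Submodule.add_mem _ (Submodule.mem_sup_left hr)
              (Submodule.mem_sup_right (Submodule.mem_span_pair.mpr ⟨_, _, rfl⟩)),
            s - sympForm m F s v • u + sympForm m F s u • v, ?_, ?_⟩
          · refine ⟨S.add_mem (S.sub_mem hs (S.smul_mem _ hxS)) (S.smul_mem _ hvS), ?_, ?_⟩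
            · rw [sympForm_add_left, sympForm_sub_left, sympForm_smul_left, sympForm_smul_left,
                sympForm_self, hvu]
              ring
            · rw [sympForm_add_left, sympForm_sub_left, sympForm_smul_left, sympForm_smul_left,
                sympForm_self, huv]
              ring
          · rw [neg_smul]; abel)
        (h * A)
        (by
          intro r' hr'
          rw [Submodule.mem_sup] at hr'
          obtain ⟨r, hr, w, hw, rfl⟩ := hr'
          rw [Submodule.mem_span_pair] at hw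
          obtain ⟨a, b, rfl⟩ := hw
          rw [mulVec_add, mulVec_add, mulVec_smul, mulVec_smul, hfixR r hr, hfixu, hfixv])
      have hmem' : h * A ∈ HS S := HS_mono hS'le hmem
      have : A = h⁻¹ * (h * A) := by group
      rw [this]
      exact Subgroup.mul_mem _ (Subgroup.inv_mem _ hh) hmem'

/-- The symplectic transvections generate the symplectic group. -/
theorem transvectionSubgroup_eq_top (m : ℕ) (F : Type*) [Field F] : transvectionSubgroup m F = ⊤ := by
  rw [eq_top_iff]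
  intro A _
  apply HS_le_transvectionSubgroup ⊤
  refine mem_HS_of_fix _ ⊥ ⊤ rfl ?_ ?_ A ?_
  · intro r hr s _
    rw [Submodule.mem_bot] at hr
    rw [hr]
    unfold sympForm
    rw [zero_dotProduct]
  · intro x
    exact ⟨0, Submodule.zero_mem _, x, Submodule.mem_top, (zero_add x).symm⟩
  · intro r hr
    rw [Submodule.mem_bot] at hr
    rw [hr, mulVec_zero]

end Cfsg.Agent.Helper7.Symp
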