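import Mathlib

set_option autoImplicit false

/-!
The field automorphism `σ : x ↦ x ^ 2 ^ (m + 1)` of a field with `2 ^ (2 m + 1)` elements:
`σ ∘ σ` is squaring.
-/

namespace Cfsg.Agent.Helper7.Sz

variable {F : Type*} [Field F]

/-- `σ x = x ^ 2 ^ (m + 1)`. -/
def sg (m : ℕ) (x : F) : F := x ^ (2 ^ (m + 1))

theorem sg_mul (m : ℕ) (x y : F) : sg m (x * y) = sg m x * sg m y := mul_pow _ _ _

theorem sg_one (m : ℕ) : sg m (1 : F) = 1 := one_pow _

theorem sg_zero (m : ℕ) : sg m (0 : F) = 0 := zero_pow (by positivity)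

theorem sg_inv (m : ℕ) (x : F) : sg m x⁻¹ = (sg m x)⁻¹ := inv_pow _ _

theorem sg_eq_zero {m : ℕ} {x : F} : sg m x = 0 ↔ x = 0 := by
  unfold sg
  exact pow_eq_zero_iff (by positivity)

theorem sg_ne_zero {m : ℕ} {x : F} (hx : x ≠ 0) : sg m x ≠ 0 := fun h => hx (sg_eq_zero.1 h)

variable [Fintype F]

/-- The hypotheses on the field. -/
structure FH (F : Type*) [Field F] [Fintype F] (m : ℕ) : Prop where
  hm : 1 ≤ m
  card : Fintype.card F = 2 ^ (2 * m + 1)

theorem FH.charP {m : ℕ} (h : FH F m) : CharP F 2 := by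
  obtain ⟨p, hp⟩ := CharP.exists F
  obtain ⟨n, hprime, hcard⟩ := FiniteField.card F p
  have h1 : p ∣ 2 ^ (2 * m + 1) := by
    rw [← h.card, hcard]
    exact dvd_pow_self p n.ne_zero
  have h2 : p ∣ 2 := hprime.dvd_of_dvd_pow h1
  have h3 : p = 2 := (Nat.prime_dvd_prime_iff_eq hprime Nat.prime_two).1 h2
  rw [← h3]
  exact hp

theorem FH.two_eq_zero {m : ℕ} (h : FH F m) : (2 : F) = 0 := by
  have := h.charP
  exact CharTwo.two_eq_zero

theorem FH.add_self {m : ℕ} (h : FH F m) (x : F) : x + x = 0 := by
  have := h.charP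
  exact CharTwo.add_self_eq_zero x

theorem FH.neg_eq {m : ℕ} (h : FH F m) (x : F) : -x = x := by
  have := h.charP
  exact CharTwo.neg_eq x

theorem FH.sub_eq {m : ℕ} (h : FH F m) (x y : F) : x - y = x + y := by
  have := h.charP
  exact CharTwo.sub_eq_add x y

theorem FH.eq_of_add_eq_zero {m : ℕ} (h : FH F m) {x y : F} (hxy : x + y = 0) : x = y := by
  have := h.charP
  exact CharTwo.add_eq_zero.1 hxy

theorem FH.sg_add {m : ℕ} (h : FH F m) (x y : F) : sg m (x + y) = sg m x + sg m y := by
  have := h.charP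
  have : Fact (Nat.Prime 2) := ⟨Nat.prime_two⟩
  exact add_pow_char_pow x y 2 (m + 1)

theorem FH.sg_sg {m : ℕ} (h : FH F m) (x : F) : sg m (sg m x) = x * x := by
  unfold sg
  rw [← pow_mul, ← pow_add, show m + 1 + (m + 1) = (2 * m + 1) + 1 by ring,
    pow_succ, pow_mul, ← h.card, FiniteField.pow_card, pow_two]

theorem FH.sq_injective {m : ℕ} (h : FH F m) {x y : F} (hxy : x * x = y * y) : x = y := by
  have h1 : (x + y) * (x + y) = 0 := by
    have : (x + y) * (x + y) = x * x + y * y + (x * y + x * y) := by ring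
    rw [this, h.add_self, add_zero, hxy, h.add_self]
  have h2 : x + y = 0 := by
    rcases mul_eq_zero.1 h1 with h2 | h2 <;> exact h2
  exact h.eq_of_add_eq_zero h2

theorem FH.sg_injective {m : ℕ} (h : FH F m) : Function.Injective (sg (F := F) m) := by
  intro x y hxy
  have := congrArg (sg m) hxy
  rw [h.sg_sg, h.sg_sg] at this
  exact h.sq_injective this

theorem FH.sg_surjective {m : ℕ} (h : FH F m) : Function.Surjective (sg (F := F) m) :=
  Finite.surjective_of_injective h.sg_injective

theorem FH.card_ge {m : ℕ} (h : FH F m) : 8 ≤ Fintype.card F := by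
  rw [h.card]
  have h1 := h.hm
  calc 8 = 2 ^ 3 := by norm_num
    _ ≤ 2 ^ (2 * m + 1) := Nat.pow_le_pow_right (by norm_num) (by omega)

/-- There is an element with `σ x ≠ x²`. -/
theorem FH.exists_sg_ne_sq {m : ℕ} (h : FH F m) : ∃ x : F, sg m x ≠ x * x := by
  by_contra hcon
  simp only [not_exists, not_not] at hcon
  -- every element satisfies `x² = x`
  have h1 : ∀ x : F, x * x = x := by
    intro x
    have e1 := h.sg_sg x
    rw [hcon x, hcon (x * x)] at e1
    -- `x⁴ = x²`
    have e2 : (x * x) * (x * x) = x * x := e1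
    by_cases hx : x = 0
    · rw [hx, mul_zero]
    · have hxx : x * x ≠ 0 := mul_ne_zero hx hx
      have e3 : x * x = 1 := by
        have := mul_right_cancel₀ hxx (e2.trans (one_mul _).symm)
        exact this
      have e4 : (x + 1) * (x + 1) = 0 := by
        have : (x + 1) * (x + 1) = x * x + 1 + (x + x) := by ring
        rw [this, h.add_self, add_zero, e3, h.add_self]
      have e5 : x + 1 = 0 := by
        rcases mul_eq_zero.1 e4 with h2 | h2 <;> exact h2
      have e6 : x = 1 := h.eq_of_add_eq_zero e5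
      rw [e6, mul_one]
  have h2 : ∀ x : F, x = 0 ∨ x = 1 := by
    intro x
    have e := h1 x
    by_cases hx : x = 0
    · exact Or.inl hx
    · right
      exact mul_right_cancel₀ hx (e.trans (one_mul _).symm)
  have h3 : Fintype.card F ≤ 2 := by
    classical
    have : (Finset.univ : Finset F) ⊆ {0, 1} := by
      intro x _
      rcases h2 x with e | e
      · rw [e]; simp
      · rw [e]; simp
    calc Fintype.card F = (Finset.univ : Finset F).card := Finset.card_univ.symm
      _ ≤ ({0, 1} : Finset F).card := Finset.card_le_card this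
      _ ≤ 2 := Finset.card_le_two
  have := h.card_ge
  omega

/-- A fixed point of `σ` lies in the prime field. -/
theorem FH.sg_eq_self {m : ℕ} (h : FH F m) {x : F} (hx : sg m x = x) : x = 0 ∨ x = 1 := by
  have e1 := h.sg_sg x
  rw [hx, hx] at e1
  by_cases h0 : x = 0
  · exact Or.inl h0
  · right
    exact (mul_right_cancel₀ h0 (e1.symm.trans (one_mul _).symm))

/-- `k ^ (σ + 1) = 1` forces `k = 1`. -/
theorem FH.eq_one_of_sg_mul_self {m : ℕ} (h : FH F m) {k : F} (hk : sg m k * k = 1) : k = 1 := by
  have hk0 : k ≠ 0 := by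
    intro e
    rw [e, mul_zero] at hk
    exact zero_ne_one hk
  have e1 : sg m k = k⁻¹ := eq_inv_of_mul_eq_one_left hk
  have e2 := h.sg_sg k
  rw [e1, sg_inv, e1, inv_inv] at e2
  -- `k = k * k`
  exact (mul_right_cancel₀ hk0 (e2.symm.trans (one_mul _).symm))

/-- `k ↦ σ k * k` is a bijection of the non-zero elements: every non-zero element is of this form. -/
theorem FH.exists_sg_mul_self {m : ℕ} (h : FH F m) {c : F} (hc : c ≠ 0) :
    ∃ k : F, k ≠ 0 ∧ sg m k * k = c := by
  classical
  let φ : Fˣ →* Fˣ :=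
    { toFun := fun k => Units.mk0 (sg m (k : F) * k) (mul_ne_zero (sg_ne_zero k.ne_zero) k.ne_zero)
      map_one' := by
        apply Units.ext
        simp [sg_one]
      map_mul' := by
        intro a b
        apply Units.ext
        simp only [Units.val_mul, Units.val_mk0, sg_mul]
        ring }
  have hinj : Function.Injective φ := by
    rw [injective_iff_map_eq_one]
    intro k hk
    have : sg m (k : F) * k = 1 := by
      have := congrArg Units.val hk
      simpa [φ] using this
    exact Units.ext (h.eq_one_of_sg_mul_self this)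
  obtain ⟨k, hk⟩ := Finite.surjective_of_injective hinj (Units.mk0 c hc)
  refine ⟨k, k.ne_zero, ?_⟩
  have := congrArg Units.val hk
  simpa [φ] using this

end Cfsg.Agent.Helper7.Sz
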