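import Mathlib
import Cfsg.Prelude.Def_LieExceptional
import Cfsg.Agent.S0326
import Cfsg.Agent.Helper7.SzField

set_option autoImplicit false

/-!
The Suzuki–Tits ovoid and the standard elements of the Suzuki group.
-/

namespace Cfsg.Agent.Helper7.Sz

open Matrix
open scoped Pointwise

variable {F : Type*} [Field F]

/-- The defining function of the ovoid. -/
def ff (m : ℕ) (x y : F) : F := x * y + sg m x * (x * x) + sg m y

/-- The affine vector. -/
def pv (m : ℕ) (x y : F) : Fin 4 → F := ![ff m x y, y, x, 1]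

/-- The vector of the point at infinity. -/
def vinf : Fin 4 → F := ![1, 0, 0, 0]

theorem pv_ne_zero (m : ℕ) (x y : F) : pv m x y ≠ 0 := by
  intro h
  have := congrFun h 3
  simp [pv] at this

theorem vinf_ne_zero : (vinf : Fin 4 → F) ≠ 0 := by
  intro h
  have := congrFun h 0
  simp [vinf] at this

/-- The affine point of the ovoid with parameters `x, y`. -/
def Ppt (m : ℕ) (x y : F) : Projectivization F (Fin 4 → F) :=
  Projectivization.mk F (pv m x y) (pv_ne_zero m x y)

/-- The point at infinity. -/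
def Pinf : Projectivization F (Fin 4 → F) := Projectivization.mk F vinf vinf_ne_zero

theorem Pinf_eq : (Pinf : Projectivization F (Fin 4 → F)) = Cfsg.suzukiPointInfinity F := rfl

theorem pv_zero (m : ℕ) : pv m (0 : F) 0 = ![0, 0, 0, 1] := by
  unfold pv ff
  rw [sg_zero]
  simp

theorem Ppt_zero_eq (m : ℕ) : Ppt m (0 : F) 0 = Cfsg.suzukiPointZero F := by
  unfold Ppt Cfsg.suzukiPointZero
  congr 1
  exact pv_zero m

theorem pv_eq (m : ℕ) (x y : F) :
    pv m x y = ![x * y + x ^ (2 ^ (m + 1) + 2) + y ^ (2 ^ (m + 1)), y, x, 1] := by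
  unfold pv ff sg
  rw [pow_add x (2 ^ (m + 1)) 2, pow_two]

theorem mem_ovoid_iff (m : ℕ) (p : Projectivization F (Fin 4 → F)) :
    p ∈ Cfsg.suzukiOvoid F m ↔ p = Pinf ∨ ∃ x y : F, p = Ppt m x y := by
  constructor
  · rintro ⟨v, hv, rfl, h | ⟨x, y, h⟩⟩
    · subst h
      exact Or.inl rfl
    · subst h
      right
      refine ⟨x, y, ?_⟩
      unfold Ppt
      congr 1
      rw [pv_eq]
  · rintro (rfl | ⟨x, y, rfl⟩)
    · exact ⟨vinf, vinf_ne_zero, rfl, Or.inl rfl⟩
    · exact ⟨pv m x y, pv_ne_zero m x y, rfl, Or.inr ⟨x, y, pv_eq m x y⟩⟩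

theorem Pinf_mem (m : ℕ) : (Pinf : Projectivization F (Fin 4 → F)) ∈ Cfsg.suzukiOvoid F m :=
  (mem_ovoid_iff m _).2 (Or.inl rfl)

theorem Ppt_mem (m : ℕ) (x y : F) : Ppt m x y ∈ Cfsg.suzukiOvoid F m :=
  (mem_ovoid_iff m _).2 (Or.inr ⟨x, y, rfl⟩)

theorem Ppt_ne_Pinf (m : ℕ) (x y : F) : Ppt m x y ≠ Pinf := by
  intro h
  unfold Ppt Pinf at h
  rw [Projectivization.mk_eq_mk_iff'] at h
  obtain ⟨a, ha⟩ := h
  have := congrFun ha 3
  simp [pv, vinf] at this

theorem Ppt_injective (m : ℕ) {x y x' y' : F} (h : Ppt m x y = Ppt m x' y') :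
    x = x' ∧ y = y' := by
  unfold Ppt at h
  rw [Projectivization.mk_eq_mk_iff'] at h
  obtain ⟨a, ha⟩ := h
  have h3 := congrFun ha 3
  have h2 := congrFun ha 2
  have h1 := congrFun ha 1
  simp [pv] at h3 h2 h1
  subst h3
  simp at h2 h1
  exact ⟨h2.symm, h1.symm⟩

theorem ovoid_finite [Fintype F] (m : ℕ) : (Cfsg.suzukiOvoid F m).Finite := by
  rw [← Cfsg.Agent.S0326.range_param]
  exact Set.finite_range _

/-- How the special linear group acts on a point. -/
theorem smul_mk_eq (g : Matrix.SpecialLinearGroup (Fin 4) F) {v w : Fin 4 → F} (hv : v ≠ 0)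
    (hw : w ≠ 0) (c : F) (h : (g : Matrix (Fin 4) (Fin 4) F) *ᵥ v = c • w) :
    g • Projectivization.mk F v hv = Projectivization.mk F w hw := by
  rw [Projectivization.smul_mk, Projectivization.mk_eq_mk_iff']
  exact ⟨c, h.symm⟩

/-- The vector of a translate is proportional to the image vector. -/
theorem smul_mk_eq_iff (g : Matrix.SpecialLinearGroup (Fin 4) F) {v w : Fin 4 → F} (hv : v ≠ 0)
    (hw : w ≠ 0) :
    g • Projectivization.mk F v hv = Projectivization.mk F w hw ↔
      ∃ c : F, (g : Matrix (Fin 4) (Fin 4) F) *ᵥ v = c • w := by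
  rw [Projectivization.smul_mk, Projectivization.mk_eq_mk_iff']
  constructor
  · rintro ⟨c, h⟩
    exact ⟨c, h.symm⟩
  · rintro ⟨c, h⟩
    exact ⟨c, h.symm⟩

section ffacts

variable [Fintype F] {m : ℕ}

theorem ff_eq_zero (h : FH F m) {x y : F} : ff m x y = 0 ↔ x = 0 ∧ y = 0 := by
  constructor
  · intro hf
    by_cases hx : x = 0
    · subst hx
      unfold ff at hf
      rw [zero_mul, mul_zero, mul_zero, zero_add, zero_add] at hf
      exact ⟨rfl, sg_eq_zero.1 hf⟩
    · exfalso
      have hu : sg m x * x ≠ 0 := mul_ne_zero (sg_ne_zero hx) hx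
      set t : F := y / (sg m x * x) with ht
      have hy : y = sg m x * x * t := by
        rw [ht, mul_div_cancel₀ _ hu]
      have e1 : ff m x y = sg m x * (x * x) * (t + 1 + sg m t) := by
        unfold ff
        rw [hy, sg_mul, sg_mul, h.sg_sg]
        ring
      rw [e1] at hf
      have hne : sg m x * (x * x) ≠ 0 := mul_ne_zero (sg_ne_zero hx) (mul_ne_zero hx hx)
      have e2 : t + 1 + sg m t = 0 := by
        rcases mul_eq_zero.1 hf with h1 | h1
        · exact absurd h1 hne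
        · exact h1
      have e3 : sg m t + 1 + t * t = 0 := by
        have := congrArg (sg m) e2
        rw [h.sg_add, h.sg_add, sg_one, h.sg_sg, sg_zero] at this
        exact this
      have e4 : t * (t + 1) = 0 := by
        have : t * (t + 1) = (t + 1 + sg m t) + (sg m t + 1 + t * t) - 2 * (1 + sg m t) := by ring
        rw [this, e2, e3, h.two_eq_zero]
        ring
      rcases mul_eq_zero.1 e4 with h0 | h1
      · rw [h0, sg_zero, zero_add, add_zero] at e2
        exact one_ne_zero e2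
      · have ht1 : t = 1 := h.eq_of_add_eq_zero h1
        rw [ht1, sg_one, h.add_self, zero_add] at e2
        exact one_ne_zero e2
  · rintro ⟨rfl, rfl⟩
    unfold ff
    rw [sg_zero]
    ring

theorem ff_translate (h : FH F m) (a b x y : F) :
    ff m (x + a) (y + b + sg m a * x) =
      ff m x y + a * y + (b + a * sg m a) * x + (a * b + sg m a * (a * a) + sg m b) := by
  unfold ff
  rw [h.sg_add, h.sg_add, h.sg_add, sg_mul, h.sg_sg]
  linear_combination (sg m a * (x * x) + a * x * sg m x + a * a * sg m x + a * x * sg m a) *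
    h.two_eq_zero

theorem ff_scale (h : FH F m) (t x y : F) :
    ff m (sg m t * x) (sg m t * (t * t) * y) = (t * sg m t) * (t * sg m t) * ff m x y := by
  unfold ff
  rw [sg_mul, sg_mul, sg_mul, sg_mul, h.sg_sg]
  ring

theorem ff_invert (h : FH F m) {x y : F} (hf : ff m x y ≠ 0) :
    ff m x y * ff m (y / ff m x y) (x / ff m x y) = 1 := by
  have hsf : sg m (ff m x y) ≠ 0 := sg_ne_zero hf
  have e1 : sg m (ff m x y) = sg m x * sg m y + (x * x) * (sg m x * sg m x) + y * y := by
    unfold ff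
    rw [h.sg_add, h.sg_add, sg_mul, sg_mul, sg_mul, h.sg_sg, h.sg_sg]
  have key : x * y * sg m (ff m x y) + sg m y * (y * y) + sg m x * (ff m x y * ff m x y) =
      sg m (ff m x y) * ff m x y := by
    rw [e1]
    unfold ff
    linear_combination (sg m x * sg m y * x * y + sg m x ^ 2 * x ^ 3 * y) * h.two_eq_zero
  set f := ff m x y with hfdef
  have e2 : ff m (y / f) (x / f) =
      (x * y * sg m f + sg m y * (y * y) + sg m x * (f * f)) / (sg m f * (f * f)) := by
    unfold ff
    rw [div_eq_mul_inv, div_eq_mul_inv, sg_mul, sg_mul, sg_inv]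
    field_simp
  rw [e2, key]
  field_simp

end ffacts

/-! ### The matrices -/

/-- The translation matrices. -/
def Tmat (m : ℕ) (a b : F) : Matrix (Fin 4) (Fin 4) F :=
  !![1, a, b + a * sg m a, a * b + sg m a * (a * a) + sg m b;
     0, 1, sg m a, b;
     0, 0, 1, a;
     0, 0, 0, 1]

/-- The diagonal matrices. -/
def Hmat (m : ℕ) (t : F) : Matrix (Fin 4) (Fin 4) F :=
  !![t * sg m t, 0, 0, 0;
     0, t, 0, 0;
     0, 0, t⁻¹, 0;
     0, 0, 0, (t * sg m t)⁻¹]

/-- The antidiagonal matrix. -/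
def Wmat : Matrix (Fin 4) (Fin 4) F :=
  !![0, 0, 0, 1;
     0, 0, 1, 0;
     0, 1, 0, 0;
     1, 0, 0, 0]

theorem det_Tmat (m : ℕ) (a b : F) : (Tmat m a b).det = 1 := by
  unfold Tmat
  rw [Matrix.det_of_isUpperTriangular]
  · simp [Fin.prod_univ_succ]
  · intro i j hij
    fin_cases i <;> fin_cases j <;> simp at hij ⊢

theorem det_Hmat (m : ℕ) {t : F} (ht : t ≠ 0) : (Hmat m t).det = 1 := by
  unfold Hmat
  rw [Matrix.det_of_isUpperTriangular]
  · simp only [Fin.prod_univ_succ, Matrix.of_apply, Matrix.cons_val_zero, Matrix.cons_val_succ,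
      Fin.prod_univ_zero, mul_one]
    have : sg m t ≠ 0 := sg_ne_zero ht
    simp
    field_simp
  · intro i j hij
    fin_cases i <;> fin_cases j <;> simp at hij ⊢

theorem det_Wmat : (Wmat : Matrix (Fin 4) (Fin 4) F).det = 1 := by
  unfold Wmat
  simp [Matrix.det_succ_row_zero, Fin.sum_univ_succ, Fin.succAbove]
  norm_num

/-- The translation `T(a, b)`. -/
def Tel (m : ℕ) (a b : F) : Matrix.SpecialLinearGroup (Fin 4) F := ⟨Tmat m a b, det_Tmat m a b⟩

/-- The torus element `h(t)`. -/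
def Hel (m : ℕ) (t : F) (ht : t ≠ 0) : Matrix.SpecialLinearGroup (Fin 4) F :=
  ⟨Hmat m t, det_Hmat m ht⟩

/-- The Weyl element `w`. -/
def Wel : Matrix.SpecialLinearGroup (Fin 4) F := ⟨Wmat, det_Wmat⟩

/-! ### Their action on the vectors of the ovoid -/

section actions

set_option linter.unusedSectionVars false

variable [Fintype F] {m : ℕ}

theorem Tmat_mulVec_vinf (a b : F) : Tmat m a b *ᵥ vinf = vinf := by
  ext i
  fin_cases i <;> simp [Tmat, vinf, Matrix.mulVec, dotProduct, Fin.sum_univ_four]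

theorem Tmat_mulVec_pv (h : FH F m) (a b x y : F) :
    Tmat m a b *ᵥ pv m x y = pv m (x + a) (y + b + sg m a * x) := by
  ext i
  fin_cases i
  · show (Tmat m a b *ᵥ pv m x y) 0 = ff m (x + a) (y + b + sg m a * x)
    rw [ff_translate h]
    simp [Tmat, pv, Matrix.mulVec, dotProduct, Fin.sum_univ_four]
  · simp [Tmat, pv, Matrix.mulVec, dotProduct, Fin.sum_univ_four]
    ring
  · simp [Tmat, pv, Matrix.mulVec, dotProduct, Fin.sum_univ_four]
  · simp [Tmat, pv, Matrix.mulVec, dotProduct, Fin.sum_univ_four]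

theorem Hmat_mulVec_vinf (t : F) : Hmat m t *ᵥ vinf = (t * sg m t) • vinf := by
  ext i
  fin_cases i <;> simp [Hmat, vinf, Matrix.mulVec, dotProduct, Fin.sum_univ_four]

theorem Hmat_mulVec_pv (h : FH F m) {t : F} (ht : t ≠ 0) (x y : F) :
    Hmat m t *ᵥ pv m x y = (t * sg m t)⁻¹ • pv m (sg m t * x) (sg m t * (t * t) * y) := by
  have hs : sg m t ≠ 0 := sg_ne_zero ht
  ext i
  fin_cases i
  · show (Hmat m t *ᵥ pv m x y) 0 = ((t * sg m t)⁻¹ • pv m (sg m t * x) (sg m t * (t * t) * y)) 0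
    simp only [pv, Pi.smul_apply, Matrix.cons_val_zero, smul_eq_mul]
    rw [ff_scale h]
    simp [Hmat, Matrix.mulVec, dotProduct, Fin.sum_univ_four]
    field_simp
  · simp [Hmat, pv, Matrix.mulVec, dotProduct, Fin.sum_univ_four]
    field_simp
  · simp [Hmat, pv, Matrix.mulVec, dotProduct, Fin.sum_univ_four]
    field_simp
  · simp [Hmat, pv, Matrix.mulVec, dotProduct, Fin.sum_univ_four]

theorem Wmat_mulVec_vinf : (Wmat : Matrix (Fin 4) (Fin 4) F) *ᵥ vinf = pv m 0 0 := by
  rw [pv_zero]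
  ext i
  fin_cases i <;> simp [Wmat, vinf, Matrix.mulVec, dotProduct, Fin.sum_univ_four]

theorem Wmat_mulVec_pv_zero : (Wmat : Matrix (Fin 4) (Fin 4) F) *ᵥ pv m 0 0 = vinf := by
  rw [pv_zero]
  ext i
  fin_cases i <;> simp [Wmat, vinf, Matrix.mulVec, dotProduct, Fin.sum_univ_four]

theorem Wmat_mulVec_pv (h : FH F m) {x y : F} (hf : ff m x y ≠ 0) :
    (Wmat : Matrix (Fin 4) (Fin 4) F) *ᵥ pv m x y =
      ff m x y • pv m (y / ff m x y) (x / ff m x y) := by
  ext i
  fin_cases i
  · show ((Wmat : Matrix (Fin 4) (Fin 4) F) *ᵥ pv m x y) 0 =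
      (ff m x y • pv m (y / ff m x y) (x / ff m x y)) 0
    simp only [pv, Pi.smul_apply, Matrix.cons_val_zero, smul_eq_mul]
    rw [ff_invert h hf]
    simp [Wmat, Matrix.mulVec, dotProduct, Fin.sum_univ_four]
  · simp [Wmat, pv, Matrix.mulVec, dotProduct, Fin.sum_univ_four]
    field_simp
  · simp [Wmat, pv, Matrix.mulVec, dotProduct, Fin.sum_univ_four]
    field_simp
  · simp [Wmat, pv, Matrix.mulVec, dotProduct, Fin.sum_univ_four]

end actions

end Cfsg.Agent.Helper7.Sz
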