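import Mathlib
import Cfsg.Agent.Helper7.SzElts

set_option autoImplicit false

/-!
The standard elements of the Suzuki group act on the ovoid; double transitivity.
-/

namespace Cfsg.Agent.Helper7.Sz

open Matrix
open scoped Pointwise

variable {F : Type*} [Field F] [Fintype F] {m : ℕ}

theorem Tel_smul_Pinf (a b : F) : Tel m a b • (Pinf : Projectivization F (Fin 4 → F)) = Pinf :=
  smul_mk_eq _ _ _ (1 : F) (by rw [one_smul]; exact Tmat_mulVec_vinf a b)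

theorem Tel_smul_Ppt (h : FH F m) (a b x y : F) :
    Tel m a b • Ppt m x y = Ppt m (x + a) (y + b + sg m a * x) :=
  smul_mk_eq _ _ _ (1 : F) (by rw [one_smul]; exact Tmat_mulVec_pv h a b x y)

theorem Hel_smul_Pinf {t : F} (ht : t ≠ 0) :
    Hel m t ht • (Pinf : Projectivization F (Fin 4 → F)) = Pinf :=
  smul_mk_eq _ _ _ (t * sg m t) (Hmat_mulVec_vinf t)

theorem Hel_smul_Ppt (h : FH F m) {t : F} (ht : t ≠ 0) (x y : F) :
    Hel m t ht • Ppt m x y = Ppt m (sg m t * x) (sg m t * (t * t) * y) :=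
  smul_mk_eq _ _ _ (t * sg m t)⁻¹ (Hmat_mulVec_pv h ht x y)

theorem Wel_smul_Pinf : (Wel : Matrix.SpecialLinearGroup (Fin 4) F) • Pinf = Ppt m (0 : F) 0 :=
  smul_mk_eq _ _ _ (1 : F) (by rw [one_smul]; exact Wmat_mulVec_vinf)

theorem Wel_smul_Ppt_zero : (Wel : Matrix.SpecialLinearGroup (Fin 4) F) • Ppt m (0 : F) 0 = Pinf :=
  smul_mk_eq _ _ _ (1 : F) (by rw [one_smul]; exact Wmat_mulVec_pv_zero)

theorem Wel_smul_Ppt (h : FH F m) {x y : F} (hf : ff m x y ≠ 0) :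
    (Wel : Matrix.SpecialLinearGroup (Fin 4) F) • Ppt m x y =
      Ppt m (y / ff m x y) (x / ff m x y) :=
  smul_mk_eq _ _ _ (ff m x y) (Wmat_mulVec_pv h hf)

theorem Tel_mem (h : FH F m) (a b : F) : Tel m a b ∈ Cfsg.Sz F m := by
  rw [MulAction.mem_stabilizer_set' (ovoid_finite m)]
  intro p hp
  rcases (mem_ovoid_iff m p).1 hp with rfl | ⟨x, y, rfl⟩
  · rw [Tel_smul_Pinf]
    exact Pinf_mem m
  · rw [Tel_smul_Ppt h]
    exact Ppt_mem m _ _

theorem Hel_mem (h : FH F m) {t : F} (ht : t ≠ 0) : Hel m t ht ∈ Cfsg.Sz F m := by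
  rw [MulAction.mem_stabilizer_set' (ovoid_finite m)]
  intro p hp
  rcases (mem_ovoid_iff m p).1 hp with rfl | ⟨x, y, rfl⟩
  · rw [Hel_smul_Pinf]
    exact Pinf_mem m
  · rw [Hel_smul_Ppt h]
    exact Ppt_mem m _ _

theorem Wel_mem (h : FH F m) : (Wel : Matrix.SpecialLinearGroup (Fin 4) F) ∈ Cfsg.Sz F m := by
  rw [MulAction.mem_stabilizer_set' (ovoid_finite m)]
  intro p hp
  rcases (mem_ovoid_iff m p).1 hp with rfl | ⟨x, y, rfl⟩
  · rw [Wel_smul_Pinf (m := m)]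
    exact Ppt_mem m _ _
  · by_cases hf : ff m x y = 0
    · obtain ⟨rfl, rfl⟩ := (ff_eq_zero h).1 hf
      rw [Wel_smul_Ppt_zero]
      exact Pinf_mem m
    · rw [Wel_smul_Ppt h hf]
      exact Ppt_mem m _ _

/-- Elements of the Suzuki group map the ovoid to itself. -/
theorem smul_mem_ovoid {g : Matrix.SpecialLinearGroup (Fin 4) F} (hg : g ∈ Cfsg.Sz F m)
    {p : Projectivization F (Fin 4 → F)} (hp : p ∈ Cfsg.suzukiOvoid F m) :
    g • p ∈ Cfsg.suzukiOvoid F m :=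
  (MulAction.mem_stabilizer_set' (ovoid_finite m)).1 hg hp

/-- Transitivity on the ovoid. -/
theorem exists_smul_Pinf_eq (h : FH F m) {p : Projectivization F (Fin 4 → F)}
    (hp : p ∈ Cfsg.suzukiOvoid F m) : ∃ g ∈ Cfsg.Sz F m, g • Pinf = p := by
  rcases (mem_ovoid_iff m p).1 hp with rfl | ⟨x, y, rfl⟩
  · exact ⟨1, Subgroup.one_mem _, one_smul _ _⟩
  · refine ⟨Tel m x y * Wel, Subgroup.mul_mem _ (Tel_mem h x y) (Wel_mem h), ?_⟩
    rw [mul_smul, Wel_smul_Pinf (m := m), Tel_smul_Ppt h]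
    congr 1
    · rw [zero_add]
    · rw [mul_zero, add_zero, zero_add]

/-- Double transitivity on the ovoid. -/
theorem exists_smul_pair (h : FH F m) {p p' : Projectivization F (Fin 4 → F)}
    (hp : p ∈ Cfsg.suzukiOvoid F m) (hp' : p' ∈ Cfsg.suzukiOvoid F m) (hne : p ≠ p') :
    ∃ g ∈ Cfsg.Sz F m, g • Pinf = p ∧ g • Ppt m 0 0 = p' := by
  obtain ⟨g₁, hg₁, hg₁p⟩ := exists_smul_Pinf_eq h hp
  have hq : g₁⁻¹ • p' ∈ Cfsg.suzukiOvoid F m := smul_mem_ovoid (Subgroup.inv_mem _ hg₁) hp'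
  rcases (mem_ovoid_iff m _).1 hq with e | ⟨x, y, e⟩
  · exfalso
    apply hne
    rw [← hg₁p, ← e, smul_inv_smul]
  · refine ⟨g₁ * Tel m x y, Subgroup.mul_mem _ hg₁ (Tel_mem h x y), ?_, ?_⟩
    · rw [mul_smul, Tel_smul_Pinf, hg₁p]
    · rw [mul_smul, Tel_smul_Ppt h, mul_zero, add_zero, zero_add, zero_add, ← e, smul_inv_smul]

end Cfsg.Agent.Helper7.Sz
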