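import Mathlib
import Cfsg.Agent.Helper7.SzAct

set_option autoImplicit false

/-!
The stabiliser of two points of the Suzuki–Tits ovoid consists of the diagonal elements `h(t)`.
-/

namespace Cfsg.Agent.Helper7.Sz

open Matrix
open scoped Pointwise

variable {F : Type*} [Field F] [Fintype F] {m : ℕ}

/-- A functional equation. -/
theorem fe (h : FH F m) {A B C : F}
    (hfe : ∀ x : F, A * (x * x) + B * sg m x + C * (sg m x * (x * x)) = 0) :
    A = 0 ∧ B = 0 ∧ C = 0 := by
  obtain ⟨x₀, hx₀⟩ := h.exists_sg_ne_sq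
  have hx₀' : sg m x₀ + x₀ * x₀ ≠ 0 := fun e => hx₀ (h.eq_of_add_eq_zero e)
  have e3 := hfe 1
  rw [sg_one] at e3
  have hC : C = 0 := by
    have e1 := hfe x₀
    have e2 := hfe (x₀ + 1)
    rw [h.sg_add, sg_one] at e2
    have : C * (sg m x₀ + x₀ * x₀) = 0 := by
      linear_combination e2 - e1 - e3 + (-(A * x₀ + C * sg m x₀ * x₀ + C * x₀)) * h.two_eq_zero
    rcases mul_eq_zero.1 this with e | e
    · exact e
    · exact absurd e hx₀'
  subst hC
  have hAB : A = B := by
    apply h.eq_of_add_eq_zero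
    linear_combination e3
  subst hAB
  have hA : A = 0 := by
    have e1 := hfe x₀
    have : A * (sg m x₀ + x₀ * x₀) = 0 := by linear_combination e1
    rcases mul_eq_zero.1 this with e | e
    · exact e
    · exact absurd e hx₀'
  exact ⟨hA, hA, rfl⟩

omit [Fintype F] in
theorem mulVec_ne_zero (g : Matrix.SpecialLinearGroup (Fin 4) F) {v : Fin 4 → F} (hv : v ≠ 0) :
    (g : Matrix (Fin 4) (Fin 4) F) *ᵥ v ≠ 0 := by
  have hinj : Function.Injective (g : Matrix (Fin 4) (Fin 4) F).mulVec := by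
    rw [Matrix.mulVec_injective_iff_isUnit, Matrix.isUnit_iff_isUnit_det, g.2]
    exact isUnit_one
  intro e
  apply hv
  apply hinj
  rw [e, Matrix.mulVec_zero]

/-- An element fixing the point at infinity maps affine vectors to multiples of affine vectors. -/
theorem exists_image {g : Matrix.SpecialLinearGroup (Fin 4) F}
    (hg : g ∈ Cfsg.Sz F m) (hinf : g • (Pinf : Projectivization F (Fin 4 → F)) = Pinf) (x y : F) :
    ∃ c x' y' : F, c ≠ 0 ∧ (g : Matrix (Fin 4) (Fin 4) F) *ᵥ pv m x y = c • pv m x' y' := by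
  have hq : g • Ppt m x y ∈ Cfsg.suzukiOvoid F m := smul_mem_ovoid hg (Ppt_mem m x y)
  rcases (mem_ovoid_iff m _).1 hq with e | ⟨x', y', e⟩
  · exfalso
    apply Ppt_ne_Pinf m x y
    have : g • Ppt m x y = g • Pinf := by rw [e, hinf]
    exact smul_left_cancel _ this
  · obtain ⟨c, hc⟩ := (smul_mk_eq_iff g (pv_ne_zero m x y) (pv_ne_zero m x' y')).1 e
    refine ⟨c, x', y', ?_, hc⟩
    intro hc0
    rw [hc0, zero_smul] at hc
    exact mulVec_ne_zero g (pv_ne_zero m x y) hc

omit [Fintype F] in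
theorem mulVec_pv_apply (M : Matrix (Fin 4) (Fin 4) F) (x y : F) (i : Fin 4) :
    (M *ᵥ pv m x y) i = M i 0 * ff m x y + M i 1 * y + M i 2 * x + M i 3 := by
  simp [Matrix.mulVec, dotProduct, Fin.sum_univ_four, pv]

omit [Fintype F] in
theorem mulVec_vinf_apply (M : Matrix (Fin 4) (Fin 4) F) (i : Fin 4) :
    (M *ᵥ vinf) i = M i 0 := by
  simp [Matrix.mulVec, dotProduct, Fin.sum_univ_four, vinf]

/-- The first column and last row of an element fixing the point at infinity. -/
theorem row_three (h : FH F m) {g : Matrix.SpecialLinearGroup (Fin 4) F}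
    (hg : g ∈ Cfsg.Sz F m) (hinf : g • (Pinf : Projectivization F (Fin 4 → F)) = Pinf) :
    (g : Matrix (Fin 4) (Fin 4) F) 1 0 = 0 ∧ (g : Matrix (Fin 4) (Fin 4) F) 2 0 = 0 ∧
      (g : Matrix (Fin 4) (Fin 4) F) 3 0 = 0 ∧ (g : Matrix (Fin 4) (Fin 4) F) 3 1 = 0 ∧
      (g : Matrix (Fin 4) (Fin 4) F) 3 2 = 0 := by
  set M : Matrix (Fin 4) (Fin 4) F := (g : Matrix (Fin 4) (Fin 4) F) with hM
  obtain ⟨c, hc⟩ := (smul_mk_eq_iff g vinf_ne_zero vinf_ne_zero).1 hinf
  have hcol : ∀ i, M i 0 = c * (vinf : Fin 4 → F) i := by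
    intro i
    have := congrFun hc i
    rw [mulVec_vinf_apply] at this
    exact this
  have h10 : M 1 0 = 0 := by rw [hcol]; simp [vinf]
  have h20 : M 2 0 = 0 := by rw [hcol]; simp [vinf]
  have h30 : M 3 0 = 0 := by rw [hcol]; simp [vinf]
  have hne : ∀ x y : F, M 3 1 * y + M 3 2 * x + M 3 3 ≠ 0 := by
    intro x y
    obtain ⟨c', x', y', hc', e⟩ := exists_image hg hinf x y
    have e3 := congrFun e 3
    rw [mulVec_pv_apply, ← hM, h30] at e3
    simp [pv] at e3
    rw [e3]
    exact hc'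
  have h33 : M 3 3 ≠ 0 := by
    have := hne 0 0
    rwa [mul_zero, mul_zero, zero_add, zero_add] at this
  have h31 : M 3 1 = 0 := by
    by_contra hcon
    apply hne 0 (M 3 3 / M 3 1)
    rw [mul_div_cancel₀ _ hcon, mul_zero, add_zero, h.add_self]
  have h32 : M 3 2 = 0 := by
    by_contra hcon
    apply hne (M 3 3 / M 3 2) 0
    rw [mul_div_cancel₀ _ hcon, mul_zero, zero_add, h.add_self]
  exact ⟨h10, h20, h30, h31, h32⟩

omit [Fintype F] in
theorem Wmat_mul_Wmat : (Wmat : Matrix (Fin 4) (Fin 4) F) * Wmat = 1 := by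
  ext i j
  fin_cases i <;> fin_cases j <;> simp [Wmat, Matrix.mul_apply, Fin.sum_univ_four]

omit [Fintype F] in
theorem Wel_mul_Wel : (Wel : Matrix.SpecialLinearGroup (Fin 4) F) * Wel = 1 := by
  apply Subtype.ext
  exact Wmat_mul_Wmat

omit [Fintype F] in
theorem Wmat_conj_apply (M : Matrix (Fin 4) (Fin 4) F) (i j : Fin 4) :
    ((Wmat * M * Wmat : Matrix (Fin 4) (Fin 4) F)) i j = M (Fin.rev i) (Fin.rev j) := by
  fin_cases i <;> fin_cases j <;>
    simp [Wmat, Matrix.mul_apply, Fin.sum_univ_four, Fin.rev, Matrix.vecMul, dotProduct]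

/-- The shape of an element fixing both base points. -/
theorem shape (h : FH F m) {g : Matrix.SpecialLinearGroup (Fin 4) F}
    (hg : g ∈ Cfsg.Sz F m) (hinf : g • (Pinf : Projectivization F (Fin 4 → F)) = Pinf)
    (hzero : g • Ppt m (0 : F) 0 = Ppt m 0 0) :
    ∀ i j : Fin 4, (i = 0 ∨ i = 3 ∨ j = 0 ∨ j = 3) → i ≠ j →
      (g : Matrix (Fin 4) (Fin 4) F) i j = 0 := by
  obtain ⟨h10, h20, h30, h31, h32⟩ := row_three h hg hinf
  have hg' : Wel * g * Wel ∈ Cfsg.Sz F m :=
    Subgroup.mul_mem _ (Subgroup.mul_mem _ (Wel_mem h) hg) (Wel_mem h)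
  have hinf' : (Wel * g * Wel) • (Pinf : Projectivization F (Fin 4 → F)) = Pinf := by
    rw [mul_smul, mul_smul, Wel_smul_Pinf (m := m), hzero, Wel_smul_Ppt_zero]
  obtain ⟨k10, k20, k30, k31, k32⟩ := row_three h hg' hinf'
  have hcoe : ((Wel * g * Wel : Matrix.SpecialLinearGroup (Fin 4) F) :
      Matrix (Fin 4) (Fin 4) F) = Wmat * (g : Matrix (Fin 4) (Fin 4) F) * Wmat := rfl
  rw [hcoe, Wmat_conj_apply] at k10 k20 k30 k31 k32
  have r1 : Fin.rev (1 : Fin 4) = 2 := rfl
  have r2 : Fin.rev (2 : Fin 4) = 1 := rfl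
  have r3 : Fin.rev (3 : Fin 4) = 0 := rfl
  have r0 : Fin.rev (0 : Fin 4) = 3 := rfl
  rw [r1, r0] at k10
  rw [r2, r0] at k20
  rw [r3, r0] at k30
  rw [r3, r1] at k31
  rw [r3, r2] at k32
  intro i j hij hne
  fin_cases i <;> fin_cases j <;> simp at hij hne ⊢ <;> assumption

theorem pow_four_eq_one (h : FH F m) {z : F} (hz : z * z * (z * z) = 1) : z = 1 := by
  have h1 : z * z = 1 := h.sq_injective (by rw [hz, one_mul])
  exact h.sq_injective (by rw [h1, one_mul])

/-- An element of the Suzuki group fixing both base points is a diagonal element `h(t)`. -/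
theorem eq_Hel (h : FH F m) {g : Matrix.SpecialLinearGroup (Fin 4) F}
    (hg : g ∈ Cfsg.Sz F m) (hinf : g • (Pinf : Projectivization F (Fin 4 → F)) = Pinf)
    (hzero : g • Ppt m (0 : F) 0 = Ppt m 0 0) : ∃ t : F, ∃ ht : t ≠ 0, g = Hel m t ht := by
  have hs := shape h hg hinf hzero
  set M : Matrix (Fin 4) (Fin 4) F := (g : Matrix (Fin 4) (Fin 4) F) with hM
  set lam := M 0 0 with hlam
  set a := M 1 1 with ha
  set b := M 1 2 with hb
  set c := M 2 1 with hc
  set d := M 2 2 with hd
  set mu := M 3 3 with hmu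
  have z01 : M 0 1 = 0 := hs 0 1 (Or.inl rfl) (by decide)
  have z02 : M 0 2 = 0 := hs 0 2 (Or.inl rfl) (by decide)
  have z03 : M 0 3 = 0 := hs 0 3 (Or.inl rfl) (by decide)
  have z10 : M 1 0 = 0 := hs 1 0 (Or.inr (Or.inr (Or.inl rfl))) (by decide)
  have z13 : M 1 3 = 0 := hs 1 3 (Or.inr (Or.inr (Or.inr rfl))) (by decide)
  have z20 : M 2 0 = 0 := hs 2 0 (Or.inr (Or.inr (Or.inl rfl))) (by decide)
  have z23 : M 2 3 = 0 := hs 2 3 (Or.inr (Or.inr (Or.inr rfl))) (by decide)
  have z30 : M 3 0 = 0 := hs 3 0 (Or.inr (Or.inl rfl)) (by decide)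
  have z31 : M 3 1 = 0 := hs 3 1 (Or.inr (Or.inl rfl)) (by decide)
  have z32 : M 3 2 = 0 := hs 3 2 (Or.inr (Or.inl rfl)) (by decide)
  -- the images
  have himg : ∀ x y : F, mu ≠ 0 ∧
      lam * ff m x y = mu * ff m ((c * y + d * x) / mu) ((a * y + b * x) / mu) := by
    intro x y
    obtain ⟨c', x', y', hc', e⟩ := exists_image hg hinf x y
    have e0 := congrFun e 0
    have e1 := congrFun e 1
    have e2 := congrFun e 2
    have e3 := congrFun e 3
    rw [mulVec_pv_apply, ← hM] at e0 e1 e2 e3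
    rw [z01, z02, z03] at e0
    rw [z10, z13] at e1
    rw [z20, z23] at e2
    rw [z30, z31, z32] at e3
    simp [pv] at e0 e1 e2 e3
    rw [← hmu] at e3
    rw [← hlam] at e0
    rw [← ha, ← hb] at e1
    rw [← hc, ← hd] at e2
    have hmu0 : mu ≠ 0 := by rw [e3]; exact hc'
    refine ⟨hmu0, ?_⟩
    have hx' : (c * y + d * x) / mu = x' := by
      rw [e2, e3]
      field_simp
    have hy' : (a * y + b * x) / mu = y' := by
      rw [e1, e3]
      field_simp
    rw [hx', hy', e0, e3]
  have hmu0 : mu ≠ 0 := (himg 0 0).1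
  have key := fun x y => (himg x y).2
  -- `lam ≠ 0`
  have hlam0 : lam ≠ 0 := by
    intro e0
    apply mulVec_ne_zero g (vinf_ne_zero (F := F))
    ext i
    rw [mulVec_vinf_apply, ← hM]
    fin_cases i
    · exact e0
    · exact z10
    · exact z20
    · exact z30
  set rho := lam / mu with hrho
  set del := d / mu with hdel
  set bet := b / mu with hbet
  set gam := c / mu with hgam
  set alp := a / mu with halp
  have hrho0 : rho ≠ 0 := div_ne_zero hlam0 hmu0
  -- `y = 0`
  have fe1 : ∀ x : F, (del * bet) * (x * x) + sg m bet * sg m x +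
      (sg m del * (del * del) - rho) * (sg m x * (x * x)) = 0 := by
    intro x
    have k := key x 0
    rw [mul_zero, mul_zero, zero_add, zero_add] at k
    have e1 : d * x / mu = del * x := by rw [hdel]; ring
    have e2 : b * x / mu = bet * x := by rw [hbet]; ring
    rw [e1, e2] at k
    have k' : rho * ff m x 0 = ff m (del * x) (bet * x) := by
      rw [hrho, div_mul_eq_mul_div, k, mul_div_cancel_left₀ _ hmu0]
    unfold ff at k'
    rw [sg_mul, sg_mul, sg_zero] at k'
    linear_combination -k'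
  obtain ⟨hA1, hB1, hC1⟩ := fe h fe1
  have hbet0 : bet = 0 := sg_eq_zero.1 hB1
  have hb0 : b = 0 := by
    rw [hbet, div_eq_zero_iff] at hbet0
    rcases hbet0 with e | e
    · exact e
    · exact absurd e hmu0
  -- `x = 0`
  have fe2 : ∀ y : F, (gam * alp) * (y * y) + (sg m alp - rho) * sg m y +
      (sg m gam * (gam * gam)) * (sg m y * (y * y)) = 0 := by
    intro y
    have k := key 0 y
    rw [mul_zero, mul_zero, add_zero, add_zero] at k
    have e1 : c * y / mu = gam * y := by rw [hgam]; ring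
    have e2 : a * y / mu = alp * y := by rw [halp]; ring
    rw [e1, e2] at k
    have k' : rho * ff m 0 y = ff m (gam * y) (alp * y) := by
      rw [hrho, div_mul_eq_mul_div, k, mul_div_cancel_left₀ _ hmu0]
    unfold ff at k'
    rw [sg_mul, sg_mul, sg_zero] at k'
    linear_combination -k'
  obtain ⟨hA2, hB2, hC2⟩ := fe h fe2
  have hgam0 : gam = 0 := by
    rcases mul_eq_zero.1 hC2 with e | e
    · exact sg_eq_zero.1 e
    · rcases mul_eq_zero.1 e with e' | e' <;> exact e'
  have hc0 : c = 0 := by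
    rw [hgam, div_eq_zero_iff] at hgam0
    rcases hgam0 with e | e
    · exact e
    · exact absurd e hmu0
  -- `x = y = 1`
  have hda : del * alp = rho := by
    have k := key 1 1
    simp only [hb0, hc0, zero_add, add_zero, mul_one] at k
    have k' : rho * ff m 1 1 = ff m del alp := by
      rw [hrho, div_mul_eq_mul_div, k, mul_div_cancel_left₀ _ hmu0]
    unfold ff at k'
    rw [sg_one] at k'
    have hsa : sg m alp = rho := by linear_combination hB2
    have hsd : sg m del * (del * del) = rho := by linear_combination hC1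
    rw [hsa, hsd] at k'
    linear_combination -k'
  have hsa : sg m alp = rho := by linear_combination hB2
  have hsd : sg m del * (del * del) = rho := by linear_combination hC1
  have hdel0 : del ≠ 0 := by
    intro e
    rw [e, zero_mul] at hda
    exact hrho0 hda.symm
  obtain ⟨t, ht⟩ := h.sg_surjective del
  have ht0 : t ≠ 0 := by
    intro e
    rw [e, sg_zero] at ht
    exact hdel0 ht.symm
  have hst0 : sg m t ≠ 0 := sg_ne_zero ht0
  have hsdel : sg m del = t * t := by rw [← ht, h.sg_sg]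
  -- the entries
  have hd' : d = mu * sg m t := by
    rw [ht]
    rw [hdel]
    field_simp
  have halp' : alp = t * t * sg m t := by
    have : alp = rho / del := by rw [← hda]; field_simp
    rw [this, ← hsd, hsdel, ← ht]
    field_simp
  have ha' : a = mu * (t * t * sg m t) := by
    rw [← halp', halp]
    field_simp
  have hlam' : lam = mu * (t * t * (sg m t * sg m t)) := by
    have : lam = mu * rho := by rw [hrho]; field_simp
    rw [this, ← hsd, hsdel, ← ht]
  -- the determinant
  have hdiag : M = Matrix.diagonal ![lam, a, d, mu] := by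
    ext i j
    fin_cases i <;> fin_cases j <;> simp [Matrix.diagonal] <;>
      first | rfl | assumption
  have hdet : lam * a * d * mu = 1 := by
    have := g.2
    rw [← hM, hdiag, Matrix.det_diagonal, Fin.prod_univ_four] at this
    simpa using this
  have hmu' : mu * (t * sg m t) = 1 := by
    apply pow_four_eq_one h
    rw [← hdet, hlam', ha', hd']
    ring
  have hmu'' : mu = (t * sg m t)⁻¹ := eq_inv_of_mul_eq_one_left hmu'
  refine ⟨t, ht0, ?_⟩
  apply Subtype.ext
  show M = Hmat m t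
  rw [hdiag]
  unfold Hmat
  ext i j
  fin_cases i <;> fin_cases j <;> simp [Matrix.diagonal]
  · rw [hlam', hmu'']
    field_simp
  · rw [ha', hmu'']
    field_simp
  · rw [hd', hmu'']
    field_simp
  · rw [hmu'']
    simp

end Cfsg.Agent.Helper7.Sz
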