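import Mathlib
import Cfsg.Agent.Helper7.SzStab

set_option autoImplicit false

/-!
Multiplication rules for the standard elements of the Suzuki group, the structure of the point
stabiliser and the order of the group.
-/

namespace Cfsg.Agent.Helper7.Sz

open Matrix
open scoped Pointwise

variable {F : Type*} [Field F] [Fintype F] {m : ℕ}

theorem Tmat_mul (h : FH F m) (a b c d : F) :
    Tmat m a b * Tmat m c d = Tmat m (a + c) (b + d + sg m a * c) := by
  have h2 := h.two_eq_zero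
  ext i j
  fin_cases i <;> fin_cases j <;>
    simp [Tmat, Matrix.mul_apply, Fin.sum_univ_four, h.sg_add, sg_mul, h.sg_sg] <;>
    first
    | ring1
    | linear_combination (-(c * sg m a)) * h2
    | linear_combination
        (-(a * c * sg m a) - a * c * sg m c - a * a * sg m c - c * c * sg m a) * h2

omit [Fintype F] in
theorem Tmat_zero : Tmat m (0 : F) 0 = 1 := by
  ext i j
  fin_cases i <;> fin_cases j <;> simp [Tmat, sg_zero]

theorem Tel_mul (h : FH F m) (a b c d : F) :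
    Tel m a b * Tel m c d = Tel m (a + c) (b + d + sg m a * c) :=
  Subtype.ext (Tmat_mul h a b c d)

omit [Fintype F] in
theorem Tel_zero : Tel m (0 : F) 0 = 1 := Subtype.ext Tmat_zero

theorem Tel_inv (h : FH F m) (a b : F) : (Tel m a b)⁻¹ = Tel m a (b + sg m a * a) := by
  rw [inv_eq_iff_mul_eq_one, Tel_mul h]
  have e1 : a + a = 0 := h.add_self a
  have e2 : b + (b + sg m a * a) + sg m a * a = 0 := by
    have : b + (b + sg m a * a) + sg m a * a = (b + b) + (sg m a * a + sg m a * a) := by ring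
    rw [this, h.add_self, h.add_self, add_zero]
  rw [e1, e2, Tel_zero]

omit [Fintype F] in
theorem Tel_injective {a b c d : F} (he : Tel m a b = Tel m c d) : a = c ∧ b = d := by
  have e := congrArg Subtype.val he
  have e1 := congrFun (congrFun e 2) 3
  have e2 := congrFun (congrFun e 1) 3
  simp [Tel, Tmat] at e1 e2
  exact ⟨e1, e2⟩

omit [Fintype F] in
theorem Hmat_mul {t u : F} (ht : t ≠ 0) (hu : u ≠ 0) :
    Hmat m t * Hmat m u = Hmat m (t * u) := by
  have hst : sg m t ≠ 0 := sg_ne_zero ht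
  have hsu : sg m u ≠ 0 := sg_ne_zero hu
  ext i j
  fin_cases i <;> fin_cases j <;>
    simp [Hmat, Matrix.mul_apply, Fin.sum_univ_four, sg_mul] <;> ring

omit [Fintype F] in
theorem Hmat_one : Hmat m (1 : F) = 1 := by
  ext i j
  fin_cases i <;> fin_cases j <;> simp [Hmat, sg_one]

omit [Fintype F] in
theorem Hel_mul {t u : F} (ht : t ≠ 0) (hu : u ≠ 0) :
    Hel m t ht * Hel m u hu = Hel m (t * u) (mul_ne_zero ht hu) :=
  Subtype.ext (Hmat_mul ht hu)

omit [Fintype F] in
theorem Hel_one : Hel m (1 : F) one_ne_zero = 1 := Subtype.ext Hmat_one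

omit [Fintype F] in
theorem Hel_injective {t u : F} {ht : t ≠ 0} {hu : u ≠ 0} (he : Hel m t ht = Hel m u hu) :
    t = u := by
  have e := congrArg Subtype.val he
  have e1 := congrFun (congrFun e 1) 1
  simpa [Hel, Hmat] using e1

theorem Hel_smul_zero (h : FH F m) {t : F} (ht : t ≠ 0) :
    Hel m t ht • Ppt m (0 : F) 0 = Ppt m 0 0 := by
  rw [Hel_smul_Ppt h, mul_zero, mul_zero]

theorem Tel_smul_zero (h : FH F m) (a b : F) : Tel m a b • Ppt m (0 : F) 0 = Ppt m a b := by
  rw [Tel_smul_Ppt h, zero_add, mul_zero, add_zero, zero_add]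

/-- Elements fixing the point at infinity. -/
theorem eq_Tel_mul_Hel (h : FH F m) {g : Matrix.SpecialLinearGroup (Fin 4) F}
    (hg : g ∈ Cfsg.Sz F m) (hinf : g • (Pinf : Projectivization F (Fin 4 → F)) = Pinf) :
    ∃ a b t : F, ∃ ht : t ≠ 0, g = Tel m a b * Hel m t ht := by
  have hq : g • Ppt m (0 : F) 0 ∈ Cfsg.suzukiOvoid F m := smul_mem_ovoid hg (Ppt_mem m 0 0)
  rcases (mem_ovoid_iff m _).1 hq with e | ⟨a, b, e⟩
  · exfalso
    apply Ppt_ne_Pinf m (0 : F) 0
    have : g • Ppt m (0 : F) 0 = g • Pinf := by rw [e, hinf]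
    exact smul_left_cancel _ this
  · have hg' : (Tel m a b)⁻¹ * g ∈ Cfsg.Sz F m :=
      Subgroup.mul_mem _ (Subgroup.inv_mem _ (Tel_mem h a b)) hg
    have h1 : ((Tel m a b)⁻¹ * g) • (Pinf : Projectivization F (Fin 4 → F)) = Pinf := by
      rw [mul_smul, hinf, inv_smul_eq_iff, Tel_smul_Pinf]
    have h2 : ((Tel m a b)⁻¹ * g) • Ppt m (0 : F) 0 = Ppt m 0 0 := by
      rw [mul_smul, e, inv_smul_eq_iff, Tel_smul_zero h]
    obtain ⟨t, ht, e'⟩ := eq_Hel h hg' h1 h2
    refine ⟨a, b, t, ht, ?_⟩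
    rw [← e', mul_inv_cancel_left]

/-- Every element of the Suzuki group is a product of standard elements. -/
theorem eq_prod (h : FH F m) {g : Matrix.SpecialLinearGroup (Fin 4) F}
    (hg : g ∈ Cfsg.Sz F m) :
    (∃ a b t : F, ∃ ht : t ≠ 0, g = Tel m a b * Hel m t ht) ∨
      ∃ a b a' b' t : F, ∃ ht : t ≠ 0, g = Tel m a b * Wel * (Tel m a' b' * Hel m t ht) := by
  have hq : g • (Pinf : Projectivization F (Fin 4 → F)) ∈ Cfsg.suzukiOvoid F m :=
    smul_mem_ovoid hg (Pinf_mem m)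
  rcases (mem_ovoid_iff m _).1 hq with e | ⟨a, b, e⟩
  · exact Or.inl (eq_Tel_mul_Hel h hg e)
  · right
    have hk : Tel m a b * Wel ∈ Cfsg.Sz F m := Subgroup.mul_mem _ (Tel_mem h a b) (Wel_mem h)
    have hg' : (Tel m a b * Wel)⁻¹ * g ∈ Cfsg.Sz F m :=
      Subgroup.mul_mem _ (Subgroup.inv_mem _ hk) hg
    have h1 : ((Tel m a b * Wel)⁻¹ * g) • (Pinf : Projectivization F (Fin 4 → F)) = Pinf := by
      rw [mul_smul, e, inv_smul_eq_iff, mul_smul, Wel_smul_Pinf (m := m), Tel_smul_zero h]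
    obtain ⟨a', b', t, ht, e'⟩ := eq_Tel_mul_Hel h hg' h1
    refine ⟨a, b, a', b', t, ht, ?_⟩
    rw [← e', mul_inv_cancel_left]

end Cfsg.Agent.Helper7.Sz
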