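import Mathlib
import Cfsg.Prelude.Def_Sz
import Cfsg.Agent.Helper7.SzGroup
import Cfsg.Agent.S0334

set_option autoImplicit false
set_option linter.unusedSectionVars false

/-!
The Suzuki group defined through the polarity (`Cfsg.Lie.Sz`) is the image in `GL₄` of the group of the
Suzuki–Tits ovoid (`Cfsg.Sz`).
-/

namespace Cfsg.Agent.Helper7.SzLie

open Matrix Cfsg.Agent.Helper7.Sz

variable {F : Type*} [Field F]

theorem altForm4_eq (u v : Fin 4 → F) :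
    Cfsg.Lie.altForm4 u v = u ⬝ᵥ (Cfsg.suzukiForm F *ᵥ v) := by
  simp [Cfsg.Lie.altForm4, Cfsg.suzukiForm, dotProduct, Matrix.mulVec, Fin.sum_univ_four]

theorem altForm4_mulVec (M : Matrix (Fin 4) (Fin 4) F) (u v : Fin 4 → F) :
    Cfsg.Lie.altForm4 (M *ᵥ u) (M *ᵥ v) = u ⬝ᵥ ((M.transpose * Cfsg.suzukiForm F * M) *ᵥ v) := by
  rw [altForm4_eq, ← Matrix.mulVec_mulVec, ← Matrix.mulVec_mulVec, Matrix.dotProduct_mulVec u Mᵀ,
    Matrix.vecMul_transpose]

theorem eq_of_forall_dot {A B : Matrix (Fin 4) (Fin 4) F}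
    (h : ∀ u v : Fin 4 → F, u ⬝ᵥ (A *ᵥ v) = u ⬝ᵥ (B *ᵥ v)) : A = B := by
  ext i j
  have := h (Pi.single i 1) (Pi.single j 1)
  simpa using this

theorem mem_Sp4_iff (g : GL (Fin 4) F) :
    g ∈ Cfsg.Lie.Sp4 F ↔ Cfsg.Agent.S0334.Pres (g : Matrix (Fin 4) (Fin 4) F) := by
  constructor
  · intro hg
    apply eq_of_forall_dot
    intro u v
    have := hg u v
    rw [Units.coeHom_apply, altForm4_mulVec, altForm4_eq] at this
    exact this
  · intro hg u v
    rw [Units.coeHom_apply, altForm4_mulVec, altForm4_eq]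
    unfold Cfsg.Agent.S0334.Pres at hg
    rw [hg]

variable [Fintype F] {m : ℕ}

theorem star_Wmat (h : FH F m) : Cfsg.Lie.star4 (Wmat : Matrix (Fin 4) (Fin 4) F) = (Wmat : Matrix (Fin 4) (Fin 4) F).map (sg m) := by
  ext p r
  fin_cases p <;> fin_cases r <;>
    simp [Cfsg.Lie.star4, Cfsg.Lie.pairOf, Wmat, sg_zero, sg_one, h.neg_eq]

theorem star_Hmat (h : FH F m) {t : F} (ht : t ≠ 0) :
    Cfsg.Lie.star4 (Hmat m t) = (Hmat m t).map (sg m) := by
  have hs : sg m t ≠ 0 := sg_ne_zero ht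
  ext p r
  fin_cases p <;> fin_cases r <;>
    simp [Cfsg.Lie.star4, Cfsg.Lie.pairOf, Hmat, sg_zero, sg_mul, sg_inv, h.sg_sg]
  all_goals field_simp

theorem star_Tmat (h : FH F m) (a b : F) :
    Cfsg.Lie.star4 (Tmat m a b) = (Tmat m a b).map (sg m) := by
  ext p r
  fin_cases p <;> fin_cases r <;>
    simp [Cfsg.Lie.star4, Cfsg.Lie.pairOf, Tmat, sg_zero, sg_one, sg_mul, h.sg_add, h.sg_sg]
  · linear_combination (-(sg m a * (a * a) + sg m b)) * h.two_eq_zero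
  · linear_combination (-(sg m a * sg m a * (a * a) + sg m a * sg m b)) * h.two_eq_zero
  · linear_combination (-(sg m b)) * h.two_eq_zero

/-- The relation between the first two columns of an element of the group. -/
def ColRel (m : ℕ) (c d : Fin 4 → F) : Prop :=
  c 0 * d 3 + c 1 * d 2 + c 2 * d 1 + c 3 * d 0 = 0 ∧ c 0 * d 1 - c 1 * d 0 = sg m (c 0) ∧
    c 0 * d 2 - c 2 * d 0 = sg m (c 1) ∧ c 1 * d 3 - c 3 * d 1 = sg m (c 2) ∧
    c 2 * d 3 - c 3 * d 2 = sg m (c 3)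

/-- The defining conditions of the generators. -/
structure Gen (m : ℕ) (M : Matrix (Fin 4) (Fin 4) F) : Prop where
  pres : Cfsg.Agent.S0334.Pres M
  star : Cfsg.Lie.star4 M = M.map (sg m)

theorem form_mul_form : Cfsg.suzukiForm F * Cfsg.suzukiForm F = 1 := by
  ext i j
  fin_cases i <;> fin_cases j <;> simp [Cfsg.suzukiForm, Matrix.mul_apply, Fin.sum_univ_four]

theorem Gen.row {M : Matrix (Fin 4) (Fin 4) F} (hg : Gen m M) :
    M * Cfsg.suzukiForm F * M.transpose = Cfsg.suzukiForm F := by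
  have h1 : (Cfsg.suzukiForm F * M.transpose * Cfsg.suzukiForm F) * M = 1 := by
    have := hg.pres
    unfold Cfsg.Agent.S0334.Pres at this
    rw [Matrix.mul_assoc, Matrix.mul_assoc, ← Matrix.mul_assoc M.transpose, this, form_mul_form]
  have h2 := mul_eq_one_comm.1 h1
  calc M * Cfsg.suzukiForm F * M.transpose
      = (M * (Cfsg.suzukiForm F * M.transpose * Cfsg.suzukiForm F)) * Cfsg.suzukiForm F := by
        simp only [Matrix.mul_assoc, form_mul_form, Matrix.mul_one]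
    _ = Cfsg.suzukiForm F := by rw [h2, Matrix.one_mul]

theorem Gen.rowrel {M : Matrix (Fin 4) (Fin 4) F} (hg : Gen m M) (k l : Fin 4) :
    M k 0 * M l 3 + M k 1 * M l 2 + M k 2 * M l 1 + M k 3 * M l 0 = Cfsg.suzukiForm F k l := by
  have := congrFun (congrFun hg.row k) l
  rw [← this]
  simp [Matrix.mul_apply, Fin.sum_univ_four, Cfsg.suzukiForm]
  ring

theorem Gen.starrel {M : Matrix (Fin 4) (Fin 4) F} (hg : Gen m M) (p r : Fin 4) :
    M (Cfsg.Lie.pairOf p).1 (Cfsg.Lie.pairOf r).1 * M (Cfsg.Lie.pairOf p).2 (Cfsg.Lie.pairOf r).2 -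
      M (Cfsg.Lie.pairOf p).2 (Cfsg.Lie.pairOf r).1 * M (Cfsg.Lie.pairOf p).1 (Cfsg.Lie.pairOf r).2 =
      sg m (M p r) := by
  have := congrFun (congrFun hg.star p) r
  simpa [Cfsg.Lie.star4] using this

theorem Gen.colRel_mulVec (h : FH F m) {M : Matrix (Fin 4) (Fin 4) F} (hg : Gen m M) {c d : Fin 4 → F}
    (hr : ColRel m c d) : ColRel m (M *ᵥ c) (M *ᵥ d) := by
  obtain ⟨hB, hp0, hp1, hp2, hp3⟩ := hr
  have h2 := h.two_eq_zero
  have hS00 := hg.starrel 0 0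
  have hS01 := hg.starrel 0 1
  have hS02 := hg.starrel 0 2
  have hS03 := hg.starrel 0 3
  have hS10 := hg.starrel 1 0
  have hS11 := hg.starrel 1 1
  have hS12 := hg.starrel 1 2
  have hS13 := hg.starrel 1 3
  have hS20 := hg.starrel 2 0
  have hS21 := hg.starrel 2 1
  have hS22 := hg.starrel 2 2
  have hS23 := hg.starrel 2 3
  have hS30 := hg.starrel 3 0
  have hS31 := hg.starrel 3 1
  have hS32 := hg.starrel 3 2
  have hS33 := hg.starrel 3 3
  have hR0 := hg.rowrel 0 1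
  have hR1 := hg.rowrel 0 2
  have hR2 := hg.rowrel 1 3
  have hR3 := hg.rowrel 2 3
  simp [Cfsg.Lie.pairOf] at hS00 hS01 hS02 hS03 hS10 hS11 hS12 hS13 hS20 hS21 hS22 hS23 hS30 hS31 hS32 hS33
  simp [Cfsg.suzukiForm] at hR0 hR1 hR2 hR3
  refine ⟨?_, ?_, ?_, ?_, ?_⟩
  · have := altForm4_mulVec M c d
    rw [show Mᵀ * Cfsg.suzukiForm F * M = Cfsg.suzukiForm F from hg.pres, ← altForm4_eq] at this
    simp only [Cfsg.Lie.altForm4] at this
    rw [this, hB]
  · simp only [Matrix.mulVec, dotProduct, Fin.sum_univ_four, h.sg_add, sg_mul]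
    linear_combination (c 0 * d 1 - c 1 * d 0) * hS00 + sg m (M 0 0) * hp0 + (c 0 * d 2 - c 2 * d 0) * hS01 + sg m (M 0 1) * hp1 + (c 1 * d 3 - c 3 * d 1) * hS02 + sg m (M 0 2) * hp2 + (c 2 * d 3 - c 3 * d 2) * hS03 + sg m (M 0 3) * hp3 + (M 0 0 * M 1 3 - M 1 0 * M 0 3) * hB + (c 1 * d 2 + c 2 * d 1) * hR0 + (-((M 0 0 * M 1 3 - M 1 0 * M 0 3) * (c 3 * d 0)) - (M 0 1 * M 1 2 - M 1 1 * M 0 2) * (c 2 * d 1) - (M 1 1 * M 0 2 + M 0 0 * M 1 3) * (c 1 * d 2 + c 2 * d 1)) * h2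
  · simp only [Matrix.mulVec, dotProduct, Fin.sum_univ_four, h.sg_add, sg_mul]
    linear_combination (c 0 * d 1 - c 1 * d 0) * hS10 + sg m (M 1 0) * hp0 + (c 0 * d 2 - c 2 * d 0) * hS11 + sg m (M 1 1) * hp1 + (c 1 * d 3 - c 3 * d 1) * hS12 + sg m (M 1 2) * hp2 + (c 2 * d 3 - c 3 * d 2) * hS13 + sg m (M 1 3) * hp3 + (M 0 0 * M 2 3 - M 2 0 * M 0 3) * hB + (c 1 * d 2 + c 2 * d 1) * hR1 + (-((M 0 0 * M 2 3 - M 2 0 * M 0 3) * (c 3 * d 0)) - (M 0 1 * M 2 2 - M 2 1 * M 0 2) * (c 2 * d 1) - (M 2 1 * M 0 2 + M 0 0 * M 2 3) * (c 1 * d 2 + c 2 * d 1)) * h2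
  · simp only [Matrix.mulVec, dotProduct, Fin.sum_univ_four, h.sg_add, sg_mul]
    linear_combination (c 0 * d 1 - c 1 * d 0) * hS20 + sg m (M 2 0) * hp0 + (c 0 * d 2 - c 2 * d 0) * hS21 + sg m (M 2 1) * hp1 + (c 1 * d 3 - c 3 * d 1) * hS22 + sg m (M 2 2) * hp2 + (c 2 * d 3 - c 3 * d 2) * hS23 + sg m (M 2 3) * hp3 + (M 1 0 * M 3 3 - M 3 0 * M 1 3) * hB + (c 1 * d 2 + c 2 * d 1) * hR2 + (-((M 1 0 * M 3 3 - M 3 0 * M 1 3) * (c 3 * d 0)) - (M 1 1 * M 3 2 - M 3 1 * M 1 2) * (c 2 * d 1) - (M 3 1 * M 1 2 + M 1 0 * M 3 3) * (c 1 * d 2 + c 2 * d 1)) * h2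
  · simp only [Matrix.mulVec, dotProduct, Fin.sum_univ_four, h.sg_add, sg_mul]
    linear_combination (c 0 * d 1 - c 1 * d 0) * hS30 + sg m (M 3 0) * hp0 + (c 0 * d 2 - c 2 * d 0) * hS31 + sg m (M 3 1) * hp1 + (c 1 * d 3 - c 3 * d 1) * hS32 + sg m (M 3 2) * hp2 + (c 2 * d 3 - c 3 * d 2) * hS33 + sg m (M 3 3) * hp3 + (M 2 0 * M 3 3 - M 3 0 * M 2 3) * hB + (c 1 * d 2 + c 2 * d 1) * hR3 + (-((M 2 0 * M 3 3 - M 3 0 * M 2 3) * (c 3 * d 0)) - (M 2 1 * M 3 2 - M 3 1 * M 2 2) * (c 2 * d 1) - (M 3 1 * M 2 2 + M 2 0 * M 3 3) * (c 1 * d 2 + c 2 * d 1)) * h2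

theorem colRel_vinf : ColRel m (vinf : Fin 4 → F) ![0, 1, 0, 0] := by
  simp [ColRel, vinf, sg_zero, sg_one]

theorem colRel_pv (h : FH F m) (x y : F) :
    ColRel m (pv m x y) ![y + x * sg m x, sg m x, 1, 0] := by
  have h2 := h.two_eq_zero
  refine ⟨?_, ?_, ?_, ?_, ?_⟩ <;>
    simp [pv, ff, sg_one, sg_mul, h.sg_add, h.sg_sg]
  · linear_combination (y + x * sg m x) * h2
  · linear_combination (-(y * y)) * h2
  · ring
  · linear_combination (-(sg m x)) * h2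
  · linear_combination (-1 : F) * h2


theorem mem_ovoid_of_colRel (h : FH F m) {c d : Fin 4 → F} (hc : c ≠ 0) (hr : ColRel m c d) :
    Projectivization.mk F c hc ∈ Cfsg.suzukiOvoid F m := by
  obtain ⟨hB, hp0, hp1, hp2, hp3⟩ := hr
  have h2 := h.two_eq_zero
  rw [mem_ovoid_iff]
  by_cases h3 : c 3 = 0
  · left
    have hc2 : c 2 = 0 := by
      by_contra hc2
      rw [h3, zero_mul, sub_zero, sg_zero] at hp3
      have hd3 : d 3 = 0 := by
        rcases mul_eq_zero.1 hp3 with h' | h'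
        · exact absurd h' hc2
        · exact h'
      rw [hd3, h3, mul_zero, zero_mul, sub_zero] at hp2
      exact hc2 (sg_eq_zero.1 hp2.symm)
    have hc1 : c 1 = 0 := by
      by_contra hc1
      rw [h3, hc2, zero_mul, sub_zero, sg_zero] at hp2
      have hd3 : d 3 = 0 := by
        rcases mul_eq_zero.1 hp2 with h' | h'
        · exact absurd h' hc1
        · exact h'
      rw [hd3, hc2, h3, mul_zero, zero_mul, zero_mul, add_zero, add_zero, zero_add] at hB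
      have hd2 : d 2 = 0 := by
        rcases mul_eq_zero.1 hB with h' | h'
        · exact absurd h' hc1
        · exact h'
      rw [hd2, hc2, mul_zero, zero_mul, sub_zero] at hp1
      exact hc1 (sg_eq_zero.1 hp1.symm)
    unfold Pinf
    rw [Projectivization.mk_eq_mk_iff']
    refine ⟨c 0, ?_⟩
    ext i
    fin_cases i <;> simp [vinf, h3, hc2, hc1]
  · right
    refine ⟨c 2 / c 3, c 1 / c 3, ?_⟩
    unfold Ppt
    rw [Projectivization.mk_eq_mk_iff']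
    refine ⟨c 3, ?_⟩
    have hs3 : sg m (c 3) ≠ 0 := sg_ne_zero h3
    have key : c 0 * c 3 * sg m (c 3) = c 1 * c 2 * sg m (c 3) + c 2 * c 2 * sg m (c 2) + c 3 * c 3 * sg m (c 1) := by
      linear_combination (-(c 3 * c 3)) * hp1 + (-(c 2 * c 2)) * hp2 - (c 0 * c 3 + c 1 * c 2) * hp3 - (c 2 * c 3) * hB + (c 0 * c 2 * c 3 * d 3 + c 1 * c 2 * c 2 * d 3 - c 1 * c 2 * sg m (c 3) - c 2 * c 2 * sg m (c 2) - c 3 * c 3 * sg m (c 1)) * h2
    ext i
    fin_cases i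
    · have e1 : sg m (c 2 / c 3) = sg m (c 2) / sg m (c 3) := div_pow _ _ _
      have e2 : sg m (c 1 / c 3) = sg m (c 1) / sg m (c 3) := div_pow _ _ _
      simp only [pv, ff, Pi.smul_apply, smul_eq_mul, Fin.zero_eta, Matrix.cons_val_zero, e1, e2]
      field_simp
      linear_combination (-1 : F) * key
    · simp [pv]; field_simp
    · simp [pv]; field_simp
    · simp [pv]

theorem det_eq_one_of_pres (h : FH F m) {M : Matrix (Fin 4) (Fin 4) F} (hM : Cfsg.Agent.S0334.Pres M) :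
    M.det = 1 := by
  have h1 := congrArg Matrix.det hM
  rw [Matrix.det_mul, Matrix.det_mul, Matrix.det_transpose] at h1
  have hJ : (Cfsg.suzukiForm F).det ≠ 0 := by
    intro h0
    have := congrArg Matrix.det (form_mul_form (F := F))
    rw [Matrix.det_mul, h0, mul_zero, Matrix.det_one] at this
    exact zero_ne_one this
  have h3 : M.det * M.det = 1 := by
    have : (M.det * M.det) * (Cfsg.suzukiForm F).det = 1 * (Cfsg.suzukiForm F).det := by
      calc (M.det * M.det) * (Cfsg.suzukiForm F).det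
          = M.det * (Cfsg.suzukiForm F).det * M.det := by ring
        _ = (Cfsg.suzukiForm F).det := h1
        _ = 1 * (Cfsg.suzukiForm F).det := (one_mul _).symm
    exact mul_right_cancel₀ hJ this
  have h4 : (M.det - 1) * (M.det - 1) = 0 := by
    linear_combination h3 + (1 - M.det) * h.two_eq_zero
  have := mul_self_eq_zero.1 h4
  exact sub_eq_zero.1 this

theorem Gen.mem_Sz (h : FH F m) (s : Matrix.SpecialLinearGroup (Fin 4) F)
    (hg : Gen m (s : Matrix (Fin 4) (Fin 4) F)) : s ∈ Cfsg.Sz F m := by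
  rw [MulAction.mem_stabilizer_set' (ovoid_finite m)]
  intro p hp
  rcases (mem_ovoid_iff m p).1 hp with rfl | ⟨x, y, rfl⟩
  · unfold Pinf
    rw [smul_mk_eq s vinf_ne_zero
      (mulVec_ne_zero s vinf_ne_zero) 1 (by rw [one_smul])]
    exact mem_ovoid_of_colRel h _ (hg.colRel_mulVec h colRel_vinf)
  · unfold Ppt
    rw [smul_mk_eq s (pv_ne_zero m x y)
      (mulVec_ne_zero s (pv_ne_zero m x y)) 1 (by rw [one_smul])]
    exact mem_ovoid_of_colRel h _ (hg.colRel_mulVec h (colRel_pv h x y))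

theorem gen_Tmat (h : FH F m) (a b : F) : Gen m (Tmat m a b) :=
  ⟨Cfsg.Agent.S0334.pres_Tmat h a b, star_Tmat h a b⟩

theorem gen_Hmat (h : FH F m) {t : F} (ht : t ≠ 0) : Gen m (Hmat m t) :=
  ⟨Cfsg.Agent.S0334.pres_Hmat m ht, star_Hmat h ht⟩

theorem gen_Wmat (h : FH F m) : Gen m (Wmat : Matrix (Fin 4) (Fin 4) F) :=
  ⟨Cfsg.Agent.S0334.pres_Wmat, star_Wmat h⟩

/-- The generating set of `Cfsg.Lie.Sz`. -/
theorem mem_genSet_iff (g : GL (Fin 4) F) :
    (g ∈ Cfsg.Lie.Sp4 F ∧ Cfsg.Lie.star4 (g : Matrix (Fin 4) (Fin 4) F) =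
      (g : Matrix (Fin 4) (Fin 4) F).map (fun x => x ^ (2 ^ (m + 1)))) ↔ Gen m (g : Matrix (Fin 4) (Fin 4) F) := by
  rw [mem_Sp4_iff]
  constructor
  · rintro ⟨h1, h2⟩
    exact ⟨h1, h2⟩
  · rintro ⟨h1, h2⟩
    exact ⟨h1, h2⟩

theorem map_toGL_eq (h : FH F m) :
    (Cfsg.Sz F m).map Matrix.SpecialLinearGroup.toGL = Cfsg.Lie.Sz F (2 ^ (m + 1)) := by
  apply le_antisymm
  · rintro _ ⟨g, hg, rfl⟩
    have hT : ∀ a b : F, Matrix.SpecialLinearGroup.toGL (Tel m a b) ∈ Cfsg.Lie.Sz F (2 ^ (m + 1)) := by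
      intro a b
      apply Subgroup.subset_closure
      exact (mem_genSet_iff _).2 (gen_Tmat h a b)
    have hH : ∀ (t : F) (ht : t ≠ 0), Matrix.SpecialLinearGroup.toGL (Hel m t ht) ∈ Cfsg.Lie.Sz F (2 ^ (m + 1)) := by
      intro t ht
      apply Subgroup.subset_closure
      exact (mem_genSet_iff _).2 (gen_Hmat h ht)
    have hW : Matrix.SpecialLinearGroup.toGL (Wel : Matrix.SpecialLinearGroup (Fin 4) F) ∈ Cfsg.Lie.Sz F (2 ^ (m + 1)) := by
      apply Subgroup.subset_closure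
      exact (mem_genSet_iff _).2 (gen_Wmat h)
    rcases eq_prod h hg with ⟨a, b, t, ht, e⟩ | ⟨a, b, a', b', t, ht, e⟩
    · rw [e, map_mul]
      exact Subgroup.mul_mem _ (hT a b) (hH t ht)
    · rw [e, map_mul, map_mul, map_mul]
      exact Subgroup.mul_mem _ (Subgroup.mul_mem _ (hT a b) hW) (Subgroup.mul_mem _ (hT a' b') (hH t ht))
  · unfold Cfsg.Lie.Sz
    rw [Subgroup.closure_le]
    intro g hg
    have hG : Gen m (g : Matrix (Fin 4) (Fin 4) F) := (mem_genSet_iff g).1 hg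
    have hdet := det_eq_one_of_pres h hG.pres
    refine ⟨⟨(g : Matrix (Fin 4) (Fin 4) F), hdet⟩, Gen.mem_Sz h _ hG, ?_⟩
    ext i j
    rfl

/-- The isomorphism between the two descriptions of the Suzuki group. -/
noncomputable def lieEquiv (h : FH F m) : Cfsg.Sz F m ≃* Cfsg.Lie.Sz F (2 ^ (m + 1)) :=
  ((Cfsg.Sz F m).equivMapOfInjective _ Matrix.SpecialLinearGroup.toGL_injective).trans
    (MulEquiv.subgroupCongr (map_toGL_eq h))

theorem lieEquiv_coe (h : FH F m) (g : Cfsg.Sz F m) :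
    ((lieEquiv h g : Cfsg.Lie.Sz F (2 ^ (m + 1))) : GL (Fin 4) F) =
      Matrix.SpecialLinearGroup.toGL (g : Matrix.SpecialLinearGroup (Fin 4) F) := rfl

end Cfsg.Agent.Helper7.SzLie
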