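import Mathlib
import Cfsg.Agent.Helper7.SzGroup

set_option autoImplicit false

/-!
Orders of the point stabiliser and of the Suzuki group; the two-point stabiliser.
-/

namespace Cfsg.Agent.Helper7.Sz

open Matrix MulAction
open scoped Pointwise

variable {F : Type*} [Field F] [Fintype F] {m : ℕ}

/-- The standard elements as elements of the Suzuki group. -/
def TelS (h : FH F m) (a b : F) : Cfsg.Sz F m := ⟨Tel m a b, Tel_mem h a b⟩

/-- The torus elements as elements of the Suzuki group. -/
def HelS (h : FH F m) (t : Fˣ) : Cfsg.Sz F m := ⟨Hel m (t : F) t.ne_zero, Hel_mem h t.ne_zero⟩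

/-- The Weyl element as an element of the Suzuki group. -/
def WelS (h : FH F m) : Cfsg.Sz F m := ⟨Wel, Wel_mem h⟩

omit [Fintype F] in
theorem smul_def' (g : Cfsg.Sz F m) (p : Projectivization F (Fin 4 → F)) :
    g • p = (g : Matrix.SpecialLinearGroup (Fin 4) F) • p := rfl

/-- The parametrisation of the stabiliser of the point at infinity. -/
def stabInfMap (h : FH F m) :
    F × F × Fˣ → stabilizer (Cfsg.Sz F m) (Pinf : Projectivization F (Fin 4 → F)) :=
  fun x => ⟨TelS h x.1 x.2.1 * HelS h x.2.2, by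
    rw [mem_stabilizer_iff, mul_smul, smul_def', smul_def']
    show Tel m x.1 x.2.1 • Hel m (x.2.2 : F) x.2.2.ne_zero • Pinf = Pinf
    rw [Hel_smul_Pinf, Tel_smul_Pinf]⟩

theorem stabInfMap_bijective (h : FH F m) : Function.Bijective (stabInfMap h) := by
  constructor
  · rintro ⟨a, b, t⟩ ⟨a', b', t'⟩ he
    have e1 : Tel m a b * Hel m (t : F) t.ne_zero = Tel m a' b' * Hel m (t' : F) t'.ne_zero := by
      have := congrArg (fun z : stabilizer (Cfsg.Sz F m)
        (Pinf : Projectivization F (Fin 4 → F)) => z.1.1) he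
      exact this
    have e2 := congrArg (fun z => z • Ppt m (0 : F) 0) e1
    simp only [mul_smul, Hel_smul_zero h, Tel_smul_zero h] at e2
    obtain ⟨rfl, rfl⟩ := Ppt_injective m e2
    have e3 : Hel m (t : F) t.ne_zero = Hel m (t' : F) t'.ne_zero := mul_left_cancel e1
    have e4 : (t : F) = t' := Hel_injective e3
    have e5 : t = t' := Units.ext e4
    rw [e5]
  · rintro ⟨⟨g, hg⟩, hfix⟩
    rw [mem_stabilizer_iff] at hfix
    have hfix' : g • (Pinf : Projectivization F (Fin 4 → F)) = Pinf := hfix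
    obtain ⟨a, b, t, ht, e⟩ := eq_Tel_mul_Hel h hg hfix'
    refine ⟨(a, b, Units.mk0 t ht), ?_⟩
    apply Subtype.ext
    apply Subtype.ext
    exact e.symm

theorem card_stabInf (h : FH F m) :
    Nat.card (stabilizer (Cfsg.Sz F m) (Pinf : Projectivization F (Fin 4 → F))) =
      Fintype.card F * (Fintype.card F * (Fintype.card F - 1)) := by
  rw [← Nat.card_eq_of_bijective _ (stabInfMap_bijective h), Nat.card_prod, Nat.card_prod,
    Nat.card_units, Nat.card_eq_fintype_card]

/-- The orbit of the point at infinity is the ovoid. -/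
theorem orbit_Pinf (h : FH F m) :
    orbit (Cfsg.Sz F m) (Pinf : Projectivization F (Fin 4 → F)) = Cfsg.suzukiOvoid F m := by
  ext p
  constructor
  · rintro ⟨g, rfl⟩
    exact smul_mem_ovoid g.2 (Pinf_mem m)
  · intro hp
    obtain ⟨g, hg, e⟩ := exists_smul_Pinf_eq h hp
    exact ⟨⟨g, hg⟩, e⟩

theorem card_Sz (h : FH F m) :
    Nat.card (Cfsg.Sz F m) =
      Fintype.card F * (Fintype.card F * (Fintype.card F - 1)) * (Fintype.card F ^ 2 + 1) := by
  have h1 := index_stabilizer (G := Cfsg.Sz F m) (x := (Pinf : Projectivization F (Fin 4 → F)))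
  rw [orbit_Pinf h, ← Nat.card_coe_set_eq, Cfsg.Agent.S0326.result] at h1
  rw [← Subgroup.card_mul_index
    (stabilizer (Cfsg.Sz F m) (Pinf : Projectivization F (Fin 4 → F))), h1, card_stabInf h]

/-- The parametrisation of the two-point stabiliser. -/
def twoPointHom (h : FH F m) :
    Fˣ →* ↥(stabilizer (Cfsg.Sz F m) (Cfsg.suzukiPointInfinity F) ⊓
        stabilizer (Cfsg.Sz F m) (Cfsg.suzukiPointZero F)) where
  toFun t := ⟨HelS h t, by
    rw [Subgroup.mem_inf, mem_stabilizer_iff, mem_stabilizer_iff, ← Pinf_eq, ← Ppt_zero_eq m]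
    exact ⟨Hel_smul_Pinf t.ne_zero, Hel_smul_zero h t.ne_zero⟩⟩
  map_one' := by
    apply Subtype.ext
    apply Subtype.ext
    exact Hel_one
  map_mul' t u := by
    apply Subtype.ext
    apply Subtype.ext
    exact (Hel_mul t.ne_zero u.ne_zero).symm

theorem twoPointHom_bijective (h : FH F m) : Function.Bijective (twoPointHom h) := by
  constructor
  · intro t u he
    have e1 : Hel m (t : F) t.ne_zero = Hel m (u : F) u.ne_zero := by
      have := congrArg (fun z : ↥(stabilizer (Cfsg.Sz F m) (Cfsg.suzukiPointInfinity F) ⊓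
        stabilizer (Cfsg.Sz F m) (Cfsg.suzukiPointZero F)) => z.1.1) he
      exact this
    exact Units.ext (Hel_injective e1)
  · rintro ⟨⟨g, hg⟩, hfix⟩
    rw [Subgroup.mem_inf, mem_stabilizer_iff, mem_stabilizer_iff, ← Pinf_eq, ← Ppt_zero_eq m]
      at hfix
    obtain ⟨t, ht, e⟩ := eq_Hel h hg hfix.1 hfix.2
    refine ⟨Units.mk0 t ht, ?_⟩
    apply Subtype.ext
    apply Subtype.ext
    exact e.symm

end Cfsg.Agent.Helper7.Sz
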