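import Mathlib
import Cfsg.Agent.Helper7.SzOrder

set_option autoImplicit false

/-!
The Suzuki group is a Zassenhaus group on the ovoid.
-/

namespace Cfsg.Agent.Helper7.Sz

open Matrix MulAction
open scoped Pointwise

/-- An involution acting without fixed points on a finite group inverts it. -/
theorem inv_of_fpf_involution {G : Type*} [Group G] (N : Subgroup G) [Finite N] (u : G)
    (hu : u * u = 1) (hnorm : ∀ n ∈ N, u * n * u⁻¹ ∈ N)
    (hfpf : ∀ n ∈ N, u * n * u⁻¹ = n → n = 1) : ∀ n ∈ N, u * n * u⁻¹ = n⁻¹ := by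
  let φ : N → N := fun n => ⟨(n : G)⁻¹ * (u * n * u⁻¹), N.mul_mem (N.inv_mem n.2) (hnorm n n.2)⟩
  have hinj : Function.Injective φ := by
    intro n k he
    have e1 : (n : G)⁻¹ * (u * n * u⁻¹) = (k : G)⁻¹ * (u * k * u⁻¹) := congrArg Subtype.val he
    have e3 : u * (k : G) * u⁻¹ = (k : G) * ((n : G)⁻¹ * (u * n * u⁻¹)) := by
      rw [e1, mul_inv_cancel_left]
    have e2 : u * ((k : G) * (n : G)⁻¹) * u⁻¹ = (k : G) * (n : G)⁻¹ := by
      calc u * ((k : G) * (n : G)⁻¹) * u⁻¹ = (u * k * u⁻¹) * (u * n * u⁻¹)⁻¹ := by group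
        _ = (k : G) * ((n : G)⁻¹ * (u * n * u⁻¹)) * (u * n * u⁻¹)⁻¹ := by rw [e3]
        _ = (k : G) * (n : G)⁻¹ := by group
    have e4 := hfpf _ (N.mul_mem k.2 (N.inv_mem n.2)) e2
    apply Subtype.ext
    exact (mul_inv_eq_one.1 e4).symm
  have hsurj : Function.Surjective φ := Finite.surjective_of_injective hinj
  intro n hn
  obtain ⟨k, hk⟩ := hsurj ⟨n, hn⟩
  have e : (k : G)⁻¹ * (u * k * u⁻¹) = n := congrArg Subtype.val hk
  have key : u * ((k : G)⁻¹ * (u * k * u⁻¹)) * u⁻¹ =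
      (u * (k : G)⁻¹ * u⁻¹) * ((u * u) * k * (u * u)⁻¹) := by group
  rw [hu, one_mul, inv_one, mul_one] at key
  have key2 : ((k : G)⁻¹ * (u * k * u⁻¹))⁻¹ = u * (k : G)⁻¹ * u⁻¹ * k := by group
  rw [← e, key, key2]

variable {F : Type*} [Field F] [Fintype F] {m : ℕ}

/-- Only the identity fixes three points of the ovoid. -/
theorem eq_one_of_fix_three (h : FH F m) {g : Matrix.SpecialLinearGroup (Fin 4) F}
    (hg : g ∈ Cfsg.Sz F m) {p q r : Projectivization F (Fin 4 → F)}
    (hp : p ∈ Cfsg.suzukiOvoid F m) (hq : q ∈ Cfsg.suzukiOvoid F m)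
    (hr : r ∈ Cfsg.suzukiOvoid F m) (hpq : p ≠ q) (hqr : q ≠ r) (hpr : p ≠ r)
    (fp : g • p = p) (fq : g • q = q) (fr : g • r = r) : g = 1 := by
  obtain ⟨k, hk, hkp, hkq⟩ := exists_smul_pair h hp hq hpq
  have hg' : k⁻¹ * g * k ∈ Cfsg.Sz F m :=
    Subgroup.mul_mem _ (Subgroup.mul_mem _ (Subgroup.inv_mem _ hk) hg) hk
  have h1 : (k⁻¹ * g * k) • (Pinf : Projectivization F (Fin 4 → F)) = Pinf := by
    rw [mul_smul, mul_smul, hkp, fp, inv_smul_eq_iff, hkp]
  have h2 : (k⁻¹ * g * k) • Ppt m (0 : F) 0 = Ppt m 0 0 := by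
    rw [mul_smul, mul_smul, hkq, fq, inv_smul_eq_iff, hkq]
  obtain ⟨t, ht, e⟩ := eq_Hel h hg' h1 h2
  have hq' : k⁻¹ • r ∈ Cfsg.suzukiOvoid F m := smul_mem_ovoid (Subgroup.inv_mem _ hk) hr
  have h3 : (k⁻¹ * g * k) • (k⁻¹ • r) = k⁻¹ • r := by
    rw [mul_smul, mul_smul, smul_inv_smul, fr]
  rcases (mem_ovoid_iff m _).1 hq' with e' | ⟨x, y, e'⟩
  · exfalso
    apply hpr
    rw [← hkp, ← e', smul_inv_smul]
  · have hxy : ¬ (x = 0 ∧ y = 0) := by
      rintro ⟨rfl, rfl⟩
      apply hqr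
      rw [← hkq, ← e', smul_inv_smul]
    rw [e', e, Hel_smul_Ppt h] at h3
    obtain ⟨hx, hy⟩ := Ppt_injective m h3
    have ht1 : t = 1 := by
      by_cases hx0 : x = 0
      · have hy0 : y ≠ 0 := fun e0 => hxy ⟨hx0, e0⟩
        have e1 : sg m t * (t * t) = 1 := by
          have : sg m t * (t * t) * y = 1 * y := by rw [hy, one_mul]
          exact mul_right_cancel₀ hy0 this
        have e2 := congrArg (sg m) e1
        rw [sg_mul, sg_mul, h.sg_sg, sg_one] at e2
        have e3 : sg m t * t = 1 := by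
          apply h.sq_injective
          rw [one_mul]
          linear_combination e2
        exact h.eq_one_of_sg_mul_self e3
      · have e1 : sg m t = 1 := by
          have : sg m t * x = 1 * x := by rw [hx, one_mul]
          exact mul_right_cancel₀ hx0 this
        have e2 : sg m t = sg m 1 := by rw [e1, sg_one]
        exact h.sg_injective e2
    have e6 : k⁻¹ * g * k = 1 := by
      rw [e]
      subst ht1
      exact Hel_one
    have : g = k * (k⁻¹ * g * k) * k⁻¹ := by group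
    rw [this, e6]
    group

/-- The translations by `(0, b)` are involutions fixing only the point at infinity. -/
theorem Tel_zero_sq (h : FH F m) (b : F) : Tel m 0 b * Tel m 0 b = 1 := by
  rw [Tel_mul h, add_zero, h.add_self, sg_zero, mul_zero, add_zero, Tel_zero]

theorem Tel_zero_fix (h : FH F m) {b : F} (hb : b ≠ 0) {p : Projectivization F (Fin 4 → F)}
    (hp : p ∈ Cfsg.suzukiOvoid F m) (hfix : Tel m 0 b • p = p) : p = Pinf := by
  rcases (mem_ovoid_iff m _).1 hp with e | ⟨x, y, e⟩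
  · exact e
  · exfalso
    rw [e, Tel_smul_Ppt h] at hfix
    obtain ⟨-, hy⟩ := Ppt_injective m hfix
    rw [sg_zero, zero_mul, add_zero] at hy
    apply hb
    have : y + b = y + 0 := by rw [hy, add_zero]
    exact add_left_cancel this

theorem exists_ne_zero_one (h : FH F m) : ∃ b : F, b ≠ 0 ∧ b ≠ 1 := by
  classical
  by_contra hcon
  have h2 : ∀ x : F, x = 0 ∨ x = 1 := by
    intro x
    by_contra hx
    rw [not_or] at hx
    exact hcon ⟨x, hx.1, hx.2⟩
  have h3 : Fintype.card F ≤ 2 := by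
    have : (Finset.univ : Finset F) ⊆ {0, 1} := by
      intro x _
      rcases h2 x with e | e
      · rw [e]; simp
      · rw [e]; simp
    calc Fintype.card F = (Finset.univ : Finset F).card := Finset.card_univ.symm
      _ ≤ ({0, 1} : Finset F).card := Finset.card_le_card this
      _ ≤ 2 := Finset.card_le_two
  have := h.card_ge
  omega

/-- The Suzuki group is a Zassenhaus group on the ovoid. -/
theorem isZassenhaus (h : FH F m) :
    Cfsg.IsZassenhausGroup (Cfsg.Sz F m) (Cfsg.suzukiOvoid F m) := by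
  have hval : ∀ (g : Cfsg.Sz F m) (p : Cfsg.suzukiOvoid F m),
      ((g • p : Cfsg.suzukiOvoid F m) : Projectivization F (Fin 4 → F)) =
        (g : Matrix.SpecialLinearGroup (Fin 4) F) • (p : Projectivization F (Fin 4 → F)) :=
    fun _ _ => rfl
  have h10 : Ppt m (1 : F) 0 ≠ Ppt m 0 0 := by
    intro e
    exact one_ne_zero (Ppt_injective m e).1
  refine ⟨?_, ?_, ?_, ?_, ?_⟩
  · -- faithful
    constructor
    intro g₁ g₂ hgg
    have hfix : ∀ p : Projectivization F (Fin 4 → F), p ∈ Cfsg.suzukiOvoid F m →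
        ((g₂⁻¹ * g₁ : Cfsg.Sz F m) : Matrix.SpecialLinearGroup (Fin 4) F) • p = p := by
      intro p hp
      have := congrArg Subtype.val (hgg ⟨p, hp⟩)
      rw [hval, hval] at this
      rw [Subgroup.coe_mul, Subgroup.coe_inv, mul_smul, inv_smul_eq_iff]
      exact this
    have := eq_one_of_fix_three h (g₂⁻¹ * g₁).2 (Pinf_mem m) (Ppt_mem m 0 0) (Ppt_mem m 1 0)
      (Ne.symm (Ppt_ne_Pinf m 0 0)) (Ne.symm h10) (Ne.symm (Ppt_ne_Pinf m 1 0))
      (hfix _ (Pinf_mem m)) (hfix _ (Ppt_mem m 0 0)) (hfix _ (Ppt_mem m 1 0))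
    have e : g₂⁻¹ * g₁ = 1 := Subtype.ext this
    exact (inv_mul_eq_one.1 e).symm
  · -- doubly transitive
    rw [MulAction.is_two_pretransitive_iff]
    intro a b c d hab hcd
    have hab' : (a : Projectivization F (Fin 4 → F)) ≠ b := fun e => hab (Subtype.ext e)
    have hcd' : (c : Projectivization F (Fin 4 → F)) ≠ d := fun e => hcd (Subtype.ext e)
    obtain ⟨g₁, hg₁, e1, e2⟩ := exists_smul_pair h a.2 b.2 hab'
    obtain ⟨g₂, hg₂, e3, e4⟩ := exists_smul_pair h c.2 d.2 hcd'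
    refine ⟨⟨g₂, hg₂⟩ * ⟨g₁, hg₁⟩⁻¹, ?_, ?_⟩
    · apply Subtype.ext
      rw [hval]
      show (g₂ * g₁⁻¹) • (a : Projectivization F (Fin 4 → F)) = c
      rw [mul_smul, ← e1, inv_smul_smul, e3]
    · apply Subtype.ext
      rw [hval]
      show (g₂ * g₁⁻¹) • (b : Projectivization F (Fin 4 → F)) = d
      rw [mul_smul, ← e2, inv_smul_smul, e4]
  · -- three fixed points
    intro g a b c hab hbc hac fa fb fc
    have hab' : (a : Projectivization F (Fin 4 → F)) ≠ b := fun e => hab (Subtype.ext e)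
    have hbc' : (b : Projectivization F (Fin 4 → F)) ≠ c := fun e => hbc (Subtype.ext e)
    have hac' : (a : Projectivization F (Fin 4 → F)) ≠ c := fun e => hac (Subtype.ext e)
    have := eq_one_of_fix_three h g.2 a.2 b.2 c.2 hab' hbc' hac'
      (congrArg Subtype.val fa) (congrArg Subtype.val fb) (congrArg Subtype.val fc)
    exact Subtype.ext this
  · -- a non-identity element fixing two points
    obtain ⟨t, ht0, ht1⟩ := exists_ne_zero_one h
    refine ⟨⟨Hel m t ht0, Hel_mem h ht0⟩, ?_, ⟨Pinf, Pinf_mem m⟩, ⟨Ppt m 0 0, Ppt_mem m 0 0⟩,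
      ?_, ?_, ?_⟩
    · intro e
      have e1 : Hel m t ht0 = 1 := congrArg Subtype.val e
      rw [← Hel_one (m := m)] at e1
      exact ht1 (Hel_injective e1)
    · intro e
      exact Ppt_ne_Pinf m (0 : F) 0 (congrArg Subtype.val e).symm
    · apply Subtype.ext
      rw [hval]
      exact Hel_smul_Pinf ht0
    · apply Subtype.ext
      rw [hval]
      exact Hel_smul_zero h ht0
  · -- no regular normal subgroup
    intro N hN htr
    by_contra hcon
    rw [not_exists] at hcon
    have hreg : ∀ a : Cfsg.suzukiOvoid F m, ∀ n ∈ N, n • a = a → n = 1 := by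
      intro a n hn hna
      have := hcon a
      rw [not_not] at this
      have hmem : (⟨n, hn⟩ : N) ∈ stabilizer N a := by
        rw [mem_stabilizer_iff]
        exact hna
      rw [this, Subgroup.mem_bot] at hmem
      exact congrArg Subtype.val hmem
    -- the involutions
    set u : F → Cfsg.Sz F m := fun b => TelS h 0 b with hu
    have hu2 : ∀ b, u b * u b = 1 := by
      intro b
      apply Subtype.ext
      exact Tel_zero_sq h b
    have hcent : ∀ b : F, b ≠ 0 → ∀ n ∈ N, u b * n * (u b)⁻¹ = n → n = 1 := by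
      intro b hb n hn hcomm
      apply hreg ⟨Pinf, Pinf_mem m⟩ n hn
      have hcomm' : u b * n = n * u b := by
        have : u b * n = (u b * n * (u b)⁻¹) * u b := by group
        rw [this, hcomm]
      have hfixinf : u b • (⟨Pinf, Pinf_mem m⟩ : Cfsg.suzukiOvoid F m) = ⟨Pinf, Pinf_mem m⟩ := by
        apply Subtype.ext
        rw [hval]
        exact Tel_smul_Pinf 0 b
      have h1 : u b • (n • (⟨Pinf, Pinf_mem m⟩ : Cfsg.suzukiOvoid F m)) =
          n • (⟨Pinf, Pinf_mem m⟩ : Cfsg.suzukiOvoid F m) := by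
        rw [← mul_smul, hcomm', mul_smul, hfixinf]
      have h2 := congrArg Subtype.val h1
      rw [hval] at h2
      apply Subtype.ext
      exact Tel_zero_fix h hb (n • (⟨Pinf, Pinf_mem m⟩ : Cfsg.suzukiOvoid F m)).2 h2
    have hfinN : Finite N := inferInstance
    have hinvert : ∀ b : F, b ≠ 0 → ∀ n ∈ N, u b * n * (u b)⁻¹ = n⁻¹ := by
      intro b hb
      exact inv_of_fpf_involution N (u b) (hu2 b) (fun n hn => hN.conj_mem n hn (u b))
        (hcent b hb)
    obtain ⟨b, hb0, hb1⟩ := exists_ne_zero_one h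
    have hb' : 1 + b ≠ 0 := by
      intro e
      apply hb1
      exact (h.eq_of_add_eq_zero e).symm
    have hprod : u 1 * u b = u (1 + b) := by
      apply Subtype.ext
      show Tel m 0 1 * Tel m 0 b = Tel m 0 (1 + b)
      rw [Tel_mul h, add_zero, sg_zero, zero_mul, add_zero]
    have hNbot : ∀ n ∈ N, n = 1 := by
      intro n hn
      apply hcent (1 + b) hb' n hn
      rw [← hprod]
      have e1 := hinvert b hb0 n hn
      have e2 := hinvert 1 one_ne_zero n⁻¹ (N.inv_mem hn)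
      rw [inv_inv] at e2
      calc u 1 * u b * n * (u 1 * u b)⁻¹ = u 1 * (u b * n * (u b)⁻¹) * (u 1)⁻¹ := by group
        _ = n := by rw [e1, e2]
    -- but `N` is transitive
    obtain ⟨n, hn⟩ := htr.exists_smul_eq (⟨Pinf, Pinf_mem m⟩ : Cfsg.suzukiOvoid F m)
      ⟨Ppt m 0 0, Ppt_mem m 0 0⟩
    have hn1 : (n : Cfsg.Sz F m) = 1 := hNbot n n.2
    have hn' : (n : Cfsg.Sz F m) • (⟨Pinf, Pinf_mem m⟩ : Cfsg.suzukiOvoid F m) =
        ⟨Ppt m 0 0, Ppt_mem m 0 0⟩ := hn
    rw [hn1, one_smul] at hn'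
    exact Ppt_ne_Pinf m (0 : F) 0 (congrArg Subtype.val hn').symm

end Cfsg.Agent.Helper7.Sz
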