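import Mathlib

set_option autoImplicit false

/-!
A doubly transitive group in which a `2`-subgroup `U` of a point stabiliser is normal in it and regular on
the remaining points: `U` is a Sylow subgroup (when its order is the full power of two), its normaliser is
the point stabiliser, and the action on the cosets of the normaliser is the given one.
-/

namespace Cfsg.Agent.Helper7.TwoTransSylow

open MulAction

/-- The hypotheses. -/
structure Setup (G Ω : Type*) [Group G] [MulAction G Ω] (ω₀ : Ω) (U : Subgroup G) : Prop where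
  two : IsMultiplyPretransitive G Ω 2
  le : U ≤ stabilizer G ω₀
  conj : ∀ n ∈ stabilizer G ω₀, ∀ x ∈ U, n * x * n⁻¹ ∈ U
  reg : ∀ x y : Ω, x ≠ ω₀ → y ≠ ω₀ → ∃! s : U, (s : G) • x = y
  ne : ∃ x : Ω, x ≠ ω₀
  nontriv : ∃ u ∈ U, u ≠ 1

variable {G G' Ω : Type*} [Group G] [Group G'] [MulAction G Ω] {ω₀ : Ω} {U : Subgroup G}

theorem Setup.normalizer_eq (hS : Setup G Ω ω₀ U) :
    Subgroup.normalizer (U : Set G) = stabilizer G ω₀ := by
  apply le_antisymm
  · intro g hg
    rw [mem_stabilizer_iff]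
    by_contra hne
    obtain ⟨u, hu, hu1⟩ := hS.nontriv
    have hfix : ∀ s ∈ U, s • (g • ω₀) = g • ω₀ := by
      intro s hs
      have h1 : g⁻¹ * s * g ∈ U := by
        have := (Subgroup.mem_normalizer_iff.1 (Subgroup.inv_mem _ hg) s).1 hs
        simpa using this
      have h2 : (g⁻¹ * s * g) • ω₀ = ω₀ := hS.le h1
      rw [← mul_smul]
      have : s * g = g * (g⁻¹ * s * g) := by group
      rw [this, mul_smul, h2]
    obtain ⟨s, -, huniq⟩ := hS.reg (g • ω₀) (g • ω₀) hne hne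
    have e1 := huniq ⟨u, hu⟩ (hfix u hu)
    have e2 := huniq ⟨1, U.one_mem⟩ (hfix 1 U.one_mem)
    have : (⟨u, hu⟩ : U) = ⟨1, U.one_mem⟩ := e1.trans e2.symm
    exact hu1 (congrArg Subtype.val this)
  · rw [Subgroup.le_normalizer_iff]
    intro n hn x hx
    exact hS.conj n hn x hx

theorem quotient_two_pretransitive (ω₀ : Ω) (h2 : IsMultiplyPretransitive G Ω 2)
    (N : Subgroup G) (hN : N = stabilizer G ω₀) :
    IsMultiplyPretransitive G (G ⧸ N) 2 := by
  subst hN
  have hinj := injective_ofQuotientStabilizer G ω₀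
  have h2' : ∀ a b c d : Ω, a ≠ b → c ≠ d → ∃ g : G, g • a = c ∧ g • b = d :=
    fun a b c d hab hcd => (is_two_pretransitive_iff.1 h2) hab hcd
  rw [is_two_pretransitive_iff]
  intro a b c d hab hcd
  obtain ⟨g, hg1, hg2⟩ := h2' _ _ _ _ (hinj.ne hab) (hinj.ne hcd)
  refine ⟨g, hinj ?_, hinj ?_⟩
  · rw [ofQuotientStabilizer_smul, hg1]
  · rw [ofQuotientStabilizer_smul, hg2]

theorem quotient_regular (ω₀ : Ω) (U : Subgroup G)
    (hreg : ∀ x y : Ω, x ≠ ω₀ → y ≠ ω₀ → ∃! s : U, (s : G) • x = y)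
    (N : Subgroup G) (hN : N = stabilizer G ω₀) :
    ∀ x y : G ⧸ N, x ≠ QuotientGroup.mk 1 → y ≠ QuotientGroup.mk 1 →
      ∃! s : U, (s : G) • x = y := by
  subst hN
  have hinj := injective_ofQuotientStabilizer G ω₀
  have h1 : ofQuotientStabilizer G ω₀ (QuotientGroup.mk 1) = ω₀ := by
    rw [ofQuotientStabilizer_mk, one_smul]
  intro x y hx hy
  have hx' : ofQuotientStabilizer G ω₀ x ≠ ω₀ := by
    intro hx''
    apply hx
    apply hinj
    rw [hx'', h1]
  have hy' : ofQuotientStabilizer G ω₀ y ≠ ω₀ := by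
    intro hy''
    apply hy
    apply hinj
    rw [hy'', h1]
  obtain ⟨s, hs, huniq⟩ := hreg _ _ hx' hy'
  refine ⟨s, hinj ?_, ?_⟩
  · rw [ofQuotientStabilizer_smul]; exact hs
  · intro s' hs'
    apply huniq
    show (s' : G) • ofQuotientStabilizer G ω₀ x = ofQuotientStabilizer G ω₀ y
    rw [← ofQuotientStabilizer_smul, hs']

theorem Setup.main [Finite G] (hS : Setup G Ω ω₀ U)
    (hcard : Nat.card U = 2 ^ (Nat.card G).factorization 2) :
    ∃ S : Sylow 2 G, (S : Subgroup G) = U ∧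
      Subgroup.normalizer ((S : Subgroup G) : Set G) = stabilizer G ω₀ ∧
      IsMultiplyPretransitive G (G ⧸ Subgroup.normalizer ((S : Subgroup G) : Set G)) 2 ∧
      ∀ x y : G ⧸ Subgroup.normalizer ((S : Subgroup G) : Set G),
        x ≠ QuotientGroup.mk 1 → y ≠ QuotientGroup.mk 1 →
          ∃! s : (S : Subgroup G), (s : G) • x = y := by
  have : Fact (Nat.Prime 2) := ⟨Nat.prime_two⟩
  refine ⟨Sylow.ofCard U hcard, rfl, ?_, ?_, ?_⟩
  · exact hS.normalizer_eq
  · exact quotient_two_pretransitive ω₀ hS.two _ hS.normalizer_eq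
  · exact quotient_regular ω₀ U hS.reg _ hS.normalizer_eq

/-- Transport of the hypotheses along an isomorphism. -/
theorem Setup.transport (e : G ≃* G') (hS : Setup G Ω ω₀ U) :
    @Setup G' Ω _ (MulAction.compHom Ω (e.symm : G' →* G)) ω₀ (U.map e.toMonoidHom) := by
  let _ : MulAction G' Ω := MulAction.compHom Ω (e.symm : G' →* G)
  have hsmul : ∀ (g' : G') (x : Ω), g' • x = e.symm g' • x := fun _ _ => rfl
  refine ⟨?_, ?_, ?_, ?_, hS.ne, ?_⟩
  · have h2' : ∀ a b c d : Ω, a ≠ b → c ≠ d → ∃ g : G, g • a = c ∧ g • b = d :=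
      fun a b c d hab hcd => (is_two_pretransitive_iff.1 hS.two) hab hcd
    rw [is_two_pretransitive_iff]
    intro a b c d hab hcd
    obtain ⟨g, hg1, hg2⟩ := h2' _ _ _ _ hab hcd
    refine ⟨e g, ?_, ?_⟩
    · rw [hsmul, e.symm_apply_apply, hg1]
    · rw [hsmul, e.symm_apply_apply, hg2]
  · rintro _ ⟨u, hu, rfl⟩
    rw [mem_stabilizer_iff, hsmul]
    show e.symm (e u) • ω₀ = ω₀
    rw [e.symm_apply_apply]
    exact hS.le hu
  · rintro n hn _ ⟨u, hu, rfl⟩
    rw [mem_stabilizer_iff, hsmul] at hn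
    refine ⟨e.symm n * u * (e.symm n)⁻¹, hS.conj _ hn u hu, ?_⟩
    show e (e.symm n * u * (e.symm n)⁻¹) = n * e u * n⁻¹
    rw [map_mul, map_mul, map_inv, e.apply_symm_apply]
  · intro x y hx hy
    obtain ⟨s, hs, huniq⟩ := hS.reg x y hx hy
    refine ⟨⟨e s, ⟨s, s.2, rfl⟩⟩, ?_, ?_⟩
    · show (e (s : G)) • x = y
      rw [hsmul, e.symm_apply_apply]; exact hs
    · rintro ⟨_, u, hu, rfl⟩ hs'
      have hs'' : (e u) • x = y := hs'
      rw [hsmul, e.symm_apply_apply] at hs''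
      have := huniq ⟨u, hu⟩ hs''
      apply Subtype.ext
      show e u = e (s : G)
      rw [← this]
  · obtain ⟨u, hu, hu1⟩ := hS.nontriv
    refine ⟨e u, ⟨u, hu, rfl⟩, ?_⟩
    intro h1
    apply hu1
    apply e.injective
    rw [h1, map_one]

theorem stabilizer_compHom (e : G ≃* G') (ω₀ : Ω) :
    @stabilizer G' Ω _ (MulAction.compHom Ω (e.symm : G' →* G)) ω₀ =
      (stabilizer G ω₀).map e.toMonoidHom := by
  let _ : MulAction G' Ω := MulAction.compHom Ω (e.symm : G' →* G)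
  ext g'
  rw [Subgroup.mem_map_equiv, mem_stabilizer_iff, mem_stabilizer_iff]
  rfl

end Cfsg.Agent.Helper7.TwoTransSylow
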