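import Mathlib
import Cfsg.Agent.Helper7.SzOrder
import Cfsg.Agent.Helper7.SzZass
import Cfsg.Agent.Helper7.TwoTransSylow

set_option autoImplicit false
set_option linter.unusedSectionVars false

/-!
The Suzuki group on its ovoid satisfies the hypotheses of `TwoTransSylow.Setup`.
-/

namespace Cfsg.Agent.Helper7.Sz

open Matrix MulAction
open scoped Pointwise

variable {F : Type*} [Field F] [Fintype F] {m : ℕ}

theorem Hmat_mul_Tmat (h : FH F m) {t : F} (ht : t ≠ 0) (a b : F) :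
    Hmat m t * Tmat m a b = Tmat m (sg m t * a) (t * t * sg m t * b) * Hmat m t := by
  have hst : sg m t ≠ 0 := sg_ne_zero ht
  ext i j
  fin_cases i <;> fin_cases j <;>
    simp [Hmat, Tmat, Matrix.mul_apply, Fin.sum_univ_four, sg_mul, h.sg_sg] <;>
    field_simp

theorem Hel_mul_Tel (h : FH F m) {t : F} (ht : t ≠ 0) (a b : F) :
    Hel m t ht * Tel m a b = Tel m (sg m t * a) (t * t * sg m t * b) * Hel m t ht :=
  Subtype.ext (Hmat_mul_Tmat h ht a b)

/-- The unipotent subgroup. -/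
def Usub (h : FH F m) : Subgroup (Cfsg.Sz F m) where
  carrier := {x | ∃ a b : F, x = TelS h a b}
  mul_mem' := by
    rintro x y ⟨a, b, rfl⟩ ⟨c, d, rfl⟩
    exact ⟨a + c, b + d + sg m a * c, Subtype.ext (Tel_mul h a b c d)⟩
  one_mem' := ⟨0, 0, Subtype.ext Tel_zero.symm⟩
  inv_mem' := by
    rintro x ⟨a, b, rfl⟩
    exact ⟨a, b + sg m a * a, Subtype.ext (Tel_inv h a b)⟩

theorem mem_Usub (h : FH F m) (x : Cfsg.Sz F m) : x ∈ Usub h ↔ ∃ a b : F, x = TelS h a b := Iff.rfl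

/-- The parametrisation of the unipotent subgroup. -/
def UsubMap (h : FH F m) : F × F → Usub h := fun x => ⟨TelS h x.1 x.2, ⟨x.1, x.2, rfl⟩⟩

theorem UsubMap_bijective (h : FH F m) : Function.Bijective (UsubMap h) := by
  constructor
  · rintro ⟨a, b⟩ ⟨c, d⟩ e
    have e1 : Tel m a b = Tel m c d :=
      congrArg (fun z : Usub h => ((z : Cfsg.Sz F m) : Matrix.SpecialLinearGroup (Fin 4) F)) e
    obtain ⟨rfl, rfl⟩ := Tel_injective e1
    rfl
  · rintro ⟨x, a, b, rfl⟩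
    exact ⟨(a, b), rfl⟩

theorem card_Usub (h : FH F m) : Nat.card (Usub h) = Fintype.card F * Fintype.card F := by
  rw [← Nat.card_eq_of_bijective _ (UsubMap_bijective h), Nat.card_prod, Nat.card_eq_fintype_card]

/-- The point at infinity, as a point of the ovoid. -/
def ωinf (m : ℕ) : Cfsg.suzukiOvoid F m := ⟨Pinf, Pinf_mem m⟩

theorem smul_val (g : Cfsg.Sz F m) (p : Cfsg.suzukiOvoid F m) :
    ((g • p : Cfsg.suzukiOvoid F m) : Projectivization F (Fin 4 → F)) =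
      (g : Matrix.SpecialLinearGroup (Fin 4) F) • (p : Projectivization F (Fin 4 → F)) := rfl

theorem stabilizer_ωinf :
    stabilizer (Cfsg.Sz F m) (ωinf m : Cfsg.suzukiOvoid F m) =
      stabilizer (Cfsg.Sz F m) (Pinf : Projectivization F (Fin 4 → F)) := by
  ext g
  rw [mem_stabilizer_iff, mem_stabilizer_iff, Subtype.ext_iff, smul_val]
  rfl

theorem setup (h : FH F m) :
    TwoTransSylow.Setup (Cfsg.Sz F m) (Cfsg.suzukiOvoid F m) (ωinf m) (Usub h) := by
  refine ⟨(isZassenhaus h).2.1, ?_, ?_, ?_, ?_, ?_⟩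
  · rintro _ ⟨a, b, rfl⟩
    rw [mem_stabilizer_iff]
    apply Subtype.ext
    rw [smul_val]
    exact Tel_smul_Pinf a b
  · rintro ⟨n, hn⟩ hfix _ ⟨a, b, rfl⟩
    rw [stabilizer_ωinf, mem_stabilizer_iff] at hfix
    have hfix' : n • (Pinf : Projectivization F (Fin 4 → F)) = Pinf := hfix
    obtain ⟨c, d, t, ht, e⟩ := eq_Tel_mul_Hel h hn hfix'
    have key : n * Tel m a b * n⁻¹ =
        Tel m c d * Tel m (sg m t * a) (t * t * sg m t * b) * (Tel m c d)⁻¹ := by
      rw [e, _root_.mul_inv_rev, mul_assoc (Tel m c d), Hel_mul_Tel h ht]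
      group
    rw [Tel_inv h, Tel_mul h, Tel_mul h] at key
    exact ⟨_, _, Subtype.ext key⟩
  · intro x y hx hy
    obtain ⟨x, hxm⟩ := x
    obtain ⟨y, hym⟩ := y
    rcases (mem_ovoid_iff m x).1 hxm with rfl | ⟨x₁, x₂, rfl⟩
    · exact absurd rfl hx
    rcases (mem_ovoid_iff m y).1 hym with rfl | ⟨y₁, y₂, rfl⟩
    · exact absurd rfl hy
    refine ⟨⟨TelS h (x₁ + y₁) (x₂ + y₂ + sg m (x₁ + y₁) * x₁), ⟨_, _, rfl⟩⟩, ?_, ?_⟩
    · apply Subtype.ext
      show Tel m (x₁ + y₁) (x₂ + y₂ + sg m (x₁ + y₁) * x₁) • Ppt m x₁ x₂ = Ppt m y₁ y₂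
      rw [Tel_smul_Ppt h]
      congr 1
      · rw [← add_assoc, h.add_self, zero_add]
      · have : x₂ + (x₂ + y₂ + sg m (x₁ + y₁) * x₁) + sg m (x₁ + y₁) * x₁ =
            (x₂ + x₂) + y₂ + (sg m (x₁ + y₁) * x₁ + sg m (x₁ + y₁) * x₁) := by ring
        rw [this, h.add_self, h.add_self, zero_add, add_zero]
    · rintro ⟨_, a, b, rfl⟩ hs
      have hs' : Tel m a b • Ppt m x₁ x₂ = Ppt m y₁ y₂ := congrArg Subtype.val hs
      rw [Tel_smul_Ppt h] at hs'
      obtain ⟨e1, e2⟩ := Ppt_injective m hs'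
      have ea : a = x₁ + y₁ := by
        rw [← e1, ← add_assoc, h.add_self, zero_add]
      subst ea
      have eb : b = x₂ + y₂ + sg m (x₁ + y₁) * x₁ := by
        rw [← e2]
        have : x₂ + (x₂ + b + sg m (x₁ + y₁) * x₁) + sg m (x₁ + y₁) * x₁ =
            (x₂ + x₂) + b + (sg m (x₁ + y₁) * x₁ + sg m (x₁ + y₁) * x₁) := by ring
        rw [this, h.add_self, h.add_self, zero_add, add_zero]
      subst eb
      rfl
  · refine ⟨⟨Ppt m 0 0, Ppt_mem m 0 0⟩, ?_⟩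
    intro e
    exact Ppt_ne_Pinf m (0 : F) 0 (congrArg Subtype.val e)
  · refine ⟨TelS h 1 0, ⟨1, 0, rfl⟩, ?_⟩
    intro e
    have e1 : Tel m (1 : F) 0 = Tel m 0 0 := by
      rw [Tel_zero]
      exact congrArg Subtype.val e
    exact one_ne_zero (Tel_injective e1).1

end Cfsg.Agent.Helper7.Sz
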