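import Mathlib
import Cfsg.Agent.Helper7.SzSetup

set_option autoImplicit false
set_option linter.unusedSectionVars false

/-!
Fixed points of the elements of the Suzuki group on the ovoid.
-/

namespace Cfsg.Agent.Helper7.Sz

open Matrix MulAction
open scoped Pointwise

variable {F : Type*} [Field F] [Fintype F] {m : ℕ}

/-- The first column of an element fixing the point at infinity. -/
theorem entry_of_fix {g : Matrix.SpecialLinearGroup (Fin 4) F}
    (hg : g • (Pinf : Projectivization F (Fin 4 → F)) = Pinf) {k : Fin 4} (hk : k ≠ 0) :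
    (g : Matrix (Fin 4) (Fin 4) F) k 0 = 0 := by
  unfold Pinf at hg
  rw [smul_mk_eq_iff g vinf_ne_zero vinf_ne_zero] at hg
  obtain ⟨c, hc⟩ := hg
  have := congrFun hc k
  rw [mulVec_vinf_apply] at this
  rw [this]
  fin_cases k
  · exact absurd rfl hk
  · simp [vinf]
  · simp [vinf]
  · simp [vinf]

theorem mul_entry {A B : Matrix (Fin 4) (Fin 4) F} (hB : ∀ k : Fin 4, k ≠ 0 → B k 0 = 0) :
    (A * B) 0 0 = A 0 0 * B 0 0 := by
  rw [Matrix.mul_apply, Fin.sum_univ_four, hB 1 (by decide), hB 2 (by decide), hB 3 (by decide)]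
  ring

theorem Tmat_mul_Hmat_entry (a b t : F) : (Tmat m a b * Hmat m t) 0 0 = t * sg m t := by
  simp [Tmat, Hmat, Matrix.mul_apply, Fin.sum_univ_four]

theorem Tel_pow_four (h : FH F m) (a b : F) : Tel m a b ^ 4 = 1 := by
  have e : Tel m a b ^ 4 = (Tel m a b * Tel m a b) * (Tel m a b * Tel m a b) := by
    have := pow_add (Tel m a b) 2 2
    rw [pow_two] at this
    exact this
  rw [e, Tel_mul h, Tel_mul h, h.add_self, h.add_self, h.add_self, sg_zero, zero_mul, add_zero, Tel_zero]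

theorem Tel_mul_Hel_ne_one (a b : F) {t : F} (ht : t ≠ 0) (ht1 : t ≠ 1) :
    Tel m a b * Hel m t ht ≠ 1 := by
  intro e
  have e0 : Tmat m a b * Hmat m t = 1 := congrArg Subtype.val e
  have e1 := congrFun (congrFun e0 1) 1
  simp [Tmat, Hmat, Matrix.mul_apply, Fin.sum_univ_four] at e1
  exact ht1 e1

/-- An element of the stabiliser of the point at infinity outside the unipotent subgroup fixes an
affine point. -/
theorem exists_fixed_affine (h : FH F m) (a b : F) {t : F} (ht : t ≠ 0) (ht1 : t ≠ 1) :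
    ∃ x y : F, (Tel m a b * Hel m t ht) • Ppt m x y = Ppt m x y := by
  have h1 : 1 + sg m t ≠ 0 := by
    intro e
    have e1 : sg m t = 1 := (h.eq_of_add_eq_zero e).symm
    exact ht1 (h.sg_injective (by rw [e1, sg_one]))
  have h2 : 1 + sg m t * (t * t) ≠ 0 := by
    intro e
    have e1 : sg m t * (t * t) = 1 := (h.eq_of_add_eq_zero e).symm
    have e2 := congrArg (sg m) e1
    rw [sg_mul, sg_mul, h.sg_sg, sg_one] at e2
    have e3 : sg m t * t = 1 := by
      apply h.sq_injective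
      rw [one_mul]
      linear_combination e2
    exact ht1 (h.eq_one_of_sg_mul_self e3)
  obtain ⟨x, hx⟩ : ∃ x : F, x * (1 + sg m t) = a := ⟨a / (1 + sg m t), div_mul_cancel₀ a h1⟩
  obtain ⟨y, hy⟩ : ∃ y : F, y * (1 + sg m t * (t * t)) = b + sg m a * (sg m t * x) :=
    ⟨(b + sg m a * (sg m t * x)) / (1 + sg m t * (t * t)), div_mul_cancel₀ _ h2⟩
  refine ⟨x, y, ?_⟩
  rw [mul_smul, Hel_smul_Ppt h, Tel_smul_Ppt h]
  have h2' := h.two_eq_zero
  congr 1
  · linear_combination (-1 : F) * hx + (sg m t * x) * h2'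
  · linear_combination (-1 : F) * hy + (sg m t * (t * t) * y) * h2'

theorem Wmat_Hmat_Wmat' {t : F} (ht : t ≠ 0) :
    (Wmat : Matrix (Fin 4) (Fin 4) F) * Hmat m t * Wmat = Hmat m t⁻¹ := by
  have hs : sg m t ≠ 0 := sg_ne_zero ht
  ext i j
  rw [Wmat_conj_apply]
  fin_cases i <;> fin_cases j <;> simp [Hmat, Fin.rev, sg_inv, mul_comm]

theorem Wel_Hel_Wel {t : F} (ht : t ≠ 0) :
    (Wel : Matrix.SpecialLinearGroup (Fin 4) F) * Hel m t ht * Wel = Hel m t⁻¹ (inv_ne_zero ht) :=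
  Subtype.ext (Wmat_Hmat_Wmat' ht)

/-- An element interchanging the two base points. -/
theorem eq_Wel_mul_Hel (h : FH F m) {g : Matrix.SpecialLinearGroup (Fin 4) F}
    (hg : g ∈ Cfsg.Sz F m) (h1 : g • (Pinf : Projectivization F (Fin 4 → F)) = Ppt m 0 0)
    (h2 : g • Ppt m (0 : F) 0 = Pinf) : ∃ t : F, ∃ ht : t ≠ 0, g = Wel * Hel m t ht := by
  have hg' : Wel * g ∈ Cfsg.Sz F m := Subgroup.mul_mem _ (Wel_mem h) hg
  have e1 : (Wel * g) • (Pinf : Projectivization F (Fin 4 → F)) = Pinf := by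
    rw [mul_smul, h1, Wel_smul_Ppt_zero]
  have e2 : (Wel * g) • Ppt m (0 : F) 0 = Ppt m 0 0 := by
    rw [mul_smul, h2, Wel_smul_Pinf]
  obtain ⟨t, ht, e⟩ := eq_Hel h hg' e1 e2
  refine ⟨t, ht, ?_⟩
  rw [← e, ← mul_assoc, Wel_mul_Wel, one_mul]

theorem Wel_mul_Hel_sq {t : F} (ht : t ≠ 0) :
    (Wel * Hel m t ht) * (Wel * Hel m t ht) = 1 := by
  have : (Wel * Hel m t ht) * (Wel * Hel m t ht) = (Wel * Hel m t ht * Wel) * Hel m t ht := by group
  rw [this, Wel_Hel_Wel, Hel_mul]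
  have e : t⁻¹ * t = 1 := inv_mul_cancel₀ ht
  have : Hel m (t⁻¹ * t) (mul_ne_zero (inv_ne_zero ht) ht) = Hel m 1 one_ne_zero := by
    congr 1
  rw [this, Hel_one]

end Cfsg.Agent.Helper7.Sz
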