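import Mathlib
import Cfsg.Agent.Helper7.SzOrder

set_option autoImplicit false

/-!
The Sylow 2-subgroups of the Suzuki group: a group on `F × F` with the multiplication
`(a, b) (c, d) = (a + c, b + d + σ a c)`.
-/

namespace Cfsg.Agent.Helper7.Sz

open Matrix MulAction
open scoped commutatorElement

variable {F : Type*} [Field F] [Fintype F] {m : ℕ}

set_option linter.unusedSectionVars false

section abstract

variable {P : Type*} [Group P] (τ : F × F → P)

/-- The multiplication law of a Suzuki 2-group of type `A(m, σ)`. -/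
def SuzLaw (m : ℕ) (τ : F × F → P) : Prop :=
  ∀ a b c d : F, τ (a, b) * τ (c, d) = τ (a + c, b + d + sg m a * c)

variable {τ}

theorem SuzLaw.one (hl : SuzLaw m τ) : τ (0, 0) = 1 := by
  have := hl 0 0 0 0
  simp only [add_zero, mul_zero] at this
  exact mul_eq_left.1 this

theorem SuzLaw.sq (h : FH F m) (hl : SuzLaw m τ) (a b : F) :
    τ (a, b) * τ (a, b) = τ (0, sg m a * a) := by
  rw [hl, h.add_self, h.add_self, zero_add]

theorem SuzLaw.comm_formula (h : FH F m) (hl : SuzLaw m τ) (a b c d : F) :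
    ⁅τ (a, b), τ (c, d)⁆ = τ (0, sg m a * c + sg m c * a) := by
  have e1 : τ (a, b) * τ (c, d) = τ (0, sg m a * c + sg m c * a) * (τ (c, d) * τ (a, b)) := by
    rw [hl, hl, hl, sg_zero, zero_mul, add_zero, zero_add]
    congr 1
    have : sg m a * c + sg m c * a + (d + b + sg m c * a) =
        b + d + sg m a * c + (sg m c * a + sg m c * a) := by ring
    rw [add_comm c a, this, h.add_self, add_zero]
  rw [commutatorElement_def]
  calc τ (a, b) * τ (c, d) * (τ (a, b))⁻¹ * (τ (c, d))⁻¹
      = τ (0, sg m a * c + sg m c * a) * (τ (c, d) * τ (a, b)) * (τ (a, b))⁻¹ * (τ (c, d))⁻¹ := by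
        rw [e1]
    _ = τ (0, sg m a * c + sg m c * a) := by group

/-- Every element of `F` has the form `σ a c + σ c a`. -/
theorem exists_comm_form (h : FH F m) (v : F) : ∃ a c : F, sg m a * c + sg m c * a = v := by
  obtain ⟨c₀, hc0, hc1⟩ : ∃ b : F, b ≠ 0 ∧ b ≠ 1 := by
    classical
    by_contra hcon
    have h2 : ∀ x : F, x = 0 ∨ x = 1 := by
      intro x
      by_contra hx
      rw [not_or] at hx
      exact hcon ⟨x, hx.1, hx.2⟩
    have h3 : Fintype.card F ≤ 2 := by
      have : (Finset.univ : Finset F) ⊆ {0, 1} := by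
        intro x _
        rcases h2 x with e | e
        · rw [e]; simp
        · rw [e]; simp
      calc Fintype.card F = (Finset.univ : Finset F).card := Finset.card_univ.symm
        _ ≤ ({0, 1} : Finset F).card := Finset.card_le_card this
        _ ≤ 2 := Finset.card_le_two
    have := h.card_ge
    omega
  have hv0 : c₀ + sg m c₀ ≠ 0 := by
    intro e
    have : sg m c₀ = c₀ := (h.eq_of_add_eq_zero e).symm
    rcases h.sg_eq_self this with e' | e'
    · exact hc0 e'
    · exact hc1 e'
  by_cases hv : v = 0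
  · exact ⟨0, 0, by rw [hv, sg_zero]; ring⟩
  · obtain ⟨k, hk0, hk⟩ := h.exists_sg_mul_self (div_ne_zero hv hv0)
    refine ⟨k, k * c₀, ?_⟩
    rw [sg_mul]
    have : sg m k * (k * c₀) + sg m k * sg m c₀ * k = (sg m k * k) * (c₀ + sg m c₀) := by ring
    rw [this, hk, div_mul_cancel₀ _ hv0]

theorem SuzLaw.mem_center_iff (h : FH F m) (hl : SuzLaw m τ) (hτ : Function.Bijective τ)
    (x : P) : x ∈ Subgroup.center P ↔ ∃ v : F, x = τ (0, v) := by
  obtain ⟨⟨a, b⟩, rfl⟩ := hτ.2 x
  rw [Subgroup.mem_center_iff]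
  constructor
  · intro hc
    refine ⟨b, ?_⟩
    by_contra hne
    have ha : a ≠ 0 := by
      intro e
      apply hne
      rw [e]
    -- commute with `τ (1, 0)`
    have e1 := hc (τ (1, 0))
    rw [hl, hl] at e1
    have e2 := Prod.mk.inj (hτ.1 e1)
    have e3 : sg m a = a := by
      have := e2.2
      rw [sg_one, one_mul, mul_one] at this
      have h4 : (0 : F) + b + a = b + 0 + sg m a := this
      have : a = sg m a := by linear_combination h4
      exact this.symm
    have ha1 : a = 1 := by
      rcases h.sg_eq_self e3 with e' | e'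
      · exact absurd e' ha
      · exact e'
    subst ha1
    -- then `σ` is the identity
    obtain ⟨x₀, hx₀⟩ := h.exists_sg_ne_sq
    have e4 := hc (τ (x₀, 0))
    rw [hl, hl] at e4
    have e5 := (Prod.mk.inj (hτ.1 e4)).2
    rw [sg_one, one_mul, mul_one] at e5
    have e6 : sg m x₀ = x₀ := by linear_combination e5
    rcases h.sg_eq_self e6 with e' | e'
    · apply hx₀
      rw [e', sg_zero, mul_zero]
    · apply hx₀
      rw [e', sg_one, mul_one]
  · rintro ⟨v, hv⟩
    have e := Prod.mk.inj (hτ.1 hv)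
    obtain ⟨rfl, rfl⟩ := e
    intro y
    obtain ⟨⟨c, d⟩, rfl⟩ := hτ.2 y
    rw [hl, hl, sg_zero, zero_mul, mul_zero]
    simp only [add_zero, zero_add, add_comm d b]

/-- The structure of a group with the Suzuki multiplication law. -/
theorem SuzLaw.structure (h : FH F m) (hl : SuzLaw m τ) (hτ : Function.Bijective τ) :
    Nat.card P = Fintype.card F ^ 2 ∧ Monoid.exponent P = 4 ∧
      Subgroup.center P = commutator P ∧ Nat.card (Subgroup.center P) = Fintype.card F := by
  refine ⟨?_, ?_, ?_, ?_⟩
  · rw [← Nat.card_eq_of_bijective τ hτ, Nat.card_prod, Nat.card_eq_fintype_card, pow_two]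
  · -- exponent
    have h4 : ∀ x : P, x ^ 4 = 1 := by
      intro x
      obtain ⟨⟨a, b⟩, rfl⟩ := hτ.2 x
      have : τ (a, b) ^ 4 = (τ (a, b) * τ (a, b)) * (τ (a, b) * τ (a, b)) := by
        rw [show (4 : ℕ) = 2 + 2 by norm_num, pow_add, pow_two]
      rw [this, hl.sq h, hl.sq h, sg_zero, zero_mul, hl.one]
    have hd : Monoid.exponent P ∣ 4 := Monoid.exponent_dvd_of_forall_pow_eq_one h4
    have hnd : ¬ Monoid.exponent P ∣ 2 := by
      intro h2
      have e1 : τ ((1 : F), (0 : F)) ^ 2 = 1 := by
        obtain ⟨k, hk⟩ := h2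
        rw [hk, pow_mul, Monoid.pow_exponent_eq_one, one_pow]
      rw [pow_two, hl.sq h, sg_one, mul_one, ← hl.one] at e1
      have := Prod.mk.inj (hτ.1 e1)
      exact one_ne_zero this.2
    have h22 : (4 : ℕ) = 2 ^ 2 := by norm_num
    rw [h22] at hd
    obtain ⟨k, hk2, hk⟩ := (Nat.dvd_prime_pow Nat.prime_two).1 hd
    interval_cases k
    · exfalso
      apply hnd
      rw [hk]
      norm_num
    · exfalso
      apply hnd
      rw [hk]
      norm_num
    · rw [hk]
      norm_num
  · -- centre and commutator subgroup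
    apply le_antisymm
    · intro x hx
      obtain ⟨v, rfl⟩ := (hl.mem_center_iff h hτ x).1 hx
      obtain ⟨a, c, e⟩ := exists_comm_form h v
      rw [← e, ← hl.comm_formula h a 0 c 0]
      exact Subgroup.commutator_mem_commutator (Subgroup.mem_top _) (Subgroup.mem_top _)
    · rw [commutator_def, Subgroup.commutator_le]
      intro x _ y _
      obtain ⟨⟨a, b⟩, rfl⟩ := hτ.2 x
      obtain ⟨⟨c, d⟩, rfl⟩ := hτ.2 y
      rw [hl.comm_formula h, hl.mem_center_iff h hτ]
      exact ⟨_, rfl⟩
  · -- order of the centre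
    let φ : F → Subgroup.center P := fun v => ⟨τ (0, v), (hl.mem_center_iff h hτ _).2 ⟨v, rfl⟩⟩
    have hφ : Function.Bijective φ := by
      constructor
      · intro v w e
        have e1 : τ (0, v) = τ (0, w) := congrArg Subtype.val e
        exact (Prod.mk.inj (hτ.1 e1)).2
      · rintro ⟨x, hx⟩
        obtain ⟨v, rfl⟩ := (hl.mem_center_iff h hτ x).1 hx
        exact ⟨v, rfl⟩
    rw [← Nat.card_eq_of_bijective φ hφ, Nat.card_eq_fintype_card]

end abstract

end Cfsg.Agent.Helper7.Sz
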