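import Mathlib
import Cfsg.Agent.Helper7.ZassNormal

set_option autoImplicit false

/-!
Zassenhaus groups of odd degree: involutions have exactly one fixed point; the group is simple.
-/

namespace Cfsg.Agent.Helper7.Zass

open MulAction
open scoped Pointwise

variable {G Ω : Type*} [Group G] [MulAction G Ω]

/-- On a set of odd size an involution (in a group where only the identity fixes three points)
has exactly one fixed point. -/
theorem exists_unique_fixed [Fintype Ω] (hP : P3 G Ω) (hodd : Odd (Fintype.card Ω)) {x : G}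
    (hx2 : x * x = 1) (hx1 : x ≠ 1) : ∃ c : Ω, x • c = c ∧ ∀ d, x • d = d → d = c := by
  classical
  let f : Function.End Ω := fun y => x • y
  have hf : f ^ 2 ^ 1 = 1 := by
    rw [pow_one, pow_two]
    funext y
    show x • (x • y) = y
    rw [← mul_smul, hx2, one_smul]
  have hmod := Equiv.Perm.card_fixedPoints_modEq (p := 2) (n := 1) hf
  set S : Finset Ω := Finset.univ.filter (fun y => x • y = y) with hS
  have hcard : Fintype.card (Function.fixedPoints f) = S.card := by
    apply Fintype.card_of_subtype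
    intro y
    rw [hS, Finset.mem_filter]
    constructor
    · intro h
      exact h.2
    · intro h
      exact ⟨Finset.mem_univ _, h⟩
  rw [hcard] at hmod
  have hSodd : Odd S.card := by
    rw [Nat.odd_iff] at hodd ⊢
    rw [← hodd]
    exact hmod.symm
  have hSne : S.Nonempty := by
    rw [Finset.nonempty_iff_ne_empty]
    intro e
    rw [e, Finset.card_empty] at hSodd
    exact (Nat.not_odd_iff_even.2 (by decide)) hSodd
  obtain ⟨c, hc⟩ := hSne
  have hmemS : ∀ y, y ∈ S ↔ x • y = y := by
    intro y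
    rw [hS, Finset.mem_filter]
    simp
  refine ⟨c, (hmemS c).1 hc, ?_⟩
  intro d hd
  by_contra hdc
  have hdS : d ∈ S := (hmemS d).2 hd
  have hd' : d ∈ S.erase c := Finset.mem_erase.2 ⟨hdc, hdS⟩
  have h1 : ((S.erase c).erase d).card + 2 = S.card := by
    rw [Finset.card_erase_of_mem hd', Finset.card_erase_of_mem hc]
    have : 2 ≤ S.card := by
      have := Finset.card_pos.2 ⟨d, hd'⟩
      rw [Finset.card_erase_of_mem hc] at this
      omega
    omega
  have h2 : ((S.erase c).erase d).Nonempty := by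
    rw [Finset.nonempty_iff_ne_empty]
    intro e
    rw [e, Finset.card_empty] at h1
    rw [← h1] at hSodd
    exact (Nat.not_odd_iff_even.2 (by decide)) hSodd
  obtain ⟨e, he⟩ := h2
  rw [Finset.mem_erase, Finset.mem_erase] at he
  obtain ⟨hed, hec, heS⟩ := he
  exact hx1 (hP x c d e (Ne.symm hdc) (Ne.symm hed) (Ne.symm hec) ((hmemS c).1 hc) hd
    ((hmemS e).1 heS))

theorem odd_pow_swap {g : G} {a b : Ω} (hga : g • a = b) (hgb : g • b = a) (k : ℕ) :
    g ^ (2 * k + 1) • a = b ∧ g ^ (2 * k + 1) • b = a := by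
  induction k with
  | zero => simpa using ⟨hga, hgb⟩
  | succ k ih =>
    have e : g ^ (2 * (k + 1) + 1) = g ^ (2 * k + 1) * g * g := by
      rw [mul_assoc, ← pow_two, ← pow_add]
      congr 1
    rw [e]
    simp only [mul_smul, hga, hgb]
    exact ih

theorem even_pow_fix {g : G} {a : Ω} (hga : g • a = a) (k : ℕ) : g ^ k • a = a := by
  induction k with
  | zero => simp
  | succ k ih => rw [pow_succ, mul_smul, hga, ih]

/-- A Zassenhaus group of odd degree has no proper non-trivial normal subgroup. -/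
theorem eq_top_of_odd [Fintype Ω] [Finite G] [FaithfulSMul G Ω] (h : ZHyp G Ω)
    (hodd : Odd (Fintype.card Ω)) {N : Subgroup G} [hN : N.Normal] (hN1 : N ≠ ⊥) : N = ⊤ := by
  obtain ⟨g₀, hg₀1, a, b, hab, -, -⟩ := h.fix2
  obtain ⟨g, hga, hgb⟩ := h.t2 a b b a hab hab.symm
  -- no involution fixes two points
  have noinv : ∀ t : G, t * t = 1 → t • a = a → t • b = b → t = 1 := by
    intro t ht2 hta htb
    by_contra ht1
    obtain ⟨c, -, hc⟩ := exists_unique_fixed h.p3 hodd ht2 ht1
    exact hab ((hc a hta).trans (hc b htb).symm)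
  have hgga : (g * g) • a = a := by rw [mul_smul, hga, hgb]
  have hggb : (g * g) • b = b := by rw [mul_smul, hgb, hga]
  have hrpos : 0 < orderOf (g * g) := orderOf_pos _
  have hrodd : Odd (orderOf (g * g)) := by
    rw [← Nat.not_even_iff_odd]
    rintro ⟨s, hs⟩
    have hspos : 0 < s := by omega
    have h1 : (g * g) ^ s * (g * g) ^ s = 1 := by
      rw [← pow_add, ← hs, pow_orderOf_eq_one]
    have h2 := noinv _ h1 (even_pow_fix hgga s) (even_pow_fix hggb s)
    have h3 := orderOf_dvd_of_pow_eq_one h2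
    have := Nat.le_of_dvd hspos h3
    omega
  obtain ⟨k, hk⟩ := hrodd
  set v := g ^ (2 * k + 1) with hv
  obtain ⟨hva, hvb⟩ : v • a = b ∧ v • b = a := odd_pow_swap hga hgb k
  have hv2 : v * v = 1 := by
    rw [hv, ← pow_add]
    have : 2 * k + 1 + (2 * k + 1) = 2 * (2 * k + 1) := by ring
    rw [this, pow_mul, pow_two, ← hk, pow_orderOf_eq_one]
  have hv1 : v ≠ 1 := by
    intro e
    rw [e, one_smul] at hva
    exact hab hva
  have hvinv : v⁻¹ = v := inv_eq_of_mul_eq_one_right hv2
  obtain ⟨c, hvc, hc⟩ := exists_unique_fixed h.p3 hodd hv2 hv1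
  have hvN : v ∈ N := by
    apply Kset_subset h hN1 c
    refine ⟨hvc, Or.inr ?_⟩
    intro d hd hvd
    exact hd (hc d hvd)
  have hca : c ≠ a := by
    intro e
    rw [e, hva] at hvc
    exact hab hvc.symm
  have hcb : c ≠ b := by
    intro e
    rw [e, hvb] at hvc
    exact hab hvc
  -- the two-point stabiliser lies in `N`
  have hmem : ∀ x ∈ stabilizer G a ⊓ stabilizer G b,
      x * v * x⁻¹ * v⁻¹ ∈ (stabilizer G a ⊓ stabilizer G b) ⊓ N := by
    intro x hx
    obtain ⟨hxa, hxb⟩ := Subgroup.mem_inf.1 hx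
    rw [mem_stabilizer_iff] at hxa hxb
    have hxa' : x⁻¹ • a = a := by rw [inv_smul_eq_iff, hxa]
    have hxb' : x⁻¹ • b = b := by rw [inv_smul_eq_iff, hxb]
    refine ⟨Subgroup.mem_inf.2 ⟨?_, ?_⟩, ?_⟩
    · rw [mem_stabilizer_iff, hvinv, mul_smul, mul_smul, mul_smul, hva, hxb', hvb, hxa]
    · rw [mem_stabilizer_iff, hvinv, mul_smul, mul_smul, mul_smul, hvb, hxa', hva, hxb]
    · exact N.mul_mem (hN.conj_mem v hvN x) (N.inv_mem hvN)
  let φ : (stabilizer G a ⊓ stabilizer G b : Subgroup G) →
      ((stabilizer G a ⊓ stabilizer G b) ⊓ N : Subgroup G) :=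
    fun x => ⟨x * v * (x : G)⁻¹ * v⁻¹, hmem x x.2⟩
  have hinj : Function.Injective φ := by
    intro x y hxy
    have h1 : (x : G) * v * (x : G)⁻¹ * v⁻¹ = y * v * (y : G)⁻¹ * v⁻¹ := congrArg Subtype.val hxy
    have h2 : (x : G) * v * (x : G)⁻¹ = y * v * (y : G)⁻¹ := mul_right_cancel h1
    set z : G := (y : G)⁻¹ * x with hz
    have hzv : z * v = v * z := by
      have : v = (y : G)⁻¹ * ((x : G) * v * (x : G)⁻¹) * y := by rw [h2]; group
      calc z * v = (y : G)⁻¹ * ((x : G) * v * (x : G)⁻¹) * y * z := by rw [hz]; group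
        _ = v * z := by rw [← this]
    have hzc : z • c = c := by
      apply hc
      rw [← mul_smul, ← hzv, mul_smul, hvc]
    have hxm := Subgroup.mem_inf.1 x.2
    have hym := Subgroup.mem_inf.1 y.2
    have hza : z • a = a := by
      have h3 : (x : G) • a = a := hxm.1
      have h4 : (y : G) • a = a := hym.1
      rw [hz, mul_smul, h3, inv_smul_eq_iff, h4]
    have hzb : z • b = b := by
      have h3 : (x : G) • b = b := hxm.2
      have h4 : (y : G) • b = b := hym.2
      rw [hz, mul_smul, h3, inv_smul_eq_iff, h4]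
    have hz1 : z = 1 := h.p3 z a b c hab (Ne.symm hcb) (Ne.symm hca) hza hzb hzc
    apply Subtype.ext
    have : (x : G) = y * z := by rw [hz]; group
    rw [this, hz1, mul_one]
  have hcard := Nat.card_le_card_of_injective φ hinj
  have heq : ((stabilizer G a ⊓ stabilizer G b) ⊓ N : Subgroup G) =
      stabilizer G a ⊓ stabilizer G b :=
    Subgroup.eq_of_le_of_card_ge inf_le_left hcard
  have hHN : stabilizer G a ⊓ stabilizer G b ≤ N := by
    rw [← heq]
    exact inf_le_right
  exact eq_top_of_stabilizer_le h.t2 hN1 (stabilizer_le h hN1 hab hHN)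

end Cfsg.Agent.Helper7.Zass
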