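import Mathlib
import Cfsg.Agent.Helper7.ChevFix3
import Cfsg.Agent.Helper7.ChevGood3
import Cfsg.Agent.Helper7.ChevT0
import Cfsg.Agent.Helper7.ChevT5
import Cfsg.Agent.Helper7.ChevT6
import Cfsg.Agent.Helper7.ChevT7
import Cfsg.Agent.Helper7.ChevT9
import Cfsg.Agent.Helper7.ChevT17

set_option autoImplicit false

/-!
The statements S2662, S2663 and S2664.
-/

namespace Cfsg.Agent.Helper7.Chev

open Cfsg Cfsg.Lie Matrix

theorem chev_S2664 {F : Type*} [Field F] [Fintype F]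
    (φ : MulAut ↥(chevG2.group F)) (hφ : chevG2.IsFieldAut φ) (r : ℕ) (hr : r.Prime)
    (ho : orderOf φ = r) :
    ∃ (F₀ : Type) (_ : Field F₀) (_ : Fintype F₀), Fintype.card F = Fintype.card F₀ ^ r ∧
      Nonempty (↥((MulEquiv.toMonoidHom φ).eqLocus (MonoidHom.id ↥(chevG2.group F))) ≃*
        ↥(chevG2.group F₀)) :=
  fieldAut_fixed_points good3_G2.toGood2 T0_G2 good3_G2.t3 good3_G2.t4 T5_G2 T6_G2 T7_G2 T8_G2 T9_G2
    T17_G2 (by decide) (by decide) φ hφ r hr ho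

theorem chev_S2663 {F : Type*} [Field F] [Fintype F]
    (φ : MulAut ↥(chevF4.group F)) (hφ : chevF4.IsFieldAut φ) (r : ℕ) (hr : r.Prime)
    (ho : orderOf φ = r) :
    ∃ (F₀ : Type) (_ : Field F₀) (_ : Fintype F₀), Fintype.card F = Fintype.card F₀ ^ r ∧
      Nonempty (↥((MulEquiv.toMonoidHom φ).eqLocus (MonoidHom.id ↥(chevF4.group F))) ≃*
        ↥(chevF4.group F₀)) :=
  fieldAut_fixed_points good3_F4.toGood2 T0_F4 good3_F4.t3 good3_F4.t4 T5_F4 T6_F4 T7_F4 T8_F4 T9_F4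
    T17_F4 (by decide) (by decide) φ hφ r hr ho

theorem chev_S2662 {F : Type*} [Field F] [Fintype F]
    (φ : MulAut ↥(chevE8.group F)) (hφ : chevE8.IsFieldAut φ) (r : ℕ) (hr : r.Prime)
    (ho : orderOf φ = r) :
    ∃ (F₀ : Type) (_ : Field F₀) (_ : Fintype F₀), Fintype.card F = Fintype.card F₀ ^ r ∧
      Nonempty (↥((MulEquiv.toMonoidHom φ).eqLocus (MonoidHom.id ↥(chevE8.group F))) ≃*
        ↥(chevE8.group F₀)) :=
  fieldAut_fixed_points good3_E8.toGood2 T0_E8 good3_E8.t3 good3_E8.t4 T5_E8 T6_E8 T7_E8 T8_E8 T9_E8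
    T17_E8 (by decide) (by decide) φ hφ r hr ho

end Cfsg.Agent.Helper7.Chev
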