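import Mathlib
import Cfsg.Agent.Helper7.ChevBruhat

set_option autoImplicit false
set_option linter.unusedSectionVars false
set_option linter.unusedVariables false

/-!
Elements of `H` conjugate in the Chevalley group are conjugate under `N`.
-/

namespace Cfsg.Agent.Helper7.Chev

open Cfsg Cfsg.Lie Matrix DoubleCoset
open scoped Pointwise

variable {D : ChevalleyDatum} {F : Type*} [Field F]

section hconj

variable (hG : Good2 D) (hT : T0 D) (h3 : (tabOf D).T3) (h4 : (tabOf D).T4 60) (h5 : (tabOf D).T5)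
  (h6 : (tabOf D).T6) (h8 : (tabOf D).T8) (h9 : (tabOf D).T9)

include hG hT h3 h4 h5 h6 h8 h9 in
theorem diagonal_conj_in_monomial {h₁ h₂ g : GL D.Idx F} (h1 : h₁ ∈ D.diagonalSubgroup F)
    (h2 : h₂ ∈ D.diagonalSubgroup F) (hg : g ∈ D.group F) (hc : g * h₁ * g⁻¹ = h₂) :
    ∃ n ∈ D.monomialSubgroup F, n * h₁ * n⁻¹ = h₂ := by
  have hG1 := hG.toGood1
  have hUB : D.posUnipotent F ≤ D.borelSubgroup F := le_sup_left
  have hHB : D.diagonalSubgroup F ≤ D.borelSubgroup F := le_sup_right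
  obtain ⟨hex, huniq⟩ := bruhat_normal_form (F := F) hG hT h3 h4 h5 h6 h8 h9
  obtain ⟨b, hb, n, hn, u, hu, e⟩ := hex g hg
  refine ⟨n, hn, ?_⟩
  have hnNorm := monomialSubgroup_le_normalizer hG hn
  have hnh : n * h₁ * n⁻¹ ∈ D.diagonalSubgroup F := conj_mem_diagonal hnNorm h1
  -- `h₁⁻¹ u h₁ ∈ U_n⁻`
  have hu'' : h₁⁻¹ * u * h₁⁻¹⁻¹ ∈ Subgroup.closure (minusGen' D F n) := by
    refine conj_closure_le h₁⁻¹ ?_ u hu
    rintro x ⟨r, t, hr, hle, hx⟩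
    have hr' := hr.1
    have hx' : x = xGL hG1 hr' t := eq_xGL hG1 hr' hx
    obtain ⟨t', ht'⟩ := diagonal_conj_xGL hG (inv_mem h1) hr' t
    rw [hx', ht']
    exact Subgroup.subset_closure ⟨r, t', hr, hle, xGL_coe hG1 hr' t'⟩
  have e1 : b * (n * h₁ * n⁻¹) * n * (h₁⁻¹ * u * h₁⁻¹⁻¹) = h₂ * b * n * u := by
    have hc' : g * h₁ = h₂ * g := by rw [← hc]; group
    calc b * (n * h₁ * n⁻¹) * n * (h₁⁻¹ * u * h₁⁻¹⁻¹) = (b * n * u) * h₁ := by group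
      _ = g * h₁ := by rw [e]
      _ = h₂ * g := hc'
      _ = h₂ * (b * n * u) := by rw [e]
      _ = _ := by group
  obtain ⟨-, huq⟩ := huniq (b * (n * h₁ * n⁻¹)) (h₂ * b) n n (h₁⁻¹ * u * h₁⁻¹⁻¹) u
    (mul_mem hb (hHB hnh)) (mul_mem (hHB h2) hb) hn hn hu'' hu e1
  obtain ⟨hbb, -⟩ := huq rfl
  -- `b = u_b h_b`
  have hmul := Subgroup.coe_mul_of_right_le_normalizer_left (D.posUnipotent F)
    (D.diagonalSubgroup F) (diagonalSubgroup_le_normalizer_pos hG)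
  obtain ⟨ub, hub, hb', hhb', rfl⟩ : b ∈ (D.posUnipotent F : Set (GL D.Idx F)) *
      (D.diagonalSubgroup F : Set (GL D.Idx F)) := by
    rw [← hmul]; exact hb
  have hcomm : ∀ a ∈ D.diagonalSubgroup F, ∀ c ∈ D.diagonalSubgroup F, a * c = c * a :=
    diagonalSubgroup_comm hG1
  set k := n * h₁ * n⁻¹ with hk
  -- `k h₂⁻¹ ∈ U ∩ H`
  have e2 : k * h₂⁻¹ = hb'⁻¹ * (ub⁻¹ * (h₂ * ub * h₂⁻¹)) * hb'⁻¹⁻¹ := by
    have e3 : k = (ub * hb')⁻¹ * (h₂ * (ub * hb')) := by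
      rw [← hbb]; group
    have c1 : hb' * h₂ = h₂ * hb' := hcomm _ hhb' _ h2
    calc k * h₂⁻¹ = (ub * hb')⁻¹ * (h₂ * (ub * hb')) * h₂⁻¹ := by rw [e3]
      _ = hb'⁻¹ * ub⁻¹ * h₂ * ub * (hb' * h₂⁻¹) := by group
      _ = hb'⁻¹ * ub⁻¹ * h₂ * ub * (h₂⁻¹ * hb') := by
          have : hb' * h₂⁻¹ = h₂⁻¹ * hb' := by
            rw [eq_inv_mul_iff_mul_eq, ← mul_assoc, ← c1, mul_assoc, mul_inv_cancel, mul_one]
          rw [this]
      _ = _ := by group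
  have hU : k * h₂⁻¹ ∈ D.posUnipotent F := by
    rw [e2]
    have hn2 := diagonalSubgroup_le_normalizer_pos hG h2
    have hn3 := diagonalSubgroup_le_normalizer_pos hG (inv_mem hhb')
    have : ub⁻¹ * (h₂ * ub * h₂⁻¹) ∈ D.posUnipotent F :=
      mul_mem (inv_mem hub) ((Subgroup.mem_set_normalizer_iff.mp hn2 _).mp hub)
    exact (Subgroup.mem_set_normalizer_iff.mp hn3 _).mp this
  have hH : k * h₂⁻¹ ∈ D.diagonalSubgroup F := mul_mem hnh (inv_mem h2)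
  have : k * h₂⁻¹ ∈ D.posUnipotent F ⊓ D.diagonalSubgroup F := ⟨hU, hH⟩
  rw [posUnipotent_inf_diagonal hG hT, Subgroup.mem_bot] at this
  exact mul_inv_eq_one.mp this

end hconj

end Cfsg.Agent.Helper7.Chev
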