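import Mathlib
import Cfsg.Prelude.Def_ClassicalGeometry

set_option autoImplicit false

/-!
Basic algebra of the standard Hermitian form `Σ x_i y_i^q` over a field with `q²` elements.
-/

namespace Cfsg.Agent.Helper7.Herm

open Matrix Cfsg

variable {F : Type*} [Field F] [Fintype F] {q : ℕ}

theorem exists_char_pow (hF : Fintype.card F = q ^ 2) :
    ∃ (p k : ℕ), p.Prime ∧ CharP F p ∧ q = p ^ k := by
  obtain ⟨p, hp⟩ := CharP.exists F
  obtain ⟨n, hpp, hn⟩ := FiniteField.card F p
  have hdvd : q ∣ p ^ (n : ℕ) := by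
    rw [← hn, hF]; exact Dvd.intro_left (q ^ 1) (by ring)
  obtain ⟨k, _, hk⟩ := (Nat.dvd_prime_pow hpp).mp hdvd
  exact ⟨p, k, hpp, hp, hk⟩

theorem one_le_q (hF : Fintype.card F = q ^ 2) : 1 ≤ q := by
  by_contra h
  have : q = 0 := by omega
  rw [this] at hF
  have := Fintype.card_pos (α := F)
  omega

theorem add_pow_q (hF : Fintype.card F = q ^ 2) (a b : F) : (a + b) ^ q = a ^ q + b ^ q := by
  obtain ⟨p, k, hp, hc, rfl⟩ := exists_char_pow hF
  haveI : Fact p.Prime := ⟨hp⟩
  exact add_pow_char_pow a b p k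

theorem sum_pow_q (hF : Fintype.card F = q ^ 2) {ι : Type*} (s : Finset ι) (f : ι → F) :
    (∑ i ∈ s, f i) ^ q = ∑ i ∈ s, f i ^ q := by
  obtain ⟨p, k, hp, hc, rfl⟩ := exists_char_pow hF
  haveI : Fact p.Prime := ⟨hp⟩
  exact sum_pow_char_pow p k s f

theorem pow_q_pow_q (hF : Fintype.card F = q ^ 2) (a : F) : (a ^ q) ^ q = a := by
  rw [← pow_mul, ← sq, ← hF, FiniteField.pow_card]

variable {n : ℕ}

theorem hermForm_add_left (u u' v : Fin n → F) :
    hermForm n F q (u + u') v = hermForm n F q u v + hermForm n F q u' v := by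
  unfold hermForm
  rw [← Finset.sum_add_distrib]
  apply Finset.sum_congr rfl
  intro i _
  rw [Pi.add_apply]; ring

theorem hermForm_smul_left (a : F) (u v : Fin n → F) :
    hermForm n F q (a • u) v = a * hermForm n F q u v := by
  unfold hermForm
  rw [Finset.mul_sum]
  apply Finset.sum_congr rfl
  intro i _
  rw [Pi.smul_apply, smul_eq_mul]; ring

theorem hermForm_add_right (hF : Fintype.card F = q ^ 2) (u v v' : Fin n → F) :
    hermForm n F q u (v + v') = hermForm n F q u v + hermForm n F q u v' := by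
  unfold hermForm
  rw [← Finset.sum_add_distrib]
  apply Finset.sum_congr rfl
  intro i _
  rw [Pi.add_apply, add_pow_q hF]; ring

theorem hermForm_smul_right (a : F) (u v : Fin n → F) :
    hermForm n F q u (a • v) = a ^ q * hermForm n F q u v := by
  unfold hermForm
  rw [Finset.mul_sum]
  apply Finset.sum_congr rfl
  intro i _
  rw [Pi.smul_apply, smul_eq_mul, mul_pow]; ring

theorem hermForm_swap (hF : Fintype.card F = q ^ 2) (u v : Fin n → F) :
    hermForm n F q u v = (hermForm n F q v u) ^ q := by
  unfold hermForm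
  rw [sum_pow_q hF]
  apply Finset.sum_congr rfl
  intro i _
  rw [mul_pow, pow_q_pow_q hF]; ring

theorem unitaryTransvection_mulVec (v : Fin n → F) (c : F) (x : Fin n → F) :
    unitaryTransvection n q v c *ᵥ x = x + (c * hermForm n F q x v) • v := by
  unfold unitaryTransvection hermForm
  rw [add_mulVec, one_mulVec, smul_mulVec, vecMulVec_mulVec]
  congr 1
  ext i
  simp only [Pi.smul_apply, MulOpposite.smul_eq_mul_unop, MulOpposite.unop_op, smul_eq_mul,
    dotProduct]
  rw [Finset.mul_sum, Finset.mul_sum, Finset.mul_sum, Finset.sum_mul]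
  apply Finset.sum_congr rfl
  intro j _
  ring

/-- The transformed form. -/
theorem hermForm_transvection (hF : Fintype.card F = q ^ 2) (v : Fin n → F)
    (hv0 : hermForm n F q v v = 0) (c : F) (x y : Fin n → F) :
    hermForm n F q (unitaryTransvection n q v c *ᵥ x) (unitaryTransvection n q v c *ᵥ y) =
      hermForm n F q x y + (c ^ q + c) * (hermForm n F q x v * (hermForm n F q y v) ^ q) := by
  rw [unitaryTransvection_mulVec, unitaryTransvection_mulVec, hermForm_add_left,
    hermForm_add_right hF, hermForm_add_right hF, hermForm_smul_left, hermForm_smul_left,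
    hermForm_smul_right, hermForm_smul_right, hv0, hermForm_swap hF v y, mul_pow]
  ring

end Cfsg.Agent.Helper7.Herm
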