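import Mathlib
import Cfsg.Prelude.Def_ClassicalGeometry

set_option autoImplicit false

/-!
Reflection and Siegel matrices of a quadratic form on `F^n`.
-/

namespace Cfsg.Agent.Helper7.QF

open Matrix

variable {F : Type*} [Field F] {ι : Type} [Fintype ι] [DecidableEq ι]

theorem polarVec_dotProduct (Q : QuadraticForm F (ι → F)) (v x : ι → F) :
    Cfsg.polarVec (⇑Q) v ⬝ᵥ x = QuadraticMap.polar (⇑Q) v x := by
  have hx : x = ∑ j, x j • (Pi.single j (1 : F) : ι → F) := by
    simpa using (pi_eq_sum_univ' x)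
  have hlin : QuadraticMap.polar (⇑Q) v x = QuadraticMap.polarBilin Q v x := rfl
  rw [hlin]
  conv_rhs => rw [hx]
  rw [map_sum]
  simp only [dotProduct, Cfsg.polarVec, map_smul, smul_eq_mul]
  apply Finset.sum_congr rfl
  intro j _
  rw [mul_comm]
  rfl

theorem dotProduct_polarVec (Q : QuadraticForm F (ι → F)) (v x : ι → F) :
    x ⬝ᵥ Cfsg.polarVec (⇑Q) v = QuadraticMap.polar (⇑Q) v x := by
  rw [dotProduct_comm, polarVec_dotProduct]

end Cfsg.Agent.Helper7.QF

namespace Cfsg.Agent.Helper7.QF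

open Matrix

variable {F : Type*} [Field F] {ι : Type} [Fintype ι] [DecidableEq ι]

theorem det_one_add_smul_vecMulVec (a : F) (u w : ι → F) :
    (1 + a • vecMulVec u w).det = 1 + a * (w ⬝ᵥ u) := by
  rw [← smul_vecMulVec, vecMulVec_eq Unit, det_one_add_replicateCol_mul_replicateRow, dotProduct_smul,
    smul_eq_mul]

theorem reflection_mulVec (Q : QuadraticForm F (ι → F)) (v x : ι → F) :
    (Cfsg.reflectionMatrix (⇑Q) v) *ᵥ x = x - ((Q v)⁻¹ * QuadraticMap.polar (⇑Q) v x) • v := by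
  unfold Cfsg.reflectionMatrix
  rw [sub_mulVec, one_mulVec, smul_mulVec, vecMulVec_mulVec, polarVec_dotProduct, op_smul_eq_smul,
    smul_smul]

theorem Q_sub_smul (Q : QuadraticForm F (ι → F)) (v x : ι → F) (t : F) :
    Q (x - t • v) = Q x + t * t * Q v - t * QuadraticMap.polar (⇑Q) v x := by
  rw [sub_eq_add_neg, ← neg_smul, QuadraticMap.map_add (⇑Q) x ((-t) • v), QuadraticMap.map_smul,
    QuadraticMap.polar_smul_right, QuadraticMap.polar_comm]
  simp only [smul_eq_mul]
  ring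

theorem reflection_spec (Q : QuadraticForm F (ι → F)) (v : ι → F) (hv : Q v ≠ 0) :
    (∀ x, Q ((Cfsg.reflectionMatrix ⇑Q v).mulVec x) = Q x) ∧
    (Cfsg.reflectionMatrix ⇑Q v).mulVec v = -v ∧
    (∀ x, QuadraticMap.polar ⇑Q v x = 0 → (Cfsg.reflectionMatrix ⇑Q v).mulVec x = x) ∧
    (Cfsg.reflectionMatrix ⇑Q v).det = -1 := by
  refine ⟨?_, ?_, ?_, ?_⟩
  · intro x
    rw [reflection_mulVec, Q_sub_smul]
    field_simp
    ring
  · rw [reflection_mulVec, QuadraticMap.polar_self]
    have : (Q v)⁻¹ * (2 • Q v) = 2 := by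
      rw [two_nsmul]; field_simp; ring
    rw [this, two_smul]
    abel
  · intro x hx
    rw [reflection_mulVec, hx, mul_zero, zero_smul, sub_zero]
  · unfold Cfsg.reflectionMatrix
    rw [sub_eq_add_neg, ← neg_smul, det_one_add_smul_vecMulVec, polarVec_dotProduct,
      QuadraticMap.polar_self, two_nsmul]
    field_simp
    ring

end Cfsg.Agent.Helper7.QF

namespace Cfsg.Agent.Helper7.QF

open Matrix

variable {F : Type*} [Field F] {ι : Type} [Fintype ι] [DecidableEq ι]

theorem siegel_mulVec (Q : QuadraticForm F (ι → F)) (u v x : ι → F) (c : F) :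
    (Cfsg.siegelMatrix (⇑Q) u v c) *ᵥ x =
      x + ((c * QuadraticMap.polar (⇑Q) u x) • v + (-(c * QuadraticMap.polar (⇑Q) v x)) • u) := by
  unfold Cfsg.siegelMatrix
  rw [add_mulVec, one_mulVec, smul_mulVec, sub_mulVec, vecMulVec_mulVec, vecMulVec_mulVec,
    polarVec_dotProduct, polarVec_dotProduct, op_smul_eq_smul, op_smul_eq_smul, smul_sub, smul_smul,
    smul_smul, neg_smul, sub_eq_add_neg]

theorem siegel_spec (Q : QuadraticForm F (ι → F)) (u v : ι → F) (hu : Q u = 0) (hv : Q v = 0)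
    (huv : QuadraticMap.polar ⇑Q u v = 0) :
    (∀ c x, Q ((Cfsg.siegelMatrix ⇑Q u v c).mulVec x) = Q x) ∧
    (∀ c, (Cfsg.siegelMatrix ⇑Q u v c).mulVec u = u ∧ (Cfsg.siegelMatrix ⇑Q u v c).mulVec v = v) ∧
    ∀ c d, Cfsg.siegelMatrix ⇑Q u v c * Cfsg.siegelMatrix ⇑Q u v d = Cfsg.siegelMatrix ⇑Q u v (c + d) := by
  have hvu : QuadraticMap.polar ⇑Q v u = 0 := by rw [QuadraticMap.polar_comm]; exact huv
  have huu : QuadraticMap.polar ⇑Q u u = 0 := by rw [QuadraticMap.polar_self, hu, smul_zero]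
  have hvv : QuadraticMap.polar ⇑Q v v = 0 := by rw [QuadraticMap.polar_self, hv, smul_zero]
  refine ⟨?_, ?_, ?_⟩
  · intro c x
    rw [siegel_mulVec, QuadraticMap.map_add (⇑Q) x, QuadraticMap.map_add (⇑Q) (_ • v) (_ • u),
      QuadraticMap.map_smul, QuadraticMap.map_smul, hu, hv, QuadraticMap.polar_smul_left,
      QuadraticMap.polar_smul_right, hvu, QuadraticMap.polar_add_right, QuadraticMap.polar_smul_right,
      QuadraticMap.polar_smul_right, QuadraticMap.polar_comm (⇑Q) x v, QuadraticMap.polar_comm (⇑Q) x u]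
    simp only [smul_eq_mul, mul_zero, add_zero]
    ring
  · intro c
    constructor
    · rw [siegel_mulVec, huu, hvu]
      simp
    · rw [siegel_mulVec, huv, hvv]
      simp
  · intro c d
    unfold Cfsg.siegelMatrix
    have hN : (vecMulVec v (Cfsg.polarVec (⇑Q) u) - vecMulVec u (Cfsg.polarVec (⇑Q) v)) *
        (vecMulVec v (Cfsg.polarVec (⇑Q) u) - vecMulVec u (Cfsg.polarVec (⇑Q) v)) = 0 := by
      rw [sub_mul, mul_sub, mul_sub, vecMulVec_mul_vecMulVec, vecMulVec_mul_vecMulVec,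
        vecMulVec_mul_vecMulVec, vecMulVec_mul_vecMulVec, polarVec_dotProduct, polarVec_dotProduct,
        polarVec_dotProduct, polarVec_dotProduct, huv, huu, hvv, hvu]
      simp
    rw [add_mul, one_mul, mul_add, mul_one, smul_mul_assoc, mul_smul_comm, hN]
    simp only [smul_zero, add_zero]
    rw [add_smul]
    abel

end Cfsg.Agent.Helper7.QF
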