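import Mathlib
import Cfsg.Prelude.Def_GeometricClasses
import Cfsg.Agent.Helper7.QuadFormMatrices

set_option autoImplicit false

/-!
Transvections `x ↦ x + φ(x) v` as elements of `GL(ι, F)`, and their use to separate subspace stabilisers.
-/

namespace Cfsg.Agent.Helper7.TGL

open Matrix Cfsg

variable {ι : Type} [Fintype ι] [DecidableEq ι] {F : Type*} [Field F]

theorem vecMulVec_sq (v φ : ι → F) (h : φ ⬝ᵥ v = 0) :
    vecMulVec v φ * vecMulVec v φ = 0 := by
  rw [vecMulVec_mul_vecMulVec, h, zero_smul, vecMulVec_zero]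

/-- The transvection `x ↦ x + (φ ⬝ x) v`. -/
def tau (v φ : ι → F) (h : φ ⬝ᵥ v = 0) : GL ι F where
  val := 1 + vecMulVec v φ
  inv := 1 - vecMulVec v φ
  val_inv := by
    rw [add_mul, mul_sub, mul_sub, vecMulVec_sq v φ h]
    simp only [one_mul, mul_one]
    abel
  inv_val := by
    rw [sub_mul, mul_add, mul_add, vecMulVec_sq v φ h]
    simp only [one_mul, mul_one]
    abel

theorem tau_mulVec (v φ : ι → F) (h : φ ⬝ᵥ v = 0) (x : ι → F) :
    (tau v φ h : Matrix ι ι F) *ᵥ x = x + (φ ⬝ᵥ x) • v := by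
  change (1 + vecMulVec v φ) *ᵥ x = _
  rw [add_mulVec, one_mulVec, vecMulVec_mulVec, op_smul_eq_smul]

theorem tau_mem_specialLinear (v φ : ι → F) (h : φ ⬝ᵥ v = 0) :
    tau v φ h ∈ Geo.specialLinear ι F := by
  unfold Geo.specialLinear
  rw [MonoidHom.mem_ker]
  apply Units.ext
  change (1 + vecMulVec v φ).det = 1
  have := Cfsg.Agent.Helper7.QF.det_one_add_smul_vecMulVec (1 : F) v φ
  rw [one_smul, one_mul, h, add_zero] at this
  exact this

theorem tau_mem_subspaceStabilizer (v φ : ι → F) (h : φ ⬝ᵥ v = 0) (W : Submodule F (ι → F))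
    (hW : ∀ w ∈ W, φ ⬝ᵥ w = 0) : tau v φ h ∈ Geo.subspaceStabilizer W := by
  intro x
  change x ∈ W ↔ (tau v φ h : Matrix ι ι F) *ᵥ x ∈ W
  rw [tau_mulVec]
  constructor
  · intro hx
    rw [hW x hx, zero_smul, add_zero]
    exact hx
  · intro hx
    have h0 := hW _ hx
    rw [dotProduct_add, dotProduct_smul, h, smul_zero, add_zero] at h0
    rw [h0, zero_smul, add_zero] at hx
    exact hx

theorem mem_subspaceStabilizer_iff (g : GL ι F) (W : Submodule F (ι → F)) :
    g ∈ Geo.subspaceStabilizer W ↔ ∀ x, x ∈ W ↔ (g : Matrix ι ι F) *ᵥ x ∈ W := Iff.rfl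

/-- A covector vanishing on `S` with value `1` at a given vector outside `S`. -/
theorem exists_covector (S : Submodule F (ι → F)) {u : ι → F} (hu : u ∉ S) :
    ∃ φ : ι → F, (∀ s ∈ S, φ ⬝ᵥ s = 0) ∧ φ ⬝ᵥ u = 1 := by
  obtain ⟨f, hfu, hfS⟩ := Submodule.exists_dual_map_eq_bot_of_notMem hu inferInstance
  have hdot : ∀ y : ι → F, f y = (fun j => f (Pi.single j 1)) ⬝ᵥ y := by
    intro y
    rw [LinearMap.pi_apply_eq_sum_univ f y, dotProduct]
    apply Finset.sum_congr rfl
    intro i _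
    rw [smul_eq_mul, mul_comm]
    congr 2
    ext j
    rw [Pi.single_apply]
    simp only [eq_comm]
  refine ⟨(f u)⁻¹ • (fun j => f (Pi.single j 1)), ?_, ?_⟩
  · intro s hs
    rw [smul_dotProduct, ← hdot]
    have : f s ∈ Submodule.map f S := Submodule.mem_map_of_mem hs
    rw [hfS, Submodule.mem_bot] at this
    rw [this, smul_zero]
  · rw [smul_dotProduct, ← hdot, smul_eq_mul, inv_mul_cancel₀ hfu]

/-- For `u ∉ S + ⟨v⟩` there is a transvection in `SL` fixing `S` pointwise and sending `u` to `u + v`. -/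
theorem exists_tau (S : Submodule F (ι → F)) {u v : ι → F} (hu : u ∉ S ⊔ Submodule.span F {v}) :
    ∃ g : GL ι F, g ∈ Geo.specialLinear ι F ∧ g ∈ Geo.subspaceStabilizer S ∧
      (g : Matrix ι ι F) *ᵥ u = u + v := by
  obtain ⟨φ, hφS, hφu⟩ := exists_covector _ hu
  have hv : φ ⬝ᵥ v = 0 :=
    hφS v (Submodule.mem_sup_right (Submodule.mem_span_singleton_self v))
  refine ⟨tau v φ hv, tau_mem_specialLinear v φ hv, ?_, ?_⟩
  · exact tau_mem_subspaceStabilizer v φ hv S (fun w hw => hφS w (Submodule.mem_sup_left hw))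
  · rw [tau_mulVec, hφu, one_smul]

end Cfsg.Agent.Helper7.TGL
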