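import Mathlib
import Cfsg.Prelude.Def_GeometricClasses
import Cfsg.Agent.Helper7.TransvectionGL

/-!
# ASCH-PRIME piece P3 (part A): `SL_n(F)` is not contained in a subspace stabiliser, a stabiliser of a
decomposition into lines, an orthogonal similarity group or a unitary similarity group.
-/

set_option autoImplicit false

namespace Cfsg.Agent.Helper7.Asch

open Cfsg Cfsg.Geo Cfsg.Agent.Helper7.TGL
open scoped MatrixGroups Matrix

variable {n : ℕ} {F : Type*} [Field F]

/-- a vector outside a subspace spanned by at most two vectors, in dimension at least three. -/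
theorem exists_notMem_span_pair (hn : 3 ≤ n) (a b : Fin n → F) :
    ∃ w : Fin n → F, w ∉ Submodule.span F ({a, b} : Set (Fin n → F)) := by
  by_contra hcon
  push Not at hcon
  have htop : Submodule.span F ({a, b} : Set (Fin n → F)) = ⊤ := eq_top_iff.mpr fun x _ => hcon x
  have h1 : Module.finrank F (Submodule.span F ({a, b} : Set (Fin n → F))) ≤ 2 := by
    classical
    have h : Module.finrank F (Submodule.span F ((({a, b} : Finset (Fin n → F)) : Set (Fin n → F)))) ≤
        ({a, b} : Finset (Fin n → F)).card := finrank_span_finset_le_card _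
    have h2 : ({a, b} : Finset (Fin n → F)).card ≤ 2 := Finset.card_le_two
    have h3 : ((({a, b} : Finset (Fin n → F)) : Set (Fin n → F))) = {a, b} := by
      simp
    rw [h3] at h
    omega
  rw [htop, finrank_top, Module.finrank_fin_fun] at h1
  omega

theorem not_le_subspaceStabilizer (hn : 2 ≤ n) (W : Submodule F (Fin n → F)) (h0 : W ≠ ⊥) (h1 : W ≠ ⊤) :
    ¬ specialLinear (Fin n) F ≤ subspaceStabilizer W := by
  intro hle
  obtain ⟨w, hw, hw0⟩ := (Submodule.ne_bot_iff W).mp h0
  obtain ⟨v, hv⟩ : ∃ v, v ∉ W := by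
    by_contra h
    push Not at h
    exact h1 (eq_top_iff.mpr fun x _ => h x)
  have hwv : w ∉ (⊥ : Submodule F (Fin n → F)) ⊔ Submodule.span F {v} := by
    rw [bot_sup_eq, Submodule.mem_span_singleton]
    rintro ⟨c, hc⟩
    have hc0 : c ≠ 0 := by
      rintro rfl
      rw [zero_smul] at hc
      exact hw0 hc.symm
    apply hv
    have : v = c⁻¹ • w := by rw [← hc, smul_smul, inv_mul_cancel₀ hc0, one_smul]
    rw [this]
    exact W.smul_mem _ hw
  obtain ⟨g, hgSL, -, hgw⟩ := exists_tau ⊥ hwv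
  have h2 := ((TGL.mem_subspaceStabilizer_iff g W).mp (hle hgSL) w).mp hw
  rw [hgw] at h2
  have := W.sub_mem h2 hw
  rw [add_sub_cancel_left] at this
  exact hv this

theorem not_le_decompositionStabilizer (hn : 3 ≤ n) (D : Fin n → Submodule F (Fin n → F))
    (hD : IsMDecomposition 1 D) : ¬ specialLinear (Fin n) F ≤ decompositionStabilizer D := by
  intro hle
  set i₀ : Fin n := ⟨0, by omega⟩ with hi₀
  set i₁ : Fin n := ⟨1, by omega⟩ with hi₁
  have hne : i₀ ≠ i₁ := by
    intro h; have := congrArg Fin.val h; simp [hi₀, hi₁] at this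
  have hex : ∀ i, ∃ e : Fin n → F, e ∈ D i ∧ e ≠ 0 := by
    intro i
    have hpos : 0 < Module.finrank F (D i) := by rw [hD.finrank_eq i]; exact Nat.one_pos
    obtain ⟨⟨e, he⟩, he0⟩ := Module.finrank_pos_iff_exists_ne_zero.mp hpos
    exact ⟨e, he, fun h => he0 (Subtype.ext h)⟩
  obtain ⟨e₀, he₀, he₀0⟩ := hex i₀
  obtain ⟨e₁, he₁, he₁0⟩ := hex i₁
  -- disjointness of two members
  have hdisj : ∀ i j, i ≠ j → ∀ x, x ∈ D i → x ∈ D j → x = 0 := by
    intro i j hij x hxi hxj
    have h := hD.indep.pairwiseDisjoint hij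
    have : x ∈ D i ⊓ D j := ⟨hxi, hxj⟩
    rw [h.eq_bot, Submodule.mem_bot] at this
    exact this
  have hu : e₀ ∉ (⊥ : Submodule F (Fin n → F)) ⊔ Submodule.span F {e₁} := by
    rw [bot_sup_eq, Submodule.mem_span_singleton]
    rintro ⟨c, hc⟩
    apply he₀0
    apply hdisj i₀ i₁ hne e₀ he₀
    rw [← hc]
    exact (D i₁).smul_mem c he₁
  obtain ⟨g, hgSL, -, hg⟩ := exists_tau ⊥ hu
  obtain ⟨σ, hσ⟩ := hle hgSL
  have hmem : e₀ + e₁ ∈ D (σ i₀) := by
    rw [← hσ i₀, ← hg]
    exact ⟨e₀, he₀, by rw [Matrix.toLin'_apply]⟩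
  by_cases h0 : σ i₀ = i₀
  · rw [h0] at hmem
    have := (D i₀).sub_mem hmem he₀
    rw [add_sub_cancel_left] at this
    exact he₁0 (hdisj i₀ i₁ hne e₁ this he₁)
  by_cases h1 : σ i₀ = i₁
  · rw [h1] at hmem
    have := (D i₁).sub_mem hmem he₁
    rw [add_sub_cancel_right] at this
    exact he₀0 (hdisj i₀ i₁ hne e₀ he₀ this)
  · have hind := hD.indep (σ i₀)
    have hmem2 : e₀ + e₁ ∈ ⨆ j, ⨆ (_ : j ≠ σ i₀), D j := by
      refine Submodule.add_mem _ ?_ ?_
      · exact Submodule.mem_iSup_of_mem i₀ (Submodule.mem_iSup_of_mem (Ne.symm h0) he₀)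
      · exact Submodule.mem_iSup_of_mem i₁ (Submodule.mem_iSup_of_mem (Ne.symm h1) he₁)
    have : e₀ + e₁ ∈ D (σ i₀) ⊓ ⨆ j, ⨆ (_ : j ≠ σ i₀), D j := ⟨hmem, hmem2⟩
    rw [hind.eq_bot, Submodule.mem_bot] at this
    have h3 : e₀ = -e₁ := eq_neg_of_add_eq_zero_left this
    apply he₀0
    apply hdisj i₀ i₁ hne e₀ he₀
    rw [h3]
    exact (D i₁).neg_mem he₁

theorem not_le_quadSimilarityGroup (hn : 3 ≤ n) (Q : (Fin n → F) → F) (hQ : IsNondegenerateQuadraticForm Q) :
    ¬ specialLinear (Fin n) F ≤ quadSimilarityGroup Q := by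
  intro hle
  have hB := hQ.polar_bilinear
  -- a non-singular vector
  obtain ⟨v, hv⟩ : ∃ v, Q v ≠ 0 := by
    by_contra hcon
    push Not at hcon
    have hne : (Pi.single (⟨0, by omega⟩ : Fin n) (1 : F) : Fin n → F) ≠ 0 := by
      intro h
      have := congrFun h ⟨0, by omega⟩
      rw [Pi.single_eq_same, Pi.zero_apply] at this
      exact one_ne_zero this
    obtain ⟨⟨x, hx⟩, -⟩ := hQ.nondegenerate _ hne
    apply hx
    unfold QuadraticMap.polar
    rw [hcon, hcon, hcon, sub_zero, sub_zero]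
  -- every x outside the line of v has polar value -Q v
  have key : ∀ x : Fin n → F, x ∉ Submodule.span F {v} → QuadraticMap.polar Q x v = -Q v := by
    intro x hx
    obtain ⟨φ, hφS, hφx⟩ := exists_covector _ hx
    have hφv : φ ⬝ᵥ v = 0 := hφS v (Submodule.mem_span_singleton_self v)
    obtain ⟨c, hc⟩ := hle (tau_mem_specialLinear v φ hφv)
    have h1 := hc v
    rw [tau_mulVec, hφv, zero_smul, add_zero] at h1
    have hc1 : (c : F) = 1 := by
      have h2 : (1 : F) * Q v = (c : F) * Q v := by rw [one_mul]; exact h1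
      exact (mul_right_cancel₀ hv h2).symm
    have h3 := hc x
    rw [tau_mulVec, hφx, one_smul, hc1, one_mul] at h3
    unfold QuadraticMap.polar
    rw [h3]
    ring
  obtain ⟨x, hx⟩ : ∃ x, x ∉ Submodule.span F {v} := by
    obtain ⟨w, hw⟩ := exists_notMem_span_pair hn v v
    refine ⟨w, fun h => hw ?_⟩
    exact Submodule.span_mono (by simp) h
  obtain ⟨y, hy⟩ := exists_notMem_span_pair hn v x
  have hyv : y ∉ Submodule.span F {v} := fun h => hy (Submodule.span_mono (by simp) h)
  have hxy : x + y ∉ Submodule.span F {v} := by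
    intro h
    apply hy
    have h1 : x + y ∈ Submodule.span F ({v, x} : Set (Fin n → F)) := Submodule.span_mono (by simp) h
    have h2 : x ∈ Submodule.span F ({v, x} : Set (Fin n → F)) := Submodule.subset_span (by simp)
    have := Submodule.sub_mem _ h1 h2
    rwa [add_sub_cancel_left] at this
  have e1 := key x hx
  have e2 := key y hyv
  have e3 := key (x + y) hxy
  rw [hB.add_left, e1, e2] at e3
  apply hv
  have : -Q v = 0 := by
    have h4 : -Q v + -Q v = -Q v + 0 := by rw [add_zero]; exact e3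
    exact add_left_cancel h4
  exact neg_eq_zero.mp this

theorem not_le_similarityGroup_unitary (hn : 3 ≤ n) (σ : F ≃+* F) (f : (Fin n → F) → (Fin n → F) → F)
    (hf : IsUnitaryForm σ f) : ¬ specialLinear (Fin n) F ≤ similarityGroup f := by
  intro hle
  have hadd : ∀ u w v, f u (w + v) = f u w + f u v := by
    intro u w v
    rw [hf.herm u (w + v), hf.add_left, map_add, ← hf.herm, ← hf.herm]
  set v : Fin n → F := Pi.single (⟨0, by omega⟩ : Fin n) (1 : F) with hvdef
  have hv0 : v ≠ 0 := by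
    intro h
    have := congrFun h ⟨0, by omega⟩
    rw [hvdef, Pi.single_eq_same, Pi.zero_apply] at this
    exact one_ne_zero this
  obtain ⟨⟨u, hu⟩, -⟩ := hf.nondegenerate v hv0
  obtain ⟨w, hw⟩ := exists_notMem_span_pair hn v u
  obtain ⟨φ, hφS, hφw⟩ := exists_covector _ hw
  have hφv : φ ⬝ᵥ v = 0 := hφS v (Submodule.subset_span (by simp))
  have hφu : φ ⬝ᵥ u = 0 := hφS u (Submodule.subset_span (by simp))
  obtain ⟨c, hc⟩ := hle (tau_mem_specialLinear v φ hφv)
  have h1 := hc u v
  rw [tau_mulVec, tau_mulVec, hφv, hφu, zero_smul, add_zero, add_zero] at h1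
  have hc1 : (c : F) = 1 := by
    have h2 : (1 : F) * f u v = (c : F) * f u v := by rw [one_mul]; exact h1
    exact (mul_right_cancel₀ hu h2).symm
  have h3 := hc u w
  rw [tau_mulVec, tau_mulVec, hφu, hφw, zero_smul, add_zero, one_smul, hc1, one_mul, hadd] at h3
  apply hu
  have h4 : f u w + f u v = f u w + 0 := by rw [add_zero]; exact h3
  exact add_left_cancel h4

end Cfsg.Agent.Helper7.Asch
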