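import Mathlib
import Cfsg.Prelude.Def_GeometricClasses

set_option autoImplicit false
set_option linter.unusedSectionVars false
set_option linter.unusedVariables false

/-!
Field subalgebras of a matrix algebra over an arbitrary finite index type: the field structure, the module structure
on the natural module, nonscalar elements and their minimal polynomials.
-/

namespace Cfsg.Agent.Helper7.FEx

open Matrix Polynomial

variable {F : Type*} [Field F] {ι : Type} [Fintype ι] [DecidableEq ι]

/-- A field structure on a field subalgebra. -/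
@[instance_reducible]
noncomputable def fieldOfSub [Nonempty ι] {r : ℕ} (K : Subalgebra F (Matrix ι ι F))
    (hK : Cfsg.Geo.IsFieldSubalgebra r K) : Field K :=
  IsField.toField (R := K)
    { exists_pair_ne := by
        haveI : Nontrivial (Matrix ι ι F) := inferInstance
        exact ⟨0, 1, fun h => zero_ne_one (congrArg Subtype.val h)⟩
      mul_comm := fun x y => Subtype.ext (hK.comm x x.2 y y.2)
      mul_inv_cancel := fun {a} ha => by
        obtain ⟨y, hy, hxy⟩ := hK.inv a a.2 (fun h => ha (Subtype.ext h))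
        exact ⟨⟨y, hy⟩, Subtype.ext hxy⟩ }

/-- The module structure of `F^ι` over a subalgebra of the matrix algebra. -/
@[instance_reducible]
noncomputable def modOfSub (K : Subalgebra F (Matrix ι ι F)) : Module K (ι → F) :=
  Module.compHom (ι → F)
    ((Matrix.toLinAlgEquiv' : Matrix ι ι F ≃ₐ[F] _).toAlgHom.toRingHom.comp K.val.toRingHom)

theorem smul_def (K : Subalgebra F (Matrix ι ι F)) (k : K) (v : ι → F) :
    (letI := modOfSub K; k • v) = (k : Matrix ι ι F) *ᵥ v := rfl

theorem smul_assoc' (K : Subalgebra F (Matrix ι ι F)) (a : F) (k : K) (v : ι → F) :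
    ((a • k : K) : Matrix ι ι F) *ᵥ v = a • ((k : Matrix ι ι F) *ᵥ v) := by
  rw [Subalgebra.coe_smul, Matrix.smul_mulVec]

/-- a nonzero element of a field subalgebra acts injectively. -/
theorem mulVec_eq_zero {r : ℕ} {K : Subalgebra F (Matrix ι ι F)} (hK : Cfsg.Geo.IsFieldSubalgebra r K)
    {a : Matrix ι ι F} (ha : a ∈ K) (ha0 : a ≠ 0) {v : ι → F} (hv : a *ᵥ v = 0) : v = 0 := by
  obtain ⟨y, hy, hxy⟩ := hK.inv a ha ha0
  have hyx : y * a = 1 := by rw [hK.comm y hy a ha]; exact hxy
  have := congrArg (fun w => y *ᵥ w) hv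
  simp only [Matrix.mulVec_mulVec, hyx, Matrix.one_mulVec, Matrix.mulVec_zero] at this
  exact this

theorem finrank_pos_of {r : ℕ} (hr : 0 < r) {K : Subalgebra F (Matrix ι ι F)}
    (hK : Cfsg.Geo.IsFieldSubalgebra r K) : FiniteDimensional F K :=
  Module.finite_of_finrank_pos (by rw [hK.finrank_eq]; exact hr)

/-- the degree divides the dimension. -/
theorem finrank_mul [Nonempty ι] {r : ℕ} (hr : 0 < r) (K : Subalgebra F (Matrix ι ι F))
    (hK : Cfsg.Geo.IsFieldSubalgebra r K) :
    letI := fieldOfSub K hK
    letI := modOfSub K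
    r * Module.finrank K (ι → F) = Fintype.card ι := by
  letI := fieldOfSub K hK
  letI := modOfSub K
  have key : ∀ (a : F) (k : K) (v : ι → F), (a • k) • v = a • (k • v) := fun a k v => smul_assoc' K a k v
  haveI := finrank_pos_of hr hK
  have hfin : Module.Finite K (ι → F) :=
    @Module.Finite.of_restrictScalars_finite F K (ι → F) _ _ _ _ _ _ ⟨key⟩ _
  have h := @Module.finrank_mul_finrank F K (ι → F) _ _ _ _ _ _ ⟨key⟩ _ _ _ _
  rw [hK.finrank_eq, Module.finrank_fintype_fun_eq_card] at h
  exact h

theorem dvd_card [Nonempty ι] {r : ℕ} (hr : 0 < r) (K : Subalgebra F (Matrix ι ι F))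
    (hK : Cfsg.Geo.IsFieldSubalgebra r K) : r ∣ Fintype.card ι := by
  letI := fieldOfSub K hK
  letI := modOfSub K
  exact ⟨_, (finrank_mul hr K hK).symm⟩

/-- A field subalgebra of degree at least 2 contains a non-scalar matrix. -/
theorem exists_nonscalar {r : ℕ} (hr : 2 ≤ r) (K : Subalgebra F (Matrix ι ι F))
    (hK : Cfsg.Geo.IsFieldSubalgebra r K) :
    ∃ κ ∈ K, ∀ a : F, κ ≠ a • (1 : Matrix ι ι F) := by
  by_contra hcon
  push Not at hcon
  let φ : F →ₗ[F] K :=
    { toFun := fun a => ⟨a • (1 : Matrix ι ι F), K.smul_mem K.one_mem a⟩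
      map_add' := fun a b => Subtype.ext (by simp [add_smul])
      map_smul' := fun c a => Subtype.ext (by simp [smul_smul]) }
  have hsurj : Function.Surjective φ := by
    rintro ⟨k, hk⟩
    obtain ⟨a, ha⟩ := hcon k hk
    exact ⟨a, Subtype.ext ha.symm⟩
  have h := LinearMap.finrank_le_finrank_of_surjective hsurj
  rw [hK.finrank_eq, Module.finrank_self] at h
  omega

/-- a nonscalar element of a field subalgebra of prime degree `r` is a root of an irreducible polynomial of
degree `r`. -/
theorem exists_irred [Nonempty ι] {r : ℕ} (hr : r.Prime) (K : Subalgebra F (Matrix ι ι F))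
    (hK : Cfsg.Geo.IsFieldSubalgebra r K) {θ : Matrix ι ι F} (hθK : θ ∈ K)
    (hθ : ∀ a : F, θ ≠ a • (1 : Matrix ι ι F)) :
    ∃ g : F[X], Irreducible g ∧ g.natDegree = r ∧ aeval θ g = 0 := by
  letI := fieldOfSub K hK
  haveI := finrank_pos_of hr.pos hK
  set θ' : K := ⟨θ, hθK⟩ with hθ'
  have hint : IsIntegral F θ' := Algebra.IsIntegral.isIntegral θ'
  refine ⟨minpoly F θ', minpoly.irreducible hint, ?_, ?_⟩
  · have h1 : (minpoly F θ').natDegree ∣ r := by
      have := minpoly.degree_dvd hint
      rwa [hK.finrank_eq] at this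
    rcases (Nat.dvd_prime hr).mp h1 with h | h
    · exfalso
      obtain ⟨a, ha⟩ := minpoly.natDegree_eq_one_iff.mp h
      apply hθ a
      have := congrArg Subtype.val ha
      rw [Subalgebra.coe_algebraMap, Algebra.algebraMap_eq_smul_one] at this
      exact this.symm
    · exact h
  · have h1 := minpoly.aeval F θ'
    have h2 := congrArg K.val h1
    rw [← Polynomial.aeval_algHom_apply, map_zero] at h2
    exact h2

end Cfsg.Agent.Helper7.FEx
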