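import Cfsg.Agent.Helper7.DcpB

/-!
# Adapted bases for an `m`-decomposition; decomposition stabiliser = block-monomial group in an adapted basis
-/

set_option autoImplicit false

namespace Cfsg.Agent.Helper7.Dcp

open Matrix Cfsg.Geo

variable {F : Type*} [Field F] {n t m : ℕ}

/-- A basis of `F^n` indexed by `Fin t × Fin m` adapted to the family `D`. -/
structure Adapted (D : Fin t → Submodule F (Fin n → F))
    (B : Module.Basis (Fin t × Fin m) F (Fin n → F)) : Prop where
  mem : ∀ i r, B (i, r) ∈ D i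
  repr_ne : ∀ i v, v ∈ D i → ∀ j r, j ≠ i → B.repr v (j, r) = 0

theorem exists_adapted (D : Fin t → Submodule F (Fin n → F)) (hD : IsMDecomposition m D) :
    ∃ B : Module.Basis (Fin t × Fin m) F (Fin n → F), Adapted D B := by
  classical
  have hint : DirectSum.IsInternal D :=
    DirectSum.isInternal_submodule_of_iSupIndep_of_iSup_eq_top hD.indep hD.iSup_eq_top
  let b : ∀ i, Module.Basis (Fin m) F (D i) := fun i => Module.finBasisOfFinrankEq F (D i) (hD.finrank_eq i)
  let B0 := hint.collectedBasis b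
  refine ⟨B0.reindex (Equiv.sigmaEquivProd (Fin t) (Fin m)), ?_, ?_⟩
  · intro i r
    rw [Module.Basis.reindex_apply]
    exact hint.collectedBasis_mem b ⟨i, r⟩
  · intro i v hv j r hji
    rw [Module.Basis.repr_reindex_apply]
    exact hint.collectedBasis_repr_of_mem_ne b (Ne.symm hji) hv

variable {D : Fin t → Submodule F (Fin n → F)} {B : Module.Basis (Fin t × Fin m) F (Fin n → F)}

theorem Adapted.mem_of_repr (hB : Adapted D B) (v : Fin n → F) (i : Fin t)
    (h : ∀ j r, j ≠ i → B.repr v (j, r) = 0) : v ∈ D i := by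
  rw [← B.sum_repr v]
  refine Submodule.sum_mem _ ?_
  rintro ⟨j, r⟩ -
  by_cases hji : j = i
  · subst hji
    exact Submodule.smul_mem _ _ (hB.mem j r)
  · rw [h j r hji, zero_smul]
    exact Submodule.zero_mem _

theorem Adapted.mulVec_mem (hB : Adapted D B) (g : GL (Fin n) F) (ρ : Fin t → Fin t)
    (hg : ∀ k l : Fin t × Fin m,
      ((basisIso B g : GL (Fin t × Fin m) F) : Matrix (Fin t × Fin m) (Fin t × Fin m) F) k l ≠ 0 →
        k.1 = ρ l.1)
    (i : Fin t) (v : Fin n → F) (hv : v ∈ D i) :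
    (g : Matrix (Fin n) (Fin n) F) *ᵥ v ∈ D (ρ i) := by
  apply hB.mem_of_repr
  intro j r hj
  have hv' : (g : Matrix (Fin n) (Fin n) F) *ᵥ v =
      ∑ l, B.repr v l • ((g : Matrix (Fin n) (Fin n) F) *ᵥ B l) := by
    conv_lhs => rw [← B.sum_repr v]
    rw [Matrix.mulVec_sum]
    refine Finset.sum_congr rfl fun l _ => ?_
    rw [Matrix.mulVec_smul]
  rw [hv', map_sum, Finsupp.coe_finset_sum, Finset.sum_apply]
  refine Finset.sum_eq_zero ?_
  rintro ⟨a, s⟩ -
  rw [map_smul, Finsupp.smul_apply, smul_eq_mul]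
  by_cases ha : a = i
  · subst ha
    have : B.repr ((g : Matrix (Fin n) (Fin n) F) *ᵥ B (a, s)) (j, r) = 0 := by
      by_contra hne
      rw [← basisIso_apply] at hne
      exact hj (hg (j, r) (a, s) hne)
    rw [this, mul_zero]
  · rw [hB.repr_ne i v hv a s ha, zero_mul]

theorem Adapted.map_decompStab (hB : Adapted D B) :
    (decompositionStabilizer D).map (basisIso B).toMonoidHom =
      blockMono (Prod.fst : Fin t × Fin m → Fin t) := by
  ext x
  constructor
  · rintro ⟨g, ⟨σ, hσ⟩, rfl⟩
    have key : ∀ (g : GL (Fin n) F) (σ : Equiv.Perm (Fin t)),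
        (∀ i, (D i).map (Matrix.toLin' (g : Matrix (Fin n) (Fin n) F)) = D (σ i)) →
        ∀ k l : Fin t × Fin m,
          ((basisIso B g : GL (Fin t × Fin m) F) : Matrix (Fin t × Fin m) (Fin t × Fin m) F) k l ≠ 0 →
            k.1 = σ l.1 := by
      intro g σ hσ k l hne
      by_contra hk
      apply hne
      rw [basisIso_apply]
      have hmem : (g : Matrix (Fin n) (Fin n) F) *ᵥ B l ∈ D (σ l.1) := by
        rw [← hσ l.1]
        exact ⟨B l, hB.mem l.1 l.2, by simp [Matrix.toLin'_apply]⟩
      exact hB.repr_ne (σ l.1) _ hmem k.1 k.2 hk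
    refine ⟨σ, key g σ hσ, ?_⟩
    have hinv : ∀ i, (D i).map (Matrix.toLin' ((g⁻¹ : GL (Fin n) F) : Matrix (Fin n) (Fin n) F)) =
        D (σ.symm i) := by
      intro i
      have h := hσ (σ.symm i)
      rw [Equiv.apply_symm_apply] at h
      rw [← h, ← Submodule.map_comp, ← Matrix.toLin'_mul, ← Units.val_mul, inv_mul_cancel, Units.val_one,
        Matrix.toLin'_one, Submodule.map_id]
    have := key g⁻¹ σ.symm hinv
    intro k l hne
    apply this k l
    simpa using hne
  · rintro ⟨σ, h1, h2⟩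
    refine ⟨(basisIso B).symm x, ?_, by simp⟩
    set g := (basisIso B).symm x with hg
    have hx : basisIso B g = x := by simp [hg]
    have hx' : basisIso B g⁻¹ = x⁻¹ := by rw [map_inv, hx]
    refine ⟨σ, fun i => ?_⟩
    apply le_antisymm
    · rintro _ ⟨v, hv, rfl⟩
      rw [Matrix.toLin'_apply]
      exact hB.mulVec_mem g σ (by rw [hx]; exact h1) i v hv
    · intro w hw
      refine ⟨((g⁻¹ : GL (Fin n) F) : Matrix (Fin n) (Fin n) F) *ᵥ w, ?_, ?_⟩
      · have := hB.mulVec_mem g⁻¹ σ.symm (by rw [hx']; exact h2) (σ i) w hw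
        simpa using this
      · rw [Matrix.toLin'_apply, Matrix.mulVec_mulVec, ← Units.val_mul, mul_inv_cancel, Units.val_one,
          Matrix.one_mulVec]

/-- **Reduction to standard form.** -/
theorem isMaximalIn_of_std (D : Fin t → Submodule F (Fin n → F)) (hD : IsMDecomposition m D)
    (h : IsMaximalIn (specialLinear (Fin t × Fin m) F)
      (blockMono (Prod.fst : Fin t × Fin m → Fin t) ⊓ specialLinear (Fin t × Fin m) F)) :
    IsMaximalIn (specialLinear (Fin n) F) (decompositionStabilizer D ⊓ specialLinear (Fin n) F) := by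
  obtain ⟨B, hB⟩ := exists_adapted D hD
  apply isMaximalIn_map (basisIso B)
  have h3 := Subgroup.map_inf_eq (decompositionStabilizer D) (specialLinear (Fin n) F)
    (basisIso B).toMonoidHom (basisIso B).injective
  rw [map_specialLinear, h3, hB.map_decompStab, map_specialLinear]
  exact h

end Cfsg.Agent.Helper7.Dcp
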