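import Mathlib
import Cfsg.Prelude.Def_GeometricClasses
import Cfsg.Agent.Helper7.DcpC

/-!
# ASCH-PRIME piece P13: the monomial group over a field with at most four elements lies in a subspace
stabiliser (`q = 2`), an orthogonal similarity group (`q = 3`) or a unitary similarity group (`q = 4`).
-/

set_option autoImplicit false

namespace Cfsg.Agent.Helper7.Asch

open Cfsg Cfsg.Geo
open scoped MatrixGroups Matrix

variable {n : ℕ} {F : Type*} [Field F]

/-- a basis adapted to a decomposition into lines. -/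
theorem exists_line_basis (D : Fin n → Submodule F (Fin n → F)) (hD : IsMDecomposition 1 D) :
    ∃ b : Module.Basis (Fin n) F (Fin n → F), (∀ i, b i ∈ D i) ∧
      ∀ i v, v ∈ D i → ∀ j, j ≠ i → b.equivFun v j = 0 := by
  obtain ⟨B, hB⟩ := Cfsg.Agent.Helper7.Dcp.exists_adapted D hD
  refine ⟨B.reindex (Equiv.prodUnique (Fin n) (Fin 1)), ?_, ?_⟩
  · intro i
    rw [Module.Basis.reindex_apply, Equiv.prodUnique_symm_apply]
    exact hB.mem i _
  · intro i v hv j hj
    rw [Module.Basis.equivFun_apply, Module.Basis.repr_reindex_apply, Equiv.prodUnique_symm_apply]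
    exact hB.repr_ne i v hv j _ hj

/-- the monomial shape of an element of the stabiliser in adapted coordinates. -/
theorem exists_monomial {D : Fin n → Submodule F (Fin n → F)} (b : Module.Basis (Fin n) F (Fin n → F))
    (hb1 : ∀ i, b i ∈ D i) (hb2 : ∀ i v, v ∈ D i → ∀ j, j ≠ i → b.equivFun v j = 0)
    {g : GL (Fin n) F} (hg : g ∈ decompositionStabilizer D) :
    ∃ (σ : Equiv.Perm (Fin n)) (c : Fin n → F), (∀ i, c i ≠ 0) ∧
      ∀ x i, b.equivFun ((g : Matrix (Fin n) (Fin n) F) *ᵥ x) (σ i) = c i * b.equivFun x i := by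
  obtain ⟨σ, hσ⟩ := hg
  have hgb : ∀ i, (g : Matrix (Fin n) (Fin n) F) *ᵥ b i ∈ D (σ i) := by
    intro i
    rw [← hσ i]
    exact ⟨b i, hb1 i, by rw [Matrix.toLin'_apply]⟩
  set c : Fin n → F := fun i => b.equivFun ((g : Matrix (Fin n) (Fin n) F) *ᵥ b i) (σ i) with hc
  have hgb' : ∀ i, b.equivFun ((g : Matrix (Fin n) (Fin n) F) *ᵥ b i) = Pi.single (σ i) (c i) := by
    intro i
    funext j
    by_cases hj : j = σ i
    · subst hj
      rw [Pi.single_eq_same]
    · rw [Pi.single_eq_of_ne hj]
      exact hb2 (σ i) _ (hgb i) j hj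
  refine ⟨σ, c, ?_, ?_⟩
  · intro i hci
    have h1 : b.equivFun ((g : Matrix (Fin n) (Fin n) F) *ᵥ b i) = 0 := by
      rw [hgb' i, hci, Pi.single_zero]
    have h2 : (g : Matrix (Fin n) (Fin n) F) *ᵥ b i = 0 := by
      have := congrArg b.equivFun.symm h1
      rwa [LinearEquiv.symm_apply_apply, map_zero] at this
    have h3 : ((g⁻¹ : GL (Fin n) F) : Matrix (Fin n) (Fin n) F) *ᵥ
        ((g : Matrix (Fin n) (Fin n) F) *ᵥ b i) = b i := by
      rw [Matrix.mulVec_mulVec, ← Units.val_mul, inv_mul_cancel, Units.val_one, Matrix.one_mulVec]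
    rw [h2, Matrix.mulVec_zero] at h3
    exact b.ne_zero i h3.symm
  · intro x i
    have hx : (g : Matrix (Fin n) (Fin n) F) *ᵥ x =
        ∑ j, b.equivFun x j • ((g : Matrix (Fin n) (Fin n) F) *ᵥ b j) := by
      conv_lhs => rw [← b.sum_equivFun x]
      rw [Matrix.mulVec_sum]
      refine Finset.sum_congr rfl fun j _ => ?_
      rw [Matrix.mulVec_smul]
    rw [hx, map_sum, Finset.sum_apply]
    rw [Finset.sum_eq_single i]
    · rw [map_smul, hgb' i, Pi.smul_apply, Pi.single_eq_same, smul_eq_mul, mul_comm]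
    · intro j _ hji
      rw [map_smul, hgb' j, Pi.smul_apply, Pi.single_eq_of_ne, smul_zero]
      exact fun h => hji (σ.injective h).symm
    · intro h
      exact absurd (Finset.mem_univ i) h

/-- coordinates of a basis vector. -/
theorem coord_self (b : Module.Basis (Fin n) F (Fin n → F)) (i : Fin n) : b.equivFun (b i) i = 1 := by
  rw [Module.Basis.equivFun_self]
  exact if_pos rfl

theorem coord_ne (b : Module.Basis (Fin n) F (Fin n → F)) {i j : Fin n} (h : i ≠ j) :
    b.equivFun (b i) j = 0 := by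
  rw [Module.Basis.equivFun_self]
  exact if_neg h

/-- coordinates of the sum over a permutation. -/
theorem sum_perm_coord (b : Module.Basis (Fin n) F (Fin n → F)) (σ : Equiv.Perm (Fin n))
    (y : Fin n → F) (G : F → F) : ∑ j, G (y j) = ∑ i, G (y (σ i)) :=
  (Equiv.sum_comp σ (fun j => G (y j))).symm

/-- a vector with a non-zero coordinate. -/
theorem exists_coord_ne_zero (b : Module.Basis (Fin n) F (Fin n → F)) {v : Fin n → F} (hv : v ≠ 0) :
    ∃ i, b.equivFun v i ≠ 0 := by
  by_contra hcon
  push Not at hcon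
  apply hv
  have h1 : b.equivFun v = 0 := funext hcon
  have := congrArg b.equivFun.symm h1
  rwa [LinearEquiv.symm_apply_apply, map_zero] at this

/-- the case of two elements: the sum of the basis vectors is fixed. -/
theorem c2_two [Fintype F] (hn : 2 ≤ n) (D : Fin n → Submodule F (Fin n → F)) (hD : IsMDecomposition 1 D)
    (hq : Fintype.card F = 2) :
    ∃ W : Submodule F (Fin n → F), W ≠ ⊥ ∧ W ≠ ⊤ ∧ decompositionStabilizer D ≤ subspaceStabilizer W := by
  obtain ⟨b, hb1, hb2⟩ := exists_line_basis D hD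
  set w : Fin n → F := ∑ i, b i with hw
  have hwc : ∀ i, b.equivFun w i = 1 := by
    intro i
    rw [hw, map_sum, Finset.sum_apply, Finset.sum_eq_single i]
    · rw [coord_self]
    · intro j _ hji
      rw [coord_ne b hji]
    · intro h
      exact absurd (Finset.mem_univ i) h
  have hw0 : w ≠ 0 := by
    intro h
    have := hwc ⟨0, by omega⟩
    rw [h, map_zero, Pi.zero_apply] at this
    exact zero_ne_one this
  have hfix : ∀ g ∈ decompositionStabilizer D, (g : Matrix (Fin n) (Fin n) F) *ᵥ w = w := by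
    intro g hg
    obtain ⟨σ, c, hc0, hc⟩ := exists_monomial b hb1 hb2 hg
    have hc1 : ∀ i, c i = 1 := by
      intro i
      have := FiniteField.pow_card_sub_one_eq_one (c i) (hc0 i)
      rwa [hq, pow_one] at this
    apply b.equivFun.injective
    funext j
    obtain ⟨i, rfl⟩ := σ.surjective j
    rw [hc w i, hc1 i, one_mul, hwc, hwc]
  have hstab : ∀ g ∈ decompositionStabilizer D, ∀ x ∈ Submodule.span F {w},
      (g : Matrix (Fin n) (Fin n) F) *ᵥ x ∈ Submodule.span F {w} := by
    intro g hg x hx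
    obtain ⟨a, rfl⟩ := Submodule.mem_span_singleton.mp hx
    rw [Matrix.mulVec_smul, hfix g hg]
    exact Submodule.smul_mem _ _ (Submodule.mem_span_singleton_self w)
  refine ⟨Submodule.span F {w}, ?_, ?_, ?_⟩
  · intro h
    have := Submodule.mem_span_singleton_self (R := F) w
    rw [h, Submodule.mem_bot] at this
    exact hw0 this
  · intro h
    have h1 : Module.finrank F (Submodule.span F {w}) = 1 := finrank_span_singleton hw0
    rw [h, finrank_top, Module.finrank_fin_fun] at h1
    omega
  · intro g hg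
    change ∀ x, x ∈ Submodule.span F {w} ↔ (g : Matrix (Fin n) (Fin n) F) *ᵥ x ∈ Submodule.span F {w}
    intro x
    constructor
    · exact hstab g hg x
    · intro hx
      have := hstab g⁻¹ (Subgroup.inv_mem _ hg) _ hx
      rwa [Matrix.mulVec_mulVec, ← Units.val_mul, inv_mul_cancel, Units.val_one,
        Matrix.one_mulVec] at this

/-- the case of three elements: the sum of squares is preserved. -/
theorem c2_three [Fintype F] (hn : 2 ≤ n) (D : Fin n → Submodule F (Fin n → F)) (hD : IsMDecomposition 1 D)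
    (hq : Fintype.card F = 3) :
    ∃ Q : (Fin n → F) → F, IsNondegenerateQuadraticForm Q ∧
      decompositionStabilizer D ≤ quadSimilarityGroup Q := by
  obtain ⟨b, hb1, hb2⟩ := exists_line_basis D hD
  have h3 : (3 : F) = 0 := by
    have := Nat.cast_card_eq_zero F
    rw [hq] at this
    exact_mod_cast this
  have h2 : (2 : F) ≠ 0 := by
    intro h
    have : (1 : F) = 3 - 2 := by norm_num
    rw [h3, h, sub_zero] at this
    exact one_ne_zero this
  set Q : (Fin n → F) → F := fun x => ∑ i, (b.equivFun x i) ^ 2 with hQ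
  have hpolar : ∀ x y, QuadraticMap.polar Q x y = 2 * ∑ i, b.equivFun x i * b.equivFun y i := by
    intro x y
    unfold QuadraticMap.polar
    rw [hQ]
    simp only [map_add, Pi.add_apply]
    rw [Finset.mul_sum, ← Finset.sum_sub_distrib, ← Finset.sum_sub_distrib]
    refine Finset.sum_congr rfl fun i _ => ?_
    ring
  refine ⟨Q, ⟨?_, ⟨?_, ?_, ?_, ?_⟩, ?_⟩, ?_⟩
  · intro c v
    rw [hQ]
    simp only [map_smul, Pi.smul_apply, smul_eq_mul, mul_pow]
    rw [Finset.mul_sum]
  · intro x y v
    rw [hpolar, hpolar, hpolar]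
    simp only [map_add, Pi.add_apply, add_mul, Finset.sum_add_distrib, mul_add]
  · intro c x v
    rw [hpolar, hpolar]
    simp only [map_smul, Pi.smul_apply, smul_eq_mul, mul_assoc]
    rw [← Finset.mul_sum]
    ring
  · intro v x y
    rw [hpolar, hpolar, hpolar]
    simp only [map_add, Pi.add_apply, mul_add, Finset.sum_add_distrib]
  · intro c v x
    rw [hpolar, hpolar]
    simp only [map_smul, Pi.smul_apply, smul_eq_mul]
    rw [Finset.mul_sum, Finset.mul_sum, Finset.mul_sum]
    refine Finset.sum_congr rfl fun i _ => ?_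
    ring
  · intro v hv
    obtain ⟨i, hi⟩ := exists_coord_ne_zero b hv
    have e1 : ∑ j, b.equivFun (b i) j * b.equivFun v j = b.equivFun v i := by
      rw [Finset.sum_eq_single i]
      · rw [coord_self, one_mul]
      · intro j _ hji
        rw [coord_ne b (Ne.symm hji), zero_mul]
      · intro h
        exact absurd (Finset.mem_univ i) h
    have e2 : ∑ j, b.equivFun v j * b.equivFun (b i) j = b.equivFun v i := by
      rw [← e1]
      refine Finset.sum_congr rfl fun j _ => mul_comm _ _
    refine ⟨⟨b i, ?_⟩, ⟨b i, ?_⟩⟩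
    · rw [hpolar, e1]
      exact mul_ne_zero h2 hi
    · rw [hpolar, e2]
      exact mul_ne_zero h2 hi
  · intro g hg
    obtain ⟨σ, c, hc0, hc⟩ := exists_monomial b hb1 hb2 hg
    have hc1 : ∀ i, c i ^ 2 = 1 := by
      intro i
      have := FiniteField.pow_card_sub_one_eq_one (c i) (hc0 i)
      rwa [hq] at this
    refine ⟨1, fun v => ?_⟩
    rw [Units.val_one, one_mul, hQ]
    change ∑ j, (b.equivFun ((g : Matrix (Fin n) (Fin n) F) *ᵥ v) j) ^ 2 = ∑ i, (b.equivFun v i) ^ 2
    rw [← Equiv.sum_comp σ (fun j => (b.equivFun ((g : Matrix (Fin n) (Fin n) F) *ᵥ v) j) ^ 2)]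
    refine Finset.sum_congr rfl fun i _ => ?_
    rw [hc v i, mul_pow, hc1 i, one_mul]

/-- the case of four elements: the standard hermitian form is preserved. -/
theorem c2_four [Fintype F] (hn : 2 ≤ n) (D : Fin n → Submodule F (Fin n → F)) (hD : IsMDecomposition 1 D)
    (hq : Fintype.card F = 4) :
    ∃ (σ : F ≃+* F) (f : (Fin n → F) → (Fin n → F) → F), IsUnitaryForm σ f ∧
      decompositionStabilizer D ≤ similarityGroup f := by
  obtain ⟨b, hb1, hb2⟩ := exists_line_basis D hD
  have h4 : (4 : F) = 0 := by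
    have := Nat.cast_card_eq_zero F
    rw [hq] at this
    exact_mod_cast this
  have h2 : (2 : F) = 0 := by
    have : (2 : F) * 2 = 0 := by rw [← h4]; norm_num
    exact mul_self_eq_zero.mp this
  have hp4 : ∀ a : F, a ^ 4 = a := by
    intro a
    have := FiniteField.pow_card a
    rwa [hq] at this
  have hsq : ∀ a : F, (a ^ 2) ^ 2 = a := by
    intro a
    rw [← pow_mul]
    exact hp4 a
  let τ : F ≃+* F :=
    { toFun := fun a => a ^ 2
      invFun := fun a => a ^ 2
      left_inv := hsq
      right_inv := hsq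
      map_mul' := fun x y => mul_pow x y 2
      map_add' := fun x y => by
        change (x + y) ^ 2 = x ^ 2 + y ^ 2
        rw [add_sq, h2, zero_mul, zero_mul, add_zero] }
  have hτ : ∀ a, τ a = a ^ 2 := fun a => rfl
  set f : (Fin n → F) → (Fin n → F) → F :=
    fun x y => ∑ i, b.equivFun x i * (b.equivFun y i) ^ 2 with hf
  refine ⟨τ, f, ⟨?_, ?_, ?_, ?_, ?_, ?_⟩, ?_⟩
  · intro hrefl
    have hall : ∀ a : F, a = 0 ∨ a = 1 := by
      intro a
      have h1 : a ^ 2 = a := by
        have := congrArg (fun e : F ≃+* F => e a) hrefl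
        exact this
      have h5 : a * (a - 1) = 0 := by rw [mul_sub, mul_one, ← sq, h1, sub_self]
      rcases mul_eq_zero.mp h5 with h | h
      · exact Or.inl h
      · exact Or.inr (sub_eq_zero.mp h)
    classical
    have hsub : (Finset.univ : Finset F) ⊆ {0, 1} := by
      intro a _
      rcases hall a with h | h <;> simp [h]
    have := Finset.card_le_card hsub
    rw [Finset.card_univ, hq] at this
    have h6 : ({0, 1} : Finset F).card ≤ 2 := Finset.card_le_two
    omega
  · intro a
    rw [hτ, hτ]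
    exact hsq a
  · intro x y v
    rw [hf]
    simp only [map_add, Pi.add_apply, add_mul, Finset.sum_add_distrib]
  · intro c x v
    rw [hf]
    simp only [map_smul, Pi.smul_apply, smul_eq_mul, mul_assoc]
    rw [Finset.mul_sum]
  · intro v w
    rw [hf]
    simp only
    rw [map_sum]
    refine Finset.sum_congr rfl fun i _ => ?_
    rw [map_mul, hτ, hτ, hsq, mul_comm]
  · intro v hv
    obtain ⟨i, hi⟩ := exists_coord_ne_zero b hv
    refine ⟨⟨b i, ?_⟩, ⟨b i, ?_⟩⟩
    · rw [hf]
      simp only
      rw [Finset.sum_eq_single i]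
      · rw [coord_self, one_mul]
        exact pow_ne_zero 2 hi
      · intro j _ hji
        rw [coord_ne b (Ne.symm hji), zero_mul]
      · intro h
        exact absurd (Finset.mem_univ i) h
    · rw [hf]
      simp only
      rw [Finset.sum_eq_single i]
      · rw [coord_self, one_pow, mul_one]
        exact hi
      · intro j _ hji
        rw [coord_ne b (Ne.symm hji), zero_pow (by norm_num), mul_zero]
      · intro h
        exact absurd (Finset.mem_univ i) h
  · intro g hg
    obtain ⟨σ, c, hc0, hc⟩ := exists_monomial b hb1 hb2 hg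
    have hc1 : ∀ i, c i ^ 3 = 1 := by
      intro i
      have := FiniteField.pow_card_sub_one_eq_one (c i) (hc0 i)
      rwa [hq] at this
    refine ⟨1, fun u v => ?_⟩
    rw [Units.val_one, one_mul, hf]
    change ∑ j, b.equivFun ((g : Matrix (Fin n) (Fin n) F) *ᵥ u) j *
        (b.equivFun ((g : Matrix (Fin n) (Fin n) F) *ᵥ v) j) ^ 2 =
      ∑ i, b.equivFun u i * (b.equivFun v i) ^ 2
    rw [← Equiv.sum_comp σ (fun j => b.equivFun ((g : Matrix (Fin n) (Fin n) F) *ᵥ u) j *
        (b.equivFun ((g : Matrix (Fin n) (Fin n) F) *ᵥ v) j) ^ 2)]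
    refine Finset.sum_congr rfl fun i _ => ?_
    rw [hc u i, hc v i]
    have : c i * b.equivFun u i * (c i * b.equivFun v i) ^ 2 =
        c i ^ 3 * (b.equivFun u i * (b.equivFun v i) ^ 2) := by ring
    rw [this, hc1 i, one_mul]

theorem c2_small [Fintype F] (hn : 2 ≤ n) (D : Fin n → Submodule F (Fin n → F)) (hD : IsMDecomposition 1 D)
    (hq : Fintype.card F ≤ 4) :
    (∃ W : Submodule F (Fin n → F), W ≠ ⊥ ∧ W ≠ ⊤ ∧ decompositionStabilizer D ≤ subspaceStabilizer W) ∨
    (Odd (Fintype.card F) ∧ ∃ Q : (Fin n → F) → F, IsNondegenerateQuadraticForm Q ∧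
      decompositionStabilizer D ≤ quadSimilarityGroup Q) ∨
    (∃ (σ : F ≃+* F) (f : (Fin n → F) → (Fin n → F) → F), IsUnitaryForm σ f ∧
      decompositionStabilizer D ≤ similarityGroup f) := by
  have h2 : 2 ≤ Fintype.card F := Fintype.one_lt_card
  have hcases : Fintype.card F = 2 ∨ Fintype.card F = 3 ∨ Fintype.card F = 4 := by omega
  rcases hcases with h | h | h
  · exact Or.inl (c2_two hn D hD h)
  · exact Or.inr (Or.inl ⟨by rw [h]; decide, c2_three hn D hD h⟩)
  · exact Or.inr (Or.inr (c2_four hn D hD h))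

end Cfsg.Agent.Helper7.Asch
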