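import Mathlib
import Cfsg.Agent.Helper7.FExA

set_option autoImplicit false
set_option linter.unusedSectionVars false
set_option linter.unusedVariables false

/-!
Elements normalizing a field subalgebra which must centralize it: small rank of `y - 1`, or order prime to the degree.
-/

namespace Cfsg.Agent.Helper7.FEx

open Matrix Polynomial

variable {F : Type*} [Field F] {ι : Type} [Fintype ι] [DecidableEq ι]

theorem rank_sub_le (A B : Matrix ι ι F) : (A - B).rank ≤ A.rank + B.rank := by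
  unfold Matrix.rank
  have h1 : LinearMap.range (A - B).mulVecLin ≤ LinearMap.range A.mulVecLin ⊔ LinearMap.range B.mulVecLin := by
    rintro _ ⟨v, rfl⟩
    rw [Matrix.mulVecLin_apply, Matrix.sub_mulVec]
    exact Submodule.sub_mem _ (Submodule.mem_sup_left ⟨v, rfl⟩) (Submodule.mem_sup_right ⟨v, rfl⟩)
  exact (Submodule.finrank_mono h1).trans (Submodule.finrank_add_le_finrank_add_finrank _ _)

theorem val_inv_mul (y : GL ι F) : ((y⁻¹ : GL ι F) : Matrix ι ι F) * (y : Matrix ι ι F) = 1 := by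
  rw [← Units.val_mul, inv_mul_cancel, Units.val_one]

theorem val_mul_inv (y : GL ι F) : (y : Matrix ι ι F) * ((y⁻¹ : GL ι F) : Matrix ι ι F) = 1 := by
  rw [← Units.val_mul, mul_inv_cancel, Units.val_one]

/-- an element of the normalizer with `y - 1` of small rank centralizes the field. -/
theorem commute_of_rank_lt {r : ℕ} {K : Subalgebra F (Matrix ι ι F)} (hK : Cfsg.Geo.IsFieldSubalgebra r K)
    (y : GL ι F) (hy : y ∈ Cfsg.Geo.subalgebraNormalizer K)
    (hrank : 2 * ((y : Matrix ι ι F) - 1).rank < Fintype.card ι) :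
    ∀ a ∈ K, (y : Matrix ι ι F) * a = a * (y : Matrix ι ι F) := by
  intro a ha
  set N : Matrix ι ι F := (y : Matrix ι ι F) - 1 with hN
  set b : Matrix ι ι F := (y : Matrix ι ι F) * a * ((y⁻¹ : GL ι F) : Matrix ι ι F) with hb
  have hbK : b ∈ K := (hy a).mp ha
  have hyab : (y : Matrix ι ι F) * a = b * (y : Matrix ι ι F) := by
    rw [hb, mul_assoc, val_inv_mul, mul_one]
  have hc : a - b = b * N - N * a := by
    rw [hN, mul_sub, sub_mul, mul_one, one_mul, ← hyab]
    abel
  have hcK : a - b ∈ K := K.sub_mem ha hbK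
  by_cases h0 : a - b = 0
  · rw [hyab, ← sub_eq_zero.mp h0]
  · exfalso
    obtain ⟨c', hc', hcc'⟩ := hK.inv _ hcK h0
    have hunit : IsUnit (a - b) := by
      have h2 : c' * (a - b) = 1 := by rw [hK.comm c' hc' _ hcK]; exact hcc'
      exact ⟨⟨a - b, c', hcc', h2⟩, rfl⟩
    have h1 : (a - b).rank = Fintype.card ι := Matrix.rank_of_isUnit _ hunit
    have h2 : (a - b).rank ≤ N.rank + N.rank := by
      rw [hc]
      exact (rank_sub_le _ _).trans (add_le_add (Matrix.rank_mul_le_right _ _) (Matrix.rank_mul_le_left _ _))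
    omega

section galois

variable [Finite F]

/-- conjugation by an element of the normalizer, as an automorphism of the field. -/
noncomputable def conjAut [Nonempty ι] {r : ℕ} (K : Subalgebra F (Matrix ι ι F))
    (hK : Cfsg.Geo.IsFieldSubalgebra r K) (y : GL ι F) (hy : y ∈ Cfsg.Geo.subalgebraNormalizer K) :
    K ≃ₐ[F] K where
  toFun a := ⟨(y : Matrix ι ι F) * a * ((y⁻¹ : GL ι F) : Matrix ι ι F), (hy a).mp a.2⟩
  invFun a := ⟨((y⁻¹ : GL ι F) : Matrix ι ι F) * a * (y : Matrix ι ι F), by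
    have h := ((Cfsg.Geo.subalgebraNormalizer K).inv_mem hy (a : Matrix ι ι F)).mp a.2
    rwa [inv_inv] at h⟩
  left_inv a := by
    apply Subtype.ext
    show ((y⁻¹ : GL ι F) : Matrix ι ι F) * ((y : Matrix ι ι F) * a * ((y⁻¹ : GL ι F) : Matrix ι ι F)) *
      (y : Matrix ι ι F) = a
    calc _ = (((y⁻¹ : GL ι F) : Matrix ι ι F) * (y : Matrix ι ι F)) * a *
          (((y⁻¹ : GL ι F) : Matrix ι ι F) * (y : Matrix ι ι F)) := by simp only [mul_assoc]
      _ = a := by rw [val_inv_mul, one_mul, mul_one]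
  right_inv a := by
    apply Subtype.ext
    show (y : Matrix ι ι F) * (((y⁻¹ : GL ι F) : Matrix ι ι F) * a * (y : Matrix ι ι F)) *
      ((y⁻¹ : GL ι F) : Matrix ι ι F) = a
    calc _ = ((y : Matrix ι ι F) * ((y⁻¹ : GL ι F) : Matrix ι ι F)) * a *
          ((y : Matrix ι ι F) * ((y⁻¹ : GL ι F) : Matrix ι ι F)) := by simp only [mul_assoc]
      _ = a := by rw [val_mul_inv, one_mul, mul_one]
  map_mul' a b := by
    apply Subtype.ext
    show (y : Matrix ι ι F) * ((a : Matrix ι ι F) * b) * ((y⁻¹ : GL ι F) : Matrix ι ι F) =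
      ((y : Matrix ι ι F) * a * ((y⁻¹ : GL ι F) : Matrix ι ι F)) *
        ((y : Matrix ι ι F) * b * ((y⁻¹ : GL ι F) : Matrix ι ι F))
    calc _ = (y : Matrix ι ι F) * a * 1 * b * ((y⁻¹ : GL ι F) : Matrix ι ι F) := by
          simp only [mul_assoc, one_mul]
      _ = _ := by rw [← val_inv_mul y]; simp only [mul_assoc]
  map_add' a b := by
    apply Subtype.ext
    show (y : Matrix ι ι F) * ((a : Matrix ι ι F) + b) * ((y⁻¹ : GL ι F) : Matrix ι ι F) =
      ((y : Matrix ι ι F) * a * ((y⁻¹ : GL ι F) : Matrix ι ι F)) +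
        ((y : Matrix ι ι F) * b * ((y⁻¹ : GL ι F) : Matrix ι ι F))
    rw [mul_add, add_mul]
  commutes' c := by
    apply Subtype.ext
    show (y : Matrix ι ι F) * ((algebraMap F K c : K) : Matrix ι ι F) * ((y⁻¹ : GL ι F) : Matrix ι ι F) =
      ((algebraMap F K c : K) : Matrix ι ι F)
    rw [Subalgebra.coe_algebraMap, Algebra.algebraMap_eq_smul_one, mul_smul_comm, mul_one, smul_mul_assoc,
      val_mul_inv]

theorem conjAut_apply [Nonempty ι] {r : ℕ} (K : Subalgebra F (Matrix ι ι F))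
    (hK : Cfsg.Geo.IsFieldSubalgebra r K) (y : GL ι F) (hy : y ∈ Cfsg.Geo.subalgebraNormalizer K) (a : K) :
    ((conjAut K hK y hy a : K) : Matrix ι ι F) =
      (y : Matrix ι ι F) * a * ((y⁻¹ : GL ι F) : Matrix ι ι F) := rfl

theorem conjAut_pow [Nonempty ι] {r : ℕ} (K : Subalgebra F (Matrix ι ι F))
    (hK : Cfsg.Geo.IsFieldSubalgebra r K) (y : GL ι F) (hy : y ∈ Cfsg.Geo.subalgebraNormalizer K) (n : ℕ)
    (a : K) :
    (((conjAut K hK y hy) ^ n) a : Matrix ι ι F) =
      ((y ^ n : GL ι F) : Matrix ι ι F) * a * (((y ^ n)⁻¹ : GL ι F) : Matrix ι ι F) := by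
  induction n generalizing a with
  | zero => simp
  | succ n ih =>
    rw [pow_succ, AlgEquiv.mul_apply, ih, conjAut_apply, pow_succ, _root_.mul_inv_rev, Units.val_mul, Units.val_mul]
    simp only [mul_assoc]

/-- an element of the normalizer of prime order different from the (prime) degree centralizes the field. -/
theorem commute_of_pow_eq_one [Nonempty ι] {k r : ℕ} (hk : k.Prime) (hr : r.Prime) (hrk : r ≠ k)
    {K : Subalgebra F (Matrix ι ι F)} (hK : Cfsg.Geo.IsFieldSubalgebra k K)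
    (y : GL ι F) (hy : y ∈ Cfsg.Geo.subalgebraNormalizer K) (hyr : y ^ r = 1) :
    ∀ a ∈ K, (y : Matrix ι ι F) * a = a * (y : Matrix ι ι F) := by
  letI := fieldOfSub K hK
  haveI := finrank_pos_of hk.pos hK
  haveI : Finite K := Subtype.finite
  set σ := conjAut K hK y hy with hσ
  have h1 : σ ^ r = 1 := by
    apply AlgEquiv.ext
    intro a
    apply Subtype.ext
    rw [conjAut_pow, hyr, inv_one, Units.val_one, one_mul, mul_one]
    rfl
  have h2 : σ ^ k = 1 := by
    have hc : Nat.card (K ≃ₐ[F] K) = k := by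
      rw [IsGalois.card_aut_eq_finrank, hK.finrank_eq]
    rw [← hc]
    exact pow_card_eq_one'
  have hcop : Nat.Coprime r k := (Nat.coprime_primes hr hk).mpr hrk
  have h3 : σ = 1 := by
    have := pow_gcd_eq_one.mpr ⟨h1, h2⟩
    rwa [hcop.gcd_eq_one, pow_one] at this
  intro a ha
  have h4 : (σ ⟨a, ha⟩ : K) = ⟨a, ha⟩ := by rw [h3]; rfl
  have h5 := congrArg Subtype.val h4
  rw [hσ, conjAut_apply] at h5
  calc (y : Matrix ι ι F) * a = (y : Matrix ι ι F) * a * (((y⁻¹ : GL ι F) : Matrix ι ι F) * (y : Matrix ι ι F)) := by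
        rw [val_inv_mul, mul_one]
    _ = ((y : Matrix ι ι F) * a * ((y⁻¹ : GL ι F) : Matrix ι ι F)) * (y : Matrix ι ι F) := by
        simp only [mul_assoc]
    _ = a * (y : Matrix ι ι F) := by rw [h5]

end galois

end Cfsg.Agent.Helper7.FEx
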