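import Mathlib
import Cfsg.Prelude.Def_GeometricClasses
import Cfsg.Agent.Helper7.TransvectionGL
import Cfsg.Agent.Helper7.FExB
import Cfsg.Agent.Helper7.PSLSimple

/-!
# ASCH-PRIME piece P3 (part B): `SL_n(F)` is not contained in the normaliser of a field of degree `n`,
in a subfield group, or in the normaliser of a solvable non-scalar subgroup of `SL_n(F)`.
-/

set_option autoImplicit false

namespace Cfsg.Agent.Helper7.Asch

open Cfsg Cfsg.Geo Cfsg.Agent.Helper7.TGL
open scoped MatrixGroups Matrix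

variable {n : ℕ} {F : Type*} [Field F]

theorem not_le_subalgebraNormalizer [Fintype F] (hn : 3 ≤ n) (K : Subalgebra F (Matrix (Fin n) (Fin n) F))
    (hK : IsFieldSubalgebra n K) : ¬ specialLinear (Fin n) F ≤ subalgebraNormalizer K := by
  intro hle
  set i₀ : Fin n := ⟨0, by omega⟩ with hi₀
  set i₁ : Fin n := ⟨1, by omega⟩ with hi₁
  have hne : i₁ ≠ i₀ := by
    intro h; have := congrArg Fin.val h; simp [hi₀, hi₁] at this
  set v : Fin n → F := Pi.single i₀ 1 with hv
  set φ : Fin n → F := Pi.single i₁ 1 with hφ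
  have h : φ ⬝ᵥ v = 0 := by
    rw [hφ, single_dotProduct, one_mul, hv, Pi.single_eq_of_ne hne]
  have hmem := hle (tau_mem_specialLinear v φ h)
  have hval : ((tau v φ h : GL (Fin n) F) : Matrix (Fin n) (Fin n) F) - 1 = Matrix.vecMulVec v φ := by
    change (1 + Matrix.vecMulVec v φ) - 1 = Matrix.vecMulVec v φ
    rw [add_sub_cancel_left]
  have hrank : 2 * (((tau v φ h : GL (Fin n) F) : Matrix (Fin n) (Fin n) F) - 1).rank <
      Fintype.card (Fin n) := by
    rw [hval, Fintype.card_fin]
    have := Matrix.rank_vecMulVec_le v φ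
    omega
  have hcomm := FEx.commute_of_rank_lt hK _ hmem hrank
  obtain ⟨κ, hκK, hκ⟩ := FEx.exists_nonscalar (by omega : 2 ≤ n) K hK
  have h1 : (((tau v φ h : GL (Fin n) F) : Matrix (Fin n) (Fin n) F) * κ) *ᵥ φ =
      (κ * ((tau v φ h : GL (Fin n) F) : Matrix (Fin n) (Fin n) F)) *ᵥ φ := by
    rw [hcomm κ hκK]
  rw [← Matrix.mulVec_mulVec, ← Matrix.mulVec_mulVec, tau_mulVec, tau_mulVec] at h1
  have hφφ : φ ⬝ᵥ φ = 1 := by
    rw [hφ, single_dotProduct, one_mul, Pi.single_eq_same]
  rw [hφφ, one_smul, Matrix.mulVec_add] at h1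
  have h2 : κ *ᵥ v = (φ ⬝ᵥ (κ *ᵥ φ)) • v := (add_left_cancel h1).symm
  set c := φ ⬝ᵥ (κ *ᵥ φ) with hc
  have h3 : (κ - c • (1 : Matrix (Fin n) (Fin n) F)) *ᵥ v = 0 := by
    rw [Matrix.sub_mulVec, h2, Matrix.smul_mulVec, Matrix.one_mulVec, sub_self]
  have hmemK : κ - c • (1 : Matrix (Fin n) (Fin n) F) ∈ K := by
    refine K.sub_mem hκK ?_
    rw [← Algebra.algebraMap_eq_smul_one]
    exact K.algebraMap_mem c
  have hv0 := FEx.mulVec_eq_zero hK hmemK (sub_ne_zero.mpr (hκ c)) h3
  have := congrFun hv0 i₀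
  rw [hv, Pi.single_eq_same, Pi.zero_apply] at this
  exact one_ne_zero this

theorem not_le_subfieldSubgroup [Fintype F] (hn : 2 ≤ n) (F₀ : Subfield F) (h0 : F₀ ≠ ⊤) (P : GL (Fin n) F) :
    ¬ specialLinear (Fin n) F ≤ subfieldSubgroup F₀ P := by
  intro hle
  obtain ⟨c, hc⟩ : ∃ c : F, c ∉ F₀ := by
    by_contra hcon
    push Not at hcon
    exact h0 (eq_top_iff.mpr fun x _ => hcon x)
  set i₀ : Fin n := ⟨0, by omega⟩ with hi₀
  set i₁ : Fin n := ⟨1, by omega⟩ with hi₁
  have hne : i₁ ≠ i₀ := by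
    intro h; have := congrArg Fin.val h; simp [hi₀, hi₁] at this
  set v : Fin n → F := Pi.single i₀ 1 with hv
  set φ : Fin n → F := Pi.single i₁ c with hφ
  have h : φ ⬝ᵥ v = 0 := by
    rw [hφ, single_dotProduct, hv, Pi.single_eq_of_ne hne, mul_zero]
  have hSL : tau v φ h ∈ specialLinear (Fin n) F := tau_mem_specialLinear v φ h
  have hnorm : (specialLinear (Fin n) F).Normal := by
    unfold specialLinear
    exact MonoidHom.normal_ker _
  have hconj : P * tau v φ h * P⁻¹ ∈ specialLinear (Fin n) F :=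
    hnorm.conj_mem _ hSL P
  have hmem := hle hconj
  unfold subfieldSubgroup at hmem
  rw [Subgroup.mem_map] at hmem
  obtain ⟨x, hx, hxe⟩ := hmem
  have hxt : x = tau v φ h := by
    simp only [MulEquiv.coe_toMonoidHom, MulAut.conj_apply] at hxe
    have := mul_left_cancel (mul_right_cancel hxe)
    exact this
  rw [Subgroup.mem_sup_of_normal_right] at hx
  obtain ⟨y, ⟨A, rfl⟩, z, hz, hyz⟩ := hx
  rw [mem_scalars_iff] at hz
  obtain ⟨d, hd⟩ := hz
  have hent : ∀ i j, ((tau v φ h : GL (Fin n) F) : Matrix (Fin n) (Fin n) F) i j =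
      ((A i j : F₀) : F) * (d : F) := by
    intro i j
    rw [← hxt, ← hyz, Matrix.GeneralLinearGroup.coe_mul, hd, Matrix.mul_smul, mul_one,
      Matrix.smul_apply, Matrix.GeneralLinearGroup.map_apply, smul_eq_mul, mul_comm]
    rfl
  have hval : ∀ i j, ((tau v φ h : GL (Fin n) F) : Matrix (Fin n) (Fin n) F) i j =
      (1 : Matrix (Fin n) (Fin n) F) i j + v i * φ j := by
    intro i j
    change (1 + Matrix.vecMulVec v φ) i j = _
    rw [Matrix.add_apply, Matrix.vecMulVec_apply]
  have e00 := hent i₀ i₀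
  rw [hval, Matrix.one_apply_eq, hφ, Pi.single_eq_of_ne hne.symm, mul_zero, add_zero] at e00
  have e01 := hent i₀ i₁
  rw [hval, Matrix.one_apply_ne hne.symm, hφ, Pi.single_eq_same, hv, Pi.single_eq_same, zero_add,
    one_mul] at e01
  have hA0 : ((A i₀ i₀ : F₀) : F) ≠ 0 := by
    intro hzero
    rw [hzero, zero_mul] at e00
    exact one_ne_zero e00
  have hdF : (d : F) ∈ F₀ := by
    have : (d : F) = ((A i₀ i₀ : F₀) : F)⁻¹ := by
      exact eq_inv_of_mul_eq_one_right e00.symm
    rw [this]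
    exact F₀.inv_mem (A i₀ i₀).2
  apply hc
  rw [e01]
  exact F₀.mul_mem (A i₀ i₁).2 hdF

theorem not_le_normalizer_of_solvable [Fintype F] (hn : 3 ≤ n) (R : Subgroup (GL (Fin n) F))
    (hR : R ≤ specialLinear (Fin n) F) (hsol : Group.IsSolvable R) (hns : ¬ R ≤ scalars (Fin n) F) :
    ¬ specialLinear (Fin n) F ≤ subgroupNormalizer R := by
  intro hle
  let S := Matrix.SpecialLinearGroup (Fin n) F
  let tg : S →* GL (Fin n) F := Matrix.SpecialLinearGroup.toGL
  have htg_mem : ∀ A : S, tg A ∈ specialLinear (Fin n) F := by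
    intro A
    unfold specialLinear
    rw [MonoidHom.mem_ker]
    exact Matrix.SpecialLinearGroup.coeToGL_det A
  have htg_surj : ∀ g ∈ specialLinear (Fin n) F, ∃ A : S, tg A = g := by
    intro g hg
    unfold specialLinear at hg
    rw [MonoidHom.mem_ker] at hg
    have hdet : (g : Matrix (Fin n) (Fin n) F).det = 1 := by
      have := congrArg Units.val hg
      simpa using this
    exact ⟨⟨(g : Matrix (Fin n) (Fin n) F), hdet⟩, Units.ext rfl⟩
  set R' : Subgroup S := R.comap tg with hR'
  -- normality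
  have hnormal : R'.Normal := by
    refine ⟨fun A hA B => ?_⟩
    rw [hR', Subgroup.mem_comap, map_mul, map_mul, map_inv]
    have hB := hle (htg_mem B)
    unfold subgroupNormalizer at hB
    rw [Subgroup.mem_normalizer_iff] at hB
    exact (hB (tg A)).mp hA
  -- solvability
  have hsol' : Group.IsSolvable R' := by
    let f : ↥R' →* ↥R :=
      { toFun := fun x => ⟨tg x.1, x.2⟩
        map_one' := Subtype.ext (map_one tg)
        map_mul' := fun x y => Subtype.ext (map_mul tg x.1 y.1) }
    refine Group.isSolvable_of_isSolvable_injective (f := f) ?_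
    intro x y hxy
    have h1 : tg x.1 = tg y.1 := congrArg Subtype.val hxy
    exact Subtype.ext (Matrix.SpecialLinearGroup.toGL_injective h1)
  -- not central
  have hnc : ¬ R' ≤ Subgroup.center S := by
    intro hcen
    apply hns
    intro r hr
    obtain ⟨A, hA⟩ := htg_surj r (hR hr)
    have hAR : A ∈ R' := by rw [hR', Subgroup.mem_comap, hA]; exact hr
    obtain ⟨a, han, haA⟩ := Matrix.SpecialLinearGroup.mem_center_iff.mp (hcen hAR)
    have ha0 : a ≠ 0 := by
      rintro rfl
      rw [Fintype.card_fin, zero_pow (by omega)] at han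
      exact zero_ne_one han
    rw [mem_scalars_iff]
    refine ⟨Units.mk0 a ha0, ?_⟩
    rw [← hA, Units.val_mk0]
    change (A : Matrix (Fin n) (Fin n) F) = _
    rw [← haA, Matrix.smul_one_eq_diagonal]
    rfl
  haveI := Cfsg.Agent.Helper7.Transv.isSimpleGroup_PSL (F := F) hn
  let π : S →* Matrix.ProjectiveSpecialLinearGroup (Fin n) F := QuotientGroup.mk' (Subgroup.center S)
  have hπ : Function.Surjective π := QuotientGroup.mk'_surjective _
  have hmapN : (R'.map π).Normal := hnormal.map π hπ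
  rcases hmapN.eq_bot_or_eq_top with hb | ht
  · apply hnc
    have := (Subgroup.map_eq_bot_iff R').mp hb
    rwa [QuotientGroup.ker_mk'] at this
  · -- `PSL` would be solvable
    have hsolP : Group.IsSolvable (Matrix.ProjectiveSpecialLinearGroup (Fin n) F) := by
      refine Group.isSolvable_of_surjective (f := π.comp R'.subtype) ?_
      intro y
      have hy : y ∈ R'.map π := by rw [ht]; trivial
      obtain ⟨x, hx, rfl⟩ := hy
      exact ⟨⟨x, hx⟩, rfl⟩
    have hall : ∀ k, derivedSeries (Matrix.ProjectiveSpecialLinearGroup (Fin n) F) k = ⊤ := by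
      intro k
      induction k with
      | zero => rfl
      | succ k ih =>
        rw [derivedSeries_succ, ih]
        exact Cfsg.Agent.Helper7.Transv.commutator_PSL_eq_top hn
    obtain ⟨g, hg⟩ := exists_ne (1 : Matrix.ProjectiveSpecialLinearGroup (Fin n) F)
    exact not_isSolvable_of_mem_derivedSeries hg (fun k => by rw [hall k]; trivial) hsolP

end Cfsg.Agent.Helper7.Asch
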