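import Mathlib
import Cfsg.Agent.Helper8.SiegelSimple

set_option autoImplicit false
set_option linter.unusedSectionVars false

/-! Overgroups of the stabiliser of a totally singular subspace in the group generated by the
Siegel transformations of a quadratic space (helper7). -/

namespace Cfsg.Agent.Helper7.OrthMax

open Module Cfsg.Agent.Helper8.QuadForm Cfsg.Agent.Helper8.WittQuad Cfsg.Agent.Helper8.OrthOrder
  Cfsg.Agent.Helper8.Siegel Cfsg.Agent.Helper8.SiegelGroup

variable {F : Type*} [Field F] {V : Type*} [AddCommGroup V] [Module F V]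

/-- the singular vectors all of whose Siegel transformations lie in `M`. -/
def RS (Q : QuadraticForm F V) (M : Subgroup ↥(Isom Q)) (u : V) : Prop :=
  Q u = 0 ∧ ∀ w, QuadraticMap.polar Q u w = 0 → siegG Q u w ∈ M

theorem RS_map (Q : QuadraticForm F V) {M : Subgroup ↥(Isom Q)} {g : ↥(Isom Q)} (hg : g ∈ M)
    {u : V} (hu : RS Q M u) : RS Q M ((g : V ≃ₗ[F] V) u) := by
  refine ⟨by rw [g.2 u]; exact hu.1, fun w hw => ?_⟩
  have hw' : (g : V ≃ₗ[F] V) ((g : V ≃ₗ[F] V).symm w) = w := (g : V ≃ₗ[F] V).apply_symm_apply w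
  have h1 : QuadraticMap.polar Q u ((g : V ≃ₗ[F] V).symm w) = 0 := by
    rw [← polar_isometry Q g g.2, hw']
    exact hw
  have h2 := siegG_conj Q g u ((g : V ≃ₗ[F] V).symm w)
  rw [hw'] at h2
  rw [← h2]
  exact M.mul_mem (M.mul_mem hg (hu.2 _ h1)) (M.inv_mem hg)

theorem RS_smul (Q : QuadraticForm F V) {M : Subgroup ↥(Isom Q)} {u : V} (hu : RS Q M u) (c : F) :
    RS Q M (c • u) := by
  refine ⟨by rw [QuadraticMap.map_smul, hu.1, smul_zero], fun w hw => ?_⟩
  by_cases hc : c = 0
  · subst hc
    rw [zero_smul]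
    have : siegG Q 0 w = 1 := siegG_zero_left Q w
    rw [this]
    exact M.one_mem
  have h0 : QuadraticMap.polar Q u w = 0 := by
    rw [QuadraticMap.polar_smul_left, smul_eq_mul] at hw
    exact (mul_eq_zero.mp hw).resolve_left hc
  have : siegG Q (c • u) w = siegG Q u (c • w) := Subtype.ext (siegE_smul_left Q hu.1 h0 c)
  rw [this]
  exact hu.2 _ (by rw [QuadraticMap.polar_smul_right, h0, smul_zero])

/-- moving along a root group inside the set. -/
theorem RS_move (Q : QuadraticForm F V) {M : Subgroup ↥(Isom Q)} {u a a' : V} (hu : RS Q M u)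
    (ha : RS Q M a) (ha' : Q a' = 0) (hua : QuadraticMap.polar Q u a ≠ 0)
    (hua' : QuadraticMap.polar Q u a' = QuadraticMap.polar Q u a) : RS Q M a' := by
  set α := QuadraticMap.polar Q u a with hα
  have hu' : RS Q M (α⁻¹ • u) := RS_smul Q hu _
  have h1 : QuadraticMap.polar Q (α⁻¹ • u) a = 1 := by
    rw [QuadraticMap.polar_smul_left, ← hα, smul_eq_mul, inv_mul_cancel₀ hua]
  have h2 : QuadraticMap.polar Q (α⁻¹ • u) a' = 1 := by
    rw [QuadraticMap.polar_smul_left, hua', smul_eq_mul, inv_mul_cancel₀ hua]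
  obtain ⟨h3, h4⟩ := sieg_move Q hu'.1 (ha.1.trans ha'.symm) h1 h2
  have := RS_map Q (hu'.2 _ h3) ha
  rw [siegG_val, h4] at this
  exact this

section

variable (Q : QuadraticForm F V) (W : Submodule F V) (hW : ∀ w ∈ W, Q w = 0)
  (M : Subgroup ↥(Isom Q))
  (hPM : ∀ g ∈ SG Q, (∀ x ∈ W, (g : V ≃ₗ[F] V) x ∈ W) → g ∈ M)

include hW

theorem polar_of_ts {x y : V} (hx : x ∈ W) (hy : y ∈ W) : QuadraticMap.polar Q x y = 0 := by
  unfold QuadraticMap.polar
  rw [hW _ (W.add_mem hx hy), hW x hx, hW y hy]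
  ring

include hPM

theorem RS_of_mem {u : V} (hu : u ∈ W) : RS Q M u := by
  refine ⟨hW u hu, fun w hw => ?_⟩
  apply hPM _ (siegG_mem_SG Q (hW u hu) hw)
  intro x hx
  rw [siegG_val, siegE_apply Q (hW u hu) hw, sieg_apply, polar_of_ts Q W hW hx hu, zero_smul,
    mul_zero, zero_smul, sub_zero, sub_zero]
  exact W.add_mem hx (W.smul_mem _ hu)

/-- Siegel transformations with both parameters orthogonal to `W` lie in `M`. -/
theorem siegG_perp_mem {u z : V} (hu : Q u = 0) (huz : QuadraticMap.polar Q u z = 0)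
    (huW : ∀ w ∈ W, QuadraticMap.polar Q u w = 0) (hzW : ∀ w ∈ W, QuadraticMap.polar Q z w = 0) :
    siegG Q u z ∈ M := by
  apply hPM _ (siegG_mem_SG Q hu huz)
  intro x hx
  rw [siegG_val, siegE_fix Q (by rw [QuadraticMap.polar_comm]; exact huW x hx)
    (by rw [QuadraticMap.polar_comm]; exact hzW x hx)]
  exact hx

/-- **The dichotomy** for the stabiliser of a totally singular subspace. -/
theorem ts_stab_or_top (hQ : Nondeg Q)
    (H : ∀ t, Q t = 0 → (∀ w ∈ W, QuadraticMap.polar Q t w = 0) → t ∉ W →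
      ∃ u z, Q u = 0 ∧ (∀ w ∈ W, QuadraticMap.polar Q u w = 0) ∧ QuadraticMap.polar Q t u ≠ 0 ∧
        QuadraticMap.polar Q u z = 0 ∧ (∀ w ∈ W, QuadraticMap.polar Q z w = 0) ∧ Q z ≠ 0) :
    (∀ g ∈ M, ∀ x ∈ W, (g : V ≃ₗ[F] V) x ∈ W) ∨ SG Q ≤ M := by
  by_cases hcase : ∀ y, RS Q M y → ∀ w ∈ W, QuadraticMap.polar Q y w = 0
  · left
    intro g hg x hx
    by_contra hgx
    set t := (g : V ≃ₗ[F] V) x with ht
    have hRt : RS Q M t := RS_map Q hg (RS_of_mem Q W hW M hPM hx)
    obtain ⟨u, z, hu, huW, htu, huz, hzW, hz⟩ := H t hRt.1 (hcase t hRt) hgx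
    have hh : siegG Q u z ∈ M := siegG_perp_mem Q W hW M hPM hu huz huW hzW
    have hRt' := RS_map Q hh hRt
    rw [siegG_val, siegE_apply Q hu huz] at hRt'
    have hpol : QuadraticMap.polar Q (sieg Q u z t) t ≠ 0 := by
      rw [polar_sieg, polar_self', hRt.1, QuadraticMap.polar_comm Q u t,
        QuadraticMap.polar_comm Q z t]
      have : 2 * 0 + QuadraticMap.polar Q t z * QuadraticMap.polar Q t u
          - QuadraticMap.polar Q t u * QuadraticMap.polar Q t z
          - Q z * QuadraticMap.polar Q t u * QuadraticMap.polar Q t u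
          = -(Q z * (QuadraticMap.polar Q t u * QuadraticMap.polar Q t u)) := by ring
      rw [this]
      exact neg_ne_zero.mpr (mul_ne_zero hz (mul_ne_zero htu htu))
    have hRx' := RS_map Q (M.inv_mem hg) hRt'
    have := hcase _ hRx' x hx
    apply hpol
    rw [← polar_isometry Q ((g⁻¹ : ↥(Isom Q)) : V ≃ₗ[F] V) (g⁻¹).2, ht]
    have hx' : ((g⁻¹ : ↥(Isom Q)) : V ≃ₗ[F] V) ((g : V ≃ₗ[F] V) x) = x :=
      (g : V ≃ₗ[F] V).symm_apply_apply x
    rw [hx']
    exact this
  · right
    push Not at hcase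
    obtain ⟨y, hRy, w, hw, hyw⟩ := hcase
    -- singular vectors not orthogonal to `W`
    have A1 : ∀ y', Q y' = 0 → ∀ w' ∈ W, QuadraticMap.polar Q y' w' ≠ 0 → RS Q M y' := by
      intro y' hy' w' hw' hyw'
      obtain ⟨w'', hw'', h1, h2⟩ : ∃ w'' ∈ W, QuadraticMap.polar Q w'' y ≠ 0 ∧
          QuadraticMap.polar Q w'' y' ≠ 0 := by
        by_cases h1 : QuadraticMap.polar Q y' w = 0
        · by_cases h2 : QuadraticMap.polar Q y w' = 0
          · refine ⟨w + w', W.add_mem hw hw', ?_, ?_⟩
            · rw [QuadraticMap.polar_comm, QuadraticMap.polar_add_right, h2, add_zero]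
              exact hyw
            · rw [QuadraticMap.polar_comm, QuadraticMap.polar_add_right, h1, zero_add]
              exact hyw'
          · exact ⟨w', hw', by rw [QuadraticMap.polar_comm]; exact h2,
              by rw [QuadraticMap.polar_comm]; exact hyw'⟩
        · exact ⟨w, hw, by rw [QuadraticMap.polar_comm]; exact hyw,
            by rw [QuadraticMap.polar_comm]; exact h1⟩
      set c := QuadraticMap.polar Q w'' y / QuadraticMap.polar Q w'' y' with hc
      have hc0 : c ≠ 0 := div_ne_zero h1 h2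
      have h3 : RS Q M (c • y') := by
        apply RS_move Q (RS_of_mem Q W hW M hPM hw'') hRy
          (by rw [QuadraticMap.map_smul, hy', smul_zero]) h1
        rw [QuadraticMap.polar_smul_right, smul_eq_mul, hc, div_mul_cancel₀ _ h2]
      have := RS_smul Q h3 c⁻¹
      rwa [smul_smul, inv_mul_cancel₀ hc0, one_smul] at this
    -- singular vectors orthogonal to `W`
    have A2 : ∀ u, Q u = 0 → (∀ w' ∈ W, QuadraticMap.polar Q u w' = 0) → RS Q M u := by
      intro u hu huW
      by_cases hu0 : u = 0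
      · rw [hu0]
        exact RS_of_mem Q W hW M hPM W.zero_mem
      obtain ⟨v, hv, w₁, hw₁, hvw₁, hvu⟩ : ∃ v, Q v = 0 ∧ ∃ w₁ ∈ W,
          QuadraticMap.polar Q v w₁ ≠ 0 ∧ QuadraticMap.polar Q v u ≠ 0 := by
        by_cases h1 : QuadraticMap.polar Q y u = 0
        · obtain ⟨u', hu', huu'⟩ := exists_hyperbolic_pair Q hQ hu0 hu
          by_cases h2 : ∃ w' ∈ W, QuadraticMap.polar Q u' w' ≠ 0
          · obtain ⟨w', hw', h3⟩ := h2
            exact ⟨u', hu', w', hw', h3, by rw [QuadraticMap.polar_comm, huu']; exact one_ne_zero⟩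
          · push Not at h2
            set γ := QuadraticMap.polar Q y u' with hγ
            set a := QuadraticMap.polar Q y w with ha
            have hww : Q w = 0 := hW w hw
            have hu'w : QuadraticMap.polar Q u' w = 0 := h2 w hw
            have huw : QuadraticMap.polar Q u w = 0 := huW w hw
            refine ⟨y + u' - (γ / a) • w, ?_, w, hw, ?_, ?_⟩
            · rw [sub_eq_add_neg, ← neg_smul, QuadraticMap.map_add Q, QuadraticMap.map_add Q,
                QuadraticMap.map_smul, hRy.1, hu', hww, QuadraticMap.polar_smul_right,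
                QuadraticMap.polar_add_left, ← ha, ← hγ, hu'w]
              simp only [smul_eq_mul]
              field_simp
              ring
            · rw [QuadraticMap.polar_sub_left, QuadraticMap.polar_add_left,
                QuadraticMap.polar_smul_left, ← ha, hu'w, polar_self', hww]
              simp only [smul_eq_mul]
              rw [mul_zero, mul_zero, add_zero, sub_zero]
              exact hyw
            · rw [QuadraticMap.polar_sub_left, QuadraticMap.polar_add_left,
                QuadraticMap.polar_smul_left, h1, QuadraticMap.polar_comm Q u' u, huu',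
                QuadraticMap.polar_comm Q w u, huw]
              simp
        · exact ⟨y, hRy.1, w, hw, hyw, h1⟩
      have hRv : RS Q M v := A1 v hv w₁ hw₁ hvw₁
      set c := QuadraticMap.polar Q v u / QuadraticMap.polar Q v w₁ with hc
      apply RS_move Q hRv (RS_of_mem Q W hW M hPM (W.smul_mem c hw₁)) hu
      · rw [QuadraticMap.polar_smul_right, smul_eq_mul, hc, div_mul_cancel₀ _ hvw₁]
        exact hvu
      · rw [QuadraticMap.polar_smul_right, smul_eq_mul, hc, div_mul_cancel₀ _ hvw₁]
    unfold SG SGW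
    rw [Subgroup.closure_le]
    rintro g ⟨c, -, z, -, hc, hcz, rfl⟩
    by_cases h : ∀ w' ∈ W, QuadraticMap.polar Q c w' = 0
    · exact (A2 c hc h).2 z hcz
    · push Not at h
      obtain ⟨w', hw', h⟩ := h
      exact (A1 c hc w' hw' h).2 z hcz

end

end Cfsg.Agent.Helper7.OrthMax
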