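import Mathlib
import Cfsg.Agent.Helper7.OrthMaxA

set_option autoImplicit false
set_option linter.unusedSectionVars false

/-! Totally singular subspaces of a quadratic space: dimension bounds, the hypothesis of the
dichotomy, properness of the stabiliser (helper7). -/

namespace Cfsg.Agent.Helper7.OrthMax

open Module Cfsg.Agent.Helper8.QuadForm Cfsg.Agent.Helper8.WittQuad Cfsg.Agent.Helper8.OrthOrder
  Cfsg.Agent.Helper8.Siegel Cfsg.Agent.Helper8.SiegelGroup

variable {F : Type*} [Field F] {V : Type*} [AddCommGroup V] [Module F V]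

theorem polarBilin_isRefl (Q : QuadraticForm F V) : (QuadraticMap.polarBilin Q).IsRefl := by
  intro x y h
  rw [QuadraticMap.polarBilin_apply_apply] at h ⊢
  rw [QuadraticMap.polar_comm]
  exact h

theorem mem_orth_iff (Q : QuadraticForm F V) (W : Submodule F V) (x : V) :
    x ∈ LinearMap.BilinForm.orthogonal (QuadraticMap.polarBilin Q) W ↔ ∀ w ∈ W, QuadraticMap.polar Q x w = 0 := by
  rw [LinearMap.BilinForm.mem_orthogonal_iff]
  constructor
  · intro h w hw
    rw [QuadraticMap.polar_comm]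
    exact h w hw
  · intro h w hw
    show QuadraticMap.polar Q w x = 0
    rw [QuadraticMap.polar_comm]
    exact h w hw

/-- a linear automorphism mapping a finite-dimensional subspace into itself maps it onto
itself. -/
theorem mapsTo_iff [FiniteDimensional F V] (g : V ≃ₗ[F] V) (W : Submodule F V)
    (h : ∀ x ∈ W, g x ∈ W) (v : V) : v ∈ W ↔ g v ∈ W := by
  refine ⟨h v, fun hv => ?_⟩
  have hle : W.map (g : V →ₗ[F] V) ≤ W := by
    rintro _ ⟨x, hx, rfl⟩
    exact h x hx
  have heq : W.map (g : V →ₗ[F] V) = W :=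
    Submodule.eq_of_le_of_finrank_eq hle (LinearEquiv.finrank_map_eq g W)
  rw [← heq] at hv
  obtain ⟨x, hx, hxv⟩ := hv
  have : x = v := g.injective hxv
  rw [← this]
  exact hx

section

variable [FiniteDimensional F V] (Q : QuadraticForm F V) (hQ : Nondeg Q)

include hQ

/-- totally singular subspaces have at most half the dimension. -/
theorem ts_finrank_le (T : Submodule F V) (hT : ∀ w ∈ T, Q w = 0) :
    2 * finrank F T ≤ finrank F V := by
  have hB : (QuadraticMap.polarBilin Q).Nondegenerate := (nondeg_iff Q).mpr hQ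
  have hle : T ≤ LinearMap.BilinForm.orthogonal (QuadraticMap.polarBilin Q) T := by
    intro x hx
    rw [mem_orth_iff]
    intro w hw
    exact polar_of_ts Q T hT hx hw
  have h1 := Submodule.finrank_mono hle
  rw [LinearMap.BilinForm.finrank_orthogonal hB] at h1
  have h2 := Submodule.finrank_le T
  omega

omit hQ in
/-- extending a totally singular subspace by an orthogonal singular vector. -/
theorem ts_extend (W : Submodule F V) (hW : ∀ w ∈ W, Q w = 0) {t : V} (ht : Q t = 0)
    (htW : ∀ w ∈ W, QuadraticMap.polar Q t w = 0) (htn : t ∉ W) :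
    ∃ T : Submodule F V, (∀ x ∈ T, Q x = 0) ∧ finrank F W + 1 ≤ finrank F T := by
  refine ⟨W ⊔ Submodule.span F {t}, ?_, ?_⟩
  · intro x hx
    obtain ⟨w, hw, y, hy, rfl⟩ := Submodule.mem_sup.mp hx
    obtain ⟨c, rfl⟩ := Submodule.mem_span_singleton.mp hy
    rw [QuadraticMap.map_add Q, QuadraticMap.map_smul, ht, hW w hw, QuadraticMap.polar_smul_right,
      QuadraticMap.polar_comm, htW w hw]
    simp
  · have hlt : W < W ⊔ Submodule.span F {t} := by
      refine lt_of_le_of_ne le_sup_left fun h => htn ?_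
      rw [h]
      exact Submodule.mem_sup_right (Submodule.mem_span_singleton_self t)
    exact Submodule.finrank_lt_finrank_of_lt hlt

/-- the hypothesis of the dichotomy holds when the codimension is large enough. -/
theorem H_of_dim (W : Submodule F V) (hW : ∀ w ∈ W, Q w = 0)
    (hd : 2 * finrank F W + 3 ≤ finrank F V) :
    ∀ t, Q t = 0 → (∀ w ∈ W, QuadraticMap.polar Q t w = 0) → t ∉ W →
      ∃ u z, Q u = 0 ∧ (∀ w ∈ W, QuadraticMap.polar Q u w = 0) ∧ QuadraticMap.polar Q t u ≠ 0 ∧
        QuadraticMap.polar Q u z = 0 ∧ (∀ w ∈ W, QuadraticMap.polar Q z w = 0) ∧ Q z ≠ 0 := by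
  intro t ht htW htn
  have hB : (QuadraticMap.polarBilin Q).Nondegenerate := (nondeg_iff Q).mpr hQ
  -- a vector orthogonal to `W` but not to `t`
  obtain ⟨u₀, hu₀W, hu₀t⟩ : ∃ u₀, (∀ w ∈ W, QuadraticMap.polar Q u₀ w = 0) ∧
      QuadraticMap.polar Q t u₀ ≠ 0 := by
    by_contra hcon
    push Not at hcon
    apply htn
    rw [← LinearMap.BilinForm.orthogonal_orthogonal hB (polarBilin_isRefl Q) W, mem_orth_iff]
    intro n hn
    rw [mem_orth_iff] at hn
    exact hcon n hn
  obtain ⟨α, hα⟩ : ∃ α : F, α = QuadraticMap.polar Q t u₀ := ⟨_, rfl⟩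
  rw [← hα] at hu₀t
  obtain ⟨u₁, hu₁⟩ : ∃ u₁ : V, u₁ = α⁻¹ • u₀ := ⟨_, rfl⟩
  have h1 : QuadraticMap.polar Q t u₁ = 1 := by
    rw [hu₁, QuadraticMap.polar_smul_right, ← hα, smul_eq_mul, inv_mul_cancel₀ hu₀t]
  have hu₁W : ∀ w ∈ W, QuadraticMap.polar Q u₁ w = 0 := by
    intro w hw
    rw [hu₁, QuadraticMap.polar_smul_left, hu₀W w hw, smul_zero]
  obtain ⟨u, hu⟩ : ∃ u : V, u = u₁ - Q u₁ • t := ⟨_, rfl⟩
  have hQu : Q u = 0 := by
    rw [hu, sub_eq_add_neg, ← neg_smul, QuadraticMap.map_add Q, QuadraticMap.map_smul, ht,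
      QuadraticMap.polar_smul_right, QuadraticMap.polar_comm Q u₁ t, h1]
    simp
  have huW : ∀ w ∈ W, QuadraticMap.polar Q u w = 0 := by
    intro w hw
    rw [hu, QuadraticMap.polar_sub_left, QuadraticMap.polar_smul_left, hu₁W w hw, htW w hw,
      smul_zero, sub_zero]
  have htu : QuadraticMap.polar Q t u = 1 := by
    rw [hu, QuadraticMap.polar_sub_right, QuadraticMap.polar_smul_right, h1, polar_self', ht]
    simp
  by_contra hcon
  push Not at hcon
  have hz : ∀ z, QuadraticMap.polar Q u z = 0 → (∀ w ∈ W, QuadraticMap.polar Q z w = 0) →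
      Q z = 0 := by
    intro z h1 h2
    exact hcon u z hQu huW (by rw [htu]; exact one_ne_zero) h1 h2
  set Y := W ⊔ Submodule.span F {u} with hY
  have hX : ∀ z ∈ LinearMap.BilinForm.orthogonal (QuadraticMap.polarBilin Q) Y, Q z = 0 := by
    intro z hz'
    rw [mem_orth_iff] at hz'
    apply hz z
    · rw [QuadraticMap.polar_comm]
      exact hz' u (Submodule.mem_sup_right (Submodule.mem_span_singleton_self u))
    · intro w hw
      exact hz' w (Submodule.mem_sup_left hw)
  have h2 := ts_finrank_le Q hQ _ hX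
  rw [LinearMap.BilinForm.finrank_orthogonal hB] at h2
  have h3 : finrank F Y ≤ finrank F W + 1 := by
    calc finrank F Y ≤ finrank F W + finrank F (Submodule.span F {u}) :=
          Submodule.finrank_add_le_finrank_add_finrank _ _
      _ ≤ finrank F W + 1 := by
          have := finrank_span_le_card (R := F) ({u} : Set V)
          rw [Set.toFinset_singleton, Finset.card_singleton] at this
          omega
  omega

/-- the hypothesis of the dichotomy, from a condition on the totally singular subspaces of half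
the dimension. -/
theorem H_cases (W : Submodule F V) (hW : ∀ w ∈ W, Q w = 0)
    (hex : finrank F V = 2 * finrank F W + 2 →
      ¬ ∃ T : Submodule F V, (∀ x ∈ T, Q x = 0) ∧ 2 * finrank F T = finrank F V) :
    ∀ t, Q t = 0 → (∀ w ∈ W, QuadraticMap.polar Q t w = 0) → t ∉ W →
      ∃ u z, Q u = 0 ∧ (∀ w ∈ W, QuadraticMap.polar Q u w = 0) ∧ QuadraticMap.polar Q t u ≠ 0 ∧
        QuadraticMap.polar Q u z = 0 ∧ (∀ w ∈ W, QuadraticMap.polar Q z w = 0) ∧ Q z ≠ 0 := by
  intro t ht htW htn
  by_cases hd : 2 * finrank F W + 3 ≤ finrank F V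
  · exact H_of_dim Q hQ W hW hd t ht htW htn
  exfalso
  obtain ⟨T, hT, hTd⟩ := ts_extend Q W hW ht htW htn
  have h1 := ts_finrank_le Q hQ T hT
  have h2 : finrank F V = 2 * finrank F W + 2 := by omega
  exact hex h2 ⟨T, hT, by omega⟩

/-- the stabiliser of a non-zero totally singular subspace is a proper subgroup. -/
theorem exists_not_stab [Finite F] (h3 : 3 ≤ finrank F V) (W : Submodule F V) (hW0 : W ≠ ⊥)
    (hW : ∀ w ∈ W, Q w = 0) : ∃ g ∈ SG Q, ∃ x ∈ W, (g : V ≃ₗ[F] V) x ∉ W := by
  obtain ⟨w, hw, hw0⟩ := (Submodule.ne_bot_iff W).mp hW0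
  obtain ⟨u', hu', hwu'⟩ := exists_hyperbolic_pair Q hQ hw0 (hW w hw)
  have hu'0 : u' ≠ 0 := by
    rintro rfl
    rw [QuadraticMap.polar_zero_right] at hwu'
    exact zero_ne_one hwu'
  have htop : NondegOn Q ⊤ := fun x _ h => hQ x (fun y => h y trivial)
  obtain ⟨g, hg, t, ht0, hgt⟩ := exists_SGW_smul Q ⊤ htop (by rw [finrank_top]; exact h3)
    (a := w) (a' := u') trivial trivial (hW w hw) hu' hw0 hu'0
  refine ⟨g, hg, w, hw, fun h => ?_⟩
  rw [hgt] at h
  have := polar_of_ts Q W hW hw h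
  rw [QuadraticMap.polar_smul_right, hwu', smul_eq_mul, mul_one] at this
  exact ht0 this

end

end Cfsg.Agent.Helper7.OrthMax
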