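import Mathlib
import Cfsg.Prelude.Def_GeometricClasses
import Cfsg.Agent.Helper7.OrthMaxB
import Cfsg.Agent.Helper8.OmegaSimple

set_option autoImplicit false
set_option linter.unusedSectionVars false

/-! Transfer to matrices: the stabiliser of a totally singular subspace is maximal in `Ω(Q)`
(helper7). -/

namespace Cfsg.Agent.Helper7.OrthMax

open Module Cfsg.Agent.Helper8.QuadForm Cfsg.Agent.Helper8.WittQuad Cfsg.Agent.Helper8.OrthOrder
  Cfsg.Agent.Helper8.Siegel Cfsg.Agent.Helper8.SiegelGroup Cfsg.Agent.Helper8.ReflMatrix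
  Cfsg.Agent.Helper8.OmegaSimple

variable {F : Type*} [Field F] {ι : Type} [Fintype ι] [DecidableEq ι]
  (Q : QuadraticForm F (ι → F))

/-- the abstract isometry group inside the general linear group. -/
noncomputable def toGL : ↥(Isom Q) →* GL ι F :=
  (Cfsg.isometryGroup F ⇑Q).subtype.comp (isomEquiv Q).symm.toMonoidHom

theorem toGL_isomEquiv (x : ↥(Cfsg.isometryGroup F ⇑Q)) : toGL Q (isomEquiv Q x) = x.1 := by
  show (((isomEquiv Q).symm (isomEquiv Q x) : ↥(Cfsg.isometryGroup F ⇑Q)) : GL ι F) = x.1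
  rw [MulEquiv.symm_apply_apply]

theorem toGL_mulVec (k : ↥(Isom Q)) (v : ι → F) :
    ((toGL Q k : GL ι F) : Matrix ι ι F).mulVec v = (k : (ι → F) ≃ₗ[F] (ι → F)) v := by
  have h := isomEquiv_apply Q ((isomEquiv Q).symm k) v
  rw [MulEquiv.apply_symm_apply] at h
  exact h.symm

theorem toGL_mem_stab (W : Submodule F (ι → F)) (k : ↥(Isom Q)) :
    toGL Q k ∈ Cfsg.Geo.subspaceStabilizer W ↔
      ∀ v : ι → F, v ∈ W ↔ (k : (ι → F) ≃ₗ[F] (ι → F)) v ∈ W := by
  constructor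
  · intro h v
    have := h v
    rw [← toGL_mulVec]
    exact this
  · intro h v
    have := h v
    rw [← toGL_mulVec] at this
    exact this

variable [Fintype F]

theorem toGL_mem_omegaGL (hQ : (QuadraticMap.polarBilin Q).Nondegenerate)
    (h5 : 5 ≤ Fintype.card ι) {k : ↥(Isom Q)} (hk : k ∈ SG Q) :
    toGL Q k ∈ Cfsg.Geo.omegaGL ⇑Q := by
  rw [← map_Omega Q hQ h5] at hk
  obtain ⟨x, hx, rfl⟩ := hk
  show toGL Q (isomEquiv Q x) ∈ _
  rw [toGL_isomEquiv]
  exact ⟨x, hx, rfl⟩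

theorem exists_toGL_eq (hQ : (QuadraticMap.polarBilin Q).Nondegenerate)
    (h5 : 5 ≤ Fintype.card ι) {g : GL ι F} (hg : g ∈ Cfsg.Geo.omegaGL ⇑Q) :
    ∃ k ∈ SG Q, toGL Q k = g := by
  obtain ⟨x, hx, rfl⟩ := hg
  refine ⟨isomEquiv Q x, ?_, toGL_isomEquiv Q x⟩
  rw [← map_Omega Q hQ h5]
  exact ⟨x, hx, rfl⟩

/-- **Maximality** of the stabiliser of a non-zero totally singular subspace in `Ω(Q)`. -/
theorem ts_maximal (hQ : (QuadraticMap.polarBilin Q).Nondegenerate)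
    (h5 : 5 ≤ Fintype.card ι) (W : Submodule F (ι → F)) (hW0 : W ≠ ⊥)
    (hW : ∀ w ∈ W, Q w = 0)
    (hex : Fintype.card ι = 2 * finrank F W + 2 →
      ¬ ∃ T : Submodule F (ι → F), (∀ x ∈ T, Q x = 0) ∧ 2 * finrank F T = Fintype.card ι) :
    Cfsg.Geo.IsMaximalIn (Cfsg.Geo.omegaGL ⇑Q)
      (Cfsg.Geo.subspaceStabilizer W ⊓ Cfsg.Geo.omegaGL ⇑Q) := by
  have hQ' : Nondeg Q := (nondeg_iff Q).mp hQ
  have hfr : finrank F (ι → F) = Fintype.card ι := Module.finrank_fintype_fun_eq_card F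
  refine ⟨lt_of_le_not_ge inf_le_right ?_, ?_⟩
  · intro hle
    obtain ⟨g, hg, x, hx, hgx⟩ := exists_not_stab Q hQ' (by rw [hfr]; omega) W hW0 hW
    have h1 : toGL Q g ∈ Cfsg.Geo.subspaceStabilizer W := (hle (toGL_mem_omegaGL Q hQ h5 hg)).1
    rw [toGL_mem_stab] at h1
    exact hgx ((h1 x).mp hx)
  · intro M hPM hMG
    have key := ts_stab_or_top Q W hW (M.comap (toGL Q)) (by
      intro g hg hgW
      rw [Subgroup.mem_comap]
      exact hPM ⟨(toGL_mem_stab Q W g).mpr (mapsTo_iff _ W hgW), toGL_mem_omegaGL Q hQ h5 hg⟩)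
      hQ' (H_cases Q hQ' W hW (by rw [hfr]; exact hex))
    rcases key with h | h
    · left
      apply le_antisymm _ hPM
      intro g hg
      obtain ⟨k, hk, rfl⟩ := exists_toGL_eq Q hQ h5 (hMG hg)
      refine ⟨(toGL_mem_stab Q W k).mpr (mapsTo_iff _ W (h k (Subgroup.mem_comap.mpr hg))), hMG hg⟩
    · right
      apply le_antisymm hMG
      intro g hg
      obtain ⟨k, hk, rfl⟩ := exists_toGL_eq Q hQ h5 hg
      exact Subgroup.mem_comap.mp (h hk)

end Cfsg.Agent.Helper7.OrthMax
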