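import Mathlib

set_option autoImplicit false
set_option linter.unusedSectionVars false
set_option linter.unusedVariables false

/-!
Counting the subspaces of a given dimension of a finite vector space, and the primes dividing that number.
-/

namespace Cfsg.Agent.Helper7.POrd

open Module

variable {F : Type*} [Field F] {V : Type*} [AddCommGroup V] [Module F V]

/-- the type of subspaces of dimension `m`. -/
abbrev Sub (F : Type*) [Field F] (V : Type*) [AddCommGroup V] [Module F V] (m : ℕ) : Type _ :=
  {W : Submodule F V // finrank F ↥W = m}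

/-- the type of independent `m`-tuples. -/
abbrev Ind (F : Type*) [Field F] (V : Type*) [AddCommGroup V] [Module F V] (m : ℕ) : Type _ :=
  {s : Fin m → V // LinearIndependent F s}

/-- the span of an independent tuple. -/
noncomputable def spanOf (m : ℕ) (s : Ind F V m) : Sub F V m :=
  ⟨Submodule.span F (Set.range s.1), by
    rw [finrank_span_eq_card s.2, Fintype.card_fin]⟩

theorem span_eq_of_li [FiniteDimensional F V] {m : ℕ} (W : Submodule F V) (hW : finrank F ↥W = m)
    {s : Fin m → V} (hs : LinearIndependent F s) (hmem : ∀ i, s i ∈ W) :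
    Submodule.span F (Set.range s) = W := by
  apply Submodule.eq_of_le_of_finrank_eq
  · rw [Submodule.span_le]
    rintro _ ⟨i, rfl⟩
    exact hmem i
  · rw [finrank_span_eq_card hs, Fintype.card_fin, hW]

/-- the fibre of `spanOf` over `W` is the set of bases of `W`. -/
noncomputable def fibreEquiv [FiniteDimensional F V] (m : ℕ) (W : Sub F V m) :
    {s : Ind F V m // spanOf m s = W} ≃ Ind F ↥W.1 m where
  toFun s := ⟨fun i => ⟨s.1.1 i, by
      have h1 : (spanOf m s.1).1 = W.1 := by rw [s.2]
      rw [← h1]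
      exact Submodule.subset_span ⟨i, rfl⟩⟩, by
    apply LinearIndependent.of_comp W.1.subtype
    exact s.1.2⟩
  invFun e := ⟨⟨fun i => (e.1 i : V), e.2.map' W.1.subtype (Submodule.ker_subtype _)⟩, by
    apply Subtype.ext
    exact span_eq_of_li W.1 W.2 (e.2.map' W.1.subtype (Submodule.ker_subtype _)) (fun i => (e.1 i).2)⟩
  left_inv s := by
    apply Subtype.ext
    apply Subtype.ext
    rfl
  right_inv e := by
    apply Subtype.ext
    rfl

/-- **the number of `m`-dimensional subspaces**, in product form. -/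
theorem card_sub_mul [Fintype F] [Finite V] (m : ℕ) (hm : m ≤ finrank F V) :
    Nat.card (Sub F V m) * ∏ i : Fin m, (Fintype.card F ^ m - Fintype.card F ^ (i : ℕ)) =
      ∏ i : Fin m, (Fintype.card F ^ finrank F V - Fintype.card F ^ (i : ℕ)) := by
  classical
  have hfd : FiniteDimensional F V := Module.Finite.of_finite
  letI : Fintype (Sub F V m) := Fintype.ofFinite _
  have h0 := card_linearIndependent (K := F) (V := V) (k := m) hm
  rw [← h0, Nat.card_congr (Equiv.sigmaFiberEquiv (spanOf (F := F) (V := V) m)).symm, Nat.card_sigma]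
  have h : ∀ W : Sub F V m, Nat.card {s : Ind F V m // spanOf m s = W} =
      ∏ i : Fin m, (Fintype.card F ^ m - Fintype.card F ^ (i : ℕ)) := by
    intro W
    rw [Nat.card_congr (fibreEquiv m W)]
    have := card_linearIndependent (K := F) (V := ↥W.1) (k := m) (le_of_eq W.2.symm)
    rw [W.2] at this
    exact this
  rw [Finset.sum_congr rfl (fun P _ => h P), Finset.sum_const, Finset.card_univ, smul_eq_mul,
    Nat.card_eq_fintype_card]

/-- splitting off the powers of `q`. -/
theorem prod_split (q m n : ℕ) (hm : m ≤ n) :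
    ∏ i : Fin m, (q ^ n - q ^ (i : ℕ)) = (∏ i : Fin m, q ^ (i : ℕ)) * ∏ i : Fin m, (q ^ (n - (i : ℕ)) - 1) := by
  rw [← Finset.prod_mul_distrib]
  apply Finset.prod_congr rfl
  intro i _
  have hi : (i : ℕ) ≤ n := le_trans (le_of_lt i.2) hm
  rw [Nat.mul_sub, mul_one, ← pow_add, Nat.add_sub_cancel' hi]

/-- the number of `m`-dimensional subspaces, after cancelling the powers of `q`. -/
theorem card_sub_mul' [Fintype F] [Finite V] (m : ℕ) (hm : m ≤ finrank F V) :
    Nat.card (Sub F V m) * ∏ i : Fin m, (Fintype.card F ^ (m - (i : ℕ)) - 1) =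
      ∏ i : Fin m, (Fintype.card F ^ (finrank F V - (i : ℕ)) - 1) := by
  have h := card_sub_mul (F := F) (V := V) m hm
  rw [prod_split _ m m le_rfl, prod_split _ m _ hm] at h
  have hpos : 0 < ∏ i : Fin m, Fintype.card F ^ (i : ℕ) :=
    Finset.prod_pos (fun i _ => pow_pos Fintype.card_pos _)
  apply Nat.eq_of_mul_eq_mul_left hpos
  rw [← h]
  ring

/-- a prime dividing the number of `m`-spaces divides some `q^(n-t) - 1` with `t < m`. -/
theorem exists_dvd_of_dvd_card [Fintype F] [Finite V] (m : ℕ) (hm : m ≤ finrank F V) {r : ℕ} (hr : r.Prime)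
    (h : r ∣ Nat.card (Sub F V m)) :
    ∃ t < m, r ∣ Fintype.card F ^ (finrank F V - t) - 1 := by
  have h1 : r ∣ ∏ i : Fin m, (Fintype.card F ^ (finrank F V - (i : ℕ)) - 1) := by
    rw [← card_sub_mul' m hm]
    exact Dvd.dvd.mul_right h _
  rw [hr.prime.dvd_finsetProd_iff] at h1
  obtain ⟨i, _, hi⟩ := h1
  exact ⟨i, i.2, hi⟩

end Cfsg.Agent.Helper7.POrd
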