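import Mathlib
import Cfsg.Agent.Helper7.POrdA

set_option autoImplicit false
set_option linter.unusedSectionVars false
set_option linter.unusedVariables false

/-!
Linear maps `T` with `T ^ r = 1`, `r` a prime different from the characteristic: the fixed space, the space killed by
`1 + T + ... + T^(r-1)`, and the dimensions of the invariant subspaces.
-/

namespace Cfsg.Agent.Helper7.POrd

open Module

variable {F : Type*} [Field F] {V : Type*} [AddCommGroup V] [Module F V]

/-- the fixed space. -/
def fixS (T : Module.End F V) : Submodule F V := LinearMap.ker (T - 1)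

/-- `1 + T + ... + T^(r-1)`. -/
def Phi (r : ℕ) (T : Module.End F V) : Module.End F V := ∑ t ∈ Finset.range r, T ^ t

/-- the space killed by `Phi`. -/
def movS (r : ℕ) (T : Module.End F V) : Submodule F V := LinearMap.ker (Phi r T)

theorem mem_fixS {T : Module.End F V} {v : V} : v ∈ fixS T ↔ T v = v := by
  unfold fixS
  rw [LinearMap.mem_ker, LinearMap.sub_apply, Module.End.one_apply, sub_eq_zero]

theorem mem_movS {r : ℕ} {T : Module.End F V} {v : V} : v ∈ movS r T ↔ Phi r T v = 0 := LinearMap.mem_ker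

theorem pow_apply_of_fixed {T : Module.End F V} {v : V} (hv : T v = v) (t : ℕ) : (T ^ t) v = v := by
  induction t with
  | zero => simp
  | succ t ih => rw [pow_succ, Module.End.mul_apply, hv, ih]

theorem Phi_apply_of_fixed {r : ℕ} {T : Module.End F V} {v : V} (hv : T v = v) : Phi r T v = (r : F) • v := by
  unfold Phi
  rw [LinearMap.sum_apply, Finset.sum_congr rfl (fun t _ => pow_apply_of_fixed hv t), Finset.sum_const,
    Finset.card_range, Nat.cast_smul_eq_nsmul]

theorem Phi_mul_sub (r : ℕ) (T : Module.End F V) : Phi r T * (T - 1) = T ^ r - 1 := by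
  unfold Phi
  exact geom_sum_mul T r

theorem sub_mul_Phi (r : ℕ) (T : Module.End F V) : (T - 1) * Phi r T = T ^ r - 1 := by
  unfold Phi
  exact mul_geom_sum T r

theorem Phi_commute (r : ℕ) (T : Module.End F V) : Commute T (Phi r T) := by
  unfold Phi
  exact Commute.sum_right _ _ _ (fun t _ => (Commute.refl T).pow_right t)

theorem Phi_mem_fixS {r : ℕ} {T : Module.End F V} (hT : T ^ r = 1) (v : V) : Phi r T v ∈ fixS T := by
  unfold fixS
  rw [LinearMap.mem_ker, ← Module.End.mul_apply, sub_mul_Phi, hT, sub_self, LinearMap.zero_apply]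

theorem disjoint_fix_mov {r : ℕ} (hr : (r : F) ≠ 0) (T : Module.End F V) : Disjoint (fixS T) (movS r T) := by
  rw [Submodule.disjoint_def]
  intro v h1 h2
  rw [mem_fixS] at h1
  rw [mem_movS, Phi_apply_of_fixed h1] at h2
  exact (smul_eq_zero.mp h2).resolve_left hr

theorem isCompl_fix_mov {r : ℕ} (hr : (r : F) ≠ 0) {T : Module.End F V} (hT : T ^ r = 1) :
    IsCompl (fixS T) (movS r T) := by
  refine ⟨disjoint_fix_mov hr T, ?_⟩
  rw [codisjoint_iff, eq_top_iff]
  intro v _
  have h1 : (r : F)⁻¹ • Phi r T v ∈ fixS T := Submodule.smul_mem _ _ (Phi_mem_fixS hT v)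
  have h2 : v - (r : F)⁻¹ • Phi r T v ∈ movS r T := by
    rw [mem_movS, map_sub, map_smul, Phi_apply_of_fixed (mem_fixS.mp (Phi_mem_fixS hT v)), smul_smul,
      inv_mul_cancel₀ hr, one_smul, sub_self]
  have : v = (r : F)⁻¹ • Phi r T v + (v - (r : F)⁻¹ • Phi r T v) := by abel
  rw [this]
  exact Submodule.add_mem_sup h1 h2

/-- the fixed space and the moved space are invariant. -/
theorem fixS_invt (T : Module.End F V) : fixS T ∈ Module.End.invtSubmodule T := by
  rw [Module.End.mem_invtSubmodule]
  intro v hv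
  rw [Submodule.mem_comap, mem_fixS]
  rw [mem_fixS] at hv
  rw [hv, hv]

theorem movS_invt (r : ℕ) (T : Module.End F V) : movS r T ∈ Module.End.invtSubmodule T := by
  rw [Module.End.mem_invtSubmodule]
  intro v hv
  rw [Submodule.mem_comap, mem_movS, ← Module.End.mul_apply, ← (Phi_commute r T).eq, Module.End.mul_apply,
    mem_movS.mp hv, map_zero]

theorem invt_apply {T : Module.End F V} {W : Submodule F V} (hW : W ∈ Module.End.invtSubmodule T) {w : V}
    (hw : w ∈ W) : T w ∈ W := by
  rw [Module.End.mem_invtSubmodule] at hW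
  exact hW hw

theorem invt_pow_apply {T : Module.End F V} {W : Submodule F V} (hW : W ∈ Module.End.invtSubmodule T) {w : V}
    (hw : w ∈ W) (t : ℕ) : (T ^ t) w ∈ W := by
  induction t with
  | zero => simpa using hw
  | succ t ih =>
    rw [pow_succ', Module.End.mul_apply]
    exact invt_apply hW ih

theorem invt_Phi_apply {r : ℕ} {T : Module.End F V} {W : Submodule F V} (hW : W ∈ Module.End.invtSubmodule T)
    {w : V} (hw : w ∈ W) : Phi r T w ∈ W := by
  unfold Phi
  rw [LinearMap.sum_apply]
  exact Submodule.sum_mem _ (fun t _ => invt_pow_apply hW hw t)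

/-- an invariant subspace is the sum of its fixed part and its moved part. -/
theorem invt_decomp {r : ℕ} (hr : (r : F) ≠ 0) {T : Module.End F V} (hT : T ^ r = 1) {W : Submodule F V}
    (hW : W ∈ Module.End.invtSubmodule T) : W = (W ⊓ fixS T) ⊔ (W ⊓ movS r T) := by
  apply le_antisymm
  · intro w hw
    have h0 : (r : F)⁻¹ • Phi r T w ∈ W := Submodule.smul_mem _ _ (invt_Phi_apply hW hw)
    have h1 : (r : F)⁻¹ • Phi r T w ∈ fixS T := Submodule.smul_mem _ _ (Phi_mem_fixS hT w)
    have h2 : w - (r : F)⁻¹ • Phi r T w ∈ movS r T := by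
      rw [mem_movS, map_sub, map_smul, Phi_apply_of_fixed (mem_fixS.mp (Phi_mem_fixS hT w)), smul_smul,
        inv_mul_cancel₀ hr, one_smul, sub_self]
    have : w = (r : F)⁻¹ • Phi r T w + (w - (r : F)⁻¹ • Phi r T w) := by abel
    rw [this]
    exact Submodule.add_mem_sup ⟨h0, h1⟩ ⟨Submodule.sub_mem _ hw h0, h2⟩
  · exact sup_le inf_le_left inf_le_left

theorem finrank_invt_decomp [FiniteDimensional F V] {r : ℕ} (hr : (r : F) ≠ 0) {T : Module.End F V}
    (hT : T ^ r = 1) {W : Submodule F V} (hW : W ∈ Module.End.invtSubmodule T) :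
    finrank F ↥W = finrank F ↥(W ⊓ fixS T) + finrank F ↥(W ⊓ movS r T) := by
  have h := Submodule.finrank_sup_add_finrank_inf_eq (W ⊓ fixS T) (W ⊓ movS r T)
  have hd : (W ⊓ fixS T) ⊓ (W ⊓ movS r T) = ⊥ := by
    rw [eq_bot_iff]
    intro v hv
    have := (disjoint_fix_mov hr T)
    rw [Submodule.disjoint_def] at this
    exact (Submodule.mem_bot F).mpr (this v hv.1.2 hv.2.2)
  rw [hd, finrank_bot, add_zero, ← invt_decomp hr hT hW] at h
  exact h

theorem finrank_fix_add_mov [FiniteDimensional F V] {r : ℕ} (hr : (r : F) ≠ 0) {T : Module.End F V}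
    (hT : T ^ r = 1) : finrank F ↥(fixS T) + finrank F ↥(movS r T) = finrank F V := by
  have h := Submodule.finrank_sup_add_finrank_inf_eq (fixS T) (movS r T)
  rw [(isCompl_fix_mov hr hT).sup_eq_top, (isCompl_fix_mov hr hT).inf_eq_bot, finrank_bot, add_zero,
    finrank_top] at h
  exact h.symm

/-- **orbit counting**: an invariant subspace without fixed vectors has dimension divisible by the order of `q`
modulo `r`. -/
theorem orderOf_dvd_finrank [Fintype F] [Finite V] {r : ℕ} [Fact r.Prime] {T : Module.End F V} (hT : T ^ r = 1)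
    {W : Submodule F V} (hW : W ∈ Module.End.invtSubmodule T) (hfix : W ⊓ fixS T = ⊥) :
    orderOf ((Fintype.card F : ℕ) : ZMod r) ∣ finrank F ↥W := by
  classical
  letI : Fintype ↥W := Fintype.ofFinite _
  let Tw : Module.End F ↥W := LinearMap.restrict T hW
  have hTw : ∀ k : ℕ, ∀ w : ↥W, (((Tw ^ k) w : ↥W) : V) = (T ^ k) (w : V) := by
    intro k
    induction k with
    | zero => intro w; simp
    | succ k ih =>
      intro w
      rw [pow_succ, Module.End.mul_apply, ih, pow_succ, Module.End.mul_apply]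
      rfl
  let f : Function.End ↥W := (Tw : ↥W → ↥W)
  have hf : ∀ k : ℕ, ∀ w : ↥W, (f ^ k) w = (Tw ^ k) w := by
    intro k
    induction k with
    | zero => intro w; rfl
    | succ k ih =>
      intro w
      rw [pow_succ, Function.End.mul_def]
      show (f ^ k) (f w) = _
      rw [ih, pow_succ, Module.End.mul_apply]
  have hfr : f ^ r ^ 1 = 1 := by
    funext w
    rw [pow_one, hf]
    apply Subtype.ext
    rw [hTw, hT]
    rfl
  have h1 := Equiv.Perm.card_fixedPoints_modEq (f := f) (p := r) (n := 1) hfr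
  have h2 : Fintype.card ↥(Function.fixedPoints f) = 1 := by
    rw [Fintype.card_eq_one_iff]
    refine ⟨⟨0, by
      show f 0 = 0
      exact map_zero Tw⟩, ?_⟩
    rintro ⟨w, hw⟩
    apply Subtype.ext
    show w = 0
    have h3 : (w : V) ∈ W ⊓ fixS T := by
      refine ⟨w.2, ?_⟩
      show (w : V) ∈ fixS T
      rw [mem_fixS]
      have : f w = w := hw
      exact congrArg Subtype.val this
    rw [hfix, Submodule.mem_bot] at h3
    exact Subtype.ext h3
  rw [h2, Module.card_eq_pow_finrank (K := F) (V := ↥W)] at h1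
  rw [orderOf_dvd_iff_pow_eq_one]
  have h4 : ((Fintype.card F ^ finrank F ↥W : ℕ) : ZMod r) = ((1 : ℕ) : ZMod r) :=
    (ZMod.natCast_eq_natCast_iff _ _ _).mpr h1
  rw [Nat.cast_pow, Nat.cast_one] at h4
  exact h4

end Cfsg.Agent.Helper7.POrd
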