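import Mathlib
import Cfsg.Agent.Helper7.POrdB

set_option autoImplicit false
set_option linter.unusedSectionVars false
set_option linter.unusedVariables false

/-!
Cyclic subspaces; small invariant subspaces of a map with `T ^ r = 1`.
-/

namespace Cfsg.Agent.Helper7.POrd

open Module Polynomial

variable {F : Type*} [Field F] {V : Type*} [AddCommGroup V] [Module F V]

theorem invt_aeval_apply {T : Module.End F V} {W : Submodule F V} (hW : W ∈ Module.End.invtSubmodule T)
    (f : F[X]) {w : V} (hw : w ∈ W) : aeval T f w ∈ W := by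
  rw [aeval_eq_sum_range, LinearMap.sum_apply]
  apply Submodule.sum_mem
  intro t _
  rw [LinearMap.smul_apply]
  exact Submodule.smul_mem _ _ (invt_pow_apply hW hw t)

/-- for a nonzero vector killed by `f(T)`, some irreducible factor `g` of `f` kills a nonzero vector `h(T) w`. -/
theorem exists_irred_ker (T : Module.End F V) : ∀ (d : ℕ) (f : F[X]), f.natDegree = d → f ≠ 0 → ∀ w : V, w ≠ 0 →
    aeval T f w = 0 →
    ∃ g h : F[X], Irreducible g ∧ g ∣ f ∧ aeval T h w ≠ 0 ∧ aeval T g (aeval T h w) = 0 := by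
  intro d
  induction d using Nat.strong_induction_on with
  | _ d ih =>
    intro f hd hf0 w hw hfw
    by_cases hd0 : f.natDegree = 0
    · exfalso
      rw [eq_C_of_natDegree_eq_zero hd0, aeval_C, Module.algebraMap_end_apply] at hfw
      rcases smul_eq_zero.mp hfw with h | h
      · apply hf0
        rw [eq_C_of_natDegree_eq_zero hd0, h, C_0]
      · exact hw h
    · obtain ⟨g, hg, f', rfl⟩ := exists_irreducible_of_natDegree_pos (Nat.pos_of_ne_zero hd0)
      have hf'0 : f' ≠ 0 := right_ne_zero_of_mul hf0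
      by_cases h0 : aeval T f' w = 0
      · have hlt : f'.natDegree < d := by
          rw [← hd, natDegree_mul hg.ne_zero hf'0]
          have := hg.natDegree_pos
          omega
        obtain ⟨g', h', hg', hdvd, h1, h2⟩ := ih f'.natDegree hlt f' rfl hf'0 w hw h0
        exact ⟨g', h', hg', Dvd.dvd.mul_left hdvd g, h1, h2⟩
      · refine ⟨g, f', hg, dvd_mul_right g f', h0, ?_⟩
        rw [← Module.End.mul_apply, ← map_mul]
        exact hfw

/-- the span of `v, T v, ..., T^(d-1) v`. -/
def cyc (T : Module.End F V) (v : V) (d : ℕ) : Submodule F V :=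
  Submodule.span F (Set.range fun t : Fin d => (T ^ (t : ℕ)) v)

theorem pow_mem_cyc (T : Module.End F V) (v : V) {d t : ℕ} (ht : t < d) : (T ^ t) v ∈ cyc T v d :=
  Submodule.subset_span ⟨⟨t, ht⟩, rfl⟩

theorem finrank_cyc_le [FiniteDimensional F V] (T : Module.End F V) (v : V) (d : ℕ) : finrank F ↥(cyc T v d) ≤ d := by
  have := finrank_range_le_card (R := F) (fun t : Fin d => (T ^ (t : ℕ)) v)
  rw [Fintype.card_fin] at this
  exact this

theorem cyc_le {T : Module.End F V} {W : Submodule F V} (hW : W ∈ Module.End.invtSubmodule T) {v : V}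
    (hv : v ∈ W) (d : ℕ) : cyc T v d ≤ W := by
  unfold cyc
  rw [Submodule.span_le]
  rintro _ ⟨t, rfl⟩
  exact invt_pow_apply hW hv _

/-- the cyclic subspace is invariant when a polynomial of degree `d` kills `v`. -/
theorem cyc_invt (T : Module.End F V) (v : V) (g : F[X]) (hg0 : g ≠ 0) (hgv : aeval T g v = 0) :
    cyc T v g.natDegree ∈ Module.End.invtSubmodule T := by
  rw [Module.End.mem_invtSubmodule]
  have htop : (T ^ g.natDegree) v ∈ cyc T v g.natDegree := by
    rw [aeval_eq_sum_range, Finset.sum_range_succ, LinearMap.add_apply, LinearMap.sum_apply] at hgv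
    have hlc : g.coeff g.natDegree ≠ 0 := by
      rw [coeff_natDegree]
      exact leadingCoeff_ne_zero.mpr hg0
    have h1 : g.coeff g.natDegree • (T ^ g.natDegree) v ∈ cyc T v g.natDegree := by
      rw [LinearMap.smul_apply] at hgv
      rw [eq_neg_of_add_eq_zero_right hgv]
      apply Submodule.neg_mem
      apply Submodule.sum_mem
      intro t ht
      rw [LinearMap.smul_apply]
      exact Submodule.smul_mem _ _ (pow_mem_cyc T v (Finset.mem_range.mp ht))
    have := Submodule.smul_mem _ (g.coeff g.natDegree)⁻¹ h1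
    rwa [smul_smul, inv_mul_cancel₀ hlc, one_smul] at this
  unfold cyc
  rw [Submodule.span_le]
  rintro _ ⟨t, rfl⟩
  show T ((T ^ (t : ℕ)) v) ∈ Submodule.span F (Set.range fun t : Fin g.natDegree => (T ^ (t : ℕ)) v)
  rw [← Module.End.mul_apply, ← pow_succ']
  show (T ^ ((t : ℕ) + 1)) v ∈ cyc T v g.natDegree
  by_cases h : (t : ℕ) + 1 < g.natDegree
  · exact pow_mem_cyc T v h
  · have : (t : ℕ) + 1 = g.natDegree := by have := t.2; omega
    rw [this]
    exact htop

/-- a nonzero invariant subspace without fixed vectors contains an invariant subspace of dimension the order of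
`q` modulo `r`. -/
theorem exists_invt_finrank_eq [Fintype F] [Finite V] {p : ℕ} [Fact p.Prime] [CharP F p] {r : ℕ} [Fact r.Prime]
    (hrp : r ≠ p) {T : Module.End F V} (hT : T ^ r = 1) {W : Submodule F V}
    (hW : W ∈ Module.End.invtSubmodule T) (hfix : W ⊓ fixS T = ⊥) (hne : W ≠ ⊥) :
    ∃ W₀ : Submodule F V, W₀ ≤ W ∧ W₀ ∈ Module.End.invtSubmodule T ∧
      finrank F ↥W₀ = orderOf ((Fintype.card F : ℕ) : ZMod r) := by
  classical
  have hfd : FiniteDimensional F V := Module.Finite.of_finite
  obtain ⟨w, hwW, hw0⟩ := Submodule.exists_mem_ne_zero_of_ne_bot hne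
  have hf0 : (X ^ r - 1 : F[X]) ≠ 0 := by
    apply Monic.ne_zero
    exact monic_X_pow_sub_C (1 : F) (Fact.out : r.Prime).ne_zero
  have hfw : aeval T (X ^ r - 1 : F[X]) w = 0 := by
    rw [map_sub, map_pow, aeval_X, map_one, hT, sub_self, LinearMap.zero_apply]
  obtain ⟨g, h, hg, hdvd, hv0, hgv⟩ := exists_irred_ker T _ _ rfl hf0 w hw0 hfw
  have hvW : aeval T h w ∈ W := invt_aeval_apply hW h hwW
  -- g divides the cyclotomic polynomial
  have hgc : g ∣ cyclotomic r F := by
    rw [← cyclotomic_prime_mul_X_sub_one F r] at hdvd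
    rcases hg.prime.dvd_or_dvd hdvd with h1 | ⟨u, hu⟩
    · exact h1
    · exfalso
      have h2 : aeval T (X - 1 : F[X]) (aeval T h w) = 0 := by
        rw [hu, mul_comm, map_mul, Module.End.mul_apply, hgv, map_zero]
      rw [map_sub, aeval_X, map_one, ← LinearMap.mem_ker] at h2
      have h3 : aeval T h w ∈ W ⊓ fixS T := ⟨hvW, h2⟩
      rw [hfix, Submodule.mem_bot] at h3
      exact hv0 h3
  obtain ⟨⟨f, hfpos⟩, -, hcard⟩ := FiniteField.card F p
  have hcard : Fintype.card F = p ^ f := hcard
  have hcop : p.Coprime r := by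
    rw [Nat.coprime_primes Fact.out Fact.out]
    exact fun h => hrp h.symm
  have hdeg := natDegree_of_dvd_cyclotomic_of_irreducible (K := F) (p := p) (f := f) (n := r) hcard hcop hgc hg
  have hord : orderOf (ZMod.unitOfCoprime (p ^ f) (hcop.pow_left f) : (ZMod r)ˣ) =
      orderOf ((Fintype.card F : ℕ) : ZMod r) := by
    rw [← orderOf_units, ZMod.coe_unitOfCoprime, hcard]
  rw [hord] at hdeg
  refine ⟨cyc T (aeval T h w) g.natDegree, cyc_le hW hvW _, cyc_invt T _ g hg.ne_zero hgv, ?_⟩
  have h1 : finrank F ↥(cyc T (aeval T h w) g.natDegree) ≤ orderOf ((Fintype.card F : ℕ) : ZMod r) := by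
    rw [← hdeg]
    exact finrank_cyc_le T _ _
  have h2 : orderOf ((Fintype.card F : ℕ) : ZMod r) ∣ finrank F ↥(cyc T (aeval T h w) g.natDegree) := by
    apply orderOf_dvd_finrank hT (cyc_invt T _ g hg.ne_zero hgv)
    rw [eq_bot_iff, ← hfix]
    exact inf_le_inf_right _ (cyc_le hW hvW _)
  have h3 : 0 < finrank F ↥(cyc T (aeval T h w) g.natDegree) := by
    rw [Module.finrank_pos_iff_exists_ne_zero]
    have hmem : aeval T h w ∈ cyc T (aeval T h w) g.natDegree := by
      have := pow_mem_cyc T (aeval T h w) hg.natDegree_pos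
      simpa using this
    exact ⟨⟨_, hmem⟩, fun h0 => hv0 (congrArg Subtype.val h0)⟩
  exact le_antisymm h1 (Nat.le_of_dvd h3 h2)

end Cfsg.Agent.Helper7.POrd
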