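import Mathlib
import Cfsg.Agent.Helper7.POrdC

set_option autoImplicit false
set_option linter.unusedSectionVars false
set_option linter.unusedVariables false

/-!
Chains of invariant subspaces of a map with `T ^ r = 1`.
-/

namespace Cfsg.Agent.Helper7.POrd

open Module Polynomial

/-- a chain built from a step function. -/
theorem exists_chain_of_step {α : Type*} [Preorder α] (P : α → ℕ → Prop) (a0 : α) (h0 : P a0 0) (N : ℕ)
    (step : ∀ a b, P a b → b < N → ∃ a', a ≤ a' ∧ P a' (b + 1)) :
    ∃ U : ℕ → α, Monotone U ∧ ∀ b ≤ N, P (U b) b := by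
  classical
  let U : ℕ → α := fun b => Nat.rec a0 (fun b ub =>
    if h : P ub b ∧ b < N then Classical.choose (step ub b h.1 h.2) else ub) b
  have hU0 : U 0 = a0 := rfl
  have hUs : ∀ b, U (b + 1) = if h : P (U b) b ∧ b < N then Classical.choose (step (U b) b h.1 h.2) else U b :=
    fun b => rfl
  refine ⟨U, monotone_nat_of_le_succ ?_, ?_⟩
  · intro b
    rw [hUs]
    split_ifs with h
    · exact (Classical.choose_spec (step (U b) b h.1 h.2)).1
    · exact le_rfl
  · intro b
    induction b with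
    | zero => intro _; rw [hU0]; exact h0
    | succ b ih =>
      intro hb
      have hP := ih (by omega)
      rw [hUs, dif_pos ⟨hP, by omega⟩]
      exact (Classical.choose_spec (step (U b) b hP (by omega))).2

variable {F : Type*} [Field F] {V : Type*} [AddCommGroup V] [Module F V]

/-- a chain of subspaces of a given subspace. -/
theorem exists_chain_sub [FiniteDimensional F V] (C : Submodule F V) :
    ∃ A : ℕ → Submodule F V, Monotone A ∧ ∀ a ≤ finrank F ↥C, A a ≤ C ∧ finrank F ↥(A a) = a := by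
  apply exists_chain_of_step (fun (A : Submodule F V) a => A ≤ C ∧ finrank F ↥A = a) ⊥
  · exact ⟨bot_le, finrank_bot F V⟩
  · rintro A a ⟨hAC, hA⟩ ha
    have hlt : A < C := by
      refine lt_of_le_of_ne hAC ?_
      rintro rfl
      omega
    obtain ⟨v, hvC, hvA⟩ := SetLike.exists_of_lt hlt
    refine ⟨A ⊔ Submodule.span F {v}, le_sup_left, sup_le hAC ?_, ?_⟩
    · rw [Submodule.span_le, Set.singleton_subset_iff]
      exact hvC
    · have h := Submodule.finrank_sup_add_finrank_inf_eq A (Submodule.span F {v})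
      have hd : A ⊓ Submodule.span F {v} = ⊥ := by
        rw [eq_bot_iff]
        rintro x ⟨hxA, hxv⟩
        rw [SetLike.mem_coe, Submodule.mem_span_singleton] at hxv
        obtain ⟨c, rfl⟩ := hxv
        by_cases hc : c = 0
        · rw [hc, zero_smul]; exact Submodule.zero_mem _
        · exfalso
          apply hvA
          have := Submodule.smul_mem A c⁻¹ hxA
          rwa [smul_smul, inv_mul_cancel₀ hc, one_smul] at this
      have hv0 : v ≠ 0 := by
        rintro rfl
        exact hvA (Submodule.zero_mem _)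
      rw [hd, finrank_bot, add_zero, finrank_span_singleton hv0, hA] at h
      exact h

/-- subspaces of the fixed space are invariant. -/
theorem invt_of_le_fixS {T : Module.End F V} {A : Submodule F V} (hA : A ≤ fixS T) :
    A ∈ Module.End.invtSubmodule T := by
  rw [Module.End.mem_invtSubmodule]
  intro v hv
  rw [Submodule.mem_comap, mem_fixS.mp (hA hv)]
  exact hv

variable [Fintype F] [Finite V] {p : ℕ} [Fact p.Prime] [CharP F p] {r : ℕ} [Fact r.Prime]

theorem natCast_ne_zero_of_ne (hrp : r ≠ p) : (r : F) ≠ 0 := by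
  intro h
  rw [CharP.cast_eq_zero_iff F p] at h
  exact hrp ((Nat.prime_dvd_prime_iff_eq Fact.out Fact.out).mp h).symm

theorem card_natCast_ne_zero (hrp : r ≠ p) : ((Fintype.card F : ℕ) : ZMod r) ≠ 0 := by
  obtain ⟨⟨f, hfpos⟩, -, hcard⟩ := FiniteField.card F p
  intro h
  rw [ZMod.natCast_eq_zero_iff, hcard] at h
  exact hrp ((Nat.prime_dvd_prime_iff_eq Fact.out Fact.out).mp ((Fact.out : r.Prime).dvd_of_dvd_pow h))

theorem orderOf_q_pos (hrp : r ≠ p) : 0 < orderOf ((Fintype.card F : ℕ) : ZMod r) := by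
  rw [orderOf_pos_iff, isOfFinOrder_iff_pow_eq_one]
  exact ⟨r - 1, by have := (Fact.out : r.Prime).two_le; omega,
    ZMod.pow_card_sub_one_eq_one (card_natCast_ne_zero (F := F) hrp)⟩

theorem isSemisimple_of_pow_eq_one (hrp : r ≠ p) {T : Module.End F V} (hT : T ^ r = 1) : T.IsSemisimple := by
  have hfd : FiniteDimensional F V := Module.Finite.of_finite
  apply Module.End.isSemisimple_of_squarefree_aeval_eq_zero (p := (X ^ r - C (1 : F)))
  · apply Separable.squarefree
    exact separable_X_pow_sub_C (1 : F) (natCast_ne_zero_of_ne hrp) one_ne_zero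
  · rw [map_sub, map_pow, aeval_X, aeval_C, map_one, hT, sub_self]

/-- the order of `q` modulo `r` divides the dimension of the moved space. -/
theorem orderOf_dvd_finrank_movS (hrp : r ≠ p) {T : Module.End F V} (hT : T ^ r = 1) :
    orderOf ((Fintype.card F : ℕ) : ZMod r) ∣ finrank F ↥(movS r T) := by
  apply orderOf_dvd_finrank hT (movS_invt r T)
  rw [inf_comm]
  exact (disjoint_fix_mov (natCast_ne_zero_of_ne hrp) T).eq_bot

/-- the chain of invariant subspaces of the moved space. -/
theorem exists_chain_mov (hrp : r ≠ p) {T : Module.End F V} (hT : T ^ r = 1) (j : ℕ)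
    (hj : finrank F ↥(movS r T) = orderOf ((Fintype.card F : ℕ) : ZMod r) * j) :
    ∃ U : ℕ → Submodule F V, Monotone U ∧ ∀ b ≤ j, U b ∈ Module.End.invtSubmodule T ∧ U b ≤ movS r T ∧
      finrank F ↥(U b) = orderOf ((Fintype.card F : ℕ) : ZMod r) * b := by
  have hfd : FiniteDimensional F V := Module.Finite.of_finite
  have hr0 : (r : F) ≠ 0 := natCast_ne_zero_of_ne hrp
  apply exists_chain_of_step (fun (U : Submodule F V) b => U ∈ Module.End.invtSubmodule T ∧ U ≤ movS r T ∧
      finrank F ↥U = orderOf ((Fintype.card F : ℕ) : ZMod r) * b) ⊥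
  · refine ⟨Module.End.invtSubmodule.bot_mem T, bot_le, ?_⟩
    rw [finrank_bot, mul_zero]
  · rintro U b ⟨hUi, hUm, hUd⟩ hb
    obtain ⟨Q, hQi, hQ⟩ := (Module.End.isSemisimple_iff.mp (isSemisimple_of_pow_eq_one hrp hT)) U hUi
    have hQ'i : Q ⊓ movS r T ∈ Module.End.invtSubmodule T :=
      Module.End.invtSubmodule.inf_mem hQi (movS_invt r T)
    have hne : Q ⊓ movS r T ≠ ⊥ := by
      intro h0
      have h1 : movS r T = U := by
        calc movS r T = (U ⊔ Q) ⊓ movS r T := by rw [hQ.sup_eq_top, top_inf_eq]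
          _ = U ⊔ (Q ⊓ movS r T) := (sup_inf_assoc_of_le Q hUm)
          _ = U := by rw [h0, sup_bot_eq]
      rw [h1, hUd] at hj
      have hpos : 0 < orderOf ((Fintype.card F : ℕ) : ZMod r) := orderOf_q_pos hrp
      have := Nat.eq_of_mul_eq_mul_left hpos hj
      omega
    have hfix : (Q ⊓ movS r T) ⊓ fixS T = ⊥ := by
      rw [eq_bot_iff, inf_assoc]
      refine le_trans inf_le_right ?_
      rw [inf_comm]
      exact le_of_eq (disjoint_fix_mov hr0 T).eq_bot
    obtain ⟨W₀, hW₀le, hW₀i, hW₀d⟩ := exists_invt_finrank_eq hrp hT hQ'i hfix hne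
    refine ⟨U ⊔ W₀, le_sup_left, Module.End.invtSubmodule.sup_mem hUi hW₀i, sup_le hUm (le_trans hW₀le inf_le_right), ?_⟩
    have h := Submodule.finrank_sup_add_finrank_inf_eq U W₀
    have hd : U ⊓ W₀ = ⊥ := by
      rw [eq_bot_iff, ← hQ.inf_eq_bot]
      exact inf_le_inf_left _ (le_trans hW₀le inf_le_left)
    rw [hd, finrank_bot, add_zero, hUd, hW₀d] at h
    rw [h]
    ring

/-- **the invariant subspaces of a map with `T ^ r = 1`**: a doubly monotone family of invariant subspaces of all
the dimensions `a + i b`. -/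
theorem exists_invt_family (hrp : r ≠ p) {T : Module.End F V} (hT : T ^ r = 1) :
    ∃ (j : ℕ) (Wf : ℕ → ℕ → Submodule F V),
      finrank F ↥(movS r T) = orderOf ((Fintype.card F : ℕ) : ZMod r) * j ∧
      (∀ a a' b b', a ≤ a' → b ≤ b' → Wf a b ≤ Wf a' b') ∧
      ∀ a b, a ≤ finrank F ↥(fixS T) → b ≤ j → Wf a b ∈ Module.End.invtSubmodule T ∧
        finrank F ↥(Wf a b) = a + orderOf ((Fintype.card F : ℕ) : ZMod r) * b := by
  have hfd : FiniteDimensional F V := Module.Finite.of_finite
  have hr0 : (r : F) ≠ 0 := natCast_ne_zero_of_ne hrp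
  obtain ⟨j, hj⟩ := orderOf_dvd_finrank_movS hrp hT
  obtain ⟨U, hUm, hU⟩ := exists_chain_mov hrp hT j hj
  obtain ⟨A, hAm, hA⟩ := exists_chain_sub (fixS T)
  refine ⟨j, fun a b => A a ⊔ U b, hj, ?_, ?_⟩
  · intro a a' b b' ha hb
    exact sup_le_sup (hAm ha) (hUm hb)
  · intro a b ha hb
    obtain ⟨hA1, hA2⟩ := hA a ha
    obtain ⟨hU1, hU2, hU3⟩ := hU b hb
    refine ⟨Module.End.invtSubmodule.sup_mem (invt_of_le_fixS hA1) hU1, ?_⟩
    have h := Submodule.finrank_sup_add_finrank_inf_eq (A a) (U b)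
    have hd : A a ⊓ U b = ⊥ := by
      rw [eq_bot_iff, ← (disjoint_fix_mov hr0 T).eq_bot]
      exact inf_le_inf hA1 hU2
    rw [hd, finrank_bot, add_zero, hA2, hU3] at h
    exact h

end Cfsg.Agent.Helper7.POrd
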