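import Mathlib
import Cfsg.Agent.Helper7.POrdD

set_option autoImplicit false
set_option linter.unusedSectionVars false
set_option linter.unusedVariables false

/-!
Linear maps killed by an irreducible polynomial: the invariant subspaces have dimension divisible by the degree,
and the determinant.
-/

namespace Cfsg.Agent.Helper7.POrd

open Module Polynomial

variable {F : Type*} [Field F] {V : Type*} [AddCommGroup V] [Module F V]

/-- the polynomial with given coefficients. -/
noncomputable def polyOf {d : ℕ} (c : Fin d → F) : F[X] := ∑ t : Fin d, C (c t) * X ^ (t : ℕ)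

theorem aeval_polyOf (T : Module.End F V) {d : ℕ} (c : Fin d → F) (v : V) :
    aeval T (polyOf c) v = ∑ t : Fin d, c t • (T ^ (t : ℕ)) v := by
  unfold polyOf
  rw [map_sum, LinearMap.sum_apply]
  apply Finset.sum_congr rfl
  intro t _
  rw [map_mul, aeval_C, map_pow, aeval_X, Module.End.mul_apply, Module.algebraMap_end_apply]

theorem polyOf_natDegree_lt {d : ℕ} (c : Fin d → F) (h0 : polyOf c ≠ 0) : (polyOf c).natDegree < d := by
  have h : (polyOf c).degree < d := degree_sum_fin_lt c
  exact (natDegree_lt_iff_degree_lt h0).mpr h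

theorem polyOf_coeff {d : ℕ} (c : Fin d → F) (s : Fin d) : (polyOf c).coeff (s : ℕ) = c s := by
  unfold polyOf
  rw [finsetSum_coeff, Finset.sum_eq_single s]
  · rw [coeff_C_mul_X_pow, if_pos rfl]
  · intro t _ hts
    rw [coeff_C_mul_X_pow, if_neg]
    intro h
    exact hts (Fin.ext h.symm)
  · intro h
    exact absurd (Finset.mem_univ s) h

theorem mem_cyc_iff {T : Module.End F V} {v x : V} {d : ℕ} :
    x ∈ cyc T v d ↔ ∃ c : Fin d → F, x = aeval T (polyOf c) v := by
  unfold cyc
  rw [Submodule.mem_span_range_iff_exists_fun]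
  constructor
  · rintro ⟨c, rfl⟩
    exact ⟨c, (aeval_polyOf T c v).symm⟩
  · rintro ⟨c, rfl⟩
    exact ⟨c, (aeval_polyOf T c v).symm⟩

/-- a polynomial of small degree is invertible modulo an irreducible one. -/
theorem mem_of_aeval_mem {g : F[X]} (hg : Irreducible g) {T : Module.End F V} (hgT : aeval T g = 0) {f : F[X]}
    (hf0 : f ≠ 0) (hfd : f.natDegree < g.natDegree) {U : Submodule F V} (hU : U ∈ Module.End.invtSubmodule T)
    {v : V} (hv : aeval T f v ∈ U) : v ∈ U := by
  have hcop : IsCoprime g f := (hg.coprime_iff_not_dvd).mpr (not_dvd_of_natDegree_lt hf0 hfd)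
  obtain ⟨a, b, hab⟩ := hcop
  have h1 : v = aeval T (a * g + b * f) v := by
    rw [hab, map_one, Module.End.one_apply]
  rw [map_add, map_mul, map_mul, hgT, mul_zero, zero_add, Module.End.mul_apply] at h1
  rw [h1]
  exact invt_aeval_apply hU b hv

theorem cyc_inf_eq_bot {g : F[X]} (hg : Irreducible g) {T : Module.End F V} (hgT : aeval T g = 0)
    {U : Submodule F V} (hU : U ∈ Module.End.invtSubmodule T) {v : V} (hv : v ∉ U) :
    cyc T v g.natDegree ⊓ U = ⊥ := by
  rw [eq_bot_iff]
  rintro x ⟨hx1, hx2⟩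
  rw [SetLike.mem_coe, mem_cyc_iff] at hx1
  obtain ⟨c, rfl⟩ := hx1
  by_cases h0 : polyOf c = 0
  · rw [h0, map_zero, LinearMap.zero_apply]
    exact Submodule.zero_mem _
  · exact absurd (mem_of_aeval_mem hg hgT h0 (polyOf_natDegree_lt c h0) hU hx2) hv

theorem finrank_cyc_eq [FiniteDimensional F V] {g : F[X]} (hg : Irreducible g) {T : Module.End F V}
    (hgT : aeval T g = 0) {v : V} (hv : v ≠ 0) : finrank F ↥(cyc T v g.natDegree) = g.natDegree := by
  have hli : LinearIndependent F (fun t : Fin g.natDegree => (T ^ (t : ℕ)) v) := by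
    rw [Fintype.linearIndependent_iff]
    intro c hc
    rw [← aeval_polyOf] at hc
    have h0 : polyOf c = 0 := by
      by_contra h0
      have := mem_of_aeval_mem hg hgT h0 (polyOf_natDegree_lt c h0) (Module.End.invtSubmodule.bot_mem T)
        (v := v) (by rw [hc]; exact Submodule.zero_mem _)
      exact hv ((Submodule.mem_bot F).mp this)
    intro s
    rw [← polyOf_coeff c s, h0, coeff_zero]
  unfold cyc
  rw [finrank_span_eq_card hli, Fintype.card_fin]

/-- the chain of invariant subspaces inside an invariant subspace, in the irreducible case. -/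
theorem exists_chain_irred [FiniteDimensional F V] {g : F[X]} (hg : Irreducible g) {T : Module.End F V}
    (hgT : aeval T g = 0) {W : Submodule F V} (hW : W ∈ Module.End.invtSubmodule T) :
    ∃ (N : ℕ) (U : ℕ → Submodule F V), finrank F ↥W = g.natDegree * N ∧ Monotone U ∧
      ∀ b ≤ N, U b ∈ Module.End.invtSubmodule T ∧ U b ≤ W ∧ finrank F ↥(U b) = g.natDegree * b := by
  have hdpos : 0 < g.natDegree := hg.natDegree_pos
  have hstep : ∀ (U : Submodule F V), U ∈ Module.End.invtSubmodule T → U ≤ W → U ≠ W →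
      ∃ U' : Submodule F V, U ≤ U' ∧ U' ∈ Module.End.invtSubmodule T ∧ U' ≤ W ∧
        finrank F ↥U' = finrank F ↥U + g.natDegree := by
    intro U hUi hUW hne
    obtain ⟨v, hvW, hvU⟩ := SetLike.exists_of_lt (lt_of_le_of_ne hUW hne)
    have hv0 : v ≠ 0 := by
      rintro rfl
      exact hvU (Submodule.zero_mem _)
    have hgv : aeval T g v = 0 := by rw [hgT, LinearMap.zero_apply]
    refine ⟨U ⊔ cyc T v g.natDegree, le_sup_left,
      Module.End.invtSubmodule.sup_mem hUi (cyc_invt T v g hg.ne_zero hgv), sup_le hUW (cyc_le hW hvW _), ?_⟩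
    have h := Submodule.finrank_sup_add_finrank_inf_eq U (cyc T v g.natDegree)
    rw [inf_comm, cyc_inf_eq_bot hg hgT hUi hvU, finrank_bot, add_zero, finrank_cyc_eq hg hgT hv0] at h
    exact h
  obtain ⟨U, hUm, hU⟩ := exists_chain_of_step
    (fun (U : Submodule F V) b => U ∈ Module.End.invtSubmodule T ∧ U ≤ W ∧ finrank F ↥U = g.natDegree * b) ⊥
    ⟨Module.End.invtSubmodule.bot_mem T, bot_le, by rw [finrank_bot, mul_zero]⟩ (finrank F ↥W / g.natDegree)
    (by
      rintro U b ⟨hUi, hUW, hUd⟩ hb
      have hne : U ≠ W := by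
        rintro rfl
        have h1 : (b + 1) * g.natDegree ≤ finrank F ↥U := by
          rw [← Nat.le_div_iff_mul_le hdpos]
          exact hb
        rw [hUd] at h1
        nlinarith
      obtain ⟨U', h1, h2, h3, h4⟩ := hstep U hUi hUW hne
      refine ⟨U', h1, h2, h3, ?_⟩
      rw [h4, hUd]
      ring)
  refine ⟨finrank F ↥W / g.natDegree, U, ?_, hUm, hU⟩
  obtain ⟨h1, h2, h3⟩ := hU _ le_rfl
  by_cases hne : U (finrank F ↥W / g.natDegree) = W
  · rw [hne] at h3
    exact h3
  · exfalso
    obtain ⟨U', -, -, h5, h6⟩ := hstep _ h1 h2 hne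
    have h7 := Submodule.finrank_mono h5
    rw [h6, h3] at h7
    have h8 := Nat.lt_div_mul_add (a := finrank F ↥W) hdpos
    rw [mul_comm] at h8
    omega

/-- every invariant subspace has dimension divisible by the degree. -/
theorem natDegree_dvd_finrank [FiniteDimensional F V] {g : F[X]} (hg : Irreducible g) {T : Module.End F V}
    (hgT : aeval T g = 0) {W : Submodule F V} (hW : W ∈ Module.End.invtSubmodule T) :
    g.natDegree ∣ finrank F ↥W := by
  obtain ⟨N, U, h, -, -⟩ := exists_chain_irred hg hgT hW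
  exact ⟨N, h⟩

end Cfsg.Agent.Helper7.POrd
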