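import Mathlib
import Cfsg.Agent.Helper7.POrdE

set_option autoImplicit false
set_option linter.unusedSectionVars false
set_option linter.unusedVariables false

/-!
The determinant of a linear map killed by an irreducible polynomial.
-/

namespace Cfsg.Agent.Helper7.POrd

open Module Polynomial

universe u v

variable {F : Type u} [Field F]

theorem pow_restrict_apply {V : Type v} [AddCommGroup V] [Module F V] {T : Module.End F V} {W : Submodule F V}
    (hW : W ∈ Module.End.invtSubmodule T) (k : ℕ) (w : ↥W) :
    (((LinearMap.restrict T hW ^ k) w : ↥W) : V) = (T ^ k) (w : V) := by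
  induction k generalizing w with
  | zero => simp
  | succ k ih =>
    rw [pow_succ, Module.End.mul_apply, ih, pow_succ, Module.End.mul_apply]
    rfl

theorem aeval_restrict_apply {V : Type v} [AddCommGroup V] [Module F V] {T : Module.End F V} {W : Submodule F V}
    (hW : W ∈ Module.End.invtSubmodule T) (f : F[X]) (w : ↥W) :
    ((aeval (LinearMap.restrict T hW) f w : ↥W) : V) = aeval T f (w : V) := by
  rw [aeval_eq_sum_range, aeval_eq_sum_range, LinearMap.sum_apply, LinearMap.sum_apply, Submodule.coe_sum]
  apply Finset.sum_congr rfl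
  intro t _
  rw [LinearMap.smul_apply, LinearMap.smul_apply, Submodule.coe_smul, pow_restrict_apply]

theorem aeval_restrict_eq_zero {V : Type v} [AddCommGroup V] [Module F V] {T : Module.End F V} {W : Submodule F V}
    (hW : W ∈ Module.End.invtSubmodule T) {f : F[X]} (hf : aeval T f = 0) :
    aeval (LinearMap.restrict T hW) f = 0 := by
  apply LinearMap.ext
  intro w
  apply Subtype.ext
  rw [aeval_restrict_apply, hf]
  rfl

/-- the determinant on a cyclic space of full dimension. -/
theorem det_of_finrank_eq_natDegree {V : Type v} [AddCommGroup V] [Module F V] [FiniteDimensional F V]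
    {g : F[X]} (hg : Irreducible g) (hm : g.Monic) (T : Module.End F V) (hgT : aeval T g = 0)
    (hd : finrank F V = g.natDegree) : LinearMap.det T = (-1) ^ g.natDegree * g.coeff 0 := by
  have hV : Nontrivial V := by
    apply Module.nontrivial_of_finrank_pos (R := F)
    rw [hd]
    exact hg.natDegree_pos
  have hmin : g = minpoly F T := minpoly.eq_of_irreducible_of_monic hg hgT hm
  have hdvd : g ∣ T.charpoly := by
    rw [hmin]
    exact LinearMap.minpoly_dvd_charpoly T
  have hcp : T.charpoly = g := by
    apply eq_of_monic_of_dvd_of_natDegree_le hm (LinearMap.charpoly_monic T) hdvd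
    rw [LinearMap.charpoly_natDegree, hd]
  rw [LinearMap.det_eq_sign_charpoly_coeff, hcp, hd]

/-- **the determinant of a linear map killed by a monic irreducible polynomial.** -/
theorem det_of_irreducible {g : F[X]} (hg : Irreducible g) (hm : g.Monic) :
    ∀ (n : ℕ) (V : Type v) [AddCommGroup V] [Module F V] [FiniteDimensional F V], finrank F V = n →
      ∀ T : Module.End F V, aeval T g = 0 →
        LinearMap.det T = ((-1) ^ g.natDegree * g.coeff 0) ^ (n / g.natDegree) := by
  intro n
  induction n using Nat.strong_induction_on with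
  | _ n ih =>
    intro V _ _ _ hn T hgT
    have hdpos : 0 < g.natDegree := hg.natDegree_pos
    rcases Nat.eq_zero_or_pos n with h0 | hpos
    · subst h0
      rw [LinearMap.det_eq_one_of_finrank_eq_zero hn, Nat.zero_div, pow_zero]
    · obtain ⟨v, hv⟩ := (Module.finrank_pos_iff_exists_ne_zero (R := F) (M := V)).mp (by rw [hn]; exact hpos)
      have hgv : aeval T g v = 0 := by rw [hgT, LinearMap.zero_apply]
      have hZi : cyc T v g.natDegree ∈ Module.End.invtSubmodule T := cyc_invt T v g hg.ne_zero hgv
      have hZd : finrank F ↥(cyc T v g.natDegree) = g.natDegree := finrank_cyc_eq hg hgT hv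
      have hss : T.IsSemisimple := Module.End.isSemisimple_of_squarefree_aeval_eq_zero hg.squarefree hgT
      obtain ⟨Q, hQi, hc⟩ := (Module.End.isSemisimple_iff.mp hss) _ hZi
      have hsum := Submodule.finrank_add_eq_of_isCompl hc
      rw [hZd, hn] at hsum
      let TZ : Module.End F ↥(cyc T v g.natDegree) := LinearMap.restrict T hZi
      let TQ : Module.End F ↥Q := LinearMap.restrict T hQi
      have hconj : T = ((Submodule.prodEquivOfIsCompl _ _ hc : (↥(cyc T v g.natDegree) × ↥Q) →ₗ[F] V)) ∘ₗ
          (LinearMap.prodMap TZ TQ) ∘ₗ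
          ((Submodule.prodEquivOfIsCompl _ _ hc).symm : V →ₗ[F] (↥(cyc T v g.natDegree) × ↥Q)) := by
        apply LinearMap.ext
        intro x
        obtain ⟨y, rfl⟩ := (Submodule.prodEquivOfIsCompl _ _ hc).surjective x
        rw [LinearMap.comp_apply, LinearMap.comp_apply, LinearEquiv.coe_coe, LinearEquiv.coe_coe,
          LinearEquiv.symm_apply_apply, Submodule.coe_prodEquivOfIsCompl', Submodule.coe_prodEquivOfIsCompl',
          map_add]
        rfl
      have h1 : LinearMap.det T = LinearMap.det TZ * LinearMap.det TQ := by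
        conv_lhs => rw [hconj]
        rw [LinearMap.det_conj, LinearMap.det_prodMap]
      have h2 := det_of_finrank_eq_natDegree hg hm TZ (aeval_restrict_eq_zero hZi hgT) hZd
      have hlt : finrank F ↥Q < n := by omega
      have h3 := ih (finrank F ↥Q) hlt ↥Q rfl TQ (aeval_restrict_eq_zero hQi hgT)
      rw [h1, h2, h3]
      have h4 : n / g.natDegree = finrank F ↥Q / g.natDegree + 1 := by
        rw [Nat.div_eq_sub_div hdpos (by omega)]
        congr 2
        omega
      rw [h4, pow_succ']

/-- the case of `X^r - c`. -/
theorem det_of_pow_eq {r : ℕ} (hr : 0 < r) {c : F} (hirr : Irreducible (X ^ r - C c : F[X]))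
    {V : Type v} [AddCommGroup V] [Module F V] [FiniteDimensional F V] (T : Module.End F V)
    (hT : T ^ r = algebraMap F _ c) :
    LinearMap.det T = ((-1) ^ (r + 1) * c) ^ (finrank F V / r) := by
  have hm : (X ^ r - C c : F[X]).Monic := monic_X_pow_sub_C c hr.ne'
  have hdeg : (X ^ r - C c : F[X]).natDegree = r := natDegree_X_pow_sub_C
  have hgT : aeval T (X ^ r - C c : F[X]) = 0 := by
    rw [map_sub, map_pow, aeval_X, aeval_C, hT, sub_self]
  have h := det_of_irreducible hirr hm (finrank F V) V rfl T hgT
  rw [hdeg] at h
  rw [h]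
  congr 1
  rw [coeff_sub, coeff_X_pow, if_neg hr.ne, coeff_C_zero, zero_sub, pow_succ]
  ring

end Cfsg.Agent.Helper7.POrd
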