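import Mathlib
import Cfsg.Agent.Helper7.POrdF

set_option autoImplicit false
set_option linter.unusedSectionVars false
set_option linter.unusedVariables false

/-!
From linear maps of determinant one to matrices of determinant one.
-/

namespace Cfsg.Agent.Helper7.POrd

open Module Polynomial

variable {F : Type*} [Field F]

/-- a matrix and the corresponding linear map: invariance of subspaces. -/
theorem map_le_iff_mem_invt {n : ℕ} (M : Matrix (Fin n) (Fin n) F) (W : Submodule F (Fin n → F)) :
    W.map (Matrix.toLin' M) ≤ W ↔ W ∈ Module.End.invtSubmodule (Matrix.toLin' M) := by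
  rw [Module.End.mem_invtSubmodule, Submodule.map_le_iff_le_comap]

theorem toLin'_pow_apply {n : ℕ} (M : Matrix (Fin n) (Fin n) F) (k : ℕ) :
    (Matrix.toLin' M : Module.End F (Fin n → F)) ^ k = Matrix.toLin' (M ^ k) := by
  rw [Matrix.toLin'_pow]

theorem toLin'_smul_one {n : ℕ} (c : F) :
    Matrix.toLin' (c • (1 : Matrix (Fin n) (Fin n) F)) = algebraMap F (Module.End F (Fin n → F)) c := by
  apply LinearMap.ext
  intro v
  rw [Matrix.toLin'_apply, Matrix.smul_mulVec, Matrix.one_mulVec, Module.algebraMap_end_apply]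

/-- **transport**: a linear map of determinant one on an `n`-dimensional space gives a matrix in `SL_n` with the same
properties. -/
theorem exists_SL_model {n r : ℕ} {V' : Type*} [AddCommGroup V'] [Module F V'] [FiniteDimensional F V']
    (hn : finrank F V' = n) (T' : Module.End F V') (hdet : LinearMap.det T' = 1) (c : F)
    (hT' : T' ^ r = algebraMap F _ c) (hns : ∀ z : F, T' ≠ algebraMap F _ z) (P : ℕ → Prop)
    (hP : ∀ W' ∈ Module.End.invtSubmodule T', P (finrank F ↥W')) :
    ∃ x : Matrix.SpecialLinearGroup (Fin n) F,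
      ((x ^ r : Matrix.SpecialLinearGroup (Fin n) F) : Matrix (Fin n) (Fin n) F) = c • 1 ∧
      (∀ z : F, (x : Matrix (Fin n) (Fin n) F) ≠ z • 1) ∧
      ∀ W : Submodule F (Fin n → F), W.map (Matrix.toLin' (x : Matrix (Fin n) (Fin n) F)) ≤ W →
        P (finrank F ↥W) := by
  classical
  let b : Basis (Fin n) F V' := Module.finBasisOfFinrankEq F V' hn
  let M : Matrix (Fin n) (Fin n) F := LinearMap.toMatrix b b T'
  have hM : M.det = 1 := by rw [LinearMap.det_toMatrix b, hdet]
  let e : (Fin n → F) ≃ₗ[F] V' := b.equivFun.symm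
  have he : ∀ (S : Module.End F V') (v : Fin n → F), e (Matrix.toLin' (LinearMap.toMatrix b b S) v) = S (e v) := by
    intro S v
    have h1 := LinearMap.toMatrix_mulVec_repr b b S (e v)
    have h2 : (b.repr (e v) : Fin n → F) = v := by
      have := b.equivFun.apply_symm_apply v
      exact this
    rw [h2] at h1
    rw [Matrix.toLin'_apply, h1]
    exact b.equivFun.symm_apply_apply (S (e v))
  have hinj : ∀ (A B : Matrix (Fin n) (Fin n) F), (∀ v, e (Matrix.toLin' A v) = e (Matrix.toLin' B v)) → A = B := by
    intro A B h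
    apply Matrix.toLin'.injective
    apply LinearMap.ext
    intro v
    exact e.injective (h v)
  let x : Matrix.SpecialLinearGroup (Fin n) F := ⟨M, hM⟩
  refine ⟨x, ?_, ?_, ?_⟩
  · rw [Matrix.SpecialLinearGroup.coe_pow]
    show M ^ r = c • 1
    apply hinj
    intro v
    have h1 : M ^ r = LinearMap.toMatrix b b (T' ^ r) := by
      rw [LinearMap.toMatrix_pow]
    rw [h1, he, hT', toLin'_smul_one, Module.algebraMap_end_apply, Module.algebraMap_end_apply, map_smul]
  · intro z hz
    apply hns z
    apply LinearMap.ext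
    intro y
    obtain ⟨v, rfl⟩ := e.surjective y
    have h1 : (M : Matrix (Fin n) (Fin n) F) = z • 1 := hz
    rw [← he, show LinearMap.toMatrix b b T' = M from rfl, h1, toLin'_smul_one, Module.algebraMap_end_apply,
      Module.algebraMap_end_apply, map_smul]
  · intro W hW
    have hfr : finrank F ↥(W.map (e : (Fin n → F) →ₗ[F] V')) = finrank F ↥W :=
      LinearEquiv.finrank_map_eq e W
    rw [← hfr]
    apply hP
    rw [Module.End.mem_invtSubmodule]
    rintro _ ⟨v, hv, rfl⟩
    rw [Submodule.mem_comap]
    refine ⟨Matrix.toLin' M v, hW ⟨v, hv, rfl⟩, ?_⟩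
    exact he T' v

end Cfsg.Agent.Helper7.POrd
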