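import Mathlib
import Cfsg.Agent.Helper7.POrdG

set_option autoImplicit false
set_option linter.unusedSectionVars false
set_option linter.unusedVariables false

/-!
Model elements of `SL_n(q)`: scalar multiplication by a root in an extension field.
-/

namespace Cfsg.Agent.Helper7.POrd

open Module Polynomial

variable {F : Type*} [Field F]

theorem finrank_adjoinRoot {g : F[X]} (hg : g ≠ 0) : finrank F (AdjoinRoot g) = g.natDegree := by
  rw [(AdjoinRoot.powerBasis hg).finrank, AdjoinRoot.powerBasis_dim]

theorem finite_adjoinRoot {g : F[X]} (hg : g ≠ 0) : Module.Finite F (AdjoinRoot g) :=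
  (AdjoinRoot.powerBasis hg).finite

/-- scalar multiplication by an element of an extension, as an `F`-linear map. -/
noncomputable def smulEnd (K : Type*) [Field K] [Algebra F K] (N : ℕ) (ζ : K) : Module.End F (Fin N → K) :=
  DistribSMul.toLinearMap F (Fin N → K) ζ

theorem smulEnd_apply (K : Type*) [Field K] [Algebra F K] (N : ℕ) (ζ : K) (v : Fin N → K) :
    smulEnd (F := F) K N ζ v = ζ • v := rfl

theorem smulEnd_pow (K : Type*) [Field K] [Algebra F K] (N : ℕ) (ζ : K) (k : ℕ) (v : Fin N → K) :
    (smulEnd (F := F) K N ζ ^ k) v = ζ ^ k • v := by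
  induction k generalizing v with
  | zero => simp
  | succ k ih => rw [pow_succ, Module.End.mul_apply, smulEnd_apply, ih, smul_smul, pow_succ]

theorem finrank_fin_fun_ext (K : Type*) [Field K] [Algebra F K] [Module.Finite F K] (N : ℕ) :
    finrank F (Fin N → K) = N * finrank F K := by
  rw [Module.finrank_pi_fintype, Finset.sum_const, Finset.card_univ, Fintype.card_fin, smul_eq_mul]

/-- the line through a nonzero vector. -/
theorem exists_line {V : Type*} [AddCommGroup V] [Module F V] {v : V} (hv : v ≠ 0) :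
    finrank F ↥(Submodule.span F {v}) = 1 := finrank_span_singleton hv

theorem invt_of_scalar {V : Type*} [AddCommGroup V] [Module F V] (z : F) (W : Submodule F V) :
    W ∈ Module.End.invtSubmodule (algebraMap F (Module.End F V) z) := by
  rw [Module.End.mem_invtSubmodule]
  intro w hw
  rw [Submodule.mem_comap, Module.algebraMap_end_apply]
  exact Submodule.smul_mem _ _ hw

/-- **model, irreducible case**: an element of `SL_{rN}` with `x^r = c`, all of whose invariant subspaces have
dimension divisible by `r`. -/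
theorem exists_model_irred {r N : ℕ} (hr : r.Prime) (hN : 0 < N) {c : F} (hc : ∀ b : F, b ^ r ≠ c)
    (hdet : ((-1) ^ (r + 1) * c) ^ N = 1) :
    ∃ x : Matrix.SpecialLinearGroup (Fin (r * N)) F,
      ((x ^ r : Matrix.SpecialLinearGroup (Fin (r * N)) F) : Matrix (Fin (r * N)) (Fin (r * N)) F) = c • 1 ∧
      (∀ z : F, (x : Matrix (Fin (r * N)) (Fin (r * N)) F) ≠ z • 1) ∧
      ∀ W : Submodule F (Fin (r * N) → F), W.map (Matrix.toLin' (x : Matrix (Fin (r * N)) (Fin (r * N)) F)) ≤ W →
        r ∣ finrank F ↥W := by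
  have hirr : Irreducible (X ^ r - C c : F[X]) := X_pow_sub_C_irreducible_of_prime hr hc
  haveI : Fact (Irreducible (X ^ r - C c : F[X])) := ⟨hirr⟩
  have hdeg : (X ^ r - C c : F[X]).natDegree = r := natDegree_X_pow_sub_C
  haveI : Module.Finite F (AdjoinRoot (X ^ r - C c : F[X])) := finite_adjoinRoot hirr.ne_zero
  let K := AdjoinRoot (X ^ r - C c : F[X])
  let ζ : K := AdjoinRoot.root _
  have hζ : ζ ^ r = algebraMap F K c := by
    have h := AdjoinRoot.mk_self (f := (X ^ r - C c : F[X]))
    rw [map_sub, map_pow, AdjoinRoot.mk_X, AdjoinRoot.mk_C, sub_eq_zero] at h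
    rw [AdjoinRoot.algebraMap_eq]
    exact h
  have hn : finrank F (Fin N → K) = r * N := by
    rw [finrank_fin_fun_ext, finrank_adjoinRoot hirr.ne_zero, hdeg, mul_comm]
  have hT : smulEnd (F := F) K N ζ ^ r = algebraMap F _ c := by
    apply LinearMap.ext
    intro v
    rw [smulEnd_pow, hζ, Module.algebraMap_end_apply, algebraMap_smul]
  have hgT : aeval (smulEnd (F := F) K N ζ) (X ^ r - C c : F[X]) = 0 := by
    rw [map_sub, map_pow, aeval_X, aeval_C, hT, sub_self]
  have hdetT : LinearMap.det (smulEnd (F := F) K N ζ) = 1 := by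
    rw [det_of_pow_eq hr.pos hirr _ hT, hn, Nat.mul_div_cancel_left _ hr.pos, hdet]
  have hP : ∀ W' ∈ Module.End.invtSubmodule (smulEnd (F := F) K N ζ), r ∣ finrank F ↥W' := by
    intro W' hW'
    have := natDegree_dvd_finrank hirr hgT hW'
    rwa [hdeg] at this
  apply exists_SL_model hn _ hdetT c hT _ (fun d => r ∣ d) hP
  intro z hz
  have hv : (fun _ : Fin N => (1 : K)) ≠ 0 := by
    intro h
    have := congrFun h ⟨0, hN⟩
    exact one_ne_zero this
  have h1 := hP (Submodule.span F {fun _ : Fin N => (1 : K)}) (by rw [hz]; exact invt_of_scalar z _)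
  rw [exists_line hv, Nat.dvd_one] at h1
  exact hr.one_lt.ne' h1

end Cfsg.Agent.Helper7.POrd
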