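import Mathlib
import Cfsg.Agent.Helper7.POrdH

set_option autoImplicit false
set_option linter.unusedSectionVars false
set_option linter.unusedVariables false

/-!
Model elements of `SL_n(q)` of prime order `r` not dividing `q - 1`.
-/

namespace Cfsg.Agent.Helper7.POrd

open Module Polynomial

variable {F : Type*} [Field F] [Fintype F]

theorem orderOf_eq_one_iff_dvd {q r : ℕ} (hq : 1 ≤ q) : orderOf ((q : ℕ) : ZMod r) = 1 ↔ r ∣ q - 1 := by
  rw [orderOf_eq_one_iff]
  have : ((q : ℕ) : ZMod r) = 1 ↔ ((q : ℕ) : ZMod r) = ((1 : ℕ) : ZMod r) := by rw [Nat.cast_one]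
  rw [this, ZMod.natCast_eq_natCast_iff, Nat.ModEq.comm, Nat.modEq_iff_dvd' hq]

/-- if `r` does not divide `q - 1`, the only `r`-th root of unity is `1`. -/
theorem eq_one_of_pow_eq_one {r : ℕ} (hr : r.Prime) (hi : orderOf ((Fintype.card F : ℕ) : ZMod r) ≠ 1) {z : F}
    (hz : z ^ r = 1) : z = 1 := by
  have hz0 : z ≠ 0 := by
    rintro rfl
    rw [zero_pow hr.ne_zero] at hz
    exact zero_ne_one hz
  have h1 : z ^ (Fintype.card F - 1) = 1 := FiniteField.pow_card_sub_one_eq_one z hz0
  have h2 : orderOf z ∣ r := orderOf_dvd_of_pow_eq_one hz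
  have h3 : orderOf z ∣ Fintype.card F - 1 := orderOf_dvd_of_pow_eq_one h1
  rcases (Nat.dvd_prime hr).mp h2 with h | h
  · exact orderOf_eq_one_iff.mp h
  · exfalso
    apply hi
    rw [orderOf_eq_one_iff_dvd Fintype.card_pos, ← h]
    exact h3

variable {p : ℕ} [Fact p.Prime] [CharP F p] {r : ℕ} [Fact r.Prime]

/-- an irreducible factor of the cyclotomic polynomial. -/
theorem exists_irred_factor (hrp : r ≠ p) :
    ∃ g : F[X], Irreducible g ∧ g ∣ cyclotomic r F ∧ g.natDegree = orderOf ((Fintype.card F : ℕ) : ZMod r) := by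
  have hpos : 0 < (cyclotomic r F).natDegree := by
    rw [natDegree_cyclotomic, Nat.totient_prime Fact.out]
    have := (Fact.out : r.Prime).two_le
    omega
  obtain ⟨g, hg, hgc⟩ := exists_irreducible_of_natDegree_pos hpos
  refine ⟨g, hg, hgc, ?_⟩
  obtain ⟨⟨f, hfpos⟩, -, hcard⟩ := FiniteField.card F p
  have hcard : Fintype.card F = p ^ f := hcard
  have hcop : p.Coprime r := by
    rw [Nat.coprime_primes Fact.out Fact.out]
    exact fun h => hrp h.symm
  have hdeg := natDegree_of_dvd_cyclotomic_of_irreducible (K := F) (p := p) (f := f) (n := r) hcard hcop hgc hg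
  have hord : orderOf (ZMod.unitOfCoprime (p ^ f) (hcop.pow_left f) : (ZMod r)ˣ) =
      orderOf ((Fintype.card F : ℕ) : ZMod r) := by
    rw [← orderOf_units, ZMod.coe_unitOfCoprime, hcard]
  rw [hord] at hdeg
  exact hdeg

/-- **model, cyclotomic case**: an element of `SL_n` of order `r` whose invariant subspaces have dimension
congruent modulo `i` to something at most `n % i`. -/
theorem exists_model_cyclo (hrp : r ≠ p) (n : ℕ) (hi : orderOf ((Fintype.card F : ℕ) : ZMod r) ≠ 1)
    (hin : orderOf ((Fintype.card F : ℕ) : ZMod r) ≤ n) :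
    ∃ x : Matrix.SpecialLinearGroup (Fin n) F,
      ((x ^ r : Matrix.SpecialLinearGroup (Fin n) F) : Matrix (Fin n) (Fin n) F) = (1 : F) • 1 ∧
      (∀ z : F, (x : Matrix (Fin n) (Fin n) F) ≠ z • 1) ∧
      ∀ W : Submodule F (Fin n → F), W.map (Matrix.toLin' (x : Matrix (Fin n) (Fin n) F)) ≤ W →
        finrank F ↥W % orderOf ((Fintype.card F : ℕ) : ZMod r) ≤ n % orderOf ((Fintype.card F : ℕ) : ZMod r) := by
  classical
  obtain ⟨g, hg, hgc, hgd⟩ := exists_irred_factor (F := F) hrp
  have hipos : 0 < orderOf ((Fintype.card F : ℕ) : ZMod r) := orderOf_q_pos hrp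
  generalize hidef : orderOf ((Fintype.card F : ℕ) : ZMod r) = i at *
  haveI : Fact (Irreducible g) := ⟨hg⟩
  haveI : Module.Finite F (AdjoinRoot g) := finite_adjoinRoot hg.ne_zero
  haveI : Finite (AdjoinRoot g) := Module.finite_of_finite F
  let K := AdjoinRoot g
  let ζ : K := AdjoinRoot.root g
  have hr0 : (r : F) ≠ 0 := natCast_ne_zero_of_ne hrp
  have hζr : ζ ^ r = 1 := by
    have h1 : g ∣ X ^ r - 1 := by
      rw [← cyclotomic_prime_mul_X_sub_one F r]
      exact Dvd.dvd.mul_right hgc _
    have h := AdjoinRoot.mk_eq_zero.mpr h1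
    rw [map_sub, map_pow, AdjoinRoot.mk_X, map_one, sub_eq_zero] at h
    exact h
  have hζ1 : ζ ≠ 1 := by
    intro h
    have h2 := AdjoinRoot.mk_eq_zero.mpr hgc
    rw [cyclotomic_prime, map_sum] at h2
    simp only [map_pow, AdjoinRoot.mk_X] at h2
    have h3 : ∑ t ∈ Finset.range r, (AdjoinRoot.root g) ^ t = (r : AdjoinRoot g) := by
      have : AdjoinRoot.root g = 1 := h
      rw [this]
      simp
    rw [h3] at h2
    have h4 : algebraMap F (AdjoinRoot g) (r : F) = 0 := by
      rw [map_natCast]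
      exact h2
    exact hr0 ((map_eq_zero _).mp h4)
  -- the space
  let n' := n / i
  let k := n % i
  have hn' : 0 < n' := Nat.div_pos hin hipos
  have hk : k < i := Nat.mod_lt _ hipos
  let T' : Module.End F ((Fin n' → K) × (Fin k → F)) := LinearMap.prodMap (smulEnd (F := F) K n' ζ) LinearMap.id
  have hTpow : ∀ (t : ℕ) (y : (Fin n' → K) × (Fin k → F)), (T' ^ t) y = (ζ ^ t • y.1, y.2) := by
    intro t
    induction t with
    | zero => intro y; simp
    | succ t ih =>
      intro y
      rw [pow_succ, Module.End.mul_apply, ih]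
      show (ζ ^ t • (ζ • y.1), y.2) = _
      rw [smul_smul, pow_succ]
  have hT : T' ^ r = algebraMap F _ (1 : F) := by
    apply LinearMap.ext
    intro y
    rw [hTpow, hζr, one_smul, map_one, Module.End.one_apply]
  have hT1 : T' ^ r = 1 := by rw [hT, map_one]
  have hn : finrank F ((Fin n' → K) × (Fin k → F)) = n := by
    rw [Module.finrank_prod, finrank_fin_fun_ext, finrank_adjoinRoot hg.ne_zero, hgd, Module.finrank_fin_fun]
    exact Nat.div_add_mod' n i
  have hdet : LinearMap.det T' = 1 := by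
    apply eq_one_of_pow_eq_one (F := F) (Fact.out : r.Prime) (by rw [hidef]; exact hi)
    rw [← map_pow, hT1, map_one]
  have hfix : finrank F ↥(fixS T') ≤ k := by
    have hle : fixS T' ≤ LinearMap.ker (LinearMap.fst F (Fin n' → K) (Fin k → F)) := by
      intro y hy
      rw [mem_fixS] at hy
      rw [LinearMap.mem_ker, LinearMap.fst_apply]
      have h1 : ζ • y.1 = y.1 := congrArg Prod.fst hy
      have h2 : (ζ - 1) • y.1 = 0 := by rw [sub_smul, one_smul, h1, sub_self]
      rcases smul_eq_zero.mp h2 with h | h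
      · exact absurd (sub_eq_zero.mp h) hζ1
      · exact h
    have h1 := Submodule.finrank_mono hle
    rw [LinearMap.ker_fst, LinearMap.finrank_range_of_inj LinearMap.inr_injective, Module.finrank_fin_fun] at h1
    exact h1
  have hP : ∀ W' ∈ Module.End.invtSubmodule T', finrank F ↥W' % i ≤ n % i := by
    intro W' hW'
    rw [finrank_invt_decomp hr0 hT1 hW']
    have h1 : i ∣ finrank F ↥(W' ⊓ movS r T') := by
      rw [← hidef]
      apply orderOf_dvd_finrank hT1 (Module.End.invtSubmodule.inf_mem hW' (movS_invt r T'))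
      rw [eq_bot_iff, inf_assoc]
      refine le_trans inf_le_right ?_
      rw [inf_comm]
      exact le_of_eq (disjoint_fix_mov hr0 T').eq_bot
    obtain ⟨b, hb⟩ := h1
    have h2 : finrank F ↥(W' ⊓ fixS T') ≤ k := le_trans (Submodule.finrank_mono inf_le_right) hfix
    rw [hb, Nat.add_mul_mod_self_left, Nat.mod_eq_of_lt (lt_of_le_of_lt h2 hk)]
    exact h2
  apply exists_SL_model hn T' hdet 1 hT _ (fun d => d % i ≤ n % i) hP
  intro z hz
  have h1 : T' (fun _ => 1, 0) = z • ((fun _ => 1, 0) : (Fin n' → K) × (Fin k → F)) := by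
    rw [hz, Module.algebraMap_end_apply]
  have h2 : ζ • (fun _ : Fin n' => (1 : K)) = z • (fun _ : Fin n' => (1 : K)) := congrArg Prod.fst h1
  have h3 := congrFun h2 ⟨0, hn'⟩
  rw [Pi.smul_apply, Pi.smul_apply, smul_eq_mul, mul_one, Algebra.smul_def, mul_one] at h3
  have h4 : z ^ r = 1 := by
    have : (algebraMap F K z) ^ r = 1 := by rw [← h3, hζr]
    rw [← map_pow] at this
    exact (algebraMap F K).injective (by rw [this, map_one])
  have h5 := eq_one_of_pow_eq_one (F := F) (Fact.out : r.Prime) (by rw [hidef]; exact hi) h4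
  rw [h5, map_one] at h3
  exact hζ1 h3

end Cfsg.Agent.Helper7.POrd
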