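import Mathlib

set_option autoImplicit false
set_option linter.unusedSectionVars false
set_option linter.unusedVariables false

/-!
`r`-th powers in a finite field.
-/

namespace Cfsg.Agent.Helper7.POrd

variable {F : Type*} [Field F] [Fintype F]

/-- a generator of the multiplicative group, with natural exponents. -/
theorem exists_gen : ∃ γ : Fˣ, orderOf γ = Fintype.card F - 1 ∧ ∀ u : Fˣ, ∃ e : ℕ, γ ^ e = u := by
  classical
  obtain ⟨γ, hγ⟩ := IsCyclic.exists_generator (α := Fˣ)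
  refine ⟨γ, ?_, ?_⟩
  · rw [orderOf_eq_card_of_forall_mem_zpowers hγ, Nat.card_eq_fintype_card, Fintype.card_units]
  · intro u
    have h := hγ u
    rw [← mem_powers_iff_mem_zpowers] at h
    obtain ⟨e, he⟩ := h
    exact ⟨e, he⟩

/-- **the criterion for `r`-th powers.** -/
theorem exists_pow_eq_of_pow_div_eq_one {r : ℕ} (hr : 0 < r) (hrq : r ∣ Fintype.card F - 1) {c : F} (hc0 : c ≠ 0)
    (hc : c ^ ((Fintype.card F - 1) / r) = 1) : ∃ b : F, b ^ r = c := by
  obtain ⟨γ, hγo, hγ⟩ := exists_gen (F := F)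
  obtain ⟨e, he⟩ := hγ (Units.mk0 c hc0)
  obtain ⟨t, ht⟩ := hrq
  have htpos : 0 < t := by
    rcases Nat.eq_zero_or_pos t with h | h
    · rw [h, mul_zero] at ht
      have := Fintype.one_lt_card (α := F)
      omega
    · exact h
  have h1 : γ ^ (e * t) = 1 := by
    rw [pow_mul, he]
    apply Units.ext
    rw [Units.val_pow_eq_pow_val, Units.val_mk0, Units.val_one]
    rw [ht, Nat.mul_div_cancel_left _ hr] at hc
    exact hc
  have h2 : r * t ∣ e * t := by
    rw [← ht, ← hγo]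
    exact orderOf_dvd_of_pow_eq_one h1
  have h3 : r ∣ e := Nat.dvd_of_mul_dvd_mul_right htpos h2
  obtain ⟨e', rfl⟩ := h3
  refine ⟨((γ ^ e' : Fˣ) : F), ?_⟩
  rw [← Units.val_pow_eq_pow_val, ← pow_mul, mul_comm, he, Units.val_mk0]

/-- **a non-`r`-th-power has order divisible by the full `r`-part of `q - 1`.** -/
theorem le_padicValNat_of_pow_eq_one {r : ℕ} [Fact r.Prime] {c : F} (hc : ∀ b : F, b ^ r ≠ c) {M : ℕ}
    (hM : M ≠ 0) (hcM : c ^ M = 1) :
    padicValNat r (Fintype.card F - 1) ≤ padicValNat r M := by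
  by_contra hlt
  rw [not_le] at hlt
  have hq1 : Fintype.card F - 1 ≠ 0 := by
    have := Fintype.one_lt_card (α := F)
    omega
  have hr : r.Prime := Fact.out
  have hc0 : c ≠ 0 := by
    rintro rfl
    rw [zero_pow hM] at hcM
    exact zero_ne_one hcM
  have hcq : c ^ (Fintype.card F - 1) = 1 := FiniteField.pow_card_sub_one_eq_one c hc0
  -- `q - 1 = r^(b+1) * Q`
  have hpd : r ^ padicValNat r M ∣ M := pow_padicValNat_dvd
  have hnd : ¬ r ^ (padicValNat r M + 1) ∣ M := pow_succ_padicValNat_not_dvd hM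
  generalize padicValNat r M = b at hlt hpd hnd
  obtain ⟨Q, hQ⟩ : r ^ (b + 1) ∣ Fintype.card F - 1 := (padicValNat_dvd_iff_le hq1).mpr hlt
  obtain ⟨m', hm'⟩ := hpd
  have hrm' : ¬ r ∣ m' := by
    intro h
    obtain ⟨m'', rfl⟩ := h
    apply hnd
    exact ⟨m'', by rw [pow_succ, mul_assoc]; exact hm'⟩
  have h1 : (c ^ Q) ^ (r ^ (b + 1)) = 1 := by
    rw [← pow_mul, mul_comm, ← hQ, hcq]
  have h2 : (c ^ Q) ^ M = 1 := by
    rw [← pow_mul, mul_comm, pow_mul, hcM, one_pow]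
  have h3 : (c ^ Q) ^ (Nat.gcd (r ^ (b + 1)) M) = 1 := pow_gcd_eq_one.mpr ⟨h1, h2⟩
  have hgcd : Nat.gcd (r ^ (b + 1)) M = r ^ b := by
    rw [hm', pow_succ, Nat.gcd_mul_left]
    have hcop : Nat.Coprime r m' := (Nat.Prime.coprime_iff_not_dvd hr).mpr hrm'
    rw [hcop.gcd_eq_one, mul_one]
  rw [hgcd, ← pow_mul] at h3
  have hrq : r ∣ Fintype.card F - 1 := by
    rw [hQ, pow_succ]
    exact ⟨r ^ b * Q, by ring⟩
  have h4 : (Fintype.card F - 1) / r = Q * r ^ b := by
    rw [hQ, pow_succ]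
    rw [show r ^ b * r * Q = r * (Q * r ^ b) by ring, Nat.mul_div_cancel_left _ hr.pos]
  obtain ⟨b', hb'⟩ := exists_pow_eq_of_pow_div_eq_one hr.pos hrq hc0 (by rw [h4]; exact h3)
  exact hc b' hb'

end Cfsg.Agent.Helper7.POrd
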