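import Mathlib
import Cfsg.Agent.Helper7.POrdJ

set_option autoImplicit false
set_option linter.unusedSectionVars false
set_option linter.unusedVariables false

/-!
Non-`r`-th powers of `r`-power order, and the determinant condition.
-/

namespace Cfsg.Agent.Helper7.POrd

variable {F : Type*} [Field F] [Fintype F]

/-- a non-`r`-th-power of `r`-power order. -/
theorem exists_nonpower {r : ℕ} [Fact r.Prime] (hrq : r ∣ Fintype.card F - 1) :
    ∃ c : F, (∀ b : F, b ^ r ≠ c) ∧ c ^ (r ^ padicValNat r (Fintype.card F - 1)) = 1 := by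
  have hr : r.Prime := Fact.out
  have hq1 : Fintype.card F - 1 ≠ 0 := by
    have := Fintype.one_lt_card (α := F)
    omega
  obtain ⟨γ, hγo, hγ⟩ := exists_gen (F := F)
  have hpd : r ^ padicValNat r (Fintype.card F - 1) ∣ Fintype.card F - 1 := pow_padicValNat_dvd
  have hnd : ¬ r ^ (padicValNat r (Fintype.card F - 1) + 1) ∣ Fintype.card F - 1 :=
    pow_succ_padicValNat_not_dvd hq1
  generalize padicValNat r (Fintype.card F - 1) = a at hpd hnd
  obtain ⟨s, hs⟩ := hpd
  have hrs : ¬ r ∣ s := by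
    intro h
    obtain ⟨s', rfl⟩ := h
    apply hnd
    exact ⟨s', by rw [pow_succ, mul_assoc]; exact hs⟩
  refine ⟨((γ ^ s : Fˣ) : F), ?_, ?_⟩
  · intro b hb
    have hb0 : b ≠ 0 := by
      rintro rfl
      rw [zero_pow hr.ne_zero] at hb
      exact (Units.ne_zero _) hb.symm
    obtain ⟨e, he⟩ := hγ (Units.mk0 b hb0)
    have h1 : γ ^ (e * r) = γ ^ s := by
      apply Units.ext
      rw [pow_mul, he, Units.val_pow_eq_pow_val, Units.val_mk0, hb]
    rw [pow_eq_pow_iff_modEq, hγo] at h1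
    -- `e * r ≡ s` modulo `q - 1`, and `r` divides `q - 1`
    have h2 : e * r ≡ s [MOD r] := h1.of_dvd hrq
    have h3 : r ∣ s := by
      rw [← Nat.modEq_zero_iff_dvd]
      exact h2.symm.trans (Nat.modEq_zero_iff_dvd.mpr (Dvd.intro_left e rfl))
    exact hrs h3
  · rw [← Units.val_pow_eq_pow_val, ← pow_mul, mul_comm, ← hs, ← hγo, pow_orderOf_eq_one, Units.val_one]

/-- the sign `(-1)^(r+1)`. -/
theorem neg_one_pow_succ_of_odd {r : ℕ} (hr : r.Prime) (h2 : r ≠ 2) : ((-1 : F)) ^ (r + 1) = 1 := by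
  have hodd : Odd r := hr.odd_of_ne_two h2
  exact Even.neg_one_pow (Odd.add_one hodd)

/-- `-1` is a square when `q ≡ 1 mod 4`; a product of a square and a non-square. -/
theorem neg_nonsquare {c : F} (hq4 : Fintype.card F % 4 = 1) (hc : ∀ b : F, b ^ 2 ≠ c) : ∀ b : F, b ^ 2 ≠ -c := by
  have hsq : IsSquare (-1 : F) := by
    rw [FiniteField.isSquare_neg_one_iff]
    omega
  obtain ⟨ι, hι⟩ := hsq
  intro b hb
  apply hc (ι * b)
  rw [mul_pow, hb, pow_two, ← hι]
  ring

/-- **no bad element**: under the arithmetic condition of the statement, a non-`r`-th-power `c` cannot have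
`((-1)^(r+1) c)^(n/r) = 1`. -/
theorem nonpower_contra {r : ℕ} [Fact r.Prime] {n : ℕ} (hn : n ≠ 0) (hrn : r ∣ n) {c : F}
    (hc : ∀ b : F, b ^ r ≠ c) (hdet : ((-1) ^ (r + 1) * c) ^ (n / r) = 1)
    (hval : padicValNat r n ≤ padicValNat r (Fintype.card F - 1))
    (h2 : r = 2 → Even n → Fintype.card F % 4 = 1) : False := by
  have hr : r.Prime := Fact.out
  have hnr : n / r ≠ 0 := by
    obtain ⟨k, rfl⟩ := hrn
    rw [Nat.mul_div_cancel_left _ hr.pos]
    rintro rfl
    exact hn (mul_zero r)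
  have hv1 : 1 ≤ padicValNat r n := one_le_padicValNat_of_dvd hn hrn
  have hv2 : padicValNat r (n / r) = padicValNat r n - 1 := padicValNat.div hrn
  by_cases hr2 : r = 2
  · subst hr2
    have hq4 := h2 rfl (even_iff_two_dvd.mpr hrn)
    have h3 : (-1 : F) ^ (2 + 1) * c = -c := by ring
    rw [h3] at hdet
    have := le_padicValNat_of_pow_eq_one (neg_nonsquare hq4 hc) hnr hdet
    omega
  · rw [neg_one_pow_succ_of_odd hr hr2, one_mul] at hdet
    have := le_padicValNat_of_pow_eq_one hc hnr hdet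
    omega

/-- **a bad scalar exists** when the arithmetic condition of the statement fails. -/
theorem exists_bad_scalar {r : ℕ} [Fact r.Prime] {n : ℕ} (hn : n ≠ 0) (hrq : r ∣ Fintype.card F - 1)
    (hfail : ¬ (padicValNat r n ≤ padicValNat r (Fintype.card F - 1) ∧
      (r = 2 → Even n → Fintype.card F % 4 = 1))) :
    r ∣ n ∧ ∃ c : F, (∀ b : F, b ^ r ≠ c) ∧ ((-1) ^ (r + 1) * c) ^ (n / r) = 1 := by
  have hr : r.Prime := Fact.out
  -- the case `q ≡ 3 mod 4`, `r = 2`, `n` even
  have hcase3 : r = 2 → Even n → Fintype.card F % 4 = 3 →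
      r ∣ n ∧ ∃ c : F, (∀ b : F, b ^ r ≠ c) ∧ ((-1) ^ (r + 1) * c) ^ (n / r) = 1 := by
    intro hr2 hne hq4
    subst hr2
    refine ⟨even_iff_two_dvd.mp hne, -1, ?_, ?_⟩
    · intro b hb
      have : IsSquare (-1 : F) := ⟨b, by rw [← hb, pow_two]⟩
      rw [FiniteField.isSquare_neg_one_iff] at this
      exact this hq4
    · have : (-1 : F) ^ (2 + 1) * -1 = 1 := by ring
      rw [this, one_pow]
  have hqodd : r = 2 → Fintype.card F % 4 = 1 ∨ Fintype.card F % 4 = 3 := by
    intro hr2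
    subst hr2
    have := Fintype.one_lt_card (α := F)
    omega
  by_cases hval : padicValNat r n ≤ padicValNat r (Fintype.card F - 1)
  · -- then `r = 2`, `n` even and `q % 4 ≠ 1`
    have h1 : ¬ (r = 2 → Even n → Fintype.card F % 4 = 1) := fun h => hfail ⟨hval, h⟩
    rw [Classical.not_imp] at h1
    obtain ⟨hr2, h1⟩ := h1
    rw [Classical.not_imp] at h1
    obtain ⟨hne, hq4⟩ := h1
    rcases hqodd hr2 with h | h
    · exact absurd h hq4
    · exact hcase3 hr2 hne h
  · rw [not_le] at hval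
    have hrn : r ∣ n := dvd_of_one_le_padicValNat (by omega)
    have hnr : n / r ≠ 0 := by
      obtain ⟨k, rfl⟩ := hrn
      rw [Nat.mul_div_cancel_left _ hr.pos]
      rintro rfl
      exact hn (mul_zero r)
    have hv2 : padicValNat r (n / r) = padicValNat r n - 1 := padicValNat.div hrn
    obtain ⟨c₀, hc₀, hc₀o⟩ := exists_nonpower (F := F) hrq
    have hdvd : r ^ padicValNat r (Fintype.card F - 1) ∣ n / r := by
      rw [padicValNat_dvd_iff_le hnr]
      omega
    have hc₀n : c₀ ^ (n / r) = 1 := by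
      obtain ⟨k, hk⟩ := hdvd
      rw [hk, pow_mul, hc₀o, one_pow]
    by_cases hr2 : r = 2
    · rcases hqodd hr2 with hq4 | hq4
      · subst hr2
        refine ⟨hrn, -c₀, neg_nonsquare hq4 hc₀, ?_⟩
        have : (-1 : F) ^ (2 + 1) * -c₀ = c₀ := by ring
        rw [this]
        exact hc₀n
      · refine hcase3 hr2 ?_ hq4
        rw [hr2] at hrn
        exact even_iff_two_dvd.mpr hrn
    · refine ⟨hrn, c₀, hc₀, ?_⟩
      rw [neg_one_pow_succ_of_odd hr hr2, one_mul]
      exact hc₀n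

/-- when `r` does not divide `q - 1`, everything is an `r`-th power. -/
theorem exists_pow_eq_of_not_dvd {r : ℕ} (hr : r.Prime) (hrq : ¬ r ∣ Fintype.card F - 1) (c : F) :
    ∃ b : F, b ^ r = c := by
  by_cases hc0 : c = 0
  · exact ⟨0, by rw [hc0, zero_pow hr.ne_zero]⟩
  · have hcop : Nat.Coprime r (Fintype.card F - 1) := (Nat.Prime.coprime_iff_not_dvd hr).mpr hrq
    have hcq : c ^ (Fintype.card F - 1) = 1 := FiniteField.pow_card_sub_one_eq_one c hc0
    have hord : (orderOf c).Coprime r := by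
      apply Nat.Coprime.coprime_dvd_left (orderOf_dvd_of_pow_eq_one hcq)
      exact hcop.symm
    obtain ⟨m, hm⟩ := exists_pow_eq_self_of_coprime hord.symm
    exact ⟨c ^ m, by rw [← pow_mul, mul_comm, pow_mul, hm]⟩

end Cfsg.Agent.Helper7.POrd
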