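import Mathlib
import Cfsg.Agent.Helper7.POrdI
import Cfsg.Agent.Helper7.POrdK

set_option autoImplicit false
set_option linter.unusedSectionVars false
set_option linter.unusedVariables false

/-!
Elements of `SL_n(q)` with `x^r` scalar and their invariant subspaces: the two halves of the criterion.
-/

namespace Cfsg.Agent.Helper7.POrd

open Module Polynomial

variable {F : Type*} [Field F] [Fintype F] {p : ℕ} [Fact p.Prime] [CharP F p] {r : ℕ} [Fact r.Prime]

theorem char_dvd_card : p ∣ Fintype.card F := by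
  rw [← CharP.cast_eq_zero_iff F p]
  exact Nat.cast_card_eq_zero F

/-- a prime dividing the number of `m`-spaces is not the characteristic. -/
theorem ne_char_of_dvd_card_sub {n m : ℕ} (hmn : 2 * m ≤ n) (hm : 1 ≤ m)
    (h : r ∣ Nat.card {W : Submodule F (Fin n → F) // finrank F ↥W = m}) : r ≠ p := by
  rintro rfl
  have hfr : finrank F (Fin n → F) = n := Module.finrank_fin_fun F
  obtain ⟨t, ht, hdvd⟩ := exists_dvd_of_dvd_card (F := F) (V := Fin n → F) m (by rw [hfr]; omega)
    (Fact.out : r.Prime) h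
  rw [hfr] at hdvd
  have h1 : r ∣ Fintype.card F ^ (n - t) := Dvd.dvd.pow char_dvd_card (by omega)
  have h2 : 1 ≤ Fintype.card F ^ (n - t) := Nat.one_le_pow _ _ Fintype.card_pos
  have h3 : r ∣ 1 := by
    have := (Nat.dvd_sub h1 hdvd)
    rwa [Nat.sub_sub_self h2] at this
  exact (Fact.out : r.Prime).one_lt.ne' (Nat.dvd_one.mp h3)

/-- `r` divides `q^s - 1` only if the order of `q` divides `s`. -/
theorem orderOf_dvd_of_dvd_pow_sub_one {s : ℕ} (h : r ∣ Fintype.card F ^ s - 1) :
    orderOf ((Fintype.card F : ℕ) : ZMod r) ∣ s := by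
  rw [orderOf_dvd_iff_pow_eq_one]
  have h2 : 1 ≤ Fintype.card F ^ s := Nat.one_le_pow _ _ Fintype.card_pos
  have h3 : ((Fintype.card F ^ s : ℕ) : ZMod r) = ((1 : ℕ) : ZMod r) := by
    rw [ZMod.natCast_eq_natCast_iff, Nat.ModEq.comm, Nat.modEq_iff_dvd' h2]
    exact h
  rw [Nat.cast_pow, Nat.cast_one] at h3
  exact h3

/-- the matrix of `x` as an endomorphism, and its `r`-th power. -/
theorem toLin'_pow_eq {n : ℕ} (x : Matrix.SpecialLinearGroup (Fin n) F) {c : F}
    (hx : ((x ^ r : Matrix.SpecialLinearGroup (Fin n) F) : Matrix (Fin n) (Fin n) F) = c • 1) :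
    (Matrix.toLin' (x : Matrix (Fin n) (Fin n) F) : Module.End F (Fin n → F)) ^ r = algebraMap F _ c := by
  rw [toLin'_pow_apply, ← toLin'_smul_one, ← hx, Matrix.SpecialLinearGroup.coe_pow]

/-- **first half**: the invariant subspace when `x^r = μ^r`. -/
theorem exists_invt_of_power (hrp : r ≠ p) {n m : ℕ} (hmn : m ≤ n)
    (hmod : m % orderOf ((Fintype.card F : ℕ) : ZMod r) ≤ n % orderOf ((Fintype.card F : ℕ) : ZMod r))
    (T : Module.End F (Fin n → F)) {μ : F} (hμ : μ ≠ 0) (hT : T ^ r = algebraMap F _ (μ ^ r)) :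
    ∃ W : Submodule F (Fin n → F), finrank F ↥W = m ∧ W ∈ Module.End.invtSubmodule T := by
  have hipos : 0 < orderOf ((Fintype.card F : ℕ) : ZMod r) := orderOf_q_pos hrp
  obtain ⟨i, hi⟩ : ∃ i : ℕ, i = orderOf ((Fintype.card F : ℕ) : ZMod r) := ⟨_, rfl⟩
  rw [← hi] at hmod hipos
  have hr0 : (r : F) ≠ 0 := natCast_ne_zero_of_ne hrp
  have hT₁ : (μ⁻¹ • T) ^ r = 1 := by
    rw [_root_.smul_pow, hT, Algebra.algebraMap_eq_smul_one, smul_smul, ← mul_pow, inv_mul_cancel₀ hμ, one_pow,
      one_smul]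
  obtain ⟨j, Wf, hj, -, hWf⟩ := exists_invt_family hrp hT₁
  rw [← hi] at hj
  simp only [← hi] at hWf
  have hsum := finrank_fix_add_mov hr0 hT₁
  rw [Module.finrank_fin_fun, hj] at hsum
  have hinv : ∀ W : Submodule F (Fin n → F), W ∈ Module.End.invtSubmodule (μ⁻¹ • T) →
      W ∈ Module.End.invtSubmodule T := by
    intro W hW
    rw [Module.End.mem_invtSubmodule] at hW ⊢
    intro w hw
    rw [Submodule.mem_comap]
    have h1 := hW hw
    rw [Submodule.mem_comap, LinearMap.smul_apply] at h1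
    have h2 := Submodule.smul_mem W μ h1
    rwa [smul_smul, mul_inv_cancel₀ hμ, one_smul] at h2
  -- the choice of `a` and `b`
  obtain ⟨d, hd⟩ : ∃ d : ℕ, d = finrank F ↥(fixS (μ⁻¹ • T)) := ⟨_, rfl⟩
  rw [← hd] at hsum
  simp only [← hd] at hWf
  have hib : i * min (m / i) j ≤ m :=
    le_trans (Nat.mul_le_mul_left i (min_le_left _ _)) (Nat.mul_div_le m i)
  have ha : m - i * min (m / i) j ≤ d := by
    rcases le_total (m / i) j with h | h
    · rw [min_eq_left h]
      have h1 : m - i * (m / i) = m % i := by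
        have := Nat.div_add_mod m i
        omega
      rw [h1]
      have h2 : n % i = d % i :=
        (congrArg (· % i) hsum.symm).trans (Nat.add_mul_mod_self_left d i j)
      rw [h2] at hmod
      exact le_trans hmod (Nat.mod_le _ _)
    · rw [min_eq_right h]
      omega
  obtain ⟨h1, h2⟩ := hWf (m - i * min (m / i) j) (min (m / i) j) ha (min_le_right _ _)
  refine ⟨_, ?_, hinv _ h1⟩
  rw [h2]
  omega

/-- **second half**: the invariant subspaces when `x^r = c` is not an `r`-th power. -/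
theorem exists_invt_of_nonpower {n m : ℕ} (hn : n ≠ 0) (hmn : m ≤ n) (T : Module.End F (Fin n → F))
    (hdetT : LinearMap.det T = 1) {c : F} (hc : ∀ b : F, b ^ r ≠ c) (hT : T ^ r = algebraMap F _ c)
    (hcond : r ∣ m ∨ (padicValNat r n ≤ padicValNat r (Fintype.card F - 1) ∧
      (r = 2 → Even n → Fintype.card F % 4 = 1))) :
    ∃ W : Submodule F (Fin n → F), finrank F ↥W = m ∧ W ∈ Module.End.invtSubmodule T := by
  have hr : r.Prime := Fact.out
  have hirr : Irreducible (X ^ r - C c : F[X]) := X_pow_sub_C_irreducible_of_prime hr hc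
  have hdeg : (X ^ r - C c : F[X]).natDegree = r := natDegree_X_pow_sub_C
  have hgT : aeval T (X ^ r - C c : F[X]) = 0 := by
    rw [map_sub, map_pow, aeval_X, aeval_C, hT, sub_self]
  obtain ⟨N, U, hN, -, hU⟩ := exists_chain_irred hirr hgT (Module.End.invtSubmodule.top_mem T)
  rw [finrank_top, Module.finrank_fin_fun, hdeg] at hN
  rcases hcond with ⟨b, rfl⟩ | ⟨hval, h2⟩
  · have hb : b ≤ N := by
      rw [hN] at hmn
      exact Nat.le_of_mul_le_mul_left hmn hr.pos
    obtain ⟨h1, -, h3⟩ := hU b hb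
    rw [hdeg] at h3
    exact ⟨U b, h3, h1⟩
  · exfalso
    have hdet := det_of_pow_eq hr.pos hirr T hT
    rw [hdetT, Module.finrank_fin_fun] at hdet
    exact nonpower_contra hn ⟨N, hN⟩ hc hdet.symm hval h2

end Cfsg.Agent.Helper7.POrd
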