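import Mathlib
import Cfsg.Agent.Helper8.SpParCount

set_option autoImplicit false
set_option linter.unusedSectionVars false

/-! Complementary pairs of totally isotropic subspaces of the symplectic space: dimensions and dual
bases (helper7). -/

namespace Cfsg.Agent.Helper7.SpCP

open Matrix Module Cfsg Cfsg.Agent.Helper8.SpS Cfsg.Agent.Helper8.SpStab Cfsg.Agent.Helper7.Symp

variable {F : Type*} [Field F] {d : ℕ}

/-- the complementary pairs of totally isotropic subspaces. -/
abbrev Pairs (d : ℕ) (F : Type*) [Field F] : Type _ :=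
  {P : Submodule F (Fin d ⊕ Fin d → F) × Submodule F (Fin d ⊕ Fin d → F) //
    IsCompl P.1 P.2 ∧ (∀ u ∈ P.1, ∀ v ∈ P.1, Cfsg.sympForm d F u v = 0) ∧
      (∀ u ∈ P.2, ∀ v ∈ P.2, Cfsg.sympForm d F u v = 0)}

theorem finrank_ti_le (U : Submodule F (Fin d ⊕ Fin d → F))
    (hU : ∀ u ∈ U, ∀ v ∈ U, sympForm d F u v = 0) : finrank F U ≤ d := by
  have h1 : U ≤ (sB d F).orthogonal U := by
    intro u hu
    rw [LinearMap.BilinForm.mem_orthogonal_iff]
    intro w hw
    show sB d F w u = 0
    rw [sB_apply]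
    exact hU w hw u hu
  have h2 := LinearMap.BilinForm.finrank_orthogonal (sB_nondegenerate (F := F) (m := d)) U
  have h3 := Submodule.finrank_mono h1
  rw [h2, Module.finrank_fintype_fun_eq_card, Fintype.card_sum, Fintype.card_fin] at h3
  omega

theorem finrank_pair (P : Pairs d F) : finrank F P.1.1 = d ∧ finrank F P.1.2 = d := by
  have h1 := finrank_ti_le P.1.1 P.2.2.1
  have h2 := finrank_ti_le P.1.2 P.2.2.2
  have h3 := Submodule.finrank_add_eq_of_isCompl P.2.1
  rw [Module.finrank_fintype_fun_eq_card, Fintype.card_sum, Fintype.card_fin] at h3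
  omega

/-- the form is zero on a vector of `W` paired with the span. -/
theorem sympForm_span_zero {k : ℕ} {e : Fin k → (Fin d ⊕ Fin d → F)} {x : Fin d ⊕ Fin d → F}
    (h : ∀ i, sympForm d F (e i) x = 0) {u : Fin d ⊕ Fin d → F}
    (hu : u ∈ Submodule.span F (Set.range e)) : sympForm d F u x = 0 := by
  have := (mem_orthogonal_span e x).mpr (fun i => by rw [sB_apply]; exact h i)
  rw [LinearMap.BilinForm.mem_orthogonal_iff] at this
  have h2 := this u hu
  change sB d F u x = 0 at h2
  rw [sB_apply] at h2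
  exact h2

/-- dual vectors of a basis of `U`, inside `W`. -/
theorem exists_dual_in (P : Pairs d F) (e : Fin d → (Fin d ⊕ Fin d → F))
    (he : LinearIndependent F e) (heU : ∀ i, e i ∈ P.1.1) :
    ∃ f : Fin d → (Fin d ⊕ Fin d → F), (∀ j, f j ∈ P.1.2) ∧
      ∀ i j, sympForm d F (e i) (f j) = if i = j then 1 else 0 := by
  obtain ⟨u, hu⟩ := exists_dual e he
  have hdec : ∀ j, ∃ a ∈ P.1.1, ∃ w ∈ P.1.2, a + w = u j := by
    intro j
    have : u j ∈ P.1.1 ⊔ P.1.2 := by rw [P.2.1.sup_eq_top]; trivial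
    exact Submodule.mem_sup.mp this
  choose a ha w hw hsum using hdec
  refine ⟨w, hw, fun i j => ?_⟩
  have h1 := hu i j
  rw [sB_apply, ← hsum j, sympForm_add_right, P.2.2.1 (e i) (heU i) (a j) (ha j), zero_add] at h1
  exact h1

/-- the dual vectors are unique. -/
theorem dual_unique (P : Pairs d F) {e : Fin d → (Fin d ⊕ Fin d → F)}
    (hspan : Submodule.span F (Set.range e) = P.1.1) {w w' : Fin d ⊕ Fin d → F} (hw : w ∈ P.1.2)
    (hw' : w' ∈ P.1.2) (h : ∀ i, sympForm d F (e i) w = sympForm d F (e i) w') : w = w' := by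
  by_contra hne
  have hx0 : w - w' ≠ 0 := sub_ne_zero.mpr hne
  obtain ⟨y, hy⟩ := exists_sympForm_ne_zero hx0
  apply hy
  have hyd : y ∈ P.1.1 ⊔ P.1.2 := by rw [P.2.1.sup_eq_top]; trivial
  obtain ⟨a, ha, b, hb, rfl⟩ := Submodule.mem_sup.mp hyd
  have hxW : w - w' ∈ P.1.2 := P.1.2.sub_mem hw hw'
  have h1 : sympForm d F a (w - w') = 0 := by
    apply sympForm_span_zero (e := e)
    · intro i
      rw [sympForm_sub_right, h i, sub_self]
    · rw [hspan]; exact ha
  rw [sympForm_add_right, sympForm_swap _ a, h1, neg_zero, zero_add]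
  exact P.2.2.2 _ hxW _ hb

end Cfsg.Agent.Helper7.SpCP
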