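import Mathlib
import Cfsg.Agent.Helper7.SpCPA

set_option autoImplicit false
set_option linter.unusedSectionVars false

/-! Complementary pairs of totally isotropic subspaces of the symplectic space: symplectic bases and
the number of pairs (helper7). -/

namespace Cfsg.Agent.Helper7.SpCP

open Matrix Module Cfsg Cfsg.Agent.Helper8.SpS Cfsg.Agent.Helper8.SpStab Cfsg.Agent.Helper7.Symp

variable {F : Type*} [Field F] {d : ℕ}

/-- symplectic bases, as pairs of families. -/
def SBas (d : ℕ) (F : Type*) [Field F] : Type _ :=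
  {ef : (Fin d → (Fin d ⊕ Fin d → F)) × (Fin d → (Fin d ⊕ Fin d → F)) //
    (∀ i j, sympForm d F (ef.1 i) (ef.1 j) = 0) ∧ (∀ i j, sympForm d F (ef.2 i) (ef.2 j) = 0) ∧
      ∀ i j, sympForm d F (ef.1 i) (ef.2 j) = if i = j then 1 else 0}

theorem sympForm_single (x y : Fin d ⊕ Fin d) :
    sympForm d F (Pi.single x 1) (Pi.single y 1) = J (Fin d) F x y := by
  unfold sympForm
  rw [mulVec_single_one, single_dotProduct, one_mul, Matrix.col_apply]

theorem transpose_J_mul_apply (M : Matrix (Fin d ⊕ Fin d) (Fin d ⊕ Fin d) F) (x y : Fin d ⊕ Fin d) :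
    (Mᵀ * J (Fin d) F * M) x y = sympForm d F (fun r => M r x) (fun r => M r y) := by
  rw [Matrix.mul_assoc, Matrix.mul_apply]
  unfold sympForm
  simp only [dotProduct, mulVec, Matrix.mul_apply, Matrix.transpose_apply]

/-- symplectic bases are the columns of symplectic matrices. -/
def sbasEquiv : symplecticGroup (Fin d) F ≃ SBas d F where
  toFun g := ⟨(fun i => (g : Matrix (Fin d ⊕ Fin d) (Fin d ⊕ Fin d) F) *ᵥ Pi.single (Sum.inr i) 1,
      fun i => (g : Matrix (Fin d ⊕ Fin d) (Fin d ⊕ Fin d) F) *ᵥ Pi.single (Sum.inl i) 1), by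
    refine ⟨fun i j => ?_, fun i j => ?_, fun i j => ?_⟩
    · rw [sympForm_mulVec, sympForm_single]
      simp [J]
    · rw [sympForm_mulVec, sympForm_single]
      simp [J]
    · rw [sympForm_mulVec, sympForm_single]
      simp [J, Matrix.one_apply]⟩
  invFun ef := ⟨Matrix.of (fun r c => Sum.elim ef.1.2 ef.1.1 c r), by
    rw [SymplecticGroup.mem_iff']
    ext x y
    rw [transpose_J_mul_apply]
    obtain ⟨⟨e, f⟩, he, hf, hef⟩ := ef
    rcases x with i | i <;> rcases y with j | j
    · simp only [Matrix.of_apply, Sum.elim_inl]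
      rw [hf]
      simp [J]
    · simp only [Matrix.of_apply, Sum.elim_inl, Sum.elim_inr]
      rw [sympForm_swap, hef]
      simp [J, Matrix.one_apply, eq_comm]
    · simp only [Matrix.of_apply, Sum.elim_inl, Sum.elim_inr]
      rw [hef]
      simp [J, Matrix.one_apply]
    · simp only [Matrix.of_apply, Sum.elim_inr]
      rw [he]
      simp [J]⟩
  left_inv g := by
    apply Subtype.ext
    ext r c
    rcases c with i | i
    · simp [mulVec_single_one]
    · simp [mulVec_single_one]
  right_inv ef := by
    apply Subtype.ext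
    obtain ⟨⟨e, f⟩, he, hf, hef⟩ := ef
    apply Prod.ext
    · funext i r
      simp [mulVec_single_one]
    · funext i r
      simp [mulVec_single_one]

theorem li_sbas (ef : SBas d F) : LinearIndependent F (Sum.elim ef.1.1 ef.1.2) :=
  linearIndependent_family (sB d F) sB_alt ef.1.1 ef.1.2
    (fun i j => by rw [sB_apply]; exact ef.2.1 i j) (fun i j => by rw [sB_apply]; exact ef.2.2.1 i j)
    (fun i j => by rw [sB_apply]; exact ef.2.2.2 i j)

theorem ti_span {k : ℕ} {e : Fin k → (Fin d ⊕ Fin d → F)}
    (he : ∀ i j, sympForm d F (e i) (e j) = 0) :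
    ∀ u ∈ Submodule.span F (Set.range e), ∀ v ∈ Submodule.span F (Set.range e),
      sympForm d F u v = 0 := by
  intro u hu v hv
  apply sympForm_span_zero (e := e) _ hu
  intro i
  rw [sympForm_swap]
  rw [sympForm_span_zero (e := e) (fun j => he j i) hv, neg_zero]

/-- the pair of subspaces spanned by a symplectic basis. -/
noncomputable def toPair (ef : SBas d F) : Pairs d F :=
  ⟨(Submodule.span F (Set.range ef.1.1), Submodule.span F (Set.range ef.1.2)), by
    have hli := li_sbas ef
    refine ⟨⟨?_, ?_⟩, ti_span ef.2.1, ti_span ef.2.2.1⟩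
    · have h := hli.disjoint_span_image (s := Set.range Sum.inl) (t := Set.range Sum.inr) (by
        rw [Set.disjoint_iff]
        rintro x ⟨⟨i, rfl⟩, ⟨j, hj⟩⟩
        exact absurd hj (by simp))
      rw [← Set.range_comp, ← Set.range_comp] at h
      exact h
    · rw [codisjoint_iff, ← Submodule.span_union]
      have : Set.range ef.1.1 ∪ Set.range ef.1.2 = Set.range (Sum.elim ef.1.1 ef.1.2) :=
        (Set.Sum.elim_range _ _).symm
      rw [this]
      apply hli.span_eq_top_of_card_eq_finrank'
      rw [Module.finrank_fintype_fun_eq_card]⟩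

theorem toPair_fst (ef : SBas d F) : (toPair ef).1.1 = Submodule.span F (Set.range ef.1.1) := rfl

theorem toPair_snd (ef : SBas d F) : (toPair ef).1.2 = Submodule.span F (Set.range ef.1.2) := rfl

/-- the symplectic bases over a given pair are the bases of its first member. -/
noncomputable def fiberEquiv (P : Pairs d F) :
    {ef : SBas d F // toPair ef = P} ≃ {e : Fin d → ↥P.1.1 // LinearIndependent F e} where
  toFun ef := ⟨fun i => ⟨ef.1.1.1 i, by
      have h1 : (toPair ef.1).1.1 = P.1.1 := by rw [ef.2]
      rw [← h1, toPair_fst]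
      exact Submodule.subset_span ⟨i, rfl⟩⟩, by
    apply LinearIndependent.of_comp P.1.1.subtype
    exact (li_sbas ef.1).comp Sum.inl Sum.inl_injective⟩
  invFun e := by
    have hli : LinearIndependent F (fun i => (e.1 i : Fin d ⊕ Fin d → F)) :=
      e.2.map' P.1.1.subtype (Submodule.ker_subtype _)
    have hex := exists_dual_in P (fun i => (e.1 i : Fin d ⊕ Fin d → F)) hli (fun i => (e.1 i).2)
    let ef : SBas d F := ⟨(fun i => (e.1 i : Fin d ⊕ Fin d → F), Classical.choose hex),
      fun i j => P.2.2.1 _ (e.1 i).2 _ (e.1 j).2,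
      fun i j => P.2.2.2 _ ((Classical.choose_spec hex).1 i) _ ((Classical.choose_spec hex).1 j),
      (Classical.choose_spec hex).2⟩
    refine ⟨ef, ?_⟩
    apply Subtype.ext
    apply Prod.ext
    · rw [toPair_fst]
      exact span_eq_of_li P.1.1 (finrank_pair P).1 hli (fun i => (e.1 i).2)
    · rw [toPair_snd]
      exact span_eq_of_li P.1.2 (finrank_pair P).2
        ((li_sbas ef).comp Sum.inr Sum.inr_injective) (Classical.choose_spec hex).1
  left_inv ef := by
    apply Subtype.ext
    apply Subtype.ext
    apply Prod.ext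
    · rfl
    · funext j
      have hli : LinearIndependent F ef.1.1.1 :=
        (li_sbas ef.1).comp Sum.inl Sum.inl_injective
      have h1 : (toPair ef.1).1.1 = P.1.1 := by rw [ef.2]
      have h2 : (toPair ef.1).1.2 = P.1.2 := by rw [ef.2]
      have hspan : Submodule.span F (Set.range ef.1.1.1) = P.1.1 := by
        rw [← h1, toPair_fst]
      have hfW : ∀ j, ef.1.1.2 j ∈ P.1.2 := by
        intro j
        rw [← h2, toPair_snd]
        exact Submodule.subset_span ⟨j, rfl⟩
      have hmemU : ∀ i, ef.1.1.1 i ∈ P.1.1 := by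
        intro i
        rw [← hspan]
        exact Submodule.subset_span ⟨i, rfl⟩
      have hex := exists_dual_in P ef.1.1.1 hli hmemU
      show Classical.choose hex j = ef.1.1.2 j
      refine dual_unique P hspan ((Classical.choose_spec hex).1 j) (hfW j) (fun i => ?_)
      rw [(Classical.choose_spec hex).2 i j, ef.1.2.2.2 i j]
  right_inv e := by
    apply Subtype.ext
    rfl

variable [Fintype F]

instance : Finite (SBas d F) := by
  unfold SBas
  infer_instance

/-- **the number of complementary pairs of totally isotropic subspaces.** -/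
theorem card_pairs_mul :
    Nat.card (Pairs d F) * ∏ i : Fin d, (Fintype.card F ^ d - Fintype.card F ^ (i : ℕ)) =
      Nat.card (symplecticGroup (Fin d) F) := by
  classical
  letI : Fintype (Pairs d F) := Fintype.ofFinite _
  rw [Nat.card_congr sbasEquiv, Nat.card_congr (Equiv.sigmaFiberEquiv (toPair (d := d) (F := F))).symm,
    Nat.card_sigma]
  have h : ∀ P : Pairs d F, Nat.card {ef : SBas d F // toPair ef = P} =
      ∏ i : Fin d, (Fintype.card F ^ d - Fintype.card F ^ (i : ℕ)) := by
    intro P
    rw [Nat.card_congr (fiberEquiv P)]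
    have := card_linearIndependent (K := F) (V := ↥P.1.1) (k := d) (le_of_eq (finrank_pair P).1.symm)
    rw [(finrank_pair P).1] at this
    exact this
  rw [Finset.sum_congr rfl (fun P _ => h P), Finset.sum_const, Finset.card_univ, smul_eq_mul,
    Nat.card_eq_fintype_card]

end Cfsg.Agent.Helper7.SpCP
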