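import Mathlib
import Cfsg.Agent.Helper8.SpSSympIso

set_option autoImplicit false
set_option linter.unusedSectionVars false

/-! The twisted trace form of a field extension with an involution: an alternating form preserved
by the elements of norm one, and orthogonal sums of alternating forms (helper7). -/

namespace Cfsg.Agent.Helper7.SpCP

open Module Cfsg.Agent.Helper8.SpS

section twisted

variable {F L : Type*} [Field F] [Field L] [Algebra F L]

/-- the twisted trace form `(u, v) ↦ Tr(θ u σ(v))`. -/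
noncomputable def twB (σ : L ≃ₐ[F] L) (θ : L) : L →ₗ[F] L →ₗ[F] F :=
  LinearMap.mk₂ F (fun u v => Algebra.trace F L (θ * u * σ v))
    (fun u₁ u₂ v => by rw [mul_add, add_mul, map_add])
    (fun c u v => by rw [Algebra.mul_smul_comm, Algebra.smul_mul_assoc, map_smul])
    (fun u v₁ v₂ => by rw [map_add, mul_add, map_add])
    (fun c u v => by rw [map_smul, Algebra.mul_smul_comm, map_smul])

theorem twB_apply (σ : L ≃ₐ[F] L) (θ u v : L) :
    twB σ θ u v = Algebra.trace F L (θ * u * σ v) := rfl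

theorem twB_alt (σ : L ≃ₐ[F] L) {θ : L} (hθ : σ θ = -θ) (hσ : ∀ x, σ (σ x) = x)
    (h2 : (2 : F) ≠ 0) : Alt (twB σ θ) := by
  intro u
  rw [twB_apply]
  have h1 : σ (θ * u * σ u) = -(θ * u * σ u) := by
    rw [map_mul, map_mul, hθ, hσ]
    ring
  have h3 := Algebra.trace_eq_of_algEquiv σ (θ * u * σ u)
  rw [h1, map_neg] at h3
  have h4 : (2 : F) * Algebra.trace F L (θ * u * σ u) = 0 := by
    linear_combination -h3
  exact (mul_eq_zero.mp h4).resolve_left h2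

theorem twB_nondeg [FiniteDimensional F L] [Algebra.IsSeparable F L] (σ : L ≃ₐ[F] L) {θ : L}
    (hθ0 : θ ≠ 0) : Nondeg (twB σ θ) := by
  intro u hu
  have h1 : ∀ w : L, Algebra.traceForm F L (θ * u) w = 0 := by
    intro w
    have := hu (σ.symm w)
    rw [twB_apply, AlgEquiv.apply_symm_apply] at this
    rw [Algebra.traceForm_apply]
    exact this
  have h2 := (traceForm_nondegenerate F L).1 (θ * u) h1
  exact (mul_eq_zero.mp h2).resolve_left hθ0

theorem twB_inv (σ : L ≃ₐ[F] L) (θ : L) {ζ : L} (hζ : ζ * σ ζ = 1) :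
    Inv (twB σ θ) (LinearMap.mulLeft F ζ) := by
  intro u v
  rw [LinearMap.mulLeft_apply, LinearMap.mulLeft_apply, twB_apply, twB_apply]
  have : θ * (ζ * u) * σ (ζ * v) = θ * u * σ v := by
    rw [map_mul]
    linear_combination (θ * u * σ v) * hζ
  rw [this]

end twisted

section prod

variable {F : Type*} [Field F] {V₁ V₂ : Type*} [AddCommGroup V₁] [Module F V₁] [AddCommGroup V₂]
  [Module F V₂]

/-- the orthogonal sum of two bilinear forms. -/
noncomputable def prodB (B₁ : V₁ →ₗ[F] V₁ →ₗ[F] F) (B₂ : V₂ →ₗ[F] V₂ →ₗ[F] F) :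
    (V₁ × V₂) →ₗ[F] (V₁ × V₂) →ₗ[F] F :=
  B₁.compl₁₂ (LinearMap.fst F V₁ V₂) (LinearMap.fst F V₁ V₂) +
    B₂.compl₁₂ (LinearMap.snd F V₁ V₂) (LinearMap.snd F V₁ V₂)

theorem prodB_apply (B₁ : V₁ →ₗ[F] V₁ →ₗ[F] F) (B₂ : V₂ →ₗ[F] V₂ →ₗ[F] F) (x y : V₁ × V₂) :
    prodB B₁ B₂ x y = B₁ x.1 y.1 + B₂ x.2 y.2 := rfl

theorem prodB_alt {B₁ : V₁ →ₗ[F] V₁ →ₗ[F] F} {B₂ : V₂ →ₗ[F] V₂ →ₗ[F] F} (h₁ : Alt B₁)
    (h₂ : Alt B₂) : Alt (prodB B₁ B₂) := by
  intro x
  rw [prodB_apply, h₁, h₂, add_zero]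

theorem prodB_nondeg {B₁ : V₁ →ₗ[F] V₁ →ₗ[F] F} {B₂ : V₂ →ₗ[F] V₂ →ₗ[F] F} (h₁ : Nondeg B₁)
    (h₂ : Nondeg B₂) : Nondeg (prodB B₁ B₂) := by
  intro x hx
  apply Prod.ext
  · apply h₁
    intro v
    have := hx (v, 0)
    rw [prodB_apply] at this
    simpa using this
  · apply h₂
    intro v
    have := hx (0, v)
    rw [prodB_apply] at this
    simpa using this

theorem prodB_inv {B₁ : V₁ →ₗ[F] V₁ →ₗ[F] F} {B₂ : V₂ →ₗ[F] V₂ →ₗ[F] F} {A₁ : Module.End F V₁}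
    {A₂ : Module.End F V₂} (h₁ : Inv B₁ A₁) (h₂ : Inv B₂ A₂) :
    Inv (prodB B₁ B₂) (LinearMap.prodMap A₁ A₂) := by
  intro x y
  rw [prodB_apply, prodB_apply]
  show B₁ (A₁ x.1) (A₁ y.1) + B₂ (A₂ x.2) (A₂ y.2) = _
  rw [h₁, h₂]

end prod

end Cfsg.Agent.Helper7.SpCP
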