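import Mathlib
import Cfsg.Agent.Helper7.SpCPC
import Cfsg.Agent.Helper8.SpStabMain

set_option autoImplicit false
set_option linter.unusedSectionVars false

/-! From an isometry of an abstract alternating space to a symplectic matrix (helper7). -/

namespace Cfsg.Agent.Helper7.SpCP

open Matrix Module Cfsg.Agent.Helper8.SpS Cfsg.Agent.Helper8.SpStab

variable {F : Type*} [Field F]

/-- the fixed vectors of a matrix. -/
def fixS {ι : Type*} [Fintype ι] [DecidableEq ι] (M : Matrix ι ι F) : Submodule F (ι → F) where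
  carrier := {v | M *ᵥ v = v}
  add_mem' := by
    intro a b ha hb
    show M *ᵥ (a + b) = a + b
    rw [mulVec_add, ha, hb]
  zero_mem' := mulVec_zero M
  smul_mem' := by
    intro c a ha
    show M *ᵥ (c • a) = c • a
    rw [mulVec_smul, ha]

theorem mem_fixS {ι : Type*} [Fintype ι] [DecidableEq ι] {M : Matrix ι ι F} {v : ι → F} :
    v ∈ fixS M ↔ M *ᵥ v = v := Iff.rfl

/-- the fixed vectors of an endomorphism. -/
def fixE {E : Type*} [AddCommGroup E] [Module F E] (φ : Module.End F E) : Submodule F E where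
  carrier := {v | φ v = v}
  add_mem' := by
    intro a b ha hb
    show φ (a + b) = a + b
    rw [map_add, ha, hb]
  zero_mem' := map_zero φ
  smul_mem' := by
    intro c a ha
    show φ (c • a) = c • a
    rw [map_smul, ha]

theorem mem_fixE {E : Type*} [AddCommGroup E] [Module F E] {φ : Module.End F E} {v : E} :
    v ∈ fixE φ ↔ φ v = v := Iff.rfl

universe u

/-- **an isometry of an alternating space as a symplectic matrix.** -/
theorem exists_symp_of_isometry {E : Type u} [AddCommGroup E] [Module F E] [FiniteDimensional F E]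
    (B : E →ₗ[F] E →ₗ[F] F) (hAlt : Alt B) (hND : Nondeg B) (φ : Module.End F E) (hφ : Inv B φ)
    (r d : ℕ) (hr : φ ^ r = 1) (hd : finrank F E = 2 * d) :
    ∃ x : symplecticGroup (Fin d) F, x ^ r = 1 ∧ (x = 1 → φ = 1) ∧
      finrank F (fixS (x : Matrix (Fin d ⊕ Fin d) (Fin d ⊕ Fin d) F)) = finrank F (fixE φ) := by
  obtain ⟨k, b, hb⟩ := exists_symp_basis B hAlt hND
  have hk : k = d := by
    have h1 := Module.finrank_eq_card_basis b
    rw [Fintype.card_sum, Fintype.card_fin] at h1
    omega
  subst hk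
  obtain ⟨M, hM⟩ : ∃ M, M = LinearMap.toMatrix b b φ := ⟨_, rfl⟩
  have hG : LinearMap.toMatrix₂ b b B = -J (Fin k) F := by
    ext x y
    rw [LinearMap.toMatrix₂_apply, hb, Jent_eq]
  have hcomp : B.compl₁₂ φ φ = B := by
    ext u v
    exact hφ u v
  have hmem : M ∈ symplecticGroup (Fin k) F := by
    rw [← neg_J_form_iff, ← hG, hM, ← LinearMap.toMatrix₂_compl₁₂ b b b b B φ φ, hcomp]
  have hpow : ∀ n : ℕ, LinearMap.toMatrix b b (φ ^ n) = M ^ n := by
    intro n
    induction n with
    | zero => rw [pow_zero, pow_zero, Module.End.one_eq_id, LinearMap.toMatrix_id]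
    | succ n ih => rw [pow_succ, pow_succ, LinearMap.toMatrix_mul, ih, hM]
  have hrepr : ∀ v : E, M *ᵥ (b.equivFun v) = b.equivFun (φ v) := by
    intro v
    rw [hM]
    exact LinearMap.toMatrix_mulVec_repr b b φ v
  refine ⟨⟨M, hmem⟩, ?_, ?_, ?_⟩
  · apply Subtype.ext
    rw [SubmonoidClass.coe_pow]
    show M ^ r = 1
    rw [← hpow, hr, Module.End.one_eq_id, LinearMap.toMatrix_id]
  · intro h1
    have h2 : M = 1 := congrArg Subtype.val h1
    apply (LinearMap.toMatrix b b).injective
    rw [← hM, h2, Module.End.one_eq_id, LinearMap.toMatrix_id]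
  · have hmap : (fixE φ).map (b.equivFun : E →ₗ[F] (Fin k ⊕ Fin k → F)) = fixS M := by
      ext w
      constructor
      · rintro ⟨v, hv, rfl⟩
        show M *ᵥ (b.equivFun v) = b.equivFun v
        rw [hrepr, mem_fixE.mp hv]
      · intro hw
        refine ⟨b.equivFun.symm w, ?_, LinearEquiv.apply_symm_apply _ _⟩
        show φ (b.equivFun.symm w) = b.equivFun.symm w
        apply b.equivFun.injective
        rw [← hrepr, LinearEquiv.apply_symm_apply]
        exact hw
    show finrank F (fixS M) = _
    rw [← hmap]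
    exact LinearEquiv.finrank_map_eq b.equivFun (fixE φ)

end Cfsg.Agent.Helper7.SpCP
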