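import Mathlib
import Cfsg.Agent.Helper8.SpSSympIso
import Cfsg.Agent.Helper7.POrdB

set_option autoImplicit false
set_option linter.unusedSectionVars false
set_option linter.unusedVariables false

/-!
Nondegenerate subspaces for a reflexive bilinear form; alternating forms; isometries of finite order.
-/

namespace Cfsg.Agent.Helper7.SpOrd

open Module Cfsg.Agent.Helper7.POrd

variable {F : Type*} [Field F] {V : Type*} [AddCommGroup V] [Module F V]

/-- `W` is nondegenerate for `B`. -/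
def ND (B : LinearMap.BilinForm F V) (W : Submodule F V) : Prop :=
  ∀ u ∈ W, u ≠ 0 → ∃ v ∈ W, B u v ≠ 0

/-- `W` is totally isotropic for `B`. -/
def TI (B : LinearMap.BilinForm F V) (W : Submodule F V) : Prop :=
  ∀ u ∈ W, ∀ v ∈ W, B u v = 0

theorem nd_bot (B : LinearMap.BilinForm F V) : ND B ⊥ := by
  intro u hu hne
  exact absurd ((Submodule.mem_bot F).mp hu) hne

theorem ti_bot (B : LinearMap.BilinForm F V) : TI B ⊥ := by
  intro u hu v hv
  rw [(Submodule.mem_bot F).mp hu, map_zero, LinearMap.zero_apply]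

theorem mem_perp {B : LinearMap.BilinForm F V} {W : Submodule F V} {v : V} :
    v ∈ B.orthogonal W ↔ ∀ w ∈ W, B w v = 0 := Iff.rfl

theorem nd_iff_disjoint {B : LinearMap.BilinForm F V} (hB : B.IsRefl) {W : Submodule F V} :
    ND B W ↔ Disjoint W (B.orthogonal W) := by
  rw [Submodule.disjoint_def]
  constructor
  · intro h u hu hu'
    by_contra hne
    obtain ⟨v, hv, hv'⟩ := h u hu hne
    exact hv' (hB _ _ (mem_perp.mp hu' v hv))
  · intro h u hu hne
    by_contra hcon
    push_neg at hcon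
    apply hne
    apply h u hu
    rw [mem_perp]
    intro v hv
    exact hB _ _ (hcon v hv)

theorem isCompl_perp [FiniteDimensional F V] {B : LinearMap.BilinForm F V} (hB : B.IsRefl)
    {W : Submodule F V} (hW : ND B W) : IsCompl W (B.orthogonal W) :=
  (LinearMap.BilinForm.isCompl_orthogonal_iff_disjoint hB).mpr ((nd_iff_disjoint hB).mp hW)

/-- the relative orthogonal complement. -/
theorem sup_perp_inf [FiniteDimensional F V] {B : LinearMap.BilinForm F V} (hB : B.IsRefl)
    {U W : Submodule F V} (hU : ND B U) (hUW : U ≤ W) : U ⊔ (B.orthogonal U ⊓ W) = W := by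
  rw [← sup_inf_assoc_of_le _ hUW, (isCompl_perp hB hU).sup_eq_top, top_inf_eq]

theorem disjoint_perp_inf {B : LinearMap.BilinForm F V} (hB : B.IsRefl)
    {U W : Submodule F V} (hU : ND B U) : Disjoint U (B.orthogonal U ⊓ W) :=
  ((nd_iff_disjoint hB).mp hU).mono_right inf_le_left

theorem finrank_perp_inf [FiniteDimensional F V] {B : LinearMap.BilinForm F V} (hB : B.IsRefl)
    {U W : Submodule F V} (hU : ND B U) (hUW : U ≤ W) :
    finrank F ↥U + finrank F ↥(B.orthogonal U ⊓ W) = finrank F ↥W := by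
  have h := Submodule.finrank_sup_add_finrank_inf_eq U (B.orthogonal U ⊓ W)
  rw [sup_perp_inf hB hU hUW, (disjoint_perp_inf hB hU).eq_bot, finrank_bot, add_zero] at h
  exact h.symm

theorem nd_perp_inf [FiniteDimensional F V] {B : LinearMap.BilinForm F V} (hB : B.IsRefl)
    {U W : Submodule F V} (hU : ND B U) (hW : ND B W) (hUW : U ≤ W) : ND B (B.orthogonal U ⊓ W) := by
  intro u hu hne
  obtain ⟨w, hw, hw'⟩ := hW u hu.2 hne
  have hw2 : w ∈ U ⊔ (B.orthogonal U ⊓ W) := by rw [sup_perp_inf hB hU hUW]; exact hw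
  obtain ⟨w₁, hw₁, w₂, hw₂, rfl⟩ := Submodule.mem_sup.mp hw2
  refine ⟨w₂, hw₂, ?_⟩
  intro h0
  apply hw'
  rw [map_add, h0, add_zero]
  exact hB _ _ (mem_perp.mp hu.1 w₁ hw₁)

theorem nd_sup {B : LinearMap.BilinForm F V} (hB : B.IsRefl) {U₁ U₂ : Submodule F V} (h₁ : ND B U₁)
    (h₂ : ND B U₂) (h12 : U₂ ≤ B.orthogonal U₁) : ND B (U₁ ⊔ U₂) := by
  intro u hu hne
  obtain ⟨u₁, hu₁, u₂, hu₂, rfl⟩ := Submodule.mem_sup.mp hu
  by_cases h0 : u₁ = 0
  · have hu2 : u₂ ≠ 0 := by
      intro h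
      apply hne
      rw [h0, h, add_zero]
    obtain ⟨v, hv, hv'⟩ := h₂ u₂ hu₂ hu2
    refine ⟨v, Submodule.mem_sup_right hv, ?_⟩
    rw [h0, zero_add]
    exact hv'
  · obtain ⟨v, hv, hv'⟩ := h₁ u₁ hu₁ h0
    refine ⟨v, Submodule.mem_sup_left hv, ?_⟩
    rw [map_add, LinearMap.add_apply, hB _ _ (mem_perp.mp (h12 hu₂) v hv), add_zero]
    exact hv'

theorem disjoint_of_le_perp {B : LinearMap.BilinForm F V} (hB : B.IsRefl) {U₁ U₂ : Submodule F V}
    (h₁ : ND B U₁) (h12 : U₂ ≤ B.orthogonal U₁) : Disjoint U₁ U₂ :=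
  ((nd_iff_disjoint hB).mp h₁).mono_right h12

theorem finrank_sup_of_le_perp [FiniteDimensional F V] {B : LinearMap.BilinForm F V} (hB : B.IsRefl)
    {U₁ U₂ : Submodule F V} (h₁ : ND B U₁) (h12 : U₂ ≤ B.orthogonal U₁) :
    finrank F ↥(U₁ ⊔ U₂) = finrank F ↥U₁ + finrank F ↥U₂ := by
  have h := Submodule.finrank_sup_add_finrank_inf_eq U₁ U₂
  rw [(disjoint_of_le_perp hB h₁ h12).eq_bot, finrank_bot, add_zero] at h
  exact h

/-- a nondegenerate subspace for an alternating form has even dimension. -/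
theorem even_finrank_of_nd [FiniteDimensional F V] {B : LinearMap.BilinForm F V} (hB : B.IsAlt)
    {W : Submodule F V} (hW : ND B W) : Even (finrank F ↥W) := by
  obtain ⟨B', hB'⟩ : ∃ B' : ↥W →ₗ[F] ↥W →ₗ[F] F, B' = B.compl₁₂ W.subtype W.subtype := ⟨_, rfl⟩
  have happ : ∀ a b : ↥W, B' a b = B (a : V) (b : V) := by
    intro a b
    rw [hB']
    rfl
  have hAlt : Cfsg.Agent.Helper8.SpS.Alt B' := fun a => by rw [happ]; exact hB _
  have hND : Cfsg.Agent.Helper8.SpS.Nondeg B' := by
    intro u hu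
    by_contra hne
    have hne' : (u : V) ≠ 0 := fun h => hne (Subtype.ext h)
    obtain ⟨v, hv, hv'⟩ := hW u u.2 hne'
    apply hv'
    have := hu ⟨v, hv⟩
    rw [happ] at this
    exact this
  obtain ⟨k, b, -⟩ := Cfsg.Agent.Helper8.SpS.exists_symp_basis B' hAlt hND
  have h1 := Module.finrank_eq_card_basis b
  rw [Fintype.card_sum, Fintype.card_fin] at h1
  exact ⟨k, h1⟩

/-- a hyperbolic plane inside a nonzero nondegenerate subspace. -/
theorem exists_plane [FiniteDimensional F V] {B : LinearMap.BilinForm F V} (hB : B.IsAlt)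
    {W : Submodule F V} (hW : ND B W) (hne : W ≠ ⊥) :
    ∃ P : Submodule F V, P ≤ W ∧ ND B P ∧ finrank F ↥P = 2 ∧
      ∃ L : Submodule F V, L ≤ P ∧ TI B L ∧ finrank F ↥L = 1 := by
  classical
  obtain ⟨u, huW, hu0⟩ := Submodule.exists_mem_ne_zero_of_ne_bot hne
  obtain ⟨v, hvW, huv⟩ := hW u huW hu0
  have hvu : B v u ≠ 0 := by
    rw [← LinearMap.IsAlt.neg hB u v]
    exact neg_ne_zero.mpr huv
  have hP : ND B (Submodule.span F {u, v}) := by
    intro x hx hx0
    obtain ⟨α, β, rfl⟩ := Submodule.mem_span_pair.mp hx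
    by_cases hα : α = 0
    · have hβ : β ≠ 0 := by
        intro h
        apply hx0
        rw [hα, h, zero_smul, zero_smul, add_zero]
      refine ⟨u, Submodule.subset_span (by simp), ?_⟩
      rw [map_add, LinearMap.add_apply, map_smul, map_smul, LinearMap.smul_apply, LinearMap.smul_apply, hB u,
        smul_zero, zero_add, smul_eq_mul]
      exact mul_ne_zero hβ hvu
    · refine ⟨v, Submodule.subset_span (by simp), ?_⟩
      rw [map_add, LinearMap.add_apply, map_smul, map_smul, LinearMap.smul_apply, LinearMap.smul_apply, hB v,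
        smul_zero, add_zero, smul_eq_mul]
      exact mul_ne_zero hα huv
  have hle : Submodule.span F {u, v} ≤ W := by
    rw [Submodule.span_le]
    intro x hx
    rcases hx with rfl | rfl
    · exact huW
    · exact hvW
  have hev := even_finrank_of_nd hB hP
  have h2 : finrank F ↥(Submodule.span F {u, v}) ≤ 2 := by
    have h := finrank_span_le_card (R := F) ({u, v} : Set V)
    have h3 : ({u, v} : Set V).toFinset.card ≤ 2 := by
      have : ({u, v} : Set V).toFinset = {u, v} := by ext; simp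
      rw [this]
      exact Finset.card_le_two
    omega
  have hpos : 0 < finrank F ↥(Submodule.span F {u, v}) := by
    rw [Module.finrank_pos_iff_exists_ne_zero]
    exact ⟨⟨u, Submodule.subset_span (by simp)⟩, fun h => hu0 (congrArg Subtype.val h)⟩
  refine ⟨_, hle, hP, ?_, Submodule.span F {u}, ?_, ?_, finrank_span_singleton hu0⟩
  · obtain ⟨k, hk⟩ := hev
    omega
  · apply Submodule.span_mono
    simp
  · intro x hx y hy
    obtain ⟨a, rfl⟩ := Submodule.mem_span_singleton.mp hx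
    obtain ⟨b, rfl⟩ := Submodule.mem_span_singleton.mp hy
    rw [map_smul, map_smul, LinearMap.smul_apply, hB u, smul_zero, smul_zero]

/-- nondegenerate subspaces of every even dimension, each with a totally isotropic half. -/
theorem exists_nd_sub [FiniteDimensional F V] {B : LinearMap.BilinForm F V} (hB : B.IsAlt)
    {W : Submodule F V} (hW : ND B W) (k : ℕ) (hk : 2 * k ≤ finrank F ↥W) :
    ∃ U : Submodule F V, U ≤ W ∧ ND B U ∧ finrank F ↥U = 2 * k ∧
      ∃ L : Submodule F V, L ≤ U ∧ TI B L ∧ finrank F ↥L = k := by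
  induction k with
  | zero => exact ⟨⊥, bot_le, nd_bot B, by simp, ⊥, le_rfl, ti_bot B, by simp⟩
  | succ k ih =>
    obtain ⟨U, hUW, hU, hUd, L, hLU, hL, hLd⟩ := ih (by omega)
    have hd := finrank_perp_inf hB.isRefl hU hUW
    have hne : B.orthogonal U ⊓ W ≠ ⊥ := by
      intro h
      rw [h, finrank_bot] at hd
      omega
    obtain ⟨P, hPle, hP, hPd, L', hL'P, hL', hL'd⟩ := exists_plane hB (nd_perp_inf hB.isRefl hU hW hUW) hne
    have hPU : P ≤ B.orthogonal U := hPle.trans inf_le_left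
    refine ⟨U ⊔ P, sup_le hUW (hPle.trans inf_le_right), nd_sup hB.isRefl hU hP hPU, ?_, L ⊔ L',
      sup_le_sup hLU hL'P, ?_, ?_⟩
    · rw [finrank_sup_of_le_perp hB.isRefl hU hPU, hUd, hPd]; ring
    · intro x hx y hy
      obtain ⟨x₁, hx₁, x₂, hx₂, rfl⟩ := Submodule.mem_sup.mp hx
      obtain ⟨y₁, hy₁, y₂, hy₂, rfl⟩ := Submodule.mem_sup.mp hy
      have e1 : B x₁ y₂ = 0 := mem_perp.mp (hPU (hL'P hy₂)) x₁ (hLU hx₁)
      have e2 : B x₂ y₁ = 0 := hB.isRefl _ _ (mem_perp.mp (hPU (hL'P hx₂)) y₁ (hLU hy₁))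
      rw [map_add, map_add, LinearMap.add_apply, LinearMap.add_apply, hL x₁ hx₁ y₁ hy₁, hL' x₂ hx₂ y₂ hy₂, e1, e2]
      simp
    · have hdisj : Disjoint L L' :=
        (disjoint_of_le_perp hB.isRefl hU hPU).mono hLU hL'P
      have h := Submodule.finrank_sup_add_finrank_inf_eq L L'
      rw [hdisj.eq_bot, finrank_bot, add_zero] at h
      rw [h, hLd, hL'd]

/-- the orthogonal complement of an invariant subspace is invariant, for an isometry of finite order. -/
theorem perp_invt {B : LinearMap.BilinForm F V} {T : Module.End F V} (hT : ∀ u v, B (T u) (T v) = B u v)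
    {r : ℕ} (hr : 0 < r) (hTr : T ^ r = 1) {U : Submodule F V} (hU : U ∈ Module.End.invtSubmodule T) :
    B.orthogonal U ∈ Module.End.invtSubmodule T := by
  rw [Module.End.mem_invtSubmodule]
  intro v hv
  rw [Submodule.mem_comap, mem_perp]
  intro u hu
  have h1 : u = T ((T ^ (r - 1)) u) := by
    rw [← Module.End.mul_apply, ← pow_succ', Nat.sub_add_cancel hr, hTr, Module.End.one_apply]
  rw [h1, hT]
  exact mem_perp.mp hv _ (invt_pow_apply hU hu _)

end Cfsg.Agent.Helper7.SpOrd
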