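import Mathlib
import Cfsg.Agent.Helper7.SpOrdA
import Cfsg.Agent.Helper7.POrdD

set_option autoImplicit false
set_option linter.unusedSectionVars false
set_option linter.unusedVariables false

/-!
Isometries of prime order: the adjoint, the Frobenius twist, the fixed and the moved space.
-/

namespace Cfsg.Agent.Helper7.SpOrd

open Module Polynomial Cfsg.Agent.Helper7.POrd

variable {F : Type*} [Field F] {V : Type*} [AddCommGroup V] [Module F V]

theorem expand_card_pow [Fintype F] (f : F[X]) (s : ℕ) :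
    expand F (Fintype.card F ^ s) f = f ^ (Fintype.card F ^ s) := by
  induction s with
  | zero => simp
  | succ s ih =>
    rw [pow_succ, expand_mul, FiniteField.expand_card, map_pow, ih, ← pow_mul]

theorem aeval_pow_card_pow [Fintype F] {A : Type*} [Ring A] [Algebra F A] (τ : A) (f : F[X]) (s : ℕ) :
    aeval (τ ^ (Fintype.card F ^ s)) f = (aeval τ f) ^ (Fintype.card F ^ s) := by
  rw [← expand_aeval, expand_card_pow, map_pow]

theorem pow_eq_inv_of_dvd {T : Module.End F V} {r : ℕ} (hr : 0 < r) (hTr : T ^ r = 1) {Q : ℕ}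
    (hQ : r ∣ Q + 1) : T ^ Q = T ^ (r - 1) := by
  obtain ⟨k, hk⟩ := hQ
  have h1 : T ^ Q * T = 1 := by rw [← pow_succ, hk, pow_mul, hTr, one_pow]
  have h2 : T * T ^ (r - 1) = 1 := by rw [← pow_succ', Nat.sub_add_cancel hr, hTr]
  calc T ^ Q = T ^ Q * (T * T ^ (r - 1)) := by rw [h2, mul_one]
    _ = (T ^ Q * T) * T ^ (r - 1) := by rw [mul_assoc]
    _ = T ^ (r - 1) := by rw [h1, one_mul]

/-- **the Frobenius twist**: if `r ∣ q ^ s + 1`, a vector killed by `f(T)` is killed by `f(T⁻¹)`. -/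
theorem aeval_inv_of_aeval [Fintype F] {T : Module.End F V} {r : ℕ} (hr : 0 < r) (hTr : T ^ r = 1) {s : ℕ}
    (hQ : r ∣ Fintype.card F ^ s + 1) {f : F[X]} {u : V} (h : aeval T f u = 0) :
    aeval (T ^ (r - 1)) f u = 0 := by
  rw [← pow_eq_inv_of_dvd hr hTr hQ, aeval_pow_card_pow]
  have hpos : 0 < Fintype.card F ^ s := pow_pos Fintype.card_pos s
  obtain ⟨n, hn⟩ : ∃ n, Fintype.card F ^ s = n + 1 := ⟨Fintype.card F ^ s - 1, by omega⟩
  rw [hn, pow_succ, Module.End.mul_apply, h, map_zero]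

section iso

variable {B : LinearMap.BilinForm F V} {T : Module.End F V}

theorem iso_pow (hT : ∀ u v, B (T u) (T v) = B u v) (n : ℕ) (u v : V) : B ((T ^ n) u) ((T ^ n) v) = B u v := by
  induction n with
  | zero => simp
  | succ n ih => rw [pow_succ', Module.End.mul_apply, Module.End.mul_apply, hT, ih]

theorem adj_one (hT : ∀ u v, B (T u) (T v) = B u v) {r : ℕ} (hr : 0 < r) (hTr : T ^ r = 1) (u v : V) :
    B (T u) v = B u ((T ^ (r - 1)) v) := by
  have h2 : v = T ((T ^ (r - 1)) v) := by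
    rw [← Module.End.mul_apply, ← pow_succ', Nat.sub_add_cancel hr, hTr, Module.End.one_apply]
  conv_lhs => rw [h2]
  rw [hT]

theorem adj_pow (hT : ∀ u v, B (T u) (T v) = B u v) {r : ℕ} (hr : 0 < r) (hTr : T ^ r = 1) (n : ℕ) (u v : V) :
    B ((T ^ n) u) v = B u (((T ^ (r - 1)) ^ n) v) := by
  induction n generalizing u v with
  | zero => simp
  | succ n ih =>
    rw [pow_succ', Module.End.mul_apply, adj_one hT hr hTr, ih, pow_succ, Module.End.mul_apply]

/-- **the adjoint of a polynomial in an isometry.** -/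
theorem adj_aeval (hT : ∀ u v, B (T u) (T v) = B u v) {r : ℕ} (hr : 0 < r) (hTr : T ^ r = 1) (f : F[X])
    (u v : V) : B (aeval T f u) v = B u (aeval (T ^ (r - 1)) f v) := by
  induction f using Polynomial.induction_on' with
  | add f g hf hg =>
    rw [map_add, map_add, LinearMap.add_apply, LinearMap.add_apply, map_add, LinearMap.add_apply, map_add, hf, hg]
  | monomial n c =>
    rw [aeval_monomial, aeval_monomial, Module.End.mul_apply, Module.End.mul_apply, Module.algebraMap_end_apply,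
      Module.algebraMap_end_apply, map_smul, map_smul, LinearMap.smul_apply, adj_pow hT hr hTr]

/-- the fixed space is orthogonal to the moved space. -/
theorem fix_perp_mov (hT : ∀ u v, B (T u) (T v) = B u v) {r : ℕ} (hrF : (r : F) ≠ 0) {u v : V}
    (hu : u ∈ fixS T) (hv : v ∈ movS r T) : B u v = 0 := by
  have h1 : B u (Phi r T v) = (r : F) * B u v := by
    unfold Phi
    rw [LinearMap.sum_apply, map_sum]
    have : ∀ t ∈ Finset.range r, B u ((T ^ t) v) = B u v := by
      intro t _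
      conv_lhs => rw [← pow_apply_of_fixed (mem_fixS.mp hu) t]
      exact iso_pow hT t u v
    rw [Finset.sum_congr rfl this, Finset.sum_const, Finset.card_range, nsmul_eq_mul]
  rw [mem_movS.mp hv, map_zero] at h1
  exact (mul_eq_zero.mp h1.symm).resolve_left hrF

theorem nd_inf_fix (hB : B.IsRefl) (hT : ∀ u v, B (T u) (T v) = B u v) {r : ℕ} (hrF : (r : F) ≠ 0)
    (hTr : T ^ r = 1) {W : Submodule F V} (hW : W ∈ Module.End.invtSubmodule T) (hND : ND B W) :
    ND B (W ⊓ fixS T) := by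
  intro u hu hne
  obtain ⟨w, hw, hw'⟩ := hND u hu.1 hne
  rw [invt_decomp hrF hTr hW] at hw
  obtain ⟨w₁, hw₁, w₂, hw₂, rfl⟩ := Submodule.mem_sup.mp hw
  refine ⟨w₁, hw₁, ?_⟩
  intro h0
  apply hw'
  rw [map_add, h0, zero_add]
  exact fix_perp_mov hT hrF hu.2 hw₂.2

theorem nd_inf_mov (hB : B.IsRefl) (hT : ∀ u v, B (T u) (T v) = B u v) {r : ℕ} (hrF : (r : F) ≠ 0)
    (hTr : T ^ r = 1) {W : Submodule F V} (hW : W ∈ Module.End.invtSubmodule T) (hND : ND B W) :
    ND B (W ⊓ movS r T) := by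
  intro u hu hne
  obtain ⟨w, hw, hw'⟩ := hND u hu.1 hne
  rw [invt_decomp hrF hTr hW] at hw
  obtain ⟨w₁, hw₁, w₂, hw₂, rfl⟩ := Submodule.mem_sup.mp hw
  refine ⟨w₂, hw₂, ?_⟩
  intro h0
  apply hw'
  rw [map_add, h0, add_zero]
  exact hB _ _ (fix_perp_mov hT hrF hw₁.2 hu.2)

theorem inf_invt {W W' : Submodule F V} (hW : W ∈ Module.End.invtSubmodule T)
    (hW' : W' ∈ Module.End.invtSubmodule T) : W ⊓ W' ∈ Module.End.invtSubmodule T :=
  Module.End.invtSubmodule.inf_mem hW hW'

theorem sup_invt {W W' : Submodule F V} (hW : W ∈ Module.End.invtSubmodule T)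
    (hW' : W' ∈ Module.End.invtSubmodule T) : W ⊔ W' ∈ Module.End.invtSubmodule T :=
  Module.End.invtSubmodule.sup_mem hW hW'

end iso

end Cfsg.Agent.Helper7.SpOrd
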