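import Mathlib
import Cfsg.Agent.Helper7.SpOrdB
import Cfsg.Agent.Helper7.POrdE

set_option autoImplicit false
set_option linter.unusedSectionVars false
set_option linter.unusedVariables false

/-!
Irreducible invariant subspaces of an isometry of prime order.
-/

namespace Cfsg.Agent.Helper7.SpOrd

open Module Polynomial Cfsg.Agent.Helper7.POrd

variable {F : Type*} [Field F] [Fintype F] {V : Type*} [AddCommGroup V] [Module F V] [Finite V]
  {p : ℕ} [Fact p.Prime] [CharP F p] {r : ℕ} [Fact r.Prime]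

/-- an irreducible factor of `X ^ r - 1` of degree the order of `q` modulo `r` killing a nonzero vector. -/
theorem exists_irred_vec (hrp : r ≠ p) {T : Module.End F V} (hT : T ^ r = 1) {W : Submodule F V}
    (hW : W ∈ Module.End.invtSubmodule T) (hfix : W ⊓ fixS T = ⊥) (hne : W ≠ ⊥) :
    ∃ g : F[X], Irreducible g ∧ g ∣ (X ^ r - 1 : F[X]) ∧
      g.natDegree = orderOf ((Fintype.card F : ℕ) : ZMod r) ∧ ∃ v ∈ W, v ≠ 0 ∧ aeval T g v = 0 := by
  classical
  obtain ⟨w, hwW, hw0⟩ := Submodule.exists_mem_ne_zero_of_ne_bot hne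
  have hf0 : (X ^ r - 1 : F[X]) ≠ 0 := by
    apply Monic.ne_zero
    exact monic_X_pow_sub_C (1 : F) (Fact.out : r.Prime).ne_zero
  have hfw : aeval T (X ^ r - 1 : F[X]) w = 0 := by
    rw [map_sub, map_pow, aeval_X, map_one, hT, sub_self, LinearMap.zero_apply]
  obtain ⟨g, h, hg, hdvd, hv0, hgv⟩ := exists_irred_ker T _ _ rfl hf0 w hw0 hfw
  have hvW : aeval T h w ∈ W := invt_aeval_apply hW h hwW
  have hgc : g ∣ cyclotomic r F := by
    have hdvd' := hdvd
    rw [← cyclotomic_prime_mul_X_sub_one F r] at hdvd'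
    rcases hg.prime.dvd_or_dvd hdvd' with h1 | ⟨u, hu⟩
    · exact h1
    · exfalso
      have h2 : aeval T (X - 1 : F[X]) (aeval T h w) = 0 := by
        rw [hu, mul_comm, map_mul, Module.End.mul_apply, hgv, map_zero]
      rw [map_sub, aeval_X, map_one, ← LinearMap.mem_ker] at h2
      have h3 : aeval T h w ∈ W ⊓ fixS T := ⟨hvW, h2⟩
      rw [hfix, Submodule.mem_bot] at h3
      exact hv0 h3
  obtain ⟨⟨f, hfpos⟩, -, hcard⟩ := FiniteField.card F p
  have hcard : Fintype.card F = p ^ f := hcard
  have hcop : p.Coprime r := by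
    rw [Nat.coprime_primes Fact.out Fact.out]
    exact fun h => hrp h.symm
  have hdeg := natDegree_of_dvd_cyclotomic_of_irreducible (K := F) (p := p) (f := f) (n := r) hcard hcop hgc hg
  have hord : orderOf (ZMod.unitOfCoprime (p ^ f) (hcop.pow_left f) : (ZMod r)ˣ) =
      orderOf ((Fintype.card F : ℕ) : ZMod r) := by
    rw [← orderOf_units, ZMod.coe_unitOfCoprime, hcard]
  rw [hord] at hdeg
  exact ⟨g, hg, hdvd, hdeg, _, hvW, hv0, hgv⟩

/-- an invariant subspace without fixed vectors, of dimension the order of `q`, is irreducible. -/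
theorem irred_of_finrank {T : Module.End F V} (hT : T ^ r = 1) {M : Submodule F V}
    (hfix : M ⊓ fixS T = ⊥) (hdim : finrank F ↥M = orderOf ((Fintype.card F : ℕ) : ZMod r))
    {U : Submodule F V} (hU : U ∈ Module.End.invtSubmodule T) (hUM : U ≤ M) : U = ⊥ ∨ U = M := by
  have hfixU : U ⊓ fixS T = ⊥ := by
    rw [eq_bot_iff, ← hfix]
    exact inf_le_inf_right _ hUM
  have h1 := orderOf_dvd_finrank hT hU hfixU
  have h2 : finrank F ↥U ≤ finrank F ↥M := Submodule.finrank_mono hUM
  obtain ⟨k, hk⟩ := h1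
  rcases Nat.eq_zero_or_pos k with h0 | hpos
  · left
    rw [h0, mul_zero] at hk
    exact Submodule.finrank_eq_zero.mp hk
  · right
    apply Submodule.eq_of_le_of_finrank_le hUM
    rw [hdim, hk]
    exact Nat.le_mul_of_pos_right _ hpos

theorem nd_or_ti {B : LinearMap.BilinForm F V} (hB : B.IsRefl) {T : Module.End F V}
    (hiso : ∀ u v, B (T u) (T v) = B u v) (hT : T ^ r = 1) {M : Submodule F V}
    (hM : M ∈ Module.End.invtSubmodule T)
    (hfix : M ⊓ fixS T = ⊥) (hdim : finrank F ↥M = orderOf ((Fintype.card F : ℕ) : ZMod r)) :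
    ND B M ∨ M ≤ B.orthogonal M := by
  have hr : 0 < r := (Fact.out : r.Prime).pos
  have hinv : M ⊓ B.orthogonal M ∈ Module.End.invtSubmodule T := inf_invt hM (perp_invt hiso hr hT hM)
  rcases irred_of_finrank hT hfix hdim hinv (inf_le_left : M ⊓ B.orthogonal M ≤ M) with h | h
  · left
    rw [nd_iff_disjoint hB, disjoint_iff]
    exact h
  · right
    have h' : M ⊓ B.orthogonal M ≤ B.orthogonal M := inf_le_right
    rwa [h] at h'

theorem ker_aeval_invt (T : Module.End F V) (g : F[X]) :
    LinearMap.ker (aeval T g) ∈ Module.End.invtSubmodule T := by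
  rw [Module.End.mem_invtSubmodule]
  intro v hv
  rw [Submodule.mem_comap, LinearMap.mem_ker]
  have h1 : aeval T g (T v) = T (aeval T g v) := by
    have hc := (commute_X g).map (aeval T)
    rw [aeval_X] at hc
    rw [← Module.End.mul_apply, ← hc.eq, Module.End.mul_apply]
  rw [h1, LinearMap.mem_ker.mp hv, map_zero]

/-- the kernel of a self-dual factor is nondegenerate inside a nondegenerate invariant subspace. -/
theorem nd_inf_ker (hrp : r ≠ p) {B : LinearMap.BilinForm F V} (hB : B.IsRefl) {T : Module.End F V}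
    (hiso : ∀ u v, B (T u) (T v) = B u v) (hT : T ^ r = 1) {W : Submodule F V}
    (hW : W ∈ Module.End.invtSubmodule T) (hND : ND B W) {g : F[X]} (hg : g ∣ (X ^ r - 1 : F[X]))
    (hself : ∀ u : V, aeval T g u = 0 → aeval (T ^ (r - 1)) g u = 0) :
    ND B (W ⊓ LinearMap.ker (aeval T g)) := by
  have hr : 0 < r := (Fact.out : r.Prime).pos
  obtain ⟨g', hg'⟩ := hg
  have hsep : (X ^ r - 1 : F[X]).Separable := by
    have := separable_X_pow_sub_C (1 : F) (natCast_ne_zero_of_ne (F := F) hrp) one_ne_zero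
    rwa [map_one] at this
  have hcop : IsCoprime g g' := by
    rw [hg'] at hsep
    exact hsep.isCoprime
  obtain ⟨a, b, hab⟩ := hcop
  intro u hu hne
  by_contra hcon
  push Not at hcon
  obtain ⟨w, hw, hw'⟩ := hND u hu.1 hne
  apply hw'
  have h1 : w = aeval T g (aeval T a w) + aeval T (b * g') w := by
    have : w = aeval T (a * g + b * g') w := by rw [hab, map_one, Module.End.one_apply]
    conv_lhs => rw [this]
    rw [map_add, LinearMap.add_apply, mul_comm a g, map_mul, Module.End.mul_apply]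
  have h2 : aeval T (b * g') w ∈ W ⊓ LinearMap.ker (aeval T g) := by
    refine Submodule.mem_inf.mpr ⟨invt_aeval_apply hW _ hw, ?_⟩
    rw [LinearMap.mem_ker, ← Module.End.mul_apply, ← map_mul]
    have : g * (b * g') = b * (X ^ r - 1) := by rw [hg']; ring
    rw [this, map_mul, map_sub, map_pow, aeval_X, map_one, hT, sub_self, mul_zero, LinearMap.zero_apply]
  have h3 : B u (aeval T g (aeval T a w)) = 0 := by
    apply hB
    rw [adj_aeval hiso hr hT, hself u (LinearMap.mem_ker.mp hu.2), map_zero]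
  rw [h1, map_add, h3, hcon _ h2, add_zero]

/-- a nonzero nondegenerate invariant subspace without fixed vectors contains `u` with `B u (T u) ≠ 0`. -/
theorem exists_not_ti_vec (hr2 : r ≠ 2) (hrp : r ≠ p) {B : LinearMap.BilinForm F V} (hB : B.IsAlt)
    {T : Module.End F V}
    (hiso : ∀ u v, B (T u) (T v) = B u v) (hT : T ^ r = 1) {W : Submodule F V}
    (hW : W ∈ Module.End.invtSubmodule T) (hND : ND B W) (hfix : W ⊓ fixS T = ⊥) (hne : W ≠ ⊥) :
    ∃ u ∈ W, B u (T u) ≠ 0 := by
  have hr : 0 < r := (Fact.out : r.Prime).pos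
  by_contra hcon
  push Not at hcon
  apply hne
  rw [eq_bot_iff]
  intro v hv
  rw [Submodule.mem_bot]
  have hT'v : (T ^ (r - 1)) v ∈ W := invt_pow_apply hW hv _
  have hTv : T v ∈ W := invt_apply hW hv
  have hdiff : T v - (T ^ (r - 1)) v ∈ W := Submodule.sub_mem _ hTv hT'v
  have h0 : T v - (T ^ (r - 1)) v = 0 := by
    by_contra hne0
    obtain ⟨u, hu, hu'⟩ := hND _ hdiff hne0
    apply hu'
    apply hB.isRefl
    have h1 := hcon (u + v) (Submodule.add_mem _ hu hv)
    rw [map_add, map_add, LinearMap.add_apply, map_add, map_add, hcon u hu, hcon v hv, zero_add, add_zero]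
      at h1
    have h2 : B v (T u) = - B u ((T ^ (r - 1)) v) := by
      rw [← LinearMap.IsAlt.neg hB (T u) v, adj_one hiso hr hT]
    rw [map_sub]
    rw [h2] at h1
    linear_combination h1
  -- T² v = v
  have h2 : T (T v) = v := by
    rw [sub_eq_zero] at h0
    rw [h0, ← Module.End.mul_apply, ← pow_succ', Nat.sub_add_cancel hr, hT, Module.End.one_apply]
  have hodd : Odd r := (Fact.out : r.Prime).odd_of_ne_two hr2
  obtain ⟨k, hk⟩ := hodd
  have h3 : ∀ n : ℕ, (T ^ (2 * n)) v = v := by
    intro n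
    induction n with
    | zero => simp
    | succ n ih =>
      rw [mul_add, mul_one, pow_add, Module.End.mul_apply, pow_two, Module.End.mul_apply, h2, ih]
  have h4 : T v = v := by
    have h5 : (T ^ r) v = v := by rw [hT, Module.End.one_apply]
    rw [hk, pow_succ', Module.End.mul_apply, h3] at h5
    exact h5
  have h6 : v ∈ W ⊓ fixS T := ⟨hv, mem_fixS.mpr h4⟩
  rw [hfix, Submodule.mem_bot] at h6
  exact h6

end Cfsg.Agent.Helper7.SpOrd
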