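import Mathlib
import Cfsg.Agent.Helper7.SpOrdD

set_option autoImplicit false
set_option linter.unusedSectionVars false
set_option linter.unusedVariables false

/-!
Orthogonal decompositions into invariant nondegenerate subspaces of equal dimension.
-/

namespace Cfsg.Agent.Helper7.SpOrd

open Module Polynomial Cfsg.Agent.Helper7.POrd

section general

variable {F : Type*} [Field F] {V : Type*} [AddCommGroup V] [Module F V]

/-- pairwise orthogonal nondegenerate subspaces are independent. -/
theorem indep_of_orth {B : LinearMap.BilinForm F V} (hB : B.IsRefl) {ι : Type*} (D : ι → Submodule F V)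
    (hND : ∀ j, ND B (D j)) (horth : ∀ j j', j ≠ j' → D j' ≤ B.orthogonal (D j)) : iSupIndep D := by
  intro i
  apply ((nd_iff_disjoint hB).mp (hND i)).mono_right
  apply iSup₂_le
  intro j hj
  exact horth i j (Ne.symm hj)

theorem cOf_even (i : ℕ) : Even (cOf i) := by
  unfold cOf
  split_ifs with h
  · exact h
  · exact even_two_mul i

end general

variable {F : Type*} [Field F] [Fintype F] {V : Type*} [AddCommGroup V] [Module F V] [Finite V]
  {p : ℕ} [Fact p.Prime] [CharP F p] {r : ℕ} [Fact r.Prime]

/-- **the decomposition.** -/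
theorem exists_decomp (hr2 : r ≠ 2) (hrp : r ≠ p) {B : LinearMap.BilinForm F V} (hB : B.IsAlt)
    {T : Module.End F V} (hiso : ∀ u v, B (T u) (T v) = B u v) (hT : T ^ r = 1) (a : ℕ) (hae : Even a) :
    ∀ (t : ℕ) (E : Submodule F V), E ∈ Module.End.invtSubmodule T → ND B E → finrank F ↥E = a * t →
      t * (a % cOf (orderOf ((Fintype.card F : ℕ) : ZMod r))) ≤ finrank F ↥(E ⊓ fixS T) →
      ∃ D : Fin t → Submodule F V, (∀ j, D j ≤ E) ∧ (∀ j, D j ∈ Module.End.invtSubmodule T) ∧
        (∀ j, ND B (D j)) ∧ (∀ j, finrank F ↥(D j) = a) ∧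
        (∀ j j', j ≠ j' → D j' ≤ B.orthogonal (D j)) ∧ (⨆ j, D j) = E := by
  have hfd : FiniteDimensional F V := Module.Finite.of_finite
  have hr : 0 < r := (Fact.out : r.Prime).pos
  have hrF : (r : F) ≠ 0 := natCast_ne_zero_of_ne hrp
  have hrefl := hB.isRefl
  obtain ⟨c, hc⟩ : ∃ c, c = cOf (orderOf ((Fintype.card F : ℕ) : ZMod r)) := ⟨_, rfl⟩
  have hcpos : 0 < c := by rw [hc]; exact cOf_pos (orderOf_q_pos (F := F) hrp)
  have hcev : Even c := by rw [hc]; exact cOf_even _
  rw [← hc]
  intro t
  induction t with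
  | zero =>
    intro E hE hND hdim _
    refine ⟨Fin.elim0, fun j => j.elim0, fun j => j.elim0, fun j => j.elim0, fun j => j.elim0,
      fun j => j.elim0, ?_⟩
    rw [mul_zero] at hdim
    rw [Submodule.finrank_eq_zero.mp hdim]
    simp
  | succ t ih =>
    intro E hE hND hdim hfixle
    -- the two parts of E
    have hE1 : ND B (E ⊓ fixS T) := nd_inf_fix hrefl hiso hrF hT hE hND
    have hE' : ND B (E ⊓ movS r T) := nd_inf_mov hrefl hiso hrF hT hE hND
    have hE'inv : E ⊓ movS r T ∈ Module.End.invtSubmodule T := inf_invt hE (movS_invt r T)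
    have hE'fix : (E ⊓ movS r T) ⊓ fixS T = ⊥ := by
      rw [eq_bot_iff]
      intro x hx
      have := (disjoint_fix_mov hrF T)
      rw [Submodule.disjoint_def] at this
      exact (Submodule.mem_bot F).mpr (this x hx.2 hx.1.2)
    have hsum := finrank_invt_decomp hrF hT hE
    obtain ⟨K, hK⟩ : c ∣ finrank F ↥(E ⊓ movS r T) := by
      rw [hc]
      exact cOf_dvd_finrank hr2 hrp hB hiso hT _ _ rfl hE'inv hE' hE'fix
    obtain ⟨s, hs⟩ : ∃ s, s = min K (a / c) := ⟨_, rfl⟩
    have hsK : s ≤ K := by rw [hs]; exact min_le_left _ _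
    have hsa : s ≤ a / c := by rw [hs]; exact min_le_right _ _
    have hdm := Nat.div_add_mod a c
    have hcs_le : c * s ≤ a := by
      have : c * s ≤ c * (a / c) := Nat.mul_le_mul_left c hsa
      omega
    have hcsK : c * s ≤ c * K := Nat.mul_le_mul_left c hsK
    -- the moved part of the new block
    obtain ⟨D', hD'le, hD'inv, hD'nd, hD'd⟩ :=
      exists_nd_mul hr2 hrp hB hiso hT s _ hE'inv hE' hE'fix (by rw [← hc, hK]; exact hcsK)
    rw [← hc] at hD'd
    -- the fixed part of the new block
    obtain ⟨k, hk⟩ : ∃ k, a - c * s = 2 * k := by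
      obtain ⟨a', ha'⟩ := hae
      obtain ⟨c', hc'⟩ := hcev
      refine ⟨a' - c' * s, ?_⟩
      rw [ha', hc']
      have : (c' + c') * s = c' * s + c' * s := by ring
      rw [this]
      have : c' * s + c' * s ≤ a' + a' := by rw [← this, ← hc', ← ha']; exact hcs_le
      omega
    have hkle : 2 * k ≤ finrank F ↥(E ⊓ fixS T) := by
      rw [← hk]
      rcases min_choice K (a / c) with h | h
      · -- s = K
        rw [h] at hs
        rw [hs]
        have : a ≤ a * (t + 1) := Nat.le_mul_of_pos_right a (by omega)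
        omega
      · rw [h] at hs
        rw [hs]
        have h1 : a - c * (a / c) = a % c := by omega
        rw [h1]
        have : a % c ≤ (t + 1) * (a % c) := Nat.le_mul_of_pos_left _ (by omega)
        omega
    obtain ⟨D₁, hD₁le, hD₁nd, hD₁d, -⟩ := exists_nd_sub hB hE1 k hkle
    have hD₁inv : D₁ ∈ Module.End.invtSubmodule T := invt_of_le_fixS (hD₁le.trans inf_le_right)
    have hperp : D' ≤ B.orthogonal D₁ := by
      intro v hv
      rw [mem_perp]
      intro u hu
      exact fix_perp_mov hiso hrF (hD₁le hu).2 (hD'le hv).2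
    have hDn_nd : ND B (D₁ ⊔ D') := nd_sup hrefl hD₁nd hD'nd hperp
    have hDn_inv : D₁ ⊔ D' ∈ Module.End.invtSubmodule T := sup_invt hD₁inv hD'inv
    have hDn_le : D₁ ⊔ D' ≤ E := sup_le (hD₁le.trans inf_le_left) (hD'le.trans inf_le_left)
    have hDn_d : finrank F ↥(D₁ ⊔ D') = a := by
      rw [finrank_sup_of_le_perp hrefl hD₁nd hperp, hD₁d, hD'd, ← hk]
      omega
    obtain ⟨hEm_inv, hEm_nd, hEm_d⟩ := perp_inf_props hB hiso hT hDn_inv hDn_nd hDn_le hE hND
    have hEm_dim : finrank F ↥(B.orthogonal (D₁ ⊔ D') ⊓ E) = a * t := by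
      rw [hDn_d, hdim, mul_add, mul_one] at hEm_d
      omega
    -- the fixed part of the rest
    have hEm_fix : t * (a % c) ≤ finrank F ↥((B.orthogonal (D₁ ⊔ D') ⊓ E) ⊓ fixS T) := by
      have h1 := finrank_invt_decomp hrF hT hEm_inv
      have h2 : finrank F ↥((B.orthogonal (D₁ ⊔ D') ⊓ E) ⊓ movS r T) ≤
          finrank F ↥(B.orthogonal D' ⊓ (E ⊓ movS r T)) := by
        apply Submodule.finrank_mono
        intro x hx
        exact ⟨LinearMap.BilinForm.orthogonal_le le_sup_right hx.1.1, hx.1.2, hx.2⟩
      have h3 := finrank_perp_inf hrefl hD'nd hD'le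
      rw [hD'd, hK] at h3
      rw [hEm_dim] at h1
      rcases min_choice K (a / c) with h | h
      · rw [h] at hs
        rw [hs] at h3
        have : t * (a % c) ≤ a * t := by
          rw [mul_comm a t]
          exact Nat.mul_le_mul_left t (Nat.mod_le a c)
        omega
      · rw [h] at hs
        rw [hs] at h3
        have e1 : (t + 1) * (a % c) = t * (a % c) + a % c := by ring
        have e2 : a * (t + 1) = a * t + a := by ring
        omega
    obtain ⟨Dm, hDm_le, hDm_inv, hDm_nd, hDm_d, hDm_orth, hDm_sup⟩ := ih _ hEm_inv hEm_nd hEm_dim hEm_fix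
    refine ⟨Fin.cons (D₁ ⊔ D') Dm, ?_, ?_, ?_, ?_, ?_, ?_⟩
    · intro j
      refine Fin.cases ?_ (fun j => ?_) j
      · rw [Fin.cons_zero]; exact hDn_le
      · rw [Fin.cons_succ]; exact (hDm_le j).trans inf_le_right
    · intro j
      refine Fin.cases ?_ (fun j => ?_) j
      · rw [Fin.cons_zero]; exact hDn_inv
      · rw [Fin.cons_succ]; exact hDm_inv j
    · intro j
      refine Fin.cases ?_ (fun j => ?_) j
      · rw [Fin.cons_zero]; exact hDn_nd
      · rw [Fin.cons_succ]; exact hDm_nd j
    · intro j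
      refine Fin.cases ?_ (fun j => ?_) j
      · rw [Fin.cons_zero]; exact hDn_d
      · rw [Fin.cons_succ]; exact hDm_d j
    · intro j j'
      refine Fin.cases ?_ (fun j => ?_) j
      · refine Fin.cases ?_ (fun j' => ?_) j'
        · intro h; exact absurd rfl h
        · intro _
          rw [Fin.cons_zero, Fin.cons_succ]
          exact (hDm_le j').trans inf_le_left
      · refine Fin.cases ?_ (fun j' => ?_) j'
        · intro _
          rw [Fin.cons_zero, Fin.cons_succ]
          intro u hu
          rw [mem_perp]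
          intro v hv
          exact hrefl _ _ (mem_perp.mp ((hDm_le j) hv).1 u hu)
        · intro h
          rw [Fin.cons_succ, Fin.cons_succ]
          exact hDm_orth j j' (fun h' => h (by rw [h']))
    · apply le_antisymm
      · apply iSup_le
        intro j
        refine Fin.cases ?_ (fun j => ?_) j
        · rw [Fin.cons_zero]; exact hDn_le
        · rw [Fin.cons_succ]; exact (hDm_le j).trans inf_le_right
      · rw [← sup_perp_inf hrefl hDn_nd hDn_le, ← hDm_sup]
        apply sup_le
        · have := le_iSup (Fin.cons (D₁ ⊔ D') Dm : Fin (t + 1) → Submodule F V) 0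
          rwa [Fin.cons_zero] at this
        · apply iSup_le
          intro j
          have := le_iSup (Fin.cons (D₁ ⊔ D') Dm : Fin (t + 1) → Submodule F V) j.succ
          rwa [Fin.cons_succ] at this

end Cfsg.Agent.Helper7.SpOrd
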