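import Mathlib
import Cfsg.Agent.Helper7.SpOrdE

set_option autoImplicit false
set_option linter.unusedSectionVars false
set_option linter.unusedVariables false

/-!
An isometry of prime order permuting the members of an orthogonal decomposition.
-/

namespace Cfsg.Agent.Helper7.SpOrd

open Module Polynomial Cfsg.Agent.Helper7.POrd

section perm

theorem perm_pow_fix {α : Type*} (τ : Equiv.Perm α) {x : α} (h : τ x = x) (m : ℕ) : (τ ^ m) x = x := by
  induction m with
  | zero => simp
  | succ m ih => rw [pow_succ, Equiv.Perm.mul_apply, h, ih]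

theorem perm_fix_of_coprime {α : Type*} (σ : Equiv.Perm α) {x : α} {k r : ℕ} (hr : 1 < r)
    (hcop : Nat.Coprime k r) (hk : (σ ^ k) x = x) (hr' : (σ ^ r) x = x) : σ x = x := by
  obtain ⟨m, -, hm⟩ := Nat.exists_mul_mod_eq_one_of_coprime hcop hr
  have h1 : (σ ^ (k * m)) x = x := by
    rw [pow_mul]
    exact perm_pow_fix _ hk m
  have h2 : k * m = r * (k * m / r) + 1 := by
    have := Nat.div_add_mod (k * m) r
    omega
  rw [h2, pow_succ', Equiv.Perm.mul_apply, pow_mul, perm_pow_fix _ hr'] at h1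
  exact h1

end perm

section sums

variable {F : Type*} [Field F] {V : Type*} [AddCommGroup V] [Module F V] [FiniteDimensional F V]

/-- the span of pairwise orthogonal nondegenerate subspaces. -/
theorem nd_finset_sup {B : LinearMap.BilinForm F V} (hB : B.IsRefl) {ι : Type*} [DecidableEq ι]
    (D : ι → Submodule F V) (hND : ∀ j, ND B (D j))
    (horth : ∀ j j', j ≠ j' → D j' ≤ B.orthogonal (D j)) (S : Finset ι) :
    ND B (⨆ j ∈ S, D j) ∧ finrank F ↥(⨆ j ∈ S, D j) = ∑ j ∈ S, finrank F ↥(D j) := by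
  induction S using Finset.induction_on with
  | empty =>
    have h0 : (⨆ j ∈ (∅ : Finset ι), D j) = ⊥ := by simp
    rw [h0, Finset.sum_empty]
    exact ⟨nd_bot B, finrank_bot F V⟩
  | insert j₀ S hj₀ ih =>
    rw [Finset.iSup_insert, Finset.sum_insert hj₀]
    have hle : (⨆ j ∈ S, D j) ≤ B.orthogonal (D j₀) := by
      apply iSup₂_le
      intro j hj
      exact horth j₀ j (fun h => hj₀ (h ▸ hj))
    refine ⟨nd_sup hB (hND j₀) ih.1 hle, ?_⟩
    rw [finrank_sup_of_le_perp hB (hND j₀) hle, ih.2]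

end sums

variable {F : Type*} [Field F] [Fintype F] {V : Type*} [AddCommGroup V] [Module F V] [Finite V]
  {p : ℕ} [Fact p.Prime] [CharP F p] {r : ℕ} [Fact r.Prime]

section permuted

variable {B : LinearMap.BilinForm F V} {T : Module.End F V} {t a : ℕ} {D : Fin t → Submodule F V}
  {σ : Equiv.Perm (Fin t)}

theorem map_pow_eq (hσ : ∀ j, (D j).map T = D (σ j)) (j : Fin t) (k : ℕ) :
    (D j).map (T ^ k) = D ((σ ^ k) j) := by
  induction k with
  | zero => simp [Module.End.one_eq_id]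
  | succ k ih =>
    rw [pow_succ', pow_succ', Equiv.Perm.mul_apply, ← hσ, ← ih, Module.End.mul_eq_comp, Submodule.map_comp]

theorem D_injective (hB : B.IsRefl) (hDnd : ∀ j, ND B (D j))
    (horth : ∀ j j', j ≠ j' → D j' ≤ B.orthogonal (D j)) (ha : 0 < a)
    (hDd : ∀ j, finrank F ↥(D j) = a) {j j' : Fin t} (h : D j = D j') : j = j' := by
  by_contra hne
  have h1 : D j' ≤ B.orthogonal (D j) := horth j j' hne
  rw [← h] at h1
  have h2 : D j ≤ D j ⊓ B.orthogonal (D j) := le_inf le_rfl h1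
  rw [((nd_iff_disjoint hB).mp (hDnd j)).eq_bot, le_bot_iff] at h2
  have := hDd j
  rw [h2, finrank_bot] at this
  omega

theorem pow_ne_of_ne (hB : B.IsRefl) (hDnd : ∀ j, ND B (D j))
    (horth : ∀ j j', j ≠ j' → D j' ≤ B.orthogonal (D j)) (ha : 0 < a)
    (hDd : ∀ j, finrank F ↥(D j) = a) (hT : T ^ r = 1) (hσ : ∀ j, (D j).map T = D (σ j))
    {j₀ : Fin t} (hj₀ : σ j₀ ≠ j₀) {k : ℕ} (hk0 : 0 < k) (hkr : k < r) : (σ ^ k) j₀ ≠ j₀ := by
  intro hk
  apply hj₀
  have hr' : (σ ^ r) j₀ = j₀ := by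
    apply D_injective hB hDnd horth ha hDd
    rw [← map_pow_eq hσ, hT, Module.End.one_eq_id, Submodule.map_id]
  have hcop : Nat.Coprime k r := by
    rw [Nat.coprime_comm]
    exact Nat.coprime_of_lt_prime (by omega) hkr (Fact.out : r.Prime)
  exact perm_fix_of_coprime σ (Fact.out : r.Prime).one_lt hcop hk hr'

end permuted

end Cfsg.Agent.Helper7.SpOrd
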