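import Mathlib
import Cfsg.Agent.Helper7.SpOrdF

set_option autoImplicit false
set_option linter.unusedSectionVars false
set_option linter.unusedVariables false

/-!
Dimension bounds for an isometry of prime order permuting the members of an orthogonal decomposition.
-/

namespace Cfsg.Agent.Helper7.SpOrd

open Module Polynomial Cfsg.Agent.Helper7.POrd

variable {F : Type*} [Field F] [Fintype F] {V : Type*} [AddCommGroup V] [Module F V] [Finite V]
  {p : ℕ} [Fact p.Prime] [CharP F p] {r : ℕ} [Fact r.Prime]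
  {B : LinearMap.BilinForm F V} {T : Module.End F V} {t a : ℕ} {D : Fin t → Submodule F V}
  {σ : Equiv.Perm (Fin t)}

/-- a moved member embeds into the fixed space. -/
theorem finrank_le_fix_of_moved (hB : B.IsRefl) (hDnd : ∀ j, ND B (D j))
    (horth : ∀ j j', j ≠ j' → D j' ≤ B.orthogonal (D j)) (ha : 0 < a)
    (hDd : ∀ j, finrank F ↥(D j) = a) (hT : T ^ r = 1) (hσ : ∀ j, (D j).map T = D (σ j))
    {j₀ : Fin t} (hj₀ : σ j₀ ≠ j₀) : a ≤ finrank F ↥(fixS T) := by
  have hfd : FiniteDimensional F V := Module.Finite.of_finite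
  have hinj : ∀ u ∈ D j₀, Phi r T u = 0 → u = 0 := by
    intro u hu h0
    by_contra hne
    obtain ⟨y, hy, hy'⟩ := hDnd j₀ u hu hne
    apply hy'
    have h1 : B (Phi r T u) y = B u y := by
      unfold Phi
      rw [LinearMap.sum_apply, map_sum, LinearMap.sum_apply]
      rw [Finset.sum_eq_single 0]
      · simp
      · intro k hk hk0
        have hkr := Finset.mem_range.mp hk
        have hmem : (T ^ k) u ∈ D ((σ ^ k) j₀) := by
          rw [← map_pow_eq hσ]
          exact Submodule.mem_map_of_mem hu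
        have hne' := pow_ne_of_ne hB hDnd horth ha hDd hT hσ hj₀ (Nat.pos_of_ne_zero hk0) hkr
        exact mem_perp.mp (horth _ _ hne' hy) _ hmem
      · intro h
        exact absurd (Finset.mem_range.mpr (Fact.out : r.Prime).pos) h
    rw [← h1, h0, map_zero, LinearMap.zero_apply]
  have hfinj : Function.Injective ((Phi r T).domRestrict (D j₀)) := by
    rw [injective_iff_map_eq_zero]
    intro x hx
    apply Subtype.ext
    exact hinj x x.2 hx
  have h1 := LinearMap.finrank_range_of_inj hfinj
  have h2 : LinearMap.range ((Phi r T).domRestrict (D j₀)) ≤ fixS T := by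
    rintro _ ⟨x, rfl⟩
    exact Phi_mem_fixS hT _
  have h3 := Submodule.finrank_mono h2
  rw [h1, hDd] at h3
  exact h3

theorem finrank_top_eq (hB : B.IsRefl) (hDnd : ∀ j, ND B (D j))
    (horth : ∀ j j', j ≠ j' → D j' ≤ B.orthogonal (D j))
    (hDd : ∀ j, finrank F ↥(D j) = a) (hsup : (⨆ j, D j) = ⊤) : finrank F V = a * t := by
  classical
  have hfd : FiniteDimensional F V := Module.Finite.of_finite
  have h := (nd_finset_sup hB D hDnd horth Finset.univ).2
  have h0 : (⨆ j ∈ (Finset.univ : Finset (Fin t)), D j) = ⊤ := by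
    rw [← hsup]
    simp
  rw [h0, finrank_top, Finset.sum_congr rfl (fun j _ => hDd j), Finset.sum_const, Finset.card_univ,
    Fintype.card_fin, smul_eq_mul, mul_comm] at h
  exact h

/-- a moved member forces a small fixed space. -/
theorem finrank_fix_le_of_moved (hB : B.IsRefl) (hND : ND B ⊤) (hDnd : ∀ j, ND B (D j))
    (horth : ∀ j j', j ≠ j' → D j' ≤ B.orthogonal (D j)) (ha : 0 < a)
    (hDd : ∀ j, finrank F ↥(D j) = a) (hsup : (⨆ j, D j) = ⊤)
    (hiso : ∀ u v, B (T u) (T v) = B u v) (hT : T ^ r = 1) (hσ : ∀ j, (D j).map T = D (σ j))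
    {j₀ : Fin t} (hj₀ : σ j₀ ≠ j₀) : finrank F ↥(fixS T) + a * (r - 1) ≤ a * t := by
  classical
  have hfd : FiniteDimensional F V := Module.Finite.of_finite
  obtain ⟨S', hS'⟩ : ∃ S' : Finset (Fin t), S' = (Finset.Ico 1 r).image (fun k => (σ ^ k) j₀) := ⟨_, rfl⟩
  have hcardS' : S'.card = r - 1 := by
    rw [hS', Finset.card_image_of_injOn, Nat.card_Ico]
    intro k hk l hl hkl
    rw [Finset.coe_Ico, Set.mem_Ico] at hk hl
    have hkl' : (σ ^ k) j₀ = (σ ^ l) j₀ := hkl
    by_contra hne
    rcases Nat.lt_or_gt_of_ne hne with h | h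
    · have e : l = k + (l - k) := by omega
      rw [e, pow_add, Equiv.Perm.mul_apply] at hkl'
      have := (σ ^ k).injective hkl'
      exact pow_ne_of_ne hB hDnd horth ha hDd hT hσ hj₀ (by omega) (by omega) this.symm
    · have e : k = l + (k - l) := by omega
      rw [e, pow_add, Equiv.Perm.mul_apply] at hkl'
      have := (σ ^ l).injective hkl'
      exact pow_ne_of_ne hB hDnd horth ha hDd hT hσ hj₀ (by omega) (by omega) this
  have hj₀R : j₀ ∉ S' := by
    rw [hS', Finset.mem_image]
    rintro ⟨k, hk, hk'⟩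
    rw [Finset.mem_Ico] at hk
    exact pow_ne_of_ne hB hDnd horth ha hDd hT hσ hj₀ (by omega) hk.2 hk'
  have hcardR : (Finset.univ \ S').card = t - (r - 1) := by
    rw [Finset.card_univ_diff, Fintype.card_fin, hcardS']
  have hle : r - 1 ≤ t := by
    rw [← hcardS']
    have := Finset.card_le_univ S'
    rwa [Fintype.card_fin] at this
  obtain ⟨hWnd, hWd⟩ := nd_finset_sup hB D hDnd horth (Finset.univ \ S')
  rw [Finset.sum_congr rfl (fun j _ => hDd j), Finset.sum_const, hcardR, smul_eq_mul] at hWd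
  have hR_perp : ∀ w ∈ fixS T, w ∈ B.orthogonal (⨆ j ∈ Finset.univ \ S', D j) → ∀ j, ∀ v ∈ D j, B w v = 0 := by
    intro w hw hwp j
    have hin : ∀ j ∈ Finset.univ \ S', ∀ v ∈ D j, B w v = 0 := by
      intro j hj v hv
      apply hB
      apply mem_perp.mp hwp
      exact Submodule.mem_iSup_of_mem j (Submodule.mem_iSup_of_mem hj hv)
    by_cases hj : j ∈ S'
    · rw [hS', Finset.mem_image] at hj
      obtain ⟨k, hk, rfl⟩ := hj
      intro v hv
      rw [← map_pow_eq hσ] at hv
      obtain ⟨v₀, hv₀, rfl⟩ := Submodule.mem_map.mp hv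
      conv_lhs => rw [← pow_apply_of_fixed (mem_fixS.mp hw) k]
      rw [iso_pow hiso]
      exact hin j₀ (Finset.mem_sdiff.mpr ⟨Finset.mem_univ _, hj₀R⟩) v₀ hv₀
    · exact hin j (Finset.mem_sdiff.mpr ⟨Finset.mem_univ _, hj⟩)
  have hdisj : Disjoint (fixS T) (B.orthogonal (⨆ j ∈ Finset.univ \ S', D j)) := by
    rw [Submodule.disjoint_def]
    intro w hw hwp
    have hall : ∀ v ∈ ⨆ j, D j, B w v = 0 := by
      intro v hvtop
      induction hvtop using Submodule.iSup_induction' with
      | mem j x hx => exact hR_perp w hw hwp j x hx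
      | zero => exact map_zero _
      | add x y _ _ hx hy =>
        have e : B w (x + y) = B w x + B w y := map_add _ _ _
        rw [e, hx, hy, add_zero]
    by_contra hne
    obtain ⟨v, -, hv⟩ := hND w Submodule.mem_top hne
    apply hv
    apply hall
    rw [hsup]
    exact Submodule.mem_top
  have h1 := Submodule.finrank_add_finrank_le_of_disjoint hdisj
  have h2 := Submodule.finrank_add_eq_of_isCompl (isCompl_perp hB hWnd)
  have h3 := finrank_top_eq hB hDnd horth hDd hsup
  have h4 : a * (t - (r - 1)) + a * (r - 1) = a * t := by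
    rw [← mul_add, Nat.sub_add_cancel hle]
  rw [mul_comm] at hWd
  omega

theorem invt_of_map_eq (j : Fin t) (h : (D j).map T = D j) : D j ∈ Module.End.invtSubmodule T := by
  rw [Module.End.mem_invtSubmodule, ← Submodule.map_le_iff_le_comap, h]

/-- the fixed parts of invariant members fit into the fixed space. -/
theorem sum_fix_le (hrp : r ≠ p) (hB : B.IsRefl) (hDnd : ∀ j, ND B (D j))
    (horth : ∀ j j', j ≠ j' → D j' ≤ B.orthogonal (D j))
    (hiso : ∀ u v, B (T u) (T v) = B u v) (hT : T ^ r = 1)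
    (hinv : ∀ j, D j ∈ Module.End.invtSubmodule T) :
    ∑ j, finrank F ↥(D j ⊓ fixS T) ≤ finrank F ↥(fixS T) := by
  classical
  have hfd : FiniteDimensional F V := Module.Finite.of_finite
  have hrF : (r : F) ≠ 0 := natCast_ne_zero_of_ne hrp
  have h := (nd_finset_sup hB (fun j => D j ⊓ fixS T)
    (fun j => nd_inf_fix hB hiso hrF hT (hinv j) (hDnd j))
    (fun j j' hjj' => (inf_le_left.trans (horth j j' hjj')).trans
      (LinearMap.BilinForm.orthogonal_le inf_le_left)) Finset.univ).2
  rw [← h]
  apply Submodule.finrank_mono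
  apply iSup₂_le
  intro j _
  exact inf_le_right

end Cfsg.Agent.Helper7.SpOrd
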