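import Mathlib
import Cfsg.Agent.Helper7.SpOrdG
import Cfsg.Agent.Helper7.SpCPD
import Cfsg.Agent.Helper8.SpOrder

set_option autoImplicit false
set_option linter.unusedSectionVars false
set_option linter.unusedVariables false

/-!
Symplectic matrices of prime order with a prescribed number of minimal blocks.
-/

namespace Cfsg.Agent.Helper7.SpOrd

open Matrix Module Cfsg.Agent.Helper8.SpS Cfsg.Agent.Helper8.SpStab Cfsg.Agent.Helper7.POrd

section pi

variable {F : Type*} [Field F] {V₀ : Type*} [AddCommGroup V₀] [Module F V₀] {ι : Type*} [Fintype ι]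
  [DecidableEq ι]

/-- the orthogonal sum of copies of a bilinear form. -/
noncomputable def piB (B₀ : V₀ →ₗ[F] V₀ →ₗ[F] F) : (ι → V₀) →ₗ[F] (ι → V₀) →ₗ[F] F :=
  ∑ k : ι, B₀.compl₁₂ (LinearMap.proj k) (LinearMap.proj k)

theorem piB_apply (B₀ : V₀ →ₗ[F] V₀ →ₗ[F] F) (u v : ι → V₀) : piB (ι := ι) B₀ u v = ∑ k, B₀ (u k) (v k) := by
  unfold piB
  rw [LinearMap.sum_apply, LinearMap.sum_apply]
  rfl

theorem piB_alt {B₀ : V₀ →ₗ[F] V₀ →ₗ[F] F} (h : Alt B₀) : Alt (piB (ι := ι) B₀) := by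
  intro u
  rw [piB_apply]
  exact Finset.sum_eq_zero (fun k _ => h (u k))

theorem piB_nondeg {B₀ : V₀ →ₗ[F] V₀ →ₗ[F] F} (h : Nondeg B₀) : Nondeg (piB (ι := ι) B₀) := by
  intro u hu
  funext k
  apply h
  intro w
  have := hu (Pi.single k w)
  rw [piB_apply, Finset.sum_eq_single k] at this
  · rwa [Pi.single_eq_same] at this
  · intro j _ hjk
    rw [Pi.single_eq_of_ne hjk, map_zero]
  · intro hk
    exact absurd (Finset.mem_univ k) hk

/-- the diagonal action. -/
noncomputable def piMap (T₀ : Module.End F V₀) : Module.End F (ι → V₀) :=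
  LinearMap.pi (fun k => T₀ ∘ₗ LinearMap.proj k)

theorem piMap_apply (T₀ : Module.End F V₀) (u : ι → V₀) (k : ι) : piMap (ι := ι) T₀ u k = T₀ (u k) := rfl

theorem piMap_pow_apply (T₀ : Module.End F V₀) (n : ℕ) (u : ι → V₀) (k : ι) :
    ((piMap (ι := ι) T₀) ^ n) u k = (T₀ ^ n) (u k) := by
  induction n generalizing u with
  | zero => simp
  | succ n ih => rw [pow_succ, Module.End.mul_apply, ih, piMap_apply, pow_succ, Module.End.mul_apply]

theorem piB_inv {B₀ : V₀ →ₗ[F] V₀ →ₗ[F] F} {T₀ : Module.End F V₀} (h : Inv B₀ T₀) :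
    Inv (piB (ι := ι) B₀) (piMap T₀) := by
  intro u v
  rw [piB_apply, piB_apply]
  exact Finset.sum_congr rfl (fun k _ => h (u k) (v k))

end pi

variable {F : Type*} [Field F] [Fintype F] {p : ℕ} [Fact p.Prime] [CharP F p] {r : ℕ} [Fact r.Prime]

theorem fixS_eq {d : ℕ} (M : Matrix (Fin d ⊕ Fin d) (Fin d ⊕ Fin d) F) :
    Cfsg.Agent.Helper7.SpCP.fixS M = fixS (Matrix.toLin' M) := by
  ext v
  rw [Cfsg.Agent.Helper7.SpCP.mem_fixS, mem_fixS, Matrix.toLin'_apply]

theorem sB_ND (m : ℕ) : ND (sB m F) ⊤ := by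
  intro u _ hu
  by_contra hcon
  push Not at hcon
  exact hu (sB_nondeg u (fun v => hcon v Submodule.mem_top))

theorem sB_isAlt (m : ℕ) : (sB m F).IsAlt := fun v => sB_alt v

theorem sB_iso {m : ℕ} (x : symplecticGroup (Fin m) F) (u v : Fin m ⊕ Fin m → F) :
    sB m F (Matrix.toLin' (x : Matrix (Fin m ⊕ Fin m) (Fin m ⊕ Fin m) F) u)
      (Matrix.toLin' (x : Matrix (Fin m ⊕ Fin m) (Fin m ⊕ Fin m) F) v) = sB m F u v := by
  rw [sB_apply, sB_apply, Matrix.toLin'_apply, Matrix.toLin'_apply]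
  exact Cfsg.Agent.Helper7.Symp.sympForm_mulVec x u v

theorem toLin'_pow_symp {m : ℕ} (x : symplecticGroup (Fin m) F) (n : ℕ) :
    (Matrix.toLin' (x : Matrix (Fin m ⊕ Fin m) (Fin m ⊕ Fin m) F) : Module.End F (Fin m ⊕ Fin m → F)) ^ n =
      Matrix.toLin' ((x ^ n : symplecticGroup (Fin m) F) : Matrix (Fin m ⊕ Fin m) (Fin m ⊕ Fin m) F) := by
  rw [← Matrix.toLin'_pow, SubmonoidClass.coe_pow]

theorem orderOf_dvd_cOf (i : ℕ) : i ∣ cOf i := by
  unfold cOf
  split_ifs
  · exact dvd_refl _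
  · exact Dvd.intro_left 2 rfl

theorem dvd_pow_cOf_sub_one : r ∣ Fintype.card F ^ cOf (orderOf ((Fintype.card F : ℕ) : ZMod r)) - 1 := by
  have h1 : ((Fintype.card F : ℕ) : ZMod r) ^ cOf (orderOf ((Fintype.card F : ℕ) : ZMod r)) = 1 :=
    orderOf_dvd_iff_pow_eq_one.mp (orderOf_dvd_cOf _)
  have hpos : 1 ≤ Fintype.card F ^ cOf (orderOf ((Fintype.card F : ℕ) : ZMod r)) :=
    Nat.one_le_pow _ _ Fintype.card_pos
  rw [← ZMod.natCast_eq_zero_iff, Nat.cast_sub hpos, Nat.cast_pow, h1, Nat.cast_one, sub_self]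

/-- an element of order `r` without fixed vectors in the symplectic group of degree `c`. -/
theorem exists_block_elt (hr2 : r ≠ 2) (hrp : r ≠ p) {m : ℕ}
    (hm : cOf (orderOf ((Fintype.card F : ℕ) : ZMod r)) = 2 * m) :
    ∃ x₀ : symplecticGroup (Fin m) F, x₀ ^ r = 1 ∧
      fixS (Matrix.toLin' (x₀ : Matrix (Fin m ⊕ Fin m) (Fin m ⊕ Fin m) F)) = ⊥ := by
  have hrF : (r : F) ≠ 0 := natCast_ne_zero_of_ne hrp
  have hcpos := cOf_pos (orderOf_q_pos (F := F) hrp)
  have hmpos : 1 ≤ m := by omega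
  haveI : Finite (symplecticGroup (Fin m) F) := Subtype.finite
  have hdvd : r ∣ Nat.card (symplecticGroup (Fin m) F) := by
    rw [Cfsg.Agent.Helper8.SpOrder.card_symp]
    apply Dvd.dvd.mul_left
    have hmem : m - 1 ∈ Finset.range m := Finset.mem_range.mpr (by omega)
    apply Dvd.dvd.trans _ (Finset.dvd_prod_of_mem _ hmem)
    have : 2 * (m - 1 + 1) = cOf (orderOf ((Fintype.card F : ℕ) : ZMod r)) := by omega
    rw [this]
    exact dvd_pow_cOf_sub_one
  obtain ⟨x₀, hx₀⟩ := exists_prime_orderOf_dvd_card' r hdvd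
  have hx₀r : x₀ ^ r = 1 := by rw [← hx₀]; exact pow_orderOf_eq_one x₀
  obtain ⟨T₀, hT₀⟩ : ∃ T₀ : Module.End F (Fin m ⊕ Fin m → F),
      T₀ = Matrix.toLin' (x₀ : Matrix (Fin m ⊕ Fin m) (Fin m ⊕ Fin m) F) := ⟨_, rfl⟩
  have hT₀r : T₀ ^ r = 1 := by
    rw [hT₀, toLin'_pow_symp, hx₀r]
    exact Matrix.toLin'_one
  have hiso : ∀ u v, sB m F (T₀ u) (T₀ v) = sB m F u v := by
    intro u v
    rw [hT₀]
    exact sB_iso x₀ u v
  have hT₀ne : T₀ ≠ 1 := by
    intro h
    have h1 : (x₀ : Matrix (Fin m ⊕ Fin m) (Fin m ⊕ Fin m) F) = 1 := by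
      apply Matrix.toLin'.injective
      rw [← hT₀, h]
      exact Matrix.toLin'_one.symm
    have h2 : x₀ = 1 := Subtype.ext h1
    rw [h2, orderOf_one] at hx₀
    exact (Fact.out : r.Prime).one_lt.ne hx₀
  refine ⟨x₀, hx₀r, ?_⟩
  rw [← hT₀]
  have hmovne : movS r T₀ ≠ ⊥ := by
    intro h
    apply hT₀ne
    have htop := (isCompl_fix_mov hrF hT₀r).sup_eq_top
    rw [h, sup_bot_eq] at htop
    apply LinearMap.ext
    intro v
    have : v ∈ fixS T₀ := by rw [htop]; exact Submodule.mem_top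
    rw [Module.End.one_apply]
    exact mem_fixS.mp this
  have hmovnd : ND (sB m F) (movS r T₀) := by
    have := nd_inf_mov (sB_isAlt m).isRefl hiso hrF hT₀r (Module.End.invtSubmodule.top_mem T₀) (sB_ND m)
    rwa [top_inf_eq] at this
  have hmovfix : movS r T₀ ⊓ fixS T₀ = ⊥ := by
    rw [inf_comm]
    exact (disjoint_fix_mov hrF T₀).eq_bot
  have hc := cOf_dvd_finrank hr2 hrp (sB_isAlt m) hiso hT₀r _ _ rfl (movS_invt r T₀) hmovnd hmovfix
  have hsum := finrank_fix_add_mov hrF hT₀r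
  rw [Module.finrank_fintype_fun_eq_card, Fintype.card_sum, Fintype.card_fin] at hsum
  have hpos : 0 < finrank F ↥(movS r T₀) := by
    rw [Module.finrank_pos_iff_exists_ne_zero]
    obtain ⟨w, hw, hw0⟩ := Submodule.exists_mem_ne_zero_of_ne_bot hmovne
    exact ⟨⟨w, hw⟩, fun h => hw0 (congrArg Subtype.val h)⟩
  have hle := Nat.le_of_dvd hpos hc
  apply Submodule.finrank_eq_zero.mp
  omega

/-- **the element**: `K` minimal blocks and a trivial part. -/
theorem exists_elt_blocks (hr2 : r ≠ 2) (hrp : r ≠ p) (d K : ℕ)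
    (hK : cOf (orderOf ((Fintype.card F : ℕ) : ZMod r)) * K ≤ 2 * d) :
    ∃ x : symplecticGroup (Fin d) F, x ^ r = 1 ∧ (1 ≤ K → x ≠ 1) ∧
      finrank F ↥(fixS (Matrix.toLin' (x : Matrix (Fin d ⊕ Fin d) (Fin d ⊕ Fin d) F))) =
        2 * d - cOf (orderOf ((Fintype.card F : ℕ) : ZMod r)) * K := by
  classical
  obtain ⟨m, hm⟩ : ∃ m, cOf (orderOf ((Fintype.card F : ℕ) : ZMod r)) = 2 * m := by
    obtain ⟨m, hm⟩ := cOf_even (orderOf ((Fintype.card F : ℕ) : ZMod r))
    exact ⟨m, by omega⟩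
  obtain ⟨x₀, hx₀r, hx₀fix⟩ := exists_block_elt hr2 hrp hm
  obtain ⟨T₀, hT₀⟩ : ∃ T₀ : Module.End F (Fin m ⊕ Fin m → F),
      T₀ = Matrix.toLin' (x₀ : Matrix (Fin m ⊕ Fin m) (Fin m ⊕ Fin m) F) := ⟨_, rfl⟩
  rw [← hT₀] at hx₀fix
  have hT₀r : T₀ ^ r = 1 := by
    rw [hT₀, toLin'_pow_symp, hx₀r]
    exact Matrix.toLin'_one
  have hiso : Inv (sB m F) T₀ := by
    intro u v
    rw [hT₀]
    exact sB_iso x₀ u v
  have hmK : m * K ≤ d := by
    rw [hm] at hK
    have : 2 * m * K = 2 * (m * K) := by ring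
    omega
  -- the space
  have hAlt := Cfsg.Agent.Helper7.SpCP.prodB_alt (piB_alt (ι := Fin K) (sB_alt (F := F) (m := m)))
    (sB_alt (F := F) (m := d - m * K))
  have hND := Cfsg.Agent.Helper7.SpCP.prodB_nondeg (piB_nondeg (ι := Fin K) (sB_nondeg (F := F) (m := m)))
    (sB_nondeg (F := F) (m := d - m * K))
  have hidInv : Inv (sB (d - m * K) F) (LinearMap.id) := fun u v => rfl
  have hInv := Cfsg.Agent.Helper7.SpCP.prodB_inv (piB_inv (ι := Fin K) hiso) hidInv
  obtain ⟨φ, hφdef⟩ : ∃ φ : Module.End F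
      ((Fin K → (Fin m ⊕ Fin m → F)) × (Fin (d - m * K) ⊕ Fin (d - m * K) → F)),
      φ = LinearMap.prodMap (piMap T₀) LinearMap.id := ⟨_, rfl⟩
  rw [← hφdef] at hInv
  have hφapp : ∀ x, φ x = (piMap T₀ x.1, x.2) := by
    intro x
    rw [hφdef]
    rfl
  have hφpow : ∀ (n : ℕ) x, (φ ^ n) x = (((piMap T₀) ^ n) x.1, x.2) := by
    intro n
    induction n with
    | zero => intro x; simp
    | succ n ih =>
      intro x
      rw [pow_succ, Module.End.mul_apply, ih, hφapp, pow_succ, Module.End.mul_apply]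
  have hφr : φ ^ r = 1 := by
    apply LinearMap.ext
    intro x
    rw [hφpow]
    apply Prod.ext
    · funext k
      show ((piMap T₀) ^ r) x.1 k = x.1 k
      rw [piMap_pow_apply, hT₀r, Module.End.one_apply]
    · rfl
  have hdimE : finrank F ((Fin K → (Fin m ⊕ Fin m → F)) × (Fin (d - m * K) ⊕ Fin (d - m * K) → F)) =
      2 * d := by
    rw [Module.finrank_prod, Module.finrank_pi_fintype, Module.finrank_fintype_fun_eq_card,
      Module.finrank_fintype_fun_eq_card]
    simp only [Fintype.card_sum, Fintype.card_fin, Finset.sum_const, Finset.card_univ, smul_eq_mul]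
    have : K * (m + m) = 2 * (m * K) := by ring
    omega
  obtain ⟨x, hx1, hx2, hx3⟩ :=
    Cfsg.Agent.Helper7.SpCP.exists_symp_of_isometry _ hAlt hND φ hInv r d hφr hdimE
  refine ⟨x, hx1, fun hK1 h => ?_, ?_⟩
  · have h1 := hx2 h
    have hne : fixS T₀ ≠ ⊤ := by
      rw [hx₀fix]
      intro h'
      have hcpos := cOf_pos (orderOf_q_pos (F := F) hrp)
      have h2 : finrank F ↥(⊥ : Submodule F (Fin m ⊕ Fin m → F)) = finrank F ↥(⊤ : Submodule F (Fin m ⊕ Fin m → F)) := by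
        rw [h']
      rw [finrank_bot, finrank_top, Module.finrank_fintype_fun_eq_card, Fintype.card_sum, Fintype.card_fin] at h2
      omega
    apply hne
    rw [eq_top_iff]
    intro w _
    rw [mem_fixS]
    have h2 := congrArg (fun f : Module.End F _ => f (Pi.single (⟨0, by omega⟩ : Fin K) w, 0)) h1
    simp only [hφapp, Module.End.one_apply] at h2
    have h3 := congrFun (congrArg Prod.fst h2) (⟨0, by omega⟩ : Fin K)
    simp only [piMap_apply, Pi.single_eq_same] at h3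
    exact h3
  · rw [fixS_eq] at hx3
    rw [hx3]
    have hfix : Cfsg.Agent.Helper7.SpCP.fixE φ = LinearMap.range (LinearMap.inr F (Fin K → (Fin m ⊕ Fin m → F))
        (Fin (d - m * K) ⊕ Fin (d - m * K) → F)) := by
      ext x
      rw [Cfsg.Agent.Helper7.SpCP.mem_fixE, hφapp, LinearMap.mem_range]
      constructor
      · intro h
        have h1 := congrArg Prod.fst h
        simp only at h1
        have h3 : x.1 = 0 := by
          funext k
          have h4 := congrFun h1 k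
          rw [piMap_apply] at h4
          have : x.1 k ∈ fixS T₀ := mem_fixS.mpr h4
          rw [hx₀fix, Submodule.mem_bot] at this
          exact this
        refine ⟨x.2, ?_⟩
        apply Prod.ext
        · simp [h3]
        · simp
      · rintro ⟨v, rfl⟩
        apply Prod.ext
        · funext k
          show T₀ 0 = 0
          exact map_zero _
        · rfl
    rw [hfix, LinearMap.finrank_range_of_inj LinearMap.inr_injective,
      Module.finrank_fintype_fun_eq_card, Fintype.card_sum, Fintype.card_fin]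
    rw [hm]
    have : 2 * m * K = 2 * (m * K) := by ring
    omega

end Cfsg.Agent.Helper7.SpOrd
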