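import Mathlib
import Cfsg.Prelude.Def_GeometricClasses
import Cfsg.Agent.Helper7.SpOrdH

set_option autoImplicit false
set_option linter.unusedSectionVars false
set_option linter.unusedVariables false

/-!
Orthogonal decompositions of the standard symplectic space: the symmetric group acts freely on them.
-/

namespace Cfsg.Agent.Helper7.SpOrd

open Matrix Module Cfsg.Agent.Helper8.SpS Cfsg.Agent.Helper8.SpStab Cfsg.Agent.Helper7.POrd

variable {F : Type*} [Field F] [Fintype F] {d t : ℕ}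

/-- an orthogonal decomposition of the standard symplectic space into nondegenerate subspaces of dimension `a`. -/
structure OD (a : ℕ) (D : Fin t → Submodule F (Fin d ⊕ Fin d → F)) : Prop where
  dim : ∀ j, finrank F ↥(D j) = a
  nd : ∀ j, ND (sB d F) (D j)
  orth : ∀ j j', j ≠ j' → D j' ≤ (sB d F).orthogonal (D j)
  top : (⨆ j, D j) = ⊤

theorem od_iff {a : ℕ} (ht : 2 ≤ t) (ha : 0 < a) (D : Fin t → Submodule F (Fin d ⊕ Fin d → F)) :
    (Cfsg.Geo.IsMDecomposition a D ∧ (∀ j, ∀ u ∈ D j, u ≠ 0 → ∃ v ∈ D j, Cfsg.sympForm d F u v ≠ 0) ∧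
      (∀ j j', j ≠ j' → ∀ u ∈ D j, ∀ v ∈ D j', Cfsg.sympForm d F u v = 0)) ↔ OD a D := by
  constructor
  · rintro ⟨h1, h2, h3⟩
    refine ⟨h1.finrank_eq, ?_, ?_, h1.iSup_eq_top⟩
    · intro j u hu hne
      obtain ⟨v, hv, hv'⟩ := h2 j u hu hne
      exact ⟨v, hv, by rw [sB_apply]; exact hv'⟩
    · intro j j' hjj' v hv
      rw [mem_perp]
      intro u hu
      rw [sB_apply]
      exact h3 j j' hjj' u hu v hv
  · intro h
    refine ⟨⟨ht, ha, h.dim, indep_of_orth (sB_isAlt d).isRefl D h.nd h.orth, h.top⟩, ?_, ?_⟩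
    · intro j u hu hne
      obtain ⟨v, hv, hv'⟩ := h.nd j u hu hne
      exact ⟨v, hv, by rw [← sB_apply]; exact hv'⟩
    · intro j j' hjj' u hu v hv
      rw [← sB_apply]
      exact mem_perp.mp (h.orth j j' hjj' hv) u hu

/-- reindexing. -/
theorem OD.comp {a : ℕ} {D : Fin t → Submodule F (Fin d ⊕ Fin d → F)} (h : OD a D) (σ : Equiv.Perm (Fin t)) :
    OD a (D ∘ σ) := by
  refine ⟨fun j => h.dim _, fun j => h.nd _, fun j j' hjj' => h.orth _ _ (fun h' => hjj' (σ.injective h')), ?_⟩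
  rw [← h.top]
  exact Equiv.iSup_comp (g := D) σ

theorem OD.injective {a : ℕ} (ha : 0 < a) {D : Fin t → Submodule F (Fin d ⊕ Fin d → F)} (h : OD a D) :
    Function.Injective D := by
  intro j j' hjj'
  by_contra hne
  have h1 : D j' ≤ (sB d F).orthogonal (D j) := h.orth j j' hne
  rw [← hjj'] at h1
  have h2 : D j ≤ D j ⊓ (sB d F).orthogonal (D j) := le_inf le_rfl h1
  rw [((nd_iff_disjoint (sB_isAlt d).isRefl).mp (h.nd j)).eq_bot, le_bot_iff] at h2
  have := h.dim j
  rw [h2, finrank_bot] at this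
  omega

/-- the image under a symplectic matrix. -/
theorem OD.map {a : ℕ} {D : Fin t → Submodule F (Fin d ⊕ Fin d → F)} (h : OD a D)
    (g : symplecticGroup (Fin d) F) :
    OD a (fun j => (D j).map (Matrix.toLin' (g : Matrix (Fin d ⊕ Fin d) (Fin d ⊕ Fin d) F))) := by
  have hinj : Function.Injective (Matrix.toLin' (g : Matrix (Fin d ⊕ Fin d) (Fin d ⊕ Fin d) F)) := by
    intro u v huv
    have h1 : (Matrix.toLin' ((g⁻¹ : symplecticGroup (Fin d) F) : Matrix (Fin d ⊕ Fin d) (Fin d ⊕ Fin d) F))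
        (Matrix.toLin' (g : Matrix (Fin d ⊕ Fin d) (Fin d ⊕ Fin d) F) u) = u := by
      rw [← LinearMap.comp_apply, ← Matrix.toLin'_mul]
      have : ((g⁻¹ : symplecticGroup (Fin d) F) : Matrix (Fin d ⊕ Fin d) (Fin d ⊕ Fin d) F) *
          (g : Matrix (Fin d ⊕ Fin d) (Fin d ⊕ Fin d) F) = 1 := by
        have := congrArg Subtype.val (inv_mul_cancel g)
        exact this
      rw [this, Matrix.toLin'_one, LinearMap.id_apply]
    have h2 : (Matrix.toLin' ((g⁻¹ : symplecticGroup (Fin d) F) : Matrix (Fin d ⊕ Fin d) (Fin d ⊕ Fin d) F))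
        (Matrix.toLin' (g : Matrix (Fin d ⊕ Fin d) (Fin d ⊕ Fin d) F) v) = v := by
      rw [← LinearMap.comp_apply, ← Matrix.toLin'_mul]
      have : ((g⁻¹ : symplecticGroup (Fin d) F) : Matrix (Fin d ⊕ Fin d) (Fin d ⊕ Fin d) F) *
          (g : Matrix (Fin d ⊕ Fin d) (Fin d ⊕ Fin d) F) = 1 := by
        have := congrArg Subtype.val (inv_mul_cancel g)
        exact this
      rw [this, Matrix.toLin'_one, LinearMap.id_apply]
    rw [← h1, huv, h2]
  have hsurj : LinearMap.range (Matrix.toLin' (g : Matrix (Fin d ⊕ Fin d) (Fin d ⊕ Fin d) F)) = ⊤ :=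
    LinearMap.range_eq_top.mpr (LinearMap.injective_iff_surjective.mp hinj)
  refine ⟨fun j => ?_, fun j => ?_, fun j j' hjj' => ?_, ?_⟩
  · rw [← h.dim j]
    exact (Submodule.equivMapOfInjective _ hinj (D j)).finrank_eq.symm
  · rintro _ ⟨u, hu, rfl⟩ hne
    have hu0 : u ≠ 0 := by
      intro h0
      apply hne
      rw [h0, map_zero]
    obtain ⟨v, hv, hv'⟩ := h.nd j u hu hu0
    refine ⟨_, Submodule.mem_map_of_mem hv, ?_⟩
    rw [sB_iso]
    exact hv'
  · rintro _ ⟨v, hv, rfl⟩
    rw [mem_perp]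
    rintro _ ⟨u, hu, rfl⟩
    rw [sB_iso]
    exact mem_perp.mp (h.orth j j' hjj' hv) u hu
  · rw [← Submodule.map_iSup, h.top, Submodule.map_top, hsurj]

section count

instance odFinite (a : ℕ) : Finite {D : Fin t → Submodule F (Fin d ⊕ Fin d → F) // OD a D} :=
  Subtype.finite

/-- the symmetric group acts on the decompositions. -/
@[instance_reducible] noncomputable def odAction (a : ℕ) :
    MulAction (Equiv.Perm (Fin t)) {D : Fin t → Submodule F (Fin d ⊕ Fin d → F) // OD a D} where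
  smul σ D := ⟨D.1 ∘ σ.symm, D.2.comp σ.symm⟩
  one_smul D := by
    apply Subtype.ext
    rfl
  mul_smul σ τ D := by
    apply Subtype.ext
    funext j
    rfl

/-- **the number of ordered decompositions is a multiple of `t!`.** -/
theorem factorial_dvd_card_od {a : ℕ} (ha : 0 < a) :
    t.factorial ∣ Nat.card {D : Fin t → Submodule F (Fin d ⊕ Fin d → F) // OD a D} := by
  let _ := odAction (F := F) (d := d) (t := t) a
  have hfree : ∀ D : {D : Fin t → Submodule F (Fin d ⊕ Fin d → F) // OD a D},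
      MulAction.stabilizer (Equiv.Perm (Fin t)) D = ⊥ := by
    intro D
    rw [eq_bot_iff]
    intro σ hσ
    rw [Subgroup.mem_bot]
    rw [MulAction.mem_stabilizer_iff] at hσ
    have h1 : D.1 ∘ σ.symm = D.1 := congrArg Subtype.val hσ
    apply Equiv.ext
    intro j
    have h2 := congrFun h1 (σ j)
    simp only [Function.comp_apply, Equiv.symm_apply_apply] at h2
    exact (D.2.injective ha h2).symm
  have e := MulAction.selfEquivOrbitsQuotientProd hfree
  rw [Nat.card_congr e, Nat.card_prod, Nat.card_perm, Nat.card_fin]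
  exact Dvd.intro_left _ rfl

end count

end Cfsg.Agent.Helper7.SpOrd
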