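import Mathlib
import Cfsg.Agent.Helper7.SpOrdI
import Cfsg.Agent.Helper7.SpCPB

set_option autoImplicit false
set_option linter.unusedSectionVars false
set_option linter.unusedVariables false

/-!
The symplectic group is transitive on the orthogonal decompositions of a given shape.
-/

namespace Cfsg.Agent.Helper7.SpOrd

open Matrix Module Cfsg.Agent.Helper8.SpS Cfsg.Agent.Helper8.SpStab Cfsg.Agent.Helper7.POrd

variable {F : Type*} [Field F] [Fintype F] {d t : ℕ}

/-- an adapted symplectic family of a nondegenerate subspace. -/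
theorem exists_family_of_nd {k : ℕ} {W : Submodule F (Fin d ⊕ Fin d → F)} (hW : ND (sB d F) W)
    (hdim : finrank F ↥W = 2 * k) :
    ∃ e f : Fin k → (Fin d ⊕ Fin d → F), (∀ l, e l ∈ W) ∧ (∀ l, f l ∈ W) ∧
      (∀ l l', Cfsg.sympForm d F (e l) (e l') = 0) ∧ (∀ l l', Cfsg.sympForm d F (f l) (f l') = 0) ∧
      (∀ l l', Cfsg.sympForm d F (e l) (f l') = if l = l' then 1 else 0) ∧
      W = Submodule.span F (Set.range e ∪ Set.range f) := by
  obtain ⟨B', hB'⟩ : ∃ B' : ↥W →ₗ[F] ↥W →ₗ[F] F, B' = (sB d F).compl₁₂ W.subtype W.subtype := ⟨_, rfl⟩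
  have happ : ∀ a b : ↥W, B' a b = Cfsg.sympForm d F (a : Fin d ⊕ Fin d → F) (b : Fin d ⊕ Fin d → F) := by
    intro a b
    rw [hB', ← sB_apply]
    rfl
  have hAlt : Alt B' := fun a => by rw [happ, ← sB_apply]; exact sB_alt _
  have hND : Nondeg B' := by
    intro u hu
    by_contra hne
    have hne' : (u : Fin d ⊕ Fin d → F) ≠ 0 := fun h => hne (Subtype.ext h)
    obtain ⟨v, hv, hv'⟩ := hW u u.2 hne'
    apply hv'
    have := hu ⟨v, hv⟩
    rw [happ] at this
    rw [sB_apply]
    exact this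
  obtain ⟨k', b, hb⟩ := exists_symp_basis B' hAlt hND
  have hk : k' = k := by
    have h1 := Module.finrank_eq_card_basis b
    rw [Fintype.card_sum, Fintype.card_fin] at h1
    omega
  subst hk
  refine ⟨fun l => (b (Sum.inl l) : Fin d ⊕ Fin d → F), fun l => (b (Sum.inr l) : Fin d ⊕ Fin d → F),
    fun l => (b (Sum.inl l)).2, fun l => (b (Sum.inr l)).2, ?_, ?_, ?_, ?_⟩
  · intro l l'
    rw [← happ, hb]
    rfl
  · intro l l'
    rw [← happ, hb]
    rfl
  · intro l l'
    rw [← happ, hb]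
    rfl
  · apply le_antisymm
    · intro x hx
      have h1 := b.sum_repr ⟨x, hx⟩
      have h2 := congrArg Subtype.val h1
      rw [Submodule.coe_sum] at h2
      suffices hs : (∑ i, (((b.repr ⟨x, hx⟩) i • b i : ↥W) : Fin d ⊕ Fin d → F)) ∈
          Submodule.span F ((Set.range fun l => ((b (Sum.inl l) : ↥W) : Fin d ⊕ Fin d → F)) ∪
            Set.range fun l => ((b (Sum.inr l) : ↥W) : Fin d ⊕ Fin d → F)) by
        rw [h2] at hs
        exact hs
      apply Submodule.sum_mem
      intro y _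
      rw [Submodule.coe_smul]
      apply Submodule.smul_mem
      apply Submodule.subset_span
      rcases y with l | l
      · exact Or.inl ⟨l, rfl⟩
      · exact Or.inr ⟨l, rfl⟩
    · rw [Submodule.span_le]
      rintro x (⟨l, rfl⟩ | ⟨l, rfl⟩)
      · exact (b (Sum.inl l)).2
      · exact (b (Sum.inr l)).2

/-- the standard decomposition attached to an indexing. -/
def stdDec {k : ℕ} (φ : Fin d ≃ Fin t × Fin k) (j : Fin t) : Submodule F (Fin d ⊕ Fin d → F) :=
  Submodule.span F (Set.range (fun l : Fin k => (Pi.single (Sum.inr (φ.symm (j, l))) 1 : Fin d ⊕ Fin d → F)) ∪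
    Set.range (fun l : Fin k => (Pi.single (Sum.inl (φ.symm (j, l))) 1 : Fin d ⊕ Fin d → F)))

/-- **transitivity**: every decomposition is the image of the standard one. -/
theorem od_exists_map {a k : ℕ} (hak : a = 2 * k) (φ : Fin d ≃ Fin t × Fin k)
    {D : Fin t → Submodule F (Fin d ⊕ Fin d → F)} (h : OD a D) :
    ∃ g : symplecticGroup (Fin d) F, ∀ j,
      D j = (stdDec (F := F) φ j).map (Matrix.toLin' (g : Matrix (Fin d ⊕ Fin d) (Fin d ⊕ Fin d) F)) := by
  classical
  have hfam : ∀ j, ∃ e f : Fin k → (Fin d ⊕ Fin d → F), (∀ l, e l ∈ D j) ∧ (∀ l, f l ∈ D j) ∧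
      (∀ l l', Cfsg.sympForm d F (e l) (e l') = 0) ∧ (∀ l l', Cfsg.sympForm d F (f l) (f l') = 0) ∧
      (∀ l l', Cfsg.sympForm d F (e l) (f l') = if l = l' then 1 else 0) ∧
      D j = Submodule.span F (Set.range e ∪ Set.range f) :=
    fun j => exists_family_of_nd (h.nd j) (by rw [h.dim j, hak])
  choose e f heD hfD hee hff hef hspan using hfam
  have horth : ∀ j j', j ≠ j' → ∀ u ∈ D j, ∀ v ∈ D j', Cfsg.sympForm d F u v = 0 := by
    intro j j' hjj' u hu v hv
    rw [← sB_apply]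
    exact mem_perp.mp (h.orth j j' hjj' hv) u hu
  obtain ⟨s, hs⟩ : ∃ s : Cfsg.Agent.Helper7.SpCP.SBas d F,
      s.1 = (fun i => e (φ i).1 (φ i).2, fun i => f (φ i).1 (φ i).2) := by
    refine ⟨⟨(fun i => e (φ i).1 (φ i).2, fun i => f (φ i).1 (φ i).2), ?_, ?_, ?_⟩, rfl⟩
    · intro i i'
      by_cases hb : (φ i).1 = (φ i').1
      · show Cfsg.sympForm d F (e (φ i).1 (φ i).2) (e (φ i').1 (φ i').2) = 0
        rw [← hb]
        exact hee _ _ _
      · exact horth _ _ hb _ (heD _ _) _ (heD _ _)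
    · intro i i'
      by_cases hb : (φ i).1 = (φ i').1
      · show Cfsg.sympForm d F (f (φ i).1 (φ i).2) (f (φ i').1 (φ i').2) = 0
        rw [← hb]
        exact hff _ _ _
      · exact horth _ _ hb _ (hfD _ _) _ (hfD _ _)
    · intro i i'
      show Cfsg.sympForm d F (e (φ i).1 (φ i).2) (f (φ i').1 (φ i').2) = _
      by_cases hb : (φ i).1 = (φ i').1
      · rw [← hb, hef]
        by_cases hii' : i = i'
        · rw [if_pos hii', if_pos (by rw [hii'])]
        · rw [if_neg hii', if_neg]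
          intro h2
          apply hii'
          apply φ.injective
          exact Prod.ext hb h2
      · rw [horth _ _ hb _ (heD _ _) _ (hfD _ _), if_neg]
        intro hii'
        exact hb (by rw [hii'])
  obtain ⟨g, hg⟩ : ∃ g : symplecticGroup (Fin d) F, Cfsg.Agent.Helper7.SpCP.sbasEquiv g = s :=
    ⟨Cfsg.Agent.Helper7.SpCP.sbasEquiv.symm s, Equiv.apply_symm_apply _ _⟩
  have hg1 : ∀ i, (g : Matrix (Fin d ⊕ Fin d) (Fin d ⊕ Fin d) F) *ᵥ Pi.single (Sum.inr i) 1 =
      e (φ i).1 (φ i).2 := by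
    intro i
    have h1 := congrArg (fun s : Cfsg.Agent.Helper7.SpCP.SBas d F => s.1.1 i) hg
    simp only [hs] at h1
    exact h1
  have hg2 : ∀ i, (g : Matrix (Fin d ⊕ Fin d) (Fin d ⊕ Fin d) F) *ᵥ Pi.single (Sum.inl i) 1 =
      f (φ i).1 (φ i).2 := by
    intro i
    have h1 := congrArg (fun s : Cfsg.Agent.Helper7.SpCP.SBas d F => s.1.2 i) hg
    simp only [hs] at h1
    exact h1
  refine ⟨g, fun j => ?_⟩
  unfold stdDec
  rw [Submodule.map_span, Set.image_union, ← Set.range_comp, ← Set.range_comp, hspan j]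
  congr 2
  · congr 1
    funext l
    show _ = Matrix.toLin' (g : Matrix (Fin d ⊕ Fin d) (Fin d ⊕ Fin d) F) (Pi.single (Sum.inr (φ.symm (j, l))) 1)
    rw [Matrix.toLin'_apply, hg1, Equiv.apply_symm_apply]
  · congr 1
    funext l
    show _ = Matrix.toLin' (g : Matrix (Fin d ⊕ Fin d) (Fin d ⊕ Fin d) F) (Pi.single (Sum.inl (φ.symm (j, l))) 1)
    rw [Matrix.toLin'_apply, hg2, Equiv.apply_symm_apply]

/-- the symplectic group acts on families of subspaces. -/
@[instance_reducible] noncomputable def mapAction :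
    MulAction (symplecticGroup (Fin d) F) (Fin t → Submodule F (Fin d ⊕ Fin d → F)) where
  smul g D := fun j => (D j).map (Matrix.toLin' (g : Matrix (Fin d ⊕ Fin d) (Fin d ⊕ Fin d) F))
  one_smul D := by
    funext j
    show (D j).map (Matrix.toLin' ((1 : symplecticGroup (Fin d) F) : Matrix (Fin d ⊕ Fin d) (Fin d ⊕ Fin d) F)) = D j
    have : ((1 : symplecticGroup (Fin d) F) : Matrix (Fin d ⊕ Fin d) (Fin d ⊕ Fin d) F) = 1 := rfl
    rw [this, Matrix.toLin'_one, Submodule.map_id]
  mul_smul g g' D := by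
    funext j
    show (D j).map (Matrix.toLin' ((g * g' : symplecticGroup (Fin d) F) : Matrix (Fin d ⊕ Fin d) (Fin d ⊕ Fin d) F)) =
      ((D j).map (Matrix.toLin' (g' : Matrix (Fin d ⊕ Fin d) (Fin d ⊕ Fin d) F))).map
        (Matrix.toLin' (g : Matrix (Fin d ⊕ Fin d) (Fin d ⊕ Fin d) F))
    have : ((g * g' : symplecticGroup (Fin d) F) : Matrix (Fin d ⊕ Fin d) (Fin d ⊕ Fin d) F) =
        (g : Matrix (Fin d ⊕ Fin d) (Fin d ⊕ Fin d) F) * (g' : Matrix (Fin d ⊕ Fin d) (Fin d ⊕ Fin d) F) := rfl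
    rw [this, Matrix.toLin'_mul, Submodule.map_comp]

/-- **the number of ordered decompositions divides the order of the symplectic group.** -/
theorem card_od_dvd {a k : ℕ} (hak : a = 2 * k) (hd : d = t * k)
    (hex : ∃ D : Fin t → Submodule F (Fin d ⊕ Fin d → F), OD a D) :
    Nat.card {D : Fin t → Submodule F (Fin d ⊕ Fin d → F) // OD a D} ∣
      Nat.card (symplecticGroup (Fin d) F) := by
  classical
  let _ := mapAction (F := F) (d := d) (t := t)
  obtain ⟨φ, -⟩ : ∃ φ : Fin d ≃ Fin t × Fin k, True := ⟨(finCongr hd).trans finProdFinEquiv.symm, trivial⟩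
  have hsm : ∀ (g : symplecticGroup (Fin d) F) (D : Fin t → Submodule F (Fin d ⊕ Fin d → F)),
      g • D = fun j => (D j).map (Matrix.toLin' (g : Matrix (Fin d ⊕ Fin d) (Fin d ⊕ Fin d) F)) := fun g D => rfl
  obtain ⟨D₁, hD₁⟩ := hex
  have hstd : OD a (stdDec (F := F) φ) := by
    obtain ⟨g₁, hg₁⟩ := od_exists_map hak φ hD₁
    have h1 : D₁ = g₁ • (stdDec (F := F) φ) := by
      rw [hsm]
      funext j
      exact hg₁ j
    have h2 : stdDec (F := F) φ = g₁⁻¹ • D₁ := by rw [h1, inv_smul_smul]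
    rw [h2, hsm]
    exact hD₁.map g₁⁻¹
  have hset : ∀ D : Fin t → Submodule F (Fin d ⊕ Fin d → F),
      OD a D ↔ D ∈ MulAction.orbit (symplecticGroup (Fin d) F) (stdDec (F := F) φ) := by
    intro D
    constructor
    · intro hD
      obtain ⟨g, hg⟩ := od_exists_map hak φ hD
      refine ⟨g, ?_⟩
      show g • (stdDec (F := F) φ) = D
      rw [hsm]
      funext j
      exact (hg j).symm
    · rintro ⟨g, rfl⟩
      show OD a (g • (stdDec (F := F) φ))
      rw [hsm]
      exact hstd.map g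
  rw [Nat.card_congr (Equiv.subtypeEquivRight hset)]
  have : Finite (symplecticGroup (Fin d) F) := Subtype.finite
  rw [Nat.card_congr (MulAction.orbitEquivQuotientStabilizer (symplecticGroup (Fin d) F) (stdDec (F := F) φ))]
  exact Dvd.intro _ (Subgroup.card_eq_card_quotient_mul_card_subgroup _).symm

end Cfsg.Agent.Helper7.SpOrd
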