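import Mathlib
import Cfsg.Agent.Helper7.SpOrdJ
import Cfsg.Agent.Helper7.POrdL

set_option autoImplicit false
set_option linter.unusedSectionVars false
set_option linter.unusedVariables false

/-!
A prime dividing the number of orthogonal decompositions divides the order of the symplectic group.
-/

namespace Cfsg.Agent.Helper7.SpOrd

open Matrix Module Cfsg.Agent.Helper8.SpS Cfsg.Agent.Helper8.SpStab Cfsg.Agent.Helper7.POrd

variable {F : Type*} [Field F] [Fintype F] {p : ℕ} [Fact p.Prime] [CharP F p] {r : ℕ} [Fact r.Prime]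

theorem cOf_dvd_of_dvd {i n : ℕ} (h : i ∣ 2 * n) : cOf i ∣ 2 * n := by
  unfold cOf
  split_ifs with hev
  · exact h
  · have hodd : Odd i := Nat.not_even_iff_odd.mp hev
    have hcop : Nat.Coprime i 2 := (Nat.coprime_comm.mp (Nat.coprime_two_left.mpr hodd))
    exact Nat.mul_dvd_mul_left 2 (hcop.dvd_of_dvd_mul_left h)

theorem cOf_le_of_dvd_card_symp (hrp : r ≠ p) {d : ℕ} (h : r ∣ Nat.card (symplecticGroup (Fin d) F)) :
    cOf (orderOf ((Fintype.card F : ℕ) : ZMod r)) ≤ 2 * d := by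
  have hr : r.Prime := Fact.out
  rw [Cfsg.Agent.Helper8.SpOrder.card_symp] at h
  rcases (Nat.Prime.dvd_mul hr).mp h with h1 | h1
  · exfalso
    have h2 := hr.dvd_of_dvd_pow h1
    apply card_natCast_ne_zero (F := F) hrp
    exact (ZMod.natCast_eq_zero_iff _ _).mpr h2
  · obtain ⟨j, hj, hj'⟩ := (Prime.dvd_finsetProd_iff hr.prime _).mp h1
    have h2 := orderOf_dvd_of_dvd_pow_sub_one hj'
    have h3 := cOf_dvd_of_dvd h2
    have h4 := Nat.le_of_dvd (by omega) h3
    have := Finset.mem_range.mp hj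
    omega

/-- a decomposition exists. -/
theorem exists_od (hr2 : r ≠ 2) (hrp : r ≠ p) {d a t : ℕ} (hat : 2 * d = a * t) (hae : Even a) :
    ∃ D : Fin t → Submodule F (Fin d ⊕ Fin d → F), OD a D := by
  have h1r : (1 : Module.End F (Fin d ⊕ Fin d → F)) ^ r = 1 := one_pow r
  have hfix : fixS (1 : Module.End F (Fin d ⊕ Fin d → F)) = ⊤ := by
    rw [eq_top_iff]
    intro v _
    rw [mem_fixS, Module.End.one_apply]
  have hdim : finrank F ↥(⊤ : Submodule F (Fin d ⊕ Fin d → F)) = a * t := by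
    rw [finrank_top, Module.finrank_fintype_fun_eq_card, Fintype.card_sum, Fintype.card_fin, ← hat]
    ring
  obtain ⟨D, -, -, h3, h4, h5, h6⟩ := exists_decomp hr2 hrp (sB_isAlt (F := F) d)
    (T := (1 : Module.End F (Fin d ⊕ Fin d → F))) (fun u v => rfl) h1r a hae t ⊤
    (Module.End.invtSubmodule.top_mem _) (sB_ND d) hdim (by
      rw [hfix, inf_top_eq, hdim, mul_comm a t]
      exact Nat.mul_le_mul_left t (Nat.mod_le _ _))
  exact ⟨D, h4, h3, h5, h6⟩

/-- **the counting hypothesis bounds the block size.** -/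
theorem cOf_le_of_dvd_card_od (hr2 : r ≠ 2) (hrp : r ≠ p) {d a t : ℕ} (hat : 2 * d = a * t) (ha : 0 < a)
    (hae : Even a)
    (h : r ∣ Nat.card {D : Fin t → Submodule F (Fin d ⊕ Fin d → F) // OD a D} / t.factorial) :
    cOf (orderOf ((Fintype.card F : ℕ) : ZMod r)) ≤ 2 * d := by
  obtain ⟨k, hk⟩ := hae
  have hak : a = 2 * k := by omega
  have hd : d = t * k := by
    rw [hak] at hat
    have : 2 * k * t = 2 * (t * k) := by ring
    omega
  have h1 := factorial_dvd_card_od (F := F) (d := d) (t := t) ha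
  have h2 := card_od_dvd (F := F) hak hd (exists_od hr2 hrp hat ⟨k, hk⟩)
  apply cOf_le_of_dvd_card_symp hrp
  refine Dvd.dvd.trans ?_ h2
  obtain ⟨n, hn⟩ := h1
  rw [hn, Nat.mul_div_cancel_left _ (Nat.factorial_pos t)] at h
  rw [hn]
  exact Dvd.dvd.mul_left h _

end Cfsg.Agent.Helper7.SpOrd
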