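import Mathlib
import Cfsg.Agent.Helper7.SpOrdK

set_option autoImplicit false
set_option linter.unusedSectionVars false
set_option linter.unusedVariables false

/-!
Elements of odd prime order `r ≠ p` of the symplectic group and imprimitive decompositions: the two directions.
-/

namespace Cfsg.Agent.Helper7.SpOrd

open Matrix Module Cfsg.Agent.Helper8.SpS Cfsg.Agent.Helper8.SpStab Cfsg.Agent.Helper7.POrd

variable {F : Type*} [Field F] [Fintype F] {p : ℕ} [Fact p.Prime] [CharP F p] {r : ℕ} [Fact r.Prime]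

theorem toLin'_symp_injective {d : ℕ} (g : symplecticGroup (Fin d) F) :
    Function.Injective (Matrix.toLin' (g : Matrix (Fin d ⊕ Fin d) (Fin d ⊕ Fin d) F)) := by
  have key : ∀ u, (Matrix.toLin' ((g⁻¹ : symplecticGroup (Fin d) F) : Matrix (Fin d ⊕ Fin d) (Fin d ⊕ Fin d) F))
      (Matrix.toLin' (g : Matrix (Fin d ⊕ Fin d) (Fin d ⊕ Fin d) F) u) = u := by
    intro u
    rw [← LinearMap.comp_apply, ← Matrix.toLin'_mul]
    have : ((g⁻¹ : symplecticGroup (Fin d) F) : Matrix (Fin d ⊕ Fin d) (Fin d ⊕ Fin d) F) *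
        (g : Matrix (Fin d ⊕ Fin d) (Fin d ⊕ Fin d) F) = 1 := by
      have := congrArg Subtype.val (inv_mul_cancel g)
      exact this
    rw [this, Matrix.toLin'_one, LinearMap.id_apply]
  intro u v huv
  rw [← key u, huv, key v]

/-- a scalar power of an isometry is `± 1`. -/
theorem scalar_sq_eq_one {d : ℕ} (hd : 1 ≤ d) {X : Module.End F (Fin d ⊕ Fin d → F)}
    (hiso : ∀ u v, sB d F (X u) (X v) = sB d F u v) {n : ℕ} {z : F}
    (hz : X ^ n = z • (1 : Module.End F (Fin d ⊕ Fin d → F))) : z * z = 1 := by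
  have hu0 : (Pi.single (Sum.inl ⟨0, by omega⟩) 1 : Fin d ⊕ Fin d → F) ≠ 0 := by
    intro h
    have := congrFun h (Sum.inl ⟨0, by omega⟩)
    rw [Pi.single_eq_same, Pi.zero_apply] at this
    exact one_ne_zero this
  obtain ⟨v, -, hv⟩ := sB_ND (F := F) d _ Submodule.mem_top hu0
  have h1 := iso_pow hiso n (Pi.single (Sum.inl ⟨0, by omega⟩) 1) v
  rw [hz, LinearMap.smul_apply, LinearMap.smul_apply, Module.End.one_apply, Module.End.one_apply, map_smul,
    map_smul, LinearMap.smul_apply, smul_eq_mul, smul_eq_mul] at h1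
  have h2 : (z * z - 1) * sB d F (Pi.single (Sum.inl ⟨0, by omega⟩) 1) v = 0 := by linear_combination h1
  rcases mul_eq_zero.mp h2 with h | h
  · linear_combination h
  · exact absurd h hv

theorem eq_one_of_sq_of_pow {z : F} (hr2 : r ≠ 2) (h2 : z * z = 1) (hr : z ^ r = 1) : z = 1 := by
  obtain ⟨k, hk⟩ := (Fact.out : r.Prime).odd_of_ne_two hr2
  rw [hk, pow_succ, pow_mul, pow_two, h2, one_pow, one_mul] at hr
  exact hr

theorem pow_succ_eq_one_of_sq {z : F} (hr2 : r ≠ 2) (h2 : z * z = 1) : z ^ r * z = 1 := by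
  obtain ⟨k, hk⟩ := (Fact.out : r.Prime).odd_of_ne_two hr2
  rw [hk, pow_succ, pow_mul, pow_two, h2, one_pow, one_mul, h2]

/-- the fixed space is at least the remainder. -/
theorem mod_le_finrank_fix (hr2 : r ≠ 2) (hrp : r ≠ p) {d : ℕ} {T : Module.End F (Fin d ⊕ Fin d → F)}
    (hiso : ∀ u v, sB d F (T u) (T v) = sB d F u v) (hT : T ^ r = 1) :
    (2 * d) % cOf (orderOf ((Fintype.card F : ℕ) : ZMod r)) ≤ finrank F ↥(fixS T) ∧
    cOf (orderOf ((Fintype.card F : ℕ) : ZMod r)) ∣ finrank F ↥(movS r T) := by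
  have hrF : (r : F) ≠ 0 := natCast_ne_zero_of_ne hrp
  have hmovnd : ND (sB d F) (movS r T) := by
    have := nd_inf_mov (sB_isAlt d).isRefl hiso hrF hT (Module.End.invtSubmodule.top_mem T) (sB_ND d)
    rwa [top_inf_eq] at this
  have hmovfix : movS r T ⊓ fixS T = ⊥ := by
    rw [inf_comm]
    exact (disjoint_fix_mov hrF T).eq_bot
  have hc := cOf_dvd_finrank hr2 hrp (sB_isAlt d) hiso hT _ _ rfl (movS_invt r T) hmovnd hmovfix
  refine ⟨?_, hc⟩
  have hsum := finrank_fix_add_mov hrF hT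
  rw [Module.finrank_fintype_fun_eq_card, Fintype.card_sum, Fintype.card_fin] at hsum
  obtain ⟨l, hl⟩ := hc
  have h2 : 2 * d = finrank F ↥(fixS T) + cOf (orderOf ((Fintype.card F : ℕ) : ZMod r)) * l := by omega
  rw [h2, Nat.add_mul_mod_self_left]
  exact Nat.mod_le _ _

/-- **backward direction**: the invariant decomposition. -/
theorem exists_invt_od (hr2 : r ≠ 2) (hrp : r ≠ p) {d a t : ℕ} (hd : 1 ≤ d) (hat : 2 * d = a * t) (hae : Even a)
    (hmod : (2 * d) % cOf (orderOf ((Fintype.card F : ℕ) : ZMod r)) =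
      t * (a % cOf (orderOf ((Fintype.card F : ℕ) : ZMod r))))
    (x : symplecticGroup (Fin d) F) {z : F}
    (hz : ((x ^ r : symplecticGroup (Fin d) F) : Matrix (Fin d ⊕ Fin d) (Fin d ⊕ Fin d) F) = z • 1) :
    ∃ D : Fin t → Submodule F (Fin d ⊕ Fin d → F), OD a D ∧
      ∀ j, (D j).map (Matrix.toLin' (x : Matrix (Fin d ⊕ Fin d) (Fin d ⊕ Fin d) F)) = D j := by
  obtain ⟨X, hX⟩ : ∃ X : Module.End F (Fin d ⊕ Fin d → F),
      X = Matrix.toLin' (x : Matrix (Fin d ⊕ Fin d) (Fin d ⊕ Fin d) F) := ⟨_, rfl⟩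
  have hXr : X ^ r = z • (1 : Module.End F (Fin d ⊕ Fin d → F)) := by
    rw [hX, toLin'_pow_symp, hz, map_smul, Matrix.toLin'_one]
    rfl
  have hisoX : ∀ u v, sB d F (X u) (X v) = sB d F u v := by
    intro u v
    rw [hX]
    exact sB_iso x u v
  have hz2 := scalar_sq_eq_one hd hisoX hXr
  have hz0 : z ≠ 0 := by
    intro h
    rw [h, mul_zero] at hz2
    exact zero_ne_one hz2
  obtain ⟨T, hTdef⟩ : ∃ T : Module.End F (Fin d ⊕ Fin d → F), T = z • X := ⟨_, rfl⟩
  have hT : T ^ r = 1 := by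
    rw [hTdef, _root_.smul_pow, hXr, smul_smul, pow_succ_eq_one_of_sq hr2 hz2, one_smul]
  have hisoT : ∀ u v, sB d F (T u) (T v) = sB d F u v := by
    intro u v
    rw [hTdef, LinearMap.smul_apply, LinearMap.smul_apply, map_smul, map_smul, LinearMap.smul_apply, smul_eq_mul,
      smul_eq_mul, hisoX, ← mul_assoc, hz2, one_mul]
  have hdim : finrank F ↥(⊤ : Submodule F (Fin d ⊕ Fin d → F)) = a * t := by
    rw [finrank_top, Module.finrank_fintype_fun_eq_card, Fintype.card_sum, Fintype.card_fin, ← hat]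
    ring
  obtain ⟨D, -, h2, h3, h4, h5, h6⟩ := exists_decomp hr2 hrp (sB_isAlt (F := F) d) hisoT hT a hae t ⊤
    (Module.End.invtSubmodule.top_mem _) (sB_ND d) hdim (by
      rw [top_inf_eq, ← hmod]
      exact (mod_le_finrank_fix hr2 hrp hisoT hT).1)
  refine ⟨D, ⟨h4, h3, h5, h6⟩, fun j => ?_⟩
  rw [← hX]
  have hle : (D j).map X ≤ D j := by
    have h7 := h2 j
    rw [Module.End.mem_invtSubmodule, ← Submodule.map_le_iff_le_comap, hTdef,
      Submodule.map_smul X (D j) z hz0] at h7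
    exact h7
  apply Submodule.eq_of_le_of_finrank_eq hle
  rw [hX]
  exact (Submodule.equivMapOfInjective _ (toLin'_symp_injective x) (D j)).finrank_eq.symm

end Cfsg.Agent.Helper7.SpOrd
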