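import Mathlib
import Cfsg.Agent.Helper7.SpOrdL

set_option autoImplicit false
set_option linter.unusedSectionVars false
set_option linter.unusedVariables false

/-!
Elements of odd prime order `r ≠ p` of the symplectic group and imprimitive decompositions: the forward direction.
-/

namespace Cfsg.Agent.Helper7.SpOrd

open Matrix Module Cfsg.Agent.Helper8.SpS Cfsg.Agent.Helper8.SpStab Cfsg.Agent.Helper7.POrd

variable {F : Type*} [Field F] [Fintype F] {p : ℕ} [Fact p.Prime] [CharP F p] {r : ℕ} [Fact r.Prime]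

/-- an element of order `r` is not scalar. -/
theorem not_scalar_of_pow (hr2 : r ≠ 2) {d : ℕ} (hd : 1 ≤ d) {x : symplecticGroup (Fin d) F} (hxr : x ^ r = 1)
    (hx1 : x ≠ 1) (z : F) : (x : Matrix (Fin d ⊕ Fin d) (Fin d ⊕ Fin d) F) ≠ z • 1 := by
  intro h
  obtain ⟨X, hX⟩ : ∃ X : Module.End F (Fin d ⊕ Fin d → F),
      X = Matrix.toLin' (x : Matrix (Fin d ⊕ Fin d) (Fin d ⊕ Fin d) F) := ⟨_, rfl⟩
  have hisoX : ∀ u v, sB d F (X u) (X v) = sB d F u v := by
    intro u v
    rw [hX]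
    exact sB_iso x u v
  have hX1 : X ^ 1 = z • (1 : Module.End F (Fin d ⊕ Fin d → F)) := by
    rw [pow_one, hX, h, map_smul, Matrix.toLin'_one]
    rfl
  have hz2 := scalar_sq_eq_one hd hisoX hX1
  have hXr : X ^ r = 1 := by
    rw [hX, toLin'_pow_symp, hxr]
    exact Matrix.toLin'_one
  rw [pow_one] at hX1
  rw [hX1, _root_.smul_pow, one_pow] at hXr
  have hzr : z ^ r = 1 := by
    have h1 := congrArg (fun f : Module.End F (Fin d ⊕ Fin d → F) =>
      f (Pi.single (Sum.inl ⟨0, by omega⟩) 1) (Sum.inl ⟨0, by omega⟩)) hXr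
    simp only [LinearMap.smul_apply, Module.End.one_apply, Pi.smul_apply, Pi.single_eq_same, smul_eq_mul,
      mul_one] at h1
    exact h1
  have hz1 := eq_one_of_sq_of_pow hr2 hz2 hzr
  apply hx1
  apply Subtype.ext
  rw [h, hz1, one_smul]
  rfl

theorem cOf_dvd_pred (hr2 : r ≠ 2) (hrp : r ≠ p) :
    cOf (orderOf ((Fintype.card F : ℕ) : ZMod r)) ∣ r - 1 := by
  obtain ⟨k, hk⟩ := (Fact.out : r.Prime).odd_of_ne_two hr2
  have h1 : orderOf ((Fintype.card F : ℕ) : ZMod r) ∣ r - 1 :=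
    orderOf_dvd_of_pow_eq_one (ZMod.pow_card_sub_one_eq_one (card_natCast_ne_zero (F := F) hrp))
  have h2 : r - 1 = 2 * k := by omega
  rw [h2] at h1 ⊢
  exact cOf_dvd_of_dvd h1

/-- **forward direction, first half**: the blocks are at least as large as the minimal blocks. -/
theorem cOf_le_of_all (hr2 : r ≠ 2) (hrp : r ≠ p) {d a t : ℕ} (hd : 1 ≤ d) (hat : 2 * d = a * t) (ha : 2 ≤ a)
    (hcle : cOf (orderOf ((Fintype.card F : ℕ) : ZMod r)) ≤ 2 * d)
    (hall : ∀ x : symplecticGroup (Fin d) F, x ^ r = 1 → x ≠ 1 →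
      ∃ D : Fin t → Submodule F (Fin d ⊕ Fin d → F), OD a D ∧ ∃ σ : Equiv.Perm (Fin t),
        ∀ j, (D j).map (Matrix.toLin' (x : Matrix (Fin d ⊕ Fin d) (Fin d ⊕ Fin d) F)) = D (σ j)) :
    cOf (orderOf ((Fintype.card F : ℕ) : ZMod r)) ≤ a := by
  by_contra hlt
  push Not at hlt
  have hrF : (r : F) ≠ 0 := natCast_ne_zero_of_ne hrp
  have hcpos := cOf_pos (orderOf_q_pos (F := F) hrp)
  obtain ⟨x, hxr, hx1, hxfix⟩ := exists_elt_blocks (F := F) hr2 hrp d 1 (by rw [mul_one]; exact hcle)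
  rw [mul_one] at hxfix
  obtain ⟨D, hD, σ, hσ⟩ := hall x hxr (hx1 le_rfl)
  obtain ⟨X, hX⟩ : ∃ X : Module.End F (Fin d ⊕ Fin d → F),
      X = Matrix.toLin' (x : Matrix (Fin d ⊕ Fin d) (Fin d ⊕ Fin d) F) := ⟨_, rfl⟩
  rw [← hX] at hxfix hσ
  have hisoX : ∀ u v, sB d F (X u) (X v) = sB d F u v := by
    intro u v
    rw [hX]
    exact sB_iso x u v
  have hXr : X ^ r = 1 := by
    rw [hX, toLin'_pow_symp, hxr]
    exact Matrix.toLin'_one
  have hrefl := (sB_isAlt (F := F) d).isRefl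
  by_cases hfixed : ∀ j, σ j = j
  · -- all members invariant, hence inside the fixed space
    have hinv : ∀ j, D j ∈ Module.End.invtSubmodule X := fun j =>
      invt_of_map_eq j (by rw [hσ j, hfixed j])
    have hle : ∀ j, D j ≤ fixS X := by
      intro j
      have hnd := nd_inf_mov hrefl hisoX hrF hXr (hinv j) (hD.nd j)
      have hfix : (D j ⊓ movS r X) ⊓ fixS X = ⊥ := by
        rw [eq_bot_iff]
        intro v hv
        have := (disjoint_fix_mov hrF X)
        rw [Submodule.disjoint_def] at this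
        exact (Submodule.mem_bot F).mpr (this v hv.2 hv.1.2)
      have hc := cOf_dvd_finrank hr2 hrp (sB_isAlt d) hisoX hXr _ _ rfl
        (inf_invt (hinv j) (movS_invt r X)) hnd hfix
      have hle' : finrank F ↥(D j ⊓ movS r X) ≤ a := by
        rw [← hD.dim j]
        exact Submodule.finrank_mono inf_le_left
      have h0 : finrank F ↥(D j ⊓ movS r X) = 0 := by
        obtain ⟨l, hl⟩ := hc
        rcases Nat.eq_zero_or_pos l with h | h
        · rw [hl, h, mul_zero]
        · exfalso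
          have : cOf (orderOf ((Fintype.card F : ℕ) : ZMod r)) ≤
              cOf (orderOf ((Fintype.card F : ℕ) : ZMod r)) * l := Nat.le_mul_of_pos_right _ h
          omega
      have hdec := invt_decomp hrF hXr (hinv j)
      rw [Submodule.finrank_eq_zero.mp h0, sup_bot_eq] at hdec
      rw [hdec]
      exact inf_le_right
    have htop : fixS X = ⊤ := by
      rw [eq_top_iff, ← hD.top]
      exact iSup_le hle
    rw [htop, finrank_top, Module.finrank_fintype_fun_eq_card, Fintype.card_sum, Fintype.card_fin] at hxfix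
    omega
  · push Not at hfixed
    obtain ⟨j₀, hj₀⟩ := hfixed
    have h1 := finrank_fix_le_of_moved hrefl (sB_ND d) hD.nd hD.orth (by omega) hD.dim hD.top hisoX hXr hσ hj₀
    rw [hxfix, ← hat] at h1
    have h2 := Nat.le_of_dvd (by have := (Fact.out : r.Prime).two_le; omega) (cOf_dvd_pred (F := F) hr2 hrp)
    have h3 : 2 * (r - 1) ≤ a * (r - 1) := Nat.mul_le_mul_right _ ha
    have := (Fact.out : r.Prime).two_le
    omega

/-- **forward direction, second half**: the remainders match. -/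
theorem mod_eq_of_all (hr2 : r ≠ 2) (hrp : r ≠ p) {d a t : ℕ} (hd : 1 ≤ d) (hat : 2 * d = a * t) (ht : 1 ≤ t)
    (hca : cOf (orderOf ((Fintype.card F : ℕ) : ZMod r)) ≤ a)
    (hall : ∀ x : symplecticGroup (Fin d) F, x ^ r = 1 → x ≠ 1 →
      ∃ D : Fin t → Submodule F (Fin d ⊕ Fin d → F), OD a D ∧ ∃ σ : Equiv.Perm (Fin t),
        ∀ j, (D j).map (Matrix.toLin' (x : Matrix (Fin d ⊕ Fin d) (Fin d ⊕ Fin d) F)) = D (σ j)) :
    (2 * d) % cOf (orderOf ((Fintype.card F : ℕ) : ZMod r)) =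
      t * (a % cOf (orderOf ((Fintype.card F : ℕ) : ZMod r))) := by
  have hrF : (r : F) ≠ 0 := natCast_ne_zero_of_ne hrp
  obtain ⟨c, hc⟩ : ∃ c, c = cOf (orderOf ((Fintype.card F : ℕ) : ZMod r)) := ⟨_, rfl⟩
  rw [← hc] at hca ⊢
  have hcpos : 0 < c := by rw [hc]; exact cOf_pos (orderOf_q_pos (F := F) hrp)
  have hle2d : c ≤ 2 * d := by
    have : a ≤ a * t := Nat.le_mul_of_pos_right a ht
    omega
  have hK : c * (2 * d / c) ≤ 2 * d := Nat.mul_div_le _ _
  have hK1 : 1 ≤ 2 * d / c := (Nat.one_le_div_iff hcpos).mpr hle2d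
  obtain ⟨x, hxr, hx1, hxfix⟩ := exists_elt_blocks (F := F) hr2 hrp d (2 * d / c) (by rw [← hc]; exact hK)
  rw [← hc] at hxfix
  have hρ : 2 * d - c * (2 * d / c) = (2 * d) % c := by
    have := Nat.div_add_mod (2 * d) c
    omega
  rw [hρ] at hxfix
  obtain ⟨D, hD, σ, hσ⟩ := hall x hxr (hx1 hK1)
  obtain ⟨X, hX⟩ : ∃ X : Module.End F (Fin d ⊕ Fin d → F),
      X = Matrix.toLin' (x : Matrix (Fin d ⊕ Fin d) (Fin d ⊕ Fin d) F) := ⟨_, rfl⟩
  rw [← hX] at hxfix hσ
  have hisoX : ∀ u v, sB d F (X u) (X v) = sB d F u v := by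
    intro u v
    rw [hX]
    exact sB_iso x u v
  have hXr : X ^ r = 1 := by
    rw [hX, toLin'_pow_symp, hxr]
    exact Matrix.toLin'_one
  have hrefl := (sB_isAlt (F := F) d).isRefl
  have hmodlt : (2 * d) % c < c := Nat.mod_lt _ hcpos
  by_cases hfixed : ∀ j, σ j = j
  · have hinv : ∀ j, D j ∈ Module.End.invtSubmodule X := fun j =>
      invt_of_map_eq j (by rw [hσ j, hfixed j])
    have hlow : ∀ j, a % c ≤ finrank F ↥(D j ⊓ fixS X) := by
      intro j
      have hnd := nd_inf_mov hrefl hisoX hrF hXr (hinv j) (hD.nd j)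
      have hfix : (D j ⊓ movS r X) ⊓ fixS X = ⊥ := by
        rw [eq_bot_iff]
        intro v hv
        have := (disjoint_fix_mov hrF X)
        rw [Submodule.disjoint_def] at this
        exact (Submodule.mem_bot F).mpr (this v hv.2 hv.1.2)
      have hcd := cOf_dvd_finrank hr2 hrp (sB_isAlt d) hisoX hXr _ _ rfl
        (inf_invt (hinv j) (movS_invt r X)) hnd hfix
      rw [← hc] at hcd
      obtain ⟨l, hl⟩ := hcd
      have hsum := finrank_invt_decomp hrF hXr (hinv j)
      rw [hD.dim j, hl] at hsum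
      rw [hsum, Nat.add_mul_mod_self_left]
      exact Nat.mod_le _ _
    have hsum := sum_fix_le hrp hrefl hD.nd hD.orth hisoX hXr hinv
    have hcard : t * (a % c) ≤ ∑ j : Fin t, finrank F ↥(D j ⊓ fixS X) := by
      have := Finset.card_nsmul_le_sum Finset.univ (fun j : Fin t => finrank F ↥(D j ⊓ fixS X)) (a % c)
        (fun j _ => hlow j)
      rwa [Finset.card_univ, Fintype.card_fin, smul_eq_mul] at this
    have hlt : t * (a % c) < c := by omega
    have hmod : (t * (a % c)) % c = (2 * d) % c := by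
      rw [hat, Nat.mul_mod, Nat.mod_mod, ← Nat.mul_mod, mul_comm]
    rw [← hmod, Nat.mod_eq_of_lt hlt]
  · exfalso
    push Not at hfixed
    obtain ⟨j₀, hj₀⟩ := hfixed
    have h1 := finrank_le_fix_of_moved hrefl hD.nd hD.orth (by omega) hD.dim hXr hσ hj₀
    omega

end Cfsg.Agent.Helper7.SpOrd
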