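import Mathlib
import Cfsg.Agent.Helper7.SpOrdM

/-!
# Totally isotropic cyclic subspaces via Chevalley–Warning
-/

set_option autoImplicit false

namespace Cfsg.Agent.Helper7.SpTI

open Module Polynomial Cfsg.Agent.Helper7.POrd Cfsg.Agent.Helper7.SpOrd

variable {F : Type*} [Field F]

/-- **Chevalley–Warning** for a family of bilinear forms: `e` forms on a space of dimension more than `2 e` have a
common nonzero isotropic vector. -/
theorem exists_common_zero [Finite F] {U : Type*} [AddCommGroup U] [Module F U] [FiniteDimensional F U]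
    {e : ℕ} (A : Fin e → LinearMap.BilinForm F U) (hdim : 2 * e < finrank F U) :
    ∃ u : U, u ≠ 0 ∧ ∀ j, A j u u = 0 := by
  classical
  haveI : Fintype F := Fintype.ofFinite F
  obtain ⟨p, hp⟩ := CharP.exists F
  haveI := hp
  haveI : Fact p.Prime := ⟨CharP.char_is_prime F p⟩
  obtain ⟨n, hn⟩ : ∃ n, n = finrank F U := ⟨_, rfl⟩
  let b : Basis (Fin n) F U := (finBasis F U).reindex (finCongr hn.symm)
  let f : Fin e → MvPolynomial (Fin n) F := fun j =>
    ∑ i, ∑ l, MvPolynomial.C (A j (b i) (b l)) * MvPolynomial.X i * MvPolynomial.X l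
  have hdeg1 : ∀ j, (f j).totalDegree ≤ 2 := by
    intro j
    refine (MvPolynomial.totalDegree_finsetSum_le (fun i _ => ?_))
    refine (MvPolynomial.totalDegree_finsetSum_le (fun l _ => ?_))
    refine le_trans (MvPolynomial.totalDegree_mul _ _) ?_
    refine le_trans (add_le_add (MvPolynomial.totalDegree_mul _ _) le_rfl) ?_
    rw [MvPolynomial.totalDegree_C, MvPolynomial.totalDegree_X, MvPolynomial.totalDegree_X]
  have hdeg : (∑ j, (f j).totalDegree) < Fintype.card (Fin n) := by
    rw [Fintype.card_fin]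
    have hdim' : 2 * e < n := by rw [hn]; exact hdim
    refine lt_of_le_of_lt ?_ hdim'
    calc (∑ j, (f j).totalDegree) ≤ ∑ _j : Fin e, 2 := Finset.sum_le_sum (fun j _ => hdeg1 j)
      _ = 2 * e := by rw [Finset.sum_const, Finset.card_univ, Fintype.card_fin, smul_eq_mul, mul_comm]
  have heval : ∀ (j : Fin e) (x : Fin n → F), MvPolynomial.eval x (f j) = A j (∑ i, x i • b i) (∑ i, x i • b i) := by
    intro j x
    simp only [f, map_sum, map_mul, MvPolynomial.eval_C, MvPolynomial.eval_X, LinearMap.sum_apply,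
      map_smul, LinearMap.smul_apply, smul_eq_mul]
    rw [Finset.sum_comm]
    refine Finset.sum_congr rfl (fun i _ => ?_)
    rw [Finset.mul_sum]
    refine Finset.sum_congr rfl (fun l _ => ?_)
    ring
  have hdvd := char_dvd_card_solutions_of_fintype_sum_lt p hdeg
  have h0 : ∀ j, MvPolynomial.eval (0 : Fin n → F) (f j) = 0 := by
    intro j
    rw [heval]; simp
  rw [Fintype.card_eq_nat_card] at hdvd
  have hcard : 1 < Nat.card { x : Fin n → F // ∀ j, MvPolynomial.eval x (f j) = 0 } := by
    have : Nonempty { x : Fin n → F // ∀ j, MvPolynomial.eval x (f j) = 0 } := ⟨⟨0, h0⟩⟩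
    have hpos : 0 < Nat.card { x : Fin n → F // ∀ j, MvPolynomial.eval x (f j) = 0 } := Nat.card_pos
    have := Nat.le_of_dvd hpos hdvd
    have := (Fact.out : p.Prime).two_le
    omega
  have := Finite.one_lt_card_iff_nontrivial.mp hcard
  obtain ⟨⟨x, hx⟩, ⟨y, hy⟩, hxy⟩ := exists_pair_ne { x : Fin n → F // ∀ j, MvPolynomial.eval x (f j) = 0 }
  have hne : ∃ z : Fin n → F, z ≠ 0 ∧ ∀ j, MvPolynomial.eval z (f j) = 0 := by
    by_cases hx0 : x = 0
    · refine ⟨y, ?_, hy⟩
      rintro rfl
      apply hxy
      exact Subtype.ext hx0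
    · exact ⟨x, hx0, hx⟩
  obtain ⟨z, hz0, hz⟩ := hne
  refine ⟨∑ i, z i • b i, ?_, fun j => by rw [← heval]; exact hz j⟩
  intro h
  apply hz0
  have := Fintype.linearIndependent_iff.mp b.linearIndependent z h
  exact funext this

variable {V : Type*} [AddCommGroup V] [Module F V]

/-- a span of pairwise orthogonal isotropic vectors is totally isotropic. -/
theorem ti_span {B : LinearMap.BilinForm F V} {S : Set V} (h : ∀ a ∈ S, ∀ b ∈ S, B a b = 0) :
    TI B (Submodule.span F S) := by
  intro x hx y hy
  have h1 : ∀ a ∈ S, Submodule.span F S ≤ LinearMap.ker (B a) := by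
    intro a ha
    rw [Submodule.span_le]
    intro b hb
    exact LinearMap.mem_ker.mpr (h a ha b hb)
  have h2 : Submodule.span F S ≤ LinearMap.ker (B.flip y) := by
    rw [Submodule.span_le]
    intro a ha
    rw [SetLike.mem_coe, LinearMap.mem_ker]
    change B a y = 0
    exact LinearMap.mem_ker.mp (h1 a ha hy)
  have := LinearMap.mem_ker.mp (h2 hx)
  change B x y = 0 at this
  exact this

/-- shifting both arguments by a power of an isometry. -/
theorem iso_shift {B : LinearMap.BilinForm F V} {T : Module.End F V} (hiso : ∀ u v, B (T u) (T v) = B u v)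
    (u : V) (s s' : ℕ) : B ((T ^ s) u) ((T ^ (s + s')) u) = B u ((T ^ s') u) := by
  induction s with
  | zero => simp
  | succ s ih =>
    have h1 : s + 1 + s' = (s + s') + 1 := by ring
    rw [h1, pow_succ', pow_succ', Module.End.mul_apply, Module.End.mul_apply, hiso, ih]

/-- **the window argument**: if `g(T) u = 0` with `g` monic of degree at most `2e`, and `u` is orthogonal to
`T^j u` for `1 ≤ j ≤ e`, then `u` is orthogonal to all `T^j u`. -/
theorem forall_pow_isotropic {B : LinearMap.BilinForm F V} (hB : B.IsAlt) {T : Module.End F V}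
    (hiso : ∀ u v, B (T u) (T v) = B u v) {g : F[X]} (hg : g.Monic) {e : ℕ} (hdeg : g.natDegree ≤ 2 * e)
    {u : V} (hgu : aeval T g u = 0) (h : ∀ j, 1 ≤ j → j ≤ e → B u ((T ^ j) u) = 0) :
    ∀ j, B u ((T ^ j) u) = 0 := by
  intro j
  induction j using Nat.strong_induction_on with
  | _ j ih =>
    rcases Nat.eq_zero_or_pos j with rfl | hj
    · rw [pow_zero, Module.End.one_apply]
      exact hB u
    by_cases hje : j ≤ e
    · exact h j hj hje
    rw [not_le] at hje
    obtain ⟨D, hD⟩ : ∃ D, D = g.natDegree := ⟨_, rfl⟩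
    have h0 : B ((T ^ D) u) ((T ^ j) (aeval T g u)) = 0 := by rw [hgu, map_zero, map_zero]
    rw [aeval_eq_sum_range, LinearMap.sum_apply, map_sum, map_sum, ← hD, Finset.sum_range_succ] at h0
    have hlast : B ((T ^ D) u) ((T ^ j) ((g.coeff D • T ^ D) u)) = B u ((T ^ j) u) := by
      rw [hD, coeff_natDegree, hg.leadingCoeff, one_smul, ← Module.End.mul_apply, ← pow_add, add_comm j,
        iso_shift hiso]
    have hrest : ∀ l ∈ Finset.range D, B ((T ^ D) u) ((T ^ j) ((g.coeff l • T ^ l) u)) = 0 := by
      intro l hl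
      have hl' : l < D := Finset.mem_range.mp hl
      rw [LinearMap.smul_apply, map_smul, map_smul, ← Module.End.mul_apply, ← pow_add]
      by_cases hc : D ≤ j + l
      · have h1 : j + l = D + (j + l - D) := by omega
        rw [h1, iso_shift hiso, ih (j + l - D) (by omega), smul_zero]
      · rw [not_le] at hc
        have h1 : D = (j + l) + (D - (j + l)) := by omega
        have h2 : B ((T ^ D) u) ((T ^ (j + l)) u) = - B ((T ^ (j + l)) u) ((T ^ D) u) :=
          (LinearMap.IsAlt.neg hB _ _).symm
        have h3 : B ((T ^ (j + l)) u) ((T ^ D) u) = 0 := by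
          rw [h1, iso_shift hiso]
          exact ih _ (by omega)
        rw [h2, h3, neg_zero, smul_zero]
    rw [Finset.sum_eq_zero hrest, zero_add, hlast] at h0
    exact h0

/-- the cyclic subspace of a vector killed by an irreducible polynomial has the degree as dimension. -/
theorem finrank_cyc_of_irred [FiniteDimensional F V] {g : F[X]} (hg : Irreducible g) {T : Module.End F V}
    {v : V} (hgv : aeval T g v = 0) (hv : v ≠ 0) : finrank F ↥(cyc T v g.natDegree) = g.natDegree := by
  have hli : LinearIndependent F (fun t : Fin g.natDegree => (T ^ (t : ℕ)) v) := by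
    rw [Fintype.linearIndependent_iff]
    intro c hc
    rw [← aeval_polyOf] at hc
    have h0 : polyOf c = 0 := by
      by_contra h0
      have hcop : IsCoprime g (polyOf c) :=
        (hg.coprime_iff_not_dvd).mpr (not_dvd_of_natDegree_lt h0 (polyOf_natDegree_lt c h0))
      obtain ⟨a, b, hab⟩ := hcop
      apply hv
      have h1 : v = aeval T (a * g + b * polyOf c) v := by
        rw [hab, map_one, Module.End.one_apply]
      rw [map_add, map_mul, map_mul, LinearMap.add_apply, Module.End.mul_apply, Module.End.mul_apply, hgv, hc,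
        map_zero, map_zero, add_zero] at h1
      exact h1
    intro s
    rw [← polyOf_coeff c s, h0, coeff_zero]
  unfold cyc
  rw [finrank_span_eq_card hli, Fintype.card_fin]

/-- **key lemma**: an invariant subspace killed by an irreducible polynomial `g`, of dimension more than `deg g`
(rounded up to an even number), contains a totally isotropic invariant subspace of dimension `deg g`. -/
theorem exists_ti_irred [Finite F] [FiniteDimensional F V] {B : LinearMap.BilinForm F V} (hB : B.IsAlt)
    {T : Module.End F V} (hiso : ∀ u v, B (T u) (T v) = B u v) {g : F[X]} (hg : Irreducible g) (hgm : g.Monic)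
    {e : ℕ} (hdeg : g.natDegree ≤ 2 * e) {U : Submodule F V} (hU : U ∈ Module.End.invtSubmodule T)
    (hUg : ∀ u ∈ U, aeval T g u = 0) (hdim : 2 * e < finrank F ↥U) :
    ∃ L : Submodule F V, L ≤ U ∧ L ∈ Module.End.invtSubmodule T ∧ TI B L ∧ finrank F ↥L = g.natDegree := by
  obtain ⟨A, hA⟩ : ∃ A : Fin e → LinearMap.BilinForm F ↥U,
      A = fun j : Fin e => B.compl₁₂ U.subtype ((T ^ ((j : ℕ) + 1)) ∘ₗ U.subtype) := ⟨_, rfl⟩
  obtain ⟨u, hu0, hu⟩ := exists_common_zero A hdim
  have hu0' : (u : V) ≠ 0 := fun h => hu0 (Subtype.ext h)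
  have hgu : aeval T g (u : V) = 0 := hUg _ u.2
  have h1 : ∀ j, 1 ≤ j → j ≤ e → B (u : V) ((T ^ j) (u : V)) = 0 := by
    intro j hj1 hje
    have := hu ⟨j - 1, by omega⟩
    rw [hA] at this
    simp only [LinearMap.compl₁₂_apply, LinearMap.comp_apply, Submodule.subtype_apply] at this
    rw [show j - 1 + 1 = j by omega] at this
    exact this
  have hall := forall_pow_isotropic hB hiso hgm hdeg hgu h1
  refine ⟨cyc T (u : V) g.natDegree, cyc_le hU u.2 _, cyc_invt T _ g hg.ne_zero hgu, ?_,
    finrank_cyc_of_irred hg hgu hu0'⟩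
  unfold cyc
  apply ti_span
  rintro _ ⟨s, rfl⟩ _ ⟨s', rfl⟩
  rcases le_total (s : ℕ) (s' : ℕ) with hss | hss
  · obtain ⟨k, hk⟩ := Nat.exists_eq_add_of_le hss
    simp only
    rw [hk, iso_shift hiso, hall]
  · obtain ⟨k, hk⟩ := Nat.exists_eq_add_of_le hss
    simp only
    rw [← LinearMap.IsAlt.neg hB, hk, iso_shift hiso, hall, neg_zero]

end Cfsg.Agent.Helper7.SpTI
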