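import Mathlib
import Cfsg.Agent.Helper7.SpTIB

/-!
# Hyperbolic splitting and ladders of totally isotropic invariant subspaces
-/

set_option autoImplicit false

namespace Cfsg.Agent.Helper7.SpTI

open Module Polynomial Cfsg.Agent.Helper7.POrd Cfsg.Agent.Helper7.SpOrd

variable {F : Type*} [Field F] {V : Type*} [AddCommGroup V] [Module F V]

/-- the sum of two orthogonal totally isotropic subspaces. -/
theorem ti_sup {B : LinearMap.BilinForm F V} (hB : B.IsRefl) {L₁ L₂ : Submodule F V} (h₁ : TI B L₁)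
    (h₂ : TI B L₂) (h12 : L₂ ≤ B.orthogonal L₁) : TI B (L₁ ⊔ L₂) := by
  intro x hx y hy
  obtain ⟨x₁, hx₁, x₂, hx₂, rfl⟩ := Submodule.mem_sup.mp hx
  obtain ⟨y₁, hy₁, y₂, hy₂, rfl⟩ := Submodule.mem_sup.mp hy
  have e1 : B x₁ y₂ = 0 := mem_perp.mp (h12 hy₂) x₁ hx₁
  have e2 : B x₂ y₁ = 0 := hB _ _ (mem_perp.mp (h12 hx₂) y₁ hy₁)
  rw [map_add, map_add, LinearMap.add_apply, LinearMap.add_apply, h₁ x₁ hx₁ y₁ hy₁, h₂ x₂ hx₂ y₂ hy₂, e1, e2]
  simp

theorem ti_mono {B : LinearMap.BilinForm F V} {L L' : Submodule F V} (h : TI B L) (hle : L' ≤ L) : TI B L' :=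
  fun u hu v hv => h u (hle hu) v (hle hv)

theorem perp_top_eq_bot {B : LinearMap.BilinForm F V} (hB : B.IsRefl) (hV : ND B ⊤) : B.orthogonal ⊤ = ⊥ := by
  rw [eq_bot_iff]
  intro x hx
  rw [Submodule.mem_bot]
  by_contra hne
  obtain ⟨v, -, hv⟩ := hV x Submodule.mem_top hne
  exact hv (hB _ _ (mem_perp.mp hx v Submodule.mem_top))

/-- the dimension of a relative orthogonal complement inside a nondegenerate subspace. -/
theorem finrank_perp_inf' [FiniteDimensional F V] {B : LinearMap.BilinForm F V} (hB : B.IsRefl) (hV : ND B ⊤)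
    {L M : Submodule F V} (hM : ND B M) (hLM : L ≤ M) :
    finrank F ↥L + finrank F ↥(B.orthogonal L ⊓ M) = finrank F ↥M := by
  have h1 := LinearMap.BilinForm.finrank_add_finrank_orthogonal hB L
  have h2 := LinearMap.BilinForm.finrank_add_finrank_orthogonal hB M
  rw [perp_top_eq_bot hB hV, inf_bot_eq, finrank_bot, add_zero] at h1 h2
  have hle : B.orthogonal M ≤ B.orthogonal L := LinearMap.BilinForm.orthogonal_le hLM
  have hsup : B.orthogonal M ⊔ (M ⊓ B.orthogonal L) = B.orthogonal L := by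
    rw [← sup_inf_assoc_of_le M hle, sup_comm, (isCompl_perp hB hM).sup_eq_top, top_inf_eq]
  have hdisj : B.orthogonal M ⊓ (M ⊓ B.orthogonal L) = ⊥ := by
    rw [eq_bot_iff, ← (isCompl_perp hB hM).inf_eq_bot]
    exact le_inf (inf_le_right.trans inf_le_left) inf_le_left
  have h3 := Submodule.finrank_sup_add_finrank_inf_eq (B.orthogonal M) (M ⊓ B.orthogonal L)
  rw [hsup, hdisj, finrank_bot, add_zero] at h3
  rw [inf_comm]
  omega

/-- **hyperbolic splitting**: a totally isotropic invariant subspace of a nondegenerate invariant subspace lies in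
a nondegenerate invariant subspace of twice the dimension. -/
theorem exists_hyp [FiniteDimensional F V] {B : LinearMap.BilinForm F V} (hB : B.IsAlt) (hV : ND B ⊤)
    {T : Module.End F V} (hiso : ∀ u v, B (T u) (T v) = B u v) {N : ℕ} (hN : 0 < N) (hTN : T ^ N = 1)
    (hss : T.IsSemisimple) {M L : Submodule F V} (hM : M ∈ Module.End.invtSubmodule T) (hMnd : ND B M)
    (hL : L ∈ Module.End.invtSubmodule T) (hLM : L ≤ M) (hLti : TI B L) :
    ∃ H : Submodule F V, L ≤ H ∧ H ≤ M ∧ H ∈ Module.End.invtSubmodule T ∧ ND B H ∧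
      finrank F ↥H = 2 * finrank F ↥L := by
  have hrefl := hB.isRefl
  obtain ⟨K, hK⟩ : ∃ K, K = B.orthogonal L ⊓ M := ⟨_, rfl⟩
  have hKinv : K ∈ Module.End.invtSubmodule T := by
    rw [hK]
    exact inf_invt (perp_invt hiso hN hTN hL) hM
  have hLK : L ≤ K := by
    rw [hK]
    refine le_inf ?_ hLM
    intro x hx
    rw [mem_perp]
    intro w hw
    exact hLti w hw x hx
  have hKM : K ≤ M := by rw [hK]; exact inf_le_right
  obtain ⟨Q, hQinv, hQ⟩ := (Module.End.isSemisimple_iff.mp hss) K hKinv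
  obtain ⟨L', hL'⟩ : ∃ L', L' = Q ⊓ M := ⟨_, rfl⟩
  have hL'inv : L' ∈ Module.End.invtSubmodule T := by rw [hL']; exact inf_invt hQinv hM
  have hL'M : L' ≤ M := by rw [hL']; exact inf_le_right
  have hKL' : K ⊓ L' = ⊥ := by
    rw [eq_bot_iff, ← hQ.inf_eq_bot, hL']
    exact inf_le_inf_left _ inf_le_left
  have hsup : K ⊔ L' = M := by
    rw [hL', ← sup_inf_assoc_of_le Q hKM, hQ.sup_eq_top, top_inf_eq]
  have hdK := finrank_perp_inf' hrefl hV hMnd hLM
  rw [← hK] at hdK
  have h3 := Submodule.finrank_sup_add_finrank_inf_eq K L'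
  rw [hsup, hKL', finrank_bot, add_zero] at h3
  have hdL' : finrank F ↥L' = finrank F ↥L := by omega
  have hLL' : L ⊓ L' = ⊥ := by
    rw [eq_bot_iff, ← hKL']
    exact inf_le_inf_right _ hLK
  refine ⟨L ⊔ L', le_sup_left, sup_le hLM hL'M, sup_invt hL hL'inv, ?_, ?_⟩
  · intro u hu hu0
    by_contra hcon
    push Not at hcon
    obtain ⟨a, ha, a', ha', rfl⟩ := Submodule.mem_sup.mp hu
    have ha'0 : a' = 0 := by
      have : a' ∈ K ⊓ L' := by
        refine ⟨?_, ha'⟩
        rw [hK]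
        refine ⟨?_, hL'M ha'⟩
        rw [SetLike.mem_coe, mem_perp]
        intro w hw
        have h1 := hcon w (Submodule.mem_sup_left hw)
        rw [map_add, LinearMap.add_apply, hLti a ha w hw, zero_add] at h1
        exact hrefl _ _ h1
      rw [hKL', Submodule.mem_bot] at this
      exact this
    rw [ha'0, add_zero] at hu0 hcon
    obtain ⟨v, hv, hv'⟩ := hMnd a (hLM ha) hu0
    apply hv'
    rw [← hsup] at hv
    obtain ⟨k, hk, l', hl', rfl⟩ := Submodule.mem_sup.mp hv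
    rw [map_add, hcon l' (Submodule.mem_sup_right hl'), add_zero]
    rw [hK] at hk
    exact mem_perp.mp hk.1 a ha
  · have h4 := Submodule.finrank_sup_add_finrank_inf_eq L L'
    rw [hLL', finrank_bot, add_zero] at h4
    omega

/-- **the ladder**: iterating a splitting step produces totally isotropic invariant subspaces of dimension
`D b`. -/
theorem exists_ti_ladder [FiniteDimensional F V] {B : LinearMap.BilinForm F V} (hB : B.IsAlt)
    {T : Module.End F V} (hiso : ∀ u v, B (T u) (T v) = B u v) {N : ℕ} (hN : 0 < N) (hTN : T ^ N = 1)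
    {D τ : ℕ}
    (step : ∀ M' : Submodule F V, M' ∈ Module.End.invtSubmodule T → ND B M' → M' ⊓ fixS T = ⊥ →
      τ < finrank F ↥M' → ∃ H L : Submodule F V, H ≤ M' ∧ H ∈ Module.End.invtSubmodule T ∧ ND B H ∧
        finrank F ↥H = 2 * D ∧ L ≤ H ∧ L ∈ Module.End.invtSubmodule T ∧ TI B L ∧ finrank F ↥L = D) :
    ∀ (b : ℕ) (M : Submodule F V), M ∈ Module.End.invtSubmodule T → ND B M → M ⊓ fixS T = ⊥ →
      τ + 2 * D * b < finrank F ↥M + 2 * D →
      ∃ L : Submodule F V, L ≤ M ∧ L ∈ Module.End.invtSubmodule T ∧ TI B L ∧ finrank F ↥L = D * b := by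
  have hrefl := hB.isRefl
  intro b
  induction b with
  | zero =>
    intro M _ _ _ _
    exact ⟨⊥, bot_le, Module.End.invtSubmodule.bot_mem T, ti_bot B, by simp⟩
  | succ b ih =>
    intro M hM hMnd hfix hdim
    have hτ : τ < finrank F ↥M := by
      have : 2 * D * (b + 1) = 2 * D * b + 2 * D := by ring
      omega
    obtain ⟨H, L₁, hHM, hHinv, hHnd, hHd, hL₁H, hL₁inv, hL₁ti, hL₁d⟩ := step M hM hMnd hfix hτ
    obtain ⟨M', hM'⟩ : ∃ M', M' = B.orthogonal H ⊓ M := ⟨_, rfl⟩
    have hM'inv : M' ∈ Module.End.invtSubmodule T := by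
      rw [hM']; exact inf_invt (perp_invt hiso hN hTN hHinv) hM
    have hM'nd : ND B M' := by rw [hM']; exact nd_perp_inf hrefl hHnd hMnd hHM
    have hM'd := finrank_perp_inf hrefl hHnd hHM
    rw [← hM'] at hM'd
    have hM'fix : M' ⊓ fixS T = ⊥ := by
      rw [eq_bot_iff, ← hfix, hM']
      exact inf_le_inf_right _ inf_le_right
    have hdim' : τ + 2 * D * b < finrank F ↥M' + 2 * D := by
      have : 2 * D * (b + 1) = 2 * D * b + 2 * D := by ring
      omega
    obtain ⟨L', hL'M', hL'inv, hL'ti, hL'd⟩ := ih M' hM'inv hM'nd hM'fix hdim'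
    have hL'H : L' ≤ B.orthogonal H := hL'M'.trans (by rw [hM']; exact inf_le_left)
    have hL'L₁ : L' ≤ B.orthogonal L₁ := hL'H.trans (LinearMap.BilinForm.orthogonal_le hL₁H)
    refine ⟨L₁ ⊔ L', sup_le (hL₁H.trans hHM) (hL'M'.trans (by rw [hM']; exact inf_le_right)),
      sup_invt hL₁inv hL'inv, ti_sup hrefl hL₁ti hL'ti hL'L₁, ?_⟩
    have hdisj : L₁ ⊓ L' = ⊥ := by
      rw [eq_bot_iff, ← ((nd_iff_disjoint hrefl).mp hHnd).eq_bot]
      exact inf_le_inf hL₁H hL'H
    have h4 := Submodule.finrank_sup_add_finrank_inf_eq L₁ L'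
    rw [hdisj, finrank_bot, add_zero] at h4
    rw [h4, hL₁d, hL'd]
    ring

end Cfsg.Agent.Helper7.SpTI
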