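import Mathlib
import Cfsg.Agent.Helper7.SpTIC

/-!
# Counting totally isotropic subspaces of a nondegenerate reflexive space
-/

set_option autoImplicit false

namespace Cfsg.Agent.Helper7.SpTI

open Module Cfsg.Agent.Helper7.POrd Cfsg.Agent.Helper7.SpOrd

variable {F : Type*} [Field F] {V : Type*} [AddCommGroup V] [Module F V]

/-- linearly independent tuples of pairwise orthogonal isotropic vectors. -/
abbrev TIInd (B : LinearMap.BilinForm F V) (k : ℕ) : Type _ :=
  {s : Fin k → V // LinearIndependent F s ∧ ∀ a b, B (s a) (s b) = 0}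

/-- totally isotropic subspaces of dimension `m`. -/
abbrev TISub (B : LinearMap.BilinForm F V) (m : ℕ) : Type _ :=
  {W : Submodule F V // finrank F ↥W = m ∧ TI B W}

theorem ti_span_range {B : LinearMap.BilinForm F V} {k : ℕ} {s : Fin k → V} (h : ∀ a b, B (s a) (s b) = 0) :
    TI B (Submodule.span F (Set.range s)) := by
  apply ti_span
  rintro _ ⟨a, rfl⟩ _ ⟨b, rfl⟩
  exact h a b

/-- the recursion for isotropic tuples. -/
def tiIndEquiv (B : LinearMap.BilinForm F V) (hB : B.IsAlt) (k : ℕ) :
    TIInd B (k + 1) ≃ Σ s : TIInd B k,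
      ↥(((B.orthogonal (Submodule.span F (Set.range s.1)) : Submodule F V) : Set V) \
        ((Submodule.span F (Set.range s.1) : Submodule F V) : Set V)) where
  toFun s := ⟨⟨Fin.tail s.1, (linearIndependent_finSucc.mp s.2.1).1, fun a b => s.2.2 a.succ b.succ⟩,
    ⟨s.1 0, by
      refine ⟨?_, (linearIndependent_finSucc.mp s.2.1).2⟩
      rw [SetLike.mem_coe, mem_perp]
      intro w hw
      have h1 : Submodule.span F (Set.range (Fin.tail s.1)) ≤ LinearMap.ker (B.flip (s.1 0)) := by
        rw [Submodule.span_le]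
        rintro _ ⟨a, rfl⟩
        rw [SetLike.mem_coe, LinearMap.mem_ker]
        exact s.2.2 a.succ 0
      exact LinearMap.mem_ker.mp (h1 hw)⟩⟩
  invFun s := ⟨Fin.cons s.2.1 s.1.1, linearIndependent_finCons.mpr ⟨s.1.2.1, s.2.2.2⟩, by
    have hv : ∀ b, B (s.1.1 b) s.2.1 = 0 := fun b =>
      mem_perp.mp s.2.2.1 _ (Submodule.subset_span ⟨b, rfl⟩)
    intro a b
    refine Fin.cases ?_ (fun a' => ?_) a <;> refine Fin.cases ?_ (fun b' => ?_) b
    · simp only [Fin.cons_zero]
      exact hB _
    · simp only [Fin.cons_zero, Fin.cons_succ]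
      exact hB.isRefl _ _ (hv b')
    · simp only [Fin.cons_zero, Fin.cons_succ]
      exact hv a'
    · simp only [Fin.cons_succ]
      exact s.1.2.2 a' b'⟩
  left_inv s := by
    apply Subtype.ext
    simp only [Fin.cons_self_tail]
  right_inv := fun ⟨⟨s, hs⟩, ⟨v, hv⟩⟩ => rfl

/-- **the number of isotropic tuples.** -/
theorem card_tiInd [Fintype F] [Finite V] {B : LinearMap.BilinForm F V} (hB : B.IsAlt) (hV : ND B ⊤) :
    ∀ k : ℕ, Nat.card (TIInd B k) =
      ∏ j : Fin k, (Fintype.card F ^ (finrank F V - (j : ℕ)) - Fintype.card F ^ (j : ℕ)) := by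
  classical
  have hfd : FiniteDimensional F V := Module.Finite.of_finite
  intro k
  induction k with
  | zero =>
    rw [Finset.univ_eq_empty, Finset.prod_empty]
    haveI : Unique (TIInd B 0) :=
      { default := ⟨Fin.elim0, linearIndependent_empty_type, fun a => a.elim0⟩
        uniq := fun s => Subtype.ext (funext fun a => a.elim0) }
    exact Nat.card_unique
  | succ k ih =>
    haveI : Fintype (TIInd B k) := Fintype.ofFinite _
    rw [Nat.card_congr (tiIndEquiv B hB k), Nat.card_sigma, Fin.prod_univ_castSucc]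
    have hfib : ∀ s : TIInd B k,
        Nat.card ↥(((B.orthogonal (Submodule.span F (Set.range s.1)) : Submodule F V) : Set V) \
          ((Submodule.span F (Set.range s.1) : Submodule F V) : Set V)) =
        Fintype.card F ^ (finrank F V - k) - Fintype.card F ^ k := by
      intro s
      have hle : ((Submodule.span F (Set.range s.1) : Submodule F V) : Set V) ⊆
          ((B.orthogonal (Submodule.span F (Set.range s.1)) : Submodule F V) : Set V) := by
        intro x hx
        rw [SetLike.mem_coe, mem_perp]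
        intro w hw
        exact ti_span_range s.2.2 w hw x hx
      rw [Nat.card_coe_set_eq, Set.ncard_sdiff hle (Set.toFinite _), ← Nat.card_coe_set_eq,
        ← Nat.card_coe_set_eq]
      have h1 : Nat.card ↥(Submodule.span F (Set.range s.1)) = Fintype.card F ^ k := by
        rw [Module.natCard_eq_pow_finrank (K := F), finrank_span_eq_card s.2.1, Fintype.card_fin,
          Nat.card_eq_fintype_card]
      have h2 : Nat.card ↥(B.orthogonal (Submodule.span F (Set.range s.1))) =
          Fintype.card F ^ (finrank F V - k) := by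
        rw [Module.natCard_eq_pow_finrank (K := F), Nat.card_eq_fintype_card]
        congr 1
        have h3 := finrank_perp_inf' hB.isRefl hV hV (le_top : Submodule.span F (Set.range s.1) ≤ ⊤)
        rw [inf_top_eq, finrank_top, finrank_span_eq_card s.2.1, Fintype.card_fin] at h3
        omega
      exact congrArg₂ (· - ·) h2 h1
    rw [Finset.sum_congr rfl (fun s _ => hfib s), Finset.sum_const, Finset.card_univ, smul_eq_mul,
      ← Nat.card_eq_fintype_card, ih]
    simp only [Fin.val_castSucc, Fin.val_last]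

/-- the span of an isotropic tuple. -/
noncomputable def tiSpanOf (B : LinearMap.BilinForm F V) (m : ℕ) (s : TIInd B m) : TISub B m :=
  ⟨Submodule.span F (Set.range s.1), by rw [finrank_span_eq_card s.2.1, Fintype.card_fin], ti_span_range s.2.2⟩

/-- the fibre of the span map over `W` is the set of bases of `W`. -/
noncomputable def tiFibreEquiv [FiniteDimensional F V] (B : LinearMap.BilinForm F V) (m : ℕ) (W : TISub B m) :
    {s : TIInd B m // tiSpanOf B m s = W} ≃ Ind F ↥W.1 m where
  toFun s := ⟨fun i => ⟨s.1.1 i, by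
      have h1 : (tiSpanOf B m s.1).1 = W.1 := by rw [s.2]
      rw [← h1]
      exact Submodule.subset_span ⟨i, rfl⟩⟩, by
    apply LinearIndependent.of_comp W.1.subtype
    exact s.1.2.1⟩
  invFun e := ⟨⟨fun i => (e.1 i : V), e.2.map' W.1.subtype (Submodule.ker_subtype _),
      fun a b => W.2.2 _ (e.1 a).2 _ (e.1 b).2⟩, by
    apply Subtype.ext
    exact span_eq_of_li W.1 W.2.1 (e.2.map' W.1.subtype (Submodule.ker_subtype _)) (fun i => (e.1 i).2)⟩
  left_inv s := by
    apply Subtype.ext
    apply Subtype.ext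
    rfl
  right_inv e := by
    apply Subtype.ext
    rfl

/-- **the number of totally isotropic `m`-spaces**, in product form. -/
theorem card_tiSub_mul [Fintype F] [Finite V] {B : LinearMap.BilinForm F V} (hB : B.IsAlt) (hV : ND B ⊤)
    (m : ℕ) (hm : 2 * m ≤ finrank F V) :
    Nat.card (TISub B m) * ∏ j : Fin m, (Fintype.card F ^ (m - (j : ℕ)) - 1) =
      ∏ j : Fin m, (Fintype.card F ^ (finrank F V - 2 * (j : ℕ)) - 1) := by
  classical
  have hfd : FiniteDimensional F V := Module.Finite.of_finite
  letI : Fintype (TISub B m) := Fintype.ofFinite _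
  have h0 := card_tiInd hB hV m
  rw [Nat.card_congr (Equiv.sigmaFiberEquiv (tiSpanOf B m)).symm, Nat.card_sigma] at h0
  have h : ∀ W : TISub B m, Nat.card {s : TIInd B m // tiSpanOf B m s = W} =
      ∏ i : Fin m, (Fintype.card F ^ m - Fintype.card F ^ (i : ℕ)) := by
    intro W
    rw [Nat.card_congr (tiFibreEquiv B m W)]
    have := card_linearIndependent (K := F) (V := ↥W.1) (k := m) (le_of_eq W.2.1.symm)
    rw [W.2.1] at this
    exact this
  rw [Finset.sum_congr rfl (fun P _ => h P), Finset.sum_const, Finset.card_univ, smul_eq_mul,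
    ← Nat.card_eq_fintype_card, prod_split _ m m le_rfl] at h0
  have hsplit : ∏ j : Fin m, (Fintype.card F ^ (finrank F V - (j : ℕ)) - Fintype.card F ^ (j : ℕ)) =
      (∏ j : Fin m, Fintype.card F ^ (j : ℕ)) *
        ∏ j : Fin m, (Fintype.card F ^ (finrank F V - 2 * (j : ℕ)) - 1) := by
    rw [← Finset.prod_mul_distrib]
    apply Finset.prod_congr rfl
    intro j _
    have hj : 2 * (j : ℕ) ≤ finrank F V := by have := j.2; omega
    rw [Nat.mul_sub, mul_one, ← pow_add]
    congr 2
    omega
  rw [hsplit] at h0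
  have hpos : 0 < ∏ i : Fin m, Fintype.card F ^ (i : ℕ) :=
    Finset.prod_pos (fun i _ => pow_pos Fintype.card_pos _)
  apply Nat.eq_of_mul_eq_mul_left hpos
  rw [← h0]
  ring

/-- the characteristic does not divide the number of totally isotropic `m`-spaces. -/
theorem char_not_dvd_card_tiSub [Fintype F] [Finite V] {p : ℕ} [Fact p.Prime] [CharP F p]
    {B : LinearMap.BilinForm F V} (hB : B.IsAlt) (hV : ND B ⊤) (m : ℕ) (hm : 2 * m ≤ finrank F V) :
    ¬ p ∣ Nat.card (TISub B m) := by
  intro hdvd
  have hp : p.Prime := Fact.out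
  have h1 : p ∣ ∏ j : Fin m, (Fintype.card F ^ (finrank F V - 2 * (j : ℕ)) - 1) := by
    rw [← card_tiSub_mul hB hV m hm]
    exact Dvd.dvd.mul_right hdvd _
  rw [hp.prime.dvd_finsetProd_iff] at h1
  obtain ⟨j, -, hj⟩ := h1
  have hpq : p ∣ Fintype.card F := char_dvd_card
  have hpos : 0 < finrank F V - 2 * (j : ℕ) := by have := j.2; omega
  have hpq' : p ∣ Fintype.card F ^ (finrank F V - 2 * (j : ℕ)) := dvd_pow hpq (by omega)
  have hge : 1 ≤ Fintype.card F ^ (finrank F V - 2 * (j : ℕ)) := Nat.one_le_pow _ _ Fintype.card_pos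
  have h2 : p ∣ 1 := by
    have := Nat.dvd_sub hpq' hj
    rwa [Nat.sub_sub_self hge] at this
  exact hp.one_lt.ne' (Nat.dvd_one.mp h2)

/-- a prime dividing the number of totally isotropic `m`-spaces divides some `q^(n - 2j) - 1`, `j < m`. -/
theorem exists_dvd_of_dvd_card_tiSub [Fintype F] [Finite V] {B : LinearMap.BilinForm F V} (hB : B.IsAlt)
    (hV : ND B ⊤) (m : ℕ) (hm : 2 * m ≤ finrank F V) {r : ℕ} (hr : r.Prime) (h : r ∣ Nat.card (TISub B m)) :
    ∃ j < m, r ∣ Fintype.card F ^ (finrank F V - 2 * j) - 1 := by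
  have h1 : r ∣ ∏ j : Fin m, (Fintype.card F ^ (finrank F V - 2 * (j : ℕ)) - 1) := by
    rw [← card_tiSub_mul hB hV m hm]
    exact Dvd.dvd.mul_right h _
  rw [hr.prime.dvd_finsetProd_iff] at h1
  obtain ⟨j, -, hj⟩ := h1
  exact ⟨j, j.2, hj⟩

end Cfsg.Agent.Helper7.SpTI
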