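import Mathlib
import Cfsg.Agent.Helper7.SpTIC
import Cfsg.Agent.Helper8.SemiSCyclo

/-!
# Totally isotropic invariant subspaces in the moved space of an isometry of odd prime order
-/

set_option autoImplicit false

namespace Cfsg.Agent.Helper7.SpTI

open Module Polynomial Cfsg.Agent.Helper7.POrd Cfsg.Agent.Helper7.SpOrd

section general

variable {F : Type*} [Field F] {V : Type*} [AddCommGroup V] [Module F V]

/-- the kernel of a product of pairwise coprime polynomials, inside an invariant subspace. -/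
theorem finrank_inf_ker_prod_le [FiniteDimensional F V] (T : Module.End F V) {M' : Submodule F V}
    (hM' : M' ∈ Module.End.invtSubmodule T) {ι : Type*} [DecidableEq ι] (g : ι → F[X]) (S : Finset ι)
    (hcop : ∀ j ∈ S, ∀ l ∈ S, j ≠ l → IsCoprime (g j) (g l)) :
    finrank F ↥(M' ⊓ LinearMap.ker (aeval T (∏ j ∈ S, g j))) ≤
      ∑ j ∈ S, finrank F ↥(M' ⊓ LinearMap.ker (aeval T (g j))) := by
  induction S using Finset.induction_on with
  | empty =>
    rw [Finset.prod_empty, Finset.sum_empty, map_one, Nat.le_zero, Submodule.finrank_eq_zero, eq_bot_iff]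
    rintro v ⟨-, hv⟩
    rw [SetLike.mem_coe, LinearMap.mem_ker, Module.End.one_apply] at hv
    exact (Submodule.mem_bot F).mpr hv
  | insert a S ha ih =>
    rw [Finset.prod_insert ha, Finset.sum_insert ha]
    have hcop' : IsCoprime (g a) (∏ j ∈ S, g j) := by
      apply IsCoprime.prod_right
      intro j hj
      exact hcop a (Finset.mem_insert_self a S) j (Finset.mem_insert_of_mem hj) (fun h => ha (h ▸ hj))
    have hih := ih (fun j hj l hl => hcop j (Finset.mem_insert_of_mem hj) l (Finset.mem_insert_of_mem hl))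
    have hle : M' ⊓ LinearMap.ker (aeval T (g a * ∏ j ∈ S, g j)) ≤
        (M' ⊓ LinearMap.ker (aeval T (g a))) ⊔ (M' ⊓ LinearMap.ker (aeval T (∏ j ∈ S, g j))) := by
      rintro v ⟨hvM, hv⟩
      rw [SetLike.mem_coe, LinearMap.mem_ker] at hv
      obtain ⟨x, y, hxy⟩ := hcop'
      have h1 : v = aeval T (y * ∏ j ∈ S, g j) v + aeval T (x * g a) v := by
        rw [← LinearMap.add_apply, ← map_add, add_comm, hxy, map_one, Module.End.one_apply]
      rw [h1]
      apply Submodule.add_mem_sup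
      · refine ⟨invt_aeval_apply hM' _ hvM, ?_⟩
        rw [SetLike.mem_coe, LinearMap.mem_ker, ← Module.End.mul_apply, ← map_mul]
        have : g a * (y * ∏ j ∈ S, g j) = y * (g a * ∏ j ∈ S, g j) := by ring
        rw [this, map_mul, Module.End.mul_apply, hv, map_zero]
      · refine ⟨invt_aeval_apply hM' _ hvM, ?_⟩
        rw [SetLike.mem_coe, LinearMap.mem_ker, ← Module.End.mul_apply, ← map_mul]
        have : (∏ j ∈ S, g j) * (x * g a) = x * (g a * ∏ j ∈ S, g j) := by ring
        rw [this, map_mul, Module.End.mul_apply, hv, map_zero]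
    calc finrank F ↥(M' ⊓ LinearMap.ker (aeval T (g a * ∏ j ∈ S, g j)))
        ≤ finrank F ↥((M' ⊓ LinearMap.ker (aeval T (g a))) ⊔ (M' ⊓ LinearMap.ker (aeval T (∏ j ∈ S, g j)))) :=
          Submodule.finrank_mono hle
      _ ≤ finrank F ↥(M' ⊓ LinearMap.ker (aeval T (g a))) +
            finrank F ↥(M' ⊓ LinearMap.ker (aeval T (∏ j ∈ S, g j))) := Submodule.finrank_add_le_finrank_add_finrank _ _
      _ ≤ _ := Nat.add_le_add_left hih _

end general

variable {F : Type*} [Field F] [Fintype F] {V : Type*} [AddCommGroup V] [Module F V] [Finite V]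
  {p : ℕ} [Fact p.Prime] [CharP F p] {r : ℕ} [Fact r.Prime]

/-- the order of `q` modulo `r` divides `r - 1`. -/
theorem orderOf_q_dvd (hrp : r ≠ p) : orderOf ((Fintype.card F : ℕ) : ZMod r) ∣ r - 1 := by
  apply orderOf_dvd_of_pow_eq_one
  exact ZMod.pow_card_sub_one_eq_one (card_natCast_ne_zero (F := F) hrp)

/-- **pigeonhole**: an invariant subspace without fixed vectors of dimension more than `r - 1` has a homogeneous
component of dimension more than `i`. -/
theorem exists_big_component (hrp : r ≠ p) {T : Module.End F V} (hT : T ^ r = 1) {M' : Submodule F V}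
    (hM' : M' ∈ Module.End.invtSubmodule T) (hfix : M' ⊓ fixS T = ⊥) (hbig : r - 1 < finrank F ↥M') :
    ∃ g : F[X], Irreducible g ∧ g.Monic ∧ g.natDegree = orderOf ((Fintype.card F : ℕ) : ZMod r) ∧
      orderOf ((Fintype.card F : ℕ) : ZMod r) < finrank F ↥(M' ⊓ LinearMap.ker (aeval T g)) := by
  classical
  have hfd : FiniteDimensional F V := Module.Finite.of_finite
  have hr : r.Prime := Fact.out
  obtain ⟨i, hi⟩ : ∃ i, i = orderOf ((Fintype.card F : ℕ) : ZMod r) := ⟨_, rfl⟩
  have hipos : 0 < i := by rw [hi]; exact orderOf_q_pos hrp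
  obtain ⟨t, ht⟩ : ∃ t, t * i = r - 1 := by
    obtain ⟨t, ht⟩ := orderOf_q_dvd (F := F) hrp
    exact ⟨t, by rw [hi, ht, mul_comm]⟩
  obtain ⟨Q', hinj, hQ', -⟩ := Cfsg.Agent.Helper8.SemiS.exists_cyclotomic_factors (F := F) p r hr hrp i t hi ht
  rw [← hi]
  by_contra hcon
  push Not at hcon
  have hcop : ∀ j ∈ (Finset.univ : Finset (Fin t)), ∀ l ∈ (Finset.univ : Finset (Fin t)), j ≠ l →
      IsCoprime (Q' j) (Q' l) := by
    intro j _ l _ hjl
    rw [(hQ' j).2.1.coprime_iff_not_dvd]
    intro hdvd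
    apply hjl
    apply hinj
    have hassoc : Associated (Q' j) (Q' l) := (hQ' j).2.1.associated_of_dvd (hQ' l).2.1 hdvd
    exact eq_of_monic_of_associated (hQ' j).1 (hQ' l).1 hassoc
  have hprod : ∏ j, Q' j = cyclotomic r F := by
    have hdvd : ∏ j, Q' j ∣ cyclotomic r F := by
      apply Finset.prod_dvd_of_coprime
      · intro j _ l _ hjl
        exact hcop j (Finset.mem_univ _) l (Finset.mem_univ _) hjl
      · intro j _
        exact (hQ' j).2.2.2
    have hmon : (∏ j, Q' j).Monic := monic_prod_of_monic _ _ (fun j _ => (hQ' j).1)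
    refine (eq_of_monic_of_dvd_of_natDegree_le hmon (cyclotomic.monic r F) hdvd ?_).symm
    rw [natDegree_cyclotomic, Nat.totient_prime hr, natDegree_prod_of_monic _ _ (fun j _ => (hQ' j).1)]
    rw [Finset.sum_congr rfl (fun j _ => (hQ' j).2.2.1), Finset.sum_const, Finset.card_univ, Fintype.card_fin,
      smul_eq_mul, ht]
  have hle : M' ≤ LinearMap.ker (aeval T (∏ j, Q' j)) := by
    intro v hv
    rw [hprod, LinearMap.mem_ker]
    have h1 : aeval T (cyclotomic r F) v ∈ M' ⊓ fixS T := by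
      refine ⟨invt_aeval_apply hM' _ hv, ?_⟩
      rw [SetLike.mem_coe, mem_fixS, ← sub_eq_zero]
      have h2 : T (aeval T (cyclotomic r F) v) - aeval T (cyclotomic r F) v =
          aeval T ((X - 1) * cyclotomic r F) v := by
        rw [map_mul, Module.End.mul_apply, map_sub, aeval_X, map_one, LinearMap.sub_apply,
          Module.End.one_apply]
      rw [h2, mul_comm, cyclotomic_prime_mul_X_sub_one, map_sub, map_pow, aeval_X, map_one, hT, sub_self,
        LinearMap.zero_apply]
    rw [hfix, Submodule.mem_bot] at h1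
    exact h1
  have h1 := finrank_inf_ker_prod_le T hM' Q' Finset.univ hcop
  rw [inf_eq_left.mpr hle] at h1
  have h2 : ∑ j, finrank F ↥(M' ⊓ LinearMap.ker (aeval T (Q' j))) ≤ ∑ _j : Fin t, i := by
    apply Finset.sum_le_sum
    intro j _
    exact hcon (Q' j) (hQ' j).2.1 (hQ' j).1 (hQ' j).2.2.1
  rw [Finset.sum_const, Finset.card_univ, Fintype.card_fin, smul_eq_mul, ht] at h2
  omega

/-- the splitting step, `i` even. -/
theorem step_even (hrp : r ≠ p) {B : LinearMap.BilinForm F V} (hB : B.IsAlt) (hV : ND B ⊤)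
    {T : Module.End F V} (hiso : ∀ u v, B (T u) (T v) = B u v) (hT : T ^ r = 1)
    (hev : Even (orderOf ((Fintype.card F : ℕ) : ZMod r))) (M' : Submodule F V)
    (hM' : M' ∈ Module.End.invtSubmodule T) (hnd : ND B M') (hfix : M' ⊓ fixS T = ⊥)
    (hbig : r - 1 < finrank F ↥M') :
    ∃ H L : Submodule F V, H ≤ M' ∧ H ∈ Module.End.invtSubmodule T ∧ ND B H ∧
      finrank F ↥H = 2 * orderOf ((Fintype.card F : ℕ) : ZMod r) ∧ L ≤ H ∧ L ∈ Module.End.invtSubmodule T ∧
      TI B L ∧ finrank F ↥L = orderOf ((Fintype.card F : ℕ) : ZMod r) := by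
  have hfd : FiniteDimensional F V := Module.Finite.of_finite
  have hr : r.Prime := Fact.out
  obtain ⟨g, hg, hgm, hgd, hgbig⟩ := exists_big_component hrp hT hM' hfix hbig
  obtain ⟨e, he⟩ := hev
  have hUinv : M' ⊓ LinearMap.ker (aeval T g) ∈ Module.End.invtSubmodule T := inf_invt hM' (ker_aeval_invt T g)
  obtain ⟨L, hLU, hLinv, hLti, hLd⟩ := exists_ti_irred hB hiso hg hgm (e := e) (by omega) hUinv
    (fun u hu => LinearMap.mem_ker.mp hu.2) (by omega)
  have hLM : L ≤ M' := hLU.trans inf_le_left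
  obtain ⟨H, hLH, hHM, hHinv, hHnd, hHd⟩ := exists_hyp hB hV hiso hr.pos hT
    (isSemisimple_of_pow_eq_one hrp hT) hM' hnd hLinv hLM hLti
  exact ⟨H, L, hHM, hHinv, hHnd, by rw [hHd, hLd, hgd], hLH, hLinv, hLti, by rw [hLd, hgd]⟩

/-- **totally isotropic invariant subspaces of the moved space.** -/
theorem exists_ti_mov (hr2 : r ≠ 2) (hrp : r ≠ p) {B : LinearMap.BilinForm F V} (hB : B.IsAlt) (hV : ND B ⊤)
    {T : Module.End F V} (hiso : ∀ u v, B (T u) (T v) = B u v) (hT : T ^ r = 1) (b : ℕ)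
    (hb : if Even (orderOf ((Fintype.card F : ℕ) : ZMod r)) then
        (r - 1) + 2 * orderOf ((Fintype.card F : ℕ) : ZMod r) * b <
          finrank F ↥(movS r T) + 2 * orderOf ((Fintype.card F : ℕ) : ZMod r)
      else 2 * orderOf ((Fintype.card F : ℕ) : ZMod r) * b ≤ finrank F ↥(movS r T)) :
    ∃ L : Submodule F V, L ≤ movS r T ∧ L ∈ Module.End.invtSubmodule T ∧ TI B L ∧
      finrank F ↥L = orderOf ((Fintype.card F : ℕ) : ZMod r) * b := by
  have hfd : FiniteDimensional F V := Module.Finite.of_finite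
  have hr : r.Prime := Fact.out
  have hrF : (r : F) ≠ 0 := natCast_ne_zero_of_ne hrp
  have hipos : 0 < orderOf ((Fintype.card F : ℕ) : ZMod r) := orderOf_q_pos hrp
  have hMinv := movS_invt r T
  have hMnd : ND B (movS r T) := by
    have := nd_inf_mov hB.isRefl hiso hrF hT (Module.End.invtSubmodule.top_mem T) hV
    rwa [top_inf_eq] at this
  have hMfix : movS r T ⊓ fixS T = ⊥ := by
    rw [inf_comm]
    exact (disjoint_fix_mov hrF T).eq_bot
  by_cases hev : Even (orderOf ((Fintype.card F : ℕ) : ZMod r))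
  · rw [if_pos hev] at hb
    exact exists_ti_ladder hB hiso hr.pos hT (D := orderOf ((Fintype.card F : ℕ) : ZMod r)) (τ := r - 1)
      (fun M' h1 h2 h3 h4 => step_even hrp hB hV hiso hT hev M' h1 h2 h3 h4) b _ hMinv hMnd hMfix hb
  · rw [if_neg hev] at hb
    refine exists_ti_ladder hB hiso hr.pos hT (D := orderOf ((Fintype.card F : ℕ) : ZMod r)) (τ := 0)
      (fun M' h1 h2 h3 h4 => ?_) b _ hMinv hMnd hMfix (by omega)
    have hne : M' ≠ ⊥ := by
      intro h
      rw [h, finrank_bot] at h4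
      exact lt_irrefl _ h4
    obtain ⟨H, M, hH1, hH2, hH3, hH4, hM1, hM2, hM3, hM4⟩ :=
      exists_nd_pair_odd hrp hB hiso hT (Nat.not_even_iff_odd.mp hev) h1 h2 h3 hne
    exact ⟨H, M, hH1, hH2, hH3, hH4, hM1, hM2, hM3, hM4⟩

end Cfsg.Agent.Helper7.SpTI
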