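import Mathlib
import Cfsg.Agent.Helper7.SpTID

/-!
# Every isometry of odd prime order fixes a totally isotropic subspace of the right dimension
-/

set_option autoImplicit false

namespace Cfsg.Agent.Helper7.SpTI

open Module Polynomial Cfsg.Agent.Helper7.POrd Cfsg.Agent.Helper7.SpOrd

theorem arith_odd {i m n M f2 : ℕ} (hsum : f2 + M = n) (hm : 2 * m ≤ n) (hM : 2 * i ∣ M)
    (hk : 2 * (m % i) ≤ f2) :
    ∃ b e', m = i * b + e' ∧ 2 * e' ≤ f2 ∧ 2 * i * b ≤ M := by
  obtain ⟨s, hs⟩ := hM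
  have hdm := Nat.div_add_mod m i
  by_cases h : m / i ≤ s
  · refine ⟨m / i, m % i, hdm.symm, hk, ?_⟩
    rw [hs]
    exact Nat.mul_le_mul_left _ h
  · rw [not_le] at h
    have h1 : i * s ≤ i * (m / i) := Nat.mul_le_mul_left _ h.le
    refine ⟨s, m - i * s, by omega, ?_, by rw [hs]⟩
    have h2 : 2 * i * s = 2 * (i * s) := by ring
    omega

theorem arith_even {i m n M f2 t R : ℕ} (hi : 0 < i) (hR : t * i = R) (hsum : f2 + M = n) (hM : i ∣ M)
    (hk : 2 * (m % i) ≤ n % i) (hkf : n % i ≤ f2) (h2 : t + 2 * (m / i) ≤ n / i) :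
    ∃ b e', m = i * b + e' ∧ 2 * e' ≤ f2 ∧ (b = 0 ∨ R + 2 * i * b < M + 2 * i) := by
  obtain ⟨s, hs⟩ := hM
  have hdm := Nat.div_add_mod m i
  have hdn := Nat.div_add_mod n i
  have hH : i * t + 2 * (i * (m / i)) ≤ i * (n / i) := by
    have := Nat.mul_le_mul_left i h2
    rw [Nat.mul_add] at this
    have h3 : i * (2 * (m / i)) = 2 * (i * (m / i)) := by ring
    omega
  have hRt : i * t = R := by rw [← hR, mul_comm]
  by_cases h : t + 2 * (m / i) ≤ s + 1
  · refine ⟨m / i, m % i, hdm.symm, by omega, Or.inr ?_⟩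
    have h3 := Nat.mul_le_mul_left i h
    rw [Nat.mul_add, Nat.mul_add, mul_one] at h3
    have h4 : i * (2 * (m / i)) = 2 * i * (m / i) := by ring
    rw [hs]
    omega
  · rw [not_le] at h
    obtain ⟨b, hb⟩ : ∃ b, b = (s + 1 - t) / 2 := ⟨_, rfl⟩
    have hb1 : b = 0 ∨ 2 * b + t ≤ s + 1 := by omega
    have hb2 : s ≤ 2 * b + t := by omega
    have hb3 : b ≤ m / i := by omega
    have h5 : i * b ≤ i * (m / i) := Nat.mul_le_mul_left _ hb3
    have h6 : i * s ≤ 2 * (i * b) + i * t := by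
      have := Nat.mul_le_mul_left i hb2
      rw [Nat.mul_add] at this
      have h7 : i * (2 * b) = 2 * (i * b) := by ring
      omega
    refine ⟨b, m - i * b, by omega, by omega, ?_⟩
    rcases hb1 with h0 | h0
    · exact Or.inl h0
    · right
      have h8 := Nat.mul_le_mul_left i h0
      rw [Nat.mul_add, Nat.mul_add, mul_one] at h8
      have h9 : i * (2 * b) = 2 * i * b := by ring
      rw [hs]
      omega

variable {F : Type*} [Field F] [Fintype F] {V : Type*} [AddCommGroup V] [Module F V] [Finite V]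
  {p : ℕ} [Fact p.Prime] [CharP F p] {r : ℕ} [Fact r.Prime]

/-- **existence**: an isometry of odd prime order `r ≠ p` of a nondegenerate alternating space of dimension `n`
fixes a totally isotropic subspace of dimension `m`, under the arithmetic conditions. -/
theorem exists_ti_invt_aux (hr2 : r ≠ 2) (hrp : r ≠ p) {B : LinearMap.BilinForm F V} (hB : B.IsAlt)
    (hV : ND B ⊤) {T : Module.End F V} (hiso : ∀ u v, B (T u) (T v) = B u v) (hT : T ^ r = 1) {m n : ℕ}
    (hn : finrank F V = n) (hm : 2 * m ≤ n)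
    (h1 : 2 * (m % orderOf ((Fintype.card F : ℕ) : ZMod r)) ≤ n % cOf (orderOf ((Fintype.card F : ℕ) : ZMod r)))
    (h2 : Odd (orderOf ((Fintype.card F : ℕ) : ZMod r)) ∨
      (r - 1) / orderOf ((Fintype.card F : ℕ) : ZMod r) + 2 * (m / orderOf ((Fintype.card F : ℕ) : ZMod r)) ≤
        n / orderOf ((Fintype.card F : ℕ) : ZMod r)) :
    ∃ W : Submodule F V, W ∈ Module.End.invtSubmodule T ∧ TI B W ∧ finrank F ↥W = m := by
  have hfd : FiniteDimensional F V := Module.Finite.of_finite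
  have hr : r.Prime := Fact.out
  have hrF : (r : F) ≠ 0 := natCast_ne_zero_of_ne hrp
  have hrefl := hB.isRefl
  obtain ⟨i, hi⟩ : ∃ i, i = orderOf ((Fintype.card F : ℕ) : ZMod r) := ⟨_, rfl⟩
  rw [← hi] at h1 h2
  have hipos : 0 < i := by rw [hi]; exact orderOf_q_pos hrp
  have hmovnd : ND B (movS r T) := by
    have := nd_inf_mov hrefl hiso hrF hT (Module.End.invtSubmodule.top_mem T) hV
    rwa [top_inf_eq] at this
  have hfixnd : ND B (fixS T) := by
    have := nd_inf_fix hrefl hiso hrF hT (Module.End.invtSubmodule.top_mem T) hV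
    rwa [top_inf_eq] at this
  have hmovfix : movS r T ⊓ fixS T = ⊥ := by
    rw [inf_comm]
    exact (disjoint_fix_mov hrF T).eq_bot
  have hc := cOf_dvd_finrank hr2 hrp hB hiso hT _ _ rfl (movS_invt r T) hmovnd hmovfix
  rw [← hi] at hc
  have hsum := finrank_fix_add_mov hrF hT
  rw [hn] at hsum
  have hkf : n % cOf i ≤ finrank F ↥(fixS T) := by
    obtain ⟨l, hl⟩ := hc
    have h3 : n = finrank F ↥(fixS T) + cOf i * l := by omega
    rw [h3, Nat.add_mul_mod_self_left]
    exact Nat.mod_le _ _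
  -- the choice of the dimensions
  have hchoice : ∃ b e', m = i * b + e' ∧ 2 * e' ≤ finrank F ↥(fixS T) ∧
      (b = 0 ∨ (if Even i then (r - 1) + 2 * i * b < finrank F ↥(movS r T) + 2 * i
        else 2 * i * b ≤ finrank F ↥(movS r T))) := by
    by_cases hev : Even i
    · have hcOf : cOf i = i := by unfold cOf; rw [if_pos hev]
      rw [hcOf] at hc h1 hkf
      have h2' : (r - 1) / i + 2 * (m / i) ≤ n / i := by
        rcases h2 with h | h
        · exact absurd hev (Nat.not_even_iff_odd.mpr h)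
        · exact h
      have hR : (r - 1) / i * i = r - 1 := by
        apply Nat.div_mul_cancel
        rw [hi]
        exact orderOf_q_dvd hrp
      obtain ⟨b, e', hb1, hb2, hb3⟩ := arith_even hipos hR hsum hc h1 hkf h2'
      refine ⟨b, e', hb1, hb2, ?_⟩
      rw [if_pos hev]
      exact hb3
    · have hcOf : cOf i = 2 * i := by unfold cOf; rw [if_neg hev]
      rw [hcOf] at hc h1 hkf
      obtain ⟨b, e', hb1, hb2, hb3⟩ := arith_odd hsum hm hc (by omega : 2 * (m % i) ≤ finrank F ↥(fixS T))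
      refine ⟨b, e', hb1, hb2, Or.inr ?_⟩
      rw [if_neg hev]
      exact hb3
  obtain ⟨b, e', hmb, he', hb⟩ := hchoice
  -- the moved part
  have hL : ∃ L : Submodule F V, L ≤ movS r T ∧ L ∈ Module.End.invtSubmodule T ∧ TI B L ∧
      finrank F ↥L = i * b := by
    rcases hb with hb0 | hb
    · exact ⟨⊥, bot_le, Module.End.invtSubmodule.bot_mem T, ti_bot B, by rw [hb0, finrank_bot, mul_zero]⟩
    · rw [hi] at hb ⊢
      exact exists_ti_mov hr2 hrp hB hV hiso hT b hb
  obtain ⟨L, hLmov, hLinv, hLti, hLd⟩ := hL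
  -- the fixed part
  obtain ⟨U, hUfix, -, -, L₀, hL₀U, hL₀ti, hL₀d⟩ := exists_nd_sub hB hfixnd e' he'
  have hL₀fix : L₀ ≤ fixS T := hL₀U.trans hUfix
  have hL₀inv : L₀ ∈ Module.End.invtSubmodule T := invt_of_le_fixS hL₀fix
  have hperp : L₀ ≤ B.orthogonal L := by
    intro v hv
    rw [mem_perp]
    intro w hw
    exact hrefl _ _ (fix_perp_mov hiso hrF (hL₀fix hv) (hLmov hw))
  refine ⟨L ⊔ L₀, sup_invt hLinv hL₀inv, ti_sup hrefl hLti hL₀ti hperp, ?_⟩
  have hdisj : L ⊓ L₀ = ⊥ := by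
    rw [eq_bot_iff, ← hmovfix]
    exact inf_le_inf hLmov hL₀fix
  have h4 := Submodule.finrank_sup_add_finrank_inf_eq L L₀
  rw [hdisj, finrank_bot, add_zero] at h4
  rw [h4, hLd, hL₀d, hmb]

end Cfsg.Agent.Helper7.SpTI
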