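import Mathlib
import Cfsg.Agent.Helper7.SpTIE

/-!
# Transfer from abstract alternating spaces to symplectic matrices
-/

set_option autoImplicit false

namespace Cfsg.Agent.Helper7.SpTI

open Matrix Module Cfsg.Agent.Helper8.SpS Cfsg.Agent.Helper8.SpStab Cfsg.Agent.Helper7.POrd
  Cfsg.Agent.Helper7.SpOrd

universe u

variable {F : Type*} [Field F]

/-- **an isometry of an alternating space as a symplectic matrix, with the comparison map.** -/
theorem exists_symp_model {E : Type u} [AddCommGroup E] [Module F E] [FiniteDimensional F E]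
    (B : E →ₗ[F] E →ₗ[F] F) (hAlt : Alt B) (hND : Nondeg B) (φ : Module.End F E) (hφ : Inv B φ)
    (d : ℕ) (hd : finrank F E = 2 * d) :
    ∃ (x : symplecticGroup (Fin d) F) (e : E ≃ₗ[F] (Fin d ⊕ Fin d → F)),
      (∀ u v, sB d F (e u) (e v) = - B u v) ∧
      ∀ v, Matrix.toLin' (x : Matrix (Fin d ⊕ Fin d) (Fin d ⊕ Fin d) F) (e v) = e (φ v) := by
  obtain ⟨k, b, hb⟩ := exists_symp_basis B hAlt hND
  have hk : k = d := by
    have h1 := Module.finrank_eq_card_basis b
    rw [Fintype.card_sum, Fintype.card_fin] at h1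
    omega
  subst hk
  obtain ⟨M, hM⟩ : ∃ M, M = LinearMap.toMatrix b b φ := ⟨_, rfl⟩
  have hG : LinearMap.toMatrix₂ b b B = -J (Fin k) F := by
    ext x y
    rw [LinearMap.toMatrix₂_apply, hb, Jent_eq]
  have hcomp : B.compl₁₂ φ φ = B := by
    ext u v
    exact hφ u v
  have hmem : M ∈ symplecticGroup (Fin k) F := by
    rw [← neg_J_form_iff, ← hG, hM, ← LinearMap.toMatrix₂_compl₁₂ b b b b B φ φ, hcomp]
  have hrepr : ∀ v : E, M *ᵥ (b.equivFun v) = b.equivFun (φ v) := by
    intro v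
    rw [hM]
    exact LinearMap.toMatrix_mulVec_repr b b φ v
  refine ⟨⟨M, hmem⟩, b.equivFun, ?_, ?_⟩
  · have h1 : (sB k F).compl₁₂ (b.equivFun : E →ₗ[F] (Fin k ⊕ Fin k → F))
        (b.equivFun : E →ₗ[F] (Fin k ⊕ Fin k → F)) = -B := by
      apply LinearMap.ext_basis b b
      intro x y
      rw [LinearMap.compl₁₂_apply, LinearMap.neg_apply, LinearMap.neg_apply, hb, Jent_eq]
      have hsingle : ∀ z : Fin k ⊕ Fin k, b.equivFun (b z) = Pi.single z 1 := by
        intro z
        funext w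
        rw [Basis.equivFun_self, Pi.single_apply]
        by_cases h : z = w
        · rw [if_pos h, if_pos h.symm]
        · rw [if_neg h, if_neg (fun h' => h h'.symm)]
      simp only [LinearEquiv.coe_coe]
      rw [hsingle, hsingle, sB_apply, Cfsg.Agent.Helper7.SpCP.sympForm_single, Matrix.neg_apply, neg_neg]
    intro u v
    have h2 := LinearMap.congr_fun (LinearMap.congr_fun h1 u) v
    rw [LinearMap.compl₁₂_apply, LinearMap.neg_apply, LinearMap.neg_apply] at h2
    exact h2
  · intro v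
    rw [Matrix.toLin'_apply]
    exact hrepr v

/-- pulling back an invariant totally isotropic subspace along the comparison map. -/
theorem pullback_ti {E : Type u} [AddCommGroup E] [Module F E] [FiniteDimensional F E]
    {B : LinearMap.BilinForm F E} {φ : Module.End F E} {d : ℕ} {x : symplecticGroup (Fin d) F}
    (e : E ≃ₗ[F] (Fin d ⊕ Fin d → F)) (he1 : ∀ u v, sB d F (e u) (e v) = - B u v)
    (he2 : ∀ v, Matrix.toLin' (x : Matrix (Fin d ⊕ Fin d) (Fin d ⊕ Fin d) F) (e v) = e (φ v))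
    {W : Submodule F (Fin d ⊕ Fin d → F)} {m : ℕ} (hWd : finrank F ↥W = m)
    (hWti : ∀ u ∈ W, ∀ v ∈ W, Cfsg.sympForm d F u v = 0)
    (hWinv : W.map (Matrix.toLin' (x : Matrix (Fin d ⊕ Fin d) (Fin d ⊕ Fin d) F)) ≤ W) :
    ∃ W' : Submodule F E, W' ∈ Module.End.invtSubmodule φ ∧ TI B W' ∧ finrank F ↥W' = m := by
  refine ⟨W.comap (e : E →ₗ[F] (Fin d ⊕ Fin d → F)), ?_, ?_, ?_⟩
  · rw [Module.End.mem_invtSubmodule]
    intro v hv
    rw [Submodule.mem_comap] at hv ⊢
    rw [Submodule.mem_comap, LinearEquiv.coe_coe, ← he2]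
    exact hWinv (Submodule.mem_map_of_mem hv)
  · intro u hu v hv
    rw [Submodule.mem_comap] at hu hv
    change e u ∈ W at hu
    change e v ∈ W at hv
    have h1 := he1 u v
    rw [sB_apply, hWti _ hu _ hv] at h1
    exact neg_eq_zero.mp h1.symm
  · rw [← hWd]
    have : W.comap (e : E →ₗ[F] (Fin d ⊕ Fin d → F)) = W.map (e.symm : (Fin d ⊕ Fin d → F) →ₗ[F] E) :=
      (Submodule.map_equiv_eq_comap_symm e.symm W).symm
    rw [this]
    exact LinearEquiv.finrank_map_eq e.symm W

end Cfsg.Agent.Helper7.SpTI
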