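import Mathlib
import Cfsg.Agent.Helper7.SpTIF
import Cfsg.Agent.Helper7.SpTIA

/-!
# Necessary conditions: the fixed part of an invariant totally isotropic subspace
-/

set_option autoImplicit false

namespace Cfsg.Agent.Helper7.SpTI

open Module Polynomial Cfsg.Agent.Helper7.POrd Cfsg.Agent.Helper7.SpOrd

section general

variable {F : Type*} [Field F] {V : Type*} [AddCommGroup V] [Module F V]

/-- a totally isotropic subspace of a nondegenerate subspace has at most half the dimension. -/
theorem finrank_ti_le_of_nd [FiniteDimensional F V] {B : LinearMap.BilinForm F V} (hB : B.IsRefl)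
    (hV : ND B ⊤) {L M : Submodule F V} (hM : ND B M) (hLM : L ≤ M) (hL : TI B L) :
    2 * finrank F ↥L ≤ finrank F ↥M := by
  have h1 := finrank_perp_inf' hB hV hM hLM
  have h2 : L ≤ B.orthogonal L ⊓ M := by
    refine le_inf ?_ hLM
    intro x hx
    rw [mem_perp]
    intro w hw
    exact hL w hw x hx
  have h3 := Submodule.finrank_mono h2
  omega

end general

variable {F : Type*} [Field F] [Fintype F] {V : Type*} [AddCommGroup V] [Module F V] [Finite V]
  {p : ℕ} [Fact p.Prime] [CharP F p] {r : ℕ} [Fact r.Prime]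

/-- **the fixed part**: the dimension of an invariant totally isotropic subspace, modulo `i`, is at most half the
dimension of the fixed space. -/
theorem mod_le_of_ti (hrp : r ≠ p) {B : LinearMap.BilinForm F V} (hB : B.IsAlt) (hV : ND B ⊤)
    {T : Module.End F V} (hiso : ∀ u v, B (T u) (T v) = B u v) (hT : T ^ r = 1) {W : Submodule F V}
    (hW : W ∈ Module.End.invtSubmodule T) (hWti : TI B W) :
    2 * (finrank F ↥W % orderOf ((Fintype.card F : ℕ) : ZMod r)) ≤ finrank F ↥(fixS T) := by
  have hfd : FiniteDimensional F V := Module.Finite.of_finite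
  have hrF : (r : F) ≠ 0 := natCast_ne_zero_of_ne hrp
  have hrefl := hB.isRefl
  have hfixnd : ND B (fixS T) := by
    have := nd_inf_fix hrefl hiso hrF hT (Module.End.invtSubmodule.top_mem T) hV
    rwa [top_inf_eq] at this
  have hdec := finrank_invt_decomp hrF hT hW
  have hmovfix : (W ⊓ movS r T) ⊓ fixS T = ⊥ := by
    rw [eq_bot_iff, inf_assoc]
    refine le_trans inf_le_right ?_
    rw [inf_comm]
    exact le_of_eq (disjoint_fix_mov hrF T).eq_bot
  obtain ⟨l, hl⟩ := orderOf_dvd_finrank hT (inf_invt hW (movS_invt r T)) hmovfix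
  have h1 := finrank_ti_le_of_nd hrefl hV hfixnd (inf_le_right : W ⊓ fixS T ≤ fixS T)
    (ti_mono hWti inf_le_left)
  have h2 : finrank F ↥W % orderOf ((Fintype.card F : ℕ) : ZMod r) ≤ finrank F ↥(W ⊓ fixS T) := by
    rw [hdec, hl, Nat.add_mul_mod_self_left]
    exact Nat.mod_le _ _
  omega

/-- the moved part of an invariant totally isotropic subspace, when it vanishes. -/
theorem le_of_ti_of_mov_eq_bot (hrp : r ≠ p) {B : LinearMap.BilinForm F V} (hB : B.IsAlt) (hV : ND B ⊤)
    {T : Module.End F V} (hiso : ∀ u v, B (T u) (T v) = B u v) (hT : T ^ r = 1) {W : Submodule F V}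
    (hW : W ∈ Module.End.invtSubmodule T) (hWti : TI B W) (hmov : W ⊓ movS r T = ⊥) :
    2 * finrank F ↥W ≤ finrank F ↥(fixS T) := by
  have hfd : FiniteDimensional F V := Module.Finite.of_finite
  have hrF : (r : F) ≠ 0 := natCast_ne_zero_of_ne hrp
  have hrefl := hB.isRefl
  have hfixnd : ND B (fixS T) := by
    have := nd_inf_fix hrefl hiso hrF hT (Module.End.invtSubmodule.top_mem T) hV
    rwa [top_inf_eq] at this
  have hdec := finrank_invt_decomp hrF hT hW
  rw [hmov, finrank_bot, add_zero] at hdec
  have h1 := finrank_ti_le_of_nd hrefl hV hfixnd (inf_le_right : W ⊓ fixS T ≤ fixS T)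
    (ti_mono hWti inf_le_left)
  omega

end Cfsg.Agent.Helper7.SpTI
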