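import Mathlib
import Cfsg.Agent.Helper7.SpTIG

/-!
# All irreducible factors of the cyclotomic polynomial occur among the powers of an irreducible element
-/

set_option autoImplicit false

namespace Cfsg.Agent.Helper7.SpTI

open Module Polynomial Cfsg.Agent.Helper7.POrd Cfsg.Agent.Helper7.SpOrd

variable {F : Type*} [Field F] [Fintype F] {V : Type*} [AddCommGroup V] [Module F V] [Finite V]
  {p : ℕ} [Fact p.Prime] [CharP F p] {r : ℕ} [Fact r.Prime]

/-- **all types**: if `T` has order `r`, no fixed vectors and acts on a space of dimension `i`, then every monic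
irreducible factor of the cyclotomic polynomial kills some power `T ^ e`, `1 ≤ e < r`. -/
theorem exists_pow_type (hrp : r ≠ p) {T : Module.End F V} (hT : T ^ r = 1) (hfix : fixS T = ⊥)
    (hdim : finrank F V = orderOf ((Fintype.card F : ℕ) : ZMod r)) {g : F[X]} (hg : Irreducible g)
    (hgd : g ∣ cyclotomic r F) : ∃ e, 1 ≤ e ∧ e < r ∧ aeval (T ^ e) g = 0 := by
  classical
  have hfd : FiniteDimensional F V := Module.Finite.of_finite
  have hr : r.Prime := Fact.out
  have hipos : 0 < orderOf ((Fintype.card F : ℕ) : ZMod r) := orderOf_q_pos hrp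
  have htop : (⊤ : Submodule F V) ≠ ⊥ := by
    intro h
    have h1 : finrank F ↥(⊤ : Submodule F V) = 0 := by rw [h, finrank_bot]
    rw [finrank_top] at h1
    omega
  have hirr : ∀ U : Submodule F V, U ∈ Module.End.invtSubmodule T → U = ⊥ ∨ U = ⊤ := by
    intro U hU
    exact irred_of_finrank hT (M := ⊤) (by rw [top_inf_eq, hfix]) (by rw [finrank_top, hdim]) hU le_top
  obtain ⟨γ, hγ, hγdvd, hγdeg, v, -, hv0, hγv⟩ := exists_irred_vec hrp hT
    (Module.End.invtSubmodule.top_mem T) (by rw [top_inf_eq, hfix]) htop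
  have hγT : aeval T γ = 0 := by
    rcases hirr _ (ker_aeval_invt T γ) with h | h
    · exfalso
      have : v ∈ LinearMap.ker (aeval T γ) := LinearMap.mem_ker.mpr hγv
      rw [h, Submodule.mem_bot] at this
      exact hv0 this
    · exact LinearMap.ker_eq_top.mp h
  have hone : (1 : Module.End F V) ≠ 0 := by
    intro h
    apply hv0
    have := LinearMap.congr_fun h v
    rwa [Module.End.one_apply, LinearMap.zero_apply] at this
  have hDP : ∀ f : F[X], aeval T f = 0 → γ ∣ f := by
    intro f hf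
    by_contra hnd
    obtain ⟨a, b, hab⟩ := (hγ.coprime_iff_not_dvd).mpr hnd
    apply hone
    have h1 := congrArg (aeval T) hab
    rw [map_add, map_mul, map_mul, hγT, hf, mul_zero, mul_zero, add_zero, map_one] at h1
    exact h1.symm
  by_contra hcon
  push Not at hcon
  -- the powers of `T`
  have hinj : ∀ e, 1 ≤ e → e < r → LinearMap.ker (aeval (T ^ e) g) = ⊥ := by
    intro e he1 her
    have h1 : aeval (T ^ e) g = aeval T (g.comp (X ^ e)) := by
      rw [aeval_comp, map_pow, aeval_X]
    rcases hirr _ (ker_aeval_invt T (g.comp (X ^ e))) with h | h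
    · rw [h1]; exact h
    · exact absurd (by rw [h1]; exact LinearMap.ker_eq_top.mp h) (hcon e he1 her)
  have hcyc : ∀ e, 1 ≤ e → e < r → aeval (T ^ e) (cyclotomic r F) = 0 := by
    intro e he1 her
    have h1 : (T ^ e - 1) * aeval (T ^ e) (cyclotomic r F) = 0 := by
      have h2 : (T ^ e - 1) * aeval (T ^ e) (cyclotomic r F) = aeval (T ^ e) ((X - 1) * cyclotomic r F) := by
        rw [map_mul, map_sub, aeval_X, map_one]
      rw [h2, mul_comm, cyclotomic_prime_mul_X_sub_one, map_sub, map_pow, aeval_X, map_one, ← pow_mul, mul_comm,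
        pow_mul, hT, one_pow, sub_self]
    have hker : LinearMap.ker (T ^ e - 1) = ⊥ := by
      have h3 : T ^ e - 1 = aeval T (X ^ e - 1 : F[X]) := by
        rw [map_sub, map_pow, aeval_X, map_one]
      rcases hirr (LinearMap.ker (T ^ e - 1)) (by rw [h3]; exact ker_aeval_invt T _) with h | h
      · exact h
      · exfalso
        have h4 : T ^ e = 1 := by
          have := LinearMap.ker_eq_top.mp h
          exact sub_eq_zero.mp this
        have h5 : T ^ (e.gcd r) = 1 := pow_gcd_eq_one.mpr ⟨h4, hT⟩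
        have hcop : e.gcd r = 1 := by
          rw [Nat.gcd_comm]
          exact (Nat.Prime.coprime_iff_not_dvd hr).mpr (fun h => by
            have := Nat.le_of_dvd (by omega) h
            omega)
        rw [hcop, pow_one] at h5
        apply htop
        rw [← hfix, eq_comm, eq_top_iff]
        intro w _
        rw [mem_fixS, h5, Module.End.one_apply]
    apply LinearMap.ext
    intro w
    have h6 := LinearMap.congr_fun h1 w
    rw [Module.End.mul_apply, LinearMap.zero_apply, ← LinearMap.mem_ker, hker, Submodule.mem_bot] at h6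
    rw [h6, LinearMap.zero_apply]
  obtain ⟨Γ, hΓ⟩ := hgd
  have hΓ0 : Γ ≠ 0 := by
    rintro rfl
    rw [mul_zero] at hΓ
    exact cyclotomic_ne_zero r F hΓ
  have hΓe : ∀ e, 1 ≤ e → e < r → aeval (T ^ e) Γ = 0 := by
    intro e he1 her
    have h1 := hcyc e he1 her
    rw [hΓ, map_mul] at h1
    apply LinearMap.ext
    intro w
    have h2 := LinearMap.congr_fun h1 w
    rw [Module.End.mul_apply, LinearMap.zero_apply, ← LinearMap.mem_ker, hinj e he1 her, Submodule.mem_bot] at h2
    rw [h2, LinearMap.zero_apply]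
  have hγΓ : ∀ e, 1 ≤ e → e < r → γ ∣ Γ.comp (X ^ e) := by
    intro e he1 her
    apply hDP
    rw [aeval_comp, map_pow, aeval_X]
    exact hΓe e he1 her
  -- the field
  have : Fact (Irreducible γ) := ⟨hγ⟩
  obtain ⟨ρ, hρ⟩ : ∃ ρ : AdjoinRoot γ, ρ = AdjoinRoot.root γ := ⟨_, rfl⟩
  have hρr : ρ ^ r = 1 := by
    have h1 : AdjoinRoot.mk γ (X ^ r - 1) = 0 := AdjoinRoot.mk_eq_zero.mpr hγdvd
    rw [map_sub, map_pow, AdjoinRoot.mk_X, map_one, sub_eq_zero] at h1
    rw [hρ]
    exact h1
  have hρ1 : ρ ≠ 1 := by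
    intro h
    have h1 : AdjoinRoot.mk γ (X - 1) = 0 := by
      rw [map_sub, AdjoinRoot.mk_X, map_one, ← hρ, h, sub_self]
    obtain ⟨u, hu⟩ := AdjoinRoot.mk_eq_zero.mp h1
    have h2 : aeval T (X - 1 : F[X]) = 0 := by rw [hu, map_mul, hγT, zero_mul]
    rw [map_sub, aeval_X, map_one, sub_eq_zero] at h2
    apply htop
    rw [← hfix, eq_comm, eq_top_iff]
    intro w _
    rw [mem_fixS, h2, Module.End.one_apply]
  have hord : orderOf ρ = r := orderOf_eq_prime hρr hρ1
  have hroot : ∀ e, 1 ≤ e → e < r → (Γ.map (algebraMap F (AdjoinRoot γ))).IsRoot (ρ ^ e) := by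
    intro e he1 her
    rw [IsRoot.def, eval_map_algebraMap]
    have h1 : aeval (ρ ^ e) Γ = aeval ρ (Γ.comp (X ^ e)) := by
      rw [aeval_comp, map_pow, aeval_X]
    rw [h1, hρ, AdjoinRoot.aeval_eq]
    exact AdjoinRoot.mk_eq_zero.mpr (hγΓ e he1 her)
  have hΓK0 : Γ.map (algebraMap F (AdjoinRoot γ)) ≠ 0 :=
    (Polynomial.map_ne_zero_iff (algebraMap F (AdjoinRoot γ)).injective).mpr hΓ0
  have hsub : (Finset.image (fun e => ρ ^ e) (Finset.Icc 1 (r - 1))).val ⊆
      (Γ.map (algebraMap F (AdjoinRoot γ))).roots := by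
    intro y hy
    rw [Finset.mem_val, Finset.mem_image] at hy
    obtain ⟨e, he, rfl⟩ := hy
    rw [Finset.mem_Icc] at he
    rw [mem_roots hΓK0]
    exact hroot e he.1 (by have := hr.two_le; omega)
  have hcard := card_le_degree_of_subset_roots hsub
  rw [Finset.card_image_of_injOn, Nat.card_Icc, natDegree_map] at hcard
  · have hdeg : (cyclotomic r F).natDegree = g.natDegree + Γ.natDegree := by
      rw [hΓ, natDegree_mul hg.ne_zero hΓ0]
    rw [natDegree_cyclotomic, Nat.totient_prime hr] at hdeg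
    have := hg.natDegree_pos
    omega
  · intro a ha b hb hab
    rw [Finset.coe_Icc, Set.mem_Icc] at ha hb
    have := hr.two_le
    apply pow_injOn_Iio_orderOf (x := ρ)
    · rw [Set.mem_Iio, hord]; omega
    · rw [Set.mem_Iio, hord]; omega
    · exact hab

end Cfsg.Agent.Helper7.SpTI
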