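import Mathlib
import Cfsg.Agent.Helper7.SpTIH

/-!
# The model with blocks of pairwise different types
-/

set_option autoImplicit false

namespace Cfsg.Agent.Helper7.SpTI

open Module Polynomial Cfsg.Agent.Helper8.SpS Cfsg.Agent.Helper7.POrd Cfsg.Agent.Helper7.SpOrd
  Cfsg.Agent.Helper7.SpCP

section model

variable {F : Type*} [Field F] {V₀ V₁ : Type*} [AddCommGroup V₀] [Module F V₀] [AddCommGroup V₁] [Module F V₁]
  {s : ℕ}

/-- intertwining maps commute with the polynomial calculus. -/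
theorem aeval_intertwine {E E' : Type*} [AddCommGroup E] [Module F E] [AddCommGroup E'] [Module F E']
    {φ : Module.End F E} {A : Module.End F E'} (ψ : E' →ₗ[F] E) (h : ∀ y, φ (ψ y) = ψ (A y)) (f : F[X])
    (y : E') : aeval φ f (ψ y) = ψ (aeval A f y) := by
  have hpow : ∀ (n : ℕ) (y : E'), (φ ^ n) (ψ y) = ψ ((A ^ n) y) := by
    intro n
    induction n with
    | zero => intro y; simp
    | succ n ih =>
      intro y
      rw [pow_succ, Module.End.mul_apply, h, ih, pow_succ, Module.End.mul_apply]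
  rw [aeval_eq_sum_range, aeval_eq_sum_range, LinearMap.sum_apply, LinearMap.sum_apply, map_sum]
  apply Finset.sum_congr rfl
  intro n _
  rw [LinearMap.smul_apply, LinearMap.smul_apply, hpow, map_smul]

/-- the block action with varying maps. -/
noncomputable def piMapF (S : Fin s → Module.End F V₀) : Module.End F (Fin s → V₀) :=
  LinearMap.pi (fun l => S l ∘ₗ LinearMap.proj l)

theorem piMapF_apply (S : Fin s → Module.End F V₀) (u : Fin s → V₀) (l : Fin s) :
    piMapF S u l = S l (u l) := rfl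

theorem piB_invF {B₀ : V₀ →ₗ[F] V₀ →ₗ[F] F} {S : Fin s → Module.End F V₀} (h : ∀ l, Inv B₀ (S l)) :
    Inv (piB (ι := Fin s) B₀) (piMapF S) := by
  intro u v
  rw [piB_apply, piB_apply]
  exact Finset.sum_congr rfl (fun k _ => h k (u k) (v k))

/-- the model map: the blocks, and the identity on the rest. -/
noncomputable def modelMap (S : Fin s → Module.End F V₀) : Module.End F ((Fin s → V₀) × V₁) :=
  LinearMap.prodMap (piMapF S) LinearMap.id

theorem modelMap_apply (S : Fin s → Module.End F V₀) (x : (Fin s → V₀) × V₁) :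
    modelMap (V₁ := V₁) S x = (piMapF S x.1, x.2) := rfl

theorem modelMap_pow_apply (S : Fin s → Module.End F V₀) (n : ℕ) (x : (Fin s → V₀) × V₁) :
    ((modelMap (V₁ := V₁) S) ^ n) x = ((fun l => ((S l) ^ n) (x.1 l)), x.2) := by
  induction n generalizing x with
  | zero => simp
  | succ n ih =>
    rw [pow_succ, Module.End.mul_apply, ih, modelMap_apply]
    apply Prod.ext
    · funext l
      simp only [piMapF_apply]
      rw [pow_succ, Module.End.mul_apply]
    · rfl

/-- the embedding of a block. -/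
noncomputable def blockEmb (l : Fin s) : V₀ →ₗ[F] (Fin s → V₀) × V₁ :=
  LinearMap.inl F (Fin s → V₀) V₁ ∘ₗ LinearMap.single F (fun _ : Fin s => V₀) l

theorem blockEmb_apply (l : Fin s) (y : V₀) :
    blockEmb (F := F) (V₁ := V₁) l y = ((Pi.single l y : Fin s → V₀), (0 : V₁)) := rfl

theorem modelMap_blockEmb (S : Fin s → Module.End F V₀) (l : Fin s) (y : V₀) :
    modelMap (V₁ := V₁) S (blockEmb (F := F) (V₁ := V₁) l y) = blockEmb (F := F) (V₁ := V₁) l (S l y) := by
  rw [blockEmb_apply, blockEmb_apply, modelMap_apply]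
  apply Prod.ext
  · funext l'
    simp only [piMapF_apply]
    by_cases h : l' = l
    · subst h
      rw [Pi.single_eq_same, Pi.single_eq_same]
    · rw [Pi.single_eq_of_ne h, Pi.single_eq_of_ne h, map_zero]
  · rfl

theorem sum_blockEmb (u : Fin s → V₀) : ∑ l, blockEmb (F := F) (V₁ := V₁) l (u l) = (u, (0 : V₁)) := by
  apply Prod.ext
  · rw [Prod.fst_sum]
    funext l'
    rw [Finset.sum_apply]
    simp only [blockEmb_apply]
    rw [Finset.sum_eq_single l']
    · rw [Pi.single_eq_same]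
    · intro b _ hb
      rw [Pi.single_eq_of_ne (Ne.symm hb)]
    · intro h
      exact absurd (Finset.mem_univ l') h
  · rw [Prod.snd_sum]
    simp only [blockEmb_apply]
    exact Finset.sum_const_zero

theorem prodB_blockEmb (B₀ : V₀ →ₗ[F] V₀ →ₗ[F] F) (B₁ : V₁ →ₗ[F] V₁ →ₗ[F] F) (l : Fin s) (y y' : V₀) :
    prodB (piB (ι := Fin s) B₀) B₁ (blockEmb (F := F) (V₁ := V₁) l y) (blockEmb (F := F) (V₁ := V₁) l y') =
      B₀ y y' := by
  rw [prodB_apply, blockEmb_apply, blockEmb_apply, piB_apply]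
  simp only [map_zero, add_zero]
  rw [Finset.sum_eq_single l]
  · rw [Pi.single_eq_same, Pi.single_eq_same]
  · intro b _ hb
    rw [Pi.single_eq_of_ne hb, map_zero, LinearMap.zero_apply]
  · intro h
    exact absurd (Finset.mem_univ l) h

/-- **blocks of pairwise different types**: an invariant totally isotropic subspace of the model meets the moved
space trivially. -/
theorem ti_inf_mov_eq_bot {r : ℕ} (hrF : (r : F) ≠ 0) {B₀ : V₀ →ₗ[F] V₀ →ₗ[F] F} (hB₀nd : Nondeg B₀)
    [Nontrivial V₀] (B₁ : V₁ →ₗ[F] V₁ →ₗ[F] F) (S : Fin s → Module.End F V₀)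
    (hirr : ∀ l, ∀ U : Submodule F V₀, U ∈ Module.End.invtSubmodule (S l) → U = ⊥ ∨ U = ⊤)
    (Q : Fin s → F[X]) (hQ : ∀ l, aeval (S l) (Q l) = 0) (hcop : ∀ l l', l ≠ l' → IsCoprime (Q l) (Q l'))
    {W : Submodule F ((Fin s → V₀) × V₁)} (hW : W ∈ Module.End.invtSubmodule (modelMap (V₁ := V₁) S))
    (hWti : TI (prodB (piB (ι := Fin s) B₀) B₁) W) :
    W ⊓ movS r (modelMap (V₁ := V₁) S) = ⊥ := by
  classical
  rw [eq_bot_iff]
  rintro ⟨u, w₁⟩ ⟨hwW, hwmov⟩
  rw [SetLike.mem_coe, mem_movS] at hwmov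
  have hw₁ : w₁ = 0 := by
    have h1 := congrArg Prod.snd hwmov
    unfold Phi at h1
    rw [LinearMap.sum_apply, Prod.snd_sum] at h1
    simp only [modelMap_pow_apply, Prod.snd_zero] at h1
    rw [Finset.sum_const, Finset.card_range, ← Nat.cast_smul_eq_nsmul F] at h1
    exact (smul_eq_zero.mp h1).resolve_left hrF
  subst hw₁
  rw [Submodule.mem_bot]
  by_contra hne
  have hu : u ≠ 0 := by
    intro h
    apply hne
    rw [h]
    rfl
  obtain ⟨j, hj⟩ : ∃ j, u j ≠ 0 := by
    by_contra hcon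
    push Not at hcon
    exact hu (funext hcon)
  have hcopj : IsCoprime (Q j) (∏ l ∈ Finset.univ.erase j, Q l) := by
    apply IsCoprime.prod_right
    intro l hl
    exact hcop j l (Ne.symm (Finset.ne_of_mem_erase hl))
  obtain ⟨a, b, hab⟩ := hcopj
  obtain ⟨f, hf⟩ : ∃ f, f = b * ∏ l ∈ Finset.univ.erase j, Q l := ⟨_, rfl⟩
  have hfj : aeval (S j) f = 1 := by
    have h1 : f = 1 - a * Q j := by rw [hf, ← hab]; ring
    rw [h1, map_sub, map_mul, hQ j, mul_zero, sub_zero, map_one]
  have hfl : ∀ l, l ≠ j → aeval (S l) f = 0 := by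
    intro l hl
    obtain ⟨c, hc⟩ := Finset.dvd_prod_of_mem Q (Finset.mem_erase.mpr ⟨hl, Finset.mem_univ l⟩)
    rw [hf, hc, map_mul, map_mul, hQ l, zero_mul, mul_zero]
  have hfw : aeval (modelMap (V₁ := V₁) S) f (u, (0 : V₁)) = blockEmb (F := F) (V₁ := V₁) j (u j) := by
    rw [← sum_blockEmb (F := F) (V₁ := V₁) u, map_sum]
    rw [Finset.sum_eq_single j]
    · rw [aeval_intertwine _ (modelMap_blockEmb (V₁ := V₁) S j), hfj, Module.End.one_apply]
    · intro l _ hl
      rw [aeval_intertwine _ (modelMap_blockEmb (V₁ := V₁) S l), hfl l hl, LinearMap.zero_apply, map_zero]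
    · intro h
      exact absurd (Finset.mem_univ j) h
  have hjW : blockEmb (F := F) (V₁ := V₁) j (u j) ∈ W := by
    rw [← hfw]
    exact invt_aeval_apply hW f hwW
  obtain ⟨U, hU⟩ : ∃ U : Submodule F V₀, U = W.comap (blockEmb (F := F) (V₁ := V₁) j) := ⟨_, rfl⟩
  have hUinv : U ∈ Module.End.invtSubmodule (S j) := by
    rw [Module.End.mem_invtSubmodule]
    intro y hy
    rw [hU, Submodule.mem_comap] at hy
    rw [Submodule.mem_comap, hU, Submodule.mem_comap, ← modelMap_blockEmb]
    exact invt_apply hW hy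
  have hUtop : U = ⊤ := by
    rcases hirr j U hUinv with h | h
    · exfalso
      have : u j ∈ U := by rw [hU, Submodule.mem_comap]; exact hjW
      rw [h, Submodule.mem_bot] at this
      exact hj this
    · exact h
  obtain ⟨y, hy⟩ := exists_ne (0 : V₀)
  apply hy
  apply hB₀nd
  intro y'
  have h1 : y ∈ U := by rw [hUtop]; exact Submodule.mem_top
  have h2 : y' ∈ U := by rw [hUtop]; exact Submodule.mem_top
  rw [hU, Submodule.mem_comap] at h1 h2
  rw [← prodB_blockEmb B₀ B₁ j y y']
  exact hWti _ h1 _ h2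

end model

end Cfsg.Agent.Helper7.SpTI
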