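import Mathlib
import Cfsg.Agent.Helper7.SpTII

/-!
# Derangements with blocks of pairwise different types
-/

set_option autoImplicit false

namespace Cfsg.Agent.Helper7.SpTI

open Matrix Module Polynomial Cfsg.Agent.Helper8.SpS Cfsg.Agent.Helper8.SpStab Cfsg.Agent.Helper7.POrd
  Cfsg.Agent.Helper7.SpOrd Cfsg.Agent.Helper7.SpCP

variable {F : Type*} [Field F] [Fintype F] {p : ℕ} [Fact p.Prime] [CharP F p] {r : ℕ} [Fact r.Prime]

theorem nd_top_of_nondeg {V : Type*} [AddCommGroup V] [Module F V] {B : LinearMap.BilinForm F V}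
    (h : Nondeg B) : ND B ⊤ := by
  intro u _ hu
  by_contra hcon
  push Not at hcon
  exact hu (h u (fun v => hcon v Submodule.mem_top))

/-- **the derangement**: `s ≤ t` blocks of pairwise different types; an invariant totally isotropic subspace has
dimension at most `(2d - i s) / 2`. -/
theorem exists_derangement_types (hr2 : r ≠ 2) (hrp : r ≠ p)
    (hev : Even (orderOf ((Fintype.card F : ℕ) : ZMod r))) {d s : ℕ} (hs1 : 1 ≤ s)
    (hst : s * orderOf ((Fintype.card F : ℕ) : ZMod r) ≤ r - 1)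
    (hsd : orderOf ((Fintype.card F : ℕ) : ZMod r) * s ≤ 2 * d) :
    ∃ x : symplecticGroup (Fin d) F, x ^ r = 1 ∧ x ≠ 1 ∧
      ∀ W : Submodule F (Fin d ⊕ Fin d → F), (∀ u ∈ W, ∀ v ∈ W, Cfsg.sympForm d F u v = 0) →
        W.map (Matrix.toLin' (x : Matrix (Fin d ⊕ Fin d) (Fin d ⊕ Fin d) F)) ≤ W →
        2 * finrank F ↥W + orderOf ((Fintype.card F : ℕ) : ZMod r) * s ≤ 2 * d := by
  classical
  have hr : r.Prime := Fact.out
  have hrF : (r : F) ≠ 0 := natCast_ne_zero_of_ne hrp
  obtain ⟨i, hi⟩ : ∃ i, i = orderOf ((Fintype.card F : ℕ) : ZMod r) := ⟨_, rfl⟩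
  rw [← hi] at hev hst hsd ⊢
  have hipos : 0 < i := by rw [hi]; exact orderOf_q_pos hrp
  obtain ⟨h, hh⟩ := hev
  have hcOf : cOf (orderOf ((Fintype.card F : ℕ) : ZMod r)) = 2 * h := by
    rw [← hi]
    unfold cOf
    rw [if_pos ⟨h, hh⟩]
    omega
  obtain ⟨x₀, hx₀r, hx₀fix⟩ := exists_block_elt hr2 hrp hcOf
  obtain ⟨T₀, hT₀⟩ : ∃ T₀ : Module.End F (Fin h ⊕ Fin h → F),
      T₀ = Matrix.toLin' (x₀ : Matrix (Fin h ⊕ Fin h) (Fin h ⊕ Fin h) F) := ⟨_, rfl⟩
  rw [← hT₀] at hx₀fix
  have hT₀r : T₀ ^ r = 1 := by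
    rw [hT₀, toLin'_pow_symp, hx₀r]
    exact Matrix.toLin'_one
  have hiso₀ : ∀ u v, sB h F (T₀ u) (T₀ v) = sB h F u v := by
    intro u v
    rw [hT₀]
    exact sB_iso x₀ u v
  have hdim₀ : finrank F (Fin h ⊕ Fin h → F) = orderOf ((Fintype.card F : ℕ) : ZMod r) := by
    rw [Module.finrank_fintype_fun_eq_card, Fintype.card_sum, Fintype.card_fin, ← hi]
    omega
  have hh1 : 1 ≤ h := by omega
  haveI : Nontrivial (Fin h ⊕ Fin h → F) := by
    haveI : Nonempty (Fin h ⊕ Fin h) := ⟨Sum.inl ⟨0, by omega⟩⟩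
    infer_instance
  have hirr₀ : ∀ U : Submodule F (Fin h ⊕ Fin h → F), U ∈ Module.End.invtSubmodule T₀ → U = ⊥ ∨ U = ⊤ := by
    intro U hU
    exact irred_of_finrank hT₀r (M := ⊤) (by rw [top_inf_eq, hx₀fix]) (by rw [finrank_top, hdim₀]) hU le_top
  have hT₀ne : T₀ ≠ 1 := by
    intro h1
    have : fixS T₀ = ⊤ := by
      rw [eq_top_iff]
      intro w _
      rw [POrd.mem_fixS, h1, Module.End.one_apply]
    rw [hx₀fix] at this
    exact bot_ne_top this
  -- the factors
  obtain ⟨t, ht⟩ : ∃ t, t * i = r - 1 := by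
    obtain ⟨t, ht⟩ := orderOf_q_dvd (F := F) hrp
    exact ⟨t, by rw [hi, ht, mul_comm]⟩
  have hst' : s ≤ t := by
    rw [← ht] at hst
    exact Nat.le_of_mul_le_mul_right hst hipos
  obtain ⟨Q', hinj, hQ', -⟩ := Cfsg.Agent.Helper8.SemiS.exists_cyclotomic_factors (F := F) p r hr hrp i t hi ht
  have hex : ∀ l : Fin s, ∃ e, 1 ≤ e ∧ e < r ∧ aeval (T₀ ^ e) (Q' (Fin.castLE hst' l)) = 0 := fun l =>
    exists_pow_type hrp hT₀r hx₀fix hdim₀ (hQ' _).2.1 (hQ' _).2.2.2
  choose ex hex1 hexr hexQ using hex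
  obtain ⟨S, hS⟩ : ∃ S : Fin s → Module.End F (Fin h ⊕ Fin h → F), S = fun l => T₀ ^ (ex l) := ⟨_, rfl⟩
  have hSl : ∀ l, S l = T₀ ^ (ex l) := fun l => by rw [hS]
  have hSr : ∀ l, (S l) ^ r = 1 := by
    intro l
    rw [hSl, ← pow_mul, mul_comm, pow_mul, hT₀r, one_pow]
  have hSiso : ∀ l, Inv (sB h F) (S l) := by
    intro l u v
    rw [hSl]
    exact iso_pow hiso₀ _ u v
  have hSQ : ∀ l, aeval (S l) (Q' (Fin.castLE hst' l)) = 0 := fun l => by rw [hSl]; exact hexQ l
  have hback : ∀ l, ∃ e', (S l) ^ e' = T₀ := by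
    intro l
    have hcop : Nat.Coprime (ex l) r := by
      rw [Nat.coprime_comm]
      exact (Nat.Prime.coprime_iff_not_dvd hr).mpr (fun hd => by
        have := Nat.le_of_dvd (by have := hex1 l; omega) hd
        have := hexr l
        omega)
    obtain ⟨e', -, he'⟩ := Nat.exists_mul_mod_eq_one_of_coprime hcop hr.one_lt
    refine ⟨e', ?_⟩
    rw [hSl, ← pow_mul, pow_eq_pow_mod _ hT₀r, he', pow_one]
  have hSirr : ∀ l, ∀ U : Submodule F (Fin h ⊕ Fin h → F), U ∈ Module.End.invtSubmodule (S l) →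
      U = ⊥ ∨ U = ⊤ := by
    intro l U hU
    apply hirr₀
    obtain ⟨e', he'⟩ := hback l
    rw [← he', Module.End.mem_invtSubmodule]
    intro y hy
    exact invt_pow_apply hU hy e'
  have hSne : ∀ l, S l ≠ 1 := by
    intro l h1
    obtain ⟨e', he'⟩ := hback l
    rw [h1, one_pow] at he'
    exact hT₀ne he'.symm
  have hcop : ∀ l l' : Fin s, l ≠ l' → IsCoprime (Q' (Fin.castLE hst' l)) (Q' (Fin.castLE hst' l')) := by
    intro l l' hll
    rw [(hQ' _).2.1.coprime_iff_not_dvd]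
    intro hdvd
    apply hll
    have hassoc := (hQ' (Fin.castLE hst' l)).2.1.associated_of_dvd (hQ' (Fin.castLE hst' l')).2.1 hdvd
    have := hinj (eq_of_monic_of_associated (hQ' _).1 (hQ' _).1 hassoc)
    exact Fin.castLE_injective hst' this
  -- the model
  have hhs : h * s ≤ d := by
    rw [hh] at hsd
    have : (h + h) * s = 2 * (h * s) := by ring
    omega
  obtain ⟨B, hBdef⟩ : ∃ B : LinearMap.BilinForm F ((Fin s → (Fin h ⊕ Fin h → F)) ×
      (Fin (d - h * s) ⊕ Fin (d - h * s) → F)),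
      B = prodB (piB (ι := Fin s) (sB h F)) (sB (d - h * s) F) := ⟨_, rfl⟩
  have hAlt : Alt B := by
    rw [hBdef]
    exact prodB_alt (piB_alt (ι := Fin s) (sB_alt (F := F) (m := h))) (sB_alt (F := F) (m := d - h * s))
  have hND : Nondeg B := by
    rw [hBdef]
    exact prodB_nondeg (piB_nondeg (ι := Fin s) (sB_nondeg (F := F) (m := h)))
      (sB_nondeg (F := F) (m := d - h * s))
  obtain ⟨φ, hφdef⟩ : ∃ φ : Module.End F ((Fin s → (Fin h ⊕ Fin h → F)) ×
      (Fin (d - h * s) ⊕ Fin (d - h * s) → F)),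
      φ = modelMap (V₁ := (Fin (d - h * s) ⊕ Fin (d - h * s) → F)) S := ⟨_, rfl⟩
  have hInv : Inv B φ := by
    rw [hBdef, hφdef]
    exact prodB_inv (piB_invF hSiso) (fun u v => rfl)
  have hφr : φ ^ r = 1 := by
    apply LinearMap.ext
    intro y
    rw [hφdef, modelMap_pow_apply]
    apply Prod.ext
    · funext l
      simp only [hSr l, Module.End.one_apply]
    · rfl
  have hdimE : finrank F ((Fin s → (Fin h ⊕ Fin h → F)) × (Fin (d - h * s) ⊕ Fin (d - h * s) → F)) =
      2 * d := by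
    rw [Module.finrank_prod, Module.finrank_pi_fintype, Module.finrank_fintype_fun_eq_card,
      Module.finrank_fintype_fun_eq_card]
    simp only [Fintype.card_sum, Fintype.card_fin, Finset.sum_const, Finset.card_univ, smul_eq_mul]
    have : s * (h + h) = 2 * (h * s) := by ring
    omega
  obtain ⟨x, e, he1, he2⟩ := exists_symp_model B hAlt hND φ hInv d hdimE
  have hpow : ∀ (n : ℕ) v, ((Matrix.toLin' (x : Matrix (Fin d ⊕ Fin d) (Fin d ⊕ Fin d) F) :
      Module.End F (Fin d ⊕ Fin d → F)) ^ n) (e v) = e ((φ ^ n) v) := by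
    intro n
    induction n with
    | zero => intro v; simp
    | succ n ih =>
      intro v
      rw [pow_succ, Module.End.mul_apply, he2, ih, pow_succ, Module.End.mul_apply]
  have hxr : x ^ r = 1 := by
    apply Subtype.ext
    apply Matrix.toLin'.injective
    rw [← toLin'_pow_symp]
    apply LinearMap.ext
    intro w
    obtain ⟨v, rfl⟩ := e.surjective w
    rw [hpow, hφr, Module.End.one_apply]
    show _ = Matrix.toLin' (1 : Matrix (Fin d ⊕ Fin d) (Fin d ⊕ Fin d) F) (e v)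
    rw [Matrix.toLin'_one, LinearMap.id_apply]
  have hB : B.IsAlt := hAlt
  have hV : ND B ⊤ := nd_top_of_nondeg hND
  have hfixS : ∀ l, fixS (S l) = ⊥ := by
    intro l
    rcases hSirr l _ (fixS_invt (S l)) with h1 | h1
    · exact h1
    · exfalso
      apply hSne l
      apply LinearMap.ext
      intro w
      have : w ∈ fixS (S l) := by rw [h1]; exact Submodule.mem_top
      rw [Module.End.one_apply]
      exact POrd.mem_fixS.mp this
  have hfixdim : finrank F ↥(fixS φ) ≤ 2 * (d - h * s) := by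
    have hinj' : Function.Injective ((LinearMap.snd F (Fin s → (Fin h ⊕ Fin h → F))
        (Fin (d - h * s) ⊕ Fin (d - h * s) → F)) ∘ₗ (fixS φ).subtype) := by
      rw [← LinearMap.ker_eq_bot, eq_bot_iff]
      rintro ⟨⟨u, w⟩, hy⟩ hker
      rw [LinearMap.mem_ker, LinearMap.comp_apply, Submodule.subtype_apply, LinearMap.snd_apply] at hker
      simp only at hker
      rw [Submodule.mem_bot]
      apply Subtype.ext
      have hfx := POrd.mem_fixS.mp hy
      rw [hφdef, modelMap_apply] at hfx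
      have hu : u = 0 := by
        funext l
        have h1 := congrFun (congrArg Prod.fst hfx) l
        simp only [piMapF_apply] at h1
        have h2 : u l ∈ fixS (S l) := POrd.mem_fixS.mpr h1
        rw [hfixS l, Submodule.mem_bot] at h2
        exact h2
      show (u, w) = 0
      rw [hu, hker]
      rfl
    have := LinearMap.finrank_le_finrank_of_injective hinj'
    rw [Module.finrank_fintype_fun_eq_card, Fintype.card_sum, Fintype.card_fin] at this
    omega
  refine ⟨x, hxr, ?_, ?_⟩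
  · intro hx1
    have hφ1 : φ = 1 := by
      apply LinearMap.ext
      intro v
      apply e.injective
      rw [← he2, hx1]
      show Matrix.toLin' (1 : Matrix (Fin d ⊕ Fin d) (Fin d ⊕ Fin d) F) (e v) = _
      rw [Matrix.toLin'_one, LinearMap.id_apply, Module.End.one_apply]
    apply hSne ⟨0, by omega⟩
    apply LinearMap.ext
    intro y
    have h1 := LinearMap.congr_fun hφ1 (blockEmb (F := F) (V₁ := (Fin (d - h * s) ⊕ Fin (d - h * s) → F))
      ⟨0, by omega⟩ y)
    rw [hφdef, modelMap_blockEmb, Module.End.one_apply, blockEmb_apply, blockEmb_apply] at h1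
    have h2 := congrFun (congrArg Prod.fst h1) ⟨0, by omega⟩
    simp only [Pi.single_eq_same] at h2
    rw [Module.End.one_apply]
    exact h2
  · intro W hWti hWinv
    obtain ⟨W', hW'inv, hW'ti, hW'd⟩ := pullback_ti (B := B) (φ := φ) e he1 he2 rfl hWti hWinv
    have : Finite ((Fin s → (Fin h ⊕ Fin h → F)) × (Fin (d - h * s) ⊕ Fin (d - h * s) → F)) :=
      Finite.of_fintype _
    have hmov : W' ⊓ movS r φ = ⊥ := by
      rw [hφdef] at hW'inv ⊢
      rw [hBdef] at hW'ti
      exact ti_inf_mov_eq_bot hrF (sB_nondeg (F := F) (m := h)) (sB (d - h * s) F) S hSirr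
        (fun l => Q' (Fin.castLE hst' l)) hSQ hcop hW'inv hW'ti
    have h1 := le_of_ti_of_mov_eq_bot hrp hB hV hInv hφr hW'inv hW'ti hmov
    rw [hW'd] at h1
    have h2 : i * s = 2 * (h * s) := by rw [hh]; ring
    omega

end Cfsg.Agent.Helper7.SpTI
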