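import Mathlib
import Cfsg.Agent.Helper7.SpTIJ

/-!
# Involutions: invariant totally isotropic subspaces
-/

set_option autoImplicit false

namespace Cfsg.Agent.Helper7.SpTI

open Module Polynomial Cfsg.Agent.Helper7.POrd Cfsg.Agent.Helper7.SpOrd

variable {F : Type*} [Field F] [Fintype F] {V : Type*} [AddCommGroup V] [Module F V] [Finite V]

/-- **involutions**: `T ^ 2 = 1`. -/
theorem exists_ti_invol {B : LinearMap.BilinForm F V} (hB : B.IsAlt) (hV : ND B ⊤) {T : Module.End F V}
    (hiso : ∀ u v, B (T u) (T v) = B u v) (h2 : (2 : F) ≠ 0) (hT : T ^ 2 = 1) {d m : ℕ}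
    (hd : finrank F V = 2 * d) (hm : m ≤ d) :
    ∃ W : Submodule F V, W ∈ Module.End.invtSubmodule T ∧ TI B W ∧ finrank F ↥W = m := by
  have hfd : FiniteDimensional F V := Module.Finite.of_finite
  have hrefl := hB.isRefl
  have h2' : ((2 : ℕ) : F) ≠ 0 := by rw [Nat.cast_ofNat]; exact h2
  have hmovnd : ND B (movS 2 T) := by
    have := nd_inf_mov hrefl hiso h2' hT (Module.End.invtSubmodule.top_mem T) hV
    rwa [top_inf_eq] at this
  have hfixnd : ND B (fixS T) := by
    have := nd_inf_fix hrefl hiso h2' hT (Module.End.invtSubmodule.top_mem T) hV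
    rwa [top_inf_eq] at this
  have hsum := finrank_fix_add_mov h2' hT
  rw [hd] at hsum
  obtain ⟨a', ha'⟩ := even_finrank_of_nd hB hfixnd
  obtain ⟨b', hb'⟩ := even_finrank_of_nd hB hmovnd
  obtain ⟨U₁, hU₁, -, -, L₁, hL₁U, hL₁ti, hL₁d⟩ := exists_nd_sub hB hfixnd (min m a') (by omega)
  obtain ⟨U₂, hU₂, -, -, L₂, hL₂U, hL₂ti, hL₂d⟩ := exists_nd_sub hB hmovnd (m - min m a') (by omega)
  have hL₁fix : L₁ ≤ fixS T := hL₁U.trans hU₁
  have hL₂mov : L₂ ≤ movS 2 T := hL₂U.trans hU₂
  have hL₁inv : L₁ ∈ Module.End.invtSubmodule T := invt_of_le_fixS hL₁fix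
  have hL₂inv : L₂ ∈ Module.End.invtSubmodule T := by
    rw [Module.End.mem_invtSubmodule]
    intro v hv
    rw [Submodule.mem_comap]
    have h1 := mem_movS.mp (hL₂mov hv)
    unfold Phi at h1
    rw [Finset.sum_range_succ, Finset.sum_range_succ, Finset.sum_range_zero, zero_add, pow_zero, pow_one,
      LinearMap.add_apply, Module.End.one_apply] at h1
    rw [eq_neg_of_add_eq_zero_right h1]
    exact L₂.neg_mem hv
  have hperp : L₂ ≤ B.orthogonal L₁ := by
    intro v hv
    rw [mem_perp]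
    intro w hw
    exact fix_perp_mov hiso h2' (hL₁fix hw) (hL₂mov hv)
  refine ⟨L₁ ⊔ L₂, sup_invt hL₁inv hL₂inv, ti_sup hrefl hL₁ti hL₂ti hperp, ?_⟩
  have hdisj : L₁ ⊓ L₂ = ⊥ := by
    rw [eq_bot_iff, ← (disjoint_fix_mov h2' T).eq_bot]
    exact inf_le_inf hL₁fix hL₂mov
  have h4 := Submodule.finrank_sup_add_finrank_inf_eq L₁ L₂
  rw [hdisj, finrank_bot, add_zero] at h4
  rw [h4, hL₁d, hL₂d]
  omega

/-- an eigenspace for a square root of `-1` is totally isotropic. -/
theorem ti_ker_of_sq {B : LinearMap.BilinForm F V} {T : Module.End F V}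
    (hiso : ∀ u v, B (T u) (T v) = B u v) (h2 : (2 : F) ≠ 0) {lam : F} (hlam : lam * lam = -1) :
    TI B (LinearMap.ker (T - lam • (1 : Module.End F V))) := by
  intro u hu v hv
  rw [LinearMap.mem_ker, LinearMap.sub_apply, LinearMap.smul_apply, Module.End.one_apply, sub_eq_zero] at hu hv
  have h1 := hiso u v
  rw [hu, hv, map_smul, map_smul, LinearMap.smul_apply, smul_eq_mul, smul_eq_mul, ← mul_assoc, hlam] at h1
  have h3 : (2 : F) * B u v = 0 := by linear_combination -h1
  exact (mul_eq_zero.mp h3).resolve_left h2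

/-- **`T ^ 2 = -1` with `-1` a square.** -/
theorem exists_ti_split {B : LinearMap.BilinForm F V} (hB : B.IsAlt) (hV : ND B ⊤) {T : Module.End F V}
    (hiso : ∀ u v, B (T u) (T v) = B u v) (h2 : (2 : F) ≠ 0) (hT : T * T = -1) {ι : F} (hι : ι * ι = -1)
    {d m : ℕ} (hd : finrank F V = 2 * d) (hm : m ≤ d) :
    ∃ W : Submodule F V, W ∈ Module.End.invtSubmodule T ∧ TI B W ∧ finrank F ↥W = m := by
  have hfd : FiniteDimensional F V := Module.Finite.of_finite
  have hrefl := hB.isRefl
  have hι0 : ι ≠ 0 := by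
    rintro rfl
    rw [mul_zero] at hι
    exact zero_ne_one (neg_eq_zero.mp hι.symm).symm
  have hι' : (-ι) * (-ι) = -1 := by rw [neg_mul_neg, hι]
  have htiP := ti_ker_of_sq (B := B) hiso h2 hι
  have htiN := ti_ker_of_sq (B := B) hiso h2 hι'
  have hTT : ∀ v, T (T v) = -v := by
    intro v
    have := LinearMap.congr_fun hT v
    rwa [Module.End.mul_apply, LinearMap.neg_apply, Module.End.one_apply] at this
  have hsup : LinearMap.ker (T - ι • (1 : Module.End F V)) ⊔ LinearMap.ker (T - (-ι) • (1 : Module.End F V)) = ⊤ := by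
    rw [eq_top_iff]
    intro v _
    have h2ι : (2 * ι) ≠ 0 := mul_ne_zero h2 hι0
    have hv : v = (2 * ι)⁻¹ • (T v + ι • v) + (2 * ι)⁻¹ • (ι • v - T v) := by
      rw [← smul_add]
      have : T v + ι • v + (ι • v - T v) = (2 * ι) • v := by
        rw [mul_smul, two_smul]; abel
      rw [this, smul_smul, inv_mul_cancel₀ h2ι, one_smul]
    rw [hv]
    apply Submodule.add_mem_sup
    · apply Submodule.smul_mem
      rw [LinearMap.mem_ker, LinearMap.sub_apply, LinearMap.smul_apply, Module.End.one_apply, map_add, map_smul,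
        hTT, smul_add, smul_smul, hι]
      simp only [neg_smul, one_smul]
      abel
    · apply Submodule.smul_mem
      rw [LinearMap.mem_ker, LinearMap.sub_apply, LinearMap.smul_apply, Module.End.one_apply, map_sub, map_smul,
        hTT, smul_sub, smul_smul, neg_mul, hι]
      simp only [neg_smul, one_smul, neg_neg]
      abel
  have hleP := finrank_ti_le_of_nd hrefl hV hV (le_top : LinearMap.ker (T - ι • (1 : Module.End F V)) ≤ ⊤) htiP
  have hleN := finrank_ti_le_of_nd hrefl hV hV (le_top : LinearMap.ker (T - (-ι) • (1 : Module.End F V)) ≤ ⊤) htiN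
  rw [finrank_top, hd] at hleP hleN
  have h3 := Submodule.finrank_add_le_finrank_add_finrank (LinearMap.ker (T - ι • (1 : Module.End F V)))
    (LinearMap.ker (T - (-ι) • (1 : Module.End F V)))
  rw [hsup, finrank_top, hd] at h3
  have hdimP : finrank F ↥(LinearMap.ker (T - ι • (1 : Module.End F V))) = d := by omega
  obtain ⟨A, -, hA⟩ := exists_chain_sub (LinearMap.ker (T - ι • (1 : Module.End F V)))
  obtain ⟨hAle, hAd⟩ := hA m (by rw [hdimP]; exact hm)
  refine ⟨A m, ?_, ti_mono htiP hAle, hAd⟩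
  rw [Module.End.mem_invtSubmodule]
  intro v hv
  rw [Submodule.mem_comap]
  have h4 := hAle hv
  rw [LinearMap.mem_ker, LinearMap.sub_apply, LinearMap.smul_apply, Module.End.one_apply, sub_eq_zero] at h4
  rw [h4]
  exact Submodule.smul_mem _ _ hv

end Cfsg.Agent.Helper7.SpTI
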