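import Mathlib
import Cfsg.Agent.Helper7.SpTIK

/-!
# `T ^ 2 = -1` when `-1` is not a square
-/

set_option autoImplicit false

namespace Cfsg.Agent.Helper7.SpTI

open Module Polynomial Cfsg.Agent.Helper7.POrd Cfsg.Agent.Helper7.SpOrd

variable {F : Type*} [Field F] [Fintype F] {V : Type*} [AddCommGroup V] [Module F V] [Finite V]

theorem irreducible_X_sq_add_one (hns : ¬ IsSquare (-1 : F)) : Irreducible (X ^ 2 + 1 : F[X]) := by
  have hm : (X ^ 2 + 1 : F[X]).Monic := by
    have : (X ^ 2 + 1 : F[X]) = X ^ 2 + C 1 := by rw [map_one]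
    rw [this]
    exact monic_X_pow_add_C 1 (by norm_num)
  have hd : (X ^ 2 + 1 : F[X]).natDegree = 2 := by
    have : (X ^ 2 + 1 : F[X]) = X ^ 2 + C 1 := by rw [map_one]
    rw [this]
    exact natDegree_X_pow_add_C
  rw [hm.irreducible_iff_roots_eq_zero_of_degree_le_three (by rw [hd]) (by rw [hd]; norm_num)]
  rw [Multiset.eq_zero_iff_forall_notMem]
  intro a ha
  rw [mem_roots hm.ne_zero, IsRoot.def, eval_add, eval_pow, eval_X, eval_one] at ha
  apply hns
  exact ⟨a, by linear_combination -ha⟩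

/-- **`T ^ 2 = -1` with `-1` a non-square**: invariant totally isotropic subspaces of every even dimension up to
half the dimension. -/
theorem exists_ti_sq_neg_one_even {B : LinearMap.BilinForm F V} (hB : B.IsAlt) (hV : ND B ⊤)
    {T : Module.End F V} (hiso : ∀ u v, B (T u) (T v) = B u v) (h2 : (2 : F) ≠ 0) (hT : T * T = -1)
    (hns : ¬ IsSquare (-1 : F)) {d b : ℕ} (hd : finrank F V = 2 * d) (hb : 2 * b ≤ d) :
    ∃ W : Submodule F V, W ∈ Module.End.invtSubmodule T ∧ TI B W ∧ finrank F ↥W = 2 * b := by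
  have hfd : FiniteDimensional F V := Module.Finite.of_finite
  have hg := irreducible_X_sq_add_one hns
  have hgm : (X ^ 2 + 1 : F[X]).Monic := by
    have : (X ^ 2 + 1 : F[X]) = X ^ 2 + C 1 := by rw [map_one]
    rw [this]
    exact monic_X_pow_add_C 1 (by norm_num)
  have hgd : (X ^ 2 + 1 : F[X]).natDegree = 2 := by
    have : (X ^ 2 + 1 : F[X]) = X ^ 2 + C 1 := by rw [map_one]
    rw [this]
    exact natDegree_X_pow_add_C
  have hgT : aeval T (X ^ 2 + 1 : F[X]) = 0 := by
    rw [map_add, map_pow, aeval_X, map_one, pow_two, hT, neg_add_cancel]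
  have hT4 : T ^ 4 = 1 := by
    have : T ^ 4 = (T * T) * (T * T) := by
      rw [show (4 : ℕ) = 2 + 2 from rfl, pow_add, pow_two]
    rw [this, hT, neg_mul_neg, one_mul]
  have hss : T.IsSemisimple := by
    apply Module.End.isSemisimple_of_squarefree_aeval_eq_zero (p := (X ^ 2 + 1 : F[X])) hg.squarefree hgT
  have hfix : fixS T = ⊥ := by
    rw [eq_bot_iff]
    intro v hv
    rw [mem_fixS] at hv
    have h1 := LinearMap.congr_fun hT v
    rw [Module.End.mul_apply, hv, hv, LinearMap.neg_apply, Module.End.one_apply] at h1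
    have h3 : (2 : F) • v = 0 := by
      rw [two_smul]
      nth_rewrite 1 [h1]
      exact neg_add_cancel v
    rw [Submodule.mem_bot]
    exact (smul_eq_zero.mp h3).resolve_left h2
  have hstep : ∀ M' : Submodule F V, M' ∈ Module.End.invtSubmodule T → ND B M' → M' ⊓ fixS T = ⊥ →
      2 < finrank F ↥M' → ∃ H L : Submodule F V, H ≤ M' ∧ H ∈ Module.End.invtSubmodule T ∧ ND B H ∧
        finrank F ↥H = 2 * 2 ∧ L ≤ H ∧ L ∈ Module.End.invtSubmodule T ∧ TI B L ∧ finrank F ↥L = 2 := by
    intro M' hM' hnd _ hbig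
    obtain ⟨L, hLM, hLinv, hLti, hLd⟩ := exists_ti_irred hB hiso hg hgm (e := 1) (by rw [hgd]) hM'
      (fun u _ => by rw [hgT, LinearMap.zero_apply]) (by omega)
    obtain ⟨H, hLH, hHM, hHinv, hHnd, hHd⟩ := exists_hyp hB hV hiso (by norm_num : 0 < 4) hT4 hss hM' hnd
      hLinv hLM hLti
    exact ⟨H, L, hHM, hHinv, hHnd, by rw [hHd, hLd, hgd], hLH, hLinv, hLti, by rw [hLd, hgd]⟩
  obtain ⟨L, -, hLinv, hLti, hLd⟩ := exists_ti_ladder hB hiso (by norm_num : 0 < 4) hT4 hstep b ⊤
    (Module.End.invtSubmodule.top_mem T) hV (by rw [top_inf_eq, hfix]) (by rw [finrank_top, hd]; omega)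
  exact ⟨L, hLinv, hLti, hLd⟩

/-- **no invariant subspaces of odd dimension** when `T ^ 2 = -1` and `-1` is not a square. -/
theorem even_finrank_of_sq_neg_one {T : Module.End F V} (hT : T * T = -1) (hns : ¬ IsSquare (-1 : F))
    {W : Submodule F V} (hW : W ∈ Module.End.invtSubmodule T) : Even (finrank F ↥W) := by
  have hfd : FiniteDimensional F V := Module.Finite.of_finite
  by_contra hodd
  rw [Nat.not_even_iff_odd] at hodd
  apply hns
  obtain ⟨T', hT'⟩ : ∃ T' : Module.End F ↥W, T' = LinearMap.restrict T hW := ⟨_, rfl⟩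
  have hres : ∀ w : ↥W, ((LinearMap.restrict T hW w : ↥W) : V) = T (w : V) := fun w => rfl
  have hT'2 : T' * T' = (-1 : F) • (1 : Module.End F ↥W) := by
    apply LinearMap.ext
    intro w
    apply Subtype.ext
    rw [Module.End.mul_apply, hT', hres, hres, LinearMap.smul_apply, Module.End.one_apply,
      Submodule.coe_smul]
    have := LinearMap.congr_fun hT (w : V)
    rw [Module.End.mul_apply, LinearMap.neg_apply, Module.End.one_apply] at this
    rw [this, neg_smul, one_smul]
  have h1 := congrArg LinearMap.det hT'2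
  rw [map_mul, LinearMap.det_smul, map_one, mul_one, hodd.neg_one_pow] at h1
  exact ⟨LinearMap.det T', h1.symm⟩

end Cfsg.Agent.Helper7.SpTI
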