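import Mathlib
import Cfsg.Agent.Helper7.SpTIL

/-!
# Elements of prime order of the symplectic group and totally isotropic subspaces: the assembly
-/

set_option autoImplicit false

namespace Cfsg.Agent.Helper7.SpTI

open Matrix Module Polynomial Cfsg.Agent.Helper8.SpS Cfsg.Agent.Helper8.SpStab Cfsg.Agent.Helper7.POrd
  Cfsg.Agent.Helper7.SpOrd

variable {F : Type*} [Field F] [Fintype F] {p : ℕ} [Fact p.Prime] [CharP F p] {r : ℕ} [Fact r.Prime]

/-- the set in the statement, as `TISub`. -/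
theorem card_ti_eq (d m : ℕ) :
    Nat.card {W : Submodule F (Fin d ⊕ Fin d → F) // finrank F ↥W = m ∧
      (∀ u ∈ W, ∀ v ∈ W, Cfsg.sympForm d F u v = 0)} = Nat.card (TISub (sB d F) m) := by
  apply Nat.card_congr
  apply Equiv.subtypeEquivRight
  intro W
  constructor
  · rintro ⟨h1, h2⟩
    exact ⟨h1, fun u hu v hv => by rw [sB_apply]; exact h2 u hu v hv⟩
  · rintro ⟨h1, h2⟩
    exact ⟨h1, fun u hu v hv => by rw [← sB_apply]; exact h2 u hu v hv⟩

theorem finrank_std (d : ℕ) : finrank F (Fin d ⊕ Fin d → F) = 2 * d := by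
  rw [Module.finrank_fintype_fun_eq_card, Fintype.card_sum, Fintype.card_fin]
  ring

/-- from an invariant totally isotropic subspace for the endomorphism to the form of the statement. -/
theorem to_statement {d m : ℕ} (x : symplecticGroup (Fin d) F) {W : Submodule F (Fin d ⊕ Fin d → F)}
    (hW : W ∈ Module.End.invtSubmodule (Matrix.toLin' (x : Matrix (Fin d ⊕ Fin d) (Fin d ⊕ Fin d) F)))
    (hWti : TI (sB d F) W) (hWd : finrank F ↥W = m) :
    ∃ W : Submodule F (Fin d ⊕ Fin d → F), finrank F ↥W = m ∧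
      (∀ u ∈ W, ∀ v ∈ W, Cfsg.sympForm d F u v = 0) ∧
      W.map (Matrix.toLin' (x : Matrix (Fin d ⊕ Fin d) (Fin d ⊕ Fin d) F)) ≤ W := by
  refine ⟨W, hWd, fun u hu v hv => by rw [← sB_apply]; exact hWti u hu v hv, ?_⟩
  rw [Submodule.map_le_iff_le_comap]
  exact (Module.End.mem_invtSubmodule _).mp hW

theorem of_statement {d : ℕ} (x : symplecticGroup (Fin d) F) {W : Submodule F (Fin d ⊕ Fin d → F)}
    (hWti : ∀ u ∈ W, ∀ v ∈ W, Cfsg.sympForm d F u v = 0)
    (hWinv : W.map (Matrix.toLin' (x : Matrix (Fin d ⊕ Fin d) (Fin d ⊕ Fin d) F)) ≤ W) :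
    W ∈ Module.End.invtSubmodule (Matrix.toLin' (x : Matrix (Fin d ⊕ Fin d) (Fin d ⊕ Fin d) F)) ∧
      TI (sB d F) W := by
  refine ⟨?_, fun u hu v hv => by rw [sB_apply]; exact hWti u hu v hv⟩
  rw [Module.End.mem_invtSubmodule, ← Submodule.map_le_iff_le_comap]
  exact hWinv

theorem two_ne_zero_of_char_ne (hp2 : p ≠ 2) : (2 : F) ≠ 0 := by
  intro h
  have h1 : ((2 : ℕ) : F) = 0 := by rw [Nat.cast_ofNat]; exact h
  rw [CharP.cast_eq_zero_iff F p 2] at h1
  exact hp2 ((Nat.prime_dvd_prime_iff_eq Fact.out Nat.prime_two).mp h1)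

/-- **`r = 2`, existence.** -/
theorem exists_ti_invt_two (hp2 : p ≠ 2) {d m : ℕ} (hd : 1 ≤ d) (hm : m ≤ d)
    (hcond : Even m ∨ Fintype.card F % 4 = 1) (x : symplecticGroup (Fin d) F) {z : F}
    (hz : ((x ^ 2 : symplecticGroup (Fin d) F) : Matrix (Fin d ⊕ Fin d) (Fin d ⊕ Fin d) F) = z • 1) :
    ∃ W : Submodule F (Fin d ⊕ Fin d → F), finrank F ↥W = m ∧
      (∀ u ∈ W, ∀ v ∈ W, Cfsg.sympForm d F u v = 0) ∧
      W.map (Matrix.toLin' (x : Matrix (Fin d ⊕ Fin d) (Fin d ⊕ Fin d) F)) ≤ W := by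
  have h2 : (2 : F) ≠ 0 := two_ne_zero_of_char_ne hp2
  obtain ⟨X, hX⟩ : ∃ X : Module.End F (Fin d ⊕ Fin d → F),
      X = Matrix.toLin' (x : Matrix (Fin d ⊕ Fin d) (Fin d ⊕ Fin d) F) := ⟨_, rfl⟩
  have hXr : X ^ 2 = z • (1 : Module.End F (Fin d ⊕ Fin d → F)) := by
    rw [hX, toLin'_pow_symp, hz, map_smul, Matrix.toLin'_one]
    rfl
  have hisoX : ∀ u v, sB d F (X u) (X v) = sB d F u v := by
    intro u v
    rw [hX]
    exact sB_iso x u v
  have hz2 := scalar_sq_eq_one hd hisoX hXr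
  have key : ∃ W : Submodule F (Fin d ⊕ Fin d → F), W ∈ Module.End.invtSubmodule X ∧ TI (sB d F) W ∧
      finrank F ↥W = m := by
    rcases mul_self_eq_one_iff.mp hz2 with h1 | h1
    · rw [h1, one_smul] at hXr
      exact exists_ti_invol (sB_isAlt d) (sB_ND d) hisoX h2 hXr (finrank_std d) hm
    · have hXX : X * X = -1 := by
        rw [← pow_two, hXr, h1]
        exact neg_one_smul F (1 : Module.End F (Fin d ⊕ Fin d → F))
      by_cases hsq : IsSquare (-1 : F)
      · obtain ⟨ι, hι⟩ := hsq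
        exact exists_ti_split (sB_isAlt d) (sB_ND d) hisoX h2 hXX hι.symm (finrank_std d) hm
      · have h3 : Fintype.card F % 4 = 3 := by
          by_contra h
          exact hsq (FiniteField.isSquare_neg_one_iff.mpr h)
        rcases hcond with hev | h4
        · obtain ⟨b, hb⟩ := hev
          have := exists_ti_sq_neg_one_even (sB_isAlt d) (sB_ND d) hisoX h2 hXX hsq (finrank_std d)
            (b := b) (by omega)
          rw [show 2 * b = m by omega] at this
          exact this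
        · omega
  obtain ⟨W, hW, hWti, hWd⟩ := key
  rw [hX] at hW
  exact to_statement x hW hWti hWd

/-- **`r = 2`, the derangement**: for `q ≡ 3 (mod 4)` the matrix `J` fixes no subspace of odd dimension. -/
theorem exists_no_invt_odd {d : ℕ} (hd : 1 ≤ d) (h3 : Fintype.card F % 4 = 3) :
    ∃ x : symplecticGroup (Fin d) F,
      (∃ z : F, ((x ^ 2 : symplecticGroup (Fin d) F) : Matrix (Fin d ⊕ Fin d) (Fin d ⊕ Fin d) F) = z • 1) ∧
      (∀ z : F, (x : Matrix (Fin d ⊕ Fin d) (Fin d ⊕ Fin d) F) ≠ z • 1) ∧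
      ∀ W : Submodule F (Fin d ⊕ Fin d → F),
        W.map (Matrix.toLin' (x : Matrix (Fin d ⊕ Fin d) (Fin d ⊕ Fin d) F)) ≤ W → Even (finrank F ↥W) := by
  have hns : ¬ IsSquare (-1 : F) := by
    rw [FiniteField.isSquare_neg_one_iff]
    omega
  refine ⟨⟨J (Fin d) F, SymplecticGroup.J_mem (Fin d) F⟩, ⟨-1, ?_⟩, ?_, ?_⟩
  · rw [SubmonoidClass.coe_pow, pow_two]
    show J (Fin d) F * J (Fin d) F = _
    rw [J_squared, neg_smul, one_smul]
  · intro z hz
    have hz' : J (Fin d) F = z • 1 := hz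
    have h1 := congrFun (congrFun hz' (Sum.inl ⟨0, by omega⟩)) (Sum.inl ⟨0, by omega⟩)
    have h2 := congrFun (congrFun hz' (Sum.inr ⟨0, by omega⟩)) (Sum.inl ⟨0, by omega⟩)
    simp [J] at h1 h2
  · intro W hW
    have hWinv : W ∈ Module.End.invtSubmodule (Matrix.toLin' (J (Fin d) F)) := by
      rw [Module.End.mem_invtSubmodule, ← Submodule.map_le_iff_le_comap]
      exact hW
    refine even_finrank_of_sq_neg_one ?_ hns hWinv
    rw [Module.End.mul_eq_comp, ← Matrix.toLin'_mul, J_squared, map_neg, Matrix.toLin'_one]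
    rfl

end Cfsg.Agent.Helper7.SpTI
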