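import Mathlib
import Cfsg.Agent.Helper7.SpTIM

/-!
# Elements of odd prime order of the symplectic group and totally isotropic subspaces: the two halves
-/

set_option autoImplicit false

namespace Cfsg.Agent.Helper7.SpTI

open Matrix Module Polynomial Cfsg.Agent.Helper8.SpS Cfsg.Agent.Helper8.SpStab Cfsg.Agent.Helper7.POrd
  Cfsg.Agent.Helper7.SpOrd

variable {F : Type*} [Field F] [Fintype F] {p : ℕ} [Fact p.Prime] [CharP F p] {r : ℕ} [Fact r.Prime]

/-- **`r` odd, existence.** -/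
theorem exists_ti_invt_odd (hr2 : r ≠ 2) (hrp : r ≠ p) {d m : ℕ} (hd : 1 ≤ d) (hm : m ≤ d)
    (h1 : 2 * (m % orderOf ((Fintype.card F : ℕ) : ZMod r)) ≤
      (2 * d) % cOf (orderOf ((Fintype.card F : ℕ) : ZMod r)))
    (h2 : Odd (orderOf ((Fintype.card F : ℕ) : ZMod r)) ∨
      (r - 1) / orderOf ((Fintype.card F : ℕ) : ZMod r) + 2 * (m / orderOf ((Fintype.card F : ℕ) : ZMod r)) ≤
        (2 * d) / orderOf ((Fintype.card F : ℕ) : ZMod r))
    (x : symplecticGroup (Fin d) F) {z : F}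
    (hz : ((x ^ r : symplecticGroup (Fin d) F) : Matrix (Fin d ⊕ Fin d) (Fin d ⊕ Fin d) F) = z • 1) :
    ∃ W : Submodule F (Fin d ⊕ Fin d → F), finrank F ↥W = m ∧
      (∀ u ∈ W, ∀ v ∈ W, Cfsg.sympForm d F u v = 0) ∧
      W.map (Matrix.toLin' (x : Matrix (Fin d ⊕ Fin d) (Fin d ⊕ Fin d) F)) ≤ W := by
  obtain ⟨X, hX⟩ : ∃ X : Module.End F (Fin d ⊕ Fin d → F),
      X = Matrix.toLin' (x : Matrix (Fin d ⊕ Fin d) (Fin d ⊕ Fin d) F) := ⟨_, rfl⟩
  have hXr : X ^ r = z • (1 : Module.End F (Fin d ⊕ Fin d → F)) := by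
    rw [hX, toLin'_pow_symp, hz, map_smul, Matrix.toLin'_one]
    rfl
  have hisoX : ∀ u v, sB d F (X u) (X v) = sB d F u v := by
    intro u v
    rw [hX]
    exact sB_iso x u v
  have hz2 := scalar_sq_eq_one hd hisoX hXr
  have hz0 : z ≠ 0 := by
    intro h
    rw [h, mul_zero] at hz2
    exact zero_ne_one hz2
  obtain ⟨T, hTdef⟩ : ∃ T : Module.End F (Fin d ⊕ Fin d → F), T = z • X := ⟨_, rfl⟩
  have hT : T ^ r = 1 := by
    rw [hTdef, _root_.smul_pow, hXr, smul_smul, pow_succ_eq_one_of_sq hr2 hz2, one_smul]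
  have hisoT : ∀ u v, sB d F (T u) (T v) = sB d F u v := by
    intro u v
    rw [hTdef, LinearMap.smul_apply, LinearMap.smul_apply, map_smul, map_smul, LinearMap.smul_apply, smul_eq_mul,
      smul_eq_mul, hisoX, ← mul_assoc, hz2, one_mul]
  obtain ⟨W, hW, hWti, hWd⟩ := exists_ti_invt_aux hr2 hrp (sB_isAlt (F := F) d) (sB_ND d) hisoT hT
    (finrank_std d) (by omega) h1 h2
  have hW' : W ∈ Module.End.invtSubmodule X := by
    rw [Module.End.mem_invtSubmodule, ← Submodule.map_le_iff_le_comap] at hW ⊢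
    rw [hTdef, Submodule.map_smul X W z hz0] at hW
    exact hW
  rw [hX] at hW'
  exact to_statement x hW' hWti hWd

/-- **`r` odd, necessity.** -/
theorem cond_of_forall_odd (hr2 : r ≠ 2) (hrp : r ≠ p) {d m : ℕ} (hd : 1 ≤ d) (hm1 : 1 ≤ m) (hm : m ≤ d)
    (hdvd : r ∣ Nat.card (TISub (sB d F) m))
    (hall : ∀ x : symplecticGroup (Fin d) F,
      (∃ z : F, ((x ^ r : symplecticGroup (Fin d) F) : Matrix (Fin d ⊕ Fin d) (Fin d ⊕ Fin d) F) = z • 1) →
      (∀ z : F, (x : Matrix (Fin d ⊕ Fin d) (Fin d ⊕ Fin d) F) ≠ z • 1) →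
      ∃ W : Submodule F (Fin d ⊕ Fin d → F), finrank F ↥W = m ∧
        (∀ u ∈ W, ∀ v ∈ W, Cfsg.sympForm d F u v = 0) ∧
        W.map (Matrix.toLin' (x : Matrix (Fin d ⊕ Fin d) (Fin d ⊕ Fin d) F)) ≤ W) :
    orderOf ((Fintype.card F : ℕ) : ZMod r) ≤ m ∧
    2 * (m % orderOf ((Fintype.card F : ℕ) : ZMod r)) ≤
      (2 * d) % cOf (orderOf ((Fintype.card F : ℕ) : ZMod r)) ∧
    (Odd (orderOf ((Fintype.card F : ℕ) : ZMod r)) ∨
      (r - 1) / orderOf ((Fintype.card F : ℕ) : ZMod r) + 2 * (m / orderOf ((Fintype.card F : ℕ) : ZMod r)) ≤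
        (2 * d) / orderOf ((Fintype.card F : ℕ) : ZMod r)) := by
  have hr : r.Prime := Fact.out
  have hipos : 0 < orderOf ((Fintype.card F : ℕ) : ZMod r) := orderOf_q_pos hrp
  have hidvd : orderOf ((Fintype.card F : ℕ) : ZMod r) ∣ r - 1 := orderOf_q_dvd hrp
  obtain ⟨j, hjm, hj⟩ := exists_dvd_of_dvd_card_tiSub (sB_isAlt (F := F) d) (sB_ND d) m
    (by rw [finrank_std]; omega) hr hdvd
  rw [finrank_std] at hj
  have hij : orderOf ((Fintype.card F : ℕ) : ZMod r) ∣ 2 * (d - j) := by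
    have := orderOf_dvd_of_dvd_pow_sub_one hj
    rwa [show 2 * d - 2 * j = 2 * (d - j) by omega] at this
  have hcj : cOf (orderOf ((Fintype.card F : ℕ) : ZMod r)) ∣ 2 * (d - j) := cOf_dvd_of_dvd hij
  have hcpos : 0 < cOf (orderOf ((Fintype.card F : ℕ) : ZMod r)) := cOf_pos hipos
  obtain ⟨i, hi⟩ : ∃ i, i = orderOf ((Fintype.card F : ℕ) : ZMod r) := ⟨_, rfl⟩
  obtain ⟨c, hc⟩ : ∃ c, c = cOf (orderOf ((Fintype.card F : ℕ) : ZMod r)) := ⟨_, rfl⟩
  have hcle : c ≤ 2 * d := by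
    rw [hc]
    have := Nat.le_of_dvd (by omega) hcj
    omega
  have hmodle : (2 * d) % c ≤ 2 * j := by
    rw [hc]
    obtain ⟨k, hk⟩ := hcj
    rw [show 2 * d = cOf (orderOf ((Fintype.card F : ℕ) : ZMod r)) * k + 2 * j by omega, Nat.mul_add_mod]
    exact Nat.mod_le _ _
  -- D1
  have hD1 : 2 * (m % i) ≤ (2 * d) % c := by
    obtain ⟨x, hxr, hx1, hfix⟩ := exists_elt_blocks (F := F) hr2 hrp d ((2 * d) / c) (by
      rw [← hc]; exact Nat.mul_div_le (2 * d) c)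
    have hx1' : x ≠ 1 := hx1 (Nat.div_pos hcle (by rw [hc]; exact hcpos))
    rw [← hc] at hfix
    have hfix' : finrank F ↥(fixS (Matrix.toLin' (x : Matrix (Fin d ⊕ Fin d) (Fin d ⊕ Fin d) F))) = (2 * d) % c := by
      rw [hfix]
      have := Nat.div_add_mod (2 * d) c
      omega
    have hns := not_scalar_of_pow hr2 hd hxr hx1'
    obtain ⟨W, hWd, hWti, hWinv⟩ := hall x ⟨1, by rw [hxr, one_smul]; rfl⟩ hns
    obtain ⟨hW1, hW2⟩ := of_statement x hWti hWinv
    have hT : (Matrix.toLin' (x : Matrix (Fin d ⊕ Fin d) (Fin d ⊕ Fin d) F) :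
        Module.End F (Fin d ⊕ Fin d → F)) ^ r = 1 := by
      rw [toLin'_pow_symp, hxr]
      exact Matrix.toLin'_one
    have := mod_le_of_ti hrp (sB_isAlt (F := F) d) (sB_ND d) (sB_iso x) hT hW1 hW2
    rw [hWd, hfix', ← hi] at this
    exact this
  have him : i ≤ m := by
    by_contra hcon
    rw [Nat.mod_eq_of_lt (by omega)] at hD1
    omega
  rw [← hc, ← hi]
  refine ⟨him, hD1, ?_⟩
  by_cases hodd : Odd i
  · exact Or.inl hodd
  right
  have hev : Even i := Nat.not_odd_iff_even.mp hodd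
  have hci : c = i := by
    rw [hc, ← hi]
    unfold cOf
    rw [if_pos hev]
  by_contra hcon
  push Not at hcon
  rw [← hi] at hidvd hipos
  have ht1 : 1 ≤ (r - 1) / i := by
    have := Nat.le_of_dvd (by have := hr.two_le; omega) hidvd
    exact Nat.div_pos this hipos
  have hn1 : 1 ≤ (2 * d) / i := Nat.div_pos (by omega) hipos
  obtain ⟨s, hs⟩ : ∃ s, s = min ((r - 1) / i) ((2 * d) / i) := ⟨_, rfl⟩
  have hs1 : 1 ≤ s := by rw [hs]; exact le_min ht1 hn1
  have hst : s * i ≤ r - 1 := by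
    calc s * i ≤ ((r - 1) / i) * i := Nat.mul_le_mul_right _ (by rw [hs]; exact min_le_left _ _)
      _ ≤ r - 1 := Nat.div_mul_le_self _ _
  have hsd : i * s ≤ 2 * d := by
    calc i * s ≤ i * ((2 * d) / i) := Nat.mul_le_mul_left _ (by rw [hs]; exact min_le_right _ _)
      _ ≤ 2 * d := Nat.mul_div_le _ _
  rw [hi] at hev hst hsd
  obtain ⟨x, hxr, hx1, hbound⟩ := exists_derangement_types (F := F) hr2 hrp hev hs1 hst hsd
  have hns := not_scalar_of_pow hr2 hd hxr hx1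
  obtain ⟨W, hWd, hWti, hWinv⟩ := hall x ⟨1, by rw [hxr, one_smul]; rfl⟩ hns
  have hb := hbound W hWti hWinv
  rw [hWd, ← hi] at hb
  have hmdec := Nat.div_add_mod m i
  have hddec := Nat.div_add_mod (2 * d) i
  have hmodlt := Nat.mod_lt (2 * d) hipos
  rcases le_total ((r - 1) / i) ((2 * d) / i) with hle | hle
  · rw [min_eq_left hle] at hs
    rw [hs] at hb
    -- i * (2 m' + t) ≤ 2d < i * (n' + 1)
    have h3 : i * (2 * (m / i) + (r - 1) / i) < i * ((2 * d) / i + 1) := by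
      have e1 : i * (2 * (m / i) + (r - 1) / i) = 2 * (i * (m / i)) + i * ((r - 1) / i) := by ring
      have e2 : i * ((2 * d) / i + 1) = i * ((2 * d) / i) + i := by ring
      rw [e1, e2]
      omega
    have := Nat.lt_of_mul_lt_mul_left h3
    omega
  · rw [min_eq_right hle] at hs
    rw [hs] at hb
    rw [hci] at hmodle
    omega

end Cfsg.Agent.Helper7.SpTI
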