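import Mathlib
import Cfsg.Agent.Helper7.SpTIN

set_option autoImplicit false
set_option linter.unusedSectionVars false
set_option linter.unusedVariables false

/-!
# Isometries of odd prime order of a symmetric bilinear space: minimal nondegenerate invariant subspaces
-/

namespace Cfsg.Agent.Helper7.OrTS

open Module Polynomial Cfsg.Agent.Helper7.POrd Cfsg.Agent.Helper7.SpOrd Cfsg.Agent.Helper7.SpTI

section general

variable {F : Type*} [Field F] {V : Type*} [AddCommGroup V] [Module F V]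

/-- a nonzero nondegenerate subspace of a symmetric space (characteristic not two) has an anisotropic vector. -/
theorem exists_self_ne_zero {B : LinearMap.BilinForm F V} (hB : B.IsSymm) (h2 : (2 : F) ≠ 0)
    {W : Submodule F V} (hND : ND B W) (hne : W ≠ ⊥) : ∃ u ∈ W, B u u ≠ 0 := by
  by_contra hcon
  push Not at hcon
  obtain ⟨w, hwW, hw0⟩ := Submodule.exists_mem_ne_zero_of_ne_bot hne
  obtain ⟨v, hv, hv'⟩ := hND w hwW hw0
  apply hv'
  have h1 := hcon (w + v) (Submodule.add_mem _ hwW hv)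
  simp only [map_add, LinearMap.add_apply] at h1
  rw [hcon w hwW, hcon v hv, hB.eq v w] at h1
  have h3 : (2 : F) * B w v = 0 := by linear_combination h1
  exact (mul_eq_zero.mp h3).resolve_left h2

theorem fixed_of_sq_fixed {T : Module.End F V} {r : ℕ} (hodd : Odd r) (hT : T ^ r = 1) {v : V}
    (h2 : T (T v) = v) : T v = v := by
  obtain ⟨k, hk⟩ := hodd
  have h3 : ∀ n : ℕ, (T ^ (2 * n)) v = v := by
    intro n
    induction n with
    | zero => simp
    | succ n ih =>
      rw [mul_add, mul_one, pow_add, Module.End.mul_apply, pow_two, Module.End.mul_apply, h2, ih]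
  have h5 : (T ^ r) v = v := by rw [hT, Module.End.one_apply]
  rw [hk, pow_succ', Module.End.mul_apply, h3] at h5
  exact h5

/-- **parity**: a nondegenerate invariant subspace without fixed vectors of an isometry of odd order of a
symmetric space has even dimension. -/
theorem even_finrank_of_nd_symm [FiniteDimensional F V] {B : LinearMap.BilinForm F V} (hB : B.IsSymm)
    {T : Module.End F V} (hiso : ∀ u v, B (T u) (T v) = B u v) {r : ℕ} (hodd : Odd r) (hT : T ^ r = 1)
    {W : Submodule F V} (hW : W ∈ Module.End.invtSubmodule T) (hND : ND B W) (hfix : W ⊓ fixS T = ⊥) :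
    Even (finrank F ↥W) := by
  have hr : 0 < r := hodd.pos
  obtain ⟨B', hB'⟩ : ∃ B' : LinearMap.BilinForm F V, B' = B.compl₁₂ (T - T ^ (r - 1)) LinearMap.id :=
    ⟨_, rfl⟩
  have happ : ∀ u v, B' u v = B (T u) v - B ((T ^ (r - 1)) u) v := by
    intro u v
    rw [hB', LinearMap.compl₁₂_apply, LinearMap.sub_apply, map_sub, LinearMap.sub_apply, LinearMap.id_apply]
  have hAlt : B'.IsAlt := by
    intro u
    rw [happ, adj_one hiso hr hT, hB.eq u, sub_self]
  have hND' : ND B' W := by
    intro u hu hu0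
    have hSu : T u - (T ^ (r - 1)) u ∈ W :=
      Submodule.sub_mem _ (invt_apply hW hu) (invt_pow_apply hW hu _)
    have hSu0 : T u - (T ^ (r - 1)) u ≠ 0 := by
      intro h0
      apply hu0
      have h2 : T (T u) = u := by
        rw [sub_eq_zero] at h0
        rw [h0, ← Module.End.mul_apply, ← pow_succ', Nat.sub_add_cancel hr, hT, Module.End.one_apply]
      have h6 : u ∈ W ⊓ fixS T := ⟨hu, mem_fixS.mpr (fixed_of_sq_fixed hodd hT h2)⟩
      rw [hfix, Submodule.mem_bot] at h6
      exact h6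
    obtain ⟨v, hv, hv'⟩ := hND _ hSu hSu0
    refine ⟨v, hv, ?_⟩
    rw [happ, ← LinearMap.sub_apply, ← map_sub]
    exact hv'
  exact even_finrank_of_nd hAlt hND'

end general

variable {F : Type*} [Field F] [Fintype F] {V : Type*} [AddCommGroup V] [Module F V] [Finite V]
  {p : ℕ} [Fact p.Prime] [CharP F p] {r : ℕ} [Fact r.Prime]

/-- **existence of a block, `i` even.** -/
theorem exists_nd_irred_even_s (h2 : (2 : F) ≠ 0) (hrp : r ≠ p) {B : LinearMap.BilinForm F V}
    (hB : B.IsSymm) {T : Module.End F V} (hiso : ∀ u v, B (T u) (T v) = B u v) (hT : T ^ r = 1)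
    (hev : Even (orderOf ((Fintype.card F : ℕ) : ZMod r))) {W : Submodule F V}
    (hW : W ∈ Module.End.invtSubmodule T) (hND : ND B W) (hfix : W ⊓ fixS T = ⊥) (hne : W ≠ ⊥) :
    ∃ M : Submodule F V, M ≤ W ∧ M ∈ Module.End.invtSubmodule T ∧ ND B M ∧
      finrank F ↥M = orderOf ((Fintype.card F : ℕ) : ZMod r) := by
  have hr : 0 < r := (Fact.out : r.Prime).pos
  obtain ⟨g, hg, hdvd, hdeg, v, hvW, hv0, hgv⟩ := exists_irred_vec hrp hT hW hfix hne
  have hQ := dvd_pow_half_add_one (F := F) hrp hev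
  have hself : ∀ u : V, aeval T g u = 0 → aeval (T ^ (r - 1)) g u = 0 :=
    fun u h => aeval_inv_of_aeval hr hT hQ h
  have hWg : W ⊓ LinearMap.ker (aeval T g) ∈ Module.End.invtSubmodule T := inf_invt hW (ker_aeval_invt T g)
  have hNDg := nd_inf_ker hrp hB.isRefl hiso hT hW hND hdvd hself
  have hfixg : (W ⊓ LinearMap.ker (aeval T g)) ⊓ fixS T = ⊥ := by
    rw [eq_bot_iff, ← hfix]
    exact inf_le_inf_right _ inf_le_left
  have hneg : W ⊓ LinearMap.ker (aeval T g) ≠ ⊥ := by
    intro h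
    have : v ∈ W ⊓ LinearMap.ker (aeval T g) := ⟨hvW, LinearMap.mem_ker.mpr hgv⟩
    rw [h, Submodule.mem_bot] at this
    exact hv0 this
  obtain ⟨u, hu, huT⟩ := exists_self_ne_zero hB h2 hNDg hneg
  have hu0 : u ≠ 0 := by
    intro h
    apply huT
    rw [h, map_zero]
  have hMinv := cyc_invt T u g hg.ne_zero (LinearMap.mem_ker.mp hu.2)
  have hMW : cyc T u g.natDegree ≤ W := cyc_le hW hu.1 _
  have hfixM : cyc T u g.natDegree ⊓ fixS T = ⊥ := by
    rw [eq_bot_iff, ← hfix]
    exact inf_le_inf_right _ hMW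
  have humem : u ∈ cyc T u g.natDegree := by
    have := pow_mem_cyc T u hg.natDegree_pos
    simpa using this
  have hdim : finrank F ↥(cyc T u g.natDegree) = orderOf ((Fintype.card F : ℕ) : ZMod r) := by
    have h1 : finrank F ↥(cyc T u g.natDegree) ≤ orderOf ((Fintype.card F : ℕ) : ZMod r) := by
      rw [← hdeg]
      exact finrank_cyc_le T _ _
    have h2' := orderOf_dvd_finrank hT hMinv hfixM
    have h3 : 0 < finrank F ↥(cyc T u g.natDegree) := by
      rw [Module.finrank_pos_iff_exists_ne_zero]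
      exact ⟨⟨_, humem⟩, fun h0 => hu0 (congrArg Subtype.val h0)⟩
    exact le_antisymm h1 (Nat.le_of_dvd h3 h2')
  refine ⟨_, hMW, hMinv, ?_, hdim⟩
  rcases nd_or_ti hB.isRefl hiso hT hMinv hfixM hdim with h | h
  · exact h
  · exfalso
    apply huT
    exact mem_perp.mp (h humem) u humem

/-- **existence of a block, `i` odd.** -/
theorem exists_nd_pair_odd_s (hr2 : r ≠ 2) (hrp : r ≠ p) {B : LinearMap.BilinForm F V} (hB : B.IsSymm)
    {T : Module.End F V} (hiso : ∀ u v, B (T u) (T v) = B u v) (hT : T ^ r = 1)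
    (hodd : Odd (orderOf ((Fintype.card F : ℕ) : ZMod r))) {W : Submodule F V}
    (hW : W ∈ Module.End.invtSubmodule T) (hND : ND B W) (hfix : W ⊓ fixS T = ⊥) (hne : W ≠ ⊥) :
    ∃ H M : Submodule F V, H ≤ W ∧ H ∈ Module.End.invtSubmodule T ∧ ND B H ∧
      finrank F ↥H = 2 * orderOf ((Fintype.card F : ℕ) : ZMod r) ∧
      M ≤ H ∧ M ∈ Module.End.invtSubmodule T ∧ TI B M ∧
      finrank F ↥M = orderOf ((Fintype.card F : ℕ) : ZMod r) := by
  have hfd : FiniteDimensional F V := Module.Finite.of_finite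
  have hr : 0 < r := (Fact.out : r.Prime).pos
  have hrodd : Odd r := (Fact.out : r.Prime).odd_of_ne_two hr2
  have hrefl := hB.isRefl
  have hipos : 0 < orderOf ((Fintype.card F : ℕ) : ZMod r) := orderOf_q_pos (F := F) hrp
  obtain ⟨M, hMW, hMinv, hMd⟩ := exists_invt_finrank_eq hrp hT hW hfix hne
  have hfixM : M ⊓ fixS T = ⊥ := by
    rw [eq_bot_iff, ← hfix]
    exact inf_le_inf_right _ hMW
  have hMti : M ≤ B.orthogonal M := by
    rcases nd_or_ti hrefl hiso hT hMinv hfixM hMd with h | h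
    · exfalso
      have := even_finrank_of_nd_symm hB hiso hrodd hT hMinv h hfixM
      rw [hMd] at this
      exact (Nat.not_even_iff_odd.mpr hodd) this
    · exact h
  have hMne : M ≠ ⊥ := by
    intro h
    rw [h, finrank_bot] at hMd
    omega
  have hPinv : B.orthogonal M ⊓ W ∈ Module.End.invtSubmodule T := inf_invt (perp_invt hiso hr hT hMinv) hW
  have hPne : B.orthogonal M ⊓ W ≠ W := by
    intro h
    apply hMne
    rw [eq_bot_iff]
    intro m hm
    rw [Submodule.mem_bot]
    by_contra hm0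
    obtain ⟨w, hw, hw'⟩ := hND m (hMW hm) hm0
    apply hw'
    have : w ∈ B.orthogonal M ⊓ W := by rw [h]; exact hw
    exact mem_perp.mp this.1 m hm
  obtain ⟨Qc, hQc, hcompl⟩ :=
    (Module.End.isSemisimple_iff.mp (isSemisimple_of_pow_eq_one hrp hT)) _ hPinv
  have hNinv : Qc ⊓ W ∈ Module.End.invtSubmodule T := inf_invt hQc hW
  have hsup : (B.orthogonal M ⊓ W) ⊔ (Qc ⊓ W) = W := by
    rw [← sup_inf_assoc_of_le _ (inf_le_right : B.orthogonal M ⊓ W ≤ W), hcompl.sup_eq_top, top_inf_eq]
  have hNne : Qc ⊓ W ≠ ⊥ := by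
    intro h
    rw [h, sup_bot_eq] at hsup
    exact hPne hsup
  have hfixN : (Qc ⊓ W) ⊓ fixS T = ⊥ := by
    rw [eq_bot_iff, ← hfix]
    exact inf_le_inf_right _ inf_le_right
  obtain ⟨N', hN'N, hN'inv, hN'd⟩ := exists_invt_finrank_eq hrp hT hNinv hfixN hNne
  have hN'W : N' ≤ W := hN'N.trans inf_le_right
  have hN'perp : N' ⊓ B.orthogonal M = ⊥ := by
    rw [eq_bot_iff]
    intro x hx
    have h1 : x ∈ (B.orthogonal M ⊓ W) ⊓ Qc := ⟨⟨hx.2, hN'W hx.1⟩, (hN'N hx.1).1⟩
    rw [hcompl.inf_eq_bot] at h1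
    exact h1
  have hN'ne : N' ≠ ⊥ := by
    intro h
    rw [h, finrank_bot] at hN'd
    omega
  have hMN' : M ⊓ B.orthogonal N' = ⊥ := by
    have hinv : M ⊓ B.orthogonal N' ∈ Module.End.invtSubmodule T :=
      inf_invt hMinv (perp_invt hiso hr hT hN'inv)
    rcases irred_of_finrank hT hfixM hMd hinv (inf_le_left : M ⊓ B.orthogonal N' ≤ M) with h | h
    · exact h
    · exfalso
      apply hN'ne
      rw [eq_bot_iff, ← hN'perp]
      intro n hn
      refine Submodule.mem_inf.mpr ⟨hn, ?_⟩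
      rw [mem_perp]
      intro m hm
      have hm' : m ∈ M ⊓ B.orthogonal N' := by rw [h]; exact hm
      exact hrefl _ _ (mem_perp.mp hm'.2 n hn)
  have hdisj : M ⊓ N' = ⊥ := by
    rw [eq_bot_iff, ← hN'perp]
    intro x hx
    exact ⟨hx.2, hMti hx.1⟩
  refine ⟨M ⊔ N', M, sup_le hMW hN'W, sup_invt hMinv hN'inv, ?_, ?_, le_sup_left, hMinv, ?_, hMd⟩
  · intro h hh hne0
    obtain ⟨m, hm, n, hn, rfl⟩ := Submodule.mem_sup.mp hh
    by_cases hn0 : n = 0
    · have hm0 : m ≠ 0 := by
        intro h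
        apply hne0
        rw [h, hn0, add_zero]
      have : m ∉ B.orthogonal N' := by
        intro h
        have : m ∈ M ⊓ B.orthogonal N' := ⟨hm, h⟩
        rw [hMN', Submodule.mem_bot] at this
        exact hm0 this
      rw [mem_perp] at this
      push Not at this
      obtain ⟨n', hn', hb⟩ := this
      refine ⟨n', Submodule.mem_sup_right hn', ?_⟩
      rw [hn0, add_zero]
      exact fun h => hb (hrefl _ _ h)
    · have : n ∉ B.orthogonal M := by
        intro h
        have : n ∈ N' ⊓ B.orthogonal M := ⟨hn, h⟩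
        rw [hN'perp, Submodule.mem_bot] at this
        exact hn0 this
      rw [mem_perp] at this
      push Not at this
      obtain ⟨m', hm', hb⟩ := this
      refine ⟨m', Submodule.mem_sup_left hm', ?_⟩
      rw [map_add, LinearMap.add_apply, mem_perp.mp (hMti hm') m hm, zero_add]
      exact fun h => hb (hrefl _ _ h)
  · have h := Submodule.finrank_sup_add_finrank_inf_eq M N'
    rw [hdisj, finrank_bot, add_zero, hMd, hN'd] at h
    rw [h]; ring
  · intro u hu v hv
    exact mem_perp.mp (hMti hv) u hu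

/-- **existence of a block.** -/
theorem exists_block_s (h2 : (2 : F) ≠ 0) (hr2 : r ≠ 2) (hrp : r ≠ p) {B : LinearMap.BilinForm F V}
    (hB : B.IsSymm) {T : Module.End F V} (hiso : ∀ u v, B (T u) (T v) = B u v) (hT : T ^ r = 1)
    {W : Submodule F V} (hW : W ∈ Module.End.invtSubmodule T) (hND : ND B W) (hfix : W ⊓ fixS T = ⊥)
    (hne : W ≠ ⊥) :
    ∃ U : Submodule F V, U ≤ W ∧ U ∈ Module.End.invtSubmodule T ∧ ND B U ∧
      finrank F ↥U = cOf (orderOf ((Fintype.card F : ℕ) : ZMod r)) := by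
  unfold cOf
  by_cases hev : Even (orderOf ((Fintype.card F : ℕ) : ZMod r))
  · rw [if_pos hev]
    exact exists_nd_irred_even_s h2 hrp hB hiso hT hev hW hND hfix hne
  · rw [if_neg hev]
    obtain ⟨H, M, h1, h2', h3, h4, -⟩ :=
      exists_nd_pair_odd_s hr2 hrp hB hiso hT (Nat.not_even_iff_odd.mp hev) hW hND hfix hne
    exact ⟨H, h1, h2', h3, h4⟩

/-- **the dimension of a nondegenerate invariant subspace without fixed vectors is a multiple of `c`.** -/
theorem cOf_dvd_finrank_s (h2 : (2 : F) ≠ 0) (hr2 : r ≠ 2) (hrp : r ≠ p) {B : LinearMap.BilinForm F V}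
    (hB : B.IsSymm) {T : Module.End F V} (hiso : ∀ u v, B (T u) (T v) = B u v) (hT : T ^ r = 1) :
    ∀ (n : ℕ) (W : Submodule F V), finrank F ↥W = n → W ∈ Module.End.invtSubmodule T → ND B W →
      W ⊓ fixS T = ⊥ → cOf (orderOf ((Fintype.card F : ℕ) : ZMod r)) ∣ n := by
  have hfd : FiniteDimensional F V := Module.Finite.of_finite
  have hr : 0 < r := (Fact.out : r.Prime).pos
  intro n
  induction n using Nat.strong_induction_on with
  | _ n ih =>
    intro W hn hW hND hfix
    by_cases hne : W = ⊥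
    · rw [hne, finrank_bot] at hn
      rw [← hn]
      exact dvd_zero _
    · obtain ⟨U, hUW, hU, hUnd, hUd⟩ := exists_block_s h2 hr2 hrp hB hiso hT hW hND hfix hne
      have h1 : B.orthogonal U ⊓ W ∈ Module.End.invtSubmodule T := inf_invt (perp_invt hiso hr hT hU) hW
      have h2' : ND B (B.orthogonal U ⊓ W) := nd_perp_inf hB.isRefl hUnd hND hUW
      have h3 := finrank_perp_inf hB.isRefl hUnd hUW
      have hcpos := cOf_pos (orderOf_q_pos (F := F) hrp)
      have hfix' : (B.orthogonal U ⊓ W) ⊓ fixS T = ⊥ := by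
        rw [eq_bot_iff, ← hfix]
        exact inf_le_inf_right _ inf_le_right
      have := ih (finrank F ↥(B.orthogonal U ⊓ W)) (by omega) _ rfl h1 h2' hfix'
      rw [← hn, ← h3, hUd]
      exact Dvd.dvd.add (dvd_refl _) this

end Cfsg.Agent.Helper7.OrTS
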