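import Mathlib
import Cfsg.Agent.Helper7.OrTSA

set_option autoImplicit false
set_option linter.unusedSectionVars false
set_option linter.unusedVariables false

/-!
# Totally isotropic cyclic subspaces for symmetric forms: the palindromic window argument
-/

namespace Cfsg.Agent.Helper7.OrTS

open Module Polynomial Cfsg.Agent.Helper7.POrd Cfsg.Agent.Helper7.SpOrd Cfsg.Agent.Helper7.SpTI

variable {F : Type*} [Field F] {V : Type*} [AddCommGroup V] [Module F V]

/-- an irreducible polynomial killing a nonzero vector divides every polynomial killing it. -/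
theorem dvd_of_aeval_eq_zero {g f : F[X]} (hg : Irreducible g) {T : Module.End F V} {u : V} (hu0 : u ≠ 0)
    (hgu : aeval T g u = 0) (hfu : aeval T f u = 0) : g ∣ f := by
  by_contra hnd
  have hcop : IsCoprime g f := (hg.coprime_iff_not_dvd).mpr hnd
  obtain ⟨a, b, hab⟩ := hcop
  apply hu0
  have h1 : u = aeval T (a * g + b * f) u := by
    rw [hab, map_one, Module.End.one_apply]
  rw [map_add, map_mul, map_mul, LinearMap.add_apply, Module.End.mul_apply, Module.End.mul_apply, hgu, hfu,
    map_zero, map_zero, add_zero] at h1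
  exact h1

/-- the reversed polynomial kills a vector killed by the polynomial of the inverse. -/
theorem aeval_reverse_eq_zero {g : F[X]} {T : Module.End F V} {r : ℕ} (hr : 0 < r) (hT : T ^ r = 1) {u : V}
    (hgu' : aeval (T ^ (r - 1)) g u = 0) : aeval T g.reverse u = 0 := by
  obtain ⟨D, hD⟩ : ∃ D, D = g.natDegree := ⟨_, rfl⟩
  have hpow : ∀ k, k ≤ D → (T ^ D) (((T ^ (r - 1)) ^ k) u) = (T ^ (D - k)) u := by
    intro k hk
    rw [← Module.End.mul_apply, ← pow_mul, ← pow_add]
    have h1 : D + (r - 1) * k = (D - k) + r * k := by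
      have : (r - 1) * k + k = r * k := by
        rw [← Nat.succ_mul, Nat.succ_eq_add_one, Nat.sub_add_cancel hr]
      omega
    rw [h1, pow_add, pow_mul, hT, one_pow, mul_one]
  have h1 : aeval T g.reverse u = ∑ k ∈ Finset.range (D + 1), g.coeff (D - k) • (T ^ k) u := by
    rw [aeval_eq_sum_range' (lt_of_le_of_lt (reverse_natDegree_le g) (by rw [← hD]; exact Nat.lt_succ_self D)),
      LinearMap.sum_apply]
    apply Finset.sum_congr rfl
    intro k hk
    have hk' : k ≤ D := Nat.lt_succ_iff.mp (Finset.mem_range.mp hk)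
    rw [LinearMap.smul_apply, coeff_reverse, ← hD, revAt_le hk']
  have h2 : (T ^ D) (aeval (T ^ (r - 1)) g u) = ∑ k ∈ Finset.range (D + 1), g.coeff k • (T ^ (D - k)) u := by
    rw [aeval_eq_sum_range, ← hD, LinearMap.sum_apply, map_sum]
    apply Finset.sum_congr rfl
    intro k hk
    have hk' : k ≤ D := Nat.lt_succ_iff.mp (Finset.mem_range.mp hk)
    rw [LinearMap.smul_apply, map_smul, hpow k hk']
  rw [h1, ← Finset.sum_range_reflect]
  rw [hgu', map_zero] at h2
  rw [h2]
  apply Finset.sum_congr rfl
  intro k hk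
  have hk' : k ≤ D := Nat.lt_succ_iff.mp (Finset.mem_range.mp hk)
  have e1 : D + 1 - 1 - k = D - k := by omega
  have e2 : D - (D - k) = k := by omega
  rw [e1, e2]

/-- **the constant term of a self-dual irreducible factor.** -/
theorem coeff_zero_eq_one_of_self_dual {g : F[X]} (hg : Irreducible g) (hgm : g.Monic)
    (hdeg : 2 ≤ g.natDegree) {T : Module.End F V} {r : ℕ} (hr : 0 < r) (hT : T ^ r = 1) {u : V}
    (hu0 : u ≠ 0) (hgu : aeval T g u = 0) (hgu' : aeval (T ^ (r - 1)) g u = 0) : g.coeff 0 = 1 := by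
  have hrev := aeval_reverse_eq_zero hr hT hgu'
  obtain ⟨h, hh⟩ := dvd_of_aeval_eq_zero hg hu0 hgu hrev
  have hg0 : g ≠ 0 := hg.ne_zero
  have hrev0 : g.reverse ≠ 0 := fun h0 => hg0 (reverse_eq_zero.mp h0)
  have hh0 : h ≠ 0 := by
    rintro rfl
    rw [mul_zero] at hh
    exact hrev0 hh
  have hdh : h.natDegree = 0 := by
    have h1 := reverse_natDegree_le g
    rw [hh, natDegree_mul hg0 hh0] at h1
    omega
  obtain ⟨c, hc⟩ : ∃ c, h = C c := ⟨_, eq_C_of_natDegree_eq_zero hdh⟩
  have he1 : g.reverse.eval 1 = g.eval 1 := by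
    haveI : Invertible (1 : F) := invertibleOne
    have := eval₂_reverse_mul_pow (RingHom.id F) (1 : F) g
    rw [invOf_one, one_pow, mul_one] at this
    exact this
  have hg1 : g.eval 1 ≠ 0 := by
    intro h0
    have hroot : g.IsRoot 1 := h0
    have := degree_eq_one_of_irreducible_of_root hg hroot
    rw [degree_eq_natDegree hg0] at this
    have : g.natDegree = 1 := by exact_mod_cast this
    omega
  have hc1 : c = 1 := by
    rw [hh, hc, eval_mul, eval_C] at he1
    have : g.eval 1 * c = g.eval 1 * 1 := by rw [he1, mul_one]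
    exact mul_left_cancel₀ hg1 this
  rw [hc, hc1, map_one, mul_one] at hh
  have := coeff_zero_reverse g
  rw [hh, hgm.leadingCoeff] at this
  exact this

/-- **the palindromic window argument**: if `g(T) u = 0` with `g` monic of degree `2e` and constant term `1`,
and `u` is orthogonal to `T^j u` for `j < e`, then `u` is orthogonal to all `T^j u`. -/
theorem forall_pow_isotropic_s {B : LinearMap.BilinForm F V} (hB : B.IsSymm) (h2 : (2 : F) ≠ 0)
    {T : Module.End F V} (hiso : ∀ u v, B (T u) (T v) = B u v) {g : F[X]} (hg : g.Monic)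
    (hg0 : g.coeff 0 = 1) {e : ℕ} (he : 0 < e) (hdeg : g.natDegree = 2 * e) {u : V}
    (hgu : aeval T g u = 0) (h : ∀ j, j < e → B u ((T ^ j) u) = 0) : ∀ j, B u ((T ^ j) u) = 0 := by
  intro j
  induction j using Nat.strong_induction_on with
  | _ j ih =>
    by_cases hje : j < e
    · exact h j hje
    rw [not_lt] at hje
    -- the basic relation
    have h0 : B ((T ^ j) u) (aeval T g u) = 0 := by rw [hgu, map_zero]
    rw [aeval_eq_sum_range, hdeg, LinearMap.sum_apply, map_sum] at h0
    have hshift : ∀ k, B ((T ^ j) u) ((T ^ k) u) =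
        if j ≤ k then B u ((T ^ (k - j)) u) else B u ((T ^ (j - k)) u) := by
      intro k
      split_ifs with hjk
      · obtain ⟨s, rfl⟩ := Nat.exists_eq_add_of_le hjk
        rw [iso_shift hiso, Nat.add_sub_cancel_left]
      · rw [not_le] at hjk
        obtain ⟨s, rfl⟩ := Nat.exists_eq_add_of_le hjk.le
        rw [hB.eq, iso_shift hiso, Nat.add_sub_cancel_left]
    have hzero : ∀ k, 1 ≤ k → k ≤ 2 * e → (j = e → k < 2 * e) → B ((T ^ j) u) ((T ^ k) u) = 0 := by
      intro k hk1 hk2 hk3
      rw [hshift]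
      split_ifs with hjk
      · apply ih
        by_cases hj : j = e
        · have := hk3 hj
          omega
        · omega
      · apply ih
        omega
    have hterm : ∀ k, B ((T ^ j) u) ((g.coeff k • T ^ k) u) = g.coeff k * B ((T ^ j) u) ((T ^ k) u) := by
      intro k
      rw [LinearMap.smul_apply, map_smul, smul_eq_mul]
    have hfirst : B ((T ^ j) u) ((g.coeff 0 • T ^ 0) u) = B u ((T ^ j) u) := by
      rw [hterm, hg0, one_mul, pow_zero, Module.End.one_apply, hB.eq]
    by_cases hj : j = e
    · have hlast : B ((T ^ j) u) ((g.coeff (2 * e) • T ^ (2 * e)) u) = B u ((T ^ j) u) := by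
        rw [hterm, ← hdeg, coeff_natDegree, hg.leadingCoeff, one_mul, hdeg, hshift, if_pos (by omega)]
        congr 3
        omega
      rw [Finset.sum_eq_add 0 (2 * e) (by omega) ?_ ?_ ?_, hfirst, hlast] at h0
      · have h3 : (2 : F) * B u ((T ^ j) u) = 0 := by linear_combination h0
        exact (mul_eq_zero.mp h3).resolve_left h2
      · intro k hk hne
        have hk' : k ≤ 2 * e := Nat.lt_succ_iff.mp (Finset.mem_range.mp hk)
        rw [hterm, hzero k (by omega) hk' (fun _ => by omega), mul_zero]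
      · intro hn
        exact absurd (Finset.mem_range.mpr (by omega)) hn
      · intro hn
        exact absurd (Finset.mem_range.mpr (by omega)) hn
    · rw [Finset.sum_eq_single 0 ?_ ?_, hfirst] at h0
      · exact h0
      · intro k hk hne
        have hk' : k ≤ 2 * e := Nat.lt_succ_iff.mp (Finset.mem_range.mp hk)
        rw [hterm, hzero k (by omega) hk' (fun h' => absurd h' hj), mul_zero]
      · intro hn
        exact absurd (Finset.mem_range.mpr (by omega)) hn

/-- **key lemma**: an invariant subspace killed by an irreducible polynomial `g` of even degree `2 e` with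
constant term `1`, of dimension more than `2 e`, contains a totally isotropic invariant subspace of dimension
`deg g`. -/
theorem exists_ti_irred_s [Finite F] [FiniteDimensional F V] {B : LinearMap.BilinForm F V} (hB : B.IsSymm)
    (h2 : (2 : F) ≠ 0) {T : Module.End F V} (hiso : ∀ u v, B (T u) (T v) = B u v) {g : F[X]}
    (hg : Irreducible g) (hgm : g.Monic) (hg0 : g.coeff 0 = 1) {e : ℕ} (he : 0 < e)
    (hdeg : g.natDegree = 2 * e) {U : Submodule F V} (hU : U ∈ Module.End.invtSubmodule T)
    (hUg : ∀ u ∈ U, aeval T g u = 0) (hdim : 2 * e < finrank F ↥U) :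
    ∃ L : Submodule F V, L ≤ U ∧ L ∈ Module.End.invtSubmodule T ∧ TI B L ∧ finrank F ↥L = g.natDegree := by
  obtain ⟨A, hA⟩ : ∃ A : Fin e → LinearMap.BilinForm F ↥U,
      A = fun j : Fin e => B.compl₁₂ U.subtype ((T ^ (j : ℕ)) ∘ₗ U.subtype) := ⟨_, rfl⟩
  obtain ⟨u, hu0, hu⟩ := exists_common_zero A hdim
  have hu0' : (u : V) ≠ 0 := fun h => hu0 (Subtype.ext h)
  have hgu : aeval T g (u : V) = 0 := hUg _ u.2
  have h1 : ∀ j, j < e → B (u : V) ((T ^ j) (u : V)) = 0 := by
    intro j hje
    have := hu ⟨j, hje⟩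
    rw [hA] at this
    simp only [LinearMap.compl₁₂_apply, LinearMap.comp_apply, Submodule.subtype_apply] at this
    exact this
  have hall := forall_pow_isotropic_s hB h2 hiso hgm hg0 he hdeg hgu h1
  refine ⟨cyc T (u : V) g.natDegree, cyc_le hU u.2 _, cyc_invt T _ g hg.ne_zero hgu, ?_,
    finrank_cyc_of_irred hg hgu hu0'⟩
  unfold cyc
  apply ti_span
  rintro _ ⟨s, rfl⟩ _ ⟨s', rfl⟩
  rcases le_total (s : ℕ) (s' : ℕ) with hss | hss
  · obtain ⟨k, hk⟩ := Nat.exists_eq_add_of_le hss
    simp only
    rw [hk, iso_shift hiso, hall]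
  · obtain ⟨k, hk⟩ := Nat.exists_eq_add_of_le hss
    simp only
    rw [hB.eq, hk, iso_shift hiso, hall]

end Cfsg.Agent.Helper7.OrTS
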