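import Mathlib
import Cfsg.Agent.Helper7.OrTSB

set_option autoImplicit false
set_option linter.unusedSectionVars false
set_option linter.unusedVariables false

/-!
# Hyperbolic splitting and ladders for reflexive forms; the moved space of an isometry of a symmetric space
-/

namespace Cfsg.Agent.Helper7.OrTS

open Module Polynomial Cfsg.Agent.Helper7.POrd Cfsg.Agent.Helper7.SpOrd Cfsg.Agent.Helper7.SpTI

section general

variable {F : Type*} [Field F] {V : Type*} [AddCommGroup V] [Module F V]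

/-- **hyperbolic splitting** for a reflexive form. -/
theorem exists_hyp_refl [FiniteDimensional F V] {B : LinearMap.BilinForm F V} (hrefl : B.IsRefl) (hV : ND B ⊤)
    {T : Module.End F V} (hiso : ∀ u v, B (T u) (T v) = B u v) {N : ℕ} (hN : 0 < N) (hTN : T ^ N = 1)
    (hss : T.IsSemisimple) {M L : Submodule F V} (hM : M ∈ Module.End.invtSubmodule T) (hMnd : ND B M)
    (hL : L ∈ Module.End.invtSubmodule T) (hLM : L ≤ M) (hLti : TI B L) :
    ∃ H : Submodule F V, L ≤ H ∧ H ≤ M ∧ H ∈ Module.End.invtSubmodule T ∧ ND B H ∧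
      finrank F ↥H = 2 * finrank F ↥L := by
  obtain ⟨K, hK⟩ : ∃ K, K = B.orthogonal L ⊓ M := ⟨_, rfl⟩
  have hKinv : K ∈ Module.End.invtSubmodule T := by
    rw [hK]
    exact inf_invt (perp_invt hiso hN hTN hL) hM
  have hLK : L ≤ K := by
    rw [hK]
    refine le_inf ?_ hLM
    intro x hx
    rw [mem_perp]
    intro w hw
    exact hLti w hw x hx
  have hKM : K ≤ M := by rw [hK]; exact inf_le_right
  obtain ⟨Q, hQinv, hQ⟩ := (Module.End.isSemisimple_iff.mp hss) K hKinv
  obtain ⟨L', hL'⟩ : ∃ L', L' = Q ⊓ M := ⟨_, rfl⟩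
  have hL'inv : L' ∈ Module.End.invtSubmodule T := by rw [hL']; exact inf_invt hQinv hM
  have hL'M : L' ≤ M := by rw [hL']; exact inf_le_right
  have hKL' : K ⊓ L' = ⊥ := by
    rw [eq_bot_iff, ← hQ.inf_eq_bot, hL']
    exact inf_le_inf_left _ inf_le_left
  have hsup : K ⊔ L' = M := by
    rw [hL', ← sup_inf_assoc_of_le Q hKM, hQ.sup_eq_top, top_inf_eq]
  have hdK := finrank_perp_inf' hrefl hV hMnd hLM
  rw [← hK] at hdK
  have h3 := Submodule.finrank_sup_add_finrank_inf_eq K L'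
  rw [hsup, hKL', finrank_bot, add_zero] at h3
  have hdL' : finrank F ↥L' = finrank F ↥L := by omega
  have hLL' : L ⊓ L' = ⊥ := by
    rw [eq_bot_iff, ← hKL']
    exact inf_le_inf_right _ hLK
  refine ⟨L ⊔ L', le_sup_left, sup_le hLM hL'M, sup_invt hL hL'inv, ?_, ?_⟩
  · intro u hu hu0
    by_contra hcon
    push Not at hcon
    obtain ⟨a, ha, a', ha', rfl⟩ := Submodule.mem_sup.mp hu
    have ha'0 : a' = 0 := by
      have : a' ∈ K ⊓ L' := by
        refine ⟨?_, ha'⟩
        rw [hK]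
        refine ⟨?_, hL'M ha'⟩
        rw [SetLike.mem_coe, mem_perp]
        intro w hw
        have h1 := hcon w (Submodule.mem_sup_left hw)
        rw [map_add, LinearMap.add_apply, hLti a ha w hw, zero_add] at h1
        exact hrefl _ _ h1
      rw [hKL', Submodule.mem_bot] at this
      exact this
    rw [ha'0, add_zero] at hu0 hcon
    obtain ⟨v, hv, hv'⟩ := hMnd a (hLM ha) hu0
    apply hv'
    rw [← hsup] at hv
    obtain ⟨k, hk, l', hl', rfl⟩ := Submodule.mem_sup.mp hv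
    rw [map_add, hcon l' (Submodule.mem_sup_right hl'), add_zero]
    rw [hK] at hk
    exact mem_perp.mp hk.1 a ha
  · have h4 := Submodule.finrank_sup_add_finrank_inf_eq L L'
    rw [hLL', finrank_bot, add_zero] at h4
    omega

/-- **the ladder** for a reflexive form. -/
theorem exists_ti_ladder_refl [FiniteDimensional F V] {B : LinearMap.BilinForm F V} (hrefl : B.IsRefl)
    {T : Module.End F V} (hiso : ∀ u v, B (T u) (T v) = B u v) {N : ℕ} (hN : 0 < N) (hTN : T ^ N = 1)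
    {D τ : ℕ}
    (step : ∀ M' : Submodule F V, M' ∈ Module.End.invtSubmodule T → ND B M' → M' ⊓ fixS T = ⊥ →
      τ < finrank F ↥M' → ∃ H L : Submodule F V, H ≤ M' ∧ H ∈ Module.End.invtSubmodule T ∧ ND B H ∧
        finrank F ↥H = 2 * D ∧ L ≤ H ∧ L ∈ Module.End.invtSubmodule T ∧ TI B L ∧ finrank F ↥L = D) :
    ∀ (b : ℕ) (M : Submodule F V), M ∈ Module.End.invtSubmodule T → ND B M → M ⊓ fixS T = ⊥ →
      τ + 2 * D * b < finrank F ↥M + 2 * D →
      ∃ L : Submodule F V, L ≤ M ∧ L ∈ Module.End.invtSubmodule T ∧ TI B L ∧ finrank F ↥L = D * b := by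
  intro b
  induction b with
  | zero =>
    intro M _ _ _ _
    exact ⟨⊥, bot_le, Module.End.invtSubmodule.bot_mem T, ti_bot B, by simp⟩
  | succ b ih =>
    intro M hM hMnd hfix hdim
    have hτ : τ < finrank F ↥M := by
      have : 2 * D * (b + 1) = 2 * D * b + 2 * D := by ring
      omega
    obtain ⟨H, L₁, hHM, hHinv, hHnd, hHd, hL₁H, hL₁inv, hL₁ti, hL₁d⟩ := step M hM hMnd hfix hτ
    obtain ⟨M', hM'⟩ : ∃ M', M' = B.orthogonal H ⊓ M := ⟨_, rfl⟩
    have hM'inv : M' ∈ Module.End.invtSubmodule T := by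
      rw [hM']; exact inf_invt (perp_invt hiso hN hTN hHinv) hM
    have hM'nd : ND B M' := by rw [hM']; exact nd_perp_inf hrefl hHnd hMnd hHM
    have hM'd := finrank_perp_inf hrefl hHnd hHM
    rw [← hM'] at hM'd
    have hM'fix : M' ⊓ fixS T = ⊥ := by
      rw [eq_bot_iff, ← hfix, hM']
      exact inf_le_inf_right _ inf_le_right
    have hdim' : τ + 2 * D * b < finrank F ↥M' + 2 * D := by
      have : 2 * D * (b + 1) = 2 * D * b + 2 * D := by ring
      omega
    obtain ⟨L', hL'M', hL'inv, hL'ti, hL'd⟩ := ih M' hM'inv hM'nd hM'fix hdim'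
    have hL'H : L' ≤ B.orthogonal H := hL'M'.trans (by rw [hM']; exact inf_le_left)
    have hL'L₁ : L' ≤ B.orthogonal L₁ := hL'H.trans (LinearMap.BilinForm.orthogonal_le hL₁H)
    refine ⟨L₁ ⊔ L', sup_le (hL₁H.trans hHM) (hL'M'.trans (by rw [hM']; exact inf_le_right)),
      sup_invt hL₁inv hL'inv, ti_sup hrefl hL₁ti hL'ti hL'L₁, ?_⟩
    have hdisj : L₁ ⊓ L' = ⊥ := by
      rw [eq_bot_iff, ← ((nd_iff_disjoint hrefl).mp hHnd).eq_bot]
      exact inf_le_inf hL₁H hL'H
    have h4 := Submodule.finrank_sup_add_finrank_inf_eq L₁ L'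
    rw [hdisj, finrank_bot, add_zero] at h4
    rw [h4, hL₁d, hL'd]
    ring

end general

variable {F : Type*} [Field F] [Fintype F] {V : Type*} [AddCommGroup V] [Module F V] [Finite V]
  {p : ℕ} [Fact p.Prime] [CharP F p] {r : ℕ} [Fact r.Prime]

/-- the splitting step, `i` even. -/
theorem step_even_s (h2 : (2 : F) ≠ 0) (hrp : r ≠ p) {B : LinearMap.BilinForm F V} (hB : B.IsSymm)
    (hV : ND B ⊤) {T : Module.End F V} (hiso : ∀ u v, B (T u) (T v) = B u v) (hT : T ^ r = 1)
    (hev : Even (orderOf ((Fintype.card F : ℕ) : ZMod r))) (M' : Submodule F V)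
    (hM' : M' ∈ Module.End.invtSubmodule T) (hnd : ND B M') (hfix : M' ⊓ fixS T = ⊥)
    (hbig : r - 1 < finrank F ↥M') :
    ∃ H L : Submodule F V, H ≤ M' ∧ H ∈ Module.End.invtSubmodule T ∧ ND B H ∧
      finrank F ↥H = 2 * orderOf ((Fintype.card F : ℕ) : ZMod r) ∧ L ≤ H ∧ L ∈ Module.End.invtSubmodule T ∧
      TI B L ∧ finrank F ↥L = orderOf ((Fintype.card F : ℕ) : ZMod r) := by
  have hfd : FiniteDimensional F V := Module.Finite.of_finite
  have hr : r.Prime := Fact.out
  have hipos : 0 < orderOf ((Fintype.card F : ℕ) : ZMod r) := orderOf_q_pos (F := F) hrp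
  obtain ⟨g, hg, hgm, hgd, hgbig⟩ := exists_big_component hrp hT hM' hfix hbig
  have hQ := dvd_pow_half_add_one (F := F) hrp hev
  obtain ⟨e, he⟩ := hev
  have hUinv : M' ⊓ LinearMap.ker (aeval T g) ∈ Module.End.invtSubmodule T := inf_invt hM' (ker_aeval_invt T g)
  -- the constant term
  have hUne : M' ⊓ LinearMap.ker (aeval T g) ≠ ⊥ := by
    intro h
    rw [h, finrank_bot] at hgbig
    omega
  obtain ⟨w, hwU, hw0⟩ := Submodule.exists_mem_ne_zero_of_ne_bot hUne
  have hgw : aeval T g w = 0 := LinearMap.mem_ker.mp hwU.2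
  have hg0 : g.coeff 0 = 1 :=
    coeff_zero_eq_one_of_self_dual hg hgm (by omega) hr.pos hT hw0 hgw (aeval_inv_of_aeval hr.pos hT hQ hgw)
  obtain ⟨L, hLU, hLinv, hLti, hLd⟩ := exists_ti_irred_s hB h2 hiso hg hgm hg0 (e := e) (by omega) (by omega)
    hUinv (fun u hu => LinearMap.mem_ker.mp hu.2) (by omega)
  have hLM : L ≤ M' := hLU.trans inf_le_left
  obtain ⟨H, hLH, hHM, hHinv, hHnd, hHd⟩ := exists_hyp_refl hB.isRefl hV hiso hr.pos hT
    (isSemisimple_of_pow_eq_one hrp hT) hM' hnd hLinv hLM hLti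
  exact ⟨H, L, hHM, hHinv, hHnd, by rw [hHd, hLd, hgd], hLH, hLinv, hLti, by rw [hLd, hgd]⟩

/-- **totally isotropic invariant subspaces of the moved space.** -/
theorem exists_ti_mov_s (h2 : (2 : F) ≠ 0) (hr2 : r ≠ 2) (hrp : r ≠ p) {B : LinearMap.BilinForm F V}
    (hB : B.IsSymm) (hV : ND B ⊤)
    {T : Module.End F V} (hiso : ∀ u v, B (T u) (T v) = B u v) (hT : T ^ r = 1) (b : ℕ)
    (hb : if Even (orderOf ((Fintype.card F : ℕ) : ZMod r)) then
        (r - 1) + 2 * orderOf ((Fintype.card F : ℕ) : ZMod r) * b <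
          finrank F ↥(movS r T) + 2 * orderOf ((Fintype.card F : ℕ) : ZMod r)
      else 2 * orderOf ((Fintype.card F : ℕ) : ZMod r) * b ≤ finrank F ↥(movS r T)) :
    ∃ L : Submodule F V, L ≤ movS r T ∧ L ∈ Module.End.invtSubmodule T ∧ TI B L ∧
      finrank F ↥L = orderOf ((Fintype.card F : ℕ) : ZMod r) * b := by
  have hfd : FiniteDimensional F V := Module.Finite.of_finite
  have hr : r.Prime := Fact.out
  have hrF : (r : F) ≠ 0 := natCast_ne_zero_of_ne hrp
  have hipos : 0 < orderOf ((Fintype.card F : ℕ) : ZMod r) := orderOf_q_pos hrp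
  have hMinv := movS_invt r T
  have hMnd : ND B (movS r T) := by
    have := nd_inf_mov hB.isRefl hiso hrF hT (Module.End.invtSubmodule.top_mem T) hV
    rwa [top_inf_eq] at this
  have hMfix : movS r T ⊓ fixS T = ⊥ := by
    rw [inf_comm]
    exact (disjoint_fix_mov hrF T).eq_bot
  by_cases hev : Even (orderOf ((Fintype.card F : ℕ) : ZMod r))
  · rw [if_pos hev] at hb
    exact exists_ti_ladder_refl hB.isRefl hiso hr.pos hT (D := orderOf ((Fintype.card F : ℕ) : ZMod r))
      (τ := r - 1) (fun M' h1 h2' h3 h4 => step_even_s h2 hrp hB hV hiso hT hev M' h1 h2' h3 h4) b _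
      hMinv hMnd hMfix hb
  · rw [if_neg hev] at hb
    refine exists_ti_ladder_refl hB.isRefl hiso hr.pos hT (D := orderOf ((Fintype.card F : ℕ) : ZMod r))
      (τ := 0) (fun M' h1 h2' h3 h4 => ?_) b _ hMinv hMnd hMfix (by omega)
    have hne : M' ≠ ⊥ := by
      intro h
      rw [h, finrank_bot] at h4
      exact lt_irrefl _ h4
    obtain ⟨H, M, hH1, hH2, hH3, hH4, hM1, hM2, hM3, hM4⟩ :=
      exists_nd_pair_odd_s hr2 hrp hB hiso hT (Nat.not_even_iff_odd.mp hev) h1 h2' h3 hne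
    exact ⟨H, M, hH1, hH2, hH3, hH4, hM1, hM2, hM3, hM4⟩

end Cfsg.Agent.Helper7.OrTS
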