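import Mathlib
import Cfsg.Agent.Helper7.OrTSC

set_option autoImplicit false
set_option linter.unusedSectionVars false
set_option linter.unusedVariables false

/-!
# Isometries of odd prime order of a symmetric space of odd dimension fix totally isotropic subspaces
-/

namespace Cfsg.Agent.Helper7.OrTS

open Module Polynomial Cfsg.Agent.Helper7.POrd Cfsg.Agent.Helper7.SpOrd Cfsg.Agent.Helper7.SpTI

section general

variable {F : Type*} [Field F] {V : Type*} [AddCommGroup V] [Module F V]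

theorem invt_one (L : Submodule F V) : L ∈ Module.End.invtSubmodule (1 : Module.End F V) := by
  rw [Module.End.mem_invtSubmodule]
  intro x hx
  exact hx

/-- **totally isotropic subspaces of a nondegenerate subspace**: over a finite field every dimension below half
the dimension occurs. -/
theorem exists_ti_of_lt [Finite F] [FiniteDimensional F V] {B : LinearMap.BilinForm F V} (hrefl : B.IsRefl)
    (hV : ND B ⊤) : ∀ (e' : ℕ) (W : Submodule F V), ND B W → 2 * e' < finrank F ↥W →
      ∃ L : Submodule F V, L ≤ W ∧ TI B L ∧ finrank F ↥L = e' := by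
  intro e'
  induction e' with
  | zero =>
    intro W _ _
    exact ⟨⊥, bot_le, ti_bot B, finrank_bot F V⟩
  | succ e' ih =>
    intro W hW hdim
    obtain ⟨A, hA⟩ : ∃ A : Fin 1 → LinearMap.BilinForm F ↥W,
        A = fun _ => B.compl₁₂ W.subtype W.subtype := ⟨_, rfl⟩
    obtain ⟨u, hu0, hu⟩ := exists_common_zero A (by omega)
    have hu0' : (u : V) ≠ 0 := fun h => hu0 (Subtype.ext h)
    have huu : B (u : V) (u : V) = 0 := by
      have := hu 0
      rw [hA] at this
      simpa only [LinearMap.compl₁₂_apply, Submodule.subtype_apply] using this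
    obtain ⟨L₁, hL₁⟩ : ∃ L₁ : Submodule F V, L₁ = Submodule.span F {(u : V)} := ⟨_, rfl⟩
    have hL₁W : L₁ ≤ W := by
      rw [hL₁, Submodule.span_le]
      intro x hx
      rw [Set.mem_singleton_iff] at hx
      rw [hx]
      exact u.2
    have hL₁ti : TI B L₁ := by
      rw [hL₁]
      apply ti_span
      intro a ha b hb
      rw [Set.mem_singleton_iff] at ha hb
      rw [ha, hb]
      exact huu
    have hL₁d : finrank F ↥L₁ = 1 := by
      rw [hL₁]
      exact finrank_span_singleton hu0'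
    obtain ⟨H, hL₁H, hHW, -, hHnd, hHd⟩ := exists_hyp_refl hrefl hV (T := 1) (fun _ _ => rfl) one_pos
      (pow_one 1) Module.End.isSemisimple_id (invt_one W) hW (invt_one L₁) hL₁W hL₁ti
    rw [hL₁d] at hHd
    have hW'nd : ND B (B.orthogonal H ⊓ W) := nd_perp_inf hrefl hHnd hW hHW
    have hW'd := finrank_perp_inf hrefl hHnd hHW
    obtain ⟨L', hL'W', hL'ti, hL'd⟩ := ih _ hW'nd (by omega)
    have hL'H : L' ≤ B.orthogonal H := hL'W'.trans inf_le_left
    have hL'L₁ : L' ≤ B.orthogonal L₁ := hL'H.trans (LinearMap.BilinForm.orthogonal_le hL₁H)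
    refine ⟨L₁ ⊔ L', sup_le hL₁W (hL'W'.trans inf_le_right), ti_sup hrefl hL₁ti hL'ti hL'L₁, ?_⟩
    have hdisj : L₁ ⊓ L' = ⊥ := by
      rw [eq_bot_iff, ← ((nd_iff_disjoint hrefl).mp hHnd).eq_bot]
      exact inf_le_inf hL₁H hL'H
    have h4 := Submodule.finrank_sup_add_finrank_inf_eq L₁ L'
    rw [hdisj, finrank_bot, add_zero] at h4
    rw [h4, hL₁d, hL'd, add_comm]

end general

theorem arith_odd_s {i m n M f2 : ℕ} (hsum : f2 + M = n) (hm : 2 * m < n) (hM : 2 * i ∣ M)
    (hk : 2 * (m % i) < f2) :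
    ∃ b e', m = i * b + e' ∧ 2 * e' < f2 ∧ 2 * i * b ≤ M := by
  obtain ⟨s, hs⟩ := hM
  have hdm := Nat.div_add_mod m i
  by_cases h : m / i ≤ s
  · refine ⟨m / i, m % i, hdm.symm, hk, ?_⟩
    rw [hs]
    exact Nat.mul_le_mul_left _ h
  · rw [not_le] at h
    have h1 : i * s ≤ i * (m / i) := Nat.mul_le_mul_left _ h.le
    refine ⟨s, m - i * s, by omega, ?_, by rw [hs]⟩
    have h2 : 2 * i * s = 2 * (i * s) := by ring
    omega

theorem arith_even_s {i m n M f2 t R : ℕ} (hi : 0 < i) (hR : t * i = R) (hsum : f2 + M = n) (hM : i ∣ M)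
    (hk : 2 * (m % i) < n % i) (hkf : n % i ≤ f2) (h2 : t + 2 * (m / i) ≤ n / i) :
    ∃ b e', m = i * b + e' ∧ 2 * e' < f2 ∧ (b = 0 ∨ R + 2 * i * b < M + 2 * i) := by
  obtain ⟨s, hs⟩ := hM
  have hdm := Nat.div_add_mod m i
  have hdn := Nat.div_add_mod n i
  have hH : i * t + 2 * (i * (m / i)) ≤ i * (n / i) := by
    have := Nat.mul_le_mul_left i h2
    rw [Nat.mul_add] at this
    have h3 : i * (2 * (m / i)) = 2 * (i * (m / i)) := by ring
    omega
  have hRt : i * t = R := by rw [← hR, mul_comm]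
  by_cases h : t + 2 * (m / i) ≤ s + 1
  · refine ⟨m / i, m % i, hdm.symm, by omega, Or.inr ?_⟩
    have h3 := Nat.mul_le_mul_left i h
    rw [Nat.mul_add, Nat.mul_add, mul_one] at h3
    have h4 : i * (2 * (m / i)) = 2 * i * (m / i) := by ring
    rw [hs]
    omega
  · rw [not_le] at h
    obtain ⟨b, hb⟩ : ∃ b, b = (s + 1 - t) / 2 := ⟨_, rfl⟩
    have hb1 : b = 0 ∨ 2 * b + t ≤ s + 1 := by omega
    have hb2 : s ≤ 2 * b + t := by omega
    have hb3 : b ≤ m / i := by omega
    have h5 : i * b ≤ i * (m / i) := Nat.mul_le_mul_left _ hb3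
    have h6 : i * s ≤ 2 * (i * b) + i * t := by
      have := Nat.mul_le_mul_left i hb2
      rw [Nat.mul_add] at this
      have h7 : i * (2 * b) = 2 * (i * b) := by ring
      omega
    refine ⟨b, m - i * b, by omega, by omega, ?_⟩
    rcases hb1 with h0 | h0
    · exact Or.inl h0
    · right
      have h8 := Nat.mul_le_mul_left i h0
      rw [Nat.mul_add, Nat.mul_add, mul_one] at h8
      have h9 : i * (2 * b) = 2 * i * b := by ring
      rw [hs]
      omega

variable {F : Type*} [Field F] [Fintype F] {V : Type*} [AddCommGroup V] [Module F V] [Finite V]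
  {p : ℕ} [Fact p.Prime] [CharP F p] {r : ℕ} [Fact r.Prime]

/-- **existence**: an isometry of odd prime order `r ≠ p` of a nondegenerate symmetric space of dimension `n`
fixes a totally isotropic subspace of dimension `m`, under the arithmetic conditions. -/
theorem exists_ti_invt_aux_s (h2F : (2 : F) ≠ 0) (hr2 : r ≠ 2) (hrp : r ≠ p) {B : LinearMap.BilinForm F V}
    (hB : B.IsSymm) (hV : ND B ⊤) {T : Module.End F V} (hiso : ∀ u v, B (T u) (T v) = B u v)
    (hT : T ^ r = 1) {m n : ℕ} (hn : finrank F V = n) (hm : 2 * m < n)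
    (h1 : 2 * (m % orderOf ((Fintype.card F : ℕ) : ZMod r)) < n % cOf (orderOf ((Fintype.card F : ℕ) : ZMod r)))
    (h2 : Odd (orderOf ((Fintype.card F : ℕ) : ZMod r)) ∨
      (r - 1) / orderOf ((Fintype.card F : ℕ) : ZMod r) + 2 * (m / orderOf ((Fintype.card F : ℕ) : ZMod r)) ≤
        n / orderOf ((Fintype.card F : ℕ) : ZMod r)) :
    ∃ W : Submodule F V, W ∈ Module.End.invtSubmodule T ∧ TI B W ∧ finrank F ↥W = m := by
  have hfd : FiniteDimensional F V := Module.Finite.of_finite
  have hr : r.Prime := Fact.out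
  have hrF : (r : F) ≠ 0 := natCast_ne_zero_of_ne hrp
  have hrefl := hB.isRefl
  obtain ⟨i, hi⟩ : ∃ i, i = orderOf ((Fintype.card F : ℕ) : ZMod r) := ⟨_, rfl⟩
  rw [← hi] at h1 h2
  have hipos : 0 < i := by rw [hi]; exact orderOf_q_pos hrp
  have hmovnd : ND B (movS r T) := by
    have := nd_inf_mov hrefl hiso hrF hT (Module.End.invtSubmodule.top_mem T) hV
    rwa [top_inf_eq] at this
  have hfixnd : ND B (fixS T) := by
    have := nd_inf_fix hrefl hiso hrF hT (Module.End.invtSubmodule.top_mem T) hV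
    rwa [top_inf_eq] at this
  have hmovfix : movS r T ⊓ fixS T = ⊥ := by
    rw [inf_comm]
    exact (disjoint_fix_mov hrF T).eq_bot
  have hc := cOf_dvd_finrank_s h2F hr2 hrp hB hiso hT _ _ rfl (movS_invt r T) hmovnd hmovfix
  rw [← hi] at hc
  have hsum := finrank_fix_add_mov hrF hT
  rw [hn] at hsum
  have hkf : n % cOf i ≤ finrank F ↥(fixS T) := by
    obtain ⟨l, hl⟩ := hc
    have h3 : n = finrank F ↥(fixS T) + cOf i * l := by omega
    rw [h3, Nat.add_mul_mod_self_left]
    exact Nat.mod_le _ _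
  -- the choice of the dimensions
  have hchoice : ∃ b e', m = i * b + e' ∧ 2 * e' < finrank F ↥(fixS T) ∧
      (b = 0 ∨ (if Even i then (r - 1) + 2 * i * b < finrank F ↥(movS r T) + 2 * i
        else 2 * i * b ≤ finrank F ↥(movS r T))) := by
    by_cases hev : Even i
    · have hcOf : cOf i = i := by unfold cOf; rw [if_pos hev]
      rw [hcOf] at hc h1 hkf
      have h2' : (r - 1) / i + 2 * (m / i) ≤ n / i := by
        rcases h2 with h | h
        · exact absurd hev (Nat.not_even_iff_odd.mpr h)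
        · exact h
      have hR : (r - 1) / i * i = r - 1 := by
        apply Nat.div_mul_cancel
        rw [hi]
        exact orderOf_q_dvd hrp
      obtain ⟨b, e', hb1, hb2, hb3⟩ := arith_even_s hipos hR hsum hc h1 hkf h2'
      refine ⟨b, e', hb1, hb2, ?_⟩
      rw [if_pos hev]
      exact hb3
    · have hcOf : cOf i = 2 * i := by unfold cOf; rw [if_neg hev]
      rw [hcOf] at hc h1 hkf
      obtain ⟨b, e', hb1, hb2, hb3⟩ := arith_odd_s hsum hm hc (by omega : 2 * (m % i) < finrank F ↥(fixS T))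
      refine ⟨b, e', hb1, hb2, Or.inr ?_⟩
      rw [if_neg hev]
      exact hb3
  obtain ⟨b, e', hmb, he', hb⟩ := hchoice
  -- the moved part
  have hL : ∃ L : Submodule F V, L ≤ movS r T ∧ L ∈ Module.End.invtSubmodule T ∧ TI B L ∧
      finrank F ↥L = i * b := by
    rcases hb with hb0 | hb
    · exact ⟨⊥, bot_le, Module.End.invtSubmodule.bot_mem T, ti_bot B, by rw [hb0, finrank_bot, mul_zero]⟩
    · rw [hi] at hb ⊢
      exact exists_ti_mov_s h2F hr2 hrp hB hV hiso hT b hb
  obtain ⟨L, hLmov, hLinv, hLti, hLd⟩ := hL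
  -- the fixed part
  obtain ⟨L₀, hL₀fix, hL₀ti, hL₀d⟩ := exists_ti_of_lt hrefl hV e' (fixS T) hfixnd he'
  have hL₀inv : L₀ ∈ Module.End.invtSubmodule T := invt_of_le_fixS hL₀fix
  have hperp : L₀ ≤ B.orthogonal L := by
    intro v hv
    rw [mem_perp]
    intro w hw
    exact hrefl _ _ (fix_perp_mov hiso hrF (hL₀fix hv) (hLmov hw))
  refine ⟨L ⊔ L₀, sup_invt hLinv hL₀inv, ti_sup hrefl hLti hL₀ti hperp, ?_⟩
  have hdisj : L ⊓ L₀ = ⊥ := by
    rw [eq_bot_iff, ← hmovfix]
    exact inf_le_inf hLmov hL₀fix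
  have h4 := Submodule.finrank_sup_add_finrank_inf_eq L L₀
  rw [hdisj, finrank_bot, add_zero] at h4
  rw [h4, hLd, hL₀d, hmb]

end Cfsg.Agent.Helper7.OrTS
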