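import Mathlib
import Cfsg.Agent.Helper7.OrTSD

set_option autoImplicit false
set_option linter.unusedSectionVars false
set_option linter.unusedVariables false

/-!
# Necessary conditions for symmetric spaces of odd dimension: the fixed part
-/

namespace Cfsg.Agent.Helper7.OrTS

open Module Polynomial Cfsg.Agent.Helper7.POrd Cfsg.Agent.Helper7.SpOrd Cfsg.Agent.Helper7.SpTI

variable {F : Type*} [Field F] [Fintype F] {V : Type*} [AddCommGroup V] [Module F V] [Finite V]
  {p : ℕ} [Fact p.Prime] [CharP F p] {r : ℕ} [Fact r.Prime]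

/-- the fixed space of an isometry of odd prime order of an odd-dimensional symmetric space is odd-dimensional. -/
theorem odd_finrank_fix (h2F : (2 : F) ≠ 0) (hr2 : r ≠ 2) (hrp : r ≠ p) {B : LinearMap.BilinForm F V}
    (hB : B.IsSymm) (hV : ND B ⊤) {T : Module.End F V} (hiso : ∀ u v, B (T u) (T v) = B u v)
    (hT : T ^ r = 1) (hodd : Odd (finrank F V)) : Odd (finrank F ↥(fixS T)) := by
  have hfd : FiniteDimensional F V := Module.Finite.of_finite
  have hrF : (r : F) ≠ 0 := natCast_ne_zero_of_ne hrp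
  have hmovnd : ND B (movS r T) := by
    have := nd_inf_mov hB.isRefl hiso hrF hT (Module.End.invtSubmodule.top_mem T) hV
    rwa [top_inf_eq] at this
  have hmovfix : movS r T ⊓ fixS T = ⊥ := by
    rw [inf_comm]
    exact (disjoint_fix_mov hrF T).eq_bot
  have hc := cOf_dvd_finrank_s h2F hr2 hrp hB hiso hT _ _ rfl (movS_invt r T) hmovnd hmovfix
  have hev : Even (finrank F ↥(movS r T)) := (cOf_even _).trans_dvd hc
  have hsum := finrank_fix_add_mov hrF hT
  rw [← hsum] at hodd
  by_contra hcon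
  rw [Nat.not_odd_iff_even] at hcon
  exact (Nat.not_odd_iff_even.mpr (hcon.add hev)) hodd

/-- **the fixed part**: strict inequality in odd dimension. -/
theorem mod_lt_of_ti_s (h2F : (2 : F) ≠ 0) (hr2 : r ≠ 2) (hrp : r ≠ p) {B : LinearMap.BilinForm F V}
    (hB : B.IsSymm) (hV : ND B ⊤) {T : Module.End F V} (hiso : ∀ u v, B (T u) (T v) = B u v)
    (hT : T ^ r = 1) (hodd : Odd (finrank F V)) {W : Submodule F V}
    (hW : W ∈ Module.End.invtSubmodule T) (hWti : TI B W) :
    2 * (finrank F ↥W % orderOf ((Fintype.card F : ℕ) : ZMod r)) < finrank F ↥(fixS T) := by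
  have hfd : FiniteDimensional F V := Module.Finite.of_finite
  have hrF : (r : F) ≠ 0 := natCast_ne_zero_of_ne hrp
  have hrefl := hB.isRefl
  have hfixnd : ND B (fixS T) := by
    have := nd_inf_fix hrefl hiso hrF hT (Module.End.invtSubmodule.top_mem T) hV
    rwa [top_inf_eq] at this
  have hdec := finrank_invt_decomp hrF hT hW
  have hmovfix : (W ⊓ movS r T) ⊓ fixS T = ⊥ := by
    rw [eq_bot_iff, inf_assoc]
    refine le_trans inf_le_right ?_
    rw [inf_comm]
    exact le_of_eq (disjoint_fix_mov hrF T).eq_bot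
  obtain ⟨l, hl⟩ := orderOf_dvd_finrank hT (inf_invt hW (movS_invt r T)) hmovfix
  have h1 := finrank_ti_le_of_nd hrefl hV hfixnd (inf_le_right : W ⊓ fixS T ≤ fixS T)
    (ti_mono hWti inf_le_left)
  have h2 : finrank F ↥W % orderOf ((Fintype.card F : ℕ) : ZMod r) ≤ finrank F ↥(W ⊓ fixS T) := by
    rw [hdec, hl, Nat.add_mul_mod_self_left]
    exact Nat.mod_le _ _
  obtain ⟨k, hk⟩ := odd_finrank_fix h2F hr2 hrp hB hV hiso hT hodd
  omega

/-- the moved part of an invariant totally isotropic subspace, when it vanishes. -/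
theorem lt_of_ti_of_mov_eq_bot_s (h2F : (2 : F) ≠ 0) (hr2 : r ≠ 2) (hrp : r ≠ p)
    {B : LinearMap.BilinForm F V} (hB : B.IsSymm) (hV : ND B ⊤)
    {T : Module.End F V} (hiso : ∀ u v, B (T u) (T v) = B u v) (hT : T ^ r = 1)
    (hodd : Odd (finrank F V)) {W : Submodule F V}
    (hW : W ∈ Module.End.invtSubmodule T) (hWti : TI B W) (hmov : W ⊓ movS r T = ⊥) :
    2 * finrank F ↥W < finrank F ↥(fixS T) := by
  have hfd : FiniteDimensional F V := Module.Finite.of_finite
  have hrF : (r : F) ≠ 0 := natCast_ne_zero_of_ne hrp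
  have hrefl := hB.isRefl
  have hfixnd : ND B (fixS T) := by
    have := nd_inf_fix hrefl hiso hrF hT (Module.End.invtSubmodule.top_mem T) hV
    rwa [top_inf_eq] at this
  have hdec := finrank_invt_decomp hrF hT hW
  rw [hmov, finrank_bot, add_zero] at hdec
  have h1 := finrank_ti_le_of_nd hrefl hV hfixnd (inf_le_right : W ⊓ fixS T ≤ fixS T)
    (ti_mono hWti inf_le_left)
  obtain ⟨k, hk⟩ := odd_finrank_fix h2F hr2 hrp hB hV hiso hT hodd
  omega

end Cfsg.Agent.Helper7.OrTS
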