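import Mathlib
import Cfsg.Agent.Helper7.OrTSE
import Cfsg.Agent.Helper8.OrthOrder

set_option autoImplicit false
set_option linter.unusedSectionVars false
set_option linter.unusedVariables false

/-!
# Counting isotropic vectors of nondegenerate symmetric spaces of odd dimension
-/

namespace Cfsg.Agent.Helper7.OrTS

open Module Polynomial Cfsg.Agent.Helper7.POrd Cfsg.Agent.Helper7.SpOrd Cfsg.Agent.Helper7.SpTI
  Cfsg.Agent.Helper8.QuadForm Cfsg.Agent.Helper8.OrthOrder

universe u

variable {F : Type*} [Field F]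

/-- **singular vectors in odd dimension**: a nondegenerate quadratic space of dimension `2m + 1` over the field
with `q` elements, `q` odd, has `q ^ (2m)` singular vectors. -/
theorem card_singular_odd [Fintype F] (h2 : (2 : F) ≠ 0) (m : ℕ) :
    ∀ {V : Type u} [AddCommGroup V] [Module F V] [FiniteDimensional F V] (Q : QuadraticForm F V),
      (QuadraticMap.polarBilin Q).Nondegenerate → finrank F V = 2 * m + 1 →
      Nat.card {v : V // Q v = 0} = Fintype.card F ^ (2 * m) := by
  have hq := two_le_card (F := F)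
  induction m with
  | zero =>
    intro V _ _ _ Q hQ hV
    have hnd := (nondeg_iff Q).mp hQ
    obtain ⟨x, hx0, hx⟩ := finrank_eq_one_iff'.mp hV
    have hQx : Q x ≠ 0 := by
      intro h0
      apply hx0
      apply hnd
      intro w
      obtain ⟨c, rfl⟩ := hx w
      rw [QuadraticMap.polar_smul_right, polar_self', h0, mul_zero, smul_zero]
    haveI : Unique {v : V // Q v = 0} :=
      { default := ⟨0, QuadraticMap.map_zero Q⟩
        uniq := by
          rintro ⟨v, hv⟩
          apply Subtype.ext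
          obtain ⟨c, rfl⟩ := hx v
          rw [QuadraticMap.map_smul, smul_eq_mul] at hv
          show c • x = (0 : V)
          rcases mul_eq_zero.mp hv with h | h
          · rcases mul_eq_zero.mp h with h' | h' <;> rw [h', zero_smul]
          · exact absurd h hQx }
    rw [Nat.card_unique, mul_zero, pow_zero]
  | succ m ih =>
    intro V _ _ _ Q hQ hV
    obtain ⟨e, he0, he⟩ := exists_singular Q (by omega)
    obtain ⟨W, hWdim, hWnd, hνW, -⟩ := step Q hQ he0 he
    have hWdim' : finrank F W = 2 * m + 1 := by omega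
    rw [hνW, ih (Q.comp W.subtype) hWnd hWdim', hWdim']
    obtain ⟨q, hqdef⟩ : ∃ q, q = Fintype.card F := ⟨_, rfl⟩
    rw [← hqdef] at hq ⊢
    have e1 : q ^ (2 * (m + 1)) = q ^ (2 * m + 1) * q := by rw [← pow_succ]; congr 1
    have e2 : q ^ (2 * m) * q = q ^ (2 * m + 1) := by rw [← pow_succ]
    have h3 : q ^ (2 * m + 1) * (q - 1) + q ^ (2 * m + 1) = q ^ (2 * m + 1) * q := by
      rw [← Nat.mul_succ]
      congr 1
      omega
    rw [e1, e2]
    omega

variable {V : Type u} [AddCommGroup V] [Module F V]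

/-- the quadratic form of a bilinear form, restricted to a subspace. -/
noncomputable def qOn (B : LinearMap.BilinForm F V) (N : Submodule F V) : QuadraticForm F ↥N :=
  (LinearMap.BilinMap.toQuadraticMap B).comp N.subtype

theorem qOn_apply (B : LinearMap.BilinForm F V) (N : Submodule F V) (w : ↥N) :
    qOn B N w = B (w : V) (w : V) := rfl

theorem polar_qOn (B : LinearMap.BilinForm F V) (N : Submodule F V) (x y : ↥N) :
    QuadraticMap.polar (qOn B N) x y = B (x : V) (y : V) + B (y : V) (x : V) := by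
  unfold QuadraticMap.polar
  rw [qOn_apply, qOn_apply, qOn_apply]
  simp only [Submodule.coe_add, map_add, LinearMap.add_apply]
  ring

theorem qOn_nondeg {B : LinearMap.BilinForm F V} (hB : B.IsSymm) (h2 : (2 : F) ≠ 0) {N : Submodule F V}
    (hN : ND B N) : (QuadraticMap.polarBilin (qOn B N)).Nondegenerate := by
  rw [nondeg_iff]
  intro v hv
  by_contra hv0
  have hv0' : (v : V) ≠ 0 := fun h => hv0 (Subtype.ext h)
  obtain ⟨w, hw, hw'⟩ := hN v v.2 hv0'
  apply hw'
  have := hv ⟨w, hw⟩
  rw [polar_qOn, hB.eq w (v : V)] at this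
  have h3 : (2 : F) * B (v : V) w = 0 := by linear_combination this
  exact (mul_eq_zero.mp h3).resolve_left h2

/-- **isotropic vectors of a nondegenerate subspace of odd dimension.** -/
theorem card_iso_odd [Fintype F] [FiniteDimensional F V] {B : LinearMap.BilinForm F V} (hB : B.IsSymm)
    (h2 : (2 : F) ≠ 0) {N : Submodule F V} (hN : ND B N) {e : ℕ} (hd : finrank F ↥N = 2 * e + 1) :
    Nat.card {w : ↥N // B (w : V) (w : V) = 0} = Fintype.card F ^ (2 * e) :=
  card_singular_odd h2 e (qOn B N) (qOn_nondeg hB h2 hN) hd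

/-- **isotropic vectors orthogonal to a totally isotropic subspace.** -/
theorem card_iso_perp [Fintype F] [FiniteDimensional F V] {B : LinearMap.BilinForm F V} (hB : B.IsSymm)
    (h2 : (2 : F) ≠ 0) (hV : ND B ⊤) {d : ℕ} (hn : finrank F V = 2 * d + 1) {L : Submodule F V}
    (hL : TI B L) {k : ℕ} (hk : finrank F ↥L = k) (hkd : k ≤ d) :
    Nat.card {v : V // v ∈ B.orthogonal L ∧ B v v = 0} = Fintype.card F ^ (2 * d - k) := by
  have hrefl := hB.isRefl
  obtain ⟨H, hLH, -, -, hHnd, hHd⟩ := exists_hyp_refl hrefl hV (T := 1) (fun _ _ => rfl) one_pos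
    (pow_one 1) Module.End.isSemisimple_id (invt_one ⊤) hV (invt_one L) le_top hL
  rw [hk] at hHd
  obtain ⟨N, hNdef⟩ : ∃ N, N = B.orthogonal H := ⟨_, rfl⟩
  have hNnd : ND B N := by
    have := nd_perp_inf hrefl hHnd hV le_top
    rwa [inf_top_eq, ← hNdef] at this
  have hNd : finrank F ↥N = 2 * (d - k) + 1 := by
    have := finrank_perp_inf hrefl hHnd (le_top : H ≤ ⊤)
    rw [inf_top_eq, finrank_top, ← hNdef, hHd, hn] at this
    omega
  have hLperp : L ≤ B.orthogonal L := by
    intro x hx
    rw [mem_perp]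
    intro w hw
    exact hL w hw x hx
  have hNperp : N ≤ B.orthogonal L := by
    rw [hNdef]
    exact LinearMap.BilinForm.orthogonal_le hLH
  have hdisj : L ⊓ N = ⊥ := by
    rw [eq_bot_iff, ← ((nd_iff_disjoint hrefl).mp hHnd).eq_bot, hNdef]
    exact inf_le_inf_right _ hLH
  have hsup : L ⊔ N = B.orthogonal L := by
    apply Submodule.eq_of_le_of_finrank_le (sup_le hLperp hNperp)
    have h3 := finrank_perp_inf' hrefl hV hV (le_top : L ≤ ⊤)
    rw [inf_top_eq, finrank_top, hk, hn] at h3
    have h4 := Submodule.finrank_sup_add_finrank_inf_eq L N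
    rw [hdisj, finrank_bot, add_zero, hk, hNd] at h4
    omega
  have hLN : ∀ a ∈ L, ∀ w ∈ N, B a w = 0 := by
    intro a ha w hw
    rw [hNdef] at hw
    exact mem_perp.mp hw a (hLH ha)
  have hval : ∀ a ∈ L, ∀ w ∈ N, B (a + w) (a + w) = B w w := by
    intro a ha w hw
    simp only [map_add, LinearMap.add_apply]
    rw [hL a ha a ha, hLN a ha w hw, hB.eq w a, hLN a ha w hw]
    ring
  obtain ⟨f, hf⟩ : ∃ f : (↥L × {w : ↥N // B (w : V) (w : V) = 0}) →
      {v : V // v ∈ B.orthogonal L ∧ B v v = 0},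
      ∀ x, ((f x : {v : V // v ∈ B.orthogonal L ∧ B v v = 0}) : V) = (x.1 : V) + ((x.2 : ↥N) : V) :=
    ⟨fun x => ⟨(x.1 : V) + ((x.2 : ↥N) : V), by
      rw [← hsup]
      exact Submodule.add_mem_sup x.1.2 x.2.1.2, by
      rw [hval _ x.1.2 _ x.2.1.2]
      exact x.2.2⟩, fun x => rfl⟩
  have hbij : Function.Bijective f := by
    constructor
    · rintro ⟨a, ⟨w, hw⟩⟩ ⟨a', ⟨w', hw'⟩⟩ hxy
      have h1 := congrArg Subtype.val hxy
      rw [hf, hf] at h1
      simp only at h1
      have h3 : (a : V) - (a' : V) ∈ L ⊓ N := by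
        refine ⟨Submodule.sub_mem _ a.2 a'.2, ?_⟩
        have : (a : V) - (a' : V) = (w' : V) - (w : V) := by
          rw [sub_eq_sub_iff_add_eq_add, h1, add_comm]
        rw [SetLike.mem_coe, this]
        exact Submodule.sub_mem _ w'.2 w.2
      rw [hdisj, Submodule.mem_bot, sub_eq_zero] at h3
      have h4 : (w : V) = (w' : V) := by
        rw [h3] at h1
        exact add_left_cancel h1
      have ha : a = a' := Subtype.ext h3
      have hw4 : w = w' := Subtype.ext h4
      subst ha
      subst hw4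
      rfl
    · rintro ⟨v, hv1, hv2⟩
      rw [← hsup] at hv1
      obtain ⟨a, ha, w, hw, rfl⟩ := Submodule.mem_sup.mp hv1
      refine ⟨⟨⟨a, ha⟩, ⟨⟨w, hw⟩, ?_⟩⟩, ?_⟩
      · rw [← hval a ha w hw]
        exact hv2
      · apply Subtype.ext
        rw [hf]
  rw [← Nat.card_congr (Equiv.ofBijective f hbij), Nat.card_prod, card_iso_odd hB h2 hNnd hNd,
    Module.natCard_eq_pow_finrank (K := F), hk, Nat.card_eq_fintype_card, ← pow_add]
  congr 1
  omega

end Cfsg.Agent.Helper7.OrTS
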