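import Mathlib
import Cfsg.Agent.Helper7.OrTSF

set_option autoImplicit false
set_option linter.unusedSectionVars false
set_option linter.unusedVariables false

/-!
# Counting totally isotropic subspaces of a nondegenerate symmetric space of odd dimension
-/

namespace Cfsg.Agent.Helper7.OrTS

open Module Polynomial Cfsg.Agent.Helper7.POrd Cfsg.Agent.Helper7.SpOrd Cfsg.Agent.Helper7.SpTI

universe u

variable {F : Type*} [Field F] {V : Type u} [AddCommGroup V] [Module F V]

/-- the recursion for isotropic tuples, symmetric forms. -/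
def tiIndEquiv_s (B : LinearMap.BilinForm F V) (hB : B.IsSymm) (k : ℕ) :
    TIInd B (k + 1) ≃ Σ s : TIInd B k,
      ↥({v : V | v ∈ B.orthogonal (Submodule.span F (Set.range s.1)) ∧ B v v = 0} \
        ((Submodule.span F (Set.range s.1) : Submodule F V) : Set V)) where
  toFun s := ⟨⟨Fin.tail s.1, (linearIndependent_finSucc.mp s.2.1).1, fun a b => s.2.2 a.succ b.succ⟩,
    ⟨s.1 0, by
      refine ⟨⟨?_, s.2.2 0 0⟩, (linearIndependent_finSucc.mp s.2.1).2⟩
      rw [mem_perp]
      intro w hw
      have h1 : Submodule.span F (Set.range (Fin.tail s.1)) ≤ LinearMap.ker (B.flip (s.1 0)) := by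
        rw [Submodule.span_le]
        rintro _ ⟨a, rfl⟩
        rw [SetLike.mem_coe, LinearMap.mem_ker]
        exact s.2.2 a.succ 0
      exact LinearMap.mem_ker.mp (h1 hw)⟩⟩
  invFun s := ⟨Fin.cons s.2.1 s.1.1, linearIndependent_finCons.mpr ⟨s.1.2.1, s.2.2.2⟩, by
    have hv : ∀ b, B (s.1.1 b) s.2.1 = 0 := fun b =>
      mem_perp.mp s.2.2.1.1 _ (Submodule.subset_span ⟨b, rfl⟩)
    intro a b
    refine Fin.cases ?_ (fun a' => ?_) a <;> refine Fin.cases ?_ (fun b' => ?_) b
    · simp only [Fin.cons_zero]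
      exact s.2.2.1.2
    · simp only [Fin.cons_zero, Fin.cons_succ]
      exact hB.isRefl _ _ (hv b')
    · simp only [Fin.cons_zero, Fin.cons_succ]
      exact hv a'
    · simp only [Fin.cons_succ]
      exact s.1.2.2 a' b'⟩
  left_inv s := by
    apply Subtype.ext
    simp only [Fin.cons_self_tail]
  right_inv := fun ⟨⟨s, hs⟩, ⟨v, hv⟩⟩ => rfl

/-- **the number of isotropic tuples.** -/
theorem card_tiInd_s [Fintype F] [Finite V] {B : LinearMap.BilinForm F V} (hB : B.IsSymm)
    (h2 : (2 : F) ≠ 0) (hV : ND B ⊤) {d : ℕ} (hn : finrank F V = 2 * d + 1) :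
    ∀ k : ℕ, k ≤ d → Nat.card (TIInd B k) =
      ∏ j : Fin k, (Fintype.card F ^ (2 * d - (j : ℕ)) - Fintype.card F ^ (j : ℕ)) := by
  classical
  have hfd : FiniteDimensional F V := Module.Finite.of_finite
  intro k
  induction k with
  | zero =>
    intro _
    rw [Finset.univ_eq_empty, Finset.prod_empty]
    haveI : Unique (TIInd B 0) :=
      { default := ⟨Fin.elim0, linearIndependent_empty_type, fun a => a.elim0⟩
        uniq := fun s => Subtype.ext (funext fun a => a.elim0) }
    exact Nat.card_unique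
  | succ k ih =>
    intro hk
    haveI : Fintype (TIInd B k) := Fintype.ofFinite _
    rw [Nat.card_congr (tiIndEquiv_s B hB k), Nat.card_sigma, Fin.prod_univ_castSucc]
    have hfib : ∀ s : TIInd B k,
        Nat.card ↥({v : V | v ∈ B.orthogonal (Submodule.span F (Set.range s.1)) ∧ B v v = 0} \
          ((Submodule.span F (Set.range s.1) : Submodule F V) : Set V)) =
        Fintype.card F ^ (2 * d - k) - Fintype.card F ^ k := by
      intro s
      have hti := ti_span_range s.2.2
      have hle : ((Submodule.span F (Set.range s.1) : Submodule F V) : Set V) ⊆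
          {v : V | v ∈ B.orthogonal (Submodule.span F (Set.range s.1)) ∧ B v v = 0} := by
        intro x hx
        refine ⟨?_, hti x hx x hx⟩
        rw [mem_perp]
        intro w hw
        exact hti w hw x hx
      rw [Nat.card_coe_set_eq, Set.ncard_sdiff hle (Set.toFinite _), ← Nat.card_coe_set_eq,
        ← Nat.card_coe_set_eq]
      have hkk : finrank F ↥(Submodule.span F (Set.range s.1)) = k := by
        rw [finrank_span_eq_card s.2.1, Fintype.card_fin]
      have h1 : Nat.card ↥(Submodule.span F (Set.range s.1)) = Fintype.card F ^ k := by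
        rw [Module.natCard_eq_pow_finrank (K := F), hkk, Nat.card_eq_fintype_card]
      have h2' : Nat.card ↥{v : V | v ∈ B.orthogonal (Submodule.span F (Set.range s.1)) ∧ B v v = 0} =
          Fintype.card F ^ (2 * d - k) :=
        card_iso_perp hB h2 hV hn hti hkk (by omega)
      exact congrArg₂ (· - ·) h2' h1
    rw [Finset.sum_congr rfl (fun s _ => hfib s), Finset.sum_const, Finset.card_univ, smul_eq_mul,
      ← Nat.card_eq_fintype_card, ih (by omega)]
    simp only [Fin.val_castSucc, Fin.val_last]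

/-- **the number of totally isotropic `m`-spaces**, in product form. -/
theorem card_tiSub_mul_s [Fintype F] [Finite V] {B : LinearMap.BilinForm F V} (hB : B.IsSymm)
    (h2 : (2 : F) ≠ 0) (hV : ND B ⊤) {d : ℕ} (hn : finrank F V = 2 * d + 1) (m : ℕ) (hm : m ≤ d) :
    Nat.card (TISub B m) * ∏ j : Fin m, (Fintype.card F ^ (m - (j : ℕ)) - 1) =
      ∏ j : Fin m, (Fintype.card F ^ (2 * d - 2 * (j : ℕ)) - 1) := by
  classical
  have hfd : FiniteDimensional F V := Module.Finite.of_finite
  letI : Fintype (TISub B m) := Fintype.ofFinite _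
  have h0 := card_tiInd_s hB h2 hV hn m hm
  rw [Nat.card_congr (Equiv.sigmaFiberEquiv (tiSpanOf B m)).symm, Nat.card_sigma] at h0
  have h : ∀ W : TISub B m, Nat.card {s : TIInd B m // tiSpanOf B m s = W} =
      ∏ i : Fin m, (Fintype.card F ^ m - Fintype.card F ^ (i : ℕ)) := by
    intro W
    rw [Nat.card_congr (tiFibreEquiv B m W)]
    have := card_linearIndependent (K := F) (V := ↥W.1) (k := m) (le_of_eq W.2.1.symm)
    rw [W.2.1] at this
    exact this
  rw [Finset.sum_congr rfl (fun P _ => h P), Finset.sum_const, Finset.card_univ, smul_eq_mul,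
    ← Nat.card_eq_fintype_card, prod_split _ m m le_rfl] at h0
  have hsplit : ∏ j : Fin m, (Fintype.card F ^ (2 * d - (j : ℕ)) - Fintype.card F ^ (j : ℕ)) =
      (∏ j : Fin m, Fintype.card F ^ (j : ℕ)) *
        ∏ j : Fin m, (Fintype.card F ^ (2 * d - 2 * (j : ℕ)) - 1) := by
    rw [← Finset.prod_mul_distrib]
    apply Finset.prod_congr rfl
    intro j _
    have hj : 2 * (j : ℕ) ≤ 2 * d := by have := j.2; omega
    rw [Nat.mul_sub, mul_one, ← pow_add]
    congr 2
    omega
  rw [hsplit] at h0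
  have hpos : 0 < ∏ i : Fin m, Fintype.card F ^ (i : ℕ) :=
    Finset.prod_pos (fun i _ => pow_pos Fintype.card_pos _)
  apply Nat.eq_of_mul_eq_mul_left hpos
  rw [← h0]
  ring

/-- the characteristic does not divide the number of totally isotropic `m`-spaces. -/
theorem char_not_dvd_card_tiSub_s [Fintype F] [Finite V] {p : ℕ} [Fact p.Prime] [CharP F p]
    {B : LinearMap.BilinForm F V} (hB : B.IsSymm) (h2 : (2 : F) ≠ 0) (hV : ND B ⊤) {d : ℕ}
    (hn : finrank F V = 2 * d + 1) (m : ℕ) (hm : m ≤ d) :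
    ¬ p ∣ Nat.card (TISub B m) := by
  intro hdvd
  have hp : p.Prime := Fact.out
  have h1 : p ∣ ∏ j : Fin m, (Fintype.card F ^ (2 * d - 2 * (j : ℕ)) - 1) := by
    rw [← card_tiSub_mul_s hB h2 hV hn m hm]
    exact Dvd.dvd.mul_right hdvd _
  rw [hp.prime.dvd_finsetProd_iff] at h1
  obtain ⟨j, -, hj⟩ := h1
  have hpq : p ∣ Fintype.card F := char_dvd_card
  have hpos : 0 < 2 * d - 2 * (j : ℕ) := by have := j.2; omega
  have hpq' : p ∣ Fintype.card F ^ (2 * d - 2 * (j : ℕ)) := dvd_pow hpq (by omega)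
  have hge : 1 ≤ Fintype.card F ^ (2 * d - 2 * (j : ℕ)) := Nat.one_le_pow _ _ Fintype.card_pos
  have h2' : p ∣ 1 := by
    have := Nat.dvd_sub hpq' hj
    rwa [Nat.sub_sub_self hge] at this
  exact hp.one_lt.ne' (Nat.dvd_one.mp h2')

/-- a prime dividing the number of totally isotropic `m`-spaces divides some `q^(2d - 2j) - 1`, `j < m`. -/
theorem exists_dvd_of_dvd_card_tiSub_s [Fintype F] [Finite V] {B : LinearMap.BilinForm F V} (hB : B.IsSymm)
    (h2 : (2 : F) ≠ 0) (hV : ND B ⊤) {d : ℕ} (hn : finrank F V = 2 * d + 1) (m : ℕ) (hm : m ≤ d) {r : ℕ}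
    (hr : r.Prime) (h : r ∣ Nat.card (TISub B m)) :
    ∃ j < m, r ∣ Fintype.card F ^ (2 * d - 2 * j) - 1 := by
  have h1 : r ∣ ∏ j : Fin m, (Fintype.card F ^ (2 * d - 2 * (j : ℕ)) - 1) := by
    rw [← card_tiSub_mul_s hB h2 hV hn m hm]
    exact Dvd.dvd.mul_right h _
  rw [hr.prime.dvd_finsetProd_iff] at h1
  obtain ⟨j, -, hj⟩ := h1
  exact ⟨j, j.2, hj⟩

end Cfsg.Agent.Helper7.OrTS
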