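import Mathlib
import Cfsg.Agent.Helper7.OrTSG
import Cfsg.Agent.Helper8.StdForms
import Cfsg.Agent.Helper8.OmegaOdd

set_option autoImplicit false
set_option linter.unusedSectionVars false
set_option linter.unusedVariables false

/-!
# The standard odd-dimensional orthogonal space as a symmetric bilinear space
-/

namespace Cfsg.Agent.Helper7.OrTS

open Matrix Module Polynomial Cfsg.Agent.Helper7.POrd Cfsg.Agent.Helper7.SpOrd Cfsg.Agent.Helper7.SpTI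
  Cfsg.Agent.Helper8.StdForms Cfsg.Agent.Helper8.QuadForm

variable {F : Type*} [Field F]

/-- the polar form of the standard quadratic form in odd dimension. -/
noncomputable def oB (d : ℕ) (F : Type*) [Field F] : LinearMap.BilinForm F (Unit ⊕ (Fin d ⊕ Fin d) → F) :=
  QuadraticMap.polarBilin (oddForm F d)

theorem oddForm_coe (d : ℕ) :
    (⇑(oddForm F d) : (Unit ⊕ (Fin d ⊕ Fin d) → F) → F) = Cfsg.quadFormOdd d F := by
  funext v
  exact oddForm_apply F d v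

theorem oB_apply (d : ℕ) (u v : Unit ⊕ (Fin d ⊕ Fin d) → F) :
    oB d F u v = QuadraticMap.polar (Cfsg.quadFormOdd d F) u v := by
  unfold oB
  rw [QuadraticMap.polarBilin_apply_apply, oddForm_coe]

theorem oB_self (d : ℕ) (v : Unit ⊕ (Fin d ⊕ Fin d) → F) : oB d F v v = 2 * Cfsg.quadFormOdd d F v := by
  unfold oB
  rw [QuadraticMap.polarBilin_apply_apply, polar_self', oddForm_apply]

theorem oB_isSymm (d : ℕ) : (oB d F).IsSymm := by
  constructor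
  intro u v
  unfold oB
  simp only [QuadraticMap.polarBilin_apply_apply]
  exact QuadraticMap.polar_comm _ u v

theorem oB_ND (h2 : (2 : F) ≠ 0) (d : ℕ) : ND (oB d F) ⊤ := by
  intro u _ hu
  by_contra hcon
  push Not at hcon
  apply hu
  exact (oddForm_nondeg F d h2).1 u (fun v => hcon v Submodule.mem_top)

theorem ti_iff_ts (h2 : (2 : F) ≠ 0) (d : ℕ) (W : Submodule F (Unit ⊕ (Fin d ⊕ Fin d) → F)) :
    TI (oB d F) W ↔ ∀ w ∈ W, Cfsg.quadFormOdd d F w = 0 := by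
  constructor
  · intro h w hw
    have := h w hw w hw
    rw [oB_self] at this
    exact (mul_eq_zero.mp this).resolve_left h2
  · intro h u hu v hv
    rw [oB_apply]
    unfold QuadraticMap.polar
    rw [h _ (Submodule.add_mem _ hu hv), h u hu, h v hv]
    ring

theorem oB_iso (d : ℕ) {x : GL (Unit ⊕ (Fin d ⊕ Fin d)) F}
    (hx : x ∈ Cfsg.isometryGroup F (Cfsg.quadFormOdd d F)) (u v : Unit ⊕ (Fin d ⊕ Fin d) → F) :
    oB d F (Matrix.toLin' (x : Matrix (Unit ⊕ (Fin d ⊕ Fin d)) (Unit ⊕ (Fin d ⊕ Fin d)) F) u)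
      (Matrix.toLin' (x : Matrix (Unit ⊕ (Fin d ⊕ Fin d)) (Unit ⊕ (Fin d ⊕ Fin d)) F) v) = oB d F u v := by
  have hxQ : ∀ w, Cfsg.quadFormOdd d F
      ((x : Matrix (Unit ⊕ (Fin d ⊕ Fin d)) (Unit ⊕ (Fin d ⊕ Fin d)) F) *ᵥ w) = Cfsg.quadFormOdd d F w :=
    fun w => hx w w
  rw [oB_apply, oB_apply, Matrix.toLin'_apply, Matrix.toLin'_apply]
  unfold QuadraticMap.polar
  rw [← Matrix.mulVec_add, hxQ, hxQ, hxQ]

theorem card_ts_eq (h2 : (2 : F) ≠ 0) (d m : ℕ) :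
    Nat.card {W : Submodule F (Unit ⊕ (Fin d ⊕ Fin d) → F) // finrank F ↥W = m ∧
      (∀ w ∈ W, Cfsg.quadFormOdd d F w = 0)} = Nat.card (TISub (oB d F) m) := by
  apply Nat.card_congr
  apply Equiv.subtypeEquivRight
  intro W
  rw [ti_iff_ts h2]

theorem finrank_std_odd (d : ℕ) : finrank F (Unit ⊕ (Fin d ⊕ Fin d) → F) = 2 * d + 1 :=
  finrank_odd F d

theorem to_statement_s (h2 : (2 : F) ≠ 0) {d m : ℕ} (x : GL (Unit ⊕ (Fin d ⊕ Fin d)) F)
    {W : Submodule F (Unit ⊕ (Fin d ⊕ Fin d) → F)}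
    (hW : W ∈ Module.End.invtSubmodule
      (Matrix.toLin' (x : Matrix (Unit ⊕ (Fin d ⊕ Fin d)) (Unit ⊕ (Fin d ⊕ Fin d)) F)))
    (hWti : TI (oB d F) W) (hWd : finrank F ↥W = m) :
    ∃ W : Submodule F (Unit ⊕ (Fin d ⊕ Fin d) → F), finrank F ↥W = m ∧
      (∀ w ∈ W, Cfsg.quadFormOdd d F w = 0) ∧
      W.map (Matrix.toLin' (x : Matrix (Unit ⊕ (Fin d ⊕ Fin d)) (Unit ⊕ (Fin d ⊕ Fin d)) F)) ≤ W := by
  refine ⟨W, hWd, (ti_iff_ts h2 d W).mp hWti, ?_⟩
  rw [Submodule.map_le_iff_le_comap]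
  exact (Module.End.mem_invtSubmodule _).mp hW

theorem of_statement_s (h2 : (2 : F) ≠ 0) {d : ℕ} (x : GL (Unit ⊕ (Fin d ⊕ Fin d)) F)
    {W : Submodule F (Unit ⊕ (Fin d ⊕ Fin d) → F)}
    (hWts : ∀ w ∈ W, Cfsg.quadFormOdd d F w = 0)
    (hWinv : W.map (Matrix.toLin' (x : Matrix (Unit ⊕ (Fin d ⊕ Fin d)) (Unit ⊕ (Fin d ⊕ Fin d)) F)) ≤ W) :
    W ∈ Module.End.invtSubmodule
      (Matrix.toLin' (x : Matrix (Unit ⊕ (Fin d ⊕ Fin d)) (Unit ⊕ (Fin d ⊕ Fin d)) F)) ∧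
      TI (oB d F) W := by
  refine ⟨?_, (ti_iff_ts h2 d W).mpr hWts⟩
  rw [Module.End.mem_invtSubmodule, ← Submodule.map_le_iff_le_comap]
  exact hWinv

theorem toLin'_pow_gl {ι : Type} [Fintype ι] [DecidableEq ι] (x : GL ι F) (n : ℕ) :
    (Matrix.toLin' (x : Matrix ι ι F) : Module.End F (ι → F)) ^ n =
      Matrix.toLin' ((x ^ n : GL ι F) : Matrix ι ι F) := by
  rw [Units.val_pow_eq_pow_val]
  induction n with
  | zero => rw [pow_zero, pow_zero, Matrix.toLin'_one]; rfl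
  | succ n ih => rw [pow_succ, pow_succ, Matrix.toLin'_mul, ih]; rfl

theorem toLin'_pow_eq_one {ι : Type} [Fintype ι] [DecidableEq ι] {x : GL ι F} {n : ℕ} (hx : x ^ n = 1) :
    (Matrix.toLin' (x : Matrix ι ι F) : Module.End F (ι → F)) ^ n = 1 := by
  rw [toLin'_pow_gl, hx, Units.val_one, Matrix.toLin'_one]
  rfl

end Cfsg.Agent.Helper7.OrTS
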