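import Mathlib
import Cfsg.Agent.Helper7.OrTSH
import Cfsg.Agent.Helper7.OrthMaxC
import Cfsg.Agent.Helper8.OrRSimOdd

set_option autoImplicit false
set_option linter.unusedSectionVars false
set_option linter.unusedVariables false

/-!
# Odd prime order in odd-dimensional orthogonal groups: existence in matrix form, and the transfer from models
-/

namespace Cfsg.Agent.Helper7.OrTS

open Matrix Module Polynomial Cfsg.Agent.Helper7.POrd Cfsg.Agent.Helper7.SpOrd Cfsg.Agent.Helper7.SpTI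
  Cfsg.Agent.Helper8.StdForms Cfsg.Agent.Helper8.QuadForm Cfsg.Agent.Helper8.OrthOrder
  Cfsg.Agent.Helper8.ReflMatrix Cfsg.Agent.Helper8.OmegaOdd Cfsg.Agent.Helper7.OrthMax

universe u

section exist

variable {F : Type*} [Field F] [Fintype F] {p : ℕ} [Fact p.Prime] [CharP F p] {r : ℕ} [Fact r.Prime]

/-- **`r` odd, existence.** -/
theorem exists_ts_invt_odd (h2F : (2 : F) ≠ 0) (hr2 : r ≠ 2) (hrp : r ≠ p) {d m : ℕ} (hm : m ≤ d)
    (h1 : 2 * (m % orderOf ((Fintype.card F : ℕ) : ZMod r)) <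
      (2 * d + 1) % cOf (orderOf ((Fintype.card F : ℕ) : ZMod r)))
    (h2 : Odd (orderOf ((Fintype.card F : ℕ) : ZMod r)) ∨
      (r - 1) / orderOf ((Fintype.card F : ℕ) : ZMod r) + 2 * (m / orderOf ((Fintype.card F : ℕ) : ZMod r)) ≤
        (2 * d + 1) / orderOf ((Fintype.card F : ℕ) : ZMod r))
    (x : GL (Unit ⊕ (Fin d ⊕ Fin d)) F) (hx : x ∈ Cfsg.isometryGroup F (Cfsg.quadFormOdd d F))
    (hxr : x ^ r = 1) :
    ∃ W : Submodule F (Unit ⊕ (Fin d ⊕ Fin d) → F), finrank F ↥W = m ∧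
      (∀ w ∈ W, Cfsg.quadFormOdd d F w = 0) ∧
      W.map (Matrix.toLin' (x : Matrix (Unit ⊕ (Fin d ⊕ Fin d)) (Unit ⊕ (Fin d ⊕ Fin d)) F)) ≤ W := by
  obtain ⟨W, hW, hWti, hWd⟩ := exists_ti_invt_aux_s h2F hr2 hrp (oB_isSymm (F := F) d) (oB_ND h2F d)
    (oB_iso d hx) (toLin'_pow_eq_one hxr) (finrank_std_odd d) (by omega) h1 h2
  exact to_statement_s h2F x hW hWti hWd

end exist

section omega

variable {F : Type*} [Field F] [Fintype F] {ι : Type} [Fintype ι] [DecidableEq ι]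
  (Q : QuadraticForm F (ι → F))

/-- elements of odd order lie in the commutator subgroup of the orthogonal group. -/
theorem mem_commutator_of_pow_odd (h2 : (2 : F) ≠ 0) (hQ : (QuadraticMap.polarBilin Q).Nondegenerate)
    (hn : 2 ≤ Fintype.card ι) {g : ↥(Cfsg.isometryGroup F ⇑Q)} {N : ℕ} (hN : Odd N) (hg : g ^ N = 1) :
    g ∈ commutator ↥(Cfsg.isometryGroup F ⇑Q) := by
  obtain ⟨e, he⟩ := exists_nonsquare h2
  rw [(commutator_eq Q h2 hQ hn he).2 g]
  have key : ∀ χ : ↥(Cfsg.isometryGroup F ⇑Q) →* ℤˣ, χ g = 1 := by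
    intro χ
    have h1 : (χ g) ^ N = 1 := by rw [← map_pow, hg, map_one]
    rcases Int.units_eq_one_or (χ g) with h | h
    · exact h
    · rw [h, hN.neg_one_pow] at h1
      exact absurd h1 (by decide)
  exact ⟨key _, key _⟩

end omega

variable {F : Type*} [Field F]

/-- **transfer**: an isometry of odd order of a nondegenerate symmetric space of dimension `2d + 1` as an element
of `Ω_{2d+1}`, with the comparison map. -/
theorem exists_orth_model [Fintype F] (h2 : (2 : F) ≠ 0) {E : Type u} [AddCommGroup E] [Module F E]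
    [FiniteDimensional F E] {B : LinearMap.BilinForm F E} (hB : B.IsSymm) (hND : ND B ⊤)
    {φ : Module.End F E} (hφ : ∀ u v, B (φ u) (φ v) = B u v) {r : ℕ} (hr : Odd r) (hφr : φ ^ r = 1)
    {d : ℕ} (hd1 : 1 ≤ d) (hd : finrank F E = 2 * d + 1) :
    ∃ (x : GL (Unit ⊕ (Fin d ⊕ Fin d)) F) (e : E ≃ₗ[F] (Unit ⊕ (Fin d ⊕ Fin d) → F)) (c : F),
      x ∈ Cfsg.Geo.omegaGL (Cfsg.quadFormOdd d F) ∧ x ^ r = 1 ∧ c ≠ 0 ∧
      (∀ u v, oB d F (e u) (e v) = c * B u v) ∧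
      ∀ v, Matrix.toLin' (x : Matrix (Unit ⊕ (Fin d ⊕ Fin d)) (Unit ⊕ (Fin d ⊕ Fin d)) F) (e v) =
        e (φ v) := by
  classical
  have hrpos : 0 < r := hr.pos
  -- the quadratic form of `B`
  obtain ⟨QE, hQE⟩ : ∃ QE : QuadraticForm F E, ∀ v, QE v = 2⁻¹ * B v v :=
    ⟨(2⁻¹ : F) • LinearMap.BilinMap.toQuadraticMap B, fun v => rfl⟩
  have hpolE : ∀ u v, QuadraticMap.polar QE u v = B u v := by
    intro u v
    unfold QuadraticMap.polar
    rw [hQE, hQE, hQE]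
    simp only [map_add, LinearMap.add_apply]
    rw [hB.eq v u]
    field_simp
    ring
  have hQEφ : ∀ v, QE (φ v) = QE v := by
    intro v
    rw [hQE, hQE, hφ]
  obtain ⟨e₀⟩ : Nonempty (E ≃ₗ[F] (Unit ⊕ (Fin d ⊕ Fin d) → F)) :=
    ⟨LinearEquiv.ofFinrankEq _ _ (by rw [hd, finrank_std_odd])⟩
  obtain ⟨Q', hQ'⟩ : ∃ Q' : QuadraticForm F (Unit ⊕ (Fin d ⊕ Fin d) → F), ∀ w, Q' w = QE (e₀.symm w) :=
    ⟨QE.comp (e₀.symm : (Unit ⊕ (Fin d ⊕ Fin d) → F) →ₗ[F] E), fun w => rfl⟩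
  have hQ'nd : Nondeg Q' := by
    intro v hv
    have h1 : e₀.symm v = 0 := by
      by_contra hne
      obtain ⟨w, -, hw⟩ := hND _ Submodule.mem_top hne
      apply hw
      have := hv (e₀ w)
      unfold QuadraticMap.polar at this
      rw [hQ', hQ', hQ', map_add, LinearEquiv.symm_apply_apply] at this
      rw [← hpolE]
      exact this
    exact e₀.symm.map_eq_zero_iff.mp h1
  have hoddnd : Nondeg (oddForm F d) := (nondeg_iff _).mp (oddForm_nondeg F d h2)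
  obtain ⟨c, g, hc, hg⟩ := Cfsg.Agent.Helper8.OrR.exists_similarity_odd d (finrank_std_odd d) Q'
    (oddForm F d) hQ'nd hoddnd
  obtain ⟨e, he⟩ : ∃ e : E ≃ₗ[F] (Unit ⊕ (Fin d ⊕ Fin d) → F), ∀ v, e v = g (e₀ v) :=
    ⟨e₀.trans g, fun v => rfl⟩
  have heQ : ∀ v, oddForm F d (e v) = c * QE v := by
    intro v
    rw [he, hg, hQ', LinearEquiv.symm_apply_apply]
  have he1 : ∀ u v, oB d F (e u) (e v) = c * B u v := by
    intro u v
    unfold oB
    rw [QuadraticMap.polarBilin_apply_apply]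
    unfold QuadraticMap.polar
    rw [← map_add, heQ, heQ, heQ, ← hpolE]
    unfold QuadraticMap.polar
    ring
  -- the isometry
  have hφinv1 : φ * φ ^ (r - 1) = 1 := by rw [← pow_succ', Nat.sub_add_cancel hrpos, hφr]
  have hφinv2 : φ ^ (r - 1) * φ = 1 := by rw [← pow_succ, Nat.sub_add_cancel hrpos, hφr]
  obtain ⟨ψ, hψ⟩ : ∃ ψ : (Unit ⊕ (Fin d ⊕ Fin d) → F) ≃ₗ[F] (Unit ⊕ (Fin d ⊕ Fin d) → F),
      ∀ w, ψ w = e (φ (e.symm w)) := by
    refine ⟨LinearEquiv.ofLinear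
      ((e : E →ₗ[F] (Unit ⊕ (Fin d ⊕ Fin d) → F)) ∘ₗ φ ∘ₗ (e.symm : (Unit ⊕ (Fin d ⊕ Fin d) → F) →ₗ[F] E))
      ((e : E →ₗ[F] (Unit ⊕ (Fin d ⊕ Fin d) → F)) ∘ₗ (φ ^ (r - 1)) ∘ₗ
        (e.symm : (Unit ⊕ (Fin d ⊕ Fin d) → F) →ₗ[F] E)) ?_ ?_, fun w => rfl⟩
    · apply LinearMap.ext
      intro w
      simp only [LinearMap.comp_apply, LinearEquiv.coe_coe, LinearEquiv.symm_apply_apply,
        LinearMap.id_apply]
      rw [← Module.End.mul_apply, hφinv1, Module.End.one_apply, LinearEquiv.apply_symm_apply]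
    · apply LinearMap.ext
      intro w
      simp only [LinearMap.comp_apply, LinearEquiv.coe_coe, LinearEquiv.symm_apply_apply,
        LinearMap.id_apply]
      rw [← Module.End.mul_apply, hφinv2, Module.End.one_apply, LinearEquiv.apply_symm_apply]
  have hψQ : ∀ w, oddForm F d (ψ w) = oddForm F d w := by
    intro w
    rw [hψ, heQ, hQEφ, ← heQ, LinearEquiv.apply_symm_apply]
  have hψpow : ∀ (n : ℕ) w, (ψ ^ n) w = e ((φ ^ n) (e.symm w)) := by
    intro n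
    induction n with
    | zero =>
      intro w
      rw [pow_zero, pow_zero, Module.End.one_apply, LinearEquiv.apply_symm_apply]
      rfl
    | succ n ih =>
      intro w
      rw [pow_succ, LinearEquiv.mul_apply, ih, hψ, LinearEquiv.symm_apply_apply, pow_succ,
        Module.End.mul_apply]
  obtain ⟨k, hk⟩ : ∃ k : ↥(Isom (oddForm F d)), k.1 = ψ := ⟨⟨ψ, hψQ⟩, rfl⟩
  have hkr : k ^ r = 1 := by
    apply Subtype.ext
    rw [Subgroup.coe_pow, hk]
    apply LinearEquiv.ext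
    intro w
    rw [hψpow, hφr, Module.End.one_apply, LinearEquiv.apply_symm_apply]
    rfl
  obtain ⟨y, hy⟩ : ∃ y : ↥(Cfsg.isometryGroup F ⇑(oddForm F d)), isomEquiv (oddForm F d) y = k :=
    ⟨(isomEquiv (oddForm F d)).symm k, MulEquiv.apply_symm_apply _ _⟩
  have hyr : y ^ r = 1 := by
    apply (isomEquiv (oddForm F d)).injective
    rw [map_pow, hy, hkr, map_one]
  have hcard : 2 ≤ Fintype.card (Unit ⊕ (Fin d ⊕ Fin d)) := by
    simp only [Fintype.card_sum, Fintype.card_fin, Fintype.card_unit]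
    omega
  have hycomm := mem_commutator_of_pow_odd (oddForm F d) h2 (oddForm_nondeg F d h2) hcard hr hyr
  refine ⟨(y : GL (Unit ⊕ (Fin d ⊕ Fin d)) F), e, c, ?_, ?_, hc, he1, ?_⟩
  · rw [← oddForm_coe]
    exact ⟨y, hycomm, rfl⟩
  · rw [← Subgroup.coe_pow, hyr]
    rfl
  · intro v
    rw [Matrix.toLin'_apply, ← isomEquiv_apply, hy, hk, hψ, LinearEquiv.symm_apply_apply]

/-- pulling back an invariant totally singular subspace along the comparison map. -/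
theorem pullback_ts (h2 : (2 : F) ≠ 0) {E : Type u} [AddCommGroup E] [Module F E] [FiniteDimensional F E]
    {B : LinearMap.BilinForm F E} {φ : Module.End F E} {d : ℕ} {x : GL (Unit ⊕ (Fin d ⊕ Fin d)) F}
    (e : E ≃ₗ[F] (Unit ⊕ (Fin d ⊕ Fin d) → F)) {c : F} (hc : c ≠ 0)
    (he1 : ∀ u v, oB d F (e u) (e v) = c * B u v)
    (he2 : ∀ v, Matrix.toLin' (x : Matrix (Unit ⊕ (Fin d ⊕ Fin d)) (Unit ⊕ (Fin d ⊕ Fin d)) F) (e v) =
      e (φ v))
    {W : Submodule F (Unit ⊕ (Fin d ⊕ Fin d) → F)} {m : ℕ} (hWd : finrank F ↥W = m)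
    (hWts : ∀ w ∈ W, Cfsg.quadFormOdd d F w = 0)
    (hWinv : W.map (Matrix.toLin' (x : Matrix (Unit ⊕ (Fin d ⊕ Fin d)) (Unit ⊕ (Fin d ⊕ Fin d)) F)) ≤ W) :
    ∃ W' : Submodule F E, W' ∈ Module.End.invtSubmodule φ ∧ TI B W' ∧ finrank F ↥W' = m := by
  have hWti := (ti_iff_ts h2 d W).mpr hWts
  refine ⟨W.comap (e : E →ₗ[F] (Unit ⊕ (Fin d ⊕ Fin d) → F)), ?_, ?_, ?_⟩
  · rw [Module.End.mem_invtSubmodule]
    intro v hv
    rw [Submodule.mem_comap] at hv ⊢
    rw [Submodule.mem_comap, LinearEquiv.coe_coe, ← he2]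
    exact hWinv (Submodule.mem_map_of_mem hv)
  · intro u hu v hv
    rw [Submodule.mem_comap] at hu hv
    change e u ∈ W at hu
    change e v ∈ W at hv
    have h1 := he1 u v
    rw [hWti _ hu _ hv] at h1
    exact (mul_eq_zero.mp h1.symm).resolve_left hc
  · rw [← hWd]
    have : W.comap (e : E →ₗ[F] (Unit ⊕ (Fin d ⊕ Fin d) → F)) =
        W.map (e.symm : (Unit ⊕ (Fin d ⊕ Fin d) → F) →ₗ[F] E) :=
      (Submodule.map_equiv_eq_comap_symm e.symm W).symm
    rw [this]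
    exact LinearEquiv.finrank_map_eq e.symm W

end Cfsg.Agent.Helper7.OrTS
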