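import Mathlib
import Cfsg.Agent.Helper7.OrTSI

set_option autoImplicit false
set_option linter.unusedSectionVars false
set_option linter.unusedVariables false

/-!
# Orthogonal blocks and the block model in odd dimension
-/

namespace Cfsg.Agent.Helper7.OrTS

open Matrix Module Polynomial Cfsg.Agent.Helper8.SpS Cfsg.Agent.Helper8.SpStab Cfsg.Agent.Helper7.POrd
  Cfsg.Agent.Helper7.SpOrd Cfsg.Agent.Helper7.SpTI Cfsg.Agent.Helper7.SpCP Cfsg.Agent.Helper8.StdForms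

section block

variable {F : Type*} [Field F] [Fintype F] {p : ℕ} [Fact p.Prime] [CharP F p] {r : ℕ} [Fact r.Prime]

/-- **the orthogonal block**: a symmetric nondegenerate form on a space of dimension `c` with an isometry of
order `r` without fixed vectors. -/
theorem exists_orth_block (hr2 : r ≠ 2) (hrp : r ≠ p) {h : ℕ}
    (hh : cOf (orderOf ((Fintype.card F : ℕ) : ZMod r)) = 2 * h) :
    ∃ (B₀ : LinearMap.BilinForm F (Fin h ⊕ Fin h → F)) (T₀ : Module.End F (Fin h ⊕ Fin h → F)),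
      B₀.IsSymm ∧ Nondeg B₀ ∧ Inv B₀ T₀ ∧ T₀ ^ r = 1 ∧ fixS T₀ = ⊥ := by
  have hr : 0 < r := (Fact.out : r.Prime).pos
  have hrodd : Odd r := (Fact.out : r.Prime).odd_of_ne_two hr2
  obtain ⟨x₀, hx₀r, hx₀fix⟩ := exists_block_elt hr2 hrp hh
  obtain ⟨T₀, hT₀⟩ : ∃ T₀ : Module.End F (Fin h ⊕ Fin h → F),
      T₀ = Matrix.toLin' (x₀ : Matrix (Fin h ⊕ Fin h) (Fin h ⊕ Fin h) F) := ⟨_, rfl⟩
  rw [← hT₀] at hx₀fix
  have hT₀r : T₀ ^ r = 1 := by
    rw [hT₀, toLin'_pow_symp, hx₀r]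
    exact Matrix.toLin'_one
  have hiso : ∀ u v, sB h F (T₀ u) (T₀ v) = sB h F u v := by
    intro u v
    rw [hT₀]
    exact sB_iso x₀ u v
  have hAlt : (sB h F).IsAlt := sB_isAlt h
  have hinv : ∀ u, (T₀ ^ (r - 1)) (T₀ u) = u := by
    intro u
    rw [← Module.End.mul_apply, ← pow_succ, Nat.sub_add_cancel hr, hT₀r, Module.End.one_apply]
  have hinv' : ∀ u, T₀ ((T₀ ^ (r - 1)) u) = u := by
    intro u
    rw [← Module.End.mul_apply, ← pow_succ', Nat.sub_add_cancel hr, hT₀r, Module.End.one_apply]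
  have hadj' : ∀ u v, sB h F ((T₀ ^ (r - 1)) u) v = sB h F u (T₀ v) := by
    intro u v
    rw [← iso_pow hiso (r - 1) u (T₀ v), hinv]
  obtain ⟨B₀, hB₀⟩ : ∃ B₀ : LinearMap.BilinForm F (Fin h ⊕ Fin h → F),
      B₀ = (sB h F).compl₁₂ (T₀ - T₀ ^ (r - 1)) LinearMap.id := ⟨_, rfl⟩
  have happ : ∀ u v, B₀ u v = sB h F (T₀ u) v - sB h F ((T₀ ^ (r - 1)) u) v := by
    intro u v
    rw [hB₀, LinearMap.compl₁₂_apply, LinearMap.sub_apply, map_sub, LinearMap.sub_apply, LinearMap.id_apply]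
  refine ⟨B₀, T₀, ⟨?_⟩, ?_, ?_, hT₀r, hx₀fix⟩
  · intro u v
    have e1 : B₀ u v = sB h F u ((T₀ ^ (r - 1)) v) - sB h F u (T₀ v) := by
      rw [happ, adj_one hiso hr hT₀r u v, hadj' u v]
    have e2 : B₀ v u = sB h F u ((T₀ ^ (r - 1)) v) - sB h F u (T₀ v) := by
      rw [happ, ← LinearMap.IsAlt.neg hAlt u (T₀ v), ← LinearMap.IsAlt.neg hAlt u ((T₀ ^ (r - 1)) v)]
      ring
    rw [e1, e2]
  · intro u hu
    have h1 : T₀ u - (T₀ ^ (r - 1)) u = 0 := by
      apply sB_nondeg (F := F) (m := h)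
      intro v
      have := hu v
      rw [happ, ← LinearMap.sub_apply, ← map_sub] at this
      exact this
    have h2 : T₀ (T₀ u) = u := by
      rw [sub_eq_zero] at h1
      rw [h1, hinv']
    have h3 : u ∈ fixS T₀ := mem_fixS.mpr (fixed_of_sq_fixed hrodd hT₀r h2)
    rw [hx₀fix, Submodule.mem_bot] at h3
    exact h3
  · intro u v
    rw [happ, happ, hiso]
    have : (T₀ ^ (r - 1)) (T₀ u) = T₀ ((T₀ ^ (r - 1)) u) := by rw [hinv, hinv']
    rw [this, hiso]

end block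

section model

variable {F : Type*} [Field F] {V₀ V₁ : Type*} [AddCommGroup V₀] [Module F V₀] [AddCommGroup V₁]
  [Module F V₁] {s : ℕ}

theorem piB_symm {B₀ : LinearMap.BilinForm F V₀} (h : B₀.IsSymm) :
    LinearMap.BilinForm.IsSymm (piB (ι := Fin s) B₀) := by
  constructor
  intro u v
  rw [piB_apply, piB_apply]
  exact Finset.sum_congr rfl (fun k _ => h.eq (u k) (v k))

theorem prodB_symm {B₀ : LinearMap.BilinForm F V₀} {B₁ : LinearMap.BilinForm F V₁} (h₀ : B₀.IsSymm)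
    (h₁ : B₁.IsSymm) : LinearMap.BilinForm.IsSymm (prodB B₀ B₁) := by
  constructor
  intro u v
  rw [prodB_apply, prodB_apply, h₀.eq, h₁.eq]

theorem modelMap_pow_eq_one {S : Fin s → Module.End F V₀} {r : ℕ} (hSr : ∀ l, S l ^ r = 1) :
    (modelMap (V₁ := V₁) S) ^ r = 1 := by
  apply LinearMap.ext
  intro y
  rw [modelMap_pow_apply]
  apply Prod.ext
  · funext l
    simp only [hSr l, Module.End.one_apply]
  · rfl

theorem modelMap_inv {B₀ : LinearMap.BilinForm F V₀} (B₁ : LinearMap.BilinForm F V₁)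
    {S : Fin s → Module.End F V₀} (hS : ∀ l, Inv B₀ (S l)) :
    ∀ u v, prodB (piB (ι := Fin s) B₀) B₁ (modelMap (V₁ := V₁) S u) (modelMap (V₁ := V₁) S v) =
      prodB (piB (ι := Fin s) B₀) B₁ u v :=
  prodB_inv (piB_invF hS) (fun u v => rfl)

/-- the fixed space of the model map projects injectively to the second factor. -/
theorem finrank_fix_model_le [FiniteDimensional F V₀] [FiniteDimensional F V₁]
    {S : Fin s → Module.End F V₀} (hSfix : ∀ l, fixS (S l) = ⊥) :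
    finrank F ↥(fixS (modelMap (V₁ := V₁) S)) ≤ finrank F V₁ := by
  have hinj' : Function.Injective ((LinearMap.snd F (Fin s → V₀) V₁) ∘ₗ
      (fixS (modelMap (V₁ := V₁) S)).subtype) := by
    rw [← LinearMap.ker_eq_bot, eq_bot_iff]
    rintro ⟨⟨u, w⟩, hy⟩ hker
    rw [LinearMap.mem_ker, LinearMap.comp_apply, Submodule.subtype_apply, LinearMap.snd_apply] at hker
    simp only at hker
    rw [Submodule.mem_bot]
    apply Subtype.ext
    have hfx := POrd.mem_fixS.mp hy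
    rw [modelMap_apply] at hfx
    have hu : u = 0 := by
      funext l
      have h1 := congrFun (congrArg Prod.fst hfx) l
      simp only [piMapF_apply] at h1
      have h2 : u l ∈ fixS (S l) := POrd.mem_fixS.mpr h1
      rw [hSfix l, Submodule.mem_bot] at h2
      exact h2
    show (u, w) = 0
    rw [hu, hker]
    rfl
  exact LinearMap.finrank_le_finrank_of_injective hinj'

theorem modelMap_ne_one [Nontrivial V₀] {S : Fin s → Module.End F V₀} (hs1 : 1 ≤ s)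
    (hSfix : ∀ l, fixS (S l) = ⊥) : modelMap (V₁ := V₁) S ≠ 1 := by
  intro hφ1
  obtain ⟨y, hy⟩ := exists_ne (0 : V₀)
  apply hy
  have h1 := LinearMap.congr_fun hφ1 (blockEmb (F := F) (V₁ := V₁) (⟨0, by omega⟩ : Fin s) y)
  rw [modelMap_blockEmb, Module.End.one_apply, blockEmb_apply, blockEmb_apply] at h1
  have h2 := congrFun (congrArg Prod.fst h1) ⟨0, by omega⟩
  simp only [Pi.single_eq_same] at h2
  have h3 : y ∈ fixS (S ⟨0, by omega⟩) := POrd.mem_fixS.mpr h2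
  rw [hSfix, Submodule.mem_bot] at h3
  exact h3

end model

section elt

variable {F : Type*} [Field F] [Fintype F]

theorem oB_nondeg' (h2 : (2 : F) ≠ 0) (d : ℕ) : Nondeg (oB d F) := by
  intro u hu
  exact (oddForm_nondeg F d h2).1 u hu

/-- **the model element**: blocks without fixed vectors, as an element of `Ω_{2d+1}(q)`. -/
theorem exists_model_elt (h2 : (2 : F) ≠ 0) {r : ℕ} (hr : Odd r) {h d s : ℕ} (hh1 : 1 ≤ h) (hs1 : 1 ≤ s)
    (hhs : h * s ≤ d) {B₀ : LinearMap.BilinForm F (Fin h ⊕ Fin h → F)} (hB₀s : B₀.IsSymm)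
    (hB₀nd : Nondeg B₀) (S : Fin s → Module.End F (Fin h ⊕ Fin h → F)) (hSiso : ∀ l, Inv B₀ (S l))
    (hSr : ∀ l, S l ^ r = 1) (hSfix : ∀ l, fixS (S l) = ⊥) :
    ∃ (x : GL (Unit ⊕ (Fin d ⊕ Fin d)) F)
      (e : ((Fin s → (Fin h ⊕ Fin h → F)) × (Unit ⊕ (Fin (d - h * s) ⊕ Fin (d - h * s)) → F)) ≃ₗ[F]
        (Unit ⊕ (Fin d ⊕ Fin d) → F)) (c : F),
      x ∈ Cfsg.Geo.omegaGL (Cfsg.quadFormOdd d F) ∧ x ^ r = 1 ∧ x ≠ 1 ∧ c ≠ 0 ∧
      (∀ u v, oB d F (e u) (e v) = c * prodB (piB (ι := Fin s) B₀) (oB (d - h * s) F) u v) ∧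
      ∀ v, Matrix.toLin' (x : Matrix (Unit ⊕ (Fin d ⊕ Fin d)) (Unit ⊕ (Fin d ⊕ Fin d)) F) (e v) =
        e (modelMap (V₁ := (Unit ⊕ (Fin (d - h * s) ⊕ Fin (d - h * s)) → F)) S v) := by
  classical
  haveI : Nontrivial (Fin h ⊕ Fin h → F) := by
    haveI : Nonempty (Fin h ⊕ Fin h) := ⟨Sum.inl ⟨0, by omega⟩⟩
    infer_instance
  have hd1 : 1 ≤ d := by
    have : 1 ≤ h * s := Nat.mul_pos (by omega) (by omega)
    omega
  have hsymm := prodB_symm (piB_symm (s := s) hB₀s) (oB_isSymm (F := F) (d - h * s))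
  have hND : ND (prodB (piB (ι := Fin s) B₀) (oB (d - h * s) F)) ⊤ :=
    nd_top_of_nondeg (prodB_nondeg (piB_nondeg (ι := Fin s) hB₀nd) (oB_nondeg' h2 (d - h * s)))
  have hInv := modelMap_inv (oB (d - h * s) F) hSiso
  have hφr := modelMap_pow_eq_one (V₁ := (Unit ⊕ (Fin (d - h * s) ⊕ Fin (d - h * s)) → F)) hSr
  have hdimE : finrank F ((Fin s → (Fin h ⊕ Fin h → F)) × (Unit ⊕ (Fin (d - h * s) ⊕ Fin (d - h * s)) → F)) =
      2 * d + 1 := by
    rw [Module.finrank_prod, Module.finrank_pi_fintype, finrank_std_odd]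
    simp only [Module.finrank_fintype_fun_eq_card, Fintype.card_sum, Fintype.card_fin, Finset.sum_const,
      Finset.card_univ, smul_eq_mul]
    have : s * (h + h) = 2 * (h * s) := by ring
    omega
  obtain ⟨x, e, c, hxΩ, hxr, hc, he1, he2⟩ := exists_orth_model h2 hsymm hND hInv hr hφr hd1 hdimE
  refine ⟨x, e, c, hxΩ, hxr, ?_, hc, he1, he2⟩
  intro hx1
  apply modelMap_ne_one (V₁ := (Unit ⊕ (Fin (d - h * s) ⊕ Fin (d - h * s)) → F)) hs1 hSfix
  apply LinearMap.ext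
  intro v
  apply e.injective
  rw [← he2, hx1, Units.val_one, Matrix.toLin'_one, LinearMap.id_apply, Module.End.one_apply]

end elt

end Cfsg.Agent.Helper7.OrTS
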