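import Mathlib
import Cfsg.Agent.Helper7.OrTSJ

set_option autoImplicit false
set_option linter.unusedSectionVars false
set_option linter.unusedVariables false

/-!
# Derangements of odd prime order in `Ω_{2d+1}(q)` on totally singular subspaces
-/

namespace Cfsg.Agent.Helper7.OrTS

open Matrix Module Polynomial Cfsg.Agent.Helper8.SpS Cfsg.Agent.Helper8.SpStab Cfsg.Agent.Helper7.POrd
  Cfsg.Agent.Helper7.SpOrd Cfsg.Agent.Helper7.SpTI Cfsg.Agent.Helper7.SpCP Cfsg.Agent.Helper8.StdForms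

variable {F : Type*} [Field F] [Fintype F] {p : ℕ} [Fact p.Prime] [CharP F p] {r : ℕ} [Fact r.Prime]

/-- **many blocks**: an element of `Ω_{2d+1}(q)` of order `r` whose fixed space has dimension `2d + 1 - c K`. -/
theorem exists_elt_blocks_s (h2F : (2 : F) ≠ 0) (hr2 : r ≠ 2) (hrp : r ≠ p) (d K : ℕ) (hK1 : 1 ≤ K)
    (hK : cOf (orderOf ((Fintype.card F : ℕ) : ZMod r)) * K ≤ 2 * d) :
    ∃ x : GL (Unit ⊕ (Fin d ⊕ Fin d)) F, x ∈ Cfsg.Geo.omegaGL (Cfsg.quadFormOdd d F) ∧ x ^ r = 1 ∧ x ≠ 1 ∧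
      ∀ W : Submodule F (Unit ⊕ (Fin d ⊕ Fin d) → F), (∀ w ∈ W, Cfsg.quadFormOdd d F w = 0) →
        W.map (Matrix.toLin' (x : Matrix (Unit ⊕ (Fin d ⊕ Fin d)) (Unit ⊕ (Fin d ⊕ Fin d)) F)) ≤ W →
        2 * (finrank F ↥W % orderOf ((Fintype.card F : ℕ) : ZMod r)) +
          cOf (orderOf ((Fintype.card F : ℕ) : ZMod r)) * K < 2 * d + 1 := by
  classical
  have hr : r.Prime := Fact.out
  have hrodd : Odd r := hr.odd_of_ne_two hr2
  have hcpos := cOf_pos (orderOf_q_pos (F := F) hrp)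
  obtain ⟨h, hh⟩ := cOf_even (orderOf ((Fintype.card F : ℕ) : ZMod r))
  have hh' : cOf (orderOf ((Fintype.card F : ℕ) : ZMod r)) = 2 * h := by omega
  have hh1 : 1 ≤ h := by omega
  obtain ⟨B₀, T₀, hB₀s, hB₀nd, hT₀iso, hT₀r, hT₀fix⟩ := exists_orth_block hr2 hrp hh'
  have hhs : h * K ≤ d := by
    rw [hh'] at hK
    have : 2 * h * K = 2 * (h * K) := by ring
    omega
  obtain ⟨S, hS⟩ : ∃ S : Fin K → Module.End F (Fin h ⊕ Fin h → F), S = fun _ => T₀ := ⟨_, rfl⟩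
  have hSiso : ∀ l, Inv B₀ (S l) := fun l => by rw [hS]; exact hT₀iso
  have hSr : ∀ l, S l ^ r = 1 := fun l => by rw [hS]; exact hT₀r
  have hSfix : ∀ l, fixS (S l) = ⊥ := fun l => by rw [hS]; exact hT₀fix
  obtain ⟨x, e, c, hxΩ, hxr, hx1, hc, he1, he2⟩ :=
    exists_model_elt h2F hrodd hh1 hK1 hhs hB₀s hB₀nd S hSiso hSr hSfix
  refine ⟨x, hxΩ, hxr, hx1, ?_⟩
  intro W hWts hWinv
  obtain ⟨W', hW'inv, hW'ti, hW'd⟩ := pullback_ts h2F e hc he1 he2 rfl hWts hWinv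
  have hsymm := prodB_symm (piB_symm (s := K) hB₀s) (oB_isSymm (F := F) (d - h * K))
  have hND : ND (prodB (piB (ι := Fin K) B₀) (oB (d - h * K) F)) ⊤ :=
    nd_top_of_nondeg (prodB_nondeg (piB_nondeg (ι := Fin K) hB₀nd) (oB_nondeg' h2F (d - h * K)))
  have hInv := modelMap_inv (oB (d - h * K) F) hSiso
  have hφr := modelMap_pow_eq_one (V₁ := (Unit ⊕ (Fin (d - h * K) ⊕ Fin (d - h * K)) → F)) hSr
  have hdimE : finrank F ((Fin K → (Fin h ⊕ Fin h → F)) × (Unit ⊕ (Fin (d - h * K) ⊕ Fin (d - h * K)) → F)) =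
      2 * d + 1 := by
    rw [Module.finrank_prod, Module.finrank_pi_fintype, finrank_std_odd]
    simp only [Module.finrank_fintype_fun_eq_card, Fintype.card_sum, Fintype.card_fin, Finset.sum_const,
      Finset.card_univ, smul_eq_mul]
    have : K * (h + h) = 2 * (h * K) := by ring
    omega
  have : Finite ((Fin K → (Fin h ⊕ Fin h → F)) × (Unit ⊕ (Fin (d - h * K) ⊕ Fin (d - h * K)) → F)) :=
    Finite.of_fintype _
  have h1 := mod_lt_of_ti_s h2F hr2 hrp hsymm hND hInv hφr (by rw [hdimE]; exact odd_two_mul_add_one d)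
    hW'inv hW'ti
  have h2 := finrank_fix_model_le (V₁ := (Unit ⊕ (Fin (d - h * K) ⊕ Fin (d - h * K)) → F)) hSfix
  rw [finrank_std_odd] at h2
  rw [hW'd] at h1
  rw [hh']
  have : 2 * h * K = 2 * (h * K) := by ring
  omega

/-- **the derangement**: `s ≤ t` blocks of pairwise different types; an invariant totally singular subspace has
dimension at most `(2d - i s) / 2`. -/
theorem exists_derangement_types_s (h2F : (2 : F) ≠ 0) (hr2 : r ≠ 2) (hrp : r ≠ p)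
    (hev : Even (orderOf ((Fintype.card F : ℕ) : ZMod r))) {d s : ℕ} (hs1 : 1 ≤ s)
    (hst : s * orderOf ((Fintype.card F : ℕ) : ZMod r) ≤ r - 1)
    (hsd : orderOf ((Fintype.card F : ℕ) : ZMod r) * s ≤ 2 * d) :
    ∃ x : GL (Unit ⊕ (Fin d ⊕ Fin d)) F, x ∈ Cfsg.Geo.omegaGL (Cfsg.quadFormOdd d F) ∧ x ^ r = 1 ∧ x ≠ 1 ∧
      ∀ W : Submodule F (Unit ⊕ (Fin d ⊕ Fin d) → F), (∀ w ∈ W, Cfsg.quadFormOdd d F w = 0) →
        W.map (Matrix.toLin' (x : Matrix (Unit ⊕ (Fin d ⊕ Fin d)) (Unit ⊕ (Fin d ⊕ Fin d)) F)) ≤ W →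
        2 * finrank F ↥W + orderOf ((Fintype.card F : ℕ) : ZMod r) * s ≤ 2 * d := by
  classical
  have hr : r.Prime := Fact.out
  have hrodd : Odd r := hr.odd_of_ne_two hr2
  have hrF : (r : F) ≠ 0 := natCast_ne_zero_of_ne hrp
  obtain ⟨i, hi⟩ : ∃ i, i = orderOf ((Fintype.card F : ℕ) : ZMod r) := ⟨_, rfl⟩
  rw [← hi] at hev hst hsd ⊢
  have hipos : 0 < i := by rw [hi]; exact orderOf_q_pos hrp
  obtain ⟨h, hh⟩ := hev
  have hcOf : cOf (orderOf ((Fintype.card F : ℕ) : ZMod r)) = 2 * h := by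
    rw [← hi]
    unfold cOf
    rw [if_pos ⟨h, hh⟩]
    omega
  obtain ⟨B₀, T₀, hB₀s, hB₀nd, hiso₀, hT₀r, hx₀fix⟩ := exists_orth_block hr2 hrp hcOf
  have hdim₀ : finrank F (Fin h ⊕ Fin h → F) = orderOf ((Fintype.card F : ℕ) : ZMod r) := by
    rw [Module.finrank_fintype_fun_eq_card, Fintype.card_sum, Fintype.card_fin, ← hi]
    omega
  have hh1 : 1 ≤ h := by omega
  haveI : Nontrivial (Fin h ⊕ Fin h → F) := by
    haveI : Nonempty (Fin h ⊕ Fin h) := ⟨Sum.inl ⟨0, by omega⟩⟩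
    infer_instance
  have hirr₀ : ∀ U : Submodule F (Fin h ⊕ Fin h → F), U ∈ Module.End.invtSubmodule T₀ → U = ⊥ ∨ U = ⊤ := by
    intro U hU
    exact irred_of_finrank hT₀r (M := ⊤) (by rw [top_inf_eq, hx₀fix]) (by rw [finrank_top, hdim₀]) hU le_top
  have hT₀ne : T₀ ≠ 1 := by
    intro h1
    have : fixS T₀ = ⊤ := by
      rw [eq_top_iff]
      intro w _
      rw [POrd.mem_fixS, h1, Module.End.one_apply]
    rw [hx₀fix] at this
    exact bot_ne_top this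
  -- the factors
  obtain ⟨t, ht⟩ : ∃ t, t * i = r - 1 := by
    obtain ⟨t, ht⟩ := orderOf_q_dvd (F := F) hrp
    exact ⟨t, by rw [hi, ht, mul_comm]⟩
  have hst' : s ≤ t := by
    rw [← ht] at hst
    exact Nat.le_of_mul_le_mul_right hst hipos
  obtain ⟨Q', hinj, hQ', -⟩ := Cfsg.Agent.Helper8.SemiS.exists_cyclotomic_factors (F := F) p r hr hrp i t hi ht
  have hex : ∀ l : Fin s, ∃ e, 1 ≤ e ∧ e < r ∧ aeval (T₀ ^ e) (Q' (Fin.castLE hst' l)) = 0 := fun l =>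
    exists_pow_type hrp hT₀r hx₀fix hdim₀ (hQ' _).2.1 (hQ' _).2.2.2
  choose ex hex1 hexr hexQ using hex
  obtain ⟨S, hS⟩ : ∃ S : Fin s → Module.End F (Fin h ⊕ Fin h → F), S = fun l => T₀ ^ (ex l) := ⟨_, rfl⟩
  have hSl : ∀ l, S l = T₀ ^ (ex l) := fun l => by rw [hS]
  have hSr : ∀ l, (S l) ^ r = 1 := by
    intro l
    rw [hSl, ← pow_mul, mul_comm, pow_mul, hT₀r, one_pow]
  have hSiso : ∀ l, Inv B₀ (S l) := by
    intro l u v
    rw [hSl]
    exact iso_pow hiso₀ _ u v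
  have hSQ : ∀ l, aeval (S l) (Q' (Fin.castLE hst' l)) = 0 := fun l => by rw [hSl]; exact hexQ l
  have hback : ∀ l, ∃ e', (S l) ^ e' = T₀ := by
    intro l
    have hcop : Nat.Coprime (ex l) r := by
      rw [Nat.coprime_comm]
      exact (Nat.Prime.coprime_iff_not_dvd hr).mpr (fun hd => by
        have := Nat.le_of_dvd (by have := hex1 l; omega) hd
        have := hexr l
        omega)
    obtain ⟨e', -, he'⟩ := Nat.exists_mul_mod_eq_one_of_coprime hcop hr.one_lt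
    refine ⟨e', ?_⟩
    rw [hSl, ← pow_mul, pow_eq_pow_mod _ hT₀r, he', pow_one]
  have hSirr : ∀ l, ∀ U : Submodule F (Fin h ⊕ Fin h → F), U ∈ Module.End.invtSubmodule (S l) →
      U = ⊥ ∨ U = ⊤ := by
    intro l U hU
    apply hirr₀
    obtain ⟨e', he'⟩ := hback l
    rw [← he', Module.End.mem_invtSubmodule]
    intro y hy
    exact invt_pow_apply hU hy e'
  have hSne : ∀ l, S l ≠ 1 := by
    intro l h1
    obtain ⟨e', he'⟩ := hback l
    rw [h1, one_pow] at he'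
    exact hT₀ne he'.symm
  have hcop : ∀ l l' : Fin s, l ≠ l' → IsCoprime (Q' (Fin.castLE hst' l)) (Q' (Fin.castLE hst' l')) := by
    intro l l' hll
    rw [(hQ' _).2.1.coprime_iff_not_dvd]
    intro hdvd
    apply hll
    have hassoc := (hQ' (Fin.castLE hst' l)).2.1.associated_of_dvd (hQ' (Fin.castLE hst' l')).2.1 hdvd
    have := hinj (eq_of_monic_of_associated (hQ' _).1 (hQ' _).1 hassoc)
    exact Fin.castLE_injective hst' this
  have hfixS : ∀ l, fixS (S l) = ⊥ := by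
    intro l
    rcases hSirr l _ (fixS_invt (S l)) with h1 | h1
    · exact h1
    · exfalso
      apply hSne l
      apply LinearMap.ext
      intro w
      have : w ∈ fixS (S l) := by rw [h1]; exact Submodule.mem_top
      rw [Module.End.one_apply]
      exact POrd.mem_fixS.mp this
  -- the model
  have hhs : h * s ≤ d := by
    rw [hh] at hsd
    have : (h + h) * s = 2 * (h * s) := by ring
    omega
  obtain ⟨x, e, c, hxΩ, hxr, hx1, hc, he1, he2⟩ :=
    exists_model_elt h2F hrodd hh1 hs1 hhs hB₀s hB₀nd S hSiso hSr hfixS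
  refine ⟨x, hxΩ, hxr, hx1, ?_⟩
  intro W hWts hWinv
  obtain ⟨W', hW'inv, hW'ti, hW'd⟩ := pullback_ts h2F e hc he1 he2 rfl hWts hWinv
  have hsymm := prodB_symm (piB_symm (s := s) hB₀s) (oB_isSymm (F := F) (d - h * s))
  have hND : ND (prodB (piB (ι := Fin s) B₀) (oB (d - h * s) F)) ⊤ :=
    nd_top_of_nondeg (prodB_nondeg (piB_nondeg (ι := Fin s) hB₀nd) (oB_nondeg' h2F (d - h * s)))
  have hInv := modelMap_inv (oB (d - h * s) F) hSiso
  have hφr := modelMap_pow_eq_one (V₁ := (Unit ⊕ (Fin (d - h * s) ⊕ Fin (d - h * s)) → F)) hSr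
  have hdimE : finrank F ((Fin s → (Fin h ⊕ Fin h → F)) × (Unit ⊕ (Fin (d - h * s) ⊕ Fin (d - h * s)) → F)) =
      2 * d + 1 := by
    rw [Module.finrank_prod, Module.finrank_pi_fintype, finrank_std_odd]
    simp only [Module.finrank_fintype_fun_eq_card, Fintype.card_sum, Fintype.card_fin, Finset.sum_const,
      Finset.card_univ, smul_eq_mul]
    have : s * (h + h) = 2 * (h * s) := by ring
    omega
  have : Finite ((Fin s → (Fin h ⊕ Fin h → F)) × (Unit ⊕ (Fin (d - h * s) ⊕ Fin (d - h * s)) → F)) :=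
    Finite.of_fintype _
  have hmov : W' ⊓ movS r (modelMap (V₁ := (Unit ⊕ (Fin (d - h * s) ⊕ Fin (d - h * s)) → F)) S) = ⊥ :=
    ti_inf_mov_eq_bot hrF hB₀nd (oB (d - h * s) F) S hSirr
      (fun l => Q' (Fin.castLE hst' l)) hSQ hcop hW'inv hW'ti
  have h1 := lt_of_ti_of_mov_eq_bot_s h2F hr2 hrp hsymm hND hInv hφr
    (by rw [hdimE]; exact odd_two_mul_add_one d) hW'inv hW'ti hmov
  have h2 := finrank_fix_model_le (V₁ := (Unit ⊕ (Fin (d - h * s) ⊕ Fin (d - h * s)) → F)) hfixS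
  rw [finrank_std_odd] at h2
  rw [hW'd] at h1
  have h3 : i * s = 2 * (h * s) := by rw [hh]; ring
  omega

end Cfsg.Agent.Helper7.OrTS
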