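import Mathlib
import Cfsg.Agent.Helper7.OrTSK

set_option autoImplicit false
set_option linter.unusedSectionVars false
set_option linter.unusedVariables false

/-!
# `Ω_{2d+1}(q)` on totally singular subspaces, odd prime order: the necessary conditions
-/

namespace Cfsg.Agent.Helper7.OrTS

open Matrix Module Polynomial Cfsg.Agent.Helper7.POrd Cfsg.Agent.Helper7.SpOrd Cfsg.Agent.Helper7.SpTI
  Cfsg.Agent.Helper8.StdForms

variable {F : Type*} [Field F] [Fintype F] {p : ℕ} [Fact p.Prime] [CharP F p] {r : ℕ} [Fact r.Prime]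

/-- **`r` odd, necessity.** -/
theorem cond_of_forall_odd_s (h2F : (2 : F) ≠ 0) (hr2 : r ≠ 2) (hrp : r ≠ p) {d m : ℕ} (hd : 1 ≤ d)
    (hm1 : 1 ≤ m) (hm : m ≤ d) (hdvd : r ∣ Nat.card (TISub (oB d F) m))
    (hall : ∀ x : GL (Unit ⊕ (Fin d ⊕ Fin d)) F, x ∈ Cfsg.Geo.omegaGL (Cfsg.quadFormOdd d F) →
      orderOf x = r →
      ∃ W : Submodule F (Unit ⊕ (Fin d ⊕ Fin d) → F), finrank F ↥W = m ∧
        (∀ w ∈ W, Cfsg.quadFormOdd d F w = 0) ∧
        W.map (Matrix.toLin' (x : Matrix (Unit ⊕ (Fin d ⊕ Fin d)) (Unit ⊕ (Fin d ⊕ Fin d)) F)) ≤ W) :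
    orderOf ((Fintype.card F : ℕ) : ZMod r) ≤ m ∧
    2 * (m % orderOf ((Fintype.card F : ℕ) : ZMod r)) <
      (2 * d + 1) % cOf (orderOf ((Fintype.card F : ℕ) : ZMod r)) ∧
    (Odd (orderOf ((Fintype.card F : ℕ) : ZMod r)) ∨
      (r - 1) / orderOf ((Fintype.card F : ℕ) : ZMod r) + 2 * (m / orderOf ((Fintype.card F : ℕ) : ZMod r)) ≤
        (2 * d + 1) / orderOf ((Fintype.card F : ℕ) : ZMod r)) := by
  have hr : r.Prime := Fact.out
  have hipos : 0 < orderOf ((Fintype.card F : ℕ) : ZMod r) := orderOf_q_pos hrp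
  have hidvd : orderOf ((Fintype.card F : ℕ) : ZMod r) ∣ r - 1 := orderOf_q_dvd hrp
  obtain ⟨j, hjm, hj⟩ := exists_dvd_of_dvd_card_tiSub_s (oB_isSymm (F := F) d) h2F (oB_ND h2F d)
    (finrank_std_odd d) m hm hr hdvd
  have hij : orderOf ((Fintype.card F : ℕ) : ZMod r) ∣ 2 * (d - j) := by
    have := orderOf_dvd_of_dvd_pow_sub_one hj
    rwa [show 2 * d - 2 * j = 2 * (d - j) by omega] at this
  have hcj : cOf (orderOf ((Fintype.card F : ℕ) : ZMod r)) ∣ 2 * (d - j) := cOf_dvd_of_dvd hij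
  have hcpos : 0 < cOf (orderOf ((Fintype.card F : ℕ) : ZMod r)) := cOf_pos hipos
  have hceven : Even (cOf (orderOf ((Fintype.card F : ℕ) : ZMod r))) := cOf_even _
  obtain ⟨i, hi⟩ : ∃ i, i = orderOf ((Fintype.card F : ℕ) : ZMod r) := ⟨_, rfl⟩
  obtain ⟨c, hc⟩ : ∃ c, c = cOf (orderOf ((Fintype.card F : ℕ) : ZMod r)) := ⟨_, rfl⟩
  rw [← hc] at hcj hcpos hceven
  have hcle : c ≤ 2 * d := by
    have := Nat.le_of_dvd (by omega) hcj
    omega
  have hmodle : (2 * d + 1) % c ≤ 2 * j + 1 := by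
    obtain ⟨k, hk⟩ := hcj
    rw [show 2 * d + 1 = c * k + (2 * j + 1) by omega, Nat.mul_add_mod]
    exact Nat.mod_le _ _
  -- D1
  have hD1 : 2 * (m % i) < (2 * d + 1) % c := by
    obtain ⟨K, hK⟩ : ∃ K, K = (2 * d + 1) / c := ⟨_, rfl⟩
    have hK1 : 1 ≤ K := by rw [hK]; exact Nat.div_pos (by omega) hcpos
    have hKle : c * K ≤ 2 * d := by
      have h1 : c * K ≤ 2 * d + 1 := by rw [hK]; exact Nat.mul_div_le _ _
      have h2 : Even (c * K) := hceven.mul_right K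
      obtain ⟨a, ha⟩ := h2
      omega
    obtain ⟨x, hxΩ, hxr, hx1, hb⟩ := exists_elt_blocks_s (F := F) h2F hr2 hrp d K hK1 (by rw [← hc]; exact hKle)
    obtain ⟨W, hWd, hWts, hWinv⟩ := hall x hxΩ (orderOf_eq_prime hxr hx1)
    have := hb W hWts hWinv
    rw [hWd, ← hc, ← hi] at this
    have hdm := Nat.div_add_mod (2 * d + 1) c
    rw [← hK] at hdm
    omega
  have him : i ≤ m := by
    by_contra hcon
    rw [Nat.mod_eq_of_lt (by omega)] at hD1
    omega
  rw [← hc, ← hi]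
  refine ⟨him, hD1, ?_⟩
  by_cases hodd : Odd i
  · exact Or.inl hodd
  right
  have hev : Even i := Nat.not_odd_iff_even.mp hodd
  have hci : c = i := by
    rw [hc, ← hi]
    unfold cOf
    rw [if_pos hev]
  by_contra hcon
  push Not at hcon
  rw [← hi] at hidvd hipos
  have ht1 : 1 ≤ (r - 1) / i := by
    have := Nat.le_of_dvd (by have := hr.two_le; omega) hidvd
    exact Nat.div_pos this hipos
  have hn1 : 1 ≤ (2 * d + 1) / i := Nat.div_pos (by omega) hipos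
  obtain ⟨s, hs⟩ : ∃ s, s = min ((r - 1) / i) ((2 * d + 1) / i) := ⟨_, rfl⟩
  have hs1 : 1 ≤ s := by rw [hs]; exact le_min ht1 hn1
  have hst : s * i ≤ r - 1 := by
    calc s * i ≤ ((r - 1) / i) * i := Nat.mul_le_mul_right _ (by rw [hs]; exact min_le_left _ _)
      _ ≤ r - 1 := Nat.div_mul_le_self _ _
  have hsd : i * s ≤ 2 * d := by
    have h1 : i * s ≤ 2 * d + 1 := by
      calc i * s ≤ i * ((2 * d + 1) / i) := Nat.mul_le_mul_left _ (by rw [hs]; exact min_le_right _ _)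
        _ ≤ 2 * d + 1 := Nat.mul_div_le _ _
    obtain ⟨a, ha⟩ := hev.mul_right s
    omega
  rw [hi] at hev hst hsd
  obtain ⟨x, hxΩ, hxr, hx1, hbound⟩ := exists_derangement_types_s (F := F) h2F hr2 hrp hev hs1 hst hsd
  obtain ⟨W, hWd, hWts, hWinv⟩ := hall x hxΩ (orderOf_eq_prime hxr hx1)
  have hb := hbound W hWts hWinv
  rw [hWd, ← hi] at hb
  have hmdec := Nat.div_add_mod m i
  have hddec := Nat.div_add_mod (2 * d + 1) i
  have hmodlt := Nat.mod_lt (2 * d + 1) hipos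
  rcases le_total ((r - 1) / i) ((2 * d + 1) / i) with hle | hle
  · rw [min_eq_left hle] at hs
    rw [hs] at hb
    have h3 : i * (2 * (m / i) + (r - 1) / i) < i * ((2 * d + 1) / i + 1) := by
      have e1 : i * (2 * (m / i) + (r - 1) / i) = 2 * (i * (m / i)) + i * ((r - 1) / i) := by ring
      have e2 : i * ((2 * d + 1) / i + 1) = i * ((2 * d + 1) / i) + i := by ring
      rw [e1, e2]
      omega
    have := Nat.lt_of_mul_lt_mul_left h3
    omega
  · rw [min_eq_right hle] at hs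
    rw [hs] at hb
    rw [hci] at hmodle
    omega

end Cfsg.Agent.Helper7.OrTS
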