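import Mathlib
import Cfsg.Agent.Helper7.OrTSL

set_option autoImplicit false
set_option linter.unusedSectionVars false
set_option linter.unusedVariables false

/-!
# Involutions of a symmetric space of odd dimension: invariant totally isotropic subspaces
-/

namespace Cfsg.Agent.Helper7.OrTS

open Module Polynomial Cfsg.Agent.Helper7.POrd Cfsg.Agent.Helper7.SpOrd Cfsg.Agent.Helper7.SpTI

variable {F : Type*} [Field F] {V : Type*} [AddCommGroup V] [Module F V]

theorem two_cast_ne_zero (h2F : (2 : F) ≠ 0) : ((2 : ℕ) : F) ≠ 0 := by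
  rw [Nat.cast_ofNat]
  exact h2F

/-- on the moved space of an involution the map is `-1`. -/
theorem apply_of_mem_movS_two {T : Module.End F V} {w : V} (hw : w ∈ movS 2 T) : T w = -w := by
  have h := mem_movS.mp hw
  unfold Phi at h
  rw [Finset.sum_range_succ, Finset.sum_range_one, pow_zero, pow_one, LinearMap.add_apply,
    Module.End.one_apply] at h
  exact eq_neg_of_add_eq_zero_right h

theorem mem_movS_two_iff {T : Module.End F V} {w : V} : w ∈ movS 2 T ↔ T w = -w := by
  constructor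
  · exact apply_of_mem_movS_two
  · intro h
    rw [mem_movS]
    unfold Phi
    rw [Finset.sum_range_succ, Finset.sum_range_one, pow_zero, pow_one, LinearMap.add_apply,
      Module.End.one_apply, h, add_neg_cancel]

theorem invt_of_le_movS_two {T : Module.End F V} {A : Submodule F V} (hA : A ≤ movS 2 T) :
    A ∈ Module.End.invtSubmodule T := by
  rw [Module.End.mem_invtSubmodule]
  intro w hw
  rw [Submodule.mem_comap, apply_of_mem_movS_two (hA hw)]
  exact Submodule.neg_mem _ hw

/-- the sum of a totally isotropic subspace of the fixed space and one of the moved space. -/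
theorem invol_sup [FiniteDimensional F V] (h2F : (2 : F) ≠ 0) {B : LinearMap.BilinForm F V} (hrefl : B.IsRefl)
    {T : Module.End F V} (hiso : ∀ u v, B (T u) (T v) = B u v) {L₁ L₂ : Submodule F V}
    (h₁ : L₁ ≤ fixS T) (h₂ : L₂ ≤ movS 2 T) (ht₁ : TI B L₁) (ht₂ : TI B L₂) :
    L₁ ⊔ L₂ ∈ Module.End.invtSubmodule T ∧ TI B (L₁ ⊔ L₂) ∧
      finrank F ↥(L₁ ⊔ L₂) = finrank F ↥L₁ + finrank F ↥L₂ := by
  have hrF := two_cast_ne_zero h2F
  have hperp : L₂ ≤ B.orthogonal L₁ := by
    intro v hv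
    rw [mem_perp]
    intro w hw
    exact fix_perp_mov hiso hrF (h₁ hw) (h₂ hv)
  refine ⟨sup_invt (invt_of_le_fixS h₁) (invt_of_le_movS_two h₂), ti_sup hrefl ht₁ ht₂ hperp, ?_⟩
  have hdisj : L₁ ⊓ L₂ = ⊥ := by
    rw [eq_bot_iff, ← (disjoint_fix_mov hrF T).eq_bot]
    exact inf_le_inf h₁ h₂
  have h4 := Submodule.finrank_sup_add_finrank_inf_eq L₁ L₂
  rw [hdisj, finrank_bot, add_zero] at h4
  exact h4

/-- totally isotropic subspaces below half the dimension, allowing dimension zero. -/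
theorem exists_ti_of_lt' [Finite F] [FiniteDimensional F V] {B : LinearMap.BilinForm F V} (hrefl : B.IsRefl)
    (hV : ND B ⊤) (e' : ℕ) (W : Submodule F V) (hW : ND B W) (h : e' = 0 ∨ 2 * e' < finrank F ↥W) :
    ∃ L : Submodule F V, L ≤ W ∧ TI B L ∧ finrank F ↥L = e' := by
  rcases h with h | h
  · exact ⟨⊥, bot_le, ti_bot B, by rw [h, finrank_bot]⟩
  · exact exists_ti_of_lt hrefl hV e' W hW h

/-- **involutions, below the maximal dimension**: every isometric involution of a nondegenerate symmetric space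
of dimension `2d + 1` fixes a totally isotropic subspace of each dimension `m < d`. -/
theorem exists_ti_invol_lt [Finite F] [FiniteDimensional F V] (h2F : (2 : F) ≠ 0)
    {B : LinearMap.BilinForm F V} (hB : B.IsSymm) (hV : ND B ⊤) {T : Module.End F V}
    (hiso : ∀ u v, B (T u) (T v) = B u v) (hT : T ^ 2 = 1) {d m : ℕ} (hn : finrank F V = 2 * d + 1)
    (hm : m < d) :
    ∃ W : Submodule F V, W ∈ Module.End.invtSubmodule T ∧ TI B W ∧ finrank F ↥W = m := by
  have hrF := two_cast_ne_zero h2F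
  have hrefl := hB.isRefl
  have hmovnd : ND B (movS 2 T) := by
    have := nd_inf_mov hrefl hiso hrF hT (Module.End.invtSubmodule.top_mem T) hV
    rwa [top_inf_eq] at this
  have hfixnd : ND B (fixS T) := by
    have := nd_inf_fix hrefl hiso hrF hT (Module.End.invtSubmodule.top_mem T) hV
    rwa [top_inf_eq] at this
  have hsum := finrank_fix_add_mov hrF hT
  rw [hn] at hsum
  obtain ⟨a, ha⟩ : ∃ a, a = min m ((finrank F ↥(fixS T) - 1) / 2) := ⟨_, rfl⟩
  obtain ⟨L₁, hL₁, hL₁ti, hL₁d⟩ := exists_ti_of_lt' hrefl hV a (fixS T) hfixnd (by omega)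
  obtain ⟨L₂, hL₂, hL₂ti, hL₂d⟩ := exists_ti_of_lt' hrefl hV (m - a) (movS 2 T) hmovnd (by omega)
  obtain ⟨h1, h2, h3⟩ := invol_sup h2F hrefl hiso hL₁ hL₂ hL₁ti hL₂ti
  refine ⟨L₁ ⊔ L₂, h1, h2, ?_⟩
  rw [h3, hL₁d, hL₂d]
  omega

end Cfsg.Agent.Helper7.OrTS
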