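import Mathlib
import Cfsg.Agent.Helper7.OrTSM

set_option autoImplicit false
set_option linter.unusedSectionVars false
set_option linter.unusedVariables false

/-!
# Orthogonal bases of nondegenerate subspaces and maximal totally singular subspaces when `-1` is a square
-/

namespace Cfsg.Agent.Helper7.OrTS

open Module Polynomial Cfsg.Agent.Helper7.POrd Cfsg.Agent.Helper7.SpOrd Cfsg.Agent.Helper7.SpTI
  Cfsg.Agent.Helper8.QuadForm

universe u

variable {F : Type*} [Field F] {V : Type u} [AddCommGroup V] [Module F V]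

/-- an orthogonal basis of a nondegenerate subspace, normalised outside the first vector. -/
theorem exists_orth_basis_sub [Finite F] [FiniteDimensional F V] (h2 : (2 : F) ≠ 0) (Q : QuadraticForm F V)
    {N : Submodule F V} (hN : NondegOn Q N) {n : ℕ} (hk : finrank F ↥N = n + 1) :
    ∃ b : Fin (n + 1) → V, (∀ i, b i ∈ N) ∧ (∀ i j, i ≠ j → QuadraticMap.polar Q (b i) (b j) = 0) ∧
      Q (b 0) ≠ 0 ∧ (∀ i, i ≠ 0 → Q (b i) = 1) ∧ Submodule.span F (Set.range b) = N := by
  obtain ⟨b', h1, h3, h4⟩ := exists_orthogonal_family h2 n (Q.comp N.subtype)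
    ((nondeg_comp_subtype_iff Q N).mpr hN) hk
  have h5 : ∀ i, (Q.comp N.subtype) (b' i) ≠ 0 := by
    intro i
    by_cases hi : i = 0
    · rw [hi]; exact h3
    · rw [h4 i hi]; exact one_ne_zero
  obtain ⟨bb, hbb⟩ := exists_basis_of_orthogonal h2 (Q.comp N.subtype) hk h1 h5
  refine ⟨fun i => (b' i : V), fun i => (b' i).2, fun i j hij => h1 i j hij, h3, h4, ?_⟩
  have hrange : Set.range (fun i => (b' i : V)) = N.subtype '' Set.range b' := by
    rw [← Set.range_comp]
    rfl
  rw [hrange, Submodule.span_image, ← hbb, bb.span_eq, Submodule.map_subtype_top]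

/-- **half-dimensional totally singular subspaces** from an orthogonal family of square discriminant when `-1` is
a square. -/
theorem exists_ti_half [FiniteDimensional F V] (h2 : (2 : F) ≠ 0) (Q : QuadraticForm F V) {ι' : F}
    (hι : ι' * ι' = -1) {n j : ℕ} (hnj : n + 1 = 2 * j) {b : Fin (n + 1) → V}
    (horth : ∀ i i', i ≠ i' → QuadraticMap.polar Q (b i) (b i') = 0) (hb0 : IsSquare (Q (b 0)))
    (hb0' : Q (b 0) ≠ 0) (hb1 : ∀ i, i ≠ 0 → Q (b i) = 1) :
    ∃ L : Submodule F V, L ≤ Submodule.span F (Set.range b) ∧ TI (QuadraticMap.polarBilin Q) L ∧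
      finrank F ↥L = j := by
  classical
  obtain ⟨σ₀, hσ₀⟩ := hb0
  obtain ⟨ia, hia⟩ : ∃ ia : Fin j → Fin (n + 1), ∀ t, (ia t : ℕ) = 2 * (t : ℕ) :=
    ⟨fun t => ⟨2 * (t : ℕ), by have := t.2; omega⟩, fun t => rfl⟩
  obtain ⟨ic, hic⟩ : ∃ ic : Fin j → Fin (n + 1), ∀ t, (ic t : ℕ) = 2 * (t : ℕ) + 1 :=
    ⟨fun t => ⟨2 * (t : ℕ) + 1, by have := t.2; omega⟩, fun t => rfl⟩
  have hac : ∀ t t', ia t ≠ ic t' := by
    intro t t' h
    have := congrArg Fin.val h
    rw [hia, hic] at this
    omega
  have haa : ∀ t t', t ≠ t' → ia t ≠ ia t' := by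
    intro t t' htt h
    apply htt
    have := congrArg Fin.val h
    rw [hia, hia] at this
    exact Fin.ext (by omega)
  have hcc : ∀ t t', t ≠ t' → ic t ≠ ic t' := by
    intro t t' htt h
    apply htt
    have := congrArg Fin.val h
    rw [hic, hic] at this
    exact Fin.ext (by omega)
  have hc0 : ∀ t, ic t ≠ 0 := by
    intro t h
    have := congrArg Fin.val h
    rw [hic] at this
    simp at this
  obtain ⟨σ, hσ⟩ : ∃ σ : Fin j → F, ∀ t, σ t * σ t = Q (b (ia t)) := by
    refine ⟨fun t => if (t : ℕ) = 0 then σ₀ else 1, fun t => ?_⟩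
    by_cases ht : (t : ℕ) = 0
    · have : ia t = 0 := Fin.ext (by rw [hia, ht]; rfl)
      simp only [ht, if_true]
      rw [this, hσ₀]
    · have : ia t ≠ 0 := by
        intro h
        have := congrArg Fin.val h
        rw [hia] at this
        simp at this
        exact ht this
      simp only [ht, if_false]
      rw [hb1 _ this, one_mul]
  obtain ⟨u, hu⟩ : ∃ u : Fin j → V, ∀ t, u t = b (ia t) + (ι' * σ t) • b (ic t) := ⟨_, fun t => rfl⟩
  have hQu : ∀ t, Q (u t) = 0 := by
    intro t
    rw [hu, QuadraticMap.map_add (⇑Q), QuadraticMap.map_smul, QuadraticMap.polar_smul_right,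
      horth _ _ (hac t t), hb1 _ (hc0 t), ← hσ t]
    simp only [smul_eq_mul, mul_zero, add_zero, mul_one]
    have : ι' * σ t * (ι' * σ t) = (ι' * ι') * (σ t * σ t) := by ring
    rw [this, hι]
    ring
  have hpol : ∀ t t', t ≠ t' → QuadraticMap.polar Q (u t) (u t') = 0 := by
    intro t t' htt
    rw [hu, hu, QuadraticMap.polar_add_left, QuadraticMap.polar_add_right, QuadraticMap.polar_add_right,
      QuadraticMap.polar_smul_left, QuadraticMap.polar_smul_left, QuadraticMap.polar_smul_right,
      QuadraticMap.polar_smul_right, horth _ _ (haa t t' htt), horth _ _ (hac t t'),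
      horth _ _ (fun h => hac t' t h.symm), horth _ _ (hcc t t' htt)]
    simp
  have hli : LinearIndependent F u := by
    refine linearIndependent_of_dual Q u (fun t => b (ia t)) (fun t => 2 * Q (b (ia t))) ?_ ?_
    · intro t
      apply mul_ne_zero h2
      rw [← hσ t]
      by_cases ht : (t : ℕ) = 0
      · have : ia t = 0 := Fin.ext (by rw [hia, ht]; rfl)
        rw [hσ t, this]
        exact hb0'
      · have : ia t ≠ 0 := by
          intro h
          have := congrArg Fin.val h
          rw [hia] at this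
          simp at this
          exact ht this
        rw [hσ t, hb1 _ this]
        exact one_ne_zero
    · intro t t'
      rw [hu, QuadraticMap.polar_add_left, QuadraticMap.polar_smul_left,
        horth _ _ (fun h => hac t' t h.symm), smul_zero, add_zero]
      by_cases htt : t = t'
      · rw [if_pos htt, htt, polar_self']
      · rw [if_neg htt, horth _ _ (haa t t' htt)]
  refine ⟨Submodule.span F (Set.range u), ?_, ?_, ?_⟩
  · rw [Submodule.span_le]
    rintro _ ⟨t, rfl⟩
    rw [hu]
    exact Submodule.add_mem _ (Submodule.subset_span ⟨_, rfl⟩)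
      (Submodule.smul_mem _ _ (Submodule.subset_span ⟨_, rfl⟩))
  · apply ti_span
    rintro _ ⟨t, rfl⟩ _ ⟨t', rfl⟩
    rw [QuadraticMap.polarBilin_apply_apply]
    by_cases htt : t = t'
    · rw [htt, polar_self', hQu, mul_zero]
    · exact hpol t t' htt
  · rw [finrank_span_eq_card hli, Fintype.card_fin]

end Cfsg.Agent.Helper7.OrTS
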