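import Mathlib
import Cfsg.Agent.Helper7.OrTSN
import Cfsg.Agent.Helper8.OmegaDiag

set_option autoImplicit false
set_option linter.unusedSectionVars false
set_option linter.unusedVariables false

/-!
# Involutions of `Ω_{2d+1}(q)` fix totally singular subspaces
-/

namespace Cfsg.Agent.Helper7.OrTS

open Matrix Module Polynomial Cfsg.Agent.Helper7.POrd Cfsg.Agent.Helper7.SpOrd Cfsg.Agent.Helper7.SpTI
  Cfsg.Agent.Helper8.StdForms Cfsg.Agent.Helper8.QuadForm Cfsg.Agent.Helper8.OmegaDiag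

section disc

variable {F : Type*} [Field F] [Fintype F] {ι : Type} [Fintype ι] [DecidableEq ι]
  (Q : QuadraticForm F (ι → F))

/-- **the discriminant of the negative eigenspace** of an involution in the commutator subgroup. -/
theorem invol_disc (h2 : (2 : F) ≠ 0) (hQ : (QuadraticMap.polarBilin Q).Nondegenerate)
    (hn : 2 ≤ Fintype.card ι) {g : ↥(Cfsg.isometryGroup F ⇑Q)}
    (hg : g ∈ commutator ↥(Cfsg.isometryGroup F ⇑Q))
    (hT : (Matrix.toLin' ((g : GL ι F) : Matrix ι ι F) : Module.End F (ι → F)) ^ 2 = 1) {n : ℕ}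
    {b : Fin (n + 1) → ι → F}
    (hbN : ∀ i, b i ∈ movS 2 (Matrix.toLin' ((g : GL ι F) : Matrix ι ι F) : Module.End F (ι → F)))
    (horth : ∀ i j, i ≠ j → QuadraticMap.polar Q (b i) (b j) = 0) (hb0 : Q (b 0) ≠ 0)
    (hb1 : ∀ i, i ≠ 0 → Q (b i) = 1)
    (hspan : Submodule.span F (Set.range b) =
      movS 2 (Matrix.toLin' ((g : GL ι F) : Matrix ι ι F) : Module.End F (ι → F))) :
    Even (n + 1) ∧ IsSquare (Q (b 0)) := by
  classical
  have hrF := two_cast_ne_zero h2
  obtain ⟨T, hTdef⟩ : ∃ T : Module.End F (ι → F), T = Matrix.toLin' ((g : GL ι F) : Matrix ι ι F) :=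
    ⟨_, rfl⟩
  rw [← hTdef] at hT hbN hspan
  obtain ⟨B, hB⟩ : ∃ B : LinearMap.BilinForm F (ι → F), B = QuadraticMap.polarBilin Q := ⟨_, rfl⟩
  have hBapp : ∀ u v, B u v = QuadraticMap.polar Q u v := by
    intro u v
    rw [hB, QuadraticMap.polarBilin_apply_apply]
  have hsymm : B.IsSymm := by
    constructor
    intro u v
    rw [hBapp, hBapp]
    exact QuadraticMap.polar_comm _ u v
  have hrefl := hsymm.isRefl
  have hV : ND B ⊤ := by
    intro u _ hu
    by_contra hcon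
    push Not at hcon
    apply hu
    apply hQ.1 u
    intro v
    have := hcon v Submodule.mem_top
    rw [hB] at this
    exact this
  have hgQ : ∀ w, Q (((g : GL ι F) : Matrix ι ι F) *ᵥ w) = Q w := fun w => g.2 w w
  have hiso : ∀ u v, B (T u) (T v) = B u v := by
    intro u v
    rw [hBapp, hBapp, hTdef, Matrix.toLin'_apply, Matrix.toLin'_apply]
    unfold QuadraticMap.polar
    rw [← Matrix.mulVec_add, hgQ, hgQ, hgQ]
  have hmovnd : ND B (movS 2 T) := by
    have := nd_inf_mov hrefl hiso hrF hT (Module.End.invtSubmodule.top_mem T) hV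
    rwa [top_inf_eq] at this
  have hpw : (List.ofFn b).Pairwise (fun u w => QuadraticMap.polar Q u w = 0) := by
    rw [List.pairwise_ofFn]
    intro i j hij
    exact horth i j (ne_of_lt hij)
  have hbne : ∀ i, Q (b i) ≠ 0 := by
    intro i
    by_cases hi : i = 0
    · rw [hi]; exact hb0
    · rw [hb1 i hi]; exact one_ne_zero
  have hl : ∀ z ∈ List.ofFn b, Q z ≠ 0 := by
    intro z hz
    rw [List.mem_ofFn] at hz
    obtain ⟨i, rfl⟩ := hz
    exact hbne i
  have hD1 : ∀ v ∈ List.ofFn b, ((g : GL ι F) : Matrix ι ι F).mulVec v = -v := by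
    intro v hv
    rw [List.mem_ofFn] at hv
    obtain ⟨i, rfl⟩ := hv
    have := apply_of_mem_movS_two (hbN i)
    rw [hTdef, Matrix.toLin'_apply] at this
    exact this
  have hD2 : ∀ y, (∀ v ∈ List.ofFn b, QuadraticMap.polar Q v y = 0) →
      ((g : GL ι F) : Matrix ι ι F).mulVec y = y := by
    intro y hy
    have hyperp : y ∈ B.orthogonal (movS 2 T) := by
      rw [← hspan, mem_perp]
      intro w hw
      have h1 : Submodule.span F (Set.range b) ≤ LinearMap.ker (B.flip y) := by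
        rw [Submodule.span_le]
        rintro _ ⟨i, rfl⟩
        rw [SetLike.mem_coe, LinearMap.mem_ker]
        change B (b i) y = 0
        rw [hBapp]
        exact hy _ ((List.mem_ofFn).mpr ⟨i, rfl⟩)
      exact LinearMap.mem_ker.mp (h1 hw)
    have hytop : y ∈ fixS T ⊔ movS 2 T := by
      rw [(isCompl_fix_mov hrF hT).sup_eq_top]
      exact Submodule.mem_top
    obtain ⟨y₁, hy₁, y₂, hy₂, rfl⟩ := Submodule.mem_sup.mp hytop
    have hy₂0 : y₂ = 0 := by
      have hdisj := (nd_iff_disjoint hrefl).mp hmovnd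
      rw [Submodule.disjoint_def] at hdisj
      apply hdisj y₂ hy₂
      rw [mem_perp]
      intro w hw
      have h3 := mem_perp.mp hyperp w hw
      rw [map_add, hrefl _ _ (fix_perp_mov hiso hrF hy₁ hw), zero_add] at h3
      exact h3
    rw [hy₂0, add_zero]
    have := mem_fixS.mp hy₁
    rw [hTdef, Matrix.toLin'_apply] at this
    exact this
  have res := (exists_mem_iff Q h2 hQ hn (List.ofFn b) hpw hl ((g : GL ι F) : Matrix ι ι F) hD1 hD2).mp
    ⟨g, hg, rfl⟩
  refine ⟨by simpa using res.1, ?_⟩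
  have hprod : ((List.ofFn b).map (fun v => Q v)).prod = Q (b 0) := by
    rw [List.map_ofFn, List.prod_ofFn, Fin.prod_univ_succ]
    have : ∀ i : Fin n, ((fun v => Q v) ∘ b) i.succ = 1 := fun i => hb1 _ (Fin.succ_ne_zero i)
    rw [Finset.prod_congr rfl (fun i _ => this i), Finset.prod_const_one, mul_one]
    rfl
  rw [← hprod]
  exact res.2

end disc

variable {F : Type*} [Field F] [Fintype F]

/-- **involutions of `Ω_{2d+1}(q)`.** -/
theorem exists_ts_invt_two (h2F : (2 : F) ≠ 0) {d m : ℕ} (hd : 1 ≤ d) (hm : m ≤ d)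
    (hcond : m < d ∨ Fintype.card F % 4 = 1) (x : GL (Unit ⊕ (Fin d ⊕ Fin d)) F)
    (hx : x ∈ Cfsg.Geo.omegaGL (Cfsg.quadFormOdd d F)) (hx2 : x ^ 2 = 1) :
    ∃ W : Submodule F (Unit ⊕ (Fin d ⊕ Fin d) → F), finrank F ↥W = m ∧
      (∀ w ∈ W, Cfsg.quadFormOdd d F w = 0) ∧
      W.map (Matrix.toLin' (x : Matrix (Unit ⊕ (Fin d ⊕ Fin d)) (Unit ⊕ (Fin d ⊕ Fin d)) F)) ≤ W := by
  classical
  have hxiso : x ∈ Cfsg.isometryGroup F (Cfsg.quadFormOdd d F) := by
    obtain ⟨y, -, rfl⟩ := hx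
    exact y.2
  have hT := toLin'_pow_eq_one hx2
  have hiso := oB_iso d hxiso
  have hsymm := oB_isSymm (F := F) d
  have hrefl := hsymm.isRefl
  have hV := oB_ND h2F d
  have hrF := two_cast_ne_zero h2F
  by_cases hmd : m < d
  · obtain ⟨W, hW, hWti, hWd⟩ := exists_ti_invol_lt h2F hsymm hV hiso hT (finrank_std_odd d) hmd
    exact to_statement_s h2F x hW hWti hWd
  have hmd' : m = d := by omega
  have hq4 : Fintype.card F % 4 = 1 := by
    rcases hcond with h | h
    · exact absurd h hmd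
    · exact h
  obtain ⟨T, hTdef⟩ : ∃ T : Module.End F (Unit ⊕ (Fin d ⊕ Fin d) → F),
      T = Matrix.toLin' (x : Matrix (Unit ⊕ (Fin d ⊕ Fin d)) (Unit ⊕ (Fin d ⊕ Fin d)) F) := ⟨_, rfl⟩
  rw [← hTdef] at hT hiso
  have hmovnd : ND (oB d F) (movS 2 T) := by
    have := nd_inf_mov hrefl hiso hrF hT (Module.End.invtSubmodule.top_mem T) hV
    rwa [top_inf_eq] at this
  have hfixnd : ND (oB d F) (fixS T) := by
    have := nd_inf_fix hrefl hiso hrF hT (Module.End.invtSubmodule.top_mem T) hV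
    rwa [top_inf_eq] at this
  have hsum := finrank_fix_add_mov hrF hT
  rw [finrank_std_odd] at hsum
  -- the moved part
  have hmov : ∃ L₂ : Submodule F (Unit ⊕ (Fin d ⊕ Fin d) → F), L₂ ≤ movS 2 T ∧ TI (oB d F) L₂ ∧
      2 * finrank F ↥L₂ = finrank F ↥(movS 2 T) := by
    rcases Nat.eq_zero_or_pos (finrank F ↥(movS 2 T)) with h0 | hpos
    · exact ⟨⊥, bot_le, ti_bot _, by rw [finrank_bot, h0]⟩
    obtain ⟨n, hn⟩ : ∃ n, finrank F ↥(movS 2 T) = n + 1 := ⟨finrank F ↥(movS 2 T) - 1, by omega⟩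
    have hNnd : NondegOn (oddForm F d) (movS 2 T) := by
      intro w hw hww
      by_contra hw0
      obtain ⟨v, hv, hv'⟩ := hmovnd w hw hw0
      apply hv'
      unfold oB
      rw [QuadraticMap.polarBilin_apply_apply]
      exact hww v hv
    obtain ⟨b, hbN, horth, hb0, hb1, hspan⟩ := exists_orth_basis_sub h2F (oddForm F d) hNnd hn
    rw [← oddForm_coe] at hx
    obtain ⟨y, hy, hyx⟩ := hx
    have hyx' : ((y : GL (Unit ⊕ (Fin d ⊕ Fin d)) F) :
        Matrix (Unit ⊕ (Fin d ⊕ Fin d)) (Unit ⊕ (Fin d ⊕ Fin d)) F) =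
        (x : Matrix (Unit ⊕ (Fin d ⊕ Fin d)) (Unit ⊕ (Fin d ⊕ Fin d)) F) := by
      rw [← hyx]
      rfl
    have hcard : 2 ≤ Fintype.card (Unit ⊕ (Fin d ⊕ Fin d)) := by
      simp only [Fintype.card_sum, Fintype.card_fin, Fintype.card_unit]
      omega
    obtain ⟨heven, hsq⟩ := invol_disc (oddForm F d) h2F (oddForm_nondeg F d h2F) hcard hy
      (by rw [hyx', ← hTdef]; exact hT) (b := b) (by rw [hyx', ← hTdef]; exact hbN) horth hb0 hb1
      (by rw [hyx', ← hTdef]; exact hspan)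
    obtain ⟨j, hj⟩ := heven
    have hnj : n + 1 = 2 * j := by omega
    have hneg : IsSquare (-1 : F) := by
      rw [FiniteField.isSquare_neg_one_iff]
      omega
    obtain ⟨ι', hι⟩ := hneg
    obtain ⟨L, hLle, hLti, hLd⟩ := exists_ti_half h2F (oddForm F d) hι.symm hnj horth hsq hb0 hb1
    rw [hspan] at hLle
    exact ⟨L, hLle, hLti, by rw [hLd, hn, hnj]⟩
  obtain ⟨L₂, hL₂, hL₂ti, hL₂d⟩ := hmov
  obtain ⟨L₁, hL₁, hL₁ti, hL₁d⟩ := exists_ti_of_lt hrefl hV ((finrank F ↥(fixS T) - 1) / 2) (fixS T) hfixnd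
    (by omega)
  obtain ⟨h1, h2, h3⟩ := invol_sup h2F hrefl hiso hL₁ hL₂ hL₁ti hL₂ti
  rw [hTdef] at h1
  refine to_statement_s h2F x h1 h2 ?_
  rw [h3, hL₁d]
  omega

end Cfsg.Agent.Helper7.OrTS
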