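import Mathlib
import Cfsg.Agent.Helper7.OrTSO
import Cfsg.Agent.Helper8.OmegaStd2

set_option autoImplicit false
set_option linter.unusedSectionVars false
set_option linter.unusedVariables false

/-!
# An involution of `Ω_{2d+1}(q)`, `q ≡ 3 (mod 4)`, without invariant maximal totally singular subspaces
-/

namespace Cfsg.Agent.Helper7.OrTS

open Matrix Module Polynomial Cfsg.Agent.Helper7.POrd Cfsg.Agent.Helper7.SpOrd Cfsg.Agent.Helper7.SpTI
  Cfsg.Agent.Helper8.StdForms Cfsg.Agent.Helper8.QuadForm Cfsg.Agent.Helper8.OmegaDiag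
  Cfsg.Agent.Helper8.OmegaCrit Cfsg.Agent.Helper8.ReflMatrix Cfsg.Agent.Helper8.Reflections
  Cfsg.Agent.Helper8.OmegaStd2

section general

variable {F : Type*} [Field F] {V : Type*} [AddCommGroup V] [Module F V]

/-- an involution whose negative eigenspace is anisotropic of dimension at least two has no invariant totally
isotropic subspace of dimension `d`. -/
theorem lt_of_ti_of_aniso [FiniteDimensional F V] (h2F : (2 : F) ≠ 0) {B : LinearMap.BilinForm F V}
    (hB : B.IsSymm) (hV : ND B ⊤) {T : Module.End F V} (hiso : ∀ u v, B (T u) (T v) = B u v)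
    (hT : T ^ 2 = 1) {d : ℕ} (hn : finrank F V = 2 * d + 1) (hmovd : 2 ≤ finrank F ↥(movS 2 T))
    (han : ∀ w ∈ movS 2 T, B w w = 0 → w = 0) {W : Submodule F V}
    (hW : W ∈ Module.End.invtSubmodule T) (hWti : TI B W) : finrank F ↥W < d := by
  have hrF := two_cast_ne_zero h2F
  have hrefl := hB.isRefl
  have hfixnd : ND B (fixS T) := by
    have := nd_inf_fix hrefl hiso hrF hT (Module.End.invtSubmodule.top_mem T) hV
    rwa [top_inf_eq] at this
  have hsum := finrank_fix_add_mov hrF hT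
  rw [hn] at hsum
  have hmov : W ⊓ movS 2 T = ⊥ := by
    rw [eq_bot_iff]
    rintro w ⟨hw1, hw2⟩
    rw [Submodule.mem_bot]
    exact han w hw2 (hWti w hw1 w hw1)
  have hdec := finrank_invt_decomp hrF hT hW
  rw [hmov, finrank_bot, add_zero] at hdec
  have h1 := finrank_ti_le_of_nd hrefl hV hfixnd (inf_le_right : W ⊓ fixS T ≤ fixS T)
    (ti_mono hWti inf_le_left)
  omega

end general

variable {F : Type*} [Field F] [Fintype F]

/-- **the derangement for `r = 2`.** -/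
theorem exists_no_invt_two (h2F : (2 : F) ≠ 0) {d : ℕ} (hd : 2 ≤ d) (h3 : Fintype.card F % 4 = 3) :
    ∃ x : GL (Unit ⊕ (Fin d ⊕ Fin d)) F, x ∈ Cfsg.Geo.omegaGL (Cfsg.quadFormOdd d F) ∧ orderOf x = 2 ∧
      ∀ W : Submodule F (Unit ⊕ (Fin d ⊕ Fin d) → F), (∀ w ∈ W, Cfsg.quadFormOdd d F w = 0) →
        W.map (Matrix.toLin' (x : Matrix (Unit ⊕ (Fin d ⊕ Fin d)) (Unit ⊕ (Fin d ⊕ Fin d)) F)) ≤ W →
        finrank F ↥W < d := by
  classical
  have hns : ¬ IsSquare (-1 : F) := by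
    rw [FiniteField.isSquare_neg_one_iff]
    omega
  obtain ⟨Q, hQdef⟩ : ∃ Q : QuadraticForm F (Unit ⊕ (Fin d ⊕ Fin d) → F), Q = oddForm F d := ⟨_, rfl⟩
  have hQnd : (QuadraticMap.polarBilin Q).Nondegenerate := by rw [hQdef]; exact oddForm_nondeg F d h2F
  have hhyp := odd_isHyp F d
  rw [← hQdef] at hhyp
  obtain ⟨j₁, j₂, hj⟩ : ∃ j₁ j₂ : Fin d, j₁ ≠ j₂ :=
    ⟨⟨0, by omega⟩, ⟨1, by omega⟩, fun h => by simpa using congrArg Fin.val h⟩
  obtain ⟨u₁, hu₁⟩ : ∃ u₁ : Unit ⊕ (Fin d ⊕ Fin d) → F,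
      u₁ = Pi.single (Sum.inr (Sum.inl j₁)) 1 + Pi.single (Sum.inr (Sum.inr j₁)) 1 := ⟨_, rfl⟩
  obtain ⟨u₂, hu₂⟩ : ∃ u₂ : Unit ⊕ (Fin d ⊕ Fin d) → F,
      u₂ = Pi.single (Sum.inr (Sum.inl j₂)) 1 + Pi.single (Sum.inr (Sum.inr j₂)) 1 := ⟨_, rfl⟩
  have hQ1 : Q u₁ = 1 := by rw [hu₁]; exact Q_add_of_isHyp Q hhyp j₁
  have hQ2 : Q u₂ = 1 := by rw [hu₂]; exact Q_add_of_isHyp Q hhyp j₂
  have hp12 : QuadraticMap.polar Q u₁ u₂ = 0 := by
    have := polar_pm_of_isHyp Q hhyp hj 1 1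
    simp only [one_smul] at this
    rw [hu₁, hu₂]
    exact this
  have hp21 : QuadraticMap.polar Q u₂ u₁ = 0 := by rw [QuadraticMap.polar_comm]; exact hp12
  have hp11 : QuadraticMap.polar Q u₁ u₁ = 2 := by rw [polar_self', hQ1, mul_one]
  have hp22 : QuadraticMap.polar Q u₂ u₂ = 2 := by rw [polar_self', hQ2, mul_one]
  have hcard : 2 ≤ Fintype.card (Unit ⊕ (Fin d ⊕ Fin d)) := by
    simp only [Fintype.card_sum, Fintype.card_fin, Fintype.card_unit]
    omega
  obtain ⟨y, hy⟩ : ∃ y : ↥(Cfsg.isometryGroup F ⇑Q), y = ([u₁, u₂].map (reflElt Q)).prod := ⟨_, rfl⟩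
  have hycomm : y ∈ commutator ↥(Cfsg.isometryGroup F ⇑Q) := by
    rw [hy, prod_reflElt_mem_iff Q h2F hQnd hcard [u₁, u₂] (by
      intro z hz
      simp only [List.mem_cons, List.not_mem_nil, or_false] at hz
      rcases hz with rfl | rfl
      · rw [hQ1]; exact one_ne_zero
      · rw [hQ2]; exact one_ne_zero)]
    refine ⟨⟨1, rfl⟩, ?_⟩
    simp only [List.map_cons, List.map_nil, List.prod_cons, List.prod_nil]
    rw [hQ1, hQ2]
    exact ⟨1, by ring⟩
  obtain ⟨T, hTdef⟩ : ∃ T : Module.End F (Unit ⊕ (Fin d ⊕ Fin d) → F),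
      T = Matrix.toLin' ((y : GL (Unit ⊕ (Fin d ⊕ Fin d)) F) :
        Matrix (Unit ⊕ (Fin d ⊕ Fin d)) (Unit ⊕ (Fin d ⊕ Fin d)) F) := ⟨_, rfl⟩
  have hTapp : ∀ v, T v = v - QuadraticMap.polar Q u₁ v • u₁ - QuadraticMap.polar Q u₂ v • u₂ := by
    intro v
    rw [hTdef, Matrix.toLin'_apply, ← isomEquiv_apply, hy, isomEquiv_prod_reflElt]
    simp only [List.map_cons, List.map_nil, List.prod_cons, List.prod_nil, mul_one]
    rw [LinearEquiv.mul_apply, refl_apply Q u₂ v, refl_apply Q u₁, hQ1, hQ2, div_one, div_one,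
      QuadraticMap.polar_sub_right, QuadraticMap.polar_smul_right, hp12, smul_zero, sub_zero]
    abel
  have hp1T : ∀ v, QuadraticMap.polar Q u₁ (T v) = - QuadraticMap.polar Q u₁ v := by
    intro v
    rw [hTapp, QuadraticMap.polar_sub_right, QuadraticMap.polar_sub_right, QuadraticMap.polar_smul_right,
      QuadraticMap.polar_smul_right, hp11, hp12, smul_eq_mul, smul_eq_mul]
    ring
  have hp2T : ∀ v, QuadraticMap.polar Q u₂ (T v) = - QuadraticMap.polar Q u₂ v := by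
    intro v
    rw [hTapp, QuadraticMap.polar_sub_right, QuadraticMap.polar_sub_right, QuadraticMap.polar_smul_right,
      QuadraticMap.polar_smul_right, hp22, hp21, smul_eq_mul, smul_eq_mul]
    ring
  have hT2 : T ^ 2 = 1 := by
    apply LinearMap.ext
    intro v
    rw [pow_two, Module.End.mul_apply, Module.End.one_apply, hTapp (T v), hp1T, hp2T, hTapp v]
    rw [neg_smul, neg_smul]
    abel
  have hTu₁ : T u₁ = -u₁ := by
    rw [hTapp, hp11, hp21, zero_smul, sub_zero, two_smul]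
    abel
  have hTu₂ : T u₂ = -u₂ := by
    rw [hTapp, hp22, hp12, zero_smul, sub_zero, two_smul]
    abel
  -- the moved space
  have hmov_le : movS 2 T ≤ Submodule.span F (Set.range ![u₁, u₂]) := by
    intro w hw
    have h1 := apply_of_mem_movS_two hw
    rw [hTapp] at h1
    have h4 : w = (2⁻¹ * QuadraticMap.polar Q u₁ w) • u₁ + (2⁻¹ * QuadraticMap.polar Q u₂ w) • u₂ := by
      have h5 : (2 : F) • w = QuadraticMap.polar Q u₁ w • u₁ + QuadraticMap.polar Q u₂ w • u₂ := by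
        rw [two_smul]
        have : w + w = (w - QuadraticMap.polar Q u₁ w • u₁ - QuadraticMap.polar Q u₂ w • u₂) + w +
            (QuadraticMap.polar Q u₁ w • u₁ + QuadraticMap.polar Q u₂ w • u₂) := by abel
        rw [this, h1]
        abel
      rw [mul_smul, mul_smul, ← smul_add, ← h5, smul_smul, inv_mul_cancel₀ h2F, one_smul]
    rw [h4]
    apply Submodule.add_mem
    · exact Submodule.smul_mem _ _ (Submodule.subset_span ⟨0, rfl⟩)
    · exact Submodule.smul_mem _ _ (Submodule.subset_span ⟨1, rfl⟩)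
  have hle_mov : Submodule.span F (Set.range ![u₁, u₂]) ≤ movS 2 T := by
    rw [Submodule.span_le]
    rintro _ ⟨i, rfl⟩
    rw [SetLike.mem_coe, mem_movS_two_iff]
    fin_cases i
    · exact hTu₁
    · exact hTu₂
  have hmov_eq : movS 2 T = Submodule.span F (Set.range ![u₁, u₂]) := le_antisymm hmov_le hle_mov
  have hli : LinearIndependent F ![u₁, u₂] := by
    refine linearIndependent_of_dual Q ![u₁, u₂] ![u₁, u₂] (fun _ => 2) (fun _ => h2F) ?_
    intro i i'
    fin_cases i <;> fin_cases i'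
    · simpa using hp11
    · simpa using hp12
    · simpa using hp21
    · simpa using hp22
  have hmovd : 2 ≤ finrank F ↥(movS 2 T) := by
    rw [hmov_eq, finrank_span_eq_card hli, Fintype.card_fin]
  have han : ∀ w ∈ movS 2 T, oB d F w w = 0 → w = 0 := by
    intro w hw hww
    rw [hmov_eq, Submodule.mem_span_range_iff_exists_fun] at hw
    obtain ⟨c, rfl⟩ := hw
    rw [Fin.sum_univ_two] at hww ⊢
    simp only [Matrix.cons_val_zero, Matrix.cons_val_one] at hww ⊢
    rw [oB_self, ← oddForm_apply, ← hQdef] at hww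
    have hQw : Q (c 0 • u₁ + c 1 • u₂) = c 0 * c 0 + c 1 * c 1 := by
      rw [QuadraticMap.map_add (⇑Q), QuadraticMap.map_smul, QuadraticMap.map_smul,
        QuadraticMap.polar_smul_left, QuadraticMap.polar_smul_right, hp12, hQ1, hQ2]
      simp only [smul_eq_mul, mul_zero, add_zero, mul_one]
    rw [hQw] at hww
    have hsum0 : c 0 * c 0 + c 1 * c 1 = 0 := (mul_eq_zero.mp hww).resolve_left h2F
    have hc1 : c 1 = 0 := by
      by_contra hc1
      apply hns
      refine ⟨c 0 / c 1, ?_⟩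
      field_simp
      linear_combination -hsum0
    have hc0 : c 0 = 0 := by
      rw [hc1, mul_zero, add_zero] at hsum0
      exact mul_self_eq_zero.mp hsum0
    rw [hc0, hc1, zero_smul, zero_smul, add_zero]
  -- the element
  have hxmem : (y : GL (Unit ⊕ (Fin d ⊕ Fin d)) F) ∈ Cfsg.Geo.omegaGL (Cfsg.quadFormOdd d F) := by
    rw [← oddForm_coe, ← hQdef]
    exact ⟨y, hycomm, rfl⟩
  have hxiso : (y : GL (Unit ⊕ (Fin d ⊕ Fin d)) F) ∈ Cfsg.isometryGroup F (Cfsg.quadFormOdd d F) := by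
    obtain ⟨z, -, hz⟩ := hxmem
    rw [← hz]
    exact z.2
  have hx2 : (y : GL (Unit ⊕ (Fin d ⊕ Fin d)) F) ^ 2 = 1 := by
    apply Units.ext
    apply Matrix.toLin'.injective
    rw [← toLin'_pow_gl, ← hTdef, hT2, Units.val_one, Matrix.toLin'_one]
    rfl
  have hu₁0 : u₁ ≠ 0 := by
    intro h0
    rw [h0, QuadraticMap.map_zero] at hQ1
    exact zero_ne_one hQ1
  have hx1 : (y : GL (Unit ⊕ (Fin d ⊕ Fin d)) F) ≠ 1 := by
    intro h1
    have hT1 : T = 1 := by
      rw [hTdef, h1, Units.val_one, Matrix.toLin'_one]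
      rfl
    rw [hT1, Module.End.one_apply] at hTu₁
    have h5 : (2 : F) • u₁ = 0 := by
      rw [two_smul]
      nth_rewrite 1 [hTu₁]
      exact neg_add_cancel u₁
    rcases smul_eq_zero.mp h5 with h | h
    · exact h2F h
    · exact hu₁0 h
  refine ⟨(y : GL (Unit ⊕ (Fin d ⊕ Fin d)) F), hxmem, orderOf_eq_prime hx2 hx1, ?_⟩
  intro W hWts hWinv
  obtain ⟨hW1, hW2⟩ := of_statement_s h2F _ hWts hWinv
  rw [← hTdef] at hW1
  have hiso := oB_iso d hxiso
  rw [← hTdef] at hiso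
  exact lt_of_ti_of_aniso h2F (oB_isSymm (F := F) d) (oB_ND h2F d) hiso hT2 (finrank_std_odd d) hmovd han
    hW1 hW2

end Cfsg.Agent.Helper7.OrTS
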