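import Mathlib
import Cfsg.Agent.Helper7.OrTSP

set_option autoImplicit false
set_option linter.unusedSectionVars false
set_option linter.unusedVariables false

/-!
# Quadratic spaces: totally singular subspaces, plus type, hyperbolic pairs

All characteristics.  `TS Q W`: the quadratic form vanishes on `W`; `Hyp Q W`: `W` contains a totally singular
subspace of half its dimension.  Splitting off a hyperbolic pair preserves the plus type (Witt cancellation for
hyperbolic planes).
-/

namespace Cfsg.Agent.Helper7.QTy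

open Module Cfsg.Agent.Helper7.POrd Cfsg.Agent.Helper7.SpOrd Cfsg.Agent.Helper7.SpTI
  Cfsg.Agent.Helper8.QuadForm

variable {F : Type*} [Field F] {V : Type*} [AddCommGroup V] [Module F V]

/-- totally singular subspaces. -/
def TS (Q : QuadraticForm F V) (W : Submodule F V) : Prop := ∀ w ∈ W, Q w = 0

/-- plus type: a totally singular subspace of half the dimension. -/
def Hyp (Q : QuadraticForm F V) (W : Submodule F V) : Prop :=
  ∃ U : Submodule F V, U ≤ W ∧ TS Q U ∧ 2 * finrank F ↥U = finrank F ↥W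

theorem pB_symm (Q : QuadraticForm F V) : (QuadraticMap.polarBilin Q).IsSymm := by
  constructor
  intro u v
  exact QuadraticMap.polar_comm Q u v

theorem pB_refl (Q : QuadraticForm F V) : (QuadraticMap.polarBilin Q).IsRefl := (pB_symm Q).isRefl

theorem pB_apply (Q : QuadraticForm F V) (u v : V) :
    QuadraticMap.polarBilin Q u v = QuadraticMap.polar Q u v := rfl

theorem ts_bot (Q : QuadraticForm F V) : TS Q ⊥ := by
  intro w hw
  rw [(Submodule.mem_bot F).mp hw, QuadraticMap.map_zero]

theorem ts_mono {Q : QuadraticForm F V} {U U' : Submodule F V} (h : TS Q U) (hle : U' ≤ U) : TS Q U' :=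
  fun w hw => h w (hle hw)

theorem ts_polar {Q : QuadraticForm F V} {U : Submodule F V} (h : TS Q U) {u v : V} (hu : u ∈ U) (hv : v ∈ U) :
    QuadraticMap.polar Q u v = 0 := by
  unfold QuadraticMap.polar
  rw [h _ (U.add_mem hu hv), h u hu, h v hv]
  simp

theorem ts_ti {Q : QuadraticForm F V} {U : Submodule F V} (h : TS Q U) : TI (QuadraticMap.polarBilin Q) U :=
  fun u hu v hv => ts_polar h hu hv

theorem ti_ts (h2 : (2 : F) ≠ 0) {Q : QuadraticForm F V} {U : Submodule F V}
    (h : TI (QuadraticMap.polarBilin Q) U) : TS Q U := by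
  intro w hw
  have := h w hw w hw
  rw [pB_apply, polar_self'] at this
  exact (mul_eq_zero.mp this).resolve_left h2

theorem ts_sup {Q : QuadraticForm F V} {U₁ U₂ : Submodule F V} (h₁ : TS Q U₁) (h₂ : TS Q U₂)
    (h12 : ∀ u ∈ U₁, ∀ v ∈ U₂, QuadraticMap.polar Q u v = 0) : TS Q (U₁ ⊔ U₂) := by
  intro w hw
  obtain ⟨u, hu, v, hv, rfl⟩ := Submodule.mem_sup.mp hw
  rw [QuadraticMap.map_add Q, h₁ u hu, h₂ v hv, h12 u hu v hv]
  simp

theorem hyp_bot (Q : QuadraticForm F V) : Hyp Q ⊥ :=
  ⟨⊥, le_rfl, ts_bot Q, by simp⟩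

/-- a nonzero functional cuts a hyperplane. -/
theorem finrank_inf_ker_add_one [FiniteDimensional F V] (φ : V →ₗ[F] F) (U : Submodule F V) {u : V}
    (hu : u ∈ U) (hφu : φ u ≠ 0) : finrank F ↥(U ⊓ LinearMap.ker φ) + 1 = finrank F ↥U := by
  obtain ⟨ψ, hψ⟩ : ∃ ψ : ↥U →ₗ[F] F, ψ = φ.domRestrict U := ⟨_, rfl⟩
  have hrange : LinearMap.range ψ = ⊤ := by
    rw [LinearMap.range_eq_top]
    intro a
    refine ⟨(a / φ u) • (⟨u, hu⟩ : ↥U), ?_⟩
    rw [map_smul, hψ, LinearMap.domRestrict_apply, smul_eq_mul, div_mul_cancel₀ _ hφu]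
  have h := LinearMap.finrank_range_add_finrank_ker ψ
  rw [hrange, finrank_top, Module.finrank_self] at h
  have hker : LinearMap.ker ψ = Submodule.comap U.subtype (U ⊓ LinearMap.ker φ) := by
    ext x
    rw [LinearMap.mem_ker, Submodule.mem_comap, Submodule.mem_inf, LinearMap.mem_ker, hψ,
      LinearMap.domRestrict_apply, Submodule.subtype_apply]
    exact ⟨fun h => ⟨x.2, h⟩, fun h => h.2⟩
  have he := (Submodule.comapSubtypeEquivOfLe (inf_le_left : U ⊓ LinearMap.ker φ ≤ U)).finrank_eq
  rw [← hker] at he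
  omega

/-- completing a singular vector of a nondegenerate subspace to a hyperbolic pair inside it. -/
theorem exists_partner {Q : QuadraticForm F V} {W : Submodule F V} (hW : ND (QuadraticMap.polarBilin Q) W)
    {e : V} (he : e ∈ W) (he0 : e ≠ 0) (hQe : Q e = 0) :
    ∃ f ∈ W, Q f = 0 ∧ QuadraticMap.polar Q e f = 1 := by
  obtain ⟨f₀, hf₀W, hf₀⟩ := hW e he he0
  rw [pB_apply] at hf₀
  obtain ⟨f₁, hf₁⟩ : ∃ f₁, f₁ = (QuadraticMap.polar Q e f₀)⁻¹ • f₀ := ⟨_, rfl⟩
  have hf₁W : f₁ ∈ W := by rw [hf₁]; exact W.smul_mem _ hf₀W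
  have h1 : QuadraticMap.polar Q e f₁ = 1 := by
    rw [hf₁, QuadraticMap.polar_smul_right, smul_eq_mul, inv_mul_cancel₀ hf₀]
  refine ⟨f₁ - Q f₁ • e, W.sub_mem hf₁W (W.smul_mem _ he), ?_, ?_⟩
  · rw [sub_eq_add_neg, QuadraticMap.map_add Q, QuadraticMap.map_neg, QuadraticMap.map_smul, hQe,
      QuadraticMap.polar_neg_right, QuadraticMap.polar_smul_right, QuadraticMap.polar_comm, h1]
    simp
  · rw [sub_eq_add_neg, QuadraticMap.polar_add_right, QuadraticMap.polar_neg_right,
      QuadraticMap.polar_smul_right, polar_self', hQe, h1]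
    simp

section pair

variable {Q : QuadraticForm F V} {e f : V}

/-- the span of a hyperbolic pair. -/
def pairSpan (F : Type*) [Field F] {V : Type*} [AddCommGroup V] [Module F V] (e f : V) : Submodule F V :=
  Submodule.span F (Set.range ![e, f])

theorem mem_pairSpan {e f w : V} : w ∈ pairSpan F e f ↔ ∃ a b : F, w = a • e + b • f := by
  unfold pairSpan
  rw [Submodule.mem_span_range_iff_exists_fun]
  constructor
  · rintro ⟨c, rfl⟩
    exact ⟨c 0, c 1, by rw [Fin.sum_univ_two]; rfl⟩
  · rintro ⟨a, b, rfl⟩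
    exact ⟨![a, b], by rw [Fin.sum_univ_two]; rfl⟩

theorem left_mem_pairSpan (e f : V) : e ∈ pairSpan F e f :=
  mem_pairSpan.mpr ⟨1, 0, by simp⟩

theorem right_mem_pairSpan (e f : V) : f ∈ pairSpan F e f :=
  mem_pairSpan.mpr ⟨0, 1, by simp⟩

theorem pairSpan_le {e f : V} {W : Submodule F V} (he : e ∈ W) (hf : f ∈ W) : pairSpan F e f ≤ W := by
  intro w hw
  obtain ⟨a, b, rfl⟩ := mem_pairSpan.mp hw
  exact W.add_mem (W.smul_mem _ he) (W.smul_mem _ hf)

theorem perp_pairSpan (Q : QuadraticForm F V) (e f : V) :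
    LinearMap.BilinForm.orthogonal (QuadraticMap.polarBilin Q) (pairSpan F e f) = perpPair Q e f := by
  ext v
  rw [mem_perp, mem_perpPair]
  constructor
  · intro h
    exact ⟨h e (left_mem_pairSpan e f), h f (right_mem_pairSpan e f)⟩
  · rintro ⟨h1, h2⟩ w hw
    obtain ⟨a, b, rfl⟩ := mem_pairSpan.mp hw
    rw [pB_apply, QuadraticMap.polar_add_left, QuadraticMap.polar_smul_left, QuadraticMap.polar_smul_left,
      h1, h2]
    simp

variable (he : Q e = 0) (hf : Q f = 0) (hef : QuadraticMap.polar Q e f = 1)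

include he hf hef in
theorem nd_pairSpan : ND (QuadraticMap.polarBilin Q) (pairSpan F e f) := by
  have hfe : QuadraticMap.polar Q f e = 1 := by rw [QuadraticMap.polar_comm]; exact hef
  have hee : QuadraticMap.polar Q e e = 0 := by rw [polar_self', he, mul_zero]
  have hff : QuadraticMap.polar Q f f = 0 := by rw [polar_self', hf, mul_zero]
  intro u hu hu0
  obtain ⟨a, b, rfl⟩ := mem_pairSpan.mp hu
  by_cases ha : a = 0
  · have hb : b ≠ 0 := by
      rintro rfl
      apply hu0
      rw [ha, zero_smul, zero_smul, add_zero]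
    refine ⟨e, left_mem_pairSpan e f, ?_⟩
    rw [pB_apply, QuadraticMap.polar_add_left, QuadraticMap.polar_smul_left, QuadraticMap.polar_smul_left,
      hee, hfe]
    simpa using hb
  · refine ⟨f, right_mem_pairSpan e f, ?_⟩
    rw [pB_apply, QuadraticMap.polar_add_left, QuadraticMap.polar_smul_left, QuadraticMap.polar_smul_left,
      hff, hef]
    simpa using ha

include he hf hef in
theorem finrank_pairSpan : finrank F ↥(pairSpan F e f) = 2 := by
  classical
  have hfe : QuadraticMap.polar Q f e = 1 := by rw [QuadraticMap.polar_comm]; exact hef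
  have hee : QuadraticMap.polar Q e e = 0 := by rw [polar_self', he, mul_zero]
  have hff : QuadraticMap.polar Q f f = 0 := by rw [polar_self', hf, mul_zero]
  have hli : LinearIndependent F ![e, f] := by
    refine linearIndependent_of_dual Q ![e, f] ![f, e] (fun _ => 1) (fun _ => one_ne_zero) ?_
    intro i i'
    fin_cases i <;> fin_cases i'
    · simpa using hef
    · simpa using hee
    · simpa using hff
    · simpa using hfe
  unfold pairSpan
  rw [finrank_span_eq_card hli, Fintype.card_fin]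

include he hf hef in
/-- the complement of a hyperbolic pair inside a nondegenerate subspace. -/
theorem perpPair_inf_props [FiniteDimensional F V] {W : Submodule F V}
    (hW : ND (QuadraticMap.polarBilin Q) W) (heW : e ∈ W) (hfW : f ∈ W) :
    ND (QuadraticMap.polarBilin Q) (perpPair Q e f ⊓ W) ∧ finrank F ↥(perpPair Q e f ⊓ W) + 2 = finrank F ↥W ∧
      pairSpan F e f ⊔ (perpPair Q e f ⊓ W) = W := by
  have hP := nd_pairSpan he hf hef
  have hPW : pairSpan F e f ≤ W := pairSpan_le heW hfW
  rw [← perp_pairSpan]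
  refine ⟨nd_perp_inf (pB_refl Q) hP hW hPW, ?_, sup_perp_inf (pB_refl Q) hP hPW⟩
  have := finrank_perp_inf (pB_refl Q) hP hPW
  rw [finrank_pairSpan he hf hef] at this
  omega

include he hf hef in
/-- **Witt cancellation for a hyperbolic plane.** -/
theorem hyp_perpPair_inf [FiniteDimensional F V] (hV : ND (QuadraticMap.polarBilin Q) ⊤) {W : Submodule F V}
    (hW : ND (QuadraticMap.polarBilin Q) W) (heW : e ∈ W) (hfW : f ∈ W) (hyp : Hyp Q W) :
    Hyp Q (perpPair Q e f ⊓ W) := by
  have hfe : QuadraticMap.polar Q f e = 1 := by rw [QuadraticMap.polar_comm]; exact hef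
  obtain ⟨-, hdim, -⟩ := perpPair_inf_props he hf hef hW heW hfW
  -- a totally singular half-dimensional subspace containing `e`
  have key : ∀ U : Submodule F V, U ≤ W → TS Q U → 2 * finrank F ↥U = finrank F ↥W → e ∈ U →
      Hyp Q (perpPair Q e f ⊓ W) := by
    intro U hUW hU hUd heU
    refine ⟨U ⊓ LinearMap.ker (QuadraticMap.polarBilin Q f), ?_, ts_mono hU inf_le_left, ?_⟩
    · intro u hu
      refine ⟨(mem_perpPair Q e f u).mpr ⟨ts_polar hU heU hu.1, ?_⟩, hUW hu.1⟩
      exact LinearMap.mem_ker.mp hu.2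
    · have h1 := finrank_inf_ker_add_one (QuadraticMap.polarBilin Q f) U heU
        (by rw [pB_apply, hfe]; exact one_ne_zero)
      omega
  obtain ⟨U, hUW, hU, hUd⟩ := hyp
  by_cases heU : e ∈ U
  · exact key U hUW hU hUd heU
  · -- replace `U` by `(U ∩ e^⊥) + ⟨e⟩`
    obtain ⟨U₀, hU₀⟩ : ∃ U₀, U₀ = U ⊓ LinearMap.ker (QuadraticMap.polarBilin Q e) := ⟨_, rfl⟩
    obtain ⟨U₁, hU₁⟩ : ∃ U₁, U₁ = U₀ ⊔ Submodule.span F {e} := ⟨_, rfl⟩
    have hU₁ts : TS Q U₁ := by
      rw [hU₁]
      refine ts_sup (ts_mono hU (by rw [hU₀]; exact inf_le_left)) ?_ ?_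
      · intro w hw
        obtain ⟨c, rfl⟩ := Submodule.mem_span_singleton.mp hw
        rw [QuadraticMap.map_smul, he, smul_zero]
      · intro u hu v hv
        obtain ⟨c, rfl⟩ := Submodule.mem_span_singleton.mp hv
        rw [hU₀] at hu
        have : QuadraticMap.polar Q e u = 0 := LinearMap.mem_ker.mp hu.2
        rw [QuadraticMap.polar_smul_right, QuadraticMap.polar_comm, this, smul_zero]
    have hU₁W : U₁ ≤ W := by
      rw [hU₁]
      refine sup_le ((by rw [hU₀]; exact inf_le_left : U₀ ≤ U).trans hUW) ?_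
      rw [Submodule.span_singleton_le_iff_mem]
      exact heW
    have heU₁ : e ∈ U₁ := by
      rw [hU₁]
      exact Submodule.mem_sup_right (Submodule.mem_span_singleton_self e)
    have hle := finrank_ti_le_of_nd (pB_refl Q) hV hW hU₁W (ts_ti hU₁ts)
    have he0 : e ≠ 0 := by
      rintro rfl
      exact heU U.zero_mem
    have hdisj : U₀ ⊓ Submodule.span F {e} = ⊥ := by
      rw [eq_bot_iff]
      rintro x ⟨hx1, hx2⟩
      rw [Submodule.mem_bot]
      obtain ⟨c, rfl⟩ := Submodule.mem_span_singleton.mp hx2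
      by_contra hne
      have hc : c ≠ 0 := by
        rintro rfl
        exact hne (zero_smul _ _)
      apply heU
      rw [hU₀] at hx1
      have := U.smul_mem c⁻¹ hx1.1
      rwa [smul_smul, inv_mul_cancel₀ hc, one_smul] at this
    have hsum := Submodule.finrank_sup_add_finrank_inf_eq U₀ (Submodule.span F {e})
    rw [hdisj, finrank_bot, add_zero, finrank_span_singleton he0, ← hU₁] at hsum
    -- dimension of `U₀`
    have hU₀d : finrank F ↥U ≤ finrank F ↥U₀ + 1 := by
      by_cases hall : ∀ u ∈ U, QuadraticMap.polarBilin Q e u = 0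
      · have : U ≤ U₀ := by
          rw [hU₀]
          intro u hu
          exact ⟨hu, LinearMap.mem_ker.mpr (hall u hu)⟩
        have := Submodule.finrank_mono this
        omega
      · push Not at hall
        obtain ⟨u, hu, hu'⟩ := hall
        have := finrank_inf_ker_add_one (QuadraticMap.polarBilin Q e) U hu hu'
        rw [← hU₀] at this
        omega
    exact key U₁ hU₁W hU₁ts (by omega) heU₁

end pair

end Cfsg.Agent.Helper7.QTy
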