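import Mathlib
import Cfsg.Agent.Helper7.QTyA

set_option autoImplicit false
set_option linter.unusedSectionVars false
set_option linter.unusedVariables false

/-!
# Quadratic spaces: sums, cancellation, hulls, totally singular subspaces of every small dimension
-/

namespace Cfsg.Agent.Helper7.QTy

open Module Cfsg.Agent.Helper7.POrd Cfsg.Agent.Helper7.SpOrd Cfsg.Agent.Helper7.SpTI
  Cfsg.Agent.Helper7.OrTS Cfsg.Agent.Helper8.QuadForm

variable {F : Type*} [Field F] {V : Type*} [AddCommGroup V] [Module F V]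

theorem nondeg_comp_of_nd {Q : QuadraticForm F V} {W : Submodule F V}
    (hW : ND (QuadraticMap.polarBilin Q) W) : Nondeg (Q.comp W.subtype) := by
  intro v hv
  by_contra hv0
  have hv0' : (v : V) ≠ 0 := fun h => hv0 (Subtype.ext h)
  obtain ⟨w, hw, hw'⟩ := hW v v.2 hv0'
  exact hw' (hv ⟨w, hw⟩)

theorem exists_singular_in [Finite F] [FiniteDimensional F V] (Q : QuadraticForm F V) {W : Submodule F V}
    (h3 : 3 ≤ finrank F ↥W) : ∃ e ∈ W, e ≠ 0 ∧ Q e = 0 := by
  obtain ⟨v, hv0, hv⟩ := exists_singular (Q.comp W.subtype) h3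
  exact ⟨v, v.2, fun h => hv0 (Subtype.ext h), hv⟩

theorem exists_repr_in [Finite F] [FiniteDimensional F V] {Q : QuadraticForm F V} {W : Submodule F V}
    (hW : ND (QuadraticMap.polarBilin Q) W) (h2 : 2 ≤ finrank F ↥W) (c : F) : ∃ v ∈ W, Q v = c := by
  obtain ⟨v, hv⟩ := exists_repr (Q.comp W.subtype) (nondeg_comp_of_nd hW) h2 c
  exact ⟨v, v.2, hv⟩

/-- **sums of plus type spaces.** -/
theorem hyp_sup [FiniteDimensional F V] {Q : QuadraticForm F V} {W₁ W₂ : Submodule F V}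
    (h₁ : ND (QuadraticMap.polarBilin Q) W₁)
    (h12 : W₂ ≤ LinearMap.BilinForm.orthogonal (QuadraticMap.polarBilin Q) W₁) (hy₁ : Hyp Q W₁) (hy₂ : Hyp Q W₂) :
    Hyp Q (W₁ ⊔ W₂) := by
  obtain ⟨U₁, hU₁W, hU₁, hd₁⟩ := hy₁
  obtain ⟨U₂, hU₂W, hU₂, hd₂⟩ := hy₂
  refine ⟨U₁ ⊔ U₂, sup_le_sup hU₁W hU₂W, ts_sup hU₁ hU₂ ?_, ?_⟩
  · intro u hu v hv
    exact mem_perp.mp (h12 (hU₂W hv)) u (hU₁W hu)
  · rw [finrank_sup_of_le_perp (pB_refl Q) h₁ h12]
    have hdisj : U₁ ⊓ U₂ = ⊥ := by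
      rw [eq_bot_iff, ← (disjoint_of_le_perp (pB_refl Q) h₁ h12).eq_bot]
      exact inf_le_inf hU₁W hU₂W
    have h4 := Submodule.finrank_sup_add_finrank_inf_eq U₁ U₂
    rw [hdisj, finrank_bot, add_zero] at h4
    omega

/-- **Witt cancellation of a plus type summand.** -/
theorem hyp_cancel [FiniteDimensional F V] {Q : QuadraticForm F V} (hV : ND (QuadraticMap.polarBilin Q) ⊤) :
    ∀ (n : ℕ) (W₁ W₂ : Submodule F V), finrank F ↥W₁ = n → ND (QuadraticMap.polarBilin Q) W₁ →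
      ND (QuadraticMap.polarBilin Q) W₂ →
      W₂ ≤ LinearMap.BilinForm.orthogonal (QuadraticMap.polarBilin Q) W₁ → Hyp Q W₁ → Hyp Q (W₁ ⊔ W₂) →
      Hyp Q W₂ := by
  intro n
  induction n using Nat.strong_induction_on with
  | _ n ih =>
    intro W₁ W₂ hn h₁ h₂ h12 hy₁ hy
    by_cases hn0 : n = 0
    · have : W₁ = ⊥ := by
        rw [← Submodule.finrank_eq_zero (R := F)]
        omega
      rwa [this, bot_sup_eq] at hy
    obtain ⟨U₁, hU₁W, hU₁, hd₁⟩ := hy₁
    have hU₁ne : U₁ ≠ ⊥ := by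
      intro h
      rw [h, finrank_bot] at hd₁
      omega
    obtain ⟨e, heU, he0⟩ := Submodule.exists_mem_ne_zero_of_ne_bot hU₁ne
    have heW := hU₁W heU
    have hQe := hU₁ e heU
    obtain ⟨f, hfW, hQf, hef⟩ := exists_partner h₁ heW he0 hQe
    obtain ⟨hnd', hdim', -⟩ := perpPair_inf_props hQe hQf hef h₁ heW hfW
    have hy₁' := hyp_perpPair_inf hQe hQf hef hV h₁ heW hfW ⟨U₁, hU₁W, hU₁, hd₁⟩
    have hsupnd : ND (QuadraticMap.polarBilin Q) (W₁ ⊔ W₂) := nd_sup (pB_refl Q) h₁ h₂ h12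
    have hy' := hyp_perpPair_inf hQe hQf hef hV hsupnd (Submodule.mem_sup_left heW)
      (Submodule.mem_sup_left hfW) hy
    have hW₂P : W₂ ≤ perpPair Q e f := by
      intro w hw
      rw [mem_perpPair]
      exact ⟨mem_perp.mp (h12 hw) e heW, mem_perp.mp (h12 hw) f hfW⟩
    have heq : perpPair Q e f ⊓ (W₁ ⊔ W₂) = (perpPair Q e f ⊓ W₁) ⊔ W₂ := by
      apply le_antisymm
      · rintro x ⟨hxP, hx⟩
        obtain ⟨w₁, hw₁, w₂, hw₂, rfl⟩ := Submodule.mem_sup.mp hx
        refine Submodule.add_mem _ (Submodule.mem_sup_left ⟨?_, hw₁⟩) (Submodule.mem_sup_right hw₂)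
        have := (perpPair Q e f).sub_mem hxP (hW₂P hw₂)
        rwa [add_sub_cancel_right] at this
      · exact sup_le (inf_le_inf_left _ le_sup_left) (le_inf hW₂P le_sup_right)
    rw [heq] at hy'
    exact ih (finrank F ↥(perpPair Q e f ⊓ W₁)) (by omega) _ W₂ rfl hnd' h₂
      (h12.trans (LinearMap.BilinForm.orthogonal_le inf_le_right)) hy₁' hy'

/-- **the hyperbolic hull** of a totally singular subspace. -/
theorem exists_hull [FiniteDimensional F V] {Q : QuadraticForm F V} (hV : ND (QuadraticMap.polarBilin Q) ⊤)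
    {W L : Submodule F V} (hW : ND (QuadraticMap.polarBilin Q) W) (hLW : L ≤ W) (hL : TS Q L) :
    ∃ H : Submodule F V, L ≤ H ∧ H ≤ W ∧ ND (QuadraticMap.polarBilin Q) H ∧
      finrank F ↥H = 2 * finrank F ↥L ∧ Hyp Q H := by
  obtain ⟨H, hLH, hHW, -, hHnd, hHd⟩ := exists_hyp_refl (pB_refl Q) hV (T := 1) (fun _ _ => rfl) one_pos
    (pow_one 1) Module.End.isSemisimple_id (invt_one W) hW (invt_one L) hLW (ts_ti hL)
  exact ⟨H, hLH, hHW, hHnd, hHd, L, hLH, hL, hHd.symm⟩

/-- **totally singular subspaces of every dimension below half.** -/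
theorem exists_ts_of_lt [Finite F] [FiniteDimensional F V] {Q : QuadraticForm F V}
    (hV : ND (QuadraticMap.polarBilin Q) ⊤) : ∀ (e' : ℕ) (W : Submodule F V),
      ND (QuadraticMap.polarBilin Q) W → 2 * e' < finrank F ↥W →
      ∃ L : Submodule F V, L ≤ W ∧ TS Q L ∧ finrank F ↥L = e' := by
  intro e'
  induction e' with
  | zero =>
    intro W _ _
    exact ⟨⊥, bot_le, ts_bot Q, finrank_bot F V⟩
  | succ e' ih =>
    intro W hW hdim
    obtain ⟨e, heW, he0, hQe⟩ := exists_singular_in Q (W := W) (by omega)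
    obtain ⟨f, hfW, hQf, hef⟩ := exists_partner hW heW he0 hQe
    have hfe : QuadraticMap.polar Q f e = 1 := by rw [QuadraticMap.polar_comm]; exact hef
    obtain ⟨hnd', hdim', -⟩ := perpPair_inf_props hQe hQf hef hW heW hfW
    obtain ⟨L', hL'W', hL', hL'd⟩ := ih _ hnd' (by omega)
    have hL'P : L' ≤ perpPair Q e f := hL'W'.trans inf_le_left
    refine ⟨L' ⊔ Submodule.span F {e}, sup_le (hL'W'.trans inf_le_right) ?_, ts_sup hL' ?_ ?_, ?_⟩
    · rw [Submodule.span_singleton_le_iff_mem]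
      exact heW
    · intro w hw
      obtain ⟨c, rfl⟩ := Submodule.mem_span_singleton.mp hw
      rw [QuadraticMap.map_smul, hQe, smul_zero]
    · intro u hu v hv
      obtain ⟨c, rfl⟩ := Submodule.mem_span_singleton.mp hv
      have := ((mem_perpPair Q e f u).mp (hL'P hu)).1
      rw [QuadraticMap.polar_smul_right, QuadraticMap.polar_comm, this, smul_zero]
    · have hdisj : L' ⊓ Submodule.span F {e} = ⊥ := by
        rw [eq_bot_iff]
        rintro x ⟨hx1, hx2⟩
        rw [Submodule.mem_bot]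
        obtain ⟨c, rfl⟩ := Submodule.mem_span_singleton.mp hx2
        have := ((mem_perpPair Q e f _).mp (hL'P hx1)).2
        rw [QuadraticMap.polar_smul_right, hfe, smul_eq_mul, mul_one] at this
        rw [this, zero_smul]
      have h4 := Submodule.finrank_sup_add_finrank_inf_eq L' (Submodule.span F {e})
      rw [hdisj, finrank_bot, add_zero, finrank_span_singleton he0] at h4
      omega

/-- **plus type subspaces of every even dimension below the dimension.** -/
theorem exists_hyp_sub [Finite F] [FiniteDimensional F V] {Q : QuadraticForm F V}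
    (hV : ND (QuadraticMap.polarBilin Q) ⊤) {N : Submodule F V} (hN : ND (QuadraticMap.polarBilin Q) N)
    {h : ℕ} (hh : 2 * h < finrank F ↥N) :
    ∃ W : Submodule F V, W ≤ N ∧ ND (QuadraticMap.polarBilin Q) W ∧ finrank F ↥W = 2 * h ∧ Hyp Q W := by
  obtain ⟨L, hLN, hL, hLd⟩ := exists_ts_of_lt hV h N hN hh
  obtain ⟨H, -, hHN, hHnd, hHd, hHy⟩ := exists_hull hV hN hLN hL
  exact ⟨H, hHN, hHnd, by rw [hHd, hLd], hHy⟩

/-- **the anisotropic kernel**: a nondegenerate space of even dimension that is not of plus type is the sum of a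
plus type space and an anisotropic plane. -/
theorem exists_hyp_aniso [Finite F] [FiniteDimensional F V] {Q : QuadraticForm F V}
    (hV : ND (QuadraticMap.polarBilin Q) ⊤) {W : Submodule F V} (hW : ND (QuadraticMap.polarBilin Q) W)
    {h : ℕ} (hd : finrank F ↥W = 2 * h + 2) (hnot : ¬ Hyp Q W) :
    ∃ H A : Submodule F V, H ≤ W ∧ A ≤ W ∧ ND (QuadraticMap.polarBilin Q) H ∧ Hyp Q H ∧
      finrank F ↥H = 2 * h ∧ ND (QuadraticMap.polarBilin Q) A ∧ finrank F ↥A = 2 ∧
      A ≤ LinearMap.BilinForm.orthogonal (QuadraticMap.polarBilin Q) H ∧ H ⊔ A = W ∧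
      ∀ a ∈ A, Q a = 0 → a = 0 := by
  obtain ⟨L, hLW, hL, hLd⟩ := exists_ts_of_lt hV h W hW (by omega)
  obtain ⟨H, hLH, hHW, hHnd, hHd, hHy⟩ := exists_hull hV hW hLW hL
  have hAnd := nd_perp_inf (pB_refl Q) hHnd hW hHW
  have hAd := finrank_perp_inf (pB_refl Q) hHnd hHW
  refine ⟨H, LinearMap.BilinForm.orthogonal (QuadraticMap.polarBilin Q) H ⊓ W, hHW, inf_le_right, hHnd, hHy,
    by rw [hHd, hLd], hAnd, by omega, inf_le_left, sup_perp_inf (pB_refl Q) hHnd hHW, ?_⟩
  intro a ha hQa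
  by_contra ha0
  apply hnot
  have haL : ∀ u ∈ L, QuadraticMap.polar Q u a = 0 := fun u hu => mem_perp.mp ha.1 u (hLH hu)
  refine ⟨L ⊔ Submodule.span F {a}, sup_le hLW ?_, ts_sup hL ?_ ?_, ?_⟩
  · rw [Submodule.span_singleton_le_iff_mem]
    exact ha.2
  · intro w hw
    obtain ⟨c, rfl⟩ := Submodule.mem_span_singleton.mp hw
    rw [QuadraticMap.map_smul, hQa, smul_zero]
  · intro u hu v hv
    obtain ⟨c, rfl⟩ := Submodule.mem_span_singleton.mp hv
    rw [QuadraticMap.polar_smul_right, haL u hu, smul_zero]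
  · have hdisj : L ⊓ Submodule.span F {a} = ⊥ := by
      rw [eq_bot_iff, ← ((nd_iff_disjoint (pB_refl Q)).mp hHnd).eq_bot]
      refine inf_le_inf hLH ?_
      rw [Submodule.span_singleton_le_iff_mem]
      exact ha.1
    have h4 := Submodule.finrank_sup_add_finrank_inf_eq L (Submodule.span F {a})
    rw [hdisj, finrank_bot, add_zero, finrank_span_singleton ha0] at h4
    omega

end Cfsg.Agent.Helper7.QTy
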