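import Mathlib
import Cfsg.Agent.Helper7.QTyB

set_option autoImplicit false
set_option linter.unusedSectionVars false
set_option linter.unusedVariables false

/-!
# Quadratic spaces in odd characteristic: sums of minus type spaces, anisotropic planes
-/

namespace Cfsg.Agent.Helper7.QTy

open Module Cfsg.Agent.Helper7.POrd Cfsg.Agent.Helper7.SpOrd Cfsg.Agent.Helper7.SpTI
  Cfsg.Agent.Helper7.OrTS Cfsg.Agent.Helper8.QuadForm

variable {F : Type*} [Field F] {V : Type*} [AddCommGroup V] [Module F V]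

/-- a nonzero vector of a plane orthogonal to a nonisotropic vector. -/
theorem exists_perp_in_plane [FiniteDimensional F V] {Q : QuadraticForm F V} {A : Submodule F V}
    (hd : finrank F ↥A = 2) {u : V} (hu : u ∈ A) (huu : QuadraticMap.polar Q u u ≠ 0) :
    ∃ v ∈ A, v ≠ 0 ∧ QuadraticMap.polar Q u v = 0 := by
  have h1 := finrank_inf_ker_add_one (QuadraticMap.polarBilin Q u) A hu (by rw [pB_apply]; exact huu)
  have hne : A ⊓ LinearMap.ker (QuadraticMap.polarBilin Q u) ≠ ⊥ := by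
    intro h
    rw [h, finrank_bot] at h1
    omega
  obtain ⟨v, hv, hv0⟩ := Submodule.exists_mem_ne_zero_of_ne_bot hne
  exact ⟨v, hv.1, hv0, LinearMap.mem_ker.mp hv.2⟩

/-- in an anisotropic plane with orthogonal vectors `u`, `v`: `- Q v / Q u` is not a square. -/
theorem aniso_not_sq (h2 : (2 : F) ≠ 0) {Q : QuadraticForm F V} {A : Submodule F V}
    (han : ∀ a ∈ A, Q a = 0 → a = 0) {u v : V} (hu : u ∈ A) (hv : v ∈ A) (hv0 : v ≠ 0)
    (huv : QuadraticMap.polar Q u v = 0) {c : F} (hc : c ≠ 0) (hQu : Q u = c) (s : F) :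
    Q v ≠ -(c * (s * s)) := by
  intro hQv
  have h1 : Q (s • u + v) = 0 := by
    rw [QuadraticMap.map_add Q, QuadraticMap.map_smul, hQu, QuadraticMap.polar_smul_left, huv, hQv]
    simp only [smul_eq_mul, mul_zero, add_zero]
    ring
  have h3 := han _ (A.add_mem (A.smul_mem s hu) hv) h1
  have h4 : QuadraticMap.polar Q u (s • u + v) = 0 := by rw [h3, QuadraticMap.polar_zero_right]
  rw [QuadraticMap.polar_add_right, QuadraticMap.polar_smul_right, polar_self', hQu, huv, add_zero,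
    smul_eq_mul] at h4
  have hs : s = 0 := by
    rcases mul_eq_zero.mp h4 with h | h
    · exact h
    · exact absurd h (mul_ne_zero h2 hc)
  rw [hs, zero_smul, zero_add] at h3
  exact hv0 h3

/-- the quotient of two nonsquares of a finite field is a square. -/
theorem exists_sq_mul_of_not_isSquare [Fintype F] {a b : F} (ha : ¬ IsSquare a) (hb : ¬ IsSquare b) :
    ∃ s : F, a = s * s * b := by
  classical
  have hb0 : b ≠ 0 := by
    rintro rfl
    exact hb ⟨0, (mul_zero 0).symm⟩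
  have ha0 : a ≠ 0 := by
    rintro rfl
    exact ha ⟨0, (mul_zero 0).symm⟩
  have h1 : quadraticChar F (a * b) = 1 := by
    rw [map_mul, quadraticChar_neg_one_iff_not_isSquare.mpr ha, quadraticChar_neg_one_iff_not_isSquare.mpr hb]
    norm_num
  obtain ⟨t, ht⟩ := (quadraticChar_one_iff_isSquare (mul_ne_zero ha0 hb0)).mp h1
  refine ⟨t / b, ?_⟩
  field_simp
  linear_combination ht

/-- **two anisotropic planes**: their orthogonal sum is of plus type (odd characteristic). -/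
theorem hyp_aniso_sup_odd [Fintype F] [FiniteDimensional F V] (h2 : (2 : F) ≠ 0) {Q : QuadraticForm F V}
    {A₁ A₂ : Submodule F V} (h₁ : ND (QuadraticMap.polarBilin Q) A₁) (h₂ : ND (QuadraticMap.polarBilin Q) A₂)
    (h12 : A₂ ≤ LinearMap.BilinForm.orthogonal (QuadraticMap.polarBilin Q) A₁)
    (hd₁ : finrank F ↥A₁ = 2) (hd₂ : finrank F ↥A₂ = 2)
    (han₁ : ∀ a ∈ A₁, Q a = 0 → a = 0) (han₂ : ∀ a ∈ A₂, Q a = 0 → a = 0) : Hyp Q (A₁ ⊔ A₂) := by
  classical
  obtain ⟨u₁, hu₁, hQu₁⟩ := exists_repr_in h₁ (by omega) (1 : F)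
  obtain ⟨u₂, hu₂, hQu₂⟩ := exists_repr_in h₂ (by omega) (-1 : F)
  have hu₁u₁ : QuadraticMap.polar Q u₁ u₁ ≠ 0 := by
    rw [polar_self', hQu₁, mul_one]; exact h2
  have hu₂u₂ : QuadraticMap.polar Q u₂ u₂ ≠ 0 := by
    rw [polar_self', hQu₂, mul_neg, mul_one]; exact neg_ne_zero.mpr h2
  obtain ⟨v₁, hv₁, hv₁0, huv₁⟩ := exists_perp_in_plane hd₁ hu₁ hu₁u₁
  obtain ⟨v₂, hv₂, hv₂0, huv₂⟩ := exists_perp_in_plane hd₂ hu₂ hu₂u₂
  have hns₁ : ¬ IsSquare (-(Q v₁)) := by
    rintro ⟨s, hs⟩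
    apply aniso_not_sq h2 han₁ hu₁ hv₁ hv₁0 huv₁ one_ne_zero hQu₁ s
    rw [one_mul, ← hs, neg_neg]
  have hns₂ : ¬ IsSquare (Q v₂) := by
    rintro ⟨s, hs⟩
    apply aniso_not_sq h2 han₂ hu₂ hv₂ hv₂0 huv₂ (neg_ne_zero.mpr one_ne_zero) hQu₂ s
    rw [hs]
    ring
  obtain ⟨s, hs⟩ := exists_sq_mul_of_not_isSquare hns₁ hns₂
  have hperp : ∀ x ∈ A₁, ∀ y ∈ A₂, QuadraticMap.polar Q x y = 0 := fun x hx y hy => mem_perp.mp (h12 hy) x hx
  obtain ⟨e₁, he₁⟩ : ∃ e₁, e₁ = u₁ + u₂ := ⟨_, rfl⟩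
  obtain ⟨e₂, he₂⟩ : ∃ e₂, e₂ = v₁ + s • v₂ := ⟨_, rfl⟩
  have hQe₁ : Q e₁ = 0 := by
    rw [he₁, QuadraticMap.map_add Q, hQu₁, hQu₂, hperp u₁ hu₁ u₂ hu₂]
    ring
  have hQe₂ : Q e₂ = 0 := by
    rw [he₂, QuadraticMap.map_add Q, QuadraticMap.map_smul, QuadraticMap.polar_smul_right,
      hperp v₁ hv₁ v₂ hv₂, smul_zero, add_zero, smul_eq_mul]
    linear_combination -hs
  have he₁₂ : QuadraticMap.polar Q e₁ e₂ = 0 := by
    rw [he₁, he₂, QuadraticMap.polar_add_left, QuadraticMap.polar_add_right, QuadraticMap.polar_add_right,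
      QuadraticMap.polar_smul_right, QuadraticMap.polar_smul_right, huv₁, huv₂, hperp u₁ hu₁ v₂ hv₂,
      QuadraticMap.polar_comm Q u₂ v₁, hperp v₁ hv₁ u₂ hu₂]
    simp
  have he₁W : e₁ ∈ A₁ ⊔ A₂ := by
    rw [he₁]; exact Submodule.add_mem _ (Submodule.mem_sup_left hu₁) (Submodule.mem_sup_right hu₂)
  have he₂W : e₂ ∈ A₁ ⊔ A₂ := by
    rw [he₂]
    exact Submodule.add_mem _ (Submodule.mem_sup_left hv₁) (Submodule.mem_sup_right (A₂.smul_mem s hv₂))
  have hli : LinearIndependent F ![e₁, e₂] := by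
    rw [LinearIndependent.pair_iff]
    intro a b hab
    have h5 : QuadraticMap.polar Q u₁ (a • e₁ + b • e₂) = 0 := by rw [hab, QuadraticMap.polar_zero_right]
    rw [he₁, he₂, QuadraticMap.polar_add_right, QuadraticMap.polar_smul_right, QuadraticMap.polar_smul_right,
      QuadraticMap.polar_add_right, QuadraticMap.polar_add_right, QuadraticMap.polar_smul_right, huv₁,
      hperp u₁ hu₁ u₂ hu₂, hperp u₁ hu₁ v₂ hv₂, polar_self', hQu₁] at h5
    simp only [smul_eq_mul, mul_zero, add_zero, mul_one] at h5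
    have ha : a = 0 := (mul_eq_zero.mp h5).resolve_right h2
    have h6 : QuadraticMap.polar Q v₁ (a • e₁ + b • e₂) = 0 := by rw [hab, QuadraticMap.polar_zero_right]
    rw [ha, zero_smul, zero_add, he₂, QuadraticMap.polar_smul_right, QuadraticMap.polar_add_right,
      QuadraticMap.polar_smul_right, hperp v₁ hv₁ v₂ hv₂, polar_self'] at h6
    simp only [smul_eq_mul, mul_zero, add_zero] at h6
    have hQv₁ : Q v₁ ≠ 0 := fun h => hv₁0 (han₁ v₁ hv₁ h)
    have hb : b = 0 := by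
      rcases mul_eq_zero.mp h6 with h | h
      · exact h
      · exact absurd h (mul_ne_zero h2 hQv₁)
    exact ⟨ha, hb⟩
  refine ⟨pairSpan F e₁ e₂, pairSpan_le he₁W he₂W, ?_, ?_⟩
  · intro w hw
    obtain ⟨a, b, rfl⟩ := mem_pairSpan.mp hw
    rw [QuadraticMap.map_add Q, QuadraticMap.map_smul, QuadraticMap.map_smul, hQe₁, hQe₂,
      QuadraticMap.polar_smul_left, QuadraticMap.polar_smul_right, he₁₂]
    simp
  · rw [finrank_sup_of_le_perp (pB_refl Q) h₁ h12, hd₁, hd₂]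
    unfold pairSpan
    rw [finrank_span_eq_card hli, Fintype.card_fin]

/-- **sums of two spaces that are not of plus type** (odd characteristic). -/
theorem hyp_sup_of_not_hyp_odd [Fintype F] [FiniteDimensional F V] (h2 : (2 : F) ≠ 0) {Q : QuadraticForm F V}
    (hV : ND (QuadraticMap.polarBilin Q) ⊤) {W₁ W₂ : Submodule F V}
    (h₁ : ND (QuadraticMap.polarBilin Q) W₁) (h₂ : ND (QuadraticMap.polarBilin Q) W₂)
    (h12 : W₂ ≤ LinearMap.BilinForm.orthogonal (QuadraticMap.polarBilin Q) W₁)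
    (he₁ : Even (finrank F ↥W₁)) (he₂ : Even (finrank F ↥W₂)) (hn₁ : ¬ Hyp Q W₁) (hn₂ : ¬ Hyp Q W₂) :
    Hyp Q (W₁ ⊔ W₂) := by
  have hrefl := pB_refl Q
  have hpos : ∀ W : Submodule F V, Even (finrank F ↥W) → ¬ Hyp Q W → ∃ h, finrank F ↥W = 2 * h + 2 := by
    intro W hev hn
    obtain ⟨k, hk⟩ := hev
    have hk0 : k ≠ 0 := by
      rintro rfl
      apply hn
      have : W = ⊥ := by
        rw [← Submodule.finrank_eq_zero (R := F)]
        omega
      rw [this]
      exact hyp_bot Q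
    exact ⟨k - 1, by omega⟩
  obtain ⟨k₁, hk₁⟩ := hpos W₁ he₁ hn₁
  obtain ⟨k₂, hk₂⟩ := hpos W₂ he₂ hn₂
  obtain ⟨H₁, A₁, hH₁W, hA₁W, hH₁nd, hH₁y, hH₁d, hA₁nd, hA₁d, hA₁H, hsum₁, han₁⟩ :=
    exists_hyp_aniso hV h₁ hk₁ hn₁
  obtain ⟨H₂, A₂, hH₂W, hA₂W, hH₂nd, hH₂y, hH₂d, hA₂nd, hA₂d, hA₂H, hsum₂, han₂⟩ :=
    exists_hyp_aniso hV h₂ hk₂ hn₂
  have hperp : ∀ x ∈ W₁, ∀ y ∈ W₂, QuadraticMap.polarBilin Q x y = 0 := fun x hx y hy => mem_perp.mp (h12 hy) x hx
  have hA12 : A₂ ≤ LinearMap.BilinForm.orthogonal (QuadraticMap.polarBilin Q) A₁ := by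
    intro y hy
    rw [mem_perp]
    intro x hx
    exact hperp x (hA₁W hx) y (hA₂W hy)
  have hAy := hyp_aniso_sup_odd h2 hA₁nd hA₂nd hA12 hA₁d hA₂d han₁ han₂
  have hAnd : ND (QuadraticMap.polarBilin Q) (A₁ ⊔ A₂) := nd_sup hrefl hA₁nd hA₂nd hA12
  -- `H₂ ⊥ (A₁ + A₂)`
  have hH₂A : A₁ ⊔ A₂ ≤ LinearMap.BilinForm.orthogonal (QuadraticMap.polarBilin Q) H₂ := by
    refine sup_le ?_ hA₂H
    intro y hy
    rw [mem_perp]
    intro x hx
    exact hrefl _ _ (hperp y (hA₁W hy) x (hH₂W hx))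
  have hy2 := hyp_sup hH₂nd hH₂A hH₂y hAy
  have hnd2 : ND (QuadraticMap.polarBilin Q) (H₂ ⊔ (A₁ ⊔ A₂)) := nd_sup hrefl hH₂nd hAnd hH₂A
  have hH₁rest : H₂ ⊔ (A₁ ⊔ A₂) ≤ LinearMap.BilinForm.orthogonal (QuadraticMap.polarBilin Q) H₁ := by
    refine sup_le ?_ (sup_le hA₁H ?_)
    · intro y hy
      rw [mem_perp]
      intro x hx
      exact hperp x (hH₁W hx) y (hH₂W hy)
    · intro y hy
      rw [mem_perp]
      intro x hx
      exact hperp x (hH₁W hx) y (hA₂W hy)
  have hy3 := hyp_sup hH₁nd hH₁rest hH₁y hy2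
  have heq : H₁ ⊔ (H₂ ⊔ (A₁ ⊔ A₂)) = W₁ ⊔ W₂ := by
    rw [← hsum₁, ← hsum₂]
    simp only [sup_assoc, sup_left_comm, sup_comm]
  rwa [heq] at hy3

/-- an anisotropic plane inside a nondegenerate space of dimension at least three (odd characteristic). -/
theorem exists_aniso_plane_odd [Fintype F] [FiniteDimensional F V] (h2 : (2 : F) ≠ 0) {Q : QuadraticForm F V}
    {N : Submodule F V} (hN : ND (QuadraticMap.polarBilin Q) N) (h3 : 3 ≤ finrank F ↥N) :
    ∃ A : Submodule F V, A ≤ N ∧ ND (QuadraticMap.polarBilin Q) A ∧ finrank F ↥A = 2 ∧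
      ∀ a ∈ A, Q a = 0 → a = 0 := by
  classical
  have hrefl := pB_refl Q
  obtain ⟨ν, hν⟩ := Cfsg.Agent.Helper8.OmegaOdd.exists_nonsquare (F := F) h2
  have hν0 : ν ≠ 0 := by
    rintro rfl
    exact hν ⟨0, (mul_zero 0).symm⟩
  obtain ⟨u, hu, hQu⟩ := exists_repr_in hN (by omega) (1 : F)
  have huu : QuadraticMap.polar Q u u = 2 := by rw [polar_self', hQu, mul_one]
  have hu0 : u ≠ 0 := by
    rintro rfl
    rw [QuadraticMap.map_zero] at hQu
    exact zero_ne_one hQu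
  -- the line of `u` is nondegenerate
  have hLnd : ND (QuadraticMap.polarBilin Q) (Submodule.span F {u}) := by
    intro x hx hx0
    obtain ⟨c, rfl⟩ := Submodule.mem_span_singleton.mp hx
    refine ⟨u, Submodule.mem_span_singleton_self u, ?_⟩
    rw [pB_apply, QuadraticMap.polar_smul_left, huu, smul_eq_mul]
    refine mul_ne_zero ?_ h2
    rintro rfl
    exact hx0 (zero_smul _ _)
  have hLN : Submodule.span F {u} ≤ N := by
    rw [Submodule.span_singleton_le_iff_mem]; exact hu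
  have hN'nd := nd_perp_inf hrefl hLnd hN hLN
  have hN'd := finrank_perp_inf hrefl hLnd hLN
  rw [finrank_span_singleton hu0] at hN'd
  obtain ⟨v, hv, hQv⟩ := exists_repr_in hN'nd (by omega) (-ν)
  have huv : QuadraticMap.polar Q u v = 0 := mem_perp.mp hv.1 u (Submodule.mem_span_singleton_self u)
  have hvu : QuadraticMap.polar Q v u = 0 := by rw [QuadraticMap.polar_comm]; exact huv
  have hvv : QuadraticMap.polar Q v v = 2 * -ν := by rw [polar_self', hQv]
  have hQ : ∀ a b : F, Q (a • u + b • v) = a * a - ν * (b * b) := by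
    intro a b
    rw [QuadraticMap.map_add Q, QuadraticMap.map_smul, QuadraticMap.map_smul, hQu, hQv,
      QuadraticMap.polar_smul_left, QuadraticMap.polar_smul_right, huv]
    simp only [smul_eq_mul, mul_zero, add_zero, mul_one, mul_neg]
    ring
  have hli : LinearIndependent F ![u, v] := by
    refine linearIndependent_of_dual Q ![u, v] ![u, v] ![2, 2 * -ν] ?_ ?_
    · intro i
      fin_cases i
      · exact h2
      · exact mul_ne_zero h2 (neg_ne_zero.mpr hν0)
    · intro i i'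
      fin_cases i <;> fin_cases i'
      · simpa using huu
      · simpa using huv
      · simpa using hvu
      · simpa using hvv
  have han : ∀ a b : F, a * a - ν * (b * b) = 0 → a = 0 ∧ b = 0 := by
    intro a b hab
    have hb : b = 0 := by
      by_contra hb
      apply hν
      refine ⟨a / b, ?_⟩
      field_simp
      linear_combination -hab
    rw [hb, mul_zero, mul_zero, sub_zero] at hab
    exact ⟨mul_self_eq_zero.mp hab, hb⟩
  refine ⟨pairSpan F u v, pairSpan_le hu hv.2, ?_, ?_, ?_⟩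
  · intro x hx hx0
    obtain ⟨a, b, rfl⟩ := mem_pairSpan.mp hx
    by_cases ha : a = 0
    · have hb : b ≠ 0 := by
        rintro rfl
        apply hx0
        rw [ha, zero_smul, zero_smul, add_zero]
      refine ⟨v, right_mem_pairSpan u v, ?_⟩
      rw [pB_apply, QuadraticMap.polar_add_left, QuadraticMap.polar_smul_left, QuadraticMap.polar_smul_left,
        huv, hvv]
      simp only [smul_eq_mul, mul_zero, zero_add]
      exact mul_ne_zero hb (mul_ne_zero h2 (neg_ne_zero.mpr hν0))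
    · refine ⟨u, left_mem_pairSpan u v, ?_⟩
      rw [pB_apply, QuadraticMap.polar_add_left, QuadraticMap.polar_smul_left, QuadraticMap.polar_smul_left,
        huu, hvu]
      simp only [smul_eq_mul, mul_zero, add_zero]
      exact mul_ne_zero ha h2
  · unfold pairSpan
    rw [finrank_span_eq_card hli, Fintype.card_fin]
  · intro x hx hQx
    obtain ⟨a, b, rfl⟩ := mem_pairSpan.mp hx
    rw [hQ] at hQx
    obtain ⟨ha, hb⟩ := han a b hQx
    rw [ha, hb, zero_smul, zero_smul, add_zero]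

/-- **subspaces not of plus type**, of every even dimension below the dimension (odd characteristic). -/
theorem exists_not_hyp_sub_odd [Fintype F] [FiniteDimensional F V] (h2 : (2 : F) ≠ 0) {Q : QuadraticForm F V}
    (hV : ND (QuadraticMap.polarBilin Q) ⊤) {N : Submodule F V} (hN : ND (QuadraticMap.polarBilin Q) N)
    {h : ℕ} (hh : 2 * h + 2 < finrank F ↥N) :
    ∃ W : Submodule F V, W ≤ N ∧ ND (QuadraticMap.polarBilin Q) W ∧ finrank F ↥W = 2 * h + 2 ∧ ¬ Hyp Q W := by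
  have hrefl := pB_refl Q
  obtain ⟨H, hHN, hHnd, hHd, hHy⟩ := exists_hyp_sub hV hN (h := h) (by omega)
  have hN'nd := nd_perp_inf hrefl hHnd hN hHN
  have hN'd := finrank_perp_inf hrefl hHnd hHN
  obtain ⟨A, hAN', hAnd, hAd, han⟩ := exists_aniso_plane_odd h2 hN'nd (by omega)
  have hAH : A ≤ LinearMap.BilinForm.orthogonal (QuadraticMap.polarBilin Q) H := hAN'.trans inf_le_left
  refine ⟨H ⊔ A, sup_le hHN (hAN'.trans inf_le_right), nd_sup hrefl hHnd hAnd hAH, ?_, ?_⟩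
  · rw [finrank_sup_of_le_perp hrefl hHnd hAH, hHd, hAd]
  · intro hy
    obtain ⟨U, hUA, hU, hUd⟩ := hyp_cancel hV _ H A rfl hHnd hAnd hAH hHy hy
    have hUne : U ≠ ⊥ := by
      intro h0
      rw [h0, finrank_bot] at hUd
      omega
    obtain ⟨a, haU, ha0⟩ := Submodule.exists_mem_ne_zero_of_ne_bot hUne
    exact ha0 (han a (hUA haU) (hU a haU))

end Cfsg.Agent.Helper7.QTy
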