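import Mathlib
import Cfsg.Agent.Helper7.QTyC

set_option autoImplicit false
set_option linter.unusedSectionVars false
set_option linter.unusedVariables false

/-!
# Quadratic spaces: the number of singular vectors of a plus type space; fixed point free isometries of prime
order on spaces of minimal dimension are of minus type
-/

namespace Cfsg.Agent.Helper7.QTy

open Module Cfsg.Agent.Helper7.POrd Cfsg.Agent.Helper7.SpOrd Cfsg.Agent.Helper7.SpTI
  Cfsg.Agent.Helper7.OrTS Cfsg.Agent.Helper8.QuadForm Cfsg.Agent.Helper8.OrthOrder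

variable {F : Type*} [Field F] {V : Type*} [AddCommGroup V] [Module F V]

/-- the complement of a pair inside a subspace, as a subspace of the subspace. -/
def perpPairSubEquiv (Q : QuadraticForm F V) (W : Submodule F V) {e f : V} (he : e ∈ W) (hf : f ∈ W) :
    ↥(perpPair (Q.comp W.subtype) ⟨e, he⟩ ⟨f, hf⟩) ≃ ↥(perpPair Q e f ⊓ W) where
  toFun w := ⟨(w.1 : V), (mem_perpPair Q e f _).mpr ((mem_perpPair (Q.comp W.subtype) _ _ _).mp w.2), w.1.2⟩
  invFun w := ⟨⟨w.1, w.2.2⟩, (mem_perpPair (Q.comp W.subtype) _ _ _).mpr ((mem_perpPair Q e f _).mp w.2.1)⟩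
  left_inv w := rfl
  right_inv w := rfl

/-- singular vectors: splitting off a hyperbolic pair inside a subspace. -/
theorem card_singular_sub [Fintype F] [FiniteDimensional F V] (Q : QuadraticForm F V) {W : Submodule F V}
    {e f : V} (heW : e ∈ W) (hfW : f ∈ W) (he : Q e = 0) (hf : Q f = 0)
    (hef : QuadraticMap.polar Q e f = 1) :
    Nat.card {w : ↥W // Q (w : V) = 0} =
      Nat.card {w : ↥(perpPair Q e f ⊓ W) // Q (w : V) = 0} * Fintype.card F +
        Fintype.card F ^ finrank F ↥(perpPair Q e f ⊓ W) * (Fintype.card F - 1) := by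
  have h1 := card_singular (Q.comp W.subtype) (e := ⟨e, heW⟩) (f := ⟨f, hfW⟩) he hf hef
  have h2 : Nat.card {w : ↥(perpPair (Q.comp W.subtype) ⟨e, heW⟩ ⟨f, hfW⟩) //
      (Q.comp W.subtype) (w : ↥W) = 0} = Nat.card {w : ↥(perpPair Q e f ⊓ W) // Q (w : V) = 0} :=
    Nat.card_congr (Equiv.subtypeEquiv (perpPairSubEquiv Q W heW hfW) (fun w => Iff.rfl))
  have h3 : Nat.card ↥(perpPair (Q.comp W.subtype) ⟨e, heW⟩ ⟨f, hfW⟩) =
      Fintype.card F ^ finrank F ↥(perpPair Q e f ⊓ W) := by
    rw [Nat.card_congr (perpPairSubEquiv Q W heW hfW), card_space (F := F)]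
  rw [h2, h3] at h1
  exact h1

/-- **the number of singular vectors of a plus type space.** -/
theorem card_singular_hyp [Fintype F] [FiniteDimensional F V] {Q : QuadraticForm F V}
    (hV : ND (QuadraticMap.polarBilin Q) ⊤) : ∀ (h : ℕ) (W : Submodule F V),
      ND (QuadraticMap.polarBilin Q) W → finrank F ↥W = 2 * h → Hyp Q W →
      Nat.card {w : ↥W // Q (w : V) = 0} * Fintype.card F =
        Fintype.card F ^ h * (Fintype.card F ^ h + (Fintype.card F - 1)) := by
  intro h
  obtain ⟨q, hq⟩ : ∃ q, q = Fintype.card F := ⟨_, rfl⟩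
  have hqpos : 0 < q := by rw [hq]; exact Fintype.card_pos
  obtain ⟨t, ht⟩ : ∃ t, q = t + 1 := ⟨q - 1, by omega⟩
  rw [← hq]
  have ht' : q - 1 = t := by omega
  induction h with
  | zero =>
    intro W hW hd hy
    have hW0 : W = ⊥ := by
      rw [← Submodule.finrank_eq_zero (R := F)]
      omega
    haveI : Unique {w : ↥W // Q (w : V) = 0} :=
      { default := ⟨0, by rw [Submodule.coe_zero, QuadraticMap.map_zero]⟩
        uniq := by
          rintro ⟨w, hw⟩
          apply Subtype.ext
          apply Subtype.ext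
          exact (Submodule.eq_bot_iff W).mp hW0 w w.2 }
    rw [Nat.card_unique, pow_zero, ht']
    omega
  | succ h ih =>
    intro W hW hd hy
    obtain ⟨U, hUW, hU, hUd⟩ := hy
    have hUne : U ≠ ⊥ := by
      intro h0
      rw [h0, finrank_bot] at hUd
      omega
    obtain ⟨e, heU, he0⟩ := Submodule.exists_mem_ne_zero_of_ne_bot hUne
    have heW := hUW heU
    have hQe := hU e heU
    obtain ⟨f, hfW, hQf, hef⟩ := exists_partner hW heW he0 hQe
    obtain ⟨hnd', hdim', -⟩ := perpPair_inf_props hQe hQf hef hW heW hfW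
    have hy' := hyp_perpPair_inf hQe hQf hef hV hW heW hfW ⟨U, hUW, hU, hUd⟩
    have hd' : finrank F ↥(perpPair Q e f ⊓ W) = 2 * h := by omega
    have h1 := ih _ hnd' hd' hy'
    have h2 := card_singular_sub Q heW hfW hQe hQf hef
    rw [hd', ← hq] at h2
    rw [h2, ht'] at *
    obtain ⟨N', hN'⟩ : ∃ N', N' = Nat.card {w : ↥(perpPair Q e f ⊓ W) // Q (w : V) = 0} := ⟨_, rfl⟩
    rw [← hN'] at h1 ⊢
    have key : q ^ h * t + q ^ h = q ^ (h + 1) := by rw [pow_succ, ht]; ring
    have e1 : q ^ (2 * h) = q ^ h * q ^ h := by rw [← pow_add]; congr 1; omega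
    calc (N' * q + q ^ (2 * h) * t) * q = q * (N' * q) + q ^ h * q ^ h * t * q := by rw [e1]; ring
      _ = q * (q ^ h * (q ^ h + t)) + q ^ h * q ^ h * t * q := by rw [h1]
      _ = q ^ (h + 1) * (q ^ h * t + q ^ h + t) := by rw [pow_succ]; ring
      _ = q ^ (h + 1) * (q ^ (h + 1) + t) := by rw [key]

section irred

variable [Fintype F] [Finite V] {p : ℕ} [Fact p.Prime] [CharP F p] {r : ℕ} [Fact r.Prime]

/-- **minus type of the minimal blocks**: a nondegenerate invariant subspace of dimension `i` (even) without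
fixed vectors is not of plus type. -/
theorem not_hyp_of_irred (hr2 : r ≠ 2) (hrp : r ≠ p) {Q : QuadraticForm F V}
    (hV : ND (QuadraticMap.polarBilin Q) ⊤) {T : Module.End F V} (hQT : ∀ v, Q (T v) = Q v) (hT : T ^ r = 1)
    {U : Submodule F V} (hU : U ∈ Module.End.invtSubmodule T) (hUnd : ND (QuadraticMap.polarBilin Q) U)
    (hfix : U ⊓ fixS T = ⊥) (hev : Even (orderOf ((Fintype.card F : ℕ) : ZMod r)))
    (hdim : finrank F ↥U = orderOf ((Fintype.card F : ℕ) : ZMod r)) : ¬ Hyp Q U := by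
  classical
  intro hy
  have hfd : FiniteDimensional F V := Module.Finite.of_finite
  have hr : r.Prime := Fact.out
  obtain ⟨h, hh⟩ := hev
  have hh' : orderOf ((Fintype.card F : ℕ) : ZMod r) = 2 * h := by omega
  have hipos := orderOf_q_pos (F := F) hrp
  have hh1 : 1 ≤ h := by omega
  have hcount := card_singular_hyp hV h U hUnd (by rw [hdim, hh']) hy
  -- the permutation
  haveI : Fintype {u : ↥U // Q (u : V) = 0} := Fintype.ofFinite _
  have hUT : ∀ u ∈ U, T u ∈ U := fun u hu => (Module.End.mem_invtSubmodule T).mp hU hu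
  obtain ⟨g, hg⟩ : ∃ g : Function.End {u : ↥U // Q (u : V) = 0},
      ∀ s, ((g s).1 : V) = T (s.1 : V) :=
    ⟨fun s => ⟨⟨T (s.1 : V), hUT _ s.1.2⟩, by rw [hQT]; exact s.2⟩, fun s => rfl⟩
  have hiter : ∀ n : ℕ, ∀ s, (((g ^ n) s).1 : V) = (T ^ n) (s.1 : V) := by
    intro n
    induction n with
    | zero =>
      intro s
      rw [pow_zero, pow_zero, Module.End.one_apply]
      rfl
    | succ n ih =>
      intro s
      rw [pow_succ', pow_succ', Module.End.mul_apply, ← ih, ← hg]
      rfl
  have hgr : g ^ r ^ 1 = 1 := by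
    rw [pow_one]
    funext s
    apply Subtype.ext
    apply Subtype.ext
    rw [hiter, hT, Module.End.one_apply]
    rfl
  have hmod := Equiv.Perm.card_fixedPoints_modEq (p := r) (n := 1) hgr
  have hzero : ∀ s : {u : ↥U // Q (u : V) = 0}, g s = s → (s.1 : V) = 0 := by
    intro s hs
    have h1 : T (s.1 : V) = (s.1 : V) := by
      rw [← hg, hs]
    have h2 : (s.1 : V) ∈ U ⊓ fixS T := ⟨s.1.2, mem_fixS.mpr h1⟩
    rw [hfix, Submodule.mem_bot] at h2
    exact h2
  have hfixed : Nat.card (Function.fixedPoints g) = 1 := by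
    rw [Nat.card_eq_one_iff_unique]
    constructor
    · constructor
      rintro ⟨s, hs⟩ ⟨s', hs'⟩
      apply Subtype.ext
      apply Subtype.ext
      apply Subtype.ext
      rw [hzero s hs, hzero s' hs']
    · refine ⟨⟨⟨0, by rw [Submodule.coe_zero, QuadraticMap.map_zero]⟩, ?_⟩⟩
      show g _ = _
      apply Subtype.ext
      apply Subtype.ext
      rw [hg]
      simp
  rw [Fintype.card_eq_nat_card, Fintype.card_eq_nat_card, hfixed] at hmod
  -- in `ZMod r`
  obtain ⟨N, hN⟩ : ∃ N, N = Nat.card {u : ↥U // Q (u : V) = 0} := ⟨_, rfl⟩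
  rw [← hN] at hmod hcount
  have hN1 : ((N : ℕ) : ZMod r) = 1 := by
    have := (ZMod.natCast_eq_natCast_iff N 1 r).mpr hmod
    rwa [Nat.cast_one] at this
  obtain ⟨q, hq⟩ : ∃ q, q = Fintype.card F := ⟨_, rfl⟩
  rw [← hq] at hcount hh'
  have hqpos : 0 < q := by rw [hq]; exact Fintype.card_pos
  obtain ⟨t, ht⟩ : ∃ t, q = t + 1 := ⟨q - 1, by omega⟩
  have ht' : q - 1 = t := by omega
  rw [ht'] at hcount
  have hcast := congrArg (fun n : ℕ => (n : ZMod r)) hcount
  simp only [Nat.cast_mul, Nat.cast_pow, Nat.cast_add] at hcast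
  rw [hN1, one_mul] at hcast
  have htq : ((t : ℕ) : ZMod r) = (q : ZMod r) - 1 := by
    rw [ht]; push_cast; ring
  rw [htq] at hcast
  have hq0 : (q : ZMod r) ≠ 0 := by rw [hq]; exact card_natCast_ne_zero (F := F) hrp
  have hprod : ((q : ZMod r) ^ h - 1) * ((q : ZMod r) ^ h + (q : ZMod r)) = 0 := by
    linear_combination -hcast
  rcases mul_eq_zero.mp hprod with h1 | h1
  · have h2 : (q : ZMod r) ^ h = 1 := by linear_combination h1
    have h3 := orderOf_dvd_of_pow_eq_one h2
    rw [hh'] at h3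
    have := Nat.le_of_dvd (by omega) h3
    omega
  · obtain ⟨h', rfl⟩ : ∃ h', h = h' + 1 := ⟨h - 1, by omega⟩
    have h2 : (q : ZMod r) ^ h' = -1 := by
      have : (q : ZMod r) * ((q : ZMod r) ^ h' + 1) = 0 := by
        rw [pow_succ] at h1
        linear_combination h1
      rcases mul_eq_zero.mp this with h | h
      · exact absurd h hq0
      · linear_combination h
    have h3 : (q : ZMod r) ^ (2 * h') = 1 := by
      rw [mul_comm, pow_mul, h2]
      norm_num
    have h4 := orderOf_dvd_of_pow_eq_one h3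
    rw [hh'] at h4
    have h5 : h' = 0 := by
      by_contra hne
      have := Nat.le_of_dvd (by omega) h4
      omega
    rw [h5, pow_zero] at h2
    -- `1 = -1` in `ZMod r`, `r` odd
    have h6 : ((2 : ℕ) : ZMod r) = 0 := by
      push_cast
      linear_combination h2
    rw [ZMod.natCast_eq_zero_iff] at h6
    have := (Nat.prime_dvd_prime_iff_eq hr Nat.prime_two).mp h6
    exact hr2 this

end irred

end Cfsg.Agent.Helper7.QTy
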