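import Mathlib
import Cfsg.Agent.Helper8.SpUK
import Cfsg.Agent.Helper7.SpTIC

/-!
# Unipotent isometries of alternating spaces: rank profiles relative to an invariant subspace
-/

set_option autoImplicit false

namespace Cfsg.Agent.Helper7.SpUn

open Module Cfsg.Agent.Helper7.POrd Cfsg.Agent.Helper7.SpOrd Cfsg.Agent.Helper8.UJ Cfsg.Agent.Helper8.Jordan
  Cfsg.Agent.Helper8.SpU

variable {F : Type*} [Field F] {V : Type*} [AddCommGroup V] [Module F V]

/-- the rank profile of `N` on the subspace `U`. -/
noncomputable def rprof (N : Module.End F V) (U : Submodule F V) (j : ℕ) : ℕ :=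
  finrank F ↥(U.map (N ^ j))

theorem rprof_zero (N : Module.End F V) (U : Submodule F V) : rprof N U 0 = finrank F ↥U := by
  unfold rprof
  rw [pow_zero, Module.End.one_eq_id, Submodule.map_id]

theorem map_pow_le {N : Module.End F V} {U : Submodule F V} (hU : U ∈ Module.End.invtSubmodule N) (j : ℕ) :
    U.map (N ^ j) ≤ U := by
  rw [Submodule.map_le_iff_le_comap]
  intro u hu
  exact invt_pow_apply hU hu j

/-- additivity of the profile over independent invariant subspaces. -/
theorem rprof_sup [FiniteDimensional F V] {N : Module.End F V} {C U' : Submodule F V}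
    (hC : C ∈ Module.End.invtSubmodule N) (hU' : U' ∈ Module.End.invtSubmodule N) (hdisj : Disjoint C U')
    (j : ℕ) : rprof N (C ⊔ U') j = rprof N C j + rprof N U' j := by
  unfold rprof
  rw [Submodule.map_sup]
  have hd : Disjoint (C.map (N ^ j)) (U'.map (N ^ j)) := hdisj.mono (map_pow_le hC j) (map_pow_le hU' j)
  have h := Submodule.finrank_sup_add_finrank_inf_eq (C.map (N ^ j)) (U'.map (N ^ j))
  rw [hd.eq_bot, finrank_bot, add_zero] at h
  exact h

theorem mprof_replicate (t k j : ℕ) : mprof (Multiset.replicate t k) j = t * (k - j) := by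
  unfold mprof
  rw [Multiset.map_replicate, Multiset.sum_replicate, smul_eq_mul]

/-- **the type**: the profile of a nilpotent map on an invariant subspace is that of a multiset. -/
theorem exists_type [FiniteDimensional F V] {N : Module.End F V} (hnil : IsNilpotent N) {U : Submodule F V}
    (hU : U ∈ Module.End.invtSubmodule N) :
    ∃ κ : Multiset ℕ, (∀ a ∈ κ, 1 ≤ a) ∧ ∀ j, rprof N U j = mprof κ j := by
  have hU' : ∀ x ∈ U, N x ∈ U := fun x hx => (Module.End.mem_invtSubmodule N).mp hU hx
  obtain ⟨φ, hφdef⟩ : ∃ φ : Module.End F ↥U, φ = N.restrict hU' := ⟨_, rfl⟩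
  have hpow : ∀ (j : ℕ) (u : ↥U), (((φ ^ j) u : ↥U) : V) = (N ^ j) (u : V) := by
    intro j
    induction j with
    | zero => intro u; simp
    | succ j ih =>
      intro u
      rw [pow_succ', Module.End.mul_apply, pow_succ', Module.End.mul_apply, ← ih, hφdef]
      rfl
  have hφ : IsNilpotent φ := by
    obtain ⟨n, hn⟩ := hnil
    refine ⟨n, ?_⟩
    ext u
    rw [hpow, hn]
    rfl
  obtain ⟨d, k, b, hb⟩ := exists_jordan_basis φ hφ
  have hJ : IsJordan φ k b := hb
  refine ⟨jtype k, ?_, fun j => ?_⟩
  · intro a ha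
    unfold jtype at ha
    exact (Multiset.mem_filter.mp ha).2
  · unfold jtype
    rw [mprof_filter_pos, mprof_map, ← hJ.finrank_range_pow]
    unfold rprof
    have hmap : U.map (N ^ j) = (LinearMap.range (φ ^ j)).map U.subtype := by
      ext x
      constructor
      · rintro ⟨u, hu, rfl⟩
        exact ⟨(φ ^ j) ⟨u, hu⟩, ⟨⟨u, hu⟩, rfl⟩, hpow j ⟨u, hu⟩⟩
      · rintro ⟨_, ⟨u, rfl⟩, rfl⟩
        exact ⟨(u : V), u.2, (hpow j u).symm⟩
    rw [hmap]
    exact (Submodule.equivMapOfInjective U.subtype U.injective_subtype _).finrank_eq.symm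

theorem mprof_cons (a : ℕ) (κ : Multiset ℕ) (j : ℕ) : mprof (a ::ₘ κ) j = (a - j) + mprof κ j := by
  unfold mprof
  rw [Multiset.map_cons, Multiset.sum_cons]

theorem mprof_pred_eq_count {k : ℕ} (hk : 1 ≤ k) (κ : Multiset ℕ) :
    (∀ a ∈ κ, a ≤ k) → mprof κ (k - 1) = κ.count k := by
  induction κ using Multiset.induction_on with
  | empty => intro _; simp [mprof]
  | cons a κ ih =>
    intro h
    have ha : a ≤ k := h a (Multiset.mem_cons_self a κ)
    rw [mprof_cons, ih (fun b hb => h b (Multiset.mem_cons_of_mem hb)), Multiset.count_cons]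
    split_ifs with hak
    · omega
    · omega

/-- a multiset of parts at most `k`, of total at most `t k`, with at least `t` parts equal to `k`. -/
theorem eq_replicate_of {κ : Multiset ℕ} {k t : ℕ} (hk : 1 ≤ k) (hpos : ∀ a ∈ κ, 1 ≤ a)
    (hle : ∀ a ∈ κ, a ≤ k) (hsum : κ.sum ≤ t * k) (hcnt : t ≤ mprof κ (k - 1)) :
    κ = Multiset.replicate t k := by
  classical
  rw [mprof_pred_eq_count hk κ hle] at hcnt
  have hsplit := Multiset.filter_add_not (fun a => k = a) κ
  rw [Multiset.filter_eq κ k] at hsplit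
  have hs : κ.sum = κ.count k * k + (κ.filter (fun a => ¬ k = a)).sum := by
    conv_lhs => rw [← hsplit]
    rw [Multiset.sum_add, Multiset.sum_replicate, smul_eq_mul]
  have h1 : t * k ≤ κ.count k * k := Nat.mul_le_mul_right k hcnt
  have hrest : (κ.filter (fun a => ¬ k = a)).sum = 0 := by omega
  have hrest0 : κ.filter (fun a => ¬ k = a) = 0 := by
    apply Multiset.eq_zero_of_forall_notMem
    intro x hx
    have h2 := (Multiset.sum_eq_zero_iff.mp hrest) x hx
    have h3 := hpos x (Multiset.mem_of_mem_filter hx)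
    omega
  have hct : κ.count k = t := by
    have h2 : κ.count k * k = t * k := by omega
    exact Nat.eq_of_mul_eq_mul_right hk h2
  rw [← hsplit, hrest0, add_zero, hct]

end Cfsg.Agent.Helper7.SpUn
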