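import Mathlib
import Cfsg.Agent.Helper7.SpUnA

/-!
# Unipotent isometries of alternating spaces: splitting off the blocks of the largest size
-/

set_option autoImplicit false

namespace Cfsg.Agent.Helper7.SpUn

open Module Cfsg.Agent.Helper7.POrd Cfsg.Agent.Helper7.SpOrd Cfsg.Agent.Helper8.UJ Cfsg.Agent.Helper8.Jordan
  Cfsg.Agent.Helper8.SpU

variable {F : Type*} [Field F] {V : Type*} [AddCommGroup V] [Module F V]
  {B : LinearMap.BilinForm F V} {T : Module.End F V}

theorem invt_sub_one {W : Submodule F V} (hW : W ∈ Module.End.invtSubmodule T) :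
    W ∈ Module.End.invtSubmodule (T - 1) := by
  rw [Module.End.mem_invtSubmodule] at hW ⊢
  intro w hw
  rw [Submodule.mem_comap, LinearMap.sub_apply, Module.End.one_apply]
  exact W.sub_mem (hW hw) hw

theorem invt_of_sub_one {W : Submodule F V} (hW : W ∈ Module.End.invtSubmodule (T - 1)) :
    W ∈ Module.End.invtSubmodule T := by
  rw [Module.End.mem_invtSubmodule] at hW ⊢
  intro w hw
  rw [Submodule.mem_comap]
  have h := hW hw
  rw [Submodule.mem_comap, LinearMap.sub_apply, Module.End.one_apply] at h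
  have : T w = (T w - w) + w := by abel
  rw [this]
  exact W.add_mem h hw

theorem adj_N (hiso : ∀ u v, B (T u) (T v) = B u v) (u v : V) :
    B ((T - 1) u) v = - B (T u) ((T - 1) v) := by
  rw [LinearMap.sub_apply, LinearMap.sub_apply, Module.End.one_apply, Module.End.one_apply, map_sub,
    LinearMap.sub_apply, map_sub, hiso]
  ring

theorem comm_T_N (j : ℕ) (u : V) : T (((T - 1) ^ j) u) = ((T - 1) ^ j) (T u) := by
  have h : Commute T ((T - 1) ^ j) := ((Commute.refl T).sub_right (Commute.one_right T)).pow_right j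
  have := congrArg (fun f : Module.End F V => f u) h.eq
  simpa [Module.End.mul_apply] using this

theorem adj_N_pow (hiso : ∀ u v, B (T u) (T v) = B u v) (j : ℕ) :
    ∀ u v : V, B (((T - 1) ^ j) u) v = (-1) ^ j * B ((T ^ j) u) (((T - 1) ^ j) v) := by
  induction j with
  | zero => intro u v; simp
  | succ j ih =>
    intro u v
    have e1 : ((T - 1) ^ (j + 1)) u = (T - 1) (((T - 1) ^ j) u) := by rw [pow_succ', Module.End.mul_apply]
    have e2 : ((T - 1) ^ (j + 1)) v = ((T - 1) ^ j) ((T - 1) v) := by rw [pow_succ, Module.End.mul_apply]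
    have e3 : (T ^ (j + 1)) u = (T ^ j) (T u) := by rw [pow_succ, Module.End.mul_apply]
    rw [e1, e2, e3, adj_N hiso, comm_T_N, ih]
    ring

theorem pow_fixed {f : V} (hf : T f = f) (j : ℕ) : (T ^ j) f = f := by
  induction j with
  | zero => simp
  | succ j ih => rw [pow_succ, Module.End.mul_apply, hf, ih]

/-- the symmetry of the top form. -/
theorem beta_symm (hB : B.IsAlt) (hiso : ∀ u v, B (T u) (T v) = B u v) {k : ℕ} (hk : 1 ≤ k) {u v : V}
    (hv : ((T - 1) ^ k) v = 0) :
    B (((T - 1) ^ (k - 1)) u) v = (-1) ^ k * B (((T - 1) ^ (k - 1)) v) u := by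
  have hfix : T (((T - 1) ^ (k - 1)) v) = ((T - 1) ^ (k - 1)) v := by
    have h1 : ((T - 1) ^ k) v = (T - 1) (((T - 1) ^ (k - 1)) v) := by
      conv_lhs => rw [show k = (k - 1) + 1 by omega, pow_succ', Module.End.mul_apply]
    rw [h1, LinearMap.sub_apply, Module.End.one_apply, sub_eq_zero] at hv
    exact hv
  rw [adj_N_pow hiso (k - 1) u v]
  have h2 : B ((T ^ (k - 1)) u) (((T - 1) ^ (k - 1)) v) = B u (((T - 1) ^ (k - 1)) v) := by
    conv_lhs => rw [← pow_fixed hfix (k - 1)]
    exact iso_pow hiso _ _ _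
  rw [h2, ← hB.neg_eq (((T - 1) ^ (k - 1)) v) u]
  have h3 : (-1 : F) ^ k = (-1) ^ (k - 1) * (-1) := by
    conv_lhs => rw [show k = (k - 1) + 1 by omega, pow_succ]
  rw [h3]
  ring

theorem pow_add_apply_eq_zero {N : Module.End F V} {k : ℕ} {u : V} (h : (N ^ k) u = 0) {n : ℕ} (hn : k ≤ n) :
    (N ^ n) u = 0 := by
  obtain ⟨e, rfl⟩ := Nat.exists_eq_add_of_le hn
  rw [add_comm, pow_add, Module.End.mul_apply, h, map_zero]

/-- **the cyclic pieces**: the span of the translates of vectors whose top form is nonsingular. -/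
theorem cyc_props [FiniteDimensional F V] (hB : B.IsAlt) (hiso : ∀ u v, B (T u) (T v) = B u v) {r : ℕ} (hr : 0 < r)
    (hTr : T ^ r = 1) (hnil : IsNilpotent (T - 1)) {U : Submodule F V} (hU : U ∈ Module.End.invtSubmodule T)
    {k : ℕ} (hk : 1 ≤ k) (hNk : ∀ u ∈ U, ((T - 1) ^ k) u = 0) {ι : Type*} [Fintype ι] (y : ι → V)
    (hy : ∀ a, y a ∈ U)
    (hβ : ∀ c : ι → F, c ≠ 0 → ∃ b, ∑ a, c a * B (((T - 1) ^ (k - 1)) (y a)) (y b) ≠ 0) :
    ∃ C : Submodule F V, C ≤ U ∧ C ∈ Module.End.invtSubmodule T ∧ ND B C ∧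
      ∀ j, rprof (T - 1) C j = Fintype.card ι * (k - j) := by
  classical
  obtain ⟨N, hN⟩ : ∃ N : Module.End F V, N = T - 1 := ⟨_, rfl⟩
  rw [← hN] at hnil hNk hβ ⊢
  have hUN : U ∈ Module.End.invtSubmodule N := by rw [hN]; exact invt_sub_one hU
  obtain ⟨gen, hgen⟩ : ∃ gen : ι × Fin k → V, gen = fun p => (N ^ (p.2 : ℕ)) (y p.1) := ⟨_, rfl⟩
  obtain ⟨C, hCdef⟩ : ∃ C : Submodule F V, C = Submodule.span F (Set.range gen) := ⟨_, rfl⟩
  have hgenC : ∀ p, gen p ∈ C := fun p => by rw [hCdef]; exact Submodule.subset_span ⟨p, rfl⟩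
  have hyC : ∀ a, y a ∈ C := by
    intro a
    have := hgenC (a, ⟨0, hk⟩)
    rw [hgen] at this
    simpa using this
  have hCU : C ≤ U := by
    rw [hCdef, Submodule.span_le]
    rintro _ ⟨p, rfl⟩
    rw [hgen]
    exact invt_pow_apply hUN (hy p.1) _
  have hCN : C ∈ Module.End.invtSubmodule N := by
    rw [Module.End.mem_invtSubmodule, ← Submodule.map_le_iff_le_comap, hCdef, Submodule.map_span,
      Submodule.span_le]
    rintro _ ⟨_, ⟨p, rfl⟩, rfl⟩
    rw [← hCdef]
    by_cases hp : (p.2 : ℕ) + 1 < k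
    · have := hgenC (p.1, ⟨(p.2 : ℕ) + 1, hp⟩)
      rw [hgen] at this ⊢
      simp only at this ⊢
      rw [← Module.End.mul_apply, ← pow_succ']
      exact this
    · rw [hgen]
      simp only
      rw [← Module.End.mul_apply, ← pow_succ']
      rw [pow_add_apply_eq_zero (hNk _ (hy p.1)) (by omega)]
      exact C.zero_mem
  have hCT : C ∈ Module.End.invtSubmodule T := by
    apply invt_of_sub_one
    rw [← hN]
    exact hCN
  -- the leading term
  have hcore : ∀ c : ι × Fin k → F, c ≠ 0 → ∃ (j : ℕ) (b : ι), B ((N ^ j) (∑ p, c p • gen p)) (y b) ≠ 0 := by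
    intro c hc
    obtain ⟨p₀, hp₀⟩ := Function.ne_iff.mp hc
    have hex : ∃ i, ∃ a, ∃ h : i < k, c (a, ⟨i, h⟩) ≠ 0 := ⟨(p₀.2 : ℕ), p₀.1, p₀.2.2, hp₀⟩
    obtain ⟨s, ⟨a₀, hsk, ha₀⟩, hmin'⟩ : ∃ s, (∃ a, ∃ h : s < k, c (a, ⟨s, h⟩) ≠ 0) ∧
        ∀ i < s, ¬ (∃ a, ∃ h : i < k, c (a, ⟨i, h⟩) ≠ 0) :=
      ⟨Nat.find hex, Nat.find_spec hex, fun i hi => Nat.find_min hex hi⟩
    have hmin : ∀ i, i < s → ∀ a, ∀ h : i < k, c (a, ⟨i, h⟩) = 0 := by
      intro i hi a h
      by_contra hne
      exact hmin' i hi ⟨a, h, hne⟩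
    have hsum : (N ^ (k - 1 - s)) (∑ p, c p • gen p) = ∑ a, c (a, ⟨s, hsk⟩) • (N ^ (k - 1)) (y a) := by
      rw [map_sum, Fintype.sum_prod_type]
      apply Finset.sum_congr rfl
      intro a _
      rw [Finset.sum_eq_single (⟨s, hsk⟩ : Fin k)]
      · rw [map_smul, hgen]
        simp only
        rw [← Module.End.mul_apply, ← pow_add]
        congr 3
        omega
      · intro i _ hi
        rw [map_smul, hgen]
        simp only
        rcases Nat.lt_or_ge (i : ℕ) s with hlt | hge
        · rw [hmin i hlt a i.2, zero_smul]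
        · have hgt : s < (i : ℕ) := by
            rcases Nat.lt_or_ge s (i : ℕ) with h | h
            · exact h
            · exact absurd (Fin.ext (by simp; omega)) hi
          rw [← Module.End.mul_apply, ← pow_add, pow_add_apply_eq_zero (hNk _ (hy a)) (by omega), smul_zero]
      · intro h
        exact absurd (Finset.mem_univ _) h
    obtain ⟨b, hb⟩ := hβ (fun a => c (a, ⟨s, hsk⟩)) (fun h => ha₀ (congrFun h a₀))
    refine ⟨k - 1 - s, b, ?_⟩
    rw [hsum, map_sum, LinearMap.sum_apply]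
    simp only [map_smul, LinearMap.smul_apply, smul_eq_mul]
    exact hb
  have hperpT : B.orthogonal C ∈ Module.End.invtSubmodule T := perp_invt hiso hr hTr hCT
  have hperpN : B.orthogonal C ∈ Module.End.invtSubmodule N := by rw [hN]; exact invt_sub_one hperpT
  have hCnd : ND B C := by
    rw [nd_iff_disjoint hB.isRefl, Submodule.disjoint_def]
    intro w hwC hwP
    by_contra hw
    rw [hCdef] at hwC
    obtain ⟨c, hcw⟩ := (Submodule.mem_span_range_iff_exists_fun F).mp hwC
    have hc : c ≠ 0 := by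
      intro h
      apply hw
      rw [← hcw, h]
      simp
    obtain ⟨j, b, hjb⟩ := hcore c hc
    rw [hcw] at hjb
    apply hjb
    have h1 : (N ^ j) w ∈ B.orthogonal C := invt_pow_apply hperpN hwP j
    exact hB.isRefl _ _ (mem_perp.mp h1 _ (hyC b))
  refine ⟨C, hCU, hCT, hCnd, ?_⟩
  obtain ⟨κ, hκpos, hκ⟩ := exists_type hnil hCN
  have hκle : ∀ a ∈ κ, a ≤ k := by
    rw [← mprof_eq_zero_iff, ← hκ]
    unfold rprof
    have : C.map (N ^ k) = ⊥ := by
      rw [eq_bot_iff]
      rintro _ ⟨u, hu, rfl⟩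
      rw [hNk u (hCU hu)]
      exact Submodule.zero_mem _
    rw [this, finrank_bot]
  have hκsum : κ.sum ≤ Fintype.card ι * k := by
    rw [← mprof_zero_eq, ← hκ, rprof_zero, hCdef]
    have := finrank_range_le_card (R := F) gen
    rw [Fintype.card_prod, Fintype.card_fin] at this
    exact this
  have hκcnt : Fintype.card ι ≤ mprof κ (k - 1) := by
    rw [← hκ]
    unfold rprof
    have hli : LinearIndependent F (fun a => (N ^ (k - 1)) (y a)) := by
      rw [Fintype.linearIndependent_iff]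
      intro c hc a
      by_contra hne
      obtain ⟨b, hb⟩ := hβ c (fun h => hne (congrFun h a))
      apply hb
      have := congrArg (fun x => B x (y b)) hc
      simp only [map_sum, LinearMap.sum_apply, map_smul, LinearMap.smul_apply, smul_eq_mul, map_zero,
        LinearMap.zero_apply] at this
      exact this
    have hle : Submodule.span F (Set.range (fun a => (N ^ (k - 1)) (y a))) ≤ C.map (N ^ (k - 1)) := by
      rw [Submodule.span_le]
      rintro _ ⟨a, rfl⟩
      exact ⟨y a, hyC a, rfl⟩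
    have := Submodule.finrank_mono hle
    rw [finrank_span_eq_card hli] at this
    exact this
  have hκeq := eq_replicate_of hk hκpos hκle hκsum hκcnt
  intro j
  rw [hκ, hκeq, mprof_replicate]

/-- **splitting off the largest blocks**: a nondegenerate invariant subspace on which `(T - 1)^k = 0` but
`(T - 1)^(k - 1) ≠ 0` contains a nondegenerate invariant subspace that is one block of size `k` (`k` even) or two
blocks of size `k` (`k` odd). -/
theorem exists_split [FiniteDimensional F V] (hB : B.IsAlt) (h2 : (2 : F) ≠ 0)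
    (hiso : ∀ u v, B (T u) (T v) = B u v) {r : ℕ} (hr : 0 < r)
    (hTr : T ^ r = 1) (hnil : IsNilpotent (T - 1)) {U : Submodule F V} (hU : U ∈ Module.End.invtSubmodule T)
    (hUnd : ND B U) {k : ℕ} (hk : 1 ≤ k) (hNk : ∀ u ∈ U, ((T - 1) ^ k) u = 0)
    (hNk' : ∃ u ∈ U, ((T - 1) ^ (k - 1)) u ≠ 0) :
    ∃ C : Submodule F V, C ≤ U ∧ C ∈ Module.End.invtSubmodule T ∧ ND B C ∧
      ∀ j, rprof (T - 1) C j = (if Even k then 1 else 2) * (k - j) := by
  have hUN : U ∈ Module.End.invtSubmodule (T - 1) := invt_sub_one hU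
  obtain ⟨u₀, hu₀, hu₀'⟩ := hNk'
  obtain ⟨v₀, hv₀, hv₀'⟩ := hUnd _ (invt_pow_apply hUN hu₀ (k - 1)) hu₀'
  by_cases hev : Even k
  · rw [if_pos hev]
    have hsymm : ∀ u v, v ∈ U → B (((T - 1) ^ (k - 1)) u) v = B (((T - 1) ^ (k - 1)) v) u := by
      intro u v hv
      rw [beta_symm hB hiso hk (hNk v hv), hev.neg_one_pow, one_mul]
    obtain ⟨v, hv, hvv⟩ : ∃ v ∈ U, B (((T - 1) ^ (k - 1)) v) v ≠ 0 := by
      by_contra hcon
      push Not at hcon
      have h1 := hcon (u₀ + v₀) (U.add_mem hu₀ hv₀)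
      simp only [map_add, LinearMap.add_apply] at h1
      rw [hcon u₀ hu₀, hcon v₀ hv₀, ← hsymm u₀ v₀ hv₀, zero_add, add_zero, ← two_mul] at h1
      rcases mul_eq_zero.mp h1 with h | h
      · exact h2 h
      · exact hv₀' h
    obtain ⟨C, hC1, hC2, hC3, hC4⟩ := cyc_props hB hiso hr hTr hnil hU hk hNk (fun _ : Unit => v)
      (fun _ => hv) (by
        intro c hc
        refine ⟨(), ?_⟩
        rw [Fintype.sum_unique]
        apply mul_ne_zero _ hvv
        intro h
        apply hc
        funext a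
        rw [Subsingleton.elim a default, h]
        rfl)
    refine ⟨C, hC1, hC2, hC3, fun j => ?_⟩
    rw [hC4, Fintype.card_unit]
  · rw [if_neg hev]
    have hodd : Odd k := Nat.not_even_iff_odd.mp hev
    have hskew : ∀ u v, v ∈ U → B (((T - 1) ^ (k - 1)) u) v = - B (((T - 1) ^ (k - 1)) v) u := by
      intro u v hv
      rw [beta_symm hB hiso hk (hNk v hv), hodd.neg_one_pow, neg_one_mul]
    have hdiag : ∀ u ∈ U, B (((T - 1) ^ (k - 1)) u) u = 0 := by
      intro u hu
      have h1 := hskew u u hu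
      have h3 : (2 : F) * B (((T - 1) ^ (k - 1)) u) u = 0 := by
        rw [two_mul]
        nth_rewrite 1 [h1]
        ring
      rcases mul_eq_zero.mp h3 with h | h
      · exact absurd h h2
      · exact h
    obtain ⟨C, hC1, hC2, hC3, hC4⟩ := cyc_props hB hiso hr hTr hnil hU hk hNk (![u₀, v₀] : Fin 2 → V)
      (by
        intro a
        fin_cases a
        · exact hu₀
        · exact hv₀) (by
        intro c hc
        by_cases hc0 : c 0 = 0
        · have hc1 : c 1 ≠ 0 := by
            intro h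
            apply hc
            funext a
            fin_cases a
            · exact hc0
            · exact h
          refine ⟨0, ?_⟩
          rw [Fin.sum_univ_two]
          simp only [Matrix.cons_val_zero, Matrix.cons_val_one]
          rw [hc0, zero_mul, zero_add, hskew v₀ u₀ hu₀]
          exact mul_ne_zero hc1 (neg_ne_zero.mpr hv₀')
        · refine ⟨1, ?_⟩
          rw [Fin.sum_univ_two]
          simp only [Matrix.cons_val_zero, Matrix.cons_val_one]
          rw [hdiag v₀ hv₀, mul_zero, add_zero]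
          exact mul_ne_zero hc0 hv₀')
    refine ⟨C, hC1, hC2, hC3, fun j => ?_⟩
    rw [hC4, Fintype.card_fin]

end Cfsg.Agent.Helper7.SpUn
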