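import Mathlib
import Cfsg.Agent.Helper7.SpUnB

/-!
# Unipotent isometries of alternating spaces: nondegenerate invariant subspaces of prescribed type
-/

set_option autoImplicit false

namespace Cfsg.Agent.Helper7.SpUn

open Module Cfsg.Agent.Helper7.POrd Cfsg.Agent.Helper7.SpOrd Cfsg.Agent.Helper8.UJ Cfsg.Agent.Helper8.Jordan
  Cfsg.Agent.Helper8.SpU

variable {F : Type*} [Field F] {V : Type*} [AddCommGroup V] [Module F V]
  {B : LinearMap.BilinForm F V} {T : Module.End F V}

theorem map_eq_bot_of_rprof {N : Module.End F V} {U : Submodule F V} [FiniteDimensional F V] {j : ℕ}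
    (h : rprof N U j = 0) : ∀ u ∈ U, (N ^ j) u = 0 := by
  intro u hu
  unfold rprof at h
  have h1 := Submodule.finrank_eq_zero.mp h
  have h2 : (N ^ j) u ∈ U.map (N ^ j) := ⟨u, hu, rfl⟩
  rw [h1] at h2
  exact (Submodule.mem_bot F).mp h2

/-- **peeling**: the blocks of the largest size split off. -/
theorem exists_peel [FiniteDimensional F V] (hB : B.IsAlt) (h2 : (2 : F) ≠ 0)
    (hiso : ∀ u v, B (T u) (T v) = B u v) {r : ℕ} (hr : 0 < r)
    (hTr : T ^ r = 1) (hnil : IsNilpotent (T - 1)) {U : Submodule F V} (hU : U ∈ Module.End.invtSubmodule T)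
    (hUnd : ND B U) {μ : Multiset ℕ} (hμpos : ∀ a ∈ μ, 1 ≤ a) (hμ : ∀ j, rprof (T - 1) U j = mprof μ j)
    (hμ0 : μ ≠ 0) :
    ∃ (C : Submodule F V) (k : ℕ) (κ' : Multiset ℕ), 1 ≤ k ∧ C ≤ U ∧ C ∈ Module.End.invtSubmodule T ∧ ND B C ∧
      finrank F ↥C = (if Even k then 1 else 2) * k ∧
      (B.orthogonal C ⊓ U) ∈ Module.End.invtSubmodule T ∧ ND B (B.orthogonal C ⊓ U) ∧
      finrank F ↥(B.orthogonal C ⊓ U) < finrank F ↥U ∧ (∀ a ∈ κ', 1 ≤ a) ∧
      (∀ j, rprof (T - 1) (B.orthogonal C ⊓ U) j = mprof κ' j) ∧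
      μ = Multiset.replicate (if Even k then 1 else 2) k + κ' := by
  obtain ⟨k, hkμ, hkmax⟩ := Multiset.exists_max_image id hμ0
  simp only [id] at hkmax
  have hk : 1 ≤ k := hμpos k hkμ
  have hNk : ∀ u ∈ U, ((T - 1) ^ k) u = 0 := by
    apply map_eq_bot_of_rprof
    rw [hμ, mprof_eq_zero_iff]
    exact hkmax
  have hNk' : ∃ u ∈ U, ((T - 1) ^ (k - 1)) u ≠ 0 := by
    by_contra hcon
    push Not at hcon
    have h0 : rprof (T - 1) U (k - 1) = 0 := by
      unfold rprof
      have : U.map ((T - 1) ^ (k - 1)) = ⊥ := by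
        rw [eq_bot_iff]
        rintro _ ⟨u, hu, rfl⟩
        rw [hcon u hu]
        exact Submodule.zero_mem _
      rw [this, finrank_bot]
    rw [hμ, mprof_eq_zero_iff] at h0
    have := h0 k hkμ
    omega
  obtain ⟨C, hCU, hCT, hCnd, hCprof⟩ := exists_split hB h2 hiso hr hTr hnil hU hUnd hk hNk hNk'
  obtain ⟨t, ht⟩ : ∃ t : ℕ, t = if Even k then 1 else 2 := ⟨_, rfl⟩
  rw [← ht] at hCprof
  have ht1 : 1 ≤ t := by rw [ht]; split_ifs <;> omega
  have hCd : finrank F ↥C = t * k := by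
    rw [← rprof_zero (T - 1) C, hCprof, Nat.sub_zero]
  have hU'T : (B.orthogonal C ⊓ U) ∈ Module.End.invtSubmodule T := inf_invt (perp_invt hiso hr hTr hCT) hU
  have hU'nd : ND B (B.orthogonal C ⊓ U) := nd_perp_inf hB.isRefl hCnd hUnd hCU
  have hdim := finrank_perp_inf hB.isRefl hCnd hCU
  have hlt : finrank F ↥(B.orthogonal C ⊓ U) < finrank F ↥U := by
    have : 1 ≤ t * k := Nat.mul_pos ht1 hk
    omega
  obtain ⟨κ', hκ'pos, hκ'⟩ := exists_type hnil (invt_sub_one hU'T)
  refine ⟨C, k, κ', hk, hCU, hCT, hCnd, by rw [← ht]; exact hCd, hU'T, hU'nd, hlt, hκ'pos, hκ', ?_⟩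
  rw [← ht]
  apply eq_of_mprof_eq _ _ hμpos
  · intro a ha
    rcases Multiset.mem_add.mp ha with h | h
    · rw [Multiset.eq_of_mem_replicate h]; exact hk
    · exact hκ'pos a h
  · intro j
    rw [← hμ, mprof_add, mprof_replicate, ← hCprof, ← hκ']
    conv_lhs => rw [← sup_perp_inf hB.isRefl hCnd hCU]
    exact rprof_sup (invt_sub_one hCT) (invt_sub_one hU'T) (disjoint_perp_inf hB.isRefl hCnd) j

/-- **odd parts come in pairs.** -/
theorem type_even [FiniteDimensional F V] (hB : B.IsAlt) (h2 : (2 : F) ≠ 0)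
    (hiso : ∀ u v, B (T u) (T v) = B u v) {r : ℕ} (hr : 0 < r)
    (hTr : T ^ r = 1) (hnil : IsNilpotent (T - 1)) :
    ∀ (n : ℕ) (U : Submodule F V), finrank F ↥U = n → U ∈ Module.End.invtSubmodule T → ND B U →
      ∀ μ : Multiset ℕ, (∀ a ∈ μ, 1 ≤ a) → (∀ j, rprof (T - 1) U j = mprof μ j) →
      ∀ a, Odd a → Even (μ.count a) := by
  intro n
  induction n using Nat.strong_induction_on with
  | _ n ih =>
    intro U hn hU hUnd μ hμpos hμ a ha
    by_cases hμ0 : μ = 0
    · rw [hμ0, Multiset.count_zero]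
      exact Even.zero
    obtain ⟨C, k, κ', hk, hCU, hCT, hCnd, hCd, hU'T, hU'nd, hlt, hκ'pos, hκ', hμeq⟩ :=
      exists_peel hB h2 hiso hr hTr hnil hU hUnd hμpos hμ hμ0
    have h1 := ih _ (by rw [← hn]; exact hlt) _ rfl hU'T hU'nd κ' hκ'pos hκ' a ha
    rw [hμeq, Multiset.count_add, Multiset.count_replicate]
    by_cases hka : k = a
    · have hodd : ¬ Even k := by rw [hka, Nat.not_even_iff_odd]; exact ha
      rw [if_pos hka, if_neg hodd]
      exact Even.add (by decide) h1
    · rw [if_neg hka, zero_add]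
      exact h1

/-- **sub-types are realised**: a sub-multiset of the type in which odd parts come in pairs is the type of a
nondegenerate invariant subspace; here only its dimension is recorded. -/
theorem exists_nd_invt_of_le [FiniteDimensional F V] (hB : B.IsAlt) (h2 : (2 : F) ≠ 0)
    (hiso : ∀ u v, B (T u) (T v) = B u v) {r : ℕ} (hr : 0 < r)
    (hTr : T ^ r = 1) (hnil : IsNilpotent (T - 1)) :
    ∀ (n : ℕ) (U : Submodule F V), finrank F ↥U = n → U ∈ Module.End.invtSubmodule T → ND B U →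
      ∀ μ : Multiset ℕ, (∀ a ∈ μ, 1 ≤ a) → (∀ j, rprof (T - 1) U j = mprof μ j) →
      ∀ ν : Multiset ℕ, ν ≤ μ → (∀ a, Odd a → Even (ν.count a)) →
      ∃ W : Submodule F V, W ≤ U ∧ W ∈ Module.End.invtSubmodule T ∧ ND B W ∧ finrank F ↥W = ν.sum := by
  intro n
  induction n using Nat.strong_induction_on with
  | _ n ih =>
    intro U hn hU hUnd μ hμpos hμ ν hνμ hν
    by_cases hμ0 : μ = 0
    · rw [hμ0] at hνμ
      have hν0 : ν = 0 := Multiset.le_zero.mp hνμ
      refine ⟨⊥, bot_le, Module.End.invtSubmodule.bot_mem T, nd_bot B, ?_⟩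
      rw [hν0, finrank_bot, Multiset.sum_zero]
    obtain ⟨C, k, κ', hk, hCU, hCT, hCnd, hCd, hU'T, hU'nd, hlt, hκ'pos, hκ', hμeq⟩ :=
      exists_peel hB h2 hiso hr hTr hnil hU hUnd hμpos hμ hμ0
    obtain ⟨t, ht⟩ : ∃ t : ℕ, t = if Even k then 1 else 2 := ⟨_, rfl⟩
    rw [← ht] at hCd hμeq
    by_cases hcnt : t ≤ ν.count k
    · have hrep : Multiset.replicate t k ≤ ν := Multiset.le_count_iff_replicate_le.mp hcnt
      have hν'le : ν - Multiset.replicate t k ≤ κ' := by
        rw [tsub_le_iff_left, ← hμeq]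
        exact hνμ
      have hν'par : ∀ a, Odd a → Even ((ν - Multiset.replicate t k).count a) := by
        intro a ha
        rw [Multiset.count_sub, Multiset.count_replicate]
        by_cases hka : k = a
        · have hodd : ¬ Even k := by rw [hka, Nat.not_even_iff_odd]; exact ha
          rw [if_pos hka, ht, if_neg hodd]
          obtain ⟨x, hx⟩ := hν a ha
          exact ⟨x - 1, by omega⟩
        · rw [if_neg hka, Nat.sub_zero]
          exact hν a ha
      obtain ⟨W', hW'le, hW'T, hW'nd, hW'd⟩ := ih _ (by rw [← hn]; exact hlt) _ rfl hU'T hU'nd κ' hκ'pos hκ'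
        _ hν'le hν'par
      have hperp : W' ≤ B.orthogonal C := hW'le.trans inf_le_left
      refine ⟨C ⊔ W', sup_le hCU (hW'le.trans inf_le_right), sup_invt hCT hW'T,
        nd_sup hB.isRefl hCnd hW'nd hperp, ?_⟩
      rw [finrank_sup_of_le_perp hB.isRefl hCnd hperp, hCd, hW'd]
      have h1 : ν = (ν - Multiset.replicate t k) + Multiset.replicate t k := (tsub_add_cancel_of_le hrep).symm
      conv_rhs => rw [h1, Multiset.sum_add, Multiset.sum_replicate, smul_eq_mul]
      ring
    · have hc0 : ν.count k = 0 := by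
        by_cases hev : Even k
        · rw [ht, if_pos hev] at hcnt
          omega
        · rw [ht, if_neg hev] at hcnt
          obtain ⟨x, hx⟩ := hν k (Nat.not_even_iff_odd.mp hev)
          omega
      have hνle : ν ≤ κ' := by
        rw [Multiset.le_iff_count]
        intro a
        have h1 := Multiset.le_iff_count.mp hνμ a
        rw [hμeq, Multiset.count_add, Multiset.count_replicate] at h1
        by_cases hka : k = a
        · rw [← hka, hc0]
          exact Nat.zero_le _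
        · rw [if_neg hka] at h1
          omega
      obtain ⟨W', hW'le, hW'T, hW'nd, hW'd⟩ := ih _ (by rw [← hn]; exact hlt) _ rfl hU'T hU'nd κ' hκ'pos hκ'
        _ hνle hν
      exact ⟨W', hW'le.trans inf_le_right, hW'T, hW'nd, hW'd⟩

end Cfsg.Agent.Helper7.SpUn
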