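import Mathlib
import Cfsg.Agent.Helper7.SpUnC
import Cfsg.Agent.Helper8.SpUL
import Cfsg.Agent.Helper7.SpOrdM

/-!
# Elements of order `p` of the symplectic group and nondegenerate subspaces, `p` odd
-/

set_option autoImplicit false

namespace Cfsg.Agent.Helper7.SpUn

open Matrix Module Cfsg.Agent.Helper8.SpS Cfsg.Agent.Helper8.SpStab Cfsg.Agent.Helper7.POrd
  Cfsg.Agent.Helper7.SpOrd Cfsg.Agent.Helper8.UJ Cfsg.Agent.Helper8.Jordan Cfsg.Agent.Helper8.SpU

variable {F : Type*} [Field F]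

theorem finrank_std (d : ℕ) : finrank F (Fin d ⊕ Fin d → F) = 2 * d := by
  rw [Module.finrank_fintype_fun_eq_card, Fintype.card_sum, Fintype.card_fin]
  ring

/-- from an invariant nondegenerate subspace for the endomorphism to the form of the statement. -/
theorem to_statement_nd {d m : ℕ} (X : Matrix (Fin d ⊕ Fin d) (Fin d ⊕ Fin d) F)
    {W : Submodule F (Fin d ⊕ Fin d → F)}
    (hW : W ∈ Module.End.invtSubmodule (Matrix.toLin' X))
    (hWnd : ND (sB d F) W) (hWd : finrank F ↥W = m) :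
    ∃ W : Submodule F (Fin d ⊕ Fin d → F), finrank F ↥W = m ∧
      (∀ u ∈ W, u ≠ 0 → ∃ v ∈ W, Cfsg.sympForm d F u v ≠ 0) ∧ W.map (Matrix.toLin' X) ≤ W := by
  refine ⟨W, hWd, fun u hu hne => ?_, ?_⟩
  · obtain ⟨v, hv, hv'⟩ := hWnd u hu hne
    exact ⟨v, hv, by rw [← sB_apply]; exact hv'⟩
  · rw [Submodule.map_le_iff_le_comap]
    exact (Module.End.mem_invtSubmodule _).mp hW

theorem of_statement_nd {d : ℕ} (X : Matrix (Fin d ⊕ Fin d) (Fin d ⊕ Fin d) F)
    {W : Submodule F (Fin d ⊕ Fin d → F)}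
    (hWnd : ∀ u ∈ W, u ≠ 0 → ∃ v ∈ W, Cfsg.sympForm d F u v ≠ 0) (hWinv : W.map (Matrix.toLin' X) ≤ W) :
    W ∈ Module.End.invtSubmodule (Matrix.toLin' X) ∧ ND (sB d F) W := by
  refine ⟨?_, fun u hu hne => ?_⟩
  · rw [Module.End.mem_invtSubmodule, ← Submodule.map_le_iff_le_comap]
    exact hWinv
  · obtain ⟨v, hv, hv'⟩ := hWnd u hu hne
    exact ⟨v, hv, by rw [sB_apply]; exact hv'⟩

variable [Fintype F] {p : ℕ} [Fact p.Prime] [CharP F p]

/-- in characteristic `p`, a matrix with `M^p = 1` is unipotent. -/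
theorem nilpotent_toLin'_sub_one {ι : Type*} [Fintype ι] [DecidableEq ι] {M : Matrix ι ι F} (hM : M ^ p = 1) :
    (Matrix.toLin' M - 1 : Module.End F (ι → F)) ^ p = 0 := by
  rw [toLin'_sub_one_pow, Cfsg.Agent.Helper8.SpU.sub_one_pow_char p, hM, sub_self, map_zero]

/-- **`r = p` odd, existence.** -/
theorem exists_nd_invt_p (hp2 : p ≠ 2) {d m : ℕ} (hd : 1 ≤ d)
    (hcond : ∀ μ : Multiset ℕ, (∀ a ∈ μ, 0 < a ∧ a ≤ p) → (∀ a : ℕ, Odd a → Even (μ.count a)) → μ.sum = 2 * d →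
      ∃ ν : Multiset ℕ, ν ≤ μ ∧ ν.sum = m ∧ ∀ a : ℕ, Odd a → Even (ν.count a))
    (x : symplecticGroup (Fin d) F) {z : F}
    (hz : ((x ^ p : symplecticGroup (Fin d) F) : Matrix (Fin d ⊕ Fin d) (Fin d ⊕ Fin d) F) = z • 1) :
    ∃ W : Submodule F (Fin d ⊕ Fin d → F), finrank F ↥W = m ∧
      (∀ u ∈ W, u ≠ 0 → ∃ v ∈ W, Cfsg.sympForm d F u v ≠ 0) ∧
      W.map (Matrix.toLin' (x : Matrix (Fin d ⊕ Fin d) (Fin d ⊕ Fin d) F)) ≤ W := by
  have hp : p.Prime := Fact.out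
  have h2 : (2 : F) ≠ 0 := by
    intro h
    have h1 : ((2 : ℕ) : F) = 0 := by rw [Nat.cast_ofNat]; exact h
    rw [CharP.cast_eq_zero_iff F p 2] at h1
    exact hp2 ((Nat.prime_dvd_prime_iff_eq hp Nat.prime_two).mp h1)
  obtain ⟨X, hX⟩ : ∃ X : Module.End F (Fin d ⊕ Fin d → F),
      X = Matrix.toLin' (x : Matrix (Fin d ⊕ Fin d) (Fin d ⊕ Fin d) F) := ⟨_, rfl⟩
  have hXr : X ^ p = z • (1 : Module.End F (Fin d ⊕ Fin d → F)) := by
    rw [hX, toLin'_pow_symp, hz, map_smul, Matrix.toLin'_one]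
    rfl
  have hisoX : ∀ u v, sB d F (X u) (X v) = sB d F u v := by
    intro u v
    rw [hX]
    exact sB_iso x u v
  have hz2 := scalar_sq_eq_one hd hisoX hXr
  have hz0 : z ≠ 0 := by
    intro h
    rw [h, mul_zero] at hz2
    exact zero_ne_one hz2
  obtain ⟨T, hTdef⟩ : ∃ T : Module.End F (Fin d ⊕ Fin d → F), T = z • X := ⟨_, rfl⟩
  have hT : T ^ p = 1 := by
    rw [hTdef, _root_.smul_pow, hXr, smul_smul, pow_succ_eq_one_of_sq hp2 hz2, one_smul]
  have hisoT : ∀ u v, sB d F (T u) (T v) = sB d F u v := by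
    intro u v
    rw [hTdef, LinearMap.smul_apply, LinearMap.smul_apply, map_smul, map_smul, LinearMap.smul_apply, smul_eq_mul,
      smul_eq_mul, hisoX, ← mul_assoc, hz2, one_mul]
  have hTmat : T = Matrix.toLin' (z • (x : Matrix (Fin d ⊕ Fin d) (Fin d ⊕ Fin d) F)) := by
    rw [hTdef, hX, map_smul]
  have hMp : (z • (x : Matrix (Fin d ⊕ Fin d) (Fin d ⊕ Fin d) F)) ^ p = 1 := by
    apply Matrix.toLin'.injective
    rw [Matrix.toLin'_pow, ← hTmat, hT, Matrix.toLin'_one]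
    rfl
  have hNp : (T - 1) ^ p = 0 := by
    rw [hTmat]
    exact nilpotent_toLin'_sub_one hMp
  have hnil : IsNilpotent (T - 1) := ⟨p, hNp⟩
  have htop : (⊤ : Submodule F (Fin d ⊕ Fin d → F)) ∈ Module.End.invtSubmodule T :=
    Module.End.invtSubmodule.top_mem _
  obtain ⟨μ, hμpos, hμ⟩ := exists_type hnil (invt_sub_one htop)
  have hμsum : μ.sum = 2 * d := by
    rw [← mprof_zero_eq, ← hμ, rprof_zero, finrank_top, finrank_std]
  have hμle : ∀ a ∈ μ, a ≤ p := by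
    rw [← mprof_eq_zero_iff, ← hμ]
    unfold rprof
    rw [hNp, Submodule.map_zero, finrank_bot]
  have hμpar := type_even (sB_isAlt (F := F) d) h2 hisoT hp.pos hT hnil _ ⊤ rfl htop (sB_ND d) μ hμpos hμ
  obtain ⟨ν, hνle, hνsum, hνpar⟩ := hcond μ (fun a ha => ⟨hμpos a ha, hμle a ha⟩) hμpar hμsum
  obtain ⟨W, -, hWT, hWnd, hWd⟩ := exists_nd_invt_of_le (sB_isAlt (F := F) d) h2 hisoT hp.pos hT hnil _ ⊤ rfl htop
    (sB_ND d) μ hμpos hμ ν hνle hνpar
  have hWX : W ∈ Module.End.invtSubmodule X := by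
    rw [Module.End.mem_invtSubmodule, ← Submodule.map_le_iff_le_comap] at hWT ⊢
    rw [hTdef, Submodule.map_smul X W z hz0] at hWT
    exact hWT
  rw [hX] at hWX
  exact to_statement_nd _ hWX hWnd (by rw [hWd, hνsum])

/-- **`r = p` odd, necessity.** -/
theorem cond_of_forall_p (hp2 : p ≠ 2) {d m : ℕ} (hme : Even m) (hmd : m ≤ 2 * d)
    (hall : ∀ x : symplecticGroup (Fin d) F,
      (∃ z : F, ((x ^ p : symplecticGroup (Fin d) F) : Matrix (Fin d ⊕ Fin d) (Fin d ⊕ Fin d) F) = z • 1) →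
      (∀ z : F, (x : Matrix (Fin d ⊕ Fin d) (Fin d ⊕ Fin d) F) ≠ z • 1) →
      ∃ W : Submodule F (Fin d ⊕ Fin d → F), finrank F ↥W = m ∧
        (∀ u ∈ W, u ≠ 0 → ∃ v ∈ W, Cfsg.sympForm d F u v ≠ 0) ∧
        W.map (Matrix.toLin' (x : Matrix (Fin d ⊕ Fin d) (Fin d ⊕ Fin d) F)) ≤ W)
    (μ : Multiset ℕ) (hμ : ∀ a ∈ μ, 0 < a ∧ a ≤ p) (hμpar : ∀ a : ℕ, Odd a → Even (μ.count a))
    (hμsum : μ.sum = 2 * d) :
    ∃ ν : Multiset ℕ, ν ≤ μ ∧ ν.sum = m ∧ ∀ a : ℕ, Odd a → Even (ν.count a) := by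
  classical
  have hp : p.Prime := Fact.out
  have h2 : (2 : F) ≠ 0 := by
    intro h
    have h1 : ((2 : ℕ) : F) = 0 := by rw [Nat.cast_ofNat]; exact h
    rw [CharP.cast_eq_zero_iff F p 2] at h1
    exact hp2 ((Nat.prime_dvd_prime_iff_eq hp Nat.prime_two).mp h1)
  have hμpos : ∀ a ∈ μ, 1 ≤ a := fun a ha => (hμ a ha).1
  by_cases hones : ∀ a ∈ μ, a = 1
  · have hμeq : μ = Multiset.replicate (2 * d) 1 := by
      have h1 := Multiset.eq_replicate_card.mpr hones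
      have h3 : Multiset.card μ = 2 * d := by
        rw [← hμsum]
        conv_rhs => rw [h1]
        rw [Multiset.sum_replicate, smul_eq_mul, mul_one]
      rw [h3] at h1
      exact h1
    refine ⟨Multiset.replicate m 1, ?_, ?_, ?_⟩
    · rw [hμeq, Multiset.replicate_le_replicate]
      exact hmd
    · rw [Multiset.sum_replicate, smul_eq_mul, mul_one]
    · intro a _
      rw [Multiset.count_replicate]
      split_ifs
      · exact hme
      · exact Even.zero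
  push Not at hones
  obtain ⟨a₀, ha₀, ha₀1⟩ := hones
  have ha₀2 : 2 ≤ a₀ := by have := hμpos a₀ ha₀; omega
  obtain ⟨d', A, hA⟩ := spReal_of_even (F := F) μ hμpos hμpar
  have hd' : d' = d := by
    have := hA 0
    rw [pow_zero, Matrix.rank_one, mprof_zero_eq, hμsum, Fintype.card_sum, Fintype.card_fin] at this
    omega
  subst hd'
  have hAp : A ^ p = 1 := by
    rw [pow_eq_one_iff_prof p A]
    unfold prof
    rw [hA, mprof_eq_zero_iff]
    exact fun a ha => (hμ a ha).2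
  have hApm : (A : Matrix (Fin d' ⊕ Fin d') (Fin d' ⊕ Fin d') F) ^ p = 1 := by
    rw [← coe_pow_sp, hAp]
    rfl
  have h1ne : mprof μ 1 ≠ 0 := by
    intro h
    have := (mprof_eq_zero_iff μ 1).mp h a₀ ha₀
    omega
  have hns : ∀ z : F, (A : Matrix (Fin d' ⊕ Fin d') (Fin d' ⊕ Fin d') F) ≠ z • 1 := by
    intro z hz
    have h3 : ((z - 1) ^ p) • (1 : Matrix (Fin d' ⊕ Fin d') (Fin d' ⊕ Fin d') F) = 0 := by
      have h4 : (A : Matrix (Fin d' ⊕ Fin d') (Fin d' ⊕ Fin d') F) - 1 = (z - 1) • 1 := by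
        rw [hz, sub_smul, one_smul]
      have h5 := Cfsg.Agent.Helper8.SpU.sub_one_pow_char p (A : Matrix (Fin d' ⊕ Fin d') (Fin d' ⊕ Fin d') F)
      rw [hApm, sub_self, h4, _root_.smul_pow, one_pow] at h5
      exact h5
    have hd0 : 1 ≤ d' := by
      by_contra hcon
      have : d' = 0 := by omega
      rw [this] at hμsum
      have := Multiset.le_sum_of_mem ha₀
      omega
    have h6 := congrFun (congrFun h3 (Sum.inl ⟨0, hd0⟩)) (Sum.inl ⟨0, hd0⟩)
    rw [Matrix.smul_apply, Matrix.one_apply_eq, smul_eq_mul, mul_one, Matrix.zero_apply] at h6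
    have hz1 : z = 1 := by
      have := pow_eq_zero_iff (hp.ne_zero) |>.mp h6
      exact sub_eq_zero.mp this
    apply h1ne
    rw [← hA 1, pow_one, hz, hz1, one_smul, sub_self, Matrix.rank_zero]
  obtain ⟨W, hWd, hWnd', hWinv'⟩ := hall A ⟨1, by rw [hAp, one_smul]; rfl⟩ hns
  obtain ⟨hWT, hWnd⟩ := of_statement_nd _ hWnd' hWinv'
  obtain ⟨T, hTdef⟩ : ∃ T : Module.End F (Fin d' ⊕ Fin d' → F),
      T = Matrix.toLin' (A : Matrix (Fin d' ⊕ Fin d') (Fin d' ⊕ Fin d') F) := ⟨_, rfl⟩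
  rw [← hTdef] at hWT
  have hisoT : ∀ u v, sB d' F (T u) (T v) = sB d' F u v := by
    intro u v
    rw [hTdef]
    exact sB_iso A u v
  have hT : T ^ p = 1 := by
    rw [hTdef, toLin'_pow_symp, hAp]
    exact Matrix.toLin'_one
  have hNp : (T - 1) ^ p = 0 := by
    rw [hTdef]
    exact nilpotent_toLin'_sub_one hApm
  have hnil : IsNilpotent (T - 1) := ⟨p, hNp⟩
  have hrefl := (sB_isAlt (F := F) d').isRefl
  have htopprof : ∀ j, rprof (T - 1) ⊤ j = mprof μ j := by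
    intro j
    unfold rprof
    rw [Submodule.map_top, hTdef, finrank_range_toLin'_sub_one_pow, hA]
  have hW'T : (sB d' F).orthogonal W ∈ Module.End.invtSubmodule T := perp_invt hisoT hp.pos hT hWT
  obtain ⟨ν, hνpos, hν⟩ := exists_type hnil (invt_sub_one hWT)
  obtain ⟨ν', hν'pos, hν'⟩ := exists_type hnil (invt_sub_one hW'T)
  have hcompl := isCompl_perp hrefl hWnd
  have hμeq : μ = ν + ν' := by
    apply eq_of_mprof_eq _ _ hμpos
    · intro a ha
      rcases Multiset.mem_add.mp ha with h | h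
      · exact hνpos a h
      · exact hν'pos a h
    · intro j
      rw [← htopprof, ← hcompl.sup_eq_top, rprof_sup (invt_sub_one hWT) (invt_sub_one hW'T) hcompl.disjoint,
        hν, hν', mprof_add]
  refine ⟨ν, ?_, ?_, ?_⟩
  · rw [hμeq]
    exact Multiset.le_add_right ν ν'
  · rw [← mprof_zero_eq, ← hν, rprof_zero, hWd]
  · exact type_even (sB_isAlt (F := F) d') h2 hisoT hp.pos hT hnil _ W rfl hWT hWnd ν hνpos hν

end Cfsg.Agent.Helper7.SpUn
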