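import Mathlib
import Cfsg.Agent.Helper7.SpUnD
import Cfsg.Agent.Helper8.Sp2Reps

/-!
# Involutions of the symplectic group in characteristic two and nondegenerate subspaces
-/

set_option autoImplicit false

namespace Cfsg.Agent.Helper7.SpUn

open Matrix Module Cfsg.Agent.Helper8.SpS Cfsg.Agent.Helper8.SpStab Cfsg.Agent.Helper7.POrd
  Cfsg.Agent.Helper7.SpOrd Cfsg.Agent.Helper8.Sp2

universe u

variable {F : Type*} [Field F] {V : Type u} [AddCommGroup V] [Module F V]

/-- the span of a symplectic family is nondegenerate. -/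
theorem nd_span_family (B : V →ₗ[F] V →ₗ[F] F) (hAlt : Alt B) {k : ℕ} (e f : Fin k → V)
    (h : IsSympFam B e f) : ND B (Submodule.span F (Set.range (Sum.elim e f))) := by
  obtain ⟨he, hf, hef⟩ := h
  intro w hw hne
  obtain ⟨c, hc⟩ := (Submodule.mem_span_range_iff_exists_fun F).mp hw
  have hc0 : c ≠ 0 := by
    intro h0
    apply hne
    rw [← hc, h0]
    simp
  obtain ⟨x, hx⟩ := Function.ne_iff.mp hc0
  rcases x with j | j
  · refine ⟨f j, Submodule.subset_span ⟨Sum.inr j, rfl⟩, ?_⟩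
    rw [← hc, Fintype.sum_sum_type]
    simp only [Sum.elim_inl, Sum.elim_inr, map_add, map_sum, map_smul, LinearMap.add_apply, LinearMap.sum_apply,
      LinearMap.smul_apply, hef, hf, smul_eq_mul, mul_zero, Finset.sum_const_zero, add_zero, mul_ite, mul_one]
    rw [Finset.sum_ite_eq' Finset.univ j]
    simpa using hx
  · refine ⟨e j, Submodule.subset_span ⟨Sum.inl j, rfl⟩, ?_⟩
    have hfe : ∀ i j, B (f i) (e j) = if i = j then -1 else 0 := by
      intro i j
      rw [hAlt.skew, hef j i]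
      by_cases hij : i = j
      · rw [if_pos hij, if_pos hij.symm]
      · rw [if_neg hij, if_neg (Ne.symm hij), neg_zero]
    rw [← hc, Fintype.sum_sum_type]
    simp only [Sum.elim_inl, Sum.elim_inr, map_add, map_sum, map_smul, LinearMap.add_apply, LinearMap.sum_apply,
      LinearMap.smul_apply, he, hfe, smul_eq_mul, mul_zero, Finset.sum_const_zero, zero_add, mul_ite, mul_neg,
      mul_one]
    rw [Finset.sum_ite_eq' Finset.univ j]
    simpa using hx

theorem finrank_span_family [FiniteDimensional F V] (B : V →ₗ[F] V →ₗ[F] F) (hAlt : Alt B) {k : ℕ}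
    (e f : Fin k → V) (h : IsSympFam B e f) :
    finrank F ↥(Submodule.span F (Set.range (Sum.elim e f))) = 2 * k := by
  rw [finrank_span_eq_card (linearIndependent_family B hAlt e f h.1 h.2.1 h.2.2), Fintype.card_sum, Fintype.card_fin]
  ring

/-- from a normal form to a nondegenerate invariant subspace: the abstract step. -/
theorem exists_nd_of_NF [FiniteDimensional F V] {B : V →ₗ[F] V →ₗ[F] F} {N : Module.End F V} (hAlt : Alt B)
    {K s : ℕ} {E Fv : Fin K → V} (hS : IsSympFam B E Fv) (hNF : ∀ i, N (Fv i) = 0)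
    (hNE : ∀ i : Fin K, s ≤ (i : ℕ) → N (E i) = 0) {h h' h'' : ℕ} (hh : h' + h'' = h) (hh's : h' ≤ s)
    (hh''K : s + h'' ≤ K)
    (hP : ∀ i : Fin K, (i : ℕ) < h' → ∃ j : Fin K, (j : ℕ) < h' ∧ N (E i) = Fv j) :
    ∃ W : Submodule F V, finrank F ↥W = 2 * h ∧ ND B W ∧ W ∈ Module.End.invtSubmodule N := by
  have hval : ∀ i : Fin h, (if (i : ℕ) < h' then (i : ℕ) else s + ((i : ℕ) - h')) < K := by
    intro i
    have := i.2
    split_ifs <;> omega
  obtain ⟨σ, hσ⟩ : ∃ σ : Fin h → Fin K,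
      ∀ i, ((σ i : Fin K) : ℕ) = if (i : ℕ) < h' then (i : ℕ) else s + ((i : ℕ) - h') :=
    ⟨fun i => ⟨_, hval i⟩, fun i => rfl⟩
  have hσinj : Function.Injective σ := by
    intro i i' hii'
    have h1 := congrArg Fin.val hii'
    rw [hσ, hσ] at h1
    apply Fin.ext
    split_ifs at h1 <;> omega
  have hfam : IsSympFam B (E ∘ σ) (Fv ∘ σ) := by
    refine ⟨fun i j => hS.1 _ _, fun i j => hS.2.1 _ _, fun i j => ?_⟩
    rw [Function.comp_apply, Function.comp_apply, hS.2.2]
    by_cases hij : i = j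
    · rw [if_pos hij, if_pos (by rw [hij])]
    · rw [if_neg hij, if_neg (fun h => hij (hσinj h))]
  refine ⟨Submodule.span F (Set.range (Sum.elim (E ∘ σ) (Fv ∘ σ))), finrank_span_family B hAlt _ _ hfam,
    nd_span_family B hAlt _ _ hfam, ?_⟩
  rw [Module.End.mem_invtSubmodule, ← Submodule.map_le_iff_le_comap, Submodule.map_span, Submodule.span_le]
  rintro _ ⟨_, ⟨x, rfl⟩, rfl⟩
  rcases x with i | i
  · simp only [Sum.elim_inl, Function.comp_apply]
    by_cases hi : (i : ℕ) < h'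
    · have hσi : ((σ i : Fin K) : ℕ) < h' := by rw [hσ, if_pos hi]; exact hi
      obtain ⟨j, hj, hNj⟩ := hP (σ i) hσi
      rw [hNj]
      have hjh : (j : ℕ) < h := by omega
      have hσj : σ ⟨(j : ℕ), hjh⟩ = j := by
        apply Fin.ext
        rw [hσ, if_pos hj]
      apply Submodule.subset_span
      exact ⟨Sum.inr ⟨(j : ℕ), hjh⟩, by simp only [Sum.elim_inr, Function.comp_apply]; rw [hσj]⟩
    · rw [hNE (σ i) (by rw [hσ, if_neg hi]; omega)]
      exact Submodule.zero_mem _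
  · simp only [Sum.elim_inr, Function.comp_apply]
    rw [hNF]
    exact Submodule.zero_mem _

variable [Fintype F] [CharP F 2]

/-- **`r = p = 2`, existence.** -/
theorem exists_nd_invt_char_two {d m : ℕ} (hme : Even m) (hmd : m ≤ 2 * d)
    (hcond : (2 * d) % 4 = 2 ∨ m % 4 = 0) (a : symplecticGroup (Fin d) F) (ha : a ^ 2 = 1) :
    ∃ W : Submodule F (Fin d ⊕ Fin d → F), finrank F ↥W = m ∧
      (∀ u ∈ W, u ≠ 0 → ∃ v ∈ W, Cfsg.sympForm d F u v ≠ 0) ∧
      W.map (Matrix.toLin' (a : Matrix (Fin d ⊕ Fin d) (Fin d ⊕ Fin d) F)) ≤ W := by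
  obtain ⟨K, s, E, Fv, hNF⟩ := exists_NF_invol a ha
  have hAlt : Alt (bform (Matrix.J (Fin d) F)) := alt_bform_J
  have hK : d = K := by
    have := hNF.finrank_eq hAlt
    rw [finrank_std] at this
    omega
  subst hK
  obtain ⟨hS, hsp, hNFv, hsK, hNE, ht1, ht2⟩ := hNF
  obtain ⟨h, hh⟩ := hme
  have key : ∃ h' h'' : ℕ, h' + h'' = h ∧ h' ≤ s ∧ s + h'' ≤ d ∧
      ∀ i : Fin d, (i : ℕ) < h' → ∃ j : Fin d, (j : ℕ) < h' ∧ opN a (E i) = Fv j := by
    by_cases halt : ∀ v, bform (Matrix.J (Fin d) F) v (opN a v) = 0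
    · obtain ⟨hsev, hpart⟩ := ht2 halt
      have hchoice : ∃ h' h'' : ℕ, h' + h'' = h ∧ h' ≤ s ∧ s + h'' ≤ d ∧ Even h' := by
        obtain ⟨s', hs'⟩ := hsev
        rcases Nat.lt_or_ge s h with hlt | hge
        · exact ⟨s, h - s, by omega, le_rfl, by omega, ⟨s', hs'⟩⟩
        · rcases Nat.even_or_odd h with hev | hodd
          · exact ⟨h, 0, by omega, hge, by omega, hev⟩
          · obtain ⟨h₀, hh₀⟩ := hodd
            refine ⟨h - 1, 1, by omega, by omega, ?_, ⟨h₀, by omega⟩⟩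
            rcases hcond with hc | hc
            · omega
            · omega
      obtain ⟨h', h'', e1, e2, e3, hev'⟩ := hchoice
      refine ⟨h', h'', e1, e2, e3, fun i hi => ?_⟩
      obtain ⟨j, hj, hij, hne⟩ := exists_partner hev' (by omega : h' ≤ d) i hi
      exact ⟨j, hj, hpart i j (by omega) hij hne⟩
    · push Not at halt
      have hcl := ht1 (Or.inl halt)
      refine ⟨min h s, h - min h s, by omega, min_le_right _ _, ?_, fun i hi => ⟨i, hi, hcl i ?_⟩⟩
      · rcases le_total h s with hle | hle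
        · rw [min_eq_left hle]; omega
        · rw [min_eq_right hle]; omega
      · exact lt_of_lt_of_le hi (min_le_right _ _)
  obtain ⟨h', h'', e1, e2, e3, hP⟩ := key
  obtain ⟨W, hWd, hWnd, hWN⟩ := exists_nd_of_NF hAlt hS hNFv hNE e1 e2 e3 hP
  refine ⟨W, by rw [hWd, hh]; ring, fun u hu hne => ?_, ?_⟩
  · obtain ⟨v, hv, hv'⟩ := hWnd u hu hne
    exact ⟨v, hv, by rw [sympForm_eq_bform]; exact hv'⟩
  · rintro _ ⟨w, hw, rfl⟩
    have h1 : Matrix.toLin' (a : Matrix (Fin d ⊕ Fin d) (Fin d ⊕ Fin d) F) w = opN a w + w := by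
      rw [opN_apply, Matrix.toLin'_apply]
      abel
    rw [h1]
    exact W.add_mem ((Module.End.mem_invtSubmodule _).mp hWN hw) hw

/-- the rank of a self-adjoint square-zero operator of alternating type on a nondegenerate invariant subspace is
even and at most half the dimension. -/
theorem even_rank_on_nd [FiniteDimensional F V] {B : V →ₗ[F] V →ₗ[F] F} {N : Module.End F V} (hAlt : Alt B)
    (hsq : ∀ v, N (N v) = 0) (hsa : ∀ u v, B (N u) v = B u (N v)) (halt : ∀ v, B v (N v) = 0)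
    {U : Submodule F V} (hU : U ∈ Module.End.invtSubmodule N) (hUnd : ND B U) :
    Even (finrank F ↥(U.map N)) ∧ 2 * finrank F ↥(U.map N) ≤ finrank F ↥U := by
  have hU' : ∀ x ∈ U, N x ∈ U := fun x hx => (Module.End.mem_invtSubmodule N).mp hU hx
  obtain ⟨B', hB'⟩ : ∃ B' : ↥U →ₗ[F] ↥U →ₗ[F] F, B' = B.compl₁₂ U.subtype U.subtype := ⟨_, rfl⟩
  obtain ⟨N', hN'⟩ : ∃ N' : Module.End F ↥U, N' = N.restrict hU' := ⟨_, rfl⟩
  have hB'app : ∀ x y : ↥U, B' x y = B (x : V) (y : V) := fun x y => by rw [hB']; rfl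
  have hN'app : ∀ x : ↥U, ((N' x : ↥U) : V) = N (x : V) := fun x => by rw [hN']; rfl
  have hAlt' : Alt B' := fun x => by rw [hB'app]; exact hAlt _
  have hND' : Nondeg B' := by
    intro x hx
    by_contra hne
    have hne' : (x : V) ≠ 0 := fun h => hne (Subtype.ext h)
    obtain ⟨v, hv, hv'⟩ := hUnd x x.2 hne'
    apply hv'
    have := hx ⟨v, hv⟩
    rw [hB'app] at this
    exact this
  have hsq' : ∀ x, N' (N' x) = 0 := fun x => Subtype.ext (by rw [hN'app, hN'app]; exact hsq _)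
  have hsa' : ∀ x y, B' (N' x) y = B' x (N' y) := fun x y => by
    rw [hB'app, hB'app, hN'app, hN'app]
    exact hsa _ _
  obtain ⟨K, s, E, Fv, hNF⟩ := exists_NF hperf _ ↥U B' N' hAlt' hND' hsq' hsa' rfl
  have h1 := hNF.finrank_eq hAlt'
  have h2 := hNF.finrank_range hAlt'
  have h3 : Even s := (hNF.2.2.2.2.2.2 (fun x => by rw [hB'app, hN'app]; exact halt _)).1
  have h4 : s ≤ K := hNF.2.2.2.1
  have hmap : U.map N = (LinearMap.range N').map U.subtype := by
    ext x
    constructor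
    · rintro ⟨u, hu, rfl⟩
      exact ⟨N' ⟨u, hu⟩, ⟨⟨u, hu⟩, rfl⟩, hN'app ⟨u, hu⟩⟩
    · rintro ⟨_, ⟨u, rfl⟩, rfl⟩
      exact ⟨(u : V), u.2, (hN'app u).symm⟩
  have h5 : finrank F ↥(U.map N) = s := by
    rw [hmap, ← h2]
    exact (Submodule.equivMapOfInjective U.subtype U.injective_subtype _).finrank_eq.symm
  rw [h5]
  exact ⟨h3, by omega⟩

/-- **`r = p = 2`, the derangement**: for `d` even there is an involution all of whose nondegenerate invariant
subspaces have dimension divisible by `4`. -/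
theorem exists_no_nd_char_two {d : ℕ} (hd1 : 1 ≤ d) (hde : Even d) :
    ∃ a : symplecticGroup (Fin d) F, a ^ 2 = 1 ∧
      (∀ z : F, (a : Matrix (Fin d ⊕ Fin d) (Fin d ⊕ Fin d) F) ≠ z • 1) ∧
      ∀ W : Submodule F (Fin d ⊕ Fin d → F), (∀ u ∈ W, u ≠ 0 → ∃ v ∈ W, Cfsg.sympForm d F u v ≠ 0) →
        W.map (Matrix.toLin' (a : Matrix (Fin d ⊕ Fin d) (Fin d ⊕ Fin d) F)) ≤ W → finrank F ↥W % 4 = 0 := by
  have hd2 : 2 ≤ d := by
    obtain ⟨e, he⟩ := hde
    omega
  have hD : (aMat F d d)ᵀ = aMat F d d := aMat_transpose hde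
  obtain ⟨a, haDef⟩ : ∃ a : symplecticGroup (Fin d) F, a = ⟨tMat (aMat F d d), tMat_mem _ hD⟩ := ⟨_, rfl⟩
  have hacoe : (a : Matrix (Fin d ⊕ Fin d) (Fin d ⊕ Fin d) F) = tMat (aMat F d d) := by rw [haDef]
  have ha2 : a ^ 2 = 1 := by
    apply Subtype.ext
    rw [pow_two]
    show (a : Matrix (Fin d ⊕ Fin d) (Fin d ⊕ Fin d) F) * a = 1
    rw [hacoe]
    exact tMat_sq _
  refine ⟨a, ha2, ?_, ?_⟩
  · intro z hz
    rw [hacoe] at hz
    have h1 := congrFun (congrFun hz (Sum.inl ⟨0, by omega⟩)) (Sum.inr ⟨1, by omega⟩)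
    rw [tMat, Matrix.fromBlocks_apply₁₂, aMat_apply, Matrix.smul_apply, Matrix.one_apply_ne (by simp),
      smul_zero, if_pos] at h1
    · exact one_ne_zero h1
    · refine ⟨by simp; omega, by simp, ?_⟩
      intro h
      have := congrArg Fin.val h
      simp at this
  · intro W hWnd' hWinv'
    obtain ⟨B, hB⟩ : ∃ B : LinearMap.BilinForm F (Fin d ⊕ Fin d → F),
        B = bform (Matrix.J (Fin d) F) := ⟨_, rfl⟩
    obtain ⟨N, hN⟩ : ∃ N : Module.End F (Fin d ⊕ Fin d → F), N = opN a := ⟨_, rfl⟩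
    have hAlt : Alt B := by rw [hB]; exact alt_bform_J
    have hsq : ∀ v, N (N v) = 0 := by rw [hN]; exact opN_sq a ha2
    have hsa : ∀ u v, B (N u) v = B u (N v) := by rw [hN, hB]; exact opN_sa a ha2
    have halt : ∀ v, B v (N v) = 0 := by
      intro v
      rw [hN, hB, Q_eq, hacoe, sympForm_tMat]
      exact dot_mulVec_self _ hD (aMat_diag d) _
    have hrank : finrank F ↥((⊤ : Submodule F (Fin d ⊕ Fin d → F)).map N) = d := by
      rw [Submodule.map_top, hN, ← rank_eq_finrank, hacoe, rank_tMat_sub_one, rank_aMat hde le_rfl]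
    have hWnd : ND B W := by
      intro u hu hne
      obtain ⟨v, hv, hv'⟩ := hWnd' u hu hne
      exact ⟨v, hv, by rw [hB, ← sympForm_eq_bform]; exact hv'⟩
    have hWN : W ∈ Module.End.invtSubmodule N := by
      rw [Module.End.mem_invtSubmodule]
      intro w hw
      rw [Submodule.mem_comap, hN, opN_apply, ← Matrix.toLin'_apply]
      exact W.sub_mem (hWinv' ⟨w, hw, rfl⟩) hw
    have hrefl : B.IsRefl := fun u v h => hAlt.eq_zero_of_swap h
    have hW'N : B.orthogonal W ∈ Module.End.invtSubmodule N := by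
      rw [Module.End.mem_invtSubmodule]
      intro u hu
      rw [Submodule.mem_comap, mem_perp]
      intro w hw
      rw [← hsa]
      exact mem_perp.mp hu _ ((Module.End.mem_invtSubmodule N).mp hWN hw)
    have hcompl := isCompl_perp hrefl hWnd
    have hW'nd : ND B (B.orthogonal W) := by
      have := nd_perp_inf hrefl hWnd (V := Fin d ⊕ Fin d → F) (W := ⊤) ?_ le_top
      · rwa [inf_top_eq] at this
      · intro u _ hne
        by_contra hcon
        push Not at hcon
        apply hne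
        have hnd : Nondeg B := by
          rw [hB]
          exact nondeg_bform _ (Matrix.isUnit_det_J (Fin d) F).ne_zero
        exact hnd u (fun v => hcon v Submodule.mem_top)
    obtain ⟨hev, hle⟩ := even_rank_on_nd hAlt hsq hsa halt hWN hWnd
    obtain ⟨-, hle'⟩ := even_rank_on_nd hAlt hsq hsa halt hW'N hW'nd
    have hadd := rprof_sup hWN hW'N hcompl.disjoint 1
    unfold rprof at hadd
    rw [pow_one, hcompl.sup_eq_top, hrank] at hadd
    have hdim := Submodule.finrank_add_eq_of_isCompl hcompl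
    rw [finrank_std] at hdim
    obtain ⟨e, he⟩ := hev
    omega

end Cfsg.Agent.Helper7.SpUn
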