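import Mathlib
import Cfsg.Agent.Helper7.SpUnD

/-!
# Involutions of the projective symplectic group in odd characteristic and nondegenerate subspaces
-/

set_option autoImplicit false

namespace Cfsg.Agent.Helper7.SpUn

open Matrix Module Cfsg.Agent.Helper8.SpS Cfsg.Agent.Helper8.SpStab Cfsg.Agent.Helper7.POrd
  Cfsg.Agent.Helper7.SpOrd

variable {F : Type*} [Field F] {V : Type*} [AddCommGroup V] [Module F V]

/-- **involutions**: `T ^ 2 = 1`. -/
theorem exists_nd_invol [FiniteDimensional F V] {B : LinearMap.BilinForm F V} (hB : B.IsAlt) (hV : ND B ⊤)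
    {T : Module.End F V} (hiso : ∀ u v, B (T u) (T v) = B u v) (h2 : (2 : F) ≠ 0) (hT : T ^ 2 = 1) {d h : ℕ}
    (hd : finrank F V = 2 * d) (hh : h ≤ d) :
    ∃ W : Submodule F V, W ∈ Module.End.invtSubmodule T ∧ ND B W ∧ finrank F ↥W = 2 * h := by
  have hrefl := hB.isRefl
  have h2' : ((2 : ℕ) : F) ≠ 0 := by rw [Nat.cast_ofNat]; exact h2
  have hmovnd : ND B (movS 2 T) := by
    have := nd_inf_mov hrefl hiso h2' hT (Module.End.invtSubmodule.top_mem T) hV
    rwa [top_inf_eq] at this
  have hfixnd : ND B (fixS T) := by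
    have := nd_inf_fix hrefl hiso h2' hT (Module.End.invtSubmodule.top_mem T) hV
    rwa [top_inf_eq] at this
  have hsum := finrank_fix_add_mov h2' hT
  rw [hd] at hsum
  obtain ⟨a', ha'⟩ := even_finrank_of_nd hB hfixnd
  obtain ⟨b', hb'⟩ := even_finrank_of_nd hB hmovnd
  obtain ⟨U₁, hU₁, hU₁nd, hU₁d, -⟩ := exists_nd_sub hB hfixnd (min h a') (by omega)
  obtain ⟨U₂, hU₂, hU₂nd, hU₂d, -⟩ := exists_nd_sub hB hmovnd (h - min h a') (by omega)
  have hU₁inv : U₁ ∈ Module.End.invtSubmodule T := invt_of_le_fixS hU₁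
  have hU₂inv : U₂ ∈ Module.End.invtSubmodule T := by
    rw [Module.End.mem_invtSubmodule]
    intro v hv
    rw [Submodule.mem_comap]
    have h1 := mem_movS.mp (hU₂ hv)
    unfold Phi at h1
    rw [Finset.sum_range_succ, Finset.sum_range_succ, Finset.sum_range_zero, zero_add, pow_zero, pow_one,
      LinearMap.add_apply, Module.End.one_apply] at h1
    rw [eq_neg_of_add_eq_zero_right h1]
    exact U₂.neg_mem hv
  have hperp : U₂ ≤ B.orthogonal U₁ := by
    intro v hv
    rw [mem_perp]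
    intro w hw
    exact fix_perp_mov hiso h2' (hU₁ hw) (hU₂ hv)
  refine ⟨U₁ ⊔ U₂, sup_invt hU₁inv hU₂inv, nd_sup hrefl hU₁nd hU₂nd hperp, ?_⟩
  rw [finrank_sup_of_le_perp hrefl hU₁nd hperp, hU₁d, hU₂d]
  omega

/-- a pair of vectors with nonzero product spans a nondegenerate plane. -/
theorem nd_span_pair [FiniteDimensional F V] {B : LinearMap.BilinForm F V} (hB : B.IsAlt) {u v : V}
    (huv : B u v ≠ 0) : ND B (Submodule.span F {u, v}) ∧ finrank F ↥(Submodule.span F {u, v}) = 2 := by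
  classical
  have hvu : B v u ≠ 0 := by
    rw [← LinearMap.IsAlt.neg hB u v]
    exact neg_ne_zero.mpr huv
  have hu0 : u ≠ 0 := by
    intro h
    rw [h, map_zero, LinearMap.zero_apply] at huv
    exact huv rfl
  have hP : ND B (Submodule.span F {u, v}) := by
    intro x hx hx0
    obtain ⟨α, β, rfl⟩ := Submodule.mem_span_pair.mp hx
    by_cases hα : α = 0
    · have hβ : β ≠ 0 := by
        intro h
        apply hx0
        rw [hα, h, zero_smul, zero_smul, add_zero]
      refine ⟨u, Submodule.subset_span (by simp), ?_⟩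
      rw [map_add, LinearMap.add_apply, map_smul, map_smul, LinearMap.smul_apply, LinearMap.smul_apply, hB u,
        smul_zero, zero_add, smul_eq_mul]
      exact mul_ne_zero hβ hvu
    · refine ⟨v, Submodule.subset_span (by simp), ?_⟩
      rw [map_add, LinearMap.add_apply, map_smul, map_smul, LinearMap.smul_apply, LinearMap.smul_apply, hB v,
        smul_zero, add_zero, smul_eq_mul]
      exact mul_ne_zero hα huv
  refine ⟨hP, ?_⟩
  have hev := even_finrank_of_nd hB hP
  have h2 : finrank F ↥(Submodule.span F {u, v}) ≤ 2 := by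
    have h := finrank_span_le_card (R := F) ({u, v} : Set V)
    have h3 : ({u, v} : Set V).toFinset.card ≤ 2 := by
      have : ({u, v} : Set V).toFinset = {u, v} := by ext; simp
      rw [this]
      exact Finset.card_le_two
    omega
  have hpos : 0 < finrank F ↥(Submodule.span F {u, v}) := by
    rw [Module.finrank_pos_iff_exists_ne_zero]
    exact ⟨⟨u, Submodule.subset_span (by simp)⟩, fun h => hu0 (congrArg Subtype.val h)⟩
  obtain ⟨k, hk⟩ := hev
  omega

/-- **building up**: nondegenerate invariant subspaces of all even dimensions from invariant planes. -/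
theorem exists_nd_chain [FiniteDimensional F V] {B : LinearMap.BilinForm F V} (hB : B.IsAlt) (hV : ND B ⊤)
    {T : Module.End F V} (hiso : ∀ u v, B (T u) (T v) = B u v) {r : ℕ} (hr : 0 < r) (hTr : T ^ r = 1)
    (hplane : ∀ U : Submodule F V, U ∈ Module.End.invtSubmodule T → ND B U → U ≠ ⊥ →
      ∃ P : Submodule F V, P ≤ U ∧ P ∈ Module.End.invtSubmodule T ∧ ND B P ∧ finrank F ↥P = 2) :
    ∀ h : ℕ, 2 * h ≤ finrank F V →
      ∃ W : Submodule F V, W ∈ Module.End.invtSubmodule T ∧ ND B W ∧ finrank F ↥W = 2 * h := by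
  intro h
  induction h with
  | zero => intro _; exact ⟨⊥, Module.End.invtSubmodule.bot_mem T, nd_bot B, by simp⟩
  | succ h ih =>
    intro hh
    obtain ⟨W, hWT, hWnd, hWd⟩ := ih (by omega)
    have hU'T : (B.orthogonal W ⊓ ⊤) ∈ Module.End.invtSubmodule T :=
      inf_invt (perp_invt hiso hr hTr hWT) (Module.End.invtSubmodule.top_mem T)
    have hU'nd : ND B (B.orthogonal W ⊓ ⊤) := nd_perp_inf hB.isRefl hWnd hV le_top
    have hdim := finrank_perp_inf hB.isRefl hWnd (le_top : W ≤ ⊤)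
    rw [finrank_top] at hdim
    have hne : B.orthogonal W ⊓ ⊤ ≠ ⊥ := by
      intro h0
      rw [h0, finrank_bot] at hdim
      omega
    obtain ⟨P, hPle, hPT, hPnd, hPd⟩ := hplane _ hU'T hU'nd hne
    have hperp : P ≤ B.orthogonal W := hPle.trans inf_le_left
    refine ⟨W ⊔ P, sup_invt hWT hPT, nd_sup hB.isRefl hWnd hPnd hperp, ?_⟩
    rw [finrank_sup_of_le_perp hB.isRefl hWnd hperp, hWd, hPd]
    ring

/-- **`T * T = -1`**: invariant nondegenerate planes. -/
theorem exists_plane_sq_neg_one [FiniteDimensional F V] {B : LinearMap.BilinForm F V} (hB : B.IsAlt)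
    {T : Module.End F V} (hiso : ∀ u v, B (T u) (T v) = B u v) (h2 : (2 : F) ≠ 0) (hTT : T * T = -1)
    {U : Submodule F V} (hU : U ∈ Module.End.invtSubmodule T) (hUnd : ND B U) (hne : U ≠ ⊥) :
    ∃ P : Submodule F V, P ≤ U ∧ P ∈ Module.End.invtSubmodule T ∧ ND B P ∧ finrank F ↥P = 2 := by
  have hTTv : ∀ v, T (T v) = -v := by
    intro v
    have := congrArg (fun f : Module.End F V => f v) hTT
    simpa [Module.End.mul_apply] using this
  have hsymm : ∀ u v, B u (T v) = B v (T u) := by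
    intro u v
    rw [← hiso u (T v), hTTv, map_neg, ← hB.neg_eq v (T u), neg_neg]
  have hU' : ∀ x ∈ U, T x ∈ U := fun x hx => (Module.End.mem_invtSubmodule T).mp hU hx
  obtain ⟨v, hv, hvv⟩ : ∃ v ∈ U, B v (T v) ≠ 0 := by
    by_contra hcon
    push Not at hcon
    have hall : ∀ u ∈ U, ∀ v ∈ U, B u (T v) = 0 := by
      intro u hu v hv
      have h1 := hcon (u + v) (U.add_mem hu hv)
      simp only [map_add, LinearMap.add_apply] at h1
      rw [hcon u hu, hcon v hv, ← hsymm u v, zero_add, add_zero, ← two_mul] at h1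
      exact (mul_eq_zero.mp h1).resolve_left h2
    obtain ⟨u, huU, hu0⟩ := Submodule.exists_mem_ne_zero_of_ne_bot hne
    obtain ⟨w, hw, hw'⟩ := hUnd u huU hu0
    apply hw'
    have h3 := hall u huU (-(T w)) (U.neg_mem (hU' w hw))
    rw [map_neg, hTTv, neg_neg] at h3
    exact h3
  obtain ⟨hPnd, hPd⟩ := nd_span_pair hB hvv
  refine ⟨Submodule.span F {v, T v}, ?_, ?_, hPnd, hPd⟩
  · rw [Submodule.span_le]
    intro x hx
    rcases hx with rfl | rfl
    · exact hv
    · exact hU' _ hv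
  · rw [Module.End.mem_invtSubmodule, ← Submodule.map_le_iff_le_comap, Submodule.map_span, Submodule.span_le]
    rintro _ ⟨x, hx, rfl⟩
    rcases hx with rfl | rfl
    · exact Submodule.subset_span (by simp)
    · rw [hTTv]
      exact Submodule.neg_mem _ (Submodule.subset_span (by simp))

variable {K : Type*} [Field K] [Fintype K] {p : ℕ} [Fact p.Prime] [CharP K p]

/-- **`r = 2 ≠ p`, existence.** -/
theorem exists_nd_invt_two (hp2 : p ≠ 2) {d m : ℕ} (hd : 1 ≤ d) (hme : Even m) (hmd : m ≤ 2 * d)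
    (x : symplecticGroup (Fin d) K) {z : K}
    (hz : ((x ^ 2 : symplecticGroup (Fin d) K) : Matrix (Fin d ⊕ Fin d) (Fin d ⊕ Fin d) K) = z • 1) :
    ∃ W : Submodule K (Fin d ⊕ Fin d → K), finrank K ↥W = m ∧
      (∀ u ∈ W, u ≠ 0 → ∃ v ∈ W, Cfsg.sympForm d K u v ≠ 0) ∧
      W.map (Matrix.toLin' (x : Matrix (Fin d ⊕ Fin d) (Fin d ⊕ Fin d) K)) ≤ W := by
  have hp : p.Prime := Fact.out
  have h2 : (2 : K) ≠ 0 := by
    intro h
    have h1 : ((2 : ℕ) : K) = 0 := by rw [Nat.cast_ofNat]; exact h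
    rw [CharP.cast_eq_zero_iff K p 2] at h1
    exact hp2 ((Nat.prime_dvd_prime_iff_eq hp Nat.prime_two).mp h1)
  obtain ⟨X, hX⟩ : ∃ X : Module.End K (Fin d ⊕ Fin d → K),
      X = Matrix.toLin' (x : Matrix (Fin d ⊕ Fin d) (Fin d ⊕ Fin d) K) := ⟨_, rfl⟩
  have hXr : X ^ 2 = z • (1 : Module.End K (Fin d ⊕ Fin d → K)) := by
    rw [hX, toLin'_pow_symp, hz, map_smul, Matrix.toLin'_one]
    rfl
  have hisoX : ∀ u v, sB d K (X u) (X v) = sB d K u v := by
    intro u v
    rw [hX]
    exact sB_iso x u v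
  have hz2 := scalar_sq_eq_one hd hisoX hXr
  obtain ⟨h, hh⟩ := hme
  have key : ∃ W : Submodule K (Fin d ⊕ Fin d → K), W ∈ Module.End.invtSubmodule X ∧ ND (sB d K) W ∧
      finrank K ↥W = 2 * h := by
    rcases mul_self_eq_one_iff.mp hz2 with h1 | h1
    · rw [h1, one_smul] at hXr
      exact exists_nd_invol (sB_isAlt d) (sB_ND d) hisoX h2 hXr (finrank_std d) (by omega)
    · have hXX : X * X = -1 := by
        rw [← pow_two, hXr, h1]
        exact neg_one_smul K (1 : Module.End K (Fin d ⊕ Fin d → K))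
      have hX4 : X ^ 4 = 1 := by
        have h4 : X ^ 4 = (X * X) * (X * X) := by
          simp only [pow_succ, pow_zero, one_mul, mul_assoc]
        rw [h4, hXX]
        refine LinearMap.ext fun v => ?_
        simp
      exact exists_nd_chain (sB_isAlt d) (sB_ND d) hisoX (by norm_num : 0 < 4) hX4
        (fun U hU hUnd hne => exists_plane_sq_neg_one (sB_isAlt d) hisoX h2 hXX hU hUnd hne) h
        (by rw [finrank_std]; omega)
  obtain ⟨W, hW, hWnd, hWd⟩ := key
  rw [hX] at hW
  exact to_statement_nd _ hW hWnd (by rw [hWd, hh]; ring)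

end Cfsg.Agent.Helper7.SpUn
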