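import Mathlib
import Cfsg.Agent.Helper7.SpUnF
import Cfsg.Agent.Helper7.SpTIN

/-!
# Elements of odd prime order `r ≠ p` of the symplectic group and nondegenerate subspaces
-/

set_option autoImplicit false

namespace Cfsg.Agent.Helper7.SpUn

open Matrix Module Cfsg.Agent.Helper8.SpS Cfsg.Agent.Helper8.SpStab Cfsg.Agent.Helper7.POrd
  Cfsg.Agent.Helper7.SpOrd

variable {F : Type*} [Field F] [Fintype F] {V : Type*} [AddCommGroup V] [Module F V] [Finite V]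
  {p : ℕ} [Fact p.Prime] [CharP F p] {r : ℕ} [Fact r.Prime]

/-- the abstract existence step. -/
theorem exists_nd_invt_odd_aux (hr2 : r ≠ 2) (hrp : r ≠ p) {B : LinearMap.BilinForm F V} (hB : B.IsAlt)
    {T : Module.End F V} (hiso : ∀ u v, B (T u) (T v) = B u v) (hT : T ^ r = 1) {m : ℕ} (hme : Even m)
    (E : Submodule F V) (hE : E ∈ Module.End.invtSubmodule T) (hND : ND B E) (hmE : m ≤ finrank F ↥E)
    (hfix : m % cOf (orderOf ((Fintype.card F : ℕ) : ZMod r)) ≤ finrank F ↥(E ⊓ fixS T)) :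
    ∃ W : Submodule F V, W ≤ E ∧ W ∈ Module.End.invtSubmodule T ∧ ND B W ∧ finrank F ↥W = m := by
  have hfd : FiniteDimensional F V := Module.Finite.of_finite
  have hr : 0 < r := (Fact.out : r.Prime).pos
  have hrF : (r : F) ≠ 0 := natCast_ne_zero_of_ne hrp
  have hrefl := hB.isRefl
  obtain ⟨c, hc⟩ : ∃ c, c = cOf (orderOf ((Fintype.card F : ℕ) : ZMod r)) := ⟨_, rfl⟩
  have hcpos : 0 < c := by rw [hc]; exact cOf_pos (orderOf_q_pos (F := F) hrp)
  have hcev : Even c := by rw [hc]; exact cOf_even _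
  rw [← hc] at hfix
  have hE1 : ND B (E ⊓ fixS T) := nd_inf_fix hrefl hiso hrF hT hE hND
  have hE' : ND B (E ⊓ movS r T) := nd_inf_mov hrefl hiso hrF hT hE hND
  have hE'inv : E ⊓ movS r T ∈ Module.End.invtSubmodule T := inf_invt hE (movS_invt r T)
  have hE'fix : (E ⊓ movS r T) ⊓ fixS T = ⊥ := by
    rw [eq_bot_iff]
    intro x hx
    have := (disjoint_fix_mov hrF T)
    rw [Submodule.disjoint_def] at this
    exact (Submodule.mem_bot F).mpr (this x hx.2 hx.1.2)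
  have hsum := finrank_invt_decomp hrF hT hE
  obtain ⟨K, hK⟩ : c ∣ finrank F ↥(E ⊓ movS r T) := by
    rw [hc]
    exact cOf_dvd_finrank hr2 hrp hB hiso hT _ _ rfl hE'inv hE' hE'fix
  obtain ⟨s, hs⟩ : ∃ s, s = min K (m / c) := ⟨_, rfl⟩
  have hsK : s ≤ K := by rw [hs]; exact min_le_left _ _
  have hsa : s ≤ m / c := by rw [hs]; exact min_le_right _ _
  have hdm := Nat.div_add_mod m c
  have hcs_le : c * s ≤ m := by
    have : c * s ≤ c * (m / c) := Nat.mul_le_mul_left c hsa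
    omega
  have hcsK : c * s ≤ c * K := Nat.mul_le_mul_left c hsK
  obtain ⟨D', hD'le, hD'inv, hD'nd, hD'd⟩ :=
    exists_nd_mul hr2 hrp hB hiso hT s _ hE'inv hE' hE'fix (by rw [← hc, hK]; exact hcsK)
  rw [← hc] at hD'd
  obtain ⟨k, hk⟩ : ∃ k, m - c * s = 2 * k := by
    obtain ⟨a', ha'⟩ := hme
    obtain ⟨c', hc'⟩ := hcev
    refine ⟨a' - c' * s, ?_⟩
    rw [ha', hc']
    have : (c' + c') * s = c' * s + c' * s := by ring
    rw [this]
    have : c' * s + c' * s ≤ a' + a' := by rw [← this, ← hc', ← ha']; exact hcs_le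
    omega
  have hkle : 2 * k ≤ finrank F ↥(E ⊓ fixS T) := by
    rw [← hk]
    rcases min_choice K (m / c) with h | h
    · rw [h] at hs
      rw [hs]
      omega
    · rw [h] at hs
      rw [hs]
      have h1 : m - c * (m / c) = m % c := by omega
      rw [h1]
      exact hfix
  obtain ⟨D₁, hD₁le, hD₁nd, hD₁d, -⟩ := exists_nd_sub hB hE1 k hkle
  have hD₁inv : D₁ ∈ Module.End.invtSubmodule T := invt_of_le_fixS (hD₁le.trans inf_le_right)
  have hperp : D' ≤ B.orthogonal D₁ := by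
    intro v hv
    rw [mem_perp]
    intro u hu
    exact fix_perp_mov hiso hrF (hD₁le hu).2 (hD'le hv).2
  refine ⟨D₁ ⊔ D', sup_le (hD₁le.trans inf_le_left) (hD'le.trans inf_le_left), sup_invt hD₁inv hD'inv,
    nd_sup hrefl hD₁nd hD'nd hperp, ?_⟩
  rw [finrank_sup_of_le_perp hrefl hD₁nd hperp, hD₁d, hD'd, ← hk]
  omega

/-- **`r` odd, `r ≠ p`, existence.** -/
theorem exists_nd_invt_odd (hr2 : r ≠ 2) (hrp : r ≠ p) {d m : ℕ} (hd : 1 ≤ d) (hme : Even m) (hmd : m ≤ 2 * d)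
    (h1 : m % cOf (orderOf ((Fintype.card F : ℕ) : ZMod r)) ≤
      (2 * d) % cOf (orderOf ((Fintype.card F : ℕ) : ZMod r)))
    (x : symplecticGroup (Fin d) F) {z : F}
    (hz : ((x ^ r : symplecticGroup (Fin d) F) : Matrix (Fin d ⊕ Fin d) (Fin d ⊕ Fin d) F) = z • 1) :
    ∃ W : Submodule F (Fin d ⊕ Fin d → F), finrank F ↥W = m ∧
      (∀ u ∈ W, u ≠ 0 → ∃ v ∈ W, Cfsg.sympForm d F u v ≠ 0) ∧
      W.map (Matrix.toLin' (x : Matrix (Fin d ⊕ Fin d) (Fin d ⊕ Fin d) F)) ≤ W := by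
  obtain ⟨X, hX⟩ : ∃ X : Module.End F (Fin d ⊕ Fin d → F),
      X = Matrix.toLin' (x : Matrix (Fin d ⊕ Fin d) (Fin d ⊕ Fin d) F) := ⟨_, rfl⟩
  have hXr : X ^ r = z • (1 : Module.End F (Fin d ⊕ Fin d → F)) := by
    rw [hX, toLin'_pow_symp, hz, map_smul, Matrix.toLin'_one]
    rfl
  have hisoX : ∀ u v, sB d F (X u) (X v) = sB d F u v := by
    intro u v
    rw [hX]
    exact sB_iso x u v
  have hz2 := scalar_sq_eq_one hd hisoX hXr
  have hz0 : z ≠ 0 := by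
    intro h
    rw [h, mul_zero] at hz2
    exact zero_ne_one hz2
  obtain ⟨T, hTdef⟩ : ∃ T : Module.End F (Fin d ⊕ Fin d → F), T = z • X := ⟨_, rfl⟩
  have hT : T ^ r = 1 := by
    rw [hTdef, _root_.smul_pow, hXr, smul_smul, pow_succ_eq_one_of_sq hr2 hz2, one_smul]
  have hisoT : ∀ u v, sB d F (T u) (T v) = sB d F u v := by
    intro u v
    rw [hTdef, LinearMap.smul_apply, LinearMap.smul_apply, map_smul, map_smul, LinearMap.smul_apply, smul_eq_mul,
      smul_eq_mul, hisoX, ← mul_assoc, hz2, one_mul]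
  obtain ⟨W, -, hW, hWnd, hWd⟩ := exists_nd_invt_odd_aux hr2 hrp (sB_isAlt (F := F) d) hisoT hT hme ⊤
    (Module.End.invtSubmodule.top_mem _) (sB_ND d) (by rw [finrank_top, finrank_std]; exact hmd) (by
      rw [top_inf_eq]
      exact h1.trans (mod_le_finrank_fix hr2 hrp hisoT hT).1)
  have hW' : W ∈ Module.End.invtSubmodule X := by
    rw [Module.End.mem_invtSubmodule, ← Submodule.map_le_iff_le_comap] at hW ⊢
    rw [hTdef, Submodule.map_smul X W z hz0] at hW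
    exact hW
  rw [hX] at hW'
  exact to_statement_nd _ hW' hWnd hWd

/-- **`r` odd, `r ≠ p`, necessity.** -/
theorem cond_of_forall_odd_nd (hr2 : r ≠ 2) (hrp : r ≠ p) {d m : ℕ} (hd : 1 ≤ d) (hm1 : 1 ≤ m) (hmd : m ≤ 2 * d)
    (hj : ∃ j, 2 * j < m ∧ r ∣ Fintype.card F ^ (2 * d - 2 * j) - 1)
    (hall : ∀ x : symplecticGroup (Fin d) F,
      (∃ z : F, ((x ^ r : symplecticGroup (Fin d) F) : Matrix (Fin d ⊕ Fin d) (Fin d ⊕ Fin d) F) = z • 1) →
      (∀ z : F, (x : Matrix (Fin d ⊕ Fin d) (Fin d ⊕ Fin d) F) ≠ z • 1) →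
      ∃ W : Submodule F (Fin d ⊕ Fin d → F), finrank F ↥W = m ∧
        (∀ u ∈ W, u ≠ 0 → ∃ v ∈ W, Cfsg.sympForm d F u v ≠ 0) ∧
        W.map (Matrix.toLin' (x : Matrix (Fin d ⊕ Fin d) (Fin d ⊕ Fin d) F)) ≤ W) :
    cOf (orderOf ((Fintype.card F : ℕ) : ZMod r)) ≤ m ∧
    m % cOf (orderOf ((Fintype.card F : ℕ) : ZMod r)) ≤
      (2 * d) % cOf (orderOf ((Fintype.card F : ℕ) : ZMod r)) := by
  have hr : r.Prime := Fact.out
  have hrF : (r : F) ≠ 0 := natCast_ne_zero_of_ne hrp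
  have hipos : 0 < orderOf ((Fintype.card F : ℕ) : ZMod r) := orderOf_q_pos hrp
  obtain ⟨j, hjm, hj⟩ := hj
  have hij : orderOf ((Fintype.card F : ℕ) : ZMod r) ∣ 2 * (d - j) := by
    have := orderOf_dvd_of_dvd_pow_sub_one hj
    rwa [show 2 * d - 2 * j = 2 * (d - j) by omega] at this
  have hcj : cOf (orderOf ((Fintype.card F : ℕ) : ZMod r)) ∣ 2 * (d - j) := cOf_dvd_of_dvd hij
  have hcpos : 0 < cOf (orderOf ((Fintype.card F : ℕ) : ZMod r)) := cOf_pos hipos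
  obtain ⟨c, hc⟩ : ∃ c, c = cOf (orderOf ((Fintype.card F : ℕ) : ZMod r)) := ⟨_, rfl⟩
  have hcle : c ≤ 2 * d := by
    rw [hc]
    have := Nat.le_of_dvd (by omega) hcj
    omega
  have hmodle : (2 * d) % c ≤ 2 * j := by
    rw [hc]
    obtain ⟨k, hk⟩ := hcj
    rw [show 2 * d = cOf (orderOf ((Fintype.card F : ℕ) : ZMod r)) * k + 2 * j by omega, Nat.mul_add_mod]
    exact Nat.mod_le _ _
  have hD1 : m % c ≤ (2 * d) % c := by
    obtain ⟨x, hxr, hx1, hfix⟩ := exists_elt_blocks (F := F) hr2 hrp d ((2 * d) / c) (by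
      rw [← hc]; exact Nat.mul_div_le (2 * d) c)
    have hx1' : x ≠ 1 := hx1 (Nat.div_pos hcle (by rw [hc]; exact hcpos))
    rw [← hc] at hfix
    have hfix' : finrank F ↥(fixS (Matrix.toLin' (x : Matrix (Fin d ⊕ Fin d) (Fin d ⊕ Fin d) F))) = (2 * d) % c := by
      rw [hfix]
      have := Nat.div_add_mod (2 * d) c
      omega
    have hns := not_scalar_of_pow hr2 hd hxr hx1'
    obtain ⟨W, hWd, hWnd, hWinv⟩ := hall x ⟨1, by rw [hxr, one_smul]; rfl⟩ hns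
    obtain ⟨hW1, hW2⟩ := of_statement_nd _ hWnd hWinv
    have hT : (Matrix.toLin' (x : Matrix (Fin d ⊕ Fin d) (Fin d ⊕ Fin d) F) :
        Module.End F (Fin d ⊕ Fin d → F)) ^ r = 1 := by
      rw [toLin'_pow_symp, hxr]
      exact Matrix.toLin'_one
    have hsum := finrank_invt_decomp hrF hT hW1
    have hW' : ND (sB d F) (W ⊓ movS r (Matrix.toLin' (x : Matrix (Fin d ⊕ Fin d) (Fin d ⊕ Fin d) F))) :=
      nd_inf_mov (sB_isAlt d).isRefl (sB_iso x) hrF hT hW1 hW2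
    have hW'inv : W ⊓ movS r (Matrix.toLin' (x : Matrix (Fin d ⊕ Fin d) (Fin d ⊕ Fin d) F)) ∈
        Module.End.invtSubmodule (Matrix.toLin' (x : Matrix (Fin d ⊕ Fin d) (Fin d ⊕ Fin d) F)) :=
      inf_invt hW1 (movS_invt r _)
    have hW'fix : (W ⊓ movS r (Matrix.toLin' (x : Matrix (Fin d ⊕ Fin d) (Fin d ⊕ Fin d) F))) ⊓
        fixS (Matrix.toLin' (x : Matrix (Fin d ⊕ Fin d) (Fin d ⊕ Fin d) F)) = ⊥ := by
      rw [eq_bot_iff]
      intro v hv
      have := (disjoint_fix_mov hrF (Matrix.toLin' (x : Matrix (Fin d ⊕ Fin d) (Fin d ⊕ Fin d) F)))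
      rw [Submodule.disjoint_def] at this
      exact (Submodule.mem_bot F).mpr (this v hv.2 hv.1.2)
    obtain ⟨l, hl⟩ : c ∣ finrank F ↥(W ⊓ movS r (Matrix.toLin' (x : Matrix (Fin d ⊕ Fin d) (Fin d ⊕ Fin d) F))) := by
      rw [hc]
      exact cOf_dvd_finrank hr2 hrp (sB_isAlt d) (sB_iso x) hT _ _ rfl hW'inv hW' hW'fix
    have hle : finrank F ↥(W ⊓ fixS (Matrix.toLin' (x : Matrix (Fin d ⊕ Fin d) (Fin d ⊕ Fin d) F))) ≤
        (2 * d) % c := by
      rw [← hfix']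
      exact Submodule.finrank_mono inf_le_right
    rw [hWd, hl] at hsum
    rw [hsum, Nat.add_mul_mod_self_left]
    exact (Nat.mod_le _ _).trans hle
  rw [← hc]
  refine ⟨?_, hD1⟩
  by_contra hcon
  rw [Nat.mod_eq_of_lt (by omega)] at hD1
  omega

end Cfsg.Agent.Helper7.SpUn
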