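import Mathlib
import Cfsg.Agent.Helper7.SpUnG
import Cfsg.Agent.Helper7.SpUnE

/-!
# Counting nondegenerate subspaces of a symplectic space via hyperbolic frames
-/

set_option autoImplicit false

namespace Cfsg.Agent.Helper7.SpUn

open Module Cfsg.Agent.Helper8.SpS Cfsg.Agent.Helper8.Sp2 Cfsg.Agent.Helper7.POrd Cfsg.Agent.Helper7.SpOrd

universe u

variable {F : Type*} [Field F] {V : Type u} [AddCommGroup V] [Module F V]

/-- hyperbolic frames inside `U`. -/
abbrev HFr (B : LinearMap.BilinForm F V) (U : Submodule F V) (k : ℕ) : Type _ :=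
  {s : (Fin k → V) × (Fin k → V) // IsSympFam B s.1 s.2 ∧ (∀ a, s.1 a ∈ U) ∧ (∀ a, s.2 a ∈ U)}

variable (F) in
/-- the span of a frame. -/
def hspan {k : ℕ} (s : (Fin k → V) × (Fin k → V)) : Submodule F V :=
  Submodule.span F (Set.range (Sum.elim s.1 s.2))

/-- nondegenerate subspaces of dimension `m`. -/
abbrev NdSub (B : LinearMap.BilinForm F V) (m : ℕ) : Type _ :=
  {W : Submodule F V // finrank F ↥W = m ∧ ND B W}

/-- hyperbolic pairs inside `P`. -/
abbrev HPair (B : LinearMap.BilinForm F V) (P : Submodule F V) : Type _ :=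
  {ef : V × V // ef.1 ∈ P ∧ ef.2 ∈ P ∧ B ef.1 ef.2 = 1}

theorem mem_perp_hspan {B : LinearMap.BilinForm F V} {k : ℕ} (s : (Fin k → V) × (Fin k → V)) (v : V) :
    v ∈ B.orthogonal (hspan F s) ↔ (∀ a, B (s.1 a) v = 0) ∧ (∀ a, B (s.2 a) v = 0) := by
  rw [mem_perp]
  constructor
  · intro h
    exact ⟨fun a => h _ (Submodule.subset_span ⟨Sum.inl a, rfl⟩),
      fun a => h _ (Submodule.subset_span ⟨Sum.inr a, rfl⟩)⟩
  · rintro ⟨h1, h2⟩ w hw
    have hle : hspan F s ≤ LinearMap.ker (B.flip v) := by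
      unfold hspan
      rw [Submodule.span_le]
      rintro _ ⟨x, rfl⟩
      rw [SetLike.mem_coe, LinearMap.mem_ker]
      rcases x with a | a
      · exact h1 a
      · exact h2 a
    exact LinearMap.mem_ker.mp (hle hw)

theorem hspan_le {k : ℕ} {s : (Fin k → V) × (Fin k → V)} {U : Submodule F V} (h1 : ∀ a, s.1 a ∈ U)
    (h2 : ∀ a, s.2 a ∈ U) : hspan F s ≤ U := by
  unfold hspan
  rw [Submodule.span_le]
  rintro _ ⟨x, rfl⟩
  rcases x with a | a
  · exact h1 a
  · exact h2 a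

theorem isSympFam_tail {B : LinearMap.BilinForm F V} {k : ℕ} {e f : Fin (k + 1) → V} (h : IsSympFam B e f) :
    IsSympFam B (Fin.tail e) (Fin.tail f) := by
  obtain ⟨he, hf, hef⟩ := h
  refine ⟨fun a b => he _ _, fun a b => hf _ _, fun a b => ?_⟩
  unfold Fin.tail
  rw [hef]
  simp only [Fin.succ_inj]

theorem isSympFam_cons {B : LinearMap.BilinForm F V} (hB : B.IsAlt) {k : ℕ} {e f : Fin k → V}
    (h : IsSympFam B e f) {e0 f0 : V} (he0 : ∀ a, B (e a) e0 = 0) (he0' : ∀ a, B (f a) e0 = 0)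
    (hf0 : ∀ a, B (e a) f0 = 0) (hf0' : ∀ a, B (f a) f0 = 0) (h1 : B e0 f0 = 1) :
    IsSympFam B (Fin.cons e0 e : Fin (k + 1) → V) (Fin.cons f0 f : Fin (k + 1) → V) := by
  obtain ⟨he, hf, hef⟩ := h
  have hrefl := hB.isRefl
  refine ⟨fun a b => ?_, fun a b => ?_, fun a b => ?_⟩
  · refine Fin.cases ?_ (fun a' => ?_) a <;> refine Fin.cases ?_ (fun b' => ?_) b
    · simp only [Fin.cons_zero]; exact hB _
    · simp only [Fin.cons_zero, Fin.cons_succ]; exact hrefl _ _ (he0 b')
    · simp only [Fin.cons_zero, Fin.cons_succ]; exact he0 a'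
    · simp only [Fin.cons_succ]; exact he a' b'
  · refine Fin.cases ?_ (fun a' => ?_) a <;> refine Fin.cases ?_ (fun b' => ?_) b
    · simp only [Fin.cons_zero]; exact hB _
    · simp only [Fin.cons_zero, Fin.cons_succ]; exact hrefl _ _ (hf0' b')
    · simp only [Fin.cons_zero, Fin.cons_succ]; exact hf0' a'
    · simp only [Fin.cons_succ]; exact hf a' b'
  · refine Fin.cases ?_ (fun a' => ?_) a <;> refine Fin.cases ?_ (fun b' => ?_) b
    · simp only [Fin.cons_zero]; rw [if_pos trivial]; exact h1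
    · simp only [Fin.cons_zero, Fin.cons_succ]
      rw [if_neg (Fin.succ_ne_zero b').symm]
      exact hrefl _ _ (he0' b')
    · simp only [Fin.cons_zero, Fin.cons_succ]
      rw [if_neg (Fin.succ_ne_zero a')]
      exact hf0 a'
    · simp only [Fin.cons_succ, Fin.succ_inj]; exact hef a' b'

theorem hfr_head_props {B : LinearMap.BilinForm F V} (hB : B.IsAlt) {k : ℕ} {e f : Fin (k + 1) → V}
    (h : IsSympFam B e f) :
    e 0 ∈ B.orthogonal (hspan F (Fin.tail e, Fin.tail f)) ∧ f 0 ∈ B.orthogonal (hspan F (Fin.tail e, Fin.tail f)) ∧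
      B (e 0) (f 0) = 1 := by
  obtain ⟨he, hf, hef⟩ := h
  have hrefl := hB.isRefl
  refine ⟨(mem_perp_hspan _ _).mpr ⟨fun a => he _ _, fun a => ?_⟩,
    (mem_perp_hspan _ _).mpr ⟨fun a => ?_, fun a => hf _ _⟩, ?_⟩
  · apply hrefl
    show B (e 0) (f a.succ) = 0
    rw [hef, if_neg (Fin.succ_ne_zero a).symm]
  · show B (e a.succ) (f 0) = 0
    rw [hef, if_neg (Fin.succ_ne_zero a)]
  · rw [hef, if_pos rfl]

/-- the recursion for hyperbolic frames. -/
def hfrEquiv (B : LinearMap.BilinForm F V) (hB : B.IsAlt) (U : Submodule F V) (k : ℕ) :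
    HFr B U (k + 1) ≃ Σ s : HFr B U k, HPair B (B.orthogonal (hspan F s.1) ⊓ U) where
  toFun s := ⟨⟨(Fin.tail s.1.1, Fin.tail s.1.2), isSympFam_tail s.2.1, fun a => s.2.2.1 a.succ,
      fun a => s.2.2.2 a.succ⟩,
    ⟨(s.1.1 0, s.1.2 0), ⟨(hfr_head_props hB s.2.1).1, s.2.2.1 0⟩, ⟨(hfr_head_props hB s.2.1).2.1, s.2.2.2 0⟩,
      (hfr_head_props hB s.2.1).2.2⟩⟩
  invFun t := ⟨(Fin.cons t.2.1.1 t.1.1.1, Fin.cons t.2.1.2 t.1.1.2),
    isSympFam_cons hB t.1.2.1 ((mem_perp_hspan _ _).mp t.2.2.1.1).1 ((mem_perp_hspan _ _).mp t.2.2.1.1).2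
      ((mem_perp_hspan _ _).mp t.2.2.2.1.1).1 ((mem_perp_hspan _ _).mp t.2.2.2.1.1).2 t.2.2.2.2,
    fun a => by
      refine Fin.cases ?_ (fun a' => ?_) a
      · simp only [Fin.cons_zero]; exact t.2.2.1.2
      · simp only [Fin.cons_succ]; exact t.1.2.2.1 a',
    fun a => by
      refine Fin.cases ?_ (fun a' => ?_) a
      · simp only [Fin.cons_zero]; exact t.2.2.2.1.2
      · simp only [Fin.cons_succ]; exact t.1.2.2.2 a'⟩
  left_inv s := by
    apply Subtype.ext
    apply Prod.ext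
    · simp only [Fin.cons_self_tail]
    · simp only [Fin.cons_self_tail]
  right_inv := fun ⟨⟨s, hs⟩, ⟨v, hv⟩⟩ => rfl

/-- the number of solutions of `B e f = 1` in a nondegenerate subspace. -/
theorem card_fibre_one [Fintype F] [Finite V] {B : LinearMap.BilinForm F V} {P : Submodule F V} (hP : ND B P)
    {e : V} (he : e ∈ P) (he0 : e ≠ 0) :
    Nat.card {f : V // f ∈ P ∧ B e f = 1} = Fintype.card F ^ (finrank F ↥P - 1) := by
  have hfd : FiniteDimensional F V := Module.Finite.of_finite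
  obtain ⟨v, hv, hev⟩ := hP e he he0
  obtain ⟨f₀, hf₀⟩ : ∃ f₀ : V, f₀ = (B e v)⁻¹ • v := ⟨_, rfl⟩
  have hf₀P : f₀ ∈ P := by rw [hf₀]; exact P.smul_mem _ hv
  have hf₀1 : B e f₀ = 1 := by rw [hf₀, map_smul, smul_eq_mul, inv_mul_cancel₀ hev]
  obtain ⟨φ, hφ⟩ : ∃ φ : ↥P →ₗ[F] F, φ = (B e).domRestrict P := ⟨_, rfl⟩
  have hφa : ∀ g : ↥P, φ g = B e (g : V) := by
    intro g
    rw [hφ]
    rfl
  have e1 : {f : V // f ∈ P ∧ B e f = 1} ≃ ↥(LinearMap.ker φ) :=
    { toFun := fun f => ⟨⟨f.1 - f₀, P.sub_mem f.2.1 hf₀P⟩, by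
        rw [LinearMap.mem_ker, hφa]
        show B e (f.1 - f₀) = 0
        rw [map_sub, f.2.2, hf₀1, sub_self]⟩
      invFun := fun g => ⟨(g.1 : V) + f₀, P.add_mem g.1.2 hf₀P, by
        have := LinearMap.mem_ker.mp g.2
        rw [hφa] at this
        rw [map_add, this, hf₀1, zero_add]⟩
      left_inv := fun f => by
        apply Subtype.ext
        show f.1 - f₀ + f₀ = f.1
        rw [sub_add_cancel]
      right_inv := fun g => by
        apply Subtype.ext
        apply Subtype.ext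
        show (g.1 : V) + f₀ - f₀ = (g.1 : V)
        rw [add_sub_cancel_right] }
  rw [Nat.card_congr e1, Module.natCard_eq_pow_finrank (K := F), Nat.card_eq_fintype_card]
  congr 1
  have h1 := LinearMap.finrank_range_add_finrank_ker φ
  have h2 : LinearMap.range φ = ⊤ := by
    rw [LinearMap.range_eq_top]
    intro c
    refine ⟨c • ⟨f₀, hf₀P⟩, ?_⟩
    rw [map_smul, hφa]
    show c • B e f₀ = c
    rw [hf₀1, smul_eq_mul, mul_one]
  rw [h2, finrank_top, Module.finrank_self] at h1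
  omega

/-- **the number of hyperbolic pairs of a nondegenerate subspace.** -/
theorem card_hpair [Fintype F] [Finite V] {B : LinearMap.BilinForm F V} {P : Submodule F V} (hP : ND B P) :
    Nat.card (HPair B P) =
      (Fintype.card F ^ finrank F ↥P - 1) * Fintype.card F ^ (finrank F ↥P - 1) := by
  classical
  have hfd : FiniteDimensional F V := Module.Finite.of_finite
  have e1 : HPair B P ≃ Σ e : ↥((P : Set V) \ {0}), {f : V // f ∈ P ∧ B e.1 f = 1} :=
    { toFun := fun ef => ⟨⟨ef.1.1, ef.2.1, fun h => by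
          have h1 := ef.2.2.2
          rw [Set.mem_singleton_iff.mp h, map_zero, LinearMap.zero_apply] at h1
          exact zero_ne_one h1⟩, ⟨ef.1.2, ef.2.2.1, ef.2.2.2⟩⟩
      invFun := fun t => ⟨(t.1.1, t.2.1), t.1.2.1, t.2.2.1, t.2.2.2⟩
      left_inv := fun ef => rfl
      right_inv := fun t => rfl }
  haveI : Fintype ↥((P : Set V) \ {0}) := Fintype.ofFinite _
  rw [Nat.card_congr e1, Nat.card_sigma]
  have hfib : ∀ e : ↥((P : Set V) \ {0}), Nat.card {f : V // f ∈ P ∧ B e.1 f = 1} =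
      Fintype.card F ^ (finrank F ↥P - 1) := fun e =>
    card_fibre_one hP e.2.1 (fun h => e.2.2 (Set.mem_singleton_iff.mpr h))
  rw [Finset.sum_congr rfl (fun e _ => hfib e), Finset.sum_const, Finset.card_univ, smul_eq_mul,
    ← Nat.card_eq_fintype_card, Nat.card_coe_set_eq,
    Set.ncard_sdiff_singleton_of_mem (show (0 : V) ∈ (P : Set V) from P.zero_mem),
    ← Nat.card_coe_set_eq]
  congr 2
  show Nat.card ↥P = _
  rw [Module.natCard_eq_pow_finrank (K := F), Nat.card_eq_fintype_card]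

theorem hfr_span_props [FiniteDimensional F V] {B : LinearMap.BilinForm F V} (hB : B.IsAlt) {U : Submodule F V}
    (hU : ND B U) {k : ℕ} (s : HFr B U k) :
    hspan F s.1 ≤ U ∧ ND B (hspan F s.1) ∧ finrank F ↥(hspan F s.1) = 2 * k ∧
      ND B (B.orthogonal (hspan F s.1) ⊓ U) ∧
      finrank F ↥(B.orthogonal (hspan F s.1) ⊓ U) = finrank F ↥U - 2 * k := by
  have hle : hspan F s.1 ≤ U := hspan_le s.2.2.1 s.2.2.2
  have hnd : ND B (hspan F s.1) := nd_span_family B hB _ _ s.2.1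
  have hd : finrank F ↥(hspan F s.1) = 2 * k := finrank_span_family B hB _ _ s.2.1
  refine ⟨hle, hnd, hd, nd_perp_inf hB.isRefl hnd hU hle, ?_⟩
  have := finrank_perp_inf hB.isRefl hnd hle
  omega

/-- **the number of hyperbolic frames.** -/
theorem card_hfr [Fintype F] [Finite V] {B : LinearMap.BilinForm F V} (hB : B.IsAlt) {U : Submodule F V}
    (hU : ND B U) (k : ℕ) :
    Nat.card (HFr B U k) = ∏ j : Fin k, ((Fintype.card F ^ (finrank F ↥U - 2 * (j : ℕ)) - 1) *
      Fintype.card F ^ (finrank F ↥U - 2 * (j : ℕ) - 1)) := by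
  classical
  have hfd : FiniteDimensional F V := Module.Finite.of_finite
  induction k with
  | zero =>
    rw [Finset.univ_eq_empty, Finset.prod_empty]
    haveI : Unique (HFr B U 0) :=
      { default := ⟨(Fin.elim0, Fin.elim0), ⟨fun a => a.elim0, fun a => a.elim0, fun a => a.elim0⟩,
          fun a => a.elim0, fun a => a.elim0⟩
        uniq := fun s => Subtype.ext (Prod.ext (funext fun a => a.elim0) (funext fun a => a.elim0)) }
    exact Nat.card_unique
  | succ k ih =>
    haveI : Fintype (HFr B U k) := Fintype.ofFinite _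
    rw [Nat.card_congr (hfrEquiv B hB U k), Nat.card_sigma, Fin.prod_univ_castSucc]
    have hfib : ∀ s : HFr B U k, Nat.card (HPair B (B.orthogonal (hspan F s.1) ⊓ U)) =
        (Fintype.card F ^ (finrank F ↥U - 2 * k) - 1) * Fintype.card F ^ (finrank F ↥U - 2 * k - 1) := by
      intro s
      obtain ⟨-, -, -, h4, h5⟩ := hfr_span_props hB hU s
      rw [card_hpair h4, h5]
    rw [Finset.sum_congr rfl (fun s _ => hfib s), Finset.sum_const, Finset.card_univ, smul_eq_mul,
      ← Nat.card_eq_fintype_card, ih]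
    simp only [Fin.val_castSucc, Fin.val_last]

/-- the span of a frame, as a nondegenerate subspace. -/
noncomputable def hspanOf [FiniteDimensional F V] (B : LinearMap.BilinForm F V) (hB : B.IsAlt) (h : ℕ)
    (s : HFr B ⊤ h) : NdSub B (2 * h) :=
  ⟨hspan F s.1, finrank_span_family B hB _ _ s.2.1, nd_span_family B hB _ _ s.2.1⟩

/-- the fibre of the span map over `W` is the set of frames of `W`. -/
noncomputable def hfrFibreEquiv [FiniteDimensional F V] (B : LinearMap.BilinForm F V) (hB : B.IsAlt) (h : ℕ)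
    (W : NdSub B (2 * h)) : {s : HFr B ⊤ h // hspanOf B hB h s = W} ≃ HFr B W.1 h where
  toFun s := ⟨s.1.1, s.1.2.1, fun a => by
      have h1 : (hspanOf B hB h s.1).1 = W.1 := by rw [s.2]
      rw [← h1]
      exact Submodule.subset_span ⟨Sum.inl a, rfl⟩, fun a => by
      have h1 : (hspanOf B hB h s.1).1 = W.1 := by rw [s.2]
      rw [← h1]
      exact Submodule.subset_span ⟨Sum.inr a, rfl⟩⟩
  invFun t := ⟨⟨t.1, t.2.1, fun _ => Submodule.mem_top, fun _ => Submodule.mem_top⟩, by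
    apply Subtype.ext
    apply Submodule.eq_of_le_of_finrank_eq (hspan_le t.2.2.1 t.2.2.2)
    rw [W.2.1]
    exact finrank_span_family B hB _ _ t.2.1⟩
  left_inv s := by
    apply Subtype.ext
    apply Subtype.ext
    rfl
  right_inv t := by
    apply Subtype.ext
    rfl

/-- **the number of nondegenerate `2h`-spaces**, in product form. -/
theorem card_ndSub_mul [Fintype F] [Finite V] {B : LinearMap.BilinForm F V} (hB : B.IsAlt) (hV : ND B ⊤)
    (h : ℕ) :
    Nat.card (NdSub B (2 * h)) * ∏ j : Fin h, ((Fintype.card F ^ (2 * h - 2 * (j : ℕ)) - 1) *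
        Fintype.card F ^ (2 * h - 2 * (j : ℕ) - 1)) =
      ∏ j : Fin h, ((Fintype.card F ^ (finrank F V - 2 * (j : ℕ)) - 1) *
        Fintype.card F ^ (finrank F V - 2 * (j : ℕ) - 1)) := by
  classical
  have hfd : FiniteDimensional F V := Module.Finite.of_finite
  letI : Fintype (NdSub B (2 * h)) := Fintype.ofFinite _
  have h0 := card_hfr hB hV h
  rw [finrank_top, Nat.card_congr (Equiv.sigmaFiberEquiv (hspanOf B hB h)).symm, Nat.card_sigma] at h0
  have hf : ∀ W : NdSub B (2 * h), Nat.card {s : HFr B ⊤ h // hspanOf B hB h s = W} =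
      ∏ j : Fin h, ((Fintype.card F ^ (2 * h - 2 * (j : ℕ)) - 1) *
        Fintype.card F ^ (2 * h - 2 * (j : ℕ) - 1)) := by
    intro W
    rw [Nat.card_congr (hfrFibreEquiv B hB h W), card_hfr hB W.2.2 h, W.2.1]
  rw [Finset.sum_congr rfl (fun P _ => hf P), Finset.sum_const, Finset.card_univ, smul_eq_mul,
    ← Nat.card_eq_fintype_card] at h0
  exact h0

/-- a prime other than the characteristic dividing the number of nondegenerate `2h`-spaces divides some
`q^(n - 2j) - 1`, `j < h`. -/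
theorem exists_dvd_of_dvd_card_ndSub [Fintype F] [Finite V] {p : ℕ} [Fact p.Prime] [CharP F p]
    {B : LinearMap.BilinForm F V} (hB : B.IsAlt) (hV : ND B ⊤) (h : ℕ) {r : ℕ} (hr : r.Prime) (hrp : r ≠ p)
    (hdvd : r ∣ Nat.card (NdSub B (2 * h))) :
    ∃ j < h, r ∣ Fintype.card F ^ (finrank F V - 2 * j) - 1 := by
  have hp : p.Prime := Fact.out
  have h1 : r ∣ ∏ j : Fin h, ((Fintype.card F ^ (finrank F V - 2 * (j : ℕ)) - 1) *
      Fintype.card F ^ (finrank F V - 2 * (j : ℕ) - 1)) := by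
    rw [← card_ndSub_mul hB hV h]
    exact Dvd.dvd.mul_right hdvd _
  rw [hr.prime.dvd_finsetProd_iff] at h1
  obtain ⟨j, -, hj⟩ := h1
  rcases (Nat.Prime.dvd_mul hr).mp hj with h2 | h2
  · exact ⟨j, j.2, h2⟩
  · exfalso
    have h3 : r ∣ Fintype.card F := hr.dvd_of_dvd_pow h2
    obtain ⟨n, -, hn⟩ := FiniteField.card F p
    rw [hn] at h3
    exact hrp ((Nat.prime_dvd_prime_iff_eq hr hp).mp (hr.dvd_of_dvd_pow h3))

end Cfsg.Agent.Helper7.SpUn
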