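import Mathlib
import Cfsg.Agent.Helper7.QTyD
import Cfsg.Agent.Helper7.SpUnH

set_option autoImplicit false
set_option linter.unusedSectionVars false
set_option linter.unusedVariables false

/-!
# Hyperbolic frames of a quadratic space and their number
-/

namespace Cfsg.Agent.Helper7.QTy

open Module Cfsg.Agent.Helper7.POrd Cfsg.Agent.Helper7.SpOrd Cfsg.Agent.Helper7.SpTI
  Cfsg.Agent.Helper7.OrTS Cfsg.Agent.Helper8.QuadForm Cfsg.Agent.Helper8.OrthOrder Cfsg.Agent.Helper7.SpUn

universe u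

variable {F : Type*} [Field F] {V : Type u} [AddCommGroup V] [Module F V]

/-- hyperbolic frames inside `U`. -/
abbrev QFr (Q : QuadraticForm F V) (U : Submodule F V) (k : ℕ) : Type _ :=
  {s : (Fin k → V) × (Fin k → V) // IsHyp Q s.1 s.2 ∧ (∀ a, s.1 a ∈ U) ∧ (∀ a, s.2 a ∈ U)}

/-- hyperbolic pairs inside `P`. -/
abbrev QPair (Q : QuadraticForm F V) (P : Submodule F V) : Type _ :=
  {ef : V × V // ef.1 ∈ P ∧ ef.2 ∈ P ∧ Q ef.1 = 0 ∧ Q ef.2 = 0 ∧ QuadraticMap.polar Q ef.1 ef.2 = 1}

theorem isHyp_tail {Q : QuadraticForm F V} {k : ℕ} {e f : Fin (k + 1) → V} (h : IsHyp Q e f) :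
    IsHyp Q (Fin.tail e) (Fin.tail f) := by
  obtain ⟨h1, h2, h3⟩ := h
  refine ⟨fun a => h1 _, fun a b => ?_, fun a b => h3 _ _⟩
  unfold Fin.tail
  rw [h2]
  simp only [Fin.succ_inj]

theorem qfr_head_props {Q : QuadraticForm F V} {k : ℕ} {e f : Fin (k + 1) → V} (h : IsHyp Q e f) :
    e 0 ∈ LinearMap.BilinForm.orthogonal (QuadraticMap.polarBilin Q) (hspan F (Fin.tail e, Fin.tail f)) ∧
      f 0 ∈ LinearMap.BilinForm.orthogonal (QuadraticMap.polarBilin Q) (hspan F (Fin.tail e, Fin.tail f)) ∧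
      Q (e 0) = 0 ∧ Q (f 0) = 0 ∧ QuadraticMap.polar Q (e 0) (f 0) = 1 := by
  obtain ⟨h1, h2, h3⟩ := h
  refine ⟨(mem_perp_hspan _ _).mpr ⟨fun a => (h3 _ _).1, fun a => ?_⟩,
    (mem_perp_hspan _ _).mpr ⟨fun a => ?_, fun a => (h3 _ _).2⟩, (h1 0).1, (h1 0).2, ?_⟩
  · show QuadraticMap.polar Q (f a.succ) (e 0) = 0
    rw [QuadraticMap.polar_comm, h2, if_neg (Fin.succ_ne_zero a).symm]
  · show QuadraticMap.polar Q (e a.succ) (f 0) = 0
    rw [h2, if_neg (Fin.succ_ne_zero a)]
  · rw [h2, if_pos rfl]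

theorem isHyp_cons' {Q : QuadraticForm F V} {k : ℕ} {e f : Fin k → V} (h : IsHyp Q e f) {e0 f0 : V}
    (he0 : e0 ∈ LinearMap.BilinForm.orthogonal (QuadraticMap.polarBilin Q) (hspan F (e, f)))
    (hf0 : f0 ∈ LinearMap.BilinForm.orthogonal (QuadraticMap.polarBilin Q) (hspan F (e, f)))
    (hQe : Q e0 = 0) (hQf : Q f0 = 0) (hef : QuadraticMap.polar Q e0 f0 = 1) :
    IsHyp Q (Fin.cons e0 e : Fin (k + 1) → V) (Fin.cons f0 f : Fin (k + 1) → V) := by
  have h1 := (mem_perp_hspan _ _).mp he0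
  have h2 := (mem_perp_hspan _ _).mp hf0
  refine IsHyp.cons Q h hQe hQf hef (fun i => ?_)
  rw [mem_perpPair, mem_perpPair]
  refine ⟨⟨?_, ?_⟩, ?_, ?_⟩
  · rw [QuadraticMap.polar_comm]; exact h1.1 i
  · rw [QuadraticMap.polar_comm]; exact h2.1 i
  · rw [QuadraticMap.polar_comm]; exact h1.2 i
  · rw [QuadraticMap.polar_comm]; exact h2.2 i

/-- the recursion for hyperbolic frames. -/
def qfrEquiv (Q : QuadraticForm F V) (U : Submodule F V) (k : ℕ) :
    QFr Q U (k + 1) ≃ Σ s : QFr Q U k,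
      QPair Q (LinearMap.BilinForm.orthogonal (QuadraticMap.polarBilin Q) (hspan F s.1) ⊓ U) where
  toFun s := ⟨⟨(Fin.tail s.1.1, Fin.tail s.1.2), isHyp_tail s.2.1, fun a => s.2.2.1 a.succ,
      fun a => s.2.2.2 a.succ⟩,
    ⟨(s.1.1 0, s.1.2 0), ⟨(qfr_head_props s.2.1).1, s.2.2.1 0⟩, ⟨(qfr_head_props s.2.1).2.1, s.2.2.2 0⟩,
      (qfr_head_props s.2.1).2.2⟩⟩
  invFun t := ⟨(Fin.cons t.2.1.1 t.1.1.1, Fin.cons t.2.1.2 t.1.1.2),
    isHyp_cons' t.1.2.1 t.2.2.1.1 t.2.2.2.1.1 t.2.2.2.2.1 t.2.2.2.2.2.1 t.2.2.2.2.2.2,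
    fun a => by
      refine Fin.cases ?_ (fun a' => ?_) a
      · simp only [Fin.cons_zero]; exact t.2.2.1.2
      · simp only [Fin.cons_succ]; exact t.1.2.2.1 a',
    fun a => by
      refine Fin.cases ?_ (fun a' => ?_) a
      · simp only [Fin.cons_zero]; exact t.2.2.2.1.2
      · simp only [Fin.cons_succ]; exact t.1.2.2.2 a'⟩
  left_inv s := by
    apply Subtype.ext
    apply Prod.ext
    · simp only [Fin.cons_self_tail]
    · simp only [Fin.cons_self_tail]
  right_inv := fun ⟨⟨s, hs⟩, ⟨v, hv⟩⟩ => rfl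

/-- the span of a frame is nondegenerate of dimension `2k` and of plus type. -/
theorem fspan_props [FiniteDimensional F V] {Q : QuadraticForm F V} {k : ℕ} {e f : Fin k → V}
    (h : IsHyp Q e f) :
    ND (QuadraticMap.polarBilin Q) (hspan F (e, f)) ∧ finrank F ↥(hspan F (e, f)) = 2 * k ∧
      Hyp Q (hspan F (e, f)) := by
  classical
  have hdual := h.dual Q
  have hli : LinearIndependent F (Sum.elim e f) :=
    linearIndependent_of_dual Q _ (Sum.elim f e) (fun _ => 1) (fun _ => one_ne_zero) hdual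
  have hd : finrank F ↥(hspan F (e, f)) = 2 * k := by
    unfold hspan
    rw [finrank_span_eq_card hli, Fintype.card_sum, Fintype.card_fin]
    ring
  refine ⟨?_, hd, ?_⟩
  · intro w hw hw0
    unfold hspan at hw
    obtain ⟨c, rfl⟩ := (Submodule.mem_span_range_iff_exists_fun F).mp hw
    have hc : ∃ y, c y ≠ 0 := by
      by_contra hcon
      push Not at hcon
      apply hw0
      apply Finset.sum_eq_zero
      intro x _
      rw [hcon x, zero_smul]
    obtain ⟨y, hy⟩ := hc
    refine ⟨Sum.elim f e y, ?_, ?_⟩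
    · unfold hspan
      rcases y with a | a
      · exact Submodule.subset_span ⟨Sum.inr a, rfl⟩
      · exact Submodule.subset_span ⟨Sum.inl a, rfl⟩
    · rw [map_sum, LinearMap.sum_apply]
      have : ∀ x ∈ Finset.univ, QuadraticMap.polarBilin Q (c x • Sum.elim e f x) (Sum.elim f e y) =
          if x = y then c x else 0 := by
        intro x _
        rw [map_smul, LinearMap.smul_apply, pB_apply, hdual]
        split_ifs <;> simp
      rw [Finset.sum_congr rfl this, Finset.sum_ite_eq' Finset.univ y, if_pos (Finset.mem_univ y)]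
      exact hy
  · -- the span of the `e`'s
    obtain ⟨h1, h2, h3⟩ := h
    have hlie : LinearIndependent F e := by
      have := hli.comp Sum.inl Sum.inl_injective
      exact this
    refine ⟨Submodule.span F (Set.range e), ?_, ?_, ?_⟩
    · unfold hspan
      apply Submodule.span_mono
      rintro _ ⟨a, rfl⟩
      exact ⟨Sum.inl a, rfl⟩
    · intro w hw
      obtain ⟨c, rfl⟩ := (Submodule.mem_span_range_iff_exists_fun F).mp hw
      -- `Q` vanishes on the span of pairwise orthogonal singular vectors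
      have hgen : ∀ (S : Finset (Fin k)), Q (∑ a ∈ S, c a • e a) = 0 := by
        intro S
        induction S using Finset.induction_on with
        | empty => simp
        | insert a S ha ih =>
          rw [Finset.sum_insert ha, QuadraticMap.map_add Q, ih, QuadraticMap.map_smul, (h1 a).1,
            QuadraticMap.polar_smul_left]
          have : QuadraticMap.polar Q (e a) (∑ b ∈ S, c b • e b) = 0 := by
            have := map_sum (QuadraticMap.polarBilin Q (e a)) (fun b => c b • e b) S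
            rw [pB_apply] at this
            rw [this]
            apply Finset.sum_eq_zero
            intro b _
            rw [map_smul, pB_apply, (h3 a b).1, smul_zero]
          rw [this]
          simp
      exact hgen Finset.univ
    · rw [finrank_span_eq_card hlie, Fintype.card_fin, hd]

theorem qfr_span_props [FiniteDimensional F V] {Q : QuadraticForm F V} {U : Submodule F V}
    (hU : ND (QuadraticMap.polarBilin Q) U) {k : ℕ} (s : QFr Q U k) :
    hspan F s.1 ≤ U ∧ ND (QuadraticMap.polarBilin Q) (hspan F s.1) ∧ finrank F ↥(hspan F s.1) = 2 * k ∧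
      Hyp Q (hspan F s.1) ∧
      ND (QuadraticMap.polarBilin Q) (LinearMap.BilinForm.orthogonal (QuadraticMap.polarBilin Q) (hspan F s.1) ⊓ U) ∧
      finrank F ↥(LinearMap.BilinForm.orthogonal (QuadraticMap.polarBilin Q) (hspan F s.1) ⊓ U) =
        finrank F ↥U - 2 * k := by
  have hle : hspan F s.1 ≤ U := hspan_le s.2.2.1 s.2.2.2
  obtain ⟨hnd, hd, hy⟩ : ND (QuadraticMap.polarBilin Q) (hspan F s.1) ∧ finrank F ↥(hspan F s.1) = 2 * k ∧
      Hyp Q (hspan F s.1) := fspan_props s.2.1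
  refine ⟨hle, hnd, hd, hy, nd_perp_inf (pB_refl Q) hnd hU hle, ?_⟩
  have := finrank_perp_inf (pB_refl Q) hnd hle
  omega

/-- **the number of hyperbolic pairs of a nondegenerate subspace.** -/
theorem card_qpair [Fintype F] [FiniteDimensional F V] {Q : QuadraticForm F V} {P : Submodule F V}
    (hP : ND (QuadraticMap.polarBilin Q) P) :
    Nat.card (QPair Q P) * Fintype.card F =
      (Nat.card {w : ↥P // Q (w : V) = 0} - 1) * Fintype.card F ^ (finrank F ↥P - 1) := by
  have h1 := card_pairs (Q.comp P.subtype) (nondeg_comp_of_nd hP)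
  have e1 : QPair Q P ≃ {p : ↥P × ↥P // (Q.comp P.subtype) p.1 = 0 ∧ (Q.comp P.subtype) p.2 = 0 ∧
      QuadraticMap.polar (Q.comp P.subtype) p.1 p.2 = 1} :=
    { toFun := fun ef => ⟨(⟨ef.1.1, ef.2.1⟩, ⟨ef.1.2, ef.2.2.1⟩), ef.2.2.2.1, ef.2.2.2.2.1, ef.2.2.2.2.2⟩
      invFun := fun p => ⟨((p.1.1 : V), (p.1.2 : V)), p.1.1.2, p.1.2.2, p.2.1, p.2.2.1, p.2.2.2⟩
      left_inv := fun ef => rfl
      right_inv := fun p => rfl }
  rw [Nat.card_congr e1]
  exact h1

/-- **the number of hyperbolic frames**, when the numbers of singular vectors of the complements are known. -/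
theorem card_qfr [Fintype F] [Finite V] {Q : QuadraticForm F V} {U : Submodule F V}
    (hU : ND (QuadraticMap.polarBilin Q) U) (ν : ℕ → ℕ) (k : ℕ)
    (hν : ∀ j < k, ∀ s : QFr Q U j, Nat.card {w : ↥(LinearMap.BilinForm.orthogonal (QuadraticMap.polarBilin Q)
      (hspan F s.1) ⊓ U) // Q (w : V) = 0} = ν j) :
    Nat.card (QFr Q U k) * Fintype.card F ^ k =
      ∏ j : Fin k, ((ν (j : ℕ) - 1) * Fintype.card F ^ (finrank F ↥U - 2 * (j : ℕ) - 1)) := by
  classical
  have hfd : FiniteDimensional F V := Module.Finite.of_finite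
  induction k with
  | zero =>
    rw [Finset.univ_eq_empty, Finset.prod_empty, pow_zero, mul_one]
    haveI : Unique (QFr Q U 0) :=
      { default := ⟨(Fin.elim0, Fin.elim0), ⟨fun a => a.elim0, fun a => a.elim0, fun a => a.elim0⟩,
          fun a => a.elim0, fun a => a.elim0⟩
        uniq := fun s => Subtype.ext (Prod.ext (funext fun a => a.elim0) (funext fun a => a.elim0)) }
    exact Nat.card_unique
  | succ k ih =>
    haveI : Fintype (QFr Q U k) := Fintype.ofFinite _
    rw [Nat.card_congr (qfrEquiv Q U k), Nat.card_sigma, Fin.prod_univ_castSucc]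
    have hfib : ∀ s : QFr Q U k,
        Nat.card (QPair Q (LinearMap.BilinForm.orthogonal (QuadraticMap.polarBilin Q) (hspan F s.1) ⊓ U)) *
          Fintype.card F = (ν k - 1) * Fintype.card F ^ (finrank F ↥U - 2 * k - 1) := by
      intro s
      obtain ⟨-, -, -, -, h4, h5⟩ := qfr_span_props hU s
      rw [card_qpair h4, h5, hν k (Nat.lt_succ_self k) s]
    rw [pow_succ, ← mul_assoc, mul_right_comm, Finset.sum_mul,
      Finset.sum_congr rfl (fun s _ => hfib s), Finset.sum_const, Finset.card_univ, smul_eq_mul,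
      ← Nat.card_eq_fintype_card, mul_right_comm, ih (fun j hj => hν j (Nat.lt_succ_of_lt hj))]
    simp only [Fin.val_castSucc, Fin.val_last]

end Cfsg.Agent.Helper7.QTy
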