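import Mathlib
import Cfsg.Agent.Helper7.OrthMaxC
import Cfsg.Agent.Helper8.MaxSingular

set_option autoImplicit false
set_option linter.unusedSectionVars false

/-! The two families of maximal totally singular subspaces, as a character of the isometry group;
the stabiliser of a totally singular subspace of dimension `m - 1` in a hyperbolic quadric is not
maximal (helper7). -/

namespace Cfsg.Agent.Helper7.OrthMax

open Module Cfsg.Agent.Helper8.QuadForm Cfsg.Agent.Helper8.WittQuad Cfsg.Agent.Helper8.OrthOrder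
  Cfsg.Agent.Helper8.Siegel Cfsg.Agent.Helper8.SiegelGroup Cfsg.Agent.Helper8.MaxSingular

variable {F : Type*} [Field F] {V : Type*} [AddCommGroup V] [Module F V]

/-- the codimension of `T ∩ gT` in `T`. -/
noncomputable def codimT (m : ℕ) (T : Submodule F V) (g : V ≃ₗ[F] V) : ℕ :=
  m - finrank F ↥(T ⊓ T.map (g : V →ₗ[F] V))

theorem isMTS_map (Q : QuadraticForm F V) {m : ℕ} {T : Submodule F V} (hT : IsMTS Q m T)
    {g : V ≃ₗ[F] V} (hg : g ∈ Isom Q) : IsMTS Q m (T.map (g : V →ₗ[F] V)) := by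
  refine ⟨by rw [LinearEquiv.finrank_map_eq g T]; exact hT.1, ?_⟩
  rintro _ ⟨x, hx, rfl⟩
  show Q (g x) = 0
  rw [hg x]
  exact hT.2 x hx

section

variable [FiniteDimensional F V] {m : ℕ} (Q : QuadraticForm F V)
  (hB : LinearMap.BilinForm.Nondegenerate (QuadraticMap.polarBilin Q))
  (hV : finrank F V = 2 * m) {T : Submodule F V} (hT : IsMTS Q m T)

include hB hV hT

theorem even_codimT_mul {g h : V ≃ₗ[F] V} (hg : g ∈ Isom Q) (hh : h ∈ Isom Q) :
    Even (codimT m T g + codimT m T h + codimT m T (g * h)) := by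
  have hgh : g * h ∈ Isom Q := (Isom Q).mul_mem hg hh
  have key := parity hB hV hT (isMTS_map Q hT hg) (isMTS_map Q hT hgh)
  have e1 : T.map ((g * h : V ≃ₗ[F] V) : V →ₗ[F] V)
      = (T.map (h : V →ₗ[F] V)).map (g : V →ₗ[F] V) := by
    rw [← Submodule.map_comp]
    rfl
  have e2 : T.map (g : V →ₗ[F] V) ⊓ T.map ((g * h : V ≃ₗ[F] V) : V →ₗ[F] V)
      = (T ⊓ T.map (h : V →ₗ[F] V)).map (g : V →ₗ[F] V) := by
    rw [e1, Submodule.map_inf _ g.injective]
  have e3 : finrank F ↥(T.map (g : V →ₗ[F] V) ⊓ T.map ((g * h : V ≃ₗ[F] V) : V →ₗ[F] V))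
      = finrank F ↥(T ⊓ T.map (h : V →ₗ[F] V)) := by
    rw [e2]
    exact LinearEquiv.finrank_map_eq g _
  rw [e3] at key
  exact key

/-- the character of the isometry group recording the family of `gT`. -/
noncomputable def famChar : ↥(Isom Q) →* ℤˣ where
  toFun g := (-1) ^ codimT m T (g : V ≃ₗ[F] V)
  map_one' := by
    show (-1 : ℤˣ) ^ codimT m T (1 : V ≃ₗ[F] V) = 1
    have : codimT m T (1 : V ≃ₗ[F] V) = 0 := by
      unfold codimT
      have : T.map ((1 : V ≃ₗ[F] V) : V →ₗ[F] V) = T := Submodule.map_id T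
      rw [this, inf_idem, hT.1, Nat.sub_self]
    rw [this, pow_zero]
  map_mul' g h := by
    show (-1 : ℤˣ) ^ codimT m T ((g : V ≃ₗ[F] V) * (h : V ≃ₗ[F] V))
      = (-1) ^ codimT m T (g : V ≃ₗ[F] V) * (-1) ^ codimT m T (h : V ≃ₗ[F] V)
    have key := even_codimT_mul Q hB hV hT g.2 h.2
    have h1 := key.neg_one_pow (α := ℤˣ)
    rw [pow_add, pow_add] at h1
    have h3 := eq_inv_of_mul_eq_one_left h1
    rw [Int.units_inv_eq_self] at h3
    rw [← h3]

theorem even_codimT_of_mem_commutator {g : ↥(Isom Q)} (hg : g ∈ commutator ↥(Isom Q)) :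
    Even (codimT m T (g : V ≃ₗ[F] V)) := by
  have h1 := Abelianization.commutator_subset_ker (famChar Q hB hV hT) hg
  rw [MonoidHom.mem_ker] at h1
  have h2 : (-1 : ℤˣ) ^ codimT m T (g : V ≃ₗ[F] V) = 1 := h1
  by_contra hodd
  rw [Nat.not_even_iff_odd] at hodd
  rw [hodd.neg_one_pow] at h2
  exact absurd h2 (by decide)

/-- an element of the commutator subgroup stabilising a hyperplane of a maximal totally singular
subspace stabilises that subspace. -/
theorem stab_of_stab_hyperplane {g : ↥(Isom Q)} (hg : g ∈ commutator ↥(Isom Q))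
    {W : Submodule F V} (hWT : W ≤ T) (hWd : finrank F W + 1 = m)
    (hgW : ∀ x ∈ W, (g : V ≃ₗ[F] V) x ∈ W) : ∀ x ∈ T, (g : V ≃ₗ[F] V) x ∈ T := by
  have hev := even_codimT_of_mem_commutator Q hB hV hT hg
  have hle : W ≤ T ⊓ T.map ((g : V ≃ₗ[F] V) : V →ₗ[F] V) := by
    intro x hx
    refine ⟨hWT hx, ?_⟩
    have := (mapsTo_iff (g : V ≃ₗ[F] V)⁻¹ W (by
      intro y hy
      have h1 := (mapsTo_iff (g : V ≃ₗ[F] V) W hgW ((g : V ≃ₗ[F] V)⁻¹ y)).mpr (by
        have : (g : V ≃ₗ[F] V) ((g : V ≃ₗ[F] V)⁻¹ y) = y := (g : V ≃ₗ[F] V).apply_symm_apply y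
        rw [this]
        exact hy)
      exact h1) x).mp hx
    refine ⟨(g : V ≃ₗ[F] V)⁻¹ x, hWT this, ?_⟩
    exact (g : V ≃ₗ[F] V).apply_symm_apply x
  have h1 := Submodule.finrank_mono hle
  have h2 : finrank F ↥(T ⊓ T.map ((g : V ≃ₗ[F] V) : V →ₗ[F] V)) ≤ m := by
    have := Submodule.finrank_mono (inf_le_left : T ⊓ T.map ((g : V ≃ₗ[F] V) : V →ₗ[F] V) ≤ T)
    rw [hT.1] at this
    exact this
  unfold codimT at hev
  have h3 : finrank F ↥(T ⊓ T.map ((g : V ≃ₗ[F] V) : V →ₗ[F] V)) = m := by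
    rcases hev with ⟨r, hr⟩
    omega
  have h4 : T ⊓ T.map ((g : V ≃ₗ[F] V) : V →ₗ[F] V) = T :=
    Submodule.eq_of_le_of_finrank_eq inf_le_left (by rw [h3, hT.1])
  have h5 : T ≤ T.map ((g : V ≃ₗ[F] V) : V →ₗ[F] V) := by
    intro x hx
    rw [← h4] at hx
    exact hx.2
  have h6 : T.map ((g : V ≃ₗ[F] V) : V →ₗ[F] V) = T :=
    (Submodule.eq_of_le_of_finrank_eq h5 (by
      rw [LinearEquiv.finrank_map_eq (g : V ≃ₗ[F] V) T])).symm
  intro x hx
  rw [← h6]
  exact ⟨x, hx, rfl⟩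

end

end Cfsg.Agent.Helper7.OrthMax
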