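import Mathlib
import Cfsg.Agent.Helper7.OrthMaxD

set_option autoImplicit false
set_option linter.unusedSectionVars false

/-! In a hyperbolic quadric of dimension `2m` the stabiliser of a totally singular subspace of
dimension `m - 1` is not maximal in `Ω` (helper7). -/

namespace Cfsg.Agent.Helper7.OrthMax

open Module Cfsg.Agent.Helper8.QuadForm Cfsg.Agent.Helper8.WittQuad Cfsg.Agent.Helper8.OrthOrder
  Cfsg.Agent.Helper8.Siegel Cfsg.Agent.Helper8.SiegelGroup Cfsg.Agent.Helper8.MaxSingular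
  Cfsg.Agent.Helper8.ReflMatrix Cfsg.Agent.Helper8.OmegaSimple

section

variable {F : Type*} [Field F] {V : Type*} [AddCommGroup V] [Module F V]

theorem exists_perp_not_perp [FiniteDimensional F V] (Q : QuadraticForm F V) (hQ : Nondeg Q)
    {t x : V} (h : x ∉ Submodule.span F {t}) :
    ∃ z, QuadraticMap.polar Q t z = 0 ∧ QuadraticMap.polar Q x z ≠ 0 := by
  have hB : (QuadraticMap.polarBilin Q).Nondegenerate := (nondeg_iff Q).mpr hQ
  by_contra hcon
  push Not at hcon
  apply h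
  rw [← LinearMap.BilinForm.orthogonal_orthogonal hB (polarBilin_isRefl Q) (Submodule.span F {t}),
    mem_orth_iff]
  intro n hn
  rw [mem_orth_iff] at hn
  apply hcon
  rw [QuadraticMap.polar_comm]
  exact hn t (Submodule.mem_span_singleton_self t)

end

variable {F : Type*} [Field F] [Fintype F] {ι : Type} [Fintype ι] [DecidableEq ι]
  (Q : QuadraticForm F (ι → F))

theorem submax_not_maximal (hQ : (QuadraticMap.polarBilin Q).Nondegenerate)
    (h5 : 5 ≤ Fintype.card ι) {m : ℕ} (hm : Fintype.card ι = 2 * m)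
    (hplus : ∃ U : Submodule F (ι → F), IsMTS Q m U) (W : Submodule F (ι → F))
    (hW : ∀ w ∈ W, Q w = 0) (hWd : finrank F W + 1 = m) (hW0 : W ≠ ⊥) :
    ∃ K : Subgroup (GL ι F), Cfsg.Geo.subspaceStabilizer W ⊓ Cfsg.Geo.omegaGL ⇑Q < K ∧
      K < Cfsg.Geo.omegaGL ⇑Q := by
  have hQ' : Nondeg Q := (nondeg_iff Q).mp hQ
  have hV : finrank F (ι → F) = 2 * m := by
    rw [Module.finrank_fintype_fun_eq_card F, hm]
  obtain ⟨U, hU⟩ := hplus
  -- a singular vector orthogonal to `W` outside `W`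
  obtain ⟨t, htU, htW, htn⟩ : ∃ t ∈ U, (∀ w ∈ W, QuadraticMap.polar Q t w = 0) ∧ t ∉ W := by
    have h1 := finrank_inf_orth hQ hV hU W
    obtain ⟨t, ht, htn⟩ := exists_mem_not_mem (A := U ⊓ W) (C := U ⊓ orth Q W) (by omega)
    refine ⟨t, ht.1, ?_, fun h => htn ⟨ht.1, h⟩⟩
    intro w hw
    rw [QuadraticMap.polar_comm]
    exact ht.2 w hw
  have ht : Q t = 0 := hU.2 t htU
  obtain ⟨T, hTdef⟩ : ∃ T : Submodule F (ι → F), T = W ⊔ Submodule.span F {t} := ⟨_, rfl⟩
  have hWT : W ≤ T := by rw [hTdef]; exact le_sup_left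
  have htT : t ∈ T := by
    rw [hTdef]
    exact Submodule.mem_sup_right (Submodule.mem_span_singleton_self t)
  have hT : IsMTS Q m T := by
    refine ⟨by rw [hTdef, finrank_sup_span_singleton W htn, hWd], ?_⟩
    intro x hx
    rw [hTdef] at hx
    obtain ⟨w, hw, y, hy, rfl⟩ := Submodule.mem_sup.mp hx
    obtain ⟨c, rfl⟩ := Submodule.mem_span_singleton.mp hy
    rw [QuadraticMap.map_add Q, QuadraticMap.map_smul, ht, hW w hw, QuadraticMap.polar_smul_right,
      QuadraticMap.polar_comm, htW w hw]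
    simp
  have hT0 : T ≠ ⊥ := by
    intro h
    apply hW0
    rw [eq_bot_iff, ← h]
    exact hWT
  have hmax := ts_maximal Q hQ h5 T hT0 hT.2 (by
    intro h
    rw [hT.1] at h
    omega)
  refine ⟨Cfsg.Geo.subspaceStabilizer T ⊓ Cfsg.Geo.omegaGL ⇑Q, ?_, hmax.1⟩
  have hSGc : SG Q ≤ commutator ↥(Isom Q) := by
    refine le_trans (SG_le_commutator Q hQ' (by rw [hV]; omega)) ?_
    rw [commutator_def]
    exact Subgroup.commutator_mono le_top le_top
  refine lt_of_le_not_ge ?_ ?_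
  · rintro g ⟨hgW, hgΩ⟩
    refine ⟨?_, hgΩ⟩
    obtain ⟨k, hk, rfl⟩ := exists_toGL_eq Q hQ h5 hgΩ
    have hgW : toGL Q k ∈ Cfsg.Geo.subspaceStabilizer W := hgW
    show toGL Q k ∈ Cfsg.Geo.subspaceStabilizer T
    rw [toGL_mem_stab] at hgW ⊢
    have := stab_of_stab_hyperplane Q hQ hV hT (hSGc hk) hWT hWd (fun x hx => (hgW x).mp hx)
    exact mapsTo_iff _ T this
  · intro hle
    obtain ⟨x, hx, hx0⟩ := (Submodule.ne_bot_iff W).mp hW0
    have hxt : x ∉ Submodule.span F {t} := by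
      intro h
      obtain ⟨c, rfl⟩ := Submodule.mem_span_singleton.mp h
      have hc : c ≠ 0 := by
        rintro rfl
        exact hx0 (zero_smul _ _)
      apply htn
      have := W.smul_mem c⁻¹ hx
      rwa [smul_smul, inv_mul_cancel₀ hc, one_smul] at this
    obtain ⟨z, htz, hxz⟩ := exists_perp_not_perp Q hQ' hxt
    have hgSG : siegG Q t z ∈ SG Q := siegG_mem_SG Q ht htz
    have hgT : toGL Q (siegG Q t z) ∈ Cfsg.Geo.subspaceStabilizer T := by
      rw [toGL_mem_stab]
      apply mapsTo_iff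
      intro y hy
      rw [siegG_val, siegE_apply Q ht htz, sieg_apply, polar_of_ts Q T hT.2 hy htT, zero_smul,
        mul_zero, zero_smul, sub_zero, sub_zero]
      exact T.add_mem hy (T.smul_mem _ htT)
    have h1 : toGL Q (siegG Q t z) ∈ Cfsg.Geo.subspaceStabilizer W :=
      (hle ⟨hgT, toGL_mem_omegaGL Q hQ h5 hgSG⟩).1
    rw [toGL_mem_stab] at h1
    have h2 := (h1 x).mp hx
    rw [siegG_val, siegE_apply Q ht htz, sieg_apply, polar_of_ts Q T hT.2 (hWT hx) htT, zero_smul,
      mul_zero, zero_smul, sub_zero, sub_zero] at h2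
    have h3 : QuadraticMap.polar Q x z • t ∈ W := by
      have := W.sub_mem h2 hx
      rwa [add_sub_cancel_left] at this
    apply htn
    have := W.smul_mem (QuadraticMap.polar Q x z)⁻¹ h3
    rwa [smul_smul, inv_mul_cancel₀ hxz, one_smul] at this

end Cfsg.Agent.Helper7.OrthMax
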