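import Mathlib
import Cfsg.Agent.Helper7.OrthMaxE

set_option autoImplicit false
set_option linter.unusedSectionVars false

/-! In a hyperbolic quadric of dimension `2m`, `m` odd, the stabiliser of a pair of complementary
maximal totally singular subspaces is not maximal in `Ω` (helper7). -/

namespace Cfsg.Agent.Helper7.OrthMax

open Module Cfsg.Agent.Helper8.QuadForm Cfsg.Agent.Helper8.WittQuad Cfsg.Agent.Helper8.OrthOrder
  Cfsg.Agent.Helper8.Siegel Cfsg.Agent.Helper8.SiegelGroup Cfsg.Agent.Helper8.MaxSingular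
  Cfsg.Agent.Helper8.ReflMatrix Cfsg.Agent.Helper8.OmegaSimple

variable {F : Type*} [Field F] [Fintype F] {ι : Type} [Fintype ι] [DecidableEq ι]
  (Q : QuadraticForm F (ι → F))

omit [Fintype F] in
theorem toLin'_toGL (k : ↥(Isom Q)) :
    Matrix.toLin' ((toGL Q k : GL ι F) : Matrix ι ι F)
      = ((k : (ι → F) ≃ₗ[F] (ι → F)) : (ι → F) →ₗ[F] (ι → F)) := by
  apply LinearMap.ext
  intro v
  rw [Matrix.toLin'_apply]
  exact toGL_mulVec Q k v

theorem pair_not_maximal (hQ : (QuadraticMap.polarBilin Q).Nondegenerate)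
    (h5 : 5 ≤ Fintype.card ι) {m : ℕ} (hm : Fintype.card ι = 2 * m) (hodd : Odd m)
    (D : Fin 2 → Submodule F (ι → F)) (hD : Cfsg.Geo.IsMDecomposition m D)
    (hts : ∀ i, ∀ w ∈ D i, Q w = 0) :
    ∃ K : Subgroup (GL ι F), Cfsg.Geo.decompositionStabilizer D ⊓ Cfsg.Geo.omegaGL ⇑Q < K ∧
      K < Cfsg.Geo.omegaGL ⇑Q := by
  have hQ' : Nondeg Q := (nondeg_iff Q).mp hQ
  have hV : finrank F (ι → F) = 2 * m := by
    rw [Module.finrank_fintype_fun_eq_card F, hm]
  have hT : IsMTS Q m (D 0) := ⟨hD.finrank_eq 0, hts 0⟩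
  have hm3 : 3 ≤ m := by omega
  have hdisj : D 0 ⊓ D 1 = ⊥ := by
    have := hD.indep.pairwiseDisjoint (show (0 : Fin 2) ≠ 1 by decide)
    exact this.eq_bot
  have hD00 : D 0 ≠ ⊥ := by
    intro h
    have := hD.finrank_eq 0
    rw [h, finrank_bot] at this
    omega
  have hmax := ts_maximal Q hQ h5 (D 0) hD00 (hts 0) (by
    intro h
    rw [hD.finrank_eq 0] at h
    omega)
  refine ⟨Cfsg.Geo.subspaceStabilizer (D 0) ⊓ Cfsg.Geo.omegaGL ⇑Q, ?_, hmax.1⟩
  have hSGc : SG Q ≤ commutator ↥(Isom Q) := by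
    refine le_trans (SG_le_commutator Q hQ' (by rw [hV]; omega)) ?_
    rw [commutator_def]
    exact Subgroup.commutator_mono le_top le_top
  refine lt_of_le_not_ge ?_ ?_
  · rintro g ⟨⟨σ, hσ⟩, hgΩ⟩
    refine ⟨?_, hgΩ⟩
    obtain ⟨k, hk, rfl⟩ := exists_toGL_eq Q hQ h5 hgΩ
    show toGL Q k ∈ Cfsg.Geo.subspaceStabilizer (D 0)
    rw [toGL_mem_stab]
    have h0 := hσ 0
    rw [toLin'_toGL] at h0
    have hσ0 : σ 0 = 0 := by
      by_contra hne
      have h1 : σ 0 = 1 := by
        have : ∀ j : Fin 2, j ≠ 0 → j = 1 := by decide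
        exact this _ hne
      rw [h1] at h0
      have hev := even_codimT_of_mem_commutator Q hQ hV hT (hSGc hk)
      unfold codimT at hev
      rw [h0, hdisj, finrank_bot, Nat.sub_zero] at hev
      exact (Nat.not_even_iff_odd.mpr hodd) hev
    rw [hσ0] at h0
    apply mapsTo_iff
    intro x hx
    rw [← h0]
    exact ⟨x, hx, rfl⟩
  · intro hle
    -- a vector of `D 1` and a vector of `D 0` orthogonal to it
    obtain ⟨f, hf, hf0⟩ : ∃ f ∈ D 1, f ≠ 0 := by
      have : D 1 ≠ ⊥ := by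
        intro h
        have := hD.finrank_eq 1
        rw [h, finrank_bot] at this
        omega
      exact (Submodule.ne_bot_iff _).mp this
    obtain ⟨e, he, he0, hef⟩ : ∃ e ∈ D 0, e ≠ 0 ∧ QuadraticMap.polar Q e f = 0 := by
      obtain ⟨e₁, he₁, he₁0⟩ := (Submodule.ne_bot_iff _).mp hD00
      by_cases h1 : QuadraticMap.polar Q e₁ f = 0
      · exact ⟨e₁, he₁, he₁0, h1⟩
      obtain ⟨e₂, he₂, he₂n⟩ := exists_mem_not_mem (A := Submodule.span F {e₁}) (C := D 0) (by
        rw [finrank_span_singleton he₁0, hD.finrank_eq 0]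
        omega)
      refine ⟨e₂ - (QuadraticMap.polar Q e₂ f / QuadraticMap.polar Q e₁ f) • e₁,
        (D 0).sub_mem he₂ ((D 0).smul_mem _ he₁), ?_, ?_⟩
      · intro h
        apply he₂n
        rw [sub_eq_zero.mp h]
        exact Submodule.smul_mem _ _ (Submodule.mem_span_singleton_self e₁)
      · rw [QuadraticMap.polar_sub_left, QuadraticMap.polar_smul_left, smul_eq_mul,
          div_mul_cancel₀ _ h1, sub_self]
    have hfe : f ∉ Submodule.span F {e} := by
      intro h
      obtain ⟨c, rfl⟩ := Submodule.mem_span_singleton.mp h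
      have : c • e ∈ D 0 ⊓ D 1 := ⟨(D 0).smul_mem c he, hf⟩
      rw [hdisj] at this
      exact hf0 ((Submodule.mem_bot F).mp this)
    obtain ⟨z, hez, hfz⟩ := exists_perp_not_perp Q hQ' hfe
    have hQe : Q e = 0 := hts 0 e he
    have hgSG : siegG Q e z ∈ SG Q := siegG_mem_SG Q hQe hez
    have hgT : toGL Q (siegG Q e z) ∈ Cfsg.Geo.subspaceStabilizer (D 0) := by
      rw [toGL_mem_stab]
      apply mapsTo_iff
      intro y hy
      rw [siegG_val, siegE_apply Q hQe hez, sieg_apply, polar_of_ts Q (D 0) (hts 0) hy he, zero_smul,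
        mul_zero, zero_smul, sub_zero, sub_zero]
      exact (D 0).add_mem hy ((D 0).smul_mem _ he)
    obtain ⟨σ, hσ⟩ : toGL Q (siegG Q e z) ∈ Cfsg.Geo.decompositionStabilizer D :=
      (hle ⟨hgT, toGL_mem_omegaGL Q hQ h5 hgSG⟩).1
    simp only [toLin'_toGL] at hσ
    have hmap0 : (D 0).map (((siegG Q e z : ↥(Isom Q)) : (ι → F) ≃ₗ[F] (ι → F)) :
        (ι → F) →ₗ[F] (ι → F)) = D 0 := by
      apply Submodule.eq_of_le_of_finrank_eq
      · rintro _ ⟨y, hy, rfl⟩
        rw [toGL_mem_stab] at hgT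
        exact (hgT y).mp hy
      · exact LinearEquiv.finrank_map_eq _ _
    have hne01 : D 0 ≠ D 1 := by
      intro h
      rw [← h, inf_idem] at hdisj
      exact hD00 hdisj
    have hσ0 : σ 0 = 0 := by
      by_contra hne
      have h1 : σ 0 = 1 := by
        have : ∀ j : Fin 2, j ≠ 0 → j = 1 := by decide
        exact this _ hne
      have := hσ 0
      rw [hmap0, h1] at this
      exact hne01 this
    have hσ1 : σ 1 = 1 := by
      by_contra hne
      have h1 : σ 1 = 0 := by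
        have : ∀ j : Fin 2, j ≠ 1 → j = 0 := by decide
        exact this _ hne
      have := σ.injective (h1.trans hσ0.symm)
      exact absurd this (by decide)
    have h1 := hσ 1
    rw [hσ1] at h1
    have h2 : ((siegG Q e z : ↥(Isom Q)) : (ι → F) ≃ₗ[F] (ι → F)) f ∈ D 1 := by
      rw [← h1]
      exact ⟨f, hf, rfl⟩
    rw [siegG_val, siegE_apply Q hQe hez, sieg_apply, QuadraticMap.polar_comm Q f e, hef, zero_smul,
      mul_zero, zero_smul, sub_zero, sub_zero] at h2
    have h3 : QuadraticMap.polar Q f z • e ∈ D 1 := by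
      have := (D 1).sub_mem h2 hf
      rwa [add_sub_cancel_left] at this
    have h4 : e ∈ D 1 := by
      have := (D 1).smul_mem (QuadraticMap.polar Q f z)⁻¹ h3
      rwa [smul_smul, inv_mul_cancel₀ hfz, one_smul] at this
    have : e ∈ D 0 ⊓ D 1 := ⟨he, h4⟩
    rw [hdisj] at this
    exact he0 ((Submodule.mem_bot F).mp this)

end Cfsg.Agent.Helper7.OrthMax
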