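import Mathlib
import Cfsg.Agent.Helper7.OrthMaxE

set_option autoImplicit false
set_option linter.unusedSectionVars false

/-! Characteristic two: the stabiliser of a non-singular vector is maximal in the Siegel group
(helper7). -/

namespace Cfsg.Agent.Helper7.OrthMax

open Module Cfsg.Agent.Helper8.QuadForm Cfsg.Agent.Helper8.WittQuad Cfsg.Agent.Helper8.OrthOrder
  Cfsg.Agent.Helper8.Siegel Cfsg.Agent.Helper8.SiegelGroup

variable {F : Type*} [Field F] {V : Type*} [AddCommGroup V] [Module F V]

/-- a subspace of dimension at least three contains a non-zero singular vector. -/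
theorem exists_singular_in [Finite F] [FiniteDimensional F V] (Q : QuadraticForm F V)
    (A : Submodule F V) (h3 : 3 ≤ finrank F A) : ∃ u ∈ A, u ≠ 0 ∧ Q u = 0 := by
  obtain ⟨u, hu0, hu⟩ := exists_singular (Q.comp A.subtype) h3
  refine ⟨(u : V), u.2, fun h => hu0 (Subtype.ext h), hu⟩

/-- the orthogonal of three vectors has codimension at most three. -/
theorem finrank_orth_three [FiniteDimensional F V] (Q : QuadraticForm F V) (hQ : Nondeg Q)
    (a b c : V) :
    finrank F V ≤ finrank F ↥(LinearMap.BilinForm.orthogonal (QuadraticMap.polarBilin Q)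
      (Submodule.span F (Set.range ![a, b, c]))) + 3 := by
  have hB : (QuadraticMap.polarBilin Q).Nondegenerate := (nondeg_iff Q).mpr hQ
  rw [LinearMap.BilinForm.finrank_orthogonal hB]
  have : finrank F ↥(Submodule.span F (Set.range ![a, b, c])) ≤ 3 := by
    have := finrank_range_le_card (R := F) ![a, b, c]
    rw [Fintype.card_fin] at this
    exact this
  omega

theorem mem_orth_three (Q : QuadraticForm F V) (a b c x : V)
    (hx : x ∈ LinearMap.BilinForm.orthogonal (QuadraticMap.polarBilin Q)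
      (Submodule.span F (Set.range ![a, b, c]))) :
    QuadraticMap.polar Q x a = 0 ∧ QuadraticMap.polar Q x b = 0 ∧ QuadraticMap.polar Q x c = 0 := by
  rw [mem_orth_iff] at hx
  refine ⟨hx a (Submodule.subset_span ⟨0, rfl⟩), hx b (Submodule.subset_span ⟨1, rfl⟩),
    hx c (Submodule.subset_span ⟨2, rfl⟩)⟩

/-- completing a singular vector orthogonal to `v` to a hyperbolic pair orthogonal to `v`. -/
theorem exists_hyp_pair_perp [FiniteDimensional F V] (Q : QuadraticForm F V) (hQ : Nondeg Q)
    {v u : V} (hv : Q v ≠ 0) (hu0 : u ≠ 0) (hu : Q u = 0) (huv : QuadraticMap.polar Q u v = 0) :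
    ∃ f, Q f = 0 ∧ QuadraticMap.polar Q u f = 1 ∧ QuadraticMap.polar Q f v = 0 := by
  have hnot : u ∉ Submodule.span F {v} := by
    intro h
    obtain ⟨c, rfl⟩ := Submodule.mem_span_singleton.mp h
    rw [QuadraticMap.map_smul, smul_eq_mul] at hu
    rcases mul_eq_zero.mp hu with h | h
    · have : c = 0 := by
        rcases mul_eq_zero.mp h with h | h <;> exact h
      exact hu0 (by rw [this, zero_smul])
    · exact hv h
  obtain ⟨f₀, hvf₀, huf₀⟩ := exists_perp_not_perp Q hQ hnot
  obtain ⟨α, hα⟩ : ∃ α : F, α = QuadraticMap.polar Q u f₀ := ⟨_, rfl⟩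
  rw [← hα] at huf₀
  obtain ⟨f₁, hf₁⟩ : ∃ f₁ : V, f₁ = α⁻¹ • f₀ := ⟨_, rfl⟩
  have h1 : QuadraticMap.polar Q u f₁ = 1 := by
    rw [hf₁, QuadraticMap.polar_smul_right, ← hα, smul_eq_mul, inv_mul_cancel₀ huf₀]
  have h2 : QuadraticMap.polar Q f₁ v = 0 := by
    rw [hf₁, QuadraticMap.polar_smul_left, QuadraticMap.polar_comm, hvf₀, smul_zero]
  refine ⟨f₁ - Q f₁ • u, ?_, ?_, ?_⟩
  · rw [sub_eq_add_neg, ← neg_smul, QuadraticMap.map_add Q, QuadraticMap.map_smul, hu,
      QuadraticMap.polar_smul_right, QuadraticMap.polar_comm Q f₁ u, h1]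
    simp
  · rw [QuadraticMap.polar_sub_right, QuadraticMap.polar_smul_right, h1, polar_self', hu]
    simp
  · rw [QuadraticMap.polar_sub_left, QuadraticMap.polar_smul_left, h2, huv]
    simp

section

variable [Finite F] [FiniteDimensional F V] (Q : QuadraticForm F V) (h2 : (2 : F) = 0)
  (hsq : ∀ a : F, IsSquare a) (hQ : Nondeg Q) {v : V} (hv : Q v ≠ 0) (M : Subgroup ↥(Isom Q))
  (hPM : ∀ g ∈ SG Q, (g : V ≃ₗ[F] V) v = v → g ∈ M)

include hPM in
/-- Siegel transformations with both parameters orthogonal to `v` lie in `M`. -/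
theorem siegG_mem_of_perp {u z : V} (hu : Q u = 0) (huz : QuadraticMap.polar Q u z = 0)
    (huv : QuadraticMap.polar Q u v = 0) (hzv : QuadraticMap.polar Q z v = 0) :
    siegG Q u z ∈ M := by
  apply hPM _ (siegG_mem_SG Q hu huz)
  rw [siegG_val]
  exact siegE_fix Q (by rw [QuadraticMap.polar_comm]; exact huv)
    (by rw [QuadraticMap.polar_comm]; exact hzv)

include h2 hsq hQ hv hPM in
/-- from one hyperbolic pair orthogonal to `v` with the first vector in the set, everything. -/
theorem all_RS_of_one {u₀ : V} (hu₀0 : u₀ ≠ 0) (hRu₀ : RS Q M u₀)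
    (hu₀v : QuadraticMap.polar Q u₀ v = 0) : SG Q ≤ M := by
  have hu₀ := hRu₀.1
  obtain ⟨f, hf, hu₀f, hfv⟩ := exists_hyp_pair_perp Q hQ hv hu₀0 hu₀ hu₀v
  have hfu₀ : QuadraticMap.polar Q f u₀ = 1 := by rw [QuadraticMap.polar_comm]; exact hu₀f
  -- a vector of norm `-1` in the line of `v`
  obtain ⟨s, hs⟩ := hsq (-(Q v)⁻¹)
  obtain ⟨z, hzdef⟩ : ∃ z : V, z = s • v := ⟨_, rfl⟩
  have hQz : Q z = -1 := by
    rw [hzdef, QuadraticMap.map_smul, smul_eq_mul, ← hs, neg_mul, inv_mul_cancel₀ hv]
  have hvv : QuadraticMap.polar Q v v = 0 := by rw [polar_self', h2, zero_mul]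
  have hzv : QuadraticMap.polar Q z v = 0 := by
    rw [hzdef, QuadraticMap.polar_smul_left, hvv, smul_zero]
  have hu₀z : QuadraticMap.polar Q u₀ z = 0 := by
    rw [hzdef, QuadraticMap.polar_smul_right, hu₀v, smul_zero]
  have hfz : QuadraticMap.polar Q f z = 0 := by
    rw [hzdef, QuadraticMap.polar_smul_right, hfv, smul_zero]
  obtain ⟨a, hadef⟩ : ∃ a : V, a = u₀ + z + f := ⟨_, rfl⟩
  have hQa : Q a = 0 := by
    rw [hadef, QuadraticMap.map_add Q, QuadraticMap.map_add Q, hu₀, hQz, hf, hu₀z,
      QuadraticMap.polar_add_left, hu₀f, QuadraticMap.polar_comm Q z f, hfz]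
    ring
  have hfa : QuadraticMap.polar Q f a = 1 := by
    rw [hadef, QuadraticMap.polar_add_right, QuadraticMap.polar_add_right, hfu₀, hfz, polar_self',
      hf]
    ring
  have hu₀a : QuadraticMap.polar Q u₀ a = 1 := by
    rw [hadef, QuadraticMap.polar_add_right, QuadraticMap.polar_add_right, hu₀f, hu₀z, polar_self',
      hu₀]
    ring
  -- `a` lies in the set
  have hRa : RS Q M a := by
    obtain ⟨h3, h4⟩ := sieg_move Q hf (hu₀.trans hQa.symm) hfu₀ hfa
    have hmem : siegG Q f (u₀ - a) ∈ M := by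
      apply siegG_mem_of_perp Q M hPM hf h3 hfv
      rw [hadef, QuadraticMap.polar_sub_left, QuadraticMap.polar_add_left,
        QuadraticMap.polar_add_left, hu₀v, hzv, hfv]
      ring
    have := RS_map Q hmem hRu₀
    rw [siegG_val, h4] at this
    exact this
  -- `f` lies in the set
  have hRf : RS Q M f := by
    obtain ⟨h3, h4⟩ := sieg_move Q hu₀ (hQa.trans hf.symm) hu₀a hu₀f
    have hmem : siegG Q u₀ (a - f) ∈ M := by
      apply siegG_mem_of_perp Q M hPM hu₀ h3 hu₀v
      rw [hadef, QuadraticMap.polar_sub_left, QuadraticMap.polar_add_left,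
        QuadraticMap.polar_add_left, hu₀v, hzv, hfv]
      ring
    have := RS_map Q hmem hRa
    rw [siegG_val, h4] at this
    exact this
  -- singular vectors not orthogonal to `u₀` or `f`
  have hB1 : ∀ x, Q x = 0 → QuadraticMap.polar Q u₀ x ≠ 0 → RS Q M x := by
    intro x hx hux
    have h1 : RS Q M ((QuadraticMap.polar Q u₀ x) • f) := RS_smul Q hRf _
    apply RS_move Q hRu₀ h1 hx
    · rw [QuadraticMap.polar_smul_right, hu₀f, smul_eq_mul, mul_one]
      exact hux
    · rw [QuadraticMap.polar_smul_right, hu₀f, smul_eq_mul, mul_one]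
  have hB2 : ∀ x, Q x = 0 → QuadraticMap.polar Q f x ≠ 0 → RS Q M x := by
    intro x hx hfx
    have h1 : RS Q M ((QuadraticMap.polar Q f x) • u₀) := RS_smul Q hRu₀ _
    apply RS_move Q hRf h1 hx
    · rw [QuadraticMap.polar_smul_right, hfu₀, smul_eq_mul, mul_one]
      exact hfx
    · rw [QuadraticMap.polar_smul_right, hfu₀, smul_eq_mul, mul_one]
  have hall : ∀ x, Q x = 0 → RS Q M x := by
    intro x hx
    by_cases h1 : QuadraticMap.polar Q u₀ x = 0
    swap
    · exact hB1 x hx h1
    by_cases h3 : QuadraticMap.polar Q f x = 0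
    swap
    · exact hB2 x hx h3
    by_cases hx0 : x = 0
    · rw [hx0]
      have := RS_smul Q hRu₀ 0
      rwa [zero_smul] at this
    -- `x` is orthogonal to the hyperbolic pair
    obtain ⟨y, hy⟩ : ∃ y, QuadraticMap.polar Q x y ≠ 0 := by
      by_contra hcon
      push Not at hcon
      exact hx0 (hQ x hcon)
    -- make `y` orthogonal to the hyperbolic pair
    obtain ⟨y', hy'def⟩ : ∃ y' : V, y' = y - QuadraticMap.polar Q y f • u₀
        - QuadraticMap.polar Q y u₀ • f := ⟨_, rfl⟩
    have hxu₀ : QuadraticMap.polar Q x u₀ = 0 := by rw [QuadraticMap.polar_comm]; exact h1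
    have hxf : QuadraticMap.polar Q x f = 0 := by rw [QuadraticMap.polar_comm]; exact h3
    have hy'u₀ : QuadraticMap.polar Q y' u₀ = 0 := by
      rw [hy'def, QuadraticMap.polar_sub_left, QuadraticMap.polar_sub_left,
        QuadraticMap.polar_smul_left, QuadraticMap.polar_smul_left, hfu₀, polar_self', hu₀]
      simp
    have hy'f : QuadraticMap.polar Q y' f = 0 := by
      rw [hy'def, QuadraticMap.polar_sub_left, QuadraticMap.polar_sub_left,
        QuadraticMap.polar_smul_left, QuadraticMap.polar_smul_left, hu₀f, polar_self', hf]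
      simp
    have hxy' : QuadraticMap.polar Q x y' ≠ 0 := by
      rw [hy'def, QuadraticMap.polar_sub_right, QuadraticMap.polar_sub_right,
        QuadraticMap.polar_smul_right, QuadraticMap.polar_smul_right, hxu₀, hxf]
      simpa using hy
    -- a singular vector pairing with `f` and `x`
    obtain ⟨b, hbdef⟩ : ∃ b : V, b = u₀ + y' - Q y' • f := ⟨_, rfl⟩
    have hQb : Q b = 0 := by
      rw [hbdef, sub_eq_add_neg, ← neg_smul, QuadraticMap.map_add Q, QuadraticMap.map_add Q,
        QuadraticMap.map_smul, hu₀, hf, QuadraticMap.polar_comm Q u₀ y', hy'u₀,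
        QuadraticMap.polar_smul_right, QuadraticMap.polar_add_left, hu₀f, hy'f]
      simp
    have hfb : QuadraticMap.polar Q f b = 1 := by
      rw [hbdef, QuadraticMap.polar_sub_right, QuadraticMap.polar_add_right,
        QuadraticMap.polar_smul_right, hfu₀, QuadraticMap.polar_comm Q f y', hy'f, polar_self', hf]
      simp
    have hbf : QuadraticMap.polar Q b f = 1 := by rw [QuadraticMap.polar_comm]; exact hfb
    have hRb : RS Q M b := hB2 b hQb (by rw [hfb]; exact one_ne_zero)
    have hbx : QuadraticMap.polar Q b x ≠ 0 := by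
      rw [hbdef, QuadraticMap.polar_sub_left, QuadraticMap.polar_add_left,
        QuadraticMap.polar_smul_left, h1, h3, QuadraticMap.polar_comm Q y' x]
      simpa using hxy'
    have h4 : RS Q M ((QuadraticMap.polar Q b x) • f) := RS_smul Q hRf _
    apply RS_move Q hRb h4 hx
    · rw [QuadraticMap.polar_smul_right, hbf, smul_eq_mul, mul_one]
      exact hbx
    · rw [QuadraticMap.polar_smul_right, hbf, smul_eq_mul, mul_one]
  unfold SG SGW
  rw [Subgroup.closure_le]
  rintro g ⟨c, -, w, -, hc, hcw, rfl⟩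
  exact (hall c hc).2 w hcw

end

end Cfsg.Agent.Helper7.OrthMax
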