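import Mathlib
import Cfsg.Agent.Helper7.OrthMaxF

set_option autoImplicit false
set_option linter.unusedSectionVars false

/-! Characteristic two: the dichotomy for the stabiliser of a non-singular vector, and the transfer
to matrices (helper7). -/

namespace Cfsg.Agent.Helper7.OrthMax

open Module Cfsg.Agent.Helper8.QuadForm Cfsg.Agent.Helper8.WittQuad Cfsg.Agent.Helper8.OrthOrder
  Cfsg.Agent.Helper8.Siegel Cfsg.Agent.Helper8.SiegelGroup Cfsg.Agent.Helper8.ReflMatrix
  Cfsg.Agent.Helper8.OmegaSimple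

section

variable {F : Type*} [Field F] {V : Type*} [AddCommGroup V] [Module F V]
  [Finite F] [FiniteDimensional F V] (Q : QuadraticForm F V) (h2 : (2 : F) = 0)
  (hsq : ∀ a : F, IsSquare a) (hQ : Nondeg Q) {v : V} (hv : Q v ≠ 0) (M : Subgroup ↥(Isom Q))
  (hPM : ∀ g ∈ SG Q, (g : V ≃ₗ[F] V) v = v → g ∈ M)

omit [Finite F] [FiniteDimensional F V] in
theorem sq_eq_one_char_two (h2 : (2 : F) = 0) {c : F} (hc : c ^ 2 = 1) : c = 1 := by
  have : (c - 1) ^ 2 = 0 := by
    have : (c - 1) ^ 2 = c ^ 2 - 2 * c + 1 := by ring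
    rw [this, hc, h2]
    ring_nf
    linear_combination h2
  have := pow_eq_zero_iff (two_ne_zero) |>.mp this
  exact sub_eq_zero.mp this

include h2 hsq hQ hv hPM in
/-- **The dichotomy** for the stabiliser of a non-singular vector in characteristic two. -/
theorem nsv_stab_or_top (hdim : 6 ≤ finrank F V) :
    (∀ g ∈ M, (g : V ≃ₗ[F] V) v = v) ∨ SG Q ≤ M := by
  by_cases hall : ∀ g ∈ M, (g : V ≃ₗ[F] V) v = v
  · exact Or.inl hall
  right
  push Not at hall
  obtain ⟨g, hgM, hgv⟩ := hall
  have hB : (QuadraticMap.polarBilin Q).Nondegenerate := (nondeg_iff Q).mpr hQ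
  obtain ⟨v', hv'def⟩ : ∃ v' : V, v' = (g : V ≃ₗ[F] V) v := ⟨_, rfl⟩
  have hQv' : Q v' = Q v := by rw [hv'def]; exact g.2 v
  have hd0 : v - v' ≠ 0 := by
    intro h
    apply hgv
    rw [← hv'def]
    exact (sub_eq_zero.mp h).symm
  obtain ⟨y, hy⟩ : ∃ y, QuadraticMap.polar Q (v - v') y ≠ 0 := by
    by_contra hcon
    push Not at hcon
    exact hd0 (hQ _ hcon)
  -- a singular vector orthogonal to `v`, `v'`, `y`
  obtain ⟨u₀, hu₀A, hu₀0, hu₀⟩ := exists_singular_in Q
    (LinearMap.BilinForm.orthogonal (QuadraticMap.polarBilin Q)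
      (Submodule.span F (Set.range ![v, v', y]))) (by
      have := finrank_orth_three Q hQ v v' y
      omega)
  obtain ⟨hu₀v, hu₀v', hu₀y⟩ := mem_orth_three Q v v' y u₀ hu₀A
  -- a vector orthogonal to `u₀` and `v'` but not to `v`
  obtain ⟨z, hu₀z, hv'z, hvz⟩ : ∃ z, QuadraticMap.polar Q u₀ z = 0 ∧
      QuadraticMap.polar Q v' z = 0 ∧ QuadraticMap.polar Q v z ≠ 0 := by
    by_contra hcon
    push Not at hcon
    have hmem : v ∈ Submodule.span F {u₀, v'} := by
      rw [← LinearMap.BilinForm.orthogonal_orthogonal hB (polarBilin_isRefl Q)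
        (Submodule.span F {u₀, v'}), mem_orth_iff]
      intro n hn
      rw [mem_orth_iff] at hn
      apply hcon
      · rw [QuadraticMap.polar_comm]
        exact hn u₀ (Submodule.subset_span (by simp))
      · rw [QuadraticMap.polar_comm]
        exact hn v' (Submodule.subset_span (by simp))
    obtain ⟨α, β, hαβ⟩ := Submodule.mem_span_pair.mp hmem
    have h1 : Q v = β ^ 2 * Q v := by
      conv_lhs => rw [← hαβ]
      rw [QuadraticMap.map_add Q, QuadraticMap.map_smul, QuadraticMap.map_smul, hu₀, hQv',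
        QuadraticMap.polar_smul_left, QuadraticMap.polar_smul_right, hu₀v']
      simp only [smul_eq_mul]
      ring
    have hβ : β = 1 := by
      apply sq_eq_one_char_two h2
      have : (β ^ 2 - 1) * Q v = 0 := by linear_combination -h1
      rcases mul_eq_zero.mp this with h | h
      · exact sub_eq_zero.mp h
      · exact absurd h hv
    apply hy
    have : v - v' = α • u₀ := by
      rw [← hαβ, hβ, one_smul, add_sub_cancel_right]
    rw [this, QuadraticMap.polar_smul_left, hu₀y, smul_zero]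
  -- `u₀` lies in the set
  have hRu₀ : RS Q M u₀ := by
    refine ⟨hu₀, fun w hw => ?_⟩
    obtain ⟨c, hc⟩ : ∃ c : F, c = QuadraticMap.polar Q v w / QuadraticMap.polar Q v z := ⟨_, rfl⟩
    have hw1 : QuadraticMap.polar Q u₀ (w - c • z) = 0 := by
      rw [QuadraticMap.polar_sub_right, QuadraticMap.polar_smul_right, hw, hu₀z, smul_zero,
        sub_zero]
    have hw2 : QuadraticMap.polar Q u₀ (c • z) = 0 := by
      rw [QuadraticMap.polar_smul_right, hu₀z, smul_zero]
    have hsplit : siegG Q u₀ w = siegG Q u₀ (w - c • z) * siegG Q u₀ (c • z) := by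
      rw [siegG_mul Q hu₀ hw1 hw2, sub_add_cancel]
    rw [hsplit]
    apply M.mul_mem
    · apply siegG_mem_of_perp Q M hPM hu₀ hw1 hu₀v
      rw [QuadraticMap.polar_sub_left, QuadraticMap.polar_smul_left, QuadraticMap.polar_comm Q w v,
        QuadraticMap.polar_comm Q z v, hc, smul_eq_mul, div_mul_cancel₀ _ hvz, sub_self]
    · -- conjugate back by `g`
      have hginv : ∀ x, (g : V ≃ₗ[F] V) ((g : V ≃ₗ[F] V).symm x) = x :=
        (g : V ≃ₗ[F] V).apply_symm_apply
      have hpol : ∀ a b, QuadraticMap.polar Q ((g : V ≃ₗ[F] V).symm a) ((g : V ≃ₗ[F] V).symm b)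
          = QuadraticMap.polar Q a b := by
        intro a b
        rw [← polar_isometry Q g g.2, hginv, hginv]
      have hQs : Q ((g : V ≃ₗ[F] V).symm u₀) = 0 := by
        rw [← g.2, hginv]
        exact hu₀
      have hvs : (g : V ≃ₗ[F] V).symm v' = v := by
        rw [hv'def]
        exact (g : V ≃ₗ[F] V).symm_apply_apply v
      have h5 : siegG Q ((g : V ≃ₗ[F] V).symm u₀) ((g : V ≃ₗ[F] V).symm (c • z)) ∈ M := by
        apply siegG_mem_of_perp Q M hPM hQs
        · rw [hpol]
          exact hw2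
        · rw [← hvs, hpol]
          exact hu₀v'
        · rw [← hvs, hpol, QuadraticMap.polar_smul_left, QuadraticMap.polar_comm, hv'z, smul_zero]
      have h6 := siegG_conj Q g ((g : V ≃ₗ[F] V).symm u₀) ((g : V ≃ₗ[F] V).symm (c • z))
      rw [hginv, hginv] at h6
      rw [← h6]
      exact M.mul_mem (M.mul_mem hgM h5) (M.inv_mem hgM)
  exact all_RS_of_one Q h2 hsq hQ hv M hPM hu₀0 hRu₀ hu₀v

include hQ hv in
/-- the stabiliser of a non-singular vector is a proper subgroup. -/
theorem exists_not_fix (hdim : 5 ≤ finrank F V) :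
    ∃ g ∈ SG Q, (g : V ≃ₗ[F] V) v ∉ Submodule.span F {v} := by
  have hB : (QuadraticMap.polarBilin Q).Nondegenerate := (nondeg_iff Q).mpr hQ
  obtain ⟨u₀, hu₀A, hu₀0, hu₀⟩ := exists_singular_in Q
    (LinearMap.BilinForm.orthogonal (QuadraticMap.polarBilin Q) (Submodule.span F {v})) (by
      rw [LinearMap.BilinForm.finrank_orthogonal hB]
      have := finrank_span_le_card (R := F) ({v} : Set V)
      rw [Set.toFinset_singleton, Finset.card_singleton] at this
      omega)
  rw [mem_orth_iff] at hu₀A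
  have hu₀v : QuadraticMap.polar Q u₀ v = 0 := hu₀A v (Submodule.mem_span_singleton_self v)
  have hQ' : Q v = Q (v + u₀) := by
    rw [QuadraticMap.map_add Q, hu₀, QuadraticMap.polar_comm, hu₀v]
    ring
  have hd : v - (v + u₀) ≠ 0 := by
    rw [sub_add_cancel_left]
    exact neg_ne_zero.mpr hu₀0
  rcases exists_siegel_move Q hQ hdim hQ' hd with ⟨μ, hμ⟩ | ⟨g, hg, hgv⟩
  · exfalso
    rw [sub_add_cancel_left] at hμ
    apply hv
    rw [hμ, QuadraticMap.map_smul, QuadraticMap.map_neg, hu₀, smul_zero]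
  · refine ⟨g, hg, fun h => ?_⟩
    rw [hgv] at h
    obtain ⟨c, hc⟩ := Submodule.mem_span_singleton.mp h
    have h1 : u₀ = (c - 1) • v := by
      rw [sub_smul, one_smul, hc]
      abel
    have h3 : Q u₀ = (c - 1) * (c - 1) * Q v := by
      rw [h1, QuadraticMap.map_smul, smul_eq_mul]
    rw [hu₀] at h3
    have h4 : c - 1 = 0 := by
      rcases mul_eq_zero.mp h3.symm with h | h
      · rcases mul_eq_zero.mp h with h | h <;> exact h
      · exact absurd h hv
    apply hu₀0
    rw [h1, h4, zero_smul]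

end

end Cfsg.Agent.Helper7.OrthMax
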