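import Mathlib
import Cfsg.Agent.Helper7.OrthMaxG

set_option autoImplicit false
set_option linter.unusedSectionVars false

/-! Characteristic two: the stabiliser of a non-singular point is maximal in `Ω(Q)` (helper7). -/

namespace Cfsg.Agent.Helper7.OrthMax

open Module Cfsg.Agent.Helper8.QuadForm Cfsg.Agent.Helper8.WittQuad Cfsg.Agent.Helper8.OrthOrder
  Cfsg.Agent.Helper8.Siegel Cfsg.Agent.Helper8.SiegelGroup Cfsg.Agent.Helper8.ReflMatrix
  Cfsg.Agent.Helper8.OmegaSimple

variable {F : Type*} [Field F] [Fintype F] {ι : Type} [Fintype ι] [DecidableEq ι]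
  (Q : QuadraticForm F (ι → F))

theorem toGL_mem_stab_span (h2 : (2 : F) = 0) {v : ι → F} (hv : Q v ≠ 0) (k : ↥(Isom Q)) :
    toGL Q k ∈ Cfsg.Geo.subspaceStabilizer (Submodule.span F {v}) ↔
      (k : (ι → F) ≃ₗ[F] (ι → F)) v = v := by
  rw [toGL_mem_stab]
  constructor
  · intro h
    have h1 := (h v).mp (Submodule.mem_span_singleton_self v)
    obtain ⟨c, hc⟩ := Submodule.mem_span_singleton.mp h1
    have h3 : Q v = c ^ 2 * Q v := by
      conv_lhs => rw [← k.2 v, ← hc, QuadraticMap.map_smul, smul_eq_mul]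
      ring
    have hc1 : c = 1 := by
      apply sq_eq_one_char_two h2
      have : (c ^ 2 - 1) * Q v = 0 := by linear_combination -h3
      rcases mul_eq_zero.mp this with h | h
      · exact sub_eq_zero.mp h
      · exact absurd h hv
    rw [← hc, hc1, one_smul]
  · intro h
    apply mapsTo_iff
    intro x hx
    obtain ⟨c, rfl⟩ := Submodule.mem_span_singleton.mp hx
    rw [map_smul, h]
    exact Submodule.smul_mem _ c (Submodule.mem_span_singleton_self v)

/-- **Maximality** of the stabiliser of a non-singular point in `Ω(Q)`, characteristic two. -/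
theorem nsv_maximal (hQ : (QuadraticMap.polarBilin Q).Nondegenerate)
    (h6 : 6 ≤ Fintype.card ι) (h2 : (2 : F) = 0) {v : ι → F} (hv : Q v ≠ 0) :
    Cfsg.Geo.IsMaximalIn (Cfsg.Geo.omegaGL ⇑Q)
      (Cfsg.Geo.subspaceStabilizer (Submodule.span F {v}) ⊓ Cfsg.Geo.omegaGL ⇑Q) := by
  have hQ' : Nondeg Q := (nondeg_iff Q).mp hQ
  have hfr : finrank F (ι → F) = Fintype.card ι := Module.finrank_fintype_fun_eq_card F
  have h5 : 5 ≤ Fintype.card ι := by omega
  have hsq : ∀ a : F, IsSquare a := by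
    haveI : CharP F 2 := CharTwo.of_one_ne_zero_of_two_eq_zero one_ne_zero h2
    exact FiniteField.isSquare_of_char_two (ringChar.eq F 2)
  refine ⟨lt_of_le_not_ge inf_le_right ?_, ?_⟩
  · intro hle
    obtain ⟨g, hg, hgv⟩ := exists_not_fix Q hQ' hv (by rw [hfr]; exact h5)
    have h1 : toGL Q g ∈ Cfsg.Geo.subspaceStabilizer (Submodule.span F {v}) :=
      (hle (toGL_mem_omegaGL Q hQ h5 hg)).1
    rw [toGL_mem_stab_span Q h2 hv] at h1
    apply hgv
    rw [h1]
    exact Submodule.mem_span_singleton_self v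
  · intro M hPM hMG
    have key := nsv_stab_or_top Q h2 hsq hQ' hv (M.comap (toGL Q)) (by
      intro g hg hgv
      rw [Subgroup.mem_comap]
      exact hPM ⟨(toGL_mem_stab_span Q h2 hv g).mpr hgv, toGL_mem_omegaGL Q hQ h5 hg⟩)
      (by rw [hfr]; exact h6)
    rcases key with h | h
    · left
      apply le_antisymm _ hPM
      intro g hg
      obtain ⟨k, hk, rfl⟩ := exists_toGL_eq Q hQ h5 (hMG hg)
      exact ⟨(toGL_mem_stab_span Q h2 hv k).mpr (h k (Subgroup.mem_comap.mpr hg)), hMG hg⟩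
    · right
      apply le_antisymm hMG
      intro g hg
      obtain ⟨k, hk, rfl⟩ := exists_toGL_eq Q hQ h5 hg
      exact Subgroup.mem_comap.mp (h hk)

end Cfsg.Agent.Helper7.OrthMax
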