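import Mathlib
import Cfsg.Agent.Helper7.OrthMaxH

set_option autoImplicit false
set_option linter.unusedSectionVars false

/-! Orthogonal decompositions `V = W ⟂ U` of a quadratic space into non-degenerate subspaces:
basic geometry, and the irreducibility of the Siegel group of a summand (helper7). -/

namespace Cfsg.Agent.Helper7.OrthNd

open Module Cfsg.Agent.Helper8.QuadForm Cfsg.Agent.Helper8.WittQuad Cfsg.Agent.Helper8.OrthOrder
  Cfsg.Agent.Helper8.Siegel Cfsg.Agent.Helper8.SiegelGroup Cfsg.Agent.Helper8.SiegelGeom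
  Cfsg.Agent.Helper7.OrthMax

variable {F : Type*} [Field F] {V : Type*} [AddCommGroup V] [Module F V]

/-- an orthogonal decomposition into two non-degenerate subspaces. -/
structure OrthDec (Q : QuadraticForm F V) (W U : Submodule F V) : Prop where
  perp : ∀ w ∈ W, ∀ u ∈ U, QuadraticMap.polar Q w u = 0
  sup : W ⊔ U = ⊤
  ndW : NondegOn Q W
  ndU : NondegOn Q U

namespace OrthDec

variable {Q : QuadraticForm F V} {W U : Submodule F V} (hd : OrthDec Q W U)

include hd

theorem symm : OrthDec Q U W :=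
  ⟨fun u hu w hw => by rw [QuadraticMap.polar_comm]; exact hd.perp w hw u hu,
    by rw [sup_comm]; exact hd.sup, hd.ndU, hd.ndW⟩

theorem exists_dec (x : V) : ∃ w ∈ W, ∃ u ∈ U, x = w + u := by
  have : x ∈ W ⊔ U := by rw [hd.sup]; trivial
  obtain ⟨w, hw, u, hu, h⟩ := Submodule.mem_sup.mp this
  exact ⟨w, hw, u, hu, h.symm⟩

theorem mem_right_of_perp {x : V} (h : ∀ w ∈ W, QuadraticMap.polar Q x w = 0) : x ∈ U := by
  obtain ⟨w, hw, u, hu, rfl⟩ := hd.exists_dec x
  have hw0 : w = 0 := by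
    apply hd.ndW w hw
    intro w' hw'
    have := h w' hw'
    rw [QuadraticMap.polar_add_left, QuadraticMap.polar_comm Q u w', hd.perp w' hw' u hu,
      add_zero] at this
    exact this
  rw [hw0, zero_add]
  exact hu

theorem mem_left_of_perp {x : V} (h : ∀ u ∈ U, QuadraticMap.polar Q x u = 0) : x ∈ W :=
  hd.symm.mem_right_of_perp h

theorem inf_eq_bot : W ⊓ U = ⊥ := by
  rw [eq_bot_iff]
  rintro x ⟨hxW, hxU⟩
  rw [Submodule.mem_bot]
  apply hd.ndW x hxW
  intro w' hw'
  rw [QuadraticMap.polar_comm]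
  exact hd.perp w' hw' x hxU

theorem nondeg : Nondeg Q := by
  intro v hv
  have h1 : v ∈ U := hd.mem_right_of_perp (fun w _ => hv w)
  have h2 : v ∈ W := hd.mem_left_of_perp (fun u _ => hv u)
  have : v ∈ W ⊓ U := ⟨h2, h1⟩
  rw [hd.inf_eq_bot] at this
  exact (Submodule.mem_bot F).mp this

/-- an isometry mapping `W` into itself maps `U` into itself. -/
theorem map_right_of_map_left [FiniteDimensional F V] {g : V ≃ₗ[F] V} (hg : g ∈ Isom Q)
    (hgW : ∀ x ∈ W, g x ∈ W) : ∀ x ∈ U, g x ∈ U := by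
  intro x hx
  apply hd.mem_right_of_perp
  intro w hw
  have h1 : g (g.symm w) = w := g.apply_symm_apply w
  have h2 : g.symm w ∈ W := by
    rw [mapsTo_iff g W hgW, h1]
    exact hw
  rw [← h1, polar_isometry Q g hg, QuadraticMap.polar_comm]
  exact hd.perp _ h2 x hx

/-- hyperbolic partner inside a summand. -/
theorem exists_hyp_in {a : V} (ha : a ∈ W) (ha0 : a ≠ 0) (hQa : Q a = 0) :
    ∃ f ∈ W, Q f = 0 ∧ QuadraticMap.polar Q a f = 1 := by
  have hnd : Nondeg (Q.comp W.subtype) := (nondeg_comp_subtype_iff Q W).mpr hd.ndW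
  obtain ⟨f, hf, haf⟩ := exists_hyperbolic_pair (Q.comp W.subtype) hnd (e := ⟨a, ha⟩)
    (fun h => ha0 (congrArg Subtype.val h)) hQa
  exact ⟨f.1, f.2, hf, haf⟩

/-- a vector of the summand orthogonal to `a` but not to `x`. -/
theorem exists_perp_not_perp_in [FiniteDimensional F V] {a x : V} (ha : a ∈ W) (hx : x ∈ W)
    (h : x ∉ Submodule.span F {a}) :
    ∃ b ∈ W, QuadraticMap.polar Q a b = 0 ∧ QuadraticMap.polar Q x b ≠ 0 := by
  obtain ⟨z, haz, hxz⟩ := exists_perp_not_perp Q hd.nondeg h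
  obtain ⟨w, hw, u, hu, rfl⟩ := hd.exists_dec z
  refine ⟨w, hw, ?_, ?_⟩
  · rw [QuadraticMap.polar_add_right, hd.perp a ha u hu, add_zero] at haz
    exact haz
  · rw [QuadraticMap.polar_add_right, hd.perp x hx u hu, add_zero] at hxz
    exact hxz

end OrthDec

/-- dimension of an intersection with the orthogonal of one vector. -/
theorem finrank_inf_orth_singleton [FiniteDimensional F V] (Q : QuadraticForm F V) (hQ : Nondeg Q)
    (A : Submodule F V) (y : V) :
    finrank F A ≤ finrank F ↥(A ⊓ LinearMap.BilinForm.orthogonal (QuadraticMap.polarBilin Q)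
      (Submodule.span F {y})) + 1 := by
  have hB : (QuadraticMap.polarBilin Q).Nondegenerate := (nondeg_iff Q).mpr hQ
  have h1 := Submodule.finrank_sup_add_finrank_inf_eq A
    (LinearMap.BilinForm.orthogonal (QuadraticMap.polarBilin Q) (Submodule.span F {y}))
  have h2 := LinearMap.BilinForm.finrank_orthogonal hB (Submodule.span F {y})
  have h3 : finrank F ↥(Submodule.span F {y}) ≤ 1 := by
    have := finrank_span_le_card (R := F) ({y} : Set V)
    rw [Set.toFinset_singleton, Finset.card_singleton] at this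
    exact this
  have h4 := Submodule.finrank_le (A ⊔ LinearMap.BilinForm.orthogonal (QuadraticMap.polarBilin Q)
    (Submodule.span F {y}))
  omega

/-- a singular vector of `A` orthogonal to `y`. -/
theorem exists_singular_perp [Finite F] [FiniteDimensional F V] (Q : QuadraticForm F V)
    (hQ : Nondeg Q) (A : Submodule F V) (h4 : 4 ≤ finrank F A) (y : V) :
    ∃ a ∈ A, a ≠ 0 ∧ Q a = 0 ∧ QuadraticMap.polar Q a y = 0 := by
  obtain ⟨a, ha, ha0, hQa⟩ := exists_singular_in Q
    (A ⊓ LinearMap.BilinForm.orthogonal (QuadraticMap.polarBilin Q) (Submodule.span F {y})) (by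
      have := finrank_inf_orth_singleton Q hQ A y
      omega)
  refine ⟨a, ha.1, ha0, hQa, ?_⟩
  have := (mem_orth_iff Q _ a).mp ha.2
  exact this y (Submodule.mem_span_singleton_self y)

section irr

variable [Finite F] [FiniteDimensional F V] {Q : QuadraticForm F V} {W U : Submodule F V}
  (hd : OrthDec Q W U)

include hd

/-- the singular vectors of a summand of dimension at least three span it. -/
theorem le_of_singular_le (h3 : 3 ≤ finrank F W) (W₀ : Submodule F V)
    (h : ∀ c ∈ W, Q c = 0 → c ∈ W₀) : W ≤ W₀ := by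
  obtain ⟨a, ha, ha0, hQa⟩ := exists_singular_in Q W h3
  obtain ⟨f, hf, hQf, haf⟩ := hd.exists_hyp_in ha ha0 hQa
  intro x hx
  have := mem_span_singular Q W ha hf hQa hQf haf hx
  refine (Submodule.span_le.mpr ?_) this
  rintro c ⟨hcW, hc⟩
  exact h c hcW hc

/-- **irreducibility**: a non-zero subspace of the summand `W` invariant under the Siegel
transformations of `W` is all of `W`. -/
theorem irr (h4 : 4 ≤ finrank F W) (W₀ : Submodule F V) (hW₀ : W₀ ≤ W) (hne : W₀ ≠ ⊥)
    (hinv : ∀ a ∈ W, ∀ b ∈ W, Q a = 0 → QuadraticMap.polar Q a b = 0 →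
      ∀ x ∈ W₀, siegE Q a b x ∈ W₀) : W₀ = W := by
  apply le_antisymm hW₀
  obtain ⟨w₀, hw₀, hw₀0⟩ := (Submodule.ne_bot_iff W₀).mp hne
  -- a non-zero singular vector in `W₀`
  obtain ⟨a, haW₀, ha0, hQa⟩ : ∃ a ∈ W₀, a ≠ 0 ∧ Q a = 0 := by
    by_cases hQw : Q w₀ = 0
    · exact ⟨w₀, hw₀, hw₀0, hQw⟩
    obtain ⟨a, haW, ha0, hQa, haw⟩ := exists_singular_perp Q hd.nondeg W h4 w₀
    have hnot : w₀ ∉ Submodule.span F {a} := by
      intro h
      obtain ⟨c, rfl⟩ := Submodule.mem_span_singleton.mp h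
      apply hQw
      rw [QuadraticMap.map_smul, hQa, smul_zero]
    obtain ⟨b, hbW, hab, hwb⟩ := hd.exists_perp_not_perp_in haW (hW₀ hw₀) hnot
    have h1 := hinv a haW b hbW hQa hab w₀ hw₀
    rw [siegE_apply Q hQa hab, sieg_apply, QuadraticMap.polar_comm Q w₀ a, haw, zero_smul,
      mul_zero, zero_smul, sub_zero, sub_zero] at h1
    have h2 : QuadraticMap.polar Q w₀ b • a ∈ W₀ := by
      have := W₀.sub_mem h1 hw₀
      rwa [add_sub_cancel_left] at this
    refine ⟨a, ?_, ha0, hQa⟩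
    have := W₀.smul_mem (QuadraticMap.polar Q w₀ b)⁻¹ h2
    rwa [smul_smul, inv_mul_cancel₀ hwb, one_smul] at this
  -- all singular vectors of `W` lie in `W₀`
  apply le_of_singular_le hd (by omega)
  intro c hcW hc
  by_cases hc0 : c = 0
  · rw [hc0]
    exact W₀.zero_mem
  obtain ⟨g, hg, t, ht0, hgt⟩ := exists_SGW_smul Q W hd.ndW (by omega) (hW₀ haW₀) hcW hQa hc ha0 hc0
  have hmem : ∀ g ∈ SGW Q W, ∀ x ∈ W₀, (g : V ≃ₗ[F] V) x ∈ W₀ := by
    intro g hg
    unfold SGW at hg
    induction hg using Subgroup.closure_induction with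
    | mem g hg =>
      obtain ⟨a, ha, b, hb, hQa, hab, rfl⟩ := hg
      intro x hx
      exact hinv a ha b hb hQa hab x hx
    | one => intro x hx; exact hx
    | mul p q _ _ ihp ihq =>
      intro x hx
      exact ihp _ (ihq x hx)
    | inv p _ ihp =>
      intro x hx
      have hmap : W₀.map ((p : V ≃ₗ[F] V) : V →ₗ[F] V) = W₀ := by
        apply Submodule.eq_of_le_of_finrank_eq
        · rintro _ ⟨y, hy, rfl⟩
          exact ihp y hy
        · exact LinearEquiv.finrank_map_eq _ _
      rw [← hmap] at hx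
      obtain ⟨y, hy, rfl⟩ := hx
      have : ((p⁻¹ : ↥(Isom Q)) : V ≃ₗ[F] V) ((p : V ≃ₗ[F] V) y) = y :=
        (p : V ≃ₗ[F] V).symm_apply_apply y
      rw [LinearEquiv.coe_coe, this]
      exact hy
  have h1 := hmem g hg a haW₀
  rw [hgt] at h1
  have := W₀.smul_mem t⁻¹ h1
  rwa [smul_smul, inv_mul_cancel₀ ht0, one_smul] at this

end irr

end Cfsg.Agent.Helper7.OrthNd
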