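import Mathlib
import Cfsg.Agent.Helper7.OrthNdA

set_option autoImplicit false
set_option linter.unusedSectionVars false

/-! Overgroups of the stabiliser of a non-degenerate subspace: from a mixed Siegel transformation
to the whole Siegel group (helper7). -/

namespace Cfsg.Agent.Helper7.OrthNd

open Module Cfsg.Agent.Helper8.QuadForm Cfsg.Agent.Helper8.WittQuad Cfsg.Agent.Helper8.OrthOrder
  Cfsg.Agent.Helper8.Siegel Cfsg.Agent.Helper8.SiegelGroup Cfsg.Agent.Helper8.SiegelGeom
  Cfsg.Agent.Helper7.OrthMax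

variable {F : Type*} [Field F] {V : Type*} [AddCommGroup V] [Module F V]
  {Q : QuadraticForm F V} {W U : Submodule F V}

section

variable (hd : OrthDec Q W U) (M : Subgroup ↥(Isom Q))
  (hPM : ∀ g ∈ SG Q, (∀ x ∈ W, (g : V ≃ₗ[F] V) x ∈ W) → g ∈ M)

include hd hPM

/-- Siegel transformations with parameters in `W` lie in `M`. -/
theorem siegG_mem_left {a b : V} (ha : a ∈ W) (hb : b ∈ W) (hQa : Q a = 0)
    (hab : QuadraticMap.polar Q a b = 0) : siegG Q a b ∈ M := by
  apply hPM _ (siegG_mem_SG Q hQa hab)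
  intro x hx
  rw [siegG_val, siegE_apply Q hQa hab, sieg_apply]
  exact W.sub_mem (W.sub_mem (W.add_mem hx (W.smul_mem _ ha)) (W.smul_mem _ hb)) (W.smul_mem _ ha)

/-- Siegel transformations with parameters in `U` lie in `M`. -/
theorem siegG_mem_right {a b : V} (ha : a ∈ U) (hb : b ∈ U) (hQa : Q a = 0)
    (hab : QuadraticMap.polar Q a b = 0) : siegG Q a b ∈ M := by
  apply hPM _ (siegG_mem_SG Q hQa hab)
  intro x hx
  rw [siegG_val, siegE_fix Q (hd.perp x hx a ha) (hd.perp x hx b hb)]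
  exact hx

theorem SGW_left_le : SGW Q W ≤ M := by
  unfold SGW
  rw [Subgroup.closure_le]
  rintro g ⟨a, ha, b, hb, hQa, hab, rfl⟩
  exact siegG_mem_left hd M hPM ha hb hQa hab

theorem SGW_right_le : SGW Q U ≤ M := by
  unfold SGW
  rw [Subgroup.closure_le]
  rintro g ⟨a, ha, b, hb, hQa, hab, rfl⟩
  exact siegG_mem_right hd M hPM ha hb hQa hab

/-- the vectors `w` of `W` with all `siegG u (c • w)` in `M`, for a singular `u ∈ U`. -/
def ZW {u : V} (hu : u ∈ U) (hQu : Q u = 0) : Submodule F V where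
  carrier := {w | w ∈ W ∧ ∀ c : F, siegG Q u (c • w) ∈ M}
  add_mem' := by
    rintro x y ⟨hx, hx'⟩ ⟨hy, hy'⟩
    refine ⟨W.add_mem hx hy, fun c => ?_⟩
    have h1 : QuadraticMap.polar Q u (c • x) = 0 := by
      rw [QuadraticMap.polar_comm]
      exact hd.perp _ (W.smul_mem c hx) u hu
    have h2 : QuadraticMap.polar Q u (c • y) = 0 := by
      rw [QuadraticMap.polar_comm]
      exact hd.perp _ (W.smul_mem c hy) u hu
    rw [smul_add, ← siegG_mul Q hQu h1 h2]
    exact M.mul_mem (hx' c) (hy' c)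
  zero_mem' := by
    refine ⟨W.zero_mem, fun c => ?_⟩
    rw [smul_zero, siegG_zero]
    exact M.one_mem
  smul_mem' := by
    rintro t x ⟨hx, hx'⟩
    refine ⟨W.smul_mem t hx, fun c => ?_⟩
    rw [smul_smul]
    exact hx' _

variable [Finite F] [FiniteDimensional F V]

/-- a mixed Siegel transformation at `u ∈ U` gives the full root group at `u`. -/
theorem RS_of_mixed (h4 : 4 ≤ finrank F W) {u z : V} (hu : u ∈ U) (hQu : Q u = 0)
    (huz : QuadraticMap.polar Q u z = 0) (hzU : z ∉ U) (hz : ∀ c : F, siegG Q u (c • z) ∈ M) :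
    RS Q M u := by
  obtain ⟨zw, hzw, zu, hzu, rfl⟩ := hd.exists_dec z
  have hzw0 : zw ≠ 0 := by
    rintro rfl
    apply hzU
    rw [zero_add]
    exact hzu
  have hperpW : ∀ w ∈ W, QuadraticMap.polar Q u w = 0 := by
    intro w hw
    rw [QuadraticMap.polar_comm]
    exact hd.perp w hw u hu
  have huzu : QuadraticMap.polar Q u zu = 0 := by
    rw [QuadraticMap.polar_add_right, hperpW zw hzw, zero_add] at huz
    exact huz
  -- the `W`-component lies in `ZW`
  have hmemZ : zw ∈ ZW hd M hu hQu := by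
    refine ⟨hzw, fun c => ?_⟩
    have h1 : QuadraticMap.polar Q u (c • (zw + zu)) = 0 := by
      rw [QuadraticMap.polar_smul_right, huz, smul_zero]
    have h2 : QuadraticMap.polar Q u (-(c • zu)) = 0 := by
      rw [QuadraticMap.polar_neg_right, QuadraticMap.polar_smul_right, huzu, smul_zero, neg_zero]
    have h3 : siegG Q u (c • zw) = siegG Q u (c • (zw + zu)) * siegG Q u (-(c • zu)) := by
      rw [siegG_mul Q hQu h1 h2]
      congr 1
      rw [smul_add]
      abel
    rw [h3]
    exact M.mul_mem (hz c) (siegG_mem_right hd M hPM hu (U.neg_mem (U.smul_mem c hzu)) hQu h2)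
  have hZ : ZW hd M hu hQu = W := by
    apply irr hd h4 (ZW hd M hu hQu) (fun x hx => hx.1)
    · intro h
      rw [h] at hmemZ
      exact hzw0 ((Submodule.mem_bot F).mp hmemZ)
    · intro a ha b hb hQa hab x hx
      refine ⟨?_, fun c => ?_⟩
      · rw [siegE_apply Q hQa hab, sieg_apply]
        exact W.sub_mem (W.sub_mem (W.add_mem hx.1 (W.smul_mem _ ha)) (W.smul_mem _ hb))
          (W.smul_mem _ ha)
      · have hp : siegG Q a b ∈ M := siegG_mem_left hd M hPM ha hb hQa hab
        have h1 := siegG_conj Q (siegG Q a b) u (c • x)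
        rw [siegG_val, siegE_fix Q (hperpW a ha) (hperpW b hb), map_smul] at h1
        rw [← h1]
        exact M.mul_mem (M.mul_mem hp (hx.2 c)) (M.inv_mem hp)
  refine ⟨hQu, fun w' hw' => ?_⟩
  obtain ⟨w, hw, x, hx, rfl⟩ := hd.exists_dec w'
  have h1 : QuadraticMap.polar Q u w = 0 := hperpW w hw
  have h2 : QuadraticMap.polar Q u x = 0 := by
    rw [QuadraticMap.polar_add_right, h1, zero_add] at hw'
    exact hw'
  rw [← siegG_mul Q hQu h1 h2]
  apply M.mul_mem
  · have : w ∈ ZW hd M hu hQu := by rw [hZ]; exact hw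
    have := this.2 1
    rwa [one_smul] at this
  · exact siegG_mem_right hd M hPM hu hx hQu h2

/-- a full root group at a singular vector of `U` gives the whole Siegel group. -/
theorem top_of_RS_right (h3 : 3 ≤ finrank F U) {u₁ : V} (hu₁ : u₁ ∈ U) (hu₁0 : u₁ ≠ 0)
    (hR : RS Q M u₁) : SG Q ≤ M := by
  have hQu₁ := hR.1
  -- (a) singular vectors of `U`
  have hA : ∀ a ∈ U, Q a = 0 → RS Q M a := by
    intro a ha hQa
    by_cases ha0 : a = 0
    · rw [ha0]
      have := RS_smul Q hR 0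
      rwa [zero_smul] at this
    obtain ⟨g, hg, t, ht0, hgt⟩ := exists_SGW_smul Q U hd.ndU h3 hu₁ ha hQu₁ hQa hu₁0 ha0
    have h1 := RS_map Q (SGW_right_le hd M hPM hg) hR
    rw [hgt] at h1
    have := RS_smul Q h1 t⁻¹
    rwa [smul_smul, inv_mul_cancel₀ ht0, one_smul] at this
  -- (b) singular vectors outside `W`
  have hB : ∀ a', Q a' = 0 → a' ∉ W → RS Q M a' := by
    intro a' hQa' ha'W
    obtain ⟨w, hw, x, hx, rfl⟩ := hd.exists_dec a'
    have hx0 : x ≠ 0 := by
      rintro rfl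
      apply ha'W
      rw [add_zero]
      exact hw
    -- a singular vector of `U` not orthogonal to `x`
    obtain ⟨u₂, hu₂, hQu₂, hu₂x⟩ : ∃ u₂ ∈ U, Q u₂ = 0 ∧ QuadraticMap.polar Q u₂ x ≠ 0 := by
      by_contra hcon
      push Not at hcon
      apply hx0
      apply hd.ndU x hx
      have hle := le_of_singular_le hd.symm h3
        (LinearMap.BilinForm.orthogonal (QuadraticMap.polarBilin Q) (Submodule.span F {x}))
        (fun c hc hQc => by
          rw [mem_orth_iff]
          intro y hy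
          obtain ⟨t, rfl⟩ := Submodule.mem_span_singleton.mp hy
          rw [QuadraticMap.polar_smul_right, hcon c hc hQc, smul_zero])
      intro y hy
      have := (mem_orth_iff Q _ y).mp (hle hy) x (Submodule.mem_span_singleton_self x)
      rw [QuadraticMap.polar_comm]
      exact this
    have hu₂0 : u₂ ≠ 0 := by
      rintro rfl
      rw [QuadraticMap.polar_zero_left] at hu₂x
      exact hu₂x rfl
    obtain ⟨f₂, hf₂, hQf₂, huf₂⟩ := hd.symm.exists_hyp_in hu₂ hu₂0 hQu₂
    have h1 : QuadraticMap.polar Q u₂ (w + x) = QuadraticMap.polar Q u₂ x := by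
      rw [QuadraticMap.polar_add_right, QuadraticMap.polar_comm Q u₂ w, hd.perp w hw u₂ hu₂,
        zero_add]
    apply RS_move Q (hA u₂ hu₂ hQu₂) (RS_smul Q (hA f₂ hf₂ hQf₂) (QuadraticMap.polar Q u₂ x)) hQa'
    · rw [QuadraticMap.polar_smul_right, huf₂, smul_eq_mul, mul_one]
      exact hu₂x
    · rw [h1, QuadraticMap.polar_smul_right, huf₂, smul_eq_mul, mul_one]
  -- (c) singular vectors of `W`
  have hC : ∀ a', Q a' = 0 → RS Q M a' := by
    intro a' hQa'
    by_cases ha'W : a' ∈ W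
    swap
    · exact hB a' hQa' ha'W
    by_cases ha'0 : a' = 0
    · rw [ha'0]
      have := RS_smul Q hR 0
      rwa [zero_smul] at this
    obtain ⟨a'', ha'', hQa'', ha'a''⟩ := hd.exists_hyp_in ha'W ha'0 hQa'
    obtain ⟨f₁, hf₁, hQf₁, huf₁⟩ := hd.symm.exists_hyp_in hu₁ hu₁0 hQu₁
    have hQu₃ : Q (a'' + u₁) = 0 := by
      rw [QuadraticMap.map_add Q, hQa'', hQu₁, hd.perp a'' ha'' u₁ hu₁]
      ring
    have hu₃W : a'' + u₁ ∉ W := by
      intro h
      have h1 : u₁ ∈ W := by
        have := W.sub_mem h ha''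
        rwa [add_sub_cancel_left] at this
      have : u₁ ∈ W ⊓ U := ⟨h1, hu₁⟩
      rw [hd.inf_eq_bot] at this
      exact hu₁0 ((Submodule.mem_bot F).mp this)
    have hR₃ := hB _ hQu₃ hu₃W
    have h1 : QuadraticMap.polar Q (a'' + u₁) f₁ = 1 := by
      rw [QuadraticMap.polar_add_left, hd.perp a'' ha'' f₁ hf₁, zero_add, huf₁]
    have h2 : QuadraticMap.polar Q (a'' + u₁) a' = 1 := by
      rw [QuadraticMap.polar_add_left, QuadraticMap.polar_comm Q a'' a', ha'a'',
        QuadraticMap.polar_comm Q u₁ a', hd.perp a' ha'W u₁ hu₁, add_zero]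
    apply RS_move Q hR₃ (hA f₁ hf₁ hQf₁) hQa'
    · rw [h1]
      exact one_ne_zero
    · rw [h1, h2]
  unfold SG SGW
  rw [Subgroup.closure_le]
  rintro g ⟨c, -, z, -, hc, hcz, rfl⟩
  exact (hC c hc).2 z hcz

end

end Cfsg.Agent.Helper7.OrthNd
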