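import Mathlib
import Cfsg.Agent.Helper7.OrthNdB

set_option autoImplicit false
set_option linter.unusedSectionVars false

/-! Overgroups of the stabiliser of a non-degenerate subspace: producing a mixed Siegel
transformation (helper7). -/

namespace Cfsg.Agent.Helper7.OrthNd

open Module Cfsg.Agent.Helper8.QuadForm Cfsg.Agent.Helper8.WittQuad Cfsg.Agent.Helper8.OrthOrder
  Cfsg.Agent.Helper8.Siegel Cfsg.Agent.Helper8.SiegelGroup Cfsg.Agent.Helper8.SiegelGeom
  Cfsg.Agent.Helper7.OrthMax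

variable {F : Type*} [Field F] {V : Type*} [AddCommGroup V] [Module F V]
  {Q : QuadraticForm F V} {W U : Submodule F V}

section

variable [FiniteDimensional F V] (hd : OrthDec Q W U)

include hd

theorem finrank_add : finrank F W + finrank F U = finrank F V := by
  have h1 := Submodule.finrank_sup_add_finrank_inf_eq W U
  rw [hd.sup, hd.inf_eq_bot, finrank_top, finrank_bot] at h1
  omega

/-- the part of the orthogonal of `B ≤ U` inside `U` has complementary dimension. -/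
theorem finrank_inf_orth_of_le {B : Submodule F V} (hB : B ≤ U) :
    finrank F ↥(U ⊓ LinearMap.BilinForm.orthogonal (QuadraticMap.polarBilin Q) B) + finrank F B
      = finrank F U := by
  have hBn : (QuadraticMap.polarBilin Q).Nondegenerate := (nondeg_iff Q).mpr hd.nondeg
  have h1 := Submodule.finrank_sup_add_finrank_inf_eq U
    (LinearMap.BilinForm.orthogonal (QuadraticMap.polarBilin Q) B)
  have h2 := LinearMap.BilinForm.finrank_orthogonal hBn B
  have h3 : U ⊔ LinearMap.BilinForm.orthogonal (QuadraticMap.polarBilin Q) B = ⊤ := by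
    rw [eq_top_iff, ← hd.sup, sup_comm]
    apply sup_le_sup_left
    intro w hw
    rw [mem_orth_iff]
    intro b hb
    exact hd.perp w hw b (hB hb)
  rw [h3, finrank_top] at h1
  have h4 := Submodule.finrank_le B
  omega

/-- a singular vector of `B ≤ U` not orthogonal to `B`, when `B` is large. -/
theorem exists_singular_nonrad [Finite F] {B : Submodule F V} (hB : B ≤ U)
    (hdim : finrank F U + 3 ≤ 2 * finrank F B) :
    ∃ u ∈ B, u ≠ 0 ∧ Q u = 0 ∧ ∃ y ∈ B, QuadraticMap.polar Q u y ≠ 0 := by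
  obtain ⟨R, hR⟩ : ∃ R : Submodule F V,
      R = B ⊓ LinearMap.BilinForm.orthogonal (QuadraticMap.polarBilin Q) B := ⟨_, rfl⟩
  have hRd : finrank F R + finrank F B ≤ finrank F U := by
    have h1 := finrank_inf_orth_of_le hd hB
    have h2 : R ≤ U ⊓ LinearMap.BilinForm.orthogonal (QuadraticMap.polarBilin Q) B := by
      rw [hR]
      exact inf_le_inf_right _ hB
    have := Submodule.finrank_mono h2
    omega
  obtain ⟨q, hq⟩ := Submodule.exists_isCompl R
  have hqd : finrank F R + finrank F q = finrank F V := by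
    have h1 := Submodule.finrank_sup_add_finrank_inf_eq R q
    rw [hq.sup_eq_top, hq.inf_eq_bot, finrank_top, finrank_bot] at h1
    omega
  have hCd : 3 ≤ finrank F ↥(B ⊓ q) := by
    have h1 := Submodule.finrank_sup_add_finrank_inf_eq B q
    have h2 := Submodule.finrank_le (B ⊔ q)
    omega
  obtain ⟨u, hu, hu0, hQu⟩ := exists_singular_in Q (B ⊓ q) hCd
  refine ⟨u, hu.1, hu0, hQu, ?_⟩
  by_contra hcon
  push Not at hcon
  have huR : u ∈ R := by
    rw [hR]
    exact ⟨hu.1, (mem_orth_iff Q B u).mpr hcon⟩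
  have : u ∈ R ⊓ q := ⟨huR, hu.2⟩
  rw [hq.inf_eq_bot] at this
  exact hu0 ((Submodule.mem_bot F).mp this)

end

section

variable [Finite F] [FiniteDimensional F V] (hd : OrthDec Q W U) (M : Subgroup ↥(Isom Q))
  (hPM : ∀ g ∈ SG Q, (∀ x ∈ W, (g : V ≃ₗ[F] V) x ∈ W) → g ∈ M)

include hd in
/-- no non-zero vector of `U` is fixed by all Siegel transformations of `U`. -/
theorem eq_zero_of_fixed (h4 : 4 ≤ finrank F U) {t : V} (ht : t ∈ U)
    (hfix : ∀ a ∈ U, ∀ b ∈ U, Q a = 0 → QuadraticMap.polar Q a b = 0 → siegE Q a b t = t) :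
    t = 0 := by
  by_contra ht0
  have h1 : Submodule.span F {t} = U := by
    apply irr hd.symm h4 (Submodule.span F {t})
      ((Submodule.span_singleton_le_iff_mem t U).mpr ht)
    · intro h
      apply ht0
      have : t ∈ Submodule.span F {t} := Submodule.mem_span_singleton_self t
      rw [h] at this
      exact (Submodule.mem_bot F).mp this
    · intro a ha b hb hQa hab x hx
      obtain ⟨c, rfl⟩ := Submodule.mem_span_singleton.mp hx
      rw [map_smul, hfix a ha b hb hQa hab]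
      exact Submodule.smul_mem _ c (Submodule.mem_span_singleton_self t)
  have h2 := finrank_span_singleton (K := F) ht0
  rw [h1] at h2
  omega

include hd in
/-- some Siegel transformation of `U` moves a conjugate `U' ≠ U`, unless `U' ≤ W`. -/
theorem exists_sieg_move_conj (h4 : 4 ≤ finrank F U) (U' : Submodule F V)
    (hfr : finrank F U' = finrank F U) (hne : ¬ U ≤ U') (hnW : ¬ U' ≤ W) :
    ∃ a ∈ U, ∃ b ∈ U, Q a = 0 ∧ QuadraticMap.polar Q a b = 0 ∧ ∃ x ∈ U', siegE Q a b x ∉ U' := by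
  by_contra hcon
  push Not at hcon
  have hinv : ∀ a ∈ U, ∀ b ∈ U, Q a = 0 → QuadraticMap.polar Q a b = 0 →
      ∀ x ∈ U', siegE Q a b x ∈ U' := hcon
  have hinvU : ∀ a ∈ U, ∀ b ∈ U, Q a = 0 → QuadraticMap.polar Q a b = 0 →
      ∀ x ∈ U, siegE Q a b x ∈ U := by
    intro a ha b hb hQa hab x hx
    rw [siegE_apply Q hQa hab, sieg_apply]
    exact U.sub_mem (U.sub_mem (U.add_mem hx (U.smul_mem _ ha)) (U.smul_mem _ hb)) (U.smul_mem _ ha)
  by_cases hT : U ⊓ U' = ⊥
  · apply hnW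
    intro x hx
    obtain ⟨w, hw, t, ht, rfl⟩ := hd.exists_dec x
    have ht0 : t = 0 := by
      apply eq_zero_of_fixed hd h4 ht
      intro a ha b hb hQa hab
      have h1 : siegE Q a b (w + t) - (w + t) ∈ U' := U'.sub_mem (hinv a ha b hb hQa hab _ hx) hx
      have h2 : siegE Q a b w = w := siegE_fix Q (hd.perp w hw a ha) (hd.perp w hw b hb)
      have h3 : siegE Q a b (w + t) - (w + t) = siegE Q a b t - t := by
        rw [map_add, h2]
        abel
      rw [h3] at h1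
      have h4 : siegE Q a b t - t ∈ U ⊓ U' := ⟨U.sub_mem (hinvU a ha b hb hQa hab t ht) ht, h1⟩
      rw [hT] at h4
      exact sub_eq_zero.mp ((Submodule.mem_bot F).mp h4)
    rw [ht0, add_zero]
    exact hw
  · apply hne
    have h1 : U ⊓ U' = U := by
      apply irr hd.symm h4 (U ⊓ U') inf_le_left hT
      intro a ha b hb hQa hab x hx
      exact ⟨hinvU a ha b hb hQa hab x hx.1, hinv a ha b hb hQa hab x hx.2⟩
    rw [← h1]
    exact inf_le_right

include hd hPM in
/-- **a mixed Siegel transformation** in an overgroup not stabilising `U`. -/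
theorem exists_mixed (h7 : 7 ≤ finrank F U)
    (hswap : ∀ g ∈ Isom Q, ¬ ∀ x ∈ U, (g : V ≃ₗ[F] V) x ∈ W) {g : ↥(Isom Q)} (hgM : g ∈ M)
    (hg : ¬ ∀ x ∈ U, (g : V ≃ₗ[F] V) x ∈ U) :
    ∃ u ∈ U, u ≠ 0 ∧ Q u = 0 ∧ ∃ z, QuadraticMap.polar Q u z = 0 ∧ z ∉ U ∧
      ∀ c : F, siegG Q u (c • z) ∈ M := by
  have hQnd : Nondeg Q := hd.nondeg
  obtain ⟨U', hU'⟩ : ∃ U' : Submodule F V, U' = U.map ((g : V ≃ₗ[F] V) : V →ₗ[F] V) := ⟨_, rfl⟩
  have hfr' : finrank F U' = finrank F U := by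
    rw [hU']
    exact LinearEquiv.finrank_map_eq _ _
  have hne : ¬ U ≤ U' := by
    intro h
    apply hg
    have h1 : U = U' := Submodule.eq_of_le_of_finrank_eq h hfr'.symm
    intro x hx
    rw [h1, hU']
    exact ⟨x, hx, rfl⟩
  have hnW : ¬ U' ≤ W := by
    intro h
    apply hswap g g.2
    intro x hx
    apply h
    rw [hU']
    exact ⟨x, hx, rfl⟩
  obtain ⟨a, ha, b, hb, hQa, hab, x₁, hx₁, hsx₁⟩ :=
    exists_sieg_move_conj hd (by omega) U' hfr' hne hnW
  have hsM : siegG Q a b ∈ M := siegG_mem_right hd M hPM ha hb hQa hab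
  obtain ⟨h, hh⟩ : ∃ h : ↥(Isom Q), h = g⁻¹ * siegG Q a b * g := ⟨_, rfl⟩
  have hhM : h ∈ M := by
    rw [hh]
    exact M.mul_mem (M.mul_mem (M.inv_mem hgM) hsM) hgM
  have hhapp : ∀ x, (h : V ≃ₗ[F] V) x
      = (g : V ≃ₗ[F] V).symm (siegE Q a b ((g : V ≃ₗ[F] V) x)) := by
    intro x
    rw [hh]
    rfl
  obtain ⟨U₁, hU₁⟩ : ∃ U₁ : Submodule F V, U₁ = U.map ((h : V ≃ₗ[F] V) : V →ₗ[F] V) := ⟨_, rfl⟩
  have hfr₁ : finrank F U₁ = finrank F U := by
    rw [hU₁]
    exact LinearEquiv.finrank_map_eq _ _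
  have hU₁ne : ¬ U₁ ≤ U := by
    intro hle
    apply hsx₁
    rw [hU'] at hx₁
    obtain ⟨x₀, hx₀, rfl⟩ := hx₁
    have h1 : (h : V ≃ₗ[F] V) x₀ ∈ U := by
      apply hle
      rw [hU₁]
      exact ⟨x₀, hx₀, rfl⟩
    rw [hhapp] at h1
    rw [hU']
    refine ⟨_, h1, ?_⟩
    exact (g : V ≃ₗ[F] V).apply_symm_apply _
  -- the intersection is large
  obtain ⟨B, hBdef⟩ : ∃ B : Submodule F V, B = U ⊓ U₁ := ⟨_, rfl⟩
  have hBU : B ≤ U := by rw [hBdef]; exact inf_le_left
  have hBU₁ : B ≤ U₁ := by rw [hBdef]; exact inf_le_right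
  have hBdim : finrank F U ≤ finrank F B + 2 := by
    have h1 : (U' ⊓ LinearMap.BilinForm.orthogonal (QuadraticMap.polarBilin Q)
        (Submodule.span F {a}) ⊓ LinearMap.BilinForm.orthogonal (QuadraticMap.polarBilin Q)
        (Submodule.span F {b})).map (((g : V ≃ₗ[F] V).symm : V ≃ₗ[F] V) : V →ₗ[F] V) ≤ B := by
      rintro _ ⟨y, ⟨⟨hy1, hy2⟩, hy3⟩, rfl⟩
      rw [hU'] at hy1
      obtain ⟨y₀, hy₀, rfl⟩ := hy1
      have hya : QuadraticMap.polar Q ((g : V ≃ₗ[F] V) y₀) a = 0 :=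
        (mem_orth_iff Q _ _).mp hy2 a (Submodule.mem_span_singleton_self a)
      have hyb : QuadraticMap.polar Q ((g : V ≃ₗ[F] V) y₀) b = 0 :=
        (mem_orth_iff Q _ _).mp hy3 b (Submodule.mem_span_singleton_self b)
      have e1 : (g : V ≃ₗ[F] V).symm ((g : V ≃ₗ[F] V) y₀) = y₀ :=
        (g : V ≃ₗ[F] V).symm_apply_apply y₀
      show (g : V ≃ₗ[F] V).symm ((g : V ≃ₗ[F] V) y₀) ∈ B
      rw [e1, hBdef]
      refine ⟨hy₀, ?_⟩
      rw [hU₁]
      refine ⟨y₀, hy₀, ?_⟩
      show (h : V ≃ₗ[F] V) y₀ = y₀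
      rw [hhapp, siegE_fix Q hya hyb, e1]
    have h2 := Submodule.finrank_mono h1
    rw [LinearEquiv.finrank_map_eq] at h2
    have h3 := finrank_inf_orth_singleton Q hQnd U' a
    have h4 := finrank_inf_orth_singleton Q hQnd
      (U' ⊓ LinearMap.BilinForm.orthogonal (QuadraticMap.polarBilin Q) (Submodule.span F {a})) b
    omega
  -- a singular vector of `B` not orthogonal to `B`
  obtain ⟨u, huB, hu0, hQu, y, hyB, huy⟩ := exists_singular_nonrad hd hBU (by omega)
  refine ⟨u, hBU huB, hu0, hQu, ?_⟩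
  -- a vector of `U₁` orthogonal to `u` outside `U`
  obtain ⟨z, hzU₁, huz, hzU⟩ : ∃ z ∈ U₁, QuadraticMap.polar Q u z = 0 ∧ z ∉ U := by
    by_contra hcon
    push Not at hcon
    have hle : U₁ ⊓ LinearMap.BilinForm.orthogonal (QuadraticMap.polarBilin Q)
        (Submodule.span F {u}) ≤ B := by
      rintro z ⟨hz1, hz2⟩
      have huz : QuadraticMap.polar Q u z = 0 := by
        rw [QuadraticMap.polar_comm]
        exact (mem_orth_iff Q _ _).mp hz2 u (Submodule.mem_span_singleton_self u)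
      rw [hBdef]
      exact ⟨hcon z hz1 huz, hz1⟩
    have h1 := finrank_inf_orth_singleton Q hQnd U₁ u
    have hBlt : finrank F B < finrank F U₁ := by
      apply Submodule.finrank_lt_finrank_of_lt
      refine lt_of_le_of_ne hBU₁ fun h => hU₁ne ?_
      rw [← h]
      exact hBU
    have heq : U₁ ⊓ LinearMap.BilinForm.orthogonal (QuadraticMap.polarBilin Q)
        (Submodule.span F {u}) = B := by
      apply Submodule.eq_of_le_of_finrank_le hle
      omega
    have hy' : y ∈ U₁ ⊓ LinearMap.BilinForm.orthogonal (QuadraticMap.polarBilin Q)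
        (Submodule.span F {u}) := by rw [heq]; exact hyB
    apply huy
    rw [QuadraticMap.polar_comm]
    exact (mem_orth_iff Q _ _).mp hy'.2 u (Submodule.mem_span_singleton_self u)
  refine ⟨z, huz, hzU, fun c => ?_⟩
  -- the transformations come from `U` by conjugation with `h`
  have huU₁ : u ∈ U₁ := hBU₁ huB
  rw [hU₁] at huU₁ hzU₁
  obtain ⟨u₀, hu₀, rfl⟩ := huU₁
  obtain ⟨z₀, hz₀, rfl⟩ := hzU₁
  have hQu₀ : Q u₀ = 0 := by
    rw [← h.2 u₀]
    exact hQu
  have hu₀z₀ : QuadraticMap.polar Q u₀ (c • z₀) = 0 := by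
    have huz' : QuadraticMap.polar Q ((h : V ≃ₗ[F] V) u₀) ((h : V ≃ₗ[F] V) z₀) = 0 := huz
    rw [QuadraticMap.polar_smul_right, ← polar_isometry Q h h.2, huz', smul_zero]
  have h1 := siegG_conj Q h u₀ (c • z₀)
  rw [map_smul] at h1
  show siegG Q ((h : V ≃ₗ[F] V) u₀) (c • (h : V ≃ₗ[F] V) z₀) ∈ M
  rw [← h1]
  exact M.mul_mem (M.mul_mem hhM (siegG_mem_right hd M hPM hu₀ (U.smul_mem c hz₀) hQu₀ hu₀z₀))
    (M.inv_mem hhM)

include hd hPM in
/-- **The dichotomy** for the stabiliser of a non-degenerate subspace (both summands large). -/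
theorem nd_stab_or_top (h4 : 4 ≤ finrank F W) (h7 : 7 ≤ finrank F U)
    (hswap : ∀ g ∈ Isom Q, ¬ ∀ x ∈ U, (g : V ≃ₗ[F] V) x ∈ W) :
    (∀ g ∈ M, ∀ x ∈ U, (g : V ≃ₗ[F] V) x ∈ U) ∨ SG Q ≤ M := by
  by_cases hall : ∀ g ∈ M, ∀ x ∈ U, (g : V ≃ₗ[F] V) x ∈ U
  · exact Or.inl hall
  right
  push Not at hall
  obtain ⟨g, hgM, hg⟩ := hall
  obtain ⟨u, huU, hu0, hQu, z, huz, hzU, hz⟩ := exists_mixed hd M hPM h7 hswap hgM
    (by push Not; exact hg)
  have hR := RS_of_mixed hd M hPM h4 huU hQu huz hzU hz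
  exact top_of_RS_right hd M hPM (by omega) huU hu0 hR

end

end Cfsg.Agent.Helper7.OrthNd
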