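import Mathlib
import Cfsg.Agent.Helper7.OrthNdC

set_option autoImplicit false
set_option linter.unusedSectionVars false

/-! Transfer to matrices: the stabiliser of a non-degenerate subspace is maximal in `Ω(Q)`, when
both summands are large (helper7). -/

namespace Cfsg.Agent.Helper7.OrthNd

open Module Cfsg.Agent.Helper8.QuadForm Cfsg.Agent.Helper8.WittQuad Cfsg.Agent.Helper8.OrthOrder
  Cfsg.Agent.Helper8.Siegel Cfsg.Agent.Helper8.SiegelGroup Cfsg.Agent.Helper8.SiegelGeom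
  Cfsg.Agent.Helper8.ReflMatrix Cfsg.Agent.Helper8.OmegaSimple Cfsg.Agent.Helper7.OrthMax

section

variable {F : Type*} [Field F] {V : Type*} [AddCommGroup V] [Module F V]
  {Q : QuadraticForm F V} {W U : Submodule F V}

/-- an element of the Siegel group not stabilising `U`. -/
theorem exists_not_stab_nd [Finite F] [FiniteDimensional F V] (hd : OrthDec Q W U)
    (h3 : 3 ≤ finrank F U) (hW0 : W ≠ ⊥) :
    ∃ g ∈ SG Q, ¬ ∀ x ∈ U, (g : V ≃ₗ[F] V) x ∈ U := by
  have hQ : Nondeg Q := hd.nondeg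
  obtain ⟨u₁, hu₁, hu₁0, hQu₁⟩ := exists_singular_in Q U h3
  -- a singular vector outside `U`
  obtain ⟨a', hQa', ha'U⟩ : ∃ a', Q a' = 0 ∧ a' ∉ U := by
    obtain ⟨w, hw, hw0⟩ := (Submodule.ne_bot_iff W).mp hW0
    have hwU : w ∉ U := by
      intro h
      have : w ∈ W ⊓ U := ⟨hw, h⟩
      rw [hd.inf_eq_bot] at this
      exact hw0 ((Submodule.mem_bot F).mp this)
    by_cases hQw : Q w = 0
    · exact ⟨w, hQw, hwU⟩
    have hnd : Nondeg (Q.comp U.subtype) := (nondeg_comp_subtype_iff Q U).mpr hd.ndU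
    obtain ⟨x, hx⟩ := exists_repr (Q.comp U.subtype) hnd (by omega) (-Q w)
    refine ⟨w + x.1, ?_, ?_⟩
    · have hx' : Q (x : V) = -Q w := hx
      rw [QuadraticMap.map_add Q, hx', hd.perp w hw x.1 x.2]
      ring
    · intro h
      apply hwU
      have := U.sub_mem h x.2
      rwa [add_sub_cancel_right] at this
  have ha'0 : a' ≠ 0 := by
    rintro rfl
    exact ha'U U.zero_mem
  have htop : NondegOn Q ⊤ := fun x _ h => hQ x (fun y => h y trivial)
  have hfin : 3 ≤ finrank F (⊤ : Submodule F V) := by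
    rw [finrank_top]
    have := Submodule.finrank_le U
    omega
  obtain ⟨g, hg, t, ht0, hgt⟩ := exists_SGW_smul Q ⊤ htop hfin
    (a := u₁) (a' := a') trivial trivial hQu₁ hQa' hu₁0 ha'0
  refine ⟨g, hg, fun h => ?_⟩
  have h1 := h u₁ hu₁
  rw [hgt] at h1
  apply ha'U
  have := U.smul_mem t⁻¹ h1
  rwa [smul_smul, inv_mul_cancel₀ ht0, one_smul] at this

end

variable {F : Type*} [Field F] [Fintype F] {ι : Type} [Fintype ι] [DecidableEq ι]
  (Q : QuadraticForm F (ι → F))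

/-- **Maximality**, given a subgroup of `GL` cutting out the stabiliser of `U`. -/
theorem nd_maximal_aux (hQ : (QuadraticMap.polarBilin Q).Nondegenerate)
    (h5 : 5 ≤ Fintype.card ι) {W U : Submodule F (ι → F)} (hd : OrthDec Q W U)
    (h4 : 4 ≤ finrank F W) (h7 : 7 ≤ finrank F U)
    (hswap : ∀ g ∈ Isom Q, ¬ ∀ x ∈ U, (g : (ι → F) ≃ₗ[F] (ι → F)) x ∈ W)
    (S : Subgroup (GL ι F))
    (hS : ∀ k : ↥(Isom Q), toGL Q k ∈ S ↔ ∀ x ∈ U, (k : (ι → F) ≃ₗ[F] (ι → F)) x ∈ U) :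
    Cfsg.Geo.IsMaximalIn (Cfsg.Geo.omegaGL ⇑Q) (S ⊓ Cfsg.Geo.omegaGL ⇑Q) := by
  have hW0 : W ≠ ⊥ := by
    rintro rfl
    rw [finrank_bot] at h4
    omega
  refine ⟨lt_of_le_not_ge inf_le_right ?_, ?_⟩
  · intro hle
    obtain ⟨g, hg, hgU⟩ := exists_not_stab_nd hd (by omega) hW0
    exact hgU ((hS g).mp (hle (toGL_mem_omegaGL Q hQ h5 hg)).1)
  · intro M hPM hMG
    have key := nd_stab_or_top hd (M.comap (toGL Q)) (by
      intro g hg hgW
      rw [Subgroup.mem_comap]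
      exact hPM ⟨(hS g).mpr (hd.map_right_of_map_left g.2 hgW), toGL_mem_omegaGL Q hQ h5 hg⟩)
      h4 h7 hswap
    rcases key with h | h
    · left
      apply le_antisymm _ hPM
      intro g hg
      obtain ⟨k, hk, rfl⟩ := exists_toGL_eq Q hQ h5 (hMG hg)
      exact ⟨(hS k).mpr (h k (Subgroup.mem_comap.mpr hg)), hMG hg⟩
    · right
      apply le_antisymm hMG
      intro g hg
      obtain ⟨k, hk, rfl⟩ := exists_toGL_eq Q hQ h5 hg
      exact Subgroup.mem_comap.mp (h hk)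

end Cfsg.Agent.Helper7.OrthNd
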