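import Mathlib
import Cfsg.Agent.Helper7.OrthNdD
import Cfsg.Agent.Helper7.OrthMaxI

set_option autoImplicit false
set_option linter.unusedSectionVars false

/-! A decomposition into two non-isometric non-degenerate halves: its stabiliser is maximal in
`Ω(Q)` (helper7). -/

namespace Cfsg.Agent.Helper7.OrthNd

open Module Cfsg.Agent.Helper8.QuadForm Cfsg.Agent.Helper8.WittQuad Cfsg.Agent.Helper8.OrthOrder
  Cfsg.Agent.Helper8.Siegel Cfsg.Agent.Helper8.SiegelGroup Cfsg.Agent.Helper8.SiegelGeom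
  Cfsg.Agent.Helper8.ReflMatrix Cfsg.Agent.Helper8.OmegaSimple Cfsg.Agent.Helper7.OrthMax

variable {F : Type*} [Field F] {ι : Type} [Fintype ι] [DecidableEq ι]
  (Q : QuadraticForm F (ι → F))

/-- from the frozen non-degeneracy predicate to `NondegOn`. -/
theorem nondegOn_of_frozen {W : Submodule F (ι → F)}
    (h : Cfsg.Geo.IsNondegenerateOn (QuadraticMap.polar ⇑Q) W) : NondegOn Q W := by
  intro w hw hww
  by_contra hw0
  obtain ⟨-, x, hx, hwx⟩ := h w hw hw0
  exact hwx (hww x hx)

/-- an isometry mapping `A` onto `B` makes them isometric in the frozen sense. -/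
theorem areIsometric_of_map {A B : Submodule F (ι → F)} {g : (ι → F) ≃ₗ[F] (ι → F)}
    (hg : g ∈ Isom Q) (h : A.map (g : (ι → F) →ₗ[F] (ι → F)) = B) :
    Cfsg.Geo.AreIsometricFor ⇑Q A B := by
  refine ⟨(g.submoduleMap A).trans (LinearEquiv.ofEq _ _ h), fun w => ?_⟩
  show Q (g (w : ι → F)) = Q (w : ι → F)
  exact hg _

theorem areIsometric_symm {A B : Submodule F (ι → F)} (h : Cfsg.Geo.AreIsometricFor ⇑Q A B) :
    Cfsg.Geo.AreIsometricFor ⇑Q B A := by
  obtain ⟨e, he⟩ := h
  refine ⟨e.symm, fun w => ?_⟩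
  have := he (e.symm w)
  rw [LinearEquiv.apply_symm_apply] at this
  exact this.symm

variable [Fintype F]

theorem halves_maximal (hQ : (QuadraticMap.polarBilin Q).Nondegenerate)
    (h5 : 5 ≤ Fintype.card ι) {k : ℕ} (hk : 7 ≤ k) (D : Fin 2 → Submodule F (ι → F))
    (hD : Cfsg.Geo.IsNondegenerateMDecomposition (QuadraticMap.polar ⇑Q) k D)
    (hni : ¬ Cfsg.Geo.AreIsometricFor ⇑Q (D 0) (D 1)) :
    Cfsg.Geo.IsMaximalIn (Cfsg.Geo.omegaGL ⇑Q)
      (Cfsg.Geo.decompositionStabilizer D ⊓ Cfsg.Geo.omegaGL ⇑Q) := by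
  have hd : OrthDec Q (D 0) (D 1) := by
    refine ⟨hD.orthogonal 0 1 (by decide), ?_, nondegOn_of_frozen Q (hD.nondegenerate 0),
      nondegOn_of_frozen Q (hD.nondegenerate 1)⟩
    rw [← hD.decomp.iSup_eq_top]
    apply le_antisymm
    · exact sup_le (le_iSup D 0) (le_iSup D 1)
    · apply iSup_le
      intro i
      have : ∀ j : Fin 2, j = 0 ∨ j = 1 := by decide
      rcases this i with rfl | rfl
      · exact le_sup_left
      · exact le_sup_right
  have hf0 : finrank F (D 0) = k := hD.decomp.finrank_eq 0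
  have hf1 : finrank F (D 1) = k := hD.decomp.finrank_eq 1
  have hswap : ∀ g ∈ Isom Q, ¬ ∀ x ∈ D 1, (g : (ι → F) ≃ₗ[F] (ι → F)) x ∈ D 0 := by
    intro g hg hmap
    apply hni
    apply areIsometric_symm
    apply areIsometric_of_map Q hg (g := g)
    apply Submodule.eq_of_le_of_finrank_eq
    · rintro _ ⟨x, hx, rfl⟩
      exact hmap x hx
    · rw [LinearEquiv.finrank_map_eq g, hf0, hf1]
  have hne01 : D 0 ≠ D 1 := by
    intro h
    have h1 := hd.inf_eq_bot
    rw [← h, inf_idem] at h1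
    rw [h1, finrank_bot] at hf0
    omega
  apply nd_maximal_aux Q hQ h5 hd (by omega) (by omega) hswap
  intro kk
  constructor
  · rintro ⟨σ, hσ⟩
    simp only [toLin'_toGL] at hσ
    have hσ1 : σ 1 = 1 := by
      by_contra hne
      have h1 : σ 1 = 0 := by
        have : ∀ j : Fin 2, j ≠ 1 → j = 0 := by decide
        exact this _ hne
      have := hσ 1
      rw [h1] at this
      exact hni (areIsometric_symm Q (areIsometric_of_map Q kk.2 this))
    intro x hx
    have := hσ 1
    rw [hσ1] at this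
    rw [← this]
    exact ⟨x, hx, rfl⟩
  · intro hU
    have hW := hd.symm.map_right_of_map_left kk.2 hU
    refine ⟨1, fun i => ?_⟩
    rw [toLin'_toGL, Equiv.Perm.one_apply]
    have : ∀ j : Fin 2, j = 0 ∨ j = 1 := by decide
    rcases this i with rfl | rfl
    · apply Submodule.eq_of_le_of_finrank_eq
      · rintro _ ⟨x, hx, rfl⟩
        exact hW x hx
      · exact LinearEquiv.finrank_map_eq _ _
    · apply Submodule.eq_of_le_of_finrank_eq
      · rintro _ ⟨x, hx, rfl⟩
        exact hU x hx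
      · exact LinearEquiv.finrank_map_eq _ _

end Cfsg.Agent.Helper7.OrthNd
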