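import Mathlib
import Cfsg.Agent.Helper7.OrthNdE

set_option autoImplicit false
set_option linter.unusedSectionVars false

/-! Overgroups of the stabiliser of a non-degenerate subspace: small summands (helper7). -/

namespace Cfsg.Agent.Helper7.OrthNd

open Module Cfsg.Agent.Helper8.QuadForm Cfsg.Agent.Helper8.WittQuad Cfsg.Agent.Helper8.OrthOrder
  Cfsg.Agent.Helper8.Siegel Cfsg.Agent.Helper8.SiegelGroup Cfsg.Agent.Helper8.SiegelGeom
  Cfsg.Agent.Helper8.Reflections Cfsg.Agent.Helper7.OrthMax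

variable {F : Type*} [Field F] {V : Type*} [AddCommGroup V] [Module F V]
  {Q : QuadraticForm F V} {W U : Submodule F V}

/-- the invariance hypothesis: the subspaces of `W` invariant under the elements of `M` stabilising
`W` and fixing `u`. -/
def IrrAt (M : Subgroup ↥(Isom Q)) (W : Submodule F V) (u : V) : Prop :=
  ∀ W₀ : Submodule F V, W₀ ≤ W → W₀ ≠ ⊥ →
    (∀ p ∈ M, (∀ x ∈ W, (p : V ≃ₗ[F] V) x ∈ W) → (p : V ≃ₗ[F] V) u = u →
      ∀ x ∈ W₀, (p : V ≃ₗ[F] V) x ∈ W₀) → W₀ = W

section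

variable (hd : OrthDec Q W U) (M : Subgroup ↥(Isom Q))
  (hPM : ∀ g ∈ SG Q, (∀ x ∈ W, (g : V ≃ₗ[F] V) x ∈ W) → g ∈ M)

include hd hPM

/-- a mixed Siegel transformation at `u ∈ U` gives the full root group at `u`, under the
invariance hypothesis. -/
theorem RS_of_mixed' {u z : V} (hu : u ∈ U) (hQu : Q u = 0)
    (huz : QuadraticMap.polar Q u z = 0) (hzU : z ∉ U) (hz : ∀ c : F, siegG Q u (c • z) ∈ M)
    (hirr : IrrAt M W u) : RS Q M u := by
  obtain ⟨zw, hzw, zu, hzu, rfl⟩ := hd.exists_dec z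
  have hzw0 : zw ≠ 0 := by
    rintro rfl
    apply hzU
    rw [zero_add]
    exact hzu
  have hperpW : ∀ w ∈ W, QuadraticMap.polar Q u w = 0 := by
    intro w hw
    rw [QuadraticMap.polar_comm]
    exact hd.perp w hw u hu
  have huzu : QuadraticMap.polar Q u zu = 0 := by
    rw [QuadraticMap.polar_add_right, hperpW zw hzw, zero_add] at huz
    exact huz
  have hmemZ : zw ∈ ZW hd M hu hQu := by
    refine ⟨hzw, fun c => ?_⟩
    have h1 : QuadraticMap.polar Q u (c • (zw + zu)) = 0 := by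
      rw [QuadraticMap.polar_smul_right, huz, smul_zero]
    have h2 : QuadraticMap.polar Q u (-(c • zu)) = 0 := by
      rw [QuadraticMap.polar_neg_right, QuadraticMap.polar_smul_right, huzu, smul_zero, neg_zero]
    have h3 : siegG Q u (c • zw) = siegG Q u (c • (zw + zu)) * siegG Q u (-(c • zu)) := by
      rw [siegG_mul Q hQu h1 h2]
      congr 1
      rw [smul_add]
      abel
    rw [h3]
    exact M.mul_mem (hz c) (siegG_mem_right hd M hPM hu (U.neg_mem (U.smul_mem c hzu)) hQu h2)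
  have hZ : ZW hd M hu hQu = W := by
    apply hirr (ZW hd M hu hQu) (fun x hx => hx.1)
    · intro h
      rw [h] at hmemZ
      exact hzw0 ((Submodule.mem_bot F).mp hmemZ)
    · intro p hp hpW hpu x hx
      refine ⟨hpW x hx.1, fun c => ?_⟩
      have h1 := siegG_conj Q p u (c • x)
      rw [hpu, map_smul] at h1
      rw [← h1]
      exact M.mul_mem (M.mul_mem hp (hx.2 c)) (M.inv_mem hp)
  refine ⟨hQu, fun w' hw' => ?_⟩
  obtain ⟨w, hw, x, hx, rfl⟩ := hd.exists_dec w'
  have h1 : QuadraticMap.polar Q u w = 0 := hperpW w hw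
  have h2 : QuadraticMap.polar Q u x = 0 := by
    rw [QuadraticMap.polar_add_right, h1, zero_add] at hw'
    exact hw'
  rw [← siegG_mul Q hQu h1 h2]
  apply M.mul_mem
  · have : w ∈ ZW hd M hu hQu := by rw [hZ]; exact hw
    have := this.2 1
    rwa [one_smul] at this
  · exact siegG_mem_right hd M hPM hu hx hQu h2

/-- invariance under the Siegel transformations of `W`. -/
theorem inv_siegE_of_inv {u : V} (hu : u ∈ U) {W₀ : Submodule F V}
    (hinv : ∀ p ∈ M, (∀ x ∈ W, (p : V ≃ₗ[F] V) x ∈ W) → (p : V ≃ₗ[F] V) u = u →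
      ∀ x ∈ W₀, (p : V ≃ₗ[F] V) x ∈ W₀) :
    ∀ a ∈ W, ∀ b ∈ W, Q a = 0 → QuadraticMap.polar Q a b = 0 →
      ∀ x ∈ W₀, siegE Q a b x ∈ W₀ := by
  intro a ha b hb hQa hab x hx
  have hp : siegG Q a b ∈ M := siegG_mem_left hd M hPM ha hb hQa hab
  have h1 : QuadraticMap.polar Q u a = 0 := by
    rw [QuadraticMap.polar_comm]
    exact hd.perp a ha u hu
  have h2 : QuadraticMap.polar Q u b = 0 := by
    rw [QuadraticMap.polar_comm]
    exact hd.perp b hb u hu
  refine hinv _ hp ?_ (siegE_fix Q h1 h2) x hx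
  intro y hy
  rw [siegG_val, siegE_apply Q hQa hab, sieg_apply]
  exact W.sub_mem (W.sub_mem (W.add_mem hy (W.smul_mem _ ha)) (W.smul_mem _ hb)) (W.smul_mem _ ha)

variable [Finite F] [FiniteDimensional F V]

theorem irrAt_of_four (h4 : 4 ≤ finrank F W) {u : V} (hu : u ∈ U) : IrrAt M W u := by
  intro W₀ hW₀ hne hinv
  exact irr hd h4 W₀ hW₀ hne (inv_siegE_of_inv hd M hPM hu hinv)

omit hPM in
theorem irrAt_of_one (h1 : finrank F W = 1) (u : V) : IrrAt M W u := by
  intro W₀ hW₀ hne _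
  apply Submodule.eq_of_le_of_finrank_le hW₀
  rw [h1]
  by_contra hlt
  push Not at hlt
  have : finrank F W₀ = 0 := by omega
  exact hne (Submodule.finrank_eq_zero.mp this)

/-- dimension three (odd characteristic). -/
theorem irrAt_of_three (h3 : finrank F W = 3) (h2 : (2 : F) ≠ 0) {u : V} (hu : u ∈ U) :
    IrrAt M W u := by
  intro W₀ hW₀ hne hinv
  have hs := inv_siegE_of_inv hd M hPM hu hinv
  apply le_antisymm hW₀
  obtain ⟨w₀, hw₀, hw₀0⟩ := (Submodule.ne_bot_iff W₀).mp hne
  -- a non-zero singular vector in `W₀`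
  obtain ⟨a, haW₀, ha0, hQa⟩ : ∃ a ∈ W₀, a ≠ 0 ∧ Q a = 0 := by
    by_cases hQw : Q w₀ = 0
    · exact ⟨w₀, hw₀, hw₀0, hQw⟩
    -- a singular vector of `W` not orthogonal to `w₀`
    obtain ⟨a, haW, hQa, haw⟩ : ∃ a ∈ W, Q a = 0 ∧ QuadraticMap.polar Q w₀ a ≠ 0 := by
      by_contra hcon
      push Not at hcon
      apply hw₀0
      apply hd.ndW w₀ (hW₀ hw₀)
      have hle := le_of_singular_le hd (by omega)
        (LinearMap.BilinForm.orthogonal (QuadraticMap.polarBilin Q) (Submodule.span F {w₀}))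
        (fun c hc hQc => by
          rw [mem_orth_iff]
          intro y hy
          obtain ⟨t, rfl⟩ := Submodule.mem_span_singleton.mp hy
          rw [QuadraticMap.polar_smul_right, QuadraticMap.polar_comm, hcon c hc hQc, smul_zero])
      intro y hy
      have := (mem_orth_iff Q _ y).mp (hle hy) w₀ (Submodule.mem_span_singleton_self w₀)
      rw [QuadraticMap.polar_comm]
      exact this
    have ha0 : a ≠ 0 := by
      rintro rfl
      rw [QuadraticMap.polar_zero_right] at haw
      exact haw rfl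
    -- a non-singular vector of `W` orthogonal to `a`
    obtain ⟨b, hbW, hab, hQb⟩ : ∃ b ∈ W, QuadraticMap.polar Q a b = 0 ∧ Q b ≠ 0 := by
      by_contra hcon
      push Not at hcon
      obtain ⟨T, hT⟩ : ∃ T : Submodule F V, T = W ⊓ LinearMap.BilinForm.orthogonal
        (QuadraticMap.polarBilin Q) (Submodule.span F {a}) := ⟨_, rfl⟩
      have hTW : T ≤ W := by rw [hT]; exact inf_le_left
      have hTd : 2 ≤ finrank F T := by
        have := finrank_inf_orth_singleton Q hd.nondeg W a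
        rw [← hT] at this
        omega
      have hTts : ∀ x ∈ T, Q x = 0 := by
        intro x hx
        rw [hT] at hx
        apply hcon x hx.1
        rw [QuadraticMap.polar_comm]
        exact (mem_orth_iff Q _ x).mp hx.2 a (Submodule.mem_span_singleton_self a)
      have hle : T ≤ W ⊓ LinearMap.BilinForm.orthogonal (QuadraticMap.polarBilin Q) T := by
        intro x hx
        exact ⟨hTW hx, (mem_orth_iff Q T x).mpr (fun y hy => polar_of_ts Q T hTts hx hy)⟩
      have h5 := Submodule.finrank_mono hle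
      have h6 := finrank_inf_orth_of_le hd.symm hTW
      omega
    have hnb : QuadraticMap.polar Q a (-b) = 0 := by
      rw [QuadraticMap.polar_neg_right, hab, neg_zero]
    have e1 := hs a haW b hbW hQa hab w₀ hw₀
    have e2 := hs a haW (-b) (W.neg_mem hbW) hQa hnb w₀ hw₀
    rw [siegE_apply Q hQa hab, sieg_apply] at e1
    rw [siegE_apply Q hQa hnb, sieg_apply, QuadraticMap.map_neg, QuadraticMap.polar_neg_right] at e2
    have e3 : (-(2 * Q b * QuadraticMap.polar Q w₀ a)) • a ∈ W₀ := by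
      have := W₀.sub_mem (W₀.sub_mem (W₀.add_mem e1 e2) hw₀) hw₀
      have heq : (w₀ + QuadraticMap.polar Q w₀ b • a - QuadraticMap.polar Q w₀ a • b
          - (Q b * QuadraticMap.polar Q w₀ a) • a
          + (w₀ + -QuadraticMap.polar Q w₀ b • a - QuadraticMap.polar Q w₀ a • -b
          - (Q b * QuadraticMap.polar Q w₀ a) • a) - w₀ - w₀)
          = (-(2 * Q b * QuadraticMap.polar Q w₀ a)) • a := by
        module
      rwa [heq] at this
    refine ⟨a, ?_, ha0, hQa⟩
    have hc : -(2 * Q b * QuadraticMap.polar Q w₀ a) ≠ 0 :=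
      neg_ne_zero.mpr (mul_ne_zero (mul_ne_zero h2 hQb) haw)
    have := W₀.smul_mem (-(2 * Q b * QuadraticMap.polar Q w₀ a))⁻¹ e3
    rwa [smul_smul, inv_mul_cancel₀ hc, one_smul] at this
  -- all singular vectors of `W` lie in `W₀`
  apply le_of_singular_le hd (by omega)
  intro c hcW hc
  by_cases hc0 : c = 0
  · rw [hc0]
    exact W₀.zero_mem
  obtain ⟨g, hg, t, ht0, hgt⟩ := exists_SGW_smul Q W hd.ndW (by omega) (hW₀ haW₀) hcW hQa hc ha0 hc0
  have hgM : g ∈ M := SGW_left_le hd M hPM hg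
  have hgW : ∀ x ∈ W, (g : V ≃ₗ[F] V) x ∈ W := by
    intro x hx
    have hU : ∀ y ∈ U, (g : V ≃ₗ[F] V) y = y := fun y hy =>
      SGW_fix Q W hg (fun w hw => by rw [QuadraticMap.polar_comm]; exact hd.perp w hw y hy)
    apply hd.symm.map_right_of_map_left g.2 (fun y hy => by rw [hU y hy]; exact hy) x hx
  have hgu : (g : V ≃ₗ[F] V) u = u :=
    SGW_fix Q W hg (fun w hw => by rw [QuadraticMap.polar_comm]; exact hd.perp w hw u hu)
  have h1 := hinv g hgM hgW hgu a haW₀
  rw [hgt] at h1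
  have := W₀.smul_mem t⁻¹ h1
  rwa [smul_smul, inv_mul_cancel₀ ht0, one_smul] at this

end

end Cfsg.Agent.Helper7.OrthNd
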