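import Mathlib
import Cfsg.Agent.Helper7.OrthNdF

set_option autoImplicit false
set_option linter.unusedSectionVars false

/-! Overgroups of the stabiliser of a non-degenerate subspace: summands of dimension two, via
products of two reflections (helper7). -/

namespace Cfsg.Agent.Helper7.OrthNd

open Module Cfsg.Agent.Helper8.QuadForm Cfsg.Agent.Helper8.WittQuad Cfsg.Agent.Helper8.OrthOrder
  Cfsg.Agent.Helper8.Siegel Cfsg.Agent.Helper8.SiegelGroup Cfsg.Agent.Helper8.SiegelGeom
  Cfsg.Agent.Helper8.Reflections Cfsg.Agent.Helper7.OrthMax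

variable {F : Type*} [Field F] {V : Type*} [AddCommGroup V] [Module F V]
  {Q : QuadraticForm F V} {W U : Submodule F V}

section

variable [Finite F] [FiniteDimensional F V] (hd : OrthDec Q W U)

include hd

/-- the vectors of `U` orthogonal to a singular vector `u ∈ U` represent every value. -/
theorem exists_repr_perp (h5 : 5 ≤ finrank F U) {u : V} (hu : u ∈ U) (hu0 : u ≠ 0)
    (hQu : Q u = 0) (c : F) : ∃ x' ∈ U, QuadraticMap.polar Q u x' = 0 ∧ Q x' = c := by
  obtain ⟨f, hf, hQf, huf⟩ := hd.symm.exists_hyp_in hu hu0 hQu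
  obtain ⟨a, haA, ha0, hQa⟩ := exists_singular_in Q
    (U ⊓ LinearMap.BilinForm.orthogonal (QuadraticMap.polarBilin Q) (Submodule.span F {u})
      ⊓ LinearMap.BilinForm.orthogonal (QuadraticMap.polarBilin Q) (Submodule.span F {f})) (by
      have h1 := finrank_inf_orth_singleton Q hd.nondeg U u
      have h2 := finrank_inf_orth_singleton Q hd.nondeg
        (U ⊓ LinearMap.BilinForm.orthogonal (QuadraticMap.polarBilin Q) (Submodule.span F {u})) f
      omega)
  obtain ⟨⟨haU, hau'⟩, haf'⟩ := haA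
  have hau : QuadraticMap.polar Q a u = 0 :=
    (mem_orth_iff Q _ a).mp hau' u (Submodule.mem_span_singleton_self u)
  have haf : QuadraticMap.polar Q a f = 0 :=
    (mem_orth_iff Q _ a).mp haf' f (Submodule.mem_span_singleton_self f)
  have hnot : a ∉ Submodule.span F {u} := by
    intro h
    obtain ⟨t, rfl⟩ := Submodule.mem_span_singleton.mp h
    rw [QuadraticMap.polar_smul_left, huf, smul_eq_mul, mul_one] at haf
    apply ha0
    rw [haf, zero_smul]
  obtain ⟨b₀, hb₀U, hub₀, hab₀⟩ := hd.symm.exists_perp_not_perp_in hu haU hnot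
  obtain ⟨b₁, hb₁⟩ : ∃ b₁ : V, b₁ = (QuadraticMap.polar Q a b₀)⁻¹ • b₀ := ⟨_, rfl⟩
  have hab₁ : QuadraticMap.polar Q a b₁ = 1 := by
    rw [hb₁, QuadraticMap.polar_smul_right, smul_eq_mul, inv_mul_cancel₀ hab₀]
  have hub₁ : QuadraticMap.polar Q u b₁ = 0 := by
    rw [hb₁, QuadraticMap.polar_smul_right, hub₀, smul_zero]
  have hb₁U : b₁ ∈ U := by rw [hb₁]; exact U.smul_mem _ hb₀U
  refine ⟨(c - Q b₁) • a + b₁, U.add_mem (U.smul_mem _ haU) hb₁U, ?_, ?_⟩
  · rw [QuadraticMap.polar_add_right, QuadraticMap.polar_smul_right, QuadraticMap.polar_comm Q u a,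
      hau, hub₁, smul_zero, add_zero]
  · rw [QuadraticMap.map_add Q, QuadraticMap.map_smul, hQa, QuadraticMap.polar_smul_left, hab₁]
    simp

end

section

variable [Finite F] [FiniteDimensional F V] (hd : OrthDec Q W U) (M : Subgroup ↥(Isom Q))
  (hPM : ∀ g ∈ SG Q, (∀ x ∈ W, (g : V ≃ₗ[F] V) x ∈ W) → g ∈ M)

include hd hPM

/-- the product of the reflections in `x ∈ W` and `x' ∈ U` of the same norm lies in `M`. -/
theorem refl_pair_mem {x x' : V} (hx : x ∈ W) (hx' : x' ∈ U) (hQx : Q x ≠ 0) (hQ : Q x = Q x')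
    (h5 : 5 ≤ finrank F V) : reflG Q x * reflG Q x' ∈ M := by
  have hne : x - x' ≠ 0 := by
    intro h
    have h1 : x = x' := sub_eq_zero.mp h
    have : x ∈ W ⊓ U := ⟨hx, by rw [h1]; exact hx'⟩
    rw [hd.inf_eq_bot] at this
    apply hQx
    rw [(Submodule.mem_bot F).mp this, QuadraticMap.map_zero]
  have hSG : reflG Q x * reflG Q x' ∈ SG Q := by
    rcases exists_siegel_move Q hd.nondeg h5 hQ hne with ⟨μ, hμ⟩ | ⟨k, hk, hkx⟩
    · exfalso
      have h1 : (1 - μ) • x = -(μ • x') := by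
        have : x = μ • x - μ • x' := by rw [← smul_sub]; exact hμ
        rw [sub_smul, one_smul]
        rw [sub_eq_iff_eq_add]
        rw [neg_add_eq_sub]
        exact this
      have h2 : (1 - μ) • x ∈ W ⊓ U := ⟨W.smul_mem _ hx, by rw [h1]; exact U.neg_mem (U.smul_mem _ hx')⟩
      rw [hd.inf_eq_bot, Submodule.mem_bot] at h2
      have hx0 : x ≠ 0 := by
        rintro rfl
        exact hQx (QuadraticMap.map_zero Q)
      have hμ1 : μ = 1 := by
        rcases smul_eq_zero.mp h2 with h | h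
        · exact (sub_eq_zero.mp h).symm
        · exact absurd h hx0
      rw [hμ1, sub_self, zero_smul, one_smul] at h1
      have hx'0 : x' = 0 := neg_eq_zero.mp h1.symm
      apply hQx
      rw [hQ, hx'0, QuadraticMap.map_zero]
    · have h1 : reflG Q x' = k * reflG Q x * k⁻¹ := by rw [reflG_conj, hkx]
      have h2 : reflG Q x * reflG Q x' = (reflG Q x * k * (reflG Q x)⁻¹) * k⁻¹ := by
        rw [h1, reflG_inv]
        group
      rw [h2]
      exact (SG Q).mul_mem (conj_mem_SG Q hk (reflG Q x)) ((SG Q).inv_mem hk)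
  apply hPM _ hSG
  intro y hy
  show refl Q x (refl Q x' y) ∈ W
  rw [refl_of_perp Q (z := x') (x := y) (by rw [QuadraticMap.polar_comm]; exact hd.perp y hy x' hx'),
    refl_apply]
  exact W.sub_mem hy (W.smul_mem _ hx)

/-- dimension two, under a richness hypothesis on the non-singular vectors. -/
theorem irrAt_of_two (h2 : finrank F W = 2) (h5 : 5 ≤ finrank F U) {u : V} (hu : u ∈ U)
    (hu0 : u ≠ 0) (hQu : Q u = 0)
    (hrich : ∀ w₀ ∈ W, w₀ ≠ 0 → ∃ x ∈ W, Q x ≠ 0 ∧ QuadraticMap.polar Q w₀ x ≠ 0 ∧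
      x ∉ Submodule.span F {w₀}) : IrrAt M W u := by
  intro W₀ hW₀ hne hinv
  obtain ⟨w₀, hw₀, hw₀0⟩ := (Submodule.ne_bot_iff W₀).mp hne
  obtain ⟨x, hxW, hQx, hwx, hxn⟩ := hrich w₀ (hW₀ hw₀) hw₀0
  obtain ⟨x', hx'U, hux', hQx'⟩ := exists_repr_perp hd h5 hu hu0 hQu (Q x)
  have hV5 : 5 ≤ finrank F V := by
    have := Submodule.finrank_le U
    omega
  have hρ := refl_pair_mem hd M hPM hxW hx'U hQx hQx'.symm hV5
  have hρW : ∀ y ∈ W, ((reflG Q x * reflG Q x' : ↥(Isom Q)) : V ≃ₗ[F] V) y ∈ W := by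
    intro y hy
    show refl Q x (refl Q x' y) ∈ W
    rw [refl_of_perp Q (z := x') (x := y)
      (by rw [QuadraticMap.polar_comm]; exact hd.perp y hy x' hx'U), refl_apply]
    exact W.sub_mem hy (W.smul_mem _ hxW)
  have hρu : ((reflG Q x * reflG Q x' : ↥(Isom Q)) : V ≃ₗ[F] V) u = u := by
    show refl Q x (refl Q x' u) = u
    rw [refl_of_perp Q (z := x') (x := u) (by rw [QuadraticMap.polar_comm]; exact hux'),
      refl_of_perp Q (hd.perp x hxW u hu)]
  have h1 := hinv _ hρ hρW hρu w₀ hw₀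
  have h1' : refl Q x (refl Q x' w₀) ∈ W₀ := h1
  rw [refl_of_perp Q (z := x') (x := w₀)
    (by rw [QuadraticMap.polar_comm]; exact hd.perp w₀ (hW₀ hw₀) x' hx'U), refl_apply] at h1'
  have hxW₀ : x ∈ W₀ := by
    have h3 : (QuadraticMap.polar Q x w₀ / Q x) • x ∈ W₀ := by
      have := W₀.sub_mem hw₀ h1'
      rwa [sub_sub_cancel] at this
    have hc : QuadraticMap.polar Q x w₀ / Q x ≠ 0 := by
      apply div_ne_zero _ hQx
      rw [QuadraticMap.polar_comm]
      exact hwx
    have := W₀.smul_mem (QuadraticMap.polar Q x w₀ / Q x)⁻¹ h3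
    rwa [smul_smul, inv_mul_cancel₀ hc, one_smul] at this
  apply Submodule.eq_of_le_of_finrank_le hW₀
  rw [h2]
  have hlt : Submodule.span F {w₀} < W₀ := by
    refine lt_of_le_of_ne ((Submodule.span_singleton_le_iff_mem w₀ W₀).mpr hw₀) fun h => hxn ?_
    rw [h]
    exact hxW₀
  have := Submodule.finrank_lt_finrank_of_lt hlt
  rw [finrank_span_singleton hw₀0] at this
  omega

end

end Cfsg.Agent.Helper7.OrthNd
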