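import Mathlib
import Cfsg.Agent.Helper7.OrthNdG
import Cfsg.Agent.Helper8.AltRank

set_option autoImplicit false
set_option linter.unusedSectionVars false

/-! Overgroups of the stabiliser of a non-degenerate subspace: the decomposition `V = W ⟂ W^⊥`,
richness of planes, and the dichotomy with a small summand (helper7). -/

namespace Cfsg.Agent.Helper7.OrthNd

open Module Cfsg.Agent.Helper8.QuadForm Cfsg.Agent.Helper8.WittQuad Cfsg.Agent.Helper8.OrthOrder
  Cfsg.Agent.Helper8.Siegel Cfsg.Agent.Helper8.SiegelGroup Cfsg.Agent.Helper8.SiegelGeom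
  Cfsg.Agent.Helper8.Reflections Cfsg.Agent.Helper7.OrthMax

variable {F : Type*} [Field F] {V : Type*} [AddCommGroup V] [Module F V]

/-- the decomposition `V = W ⟂ W^⊥` for a non-degenerate subspace `W`. -/
theorem orthDec_of_nondegOn [FiniteDimensional F V] (Q : QuadraticForm F V) (hQ : Nondeg Q)
    {W : Submodule F V} (hW : NondegOn Q W) :
    OrthDec Q W (LinearMap.BilinForm.orthogonal (QuadraticMap.polarBilin Q) W) := by
  have hB : (QuadraticMap.polarBilin Q).Nondegenerate := (nondeg_iff Q).mpr hQ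
  have hinf : W ⊓ LinearMap.BilinForm.orthogonal (QuadraticMap.polarBilin Q) W = ⊥ := by
    rw [eq_bot_iff]
    rintro x ⟨hxW, hxO⟩
    rw [Submodule.mem_bot]
    exact hW x hxW ((mem_orth_iff Q W x).mp hxO)
  have hsup : W ⊔ LinearMap.BilinForm.orthogonal (QuadraticMap.polarBilin Q) W = ⊤ := by
    apply Submodule.eq_top_of_finrank_eq
    have h1 := Submodule.finrank_sup_add_finrank_inf_eq W
      (LinearMap.BilinForm.orthogonal (QuadraticMap.polarBilin Q) W)
    have h2 := LinearMap.BilinForm.finrank_orthogonal hB W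
    rw [hinf, finrank_bot] at h1
    have h3 := Submodule.finrank_le W
    omega
  refine ⟨?_, hsup, hW, ?_⟩
  · intro w hw u hu
    rw [QuadraticMap.polar_comm]
    exact (mem_orth_iff Q W u).mp hu w hw
  · intro u hu hperp
    apply hQ u
    intro v
    have : v ∈ W ⊔ LinearMap.BilinForm.orthogonal (QuadraticMap.polarBilin Q) W := by
      rw [hsup]; trivial
    obtain ⟨w, hw, u', hu', rfl⟩ := Submodule.mem_sup.mp this
    rw [QuadraticMap.polar_add_right, (mem_orth_iff Q W u).mp hu w hw, hperp u' hu', add_zero]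

/-- a subspace of odd dimension on which the polar form is non-degenerate: the characteristic
is odd. -/
theorem two_ne_zero_of_odd_finrank [FiniteDimensional F V] (Q : QuadraticForm F V)
    {W : Submodule F V} (hW : NondegOn Q W) (hodd : Odd (finrank F W)) : (2 : F) ≠ 0 := by
  intro h2
  have hnd : Nondeg (Q.comp W.subtype) := (nondeg_comp_subtype_iff Q W).mpr hW
  obtain ⟨r, hr⟩ := Cfsg.Agent.Helper8.AltRank.exists_finrank_eq'
    (QuadraticMap.polarBilin (Q.comp W.subtype)) (by
      intro x
      show QuadraticMap.polar (Q.comp W.subtype) x x = 0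
      rw [polar_self', h2, zero_mul])
  have hker : LinearMap.ker (QuadraticMap.polarBilin (Q.comp W.subtype)) = ⊥ := by
    rw [LinearMap.ker_eq_bot']
    intro x hx
    apply hnd x
    intro y
    have := LinearMap.congr_fun hx y
    exact this
  rw [hker, finrank_bot] at hr
  obtain ⟨s, hs⟩ := hodd
  omega

section rich

variable {Q : QuadraticForm F V} {W U : Submodule F V} [FiniteDimensional F V]
  (hd : OrthDec Q W U)

include hd

/-- a second basis vector of a non-degenerate plane. -/
theorem exists_second (h2 : finrank F W = 2) {w₀ : V} (hw₀ : w₀ ∈ W) (hw₀0 : w₀ ≠ 0) :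
    ∃ z ∈ W, (∀ t : F, z + t • w₀ ∉ Submodule.span F {w₀}) ∧
      (QuadraticMap.polar Q w₀ z ≠ 0 ∨ 2 * Q w₀ ≠ 0) := by
  have hle : Submodule.span F {w₀} ≤ W := (Submodule.span_singleton_le_iff_mem w₀ W).mpr hw₀
  have hf1 : finrank F ↥(Submodule.span F {w₀}) = 1 := finrank_span_singleton hw₀0
  obtain ⟨z, hzW, hzn⟩ := Cfsg.Agent.Helper8.MaxSingular.exists_mem_not_mem
    (A := Submodule.span F {w₀}) (C := W) (by omega)
  refine ⟨z, hzW, fun t h => hzn ?_, ?_⟩
  · have := Submodule.sub_mem _ h (Submodule.smul_mem _ t (Submodule.mem_span_singleton_self w₀))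
    rwa [add_sub_cancel_right] at this
  · by_contra hcon
    push Not at hcon
    obtain ⟨hp, hq⟩ := hcon
    apply hw₀0
    apply hd.ndW w₀ hw₀
    intro y hy
    have hsup := Cfsg.Agent.Helper8.MaxSingular.sup_span_singleton_eq hle (by omega) hzW hzn
    rw [← hsup] at hy
    obtain ⟨a, ha, b, hb, rfl⟩ := Submodule.mem_sup.mp hy
    obtain ⟨s, rfl⟩ := Submodule.mem_span_singleton.mp ha
    obtain ⟨s', rfl⟩ := Submodule.mem_span_singleton.mp hb
    rw [QuadraticMap.polar_add_right, QuadraticMap.polar_smul_right, QuadraticMap.polar_smul_right,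
      polar_self', hq, hp]
    simp

/-- **richness of a non-degenerate plane**: anisotropic, or over a field with at least four
elements. -/
theorem rich [Fintype F] (h2 : finrank F W = 2)
    (h : 4 ≤ Fintype.card F ∨ ∀ x ∈ W, Q x = 0 → x = 0) :
    ∀ w₀ ∈ W, w₀ ≠ 0 → ∃ x ∈ W, Q x ≠ 0 ∧ QuadraticMap.polar Q w₀ x ≠ 0 ∧
      x ∉ Submodule.span F {w₀} := by
  intro w₀ hw₀ hw₀0
  obtain ⟨z, hzW, hzn, hpc⟩ := exists_second hd h2 hw₀ hw₀0
  have hxW : ∀ t : F, z + t • w₀ ∈ W := fun t => W.add_mem hzW (W.smul_mem t hw₀)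
  have hpol : ∀ t : F, QuadraticMap.polar Q w₀ (z + t • w₀)
      = QuadraticMap.polar Q w₀ z + 2 * Q w₀ * t := by
    intro t
    rw [QuadraticMap.polar_add_right, QuadraticMap.polar_smul_right, polar_self', smul_eq_mul]
    ring
  have hQt : ∀ t : F, Q (z + t • w₀)
      = Q z + QuadraticMap.polar Q w₀ z * t + Q w₀ * t ^ 2 := by
    intro t
    rw [QuadraticMap.map_add Q, QuadraticMap.map_smul, QuadraticMap.polar_smul_right,
      QuadraticMap.polar_comm Q z w₀, smul_eq_mul, smul_eq_mul]
    ring
  -- it suffices to find a good parameter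
  suffices hex : ∃ t : F, QuadraticMap.polar Q w₀ z + 2 * Q w₀ * t ≠ 0 ∧
      Q z + QuadraticMap.polar Q w₀ z * t + Q w₀ * t ^ 2 ≠ 0 by
    obtain ⟨t, ht1, ht2⟩ := hex
    exact ⟨z + t • w₀, hxW t, by rw [hQt]; exact ht2, by rw [hpol]; exact ht1, hzn t⟩
  rcases h with h | h
  · -- a polynomial of degree at most three
    obtain ⟨p, hp⟩ : ∃ p : F, p = QuadraticMap.polar Q w₀ z := ⟨_, rfl⟩
    obtain ⟨c, hc⟩ : ∃ c : F, c = Q w₀ := ⟨_, rfl⟩
    obtain ⟨a, ha⟩ : ∃ a : F, a = Q z := ⟨_, rfl⟩
    rw [← hp, ← hc] at hpc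
    rw [← hp, ← hc, ← ha]
    obtain ⟨f, hf⟩ : ∃ f : Polynomial F, f = (Polynomial.C p + Polynomial.C (2 * c) * Polynomial.X)
      * (Polynomial.C a + Polynomial.C p * Polynomial.X + Polynomial.C c * Polynomial.X ^ 2) :=
      ⟨_, rfl⟩
    have hdeg : f.natDegree ≤ 3 := by
      rw [hf]
      compute_degree
    have hf0 : f ≠ 0 := by
      rw [hf]
      apply mul_ne_zero
      · intro h0
        have e0 := congrArg (fun g => Polynomial.coeff g 0) h0
        have e1 := congrArg (fun g => Polynomial.coeff g 1) h0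
        simp at e0 e1
        rcases hpc with hpc | hpc
        · exact hpc e0
        · exact hpc (mul_eq_zero.mpr e1)
      · intro h0
        have e0 := congrArg (fun g => Polynomial.coeff g 0) h0
        have e1 := congrArg (fun g => Polynomial.coeff g 1) h0
        have e2 := congrArg (fun g => Polynomial.coeff g 2) h0
        simp at e0 e1 e2
        rcases hpc with hpc | hpc
        · exact hpc e1
        · apply hpc
          rw [e2, mul_zero]
    by_contra hcon
    push Not at hcon
    apply hf0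
    apply Polynomial.eq_zero_of_natDegree_lt_card_of_eval_eq_zero' f Finset.univ
    · intro t _
      rw [hf]
      simp only [Polynomial.eval_mul, Polynomial.eval_add, Polynomial.eval_C, Polynomial.eval_X,
        Polynomial.eval_pow]
      by_cases h1 : p + 2 * c * t = 0
      · rw [h1, zero_mul]
      · rw [hcon t h1, mul_zero]
    · rw [Finset.card_univ]
      omega
  · have hne : ∀ t : F, Q z + QuadraticMap.polar Q w₀ z * t + Q w₀ * t ^ 2 ≠ 0 := by
      intro t h0
      rw [← hQt] at h0
      have := h _ (hxW t) h0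
      apply hzn t
      rw [this]
      exact Submodule.zero_mem _
    by_cases hp : QuadraticMap.polar Q w₀ z = 0
    · refine ⟨1, ?_, hne 1⟩
      rw [hp, zero_add, mul_one]
      rcases hpc with hpc | hpc
      · exact absurd hp hpc
      · exact hpc
    · refine ⟨0, ?_, hne 0⟩
      rw [mul_zero, add_zero]
      exact hp

end rich

end Cfsg.Agent.Helper7.OrthNd
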