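import Mathlib
import Cfsg.Agent.Helper7.OrthNdH

set_option autoImplicit false
set_option linter.unusedSectionVars false

/-! The stabiliser of a non-degenerate subspace is maximal in `Ω(Q)`: the general statement
(helper7). -/

namespace Cfsg.Agent.Helper7.OrthNd

open Module Cfsg.Agent.Helper8.QuadForm Cfsg.Agent.Helper8.WittQuad Cfsg.Agent.Helper8.OrthOrder
  Cfsg.Agent.Helper8.Siegel Cfsg.Agent.Helper8.SiegelGroup Cfsg.Agent.Helper8.SiegelGeom
  Cfsg.Agent.Helper8.ReflMatrix Cfsg.Agent.Helper8.OmegaSimple Cfsg.Agent.Helper7.OrthMax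

section

variable {F : Type*} [Field F] {V : Type*} [AddCommGroup V] [Module F V]
  {Q : QuadraticForm F V} {W U : Submodule F V}
  [Finite F] [FiniteDimensional F V] (hd : OrthDec Q W U) (M : Subgroup ↥(Isom Q))
  (hPM : ∀ g ∈ SG Q, (∀ x ∈ W, (g : V ≃ₗ[F] V) x ∈ W) → g ∈ M)

include hd hPM in
/-- **The dichotomy** for the stabiliser of a non-degenerate subspace, under the invariance
hypothesis. -/
theorem nd_stab_or_top' (h7 : 7 ≤ finrank F U)
    (hswap : ∀ g ∈ Isom Q, ¬ ∀ x ∈ U, (g : V ≃ₗ[F] V) x ∈ W)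
    (hirr : ∀ u ∈ U, u ≠ 0 → Q u = 0 → IrrAt M W u) :
    (∀ g ∈ M, ∀ x ∈ U, (g : V ≃ₗ[F] V) x ∈ U) ∨ SG Q ≤ M := by
  by_cases hall : ∀ g ∈ M, ∀ x ∈ U, (g : V ≃ₗ[F] V) x ∈ U
  · exact Or.inl hall
  right
  push Not at hall
  obtain ⟨g, hgM, hg⟩ := hall
  obtain ⟨u, huU, hu0, hQu, z, huz, hzU, hz⟩ := exists_mixed hd M hPM h7 hswap hgM
    (by push Not; exact hg)
  have hR := RS_of_mixed' hd M hPM huU hQu huz hzU hz (hirr u huU hu0 hQu)
  exact top_of_RS_right hd M hPM (by omega) huU hu0 hR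

include hd in
/-- no isometry maps the larger summand into the smaller one. -/
theorem no_swap_of_lt (hlt : finrank F W < finrank F U) :
    ∀ g ∈ Isom Q, ¬ ∀ x ∈ U, (g : V ≃ₗ[F] V) x ∈ W := by
  intro g _ hmap
  have hle : U.map ((g : V ≃ₗ[F] V) : V →ₗ[F] V) ≤ W := by
    rintro _ ⟨x, hx, rfl⟩
    exact hmap x hx
  have h1 := Submodule.finrank_mono hle
  rw [LinearEquiv.finrank_map_eq] at h1
  omega

include hd hPM in
/-- the invariance hypothesis, by cases on the dimension of the small summand. -/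
theorem irrAt_of_small [Fintype F] (hW0 : W ≠ ⊥) (h5 : 5 ≤ finrank F U)
    (hani : finrank F W = 2 → 4 ≤ Fintype.card F ∨ ∀ x ∈ W, Q x = 0 → x = 0)
    {u : V} (hu : u ∈ U) (hu0 : u ≠ 0) (hQu : Q u = 0) : IrrAt M W u := by
  have hpos : 0 < finrank F W := by
    rw [Nat.pos_iff_ne_zero]
    intro h
    exact hW0 (Submodule.finrank_eq_zero.mp h)
  by_cases h4 : 4 ≤ finrank F W
  · exact irrAt_of_four hd M hPM h4 hu
  by_cases h1 : finrank F W = 1
  · exact irrAt_of_one hd M h1 u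
  by_cases h2 : finrank F W = 2
  · exact irrAt_of_two hd M hPM h2 h5 hu hu0 hQu (rich hd h2 (hani h2))
  have h3 : finrank F W = 3 := by omega
  exact irrAt_of_three hd M hPM h3
    (two_ne_zero_of_odd_finrank Q hd.ndW (by rw [h3]; exact ⟨1, rfl⟩)) hu

end

variable {F : Type*} [Field F] [Fintype F] {ι : Type} [Fintype ι] [DecidableEq ι]
  (Q : QuadraticForm F (ι → F))

/-- **Maximality**, given a subgroup of `GL` cutting out the stabiliser of `U`, under the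
invariance hypothesis. -/
theorem nd_maximal_aux' (hQ : (QuadraticMap.polarBilin Q).Nondegenerate)
    (h5 : 5 ≤ Fintype.card ι) {W U : Submodule F (ι → F)} (hd : OrthDec Q W U)
    (hW0 : W ≠ ⊥) (h7 : 7 ≤ finrank F U)
    (hswap : ∀ g ∈ Isom Q, ¬ ∀ x ∈ U, (g : (ι → F) ≃ₗ[F] (ι → F)) x ∈ W)
    (hirr : ∀ M : Subgroup ↥(Isom Q),
      (∀ g ∈ SG Q, (∀ x ∈ W, (g : (ι → F) ≃ₗ[F] (ι → F)) x ∈ W) → g ∈ M) →
      ∀ u ∈ U, u ≠ 0 → Q u = 0 → IrrAt M W u)
    (S : Subgroup (GL ι F))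
    (hS : ∀ k : ↥(Isom Q), toGL Q k ∈ S ↔ ∀ x ∈ U, (k : (ι → F) ≃ₗ[F] (ι → F)) x ∈ U) :
    Cfsg.Geo.IsMaximalIn (Cfsg.Geo.omegaGL ⇑Q) (S ⊓ Cfsg.Geo.omegaGL ⇑Q) := by
  refine ⟨lt_of_le_not_ge inf_le_right ?_, ?_⟩
  · intro hle
    obtain ⟨g, hg, hgU⟩ := exists_not_stab_nd hd (by omega) hW0
    exact hgU ((hS g).mp (hle (toGL_mem_omegaGL Q hQ h5 hg)).1)
  · intro M hPM hMG
    have hPM' : ∀ g ∈ SG Q, (∀ x ∈ W, (g : (ι → F) ≃ₗ[F] (ι → F)) x ∈ W) →
        g ∈ M.comap (toGL Q) := by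
      intro g hg hgW
      rw [Subgroup.mem_comap]
      exact hPM ⟨(hS g).mpr (hd.map_right_of_map_left g.2 hgW), toGL_mem_omegaGL Q hQ h5 hg⟩
    have key := nd_stab_or_top' hd (M.comap (toGL Q)) hPM' h7 hswap (hirr _ hPM')
    rcases key with h | h
    · left
      apply le_antisymm _ hPM
      intro g hg
      obtain ⟨k, hk, rfl⟩ := exists_toGL_eq Q hQ h5 (hMG hg)
      exact ⟨(hS k).mpr (h k (Subgroup.mem_comap.mpr hg)), hMG hg⟩
    · right
      apply le_antisymm hMG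
      intro g hg
      obtain ⟨k, hk, rfl⟩ := exists_toGL_eq Q hQ h5 hg
      exact Subgroup.mem_comap.mp (h hk)

/-- membership in the stabiliser of the first summand, in terms of the second. -/
theorem toGL_mem_stab_left {W U : Submodule F (ι → F)} (hd : OrthDec Q W U) (k : ↥(Isom Q)) :
    toGL Q k ∈ Cfsg.Geo.subspaceStabilizer W ↔
      ∀ x ∈ U, (k : (ι → F) ≃ₗ[F] (ι → F)) x ∈ U := by
  rw [toGL_mem_stab]
  constructor
  · intro h
    exact hd.map_right_of_map_left k.2 (fun x hx => (h x).mp hx)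
  · intro h v
    exact mapsTo_iff _ W (hd.symm.map_right_of_map_left k.2 h) v

theorem toGL_mem_stab_right {W U : Submodule F (ι → F)} (hd : OrthDec Q W U) (k : ↥(Isom Q)) :
    toGL Q k ∈ Cfsg.Geo.subspaceStabilizer U ↔
      ∀ x ∈ U, (k : (ι → F) ≃ₗ[F] (ι → F)) x ∈ U := by
  rw [toGL_mem_stab]
  constructor
  · intro h x hx
    exact (h x).mp hx
  · intro h v
    exact mapsTo_iff _ U h v

/-- **Maximality** of the stabiliser of a decomposition with a small summand: both descriptions. -/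
theorem nd_maximal_small (hQ : (QuadraticMap.polarBilin Q).Nondegenerate)
    (h13 : 13 ≤ Fintype.card ι) {W U : Submodule F (ι → F)} (hd : OrthDec Q W U)
    (hW0 : W ≠ ⊥) (hlt : finrank F W < finrank F U)
    (hani : finrank F W = 2 → 4 ≤ Fintype.card F ∨ ∀ x ∈ W, Q x = 0 → x = 0)
    (S : Subgroup (GL ι F))
    (hS : ∀ k : ↥(Isom Q), toGL Q k ∈ S ↔ ∀ x ∈ U, (k : (ι → F) ≃ₗ[F] (ι → F)) x ∈ U) :
    Cfsg.Geo.IsMaximalIn (Cfsg.Geo.omegaGL ⇑Q) (S ⊓ Cfsg.Geo.omegaGL ⇑Q) := by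
  have hsum := finrank_add hd
  rw [Module.finrank_pi, ] at hsum
  have h7 : 7 ≤ finrank F U := by omega
  apply nd_maximal_aux' Q hQ (by omega) hd hW0 h7 (no_swap_of_lt hd hlt) _ S hS
  intro M hPM u hu hu0 hQu
  exact irrAt_of_small hd M hPM hW0 (by omega) hani hu hu0 hQu

/-- **The stabiliser of a non-degenerate subspace is maximal in `Ω(Q)`**. -/
theorem nd_subspace_maximal (hQ : (QuadraticMap.polarBilin Q).Nondegenerate)
    (h13 : 13 ≤ Fintype.card ι) {W : Submodule F (ι → F)}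
    (hW : NondegOn Q W) (hW0 : W ≠ ⊥) (hW1 : W ≠ ⊤)
    (hswap : finrank F W = finrank F ↥(LinearMap.BilinForm.orthogonal (QuadraticMap.polarBilin Q) W)
      → ∀ g ∈ Isom Q, ¬ ∀ x ∈ LinearMap.BilinForm.orthogonal (QuadraticMap.polarBilin Q) W,
        (g : (ι → F) ≃ₗ[F] (ι → F)) x ∈ W)
    (hani : ∀ S : Submodule F (ι → F),
      (S = W ∨ S = LinearMap.BilinForm.orthogonal (QuadraticMap.polarBilin Q) W) →
      finrank F S = 2 → 4 ≤ Fintype.card F ∨ ∀ x ∈ S, Q x = 0 → x = 0) :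
    Cfsg.Geo.IsMaximalIn (Cfsg.Geo.omegaGL ⇑Q)
      (Cfsg.Geo.subspaceStabilizer W ⊓ Cfsg.Geo.omegaGL ⇑Q) := by
  have hnd : Nondeg Q := (nondeg_iff Q).mp hQ
  have hd := orthDec_of_nondegOn Q hnd hW
  obtain ⟨U, hU⟩ : ∃ U : Submodule F (ι → F),
    U = LinearMap.BilinForm.orthogonal (QuadraticMap.polarBilin Q) W := ⟨_, rfl⟩
  rw [← hU] at hd hswap hani
  have hsum := finrank_add hd
  rw [Module.finrank_pi] at hsum
  have hU0 : U ≠ ⊥ := by
    intro h
    apply hW1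
    have := hd.sup
    rwa [h, sup_bot_eq] at this
  rcases lt_trichotomy (finrank F W) (finrank F U) with hlt | heq | hgt
  · exact nd_maximal_small Q hQ h13 hd hW0 hlt (hani W (Or.inl rfl)) _ (toGL_mem_stab_left Q hd)
  · exact nd_maximal_aux Q hQ (by omega) hd (by omega) (by omega) (hswap heq) _
      (toGL_mem_stab_left Q hd)
  · exact nd_maximal_small Q hQ h13 hd.symm hU0 hgt (hani U (Or.inr rfl)) _
      (toGL_mem_stab_right Q hd.symm)

end Cfsg.Agent.Helper7.OrthNd
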