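import Mathlib
import Cfsg.Agent.Helper7.OrthNdI

set_option autoImplicit false
set_option linter.unusedSectionVars false

/-! The stabiliser of a non-degenerate subspace is maximal in `Ω(Q)`: the frozen predicates
(helper7). -/

namespace Cfsg.Agent.Helper7.OrthNd

open Module Cfsg.Agent.Helper8.QuadForm Cfsg.Agent.Helper8.WittQuad Cfsg.Agent.Helper8.OrthOrder
  Cfsg.Agent.Helper8.Siegel Cfsg.Agent.Helper8.SiegelGroup Cfsg.Agent.Helper8.SiegelGeom
  Cfsg.Agent.Helper8.ReflMatrix Cfsg.Agent.Helper8.OmegaSimple Cfsg.Agent.Helper7.OrthMax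

variable {F : Type*} [Field F] {ι : Type} [Fintype ι] [DecidableEq ι]
  (Q : QuadraticForm F (ι → F))

/-- from `NondegOn` to the frozen non-degeneracy predicate. -/
theorem frozen_of_nondegOn {W : Submodule F (ι → F)} (h : NondegOn Q W) :
    Cfsg.Geo.IsNondegenerateOn (QuadraticMap.polar ⇑Q) W := by
  intro w hw hw0
  have : ∃ x ∈ W, QuadraticMap.polar Q w x ≠ 0 := by
    by_contra hcon
    push Not at hcon
    exact hw0 (h w hw hcon)
  obtain ⟨x, hx, hwx⟩ := this
  exact ⟨⟨x, hx, by rw [QuadraticMap.polar_comm]; exact hwx⟩, ⟨x, hx, hwx⟩⟩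

/-- a plane which is not of plus type is anisotropic. -/
theorem aniso_of_not_plus {S : Submodule F (ι → F)} (h2 : finrank F S = 2)
    (h : ¬ Cfsg.Geo.IsPlusTypeOn ⇑Q S) : ∀ x ∈ S, Q x = 0 → x = 0 := by
  intro x hx hQx
  by_contra hx0
  apply h
  refine ⟨Submodule.span F {x}, (Submodule.span_singleton_le_iff_mem x S).mpr hx, ?_, ?_⟩
  · intro w hw
    obtain ⟨c, rfl⟩ := Submodule.mem_span_singleton.mp hw
    show Q (c • x) = 0
    rw [QuadraticMap.map_smul, hQx, smul_zero]
  · rw [finrank_span_singleton hx0, h2]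

variable [Fintype F]

/-- **The stabiliser of a non-degenerate subspace is maximal in `Ω(Q)`**, with the exclusions of
the even-dimensional statements. -/
theorem nd_subspace_maximal_frozen (hQ : (QuadraticMap.polarBilin Q).Nondegenerate)
    (h13 : 13 ≤ Fintype.card ι) {N : ℕ} (hN : Fintype.card ι = N) {W : Submodule F (ι → F)}
    (hW : Cfsg.Geo.IsNondegenerateOn (QuadraticMap.polar ⇑Q) W) (hW0 : W ≠ ⊥) (hW1 : W ≠ ⊤)
    (hswap : 2 * finrank F W = N → ∀ g ∈ Isom Q,
      ¬ ∀ x ∈ LinearMap.BilinForm.orthogonal (QuadraticMap.polarBilin Q) W,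
        (g : (ι → F) ≃ₗ[F] (ι → F)) x ∈ W)
    (hex : ¬ (Fintype.card F ≤ 3 ∧ (∃ U : Submodule F (ι → F), finrank F U = 2 ∧
      Cfsg.Geo.IsNondegenerateOn (QuadraticMap.polar ⇑Q) U ∧ Cfsg.Geo.IsPlusTypeOn ⇑Q U ∧
      (U = W ∨ (Cfsg.Geo.AreOrthogonalFor (QuadraticMap.polar ⇑Q) U W ∧
        finrank F U + finrank F W = N))))) :
    Cfsg.Geo.IsMaximalIn (Cfsg.Geo.omegaGL ⇑Q)
      (Cfsg.Geo.subspaceStabilizer W ⊓ Cfsg.Geo.omegaGL ⇑Q) := by
  have hWn := nondegOn_of_frozen Q hW
  have hd := orthDec_of_nondegOn Q ((nondeg_iff Q).mp hQ) hWn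
  have hsum := finrank_add hd
  rw [Module.finrank_pi, hN] at hsum
  apply nd_subspace_maximal Q hQ h13 hWn hW0 hW1
  · intro heq
    exact hswap (by omega)
  · rintro S hS hS2
    by_cases h3 : Fintype.card F ≤ 3
    · right
      apply aniso_of_not_plus Q hS2
      intro hplus
      apply hex
      refine ⟨h3, S, hS2, ?_, hplus, ?_⟩
      · rcases hS with rfl | rfl
        · exact hW
        · exact frozen_of_nondegOn Q hd.ndU
      · rcases hS with rfl | rfl
        · exact Or.inl rfl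
        · right
          refine ⟨fun u hu w hw => ?_, by omega⟩
          rw [QuadraticMap.polar_comm]
          exact hd.perp w hw u hu
    · left
      omega

end Cfsg.Agent.Helper7.OrthNd
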