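import Mathlib
import Cfsg.Agent.Helper7.OrthNdJ

set_option autoImplicit false
set_option linter.unusedSectionVars false

/-! Similarities of every multiplier in even dimension (after helper8's proof of S2624, for a
general space), and the absence of an isometry exchanging the two halves of a space of minus
type (helper7). -/

namespace Cfsg.Agent.Helper7.OrthNd

open Module Cfsg.Agent.Helper8.QuadForm Cfsg.Agent.Helper8.WittQuad Cfsg.Agent.Helper8.OrthOrder
  Cfsg.Agent.Helper7.OrthMax

variable {F : Type*} [Field F] {V : Type*} [AddCommGroup V] [Module F V]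

/-- every non-zero scalar is the multiplier of a similarity, in even positive dimension. -/
theorem exists_similarity_even [Finite F] [FiniteDimensional F V] (Q : QuadraticForm F V)
    (hnd : Nondeg Q) (k : ℕ) (hV : finrank F V = 2 * (k + 1)) (c : F) (hc : c ≠ 0) :
    ∃ g : V ≃ₗ[F] V, ∀ v, Q (g v) = c * Q v := by
  classical
  rcases exists_std_family k hV Q hnd with ⟨e, f, hhyp⟩ |
    ⟨e, f, x, y, hhyp, hpx, hpy, hx, hxy, hζ⟩
  · obtain ⟨b, hb⟩ := hhyp.exists_basis Q hV
    obtain ⟨h1, h2, h3⟩ := hhyp
    have h2' : ∀ i j, QuadraticMap.polar Q (f i) (e j) = if i = j then 1 else 0 := by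
      intro i j
      rw [QuadraticMap.polar_comm, h2 j i]
      simp only [eq_comm]
    suffices key : ∃ g : V ≃ₗ[F] V,
        (∀ v, Q (g v) = c * Q v) ∧ ∀ i, g (b i) = Sum.elim (fun i => c • e i) f i by
      obtain ⟨g, hg, -⟩ := key
      exact ⟨g, hg⟩
    refine exists_similarity Q hnd b (Sum.elim (fun i => c • e i) f) hc ?_ ?_
    · rw [hb]
      rintro (i | i)
      · simp only [Sum.elim_inl, QuadraticMap.map_smul, (h1 i).1, smul_zero, mul_zero]
      · simp only [Sum.elim_inr, (h1 i).2, mul_zero]
    · rw [hb]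
      rintro (i | i) (j | j)
      · simp only [Sum.elim_inl, QuadraticMap.polar_smul_left, QuadraticMap.polar_smul_right,
          (h3 i j).1, smul_zero, mul_zero]
      · simp only [Sum.elim_inl, Sum.elim_inr, QuadraticMap.polar_smul_left, smul_eq_mul]
      · simp only [Sum.elim_inl, Sum.elim_inr, QuadraticMap.polar_smul_right, smul_eq_mul]
      · simp only [Sum.elim_inr, (h3 i j).2, mul_zero]
  · obtain ⟨b, hb⟩ := exists_elliptic_basis Q hhyp (by rw [hV]; ring) hpx hpy hx hxy hζ
    obtain ⟨h1, h2, h3⟩ := hhyp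
    obtain ⟨α, β, hαβ⟩ := exists_norm_eq hζ c
    have hyx : QuadraticMap.polar Q y x = 1 := by rw [QuadraticMap.polar_comm]; exact hxy
    have hxe : ∀ i, QuadraticMap.polar Q x (e i) = 0 := fun i => by
      rw [QuadraticMap.polar_comm]; exact (hpx i).1
    have hxf : ∀ i, QuadraticMap.polar Q x (f i) = 0 := fun i => by
      rw [QuadraticMap.polar_comm]; exact (hpx i).2
    have hye : ∀ i, QuadraticMap.polar Q y (e i) = 0 := fun i => by
      rw [QuadraticMap.polar_comm]; exact (hpy i).1
    have hyf : ∀ i, QuadraticMap.polar Q y (f i) = 0 := fun i => by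
      rw [QuadraticMap.polar_comm]; exact (hpy i).2
    have hex : ∀ i, QuadraticMap.polar Q (e i) x = 0 := fun i => (hpx i).1
    have hfx : ∀ i, QuadraticMap.polar Q (f i) x = 0 := fun i => (hpx i).2
    have hey : ∀ i, QuadraticMap.polar Q (e i) y = 0 := fun i => (hpy i).1
    have hfy : ∀ i, QuadraticMap.polar Q (f i) y = 0 := fun i => (hpy i).2
    have h2' : ∀ i j, QuadraticMap.polar Q (f i) (e j) = if i = j then 1 else 0 := by
      intro i j
      rw [QuadraticMap.polar_comm, h2 j i]
      simp only [eq_comm]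
    suffices key : ∃ g : V ≃ₗ[F] V,
        (∀ v, Q (g v) = c * Q v) ∧ ∀ i, g (b i) = Sum.elim (Sum.elim (fun i => c • e i) f)
        ![α • x + β • y, (-(β * Q y)) • x + (α + β) • y] i by
      obtain ⟨g, hg, -⟩ := key
      exact ⟨g, hg⟩
    refine exists_similarity Q hnd b (Sum.elim (Sum.elim (fun i => c • e i) f)
        ![α • x + β • y, (-(β * Q y)) • x + (α + β) • y]) hc ?_ ?_
    · rw [hb]
      rintro ((i | i) | i)
      · simp only [Sum.elim_inl, QuadraticMap.map_smul, (h1 i).1, smul_zero, mul_zero]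
      · simp only [Sum.elim_inl, Sum.elim_inr, (h1 i).2, mul_zero]
      · fin_cases i
        · show Q (α • x + β • y) = c * Q x
          rw [QuadraticMap.map_add Q, QuadraticMap.map_smul, QuadraticMap.map_smul, hx,
            QuadraticMap.polar_smul_left, QuadraticMap.polar_smul_right, hxy, ← hαβ]
          simp only [smul_eq_mul]
          ring
        · show Q ((-(β * Q y)) • x + (α + β) • y) = c * Q y
          rw [QuadraticMap.map_add Q, QuadraticMap.map_smul, QuadraticMap.map_smul, hx,
            QuadraticMap.polar_smul_left, QuadraticMap.polar_smul_right, hxy, ← hαβ]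
          simp only [smul_eq_mul]
          ring
    · rw [hb]
      have h3e : ∀ i j, QuadraticMap.polar Q (e i) (e j) = 0 := fun i j => (h3 i j).1
      have h3f : ∀ i j, QuadraticMap.polar Q (f i) (f j) = 0 := fun i j => (h3 i j).2
      have hxx : QuadraticMap.polar Q x x = 2 := by rw [polar_self', hx, mul_one]
      have hyy : QuadraticMap.polar Q y y = 2 * Q y := polar_self' Q y
      rintro ((i | i) | i) ((j | j) | j)
      all_goals try fin_cases i
      all_goals try fin_cases j
      all_goals
        simp only [Sum.elim_inl, Sum.elim_inr, Matrix.cons_val_zero, Matrix.cons_val_one,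
          Matrix.cons_val_fin_one, Fin.zero_eta, Fin.mk_one, Fin.isValue,
          QuadraticMap.polar_add_left, QuadraticMap.polar_add_right,
          QuadraticMap.polar_smul_left, QuadraticMap.polar_smul_right, smul_eq_mul,
          h3e, h3f, h2, h2', hex, hfx, hey, hfy, hxe, hxf, hye, hyf, hxy, hyx, hxx, hyy]
      all_goals rw [← hαβ]
      all_goals ring

/-- two isometric orthogonal halves of even dimension: the space contains a totally singular
subspace of half its dimension. -/
theorem exists_ts_of_swap [Finite F] [FiniteDimensional F V] {Q : QuadraticForm F V}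
    {W U : Submodule F V} (hd : OrthDec Q W U) (hev : Even (finrank F U))
    {g : V ≃ₗ[F] V} (hg : g ∈ Isom Q) (hmap : ∀ x ∈ U, g x ∈ W) :
    ∃ T : Submodule F V, (∀ t ∈ T, Q t = 0) ∧ finrank F T = finrank F U := by
  by_cases h0 : finrank F U = 0
  · refine ⟨⊥, fun t ht => ?_, by rw [finrank_bot, h0]⟩
    rw [(Submodule.mem_bot F).mp ht, QuadraticMap.map_zero]
  obtain ⟨k, hk⟩ : ∃ k, finrank F U = 2 * (k + 1) := by
    obtain ⟨r, hr⟩ := hev
    exact ⟨r - 1, by omega⟩
  have hnd : Nondeg (Q.comp U.subtype) := (nondeg_comp_subtype_iff Q U).mpr hd.ndU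
  have hc : (-1 : F) ≠ 0 := neg_ne_zero.mpr one_ne_zero
  obtain ⟨ψ, hψ⟩ := exists_similarity_even (Q.comp U.subtype) hnd k hk (-1) hc
  have hψ' : ∀ u : U, Q ((ψ u : U) : V) = -Q (u : V) := by
    intro u
    have := hψ u
    rw [neg_one_mul] at this
    exact this
  obtain ⟨L, hL⟩ : ∃ L : U →ₗ[F] V,
      L = U.subtype + ((g : V →ₗ[F] V).comp U.subtype).comp (ψ : U →ₗ[F] U) := ⟨_, rfl⟩
  have hLapp : ∀ u : U, L u = (u : V) + g ((ψ u : U) : V) := by
    intro u
    rw [hL]
    rfl
  have hgW : ∀ u : U, g ((ψ u : U) : V) ∈ W := fun u => hmap _ (ψ u).2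
  have hinj : Function.Injective L := by
    rw [injective_iff_map_eq_zero]
    intro u hu
    rw [hLapp] at hu
    have h1 : (u : V) = -g ((ψ u : U) : V) := eq_neg_of_add_eq_zero_left hu
    have h2 : (u : V) ∈ W ⊓ U := ⟨by rw [h1]; exact W.neg_mem (hgW u), u.2⟩
    rw [hd.inf_eq_bot] at h2
    exact Subtype.ext ((Submodule.mem_bot F).mp h2)
  refine ⟨LinearMap.range L, ?_, LinearMap.finrank_range_of_inj hinj⟩
  rintro _ ⟨u, rfl⟩
  rw [hLapp, QuadraticMap.map_add Q, hg, hψ', QuadraticMap.polar_comm,
    hd.perp _ (hgW u) _ u.2]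
  ring

end Cfsg.Agent.Helper7.OrthNd
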