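import Mathlib
import Cfsg.Agent.Helper7.OrthNdK

set_option autoImplicit false
set_option linter.unusedSectionVars false

/-! Pairs of complementary totally singular subspaces of a quadratic space: basic geometry
(helper7). -/

namespace Cfsg.Agent.Helper7.OrthPair

open Module Cfsg.Agent.Helper8.QuadForm Cfsg.Agent.Helper8.WittQuad Cfsg.Agent.Helper8.OrthOrder
  Cfsg.Agent.Helper8.Siegel Cfsg.Agent.Helper8.SiegelGroup Cfsg.Agent.Helper8.SiegelGeom
  Cfsg.Agent.Helper7.OrthMax

variable {K : Type*} [Field K] {V : Type*} [AddCommGroup V] [Module K V]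

/-- a vector outside a subspace is separated from it by the polar form. -/
theorem exists_perp_of_not_mem [FiniteDimensional K V] (Q : QuadraticForm K V) (hQ : Nondeg Q)
    {X : Submodule K V} {e : V} (h : e ∉ X) :
    ∃ z, (∀ x ∈ X, QuadraticMap.polar Q x z = 0) ∧ QuadraticMap.polar Q e z ≠ 0 := by
  have hB : (QuadraticMap.polarBilin Q).Nondegenerate := (nondeg_iff Q).mpr hQ
  by_contra hcon
  push Not at hcon
  apply h
  rw [← LinearMap.BilinForm.orthogonal_orthogonal hB (polarBilin_isRefl Q) X, mem_orth_iff]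
  intro n hn
  rw [mem_orth_iff] at hn
  apply hcon
  intro x hx
  rw [QuadraticMap.polar_comm]
  exact hn x hx

/-- a pair of complementary totally singular subspaces. -/
structure TsPair (Q : QuadraticForm K V) (E F : Submodule K V) : Prop where
  tsE : ∀ x ∈ E, Q x = 0
  tsF : ∀ x ∈ F, Q x = 0
  inf : E ⊓ F = ⊥
  sup : E ⊔ F = ⊤

namespace TsPair

variable {Q : QuadraticForm K V} {E F : Submodule K V} (hd : TsPair Q E F)

include hd

theorem symm : TsPair Q F E :=
  ⟨hd.tsF, hd.tsE, by rw [inf_comm]; exact hd.inf, by rw [sup_comm]; exact hd.sup⟩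

theorem polarE {x y : V} (hx : x ∈ E) (hy : y ∈ E) : QuadraticMap.polar Q x y = 0 :=
  polar_of_ts Q E hd.tsE hx hy

theorem polarF {x y : V} (hx : x ∈ F) (hy : y ∈ F) : QuadraticMap.polar Q x y = 0 :=
  polar_of_ts Q F hd.tsF hx hy

theorem exists_dec (x : V) : ∃ e ∈ E, ∃ f ∈ F, x = e + f := by
  have : x ∈ E ⊔ F := by rw [hd.sup]; trivial
  obtain ⟨e, he, f, hf, h⟩ := Submodule.mem_sup.mp this
  exact ⟨e, he, f, hf, h.symm⟩

/-- uniqueness of the decomposition. -/
theorem eq_of_add_eq {e e' f f' : V} (he : e ∈ E) (he' : e' ∈ E) (hf : f ∈ F) (hf' : f' ∈ F)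
    (h : e + f = e' + f') : e = e' ∧ f = f' := by
  have h1 : e - e' = f' - f := by
    rw [sub_eq_sub_iff_add_eq_add, h, add_comm]
  have h2 : e - e' ∈ E ⊓ F := ⟨E.sub_mem he he', by rw [h1]; exact F.sub_mem hf' hf⟩
  rw [hd.inf, Submodule.mem_bot] at h2
  refine ⟨sub_eq_zero.mp h2, ?_⟩
  rw [h2] at h1
  exact (sub_eq_zero.mp h1.symm).symm

theorem eq_zero_of_mem_of_mem {x : V} (hE : x ∈ E) (hF : x ∈ F) : x = 0 := by
  have : x ∈ E ⊓ F := ⟨hE, hF⟩
  rw [hd.inf] at this
  exact (Submodule.mem_bot K).mp this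

/-- a vector orthogonal to `E` lies in `E`. -/
theorem mem_E_of_perp (hQ : Nondeg Q) {z : V} (h : ∀ x ∈ E, QuadraticMap.polar Q x z = 0) :
    z ∈ E := by
  obtain ⟨e, he, f, hf, rfl⟩ := hd.exists_dec z
  have hf0 : f = 0 := by
    apply hQ
    intro y
    obtain ⟨e', he', f', hf', rfl⟩ := hd.exists_dec y
    rw [QuadraticMap.polar_add_right, hd.polarF hf hf', add_zero]
    have := h e' he'
    rw [QuadraticMap.polar_add_right, hd.polarE he' he, zero_add] at this
    rw [QuadraticMap.polar_comm]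
    exact this
  rw [hf0, add_zero]
  exact he

theorem mem_F_of_perp (hQ : Nondeg Q) {z : V} (h : ∀ x ∈ F, QuadraticMap.polar Q x z = 0) :
    z ∈ F :=
  hd.symm.mem_E_of_perp hQ h

/-- a vector of `F` separating `e ∈ E` from a subspace `A` of `E`. -/
theorem exists_dual_in [FiniteDimensional K V] (hQ : Nondeg Q) {A : Submodule K V} (hA : A ≤ E)
    {e : V} (he : e ∈ E) (hne : e ∉ A) :
    ∃ b ∈ F, (∀ x ∈ A, QuadraticMap.polar Q x b = 0) ∧ QuadraticMap.polar Q e b ≠ 0 := by
  have h1 : e ∉ A ⊔ F := by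
    intro h
    obtain ⟨a, ha, f, hf, h2⟩ := Submodule.mem_sup.mp h
    have h3 := hd.eq_of_add_eq (hA ha) he hf F.zero_mem (by rw [h2, add_zero])
    apply hne
    rw [← h3.1]
    exact ha
  obtain ⟨z, hz, hez⟩ := exists_perp_of_not_mem Q hQ h1
  refine ⟨z, hd.mem_F_of_perp hQ (fun x hx => hz x (Submodule.mem_sup_right hx)),
    fun x hx => hz x (Submodule.mem_sup_left hx), hez⟩

/-- the Siegel transformations of the pair preserve `E`. -/
theorem sieg_mem_E {a b : V} (ha : a ∈ E) (hb : b ∈ F) (hab : QuadraticMap.polar Q a b = 0)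
    {x : V} (hx : x ∈ E) : siegE Q a b x ∈ E := by
  rw [siegE_apply Q (hd.tsE a ha) hab, sieg_apply, hd.polarE hx ha, zero_smul, mul_zero, zero_smul,
    sub_zero, sub_zero]
  exact E.add_mem hx (E.smul_mem _ ha)

/-- the Siegel transformations of the pair preserve `F`. -/
theorem sieg_mem_F {a b : V} (ha : a ∈ E) (hb : b ∈ F) (hab : QuadraticMap.polar Q a b = 0)
    {x : V} (hx : x ∈ F) : siegE Q a b x ∈ F := by
  rw [siegE_apply Q (hd.tsE a ha) hab, sieg_apply, hd.polarF hx hb, zero_smul, add_zero,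
    hd.tsF b hb, zero_mul, zero_smul, sub_zero]
  exact F.sub_mem hx (F.smul_mem _ hb)

end TsPair

/-- exchanging the two singular parameters of a Siegel transformation. -/
theorem siegG_swap (Q : QuadraticForm K V) {u z : V} (hu : Q u = 0) (hz : Q z = 0)
    (huz : QuadraticMap.polar Q u z = 0) : siegG Q u z = siegG Q z (-u) := by
  apply Subtype.ext
  rw [siegG_val, siegG_val]
  apply LinearEquiv.ext
  intro x
  have hzu : QuadraticMap.polar Q z (-u) = 0 := by
    rw [QuadraticMap.polar_neg_right, QuadraticMap.polar_comm, huz, neg_zero]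
  rw [siegE_apply Q hu huz, siegE_apply Q hz hzu, sieg_apply, sieg_apply, hz,
    QuadraticMap.map_neg, hu, QuadraticMap.polar_neg_right]
  module

/-- a Siegel transformation with proportional parameters is trivial. -/
theorem siegG_self_smul (Q : QuadraticForm K V) {u : V} (hu : Q u = 0) (c : K) :
    siegG Q u (c • u) = 1 := by
  apply Subtype.ext
  rw [siegG_val]
  apply LinearEquiv.ext
  intro x
  have huu : QuadraticMap.polar Q u (c • u) = 0 := by
    rw [QuadraticMap.polar_smul_right, polar_self', hu, mul_zero, smul_zero]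
  rw [siegE_apply Q hu huu, sieg_apply, QuadraticMap.map_smul, hu, QuadraticMap.polar_smul_right]
  show _ = x
  simp only [smul_eq_mul, mul_zero, zero_mul, zero_smul, sub_zero]
  module

end Cfsg.Agent.Helper7.OrthPair
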