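import Mathlib
import Cfsg.Agent.Helper7.OrthPairA

set_option autoImplicit false
set_option linter.unusedSectionVars false

/-! Overgroups of the stabiliser of a pair of complementary totally singular subspaces: from one
extra Siegel transformation to the whole Siegel group (helper7). -/

namespace Cfsg.Agent.Helper7.OrthPair

open Module Cfsg.Agent.Helper8.QuadForm Cfsg.Agent.Helper8.WittQuad Cfsg.Agent.Helper8.OrthOrder
  Cfsg.Agent.Helper8.Siegel Cfsg.Agent.Helper8.SiegelGroup Cfsg.Agent.Helper8.SiegelGeom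
  Cfsg.Agent.Helper7.OrthMax

variable {K : Type*} [Field K] {V : Type*} [AddCommGroup V] [Module K V]
  {Q : QuadraticForm K V} {E F : Submodule K V}

section

variable (hd : TsPair Q E F) (H : Subgroup ↥(Isom Q))
  (hPM : ∀ g ∈ SG Q, (∀ x ∈ E, (g : V ≃ₗ[K] V) x ∈ E) → (∀ x ∈ F, (g : V ≃ₗ[K] V) x ∈ F) → g ∈ H)

include hd hPM in
/-- the Siegel transformations of the pair lie in `H`. -/
theorem siegG_pair_mem {a b : V} (ha : a ∈ E) (hb : b ∈ F) (hab : QuadraticMap.polar Q a b = 0) :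
    siegG Q a b ∈ H := by
  apply hPM _ (siegG_mem_SG Q (hd.tsE a ha) hab)
  · intro x hx
    rw [siegG_val]
    exact hd.sieg_mem_E ha hb hab hx
  · intro x hx
    rw [siegG_val]
    exact hd.sieg_mem_F ha hb hab hx

include hd in
/-- the vectors `e` of `E` with all `siegG a (c • e)` in `H`, for `a ∈ E`. -/
def ZE {a : V} (ha : a ∈ E) : Submodule K V where
  carrier := {e | e ∈ E ∧ ∀ c : K, siegG Q a (c • e) ∈ H}
  add_mem' := by
    rintro x y ⟨hx, hx'⟩ ⟨hy, hy'⟩
    refine ⟨E.add_mem hx hy, fun c => ?_⟩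
    rw [smul_add, ← siegG_mul Q (hd.tsE a ha) (hd.polarE ha (E.smul_mem c hx))
      (hd.polarE ha (E.smul_mem c hy))]
    exact H.mul_mem (hx' c) (hy' c)
  zero_mem' := by
    refine ⟨E.zero_mem, fun c => ?_⟩
    rw [smul_zero, siegG_zero]
    exact H.one_mem
  smul_mem' := by
    rintro t x ⟨hx, hx'⟩
    refine ⟨E.smul_mem t hx, fun c => ?_⟩
    rw [smul_smul]
    exact hx' _

include hd in
theorem self_mem_ZE {a : V} (ha : a ∈ E) : a ∈ ZE hd H ha := by
  refine ⟨ha, fun c => ?_⟩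
  rw [siegG_self_smul Q (hd.tsE a ha)]
  exact H.one_mem

include hd hPM in
/-- the `E`-component of the parameter of a Siegel transformation of `H` at `a ∈ E`. -/
theorem comp_mem_ZE {a zE zF : V} (ha : a ∈ E) (hzE : zE ∈ E) (hzF : zF ∈ F)
    (haz : QuadraticMap.polar Q a (zE + zF) = 0)
    (hz : ∀ c : K, siegG Q a (c • (zE + zF)) ∈ H) : zE ∈ ZE hd H ha := by
  have hQa := hd.tsE a ha
  have hazF : QuadraticMap.polar Q a zF = 0 := by
    rw [QuadraticMap.polar_add_right, hd.polarE ha hzE, zero_add] at haz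
    exact haz
  refine ⟨hzE, fun c => ?_⟩
  have h1 : QuadraticMap.polar Q a (c • (zE + zF)) = 0 := by
    rw [QuadraticMap.polar_smul_right, haz, smul_zero]
  have h2 : QuadraticMap.polar Q a (-(c • zF)) = 0 := by
    rw [QuadraticMap.polar_neg_right, QuadraticMap.polar_smul_right, hazF, smul_zero, neg_zero]
  have h3 : siegG Q a (c • zE) = siegG Q a (c • (zE + zF)) * siegG Q a (-(c • zF)) := by
    rw [siegG_mul Q hQa h1 h2]
    congr 1
    rw [smul_add]
    abel
  rw [h3]
  exact H.mul_mem (hz c) (siegG_pair_mem hd H hPM ha (F.neg_mem (F.smul_mem c hzF)) h2)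

include hd hPM in
/-- invariance of `ZE` under the transvections of `E` fixing `a`. -/
theorem ZE_invariant {a e a₂ b₂ : V} (ha : a ∈ E) (he : e ∈ ZE hd H ha) (ha₂ : a₂ ∈ E)
    (hb₂ : b₂ ∈ F) (hab₂ : QuadraticMap.polar Q a b₂ = 0)
    (ha₂b₂ : QuadraticMap.polar Q a₂ b₂ = 0) :
    QuadraticMap.polar Q e b₂ • a₂ ∈ ZE hd H ha := by
  have hQa₂ := hd.tsE a₂ ha₂
  have hp : siegG Q a₂ b₂ ∈ H := siegG_pair_mem hd H hPM ha₂ hb₂ ha₂b₂
  have hpa : siegE Q a₂ b₂ a = a := siegE_fix Q (hd.polarE ha ha₂) hab₂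
  have hpe : ∀ c : K, siegE Q a₂ b₂ (c • e) = c • (e + QuadraticMap.polar Q e b₂ • a₂) := by
    intro c
    rw [map_smul, siegE_apply Q hQa₂ ha₂b₂, sieg_apply, hd.polarE he.1 ha₂, zero_smul, mul_zero,
      zero_smul, sub_zero, sub_zero]
  have h1 : e + QuadraticMap.polar Q e b₂ • a₂ ∈ ZE hd H ha := by
    refine ⟨E.add_mem he.1 (E.smul_mem _ ha₂), fun c => ?_⟩
    have h2 := siegG_conj Q (siegG Q a₂ b₂) a (c • e)
    rw [siegG_val, hpa, hpe] at h2
    rw [← h2]
    exact H.mul_mem (H.mul_mem hp (he.2 c)) (H.inv_mem hp)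
  have := (ZE hd H ha).sub_mem h1 he
  rwa [add_sub_cancel_left] at this

variable [FiniteDimensional K V] (hQ : Nondeg Q)

include hd hPM hQ in
/-- `ZE` is all of `E` as soon as it contains a vector outside the line of `a`. -/
theorem ZE_eq_top {a e : V} (ha : a ∈ E) (he : e ∈ ZE hd H ha)
    (hne : e ∉ Submodule.span K {a}) : ∀ a₂ ∈ E, a₂ ∈ ZE hd H ha := by
  intro a₂ ha₂
  by_cases hmem : e ∈ Submodule.span K {a, a₂}
  · obtain ⟨α, β, hαβ⟩ := Submodule.mem_span_pair.mp hmem
    have hβ : β ≠ 0 := by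
      rintro rfl
      apply hne
      rw [zero_smul, add_zero] at hαβ
      rw [← hαβ]
      exact Submodule.smul_mem _ _ (Submodule.mem_span_singleton_self a)
    have h1 : a₂ = β⁻¹ • (e - α • a) := by
      rw [← hαβ, add_sub_cancel_left, smul_smul, inv_mul_cancel₀ hβ, one_smul]
    rw [h1]
    exact (ZE hd H ha).smul_mem _
      ((ZE hd H ha).sub_mem he ((ZE hd H ha).smul_mem _ (self_mem_ZE hd H ha)))
  · have hA : Submodule.span K {a, a₂} ≤ E := by
      rw [Submodule.span_le]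
      rintro x (rfl | rfl)
      · exact ha
      · exact ha₂
    obtain ⟨b₂, hb₂, hperp, heb₂⟩ := hd.exists_dual_in hQ hA he.1 hmem
    have h1 := ZE_invariant hd H hPM ha he ha₂ hb₂
      (hperp a (Submodule.subset_span (Set.mem_insert _ _)))
      (hperp a₂ (Submodule.subset_span (Set.mem_insert_of_mem _ rfl)))
    have := (ZE hd H ha).smul_mem (QuadraticMap.polar Q e b₂)⁻¹ h1
    rwa [smul_smul, inv_mul_cancel₀ heb₂, one_smul] at this

include hd hPM in
/-- if `ZE` is everything, the full root group at `a` lies in `H`. -/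
theorem RS_of_ZE {a : V} (ha : a ∈ E) (hZ : ∀ a₂ ∈ E, a₂ ∈ ZE hd H ha) : RS Q H a := by
  have hQa := hd.tsE a ha
  refine ⟨hQa, fun w hw => ?_⟩
  obtain ⟨e, he, f, hf, rfl⟩ := hd.exists_dec w
  have h1 : QuadraticMap.polar Q a e = 0 := hd.polarE ha he
  have h2 : QuadraticMap.polar Q a f = 0 := by
    rw [QuadraticMap.polar_add_right, h1, zero_add] at hw
    exact hw
  rw [← siegG_mul Q hQa h1 h2]
  apply H.mul_mem
  · have := (hZ e he).2 1
    rwa [one_smul] at this
  · exact siegG_pair_mem hd H hPM ha hf h2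

include hd hPM hQ in
/-- **one extra Siegel transformation at a vector of `E` gives all root groups of `E`.** -/
theorem RS_all_of_extra {a z : V} (ha : a ∈ E) (ha0 : a ≠ 0)
    (haz : QuadraticMap.polar Q a z = 0)
    (hz : ∀ c : K, siegG Q a (c • z) ∈ H) (hzn : z ∉ F ⊔ Submodule.span K {a}) :
    ∀ a' ∈ E, RS Q H a' := by
  obtain ⟨zE, hzE, zF, hzF, rfl⟩ := hd.exists_dec z
  have h1 : zE ∈ ZE hd H ha := comp_mem_ZE hd H hPM ha hzE hzF haz hz
  have h2 : zE ∉ Submodule.span K {a} := by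
    intro h
    apply hzn
    rw [add_comm]
    exact Submodule.add_mem_sup hzF h
  have hRa : RS Q H a := RS_of_ZE hd H hPM ha (ZE_eq_top hd H hPM hQ ha h1 h2)
  intro a' ha'
  by_cases hmem : a' ∈ Submodule.span K {a}
  · obtain ⟨t, rfl⟩ := Submodule.mem_span_singleton.mp hmem
    exact RS_smul Q hRa t
  · have ha'0 : a' ≠ 0 := by
      rintro rfl
      exact hmem (Submodule.zero_mem _)
    have hane : a ∉ Submodule.span K {a'} := by
      intro h
      obtain ⟨t, ht⟩ := Submodule.mem_span_singleton.mp h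
      have ht0 : t ≠ 0 := by
        rintro rfl
        rw [zero_smul] at ht
        exact ha0 ht.symm
      apply hmem
      have : a' = t⁻¹ • a := by rw [← ht, smul_smul, inv_mul_cancel₀ ht0, one_smul]
      rw [this]
      exact Submodule.smul_mem _ _ (Submodule.mem_span_singleton_self a)
    have h3 : a ∈ ZE hd H ha' := by
      refine ⟨ha, fun c => ?_⟩
      have hQa' := hd.tsE a' ha'
      have hQca : Q (c • a) = 0 := hd.tsE _ (E.smul_mem c ha)
      rw [siegG_swap Q hQa' hQca (hd.polarE ha' (E.smul_mem c ha))]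
      exact (RS_smul Q hRa c).2 _ (by
        rw [QuadraticMap.polar_neg_right, hd.polarE (E.smul_mem c ha) ha', neg_zero])
    exact RS_of_ZE hd H hPM ha' (ZE_eq_top hd H hPM hQ ha' h3 hane)

end

end Cfsg.Agent.Helper7.OrthPair
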