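import Mathlib
import Cfsg.Agent.Helper7.OrthPairB

set_option autoImplicit false
set_option linter.unusedSectionVars false

/-! Overgroups of the stabiliser of a pair of complementary totally singular subspaces: the
whole Siegel group from the root groups of a maximal totally singular subspace (helper7). -/

namespace Cfsg.Agent.Helper7.OrthPair

open Module Cfsg.Agent.Helper8.QuadForm Cfsg.Agent.Helper8.WittQuad Cfsg.Agent.Helper8.OrthOrder
  Cfsg.Agent.Helper8.Siegel Cfsg.Agent.Helper8.SiegelGroup Cfsg.Agent.Helper8.SiegelGeom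
  Cfsg.Agent.Helper7.OrthMax

variable {K : Type*} [Field K] {V : Type*} [AddCommGroup V] [Module K V]
  {Q : QuadraticForm K V}

/-- the root groups of a subspace `W` with `W^⊥ ≤ W`, together with one root group at a vector
not orthogonal to `W`, generate the Siegel group. -/
theorem top_of_RS_ts (W : Submodule K V) (M : Subgroup ↥(Isom Q))
    (hRS : ∀ u ∈ W, RS Q M u)
    (hmax : ∀ u, (∀ w ∈ W, QuadraticMap.polar Q u w = 0) → u ∈ W)
    {y w : V} (hRy : RS Q M y) (hw : w ∈ W) (hyw : QuadraticMap.polar Q y w ≠ 0) :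
    SG Q ≤ M := by
  have A1 : ∀ y', Q y' = 0 → ∀ w' ∈ W, QuadraticMap.polar Q y' w' ≠ 0 → RS Q M y' := by
    intro y' hy' w' hw' hyw'
    obtain ⟨w'', hw'', h1, h2⟩ : ∃ w'' ∈ W, QuadraticMap.polar Q w'' y ≠ 0 ∧
        QuadraticMap.polar Q w'' y' ≠ 0 := by
      by_cases h1 : QuadraticMap.polar Q y' w = 0
      · by_cases h2 : QuadraticMap.polar Q y w' = 0
        · refine ⟨w + w', W.add_mem hw hw', ?_, ?_⟩
          · rw [QuadraticMap.polar_comm, QuadraticMap.polar_add_right, h2, add_zero]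
            exact hyw
          · rw [QuadraticMap.polar_comm, QuadraticMap.polar_add_right, h1, zero_add]
            exact hyw'
        · exact ⟨w', hw', by rw [QuadraticMap.polar_comm]; exact h2,
            by rw [QuadraticMap.polar_comm]; exact hyw'⟩
      · exact ⟨w, hw, by rw [QuadraticMap.polar_comm]; exact hyw,
          by rw [QuadraticMap.polar_comm]; exact h1⟩
    obtain ⟨c, hc⟩ : ∃ c : K, c = QuadraticMap.polar Q w'' y / QuadraticMap.polar Q w'' y' :=
      ⟨_, rfl⟩
    have hc0 : c ≠ 0 := by rw [hc]; exact div_ne_zero h1 h2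
    have h3 : RS Q M (c • y') := by
      apply RS_move Q (hRS w'' hw'') hRy
        (by rw [QuadraticMap.map_smul, hy', smul_zero]) h1
      rw [QuadraticMap.polar_smul_right, smul_eq_mul, hc, div_mul_cancel₀ _ h2]
    have := RS_smul Q h3 c⁻¹
    rwa [smul_smul, inv_mul_cancel₀ hc0, one_smul] at this
  unfold SG SGW
  rw [Subgroup.closure_le]
  rintro g ⟨c, -, z, -, hc, hcz, rfl⟩
  by_cases h : ∀ w' ∈ W, QuadraticMap.polar Q c w' = 0
  · exact (hRS c (hmax c h)).2 z hcz
  · push Not at h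
    obtain ⟨w', hw', h⟩ := h
    exact (A1 c hc w' hw' h).2 z hcz

variable {E F : Submodule K V} [FiniteDimensional K V] (hd : TsPair Q E F) (hQ : Nondeg Q)
  (H : Subgroup ↥(Isom Q))
  (hPM : ∀ g ∈ SG Q, (∀ x ∈ E, (g : V ≃ₗ[K] V) x ∈ E) → (∀ x ∈ F, (g : V ≃ₗ[K] V) x ∈ F) → g ∈ H)

include hd hQ hPM in
/-- **the good case**: an extra Siegel transformation at a vector of `E` and an element exchanging
the two subspaces give the whole Siegel group. -/
theorem top_of_extra {a z : V} (ha : a ∈ E) (ha0 : a ≠ 0)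
    (haz : QuadraticMap.polar Q a z = 0) (hz : ∀ c : K, siegG Q a (c • z) ∈ H)
    (hzn : z ∉ F ⊔ Submodule.span K {a}) {w₀ : ↥(Isom Q)} (hw₀ : w₀ ∈ H)
    (hwE : ∀ x ∈ E, (w₀ : V ≃ₗ[K] V) x ∈ F) : SG Q ≤ H := by
  have hRS := RS_all_of_extra hd H hPM hQ ha ha0 haz hz hzn
  have hRy : RS Q H ((w₀ : V ≃ₗ[K] V) a) := RS_map Q hw₀ (hRS a ha)
  have hy0 : (w₀ : V ≃ₗ[K] V) a ≠ 0 := by
    intro h
    apply ha0
    have := (w₀ : V ≃ₗ[K] V).injective (h.trans (map_zero _).symm)
    exact this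
  obtain ⟨w, hw, hyw⟩ : ∃ w ∈ E, QuadraticMap.polar Q ((w₀ : V ≃ₗ[K] V) a) w ≠ 0 := by
    by_contra hcon
    push Not at hcon
    apply hy0
    apply hd.eq_zero_of_mem_of_mem _ (hwE a ha)
    apply hd.mem_E_of_perp hQ
    intro x hx
    rw [QuadraticMap.polar_comm]
    exact hcon x hx
  apply top_of_RS_ts E H hRS _ hRy hw hyw
  intro u hu
  apply hd.mem_E_of_perp hQ
  intro x hx
  rw [QuadraticMap.polar_comm]
  exact hu x hx

end Cfsg.Agent.Helper7.OrthPair
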