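import Mathlib
import Cfsg.Agent.Helper7.OrthPairC

set_option autoImplicit false
set_option linter.unusedSectionVars false

/-! Overgroups of the stabiliser of a pair of complementary totally singular subspaces: without
extra Siegel transformations the overgroup preserves the pair (helper7). -/

namespace Cfsg.Agent.Helper7.OrthPair

open Module Cfsg.Agent.Helper8.QuadForm Cfsg.Agent.Helper8.WittQuad Cfsg.Agent.Helper8.OrthOrder
  Cfsg.Agent.Helper8.Siegel Cfsg.Agent.Helper8.SiegelGroup Cfsg.Agent.Helper8.SiegelGeom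
  Cfsg.Agent.Helper8.MaxSingular Cfsg.Agent.Helper7.OrthMax Cfsg.Agent.Helper7.OrthNd

variable {K : Type*} [Field K] {V : Type*} [AddCommGroup V] [Module K V]
  {Q : QuadraticForm K V} {E F : Submodule K V} [FiniteDimensional K V]

section

variable (hd : TsPair Q E F) (hQ : Nondeg Q) (H : Subgroup ↥(Isom Q))
  (hPM : ∀ g ∈ SG Q, (∀ x ∈ E, (g : V ≃ₗ[K] V) x ∈ E) → (∀ x ∈ F, (g : V ≃ₗ[K] V) x ∈ F) → g ∈ H)
  (hbad : ∀ a ∈ E, a ≠ 0 → ∀ z, QuadraticMap.polar Q a z = 0 →
    (∀ c : K, siegG Q a (c • z) ∈ H) → z ∈ F ⊔ Submodule.span K {a})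

include hd hQ hPM hbad in
/-- **every line carrying a Siegel transformation of `H` meets `F`**. -/
theorem line_meets_F (h5 : 5 ≤ finrank K E) {a₁ b₁ : V} (ha₁ : Q a₁ = 0) (hb₁ : Q b₁ = 0)
    (hab₁ : QuadraticMap.polar Q a₁ b₁ = 0) (hs : siegG Q a₁ b₁ ∈ H) :
    ∃ α β : K, ¬ (α = 0 ∧ β = 0) ∧ α • a₁ + β • b₁ ∈ F := by
  by_contra hno'
  have hno : ∀ α β : K, ¬ (α = 0 ∧ β = 0) → α • a₁ + β • b₁ ∉ F := by
    intro α β hne h
    exact hno' ⟨α, β, hne, h⟩
  obtain ⟨a₁E, ha₁E, a₁F, ha₁F, ha₁dec⟩ := hd.exists_dec a₁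
  obtain ⟨b₁E, hb₁E, b₁F, hb₁F, hb₁dec⟩ := hd.exists_dec b₁
  -- the `E`-components are independent
  have hind : ∀ α β : K, α • a₁E + β • b₁E = 0 → α = 0 ∧ β = 0 := by
    intro α β h
    by_contra hne
    apply hno α β hne
    have : α • a₁ + β • b₁ = (α • a₁E + β • b₁E) + (α • a₁F + β • b₁F) := by
      rw [ha₁dec, hb₁dec, smul_add, smul_add]
      abel
    rw [this, h, zero_add]
    exact F.add_mem (F.smul_mem _ ha₁F) (F.smul_mem _ hb₁F)
  -- a vector of `E` orthogonal to the line, outside the span of the components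
  obtain ⟨a, haX, hanot⟩ : ∃ a ∈ E ⊓ LinearMap.BilinForm.orthogonal (QuadraticMap.polarBilin Q)
      (Submodule.span K {a₁}) ⊓ LinearMap.BilinForm.orthogonal (QuadraticMap.polarBilin Q)
      (Submodule.span K {b₁}), a ∉ Submodule.span K {a₁E, b₁E} := by
    apply exists_mem_not_mem
    have h1 := finrank_inf_orth_singleton Q hQ E a₁
    have h2 := finrank_inf_orth_singleton Q hQ
      (E ⊓ LinearMap.BilinForm.orthogonal (QuadraticMap.polarBilin Q) (Submodule.span K {a₁})) b₁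
    have h3 : finrank K ↥(Submodule.span K {a₁E, b₁E}) ≤ 2 := by
      classical
      have := finrank_span_finset_le_card (R := K) ({a₁E, b₁E} : Finset V)
      rw [Finset.coe_insert, Finset.coe_singleton] at this
      exact this.trans Finset.card_le_two
    omega
  obtain ⟨⟨haE, haa₁'⟩, hab₁'⟩ := haX
  have haa₁ : QuadraticMap.polar Q a a₁ = 0 :=
    (mem_orth_iff Q _ a).mp haa₁' a₁ (Submodule.mem_span_singleton_self a₁)
  have hab₁'' : QuadraticMap.polar Q a b₁ = 0 :=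
    (mem_orth_iff Q _ a).mp hab₁' b₁ (Submodule.mem_span_singleton_self b₁)
  have ha0 : a ≠ 0 := by
    rintro rfl
    exact hanot (Submodule.zero_mem _)
  -- a vector of `F` orthogonal to `a` and not to `a₁`
  have hne : a₁E ∉ Submodule.span K {a} := by
    intro h
    obtain ⟨t, ht⟩ := Submodule.mem_span_singleton.mp h
    by_cases ht0 : t = 0
    · rw [ht0, zero_smul] at ht
      have := hind 1 0 (by rw [one_smul, zero_smul, add_zero, ← ht])
      exact one_ne_zero this.1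
    · apply hanot
      have : a = t⁻¹ • a₁E := by rw [← ht, smul_smul, inv_mul_cancel₀ ht0, one_smul]
      rw [this]
      exact Submodule.smul_mem _ _ (Submodule.subset_span (Set.mem_insert _ _))
  obtain ⟨b, hbF, hperp, hba₁E⟩ := hd.exists_dual_in hQ
    ((Submodule.span_singleton_le_iff_mem a E).mpr haE) ha₁E hne
  have hab : QuadraticMap.polar Q a b = 0 := hperp a (Submodule.mem_span_singleton_self a)
  have hba₁ : QuadraticMap.polar Q b a₁ ≠ 0 := by
    rw [ha₁dec, QuadraticMap.polar_add_right, hd.polarF hbF ha₁F, add_zero,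
      QuadraticMap.polar_comm]
    exact hba₁E
  -- the image of `b` under the Siegel transformation
  have hsa : siegE Q a₁ b₁ a = a := siegE_fix Q haa₁ hab₁''
  have hsb : siegE Q a₁ b₁ b = b + QuadraticMap.polar Q b b₁ • a₁ - QuadraticMap.polar Q b a₁ • b₁ := by
    rw [siegE_apply Q ha₁ hab₁, sieg_apply, hb₁, zero_mul, zero_smul, sub_zero]
  have hmem : siegE Q a₁ b₁ b ∈ F ⊔ Submodule.span K {a} := by
    apply hbad a haE ha0
    · have := polar_isometry Q (siegE Q a₁ b₁) (siegE_mem Q a₁ b₁) a b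
      rw [hsa] at this
      rw [this]
      exact hab
    · intro c
      have h2 := siegG_conj Q (siegG Q a₁ b₁) a (c • b)
      rw [siegG_val, hsa, map_smul] at h2
      rw [← h2]
      exact H.mul_mem (H.mul_mem hs (siegG_pair_mem hd H hPM haE (F.smul_mem c hbF)
        (by rw [QuadraticMap.polar_smul_right, hab, smul_zero]))) (H.inv_mem hs)
  obtain ⟨f, hf, y, hy, hfy⟩ := Submodule.mem_sup.mp hmem
  obtain ⟨t, rfl⟩ := Submodule.mem_span_singleton.mp hy
  -- compare the components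
  have hcomp : (QuadraticMap.polar Q b b₁ • a₁E - QuadraticMap.polar Q b a₁ • b₁E)
      + (b + QuadraticMap.polar Q b b₁ • a₁F - QuadraticMap.polar Q b a₁ • b₁F) = t • a + f := by
    rw [add_comm (t • a) f, hfy, hsb, ha₁dec, hb₁dec, smul_add, smul_add]
    abel
  have h1 := (hd.eq_of_add_eq
    (E.sub_mem (E.smul_mem _ ha₁E) (E.smul_mem _ hb₁E)) (E.smul_mem t haE)
    (F.sub_mem (F.add_mem hbF (F.smul_mem _ ha₁F)) (F.smul_mem _ hb₁F)) hf hcomp).1
  by_cases ht0 : t = 0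
  · rw [ht0, zero_smul, sub_eq_add_neg, ← neg_smul] at h1
    have := (hind _ _ h1).2
    exact hba₁ (neg_eq_zero.mp this)
  · apply hanot
    have : a = t⁻¹ • (QuadraticMap.polar Q b b₁ • a₁E - QuadraticMap.polar Q b a₁ • b₁E) := by
      rw [h1, smul_smul, inv_mul_cancel₀ ht0, one_smul]
    rw [this]
    apply Submodule.smul_mem
    apply Submodule.sub_mem
    · exact Submodule.smul_mem _ _ (Submodule.subset_span (Set.mem_insert _ _))
    · exact Submodule.smul_mem _ _ (Submodule.subset_span (Set.mem_insert_of_mem _ rfl))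

include hd in
/-- a linear map sending a subspace into the union of `E` and `F` sends it into one of them. -/
theorem all_or_all (g : V ≃ₗ[K] V) (A : Submodule K V)
    (h : ∀ x ∈ A, g x ∈ E ∨ g x ∈ F) : (∀ x ∈ A, g x ∈ E) ∨ (∀ x ∈ A, g x ∈ F) := by
  by_contra hcon
  rw [not_or] at hcon
  obtain ⟨h1, h2⟩ := hcon
  push Not at h1 h2
  obtain ⟨x₁, hx₁, hx₁E⟩ := h1
  obtain ⟨x₂, hx₂, hx₂F⟩ := h2
  have hx₁F : g x₁ ∈ F := (h x₁ hx₁).resolve_left hx₁E
  have hx₂E : g x₂ ∈ E := (h x₂ hx₂).resolve_right hx₂F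
  rcases h (x₁ + x₂) (A.add_mem hx₁ hx₂) with h3 | h3
  · apply hx₁E
    have := E.sub_mem h3 hx₂E
    rwa [map_add, add_sub_cancel_right] at this
  · apply hx₂F
    have := F.sub_mem h3 hx₁F
    rwa [map_add, add_sub_cancel_left] at this

variable (hbadF : ∀ a ∈ F, a ≠ 0 → ∀ z, QuadraticMap.polar Q a z = 0 →
    (∀ c : K, siegG Q a (c • z) ∈ H) → z ∈ E ⊔ Submodule.span K {a})

include hd hQ hPM hbad hbadF in
/-- an element of `H` maps every vector of `E` into `E` or into `F`. -/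
theorem map_mem_union (h5E : 5 ≤ finrank K E) (h5F : 5 ≤ finrank K F) {g : ↥(Isom Q)}
    (hg : g ∈ H) {a : V} (ha : a ∈ E) :
    (g : V ≃ₗ[K] V) a ∈ E ∨ (g : V ≃ₗ[K] V) a ∈ F := by
  obtain ⟨xE, hxE, xF, hxF, hx⟩ := hd.exists_dec ((g : V ≃ₗ[K] V) a)
  by_cases hxE0 : xE = 0
  · right
    rw [hx, hxE0, zero_add]
    exact hxF
  by_cases hxF0 : xF = 0
  · left
    rw [hx, hxF0, add_zero]
    exact hxE
  exfalso
  have hPM' : ∀ g ∈ SG Q, (∀ x ∈ F, (g : V ≃ₗ[K] V) x ∈ F) → (∀ x ∈ E, (g : V ≃ₗ[K] V) x ∈ E) →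
      g ∈ H := fun g hg h1 h2 => hPM g hg h2 h1
  have hQga : Q ((g : V ≃ₗ[K] V) a) = 0 := by rw [g.2 a]; exact hd.tsE a ha
  have key : ∀ b ∈ F, QuadraticMap.polar Q a b = 0 →
      (g : V ≃ₗ[K] V) b ∈ Submodule.span K {xE, xF} := by
    intro b hb hab
    have hQgb : Q ((g : V ≃ₗ[K] V) b) = 0 := by rw [g.2 b]; exact hd.tsF b hb
    have hpol : QuadraticMap.polar Q ((g : V ≃ₗ[K] V) a) ((g : V ≃ₗ[K] V) b) = 0 := by
      rw [polar_isometry Q g g.2]
      exact hab
    have hs : siegG Q ((g : V ≃ₗ[K] V) a) ((g : V ≃ₗ[K] V) b) ∈ H := by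
      rw [← siegG_conj]
      exact H.mul_mem (H.mul_mem hg (siegG_pair_mem hd H hPM ha hb hab)) (H.inv_mem hg)
    obtain ⟨α, β, hne, hF⟩ := line_meets_F hd hQ H hPM hbad h5E hQga hQgb hpol hs
    obtain ⟨γ, δ, hne', hE⟩ := line_meets_F hd.symm hQ H hPM' hbadF h5F hQga hQgb hpol hs
    obtain ⟨yE, hyE, yF, hyF, hy⟩ := hd.exists_dec ((g : V ≃ₗ[K] V) b)
    -- components
    have e1 : (α • xE + β • yE) + (α • xF + β • yF)
        = 0 + (α • (g : V ≃ₗ[K] V) a + β • (g : V ≃ₗ[K] V) b) := by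
      rw [hx, hy, smul_add, smul_add]
      abel
    have h1 := (hd.eq_of_add_eq (E.add_mem (E.smul_mem _ hxE) (E.smul_mem _ hyE)) E.zero_mem
      (F.add_mem (F.smul_mem _ hxF) (F.smul_mem _ hyF)) hF e1).1
    have e2 : (γ • xE + δ • yE) + (γ • xF + δ • yF)
        = (γ • (g : V ≃ₗ[K] V) a + δ • (g : V ≃ₗ[K] V) b) + 0 := by
      rw [hx, hy, smul_add, smul_add]
      abel
    have h2 := (hd.eq_of_add_eq (E.add_mem (E.smul_mem _ hxE) (E.smul_mem _ hyE)) hE
      (F.add_mem (F.smul_mem _ hxF) (F.smul_mem _ hyF)) F.zero_mem e2).2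
    have hβ : β ≠ 0 := by
      rintro rfl
      rw [zero_smul, add_zero] at h1
      rcases smul_eq_zero.mp h1 with h | h
      · exact hne ⟨h, rfl⟩
      · exact hxE0 h
    have hδ : δ ≠ 0 := by
      rintro rfl
      rw [zero_smul, add_zero] at h2
      rcases smul_eq_zero.mp h2 with h | h
      · exact hne' ⟨h, rfl⟩
      · exact hxF0 h
    have hyE' : yE = (-(β⁻¹ * α)) • xE := by
      have : β • yE = -(α • xE) := eq_neg_of_add_eq_zero_right h1
      rw [neg_smul, mul_smul, ← smul_neg, ← this, smul_smul, inv_mul_cancel₀ hβ, one_smul]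
    have hyF' : yF = (-(δ⁻¹ * γ)) • xF := by
      have : δ • yF = -(γ • xF) := eq_neg_of_add_eq_zero_right h2
      rw [neg_smul, mul_smul, ← smul_neg, ← this, smul_smul, inv_mul_cancel₀ hδ, one_smul]
    rw [hy, hyE', hyF']
    apply Submodule.add_mem
    · exact Submodule.smul_mem _ _ (Submodule.subset_span (Set.mem_insert _ _))
    · exact Submodule.smul_mem _ _ (Submodule.subset_span (Set.mem_insert_of_mem _ rfl))
  have hle : (F ⊓ LinearMap.BilinForm.orthogonal (QuadraticMap.polarBilin Q)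
      (Submodule.span K {a})).map (((g : V ≃ₗ[K] V) : V ≃ₗ[K] V) : V →ₗ[K] V)
      ≤ Submodule.span K {xE, xF} := by
    rintro _ ⟨b, ⟨hbF, hbo⟩, rfl⟩
    apply key b hbF
    rw [QuadraticMap.polar_comm]
    exact (mem_orth_iff Q _ b).mp hbo a (Submodule.mem_span_singleton_self a)
  have h1 := Submodule.finrank_mono hle
  rw [LinearEquiv.finrank_map_eq] at h1
  have h2 := finrank_inf_orth_singleton Q hQ F a
  have h3 : finrank K ↥(Submodule.span K {xE, xF}) ≤ 2 := by
    classical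
    have := finrank_span_finset_le_card (R := K) ({xE, xF} : Finset V)
    rw [Finset.coe_insert, Finset.coe_singleton] at this
    exact this.trans Finset.card_le_two
  omega

include hd hQ hPM hbad hbadF in
/-- **the bad case**: every element of `H` preserves the pair. -/
theorem stab_of_bad (h5E : 5 ≤ finrank K E) (h5F : 5 ≤ finrank K F) {g : ↥(Isom Q)}
    (hg : g ∈ H) :
    ((∀ x ∈ E, (g : V ≃ₗ[K] V) x ∈ E) ∧ (∀ x ∈ F, (g : V ≃ₗ[K] V) x ∈ F)) ∨
    ((∀ x ∈ E, (g : V ≃ₗ[K] V) x ∈ F) ∧ (∀ x ∈ F, (g : V ≃ₗ[K] V) x ∈ E)) := by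
  have hPM' : ∀ g ∈ SG Q, (∀ x ∈ F, (g : V ≃ₗ[K] V) x ∈ F) → (∀ x ∈ E, (g : V ≃ₗ[K] V) x ∈ E) →
      g ∈ H := fun g hg h1 h2 => hPM g hg h2 h1
  have hE := all_or_all hd (g : V ≃ₗ[K] V) E
    (fun x hx => map_mem_union hd hQ H hPM hbad hbadF h5E h5F hg hx)
  have hF := all_or_all hd (g : V ≃ₗ[K] V) F
    (fun x hx => (map_mem_union hd.symm hQ H hPM' hbadF hbad h5F h5E hg hx).symm)
  -- the image of the whole space is not contained in one of the two
  have hnot : ∀ X : Submodule K V, finrank K X < finrank K V →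
      ¬ ((∀ x ∈ E, (g : V ≃ₗ[K] V) x ∈ X) ∧ (∀ x ∈ F, (g : V ≃ₗ[K] V) x ∈ X)) := by
    rintro X hX ⟨h1, h2⟩
    have hle : (⊤ : Submodule K V).map (((g : V ≃ₗ[K] V) : V ≃ₗ[K] V) : V →ₗ[K] V) ≤ X := by
      rintro _ ⟨x, -, rfl⟩
      obtain ⟨e, he, f, hf, rfl⟩ := hd.exists_dec x
      rw [LinearEquiv.coe_coe, map_add]
      exact X.add_mem (h1 e he) (h2 f hf)
    have := Submodule.finrank_mono hle
    rw [LinearEquiv.finrank_map_eq, finrank_top] at this
    omega
  have hsum : finrank K E + finrank K F = finrank K V := by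
    have h1 := Submodule.finrank_sup_add_finrank_inf_eq E F
    rw [hd.sup, hd.inf, finrank_top, finrank_bot] at h1
    omega
  rcases hE with hE | hE <;> rcases hF with hF | hF
  · exact absurd ⟨hE, hF⟩ (hnot E (by omega))
  · exact Or.inl ⟨hE, hF⟩
  · exact Or.inr ⟨hE, hF⟩
  · exact absurd ⟨hE, hF⟩ (hnot F (by omega))

end

end Cfsg.Agent.Helper7.OrthPair
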