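import Mathlib
import Cfsg.Agent.Helper7.OrthPairD

set_option autoImplicit false
set_option linter.unusedSectionVars false

/-! An element of the Siegel group exchanging two complementary totally singular subspaces of
even dimension (helper7). -/

namespace Cfsg.Agent.Helper7.OrthPair

open Module Cfsg.Agent.Helper8.QuadForm Cfsg.Agent.Helper8.WittQuad Cfsg.Agent.Helper8.OrthOrder
  Cfsg.Agent.Helper8.Siegel Cfsg.Agent.Helper8.SiegelGroup Cfsg.Agent.Helper8.SiegelGeom
  Cfsg.Agent.Helper8.Reflections Cfsg.Agent.Helper8.MaxSingular Cfsg.Agent.Helper7.OrthMax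
  Cfsg.Agent.Helper7.OrthNd

variable {K : Type*} [Field K] {V : Type*} [AddCommGroup V] [Module K V]

/-- the product of two reflections in vectors of the same non-zero norm lies in the Siegel
group. -/
theorem refl_mul_refl_mem_SG [Finite K] [FiniteDimensional K V] (Q : QuadraticForm K V)
    (hQ : Nondeg Q) (h5 : 5 ≤ finrank K V) {a a' : V} (ha : Q a ≠ 0) (hQa' : Q a = Q a') :
    reflG Q a * reflG Q a' ∈ SG Q := by
  by_cases hd : a - a' = 0
  · rw [sub_eq_zero] at hd
    rw [← hd]
    have : reflG Q a * reflG Q a = 1 := by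
      apply Subtype.ext
      exact refl_mul_self Q a
    rw [this]
    exact (SG Q).one_mem
  rcases exists_siegel_move Q hQ h5 hQa' hd with ⟨μ, hμ⟩ | ⟨s, hs, hsa⟩
  · have ha0 : a ≠ 0 := by
      rintro rfl
      exact ha (map_zero Q)
    have hμ0 : μ ≠ 0 := by
      rintro rfl
      rw [zero_smul] at hμ
      exact ha0 hμ
    have ha'eq : a' = ((μ - 1) / μ) • a := by
      have h3 : a' = a - (a - a') := by abel
      have h4 : a - a' = μ⁻¹ • a := by
        have h6 := congrArg (fun v => μ⁻¹ • v) hμ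
        simp only [smul_smul, inv_mul_cancel₀ hμ0, one_smul] at h6
        exact h6.symm
      rw [h3, h4]
      have : ((μ - 1) / μ) = 1 - μ⁻¹ := by field_simp
      rw [this, sub_smul, one_smul]
    have hν0 : (μ - 1) / μ ≠ 0 := by
      intro h0
      rw [h0, zero_smul] at ha'eq
      rw [ha'eq, map_zero] at hQa'
      exact ha hQa'
    have h3 : reflG Q a' = reflG Q a := by
      apply Subtype.ext
      show refl Q a' = refl Q a
      rw [ha'eq, Cfsg.Agent.Helper8.OmegaOdd.refl_smul Q hν0]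
    rw [h3]
    have : reflG Q a * reflG Q a = 1 := by
      apply Subtype.ext
      exact refl_mul_self Q a
    rw [this]
    exact (SG Q).one_mem
  · have h3 : reflG Q a' = s * reflG Q a * s⁻¹ := by
      rw [reflG_conj, hsa]
    rw [h3]
    have h4 : reflG Q a * (s * reflG Q a * s⁻¹) = (reflG Q a * s * (reflG Q a)⁻¹) * s⁻¹ := by
      rw [reflG_inv]
      group
    rw [h4]
    exact (SG Q).mul_mem (conj_mem_SG Q hs _) ((SG Q).inv_mem hs)

section hyp

variable (Q : QuadraticForm K V) {e f : V} (he : Q e = 0) (hf : Q f = 0)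
  (hef : QuadraticMap.polar Q e f = 1)

include he hf hef

theorem Q_hyp_sub : Q (e - f) = -1 := by
  rw [sub_eq_add_neg, QuadraticMap.map_add Q, QuadraticMap.map_neg, he, hf,
    QuadraticMap.polar_neg_right, hef]
  ring

theorem refl_hyp_left : refl Q (e - f) e = f := by
  rw [refl_apply, Q_hyp_sub Q he hf hef, QuadraticMap.polar_sub_left, polar_self', he,
    QuadraticMap.polar_comm Q f e, hef]
  simp

theorem refl_hyp_right : refl Q (e - f) f = e := by
  rw [refl_apply, Q_hyp_sub Q he hf hef, QuadraticMap.polar_sub_left, polar_self', hf, hef]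
  simp

omit he hf hef in
theorem refl_hyp_fix {y : V} (hey : QuadraticMap.polar Q e y = 0)
    (hfy : QuadraticMap.polar Q f y = 0) : refl Q (e - f) y = y := by
  apply refl_of_perp
  rw [QuadraticMap.polar_sub_left, hey, hfy, sub_zero]

end hyp

/-- two totally singular subspaces in perfect duality. -/
structure Paired (Q : QuadraticForm K V) (E F : Submodule K V) : Prop where
  tsE : ∀ x ∈ E, Q x = 0
  tsF : ∀ x ∈ F, Q x = 0
  ndE : ∀ e ∈ E, (∀ f ∈ F, QuadraticMap.polar Q e f = 0) → e = 0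
  ndF : ∀ f ∈ F, (∀ e ∈ E, QuadraticMap.polar Q e f = 0) → f = 0

theorem Paired.symm {Q : QuadraticForm K V} {E F : Submodule K V} (h : Paired Q E F) :
    Paired Q F E :=
  ⟨h.tsF, h.tsE, fun f hf hperp => h.ndF f hf (fun e he => by
      rw [QuadraticMap.polar_comm]; exact hperp e he),
    fun e he hperp => h.ndE e he (fun f hf => by
      rw [QuadraticMap.polar_comm]; exact hperp f hf)⟩

/-- a dual vector. -/
theorem Paired.exists_dual {Q : QuadraticForm K V} {E F : Submodule K V} (h : Paired Q E F)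
    {e : V} (he : e ∈ E) (he0 : e ≠ 0) : ∃ f ∈ F, QuadraticMap.polar Q e f = 1 := by
  have : ∃ f ∈ F, QuadraticMap.polar Q e f ≠ 0 := by
    by_contra hcon
    push Not at hcon
    exact he0 (h.ndE e he hcon)
  obtain ⟨f, hf, hef⟩ := this
  refine ⟨(QuadraticMap.polar Q e f)⁻¹ • f, F.smul_mem _ hf, ?_⟩
  rw [QuadraticMap.polar_smul_right, smul_eq_mul, inv_mul_cancel₀ hef]

theorem mem_orth_singleton (Q : QuadraticForm K V) (x y : V) :
    x ∈ LinearMap.BilinForm.orthogonal (QuadraticMap.polarBilin Q) (Submodule.span K {y}) ↔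
      QuadraticMap.polar Q x y = 0 := by
  rw [mem_orth_iff]
  constructor
  · intro h
    exact h y (Submodule.mem_span_singleton_self y)
  · intro h w hw
    obtain ⟨t, rfl⟩ := Submodule.mem_span_singleton.mp hw
    rw [QuadraticMap.polar_smul_right, h, smul_zero]

/-- **an element of the Siegel group exchanging two dual totally singular subspaces of even
dimension**, fixing the vectors orthogonal to both. -/
theorem exists_swap [Finite K] [FiniteDimensional K V] (Q : QuadraticForm K V) (hQ : Nondeg Q)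
    (h5 : 5 ≤ finrank K V) :
    ∀ (m : ℕ) (E F : Submodule K V), Paired Q E F → finrank K E = 2 * m →
      ∃ w ∈ SG Q, (∀ x ∈ E, (w : V ≃ₗ[K] V) x ∈ F) ∧ (∀ x ∈ F, (w : V ≃ₗ[K] V) x ∈ E) ∧
        ∀ y, (∀ x ∈ E, QuadraticMap.polar Q x y = 0) → (∀ x ∈ F, QuadraticMap.polar Q x y = 0) →
          (w : V ≃ₗ[K] V) y = y := by
  intro m
  induction m with
  | zero =>
    intro E F hp hE
    have hE0 : E = ⊥ := Submodule.finrank_eq_zero.mp (by omega)
    refine ⟨1, (SG Q).one_mem, ?_, ?_, fun y _ _ => rfl⟩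
    · intro x hx
      rw [hE0, Submodule.mem_bot] at hx
      rw [hx, map_zero]
      exact F.zero_mem
    · intro x hx
      have : x = 0 := hp.ndF x hx (fun e he => by
        rw [hE0, Submodule.mem_bot] at he
        rw [he, QuadraticMap.polar_zero_left])
      rw [this, map_zero]
      exact E.zero_mem
  | succ m ih =>
    intro E F hp hE
    obtain ⟨e₁, he₁, he₁0⟩ : ∃ e₁ ∈ E, e₁ ≠ 0 := by
      by_contra hcon
      push Not at hcon
      have : E = ⊥ := (Submodule.eq_bot_iff E).mpr hcon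
      rw [this, finrank_bot] at hE
      omega
    obtain ⟨f₁, hf₁, hef₁⟩ := hp.exists_dual he₁ he₁0
    obtain ⟨e₂, he₂X, he₂0⟩ : ∃ e₂ ∈ E ⊓ LinearMap.BilinForm.orthogonal (QuadraticMap.polarBilin Q)
        (Submodule.span K {f₁}), e₂ ≠ 0 := by
      have h1 := finrank_inf_orth_singleton Q hQ E f₁
      by_contra hcon
      push Not at hcon
      have := (Submodule.eq_bot_iff _).mpr hcon
      rw [this, finrank_bot] at h1
      omega
    have he₂ : e₂ ∈ E := he₂X.1
    have he₂f₁ : QuadraticMap.polar Q e₂ f₁ = 0 := (mem_orth_singleton Q e₂ f₁).mp he₂X.2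
    obtain ⟨f', hf', he₂f'⟩ := hp.exists_dual he₂ he₂0
    obtain ⟨f₂, hf₂def⟩ : ∃ f₂ : V, f₂ = f' - QuadraticMap.polar Q e₁ f' • f₁ := ⟨_, rfl⟩
    have hf₂ : f₂ ∈ F := by rw [hf₂def]; exact F.sub_mem hf' (F.smul_mem _ hf₁)
    have he₁f₂ : QuadraticMap.polar Q e₁ f₂ = 0 := by
      rw [hf₂def, QuadraticMap.polar_sub_right, QuadraticMap.polar_smul_right, hef₁, smul_eq_mul,
        mul_one, sub_self]
    have hef₂ : QuadraticMap.polar Q e₂ f₂ = 1 := by
      rw [hf₂def, QuadraticMap.polar_sub_right, QuadraticMap.polar_smul_right, he₂f₁, smul_zero,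
        sub_zero, he₂f']
    have hEE : ∀ {x y : V}, x ∈ E → y ∈ E → QuadraticMap.polar Q x y = 0 :=
      fun hx hy => polar_of_ts Q E hp.tsE hx hy
    have hFF : ∀ {x y : V}, x ∈ F → y ∈ F → QuadraticMap.polar Q x y = 0 :=
      fun hx hy => polar_of_ts Q F hp.tsF hx hy
    have hQe₁ := hp.tsE e₁ he₁
    have hQe₂ := hp.tsE e₂ he₂
    have hQf₁ := hp.tsF f₁ hf₁
    have hQf₂ := hp.tsF f₂ hf₂
    -- the smaller pair
    obtain ⟨E', hE'⟩ : ∃ E' : Submodule K V, E' = E ⊓ LinearMap.BilinForm.orthogonal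
      (QuadraticMap.polarBilin Q) (Submodule.span K {f₁}) ⊓ LinearMap.BilinForm.orthogonal
      (QuadraticMap.polarBilin Q) (Submodule.span K {f₂}) := ⟨_, rfl⟩
    obtain ⟨F', hF'⟩ : ∃ F' : Submodule K V, F' = F ⊓ LinearMap.BilinForm.orthogonal
      (QuadraticMap.polarBilin Q) (Submodule.span K {e₁}) ⊓ LinearMap.BilinForm.orthogonal
      (QuadraticMap.polarBilin Q) (Submodule.span K {e₂}) := ⟨_, rfl⟩
    have memE' : ∀ x, x ∈ E' ↔ x ∈ E ∧ QuadraticMap.polar Q x f₁ = 0 ∧
        QuadraticMap.polar Q x f₂ = 0 := by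
      intro x
      rw [hE', Submodule.mem_inf, Submodule.mem_inf, mem_orth_singleton, mem_orth_singleton,
        and_assoc]
    have memF' : ∀ x, x ∈ F' ↔ x ∈ F ∧ QuadraticMap.polar Q x e₁ = 0 ∧
        QuadraticMap.polar Q x e₂ = 0 := by
      intro x
      rw [hF', Submodule.mem_inf, Submodule.mem_inf, mem_orth_singleton, mem_orth_singleton,
        and_assoc]
    -- projections
    have projE : ∀ x ∈ E, x - QuadraticMap.polar Q x f₁ • e₁ - QuadraticMap.polar Q x f₂ • e₂ ∈ E' := by
      intro x hx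
      rw [memE']
      refine ⟨E.sub_mem (E.sub_mem hx (E.smul_mem _ he₁)) (E.smul_mem _ he₂), ?_, ?_⟩
      · rw [QuadraticMap.polar_sub_left, QuadraticMap.polar_sub_left,
          QuadraticMap.polar_smul_left, QuadraticMap.polar_smul_left, hef₁, he₂f₁]
        simp
      · rw [QuadraticMap.polar_sub_left, QuadraticMap.polar_sub_left,
          QuadraticMap.polar_smul_left, QuadraticMap.polar_smul_left, he₁f₂, hef₂]
        simp
    have projF : ∀ x ∈ F, x - QuadraticMap.polar Q e₁ x • f₁ - QuadraticMap.polar Q e₂ x • f₂ ∈ F' := by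
      intro x hx
      rw [memF']
      refine ⟨F.sub_mem (F.sub_mem hx (F.smul_mem _ hf₁)) (F.smul_mem _ hf₂), ?_, ?_⟩
      · rw [QuadraticMap.polar_sub_left, QuadraticMap.polar_sub_left,
          QuadraticMap.polar_smul_left, QuadraticMap.polar_smul_left,
          QuadraticMap.polar_comm Q f₁ e₁, hef₁, QuadraticMap.polar_comm Q f₂ e₁, he₁f₂,
          QuadraticMap.polar_comm Q x e₁]
        simp
      · rw [QuadraticMap.polar_sub_left, QuadraticMap.polar_sub_left,
          QuadraticMap.polar_smul_left, QuadraticMap.polar_smul_left,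
          QuadraticMap.polar_comm Q f₁ e₂, he₂f₁, QuadraticMap.polar_comm Q f₂ e₂, hef₂,
          QuadraticMap.polar_comm Q x e₂]
        simp
    have hp' : Paired Q E' F' := by
      refine ⟨fun x hx => hp.tsE x ((memE' x).mp hx).1, fun x hx => hp.tsF x ((memF' x).mp hx).1,
        ?_, ?_⟩
      · intro e he hperp
        obtain ⟨heE, hef₁', hef₂'⟩ := (memE' e).mp he
        apply hp.ndE e heE
        intro f hf
        have := hperp _ (projF f hf)
        rw [QuadraticMap.polar_sub_right, QuadraticMap.polar_sub_right,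
          QuadraticMap.polar_smul_right, QuadraticMap.polar_smul_right, hef₁', hef₂'] at this
        simpa using this
      · intro f hf hperp
        obtain ⟨hfF, hfe₁, hfe₂⟩ := (memF' f).mp hf
        apply hp.ndF f hfF
        intro e he
        have := hperp _ (projE e he)
        rw [QuadraticMap.polar_sub_left, QuadraticMap.polar_sub_left,
          QuadraticMap.polar_smul_left, QuadraticMap.polar_smul_left,
          QuadraticMap.polar_comm Q e₁ f, hfe₁, QuadraticMap.polar_comm Q e₂ f, hfe₂] at this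
        simpa using this
    have hfin : finrank K E' = 2 * m := by
      have h1 := finrank_inf_orth_singleton Q hQ E f₁
      have h2 := finrank_inf_orth_singleton Q hQ
        (E ⊓ LinearMap.BilinForm.orthogonal (QuadraticMap.polarBilin Q) (Submodule.span K {f₁})) f₂
      rw [← hE'] at h2
      have hE'E : E' ≤ E := fun x hx => ((memE' x).mp hx).1
      have hn1 : e₁ ∉ E' := by
        intro h
        have := ((memE' e₁).mp h).2.1
        rw [hef₁] at this
        exact one_ne_zero this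
      have hn2 : e₂ ∉ E' ⊔ Submodule.span K {e₁} := by
        intro h
        obtain ⟨x', hx', y, hy, hxy⟩ := Submodule.mem_sup.mp h
        obtain ⟨t, rfl⟩ := Submodule.mem_span_singleton.mp hy
        have h3 : QuadraticMap.polar Q (x' + t • e₁) f₂ = 0 := by
          rw [QuadraticMap.polar_add_left, QuadraticMap.polar_smul_left, he₁f₂,
            ((memE' x').mp hx').2.2]
          simp
        rw [hxy, hef₂] at h3
        exact one_ne_zero h3
      have h3 := finrank_sup_span_singleton E' hn1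
      have h4 := finrank_sup_span_singleton (E' ⊔ Submodule.span K {e₁}) hn2
      have hle : E' ⊔ Submodule.span K {e₁} ⊔ Submodule.span K {e₂} ≤ E :=
        sup_le (sup_le hE'E ((Submodule.span_singleton_le_iff_mem e₁ E).mpr he₁))
          ((Submodule.span_singleton_le_iff_mem e₂ E).mpr he₂)
      have h5' := Submodule.finrank_mono hle
      omega
    obtain ⟨w', hw', hw'E, hw'F, hw'fix⟩ := ih E' F' hp' hfin
    -- the two reflections
    have hQ1 : Q (e₁ - f₁) = -1 := Q_hyp_sub Q hQe₁ hQf₁ hef₁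
    have hQ2 : Q (e₂ - f₂) = -1 := Q_hyp_sub Q hQe₂ hQf₂ hef₂
    have hrr : reflG Q (e₁ - f₁) * reflG Q (e₂ - f₂) ∈ SG Q :=
      refl_mul_refl_mem_SG Q hQ h5 (by rw [hQ1]; exact neg_ne_zero.mpr one_ne_zero)
        (by rw [hQ1, hQ2])
    have happ : ∀ x, ((reflG Q (e₁ - f₁) * reflG Q (e₂ - f₂) * w' : ↥(Isom Q)) : V ≃ₗ[K] V) x
        = refl Q (e₁ - f₁) (refl Q (e₂ - f₂) ((w' : V ≃ₗ[K] V) x)) := fun x => rfl
    -- fixed vectors of `w'`
    have hw'e₁ : (w' : V ≃ₗ[K] V) e₁ = e₁ :=
      hw'fix e₁ (fun x hx => hEE ((memE' x).mp hx).1 he₁) (fun x hx => ((memF' x).mp hx).2.1)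
    have hw'e₂ : (w' : V ≃ₗ[K] V) e₂ = e₂ :=
      hw'fix e₂ (fun x hx => hEE ((memE' x).mp hx).1 he₂) (fun x hx => ((memF' x).mp hx).2.2)
    have hw'f₁ : (w' : V ≃ₗ[K] V) f₁ = f₁ :=
      hw'fix f₁ (fun x hx => ((memE' x).mp hx).2.1) (fun x hx => hFF ((memF' x).mp hx).1 hf₁)
    have hw'f₂ : (w' : V ≃ₗ[K] V) f₂ = f₂ :=
      hw'fix f₂ (fun x hx => ((memE' x).mp hx).2.2) (fun x hx => hFF ((memF' x).mp hx).1 hf₂)
    refine ⟨reflG Q (e₁ - f₁) * reflG Q (e₂ - f₂) * w', (SG Q).mul_mem hrr hw', ?_, ?_, ?_⟩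
    · intro x hx
      rw [happ]
      obtain ⟨x', hx'def⟩ : ∃ x' : V, x' = x - QuadraticMap.polar Q x f₁ • e₁
        - QuadraticMap.polar Q x f₂ • e₂ := ⟨_, rfl⟩
      have hx' : x' ∈ E' := by rw [hx'def]; exact projE x hx
      have hxeq : x = x' + QuadraticMap.polar Q x f₁ • e₁ + QuadraticMap.polar Q x f₂ • e₂ := by
        rw [hx'def]
        abel
      have hy' := hw'E x' hx'
      obtain ⟨hy'F, hy'e₁, hy'e₂⟩ := (memF' _).mp hy'
      have e1 : (w' : V ≃ₗ[K] V) x = (w' : V ≃ₗ[K] V) x' + QuadraticMap.polar Q x f₁ • e₁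
          + QuadraticMap.polar Q x f₂ • e₂ := by
        conv_lhs => rw [hxeq]
        rw [map_add, map_add, map_smul, map_smul, hw'e₁, hw'e₂]
      rw [e1, map_add, map_add, map_smul, map_smul, map_add, map_add, map_smul, map_smul,
        refl_hyp_fix Q (by rw [QuadraticMap.polar_comm]; exact hy'e₂) (hFF hf₂ hy'F),
        refl_hyp_fix Q (hEE he₂ he₁) (by rw [QuadraticMap.polar_comm]; exact he₁f₂),
        refl_hyp_left Q hQe₂ hQf₂ hef₂,
        refl_hyp_fix Q (by rw [QuadraticMap.polar_comm]; exact hy'e₁) (hFF hf₁ hy'F),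
        refl_hyp_left Q hQe₁ hQf₁ hef₁,
        refl_hyp_fix Q he₁f₂ (hFF hf₁ hf₂)]
      exact F.add_mem (F.add_mem hy'F (F.smul_mem _ hf₁)) (F.smul_mem _ hf₂)
    · intro x hx
      rw [happ]
      obtain ⟨x', hx'def⟩ : ∃ x' : V, x' = x - QuadraticMap.polar Q e₁ x • f₁
        - QuadraticMap.polar Q e₂ x • f₂ := ⟨_, rfl⟩
      have hx' : x' ∈ F' := by rw [hx'def]; exact projF x hx
      have hxeq : x = x' + QuadraticMap.polar Q e₁ x • f₁ + QuadraticMap.polar Q e₂ x • f₂ := by
        rw [hx'def]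
        abel
      have hy' := hw'F x' hx'
      obtain ⟨hy'E, hy'f₁, hy'f₂⟩ := (memE' _).mp hy'
      have e1 : (w' : V ≃ₗ[K] V) x = (w' : V ≃ₗ[K] V) x' + QuadraticMap.polar Q e₁ x • f₁
          + QuadraticMap.polar Q e₂ x • f₂ := by
        conv_lhs => rw [hxeq]
        rw [map_add, map_add, map_smul, map_smul, hw'f₁, hw'f₂]
      rw [e1, map_add, map_add, map_smul, map_smul, map_add, map_add, map_smul, map_smul,
        refl_hyp_fix Q (hEE he₂ hy'E) (by rw [QuadraticMap.polar_comm]; exact hy'f₂),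
        refl_hyp_fix Q he₂f₁ (hFF hf₂ hf₁),
        refl_hyp_right Q hQe₂ hQf₂ hef₂,
        refl_hyp_fix Q (hEE he₁ hy'E) (by rw [QuadraticMap.polar_comm]; exact hy'f₁),
        refl_hyp_right Q hQe₁ hQf₁ hef₁,
        refl_hyp_fix Q (hEE he₁ he₂) (by rw [QuadraticMap.polar_comm]; exact he₂f₁)]
      exact E.add_mem (E.add_mem hy'E (E.smul_mem _ he₁)) (E.smul_mem _ he₂)
    · intro y hyE hyF
      rw [happ, hw'fix y (fun x hx => hyE x ((memE' x).mp hx).1)
        (fun x hx => hyF x ((memF' x).mp hx).1),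
        refl_hyp_fix Q (hyE e₂ he₂) (hyF f₂ hf₂), refl_hyp_fix Q (hyE e₁ he₁) (hyF f₁ hf₁)]

end Cfsg.Agent.Helper7.OrthPair
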