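import Mathlib
import Cfsg.Agent.Helper7.OrthPairE

set_option autoImplicit false
set_option linter.unusedSectionVars false

/-! The stabiliser of a pair of complementary totally singular subspaces of even dimension is
maximal in `Ω(Q)` (helper7). -/

namespace Cfsg.Agent.Helper7.OrthPair

open Module Cfsg.Agent.Helper8.QuadForm Cfsg.Agent.Helper8.WittQuad Cfsg.Agent.Helper8.OrthOrder
  Cfsg.Agent.Helper8.Siegel Cfsg.Agent.Helper8.SiegelGroup Cfsg.Agent.Helper8.SiegelGeom
  Cfsg.Agent.Helper8.ReflMatrix Cfsg.Agent.Helper8.OmegaSimple Cfsg.Agent.Helper7.OrthMax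
  Cfsg.Agent.Helper7.OrthNd

section

variable {K : Type*} [Field K] {V : Type*} [AddCommGroup V] [Module K V]
  {Q : QuadraticForm K V} {E F : Submodule K V}

theorem TsPair.paired (hd : TsPair Q E F) (hQ : Nondeg Q) : Paired Q E F := by
  refine ⟨hd.tsE, hd.tsF, ?_, ?_⟩
  · intro e he hperp
    apply hd.eq_zero_of_mem_of_mem he
    apply hd.mem_F_of_perp hQ
    intro x hx
    rw [QuadraticMap.polar_comm]
    exact hperp x hx
  · intro f hf hperp
    apply hd.eq_zero_of_mem_of_mem _ hf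
    apply hd.mem_E_of_perp hQ
    intro x hx
    exact hperp x hx

variable [FiniteDimensional K V] (hd : TsPair Q E F) (hQ : Nondeg Q) (H : Subgroup ↥(Isom Q))
  (hPM : ∀ g ∈ SG Q, (∀ x ∈ E, (g : V ≃ₗ[K] V) x ∈ E) → (∀ x ∈ F, (g : V ≃ₗ[K] V) x ∈ F) → g ∈ H)

include hd hQ hPM in
/-- **The dichotomy** for the stabiliser of a pair of complementary totally singular subspaces. -/
theorem pair_stab_or_top (h5E : 5 ≤ finrank K E) (h5F : 5 ≤ finrank K F) {w₀ : ↥(Isom Q)}
    (hw₀ : w₀ ∈ H) (hwE : ∀ x ∈ E, (w₀ : V ≃ₗ[K] V) x ∈ F)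
    (hwF : ∀ x ∈ F, (w₀ : V ≃ₗ[K] V) x ∈ E) :
    (∀ g ∈ H, ((∀ x ∈ E, (g : V ≃ₗ[K] V) x ∈ E) ∧ (∀ x ∈ F, (g : V ≃ₗ[K] V) x ∈ F)) ∨
      ((∀ x ∈ E, (g : V ≃ₗ[K] V) x ∈ F) ∧ (∀ x ∈ F, (g : V ≃ₗ[K] V) x ∈ E))) ∨ SG Q ≤ H := by
  by_cases hgood : ∃ a ∈ E, a ≠ 0 ∧ ∃ z, QuadraticMap.polar Q a z = 0 ∧
      (∀ c : K, siegG Q a (c • z) ∈ H) ∧ z ∉ F ⊔ Submodule.span K {a}
  · right
    obtain ⟨a, ha, ha0, z, haz, hz, hzn⟩ := hgood
    exact top_of_extra hd hQ H hPM ha ha0 haz hz hzn hw₀ hwE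
  · left
    have hbad : ∀ a ∈ E, a ≠ 0 → ∀ z, QuadraticMap.polar Q a z = 0 →
        (∀ c : K, siegG Q a (c • z) ∈ H) → z ∈ F ⊔ Submodule.span K {a} := by
      intro a ha ha0 z haz hz
      by_contra hzn
      exact hgood ⟨a, ha, ha0, z, haz, hz, hzn⟩
    have hbadF : ∀ a ∈ F, a ≠ 0 → ∀ z, QuadraticMap.polar Q a z = 0 →
        (∀ c : K, siegG Q a (c • z) ∈ H) → z ∈ E ⊔ Submodule.span K {a} := by
      intro a ha ha0 z haz hz
      have ha'0 : (w₀ : V ≃ₗ[K] V) a ≠ 0 := by
        intro h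
        exact ha0 ((w₀ : V ≃ₗ[K] V).injective (h.trans (map_zero _).symm))
      have h1 := hbad _ (hwF a ha) ha'0 ((w₀ : V ≃ₗ[K] V) z)
        (by rw [polar_isometry Q w₀ w₀.2]; exact haz) (by
          intro c
          have h2 := siegG_conj Q w₀ a (c • z)
          rw [map_smul] at h2
          rw [← h2]
          exact H.mul_mem (H.mul_mem hw₀ (hz c)) (H.inv_mem hw₀))
      obtain ⟨f, hf, y, hy, hfy⟩ := Submodule.mem_sup.mp h1
      obtain ⟨t, rfl⟩ := Submodule.mem_span_singleton.mp hy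
      obtain ⟨zE, hzE, zF, hzF, rfl⟩ := hd.exists_dec z
      have e1 : (w₀ : V ≃ₗ[K] V) zF + (w₀ : V ≃ₗ[K] V) zE = t • (w₀ : V ≃ₗ[K] V) a + f := by
        rw [add_comm (t • _) f, hfy, map_add, add_comm]
      have h3 := (hd.eq_of_add_eq (hwF zF hzF) (E.smul_mem t (hwF a ha)) (hwE zE hzE) hf e1).1
      have h4 : zF = t • a := by
        apply (w₀ : V ≃ₗ[K] V).injective
        rw [h3, map_smul]
      rw [h4]
      exact Submodule.add_mem_sup hzE (Submodule.smul_mem _ t (Submodule.mem_span_singleton_self a))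
    intro g hg
    exact stab_of_bad hd hQ H hPM hbad hbadF h5E h5F hg

end

variable {K : Type*} [Field K] [Fintype K] {ι : Type} [Fintype ι] [DecidableEq ι]
  (Q : QuadraticForm K (ι → K))

/-- membership in the stabiliser of a decomposition into two subspaces of the same dimension. -/
theorem toGL_mem_decomp_iff (D : Fin 2 → Submodule K (ι → K))
    (hfr : finrank K (D 0) = finrank K (D 1)) (kk : ↥(Isom Q)) :
    toGL Q kk ∈ Cfsg.Geo.decompositionStabilizer D ↔
      ((∀ x ∈ D 0, (kk : (ι → K) ≃ₗ[K] (ι → K)) x ∈ D 0) ∧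
        (∀ x ∈ D 1, (kk : (ι → K) ≃ₗ[K] (ι → K)) x ∈ D 1)) ∨
      ((∀ x ∈ D 0, (kk : (ι → K) ≃ₗ[K] (ι → K)) x ∈ D 1) ∧
        (∀ x ∈ D 1, (kk : (ι → K) ≃ₗ[K] (ι → K)) x ∈ D 0)) := by
  have h01 : ∀ j : Fin 2, j = 0 ∨ j = 1 := by decide
  constructor
  · rintro ⟨σ, hσ⟩
    simp only [toLin'_toGL] at hσ
    have hmap : ∀ i, ∀ x ∈ D i, (kk : (ι → K) ≃ₗ[K] (ι → K)) x ∈ D (σ i) := by
      intro i x hx
      rw [← hσ i]
      exact ⟨x, hx, rfl⟩
    rcases h01 (σ 0) with h0 | h0
    · have h1 : σ 1 = 1 := by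
        rcases h01 (σ 1) with h | h
        · exact absurd (σ.injective (h0.trans h.symm)) (by decide)
        · exact h
      left
      refine ⟨fun x hx => ?_, fun x hx => ?_⟩
      · have := hmap 0 x hx
        rwa [h0] at this
      · have := hmap 1 x hx
        rwa [h1] at this
    · have h1 : σ 1 = 0 := by
        rcases h01 (σ 1) with h | h
        · exact h
        · exact absurd (σ.injective (h0.trans h.symm)) (by decide)
      right
      refine ⟨fun x hx => ?_, fun x hx => ?_⟩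
      · have := hmap 0 x hx
        rwa [h0] at this
      · have := hmap 1 x hx
        rwa [h1] at this
  · rintro (⟨h0, h1⟩ | ⟨h0, h1⟩)
    · refine ⟨1, fun i => ?_⟩
      rw [toLin'_toGL, Equiv.Perm.one_apply]
      rcases h01 i with rfl | rfl
      · apply Submodule.eq_of_le_of_finrank_eq
        · rintro _ ⟨x, hx, rfl⟩
          exact h0 x hx
        · exact LinearEquiv.finrank_map_eq _ _
      · apply Submodule.eq_of_le_of_finrank_eq
        · rintro _ ⟨x, hx, rfl⟩
          exact h1 x hx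
        · exact LinearEquiv.finrank_map_eq _ _
    · refine ⟨Equiv.swap 0 1, fun i => ?_⟩
      rw [toLin'_toGL]
      rcases h01 i with rfl | rfl
      · rw [Equiv.swap_apply_left]
        apply Submodule.eq_of_le_of_finrank_eq
        · rintro _ ⟨x, hx, rfl⟩
          exact h0 x hx
        · rw [← hfr]
          exact LinearEquiv.finrank_map_eq _ _
      · rw [Equiv.swap_apply_right]
        apply Submodule.eq_of_le_of_finrank_eq
        · rintro _ ⟨x, hx, rfl⟩
          exact h1 x hx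
        · rw [hfr]
          exact LinearEquiv.finrank_map_eq _ _

/-- **Maximality** of the stabiliser of a pair of complementary totally singular subspaces of even
dimension in `Ω(Q)`. -/
theorem tspair_maximal (hQ : (QuadraticMap.polarBilin Q).Nondegenerate)
    (h13 : 13 ≤ Fintype.card ι) {k : ℕ} (hke : Even k) (D : Fin 2 → Submodule K (ι → K))
    (hD : Cfsg.Geo.IsMDecomposition k D)
    (hts : ∀ i, Cfsg.Geo.IsTotallySingularQuad ⇑Q (D i)) :
    Cfsg.Geo.IsMaximalIn (Cfsg.Geo.omegaGL ⇑Q)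
      (Cfsg.Geo.decompositionStabilizer D ⊓ Cfsg.Geo.omegaGL ⇑Q) := by
  have hnd : Nondeg Q := (nondeg_iff Q).mp hQ
  have hd : TsPair Q (D 0) (D 1) := by
    refine ⟨hts 0, hts 1, (hD.indep.pairwiseDisjoint (by decide : (0 : Fin 2) ≠ 1)).eq_bot, ?_⟩
    rw [← hD.iSup_eq_top]
    apply le_antisymm
    · exact sup_le (le_iSup D 0) (le_iSup D 1)
    · apply iSup_le
      intro i
      have : ∀ j : Fin 2, j = 0 ∨ j = 1 := by decide
      rcases this i with rfl | rfl
      · exact le_sup_left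
      · exact le_sup_right
  have hf0 : finrank K (D 0) = k := hD.finrank_eq 0
  have hf1 : finrank K (D 1) = k := hD.finrank_eq 1
  have hsum : k + k = Fintype.card ι := by
    have h1 := Submodule.finrank_sup_add_finrank_inf_eq (D 0) (D 1)
    rw [hd.sup, hd.inf, finrank_top, finrank_bot, Module.finrank_pi, hf0, hf1] at h1
    omega
  have h5 : 5 ≤ Fintype.card ι := by omega
  have h5V : 5 ≤ finrank K (ι → K) := by rw [Module.finrank_pi]; exact h5
  have hS := toGL_mem_decomp_iff Q D (hf0.trans hf1.symm)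
  -- the exchanging element
  obtain ⟨m, hm⟩ := hke
  obtain ⟨w₀, hw₀, hwE, hwF, -⟩ := exists_swap Q hnd h5V m (D 0) (D 1) (hd.paired hnd)
    (by rw [hf0, hm]; ring)
  refine ⟨lt_of_le_not_ge inf_le_right ?_, ?_⟩
  · -- a Siegel transformation with both parameters in `D 0` does not preserve the pair
    intro hle
    obtain ⟨a, ha, ha0⟩ : ∃ a ∈ D 0, a ≠ 0 := by
      by_contra hcon
      push Not at hcon
      have := (Submodule.eq_bot_iff _).mpr hcon
      rw [this, finrank_bot] at hf0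
      omega
    obtain ⟨b, hb, hbn⟩ : ∃ b ∈ D 0, b ∉ Submodule.span K {a} := by
      apply Cfsg.Agent.Helper8.MaxSingular.exists_mem_not_mem
      rw [finrank_span_singleton ha0, hf0]
      omega
    obtain ⟨f, hf, hfa, hfb⟩ := hd.exists_dual_in hnd
      ((Submodule.span_singleton_le_iff_mem a (D 0)).mpr ha) hb hbn
    have hab : QuadraticMap.polar Q a b = 0 := hd.polarE ha hb
    have hQa := hd.tsE a ha
    have hg : siegG Q a b ∈ SG Q := siegG_mem_SG Q hQa hab
    have h1 := (hS _).mp (hle (toGL_mem_omegaGL Q hQ h5 hg)).1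
    have hval : (siegG Q a b : (ι → K) ≃ₗ[K] (ι → K)) f
        = f + QuadraticMap.polar Q f b • a - QuadraticMap.polar Q f a • b := by
      rw [siegG_val, siegE_apply Q hQa hab, sieg_apply, hd.tsE b hb, zero_mul, zero_smul, sub_zero]
    have hfa' : QuadraticMap.polar Q f a = 0 := by
      rw [QuadraticMap.polar_comm]
      exact hfa a (Submodule.mem_span_singleton_self a)
    have hfb' : QuadraticMap.polar Q f b ≠ 0 := by
      rw [QuadraticMap.polar_comm]
      exact hfb
    rw [hfa', zero_smul, sub_zero] at hval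
    have hf0' : f ≠ 0 := by
      rintro rfl
      rw [QuadraticMap.polar_zero_left] at hfb'
      exact hfb' rfl
    rcases h1 with ⟨-, h1⟩ | ⟨-, h1⟩
    · have h2 := h1 f hf
      rw [hval] at h2
      have h3 : QuadraticMap.polar Q f b • a ∈ D 1 := by
        have := (D 1).sub_mem h2 hf
        rwa [add_sub_cancel_left] at this
      have h4 : a ∈ D 1 := by
        have := (D 1).smul_mem (QuadraticMap.polar Q f b)⁻¹ h3
        rwa [smul_smul, inv_mul_cancel₀ hfb', one_smul] at this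
      exact ha0 (hd.eq_zero_of_mem_of_mem ha h4)
    · have h2 := h1 f hf
      rw [hval] at h2
      have h3 : f ∈ D 0 := by
        have := (D 0).sub_mem h2 ((D 0).smul_mem (QuadraticMap.polar Q f b) ha)
        rwa [add_sub_cancel_right] at this
      exact hf0' (hd.eq_zero_of_mem_of_mem h3 hf)
  · intro M hPM hMG
    have hPM' : ∀ g ∈ SG Q, (∀ x ∈ D 0, (g : (ι → K) ≃ₗ[K] (ι → K)) x ∈ D 0) →
        (∀ x ∈ D 1, (g : (ι → K) ≃ₗ[K] (ι → K)) x ∈ D 1) → g ∈ M.comap (toGL Q) := by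
      intro g hg h0 h1
      rw [Subgroup.mem_comap]
      exact hPM ⟨(hS g).mpr (Or.inl ⟨h0, h1⟩), toGL_mem_omegaGL Q hQ h5 hg⟩
    have hw₀M : w₀ ∈ M.comap (toGL Q) := by
      rw [Subgroup.mem_comap]
      exact hPM ⟨(hS w₀).mpr (Or.inr ⟨hwE, hwF⟩), toGL_mem_omegaGL Q hQ h5 hw₀⟩
    have key := pair_stab_or_top hd hnd (M.comap (toGL Q)) hPM' (by omega) (by omega) hw₀M hwE hwF
    rcases key with h | h
    · left
      apply le_antisymm _ hPM
      intro g hg
      obtain ⟨kk, hkk, rfl⟩ := exists_toGL_eq Q hQ h5 (hMG hg)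
      exact ⟨(hS kk).mpr (h kk (Subgroup.mem_comap.mpr hg)), hMG hg⟩
    · right
      apply le_antisymm hMG
      intro g hg
      obtain ⟨kk, hkk, rfl⟩ := exists_toGL_eq Q hQ h5 hg
      exact Subgroup.mem_comap.mp (h hkk)

end Cfsg.Agent.Helper7.OrthPair
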