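import Mathlib
import Cfsg.Agent.Helper7.OrthNdK
import Cfsg.Agent.Helper7.OrthPairF

set_option autoImplicit false
set_option linter.unusedSectionVars false

/-! Orthogonal decompositions of a quadratic space into several non-degenerate blocks: components,
irreducibility of the Siegel group of a block in odd characteristic (helper7). -/

namespace Cfsg.Agent.Helper7.OrthBlk

open Module Cfsg.Agent.Helper8.QuadForm Cfsg.Agent.Helper8.WittQuad Cfsg.Agent.Helper8.OrthOrder
  Cfsg.Agent.Helper8.Siegel Cfsg.Agent.Helper8.SiegelGroup Cfsg.Agent.Helper8.SiegelGeom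
  Cfsg.Agent.Helper8.Reflections Cfsg.Agent.Helper7.OrthMax Cfsg.Agent.Helper7.OrthNd

variable {F : Type*} [Field F] {V : Type*} [AddCommGroup V] [Module F V]

/-- a decomposition of a quadratic space into pairwise orthogonal non-degenerate blocks. -/
structure Blk (Q : QuadraticForm F V) {t : ℕ} (D : Fin t → Submodule F V) : Prop where
  ndQ : Nondeg Q
  perp : ∀ i j, i ≠ j → ∀ x ∈ D i, ∀ y ∈ D j, QuadraticMap.polar Q x y = 0
  sup : iSup D = ⊤
  nd : ∀ i, NondegOn Q (D i)

section comp

variable {Q : QuadraticForm F V} {t : ℕ} {D : Fin t → Submodule F V} [FiniteDimensional F V]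
  (hB : Blk Q D)

include hB

theorem Blk.dec (i : Fin t) :
    OrthDec Q (D i) (LinearMap.BilinForm.orthogonal (QuadraticMap.polarBilin Q) (D i)) :=
  orthDec_of_nondegOn Q hB.ndQ (hB.nd i)

theorem Blk.isCompl (i : Fin t) :
    IsCompl (D i) (LinearMap.BilinForm.orthogonal (QuadraticMap.polarBilin Q) (D i)) :=
  ⟨disjoint_iff.mpr (hB.dec i).inf_eq_bot, codisjoint_iff.mpr (hB.dec i).sup⟩

theorem Blk.le_orth {i j : Fin t} (hij : j ≠ i) :
    D j ≤ LinearMap.BilinForm.orthogonal (QuadraticMap.polarBilin Q) (D i) := by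
  intro x hx
  rw [mem_orth_iff]
  intro y hy
  exact hB.perp j i hij x hx y hy

/-- a non-zero vector lies in at most one block. -/
theorem Blk.eq_of_mem {i j : Fin t} {x : V} (hx0 : x ≠ 0) (hi : x ∈ D i) (hj : x ∈ D j) :
    i = j := by
  by_contra hij
  apply hx0
  apply hB.nd i x hi
  intro y hy
  exact hB.perp j i (Ne.symm hij) x hj y hy

/-- the component of a vector in the `i`-th block. -/
noncomputable def cp (i : Fin t) : V →ₗ[F] V :=
  (D i).projection (LinearMap.BilinForm.orthogonal (QuadraticMap.polarBilin Q) (D i))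
    (hB.isCompl i)

theorem cp_mem (i : Fin t) (v : V) : cp hB i v ∈ D i :=
  Submodule.projection_apply_mem _ v

theorem cp_of_mem {i : Fin t} {v : V} (hv : v ∈ D i) : cp hB i v = v :=
  Submodule.projection_apply_of_mem_left _ hv

theorem cp_of_orth {i : Fin t} {v : V}
    (hv : v ∈ LinearMap.BilinForm.orthogonal (QuadraticMap.polarBilin Q) (D i)) :
    cp hB i v = 0 :=
  Submodule.projection_apply_of_mem_right _ hv

theorem cp_of_mem_ne {i j : Fin t} (hij : j ≠ i) {v : V} (hv : v ∈ D j) : cp hB i v = 0 :=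
  cp_of_orth hB (hB.le_orth hij hv)

theorem sub_cp_mem (i : Fin t) (v : V) :
    v - cp hB i v ∈ LinearMap.BilinForm.orthogonal (QuadraticMap.polarBilin Q) (D i) :=
  Submodule.sub_projection_mem _ v

/-- pairing with a vector of the `j`-th block only sees the `j`-th component. -/
theorem polar_cp (j : Fin t) (v : V) {d : V} (hd : d ∈ D j) :
    QuadraticMap.polar Q v d = QuadraticMap.polar Q (cp hB j v) d := by
  have h := (mem_orth_iff Q _ _).mp (sub_cp_mem hB j v) d hd
  rw [QuadraticMap.polar_sub_left] at h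
  exact sub_eq_zero.mp h

theorem polar_cp' (j : Fin t) (v : V) {d : V} (hd : d ∈ D j) :
    QuadraticMap.polar Q d v = QuadraticMap.polar Q d (cp hB j v) := by
  rw [QuadraticMap.polar_comm, polar_cp hB j v hd, QuadraticMap.polar_comm]

theorem sum_cp (v : V) : v = ∑ i, cp hB i v := by
  have hv : v ∈ iSup D := by rw [hB.sup]; exact Submodule.mem_top
  induction hv using Submodule.iSup_induction' with
  | mem j x hx =>
    rw [Finset.sum_eq_single j]
    · exact (cp_of_mem hB hx).symm
    · intro i _ hij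
      exact cp_of_mem_ne hB hij.symm hx
    · intro h
      exact absurd (Finset.mem_univ j) h
  | zero => simp
  | add x y _ _ hx hy =>
    simp only [map_add, Finset.sum_add_distrib]
    rw [← hx, ← hy]

theorem eq_zero_of_cp {v : V} (h : ∀ i, cp hB i v = 0) : v = 0 := by
  rw [sum_cp hB v]
  exact Finset.sum_eq_zero (fun i _ => h i)

theorem mem_of_cp_eq_zero {j : Fin t} {v : V} (h : ∀ i, i ≠ j → cp hB i v = 0) : v ∈ D j := by
  rw [sum_cp hB v, Finset.sum_eq_single j (fun i _ hij => h i hij)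
    (fun h' => absurd (Finset.mem_univ j) h')]
  exact cp_mem hB j v

omit [FiniteDimensional F V] hB in
/-- the form of a sum of pairwise orthogonal vectors. -/
theorem Q_sum_of_perp {ι : Type*} (s : Finset ι) (x : ι → V)
    (h : ∀ i ∈ s, ∀ j ∈ s, i ≠ j → QuadraticMap.polar Q (x i) (x j) = 0) :
    Q (∑ i ∈ s, x i) = ∑ i ∈ s, Q (x i) := by
  classical
  induction s using Finset.induction_on with
  | empty => simp
  | insert a s ha ih =>
    rw [Finset.sum_insert ha, Finset.sum_insert ha, QuadraticMap.map_add Q,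
      ih (fun i hi j hj hij => h i (Finset.mem_insert_of_mem hi) j (Finset.mem_insert_of_mem hj) hij)]
    have : QuadraticMap.polar Q (x a) (∑ i ∈ s, x i) = 0 := by
      have h1 : QuadraticMap.polar Q (x a) (∑ i ∈ s, x i)
          = ∑ i ∈ s, QuadraticMap.polar Q (x a) (x i) :=
        map_sum (QuadraticMap.polarBilin Q (x a)) x s
      rw [h1]
      apply Finset.sum_eq_zero
      intro i hi
      apply h a (Finset.mem_insert_self a s) i (Finset.mem_insert_of_mem hi)
      rintro rfl
      exact ha hi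
    rw [this, add_zero]

theorem Q_eq_sum (v : V) : Q v = ∑ i, Q (cp hB i v) := by
  conv_lhs => rw [sum_cp hB v]
  apply Q_sum_of_perp
  intro i _ j _ hij
  exact hB.perp i j hij _ (cp_mem hB i v) _ (cp_mem hB j v)

theorem exists_cp_nonsing {v : V} (hv : Q v ≠ 0) : ∃ l, Q (cp hB l v) ≠ 0 := by
  by_contra hcon
  push Not at hcon
  apply hv
  rw [Q_eq_sum hB v]
  exact Finset.sum_eq_zero (fun i _ => hcon i)

end comp

section irr

variable {Q : QuadraticForm F V} {W U : Submodule F V} [FiniteDimensional F V]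
  (hd : OrthDec Q W U)

include hd

/-- the Siegel transformations of a summand map it to itself. -/
theorem siegE_mem_left {a b x : V} (ha : a ∈ W) (hb : b ∈ W) (hQa : Q a = 0)
    (hab : QuadraticMap.polar Q a b = 0) (hx : x ∈ W) : siegE Q a b x ∈ W := by
  rw [siegE_apply Q hQa hab, sieg_apply]
  exact W.sub_mem (W.sub_mem (W.add_mem hx (W.smul_mem _ ha)) (W.smul_mem _ hb)) (W.smul_mem _ ha)

/-- a subspace invariant under the generators is invariant under the Siegel group of `W`. -/
theorem SGW_inv (W₀ : Submodule F V)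
    (hinv : ∀ a ∈ W, ∀ b ∈ W, Q a = 0 → QuadraticMap.polar Q a b = 0 →
      ∀ x ∈ W₀, siegE Q a b x ∈ W₀) :
    ∀ g ∈ SGW Q W, ∀ x ∈ W₀, (g : V ≃ₗ[F] V) x ∈ W₀ := by
  intro g hg
  unfold SGW at hg
  induction hg using Subgroup.closure_induction with
  | mem g hg =>
    obtain ⟨a, ha, b, hb, hQa, hab, rfl⟩ := hg
    intro x hx
    exact hinv a ha b hb hQa hab x hx
  | one => intro x hx; exact hx
  | mul p q _ _ ihp ihq =>
    intro x hx
    exact ihp _ (ihq x hx)
  | inv p _ ihp =>
    intro x hx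
    have hmap : W₀.map ((p : V ≃ₗ[F] V) : V →ₗ[F] V) = W₀ := by
      apply Submodule.eq_of_le_of_finrank_eq
      · rintro _ ⟨y, hy, rfl⟩
        exact ihp y hy
      · exact LinearEquiv.finrank_map_eq _ _
    rw [← hmap] at hx
    obtain ⟨y, hy, rfl⟩ := hx
    have : ((p⁻¹ : ↥(Isom Q)) : V ≃ₗ[F] V) ((p : V ≃ₗ[F] V) y) = y :=
      (p : V ≃ₗ[F] V).symm_apply_apply y
    rw [LinearEquiv.coe_coe, this]
    exact hy

/-- the Siegel group of `W` maps `W` to itself. -/
theorem SGW_maps {g : ↥(Isom Q)} (hg : g ∈ SGW Q W) {x : V} (hx : x ∈ W) :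
    (g : V ≃ₗ[F] V) x ∈ W :=
  SGW_inv hd W (fun a ha b hb hQa hab x hx => siegE_mem_left hd ha hb hQa hab hx) g hg x hx

/-- a non-singular vector of `W` orthogonal to a given vector of `W`. -/
theorem exists_nonsing_perp (h3 : 3 ≤ finrank F W) {a : V} (ha : a ∈ W) :
    ∃ b ∈ W, QuadraticMap.polar Q a b = 0 ∧ Q b ≠ 0 := by
  by_contra hcon
  push Not at hcon
  obtain ⟨T, hT⟩ : ∃ T : Submodule F V, T = W ⊓ LinearMap.BilinForm.orthogonal
    (QuadraticMap.polarBilin Q) (Submodule.span F {a}) := ⟨_, rfl⟩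
  have hTW : T ≤ W := by rw [hT]; exact inf_le_left
  have hTd : finrank F W ≤ finrank F T + 1 := by
    have := finrank_inf_orth_singleton Q hd.nondeg W a
    rw [← hT] at this
    exact this
  have hTts : ∀ x ∈ T, Q x = 0 := by
    intro x hx
    rw [hT] at hx
    apply hcon x hx.1
    rw [QuadraticMap.polar_comm]
    exact (mem_orth_iff Q _ x).mp hx.2 a (Submodule.mem_span_singleton_self a)
  have hle : T ≤ W ⊓ LinearMap.BilinForm.orthogonal (QuadraticMap.polarBilin Q) T := by
    intro x hx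
    exact ⟨hTW hx, (mem_orth_iff Q T x).mpr (fun y hy => polar_of_ts Q T hTts hx hy)⟩
  have h5 := Submodule.finrank_mono hle
  have h6 := finrank_inf_orth_of_le hd.symm hTW
  omega

variable [Finite F]

/-- **irreducibility in odd characteristic**: a non-zero subspace of the summand `W` of dimension at
least three invariant under the Siegel transformations of `W` is all of `W`. -/
theorem irr_odd (h3 : 3 ≤ finrank F W) (h2 : (2 : F) ≠ 0) (W₀ : Submodule F V) (hW₀ : W₀ ≤ W)
    (hne : W₀ ≠ ⊥)
    (hinv : ∀ a ∈ W, ∀ b ∈ W, Q a = 0 → QuadraticMap.polar Q a b = 0 →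
      ∀ x ∈ W₀, siegE Q a b x ∈ W₀) : W₀ = W := by
  apply le_antisymm hW₀
  obtain ⟨w₀, hw₀, hw₀0⟩ := (Submodule.ne_bot_iff W₀).mp hne
  -- a non-zero singular vector in `W₀`
  obtain ⟨a, haW₀, ha0, hQa⟩ : ∃ a ∈ W₀, a ≠ 0 ∧ Q a = 0 := by
    by_cases hQw : Q w₀ = 0
    · exact ⟨w₀, hw₀, hw₀0, hQw⟩
    -- a singular vector of `W` not orthogonal to `w₀`
    obtain ⟨a, haW, hQa, haw⟩ : ∃ a ∈ W, Q a = 0 ∧ QuadraticMap.polar Q w₀ a ≠ 0 := by
      by_contra hcon
      push Not at hcon
      apply hw₀0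
      apply hd.ndW w₀ (hW₀ hw₀)
      have hle := le_of_singular_le hd h3
        (LinearMap.BilinForm.orthogonal (QuadraticMap.polarBilin Q) (Submodule.span F {w₀}))
        (fun c hc hQc => by
          rw [mem_orth_iff]
          intro y hy
          obtain ⟨t, rfl⟩ := Submodule.mem_span_singleton.mp hy
          rw [QuadraticMap.polar_smul_right, QuadraticMap.polar_comm, hcon c hc hQc, smul_zero])
      intro y hy
      have := (mem_orth_iff Q _ y).mp (hle hy) w₀ (Submodule.mem_span_singleton_self w₀)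
      rw [QuadraticMap.polar_comm]
      exact this
    have ha0 : a ≠ 0 := by
      rintro rfl
      rw [QuadraticMap.polar_zero_right] at haw
      exact haw rfl
    obtain ⟨b, hbW, hab, hQb⟩ := exists_nonsing_perp hd h3 haW
    have hnb : QuadraticMap.polar Q a (-b) = 0 := by
      rw [QuadraticMap.polar_neg_right, hab, neg_zero]
    have e1 := hinv a haW b hbW hQa hab w₀ hw₀
    have e2 := hinv a haW (-b) (W.neg_mem hbW) hQa hnb w₀ hw₀
    rw [siegE_apply Q hQa hab, sieg_apply] at e1
    rw [siegE_apply Q hQa hnb, sieg_apply, QuadraticMap.map_neg, QuadraticMap.polar_neg_right] at e2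
    have e3 : (-(2 * Q b * QuadraticMap.polar Q w₀ a)) • a ∈ W₀ := by
      have := W₀.sub_mem (W₀.sub_mem (W₀.add_mem e1 e2) hw₀) hw₀
      have heq : (w₀ + QuadraticMap.polar Q w₀ b • a - QuadraticMap.polar Q w₀ a • b
          - (Q b * QuadraticMap.polar Q w₀ a) • a
          + (w₀ + -QuadraticMap.polar Q w₀ b • a - QuadraticMap.polar Q w₀ a • -b
          - (Q b * QuadraticMap.polar Q w₀ a) • a) - w₀ - w₀)
          = (-(2 * Q b * QuadraticMap.polar Q w₀ a)) • a := by
        module
      rwa [heq] at this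
    refine ⟨a, ?_, ha0, hQa⟩
    have hc : -(2 * Q b * QuadraticMap.polar Q w₀ a) ≠ 0 :=
      neg_ne_zero.mpr (mul_ne_zero (mul_ne_zero h2 hQb) haw)
    have := W₀.smul_mem (-(2 * Q b * QuadraticMap.polar Q w₀ a))⁻¹ e3
    rwa [smul_smul, inv_mul_cancel₀ hc, one_smul] at this
  -- all singular vectors of `W` lie in `W₀`
  apply le_of_singular_le hd h3
  intro c hcW hc
  by_cases hc0 : c = 0
  · rw [hc0]
    exact W₀.zero_mem
  obtain ⟨g, hg, t, ht0, hgt⟩ := exists_SGW_smul Q W hd.ndW h3 (hW₀ haW₀) hcW hQa hc ha0 hc0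
  have h1 := SGW_inv hd W₀ hinv g hg a haW₀
  rw [hgt] at h1
  have := W₀.smul_mem t⁻¹ h1
  rwa [smul_smul, inv_mul_cancel₀ ht0, one_smul] at this

/-- no non-zero vector of `W` is fixed by all Siegel transformations of `W`. -/
theorem exists_moved (h3 : 3 ≤ finrank F W) (h2 : (2 : F) ≠ 0) {x : V} (hx : x ∈ W)
    (hx0 : x ≠ 0) :
    ∃ a ∈ W, ∃ b ∈ W, Q a = 0 ∧ QuadraticMap.polar Q a b = 0 ∧ siegE Q a b x ≠ x := by
  by_contra hcon
  push Not at hcon
  have h1 : Submodule.span F {x} = W := by
    apply irr_odd hd h3 h2 (Submodule.span F {x})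
      ((Submodule.span_singleton_le_iff_mem x W).mpr hx)
    · intro h
      apply hx0
      have : x ∈ Submodule.span F {x} := Submodule.mem_span_singleton_self x
      rw [h] at this
      exact (Submodule.mem_bot F).mp this
    · intro a ha b hb hQa hab y hy
      obtain ⟨c, rfl⟩ := Submodule.mem_span_singleton.mp hy
      rw [map_smul, hcon a ha b hb hQa hab]
      exact Submodule.smul_mem _ c (Submodule.mem_span_singleton_self x)
  have h4 := finrank_span_singleton (K := F) hx0
  rw [h1] at h4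
  omega

/-- the vectors of a given non-zero norm in `W` are not all orthogonal to a non-zero vector. -/
theorem exists_norm_not_perp (h3 : 3 ≤ finrank F W) (h2 : (2 : F) ≠ 0) {y p : V} (hy : y ∈ W)
    (hy0 : y ≠ 0) (hp : p ∈ W) (hp0 : p ≠ 0) :
    ∃ x ∈ W, Q x = Q y ∧ QuadraticMap.polar Q x p ≠ 0 := by
  by_contra hcon
  push Not at hcon
  obtain ⟨W₀, hW₀⟩ : ∃ W₀ : Submodule F V,
      W₀ = Submodule.span F {v | ∃ g ∈ SGW Q W, v = (g : V ≃ₗ[F] V) y} := ⟨_, rfl⟩
  have hyW₀ : y ∈ W₀ := by
    rw [hW₀]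
    exact Submodule.subset_span ⟨1, (SGW Q W).one_mem, rfl⟩
  have hle : W₀ ≤ W := by
    rw [hW₀, Submodule.span_le]
    rintro _ ⟨g, hg, rfl⟩
    exact SGW_maps hd hg hy
  have heq : W₀ = W := by
    apply irr_odd hd h3 h2 W₀ hle
    · intro h
      rw [h] at hyW₀
      exact hy0 ((Submodule.mem_bot F).mp hyW₀)
    · intro a ha b hb hQa hab x hx
      rw [hW₀] at hx ⊢
      induction hx using Submodule.span_induction with
      | mem v hv =>
        obtain ⟨g, hg, rfl⟩ := hv
        apply Submodule.subset_span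
        exact ⟨siegG Q a b * g, (SGW Q W).mul_mem (siegG_mem_SGW Q W ha hb hQa hab) hg, rfl⟩
      | zero => rw [map_zero]; exact Submodule.zero_mem _
      | add u v _ _ hu hv => rw [map_add]; exact Submodule.add_mem _ hu hv
      | smul c u _ hu => rw [map_smul]; exact Submodule.smul_mem _ c hu
  apply hp0
  apply hd.ndW p hp
  intro w hw
  rw [← heq, hW₀] at hw
  induction hw using Submodule.span_induction with
  | mem v hv =>
    obtain ⟨g, hg, rfl⟩ := hv
    rw [QuadraticMap.polar_comm]
    exact hcon _ (SGW_maps hd hg hy) (g.2 y)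
  | zero => exact QuadraticMap.polar_zero_right _ _
  | add u v _ _ hu hv => rw [QuadraticMap.polar_add_right, hu, hv, add_zero]
  | smul c u _ hu => rw [QuadraticMap.polar_smul_right, hu, smul_zero]

end irr

end Cfsg.Agent.Helper7.OrthBlk
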