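import Mathlib
import Cfsg.Agent.Helper7.OrthBlkA

set_option autoImplicit false
set_option linter.unusedSectionVars false

/-! Orthogonal decompositions into blocks: elements permuting the blocks (helper7). -/

namespace Cfsg.Agent.Helper7.OrthBlk

open Module Cfsg.Agent.Helper8.QuadForm Cfsg.Agent.Helper8.WittQuad Cfsg.Agent.Helper8.OrthOrder
  Cfsg.Agent.Helper8.Siegel Cfsg.Agent.Helper8.SiegelGroup Cfsg.Agent.Helper8.SiegelGeom
  Cfsg.Agent.Helper8.Reflections Cfsg.Agent.Helper7.OrthMax Cfsg.Agent.Helper7.OrthNd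
  Cfsg.Agent.Helper7.OrthPair

variable {F : Type*} [Field F] {V : Type*} [AddCommGroup V] [Module F V]

/-- a product of two reflections in vectors differing by a singular vector is a Siegel
transformation. -/
theorem refl_mul_refl_eq_sieg (Q : QuadraticForm F V) {u w : V} (hu : Q u = 0)
    (huw : QuadraticMap.polar Q u w = 0) (hw : Q w ≠ 0) (l : F) :
    refl Q w * refl Q (w + l • u) = siegE Q u ((-(l / Q w)) • w) := by
  have hwu : QuadraticMap.polar Q w u = 0 := by rw [QuadraticMap.polar_comm]; exact huw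
  have hQ' : Q (w + l • u) = Q w := by
    rw [QuadraticMap.map_add Q, QuadraticMap.map_smul, hu, QuadraticMap.polar_smul_right, hwu]
    simp
  apply LinearEquiv.ext
  intro x
  rw [LinearEquiv.mul_apply, refl_apply Q (w + l • u), hQ',
    siegE_apply Q hu (by rw [QuadraticMap.polar_smul_right, huw, smul_zero]), sieg_apply,
    refl_apply, QuadraticMap.polar_sub_right, QuadraticMap.polar_smul_right,
    QuadraticMap.polar_add_right, QuadraticMap.polar_smul_right, polar_self', hwu,
    QuadraticMap.polar_add_left, QuadraticMap.polar_smul_left, QuadraticMap.polar_smul_right,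
    QuadraticMap.map_smul, QuadraticMap.polar_comm Q x w, QuadraticMap.polar_comm Q x u]
  simp only [smul_eq_mul]
  match_scalars <;> field_simp <;> ring

theorem reflG_mul_reflG_eq_siegG (Q : QuadraticForm F V) {u w : V} (hu : Q u = 0)
    (huw : QuadraticMap.polar Q u w = 0) (hw : Q w ≠ 0) (l : F) :
    reflG Q w * reflG Q (w + l • u) = siegG Q u ((-(l / Q w)) • w) :=
  Subtype.ext (refl_mul_refl_eq_sieg Q hu huw hw l)

theorem reflG_mul_self (Q : QuadraticForm F V) (z : V) : reflG Q z * reflG Q z = 1 :=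
  Subtype.ext (refl_mul_self Q z)

section

variable {Q : QuadraticForm F V} {t : ℕ} {D : Fin t → Submodule F V} [FiniteDimensional F V]
  (hB : Blk Q D) (M : Subgroup ↥(Isom Q))
  (hPM : ∀ g ∈ SG Q, (∀ i, ∃ j, ∀ x ∈ D i, (g : V ≃ₗ[F] V) x ∈ D j) → g ∈ M)

include hB

/-- a reflection in a vector of a block maps every block to itself. -/
theorem refl_blk {i : Fin t} {x : V} (hx : x ∈ D i) (j : Fin t) {v : V} (hv : v ∈ D j) :
    refl Q x v ∈ D j := by
  by_cases hji : j = i
  · subst hji
    rw [refl_apply]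
    exact (D j).sub_mem hv ((D j).smul_mem _ hx)
  · rw [refl_of_perp Q (hB.perp i j (Ne.symm hji) x hx v hv)]
    exact hv

include hPM

/-- Siegel transformations with both parameters in one block lie in `M`. -/
theorem siegG_blk_mem {i : Fin t} {a b : V} (ha : a ∈ D i) (hb : b ∈ D i) (hQa : Q a = 0)
    (hab : QuadraticMap.polar Q a b = 0) : siegG Q a b ∈ M := by
  apply hPM _ (siegG_mem_SG Q hQa hab)
  intro j
  refine ⟨j, fun x hx => ?_⟩
  by_cases hji : j = i
  · subst hji
    exact siegE_mem_left (hB.dec j) ha hb hQa hab hx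
  · rw [siegG_val, siegE_fix Q (hB.perp j i hji x hx a ha) (hB.perp j i hji x hx b hb)]
    exact hx

theorem SGW_blk_le (i : Fin t) : SGW Q (D i) ≤ M := by
  unfold SGW
  rw [Subgroup.closure_le]
  rintro g ⟨a, ha, b, hb, hQa, hab, rfl⟩
  exact siegG_blk_mem hB M hPM ha hb hQa hab

/-- the product of the reflections in two vectors of the same norm, each in some block, lies in
`M`. -/
theorem refl_pair_mem [Finite F] (h5 : 5 ≤ finrank F V) {i j : Fin t} {x y : V} (hx : x ∈ D i)
    (hy : y ∈ D j) (hQx : Q x ≠ 0) (hxy : Q x = Q y) : reflG Q x * reflG Q y ∈ M := by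
  apply hPM _ (refl_mul_refl_mem_SG Q hB.ndQ h5 hQx hxy)
  intro l
  refine ⟨l, fun v hv => ?_⟩
  show refl Q x (refl Q y v) ∈ D l
  exact refl_blk hB hx l (refl_blk hB hy l hv)

end

end Cfsg.Agent.Helper7.OrthBlk
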