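import Mathlib
import Cfsg.Agent.Helper7.OrthBlkB

set_option autoImplicit false
set_option linter.unusedSectionVars false

/-! Orthogonal decompositions into blocks: an isometry exchanging two isometric blocks, and an
element of the commutator subgroup permuting three blocks cyclically (helper7). -/

namespace Cfsg.Agent.Helper7.OrthBlk

open Module Cfsg.Agent.Helper8.QuadForm Cfsg.Agent.Helper8.WittQuad Cfsg.Agent.Helper8.OrthOrder
  Cfsg.Agent.Helper8.Siegel Cfsg.Agent.Helper8.SiegelGroup Cfsg.Agent.Helper8.SiegelGeom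
  Cfsg.Agent.Helper8.Reflections Cfsg.Agent.Helper7.OrthMax Cfsg.Agent.Helper7.OrthNd
  Cfsg.Agent.Helper7.OrthPair

open scoped commutatorElement

variable {F : Type*} [Field F] {V : Type*} [AddCommGroup V] [Module F V]
  {Q : QuadraticForm F V} {t : ℕ} {D : Fin t → Submodule F V} [FiniteDimensional F V]

section swap

variable (hB : Blk Q D) {j l : Fin t} (hjl : j ≠ l) (e : ↥(D j) ≃ₗ[F] ↥(D l))
  (he : ∀ w : ↥(D j), Q ((e w : ↥(D l)) : V) = Q (w : V))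

/-- the component as an element of the block. -/
noncomputable def cpO (i : Fin t) : V →ₗ[F] ↥(D i) :=
  (D i).projectionOnto (LinearMap.BilinForm.orthogonal (QuadraticMap.polarBilin Q) (D i))
    (hB.isCompl i)

theorem cpO_coe (i : Fin t) (v : V) : ((cpO hB i v : ↥(D i)) : V) = cp hB i v := rfl

theorem cpO_of_mem {i : Fin t} {v : V} (hv : v ∈ D i) : cpO hB i v = ⟨v, hv⟩ :=
  Subtype.ext (by rw [cpO_coe]; exact cp_of_mem hB hv)

theorem cpO_of_orth {i : Fin t} {v : V}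
    (hv : v ∈ LinearMap.BilinForm.orthogonal (QuadraticMap.polarBilin Q) (D i)) :
    cpO hB i v = 0 :=
  Subtype.ext (by rw [cpO_coe]; exact cp_of_orth hB hv)

/-- the linear map exchanging the blocks `D j` and `D l` through `e` and fixing the vectors
orthogonal to both. -/
noncomputable def swapLin : V →ₗ[F] V :=
  LinearMap.id - cp hB j - cp hB l + (D l).subtype ∘ₗ (e : ↥(D j) →ₗ[F] ↥(D l)) ∘ₗ cpO hB j
    + (D j).subtype ∘ₗ (e.symm : ↥(D l) →ₗ[F] ↥(D j)) ∘ₗ cpO hB l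

theorem swapLin_apply (x : V) : swapLin hB e x
    = x - cp hB j x - cp hB l x + ((e (cpO hB j x) : ↥(D l)) : V)
      + ((e.symm (cpO hB l x) : ↥(D j)) : V) := rfl

include hjl

theorem rest_mem (x : V) :
    x - cp hB j x - cp hB l x ∈ LinearMap.BilinForm.orthogonal (QuadraticMap.polarBilin Q) (D j)
      ∧ x - cp hB j x - cp hB l x
        ∈ LinearMap.BilinForm.orthogonal (QuadraticMap.polarBilin Q) (D l) := by
  constructor
  · exact Submodule.sub_mem _ (sub_cp_mem hB j x) (hB.le_orth hjl.symm (cp_mem hB l x))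
  · have : x - cp hB j x - cp hB l x = (x - cp hB l x) - cp hB j x := by abel
    rw [this]
    exact Submodule.sub_mem _ (sub_cp_mem hB l x) (hB.le_orth hjl (cp_mem hB j x))

theorem swapLin_of_mem_left {x : V} (hx : x ∈ D j) :
    swapLin hB e x = ((e ⟨x, hx⟩ : ↥(D l)) : V) := by
  rw [swapLin_apply, cp_of_mem hB hx, cpO_of_mem hB hx, cp_of_mem_ne hB hjl hx,
    cpO_of_orth hB (hB.le_orth hjl hx), map_zero]
  simp

theorem swapLin_of_mem_right {x : V} (hx : x ∈ D l) :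
    swapLin hB e x = ((e.symm ⟨x, hx⟩ : ↥(D j)) : V) := by
  rw [swapLin_apply, cp_of_mem hB hx, cpO_of_mem hB hx, cp_of_mem_ne hB hjl.symm hx,
    cpO_of_orth hB (hB.le_orth hjl.symm hx), map_zero]
  simp

theorem swapLin_of_mem_other {m : Fin t} (hmj : m ≠ j) (hml : m ≠ l) {x : V} (hx : x ∈ D m) :
    swapLin hB e x = x := by
  rw [swapLin_apply, cp_of_mem_ne hB hmj hx, cpO_of_orth hB (hB.le_orth hmj hx),
    cp_of_mem_ne hB hml hx, cpO_of_orth hB (hB.le_orth hml hx), map_zero, map_zero]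
  simp

theorem swapLin_swapLin (x : V) : swapLin hB e (swapLin hB e x) = x := by
  obtain ⟨hr1, hr2⟩ := rest_mem hB hjl x
  have h1 : swapLin hB e x = (x - cp hB j x - cp hB l x) + ((e (cpO hB j x) : ↥(D l)) : V)
      + ((e.symm (cpO hB l x) : ↥(D j)) : V) := swapLin_apply hB e x
  have h2 : swapLin hB e (swapLin hB e x) = swapLin hB e (x - cp hB j x - cp hB l x)
      + swapLin hB e ((e (cpO hB j x) : ↥(D l)) : V)
      + swapLin hB e ((e.symm (cpO hB l x) : ↥(D j)) : V) := by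
    conv_lhs => rw [h1]
    rw [map_add, map_add]
  have h3 : swapLin hB e (x - cp hB j x - cp hB l x) = x - cp hB j x - cp hB l x := by
    rw [swapLin_apply, cp_of_orth hB hr1, cp_of_orth hB hr2, cpO_of_orth hB hr1,
      cpO_of_orth hB hr2, map_zero, map_zero]
    simp
  rw [h2, h3, swapLin_of_mem_right hB hjl e (e (cpO hB j x)).2,
    swapLin_of_mem_left hB hjl e (e.symm (cpO hB l x)).2]
  simp only [Subtype.coe_eta, LinearEquiv.symm_apply_apply, LinearEquiv.apply_symm_apply, cpO_coe]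
  abel

include he

theorem Q_swapLin (x : V) : Q (swapLin hB e x) = Q x := by
  obtain ⟨hr1, hr2⟩ := rest_mem hB hjl x
  obtain ⟨r, hr⟩ : ∃ r : V, r = x - cp hB j x - cp hB l x := ⟨_, rfl⟩
  rw [← hr] at hr1 hr2
  have hx : x = r + cp hB j x + cp hB l x := by rw [hr]; abel
  have h1 : swapLin hB e x = r + ((e (cpO hB j x) : ↥(D l)) : V)
      + ((e.symm (cpO hB l x) : ↥(D j)) : V) := by rw [hr]; exact swapLin_apply hB e x
  have hra : ∀ a ∈ D j, QuadraticMap.polar Q r a = 0 := (mem_orth_iff Q _ r).mp hr1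
  have hrb : ∀ b ∈ D l, QuadraticMap.polar Q r b = 0 := (mem_orth_iff Q _ r).mp hr2
  have he' : Q ((e.symm (cpO hB l x) : ↥(D j)) : V) = Q (cp hB l x) := by
    rw [← he, LinearEquiv.apply_symm_apply, cpO_coe]
  have e1 : Q (r + ((e (cpO hB j x) : ↥(D l)) : V) + ((e.symm (cpO hB l x) : ↥(D j)) : V))
      = Q r + Q (cp hB j x) + Q (cp hB l x) := by
    rw [QuadraticMap.map_add Q, QuadraticMap.map_add Q, QuadraticMap.polar_add_left,
      hrb _ (e (cpO hB j x)).2, hra _ (e.symm (cpO hB l x)).2,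
      hB.perp l j hjl.symm _ (e (cpO hB j x)).2 _ (e.symm (cpO hB l x)).2, he, he', cpO_coe]
    ring
  have e2 : Q (r + cp hB j x + cp hB l x) = Q r + Q (cp hB j x) + Q (cp hB l x) := by
    rw [QuadraticMap.map_add Q, QuadraticMap.map_add Q, QuadraticMap.polar_add_left,
      hra _ (cp_mem hB j x), hrb _ (cp_mem hB l x),
      hB.perp j l hjl _ (cp_mem hB j x) _ (cp_mem hB l x)]
    ring
  rw [h1, e1]
  conv_rhs => rw [hx, e2]

/-- the isometry exchanging the blocks `D j` and `D l`. -/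
noncomputable def swapG : ↥(Isom Q) :=
  ⟨LinearEquiv.ofLinear (swapLin hB e) (swapLin hB e)
    (LinearMap.ext (swapLin_swapLin hB hjl e)) (LinearMap.ext (swapLin_swapLin hB hjl e)),
    fun x => Q_swapLin hB hjl e he x⟩

theorem swapG_apply (x : V) : ((swapG hB hjl e he : ↥(Isom Q)) : V ≃ₗ[F] V) x = swapLin hB e x :=
  rfl

theorem swapG_inv : (swapG hB hjl e he)⁻¹ = swapG hB hjl e he := by
  rw [inv_eq_iff_mul_eq_one]
  apply Subtype.ext
  apply LinearEquiv.ext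
  intro x
  show swapLin hB e (swapLin hB e x) = x
  exact swapLin_swapLin hB hjl e x

theorem swapG_left {x : V} (hx : x ∈ D j) :
    ((swapG hB hjl e he : ↥(Isom Q)) : V ≃ₗ[F] V) x ∈ D l := by
  rw [swapG_apply, swapLin_of_mem_left hB hjl e hx]
  exact (e ⟨x, hx⟩).2

theorem swapG_right {x : V} (hx : x ∈ D l) :
    ((swapG hB hjl e he : ↥(Isom Q)) : V ≃ₗ[F] V) x ∈ D j := by
  rw [swapG_apply, swapLin_of_mem_right hB hjl e hx]
  exact (e.symm ⟨x, hx⟩).2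

theorem swapG_other {m : Fin t} (hmj : m ≠ j) (hml : m ≠ l) {x : V} (hx : x ∈ D m) :
    ((swapG hB hjl e he : ↥(Isom Q)) : V ≃ₗ[F] V) x = x := by
  rw [swapG_apply, swapLin_of_mem_other hB hjl e hmj hml hx]

end swap

section cycle

variable (hB : Blk Q D) (M : Subgroup ↥(Isom Q))
  (hPM : ∀ g ∈ SG Q, (∀ i, ∃ j, ∀ x ∈ D i, (g : V ≃ₗ[F] V) x ∈ D j) → g ∈ M)
  (hcomm : commutator ↥(Isom Q) ≤ SG Q)
  (hiso : ∀ i j, ∃ e : ↥(D i) ≃ₗ[F] ↥(D j), ∀ w : ↥(D i), Q ((e w : ↥(D j)) : V) = Q (w : V))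

include hB hPM hcomm hiso

/-- an element of `M` permuting three blocks cyclically. -/
theorem exists_cycle {a b c : Fin t} (hab : a ≠ b) (hbc : b ≠ c) (hac : a ≠ c) :
    ∃ n ∈ M, (∀ x ∈ D a, (n : V ≃ₗ[F] V) x ∈ D c) ∧ (∀ x ∈ D b, (n : V ≃ₗ[F] V) x ∈ D a) ∧
      (∀ x ∈ D c, (n : V ≃ₗ[F] V) x ∈ D b) := by
  obtain ⟨e₁, he₁⟩ := hiso a b
  obtain ⟨e₂, he₂⟩ := hiso b c
  obtain ⟨p, hp⟩ : ∃ p : ↥(Isom Q), p = swapG hB hab e₁ he₁ := ⟨_, rfl⟩
  obtain ⟨q, hq⟩ : ∃ q : ↥(Isom Q), q = swapG hB hbc e₂ he₂ := ⟨_, rfl⟩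
  have hpi : p⁻¹ = p := by rw [hp]; exact swapG_inv hB hab e₁ he₁
  have hqi : q⁻¹ = q := by rw [hq]; exact swapG_inv hB hbc e₂ he₂
  have happ : ∀ x, ((⁅p, q⁆ : ↥(Isom Q)) : V ≃ₗ[F] V) x
      = (p : V ≃ₗ[F] V) ((q : V ≃ₗ[F] V) ((p : V ≃ₗ[F] V) ((q : V ≃ₗ[F] V) x))) := by
    intro x
    rw [commutatorElement_def, hpi, hqi]
    rfl
  have hpa : ∀ x ∈ D a, (p : V ≃ₗ[F] V) x ∈ D b := fun x hx => by
    rw [hp]; exact swapG_left hB hab e₁ he₁ hx
  have hpb : ∀ x ∈ D b, (p : V ≃ₗ[F] V) x ∈ D a := fun x hx => by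
    rw [hp]; exact swapG_right hB hab e₁ he₁ hx
  have hpo : ∀ m, m ≠ a → m ≠ b → ∀ x ∈ D m, (p : V ≃ₗ[F] V) x = x := fun m h1 h2 x hx => by
    rw [hp]; exact swapG_other hB hab e₁ he₁ h1 h2 hx
  have hqb : ∀ x ∈ D b, (q : V ≃ₗ[F] V) x ∈ D c := fun x hx => by
    rw [hq]; exact swapG_left hB hbc e₂ he₂ hx
  have hqc : ∀ x ∈ D c, (q : V ≃ₗ[F] V) x ∈ D b := fun x hx => by
    rw [hq]; exact swapG_right hB hbc e₂ he₂ hx
  have hqo : ∀ m, m ≠ b → m ≠ c → ∀ x ∈ D m, (q : V ≃ₗ[F] V) x = x := fun m h1 h2 x hx => by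
    rw [hq]; exact swapG_other hB hbc e₂ he₂ h1 h2 hx
  have h1 : ∀ x ∈ D a, ((⁅p, q⁆ : ↥(Isom Q)) : V ≃ₗ[F] V) x ∈ D c := by
    intro x hx
    rw [happ, hqo a hab hac x hx]
    have h2 := hqb _ (hpa x hx)
    rw [hpo c hac.symm hbc.symm _ h2]
    exact h2
  have h2 : ∀ x ∈ D b, ((⁅p, q⁆ : ↥(Isom Q)) : V ≃ₗ[F] V) x ∈ D a := by
    intro x hx
    rw [happ]
    have h3 := hqb x hx
    rw [hpo c hac.symm hbc.symm _ h3]
    exact hpb _ (hqc _ h3)
  have h3 : ∀ x ∈ D c, ((⁅p, q⁆ : ↥(Isom Q)) : V ≃ₗ[F] V) x ∈ D b := by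
    intro x hx
    rw [happ]
    have h4 := hpb _ (hqc x hx)
    rw [hqo a hab hac _ h4]
    exact hpa _ h4
  have h4 : ∀ m, m ≠ a → m ≠ b → m ≠ c → ∀ x ∈ D m,
      ((⁅p, q⁆ : ↥(Isom Q)) : V ≃ₗ[F] V) x = x := by
    intro m hma hmb hmc x hx
    rw [happ, hqo m hmb hmc x hx, hpo m hma hmb x hx, hqo m hmb hmc x hx, hpo m hma hmb x hx]
  refine ⟨⁅p, q⁆, ?_, h1, h2, h3⟩
  apply hPM
  · apply hcomm
    rw [commutator_def]
    exact Subgroup.commutator_mem_commutator (Subgroup.mem_top p) (Subgroup.mem_top q)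
  · intro m
    by_cases hma : m = a
    · subst hma; exact ⟨c, h1⟩
    by_cases hmb : m = b
    · subst hmb; exact ⟨a, h2⟩
    by_cases hmc : m = c
    · subst hmc; exact ⟨b, h3⟩
    exact ⟨m, fun x hx => by rw [h4 m hma hmb hmc x hx]; exact hx⟩

end cycle

end Cfsg.Agent.Helper7.OrthBlk
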