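import Mathlib
import Cfsg.Agent.Helper7.OrthBlkC

set_option autoImplicit false
set_option linter.unusedSectionVars false

/-! Orthogonal decompositions into blocks: from a mixed Siegel transformation centred in a block to
the whole Siegel group (helper7). -/

namespace Cfsg.Agent.Helper7.OrthBlk

open Module Cfsg.Agent.Helper8.QuadForm Cfsg.Agent.Helper8.WittQuad Cfsg.Agent.Helper8.OrthOrder
  Cfsg.Agent.Helper8.Siegel Cfsg.Agent.Helper8.SiegelGroup Cfsg.Agent.Helper8.SiegelGeom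
  Cfsg.Agent.Helper8.Reflections Cfsg.Agent.Helper7.OrthMax Cfsg.Agent.Helper7.OrthNd
  Cfsg.Agent.Helper7.OrthPair

variable {F : Type*} [Field F] {V : Type*} [AddCommGroup V] [Module F V]
  {Q : QuadraticForm F V}

/-- the vectors `w` orthogonal to the singular vector `u` with all `siegG u (c • w)` in `M`. -/
def Zs (M : Subgroup ↥(Isom Q)) {u : V} (hu : Q u = 0) : Submodule F V where
  carrier := {w | QuadraticMap.polar Q u w = 0 ∧ ∀ c : F, siegG Q u (c • w) ∈ M}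
  add_mem' := by
    rintro x y ⟨hx, hx'⟩ ⟨hy, hy'⟩
    refine ⟨by rw [QuadraticMap.polar_add_right, hx, hy, add_zero], fun c => ?_⟩
    have h1 : QuadraticMap.polar Q u (c • x) = 0 := by
      rw [QuadraticMap.polar_smul_right, hx, smul_zero]
    have h2 : QuadraticMap.polar Q u (c • y) = 0 := by
      rw [QuadraticMap.polar_smul_right, hy, smul_zero]
    rw [smul_add, ← siegG_mul Q hu h1 h2]
    exact M.mul_mem (hx' c) (hy' c)
  zero_mem' := by
    refine ⟨QuadraticMap.polar_zero_right _ _, fun c => ?_⟩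
    rw [smul_zero, siegG_zero]
    exact M.one_mem
  smul_mem' := by
    rintro s x ⟨hx, hx'⟩
    refine ⟨by rw [QuadraticMap.polar_smul_right, hx, smul_zero], fun c => ?_⟩
    rw [smul_smul]
    exact hx' _

theorem mem_Zs (M : Subgroup ↥(Isom Q)) {u : V} (hu : Q u = 0) (w : V) :
    w ∈ Zs M hu ↔ QuadraticMap.polar Q u w = 0 ∧ ∀ c : F, siegG Q u (c • w) ∈ M := Iff.rfl

theorem siegG_mem_of_Zs {M : Subgroup ↥(Isom Q)} {u : V} {hu : Q u = 0} {w : V}
    (hw : w ∈ Zs M hu) : siegG Q u w ∈ M := by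
  have := hw.2 1
  rwa [one_smul] at this

/-- `Zs` is stable under the elements of `M` fixing `u`. -/
theorem Zs_map {M : Subgroup ↥(Isom Q)} {u : V} (hu : Q u = 0) {p : ↥(Isom Q)} (hp : p ∈ M)
    (hpu : (p : V ≃ₗ[F] V) u = u) {w : V} (hw : w ∈ Zs M hu) :
    (p : V ≃ₗ[F] V) w ∈ Zs M hu := by
  refine ⟨?_, fun c => ?_⟩
  · have := polar_isometry Q p p.2 u w
    rw [hpu] at this
    rw [this]
    exact hw.1
  · have h1 := siegG_conj Q p u (c • w)
    rw [hpu, map_smul] at h1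
    rw [← h1]
    exact M.mul_mem (M.mul_mem hp (hw.2 c)) (M.inv_mem hp)

section

variable {t : ℕ} {D : Fin t → Submodule F V} [FiniteDimensional F V]
  (hB : Blk Q D) (M : Subgroup ↥(Isom Q))
  (hPM : ∀ g ∈ SG Q, (∀ i, ∃ j, ∀ x ∈ D i, (g : V ≃ₗ[F] V) x ∈ D j) → g ∈ M)

/-- all Siegel transformations centred in the block `i` with parameter in the block `j` lie in
`M`. -/
def PP (M : Subgroup ↥(Isom Q)) (D : Fin t → Submodule F V) (i j : Fin t) : Prop :=
  ∀ u ∈ D i, Q u = 0 → ∀ w ∈ D j, siegG Q u w ∈ M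

include hB hPM

theorem blk_mem_Zs {i : Fin t} {u w : V} (hu : u ∈ D i) (hQu : Q u = 0) (hw : w ∈ D i)
    (huw : QuadraticMap.polar Q u w = 0) : w ∈ Zs M hQu :=
  ⟨huw, fun c => siegG_blk_mem hB M hPM hu ((D i).smul_mem c hw) hQu
    (by rw [QuadraticMap.polar_smul_right, huw, smul_zero])⟩

variable [Finite F] (h2 : (2 : F) ≠ 0) (hk : ∀ i, 3 ≤ finrank F (D i))

include h2 hk

/-- a mixed Siegel transformation centred in the block `i` gives a whole second block. -/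
theorem exists_block_le_Zs {i : Fin t} {u z : V} (hu : u ∈ D i) (hQu : Q u = 0)
    (hz : z ∈ Zs M hQu) (hzi : z ∉ D i) : ∃ j, j ≠ i ∧ D j ≤ Zs M hQu := by
  obtain ⟨z', hz'⟩ : ∃ z' : V, z' = z - cp hB i z := ⟨_, rfl⟩
  have hcz : cp hB i z ∈ Zs M hQu := by
    apply blk_mem_Zs hB M hPM hu hQu (cp_mem hB i z)
    rw [← polar_cp' hB i z hu]
    exact hz.1
  have hz'Z : z' ∈ Zs M hQu := by rw [hz']; exact Submodule.sub_mem _ hz hcz
  have hz'0 : z' ≠ 0 := by
    intro h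
    apply hzi
    rw [hz', sub_eq_zero] at h
    rw [h]
    exact cp_mem hB i z
  have hz'i : cp hB i z' = 0 := by
    rw [hz', map_sub, cp_of_mem hB (cp_mem hB i z), sub_self]
  obtain ⟨j, hj⟩ : ∃ j, cp hB j z' ≠ 0 := by
    by_contra hcon
    push Not at hcon
    exact hz'0 (eq_zero_of_cp hB hcon)
  have hji : j ≠ i := by
    rintro rfl
    exact hj hz'i
  refine ⟨j, hji, ?_⟩
  obtain ⟨a, ha, b, hb, hQa, hab, hmove⟩ := exists_moved (hB.dec j) (hk j) h2 (cp_mem hB j z') hj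
  have hσM : siegG Q a b ∈ M := siegG_blk_mem hB M hPM ha hb hQa hab
  have hfix : ∀ a' ∈ D j, ∀ b' ∈ D j, siegE Q a' b' u = u := fun a' ha' b' hb' =>
    siegE_fix Q (hB.perp i j (Ne.symm hji) u hu a' ha') (hB.perp i j (Ne.symm hji) u hu b' hb')
  have hw : siegE Q a b z' - z' ∈ Zs M hQu :=
    Submodule.sub_mem _ (Zs_map hQu hσM (hfix a ha b hb) hz'Z) hz'Z
  have hweq : siegE Q a b z' - z' = siegE Q a b (cp hB j z') - cp hB j z' := by
    rw [siegE_apply Q hQa hab, siegE_apply Q hQa hab, sieg_apply, sieg_apply, polar_cp hB j z' hb,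
      polar_cp hB j z' ha]
    abel
  have hwj : siegE Q a b z' - z' ∈ D j := by
    rw [hweq]
    exact (D j).sub_mem (siegE_mem_left (hB.dec j) ha hb hQa hab (cp_mem hB j z')) (cp_mem hB j z')
  have hw0 : siegE Q a b z' - z' ≠ 0 := by
    rw [hweq]
    exact sub_ne_zero.mpr hmove
  have heq : Zs M hQu ⊓ D j = D j := by
    apply irr_odd (hB.dec j) (hk j) h2 _ inf_le_right
    · intro h
      have : siegE Q a b z' - z' ∈ Zs M hQu ⊓ D j := ⟨hw, hwj⟩
      rw [h] at this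
      exact hw0 ((Submodule.mem_bot F).mp this)
    · intro a' ha' b' hb' hQa' hab' x hx
      exact ⟨Zs_map hQu (siegG_blk_mem hB M hPM ha' hb' hQa' hab') (hfix a' ha' b' hb') hx.1,
        siegE_mem_left (hB.dec j) ha' hb' hQa' hab' hx.2⟩
  rw [← heq]
  exact inf_le_left

/-- from one centre to all centres of the block. -/
theorem PP_of_le_Zs {i j : Fin t} (hji : j ≠ i) {u : V} (hu : u ∈ D i) (hu0 : u ≠ 0)
    (hQu : Q u = 0) (hle : D j ≤ Zs M hQu) : PP M D i j := by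
  intro u' hu' hQu' w hw
  by_cases hu'0 : u' = 0
  · rw [hu'0, siegG_zero_left]
    exact M.one_mem
  obtain ⟨g, hg, s, hs0, hgs⟩ := exists_SGW_smul Q (D i) (hB.nd i) (hk i) hu hu' hQu hQu' hu0 hu'0
  have hgM : g ∈ M := SGW_blk_le hB M hPM i hg
  have hgw : ∀ w' ∈ D j, (g : V ≃ₗ[F] V) w' = w' := fun w' hw' =>
    SGW_fix Q (D i) hg (fun y hy => hB.perp j i hji w' hw' y hy)
  have h1 := siegG_conj Q g u (s⁻¹ • w)
  rw [hgs, hgw _ ((D j).smul_mem _ hw)] at h1
  have hu'w : QuadraticMap.polar Q u' w = 0 := hB.perp i j (Ne.symm hji) u' hu' w hw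
  have h3 : siegG Q (s • u') (s⁻¹ • w) = siegG Q u' w := by
    apply Subtype.ext
    rw [siegG_val, siegG_val, siegE_smul_left Q hQu'
      (by rw [QuadraticMap.polar_smul_right, hu'w, smul_zero]), smul_smul, mul_inv_cancel₀ hs0,
      one_smul]
  rw [← h3, ← h1]
  exact M.mul_mem (M.mul_mem hgM (siegG_mem_of_Zs (hle ((D j).smul_mem _ hw)))) (M.inv_mem hgM)

omit h2 in
/-- symmetry. -/
theorem PP_symm {a b : Fin t} (hab : a ≠ b) (h : PP M D a b) : PP M D b a := by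
  intro w hw hQw v hv
  have hle : D a ≤ Zs M hQw := by
    apply le_of_singular_le (hB.dec a) (hk a)
    intro c hc hQc
    have hwc : QuadraticMap.polar Q w c = 0 := hB.perp b a (Ne.symm hab) w hw c hc
    refine ⟨hwc, fun s => ?_⟩
    have hQsc : Q (s • c) = 0 := by rw [QuadraticMap.map_smul, hQc, smul_zero]
    rw [siegG_swap Q hQw hQsc (by rw [QuadraticMap.polar_smul_right, hwc, smul_zero])]
    exact h _ ((D a).smul_mem s hc) hQsc _ ((D b).neg_mem hw)
  exact siegG_mem_of_Zs (hle hv)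

end

section

variable {t : ℕ} {D : Fin t → Submodule F V} [FiniteDimensional F V]
  (hB : Blk Q D) (M : Subgroup ↥(Isom Q))
  (hPM : ∀ g ∈ SG Q, (∀ i, ∃ j, ∀ x ∈ D i, (g : V ≃ₗ[F] V) x ∈ D j) → g ∈ M)
  (hcomm : commutator ↥(Isom Q) ≤ SG Q)
  (hiso : ∀ i j, ∃ e : ↥(D i) ≃ₗ[F] ↥(D j), ∀ w : ↥(D i), Q ((e w : ↥(D j)) : V) = Q (w : V))

include hB hPM hcomm hiso

/-- moving a pair of blocks by a cyclic permutation of three blocks. -/
theorem PP_cycle {i j l : Fin t} (hij : i ≠ j) (hli : l ≠ i) (hlj : l ≠ j) (h : PP M D i j) :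
    PP M D l i := by
  obtain ⟨n, hn, h1, -, h3⟩ := exists_cycle hB M hPM hcomm hiso hlj hij.symm hli
  intro u hu hQu w hw
  have h4 : siegG Q ((n : V ≃ₗ[F] V) u) ((n : V ≃ₗ[F] V) w) ∈ M :=
    h _ (h1 u hu) (by rw [n.2 u]; exact hQu) _ (h3 w hw)
  rw [← siegG_conj] at h4
  have h5 : siegG Q u w = n⁻¹ * (n * siegG Q u w * n⁻¹) * n := by group
  rw [h5]
  exact M.mul_mem (M.mul_mem (M.inv_mem hn) h4) hn

end

end Cfsg.Agent.Helper7.OrthBlk
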