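import Mathlib
import Cfsg.Agent.Helper7.OrthBlkD

set_option autoImplicit false
set_option linter.unusedSectionVars false

/-! Orthogonal decompositions into blocks: a mixed Siegel transformation centred in a block
generates, with the stabiliser of the decomposition, the whole Siegel group (helper7). -/

namespace Cfsg.Agent.Helper7.OrthBlk

open Module Cfsg.Agent.Helper8.QuadForm Cfsg.Agent.Helper8.WittQuad Cfsg.Agent.Helper8.OrthOrder
  Cfsg.Agent.Helper8.Siegel Cfsg.Agent.Helper8.SiegelGroup Cfsg.Agent.Helper8.SiegelGeom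
  Cfsg.Agent.Helper8.Reflections Cfsg.Agent.Helper7.OrthMax Cfsg.Agent.Helper7.OrthNd
  Cfsg.Agent.Helper7.OrthPair

variable {F : Type*} [Field F] {V : Type*} [AddCommGroup V] [Module F V]
  {Q : QuadraticForm F V}

section

variable {W U : Submodule F V} [Finite F] [FiniteDimensional F V] (hd : OrthDec Q W U)
  (M : Subgroup ↥(Isom Q)) (hSU : SGW Q U ≤ M)

include hd hSU

/-- a full root group at a non-zero singular vector of `U`, together with the Siegel group of `U`,
gives the whole Siegel group. -/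
theorem top_of_RS_of_SGW (h3 : 3 ≤ finrank F U) {u₁ : V} (hu₁ : u₁ ∈ U) (hu₁0 : u₁ ≠ 0)
    (hR : RS Q M u₁) : SG Q ≤ M := by
  have hQu₁ := hR.1
  -- (a) singular vectors of `U`
  have hA : ∀ a ∈ U, Q a = 0 → RS Q M a := by
    intro a ha hQa
    by_cases ha0 : a = 0
    · rw [ha0]
      have := RS_smul Q hR 0
      rwa [zero_smul] at this
    obtain ⟨g, hg, t, ht0, hgt⟩ := exists_SGW_smul Q U hd.ndU h3 hu₁ ha hQu₁ hQa hu₁0 ha0
    have h1 := RS_map Q (hSU hg) hR
    rw [hgt] at h1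
    have := RS_smul Q h1 t⁻¹
    rwa [smul_smul, inv_mul_cancel₀ ht0, one_smul] at this
  -- (b) singular vectors outside `W`
  have hB : ∀ a', Q a' = 0 → a' ∉ W → RS Q M a' := by
    intro a' hQa' ha'W
    obtain ⟨w, hw, x, hx, rfl⟩ := hd.exists_dec a'
    have hx0 : x ≠ 0 := by
      rintro rfl
      apply ha'W
      rw [add_zero]
      exact hw
    obtain ⟨u₂, hu₂, hQu₂, hu₂x⟩ : ∃ u₂ ∈ U, Q u₂ = 0 ∧ QuadraticMap.polar Q u₂ x ≠ 0 := by
      by_contra hcon
      push Not at hcon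
      apply hx0
      apply hd.ndU x hx
      have hle := le_of_singular_le hd.symm h3
        (LinearMap.BilinForm.orthogonal (QuadraticMap.polarBilin Q) (Submodule.span F {x}))
        (fun c hc hQc => by
          rw [mem_orth_iff]
          intro y hy
          obtain ⟨t, rfl⟩ := Submodule.mem_span_singleton.mp hy
          rw [QuadraticMap.polar_smul_right, hcon c hc hQc, smul_zero])
      intro y hy
      have := (mem_orth_iff Q _ y).mp (hle hy) x (Submodule.mem_span_singleton_self x)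
      rw [QuadraticMap.polar_comm]
      exact this
    have hu₂0 : u₂ ≠ 0 := by
      rintro rfl
      rw [QuadraticMap.polar_zero_left] at hu₂x
      exact hu₂x rfl
    obtain ⟨f₂, hf₂, hQf₂, huf₂⟩ := hd.symm.exists_hyp_in hu₂ hu₂0 hQu₂
    have h1 : QuadraticMap.polar Q u₂ (w + x) = QuadraticMap.polar Q u₂ x := by
      rw [QuadraticMap.polar_add_right, QuadraticMap.polar_comm Q u₂ w, hd.perp w hw u₂ hu₂,
        zero_add]
    apply RS_move Q (hA u₂ hu₂ hQu₂) (RS_smul Q (hA f₂ hf₂ hQf₂) (QuadraticMap.polar Q u₂ x)) hQa'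
    · rw [QuadraticMap.polar_smul_right, huf₂, smul_eq_mul, mul_one]
      exact hu₂x
    · rw [h1, QuadraticMap.polar_smul_right, huf₂, smul_eq_mul, mul_one]
  -- (c) singular vectors of `W`
  have hC : ∀ a', Q a' = 0 → RS Q M a' := by
    intro a' hQa'
    by_cases ha'W : a' ∈ W
    swap
    · exact hB a' hQa' ha'W
    by_cases ha'0 : a' = 0
    · rw [ha'0]
      have := RS_smul Q hR 0
      rwa [zero_smul] at this
    obtain ⟨a'', ha'', hQa'', ha'a''⟩ := hd.exists_hyp_in ha'W ha'0 hQa'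
    obtain ⟨f₁, hf₁, hQf₁, huf₁⟩ := hd.symm.exists_hyp_in hu₁ hu₁0 hQu₁
    have hQu₃ : Q (a'' + u₁) = 0 := by
      rw [QuadraticMap.map_add Q, hQa'', hQu₁, hd.perp a'' ha'' u₁ hu₁]
      ring
    have hu₃W : a'' + u₁ ∉ W := by
      intro h
      have h1 : u₁ ∈ W := by
        have := W.sub_mem h ha''
        rwa [add_sub_cancel_left] at this
      have : u₁ ∈ W ⊓ U := ⟨h1, hu₁⟩
      rw [hd.inf_eq_bot] at this
      exact hu₁0 ((Submodule.mem_bot F).mp this)
    have hR₃ := hB _ hQu₃ hu₃W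
    have h1 : QuadraticMap.polar Q (a'' + u₁) f₁ = 1 := by
      rw [QuadraticMap.polar_add_left, hd.perp a'' ha'' f₁ hf₁, zero_add, huf₁]
    have h2 : QuadraticMap.polar Q (a'' + u₁) a' = 1 := by
      rw [QuadraticMap.polar_add_left, QuadraticMap.polar_comm Q a'' a', ha'a'',
        QuadraticMap.polar_comm Q u₁ a', hd.perp a' ha'W u₁ hu₁, add_zero]
    apply RS_move Q hR₃ (hA f₁ hf₁ hQf₁) hQa'
    · rw [h1]
      exact one_ne_zero
    · rw [h1, h2]
  unfold SG SGW
  rw [Subgroup.closure_le]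
  rintro g ⟨c, -, z, -, hc, hcz, rfl⟩
  exact (hC c hc).2 z hcz

end

section

variable {t : ℕ} {D : Fin t → Submodule F V} [FiniteDimensional F V]
  (hB : Blk Q D) (M : Subgroup ↥(Isom Q))
  (hPM : ∀ g ∈ SG Q, (∀ i, ∃ j, ∀ x ∈ D i, (g : V ≃ₗ[F] V) x ∈ D j) → g ∈ M)

include hB hPM

/-- the full root group at a singular vector of a block, from the mixed Siegel transformations. -/
theorem RS_of_PP {i : Fin t} {u : V} (hu : u ∈ D i) (hQu : Q u = 0)
    (hall : ∀ l, l ≠ i → PP M D i l) : RS Q M u := by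
  refine ⟨hQu, fun w hw => ?_⟩
  have hmem : w ∈ Zs M hQu := by
    rw [sum_cp hB w]
    apply Submodule.sum_mem
    intro l _
    by_cases hli : l = i
    · subst hli
      apply blk_mem_Zs hB M hPM hu hQu (cp_mem hB l w)
      rw [← polar_cp' hB l w hu]
      exact hw
    · refine ⟨hB.perp i l (Ne.symm hli) u hu _ (cp_mem hB l w), fun c => ?_⟩
      exact hall l hli u hu hQu _ ((D l).smul_mem c (cp_mem hB l w))
  exact siegG_mem_of_Zs hmem

variable (hcomm : commutator ↥(Isom Q) ≤ SG Q)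
  (hiso : ∀ i j, ∃ e : ↥(D i) ≃ₗ[F] ↥(D j), ∀ w : ↥(D i), Q ((e w : ↥(D j)) : V) = Q (w : V))
  [Finite F] (h2 : (2 : F) ≠ 0) (hk : ∀ i, 3 ≤ finrank F (D i))

include hcomm hiso h2 hk

/-- **a mixed Siegel transformation centred in a block gives the whole Siegel group.** -/
theorem top_of_mixed {i : Fin t} {u z : V} (hu : u ∈ D i) (hu0 : u ≠ 0) (hQu : Q u = 0)
    (huz : QuadraticMap.polar Q u z = 0) (hzi : z ∉ D i)
    (hz : ∀ c : F, siegG Q u (c • z) ∈ M) : SG Q ≤ M := by
  have hzZ : z ∈ Zs M hQu := ⟨huz, hz⟩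
  obtain ⟨j, hji, hle⟩ := exists_block_le_Zs hB M hPM h2 hk hu hQu hzZ hzi
  have hP : PP M D i j := PP_of_le_Zs hB M hPM h2 hk hji hu hu0 hQu hle
  have hall : ∀ l, l ≠ i → PP M D i l := by
    intro l hli
    by_cases hlj : l = j
    · rw [hlj]; exact hP
    · exact PP_symm hB M hPM hk hli (PP_cycle hB M hPM hcomm hiso (Ne.symm hji) hli hlj hP)
  have hR : RS Q M u := RS_of_PP hB M hPM hu hQu hall
  exact top_of_RS_of_SGW (hB.dec i).symm M (SGW_blk_le hB M hPM i) (hk i) hu hu0 hR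

end

end Cfsg.Agent.Helper7.OrthBlk
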