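import Mathlib
import Cfsg.Agent.Helper7.OrthBlkE

set_option autoImplicit false
set_option linter.unusedSectionVars false

/-! Orthogonal decompositions into blocks: from a product of two reflections, one of them in a
vector outside all blocks, to a mixed Siegel transformation centred in a block (helper7). -/

namespace Cfsg.Agent.Helper7.OrthBlk

open Module Cfsg.Agent.Helper8.QuadForm Cfsg.Agent.Helper8.WittQuad Cfsg.Agent.Helper8.OrthOrder
  Cfsg.Agent.Helper8.Siegel Cfsg.Agent.Helper8.SiegelGroup Cfsg.Agent.Helper8.SiegelGeom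
  Cfsg.Agent.Helper8.Reflections Cfsg.Agent.Helper7.OrthMax Cfsg.Agent.Helper7.OrthNd
  Cfsg.Agent.Helper7.OrthPair

variable {F : Type*} [Field F] {V : Type*} [AddCommGroup V] [Module F V]
  {Q : QuadraticForm F V}

section repr

variable {W U : Submodule F V} [Finite F] [FiniteDimensional F V] (hd : OrthDec Q W U)

include hd

/-- a non-degenerate summand of dimension at least two represents every scalar. -/
theorem exists_norm_in (h2 : 2 ≤ finrank F W) (c : F) : ∃ y ∈ W, Q y = c := by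
  have hnd : Nondeg (Q.comp W.subtype) := (nondeg_comp_subtype_iff Q W).mpr hd.ndW
  obtain ⟨y, hy⟩ := exists_repr (Q.comp W.subtype) hnd h2 c
  exact ⟨y.1, y.2, hy⟩

/-- the vectors of a summand of dimension at least three orthogonal to a non-singular vector of it
represent every scalar (odd characteristic). -/
theorem exists_norm_perp_in (h3 : 3 ≤ finrank F W) (h2 : (2 : F) ≠ 0) {v : V} (hv : v ∈ W)
    (hQv : Q v ≠ 0) (c : F) : ∃ y ∈ W, QuadraticMap.polar Q v y = 0 ∧ Q y = c := by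
  have hnd : Nondeg (Q.comp W.subtype) := (nondeg_comp_subtype_iff Q W).mpr hd.ndW
  have hvv : QuadraticMap.polar (Q.comp W.subtype) (⟨v, hv⟩ : ↥W) ⟨v, hv⟩ ≠ 0 := by
    rw [polar_comp_subtype]
    show QuadraticMap.polar Q v v ≠ 0
    rw [polar_self']
    exact mul_ne_zero h2 hQv
  have hnd' := perpVec_nondeg (Q.comp W.subtype) hnd hvv
  have hfr := finrank_perpVec (Q.comp W.subtype) hvv
  have hnd'' : Nondeg ((Q.comp W.subtype).comp (perpVec (Q.comp W.subtype) ⟨v, hv⟩).subtype) :=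
    (nondeg_comp_subtype_iff _ _).mpr hnd'
  obtain ⟨y, hy⟩ := exists_repr _ hnd'' (by omega) c
  refine ⟨((y : ↥W) : V), (y : ↥W).2, ?_, hy⟩
  have := (mem_perpVec (Q.comp W.subtype) ⟨v, hv⟩ (y : ↥W)).mp y.2
  rw [polar_comp_subtype] at this
  exact this

end repr

section

variable {t : ℕ} {D : Fin t → Submodule F V} [FiniteDimensional F V]
  (hB : Blk Q D) (M : Subgroup ↥(Isom Q))
  (hPM : ∀ g ∈ SG Q, (∀ i, ∃ j, ∀ x ∈ D i, (g : V ≃ₗ[F] V) x ∈ D j) → g ∈ M)

/-- a mixed Siegel transformation centred in a block. -/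
def Goal (M : Subgroup ↥(Isom Q)) (D : Fin t → Submodule F V) : Prop :=
  ∃ i, ∃ u ∈ D i, u ≠ 0 ∧ Q u = 0 ∧ ∃ z, QuadraticMap.polar Q u z = 0 ∧ z ∉ D i ∧
    ∀ c : F, siegG Q u (c • z) ∈ M

/-- `z` is non-singular and the product of the reflection in `z` with the reflection in any vector
of the same norm lying in a block is in `M`. -/
def IsSeed (M : Subgroup ↥(Isom Q)) (D : Fin t → Submodule F V) (z : V) : Prop :=
  Q z ≠ 0 ∧ ∀ j, ∀ y ∈ D j, Q y = Q z → reflG Q z * reflG Q y ∈ M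

variable [Finite F] (h5 : 5 ≤ finrank F V) (h2 : (2 : F) ≠ 0) (hk : ∀ i, 3 ≤ finrank F (D i))
  (ht : 2 ≤ t)

include hB hPM h5

/-- one block vector of the right norm suffices. -/
theorem isSeed_of_one {z : V} (hz : Q z ≠ 0) {j : Fin t} {y : V} (hy : y ∈ D j) (hyz : Q y = Q z)
    (h : reflG Q z * reflG Q y ∈ M) : IsSeed M D z := by
  refine ⟨hz, fun j' y' hy' hy'z => ?_⟩
  have h1 : reflG Q y * reflG Q y' ∈ M :=
    refl_pair_mem hB M hPM h5 hy hy' (by rw [hyz]; exact hz) (by rw [hyz, hy'z])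
  have h3 : reflG Q z * reflG Q y' = (reflG Q z * reflG Q y) * (reflG Q y * reflG Q y') := by
    rw [mul_assoc, ← mul_assoc (reflG Q y), reflG_mul_self, one_mul]
  rw [h3]
  exact M.mul_mem h h1

include h2 hk ht

/-- the step with a singular vector of the block orthogonal to the component. -/
theorem goal_of_seed_perp {z : V} (hz : IsSeed M D z) {l : Fin t} (hzl : z ∉ D l)
    (hQl : Q (cp hB l z) ≠ 0) {u : V} (hu : u ∈ D l) (hu0 : u ≠ 0) (hQu : Q u = 0)
    (huz : QuadraticMap.polar Q u (cp hB l z) = 0) : Goal M D := by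
  have huz' : QuadraticMap.polar Q u z = 0 := by rw [polar_cp' hB l z hu]; exact huz
  refine ⟨l, u, hu, hu0, hQu, z, huz', hzl, fun c' => ?_⟩
  -- another block
  obtain ⟨j, hjl⟩ : ∃ j : Fin t, j ≠ l := by
    by_cases h0 : l = ⟨0, by omega⟩
    · exact ⟨⟨1, by omega⟩, by rw [h0]; intro h; exact absurd (Fin.mk.inj_iff.mp h) (by norm_num)⟩
    · exact ⟨⟨0, by omega⟩, Ne.symm h0⟩
  obtain ⟨y, hy, hQy⟩ := exists_norm_in (hB.dec j) (by have := hk j; omega) (Q z)
  obtain ⟨c, hc⟩ : ∃ c : F, c = -(c' * Q z) / (2 * Q (cp hB l z)) := ⟨_, rfl⟩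
  have hucz : QuadraticMap.polar Q u (c • cp hB l z) = 0 := by
    rw [QuadraticMap.polar_smul_right, huz, smul_zero]
  have hsM : siegG Q u (c • cp hB l z) ∈ M :=
    siegG_blk_mem hB M hPM hu ((D l).smul_mem c (cp_mem hB l z)) hQu hucz
  have hsy : ((siegG Q u (c • cp hB l z) : ↥(Isom Q)) : V ≃ₗ[F] V) y = y := by
    rw [siegG_val]
    exact siegE_fix Q (hB.perp j l hjl y hy u hu)
      (hB.perp j l hjl y hy _ ((D l).smul_mem c (cp_mem hB l z)))
  have hsz : ((siegG Q u (c • cp hB l z) : ↥(Isom Q)) : V ≃ₗ[F] V) z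
      = z + (-(c' * Q z)) • u := by
    rw [siegG_val, siegE_apply Q hQu hucz, sieg_apply, QuadraticMap.polar_comm Q z u, huz',
      QuadraticMap.polar_smul_right, polar_cp hB l z (cp_mem hB l z), polar_self']
    have hne : 2 * Q (cp hB l z) ≠ 0 := mul_ne_zero h2 hQl
    have : c • (2 * Q (cp hB l z)) = -(c' * Q z) := by
      rw [hc, smul_eq_mul, div_mul_cancel₀ _ hne]
    rw [this]
    simp
  have hm₀ : reflG Q z * reflG Q y ∈ M := hz.2 j y hy hQy
  have hconj : siegG Q u (c • cp hB l z) * (reflG Q z * reflG Q y)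
      * (siegG Q u (c • cp hB l z))⁻¹ = reflG Q (z + (-(c' * Q z)) • u) * reflG Q y := by
    have e : ∀ (s a b : ↥(Isom Q)), s * (a * b) * s⁻¹ = (s * a * s⁻¹) * (s * b * s⁻¹) := by
      intro s a b; group
    rw [e, reflG_conj, reflG_conj, hsy, hsz]
  have hm₁ : reflG Q (z + (-(c' * Q z)) • u) * reflG Q y ∈ M := by
    rw [← hconj]
    exact M.mul_mem (M.mul_mem hsM hm₀) (M.inv_mem hsM)
  have hprod : reflG Q z * reflG Q (z + (-(c' * Q z)) • u)
      = (reflG Q z * reflG Q y) * (reflG Q (z + (-(c' * Q z)) • u) * reflG Q y)⁻¹ := by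
    rw [mul_inv_rev, reflG_inv, reflG_inv, mul_assoc, ← mul_assoc (reflG Q y), reflG_mul_self,
      one_mul]
  have hfin := reflG_mul_reflG_eq_siegG Q hQu huz' hz.1 (-(c' * Q z))
  have hcoef : -(-(c' * Q z) / Q z) = c' := by
    field_simp [hz.1]
  rw [hcoef] at hfin
  rw [← hfin, hprod]
  exact M.mul_mem hm₀ (M.inv_mem hm₁)

/-- the step with a singular vector of the block not orthogonal to the component: pass to another
seed. -/
theorem goal_of_seed_shift {c₀ : F} (hc₀ : c₀ ≠ 0) (hc₀' : c₀ ^ 2 ≠ 1) {z : V} (hz : IsSeed M D z)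
    {l : Fin t} (hzl : z ∉ D l) (hQl : Q (cp hB l z) ≠ 0) {u₀ : V} (hu₀ : u₀ ∈ D l)
    (hu₀0 : u₀ ≠ 0) (hQu₀ : Q u₀ = 0) (hu₀z : QuadraticMap.polar Q u₀ (cp hB l z) ≠ 0) :
    Goal M D := by
  obtain ⟨d₀, hd₀, hud₀, hQd₀⟩ := exists_nonsing_perp (hB.dec l) (hk l) hu₀
  obtain ⟨zl, hzldef⟩ : ∃ zl : V, zl = cp hB l z := ⟨_, rfl⟩
  rw [← hzldef] at hQl hu₀z
  have hzlD : zl ∈ D l := by rw [hzldef]; exact cp_mem hB l z
  -- the coefficient `λ`
  obtain ⟨lam, hlam0, hlam⟩ : ∃ lam : F, lam ≠ 0 ∧ lam ^ 2 * Q d₀ + (Q z - Q zl) ≠ 0 := by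
    by_cases h1 : Q d₀ + (Q z - Q zl) = 0
    · refine ⟨c₀, hc₀, ?_⟩
      have : c₀ ^ 2 * Q d₀ + (Q z - Q zl) = (c₀ ^ 2 - 1) * Q d₀ := by linear_combination h1
      rw [this]
      exact mul_ne_zero (sub_ne_zero.mpr hc₀') hQd₀
    · exact ⟨1, one_ne_zero, by rw [one_pow, one_mul]; exact h1⟩
  obtain ⟨mu, hmu⟩ : ∃ mu : F, mu = (Q z - 2 * Q zl - lam * QuadraticMap.polar Q d₀ zl)
      / QuadraticMap.polar Q u₀ zl := ⟨_, rfl⟩
  obtain ⟨w, hw⟩ : ∃ w : V, w = lam • d₀ + mu • u₀ := ⟨_, rfl⟩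
  have hwD : w ∈ D l := by
    rw [hw]; exact (D l).add_mem ((D l).smul_mem _ hd₀) ((D l).smul_mem _ hu₀)
  have hwz : QuadraticMap.polar Q w zl = Q z - 2 * Q zl := by
    rw [hw, QuadraticMap.polar_add_left, QuadraticMap.polar_smul_left,
      QuadraticMap.polar_smul_left, hmu, smul_eq_mul, smul_eq_mul, div_mul_cancel₀ _ hu₀z]
    ring
  have hdu : QuadraticMap.polar Q d₀ u₀ = 0 := by rw [QuadraticMap.polar_comm]; exact hud₀
  have hQw : Q w = lam ^ 2 * Q d₀ := by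
    rw [hw, QuadraticMap.map_add Q, QuadraticMap.map_smul, QuadraticMap.map_smul, hQu₀,
      QuadraticMap.polar_smul_left, QuadraticMap.polar_smul_right, hdu]
    simp only [smul_eq_mul]
    ring
  have huw : QuadraticMap.polar Q u₀ w = 0 := by
    rw [hw, QuadraticMap.polar_add_right, QuadraticMap.polar_smul_right,
      QuadraticMap.polar_smul_right, hud₀, polar_self', hQu₀]
    simp
  obtain ⟨x, hx⟩ : ∃ x : V, x = w + zl := ⟨_, rfl⟩
  have hxD : x ∈ D l := by rw [hx]; exact (D l).add_mem hwD hzlD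
  have hQx : Q x = lam ^ 2 * Q d₀ + (Q z - Q zl) := by
    rw [hx, QuadraticMap.map_add Q, hQw, hwz]
    ring
  have hzx : QuadraticMap.polar Q z x = Q z := by
    rw [polar_cp hB l z hxD, ← hzldef, hx, QuadraticMap.polar_add_right, polar_self',
      QuadraticMap.polar_comm Q zl w, hwz]
    ring
  have hrx : refl Q z x = x - z := by
    rw [refl_apply, hzx, div_self hz.1, one_smul]
  -- the new seed
  obtain ⟨j, hjl⟩ : ∃ j : Fin t, j ≠ l := by
    by_cases h0 : l = ⟨0, by omega⟩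
    · exact ⟨⟨1, by omega⟩, by rw [h0]; intro h; exact absurd (Fin.mk.inj_iff.mp h) (by norm_num)⟩
    · exact ⟨⟨0, by omega⟩, Ne.symm h0⟩
  obtain ⟨y, hy, hQy⟩ := exists_norm_in (hB.dec j) (by have := hk j; omega) (Q z)
  obtain ⟨y₀, hy₀, hzy₀, hQy₀⟩ := exists_norm_perp_in (hB.dec l) (hk l) h2 hzlD hQl (Q x)
  have hm : reflG Q z * reflG Q y ∈ M := hz.2 j y hy hQy
  have hmx : ((reflG Q z * reflG Q y : ↥(Isom Q)) : V ≃ₗ[F] V) x = x - z := by
    show refl Q z (refl Q y x) = x - z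
    rw [refl_of_perp Q (hB.perp j l hjl y hy x hxD), hrx]
  have hmy₀ : ((reflG Q z * reflG Q y : ↥(Isom Q)) : V ≃ₗ[F] V) y₀ = y₀ := by
    show refl Q z (refl Q y y₀) = y₀
    rw [refl_of_perp Q (hB.perp j l hjl y hy y₀ hy₀), refl_of_perp Q]
    rw [polar_cp hB l z hy₀, ← hzldef]
    exact hzy₀
  have hQx0 : Q x ≠ 0 := by rw [hQx]; exact hlam
  have hxy₀ : reflG Q x * reflG Q y₀ ∈ M := refl_pair_mem hB M hPM h5 hxD hy₀ hQx0 hQy₀.symm
  have hconj : (reflG Q z * reflG Q y) * (reflG Q x * reflG Q y₀) * (reflG Q z * reflG Q y)⁻¹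
      = reflG Q (x - z) * reflG Q y₀ := by
    have e : ∀ (s a b : ↥(Isom Q)), s * (a * b) * s⁻¹ = (s * a * s⁻¹) * (s * b * s⁻¹) := by
      intro s a b; group
    rw [e, reflG_conj, reflG_conj, hmx, hmy₀]
  have hQz'' : Q (x - z) = Q x := by rw [← hrx, Q_refl]
  have hseed : IsSeed M D (x - z) := by
    apply isSeed_of_one hB M hPM h5 (by rw [hQz'']; exact hQx0) hy₀ (by rw [hQz'', hQy₀])
    rw [← hconj]
    exact M.mul_mem (M.mul_mem hm hxy₀) (M.inv_mem hm)
  have hcp : cp hB l (x - z) = w := by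
    rw [map_sub, cp_of_mem hB hxD, ← hzldef, hx]
    abel
  apply goal_of_seed_perp hB M hPM h5 h2 hk ht hseed (l := l) _ _ hu₀ hu₀0 hQu₀
  · rw [hcp]; exact huw
  · intro h
    apply hzl
    have := (D l).sub_mem hxD h
    rwa [sub_sub_cancel] at this
  · rw [hcp, hQw]
    exact mul_ne_zero (pow_ne_zero 2 hlam0) hQd₀

/-- **from a seed outside all blocks to a mixed Siegel transformation centred in a block.** -/
theorem goal_of_seed (hq : (∀ i, 4 ≤ finrank F (D i)) ∨ ∃ c₀ : F, c₀ ≠ 0 ∧ c₀ ^ 2 ≠ 1) {z : V}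
    (hz : IsSeed M D z) (hzn : ∀ i, z ∉ D i) : Goal M D := by
  obtain ⟨l, hl⟩ := exists_cp_nonsing hB hz.1
  rcases hq with h4 | ⟨c₀, hc₀, hc₀'⟩
  · obtain ⟨u, hu, hu0, hQu, huz⟩ := exists_singular_perp Q hB.ndQ (D l) (h4 l) (cp hB l z)
    exact goal_of_seed_perp hB M hPM h5 h2 hk ht hz (hzn l) hl hu hu0 hQu huz
  · obtain ⟨u₀, hu₀, hu₀0, hQu₀⟩ := exists_singular_in Q (D l) (hk l)
    by_cases huz : QuadraticMap.polar Q u₀ (cp hB l z) = 0
    · exact goal_of_seed_perp hB M hPM h5 h2 hk ht hz (hzn l) hl hu₀ hu₀0 hQu₀ huz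
    · exact goal_of_seed_shift hB M hPM h5 h2 hk ht hc₀ hc₀' hz (hzn l) hl hu₀ hu₀0 hQu₀ huz

end

end Cfsg.Agent.Helper7.OrthBlk
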