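import Mathlib
import Cfsg.Agent.Helper7.OrthBlkF

set_option autoImplicit false
set_option linter.unusedSectionVars false

/-! Orthogonal decompositions into blocks: from a Siegel transformation whose plane lies in no
block to a mixed Siegel transformation centred in a block, or to a seed: the easy cases
(helper7). -/

namespace Cfsg.Agent.Helper7.OrthBlk

open Module Cfsg.Agent.Helper8.QuadForm Cfsg.Agent.Helper8.WittQuad Cfsg.Agent.Helper8.OrthOrder
  Cfsg.Agent.Helper8.Siegel Cfsg.Agent.Helper8.SiegelGroup Cfsg.Agent.Helper8.SiegelGeom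
  Cfsg.Agent.Helper8.Reflections Cfsg.Agent.Helper7.OrthMax Cfsg.Agent.Helper7.OrthNd
  Cfsg.Agent.Helper7.OrthPair

variable {F : Type*} [Field F] {V : Type*} [AddCommGroup V] [Module F V]
  {Q : QuadraticForm F V}

section geom

variable {W U : Submodule F V} [Finite F] [FiniteDimensional F V] (hd : OrthDec Q W U)

include hd

/-- in a summand of dimension at least three: a singular vector orthogonal to `p, p'` with a
vector of its orthogonal not orthogonal to both, or a non-singular vector orthogonal to `p, p'`. -/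
theorem optA_or_nonsing (h3 : 3 ≤ finrank F W) (p p' : V) :
    (∃ c ∈ W, c ≠ 0 ∧ Q c = 0 ∧ QuadraticMap.polar Q c p = 0 ∧ QuadraticMap.polar Q c p' = 0 ∧
      ∃ d ∈ W, QuadraticMap.polar Q c d = 0 ∧
        ¬ (QuadraticMap.polar Q d p = 0 ∧ QuadraticMap.polar Q d p' = 0)) ∨
    ∃ y ∈ W, Q y ≠ 0 ∧ QuadraticMap.polar Q y p = 0 ∧ QuadraticMap.polar Q y p' = 0 := by
  obtain ⟨c, hcY, hc0⟩ : ∃ c ∈ W ⊓ LinearMap.BilinForm.orthogonal (QuadraticMap.polarBilin Q)
      (Submodule.span F {p}) ⊓ LinearMap.BilinForm.orthogonal (QuadraticMap.polarBilin Q)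
      (Submodule.span F {p'}), c ≠ 0 := by
    have h1 := finrank_inf_orth_singleton Q hd.nondeg W p
    have h2 := finrank_inf_orth_singleton Q hd.nondeg
      (W ⊓ LinearMap.BilinForm.orthogonal (QuadraticMap.polarBilin Q) (Submodule.span F {p})) p'
    by_contra hcon
    push Not at hcon
    have := (Submodule.eq_bot_iff _).mpr hcon
    rw [this, finrank_bot] at h2
    omega
  obtain ⟨⟨hcW, hcp⟩, hcp'⟩ := hcY
  replace hcp := (mem_orth_singleton Q c p).mp hcp
  replace hcp' := (mem_orth_singleton Q c p').mp hcp'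
  by_cases hQc : Q c = 0
  · obtain ⟨b₀, hb₀, hcb₀, hQb₀⟩ := exists_nonsing_perp hd h3 hcW
    by_cases hb : QuadraticMap.polar Q b₀ p = 0 ∧ QuadraticMap.polar Q b₀ p' = 0
    · exact Or.inr ⟨b₀, hb₀, hQb₀, hb.1, hb.2⟩
    · exact Or.inl ⟨c, hcW, hc0, hQc, hcp, hcp', b₀, hb₀, hcb₀, hb⟩
  · exact Or.inr ⟨c, hcW, hQc, hcp, hcp'⟩

/-- in a summand of dimension at least five the first alternative always holds. -/
theorem optA_of_five (h5 : 5 ≤ finrank F W) {p p' : V} (hp : p ∈ W) (hp' : p' ∈ W)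
    (hp0 : p ≠ 0) :
    ∃ c ∈ W, c ≠ 0 ∧ Q c = 0 ∧ QuadraticMap.polar Q c p = 0 ∧ QuadraticMap.polar Q c p' = 0 ∧
      ∃ d ∈ W, QuadraticMap.polar Q c d = 0 ∧
        ¬ (QuadraticMap.polar Q d p = 0 ∧ QuadraticMap.polar Q d p' = 0) := by
  -- it suffices to find a singular `c` orthogonal to `p, p'` with `p` or `p'` outside its span
  have key : ∀ c ∈ W, c ≠ 0 → Q c = 0 → QuadraticMap.polar Q c p = 0 →
      QuadraticMap.polar Q c p' = 0 → (p ∉ Submodule.span F {c} ∨ p' ∉ Submodule.span F {c}) →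
      ∃ c ∈ W, c ≠ 0 ∧ Q c = 0 ∧ QuadraticMap.polar Q c p = 0 ∧ QuadraticMap.polar Q c p' = 0 ∧
        ∃ d ∈ W, QuadraticMap.polar Q c d = 0 ∧
          ¬ (QuadraticMap.polar Q d p = 0 ∧ QuadraticMap.polar Q d p' = 0) := by
    intro c hc hc0 hQc hcp hcp' hout
    refine ⟨c, hc, hc0, hQc, hcp, hcp', ?_⟩
    rcases hout with h | h
    · obtain ⟨d, hd', hcd, hpd⟩ := hd.exists_perp_not_perp_in hc hp h
      exact ⟨d, hd', hcd, fun hh => hpd (by rw [QuadraticMap.polar_comm]; exact hh.1)⟩
    · obtain ⟨d, hd', hcd, hpd⟩ := hd.exists_perp_not_perp_in hc hp' h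
      exact ⟨d, hd', hcd, fun hh => hpd (by rw [QuadraticMap.polar_comm]; exact hh.2)⟩
  by_cases hpp' : p' ∈ Submodule.span F {p}
  · obtain ⟨s, rfl⟩ := Submodule.mem_span_singleton.mp hpp'
    by_cases hQp : Q p = 0
    · -- a singular vector orthogonal to `p` and to a hyperbolic partner of `p`
      obtain ⟨f, hf, hQf, hpf⟩ := hd.exists_hyp_in hp hp0 hQp
      obtain ⟨c, hcY, hc0, hQc⟩ := exists_singular_in Q
        (W ⊓ LinearMap.BilinForm.orthogonal (QuadraticMap.polarBilin Q) (Submodule.span F {p})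
          ⊓ LinearMap.BilinForm.orthogonal (QuadraticMap.polarBilin Q) (Submodule.span F {f})) (by
          have h1 := finrank_inf_orth_singleton Q hd.nondeg W p
          have h2 := finrank_inf_orth_singleton Q hd.nondeg
            (W ⊓ LinearMap.BilinForm.orthogonal (QuadraticMap.polarBilin Q) (Submodule.span F {p})) f
          omega)
      obtain ⟨⟨hcW, hcp⟩, hcf⟩ := hcY
      replace hcp := (mem_orth_singleton Q c p).mp hcp
      replace hcf := (mem_orth_singleton Q c f).mp hcf
      apply key c hcW hc0 hQc hcp (by rw [QuadraticMap.polar_smul_right, hcp, smul_zero])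
      left
      intro h
      obtain ⟨r, hr⟩ := Submodule.mem_span_singleton.mp h
      have : QuadraticMap.polar Q p f = 0 := by
        rw [← hr, QuadraticMap.polar_smul_left, hcf, smul_zero]
      rw [hpf] at this
      exact one_ne_zero this
    · obtain ⟨c, hcY, hc0, hQc⟩ := exists_singular_in Q
        (W ⊓ LinearMap.BilinForm.orthogonal (QuadraticMap.polarBilin Q) (Submodule.span F {p})) (by
          have h1 := finrank_inf_orth_singleton Q hd.nondeg W p
          omega)
      obtain ⟨hcW, hcp⟩ := hcY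
      replace hcp := (mem_orth_singleton Q c p).mp hcp
      apply key c hcW hc0 hQc hcp (by rw [QuadraticMap.polar_smul_right, hcp, smul_zero])
      left
      intro h
      obtain ⟨r, hr⟩ := Submodule.mem_span_singleton.mp h
      apply hQp
      rw [← hr, QuadraticMap.map_smul, hQc, smul_zero]
  · obtain ⟨c, hcY, hc0, hQc⟩ := exists_singular_in Q
      (W ⊓ LinearMap.BilinForm.orthogonal (QuadraticMap.polarBilin Q) (Submodule.span F {p})
        ⊓ LinearMap.BilinForm.orthogonal (QuadraticMap.polarBilin Q) (Submodule.span F {p'})) (by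
        have h1 := finrank_inf_orth_singleton Q hd.nondeg W p
        have h2 := finrank_inf_orth_singleton Q hd.nondeg
          (W ⊓ LinearMap.BilinForm.orthogonal (QuadraticMap.polarBilin Q) (Submodule.span F {p})) p'
        omega)
    obtain ⟨⟨hcW, hcp⟩, hcp'⟩ := hcY
    replace hcp := (mem_orth_singleton Q c p).mp hcp
    replace hcp' := (mem_orth_singleton Q c p').mp hcp'
    apply key c hcW hc0 hQc hcp hcp'
    by_cases h : p ∈ Submodule.span F {c}
    · right
      intro h'
      apply hpp'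
      obtain ⟨r, hr⟩ := Submodule.mem_span_singleton.mp h
      obtain ⟨r', hr'⟩ := Submodule.mem_span_singleton.mp h'
      have hr0 : r ≠ 0 := by
        rintro rfl
        rw [zero_smul] at hr
        exact hp0 hr.symm
      rw [Submodule.mem_span_singleton]
      refine ⟨r' / r, ?_⟩
      rw [← hr, ← hr', smul_smul, div_mul_cancel₀ _ hr0]
    · exact Or.inl h

end geom

section

variable {t : ℕ} {D : Fin t → Submodule F V} [FiniteDimensional F V]
  (hB : Blk Q D) (M : Subgroup ↥(Isom Q))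
  (hPM : ∀ g ∈ SG Q, (∀ i, ∃ j, ∀ x ∈ D i, (g : V ≃ₗ[F] V) x ∈ D j) → g ∈ M)

include hB hPM

/-- the second parameter is a singular vector of a block. -/
theorem goal_of_sing_param {a b : V} (hQa : Q a = 0) {l : Fin t} (hb : b ∈ D l) (hb0 : b ≠ 0)
    (hQb : Q b = 0) (hab : QuadraticMap.polar Q a b = 0) (hal : a ∉ D l)
    (hM : ∀ c : F, siegG Q a (c • b) ∈ M) : Goal M D := by
  have hba : QuadraticMap.polar Q b a = 0 := by rw [QuadraticMap.polar_comm]; exact hab
  refine ⟨l, b, hb, hb0, hQb, a, hba, hal, fun c => ?_⟩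
  have hQca : Q (c • a) = 0 := by rw [QuadraticMap.map_smul, hQa, smul_zero]
  have h1 : siegG Q b (c • a) = siegG Q (c • a) (-b) :=
    siegG_swap Q hQb hQca (by rw [QuadraticMap.polar_smul_right, hba, smul_zero])
  have h2 : siegG Q (c • a) (-b) = siegG Q a (c • (-b)) :=
    Subtype.ext (siegE_smul_left Q hQa (by rw [QuadraticMap.polar_neg_right, hab, neg_zero]) c)
  rw [h1, h2, smul_neg, ← neg_smul]
  exact hM (-c)

variable [Finite F] (h5 : 5 ≤ finrank F V) (h2 : (2 : F) ≠ 0)

include h5 h2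

/-- the second parameter is a non-singular vector of a block. -/
theorem seed_of_nonsing_param {a b : V} (hQa : Q a = 0) {l : Fin t} (hb : b ∈ D l)
    (hQb : Q b ≠ 0) (hab : QuadraticMap.polar Q a b = 0) (hal : a ∉ D l)
    (hM : siegG Q a b ∈ M) : ∃ z, IsSeed M D z ∧ ∀ i, z ∉ D i := by
  have hba : QuadraticMap.polar Q b a = 0 := by rw [QuadraticMap.polar_comm]; exact hab
  have hQz : Q (b + (-(Q b)) • a) = Q b := by
    rw [QuadraticMap.map_add Q, QuadraticMap.map_smul, hQa, QuadraticMap.polar_smul_right, hba]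
    simp
  have hprod := reflG_mul_reflG_eq_siegG Q hQa hab hQb (-(Q b))
  have hcoef : -(-(Q b) / Q b) = 1 := by
    field_simp
  rw [hcoef, one_smul] at hprod
  refine ⟨b + (-(Q b)) • a, ?_, ?_⟩
  · apply isSeed_of_one hB M hPM h5 (by rw [hQz]; exact hQb) hb hQz.symm
    have : reflG Q (b + (-(Q b)) • a) * reflG Q b
        = (reflG Q b * reflG Q (b + (-(Q b)) • a))⁻¹ := by
      rw [mul_inv_rev, reflG_inv, reflG_inv]
    rw [this, hprod]
    exact M.inv_mem hM
  · intro i hi
    by_cases hil : i = l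
    · subst hil
      apply hal
      have h3 : (-(Q b)) • a ∈ D i := by
        have := (D i).sub_mem hi hb
        rwa [add_sub_cancel_left] at this
      have := (D i).smul_mem (-(Q b))⁻¹ h3
      rwa [smul_smul, inv_mul_cancel₀ (neg_ne_zero.mpr hQb), one_smul] at this
    · have h3 := hB.perp i l hil _ hi b hb
      rw [QuadraticMap.polar_add_left, QuadraticMap.polar_smul_left, hab, smul_zero, add_zero,
        polar_self'] at h3
      exact mul_ne_zero h2 hQb h3

omit h5 h2 in
/-- the commutator of the given Siegel transformation with one of a block. -/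
theorem goal_of_comm {a b : V} (hQa : Q a = 0) (hab : QuadraticMap.polar Q a b = 0)
    (hM : siegG Q a b ∈ M)
    (hind : ∀ α β : F, α • a + β • b = 0 → α = 0 ∧ β = 0) {l : Fin t}
    (hT0 : ∀ α β : F, α • a + β • b ∈ D l → α • a + β • b = 0) {c d : V} (hc : c ∈ D l)
    (hc0 : c ≠ 0) (hQc : Q c = 0) (hca : QuadraticMap.polar Q c a = 0)
    (hcb : QuadraticMap.polar Q c b = 0) (hd : d ∈ D l) (hcd : QuadraticMap.polar Q c d = 0)
    (hnot : ¬ (QuadraticMap.polar Q d a = 0 ∧ QuadraticMap.polar Q d b = 0)) : Goal M D := by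
  obtain ⟨τ, hτ⟩ : ∃ τ : V, τ = (QuadraticMap.polar Q d b - Q b * QuadraticMap.polar Q d a) • a
      + (-(QuadraticMap.polar Q d a)) • b := ⟨_, rfl⟩
  have hτ0 : τ ≠ 0 := by
    intro h
    rw [hτ] at h
    obtain ⟨h1, h2⟩ := hind _ _ h
    apply hnot
    have h3 : QuadraticMap.polar Q d a = 0 := neg_eq_zero.mp h2
    rw [h3, mul_zero, sub_zero] at h1
    exact ⟨h3, h1⟩
  have hτl : τ ∉ D l := by
    intro h
    rw [hτ] at h
    apply hτ0
    rw [hτ]
    exact hT0 _ _ h
  have hcτ : QuadraticMap.polar Q c τ = 0 := by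
    rw [hτ, QuadraticMap.polar_add_right, QuadraticMap.polar_smul_right,
      QuadraticMap.polar_smul_right, hca, hcb, smul_zero, smul_zero, add_zero]
  refine ⟨l, c, hc, hc0, hQc, τ, hcτ, hτl, fun μ => ?_⟩
  have hsM : siegG Q c (μ • d) ∈ M :=
    siegG_blk_mem hB M hPM hc ((D l).smul_mem μ hd) hQc
      (by rw [QuadraticMap.polar_smul_right, hcd, smul_zero])
  have hhc : ((siegG Q a b : ↥(Isom Q)) : V ≃ₗ[F] V) c = c := by
    rw [siegG_val]
    exact siegE_fix Q hca hcb
  have hhd : ((siegG Q a b : ↥(Isom Q)) : V ≃ₗ[F] V) d = d + τ := by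
    rw [siegG_val, siegE_apply Q hQa hab, sieg_apply, hτ]
    module
  have hconj := siegG_conj Q (siegG Q a b) c (μ • d)
  rw [hhc, map_smul, hhd] at hconj
  have hcμd : QuadraticMap.polar Q c (μ • (d + τ)) = 0 := by
    rw [QuadraticMap.polar_smul_right, QuadraticMap.polar_add_right, hcd, hcτ, add_zero, smul_zero]
  have hcμd' : QuadraticMap.polar Q c (-(μ • d)) = 0 := by
    rw [QuadraticMap.polar_neg_right, QuadraticMap.polar_smul_right, hcd, smul_zero, neg_zero]
  have hprod : siegG Q c (μ • (d + τ)) * siegG Q c (-(μ • d)) = siegG Q c (μ • τ) := by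
    rw [siegG_mul Q hQc hcμd hcμd']
    congr 1
    rw [smul_add]
    abel
  rw [← hprod, ← hconj,
    ← siegG_inv Q hQc (by rw [QuadraticMap.polar_smul_right, hcd, smul_zero])]
  exact M.mul_mem (M.mul_mem (M.mul_mem hM hsM) (M.inv_mem hM)) (M.inv_mem hsM)

end

end Cfsg.Agent.Helper7.OrthBlk
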