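import Mathlib
import Cfsg.Agent.Helper7.OrthBlkG

set_option autoImplicit false
set_option linter.unusedSectionVars false

/-! Orthogonal decompositions of a quadratic space into isometric non-degenerate blocks: the
overgroups of the stabiliser of the decomposition in the Siegel group (helper7). -/

namespace Cfsg.Agent.Helper7.OrthBlk

open Module Cfsg.Agent.Helper8.QuadForm Cfsg.Agent.Helper8.WittQuad Cfsg.Agent.Helper8.OrthOrder
  Cfsg.Agent.Helper8.Siegel Cfsg.Agent.Helper8.SiegelGroup Cfsg.Agent.Helper8.SiegelGeom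
  Cfsg.Agent.Helper8.Reflections Cfsg.Agent.Helper7.OrthMax Cfsg.Agent.Helper7.OrthNd
  Cfsg.Agent.Helper7.OrthPair

variable {F : Type*} [Field F] {V : Type*} [AddCommGroup V] [Module F V]
  {Q : QuadraticForm F V}

section

variable {t : ℕ} {D : Fin t → Submodule F V} [FiniteDimensional F V]
  (hB : Blk Q D) (M : Subgroup ↥(Isom Q))
  (hPM : ∀ g ∈ SG Q, (∀ i, ∃ j, ∀ x ∈ D i, (g : V ≃ₗ[F] V) x ∈ D j) → g ∈ M)
  [Finite F] (h5 : 5 ≤ finrank F V) (h2 : (2 : F) ≠ 0) (hk : ∀ i, 3 ≤ finrank F (D i))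

include hB hPM h5 h2 hk

/-- the image of a block vector under one of the given Siegel transformations: a seed outside
all blocks, or a linear relation. -/
theorem seed_or_rel {a b : V} (hQa : Q a = 0) (hab : QuadraticMap.polar Q a b = 0)
    (hind : ∀ α β : F, α • a + β • b = 0 → α = 0 ∧ β = 0)
    (hT0 : ∀ m, ∀ α β : F, α • a + β • b ∈ D m → α • a + β • b = 0) {l : Fin t} {y x : V}
    (hy : y ∈ D l) (hQy : Q y ≠ 0) (hya : QuadraticMap.polar Q y a = 0)
    (hyb : QuadraticMap.polar Q y b = 0) (hx : x ∈ D l) (hxy : Q x = Q y)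
    (hxa : QuadraticMap.polar Q x a ≠ 0) {c : F} (hc : c ≠ 0) (hM : siegG Q a (c • b) ∈ M) :
    (∃ z, IsSeed M D z ∧ ∀ i, z ∉ D i) ∨
      x + (c * QuadraticMap.polar Q x b - c ^ 2 * (Q b * QuadraticMap.polar Q x a)) • cp hB l a
        - (c * QuadraticMap.polar Q x a) • cp hB l b = 0 := by
  have hacb : QuadraticMap.polar Q a (c • b) = 0 := by
    rw [QuadraticMap.polar_smul_right, hab, smul_zero]
  obtain ⟨z, hz⟩ : ∃ z : V, z = ((siegG Q a (c • b) : ↥(Isom Q)) : V ≃ₗ[F] V) x := ⟨_, rfl⟩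
  have hzx : z = x + ((c * QuadraticMap.polar Q x b - c ^ 2 * (Q b * QuadraticMap.polar Q x a)) • a
      + (-(c * QuadraticMap.polar Q x a)) • b) := by
    rw [hz, siegG_val, siegE_apply Q hQa hacb, sieg_apply, QuadraticMap.polar_smul_right,
      QuadraticMap.map_smul]
    simp only [smul_eq_mul]
    module
  have hQz : Q z = Q x := by rw [hz]; exact (siegG Q a (c • b)).2 x
  have hfixy : ((siegG Q a (c • b) : ↥(Isom Q)) : V ≃ₗ[F] V) y = y := by
    rw [siegG_val]
    exact siegE_fix Q hya (by rw [QuadraticMap.polar_smul_right, hyb, smul_zero])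
  have hxyM : reflG Q x * reflG Q y ∈ M :=
    refl_pair_mem hB M hPM h5 hx hy (by rw [hxy]; exact hQy) hxy
  have hconj : siegG Q a (c • b) * (reflG Q x * reflG Q y) * (siegG Q a (c • b))⁻¹
      = reflG Q z * reflG Q y := by
    have e : ∀ (s p q : ↥(Isom Q)), s * (p * q) * s⁻¹ = (s * p * s⁻¹) * (s * q * s⁻¹) := by
      intro s p q; group
    rw [e, reflG_conj, reflG_conj, hfixy, ← hz]
  have hseed : IsSeed M D z := by
    apply isSeed_of_one hB M hPM h5 (by rw [hQz, hxy]; exact hQy) hy (by rw [hQz, hxy])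
    rw [← hconj]
    exact M.mul_mem (M.mul_mem hM hxyM) (M.inv_mem hM)
  by_cases hpure : ∀ i, z ∉ D i
  · exact Or.inl ⟨z, hseed, hpure⟩
  right
  push Not at hpure
  obtain ⟨j, hj⟩ := hpure
  have hτ0 : (c * QuadraticMap.polar Q x b - c ^ 2 * (Q b * QuadraticMap.polar Q x a)) • a
      + (-(c * QuadraticMap.polar Q x a)) • b ≠ 0 := by
    intro h
    have := (hind _ _ h).2
    exact mul_ne_zero hc hxa (neg_eq_zero.mp this)
  have hjl : j ≠ l := by
    rintro rfl
    apply hτ0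
    apply hT0 j
    have := (D j).sub_mem hj hx
    rwa [hzx, add_sub_cancel_left] at this
  have h0 : cp hB l z = 0 := cp_of_mem_ne hB hjl hj
  rw [hzx, map_add, map_add, map_smul, map_smul, cp_of_mem hB hx] at h0
  rw [← h0]
  module

/-- **the key step in dimension three**: a non-singular vector of a block fixed by the given
Siegel transformations gives a seed outside all blocks. -/
theorem seed_of_fixed {c₀ : F} (hc₀ : c₀ ≠ 0) (hc₀' : c₀ ^ 2 ≠ 1) {a b : V} (hQa : Q a = 0)
    (hab : QuadraticMap.polar Q a b = 0) (hM : ∀ c : F, siegG Q a (c • b) ∈ M)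
    (hind : ∀ α β : F, α • a + β • b = 0 → α = 0 ∧ β = 0)
    (hT0 : ∀ m, ∀ α β : F, α • a + β • b ∈ D m → α • a + β • b = 0) {l : Fin t}
    (hal : cp hB l a ≠ 0) {y : V} (hy : y ∈ D l) (hQy : Q y ≠ 0)
    (hya : QuadraticMap.polar Q y a = 0) (hyb : QuadraticMap.polar Q y b = 0) :
    ∃ z, IsSeed M D z ∧ ∀ i, z ∉ D i := by
  have hy0 : y ≠ 0 := by
    rintro rfl
    exact hQy (map_zero Q)
  obtain ⟨x, hx, hxy, hxa'⟩ := exists_norm_not_perp (hB.dec l) (hk l) h2 hy hy0 (cp_mem hB l a) hal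
  have hxa : QuadraticMap.polar Q x a ≠ 0 := by rw [polar_cp' hB l a hx]; exact hxa'
  have hm1 : (-1 : F) ≠ 0 := neg_ne_zero.mpr one_ne_zero
  rcases seed_or_rel hB M hPM h5 h2 hk hQa hab hind hT0 hy hQy hya hyb hx hxy hxa one_ne_zero
    (hM 1) with h | e1
  · exact h
  rcases seed_or_rel hB M hPM h5 h2 hk hQa hab hind hT0 hy hQy hya hyb hx hxy hxa hm1
    (hM (-1)) with h | e2
  · exact h
  rcases seed_or_rel hB M hPM h5 h2 hk hQa hab hind hT0 hy hQy hya hyb hx hxy hxa hc₀
    (hM c₀) with h | e3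
  · exact h
  exfalso
  have hx0 : x ≠ 0 := by
    rintro rfl
    rw [map_zero] at hxy
    exact hQy hxy.symm
  have hcomb : (2 * (1 - c₀ ^ 2)) • x = 0 := by
    have h4 : (2 * (1 - c₀ ^ 2)) • x
        = (2 : F) • (x + (c₀ * QuadraticMap.polar Q x b
            - c₀ ^ 2 * (Q b * QuadraticMap.polar Q x a)) • cp hB l a
            - (c₀ * QuadraticMap.polar Q x a) • cp hB l b)
          - (c₀ ^ 2 + c₀) • (x + (1 * QuadraticMap.polar Q x b
            - 1 ^ 2 * (Q b * QuadraticMap.polar Q x a)) • cp hB l a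
            - (1 * QuadraticMap.polar Q x a) • cp hB l b)
          - (c₀ ^ 2 - c₀) • (x + ((-1) * QuadraticMap.polar Q x b
            - (-1) ^ 2 * (Q b * QuadraticMap.polar Q x a)) • cp hB l a
            - ((-1) * QuadraticMap.polar Q x a) • cp hB l b) := by
      module
    rw [h4, e1, e2, e3]
    simp
  rcases smul_eq_zero.mp hcomb with h | h
  · rcases mul_eq_zero.mp h with h | h
    · exact h2 h
    · exact hc₀' (sub_eq_zero.mp h).symm
  · exact hx0 h

end

end Cfsg.Agent.Helper7.OrthBlk
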