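import Mathlib
import Cfsg.Agent.Helper7.OrthBlkH

set_option autoImplicit false
set_option linter.unusedSectionVars false

/-! Orthogonal decompositions of a quadratic space into isometric non-degenerate blocks: the
dichotomy for the overgroups of the stabiliser of the decomposition in the Siegel group
(helper7). -/

namespace Cfsg.Agent.Helper7.OrthBlk

open Module Cfsg.Agent.Helper8.QuadForm Cfsg.Agent.Helper8.WittQuad Cfsg.Agent.Helper8.OrthOrder
  Cfsg.Agent.Helper8.Siegel Cfsg.Agent.Helper8.SiegelGroup Cfsg.Agent.Helper8.SiegelGeom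
  Cfsg.Agent.Helper8.Reflections Cfsg.Agent.Helper7.OrthMax Cfsg.Agent.Helper7.OrthNd
  Cfsg.Agent.Helper7.OrthPair

variable {F : Type*} [Field F] {V : Type*} [AddCommGroup V] [Module F V]
  {Q : QuadraticForm F V}

/-- a non-zero singular vector and a non-singular vector orthogonal to it are independent. -/
theorem indep_of_perp {a b : V} (ha0 : a ≠ 0) {x : V} (hxa : QuadraticMap.polar Q x a ≠ 0)
    (hxb : QuadraticMap.polar Q x b = 0) (hb0 : b ≠ 0) :
    ∀ α β : F, α • a + β • b = 0 → α = 0 ∧ β = 0 := by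
  intro α β h
  have h1 : QuadraticMap.polar Q x (α • a + β • b) = 0 := by
    rw [h, QuadraticMap.polar_zero_right]
  rw [QuadraticMap.polar_add_right, QuadraticMap.polar_smul_right, QuadraticMap.polar_smul_right,
    hxb, smul_zero, add_zero, smul_eq_mul] at h1
  have hα : α = 0 := (mul_eq_zero.mp h1).resolve_right hxa
  rw [hα, zero_smul, zero_add] at h
  exact ⟨hα, (smul_eq_zero.mp h).resolve_right hb0⟩

section

variable {t : ℕ} {D : Fin t → Submodule F V} [FiniteDimensional F V]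
  (hB : Blk Q D) [Finite F] (hk : ∀ i, 3 ≤ finrank F (D i))

include hB hk

/-- an isometry which does not map the block `i` into a block maps some Siegel plane of the
block into no block. -/
theorem exists_pair_of_not_maps {g : ↥(Isom Q)} {i : Fin t}
    (hnot : ∀ j, ¬ ∀ x ∈ D i, (g : V ≃ₗ[F] V) x ∈ D j) :
    ∃ a ∈ D i, ∃ b ∈ D i, Q a = 0 ∧ QuadraticMap.polar Q a b = 0 ∧
      (∀ α β : F, α • a + β • b = 0 → α = 0 ∧ β = 0) ∧
      ∀ j, ¬ ((g : V ≃ₗ[F] V) a ∈ D j ∧ (g : V ≃ₗ[F] V) b ∈ D j) := by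
  by_contra hcon
  push Not at hcon
  have hg0 : ∀ {x : V}, x ≠ 0 → (g : V ≃ₗ[F] V) x ≠ 0 := by
    intro x hx h
    apply hx
    have := (g : V ≃ₗ[F] V).injective (h.trans (map_zero _).symm)
    exact this
  obtain ⟨a₀, ha₀, ha₀0, hQa₀⟩ := exists_singular_in Q (D i) (hk i)
  obtain ⟨b₀, hb₀, hab₀, hQb₀⟩ := exists_nonsing_perp (hB.dec i) (hk i) ha₀
  obtain ⟨f₀, hf₀, hQf₀, haf₀⟩ := (hB.dec i).exists_hyp_in ha₀ ha₀0 hQa₀
  have hb₀0 : b₀ ≠ 0 := by
    rintro rfl
    exact hQb₀ (map_zero Q)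
  -- `b₀` may be taken orthogonal to `f₀`
  obtain ⟨j₀, hj₀, -⟩ := hcon a₀ ha₀ (b₀ - QuadraticMap.polar Q f₀ b₀ • a₀)
    ((D i).sub_mem hb₀ ((D i).smul_mem _ ha₀)) hQa₀
    (by rw [QuadraticMap.polar_sub_right, QuadraticMap.polar_smul_right, hab₀, polar_self', hQa₀]
        simp)
    (by
      apply indep_of_perp ha₀0 (x := f₀)
      · rw [QuadraticMap.polar_comm, haf₀]; exact one_ne_zero
      · rw [QuadraticMap.polar_sub_right, QuadraticMap.polar_smul_right,
          QuadraticMap.polar_comm Q f₀ a₀, haf₀]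
        simp
      · intro h
        apply hQb₀
        have : b₀ = QuadraticMap.polar Q f₀ b₀ • a₀ := sub_eq_zero.mp h
        rw [this, QuadraticMap.map_smul, hQa₀, smul_zero])
  have hall : ∀ a ∈ D i, Q a = 0 → (g : V ≃ₗ[F] V) a ∈ D j₀ := by
    intro a ha hQa
    by_cases ha0 : a = 0
    · rw [ha0, map_zero]
      exact (D j₀).zero_mem
    by_cases hperp : QuadraticMap.polar Q a₀ a = 0
    · by_cases hind : ∀ α β : F, α • a₀ + β • a = 0 → α = 0 ∧ β = 0
      · obtain ⟨j, hj1, hj2⟩ := hcon a₀ ha₀ a ha hQa₀ hperp hind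
        have := hB.eq_of_mem (hg0 ha₀0) hj1 hj₀
        rw [← this]
        exact hj2
      · push Not at hind
        obtain ⟨α, β, h, hne⟩ := hind
        have hβ : β ≠ 0 := by
          intro hβ
          rw [hβ, zero_smul, add_zero] at h
          have hα : α = 0 := (smul_eq_zero.mp h).resolve_right ha₀0
          exact hne hα hβ
        have ha : a = (-(α / β)) • a₀ := by
          have h1 : β • a = -(α • a₀) := by
            rw [eq_neg_iff_add_eq_zero, add_comm]
            exact h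
          have h3 := congrArg (fun v => β⁻¹ • v) h1
          simp only [smul_smul, inv_mul_cancel₀ hβ, one_smul, smul_neg] at h3
          rw [h3, neg_smul, div_eq_inv_mul]
        rw [ha, map_smul]
        exact (D j₀).smul_mem _ hj₀
    · -- a common perpendicular of `a₀` and `a` in the block
      obtain ⟨b, hbX, hb0⟩ : ∃ b ∈ D i ⊓ LinearMap.BilinForm.orthogonal (QuadraticMap.polarBilin Q)
          (Submodule.span F {a₀}) ⊓ LinearMap.BilinForm.orthogonal (QuadraticMap.polarBilin Q)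
          (Submodule.span F {a}), b ≠ 0 := by
        have h1 := finrank_inf_orth_singleton Q hB.ndQ (D i) a₀
        have h2 := finrank_inf_orth_singleton Q hB.ndQ
          (D i ⊓ LinearMap.BilinForm.orthogonal (QuadraticMap.polarBilin Q) (Submodule.span F {a₀})) a
        by_contra hcon'
        push Not at hcon'
        have := (Submodule.eq_bot_iff _).mpr hcon'
        rw [this, finrank_bot] at h2
        have := hk i
        omega
      obtain ⟨⟨hbD, hba₀⟩, hba⟩ := hbX
      replace hba₀ := (mem_orth_singleton Q b a₀).mp hba₀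
      replace hba := (mem_orth_singleton Q b a).mp hba
      have hab : QuadraticMap.polar Q a b = 0 := by rw [QuadraticMap.polar_comm]; exact hba
      have ha₀b : QuadraticMap.polar Q a₀ b = 0 := by rw [QuadraticMap.polar_comm]; exact hba₀
      obtain ⟨j, hj1, hj2⟩ := hcon a ha b hbD hQa hab
        (indep_of_perp ha0 (x := a₀) hperp ha₀b hb0)
      obtain ⟨j', hj1', hj2'⟩ := hcon a₀ ha₀ b hbD hQa₀ ha₀b
        (indep_of_perp ha₀0 (x := a) (by rw [QuadraticMap.polar_comm]; exact hperp) hab hb0)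
      have e1 := hB.eq_of_mem (hg0 hb0) hj2 hj2'
      have e2 := hB.eq_of_mem (hg0 ha₀0) hj1' hj₀
      rw [← e2, ← e1]
      exact hj1
  apply hnot j₀
  have hle : D i ≤ (D j₀).comap ((g : V ≃ₗ[F] V) : V →ₗ[F] V) :=
    le_of_singular_le (hB.dec i) (hk i) _ (fun c hc hQc => hall c hc hQc)
  exact fun x hx => hle hx

end

section

variable {t : ℕ} {D : Fin t → Submodule F V} [FiniteDimensional F V]
  (hB : Blk Q D) (M : Subgroup ↥(Isom Q))
  (hPM : ∀ g ∈ SG Q, (∀ i, ∃ j, ∀ x ∈ D i, (g : V ≃ₗ[F] V) x ∈ D j) → g ∈ M)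
  [Finite F] (h5 : 5 ≤ finrank F V) (h2 : (2 : F) ≠ 0) (hk : ∀ i, 3 ≤ finrank F (D i))
  (hq : (∀ i, 5 ≤ finrank F (D i)) ∨ ∃ c₀ : F, c₀ ≠ 0 ∧ c₀ ^ 2 ≠ 1)

include hB hPM h5 h2 hk hq

/-- **from a Siegel transformation whose plane lies in no block** to a mixed Siegel
transformation centred in a block, or a seed outside all blocks. -/
theorem goal_or_seed {a b : V} (hQa : Q a = 0) (hab : QuadraticMap.polar Q a b = 0)
    (hM : ∀ c : F, siegG Q a (c • b) ∈ M)
    (hind : ∀ α β : F, α • a + β • b = 0 → α = 0 ∧ β = 0)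
    (hT : ∀ j, ¬ (a ∈ D j ∧ b ∈ D j)) :
    Goal M D ∨ ∃ z, IsSeed M D z ∧ ∀ i, z ∉ D i := by
  have ha0 : a ≠ 0 := by
    rintro rfl
    have := (hind 1 0 (by simp)).1
    exact one_ne_zero this
  have hM1 : siegG Q a b ∈ M := by
    have := hM 1
    rwa [one_smul] at this
  -- case 1: `a` lies in a block
  by_cases h1 : ∃ i, a ∈ D i
  · obtain ⟨i, hi⟩ := h1
    exact Or.inl ⟨i, a, hi, ha0, hQa, b, hab, fun hb => hT i ⟨hi, hb⟩, hM⟩
  push Not at h1
  -- case 2: the plane meets a block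
  by_cases h2' : ∃ l, ∃ α β : F, α • a + β • b ∈ D l ∧ α • a + β • b ≠ 0
  · obtain ⟨l, α, β, hl, hne⟩ := h2'
    have hβ : β ≠ 0 := by
      rintro rfl
      rw [zero_smul, add_zero] at hl hne
      have hα : α ≠ 0 := by
        rintro rfl
        rw [zero_smul] at hne
        exact hne rfl
      apply h1 l
      have := (D l).smul_mem α⁻¹ hl
      rwa [smul_smul, inv_mul_cancel₀ hα, one_smul] at this
    have hat : QuadraticMap.polar Q a (α • a + β • b) = 0 := by
      rw [QuadraticMap.polar_add_right, QuadraticMap.polar_smul_right,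
        QuadraticMap.polar_smul_right, hab, polar_self', hQa]
      simp
    have hMt : ∀ c : F, siegG Q a (c • (α • a + β • b)) ∈ M := by
      intro c
      have e : c • (α • a + β • b) = (c * β) • b + (c * α) • a := by
        rw [smul_add, smul_smul, smul_smul, add_comm]
      have h3 : siegG Q a (c • (α • a + β • b)) = siegG Q a ((c * β) • b) := by
        apply Subtype.ext
        rw [siegG_val, siegG_val, e]
        exact siegE_smul_add Q hQa (by rw [QuadraticMap.polar_smul_right, hab, smul_zero]) _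
      rw [h3]
      exact hM _
    by_cases hQt : Q (α • a + β • b) = 0
    · exact Or.inl (goal_of_sing_param hB M hPM hQa hl hne hQt hat (h1 l) hMt)
    · right
      apply seed_of_nonsing_param hB M hPM h5 h2 hQa hl hQt hat (h1 l)
      have := hMt 1
      rwa [one_smul] at this
  -- case 3: the plane meets no block
  push Not at h2'
  have hT0 : ∀ m, ∀ α β : F, α • a + β • b ∈ D m → α • a + β • b = 0 := h2'
  obtain ⟨l, hl⟩ : ∃ l, cp hB l a ≠ 0 := by
    by_contra hcon
    push Not at hcon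
    exact ha0 (eq_zero_of_cp hB hcon)
  have hoptA : (∃ c ∈ D l, c ≠ 0 ∧ Q c = 0 ∧ QuadraticMap.polar Q c (cp hB l a) = 0 ∧
      QuadraticMap.polar Q c (cp hB l b) = 0 ∧ ∃ d ∈ D l, QuadraticMap.polar Q c d = 0 ∧
        ¬ (QuadraticMap.polar Q d (cp hB l a) = 0 ∧ QuadraticMap.polar Q d (cp hB l b) = 0)) →
      Goal M D := by
    rintro ⟨c, hc, hc0, hQc, hca, hcb, d, hd, hcd, hnot⟩
    rw [← polar_cp' hB l a hc] at hca
    rw [← polar_cp' hB l b hc] at hcb
    rw [← polar_cp' hB l a hd, ← polar_cp' hB l b hd] at hnot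
    exact goal_of_comm hB M hPM hQa hab hM1 hind (hT0 l) hc hc0 hQc hca hcb hd hcd hnot
  rcases hq with h5' | ⟨c₀, hc₀, hc₀'⟩
  · exact Or.inl (hoptA (optA_of_five (hB.dec l) (h5' l) (cp_mem hB l a) (cp_mem hB l b) hl))
  · rcases optA_or_nonsing (hB.dec l) (hk l) (cp hB l a) (cp hB l b) with h | ⟨y, hy, hQy, hya, hyb⟩
    · exact Or.inl (hoptA h)
    · right
      rw [← polar_cp' hB l a hy] at hya
      rw [← polar_cp' hB l b hy] at hyb
      exact seed_of_fixed hB M hPM h5 h2 hk hc₀ hc₀' hQa hab hM hind hT0 hl hy hQy hya hyb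

end

section

variable {t : ℕ} {D : Fin t → Submodule F V} [FiniteDimensional F V]
  (hB : Blk Q D) (M : Subgroup ↥(Isom Q))
  (hPM : ∀ g ∈ SG Q, (∀ i, ∃ j, ∀ x ∈ D i, (g : V ≃ₗ[F] V) x ∈ D j) → g ∈ M)
  (hcomm : commutator ↥(Isom Q) ≤ SG Q)
  (hiso : ∀ i j, ∃ e : ↥(D i) ≃ₗ[F] ↥(D j), ∀ w : ↥(D i), Q ((e w : ↥(D j)) : V) = Q (w : V))
  [Finite F] (h5 : 5 ≤ finrank F V) (h2 : (2 : F) ≠ 0) (hk : ∀ i, 3 ≤ finrank F (D i))
  (ht : 2 ≤ t)
  (hq : (∀ i, 5 ≤ finrank F (D i)) ∨ ∃ c₀ : F, c₀ ≠ 0 ∧ c₀ ^ 2 ≠ 1)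

include hB hPM hcomm hiso h5 h2 hk ht hq

/-- **The dichotomy** for the stabiliser of a decomposition into isometric non-degenerate blocks
of dimension at least three, in odd characteristic: a subgroup of the isometry group containing
the elements of the Siegel group permuting the blocks permutes the blocks or contains the Siegel
group. -/
theorem blk_stab_or_top :
    (∀ g ∈ M, ∀ i, ∃ j, ∀ x ∈ D i, (g : V ≃ₗ[F] V) x ∈ D j) ∨ SG Q ≤ M := by
  by_cases hall : ∀ g ∈ M, ∀ i, ∃ j, ∀ x ∈ D i, (g : V ≃ₗ[F] V) x ∈ D j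
  · exact Or.inl hall
  right
  push Not at hall
  obtain ⟨g, hgM, i, hnot⟩ := hall
  obtain ⟨a, ha, b, hb, hQa, hab, hind, hT⟩ := exists_pair_of_not_maps hB hk (g := g) (i := i)
    (fun j h => by
      obtain ⟨x, hx, hgx⟩ := hnot j
      exact hgx (h x hx))
  have hM' : ∀ c : F, siegG Q ((g : V ≃ₗ[F] V) a) (c • (g : V ≃ₗ[F] V) b) ∈ M := by
    intro c
    have h1 := siegG_conj Q g a (c • b)
    rw [map_smul] at h1
    rw [← h1]
    exact M.mul_mem (M.mul_mem hgM (siegG_blk_mem hB M hPM ha ((D i).smul_mem c hb) hQa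
      (by rw [QuadraticMap.polar_smul_right, hab, smul_zero]))) (M.inv_mem hgM)
  have hind' : ∀ α β : F, α • (g : V ≃ₗ[F] V) a + β • (g : V ≃ₗ[F] V) b = 0 → α = 0 ∧ β = 0 := by
    intro α β h
    apply hind α β
    apply (g : V ≃ₗ[F] V).injective
    rw [map_add, map_smul, map_smul, h, map_zero]
  have key := goal_or_seed hB M hPM h5 h2 hk hq (a := (g : V ≃ₗ[F] V) a)
    (b := (g : V ≃ₗ[F] V) b) (by rw [g.2 a]; exact hQa)
    (by rw [polar_isometry Q g g.2]; exact hab) hM' hind' hT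
  have hgoal : Goal M D := by
    rcases key with h | ⟨z, hz, hzn⟩
    · exact h
    · refine goal_of_seed hB M hPM h5 h2 hk ht ?_ hz hzn
      rcases hq with h | h
      · exact Or.inl (fun i => by have := h i; omega)
      · exact Or.inr h
  obtain ⟨i', u, hu, hu0, hQu, z, huz, hzi, hz⟩ := hgoal
  exact top_of_mixed hB M hPM hcomm hiso h2 hk hu hu0 hQu huz hzi hz

end

end Cfsg.Agent.Helper7.OrthBlk
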