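import Mathlib
import Cfsg.Agent.Helper7.OrthBlkI

set_option autoImplicit false
set_option linter.unusedSectionVars false

/-! The stabiliser of a decomposition into isometric non-degenerate subspaces of dimension at least
three is maximal in `Ω(Q)`, in odd characteristic: transfer to matrices (helper7). -/

namespace Cfsg.Agent.Helper7.OrthBlk

open Module Cfsg.Agent.Helper8.QuadForm Cfsg.Agent.Helper8.WittQuad Cfsg.Agent.Helper8.OrthOrder
  Cfsg.Agent.Helper8.Siegel Cfsg.Agent.Helper8.SiegelGroup Cfsg.Agent.Helper8.SiegelGeom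
  Cfsg.Agent.Helper8.ReflMatrix Cfsg.Agent.Helper8.OmegaSimple Cfsg.Agent.Helper7.OrthMax
  Cfsg.Agent.Helper7.OrthNd

/-- a field with at least five elements has a non-zero element whose square is not one. -/
theorem exists_ne_sq_one {F : Type*} [Field F] [Fintype F] (h5 : 5 ≤ Fintype.card F) :
    ∃ c₀ : F, c₀ ≠ 0 ∧ c₀ ^ 2 ≠ 1 := by
  classical
  by_contra hcon
  push Not at hcon
  have hsub : (Finset.univ : Finset F) ⊆ {0, 1, -1} := by
    intro c _
    by_cases hc : c = 0
    · rw [hc]; simp
    · have h1 := hcon c hc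
      have h2 : (c - 1) * (c + 1) = 0 := by linear_combination h1
      rcases mul_eq_zero.mp h2 with h | h
      · rw [sub_eq_zero.mp h]; simp
      · rw [eq_neg_of_add_eq_zero_left h]; simp
  have h1 := Finset.card_le_card hsub
  rw [Finset.card_univ] at h1
  have h2 : ({0, 1, -1} : Finset F).card ≤ 3 := Finset.card_le_three
  omega

section dim

variable {F : Type*} [Field F] {V : Type*} [AddCommGroup V] [Module F V] [FiniteDimensional F V]

theorem finrank_biSup_of_indep {ι : Type*} [DecidableEq ι] {E : ι → Submodule F V}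
    (hind : iSupIndep E) (S : Finset ι) :
    finrank F ↥(⨆ j ∈ S, E j) = ∑ j ∈ S, finrank F ↥(E j) := by
  induction S using Finset.induction_on with
  | empty => simp
  | insert j₀ S hj₀ ih =>
    rw [Finset.iSup_insert, Finset.sum_insert hj₀, ← ih]
    have hd : Disjoint (E j₀) (⨆ j ∈ S, E j) :=
      hind.disjoint_biSup (y := (S : Set ι)) (by simpa using hj₀)
    have h := Submodule.finrank_sup_add_finrank_inf_eq (E j₀) (⨆ j ∈ S, E j)
    rw [hd.eq_bot, finrank_bot, add_zero] at h
    exact h

theorem finrank_iSup_of_indep {ι : Type*} [Fintype ι] {E : ι → Submodule F V}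
    (hind : iSupIndep E) : finrank F ↥(⨆ j, E j) = ∑ j, finrank F ↥(E j) := by
  classical
  have h := finrank_biSup_of_indep hind Finset.univ
  have h0 : (⨆ j ∈ (Finset.univ : Finset ι), E j) = ⨆ j, E j := by simp
  rwa [h0] at h

end dim

/-- the number of members times their dimension is the dimension of the space. -/
theorem mul_eq_card_of_decomp {F : Type*} [Field F] {ι : Type} [Fintype ι] [DecidableEq ι]
    {t k : ℕ} {D : Fin t → Submodule F (ι → F)} (hD : Cfsg.Geo.IsMDecomposition k D) :
    t * k = Fintype.card ι := by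
  have h := finrank_iSup_of_indep hD.indep
  rw [hD.iSup_eq_top, finrank_top, Module.finrank_pi] at h
  rw [h, Finset.sum_congr rfl (fun j _ => hD.finrank_eq j), Finset.sum_const, Finset.card_univ,
    Fintype.card_fin, smul_eq_mul]

variable {F : Type*} [Field F] {ι : Type} [Fintype ι] [DecidableEq ι]
  (Q : QuadraticForm F (ι → F))

/-- membership in the stabiliser of a decomposition into subspaces of the same dimension. -/
theorem toGL_mem_decompStab_iff {t k : ℕ} (D : Fin t → Submodule F (ι → F))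
    (hD : Cfsg.Geo.IsMDecomposition k D) (kk : ↥(Isom Q)) :
    toGL Q kk ∈ Cfsg.Geo.decompositionStabilizer D ↔
      ∀ i, ∃ j, ∀ x ∈ D i, (kk : (ι → F) ≃ₗ[F] (ι → F)) x ∈ D j := by
  constructor
  · rintro ⟨σ, hσ⟩ i
    refine ⟨σ i, fun x hx => ?_⟩
    have := hσ i
    rw [toLin'_toGL] at this
    rw [← this]
    exact ⟨x, hx, rfl⟩
  · intro h
    choose f hf using h
    have hmap : ∀ i, (D i).map (((kk : (ι → F) ≃ₗ[F] (ι → F)) : (ι → F) →ₗ[F] (ι → F)))
        = D (f i) := by
      intro i
      apply Submodule.eq_of_le_of_finrank_eq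
      · rintro _ ⟨x, hx, rfl⟩
        exact hf i x hx
      · rw [LinearEquiv.finrank_map_eq, hD.finrank_eq, hD.finrank_eq]
    have hne : ∀ i, D i ≠ ⊥ := by
      intro i h
      have := hD.finrank_eq i
      rw [h, finrank_bot] at this
      have := hD.pos
      omega
    have hDinj : Function.Injective D := hD.indep.injective hne
    have hfinj : Function.Injective f := by
      intro i i' hii'
      apply hDinj
      have h1 : (D i).map (((kk : (ι → F) ≃ₗ[F] (ι → F)) : (ι → F) →ₗ[F] (ι → F)))
          = (D i').map (((kk : (ι → F) ≃ₗ[F] (ι → F)) : (ι → F) →ₗ[F] (ι → F))) := by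
        rw [hmap i, hmap i', hii']
      exact Submodule.map_injective_of_injective (kk : (ι → F) ≃ₗ[F] (ι → F)).injective h1
    have hfbij : Function.Bijective f := Finite.injective_iff_bijective.mp hfinj
    refine ⟨Equiv.ofBijective f hfbij, fun i => ?_⟩
    rw [toLin'_toGL, Equiv.ofBijective_apply]
    exact hmap i

/-- the abstract block structure of a frozen decomposition. -/
theorem blk_of_frozen (hQ : (QuadraticMap.polarBilin Q).Nondegenerate) {t k : ℕ}
    {D : Fin t → Submodule F (ι → F)} (hD : Cfsg.Geo.IsOrthogonalMDecomposition ⇑Q k D) :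
    Blk Q D :=
  ⟨(nondeg_iff Q).mp hQ, fun i j hij x hx y hy => hD.decomp.orthogonal i j hij x hx y hy,
    hD.decomp.decomp.iSup_eq_top, fun i => nondegOn_of_frozen Q (hD.decomp.nondegenerate i)⟩

variable [Fintype F]

/-- **Maximality** of the stabiliser of a decomposition into isometric non-degenerate subspaces of
dimension `k ≥ 3` in `Ω(Q)`, in odd characteristic, for `k ≥ 5` or a field with at least five
elements. -/
theorem decomposition_maximal (hQ : (QuadraticMap.polarBilin Q).Nondegenerate)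
    (h5 : 5 ≤ Fintype.card ι) (h2 : (2 : F) ≠ 0) {t k : ℕ} (D : Fin t → Submodule F (ι → F))
    (hD : Cfsg.Geo.IsOrthogonalMDecomposition ⇑Q k D) (hk : 3 ≤ k)
    (hq : 5 ≤ k ∨ 5 ≤ Fintype.card F) :
    Cfsg.Geo.IsMaximalIn (Cfsg.Geo.omegaGL ⇑Q)
      (Cfsg.Geo.decompositionStabilizer D ⊓ Cfsg.Geo.omegaGL ⇑Q) := by
  have hnd : Nondeg Q := (nondeg_iff Q).mp hQ
  have hB : Blk Q D := blk_of_frozen Q hQ hD
  have hMD := hD.decomp.decomp
  have h5V : 5 ≤ finrank F (ι → F) := by rw [Module.finrank_pi]; exact h5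
  have hkD : ∀ i, 3 ≤ finrank F (D i) := fun i => by rw [hMD.finrank_eq]; exact hk
  have hS := toGL_mem_decompStab_iff Q D hMD
  have ht := hMD.two_le
  refine ⟨lt_of_le_not_ge inf_le_right ?_, ?_⟩
  · -- a mixed Siegel transformation does not permute the blocks
    intro hle
    obtain ⟨u, hu, hu0, hQu⟩ := exists_singular_in Q (D ⟨0, by omega⟩) (hkD _)
    obtain ⟨w, hw, hw0⟩ : ∃ w ∈ D ⟨1, by omega⟩, w ≠ 0 := by
      by_contra hcon
      push Not at hcon
      have := (Submodule.eq_bot_iff _).mpr hcon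
      have h3 := hkD ⟨1, by omega⟩
      rw [this, finrank_bot] at h3
      omega
    obtain ⟨x, hx, hxw⟩ : ∃ x ∈ D ⟨1, by omega⟩, QuadraticMap.polar Q x w ≠ 0 := by
      by_contra hcon
      push Not at hcon
      apply hw0
      apply hB.nd _ w hw
      intro x hx
      rw [QuadraticMap.polar_comm]
      exact hcon x hx
    have h01 : (⟨0, by omega⟩ : Fin t) ≠ ⟨1, by omega⟩ := by
      intro h
      exact absurd (Fin.mk.inj_iff.mp h) (by norm_num)
    have huw : QuadraticMap.polar Q u w = 0 := hB.perp _ _ h01 u hu w hw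
    have hg : siegG Q u w ∈ SG Q := siegG_mem_SG Q hQu huw
    obtain ⟨j, hj⟩ := (hS _).mp (hle (toGL_mem_omegaGL Q hQ h5 hg)).1 ⟨1, by omega⟩
    have hval : (siegG Q u w : (ι → F) ≃ₗ[F] (ι → F)) x = x + QuadraticMap.polar Q x w • u := by
      rw [siegG_val, siegE_apply Q hQu huw, sieg_apply,
        hB.perp _ _ (Ne.symm h01) x hx u hu]
      simp
    have h1 := hj x hx
    rw [hval] at h1
    by_cases hj1 : j = ⟨1, by omega⟩
    · rw [hj1] at h1
      have h3 : QuadraticMap.polar Q x w • u ∈ D ⟨1, by omega⟩ := by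
        have := (D ⟨1, by omega⟩).sub_mem h1 hx
        rwa [add_sub_cancel_left] at this
      have h4 : u ∈ D ⟨1, by omega⟩ := by
        have := (D ⟨1, by omega⟩).smul_mem (QuadraticMap.polar Q x w)⁻¹ h3
        rwa [smul_smul, inv_mul_cancel₀ hxw, one_smul] at this
      exact h01 (hB.eq_of_mem hu0 hu h4)
    · have h3 := hB.perp j ⟨1, by omega⟩ hj1 _ h1 w hw
      rw [QuadraticMap.polar_add_left, QuadraticMap.polar_smul_left, huw, smul_zero, add_zero] at h3
      exact hxw h3
  · intro M hPM hMG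
    have hPM' : ∀ g ∈ SG Q, (∀ i, ∃ j, ∀ x ∈ D i, (g : (ι → F) ≃ₗ[F] (ι → F)) x ∈ D j) →
        g ∈ M.comap (toGL Q) := by
      intro g hg hgD
      rw [Subgroup.mem_comap]
      exact hPM ⟨(hS g).mpr hgD, toGL_mem_omegaGL Q hQ h5 hg⟩
    have hcomm : commutator ↥(Isom Q) ≤ SG Q :=
      (commutator_eq_SG Q hnd h5V (closure_reflG Q hQ h5)).le
    have hq' : (∀ i, 5 ≤ finrank F (D i)) ∨ ∃ c₀ : F, c₀ ≠ 0 ∧ c₀ ^ 2 ≠ 1 := by
      rcases hq with h | h
      · exact Or.inl (fun i => by rw [hMD.finrank_eq]; exact h)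
      · exact Or.inr (exists_ne_sq_one h)
    have key := blk_stab_or_top hB (M.comap (toGL Q)) hPM' hcomm (fun i j => hD.isometric i j)
      h5V h2 hkD ht hq'
    rcases key with h | h
    · left
      apply le_antisymm _ hPM
      intro g hg
      obtain ⟨kk, hkk, rfl⟩ := exists_toGL_eq Q hQ h5 (hMG hg)
      exact ⟨(hS kk).mpr (h kk (Subgroup.mem_comap.mpr hg)), hMG hg⟩
    · right
      apply le_antisymm hMG
      intro g hg
      obtain ⟨kk, hkk, rfl⟩ := exists_toGL_eq Q hQ h5 hg
      exact Subgroup.mem_comap.mp (h hkk)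

end Cfsg.Agent.Helper7.OrthBlk
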