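import Mathlib

set_option autoImplicit false
set_option linter.unusedSectionVars false
set_option linter.unusedVariables false

/-!
# Ranks of Kronecker products minus scalars
-/

namespace Cfsg.Agent.Helper7.Tn

open Matrix Module
open scoped Kronecker

variable {F : Type*} [Field F]

section general

variable {l m : Type*} [Fintype l] [Fintype m] [DecidableEq l] [DecidableEq m]

/-- the Kronecker product applied to a pure tensor. -/
theorem kron_mulVec_tensor (A : Matrix l l F) (B : Matrix m m F) (v : l → F) (w : m → F) :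
    (A ⊗ₖ B) *ᵥ (fun k : l × m => v k.1 * w k.2) = fun k : l × m => (A *ᵥ v) k.1 * (B *ᵥ w) k.2 := by
  funext k
  obtain ⟨i, j⟩ := k
  simp only [Matrix.mulVec, dotProduct, Fintype.sum_prod_type, Matrix.kroneckerMap_apply]
  rw [Finset.sum_mul_sum]
  apply Finset.sum_congr rfl
  intro i' _
  apply Finset.sum_congr rfl
  intro j' _
  ring

/-- a matrix all of whose vectors are eigenvectors is scalar. -/
theorem scalar_of_forall_eigen (A : Matrix l l F) (h : ∀ v : l → F, ∃ c : F, A *ᵥ v = c • v) :
    ∃ z : F, A = z • 1 := by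
  classical
  rcases isEmpty_or_nonempty l with hl | ⟨⟨i₀⟩⟩
  · exact ⟨0, by ext i; exact (hl.false i).elim⟩
  choose lam hlam using fun i : l => h (Pi.single i 1)
  have hcol : ∀ i j : l, A j i = if j = i then lam i else 0 := by
    intro i j
    have h1 := congrFun (hlam i) j
    rw [Matrix.mulVec_single_one] at h1
    rw [Matrix.col_apply] at h1
    rw [h1, Pi.smul_apply, Pi.single_apply, smul_eq_mul]
    split_ifs <;> simp
  have heq : ∀ i j : l, lam i = lam j := by
    intro i j
    by_cases hij : i = j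
    · rw [hij]
    obtain ⟨c, hc⟩ := h (Pi.single i 1 + Pi.single j 1)
    rw [Matrix.mulVec_add, hlam, hlam] at hc
    have h1 := congrFun hc i
    have h2 := congrFun hc j
    simp only [Pi.add_apply, Pi.smul_apply, Pi.single_apply, smul_eq_mul] at h1 h2
    have hji : ¬ j = i := fun h => hij h.symm
    simp only [if_true, if_neg hij, if_neg hji, mul_one, mul_zero, add_zero, zero_add] at h1 h2
    rw [h1, h2]
  refine ⟨lam i₀, ?_⟩
  ext j i
  rw [hcol, Matrix.smul_apply, Matrix.one_apply, smul_eq_mul, heq i i₀]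
  split_ifs <;> simp

/-- a non-scalar matrix moves some vector off its line. -/
theorem exists_indep_of_not_scalar (A : Matrix l l F) (hA : ∀ z : F, A ≠ z • 1) :
    ∃ v : l → F, ∀ α β : F, α • v + β • (A *ᵥ v) = 0 → α = 0 ∧ β = 0 := by
  by_contra hcon
  push Not at hcon
  apply (scalar_of_forall_eigen A ?_).elim (fun z hz => hA z hz)
  intro v
  by_cases hv : v = 0
  · exact ⟨0, by rw [hv, Matrix.mulVec_zero, smul_zero]⟩
  obtain ⟨α, β, h1, h2⟩ := hcon v
  have hβ : β ≠ 0 := by
    intro hβ
    rw [hβ, zero_smul, add_zero] at h1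
    rcases smul_eq_zero.mp h1 with h | h
    · exact h2 h hβ
    · exact hv h
  refine ⟨-(α / β), ?_⟩
  have h3 : β • (A *ᵥ v) = -(α • v) := eq_neg_of_add_eq_zero_right h1
  have h4 : A *ᵥ v = β⁻¹ • (β • (A *ᵥ v)) := by rw [smul_smul, inv_mul_cancel₀ hβ, one_smul]
  rw [h4, h3, smul_neg, smul_smul, neg_smul]
  congr 2
  field_simp

/-- **non-scalar first factor**: the rank of `A ⊗ B - c` is at least the size of `B`. -/
theorem card_le_rank_of_not_scalar (A : Matrix l l F) (B : Matrix m m F) (hA : ∀ z : F, A ≠ z • 1)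
    (hB : IsUnit B.det) (c : F) : Fintype.card m ≤ (A ⊗ₖ B - c • 1).rank := by
  classical
  obtain ⟨v, hv⟩ := exists_indep_of_not_scalar A hA
  let ten : (m → F) →ₗ[F] (l × m → F) :=
    { toFun := fun w k => v k.1 * w k.2
      map_add' := by intro w w'; funext k; simp [mul_add]
      map_smul' := by intro t w; funext k; simp [mul_left_comm] }
  let φ : (m → F) →ₗ[F] (l × m → F) := (Matrix.mulVecLin (A ⊗ₖ B - c • 1)).comp ten
  have hφ : ∀ w, φ w = fun k : l × m => (A *ᵥ v) k.1 * (B *ᵥ w) k.2 - c * (v k.1 * w k.2) := by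
    intro w
    show (A ⊗ₖ B - c • 1) *ᵥ (fun k : l × m => v k.1 * w k.2) = _
    rw [Matrix.sub_mulVec, kron_mulVec_tensor, Matrix.smul_mulVec, Matrix.one_mulVec]
    rfl
  have hinj : Function.Injective φ := by
    rw [← LinearMap.ker_eq_bot, LinearMap.ker_eq_bot']
    intro w hw
    rw [hφ] at hw
    have hBw : B *ᵥ w = 0 := by
      funext j
      have h1 : (-(c * w j)) • v + ((B *ᵥ w) j) • (A *ᵥ v) = 0 := by
        funext i
        have := congrFun hw (i, j)
        simp only [Pi.add_apply, Pi.smul_apply, smul_eq_mul, Pi.zero_apply] at this ⊢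
        linear_combination this
      exact (hv _ _ h1).2
    have hinjB := Matrix.mulVec_injective_iff_isUnit.mpr ((Matrix.isUnit_iff_isUnit_det B).mpr hB)
    apply hinjB
    rw [hBw, Matrix.mulVec_zero]
  have hle : LinearMap.range φ ≤ LinearMap.range (Matrix.mulVecLin (A ⊗ₖ B - c • 1)) :=
    LinearMap.range_comp_le_range _ _
  have h1 := Submodule.finrank_mono hle
  rw [LinearMap.finrank_range_of_inj hinj, Module.finrank_fintype_fun_eq_card] at h1
  exact h1

/-- ranks of intertwined maps. -/
theorem finrank_range_eq_of_intertwine {V V' : Type*} [AddCommGroup V] [Module F V] [AddCommGroup V']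
    [Module F V'] (e : V ≃ₗ[F] V') (f : V →ₗ[F] V) (f' : V' →ₗ[F] V') (h : ∀ v, e (f v) = f' (e v)) :
    finrank F ↥(LinearMap.range f) = finrank F ↥(LinearMap.range f') := by
  have h1 : LinearMap.range f' = (LinearMap.range f).map (e : V →ₗ[F] V') := by
    ext w
    constructor
    · rintro ⟨w', rfl⟩
      obtain ⟨v, rfl⟩ := e.surjective w'
      exact ⟨f v, ⟨v, rfl⟩, h v⟩
    · rintro ⟨_, ⟨v, rfl⟩, rfl⟩
      exact ⟨e v, (h v).symm⟩
  rw [h1]
  exact (LinearEquiv.finrank_map_eq e _).symm

/-- the rank of `f` applied coordinatewise. -/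
theorem finrank_range_compLeft {V : Type*} [AddCommGroup V] [Module F V] [FiniteDimensional F V]
    (f : V →ₗ[F] V) (I : Type*) [Fintype I] :
    finrank F ↥(LinearMap.range (f.compLeft I)) = Fintype.card I * finrank F ↥(LinearMap.range f) := by
  have h1 : f.compLeft I = ((LinearMap.range f).subtype.compLeft I).comp (f.rangeRestrict.compLeft I) := by
    apply LinearMap.ext
    intro g
    funext i
    rfl
  have hsurj : Function.Surjective (f.rangeRestrict.compLeft I) := by
    intro g
    choose g' hg' using fun i => f.surjective_rangeRestrict (g i)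
    exact ⟨g', funext hg'⟩
  have hinj : Function.Injective ((LinearMap.range f).subtype.compLeft I) := by
    intro g g' h
    funext i
    exact Subtype.ext (congrFun h i)
  rw [h1, LinearMap.range_comp_of_range_eq_top _ (LinearMap.range_eq_top.mpr hsurj),
    LinearMap.finrank_range_of_inj hinj, Module.finrank_pi_fintype]
  simp

/-- **scalar first factor**: the rank of `1 ⊗ M`. -/
theorem rank_one_kron (M : Matrix m m F) :
    ((1 : Matrix l l F) ⊗ₖ M).rank = Fintype.card l * M.rank := by
  classical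
  unfold Matrix.rank
  rw [← finrank_range_compLeft (Matrix.mulVecLin M) l]
  apply finrank_range_eq_of_intertwine (LinearEquiv.curry F F l m)
  intro v
  funext i j
  rw [LinearEquiv.coe_curry]
  show ((1 : Matrix l l F) ⊗ₖ M *ᵥ v) (i, j) = (M *ᵥ (Function.curry v i)) j
  simp only [Matrix.mulVec, dotProduct, Fintype.sum_prod_type, Matrix.kroneckerMap_apply,
    Matrix.one_apply, Function.curry]
  rw [Finset.sum_eq_single i]
  · simp
  · intro i' _ hi'
    apply Finset.sum_eq_zero
    intro j' _
    rw [if_neg (Ne.symm hi'), zero_mul, zero_mul]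
  · intro h
    exact absurd (Finset.mem_univ i) h

/-- the scalar case: `(s • 1) ⊗ B - c = 1 ⊗ (s • B - c)`. -/
theorem rank_scalar_kron_sub (s : F) (B : Matrix m m F) (c : F) :
    ((s • (1 : Matrix l l F)) ⊗ₖ B - c • 1).rank = Fintype.card l * (s • B - c • 1).rank := by
  rw [← rank_one_kron (l := l)]
  congr 1
  ext ⟨i, j⟩ ⟨i', j'⟩
  simp only [Matrix.sub_apply, Matrix.kroneckerMap_apply, Matrix.smul_apply, Matrix.one_apply, smul_eq_mul,
    Prod.mk.injEq]
  by_cases hi : i = i'
  · by_cases hj : j = j'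
    · simp [hi, hj]
    · simp [hi, hj]
  · simp [hi]

/-- a Kronecker product that is the identity has scalar factors. -/
theorem scalar_of_kron_eq_one [Nonempty m] (A : Matrix l l F) (B : Matrix m m F)
    (h : A ⊗ₖ B = 1) : ∃ s : F, A = s • 1 := by
  obtain ⟨j₀⟩ := ‹Nonempty m›
  have h1 : ∀ i i' : l, A i i' * B j₀ j₀ = if i = i' then 1 else 0 := by
    intro i i'
    have := congrFun (congrFun h (i, j₀)) (i', j₀)
    rw [Matrix.kroneckerMap_apply, Matrix.one_apply] at this
    rw [this]
    by_cases hi : i = i'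
    · simp [hi]
    · simp [hi]
  rcases isEmpty_or_nonempty l with hl | ⟨⟨i₀⟩⟩
  · exact ⟨0, by ext i; exact (hl.false i).elim⟩
  have hB0 : B j₀ j₀ ≠ 0 := by
    intro h0
    have := h1 i₀ i₀
    rw [h0, mul_zero, if_pos rfl] at this
    exact zero_ne_one this
  refine ⟨(B j₀ j₀)⁻¹, ?_⟩
  ext i i'
  rw [Matrix.smul_apply, Matrix.one_apply, smul_eq_mul]
  have := h1 i i'
  by_cases hi : i = i'
  · rw [if_pos hi] at this ⊢
    rw [mul_one]
    exact eq_inv_of_mul_eq_one_left this
  · rw [if_neg hi] at this ⊢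
    rw [mul_zero]
    exact (mul_eq_zero.mp this).resolve_right hB0

/-- `1 ⊗ M = 1` forces `M = 1`. -/
theorem eq_one_of_one_kron_eq_one [Nonempty l] (M : Matrix m m F)
    (h : (1 : Matrix l l F) ⊗ₖ M = 1) : M = 1 := by
  obtain ⟨i₀⟩ := ‹Nonempty l›
  ext j j'
  have := congrFun (congrFun h (i₀, j)) (i₀, j')
  rw [Matrix.kroneckerMap_apply, Matrix.one_apply_eq, one_mul, Matrix.one_apply] at this
  rw [this, Matrix.one_apply]
  by_cases hj : j = j'
  · simp [hj]
  · simp [hj]

/-- powers of Kronecker products. -/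
theorem kron_pow (A : Matrix l l F) (B : Matrix m m F) (k : ℕ) : (A ⊗ₖ B) ^ k = (A ^ k) ⊗ₖ (B ^ k) := by
  induction k with
  | zero => simp
  | succ k ih => rw [pow_succ, ih, ← Matrix.mul_kronecker_mul, ← pow_succ, ← pow_succ]

end general

end Cfsg.Agent.Helper7.Tn
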