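import Mathlib
import Cfsg.Prelude.Def_GeometricClasses
import Cfsg.Agent.Helper7.TnA

set_option autoImplicit false
set_option linter.unusedSectionVars false
set_option linter.unusedVariables false

/-!
# Members of the stabilizer of a tensor decomposition, for a general index type, and the forms they preserve
-/

namespace Cfsg.Agent.Helper7.TnSp

open Matrix Module Cfsg.Agent.Helper7.Tn
open scoped Kronecker

variable {F : Type*} [Field F] {ι : Type} [Fintype ι] [DecidableEq ι]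

/-- the coordinate isomorphism `u ↦ g (u ∘ e)`. -/
noncomputable def coord {a b : ℕ} (e : ι ≃ Fin a × Fin b) (g : GL ι F) :
    (Fin a × Fin b → F) ≃ₗ[F] (ι → F) where
  toFun u := (g : Matrix ι ι F) *ᵥ (u ∘ e)
  map_add' u v := by rw [← Matrix.mulVec_add]; rfl
  map_smul' c u := by rw [RingHom.id_apply, ← Matrix.mulVec_smul]; rfl
  invFun v := (((g⁻¹ : GL ι F) : Matrix ι ι F) *ᵥ v) ∘ e.symm
  left_inv u := by
    funext k
    simp only [Function.comp_apply]
    rw [Matrix.mulVec_mulVec, ← Units.val_mul, inv_mul_cancel, Units.val_one, Matrix.one_mulVec]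
    simp
  right_inv v := by
    have h1 : ((((g⁻¹ : GL ι F) : Matrix ι ι F) *ᵥ v) ∘ e.symm) ∘ e = ((g⁻¹ : GL ι F) : Matrix ι ι F) *ᵥ v := by
      funext k
      simp
    show (g : Matrix ι ι F) *ᵥ (((((g⁻¹ : GL ι F) : Matrix ι ι F) *ᵥ v) ∘ e.symm) ∘ e) = v
    rw [h1, Matrix.mulVec_mulVec, ← Units.val_mul, mul_inv_cancel, Units.val_one, Matrix.one_mulVec]

theorem coord_apply {a b : ℕ} (e : ι ≃ Fin a × Fin b) (g : GL ι F) (u : Fin a × Fin b → F) :
    coord e g u = (g : Matrix ι ι F) *ᵥ (u ∘ e) := rfl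

theorem coord_mul {a b : ℕ} (e : ι ≃ Fin a × Fin b) (g P : GL ι F) (u : Fin a × Fin b → F) :
    coord e (g * P) u = (g : Matrix ι ι F) *ᵥ coord e P u := by
  rw [coord_apply, coord_apply, Units.val_mul, Matrix.mulVec_mulVec]

theorem glReindex_val {a b : ℕ} (e : ι ≃ Fin a × Fin b) (y : GL (Fin a × Fin b) F) :
    ((Cfsg.Geo.glReindex e.symm y : GL ι F) : Matrix ι ι F) =
      (y : Matrix (Fin a × Fin b) (Fin a × Fin b) F).submatrix e e := by
  unfold Cfsg.Geo.glReindex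
  rw [Units.coe_mapEquiv]
  show Matrix.reindexAlgEquiv F F e.symm _ = _
  rw [Matrix.coe_reindexAlgEquiv, Matrix.reindex_apply, Equiv.symm_symm]

/-- a member of the stabilizer acts as a Kronecker product in the coordinates. -/
theorem kron_data_of_mem {a b : ℕ} (e : ι ≃ Fin a × Fin b) (P h : GL ι F)
    (hh : h ∈ Cfsg.Geo.tensorProductSubgroup a b e P) :
    ∃ (A : GL (Fin a) F) (B : GL (Fin b) F), ∀ u : Fin a × Fin b → F,
      (h : Matrix ι ι F) *ᵥ coord e P u =
        coord e P (((A : Matrix (Fin a) (Fin a) F) ⊗ₖ (B : Matrix (Fin b) (Fin b) F)) *ᵥ u) := by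
  unfold Cfsg.Geo.tensorProductSubgroup at hh
  obtain ⟨t, ht, hteq⟩ := Subgroup.mem_map.mp hh
  obtain ⟨y, hy, hyeq⟩ := Subgroup.mem_map.mp ht
  obtain ⟨A, B, hAB⟩ := hy
  refine ⟨A, B, fun u => ?_⟩
  have h1 : h = P * (Cfsg.Geo.glReindex e.symm y) * P⁻¹ := by
    rw [← hteq, ← hyeq]
    rfl
  rw [coord_apply, coord_apply, h1, Matrix.mulVec_mulVec, ← Units.val_mul, inv_mul_cancel_right, Units.val_mul,
    ← Matrix.mulVec_mulVec, glReindex_val, ← hAB]
  congr 1
  rw [Matrix.submatrix_mulVec_equiv]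
  congr 2
  funext k
  simp

/-- the converse: an element acting as a Kronecker product in the coordinates is in the stabilizer. -/
theorem mem_of_kron_data {a b : ℕ} (e : ι ≃ Fin a × Fin b) (P h : GL ι F)
    (A : GL (Fin a) F) (B : GL (Fin b) F)
    (hh : ∀ u : Fin a × Fin b → F, (h : Matrix ι ι F) *ᵥ coord e P u =
        coord e P (((A : Matrix (Fin a) (Fin a) F) ⊗ₖ (B : Matrix (Fin b) (Fin b) F)) *ᵥ u)) :
    h ∈ Cfsg.Geo.tensorProductSubgroup a b e P := by
  classical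
  have hMdet : ((A : Matrix (Fin a) (Fin a) F) ⊗ₖ (B : Matrix (Fin b) (Fin b) F)).det ≠ 0 := by
    rw [Matrix.det_kronecker]
    apply mul_ne_zero
    · exact pow_ne_zero _ (Matrix.GeneralLinearGroup.det_ne_zero A)
    · exact pow_ne_zero _ (Matrix.GeneralLinearGroup.det_ne_zero B)
  let yGL : GL (Fin a × Fin b) F := Matrix.GeneralLinearGroup.mkOfDetNeZero _ hMdet
  have hyGL : (yGL : Matrix (Fin a × Fin b) (Fin a × Fin b) F) =
      (A : Matrix (Fin a) (Fin a) F) ⊗ₖ (B : Matrix (Fin b) (Fin b) F) := rfl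
  have h1 : h = P * (Cfsg.Geo.glReindex e.symm yGL) * P⁻¹ := by
    apply Units.ext
    apply Matrix.toLin'.injective
    apply LinearMap.ext
    intro v
    obtain ⟨u, rfl⟩ := (coord e P).surjective v
    rw [Matrix.toLin'_apply, Matrix.toLin'_apply, hh, coord_apply, coord_apply, Units.val_mul, Units.val_mul,
      ← Matrix.mulVec_mulVec, ← Matrix.mulVec_mulVec, Matrix.mulVec_mulVec (u ∘ e), ← Units.val_mul,
      inv_mul_cancel, Units.val_one, Matrix.one_mulVec, glReindex_val, hyGL]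
    congr 1
    rw [Matrix.submatrix_mulVec_equiv]
    congr 2
    funext k
    simp
  rw [h1]
  unfold Cfsg.Geo.tensorProductSubgroup
  refine Subgroup.mem_map.mpr ⟨Cfsg.Geo.glReindex e.symm yGL, Subgroup.mem_map.mpr ⟨yGL, ?_, rfl⟩, rfl⟩
  exact ⟨A, B, hyGL⟩

/-- the data of a conjugate in the stabilizer. -/
theorem kron_data_of_conj_mem {a b : ℕ} (e : ι ≃ Fin a × Fin b) (P x g : GL ι F)
    (h : g⁻¹ * x * g ∈ Cfsg.Geo.tensorProductSubgroup a b e P) :
    ∃ (A : GL (Fin a) F) (B : GL (Fin b) F), ∀ u : Fin a × Fin b → F,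
      (x : Matrix ι ι F) *ᵥ coord e (g * P) u =
        coord e (g * P) (((A : Matrix (Fin a) (Fin a) F) ⊗ₖ (B : Matrix (Fin b) (Fin b) F)) *ᵥ u) := by
  obtain ⟨A, B, hAB⟩ := kron_data_of_mem e P _ h
  refine ⟨A, B, fun u => ?_⟩
  rw [coord_mul, coord_mul, ← hAB u, Matrix.mulVec_mulVec, Matrix.mulVec_mulVec, ← Units.val_mul, ← Units.val_mul]
  congr 2
  group

/-- intertwined matrices have the same rank defects. -/
theorem rank_sub_eq_of_intertwine {κ : Type*} [Fintype κ] [DecidableEq κ] (Ψ : (κ → F) ≃ₗ[F] (ι → F))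
    (x : Matrix ι ι F) (y : Matrix κ κ F) (hxy : ∀ u, x *ᵥ Ψ u = Ψ (y *ᵥ u)) (c : F) :
    (x - c • 1).rank = (y - c • 1).rank := by
  unfold Matrix.rank
  symm
  apply finrank_range_eq_of_intertwine Ψ
  intro v
  rw [Matrix.mulVecLin_apply, Matrix.mulVecLin_apply, Matrix.sub_mulVec, Matrix.sub_mulVec, map_sub, hxy,
    Matrix.smul_mulVec, Matrix.smul_mulVec, Matrix.one_mulVec, Matrix.one_mulVec, map_smul]

/-- intertwined matrices have the same scalar powers. -/
theorem pow_eq_of_intertwine {κ : Type*} [Fintype κ] [DecidableEq κ] (Ψ : (κ → F) ≃ₗ[F] (ι → F))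
    (x : Matrix ι ι F) (y : Matrix κ κ F) (hxy : ∀ u, x *ᵥ Ψ u = Ψ (y *ᵥ u)) (k : ℕ) {z : F}
    (hx : x ^ k = z • 1) : y ^ k = z • 1 := by
  have hpow : ∀ n : ℕ, ∀ u, (x ^ n) *ᵥ Ψ u = Ψ ((y ^ n) *ᵥ u) := by
    intro n
    induction n with
    | zero => intro u; simp
    | succ n ih =>
      intro u
      rw [pow_succ, pow_succ, ← Matrix.mulVec_mulVec, hxy, ih, Matrix.mulVec_mulVec]
  apply Matrix.toLin'.injective
  apply LinearMap.ext
  intro u
  apply Ψ.injective
  rw [Matrix.toLin'_apply, Matrix.toLin'_apply, ← hpow, hx, Matrix.smul_mulVec, Matrix.smul_mulVec,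
    Matrix.one_mulVec, Matrix.one_mulVec, map_smul]

end Cfsg.Agent.Helper7.TnSp
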