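import Mathlib
import Cfsg.Agent.Helper7.TnSpA

set_option autoImplicit false
set_option linter.unusedSectionVars false
set_option linter.unusedVariables false

/-!
# The Kronecker factors of a form-preserving member of a tensor stabilizer are similarities
-/

namespace Cfsg.Agent.Helper7.TnSp

open Matrix Module Cfsg.Agent.Helper7.Tn
open scoped Kronecker

variable {F : Type*} [Field F] {ι : Type} [Fintype ι] [DecidableEq ι]

theorem formOfGram_id {κ : Type} [Fintype κ] (M : Matrix κ κ F) (x y : κ → F) :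
    Cfsg.Geo.formOfGram id M x y = x ⬝ᵥ (M *ᵥ y) := by
  unfold Cfsg.Geo.formOfGram
  simp only [dotProduct, Matrix.mulVec, id, Finset.mul_sum, mul_assoc]

theorem matrix_eq_of_forall_dot {κ : Type*} [Fintype κ] [DecidableEq κ] (N N' : Matrix κ κ F)
    (h : ∀ u v : κ → F, u ⬝ᵥ (N *ᵥ v) = u ⬝ᵥ (N' *ᵥ v)) : N = N' := by
  ext α β
  have := h (Pi.single α 1) (Pi.single β 1)
  rw [Matrix.mulVec_single_one, Matrix.mulVec_single_one, single_dotProduct, single_dotProduct, one_mul, one_mul,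
    Matrix.col_apply, Matrix.col_apply] at this
  exact this

theorem dot_transpose_mul_mul {κ : Type*} [Fintype κ] [DecidableEq κ] (y M : Matrix κ κ F) (u v : κ → F) :
    u ⬝ᵥ ((yᵀ * M * y) *ᵥ v) = (y *ᵥ u) ⬝ᵥ (M *ᵥ (y *ᵥ v)) := by
  rw [← Matrix.mulVec_mulVec, ← Matrix.mulVec_mulVec, Matrix.dotProduct_mulVec, Matrix.vecMul_transpose]

/-- a form-preserving conjugate: the Kronecker product preserves the Kronecker product of the Gram matrices. -/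
theorem kron_preserves {a b : ℕ} {f : (ι → F) → (ι → F) → F} {f₁ : (Fin a → F) → (Fin a → F) → F}
    {f₂ : (Fin b → F) → (Fin b → F) → F} (e : ι ≃ Fin a × Fin b) (P x g : GL ι F)
    (hS : Cfsg.Geo.IsTensorFormStructure id f f₁ f₂ e P)
    (hg : ∀ u v, f ((g : Matrix ι ι F) *ᵥ u) ((g : Matrix ι ι F) *ᵥ v) = f u v)
    (hx : ∀ u v, f ((x : Matrix ι ι F) *ᵥ u) ((x : Matrix ι ι F) *ᵥ v) = f u v)
    (y : Matrix (Fin a × Fin b) (Fin a × Fin b) F)
    (hint : ∀ u, (x : Matrix ι ι F) *ᵥ coord e (g * P) u = coord e (g * P) (y *ᵥ u)) :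
    yᵀ * (Cfsg.Geo.gramMatrix f₁ ⊗ₖ Cfsg.Geo.gramMatrix f₂) * y =
      Cfsg.Geo.gramMatrix f₁ ⊗ₖ Cfsg.Geo.gramMatrix f₂ := by
  obtain ⟨c, hc0, hc⟩ := hS
  apply matrix_eq_of_forall_dot
  intro u v
  rw [dot_transpose_mul_mul, ← formOfGram_id, ← formOfGram_id]
  apply mul_left_cancel₀ hc0
  rw [← hc, ← hc, ← coord_apply, ← coord_apply, ← coord_apply, ← coord_apply, ← hg (coord e P (y *ᵥ u)),
    ← coord_mul, ← coord_mul, ← hint, ← hint, hx, coord_mul, coord_mul, hg]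

/-- equal Kronecker products have proportional factors. -/
theorem kron_factor {l m : Type*} [Fintype l] [Fintype m] [DecidableEq l] [DecidableEq m]
    (M₁ N₁ : Matrix l l F) (M₂ N₂ : Matrix m m F) (h : M₁ ⊗ₖ M₂ = N₁ ⊗ₖ N₂) (h1 : N₁ ≠ 0) (h2 : N₂ ≠ 0) :
    ∃ ν : F, ν ≠ 0 ∧ M₁ = ν • N₁ ∧ M₂ = ν⁻¹ • N₂ := by
  obtain ⟨i₀, j₀, hij⟩ : ∃ i j, N₁ i j ≠ 0 := by
    by_contra hcon
    push Not at hcon
    exact h1 (Matrix.ext hcon)
  obtain ⟨k₀, l₀, hkl⟩ : ∃ k l, N₂ k l ≠ 0 := by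
    by_contra hcon
    push Not at hcon
    exact h2 (Matrix.ext hcon)
  have hent : ∀ i j k l, M₁ i j * M₂ k l = N₁ i j * N₂ k l := by
    intro i j k l
    have := congrFun (congrFun h (i, k)) (j, l)
    rw [Matrix.kroneckerMap_apply, Matrix.kroneckerMap_apply] at this
    exact this
  have hst := hent i₀ j₀ k₀ l₀
  have hs : M₁ i₀ j₀ ≠ 0 := by
    intro h0
    rw [h0, zero_mul] at hst
    exact mul_ne_zero hij hkl hst.symm
  have ht : M₂ k₀ l₀ ≠ 0 := by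
    intro h0
    rw [h0, mul_zero] at hst
    exact mul_ne_zero hij hkl hst.symm
  refine ⟨N₂ k₀ l₀ / M₂ k₀ l₀, div_ne_zero hkl ht, ?_, ?_⟩
  · ext i j
    rw [Matrix.smul_apply, smul_eq_mul]
    have := hent i j k₀ l₀
    field_simp
    linear_combination this
  · ext k l
    rw [Matrix.smul_apply, smul_eq_mul, inv_div]
    have := hent i₀ j₀ k l
    field_simp
    apply mul_left_cancel₀ hij
    linear_combination (-(M₂ k l)) * hst + (M₂ k₀ l₀) * this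

/-- a bilinear form in the sense of the statements, as a Mathlib bilinear form. -/
noncomputable def toBF {κ : Type} [Fintype κ] (f : (κ → F) → (κ → F) → F) (hf : Cfsg.Geo.IsBilinearForm f) :
    LinearMap.BilinForm F (κ → F) :=
  LinearMap.mk₂ F f hf.add_left hf.smul_left hf.add_right hf.smul_right

theorem toBF_apply {κ : Type} [Fintype κ] (f : (κ → F) → (κ → F) → F) (hf : Cfsg.Geo.IsBilinearForm f)
    (u v : κ → F) : toBF f hf u v = f u v := rfl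

theorem eq_dot_gram {κ : Type} [Fintype κ] [DecidableEq κ] (f : (κ → F) → (κ → F) → F)
    (hf : Cfsg.Geo.IsBilinearForm f) (u v : κ → F) : f u v = u ⬝ᵥ (Cfsg.Geo.gramMatrix f *ᵥ v) := by
  have h1 : Cfsg.Geo.gramMatrix f = LinearMap.BilinForm.toMatrix' (toBF f hf) := by
    ext i j
    rw [LinearMap.BilinForm.toMatrix'_apply]
    rfl
  rw [h1, ← Matrix.toBilin'_apply', Matrix.toBilin'_toMatrix']
  rfl

/-- a matrix congruence `Aᵀ G A = ν G` says that `A` is a similarity. -/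
theorem sim_of_congr {κ : Type} [Fintype κ] [DecidableEq κ] (f : (κ → F) → (κ → F) → F)
    (hf : Cfsg.Geo.IsBilinearForm f) (A : Matrix κ κ F) (ν : F)
    (h : Aᵀ * Cfsg.Geo.gramMatrix f * A = ν • Cfsg.Geo.gramMatrix f) (u v : κ → F) :
    f (A *ᵥ u) (A *ᵥ v) = ν * f u v := by
  rw [eq_dot_gram f hf, eq_dot_gram f hf, ← dot_transpose_mul_mul, h, Matrix.smul_mulVec, dotProduct_smul,
    smul_eq_mul]

theorem gram_ne_zero {κ : Type} [Fintype κ] [DecidableEq κ] [Nonempty κ] (f : (κ → F) → (κ → F) → F)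
    (hf : Cfsg.Geo.IsBilinearForm f) (hnd : Cfsg.Geo.IsNondegenerateForm f) : Cfsg.Geo.gramMatrix f ≠ 0 := by
  intro h0
  obtain ⟨k⟩ := (inferInstance : Nonempty κ)
  have hv : (Pi.single k 1 : κ → F) ≠ 0 := by
    intro h
    have := congrFun h k
    simp at this
  obtain ⟨⟨x, hx⟩, -⟩ := hnd _ hv
  apply hx
  rw [eq_dot_gram f hf, h0, Matrix.zero_mulVec, dotProduct_zero]

/-- **the factors are similarities.** -/
theorem factors_similar {a b : ℕ} [NeZero a] [NeZero b] {f : (ι → F) → (ι → F) → F}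
    {f₁ : (Fin a → F) → (Fin a → F) → F}
    {f₂ : (Fin b → F) → (Fin b → F) → F} (hf₁ : Cfsg.Geo.IsBilinearForm f₁) (hf₂ : Cfsg.Geo.IsBilinearForm f₂)
    (hnd₁ : Cfsg.Geo.IsNondegenerateForm f₁) (hnd₂ : Cfsg.Geo.IsNondegenerateForm f₂)
    (e : ι ≃ Fin a × Fin b) (P x g : GL ι F)
    (hS : Cfsg.Geo.IsTensorFormStructure id f f₁ f₂ e P)
    (hg : ∀ u v, f ((g : Matrix ι ι F) *ᵥ u) ((g : Matrix ι ι F) *ᵥ v) = f u v)
    (hx : ∀ u v, f ((x : Matrix ι ι F) *ᵥ u) ((x : Matrix ι ι F) *ᵥ v) = f u v)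
    (A : Matrix (Fin a) (Fin a) F) (B : Matrix (Fin b) (Fin b) F)
    (hint : ∀ u, (x : Matrix ι ι F) *ᵥ coord e (g * P) u = coord e (g * P) ((A ⊗ₖ B) *ᵥ u)) :
    ∃ ν : F, ν ≠ 0 ∧ (∀ u v, f₁ (A *ᵥ u) (A *ᵥ v) = ν * f₁ u v) ∧
      ∀ u v, f₂ (B *ᵥ u) (B *ᵥ v) = ν⁻¹ * f₂ u v := by
  have h1 := kron_preserves e P x g hS hg hx (A ⊗ₖ B) hint
  have h2 : (Aᵀ * Cfsg.Geo.gramMatrix f₁ * A) ⊗ₖ (Bᵀ * Cfsg.Geo.gramMatrix f₂ * B) =
      Cfsg.Geo.gramMatrix f₁ ⊗ₖ Cfsg.Geo.gramMatrix f₂ := by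
    rw [← h1, Matrix.mul_kronecker_mul, Matrix.mul_kronecker_mul, Matrix.kroneckerMap_transpose]
  obtain ⟨ν, hν, hA, hB⟩ := kron_factor _ _ _ _ h2 (gram_ne_zero f₁ hf₁ hnd₁) (gram_ne_zero f₂ hf₂ hnd₂)
  exact ⟨ν, hν, sim_of_congr f₁ hf₁ A ν hA, sim_of_congr f₂ hf₂ B ν⁻¹ hB⟩

end Cfsg.Agent.Helper7.TnSp
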