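import Mathlib

set_option autoImplicit false

namespace Cfsg.Agent.Helper7.Singer

open Matrix

variable {F : Type*} [Field F] {n : ℕ}

/-- If every vector is a sum of eigenvectors for the finitely many eigenvalues `lam i`, then there
is a basis of eigenvectors. -/
theorem exists_eigenbasis {ι : Type*} [Fintype ι] [DecidableEq ι]
    (Y : Matrix (Fin n) (Fin n) F) (lam : ι → F) (hlam : Function.Injective lam)
    (hdec : ∀ v : Fin n → F, ∃ c : ι → (Fin n → F),
      (∀ i, Y *ᵥ c i = lam i • c i) ∧ v = ∑ i, c i) :
    ∃ (b : Module.Basis (Fin n) F (Fin n → F)) (e : Fin n → ι),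
      ∀ j, Y *ᵥ b j = lam (e j) • b j := by
  classical
  let T : Module.End F (Fin n → F) := Matrix.toLin' Y
  let E : ι → Submodule F (Fin n → F) := fun i => T.eigenspace (lam i)
  have hE : ∀ i v, v ∈ E i ↔ Y *ᵥ v = lam i • v := by
    intro i v
    simp only [E, T, Module.End.mem_eigenspace_iff, Matrix.toLin'_apply]
  have hind : iSupIndep E := (Module.End.eigenspaces_iSupIndep T).comp hlam
  have htop : iSup E = ⊤ := by
    rw [eq_top_iff]
    intro v _
    obtain ⟨c, hc, hv⟩ := hdec v
    rw [hv]
    refine Submodule.sum_mem _ (fun i _ => ?_)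
    exact Submodule.mem_iSup_of_mem i ((hE i _).2 (hc i))
  have hint : DirectSum.IsInternal E :=
    DirectSum.isInternal_submodule_of_iSupIndep_of_iSup_eq_top hind htop
  let b0 : Module.Basis (Σ i, Fin (Module.finrank F (E i))) F (Fin n → F) :=
    hint.collectedBasis (fun i => Module.finBasis F (E i))
  have hcard : Fintype.card (Σ i, Fin (Module.finrank F (E i))) = Fintype.card (Fin n) := by
    rw [← Module.finrank_eq_card_basis b0, Module.finrank_fin_fun, Fintype.card_fin]
  let eqv : (Σ i, Fin (Module.finrank F (E i))) ≃ Fin n := Fintype.equivOfCardEq hcard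
  refine ⟨b0.reindex eqv, fun j => (eqv.symm j).1, fun j => ?_⟩
  rw [Module.Basis.reindex_apply]
  exact (hE _ _).1 (hint.collectedBasis_mem _ _)

end Cfsg.Agent.Helper7.Singer
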