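import Mathlib
import Cfsg.Agent.Helper7.SingerE

set_option autoImplicit false

namespace Cfsg.Agent.Helper7.Singer

open Matrix

variable {F : Type*} [Field F] {n : ℕ}

theorem omega_cube (ω : F) (hω : ω ^ 2 + ω + 1 = 0) : ω ^ 3 = 1 := by
  linear_combination (ω - 1) * hω

theorem omega_ne_one (ω : F) (hω : ω ^ 2 + ω + 1 = 0) (h3 : (3 : F) ≠ 0) : ω ≠ 1 := by
  rintro rfl
  apply h3
  linear_combination hω

theorem omega_ne_zero (ω : F) (hω : ω ^ 2 + ω + 1 = 0) : ω ≠ 0 := by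
  rintro rfl
  simp at hω

theorem omega_sq_ne_one (ω : F) (hω : ω ^ 2 + ω + 1 = 0) (h3 : (3 : F) ≠ 0) : ω ^ 2 ≠ 1 := by
  intro h
  have h1 : ω = -2 := by linear_combination hω - h
  apply h3
  rw [h1] at hω
  linear_combination hω

theorem omega_pow_injective (ω : F) (hω : ω ^ 2 + ω + 1 = 0) (h3 : (3 : F) ≠ 0) :
    Function.Injective (fun i : Fin 3 => ω ^ (i : ℕ)) := by
  have h0 := omega_ne_zero ω hω
  have h1 := omega_ne_one ω hω h3
  have h2 := omega_sq_ne_one ω hω h3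
  have h12 : ω ^ 2 ≠ ω := by
    intro h
    apply h1
    exact mul_left_cancel₀ h0 (show ω * ω = ω * 1 by rw [mul_one, ← pow_two, h])
  have key : ∀ a b : ℕ, a < 3 → b < 3 → ω ^ a = ω ^ b → a = b := by
    intro a b ha hb hab
    interval_cases a <;> interval_cases b <;> simp only [pow_zero, pow_one] at hab
    · rfl
    · exact absurd hab.symm h1
    · exact absurd hab.symm h2
    · exact absurd hab h1
    · rfl
    · exact absurd hab.symm h12
    · exact absurd hab h2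
    · exact absurd hab h12
    · rfl
  intro i j hij
  exact Fin.ext (key _ _ i.2 j.2 hij)

/-- A matrix of order dividing 3 is diagonalisable when the field contains the cube roots of
unity. -/
theorem exists_eigenbasis_cube (Y : Matrix (Fin n) (Fin n) F) (ω : F) (hω : ω ^ 2 + ω + 1 = 0)
    (h3 : (3 : F) ≠ 0) (hY : Y ^ 3 = 1) :
    ∃ (b : Module.Basis (Fin n) F (Fin n → F)) (e : Fin n → Fin 3),
      ∀ j, Y *ᵥ b j = ω ^ (e j : ℕ) • b j := by
  have hω3 := omega_cube ω hω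
  refine exists_eigenbasis Y (fun i : Fin 3 => ω ^ (i : ℕ)) (omega_pow_injective ω hω h3) ?_
  intro v
  obtain ⟨u₁, hu₁⟩ : ∃ u₁, u₁ = Y *ᵥ v := ⟨_, rfl⟩
  obtain ⟨u₂, hu₂⟩ : ∃ u₂, u₂ = Y *ᵥ u₁ := ⟨_, rfl⟩
  have hu₃ : Y *ᵥ u₂ = v := by
    rw [hu₂, hu₁, Matrix.mulVec_mulVec, Matrix.mulVec_mulVec, ← pow_two, ← pow_succ, hY,
      Matrix.one_mulVec]
  refine ⟨fun i => (3 : F)⁻¹ • (v + ω ^ (2 * (i : ℕ)) • u₁ + ω ^ (i : ℕ) • u₂), ?_, ?_⟩
  · intro i
    rw [Matrix.mulVec_smul, Matrix.mulVec_add, Matrix.mulVec_add, Matrix.mulVec_smul,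
      Matrix.mulVec_smul, ← hu₁, ← hu₂, hu₃]
    fin_cases i
    · simp only [mul_zero, pow_zero, one_smul]
      module
    · simp only [mul_one, pow_one]
      linear_combination (norm := module) (-(3 : F)⁻¹ * hω3) • u₁
    · simp only [Fin.reduceFinMk, Fin.val_two]
      have h6 : ω ^ 6 = 1 := by linear_combination (ω ^ 3 + 1) * hω3
      linear_combination (norm := module) (-(3 : F)⁻¹ * h6) • u₁
  · rw [Fin.sum_univ_three]
    simp only [Fin.val_zero, mul_zero, pow_zero, one_smul, Fin.val_one, mul_one, pow_one,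
      Fin.val_two]
    have h4 : ω ^ 4 = ω := by linear_combination ω * hω3
    have h33 : (3 : F)⁻¹ * 3 = 1 := inv_mul_cancel₀ h3
    linear_combination (norm := module) (-h33) • v + (-(3 : F)⁻¹ * hω) • u₁ + (-(3 : F)⁻¹ * h4) • u₁
      + (-(3 : F)⁻¹ * hω) • u₂

end Cfsg.Agent.Helper7.Singer
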