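import Mathlib
import Cfsg.Agent.Helper7.SingerF

set_option autoImplicit false

/-!
Explicit generators of the extraspecial group `3^{1+2}` inside `GL₃(F)` and a few elements of its
normaliser.
-/

namespace Cfsg.Agent.Helper7.Ex27

open Matrix Cfsg.Agent.Helper7.Singer

variable {F : Type*} [Field F]

/-- `diag(1, ω, ω²)`. -/
def Xm (ω : F) : Matrix (Fin 3) (Fin 3) F := !![1, 0, 0; 0, ω, 0; 0, 0, ω ^ 2]

/-- The cyclic shift `e_i ↦ e_{i+1}`. -/
def Ym : Matrix (Fin 3) (Fin 3) F := !![0, 0, 1; 1, 0, 0; 0, 1, 0]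

/-- The inverse cyclic shift. -/
def Ym' : Matrix (Fin 3) (Fin 3) F := !![0, 1, 0; 0, 0, 1; 1, 0, 0]

/-- The involution `-P_(01)`. -/
def Tm : Matrix (Fin 3) (Fin 3) F := !![0, -1, 0; -1, 0, 0; 0, 0, -1]

theorem Xm_mul (a b : F) : Xm a * Xm b = Xm (a * b) := by
  ext i j
  fin_cases i <;> fin_cases j <;> simp [Xm, Matrix.mul_apply, Fin.sum_univ_three, mul_pow]

theorem Xm_one : Xm (1 : F) = 1 := by
  ext i j
  fin_cases i <;> fin_cases j <;> simp [Xm]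

theorem Xm_pow (a : F) (k : ℕ) : Xm a ^ k = Xm (a ^ k) := by
  induction k with
  | zero => rw [pow_zero, pow_zero, Xm_one]
  | succ k ih => rw [pow_succ, ih, Xm_mul, pow_succ]

theorem Ym_mul_Ym' : (Ym : Matrix (Fin 3) (Fin 3) F) * Ym' = 1 := by
  ext i j
  fin_cases i <;> fin_cases j <;> simp [Ym, Ym', Matrix.mul_apply, Fin.sum_univ_three]

theorem Ym'_mul_Ym : (Ym' : Matrix (Fin 3) (Fin 3) F) * Ym = 1 := by
  ext i j
  fin_cases i <;> fin_cases j <;> simp [Ym, Ym', Matrix.mul_apply, Fin.sum_univ_three]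

theorem Ym_mul_Ym : (Ym : Matrix (Fin 3) (Fin 3) F) * Ym = Ym' := by
  ext i j
  fin_cases i <;> fin_cases j <;> simp [Ym, Ym', Matrix.mul_apply, Fin.sum_univ_three]

theorem Tm_mul_Tm : (Tm : Matrix (Fin 3) (Fin 3) F) * Tm = 1 := by
  ext i j
  fin_cases i <;> fin_cases j <;> simp [Tm, Matrix.mul_apply, Fin.sum_univ_three]

theorem Xm_det (ω : F) (hω : ω ^ 2 + ω + 1 = 0) : (Xm ω).det = 1 := by
  rw [Matrix.det_fin_three]
  simp only [Xm, Matrix.of_apply, Matrix.cons_val', Matrix.cons_val_zero, Matrix.cons_val_one,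
    Matrix.cons_val_two, Matrix.empty_val', Matrix.cons_val_fin_one, Matrix.head_cons,
    Matrix.tail_cons, Matrix.head_fin_const]
  linear_combination omega_cube ω hω

theorem Ym_det : (Ym : Matrix (Fin 3) (Fin 3) F).det = 1 := by
  rw [Matrix.det_fin_three]
  simp [Ym]

theorem Tm_det : (Tm : Matrix (Fin 3) (Fin 3) F).det = 1 := by
  rw [Matrix.det_fin_three]
  simp [Tm]

/-- The generator `diag(1, ω, ω²)` as an element of `GL₃(F)`. -/
def Xg (ω : F) (hω : ω ^ 2 + ω + 1 = 0) : GL (Fin 3) F :=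
  ⟨Xm ω, Xm (ω ^ 2), by rw [Xm_mul, ← pow_succ', omega_cube ω hω, Xm_one],
    by rw [Xm_mul, ← pow_succ, omega_cube ω hω, Xm_one]⟩

/-- The cyclic shift as an element of `GL₃(F)`. -/
def Yg : GL (Fin 3) F := ⟨Ym, Ym', Ym_mul_Ym', Ym'_mul_Ym⟩

/-- The involution `-P_(01)` as an element of `GL₃(F)`. -/
def Tg : GL (Fin 3) F := ⟨Tm, Tm, Tm_mul_Tm, Tm_mul_Tm⟩

/-- Diagonal elements of `GL₃(F)`. -/
def dg (d : Fin 3 → Fˣ) : GL (Fin 3) F :=
  ⟨Matrix.diagonal (fun i => (d i : F)), Matrix.diagonal (fun i => ((d i)⁻¹ : Fˣ)),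
    by rw [Matrix.diagonal_mul_diagonal]; simp,
    by rw [Matrix.diagonal_mul_diagonal]; simp⟩

@[simp] theorem Xg_val (ω : F) (hω : ω ^ 2 + ω + 1 = 0) :
    ((Xg ω hω : GL (Fin 3) F) : Matrix (Fin 3) (Fin 3) F) = Xm ω := rfl

@[simp] theorem Yg_val : ((Yg : GL (Fin 3) F) : Matrix (Fin 3) (Fin 3) F) = Ym := rfl

@[simp] theorem Tg_val : ((Tg : GL (Fin 3) F) : Matrix (Fin 3) (Fin 3) F) = Tm := rfl

@[simp] theorem dg_val (d : Fin 3 → Fˣ) :
    ((dg d : GL (Fin 3) F) : Matrix (Fin 3) (Fin 3) F) = Matrix.diagonal (fun i => (d i : F)) := rfl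

/-- The scalar element `c • 1` of `GL₃(F)`. -/
def sg (c : Fˣ) : GL (Fin 3) F := Matrix.GeneralLinearGroup.scalar (Fin 3) c

@[simp] theorem sg_val (c : Fˣ) :
    ((sg c : GL (Fin 3) F) : Matrix (Fin 3) (Fin 3) F) = (c : F) • (1 : Matrix (Fin 3) (Fin 3) F) := by
  rw [sg, Matrix.GeneralLinearGroup.coe_scalar]
  ext i j
  simp [Matrix.scalar_apply, Matrix.diagonal_apply, Matrix.one_apply]

theorem sg_comm (c : Fˣ) (g : GL (Fin 3) F) : sg c * g = g * sg c :=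
  Matrix.GeneralLinearGroup.scalar_commute c g

theorem sg_mul (c c' : Fˣ) : sg c * sg c' = (sg (c * c') : GL (Fin 3) F) := by
  rw [sg, sg, sg, map_mul]

theorem sg_pow (c : Fˣ) (k : ℕ) : sg c ^ k = (sg (c ^ k) : GL (Fin 3) F) := by
  rw [sg, sg, map_pow]

/-- `ω` as a unit. -/
def ωu (ω : F) (hω : ω ^ 2 + ω + 1 = 0) : Fˣ := Units.mk0 ω (omega_ne_zero ω hω)

@[simp] theorem ωu_val (ω : F) (hω : ω ^ 2 + ω + 1 = 0) : ((ωu ω hω : Fˣ) : F) = ω := rfl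

/-- `X Y = ω Y X`. -/
theorem Xg_mul_Yg (ω : F) (hω : ω ^ 2 + ω + 1 = 0) :
    Xg ω hω * Yg = sg (ωu ω hω) * (Yg * Xg ω hω) := by
  apply Units.ext
  rw [Units.val_mul, Units.val_mul, Units.val_mul, sg_val, Xg_val, Yg_val, ωu_val]
  have h3 := omega_cube ω hω
  ext i j
  fin_cases i <;> fin_cases j <;>
    simp [Xm, Ym, Matrix.mul_apply, Fin.sum_univ_three, Matrix.smul_apply] <;>
    first | ring1 | linear_combination (-1 : F) * h3

theorem Xg_cube (ω : F) (hω : ω ^ 2 + ω + 1 = 0) : Xg ω hω ^ 3 = 1 := by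
  apply Units.ext
  rw [Units.val_pow_eq_pow_val, Xg_val, Xm_pow, omega_cube ω hω, Xm_one]
  rfl

theorem Yg_cube : (Yg : GL (Fin 3) F) ^ 3 = 1 := by
  apply Units.ext
  rw [Units.val_pow_eq_pow_val, Yg_val, pow_succ, pow_two, Ym_mul_Ym, Ym'_mul_Ym]
  rfl

/-- `T X T⁻¹ = ω X²`. -/
theorem Tg_mul_Xg (ω : F) (hω : ω ^ 2 + ω + 1 = 0) :
    Tg * Xg ω hω = sg (ωu ω hω) * (Xg ω hω * Xg ω hω) * Tg := by
  apply Units.ext
  rw [Units.val_mul, Units.val_mul, Units.val_mul, Units.val_mul, sg_val, Xg_val, Tg_val, ωu_val,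
    Xm_mul]
  have h3 := omega_cube ω hω
  ext i j
  fin_cases i <;> fin_cases j <;>
    simp [Xm, Tm, Matrix.mul_apply, Fin.sum_univ_three] <;>
    first | ring1 | linear_combination (-1 : F) * h3 | linear_combination (-ω ^ 2) * h3

/-- `T Y T⁻¹ = Y²`. -/
theorem Tg_mul_Yg : (Tg : GL (Fin 3) F) * Yg = Yg * Yg * Tg := by
  apply Units.ext
  rw [Units.val_mul, Units.val_mul, Units.val_mul, Yg_val, Tg_val, Ym_mul_Ym]
  ext i j
  fin_cases i <;> fin_cases j <;>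
    simp [Ym', Ym, Tm, Matrix.mul_apply, Fin.sum_univ_three]

theorem dg_mul_Xg (ω : F) (hω : ω ^ 2 + ω + 1 = 0) (d : Fin 3 → Fˣ) :
    dg d * Xg ω hω = Xg ω hω * dg d := by
  apply Units.ext
  rw [Units.val_mul, Units.val_mul, Xg_val, dg_val]
  ext i j
  fin_cases i <;> fin_cases j <;>
    simp [Xm, Matrix.mul_apply, Fin.sum_univ_three, Matrix.diagonal_apply, mul_comm]

/-- `D Y = Y E D` with `E = diag(d₁/d₀, d₂/d₁, d₀/d₂)`. -/
theorem dg_mul_Yg (d e : Fin 3 → Fˣ) (h0 : e 0 * d 0 = d 1) (h1 : e 1 * d 1 = d 2)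
    (h2 : e 2 * d 2 = d 0) :
    dg d * Yg = Yg * dg e * dg d := by
  have h0' : (e 0 : F) * d 0 = d 1 := by rw [← Units.val_mul, h0]
  have h1' : (e 1 : F) * d 1 = d 2 := by rw [← Units.val_mul, h1]
  have h2' : (e 2 : F) * d 2 = d 0 := by rw [← Units.val_mul, h2]
  apply Units.ext
  rw [Units.val_mul, Units.val_mul, Units.val_mul, Yg_val, dg_val, dg_val,
    Matrix.mul_assoc, Matrix.diagonal_mul_diagonal]
  ext i j
  fin_cases i <;> fin_cases j <;>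
    simp [Ym, Matrix.mul_apply, Fin.sum_univ_three, Matrix.diagonal_apply, h0', h1', h2']

end Cfsg.Agent.Helper7.Ex27
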