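import Mathlib
import Cfsg.Agent.Helper7.Ex27A
import Cfsg.Prelude.Def_GeometricClasses

set_option autoImplicit false

/-!
The standard extraspecial group `R0 = ⟨X, Y⟩` of order 27 in `GL₃(F)`: membership facts, elements of
its normaliser and its centraliser.
-/

namespace Cfsg.Agent.Helper7.Ex27

open Matrix Cfsg.Agent.Helper7.Singer

variable {F : Type*} [Field F]

theorem mem_SL_iff {ι : Type} [Fintype ι] [DecidableEq ι] (g : GL ι F) :
    g ∈ Cfsg.Geo.specialLinear ι F ↔ (g : Matrix ι ι F).det = 1 := by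
  unfold Cfsg.Geo.specialLinear
  rw [MonoidHom.mem_ker]
  constructor
  · intro h
    have := congrArg Units.val h
    simpa using this
  · intro h
    apply Units.ext
    simpa using h

/-- The standard extraspecial group of order 27. -/
def R0 (ω : F) (hω : ω ^ 2 + ω + 1 = 0) : Subgroup (GL (Fin 3) F) :=
  Subgroup.closure {Xg ω hω, Yg}

theorem Xg_mem (ω : F) (hω : ω ^ 2 + ω + 1 = 0) : Xg ω hω ∈ R0 ω hω :=
  Subgroup.subset_closure (by simp)

theorem Yg_mem (ω : F) (hω : ω ^ 2 + ω + 1 = 0) : Yg ∈ R0 ω hω :=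
  Subgroup.subset_closure (by simp)

theorem sg_omega_mem (ω : F) (hω : ω ^ 2 + ω + 1 = 0) : sg (ωu ω hω) ∈ R0 ω hω := by
  have h : sg (ωu ω hω) = Xg ω hω * Yg * (Xg ω hω)⁻¹ * (Yg)⁻¹ := by
    rw [Xg_mul_Yg]; group
  rw [h]
  exact Subgroup.mul_mem _ (Subgroup.mul_mem _ (Subgroup.mul_mem _ (Xg_mem ω hω) (Yg_mem ω hω))
    (Subgroup.inv_mem _ (Xg_mem ω hω))) (Subgroup.inv_mem _ (Yg_mem ω hω))

/-- The cube roots of unity are the powers of `ω`. -/
theorem cube_root_cases (ω : F) (hω : ω ^ 2 + ω + 1 = 0) (c : F) (hc : c ^ 3 = 1) :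
    c = 1 ∨ c = ω ∨ c = ω ^ 2 := by
  have hprod : (c - 1) * ((c - ω) * (c - ω ^ 2)) = 0 := by
    linear_combination hc + (c - 1) * (ω - 1 - c) * hω
  rcases mul_eq_zero.1 hprod with h | h
  · exact Or.inl (sub_eq_zero.1 h)
  · rcases mul_eq_zero.1 h with h | h
    · exact Or.inr (Or.inl (sub_eq_zero.1 h))
    · exact Or.inr (Or.inr (sub_eq_zero.1 h))

theorem exists_pow_of_cube (ω : F) (hω : ω ^ 2 + ω + 1 = 0) (c : F) (hc : c ^ 3 = 1) :
    ∃ k : ℕ, c = ω ^ k := by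
  rcases cube_root_cases ω hω c hc with h | h | h
  · exact ⟨0, by rw [h, pow_zero]⟩
  · exact ⟨1, by rw [h, pow_one]⟩
  · exact ⟨2, h⟩

theorem sg_mem_of_cube (ω : F) (hω : ω ^ 2 + ω + 1 = 0) (c : Fˣ) (hc : c ^ 3 = 1) :
    sg c ∈ R0 ω hω := by
  have hc' : (c : F) ^ 3 = 1 := by rw [← Units.val_pow_eq_pow_val, hc]; rfl
  obtain ⟨k, hk⟩ := exists_pow_of_cube ω hω (c : F) hc'
  have : c = ωu ω hω ^ k := by
    apply Units.ext
    rw [Units.val_pow_eq_pow_val, ωu_val, hk]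
  rw [this, ← sg_pow]
  exact Subgroup.pow_mem _ (sg_omega_mem ω hω) k

/-- Diagonal matrices with cube roots of unity as entries and determinant one lie in `R0`. -/
theorem dg_mem_R0 (ω : F) (hω : ω ^ 2 + ω + 1 = 0) (e : Fin 3 → Fˣ) (he : ∀ i, e i ^ 3 = 1)
    (hprod : e 0 * e 1 * e 2 = 1) : dg e ∈ R0 ω hω := by
  have h3 := omega_cube ω hω
  have he' : ∀ i, (e i : F) ^ 3 = 1 := fun i => by
    rw [← Units.val_pow_eq_pow_val, he i]; rfl
  obtain ⟨a, ha⟩ := exists_pow_of_cube ω hω _ (he' 0)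
  obtain ⟨c, hc⟩ := exists_pow_of_cube ω hω _ (he' 1)
  have hprod' : (e 0 : F) * e 1 * e 2 = 1 := by
    rw [← Units.val_mul, ← Units.val_mul, hprod]; rfl
  have h2 : (e 2 : F) = ω ^ (2 * a + 2 * c) := by
    have e1 : ω ^ (2 * a + 2 * c) * (ω ^ a * ω ^ c) = 1 := by
      rw [← pow_add, ← pow_add, show 2 * a + 2 * c + (a + c) = 3 * (a + c) by ring, pow_mul, h3,
        one_pow]
    calc (e 2 : F) = (ω ^ (2 * a + 2 * c) * (ω ^ a * ω ^ c)) * e 2 := by rw [e1, one_mul]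
      _ = ω ^ (2 * a + 2 * c) * ((e 0 : F) * e 1 * e 2) := by rw [ha, hc]; ring
      _ = ω ^ (2 * a + 2 * c) := by rw [hprod', mul_one]
  have hdg : dg e = sg (ωu ω hω ^ a) * Xg ω hω ^ (c + 2 * a) := by
    apply Units.ext
    rw [Units.val_mul, sg_val, Units.val_pow_eq_pow_val, Units.val_pow_eq_pow_val, Xg_val, Xm_pow,
      ωu_val, dg_val]
    have e1 : ω ^ a * ω ^ (c + 2 * a) = ω ^ c := by
      rw [← pow_add, show a + (c + 2 * a) = c + 3 * a by ring, pow_add, pow_mul, h3, one_pow,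
        mul_one]
    have e2 : ω ^ a * (ω ^ (c + 2 * a)) ^ 2 = ω ^ (2 * a + 2 * c) := by
      rw [← pow_mul, ← pow_add, show a + (c + 2 * a) * 2 = (2 * a + 2 * c) + 3 * a by ring,
        pow_add _ _ (3 * a), pow_mul _ 3 a, h3, one_pow, mul_one]
    ext i j
    fin_cases i <;> fin_cases j <;>
      simp [Xm, Matrix.diagonal_apply, Matrix.smul_apply, ha, hc, h2, e1, e2]
  rw [hdg]
  exact Subgroup.mul_mem _ (by rw [← sg_pow]; exact Subgroup.pow_mem _ (sg_omega_mem ω hω) a)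
    (Subgroup.pow_mem _ (Xg_mem ω hω) _)

/-- An element conjugating both generators into `R0` normalises `R0` (finite case). -/
theorem mem_normalizer_of_gens [Finite F] (ω : F) (hω : ω ^ 2 + ω + 1 = 0) (g : GL (Fin 3) F)
    (hX : g * Xg ω hω * g⁻¹ ∈ R0 ω hω) (hY : g * Yg * g⁻¹ ∈ R0 ω hω) :
    g ∈ Cfsg.Geo.subgroupNormalizer (R0 ω hω) := by
  unfold Cfsg.Geo.subgroupNormalizer
  haveI : Finite ((R0 ω hω : Subgroup (GL (Fin 3) F)) : Set (GL (Fin 3) F)) :=
    Set.toFinite _ |>.to_subtype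
  apply Subgroup.mem_normalizer_fintype
  have hle : R0 ω hω ≤ (R0 ω hω).comap (MulAut.conj g).toMonoidHom := by
    unfold R0
    rw [Subgroup.closure_le]
    intro n hn
    rcases hn with rfl | hn
    · exact hX
    · rw [Set.mem_singleton_iff] at hn
      rw [hn]
      exact hY
  intro n hn
  exact hle hn

theorem sg_mem_normalizer (R : Subgroup (GL (Fin 3) F)) (c : Fˣ) :
    sg c ∈ Cfsg.Geo.subgroupNormalizer R := by
  unfold Cfsg.Geo.subgroupNormalizer
  rw [Subgroup.mem_normalizer_iff]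
  intro h
  rw [sg_comm, mul_assoc, mul_inv_cancel, mul_one]

theorem dg_mem_normalizer [Finite F] (ω : F) (hω : ω ^ 2 + ω + 1 = 0) (d : Fin 3 → Fˣ)
    (hd : ∀ i, d i ^ 3 = 1) : dg d ∈ Cfsg.Geo.subgroupNormalizer (R0 ω hω) := by
  apply mem_normalizer_of_gens
  · rw [dg_mul_Xg, mul_assoc, mul_inv_cancel, mul_one]
    exact Xg_mem ω hω
  · rw [dg_mul_Yg d ![d 1 / d 0, d 2 / d 1, d 0 / d 2] (by simp) (by simp) (by simp), mul_assoc,
      mul_inv_cancel, mul_one]
    refine Subgroup.mul_mem _ (Yg_mem ω hω) (dg_mem_R0 ω hω _ ?_ ?_)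
    · intro i
      fin_cases i
      · simp [div_pow, hd]
      · simp [div_pow, hd]
      · simp [div_pow, hd]
    · show d 1 / d 0 * (d 2 / d 1) * (d 0 / d 2) = 1
      rw [mul_comm (d 1 / d 0), div_mul_div_cancel, div_mul_div_cancel, div_self']

theorem Tg_mem_normalizer [Finite F] (ω : F) (hω : ω ^ 2 + ω + 1 = 0) :
    Tg ∈ Cfsg.Geo.subgroupNormalizer (R0 ω hω) := by
  apply mem_normalizer_of_gens
  · rw [Tg_mul_Xg, mul_assoc, mul_inv_cancel, mul_one]
    exact Subgroup.mul_mem _ (sg_omega_mem ω hω) (Subgroup.mul_mem _ (Xg_mem ω hω) (Xg_mem ω hω))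
  · rw [Tg_mul_Yg, mul_assoc, mul_inv_cancel, mul_one]
    exact Subgroup.mul_mem _ (Yg_mem ω hω) (Yg_mem ω hω)

/-- Matrices commuting with `X` and `Y` are scalar. -/
theorem scalar_of_comm (ω : F) (hω : ω ^ 2 + ω + 1 = 0) (h3 : (3 : F) ≠ 0)
    (M : Matrix (Fin 3) (Fin 3) F) (hX : M * Xm ω = Xm ω * M) (hY : M * Ym = Ym * M) :
    M = (M 0 0) • (1 : Matrix (Fin 3) (Fin 3) F) := by
  have h1 := omega_ne_one ω hω h3
  have h2 := omega_sq_ne_one ω hω h3
  have h0 := omega_ne_zero ω hω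
  have h12 : ω ^ 2 ≠ ω := by
    intro h
    apply h1
    exact mul_left_cancel₀ h0 (show ω * ω = ω * 1 by rw [mul_one, ← pow_two, h])
  have eX : ∀ i j : Fin 3, (M * Xm ω) i j = (Xm ω * M) i j := fun i j => by rw [hX]
  have eY : ∀ i j : Fin 3, (M * (Ym : Matrix (Fin 3) (Fin 3) F)) i j =
      ((Ym : Matrix (Fin 3) (Fin 3) F) * M) i j := fun i j => by rw [hY]
  have a01 := eX 0 1
  have a02 := eX 0 2
  have a10 := eX 1 0
  have a12 := eX 1 2
  have a20 := eX 2 0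
  have a21 := eX 2 1
  have b10 := eY 1 0
  have b21 := eY 2 1
  simp [Xm, Ym, Matrix.mul_apply, Fin.sum_univ_three] at a01 a02 a10 a12 a20 a21 b10 b21
  have m01 : M 0 1 = 0 := by
    have : M 0 1 * (ω - 1) = 0 := by linear_combination a01
    exact (mul_eq_zero.1 this).resolve_right (sub_ne_zero.2 h1)
  have m02 : M 0 2 = 0 := by
    have : M 0 2 * (ω ^ 2 - 1) = 0 := by linear_combination a02
    exact (mul_eq_zero.1 this).resolve_right (sub_ne_zero.2 h2)
  have m10 : M 1 0 = 0 := by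
    have : M 1 0 * (1 - ω) = 0 := by linear_combination a10
    exact (mul_eq_zero.1 this).resolve_right (sub_ne_zero.2 (Ne.symm h1))
  have m12 : M 1 2 = 0 := by
    have : M 1 2 * (ω ^ 2 - ω) = 0 := by linear_combination a12
    exact (mul_eq_zero.1 this).resolve_right (sub_ne_zero.2 h12)
  have m20 : M 2 0 = 0 := by
    have : M 2 0 * (1 - ω ^ 2) = 0 := by linear_combination a20
    exact (mul_eq_zero.1 this).resolve_right (sub_ne_zero.2 (Ne.symm h2))
  have m21 : M 2 1 = 0 := by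
    have : M 2 1 * (ω - ω ^ 2) = 0 := by linear_combination a21
    exact (mul_eq_zero.1 this).resolve_right (sub_ne_zero.2 (Ne.symm h12))
  ext i j
  fin_cases i <;> fin_cases j <;>
    simp [Matrix.smul_apply, Matrix.one_apply, m01, m02, m10, m12, m20, m21]
  · exact b10
  · rw [b21, b10]

theorem R0_le_SL (ω : F) (hω : ω ^ 2 + ω + 1 = 0) :
    R0 ω hω ≤ Cfsg.Geo.specialLinear (Fin 3) F := by
  unfold R0
  rw [Subgroup.closure_le]
  intro n hn
  rcases hn with rfl | hn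
  · exact (mem_SL_iff _).2 (by rw [Xg_val]; exact Xm_det ω hω)
  · rw [Set.mem_singleton_iff] at hn
    rw [hn]
    exact (mem_SL_iff _).2 (by rw [Yg_val]; exact Ym_det)

end Cfsg.Agent.Helper7.Ex27
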