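import Mathlib
import Cfsg.Prelude.Def_GeometricClasses

set_option autoImplicit false

namespace Cfsg.Agent.Helper7.Invol

open Matrix

variable {F : Type*} [Field F] {n : ℕ}

/-- A field structure on a field subalgebra. -/
@[instance_reducible]
noncomputable def fieldOfSub {r : ℕ} (K : Subalgebra F (Matrix (Fin n) (Fin n) F))
    (hK : Cfsg.Geo.IsFieldSubalgebra r K) (hn : 0 < n) : Field K :=
  IsField.toField (R := K)
    { exists_pair_ne := by
        haveI : Nonempty (Fin n) := ⟨⟨0, hn⟩⟩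
        haveI : Nontrivial (Matrix (Fin n) (Fin n) F) := inferInstance
        exact ⟨0, 1, fun h => zero_ne_one (congrArg Subtype.val h)⟩
      mul_comm := fun x y => Subtype.ext (hK.comm x x.2 y y.2)
      mul_inv_cancel := fun {a} ha => by
        obtain ⟨y, hy, hxy⟩ := hK.inv a a.2 (fun h => ha (Subtype.ext h))
        exact ⟨⟨y, hy⟩, Subtype.ext hxy⟩ }

/-- The module structure of `F^n` over a field subalgebra. -/
@[instance_reducible]
noncomputable def modOfSub (K : Subalgebra F (Matrix (Fin n) (Fin n) F)) :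
    Module K (Fin n → F) :=
  Module.compHom (Fin n → F)
    ((Matrix.toLinAlgEquiv' : Matrix (Fin n) (Fin n) F ≃ₐ[F] _).toAlgHom.toRingHom.comp
      K.val.toRingHom)

theorem linIndep_pair (K : Subalgebra F (Matrix (Fin n) (Fin n) F)) (hn : 0 < n)
    (κ : Matrix (Fin n) (Fin n) F) (hκK : κ ∈ K) (hκ : ∀ a : F, κ ≠ a • 1) :
    LinearIndependent F ![(1 : K), ⟨κ, hκK⟩] := by
  rw [LinearIndependent.pair_iff]
  intro s t hst
  have h1 : s • (1 : Matrix (Fin n) (Fin n) F) + t • κ = 0 := by
    have := congrArg Subtype.val hst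
    simpa using this
  by_cases ht : t = 0
  · subst ht
    rw [zero_smul, add_zero] at h1
    haveI : Nonempty (Fin n) := ⟨⟨0, hn⟩⟩
    have : s = 0 := by
      by_contra hs
      have h2 : (1 : Matrix (Fin n) (Fin n) F) = 0 := by
        have := congrArg (fun M => s⁻¹ • M) h1
        simpa [smul_smul, inv_mul_cancel₀ hs] using this
      exact one_ne_zero h2
    exact ⟨this, rfl⟩
  · exfalso
    apply hκ (-(t⁻¹ * s))
    have h2 : t • κ = -(s • (1 : Matrix (Fin n) (Fin n) F)) := eq_neg_of_add_eq_zero_right h1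
    have := congrArg (fun M => t⁻¹ • M) h2
    simp only [smul_smul, inv_mul_cancel₀ ht, one_smul, smul_neg] at this
    rw [this, neg_smul]

/-- Every element of a field subalgebra of degree 2 is `a + bκ`. -/
theorem exists_decomp (K : Subalgebra F (Matrix (Fin n) (Fin n) F))
    (hK : Cfsg.Geo.IsFieldSubalgebra 2 K) (hn : 0 < n)
    (κ : Matrix (Fin n) (Fin n) F) (hκK : κ ∈ K) (hκ : ∀ a : F, κ ≠ a • 1)
    (k : Matrix (Fin n) (Fin n) F) (hk : k ∈ K) :
    ∃ a b : F, k = a • (1 : Matrix (Fin n) (Fin n) F) + b • κ := by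
  have hli := linIndep_pair K hn κ hκK hκ
  have hcard : Fintype.card (Fin 2) = Module.finrank F K := by
    rw [hK.finrank_eq]; rfl
  let bK : Module.Basis (Fin 2) F K := basisOfLinearIndependentOfCardEqFinrank hli hcard
  have h := bK.sum_repr ⟨k, hk⟩
  rw [Fin.sum_univ_two] at h
  simp only [bK, coe_basisOfLinearIndependentOfCardEqFinrank, Matrix.cons_val_zero,
    Matrix.cons_val_one] at h
  have h' := congrArg Subtype.val h
  simp only [Subalgebra.coe_add, Subalgebra.coe_smul, Subalgebra.coe_one] at h'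
  exact ⟨_, _, h'.symm⟩

/-- A field subalgebra of degree 2 contains a non-scalar matrix. -/
theorem exists_nonscalar (K : Subalgebra F (Matrix (Fin n) (Fin n) F))
    (hK : Cfsg.Geo.IsFieldSubalgebra 2 K) :
    ∃ κ ∈ K, ∀ a : F, κ ≠ a • (1 : Matrix (Fin n) (Fin n) F) := by
  by_contra hcon
  push_neg at hcon
  let φ : F →ₗ[F] K :=
    { toFun := fun a => ⟨a • (1 : Matrix (Fin n) (Fin n) F), K.smul_mem K.one_mem a⟩
      map_add' := fun a b => Subtype.ext (by simp [add_smul])
      map_smul' := fun c a => Subtype.ext (by simp [smul_smul]) }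
  have hsurj : Function.Surjective φ := by
    rintro ⟨k, hk⟩
    obtain ⟨a, ha⟩ := hcon k hk
    exact ⟨a, Subtype.ext ha.symm⟩
  have h := LinearMap.finrank_le_finrank_of_surjective hsurj
  rw [hK.finrank_eq, Module.finrank_self] at h
  omega

theorem exists_pair_basis (K : Subalgebra F (Matrix (Fin n) (Fin n) F))
    (hK : Cfsg.Geo.IsFieldSubalgebra 2 K) (hn : 0 < n)
    (κ : Matrix (Fin n) (Fin n) F) (hκK : κ ∈ K) (hκ : ∀ a : F, κ ≠ a • 1) :
    ∃ (m : ℕ) (b : Module.Basis (Fin 2 × Fin m) F (Fin n → F)), n = 2 * m ∧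
      (∀ j, b (1, j) = κ *ᵥ b (0, j)) := by
  classical
  letI : Field K := fieldOfSub K hK hn
  letI : Module K (Fin n → F) := modOfSub K
  have hsmul : ∀ (k : K) (v : Fin n → F), k • v = (k : Matrix (Fin n) (Fin n) F) *ᵥ v := by
    intro k v; rfl
  have htower : IsScalarTower F K (Fin n → F) := ⟨fun a k v => by
    rw [hsmul, hsmul, Subalgebra.coe_smul, Matrix.smul_mulVec]⟩
  haveI htower' : IsScalarTower F K (Fin n → F) := IsScalarTower.of_algebraMap_smul (fun r x => by
    rw [hsmul, Subalgebra.coe_algebraMap, Algebra.algebraMap_eq_smul_one, Matrix.smul_mulVec,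
      Matrix.one_mulVec])
  have hfin : Module.Finite K (Fin n → F) :=
    @Module.Finite.of_restrictScalars_finite F K (Fin n → F) _ _ _ _ _ _ htower _
  have hli : LinearIndependent F ![(1 : K), ⟨κ, hκK⟩] := linIndep_pair K hn κ hκK hκ
  have hcard : Fintype.card (Fin 2) = Module.finrank F K := by
    rw [hK.finrank_eq]; rfl
  let bK : Module.Basis (Fin 2) F K := basisOfLinearIndependentOfCardEqFinrank hli hcard
  let c : Module.Basis (Fin (Module.finrank K (Fin n → F))) K (Fin n → F) := Module.finBasis K _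
  have key : ∀ (a : F) (k : K) (v : Fin n → F), (a • k) • v = a • (k • v) := fun a k v =>
    htower.smul_assoc a k v
  refine ⟨Module.finrank K (Fin n → F),
    @Module.Basis.smulTower F K (Fin n → F) _ _ _ _ _ _ ⟨key⟩ _ _ bK c, ?_, ?_⟩
  · have h := @Module.finrank_mul_finrank F K (Fin n → F) _ _ _ _ _ _ ⟨key⟩ _ _ _ _
    rw [hK.finrank_eq, Module.finrank_fin_fun] at h
    exact h.symm
  · intro j
    have h1 := @Module.Basis.smulTower_apply F K (Fin n → F) _ _ _ _ _ _ ⟨key⟩ _ _ bK c (1, j)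
    have h0 := @Module.Basis.smulTower_apply F K (Fin n → F) _ _ _ _ _ _ ⟨key⟩ _ _ bK c (0, j)
    rw [h1, h0]
    simp only [bK, coe_basisOfLinearIndependentOfCardEqFinrank, Matrix.cons_val_zero,
      Matrix.cons_val_one]
    change κ *ᵥ c j = κ *ᵥ ((1 : Matrix (Fin n) (Fin n) F) *ᵥ c j)
    rw [Matrix.one_mulVec]

end Cfsg.Agent.Helper7.Invol
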