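import Mathlib
import Cfsg.Agent.Helper7.InvolA

set_option autoImplicit false

namespace Cfsg.Agent.Helper7.Invol

open Matrix

variable {F : Type*} [Field F] {n : ℕ}

/-- Nonzero elements of a field subalgebra act injectively. -/
theorem mulVec_eq_zero_of_mem {r : ℕ} (K : Subalgebra F (Matrix (Fin n) (Fin n) F))
    (hK : Cfsg.Geo.IsFieldSubalgebra r K) (k : Matrix (Fin n) (Fin n) F) (hk : k ∈ K)
    (hk0 : k ≠ 0) (v : Fin n → F) (hv : k *ᵥ v = 0) : v = 0 := by
  obtain ⟨y, hy, hky⟩ := hK.inv k hk hk0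
  have hyk : y * k = 1 := by rw [hK.comm y hy k hk]; exact hky
  have := congrArg (fun w => y *ᵥ w) hv
  simpa [Matrix.mulVec_mulVec, hyk] using this

/-- A matrix `μ(1 + N)` with `N` of rank one cannot normalise a field subalgebra of degree 2
when `n ≥ 3`. -/
theorem no_rank_one_normalizer (hn : 3 ≤ n) (K : Subalgebra F (Matrix (Fin n) (Fin n) F))
    (hK : Cfsg.Geo.IsFieldSubalgebra 2 K) (Y Yi N : Matrix (Fin n) (Fin n) F) (μ : F)
    (hμ : μ ≠ 0) (hY : Y = μ • (1 + N)) (a : Fin n → F)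
    (hN : ∀ v, ∃ s : F, N *ᵥ v = s • a) (hN0 : N ≠ 0)
    (hYYi : Y * Yi = 1) (hYiY : Yi * Y = 1) (hnorm : ∀ k ∈ K, Y * k * Yi ∈ K) : False := by
  classical
  have hn0 : 0 < n := by omega
  obtain ⟨κ, hκK, hκ⟩ := exists_nonscalar K hK
  have hκ'K := hnorm κ hκK
  obtain ⟨κ', hκ'⟩ : ∃ κ', κ' = Y * κ * Yi := ⟨_, rfl⟩
  rw [← hκ'] at hκ'K
  have h1 : Y * κ = κ' * Y := by
    rw [hκ', Matrix.mul_assoc, hYiY, Matrix.mul_one]
  have h2 : (1 + N) * κ = κ' * (1 + N) := by
    rw [hY] at h1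
    rw [Matrix.smul_mul, Matrix.mul_smul] at h1
    have := congrArg (fun M => μ⁻¹ • M) h1
    simpa [smul_smul, inv_mul_cancel₀ hμ] using this
  have h3 : κ - κ' = κ' * N - N * κ := by
    rw [add_mul, mul_add, Matrix.one_mul, Matrix.mul_one] at h2
    rw [sub_eq_sub_iff_add_eq_add, add_comm (κ' * N), ← h2, add_comm]
  by_cases hκκ : κ' = κ
  · -- N commutes with κ
    rw [hκκ, sub_self] at h3
    have hcomm : κ * N = N * κ := sub_eq_zero.1 h3.symm
    have hex : ∃ v, N *ᵥ v ≠ 0 := by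
      by_contra hcon
      push_neg at hcon
      apply hN0
      apply Matrix.toLin'.injective
      apply LinearMap.ext
      intro v
      simp [Matrix.toLin'_apply, hcon v]
    obtain ⟨v, hv⟩ := hex
    obtain ⟨s, hs⟩ := hN v
    obtain ⟨s', hs'⟩ := hN (κ *ᵥ v)
    have hs0 : s ≠ 0 := by
      rintro rfl
      exact hv (by rw [hs, zero_smul])
    have ha0 : a ≠ 0 := by
      rintro rfl
      exact hv (by rw [hs, smul_zero])
    have h4 : κ *ᵥ (N *ᵥ v) = N *ᵥ (κ *ᵥ v) := by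
      rw [Matrix.mulVec_mulVec, Matrix.mulVec_mulVec, hcomm]
    rw [hs, hs', Matrix.mulVec_smul] at h4
    have h5 : (κ - (s⁻¹ * s') • (1 : Matrix (Fin n) (Fin n) F)) *ᵥ a = 0 := by
      rw [Matrix.sub_mulVec, Matrix.smul_mulVec, Matrix.one_mulVec, sub_eq_zero]
      have := congrArg (fun w => s⁻¹ • w) h4
      simpa [smul_smul, inv_mul_cancel₀ hs0] using this
    have hmem : κ - (s⁻¹ * s') • (1 : Matrix (Fin n) (Fin n) F) ∈ K :=
      K.sub_mem hκK (K.smul_mem K.one_mem _)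
    have hne : κ - (s⁻¹ * s') • (1 : Matrix (Fin n) (Fin n) F) ≠ 0 := fun h =>
      hκ _ (sub_eq_zero.1 h)
    exact ha0 (mulVec_eq_zero_of_mem K hK _ hmem hne a h5)
  · -- κ - κ' is invertible but of rank at most two
    have hmem : κ - κ' ∈ K := K.sub_mem hκK hκ'K
    have hne : κ - κ' ≠ 0 := fun h => hκκ (sub_eq_zero.1 h).symm
    obtain ⟨y, hy, hδy⟩ := hK.inv _ hmem hne
    have hrange : ∀ w : Fin n → F, w ∈ Submodule.span F ({κ' *ᵥ a, a} : Set (Fin n → F)) := by
      intro w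
      obtain ⟨s, hs⟩ := hN (y *ᵥ w)
      obtain ⟨s', hs'⟩ := hN (κ *ᵥ (y *ᵥ w))
      have hmem2 : (κ' * N - N * κ) *ᵥ (y *ᵥ w)
          ∈ Submodule.span F ({κ' *ᵥ a, a} : Set (Fin n → F)) := by
        rw [Matrix.sub_mulVec, ← Matrix.mulVec_mulVec, ← Matrix.mulVec_mulVec, hs, hs',
          Matrix.mulVec_smul]
        refine Submodule.sub_mem _ (Submodule.smul_mem _ _ (Submodule.subset_span (by simp)))
          (Submodule.smul_mem _ _ (Submodule.subset_span (by simp)))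
      have hw : (κ' * N - N * κ) *ᵥ (y *ᵥ w) = w := by
        rw [← h3, Matrix.mulVec_mulVec, hδy, Matrix.one_mulVec]
      rwa [hw] at hmem2
    have htop : Submodule.span F ({κ' *ᵥ a, a} : Set (Fin n → F)) = ⊤ :=
      eq_top_iff.2 (fun w _ => hrange w)
    have hfr : Module.finrank F (Submodule.span F ({κ' *ᵥ a, a} : Set (Fin n → F))) ≤ 2 := by
      have := finrank_span_le_card (R := F) ({κ' *ᵥ a, a} : Set (Fin n → F))
      refine this.trans ?_
      rw [Set.toFinset_card]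
      exact (Fintype.card_le_of_surjective
        (fun i : Fin 2 => (⟨![κ' *ᵥ a, a] i, by fin_cases i <;> simp⟩ :
          ({κ' *ᵥ a, a} : Set (Fin n → F))))
        (by
          rintro ⟨w, hw⟩
          rcases hw with rfl | hw
          · exact ⟨0, rfl⟩
          · rw [Set.mem_singleton_iff] at hw
            subst hw
            exact ⟨1, rfl⟩)).trans (by simp)
    rw [htop, finrank_top, Module.finrank_fin_fun] at hfr
    omega

end Cfsg.Agent.Helper7.Invol
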