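import Mathlib

set_option autoImplicit false

namespace Cfsg.Agent.Helper7.Invol

open Matrix

variable {F : Type*} [Field F] {n : ℕ}

/-- The matrix `X` acts on the basis `b` through the matrix `A`. -/
def ActsVia {ι : Type*} [Fintype ι] (X : Matrix (Fin n) (Fin n) F)
    (b : Module.Basis ι F (Fin n → F)) (A : Matrix ι ι F) : Prop :=
  ∀ i, X *ᵥ b i = ∑ j, A j i • b j

theorem actsVia_iff {ι : Type*} [Fintype ι] [DecidableEq ι] (X : Matrix (Fin n) (Fin n) F)
    (b : Module.Basis ι F (Fin n → F)) (A : Matrix ι ι F) :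
    ActsVia X b A ↔ LinearMap.toMatrix b b (Matrix.toLin' X) = A := by
  constructor
  · intro h
    ext i j
    rw [LinearMap.toMatrix_apply, Matrix.toLin'_apply, h j, map_sum]
    simp only [map_smul, Module.Basis.repr_self]
    rw [Finsupp.finset_sum_apply]
    simp only [Finsupp.smul_apply, Finsupp.single_apply, smul_eq_mul, mul_ite, mul_one, mul_zero]
    rw [Finset.sum_ite_eq' Finset.univ i]
    simp
  · intro h i
    rw [← h]
    simp only [LinearMap.toMatrix_apply]
    rw [← Matrix.toLin'_apply]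
    exact (b.sum_repr _).symm

/-- Two matrices acting through the same matrix on two bases are conjugate under `SL_n`, as soon
as the centraliser of the common matrix has all determinants. -/
theorem conj_of_actsVia {ι : Type*} [Fintype ι] [DecidableEq ι]
    (X Y : Matrix (Fin n) (Fin n) F) (b b' : Module.Basis ι F (Fin n → F)) (A : Matrix ι ι F)
    (hX : ActsVia X b A) (hY : ActsVia Y b' A)
    (hC : ∀ δ : F, δ ≠ 0 → ∃ C : Matrix ι ι F, C * A = A * C ∧ C.det = δ) :
    ∃ P : Matrix.SpecialLinearGroup (Fin n) F,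
      X * (P : Matrix (Fin n) (Fin n) F) = (P : Matrix (Fin n) (Fin n) F) * Y := by
  classical
  -- g maps b' to b
  let g : (Fin n → F) ≃ₗ[F] (Fin n → F) := b'.equiv b (Equiv.refl ι)
  have hg : ∀ i, g (b' i) = b i := fun i => by simp [g]
  let G : Matrix (Fin n) (Fin n) F := LinearMap.toMatrix' (g : (Fin n → F) →ₗ[F] (Fin n → F))
  have hGv : ∀ v, G *ᵥ v = g v := fun v => by
    simp only [G]
    rw [← Matrix.toLin'_apply, Matrix.toLin'_toMatrix']
    rfl
  have hXG : X * G = G * Y := by
    apply Matrix.toLin'.injective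
    apply b'.ext
    intro i
    rw [Matrix.toLin'_mul, Matrix.toLin'_mul, LinearMap.comp_apply, LinearMap.comp_apply,
      Matrix.toLin'_apply, Matrix.toLin'_apply, Matrix.toLin'_apply, Matrix.toLin'_apply,
      hGv, hg, hX i, hY i, hGv, map_sum]
    refine Finset.sum_congr rfl (fun j _ => ?_)
    rw [map_smul, hg]
  have hdetG : G.det ≠ 0 := by
    have h1 : G.det = LinearMap.det (g : (Fin n → F) →ₗ[F] (Fin n → F)) := by
      simp only [G]
      rw [LinearMap.det_toMatrix']
    rw [h1]
    exact (LinearEquiv.isUnit_det' g).ne_zero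
  obtain ⟨C, hCA, hCd⟩ := hC (G.det)⁻¹ (inv_ne_zero hdetG)
  let c : (Fin n → F) →ₗ[F] (Fin n → F) := (LinearMap.toMatrix b b).symm C
  have hcX : c ∘ₗ Matrix.toLin' X = Matrix.toLin' X ∘ₗ c := by
    apply (LinearMap.toMatrix b b).injective
    rw [LinearMap.toMatrix_comp b b b, LinearMap.toMatrix_comp b b b]
    simp only [c, LinearEquiv.apply_symm_apply]
    rw [(actsVia_iff X b A).1 hX, hCA]
  let C' : Matrix (Fin n) (Fin n) F := LinearMap.toMatrix' c
  have hC'X : C' * X = X * C' := by
    apply Matrix.toLin'.injective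
    rw [Matrix.toLin'_mul, Matrix.toLin'_mul]
    simp only [C', Matrix.toLin'_toMatrix']
    exact hcX
  have hdetC' : C'.det = (G.det)⁻¹ := by
    simp only [C']
    rw [LinearMap.det_toMatrix', ← LinearMap.det_toMatrix b]
    simp only [c, LinearEquiv.apply_symm_apply]
    exact hCd
  refine ⟨⟨C' * G, ?_⟩, ?_⟩
  · rw [Matrix.det_mul, hdetC', inv_mul_cancel₀ hdetG]
  · show X * (C' * G) = C' * G * Y
    rw [← Matrix.mul_assoc, ← hC'X, Matrix.mul_assoc, hXG, Matrix.mul_assoc]

end Cfsg.Agent.Helper7.Invol
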