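import Mathlib
import Cfsg.Agent.Helper7.InvolF

set_option autoImplicit false

namespace Cfsg.Agent.Helper7.Invol

open Matrix

variable {F : Type*} [Field F] {n : ℕ}

/-- Field subalgebras have no zero divisors. -/
theorem eq_zero_or_of_mul {r : ℕ} (K : Subalgebra F (Matrix (Fin n) (Fin n) F))
    (hK : Cfsg.Geo.IsFieldSubalgebra r K) (x y : Matrix (Fin n) (Fin n) F) (hx : x ∈ K)
    (hxy : x * y = 0) : x = 0 ∨ y = 0 := by
  by_cases hx0 : x = 0
  · exact Or.inl hx0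
  · right
    obtain ⟨x', hx', hxx'⟩ := hK.inv x hx hx0
    have hx'x : x' * x = 1 := by rw [hK.comm x' hx' x hx]; exact hxx'
    have := congrArg (fun M => x' * M) hxy
    simpa [← Matrix.mul_assoc, hx'x] using this

/-- In odd characteristic a field subalgebra of degree 2 is generated by a square root of a
non-square scalar. -/
theorem exists_sqrt_gen (h2 : (2 : F) ≠ 0) (hn : 0 < n)
    (K : Subalgebra F (Matrix (Fin n) (Fin n) F)) (hK : Cfsg.Geo.IsFieldSubalgebra 2 K) :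
    ∃ κ ∈ K, ∃ D : F, ¬ IsSquare D ∧ κ * κ = D • (1 : Matrix (Fin n) (Fin n) F) ∧
      ∀ a : F, κ ≠ a • (1 : Matrix (Fin n) (Fin n) F) := by
  obtain ⟨κ₀, hκ₀K, hκ₀⟩ := exists_nonscalar K hK
  obtain ⟨d, t, hdt⟩ := exists_decomp K hK hn κ₀ hκ₀K hκ₀ (κ₀ * κ₀) (K.mul_mem hκ₀K hκ₀K)
  have hκns : ∀ a : F, κ₀ - (t / 2) • (1 : Matrix (Fin n) (Fin n) F) ≠ a • 1 := by
    intro a h
    apply hκ₀ (a + t / 2)
    rw [add_smul, ← h]; abel
  have hκK : κ₀ - (t / 2) • (1 : Matrix (Fin n) (Fin n) F) ∈ K :=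
    K.sub_mem hκ₀K (K.smul_mem K.one_mem _)
  have hsq : (κ₀ - (t / 2) • (1 : Matrix (Fin n) (Fin n) F)) * (κ₀ - (t / 2) • 1)
      = (d + t * t / 4) • (1 : Matrix (Fin n) (Fin n) F) := by
    simp only [sub_mul, mul_sub, Matrix.smul_mul, Matrix.mul_smul, Matrix.one_mul,
      Matrix.mul_one, hdt, smul_smul]
    have h4 : (4 : F) ≠ 0 := by
      have : (4 : F) = 2 * 2 := by norm_num
      rw [this]; exact mul_ne_zero h2 h2
    have e1 : t / 2 * (t / 2) = t * t / 4 := by field_simp; ring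
    have e2 : t = t / 2 + t / 2 := by field_simp; ring
    rw [e1]
    nth_rewrite 1 [e2]
    module
  refine ⟨_, hκK, d + t * t / 4, ?_, hsq, hκns⟩
  rintro ⟨s, hs⟩
  have hfac : (κ₀ - (t / 2) • (1 : Matrix (Fin n) (Fin n) F) - s • 1)
      * (κ₀ - (t / 2) • (1 : Matrix (Fin n) (Fin n) F) + s • 1) = 0 := by
    have : (κ₀ - (t / 2) • (1 : Matrix (Fin n) (Fin n) F) - s • 1)
        * (κ₀ - (t / 2) • (1 : Matrix (Fin n) (Fin n) F) + s • 1)
        = (κ₀ - (t / 2) • (1 : Matrix (Fin n) (Fin n) F)) * (κ₀ - (t / 2) • 1)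
          - (s * s) • 1 := by
      simp only [sub_mul, mul_sub, add_mul, mul_add, Matrix.smul_mul, Matrix.mul_smul,
        Matrix.one_mul, Matrix.mul_one, smul_smul]
      module
    rw [this, hsq, hs, sub_self]
  rcases eq_zero_or_of_mul K hK _ _ (K.sub_mem hκK (K.smul_mem K.one_mem _)) hfac with h | h
  · exact hκns s (sub_eq_zero.1 h)
  · exact hκns (-s) (by rw [neg_smul]; exact eq_neg_of_add_eq_zero_left h)

/-- Over a finite field of odd order, a field subalgebra of degree 2 contains a square root of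
every non-square scalar. -/
theorem exists_sqrt_of_nonsquare [Fintype F] (h2 : (2 : F) ≠ 0) (hn : 0 < n)
    (K : Subalgebra F (Matrix (Fin n) (Fin n) F)) (hK : Cfsg.Geo.IsFieldSubalgebra 2 K)
    (z : F) (hz : ¬ IsSquare z) :
    ∃ κ ∈ K, κ * κ = z • (1 : Matrix (Fin n) (Fin n) F) := by
  classical
  obtain ⟨κ, hκK, D, hD, hκ2, -⟩ := exists_sqrt_gen h2 hn K hK
  have hz0 : z ≠ 0 := fun h => hz (h ▸ ⟨0, by simp⟩)
  have hD0 : D ≠ 0 := fun h => hD (h ▸ ⟨0, by simp⟩)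
  have hχ : quadraticChar F (z * D) = 1 := by
    rw [map_mul, quadraticChar_neg_one_iff_not_isSquare.2 hz,
      quadraticChar_neg_one_iff_not_isSquare.2 hD]
    norm_num
  obtain ⟨s, hs⟩ := (quadraticChar_one_iff_isSquare (mul_ne_zero hz0 hD0)).1 hχ
  refine ⟨(s / D) • κ, K.smul_mem hκK _, ?_⟩
  rw [Matrix.smul_mul, Matrix.mul_smul, hκ2, smul_smul, smul_smul]
  congr 1
  field_simp
  linear_combination -hs

end Cfsg.Agent.Helper7.Invol
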