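import Mathlib
import Cfsg.Agent.Helper7.InvolG

set_option autoImplicit false

namespace Cfsg.Agent.Helper7.Invol

open Matrix

variable {F : Type*} [Field F] {n : ℕ}

/-- The matrix acting diagonally on a basis with prescribed eigenvalues. -/
noncomputable def Dg {ι : Type*} (b : Module.Basis ι F (Fin n → F)) (ε : ι → F) :
    Matrix (Fin n) (Fin n) F :=
  LinearMap.toMatrix' (b.constr F (fun i => ε i • b i))

theorem Dg_mulVec {ι : Type*} (b : Module.Basis ι F (Fin n → F)) (ε : ι → F) (i : ι) :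
    Dg b ε *ᵥ b i = ε i • b i := by
  rw [Dg, ← Matrix.toLin'_apply, Matrix.toLin'_toMatrix', Module.Basis.constr_basis]

theorem eq_of_mulVec_basis {ι : Type*} (b : Module.Basis ι F (Fin n → F))
    (A B : Matrix (Fin n) (Fin n) F) (h : ∀ i, A *ᵥ b i = B *ᵥ b i) : A = B := by
  apply Matrix.toLin'.injective
  apply b.ext
  intro i
  rw [Matrix.toLin'_apply, Matrix.toLin'_apply, h]

theorem Dg_mul {ι : Type*} (b : Module.Basis ι F (Fin n → F)) (ε ε' : ι → F) :
    Dg b ε * Dg b ε' = Dg b (fun i => ε i * ε' i) := by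
  apply eq_of_mulVec_basis b
  intro i
  rw [← Matrix.mulVec_mulVec, Dg_mulVec, Matrix.mulVec_smul, Dg_mulVec, Dg_mulVec, smul_smul,
    mul_comm]

theorem Dg_one {ι : Type*} (b : Module.Basis ι F (Fin n → F)) :
    Dg b (fun _ => (1 : F)) = 1 := by
  apply eq_of_mulVec_basis b
  intro i
  rw [Dg_mulVec, one_smul, Matrix.one_mulVec]

/-- Sign patterns constant on pairs commute with the generator. -/
theorem Dg_comm_pair {m : ℕ} (κ : Matrix (Fin n) (Fin n) F) (D : F)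
    (hκ : κ * κ = D • (1 : Matrix (Fin n) (Fin n) F))
    (b : Module.Basis (Fin 2 × Fin m) F (Fin n → F)) (hb : ∀ j, b (1, j) = κ *ᵥ b (0, j))
    (ε : Fin 2 × Fin m → F) (hε : ∀ j, ε (1, j) = ε (0, j)) :
    Dg b ε * κ = κ * Dg b ε := by
  apply eq_of_mulVec_basis b
  rintro ⟨i, j⟩
  have hκ1 : κ *ᵥ b (1, j) = D • b (0, j) := by
    rw [hb j, Matrix.mulVec_mulVec, hκ, Matrix.smul_mulVec, Matrix.one_mulVec]
  fin_cases i
  · simp only [Fin.zero_eta, Fin.isValue]
    rw [← Matrix.mulVec_mulVec, ← Matrix.mulVec_mulVec, ← hb j, Dg_mulVec, Dg_mulVec,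
      Matrix.mulVec_smul, ← hb j, hε]
  · simp only [Fin.mk_one, Fin.isValue]
    rw [← Matrix.mulVec_mulVec, ← Matrix.mulVec_mulVec, hκ1, Dg_mulVec, Matrix.mulVec_smul,
      Matrix.mulVec_smul, Dg_mulVec, hκ1, smul_smul, smul_smul, hε, mul_comm]

/-- Sign patterns alternating on pairs anticommute with the generator. -/
theorem Dg_anticomm_pair {m : ℕ} (κ : Matrix (Fin n) (Fin n) F) (D : F)
    (hκ : κ * κ = D • (1 : Matrix (Fin n) (Fin n) F))
    (b : Module.Basis (Fin 2 × Fin m) F (Fin n → F)) (hb : ∀ j, b (1, j) = κ *ᵥ b (0, j))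
    (ε : Fin 2 × Fin m → F) (hε : ∀ j, ε (1, j) = - ε (0, j)) :
    Dg b ε * κ = - (κ * Dg b ε) := by
  apply eq_of_mulVec_basis b
  rintro ⟨i, j⟩
  have hκ1 : κ *ᵥ b (1, j) = D • b (0, j) := by
    rw [hb j, Matrix.mulVec_mulVec, hκ, Matrix.smul_mulVec, Matrix.one_mulVec]
  fin_cases i
  · simp only [Fin.zero_eta, Fin.isValue]
    rw [Matrix.neg_mulVec, ← Matrix.mulVec_mulVec, ← Matrix.mulVec_mulVec, ← hb j, Dg_mulVec,
      Dg_mulVec, Matrix.mulVec_smul, ← hb j, hε, neg_smul]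
  · simp only [Fin.mk_one, Fin.isValue]
    rw [Matrix.neg_mulVec, ← Matrix.mulVec_mulVec, ← Matrix.mulVec_mulVec, hκ1, Dg_mulVec,
      Matrix.mulVec_smul, Matrix.mulVec_smul, Dg_mulVec, hκ1, smul_smul, smul_smul, hε,
      neg_mul, neg_smul, neg_neg, mul_comm]

/-- A matrix commuting or anticommuting with a generator normalises the subalgebra. -/
theorem normalizes_of_comm (hn : 0 < n) (K : Subalgebra F (Matrix (Fin n) (Fin n) F))
    (hK : Cfsg.Geo.IsFieldSubalgebra 2 K) (κ : Matrix (Fin n) (Fin n) F) (hκK : κ ∈ K)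
    (hκ : ∀ a : F, κ ≠ a • (1 : Matrix (Fin n) (Fin n) F))
    (Y Yi : Matrix (Fin n) (Fin n) F) (hYYi : Y * Yi = 1)
    (hc : Y * κ = κ * Y ∨ Y * κ = - (κ * Y)) :
    ∀ k ∈ K, Y * k * Yi ∈ K := by
  intro k hk
  obtain ⟨a, c, rfl⟩ := exists_decomp K hK hn κ hκK hκ k hk
  rw [mul_add, add_mul, Matrix.mul_smul, Matrix.smul_mul, Matrix.mul_one, hYYi, Matrix.mul_smul,
    Matrix.smul_mul]
  refine K.add_mem (K.smul_mem K.one_mem _) (K.smul_mem ?_ _)
  rcases hc with h | h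
  · rw [h, Matrix.mul_assoc, hYYi, Matrix.mul_one]; exact hκK
  · rw [h, Matrix.neg_mul, Matrix.mul_assoc, hYYi, Matrix.mul_one]; exact K.neg_mem hκK

/-- Membership in the normaliser of a subalgebra from the two inclusions. -/
theorem mem_subalgebraNormalizer (K : Subalgebra F (Matrix (Fin n) (Fin n) F))
    (g : GL (Fin n) F)
    (h1 : ∀ k ∈ K, (g : Matrix (Fin n) (Fin n) F) * k * ((g⁻¹ : GL (Fin n) F) : Matrix _ _ F) ∈ K)
    (h2 : ∀ k ∈ K, ((g⁻¹ : GL (Fin n) F) : Matrix _ _ F) * k * (g : Matrix (Fin n) (Fin n) F) ∈ K) :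
    g ∈ Cfsg.Geo.subalgebraNormalizer K := by
  intro k
  constructor
  · exact h1 k
  · intro hk
    have := h2 _ hk
    have e : ((g⁻¹ : GL (Fin n) F) : Matrix _ _ F) * ((g : Matrix (Fin n) (Fin n) F) * k *
        ((g⁻¹ : GL (Fin n) F) : Matrix _ _ F)) * (g : Matrix (Fin n) (Fin n) F) = k := by
      have e1 : ((g⁻¹ : GL (Fin n) F) : Matrix _ _ F) * (g : Matrix (Fin n) (Fin n) F) = 1 := by
        rw [← Units.val_mul, inv_mul_cancel, Units.val_one]
      calc _ = (((g⁻¹ : GL (Fin n) F) : Matrix _ _ F) * (g : Matrix (Fin n) (Fin n) F)) * k *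
            (((g⁻¹ : GL (Fin n) F) : Matrix _ _ F) * (g : Matrix (Fin n) (Fin n) F)) := by
              simp only [Matrix.mul_assoc]
        _ = k := by rw [e1, Matrix.one_mul, Matrix.mul_one]
    rwa [e] at this

end Cfsg.Agent.Helper7.Invol
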