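import Mathlib
import Cfsg.Agent.Helper7.InvolH
import Cfsg.Agent.Helper7.InvolB

set_option autoImplicit false

namespace Cfsg.Agent.Helper7.Invol

open Matrix

variable {F : Type*} [Field F] {n : ℕ}

/-- In dimension two, a non-scalar matrix with `(X - μ)² = 0` acts through a Jordan block. -/
theorem exists_jordan_basis (hn : n = 2) (X : Matrix (Fin n) (Fin n) F) (μ : F)
    (hX : (X - μ • 1) * (X - μ • 1) = 0) (hXne : X ≠ μ • 1) :
    ∃ b : Module.Basis (Fin 2) F (Fin n → F), ActsVia X b !![μ, 1; 0, μ] := by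
  classical
  have hex : ∃ v, (X - μ • 1) *ᵥ v ≠ 0 := by
    by_contra hcon
    push_neg at hcon
    apply hXne
    have : X - μ • 1 = 0 := by
      apply Matrix.toLin'.injective
      apply LinearMap.ext
      intro v
      rw [Matrix.toLin'_apply, hcon v]
      simp
    exact sub_eq_zero.1 this
  obtain ⟨v, hv⟩ := hex
  obtain ⟨w, hw⟩ : ∃ w, w = (X - μ • 1) *ᵥ v := ⟨_, rfl⟩
  have hXw : X *ᵥ w = μ • w := by
    have : (X - μ • 1) *ᵥ w = 0 := by
      rw [hw, Matrix.mulVec_mulVec, hX, Matrix.zero_mulVec]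
    rw [Matrix.sub_mulVec, Matrix.smul_mulVec, Matrix.one_mulVec, sub_eq_zero] at this
    exact this
  have hXv : X *ᵥ v = w + μ • v := by
    rw [hw, Matrix.sub_mulVec, Matrix.smul_mulVec, Matrix.one_mulVec]; abel
  have hli : LinearIndependent F ![w, v] := by
    rw [LinearIndependent.pair_iff]
    intro s t hst
    have h1 := congrArg (fun u => (X - μ • 1) *ᵥ u) hst
    simp only [Matrix.mulVec_add, Matrix.mulVec_smul, Matrix.mulVec_zero] at h1
    have hw0 : (X - μ • 1) *ᵥ w = 0 := by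
      rw [hw, Matrix.mulVec_mulVec, hX, Matrix.zero_mulVec]
    rw [hw0, smul_zero, zero_add, ← hw] at h1
    have ht : t = 0 := (smul_eq_zero.1 h1).resolve_right (hw ▸ hv)
    subst ht
    rw [zero_smul, add_zero] at hst
    exact ⟨(smul_eq_zero.1 hst).resolve_right (hw ▸ hv), rfl⟩
  have hcard : Fintype.card (Fin 2) = Module.finrank F (Fin n → F) := by
    rw [Module.finrank_fin_fun, hn]; rfl
  refine ⟨basisOfLinearIndependentOfCardEqFinrank hli hcard, ?_⟩
  intro i
  rw [Fin.sum_univ_two]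
  simp only [coe_basisOfLinearIndependentOfCardEqFinrank]
  fin_cases i
  · simp [hXw]
  · simp [hXv]

/-- The Galois-type involution attached to a pair basis. -/
noncomputable def galC (t : F) (b : Module.Basis (Fin 2 × Fin 1) F (Fin n → F)) :
    Matrix (Fin n) (Fin n) F :=
  LinearMap.toMatrix' (b.constr F (fun p : Fin 2 × Fin 1 =>
    if p.1 = 0 then b (0, 0) else t • b (0, 0) - b (1, 0)))

theorem galC_zero (t : F) (b : Module.Basis (Fin 2 × Fin 1) F (Fin n → F)) :
    galC t b *ᵥ b (0, 0) = b (0, 0) := by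
  rw [galC, ← Matrix.toLin'_apply, Matrix.toLin'_toMatrix', Module.Basis.constr_basis]
  simp

theorem galC_one (t : F) (b : Module.Basis (Fin 2 × Fin 1) F (Fin n → F)) :
    galC t b *ᵥ b (1, 0) = t • b (0, 0) - b (1, 0) := by
  rw [galC, ← Matrix.toLin'_apply, Matrix.toLin'_toMatrix', Module.Basis.constr_basis]
  simp

theorem galC_sq (t : F) (b : Module.Basis (Fin 2 × Fin 1) F (Fin n → F)) :
    galC t b * galC t b = 1 := by
  apply eq_of_mulVec_basis b
  rintro ⟨i, j⟩
  obtain rfl : j = 0 := Subsingleton.elim _ _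
  fin_cases i
  · simp only [Fin.zero_eta, Fin.isValue]
    rw [← Matrix.mulVec_mulVec, galC_zero, galC_zero, Matrix.one_mulVec]
  · simp only [Fin.mk_one, Fin.isValue]
    rw [← Matrix.mulVec_mulVec, galC_one, Matrix.mulVec_sub, Matrix.mulVec_smul, galC_zero,
      galC_one, Matrix.one_mulVec]
    abel

theorem galC_conj (t d : F) (κ : Matrix (Fin n) (Fin n) F)
    (hκ : κ * κ = d • (1 : Matrix (Fin n) (Fin n) F) + t • κ)
    (b : Module.Basis (Fin 2 × Fin 1) F (Fin n → F)) (hb : ∀ j, b (1, j) = κ *ᵥ b (0, j)) :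
    galC t b * κ = (t • (1 : Matrix (Fin n) (Fin n) F) - κ) * galC t b := by
  have hκ1 : κ *ᵥ b (1, 0) = d • b (0, 0) + t • b (1, 0) := by
    rw [hb 0, Matrix.mulVec_mulVec, hκ, Matrix.add_mulVec, Matrix.smul_mulVec,
      Matrix.smul_mulVec, Matrix.one_mulVec]
  apply eq_of_mulVec_basis b
  rintro ⟨i, j⟩
  obtain rfl : j = 0 := Subsingleton.elim _ _
  fin_cases i
  · simp only [Fin.zero_eta, Fin.isValue]
    rw [← Matrix.mulVec_mulVec, ← Matrix.mulVec_mulVec, ← hb 0, galC_one, galC_zero,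
      Matrix.sub_mulVec, Matrix.smul_mulVec, Matrix.one_mulVec, ← hb 0]
  · simp only [Fin.mk_one, Fin.isValue]
    rw [← Matrix.mulVec_mulVec, ← Matrix.mulVec_mulVec, hκ1, galC_one, Matrix.mulVec_add,
      Matrix.mulVec_smul, Matrix.mulVec_smul, galC_zero, galC_one, Matrix.sub_mulVec,
      Matrix.smul_mulVec, Matrix.one_mulVec, Matrix.mulVec_sub, Matrix.mulVec_smul, ← hb 0, hκ1]
    module

end Cfsg.Agent.Helper7.Invol
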