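import Mathlib
import Cfsg.Agent.Helper7.InvolI
import Cfsg.Agent.Helper7.InvolF

set_option autoImplicit false

namespace Cfsg.Agent.Helper7.Invol

open Matrix

variable {F : Type*} [Field F] {n : ℕ}

/-- Membership of a conjugate in the preimage of the normaliser of a subalgebra. -/
theorem mem_comap_of (K : Subalgebra F (Matrix (Fin n) (Fin n) F))
    (x P : Matrix.SpecialLinearGroup (Fin n) F) (Y Yi : Matrix (Fin n) (Fin n) F)
    (hXP : (x : Matrix (Fin n) (Fin n) F) * (P : Matrix (Fin n) (Fin n) F) =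
      (P : Matrix (Fin n) (Fin n) F) * Y)
    (hYYi : Y * Yi = 1) (hYiY : Yi * Y = 1)
    (h1 : ∀ k ∈ K, Y * k * Yi ∈ K) (h2 : ∀ k ∈ K, Yi * k * Y ∈ K) :
    P⁻¹ * x * P ∈ (Cfsg.Geo.subalgebraNormalizer K).comap
      (Matrix.SpecialLinearGroup.toGL : Matrix.SpecialLinearGroup (Fin n) F →* GL (Fin n) F) := by
  rw [Subgroup.mem_comap]
  have hPiP : ((P⁻¹ : Matrix.SpecialLinearGroup (Fin n) F) : Matrix (Fin n) (Fin n) F) *
      (P : Matrix (Fin n) (Fin n) F) = 1 := by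
    rw [← Matrix.SpecialLinearGroup.coe_mul, inv_mul_cancel, Matrix.SpecialLinearGroup.coe_one]
  have hval : ((Matrix.SpecialLinearGroup.toGL (P⁻¹ * x * P) : GL (Fin n) F) :
      Matrix (Fin n) (Fin n) F) = Y := by
    change ((P⁻¹ * x * P : Matrix.SpecialLinearGroup (Fin n) F) : Matrix (Fin n) (Fin n) F) = Y
    rw [Matrix.SpecialLinearGroup.coe_mul, Matrix.SpecialLinearGroup.coe_mul, Matrix.mul_assoc,
      hXP, ← Matrix.mul_assoc, hPiP, Matrix.one_mul]
  have hinv : (((Matrix.SpecialLinearGroup.toGL (P⁻¹ * x * P) : GL (Fin n) F)⁻¹ : GL (Fin n) F) :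
      Matrix (Fin n) (Fin n) F) = Yi := by
    have e : (((Matrix.SpecialLinearGroup.toGL (P⁻¹ * x * P) : GL (Fin n) F)⁻¹ : GL (Fin n) F) :
        Matrix (Fin n) (Fin n) F) * Y = 1 := by
      rw [← hval, ← Units.val_mul, inv_mul_cancel, Units.val_one]
    calc _ = (((Matrix.SpecialLinearGroup.toGL (P⁻¹ * x * P) : GL (Fin n) F)⁻¹ : GL (Fin n) F) :
        Matrix (Fin n) (Fin n) F) * (Y * Yi) := by rw [hYYi, Matrix.mul_one]
      _ = Yi := by rw [← Matrix.mul_assoc, e, Matrix.one_mul]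
  apply mem_subalgebraNormalizer
  · intro k hk; rw [hval, hinv]; exact h1 k hk
  · intro k hk; rw [hval, hinv]; exact h2 k hk

/-- A matrix intertwining a generator with an element of the subalgebra normalises it. -/
theorem normalizes_of_intertwine (hn : 0 < n) (K : Subalgebra F (Matrix (Fin n) (Fin n) F))
    (hK : Cfsg.Geo.IsFieldSubalgebra 2 K) (κ : Matrix (Fin n) (Fin n) F) (hκK : κ ∈ K)
    (hκ : ∀ a : F, κ ≠ a • (1 : Matrix (Fin n) (Fin n) F))
    (Y Yi : Matrix (Fin n) (Fin n) F) (hYYi : Y * Yi = 1)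
    (κ' : Matrix (Fin n) (Fin n) F) (hκ'K : κ' ∈ K) (hc : Y * κ = κ' * Y) :
    ∀ k ∈ K, Y * k * Yi ∈ K := by
  intro k hk
  obtain ⟨a, c, rfl⟩ := exists_decomp K hK hn κ hκK hκ k hk
  rw [mul_add, add_mul, Matrix.mul_smul, Matrix.smul_mul, Matrix.mul_one, hYYi, Matrix.mul_smul,
    Matrix.smul_mul]
  refine K.add_mem (K.smul_mem K.one_mem _) (K.smul_mem ?_ _)
  rw [hc, Matrix.mul_assoc, hYYi, Matrix.mul_one]; exact hκ'K

/-- No `SL_n`-conjugate of `μ(1 + c E_{ij})` normalises a field subalgebra of degree 2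
when `n ≥ 3`. -/
theorem rank_one_contra (hn : 3 ≤ n) (K : Subalgebra F (Matrix (Fin n) (Fin n) F))
    (hK : Cfsg.Geo.IsFieldSubalgebra 2 K)
    (x P : Matrix.SpecialLinearGroup (Fin n) F) (μ c : F) (i₀ j₀ : Fin n) (hμ : μ ≠ 0)
    (hc : c ≠ 0)
    (hx : (x : Matrix (Fin n) (Fin n) F) = μ • (1 + Matrix.single i₀ j₀ c))
    (hmem : P⁻¹ * x * P ∈ (Cfsg.Geo.subalgebraNormalizer K).comap
      (Matrix.SpecialLinearGroup.toGL : Matrix.SpecialLinearGroup (Fin n) F →* GL (Fin n) F)) :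
    False := by
  classical
  rw [Subgroup.mem_comap] at hmem
  obtain ⟨g, hg⟩ : ∃ g : GL (Fin n) F, g = Matrix.SpecialLinearGroup.toGL (P⁻¹ * x * P) :=
    ⟨_, rfl⟩
  rw [← hg] at hmem
  have hPiP : ((P⁻¹ : Matrix.SpecialLinearGroup (Fin n) F) : Matrix (Fin n) (Fin n) F) *
      (P : Matrix (Fin n) (Fin n) F) = 1 := by
    rw [← Matrix.SpecialLinearGroup.coe_mul, inv_mul_cancel, Matrix.SpecialLinearGroup.coe_one]
  have hPPi : (P : Matrix (Fin n) (Fin n) F) *
      ((P⁻¹ : Matrix.SpecialLinearGroup (Fin n) F) : Matrix (Fin n) (Fin n) F) = 1 := by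
    rw [← Matrix.SpecialLinearGroup.coe_mul, mul_inv_cancel, Matrix.SpecialLinearGroup.coe_one]
  obtain ⟨N, hN⟩ : ∃ N : Matrix (Fin n) (Fin n) F,
      N = ((P⁻¹ : Matrix.SpecialLinearGroup (Fin n) F) : Matrix (Fin n) (Fin n) F) *
        Matrix.single i₀ j₀ c * (P : Matrix (Fin n) (Fin n) F) := ⟨_, rfl⟩
  have hY : (g : Matrix (Fin n) (Fin n) F) = μ • (1 + N) := by
    rw [hg]
    change ((P⁻¹ * x * P : Matrix.SpecialLinearGroup (Fin n) F) : Matrix (Fin n) (Fin n) F) = _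
    rw [Matrix.SpecialLinearGroup.coe_mul, Matrix.SpecialLinearGroup.coe_mul, hx, hN,
      Matrix.mul_smul, Matrix.smul_mul, mul_add, add_mul, Matrix.mul_one, hPiP]
  refine no_rank_one_normalizer hn K hK (g : Matrix (Fin n) (Fin n) F)
    ((g⁻¹ : GL (Fin n) F) : Matrix (Fin n) (Fin n) F) N μ hμ hY
    (((P⁻¹ : Matrix.SpecialLinearGroup (Fin n) F) : Matrix (Fin n) (Fin n) F) *ᵥ Pi.single i₀ 1)
    ?_ ?_ ?_ ?_ ?_
  · intro v
    refine ⟨c * ((P : Matrix (Fin n) (Fin n) F) *ᵥ v) j₀, ?_⟩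
    rw [hN, ← Matrix.mulVec_mulVec, ← Matrix.mulVec_mulVec, Matrix.single_mulVec,
      ← Matrix.mulVec_smul]
    congr 1
    ext l
    by_cases hl : l = i₀
    · subst hl; simp
    · simp [Function.update_of_ne hl, Pi.single_eq_of_ne hl]
  · intro h0
    apply hc
    have : Matrix.single i₀ j₀ c = (P : Matrix (Fin n) (Fin n) F) * N *
        ((P⁻¹ : Matrix.SpecialLinearGroup (Fin n) F) : Matrix (Fin n) (Fin n) F) := by
      rw [hN]
      calc Matrix.single i₀ j₀ c = 1 * Matrix.single i₀ j₀ c * 1 := by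
            rw [Matrix.one_mul, Matrix.mul_one]
        _ = _ := by rw [← hPPi]; simp only [Matrix.mul_assoc]
    rw [h0, Matrix.mul_zero, Matrix.zero_mul] at this
    have := congrFun (congrFun this i₀) j₀
    simpa using this
  · rw [← Units.val_mul, mul_inv_cancel, Units.val_one]
  · rw [← Units.val_mul, inv_mul_cancel, Units.val_one]
  · intro k hk
    exact (hmem k).1 hk

end Cfsg.Agent.Helper7.Invol
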