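import Mathlib
import Cfsg.Agent.Helper7.InvolJ

set_option autoImplicit false

namespace Cfsg.Agent.Helper7.Invol

open Matrix

variable {F : Type*} [Field F] {n : ℕ}

theorem two_eq_zero_iff_card [Fintype F] : (2 : F) = 0 ↔ Fintype.card F % 2 = 0 := by
  rw [← FiniteField.even_card_iff_char_two]
  constructor
  · intro h
    exact CharP.ringChar_of_prime_eq_zero Nat.prime_two (by exact_mod_cast h)
  · intro h
    have := ringChar.Nat.cast_ringChar (R := F)
    rw [h] at this
    exact_mod_cast this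

/-- Existence of an `n`-th root of `-1`. -/
theorem exists_pow_eq_neg_one [Fintype F] (h2 : (2 : F) ≠ 0) (hn : n ≠ 0)
    (h : ¬ padicValNat 2 (Fintype.card F - 1) ≤ padicValNat 2 n) :
    ∃ μ : F, μ ^ n = -1 := by
  classical
  obtain ⟨a, n', hodd, rfl⟩ := Nat.exists_eq_two_pow_mul_odd hn
  have ha : padicValNat 2 (2 ^ a * n') = a := by
    have hn'0 : n' ≠ 0 := fun h0 => by simp [h0] at hn
    rw [padicValNat.mul (by positivity) hn'0, padicValNat.prime_pow,
      padicValNat.eq_zero_of_not_dvd (fun hd => by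
        rcases hodd with ⟨t, rfl⟩; omega), add_zero]
  rw [ha] at h
  push_neg at h
  have hq1 : Fintype.card F - 1 ≠ 0 := by
    have := Fintype.one_lt_card (α := F)
    omega
  have hdvd : 2 ^ (a + 1) ∣ Fintype.card F - 1 := (padicValNat_dvd_iff_le hq1).2 h
  obtain ⟨m, hm⟩ := hdvd
  obtain ⟨ω, hω⟩ := IsCyclic.exists_generator (α := Fˣ)
  have hord : orderOf ω = Fintype.card F - 1 := by
    rw [orderOf_eq_card_of_forall_mem_zpowers hω, Nat.card_eq_fintype_card, Fintype.card_units]
  have hm0 : m ≠ 0 := fun h0 => by rw [h0, mul_zero] at hm; exact hq1 hm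
  have h1 : (ω ^ (m * 2 ^ a)) ^ 2 = 1 := by
    have e : m * 2 ^ a * 2 = orderOf ω := by rw [hord, hm]; ring
    rw [← pow_mul, e, pow_orderOf_eq_one]
  have h2' : ω ^ (m * 2 ^ a) ≠ 1 := by
    intro h1'
    have hd := orderOf_dvd_of_pow_eq_one h1'
    rw [hord, hm] at hd
    have hpos : 0 < m * 2 ^ a := by positivity
    have := Nat.le_of_dvd hpos hd
    have e : 2 ^ (a + 1) * m = 2 * (m * 2 ^ a) := by ring
    omega
  have h3 : ((ω ^ (m * 2 ^ a) : Fˣ) : F) = -1 := by
    have e1 : (((ω ^ (m * 2 ^ a) : Fˣ) : F)) ^ 2 = 1 := by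
      rw [← Units.val_pow_eq_pow_val, h1, Units.val_one]
    have e2 : (((ω ^ (m * 2 ^ a) : Fˣ) : F)) ≠ 1 := fun h => h2' (Units.ext h)
    rcases sq_eq_one_iff.1 e1 with h | h
    · exact absurd h e2
    · exact h
  refine ⟨((ω ^ m : Fˣ) : F), ?_⟩
  rw [pow_mul, ← Units.val_pow_eq_pow_val, ← pow_mul, h3, hodd.neg_one_pow]

/-- Non-existence of an `n`-th root of `-1`. -/
theorem pow_ne_neg_one [Fintype F] (h2 : (2 : F) ≠ 0)
    (h : padicValNat 2 (Fintype.card F - 1) ≤ padicValNat 2 n) (hn : n ≠ 0) (μ : F) :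
    μ ^ n ≠ -1 := by
  classical
  intro hμn
  have hq1 : Fintype.card F - 1 ≠ 0 := by
    have := Fintype.one_lt_card (α := F)
    omega
  obtain ⟨e, m', hodd, hqm⟩ := Nat.exists_eq_two_pow_mul_odd hq1
  have he : padicValNat 2 (Fintype.card F - 1) = e := by
    have hm'0 : m' ≠ 0 := fun h0 => by rw [h0, mul_zero] at hqm; exact hq1 hqm
    rw [hqm, padicValNat.mul (by positivity) hm'0, padicValNat.prime_pow,
      padicValNat.eq_zero_of_not_dvd (fun hd => by
        rcases hodd with ⟨t, rfl⟩; omega), add_zero]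
  rw [he] at h
  have hdvd : 2 ^ e ∣ n := (padicValNat_dvd_iff_le hn).2 h
  obtain ⟨n'', hn''⟩ := hdvd
  have hμ0 : μ ≠ 0 := by
    intro h0
    rw [h0, zero_pow hn] at hμn
    have : (1 : F) = 0 := by linear_combination hμn
    exact one_ne_zero this
  have h1 : (μ ^ n) ^ m' = 1 := by
    rw [← pow_mul, hn'']
    have e1 : 2 ^ e * n'' * m' = (Fintype.card F - 1) * n'' := by rw [hqm]; ring
    rw [e1, pow_mul, FiniteField.pow_card_sub_one_eq_one μ hμ0, one_pow]
  rw [hμn, hodd.neg_one_pow] at h1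
  apply h2
  linear_combination -h1

/-- The determinant of a matrix acting diagonally on a basis. -/
theorem det_of_diag_basis {ι : Type*} [Fintype ι] [DecidableEq ι]
    (X : Matrix (Fin n) (Fin n) F) (b : Module.Basis ι F (Fin n → F)) (lam : ι → F)
    (hX : ∀ i, X *ᵥ b i = lam i • b i) : X.det = ∏ i, lam i := by
  have h1 : LinearMap.toMatrix b b (Matrix.toLin' X) = Matrix.diagonal lam := by
    rw [← actsVia_iff]
    intro i
    rw [hX i]
    simp only [Matrix.diagonal_apply]
    rw [Finset.sum_eq_single i]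
    · simp
    · intro j _ hji
      simp [hji]
    · intro h; exact absurd (Finset.mem_univ i) h
  rw [← LinearMap.det_toLin', ← LinearMap.det_toMatrix b, h1, Matrix.det_diagonal]

/-- The dimension count for a basis indexed by a sum. -/
theorem card_of_basis {ι : Type*} [Fintype ι] (b : Module.Basis ι F (Fin n → F)) :
    Fintype.card ι = n := by
  rw [← Module.finrank_eq_card_basis b, Module.finrank_fin_fun]

theorem card_sum_fiber (r s : ℕ) (μ : F) (hμ : μ ≠ -μ) :
    Nat.card {i : Fin r ⊕ Fin s // Sum.elim (fun _ => -μ) (fun _ => μ) i = -μ} = r := by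
  classical
  rw [Nat.card_eq_fintype_card, Fintype.card_subtype, Finset.card_filter,
    Fintype.sum_sum_type]
  simp [hμ]

theorem card_prod_fiber_lt (m r' : ℕ) (hr : r' ≤ m) (μ : F) (hμ : μ ≠ -μ) :
    Nat.card {p : Fin 2 × Fin m // μ * (if p.2.val < r' then (-1 : F) else 1) = -μ} = 2 * r' := by
  classical
  rw [Nat.card_eq_fintype_card, Fintype.card_subtype, Finset.card_filter,
    Fintype.sum_prod_type, Fin.sum_univ_two]
  have h : ∀ j : Fin m, (μ * (if j.val < r' then (-1 : F) else 1) = -μ) ↔ j.val < r' := by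
    intro j
    by_cases hj : j.val < r'
    · simp [hj]
    · simp [hj, hμ]
  simp only [h]
  rw [← Finset.card_filter]
  have := Fin.card_filter_val_lt (n := m) (m := r')
  rw [Nat.min_eq_right hr] at this
  rw [this]; ring

theorem card_prod_fiber_alt (m : ℕ) (μ : F) (hμ : μ ≠ -μ) :
    Nat.card {p : Fin 2 × Fin m // μ * (if p.1 = 0 then (1 : F) else -1) = -μ} = m := by
  classical
  rw [Nat.card_eq_fintype_card, Fintype.card_subtype, Finset.card_filter,
    Fintype.sum_prod_type, Fin.sum_univ_two]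
  simp [hμ]

end Cfsg.Agent.Helper7.Invol
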