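import Mathlib
import Cfsg.Agent.Helper7.SingerF
import Cfsg.Agent.Helper7.InvolK

set_option autoImplicit false

namespace Cfsg.Agent.Helper7.Singer

open Matrix Cfsg.Agent.Helper7.Invol

variable {F : Type*} [Field F]

theorem omega_pow_eq_one_iff (ω : F) (hω : ω ^ 2 + ω + 1 = 0) (h3 : (3 : F) ≠ 0) (m : ℕ) :
    ω ^ m = 1 ↔ 3 ∣ m := by
  have hω3 := omega_cube ω hω
  constructor
  · intro h
    have hm : m = 3 * (m / 3) + m % 3 := (Nat.div_add_mod m 3).symm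
    rw [hm, pow_add, pow_mul, hω3, one_pow, one_mul] at h
    have hlt : m % 3 < 3 := Nat.mod_lt _ (by norm_num)
    have : m % 3 = 0 := by
      interval_cases (m % 3)
      · rfl
      · rw [pow_one] at h; exact absurd h (omega_ne_one ω hω h3)
      · exact absurd h (omega_sq_ne_one ω hω h3)
    exact Nat.dvd_of_mod_eq_zero this
  · rintro ⟨k, rfl⟩
    rw [pow_mul, hω3, one_pow]

theorem fin3_sum_dvd : ∀ e : Fin 3 → Fin 3, 3 ∣ ((e 0 : ℕ) + (e 1 : ℕ) + (e 2 : ℕ)) →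
    (∀ j, e j = e 0) ∨ Function.Bijective e := by
  decide

/-- Reindexing an eigenbasis with bijective exponent function. -/
theorem std_eigenbasis_of_bij (Y : Matrix (Fin 3) (Fin 3) F) (ω : F)
    (b : Module.Basis (Fin 3) F (Fin 3 → F)) (e : Fin 3 → Fin 3)
    (hb : ∀ j, Y *ᵥ b j = ω ^ (e j : ℕ) • b j) (he : Function.Bijective e) :
    ∃ c : Module.Basis (Fin 3) F (Fin 3 → F), ∀ i : Fin 3, Y *ᵥ c i = ω ^ (i : ℕ) • c i := by
  refine ⟨b.reindex (Equiv.ofBijective e he), fun i => ?_⟩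
  rw [Module.Basis.reindex_apply, hb]
  congr 3
  exact (Equiv.ofBijective e he).apply_symm_apply i

/-- A non-scalar matrix of determinant 1 and order 3 has the three cube roots of unity as simple
eigenvalues. -/
theorem std_eigenbasis_of_det (Y : Matrix (Fin 3) (Fin 3) F) (ω : F) (hω : ω ^ 2 + ω + 1 = 0)
    (h3 : (3 : F) ≠ 0) (hY : Y ^ 3 = 1) (hdet : Y.det = 1)
    (hns : ∀ z : F, Y ≠ z • (1 : Matrix (Fin 3) (Fin 3) F)) :
    ∃ c : Module.Basis (Fin 3) F (Fin 3 → F), ∀ i : Fin 3, Y *ᵥ c i = ω ^ (i : ℕ) • c i := by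
  obtain ⟨b, e, hb⟩ := exists_eigenbasis_cube Y ω hω h3 hY
  have h1 := det_of_diag_basis Y b (fun j => ω ^ (e j : ℕ)) hb
  rw [hdet, Finset.prod_pow_eq_pow_sum, Fin.sum_univ_three] at h1
  have h2 := (omega_pow_eq_one_iff ω hω h3 _).1 h1.symm
  rcases fin3_sum_dvd e h2 with hc | hbij
  · exfalso
    apply hns (ω ^ (e 0 : ℕ))
    apply eq_of_mulVec_basis b
    intro j
    rw [hb, hc j, Matrix.smul_mulVec, Matrix.one_mulVec]
  · exact std_eigenbasis_of_bij Y ω b e hb hbij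

/-- A matrix of order 3 with `1, Y, Y²` linearly independent has the three cube roots of unity as
simple eigenvalues. -/
theorem std_eigenbasis_of_indep (Y : Matrix (Fin 3) (Fin 3) F) (ω : F) (hω : ω ^ 2 + ω + 1 = 0)
    (h3 : (3 : F) ≠ 0) (hY : Y ^ 3 = 1)
    (hind : ∀ α β γ : F, α • (1 : Matrix (Fin 3) (Fin 3) F) + β • Y + γ • Y ^ 2 = 0 → γ = 0) :
    ∃ c : Module.Basis (Fin 3) F (Fin 3 → F), ∀ i : Fin 3, Y *ᵥ c i = ω ^ (i : ℕ) • c i := by
  obtain ⟨b, e, hb⟩ := exists_eigenbasis_cube Y ω hω h3 hY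
  have hω3 := omega_cube ω hω
  have hsurj : Function.Surjective e := by
    intro i₀
    by_contra hcon
    push_neg at hcon
    have hM : (ω ^ (i₀ : ℕ)) ^ 2 • (1 : Matrix (Fin 3) (Fin 3) F) + ω ^ (i₀ : ℕ) • Y
        + (1 : F) • Y ^ 2 = 0 := by
      apply eq_of_mulVec_basis b
      intro j
      have hne : ω ^ (e j : ℕ) - ω ^ (i₀ : ℕ) ≠ 0 := by
        intro h
        exact hcon j (omega_pow_injective ω hω h3 (sub_eq_zero.1 h))
      have hz : (ω ^ (i₀ : ℕ)) ^ 2 + ω ^ (i₀ : ℕ) * ω ^ (e j : ℕ) + (ω ^ (e j : ℕ)) ^ 2 = 0 := by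
        apply (mul_eq_zero.1 _).resolve_left hne
        have e1 : (ω ^ (e j : ℕ)) ^ 3 = 1 := by rw [← pow_mul, mul_comm, pow_mul, hω3, one_pow]
        have e2 : (ω ^ (i₀ : ℕ)) ^ 3 = 1 := by rw [← pow_mul, mul_comm, pow_mul, hω3, one_pow]
        linear_combination e1 - e2
      rw [Matrix.zero_mulVec, Matrix.add_mulVec, Matrix.add_mulVec, Matrix.smul_mulVec,
        Matrix.smul_mulVec, Matrix.smul_mulVec, Matrix.one_mulVec, pow_two Y,
        ← Matrix.mulVec_mulVec, hb, Matrix.mulVec_smul, hb, one_smul, smul_smul, smul_smul,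
        ← add_smul, ← add_smul]
      rw [show (ω ^ (i₀ : ℕ)) ^ 2 + ω ^ (i₀ : ℕ) * ω ^ (e j : ℕ) + ω ^ (e j : ℕ) * ω ^ (e j : ℕ)
        = 0 by rw [← hz]; ring, zero_smul]
    exact one_ne_zero (hind _ _ _ hM)
  have hbij : Function.Bijective e := (Finite.surjective_iff_bijective).1 hsurj
  exact std_eigenbasis_of_bij Y ω b e hb hbij

end Cfsg.Agent.Helper7.Singer
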