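import Mathlib
import Cfsg.Agent.Helper7.InvolB

set_option autoImplicit false

namespace Cfsg.Agent.Helper7.Singer

open Matrix Cfsg.Agent.Helper7.Invol

variable {F : Type*} [Field F] {n : ℕ}

theorem det_of_actsVia {ι : Type*} [Fintype ι] [DecidableEq ι] (X : Matrix (Fin n) (Fin n) F)
    (b : Module.Basis ι F (Fin n → F)) (A : Matrix ι ι F) (h : ActsVia X b A) :
    X.det = A.det := by
  rw [← (actsVia_iff X b A).1 h, LinearMap.det_toMatrix b, LinearMap.det_toLin']

/-- Three linearly independent vectors of `F³` as a basis. -/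
theorem exists_basis_of_li (w : Fin 3 → (Fin 3 → F)) (hw : LinearIndependent F w) :
    ∃ b : Module.Basis (Fin 3) F (Fin 3 → F), ∀ i, b i = w i := by
  have hcard : Fintype.card (Fin 3) = Module.finrank F (Fin 3 → F) := by
    rw [Module.finrank_fin_fun, Fintype.card_fin]
  refine ⟨basisOfLinearIndependentOfCardEqFinrank hw hcard, fun i => ?_⟩
  rw [coe_basisOfLinearIndependentOfCardEqFinrank]

/-- Linear independence of three vectors, unfolded. -/
theorem li3 {V : Type*} [AddCommGroup V] [Module F V] (u v w : V)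
    (h : ∀ a b c : F, a • u + b • v + c • w = 0 → a = 0 ∧ b = 0 ∧ c = 0) :
    LinearIndependent F ![u, v, w] := by
  rw [Fintype.linearIndependent_iff]
  intro g hg
  rw [Fin.sum_univ_three] at hg
  obtain ⟨h0, h1, h2⟩ := h (g 0) (g 1) (g 2) hg
  intro i
  fin_cases i
  · exact h0
  · exact h1
  · exact h2

theorem li3_elim {V : Type*} [AddCommGroup V] [Module F V] (u v w : V)
    (h : LinearIndependent F ![u, v, w]) (a b c : F) (habc : a • u + b • v + c • w = 0) :
    a = 0 ∧ b = 0 ∧ c = 0 := by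
  rw [Fintype.linearIndependent_iff] at h
  have h' := h ![a, b, c] (by rw [Fin.sum_univ_three]; exact habc)
  exact ⟨h' 0, h' 1, h' 2⟩

/-- If `x³ = z` with `z` not a cube then `v, xv, x²v` are independent for `v ≠ 0`. -/
theorem li_of_noncube (x : Matrix (Fin n) (Fin n) F) (z : F)
    (hx : x ^ 3 = z • (1 : Matrix (Fin n) (Fin n) F)) (hz : ∀ c : F, c ^ 3 ≠ z)
    (v : Fin n → F) (hv : v ≠ 0) :
    LinearIndependent F ![v, x *ᵥ v, x *ᵥ (x *ᵥ v)] := by
  have hx3 : ∀ w, x *ᵥ (x *ᵥ (x *ᵥ w)) = z • w := by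
    intro w
    rw [Matrix.mulVec_mulVec, Matrix.mulVec_mulVec, ← pow_two, ← pow_succ, hx,
      Matrix.smul_mulVec, Matrix.one_mulVec]
  have hne : ∀ lam : F, x *ᵥ v ≠ lam • v := by
    intro lam h
    apply hz lam
    have h3 := hx3 v
    rw [h, Matrix.mulVec_smul, h, Matrix.mulVec_smul, Matrix.mulVec_smul, h, smul_smul,
      smul_smul] at h3
    have h4 : (lam * lam * lam - z) • v = 0 := by rw [sub_smul, h3, sub_self]
    have := (smul_eq_zero.1 h4).resolve_right hv
    linear_combination this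
  obtain ⟨u₁, hu₁⟩ : ∃ u₁, u₁ = x *ᵥ v := ⟨_, rfl⟩
  obtain ⟨u₂, hu₂⟩ : ∃ u₂, u₂ = x *ᵥ u₁ := ⟨_, rfl⟩
  have hu₃ : x *ᵥ u₂ = z • v := by rw [hu₂, hu₁, hx3]
  rw [← hu₁] at hne ⊢
  rw [← hu₂]
  have hpair : ∀ a b : F, a • v + b • u₁ = 0 → a = 0 ∧ b = 0 := by
    intro a b h
    have hb : b = 0 := by
      by_contra hb
      apply hne (-(b⁻¹ * a))
      have h1 : b • u₁ = -(a • v) := eq_neg_of_add_eq_zero_right h
      have h2 := congrArg (fun w => b⁻¹ • w) h1
      simp only [smul_smul, inv_mul_cancel₀ hb, one_smul, smul_neg] at h2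
      rw [h2, neg_smul]
    subst hb
    rw [zero_smul, add_zero] at h
    exact ⟨(smul_eq_zero.1 h).resolve_right hv, rfl⟩
  rw [Fintype.linearIndependent_iff]
  intro g hg
  rw [Fin.sum_univ_three] at hg
  simp only [Matrix.cons_val_zero, Matrix.cons_val_one, Matrix.cons_val_two] at hg
  have hc : g 2 = 0 := by
    by_contra hc
    obtain ⟨α, hα⟩ : ∃ α : F, α = -((g 2)⁻¹ * g 0) := ⟨_, rfl⟩
    obtain ⟨β, hβ⟩ : ∃ β : F, β = -((g 2)⁻¹ * g 1) := ⟨_, rfl⟩
    have h1 : u₂ = α • v + β • u₁ := by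
      have h1 : g 2 • u₂ = -(g 0 • v + g 1 • u₁) := eq_neg_of_add_eq_zero_right hg
      have h2 := congrArg (fun w => (g 2)⁻¹ • w) h1
      simp only [smul_smul, inv_mul_cancel₀ hc, one_smul, smul_neg, smul_add] at h2
      rw [h2, hα, hβ, neg_smul, neg_smul, neg_add]
    have h2 : (α * β - z) • v + (α + β * β) • u₁ = 0 := by
      have h3 := congrArg (fun w => x *ᵥ w) h1
      simp only [Matrix.mulVec_add, Matrix.mulVec_smul] at h3
      rw [hu₃, ← hu₁, ← hu₂, h1] at h3
      have h4 : z • v - (α • u₁ + β • (α • v + β • u₁)) = 0 := sub_eq_zero.2 h3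
      rw [← neg_eq_zero, ← h4]
      module
    obtain ⟨h5, h6⟩ := hpair _ _ h2
    apply hz (-β)
    have h7 : α = -(β * β) := by linear_combination h6
    rw [h7] at h5
    linear_combination h5
  rw [hc, zero_smul, add_zero] at hg
  obtain ⟨ha, hb⟩ := hpair _ _ hg
  intro i
  fin_cases i
  · exact ha
  · exact hb
  · exact hc

/-- A 3 × 3 matrix whose cube is a non-cube scalar `z` has determinant `z`. -/
theorem det_eq_of_noncube (x : Matrix (Fin 3) (Fin 3) F) (z : F)
    (hx : x ^ 3 = z • (1 : Matrix (Fin 3) (Fin 3) F)) (hz : ∀ c : F, c ^ 3 ≠ z) :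
    x.det = z := by
  have hv : (Pi.single 0 1 : Fin 3 → F) ≠ 0 := by
    intro h
    have := congrFun h 0
    simp at this
  obtain ⟨v, hv'⟩ : ∃ v : Fin 3 → F, v = Pi.single 0 1 := ⟨_, rfl⟩
  rw [← hv'] at hv
  obtain ⟨b, hb⟩ := exists_basis_of_li _ (li_of_noncube x z hx hz v hv)
  have hb0 : b 0 = v := by rw [hb]; rfl
  have hb1 : b 1 = x *ᵥ v := by rw [hb]; rfl
  have hb2 : b 2 = x *ᵥ (x *ᵥ v) := by rw [hb]; rfl
  have hacts : ActsVia x b !![0, 0, z; 1, 0, 0; 0, 1, 0] := by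
    intro i
    rw [Fin.sum_univ_three]
    fin_cases i
    · simp [hb0, hb1]
    · simp [hb1, hb2]
    · simp only [Fin.reduceFinMk]
      rw [hb2, Matrix.mulVec_mulVec, Matrix.mulVec_mulVec, ← pow_two, ← pow_succ, hx,
        Matrix.smul_mulVec, Matrix.one_mulVec]
      simp [hb0]
  rw [det_of_actsVia x b _ hacts, Matrix.det_fin_three]
  simp

end Cfsg.Agent.Helper7.Singer
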