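import Mathlib
import Cfsg.Agent.Helper7.SingerF

set_option autoImplicit false

namespace Cfsg.Agent.Helper7.Singer

variable {F : Type*} [Field F] [Fintype F]

theorem three_eq_zero_iff_card : (3 : F) = 0 ↔ 3 ∣ Fintype.card F := by
  haveI : Fact (ringChar F).Prime := ⟨CharP.char_is_prime F _⟩
  obtain ⟨f, hp, hf⟩ := FiniteField.card F (ringChar F)
  have h3 : Nat.Prime 3 := by norm_num
  constructor
  · intro h
    have h1 : ringChar F ∣ 3 := by
      apply (CharP.cast_eq_zero_iff F (ringChar F) 3).1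
      exact_mod_cast h
    have h2 : ringChar F = 3 := (Nat.prime_dvd_prime_iff_eq hp h3).1 h1
    rw [hf, h2]
    exact dvd_pow_self 3 f.ne_zero
  · intro h
    rw [hf] at h
    have h1 : 3 ∣ ringChar F := h3.dvd_of_dvd_pow h
    have h2 : 3 = ringChar F := (Nat.prime_dvd_prime_iff_eq h3 hp).1 h1
    have := ringChar.Nat.cast_ringChar (R := F)
    rw [← h2] at this
    exact_mod_cast this

/-- Elements of every order dividing `q - 1`. -/
theorem exists_unit_of_order (m : ℕ) (hm : m ∣ Fintype.card F - 1) :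
    ∃ ζ : Fˣ, orderOf ζ = m := by
  classical
  have hq1 : Fintype.card F - 1 ≠ 0 := by
    have := Fintype.one_lt_card (α := F)
    omega
  obtain ⟨g, hg⟩ := IsCyclic.exists_generator (α := Fˣ)
  have hord : orderOf g = Fintype.card F - 1 := by
    rw [orderOf_eq_card_of_forall_mem_zpowers hg, Nat.card_eq_fintype_card, Fintype.card_units]
  obtain ⟨t, ht⟩ := hm
  have hm0 : m ≠ 0 := fun h0 => by rw [h0, zero_mul] at ht; exact hq1 ht
  have ht0 : t ≠ 0 := fun h0 => by rw [h0, mul_zero] at ht; exact hq1 ht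
  refine ⟨g ^ t, ?_⟩
  rw [orderOf_pow_of_dvd ht0 (by rw [hord, ht]; exact dvd_mul_left t m), hord, ht,
    Nat.mul_div_cancel _ (Nat.pos_of_ne_zero ht0)]

theorem dvd_card_sub_one_of_pow_eq_one (c : F) (m : ℕ) (hc : orderOf c = m) (hm : 0 < m) :
    m ∣ Fintype.card F - 1 := by
  have hc0 : c ≠ 0 := by
    rintro rfl
    rw [orderOf_eq_zero_iff'.2] at hc
    · omega
    · intro k hk
      rw [zero_pow (by omega)]
      exact zero_ne_one
  rw [← hc]
  exact orderOf_dvd_of_pow_eq_one (FiniteField.pow_card_sub_one_eq_one c hc0)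

/-- A primitive cube root of unity exists when `3 ∣ q - 1`. -/
theorem exists_omega (h : 3 ∣ Fintype.card F - 1) : ∃ ω : F, ω ^ 2 + ω + 1 = 0 := by
  obtain ⟨ζ, hζ⟩ := exists_unit_of_order (F := F) 3 h
  refine ⟨(ζ : F), ?_⟩
  have h1 : (ζ : F) ^ 3 = 1 := by
    rw [← Units.val_pow_eq_pow_val, ← hζ, pow_orderOf_eq_one, Units.val_one]
  have h2 : (ζ : F) ≠ 1 := by
    intro h2
    have : ζ = 1 := Units.ext h2
    rw [this, orderOf_one] at hζ
    omega
  have h3 : ((ζ : F) - 1) * ((ζ : F) ^ 2 + (ζ : F) + 1) = 0 := by linear_combination h1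
  exact (mul_eq_zero.1 h3).resolve_left (sub_ne_zero.2 h2)

/-- No primitive cube root of unity when `q ≡ 2 (mod 3)`. -/
theorem no_omega (h : Fintype.card F % 3 = 2) (c : F) : c ^ 2 + c + 1 ≠ 0 := by
  intro hc
  have h3 : (3 : F) ≠ 0 := by
    rw [Ne, three_eq_zero_iff_card]
    omega
  have h1 := omega_cube c hc
  have h2 := omega_ne_one c hc h3
  have hord : orderOf c = 3 := by
    have : Nat.Prime 3 := by norm_num
    haveI : Fact (Nat.Prime 3) := ⟨this⟩
    exact orderOf_eq_prime h1 h2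
  have := dvd_card_sub_one_of_pow_eq_one c 3 hord (by norm_num)
  have hq := Fintype.one_lt_card (α := F)
  omega

/-- The primitive cube roots of unity are not cubes when `9 ∤ q - 1`. -/
theorem omega_noncube (h9 : ¬ 9 ∣ Fintype.card F - 1) (h3 : (3 : F) ≠ 0) (ω : F)
    (hω : ω ^ 2 + ω + 1 = 0) (c : F) : c ^ 3 ≠ ω ∧ c ^ 3 ≠ ω ^ 2 := by
  have hω3 := omega_cube ω hω
  have key : ∀ c : F, c ^ 3 ≠ 1 → c ^ 9 = 1 → False := by
    intro c h1 h2
    have : Nat.Prime 3 := by norm_num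
    haveI : Fact (Nat.Prime 3) := ⟨this⟩
    have hord : orderOf c = 3 ^ (1 + 1) :=
      orderOf_eq_prime_pow (by rw [pow_one]; exact h1) (by norm_num; exact h2)
    exact h9 (dvd_card_sub_one_of_pow_eq_one c 9 (by rw [hord]; norm_num) (by norm_num))
  constructor
  · intro h
    apply key c
    · rw [h]; exact omega_ne_one ω hω h3
    · have : c ^ 9 = (c ^ 3) ^ 3 := by ring
      rw [this, h, hω3]
  · intro h
    apply key c
    · rw [h]; exact omega_sq_ne_one ω hω h3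
    · have : c ^ 9 = (c ^ 3) ^ 3 := by ring
      rw [this, h]
      have : (ω ^ 2) ^ 3 = (ω ^ 3) ^ 2 := by ring
      rw [this, hω3, one_pow]

/-- A primitive cube root of unity which is a cube, when `9 ∣ q - 1`. -/
theorem exists_cube_root_omega (h9 : 9 ∣ Fintype.card F - 1) :
    ∃ ω μ : F, ω ^ 2 + ω + 1 = 0 ∧ μ ≠ 0 ∧ μ ^ 3 * ω = 1 := by
  obtain ⟨ζ, hζ⟩ := exists_unit_of_order (F := F) 9 h9
  have h1 : (ζ : F) ^ 9 = 1 := by
    rw [← Units.val_pow_eq_pow_val, ← hζ, pow_orderOf_eq_one, Units.val_one]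
  have h2 : (ζ : F) ^ 3 ≠ 1 := by
    intro h2
    have : ζ ^ 3 = 1 := Units.ext (by rw [Units.val_pow_eq_pow_val, h2, Units.val_one])
    have := orderOf_dvd_of_pow_eq_one this
    rw [hζ] at this
    omega
  refine ⟨(ζ : F) ^ 3, ((ζ⁻¹ : Fˣ) : F), ?_, Units.ne_zero _, ?_⟩
  · have h3 : ((ζ : F) ^ 3 - 1) * (((ζ : F) ^ 3) ^ 2 + (ζ : F) ^ 3 + 1) = 0 := by
      linear_combination h1
    exact (mul_eq_zero.1 h3).resolve_left (sub_ne_zero.2 h2)
  · rw [← mul_pow, Units.inv_mul, one_pow]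

/-- Cube roots when `q ≡ 2 (mod 3)`. -/
theorem exists_cube_root (h : Fintype.card F % 3 = 2) (z : F) : ∃ μ : F, μ ^ 3 = z := by
  by_cases hz : z = 0
  · exact ⟨0, by rw [hz]; ring⟩
  obtain ⟨t, ht⟩ : ∃ t, Fintype.card F - 1 = 3 * t + 1 := ⟨(Fintype.card F - 1) / 3, by omega⟩
  refine ⟨z ^ (2 * t + 1), ?_⟩
  have h1 := FiniteField.pow_card_sub_one_eq_one z hz
  have e : (2 * t + 1) * 3 = 1 + 2 * (Fintype.card F - 1) := by rw [ht]; ring
  rw [← pow_mul, e, pow_add, pow_one, mul_comm 2, pow_mul, h1, one_pow, mul_one]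

theorem eq_one_of_cube_eq_one (h : Fintype.card F % 3 = 2) (c : F) (hc : c ^ 3 = 1) : c = 1 := by
  have h3 : (c - 1) * (c ^ 2 + c + 1) = 0 := by linear_combination hc
  rcases mul_eq_zero.1 h3 with h1 | h1
  · exact sub_eq_zero.1 h1
  · exact absurd h1 (no_omega h c)

end Cfsg.Agent.Helper7.Singer
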