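import Mathlib
import Cfsg.Agent.Helper7.Ex27B
import Cfsg.Agent.Helper7.SingerG
import Cfsg.Agent.Helper7.SingerH
import Cfsg.Agent.Helper7.SingerJ

set_option autoImplicit false

/-!
Group-theoretic and linear-algebraic preliminaries for the normal form of a non-abelian group of
order 27 and exponent 3 in `GL₃(F)`.
-/

namespace Cfsg.Agent.Helper7.Ex27

open Matrix Cfsg.Agent.Helper7.Singer

/-- Groups of order dividing 9 are commutative. -/
theorem comm_of_card_dvd_nine {G : Type*} [Group G] (h : Nat.card G ∣ 9) :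
    ∀ a b : G, a * b = b * a := by
  have hmem : Nat.card G ∈ Nat.divisors 9 := Nat.mem_divisors.mpr ⟨h, by norm_num⟩
  have h9 : Nat.divisors 9 = {1, 3, 9} := by decide
  rw [h9] at hmem
  simp only [Finset.mem_insert, Finset.mem_singleton] at hmem
  rcases hmem with h1 | h3 | h9
  · haveI : Subsingleton G := (Nat.card_eq_one_iff_unique.1 h1).1
    intro a b
    exact Subsingleton.elim _ _
  · haveI : Fact (Nat.Prime 3) := ⟨by norm_num⟩
    haveI : IsCyclic G := isCyclic_of_prime_card h3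
    intro a b
    exact IsCyclic.commGroup.mul_comm a b
  · haveI : Fact (Nat.Prime 3) := ⟨by norm_num⟩
    intro a b
    exact IsPGroup.commutative_of_card_eq_prime_sq (p := 3) (by rw [h9]; norm_num) a b

/-- In a group of order 27 all commutators are central. -/
theorem commutator_central {G : Type*} [Group G] (hG : Nat.card G = 27) (a b : G) :
    a * b * a⁻¹ * b⁻¹ ∈ Subgroup.center G := by
  haveI : Fact (Nat.Prime 3) := ⟨by norm_num⟩
  haveI : Finite G := Nat.finite_of_card_ne_zero (by rw [hG]; norm_num)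
  haveI : Nontrivial G := by
    rw [← Finite.one_lt_card_iff_nontrivial, hG]; norm_num
  have hp : IsPGroup 3 G := IsPGroup.of_card (n := 3) (by rw [hG]; norm_num)
  haveI := hp.center_nontrivial
  have hZ1 : 1 < Nat.card (Subgroup.center G) := Finite.one_lt_card
  have hmul := Subgroup.card_eq_card_quotient_mul_card_subgroup (Subgroup.center G)
  rw [hG] at hmul
  have hq : Nat.card (G ⧸ Subgroup.center G) ∣ 9 := by
    have hdvd : Nat.card (G ⧸ Subgroup.center G) ∣ 27 := ⟨_, hmul⟩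
    have hmem : Nat.card (G ⧸ Subgroup.center G) ∈ Nat.divisors 27 :=
      Nat.mem_divisors.mpr ⟨hdvd, by norm_num⟩
    have h27 : Nat.divisors 27 = {1, 3, 9, 27} := by decide
    rw [h27] at hmem
    simp only [Finset.mem_insert, Finset.mem_singleton] at hmem
    rcases hmem with h | h | h | h
    · rw [h]; norm_num
    · rw [h]; norm_num
    · rw [h]
    · rw [h] at hmul
      omega
  have hc := comm_of_card_dvd_nine hq
  rw [← QuotientGroup.eq_one_iff]
  rw [QuotientGroup.mk_mul, QuotientGroup.mk_mul, QuotientGroup.mk_mul, QuotientGroup.mk_inv,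
    QuotientGroup.mk_inv, hc (a : G ⧸ Subgroup.center G) b, mul_assoc, mul_assoc,
    mul_inv_cancel_left, mul_inv_cancel]

variable {F : Type*} [Field F]

/-- A common eigenvector of two commuting matrices, one of which has order dividing 3. -/
theorem exists_common_eigvec {n : ℕ} (B C : Matrix (Fin n) (Fin n) F) (ω : F)
    (hω : ω ^ 2 + ω + 1 = 0) (h3 : (3 : F) ≠ 0) (hB : B ^ 3 = 1) (hBC : B * C = C * B)
    (lam : F) (v : Fin n → F) (hv : v ≠ 0) (hCv : C *ᵥ v = lam • v) :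
    ∃ (μ : F) (w : Fin n → F), w ≠ 0 ∧ μ ^ 3 = 1 ∧ B *ᵥ w = μ • w ∧ C *ᵥ w = lam • w := by
  have hω3 := omega_cube ω hω
  obtain ⟨u₁, hu₁⟩ : ∃ u₁, u₁ = B *ᵥ v := ⟨_, rfl⟩
  obtain ⟨u₂, hu₂⟩ : ∃ u₂, u₂ = B *ᵥ u₁ := ⟨_, rfl⟩
  have hu₃ : B *ᵥ u₂ = v := by
    rw [hu₂, hu₁, Matrix.mulVec_mulVec, Matrix.mulVec_mulVec, ← pow_two, ← pow_succ, hB,
      Matrix.one_mulVec]
  have hCB : ∀ x : Fin n → F, C *ᵥ (B *ᵥ x) = B *ᵥ (C *ᵥ x) := by
    intro x
    rw [Matrix.mulVec_mulVec, Matrix.mulVec_mulVec, hBC]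
  have hC1 : C *ᵥ u₁ = lam • u₁ := by
    rw [hu₁, hCB, hCv, Matrix.mulVec_smul]
  have hC2 : C *ᵥ u₂ = lam • u₂ := by
    rw [hu₂, hCB, hC1, Matrix.mulVec_smul]
  by_cases h0 : v + u₁ + u₂ = 0
  · by_cases h1 : v + ω ^ 2 • u₁ + ω • u₂ = 0
    · refine ⟨ω ^ 2, v + ω • u₁ + ω ^ 2 • u₂, ?_, ?_, ?_, ?_⟩
      · intro h2
        apply hv
        have h33 : (3 : F) • v = 0 := by
          linear_combination (norm := module) h0 + h1 + h2 + (-hω) • u₁ + (-hω) • u₂
        exact (smul_eq_zero.1 h33).resolve_left h3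
      · linear_combination (ω ^ 3 + 1) * hω3
      · rw [Matrix.mulVec_add, Matrix.mulVec_add, Matrix.mulVec_smul, Matrix.mulVec_smul, ← hu₁,
          ← hu₂, hu₃]
        linear_combination (norm := module) (-hω3) • u₁ + (-(ω * hω3)) • u₂
      · rw [Matrix.mulVec_add, Matrix.mulVec_add, Matrix.mulVec_smul, Matrix.mulVec_smul, hCv, hC1,
          hC2]
        module
    · refine ⟨ω, v + ω ^ 2 • u₁ + ω • u₂, h1, hω3, ?_, ?_⟩
      · rw [Matrix.mulVec_add, Matrix.mulVec_add, Matrix.mulVec_smul, Matrix.mulVec_smul, ← hu₁,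
          ← hu₂, hu₃]
        linear_combination (norm := module) (-hω3) • u₁
      · rw [Matrix.mulVec_add, Matrix.mulVec_add, Matrix.mulVec_smul, Matrix.mulVec_smul, hCv, hC1,
          hC2]
        module
  · refine ⟨1, v + u₁ + u₂, h0, one_pow 3, ?_, ?_⟩
    · rw [Matrix.mulVec_add, Matrix.mulVec_add, ← hu₁, ← hu₂, hu₃]
      module
    · rw [Matrix.mulVec_add, Matrix.mulVec_add, hCv, hC1, hC2]
      module

/-- A matrix of order 3 has an eigenvector with eigenvalue a primitive cube root of unity. -/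
theorem exists_prim_eigvec {n : ℕ} (C : Matrix (Fin n) (Fin n) F) (ω : F)
    (hω : ω ^ 2 + ω + 1 = 0) (h3 : (3 : F) ≠ 0) (hC : C ^ 3 = 1) (hC1 : C ≠ 1) :
    ∃ (lam : F) (v : Fin n → F), lam ^ 2 + lam + 1 = 0 ∧ v ≠ 0 ∧ C *ᵥ v = lam • v := by
  obtain ⟨b, e, hb⟩ := exists_eigenbasis_cube C ω hω h3 hC
  have hex : ∃ j, e j ≠ 0 := by
    by_contra hcon
    push_neg at hcon
    apply hC1
    apply Cfsg.Agent.Helper7.Invol.eq_of_mulVec_basis b
    intro j
    rw [hb j, hcon j, Matrix.one_mulVec]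
    simp
  obtain ⟨j, hj⟩ := hex
  refine ⟨ω ^ (e j : ℕ), b j, ?_, b.ne_zero j, hb j⟩
  have hlt := (e j).2
  have h0 : (e j : ℕ) ≠ 0 := fun h => hj (Fin.ext h)
  have : (e j : ℕ) = 1 ∨ (e j : ℕ) = 2 := by omega
  rcases this with h | h
  · rw [h, pow_one]; exact hω
  · rw [h]
    linear_combination (ω ^ 2 - ω + 1) * hω

end Cfsg.Agent.Helper7.Ex27
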