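import Mathlib
import Cfsg.Agent.Helper7.Ex27C

set_option autoImplicit false

/-!
The normal form: a non-abelian subgroup of order 27 and exponent 3 of `GL₃(F)` is conjugate to the
standard group `R0`.
-/

namespace Cfsg.Agent.Helper7.Ex27

open Matrix Cfsg.Agent.Helper7.Singer Cfsg.Agent.Helper7.Invol

variable {F : Type*} [Field F]

theorem Ym_mulVec_single (i : Fin 3) :
    (Ym : Matrix (Fin 3) (Fin 3) F) *ᵥ Pi.single i 1 = Pi.single (i + 1) 1 := by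
  rw [Matrix.mulVec_single_one]
  ext k
  fin_cases i <;> fin_cases k <;> simp [Ym, Matrix.col_apply]

theorem Xm_mulVec_single (ω : F) (i : Fin 3) :
    Xm ω *ᵥ Pi.single i 1 = ω ^ (i : ℕ) • (Pi.single i 1 : Fin 3 → F) := by
  rw [Matrix.mulVec_single_one]
  ext k
  fin_cases i <;> fin_cases k <;> simp [Xm, Matrix.col_apply]

/-- A basis of `F³` gives an invertible matrix with the basis vectors as columns. -/
theorem exists_GL_of_basis (b : Module.Basis (Fin 3) F (Fin 3 → F)) :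
    ∃ P : GL (Fin 3) F, ∀ i, (P : Matrix (Fin 3) (Fin 3) F) *ᵥ Pi.single i 1 = b i := by
  let g : (Fin 3 → F) ≃ₗ[F] (Fin 3 → F) := (Pi.basisFun F (Fin 3)).equiv b (Equiv.refl _)
  refine ⟨⟨LinearMap.toMatrix' (g : (Fin 3 → F) →ₗ[F] (Fin 3 → F)),
    LinearMap.toMatrix' (g.symm : (Fin 3 → F) →ₗ[F] (Fin 3 → F)), ?_, ?_⟩, ?_⟩
  · rw [← LinearMap.toMatrix'_comp, LinearEquiv.comp_coe, LinearEquiv.symm_trans_self]
    exact LinearMap.toMatrix'_id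
  · rw [← LinearMap.toMatrix'_comp, LinearEquiv.comp_coe, LinearEquiv.self_trans_symm]
    exact LinearMap.toMatrix'_id
  · intro i
    show LinearMap.toMatrix' (g : (Fin 3 → F) →ₗ[F] (Fin 3 → F)) *ᵥ Pi.single i 1 = b i
    rw [LinearMap.toMatrix'_mulVec, ← Pi.basisFun_apply]
    show ((Pi.basisFun F (Fin 3)).equiv b (Equiv.refl _)) ((Pi.basisFun F (Fin 3)) i) = b i
    rw [Module.Basis.equiv_apply]
    rfl

/-- One step of the eigenvector ladder. -/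
theorem ladder_step {n : ℕ} (A B C : Matrix (Fin n) (Fin n) F) (lam : F) (hlam : lam ^ 3 = 1)
    (hCA : C * A = A * C) (hCB : C * B = B * C) (hAB : A * B = C * B * A)
    (ν : F) (u : Fin n → F) (hB : B *ᵥ u = ν • u) (hC : C *ᵥ u = lam • u) :
    B *ᵥ (A *ᵥ u) = (ν * lam ^ 2) • (A *ᵥ u) ∧ C *ᵥ (A *ᵥ u) = lam • (A *ᵥ u) := by
  have h1 : C *ᵥ (A *ᵥ u) = lam • (A *ᵥ u) := by
    rw [Matrix.mulVec_mulVec, hCA, ← Matrix.mulVec_mulVec, hC, Matrix.mulVec_smul]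
  refine ⟨?_, h1⟩
  have h2 : lam • (B *ᵥ (A *ᵥ u)) = ν • (A *ᵥ u) := by
    calc lam • (B *ᵥ (A *ᵥ u)) = B *ᵥ (C *ᵥ (A *ᵥ u)) := by rw [h1, Matrix.mulVec_smul]
      _ = (C * B * A) *ᵥ u := by
        rw [Matrix.mulVec_mulVec, ← hCB, ← Matrix.mulVec_mulVec (v := u)]
      _ = ν • (A *ᵥ u) := by
        rw [← hAB, ← Matrix.mulVec_mulVec, hB, Matrix.mulVec_smul]
  calc B *ᵥ (A *ᵥ u) = (lam ^ 3) • (B *ᵥ (A *ᵥ u)) := by rw [hlam, one_smul]
    _ = (lam ^ 2) • (lam • (B *ᵥ (A *ᵥ u))) := by rw [smul_smul, ← pow_succ]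
    _ = (ν * lam ^ 2) • (A *ᵥ u) := by rw [h2, smul_smul, mul_comm]

/-- The eigenvector ladder `w, Aw, A²w, …`. -/
theorem ladder {n : ℕ} (A B C : Matrix (Fin n) (Fin n) F) (lam : F) (hlam : lam ^ 3 = 1)
    (hCA : C * A = A * C) (hCB : C * B = B * C) (hAB : A * B = C * B * A)
    (μ : F) (w : Fin n → F) (hB : B *ᵥ w = μ • w) (hC : C *ᵥ w = lam • w) (k : ℕ) :
    B *ᵥ ((A ^ k) *ᵥ w) = (μ * (lam ^ 2) ^ k) • ((A ^ k) *ᵥ w) ∧
      C *ᵥ ((A ^ k) *ᵥ w) = lam • ((A ^ k) *ᵥ w) := by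
  induction k with
  | zero => simpa using ⟨hB, hC⟩
  | succ k ih =>
    have := ladder_step A B C lam hlam hCA hCB hAB _ _ ih.1 ih.2
    rw [pow_succ' A, ← Matrix.mulVec_mulVec]
    refine ⟨?_, this.2⟩
    rw [this.1]
    congr 1
    ring

end Cfsg.Agent.Helper7.Ex27
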