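import Mathlib
import Cfsg.Agent.Helper7.Ex27D

set_option autoImplicit false

/-!
The normal form: a non-abelian subgroup of order 27 and exponent 3 of `GL₃(F)` is conjugate to the
standard group `R0`.
-/

namespace Cfsg.Agent.Helper7.Ex27

open Matrix Cfsg.Agent.Helper7.Singer Cfsg.Agent.Helper7.Invol

variable {F : Type*} [Field F]

theorem sg_omega_ne_one (ω : F) (hω : ω ^ 2 + ω + 1 = 0) (h3 : (3 : F) ≠ 0) :
    sg (ωu ω hω) ≠ 1 := by
  intro h
  have h1 := congrArg (fun g : GL (Fin 3) F => (g : Matrix (Fin 3) (Fin 3) F) 0 0) h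
  simp only [sg_val, ωu_val, Matrix.smul_apply, Matrix.one_apply_eq, smul_eq_mul, mul_one,
    Units.val_one] at h1
  exact omega_ne_one ω hω h3 h1

theorem Xg_Yg_not_comm (ω : F) (hω : ω ^ 2 + ω + 1 = 0) (h3 : (3 : F) ≠ 0) :
    Xg ω hω * Yg ≠ Yg * Xg ω hω := by
  intro h
  rw [Xg_mul_Yg] at h
  apply sg_omega_ne_one ω hω h3
  exact mul_right_cancel (b := Yg * Xg ω hω) (by rw [h, one_mul])

theorem normal_form (h3 : (3 : F) ≠ 0) (ω₀ : F) (hω₀ : ω₀ ^ 2 + ω₀ + 1 = 0)
    (R : Subgroup (GL (Fin 3) F)) (hR : Nat.card R = 27) (hRe : Monoid.exponent R = 3)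
    (hRna : ¬ IsMulCommutative R) :
    ∃ (ω : F) (hω : ω ^ 2 + ω + 1 = 0) (P : GL (Fin 3) F),
      ∀ g, g ∈ R ↔ P⁻¹ * g * P ∈ R0 ω hω := by
  classical
  have hex : ∃ a b : R, a * b ≠ b * a := by
    by_contra hcon
    push_neg at hcon
    exact hRna ⟨⟨hcon⟩⟩
  obtain ⟨a, b, hab⟩ := hex
  have hcube : ∀ g : R, g ^ 3 = 1 := fun g => by
    have := Monoid.pow_exponent_eq_one g
    rwa [hRe] at this
  obtain ⟨c, hcdef⟩ : ∃ c : R, c = a * b * a⁻¹ * b⁻¹ := ⟨_, rfl⟩
  have hcZ : c ∈ Subgroup.center R := by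
    rw [hcdef]; exact commutator_central hR a b
  have hc1 : c ≠ 1 := by
    intro h
    apply hab
    rw [hcdef] at h
    calc a * b = (a * b * a⁻¹ * b⁻¹) * (b * a) := by group
      _ = b * a := by rw [h, one_mul]
  have hca : c * a = a * c := (Subgroup.mem_center_iff.1 hcZ a).symm
  have hcb : c * b = b * c := (Subgroup.mem_center_iff.1 hcZ b).symm
  have hab' : a * b = c * b * a := by rw [hcdef]; group
  let m : R →* Matrix (Fin 3) (Fin 3) F := (Units.coeHom _).comp R.subtype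
  have hm : ∀ g : R, m g = ((g : GL (Fin 3) F) : Matrix (Fin 3) (Fin 3) F) := fun g => rfl
  have hminj : Function.Injective m := by
    intro g h hgh
    exact Subtype.ext (Units.ext hgh)
  have hA3 : m a ^ 3 = 1 := by rw [← map_pow, hcube, map_one]
  have hB3 : m b ^ 3 = 1 := by rw [← map_pow, hcube, map_one]
  have hC3 : m c ^ 3 = 1 := by rw [← map_pow, hcube, map_one]
  have hC1 : m c ≠ 1 := fun h => hc1 (hminj (by rw [h, map_one]))
  have hCA : m c * m a = m a * m c := by rw [← map_mul, hca, map_mul]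
  have hCB : m c * m b = m b * m c := by rw [← map_mul, hcb, map_mul]
  have hAB : m a * m b = m c * m b * m a := by rw [← map_mul, hab', map_mul, map_mul]
  obtain ⟨lam, v, hlam, hv, hCv⟩ := exists_prim_eigvec (m c) ω₀ hω₀ h3 hC3 hC1
  have hlam3 : lam ^ 3 = 1 := omega_cube lam hlam
  obtain ⟨μ, w, hw, hμ3, hBw, hCw⟩ :=
    exists_common_eigvec (m b) (m c) ω₀ hω₀ h3 hB3 hCB.symm lam v hv hCv
  have hlad := ladder (m a) (m b) (m c) lam hlam3 hCA hCB hAB μ w hBw hCw
  have hω : (lam ^ 2) ^ 2 + lam ^ 2 + 1 = 0 := by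
    linear_combination (lam ^ 2 - lam + 1) * hlam
  obtain ⟨ω, hωdef⟩ : ∃ ω : F, ω = lam ^ 2 := ⟨_, rfl⟩
  rw [← hωdef] at hω hlad
  let vv : Fin 3 → (Fin 3 → F) := fun i => (m a ^ (i : ℕ)) *ᵥ w
  have hvB : ∀ i, m b *ᵥ vv i = (μ * ω ^ (i : ℕ)) • vv i := fun i => (hlad i).1
  have hvC : ∀ i, m c *ᵥ vv i = lam • vv i := fun i => (hlad i).2
  have hvA : ∀ i : Fin 3, m a *ᵥ vv i = vv (i + 1) := by
    intro i
    have key : ∀ k : ℕ, m a *ᵥ ((m a ^ k) *ᵥ w) = (m a ^ (k + 1)) *ᵥ w := by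
      intro k
      rw [Matrix.mulVec_mulVec, ← pow_succ']
    fin_cases i
    · exact key 0
    · exact key 1
    · show m a *ᵥ ((m a ^ 2) *ᵥ w) = (m a ^ 0) *ᵥ w
      rw [key 2, hA3, pow_zero]
  have hvne : ∀ i, vv i ≠ 0 := by
    intro i h
    apply hw
    have hi : (i : ℕ) ≤ 3 := by have := i.2; omega
    have : (m a ^ (3 - (i : ℕ))) *ᵥ vv i = w := by
      simp only [vv]
      rw [Matrix.mulVec_mulVec, ← pow_add, Nat.sub_add_cancel hi, hA3, Matrix.one_mulVec]
    rw [← this, h, Matrix.mulVec_zero]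
  have hμ0 : μ ≠ 0 := by
    intro h
    rw [h] at hμ3
    simp at hμ3
  have hli : LinearIndependent F vv := by
    apply Module.End.eigenvectors_linearIndependent' (Matrix.toLin' (m b))
      (fun i : Fin 3 => μ * ω ^ (i : ℕ))
    · intro i j hij
      exact omega_pow_injective ω hω h3 (mul_left_cancel₀ hμ0 hij)
    · intro i
      exact ⟨Module.End.mem_eigenspace_iff.2 (by rw [Matrix.toLin'_apply]; exact hvB i), hvne i⟩
  obtain ⟨bb, hbb⟩ := exists_basis_of_li vv hli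
  obtain ⟨P, hP⟩ := exists_GL_of_basis bb
  have hAP : m a * (P : Matrix (Fin 3) (Fin 3) F) = (P : Matrix (Fin 3) (Fin 3) F) * Ym := by
    apply eq_of_mulVec_basis (Pi.basisFun F (Fin 3))
    intro i
    rw [Pi.basisFun_apply, ← Matrix.mulVec_mulVec, ← Matrix.mulVec_mulVec, hP, Ym_mulVec_single,
      hP, hbb, hbb, hvA]
  have hBP : m b * (P : Matrix (Fin 3) (Fin 3) F) =
      μ • ((P : Matrix (Fin 3) (Fin 3) F) * Xm ω) := by
    apply eq_of_mulVec_basis (Pi.basisFun F (Fin 3))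
    intro i
    rw [Pi.basisFun_apply, ← Matrix.mulVec_mulVec, hP, hbb, hvB, Matrix.smul_mulVec,
      ← Matrix.mulVec_mulVec, Xm_mulVec_single, Matrix.mulVec_smul, hP, hbb, smul_smul]
  have hCs : m c = lam • (1 : Matrix (Fin 3) (Fin 3) F) := by
    apply eq_of_mulVec_basis bb
    intro i
    rw [hbb, hvC, Matrix.smul_mulVec, Matrix.one_mulVec]
  have hlam0 : lam ≠ 0 := omega_ne_zero lam hlam
  have hcg : (c : GL (Fin 3) F) = sg (Units.mk0 lam hlam0) := by
    apply Units.ext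
    rw [sg_val]
    exact hCs
  have hsgl : sg (Units.mk0 lam hlam0) ∈ R := by
    rw [← hcg]; exact c.2
  obtain ⟨k, hk⟩ := exists_pow_of_cube lam hlam μ hμ3
  have hsgm : sg (Units.mk0 μ hμ0) ∈ R := by
    have : Units.mk0 μ hμ0 = (Units.mk0 lam hlam0) ^ k := by
      apply Units.ext
      simp [hk]
    rw [this, ← sg_pow]
    exact R.pow_mem hsgl k
  have hY : P * Yg * P⁻¹ = (a : GL (Fin 3) F) := by
    rw [mul_inv_eq_iff_eq_mul]
    apply Units.ext
    rw [Units.val_mul, Units.val_mul, Yg_val]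
    exact hAP.symm
  have hX : P * Xg ω hω * P⁻¹ = (sg (Units.mk0 μ hμ0))⁻¹ * (b : GL (Fin 3) F) := by
    rw [mul_inv_eq_iff_eq_mul, mul_assoc, eq_inv_mul_iff_mul_eq]
    apply Units.ext
    rw [Units.val_mul, Units.val_mul, Units.val_mul, sg_val, Xg_val, Units.val_mk0,
      Matrix.smul_mul, Matrix.one_mul]
    exact hBP.symm
  let φ : GL (Fin 3) F →* GL (Fin 3) F := (MulAut.conj P).toMonoidHom
  have hφ : ∀ g, φ g = P * g * P⁻¹ := fun g => rfl
  have hle : (R0 ω hω).map φ ≤ R := by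
    rw [Subgroup.map_le_iff_le_comap]
    unfold R0
    rw [Subgroup.closure_le]
    intro n hn
    rcases hn with rfl | hn
    · show φ (Xg ω hω) ∈ R
      rw [hφ, hX]
      exact R.mul_mem (R.inv_mem hsgm) b.2
    · rw [Set.mem_singleton_iff] at hn
      rw [hn]
      show φ Yg ∈ R
      rw [hφ, hY]
      exact a.2
  haveI : Finite R := Nat.finite_of_card_ne_zero (by rw [hR]; norm_num)
  have hdvd : Nat.card ((R0 ω hω).map φ) ∣ 27 := by
    rw [← hR]; exact Subgroup.card_dvd_of_le hle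
  have hcard : Nat.card ((R0 ω hω).map φ) = 27 := by
    by_contra hne
    have h9 : Nat.card ((R0 ω hω).map φ) ∣ 9 := by
      have hmem : Nat.card ((R0 ω hω).map φ) ∈ Nat.divisors 27 :=
        Nat.mem_divisors.mpr ⟨hdvd, by norm_num⟩
      have h27 : Nat.divisors 27 = {1, 3, 9, 27} := by decide
      rw [h27] at hmem
      simp only [Finset.mem_insert, Finset.mem_singleton] at hmem
      rcases hmem with h | h | h | h
      · rw [h]; norm_num
      · rw [h]; norm_num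
      · rw [h]
      · exact absurd h hne
    have hcomm := comm_of_card_dvd_nine h9
    have hxm : φ (Xg ω hω) ∈ (R0 ω hω).map φ := Subgroup.mem_map_of_mem _ (Xg_mem ω hω)
    have hym : φ Yg ∈ (R0 ω hω).map φ := Subgroup.mem_map_of_mem _ (Yg_mem ω hω)
    have h0 := hcomm ⟨_, hxm⟩ ⟨_, hym⟩
    have h1 : φ (Xg ω hω) * φ Yg = φ Yg * φ (Xg ω hω) := congrArg Subtype.val h0
    rw [← map_mul, ← map_mul] at h1
    exact Xg_Yg_not_comm ω hω h3 ((MulAut.conj P).injective h1)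
  have hEq : (R0 ω hω).map φ = R := Subgroup.eq_of_le_of_card_ge hle (by rw [hcard, hR])
  refine ⟨ω, hω, P, fun g => ?_⟩
  rw [← hEq, Subgroup.mem_map]
  constructor
  · rintro ⟨h, hh, rfl⟩
    rw [hφ]
    have : P⁻¹ * (P * h * P⁻¹) * P = h := by group
    rw [this]
    exact hh
  · intro h
    refine ⟨_, h, ?_⟩
    rw [hφ]
    group

end Cfsg.Agent.Helper7.Ex27
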