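import Mathlib
import Cfsg.Agent.Helper7.Ex27E
import Cfsg.Agent.Helper8.UnipCommuteCard

set_option autoImplicit false

/-!
Transport of the "every element of order `r` fixes a point" property under conjugation, and the
3-part of the index of the normaliser.
-/

namespace Cfsg.Agent.Helper7.Ex27

open Matrix Cfsg.Agent.Helper7.Singer Cfsg.Agent.Helper7.Invol

variable {F : Type*} [Field F]

/-- Every element of order `r` modulo scalars of `SL₃(F)` is conjugate into `N`. -/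
def Elus (r : ℕ) (N : Subgroup (GL (Fin 3) F)) : Prop :=
  ∀ x ∈ Cfsg.Geo.specialLinear (Fin 3) F,
    (∃ z : F, ((x ^ r : GL (Fin 3) F) : Matrix (Fin 3) (Fin 3) F) =
      z • (1 : Matrix (Fin 3) (Fin 3) F)) →
    (∀ z : F, (x : Matrix (Fin 3) (Fin 3) F) ≠ z • (1 : Matrix (Fin 3) (Fin 3) F)) →
    ∃ g ∈ Cfsg.Geo.specialLinear (Fin 3) F, g⁻¹ * x * g ∈ N

theorem conj_mem_SL (P g : GL (Fin 3) F) (hg : g ∈ Cfsg.Geo.specialLinear (Fin 3) F) :
    P⁻¹ * g * P ∈ Cfsg.Geo.specialLinear (Fin 3) F := by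
  have hn : (Cfsg.Geo.specialLinear (Fin 3) F).Normal := by
    unfold Cfsg.Geo.specialLinear
    exact MonoidHom.normal_ker _
  have := hn.conj_mem g hg P⁻¹
  rwa [inv_inv] at this

theorem conj_scalar (P : GL (Fin 3) F) (g : GL (Fin 3) F) (z : F)
    (hg : (g : Matrix (Fin 3) (Fin 3) F) = z • (1 : Matrix (Fin 3) (Fin 3) F)) :
    ((P⁻¹ * g * P : GL (Fin 3) F) : Matrix (Fin 3) (Fin 3) F) =
      z • (1 : Matrix (Fin 3) (Fin 3) F) := by
  rw [Units.val_mul, Units.val_mul, hg, Matrix.mul_smul, Matrix.mul_one, Matrix.smul_mul,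
    ← Units.val_mul, inv_mul_cancel, Units.val_one]

theorem elus_of_conj (r : ℕ) (N N' : Subgroup (GL (Fin 3) F)) (P : GL (Fin 3) F)
    (hN : ∀ g, g ∈ N ↔ P⁻¹ * g * P ∈ N') (h : Elus r N') : Elus r N := by
  intro x hx hxr hxns
  obtain ⟨z, hz⟩ := hxr
  have h1 : (P⁻¹ * x * P) ^ r = P⁻¹ * x ^ r * P := by
    have := conj_pow (a := P⁻¹) (b := x) (i := r)
    rw [inv_inv] at this
    exact this
  obtain ⟨g', hg', hmem⟩ := h (P⁻¹ * x * P) (conj_mem_SL P x hx)
    ⟨z, by rw [h1]; exact conj_scalar P _ z hz⟩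
    (by
      intro z' hz'
      apply hxns z'
      have := conj_scalar P⁻¹ _ z' hz'
      rw [inv_inv] at this
      rw [← this]
      congr 1
      group)
  refine ⟨P * g' * P⁻¹, ?_, ?_⟩
  · have := conj_mem_SL P⁻¹ g' hg'
    rwa [inv_inv] at this
  · rw [hN]
    have : P⁻¹ * ((P * g' * P⁻¹)⁻¹ * x * (P * g' * P⁻¹)) * P = g'⁻¹ * (P⁻¹ * x * P) * g' := by
      group
    rw [this]
    exact hmem

theorem normalizer_conj (R R' : Subgroup (GL (Fin 3) F)) (P : GL (Fin 3) F)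
    (hR : ∀ g, g ∈ R ↔ P⁻¹ * g * P ∈ R') :
    ∀ g, g ∈ Cfsg.Geo.subgroupNormalizer R ↔ P⁻¹ * g * P ∈ Cfsg.Geo.subgroupNormalizer R' := by
  intro g
  unfold Cfsg.Geo.subgroupNormalizer
  rw [Subgroup.mem_normalizer_iff, Subgroup.mem_normalizer_iff]
  constructor
  · intro h n
    have h1 := h (P * n * P⁻¹)
    rw [hR, hR] at h1
    have e1 : P⁻¹ * (P * n * P⁻¹) * P = n := by group
    have e2 : P⁻¹ * (g * (P * n * P⁻¹) * g⁻¹) * P = P⁻¹ * g * P * n * (P⁻¹ * g * P)⁻¹ := by group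
    rw [e1, e2] at h1
    exact h1
  · intro h n
    have h1 := h (P⁻¹ * n * P)
    rw [hR, hR]
    have e2 : P⁻¹ * (g * n * g⁻¹) * P = P⁻¹ * g * P * (P⁻¹ * n * P) * (P⁻¹ * g * P)⁻¹ := by group
    rw [e2]
    exact h1

theorem card_geoSL {ι : Type} [Fintype ι] [DecidableEq ι] :
    Nat.card (Cfsg.Geo.specialLinear ι F) = Nat.card (Matrix.SpecialLinearGroup ι F) := by
  apply Nat.card_congr
  refine
    { toFun := fun g => ⟨(g.1 : Matrix ι ι F), (mem_SL_iff g.1).1 g.2⟩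
      invFun := fun s => ⟨Matrix.SpecialLinearGroup.toGL s, (mem_SL_iff _).2 (by simp)⟩
      left_inv := ?_
      right_inv := ?_ }
  · intro g
    apply Subtype.ext
    apply Units.ext
    rfl
  · intro s
    apply Subtype.ext
    rfl

theorem card_SL3_not_dvd_81 [Fintype F]
    (h : Fintype.card F % 9 = 4 ∨ Fintype.card F % 9 = 7) :
    ¬ 81 ∣ Nat.card (Matrix.SpecialLinearGroup (Fin 3) F) := by
  have hf := Cfsg.Agent.Helper8.UnipComm.card_SL_formula (F := F) 2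
  have hf' : Nat.card (Matrix.SpecialLinearGroup (Fin 3) F) =
      (∑ j ∈ Finset.range (2 + 1), Fintype.card F ^ j) *
        ∏ i ∈ Finset.range 2, (Fintype.card F ^ (2 + 1) - Fintype.card F ^ (i + 1)) := hf
  rw [hf', Finset.sum_range_succ, Finset.sum_range_succ, Finset.sum_range_one,
    Finset.prod_range_succ, Finset.prod_range_one]
  obtain ⟨s, hs⟩ : ∃ s, Fintype.card F = s + 1 := by
    have := Fintype.one_lt_card (α := F)
    exact ⟨Fintype.card F - 1, by omega⟩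
  rw [hs] at h ⊢
  have e1 : (s + 1) ^ (2 + 1) - (s + 1) ^ (0 + 1) = (s + 1) * s * (s + 2) := by
    apply Nat.sub_eq_of_eq_add; ring
  have e2 : (s + 1) ^ (2 + 1) - (s + 1) ^ (1 + 1) = (s + 1) ^ 2 * s := by
    apply Nat.sub_eq_of_eq_add; ring
  rw [e1, e2]
  intro hdvd
  have h0 := (ZMod.natCast_eq_zero_iff _ 81).2 hdvd
  push_cast at h0
  have key : ∀ t : ZMod 81, (t.val % 9 = 3 ∨ t.val % 9 = 6) →
      ((t + 1) ^ 0 + (t + 1) ^ 1 + (t + 1) ^ 2) * ((t + 1) * t * (t + 2) * ((t + 1) ^ 2 * t)) ≠ 0 := by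
    decide
  apply key (s : ZMod 81) _ h0
  rw [ZMod.val_natCast]
  omega

/-- The index of the normaliser of a subgroup of order 27 of `SL₃(q)` is prime to 3 when
`q ≡ 4, 7 (mod 9)`. -/
theorem three_not_dvd_relIndex [Fintype F]
    (hq : Fintype.card F % 9 = 4 ∨ Fintype.card F % 9 = 7) (R : Subgroup (GL (Fin 3) F))
    (hR : Nat.card R = 27) (hRSL : R ≤ Cfsg.Geo.specialLinear (Fin 3) F) :
    ¬ 3 ∣ (Cfsg.Geo.subgroupNormalizer R).relIndex (Cfsg.Geo.specialLinear (Fin 3) F) := by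
  intro hdvd
  apply card_SL3_not_dvd_81 hq
  rw [← card_geoSL]
  unfold Subgroup.relIndex at hdvd
  rw [← Subgroup.index_mul_card ((Cfsg.Geo.subgroupNormalizer R).subgroupOf
    (Cfsg.Geo.specialLinear (Fin 3) F))]
  have h27 : 27 ∣ Nat.card ((Cfsg.Geo.subgroupNormalizer R).subgroupOf
      (Cfsg.Geo.specialLinear (Fin 3) F)) := by
    have hle : R.subgroupOf (Cfsg.Geo.specialLinear (Fin 3) F) ≤
        (Cfsg.Geo.subgroupNormalizer R).subgroupOf (Cfsg.Geo.specialLinear (Fin 3) F) := by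
      apply Subgroup.subgroupOf_mono
      unfold Cfsg.Geo.subgroupNormalizer
      exact Subgroup.le_normalizer
    have hc : Nat.card (R.subgroupOf (Cfsg.Geo.specialLinear (Fin 3) F)) = 27 := by
      rw [← hR]
      exact Nat.card_congr (Subgroup.subgroupOfEquivOfLe hRSL).toEquiv
    rw [← hc]
    exact Subgroup.card_dvd_of_le hle
  have : (81 : ℕ) = 3 * 27 := by norm_num
  rw [this]
  exact Nat.mul_dvd_mul hdvd h27

end Cfsg.Agent.Helper7.Ex27
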