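import Mathlib
import Cfsg.Agent.Helper7.InvolB

set_option autoImplicit false

namespace Cfsg.Agent.Helper7.Invol

open Matrix

variable {F : Type*} [Field F] {n : ℕ}

/-- Diagonalisable matrices with matching eigenvalue patterns are conjugate under `SL_n`. -/
theorem conj_of_diag {ι ι' : Type*} [Fintype ι] [DecidableEq ι] [Fintype ι'] [DecidableEq ι']
    [Nonempty ι] (X Y : Matrix (Fin n) (Fin n) F)
    (b : Module.Basis ι F (Fin n → F)) (b' : Module.Basis ι' F (Fin n → F))
    (lam : ι → F) (lam' : ι' → F)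
    (hX : ∀ i, X *ᵥ b i = lam i • b i) (hY : ∀ i, Y *ᵥ b' i = lam' i • b' i)
    (σ : ι ≃ ι') (hσ : ∀ i, lam' (σ i) = lam i) :
    ∃ P : Matrix.SpecialLinearGroup (Fin n) F,
      X * (P : Matrix (Fin n) (Fin n) F) = (P : Matrix (Fin n) (Fin n) F) * Y := by
  classical
  let b'' : Module.Basis ι F (Fin n → F) := b'.reindex σ.symm
  have hb'' : ∀ i, b'' i = b' (σ i) := fun i => by simp [b'']
  apply conj_of_actsVia X Y b b'' (Matrix.diagonal lam)
  · intro i
    rw [hX i]
    simp only [Matrix.diagonal_apply]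
    rw [Finset.sum_eq_single i]
    · simp
    · intro j _ hji
      rw [if_neg hji, zero_smul]
    · intro h; exact absurd (Finset.mem_univ i) h
  · intro i
    rw [hb'', hY (σ i), hσ]
    simp only [Matrix.diagonal_apply]
    rw [Finset.sum_eq_single i]
    · simp [hb'']
    · intro j _ hji
      rw [if_neg hji, zero_smul]
    · intro h; exact absurd (Finset.mem_univ i) h
  · intro δ _
    obtain ⟨i₀⟩ := ‹Nonempty ι›
    refine ⟨Matrix.diagonal (Function.update (fun _ => (1 : F)) i₀ δ), ?_, ?_⟩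
    · rw [Matrix.diagonal_mul_diagonal, Matrix.diagonal_mul_diagonal]
      congr 1
      funext i
      exact mul_comm _ _
    · rw [Matrix.det_diagonal, Finset.prod_update_of_mem (Finset.mem_univ i₀)]
      simp

/-- A bijection matching two two-valued functions with equal fibre sizes. -/
theorem exists_equiv_two_valued {ι ι' : Type*} [Fintype ι] [Fintype ι']
    (lam : ι → F) (lam' : ι' → F) (μ ν : F)
    (h1 : ∀ i, lam i = μ ∨ lam i = ν) (h1' : ∀ i, lam' i = μ ∨ lam' i = ν)
    (hc : Nat.card {i // lam i = μ} = Nat.card {i // lam' i = μ})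
    (hcard : Fintype.card ι = Fintype.card ι') :
    ∃ σ : ι ≃ ι', ∀ i, lam' (σ i) = lam i := by
  classical
  have hc1 : Fintype.card {i // lam i = μ} = Fintype.card {i // lam' i = μ} := by
    rw [← Nat.card_eq_fintype_card, ← Nat.card_eq_fintype_card]; exact hc
  have hc2 : Fintype.card {i // ¬ lam i = μ} = Fintype.card {i // ¬ lam' i = μ} := by
    have e1 := Fintype.card_subtype_compl (fun i => lam i = μ)
    have e2 := Fintype.card_subtype_compl (fun i => lam' i = μ)
    rw [e1, e2, hc1, hcard]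
  let e₁ := Fintype.equivOfCardEq hc1
  let e₂ := Fintype.equivOfCardEq hc2
  let σ : ι ≃ ι' := (Equiv.sumCompl (fun i => lam i = μ)).symm.trans
    ((Equiv.sumCongr e₁ e₂).trans (Equiv.sumCompl (fun i => lam' i = μ)))
  refine ⟨σ, fun i => ?_⟩
  by_cases hi : lam i = μ
  · have : σ i = (e₁ ⟨i, hi⟩ : ι') := by
      simp only [σ, Equiv.trans_apply]
      rw [Equiv.sumCompl_symm_apply_of_pos (p := fun i => lam i = μ) (a := i) hi]
      simp
    rw [this, (e₁ ⟨i, hi⟩).2, hi]
  · have : σ i = (e₂ ⟨i, hi⟩ : ι') := by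
      simp only [σ, Equiv.trans_apply]
      rw [Equiv.sumCompl_symm_apply_of_neg (p := fun i => lam i = μ) (a := i) hi]
      simp
    rw [this]
    rcases h1' (e₂ ⟨i, hi⟩ : ι') with h | h
    · exact absurd h (e₂ ⟨i, hi⟩).2
    · rw [h]
      rcases h1 i with h' | h'
      · exact absurd h' hi
      · exact h'.symm

/-- A matrix with `X² = μ²` is diagonalisable with eigenvalues `±μ` (characteristic not 2). -/
theorem exists_diag_basis (X : Matrix (Fin n) (Fin n) F) (μ : F) (hμ : μ ≠ 0)
    (h2 : (2 : F) ≠ 0) (hX : X * X = (μ * μ) • (1 : Matrix (Fin n) (Fin n) F)) :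
    ∃ (r s : ℕ) (b : Module.Basis (Fin r ⊕ Fin s) F (Fin n → F)),
      (∀ i, X *ᵥ b (Sum.inl i) = (-μ) • b (Sum.inl i)) ∧
      (∀ j, X *ᵥ b (Sum.inr j) = μ • b (Sum.inr j)) := by
  classical
  let T : (Fin n → F) →ₗ[F] (Fin n → F) := Matrix.toLin' X
  have hTT : ∀ v, X *ᵥ (X *ᵥ v) = (μ * μ) • v := fun v => by
    rw [Matrix.mulVec_mulVec, hX, Matrix.smul_mulVec, Matrix.one_mulVec]
  let p : Submodule F (Fin n → F) := LinearMap.ker (T + μ • LinearMap.id)
  let q : Submodule F (Fin n → F) := LinearMap.ker (T - μ • LinearMap.id)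
  have hp : ∀ v, v ∈ p ↔ X *ᵥ v = (-μ) • v := fun v => by
    simp only [p, T, LinearMap.mem_ker, LinearMap.add_apply, Matrix.toLin'_apply,
      LinearMap.smul_apply, LinearMap.id_apply]
    rw [neg_smul, eq_neg_iff_add_eq_zero]
  have hq : ∀ v, v ∈ q ↔ X *ᵥ v = μ • v := fun v => by
    simp only [q, T, LinearMap.mem_ker, LinearMap.sub_apply, Matrix.toLin'_apply,
      LinearMap.smul_apply, LinearMap.id_apply]
    rw [sub_eq_zero]
  have h2μ : (2 * μ) ≠ 0 := mul_ne_zero h2 hμ
  have hcompl : IsCompl p q := by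
    constructor
    · rw [Submodule.disjoint_def]
      intro v hvp hvq
      have e1 := (hp v).1 hvp
      have e2 := (hq v).1 hvq
      have : (2 * μ) • v = 0 := by
        rw [two_mul, add_smul]
        nth_rewrite 1 [← e2]
        rw [e1, neg_smul, neg_add_cancel]
      exact (smul_eq_zero.1 this).resolve_left h2μ
    · rw [codisjoint_iff, eq_top_iff]
      intro v _
      have hv : v = (2 * μ)⁻¹ • (μ • v - X *ᵥ v) + (2 * μ)⁻¹ • (μ • v + X *ᵥ v) := by
        rw [← smul_add, sub_add_add_cancel, ← add_smul, ← two_mul, smul_smul,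
          inv_mul_cancel₀ h2μ, one_smul]
      rw [hv]
      refine Submodule.add_mem_sup (Submodule.smul_mem _ _ ?_) (Submodule.smul_mem _ _ ?_)
      · rw [hp, Matrix.mulVec_sub, Matrix.mulVec_smul, hTT, smul_sub, smul_smul, neg_mul,
          neg_smul, neg_smul]
        abel
      · rw [hq, Matrix.mulVec_add, Matrix.mulVec_smul, hTT, smul_add, smul_smul, add_comm]
  let bp := Module.finBasis F p
  let bq := Module.finBasis F q
  let b : Module.Basis (Fin (Module.finrank F p) ⊕ Fin (Module.finrank F q)) F (Fin n → F) :=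
    (bp.prod bq).map (Submodule.prodEquivOfIsCompl p q hcompl)
  refine ⟨_, _, b, ?_, ?_⟩
  · intro i
    have : b (Sum.inl i) = (bp i : Fin n → F) := by
      simp [b, Submodule.coe_prodEquivOfIsCompl']
    rw [this]
    exact (hp _).1 (bp i).2
  · intro j
    have : b (Sum.inr j) = (bq j : Fin n → F) := by
      simp [b, Submodule.coe_prodEquivOfIsCompl']
    rw [this]
    exact (hq _).1 (bq j).2

end Cfsg.Agent.Helper7.Invol
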