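import Mathlib
import Cfsg.Agent.Helper7.Ex27F
import Cfsg.Agent.Helper7.InvolC

set_option autoImplicit false

/-!
Elements of order 2 and 3 (modulo scalars) of `SL₃(F)` are conjugate into the normaliser of the
standard group `R0`.
-/

namespace Cfsg.Agent.Helper7.Ex27

open Matrix Cfsg.Agent.Helper7.Singer Cfsg.Agent.Helper7.Invol

variable {F : Type*} [Field F]

/-- From a conjugating matrix of determinant one to the conclusion of `Elus`. -/
theorem elus_finish (N : Subgroup (GL (Fin 3) F)) (x t : GL (Fin 3) F) (ht : t ∈ N)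
    (Pm : Matrix.SpecialLinearGroup (Fin 3) F)
    (h : (x : Matrix (Fin 3) (Fin 3) F) * (Pm : Matrix (Fin 3) (Fin 3) F) =
      (Pm : Matrix (Fin 3) (Fin 3) F) * (t : Matrix (Fin 3) (Fin 3) F)) :
    ∃ g ∈ Cfsg.Geo.specialLinear (Fin 3) F, g⁻¹ * x * g ∈ N := by
  refine ⟨Matrix.SpecialLinearGroup.toGL Pm, (mem_SL_iff _).2 (by simp), ?_⟩
  have : (Matrix.SpecialLinearGroup.toGL Pm)⁻¹ * x * Matrix.SpecialLinearGroup.toGL Pm = t := by
    rw [mul_assoc, inv_mul_eq_iff_eq_mul]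
    apply Units.ext
    rw [Units.val_mul, Units.val_mul]
    exact h
  rw [this]
  exact ht

theorem scalar_pow_det {x : GL (Fin 3) F} (hx : x ∈ Cfsg.Geo.specialLinear (Fin 3) F) (r : ℕ)
    (z : F) (hz : ((x ^ r : GL (Fin 3) F) : Matrix (Fin 3) (Fin 3) F) =
      z • (1 : Matrix (Fin 3) (Fin 3) F)) : z ^ 3 = 1 := by
  have h := congrArg Matrix.det hz
  rw [Units.val_pow_eq_pow_val, Matrix.det_pow, (mem_SL_iff x).1 hx, one_pow, Matrix.det_smul,
    Matrix.det_one, mul_one, Fintype.card_fin] at h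
  exact h.symm

/-- Elements of order 3 modulo scalars, when `9 ∣ q - 1`. -/
theorem elus_three [Fintype F] (ω : F) (hω : ω ^ 2 + ω + 1 = 0) (h3 : (3 : F) ≠ 0)
    (h9 : 9 ∣ Fintype.card F - 1) :
    Elus 3 (Cfsg.Geo.subgroupNormalizer (R0 ω hω)) := by
  intro x hx hxr _
  obtain ⟨z, hz⟩ := hxr
  have hz3 := scalar_pow_det hx 3 z hz
  -- z is a cube
  obtain ⟨η, hη⟩ : ∃ η : F, η ^ 3 = z := by
    obtain ⟨ω', μ', hω', hμ'0, hμ'⟩ := exists_cube_root_omega h9
    obtain ⟨k, hk⟩ := exists_pow_of_cube ω' hω' z hz3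
    refine ⟨(μ'⁻¹) ^ k, ?_⟩
    have : ω' = (μ'⁻¹) ^ 3 := by
      rw [inv_pow]
      field_simp
      linear_combination hμ'
    rw [hk, ← pow_mul, mul_comm, pow_mul, ← this]
  have hη0 : η ≠ 0 := by
    intro h
    rw [h] at hη
    rw [← hη] at hz3
    simp at hz3
  have hX3 : (η⁻¹ • (x : Matrix (Fin 3) (Fin 3) F)) ^ 3 = 1 := by
    rw [smul_pow, ← Units.val_pow_eq_pow_val, hz, smul_smul, inv_pow, hη, inv_mul_cancel₀, one_smul]
    rw [← hη]
    exact pow_ne_zero 3 hη0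
  obtain ⟨b, e, hb⟩ := exists_eigenbasis_cube _ ω hω h3 hX3
  have hxb : ∀ j, (x : Matrix (Fin 3) (Fin 3) F) *ᵥ b j = (η * ω ^ (e j : ℕ)) • b j := by
    intro j
    have := hb j
    rw [Matrix.smul_mulVec] at this
    calc (x : Matrix (Fin 3) (Fin 3) F) *ᵥ b j
        = η • (η⁻¹ • ((x : Matrix (Fin 3) (Fin 3) F) *ᵥ b j)) := by
          rw [smul_smul, mul_inv_cancel₀ hη0, one_smul]
      _ = (η * ω ^ (e j : ℕ)) • b j := by rw [this, smul_smul]
  -- the target element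
  obtain ⟨t, htdef⟩ : ∃ t : GL (Fin 3) F,
      t = sg (Units.mk0 η hη0) * dg (fun i => ωu ω hω ^ (e i : ℕ)) := ⟨_, rfl⟩
  have htN : t ∈ Cfsg.Geo.subgroupNormalizer (R0 ω hω) := by
    rw [htdef]
    refine Subgroup.mul_mem _ (sg_mem_normalizer _ _) (dg_mem_normalizer ω hω _ ?_)
    intro i
    apply Units.ext
    rw [Units.val_pow_eq_pow_val, Units.val_pow_eq_pow_val, ωu_val, ← pow_mul, mul_comm, pow_mul,
      omega_cube ω hω, one_pow]
    rfl
  have htv : ∀ j, (t : Matrix (Fin 3) (Fin 3) F) *ᵥ (Pi.basisFun F (Fin 3)) j =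
      (η * ω ^ (e j : ℕ)) • (Pi.basisFun F (Fin 3)) j := by
    intro j
    rw [htdef, Units.val_mul, sg_val, dg_val, Units.val_mk0, Matrix.smul_mul, Matrix.one_mul,
      Matrix.smul_mulVec, Pi.basisFun_apply, Matrix.mulVec_single_one]
    ext k
    simp only [Pi.smul_apply, Matrix.col_apply, Matrix.diagonal_apply, smul_eq_mul,
      Pi.single_apply]
    by_cases hkj : k = j
    · subst hkj
      simp
    · simp [hkj]
  obtain ⟨Pm, hPm⟩ := conj_of_diag (x : Matrix (Fin 3) (Fin 3) F) (t : Matrix (Fin 3) (Fin 3) F)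
    b (Pi.basisFun F (Fin 3)) (fun j => η * ω ^ (e j : ℕ)) (fun j => η * ω ^ (e j : ℕ)) hxb htv
    (Equiv.refl _) (fun _ => rfl)
  exact elus_finish _ x t htN Pm hPm

end Cfsg.Agent.Helper7.Ex27
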