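import Mathlib
import Cfsg.Agent.Helper7.Ex27G

set_option autoImplicit false

/-!
Elements of order 2 (modulo scalars) of `SL₃(F)` are conjugate into the normaliser of the
standard group `R0`.
-/

namespace Cfsg.Agent.Helper7.Ex27

open Matrix Cfsg.Agent.Helper7.Singer Cfsg.Agent.Helper7.Invol

variable {F : Type*} [Field F]

/-- An eigenbasis of the involution `Tm`. -/
theorem exists_Tm_eigenbasis (h2 : (2 : F) ≠ 0) :
    ∃ c : Module.Basis (Fin 3) F (Fin 3 → F),
      (Tm : Matrix (Fin 3) (Fin 3) F) *ᵥ c 0 = (-1 : F) • c 0 ∧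
      (Tm : Matrix (Fin 3) (Fin 3) F) *ᵥ c 1 = (-1 : F) • c 1 ∧
      (Tm : Matrix (Fin 3) (Fin 3) F) *ᵥ c 2 = (1 : F) • c 2 := by
  have hli : LinearIndependent F ![(![1, 1, 0] : Fin 3 → F), ![0, 0, 1], ![1, -1, 0]] := by
    apply li3
    intro a b c habc
    have e0 := congrFun habc 0
    have e1 := congrFun habc 1
    have e2 := congrFun habc 2
    simp at e0 e1 e2
    have ha : (2 : F) * a = 0 := by linear_combination e0 + e1
    have ha0 : a = 0 := (mul_eq_zero.1 ha).resolve_left h2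
    refine ⟨ha0, e2, ?_⟩
    rw [ha0] at e0
    linear_combination e0
  obtain ⟨c, hc⟩ := exists_basis_of_li _ hli
  refine ⟨c, ?_, ?_, ?_⟩
  · rw [hc 0]
    ext k
    fin_cases k <;> simp [Tm, Matrix.mulVec, dotProduct, Fin.sum_univ_three]
  · rw [hc 1]
    ext k
    fin_cases k <;> simp [Tm, Matrix.mulVec, dotProduct, Fin.sum_univ_three]
  · rw [hc 2]
    ext k
    fin_cases k <;> simp [Tm, Matrix.mulVec, dotProduct, Fin.sum_univ_three]

/-- Elements of order 2 modulo scalars. -/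
theorem elus_two [Finite F] (ω : F) (hω : ω ^ 2 + ω + 1 = 0) (h2 : (2 : F) ≠ 0) :
    Elus 2 (Cfsg.Geo.subgroupNormalizer (R0 ω hω)) := by
  intro x hx hxr hxns
  obtain ⟨z, hz⟩ := hxr
  have hz3 := scalar_pow_det hx 2 z hz
  obtain ⟨μ, hμdef⟩ : ∃ μ : F, μ = z ^ 2 := ⟨_, rfl⟩
  have hμμ : μ * μ = z := by
    rw [hμdef]
    linear_combination z * hz3
  have hμ3 : μ ^ 3 = 1 := by
    rw [hμdef]
    linear_combination (z ^ 3 + 1) * hz3
  have hμ0 : μ ≠ 0 := by
    intro h
    rw [h] at hμ3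
    simp at hμ3
  have hXX : (x : Matrix (Fin 3) (Fin 3) F) * (x : Matrix (Fin 3) (Fin 3) F) =
      (μ * μ) • (1 : Matrix (Fin 3) (Fin 3) F) := by
    rw [hμμ, ← hz, Units.val_pow_eq_pow_val, pow_two]
  obtain ⟨r, s, b, hb1, hb2⟩ := exists_diag_basis _ μ hμ0 h2 hXX
  have hcard : r + s = 3 := by
    have := card_of_basis b
    simpa using this
  have hlam : ∀ i, (x : Matrix (Fin 3) (Fin 3) F) *ᵥ b i =
      (Sum.elim (fun _ => -μ) (fun _ => μ) i : F) • b i := by
    rintro (i | j)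
    · exact hb1 i
    · exact hb2 j
  have hdet := det_of_diag_basis _ b _ hlam
  rw [(mem_SL_iff x).1 hx, Fintype.prod_sum_type] at hdet
  simp only [Sum.elim_inl, Sum.elim_inr, Finset.prod_const, Finset.card_univ, Fintype.card_fin]
    at hdet
  have hr3 : r ≤ 3 := by omega
  have hne : (1 : F) ≠ -1 := by
    intro h
    apply h2
    linear_combination h
  interval_cases r
  · -- x is scalar
    exfalso
    apply hxns μ
    apply eq_of_mulVec_basis b
    rintro (i | j)
    · exact i.elim0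
    · rw [hb2 j, Matrix.smul_mulVec, Matrix.one_mulVec]
  · exfalso
    have hs : s = 2 := by omega
    subst hs
    apply hne
    refine hdet.trans ?_
    linear_combination (-1 : F) * hμ3
  · have hs : s = 1 := by omega
    subst hs
    obtain ⟨c, hc0, hc1, hc2⟩ := exists_Tm_eigenbasis (F := F) h2
    obtain ⟨t, htdef⟩ : ∃ t : GL (Fin 3) F, t = sg (Units.mk0 μ hμ0) * Tg := ⟨_, rfl⟩
    have htN : t ∈ Cfsg.Geo.subgroupNormalizer (R0 ω hω) := by
      rw [htdef]
      exact Subgroup.mul_mem _ (sg_mem_normalizer _ _) (Tg_mem_normalizer ω hω)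
    have htv : ∀ j, (t : Matrix (Fin 3) (Fin 3) F) *ᵥ c j = ((![-μ, -μ, μ] : Fin 3 → F) j) • c j := by
      intro j
      rw [htdef, Units.val_mul, sg_val, Tg_val, Units.val_mk0, Matrix.smul_mul, Matrix.one_mul,
        Matrix.smul_mulVec]
      fin_cases j
      · show μ • ((Tm : Matrix (Fin 3) (Fin 3) F) *ᵥ c 0) = (-μ) • c 0
        rw [hc0, smul_smul, mul_neg_one]
      · show μ • ((Tm : Matrix (Fin 3) (Fin 3) F) *ᵥ c 1) = (-μ) • c 1
        rw [hc1, smul_smul, mul_neg_one]
      · show μ • ((Tm : Matrix (Fin 3) (Fin 3) F) *ᵥ c 2) = μ • c 2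
        rw [hc2, one_smul]
    obtain ⟨Pm, hPm⟩ := conj_of_diag (x : Matrix (Fin 3) (Fin 3) F)
      (t : Matrix (Fin 3) (Fin 3) F) b c _ _ hlam htv finSumFinEquiv (by
        rintro (i | j)
        · fin_cases i <;> simp [finSumFinEquiv]
        · fin_cases j
          simp [finSumFinEquiv])
    exact elus_finish _ x t htN Pm hPm
  · exfalso
    have hs : s = 0 := by omega
    subst hs
    apply hne
    refine hdet.trans ?_
    linear_combination (-1 : F) * hμ3

end Cfsg.Agent.Helper7.Ex27
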