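import Mathlib
import Cfsg.Agent.Helper7.Ex27H

set_option autoImplicit false

/-!
Elements of prime order at least five normalising a group of order 27 centralise it; consequently
no such element of `SL₃(F)` normalises the extraspecial group.
-/

namespace Cfsg.Agent.Helper7.Ex27

open Matrix Cfsg.Agent.Helper7.Singer Cfsg.Agent.Helper7.Invol

/-- A normalising element whose `r`-th power centralises a group of order 27 and which fixes a
non-trivial element centralises the group, `r ≥ 5` prime. -/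
theorem central_of_prime27 {G : Type*} [Group G] (R : Subgroup G) [Finite R]
    (hcard : Nat.card R = 27)
    {y : G} (hy : y ∈ Subgroup.normalizer (R : Set G)) {r : ℕ} (hr : r.Prime) (hr5 : 5 ≤ r)
    (hpow : ∀ n ∈ R, y ^ r * n * (y ^ r)⁻¹ = n) {Z : G} (hZ : Z ∈ R) (hZ1 : Z ≠ 1)
    (hZy : y * Z * y⁻¹ = Z) : ∀ n ∈ R, y * n * y⁻¹ = n := by
  classical
  haveI : Fintype R := Fintype.ofFinite R
  haveI : Fact r.Prime := ⟨hr⟩
  have hmem : ∀ n : R, y * (n : G) * y⁻¹ ∈ R := fun n =>
    (Subgroup.mem_normalizer_iff.mp hy n).mp n.2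
  let f : Function.End R := fun n => ⟨y * (n : G) * y⁻¹, hmem n⟩
  have hfk : ∀ (k : ℕ) (n : R), (((f ^ k) n : R) : G) = y ^ k * (n : G) * (y ^ k)⁻¹ := by
    intro k
    induction k with
    | zero =>
      intro n
      simp only [pow_zero, one_mul, inv_one, mul_one]
      rfl
    | succ k ih =>
      intro n
      rw [pow_succ']
      change y * (((f ^ k) n : R) : G) * y⁻¹ = _
      rw [ih n, pow_succ']
      group
  have hfr : f ^ r ^ 1 = 1 := by
    rw [pow_one]
    funext n
    apply Subtype.ext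
    rw [hfk r n, hpow _ n.2]
    rfl
  have hmod := Equiv.Perm.card_fixedPoints_modEq (f := f) (p := r) (n := 1) hfr
  let C : Subgroup R := (Subgroup.centralizer ({y} : Set G)).subgroupOf R
  have hCmem : ∀ n : R, n ∈ C ↔ f n = n := by
    intro n
    rw [Subgroup.mem_subgroupOf, Subgroup.mem_centralizer_iff]
    constructor
    · intro h
      apply Subtype.ext
      change y * (n : G) * y⁻¹ = n
      rw [h y rfl]; group
    · intro h g hg
      rw [Set.mem_singleton_iff] at hg
      rw [hg]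
      have := congrArg Subtype.val h
      change y * (n : G) * y⁻¹ = n at this
      calc y * (n : G) = y * n * y⁻¹ * y := by group
        _ = n * y := by rw [this]
  have hcardC : Fintype.card (Function.fixedPoints f) = Nat.card C := by
    rw [← Nat.card_eq_fintype_card]
    apply Nat.card_congr
    exact Equiv.subtypeEquivRight (fun n => (hCmem n).symm)
  have hdvd : Nat.card C ∣ 27 := by
    rw [← hcard]; exact Subgroup.card_subgroup_dvd_card C
  have h2 : 1 < Nat.card C := by
    rw [Subgroup.one_lt_card_iff_ne_bot]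
    intro hbot
    have : (⟨Z, hZ⟩ : R) ∈ C := (hCmem _).mpr (Subtype.ext hZy)
    rw [hbot, Subgroup.mem_bot] at this
    exact hZ1 (congrArg Subtype.val this)
  have hc27 : Nat.card C = 27 := by
    rw [← Nat.card_eq_fintype_card, hcard, hcardC] at hmod
    have hle : Nat.card C ≤ 27 := Nat.le_of_dvd (by norm_num) hdvd
    have hd := (Nat.modEq_iff_dvd' hle).mp hmod.symm
    by_contra hne
    have : Nat.card C = 3 ∨ Nat.card C = 9 := by
      have : Nat.card C ∈ Nat.divisors 27 := Nat.mem_divisors.mpr ⟨hdvd, by norm_num⟩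
      have h27 : Nat.divisors 27 = {1, 3, 9, 27} := by decide
      rw [h27] at this
      simp only [Finset.mem_insert, Finset.mem_singleton] at this
      rcases this with h | h | h | h
      · rw [h] at h2; omega
      · exact Or.inl h
      · exact Or.inr h
      · exact absurd h hne
    rcases this with h | h
    · rw [h] at hd
      have h24 : (27 - 3 : ℕ) = 2 ^ 3 * 3 := by norm_num
      rw [h24] at hd
      rcases (Nat.Prime.dvd_mul hr).1 hd with h' | h'
      · have := (Nat.prime_dvd_prime_iff_eq hr (by norm_num)).1 (hr.dvd_of_dvd_pow h')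
        omega
      · have := (Nat.prime_dvd_prime_iff_eq hr (by norm_num)).1 h'
        omega
    · rw [h] at hd
      have h18 : (27 - 9 : ℕ) = 2 * 3 ^ 2 := by norm_num
      rw [h18] at hd
      rcases (Nat.Prime.dvd_mul hr).1 hd with h' | h'
      · have := (Nat.prime_dvd_prime_iff_eq hr (by norm_num)).1 h'
        omega
      · have := (Nat.prime_dvd_prime_iff_eq hr (by norm_num)).1 (hr.dvd_of_dvd_pow h')
        omega
  have htop : C = ⊤ := Subgroup.eq_top_of_card_eq C (by rw [hc27, hcard])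
  intro n hn
  have : (⟨n, hn⟩ : R) ∈ C := by rw [htop]; exact Subgroup.mem_top _
  have := (hCmem _).mp this
  exact congrArg Subtype.val this

variable {F : Type*} [Field F]

/-- No element of prime order `r ≥ 5` of `SL₃(F)` is conjugate into the normaliser. -/
theorem not_elus_ge_five [Fintype F] (h3 : (3 : F) ≠ 0) (ω : F) (hω : ω ^ 2 + ω + 1 = 0)
    (R : Subgroup (GL (Fin 3) F)) (hR : Nat.card R = 27) (P : GL (Fin 3) F)
    (hRP : ∀ g, g ∈ R ↔ P⁻¹ * g * P ∈ R0 ω hω)
    (r : ℕ) [hrp : Fact r.Prime] (hr5 : 5 ≤ r)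
    (hdvd : r ∣ Nat.card (Cfsg.Geo.specialLinear (Fin 3) F)) :
    ¬ Elus r (Cfsg.Geo.subgroupNormalizer R) := by
  intro hall
  haveI : Finite R := Nat.finite_of_card_ne_zero (by rw [hR]; norm_num)
  obtain ⟨x, hx⟩ := exists_prime_orderOf_dvd_card' r hdvd
  have hxr : (x : GL (Fin 3) F) ^ r = 1 := by
    have := pow_orderOf_eq_one x
    rw [hx] at this
    have := congrArg Subtype.val this
    simpa using this
  have hxd : ((x : GL (Fin 3) F) : Matrix (Fin 3) (Fin 3) F).det = 1 := (mem_SL_iff _).mp x.2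
  have hxns : ∀ z : F, ((x : GL (Fin 3) F) : Matrix (Fin 3) (Fin 3) F) ≠ z • 1 := by
    intro z hz
    have hz3 : z ^ 3 = 1 := by
      have h := congrArg Matrix.det hz
      rw [hxd, Matrix.det_smul, Matrix.det_one, mul_one, Fintype.card_fin] at h
      exact h.symm
    have h1 : (x : GL (Fin 3) F) ^ 3 = 1 := by
      apply Units.ext
      rw [Units.val_pow_eq_pow_val, hz, smul_pow, one_pow, hz3, one_smul]
      rfl
    have h2' : x ^ 3 = 1 := Subtype.ext (by simpa using h1)
    have := orderOf_dvd_of_pow_eq_one h2'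
    rw [hx] at this
    have := Nat.le_of_dvd (by norm_num) this
    omega
  obtain ⟨g, hg, hy⟩ := hall x x.2 ⟨1, by rw [hxr, one_smul]; rfl⟩ hxns
  obtain ⟨y, hydef⟩ : ∃ y : GL (Fin 3) F, y = g⁻¹ * (x : GL (Fin 3) F) * g := ⟨_, rfl⟩
  rw [← hydef] at hy
  have hyr : y ^ r = 1 := by
    rw [hydef]
    have : (g⁻¹ * (x : GL (Fin 3) F) * g) ^ r = g⁻¹ * (x : GL (Fin 3) F) ^ r * g := by
      have := conj_pow (a := g⁻¹) (b := (x : GL (Fin 3) F)) (i := r)
      rw [inv_inv] at this
      exact this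
    rw [this, hxr]; group
  -- the central element
  have hZ : sg (ωu ω hω) ∈ R := by
    rw [hRP]
    have : P⁻¹ * sg (ωu ω hω) * P = sg (ωu ω hω) := by
      rw [mul_assoc, sg_comm, ← mul_assoc, inv_mul_cancel, one_mul]
    rw [this]
    exact sg_omega_mem ω hω
  have hZ1 := sg_omega_ne_one ω hω h3
  have hZy : y * sg (ωu ω hω) * y⁻¹ = sg (ωu ω hω) := by
    rw [← sg_comm, mul_assoc, mul_inv_cancel, mul_one]
  have hcen := central_of_prime27 R hR hy hrp.out hr5
    (fun n _ => by rw [hyr]; group) hZ hZ1 hZy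
  -- y centralises the conjugated generators
  have hXR : P * Xg ω hω * P⁻¹ ∈ R := by
    rw [hRP]
    have : P⁻¹ * (P * Xg ω hω * P⁻¹) * P = Xg ω hω := by group
    rw [this]
    exact Xg_mem ω hω
  have hYR : P * Yg * P⁻¹ ∈ R := by
    rw [hRP]
    have : P⁻¹ * (P * Yg * P⁻¹) * P = Yg := by group
    rw [this]
    exact Yg_mem ω hω
  have cX : (P⁻¹ * y * P) * Xg ω hω = Xg ω hω * (P⁻¹ * y * P) := by
    have := hcen _ hXR
    calc (P⁻¹ * y * P) * Xg ω hω = P⁻¹ * (y * (P * Xg ω hω * P⁻¹) * y⁻¹) * y * P := by group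
      _ = Xg ω hω * (P⁻¹ * y * P) := by rw [this]; group
  have cY : (P⁻¹ * y * P) * Yg = Yg * (P⁻¹ * y * P) := by
    have := hcen _ hYR
    calc (P⁻¹ * y * P) * Yg = P⁻¹ * (y * (P * Yg * P⁻¹) * y⁻¹) * y * P := by group
      _ = Yg * (P⁻¹ * y * P) := by rw [this]; group
  have cX' := congrArg (fun g : GL (Fin 3) F => (g : Matrix (Fin 3) (Fin 3) F)) cX
  have cY' := congrArg (fun g : GL (Fin 3) F => (g : Matrix (Fin 3) (Fin 3) F)) cY
  simp only [Units.val_mul (a := P⁻¹ * y * P), Units.val_mul (b := P⁻¹ * y * P), Xg_val,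
    Yg_val] at cX' cY'
  have hsc := scalar_of_comm ω hω h3 _ cX' cY'
  -- hence x is scalar
  obtain ⟨z, hz⟩ : ∃ z : F, ((P⁻¹ * y * P : GL (Fin 3) F) : Matrix (Fin 3) (Fin 3) F) =
      z • (1 : Matrix (Fin 3) (Fin 3) F) := ⟨_, hsc⟩
  apply hxns z
  have hxy : (x : GL (Fin 3) F) = (g * P) * (P⁻¹ * y * P) * (g * P)⁻¹ := by
    rw [hydef]; group
  have := conj_scalar (g * P)⁻¹ _ z hz
  rw [inv_inv] at this
  rw [hxy]
  exact this

end Cfsg.Agent.Helper7.Ex27
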