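import Mathlib
import Cfsg.Agent.Helper8.SURootD
import Cfsg.Agent.Helper8.UnitaryLines

set_option autoImplicit false

/-! Generation of `SU_n(q)` by unitary transvections, part A: the subgroup `Tsub` generated by the
unitary transvections and the relation "moved by `Tsub`" on vectors (helper7). -/

namespace Cfsg.Agent.Helper7.SUGen

open Matrix Cfsg Cfsg.Agent.Helper7.Herm Cfsg.Agent.Helper8.GUOrder Cfsg.Agent.Helper8.SURoot

variable {F : Type*} [Field F] [Fintype F] {q N : ℕ} [hF : Fact (Fintype.card F = q ^ 2)]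

/-- the subgroup of `SU_N(q)` generated by the unitary transvections. -/
def Tsub (N : ℕ) (F : Type*) [Field F] [Fintype F] (q : ℕ) [hF : Fact (Fintype.card F = q ^ 2)] :
    Subgroup (SU N F q) :=
  Subgroup.closure {g | ∃ (p : Fin N → F) (s : F), hermForm N F q p p = 0 ∧ s ^ q + s = 0 ∧
    g = TU q p s}

theorem TU_mem_Tsub {p : Fin N → F} (hp : hermForm N F q p p = 0) {s : F} (hs : s ^ q + s = 0) :
    TU q p s ∈ Tsub N F q :=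
  Subgroup.subset_closure ⟨p, s, hp, hs, rfl⟩

/-- conjugating an element of `Tsub` by an isometry gives an element of `Tsub`. -/
theorem exists_conj {g : Matrix (Fin N) (Fin N) F}
    (hg : ∀ x y, hermForm N F q (g *ᵥ x) (g *ᵥ y) = hermForm N F q x y)
    {t : SU N F q} (ht : t ∈ Tsub N F q) :
    ∃ t' ∈ Tsub N F q, ∀ x, mt t' *ᵥ (g *ᵥ x) = g *ᵥ (mt t *ᵥ x) := by
  induction ht using Subgroup.closure_induction with
  | mem y hy =>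
    obtain ⟨p, s, hp, hs, rfl⟩ := hy
    have hp' : hermForm N F q (g *ᵥ p) (g *ᵥ p) = 0 := by rw [hg, hp]
    refine ⟨TU q (g *ᵥ p) s, TU_mem_Tsub hp' hs, fun x => ?_⟩
    rw [TU_mulVec hp' hs, TU_mulVec hp hs, hg, mulVec_add, mulVec_smul]
  | one => exact ⟨1, one_mem _, fun x => by rw [mt_one_mulVec, mt_one_mulVec]⟩
  | mul a b _ _ iha ihb =>
    obtain ⟨a', ha', ea⟩ := iha
    obtain ⟨b', hb', eb⟩ := ihb
    refine ⟨a' * b', mul_mem ha' hb', fun x => ?_⟩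
    rw [mt_mul_mulVec, mt_mul_mulVec, eb, ea]
  | inv a _ iha =>
    obtain ⟨a', ha', ea⟩ := iha
    refine ⟨a'⁻¹, inv_mem ha', fun x => ?_⟩
    have := ea (mt a⁻¹ *ᵥ x)
    rw [mt_inv_mulVec] at this
    rw [← this, mt_inv_mulVec']

/-- `v` is the image of `u` under an element of `Tsub`. -/
def Rel (q : ℕ) [hF : Fact (Fintype.card F = q ^ 2)] (u v : Fin N → F) : Prop :=
  ∃ t ∈ Tsub N F q, mt t *ᵥ u = v

theorem Rel.refl (u : Fin N → F) : Rel q u u := ⟨1, one_mem _, mt_one_mulVec u⟩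

theorem Rel.symm {u v : Fin N → F} (h : Rel q u v) : Rel q v u := by
  obtain ⟨t, ht, rfl⟩ := h
  exact ⟨t⁻¹, inv_mem ht, mt_inv_mulVec' t u⟩

theorem Rel.trans {u v w : Fin N → F} (h : Rel q u v) (h' : Rel q v w) : Rel q u w := by
  obtain ⟨t, ht, rfl⟩ := h
  obtain ⟨t', ht', rfl⟩ := h'
  exact ⟨t' * t, mul_mem ht' ht, mt_mul_mulVec t' t u⟩

theorem Rel.map {g : Matrix (Fin N) (Fin N) F}
    (hg : ∀ x y, hermForm N F q (g *ᵥ x) (g *ᵥ y) = hermForm N F q x y)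
    {u v : Fin N → F} (h : Rel q u v) : Rel q (g *ᵥ u) (g *ᵥ v) := by
  obtain ⟨t, ht, rfl⟩ := h
  obtain ⟨t', ht', e⟩ := exists_conj hg ht
  exact ⟨t', ht', e u⟩

/-- the pair version: an element of `Tsub` moving `u₁, u₂` to `v₁, v₂`. -/
def Rel2 (q : ℕ) [hF : Fact (Fintype.card F = q ^ 2)] (u₁ u₂ v₁ v₂ : Fin N → F) : Prop :=
  ∃ t ∈ Tsub N F q, mt t *ᵥ u₁ = v₁ ∧ mt t *ᵥ u₂ = v₂

theorem Rel2.refl (u₁ u₂ : Fin N → F) : Rel2 q u₁ u₂ u₁ u₂ :=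
  ⟨1, one_mem _, mt_one_mulVec u₁, mt_one_mulVec u₂⟩

theorem Rel2.symm {u₁ u₂ v₁ v₂ : Fin N → F} (h : Rel2 q u₁ u₂ v₁ v₂) : Rel2 q v₁ v₂ u₁ u₂ := by
  obtain ⟨t, ht, rfl, rfl⟩ := h
  exact ⟨t⁻¹, inv_mem ht, mt_inv_mulVec' t u₁, mt_inv_mulVec' t u₂⟩

theorem Rel2.trans {u₁ u₂ v₁ v₂ w₁ w₂ : Fin N → F} (h : Rel2 q u₁ u₂ v₁ v₂)
    (h' : Rel2 q v₁ v₂ w₁ w₂) : Rel2 q u₁ u₂ w₁ w₂ := by
  obtain ⟨t, ht, rfl, rfl⟩ := h
  obtain ⟨t', ht', rfl, rfl⟩ := h'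
  exact ⟨t' * t, mul_mem ht' ht, mt_mul_mulVec t' t u₁, mt_mul_mulVec t' t u₂⟩

theorem Rel2.map {g : Matrix (Fin N) (Fin N) F}
    (hg : ∀ x y, hermForm N F q (g *ᵥ x) (g *ᵥ y) = hermForm N F q x y)
    {u₁ u₂ v₁ v₂ : Fin N → F} (h : Rel2 q u₁ u₂ v₁ v₂) :
    Rel2 q (g *ᵥ u₁) (g *ᵥ u₂) (g *ᵥ v₁) (g *ᵥ v₂) := by
  obtain ⟨t, ht, rfl, rfl⟩ := h
  obtain ⟨t', ht', e⟩ := exists_conj hg ht
  exact ⟨t', ht', e u₁, e u₂⟩

end Cfsg.Agent.Helper7.SUGen
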