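import Mathlib
import Cfsg.Agent.Helper7.SUGenA

set_option autoImplicit false

/-! Generation of `SU_n(q)` by unitary transvections, part B: an element of `SU` acting trivially
on the orthogonal complement of a hyperbolic plane is a product of transvections (helper7). -/

namespace Cfsg.Agent.Helper7.SUGen

open Matrix Cfsg Cfsg.Agent.Helper7.Herm Cfsg.Agent.Helper8.GUOrder Cfsg.Agent.Helper8.SURoot

variable {F : Type*} [Field F] [Fintype F] {q N : ℕ} [hF : Fact (Fintype.card F = q ^ 2)]

local notation "H" => hermForm N F q

theorem herm_zero_swap {x y : Fin N → F} (h : H x y = 0) : H y x = 0 := by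
  rw [hermForm_swap hF.out, h, zero_pow]
  have := one_le_q hF.out
  omega

/-- nondegeneracy of the form. -/
theorem eq_zero_of_herm {r : Fin N → F} (h : ∀ y, H y r = 0) : r = 0 := by
  by_contra hr
  obtain ⟨w, hw⟩ := exists_herm_eq_one (q := q) hr
  rw [h w] at hw
  exact zero_ne_one hw

section plane

variable {p p' : Fin N → F} (hp : hermForm N F q p p = 0) (hp' : hermForm N F q p' p' = 0)
  (h1 : hermForm N F q p p' = 1)

include hp hp' h1

theorem herm_p'_p : H p' p = 1 := by rw [hermForm_swap hF.out, h1, one_pow]

/-- the component of `x` orthogonal to the hyperbolic plane. -/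
theorem perp_part (x : Fin N → F) :
    H (x - H x p' • p - H x p • p') p = 0 ∧ H (x - H x p' • p - H x p • p') p' = 0 := by
  have h1' := herm_p'_p (q := q) hp hp' h1
  constructor
  · rw [hermForm_sub_left, hermForm_sub_left, hermForm_smul_left, hermForm_smul_left, hp, h1']
    ring
  · rw [hermForm_sub_left, hermForm_sub_left, hermForm_smul_left, hermForm_smul_left, hp', h1]
    ring

/-- the image of a vector of the plane stays in the plane. -/
theorem image_in_plane (g : SU N F q)
    (hfix : ∀ x, H x p = 0 → H x p' = 0 → mt g *ᵥ x = x) (z : Fin N → F)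
    (hz : ∀ x, H x p = 0 → H x p' = 0 → H x z = 0) :
    mt g *ᵥ z = H (mt g *ᵥ z) p' • p + H (mt g *ᵥ z) p • p' := by
  have h1' := herm_p'_p (q := q) hp hp' h1
  set y := mt g *ᵥ z with hy
  have hr := perp_part (q := q) hp hp' h1 y
  set r := y - H y p' • p - H y p • p' with hrdef
  have hr0 : r = 0 := by
    apply eq_zero_of_herm (q := q)
    intro x
    have hx := perp_part (q := q) hp hp' h1 x
    set x' := x - H x p' • p - H x p • p' with hx'
    have ex : x = H x p' • p + H x p • p' + x' := by rw [hx']; abel
    have e1 : H x' r = 0 := by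
      rw [hrdef, hermForm_sub_right hF.out, hermForm_sub_right hF.out, hermForm_smul_right,
        hermForm_smul_right, hx.1, hx.2, mul_zero, mul_zero, sub_zero, sub_zero, hy,
        ← hfix x' hx.1 hx.2, herm_mt, hz x' hx.1 hx.2]
    rw [ex, hermForm_add_left, hermForm_add_left, hermForm_smul_left, hermForm_smul_left,
      herm_zero_swap hr.1, herm_zero_swap hr.2, e1]
    ring
  have : y = H y p' • p + H y p • p' + r := by rw [hrdef]; abel
  rw [hr0, add_zero] at this
  exact this

/-- the action of `g` in terms of the images of `p, p'`. -/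
theorem action_formula (g : SU N F q)
    (hfix : ∀ x, H x p = 0 → H x p' = 0 → mt g *ᵥ x = x) (x : Fin N → F) :
    mt g *ᵥ x = x + H x p' • (mt g *ᵥ p - p) + H x p • (mt g *ᵥ p' - p') := by
  have hx := perp_part (q := q) hp hp' h1 x
  set x' := x - H x p' • p - H x p • p' with hx'
  have ex : x = H x p' • p + H x p • p' + x' := by rw [hx']; abel
  conv_lhs => rw [ex]
  rw [mulVec_add, mulVec_add, mulVec_smul, mulVec_smul, hfix x' hx.1 hx.2, hx']
  module

end plane

/-- the unitarity relations force the shape of the `2 × 2` matrix. -/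
theorem shape_of_relations {a b c d : F} (e1 : a * c ^ q + c * a ^ q = 0)
    (e2 : b * d ^ q + d * b ^ q = 0) (e3 : a * d ^ q + c * b ^ q = 1) (e4 : a * d - b * c = 1) :
    a ^ q = a ∧ d ^ q = d ∧ b ^ q = -b ∧ c ^ q = -c := by
  have e3' : a ^ q * d + c ^ q * b = 1 := by
    have := congrArg (· ^ q) e3
    simp only [one_pow] at this
    rw [add_pow_q hF.out, mul_pow, mul_pow, pow_q_pow_q hF.out, pow_q_pow_q hF.out] at this
    exact this
  have ha : a ^ q = a := by linear_combination (-(a ^ q)) * e4 + a * e3' - b * e1
  have hd : d ^ q = d := by linear_combination (-(d ^ q)) * e4 + d * e3 - c * e2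
  rw [ha] at e1 e3'
  rw [hd] at e2 e3
  have hc1 : a * (c ^ q + c) = 0 := by linear_combination e1
  have hc2 : b * (c ^ q + c) = 0 := by linear_combination e3' - e4
  have hb1 : d * (b ^ q + b) = 0 := by linear_combination e2
  have hb2 : c * (b ^ q + b) = 0 := by linear_combination e3 - e4
  have hc : c ^ q + c = 0 := by
    by_contra hne
    have ha0 : a = 0 := (mul_eq_zero.mp hc1).resolve_right hne
    have hb0 : b = 0 := (mul_eq_zero.mp hc2).resolve_right hne
    rw [ha0, hb0] at e4
    simp at e4
  have hb : b ^ q + b = 0 := by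
    by_contra hne
    have hd0 : d = 0 := (mul_eq_zero.mp hb1).resolve_right hne
    have hc0 : c = 0 := (mul_eq_zero.mp hb2).resolve_right hne
    rw [hd0, hc0] at e4
    simp at e4
  exact ⟨ha, hd, by linear_combination hb, by linear_combination hc⟩

/-- **Plane lemma**: an element of `SU` fixing every vector orthogonal to a hyperbolic pair is a
product of unitary transvections. -/
theorem mem_Tsub_of_plane {p p' : Fin N → F} (hp : H p p = 0) (hp' : H p' p' = 0)
    (h1 : H p p' = 1) (g : SU N F q)
    (hfix : ∀ x, H x p = 0 → H x p' = 0 → mt g *ᵥ x = x) : g ∈ Tsub N F q := by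
  have h1' := herm_p'_p (q := q) hp hp' h1
  -- reduce to the case where the lower-left coefficient is nonzero
  suffices main : ∀ g : SU N F q, (∀ x, H x p = 0 → H x p' = 0 → mt g *ᵥ x = x) →
      H (mt g *ᵥ p) p ≠ 0 → g ∈ Tsub N F q by
    by_cases hc : H (mt g *ᵥ p) p = 0
    · obtain ⟨s, hs0, hs⟩ := exists_tz_ne_zero (F := F) (q := q)
      have hg' : TU q p' s * g ∈ Tsub N F q := by
        apply main
        · intro x hx hx'
          rw [mt_mul_mulVec, hfix x hx hx', TU_mulVec hp' hs, hx', mul_zero, zero_smul, add_zero]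
        · rw [mt_mul_mulVec, TU_mulVec hp' hs, hermForm_add_left, hermForm_smul_left, hc, h1',
            zero_add, mul_one]
          have ez := image_in_plane (q := q) hp hp' h1 g hfix p (fun x hx _ => hx)
          rw [hc, zero_smul, add_zero] at ez
          have hne : H (mt g *ᵥ p) p' ≠ 0 := by
            intro h0
            rw [h0, zero_smul] at ez
            exact mulVec_ne_zero' g (ne_zero_of_form_left (by rw [h1]; exact one_ne_zero)) ez
          exact mul_ne_zero hs0 hne
      have : g = (TU q p' s)⁻¹ * (TU q p' s * g) := by group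
      rw [this]
      exact mul_mem (inv_mem (TU_mem_Tsub hp' hs)) hg'
    · exact main g hfix hc
  clear hfix g
  intro g hfix hc0
  set a := H (mt g *ᵥ p) p' with ha
  set c := H (mt g *ᵥ p) p with hc
  set b := H (mt g *ᵥ p') p' with hb
  set d := H (mt g *ᵥ p') p with hd
  have egp : mt g *ᵥ p = a • p + c • p' := image_in_plane (q := q) hp hp' h1 g hfix p (fun x hx _ => hx)
  have egp' : mt g *ᵥ p' = b • p + d • p' :=
    image_in_plane (q := q) hp hp' h1 g hfix p' (fun x _ hx' => hx')
  have e1 : a * c ^ q + c * a ^ q = 0 := by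
    have := herm_mt g p p
    rw [hp, egp] at this
    simp only [hermForm_add_left, hermForm_add_right hF.out, hermForm_smul_left,
      hermForm_smul_right, hp, hp', h1, h1'] at this
    linear_combination this
  have e2 : b * d ^ q + d * b ^ q = 0 := by
    have := herm_mt g p' p'
    rw [hp', egp'] at this
    simp only [hermForm_add_left, hermForm_add_right hF.out, hermForm_smul_left,
      hermForm_smul_right, hp, hp', h1, h1'] at this
    linear_combination this
  have e3 : a * d ^ q + c * b ^ q = 1 := by
    have := herm_mt g p p'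
    rw [h1, egp, egp'] at this
    simp only [hermForm_add_left, hermForm_add_right hF.out, hermForm_smul_left,
      hermForm_smul_right, hp, hp', h1, h1'] at this
    linear_combination this
  have hform : ∀ x, mt g *ᵥ x = x + H x p' • ((a - 1) • p + c • p') +
      H x p • (b • p + (d - 1) • p') := by
    intro x
    rw [action_formula (q := q) hp hp' h1 g hfix x, egp, egp']
    module
  have e4 : a * d - b * c = 1 := by
    have hmat : mt g = PsiMat q p p' !![a, b; c, d] := by
      rw [Matrix.ext_iff_mulVec]
      intro x
      rw [hform, PsiMat_mulVec]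
      simp
    have hdet : (mt g).det = 1 := (g : Matrix.SpecialLinearGroup (Fin N) F).2
    rw [hmat, PsiMat_det hp hp' h1 h1', Matrix.det_fin_two] at hdet
    simpa using hdet
  obtain ⟨haq, hdq, hbq, hcq⟩ := shape_of_relations (q := q) e1 e2 e3 e4
  have hcs : c ^ q + c = 0 := by rw [hcq]; ring
  have hxs : ((a - 1) / c) ^ q + (a - 1) / c = 0 := by
    rw [div_pow, sub_pow_q hF.out, haq, one_pow, hcq]
    field_simp
    ring
  have hys : ((d - 1) / c) ^ q + (d - 1) / c = 0 := by
    rw [div_pow, sub_pow_q hF.out, hdq, one_pow, hcq]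
    field_simp
    ring
  have hg : g = TU q p ((a - 1) / c) * TU q p' c * TU q p ((d - 1) / c) := by
    apply ext_mulVec
    intro x
    rw [hform, mt_mul_mulVec, mt_mul_mulVec, TU_mulVec hp hys, TU_mulVec hp' hcs, TU_mulVec hp hxs]
    simp only [hermForm_add_left, hermForm_smul_left, hp, hp', h1, h1']
    have eb : b = (a - 1) / c + (d - 1) / c + (a - 1) / c * c * ((d - 1) / c) := by
      field_simp
      linear_combination (-1 : F) * e4
    have ea : a - 1 = (a - 1) / c * c := by field_simp
    have ed : d - 1 = c * ((d - 1) / c) := by field_simp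
    set X := (a - 1) / c with hX
    set Y := (d - 1) / c with hY
    rw [eb, ea, ed]
    module
  rw [hg]
  exact mul_mem (mul_mem (TU_mem_Tsub hp hxs) (TU_mem_Tsub hp' hcs)) (TU_mem_Tsub hp hys)

end Cfsg.Agent.Helper7.SUGen
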