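import Mathlib
import Cfsg.Agent.Helper7.SUGenB

set_option autoImplicit false

/-! Generation of `SU_n(q)` by unitary transvections, part C: two unit vectors spanning a
non-degenerate plane are conjugate under `Tsub` (helper7). -/

namespace Cfsg.Agent.Helper7.SUGen

open Matrix Cfsg Cfsg.Agent.Helper7.Herm Cfsg.Agent.Helper8.GUOrder Cfsg.Agent.Helper8.SURoot

variable {F : Type*} [Field F] [Fintype F] {q N : ℕ} [hF : Fact (Fintype.card F = q ^ 2)]

local notation "H" => hermForm N F q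

omit [Fintype F] hF in
/-- determinant of a (quasi-)reflection. -/
theorem det_uT (p : Fin N → F) (s : F) :
    (unitaryTransvection N q p s).det = 1 + s * hermForm N F q p p := by
  unfold unitaryTransvection
  rw [← Matrix.smul_vecMulVec, Matrix.vecMulVec_eq (Fin 1), det_one_add_replicateCol_mul_replicateRow]
  have : (fun j => p j ^ q) ⬝ᵥ (s • p) = s * hermForm N F q p p := by
    unfold hermForm
    rw [dotProduct, Finset.mul_sum]
    apply Finset.sum_congr rfl
    intro i _
    simp only [Pi.smul_apply, smul_eq_mul]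
    ring
  rw [this]

/-- a hyperbolic pair in the span of an orthogonal pair `v, v'` with `h(v,v) = 1`,
`h(v',v') = κ ≠ 0`. -/
theorem exists_hyperbolic_pair {v v' : Fin N → F} {κ : F} (hv : H v v = 1) (hv' : H v' v' = κ)
    (hvv' : H v v' = 0) (hκ0 : κ ≠ 0) (hκ : κ ^ q = κ) :
    ∃ p p' : Fin N → F, H p p = 0 ∧ H p' p' = 0 ∧ H p p' = 1 ∧
      ∀ x, H x p = 0 → H x p' = 0 → H x v = 0 ∧ H x v' = 0 := by
  have hq := one_le_q hF.out
  have hv'v : H v' v = 0 := herm_zero_swap hvv'
  have hc0 : -κ⁻¹ ≠ 0 := neg_ne_zero.mpr (inv_ne_zero hκ0)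
  have hcq : (-κ⁻¹) ^ q = -κ⁻¹ := by rw [neg_pow_q hF.out, inv_pow, hκ]
  obtain ⟨β, hβ⟩ := exists_norm hF.out hc0 hcq
  obtain ⟨ζ, hζ, hζ1⟩ := exists_zeta hF.out
  have hβ0 : β ≠ 0 := by
    rintro rfl
    rw [zero_mul] at hβ
    exact hc0 hβ.symm
  have hζ0 : ζ ≠ 0 := by
    rintro rfl
    rw [zero_mul] at hζ
    exact zero_ne_one hζ
  have hζq : ζ ^ q ≠ 1 := by
    intro h
    rw [h, mul_one] at hζ
    exact hζ1 hζ
  have hβκ : β * β ^ q * κ = -1 := by rw [hβ]; field_simp
  have hpp : H (v + β • v') (v + β • v') = 0 := by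
    simp only [hermForm_add_left, hermForm_add_right hF.out, hermForm_smul_left,
      hermForm_smul_right, hv, hv', hvv', hv'v]
    linear_combination hβκ
  have hp0 : H (v + (ζ * β) • v') (v + (ζ * β) • v') = 0 := by
    simp only [hermForm_add_left, hermForm_add_right hF.out, hermForm_smul_left,
      hermForm_smul_right, hv, hv', hvv', hv'v, mul_pow]
    linear_combination (ζ * ζ ^ q) * hβκ - hζ
  have hpp0 : H (v + β • v') (v + (ζ * β) • v') = 1 - ζ ^ q := by
    simp only [hermForm_add_left, hermForm_add_right hF.out, hermForm_smul_left,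
      hermForm_smul_right, hv, hv', hvv', hv'v, mul_pow]
    linear_combination ζ ^ q * hβκ
  have hd0 : 1 - ζ ^ q ≠ 0 := fun h => hζq (by linear_combination -h)
  have hd1 : 1 - ζ ≠ 0 := fun h => hζ1 (by linear_combination -h)
  have hlq : ((1 - ζ)⁻¹) ^ q = (1 - ζ ^ q)⁻¹ := by
    rw [inv_pow, sub_pow_q hF.out, one_pow]
  refine ⟨v + β • v', (1 - ζ)⁻¹ • (v + (ζ * β) • v'), hpp, ?_, ?_, ?_⟩
  · rw [hermForm_smul_left, hermForm_smul_right, hp0, mul_zero, mul_zero]
  · rw [hermForm_smul_right, hpp0, hlq, inv_mul_cancel₀ hd0]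
  · intro x hx hx'
    rw [hermForm_smul_right, hlq] at hx'
    have hx0 : H x (v + (ζ * β) • v') = 0 := by
      rcases mul_eq_zero.mp hx' with h | h
      · exact absurd h (inv_ne_zero hd0)
      · exact h
    rw [hermForm_add_right hF.out, hermForm_smul_right] at hx hx0
    have h1 : (β ^ q * (1 - ζ ^ q)) * H x v' = 0 := by
      rw [mul_pow] at hx0
      linear_combination hx - hx0
    have h2 : H x v' = 0 := by
      rcases mul_eq_zero.mp h1 with h | h
      · exact absurd h (mul_ne_zero (pow_ne_zero _ hβ0) hd0)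
      · exact h
    rw [h2, mul_zero, add_zero] at hx
    exact ⟨hx, h2⟩

/-- **Edge lemma**: unit vectors `u, v` with `N(h(u,v)) ≠ 1` are conjugate under `Tsub`. -/
theorem Rel_of_norm_ne_one {u v : Fin N → F} (hu : H u u = 1) (hv : H v v = 1)
    (hne : H u v * H u v ^ q ≠ 1) : Rel q u v := by
  have hq := one_le_q hF.out
  set α := H u v with hα
  have hvu : H v u = α ^ q := hermForm_swap hF.out v u
  have hα1 : α ≠ 1 := by
    rintro h
    rw [h, one_pow, mul_one] at hne
    exact hne rfl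
  have hd0 : 1 - α ≠ 0 := fun h => hα1 (by linear_combination -h)
  have hdq : (1 - α) ^ q = 1 - α ^ q := by rw [sub_pow_q hF.out, one_pow]
  have hdq0 : 1 - α ^ q ≠ 0 := by rw [← hdq]; exact pow_ne_zero _ hd0
  set κ := 1 - α * α ^ q with hκdef
  have hκ0 : κ ≠ 0 := fun h => hne (by linear_combination -h)
  have hκ : κ ^ q = κ := by
    rw [hκdef, sub_pow_q hF.out, one_pow, mul_pow, pow_q_pow_q hF.out]
    ring
  -- the first reflection, moving `u` to `v`
  have huw : H u (u - v) = 1 - α := by rw [hermForm_sub_right hF.out, hu]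
  have hww : H (u - v) (u - v) = (1 - α) + (1 - α ^ q) := by
    rw [hermForm_sub_left, huw, hermForm_sub_right hF.out, hvu, hv]; ring
  set c₁ : F := -(1 - α)⁻¹ with hc₁
  have hc₁q : c₁ ^ q = -(1 - α ^ q)⁻¹ := by rw [hc₁, neg_pow_q hF.out, inv_pow, hdq]
  have hcond₁ : c₁ ^ q + c₁ + c₁ * c₁ ^ q * H (u - v) (u - v) = 0 := by
    rw [hc₁q, hww, hc₁]
    field_simp
    ring
  set δ : F := 1 + c₁ * H (u - v) (u - v) with hδ
  have hδe : δ = -(1 - α ^ q) / (1 - α) := by
    rw [hδ, hww, hc₁]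
    field_simp
    ring
  have hδ0 : δ ≠ 0 := by
    rw [hδe]
    exact div_ne_zero (neg_ne_zero.mpr hdq0) hd0
  have hδq : δ ^ q = δ⁻¹ := by
    rw [hδe, div_pow, neg_pow_q hF.out, hdq, sub_pow_q hF.out, one_pow, pow_q_pow_q hF.out]
    field_simp
  -- the second reflection, fixing `v`
  set v' := u - α • v with hv'def
  have hv'v : H v' v = 0 := by
    rw [hv'def, hermForm_sub_left, hermForm_smul_left, hv, ← hα]; ring
  have hvv' : H v v' = 0 := herm_zero_swap hv'v
  have hv'v' : H v' v' = κ := by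
    rw [hv'def, hermForm_sub_left, hermForm_smul_left, hermForm_sub_right hF.out,
      hermForm_sub_right hF.out, hermForm_smul_right, hermForm_smul_right, hu, hv, hvu, ← hα]
    ring
  set c₂ : F := (δ⁻¹ - 1) / κ with hc₂
  have hc₂q : c₂ ^ q = (δ - 1) / κ := by
    rw [hc₂, div_pow, sub_pow_q hF.out, one_pow, inv_pow, hδq, inv_inv, hκ]
  have hcond₂ : c₂ ^ q + c₂ + c₂ * c₂ ^ q * H v' v' = 0 := by
    rw [hc₂q, hv'v', hc₂]
    field_simp
    ring
  have hdet₂ : 1 + c₂ * H v' v' = δ⁻¹ := by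
    rw [hv'v', hc₂]
    field_simp
    ring
  -- the product
  set M := unitaryTransvection N q v' c₂ * unitaryTransvection N q (u - v) c₁ with hM
  have hMdet : M.det = 1 := by
    rw [hM, det_mul, det_uT, det_uT, hdet₂, ← hδ, inv_mul_cancel₀ hδ0]
  have hMform : ∀ x y, H (M *ᵥ x) (M *ᵥ y) = H x y := by
    intro x y
    rw [hM, ← mulVec_mulVec, ← mulVec_mulVec, hermForm_T hF.out, hermForm_T hF.out, hcond₁,
      hcond₂, zero_mul, zero_mul, add_zero, add_zero]
  let g : SU N F q := ⟨⟨M, hMdet⟩, hMform⟩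
  have hgmul : ∀ x, mt g *ᵥ x = M *ᵥ x := fun x => rfl
  have hgu : mt g *ᵥ u = v := by
    rw [hgmul, hM, ← mulVec_mulVec, unitaryTransvection_mulVec, unitaryTransvection_mulVec, huw]
    have e1 : u + (c₁ * (1 - α)) • (u - v) = v := by
      have : c₁ * (1 - α) = -1 := by rw [hc₁]; field_simp
      rw [this]; module
    rw [e1, hvv', mul_zero, zero_smul, add_zero]
  obtain ⟨p, p', hp, hp', h1, hperp⟩ := exists_hyperbolic_pair (q := q) hv hv'v' hvv' hκ0 hκ
  have hg : g ∈ Tsub N F q := by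
    apply mem_Tsub_of_plane hp hp' h1
    intro x hx hx'
    obtain ⟨hxv, hxv'⟩ := hperp x hx hx'
    have hxu : H x u = 0 := by
      have : u = v' + α • v := by rw [hv'def]; abel
      rw [this, hermForm_add_right hF.out, hermForm_smul_right, hxv, hxv', mul_zero, add_zero]
    have e1 : unitaryTransvection N q (u - v) c₁ *ᵥ x = x := by
      rw [unitaryTransvection_mulVec, hermForm_sub_right hF.out, hxu, hxv, sub_zero, mul_zero,
        zero_smul, add_zero]
    rw [hgmul, hM, ← mulVec_mulVec, e1, unitaryTransvection_mulVec, hxv', mul_zero, zero_smul,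
      add_zero]
  exact ⟨g, hg, hgu⟩

end Cfsg.Agent.Helper7.SUGen
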