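import Mathlib
import Cfsg.Agent.Helper7.SUGenC

set_option autoImplicit false

/-! Generation of `SU_n(q)` by unitary transvections, part D: `Tsub` is transitive on unit vectors
(`n ≥ 3`, `(n, q) ≠ (3, 2)`) (helper7). -/

namespace Cfsg.Agent.Helper7.SUGen

open Matrix Cfsg Cfsg.Agent.Helper7.Herm Cfsg.Agent.Helper8.GUOrder Cfsg.Agent.Helper8.SURoot
open Cfsg.Agent.Helper8.UnitaryLines

variable {F : Type*} [Field F] [Fintype F] {q N : ℕ} [hF : Fact (Fintype.card F = q ^ 2)]

local notation "H" => hermForm N F q

omit [Fintype F] hF in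
theorem herm_single_left (i : Fin N) (a : F) (v : Fin N → F) :
    H (Pi.single i a) v = a * v i ^ q := by
  unfold hermForm
  rw [Finset.sum_eq_single i]
  · rw [Pi.single_eq_same]
  · intro j _ hj
    rw [Pi.single_eq_of_ne hj, zero_mul]
  · intro h
    exact absurd (Finset.mem_univ i) h

omit [Fintype F] hF in
theorem herm_single_right (hq : 1 ≤ q) (i : Fin N) (a : F) (x : Fin N → F) :
    H x (Pi.single i a) = x i * a ^ q := by
  unfold hermForm
  rw [Finset.sum_eq_single i]
  · rw [Pi.single_eq_same]
  · intro j _ hj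
    rw [Pi.single_eq_of_ne hj, zero_pow (by omega), mul_zero]
  · intro h
    exact absurd (Finset.mem_univ i) h

theorem two_pow_q : (2 : F) ^ q = 2 := by
  have := add_pow_q hF.out (1 : F) 1
  rw [one_pow, one_add_one_eq_two] at this
  exact this

theorem norm_pow_q {x : F} (hx : x * x ^ q = 1) : x ^ q * (x ^ q) ^ q = 1 := by
  rw [pow_q_pow_q hF.out, mul_comm, hx]

/-- a fixed element different from `0` and `1` when `q ≥ 3`. -/
theorem exists_fixed_ne (hq3 : 3 ≤ q) : ∃ r : F, r ^ q = r ∧ r ≠ 0 ∧ r ≠ 1 := by
  classical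
  by_contra hcon
  push Not at hcon
  have hsub : ∀ c : {c : F // c ^ q = c}, c.1 = 0 ∨ c.1 = 1 := by
    intro c
    by_cases h0 : c.1 = 0
    · exact Or.inl h0
    · exact Or.inr (hcon c.1 c.2 h0)
  have hcard := card_fixed (K := F) hF.out
  have hle : Nat.card {c : F // c ^ q = c} ≤ 2 := by
    have : Function.Injective (fun c : {c : F // c ^ q = c} => (if c.1 = 0 then (0 : Fin 2) else 1)) := by
      intro c c' hcc
      simp only at hcc
      apply Subtype.ext
      rcases hsub c with h | h <;> rcases hsub c' with h' | h'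
      · rw [h, h']
      · rw [if_pos h, if_neg (by rw [h']; exact one_ne_zero)] at hcc
        exact absurd hcc (by decide)
      · rw [if_neg (by rw [h]; exact one_ne_zero), if_pos h'] at hcc
        exact absurd hcc (by decide)
      · rw [h, h']
    have := Nat.card_le_card_of_injective _ this
    simpa using this
  omega

/-- the standard-position case: every unit vector is conjugate to the last basis vector. -/
theorem Rel_e0 {m : ℕ} (hm : 2 ≤ m) (h32 : ¬ (m = 2 ∧ q = 2)) {v : Fin (m + 1) → F}
    (hv : hermForm (m + 1) F q v v = 1) : Rel q (e0 m) v := by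
  have hq1 := one_le_q hF.out
  have hq2 := two_le_q hF.out
  have he0 : hermForm (m + 1) F q (e0 m) (e0 m) = 1 := hermForm_e0 hF.out m
  have he0v : hermForm (m + 1) F q (e0 m) v = v (Fin.last m) ^ q := by
    unfold e0
    rw [herm_single_left, one_mul]
  by_cases hgood : v (Fin.last m) * v (Fin.last m) ^ q ≠ 1
  · apply Rel_of_norm_ne_one he0 hv
    rw [he0v, pow_q_pow_q hF.out, mul_comm]
    exact hgood
  push Not at hgood
  -- it suffices to find a unit vector `z` orthogonal to `e0` with `N(h(z,v)) ≠ 1`
  have key : ∀ z : Fin (m + 1) → F, hermForm (m + 1) F q z z = 1 → z (Fin.last m) = 0 →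
      hermForm (m + 1) F q z v * hermForm (m + 1) F q z v ^ q ≠ 1 → Rel q (e0 m) v := by
    intro z hz hz0 hzv
    have h1 : Rel q (e0 m) z := by
      apply Rel_of_norm_ne_one he0 hz
      have : hermForm (m + 1) F q (e0 m) z = 0 := by
        unfold e0
        rw [herm_single_left, hz0, zero_pow (by omega), mul_zero]
      rw [this, zero_mul]
      exact zero_ne_one
    exact h1.trans (Rel_of_norm_ne_one hz hv hzv)
  by_cases hcase1 : ∃ i : Fin (m + 1), i ≠ Fin.last m ∧ v i * v i ^ q ≠ 1
  · obtain ⟨i, hi, hvi⟩ := hcase1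
    apply key (Pi.single i 1)
    · rw [herm_single_left, Pi.single_eq_same, one_pow, mul_one]
    · rw [Pi.single_eq_of_ne hi.symm]
    · rw [herm_single_left, one_mul, pow_q_pow_q hF.out, mul_comm]
      exact hvi
  push Not at hcase1
  -- now all coordinates of `v` have norm one
  set i : Fin (m + 1) := ⟨0, by omega⟩ with hi
  set j : Fin (m + 1) := ⟨1, by omega⟩ with hj
  have hil : i ≠ Fin.last m := by
    intro h; have := congrArg Fin.val h; simp [hi] at this; omega
  have hjl : j ≠ Fin.last m := by
    intro h; have := congrArg Fin.val h; simp [hj] at this; omega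
  have hij : i ≠ j := by
    intro h; have := congrArg Fin.val h; simp [hi, hj] at this
  have hvi : v i * v i ^ q = 1 := hcase1 i hil
  have hvj : v j * v j ^ q = 1 := hcase1 j hjl
  by_cases h2 : (2 : F) = 0
  swap
  · -- odd characteristic
    have hc0 : (2 : F)⁻¹ ≠ 0 := inv_ne_zero h2
    have hcq : ((2 : F)⁻¹) ^ q = (2 : F)⁻¹ := by rw [inv_pow, two_pow_q]
    obtain ⟨a₀, ha₀⟩ := exists_norm hF.out hc0 hcq
    apply key (Pi.single i (a₀ * v j ^ q) + Pi.single j (-(a₀ * v i ^ q)))
    · simp only [hermForm_add_left, hermForm_add_right hF.out, herm_single_left, Pi.single_eq_same,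
        Pi.single_eq_of_ne hij, Pi.single_eq_of_ne hij.symm, zero_pow (show q ≠ 0 by omega),
        mul_zero, add_zero, zero_add, neg_pow_q hF.out, mul_pow, pow_q_pow_q hF.out]
      have e : a₀ * v j ^ q * (a₀ ^ q * v j) + -(a₀ * v i ^ q) * -(a₀ ^ q * v i) =
          (a₀ * a₀ ^ q) * (v j * v j ^ q) + (a₀ * a₀ ^ q) * (v i * v i ^ q) := by ring
      rw [e, ha₀, hvi, hvj]
      field_simp
      norm_num
    · rw [Pi.add_apply, Pi.single_eq_of_ne hil.symm, Pi.single_eq_of_ne hjl.symm, add_zero]
    · have : hermForm (m + 1) F q (Pi.single i (a₀ * v j ^ q) + Pi.single j (-(a₀ * v i ^ q))) v = 0 := by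
        rw [hermForm_add_left, herm_single_left, herm_single_left]
        ring
      rw [this, zero_mul]
      exact zero_ne_one
  -- characteristic two
  have hneg : ∀ x : F, -x = x := fun x => by linear_combination (-x) * h2
  by_cases hq : q = 2
  · -- `q = 2`: three coordinates
    have hm3 : 3 ≤ m := by
      by_contra h
      exact h32 ⟨by omega, hq⟩
    set k : Fin (m + 1) := ⟨2, by omega⟩ with hk
    have hkl : k ≠ Fin.last m := by
      intro h; have := congrArg Fin.val h; simp [hk] at this; omega
    have hik : i ≠ k := by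
      intro h; have := congrArg Fin.val h; simp [hi, hk] at this
    have hjk : j ≠ k := by
      intro h; have := congrArg Fin.val h; simp [hj, hk] at this
    have hvk : v k * v k ^ q = 1 := hcase1 k hkl
    obtain ⟨ζ, hζ, hζ1⟩ := exists_zeta hF.out
    have hζ3 : ζ ^ 2 + ζ + 1 = 0 := by
      have h3 : ζ ^ 3 = 1 := by
        rw [hq] at hζ
        rw [← hζ]; ring
      have : (ζ - 1) * (ζ ^ 2 + ζ + 1) = 0 := by linear_combination h3
      rcases mul_eq_zero.mp this with h | h
      · exact absurd (by linear_combination h) hζ1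
      · exact h
    apply key (Pi.single i (v i) + Pi.single j (ζ * v j) + Pi.single k (ζ ^ 2 * v k))
    · simp only [hermForm_add_left, hermForm_add_right hF.out, herm_single_left, Pi.single_eq_same,
        Pi.single_eq_of_ne hij, Pi.single_eq_of_ne hij.symm, Pi.single_eq_of_ne hik,
        Pi.single_eq_of_ne hik.symm, Pi.single_eq_of_ne hjk, Pi.single_eq_of_ne hjk.symm,
        zero_pow (show q ≠ 0 by omega), mul_zero, add_zero, zero_add, mul_pow]
      have e : v i * v i ^ q + ζ * v j * (ζ ^ q * v j ^ q) + ζ ^ 2 * v k * ((ζ ^ 2) ^ q * v k ^ q) =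
          (v i * v i ^ q) + (ζ * ζ ^ q) * (v j * v j ^ q) + (ζ * ζ ^ q) ^ 2 * (v k * v k ^ q) := by
        ring
      rw [e, hvi, hvj, hvk, hζ]
      linear_combination h2
    · rw [Pi.add_apply, Pi.add_apply, Pi.single_eq_of_ne hil.symm, Pi.single_eq_of_ne hjl.symm,
        Pi.single_eq_of_ne hkl.symm, add_zero, add_zero]
    · have : hermForm (m + 1) F q
          (Pi.single i (v i) + Pi.single j (ζ * v j) + Pi.single k (ζ ^ 2 * v k)) v = 0 := by
        rw [hermForm_add_left, hermForm_add_left, herm_single_left, herm_single_left,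
          herm_single_left]
        linear_combination hvi + ζ * hvj + ζ ^ 2 * hvk + hζ3
      rw [this, zero_mul]
      exact zero_ne_one
  · -- `q ≥ 4` even
    have hq3 : 3 ≤ q := by omega
    obtain ⟨r, hr, hr0, hr1⟩ := exists_fixed_ne (F := F) hq3
    obtain ⟨ζ, hζ, hζ1⟩ := exists_zeta hF.out
    have hζ0 : ζ ≠ 0 := by
      rintro rfl
      rw [zero_mul] at hζ
      exact zero_ne_one hζ
    have hζq : ζ ^ q = ζ⁻¹ := by
      field_simp
      linear_combination hζ
    have hr1' : 1 + r ≠ 0 := by
      intro h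
      apply hr1
      linear_combination h - h2
    have hsum : ζ + ζ ^ q ≠ 0 := by
      intro h
      rw [hζq] at h
      have h' : ζ * ζ + 1 = 0 := by
        have := congrArg (· * ζ) h
        simp only [add_mul, zero_mul, inv_mul_cancel₀ hζ0] at this
        exact this
      have : (ζ - 1) * (ζ - 1) = 0 := by linear_combination h' - ζ * h2
      rcases mul_eq_zero.mp this with h'' | h'' <;> exact hζ1 (by linear_combination h'')
    apply key (Pi.single i (r * v i) + Pi.single j ((1 + r) * ζ * v j))
    · simp only [hermForm_add_left, hermForm_add_right hF.out, herm_single_left, Pi.single_eq_same,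
        Pi.single_eq_of_ne hij, Pi.single_eq_of_ne hij.symm, zero_pow (show q ≠ 0 by omega),
        mul_zero, add_zero, zero_add, mul_pow, add_pow_q hF.out, one_pow, hr]
      have e : r * v i * (r * v i ^ q) + (1 + r) * ζ * v j * ((1 + r) * ζ ^ q * v j ^ q) =
          r * r * (v i * v i ^ q) + (1 + r) * (1 + r) * (ζ * ζ ^ q) * (v j * v j ^ q) := by ring
      rw [e, hvi, hvj, hζ]
      linear_combination (r + r * r) * h2
    · rw [Pi.add_apply, Pi.single_eq_of_ne hil.symm, Pi.single_eq_of_ne hjl.symm, add_zero]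
    · have e : hermForm (m + 1) F q (Pi.single i (r * v i) + Pi.single j ((1 + r) * ζ * v j)) v =
          r + (1 + r) * ζ := by
        rw [hermForm_add_left, herm_single_left, herm_single_left]
        linear_combination r * hvi + (1 + r) * ζ * hvj
      rw [e, add_pow_q hF.out, mul_pow, add_pow_q hF.out, one_pow, hr]
      intro hcon
      have : r * (1 + r) * (ζ + ζ ^ q) = 0 := by
        linear_combination hcon - (1 + r) * (1 + r) * hζ - (r * r + r) * h2
      rcases mul_eq_zero.mp this with h | h
      · rcases mul_eq_zero.mp h with h | h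
        · exact hr0 h
        · exact hr1' h
      · exact hsum h

/-- **`Tsub` is transitive on unit vectors** for `n ≥ 3`, `(n, q) ≠ (3, 2)`. -/
theorem Rel_unit {m : ℕ} (hm : 2 ≤ m) (h32 : ¬ (m = 2 ∧ q = 2)) {u v : Fin (m + 1) → F}
    (hu : hermForm (m + 1) F q u u = 1) (hv : hermForm (m + 1) F q v v = 1) : Rel q u v := by
  have h1 : Rel q (e0 m) u := Rel_e0 hm h32 hu
  have h2 : Rel q (e0 m) v := Rel_e0 hm h32 hv
  exact h1.symm.trans h2

end Cfsg.Agent.Helper7.SUGen
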