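import Mathlib
import Cfsg.Agent.Helper7.SUGenD
import Cfsg.Agent.Helper8.SU3IConj

set_option autoImplicit false

/-! Generation of `SU_n(q)` by unitary transvections, part E: the embedding `SU_m → SU_{m+1}`
as the stabiliser of the last basis vector, and the induction step (helper7). -/

namespace Cfsg.Agent.Helper7.SUGen

open Matrix Cfsg Cfsg.Agent.Helper7.Herm Cfsg.Agent.Helper8.GUOrder Cfsg.Agent.Helper8.SURoot
open Cfsg.Agent.Helper8.SUCenter Cfsg.Agent.Helper8.SU3I

variable {F : Type*} [Field F] [Fintype F] {q : ℕ} [hF : Fact (Fintype.card F = q ^ 2)]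

/-- the embedding `SU_m → SU_{m+1}`, `A ↦ diag(A, 1)`. -/
def embSU (m : ℕ) : SU m F q →* SU (m + 1) F q where
  toFun g := mkSU hF.out (emb (mt g)) (emb_unitary hF.out (mat_unitary hF.out g))
    (by rw [det_emb]; exact mat_det g)
  map_one' := by
    apply Subtype.ext
    apply Subtype.ext
    show emb (mt (1 : SU m F q)) = 1
    rw [mt_one, emb_one]
  map_mul' a b := by
    apply Subtype.ext
    apply Subtype.ext
    show emb (mt (a * b)) = emb (mt a) * emb (mt b)
    rw [mt_mul, emb_mul]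

theorem mt_embSU {m : ℕ} (g : SU m F q) : mt (embSU m g) = emb (mt g) := rfl

omit [Fintype F] hF in
theorem fsf_symm_castSucc {m : ℕ} (i : Fin m) :
    (finSumFinEquiv : Fin m ⊕ Fin 1 ≃ Fin (m + 1)).symm (Fin.castSucc i) = Sum.inl i := by
  rw [Equiv.symm_apply_eq, finSumFinEquiv_apply_left]
  rfl

omit [Fintype F] hF in
theorem fsf_symm_last (m : ℕ) :
    (finSumFinEquiv : Fin m ⊕ Fin 1 ≃ Fin (m + 1)).symm (Fin.last m) = Sum.inr 0 := by
  rw [Equiv.symm_apply_eq, fsf_inr]

omit [Fintype F] hF in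
theorem emb_apply_cc {m : ℕ} (A : Matrix (Fin m) (Fin m) F) (i j : Fin m) :
    emb A (Fin.castSucc i) (Fin.castSucc j) = A i j := by
  unfold emb
  rw [Matrix.submatrix_apply, fsf_symm_castSucc, fsf_symm_castSucc, Matrix.fromBlocks_apply₁₁]

omit [Fintype F] hF in
theorem emb_apply_cl {m : ℕ} (A : Matrix (Fin m) (Fin m) F) (i : Fin m) :
    emb A (Fin.castSucc i) (Fin.last m) = 0 := by
  unfold emb
  rw [Matrix.submatrix_apply, fsf_symm_castSucc, fsf_symm_last, Matrix.fromBlocks_apply₁₂]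
  rfl

omit [Fintype F] hF in
theorem emb_apply_lc {m : ℕ} (A : Matrix (Fin m) (Fin m) F) (j : Fin m) :
    emb A (Fin.last m) (Fin.castSucc j) = 0 := by
  unfold emb
  rw [Matrix.submatrix_apply, fsf_symm_castSucc, fsf_symm_last, Matrix.fromBlocks_apply₂₁]
  rfl

omit [Fintype F] hF in
theorem emb_apply_ll {m : ℕ} (A : Matrix (Fin m) (Fin m) F) :
    emb A (Fin.last m) (Fin.last m) = 1 := by
  unfold emb
  rw [Matrix.submatrix_apply, fsf_symm_last, Matrix.fromBlocks_apply₂₂]
  rfl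

omit [Fintype F] hF in
theorem herm_snoc {m : ℕ} (p p' : Fin m → F) (hq : 1 ≤ q) :
    hermForm (m + 1) F q (Fin.snoc p 0 : Fin (m + 1) → F) (Fin.snoc p' 0 : Fin (m + 1) → F) =
      hermForm m F q p p' := by
  unfold hermForm
  rw [Fin.sum_univ_castSucc]
  simp only [Fin.snoc_castSucc, Fin.snoc_last, zero_mul, add_zero]

omit [Fintype F] hF in
/-- the embedding of a transvection matrix is a transvection matrix. -/
theorem emb_unitaryTransvection {m : ℕ} (hq : 1 ≤ q) (p : Fin m → F) (s : F) :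
    emb (unitaryTransvection m q p s) =
      unitaryTransvection (m + 1) q (Fin.snoc p 0 : Fin (m + 1) → F) s := by
  ext i j
  refine Fin.lastCases ?_ (fun i => ?_) i <;> refine Fin.lastCases ?_ (fun j => ?_) j
  · rw [emb_apply_ll]
    simp [unitaryTransvection, vecMulVec_apply]
  · rw [emb_apply_lc]
    have : Fin.last m ≠ Fin.castSucc j := (Fin.castSucc_lt_last j).ne'
    simp [unitaryTransvection, vecMulVec_apply, Matrix.one_apply_ne this]
  · rw [emb_apply_cl]
    have : Fin.castSucc i ≠ Fin.last m := (Fin.castSucc_lt_last i).ne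
    simp [unitaryTransvection, vecMulVec_apply, Matrix.one_apply_ne this,
      zero_pow (show q ≠ 0 by omega)]
  · rw [emb_apply_cc]
    simp only [unitaryTransvection, Matrix.add_apply, Matrix.smul_apply, vecMulVec_apply,
      Fin.snoc_castSucc, Matrix.one_apply, Fin.castSucc_inj]

theorem mt_TU {N : ℕ} {p : Fin N → F} (hp : hermForm N F q p p = 0) {s : F}
    (hs : s ^ q + s = 0) : mt (TU q p s) = unitaryTransvection N q p s := by
  unfold TU
  rw [dif_pos ⟨hp, hs⟩]

theorem embSU_TU {m : ℕ} {p : Fin m → F} (hp : hermForm m F q p p = 0) {s : F}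
    (hs : s ^ q + s = 0) :
    embSU m (TU q p s) = TU q (Fin.snoc p 0 : Fin (m + 1) → F) s := by
  have hq := one_le_q hF.out
  have hp' : hermForm (m + 1) F q (Fin.snoc p 0 : Fin (m + 1) → F) (Fin.snoc p 0) = 0 := by
    rw [herm_snoc p p hq, hp]
  apply Subtype.ext
  apply Subtype.ext
  show mt (embSU m (TU q p s)) = mt (TU q (Fin.snoc p 0 : Fin (m + 1) → F) s)
  rw [mt_embSU, mt_TU hp hs, mt_TU hp' hs, emb_unitaryTransvection hq]

theorem map_embSU_Tsub_le (m : ℕ) : (Tsub m F q).map (embSU m) ≤ Tsub (m + 1) F q := by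
  rw [Subgroup.map_le_iff_le_comap]
  unfold Tsub
  rw [Subgroup.closure_le]
  rintro g ⟨p, s, hp, hs, rfl⟩
  show embSU m (TU q p s) ∈ Subgroup.closure _
  rw [embSU_TU hp hs]
  have hq := one_le_q hF.out
  exact Subgroup.subset_closure ⟨_, s, by rw [herm_snoc p p hq, hp], hs, rfl⟩

/-- an element of `SU_{m+1}` fixing the last basis vector comes from `SU_m`. -/
theorem exists_embSU_eq {m : ℕ} (g : SU (m + 1) F q) (hg : mt g *ᵥ e0 m = e0 m) :
    ∃ g' : SU m F q, embSU m g' = g := by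
  obtain ⟨A, hA, hgA⟩ := (stab_iff hF.out (mt g) (mat_unitary hF.out g)).mp hg
  have hdet : A.det = 1 := by
    rw [← det_emb, ← hgA]
    exact mat_det g
  refine ⟨mkSU hF.out A hA hdet, ?_⟩
  apply Subtype.ext
  apply Subtype.ext
  show emb (mt (mkSU hF.out A hA hdet)) = mt g
  rw [hgA]
  rfl

/-- **induction step**. -/
theorem Tsub_succ_eq_top {m : ℕ} (hm : 2 ≤ m) (h32 : ¬ (m = 2 ∧ q = 2))
    (ih : Tsub m F q = ⊤) : Tsub (m + 1) F q = ⊤ := by
  rw [eq_top_iff]
  intro g _
  have hv : hermForm (m + 1) F q (mt g *ᵥ e0 m) (mt g *ᵥ e0 m) = 1 := by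
    rw [herm_mt, hermForm_e0 hF.out]
  obtain ⟨t, ht, hte⟩ := Rel_unit hm h32 hv (hermForm_e0 hF.out m)
  have hfix : mt (t * g) *ᵥ e0 m = e0 m := by rw [mt_mul_mulVec, hte]
  obtain ⟨g', hg'⟩ := exists_embSU_eq (t * g) hfix
  have hmem : t * g ∈ Tsub (m + 1) F q := by
    apply map_embSU_Tsub_le m
    rw [← hg']
    exact Subgroup.mem_map_of_mem _ (by rw [ih]; trivial)
  have : g = t⁻¹ * (t * g) := by group
  rw [this]
  exact mul_mem (inv_mem ht) hmem

end Cfsg.Agent.Helper7.SUGen
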