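import Mathlib
import Cfsg.Agent.Helper7.SUGenE

set_option autoImplicit false

/-! Generation of `SU_n(q)` by unitary transvections, part F: the base case `n = 2` and planes
spanned by two basis vectors (helper7). -/

namespace Cfsg.Agent.Helper7.SUGen

open Matrix Cfsg Cfsg.Agent.Helper7.Herm Cfsg.Agent.Helper8.GUOrder Cfsg.Agent.Helper8.SURoot
open Cfsg.Agent.Helper8.SUCenter Cfsg.Agent.Helper8.SU3I

variable {F : Type*} [Field F] [Fintype F] {q N : ℕ} [hF : Fact (Fintype.card F = q ^ 2)]

/-- an element of `SU` fixing every vector whose `i`-th and `j`-th coordinates vanish is a product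
of transvections. -/
theorem mem_Tsub_of_coords {i j : Fin N} (hij : i ≠ j) (g : SU N F q)
    (hfix : ∀ x : Fin N → F, x i = 0 → x j = 0 → mt g *ᵥ x = x) : g ∈ Tsub N F q := by
  have hq := one_le_q hF.out
  have hv : hermForm N F q (Pi.single i 1) (Pi.single i (1 : F)) = 1 := by
    rw [herm_single_left, Pi.single_eq_same, one_pow, mul_one]
  have hv' : hermForm N F q (Pi.single j 1) (Pi.single j (1 : F)) = 1 := by
    rw [herm_single_left, Pi.single_eq_same, one_pow, mul_one]
  have hvv' : hermForm N F q (Pi.single i 1) (Pi.single j (1 : F)) = 0 := by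
    rw [herm_single_left, Pi.single_eq_of_ne hij, zero_pow (by omega), mul_zero]
  obtain ⟨p, p', hp, hp', h1, hperp⟩ :=
    exists_hyperbolic_pair (q := q) hv hv' hvv' one_ne_zero (one_pow q)
  apply mem_Tsub_of_plane hp hp' h1
  intro x hx hx'
  obtain ⟨h1, h2⟩ := hperp x hx hx'
  rw [herm_single_right hq, one_pow, mul_one] at h1 h2
  exact hfix x h1 h2

/-- **base case**: `SU_2(q)` is generated by unitary transvections. -/
theorem Tsub_two_eq_top : Tsub 2 F q = ⊤ := by
  rw [eq_top_iff]
  intro g _
  apply mem_Tsub_of_coords (i := 0) (j := 1) (by decide)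
  intro x h0 h1
  have : x = 0 := by
    ext k
    fin_cases k
    · exact h0
    · exact h1
  rw [this, mulVec_zero]

end Cfsg.Agent.Helper7.SUGen
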