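import Mathlib
import Cfsg.Agent.Helper7.SUGenF

set_option autoImplicit false

/-! Generation of `SU_n(q)` by unitary transvections, part G: the special case `SU_4(2)`
(helper7). -/

namespace Cfsg.Agent.Helper7.SUGen

open Matrix Cfsg Cfsg.Agent.Helper7.Herm Cfsg.Agent.Helper8.GUOrder Cfsg.Agent.Helper8.SURoot
open Cfsg.Agent.Helper8.SUCenter Cfsg.Agent.Helper8.SU3I

variable {F : Type*} [Field F] [Fintype F] [hF : Fact (Fintype.card F = 2 ^ 2)]

theorem two_eq_zero_of_card : (2 : F) = 0 := by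
  have h4 : (4 : F) = 0 := by
    have := Nat.cast_card_eq_zero F
    rw [hF.out] at this
    norm_num at this
    exact this
  have : (2 : F) * 2 = 0 := by rw [← h4]; norm_num
  exact mul_self_eq_zero.mp this

theorem cube_eq_one {x : F} (hx : x ≠ 0) : x ^ 3 = 1 := by
  have := FiniteField.pow_card_sub_one_eq_one x hx
  rw [hF.out] at this
  exact this

theorem norm_eq_one_of_ne {x : F} (hx : x ≠ 0) : x * x ^ 2 = 1 := by
  rw [← cube_eq_one hx]; ring

theorem exists_omega : ∃ ω : F, ω ^ 2 + ω + 1 = 0 := by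
  obtain ⟨ζ, hζ, hζ1⟩ := exists_zeta (K := F) (q := 2) hF.out
  refine ⟨ζ, ?_⟩
  have h3 : ζ ^ 3 = 1 := by rw [← hζ]; ring
  have : (ζ - 1) * (ζ ^ 2 + ζ + 1) = 0 := by linear_combination h3
  rcases mul_eq_zero.mp this with h | h
  · exact absurd (by linear_combination h) hζ1
  · exact h

theorem one_skew : (1 : F) ^ 2 + 1 = 0 := by
  have := two_eq_zero_of_card (F := F)
  linear_combination this

/-- one step of the explicit computation. -/
theorem TU_step {v x x' : Fin 4 → F} (hv : hermForm 4 F 2 v v = 0)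
    (hx : x + (1 * hermForm 4 F 2 x v) • v = x') : mt (TU 2 v (1 : F)) *ᵥ x = x' := by
  rw [TU_mulVec hv one_skew, hx]

/-- the explicit element of `Tsub` fixing `e₃` and moving `e₂` to `(ω, ω, 1, 0)`. -/
theorem exists_special {ω : F} (hω : ω ^ 2 + ω + 1 = 0) :
    Rel2 2 (![0, 0, 0, 1] : Fin 4 → F) ![0, 0, 1, 0] ![0, 0, 0, 1] ![ω, ω, 1, 0] := by
  have h2 := two_eq_zero_of_card (F := F)
  have hv₁ : hermForm 4 F 2 (![0, 0, 1, 1] : Fin 4 → F) ![0, 0, 1, 1] = 0 := by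
    simp [hermForm, Fin.sum_univ_four]; grind
  have hv₂ : hermForm 4 F 2 (![0, 0, 1, ω] : Fin 4 → F) ![0, 0, 1, ω] = 0 := by
    simp [hermForm, Fin.sum_univ_four]; grind
  have hv₃ : hermForm 4 F 2 (![1, 1, 1, 1] : Fin 4 → F) ![1, 1, 1, 1] = 0 := by
    simp [hermForm, Fin.sum_univ_four]; grind
  have hv₄ : hermForm 4 F 2 (![1, 1, 1, 1 + ω] : Fin 4 → F) ![1, 1, 1, 1 + ω] = 0 := by
    simp [hermForm, Fin.sum_univ_four]; grind
  refine ⟨TU 2 ![1, 1, 1, 1 + ω] 1 * (TU 2 ![1, 1, 1, 1] 1 * (TU 2 ![0, 0, 1, ω] 1 *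
    TU 2 ![0, 0, 1, 1] 1)), ?_, ?_, ?_⟩
  · exact mul_mem (TU_mem_Tsub hv₄ one_skew) (mul_mem (TU_mem_Tsub hv₃ one_skew)
      (mul_mem (TU_mem_Tsub hv₂ one_skew) (TU_mem_Tsub hv₁ one_skew)))
  · rw [mt_mul_mulVec, mt_mul_mulVec, mt_mul_mulVec,
      TU_step hv₁ (x' := ![0, 0, 1, 0]) (by
        ext i; fin_cases i <;> simp [hermForm, Fin.sum_univ_four] <;> grind),
      TU_step hv₂ (x' := ![0, 0, 0, ω]) (by
        ext i; fin_cases i <;> simp [hermForm, Fin.sum_univ_four] <;> grind),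
      TU_step hv₃ (x' := ![ω, ω, ω, 0]) (by
        ext i; fin_cases i <;> simp [hermForm, Fin.sum_univ_four] <;> grind),
      TU_step hv₄ (x' := ![0, 0, 0, 1]) (by
        ext i; fin_cases i <;> simp [hermForm, Fin.sum_univ_four] <;> grind)]
  · rw [mt_mul_mulVec, mt_mul_mulVec, mt_mul_mulVec,
      TU_step hv₁ (x' := ![0, 0, 0, 1]) (by
        ext i; fin_cases i <;> simp [hermForm, Fin.sum_univ_four] <;> grind),
      TU_step hv₂ (x' := ![0, 0, 1 + ω, 0]) (by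
        ext i; fin_cases i <;> simp [hermForm, Fin.sum_univ_four] <;> grind),
      TU_step hv₃ (x' := ![1 + ω, 1 + ω, 0, 1 + ω]) (by
        ext i; fin_cases i <;> simp [hermForm, Fin.sum_univ_four] <;> grind),
      TU_step hv₄ (x' := ![ω, ω, 1, 0]) (by
        ext i; fin_cases i <;> simp [hermForm, Fin.sum_univ_four] <;> grind)]

end Cfsg.Agent.Helper7.SUGen

namespace Cfsg.Agent.Helper7.SUGen

open Matrix Cfsg Cfsg.Agent.Helper7.Herm Cfsg.Agent.Helper8.GUOrder Cfsg.Agent.Helper8.SURoot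
open Cfsg.Agent.Helper8.SUCenter Cfsg.Agent.Helper8.SU3I

variable {F : Type*} [Field F] [Fintype F] [hF : Fact (Fintype.card F = 2 ^ 2)]

/-- conjugating the special element by a diagonal isometry. -/
theorem rel2_generic {y₀ y₁ y₂ : F} (h0 : y₀ ≠ 0) (h1 : y₁ ≠ 0) (h2 : y₂ ≠ 0) :
    Rel2 2 (![0, 0, 0, 1] : Fin 4 → F) ![0, 0, y₂, 0] ![0, 0, 0, 1] ![y₀, y₁, y₂, 0] := by
  obtain ⟨ω, hω⟩ := exists_omega (F := F)
  have hω0 : ω ≠ 0 := by
    rintro rfl
    simp at hω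
  have hω3 : ω ^ 3 = 1 := cube_eq_one hω0
  set d : Fin 4 → F := ![y₀ * ω ^ 2, y₁ * ω ^ 2, y₂, 1] with hd
  have hdn : ∀ i, d i * d i ^ 2 = 1 := by
    intro i
    apply norm_eq_one_of_ne
    fin_cases i
    · exact mul_ne_zero h0 (pow_ne_zero _ hω0)
    · exact mul_ne_zero h1 (pow_ne_zero _ hω0)
    · exact h2
    · exact one_ne_zero
  have hU := diagonal_unitary (q := 2) hF.out d hdn
  have hform : ∀ x y, hermForm 4 F 2 (Matrix.diagonal d *ᵥ x) (Matrix.diagonal d *ᵥ y) =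
      hermForm 4 F 2 x y := hermForm_unitary hF.out _ hU
  have key := (exists_special hω).map hform
  have e1 : Matrix.diagonal d *ᵥ (![0, 0, 0, 1] : Fin 4 → F) = ![0, 0, 0, 1] := by
    ext i
    rw [Matrix.mulVec_diagonal]
    fin_cases i <;> simp [hd]
  have e2 : Matrix.diagonal d *ᵥ (![0, 0, 1, 0] : Fin 4 → F) = ![0, 0, y₂, 0] := by
    ext i
    rw [Matrix.mulVec_diagonal]
    fin_cases i <;> simp [hd]
  have e3 : Matrix.diagonal d *ᵥ (![ω, ω, 1, 0] : Fin 4 → F) = ![y₀, y₁, y₂, 0] := by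
    ext i
    rw [Matrix.mulVec_diagonal]
    fin_cases i <;> simp [hd]
    · linear_combination y₀ * hω3
    · linear_combination y₁ * hω3
  rw [e1, e2, e3] at key
  exact key

end Cfsg.Agent.Helper7.SUGen

namespace Cfsg.Agent.Helper7.SUGen

open Matrix Cfsg Cfsg.Agent.Helper7.Herm Cfsg.Agent.Helper8.GUOrder Cfsg.Agent.Helper8.SURoot
open Cfsg.Agent.Helper8.SUCenter Cfsg.Agent.Helper8.SU3I

variable {F : Type*} [Field F] [Fintype F] [hF : Fact (Fintype.card F = 2 ^ 2)]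

/-- rescaling the third coordinate by a diagonal element of `Tsub`. -/
theorem rel2_scale {ε : F} (hε : ε ≠ 0) :
    Rel2 2 (![0, 0, 0, 1] : Fin 4 → F) ![0, 0, ε, 0] ![0, 0, 0, 1] ![0, 0, 1, 0] := by
  have hn : ε * ε ^ 2 = 1 := norm_eq_one_of_ne hε
  have h02 : (0 : Fin 4) ≠ 2 := by decide
  have hmt : ∀ x : Fin 4 → F, mt (DS (q := 2) hF.out h02 hn) *ᵥ x =
      fun k => dd (0 : Fin 4) 2 ε k * x k := by
    intro x
    ext k
    show (Matrix.diagonal (dd (0 : Fin 4) 2 ε) *ᵥ x) k = _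
    rw [Matrix.mulVec_diagonal]
  refine ⟨DS (q := 2) hF.out h02 hn, ?_, ?_, ?_⟩
  · apply mem_Tsub_of_coords h02
    intro x hx0 hx2
    rw [hmt]
    ext k
    fin_cases k
    · simp [dd, hx0]
    · simp [dd]
    · simp [dd, hx2]
    · simp [dd]
  · rw [hmt]
    ext k
    fin_cases k <;> simp [dd]
  · rw [hmt]
    ext k
    fin_cases k <;> simp [dd, hε]

/-- swapping the first and third coordinates by a transvection. -/
theorem rel2_swap0 {ε : F} (hε : ε ≠ 0) :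
    Rel2 2 (![0, 0, 0, 1] : Fin 4 → F) ![ε, 0, 0, 0] ![0, 0, 0, 1] ![0, 0, 1, 0] := by
  have hn : ε * ε ^ 2 = 1 := norm_eq_one_of_ne hε
  have h2 := two_eq_zero_of_card (F := F)
  have hv : hermForm 4 F 2 (![ε, 0, 1, 0] : Fin 4 → F) ![ε, 0, 1, 0] = 0 := by
    simp [hermForm, Fin.sum_univ_four]; grind
  refine ⟨TU 2 ![ε, 0, 1, 0] 1, TU_mem_Tsub hv one_skew, ?_, ?_⟩
  · exact TU_step hv (by
      ext i; fin_cases i <;> simp [hermForm, Fin.sum_univ_four])
  · exact TU_step hv (by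
      ext i; fin_cases i <;> simp [hermForm, Fin.sum_univ_four] <;> grind)

/-- swapping the second and third coordinates by a transvection. -/
theorem rel2_swap1 {ε : F} (hε : ε ≠ 0) :
    Rel2 2 (![0, 0, 0, 1] : Fin 4 → F) ![0, ε, 0, 0] ![0, 0, 0, 1] ![0, 0, 1, 0] := by
  have hn : ε * ε ^ 2 = 1 := norm_eq_one_of_ne hε
  have h2 := two_eq_zero_of_card (F := F)
  have hv : hermForm 4 F 2 (![0, ε, 1, 0] : Fin 4 → F) ![0, ε, 1, 0] = 0 := by
    simp [hermForm, Fin.sum_univ_four]; grind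
  refine ⟨TU 2 ![0, ε, 1, 0] 1, TU_mem_Tsub hv one_skew, ?_, ?_⟩
  · exact TU_step hv (by
      ext i; fin_cases i <;> simp [hermForm, Fin.sum_univ_four])
  · exact TU_step hv (by
      ext i; fin_cases i <;> simp [hermForm, Fin.sum_univ_four] <;> grind)

/-- every unit vector orthogonal to `e₃` is moved to `e₂` by an element of `Tsub` fixing `e₃`. -/
theorem rel2_unit {y : Fin 4 → F} (hy : hermForm 4 F 2 y y = 1) (hy3 : y 3 = 0) :
    Rel2 2 (![0, 0, 0, 1] : Fin 4 → F) y ![0, 0, 0, 1] ![0, 0, 1, 0] := by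
  have h2 := two_eq_zero_of_card (F := F)
  have ey : y = ![y 0, y 1, y 2, 0] := by
    ext i; fin_cases i <;> simp [hy3]
  have hnorm : y 0 * y 0 ^ 2 + y 1 * y 1 ^ 2 + y 2 * y 2 ^ 2 = 1 := by
    rw [ey] at hy
    simpa [hermForm, Fin.sum_univ_four] using hy
  by_cases h0 : y 0 = 0 <;> by_cases h1 : y 1 = 0 <;> by_cases h2' : y 2 = 0
  · rw [h0, h1, h2'] at hnorm
    simp at hnorm
  · rw [ey, h0, h1]
    exact rel2_scale h2'
  · rw [ey, h0, h2']
    exact rel2_swap1 h1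
  · rw [h0, norm_eq_one_of_ne h1, norm_eq_one_of_ne h2'] at hnorm
    exfalso
    have : (1 : F) = 0 := by linear_combination (-1 : F) * hnorm + h2
    exact one_ne_zero this
  · rw [ey, h1, h2']
    exact rel2_swap0 h0
  · rw [h1, norm_eq_one_of_ne h0, norm_eq_one_of_ne h2'] at hnorm
    exfalso
    have : (1 : F) = 0 := by linear_combination (-1 : F) * hnorm + h2
    exact one_ne_zero this
  · rw [h2', norm_eq_one_of_ne h0, norm_eq_one_of_ne h1] at hnorm
    exfalso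
    have : (1 : F) = 0 := by linear_combination (-1 : F) * hnorm + h2
    exact one_ne_zero this
  · rw [ey]
    exact (rel2_generic h0 h1 h2').symm.trans (rel2_scale h2')

/-- **`SU_4(2)` is generated by unitary transvections.** -/
theorem Tsub_four_two_eq_top : Tsub 4 F 2 = ⊤ := by
  rw [eq_top_iff]
  intro g _
  have he3 : (e0 3 : Fin 4 → F) = ![0, 0, 0, 1] := by
    ext i; fin_cases i <;> simp [e0]
  have hv : hermForm 4 F 2 (mt g *ᵥ e0 3) (mt g *ᵥ e0 3) = 1 := by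
    rw [herm_mt]; exact hermForm_e0 hF.out 3
  obtain ⟨t, ht, hte⟩ := Rel_unit (m := 3) (by norm_num) (by omega) hv (hermForm_e0 hF.out 3)
  set g₁ := t * g with hg₁
  have hfix3 : mt g₁ *ᵥ (![0, 0, 0, 1] : Fin 4 → F) = ![0, 0, 0, 1] := by
    rw [← he3, hg₁, mt_mul_mulVec, hte]
  set y := mt g₁ *ᵥ (![0, 0, 1, 0] : Fin 4 → F) with hy
  have hyy : hermForm 4 F 2 y y = 1 := by
    rw [hy, herm_mt]
    simp [hermForm, Fin.sum_univ_four]
  have hy3 : y 3 = 0 := by
    have h1 : hermForm 4 F 2 y ![0, 0, 0, 1] = 0 := by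
      rw [hy]
      conv_lhs => rw [← hfix3]
      rw [herm_mt]
      simp [hermForm, Fin.sum_univ_four]
    simpa [hermForm, Fin.sum_univ_four] using h1
  obtain ⟨t', ht', h3, h2⟩ := rel2_unit hyy hy3
  have hmem : t' * g₁ ∈ Tsub 4 F 2 := by
    apply mem_Tsub_of_coords (i := 0) (j := 1) (by decide)
    intro x hx0 hx1
    have ex : x = x 2 • (![0, 0, 1, 0] : Fin 4 → F) + x 3 • ![0, 0, 0, 1] := by
      ext i; fin_cases i <;> simp [hx0, hx1]
    rw [mt_mul_mulVec]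
    conv_lhs => rw [ex]
    rw [mulVec_add, mulVec_smul, mulVec_smul, ← hy, hfix3, mulVec_add, mulVec_smul, mulVec_smul,
      h2, h3]
    exact ex.symm
  have e : g = t⁻¹ * (t'⁻¹ * (t' * g₁)) := by rw [hg₁]; group
  rw [e]
  exact mul_mem (inv_mem ht) (mul_mem (inv_mem ht') hmem)

end Cfsg.Agent.Helper7.SUGen
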