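import Mathlib
import Cfsg.Agent.Helper7.SUGenG

set_option autoImplicit false

/-! Generation of `SU_n(q)` by unitary transvections: the main theorem (helper7). -/

namespace Cfsg.Agent.Helper7.SUGen

open Matrix Cfsg Cfsg.Agent.Helper7.Herm Cfsg.Agent.Helper8.GUOrder Cfsg.Agent.Helper8.SURoot

variable {F : Type*} [Field F] [Fintype F] {q : ℕ} [hF : Fact (Fintype.card F = q ^ 2)]

/-- **`SU_n(q)` is generated by unitary transvections** for `n ≥ 2`, `(n, q) ≠ (3, 2)`. -/
theorem Tsub_eq_top (n : ℕ) (hn : 2 ≤ n) (h32 : ¬ (n = 3 ∧ q = 2)) : Tsub n F q = ⊤ := by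
  induction n, hn using Nat.le_induction with
  | base => exact Tsub_two_eq_top
  | succ m hm ih =>
    by_cases h : m = 3 ∧ q = 2
    · obtain ⟨rfl, rfl⟩ := h
      exact Tsub_four_two_eq_top
    · exact Tsub_succ_eq_top hm (fun h' => h32 ⟨by omega, h'.2⟩) (ih h)

end Cfsg.Agent.Helper7.SUGen
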