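import Mathlib

set_option autoImplicit false
set_option linter.unusedSectionVars false

/-!
Witt's lemma for Hermitian forms (conjugate-symmetric nondegenerate sesquilinear forms with respect
to a nontrivial involution of the field).
-/

namespace Cfsg.Agent.Helper7.WittHerm

open Module

variable {F : Type*} [Field F] {V : Type*} [AddCommGroup V] [Module F V]
variable (σ : F →+* F) (B : V →ₛₗ[σ] V →ₗ[F] F)

theorem B_add_left (x y z : V) : B (x + y) z = B x z + B y z := by
  rw [map_add, LinearMap.add_apply]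

theorem B_sub_left (x y z : V) : B (x - y) z = B x z - B y z := by
  rw [map_sub, LinearMap.sub_apply]

theorem B_smul_left (c : F) (x z : V) : B (c • x) z = σ c * B x z := by
  rw [LinearMap.map_smulₛₗ, LinearMap.smul_apply, smul_eq_mul]

theorem B_add_right (x y z : V) : B x (y + z) = B x y + B x z := map_add _ _ _

theorem B_sub_right (x y z : V) : B x (y - z) = B x y - B x z := map_sub _ _ _

theorem B_smul_right (c : F) (x z : V) : B x (c • z) = c * B x z := by
  rw [map_smul, smul_eq_mul]

theorem B_zero_left (z : V) : B 0 z = 0 := by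
  rw [map_zero, LinearMap.zero_apply]

/-- Surjectivity of the trace of a nontrivial involution. -/
theorem exists_trace (hσ : σ ≠ RingHom.id F) (hσ2 : ∀ a : F, σ (σ a) = a) (t : F) (ht : σ t = t) :
    ∃ c : F, c + σ c = t := by
  by_cases h2 : (2 : F) = 0
  · have : ∃ e : F, σ e ≠ e := by
      by_contra hcon
      push Not at hcon
      exact hσ (RingHom.ext hcon)
    obtain ⟨e, he⟩ := this
    have hd : e + σ e ≠ 0 := by
      intro h
      apply he
      have : σ e = -e := by linear_combination h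
      rw [this]
      have : e + e = 0 := by linear_combination e * h2
      linear_combination (-1 : F) * this
    have hσd : σ (e + σ e) = e + σ e := by rw [map_add, hσ2]; ring
    refine ⟨t * e / (e + σ e), ?_⟩
    rw [map_div₀, map_mul, ht, hσd]
    field_simp
  · refine ⟨t / 2, ?_⟩
    rw [map_div₀, ht, map_ofNat]
    field_simp
    ring

variable {σ B}

/-- A form-preserving linear endomorphism of a nondegenerate space is an equivalence. -/
theorem exists_equiv_of_isometry [FiniteDimensional F V] (hB : B.Nondegenerate)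
    (g : V →ₗ[F] V) (hg : ∀ x y, B (g x) (g y) = B x y) : ∃ g' : V ≃ₗ[F] V, ∀ x, g' x = g x := by
  have hinj : Function.Injective g := by
    rw [injective_iff_map_eq_zero]
    intro v hv
    apply hB.1
    intro w
    rw [← hg v w, hv, B_zero_left]
  exact ⟨LinearEquiv.ofInjectiveEndo g hinj, fun x => by rw [LinearEquiv.coe_ofInjectiveEndo]⟩

/-- The unitary reflection or transvection along `z`. -/
theorem exists_transvection [FiniteDimensional F V] (hS : B.IsSymm) (hB : B.Nondegenerate)
    (z : V) (a : F) (ha : a + σ a + a * σ a * B z z = 0) :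
    ∃ g : V ≃ₗ[F] V, (∀ x y, B (g x) (g y) = B x y) ∧ ∀ x, g x = x + (a * B z x) • z := by
  let g₀ : V →ₗ[F] V := LinearMap.id + a • (B z).smulRight z
  have hg₀ : ∀ x, g₀ x = x + (a * B z x) • z := by
    intro x
    show x + a • (B z x • z) = _
    rw [smul_smul]
  have hiso : ∀ x y, B (g₀ x) (g₀ y) = B x y := by
    intro x y
    rw [hg₀, hg₀]
    simp only [map_add, LinearMap.add_apply, LinearMap.map_smulₛₗ, LinearMap.smul_apply, map_smul,
      smul_eq_mul, map_mul, hS.eq]
    linear_combination (B x z * B z y) * ha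
  obtain ⟨g, hg⟩ := exists_equiv_of_isometry hB g₀ hiso
  exact ⟨g, fun x y => by rw [hg, hg, hiso], fun x => by rw [hg, hg₀]⟩

/-- The Eichler (Siegel) transformation. -/
theorem exists_eichler [FiniteDimensional F V] (hS : B.IsSymm) (hB : B.Nondegenerate)
    {z y : V} (hz : B z z = 0) (hyz : B y z = 0) (c : F) (hc : c + σ c + B y y = 0) :
    ∃ g : V ≃ₗ[F] V, (∀ x x', B (g x) (g x') = B x x') ∧
      ∀ x, g x = x + (B y x + c * B z x) • z - B z x • y := by
  let g₀ : V →ₗ[F] V := LinearMap.id + (B y).smulRight z + c • (B z).smulRight z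
    - (B z).smulRight y
  have hg₀ : ∀ x, g₀ x = x + (B y x + c * B z x) • z - B z x • y := by
    intro x
    show x + B y x • z + c • (B z x • z) - B z x • y = _
    rw [smul_smul, add_smul, add_assoc]
  have hzy : B z y = 0 := by rw [← hS.eq y z, hyz, map_zero]
  have hiso : ∀ x x', B (g₀ x) (g₀ x') = B x x' := by
    intro x x'
    rw [hg₀, hg₀]
    simp only [map_add, map_sub, LinearMap.add_apply, LinearMap.sub_apply, LinearMap.map_smulₛₗ,
      LinearMap.smul_apply, map_smul, smul_eq_mul, map_mul, hS.eq, hz, hyz, hzy]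
    linear_combination (B x z * B z x') * hc
  obtain ⟨g, hg⟩ := exists_equiv_of_isometry hB g₀ hiso
  exact ⟨g, fun x y => by rw [hg, hg, hiso], fun x => by rw [hg, hg₀]⟩

/-- The hyperbolic rotation. -/
theorem exists_hyp_rot [FiniteDimensional F V] (hσ2 : ∀ a : F, σ (σ a) = a) (hS : B.IsSymm)
    (hB : B.Nondegenerate)
    {z z' : V} (hz : B z z = 0) (hz' : B z' z' = 0) (hzz' : B z' z = 1) {l : F} (hl : l ≠ 0) :
    ∃ g : V ≃ₗ[F] V, (∀ x x', B (g x) (g x') = B x x') ∧
      ∀ x, g x = x + ((l - 1) * B z' x) • z + (((σ l)⁻¹ - 1) * B z x) • z' := by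
  let g₀ : V →ₗ[F] V := LinearMap.id + (l - 1) • (B z').smulRight z
    + ((σ l)⁻¹ - 1) • (B z).smulRight z'
  have hg₀ : ∀ x, g₀ x = x + ((l - 1) * B z' x) • z + (((σ l)⁻¹ - 1) * B z x) • z' := by
    intro x
    show x + (l - 1) • (B z' x • z) + ((σ l)⁻¹ - 1) • (B z x • z') = _
    rw [smul_smul, smul_smul]
  have hzz'2 : B z z' = 1 := by rw [← hS.eq z' z, hzz', map_one]
  have hσl : σ l ≠ 0 := by
    intro h
    apply hl
    rw [← hσ2 l, h, map_zero]
  have hiso : ∀ x x', B (g₀ x) (g₀ x') = B x x' := by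
    intro x x'
    rw [hg₀, hg₀]
    simp only [map_add, map_sub, LinearMap.add_apply, LinearMap.map_smulₛₗ,
      LinearMap.smul_apply, map_smul, smul_eq_mul, map_mul, map_one, map_inv₀, hσ2, hS.eq, hz, hz',
      hzz', hzz'2]
    field_simp
    ring
  obtain ⟨g, hg⟩ := exists_equiv_of_isometry hB g₀ hiso
  exact ⟨g, fun x y => by rw [hg, hg, hiso], fun x => by rw [hg, hg₀]⟩

/-- Every linear functional is represented by the form. -/
theorem exists_repr [FiniteDimensional F V] (hσ2 : ∀ a : F, σ (σ a) = a) (hB : B.Nondegenerate)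
    (f : Module.Dual F V) : ∃ y : V, ∀ x, B y x = f x := by
  classical
  let b := Module.finBasis F V
  have hkey : ∀ c : Fin (finrank F V) → F, B (∑ i, σ (c i) • b i) = ∑ i, c i • B (b i) := by
    intro c
    rw [map_sum]
    refine Finset.sum_congr rfl fun i _ => ?_
    rw [LinearMap.map_smulₛₗ, hσ2]
  have hli : LinearIndependent F (fun i => B (b i)) := by
    rw [Fintype.linearIndependent_iff]
    intro c hc i
    rw [← hkey c] at hc
    have h0 : ∑ i, σ (c i) • b i = 0 := by
      apply hB.1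
      intro y
      rw [hc, LinearMap.zero_apply]
    have := Fintype.linearIndependent_iff.mp b.linearIndependent _ h0 i
    rw [← hσ2 (c i), this, map_zero]
  have hspan : Submodule.span F (Set.range (fun i => B (b i))) = ⊤ := by
    apply hli.span_eq_top_of_card_eq_finrank'
    rw [Fintype.card_fin, Subspace.dual_finrank_eq]
  have hf : f ∈ Submodule.span F (Set.range (fun i => B (b i))) := by rw [hspan]; trivial
  obtain ⟨c, hc⟩ := (Submodule.mem_span_range_iff_exists_fun F).mp hf
  refine ⟨∑ i, σ (c i) • b i, fun x => ?_⟩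
  rw [hkey c, hc]

/-- A vector orthogonal to a subspace and pairing to `1` with a vector outside it. -/
theorem exists_dual_vec [FiniteDimensional F V] (hσ2 : ∀ a : F, σ (σ a) = a)
    (hB : B.Nondegenerate) (S : Submodule F V) {u : V} (hu : u ∉ S) :
    ∃ y, (∀ s ∈ S, B y s = 0) ∧ B y u = 1 := by
  obtain ⟨f, hfu, hf⟩ := Submodule.exists_dual_map_eq_bot_of_notMem hu inferInstance
  obtain ⟨y₀, hy₀⟩ := exists_repr hσ2 hB f
  refine ⟨σ ((f u)⁻¹) • y₀, fun s hs => ?_, ?_⟩
  · rw [B_smul_left, hσ2, hy₀]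
    have : f s ∈ S.map f := Submodule.mem_map_of_mem hs
    rw [hf, Submodule.mem_bot] at this
    rw [this, mul_zero]
  · rw [B_smul_left, hσ2, hy₀, inv_mul_cancel₀ hfu]

/-- **The key step of Witt's lemma.** -/
theorem witt_step [FiniteDimensional F V] (hσ : σ ≠ RingHom.id F) (hσ2 : ∀ a : F, σ (σ a) = a)
    (hS : B.IsSymm) (hB : B.Nondegenerate) (H : Submodule F V) {u w : V}
    (hN : B u u = B w w) (hBH : ∀ h ∈ H, B u h = B w h) (hu : u ∉ H) (hw : w ∉ H) :
    ∃ g : V ≃ₗ[F] V, (∀ x y, B (g x) (g y) = B x y) ∧ (∀ h ∈ H, g h = h) ∧ g u = w := by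
  obtain ⟨z, hz⟩ : ∃ z, z = w - u := ⟨_, rfl⟩
  have hwz : w = u + z := by rw [hz]; abel
  have hzH : ∀ h ∈ H, B z h = 0 := by
    intro h hh
    rw [hz, B_sub_left, hBH h hh, sub_self]
  have hrel : B u z + B z u + B z z = 0 := by
    have := hN
    rw [hwz, B_add_left, B_add_right, B_add_right] at this
    linear_combination (-1 : F) * this
  have hσinj : ∀ a, σ a = 0 → a = 0 := fun a h => by rw [← hσ2 a, h, map_zero]
  by_cases hzu : B z u = 0
  swap
  · have huz : B u z ≠ 0 := by
      rw [← hS.eq z u]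
      exact fun h => hzu (hσinj _ h)
    obtain ⟨g, hg1, hg2⟩ := exists_transvection hS hB z (B z u)⁻¹ (by
      rw [map_inv₀, hS.eq]
      field_simp
      linear_combination hrel)
    refine ⟨g, hg1, fun h hh => ?_, ?_⟩
    · rw [hg2, hzH h hh, mul_zero, zero_smul, add_zero]
    · rw [hg2, inv_mul_cancel₀ hzu, one_smul, hwz]
  have huz : B u z = 0 := by rw [← hS.eq z u, hzu, map_zero]
  have hzz : B z z = 0 := by
    rw [huz, hzu] at hrel
    linear_combination hrel
  by_cases hmem : u ∈ H ⊔ Submodule.span F {z}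
  · obtain ⟨h₀, hh₀, cz, hcz, hsum⟩ := Submodule.mem_sup.mp hmem
    obtain ⟨c, rfl⟩ := Submodule.mem_span_singleton.mp hcz
    have hc0 : c ≠ 0 := by
      rintro rfl
      rw [zero_smul, add_zero] at hsum
      rw [← hsum] at hu
      exact hu hh₀
    have hzH' : z ∉ H := by
      intro hzH'
      apply hu
      rw [← hsum]
      exact H.add_mem hh₀ (H.smul_mem c hzH')
    have hc1 : c + 1 ≠ 0 := by
      intro hc1
      apply hw
      have : w = h₀ := by
        have h1 : c • z + z = (c + 1) • z := by rw [add_smul, one_smul]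
        rw [hwz, ← hsum, add_assoc, h1, hc1, zero_smul, add_zero]
      rw [this]
      exact hh₀
    obtain ⟨y₀, hy₀H, hy₀z⟩ := exists_dual_vec hσ2 hB H hzH'
    obtain ⟨e, he⟩ := exists_trace σ hσ hσ2 (B y₀ y₀) (hS.eq y₀ y₀)
    obtain ⟨z', hz'def⟩ : ∃ z', z' = y₀ - e • z := ⟨_, rfl⟩
    have hzy₀ : B z y₀ = 1 := by rw [← hS.eq y₀ z, hy₀z, map_one]
    have hz'z' : B z' z' = 0 := by
      rw [hz'def]
      simp only [map_sub, LinearMap.sub_apply, LinearMap.map_smulₛₗ, LinearMap.smul_apply,
        map_smul, smul_eq_mul, hzz, hy₀z, hzy₀]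
      linear_combination (-1 : F) * he
    have hz'z : B z' z = 1 := by
      rw [hz'def, B_sub_left, B_smul_left, hzz, hy₀z, mul_zero, sub_zero]
    have hz'H : ∀ h ∈ H, B z' h = 0 := by
      intro h hh
      rw [hz'def, B_sub_left, B_smul_left, hzH h hh, hy₀H h hh, mul_zero, sub_zero]
    have hl : (c + 1) / c ≠ 0 := div_ne_zero hc1 hc0
    obtain ⟨g, hg1, hg2⟩ := exists_hyp_rot hσ2 hS hB hzz hz'z' hz'z hl
    refine ⟨g, hg1, fun h hh => ?_, ?_⟩
    · rw [hg2, hz'H h hh, hzH h hh, mul_zero, mul_zero, zero_smul, zero_smul, add_zero, add_zero]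
    · rw [hg2, hzu, mul_zero, zero_smul, add_zero, hwz]
      congr 1
      have : B z' u = c := by
        rw [← hsum, B_add_right, B_smul_right, hz'H h₀ hh₀, hz'z, zero_add, mul_one]
      rw [this]
      have : ((c + 1) / c - 1) * c = 1 := by field_simp; ring
      rw [this, one_smul]
  · obtain ⟨y, hyS, hyu⟩ := exists_dual_vec hσ2 hB _ hmem
    have hyz : B y z = 0 :=
      hyS z (Submodule.mem_sup_right (Submodule.mem_span_singleton_self z))
    obtain ⟨e, he⟩ := exists_trace σ hσ hσ2 (B y y) (hS.eq y y)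
    obtain ⟨g, hg1, hg2⟩ := exists_eichler hS hB hzz hyz (-e) (by
      rw [map_neg]
      linear_combination (-1 : F) * he)
    refine ⟨g, hg1, fun h hh => ?_, ?_⟩
    · rw [hg2, hyS h (Submodule.mem_sup_left hh), hzH h hh, mul_zero, add_zero, zero_smul, zero_smul,
        add_zero, sub_zero]
    · rw [hg2, hzu, hyu, mul_zero, add_zero, one_smul, zero_smul, sub_zero, hwz]

/-- **Witt's lemma**, for linearly independent families with the same Gram data. -/
theorem witt_family [FiniteDimensional F V] (hσ : σ ≠ RingHom.id F) (hσ2 : ∀ a : F, σ (σ a) = a)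
    (hS : B.IsSymm) (hB : B.Nondegenerate) (k : ℕ) :
    ∀ x y : Fin k → V, LinearIndependent F x → LinearIndependent F y →
      (∀ i j, B (x i) (x j) = B (y i) (y j)) →
      ∃ g : V ≃ₗ[F] V, (∀ v w, B (g v) (g w) = B v w) ∧ ∀ i, g (x i) = y i := by
  induction k with
  | zero =>
    intro x y _ _ _
    exact ⟨LinearEquiv.refl F V, fun v w => rfl, fun i => i.elim0⟩
  | succ k ih =>
    intro x y hx hy h2
    obtain ⟨hx', hxl⟩ := linearIndependent_finSucc'.mp hx
    obtain ⟨hy', hyl⟩ := linearIndependent_finSucc'.mp hy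
    obtain ⟨β, hβ1, hβ2⟩ := ih (Fin.init x) (Fin.init y) hx' hy' (fun i j => h2 _ _)
    have hβs : ∀ v w, B (β.symm v) (β.symm w) = B v w := by
      intro v w
      rw [← hβ1 (β.symm v) (β.symm w), LinearEquiv.apply_symm_apply, LinearEquiv.apply_symm_apply]
    obtain ⟨w, hwdef⟩ : ∃ w, w = β.symm (y (Fin.last k)) := ⟨_, rfl⟩
    have hβw : β w = y (Fin.last k) := by rw [hwdef, LinearEquiv.apply_symm_apply]
    have hw : w ∉ Submodule.span F (Set.range (Fin.init x)) := by
      intro hmem
      apply hyl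
      have h3 : β w ∈ (Submodule.span F (Set.range (Fin.init x))).map (β : V →ₗ[F] V) :=
        Submodule.mem_map_of_mem hmem
      rw [Submodule.map_span, ← Set.range_comp] at h3
      have h4 : (⇑(β : V →ₗ[F] V) ∘ Fin.init x) = Fin.init y := by
        funext i
        exact hβ2 i
      rw [h4, hβw] at h3
      exact h3
    have hN : B (x (Fin.last k)) (x (Fin.last k)) = B w w := by
      rw [hwdef, hβs, h2]
    have hBH : ∀ h ∈ Submodule.span F (Set.range (Fin.init x)),
        B (x (Fin.last k)) h = B w h := by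
      intro h hh
      have heq : Set.EqOn (B (x (Fin.last k))) (B w) (Set.range (Fin.init x)) := by
        rintro _ ⟨i, rfl⟩
        show B (x (Fin.last k)) (Fin.init x i) = B w (Fin.init x i)
        rw [← hβ1 w, hβw, hβ2 i]
        exact h2 _ _
      exact LinearMap.eqOn_span heq hh
    obtain ⟨g', hg1, hg2, hg3⟩ := witt_step hσ hσ2 hS hB _ hN hBH hxl hw
    refine ⟨g'.trans β, fun v w => ?_, fun i => ?_⟩
    · rw [LinearEquiv.trans_apply, LinearEquiv.trans_apply, hβ1, hg1]
    · rw [LinearEquiv.trans_apply]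
      refine Fin.lastCases ?_ (fun i => ?_) i
      · rw [hg3, hβw]
      · have : x (Fin.castSucc i) = Fin.init x i := rfl
        rw [this, hg2 _ (Submodule.subset_span ⟨i, rfl⟩), hβ2 i]
        rfl

/-- **Witt's lemma** for Hermitian forms. -/
theorem witt [FiniteDimensional F V] (hσ : σ ≠ RingHom.id F) (hσ2 : ∀ a : F, σ (σ a) = a)
    (hS : B.IsSymm) (hB : B.Nondegenerate) (X Y : Submodule F V) (φ : X ≃ₗ[F] Y)
    (hφ : ∀ x x' : X, B (φ x : V) (φ x' : V) = B (x : V) (x' : V)) :
    ∃ g : V ≃ₗ[F] V, (∀ u v : V, B (g u) (g v) = B u v) ∧ ∀ x : X, g (x : V) = (φ x : V) := by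
  let b := Module.finBasis F X
  have hx : LinearIndependent F (fun i => (b i : V)) :=
    b.linearIndependent.map' X.subtype (Submodule.ker_subtype X)
  have hy : LinearIndependent F (fun i => (φ (b i) : V)) := by
    have h1 : LinearIndependent F (fun i => φ (b i)) :=
      b.linearIndependent.map' (φ : X →ₗ[F] Y) φ.ker
    exact h1.map' Y.subtype (Submodule.ker_subtype Y)
  obtain ⟨g, hg1, hg2⟩ := witt_family hσ hσ2 hS hB _ (fun i => (b i : V))
    (fun i => (φ (b i) : V)) hx hy (fun i j => (hφ (b i) (b j)).symm)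
  refine ⟨g, hg1, fun x => ?_⟩
  have h3 : (g : V →ₗ[F] V).comp X.subtype = Y.subtype.comp (φ : X →ₗ[F] Y) := by
    apply b.ext
    intro i
    exact hg2 i
  exact congrArg (fun f : X →ₗ[F] V => f x) h3

end Cfsg.Agent.Helper7.WittHerm
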