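import Mathlib
import Cfsg.Agent.Helper7.SUGenH
import Cfsg.Agent.Helper8.AutSUza

set_option autoImplicit false

/-! Unitary transvections are commutators in `SU_n(q)`, `n ≥ 3` (helper7, using helper8's Siegel
elements). -/

namespace Cfsg.Agent.Helper7.SUGen

open Matrix Cfsg Cfsg.Agent.Helper7.Herm Cfsg.Agent.Helper8.GUOrder Cfsg.Agent.Helper8.SURoot
open Cfsg.Agent.Helper8.AutSU
open scoped commutatorElement

variable {F : Type*} [Field F] [Fintype F] {q k : ℕ} [hF : Fact (Fintype.card F = q ^ 2)]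

/-- the commutator of two Siegel elements. -/
theorem comm_sg (fr : Frame F q k) {w w' : Fin k → F} {a a' s : F}
    (ha : a + a ^ q + hermForm k F q w w = 0) (ha' : a' + a' ^ q + hermForm k F q w' w' = 0)
    (hs : s ^ q + s = 0) (hss : s = hermForm k F q w w' - hermForm k F q w' w) :
    ⁅(fr.sg ha : SU (k + 2) F q), (fr.sg ha' : SU (k + 2) F q)⁆ = TU q fr.e s := by
  have key : fr.sg ha * fr.sg ha' = TU q fr.e s * (fr.sg ha' * fr.sg ha) := by
    rw [← fr.sg_eq_TU hs, Frame.sg_mul, Frame.sg_mul, Frame.sg_mul]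
    apply Frame.sg_congr
    · rw [zero_add, add_comm]
    · rw [hermForm_zero_right, hss]
      ring
  rw [commutatorElement_def, key]
  group

/-- conjugating a transvection by an element of `GU`. -/
theorem suConj_TU {N : ℕ} (g : GU N F q) {p : Fin N → F} (hp : hermForm N F q p p = 0) {s : F}
    (hs : s ^ q + s = 0) : suConj g (TU q p s) = TU q (mg g *ᵥ p) s := by
  have hp' : hermForm N F q (mg g *ᵥ p) (mg g *ᵥ p) = 0 := by rw [herm_mg, hp]
  apply ext_mulVec
  intro x
  rw [suConj_mulVec, TU_mulVec hp hs, TU_mulVec hp' hs, mulVec_add, mulVec_smul, mg_inv_mulVec,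
    herm_mg_inv]

/-- **every unitary transvection of `SU_{k+2}(q)`, `k ≥ 1`, is a commutator.** -/
theorem TU_mem_commutatorSet (hk : 1 ≤ k) {v : Fin (k + 2) → F} (hv0 : v ≠ 0)
    (hv : hermForm (k + 2) F q v v = 0) {s : F} (hs : s ^ q + s = 0) :
    TU q v s ∈ commutatorSet (SU (k + 2) F q) := by
  obtain ⟨fr⟩ := exists_frame (F := F) (q := q) k
  obtain ⟨g, hg⟩ := fr.exists_GU_point hv0 hv
  obtain ⟨l, hl⟩ := exists_im (F := F) (q := q) hs
  set i : Fin k := ⟨0, by omega⟩ with hi
  set w' : Fin k → F := Pi.single i 1 with hw'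
  have hq := one_le_q hF.out
  have h1 : hermForm k F q (l • w') w' = l := by
    rw [hermForm_smul_left, hw', herm_single_left, Pi.single_eq_same, one_pow, mul_one, mul_one]
  have h2 : hermForm k F q w' (l • w') = l ^ q := by
    rw [hermForm_smul_right, hw', herm_single_left, Pi.single_eq_same, one_pow, mul_one, mul_one]
  obtain ⟨a, ha⟩ := exists_sg (F := F) (q := q) (l • w')
  obtain ⟨a', ha'⟩ := exists_sg (F := F) (q := q) w'
  have hc := comm_sg fr ha ha' hs (by rw [h1, h2, hl])
  refine ⟨suConj g (fr.sg ha), suConj g (fr.sg ha'), ?_⟩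
  rw [← map_commutatorElement, hc, suConj_TU g fr.he hs, hg]

end Cfsg.Agent.Helper7.SUGen

namespace Cfsg.Agent.Helper7.SUGen

open Matrix Cfsg Cfsg.Agent.Helper7.Herm Cfsg.Agent.Helper8.GUOrder Cfsg.Agent.Helper8.SURoot
open Cfsg.Agent.Helper8.AutSU
open scoped commutatorElement

variable {F : Type*} [Field F] [Fintype F] {q k : ℕ} [hF : Fact (Fintype.card F = q ^ 2)]

/-- an element of `SU` whose matrix is `x ↦ x + c h(x,v) v` with `v` isotropic is `1` or a genuine
unitary transvection. -/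
theorem eq_one_or_TU {N : ℕ} (A : SU N F q) (v : Fin N → F) (c : F)
    (hv : hermForm N F q v v = 0) (hA : mt A = unitaryTransvection N q v c) :
    A = 1 ∨ (v ≠ 0 ∧ c ^ q + c = 0 ∧ A = TU q v c) := by
  by_cases hv0 : v = 0
  · left
    apply ext_mulVec
    intro x
    rw [hA, unitaryTransvection_mulVec, hv0, smul_zero, add_zero, mt_one_mulVec]
  · right
    have hs : c ^ q + c = 0 := by
      obtain ⟨w, hw⟩ := exists_herm_eq_one (q := q) hv0
      have h1 := herm_mt A w w
      rw [hA, hermForm_T hF.out, hv, mul_zero, add_zero, hw, one_pow, mul_one, mul_one] at h1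
      exact add_eq_left.mp h1
    refine ⟨hv0, hs, ?_⟩
    apply ext_mulVec
    intro x
    rw [hA, TU_mulVec hv hs, unitaryTransvection_mulVec]

/-- the statement of S0781 for `n = k + 2`, `k ≥ 1`. -/
theorem mem_commutatorSet_of_transvection (hk : 1 ≤ k) (A : SU (k + 2) F q)
    (v : Fin (k + 2) → F) (c : F) (hv : hermForm (k + 2) F q v v = 0)
    (hA : mt A = unitaryTransvection (k + 2) q v c) : A ∈ commutatorSet (SU (k + 2) F q) := by
  rcases eq_one_or_TU A v c hv hA with h | ⟨hv0, hs, h⟩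
  · rw [h]
    exact one_mem_commutatorSet _
  · rw [h]
    exact TU_mem_commutatorSet hk hv0 hv hs

end Cfsg.Agent.Helper7.SUGen
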