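import Mathlib
import Cfsg.Agent.Helper8.AutSUl
import Cfsg.Agent.Helper8.AutSUzn

set_option autoImplicit false
set_option linter.unusedSectionVars false

/-! Simplicity of `PSU_n(q)`, part A: adjusting determinants with a torus element, and the
transitivity of `SU_n(q)` on pairs of isotropic points (helper7). -/

namespace Cfsg.Agent.Helper7.SUSimp

open Matrix Cfsg Cfsg.Agent.Helper7.Herm Cfsg.Agent.Helper8.GUOrder Cfsg.Agent.Helper8.SURoot
  Cfsg.Agent.Helper8.AutSU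

variable {F : Type*} [Field F] [Fintype F] {q k N : ℕ} [hF : Fact (Fintype.card F = q ^ 2)]

/-- Hilbert 90 for the quadratic extension: the elements of norm one are the `(q-1)`-th powers. -/
theorem range_eq_ker :
    (powMonoidHom (q - 1) : Fˣ →* Fˣ).range = (powMonoidHom (q + 1) : Fˣ →* Fˣ).ker := by
  have hq := two_le_q hF.out
  apply Subgroup.eq_of_le_of_card_ge
  · rintro _ ⟨x, rfl⟩
    rw [MonoidHom.mem_ker, powMonoidHom_apply, powMonoidHom_apply, ← pow_mul]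
    have : (q - 1) * (q + 1) = q ^ 2 - 1 := by rw [qsq_sub_one hF.out]
    rw [this, ← card_units_K hF.out]
    exact pow_card_eq_one'
  · rw [IsCyclic.card_powMonoidHom_ker, IsCyclic.card_powMonoidHom_range, card_units_K hF.out,
      qsq_sub_one hF.out]
    rw [Nat.gcd_eq_right (Dvd.intro_left _ rfl), Nat.gcd_eq_right (Dvd.intro _ rfl),
      Nat.mul_div_cancel_left _ (by omega)]

theorem exists_quot {μ : F} (hμ : μ * μ ^ q = 1) : ∃ t : F, t ≠ 0 ∧ t * (t ^ q)⁻¹ = μ := by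
  have hq := two_le_q hF.out
  have hμ0 : μ ≠ 0 := by
    rintro rfl
    rw [zero_mul] at hμ
    exact zero_ne_one hμ
  have hmem : Units.mk0 μ hμ0 ∈ (powMonoidHom (q + 1) : Fˣ →* Fˣ).ker := by
    rw [MonoidHom.mem_ker, powMonoidHom_apply]
    apply Units.ext
    rw [Units.val_pow_eq_pow_val, Units.val_mk0, Units.val_one, pow_succ']
    exact hμ
  rw [← range_eq_ker] at hmem
  obtain ⟨u, hu⟩ := hmem
  have hu' : (u : F) ^ (q - 1) = μ := by
    have := congrArg Units.val hu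
    rw [powMonoidHom_apply, Units.val_pow_eq_pow_val, Units.val_mk0] at this
    exact this
  have hu0 : (u : F) ≠ 0 := u.ne_zero
  refine ⟨(u : F)⁻¹, inv_ne_zero hu0, ?_⟩
  rw [inv_pow, inv_inv, ← hu']
  have : (u : F) ^ q = (u : F) ^ (q - 1) * u := by
    rw [← pow_succ, Nat.sub_add_cancel (by omega)]
  rw [this]
  field_simp

/-- the determinant of a unitary matrix has norm one. -/
theorem det_mg_norm (g : GU N F q) : (mg g).det * (mg g).det ^ q = 1 := by
  have h := detGU_range_le hF.out (n := N) ⟨g, rfl⟩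
  rw [MonoidHom.mem_ker, powMonoidHom_apply] at h
  have h2 := congrArg Units.val h
  rw [Units.val_pow_eq_pow_val, Units.val_one, pow_succ'] at h2
  exact h2

/-- the torus matrix `e ↦ t e`, `f ↦ t^{-q} f`, identity on the orthogonal complement. -/
def dM (fr : Frame F q k) (t : F) : Matrix (Fin (k + 2)) (Fin (k + 2)) F :=
  Rm q ((t - 1) • fr.e) fr.f * Rm q (((t ^ q)⁻¹ - 1) • fr.f) fr.e

theorem dM_e (fr : Frame F q k) (t : F) : dM fr t *ᵥ fr.e = t • fr.e := by
  unfold dM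
  have h2 : Rm q (((t ^ q)⁻¹ - 1) • fr.f) fr.e *ᵥ fr.e = fr.e := by
    rw [Rm_mulVec, fr.he, zero_smul, add_zero]
  rw [← mulVec_mulVec, h2, Rm_mulVec, fr.hef, one_smul]
  module

theorem dM_f (fr : Frame F q k) (t : F) : dM fr t *ᵥ fr.f = (t ^ q)⁻¹ • fr.f := by
  unfold dM
  have h2 : Rm q (((t ^ q)⁻¹ - 1) • fr.f) fr.e *ᵥ fr.f = (t ^ q)⁻¹ • fr.f := by
    rw [Rm_mulVec, fr.hfe, one_smul]
    module
  rw [← mulVec_mulVec, h2, Rm_mulVec, hermForm_smul_left, fr.hf, mul_zero, zero_smul, add_zero]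

theorem dM_iw (fr : Frame F q k) (t : F) (w : Fin k → F) : dM fr t *ᵥ iw w = iw w := by
  unfold dM
  have h2 : Rm q (((t ^ q)⁻¹ - 1) • fr.f) fr.e *ᵥ iw w = iw w := by
    rw [Rm_mulVec, fr.hwe, zero_smul, add_zero]
  rw [← mulVec_mulVec, h2, Rm_mulVec, fr.hwf, zero_smul, add_zero]

theorem det_dM (fr : Frame F q k) (t : F) : (dM fr t).det = t * (t ^ q)⁻¹ := by
  unfold dM
  rw [det_mul, det_Rm, det_Rm, hermForm_smul_left, hermForm_smul_left, fr.hef, fr.hfe]
  ring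

theorem form_dM (fr : Frame F q k) {t : F} (ht : t ≠ 0) (u v : Fin (k + 2) → F) :
    hermForm (k + 2) F q (dM fr t *ᵥ u) (dM fr t *ᵥ v) = hermForm (k + 2) F q u v := by
  refine fr.form_of_frame (D := id) (dM_e fr t) (dM_f fr t) (dM_iw fr t) ?_ (fun _ _ => rfl) u v
  have : t ^ q ≠ 0 := pow_ne_zero q ht
  rw [inv_pow, bb]
  field_simp

/-- every unitary matrix can be corrected by a torus element to have determinant one. -/
theorem exists_SU_of_GU (fr : Frame F q k) (g : GU (k + 2) F q) :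
    ∃ (s : SU (k + 2) F q) (t : F), t ≠ 0 ∧ mt s *ᵥ fr.e = t • (mg g *ᵥ fr.e) ∧
      mt s *ᵥ fr.f = (t ^ q)⁻¹ • (mg g *ᵥ fr.f) ∧ ∀ w, mt s *ᵥ iw w = mg g *ᵥ iw w := by
  have hn := det_mg_norm g
  have hd0 : (mg g).det ≠ 0 := by
    intro h
    rw [h, zero_mul] at hn
    exact zero_ne_one hn
  have hn' : (mg g).det⁻¹ * ((mg g).det⁻¹) ^ q = 1 := by
    rw [inv_pow, ← mul_inv, hn, inv_one]
  obtain ⟨t, ht0, ht⟩ := exists_quot (q := q) hn'
  refine ⟨mkS (mg g * dM fr t) ?_ ?_, t, ht0, ?_, ?_, ?_⟩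
  · rw [det_mul, det_dM fr t, ht, mul_inv_cancel₀ hd0]
  · intro u v
    rw [← mulVec_mulVec, ← mulVec_mulVec, herm_mg, form_dM fr ht0]
  · rw [mt_mkS, ← mulVec_mulVec, dM_e, mulVec_smul]
  · rw [mt_mkS, ← mulVec_mulVec, dM_f, mulVec_smul]
  · intro w
    rw [mt_mkS, ← mulVec_mulVec, dM_iw]

end Cfsg.Agent.Helper7.SUSimp
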