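import Mathlib
import Cfsg.Agent.Helper7.SUSimpA
import Cfsg.Agent.Helper8.AutSUzg

set_option autoImplicit false
set_option linter.unusedSectionVars false

/-! Simplicity of `PSU_n(q)`, part B: transitivity of `SU_n(q)` on isotropic points, on pairs of
non-orthogonal isotropic points and on pairs of orthogonal isotropic points (helper7). -/

namespace Cfsg.Agent.Helper7.SUSimp

open Matrix Cfsg Cfsg.Agent.Helper7.Herm Cfsg.Agent.Helper8.GUOrder Cfsg.Agent.Helper8.SURoot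
  Cfsg.Agent.Helper8.AutSU

variable {F : Type*} [Field F] [Fintype F] {q k N : ℕ} [hF : Fact (Fintype.card F = q ^ 2)]

omit [Fintype F] hF in
/-- transport of an image along two elements. -/
theorem transport {s₁ s₂ : SU N F q} {u v v' : Fin N → F} {c₁ c₂ : F} (hc₁ : c₁ ≠ 0)
    (h₁ : mt s₁ *ᵥ u = c₁ • v) (h₂ : mt s₂ *ᵥ u = c₂ • v') :
    mt (s₂ * s₁⁻¹) *ᵥ v = (c₁⁻¹ * c₂) • v' := by
  have hv : v = c₁⁻¹ • (mt s₁ *ᵥ u) := by rw [h₁, smul_smul, inv_mul_cancel₀ hc₁, one_smul]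
  rw [hv, mulVec_smul, mt_mul_mulVec, mt_inv_mulVec', h₂, smul_smul]

/-- `SU` is transitive on the isotropic points. -/
theorem exists_SU_point {x z : Fin (k + 2) → F} (hx0 : x ≠ 0) (hx : hermForm (k + 2) F q x x = 0)
    (hz0 : z ≠ 0) (hz : hermForm (k + 2) F q z z = 0) :
    ∃ (s : SU (k + 2) F q) (c : F), c ≠ 0 ∧ mt s *ᵥ x = c • z := by
  obtain ⟨fr⟩ := exists_frame (F := F) (q := q) k
  obtain ⟨g₁, hg₁⟩ := fr.exists_GU_point hx0 hx
  obtain ⟨g₂, hg₂⟩ := fr.exists_GU_point hz0 hz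
  obtain ⟨s₁, t₁, ht₁, he₁, -, -⟩ := exists_SU_of_GU fr g₁
  obtain ⟨s₂, t₂, ht₂, he₂, -, -⟩ := exists_SU_of_GU fr g₂
  rw [hg₁] at he₁
  rw [hg₂] at he₂
  exact ⟨s₂ * s₁⁻¹, t₁⁻¹ * t₂, mul_ne_zero (inv_ne_zero ht₁) ht₂, transport ht₁ he₁ he₂⟩

/-- `SU` is transitive on the hyperbolic pairs of isotropic points. -/
theorem exists_SU_pair (fr : Frame F q k) {v₁ v₂ : Fin (k + 2) → F}
    (h11 : hermForm (k + 2) F q v₁ v₁ = 0) (h22 : hermForm (k + 2) F q v₂ v₂ = 0)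
    (h12 : hermForm (k + 2) F q v₁ v₂ ≠ 0) :
    ∃ (s : SU (k + 2) F q) (c c' : F), c ≠ 0 ∧ c' ≠ 0 ∧ mt s *ᵥ fr.e = c • v₁ ∧
      mt s *ᵥ fr.f = c' • v₂ := by
  set a : F := ((hermForm (k + 2) F q v₁ v₂)⁻¹) ^ q with ha
  have ha0 : a ≠ 0 := pow_ne_zero q (inv_ne_zero h12)
  have h22' : hermForm (k + 2) F q (a • v₂) (a • v₂) = 0 := by
    rw [hermForm_smul_left, hermForm_smul_right, h22, mul_zero, mul_zero]
  have h12' : hermForm (k + 2) F q v₁ (a • v₂) = 1 := by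
    rw [hermForm_smul_right, ha, bb, inv_mul_cancel₀ h12]
  obtain ⟨g, hg1, hg2⟩ := fr.exists_GU_pair h11 h22' h12'
  obtain ⟨s, t, ht, he, hf, -⟩ := exists_SU_of_GU fr g
  rw [hg1] at he
  rw [hg2, smul_smul] at hf
  exact ⟨s, t, (t ^ q)⁻¹ * a, ht, mul_ne_zero (inv_ne_zero (pow_ne_zero q ht)) ha0, he, hf⟩

/-- the stabiliser of an isotropic point is transitive on the isotropic points not orthogonal
to it. -/
theorem exists_SU_nonperp {x y y' : Fin (k + 2) → F} (hx : hermForm (k + 2) F q x x = 0)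
    (hy : hermForm (k + 2) F q y y = 0) (hy' : hermForm (k + 2) F q y' y' = 0)
    (hxy : hermForm (k + 2) F q x y ≠ 0) (hxy' : hermForm (k + 2) F q x y' ≠ 0) :
    ∃ (s : SU (k + 2) F q) (c c' : F), c ≠ 0 ∧ c' ≠ 0 ∧ mt s *ᵥ x = c • x ∧
      mt s *ᵥ y = c' • y' := by
  obtain ⟨fr⟩ := exists_frame (F := F) (q := q) k
  obtain ⟨s₁, c₁, c₁', hc₁, hc₁', he₁, hf₁⟩ := exists_SU_pair fr hx hy hxy
  obtain ⟨s₂, c₂, c₂', hc₂, hc₂', he₂, hf₂⟩ := exists_SU_pair fr hx hy' hxy'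
  exact ⟨s₂ * s₁⁻¹, c₁⁻¹ * c₂, c₁'⁻¹ * c₂', mul_ne_zero (inv_ne_zero hc₁) hc₂,
    mul_ne_zero (inv_ne_zero hc₁') hc₂', transport hc₁ he₁ he₂, transport hc₁' hf₁ hf₂⟩

/-- a pair of orthogonal independent vectors, the first one isotropic, is in standard position
with respect to a frame. -/
theorem exists_GU_perp (fr : Frame F q k) {x y : Fin (k + 2) → F} (hx0 : x ≠ 0)
    (hx : hermForm (k + 2) F q x x = 0) (hxy : hermForm (k + 2) F q x y = 0)
    (hne : ∀ a : F, a • x ≠ y) :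
    ∃ (g : GU (k + 2) F q) (w : Fin k → F), mg g *ᵥ fr.e = x ∧ mg g *ᵥ iw w = y := by
  obtain ⟨g₀, hg₀⟩ := fr.exists_GU_point hx0 hx
  set y₀ := mg g₀⁻¹ *ᵥ y with hy₀
  have hgy₀ : mg g₀ *ᵥ y₀ = y := mg_inv_mulVec g₀ y
  have h1 : hermForm (k + 2) F q y₀ fr.e = 0 := by
    rw [hy₀, herm_mg_inv, hg₀]
    exact h_eq_zero_of_swap hxy
  set a := hermForm (k + 2) F q y₀ fr.f with ha
  set w := wp y₀ with hw
  have hdec : y₀ = a • fr.e + iw w := by
    have := fr.dec y₀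
    rw [h1, zero_smul, add_zero] at this
    exact this
  have hw0 : w ≠ 0 := by
    intro h
    apply hne a
    rw [← hgy₀, hdec, h, iw_zero, add_zero, mulVec_smul, hg₀]
  obtain ⟨z, hz⟩ := exists_herm_eq_one (q := q) hw0
  have hz' : hermForm k F q w z = 1 := h_eq_one_of_swap hz
  set v : Fin k → F := (-a ^ q) • z with hv
  have hwv : hermForm k F q w v = -a := by
    rw [hv, hermForm_smul_right, hz', mul_one, b_neg, bb]
  obtain ⟨b, hb⟩ := exists_sg (q := q) v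
  refine ⟨g₀ * toGU (fr.sg hb), w, ?_, ?_⟩
  · rw [mg_mul_mulVec, mg_toGU, fr.sg_e, hg₀]
  · rw [mg_mul_mulVec, mg_toGU, fr.sg_iw, hwv, ← hgy₀, hdec]
    congr 1
    module

/-- the stabiliser of an isotropic point is transitive on the other isotropic points orthogonal
to it. -/
theorem exists_SU_perp {x y y' : Fin (k + 2) → F} (hx0 : x ≠ 0)
    (hx : hermForm (k + 2) F q x x = 0)
    (hy : hermForm (k + 2) F q y y = 0) (hy' : hermForm (k + 2) F q y' y' = 0)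
    (hxy : hermForm (k + 2) F q x y = 0) (hxy' : hermForm (k + 2) F q x y' = 0)
    (hne : ∀ a : F, a • x ≠ y) (hne' : ∀ a : F, a • x ≠ y') :
    ∃ (s : SU (k + 2) F q) (c : F), c ≠ 0 ∧ mt s *ᵥ x = c • x ∧ mt s *ᵥ y = y' := by
  obtain ⟨fr⟩ := exists_frame (F := F) (q := q) k
  obtain ⟨g, w, hge, hgw⟩ := exists_GU_perp fr hx0 hx hxy hne
  have hyx := h_eq_zero_of_swap hxy
  have hyx' := h_eq_zero_of_swap hxy'
  obtain ⟨h, hh⟩ := exists_GU_of_families (q := q) ![x, y] ![x, y']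
    ((LinearIndependent.pair_iff' hx0).mpr hne) ((LinearIndependent.pair_iff' hx0).mpr hne') (by
      intro i j
      fin_cases i <;> fin_cases j
      · rfl
      · exact hxy.trans hxy'.symm
      · exact hyx.trans hyx'.symm
      · exact hy.trans hy'.symm)
  have hhx : mg h *ᵥ x = x := hh 0
  have hhy : mg h *ᵥ y = y' := hh 1
  obtain ⟨s₁, t₁, ht₁, he₁, -, hw₁⟩ := exists_SU_of_GU fr g
  obtain ⟨s₂, t₂, ht₂, he₂, -, hw₂⟩ := exists_SU_of_GU fr (h * g)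
  rw [hge] at he₁
  rw [mg_mul_mulVec, hge, hhx] at he₂
  have e1 : mt s₁ *ᵥ iw w = (1 : F) • y := by rw [hw₁, hgw, one_smul]
  have e2 : mt s₂ *ᵥ iw w = (1 : F) • y' := by rw [hw₂, mg_mul_mulVec, hgw, hhy, one_smul]
  refine ⟨s₂ * s₁⁻¹, t₁⁻¹ * t₂, mul_ne_zero (inv_ne_zero ht₁) ht₂, transport ht₁ he₁ he₂, ?_⟩
  rw [transport one_ne_zero e1 e2, inv_one, one_mul, one_smul]

end Cfsg.Agent.Helper7.SUSimp
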