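import Mathlib
import Cfsg.Agent.Helper7.SUSimpB
import Cfsg.Agent.Helper8.SURootB

set_option autoImplicit false
set_option linter.unusedSectionVars false

/-! Simplicity of `PSU_n(q)`, part C: the isotropic points, and the primitivity of the action of
`SU_n(q)` on them (helper7). -/

namespace Cfsg.Agent.Helper7.SUSimp

open Matrix Cfsg Cfsg.Agent.Helper7.Herm Cfsg.Agent.Helper8.GUOrder Cfsg.Agent.Helper8.SURoot
  Cfsg.Agent.Helper8.AutSU

open scoped Pointwise

/-- **a rank three criterion for primitivity**, in a form that also covers the doubly transitive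
case. -/
theorem isPreprimitive_of_rank3' {G X : Type*} [Group G] [MulAction G X]
    [MulAction.IsPretransitive G X] (R : X → X → Prop) (hrefl : ∀ x, R x x)
    (hsymm : ∀ x y, R x y → R y x)
    (h1 : ∀ x y y', y ≠ x → y' ≠ x → (R x y ↔ R x y') → ∃ g : G, g • x = x ∧ g • y = y')
    (h3 : ∀ x z, x ≠ z → R x z → ∃ y, ¬ R x y ∧ ¬ R z y)
    (h4 : ∀ x y z, y ≠ x → R x y → ¬ R x z → ∃ y₁, y₁ ≠ x ∧ y₁ ≠ z ∧ R x y₁ ∧ R z y₁) :
    MulAction.IsPreprimitive G X := by
  refine { toIsPretransitive := inferInstance, isTrivialBlock_of_isBlock := ?_ }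
  intro B hB
  by_cases hsub : B.Subsingleton
  · exact Or.inl hsub
  right
  rw [Set.not_subsingleton_iff] at hsub
  obtain ⟨x, hx, y, hy, hxy⟩ := hsub
  have claimA : ∀ x y y', x ∈ B → y ∈ B → y ≠ x → y' ≠ x → (R x y ↔ R x y') → y' ∈ B := by
    intro x y y' hx hy hyx hy'x hR
    obtain ⟨g, hgx, hgy⟩ := h1 x y y' hyx hy'x hR
    have hgB : g • B = B := hB.smul_eq_of_mem hx (by rw [hgx]; exact hx)
    rw [← hgB, ← hgy]
    exact Set.smul_mem_smul_set hy
  apply Set.eq_univ_of_forall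
  intro z
  by_cases hzx : z = x
  · rw [hzx]; exact hx
  by_cases hRxy : R x y
  · by_cases hRxz : R x z
    · exact claimA x y z hx hy (Ne.symm hxy) hzx (by simp [hRxy, hRxz])
    · obtain ⟨y₁, hy₁x, hy₁z, hRxy₁, hRzy₁⟩ := h4 x y z (Ne.symm hxy) hRxy hRxz
      have hy₁B : y₁ ∈ B := claimA x y y₁ hx hy (Ne.symm hxy) hy₁x (by simp [hRxy, hRxy₁])
      exact claimA y₁ x z hy₁B hx (Ne.symm hy₁x) (Ne.symm hy₁z)
        (by simp [hsymm _ _ hRxy₁, hsymm _ _ hRzy₁])
  · by_cases hRxz : R x z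
    · obtain ⟨y₁, hRxy₁, hRzy₁⟩ := h3 x z (Ne.symm hzx) hRxz
      have hy₁x : y₁ ≠ x := by
        rintro rfl
        exact hRxy₁ (hrefl _)
      have hy₁z : y₁ ≠ z := by
        rintro rfl
        exact hRzy₁ (hrefl _)
      have hy₁B : y₁ ∈ B := claimA x y y₁ hx hy (Ne.symm hxy) hy₁x (by simp [hRxy, hRxy₁])
      have e1 : ¬ R y₁ x := fun h => hRxy₁ (hsymm _ _ h)
      have e2 : ¬ R y₁ z := fun h => hRzy₁ (hsymm _ _ h)
      exact claimA y₁ x z hy₁B hx (Ne.symm hy₁x) (Ne.symm hy₁z) (by simp [e1, e2])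
    · exact claimA x y z hx hy (Ne.symm hxy) hzx (by simp [hRxy, hRxz])

variable {F : Type*} [Field F] [Fintype F] {q k N : ℕ} [hF : Fact (Fintype.card F = q ^ 2)]

/-- the isotropic points of the unitary space. -/
def IPt (N : ℕ) (F : Type*) [Field F] (q : ℕ) : Type _ :=
  {p : Submodule F (Fin N → F) //
    ∃ u : Fin N → F, u ≠ 0 ∧ hermForm N F q u u = 0 ∧ p = Submodule.span F {u}}

omit [Fintype F] hF in
/-- the point spanned by a nonzero isotropic vector. -/
def mkPt (u : Fin N → F) (hu0 : u ≠ 0) (hu : hermForm N F q u u = 0) : IPt N F q :=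
  ⟨Submodule.span F {u}, u, hu0, hu, rfl⟩

omit [Fintype F] hF in
theorem exists_rep (p : IPt N F q) :
    ∃ (u : Fin N → F) (hu0 : u ≠ 0) (hu : hermForm N F q u u = 0), p = mkPt u hu0 hu := by
  obtain ⟨u, hu0, hu, hp⟩ := p.2
  exact ⟨u, hu0, hu, Subtype.ext hp⟩

omit [Fintype F] hF in
theorem mkPt_eq_iff {u u' : Fin N → F} (hu0 : u ≠ 0) (hu : hermForm N F q u u = 0)
    (hu0' : u' ≠ 0) (hu' : hermForm N F q u' u' = 0) :
    mkPt u hu0 hu = mkPt u' hu0' hu' ↔ ∃ t : F, t ≠ 0 ∧ u' = t • u := by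
  constructor
  · intro h
    have h1 : Submodule.span F {u} = Submodule.span F {u'} := congrArg Subtype.val h
    obtain ⟨z, hz⟩ := Submodule.span_singleton_eq_span_singleton.mp h1
    exact ⟨(z : F), z.ne_zero, hz.symm⟩
  · rintro ⟨t, ht, rfl⟩
    apply Subtype.ext
    show Submodule.span F {u} = Submodule.span F {t • u}
    exact (Submodule.span_singleton_smul_eq (IsUnit.mk0 t ht) u).symm

omit [Fintype F] hF in
theorem mkPt_eq_of_smul {u u' : Fin N → F} (hu0 : u ≠ 0) (hu : hermForm N F q u u = 0)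
    (hu0' : u' ≠ 0) (hu' : hermForm N F q u' u' = 0) {t : F} (h : u' = t • u) :
    mkPt u hu0 hu = mkPt u' hu0' hu' := by
  rw [mkPt_eq_iff]
  refine ⟨t, ?_, h⟩
  rintro rfl
  rw [zero_smul] at h
  exact hu0' h

omit [Fintype F] hF in
noncomputable instance instActIPt : MulAction (SU N F q) (IPt N F q) where
  smul g p := ⟨p.1.map (mt g).mulVecLin, by
    obtain ⟨u, hu0, hu, hp⟩ := p.2
    refine ⟨mt g *ᵥ u, mulVec_ne_zero' g hu0, by rw [herm_mt, hu], ?_⟩
    rw [hp, Submodule.map_span, Set.image_singleton]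
    rfl⟩
  one_smul p := Subtype.ext (by
    show p.1.map (mt (1 : SU N F q)).mulVecLin = p.1
    rw [mt_one, Matrix.mulVecLin_one, Submodule.map_id])
  mul_smul g h p := Subtype.ext (by
    show p.1.map (mt (g * h)).mulVecLin = (p.1.map (mt h).mulVecLin).map (mt g).mulVecLin
    rw [mt_mul, Matrix.mulVecLin_mul, Submodule.map_comp])

omit [Fintype F] hF in
theorem smul_mkPt (g : SU N F q) {u : Fin N → F} (hu0 : u ≠ 0) (hu : hermForm N F q u u = 0) :
    g • mkPt u hu0 hu = mkPt (mt g *ᵥ u) (mulVec_ne_zero' g hu0) (by rw [herm_mt, hu]) := by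
  apply Subtype.ext
  show (Submodule.span F {u}).map (mt g).mulVecLin = Submodule.span F {mt g *ᵥ u}
  rw [Submodule.map_span, Set.image_singleton]
  rfl

omit [Fintype F] hF in
/-- orthogonality of isotropic points. -/
def Perp (p p' : IPt N F q) : Prop :=
  ∀ u ∈ p.1, ∀ v ∈ p'.1, hermForm N F q u v = 0

theorem perp_mkPt {u v : Fin N → F} (hu0 : u ≠ 0) (hu : hermForm N F q u u = 0)
    (hv0 : v ≠ 0) (hv : hermForm N F q v v = 0) :
    Perp (mkPt u hu0 hu) (mkPt v hv0 hv) ↔ hermForm N F q u v = 0 := by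
  constructor
  · intro h
    exact h u (Submodule.mem_span_singleton_self u) v (Submodule.mem_span_singleton_self v)
  · intro h u' hu' v' hv'
    obtain ⟨a, rfl⟩ := Submodule.mem_span_singleton.mp hu'
    obtain ⟨b, rfl⟩ := Submodule.mem_span_singleton.mp hv'
    rw [hermForm_smul_left, hermForm_smul_right, h, mul_zero, mul_zero]

theorem isPretransitive_IPt : MulAction.IsPretransitive (SU (k + 2) F q) (IPt (k + 2) F q) := by
  constructor
  intro p p'
  obtain ⟨u, hu0, hu, rfl⟩ := exists_rep p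
  obtain ⟨v, hv0, hv, rfl⟩ := exists_rep p'
  obtain ⟨s, c, hc, hs⟩ := exists_SU_point hu0 hu hv0 hv
  refine ⟨s, ?_⟩
  rw [smul_mkPt]
  exact (mkPt_eq_of_smul hv0 hv _ _ hs).symm

omit [Fintype F] hF in
theorem not_smul_eq_of_ne {u v : Fin N → F} (hu0 : u ≠ 0) (hu : hermForm N F q u u = 0)
    (hv0 : v ≠ 0) (hv : hermForm N F q v v = 0) (h : mkPt v hv0 hv ≠ mkPt u hu0 hu) :
    ∀ a : F, a • u ≠ v := by
  intro a ha
  exact h (mkPt_eq_of_smul hu0 hu hv0 hv ha.symm).symm

theorem isPreprimitive_IPt : MulAction.IsPreprimitive (SU (k + 2) F q) (IPt (k + 2) F q) := by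
  haveI := isPretransitive_IPt (F := F) (q := q) (k := k)
  apply isPreprimitive_of_rank3' (Perp (N := k + 2) (F := F) (q := q))
  · intro p
    obtain ⟨u, hu0, hu, rfl⟩ := exists_rep p
    rw [perp_mkPt]
    exact hu
  · intro p p' h x hx y hy
    exact h_eq_zero_of_swap (h y hy x hx)
  · intro x y y' hyx hy'x hR
    obtain ⟨u, hu0, hu, rfl⟩ := exists_rep x
    obtain ⟨a, ha0, ha, rfl⟩ := exists_rep y
    obtain ⟨a', ha'0, ha', rfl⟩ := exists_rep y'
    rw [perp_mkPt, perp_mkPt] at hR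
    by_cases hua : hermForm (k + 2) F q u a = 0
    · obtain ⟨s, c, hc, hsu, hsa⟩ := exists_SU_perp hu0 hu ha ha' hua (hR.mp hua)
        (not_smul_eq_of_ne hu0 hu ha0 ha hyx) (not_smul_eq_of_ne hu0 hu ha'0 ha' hy'x)
      refine ⟨s, ?_, ?_⟩
      · rw [smul_mkPt]
        exact (mkPt_eq_of_smul hu0 hu _ _ hsu).symm
      · rw [smul_mkPt]
        exact (mkPt_eq_of_smul ha'0 ha' _ _ (by rw [hsa, one_smul] : mt s *ᵥ a = (1 : F) • a')).symm
    · obtain ⟨s, c, c', hc, hc', hsu, hsa⟩ := exists_SU_nonperp hu ha ha' hua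
        (fun h => hua (hR.mpr h))
      refine ⟨s, ?_, ?_⟩
      · rw [smul_mkPt]
        exact (mkPt_eq_of_smul hu0 hu _ _ hsu).symm
      · rw [smul_mkPt]
        exact (mkPt_eq_of_smul ha'0 ha' _ _ hsa).symm
  · intro x z hxz hR
    obtain ⟨u, hu0, hu, rfl⟩ := exists_rep x
    obtain ⟨c, hc0, hc, rfl⟩ := exists_rep z
    rw [perp_mkPt] at hR
    obtain ⟨r, hr, hr1, hr2⟩ := exists_middle hu0 hu hc0 hR
    have hr0 : r ≠ 0 := ne_zero_of_form_right hr1
    refine ⟨mkPt r hr0 hr, ?_, ?_⟩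
    · rw [perp_mkPt]; exact hr1
    · rw [perp_mkPt]
      intro h
      exact hr2 (h_eq_zero_of_swap h)
  · intro x y z hyx hRxy hRxz
    obtain ⟨u, hu0, hu, rfl⟩ := exists_rep x
    obtain ⟨a, ha0, ha, rfl⟩ := exists_rep y
    obtain ⟨c, hc0, hc, rfl⟩ := exists_rep z
    rw [perp_mkPt] at hRxy hRxz
    have hne := not_smul_eq_of_ne hu0 hu ha0 ha hyx
    have hau : hermForm (k + 2) F q a u = 0 := h_eq_zero_of_swap hRxy
    set b : F := hermForm (k + 2) F q a c / hermForm (k + 2) F q u c with hb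
    set r : Fin (k + 2) → F := a - b • u with hr
    have hrc : hermForm (k + 2) F q r c = 0 := by
      rw [hr, hermForm_sub_left, hermForm_smul_left, hb, div_mul_cancel₀ _ hRxz, sub_self]
    have hru : hermForm (k + 2) F q r u = 0 := by
      rw [hr, hermForm_sub_left, hermForm_smul_left, hau, hu, mul_zero, sub_zero]
    have hrr : hermForm (k + 2) F q r r = 0 := by
      have : hermForm (k + 2) F q r r = hermForm (k + 2) F q r a - b ^ q * hermForm (k + 2) F q r u := by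
        conv_lhs => rw [hr, h_sub_right, hermForm_smul_right]
      rw [this, hru, mul_zero, sub_zero, hr, hermForm_sub_left, hermForm_smul_left, ha, hRxy,
        mul_zero, sub_zero]
    have hr0 : r ≠ 0 := by
      intro h
      apply hne b
      rw [hr, sub_eq_zero] at h
      exact h.symm
    refine ⟨mkPt r hr0 hrr, ?_, ?_, ?_, ?_⟩
    · intro h
      rw [mkPt_eq_iff] at h
      obtain ⟨t, ht, htu⟩ := h
      -- `u = t • r`, so `a = (t⁻¹ + b) • u`
      apply hne (t⁻¹ + b)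
      have h1 : r = t⁻¹ • u := by
        conv_rhs => rw [htu, smul_smul, inv_mul_cancel₀ ht, one_smul]
      rw [add_smul, ← h1, hr, sub_add_cancel]
    · intro h
      rw [mkPt_eq_iff] at h
      obtain ⟨t, ht, htc⟩ := h
      apply hRxz
      rw [htc, hermForm_smul_right, h_eq_zero_of_swap hru, mul_zero]
    · rw [perp_mkPt]; exact h_eq_zero_of_swap hru
    · rw [perp_mkPt]; exact h_eq_zero_of_swap hrc

end Cfsg.Agent.Helper7.SUSimp
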