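import Mathlib
import Cfsg.Agent.Helper7.SUSimpC
import Cfsg.Agent.Helper7.SUGenH
import Cfsg.Agent.Helper7.SUCommA
import Cfsg.Agent.Helper8.SiegelPrim

set_option autoImplicit false
set_option linter.unusedSectionVars false

/-! Simplicity of `PSU_n(q)`, part D: the Iwasawa structure of root groups, and the simplicity of
`SU_n(q)` modulo its centre (helper7). -/

namespace Cfsg.Agent.Helper7.SUSimp

open Matrix Cfsg Cfsg.Agent.Helper7.Herm Cfsg.Agent.Helper8.GUOrder Cfsg.Agent.Helper8.SURoot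
  Cfsg.Agent.Helper8.AutSU Cfsg.Agent.Helper7.SUGen

open scoped Pointwise

variable {F : Type*} [Field F] [Fintype F] {q k N : ℕ} [hF : Fact (Fintype.card F = q ^ 2)]

theorem RG_conj (g : SU N F q) {u : Fin N → F} (hu0 : u ≠ 0) (hu : hermForm N F q u u = 0) :
    RG q (mt g *ᵥ u) = MulAut.conj g • RG q u := by
  have hu0' : mt g *ᵥ u ≠ 0 := mulVec_ne_zero' g hu0
  have hu' : hermForm N F q (mt g *ᵥ u) (mt g *ᵥ u) = 0 := by rw [herm_mt, hu]
  ext s
  rw [Subgroup.mem_smul_pointwise_iff_exists, mem_RG_iff hu0' hu']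
  constructor
  · rintro ⟨t, ht, rfl⟩
    refine ⟨TU q u t, TU_mem_RG hu0 hu ht, ?_⟩
    rw [MulAut.smul_def, MulAut.conj_apply, conj_TU g hu ht]
  · rintro ⟨s₀, hs₀, rfl⟩
    obtain ⟨t, ht, rfl⟩ := (mem_RG_iff hu0 hu s₀).mp hs₀
    refine ⟨t, ht, ?_⟩
    rw [MulAut.smul_def, MulAut.conj_apply, conj_TU g hu ht]

/-- the subgroups of the Iwasawa structure. -/
noncomputable def iwT (p : IPt N F q) : Subgroup (SU N F q) :=
  RG q (Classical.choose p.2)

theorem iwT_mkPt {u : Fin N → F} (hu0 : u ≠ 0) (hu : hermForm N F q u u = 0) :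
    iwT (mkPt u hu0 hu) = RG q u := by
  unfold iwT
  obtain ⟨h1, h2, h3⟩ := Classical.choose_spec (mkPt u hu0 hu).2
  have h4 : Submodule.span F {u} = Submodule.span F {Classical.choose (mkPt u hu0 hu).2} := h3
  obtain ⟨z, hz⟩ := Submodule.span_singleton_eq_span_singleton.mp h4
  rw [← hz]
  exact RG_smul hu0 hu z.ne_zero

theorem TU_zero_left {s : F} (hs : s ^ q + s = 0) : TU q (0 : Fin N → F) s = 1 := by
  apply ext_mulVec
  intro v
  rw [TU_mulVec (hermForm_zero_left _) hs, smul_zero, add_zero, mt_one_mulVec]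

/-- the Iwasawa structure. -/
noncomputable def iwasawa (n : ℕ) (hn : 2 ≤ n) (h32 : ¬ (n = 3 ∧ q = 2)) :
    MulAction.IwasawaStructure (SU n F q) (IPt n F q) where
  T := iwT
  is_comm p := by
    obtain ⟨u, hu0, hu, rfl⟩ := exists_rep p
    rw [iwT_mkPt]
    exact RG_comm hu0 hu
  is_conj g p := by
    obtain ⟨u, hu0, hu, rfl⟩ := exists_rep p
    rw [smul_mkPt, iwT_mkPt, iwT_mkPt, RG_conj g hu0 hu]
  is_generator := by
    rw [eq_top_iff, ← Tsub_eq_top n hn h32]
    unfold Tsub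
    rw [Subgroup.closure_le]
    rintro g ⟨p, s, hp, hs, rfl⟩
    by_cases hp0 : p = 0
    · rw [hp0, TU_zero_left hs]
      exact Subgroup.one_mem _
    · apply Subgroup.mem_iSup_of_mem (mkPt p hp0 hp)
      rw [iwT_mkPt]
      exact TU_mem_RG hp0 hp hs

theorem commutator_SU_eq_top (hk : 1 ≤ k) (h32 : ¬ (k + 2 = 3 ∧ q = 2)) :
    commutator (SU (k + 2) F q) = ⊤ := by
  rw [eq_top_iff, ← Tsub_eq_top (k + 2) (by omega) h32]
  unfold Tsub
  rw [Subgroup.closure_le]
  rintro g ⟨p, s, hp, hs, rfl⟩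
  by_cases hp0 : p = 0
  · rw [hp0, TU_zero_left hs]
    exact Subgroup.one_mem _
  · rw [commutator_eq_closure]
    exact Subgroup.subset_closure (TU_mem_commutatorSet hk hp0 hp hs)

theorem nontrivial_SU : Nontrivial (SU (k + 2) F q) := by
  obtain ⟨fr⟩ := exists_frame (F := F) (q := q) k
  have h := RG_ne_bot (q := q) fr.e_ne_zero fr.he
  by_contra hnt
  rw [not_nontrivial_iff_subsingleton] at hnt
  exact h (Subsingleton.elim _ _)

/-- **`SU_n(q)` modulo its centre is simple**, for `n ≥ 3` and `(n, q) ≠ (3, 2)`. -/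
theorem isSimpleGroup_PSU (hk : 1 ≤ k) (h32 : ¬ (k + 2 = 3 ∧ q = 2)) :
    IsSimpleGroup (SU (k + 2) F q ⧸ Subgroup.center (SU (k + 2) F q)) := by
  haveI := isPreprimitive_IPt (F := F) (q := q) (k := k)
  apply Cfsg.Agent.Helper8.SiegelPrim.isSimpleGroup_quot_center
    (iwasawa (F := F) (q := q) (k + 2) (by omega) h32)
    (commutator_SU_eq_top hk h32) nontrivial_SU
  intro g hg
  have hall : ∀ x : Fin (k + 2) → F, x ≠ 0 → hermForm (k + 2) F q x x = 0 →
      ∃ d : F, mt g *ᵥ x = d • x := by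
    intro x hx0 hx
    have h1 := hg (mkPt x hx0 hx)
    rw [smul_mkPt, mkPt_eq_iff] at h1
    obtain ⟨t, ht, htx⟩ := h1
    refine ⟨t⁻¹, ?_⟩
    conv_rhs => rw [htx, smul_smul, inv_mul_cancel₀ ht, one_smul]
  obtain ⟨c, hc⟩ := scalar_of_fix_points hall
  exact mem_center_of_scalar hc

end Cfsg.Agent.Helper7.SUSimp
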