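import Mathlib
import Cfsg.Agent.Helper7.SUSimpD

set_option autoImplicit false
set_option linter.unusedSectionVars false

/-! Maximality of the stabiliser of a totally isotropic subspace in `SU_n(q)` (helper7): the general
Siegel elements and the main dichotomy. -/

namespace Cfsg.Agent.Helper7.SUMax

open Matrix Cfsg Cfsg.Agent.Helper7.Herm Cfsg.Agent.Helper8.GUOrder Cfsg.Agent.Helper8.SURoot
  Cfsg.Agent.Helper8.AutSU Cfsg.Agent.Helper7.SUGen

variable {F : Type*} [Field F] [Fintype F] {q N : ℕ} [hF : Fact (Fintype.card F = q ^ 2)]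

/-- the matrix of the Siegel element attached to an isotropic vector `a` and a vector `b ⟂ a`. -/
def sgGM (q : ℕ) (a b : Fin N → F) (c : F) : Matrix (Fin N) (Fin N) F :=
  Rm q (b + c • a) a * Rm q (-a) b

theorem sgGM_mulVec {a b : Fin N → F} (ha : hermForm N F q a a = 0) (c : F) (v : Fin N → F) :
    sgGM q a b c *ᵥ v = v + hermForm N F q v a • (b + c • a) - hermForm N F q v b • a := by
  unfold sgGM
  rw [← mulVec_mulVec, Rm_mulVec, Rm_mulVec, hermForm_add_left, hermForm_smul_left, h_neg_left, ha]
  module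

theorem det_sgGM {a b : Fin N → F} (ha : hermForm N F q a a = 0) (hba : hermForm N F q b a = 0)
    (c : F) : (sgGM q a b c).det = 1 := by
  unfold sgGM
  rw [det_mul, det_Rm, det_Rm, hermForm_add_left, hermForm_smul_left, hba, ha, h_neg_left,
    h_eq_zero_of_swap hba]
  ring

theorem form_sgGM {a b : Fin N → F} (ha : hermForm N F q a a = 0) (hba : hermForm N F q b a = 0)
    {c : F} (hc : c + c ^ q + hermForm N F q b b = 0) (u v : Fin N → F) :
    hermForm N F q (sgGM q a b c *ᵥ u) (sgGM q a b c *ᵥ v) = hermForm N F q u v := by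
  have hab := h_eq_zero_of_swap hba
  rw [sgGM_mulVec ha, sgGM_mulVec ha]
  simp only [hermForm_add_left, h_add_right, hermForm_smul_left, hermForm_smul_right,
    hermForm_sub_left, h_sub_right, ha, hba, hab]
  rw [h_swap a v, h_swap b v]
  linear_combination (hermForm N F q u a * (hermForm N F q v a) ^ q) * hc

/-- the Siegel element `x ↦ x + h(x, a) (b + c a) - h(x, b) a`. -/
def sgG {a b : Fin N → F} (ha : hermForm N F q a a = 0) (hba : hermForm N F q b a = 0)
    {c : F} (hc : c + c ^ q + hermForm N F q b b = 0) : SU N F q :=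
  mkS (sgGM q a b c) (det_sgGM ha hba c) (form_sgGM ha hba hc)

theorem sgG_mulVec {a b : Fin N → F} (ha : hermForm N F q a a = 0) (hba : hermForm N F q b a = 0)
    {c : F} (hc : c + c ^ q + hermForm N F q b b = 0) (v : Fin N → F) :
    mt (sgG ha hba hc) *ᵥ v = v + hermForm N F q v a • (b + c • a) - hermForm N F q v b • a :=
  sgGM_mulVec ha c v

/-- the Siegel elements at `a` act transitively on the isotropic vectors with a given non-zero
product with `a`. -/
theorem exists_sgG {a u y : Fin N → F} (ha : hermForm N F q a a = 0)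
    (hu : hermForm N F q u u = 0) (hy : hermForm N F q y y = 0)
    (hua : hermForm N F q u a ≠ 0) (hya : hermForm N F q y a = hermForm N F q u a) :
    ∃ (b : Fin N → F) (c : F) (hba : hermForm N F q b a = 0)
      (hc : c + c ^ q + hermForm N F q b b = 0), mt (sgG ha hba hc) *ᵥ u = y := by
  set h := hermForm N F q u a with hh
  have hq0 : h ^ q ≠ 0 := pow_ne_zero q hua
  have hhh : h * h ^ q ≠ 0 := mul_ne_zero hua hq0
  have hfix : (h * h ^ q) ^ q = h * h ^ q := by rw [mul_pow, bb]; ring
  set b : Fin N → F := h⁻¹ • (y - u) with hb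
  set c : F := hermForm N F q u y / (h * h ^ q) with hc
  have hba : hermForm N F q b a = 0 := by
    rw [hb, hermForm_smul_left, hermForm_sub_left, hya, sub_self, mul_zero]
  have hyu : hermForm N F q y u = (hermForm N F q u y) ^ q := h_swap _ _
  have hbb : hermForm N F q b b = -(hermForm N F q u y + hermForm N F q y u) / (h * h ^ q) := by
    rw [hb, hermForm_smul_left, hermForm_smul_right, hermForm_sub_left, h_sub_right, h_sub_right,
      hu, hy, inv_pow]
    field_simp
    ring
  have hcq : c ^ q = hermForm N F q y u / (h * h ^ q) := by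
    rw [hc, div_pow, hfix, hyu]
  have hcv : c + c ^ q + hermForm N F q b b = 0 := by
    rw [hcq, hbb, hc]
    field_simp
    ring
  refine ⟨b, c, hba, hcv, ?_⟩
  rw [sgG_mulVec, ← hh]
  have hub : hermForm N F q u b = hermForm N F q u y / h ^ q := by
    rw [hb, hermForm_smul_right, h_sub_right, hu, sub_zero, inv_pow]
    field_simp
  rw [hub, hb, hc]
  have e1 : h • (h⁻¹ • (y - u) + (hermForm N F q u y / (h * h ^ q)) • a)
      = (y - u) + (hermForm N F q u y / h ^ q) • a := by
    rw [smul_add, smul_smul, smul_smul, mul_inv_cancel₀ hua, one_smul]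
    congr 2
    field_simp
  rw [e1]
  abel

/-- a matrix of `SU` mapping a subspace into itself stabilises it. -/
theorem stab_of_mapsTo (W : Submodule F (Fin N → F)) (A : SU N F q)
    (h : ∀ x ∈ W, mt A *ᵥ x ∈ W) : ∀ v : Fin N → F, v ∈ W ↔ mt A *ᵥ v ∈ W := by
  intro v
  refine ⟨h v, fun hv => ?_⟩
  have hinj : Function.Injective (fun x : Fin N → F => mt A *ᵥ x) := by
    intro x y hxy
    beta_reduce at hxy
    rw [← mt_inv_mulVec' A x, hxy, mt_inv_mulVec']
  let φ : ↥W → ↥W := fun x => ⟨mt A *ᵥ (x : Fin N → F), h x x.2⟩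
  have hφ : Function.Injective φ := by
    intro x y hxy
    apply Subtype.ext
    apply hinj
    exact congrArg Subtype.val hxy
  have hs := Finite.surjective_of_injective hφ
  obtain ⟨w, hw⟩ := hs ⟨_, hv⟩
  have : mt A *ᵥ (w : Fin N → F) = mt A *ᵥ v := congrArg Subtype.val hw
  rw [← hinj this]
  exact w.2

/-- a vector outside a subspace is detected by a vector orthogonal to the subspace. -/
theorem exists_perp_of_not_mem (W : Submodule F (Fin N → F)) {y : Fin N → F} (hy : y ∉ W) :
    ∃ x : Fin N → F, (∀ w ∈ W, hermForm N F q w x = 0) ∧ hermForm N F q y x = 1 := by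
  have hσ2 : ∀ a : F, frobq F q (frobq F q a) = a := fun a => bb a
  have hnd : (hB N F q).Nondegenerate :=
    ⟨fun u hu => eq_zero_of_h_left (q := q) hu, fun v hv => eq_zero_of_h_right (q := q) hv⟩
  obtain ⟨x, hx1, hx2⟩ := Cfsg.Agent.Helper7.WittHerm.exists_dual_vec (σ := frobq F q)
    (B := hB N F q) hσ2 hnd W hy
  exact ⟨x, fun w hw => hx1 w hw, hx2⟩

/-- **The main dichotomy**: a subgroup of `SU` containing the stabiliser of a totally isotropic
subspace is that stabiliser or the whole group. -/
theorem stab_or_top (hN : 2 ≤ N) (h32 : ¬ (N = 3 ∧ q = 2)) (W : Submodule F (Fin N → F))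
    (hW : ∀ u ∈ W, ∀ v ∈ W, hermForm N F q u v = 0) (M : Subgroup (SU N F q))
    (hPM : ∀ A : SU N F q, (∀ v : Fin N → F, v ∈ W ↔ mt A *ᵥ v ∈ W) → A ∈ M) :
    (∀ A ∈ M, ∀ v : Fin N → F, v ∈ W ↔ mt A *ᵥ v ∈ W) ∨ M = ⊤ := by
  -- the isotropic vectors all of whose transvections lie in `M`
  let S : (Fin N → F) → Prop := fun v => hermForm N F q v v = 0 ∧
    ∀ s : F, s ^ q + s = 0 → TU q v s ∈ M
  have hSinv : ∀ A : SU N F q, A ∈ M → ∀ v, S v → S (mt A *ᵥ v) := by
    intro A hA v hv
    refine ⟨by rw [herm_mt, hv.1], fun s hs => ?_⟩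
    rw [← conj_TU A hv.1 hs]
    exact M.mul_mem (M.mul_mem hA (hv.2 s hs)) (M.inv_mem hA)
  have hSperp : ∀ v, hermForm N F q v v = 0 → (∀ w ∈ W, hermForm N F q w v = 0) → S v := by
    intro v hv hvW
    refine ⟨hv, fun s hs => ?_⟩
    apply hPM
    apply stab_of_mapsTo
    intro x hx
    rw [TU_mulVec hv hs, hvW x hx, mul_zero, zero_smul, add_zero]
    exact hx
  by_cases hcase : ∀ v, S v → ∀ w ∈ W, hermForm N F q w v = 0
  · left
    intro A hA
    apply stab_of_mapsTo
    intro w hw
    by_contra hyW
    set y := mt A *ᵥ w with hy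
    have hyy : hermForm N F q y y = 0 := by rw [hy, herm_mt]; exact hW w hw w hw
    -- `y ⟂ W`
    have hyperp : ∀ w' ∈ W, hermForm N F q w' y = 0 := by
      intro w' hw'
      have h1 := hcase _ (hSinv A⁻¹ (M.inv_mem hA) w'
        (hSperp w' (hW w' hw' w' hw') (fun x hx => hW x hx w' hw'))) w hw
      have h2 := herm_mt A w (mt A⁻¹ *ᵥ w')
      rw [mt_inv_mulVec, h1] at h2
      exact h_eq_zero_of_swap h2
    obtain ⟨x₀, hx₀W, hx₀y⟩ := exists_perp_of_not_mem (q := q) W hyW
    obtain ⟨c, hc⟩ := exists_sg (q := q) x₀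
    have hx₀y' : hermForm N F q x₀ y = 1 := h_eq_one_of_swap hx₀y
    set x := x₀ + c • y with hx
    have hxx : hermForm N F q x x = 0 := by
      rw [hx, hermForm_add_left, h_add_right, h_add_right, hermForm_smul_left, hermForm_smul_left,
        hermForm_smul_right, hermForm_smul_right, hyy, hx₀y, hx₀y']
      linear_combination hc
    have hxW : ∀ w' ∈ W, hermForm N F q w' x = 0 := by
      intro w' hw'
      rw [hx, h_add_right, hermForm_smul_right, hx₀W w' hw', hyperp w' hw', mul_zero, add_zero]
    have h1 := hcase _ (hSinv A⁻¹ (M.inv_mem hA) x (hSperp x hxx hxW)) w hw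
    have h2 := herm_mt A w (mt A⁻¹ *ᵥ x)
    rw [mt_inv_mulVec, h1, ← hy] at h2
    have h3 : hermForm N F q y x = 1 := by
      rw [hx, h_add_right, hermForm_smul_right, hyy, hx₀y, mul_zero, add_zero]
    rw [h3] at h2
    exact one_ne_zero h2
  · right
    push Not at hcase
    obtain ⟨u, hu, w₀, hw₀, huw₀⟩ := hcase
    have hall : ∀ y : Fin N → F, hermForm N F q y y = 0 → S y := by
      intro y hyy
      by_cases hy : ∀ w ∈ W, hermForm N F q w y = 0
      · exact hSperp y hyy hy
      · push Not at hy
        obtain ⟨w₁, hw₁, hyw₁⟩ := hy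
        -- a vector of `W` not orthogonal to both `u` and `y`
        have ha : ∃ a ∈ W, hermForm N F q a u ≠ 0 ∧ hermForm N F q a y ≠ 0 := by
          by_cases h1 : hermForm N F q w₀ y ≠ 0
          · exact ⟨w₀, hw₀, huw₀, h1⟩
          · push Not at h1
            by_cases h2 : hermForm N F q w₁ u ≠ 0
            · exact ⟨w₁, hw₁, h2, hyw₁⟩
            · push Not at h2
              refine ⟨w₀ + w₁, W.add_mem hw₀ hw₁, ?_, ?_⟩
              · rw [hermForm_add_left, h2, add_zero]; exact huw₀
              · rw [hermForm_add_left, h1, zero_add]; exact hyw₁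
        obtain ⟨a, haW, hau, hay⟩ := ha
        have haa : hermForm N F q a a = 0 := hW a haW a haW
        have hua : hermForm N F q u a ≠ 0 := herm_swap_ne_zero hau
        have hya : hermForm N F q y a ≠ 0 := herm_swap_ne_zero hay
        set l : F := hermForm N F q u a / hermForm N F q y a with hl
        have hl0 : l ≠ 0 := div_ne_zero hua hya
        have hly : hermForm N F q (l • y) (l • y) = 0 := by
          rw [hermForm_smul_left, hermForm_smul_right, hyy, mul_zero, mul_zero]
        have hlya : hermForm N F q (l • y) a = hermForm N F q u a := by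
          rw [hermForm_smul_left, hl, div_mul_cancel₀ _ hya]
        obtain ⟨b, c, hba, hc, hs⟩ := exists_sgG haa hu.1 hly hua hlya
        have hsM : sgG haa hba hc ∈ M := by
          apply hPM
          apply stab_of_mapsTo
          intro x hx
          rw [sgG_mulVec, hW x hx a haW, zero_smul, add_zero]
          exact W.sub_mem hx (W.smul_mem _ haW)
        have h1 := hSinv _ hsM u hu
        rw [hs] at h1
        refine ⟨hyy, fun s hs' => ?_⟩
        have hfix : (l * l ^ q) ^ q = l * l ^ q := by rw [mul_pow, bb]; ring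
        have hll0 : l * l ^ q ≠ 0 := mul_ne_zero hl0 (pow_ne_zero q hl0)
        have hs'' : (s / (l * l ^ q)) ^ q + s / (l * l ^ q) = 0 := by
          rw [div_pow, hfix, ← add_div, hs', zero_div]
        have h2 := h1.2 _ hs''
        rw [TU_smul hyy hs'', div_mul_cancel₀ _ hll0] at h2
        exact h2
    rw [eq_top_iff, ← Tsub_eq_top N hN h32]
    unfold Tsub
    rw [Subgroup.closure_le]
    rintro g ⟨p, s, hp, hs, rfl⟩
    exact (hall p hp).2 s hs

end Cfsg.Agent.Helper7.SUMax
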