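import Mathlib
import Cfsg.Agent.Helper7.SUMaxA

set_option autoImplicit false
set_option linter.unusedSectionVars false

/-! Non-degenerate subspaces of the unitary space: orthonormal bases, and the standard position
(helper7). -/

namespace Cfsg.Agent.Helper7.SUNd

open Matrix Module Cfsg Cfsg.Agent.Helper7.Herm Cfsg.Agent.Helper8.GUOrder Cfsg.Agent.Helper8.SURoot
  Cfsg.Agent.Helper8.AutSU

variable {F : Type*} [Field F] [Fintype F] {q N k m : ℕ} [hF : Fact (Fintype.card F = q ^ 2)]

/-- non-degeneracy of a subspace, one-sided. -/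
def NDeg (q : ℕ) (W : Submodule F (Fin N → F)) : Prop :=
  ∀ w ∈ W, w ≠ 0 → ∃ x ∈ W, hermForm N F q w x ≠ 0

theorem exists_aniso {W : Submodule F (Fin N → F)} (hW : NDeg q W) (hW0 : W ≠ ⊥) :
    ∃ w ∈ W, hermForm N F q w w ≠ 0 := by
  by_contra hcon
  push Not at hcon
  obtain ⟨x, hxW, hx0⟩ := (Submodule.ne_bot_iff W).mp hW0
  obtain ⟨y, hyW, hxy⟩ := hW x hxW hx0
  set c := hermForm N F q x y with hc
  have hyx : hermForm N F q y x = c ^ q := h_swap _ _
  have hcq0 : c ^ q ≠ 0 := pow_ne_zero q hxy
  obtain ⟨μ, hμ⟩ := exists_trace (F := F) (q := q) (c := 1) (one_pow q)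
  have h1 := hcon (x + (μ / c ^ q) • y) (W.add_mem hxW (W.smul_mem _ hyW))
  rw [hermForm_add_left, h_add_right, h_add_right, hermForm_smul_left, hermForm_smul_left,
    hermForm_smul_right, hermForm_smul_right, hcon x hxW, hcon y hyW, hyx, ← hc, div_pow, bb] at h1
  have h2 : μ ^ q / c * c = μ ^ q := div_mul_cancel₀ _ hxy
  have h3 : μ / c ^ q * c ^ q = μ := div_mul_cancel₀ _ hcq0
  have : μ ^ q + μ = 0 := by
    rw [h2, h3] at h1
    linear_combination h1
  rw [hμ] at this
  exact one_ne_zero this

theorem exists_unit {W : Submodule F (Fin N → F)} (hW : NDeg q W) (hW0 : W ≠ ⊥) :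
    ∃ w ∈ W, hermForm N F q w w = 1 := by
  obtain ⟨w, hwW, hw⟩ := exists_aniso hW hW0
  have hfix : ((hermForm N F q w w)⁻¹) ^ q = (hermForm N F q w w)⁻¹ := by
    rw [inv_pow, h_self_fixed]
  obtain ⟨l, hl⟩ := exists_norm hF.out (inv_ne_zero hw) hfix
  refine ⟨l • w, W.smul_mem _ hwW, ?_⟩
  rw [hermForm_smul_left, hermForm_smul_right, ← mul_assoc, hl, inv_mul_cancel₀ hw]

/-- the part of `W` orthogonal to `w`. -/
def cutS (q : ℕ) (W : Submodule F (Fin N → F)) (w : Fin N → F) : Submodule F (Fin N → F) where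
  carrier := {x | x ∈ W ∧ hermForm N F q x w = 0}
  add_mem' := by
    rintro a b ⟨ha, ha'⟩ ⟨hb, hb'⟩
    exact ⟨W.add_mem ha hb, by rw [hermForm_add_left, ha', hb', add_zero]⟩
  zero_mem' := ⟨W.zero_mem, hermForm_zero_left _⟩
  smul_mem' := by
    rintro c a ⟨ha, ha'⟩
    exact ⟨W.smul_mem c ha, by rw [hermForm_smul_left, ha', mul_zero]⟩

theorem mem_cutS {W : Submodule F (Fin N → F)} {w x : Fin N → F} :
    x ∈ cutS q W w ↔ x ∈ W ∧ hermForm N F q x w = 0 := Iff.rfl

theorem sub_mem_cutS {W : Submodule F (Fin N → F)} {w : Fin N → F} (hw : w ∈ W)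
    (hww : hermForm N F q w w = 1) {x : Fin N → F} (hx : x ∈ W) :
    x - hermForm N F q x w • w ∈ cutS q W w := by
  refine ⟨W.sub_mem hx (W.smul_mem _ hw), ?_⟩
  rw [hermForm_sub_left, hermForm_smul_left, hww, mul_one, sub_self]

theorem ndeg_cutS {W : Submodule F (Fin N → F)} (hW : NDeg q W) {w : Fin N → F} (hw : w ∈ W)
    (hww : hermForm N F q w w = 1) : NDeg q (cutS q W w) := by
  intro x hx hx0
  obtain ⟨y, hyW, hxy⟩ := hW x hx.1 hx0
  refine ⟨y - hermForm N F q y w • w, sub_mem_cutS hw hww hyW, ?_⟩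
  rw [h_sub_right, hermForm_smul_right, hx.2, mul_zero, sub_zero]
  exact hxy

theorem finrank_cutS {W : Submodule F (Fin N → F)} {w : Fin N → F} (hw : w ∈ W)
    (hww : hermForm N F q w w = 1) : finrank F (cutS q W w) + 1 = finrank F W := by
  have hw0 : w ≠ 0 := by
    rintro rfl
    rw [hermForm_zero_left] at hww
    exact zero_ne_one hww
  have hsup : cutS q W w ⊔ Submodule.span F {w} = W := by
    apply le_antisymm
    · apply sup_le
      · exact fun x hx => hx.1
      · rw [Submodule.span_singleton_le_iff_mem]; exact hw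
    · intro x hx
      have : x = (x - hermForm N F q x w • w) + hermForm N F q x w • w := by abel
      rw [this]
      exact Submodule.add_mem_sup (sub_mem_cutS hw hww hx)
        (Submodule.smul_mem _ _ (Submodule.mem_span_singleton_self w))
  have hinf : cutS q W w ⊓ Submodule.span F {w} = ⊥ := by
    rw [eq_bot_iff]
    rintro x ⟨hx1, hx2⟩
    obtain ⟨c, rfl⟩ := Submodule.mem_span_singleton.mp hx2
    have := hx1.2
    rw [hermForm_smul_left, hww, mul_one] at this
    rw [this, zero_smul]
    exact Submodule.zero_mem _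
  have h := Submodule.finrank_sup_add_finrank_inf_eq (cutS q W w) (Submodule.span F {w})
  rw [hsup, hinf, finrank_bot, add_zero, finrank_span_singleton hw0] at h
  exact h.symm

/-- **orthonormal bases** of non-degenerate subspaces. -/
theorem exists_onb : ∀ (k : ℕ) (W : Submodule F (Fin N → F)), NDeg q W → finrank F W = k →
    ∃ b : Fin k → (Fin N → F), (∀ i, b i ∈ W) ∧
      ∀ i j, hermForm N F q (b i) (b j) = if i = j then 1 else 0 := by
  intro k
  induction k with
  | zero =>
    intro W _ _
    exact ⟨fun i => i.elim0, fun i => i.elim0, fun i => i.elim0⟩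
  | succ k ih =>
    intro W hW hk
    have hW0 : W ≠ ⊥ := by
      rintro rfl
      rw [finrank_bot] at hk
      omega
    obtain ⟨w, hwW, hww⟩ := exists_unit hW hW0
    have hk' : finrank F (cutS q W w) = k := by
      have := finrank_cutS (q := q) hwW hww
      omega
    obtain ⟨b', hb'W, hb'⟩ := ih (cutS q W w) (ndeg_cutS hW hwW hww) hk'
    refine ⟨Fin.cons w b', ?_, ?_⟩
    · intro i
      refine Fin.cases ?_ (fun i => ?_) i
      · rw [Fin.cons_zero]; exact hwW
      · rw [Fin.cons_succ]; exact (hb'W i).1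
    · intro i j
      refine Fin.cases ?_ (fun i => ?_) i <;> refine Fin.cases ?_ (fun j => ?_) j
      · rw [Fin.cons_zero, hww, if_pos rfl]
      · rw [Fin.cons_zero, Fin.cons_succ, if_neg (Fin.succ_ne_zero j).symm]
        exact h_eq_zero_of_swap (hb'W j).2
      · rw [Fin.cons_zero, Fin.cons_succ, if_neg (Fin.succ_ne_zero i)]
        exact (hb'W i).2
      · rw [Fin.cons_succ, Fin.cons_succ, hb' i j]
        simp only [Fin.succ_inj]

/-- an orthonormal family is linearly independent. -/
theorem linearIndependent_of_onb {b : Fin k → (Fin N → F)}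
    (hb : ∀ i j, hermForm N F q (b i) (b j) = if i = j then 1 else 0) : LinearIndependent F b := by
  rw [Fintype.linearIndependent_iff]
  intro c hc j
  have h1 := congrArg (fun x => hermForm N F q x (b j)) hc
  beta_reduce at h1
  rw [hermForm_zero_left] at h1
  have h2 : hermForm N F q (∑ i, c i • b i) (b j) = ∑ i, c i * hermForm N F q (b i) (b j) := by
    have : ∀ s : Finset (Fin k), hermForm N F q (∑ i ∈ s, c i • b i) (b j) =
        ∑ i ∈ s, c i * hermForm N F q (b i) (b j) := by
      intro s
      induction s using Finset.induction_on with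
      | empty => simp [hermForm_zero_left]
      | insert a s ha ih =>
        rw [Finset.sum_insert ha, Finset.sum_insert ha, hermForm_add_left, hermForm_smul_left, ih]
    exact this _
  rw [h2, Finset.sum_eq_single j] at h1
  · rw [hb, if_pos rfl, mul_one] at h1
    exact h1
  · intro i _ hij
    rw [hb, if_neg hij, mul_zero]
  · intro h
    exact absurd (Finset.mem_univ j) h

end Cfsg.Agent.Helper7.SUNd
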