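import Mathlib
import Cfsg.Agent.Helper7.Ex27I
import Cfsg.Agent.Helper7.SUNdA

set_option autoImplicit false
set_option linter.unusedSectionVars false

/-!
The explicit generators of `3^{1+2}` and the explicit elements of its normaliser are unitary.
-/

namespace Cfsg.Agent.Helper7.Ex27

open Matrix Cfsg Cfsg.Agent.Helper7.Singer Cfsg.Agent.Helper7.Herm Cfsg.Agent.Helper8.GUOrder
  Cfsg.Agent.Helper8.AutSU

variable {F : Type*} [Field F] [Fintype F] {q : ℕ} [hF : Fact (Fintype.card F = q ^ 2)]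

omit hF in
theorem q_ne_zero (hK : Fintype.card F = q ^ 2) : q ≠ 0 := by
  have := two_le_q hK
  omega

theorem dg_mem_GU (d : Fin 3 → Fˣ) (hd : ∀ i, (d i : F) ^ (q + 1) = 1) : dg d ∈ GU 3 F q := by
  rw [mem_GU_iff hF.out, dg_val, Matrix.diagonal_transpose, Matrix.diagonal_map
    (f := fun x : F => x ^ q) (zero_pow (q_ne_zero hF.out)), Matrix.diagonal_mul_diagonal]
  rw [← Matrix.diagonal_one]
  congr 1
  funext i
  rw [← pow_succ']
  exact hd i

theorem sg_mem_GU (c : Fˣ) (hc : (c : F) ^ (q + 1) = 1) : sg c ∈ GU 3 F q := by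
  have : sg c = dg (fun _ => c) := by
    apply Units.ext
    rw [sg_val, dg_val]
    ext i j
    simp [Matrix.diagonal_apply, Matrix.one_apply]
  rw [this]
  exact dg_mem_GU _ (fun _ => hc)

theorem Yg_mem_GU : (Yg : GL (Fin 3) F) ∈ GU 3 F q := by
  have hq0 : q ≠ 0 := q_ne_zero hF.out
  rw [mem_GU_iff hF.out, Yg_val]
  ext i j
  fin_cases i <;> fin_cases j <;>
    simp [Ym, Matrix.mul_apply, Fin.sum_univ_three, Matrix.transpose_apply, Matrix.map_apply,
      zero_pow hq0]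

theorem Tg_mem_GU (hodd : (-1 : F) ^ (q + 1) = 1) : (Tg : GL (Fin 3) F) ∈ GU 3 F q := by
  have hq0 : q ≠ 0 := q_ne_zero hF.out
  have h1 : (-1 : F) * (-1) ^ q = 1 := by rw [← pow_succ']; exact hodd
  rw [mem_GU_iff hF.out, Tg_val]
  ext i j
  fin_cases i <;> fin_cases j <;>
    simp [Tm, Matrix.mul_apply, Fin.sum_univ_three, Matrix.transpose_apply, Matrix.map_apply,
      zero_pow hq0] <;> first | linear_combination h1 | linear_combination (-1 : F) * h1

theorem Xg_mem_GU (ω : F) (hω : ω ^ 2 + ω + 1 = 0) (hωq : ω ^ (q + 1) = 1) :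
    Xg ω hω ∈ GU 3 F q := by
  have : Xg ω hω = dg ![1, ωu ω hω, ωu ω hω ^ 2] := by
    apply Units.ext
    rw [Xg_val, dg_val]
    ext i j
    fin_cases i <;> fin_cases j <;> simp [Xm, Matrix.diagonal_apply]
  rw [this]
  apply dg_mem_GU
  intro i
  fin_cases i
  · simp
  · simpa using hωq
  · simp only [Fin.reduceFinMk, Matrix.cons_val_two, Matrix.tail_cons, Matrix.head_cons,
      Units.val_pow_eq_pow_val, ωu_val]
    rw [← pow_mul, mul_comm, pow_mul, hωq, one_pow]

theorem R0_le_GU (ω : F) (hω : ω ^ 2 + ω + 1 = 0) (hωq : ω ^ (q + 1) = 1) :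
    R0 ω hω ≤ GU 3 F q := by
  unfold R0
  rw [Subgroup.closure_le]
  intro n hn
  rcases hn with rfl | hn
  · exact Xg_mem_GU ω hω hωq
  · rw [Set.mem_singleton_iff] at hn
    rw [hn]
    exact Yg_mem_GU

/-- A unitary matrix preserves the form. -/
theorem herm_GU {g : GL (Fin 3) F} (hg : g ∈ GU 3 F q) (u v : Fin 3 → F) :
    hermForm 3 F q ((g : Matrix (Fin 3) (Fin 3) F) *ᵥ u) ((g : Matrix (Fin 3) (Fin 3) F) *ᵥ v) =
      hermForm 3 F q u v := hg u v

/-- Eigenvectors of a unitary matrix with eigenvalues `β`, `γ`, `β γ^q ≠ 1`, are orthogonal. -/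
theorem herm_eigvec_zero {g : GL (Fin 3) F} (hg : g ∈ GU 3 F q) (β γ : F) (hβγ : β * γ ^ q ≠ 1)
    (u v : Fin 3 → F) (hu : (g : Matrix (Fin 3) (Fin 3) F) *ᵥ u = β • u)
    (hv : (g : Matrix (Fin 3) (Fin 3) F) *ᵥ v = γ • v) : hermForm 3 F q u v = 0 := by
  have h := herm_GU hg u v
  rw [hu, hv, hermForm_smul_left, hermForm_smul_right, ← mul_assoc] at h
  have : (β * γ ^ q - 1) * hermForm 3 F q u v = 0 := by linear_combination h
  exact (mul_eq_zero.1 this).resolve_left (sub_ne_zero.2 hβγ)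

end Cfsg.Agent.Helper7.Ex27
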