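import Mathlib
import Cfsg.Prelude.Def_GeometricClasses

set_option autoImplicit false

/-! # Tensor-product subgroups: coordinates, pure tensors, Gram forms -/

namespace Cfsg.Agent.Helper7.TensNM

open Matrix Cfsg Cfsg.Geo
open scoped Kronecker

variable {F : Type*} [Field F]

section pure

variable {I J : Type} [Fintype I] [Fintype J] [DecidableEq I] [DecidableEq J]

/-- The pure tensor `u ⊗ y` in coordinates. -/
def pt (u : I → F) (y : J → F) : I × J → F := fun a => u a.1 * y a.2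

theorem pt_apply (u : I → F) (y : J → F) (a : I × J) : pt u y a = u a.1 * y a.2 := rfl

theorem pt_add_right (u : I → F) (y y' : J → F) : pt u (y + y') = pt u y + pt u y' := by
  ext a; simp only [pt_apply, Pi.add_apply]; ring

theorem pt_add_left (u u' : I → F) (y : J → F) : pt (u + u') y = pt u y + pt u' y := by
  ext a; simp only [pt_apply, Pi.add_apply]; ring

theorem pt_smul_right (c : F) (u : I → F) (y : J → F) : pt u (c • y) = c • pt u y := by
  ext a; simp only [pt_apply, Pi.smul_apply, smul_eq_mul]; ring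

theorem pt_smul_left (c : F) (u : I → F) (y : J → F) : pt (c • u) y = c • pt u y := by
  ext a; simp only [pt_apply, Pi.smul_apply, smul_eq_mul]; ring

theorem pt_zero_right (u : I → F) : pt u (0 : J → F) = 0 := by
  ext a; simp [pt_apply]

theorem kron_mulVec_pt (B : Matrix I I F) (A : Matrix J J F) (u : I → F) (y : J → F) :
    (B ⊗ₖ A) *ᵥ pt u y = pt (B *ᵥ u) (A *ᵥ y) := by
  ext a
  obtain ⟨i, j⟩ := a
  simp only [Matrix.mulVec, dotProduct, pt_apply, Matrix.kroneckerMap_apply]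
  rw [Fintype.sum_prod_type, Finset.sum_mul_sum]
  refine Finset.sum_congr rfl fun i' _ => Finset.sum_congr rfl fun j' _ => ?_
  ring

theorem formOfGram_pt (σ : F →+* F) (G₁ : Matrix I I F) (G₂ : Matrix J J F)
    (u u' : I → F) (y y' : J → F) :
    formOfGram σ (G₁ ⊗ₖ G₂) (pt u y) (pt u' y') = formOfGram σ G₁ u u' * formOfGram σ G₂ y y' := by
  unfold formOfGram
  simp only [pt_apply, Matrix.kroneckerMap_apply, map_mul, Fintype.sum_prod_type, Finset.sum_mul_sum]
  refine Finset.sum_congr rfl fun i _ => Finset.sum_congr rfl fun j _ => ?_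
  refine Finset.sum_congr rfl fun i' _ => Finset.sum_congr rfl fun j' _ => ?_
  ring

end pure


section coords

variable {ι : Type} [Fintype ι] [DecidableEq ι] {n₁ n₂ : ℕ}

/-- The coordinate matrix `x ↦ P (x ∘ e)`. -/
def Rm (e : ι ≃ Fin n₁ × Fin n₂) (P : GL ι F) : Matrix ι (Fin n₁ × Fin n₂) F :=
  (P : Matrix ι ι F).submatrix id e.symm

/-- Its inverse. -/
def Rm' (e : ι ≃ Fin n₁ × Fin n₂) (P : GL ι F) : Matrix (Fin n₁ × Fin n₂) ι F :=
  ((P⁻¹ : GL ι F) : Matrix ι ι F).submatrix e.symm id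

theorem Rm_mul_Rm' (e : ι ≃ Fin n₁ × Fin n₂) (P : GL ι F) : Rm e P * Rm' e P = 1 := by
  unfold Rm Rm'
  rw [Matrix.submatrix_mul_equiv, ← Units.val_mul, mul_inv_cancel, Units.val_one, Matrix.submatrix_id_id]

theorem Rm'_mul_Rm (e : ι ≃ Fin n₁ × Fin n₂) (P : GL ι F) : Rm' e P * Rm e P = 1 := by
  unfold Rm Rm'
  have h := Matrix.submatrix_mul_equiv ((P⁻¹ : GL ι F) : Matrix ι ι F) (P : Matrix ι ι F) e.symm (Equiv.refl ι) e.symm
  rw [Equiv.coe_refl] at h
  rw [h, ← Units.val_mul, inv_mul_cancel, Units.val_one, Matrix.submatrix_one_equiv]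

theorem mulVec_comp (e : ι ≃ Fin n₁ × Fin n₂) (P : GL ι F) (x : Fin n₁ × Fin n₂ → F) :
    (P : Matrix ι ι F) *ᵥ (x ∘ e) = Rm e P *ᵥ x := by
  unfold Rm
  ext i
  simp only [Matrix.mulVec, dotProduct, Matrix.submatrix_apply, id_eq, Function.comp_apply]
  rw [← Equiv.sum_comp e]
  simp

theorem mem_tensor {e : ι ≃ Fin n₁ × Fin n₂} {P : GL ι F} {g : GL ι F}
    (hg : g ∈ tensorProductSubgroup n₁ n₂ e P) :
    ∃ (a : GL (Fin n₁) F) (b : GL (Fin n₂) F),
      (g : Matrix ι ι F) = Rm e P * ((a : Matrix (Fin n₁) (Fin n₁) F) ⊗ₖ (b : Matrix (Fin n₂) (Fin n₂) F)) * Rm' e P := by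
  unfold tensorProductSubgroup at hg
  rw [Subgroup.mem_map] at hg
  obtain ⟨k', hk', rfl⟩ := hg
  rw [Subgroup.mem_map] at hk'
  obtain ⟨k, hk, rfl⟩ := hk'
  obtain ⟨a, b, hab⟩ := hk
  refine ⟨a, b, ?_⟩
  rw [← hab]
  have h1 : ((glReindex (F := F) e.symm k : GL ι F) : Matrix ι ι F) = (k : Matrix _ _ F).submatrix e e := by
    rfl
  have h2 : (k : Matrix (Fin n₁ × Fin n₂) (Fin n₁ × Fin n₂) F) =
      ((k : Matrix _ _ F).submatrix e e).submatrix e.symm e.symm := by
    ext a b; simp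
  change ((P * glReindex (F := F) e.symm k * P⁻¹ : GL ι F) : Matrix ι ι F) = _
  rw [Units.val_mul, Units.val_mul, h1]
  unfold Rm Rm'
  rw [h2, Matrix.submatrix_mul_equiv, Matrix.submatrix_mul_equiv, ← h2]
  simp

end coords

end Cfsg.Agent.Helper7.TensNM
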