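import Mathlib
import Cfsg.Agent.Helper7.TensNMA

set_option autoImplicit false

/-! # Tensor-product subgroups whose small factor is monomial: the block decomposition -/

namespace Cfsg.Agent.Helper7.TensNM

open Matrix Cfsg Cfsg.Geo
open scoped Kronecker

variable {F : Type*} [Field F] {ι : Type} [Fintype ι] [DecidableEq ι] {t : ℕ}
  {J : Type} [Fintype J] [DecidableEq J]

/-- Coordinate vectors supported on the block `l`. -/
def supp (F : Type*) [Field F] (J : Type) {t : ℕ} (l : Fin t) : Submodule F (Fin t × J → F) where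
  carrier := {x | ∀ a : Fin t × J, a.1 ≠ l → x a = 0}
  add_mem' := by
    intro x y hx hy a ha
    rw [Pi.add_apply, hx a ha, hy a ha, add_zero]
  zero_mem' := by
    intro a _
    rfl
  smul_mem' := by
    intro c x hx a ha
    rw [Pi.smul_apply, hx a ha, smul_zero]

theorem mem_supp {l : Fin t} {x : Fin t × J → F} : x ∈ supp F J l ↔ ∀ a : Fin t × J, a.1 ≠ l → x a = 0 :=
  Iff.rfl

/-- The standard basis vector of the small factor. -/
def ev (F : Type*) [Field F] {t : ℕ} (l : Fin t) : Fin t → F := Pi.single l 1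

theorem ev_apply (l k : Fin t) : ev F l k = if k = l then 1 else 0 := by
  unfold ev
  rw [Pi.single_apply]

theorem pt_ev_mem (l : Fin t) (y : J → F) : pt (ev F l) y ∈ supp F J l := by
  intro a ha
  rw [pt_apply, ev_apply, if_neg ha, zero_mul]

theorem eq_pt_of_mem {l : Fin t} {x : Fin t × J → F} (hx : x ∈ supp F J l) :
    x = pt (ev F l) (fun j => x (l, j)) := by
  ext a
  obtain ⟨k, j⟩ := a
  rw [pt_apply, ev_apply]
  by_cases hk : k = l
  · subst hk
    simp
  · rw [if_neg hk, zero_mul]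
    exact hx (k, j) hk

/-- The blocks of the decomposition. -/
def blk (R : Matrix ι (Fin t × J) F) (l : Fin t) : Submodule F (ι → F) :=
  (supp F J l).map (Matrix.mulVecLin R)

theorem mem_blk {R : Matrix ι (Fin t × J) F} {l : Fin t} {v : ι → F} :
    v ∈ blk R l ↔ ∃ y : J → F, v = R *ᵥ pt (ev F l) y := by
  unfold blk
  rw [Submodule.mem_map]
  constructor
  · rintro ⟨x, hx, rfl⟩
    exact ⟨_, by rw [Matrix.mulVecLin_apply]; exact congrArg _ (eq_pt_of_mem hx)⟩
  · rintro ⟨y, rfl⟩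
    exact ⟨_, pt_ev_mem l y, by rw [Matrix.mulVecLin_apply]⟩

/-- The hypotheses on the coordinates: `R` is invertible and carries the form `f` to `c` times the orthogonal sum of
`t` copies of the form with Gram matrix `G₂`. -/
structure Frame (R : Matrix ι (Fin t × J) F) (R' : Matrix (Fin t × J) ι F) (σ : F →+* F)
    (f : (ι → F) → (ι → F) → F) (G₂ : Matrix J J F) (c : F) : Prop where
  RR' : R * R' = 1
  R'R : R' * R = 1
  c_ne : c ≠ 0
  form : ∀ (u u' : Fin t → F) (y y' : J → F),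
    f (R *ᵥ pt u y) (R *ᵥ pt u' y') = c * ((∑ k, u k * σ (u' k)) * formOfGram σ G₂ y y')
  nz : ∃ y y', formOfGram σ G₂ y y' ≠ 0

namespace Frame

variable {R : Matrix ι (Fin t × J) F} {R' : Matrix (Fin t × J) ι F} {σ : F →+* F}
  {f : (ι → F) → (ι → F) → F} {G₂ : Matrix J J F} {c : F}

theorem R'_mulVec_R (h : Frame R R' σ f G₂ c) (x : Fin t × J → F) : R' *ᵥ (R *ᵥ x) = x := by
  rw [Matrix.mulVec_mulVec, h.R'R, Matrix.one_mulVec]

theorem R_mulVec_R' (h : Frame R R' σ f G₂ c) (v : ι → F) : R *ᵥ (R' *ᵥ v) = v := by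
  rw [Matrix.mulVec_mulVec, h.RR', Matrix.one_mulVec]

theorem R_inj (h : Frame R R' σ f G₂ c) {x y : Fin t × J → F} (hxy : R *ᵥ x = R *ᵥ y) : x = y := by
  rw [← h.R'_mulVec_R x, hxy, h.R'_mulVec_R]

theorem formOfGram_one (u u' : Fin t → F) :
    formOfGram σ (1 : Matrix (Fin t) (Fin t) F) u u' = ∑ k, u k * σ (u' k) := by
  unfold formOfGram
  refine Finset.sum_congr rfl fun k _ => ?_
  rw [Finset.sum_eq_single k]
  · rw [Matrix.one_apply_eq, mul_one]
  · intro b _ hb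
    rw [Matrix.one_apply_ne (Ne.symm hb), mul_zero, zero_mul]
  · intro hk
    exact absurd (Finset.mem_univ k) hk

theorem form_pt (h : Frame R R' σ f G₂ c) (u u' : Fin t → F) (y y' : J → F) :
    f (R *ᵥ pt u y) (R *ᵥ pt u' y') = c * ((∑ k, u k * σ (u' k)) * formOfGram σ G₂ y y') :=
  h.form u u' y y'

theorem form_ev (h : Frame R R' σ f G₂ c) (l l' : Fin t) (y y' : J → F) :
    f (R *ᵥ pt (ev F l) y) (R *ᵥ pt (ev F l') y') =
      if l = l' then c * formOfGram σ G₂ y y' else 0 := by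
  rw [h.form_pt]
  have : (∑ k, ev F l k * σ (ev F l' k)) = if l = l' then 1 else 0 := by
    rw [Finset.sum_eq_single l]
    · rw [ev_apply, if_pos rfl, one_mul, ev_apply]
      split_ifs <;> simp
    · intro b _ hb
      rw [ev_apply, if_neg hb, zero_mul]
    · intro hk
      exact absurd (Finset.mem_univ l) hk
  rw [this]
  split_ifs <;> simp

/-- The action of an element of the tensor subgroup in coordinates. -/
theorem act (h : Frame R R' σ f G₂ c) {g : GL ι F} {B : Matrix (Fin t) (Fin t) F} {A : Matrix J J F}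
    (hg : (g : Matrix ι ι F) = R * (B ⊗ₖ A) * R') (x : Fin t × J → F) :
    (g : Matrix ι ι F) *ᵥ (R *ᵥ x) = R *ᵥ ((B ⊗ₖ A) *ᵥ x) := by
  rw [hg, Matrix.mulVec_mulVec, Matrix.mul_assoc, h.R'R, Matrix.mul_one, ← Matrix.mulVec_mulVec]

theorem act_pt (h : Frame R R' σ f G₂ c) {g : GL ι F} {B : Matrix (Fin t) (Fin t) F} {A : Matrix J J F}
    (hg : (g : Matrix ι ι F) = R * (B ⊗ₖ A) * R') (u : Fin t → F) (y : J → F) :
    (g : Matrix ι ι F) *ᵥ (R *ᵥ pt u y) = R *ᵥ pt (B *ᵥ u) (A *ᵥ y) := by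
  rw [h.act hg, kron_mulVec_pt]

theorem mulVec_ev (B : Matrix (Fin t) (Fin t) F) (l k : Fin t) : (B *ᵥ ev F l) k = B k l := by
  unfold ev
  rw [Matrix.mulVec_single_one]
  rfl

/-- An isometry in the tensor subgroup has a small factor which is a similarity of the standard form. -/
theorem sim (h : Frame R R' σ f G₂ c) {g : GL ι F} {B : Matrix (Fin t) (Fin t) F} {A : Matrix J J F}
    (hg : (g : Matrix ι ι F) = R * (B ⊗ₖ A) * R')
    (hiso : ∀ x y, f ((g : Matrix ι ι F) *ᵥ x) ((g : Matrix ι ι F) *ᵥ y) = f x y) (l₀ : Fin t) :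
    ∃ μ : F, μ ≠ 0 ∧ ∀ l l' : Fin t, (∑ k, B k l * σ (B k l')) = if l = l' then μ else 0 := by
  obtain ⟨y, y', hyy⟩ := h.nz
  have key : ∀ l l' : Fin t, (∑ k, B k l * σ (B k l')) * formOfGram σ G₂ (A *ᵥ y) (A *ᵥ y') =
      if l = l' then formOfGram σ G₂ y y' else 0 := by
    intro l l'
    have h1 := hiso (R *ᵥ pt (ev F l) y) (R *ᵥ pt (ev F l') y')
    rw [h.act_pt hg, h.act_pt hg, h.form_pt, h.form_ev] at h1
    simp only [mulVec_ev] at h1
    have hc := h.c_ne
    split_ifs at h1 ⊢ with hl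
    · exact mul_left_cancel₀ hc h1
    · rcases mul_eq_zero.mp h1 with h2 | h2
      · exact absurd h2 hc
      · exact h2
  have h0 := key l₀ l₀
  rw [if_pos rfl] at h0
  have hA : formOfGram σ G₂ (A *ᵥ y) (A *ᵥ y') ≠ 0 := by
    intro h2
    rw [h2, mul_zero] at h0
    exact hyy h0.symm
  refine ⟨formOfGram σ G₂ y y' / formOfGram σ G₂ (A *ᵥ y) (A *ᵥ y'), div_ne_zero hyy hA, ?_⟩
  intro l l'
  have h1 := key l l'
  split_ifs at h1 ⊢ with hl
  · rw [eq_div_iff hA, h1]
  · rcases mul_eq_zero.mp h1 with h2 | h2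
    · exact h2
    · exact absurd h2 hA

end Frame

/-- The monomial hypothesis on the small factor: a matrix `B` with `Bᵀ σ(B) = μ` has one non-zero entry in each column. -/
def Mono (σ : F →+* F) (t : ℕ) : Prop :=
  ∀ (B : Matrix (Fin t) (Fin t) F) (μ : F), μ ≠ 0 →
    (∀ l l' : Fin t, (∑ k, B k l * σ (B k l')) = if l = l' then μ else 0) →
    ∀ l : Fin t, ∃ k₀ : Fin t, ∀ k, k ≠ k₀ → B k l = 0

namespace Frame

variable {R : Matrix ι (Fin t × J) F} {R' : Matrix (Fin t × J) ι F} {σ : F →+* F}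
  {f : (ι → F) → (ι → F) → F} {G₂ : Matrix J J F} {c : F}

theorem mulVec_ev_of_mono {B : Matrix (Fin t) (Fin t) F} {l k₀ : Fin t}
    (hk : ∀ k, k ≠ k₀ → B k l = 0) : B *ᵥ ev F l = B k₀ l • ev F k₀ := by
  ext k
  rw [mulVec_ev, Pi.smul_apply, ev_apply, smul_eq_mul]
  by_cases h : k = k₀
  · subst h
    rw [if_pos rfl, mul_one]
  · rw [if_neg h, mul_zero, hk k h]

/-- An isometry lying in the tensor subgroup permutes the blocks. -/
theorem stab (h : Frame R R' σ f G₂ c) (hmono : Mono σ t) {g : GL ι F} {B : Matrix (Fin t) (Fin t) F}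
    {A A' : Matrix J J F} (hAA' : A * A' = 1)
    (hg : (g : Matrix ι ι F) = R * (B ⊗ₖ A) * R')
    (hiso : ∀ x y, f ((g : Matrix ι ι F) *ᵥ x) ((g : Matrix ι ι F) *ᵥ y) = f x y) :
    g ∈ decompositionStabilizer (blk R) := by
  by_cases ht : IsEmpty (Fin t)
  · exact ⟨1, fun i => (ht.false i).elim⟩
  rw [not_isEmpty_iff] at ht
  obtain ⟨l₀⟩ := ht
  obtain ⟨μ, hμ, hB⟩ := h.sim hg hiso l₀
  have hm := hmono B μ hμ hB
  choose π hπ using hm
  have hs : ∀ l, B (π l) l * σ (B (π l) l) = if l = l then μ else 0 := by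
    intro l
    rw [← hB l l]
    symm
    apply Finset.sum_eq_single (π l)
    · intro k _ hk
      rw [hπ l k hk, zero_mul]
    · intro hk
      exact absurd (Finset.mem_univ _) hk
  have hs0 : ∀ l, B (π l) l ≠ 0 := by
    intro l h0
    have := hs l
    rw [if_pos rfl, h0, zero_mul] at this
    exact hμ this.symm
  have hinj : Function.Injective π := by
    intro l l' hll
    by_contra hne
    have h1 := hB l l'
    rw [if_neg hne] at h1
    rw [Finset.sum_eq_single (π l)] at h1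
    · rcases mul_eq_zero.mp h1 with h2 | h2
      · exact hs0 l h2
      · rw [hll] at h2
        exact hs0 l' ((map_eq_zero σ).mp h2)
    · intro k _ hk
      rw [hπ l k hk, zero_mul]
    · intro hk
      exact absurd (Finset.mem_univ _) hk
  have hbij : Function.Bijective π := Finite.injective_iff_bijective.mp hinj
  refine ⟨Equiv.ofBijective π hbij, fun l => ?_⟩
  rw [Equiv.ofBijective_apply]
  apply le_antisymm
  · rintro w ⟨v, hv, rfl⟩
    obtain ⟨y, rfl⟩ := mem_blk.mp hv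
    rw [Matrix.toLin'_apply, h.act_pt hg, mulVec_ev_of_mono (hπ l), pt_smul_left, ← pt_smul_right]
    exact mem_blk.mpr ⟨_, rfl⟩
  · intro w hw
    obtain ⟨y', rfl⟩ := mem_blk.mp hw
    refine ⟨R *ᵥ pt (ev F l) ((B (π l) l)⁻¹ • (A' *ᵥ y')), mem_blk.mpr ⟨_, rfl⟩, ?_⟩
    rw [Matrix.toLin'_apply, h.act_pt hg, mulVec_ev_of_mono (hπ l), pt_smul_left, ← pt_smul_right,
      Matrix.mulVec_smul, smul_smul, mul_inv_cancel₀ (hs0 l), one_smul, Matrix.mulVec_mulVec, hAA',
      Matrix.one_mulVec]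

/-- An element of the tensor subgroup fixing one block pointwise and preserving another acts on the latter as a
scalar. -/
theorem scalar_of_fix [Nonempty J] (h : Frame R R' σ f G₂ c) {g : GL ι F} {B : Matrix (Fin t) (Fin t) F}
    {A : Matrix J J F} (hg : (g : Matrix ι ι F) = R * (B ⊗ₖ A) * R') {l₀ l₁ : Fin t}
    (hfix : ∀ v ∈ blk R l₁, (g : Matrix ι ι F) *ᵥ v = v)
    (hpres : ∀ v ∈ blk R l₀, (g : Matrix ι ι F) *ᵥ v ∈ blk R l₀) :
    ∃ s : F, ∀ v ∈ blk R l₀, (g : Matrix ι ι F) *ᵥ v = s • v := by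
  obtain ⟨j₀⟩ := (inferInstance : Nonempty J)
  have h1 : ∀ y : J → F, B l₁ l₁ • (A *ᵥ y) = y := by
    intro y
    have h2 := hfix _ (mem_blk.mpr ⟨y, rfl⟩)
    rw [h.act_pt hg] at h2
    have h3 := h.R_inj h2
    ext j
    have h4 := congrFun h3 (l₁, j)
    rw [pt_apply, pt_apply, mulVec_ev, ev_apply, if_pos rfl, one_mul] at h4
    rw [Pi.smul_apply, smul_eq_mul]
    exact h4
  have hβ : B l₁ l₁ ≠ 0 := by
    intro h0
    have h2 := congrFun (h1 (Pi.single j₀ 1)) j₀
    rw [h0, zero_smul, Pi.zero_apply, Pi.single_eq_same] at h2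
    exact zero_ne_one h2
  have hA : ∀ y : J → F, A *ᵥ y = (B l₁ l₁)⁻¹ • y := by
    intro y
    rw [← h1 y, smul_smul, inv_mul_cancel₀ hβ, one_smul, h1 y]
  have hB0 : ∀ k, k ≠ l₀ → B k l₀ = 0 := by
    intro k hk
    have h2 := hpres _ (mem_blk.mpr ⟨Pi.single j₀ 1, rfl⟩)
    rw [h.act_pt hg] at h2
    obtain ⟨z, hz⟩ := mem_blk.mp h2
    have h3 := congrFun (h.R_inj hz) (k, j₀)
    rw [pt_apply, pt_apply, mulVec_ev, ev_apply, if_neg hk, zero_mul, hA, Pi.smul_apply,
      Pi.single_eq_same, smul_eq_mul, mul_one] at h3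
    rcases mul_eq_zero.mp h3 with h4 | h4
    · exact h4
    · exact absurd h4 (inv_ne_zero hβ)
  refine ⟨B l₀ l₀ * (B l₁ l₁)⁻¹, ?_⟩
  intro v hv
  obtain ⟨y, rfl⟩ := mem_blk.mp hv
  rw [h.act_pt hg, mulVec_ev_of_mono hB0, hA, pt_smul_left, pt_smul_right, smul_smul, ← Matrix.mulVec_smul]

end Frame

end Cfsg.Agent.Helper7.TensNM
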