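import Mathlib
import Cfsg.Agent.Helper7.TensNMB

set_option autoImplicit false

/-! # Reduction of a tensor structure to frame coordinates; Gram forms -/

namespace Cfsg.Agent.Helper7.TensNM

open Matrix Cfsg Cfsg.Geo
open scoped Kronecker

variable {F : Type*} [Field F]

section gram

variable {I : Type} [Fintype I] [DecidableEq I]

theorem formOfGram_eq_dot (σ : F →+* F) (G : Matrix I I F) (x y : I → F) :
    formOfGram σ G x y = x ⬝ᵥ (G *ᵥ (σ ∘ y)) := by
  unfold formOfGram
  simp only [dotProduct, Matrix.mulVec, Function.comp_apply, Finset.mul_sum, mul_assoc]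

theorem formOfGram_mulVec (σ : F →+* F) (G M : Matrix I I F) (x y : I → F) :
    formOfGram σ G (M *ᵥ x) (M *ᵥ y) = formOfGram σ (Mᵀ * G * M.map σ) x y := by
  rw [formOfGram_eq_dot, formOfGram_eq_dot]
  have h1 : (⇑σ ∘ (M *ᵥ y)) = (M.map σ) *ᵥ (⇑σ ∘ y) := by
    ext i
    exact (RingHom.map_mulVec σ M y i)
  rw [h1, dotProduct_comm, Matrix.dotProduct_mulVec, dotProduct_comm, ← Matrix.mulVec_transpose,
    Matrix.mulVec_mulVec, Matrix.mulVec_mulVec, Matrix.mul_assoc]

theorem formOfGram_smul_mat (σ : F →+* F) (G : Matrix I I F) (ε : F) (x y : I → F) :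
    formOfGram σ (ε • G) x y = ε * formOfGram σ G x y := by
  unfold formOfGram
  simp only [Matrix.smul_apply, smul_eq_mul, Finset.mul_sum]
  refine Finset.sum_congr rfl fun a _ => Finset.sum_congr rfl fun b _ => ?_
  ring

theorem formOfGram_one' {t : ℕ} (σ : F →+* F) (u u' : Fin t → F) :
    formOfGram σ (1 : Matrix (Fin t) (Fin t) F) u u' = ∑ k, u k * σ (u' k) :=
  Frame.formOfGram_one u u'

/-- A bilinear form is the form of its Gram matrix. -/
theorem form_eq_gram {f : (I → F) → (I → F) → F} (hf : IsBilinearForm f) (x y : I → F) :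
    f x y = formOfGram (RingHom.id F) (gramMatrix f) x y := by
  have hsumL : ∀ (s : Finset I) (g : I → (I → F)) (v : I → F), f (∑ i ∈ s, g i) v = ∑ i ∈ s, f (g i) v := by
    intro s g v
    induction s using Finset.induction_on with
    | empty =>
      simp only [Finset.sum_empty]
      have := hf.smul_left 0 0 v
      simpa using this
    | insert a s ha ih => rw [Finset.sum_insert ha, Finset.sum_insert ha, hf.add_left, ih]
  have hsumR : ∀ (s : Finset I) (g : I → (I → F)) (v : I → F), f v (∑ i ∈ s, g i) = ∑ i ∈ s, f v (g i) := by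
    intro s g v
    induction s using Finset.induction_on with
    | empty =>
      simp only [Finset.sum_empty]
      have := hf.smul_right 0 v 0
      simpa using this
    | insert a s ha ih => rw [Finset.sum_insert ha, Finset.sum_insert ha, hf.add_right, ih]
  have hx : x = ∑ i, x i • (Pi.single i 1 : I → F) := by
    ext j
    simp [Finset.sum_apply, Pi.single_apply]
  have hy : y = ∑ i, y i • (Pi.single i 1 : I → F) := by
    ext j
    simp [Finset.sum_apply, Pi.single_apply]
  conv_lhs => rw [hx, hsumL]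
  unfold formOfGram gramMatrix
  refine Finset.sum_congr rfl fun a _ => ?_
  rw [hf.smul_left]
  conv_lhs => rw [hy, hsumR, Finset.mul_sum]
  refine Finset.sum_congr rfl fun b _ => ?_
  rw [hf.smul_right, RingHom.id_apply]
  ring

end gram

section gram2

variable {I : Type} [Fintype I] [DecidableEq I]

theorem gram_transpose {f : (I → F) → (I → F) → F} (hs : ∀ u v, f u v = f v u) :
    (gramMatrix f)ᵀ = gramMatrix f := by
  ext a b
  rw [Matrix.transpose_apply]
  unfold gramMatrix
  exact hs _ _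

theorem toBilin'_gram {f : (I → F) → (I → F) → F} (hf : IsBilinearForm f) (x y : I → F) :
    Matrix.toBilin' (gramMatrix f) x y = f x y := by
  rw [Matrix.toBilin'_apply', form_eq_gram hf, formOfGram_eq_dot]
  rfl

theorem gram_nondegenerate {f : (I → F) → (I → F) → F} (hf : IsBilinearForm f)
    (hnd : IsNondegenerateForm f) : (Matrix.toBilin' (gramMatrix f)).Nondegenerate := by
  constructor
  · intro x hx
    by_contra h0
    obtain ⟨y, hy⟩ := (hnd x h0).2
    exact hy (by rw [← toBilin'_gram hf]; exact hx y)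
  · intro y hy
    by_contra h0
    obtain ⟨x, hx⟩ := (hnd y h0).1
    exact hx (by rw [← toBilin'_gram hf]; exact hy x)

end gram2

section reduce

variable {ι : Type} [Fintype ι] [DecidableEq ι] {t : ℕ} {J : Type} [Fintype J] [DecidableEq J]

/-- Passing to frame coordinates. -/
theorem frame_of {R₀ : Matrix ι (Fin t × J) F} {R₀' : Matrix (Fin t × J) ι F}
    (h1 : R₀ * R₀' = 1) (h2 : R₀' * R₀ = 1) {σ : F →+* F} {f : (ι → F) → (ι → F) → F}
    {G₁ : Matrix (Fin t) (Fin t) F} {G₂ : Matrix J J F} {c : F} (hc : c ≠ 0)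
    (hf : ∀ (u u' : Fin t → F) (y y' : J → F),
      f (R₀ *ᵥ pt u y) (R₀ *ᵥ pt u' y') = c * (formOfGram σ G₁ u u' * formOfGram σ G₂ y y'))
    {U U' : Matrix (Fin t) (Fin t) F} (hU : U * U' = 1) (hU' : U' * U = 1) {ε : F} (hε : ε ≠ 0)
    (hG : Uᵀ * G₁ * U.map σ = ε • (1 : Matrix (Fin t) (Fin t) F))
    (hnz : ∃ y y', formOfGram σ G₂ y y' ≠ 0) :
    Frame (R₀ * (U ⊗ₖ (1 : Matrix J J F))) ((U' ⊗ₖ (1 : Matrix J J F)) * R₀') σ f G₂ (c * ε) := by
  refine ⟨?_, ?_, mul_ne_zero hc hε, ?_, hnz⟩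
  · rw [Matrix.mul_assoc, ← Matrix.mul_assoc (U ⊗ₖ 1), ← Matrix.mul_kronecker_mul, hU, Matrix.one_mul,
      Matrix.one_kronecker_one, Matrix.one_mul, h1]
  · rw [Matrix.mul_assoc, ← Matrix.mul_assoc R₀', h2, Matrix.one_mul, ← Matrix.mul_kronecker_mul, hU',
      Matrix.one_mul, Matrix.one_kronecker_one]
  · intro u u' y y'
    rw [← Matrix.mulVec_mulVec, ← Matrix.mulVec_mulVec, kron_mulVec_pt, kron_mulVec_pt, Matrix.one_mulVec,
      Matrix.one_mulVec, hf, formOfGram_mulVec, hG, formOfGram_smul_mat, formOfGram_one']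
    ring

theorem conj_of {R₀ : Matrix ι (Fin t × J) F} {R₀' : Matrix (Fin t × J) ι F}
    {U U' : Matrix (Fin t) (Fin t) F} (hU : U * U' = 1) {g : Matrix ι ι F}
    {b : Matrix (Fin t) (Fin t) F} {a : Matrix J J F} (hg : g = R₀ * (b ⊗ₖ a) * R₀') :
    g = (R₀ * (U ⊗ₖ (1 : Matrix J J F))) * ((U' * b * U) ⊗ₖ a) * ((U' ⊗ₖ (1 : Matrix J J F)) * R₀') := by
  have h3 : (U ⊗ₖ (1 : Matrix J J F)) * ((U' * b * U) ⊗ₖ a) * (U' ⊗ₖ (1 : Matrix J J F)) = b ⊗ₖ a := by
    rw [← Matrix.mul_kronecker_mul, ← Matrix.mul_kronecker_mul, Matrix.one_mul, Matrix.mul_one,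
      ← Matrix.mul_assoc, ← Matrix.mul_assoc, hU, Matrix.one_mul, Matrix.mul_assoc, hU, Matrix.mul_one]
  rw [hg, ← h3]
  simp only [Matrix.mul_assoc]

end reduce

end Cfsg.Agent.Helper7.TensNM
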