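import Mathlib
import Cfsg.Agent.Helper7.TensNMC

set_option autoImplicit false

/-! # Orthonormal frames and monomiality in dimension 3 over the field with 3 elements -/

namespace Cfsg.Agent.Helper7.TensNM

open Matrix Cfsg Cfsg.Geo
open scoped Kronecker

variable {F : Type*} [Field F] [Fintype F]

theorem three_eq_zero (hq : Fintype.card F = 3) : (3 : F) = 0 := by
  have := Nat.cast_card_eq_zero F
  rw [hq] at this
  exact_mod_cast this

theorem two_eq_neg_one (hq : Fintype.card F = 3) : (2 : F) = -1 := by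
  have := three_eq_zero hq
  linear_combination this

theorem sq_eq_one_of_ne (hq : Fintype.card F = 3) {x : F} (hx : x ≠ 0) : x ^ 2 = 1 := by
  have := FiniteField.pow_card_sub_one_eq_one x hx
  rw [hq] at this
  exact this

theorem eq_one_or_neg_one (hq : Fintype.card F = 3) {x : F} (hx : x ≠ 0) : x = 1 ∨ x = -1 := by
  have h := sq_eq_one_of_ne hq hx
  have : (x - 1) * (x + 1) = 0 := by linear_combination h
  rcases mul_eq_zero.mp this with h1 | h1
  · left; linear_combination h1
  · right; linear_combination h1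

theorem neg_one_ne_one (hq : Fintype.card F = 3) : (-1 : F) ≠ 1 := by
  intro h
  have h2 : (2 : F) = 0 := by linear_combination -h
  have h3 := three_eq_zero hq
  have : (1 : F) = 0 := by linear_combination h3 - h2
  exact one_ne_zero this

/-- The monomial property in dimension 3 over the field with 3 elements. -/
theorem mono_F3 (hq : Fintype.card F = 3) : Mono (RingHom.id F) 3 := by
  intro B μ hμ hB l
  -- the multiplier is a square
  have hmat : Bᵀ * B = μ • (1 : Matrix (Fin 3) (Fin 3) F) := by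
    ext i j
    rw [Matrix.mul_apply, Matrix.smul_apply, Matrix.one_apply, smul_eq_mul]
    have := hB i j
    simp only [RingHom.id_apply] at this
    simp only [Matrix.transpose_apply]
    rw [this]
    split_ifs <;> simp
  have hdet : B.det ^ 2 = μ ^ 3 := by
    have := congrArg Matrix.det hmat
    rw [Matrix.det_mul, Matrix.det_transpose, Matrix.det_smul, Matrix.det_one, mul_one, Fintype.card_fin] at this
    rw [sq]
    exact this
  have hμ3 : μ ^ 3 = μ := by
    have := sq_eq_one_of_ne hq hμ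
    calc μ ^ 3 = μ ^ 2 * μ := by ring
      _ = μ := by rw [this, one_mul]
  have hdet0 : B.det ≠ 0 := by
    intro h0
    rw [h0, hμ3] at hdet
    exact hμ (by rw [← hdet]; ring)
  have hμ1 : μ = 1 := by
    rw [← hμ3, ← hdet]
    exact sq_eq_one_of_ne hq hdet0
  -- the column `l` has norm 1
  have hcol := hB l l
  rw [if_pos rfl, hμ1, Fin.sum_univ_three] at hcol
  simp only [RingHom.id_apply] at hcol
  have hsq : ∀ x : F, x * x = 0 ∨ x * x = 1 := by
    intro x
    by_cases hx : x = 0
    · left; rw [hx, mul_zero]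
    · right; rw [← sq]; exact sq_eq_one_of_ne hq hx
  have h3 := three_eq_zero hq
  have hz : ∀ x : F, x * x = 0 → x = 0 := fun x hx => mul_self_eq_zero.mp hx
  rcases hsq (B 0 l) with h0 | h0 <;> rcases hsq (B 1 l) with h1 | h1 <;> rcases hsq (B 2 l) with h2 | h2 <;>
    rw [h0, h1, h2] at hcol
  · exact absurd hcol (by norm_num)
  · refine ⟨2, fun k hk => ?_⟩
    fin_cases k
    · exact hz _ h0
    · exact hz _ h1
    · exact absurd rfl hk
  · refine ⟨1, fun k hk => ?_⟩
    fin_cases k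
    · exact hz _ h0
    · exact absurd rfl hk
    · exact hz _ h2
  · exfalso
    have : (1 : F) = 0 := by linear_combination hcol
    exact one_ne_zero this
  · refine ⟨0, fun k hk => ?_⟩
    fin_cases k
    · exact absurd rfl hk
    · exact hz _ h1
    · exact hz _ h2
  · exfalso
    have : (1 : F) = 0 := by linear_combination hcol
    exact one_ne_zero this
  · exfalso
    have : (1 : F) = 0 := by linear_combination hcol
    exact one_ne_zero this
  · exfalso
    have : (1 : F) = 0 := by linear_combination h3 - hcol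
    exact one_ne_zero this

end Cfsg.Agent.Helper7.TensNM

namespace Cfsg.Agent.Helper7.TensNM

open Matrix Cfsg Cfsg.Geo
open scoped Kronecker

variable {F : Type*} [Field F] [Fintype F]

theorem congr_entry {n : Type} [Fintype n] (M G : Matrix n n F) (i j : n) :
    (Mᵀ * G * M) i j = (fun k => M k i) ⬝ᵥ (G *ᵥ (fun k => M k j)) := by
  simp only [Matrix.mul_apply, Matrix.transpose_apply, dotProduct, Matrix.mulVec, Finset.sum_mul, Finset.mul_sum]
  rw [Finset.sum_comm]
  refine Finset.sum_congr rfl fun k _ => Finset.sum_congr rfl fun l _ => ?_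
  ring

/-- Diagonalisation of a non-degenerate symmetric matrix (characteristic not 2). -/
theorem exists_diag (h2 : (2 : F) ≠ 0) {n : ℕ} (G : Matrix (Fin n) (Fin n) F) (hsymm : Gᵀ = G)
    (hnd : (Matrix.toBilin' G).Nondegenerate) :
    ∃ (U U' : Matrix (Fin n) (Fin n) F) (d : Fin n → F), U * U' = 1 ∧ U' * U = 1 ∧ (∀ i, d i ≠ 0) ∧
      Uᵀ * G * U = Matrix.diagonal d := by
  haveI : Invertible (2 : F) := invertibleOfNonzero h2
  have hB : LinearMap.IsSymm (Matrix.toBilin' G) := by
    rw [LinearMap.isSymm_def]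
    intro x y
    rw [RingHom.id_apply, Matrix.toBilin'_apply', Matrix.toBilin'_apply', Matrix.dotProduct_mulVec,
      ← Matrix.mulVec_transpose, hsymm, dotProduct_comm]
  obtain ⟨v, hv⟩ := LinearMap.BilinForm.exists_orthogonal_basis hB
  have hfr : Module.finrank F (Fin n → F) = n := by simp
  let v' : Module.Basis (Fin n) F (Fin n → F) := v.reindex (finCongr hfr)
  have hv' : (Matrix.toBilin' G).iIsOrtho v' := by
    rw [LinearMap.BilinForm.iIsOrtho_def]
    intro i j hij
    have h1 : ∀ k, v' k = v ((finCongr hfr).symm k) := fun k => Module.Basis.reindex_apply _ _ _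
    rw [h1, h1]
    apply hv
    intro h
    exact hij ((finCongr hfr).symm.injective h)
  refine ⟨(Pi.basisFun F (Fin n)).toMatrix v', v'.toMatrix (Pi.basisFun F (Fin n)),
    fun i => Matrix.toBilin' G (v' i) (v' i), Module.Basis.toMatrix_mul_toMatrix_flip _ _,
    Module.Basis.toMatrix_mul_toMatrix_flip _ _, ?_, ?_⟩
  · intro i
    exact hv'.not_isOrtho_basis_self_of_nondegenerate hnd i
  · ext i j
    rw [congr_entry, ← Matrix.toBilin'_apply']
    have hcol : ∀ i, (fun k => (Pi.basisFun F (Fin n)).toMatrix v' k i) = v' i := by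
      intro i
      ext k
      rw [Module.Basis.toMatrix_apply, Pi.basisFun_repr]
    rw [hcol, hcol, Matrix.diagonal_apply]
    split_ifs with hij
    · rw [hij]
    · exact (LinearMap.BilinForm.iIsOrtho_def.mp hv') i j hij

end Cfsg.Agent.Helper7.TensNM

namespace Cfsg.Agent.Helper7.TensNM

open Matrix Cfsg Cfsg.Geo
open scoped Kronecker

variable {F : Type*} [Field F] [Fintype F]

theorem fix01 (hq : Fintype.card F = 3) (d : Fin 3 → F) (h0 : d 0 = d 1) (h2 : d 2 = - d 0) :
    ∃ (W W' : Matrix (Fin 3) (Fin 3) F), W * W' = 1 ∧ W' * W = 1 ∧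
      Wᵀ * Matrix.diagonal d * W = d 2 • (1 : Matrix (Fin 3) (Fin 3) F) := by
  have h3 := three_eq_zero hq
  refine ⟨!![1, 1, 0; 1, -1, 0; 0, 0, 1], !![-1, -1, 0; -1, 1, 0; 0, 0, 1], ?_, ?_, ?_⟩
  · ext i j
    fin_cases i <;> fin_cases j <;> simp [Matrix.mul_apply, Fin.sum_univ_three] <;> linear_combination -h3
  · ext i j
    fin_cases i <;> fin_cases j <;> simp [Matrix.mul_apply, Fin.sum_univ_three] <;> linear_combination -h3
  · ext i j
    fin_cases i <;> fin_cases j <;>
      simp [Matrix.mul_apply, Fin.sum_univ_three, Matrix.diagonal_apply, ← h0, h2] <;>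
      linear_combination (d 0) * h3

theorem fix02 (hq : Fintype.card F = 3) (d : Fin 3 → F) (h0 : d 0 = d 2) (h1 : d 1 = - d 0) :
    ∃ (W W' : Matrix (Fin 3) (Fin 3) F), W * W' = 1 ∧ W' * W = 1 ∧
      Wᵀ * Matrix.diagonal d * W = d 1 • (1 : Matrix (Fin 3) (Fin 3) F) := by
  have h3 := three_eq_zero hq
  refine ⟨!![1, 0, 1; 0, 1, 0; 1, 0, -1], !![-1, 0, -1; 0, 1, 0; -1, 0, 1], ?_, ?_, ?_⟩
  · ext i j
    fin_cases i <;> fin_cases j <;> simp [Matrix.mul_apply, Fin.sum_univ_three] <;> linear_combination -h3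
  · ext i j
    fin_cases i <;> fin_cases j <;> simp [Matrix.mul_apply, Fin.sum_univ_three] <;> linear_combination -h3
  · ext i j
    fin_cases i <;> fin_cases j <;>
      simp [Matrix.mul_apply, Fin.sum_univ_three, Matrix.diagonal_apply, ← h0, h1] <;>
      linear_combination (d 0) * h3

theorem fix12 (hq : Fintype.card F = 3) (d : Fin 3 → F) (h1 : d 1 = d 2) (h0 : d 0 = - d 1) :
    ∃ (W W' : Matrix (Fin 3) (Fin 3) F), W * W' = 1 ∧ W' * W = 1 ∧
      Wᵀ * Matrix.diagonal d * W = d 0 • (1 : Matrix (Fin 3) (Fin 3) F) := by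
  have h3 := three_eq_zero hq
  refine ⟨!![1, 0, 0; 0, 1, 1; 0, 1, -1], !![1, 0, 0; 0, -1, -1; 0, -1, 1], ?_, ?_, ?_⟩
  · ext i j
    fin_cases i <;> fin_cases j <;> simp [Matrix.mul_apply, Fin.sum_univ_three] <;> linear_combination -h3
  · ext i j
    fin_cases i <;> fin_cases j <;> simp [Matrix.mul_apply, Fin.sum_univ_three] <;> linear_combination -h3
  · ext i j
    fin_cases i <;> fin_cases j <;>
      simp [Matrix.mul_apply, Fin.sum_univ_three, Matrix.diagonal_apply, ← h1, h0] <;>
      linear_combination (d 1) * h3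

theorem fixall (d : Fin 3 → F) (h1 : d 1 = d 0) (h2 : d 2 = d 0) :
    ∃ (W W' : Matrix (Fin 3) (Fin 3) F), W * W' = 1 ∧ W' * W = 1 ∧
      Wᵀ * Matrix.diagonal d * W = d 0 • (1 : Matrix (Fin 3) (Fin 3) F) := by
  refine ⟨1, 1, Matrix.one_mul _, Matrix.one_mul _, ?_⟩
  rw [Matrix.transpose_one, Matrix.one_mul, Matrix.mul_one]
  ext i j
  fin_cases i <;> fin_cases j <;> simp [Matrix.diagonal_apply, h1, h2]

theorem eq_or_eq_neg (hq : Fintype.card F = 3) {x y : F} (hx : x ≠ 0) (hy : y ≠ 0) : y = x ∨ y = -x := by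
  rcases eq_one_or_neg_one hq hx with h | h <;> rcases eq_one_or_neg_one hq hy with h' | h' <;> rw [h, h']
  · left; rfl
  · right; rfl
  · right; rw [neg_neg]
  · left; rfl

theorem sign_fix (hq : Fintype.card F = 3) (d : Fin 3 → F) (hd : ∀ i, d i ≠ 0) :
    ∃ (W W' : Matrix (Fin 3) (Fin 3) F) (ε : F), W * W' = 1 ∧ W' * W = 1 ∧ ε ≠ 0 ∧
      Wᵀ * Matrix.diagonal d * W = ε • (1 : Matrix (Fin 3) (Fin 3) F) := by
  rcases eq_or_eq_neg hq (hd 0) (hd 1) with h1 | h1
  · rcases eq_or_eq_neg hq (hd 0) (hd 2) with h2 | h2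
    · obtain ⟨W, W', hW, hW', h⟩ := fixall d h1 h2
      exact ⟨W, W', d 0, hW, hW', hd 0, h⟩
    · obtain ⟨W, W', hW, hW', h⟩ := fix01 hq d h1.symm h2
      exact ⟨W, W', d 2, hW, hW', hd 2, h⟩
  · rcases eq_or_eq_neg hq (hd 0) (hd 2) with h2 | h2
    · obtain ⟨W, W', hW, hW', h⟩ := fix02 hq d h2.symm h1
      exact ⟨W, W', d 1, hW, hW', hd 1, h⟩
    · obtain ⟨W, W', hW, hW', h⟩ := fix12 hq d (h1.trans h2.symm) (by rw [h1, neg_neg])
      exact ⟨W, W', d 0, hW, hW', hd 0, h⟩

/-- An orthonormal frame (up to a common sign) for a non-degenerate symmetric form in dimension 3 over the field with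
3 elements. -/
theorem frame_F3 (hq : Fintype.card F = 3) (G : Matrix (Fin 3) (Fin 3) F) (hsymm : Gᵀ = G)
    (hnd : (Matrix.toBilin' G).Nondegenerate) :
    ∃ (U U' : Matrix (Fin 3) (Fin 3) F) (ε : F), U * U' = 1 ∧ U' * U = 1 ∧ ε ≠ 0 ∧
      Uᵀ * G * U = ε • (1 : Matrix (Fin 3) (Fin 3) F) := by
  have h2 : (2 : F) ≠ 0 := by
    rw [two_eq_neg_one hq]
    exact neg_ne_zero.mpr one_ne_zero
  obtain ⟨U₀, U₀', d, h1, h1', hd, hdiag⟩ := exists_diag h2 G hsymm hnd
  obtain ⟨W, W', ε, hW, hW', hε, hfix⟩ := sign_fix hq d hd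
  refine ⟨U₀ * W, W' * U₀', ε, ?_, ?_, hε, ?_⟩
  · rw [Matrix.mul_assoc, ← Matrix.mul_assoc W, hW, Matrix.one_mul, h1]
  · rw [Matrix.mul_assoc, ← Matrix.mul_assoc U₀', h1', Matrix.one_mul, hW']
  · rw [Matrix.transpose_mul, ← hfix, ← hdiag]
    simp only [Matrix.mul_assoc]

end Cfsg.Agent.Helper7.TensNM
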