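import Mathlib
import Cfsg.Agent.Helper7.TensNMA

set_option autoImplicit false

/-! # Tensor-product subgroups: swapping the two factors -/

namespace Cfsg.Agent.Helper7.TensNM

open Matrix Cfsg Cfsg.Geo
open scoped Kronecker

variable {F : Type*} [Field F]

theorem kron_swap {I J : Type} (a : Matrix I I F) (b : Matrix J J F) :
    a ⊗ₖ b = (b ⊗ₖ a).submatrix (Equiv.prodComm I J) (Equiv.prodComm I J) := by
  ext x y
  simp only [Matrix.kroneckerMap_apply, Matrix.submatrix_apply, Equiv.prodComm_apply, Prod.fst_swap, Prod.snd_swap]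
  ring

theorem pt_swap {I J : Type} (u : I → F) (y : J → F) :
    pt u y ∘ (Equiv.prodComm J I) = pt y u := by
  ext a
  simp only [Function.comp_apply, Equiv.prodComm_apply, pt_apply, Prod.fst_swap, Prod.snd_swap]
  ring

theorem sub_mul_sub {ι X Y : Type} [Fintype X] [Fintype Y] (M : Matrix ι X F) (K : Matrix Y Y F) (N : Matrix X ι F)
    (s : X ≃ Y) :
    M * K.submatrix s s * N = M.submatrix id s.symm * K * N.submatrix s.symm id := by
  have hK : K = (K.submatrix s s).submatrix s.symm s.symm := by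
    ext a b; simp
  conv_rhs => rw [hK]
  rw [Matrix.submatrix_mul_equiv, Matrix.submatrix_mul_equiv, Matrix.submatrix_id_id]

section coords

variable {ι : Type} [Fintype ι] [DecidableEq ι] {n₁ n₂ : ℕ}

/-- The coordinate matrix with the two factors swapped. -/
def Rs (e : ι ≃ Fin n₁ × Fin n₂) (P : GL ι F) : Matrix ι (Fin n₂ × Fin n₁) F :=
  (Rm e P).submatrix id (Equiv.prodComm (Fin n₂) (Fin n₁))

/-- Its inverse. -/
def Rs' (e : ι ≃ Fin n₁ × Fin n₂) (P : GL ι F) : Matrix (Fin n₂ × Fin n₁) ι F :=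
  (Rm' e P).submatrix (Equiv.prodComm (Fin n₂) (Fin n₁)) id

theorem Rs_mul_Rs' (e : ι ≃ Fin n₁ × Fin n₂) (P : GL ι F) : Rs e P * Rs' e P = 1 := by
  unfold Rs Rs'
  rw [Matrix.submatrix_mul_equiv, Rm_mul_Rm', Matrix.submatrix_id_id]

theorem Rs'_mul_Rs (e : ι ≃ Fin n₁ × Fin n₂) (P : GL ι F) : Rs' e P * Rs e P = 1 := by
  unfold Rs Rs'
  have h := Matrix.submatrix_mul_equiv (Rm' e P) (Rm e P) (Equiv.prodComm (Fin n₂) (Fin n₁))
    (Equiv.refl ι) (Equiv.prodComm (Fin n₂) (Fin n₁))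
  rw [Equiv.coe_refl] at h
  rw [h, Rm'_mul_Rm, Matrix.submatrix_one_equiv]

theorem Rs_mulVec_pt (e : ι ≃ Fin n₁ × Fin n₂) (P : GL ι F) (u : Fin n₂ → F) (y : Fin n₁ → F) :
    Rs e P *ᵥ pt u y = Rm e P *ᵥ pt y u := by
  unfold Rs
  rw [Matrix.submatrix_mulVec_equiv]
  simp only [Function.comp_id]
  rw [Equiv.prodComm_symm, pt_swap]

theorem mem_tensor_swap {e : ι ≃ Fin n₁ × Fin n₂} {P : GL ι F} {g : GL ι F}
    (hg : g ∈ tensorProductSubgroup n₁ n₂ e P) :
    ∃ (a : GL (Fin n₁) F) (b : GL (Fin n₂) F),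
      (g : Matrix ι ι F) = Rs e P * ((b : Matrix (Fin n₂) (Fin n₂) F) ⊗ₖ (a : Matrix (Fin n₁) (Fin n₁) F)) * Rs' e P := by
  obtain ⟨a, b, h⟩ := mem_tensor hg
  refine ⟨a, b, ?_⟩
  rw [h, kron_swap]
  unfold Rs Rs'
  rw [← Equiv.prodComm_symm]
  exact sub_mul_sub _ _ _ _

end coords

end Cfsg.Agent.Helper7.TensNM
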