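import Mathlib
import Cfsg.Prelude.Def_ClassicalGeometry
import Cfsg.Agent.Helper7.SympGeneration

set_option autoImplicit false

/-!
Perfectness of the symplectic groups: every homomorphism to a commutative group is trivial.
-/

namespace Cfsg.Agent.Helper7.Symp

open Matrix Cfsg

variable {F : Type*} [Field F] {m : ℕ}

theorem ext_mulVec {A B : Matrix.symplecticGroup (Fin m) F}
    (h : ∀ x : Fin m ⊕ Fin m → F, (A : Matrix (Fin m ⊕ Fin m) (Fin m ⊕ Fin m) F) *ᵥ x =
      (B : Matrix (Fin m ⊕ Fin m) (Fin m ⊕ Fin m) F) *ᵥ x) : A = B := by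
  apply inv_mul_eq_one.mp
  apply eq_one_of_mulVec
  intro x
  rw [coe_mul_mulVec, ← h x]
  exact coe_inv_mulVec_eq A rfl

theorem coe_mul_inv_mulVec (g : Matrix.symplecticGroup (Fin m) F) (x : Fin m ⊕ Fin m → F) :
    (g : Matrix (Fin m ⊕ Fin m) (Fin m ⊕ Fin m) F) *ᵥ
      (((g⁻¹ : Matrix.symplecticGroup (Fin m) F) : Matrix (Fin m ⊕ Fin m) (Fin m ⊕ Fin m) F) *ᵥ x) = x := by
  rw [← coe_mul_mulVec, mul_inv_cancel, coe_one_mulVec]

/-- Conjugating a transvection. -/
theorem conj_T (g : Matrix.symplecticGroup (Fin m) F) (w : Fin m ⊕ Fin m → F) (c : F) :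
    g * T w c * g⁻¹ = T ((g : Matrix (Fin m ⊕ Fin m) (Fin m ⊕ Fin m) F) *ᵥ w) c := by
  apply ext_mulVec
  intro x
  rw [coe_mul_mulVec, coe_mul_mulVec, T_mulVec, T_mulVec, mulVec_add, mulVec_smul, coe_mul_inv_mulVec]
  have h := sympForm_mulVec g
    (((g⁻¹ : Matrix.symplecticGroup (Fin m) F) : Matrix (Fin m ⊕ Fin m) (Fin m ⊕ Fin m) F) *ᵥ x) w
  rw [coe_mul_inv_mulVec] at h
  rw [h]

theorem T_smul (a : F) (w : Fin m ⊕ Fin m → F) (c : F) : T (a • w) c = T w (a * a * c) := by
  apply ext_mulVec
  intro x
  rw [T_mulVec, T_mulVec, sympForm_smul_right, smul_smul]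
  congr 2
  ring

theorem T_mul (w : Fin m ⊕ Fin m → F) (c d : F) : T w c * T w d = T w (c + d) := by
  apply Subtype.ext
  exact sympTransvection_mul m w c d

theorem T_zero_right (w : Fin m ⊕ Fin m → F) : T w 0 = 1 := by
  apply ext_mulVec
  intro x
  rw [T_mulVec, zero_mul, zero_smul, add_zero, coe_one_mulVec]

theorem T_zero_left (c : F) : T (0 : Fin m ⊕ Fin m → F) c = 1 := by
  apply ext_mulVec
  intro x
  rw [T_mulVec, smul_zero, add_zero, coe_one_mulVec]

section Abelian

variable {A : Type*} [CommGroup A] (φ : Matrix.symplecticGroup (Fin m) F →* A)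

/-- In a commutative quotient, the image of a transvection depends only on its parameter. -/
theorem map_T_eq {w w' : Fin m ⊕ Fin m → F} (hw : w ≠ 0) (hw' : w' ≠ 0) (c : F) :
    φ (T w c) = φ (T w' c) := by
  obtain ⟨g, _, hg⟩ := exists_mem_mulVec_eq hw hw'
  rw [← hg, ← conj_T, map_mul, map_mul, map_inv, mul_comm (φ g), mul_assoc, mul_inv_cancel, mul_one]

theorem map_T_add (w : Fin m ⊕ Fin m → F) (c d : F) :
    φ (T w (c + d)) = φ (T w c) * φ (T w d) := by
  rw [← T_mul, map_mul]

/-- If the transvections are killed, so is everything. -/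
theorem map_eq_one_of_T (h : ∀ (w : Fin m ⊕ Fin m → F) (c : F), w ≠ 0 → φ (T w c) = 1)
    (g : Matrix.symplecticGroup (Fin m) F) : φ g = 1 := by
  have hle : transvectionSubgroup m F ≤ φ.ker := by
    unfold transvectionSubgroup
    rw [Subgroup.closure_le]
    rintro B ⟨w, c, hB⟩
    have hB' : B = T w c := Subtype.ext hB
    rw [SetLike.mem_coe, MonoidHom.mem_ker, hB']
    by_cases hw : w = 0
    · rw [hw, T_zero_left, map_one]
    · exact h w c hw
  have : g ∈ transvectionSubgroup m F := by
    rw [transvectionSubgroup_eq_top]; exact Subgroup.mem_top g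
  exact MonoidHom.mem_ker.mp (hle this)

/-- Large fields: a torus element rescales the root group. -/
theorem map_T_eq_one_of_sq_ne_one {a : F} (ha : a ≠ 0) (ha2 : a * a ≠ 1)
    {w : Fin m ⊕ Fin m → F} (hw : w ≠ 0) (c : F) : φ (T w c) = 1 := by
  have h1 : ∀ d : F, φ (T w (a * a * d)) = φ (T w d) := by
    intro d
    rw [← T_smul]
    exact map_T_eq φ (smul_ne_zero ha hw) hw d
  have hne : a * a - 1 ≠ 0 := sub_ne_zero.mpr ha2
  have h2 : ∀ d : F, φ (T w ((a * a - 1) * d)) = 1 := by
    intro d
    have : a * a * d = (a * a - 1) * d + d := by ring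
    have h3 := h1 d
    rw [this, map_T_add] at h3
    exact mul_eq_right.mp h3
  have := h2 ((a * a - 1)⁻¹ * c)
  rwa [← mul_assoc, mul_inv_cancel₀ hne, one_mul] at this

end Abelian

/-! ### Products of transvections along pairwise orthogonal vectors -/

/-- `x ↦ f(x, w)` as a linear map. -/
def sympFormL (m : ℕ) (F : Type*) [Field F] (w : Fin m ⊕ Fin m → F) : (Fin m ⊕ Fin m → F) →ₗ[F] F where
  toFun x := sympForm m F x w
  map_add' x y := sympForm_add_left x y w
  map_smul' a x := by rw [sympForm_smul_left]; rfl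

theorem sympFormL_apply (w x : Fin m ⊕ Fin m → F) : sympFormL m F w x = sympForm m F x w := rfl

/-- The product of a list of transvections. -/
def prodT (l : List ((Fin m ⊕ Fin m → F) × F)) : Matrix.symplecticGroup (Fin m) F :=
  (l.map (fun p => T p.1 p.2)).prod

theorem prodT_nil : prodT ([] : List ((Fin m ⊕ Fin m → F) × F)) = 1 := rfl

theorem prodT_cons (p : (Fin m ⊕ Fin m → F) × F) (l : List ((Fin m ⊕ Fin m → F) × F)) :
    prodT (p :: l) = T p.1 p.2 * prodT l := by
  unfold prodT
  rw [List.map_cons, List.prod_cons]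

theorem prodT_mulVec (l : List ((Fin m ⊕ Fin m → F) × F))
    (h : ∀ p ∈ l, ∀ p' ∈ l, sympForm m F p.1 p'.1 = 0) (x : Fin m ⊕ Fin m → F) :
    (prodT l : Matrix (Fin m ⊕ Fin m) (Fin m ⊕ Fin m) F) *ᵥ x =
      x + (l.map (fun p => (p.2 * sympForm m F x p.1) • p.1)).sum := by
  induction l with
  | nil =>
    rw [prodT_nil, coe_one_mulVec, List.map_nil, List.sum_nil, add_zero]
  | cons p l ih =>
    have ih' := ih (fun q hq q' hq' => h q (List.mem_cons_of_mem _ hq) q' (List.mem_cons_of_mem _ hq'))
    rw [prodT_cons, coe_mul_mulVec, ih', T_mulVec, List.map_cons, List.sum_cons]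
    have hz : sympForm m F (l.map (fun p => (p.2 * sympForm m F x p.1) • p.1)).sum p.1 = 0 := by
      rw [← sympFormL_apply, map_list_sum, List.map_map]
      apply List.sum_eq_zero
      intro y hy
      rw [List.mem_map] at hy
      obtain ⟨q, hq, rfl⟩ := hy
      rw [Function.comp_apply, sympFormL_apply, sympForm_smul_left,
        h q (List.mem_cons_of_mem _ hq) p List.mem_cons_self, mul_zero]
    rw [sympForm_add_left, hz, add_zero]
    abel

theorem map_prodT {A : Type*} [CommGroup A] (φ : Matrix.symplecticGroup (Fin m) F →* A)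
    (l : List ((Fin m ⊕ Fin m → F) × F)) :
    φ (prodT l) = (l.map (fun p => φ (T p.1 p.2))).prod := by
  unfold prodT
  rw [map_list_prod, List.map_map]
  rfl


/-! ### The odd case -/

/-- A product of three transvections along an isotropic plane is a single transvection. -/
theorem prodT_three {a b : Fin m ⊕ Fin m → F} (hab : sympForm m F a b = 0) (s : F) :
    prodT [((2 : F) • a + b, s), (a + b, -(2 * s)), (b, s)] = T a (2 * s) := by
  have hba : sympForm m F b a = 0 := by rw [sympForm_swap, hab, neg_zero]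
  apply ext_mulVec
  intro x
  rw [prodT_mulVec, T_mulVec]
  · simp only [List.map_cons, List.map_nil, List.sum_cons, List.sum_nil, sympForm_add_right,
      sympForm_smul_right]
    ext i
    simp only [Pi.add_apply, Pi.smul_apply, smul_eq_mul, Pi.zero_apply]
    ring
  · intro p hp p' hp'
    simp only [List.mem_cons, List.not_mem_nil, or_false] at hp hp'
    rcases hp with rfl | rfl | rfl <;> rcases hp' with rfl | rfl | rfl <;>
      simp only [sympForm_add_left, sympForm_add_right, sympForm_smul_left, sympForm_smul_right,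
        sympForm_self, hab, hba, add_zero, mul_zero]

theorem map_T_two_mul {A : Type*} [CommGroup A] (φ : Matrix.symplecticGroup (Fin m) F →* A)
    {a b y : Fin m ⊕ Fin m → F} (ha : a ≠ 0) (hab : sympForm m F a b = 0)
    (hay : sympForm m F a y = 0) (hby : sympForm m F b y ≠ 0) (s : F) :
    φ (T a (2 * s)) = 1 := by
  have hb : b ≠ 0 := by
    rintro rfl
    apply hby
    unfold sympForm; rw [zero_dotProduct]
  have hab' : a + b ≠ 0 := by
    intro h
    apply hby
    have := congrArg (fun v => sympForm m F v y) h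
    simp only [sympForm_add_left, hay, zero_add] at this
    rw [this]; unfold sympForm; rw [zero_dotProduct]
  have h2ab : (2 : F) • a + b ≠ 0 := by
    intro h
    apply hby
    have := congrArg (fun v => sympForm m F v y) h
    simp only [sympForm_add_left, sympForm_smul_left, hay, mul_zero, zero_add] at this
    rw [this]; unfold sympForm; rw [zero_dotProduct]
  rw [← prodT_three hab s, map_prodT]
  simp only [List.map_cons, List.map_nil, List.prod_cons, List.prod_nil, mul_one]
  rw [map_T_eq φ h2ab ha, map_T_eq φ hab' ha, map_T_eq φ hb ha, ← map_T_add, ← map_T_add]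
  have : s + (-(2 * s) + s) = 0 := by ring
  rw [this, T_zero_right, map_one]

/-! ### Characteristic two -/

theorem prodT_seven (h2 : (2 : F) = 0) {a b c : Fin m ⊕ Fin m → F} (hab : sympForm m F a b = 0)
    (hac : sympForm m F a c = 0) (hbc : sympForm m F b c = 0) (s : F) :
    prodT [(a, s), (b, s), (c, s), (a + b, s), (a + c, s), (b + c, s), (a + b + c, s)] = 1 := by
  have hba : sympForm m F b a = 0 := by rw [sympForm_swap, hab, neg_zero]
  have hca : sympForm m F c a = 0 := by rw [sympForm_swap, hac, neg_zero]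
  have hcb : sympForm m F c b = 0 := by rw [sympForm_swap, hbc, neg_zero]
  apply ext_mulVec
  intro x
  rw [prodT_mulVec, coe_one_mulVec]
  · simp only [List.map_cons, List.map_nil, List.sum_cons, List.sum_nil, sympForm_add_right]
    ext i
    simp only [Pi.add_apply, Pi.smul_apply, smul_eq_mul, Pi.zero_apply]
    linear_combination (s * (a i * (2 * sympForm m F x a + sympForm m F x b + sympForm m F x c) +
      b i * (sympForm m F x a + 2 * sympForm m F x b + sympForm m F x c) +
      c i * (sympForm m F x a + sympForm m F x b + 2 * sympForm m F x c))) * h2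
  · intro p hp p' hp'
    simp only [List.mem_cons, List.not_mem_nil, or_false] at hp hp'
    rcases hp with rfl | rfl | rfl | rfl | rfl | rfl | rfl <;>
      rcases hp' with rfl | rfl | rfl | rfl | rfl | rfl | rfl <;>
      simp only [sympForm_add_left, sympForm_add_right,
        sympForm_self, hab, hba, hac, hca, hbc, hcb, add_zero]

theorem map_T_char_two {A : Type*} [CommGroup A] (φ : Matrix.symplecticGroup (Fin m) F →* A)
    (h2 : (2 : F) = 0) {a b c : Fin m ⊕ Fin m → F} (hab : sympForm m F a b = 0)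
    (hac : sympForm m F a c = 0) (hbc : sympForm m F b c = 0)
    (ha : a ≠ 0) (hb : b ≠ 0) (hc : c ≠ 0) (hab' : a + b ≠ 0) (hac' : a + c ≠ 0) (hbc' : b + c ≠ 0)
    (habc : a + b + c ≠ 0) (s : F) : φ (T a s) = 1 := by
  have h7 := congrArg φ (prodT_seven h2 hab hac hbc s)
  rw [map_prodT, map_one] at h7
  simp only [List.map_cons, List.map_nil, List.prod_cons, List.prod_nil, mul_one] at h7
  rw [map_T_eq φ hb ha, map_T_eq φ hc ha, map_T_eq φ hab' ha, map_T_eq φ hac' ha,
    map_T_eq φ hbc' ha, map_T_eq φ habc ha] at h7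
  have hsq : φ (T a s) * φ (T a s) = 1 := by
    rw [← map_T_add, ← two_mul, h2, zero_mul, T_zero_right, map_one]
  rw [hsq, mul_one, hsq, mul_one, hsq, mul_one] at h7
  exact h7

end Cfsg.Agent.Helper7.Symp
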