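import Mathlib
import Cfsg.Agent.Helper7.SympPerfect

set_option autoImplicit false

/-! # Maximality of the stabiliser of a totally isotropic subspace in `Sp_{2m}(F)` -/

namespace Cfsg.Agent.Helper7.SpMax

open Matrix Cfsg Cfsg.Agent.Helper7.Symp

variable {F : Type*} [Field F] {m : ℕ}

local notation "V" => (Fin m ⊕ Fin m → F)
local notation "Sp" => Matrix.symplecticGroup (Fin m) F
local notation "MM" => Matrix (Fin m ⊕ Fin m) (Fin m ⊕ Fin m) F

/-- The symplectic form as a Mathlib bilinear form. -/
noncomputable def sympB (m : ℕ) (F : Type*) [Field F] : LinearMap.BilinForm F (Fin m ⊕ Fin m → F) :=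
  Matrix.toBilin' (J (Fin m) F)

theorem sympB_apply (x y : V) : sympB m F x y = sympForm m F x y := by
  unfold sympB sympForm
  rw [Matrix.toBilin'_apply']

theorem sympB_nondegenerate : (sympB m F).Nondegenerate := by
  unfold sympB
  apply Matrix.Nondegenerate.toBilin'
  apply Matrix.nondegenerate_of_det_ne_zero
  exact (isUnit_det_J (Fin m) F).ne_zero

theorem sympB_isRefl : (sympB m F).IsRefl := by
  intro x y h
  rw [sympB_apply] at h ⊢
  rw [sympForm_swap, h, neg_zero]

/-- Double orthogonal complement. -/
theorem mem_of_double_perp (W : Submodule F V) (y : V)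
    (hy : ∀ x : V, (∀ w ∈ W, sympForm m F w x = 0) → sympForm m F x y = 0) : y ∈ W := by
  have h := LinearMap.BilinForm.orthogonal_orthogonal (sympB_nondegenerate (m := m) (F := F))
    sympB_isRefl W
  rw [← h, LinearMap.BilinForm.mem_orthogonal_iff]
  intro x hx
  rw [LinearMap.BilinForm.mem_orthogonal_iff] at hx
  rw [sympB_apply]
  apply hy
  intro w hw
  have := hx w hw
  rw [sympB_apply] at this
  exact this

theorem mulVec_injective (A : Sp) : Function.Injective (fun x : V => (A : MM) *ᵥ x) := by
  intro x y h
  have h1 := coe_inv_mulVec_eq A (x := x) rfl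
  have h2 := coe_inv_mulVec_eq A (x := y) rfl
  beta_reduce at h
  rw [← h1, h, h2]

/-- A symplectic matrix mapping a (finite) subspace into itself stabilises it. -/
theorem stab_of_mapsTo [Finite F] (W : Submodule F V) (A : Sp) (h : ∀ x ∈ W, (A : MM) *ᵥ x ∈ W) :
    ∀ v : V, v ∈ W ↔ (A : MM) *ᵥ v ∈ W := by
  intro v
  refine ⟨h v, fun hv => ?_⟩
  let φ : ↥W → ↥W := fun x => ⟨(A : MM) *ᵥ (x : V), h x x.2⟩
  have hφ : Function.Injective φ := by
    intro x y hxy
    apply Subtype.ext
    apply mulVec_injective A
    exact congrArg Subtype.val hxy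
  have hs := Finite.surjective_of_injective hφ
  obtain ⟨w, hw⟩ := hs ⟨_, hv⟩
  have : (A : MM) *ᵥ (w : V) = (A : MM) *ᵥ v := congrArg Subtype.val hw
  rw [← mulVec_injective A this]
  exact w.2

/-- The Siegel-type element `x ↦ x + f(x,a) b + f(x,b) a` for `f(a,b) = 0`. -/
noncomputable def siegel (a b : V) : Sp :=
  prodT [(a + b, (1 : F)), (a, -1), (b, -1)]

theorem siegel_mulVec {a b : V} (hab : sympForm m F a b = 0) (x : V) :
    (siegel a b : MM) *ᵥ x = x + (sympForm m F x a • b + sympForm m F x b • a) := by
  have hba : sympForm m F b a = 0 := by rw [sympForm_swap, hab, neg_zero]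
  unfold siegel
  rw [prodT_mulVec]
  · simp only [List.map_cons, List.map_nil, List.sum_cons, List.sum_nil, sympForm_add_right]
    ext i
    simp only [Pi.add_apply, Pi.smul_apply, smul_eq_mul, Pi.zero_apply]
    ring
  · intro p hp p' hp'
    simp only [List.mem_cons, List.not_mem_nil, or_false] at hp hp'
    rcases hp with rfl | rfl | rfl <;> rcases hp' with rfl | rfl | rfl <;>
      simp only [sympForm_add_left, sympForm_add_right, sympForm_self, hab, hba, add_zero]

/-- The main dichotomy: a subgroup containing the stabiliser of a non-zero totally isotropic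
subspace is that stabiliser or the whole group. -/
theorem stab_or_top [Finite F] (W : Submodule F V)
    (hW : ∀ u ∈ W, ∀ v ∈ W, sympForm m F u v = 0)
    (M : Subgroup Sp)
    (hPM : ∀ A : Sp, (∀ v : V, v ∈ W ↔ (A : MM) *ᵥ v ∈ W) → A ∈ M) :
    (∀ A ∈ M, ∀ v : V, v ∈ W ↔ (A : MM) *ᵥ v ∈ W) ∨ M = ⊤ := by
  -- the set of vectors all of whose transvections lie in `M`
  have hSinv : ∀ (A : Sp), A ∈ M → ∀ v : V, (∀ c, T v c ∈ M) → ∀ c, T ((A : MM) *ᵥ v) c ∈ M := by
    intro A hA v hv c
    rw [← conj_T]
    exact M.mul_mem (M.mul_mem hA (hv c)) (M.inv_mem hA)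
  have hSperp : ∀ v : V, (∀ w ∈ W, sympForm m F w v = 0) → ∀ c, T v c ∈ M := by
    intro v hv c
    apply hPM
    apply stab_of_mapsTo
    intro x hx
    rw [T_mulVec, hv x hx, mul_zero, zero_smul, add_zero]
    exact hx
  by_cases hcase : ∀ v : V, (∀ c, T v c ∈ M) → ∀ w ∈ W, sympForm m F w v = 0
  · left
    intro A hA
    apply stab_of_mapsTo
    intro w hw
    apply mem_of_double_perp
    intro x hx
    have h1 := hcase _ (hSinv A⁻¹ (M.inv_mem hA) x (hSperp x hx)) w hw
    have h2 := sympForm_mulVec A⁻¹ x ((A : MM) *ᵥ w)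
    rw [coe_inv_mulVec_eq A rfl] at h2
    rw [← h2, sympForm_swap, h1, neg_zero]
  · right
    push Not at hcase
    obtain ⟨u, hu, w₀, hw₀, huw₀⟩ := hcase
    have hall : ∀ y : V, ∀ c, T y c ∈ M := by
      intro y
      by_cases hy : ∀ w ∈ W, sympForm m F w y = 0
      · exact hSperp y hy
      · push Not at hy
        obtain ⟨w₁, hw₁, hyw₁⟩ := hy
        -- a vector of `W` not orthogonal to both `u` and `y`
        have ha : ∃ a ∈ W, sympForm m F a u ≠ 0 ∧ sympForm m F a y ≠ 0 := by
          by_cases h1 : sympForm m F w₀ y ≠ 0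
          · exact ⟨w₀, hw₀, huw₀, h1⟩
          · push Not at h1
            by_cases h2 : sympForm m F w₁ u ≠ 0
            · exact ⟨w₁, hw₁, h2, hyw₁⟩
            · push Not at h2
              refine ⟨w₀ + w₁, W.add_mem hw₀ hw₁, ?_, ?_⟩
              · rw [sympForm_add_left, h2, add_zero]; exact huw₀
              · rw [sympForm_add_left, h1, zero_add]; exact hyw₁
        obtain ⟨a, haW, hau, hay⟩ := ha
        have hua : sympForm m F u a ≠ 0 := by
          rw [sympForm_swap]; exact neg_ne_zero.mpr hau
        have hya : sympForm m F y a ≠ 0 := by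
          rw [sympForm_swap]; exact neg_ne_zero.mpr hay
        -- `y = l • (u + z)` with `z ⟂ a`
        set l : F := sympForm m F y a * (sympForm m F u a)⁻¹ with hl
        have hl0 : l ≠ 0 := mul_ne_zero hya (inv_ne_zero hua)
        set z : V := l⁻¹ • y - u with hz
        have hza : sympForm m F z a = 0 := by
          rw [hz, sympForm_sub_left, sympForm_smul_left, hl, mul_inv, inv_inv, mul_comm (sympForm m F y a)⁻¹,
            mul_assoc, inv_mul_cancel₀ hya, mul_one, sub_self]
        have haz : sympForm m F a z = 0 := by rw [sympForm_swap, hza, neg_zero]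
        set b : V := (sympForm m F u a)⁻¹ • z with hb
        have hab : sympForm m F a b = 0 := by rw [hb, sympForm_smul_right, haz, mul_zero]
        -- the Siegel element lies in `M`
        have hsie : siegel a b ∈ M := by
          apply hPM
          apply stab_of_mapsTo
          intro x hx
          rw [siegel_mulVec hab, hW x hx a haW, zero_smul, zero_add]
          exact W.add_mem hx (W.smul_mem _ haW)
        have haS : ∀ c, T a c ∈ M := hSperp a (fun w hw => hW w hw a haW)
        have h1 := hSinv _ hsie u hu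
        have h2 := hSinv _ (haS (-(sympForm m F u b * (sympForm m F u a)⁻¹))) _ h1
        have e : (T a (-(sympForm m F u b * (sympForm m F u a)⁻¹)) : MM) *ᵥ ((siegel a b : MM) *ᵥ u)
            = l⁻¹ • y := by
          rw [siegel_mulVec hab, T_mulVec]
          simp only [sympForm_add_left, sympForm_smul_left, sympForm_self, mul_zero, add_zero]
          have hba : sympForm m F b a = 0 := by rw [sympForm_swap, hab, neg_zero]
          rw [hba, mul_zero, add_zero]
          have e1 : sympForm m F u a • b = z := by
            rw [hb, smul_smul, mul_inv_cancel₀ hua, one_smul]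
          rw [e1, neg_mul, mul_assoc, inv_mul_cancel₀ hua, mul_one, neg_smul, hz]
          abel
        rw [e] at h2
        intro c
        have : y = l • (l⁻¹ • y) := by rw [smul_smul, mul_inv_cancel₀ hl0, one_smul]
        rw [this, T_smul]
        have h4 := h2 (l * l * c)
        exact h4
    rw [eq_top_iff, ← transvectionSubgroup_eq_top m F]
    unfold transvectionSubgroup
    rw [Subgroup.closure_le]
    rintro A ⟨w, c, hA⟩
    have : A = T w c := Subtype.ext hA
    rw [this]
    exact hall w c

end Cfsg.Agent.Helper7.SpMax
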