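import Mathlib
import Cfsg.Agent.Helper7.TensNMD
import Cfsg.Agent.Helper7.TensNME
import Cfsg.Agent.S5645

set_option autoImplicit false

/-! # `Sp_{n₁}(3) ⊗ O_3(3)` is not maximal in `Sp_{3 n₁}(3)` -/

namespace Cfsg.Agent.Helper7.TensNM

open Matrix Cfsg Cfsg.Geo Cfsg.Agent.Helper7.Symp Cfsg.Agent.S5645
open scoped Kronecker

variable {F : Type*} [Field F] [Fintype F]

/-- If a linear automorphism and its inverse both map `W` into itself, the image of `W` is `W`. -/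
theorem map_eq_of_mapsTo {ι : Type} [Fintype ι] [DecidableEq ι] (W : Submodule F (ι → F)) (A A' : Matrix ι ι F)
    (hAA' : A * A' = 1) (h1 : ∀ v ∈ W, A *ᵥ v ∈ W) (h2 : ∀ v ∈ W, A' *ᵥ v ∈ W) :
    W.map (Matrix.toLin' A) = W := by
  apply le_antisymm
  · rintro _ ⟨v, hv, rfl⟩
    rw [Matrix.toLin'_apply]
    exact h1 v hv
  · intro v hv
    refine ⟨A' *ᵥ v, h2 v hv, ?_⟩
    rw [Matrix.toLin'_apply, Matrix.mulVec_mulVec, hAA', Matrix.one_mulVec]

section sp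

variable {m : ℕ}

theorem toGL_val (A : Matrix.symplecticGroup (Fin m) F) :
    ((toGL m F A : GL (Fin m ⊕ Fin m) F) : Matrix (Fin m ⊕ Fin m) (Fin m ⊕ Fin m) F) = (A : Matrix _ _ F) := rfl

theorem T_mul_T_neg (w : Fin m ⊕ Fin m → F) (c : F) :
    ((T w c : Matrix.symplecticGroup (Fin m) F) : Matrix (Fin m ⊕ Fin m) (Fin m ⊕ Fin m) F) *
      ((T w (-c) : Matrix.symplecticGroup (Fin m) F) : Matrix (Fin m ⊕ Fin m) (Fin m ⊕ Fin m) F) = 1 := by
  have := T_mul w c (-c)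
  rw [add_neg_cancel, T_zero_right] at this
  have h2 := congrArg (fun A : Matrix.symplecticGroup (Fin m) F => (A : Matrix (Fin m ⊕ Fin m) (Fin m ⊕ Fin m) F)) this
  exact h2

/-- A transvection whose centre lies in one block stabilises the decomposition. -/
theorem T_mem_stab {t : ℕ} {J : Type} [Fintype J] [DecidableEq J]
    {R : Matrix (Fin m ⊕ Fin m) (Fin t × J) F} {R' : Matrix (Fin t × J) (Fin m ⊕ Fin m) F}
    {G₂ : Matrix J J F} {c : F} (h : Frame R R' (RingHom.id F) (sympForm m F) G₂ c)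
    (l₀ : Fin t) (y₀ : J → F) (a : F) :
    (∀ l, ∀ v ∈ blk R l, ((T (R *ᵥ pt (ev F l₀) y₀) a : Matrix.symplecticGroup (Fin m) F) :
        Matrix (Fin m ⊕ Fin m) (Fin m ⊕ Fin m) F) *ᵥ v ∈ blk R l) ∧
    (∀ l, l ≠ l₀ → ∀ v ∈ blk R l, ((T (R *ᵥ pt (ev F l₀) y₀) a : Matrix.symplecticGroup (Fin m) F) :
        Matrix (Fin m ⊕ Fin m) (Fin m ⊕ Fin m) F) *ᵥ v = v) := by
  have hfix : ∀ l, l ≠ l₀ → ∀ v ∈ blk R l, ((T (R *ᵥ pt (ev F l₀) y₀) a : Matrix.symplecticGroup (Fin m) F) :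
        Matrix (Fin m ⊕ Fin m) (Fin m ⊕ Fin m) F) *ᵥ v = v := by
    intro l hl v hv
    obtain ⟨y, rfl⟩ := mem_blk.mp hv
    rw [T_mulVec, h.form_ev, if_neg hl, mul_zero, zero_smul, add_zero]
  refine ⟨?_, hfix⟩
  intro l v hv
  by_cases hl : l = l₀
  · subst hl
    rw [T_mulVec]
    exact (blk R l).add_mem hv ((blk R l).smul_mem _ (mem_blk.mpr ⟨y₀, rfl⟩))
  · rw [hfix l hl v hv]
    exact hv

theorem toGL_T_mem_stab {t : ℕ} {J : Type} [Fintype J] [DecidableEq J]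
    {R : Matrix (Fin m ⊕ Fin m) (Fin t × J) F} {R' : Matrix (Fin t × J) (Fin m ⊕ Fin m) F}
    {G₂ : Matrix J J F} {c : F} (h : Frame R R' (RingHom.id F) (sympForm m F) G₂ c)
    (l₀ : Fin t) (y₀ : J → F) (a : F) :
    toGL m F (T (R *ᵥ pt (ev F l₀) y₀) a) ∈ decompositionStabilizer (blk R) := by
  refine ⟨1, fun l => ?_⟩
  rw [Equiv.Perm.one_apply, toGL_val]
  exact map_eq_of_mapsTo _ _ _ (T_mul_T_neg _ a) ((T_mem_stab h l₀ y₀ a).1 l) ((T_mem_stab h l₀ y₀ (-a)).1 l)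

end sp

section main

variable {m : ℕ}

/-- `Sp_{n₁}(3) ⊗ O_3(3)` is not maximal in the symplectic group: it stabilises a decomposition into three
non-degenerate subspaces. -/
theorem s5667 (hm : 7 ≤ m) (hq : Fintype.card F = 3) (n₁ : ℕ)
    (e : (Fin m ⊕ Fin m) ≃ Fin n₁ × Fin 3) (P : GL (Fin m ⊕ Fin m) F)
    (f₁ : (Fin n₁ → F) → (Fin n₁ → F) → F) (f₂ : (Fin 3 → F) → (Fin 3 → F) → F)
    (hf₁ : IsSymplecticForm f₁) (hf₂ : IsSymmetricForm f₂)
    (hT : IsTensorFormStructure id (sympForm m F) f₁ f₂ e P) :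
    ∃ K : Subgroup (GL (Fin m ⊕ Fin m) F),
      tensorProductSubgroup n₁ 3 e P ⊓ spGL m F < K ∧ K < spGL m F := by
  obtain ⟨c, hc, hform⟩ := hT
  have hn₁ : 0 < n₁ := by
    have := Fintype.card_congr e
    simp only [Fintype.card_sum, Fintype.card_fin, Fintype.card_prod] at this
    omega
  obtain ⟨U, U', ε, hU, hU', hε, hG⟩ := frame_F3 hq (gramMatrix f₂) (gram_transpose hf₂.symm)
    (gram_nondegenerate hf₂.bilinear hf₂.nondegenerate)
  have hf : ∀ (u u' : Fin 3 → F) (y y' : Fin n₁ → F),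
      sympForm m F (Rs e P *ᵥ pt u y) (Rs e P *ᵥ pt u' y') =
        c * (formOfGram (RingHom.id F) (gramMatrix f₂) u u' * formOfGram (RingHom.id F) (gramMatrix f₁) y y') := by
    intro u u' y y'
    rw [Rs_mulVec_pt, Rs_mulVec_pt, ← mulVec_comp, ← mulVec_comp, hform]
    have h1 := formOfGram_pt (RingHom.id F) (gramMatrix f₁) (gramMatrix f₂) y y' u u'
    rw [mul_comm (formOfGram _ (gramMatrix f₂) u u')]
    exact congrArg (fun z => c * z) h1
  -- a non-zero vector of the large factor and a partner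
  let y₀ : Fin n₁ → F := Pi.single ⟨0, hn₁⟩ 1
  have hy₀ : y₀ ≠ 0 := by
    intro h
    have := congrFun h ⟨0, hn₁⟩
    simp only [y₀, Pi.single_eq_same, Pi.zero_apply] at this
    exact one_ne_zero this
  obtain ⟨x₀, hx₀⟩ := (hf₁.nondegenerate y₀ hy₀).1
  have hgram : ∀ y y' : Fin n₁ → F, formOfGram (RingHom.id F) (gramMatrix f₁) y y' = f₁ y y' :=
    fun y y' => (form_eq_gram hf₁.bilinear y y').symm
  have hnz : ∃ y y', formOfGram (RingHom.id F) (gramMatrix f₁) y y' ≠ 0 := ⟨x₀, y₀, by rw [hgram]; exact hx₀⟩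
  have hG' : Uᵀ * gramMatrix f₂ * U.map (RingHom.id F) = ε • (1 : Matrix (Fin 3) (Fin 3) F) := by
    have : U.map (RingHom.id F) = U := by
      ext i j; rfl
    rw [this]
    exact hG
  have hFr := frame_of (Rs_mul_Rs' e P) (Rs'_mul_Rs e P) hc hf hU hU' hε hG' hnz
  obtain ⟨R, hR⟩ : ∃ R, R = Rs e P * (U ⊗ₖ (1 : Matrix (Fin n₁) (Fin n₁) F)) := ⟨_, rfl⟩
  obtain ⟨R', hR'⟩ : ∃ R', R' = (U' ⊗ₖ (1 : Matrix (Fin n₁) (Fin n₁) F)) * Rs' e P := ⟨_, rfl⟩
  rw [← hR, ← hR'] at hFr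
  haveI : Nonempty (Fin n₁) := ⟨⟨0, hn₁⟩⟩
  -- the key values of the form
  have hval : ∀ y : Fin n₁ → F, sympForm m F (R *ᵥ pt (ev F 0) y) (R *ᵥ pt (ev F 0) y₀) = c * ε * f₁ y y₀ := by
    intro y
    rw [hFr.form_ev, if_pos rfl, hgram]
  have hκ : c * ε * f₁ x₀ y₀ ≠ 0 := mul_ne_zero (mul_ne_zero hc hε) hx₀
  -- elements of the tensor subgroup in frame coordinates
  have hrep : ∀ g ∈ tensorProductSubgroup n₁ 3 e P, ∃ (B : Matrix (Fin 3) (Fin 3) F) (a : GL (Fin n₁) F),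
      (g : Matrix (Fin m ⊕ Fin m) (Fin m ⊕ Fin m) F) = R * (B ⊗ₖ (a : Matrix (Fin n₁) (Fin n₁) F)) * R' := by
    intro g hg
    obtain ⟨a, b, hab⟩ := mem_tensor_swap hg
    refine ⟨U' * (b : Matrix (Fin 3) (Fin 3) F) * U, a, ?_⟩
    rw [hR, hR']
    exact conj_of hU hab
  refine ⟨decompositionStabilizer (blk R) ⊓ spGL m F, lt_of_le_not_ge ?_ ?_, lt_of_le_not_ge inf_le_right ?_⟩
  · rintro g ⟨hg1, hg2⟩
    obtain ⟨B, a, hg⟩ := hrep g hg1
    refine ⟨hFr.stab (mono_F3 hq) (A := (a : Matrix (Fin n₁) (Fin n₁) F))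
      (A' := ((a⁻¹ : GL (Fin n₁) F) : Matrix (Fin n₁) (Fin n₁) F)) ?_ hg (fun x y => hg2 x y), hg2⟩
    rw [← Units.val_mul, mul_inv_cancel, Units.val_one]
  · intro hle
    have hmem : toGL m F (T (R *ᵥ pt (ev F 0) y₀) 1) ∈ decompositionStabilizer (blk R) ⊓ spGL m F :=
      ⟨toGL_T_mem_stab hFr 0 y₀ 1, toGL_mem _⟩
    obtain ⟨B, a, hg⟩ := hrep _ (hle hmem).1
    obtain ⟨s, hs⟩ := hFr.scalar_of_fix hg (l₀ := 0) (l₁ := 1)
      (fun v hv => (T_mem_stab hFr 0 y₀ 1).2 1 (by decide) v hv)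
      (fun v hv => (T_mem_stab hFr 0 y₀ 1).1 0 v hv)
    have h1 := hs _ (mem_blk.mpr ⟨x₀, rfl⟩)
    rw [toGL_val, T_mulVec, hval, one_mul] at h1
    -- apply the form with the vector itself
    have h2 := congrArg (fun z => sympForm m F (R *ᵥ pt (ev F 0) x₀) z) h1
    simp only [sympForm_add_right, sympForm_smul_right, sympForm_self, hval, mul_zero, zero_add] at h2
    exact hκ (mul_self_eq_zero.mp h2)
  · intro hle
    have hmem : toGL m F (T (R *ᵥ pt (ev F 0 + ev F 1) y₀) 1) ∈ decompositionStabilizer (blk R) :=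
      (hle (toGL_mem _)).1
    obtain ⟨π, hπ⟩ := hmem
    have h1 : (toGL m F (T (R *ᵥ pt (ev F 0 + ev F 1) y₀) 1) : Matrix _ _ F) *ᵥ (R *ᵥ pt (ev F 0) x₀) ∈ blk R (π 0) := by
      rw [← hπ 0]
      exact ⟨_, mem_blk.mpr ⟨x₀, rfl⟩, by rw [Matrix.toLin'_apply]⟩
    obtain ⟨z, hz⟩ := mem_blk.mp h1
    have hw : sympForm m F (R *ᵥ pt (ev F 0) x₀) (R *ᵥ pt (ev F 0 + ev F 1) y₀) = c * ε * f₁ x₀ y₀ := by
      rw [pt_add_left, Matrix.mulVec_add, sympForm_add_right, hval, hFr.form_ev, if_neg (by decide), add_zero]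
    rw [toGL_val, T_mulVec, hw, one_mul, pt_add_left, Matrix.mulVec_add, smul_add, ← add_assoc,
      ← Matrix.mulVec_smul, ← Matrix.mulVec_smul, ← pt_smul_right, ← pt_smul_right, ← Matrix.mulVec_add,
      ← pt_add_right, ← Matrix.mulVec_add] at hz
    have hz' := hFr.R_inj hz
    -- coordinates
    have hy1 : (c * ε * f₁ x₀ y₀) • y₀ ≠ 0 := smul_ne_zero hκ hy₀
    have hy2 : x₀ + (c * ε * f₁ x₀ y₀) • y₀ ≠ 0 := by
      intro h0
      have := congrArg (fun y => f₁ y y₀) h0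
      simp only [hf₁.bilinear.add_left, hf₁.bilinear.smul_left, hf₁.alternating, mul_zero, add_zero] at this
      have h3 : f₁ (0 : Fin n₁ → F) y₀ = 0 := by
        have := hf₁.bilinear.smul_left 0 0 y₀
        simpa using this
      rw [h3] at this
      exact hx₀ this
    obtain ⟨j₁, hj₁⟩ : ∃ j, ((c * ε * f₁ x₀ y₀) • y₀) j ≠ 0 := by
      by_contra hcon
      push Not at hcon
      exact hy1 (funext hcon)
    obtain ⟨j₂, hj₂⟩ : ∃ j, (x₀ + (c * ε * f₁ x₀ y₀) • y₀) j ≠ 0 := by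
      by_contra hcon
      push Not at hcon
      exact hy2 (funext hcon)
    have e1 := congrFun hz' (1, j₁)
    have e2 := congrFun hz' (0, j₂)
    simp only [Pi.add_apply, pt_apply, ev_apply] at e1 e2
    by_cases hp : π 0 = 1
    · rw [hp] at e2
      simp at e2
      exact hj₂ e2
    · have : (1 : Fin 3) ≠ π 0 := fun h => hp h.symm
      rw [if_neg this] at e1
      simp at e1
      rcases e1 with ((h | h) | h) | h
      · exact hc h
      · exact hε h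
      · exact hx₀ h
      · apply hj₁
        rw [Pi.smul_apply, h, smul_zero]

end main

end Cfsg.Agent.Helper7.TensNM
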