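import Mathlib
import Cfsg.Agent.Helper7.TensNMF
import Cfsg.Agent.Helper7.OrthMaxC

set_option autoImplicit false

/-! # Tensor products with `O_3(3)` in orthogonal groups: preparations -/

namespace Cfsg.Agent.Helper7.TensNM

open Matrix Cfsg Cfsg.Geo
open scoped Kronecker

variable {F : Type*} [Field F]

section blocks

variable {ι : Type} [Fintype ι] [DecidableEq ι] {t : ℕ} {J : Type} [Fintype J] [DecidableEq J]
  {R : Matrix ι (Fin t × J) F} {R' : Matrix (Fin t × J) ι F} {σ : F →+* F}
  {f : (ι → F) → (ι → F) → F} {G₂ : Matrix J J F} {c : F}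

/-- A vector with non-zero components in two different blocks lies in no block. -/
theorem Frame.not_mem_blk_of_two (h : Frame R R' σ f G₂ c) {l l' : Fin t} (hll : l ≠ l') {y y' : J → F}
    (hy : y ≠ 0) (hy' : y' ≠ 0) (j : Fin t) :
    R *ᵥ pt (ev F l) y + R *ᵥ pt (ev F l') y' ∉ blk R j := by
  intro hmem
  obtain ⟨z, hz⟩ := mem_blk.mp hmem
  rw [← Matrix.mulVec_add] at hz
  have hz' := h.R_inj hz
  obtain ⟨j₁, hj₁⟩ : ∃ k, y k ≠ 0 := by
    by_contra hcon
    push Not at hcon
    exact hy (funext hcon)
  obtain ⟨j₂, hj₂⟩ : ∃ k, y' k ≠ 0 := by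
    by_contra hcon
    push Not at hcon
    exact hy' (funext hcon)
  have e1 := congrFun hz' (l, j₁)
  have e2 := congrFun hz' (l', j₂)
  simp only [Pi.add_apply, pt_apply, ev_apply, if_pos rfl, if_true, if_neg hll, if_neg (Ne.symm hll), one_mul, zero_mul,
    add_zero, zero_add] at e1 e2
  by_cases hj : l = j
  · have : l' ≠ j := fun h' => hll (hj.trans h'.symm)
    rw [if_neg this, zero_mul] at e2
    exact hj₂ e2
  · rw [if_neg hj, zero_mul] at e1
    exact hj₁ e1

end blocks

section triple

variable [Fintype F]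

/-- Over the field with 3 elements, a non-degenerate symmetric form in dimension at least 3 has a singular vector
`y_u`, an anisotropic vector `y_w` orthogonal to it, and a vector `y_v` orthogonal to `y_w` and not to `y_u`. -/
theorem exists_triple (hq : Fintype.card F = 3) {n : ℕ} (hn : 3 ≤ n) {f₂ : (Fin n → F) → (Fin n → F) → F}
    (hf₂ : IsSymmetricForm f₂) :
    ∃ yu yw yv : Fin n → F, f₂ yu yu = 0 ∧ f₂ yu yw = 0 ∧ f₂ yw yw ≠ 0 ∧ f₂ yv yu ≠ 0 ∧ f₂ yv yw = 0 := by
  have h2 : (2 : F) ≠ 0 := by
    rw [two_eq_neg_one hq]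
    exact neg_ne_zero.mpr one_ne_zero
  have h3 := three_eq_zero hq
  obtain ⟨U, U', d, -, -, hd, hdiag⟩ := exists_diag h2 (gramMatrix f₂) (gram_transpose hf₂.symm)
    (gram_nondegenerate hf₂.bilinear hf₂.nondegenerate)
  -- the orthogonal basis
  let v : Fin n → (Fin n → F) := fun i k => U k i
  have hv : ∀ i j, f₂ (v i) (v j) = if i = j then d i else 0 := by
    intro i j
    rw [← toBilin'_gram hf₂.bilinear, Matrix.toBilin'_apply']
    have := congr_entry U (gramMatrix f₂) i j
    rw [hdiag, Matrix.diagonal_apply] at this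
    exact this.symm
  have hb := hf₂.bilinear
  obtain ⟨i0, i1, i2, h01, h02, h12⟩ : ∃ i0 i1 i2 : Fin n, i0 ≠ i1 ∧ i0 ≠ i2 ∧ i1 ≠ i2 :=
    ⟨⟨0, by omega⟩, ⟨1, by omega⟩, ⟨2, by omega⟩, by simp [Fin.ext_iff], by simp [Fin.ext_iff], by simp [Fin.ext_iff]⟩
  rcases eq_or_eq_neg hq (hd i0) (hd i1) with h1 | h1
  · rcases eq_or_eq_neg hq (hd i0) (hd i2) with h2' | h2'
    · -- all three norms are equal
      refine ⟨v i0 + v i1 + v i2, v i0 - v i1, v i2, ?_, ?_, ?_, ?_, ?_⟩
      · simp only [hb.add_left, hb.add_right, hv, if_pos rfl, if_true, if_neg h01, if_neg h02, if_neg h12,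
          if_neg (Ne.symm h01), if_neg (Ne.symm h02), if_neg (Ne.symm h12), h1, h2']
        linear_combination (d i0) * h3
      · have hsub : ∀ a b z : Fin n → F, f₂ z (a - b) = f₂ z a - f₂ z b := by
          intro a b z
          have e1 : a - b = a + (-1 : F) • b := by rw [neg_one_smul, sub_eq_add_neg]
          rw [e1, hb.add_right, hb.smul_right]
          ring
        simp only [hb.add_left, hsub, hv, if_pos rfl, if_true, if_neg h01, if_neg h02, if_neg h12,
          if_neg (Ne.symm h01), if_neg (Ne.symm h02), if_neg (Ne.symm h12), h1]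
        ring
      · have hsub : ∀ a b z : Fin n → F, f₂ z (a - b) = f₂ z a - f₂ z b := by
          intro a b z
          have e1 : a - b = a + (-1 : F) • b := by rw [neg_one_smul, sub_eq_add_neg]
          rw [e1, hb.add_right, hb.smul_right]
          ring
        have hsubL : ∀ a b z : Fin n → F, f₂ (a - b) z = f₂ a z - f₂ b z := by
          intro a b z
          rw [hf₂.symm, hsub, hf₂.symm z a, hf₂.symm z b]
        simp only [hsubL, hsub, hv, if_pos rfl, if_true, if_neg h01, if_neg (Ne.symm h01), h1]
        intro h0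
        have : (2 : F) * d i0 = 0 := by linear_combination h0
        rcases mul_eq_zero.mp this with h | h
        · exact h2 h
        · exact hd i0 h
      · simp only [hb.add_right, hv, if_pos rfl, if_true, if_neg (Ne.symm h02), if_neg (Ne.symm h12), zero_add]
        exact hd i2
      · have hsub : ∀ a b z : Fin n → F, f₂ z (a - b) = f₂ z a - f₂ z b := by
          intro a b z
          have e1 : a - b = a + (-1 : F) • b := by rw [neg_one_smul, sub_eq_add_neg]
          rw [e1, hb.add_right, hb.smul_right]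
          ring
        simp only [hsub, hv, if_neg (Ne.symm h02), if_neg (Ne.symm h12), sub_zero]
    · -- d i2 = - d i0
      refine ⟨v i0 + v i2, v i1, v i0, ?_, ?_, ?_, ?_, ?_⟩
      · simp only [hb.add_left, hb.add_right, hv, if_pos rfl, if_true, if_neg h02, if_neg (Ne.symm h02), h2']
        ring
      · simp only [hb.add_left, hv, if_neg h01, if_neg (Ne.symm h12), add_zero]
      · rw [hv, if_pos rfl]
        exact hd i1
      · simp only [hb.add_right, hv, if_pos rfl, if_true, if_neg h02, add_zero]
        exact hd i0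
      · rw [hv, if_neg h01]
  · -- d i1 = - d i0
    refine ⟨v i0 + v i1, v i2, v i0, ?_, ?_, ?_, ?_, ?_⟩
    · simp only [hb.add_left, hb.add_right, hv, if_pos rfl, if_true, if_neg h01, if_neg (Ne.symm h01), h1]
      ring
    · simp only [hb.add_left, hv, if_neg h02, if_neg h12, add_zero]
    · rw [hv, if_pos rfl]
      exact hd i2
    · simp only [hb.add_right, hv, if_pos rfl, if_true, if_neg h01, add_zero]
      exact hd i0
    · rw [hv, if_neg h02]

end triple

end Cfsg.Agent.Helper7.TensNM
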