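import Mathlib
import Cfsg.Agent.Helper7.TensNMG
import Cfsg.Agent.Helper7.Hermitian

set_option autoImplicit false

/-! # Unitary forms over the field with four elements: Gram forms, orthonormal frames in dimension two -/

namespace Cfsg.Agent.Helper7.TensNM

open Matrix Cfsg Cfsg.Geo Cfsg.Agent.Helper7.Herm
open scoped Kronecker

variable {F : Type*} [Field F] [Fintype F]

/-- The map `x ↦ x ^ q` as a ring homomorphism of the field with `q²` elements. -/
def frobQ {q : ℕ} (hF : Fintype.card F = q ^ 2) : F →+* F where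
  toFun x := x ^ q
  map_one' := one_pow q
  map_mul' a b := mul_pow a b q
  map_zero' := zero_pow (by have := one_le_q hF; omega)
  map_add' a b := add_pow_q hF a b

theorem frobQ_apply {q : ℕ} (hF : Fintype.card F = q ^ 2) (x : F) : frobQ hF x = x ^ q := rfl

section sesq

variable {I : Type} [Fintype I] [DecidableEq I] {q : ℕ}

theorem unitary_add_right (hF : Fintype.card F = q ^ 2) {f : (I → F) → (I → F) → F} (hf : IsUnitaryFormPow q f)
    (v x y : I → F) : f v (x + y) = f v x + f v y := by
  rw [hf.herm v (x + y), hf.add_left, add_pow_q hF, ← hf.herm, ← hf.herm]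

theorem unitary_smul_right {f : (I → F) → (I → F) → F} (hf : IsUnitaryFormPow q f)
    (c : F) (v x : I → F) : f v (c • x) = c ^ q * f v x := by
  rw [hf.herm v (c • x), hf.smul_left, mul_pow, ← hf.herm]

theorem unitary_zero_left {f : (I → F) → (I → F) → F} (hf : IsUnitaryFormPow q f) (y : I → F) : f 0 y = 0 := by
  have := hf.smul_left 0 0 y
  simpa using this

theorem unitary_zero_right (hF : Fintype.card F = q ^ 2) {f : (I → F) → (I → F) → F} (hf : IsUnitaryFormPow q f)
    (y : I → F) : f y 0 = 0 := by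
  rw [hf.herm, unitary_zero_left hf, zero_pow]
  have := one_le_q hF
  omega

/-- A unitary form is the form of its Gram matrix. -/
theorem unitary_eq_gram (hF : Fintype.card F = q ^ 2) {f : (I → F) → (I → F) → F} (hf : IsUnitaryFormPow q f)
    (x y : I → F) : f x y = formOfGram (frobQ hF) (gramMatrix f) x y := by
  have hsumL : ∀ (s : Finset I) (g : I → (I → F)) (v : I → F), f (∑ i ∈ s, g i) v = ∑ i ∈ s, f (g i) v := by
    intro s g v
    induction s using Finset.induction_on with
    | empty =>
      simp only [Finset.sum_empty]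
      exact unitary_zero_left hf v
    | insert a s ha ih => rw [Finset.sum_insert ha, Finset.sum_insert ha, hf.add_left, ih]
  have hsumR : ∀ (s : Finset I) (g : I → (I → F)) (v : I → F), f v (∑ i ∈ s, g i) = ∑ i ∈ s, f v (g i) := by
    intro s g v
    induction s using Finset.induction_on with
    | empty =>
      simp only [Finset.sum_empty]
      exact unitary_zero_right hF hf v
    | insert a s ha ih => rw [Finset.sum_insert ha, Finset.sum_insert ha, unitary_add_right hF hf, ih]
  have hx : x = ∑ i, x i • (Pi.single i 1 : I → F) := by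
    ext j
    simp [Finset.sum_apply, Pi.single_apply]
  have hy : y = ∑ i, y i • (Pi.single i 1 : I → F) := by
    ext j
    simp [Finset.sum_apply, Pi.single_apply]
  conv_lhs => rw [hx, hsumL]
  unfold formOfGram gramMatrix
  refine Finset.sum_congr rfl fun a _ => ?_
  rw [hf.smul_left]
  conv_lhs => rw [hy, hsumR, Finset.mul_sum]
  refine Finset.sum_congr rfl fun b _ => ?_
  rw [unitary_smul_right hf, frobQ_apply]
  ring

theorem conj_entry (σ : F →+* F) (M G : Matrix I I F) (i j : I) :
    (Mᵀ * G * M.map σ) i j = formOfGram σ G (fun k => M k i) (fun k => M k j) := by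
  unfold formOfGram
  simp only [Matrix.mul_apply, Matrix.transpose_apply, Matrix.map_apply, Finset.sum_mul]
  rw [Finset.sum_comm]

end sesq

section F4

variable {I : Type} [Fintype I] [DecidableEq I]

theorem two_eq_zero_F4 (hF : Fintype.card F = 2 ^ 2) : (2 : F) = 0 := by
  have h4 : (4 : F) = 0 := by
    have := Nat.cast_card_eq_zero F
    rw [hF] at this
    norm_num at this
    exact this
  have : (2 : F) * 2 = 0 := by rw [← h4]; norm_num
  exact mul_self_eq_zero.mp this

theorem add_self_F4 (hF : Fintype.card F = 2 ^ 2) (x : F) : x + x = 0 := by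
  have := two_eq_zero_F4 hF
  linear_combination x * this

theorem cube_F4 (hF : Fintype.card F = 2 ^ 2) {x : F} (hx : x ≠ 0) : x ^ 3 = 1 := by
  have := FiniteField.pow_card_sub_one_eq_one x hx
  rw [hF] at this
  exact this

theorem norm_F4 (hF : Fintype.card F = 2 ^ 2) {x : F} (hx : x ≠ 0) : x * x ^ 2 = 1 := by
  rw [← cube_F4 hF hx]; ring

/-- An element outside the prime field. -/
theorem exists_omega_F4 (hF : Fintype.card F = 2 ^ 2) : ∃ ω : F, ω ^ 2 + ω ≠ 0 := by
  classical
  by_contra hcon
  push Not at hcon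
  -- every element would be a root of `X² + X`
  have hsub : (Finset.univ : Finset F) ⊆ {0, 1} := by
    intro x _
    have := hcon x
    have h2 : x * (x + 1) = 0 := by linear_combination this
    rcases mul_eq_zero.mp h2 with h | h
    · simp [h]
    · have : x = 1 := by
        have h3 := add_self_F4 hF (1 : F)
        linear_combination h - h3
      simp [this]
  have := Finset.card_le_card hsub
  rw [Finset.card_univ, hF] at this
  have h2 : ({0, 1} : Finset F).card ≤ 2 := Finset.card_insert_le _ _
  omega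

theorem self_zero_or_one {f : (I → F) → (I → F) → F} (hf : IsUnitaryFormPow 2 f) (v : I → F) :
    f v v = 0 ∨ f v v = 1 := by
  have := hf.herm v v
  have h2 : f v v * (f v v - 1) = 0 := by linear_combination -this
  rcases mul_eq_zero.mp h2 with h | h
  · left; exact h
  · right; exact sub_eq_zero.mp h

/-- A non-degenerate unitary form over the field with four elements has a vector of norm one. -/
theorem exists_norm_one (hF : Fintype.card F = 2 ^ 2) {f : (I → F) → (I → F) → F} (hf : IsUnitaryFormPow 2 f)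
    {x : I → F} (hx : x ≠ 0) : ∃ v, f v v = 1 := by
  by_contra hcon
  push Not at hcon
  have h0 : ∀ v, f v v = 0 := fun v => (self_zero_or_one hf v).resolve_right (hcon v)
  obtain ⟨w, hw⟩ := (hf.nondegenerate x hx).1
  obtain ⟨ω, hω⟩ := exists_omega_F4 hF
  have key : ∀ a : F, a * f w x + (a * f w x) ^ 2 = 0 := by
    intro a
    have h1 := h0 (a • w + x)
    rw [hf.add_left, unitary_add_right hF hf, unitary_add_right hF hf, h0, h0, hf.herm x (a • w), hf.smul_left] at h1
    linear_combination h1
  have h2 := key (ω * (f w x)⁻¹)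
  rw [mul_assoc, inv_mul_cancel₀ hw, mul_one] at h2
  exact hω (by linear_combination h2)

/-- An orthonormal basis of a unitary plane over the field with four elements. -/
theorem exists_orthonormal2 (hF : Fintype.card F = 2 ^ 2) {f : (Fin 2 → F) → (Fin 2 → F) → F}
    (hf : IsUnitaryFormPow 2 f) :
    ∃ v w : Fin 2 → F, f v v = 1 ∧ f w w = 1 ∧ f v w = 0 ∧ f w v = 0 := by
  have hx : (Pi.single 0 1 : Fin 2 → F) ≠ 0 := by
    intro h
    have := congrFun h 0
    simp at this
  obtain ⟨v, hv⟩ := exists_norm_one hF hf hx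
  obtain ⟨p, hp⟩ : ∃ p, p = f (Pi.single 0 1) v := ⟨_, rfl⟩
  obtain ⟨r, hr⟩ : ∃ r, r = f (Pi.single 1 1) v := ⟨_, rfl⟩
  have hlin : ∀ x : Fin 2 → F, f x v = x 0 * p + x 1 * r := by
    intro x
    have hxe : x = x 0 • (Pi.single 0 1 : Fin 2 → F) + x 1 • (Pi.single 1 1 : Fin 2 → F) := by
      ext i
      fin_cases i <;> simp
    conv_lhs => rw [hxe]
    rw [hf.add_left, hf.smul_left, hf.smul_left, hp, hr]
  obtain ⟨w, hw⟩ : ∃ w : Fin 2 → F, w = ![r, p] := ⟨_, rfl⟩
  have hw0 : w 0 = r := by rw [hw]; rfl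
  have hw1 : w 1 = p := by rw [hw]; rfl
  have hwv : f w v = 0 := by
    rw [hlin, hw0, hw1]
    have := add_self_F4 hF (r * p)
    linear_combination this
  have hvw : f v w = 0 := by
    rw [hf.herm, hwv]
    ring
  have hD : v 0 * w 1 - v 1 * w 0 = 1 := by
    rw [hw0, hw1, ← hv, hlin v]
    have := add_self_F4 hF (v 1 * r)
    linear_combination -this
  have hcramer : ∀ x : Fin 2 → F, x = (x 0 * w 1 - x 1 * w 0) • v + (v 0 * x 1 - v 1 * x 0) • w := by
    intro x
    ext i
    fin_cases i
    · simp only [Fin.zero_eta, Pi.add_apply, Pi.smul_apply, smul_eq_mul]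
      linear_combination (-(x 0)) * hD
    · simp only [Fin.mk_one, Pi.add_apply, Pi.smul_apply, smul_eq_mul]
      linear_combination (-(x 1)) * hD
  have hwne : w ≠ 0 := by
    intro h
    rw [h] at hD
    simp at hD
  have hww : f w w ≠ 0 := by
    intro h0
    obtain ⟨y, hy⟩ := (hf.nondegenerate w hwne).2
    apply hy
    rw [hcramer y, unitary_add_right hF hf, unitary_smul_right hf, unitary_smul_right hf, hwv, h0, mul_zero, mul_zero,
      add_zero]
  exact ⟨v, w, hv, (self_zero_or_one hf w).resolve_left hww, hvw, hwv⟩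

/-- The orthonormal frame of a unitary plane, in matrix form. -/
theorem frame_F4 (hF : Fintype.card F = 2 ^ 2) {f : (Fin 2 → F) → (Fin 2 → F) → F} (hf : IsUnitaryFormPow 2 f) :
    ∃ (U U' : Matrix (Fin 2) (Fin 2) F) (ε : F), U * U' = 1 ∧ U' * U = 1 ∧ ε ≠ 0 ∧
      Uᵀ * gramMatrix f * U.map (frobQ hF) = ε • (1 : Matrix (Fin 2) (Fin 2) F) := by
  obtain ⟨v, w, hvv, hww, hvw, hwv⟩ := exists_orthonormal2 hF hf
  obtain ⟨U, hU⟩ : ∃ U : Matrix (Fin 2) (Fin 2) F, U = Matrix.of fun i j => if j = 0 then v i else w i := ⟨_, rfl⟩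
  have hc0 : (fun k => U k 0) = v := by
    ext k; rw [hU]; simp
  have hc1 : (fun k => U k 1) = w := by
    ext k; rw [hU]; simp
  have hgram : Uᵀ * gramMatrix f * U.map (frobQ hF) = (1 : F) • (1 : Matrix (Fin 2) (Fin 2) F) := by
    ext i j
    rw [conj_entry, ← unitary_eq_gram hF hf, one_smul]
    fin_cases i <;> fin_cases j
    · simp only [Fin.zero_eta, hc0, hvv, Matrix.one_apply_eq]
    · simp only [Fin.zero_eta, Fin.mk_one, hc0, hc1, hvw]
      rfl
    · simp only [Fin.zero_eta, Fin.mk_one, hc0, hc1, hwv]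
      rfl
    · simp only [Fin.mk_one, hc1, hww, Matrix.one_apply_eq]
  have hdet : IsUnit U.det := by
    have h1 := congrArg Matrix.det hgram
    rw [Matrix.det_mul, Matrix.det_mul, Matrix.det_transpose, one_smul, Matrix.det_one] at h1
    rw [isUnit_iff_ne_zero]
    intro h0
    rw [h0, zero_mul, zero_mul] at h1
    exact zero_ne_one h1
  exact ⟨U, U⁻¹, 1, Matrix.mul_nonsing_inv U hdet, Matrix.nonsing_inv_mul U hdet, one_ne_zero, hgram⟩

/-- The monomial property for `GU_2(2)`. -/
theorem mono_F4 (hF : Fintype.card F = 2 ^ 2) : Mono (frobQ hF) 2 := by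
  intro B μ hμ hB l
  have hcol := hB l l
  rw [if_pos rfl, Fin.sum_univ_two] at hcol
  simp only [frobQ_apply] at hcol
  by_cases h0 : B 0 l = 0
  · refine ⟨1, fun k hk => ?_⟩
    have : k = 0 := by
      fin_cases k
      · rfl
      · exact absurd rfl hk
    rw [this, h0]
  · by_cases h1 : B 1 l = 0
    · refine ⟨0, fun k hk => ?_⟩
      have : k = 1 := by
        fin_cases k
        · exact absurd rfl hk
        · rfl
      rw [this, h1]
    · exfalso
      rw [norm_F4 hF h0, norm_F4 hF h1] at hcol
      apply hμ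
      rw [← hcol]
      exact add_self_F4 hF 1

/-- A singular vector and a partner, for a unitary form in dimension at least two. -/
theorem exists_singular_pair (hF : Fintype.card F = 2 ^ 2) {n : ℕ} (hn : 2 ≤ n)
    {f : (Fin n → F) → (Fin n → F) → F} (hf : IsUnitaryFormPow 2 f) :
    ∃ yu yv : Fin n → F, f yu yu = 0 ∧ f yv yu ≠ 0 := by
  have hx : (Pi.single ⟨0, by omega⟩ 1 : Fin n → F) ≠ 0 := by
    intro h
    have := congrFun h ⟨0, by omega⟩
    simp at this
  obtain ⟨y₁, h11⟩ := exists_norm_one hF hf hx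
  -- a coordinate where `y₁` does not vanish
  obtain ⟨j, hj⟩ : ∃ j, y₁ j ≠ 0 := by
    by_contra hcon
    push Not at hcon
    have : y₁ = 0 := funext hcon
    rw [this, unitary_zero_left hf] at h11
    exact zero_ne_one h11
  obtain ⟨j', hj'⟩ : ∃ j' : Fin n, j' ≠ j := by
    by_cases h : j = ⟨0, by omega⟩
    · exact ⟨⟨1, by omega⟩, by rw [h]; simp [Fin.ext_iff]⟩
    · exact ⟨⟨0, by omega⟩, fun h' => h h'.symm⟩
  obtain ⟨y₂, hy₂⟩ : ∃ y₂ : Fin n → F, y₂ = Pi.single j' 1 + (f (Pi.single j' 1) y₁) • y₁ := ⟨_, rfl⟩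
  have h21 : f y₂ y₁ = 0 := by
    rw [hy₂, hf.add_left, hf.smul_left, h11, mul_one]
    exact add_self_F4 hF _
  have h12 : f y₁ y₂ = 0 := by
    rw [hf.herm, h21]; ring
  have hy₂0 : y₂ ≠ 0 := by
    intro h0
    have e1 := congrFun h0 j
    have e2 := congrFun h0 j'
    rw [hy₂] at e1 e2
    simp only [Pi.add_apply, Pi.smul_apply, Pi.single_eq_same, Pi.single_eq_of_ne (Ne.symm hj'), smul_eq_mul,
      Pi.zero_apply, zero_add] at e1 e2
    rcases mul_eq_zero.mp e1 with h | h
    · rw [h, zero_mul, add_zero] at e2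
      exact one_ne_zero e2
    · exact hj h
  rcases self_zero_or_one hf y₂ with h22 | h22
  · obtain ⟨yv, hyv⟩ := (hf.nondegenerate y₂ hy₂0).1
    exact ⟨y₂, yv, h22, hyv⟩
  · refine ⟨y₁ + y₂, y₁, ?_, ?_⟩
    · rw [hf.add_left, unitary_add_right hF hf, unitary_add_right hF hf, h11, h22, h12, h21, add_zero, zero_add]
      exact add_self_F4 hF 1
    · rw [unitary_add_right hF hf, h11, h12, add_zero]
      exact one_ne_zero

end F4

end Cfsg.Agent.Helper7.TensNM
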