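import Mathlib
import Cfsg.Agent.Helper7.SUNdA

set_option autoImplicit false
set_option linter.unusedSectionVars false

/-! Non-degenerate subspaces of the unitary space: block decomposition of `F^(k+m)`, block diagonal
elements of `SU`, and the standard position of a non-degenerate subspace (helper7). -/

namespace Cfsg.Agent.Helper7.SUNd

open Matrix Module Cfsg Cfsg.Agent.Helper7.Herm Cfsg.Agent.Helper8.GUOrder Cfsg.Agent.Helper8.SURoot
  Cfsg.Agent.Helper8.AutSU

variable {F : Type*} [Field F] [Fintype F] {q N k m : ℕ} [hF : Fact (Fintype.card F = q ^ 2)]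

/-- concatenation of vectors. -/
def apv (x : Fin k → F) (y : Fin m → F) : Fin (k + m) → F := Fin.append x y

/-- the first block of a vector. -/
def p1 (v : Fin (k + m) → F) : Fin k → F := fun i => v (Fin.castAdd m i)

/-- the second block of a vector. -/
def p2 (v : Fin (k + m) → F) : Fin m → F := fun j => v (Fin.natAdd k j)

omit [Fintype F] hF in
theorem apv_p (v : Fin (k + m) → F) : apv (p1 v) (p2 v) = v := by
  ext i
  refine Fin.addCases (fun a => ?_) (fun c => ?_) i
  · simp [apv, p1]
  · simp [apv, p2]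

omit [Fintype F] hF in
@[simp] theorem p1_apv (x : Fin k → F) (y : Fin m → F) : p1 (apv x y) = x := by
  ext i; simp [apv, p1]

omit [Fintype F] hF in
@[simp] theorem p2_apv (x : Fin k → F) (y : Fin m → F) : p2 (apv x y) = y := by
  ext i; simp [apv, p2]

omit [Fintype F] hF in
theorem herm_apv (x x' : Fin k → F) (y y' : Fin m → F) :
    hermForm (k + m) F q (apv x y) (apv x' y') = hermForm k F q x x' + hermForm m F q y y' := by
  unfold hermForm
  rw [Fin.sum_univ_add]
  simp [apv]

omit [Fintype F] hF in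
theorem apv_add (x x' : Fin k → F) (y y' : Fin m → F) :
    apv (x + x') (y + y') = apv x y + apv x' y' := by
  ext i
  refine Fin.addCases (fun a => ?_) (fun c => ?_) i <;> simp [apv]

omit [Fintype F] hF in
theorem apv_sub (x x' : Fin k → F) (y y' : Fin m → F) :
    apv (x - x') (y - y') = apv x y - apv x' y' := by
  ext i
  refine Fin.addCases (fun a => ?_) (fun c => ?_) i <;> simp [apv]

omit [Fintype F] hF in
theorem apv_smul (c : F) (x : Fin k → F) (y : Fin m → F) :
    apv (c • x) (c • y) = c • apv x y := by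
  ext i
  refine Fin.addCases (fun a => ?_) (fun c => ?_) i <;> simp [apv]

omit [Fintype F] hF in
theorem apv_zero : apv (0 : Fin k → F) (0 : Fin m → F) = 0 := by
  ext i
  refine Fin.addCases (fun a => ?_) (fun c => ?_) i <;> simp [apv]

omit [Fintype F] hF in
theorem apv_inj {x x' : Fin k → F} {y y' : Fin m → F} (h : apv x y = apv x' y') :
    x = x' ∧ y = y' := by
  have h1 := congrArg p1 h
  have h2 := congrArg p2 h
  rw [p1_apv, p1_apv] at h1
  rw [p2_apv, p2_apv] at h2
  exact ⟨h1, h2⟩

/-- the block diagonal matrix. -/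
def bdM (A : Matrix (Fin k) (Fin k) F) (B : Matrix (Fin m) (Fin m) F) :
    Matrix (Fin (k + m)) (Fin (k + m)) F :=
  (Matrix.fromBlocks A 0 0 B).submatrix finSumFinEquiv.symm finSumFinEquiv.symm

omit [Fintype F] hF in
theorem bdM_mulVec (A : Matrix (Fin k) (Fin k) F) (B : Matrix (Fin m) (Fin m) F)
    (x : Fin k → F) (y : Fin m → F) : bdM A B *ᵥ apv x y = apv (A *ᵥ x) (B *ᵥ y) := by
  unfold bdM
  rw [Matrix.submatrix_mulVec_equiv, Equiv.symm_symm, Matrix.fromBlocks_mulVec]
  have h1 : (apv x y ∘ ⇑finSumFinEquiv) ∘ Sum.inl = x := by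
    ext a; simp [apv]
  have h2 : (apv x y ∘ ⇑finSumFinEquiv) ∘ Sum.inr = y := by
    ext a; simp [apv]
  rw [h1, h2, Matrix.zero_mulVec, Matrix.zero_mulVec, add_zero, zero_add]
  ext i
  refine Fin.addCases (fun a => ?_) (fun c => ?_) i
  · simp [apv]
  · simp [apv]

omit [Fintype F] hF in
theorem det_bdM (A : Matrix (Fin k) (Fin k) F) (B : Matrix (Fin m) (Fin m) F) :
    (bdM A B).det = A.det * B.det := by
  unfold bdM
  rw [Matrix.det_submatrix_equiv_self, Matrix.det_fromBlocks_zero₁₂]

/-- the block diagonal element of `SU`. -/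
def bd (A : Matrix (Fin k) (Fin k) F) (B : Matrix (Fin m) (Fin m) F)
    (hA : ∀ u v, hermForm k F q (A *ᵥ u) (A *ᵥ v) = hermForm k F q u v)
    (hB : ∀ u v, hermForm m F q (B *ᵥ u) (B *ᵥ v) = hermForm m F q u v)
    (hdet : A.det * B.det = 1) : SU (k + m) F q :=
  mkS (bdM A B) (by rw [det_bdM, hdet]) (by
    intro u v
    rw [← apv_p u, ← apv_p v, bdM_mulVec, bdM_mulVec, herm_apv, herm_apv, hA, hB])

omit [Fintype F] hF in
theorem bd_mulVec (A : Matrix (Fin k) (Fin k) F) (B : Matrix (Fin m) (Fin m) F)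
    (hA : ∀ u v, hermForm k F q (A *ᵥ u) (A *ᵥ v) = hermForm k F q u v)
    (hB : ∀ u v, hermForm m F q (B *ᵥ u) (B *ᵥ v) = hermForm m F q u v)
    (hdet : A.det * B.det = 1) (x : Fin k → F) (y : Fin m → F) :
    mt (bd A B hA hB hdet) *ᵥ apv x y = apv (A *ᵥ x) (B *ᵥ y) :=
  bdM_mulVec A B x y

/-- the standard non-degenerate subspace: the first block. -/
def W0 (k m : ℕ) (F : Type*) [Field F] : Submodule F (Fin (k + m) → F) where
  carrier := {v | p2 v = 0}
  add_mem' := by
    intro a b ha hb
    show p2 (a + b) = 0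
    have : p2 (a + b) = p2 a + p2 b := rfl
    rw [this, ha, hb, add_zero]
  zero_mem' := rfl
  smul_mem' := by
    intro c a ha
    show p2 (c • a) = 0
    have : p2 (c • a) = c • p2 a := rfl
    rw [this, ha, smul_zero]

/-- the second block. -/
def U0 (k m : ℕ) (F : Type*) [Field F] : Submodule F (Fin (k + m) → F) where
  carrier := {v | p1 v = 0}
  add_mem' := by
    intro a b ha hb
    show p1 (a + b) = 0
    have : p1 (a + b) = p1 a + p1 b := rfl
    rw [this, ha, hb, add_zero]
  zero_mem' := rfl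
  smul_mem' := by
    intro c a ha
    show p1 (c • a) = 0
    have : p1 (c • a) = c • p1 a := rfl
    rw [this, ha, smul_zero]

omit [Fintype F] hF in
theorem mem_W0 {v : Fin (k + m) → F} : v ∈ W0 k m F ↔ p2 v = 0 := Iff.rfl

omit [Fintype F] hF in
theorem mem_U0 {v : Fin (k + m) → F} : v ∈ U0 k m F ↔ p1 v = 0 := Iff.rfl

omit [Fintype F] hF in
theorem apv_mem_W0 (x : Fin k → F) : apv x (0 : Fin m → F) ∈ W0 k m F := by
  rw [mem_W0, p2_apv]

omit [Fintype F] hF in
theorem apv_mem_U0 (y : Fin m → F) : apv (0 : Fin k → F) y ∈ U0 k m F := by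
  rw [mem_U0, p1_apv]

omit [Fintype F] hF in
theorem eq_apv_of_mem_W0 {v : Fin (k + m) → F} (hv : v ∈ W0 k m F) : v = apv (p1 v) 0 := by
  conv_lhs => rw [← apv_p v, mem_W0.mp hv]

omit [Fintype F] hF in
theorem eq_apv_of_mem_U0 {v : Fin (k + m) → F} (hv : v ∈ U0 k m F) : v = apv 0 (p2 v) := by
  conv_lhs => rw [← apv_p v, mem_U0.mp hv]

omit [Fintype F] hF in
theorem apv_single_sum (x : Fin k → F) :
    apv x (0 : Fin m → F) = ∑ i, x i • (Pi.single (Fin.castAdd m i) (1 : F) : Fin (k + m) → F) := by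
  ext a
  rw [Finset.sum_apply]
  refine Fin.addCases (fun a' => ?_) (fun c => ?_) a
  · rw [Finset.sum_eq_single a']
    · simp [apv]
    · intro b _ hb
      have : Fin.castAdd m b ≠ Fin.castAdd m a' := fun h => hb (Fin.castAdd_injective _ _ h)
      simp [Pi.single_eq_of_ne this.symm]
    · intro h
      exact absurd (Finset.mem_univ a') h
  · rw [Finset.sum_eq_zero]
    · simp [apv]
    · intro b _
      have : Fin.natAdd k c ≠ Fin.castAdd m b := by
        intro h
        have := congrArg Fin.val h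
        simp at this
        omega
      simp [Pi.single_eq_of_ne this]

/-- **standard position**: a non-degenerate subspace of dimension `k` is the image of the first
block under a unitary matrix. -/
theorem exists_std (W : Submodule F (Fin (k + m) → F)) (hW : NDeg q W) (hk : finrank F W = k) :
    ∃ C : GU (k + m) F q, ∀ v, v ∈ W0 k m F ↔ mg C *ᵥ v ∈ W := by
  obtain ⟨b, hbW, hb⟩ := exists_onb k W hW hk
  set e : Fin k → (Fin (k + m) → F) := fun i => Pi.single (Fin.castAdd m i) (1 : F) with he
  have hee : ∀ i j, hermForm (k + m) F q (e i) (e j) = if i = j then 1 else 0 := by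
    intro i j
    by_cases hij : i = j
    · rw [hij, if_pos rfl]; exact h_single_single _
    · rw [if_neg hij]
      exact h_single_ne (fun h => hij (Fin.castAdd_injective _ _ h))
  have hbli := linearIndependent_of_onb hb
  obtain ⟨C, hC⟩ := exists_GU_of_families (q := q) e b (linearIndependent_of_onb hee) hbli
    (fun i j => by rw [hee, hb])
  have hCsum : ∀ x : Fin k → F, mg C *ᵥ apv x (0 : Fin m → F) = ∑ i, x i • b i := by
    intro x
    rw [apv_single_sum, Matrix.mulVec_sum]
    apply Finset.sum_congr rfl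
    intro i _
    rw [mulVec_smul]
    congr 1
    exact hC i
  have hspan : Submodule.span F (Set.range b) = W := by
    apply Submodule.eq_of_le_of_finrank_eq
    · rw [Submodule.span_le]
      rintro _ ⟨i, rfl⟩
      exact hbW i
    · rw [finrank_span_eq_card hbli, Fintype.card_fin, hk]
  refine ⟨C, fun v => ⟨fun hv => ?_, fun hv => ?_⟩⟩
  · rw [eq_apv_of_mem_W0 hv, hCsum]
    exact W.sum_mem (fun i _ => W.smul_mem _ (hbW i))
  · rw [← hspan] at hv
    obtain ⟨c, hc⟩ := (Submodule.mem_span_range_iff_exists_fun F).mp hv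
    rw [← hCsum c] at hc
    have h1 := congrArg (fun x => mg C⁻¹ *ᵥ x) hc
    beta_reduce at h1
    rw [mg_inv_mulVec', mg_inv_mulVec'] at h1
    rw [← h1]
    exact apv_mem_W0 c

end Cfsg.Agent.Helper7.SUNd
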