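import Mathlib
import Cfsg.Agent.Helper7.Ex27UA

set_option autoImplicit false
set_option linter.unusedSectionVars false

/-!
The normal form of a non-abelian group of order 27 and exponent 3, split in two halves so that the
conjugating matrix can be chosen with extra properties.
-/

namespace Cfsg.Agent.Helper7.Ex27

open Matrix Cfsg Cfsg.Agent.Helper7.Singer Cfsg.Agent.Helper7.Invol

variable {F : Type*} [Field F]

/-- The relations extracted from a non-abelian group of order 27 and exponent 3. -/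
structure LadderData (R : Subgroup (GL (Fin 3) F)) (a b c : GL (Fin 3) F) (lam μ : F) : Prop where
  ha : a ∈ R
  hb : b ∈ R
  hc : c ∈ R
  hlam : lam ^ 2 + lam + 1 = 0
  hμ : μ ^ 3 = 1
  hA3 : (a : Matrix (Fin 3) (Fin 3) F) ^ 3 = 1
  hCA : (c : Matrix (Fin 3) (Fin 3) F) * (a : Matrix (Fin 3) (Fin 3) F) =
    (a : Matrix (Fin 3) (Fin 3) F) * (c : Matrix (Fin 3) (Fin 3) F)
  hCB : (c : Matrix (Fin 3) (Fin 3) F) * (b : Matrix (Fin 3) (Fin 3) F) =
    (b : Matrix (Fin 3) (Fin 3) F) * (c : Matrix (Fin 3) (Fin 3) F)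
  hAB : (a : Matrix (Fin 3) (Fin 3) F) * (b : Matrix (Fin 3) (Fin 3) F) =
    (c : Matrix (Fin 3) (Fin 3) F) * (b : Matrix (Fin 3) (Fin 3) F) *
      (a : Matrix (Fin 3) (Fin 3) F)

theorem exists_ladder_data (h3 : (3 : F) ≠ 0) (ω₀ : F) (hω₀ : ω₀ ^ 2 + ω₀ + 1 = 0)
    (R : Subgroup (GL (Fin 3) F)) (hR : Nat.card R = 27) (hRe : Monoid.exponent R = 3)
    (hRna : ¬ IsMulCommutative R) :
    ∃ (a b c : GL (Fin 3) F) (lam μ : F) (w : Fin 3 → F), LadderData R a b c lam μ ∧ w ≠ 0 ∧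
      (b : Matrix (Fin 3) (Fin 3) F) *ᵥ w = μ • w ∧
      (c : Matrix (Fin 3) (Fin 3) F) *ᵥ w = lam • w := by
  classical
  have hex : ∃ a b : R, a * b ≠ b * a := by
    by_contra hcon
    push_neg at hcon
    exact hRna ⟨⟨hcon⟩⟩
  obtain ⟨a, b, hab⟩ := hex
  have hcube : ∀ g : R, g ^ 3 = 1 := fun g => by
    have := Monoid.pow_exponent_eq_one g
    rwa [hRe] at this
  obtain ⟨c, hcdef⟩ : ∃ c : R, c = a * b * a⁻¹ * b⁻¹ := ⟨_, rfl⟩
  have hcZ : c ∈ Subgroup.center R := by
    rw [hcdef]; exact commutator_central hR a b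
  have hc1 : c ≠ 1 := by
    intro h
    apply hab
    rw [hcdef] at h
    calc a * b = (a * b * a⁻¹ * b⁻¹) * (b * a) := by group
      _ = b * a := by rw [h, one_mul]
  have hca : c * a = a * c := (Subgroup.mem_center_iff.1 hcZ a).symm
  have hcb : c * b = b * c := (Subgroup.mem_center_iff.1 hcZ b).symm
  have hab' : a * b = c * b * a := by rw [hcdef]; group
  let m : R →* Matrix (Fin 3) (Fin 3) F := (Units.coeHom _).comp R.subtype
  have hminj : Function.Injective m := by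
    intro g h hgh
    exact Subtype.ext (Units.ext hgh)
  have hA3 : m a ^ 3 = 1 := by rw [← map_pow, hcube, map_one]
  have hB3 : m b ^ 3 = 1 := by rw [← map_pow, hcube, map_one]
  have hC3 : m c ^ 3 = 1 := by rw [← map_pow, hcube, map_one]
  have hC1 : m c ≠ 1 := fun h => hc1 (hminj (by rw [h, map_one]))
  have hCA : m c * m a = m a * m c := by rw [← map_mul, hca, map_mul]
  have hCB : m c * m b = m b * m c := by rw [← map_mul, hcb, map_mul]
  have hAB : m a * m b = m c * m b * m a := by rw [← map_mul, hab', map_mul, map_mul]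
  obtain ⟨lam, v, hlam, hv, hCv⟩ := exists_prim_eigvec (m c) ω₀ hω₀ h3 hC3 hC1
  obtain ⟨μ, w, hw, hμ3, hBw, hCw⟩ :=
    exists_common_eigvec (m b) (m c) ω₀ hω₀ h3 hB3 hCB.symm lam v hv hCv
  exact ⟨a, b, c, lam, μ, w, ⟨a.2, b.2, c.2, hlam, hμ3, hA3, hCA, hCB, hAB⟩, hw, hBw, hCw⟩

theorem LadderData.hω {R : Subgroup (GL (Fin 3) F)} {a b c : GL (Fin 3) F} {lam μ : F}
    (D : LadderData R a b c lam μ) : (lam ^ 2) ^ 2 + lam ^ 2 + 1 = 0 := by
  linear_combination (lam ^ 2 - lam + 1) * D.hlam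

/-- The second half of the normal form: from an eigenvector and a matrix with columns
`w, Aw, A²w`. -/
theorem normal_form_of_P (h3 : (3 : F) ≠ 0) {R : Subgroup (GL (Fin 3) F)} (hR : Nat.card R = 27)
    {a b c : GL (Fin 3) F} {lam μ : F} (D : LadderData R a b c lam μ) (w : Fin 3 → F)
    (hw : w ≠ 0) (hBw : (b : Matrix (Fin 3) (Fin 3) F) *ᵥ w = μ • w)
    (hCw : (c : Matrix (Fin 3) (Fin 3) F) *ᵥ w = lam • w) (P : GL (Fin 3) F)
    (hP : ∀ i : Fin 3, (P : Matrix (Fin 3) (Fin 3) F) *ᵥ Pi.single i 1 =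
      ((a : Matrix (Fin 3) (Fin 3) F) ^ (i : ℕ)) *ᵥ w) :
    ∀ g, g ∈ R ↔ P⁻¹ * g * P ∈ R0 (lam ^ 2) D.hω := by
  classical
  have hlam := D.hlam
  have hlam3 : lam ^ 3 = 1 := omega_cube lam hlam
  have hμ3 := D.hμ
  have hA3 := D.hA3
  have hlad := ladder (a : Matrix (Fin 3) (Fin 3) F) (b : Matrix (Fin 3) (Fin 3) F)
    (c : Matrix (Fin 3) (Fin 3) F) lam hlam3 D.hCA D.hCB D.hAB μ w hBw hCw
  have hω := D.hω
  obtain ⟨ω, hωdef⟩ : ∃ ω : F, ω = lam ^ 2 := ⟨_, rfl⟩
  have hω' : ω ^ 2 + ω + 1 = 0 := by rw [hωdef]; exact hω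
  have hgoal : ∀ (hω'' : ω ^ 2 + ω + 1 = 0), ∀ g, g ∈ R ↔ P⁻¹ * g * P ∈ R0 ω hω'' := by
    intro hω
    rw [← hωdef] at hlad
    let vv : Fin 3 → (Fin 3 → F) := fun i => ((a : Matrix (Fin 3) (Fin 3) F) ^ (i : ℕ)) *ᵥ w
    have hvB : ∀ i, (b : Matrix (Fin 3) (Fin 3) F) *ᵥ vv i = (μ * ω ^ (i : ℕ)) • vv i :=
      fun i => (hlad i).1
    have hvC : ∀ i, (c : Matrix (Fin 3) (Fin 3) F) *ᵥ vv i = lam • vv i := fun i => (hlad i).2
    have hvA : ∀ i : Fin 3, (a : Matrix (Fin 3) (Fin 3) F) *ᵥ vv i = vv (i + 1) := by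
      intro i
      have key : ∀ k : ℕ, (a : Matrix (Fin 3) (Fin 3) F) *ᵥ
          (((a : Matrix (Fin 3) (Fin 3) F) ^ k) *ᵥ w) =
          ((a : Matrix (Fin 3) (Fin 3) F) ^ (k + 1)) *ᵥ w := by
        intro k
        rw [Matrix.mulVec_mulVec, ← pow_succ']
      fin_cases i
      · exact key 0
      · exact key 1
      · show (a : Matrix (Fin 3) (Fin 3) F) *ᵥ (((a : Matrix (Fin 3) (Fin 3) F) ^ 2) *ᵥ w) =
          ((a : Matrix (Fin 3) (Fin 3) F) ^ 0) *ᵥ w
        rw [key 2, hA3, pow_zero]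
    have hμ0 : μ ≠ 0 := by
      intro h
      rw [h] at hμ3
      simp at hμ3
    have hAP : (a : Matrix (Fin 3) (Fin 3) F) * (P : Matrix (Fin 3) (Fin 3) F) =
        (P : Matrix (Fin 3) (Fin 3) F) * Ym := by
      apply eq_of_mulVec_basis (Pi.basisFun F (Fin 3))
      intro i
      rw [Pi.basisFun_apply, ← Matrix.mulVec_mulVec, ← Matrix.mulVec_mulVec, hP,
        Ym_mulVec_single, hP]
      exact hvA i
    have hBP : (b : Matrix (Fin 3) (Fin 3) F) * (P : Matrix (Fin 3) (Fin 3) F) =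
        μ • ((P : Matrix (Fin 3) (Fin 3) F) * Xm ω) := by
      apply eq_of_mulVec_basis (Pi.basisFun F (Fin 3))
      intro i
      rw [Pi.basisFun_apply, ← Matrix.mulVec_mulVec, hP, Matrix.smul_mulVec,
        ← Matrix.mulVec_mulVec, Xm_mulVec_single, Matrix.mulVec_smul, hP, smul_smul]
      exact hvB i
    have hCs : (c : Matrix (Fin 3) (Fin 3) F) * (P : Matrix (Fin 3) (Fin 3) F) =
        lam • (P : Matrix (Fin 3) (Fin 3) F) := by
      apply eq_of_mulVec_basis (Pi.basisFun F (Fin 3))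
      intro i
      rw [Pi.basisFun_apply, ← Matrix.mulVec_mulVec, hP, Matrix.smul_mulVec, hP]
      exact hvC i
    have hlam0 : lam ≠ 0 := omega_ne_zero lam hlam
    have hcg : c = sg (Units.mk0 lam hlam0) := by
      have : c * P = sg (Units.mk0 lam hlam0) * P := by
        apply Units.ext
        rw [Units.val_mul, Units.val_mul, sg_val, Units.val_mk0, Matrix.smul_mul, Matrix.one_mul]
        exact hCs
      exact mul_right_cancel this
    have hsgl : sg (Units.mk0 lam hlam0) ∈ R := by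
      rw [← hcg]; exact D.hc
    obtain ⟨k, hk⟩ := exists_pow_of_cube lam hlam μ hμ3
    have hsgm : sg (Units.mk0 μ hμ0) ∈ R := by
      have : Units.mk0 μ hμ0 = (Units.mk0 lam hlam0) ^ k := by
        apply Units.ext
        simp [hk]
      rw [this, ← sg_pow]
      exact R.pow_mem hsgl k
    have hY : P * Yg * P⁻¹ = a := by
      rw [mul_inv_eq_iff_eq_mul]
      apply Units.ext
      rw [Units.val_mul, Units.val_mul, Yg_val]
      exact hAP.symm
    have hX : P * Xg ω hω * P⁻¹ = (sg (Units.mk0 μ hμ0))⁻¹ * b := by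
      rw [mul_inv_eq_iff_eq_mul, mul_assoc, eq_inv_mul_iff_mul_eq]
      apply Units.ext
      rw [Units.val_mul, Units.val_mul, Units.val_mul, sg_val, Xg_val, Units.val_mk0,
        Matrix.smul_mul, Matrix.one_mul]
      exact hBP.symm
    let φ : GL (Fin 3) F →* GL (Fin 3) F := (MulAut.conj P).toMonoidHom
    have hφ : ∀ g, φ g = P * g * P⁻¹ := fun g => rfl
    have hle : (R0 ω hω).map φ ≤ R := by
      rw [Subgroup.map_le_iff_le_comap]
      unfold R0
      rw [Subgroup.closure_le]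
      intro n hn
      rcases hn with rfl | hn
      · show φ (Xg ω hω) ∈ R
        rw [hφ, hX]
        exact R.mul_mem (R.inv_mem hsgm) D.hb
      · rw [Set.mem_singleton_iff] at hn
        rw [hn]
        show φ Yg ∈ R
        rw [hφ, hY]
        exact D.ha
    haveI : Finite R := Nat.finite_of_card_ne_zero (by rw [hR]; norm_num)
    have hdvd : Nat.card ((R0 ω hω).map φ) ∣ 27 := by
      rw [← hR]; exact Subgroup.card_dvd_of_le hle
    have hcard : Nat.card ((R0 ω hω).map φ) = 27 := by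
      by_contra hne
      have h9 : Nat.card ((R0 ω hω).map φ) ∣ 9 := by
        have hmem : Nat.card ((R0 ω hω).map φ) ∈ Nat.divisors 27 :=
          Nat.mem_divisors.mpr ⟨hdvd, by norm_num⟩
        have h27 : Nat.divisors 27 = {1, 3, 9, 27} := by decide
        rw [h27] at hmem
        simp only [Finset.mem_insert, Finset.mem_singleton] at hmem
        rcases hmem with h | h | h | h
        · rw [h]; norm_num
        · rw [h]; norm_num
        · rw [h]
        · exact absurd h hne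
      have hcomm := comm_of_card_dvd_nine h9
      have hxm : φ (Xg ω hω) ∈ (R0 ω hω).map φ := Subgroup.mem_map_of_mem _ (Xg_mem ω hω)
      have hym : φ Yg ∈ (R0 ω hω).map φ := Subgroup.mem_map_of_mem _ (Yg_mem ω hω)
      have h0 := hcomm ⟨_, hxm⟩ ⟨_, hym⟩
      have h1 : φ (Xg ω hω) * φ Yg = φ Yg * φ (Xg ω hω) := congrArg Subtype.val h0
      rw [← map_mul, ← map_mul] at h1
      exact Xg_Yg_not_comm ω hω h3 ((MulAut.conj P).injective h1)
    have hEq : (R0 ω hω).map φ = R := Subgroup.eq_of_le_of_card_ge hle (by rw [hcard, hR])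
    intro g
    rw [← hEq, Subgroup.mem_map]
    constructor
    · rintro ⟨h, hh, rfl⟩
      rw [hφ]
      have : P⁻¹ * (P * h * P⁻¹) * P = h := by group
      rw [this]
      exact hh
    · intro h
      refine ⟨_, h, ?_⟩
      rw [hφ]
      group
  subst hωdef
  exact hgoal _

end Cfsg.Agent.Helper7.Ex27
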