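import Mathlib
import Cfsg.Agent.Helper7.Ex27UB
import Cfsg.Agent.Helper8.AutSUl

set_option autoImplicit false
set_option linter.unusedSectionVars false

/-!
The unitary normal form: a non-abelian subgroup of order 27 and exponent 3 of `GU₃(q)`,
`q ≡ 2 (mod 3)`, is conjugate under `GU₃(q)` to the standard group `R0`.
-/

namespace Cfsg.Agent.Helper7.Ex27

open Matrix Cfsg Cfsg.Agent.Helper7.Singer Cfsg.Agent.Helper7.Invol Cfsg.Agent.Helper7.Herm
  Cfsg.Agent.Helper8.GUOrder Cfsg.Agent.Helper8.AutSU Cfsg.Agent.Helper7.SUNd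

variable {F : Type*} [Field F] [Fintype F] {q : ℕ} [hF : Fact (Fintype.card F = q ^ 2)]

omit [Fintype F] hF in
theorem pow_succ_q_of_cube (h3q : 3 ∣ q + 1) (c : F) (hc : c ^ 3 = 1) : c ^ (q + 1) = 1 := by
  obtain ⟨k, hk⟩ := h3q
  rw [hk, pow_mul, hc, one_pow]

omit [Fintype F] hF in
theorem ladder_li (h3 : (3 : F) ≠ 0) {R : Subgroup (GL (Fin 3) F)} {a b c : GL (Fin 3) F}
    {lam μ : F} (D : LadderData R a b c lam μ) (w : Fin 3 → F) (hw : w ≠ 0)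
    (hBw : (b : Matrix (Fin 3) (Fin 3) F) *ᵥ w = μ • w)
    (hCw : (c : Matrix (Fin 3) (Fin 3) F) *ᵥ w = lam • w) :
    LinearIndependent F (fun i : Fin 3 => ((a : Matrix (Fin 3) (Fin 3) F) ^ (i : ℕ)) *ᵥ w) := by
  have hlam3 : lam ^ 3 = 1 := omega_cube lam D.hlam
  have hlad := ladder (a : Matrix (Fin 3) (Fin 3) F) (b : Matrix (Fin 3) (Fin 3) F)
    (c : Matrix (Fin 3) (Fin 3) F) lam hlam3 D.hCA D.hCB D.hAB μ w hBw hCw
  have hA3 := D.hA3
  have hμ3 := D.hμ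
  have hμ0 : μ ≠ 0 := by
    intro h
    rw [h] at hμ3
    simp at hμ3
  apply Module.End.eigenvectors_linearIndependent' (Matrix.toLin' (b : Matrix (Fin 3) (Fin 3) F))
    (fun i : Fin 3 => μ * (lam ^ 2) ^ (i : ℕ))
  · intro i j hij
    exact omega_pow_injective (lam ^ 2) D.hω h3 (mul_left_cancel₀ hμ0 hij)
  · intro i
    refine ⟨Module.End.mem_eigenspace_iff.2 (by rw [Matrix.toLin'_apply]; exact (hlad i).1), ?_⟩
    intro h
    apply hw
    have hi : (i : ℕ) ≤ 3 := by have := i.2; omega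
    have : ((a : Matrix (Fin 3) (Fin 3) F) ^ (3 - (i : ℕ))) *ᵥ
        (((a : Matrix (Fin 3) (Fin 3) F) ^ (i : ℕ)) *ᵥ w) = w := by
      rw [Matrix.mulVec_mulVec, ← pow_add, Nat.sub_add_cancel hi, hA3, Matrix.one_mulVec]
    rw [← this, h, Matrix.mulVec_zero]

theorem ladder_gram (h3 : (3 : F) ≠ 0) (h3q : 3 ∣ q + 1) {R : Subgroup (GL (Fin 3) F)}
    (hRU : R ≤ GU 3 F q) {a b c : GL (Fin 3) F}
    {lam μ : F} (D : LadderData R a b c lam μ) (w : Fin 3 → F)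
    (hBw : (b : Matrix (Fin 3) (Fin 3) F) *ᵥ w = μ • w)
    (hCw : (c : Matrix (Fin 3) (Fin 3) F) *ᵥ w = lam • w) (i j : Fin 3) :
    hermForm 3 F q (((a : Matrix (Fin 3) (Fin 3) F) ^ (i : ℕ)) *ᵥ w)
      (((a : Matrix (Fin 3) (Fin 3) F) ^ (j : ℕ)) *ᵥ w) =
      if i = j then hermForm 3 F q w w else 0 := by
  have hlam3 : lam ^ 3 = 1 := omega_cube lam D.hlam
  have hlad := ladder (a : Matrix (Fin 3) (Fin 3) F) (b : Matrix (Fin 3) (Fin 3) F)
    (c : Matrix (Fin 3) (Fin 3) F) lam hlam3 D.hCA D.hCB D.hAB μ w hBw hCw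
  have hμ3 := D.hμ
  have hμ0 : μ ≠ 0 := by
    intro h
    rw [h] at hμ3
    simp at hμ3
  by_cases hij : i = j
  · subst hij
    rw [if_pos rfl]
    have := herm_GU (Subgroup.pow_mem _ (hRU D.ha) (i : ℕ)) w w
    rw [Units.val_pow_eq_pow_val] at this
    exact this
  · rw [if_neg hij]
    apply herm_eigvec_zero (hRU D.hb) _ _ ?_ _ _ (hlad i).1 (hlad j).1
    intro hcon
    apply hij
    have hω3 : (lam ^ 2) ^ 3 = 1 := omega_cube _ D.hω
    have hγ3 : (μ * (lam ^ 2) ^ (j : ℕ)) ^ 3 = 1 := by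
      rw [mul_pow, hμ3, one_mul, ← pow_mul, mul_comm (j : ℕ) 3, pow_mul, hω3, one_pow]
    have hγq := pow_succ_q_of_cube h3q _ hγ3
    have heq : μ * (lam ^ 2) ^ (i : ℕ) = μ * (lam ^ 2) ^ (j : ℕ) := by
      calc μ * (lam ^ 2) ^ (i : ℕ)
          = (μ * (lam ^ 2) ^ (i : ℕ)) * (μ * (lam ^ 2) ^ (j : ℕ)) ^ (q + 1) := by
            rw [hγq, mul_one]
        _ = (μ * (lam ^ 2) ^ (i : ℕ) * (μ * (lam ^ 2) ^ (j : ℕ)) ^ q) *
            (μ * (lam ^ 2) ^ (j : ℕ)) := by rw [pow_succ]; ring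
        _ = μ * (lam ^ 2) ^ (j : ℕ) := by rw [hcon, one_mul]
    exact omega_pow_injective (lam ^ 2) D.hω h3 (mul_left_cancel₀ hμ0 heq)

theorem std_onb (i j : Fin 3) :
    hermForm 3 F q (Pi.single i (1 : F)) (Pi.single j 1) = if i = j then 1 else 0 := by
  by_cases hij : i = j
  · rw [hij, if_pos rfl]; exact h_single_single _
  · rw [if_neg hij]
    exact h_single_ne hij

theorem normal_form_U (h3 : (3 : F) ≠ 0) (h3q : 3 ∣ q + 1) (ω₀ : F)
    (hω₀ : ω₀ ^ 2 + ω₀ + 1 = 0)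
    (R : Subgroup (GL (Fin 3) F)) (hRU : R ≤ GU 3 F q) (hR : Nat.card R = 27)
    (hRe : Monoid.exponent R = 3) (hRna : ¬ IsMulCommutative R) :
    ∃ (ω : F) (hω : ω ^ 2 + ω + 1 = 0) (P : GL (Fin 3) F), P ∈ GU 3 F q ∧
      ∀ g, g ∈ R ↔ P⁻¹ * g * P ∈ R0 ω hω := by
  obtain ⟨a, b, c, lam, μ, w, D, hw, hBw, hCw⟩ := exists_ladder_data h3 ω₀ hω₀ R hR hRe hRna
  -- the vector `w` is anisotropic
  have hc0 : hermForm 3 F q w w ≠ 0 := by
    intro hc0
    have hli := ladder_li h3 D w hw hBw hCw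
    obtain ⟨bb, hbb⟩ := exists_basis_of_li _ hli
    have hg := ladder_gram h3 h3q hRU D w hBw hCw
    apply hw
    apply eq_zero_of_h_right (q := q)
    intro x
    have hx := bb.sum_repr x
    rw [Fin.sum_univ_three, hbb, hbb, hbb] at hx
    have h1 := hg 0 1
    have h2 := hg 0 2
    simp only [Fin.val_zero, pow_zero, Matrix.one_mulVec] at h1 h2
    rw [if_neg (by decide)] at h1 h2
    rw [← hx, h_add_right, h_add_right, hermForm_smul_right, hermForm_smul_right,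
      hermForm_smul_right]
    simp only [Fin.val_zero, pow_zero, Matrix.one_mulVec]
    rw [hc0, h1, h2]
    ring
  have hfix : ((hermForm 3 F q w w)⁻¹) ^ q = (hermForm 3 F q w w)⁻¹ := by
    rw [inv_pow, h_self_fixed]
  obtain ⟨l, hl⟩ := exists_norm hF.out (inv_ne_zero hc0) hfix
  have hl0 : l ≠ 0 := by
    intro h
    rw [h, zero_mul] at hl
    exact inv_ne_zero hc0 hl.symm
  obtain ⟨w', hw'def⟩ : ∃ w' : Fin 3 → F, w' = l • w := ⟨_, rfl⟩
  have hw' : w' ≠ 0 := by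
    rw [hw'def]
    exact smul_ne_zero hl0 hw
  have hBw' : (b : Matrix (Fin 3) (Fin 3) F) *ᵥ w' = μ • w' := by
    rw [hw'def, Matrix.mulVec_smul, hBw, smul_comm]
  have hCw' : (c : Matrix (Fin 3) (Fin 3) F) *ᵥ w' = lam • w' := by
    rw [hw'def, Matrix.mulVec_smul, hCw, smul_comm]
  have hunit : hermForm 3 F q w' w' = 1 := by
    rw [hw'def, hermForm_smul_left, hermForm_smul_right, ← mul_assoc, hl, inv_mul_cancel₀ hc0]
  have hg' := ladder_gram h3 h3q hRU D w' hBw' hCw'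
  have hli' := ladder_li h3 D w' hw' hBw' hCw'
  have hli_e : LinearIndependent F (fun i : Fin 3 => (Pi.single i (1 : F) : Fin 3 → F)) :=
    linearIndependent_of_onb (q := q) std_onb
  obtain ⟨Pu, hPu⟩ := exists_GU_of_families (q := q)
    (fun i : Fin 3 => (Pi.single i (1 : F) : Fin 3 → F))
    (fun i : Fin 3 => ((a : Matrix (Fin 3) (Fin 3) F) ^ (i : ℕ)) *ᵥ w') hli_e hli'
    (fun i j => by rw [std_onb, hg', hunit])
  exact ⟨lam ^ 2, D.hω, (Pu : GL (Fin 3) F), Pu.2,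
    normal_form_of_P h3 hR D w' hw' hBw' hCw' (Pu : GL (Fin 3) F) (fun i => hPu i)⟩

end Cfsg.Agent.Helper7.Ex27
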