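import Mathlib
import Cfsg.Agent.Helper7.Ex27UC

set_option autoImplicit false
set_option linter.unusedSectionVars false

/-!
Orthonormal eigenbases of diagonalisable unitary matrices.
-/

namespace Cfsg.Agent.Helper7.Ex27

open Matrix Module Cfsg Cfsg.Agent.Helper7.Singer Cfsg.Agent.Helper7.Invol Cfsg.Agent.Helper7.Herm
  Cfsg.Agent.Helper8.GUOrder Cfsg.Agent.Helper8.AutSU Cfsg.Agent.Helper7.SUNd
  Cfsg.Agent.Helper8.SURoot

variable {F : Type*} [Field F] [Fintype F] {q N : ℕ} [hF : Fact (Fintype.card F = q ^ 2)]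

theorem herm_sum_left {ι : Type*} (s : Finset ι) (u : ι → (Fin N → F)) (v : Fin N → F) :
    hermForm N F q (∑ i ∈ s, u i) v = ∑ i ∈ s, hermForm N F q (u i) v := by
  classical
  induction s using Finset.induction_on with
  | empty => simp [hermForm_zero_left]
  | insert a s ha ih =>
    rw [Finset.sum_insert ha, Finset.sum_insert ha, hermForm_add_left, ih]

theorem herm_sum_right {ι : Type*} (s : Finset ι) (u : Fin N → F) (v : ι → (Fin N → F)) :
    hermForm N F q u (∑ i ∈ s, v i) = ∑ i ∈ s, hermForm N F q u (v i) := by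
  classical
  induction s using Finset.induction_on with
  | empty => simp [h_zero_right]
  | insert a s ha ih =>
    rw [Finset.sum_insert ha, Finset.sum_insert ha, h_add_right, ih]

/-- Eigenvectors of a form-preserving matrix with eigenvalues `β`, `γ`, `β γ^q ≠ 1`, are
orthogonal. -/
theorem herm_eigvec_zero_gen (X : Matrix (Fin N) (Fin N) F)
    (hXU : ∀ u v, hermForm N F q (X *ᵥ u) (X *ᵥ v) = hermForm N F q u v)
    (β γ : F) (hβγ : β * γ ^ q ≠ 1)
    (u v : Fin N → F) (hu : X *ᵥ u = β • u) (hv : X *ᵥ v = γ • v) : hermForm N F q u v = 0 := by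
  have h := hXU u v
  rw [hu, hv, hermForm_smul_left, hermForm_smul_right, ← mul_assoc] at h
  have : (β * γ ^ q - 1) * hermForm N F q u v = 0 := by linear_combination h
  exact (mul_eq_zero.1 this).resolve_left (sub_ne_zero.2 hβγ)

/-- **Orthonormal eigenbases**: an invariant non-degenerate subspace of a diagonalisable
form-preserving matrix has an orthonormal basis of eigenvectors. -/
theorem exists_onb_eigen {ι : Type*} [Fintype ι] (X : Matrix (Fin N) (Fin N) F)
    (hXU : ∀ u v, hermForm N F q (X *ᵥ u) (X *ᵥ v) = hermForm N F q u v)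
    (lam : ι → F) (hlam : ∀ i j, i ≠ j → lam i * (lam j) ^ q ≠ 1)
    (hdec : ∀ v : Fin N → F, ∃ c : ι → (Fin N → F), (∀ i, X *ᵥ c i = lam i • c i) ∧
      v = ∑ i, c i ∧
      ∀ W : Submodule F (Fin N → F), (∀ w ∈ W, X *ᵥ w ∈ W) → v ∈ W → ∀ i, c i ∈ W) :
    ∀ (k : ℕ) (W : Submodule F (Fin N → F)), NDeg q W → (∀ w ∈ W, X *ᵥ w ∈ W) →
      finrank F W = k →
      ∃ (b : Fin k → (Fin N → F)) (e : Fin k → ι), (∀ i, b i ∈ W) ∧
        (∀ i j, hermForm N F q (b i) (b j) = if i = j then 1 else 0) ∧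
        ∀ i, X *ᵥ b i = lam (e i) • b i := by
  classical
  intro k
  induction k with
  | zero =>
    intro W _ _ _
    exact ⟨fun i => i.elim0, fun i => i.elim0, fun i => i.elim0, fun i => i.elim0,
      fun i => i.elim0⟩
  | succ k ih =>
    intro W hW hWinv hk
    have hW0 : W ≠ ⊥ := by
      rintro rfl
      rw [finrank_bot] at hk
      omega
    obtain ⟨w, hwW, hww⟩ := exists_aniso hW hW0
    obtain ⟨c, hc, hsum, hcW⟩ := hdec w
    -- some component is anisotropic
    have hex : ∃ i, hermForm N F q (c i) (c i) ≠ 0 := by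
      by_contra hcon
      push_neg at hcon
      apply hww
      have hww' : hermForm N F q w w = hermForm N F q (∑ i, c i) (∑ j, c j) := by rw [← hsum]
      rw [hww', herm_sum_left]
      apply Finset.sum_eq_zero
      intro i _
      rw [herm_sum_right]
      apply Finset.sum_eq_zero
      intro j _
      by_cases hij : i = j
      · rw [← hij]; exact hcon i
      · exact herm_eigvec_zero_gen X hXU _ _ (hlam i j hij) _ _ (hc i) (hc j)
    obtain ⟨i₀, hi₀⟩ := hex
    have hfix : ((hermForm N F q (c i₀) (c i₀))⁻¹) ^ q = (hermForm N F q (c i₀) (c i₀))⁻¹ := by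
      rw [inv_pow, h_self_fixed]
    obtain ⟨l, hl⟩ := exists_norm hF.out (inv_ne_zero hi₀) hfix
    obtain ⟨u, hudef⟩ : ∃ u : Fin N → F, u = l • c i₀ := ⟨_, rfl⟩
    have huW : u ∈ W := by
      rw [hudef]
      exact W.smul_mem _ (hcW W hWinv hwW i₀)
    have huu : hermForm N F q u u = 1 := by
      rw [hudef, hermForm_smul_left, hermForm_smul_right, ← mul_assoc, hl, inv_mul_cancel₀ hi₀]
    have hXu : X *ᵥ u = lam i₀ • u := by
      rw [hudef, Matrix.mulVec_smul, hc i₀, smul_comm]
    have hlam0 : lam i₀ ^ q ≠ 0 := by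
      intro h
      have h1 := hXU u u
      rw [hXu, hermForm_smul_left, hermForm_smul_right, h, zero_mul, mul_zero, huu] at h1
      exact zero_ne_one h1
    have hk' : finrank F (cutS q W u) = k := by
      have := finrank_cutS (q := q) huW huu
      omega
    have hinv' : ∀ x ∈ cutS q W u, X *ᵥ x ∈ cutS q W u := by
      intro x hx
      refine ⟨hWinv x hx.1, ?_⟩
      have h1 := hXU x u
      rw [hXu, hermForm_smul_right, hx.2] at h1
      exact (mul_eq_zero.1 h1).resolve_left hlam0
    obtain ⟨b', e', hb'W, hb', hb'X⟩ := ih (cutS q W u) (ndeg_cutS hW huW huu) hinv' hk'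
    refine ⟨Fin.cons u b', Fin.cons i₀ e', ?_, ?_, ?_⟩
    · intro i
      refine Fin.cases ?_ (fun i => ?_) i
      · rw [Fin.cons_zero]; exact huW
      · rw [Fin.cons_succ]; exact (hb'W i).1
    · intro i j
      refine Fin.cases ?_ (fun i => ?_) i <;> refine Fin.cases ?_ (fun j => ?_) j
      · rw [Fin.cons_zero, huu, if_pos rfl]
      · rw [Fin.cons_zero, Fin.cons_succ, if_neg (Fin.succ_ne_zero j).symm]
        exact h_eq_zero_of_swap (hb'W j).2
      · rw [Fin.cons_zero, Fin.cons_succ, if_neg (Fin.succ_ne_zero i)]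
        exact (hb'W i).2
      · rw [Fin.cons_succ, Fin.cons_succ, hb' i j]
        simp only [Fin.succ_inj]
    · intro i
      refine Fin.cases ?_ (fun i => ?_) i
      · rw [Fin.cons_zero, Fin.cons_zero]; exact hXu
      · rw [Fin.cons_succ, Fin.cons_succ]; exact hb'X i

theorem ndeg_top : NDeg q (⊤ : Submodule F (Fin N → F)) := by
  intro w _ hw0
  by_contra hcon
  push_neg at hcon
  apply hw0
  apply eq_zero_of_h_right (q := q)
  intro x
  exact hcon x Submodule.mem_top

/-- The full space version, with `N` vectors. -/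
theorem exists_onb_eigen_top {ι : Type*} [Fintype ι] (X : Matrix (Fin N) (Fin N) F)
    (hXU : ∀ u v, hermForm N F q (X *ᵥ u) (X *ᵥ v) = hermForm N F q u v)
    (lam : ι → F) (hlam : ∀ i j, i ≠ j → lam i * (lam j) ^ q ≠ 1)
    (hdec : ∀ v : Fin N → F, ∃ c : ι → (Fin N → F), (∀ i, X *ᵥ c i = lam i • c i) ∧
      v = ∑ i, c i ∧
      ∀ W : Submodule F (Fin N → F), (∀ w ∈ W, X *ᵥ w ∈ W) → v ∈ W → ∀ i, c i ∈ W) :
    ∃ (b : Fin N → (Fin N → F)) (e : Fin N → ι),
      (∀ i j, hermForm N F q (b i) (b j) = if i = j then 1 else 0) ∧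
      ∀ i, X *ᵥ b i = lam (e i) • b i := by
  obtain ⟨b, e, _, hb, hX⟩ := exists_onb_eigen X hXU lam hlam hdec N ⊤ ndeg_top
    (fun _ _ => Submodule.mem_top) (by rw [finrank_top, Module.finrank_fin_fun])
  exact ⟨b, e, hb, hX⟩

end Cfsg.Agent.Helper7.Ex27
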