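import Mathlib
import Cfsg.Agent.Helper7.Ex27UD

set_option autoImplicit false
set_option linter.unusedSectionVars false

/-!
Conjugacy of diagonalisable unitary matrices under the special unitary group, transport of the
"elusive" property, and the index computation for `SU₃(q)`.
-/

namespace Cfsg.Agent.Helper7.Ex27

open Matrix Module Cfsg Cfsg.Agent.Helper7.Singer Cfsg.Agent.Helper7.Invol Cfsg.Agent.Helper7.Herm
  Cfsg.Agent.Helper8.GUOrder Cfsg.Agent.Helper8.AutSU Cfsg.Agent.Helper7.SUNd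
  Cfsg.Agent.Helper8.SURoot

variable {F : Type*} [Field F] [Fintype F] {q : ℕ} [hF : Fact (Fintype.card F = q ^ 2)]

/-- The determinant of a unitary matrix has norm one. -/
theorem det_GU_norm {g : GL (Fin 3) F} (hg : g ∈ GU 3 F q) :
    (g : Matrix (Fin 3) (Fin 3) F).det ^ (q + 1) = 1 := by
  have h := (mem_GU_iff hF.out g).mp hg
  have h2 := congrArg Matrix.det h
  rw [Matrix.det_mul, Matrix.det_transpose, det_map_q hF.out, Matrix.det_one] at h2
  rw [pow_succ']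
  exact h2

/-- An orthonormal family of three vectors of `F³` is a basis. -/
theorem exists_basis_of_onb (b : Fin 3 → (Fin 3 → F))
    (hb : ∀ i j, hermForm 3 F q (b i) (b j) = if i = j then 1 else 0) :
    ∃ bb : Module.Basis (Fin 3) F (Fin 3 → F), ∀ i, bb i = b i :=
  exists_basis_of_li b (linearIndependent_of_onb (q := q) hb)

/-- Unitary matrices with matching eigenvalues on orthonormal eigenbases are conjugate under the
unitary group. -/
theorem conj_of_onb (X T : Matrix (Fin 3) (Fin 3) F) (b c : Fin 3 → (Fin 3 → F))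
    (hb : ∀ i j, hermForm 3 F q (b i) (b j) = if i = j then 1 else 0)
    (hc : ∀ i j, hermForm 3 F q (c i) (c j) = if i = j then 1 else 0)
    (lamX lamT : Fin 3 → F) (hX : ∀ i, X *ᵥ b i = lamX i • b i)
    (hT : ∀ i, T *ᵥ c i = lamT i • c i) (σ : Fin 3 ≃ Fin 3) (hσ : ∀ i, lamT (σ i) = lamX i) :
    ∃ g : GL (Fin 3) F, g ∈ GU 3 F q ∧
      X * (g : Matrix (Fin 3) (Fin 3) F) = (g : Matrix (Fin 3) (Fin 3) F) * T := by
  have hc' : ∀ i j, hermForm 3 F q (c (σ i)) (c (σ j)) = if i = j then 1 else 0 := by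
    intro i j
    rw [hc]
    by_cases hij : i = j
    · rw [if_pos hij, if_pos (by rw [hij])]
    · rw [if_neg hij, if_neg (fun h => hij (σ.injective h))]
  obtain ⟨gu, hgu⟩ := exists_GU_of_families (q := q) (fun i => c (σ i)) b
    (linearIndependent_of_onb (q := q) hc') (linearIndependent_of_onb (q := q) hb)
    (fun i j => by rw [hc', hb])
  obtain ⟨cc, hcc⟩ := exists_basis_of_onb (q := q) (fun i => c (σ i)) hc'
  refine ⟨(gu : GL (Fin 3) F), gu.2, ?_⟩
  apply eq_of_mulVec_basis cc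
  intro i
  rw [hcc, ← Matrix.mulVec_mulVec, ← Matrix.mulVec_mulVec, hgu i, hX, hT, Matrix.mulVec_smul,
    hgu i, hσ]

/-- Every element of order `r` modulo scalars of `SU₃(q)` is conjugate into `N`. -/
def ElusU (q r : ℕ) (N : Subgroup (GL (Fin 3) F)) : Prop :=
  ∀ x ∈ Cfsg.GU 3 F q ⊓ Cfsg.Geo.specialLinear (Fin 3) F,
    (∃ z : F, ((x ^ r : GL (Fin 3) F) : Matrix (Fin 3) (Fin 3) F) =
      z • (1 : Matrix (Fin 3) (Fin 3) F)) →
    (∀ z : F, (x : Matrix (Fin 3) (Fin 3) F) ≠ z • (1 : Matrix (Fin 3) (Fin 3) F)) →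
    ∃ g ∈ Cfsg.GU 3 F q ⊓ Cfsg.Geo.specialLinear (Fin 3) F, g⁻¹ * x * g ∈ N

omit [Fintype F] hF in
theorem conj_mem_SU {P g : GL (Fin 3) F} (hP : P ∈ GU 3 F q)
    (hg : g ∈ Cfsg.GU 3 F q ⊓ Cfsg.Geo.specialLinear (Fin 3) F) :
    P⁻¹ * g * P ∈ Cfsg.GU 3 F q ⊓ Cfsg.Geo.specialLinear (Fin 3) F :=
  ⟨Subgroup.mul_mem _ (Subgroup.mul_mem _ (Subgroup.inv_mem _ hP) hg.1) hP,
    conj_mem_SL P g hg.2⟩

omit [Fintype F] hF in
theorem elusU_of_conj (r : ℕ) (N N' : Subgroup (GL (Fin 3) F)) (P : GL (Fin 3) F)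
    (hPU : P ∈ GU 3 F q)
    (hN : ∀ g, g ∈ N ↔ P⁻¹ * g * P ∈ N') (h : ElusU q r N') : ElusU q r N := by
  intro x hx hxr hxns
  obtain ⟨z, hz⟩ := hxr
  have h1 : (P⁻¹ * x * P) ^ r = P⁻¹ * x ^ r * P := by
    have := conj_pow (a := P⁻¹) (b := x) (i := r)
    rw [inv_inv] at this
    exact this
  obtain ⟨g', hg', hmem⟩ := h (P⁻¹ * x * P) (conj_mem_SU hPU hx)
    ⟨z, by rw [h1]; exact conj_scalar P _ z hz⟩
    (by
      intro z' hz'
      apply hxns z'
      have := conj_scalar P⁻¹ _ z' hz'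
      rw [inv_inv] at this
      rw [← this]
      congr 1
      group)
  refine ⟨P * g' * P⁻¹, ?_, ?_⟩
  · have := conj_mem_SU (Subgroup.inv_mem _ hPU) hg'
    rwa [inv_inv] at this
  · rw [hN]
    have : P⁻¹ * ((P * g' * P⁻¹)⁻¹ * x * (P * g' * P⁻¹)) * P = g'⁻¹ * (P⁻¹ * x * P) * g' := by
      group
    rw [this]
    exact hmem

/-- From a unitary conjugating matrix and a unitary centralising matrix correcting the
determinant to the conclusion of `ElusU`. -/
theorem elusU_finish (N : Subgroup (GL (Fin 3) F)) (x t g d : GL (Fin 3) F) (ht : t ∈ N)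
    (hg : g ∈ GU 3 F q) (hd : d ∈ GU 3 F q) (hdt : d * t = t * d)
    (hdet : (d : Matrix (Fin 3) (Fin 3) F).det * (g : Matrix (Fin 3) (Fin 3) F).det = 1)
    (h : (x : Matrix (Fin 3) (Fin 3) F) * (g : Matrix (Fin 3) (Fin 3) F) =
      (g : Matrix (Fin 3) (Fin 3) F) * (t : Matrix (Fin 3) (Fin 3) F)) :
    ∃ g' ∈ Cfsg.GU 3 F q ⊓ Cfsg.Geo.specialLinear (Fin 3) F, g'⁻¹ * x * g' ∈ N := by
  refine ⟨g * d, ⟨Subgroup.mul_mem _ hg hd, ?_⟩, ?_⟩
  · show g * d ∈ Cfsg.Geo.specialLinear (Fin 3) F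
    rw [mem_SL_iff, Units.val_mul, Matrix.det_mul, mul_comm]
    exact hdet
  · have hxg : x * g = g * t := by
      apply Units.ext
      rw [Units.val_mul, Units.val_mul]
      exact h
    have : (g * d)⁻¹ * x * (g * d) = t := by
      calc (g * d)⁻¹ * x * (g * d) = d⁻¹ * g⁻¹ * (x * g) * d := by group
        _ = d⁻¹ * (d * t) := by rw [hxg, hdt]; group
        _ = t := by group
    rw [this]
    exact ht

/-- `GU₃(q) ∩ SL₃` has the order of `SU₃(q)`. -/
theorem card_GU_inf_SL :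
    Nat.card ↥(Cfsg.GU 3 F q ⊓ Cfsg.Geo.specialLinear (Fin 3) F) = Nat.card (SU 3 F q) := by
  rw [Nat.card_congr (suEquiv 3 F q)]
  apply Nat.card_congr
  refine
    { toFun := fun g => ⟨⟨g.1, g.2.1⟩, ?_⟩
      invFun := fun s => ⟨s.1.1, ⟨s.1.2, ?_⟩⟩
      left_inv := fun g => rfl
      right_inv := fun s => rfl }
  · rw [MonoidHom.mem_ker]
    exact g.2.2
  · have := s.2
    rw [MonoidHom.mem_ker] at this
    exact this

theorem card_SU3_not_dvd_81 (h : q % 9 = 2 ∨ q % 9 = 5) :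
    ¬ 81 ∣ Nat.card (SU 3 F q) := by
  have h1 := card_SU (n := 3) hF.out (by norm_num)
  rw [card_GU hF.out 3] at h1
  have hq := two_le_q hF.out
  obtain ⟨s, hs⟩ : ∃ s, q = s + 1 := ⟨q - 1, by omega⟩
  rw [Finset.prod_range_succ, Finset.prod_range_succ, Finset.prod_range_one] at h1
  simp only [show (3 * (3 - 1) / 2 : ℕ) = 3 by norm_num, Nat.even_iff, Nat.zero_mod,
    if_true, zero_add, pow_one, show (1 % 2 : ℕ) ≠ 0 by norm_num, if_false,
    show (2 % 2 : ℕ) = 0 by norm_num] at h1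
  have e1 : q ^ (1 + 1) - 1 = s * (s + 2) := by
    rw [hs]
    apply Nat.sub_eq_of_eq_add
    ring
  rw [e1] at h1
  have h2 : Nat.card (SU 3 F q) = q ^ 3 * (s * (s + 2)) * (q ^ (2 + 1) + 1) := by
    have : (q + 1) * Nat.card (SU 3 F q) =
        (q + 1) * (q ^ 3 * (s * (s + 2)) * (q ^ (2 + 1) + 1)) := by
      rw [h1]; ring
    exact Nat.eq_of_mul_eq_mul_left (by omega) this
  rw [h2, hs]
  rw [hs] at h
  intro hdvd
  have h0 := (ZMod.natCast_eq_zero_iff _ 81).2 hdvd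
  push_cast at h0
  have key : ∀ t : ZMod 81, (t.val % 9 = 1 ∨ t.val % 9 = 4) →
      (t + 1) ^ 3 * (t * (t + 2)) * ((t + 1) ^ (2 + 1) + 1) ≠ 0 := by
    decide
  apply key (s : ZMod 81) _ h0
  rw [ZMod.val_natCast]
  omega

omit [Fintype F] hF in
/-- The index of the normaliser of a subgroup of order 27 in a group whose order is not divisible
by 81 is prime to 3. -/
theorem three_not_dvd_relIndex_gen (S R : Subgroup (GL (Fin 3) F))
    (hS : ¬ 81 ∣ Nat.card S) (hR : Nat.card R = 27) (hRS : R ≤ S) :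
    ¬ 3 ∣ (Cfsg.Geo.subgroupNormalizer R).relIndex S := by
  intro hdvd
  apply hS
  unfold Subgroup.relIndex at hdvd
  rw [← Subgroup.index_mul_card ((Cfsg.Geo.subgroupNormalizer R).subgroupOf S)]
  have h27 : 27 ∣ Nat.card ((Cfsg.Geo.subgroupNormalizer R).subgroupOf S) := by
    have hle : R.subgroupOf S ≤ (Cfsg.Geo.subgroupNormalizer R).subgroupOf S := by
      apply Subgroup.subgroupOf_mono
      unfold Cfsg.Geo.subgroupNormalizer
      exact Subgroup.le_normalizer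
    have hc : Nat.card (R.subgroupOf S) = 27 := by
      rw [← hR]
      exact Nat.card_congr (Subgroup.subgroupOfEquivOfLe hRS).toEquiv
    rw [← hc]
    exact Subgroup.card_dvd_of_le hle
  have : (81 : ℕ) = 3 * 27 := by norm_num
  rw [this]
  exact Nat.mul_dvd_mul hdvd h27

end Cfsg.Agent.Helper7.Ex27
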