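import Mathlib
import Cfsg.Agent.Helper7.Ex27UE

set_option autoImplicit false
set_option linter.unusedSectionVars false

/-!
Elements of order 3 (modulo scalars) of `SU₃(q)`, `9 ∣ q + 1`, are conjugate into the normaliser of
the standard group `R0`.
-/

namespace Cfsg.Agent.Helper7.Ex27

open Matrix Module Cfsg Cfsg.Agent.Helper7.Singer Cfsg.Agent.Helper7.Invol Cfsg.Agent.Helper7.Herm
  Cfsg.Agent.Helper8.GUOrder Cfsg.Agent.Helper8.AutSU Cfsg.Agent.Helper7.SUNd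
  Cfsg.Agent.Helper8.SURoot

variable {F : Type*} [Field F] [Fintype F] {q : ℕ} [hF : Fact (Fintype.card F = q ^ 2)]

omit [Fintype F] hF in
/-- The spectral decomposition of a matrix of order dividing 3, inside invariant subspaces. -/
theorem cube_decomp {N : ℕ} (Y : Matrix (Fin N) (Fin N) F) (ω : F) (hω : ω ^ 2 + ω + 1 = 0)
    (h3 : (3 : F) ≠ 0) (hY : Y ^ 3 = 1) (v : Fin N → F) :
    ∃ c : Fin 3 → (Fin N → F), (∀ i, Y *ᵥ c i = ω ^ (i : ℕ) • c i) ∧ v = ∑ i, c i ∧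
      ∀ W : Submodule F (Fin N → F), (∀ w ∈ W, Y *ᵥ w ∈ W) → v ∈ W → ∀ i, c i ∈ W := by
  have hω3 := omega_cube ω hω
  obtain ⟨u₁, hu₁⟩ : ∃ u₁, u₁ = Y *ᵥ v := ⟨_, rfl⟩
  obtain ⟨u₂, hu₂⟩ : ∃ u₂, u₂ = Y *ᵥ u₁ := ⟨_, rfl⟩
  have hu₃ : Y *ᵥ u₂ = v := by
    rw [hu₂, hu₁, Matrix.mulVec_mulVec, Matrix.mulVec_mulVec, ← pow_two, ← pow_succ, hY,
      Matrix.one_mulVec]
  refine ⟨fun i => (3 : F)⁻¹ • (v + ω ^ (2 * (i : ℕ)) • u₁ + ω ^ (i : ℕ) • u₂), ?_, ?_, ?_⟩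
  · intro i
    rw [Matrix.mulVec_smul, Matrix.mulVec_add, Matrix.mulVec_add, Matrix.mulVec_smul,
      Matrix.mulVec_smul, ← hu₁, ← hu₂, hu₃]
    fin_cases i
    · simp only [mul_zero, pow_zero, one_smul]
      module
    · simp only [mul_one, pow_one]
      linear_combination (norm := module) (-(3 : F)⁻¹ * hω3) • u₁
    · simp only [Fin.reduceFinMk, Fin.val_two]
      have h6 : ω ^ 6 = 1 := by linear_combination (ω ^ 3 + 1) * hω3
      linear_combination (norm := module) (-(3 : F)⁻¹ * h6) • u₁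
  · rw [Fin.sum_univ_three]
    simp only [Fin.val_zero, mul_zero, pow_zero, one_smul, Fin.val_one, mul_one, pow_one,
      Fin.val_two]
    have h4 : ω ^ 4 = ω := by linear_combination ω * hω3
    have h33 : (3 : F)⁻¹ * 3 = 1 := inv_mul_cancel₀ h3
    linear_combination (norm := module) (-h33) • v + (-(3 : F)⁻¹ * hω) • u₁ + (-(3 : F)⁻¹ * h4) • u₁
      + (-(3 : F)⁻¹ * hω) • u₂
  · intro W hW hv i
    have h1 : u₁ ∈ W := by rw [hu₁]; exact hW v hv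
    have h2 : u₂ ∈ W := by rw [hu₂]; exact hW u₁ h1
    exact W.smul_mem _ (W.add_mem (W.add_mem hv (W.smul_mem _ h1)) (W.smul_mem _ h2))

omit [Fintype F] hF in
/-- Distinct powers of `ω` are "unitarily distinct" when `3 ∣ q + 1`. -/
theorem omega_pow_unitary_ne (ω : F) (hω : ω ^ 2 + ω + 1 = 0) (h3 : (3 : F) ≠ 0)
    (h3q : 3 ∣ q + 1) (i j : Fin 3) (hij : i ≠ j) :
    ω ^ (i : ℕ) * (ω ^ (j : ℕ)) ^ q ≠ 1 := by
  intro hcon
  apply hij
  have hω3 := omega_cube ω hω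
  have hγ3 : (ω ^ (j : ℕ)) ^ 3 = 1 := by
    rw [← pow_mul, mul_comm, pow_mul, hω3, one_pow]
  have hγq := pow_succ_q_of_cube h3q _ hγ3
  have heq : ω ^ (i : ℕ) = ω ^ (j : ℕ) := by
    calc ω ^ (i : ℕ) = ω ^ (i : ℕ) * (ω ^ (j : ℕ)) ^ (q + 1) := by rw [hγq, mul_one]
      _ = (ω ^ (i : ℕ) * (ω ^ (j : ℕ)) ^ q) * ω ^ (j : ℕ) := by rw [pow_succ]; ring
      _ = ω ^ (j : ℕ) := by rw [hcon, one_mul]
  exact omega_pow_injective ω hω h3 heq

/-- Elements of order 3 modulo scalars, when `9 ∣ q + 1`. -/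
theorem elusU_three (ω : F) (hω : ω ^ 2 + ω + 1 = 0) (h3 : (3 : F) ≠ 0)
    (h9 : 9 ∣ q + 1) :
    ElusU q 3 (Cfsg.Geo.subgroupNormalizer (R0 ω hω)) := by
  haveI : Finite F := Finite.of_fintype F
  intro x hx hxr _
  obtain ⟨z, hz⟩ := hxr
  have h3q : 3 ∣ q + 1 := dvd_trans (by norm_num) h9
  have hz3 := scalar_pow_det hx.2 3 z hz
  have hq2 := two_le_q hF.out
  -- z is a cube of an element of norm one
  obtain ⟨η, hη, hη9⟩ : ∃ η : F, η ^ 3 = z ∧ η ^ 9 = 1 := by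
    have h9' : 9 ∣ Fintype.card F - 1 := by
      rw [hF.out]
      obtain ⟨k, hk⟩ := h9
      have : q ^ 2 - 1 = (q - 1) * (q + 1) := by
        obtain ⟨s, rfl⟩ : ∃ s, q = s + 1 := ⟨q - 1, by omega⟩
        apply Nat.sub_eq_of_eq_add
        simp only [Nat.add_sub_cancel]
        ring
      rw [this, hk]
      exact ⟨(q - 1) * k, by ring⟩
    obtain ⟨ω', μ', hω', hμ'0, hμ'⟩ := exists_cube_root_omega h9'
    obtain ⟨k, hk⟩ := exists_pow_of_cube ω' hω' z hz3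
    have hωμ : ω' = (μ'⁻¹) ^ 3 := by
      rw [inv_pow]
      field_simp
      linear_combination hμ'
    refine ⟨(μ'⁻¹) ^ k, ?_, ?_⟩
    · rw [hk, ← pow_mul, mul_comm, pow_mul, ← hωμ]
    · have : ((μ'⁻¹) ^ k) ^ 9 = (((μ'⁻¹) ^ 3) ^ 3) ^ k := by
        rw [← pow_mul, ← pow_mul, ← pow_mul]
        congr 1
        ring
      rw [this, ← hωμ, omega_cube ω' hω', one_pow]
  have hηq : η ^ (q + 1) = 1 := by
    obtain ⟨k, hk⟩ := h9
    rw [hk, pow_mul, hη9, one_pow]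
  have hη0 : η ≠ 0 := by
    intro h
    rw [h] at hη9
    simp at hη9
  have hX3 : (η⁻¹ • (x : Matrix (Fin 3) (Fin 3) F)) ^ 3 = 1 := by
    rw [smul_pow, ← Units.val_pow_eq_pow_val, hz, smul_smul, inv_pow, hη, inv_mul_cancel₀, one_smul]
    rw [← hη]
    exact pow_ne_zero 3 hη0
  have hXU : ∀ u v, hermForm 3 F q ((η⁻¹ • (x : Matrix (Fin 3) (Fin 3) F)) *ᵥ u)
      ((η⁻¹ • (x : Matrix (Fin 3) (Fin 3) F)) *ᵥ v) = hermForm 3 F q u v := by
    intro u v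
    rw [Matrix.smul_mulVec, Matrix.smul_mulVec, hermForm_smul_left, hermForm_smul_right,
      herm_GU hx.1, ← mul_assoc, ← pow_succ', inv_pow, hηq, inv_one, one_mul]
  obtain ⟨b, e, hb, hXb⟩ := exists_onb_eigen_top (q := q) _ hXU (fun i : Fin 3 => ω ^ (i : ℕ))
    (omega_pow_unitary_ne ω hω h3 h3q) (cube_decomp _ ω hω h3 hX3)
  have hxb : ∀ j, (x : Matrix (Fin 3) (Fin 3) F) *ᵥ b j = (η * ω ^ (e j : ℕ)) • b j := by
    intro j
    have := hXb j
    rw [Matrix.smul_mulVec] at this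
    calc (x : Matrix (Fin 3) (Fin 3) F) *ᵥ b j
        = η • (η⁻¹ • ((x : Matrix (Fin 3) (Fin 3) F) *ᵥ b j)) := by
          rw [smul_smul, mul_inv_cancel₀ hη0, one_smul]
      _ = (η * ω ^ (e j : ℕ)) • b j := by rw [this, smul_smul]
  -- the target element
  obtain ⟨t, htdef⟩ : ∃ t : GL (Fin 3) F,
      t = sg (Units.mk0 η hη0) * dg (fun i => ωu ω hω ^ (e i : ℕ)) := ⟨_, rfl⟩
  have htN : t ∈ Cfsg.Geo.subgroupNormalizer (R0 ω hω) := by
    rw [htdef]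
    refine Subgroup.mul_mem _ (sg_mem_normalizer _ _) (dg_mem_normalizer ω hω _ ?_)
    intro i
    apply Units.ext
    rw [Units.val_pow_eq_pow_val, Units.val_pow_eq_pow_val, ωu_val, ← pow_mul, mul_comm, pow_mul,
      omega_cube ω hω, one_pow]
    rfl
  have htv : ∀ j, (t : Matrix (Fin 3) (Fin 3) F) *ᵥ (Pi.single j (1 : F) : Fin 3 → F) =
      (η * ω ^ (e j : ℕ)) • (Pi.single j (1 : F) : Fin 3 → F) := by
    intro j
    rw [htdef, Units.val_mul, sg_val, dg_val, Units.val_mk0, Matrix.smul_mul, Matrix.one_mul,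
      Matrix.smul_mulVec, Matrix.mulVec_single_one]
    ext k
    simp only [Pi.smul_apply, Matrix.col_apply, Matrix.diagonal_apply, smul_eq_mul,
      Pi.single_apply]
    by_cases hkj : k = j
    · subst hkj
      simp
    · simp [hkj]
  obtain ⟨g, hgU, hg⟩ := conj_of_onb (q := q) (x : Matrix (Fin 3) (Fin 3) F)
    (t : Matrix (Fin 3) (Fin 3) F) b (fun j => Pi.single j (1 : F)) hb std_onb
    (fun j => η * ω ^ (e j : ℕ)) (fun j => η * ω ^ (e j : ℕ)) hxb htv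
    (Equiv.refl _) (fun _ => rfl)
  -- the determinant correction
  have hdet0 : (g : Matrix (Fin 3) (Fin 3) F).det ≠ 0 := Matrix.GeneralLinearGroup.det_ne_zero g
  obtain ⟨δ, hδ⟩ : ∃ δ : Fˣ, (δ : F) = (g : Matrix (Fin 3) (Fin 3) F).det :=
    ⟨Units.mk0 _ hdet0, rfl⟩
  have hδq : (δ : F) ^ (q + 1) = 1 := by rw [hδ]; exact det_GU_norm hgU
  have hdU : dg ![δ⁻¹, 1, 1] ∈ GU 3 F q := by
    apply dg_mem_GU
    intro i
    fin_cases i
    · show ((δ⁻¹ : Fˣ) : F) ^ (q + 1) = 1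
      rw [Units.val_inv_eq_inv_val, inv_pow, hδq, inv_one]
    · simp
    · simp
  refine elusU_finish _ x t g (dg ![δ⁻¹, 1, 1]) htN hgU hdU ?_ ?_ hg
  · rw [htdef, ← mul_assoc, ← sg_comm, mul_assoc, mul_assoc]
    congr 1
    apply Units.ext
    rw [Units.val_mul, Units.val_mul, dg_val, dg_val, Matrix.diagonal_mul_diagonal,
      Matrix.diagonal_mul_diagonal]
    congr 1
    funext i
    exact mul_comm _ _
  · rw [dg_val, Matrix.det_diagonal, Fin.prod_univ_three, ← hδ]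
    simp

end Cfsg.Agent.Helper7.Ex27
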