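import Mathlib
import Cfsg.Agent.Helper7.Ex27UF

set_option autoImplicit false
set_option linter.unusedSectionVars false

/-!
Elements of order 2 (modulo scalars) of `SU₃(q)` are conjugate into the normaliser of the standard
group `R0`.
-/

namespace Cfsg.Agent.Helper7.Ex27

open Matrix Module Cfsg Cfsg.Agent.Helper7.Singer Cfsg.Agent.Helper7.Invol Cfsg.Agent.Helper7.Herm
  Cfsg.Agent.Helper8.GUOrder Cfsg.Agent.Helper8.AutSU Cfsg.Agent.Helper7.SUNd
  Cfsg.Agent.Helper8.SURoot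

variable {F : Type*} [Field F] [Fintype F] {q : ℕ} [hF : Fact (Fintype.card F = q ^ 2)]

/-- The two eigenvalues of an involution. -/
def pm (F : Type*) [Field F] : Fin 2 → F := ![1, -1]

omit [Fintype F] hF in
theorem invol_decomp {N : ℕ} (Y : Matrix (Fin N) (Fin N) F) (h2 : (2 : F) ≠ 0) (hY : Y * Y = 1)
    (v : Fin N → F) :
    ∃ c : Fin 2 → (Fin N → F), (∀ i, Y *ᵥ c i = pm F i • c i) ∧ v = ∑ i, c i ∧
      ∀ W : Submodule F (Fin N → F), (∀ w ∈ W, Y *ᵥ w ∈ W) → v ∈ W → ∀ i, c i ∈ W := by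
  have hYY : Y *ᵥ (Y *ᵥ v) = v := by rw [Matrix.mulVec_mulVec, hY, Matrix.one_mulVec]
  have h22 : (2 : F)⁻¹ * 2 = 1 := inv_mul_cancel₀ h2
  refine ⟨![(2 : F)⁻¹ • (v + Y *ᵥ v), (2 : F)⁻¹ • (v - Y *ᵥ v)], ?_, ?_, ?_⟩
  · intro i
    fin_cases i
    · show Y *ᵥ ((2 : F)⁻¹ • (v + Y *ᵥ v)) = (1 : F) • ((2 : F)⁻¹ • (v + Y *ᵥ v))
      rw [Matrix.mulVec_smul, Matrix.mulVec_add, hYY, one_smul, add_comm]
    · show Y *ᵥ ((2 : F)⁻¹ • (v - Y *ᵥ v)) = (-1 : F) • ((2 : F)⁻¹ • (v - Y *ᵥ v))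
      rw [Matrix.mulVec_smul, Matrix.mulVec_sub, hYY]
      module
  · rw [Fin.sum_univ_two]
    show v = (2 : F)⁻¹ • (v + Y *ᵥ v) + (2 : F)⁻¹ • (v - Y *ᵥ v)
    linear_combination (norm := module) (-h22) • v
  · intro W hW hv i
    have h1 : Y *ᵥ v ∈ W := hW v hv
    fin_cases i
    · exact W.smul_mem _ (W.add_mem hv h1)
    · exact W.smul_mem _ (W.sub_mem hv h1)

omit [Fintype F] hF in
theorem pm_unitary_ne (h2 : (2 : F) ≠ 0) (hodd : (-1 : F) ^ (q + 1) = 1) (i j : Fin 2)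
    (hij : i ≠ j) : pm F i * (pm F j) ^ q ≠ 1 := by
  have h1 : (-1 : F) ^ q = -1 := by
    have : (-1 : F) ^ q * (-1) = 1 := by rw [← pow_succ]; exact hodd
    linear_combination (-1 : F) * this
  have hne : (-1 : F) ≠ 1 := by
    intro h
    apply h2
    linear_combination (-1 : F) * h
  fin_cases i <;> fin_cases j
  · exact absurd rfl hij
  · show (1 : F) * (-1) ^ q ≠ 1
    rw [h1, one_mul]; exact hne
  · show (-1 : F) * 1 ^ q ≠ 1
    rw [one_pow, mul_one]; exact hne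
  · exact absurd rfl hij

/-- Orthonormal eigenbasis of a unitary involution. -/
theorem exists_onb_invol (Y : Matrix (Fin 3) (Fin 3) F) (h2 : (2 : F) ≠ 0)
    (hodd : (-1 : F) ^ (q + 1) = 1)
    (hYU : ∀ u v, hermForm 3 F q (Y *ᵥ u) (Y *ᵥ v) = hermForm 3 F q u v) (hY : Y * Y = 1) :
    ∃ (b : Fin 3 → (Fin 3 → F)) (e : Fin 3 → Fin 2),
      (∀ i j, hermForm 3 F q (b i) (b j) = if i = j then 1 else 0) ∧
      ∀ i, Y *ᵥ b i = pm F (e i) • b i :=
  exists_onb_eigen_top (q := q) Y hYU (pm F) (pm_unitary_ne h2 hodd) (invol_decomp Y h2 hY)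

/-- A unitary involution of determinant one other than the identity has eigenvalue `-1` twice. -/
theorem sum_of_det (Y : Matrix (Fin 3) (Fin 3) F) (h2 : (2 : F) ≠ 0)
    (b : Fin 3 → (Fin 3 → F)) (e : Fin 3 → Fin 2)
    (hb : ∀ i j, hermForm 3 F q (b i) (b j) = if i = j then 1 else 0)
    (hYb : ∀ i, Y *ᵥ b i = pm F (e i) • b i) (hdet : Y.det = 1) (hY1 : Y ≠ 1) :
    ((e 0 : Fin 2) : ℕ) + ((e 1 : Fin 2) : ℕ) + ((e 2 : Fin 2) : ℕ) = 2 := by
  obtain ⟨bb, hbb⟩ := exists_basis_of_onb (q := q) b hb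
  have hd := det_of_diag_basis Y bb (fun i => pm F (e i)) (fun i => by rw [hbb]; exact hYb i)
  rw [hdet, Fin.prod_univ_three] at hd
  have hne : (1 : F) ≠ -1 := by
    intro h
    apply h2
    linear_combination h
  have hcases : ∀ t : Fin 2, t = 0 ∨ t = 1 := by decide
  rcases hcases (e 0) with h0 | h0 <;> rcases hcases (e 1) with h1 | h1 <;>
    rcases hcases (e 2) with h2' | h2' <;> rw [h0, h1, h2'] at hd ⊢ <;>
    simp [pm] at hd ⊢
  · exfalso
    apply hY1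
    apply eq_of_mulVec_basis bb
    intro i
    rw [hbb, hYb, Matrix.one_mulVec]
    have : e i = 0 := by
      fin_cases i
      · exact h0
      · exact h1
      · exact h2'
    rw [this]
    simp [pm]
  all_goals exact absurd hd hne

/-- Matching of eigenvalue patterns. -/
theorem exists_match : ∀ e e' : Fin 3 → Fin 2,
    ((e 0 : Fin 2) : ℕ) + ((e 1 : Fin 2) : ℕ) + ((e 2 : Fin 2) : ℕ) = 2 →
    ((e' 0 : Fin 2) : ℕ) + ((e' 1 : Fin 2) : ℕ) + ((e' 2 : Fin 2) : ℕ) = 2 →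
    ∃ s : Fin 3 → Fin 3, Function.Bijective s ∧ ∀ i, e' (s i) = e i := by
  decide

end Cfsg.Agent.Helper7.Ex27
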