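import Mathlib
import Cfsg.Agent.Helper7.Ex27UG

set_option autoImplicit false
set_option linter.unusedSectionVars false

/-!
Elements of order 2 (modulo scalars) of `SU₃(q)` are conjugate into the normaliser of the standard
group `R0`: the main statement.
-/

namespace Cfsg.Agent.Helper7.Ex27

open Matrix Module Cfsg Cfsg.Agent.Helper7.Singer Cfsg.Agent.Helper7.Invol Cfsg.Agent.Helper7.Herm
  Cfsg.Agent.Helper8.GUOrder Cfsg.Agent.Helper8.AutSU Cfsg.Agent.Helper7.SUNd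
  Cfsg.Agent.Helper8.SURoot

variable {F : Type*} [Field F] [Fintype F] {q : ℕ} [hF : Fact (Fintype.card F = q ^ 2)]

omit [Fintype F] hF in
theorem Tm_ne_one (h2 : (2 : F) ≠ 0) : (Tm : Matrix (Fin 3) (Fin 3) F) ≠ 1 := by
  intro h
  have := congrFun (congrFun h 0) 0
  simp [Tm] at this

omit [Fintype F] hF in
theorem dg_comm_Tg (δ : Fˣ) : dg ![1, 1, δ] * (Tg : GL (Fin 3) F) = Tg * dg ![1, 1, δ] := by
  apply Units.ext
  rw [Units.val_mul, Units.val_mul, dg_val, Tg_val]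
  ext i j
  fin_cases i <;> fin_cases j <;>
    simp [Tm, Matrix.mul_apply, Fin.sum_univ_three, Matrix.diagonal_apply]

/-- Elements of order 2 modulo scalars. -/
theorem elusU_two (ω : F) (hω : ω ^ 2 + ω + 1 = 0) (h2 : (2 : F) ≠ 0)
    (hodd : (-1 : F) ^ (q + 1) = 1) (h3q : 3 ∣ q + 1) :
    ElusU q 2 (Cfsg.Geo.subgroupNormalizer (R0 ω hω)) := by
  haveI : Finite F := Finite.of_fintype F
  intro x hx hxr hxns
  obtain ⟨z, hz⟩ := hxr
  have hz3 := scalar_pow_det hx.2 2 z hz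
  obtain ⟨μ, hμdef⟩ : ∃ μ : F, μ = z ^ 2 := ⟨_, rfl⟩
  have hμμ : μ * μ = z := by
    rw [hμdef]
    linear_combination z * hz3
  have hμ3 : μ ^ 3 = 1 := by
    rw [hμdef]
    linear_combination (z ^ 3 + 1) * hz3
  have hμ0 : μ ≠ 0 := by
    intro h
    rw [h] at hμ3
    simp at hμ3
  have hμq : μ ^ (q + 1) = 1 := pow_succ_q_of_cube h3q μ hμ3
  have hXX : (x : Matrix (Fin 3) (Fin 3) F) * (x : Matrix (Fin 3) (Fin 3) F) =
      (μ * μ) • (1 : Matrix (Fin 3) (Fin 3) F) := by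
    rw [hμμ, ← hz, Units.val_pow_eq_pow_val, pow_two]
  -- the involution
  obtain ⟨Y, hYdef⟩ : ∃ Y : Matrix (Fin 3) (Fin 3) F, Y = μ⁻¹ • (x : Matrix (Fin 3) (Fin 3) F) :=
    ⟨_, rfl⟩
  have hYY : Y * Y = 1 := by
    rw [hYdef, Matrix.smul_mul, Matrix.mul_smul, hXX, smul_smul, smul_smul]
    have : μ⁻¹ * μ⁻¹ * (μ * μ) = 1 := by field_simp
    rw [this, one_smul]
  have hYU : ∀ u v, hermForm 3 F q (Y *ᵥ u) (Y *ᵥ v) = hermForm 3 F q u v := by
    intro u v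
    rw [hYdef, Matrix.smul_mulVec, Matrix.smul_mulVec, hermForm_smul_left, hermForm_smul_right,
      herm_GU hx.1, ← mul_assoc, ← pow_succ', inv_pow, hμq, inv_one, one_mul]
  have hYdet : Y.det = 1 := by
    rw [hYdef, Matrix.det_smul, (mem_SL_iff x).1 hx.2, mul_one, Fintype.card_fin, inv_pow, hμ3,
      inv_one]
  have hY1 : Y ≠ 1 := by
    intro h
    apply hxns μ
    rw [hYdef] at h
    calc (x : Matrix (Fin 3) (Fin 3) F) = μ • (μ⁻¹ • (x : Matrix (Fin 3) (Fin 3) F)) := by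
          rw [smul_smul, mul_inv_cancel₀ hμ0, one_smul]
      _ = μ • (1 : Matrix (Fin 3) (Fin 3) F) := by rw [h]
  obtain ⟨b, e, hb, hYb⟩ := exists_onb_invol (q := q) Y h2 hodd hYU hYY
  have hsum := sum_of_det (q := q) Y h2 b e hb hYb hYdet hY1
  -- the model involution
  have hTU : ∀ u v, hermForm 3 F q ((Tm : Matrix (Fin 3) (Fin 3) F) *ᵥ u)
      ((Tm : Matrix (Fin 3) (Fin 3) F) *ᵥ v) = hermForm 3 F q u v :=
    fun u v => herm_GU (Tg_mem_GU (q := q) hodd) u v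
  obtain ⟨b', e', hb', hTb'⟩ := exists_onb_invol (q := q) (Tm : Matrix (Fin 3) (Fin 3) F) h2 hodd
    hTU Tm_mul_Tm
  have hsum' := sum_of_det (q := q) (Tm : Matrix (Fin 3) (Fin 3) F) h2 b' e' hb' hTb' Tm_det
    (Tm_ne_one h2)
  obtain ⟨s, hs, hse⟩ := exists_match e e' hsum hsum'
  -- the target element
  obtain ⟨t, htdef⟩ : ∃ t : GL (Fin 3) F, t = sg (Units.mk0 μ hμ0) * Tg := ⟨_, rfl⟩
  have htN : t ∈ Cfsg.Geo.subgroupNormalizer (R0 ω hω) := by
    rw [htdef]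
    exact Subgroup.mul_mem _ (sg_mem_normalizer _ _) (Tg_mem_normalizer ω hω)
  have hxb : ∀ j, (x : Matrix (Fin 3) (Fin 3) F) *ᵥ b j = (μ * pm F (e j)) • b j := by
    intro j
    have := hYb j
    rw [hYdef, Matrix.smul_mulVec] at this
    calc (x : Matrix (Fin 3) (Fin 3) F) *ᵥ b j
        = μ • (μ⁻¹ • ((x : Matrix (Fin 3) (Fin 3) F) *ᵥ b j)) := by
          rw [smul_smul, mul_inv_cancel₀ hμ0, one_smul]
      _ = (μ * pm F (e j)) • b j := by rw [this, smul_smul]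
  have htb : ∀ j, (t : Matrix (Fin 3) (Fin 3) F) *ᵥ b' j = (μ * pm F (e' j)) • b' j := by
    intro j
    rw [htdef, Units.val_mul, sg_val, Tg_val, Units.val_mk0, Matrix.smul_mul, Matrix.one_mul,
      Matrix.smul_mulVec, hTb', smul_smul]
  obtain ⟨g, hgU, hg⟩ := conj_of_onb (q := q) (x : Matrix (Fin 3) (Fin 3) F)
    (t : Matrix (Fin 3) (Fin 3) F) b b' hb hb'
    (fun j => μ * pm F (e j)) (fun j => μ * pm F (e' j)) hxb htb
    (Equiv.ofBijective s hs) (fun i => by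
      show μ * pm F (e' (s i)) = μ * pm F (e i)
      rw [hse])
  -- the determinant correction
  have hdet0 : (g : Matrix (Fin 3) (Fin 3) F).det ≠ 0 := Matrix.GeneralLinearGroup.det_ne_zero g
  obtain ⟨δ, hδ⟩ : ∃ δ : Fˣ, (δ : F) = (g : Matrix (Fin 3) (Fin 3) F).det :=
    ⟨Units.mk0 _ hdet0, rfl⟩
  have hδq : (δ : F) ^ (q + 1) = 1 := by rw [hδ]; exact det_GU_norm hgU
  have hdU : dg ![1, 1, δ⁻¹] ∈ GU 3 F q := by
    apply dg_mem_GU
    intro i
    fin_cases i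
    · simp
    · simp
    · show ((δ⁻¹ : Fˣ) : F) ^ (q + 1) = 1
      rw [Units.val_inv_eq_inv_val, inv_pow, hδq, inv_one]
  refine elusU_finish _ x t g (dg ![1, 1, δ⁻¹]) htN hgU hdU ?_ ?_ hg
  · rw [htdef, ← mul_assoc, ← sg_comm, mul_assoc, mul_assoc, dg_comm_Tg]
  · rw [dg_val, Matrix.det_diagonal, Fin.prod_univ_three, ← hδ]
    simp

end Cfsg.Agent.Helper7.Ex27
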