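import Mathlib
import Cfsg.Agent.Helper7.Ex27UH

set_option autoImplicit false
set_option linter.unusedSectionVars false

/-!
No element of prime order at least five of a subgroup of `SL₃(F)` is conjugate into the normaliser
of the extraspecial group of order 27: version relative to an arbitrary ambient subgroup.
-/

namespace Cfsg.Agent.Helper7.Ex27

open Matrix Cfsg.Agent.Helper7.Singer Cfsg.Agent.Helper7.Invol

variable {F : Type*} [Field F]

theorem not_elus_ge_five_gen [Fintype F] (S : Subgroup (GL (Fin 3) F))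
    (hS : S ≤ Cfsg.Geo.specialLinear (Fin 3) F) (h3 : (3 : F) ≠ 0) (ω : F)
    (hω : ω ^ 2 + ω + 1 = 0)
    (R : Subgroup (GL (Fin 3) F)) (hR : Nat.card R = 27) (P : GL (Fin 3) F)
    (hRP : ∀ g, g ∈ R ↔ P⁻¹ * g * P ∈ R0 ω hω)
    (r : ℕ) [hrp : Fact r.Prime] (hr5 : 5 ≤ r)
    (hdvd : r ∣ Nat.card S) :
    ¬ (∀ x ∈ S,
      (∃ z : F, ((x ^ r : GL (Fin 3) F) : Matrix (Fin 3) (Fin 3) F) =
        z • (1 : Matrix (Fin 3) (Fin 3) F)) →
      (∀ z : F, (x : Matrix (Fin 3) (Fin 3) F) ≠ z • (1 : Matrix (Fin 3) (Fin 3) F)) →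
      ∃ g ∈ S, g⁻¹ * x * g ∈ Cfsg.Geo.subgroupNormalizer R) := by
  intro hall
  haveI : Finite R := Nat.finite_of_card_ne_zero (by rw [hR]; norm_num)
  obtain ⟨x, hx⟩ := exists_prime_orderOf_dvd_card' r hdvd
  have hxr : (x : GL (Fin 3) F) ^ r = 1 := by
    have := pow_orderOf_eq_one x
    rw [hx] at this
    have := congrArg Subtype.val this
    simpa using this
  have hxd : ((x : GL (Fin 3) F) : Matrix (Fin 3) (Fin 3) F).det = 1 :=
    (mem_SL_iff _).mp (hS x.2)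
  have hxns : ∀ z : F, ((x : GL (Fin 3) F) : Matrix (Fin 3) (Fin 3) F) ≠ z • 1 := by
    intro z hz
    have hz3 : z ^ 3 = 1 := by
      have h := congrArg Matrix.det hz
      rw [hxd, Matrix.det_smul, Matrix.det_one, mul_one, Fintype.card_fin] at h
      exact h.symm
    have h1 : (x : GL (Fin 3) F) ^ 3 = 1 := by
      apply Units.ext
      rw [Units.val_pow_eq_pow_val, hz, smul_pow, one_pow, hz3, one_smul]
      rfl
    have h2' : x ^ 3 = 1 := Subtype.ext (by simpa using h1)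
    have := orderOf_dvd_of_pow_eq_one h2'
    rw [hx] at this
    have := Nat.le_of_dvd (by norm_num) this
    omega
  obtain ⟨g, hg, hy⟩ := hall x x.2 ⟨1, by rw [hxr, one_smul]; rfl⟩ hxns
  obtain ⟨y, hydef⟩ : ∃ y : GL (Fin 3) F, y = g⁻¹ * (x : GL (Fin 3) F) * g := ⟨_, rfl⟩
  rw [← hydef] at hy
  have hyr : y ^ r = 1 := by
    rw [hydef]
    have : (g⁻¹ * (x : GL (Fin 3) F) * g) ^ r = g⁻¹ * (x : GL (Fin 3) F) ^ r * g := by
      have := conj_pow (a := g⁻¹) (b := (x : GL (Fin 3) F)) (i := r)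
      rw [inv_inv] at this
      exact this
    rw [this, hxr]; group
  have hZ : sg (ωu ω hω) ∈ R := by
    rw [hRP]
    have : P⁻¹ * sg (ωu ω hω) * P = sg (ωu ω hω) := by
      rw [mul_assoc, sg_comm, ← mul_assoc, inv_mul_cancel, one_mul]
    rw [this]
    exact sg_omega_mem ω hω
  have hZ1 := sg_omega_ne_one ω hω h3
  have hZy : y * sg (ωu ω hω) * y⁻¹ = sg (ωu ω hω) := by
    rw [← sg_comm, mul_assoc, mul_inv_cancel, mul_one]
  have hcen := central_of_prime27 R hR hy hrp.out hr5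
    (fun n _ => by rw [hyr]; group) hZ hZ1 hZy
  have hXR : P * Xg ω hω * P⁻¹ ∈ R := by
    rw [hRP]
    have : P⁻¹ * (P * Xg ω hω * P⁻¹) * P = Xg ω hω := by group
    rw [this]
    exact Xg_mem ω hω
  have hYR : P * Yg * P⁻¹ ∈ R := by
    rw [hRP]
    have : P⁻¹ * (P * Yg * P⁻¹) * P = Yg := by group
    rw [this]
    exact Yg_mem ω hω
  have cX : (P⁻¹ * y * P) * Xg ω hω = Xg ω hω * (P⁻¹ * y * P) := by
    have := hcen _ hXR
    calc (P⁻¹ * y * P) * Xg ω hω = P⁻¹ * (y * (P * Xg ω hω * P⁻¹) * y⁻¹) * y * P := by group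
      _ = Xg ω hω * (P⁻¹ * y * P) := by rw [this]; group
  have cY : (P⁻¹ * y * P) * Yg = Yg * (P⁻¹ * y * P) := by
    have := hcen _ hYR
    calc (P⁻¹ * y * P) * Yg = P⁻¹ * (y * (P * Yg * P⁻¹) * y⁻¹) * y * P := by group
      _ = Yg * (P⁻¹ * y * P) := by rw [this]; group
  have cX' := congrArg (fun g : GL (Fin 3) F => (g : Matrix (Fin 3) (Fin 3) F)) cX
  have cY' := congrArg (fun g : GL (Fin 3) F => (g : Matrix (Fin 3) (Fin 3) F)) cY
  simp only [Units.val_mul (a := P⁻¹ * y * P), Units.val_mul (b := P⁻¹ * y * P), Xg_val,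
    Yg_val] at cX' cY'
  have hsc := scalar_of_comm ω hω h3 _ cX' cY'
  obtain ⟨z, hz⟩ : ∃ z : F, ((P⁻¹ * y * P : GL (Fin 3) F) : Matrix (Fin 3) (Fin 3) F) =
      z • (1 : Matrix (Fin 3) (Fin 3) F) := ⟨_, hsc⟩
  apply hxns z
  have hxy : (x : GL (Fin 3) F) = (g * P) * (P⁻¹ * y * P) * (g * P)⁻¹ := by
    rw [hydef]; group
  have := conj_scalar (g * P)⁻¹ _ z hz
  rw [inv_inv] at this
  rw [hxy]
  exact this

end Cfsg.Agent.Helper7.Ex27
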