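import Mathlib
import Cfsg.Agent.Helper7.SUNdA
import Cfsg.Agent.Helper8.MaxSingular

set_option autoImplicit false
set_option linter.unusedSectionVars false

/-! Pairs of complementary totally isotropic subspaces of the standard unitary space: basic
geometry and the Siegel elements in non-dependent form (helper7). -/

namespace Cfsg.Agent.Helper7.SUPair

open Matrix Module Cfsg Cfsg.Agent.Helper7.Herm Cfsg.Agent.Helper8.GUOrder Cfsg.Agent.Helper8.SURoot
  Cfsg.Agent.Helper8.AutSU Cfsg.Agent.Helper7.SUMax Cfsg.Agent.Helper7.SUNd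

variable {K : Type*} [Field K] [Fintype K] {q N : ℕ} [hK : Fact (Fintype.card K = q ^ 2)]

/-- a vector outside a subspace is separated from it by the form. -/
theorem exists_perp_of_not_mem' {X : Submodule K (Fin N → K)} {e : Fin N → K} (h : e ∉ X) :
    ∃ z : Fin N → K, (∀ x ∈ X, hermForm N K q x z = 0) ∧ hermForm N K q e z ≠ 0 := by
  obtain ⟨z, hz, hez⟩ := exists_perp_of_not_mem (q := q) X h
  exact ⟨z, hz, by rw [hez]; exact one_ne_zero⟩

/-- a pair of complementary totally isotropic subspaces. -/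
structure LPair (q : ℕ) (E F : Submodule K (Fin N → K)) : Prop where
  tsE : ∀ x ∈ E, ∀ y ∈ E, hermForm N K q x y = 0
  tsF : ∀ x ∈ F, ∀ y ∈ F, hermForm N K q x y = 0
  inf : E ⊓ F = ⊥
  sup : E ⊔ F = ⊤

namespace LPair

variable {E F : Submodule K (Fin N → K)} (hd : LPair q E F)

include hd

theorem symm : LPair q F E :=
  ⟨hd.tsF, hd.tsE, by rw [inf_comm]; exact hd.inf, by rw [sup_comm]; exact hd.sup⟩

theorem exists_dec (x : Fin N → K) : ∃ e ∈ E, ∃ f ∈ F, x = e + f := by
  have : x ∈ E ⊔ F := by rw [hd.sup]; trivial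
  obtain ⟨e, he, f, hf, h⟩ := Submodule.mem_sup.mp this
  exact ⟨e, he, f, hf, h.symm⟩

theorem eq_of_add_eq {e e' f f' : Fin N → K} (he : e ∈ E) (he' : e' ∈ E) (hf : f ∈ F)
    (hf' : f' ∈ F) (h : e + f = e' + f') : e = e' ∧ f = f' := by
  have h1 : e - e' = f' - f := by
    rw [sub_eq_sub_iff_add_eq_add, h, add_comm]
  have h2 : e - e' ∈ E ⊓ F := ⟨E.sub_mem he he', by rw [h1]; exact F.sub_mem hf' hf⟩
  rw [hd.inf, Submodule.mem_bot] at h2
  refine ⟨sub_eq_zero.mp h2, ?_⟩
  rw [h2] at h1
  exact (sub_eq_zero.mp h1.symm).symm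

theorem eq_zero_of_mem_of_mem {x : Fin N → K} (hE : x ∈ E) (hF : x ∈ F) : x = 0 := by
  have : x ∈ E ⊓ F := ⟨hE, hF⟩
  rw [hd.inf] at this
  exact (Submodule.mem_bot K).mp this

/-- a vector orthogonal to `E` lies in `E`. -/
theorem mem_E_of_perp {z : Fin N → K} (h : ∀ x ∈ E, hermForm N K q x z = 0) : z ∈ E := by
  obtain ⟨e, he, f, hf, rfl⟩ := hd.exists_dec z
  have hf0 : f = 0 := by
    apply eq_zero_of_h_left (q := q)
    intro y
    obtain ⟨e', he', f', hf', rfl⟩ := hd.exists_dec y
    rw [hermForm_add_left, hd.tsF f' hf' f hf, add_zero]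
    have := h e' he'
    rw [h_add_right, hd.tsE e' he' e he, zero_add] at this
    exact this
  rw [hf0, add_zero]
  exact he

theorem mem_F_of_perp {z : Fin N → K} (h : ∀ x ∈ F, hermForm N K q x z = 0) : z ∈ F :=
  hd.symm.mem_E_of_perp h

/-- a vector of `F` separating `e ∈ E` from a subspace `A` of `E`. -/
theorem exists_dual_in {A : Submodule K (Fin N → K)} (hA : A ≤ E) {e : Fin N → K} (he : e ∈ E)
    (hne : e ∉ A) :
    ∃ b ∈ F, (∀ x ∈ A, hermForm N K q x b = 0) ∧ hermForm N K q e b ≠ 0 := by
  have h1 : e ∉ A ⊔ F := by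
    intro h
    obtain ⟨a, ha, f, hf, h2⟩ := Submodule.mem_sup.mp h
    have h3 := hd.eq_of_add_eq (hA ha) he hf F.zero_mem (by rw [h2, add_zero])
    apply hne
    rw [← h3.1]
    exact ha
  obtain ⟨z, hz, hez⟩ := exists_perp_of_not_mem' (q := q) h1
  refine ⟨z, hd.mem_F_of_perp (fun x hx => hz x (Submodule.mem_sup_right hx)),
    fun x hx => hz x (Submodule.mem_sup_left hx), hez⟩

/-- a vector of `F` orthogonal to `A ≤ E` with a prescribed product with `e ∈ E ∖ A`. -/
theorem exists_dual_eq {A : Submodule K (Fin N → K)} (hA : A ≤ E) {e : Fin N → K} (he : e ∈ E)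
    (hne : e ∉ A) (μ : K) :
    ∃ b ∈ F, (∀ x ∈ A, hermForm N K q x b = 0) ∧ hermForm N K q e b = μ := by
  obtain ⟨b, hb, hperp, heb⟩ := hd.exists_dual_in hA he hne
  refine ⟨((μ / hermForm N K q e b) ^ q) • b, F.smul_mem _ hb, fun x hx => ?_, ?_⟩
  · rw [hermForm_smul_right, hperp x hx, mul_zero]
  · rw [hermForm_smul_right, bb, div_mul_cancel₀ _ heb]

end LPair

/-- the Siegel element `x ↦ x + h(x, a) (b + c a) - h(x, b) a`, the identity when the parameters
are not admissible. -/
noncomputable def sg (q : ℕ) [hK : Fact (Fintype.card K = q ^ 2)] (a b : Fin N → K) (c : K) :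
    SU N K q :=
  haveI := Classical.propDecidable (hermForm N K q a a = 0 ∧ hermForm N K q b a = 0 ∧
    c + c ^ q + hermForm N K q b b = 0)
  if h : hermForm N K q a a = 0 ∧ hermForm N K q b a = 0 ∧ c + c ^ q + hermForm N K q b b = 0
  then sgG h.1 h.2.1 h.2.2 else 1

theorem sg_eq {a b : Fin N → K} (ha : hermForm N K q a a = 0) (hba : hermForm N K q b a = 0)
    {c : K} (hc : c + c ^ q + hermForm N K q b b = 0) : sg q a b c = sgG ha hba hc := by
  unfold sg
  rw [dif_pos ⟨ha, hba, hc⟩]

theorem sg_mulVec {a b : Fin N → K} (ha : hermForm N K q a a = 0) (hba : hermForm N K q b a = 0)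
    {c : K} (hc : c + c ^ q + hermForm N K q b b = 0) (v : Fin N → K) :
    mt (sg q a b c) *ᵥ v = v + hermForm N K q v a • (b + c • a) - hermForm N K q v b • a := by
  rw [sg_eq ha hba hc, sgG_mulVec]

/-- conjugating a Siegel element. -/
theorem conj_sg (g : SU N K q) {a b : Fin N → K} (ha : hermForm N K q a a = 0)
    (hba : hermForm N K q b a = 0) {c : K} (hc : c + c ^ q + hermForm N K q b b = 0) :
    g * sg q a b c * g⁻¹ = sg q (mt g *ᵥ a) (mt g *ᵥ b) c := by
  have ha' : hermForm N K q (mt g *ᵥ a) (mt g *ᵥ a) = 0 := by rw [herm_mt, ha]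
  have hba' : hermForm N K q (mt g *ᵥ b) (mt g *ᵥ a) = 0 := by rw [herm_mt, hba]
  have hc' : c + c ^ q + hermForm N K q (mt g *ᵥ b) (mt g *ᵥ b) = 0 := by rw [herm_mt, hc]
  apply ext_mulVec
  intro v
  rw [mt_mul_mulVec, mt_mul_mulVec, sg_mulVec ha hba hc, sg_mulVec ha' hba' hc', mulVec_sub,
    mulVec_add, mt_inv_mulVec, mulVec_smul, mulVec_smul, mulVec_add, mulVec_smul]
  have e1 : hermForm N K q (mt g⁻¹ *ᵥ v) a = hermForm N K q v (mt g *ᵥ a) := by
    conv_rhs => rw [← mt_inv_mulVec g v, herm_mt]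
  have e2 : hermForm N K q (mt g⁻¹ *ᵥ v) b = hermForm N K q v (mt g *ᵥ b) := by
    conv_rhs => rw [← mt_inv_mulVec g v, herm_mt]
  rw [e1, e2]

/-- the admissibility of the parameters of a product. -/
theorem sg_mul_aux {b b' : Fin N → K} {c c' : K} (hc : c + c ^ q + hermForm N K q b b = 0)
    (hc' : c' + c' ^ q + hermForm N K q b' b' = 0) :
    (c + c' - hermForm N K q b' b) + (c + c' - hermForm N K q b' b) ^ q
      + hermForm N K q (b + b') (b + b') = 0 := by
  rw [b_sub, b_add, ← h_swap b b', hermForm_add_left, h_add_right, h_add_right]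
  linear_combination hc + hc'

/-- the cocycle of the Siegel elements at `a`. -/
theorem sg_mul {a b b' : Fin N → K} (ha : hermForm N K q a a = 0) (hba : hermForm N K q b a = 0)
    (hb'a : hermForm N K q b' a = 0) {c c' : K} (hc : c + c ^ q + hermForm N K q b b = 0)
    (hc' : c' + c' ^ q + hermForm N K q b' b' = 0) :
    sg q a b c * sg q a b' c' = sg q a (b + b') (c + c' - hermForm N K q b' b) := by
  have hbb'a : hermForm N K q (b + b') a = 0 := by rw [hermForm_add_left, hba, hb'a, add_zero]
  have hab : hermForm N K q a b = 0 := h_eq_zero_of_swap hba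
  apply ext_mulVec
  intro v
  rw [mt_mul_mulVec, sg_mulVec ha hb'a hc', sg_mulVec ha hba hc,
    sg_mulVec ha hbb'a (sg_mul_aux hc hc')]
  simp only [hermForm_add_left, hermForm_sub_left, hermForm_smul_left, h_add_right, ha, hb'a, hab,
    mul_zero, add_zero, sub_zero]
  module

theorem sg_zero {a : Fin N → K} (ha : hermForm N K q a a = 0) : sg q a (0 : Fin N → K) 0 = 1 := by
  have h1 : hermForm N K q (0 : Fin N → K) a = 0 := hermForm_zero_left a
  have h2 : (0 : K) + 0 ^ q + hermForm N K q (0 : Fin N → K) 0 = 0 := by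
    rw [hermForm_zero_left, b_zero, add_zero, add_zero]
  apply ext_mulVec
  intro v
  rw [sg_mulVec ha h1 h2, mt_one_mulVec, h_zero_right]
  module

/-- the central Siegel elements are the transvections. -/
theorem sg_zero_mid {a : Fin N → K} (ha : hermForm N K q a a = 0) {s : K} (hs : s ^ q + s = 0) :
    sg q a (0 : Fin N → K) s = TU q a s := by
  have h1 : hermForm N K q (0 : Fin N → K) a = 0 := hermForm_zero_left a
  have h2 : s + s ^ q + hermForm N K q (0 : Fin N → K) 0 = 0 := by
    rw [hermForm_zero_left, add_zero, add_comm]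
    exact hs
  apply ext_mulVec
  intro v
  rw [sg_mulVec ha h1 h2, TU_mulVec ha hs, h_zero_right]
  module

theorem sg_self_smul {a : Fin N → K} (ha : hermForm N K q a a = 0) (t : K) :
    sg q a (t • a) 0 = TU q a (t - t ^ q) := by
  have h1 : hermForm N K q (t • a) a = 0 := by rw [hermForm_smul_left, ha, mul_zero]
  have h2 : (0 : K) + 0 ^ q + hermForm N K q (t • a) (t • a) = 0 := by
    rw [hermForm_smul_left, hermForm_smul_right, ha, b_zero, mul_zero, mul_zero, add_zero, add_zero]
  apply ext_mulVec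
  intro v
  rw [sg_mulVec ha h1 h2, TU_mulVec ha (tz_im t), hermForm_smul_right]
  module

theorem sg_smul_left {a b : Fin N → K} (ha : hermForm N K q a a = 0)
    (hba : hermForm N K q b a = 0) {c : K} (hc : c + c ^ q + hermForm N K q b b = 0) (t : K) :
    sg q (t • a) b c = sg q a (t ^ q • b) (c * (t * t ^ q)) := by
  have h1 : hermForm N K q (t • a) (t • a) = 0 := by
    rw [hermForm_smul_left, hermForm_smul_right, ha, mul_zero, mul_zero]
  have h2 : hermForm N K q b (t • a) = 0 := by rw [hermForm_smul_right, hba, mul_zero]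
  have h3 : hermForm N K q (t ^ q • b) a = 0 := by rw [hermForm_smul_left, hba, mul_zero]
  have h4 : c * (t * t ^ q) + (c * (t * t ^ q)) ^ q + hermForm N K q (t ^ q • b) (t ^ q • b) = 0 := by
    rw [hermForm_smul_left, hermForm_smul_right, mul_pow, mul_pow, bb]
    linear_combination (t * t ^ q) * hc
  apply ext_mulVec
  intro v
  rw [sg_mulVec h1 h2 hc, sg_mulVec ha h3 h4, hermForm_smul_right, hermForm_smul_right, bb]
  module

theorem sg_symm {a a' : Fin N → K} (ha : hermForm N K q a a = 0)
    (ha' : hermForm N K q a' a' = 0) (haa' : hermForm N K q a a' = 0) :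
    sg q a' a 0 = sg q a (-a') 0 := by
  have ha'a : hermForm N K q a' a = 0 := h_eq_zero_of_swap haa'
  have h1 : (0 : K) + 0 ^ q + hermForm N K q a a = 0 := by rw [ha, b_zero, add_zero, add_zero]
  have h2 : hermForm N K q (-a') a = 0 := by rw [h_neg_left, ha'a, neg_zero]
  have h3 : (0 : K) + 0 ^ q + hermForm N K q (-a') (-a') = 0 := by
    rw [h_neg_left, h_neg_right, ha', b_zero, neg_zero, neg_zero, add_zero, add_zero]
  apply ext_mulVec
  intro v
  rw [sg_mulVec ha' haa' h1, sg_mulVec ha h2 h3, h_neg_right]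
  module

/-- a Siegel element fixes the vectors orthogonal to its parameters. -/
theorem sg_fix {a b x : Fin N → K} (ha : hermForm N K q a a = 0) (hba : hermForm N K q b a = 0)
    {c : K} (hc : c + c ^ q + hermForm N K q b b = 0) (hxa : hermForm N K q x a = 0)
    (hxb : hermForm N K q x b = 0) : mt (sg q a b c) *ᵥ x = x := by
  rw [sg_mulVec ha hba hc, hxa, hxb, zero_smul, zero_smul, add_zero, sub_zero]

/-- the admissibility of a Siegel element with parameters in a totally isotropic pair. -/
theorem adm_zero {b : Fin N → K} (hbb : hermForm N K q b b = 0) :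
    (0 : K) + 0 ^ q + hermForm N K q b b = 0 := by
  rw [hbb, b_zero, add_zero, add_zero]

/-- intersecting with the orthogonal of a vector lowers the dimension by at most one. -/
theorem finrank_le_cutS (W : Submodule K (Fin N → K)) (w : Fin N → K) :
    finrank K W ≤ finrank K (cutS q W w) + 1 := by
  by_cases hall : ∀ x ∈ W, hermForm N K q x w = 0
  · have : W ≤ cutS q W w := fun x hx => ⟨hx, hall x hx⟩
    have := Submodule.finrank_mono this
    omega
  · push Not at hall
    obtain ⟨x₀, hx₀, hne⟩ := hall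
    have hle : W ≤ cutS q W w ⊔ Submodule.span K {x₀} := by
      intro x hx
      have e : x = (x - (hermForm N K q x w / hermForm N K q x₀ w) • x₀)
          + (hermForm N K q x w / hermForm N K q x₀ w) • x₀ := by abel
      rw [e]
      apply Submodule.add_mem_sup
      · refine ⟨W.sub_mem hx (W.smul_mem _ hx₀), ?_⟩
        rw [hermForm_sub_left, hermForm_smul_left, div_mul_cancel₀ _ hne, sub_self]
      · exact Submodule.smul_mem _ _ (Submodule.mem_span_singleton_self x₀)
    have h1 := Submodule.finrank_mono hle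
    have h2 := Submodule.finrank_add_le_finrank_add_finrank (cutS q W w) (Submodule.span K {x₀})
    have h3 : finrank K ↥(Submodule.span K {x₀}) ≤ 1 := by
      by_cases hx0 : x₀ = 0
      · rw [hx0, Submodule.span_zero_singleton, finrank_bot]
        omega
      · rw [finrank_span_singleton hx0]
    omega

theorem finrank_span_pair_le (x y : Fin N → K) : finrank K ↥(Submodule.span K {x, y}) ≤ 2 := by
  classical
  have := finrank_span_finset_le_card (R := K) ({x, y} : Finset (Fin N → K))
  rw [Finset.coe_insert, Finset.coe_singleton] at this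
  exact this.trans Finset.card_le_two

end Cfsg.Agent.Helper7.SUPair
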