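import Mathlib
import Cfsg.Agent.Helper7.SUPairA

set_option autoImplicit false
set_option linter.unusedSectionVars false

/-! Overgroups of the stabiliser of a pair of complementary totally isotropic subspaces in the
special unitary group: from one extra Siegel element to the root groups (helper7). -/

namespace Cfsg.Agent.Helper7.SUPair

open Matrix Module Cfsg Cfsg.Agent.Helper7.Herm Cfsg.Agent.Helper8.GUOrder Cfsg.Agent.Helper8.SURoot
  Cfsg.Agent.Helper8.AutSU Cfsg.Agent.Helper7.SUMax Cfsg.Agent.Helper7.SUNd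
  Cfsg.Agent.Helper8.MaxSingular

variable {K : Type*} [Field K] [Fintype K] {q N : ℕ} [hK : Fact (Fintype.card K = q ^ 2)]

variable {E F : Submodule K (Fin N → K)} (hd : LPair q E F) (H : Subgroup (SU N K q))
  (hPM : ∀ A : SU N K q, (∀ x ∈ E, mt A *ᵥ x ∈ E) → (∀ x ∈ F, mt A *ᵥ x ∈ F) → A ∈ H)

include hd hPM in
theorem sg_pair_mem {a b : Fin N → K} (ha : a ∈ E) (hb : b ∈ F)
    (hba : hermForm N K q b a = 0) : sg q a b 0 ∈ H := by
  have haa := hd.tsE a ha a ha
  have hbb := hd.tsF b hb b hb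
  apply hPM
  · intro x hx
    rw [sg_mulVec haa hba (adm_zero hbb), hd.tsE x hx a ha, zero_smul, add_zero]
    exact E.sub_mem hx (E.smul_mem _ ha)
  · intro x hx
    rw [sg_mulVec haa hba (adm_zero hbb), hd.tsF x hx b hb, zero_smul, sub_zero, add_zero]
    exact F.add_mem hx (F.smul_mem _ hb)

include hd in
/-- the vectors `e` of `E` with all `sg a (t • e) 0` in `H`. -/
def ZY {a : Fin N → K} (ha : a ∈ E) : Submodule K (Fin N → K) where
  carrier := {e | e ∈ E ∧ ∀ t : K, sg q a (t • e) 0 ∈ H}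
  add_mem' := by
    rintro x y ⟨hx, hx'⟩ ⟨hy, hy'⟩
    refine ⟨E.add_mem hx hy, fun t => ?_⟩
    have h1 := sg_mul (hd.tsE a ha a ha) (hd.tsE _ (E.smul_mem t hx) a ha)
      (hd.tsE _ (E.smul_mem t hy) a ha)
      (adm_zero (hd.tsE _ (E.smul_mem t hx) _ (E.smul_mem t hx)))
      (adm_zero (hd.tsE _ (E.smul_mem t hy) _ (E.smul_mem t hy)))
    rw [hd.tsE _ (E.smul_mem t hy) _ (E.smul_mem t hx), add_zero, sub_zero, ← smul_add] at h1
    rw [← h1]
    exact H.mul_mem (hx' t) (hy' t)
  zero_mem' := by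
    refine ⟨E.zero_mem, fun t => ?_⟩
    rw [smul_zero, sg_zero (hd.tsE a ha a ha)]
    exact H.one_mem
  smul_mem' := by
    rintro t x ⟨hx, hx'⟩
    refine ⟨E.smul_mem t hx, fun c => ?_⟩
    rw [smul_smul]
    exact hx' _

include hd hPM in
/-- all transvections at `a`, from one Siegel element inside `E`. -/
theorem T_mem_of_extra {a y : Fin N → K} (ha : a ∈ E) (hy : y ∈ E)
    (hyn : y ∉ Submodule.span K {a}) {c : K} (hc : c + c ^ q + hermForm N K q y y = 0)
    (hs : sg q a y c ∈ H) : ∀ s : K, s ^ q + s = 0 → TU q a s ∈ H := by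
  intro s hs0
  have haa := hd.tsE a ha a ha
  have hya := hd.tsE y hy a ha
  obtain ⟨θ, hθ⟩ := exists_trace (F := K) (q := q) (c := 1) (one_pow q)
  obtain ⟨ν, hν⟩ : ∃ ν : K, ν = s * θ := ⟨_, rfl⟩
  obtain ⟨b, hb, hperp, hyb⟩ := hd.exists_dual_eq
    ((Submodule.span_singleton_le_iff_mem a E).mpr ha) hy hyn (-ν)
  have hab : hermForm N K q a b = 0 := hperp a (Submodule.mem_span_singleton_self a)
  have hba : hermForm N K q b a = 0 := h_eq_zero_of_swap hab
  have hbb := hd.tsF b hb b hb
  have hp : sg q a b 0 ∈ H := sg_pair_mem hd H hPM ha hb hba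
  have hpa : mt (sg q a b 0) *ᵥ a = a := sg_fix haa hba (adm_zero hbb) haa hab
  have hpy : mt (sg q a b 0) *ᵥ y = y + ν • a := by
    rw [sg_mulVec haa hba (adm_zero hbb), hya, zero_smul, add_zero, hyb, neg_smul, sub_neg_eq_add]
  have h1 : sg q a (y + ν • a) c ∈ H := by
    have := conj_sg (sg q a b 0) haa hya hc
    rw [hpa, hpy] at this
    rw [← this]
    exact H.mul_mem (H.mul_mem hp hs) (H.inv_mem hp)
  have hνa : hermForm N K q (ν • a) a = 0 := by rw [hermForm_smul_left, haa, mul_zero]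
  have hνν : hermForm N K q (ν • a) (ν • a) = 0 := by
    rw [hermForm_smul_left, hermForm_smul_right, haa, mul_zero, mul_zero]
  have h2 := sg_mul haa hya hνa hc (adm_zero hνν)
  have hνy : hermForm N K q (ν • a) y = 0 := by
    rw [hermForm_smul_left, hd.tsE a ha y hy, mul_zero]
  rw [hνy, add_zero, sub_zero, sg_self_smul haa] at h2
  have h3 : TU q a (ν - ν ^ q) ∈ H := by
    have := H.mul_mem (H.inv_mem hs) h1
    rwa [← h2, inv_mul_cancel_left] at this
  have : ν - ν ^ q = s := by
    rw [hν, mul_pow]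
    linear_combination s * hθ - θ ^ q * hs0
  rwa [this] at h3

include hd hPM in
/-- membership in `ZY` of the vectors of `E` in general position. -/
theorem mem_ZY_of_extra {a y a₃ : Fin N → K} (ha : a ∈ E) (hy : y ∈ E) {c : K}
    (hc : c + c ^ q + hermForm N K q y y = 0) (hs : sg q a y c ∈ H)
    (ha₃ : a₃ ∈ E) (hn : y ∉ Submodule.span K {a, a₃}) : a₃ ∈ ZY hd H ha := by
  have haa := hd.tsE a ha a ha
  have hya := hd.tsE y hy a ha
  have hA : Submodule.span K {a, a₃} ≤ E := by
    rw [Submodule.span_le]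
    rintro x (rfl | rfl)
    · exact ha
    · exact ha₃
  refine ⟨ha₃, fun t => ?_⟩
  obtain ⟨b, hb, hperp, hyb⟩ := hd.exists_dual_eq hA hy hn (-t)
  have hab : hermForm N K q a b = 0 := hperp a (Submodule.subset_span (Set.mem_insert _ _))
  have ha₃b : hermForm N K q a₃ b = 0 :=
    hperp a₃ (Submodule.subset_span (Set.mem_insert_of_mem _ rfl))
  have hba₃ : hermForm N K q b a₃ = 0 := h_eq_zero_of_swap ha₃b
  have hbb := hd.tsF b hb b hb
  have ha₃a₃ := hd.tsE a₃ ha₃ a₃ ha₃
  have hp : sg q a₃ b 0 ∈ H := sg_pair_mem hd H hPM ha₃ hb hba₃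
  have hpa : mt (sg q a₃ b 0) *ᵥ a = a :=
    sg_fix ha₃a₃ hba₃ (adm_zero hbb) (hd.tsE a ha a₃ ha₃) hab
  have hpy : mt (sg q a₃ b 0) *ᵥ y = y + t • a₃ := by
    rw [sg_mulVec ha₃a₃ hba₃ (adm_zero hbb), hd.tsE y hy a₃ ha₃, zero_smul, add_zero, hyb, neg_smul,
      sub_neg_eq_add]
  have h1 : sg q a (y + t • a₃) c ∈ H := by
    have := conj_sg (sg q a₃ b 0) haa hya hc
    rw [hpa, hpy] at this
    rw [← this]
    exact H.mul_mem (H.mul_mem hp hs) (H.inv_mem hp)
  have hta : hermForm N K q (t • a₃) a = 0 := hd.tsE _ (E.smul_mem t ha₃) a ha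
  have htt : hermForm N K q (t • a₃) (t • a₃) = 0 :=
    hd.tsE _ (E.smul_mem t ha₃) _ (E.smul_mem t ha₃)
  have h2 := sg_mul haa hya hta hc (adm_zero htt)
  rw [hd.tsE _ (E.smul_mem t ha₃) y hy, add_zero, sub_zero] at h2
  have := H.mul_mem (H.inv_mem hs) h1
  rwa [← h2, inv_mul_cancel_left] at this

include hd hPM in
/-- `ZY` is everything. -/
theorem ZY_eq_top (h3 : 3 ≤ finrank K E) {a y : Fin N → K} (ha : a ∈ E) (hy : y ∈ E)
    (hyn : y ∉ Submodule.span K {a}) {c : K} (hc : c + c ^ q + hermForm N K q y y = 0)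
    (hs : sg q a y c ∈ H) : ∀ a₂ ∈ E, a₂ ∈ ZY hd H ha := by
  have hgen : ∀ x ∈ E, x ∉ Submodule.span K {a, y} → x ∈ ZY hd H ha := by
    intro x hx hxn
    apply mem_ZY_of_extra hd H hPM ha hy hc hs hx
    intro h
    obtain ⟨α, β, hαβ⟩ := Submodule.mem_span_pair.mp h
    have hβ : β ≠ 0 := by
      rintro rfl
      apply hyn
      rw [zero_smul, add_zero] at hαβ
      rw [← hαβ]
      exact Submodule.smul_mem _ _ (Submodule.mem_span_singleton_self a)
    apply hxn
    have : x = β⁻¹ • (y - α • a) := by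
      rw [← hαβ, add_sub_cancel_left, smul_smul, inv_mul_cancel₀ hβ, one_smul]
    rw [this]
    apply Submodule.smul_mem
    apply Submodule.sub_mem
    · exact Submodule.subset_span (Set.mem_insert_of_mem _ rfl)
    · exact Submodule.smul_mem _ _ (Submodule.subset_span (Set.mem_insert _ _))
  obtain ⟨a₃, ha₃, ha₃n⟩ : ∃ a₃ ∈ E, a₃ ∉ Submodule.span K {a, y} := by
    apply exists_mem_not_mem
    have h4 := finrank_span_pair_le a y
    omega
  have h5 := hgen a₃ ha₃ ha₃n
  intro a₂ ha₂
  by_cases hmem : a₂ ∈ Submodule.span K {a, y}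
  · have h6 : a₂ + a₃ ∈ ZY hd H ha := by
      apply hgen _ (E.add_mem ha₂ ha₃)
      intro h
      apply ha₃n
      have := Submodule.sub_mem _ h hmem
      rwa [add_sub_cancel_left] at this
    have := (ZY hd H ha).sub_mem h6 h5
    rwa [add_sub_cancel_right] at this
  · exact hgen a₂ ha₂ hmem

include hd hPM in
/-- the root group and the Siegel elements at `a`, from one Siegel element inside `E`. -/
theorem full_at (h3 : 3 ≤ finrank K E) {a y : Fin N → K} (ha : a ∈ E) (hy : y ∈ E)
    (hyn : y ∉ Submodule.span K {a}) {c : K} (hc : c + c ^ q + hermForm N K q y y = 0)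
    (hs : sg q a y c ∈ H) :
    (∀ s : K, s ^ q + s = 0 → TU q a s ∈ H) ∧
      ∀ (b : Fin N → K) (c' : K), hermForm N K q b a = 0 →
        c' + c' ^ q + hermForm N K q b b = 0 → sg q a b c' ∈ H := by
  have hT := T_mem_of_extra hd H hPM ha hy hyn hc hs
  refine ⟨hT, fun b c' hba hc' => ?_⟩
  have haa := hd.tsE a ha a ha
  obtain ⟨bE, hbE, bF, hbF, rfl⟩ := hd.exists_dec b
  have h1 : hermForm N K q bE a = 0 := hd.tsE bE hbE a ha
  have h4 : hermForm N K q bF a = 0 := by
    rw [hermForm_add_left, h1, zero_add] at hba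
    exact hba
  have hEE := hd.tsE bE hbE bE hbE
  have hFF := hd.tsF bF hbF bF hbF
  obtain ⟨s', hs'⟩ : ∃ s' : K, s' = c' + hermForm N K q bF bE := ⟨_, rfl⟩
  have hs'tz : s' ^ q + s' = 0 := by
    rw [hermForm_add_left, h_add_right, h_add_right, hEE, hFF] at hc'
    rw [hs', b_add, ← h_swap bE bF]
    linear_combination hc'
  have h0a : hermForm N K q (0 : Fin N → K) a = 0 := hermForm_zero_left a
  have hadm0 : s' + s' ^ q + hermForm N K q (0 : Fin N → K) 0 = 0 := by
    rw [hermForm_zero_left, add_zero, add_comm]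
    exact hs'tz
  have h5 := sg_mul haa h1 h4 (adm_zero hEE) (adm_zero hFF)
  have h6 := sg_mul haa hba h0a (sg_mul_aux (adm_zero hEE) (adm_zero hFF)) hadm0
  have e1 : (0 : K) + 0 - hermForm N K q bF bE + s' - hermForm N K q (0 : Fin N → K) (bE + bF)
      = c' := by
    rw [hermForm_zero_left, hs']
    ring
  rw [e1, add_zero (bE + bF), sg_zero_mid haa hs'tz, ← h5] at h6
  rw [← h6]
  apply H.mul_mem _ (hT s' hs'tz)
  apply H.mul_mem
  · have := (ZY_eq_top hd H hPM h3 ha hy hyn hc hs bE hbE).2 1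
    rwa [one_smul] at this
  · exact sg_pair_mem hd H hPM ha hbF h4

include hd hPM in
/-- **one extra Siegel element at a vector of `E` gives all root groups of `E`.** -/
theorem full_all (h3 : 3 ≤ finrank K E) {a z : Fin N → K} (ha : a ∈ E) (ha0 : a ≠ 0)
    (hza : hermForm N K q z a = 0) {c : K} (hc : c + c ^ q + hermForm N K q z z = 0)
    (hz : sg q a z c ∈ H) (hzn : z ∉ F ⊔ Submodule.span K {a}) :
    ∀ a' ∈ E, (∀ s : K, s ^ q + s = 0 → TU q a' s ∈ H) ∧
      ∀ (b : Fin N → K) (c' : K), hermForm N K q b a' = 0 →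
        c' + c' ^ q + hermForm N K q b b = 0 → sg q a' b c' ∈ H := by
  have haa := hd.tsE a ha a ha
  obtain ⟨zE, hzE, zF, hzF, rfl⟩ := hd.exists_dec z
  have h1 : hermForm N K q zE a = 0 := hd.tsE zE hzE a ha
  have h4 : hermForm N K q zF a = 0 := by
    rw [hermForm_add_left, h1, zero_add] at hza
    exact hza
  have hzEn : zE ∉ Submodule.span K {a} := by
    intro h
    apply hzn
    rw [add_comm]
    exact Submodule.add_mem_sup hzF h
  -- a Siegel element inside `E`
  have hnF : -zF ∈ F := F.neg_mem hzF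
  have h4' : hermForm N K q (-zF) a = 0 := by rw [h_neg_left, h4, neg_zero]
  have hFF := hd.tsF _ hnF _ hnF
  have h5 := sg_mul haa hza h4' hc (adm_zero hFF)
  have h5adm := sg_mul_aux hc (adm_zero hFF)
  rw [add_neg_cancel_right] at h5 h5adm
  have hs : sg q a zE (c + 0 - hermForm N K q (-zF) (zE + zF)) ∈ H := by
    rw [← h5]
    exact H.mul_mem hz (sg_pair_mem hd H hPM ha hnF h4')
  have hfa := full_at hd H hPM h3 ha hzE hzEn h5adm hs
  intro a' ha'
  have ha'a' := hd.tsE a' ha' a' ha'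
  by_cases hmem : a' ∈ Submodule.span K {a}
  · obtain ⟨t, rfl⟩ := Submodule.mem_span_singleton.mp hmem
    refine ⟨fun s hs0 => ?_, fun b c' hba hc' => ?_⟩
    · rw [TU_smul haa hs0]
      exact hfa.1 _ (tz_mul_fixed hs0 (norm_fixed t))
    · by_cases ht : t = 0
      · have : sg q (t • a) b c' = 1 := by
          apply ext_mulVec
          intro v
          rw [sg_mulVec ha'a' hba hc', mt_one_mulVec, ht, zero_smul, h_zero_right]
          module
        rw [this]
        exact H.one_mem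
      · have hba' : hermForm N K q b a = 0 := by
          rw [hermForm_smul_right] at hba
          rcases mul_eq_zero.mp hba with h | h
          · exact absurd (pow_eq_zero_iff (n := q) (by
              have := one_le_q hK.out
              omega) |>.mp h) ht
          · exact h
        rw [sg_smul_left haa hba' hc']
        apply hfa.2
        · rw [hermForm_smul_left, hba', mul_zero]
        · rw [hermForm_smul_left, hermForm_smul_right, mul_pow, mul_pow, bb]
          linear_combination (t * t ^ q) * hc'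
  · have hane : a ∉ Submodule.span K {a'} := by
      intro h
      obtain ⟨t, ht⟩ := Submodule.mem_span_singleton.mp h
      have ht0 : t ≠ 0 := by
        rintro rfl
        rw [zero_smul] at ht
        exact ha0 ht.symm
      apply hmem
      have : a' = t⁻¹ • a := by rw [← ht, smul_smul, inv_mul_cancel₀ ht0, one_smul]
      rw [this]
      exact Submodule.smul_mem _ _ (Submodule.mem_span_singleton_self a)
    have hs' : sg q a' a 0 ∈ H := by
      rw [sg_symm haa ha'a' (hd.tsE a ha a' ha')]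
      apply hfa.2
      · rw [h_neg_left, hd.tsE a' ha' a ha, neg_zero]
      · exact adm_zero (hd.tsE _ (E.neg_mem ha') _ (E.neg_mem ha'))
    exact full_at hd H hPM h3 ha' ha hane (adm_zero haa) hs'

end Cfsg.Agent.Helper7.SUPair
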