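import Mathlib
import Cfsg.Agent.Helper7.SUPairB

set_option autoImplicit false
set_option linter.unusedSectionVars false

/-! Overgroups of the stabiliser of a pair of complementary totally isotropic subspaces in the
special unitary group: the whole group from the root groups of a maximal totally isotropic
subspace (helper7). -/

namespace Cfsg.Agent.Helper7.SUPair

open Matrix Module Cfsg Cfsg.Agent.Helper7.Herm Cfsg.Agent.Helper8.GUOrder Cfsg.Agent.Helper8.SURoot
  Cfsg.Agent.Helper8.AutSU Cfsg.Agent.Helper7.SUGen Cfsg.Agent.Helper7.SUMax Cfsg.Agent.Helper7.SUNd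
  Cfsg.Agent.Helper8.MaxSingular

variable {K : Type*} [Field K] [Fintype K] {q N : ℕ} [hK : Fact (Fintype.card K = q ^ 2)]

/-- the root groups and Siegel elements of a totally isotropic subspace `W`, together with one
root group at a vector not orthogonal to `W`, generate the special unitary group. -/
theorem top_of_roots (hN : 2 ≤ N) (h32 : ¬ (N = 3 ∧ q = 2)) (W : Submodule K (Fin N → K))
    (hW : ∀ u ∈ W, ∀ v ∈ W, hermForm N K q u v = 0) (M : Subgroup (SU N K q))
    (h1 : ∀ v : Fin N → K, hermForm N K q v v = 0 → (∀ w ∈ W, hermForm N K q w v = 0) →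
      ∀ s : K, s ^ q + s = 0 → TU q v s ∈ M)
    (h2 : ∀ a ∈ W, ∀ (b : Fin N → K) (c : K), hermForm N K q b a = 0 →
      c + c ^ q + hermForm N K q b b = 0 → sg q a b c ∈ M)
    {u w₀ : Fin N → K} (huu : hermForm N K q u u = 0)
    (hu : ∀ s : K, s ^ q + s = 0 → TU q u s ∈ M) (hw₀ : w₀ ∈ W)
    (huw₀ : hermForm N K q w₀ u ≠ 0) : M = ⊤ := by
  have hSinv : ∀ A : SU N K q, A ∈ M → ∀ v : Fin N → K, hermForm N K q v v = 0 →
      (∀ s : K, s ^ q + s = 0 → TU q v s ∈ M) →
      ∀ s : K, s ^ q + s = 0 → TU q (mt A *ᵥ v) s ∈ M := by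
    intro A hA v hvv hv s hs
    rw [← conj_TU A hvv hs]
    exact M.mul_mem (M.mul_mem hA (hv s hs)) (M.inv_mem hA)
  have hall : ∀ y : Fin N → K, hermForm N K q y y = 0 →
      ∀ s : K, s ^ q + s = 0 → TU q y s ∈ M := by
    intro y hyy
    by_cases hy : ∀ w ∈ W, hermForm N K q w y = 0
    · exact h1 y hyy hy
    · push Not at hy
      obtain ⟨w₁, hw₁, hyw₁⟩ := hy
      -- a vector of `W` not orthogonal to both `u` and `y`
      have ha : ∃ a ∈ W, hermForm N K q a u ≠ 0 ∧ hermForm N K q a y ≠ 0 := by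
        by_cases h1 : hermForm N K q w₀ y ≠ 0
        · exact ⟨w₀, hw₀, huw₀, h1⟩
        · push Not at h1
          by_cases h2 : hermForm N K q w₁ u ≠ 0
          · exact ⟨w₁, hw₁, h2, hyw₁⟩
          · push Not at h2
            refine ⟨w₀ + w₁, W.add_mem hw₀ hw₁, ?_, ?_⟩
            · rw [hermForm_add_left, h2, add_zero]; exact huw₀
            · rw [hermForm_add_left, h1, zero_add]; exact hyw₁
      obtain ⟨a, haW, hau, hay⟩ := ha
      have haa : hermForm N K q a a = 0 := hW a haW a haW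
      have hua : hermForm N K q u a ≠ 0 := herm_swap_ne_zero hau
      have hya : hermForm N K q y a ≠ 0 := herm_swap_ne_zero hay
      obtain ⟨l, hl⟩ : ∃ l : K, l = hermForm N K q u a / hermForm N K q y a := ⟨_, rfl⟩
      have hl0 : l ≠ 0 := by rw [hl]; exact div_ne_zero hua hya
      have hly : hermForm N K q (l • y) (l • y) = 0 := by
        rw [hermForm_smul_left, hermForm_smul_right, hyy, mul_zero, mul_zero]
      have hlya : hermForm N K q (l • y) a = hermForm N K q u a := by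
        rw [hermForm_smul_left, hl, div_mul_cancel₀ _ hya]
      obtain ⟨b, c, hba, hc, hs⟩ := exists_sgG haa huu hly hua hlya
      have hsM : sgG haa hba hc ∈ M := by
        rw [← sg_eq haa hba hc]
        exact h2 a haW b c hba hc
      have h1' := hSinv _ hsM u huu hu
      rw [hs] at h1'
      intro s hs'
      have hfix : (l * l ^ q) ^ q = l * l ^ q := by rw [mul_pow, bb]; ring
      have hll0 : l * l ^ q ≠ 0 := mul_ne_zero hl0 (pow_ne_zero q hl0)
      have hs'' : (s / (l * l ^ q)) ^ q + s / (l * l ^ q) = 0 := by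
        rw [div_pow, hfix, ← add_div, hs', zero_div]
      have h2' := h1' _ hs''
      rw [TU_smul hyy hs'', div_mul_cancel₀ _ hll0] at h2'
      exact h2'
  rw [eq_top_iff, ← Tsub_eq_top N hN h32]
  unfold Tsub
  rw [Subgroup.closure_le]
  rintro g ⟨p, s, hp, hs, rfl⟩
  exact hall p hp s hs

variable {E F : Submodule K (Fin N → K)} (hd : LPair q E F) (H : Subgroup (SU N K q))
  (hPM : ∀ A : SU N K q, (∀ x ∈ E, mt A *ᵥ x ∈ E) → (∀ x ∈ F, mt A *ᵥ x ∈ F) → A ∈ H)

include hd hPM in
/-- **the good case**: an extra Siegel element at a vector of `E` and an element mapping `E` into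
`F` give the whole group. -/
theorem top_of_extra (hN : 2 ≤ N) (h32 : ¬ (N = 3 ∧ q = 2)) (h3 : 3 ≤ finrank K E)
    {a z : Fin N → K} (ha : a ∈ E) (ha0 : a ≠ 0) (hza : hermForm N K q z a = 0) {c : K}
    (hc : c + c ^ q + hermForm N K q z z = 0) (hz : sg q a z c ∈ H)
    (hzn : z ∉ F ⊔ Submodule.span K {a}) {w₀ : SU N K q} (hw₀ : w₀ ∈ H)
    (hwE : ∀ x ∈ E, mt w₀ *ᵥ x ∈ F) : H = ⊤ := by
  have hfa := full_all hd H hPM h3 ha ha0 hza hc hz hzn
  have haa := hd.tsE a ha a ha
  have hy0 : mt w₀ *ᵥ a ≠ 0 := mulVec_ne_zero' w₀ ha0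
  obtain ⟨w, hw, hyw⟩ : ∃ w ∈ E, hermForm N K q w (mt w₀ *ᵥ a) ≠ 0 := by
    by_contra hcon
    push Not at hcon
    apply hy0
    exact hd.eq_zero_of_mem_of_mem (hd.mem_E_of_perp hcon) (hwE a ha)
  apply top_of_roots hN h32 E hd.tsE H (fun v _ hv => (hfa v (hd.mem_E_of_perp hv)).1)
    (fun a' ha' => (hfa a' ha').2) (by rw [herm_mt]; exact haa) _ hw hyw
  intro s hs
  rw [← conj_TU w₀ haa hs]
  exact H.mul_mem (H.mul_mem hw₀ ((hfa a ha).1 s hs)) (H.inv_mem hw₀)

end Cfsg.Agent.Helper7.SUPair
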