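import Mathlib
import Cfsg.Agent.Helper7.SUPairC

set_option autoImplicit false
set_option linter.unusedSectionVars false

/-! Overgroups of the stabiliser of a pair of complementary totally isotropic subspaces in the
special unitary group: without extra Siegel elements the overgroup preserves the pair
(helper7). -/

namespace Cfsg.Agent.Helper7.SUPair

open Matrix Module Cfsg Cfsg.Agent.Helper7.Herm Cfsg.Agent.Helper8.GUOrder Cfsg.Agent.Helper8.SURoot
  Cfsg.Agent.Helper8.AutSU Cfsg.Agent.Helper7.SUGen Cfsg.Agent.Helper7.SUMax Cfsg.Agent.Helper7.SUNd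
  Cfsg.Agent.Helper8.MaxSingular

variable {K : Type*} [Field K] [Fintype K] {q N : ℕ} [hK : Fact (Fintype.card K = q ^ 2)]

/-- a matrix of `SU` as a linear equivalence. -/
noncomputable def linS (g : SU N K q) : (Fin N → K) ≃ₗ[K] (Fin N → K) :=
  LinearEquiv.ofLinear (Matrix.mulVecLin (mt g)) (Matrix.mulVecLin (mt g⁻¹))
    (by
      apply LinearMap.ext
      intro x
      exact mt_inv_mulVec g x)
    (by
      apply LinearMap.ext
      intro x
      exact mt_inv_mulVec' g x)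

theorem linS_apply (g : SU N K q) (x : Fin N → K) : linS g x = mt g *ᵥ x := rfl

variable {E F : Submodule K (Fin N → K)} (hd : LPair q E F) (H : Subgroup (SU N K q))
  (hPM : ∀ A : SU N K q, (∀ x ∈ E, mt A *ᵥ x ∈ E) → (∀ x ∈ F, mt A *ᵥ x ∈ F) → A ∈ H)
  (hbad : ∀ a ∈ E, a ≠ 0 → ∀ (z : Fin N → K) (c : K), hermForm N K q z a = 0 →
    c + c ^ q + hermForm N K q z z = 0 → sg q a z c ∈ H → z ∈ F ⊔ Submodule.span K {a})

include hd hPM hbad in
/-- **every line carrying a Siegel element of `H` meets `F`**. -/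
theorem line_meets_F (h5 : 5 ≤ finrank K E) {a₁ b₁ : Fin N → K} {c₁ : K}
    (ha₁ : hermForm N K q a₁ a₁ = 0) (hba₁ : hermForm N K q b₁ a₁ = 0)
    (hc₁ : c₁ + c₁ ^ q + hermForm N K q b₁ b₁ = 0) (hs : sg q a₁ b₁ c₁ ∈ H) :
    ∃ α β : K, ¬ (α = 0 ∧ β = 0) ∧ α • a₁ + β • b₁ ∈ F := by
  by_contra hno'
  have hno : ∀ α β : K, ¬ (α = 0 ∧ β = 0) → α • a₁ + β • b₁ ∉ F := by
    intro α β hne h
    exact hno' ⟨α, β, hne, h⟩
  obtain ⟨a₁E, ha₁E, a₁F, ha₁F, ha₁dec⟩ := hd.exists_dec a₁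
  obtain ⟨b₁E, hb₁E, b₁F, hb₁F, hb₁dec⟩ := hd.exists_dec b₁
  -- the `E`-components are independent
  have hind : ∀ α β : K, α • a₁E + β • b₁E = 0 → α = 0 ∧ β = 0 := by
    intro α β h
    by_contra hne
    apply hno α β hne
    have : α • a₁ + β • b₁ = (α • a₁E + β • b₁E) + (α • a₁F + β • b₁F) := by
      rw [ha₁dec, hb₁dec, smul_add, smul_add]
      abel
    rw [this, h, zero_add]
    exact F.add_mem (F.smul_mem _ ha₁F) (F.smul_mem _ hb₁F)
  -- a vector of `E` orthogonal to the line, outside the span of the components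
  obtain ⟨a, haX, hanot⟩ : ∃ a ∈ cutS q (cutS q E a₁) b₁,
      a ∉ Submodule.span K {a₁E, b₁E} := by
    apply exists_mem_not_mem
    have h1 := finrank_le_cutS (q := q) E a₁
    have h2 := finrank_le_cutS (q := q) (cutS q E a₁) b₁
    have h3 := finrank_span_pair_le a₁E b₁E
    omega
  obtain ⟨⟨haE, haa₁⟩, hab₁⟩ := haX
  have haa := hd.tsE a haE a haE
  have ha0 : a ≠ 0 := by
    rintro rfl
    exact hanot (Submodule.zero_mem _)
  -- a vector of `F` orthogonal to `a` and not to `a₁`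
  have hne : a₁E ∉ Submodule.span K {a} := by
    intro h
    obtain ⟨t, ht⟩ := Submodule.mem_span_singleton.mp h
    by_cases ht0 : t = 0
    · rw [ht0, zero_smul] at ht
      have := hind 1 0 (by rw [one_smul, zero_smul, add_zero, ← ht])
      exact one_ne_zero this.1
    · apply hanot
      have : a = t⁻¹ • a₁E := by rw [← ht, smul_smul, inv_mul_cancel₀ ht0, one_smul]
      rw [this]
      exact Submodule.smul_mem _ _ (Submodule.subset_span (Set.mem_insert _ _))
  obtain ⟨b, hbF, hperp, hba₁E⟩ := hd.exists_dual_in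
    ((Submodule.span_singleton_le_iff_mem a E).mpr haE) ha₁E hne
  have hab : hermForm N K q a b = 0 := hperp a (Submodule.mem_span_singleton_self a)
  have hba : hermForm N K q b a = 0 := h_eq_zero_of_swap hab
  have hbb := hd.tsF b hbF b hbF
  have hba₁' : hermForm N K q b a₁ ≠ 0 := by
    rw [ha₁dec, h_add_right, hd.tsF b hbF a₁F ha₁F, add_zero]
    exact herm_swap_ne_zero hba₁E
  -- the image of `b` under the Siegel element
  have hsa : mt (sg q a₁ b₁ c₁) *ᵥ a = a := sg_fix ha₁ hba₁ hc₁ haa₁ hab₁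
  have hsb : mt (sg q a₁ b₁ c₁) *ᵥ b
      = b + hermForm N K q b a₁ • (b₁ + c₁ • a₁) - hermForm N K q b b₁ • a₁ :=
    sg_mulVec ha₁ hba₁ hc₁ b
  have hmem : mt (sg q a₁ b₁ c₁) *ᵥ b ∈ F ⊔ Submodule.span K {a} := by
    apply hbad a haE ha0 _ 0
    · have := herm_mt (sg q a₁ b₁ c₁) b a
      rw [hsa] at this
      rw [this]
      exact hba
    · rw [herm_mt]
      exact adm_zero hbb
    · have h2 := conj_sg (sg q a₁ b₁ c₁) haa hba (adm_zero hbb)
      rw [hsa] at h2
      rw [← h2]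
      exact H.mul_mem (H.mul_mem hs (sg_pair_mem hd H hPM haE hbF hba)) (H.inv_mem hs)
  obtain ⟨f, hf, y, hy, hfy⟩ := Submodule.mem_sup.mp hmem
  obtain ⟨t, rfl⟩ := Submodule.mem_span_singleton.mp hy
  -- compare the components
  obtain ⟨p, hp⟩ : ∃ p : K, p = hermForm N K q b a₁ := ⟨_, rfl⟩
  obtain ⟨r, hr⟩ : ∃ r : K, r = hermForm N K q b b₁ := ⟨_, rfl⟩
  rw [← hp, ← hr] at hsb
  rw [← hp] at hba₁'
  obtain ⟨γ, hγ⟩ : ∃ γ : K, γ = p * c₁ - r := ⟨_, rfl⟩
  have hcomp : (p • b₁E + γ • a₁E) + (b + p • b₁F + γ • a₁F) = t • a + f := by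
    rw [add_comm (t • a) f, hfy, hsb, hγ, ha₁dec, hb₁dec]
    module
  have h1 := (hd.eq_of_add_eq
    (E.add_mem (E.smul_mem _ hb₁E) (E.smul_mem _ ha₁E)) (E.smul_mem t haE)
    (F.add_mem (F.add_mem hbF (F.smul_mem _ hb₁F)) (F.smul_mem _ ha₁F)) hf hcomp).1
  by_cases ht0 : t = 0
  · rw [ht0, zero_smul, add_comm] at h1
    have := (hind _ _ h1).2
    exact hba₁' this
  · apply hanot
    have : a = t⁻¹ • (p • b₁E + γ • a₁E) := by
      rw [h1, smul_smul, inv_mul_cancel₀ ht0, one_smul]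
    rw [this]
    apply Submodule.smul_mem
    apply Submodule.add_mem
    · exact Submodule.smul_mem _ _ (Submodule.subset_span (Set.mem_insert_of_mem _ rfl))
    · exact Submodule.smul_mem _ _ (Submodule.subset_span (Set.mem_insert _ _))

include hd in
/-- a matrix of `SU` sending a subspace into the union of `E` and `F` sends it into one of
them. -/
theorem all_or_all (g : SU N K q) (A : Submodule K (Fin N → K))
    (h : ∀ x ∈ A, mt g *ᵥ x ∈ E ∨ mt g *ᵥ x ∈ F) :
    (∀ x ∈ A, mt g *ᵥ x ∈ E) ∨ (∀ x ∈ A, mt g *ᵥ x ∈ F) := by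
  by_contra hcon
  rw [not_or] at hcon
  obtain ⟨h1, h2⟩ := hcon
  push Not at h1 h2
  obtain ⟨x₁, hx₁, hx₁E⟩ := h1
  obtain ⟨x₂, hx₂, hx₂F⟩ := h2
  have hx₁F : mt g *ᵥ x₁ ∈ F := (h x₁ hx₁).resolve_left hx₁E
  have hx₂E : mt g *ᵥ x₂ ∈ E := (h x₂ hx₂).resolve_right hx₂F
  rcases h (x₁ + x₂) (A.add_mem hx₁ hx₂) with h3 | h3
  · apply hx₁E
    have := E.sub_mem h3 hx₂E
    rwa [mulVec_add, add_sub_cancel_right] at this
  · apply hx₂F
    have := F.sub_mem h3 hx₁F
    rwa [mulVec_add, add_sub_cancel_left] at this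

variable (hbadF : ∀ a ∈ F, a ≠ 0 → ∀ (z : Fin N → K) (c : K), hermForm N K q z a = 0 →
    c + c ^ q + hermForm N K q z z = 0 → sg q a z c ∈ H → z ∈ E ⊔ Submodule.span K {a})

include hd hPM hbad hbadF in
/-- an element of `H` maps every vector of `E` into `E` or into `F`. -/
theorem map_mem_union (h5E : 5 ≤ finrank K E) (h5F : 5 ≤ finrank K F) {g : SU N K q}
    (hg : g ∈ H) {a : Fin N → K} (ha : a ∈ E) :
    mt g *ᵥ a ∈ E ∨ mt g *ᵥ a ∈ F := by
  obtain ⟨xE, hxE, xF, hxF, hx⟩ := hd.exists_dec (mt g *ᵥ a)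
  by_cases hxE0 : xE = 0
  · right
    rw [hx, hxE0, zero_add]
    exact hxF
  by_cases hxF0 : xF = 0
  · left
    rw [hx, hxF0, add_zero]
    exact hxE
  exfalso
  have haa := hd.tsE a ha a ha
  have hPM' : ∀ A : SU N K q, (∀ x ∈ F, mt A *ᵥ x ∈ F) → (∀ x ∈ E, mt A *ᵥ x ∈ E) → A ∈ H :=
    fun A h1 h2 => hPM A h2 h1
  have key : ∀ b ∈ F, hermForm N K q b a = 0 → mt g *ᵥ b ∈ Submodule.span K {xE, xF} := by
    intro b hb hba
    have hbb := hd.tsF b hb b hb
    have hpaa : hermForm N K q (mt g *ᵥ a) (mt g *ᵥ a) = 0 := by rw [herm_mt]; exact haa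
    have hpba : hermForm N K q (mt g *ᵥ b) (mt g *ᵥ a) = 0 := by rw [herm_mt]; exact hba
    have hpadm : (0 : K) + 0 ^ q + hermForm N K q (mt g *ᵥ b) (mt g *ᵥ b) = 0 := by
      rw [herm_mt]; exact adm_zero hbb
    have hs : sg q (mt g *ᵥ a) (mt g *ᵥ b) 0 ∈ H := by
      rw [← conj_sg g haa hba (adm_zero hbb)]
      exact H.mul_mem (H.mul_mem hg (sg_pair_mem hd H hPM ha hb hba)) (H.inv_mem hg)
    obtain ⟨α, β, hne, hF⟩ := line_meets_F hd H hPM hbad h5E hpaa hpba hpadm hs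
    obtain ⟨γ, δ, hne', hE⟩ := line_meets_F hd.symm H hPM' hbadF h5F hpaa hpba hpadm hs
    obtain ⟨yE, hyE, yF, hyF, hy⟩ := hd.exists_dec (mt g *ᵥ b)
    -- components
    have e1 : (α • xE + β • yE) + (α • xF + β • yF)
        = 0 + (α • mt g *ᵥ a + β • mt g *ᵥ b) := by
      rw [hx, hy, smul_add, smul_add]
      abel
    have h1 := (hd.eq_of_add_eq (E.add_mem (E.smul_mem _ hxE) (E.smul_mem _ hyE)) E.zero_mem
      (F.add_mem (F.smul_mem _ hxF) (F.smul_mem _ hyF)) hF e1).1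
    have e2 : (γ • xE + δ • yE) + (γ • xF + δ • yF)
        = (γ • mt g *ᵥ a + δ • mt g *ᵥ b) + 0 := by
      rw [hx, hy, smul_add, smul_add]
      abel
    have h2 := (hd.eq_of_add_eq (E.add_mem (E.smul_mem _ hxE) (E.smul_mem _ hyE)) hE
      (F.add_mem (F.smul_mem _ hxF) (F.smul_mem _ hyF)) F.zero_mem e2).2
    have hβ : β ≠ 0 := by
      rintro rfl
      rw [zero_smul, add_zero] at h1
      rcases smul_eq_zero.mp h1 with h | h
      · exact hne ⟨h, rfl⟩
      · exact hxE0 h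
    have hδ : δ ≠ 0 := by
      rintro rfl
      rw [zero_smul, add_zero] at h2
      rcases smul_eq_zero.mp h2 with h | h
      · exact hne' ⟨h, rfl⟩
      · exact hxF0 h
    have hyE' : yE = (-(β⁻¹ * α)) • xE := by
      have : β • yE = -(α • xE) := eq_neg_of_add_eq_zero_right h1
      rw [neg_smul, mul_smul, ← smul_neg, ← this, smul_smul, inv_mul_cancel₀ hβ, one_smul]
    have hyF' : yF = (-(δ⁻¹ * γ)) • xF := by
      have : δ • yF = -(γ • xF) := eq_neg_of_add_eq_zero_right h2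
      rw [neg_smul, mul_smul, ← smul_neg, ← this, smul_smul, inv_mul_cancel₀ hδ, one_smul]
    rw [hy, hyE', hyF']
    apply Submodule.add_mem
    · exact Submodule.smul_mem _ _ (Submodule.subset_span (Set.mem_insert _ _))
    · exact Submodule.smul_mem _ _ (Submodule.subset_span (Set.mem_insert_of_mem _ rfl))
  have hle : (cutS q F a).map (linS g).toLinearMap ≤ Submodule.span K {xE, xF} := by
    rintro _ ⟨b, ⟨hbF, hbo⟩, rfl⟩
    exact key b hbF hbo
  have h1 := Submodule.finrank_mono hle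
  rw [LinearEquiv.finrank_map_eq] at h1
  have h2 := finrank_le_cutS (q := q) F a
  have h3 := finrank_span_pair_le xE xF
  omega

include hd hPM hbad hbadF in
/-- **the bad case**: every element of `H` preserves the pair. -/
theorem stab_of_bad (h5E : 5 ≤ finrank K E) (h5F : 5 ≤ finrank K F) {g : SU N K q}
    (hg : g ∈ H) :
    ((∀ x ∈ E, mt g *ᵥ x ∈ E) ∧ (∀ x ∈ F, mt g *ᵥ x ∈ F)) ∨
    ((∀ x ∈ E, mt g *ᵥ x ∈ F) ∧ (∀ x ∈ F, mt g *ᵥ x ∈ E)) := by
  have hPM' : ∀ A : SU N K q, (∀ x ∈ F, mt A *ᵥ x ∈ F) → (∀ x ∈ E, mt A *ᵥ x ∈ E) → A ∈ H :=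
    fun A h1 h2 => hPM A h2 h1
  have hE := all_or_all hd g E
    (fun x hx => map_mem_union hd H hPM hbad hbadF h5E h5F hg hx)
  have hF := all_or_all hd g F
    (fun x hx => (map_mem_union hd.symm H hPM' hbadF hbad h5F h5E hg hx).symm)
  -- the image of the whole space is not contained in one of the two
  have hnot : ∀ X : Submodule K (Fin N → K), finrank K X < finrank K (Fin N → K) →
      ¬ ((∀ x ∈ E, mt g *ᵥ x ∈ X) ∧ (∀ x ∈ F, mt g *ᵥ x ∈ X)) := by
    rintro X hX ⟨h1, h2⟩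
    have hle : (⊤ : Submodule K (Fin N → K)).map (linS g).toLinearMap ≤ X := by
      rintro _ ⟨x, -, rfl⟩
      obtain ⟨e, he, f, hf, rfl⟩ := hd.exists_dec x
      rw [LinearEquiv.coe_coe, map_add]
      exact X.add_mem (h1 e he) (h2 f hf)
    have := Submodule.finrank_mono hle
    rw [LinearEquiv.finrank_map_eq, finrank_top] at this
    omega
  have hsum : finrank K E + finrank K F = finrank K (Fin N → K) := by
    have h1 := Submodule.finrank_sup_add_finrank_inf_eq E F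
    rw [hd.sup, hd.inf, finrank_top, finrank_bot] at h1
    omega
  rcases hE with hE | hE <;> rcases hF with hF | hF
  · exact absurd ⟨hE, hF⟩ (hnot E (by omega))
  · exact Or.inl ⟨hE, hF⟩
  · exact Or.inr ⟨hE, hF⟩
  · exact absurd ⟨hE, hF⟩ (hnot F (by omega))

end Cfsg.Agent.Helper7.SUPair
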