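import Mathlib
import Cfsg.Agent.Helper7.SUPairD

set_option autoImplicit false
set_option linter.unusedSectionVars false

/-! An element of the special unitary group exchanging two complementary totally isotropic
subspaces (helper7). -/

namespace Cfsg.Agent.Helper7.SUPair

open Matrix Module Cfsg Cfsg.Agent.Helper7.Herm Cfsg.Agent.Helper8.GUOrder Cfsg.Agent.Helper8.SURoot
  Cfsg.Agent.Helper8.AutSU Cfsg.Agent.Helper7.SUGen Cfsg.Agent.Helper7.SUMax Cfsg.Agent.Helper7.SUNd
  Cfsg.Agent.Helper8.MaxSingular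

variable {K : Type*} [Field K] [Fintype K] {q N : ℕ} [hK : Fact (Fintype.card K = q ^ 2)]

/-- the quarter turn of a hyperbolic pair. -/
noncomputable def rho (q : ℕ) [hK : Fact (Fintype.card K = q ^ 2)] (e f : Fin N → K) (s : K) :
    SU N K q := TU q e s * TU q f (-s⁻¹) * TU q e s

section rho

variable {e f : Fin N → K} (hee : hermForm N K q e e = 0) (hff : hermForm N K q f f = 0)
  (hef : hermForm N K q e f = 1) {s : K} (hs0 : s ≠ 0) (hs : s ^ q + s = 0)

include hs0 hs in
theorem tz_neg_inv : (-s⁻¹) ^ q + -s⁻¹ = 0 := by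
  have h1 : s ^ q = -s := by linear_combination hs
  rw [b_neg, inv_pow, h1]
  field_simp
  ring

include hee hff hef hs0 hs

theorem rho_left : mt (rho q e f s) *ᵥ e = (-s⁻¹) • f := by
  have hfe : hermForm N K q f e = 1 := h_eq_one_of_swap hef
  have hs' := tz_neg_inv hs0 hs
  have h1 : mt (TU q e s) *ᵥ e = e := by
    rw [TU_mulVec hee hs, hee, mul_zero, zero_smul, add_zero]
  have h2 : mt (TU q f (-s⁻¹)) *ᵥ e = e + (-s⁻¹) • f := by
    rw [TU_mulVec hff hs', hef, mul_one]
  have h3 : mt (TU q e s) *ᵥ (e + (-s⁻¹) • f) = (-s⁻¹) • f := by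
    rw [TU_mulVec hee hs, hermForm_add_left, hermForm_smul_left, hee, hfe, zero_add, mul_one,
      mul_neg, mul_inv_cancel₀ hs0]
    module
  unfold rho
  rw [mt_mul_mulVec, mt_mul_mulVec, h1, h2, h3]

theorem rho_right : mt (rho q e f s) *ᵥ f = s • e := by
  have hfe : hermForm N K q f e = 1 := h_eq_one_of_swap hef
  have hs' := tz_neg_inv hs0 hs
  have h1 : mt (TU q e s) *ᵥ f = f + s • e := by
    rw [TU_mulVec hee hs, hfe, mul_one]
  have h2 : mt (TU q f (-s⁻¹)) *ᵥ (f + s • e) = s • e := by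
    rw [TU_mulVec hff hs', hermForm_add_left, hermForm_smul_left, hff, hef, zero_add, mul_one,
      neg_mul, inv_mul_cancel₀ hs0]
    module
  have h3 : mt (TU q e s) *ᵥ (s • e) = s • e := by
    rw [TU_mulVec hee hs, hermForm_smul_left, hee, mul_zero, mul_zero, zero_smul, add_zero]
  unfold rho
  rw [mt_mul_mulVec, mt_mul_mulVec, h1, h2, h3]

omit hef in
theorem rho_fix {y : Fin N → K} (hye : hermForm N K q y e = 0) (hyf : hermForm N K q y f = 0) :
    mt (rho q e f s) *ᵥ y = y := by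
  have hs' := tz_neg_inv hs0 hs
  have h1 : mt (TU q e s) *ᵥ y = y := by
    rw [TU_mulVec hee hs, hye, mul_zero, zero_smul, add_zero]
  have h2 : mt (TU q f (-s⁻¹)) *ᵥ y = y := by
    rw [TU_mulVec hff hs', hyf, mul_zero, zero_smul, add_zero]
  unfold rho
  rw [mt_mul_mulVec, mt_mul_mulVec, h1, h2, h1]

end rho

/-- two totally isotropic subspaces in perfect duality. -/
structure Paired (q : ℕ) (E F : Submodule K (Fin N → K)) : Prop where
  tsE : ∀ x ∈ E, ∀ y ∈ E, hermForm N K q x y = 0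
  tsF : ∀ x ∈ F, ∀ y ∈ F, hermForm N K q x y = 0
  ndE : ∀ e ∈ E, (∀ f ∈ F, hermForm N K q e f = 0) → e = 0
  ndF : ∀ f ∈ F, (∀ e ∈ E, hermForm N K q e f = 0) → f = 0

/-- a dual vector. -/
theorem Paired.exists_dual {E F : Submodule K (Fin N → K)} (h : Paired q E F)
    {e : Fin N → K} (he : e ∈ E) (he0 : e ≠ 0) : ∃ f ∈ F, hermForm N K q e f = 1 := by
  have : ∃ f ∈ F, hermForm N K q e f ≠ 0 := by
    by_contra hcon
    push Not at hcon
    exact he0 (h.ndE e he hcon)
  obtain ⟨f, hf, hef⟩ := this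
  refine ⟨((hermForm N K q e f)⁻¹ ^ q) • f, F.smul_mem _ hf, ?_⟩
  rw [hermForm_smul_right, bb, inv_mul_cancel₀ hef]

theorem LPair.paired {E F : Submodule K (Fin N → K)} (hd : LPair q E F) : Paired q E F := by
  refine ⟨hd.tsE, hd.tsF, ?_, ?_⟩
  · intro e he hperp
    apply hd.eq_zero_of_mem_of_mem he
    apply hd.mem_F_of_perp
    intro x hx
    exact h_eq_zero_of_swap (hperp x hx)
  · intro f hf hperp
    apply hd.eq_zero_of_mem_of_mem _ hf
    apply hd.mem_E_of_perp
    intro x hx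
    exact hperp x hx

/-- **an element of `SU` exchanging two dual totally isotropic subspaces**, fixing the vectors
orthogonal to both. -/
theorem exists_swap :
    ∀ (n : ℕ) (E F : Submodule K (Fin N → K)), Paired q E F → finrank K E = n →
      ∃ w : SU N K q, (∀ x ∈ E, mt w *ᵥ x ∈ F) ∧ (∀ x ∈ F, mt w *ᵥ x ∈ E) ∧
        ∀ y, (∀ x ∈ E, hermForm N K q x y = 0) → (∀ x ∈ F, hermForm N K q x y = 0) →
          mt w *ᵥ y = y := by
  intro n
  induction n with
  | zero =>
    intro E F hp hE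
    have hE0 : E = ⊥ := Submodule.finrank_eq_zero.mp hE
    refine ⟨1, ?_, ?_, fun y _ _ => mt_one_mulVec y⟩
    · intro x hx
      rw [hE0, Submodule.mem_bot] at hx
      rw [hx, mulVec_zero]
      exact F.zero_mem
    · intro x hx
      have : x = 0 := hp.ndF x hx (fun e he => by
        rw [hE0, Submodule.mem_bot] at he
        rw [he, hermForm_zero_left])
      rw [this, mulVec_zero]
      exact E.zero_mem
  | succ n ih =>
    intro E F hp hE
    obtain ⟨s, hs0, hs⟩ := exists_tz_ne_zero (F := K) (q := q)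
    obtain ⟨e₁, he₁, he₁0⟩ : ∃ e₁ ∈ E, e₁ ≠ 0 := by
      by_contra hcon
      push Not at hcon
      have : E = ⊥ := (Submodule.eq_bot_iff E).mpr hcon
      rw [this, finrank_bot] at hE
      omega
    obtain ⟨f₁, hf₁, hef₁⟩ := hp.exists_dual he₁ he₁0
    have hfe₁ : hermForm N K q f₁ e₁ = 1 := h_eq_one_of_swap hef₁
    have hee := hp.tsE e₁ he₁ e₁ he₁
    have hff := hp.tsF f₁ hf₁ f₁ hf₁
    -- the smaller pair
    have memE' : ∀ x, x ∈ cutS q E f₁ ↔ x ∈ E ∧ hermForm N K q x f₁ = 0 := fun x => Iff.rfl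
    have memF' : ∀ x, x ∈ cutS q F e₁ ↔ x ∈ F ∧ hermForm N K q x e₁ = 0 := fun x => Iff.rfl
    -- projections
    have projE : ∀ x ∈ E, x - hermForm N K q x f₁ • e₁ ∈ cutS q E f₁ := by
      intro x hx
      rw [memE']
      refine ⟨E.sub_mem hx (E.smul_mem _ he₁), ?_⟩
      rw [hermForm_sub_left, hermForm_smul_left, hef₁, mul_one, sub_self]
    have projF : ∀ x ∈ F, x - hermForm N K q x e₁ • f₁ ∈ cutS q F e₁ := by
      intro x hx
      rw [memF']
      refine ⟨F.sub_mem hx (F.smul_mem _ hf₁), ?_⟩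
      rw [hermForm_sub_left, hermForm_smul_left, hfe₁, mul_one, sub_self]
    have hp' : Paired q (cutS q E f₁) (cutS q F e₁) := by
      refine ⟨fun x hx y hy => hp.tsE x ((memE' x).mp hx).1 y ((memE' y).mp hy).1,
        fun x hx y hy => hp.tsF x ((memF' x).mp hx).1 y ((memF' y).mp hy).1, ?_, ?_⟩
      · intro e he hperp
        obtain ⟨heE, hef₁'⟩ := (memE' e).mp he
        apply hp.ndE e heE
        intro f hf
        have := hperp _ (projF f hf)
        rw [h_sub_right, hermForm_smul_right, hef₁', mul_zero, sub_zero] at this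
        exact this
      · intro f hf hperp
        obtain ⟨hfF, hfe₁'⟩ := (memF' f).mp hf
        apply hp.ndF f hfF
        intro e he
        have := hperp _ (projE e he)
        have h0 : hermForm N K q e₁ f = 0 := h_eq_zero_of_swap hfe₁'
        rw [hermForm_sub_left, hermForm_smul_left, h0, mul_zero, sub_zero] at this
        exact this
    have hfin : finrank K (cutS q E f₁) = n := by
      have h1 := finrank_le_cutS (q := q) E f₁
      have hE'E : cutS q E f₁ ≤ E := fun x hx => ((memE' x).mp hx).1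
      have hn1 : e₁ ∉ cutS q E f₁ := by
        intro h
        have := ((memE' e₁).mp h).2
        rw [hef₁] at this
        exact one_ne_zero this
      have h3 := finrank_sup_span_singleton (cutS q E f₁) hn1
      have hle : cutS q E f₁ ⊔ Submodule.span K {e₁} ≤ E :=
        sup_le hE'E ((Submodule.span_singleton_le_iff_mem e₁ E).mpr he₁)
      have h5' := Submodule.finrank_mono hle
      omega
    obtain ⟨w', hw'E, hw'F, hw'fix⟩ := ih (cutS q E f₁) (cutS q F e₁) hp' hfin
    -- fixed vectors of `w'`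
    have hw'e₁ : mt w' *ᵥ e₁ = e₁ :=
      hw'fix e₁ (fun x hx => hp.tsE x ((memE' x).mp hx).1 e₁ he₁) (fun x hx => ((memF' x).mp hx).2)
    have hw'f₁ : mt w' *ᵥ f₁ = f₁ :=
      hw'fix f₁ (fun x hx => ((memE' x).mp hx).2) (fun x hx => hp.tsF x ((memF' x).mp hx).1 f₁ hf₁)
    refine ⟨rho q e₁ f₁ s * w', ?_, ?_, ?_⟩
    · intro x hx
      rw [mt_mul_mulVec]
      obtain ⟨x', hx'def⟩ : ∃ x' : Fin N → K, x' = x - hermForm N K q x f₁ • e₁ := ⟨_, rfl⟩
      have hx' : x' ∈ cutS q E f₁ := by rw [hx'def]; exact projE x hx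
      have hxeq : x = x' + hermForm N K q x f₁ • e₁ := by
        rw [hx'def]
        abel
      have hy' := hw'E x' hx'
      obtain ⟨hy'F, hy'e₁⟩ := (memF' _).mp hy'
      have e1 : mt w' *ᵥ x = mt w' *ᵥ x' + hermForm N K q x f₁ • e₁ := by
        conv_lhs => rw [hxeq]
        rw [mulVec_add, mulVec_smul, hw'e₁]
      rw [e1, mulVec_add, mulVec_smul, rho_fix hee hff hs0 hs hy'e₁ (hp.tsF _ hy'F f₁ hf₁),
        rho_left hee hff hef₁ hs0 hs]
      exact F.add_mem hy'F (F.smul_mem _ (F.smul_mem _ hf₁))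
    · intro x hx
      rw [mt_mul_mulVec]
      obtain ⟨x', hx'def⟩ : ∃ x' : Fin N → K, x' = x - hermForm N K q x e₁ • f₁ := ⟨_, rfl⟩
      have hx' : x' ∈ cutS q F e₁ := by rw [hx'def]; exact projF x hx
      have hxeq : x = x' + hermForm N K q x e₁ • f₁ := by
        rw [hx'def]
        abel
      have hy' := hw'F x' hx'
      obtain ⟨hy'E, hy'f₁⟩ := (memE' _).mp hy'
      have e1 : mt w' *ᵥ x = mt w' *ᵥ x' + hermForm N K q x e₁ • f₁ := by
        conv_lhs => rw [hxeq]
        rw [mulVec_add, mulVec_smul, hw'f₁]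
      rw [e1, mulVec_add, mulVec_smul, rho_fix hee hff hs0 hs (hp.tsE _ hy'E e₁ he₁) hy'f₁,
        rho_right hee hff hef₁ hs0 hs]
      exact E.add_mem hy'E (E.smul_mem _ (E.smul_mem _ he₁))
    · intro y hyE hyF
      have h1 : hermForm N K q y e₁ = 0 := h_eq_zero_of_swap (hyE e₁ he₁)
      have h2 : hermForm N K q y f₁ = 0 := h_eq_zero_of_swap (hyF f₁ hf₁)
      rw [mt_mul_mulVec, hw'fix y (fun x hx => hyE x ((memE' x).mp hx).1)
        (fun x hx => hyF x ((memF' x).mp hx).1), rho_fix hee hff hs0 hs h1 h2]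

end Cfsg.Agent.Helper7.SUPair
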