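import Mathlib
import Cfsg.Agent.Helper7.SUPairE
import Cfsg.Agent.S5653

set_option autoImplicit false
set_option linter.unusedSectionVars false

/-! The stabiliser of a pair of complementary totally isotropic subspaces is maximal in the
special unitary group (helper7). -/

namespace Cfsg.Agent.Helper7.SUPair

open Matrix Module Cfsg Cfsg.Agent.Helper7.Herm Cfsg.Agent.Helper8.GUOrder Cfsg.Agent.Helper8.SURoot
  Cfsg.Agent.Helper8.AutSU Cfsg.Agent.Helper7.SUGen Cfsg.Agent.Helper7.SUMax Cfsg.Agent.Helper7.SUNd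
  Cfsg.Agent.Helper8.MaxSingular Cfsg.Agent.S5653

variable {K : Type*} [Field K] [Fintype K] {q N : ℕ} [hK : Fact (Fintype.card K = q ^ 2)]

section

variable {E F : Submodule K (Fin N → K)} (hd : LPair q E F) (H : Subgroup (SU N K q))
  (hPM : ∀ A : SU N K q, (∀ x ∈ E, mt A *ᵥ x ∈ E) → (∀ x ∈ F, mt A *ᵥ x ∈ F) → A ∈ H)

include hd hPM in
/-- **The dichotomy** for the stabiliser of a pair of complementary totally isotropic
subspaces. -/
theorem pair_stab_or_top (hN : 2 ≤ N) (h32 : ¬ (N = 3 ∧ q = 2)) (h5E : 5 ≤ finrank K E)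
    (h5F : 5 ≤ finrank K F) {w₀ : SU N K q} (hw₀ : w₀ ∈ H) (hwE : ∀ x ∈ E, mt w₀ *ᵥ x ∈ F)
    (hwF : ∀ x ∈ F, mt w₀ *ᵥ x ∈ E) :
    (∀ g ∈ H, ((∀ x ∈ E, mt g *ᵥ x ∈ E) ∧ (∀ x ∈ F, mt g *ᵥ x ∈ F)) ∨
      ((∀ x ∈ E, mt g *ᵥ x ∈ F) ∧ (∀ x ∈ F, mt g *ᵥ x ∈ E))) ∨ H = ⊤ := by
  by_cases hgood : ∃ a ∈ E, a ≠ 0 ∧ ∃ (z : Fin N → K) (c : K), hermForm N K q z a = 0 ∧
      c + c ^ q + hermForm N K q z z = 0 ∧ sg q a z c ∈ H ∧ z ∉ F ⊔ Submodule.span K {a}
  · right
    obtain ⟨a, ha, ha0, z, c, hza, hc, hz, hzn⟩ := hgood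
    exact top_of_extra hd H hPM hN h32 (by omega) ha ha0 hza hc hz hzn hw₀ hwE
  · left
    have hbad : ∀ a ∈ E, a ≠ 0 → ∀ (z : Fin N → K) (c : K), hermForm N K q z a = 0 →
        c + c ^ q + hermForm N K q z z = 0 → sg q a z c ∈ H →
        z ∈ F ⊔ Submodule.span K {a} := by
      intro a ha ha0 z c hza hc hz
      by_contra hzn
      exact hgood ⟨a, ha, ha0, z, c, hza, hc, hz, hzn⟩
    have hbadF : ∀ a ∈ F, a ≠ 0 → ∀ (z : Fin N → K) (c : K), hermForm N K q z a = 0 →
        c + c ^ q + hermForm N K q z z = 0 → sg q a z c ∈ H →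
        z ∈ E ⊔ Submodule.span K {a} := by
      intro a ha ha0 z c hza hc hz
      have haa := hd.tsF a ha a ha
      have ha'0 : mt w₀ *ᵥ a ≠ 0 := mulVec_ne_zero' w₀ ha0
      have h1 := hbad _ (hwF a ha) ha'0 (mt w₀ *ᵥ z) c
        (by rw [herm_mt]; exact hza) (by rw [herm_mt]; exact hc) (by
          rw [← conj_sg w₀ haa hza hc]
          exact H.mul_mem (H.mul_mem hw₀ hz) (H.inv_mem hw₀))
      obtain ⟨f, hf, y, hy, hfy⟩ := Submodule.mem_sup.mp h1
      obtain ⟨t, rfl⟩ := Submodule.mem_span_singleton.mp hy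
      obtain ⟨zE, hzE, zF, hzF, rfl⟩ := hd.exists_dec z
      have e1 : mt w₀ *ᵥ zF + mt w₀ *ᵥ zE = t • mt w₀ *ᵥ a + f := by
        rw [add_comm (t • _) f, hfy, mulVec_add, add_comm]
      have h3 := (hd.eq_of_add_eq (hwF zF hzF) (E.smul_mem t (hwF a ha)) (hwE zE hzE) hf e1).1
      have h4 : zF = t • a := by
        rw [← mt_inv_mulVec' w₀ zF, h3, mulVec_smul, mt_inv_mulVec']
      rw [h4]
      exact Submodule.add_mem_sup hzE (Submodule.smul_mem _ t (Submodule.mem_span_singleton_self a))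
    intro g hg
    exact stab_of_bad hd H hPM hbad hbadF h5E h5F hg

end

theorem toLin'_eq_linS (A : SU N K q) :
    Matrix.toLin' (mt A) = (linS A).toLinearMap := by
  apply LinearMap.ext
  intro x
  rw [Matrix.toLin'_apply]
  rfl

omit hK in
theorem toGL_mem_dstab {t : ℕ} (D : Fin t → Submodule K (Fin N → K)) (A : SU N K q) :
    toGL N K q A ∈ Cfsg.Geo.decompositionStabilizer D ↔
      ∃ σ : Equiv.Perm (Fin t), ∀ i, (D i).map (Matrix.toLin' (mt A)) = D (σ i) := Iff.rfl

/-- membership in the stabiliser of a decomposition into two subspaces of the same dimension. -/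
theorem toGL_mem_decomp_iff (D : Fin 2 → Submodule K (Fin N → K))
    (hfr : finrank K (D 0) = finrank K (D 1)) (A : SU N K q) :
    toGL N K q A ∈ Cfsg.Geo.decompositionStabilizer D ↔
      ((∀ x ∈ D 0, mt A *ᵥ x ∈ D 0) ∧ (∀ x ∈ D 1, mt A *ᵥ x ∈ D 1)) ∨
      ((∀ x ∈ D 0, mt A *ᵥ x ∈ D 1) ∧ (∀ x ∈ D 1, mt A *ᵥ x ∈ D 0)) := by
  have h01 : ∀ j : Fin 2, j = 0 ∨ j = 1 := by decide
  rw [toGL_mem_dstab, toLin'_eq_linS]
  constructor
  · rintro ⟨σ, hσ⟩
    have hmap : ∀ i, ∀ x ∈ D i, mt A *ᵥ x ∈ D (σ i) := by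
      intro i x hx
      rw [← hσ i]
      exact ⟨x, hx, rfl⟩
    rcases h01 (σ 0) with h0 | h0
    · have h1 : σ 1 = 1 := by
        rcases h01 (σ 1) with h | h
        · exact absurd (σ.injective (h0.trans h.symm)) (by decide)
        · exact h
      left
      refine ⟨fun x hx => ?_, fun x hx => ?_⟩
      · have := hmap 0 x hx
        rwa [h0] at this
      · have := hmap 1 x hx
        rwa [h1] at this
    · have h1 : σ 1 = 0 := by
        rcases h01 (σ 1) with h | h
        · exact h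
        · exact absurd (σ.injective (h0.trans h.symm)) (by decide)
      right
      refine ⟨fun x hx => ?_, fun x hx => ?_⟩
      · have := hmap 0 x hx
        rwa [h0] at this
      · have := hmap 1 x hx
        rwa [h1] at this
  · rintro (⟨h0, h1⟩ | ⟨h0, h1⟩)
    · refine ⟨1, fun i => ?_⟩
      rw [Equiv.Perm.one_apply]
      rcases h01 i with rfl | rfl
      · apply Submodule.eq_of_le_of_finrank_eq
        · rintro _ ⟨x, hx, rfl⟩
          exact h0 x hx
        · exact LinearEquiv.finrank_map_eq _ _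
      · apply Submodule.eq_of_le_of_finrank_eq
        · rintro _ ⟨x, hx, rfl⟩
          exact h1 x hx
        · exact LinearEquiv.finrank_map_eq _ _
    · refine ⟨Equiv.swap 0 1, fun i => ?_⟩
      rcases h01 i with rfl | rfl
      · rw [Equiv.swap_apply_left]
        apply Submodule.eq_of_le_of_finrank_eq
        · rintro _ ⟨x, hx, rfl⟩
          exact h0 x hx
        · rw [← hfr]
          exact LinearEquiv.finrank_map_eq _ _
      · rw [Equiv.swap_apply_right]
        apply Submodule.eq_of_le_of_finrank_eq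
        · rintro _ ⟨x, hx, rfl⟩
          exact h1 x hx
        · rw [hfr]
          exact LinearEquiv.finrank_map_eq _ _

/-- **Maximality** of the stabiliser of a pair of complementary totally isotropic subspaces in
the special unitary group. -/
theorem lpair_maximal {k : ℕ} (hk : 5 ≤ k)
    (D : Fin 2 → Submodule K (Fin N → K))
    (hD : Cfsg.Geo.IsMDecomposition k D)
    (hts : ∀ i, Cfsg.Geo.IsTotallySingularFor (Cfsg.hermForm N K q) (D i)) :
    Cfsg.Geo.IsMaximalIn (Cfsg.GU N K q ⊓ Cfsg.Geo.specialLinear (Fin N) K)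
      (Cfsg.Geo.decompositionStabilizer D ⊓
        (Cfsg.GU N K q ⊓ Cfsg.Geo.specialLinear (Fin N) K)) := by
  have hd : LPair q (D 0) (D 1) := by
    refine ⟨hts 0, hts 1, (hD.indep.pairwiseDisjoint (by decide : (0 : Fin 2) ≠ 1)).eq_bot, ?_⟩
    rw [← hD.iSup_eq_top]
    apply le_antisymm
    · exact sup_le (le_iSup D 0) (le_iSup D 1)
    · apply iSup_le
      intro i
      have : ∀ j : Fin 2, j = 0 ∨ j = 1 := by decide
      rcases this i with rfl | rfl
      · exact le_sup_left
      · exact le_sup_right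
  have hf0 : finrank K (D 0) = k := hD.finrank_eq 0
  have hf1 : finrank K (D 1) = k := hD.finrank_eq 1
  have hsum : k + k = N := by
    have h1 := Submodule.finrank_sup_add_finrank_inf_eq (D 0) (D 1)
    rw [hd.sup, hd.inf, finrank_top, finrank_bot, Module.finrank_pi, hf0, hf1,
      Fintype.card_fin] at h1
    omega
  have hS := toGL_mem_decomp_iff (q := q) D (hf0.trans hf1.symm)
  -- the exchanging element
  obtain ⟨w₀, hwE, hwF, -⟩ := exists_swap (q := q) k (D 0) (D 1) hd.paired hf0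
  refine ⟨lt_of_le_not_ge inf_le_right ?_, ?_⟩
  · -- a Siegel element with both parameters in `D 0` does not preserve the pair
    intro hle
    obtain ⟨a, ha, ha0⟩ : ∃ a ∈ D 0, a ≠ 0 := by
      by_contra hcon
      push Not at hcon
      have := (Submodule.eq_bot_iff _).mpr hcon
      rw [this, finrank_bot] at hf0
      omega
    obtain ⟨b, hb, hbn⟩ : ∃ b ∈ D 0, b ∉ Submodule.span K {a} := by
      apply exists_mem_not_mem
      rw [finrank_span_singleton ha0, hf0]
      omega
    obtain ⟨f, hf, hfa, hfb⟩ := hd.exists_dual_in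
      ((Submodule.span_singleton_le_iff_mem a (D 0)).mpr ha) hb hbn
    have haa := hd.tsE a ha a ha
    have hba : hermForm N K q b a = 0 := hd.tsE b hb a ha
    have hbb := hd.tsE b hb b hb
    have h1 := (hS _).mp (hle (toGL_mem (sg q a b 0))).1
    have hfa' : hermForm N K q f a = 0 :=
      h_eq_zero_of_swap (hfa a (Submodule.mem_span_singleton_self a))
    have hfb' : hermForm N K q f b ≠ 0 := herm_swap_ne_zero hfb
    have hval : mt (sg q a b 0) *ᵥ f = f - hermForm N K q f b • a := by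
      rw [sg_mulVec haa hba (adm_zero hbb), hfa', zero_smul, add_zero]
    have hf0' : f ≠ 0 := by
      rintro rfl
      apply hfb
      exact h_zero_right b
    rcases h1 with ⟨-, h1⟩ | ⟨-, h1⟩
    · have h2' := h1 f hf
      rw [hval] at h2'
      have h3 : hermForm N K q f b • a ∈ D 1 := by
        have := (D 1).sub_mem hf h2'
        rwa [sub_sub_cancel] at this
      have h4 : a ∈ D 1 := by
        have := (D 1).smul_mem (hermForm N K q f b)⁻¹ h3
        rwa [smul_smul, inv_mul_cancel₀ hfb', one_smul] at this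
      exact ha0 (hd.eq_zero_of_mem_of_mem ha h4)
    · have h2' := h1 f hf
      rw [hval] at h2'
      have h3 : f ∈ D 0 := by
        have := (D 0).add_mem h2' ((D 0).smul_mem (hermForm N K q f b) ha)
        rwa [sub_add_cancel] at this
      exact hf0' (hd.eq_zero_of_mem_of_mem h3 hf)
  · intro M hPM hMG
    have hPM' : ∀ A : SU N K q, (∀ x ∈ D 0, mt A *ᵥ x ∈ D 0) →
        (∀ x ∈ D 1, mt A *ᵥ x ∈ D 1) → A ∈ M.comap (toGL N K q) := by
      intro A h0 h1
      rw [Subgroup.mem_comap]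
      exact hPM ⟨(hS A).mpr (Or.inl ⟨h0, h1⟩), toGL_mem A⟩
    have hw₀M : w₀ ∈ M.comap (toGL N K q) := by
      rw [Subgroup.mem_comap]
      exact hPM ⟨(hS w₀).mpr (Or.inr ⟨hwE, hwF⟩), toGL_mem w₀⟩
    have key := pair_stab_or_top hd (M.comap (toGL N K q)) hPM' (by omega) (by omega) (by omega)
      (by omega) hw₀M hwE hwF
    rcases key with h | h
    · left
      apply le_antisymm _ hPM
      intro g hg
      obtain ⟨A, rfl⟩ := exists_toGL_eq (hMG hg)
      exact ⟨(hS A).mpr (h A (Subgroup.mem_comap.mpr hg)), hMG hg⟩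
    · right
      apply le_antisymm hMG
      intro g hg
      obtain ⟨A, rfl⟩ := exists_toGL_eq hg
      have : A ∈ M.comap (toGL N K q) := by rw [h]; exact Subgroup.mem_top A
      exact this

end Cfsg.Agent.Helper7.SUPair
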