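import Mathlib
import Cfsg.Agent.Helper7.SUPairF
import Cfsg.Agent.Helper7.Ex27UI
import Cfsg.Agent.Helper7.InvolK

set_option autoImplicit false
set_option linter.unusedSectionVars false

/-!
Hyperbolic frames of the standard unitary space: pairs of families `u, w` of isotropic vectors
with `h(u i, w j) = δ i j`.  Linear independence, transitivity of the unitary group, and frames
adapted to a pair of dual totally isotropic subspaces (helper7).
-/

namespace Cfsg.Agent.Helper7.Pol

open Matrix Module Cfsg Cfsg.Agent.Helper7.Herm Cfsg.Agent.Helper8.GUOrder Cfsg.Agent.Helper8.SURoot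
  Cfsg.Agent.Helper8.AutSU Cfsg.Agent.Helper7.SUMax Cfsg.Agent.Helper7.SUNd
  Cfsg.Agent.Helper7.SUPair Cfsg.Agent.Helper7.Invol Cfsg.Agent.Helper7.Ex27
  Cfsg.Agent.Helper8.MaxSingular

variable {F : Type*} [Field F] [Fintype F] {q N k : ℕ} [hF : Fact (Fintype.card F = q ^ 2)]

/-- A hyperbolic frame. -/
structure HFrame (q : ℕ) (u w : Fin k → (Fin N → F)) : Prop where
  uu : ∀ i j, hermForm N F q (u i) (u j) = 0
  ww : ∀ i j, hermForm N F q (w i) (w j) = 0
  uw : ∀ i j, hermForm N F q (u i) (w j) = if i = j then 1 else 0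

namespace HFrame

variable {u w u' w' : Fin k → (Fin N → F)}

theorem wu (h : HFrame q u w) (i j : Fin k) :
    hermForm N F q (w i) (u j) = if i = j then 1 else 0 := by
  rw [h_swap, h.uw j i]
  by_cases hij : i = j
  · rw [if_pos hij, if_pos hij.symm, one_pow]
  · rw [if_neg hij, if_neg (fun h' => hij h'.symm), b_zero]

/-- The combined family. -/
theorem li (h : HFrame q u w) : LinearIndependent F (Fin.append u w) := by
  classical
  rw [Fintype.linearIndependent_iff]
  intro g hg
  rw [Fin.sum_univ_add] at hg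
  simp only [Fin.append_left, Fin.append_right] at hg
  intro i
  refine Fin.addCases (fun a => ?_) (fun c => ?_) i
  · have h1 := congrArg (fun x => hermForm N F q x (w a)) hg
    beta_reduce at h1
    rw [hermForm_add_left, herm_sum_left, herm_sum_left, hermForm_zero_left] at h1
    simp only [hermForm_smul_left, h.uw, h.ww, mul_zero, Finset.sum_const_zero, add_zero,
      mul_ite, mul_one, Finset.sum_ite_eq', Finset.mem_univ, if_true] at h1
    exact h1
  · have h1 := congrArg (fun x => hermForm N F q x (u c)) hg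
    beta_reduce at h1
    rw [hermForm_add_left, herm_sum_left, herm_sum_left, hermForm_zero_left] at h1
    simp only [hermForm_smul_left, h.wu, h.uu, mul_zero, Finset.sum_const_zero, zero_add,
      mul_ite, mul_one, Finset.sum_ite_eq', Finset.mem_univ, if_true] at h1
    exact h1

theorem gram (h : HFrame q u w) (h' : HFrame q u' w') (i j : Fin (k + k)) :
    hermForm N F q (Fin.append u w i) (Fin.append u w j) =
      hermForm N F q (Fin.append u' w' i) (Fin.append u' w' j) := by
  refine Fin.addCases (fun a => ?_) (fun a => ?_) i <;>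
    refine Fin.addCases (fun c => ?_) (fun c => ?_) j <;>
    simp only [Fin.append_left, Fin.append_right, h.uu, h'.uu, h.ww, h'.ww, h.uw, h'.uw, h.wu, h'.wu]

/-- The unitary group is transitive on hyperbolic frames of a given size. -/
theorem exists_GU (h : HFrame q u w) (h' : HFrame q u' w') :
    ∃ g : GU N F q, (∀ i, mg g *ᵥ u i = u' i) ∧ ∀ i, mg g *ᵥ w i = w' i := by
  obtain ⟨g, hg⟩ := exists_GU_of_families (q := q) (Fin.append u w) (Fin.append u' w') h.li h'.li
    (h.gram h')
  refine ⟨g, fun i => ?_, fun i => ?_⟩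
  · have := hg (Fin.castAdd k i)
    rwa [Fin.append_left, Fin.append_left] at this
  · have := hg (Fin.natAdd k i)
    rwa [Fin.append_right, Fin.append_right] at this

/-- A frame of half the dimension is a basis. -/
theorem exists_basis (h : HFrame q u w) (hN : N = k + k) :
    ∃ bb : Module.Basis (Fin (k + k)) F (Fin N → F), ∀ i, bb i = Fin.append u w i := by
  have hcard : Fintype.card (Fin (k + k)) = Module.finrank F (Fin N → F) := by
    rw [Module.finrank_fin_fun, Fintype.card_fin, hN]
  have hsp := h.li.span_eq_top_of_card_eq_finrank' hcard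
  refine ⟨Module.Basis.mk h.li (by rw [hsp]), fun i => ?_⟩
  rw [Module.Basis.coe_mk]

theorem two_mul_le (h : HFrame q u w) : k + k ≤ N := by
  have := h.li.fintype_card_le_finrank
  rwa [Fintype.card_fin, Module.finrank_fin_fun] at this

theorem symm (h : HFrame q u w) : HFrame q w u := ⟨h.ww, h.uu, h.wu⟩

end HFrame

/-- A frame adapted to a pair of dual totally isotropic subspaces. -/
theorem exists_frame_of_paired :
    ∀ (n : ℕ) (E E' : Submodule F (Fin N → F)), Paired q E E' → finrank F E = n →
      ∃ u w : Fin n → (Fin N → F), HFrame q u w ∧ (∀ i, u i ∈ E) ∧ ∀ i, w i ∈ E' := by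
  intro n
  induction n with
  | zero =>
    intro E E' _ _
    exact ⟨fun i => i.elim0, fun i => i.elim0, ⟨fun i => i.elim0, fun i => i.elim0,
      fun i => i.elim0⟩, fun i => i.elim0, fun i => i.elim0⟩
  | succ n ih =>
    intro E E' hp hE
    obtain ⟨e₁, he₁, he₁0⟩ : ∃ e₁ ∈ E, e₁ ≠ 0 := by
      by_contra hcon
      push Not at hcon
      have : E = ⊥ := (Submodule.eq_bot_iff E).mpr hcon
      rw [this, finrank_bot] at hE
      omega
    obtain ⟨f₁, hf₁, hef₁⟩ := hp.exists_dual he₁ he₁0
    have hfe₁ : hermForm N F q f₁ e₁ = 1 := h_eq_one_of_swap hef₁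
    have hee := hp.tsE e₁ he₁ e₁ he₁
    have hff := hp.tsF f₁ hf₁ f₁ hf₁
    have memE' : ∀ x, x ∈ cutS q E f₁ ↔ x ∈ E ∧ hermForm N F q x f₁ = 0 := fun x => Iff.rfl
    have memF' : ∀ x, x ∈ cutS q E' e₁ ↔ x ∈ E' ∧ hermForm N F q x e₁ = 0 := fun x => Iff.rfl
    have projE : ∀ x ∈ E, x - hermForm N F q x f₁ • e₁ ∈ cutS q E f₁ := by
      intro x hx
      rw [memE']
      refine ⟨E.sub_mem hx (E.smul_mem _ he₁), ?_⟩
      rw [hermForm_sub_left, hermForm_smul_left, hef₁, mul_one, sub_self]
    have projF : ∀ x ∈ E', x - hermForm N F q x e₁ • f₁ ∈ cutS q E' e₁ := by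
      intro x hx
      rw [memF']
      refine ⟨E'.sub_mem hx (E'.smul_mem _ hf₁), ?_⟩
      rw [hermForm_sub_left, hermForm_smul_left, hfe₁, mul_one, sub_self]
    have hp' : Paired q (cutS q E f₁) (cutS q E' e₁) := by
      refine ⟨fun x hx y hy => hp.tsE x ((memE' x).mp hx).1 y ((memE' y).mp hy).1,
        fun x hx y hy => hp.tsF x ((memF' x).mp hx).1 y ((memF' y).mp hy).1, ?_, ?_⟩
      · intro e he hperp
        obtain ⟨heE, hef₁'⟩ := (memE' e).mp he
        apply hp.ndE e heE
        intro f hf
        have := hperp _ (projF f hf)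
        rw [h_sub_right, hermForm_smul_right, hef₁', mul_zero, sub_zero] at this
        exact this
      · intro f hf hperp
        obtain ⟨hfF, hfe₁'⟩ := (memF' f).mp hf
        apply hp.ndF f hfF
        intro e he
        have := hperp _ (projE e he)
        have h0 : hermForm N F q e₁ f = 0 := h_eq_zero_of_swap hfe₁'
        rw [hermForm_sub_left, hermForm_smul_left, h0, mul_zero, sub_zero] at this
        exact this
    have hfin : finrank F (cutS q E f₁) = n := by
      have h1 := finrank_le_cutS (q := q) E f₁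
      have hE'E : cutS q E f₁ ≤ E := fun x hx => ((memE' x).mp hx).1
      have hn1 : e₁ ∉ cutS q E f₁ := by
        intro h
        have := ((memE' e₁).mp h).2
        rw [hef₁] at this
        exact one_ne_zero this
      have h3 := finrank_sup_span_singleton (cutS q E f₁) hn1
      have hle : cutS q E f₁ ⊔ Submodule.span F {e₁} ≤ E :=
        sup_le hE'E ((Submodule.span_singleton_le_iff_mem e₁ E).mpr he₁)
      have h5' := Submodule.finrank_mono hle
      omega
    obtain ⟨u', w', hfr, hu', hw'⟩ := ih (cutS q E f₁) (cutS q E' e₁) hp' hfin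
    refine ⟨Fin.cons e₁ u', Fin.cons f₁ w', ⟨?_, ?_, ?_⟩, ?_, ?_⟩
    · intro i j
      refine Fin.cases ?_ (fun i => ?_) i <;> refine Fin.cases ?_ (fun j => ?_) j
      · simpa using hee
      · simpa using hp.tsE _ he₁ _ ((memE' _).mp (hu' j)).1
      · simpa using hp.tsE _ ((memE' _).mp (hu' i)).1 _ he₁
      · simpa using hfr.uu i j
    · intro i j
      refine Fin.cases ?_ (fun i => ?_) i <;> refine Fin.cases ?_ (fun j => ?_) j
      · simpa using hff
      · simpa using hp.tsF _ hf₁ _ ((memF' _).mp (hw' j)).1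
      · simpa using hp.tsF _ ((memF' _).mp (hw' i)).1 _ hf₁
      · simpa using hfr.ww i j
    · intro i j
      refine Fin.cases ?_ (fun i => ?_) i <;> refine Fin.cases ?_ (fun j => ?_) j
      · simpa using hef₁
      · rw [Fin.cons_zero, Fin.cons_succ, if_neg (Fin.succ_ne_zero j).symm]
        exact h_eq_zero_of_swap ((memF' _).mp (hw' j)).2
      · rw [Fin.cons_zero, Fin.cons_succ, if_neg (Fin.succ_ne_zero i)]
        exact ((memE' _).mp (hu' i)).2
      · rw [Fin.cons_succ, Fin.cons_succ, hfr.uw i j]
        simp only [Fin.succ_inj]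
    · intro i
      refine Fin.cases ?_ (fun i => ?_) i
      · simpa using he₁
      · simpa using ((memE' _).mp (hu' i)).1
    · intro i
      refine Fin.cases ?_ (fun i => ?_) i
      · simpa using hf₁
      · simpa using ((memF' _).mp (hw' i)).1

end Cfsg.Agent.Helper7.Pol
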