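import Mathlib
import Cfsg.Agent.Helper7.PolA

set_option autoImplicit false
set_option linter.unusedSectionVars false

/-!
Stabilisers of pairs of complementary totally isotropic subspaces: membership, rescaling of
frames, correction of determinants, and conjugation of an element with an eigen-frame into the
stabiliser (helper7).
-/

namespace Cfsg.Agent.Helper7.Pol

open Matrix Module Cfsg Cfsg.Agent.Helper7.Herm Cfsg.Agent.Helper8.GUOrder Cfsg.Agent.Helper8.SURoot
  Cfsg.Agent.Helper8.AutSU Cfsg.Agent.Helper7.SUMax Cfsg.Agent.Helper7.SUNd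
  Cfsg.Agent.Helper7.SUPair Cfsg.Agent.Helper7.Invol Cfsg.Agent.Helper7.Ex27
  Cfsg.Agent.Helper8.MaxSingular

variable {F : Type*} [Field F] [Fintype F] {q N k : ℕ} [hF : Fact (Fintype.card F = q ^ 2)]

/-- Hilbert 90 for the norm-one group, at the level of unit groups. -/
theorem range_eq_ker :
    (powMonoidHom (q - 1) : Fˣ →* Fˣ).range = (powMonoidHom (q + 1) : Fˣ →* Fˣ).ker := by
  have hq := two_le_q hF.out
  apply Subgroup.eq_of_le_of_card_ge
  · rintro _ ⟨x, rfl⟩
    rw [MonoidHom.mem_ker, powMonoidHom_apply, powMonoidHom_apply, ← pow_mul]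
    rw [← qsq_sub_one hF.out, ← card_units_K hF.out]
    exact pow_card_eq_one'
  · rw [IsCyclic.card_powMonoidHom_ker, IsCyclic.card_powMonoidHom_range, card_units_K hF.out,
      qsq_sub_one hF.out]
    rw [Nat.gcd_eq_right (Dvd.intro_left _ rfl), Nat.gcd_eq_right (Dvd.intro _ rfl),
      Nat.mul_div_cancel_left _ (by omega)]

/-- Hilbert 90: a norm-one element is `s^q / s`. -/
theorem exists_pow_q_eq {δ : F} (hδ : δ ^ (q + 1) = 1) : ∃ s : F, s ≠ 0 ∧ s ^ q = δ * s := by
  have hq := two_le_q hF.out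
  have hδ0 : δ ≠ 0 := by
    rintro rfl
    rw [zero_pow (by omega)] at hδ
    exact zero_ne_one hδ
  have hmem : Units.mk0 δ hδ0 ∈ (powMonoidHom (q + 1) : Fˣ →* Fˣ).ker := by
    rw [MonoidHom.mem_ker, powMonoidHom_apply]
    apply Units.ext
    rw [Units.val_pow_eq_pow_val, Units.val_mk0, Units.val_one, hδ]
  rw [← range_eq_ker] at hmem
  obtain ⟨s, hs⟩ := hmem
  refine ⟨(s : F), s.ne_zero, ?_⟩
  have := congrArg Units.val hs
  rw [powMonoidHom_apply, Units.val_pow_eq_pow_val, Units.val_mk0] at this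
  rw [← this, ← pow_succ, Nat.sub_add_cancel (by omega)]

omit [Fintype F] hF in
/-- The linear equivalence of an invertible matrix. -/
noncomputable def linG (A : GL (Fin N) F) : (Fin N → F) ≃ₗ[F] (Fin N → F) :=
  LinearEquiv.ofLinear (Matrix.toLin' (A : Matrix (Fin N) (Fin N) F))
    (Matrix.toLin' ((A⁻¹ : GL (Fin N) F) : Matrix (Fin N) (Fin N) F))
    (by rw [← Matrix.toLin'_mul, ← Units.val_mul, mul_inv_cancel, Units.val_one, Matrix.toLin'_one])
    (by rw [← Matrix.toLin'_mul, ← Units.val_mul, inv_mul_cancel, Units.val_one, Matrix.toLin'_one])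

omit [Fintype F] hF in
theorem toLin'_eq_linG (A : GL (Fin N) F) :
    Matrix.toLin' (A : Matrix (Fin N) (Fin N) F) = (linG A).toLinearMap := rfl

omit [Fintype F] hF in
theorem linG_apply (A : GL (Fin N) F) (x : Fin N → F) :
    linG A x = (A : Matrix (Fin N) (Fin N) F) *ᵥ x := by
  show Matrix.toLin' (A : Matrix (Fin N) (Fin N) F) x = _
  rw [Matrix.toLin'_apply]

omit [Fintype F] hF in
/-- Membership in the stabiliser of a decomposition into two subspaces of the same dimension. -/
theorem mem_decomp_iff (D : Fin 2 → Submodule F (Fin N → F))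
    (hfr : finrank F (D 0) = finrank F (D 1)) (A : GL (Fin N) F) :
    A ∈ Cfsg.Geo.decompositionStabilizer D ↔
      ((∀ x ∈ D 0, (A : Matrix (Fin N) (Fin N) F) *ᵥ x ∈ D 0) ∧
        (∀ x ∈ D 1, (A : Matrix (Fin N) (Fin N) F) *ᵥ x ∈ D 1)) ∨
      ((∀ x ∈ D 0, (A : Matrix (Fin N) (Fin N) F) *ᵥ x ∈ D 1) ∧
        (∀ x ∈ D 1, (A : Matrix (Fin N) (Fin N) F) *ᵥ x ∈ D 0)) := by
  have h01 : ∀ j : Fin 2, j = 0 ∨ j = 1 := by decide
  have hdef : A ∈ Cfsg.Geo.decompositionStabilizer D ↔
      ∃ σ : Equiv.Perm (Fin 2), ∀ i, (D i).map (linG A).toLinearMap = D (σ i) := Iff.rfl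
  rw [hdef]
  simp only [← linG_apply]
  constructor
  · rintro ⟨σ, hσ⟩
    have hmap : ∀ i, ∀ x ∈ D i, linG A x ∈ D (σ i) := by
      intro i x hx
      rw [← hσ i]
      exact ⟨x, hx, rfl⟩
    rcases h01 (σ 0) with h0 | h0
    · have h1 : σ 1 = 1 := by
        rcases h01 (σ 1) with h | h
        · exact absurd (σ.injective (h0.trans h.symm)) (by decide)
        · exact h
      left
      refine ⟨fun x hx => ?_, fun x hx => ?_⟩
      · have := hmap 0 x hx
        rwa [h0] at this
      · have := hmap 1 x hx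
        rwa [h1] at this
    · have h1 : σ 1 = 0 := by
        rcases h01 (σ 1) with h | h
        · exact h
        · exact absurd (σ.injective (h0.trans h.symm)) (by decide)
      right
      refine ⟨fun x hx => ?_, fun x hx => ?_⟩
      · have := hmap 0 x hx
        rwa [h0] at this
      · have := hmap 1 x hx
        rwa [h1] at this
  · rintro (⟨h0, h1⟩ | ⟨h0, h1⟩)
    · refine ⟨1, fun i => ?_⟩
      rw [Equiv.Perm.one_apply]
      rcases h01 i with rfl | rfl
      · apply Submodule.eq_of_le_of_finrank_eq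
        · rintro _ ⟨x, hx, rfl⟩
          exact h0 x hx
        · exact LinearEquiv.finrank_map_eq _ _
      · apply Submodule.eq_of_le_of_finrank_eq
        · rintro _ ⟨x, hx, rfl⟩
          exact h1 x hx
        · exact LinearEquiv.finrank_map_eq _ _
    · refine ⟨Equiv.swap 0 1, fun i => ?_⟩
      rcases h01 i with rfl | rfl
      · rw [Equiv.swap_apply_left]
        apply Submodule.eq_of_le_of_finrank_eq
        · rintro _ ⟨x, hx, rfl⟩
          exact h0 x hx
        · rw [← hfr]
          exact LinearEquiv.finrank_map_eq _ _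
      · rw [Equiv.swap_apply_right]
        apply Submodule.eq_of_le_of_finrank_eq
        · rintro _ ⟨x, hx, rfl⟩
          exact h1 x hx
        · rw [hfr]
          exact LinearEquiv.finrank_map_eq _ _

/-- The data of a decomposition into two totally isotropic subspaces. -/
theorem lpair_of_decomp (D : Fin 2 → Submodule F (Fin N → F))
    (hD : Cfsg.Geo.IsMDecomposition k D)
    (hts : ∀ i, Cfsg.Geo.IsTotallySingularFor (Cfsg.hermForm N F q) (D i)) :
    LPair q (D 0) (D 1) ∧ finrank F (D 0) = k ∧ finrank F (D 1) = k ∧ k + k = N := by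
  have hd : LPair q (D 0) (D 1) := by
    refine ⟨hts 0, hts 1, (hD.indep.pairwiseDisjoint (by decide : (0 : Fin 2) ≠ 1)).eq_bot, ?_⟩
    rw [← hD.iSup_eq_top]
    apply le_antisymm
    · exact sup_le (le_iSup D 0) (le_iSup D 1)
    · apply iSup_le
      intro i
      have : ∀ j : Fin 2, j = 0 ∨ j = 1 := by decide
      rcases this i with rfl | rfl
      · exact le_sup_left
      · exact le_sup_right
  have hf0 : finrank F (D 0) = k := hD.finrank_eq 0
  have hf1 : finrank F (D 1) = k := hD.finrank_eq 1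
  refine ⟨hd, hf0, hf1, ?_⟩
  have h1 := Submodule.finrank_sup_add_finrank_inf_eq (D 0) (D 1)
  rw [hd.sup, hd.inf, finrank_top, finrank_bot, Module.finrank_pi, hf0, hf1,
    Fintype.card_fin] at h1
  omega

/-- Rescaling a frame. -/
theorem HFrame.scale {u w : Fin k → (Fin N → F)} (h : HFrame q u w) (a : Fin k → F)
    (ha : ∀ i, a i ≠ 0) : HFrame q (fun i => a i • u i) (fun i => ((a i) ^ q)⁻¹ • w i) := by
  refine ⟨fun i j => ?_, fun i j => ?_, fun i j => ?_⟩
  · rw [hermForm_smul_left, hermForm_smul_right, h.uu, mul_zero, mul_zero]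
  · rw [hermForm_smul_left, hermForm_smul_right, h.ww, mul_zero, mul_zero]
  · rw [hermForm_smul_left, hermForm_smul_right, h.uw]
    by_cases hij : i = j
    · rw [if_pos hij, mul_one, hij, inv_pow, bb, mul_inv_cancel₀ (ha j)]
    · rw [if_neg hij, mul_zero, mul_zero]

/-- The determinant of a unitary matrix has norm one. -/
theorem det_GU_norm_gen {g : GL (Fin N) F} (hg : g ∈ GU N F q) :
    (g : Matrix (Fin N) (Fin N) F).det ^ (q + 1) = 1 := by
  have h := (mem_GU_iff hF.out g).mp hg
  have h2 := congrArg Matrix.det h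
  rw [Matrix.det_mul, Matrix.det_transpose, det_map_q hF.out, Matrix.det_one] at h2
  rw [pow_succ']
  exact h2

/-- The span of the first half of a frame contained in a subspace of the right dimension. -/
theorem HFrame.span_left {u w : Fin k → (Fin N → F)} (h : HFrame q u w)
    {E : Submodule F (Fin N → F)} (hu : ∀ i, u i ∈ E) (hE : finrank F E = k) :
    Submodule.span F (Set.range u) = E := by
  have hli : LinearIndependent F u := by
    have := h.li.comp (Fin.castAdd k) (Fin.castAdd_injective k k)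
    convert this using 1
    ext i : 1
    simp
  apply Submodule.eq_of_le_of_finrank_eq
  · rw [Submodule.span_le]
    rintro _ ⟨i, rfl⟩
    exact hu i
  · rw [finrank_span_eq_card hli, Fintype.card_fin, hE]

/-- **Conjugation into the stabiliser**: an element all of whose frame vectors, for some
hyperbolic frame, are eigenvectors is conjugate under `SU` into the stabiliser of a given pair of
complementary totally isotropic subspaces. -/
theorem exists_conj_mem_stab (D : Fin 2 → Submodule F (Fin N → F))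
    (hD : Cfsg.Geo.IsMDecomposition k D)
    (hts : ∀ i, Cfsg.Geo.IsTotallySingularFor (Cfsg.hermForm N F q) (D i))
    {u' w' : Fin k → (Fin N → F)} (h' : HFrame q u' w') (x : GL (Fin N) F)
    (hxu : ∀ i, ∃ μ : F, (x : Matrix (Fin N) (Fin N) F) *ᵥ u' i = μ • u' i)
    (hxw : ∀ i, ∃ μ : F, (x : Matrix (Fin N) (Fin N) F) *ᵥ w' i = μ • w' i) :
    ∃ g ∈ Cfsg.GU N F q ⊓ Cfsg.Geo.specialLinear (Fin N) F,
      g⁻¹ * x * g ∈ Cfsg.Geo.decompositionStabilizer D := by
  classical
  obtain ⟨hd, hf0, hf1, hsum⟩ := lpair_of_decomp (q := q) D hD hts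
  obtain ⟨u, w, hfr, hu, hw⟩ := exists_frame_of_paired (q := q) k (D 0) (D 1) hd.paired hf0
  obtain ⟨g₁, hg₁u, hg₁w⟩ := hfr.exists_GU h'
  have hkpos := hD.pos
  obtain ⟨k', rfl⟩ : ∃ k', k = k' + 1 := ⟨k - 1, by omega⟩
  obtain ⟨s, hs0, hs⟩ := exists_pow_q_eq (q := q) (det_GU_norm_gen (q := q) g₁.2)
  set δ := (mg g₁).det with hδ
  have hδ0 : δ ≠ 0 := by
    intro h0
    have := det_GU_norm_gen (q := q) g₁.2
    rw [show ((g₁ : GL (Fin N) F) : Matrix (Fin N) (Fin N) F).det = δ from rfl, h0,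
      zero_pow (by omega)] at this
    exact zero_ne_one this
  set a : Fin (k' + 1) → F := fun i => if i = 0 then s else 1 with ha
  have ha0 : ∀ i, a i ≠ 0 := by
    intro i
    rw [ha]
    by_cases hi : i = 0
    · simp only [if_pos hi]; exact hs0
    · simp only [if_neg hi]; exact one_ne_zero
  have hfr'' := h'.scale a ha0
  obtain ⟨g₂, hg₂u, hg₂w⟩ := h'.exists_GU hfr''
  -- determinant of g₂
  obtain ⟨bb, hbb⟩ := h'.exists_basis hsum.symm
  have hdet₂ : (mg g₂).det = δ⁻¹ := by
    have := det_of_diag_basis (mg g₂) bb (Fin.append a (fun i => ((a i) ^ q)⁻¹)) (fun i => by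
      rw [hbb]
      refine Fin.addCases (fun c => ?_) (fun c => ?_) i
      · rw [Fin.append_left, Fin.append_left, hg₂u]
      · rw [Fin.append_right, Fin.append_right, hg₂w])
    rw [this, Fin.prod_univ_add]
    simp only [Fin.append_left, Fin.append_right]
    rw [Finset.prod_inv_distrib, Finset.prod_pow]
    have hprod : ∏ i, a i = s := by
      rw [ha, Finset.prod_ite_eq' Finset.univ (0 : Fin (k' + 1)) (fun _ => s)]
      simp
    rw [hprod, hs, mul_inv, mul_comm δ⁻¹, ← mul_assoc, mul_inv_cancel₀ hs0, one_mul]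
  refine ⟨(g₂ : GL (Fin N) F) * (g₁ : GL (Fin N) F),
    Subgroup.mem_inf.mpr ⟨Subgroup.mul_mem _ g₂.2 g₁.2, (mem_SL_iff _).mpr ?_⟩, ?_⟩
  · rw [Units.val_mul, Matrix.det_mul]
    show (mg g₂).det * (mg g₁).det = 1
    rw [hdet₂, ← hδ, inv_mul_cancel₀ hδ0]
  · set g : GL (Fin N) F := (g₂ : GL (Fin N) F) * (g₁ : GL (Fin N) F) with hg
    have hgu : ∀ i, (g : Matrix (Fin N) (Fin N) F) *ᵥ u i = a i • u' i := by
      intro i
      rw [hg, Units.val_mul, ← Matrix.mulVec_mulVec]
      show mg g₂ *ᵥ (mg g₁ *ᵥ u i) = _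
      rw [hg₁u, hg₂u]
    have hgw : ∀ i, (g : Matrix (Fin N) (Fin N) F) *ᵥ w i = ((a i) ^ q)⁻¹ • w' i := by
      intro i
      rw [hg, Units.val_mul, ← Matrix.mulVec_mulVec]
      show mg g₂ *ᵥ (mg g₁ *ᵥ w i) = _
      rw [hg₁w, hg₂w]
    have hinv : ∀ v, ((g⁻¹ : GL (Fin N) F) : Matrix (Fin N) (Fin N) F) *ᵥ
        ((g : Matrix (Fin N) (Fin N) F) *ᵥ v) = v := by
      intro v
      rw [Matrix.mulVec_mulVec, ← Units.val_mul, inv_mul_cancel, Units.val_one, Matrix.one_mulVec]
    have hconj : ∀ (v v' : Fin N → F) (c μ : F), (g : Matrix (Fin N) (Fin N) F) *ᵥ v = c • v' →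
        (x : Matrix (Fin N) (Fin N) F) *ᵥ v' = μ • v' →
        ((g⁻¹ * x * g : GL (Fin N) F) : Matrix (Fin N) (Fin N) F) *ᵥ v = μ • v := by
      intro v v' c μ h1 h2
      rw [Units.val_mul, Units.val_mul, ← Matrix.mulVec_mulVec, ← Matrix.mulVec_mulVec, h1,
        Matrix.mulVec_smul, h2, smul_comm, ← h1, Matrix.mulVec_smul, hinv]
    rw [mem_decomp_iff D (hf0.trans hf1.symm)]
    left
    constructor
    · intro v hv
      rw [← hfr.span_left hu hf0] at hv
      have hle : Submodule.span F (Set.range u) ≤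
          (D 0).comap (Matrix.toLin' ((g⁻¹ * x * g : GL (Fin N) F) :
            Matrix (Fin N) (Fin N) F)) := by
        rw [Submodule.span_le]
        rintro _ ⟨i, rfl⟩
        obtain ⟨μ, hμ⟩ := hxu i
        show Matrix.toLin' _ (u i) ∈ D 0
        rw [Matrix.toLin'_apply, hconj (u i) (u' i) (a i) μ (hgu i) hμ]
        exact (D 0).smul_mem _ (hu i)
      have := hle hv
      rwa [Submodule.mem_comap, Matrix.toLin'_apply] at this
    · intro v hv
      rw [← hfr.symm.span_left hw hf1] at hv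
      have hle : Submodule.span F (Set.range w) ≤
          (D 1).comap (Matrix.toLin' ((g⁻¹ * x * g : GL (Fin N) F) :
            Matrix (Fin N) (Fin N) F)) := by
        rw [Submodule.span_le]
        rintro _ ⟨i, rfl⟩
        obtain ⟨μ, hμ⟩ := hxw i
        show Matrix.toLin' _ (w i) ∈ D 1
        rw [Matrix.toLin'_apply, hconj (w i) (w' i) _ μ (hgw i) hμ]
        exact (D 1).smul_mem _ (hw i)
      have := hle hv
      rwa [Submodule.mem_comap, Matrix.toLin'_apply] at this

end Cfsg.Agent.Helper7.Pol
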