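import Mathlib
import Cfsg.Agent.Helper7.PolB

set_option autoImplicit false
set_option linter.unusedSectionVars false

/-!
Derangements of the action on pairs of complementary totally isotropic subspaces, I: scalar
multiples of unitary pseudo-reflections (transvections and reflections) stabilise no pair
(helper7).
-/

namespace Cfsg.Agent.Helper7.Pol

open Matrix Module Cfsg Cfsg.Agent.Helper7.Herm Cfsg.Agent.Helper8.GUOrder Cfsg.Agent.Helper8.SURoot
  Cfsg.Agent.Helper8.AutSU Cfsg.Agent.Helper7.SUMax Cfsg.Agent.Helper7.SUNd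
  Cfsg.Agent.Helper7.SUPair Cfsg.Agent.Helper7.Invol Cfsg.Agent.Helper7.Ex27
  Cfsg.Agent.Helper8.MaxSingular

variable {F : Type*} [Field F] [Fintype F] {q N k : ℕ} [hF : Fact (Fintype.card F = q ^ 2)]

/-- The pair stabilised by `x` when a unitary conjugate of `x` stabilises the given pair. -/
theorem exists_lpair_of_conj (D : Fin 2 → Submodule F (Fin N → F))
    (hD : Cfsg.Geo.IsMDecomposition k D)
    (hts : ∀ i, Cfsg.Geo.IsTotallySingularFor (Cfsg.hermForm N F q) (D i))
    {x g : GL (Fin N) F} (hg : g ∈ GU N F q)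
    (h : g⁻¹ * x * g ∈ Cfsg.Geo.decompositionStabilizer D) :
    ∃ E E' : Submodule F (Fin N → F), LPair q E E' ∧ finrank F E = k ∧ finrank F E' = k ∧
      (((∀ v ∈ E, (x : Matrix (Fin N) (Fin N) F) *ᵥ v ∈ E) ∧
          (∀ v ∈ E', (x : Matrix (Fin N) (Fin N) F) *ᵥ v ∈ E')) ∨
        ((∀ v ∈ E, (x : Matrix (Fin N) (Fin N) F) *ᵥ v ∈ E') ∧
          (∀ v ∈ E', (x : Matrix (Fin N) (Fin N) F) *ᵥ v ∈ E))) := by
  obtain ⟨hd, hf0, hf1, hsum⟩ := lpair_of_decomp (q := q) D hD hts
  have hgU : ∀ u v, hermForm N F q ((g : Matrix (Fin N) (Fin N) F) *ᵥ u)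
      ((g : Matrix (Fin N) (Fin N) F) *ᵥ v) = hermForm N F q u v := fun u v => hg u v
  have hmem : ∀ (A : Submodule F (Fin N → F)) (v : Fin N → F),
      v ∈ A.map (linG g).toLinearMap ↔ ∃ y ∈ A, (g : Matrix (Fin N) (Fin N) F) *ᵥ y = v := by
    intro A v
    rw [Submodule.mem_map]
    simp only [LinearEquiv.coe_coe, linG_apply]
  have hxg : ∀ y, (x : Matrix (Fin N) (Fin N) F) *ᵥ ((g : Matrix (Fin N) (Fin N) F) *ᵥ y) =
      (g : Matrix (Fin N) (Fin N) F) *ᵥ
        (((g⁻¹ * x * g : GL (Fin N) F) : Matrix (Fin N) (Fin N) F) *ᵥ y) := by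
    intro y
    rw [Matrix.mulVec_mulVec, Matrix.mulVec_mulVec, ← Units.val_mul, ← Units.val_mul]
    congr 2
    group
  refine ⟨(D 0).map (linG g).toLinearMap, (D 1).map (linG g).toLinearMap, ⟨?_, ?_, ?_, ?_⟩,
    ?_, ?_, ?_⟩
  · intro a ha b hb
    obtain ⟨a', ha', rfl⟩ := (hmem _ _).mp ha
    obtain ⟨b', hb', rfl⟩ := (hmem _ _).mp hb
    rw [hgU]
    exact hd.tsE a' ha' b' hb'
  · intro a ha b hb
    obtain ⟨a', ha', rfl⟩ := (hmem _ _).mp ha
    obtain ⟨b', hb', rfl⟩ := (hmem _ _).mp hb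
    rw [hgU]
    exact hd.tsF a' ha' b' hb'
  · rw [← Submodule.map_inf _ (linG g).injective, hd.inf, Submodule.map_bot]
  · rw [← Submodule.map_sup, hd.sup, Submodule.map_top, LinearEquiv.range]
  · rw [LinearEquiv.finrank_map_eq, hf0]
  · rw [LinearEquiv.finrank_map_eq, hf1]
  · rcases (mem_decomp_iff D (hf0.trans hf1.symm) _).mp h with ⟨h0, h1⟩ | ⟨h0, h1⟩
    · left
      constructor
      · intro v hv
        obtain ⟨y, hy, rfl⟩ := (hmem _ _).mp hv
        rw [hxg]
        exact (hmem _ _).mpr ⟨_, h0 y hy, rfl⟩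
      · intro v hv
        obtain ⟨y, hy, rfl⟩ := (hmem _ _).mp hv
        rw [hxg]
        exact (hmem _ _).mpr ⟨_, h1 y hy, rfl⟩
    · right
      constructor
      · intro v hv
        obtain ⟨y, hy, rfl⟩ := (hmem _ _).mp hv
        rw [hxg]
        exact (hmem _ _).mpr ⟨_, h0 y hy, rfl⟩
      · intro v hv
        obtain ⟨y, hy, rfl⟩ := (hmem _ _).mp hv
        rw [hxg]
        exact (hmem _ _).mpr ⟨_, h1 y hy, rfl⟩

/-- A scalar multiple of a pseudo-reflection stabilises no pair of complementary totally isotropic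
subspaces of dimension at least two. -/
theorem not_stab_of_pseudo (x : Matrix (Fin N) (Fin N) F) (c a : F) (v : Fin N → F)
    (hc : c ≠ 0) (ha : a ≠ 0) (hv : v ≠ 0)
    (hx : ∀ y, x *ᵥ y = c • (y + (a * hermForm N F q y v) • v))
    {E E' : Submodule F (Fin N → F)} (hd : LPair q E E') (hE : 2 ≤ finrank F E) :
    ¬ (((∀ y ∈ E, x *ᵥ y ∈ E) ∧ (∀ y ∈ E', x *ᵥ y ∈ E')) ∨
        ((∀ y ∈ E, x *ᵥ y ∈ E') ∧ (∀ y ∈ E', x *ᵥ y ∈ E))) := by
  have key : ∀ A : Submodule F (Fin N → F), (∀ y ∈ A, x *ᵥ y ∈ A) →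
      (∀ y ∈ A, hermForm N F q y v = 0) ∨ v ∈ A := by
    intro A hA
    by_contra hcon
    push Not at hcon
    obtain ⟨⟨y, hy, hyv⟩, hvA⟩ := hcon
    apply hvA
    have h1 := hA y hy
    rw [hx] at h1
    have h2 : y + (a * hermForm N F q y v) • v ∈ A := by
      have := A.smul_mem c⁻¹ h1
      rwa [smul_smul, inv_mul_cancel₀ hc, one_smul] at this
    have h3 : (a * hermForm N F q y v) • v ∈ A := by
      have := A.sub_mem h2 hy
      rwa [add_sub_cancel_left] at this
    have h4 := A.smul_mem (a * hermForm N F q y v)⁻¹ h3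
    rwa [smul_smul, inv_mul_cancel₀ (mul_ne_zero ha hyv), one_smul] at h4
  rintro (⟨h0, h1⟩ | ⟨h0, h1⟩)
  · have p0 : ∀ y ∈ E, hermForm N F q y v = 0 := by
      rcases key E h0 with h | h
      · exact h
      · exact fun y hy => hd.tsE y hy v h
    have p1 : ∀ y ∈ E', hermForm N F q y v = 0 := by
      rcases key E' h1 with h | h
      · exact h
      · exact fun y hy => hd.tsF y hy v h
    apply hv
    apply eq_zero_of_h_left (q := q)
    intro y
    obtain ⟨e, he, f, hf, rfl⟩ := hd.exists_dec y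
    rw [hermForm_add_left, p0 e he, p1 f hf, add_zero]
  · have h1' := finrank_le_cutS (q := q) E v
    have hne : cutS q E v ≠ ⊥ := by
      intro hb
      rw [hb, finrank_bot] at h1'
      omega
    obtain ⟨y, hy, hy0⟩ := Submodule.exists_mem_ne_zero_of_ne_bot hne
    have hyE : y ∈ E := hy.1
    have hyv : hermForm N F q y v = 0 := hy.2
    have h2 := h0 y hyE
    rw [hx, hyv, mul_zero, zero_smul, add_zero] at h2
    have h3 : y ∈ E' := by
      have := E'.smul_mem c⁻¹ h2
      rwa [smul_smul, inv_mul_cancel₀ hc, one_smul] at this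
    exact hy0 (hd.eq_zero_of_mem_of_mem hyE h3)

/-- A scalar multiple of a pseudo-reflection is not a scalar, in dimension at least two. -/
theorem not_scalar_of_pseudo (hN : 2 ≤ N) (x : Matrix (Fin N) (Fin N) F) (c a : F)
    (v : Fin N → F) (hc : c ≠ 0) (ha : a ≠ 0) (hv : v ≠ 0)
    (hx : ∀ y, x *ᵥ y = c • (y + (a * hermForm N F q y v) • v)) (z : F) :
    x ≠ z • (1 : Matrix (Fin N) (Fin N) F) := by
  intro hxz
  have h1' := finrank_le_cutS (q := q) (⊤ : Submodule F (Fin N → F)) v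
  rw [finrank_top, Module.finrank_fin_fun] at h1'
  have hne : cutS q (⊤ : Submodule F (Fin N → F)) v ≠ ⊥ := by
    intro hb
    rw [hb, finrank_bot] at h1'
    omega
  obtain ⟨y, hy, hy0⟩ := Submodule.exists_mem_ne_zero_of_ne_bot hne
  have hyv : hermForm N F q y v = 0 := hy.2
  have h2 := hx y
  rw [hxz, Matrix.smul_mulVec, Matrix.one_mulVec, hyv, mul_zero, zero_smul, add_zero] at h2
  have hzc : z = c := by
    by_contra hne
    apply hy0
    have : (z - c) • y = 0 := by rw [sub_smul, h2, sub_self]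
    exact (smul_eq_zero.mp this).resolve_left (sub_ne_zero.mpr hne)
  apply hv
  apply eq_zero_of_h_left (q := q)
  intro y'
  have h3 := hx y'
  rw [hxz, Matrix.smul_mulVec, Matrix.one_mulVec, hzc, smul_add] at h3
  have h4 : c • (a * hermForm N F q y' v) • v = 0 := by
    have := h3
    rwa [left_eq_add] at this
  rw [smul_smul] at h4
  rcases smul_eq_zero.mp h4 with h5 | h5
  · rcases mul_eq_zero.mp h5 with h6 | h6
    · exact absurd h6 hc
    · exact (mul_eq_zero.mp h6).resolve_left ha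
  · exact absurd h5 hv

omit [Fintype F] hF in
/-- Scalar matrices as elements of `GL`. -/
def scalG (N : ℕ) (c : F) (hc : c ≠ 0) : GL (Fin N) F :=
  ⟨c • 1, c⁻¹ • 1, by rw [smul_mul_smul_comm, mul_inv_cancel₀ hc, one_mul, one_smul],
    by rw [smul_mul_smul_comm, inv_mul_cancel₀ hc, one_mul, one_smul]⟩

omit hF in
theorem scalG_mem_GU (c : F) (hc : c ≠ 0) (hcq : c ^ (q + 1) = 1) : scalG N c hc ∈ GU N F q := by
  intro u v
  show hermForm N F q ((c • (1 : Matrix (Fin N) (Fin N) F)) *ᵥ u)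
    ((c • (1 : Matrix (Fin N) (Fin N) F)) *ᵥ v) = _
  rw [Matrix.smul_mulVec, Matrix.smul_mulVec, Matrix.one_mulVec, Matrix.one_mulVec,
    hermForm_smul_left, hermForm_smul_right, ← mul_assoc, ← pow_succ', hcq, one_mul]

/-- The pseudo-reflection `y ↦ y + a h(y, v) v` has determinant `1 + a h(v, v)`. -/
theorem det_pseudo (v : Fin N → F) (a : F) :
    (unitaryTransvection N q v a).det = 1 + a * hermForm N F q v v := by
  unfold unitaryTransvection
  rw [← Matrix.smul_vecMulVec, Matrix.vecMulVec_eq (Fin 1),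
    det_one_add_replicateCol_mul_replicateRow]
  have : (fun j => v j ^ q) ⬝ᵥ (a • v) = a * hermForm N F q v v := by
    unfold hermForm
    rw [dotProduct, Finset.mul_sum]
    apply Finset.sum_congr rfl
    intro i _
    simp only [Pi.smul_apply, smul_eq_mul]
    ring
  rw [this]

/-- Powers of a transvection. -/
theorem T_pow {v : Fin N → F} (hv : hermForm N F q v v = 0) (a : F) (m : ℕ) :
    unitaryTransvection N q v a ^ m = unitaryTransvection N q v (m * a) := by
  induction m with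
  | zero => rw [pow_zero, Nat.cast_zero, zero_mul, T_zero]
  | succ m ih =>
    rw [pow_succ, ih, T_mul_T, hv, mul_zero, add_zero]
    congr 1
    push_cast
    ring

/-- **Derangements from pseudo-reflections.** -/
theorem pseudo_derangement (D : Fin 2 → Submodule F (Fin N → F))
    (hD : Cfsg.Geo.IsMDecomposition k D)
    (hts : ∀ i, Cfsg.Geo.IsTotallySingularFor (Cfsg.hermForm N F q) (D i)) (hk : 2 ≤ k)
    (x : GL (Fin N) F) (c a : F) (v : Fin N → F) (hc : c ≠ 0) (ha : a ≠ 0) (hv : v ≠ 0)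
    (hx : ∀ y, (x : Matrix (Fin N) (Fin N) F) *ᵥ y = c • (y + (a * hermForm N F q y v) • v)) :
    (∀ z : F, (x : Matrix (Fin N) (Fin N) F) ≠ z • (1 : Matrix (Fin N) (Fin N) F)) ∧
      ∀ g ∈ Cfsg.GU N F q ⊓ Cfsg.Geo.specialLinear (Fin N) F,
        g⁻¹ * x * g ∉ Cfsg.Geo.decompositionStabilizer D := by
  obtain ⟨-, -, -, hsum⟩ := lpair_of_decomp (q := q) D hD hts
  refine ⟨not_scalar_of_pseudo (q := q) (by omega) _ c a v hc ha hv hx, fun g hg hmem => ?_⟩
  obtain ⟨E, E', hd, hfE, -, hst⟩ := exists_lpair_of_conj (q := q) D hD hts hg.1 hmem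
  exact not_stab_of_pseudo (q := q) _ c a v hc ha hv hx hd (by omega) hst

end Cfsg.Agent.Helper7.Pol
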