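import Mathlib
import Cfsg.Agent.Helper7.PolC

set_option autoImplicit false
set_option linter.unusedSectionVars false

/-!
Derangements of the action on pairs of complementary totally isotropic subspaces, II: unitary
transvections (order `p`) and reflections times scalars (order two modulo scalars), together with
the arithmetic of the 2-parts of `q + 1` and `n` (helper7).
-/

namespace Cfsg.Agent.Helper7.Pol

open Matrix Module Cfsg Cfsg.Agent.Helper7.Herm Cfsg.Agent.Helper8.GUOrder Cfsg.Agent.Helper8.SURoot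
  Cfsg.Agent.Helper8.AutSU Cfsg.Agent.Helper7.SUMax Cfsg.Agent.Helper7.SUNd
  Cfsg.Agent.Helper7.SUPair Cfsg.Agent.Helper7.Invol Cfsg.Agent.Helper7.Ex27
  Cfsg.Agent.Helper8.MaxSingular

variable {F : Type*} [Field F] [Fintype F] {q N k : ℕ} [hF : Fact (Fintype.card F = q ^ 2)]

/-- **Transvections are derangements of order `p`.** -/
theorem derangement_p {p : ℕ} [CharP F p] (D : Fin 2 → Submodule F (Fin N → F))
    (hD : Cfsg.Geo.IsMDecomposition k D)
    (hts : ∀ i, Cfsg.Geo.IsTotallySingularFor (Cfsg.hermForm N F q) (D i)) (hk : 2 ≤ k) :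
    ∃ x ∈ Cfsg.GU N F q ⊓ Cfsg.Geo.specialLinear (Fin N) F,
      (∃ z : F, ((x ^ p : GL (Fin N) F) : Matrix (Fin N) (Fin N) F) =
        z • (1 : Matrix (Fin N) (Fin N) F)) ∧
      (∀ z : F, (x : Matrix (Fin N) (Fin N) F) ≠ z • (1 : Matrix (Fin N) (Fin N) F)) ∧
      ∀ g ∈ Cfsg.GU N F q ⊓ Cfsg.Geo.specialLinear (Fin N) F,
        g⁻¹ * x * g ∉ Cfsg.Geo.decompositionStabilizer D := by
  obtain ⟨hd, hf0, -, -⟩ := lpair_of_decomp (q := q) D hD hts
  obtain ⟨v, hv, hv0⟩ : ∃ v ∈ D 0, v ≠ 0 := by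
    by_contra hcon
    push Not at hcon
    have := (Submodule.eq_bot_iff _).mpr hcon
    rw [this, finrank_bot] at hf0
    omega
  have hvv : hermForm N F q v v = 0 := hd.tsE v hv v hv
  obtain ⟨ε, hε0, hε⟩ := exists_tz_ne_zero (F := F) (q := q)
  have hadm : ε ^ q + ε + ε * ε ^ q * hermForm N F q v v = 0 := by
    rw [hvv, mul_zero, add_zero, hε]
  have hx : ∀ y, ((TG v ε hadm : GL (Fin N) F) : Matrix (Fin N) (Fin N) F) *ᵥ y =
      (1 : F) • (y + (ε * hermForm N F q y v) • v) := by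
    intro y
    show unitaryTransvection N q v ε *ᵥ y = _
    rw [unitaryTransvection_mulVec, one_smul]
  obtain ⟨h1, h2⟩ := pseudo_derangement (q := q) D hD hts hk (TG v ε hadm) 1 ε v one_ne_zero hε0
    hv0 hx
  refine ⟨TG v ε hadm, Subgroup.mem_inf.mpr ⟨TG_mem hF.out v ε hadm, (mem_SL_iff _).mpr ?_⟩,
    ⟨1, ?_⟩, h1, h2⟩
  · show (unitaryTransvection N q v ε).det = 1
    rw [det_pseudo, hvv, mul_zero, add_zero]
  · rw [Units.val_pow_eq_pow_val]
    show unitaryTransvection N q v ε ^ p = _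
    rw [T_pow hvv, CharP.cast_eq_zero, zero_mul, T_zero, one_smul]

omit [Fintype F] hF in
/-- The unit vector. -/
theorem herm_single_self (hN : 1 ≤ N) :
    ∃ v : Fin N → F, v ≠ 0 ∧ hermForm N F q v v = 1 := by
  obtain ⟨n, rfl⟩ : ∃ n, N = n + 1 := ⟨N - 1, by omega⟩
  refine ⟨Pi.single 0 1, ?_, ?_⟩
  · intro h
    have := congrFun h 0
    simp at this
  · unfold hermForm
    rw [Finset.sum_eq_single (0 : Fin (n + 1))]
    · simp
    · intro b _ hb
      simp [Pi.single_eq_of_ne hb]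
    · intro h
      exact absurd (Finset.mem_univ _) h

/-- The Frobenius map fixes `2`. -/
theorem two_pow_q : (2 : F) ^ q = 2 := by
  have : (2 : F) = 1 + 1 := by norm_num
  rw [this, add_pow_q hF.out, one_pow]

/-- **Reflections times scalars are derangements of order two modulo scalars.** -/
theorem derangement_two (h2 : (2 : F) ≠ 0) (D : Fin 2 → Submodule F (Fin N → F))
    (hD : Cfsg.Geo.IsMDecomposition k D)
    (hts : ∀ i, Cfsg.Geo.IsTotallySingularFor (Cfsg.hermForm N F q) (D i)) (hk : 2 ≤ k)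
    (c : F) (hcq : c ^ (q + 1) = 1) (hcN : c ^ N = -1) :
    ∃ x ∈ Cfsg.GU N F q ⊓ Cfsg.Geo.specialLinear (Fin N) F,
      (∃ z : F, ((x ^ 2 : GL (Fin N) F) : Matrix (Fin N) (Fin N) F) =
        z • (1 : Matrix (Fin N) (Fin N) F)) ∧
      (∀ z : F, (x : Matrix (Fin N) (Fin N) F) ≠ z • (1 : Matrix (Fin N) (Fin N) F)) ∧
      ∀ g ∈ Cfsg.GU N F q ⊓ Cfsg.Geo.specialLinear (Fin N) F,
        g⁻¹ * x * g ∉ Cfsg.Geo.decompositionStabilizer D := by
  obtain ⟨-, -, -, hsum⟩ := lpair_of_decomp (q := q) D hD hts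
  obtain ⟨v, hv0, hvv⟩ := herm_single_self (F := F) (q := q) (N := N) (by omega)
  have hc0 : c ≠ 0 := by
    rintro rfl
    rw [zero_pow (by omega)] at hcq
    exact zero_ne_one hcq
  have hm2q : (-2 : F) ^ q = -2 := by rw [neg_pow_q hF.out, two_pow_q]
  have hadm : (-2 : F) ^ q + -2 + -2 * (-2 : F) ^ q * hermForm N F q v v = 0 := by
    rw [hm2q, hvv]
    ring
  set x : GL (Fin N) F := scalG N c hc0 * TG v (-2) hadm with hxdef
  have hxm : (x : Matrix (Fin N) (Fin N) F) = c • unitaryTransvection N q v (-2) := by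
    rw [hxdef, Units.val_mul]
    show (c • (1 : Matrix (Fin N) (Fin N) F)) * unitaryTransvection N q v (-2) = _
    rw [Matrix.smul_mul, Matrix.one_mul]
  have hx : ∀ y, (x : Matrix (Fin N) (Fin N) F) *ᵥ y =
      c • (y + (-2 * hermForm N F q y v) • v) := by
    intro y
    rw [hxm, Matrix.smul_mulVec, unitaryTransvection_mulVec]
  obtain ⟨h1, h2'⟩ := pseudo_derangement (q := q) D hD hts hk x c (-2) v hc0
    (neg_ne_zero.mpr h2) hv0 hx
  refine ⟨x, Subgroup.mem_inf.mpr ⟨Subgroup.mul_mem _ (scalG_mem_GU c hc0 hcq)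
    (TG_mem hF.out v (-2) hadm), (mem_SL_iff _).mpr ?_⟩, ⟨c ^ 2, ?_⟩, h1, h2'⟩
  · rw [hxm, Matrix.det_smul, det_pseudo, hvv, Fintype.card_fin, hcN]
    ring
  · rw [Units.val_pow_eq_pow_val, hxm, smul_pow, pow_two (unitaryTransvection N q v (-2)),
      T_mul_T, hvv]
    have : (-2 : F) + -2 + -2 * -2 * 1 = 0 := by ring
    rw [this, T_zero]

/-- An element of norm one whose `N`-th power is `-1`, when the 2-part of `q + 1` exceeds that of
`N`. -/
theorem exists_norm_one_pow_eq_neg_one (hN : N ≠ 0)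
    (h : padicValNat 2 N < padicValNat 2 (q + 1)) :
    ∃ c : F, c ^ (q + 1) = 1 ∧ c ^ N = -1 := by
  classical
  have hq := two_le_q hF.out
  set b := padicValNat 2 N with hb
  have hdvd : 2 ^ (b + 1) ∣ q + 1 :=
    (padicValNat_dvd_iff_le (by omega)).mpr h
  have hcard : Nat.card Fˣ = (q - 1) * (q + 1) := by
    rw [card_units_K hF.out, qsq_sub_one hF.out]
  obtain ⟨g, hg⟩ := IsCyclic.exists_ofOrder_eq_natCard (α := Fˣ)
  have hdvd' : 2 ^ (b + 1) ∣ Nat.card Fˣ := by
    rw [hcard]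
    exact Dvd.dvd.mul_left hdvd _
  obtain ⟨t, ht⟩ := hdvd'
  have ht0 : t ≠ 0 := by
    rintro rfl
    rw [mul_zero] at ht
    rw [hcard] at ht
    have : 0 < (q - 1) * (q + 1) := Nat.mul_pos (by omega) (by omega)
    omega
  have hord : orderOf (g ^ t) = 2 ^ (b + 1) := by
    rw [orderOf_pow_of_dvd ht0 (by rw [hg, ht]; exact Dvd.intro_left _ rfl), hg, ht,
      Nat.mul_div_cancel _ (Nat.pos_of_ne_zero ht0)]
  set ζ : Fˣ := g ^ t with hζ
  have hζq : ζ ^ (q + 1) = 1 := by
    rw [← orderOf_dvd_iff_pow_eq_one, hord]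
    exact hdvd
  have hζ2 : (ζ ^ 2 ^ b) ^ 2 = 1 := by
    rw [← pow_mul, ← pow_succ, ← hord]
    exact pow_orderOf_eq_one ζ
  have hζne : ζ ^ 2 ^ b ≠ 1 := by
    intro h1
    have := orderOf_dvd_of_pow_eq_one h1
    rw [hord] at this
    have := Nat.le_of_dvd (by positivity) this
    rw [pow_succ] at this
    have : 0 < 2 ^ b := by positivity
    omega
  have hval : ((ζ : F)) ^ 2 ^ b = -1 := by
    have h1 : (((ζ : F)) ^ 2 ^ b) ^ 2 = 1 := by
      have := congrArg Units.val hζ2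
      rwa [Units.val_pow_eq_pow_val, Units.val_pow_eq_pow_val, Units.val_one] at this
    have h2 : ((ζ : F)) ^ 2 ^ b ≠ 1 := by
      intro h3
      apply hζne
      apply Units.ext
      rw [Units.val_pow_eq_pow_val, Units.val_one, h3]
    have h3 : (((ζ : F)) ^ 2 ^ b - 1) * (((ζ : F)) ^ 2 ^ b + 1) = 0 := by
      linear_combination h1
    rcases mul_eq_zero.mp h3 with h4 | h4
    · exact absurd (sub_eq_zero.mp h4) h2
    · linear_combination h4
  obtain ⟨k', m, hm, hNkm⟩ := Nat.exists_eq_two_pow_mul_odd hN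
  have hbk : b = k' := by
    rw [hb, hNkm, padicValNat.mul (by positivity) (by rintro rfl; simp at hm),
      padicValNat.prime_pow, padicValNat.eq_zero_of_not_dvd, add_zero]
    rw [Nat.two_dvd_ne_zero]
    exact Nat.odd_iff.mp hm
  refine ⟨(ζ : F), ?_, ?_⟩
  · have := congrArg Units.val hζq
    rwa [Units.val_pow_eq_pow_val, Units.val_one] at this
  · rw [hNkm, ← hbk, pow_mul, hval, hm.neg_one_pow]

omit [Fintype F] hF in
/-- Conversely, a norm-one element with `N`-th power `-1` forces the 2-part of `q + 1` to exceed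
that of `N`. -/
theorem v2_lt_of_pow (h2 : (2 : F) ≠ 0) (hN : N ≠ 0) {c : F} (hcq : c ^ (q + 1) = 1)
    (hcN : c ^ N = -1) : padicValNat 2 N < padicValNat 2 (q + 1) := by
  by_contra hcon
  push Not at hcon
  obtain ⟨a, m, hm, hqam⟩ := Nat.exists_eq_two_pow_mul_odd (show q + 1 ≠ 0 by omega)
  have hav : padicValNat 2 (q + 1) = a := by
    rw [hqam, padicValNat.mul (by positivity) (by rintro rfl; simp at hm),
      padicValNat.prime_pow, padicValNat.eq_zero_of_not_dvd, add_zero]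
    rw [Nat.two_dvd_ne_zero]
    exact Nat.odd_iff.mp hm
  have hdvd : 2 ^ a ∣ N := by
    rw [padicValNat_dvd_iff_le hN, ← hav]
    exact hcon
  obtain ⟨t, ht⟩ := hdvd
  have h1 : c ^ (N * m) = -1 := by rw [pow_mul, hcN, hm.neg_one_pow]
  have h3 : c ^ (N * m) = 1 := by
    have : N * m = (q + 1) * t := by rw [ht, hqam]; ring
    rw [this, pow_mul, hcq, one_pow]
  rw [h3] at h1
  apply h2
  linear_combination h1

end Cfsg.Agent.Helper7.Pol
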