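import Mathlib
import Cfsg.Agent.Helper7.PolD
import Cfsg.Agent.Helper7.SUNdB

set_option autoImplicit false
set_option linter.unusedSectionVars false

/-!
The Levi complement of the stabiliser of a pair of complementary totally isotropic subspaces: the
embedding of `GL_k(q²)` attached to a hyperbolic frame of `F^(k+k)` (helper7).
-/

namespace Cfsg.Agent.Helper7.Pol

open Matrix Module Cfsg Cfsg.Agent.Helper7.Herm Cfsg.Agent.Helper8.GUOrder Cfsg.Agent.Helper8.SURoot
  Cfsg.Agent.Helper8.AutSU Cfsg.Agent.Helper7.SUMax Cfsg.Agent.Helper7.SUNd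
  Cfsg.Agent.Helper7.SUPair Cfsg.Agent.Helper7.Invol Cfsg.Agent.Helper7.Ex27
  Cfsg.Agent.Helper8.MaxSingular

variable {F : Type*} [Field F] [Fintype F] {q k : ℕ} [hF : Fact (Fintype.card F = q ^ 2)]

omit [Fintype F] hF in
/-- The matrix whose columns are the vectors of a frame. -/
def Pm (u w : Fin k → (Fin (k + k) → F)) : Matrix (Fin (k + k)) (Fin (k + k)) F :=
  Matrix.of fun i j => Fin.append u w j i

omit [Fintype F] hF in
theorem Pm_mulVec (u w : Fin k → (Fin (k + k) → F)) (c : Fin (k + k) → F) :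
    Pm u w *ᵥ c = ∑ j, c j • Fin.append u w j := by
  ext i
  simp only [Pm, Matrix.mulVec, dotProduct, Matrix.of_apply, Finset.sum_apply, Pi.smul_apply,
    smul_eq_mul]
  apply Finset.sum_congr rfl
  intro j _
  ring

omit [Fintype F] hF in
theorem Pm_apv (u w : Fin k → (Fin (k + k) → F)) (x y : Fin k → F) :
    Pm u w *ᵥ apv x y = ∑ i, x i • u i + ∑ i, y i • w i := by
  rw [Pm_mulVec, Fin.sum_univ_add]
  simp only [apv, Fin.append_left, Fin.append_right]

theorem herm_Pm {u w : Fin k → (Fin (k + k) → F)} (h : HFrame q u w) (x y x' y' : Fin k → F) :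
    hermForm (k + k) F q (Pm u w *ᵥ apv x y) (Pm u w *ᵥ apv x' y') =
      hermForm k F q x y' + hermForm k F q y x' := by
  classical
  rw [Pm_apv, Pm_apv, hermForm_add_left, h_add_right, h_add_right]
  simp only [herm_sum_left, herm_sum_right, hermForm_smul_left, hermForm_smul_right, h.uu, h.ww,
    h.uw, h.wu, mul_zero, Finset.sum_const_zero, zero_add, add_zero, mul_ite, mul_one,
    Finset.sum_ite_eq', Finset.mem_univ, if_true]
  unfold hermForm
  congr 1 <;> (apply Finset.sum_congr rfl; intro i _; ring)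

omit [Fintype F] hF in
theorem Pm_col (u w : Fin k → (Fin (k + k) → F)) : (Pm u w).col = Fin.append u w := by
  ext j i
  rfl

theorem isUnit_Pm {u w : Fin k → (Fin (k + k) → F)} (h : HFrame q u w) : IsUnit (Pm u w) := by
  rw [← Matrix.linearIndependent_cols_iff_isUnit, Pm_col]
  exact h.li

/-- The frame matrix as an element of `GL`. -/
noncomputable def PG {u w : Fin k → (Fin (k + k) → F)} (h : HFrame q u w) :
    GL (Fin (k + k)) F := (isUnit_Pm h).unit

theorem PG_val {u w : Fin k → (Fin (k + k) → F)} (h : HFrame q u w) :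
    ((PG h : GL (Fin (k + k)) F) : Matrix (Fin (k + k)) (Fin (k + k)) F) = Pm u w :=
  (isUnit_Pm h).unit_spec

theorem exists_Pm_apv {u w : Fin k → (Fin (k + k) → F)} (h : HFrame q u w)
    (v : Fin (k + k) → F) : ∃ x y : Fin k → F, v = Pm u w *ᵥ apv x y := by
  set z := (((PG h)⁻¹ : GL (Fin (k + k)) F) : Matrix (Fin (k + k)) (Fin (k + k)) F) *ᵥ v with hz
  refine ⟨p1 z, p2 z, ?_⟩
  rw [apv_p, hz, ← PG_val h, Matrix.mulVec_mulVec, ← Units.val_mul, mul_inv_cancel, Units.val_one,
    Matrix.one_mulVec]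

/-- The dual (inverse conjugate transpose) matrix. -/
def dualM (q : ℕ) (A : GL (Fin k) F) : Matrix (Fin k) (Fin k) F :=
  (((A⁻¹ : GL (Fin k) F) : Matrix (Fin k) (Fin k) F)ᵀ).map (· ^ q)

theorem herm_two (A B : Matrix (Fin k) (Fin k) F) (u v : Fin k → F) :
    hermForm k F q (A *ᵥ u) (B *ᵥ v) = u ⬝ᵥ ((Aᵀ * B.map (· ^ q)) *ᵥ (fun i => v i ^ q)) := by
  rw [hermForm_eq_dot, frob_mulVec hF.out, ← mulVec_mulVec, dotProduct_comm, dotProduct_mulVec,
    ← mulVec_transpose, dotProduct_comm]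

theorem map_map_q (M : Matrix (Fin k) (Fin k) F) : (M.map (· ^ q)).map (· ^ q) = M := by
  ext i j
  simp only [Matrix.map_apply]
  exact bb _

theorem herm_dual (A : GL (Fin k) F) (x y : Fin k → F) :
    hermForm k F q ((A : Matrix (Fin k) (Fin k) F) *ᵥ x) (dualM q A *ᵥ y) = hermForm k F q x y := by
  rw [herm_two, dualM, map_map_q, ← Matrix.transpose_mul, ← Units.val_mul, inv_mul_cancel,
    Units.val_one, Matrix.transpose_one, Matrix.one_mulVec, hermForm_eq_dot]

theorem herm_dual' (A : GL (Fin k) F) (x y : Fin k → F) :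
    hermForm k F q (dualM q A *ᵥ y) ((A : Matrix (Fin k) (Fin k) F) *ᵥ x) = hermForm k F q y x := by
  rw [h_swap, herm_dual, ← h_swap]

theorem dualM_one : dualM q (1 : GL (Fin k) F) = 1 := by
  rw [dualM, inv_one, Units.val_one, Matrix.transpose_one]
  exact map_one_q hF.out

theorem dualM_mul (A B : GL (Fin k) F) : dualM q (A * B) = dualM q A * dualM q B := by
  rw [dualM, dualM, dualM, _root_.mul_inv_rev, Units.val_mul, Matrix.transpose_mul]
  exact Matrix.map_mul (f := frobq F q)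

theorem det_dualM (A : GL (Fin k) F) :
    (dualM q A).det = (((A⁻¹ : GL (Fin k) F) : Matrix (Fin k) (Fin k) F).det) ^ q := by
  rw [dualM, det_map_q hF.out, Matrix.det_transpose]

omit [Fintype F] hF in
theorem bdM_mul (A A' B B' : Matrix (Fin k) (Fin k) F) :
    bdM A B * bdM A' B' = bdM (A * A') (B * B') := by
  apply Matrix.toLin'.injective
  apply LinearMap.ext
  intro v
  rw [Matrix.toLin'_apply, Matrix.toLin'_apply, ← apv_p v, ← Matrix.mulVec_mulVec, bdM_mulVec,
    bdM_mulVec, bdM_mulVec, Matrix.mulVec_mulVec, Matrix.mulVec_mulVec]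

omit [Fintype F] hF in
theorem bdM_one : bdM (1 : Matrix (Fin k) (Fin k) F) (1 : Matrix (Fin k) (Fin k) F) = 1 := by
  apply Matrix.toLin'.injective
  apply LinearMap.ext
  intro v
  rw [Matrix.toLin'_apply, Matrix.toLin'_apply, ← apv_p v, bdM_mulVec, Matrix.one_mulVec,
    Matrix.one_mulVec, Matrix.one_mulVec]

/-- The block diagonal embedding `A ↦ diag(A, A^{-*})`, matrix valued. -/
noncomputable def Bd0 (q : ℕ) [hF : Fact (Fintype.card F = q ^ 2)] :
    GL (Fin k) F →* Matrix (Fin (k + k)) (Fin (k + k)) F where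
  toFun A := bdM (A : Matrix (Fin k) (Fin k) F) (dualM q A)
  map_one' := by rw [Units.val_one, dualM_one, bdM_one]
  map_mul' A B := by rw [Units.val_mul, dualM_mul, bdM_mul]

/-- The embedding of `GL_k` attached to a frame. -/
noncomputable def phi {u w : Fin k → (Fin (k + k) → F)} (h : HFrame q u w) :
    GL (Fin k) F →* GL (Fin (k + k)) F :=
  (MulAut.conj (PG h)).toMonoidHom.comp (Bd0 q).toHomUnits

theorem phi_val {u w : Fin k → (Fin (k + k) → F)} (h : HFrame q u w) (A : GL (Fin k) F) :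
    ((phi h A : GL (Fin (k + k)) F) : Matrix (Fin (k + k)) (Fin (k + k)) F) =
      Pm u w * bdM (A : Matrix (Fin k) (Fin k) F) (dualM q A) *
        (((PG h)⁻¹ : GL (Fin (k + k)) F) : Matrix (Fin (k + k)) (Fin (k + k)) F) := by
  show (((PG h) * (Bd0 q).toHomUnits A * (PG h)⁻¹ : GL (Fin (k + k)) F) :
    Matrix (Fin (k + k)) (Fin (k + k)) F) = _
  rw [Units.val_mul, Units.val_mul, PG_val, MonoidHom.coe_toHomUnits]
  rfl

theorem phi_mulVec {u w : Fin k → (Fin (k + k) → F)} (h : HFrame q u w) (A : GL (Fin k) F)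
    (x y : Fin k → F) :
    ((phi h A : GL (Fin (k + k)) F) : Matrix (Fin (k + k)) (Fin (k + k)) F) *ᵥ
        (Pm u w *ᵥ apv x y) =
      Pm u w *ᵥ apv ((A : Matrix (Fin k) (Fin k) F) *ᵥ x) (dualM q A *ᵥ y) := by
  rw [phi_val, ← Matrix.mulVec_mulVec, ← Matrix.mulVec_mulVec]
  congr 1
  rw [← bdM_mulVec]
  congr 1
  rw [← PG_val h, Matrix.mulVec_mulVec, ← Units.val_mul, inv_mul_cancel, Units.val_one,
    Matrix.one_mulVec]

theorem phi_mem_GU {u w : Fin k → (Fin (k + k) → F)} (h : HFrame q u w) (A : GL (Fin k) F) :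
    phi h A ∈ GU (k + k) F q := by
  intro a b
  show hermForm (k + k) F q
    (((phi h A : GL (Fin (k + k)) F) : Matrix (Fin (k + k)) (Fin (k + k)) F) *ᵥ a)
    (((phi h A : GL (Fin (k + k)) F) : Matrix (Fin (k + k)) (Fin (k + k)) F) *ᵥ b) = _
  obtain ⟨x, y, rfl⟩ := exists_Pm_apv h a
  obtain ⟨x', y', rfl⟩ := exists_Pm_apv h b
  rw [phi_mulVec, phi_mulVec, herm_Pm h, herm_Pm h, herm_dual, herm_dual']

theorem phi_injective {u w : Fin k → (Fin (k + k) → F)} (h : HFrame q u w) :
    Function.Injective (phi h) := by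
  intro A B hAB
  apply Units.ext
  apply Matrix.toLin'.injective
  apply LinearMap.ext
  intro x
  rw [Matrix.toLin'_apply, Matrix.toLin'_apply]
  have h1 := phi_mulVec h A x 0
  have h2 := phi_mulVec h B x 0
  rw [hAB, h2] at h1
  have h3 : apv ((B : Matrix (Fin k) (Fin k) F) *ᵥ x) (dualM q B *ᵥ 0) =
      apv ((A : Matrix (Fin k) (Fin k) F) *ᵥ x) (dualM q A *ᵥ 0) := by
    have hinj := Matrix.mulVec_injective_iff_isUnit.mpr (isUnit_Pm h)
    exact hinj h1
  exact (apv_inj h3).1.symm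

theorem det_phi {u w : Fin k → (Fin (k + k) → F)} (h : HFrame q u w) (A : GL (Fin k) F) :
    ((phi h A : GL (Fin (k + k)) F) : Matrix (Fin (k + k)) (Fin (k + k)) F).det =
      (A : Matrix (Fin k) (Fin k) F).det *
        (((A⁻¹ : GL (Fin k) F) : Matrix (Fin k) (Fin k) F).det) ^ q := by
  rw [phi_val, Matrix.det_mul, Matrix.det_mul, det_bdM, det_dualM, ← PG_val h]
  have : ((PG h : GL (Fin (k + k)) F) : Matrix (Fin (k + k)) (Fin (k + k)) F).det *
      (((PG h)⁻¹ : GL (Fin (k + k)) F) : Matrix (Fin (k + k)) (Fin (k + k)) F).det = 1 := by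
    rw [← Matrix.det_mul, ← Units.val_mul, mul_inv_cancel, Units.val_one, Matrix.det_one]
  linear_combination ((A : Matrix (Fin k) (Fin k) F).det *
    (((A⁻¹ : GL (Fin k) F) : Matrix (Fin k) (Fin k) F).det) ^ q) * this

end Cfsg.Agent.Helper7.Pol
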