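import Mathlib
import Cfsg.Agent.Helper7.PolE

set_option autoImplicit false
set_option linter.unusedSectionVars false

/-!
The index of the stabiliser of a pair of complementary totally isotropic subspaces in `SU_n(q)`:
an odd prime `r ≠ p` dividing it divides some `q^e + 1` with `e < n` odd (helper7).
-/

namespace Cfsg.Agent.Helper7.Pol

open Matrix Module Cfsg Cfsg.Agent.Helper7.Herm Cfsg.Agent.Helper8.GUOrder Cfsg.Agent.Helper8.SURoot
  Cfsg.Agent.Helper8.AutSU Cfsg.Agent.Helper7.SUMax Cfsg.Agent.Helper7.SUNd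
  Cfsg.Agent.Helper7.SUPair Cfsg.Agent.Helper7.Invol Cfsg.Agent.Helper7.Ex27
  Cfsg.Agent.Helper8.MaxSingular

variable {F : Type*} [Field F] [Fintype F] {q N k : ℕ} [hF : Fact (Fintype.card F = q ^ 2)]

omit [Fintype F] hF in
theorem Pm_left_mem {u w : Fin k → (Fin (k + k) → F)} {E : Submodule F (Fin (k + k) → F)}
    (hu : ∀ i, u i ∈ E) (x : Fin k → F) : Pm u w *ᵥ apv x 0 ∈ E := by
  rw [Pm_apv]
  simp only [Pi.zero_apply, zero_smul, Finset.sum_const_zero, add_zero]
  exact E.sum_mem (fun i _ => E.smul_mem _ (hu i))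

omit [Fintype F] hF in
theorem Pm_right_mem {u w : Fin k → (Fin (k + k) → F)} {E' : Submodule F (Fin (k + k) → F)}
    (hw : ∀ i, w i ∈ E') (y : Fin k → F) : Pm u w *ᵥ apv 0 y ∈ E' := by
  rw [Pm_apv]
  simp only [Pi.zero_apply, zero_smul, Finset.sum_const_zero, zero_add]
  exact E'.sum_mem (fun i _ => E'.smul_mem _ (hw i))

omit [Fintype F] hF in
theorem Pm_split (u w : Fin k → (Fin (k + k) → F)) (x y : Fin k → F) :
    Pm u w *ᵥ apv x y = Pm u w *ᵥ apv x 0 + Pm u w *ᵥ apv 0 y := by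
  rw [← Matrix.mulVec_add, ← apv_add, add_zero, zero_add]

theorem exists_of_mem_left {u w : Fin k → (Fin (k + k) → F)} (h : HFrame q u w)
    {E E' : Submodule F (Fin (k + k) → F)} (hd : LPair q E E') (hu : ∀ i, u i ∈ E)
    (hw : ∀ i, w i ∈ E') {v : Fin (k + k) → F} (hv : v ∈ E) :
    ∃ x : Fin k → F, v = Pm u w *ᵥ apv x 0 := by
  obtain ⟨x, y, rfl⟩ := exists_Pm_apv h v
  refine ⟨x, ?_⟩
  rw [Pm_split] at hv ⊢
  have h1 : Pm u w *ᵥ apv 0 y ∈ E := by
    have := E.sub_mem hv (Pm_left_mem (w := w) hu x)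
    rwa [add_sub_cancel_left] at this
  rw [hd.eq_zero_of_mem_of_mem h1 (Pm_right_mem hw y), add_zero]

theorem exists_of_mem_right {u w : Fin k → (Fin (k + k) → F)} (h : HFrame q u w)
    {E E' : Submodule F (Fin (k + k) → F)} (hd : LPair q E E') (hu : ∀ i, u i ∈ E)
    (hw : ∀ i, w i ∈ E') {v : Fin (k + k) → F} (hv : v ∈ E') :
    ∃ y : Fin k → F, v = Pm u w *ᵥ apv 0 y := by
  obtain ⟨x, y, rfl⟩ := exists_Pm_apv h v
  refine ⟨y, ?_⟩
  rw [Pm_split] at hv ⊢
  have h1 : Pm u w *ᵥ apv x 0 ∈ E' := by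
    have := E'.sub_mem hv (Pm_right_mem (u := u) hw y)
    rwa [add_sub_cancel_right] at this
  rw [hd.eq_zero_of_mem_of_mem (Pm_left_mem hu x) h1, zero_add]

/-- The Levi elements stabilise the pair. -/
theorem phi_mem_stab {u w : Fin k → (Fin (k + k) → F)} (h : HFrame q u w)
    (D : Fin 2 → Submodule F (Fin (k + k) → F)) (hd : LPair q (D 0) (D 1))
    (hfr : finrank F (D 0) = finrank F (D 1)) (hu : ∀ i, u i ∈ D 0)
    (hw : ∀ i, w i ∈ D 1) (A : GL (Fin k) F) :
    phi h A ∈ Cfsg.Geo.decompositionStabilizer D := by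
  rw [mem_decomp_iff D hfr]
  left
  constructor
  · intro v hv
    obtain ⟨x, rfl⟩ := exists_of_mem_left h hd hu hw hv
    rw [phi_mulVec, Matrix.mulVec_zero]
    exact Pm_left_mem hu _
  · intro v hv
    obtain ⟨y, rfl⟩ := exists_of_mem_right h hd hu hw hv
    rw [phi_mulVec, Matrix.mulVec_zero]
    exact Pm_right_mem hw _

omit [Fintype F] hF in
/-- `GU_N(q) ∩ SL_N` has the order of `SU_N(q)`. -/
theorem card_GU_inf_SL_gen :
    Nat.card ↥(Cfsg.GU N F q ⊓ Cfsg.Geo.specialLinear (Fin N) F) = Nat.card (SU N F q) := by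
  rw [Nat.card_congr (suEquiv N F q)]
  apply Nat.card_congr
  refine
    { toFun := fun g => ⟨⟨g.1, g.2.1⟩, ?_⟩
      invFun := fun s => ⟨s.1.1, ⟨s.1.2, ?_⟩⟩
      left_inv := fun g => rfl
      right_inv := fun s => rfl }
  · rw [MonoidHom.mem_ker]
    exact g.2.2
  · have := s.2
    rw [MonoidHom.mem_ker] at this
    exact this

theorem card_norm_one : Nat.card (powMonoidHom (q + 1) : Fˣ →* Fˣ).ker = q + 1 := by
  rw [IsCyclic.card_powMonoidHom_ker, card_units_K hF.out, qsq_sub_one hF.out,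
    Nat.gcd_eq_right (Dvd.intro_left _ rfl)]

/-- The index of the determinant-one part of a group of unitary matrices divides `q + 1`. -/
theorem relIndex_SL_dvd (R : Subgroup (GL (Fin N) F)) (hR : R ≤ GU N F q) :
    (Cfsg.Geo.specialLinear (Fin N) F).relIndex R ∣ q + 1 := by
  set f : R →* Fˣ := (Matrix.GeneralLinearGroup.det).comp R.subtype with hf
  have hker : (Cfsg.Geo.specialLinear (Fin N) F).subgroupOf R = f.ker := by
    ext g
    rw [Subgroup.mem_subgroupOf, MonoidHom.mem_ker]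
    unfold Cfsg.Geo.specialLinear
    rw [MonoidHom.mem_ker]
    rfl
  unfold Subgroup.relIndex
  rw [hker, Subgroup.index_ker, ← card_norm_one (F := F) (q := q)]
  apply Subgroup.card_dvd_of_le
  rintro _ ⟨g, rfl⟩
  rw [MonoidHom.mem_ker, powMonoidHom_apply]
  apply Units.ext
  rw [Units.val_pow_eq_pow_val, Units.val_one]
  exact det_GU_norm_gen (q := q) (hR g.2)

/-- **The order of `GL_k(q²)` times a prime divisor of the index divides the order of
`GU_n(q)`.** -/
theorem index_dvd (D : Fin 2 → Submodule F (Fin N → F))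
    (hD : Cfsg.Geo.IsMDecomposition k D)
    (hts : ∀ i, Cfsg.Geo.IsTotallySingularFor (Cfsg.hermForm N F q) (D i)) (r : ℕ)
    (hΩ : r ∣ (Cfsg.Geo.decompositionStabilizer D).relIndex
      (Cfsg.GU N F q ⊓ Cfsg.Geo.specialLinear (Fin N) F)) :
    r * Nat.card (GL (Fin k) F) ∣ Nat.card (GU N F q) := by
  obtain ⟨hd, hf0, hf1, hsum⟩ := lpair_of_decomp (q := q) D hD hts
  subst hsum
  obtain ⟨u, w, hfr, hu, hw⟩ := exists_frame_of_paired (q := q) k (D 0) (D 1) hd.paired hf0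
  set S := Cfsg.GU (k + k) F q ⊓ Cfsg.Geo.specialLinear (Fin (k + k)) F with hS
  set H := Cfsg.Geo.decompositionStabilizer D with hH
  set SLg := Cfsg.Geo.specialLinear (Fin (k + k)) F with hSL
  set R := (phi hfr).range with hR
  have hR_GU : R ≤ GU (k + k) F q := by
    rintro _ ⟨A, rfl⟩
    exact phi_mem_GU hfr A
  have hR_H : R ≤ H := by
    rintro _ ⟨A, rfl⟩
    exact phi_mem_stab hfr D hd (hf0.trans hf1.symm) hu hw A
  have hcardR : Nat.card R = Nat.card (GL (Fin k) F) :=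
    (Nat.card_congr (MonoidHom.ofInjective (phi_injective hfr)).toEquiv).symm
  have e1 : Nat.card ↥(H ⊓ S) * H.relIndex S = Nat.card S := by
    have := Subgroup.relIndex_mul_relIndex ⊥ (H ⊓ S) S bot_le inf_le_right
    rwa [Subgroup.relIndex_bot_left, Subgroup.relIndex_bot_left,
      Subgroup.inf_relIndex_right] at this
  have e2 : Nat.card ↥(SLg ⊓ R) * SLg.relIndex R = Nat.card R := by
    have := Subgroup.relIndex_mul_relIndex ⊥ (SLg ⊓ R) R bot_le inf_le_right
    rwa [Subgroup.relIndex_bot_left, Subgroup.relIndex_bot_left,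
      Subgroup.inf_relIndex_right] at this
  have e3 : Nat.card ↥(SLg ⊓ R) ∣ Nat.card ↥(H ⊓ S) := by
    apply Subgroup.card_dvd_of_le
    intro g hg
    exact ⟨hR_H hg.2, hR_GU hg.2, hg.1⟩
  have e4 : SLg.relIndex R ∣ q + 1 := relIndex_SL_dvd R hR_GU
  have hkpos := hD.pos
  have e5 : (q + 1) * Nat.card S = Nat.card (GU (k + k) F q) := by
    rw [hS, card_GU_inf_SL_gen]
    exact card_SU hF.out (by omega)
  rw [← hcardR, ← e2, ← e5, ← e1]
  calc r * (Nat.card ↥(SLg ⊓ R) * SLg.relIndex R)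
      = SLg.relIndex R * (Nat.card ↥(SLg ⊓ R) * r) := by ring
    _ ∣ (q + 1) * (Nat.card ↥(H ⊓ S) * H.relIndex S) :=
      Nat.mul_dvd_mul e4 (Nat.mul_dvd_mul e3 hΩ)

/-- The product over even and odd indices. -/
theorem prod_GU_split (k : ℕ) :
    ∏ i ∈ Finset.range (k + k), (if Even i then q ^ (i + 1) + 1 else q ^ (i + 1) - 1) =
      (∏ j ∈ Finset.range k, (q ^ (2 * j + 2) - 1)) *
        ∏ j ∈ Finset.range k, (q ^ (2 * j + 1) + 1) := by
  induction k with
  | zero => simp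
  | succ k ih =>
    have : k + 1 + (k + 1) = (k + k) + 1 + 1 := by ring
    rw [this, Finset.prod_range_succ, Finset.prod_range_succ, ih, Finset.prod_range_succ,
      Finset.prod_range_succ]
    have h1 : Even (k + k) := ⟨k, rfl⟩
    have h2 : ¬ Even (k + k + 1) := by
      rw [Nat.not_even_iff_odd]
      exact ⟨k, by ring⟩
    rw [if_pos h1, if_neg h2]
    have h3 : k + k + 1 = 2 * k + 1 := by ring
    rw [h3]
    ring

/-- The order of `GL_k(q²)` is divisible by `∏ (q^(2j+2) - 1)`. -/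
theorem prod_dvd_card_GL (k : ℕ) :
    (∏ j ∈ Finset.range k, (q ^ (2 * j + 2) - 1)) ∣ Nat.card (GL (Fin k) F) := by
  rw [Matrix.card_GL_field, hF.out,
    Fin.prod_univ_eq_prod_range (fun i => (q ^ 2) ^ k - (q ^ 2) ^ i) k]
  have h1 : ∀ i ∈ Finset.range k, (q ^ 2) ^ k - (q ^ 2) ^ i =
      (q ^ 2) ^ i * ((q ^ 2) ^ (k - 1 - i + 1) - 1) := by
    intro i hi
    rw [Finset.mem_range] at hi
    rw [Nat.mul_sub, mul_one, ← pow_add]
    congr 2
    omega
  rw [Finset.prod_congr rfl h1, Finset.prod_mul_distrib,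
    Finset.prod_range_reflect (fun j => (q ^ 2) ^ (j + 1) - 1) k]
  apply Dvd.intro_left (∏ x ∈ Finset.range k, (q ^ 2) ^ x)
  congr 1
  apply Finset.prod_congr rfl
  intro j _
  rw [← pow_mul]
  congr 2

/-- **The arithmetic consequence**: a prime `r` not dividing `q` which divides the index divides
`q^(2j+1) + 1` for some `j < k`. -/
theorem exists_odd_dvd (D : Fin 2 → Submodule F (Fin N → F))
    (hD : Cfsg.Geo.IsMDecomposition k D)
    (hts : ∀ i, Cfsg.Geo.IsTotallySingularFor (Cfsg.hermForm N F q) (D i)) (r : ℕ)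
    (hr : r.Prime) (hrq : ¬ r ∣ q)
    (hΩ : r ∣ (Cfsg.Geo.decompositionStabilizer D).relIndex
      (Cfsg.GU N F q ⊓ Cfsg.Geo.specialLinear (Fin N) F)) :
    ∃ j < k, r ∣ q ^ (2 * j + 1) + 1 := by
  have h1 := index_dvd (q := q) D hD hts r hΩ
  obtain ⟨-, -, -, hsum⟩ := lpair_of_decomp (q := q) D hD hts
  subst hsum
  rw [card_GU hF.out, prod_GU_split] at h1
  obtain ⟨c, hc⟩ := prod_dvd_card_GL (F := F) (q := q) k
  rw [hc] at h1
  set A := ∏ j ∈ Finset.range k, (q ^ (2 * j + 2) - 1) with hA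
  have hq := two_le_q hF.out
  have hApos : 0 < A := by
    apply Finset.prod_pos
    intro j _
    have : 1 < q ^ (2 * j + 2) := Nat.one_lt_pow (by omega) (by omega)
    omega
  have h2 : r ∣ q ^ ((k + k) * (k + k - 1) / 2) * ∏ j ∈ Finset.range k, (q ^ (2 * j + 1) + 1) := by
    have h3 : A * r ∣ A * (q ^ ((k + k) * (k + k - 1) / 2) *
        ∏ j ∈ Finset.range k, (q ^ (2 * j + 1) + 1)) := by
      refine Dvd.dvd.trans ?_ (h1.trans (dvd_of_eq (by ring)))
      exact ⟨c, by ring⟩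
    exact Nat.dvd_of_mul_dvd_mul_left hApos h3
  rcases (Nat.Prime.dvd_mul hr).mp h2 with h3 | h3
  · exact absurd (hr.dvd_of_dvd_pow h3) hrq
  · obtain ⟨j, hj, hdvd⟩ := (Prime.dvd_finsetProd_iff hr.prime _).mp h3
    exact ⟨j, Finset.mem_range.mp hj, hdvd⟩

end Cfsg.Agent.Helper7.Pol
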