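import Mathlib
import Cfsg.Agent.Helper7.PolF

set_option autoImplicit false
set_option linter.unusedSectionVars false

/-!
Preparations for the derangements of odd prime order: the arithmetic of the least `e` with
`r ∣ q^e + 1`, counting of fixed points, and elements of odd order stabilising a pair of
complementary totally isotropic subspaces (helper7).
-/

namespace Cfsg.Agent.Helper7.Pol

open Matrix Module Cfsg Cfsg.Agent.Helper7.Herm Cfsg.Agent.Helper8.GUOrder Cfsg.Agent.Helper8.SURoot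
  Cfsg.Agent.Helper8.AutSU Cfsg.Agent.Helper7.SUMax Cfsg.Agent.Helper7.SUNd
  Cfsg.Agent.Helper7.SUPair Cfsg.Agent.Helper7.Invol Cfsg.Agent.Helper7.Ex27
  Cfsg.Agent.Helper8.MaxSingular

/-- If `e` is the least positive exponent with `a^e = -1` in `ZMod r`, `r` an odd prime, then `a`
has order `2e`. -/
theorem orderOf_of_min {r : ℕ} [Fact r.Prime] (hr2 : r ≠ 2) (a : ZMod r) (e : ℕ) (he : 0 < e)
    (hae : a ^ e = -1) (hmin : ∀ e', 0 < e' → a ^ e' = -1 → e ≤ e') : orderOf a = 2 * e := by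
  have hr := (Fact.out : r.Prime)
  haveI : Fact (2 < r) := ⟨lt_of_le_of_ne hr.two_le (Ne.symm hr2)⟩
  have hne : (-1 : ZMod r) ≠ 1 := ZMod.neg_one_ne_one
  have h2e : a ^ (2 * e) = 1 := by rw [mul_comm, pow_mul, hae]; ring
  have hdvd : orderOf a ∣ 2 * e := orderOf_dvd_iff_pow_eq_one.mpr h2e
  have hpos : 0 < orderOf a := Nat.pos_of_dvd_of_pos hdvd (by omega)
  have hnd : ¬ orderOf a ∣ e := by
    intro h
    rw [orderOf_dvd_iff_pow_eq_one, hae] at h
    exact hne h
  have heven : 2 ∣ orderOf a := by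
    by_contra hodd
    apply hnd
    have hcop : Nat.Coprime (orderOf a) 2 := by
      rw [Nat.coprime_comm, Nat.Prime.coprime_iff_not_dvd Nat.prime_two]
      exact hodd
    exact hcop.dvd_of_dvd_mul_left hdvd
  obtain ⟨i', hi'⟩ := heven
  have hi'e : i' ∣ e := by
    rw [hi'] at hdvd
    exact Nat.dvd_of_mul_dvd_mul_left (by norm_num) hdvd
  have hi'pos : 0 < i' := by omega
  have hsq : (a ^ i') ^ 2 = 1 := by
    rw [← pow_mul, mul_comm, ← hi']
    exact pow_orderOf_eq_one a
  have hcases : a ^ i' = 1 ∨ a ^ i' = -1 := by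
    have : (a ^ i' - 1) * (a ^ i' + 1) = 0 := by linear_combination hsq
    rcases mul_eq_zero.mp this with h | h
    · left; linear_combination h
    · right; linear_combination h
  rcases hcases with h | h
  · have := orderOf_dvd_iff_pow_eq_one.mpr h
    have := Nat.le_of_dvd hi'pos this
    omega
  · have h1 := hmin i' hi'pos h
    have h2 := Nat.le_of_dvd he hi'e
    have : i' = e := le_antisymm h2 h1
    rw [hi', this]

/-- The arithmetic package for the least `e` with `r ∣ q^e + 1`. -/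
theorem exists_min_exp {r q m : ℕ} [Fact r.Prime] (hr2 : r ≠ 2) (hm : Odd m)
    (hdvd : r ∣ q ^ m + 1) :
    ∃ e, 0 < e ∧ e ≤ m ∧ Odd e ∧ r ∣ q ^ e + 1 ∧ (2 ≤ e → ¬ r ∣ q + 1) ∧
      ∀ t, r ∣ q ^ (2 * t) - 1 → e ∣ t := by
  classical
  have hr := (Fact.out : r.Prime)
  haveI : Fact (2 < r) := ⟨lt_of_le_of_ne hr.two_le (Ne.symm hr2)⟩
  have hne : (-1 : ZMod r) ≠ 1 := ZMod.neg_one_ne_one
  have tr : ∀ s, r ∣ q ^ s + 1 ↔ (q : ZMod r) ^ s = -1 := by
    intro s
    rw [← ZMod.natCast_eq_zero_iff]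
    push_cast
    constructor
    · intro h; linear_combination h
    · intro h; linear_combination h
  have hex : ∃ e, 0 < e ∧ (q : ZMod r) ^ e = -1 := ⟨m, hm.pos, (tr m).mp hdvd⟩
  obtain ⟨e, hepos, hae, hmin⟩ : ∃ e, 0 < e ∧ (q : ZMod r) ^ e = -1 ∧
      ∀ e', 0 < e' → (q : ZMod r) ^ e' = -1 → e ≤ e' :=
    ⟨Nat.find hex, (Nat.find_spec hex).1, (Nat.find_spec hex).2,
      fun e' h1 h2 => Nat.find_min' hex ⟨h1, h2⟩⟩
  have hord := orderOf_of_min hr2 (q : ZMod r) e hepos hae hmin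
  have hem : e ∣ m := by
    have h1 : (q : ZMod r) ^ (2 * m) = 1 := by
      rw [mul_comm, pow_mul, (tr m).mp hdvd]; ring
    have := orderOf_dvd_iff_pow_eq_one.mpr h1
    rw [hord] at this
    exact Nat.dvd_of_mul_dvd_mul_left (by norm_num) this
  refine ⟨e, hepos, hmin m hm.pos ((tr m).mp hdvd), ?_, (tr e).mpr hae, ?_, ?_⟩
  · obtain ⟨s, hs⟩ := hem
    rw [hs] at hm
    exact (Nat.odd_mul.mp hm).1
  · intro h2 hq1
    have := hmin 1 one_pos (by rw [← tr 1]; simpa using hq1)
    omega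
  · intro t ht
    have hq0 : 0 < q ^ (2 * t) := by
      rcases Nat.eq_zero_or_pos q with h0 | h0
      · exfalso
        rw [h0] at hae
        rw [Nat.cast_zero, zero_pow (by omega)] at hae
        have : (1 : ZMod r) = 0 := by linear_combination hae
        exact one_ne_zero this
      · positivity
    have h1 : (q : ZMod r) ^ (2 * t) = 1 := by
      have := (ZMod.natCast_eq_zero_iff (q ^ (2 * t) - 1) r).mpr ht
      rw [Nat.cast_sub hq0] at this
      push_cast at this
      linear_combination this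
    have := orderOf_dvd_iff_pow_eq_one.mpr h1
    rw [hord] at this
    exact Nat.dvd_of_mul_dvd_mul_left (by norm_num) this

variable {F : Type*} [Field F] [Fintype F] {q N k : ℕ} [hF : Fact (Fintype.card F = q ^ 2)]

omit [Fintype F] hF in
/-- The fixed space of a matrix. -/
def fixS (X : Matrix (Fin N) (Fin N) F) : Submodule F (Fin N → F) where
  carrier := {v | X *ᵥ v = v}
  add_mem' := by
    intro a b ha hb
    show X *ᵥ (a + b) = a + b
    rw [Matrix.mulVec_add, ha, hb]
  zero_mem' := Matrix.mulVec_zero X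
  smul_mem' := by
    intro c a ha
    show X *ᵥ (c • a) = c • a
    rw [Matrix.mulVec_smul, ha]

omit [Fintype F] hF in
theorem mem_fixS {X : Matrix (Fin N) (Fin N) F} {v : Fin N → F} : v ∈ fixS X ↔ X *ᵥ v = v :=
  Iff.rfl

/-- **Counting fixed points**: for a matrix of prime order `r` and an invariant subspace `W`, the
numbers of elements of `W` and of fixed vectors in `W` are congruent modulo `r`. -/
theorem card_fixed_modEq (X : Matrix (Fin N) (Fin N) F) (r : ℕ) [Fact r.Prime] (hXr : X ^ r = 1)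
    (W : Submodule F (Fin N → F)) (hW : ∀ w ∈ W, X *ᵥ w ∈ W) :
    (q ^ 2) ^ finrank F W ≡ (q ^ 2) ^ finrank F ↥(W ⊓ fixS X) [MOD r] := by
  classical
  let f : Function.End W := fun w => ⟨X *ᵥ (w : Fin N → F), hW w w.2⟩
  have hfk : ∀ (m : ℕ) (w : W), (((f ^ m) w : W) : Fin N → F) = (X ^ m) *ᵥ (w : Fin N → F) := by
    intro m
    induction m with
    | zero =>
      intro w
      rw [pow_zero, pow_zero, Matrix.one_mulVec]
      rfl
    | succ m ih =>
      intro w
      rw [pow_succ', pow_succ']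
      change X *ᵥ (((f ^ m) w : W) : Fin N → F) = _
      rw [ih w, Matrix.mulVec_mulVec]
  have hfr : f ^ r ^ 1 = 1 := by
    rw [pow_one]
    funext w
    apply Subtype.ext
    rw [hfk r w, hXr, Matrix.one_mulVec]
    rfl
  have hmod := Equiv.Perm.card_fixedPoints_modEq (f := f) (p := r) (n := 1) hfr
  have h1 : Fintype.card W = (q ^ 2) ^ finrank F W := by
    rw [Module.card_eq_pow_finrank (K := F) (V := W), hF.out]
  have h2 : Fintype.card (Function.fixedPoints f) = (q ^ 2) ^ finrank F ↥(W ⊓ fixS X) := by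
    rw [← Nat.card_eq_fintype_card, ← hF.out, ← Nat.card_eq_fintype_card (α := F),
      ← Module.natCard_eq_pow_finrank (K := F) (V := ↥(W ⊓ fixS X))]
    apply Nat.card_congr
    refine
      { toFun := fun w => ⟨(w.1 : Fin N → F), ⟨w.1.2, ?_⟩⟩
        invFun := fun v => ⟨⟨v.1, v.2.1⟩, ?_⟩
        left_inv := fun w => rfl
        right_inv := fun v => rfl }
    · have := w.2
      exact congrArg Subtype.val this
    · apply Subtype.ext
      exact v.2.2
  rw [h1, h2] at hmod
  exact hmod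

/-- The arithmetic form: the codimension of the fixed space in an invariant subspace is a multiple
of `e`. -/
theorem dvd_codim_fixed (X : Matrix (Fin N) (Fin N) F) (r : ℕ) [Fact r.Prime] (hrq : ¬ r ∣ q)
    (hXr : X ^ r = 1) (W : Submodule F (Fin N → F)) (hW : ∀ w ∈ W, X *ᵥ w ∈ W) (e : ℕ)
    (he : ∀ t, r ∣ q ^ (2 * t) - 1 → e ∣ t) :
    e ∣ finrank F W - finrank F ↥(W ⊓ fixS X) := by
  have hr := (Fact.out : r.Prime)
  have hmod := card_fixed_modEq (q := q) X r hXr W hW
  have hle : finrank F ↥(W ⊓ fixS X) ≤ finrank F W := Submodule.finrank_mono inf_le_left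
  apply he
  set c := finrank F ↥(W ⊓ fixS X) with hc
  set d := finrank F W with hd
  have h1 : (q ^ 2) ^ d = (q ^ 2) ^ c * q ^ (2 * (d - c)) := by
    rw [← pow_mul, ← pow_mul, ← pow_add]
    congr 1
    omega
  have hq := two_le_q hF.out
  have hge : (q ^ 2) ^ c ≤ (q ^ 2) ^ d := Nat.pow_le_pow_right (by positivity) hle
  have h2 := (Nat.modEq_iff_dvd' hge).mp hmod.symm
  have h3 : (q ^ 2) ^ d - (q ^ 2) ^ c = (q ^ 2) ^ c * (q ^ (2 * (d - c)) - 1) := by
    rw [Nat.mul_sub, mul_one, ← h1]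
  rw [h3] at h2
  rcases (Nat.Prime.dvd_mul hr).mp h2 with h4 | h4
  · exact absurd (hr.dvd_of_dvd_pow (hr.dvd_of_dvd_pow h4)) hrq
  · exact h4

omit [Fintype F] hF in
/-- An element of odd order stabilising a pair fixes both members. -/
theorem fix_of_odd (X : Matrix (Fin N) (Fin N) F) (r : ℕ) (hodd : Odd r) (hXr : X ^ r = 1)
    {E E' : Submodule F (Fin N → F)} (hinf : E ⊓ E' = ⊥) (hE : E ≠ ⊥)
    (h : ((∀ v ∈ E, X *ᵥ v ∈ E) ∧ (∀ v ∈ E', X *ᵥ v ∈ E')) ∨
      ((∀ v ∈ E, X *ᵥ v ∈ E') ∧ (∀ v ∈ E', X *ᵥ v ∈ E))) :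
    (∀ v ∈ E, X *ᵥ v ∈ E) ∧ (∀ v ∈ E', X *ᵥ v ∈ E') := by
  rcases h with h | ⟨h0, h1⟩
  · exact h
  · exfalso
    have key : ∀ m : ℕ, (∀ v ∈ E, (X ^ (2 * m)) *ᵥ v ∈ E) ∧
        (∀ v ∈ E, (X ^ (2 * m + 1)) *ᵥ v ∈ E') := by
      intro m
      induction m with
      | zero =>
        refine ⟨fun v hv => by simpa using hv, fun v hv => by simpa using h0 v hv⟩
      | succ m ih =>
        have h2 : ∀ v ∈ E, (X ^ (2 * (m + 1))) *ᵥ v ∈ E := by
          intro v hv
          have : X ^ (2 * (m + 1)) = X * X ^ (2 * m + 1) := by rw [← pow_succ']; congr 1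
          rw [this, ← Matrix.mulVec_mulVec]
          exact h1 _ (ih.2 v hv)
        refine ⟨h2, fun v hv => ?_⟩
        have : X ^ (2 * (m + 1) + 1) = X * X ^ (2 * (m + 1)) := by rw [← pow_succ']
        rw [this, ← Matrix.mulVec_mulVec]
        exact h0 _ (h2 v hv)
    obtain ⟨m, hm⟩ := hodd
    apply hE
    rw [Submodule.eq_bot_iff]
    intro v hv
    have h2 := (key m).2 v hv
    rw [← hm, hXr, Matrix.one_mulVec] at h2
    have : v ∈ E ⊓ E' := ⟨hv, h2⟩
    rwa [hinf, Submodule.mem_bot] at this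

/-- A form-preserving matrix fixing both members of a pair and acting trivially on one of them is
the identity. -/
theorem eq_one_of_trivial_left (X : Matrix (Fin N) (Fin N) F)
    (hXU : ∀ u v, hermForm N F q (X *ᵥ u) (X *ᵥ v) = hermForm N F q u v)
    {E E' : Submodule F (Fin N → F)} (hd : LPair q E E')
    (h1 : ∀ v ∈ E', X *ᵥ v ∈ E') (htriv : ∀ v ∈ E, X *ᵥ v = v) : X = 1 := by
  have h2 : ∀ f ∈ E', X *ᵥ f = f := by
    intro f hf
    rw [← sub_eq_zero]
    apply eq_zero_of_h_left (q := q)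
    intro y
    obtain ⟨a, ha, a', ha', rfl⟩ := hd.exists_dec y
    rw [hermForm_add_left, hd.tsF a' ha' _ (E'.sub_mem (h1 f hf) hf), add_zero, h_sub_right]
    have := hXU a f
    rw [htriv a ha] at this
    rw [this, sub_self]
  apply Matrix.toLin'.injective
  apply LinearMap.ext
  intro y
  rw [Matrix.toLin'_apply, Matrix.toLin'_apply, Matrix.one_mulVec]
  obtain ⟨a, ha, a', ha', rfl⟩ := hd.exists_dec y
  rw [Matrix.mulVec_add, htriv a ha, h2 a' ha']

end Cfsg.Agent.Helper7.Pol
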