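import Mathlib
import Cfsg.Agent.Helper7.PolG

set_option autoImplicit false
set_option linter.unusedSectionVars false

/-!
Derangements of odd prime order `r ≠ p`, I: the diagonal elements `diag(λ, λ⁻¹, 1, …, 1)` for
`r ∣ q + 1`, and the general criterion for elements with a large fixed space (helper7).
-/

namespace Cfsg.Agent.Helper7.Pol

open Matrix Module Cfsg Cfsg.Agent.Helper7.Herm Cfsg.Agent.Helper8.GUOrder Cfsg.Agent.Helper8.SURoot
  Cfsg.Agent.Helper8.AutSU Cfsg.Agent.Helper7.SUMax Cfsg.Agent.Helper7.SUNd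
  Cfsg.Agent.Helper7.SUPair Cfsg.Agent.Helper7.Invol Cfsg.Agent.Helper7.Ex27
  Cfsg.Agent.Helper8.MaxSingular

variable {F : Type*} [Field F] [Fintype F] {q N k : ℕ} [hF : Fact (Fintype.card F = q ^ 2)]

/-- An element of order `r` in the norm-one group, `r ∣ q + 1`. -/
theorem exists_root_of_dvd (r : ℕ) [Fact r.Prime] (h : r ∣ q + 1) :
    ∃ l : F, l ≠ 1 ∧ l ^ r = 1 ∧ l ^ (q + 1) = 1 := by
  have hr := (Fact.out : r.Prime)
  have hcard : r ∣ Nat.card Fˣ := by
    rw [card_units_K hF.out, qsq_sub_one hF.out]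
    exact Dvd.dvd.mul_left h _
  obtain ⟨ζ, hζ⟩ := exists_prime_orderOf_dvd_card' r hcard
  have hζr : ζ ^ r = 1 := by rw [← hζ]; exact pow_orderOf_eq_one ζ
  refine ⟨(ζ : F), ?_, ?_, ?_⟩
  · intro h1
    have : ζ = 1 := Units.ext h1
    rw [this, orderOf_one] at hζ
    exact hr.one_lt.ne hζ
  · have := congrArg Units.val hζr
    rwa [Units.val_pow_eq_pow_val, Units.val_one] at this
  · obtain ⟨s, hs⟩ := h
    have : ζ ^ (q + 1) = 1 := by rw [hs, pow_mul, hζr, one_pow]
    have := congrArg Units.val this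
    rwa [Units.val_pow_eq_pow_val, Units.val_one] at this

omit [Fintype F] hF in
/-- Diagonal matrices as elements of `GL`. -/
def diagG (d : Fin N → F) (hd : ∀ i, d i ≠ 0) : GL (Fin N) F :=
  ⟨Matrix.diagonal d, Matrix.diagonal (fun i => (d i)⁻¹),
    by
      rw [Matrix.diagonal_mul_diagonal, ← Matrix.diagonal_one]
      congr 1
      ext i
      exact mul_inv_cancel₀ (hd i),
    by
      rw [Matrix.diagonal_mul_diagonal, ← Matrix.diagonal_one]
      congr 1
      ext i
      exact inv_mul_cancel₀ (hd i)⟩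

omit [Fintype F] hF in
theorem diagG_mem_GU (d : Fin N → F) (hd : ∀ i, d i ≠ 0) (hd1 : ∀ i, d i ^ (q + 1) = 1) :
    diagG d hd ∈ GU N F q := by
  intro u v
  show hermForm N F q (Matrix.diagonal d *ᵥ u) (Matrix.diagonal d *ᵥ v) = hermForm N F q u v
  unfold hermForm
  apply Finset.sum_congr rfl
  intro i _
  rw [Matrix.mulVec_diagonal, Matrix.mulVec_diagonal, mul_pow]
  have := hd1 i
  rw [pow_succ'] at this
  linear_combination (u i * v i ^ q) * this

omit [Fintype F] hF in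
/-- Eigenvectors of a diagonal matrix for an eigenvalue occurring once. -/
theorem eigvec_single (d : Fin N → F) (i₀ : Fin N) (hne : ∀ j, j ≠ i₀ → d j ≠ d i₀)
    (a : Fin N → F) (ha : Matrix.diagonal d *ᵥ a = d i₀ • a) :
    a = a i₀ • (Pi.single i₀ (1 : F) : Fin N → F) := by
  ext j
  by_cases hj : j = i₀
  · subst hj
    simp
  · have h1 := congrFun ha j
    rw [Matrix.mulVec_diagonal, Pi.smul_apply, smul_eq_mul] at h1
    have h2 : (d j - d i₀) * a j = 0 := by linear_combination h1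
    have h3 : a j = 0 := (mul_eq_zero.mp h2).resolve_left (sub_ne_zero.mpr (hne j hj))
    rw [h3]
    simp [Pi.single_eq_of_ne hj]

omit [Fintype F] hF in
theorem herm_single_single (i₀ : Fin N) (c c' : F) :
    hermForm N F q (c • (Pi.single i₀ (1 : F) : Fin N → F)) (c' • Pi.single i₀ (1 : F)) =
      c * c' ^ q := by
  unfold hermForm
  rw [Finset.sum_eq_single i₀]
  · simp
  · intro b _ hb
    simp [Pi.single_eq_of_ne hb]
  · intro h
    exact absurd (Finset.mem_univ _) h

/-- **The diagonal derangements** for `r ∣ q + 1`, `r` odd. -/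
theorem derangement_diag (D : Fin 2 → Submodule F (Fin N → F))
    (hD : Cfsg.Geo.IsMDecomposition k D)
    (hts : ∀ i, Cfsg.Geo.IsTotallySingularFor (Cfsg.hermForm N F q) (D i)) (hk : 2 ≤ k)
    (r : ℕ) [Fact r.Prime] (hr2 : r ≠ 2) (hrq : r ∣ q + 1) :
    ∃ x ∈ Cfsg.GU N F q ⊓ Cfsg.Geo.specialLinear (Fin N) F,
      (∃ z : F, ((x ^ r : GL (Fin N) F) : Matrix (Fin N) (Fin N) F) =
        z • (1 : Matrix (Fin N) (Fin N) F)) ∧
      (∀ z : F, (x : Matrix (Fin N) (Fin N) F) ≠ z • (1 : Matrix (Fin N) (Fin N) F)) ∧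
      ∀ g ∈ Cfsg.GU N F q ⊓ Cfsg.Geo.specialLinear (Fin N) F,
        g⁻¹ * x * g ∉ Cfsg.Geo.decompositionStabilizer D := by
  classical
  have hr := (Fact.out : r.Prime)
  obtain ⟨hd, hf0, hf1, hsum⟩ := lpair_of_decomp (q := q) D hD hts
  obtain ⟨l, hl1, hlr, hlq⟩ := exists_root_of_dvd (F := F) (q := q) r hrq
  have hl0 : l ≠ 0 := by
    rintro rfl
    rw [zero_pow hr.ne_zero] at hlr
    exact zero_ne_one hlr
  have hodd : Odd r := hr.odd_of_ne_two hr2
  have hl2 : l⁻¹ ≠ l := by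
    intro h
    have h2 : l ^ 2 = 1 := by
      have : l⁻¹ * l = l * l := by rw [h]
      rw [inv_mul_cancel₀ hl0] at this
      rw [pow_two, ← this]
    have h3 := pow_gcd_eq_one.mpr ⟨h2, hlr⟩
    have hg : Nat.gcd 2 r = 1 := by
      rw [Nat.coprime_primes Nat.prime_two hr |>.mpr (Ne.symm hr2)]
    rw [hg, pow_one] at h3
    exact hl1 h3
  obtain ⟨n', rfl⟩ : ∃ n', N = n' + 3 := ⟨N - 3, by omega⟩
  set d : Fin (n' + 3) → F := fun i => if (i : ℕ) = 0 then l else if (i : ℕ) = 1 then l⁻¹ else 1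
    with hddef
  have hd0 : ∀ i, d i ≠ 0 := by
    intro i
    simp only [hddef]
    split_ifs
    · exact hl0
    · exact inv_ne_zero hl0
    · exact one_ne_zero
  have hdq : ∀ i, d i ^ (q + 1) = 1 := by
    intro i
    simp only [hddef]
    split_ifs
    · exact hlq
    · rw [inv_pow, hlq, inv_one]
    · exact one_pow _
  have hdr : ∀ i, d i ^ r = 1 := by
    intro i
    simp only [hddef]
    split_ifs
    · exact hlr
    · rw [inv_pow, hlr, inv_one]
    · exact one_pow _
  set i₀ : Fin (n' + 3) := ⟨0, by omega⟩ with hi₀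
  set i₂ : Fin (n' + 3) := ⟨2, by omega⟩ with hi₂
  have hdi₀ : d i₀ = l := by simp [hddef, hi₀]
  have hdi₂ : d i₂ = 1 := by simp [hddef, hi₂]
  have hne : ∀ j, j ≠ i₀ → d j ≠ d i₀ := by
    intro j hj
    rw [hdi₀]
    have hj0 : (j : ℕ) ≠ 0 := by
      intro h
      apply hj
      exact Fin.ext h
    simp only [hddef, if_neg hj0]
    split_ifs
    · exact hl2
    · exact fun h => hl1 h.symm
  set x := diagG d hd0 with hx
  have hxm : (x : Matrix (Fin (n' + 3)) (Fin (n' + 3)) F) = Matrix.diagonal d := rfl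
  have hdet : (Matrix.diagonal d).det = 1 := by
    rw [Matrix.det_diagonal, Fin.prod_univ_eq_prod_range
      (fun i => if i = 0 then l else if i = 1 then l⁻¹ else 1) (n' + 3),
      Finset.prod_range_succ', Finset.prod_range_succ']
    simp only [Nat.add_eq_zero_iff, one_ne_zero, and_false, if_false, Nat.add_eq_right, if_true,
      zero_add, Finset.prod_const_one, one_mul]
    exact inv_mul_cancel₀ hl0
  have hXr : (Matrix.diagonal d) ^ r = 1 := by
    rw [Matrix.diagonal_pow, ← Matrix.diagonal_one]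
    congr 1
    ext i
    exact hdr i
  have hXU : ∀ u v, hermForm (n' + 3) F q (Matrix.diagonal d *ᵥ u) (Matrix.diagonal d *ᵥ v) =
      hermForm (n' + 3) F q u v := fun u v => diagG_mem_GU (q := q) d hd0 hdq u v
  refine ⟨x, Subgroup.mem_inf.mpr ⟨diagG_mem_GU d hd0 hdq, (mem_SL_iff _).mpr hdet⟩, ⟨1, ?_⟩, ?_, ?_⟩
  · rw [Units.val_pow_eq_pow_val, hxm, hXr, one_smul]
  · intro z hz
    rw [hxm] at hz
    have h0 := congrFun (congrFun hz i₀) i₀
    have h2 := congrFun (congrFun hz i₂) i₂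
    rw [Matrix.diagonal_apply_eq, Matrix.smul_apply, Matrix.one_apply_eq, smul_eq_mul, mul_one]
      at h0 h2
    apply hl1
    rw [← hdi₀, h0, ← h2, hdi₂]
  · intro g hg hmem
    obtain ⟨E, E', hdE, hfE, hfE', hst⟩ := exists_lpair_of_conj (q := q) D hD hts hg.1 hmem
    rw [hxm] at hst
    have hE0 : E ≠ ⊥ := by
      intro h
      rw [h, finrank_bot] at hfE
      omega
    obtain ⟨hE, hE'⟩ := fix_of_odd (Matrix.diagonal d) r hodd hXr hdE.inf hE0 hst
    obtain ⟨a, ha, a', ha', hsum'⟩ := hdE.exists_dec (Pi.single i₀ (1 : F))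
    have heig : Matrix.diagonal d *ᵥ (Pi.single i₀ (1 : F) : Fin (n' + 3) → F) =
        d i₀ • Pi.single i₀ (1 : F) := by
      ext j
      rw [Matrix.mulVec_diagonal, Pi.smul_apply, smul_eq_mul]
      by_cases hj : j = i₀
      · rw [hj]
      · simp [Pi.single_eq_of_ne hj]
    have h1 : Matrix.diagonal d *ᵥ a + Matrix.diagonal d *ᵥ a' = d i₀ • a + d i₀ • a' := by
      rw [← Matrix.mulVec_add, ← smul_add, ← hsum', heig]
    obtain ⟨h2, h3⟩ := hdE.eq_of_add_eq (hE a ha) (E.smul_mem _ ha) (hE' a' ha')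
      (E'.smul_mem _ ha') h1
    have h4 := eigvec_single d i₀ hne a h2
    have h5 := eigvec_single d i₀ hne a' h3
    have h6 : a i₀ = 0 := by
      have := hdE.tsE a ha a ha
      rw [h4, herm_single_single] at this
      by_contra hne0
      exact (mul_ne_zero hne0 (pow_ne_zero q hne0)) (by simpa using this)
    have h7 : a' i₀ = 0 := by
      have := hdE.tsF a' ha' a' ha'
      rw [h5, herm_single_single] at this
      by_contra hne0
      exact (mul_ne_zero hne0 (pow_ne_zero q hne0)) (by simpa using this)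
    have h8 := congrFun hsum' i₀
    rw [Pi.add_apply, h6, h7, Pi.single_eq_same, add_zero] at h8
    exact one_ne_zero h8

/-- **The fixed space criterion**: a unitary matrix of odd prime order `r ≠ p`, other than the
identity, whose fixed space has codimension at most `e` stabilises no pair of complementary
totally isotropic subspaces. -/
theorem not_stab_of_block (X : Matrix (Fin N) (Fin N) F)
    (hXU : ∀ u v, hermForm N F q (X *ᵥ u) (X *ᵥ v) = hermForm N F q u v)
    (r : ℕ) [Fact r.Prime] (hr2 : r ≠ 2) (hrq : ¬ r ∣ q) (hXr : X ^ r = 1) (hX1 : X ≠ 1)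
    (e : ℕ) (hepos : 0 < e) (he : ∀ t, r ∣ q ^ (2 * t) - 1 → e ∣ t)
    (hfix : N ≤ finrank F (fixS X) + e)
    {E E' : Submodule F (Fin N → F)} (hd : LPair q E E') (hfE : finrank F E = k)
    (hfE' : finrank F E' = k) (hN : k + k = N) (hk : 1 ≤ k) :
    ¬ (((∀ v ∈ E, X *ᵥ v ∈ E) ∧ (∀ v ∈ E', X *ᵥ v ∈ E')) ∨
      ((∀ v ∈ E, X *ᵥ v ∈ E') ∧ (∀ v ∈ E', X *ᵥ v ∈ E))) := by
  have hr := (Fact.out : r.Prime)
  intro hst
  have hE0 : E ≠ ⊥ := by
    intro h
    rw [h, finrank_bot] at hfE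
    omega
  obtain ⟨hE, hE'⟩ := fix_of_odd X r (hr.odd_of_ne_two hr2) hXr hd.inf hE0 hst
  have h1 := dvd_codim_fixed (q := q) X r hrq hXr E hE e he
  have h2 := dvd_codim_fixed (q := q) X r hrq hXr E' hE' e he
  have hle : fixS X ≤ (E ⊓ fixS X) ⊔ (E' ⊓ fixS X) := by
    intro v hv
    obtain ⟨a, ha, a', ha', rfl⟩ := hd.exists_dec v
    have hv' : X *ᵥ a + X *ᵥ a' = a + a' := by
      rw [← Matrix.mulVec_add]
      exact hv
    obtain ⟨h3, h4⟩ := hd.eq_of_add_eq (hE a ha) ha (hE' a' ha') ha' hv'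
    exact Submodule.add_mem_sup ⟨ha, h3⟩ ⟨ha', h4⟩
  have h5 := Submodule.finrank_mono hle
  have h6 := Submodule.finrank_add_le_finrank_add_finrank (E ⊓ fixS X) (E' ⊓ fixS X)
  have h7 : finrank F ↥(E ⊓ fixS X) ≤ k := hfE ▸ Submodule.finrank_mono inf_le_left
  have h8 : finrank F ↥(E' ⊓ fixS X) ≤ k := hfE' ▸ Submodule.finrank_mono inf_le_left
  rw [hfE] at h1
  rw [hfE'] at h2
  by_cases hc1 : finrank F ↥(E ⊓ fixS X) = k
  · apply hX1
    apply eq_one_of_trivial_left (q := q) X hXU hd hE'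
    have : E ⊓ fixS X = E :=
      Submodule.eq_of_le_of_finrank_eq inf_le_left (by rw [hc1, hfE])
    intro v hv
    rw [← this] at hv
    exact hv.2
  by_cases hc2 : finrank F ↥(E' ⊓ fixS X) = k
  · apply hX1
    apply eq_one_of_trivial_left (q := q) X hXU hd.symm hE
    have : E' ⊓ fixS X = E' :=
      Submodule.eq_of_le_of_finrank_eq inf_le_left (by rw [hc2, hfE'])
    intro v hv
    rw [← this] at hv
    exact hv.2
  have h9 := Nat.le_of_dvd (by omega) h1
  have h10 := Nat.le_of_dvd (by omega) h2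
  omega

end Cfsg.Agent.Helper7.Pol
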