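import Mathlib
import Cfsg.Agent.Helper7.SUNdB

set_option autoImplicit false
set_option linter.unusedSectionVars false

/-! Non-degenerate subspaces of the unitary space: transitivity of the block diagonal subgroup
(helper7). -/

namespace Cfsg.Agent.Helper7.SUNd

open Matrix Module Cfsg Cfsg.Agent.Helper7.Herm Cfsg.Agent.Helper8.GUOrder Cfsg.Agent.Helper8.SURoot
  Cfsg.Agent.Helper8.AutSU Cfsg.Agent.Helper7.SUSimp

variable {F : Type*} [Field F] [Fintype F] {q N k m : ℕ} [hF : Fact (Fintype.card F = q ^ 2)]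

/-- Witt's lemma for single vectors. -/
theorem exists_GU_vec {x y : Fin N → F} (hx0 : x ≠ 0) (hy0 : y ≠ 0)
    (h : hermForm N F q x x = hermForm N F q y y) : ∃ g : GU N F q, mg g *ᵥ x = y := by
  obtain ⟨g, hg⟩ := exists_GU_of_families (q := q) (fun _ : Fin 1 => x) (fun _ : Fin 1 => y)
    (linearIndependent_unique_iff.mpr hx0) (linearIndependent_unique_iff.mpr hy0) (fun _ _ => h)
  exact ⟨g, hg 0⟩

theorem det_mg_ne_zero (g : GU N F q) : (mg g).det ≠ 0 := by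
  intro h
  have := det_mg_norm g
  rw [h, zero_mul] at this
  exact zero_ne_one this

theorem det_mg_inv (g : GU N F q) : (mg g⁻¹).det = ((mg g).det)⁻¹ := by
  have h1 : mg g⁻¹ * mg g = 1 := by
    show ((g⁻¹ : GU N F q) : GL (Fin N) F).1 * (g : GL (Fin N) F).1 = 1
    rw [← Units.val_mul, ← Subgroup.coe_mul, inv_mul_cancel]
    rfl
  have h2 := congrArg Matrix.det h1
  rw [det_mul, det_one] at h2
  exact eq_inv_of_mul_eq_one_left h2

/-- a non-zero vector of `F^k`, `k ≥ 2`, with prescribed norm. -/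
theorem exists_model (hk : 2 ≤ k) {l : F} (hl : l ^ q = l) :
    ∃ w₀ : Fin k → F, w₀ ≠ 0 ∧ hermForm k F q w₀ w₀ = l := by
  obtain ⟨k', rfl⟩ : ∃ k', k = k' + 2 := ⟨k - 2, by omega⟩
  by_cases hl0 : l = 0
  · obtain ⟨η, hη0, hη⟩ := exists_eta (F := F) (q := q)
    have h01 : (0 : Fin (k' + 2)) ≠ 1 := by
      intro h
      have := congrArg Fin.val h
      simp at this
    refine ⟨Pi.single 0 (1 : F) + η • Pi.single 1 1, ?_, ?_⟩
    · intro h
      have := congrFun h 0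
      simp [Pi.single_eq_of_ne h01] at this
    · rw [hl0]
      exact iso_pair h01 hη
  · obtain ⟨c, hc⟩ := exists_norm hF.out hl0 hl
    refine ⟨Pi.single 0 c, ?_, ?_⟩
    · intro h
      have := congrFun h 0
      rw [Pi.single_eq_same, Pi.zero_apply] at this
      rw [this, zero_mul] at hc
      exact hl0 hc.symm
    · have : (Pi.single 0 c : Fin (k' + 2) → F) = c • Pi.single 0 1 := by
        ext i
        by_cases hi : i = 0
        · subst hi; simp
        · simp [Pi.single_eq_of_ne hi]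
      rw [this, hermForm_smul_left, hermForm_smul_right, h_single_single, mul_one, hc]

/-- Witt's lemma for single vectors, with prescribed determinant. -/
theorem exists_GU_det (hk : 2 ≤ k) {y y' : Fin (k + 2) → F} (hy0 : y ≠ 0) (hy0' : y' ≠ 0)
    (hyy' : hermForm (k + 2) F q y y = hermForm (k + 2) F q y' y') {μ : F} (hμ : μ * μ ^ q = 1) :
    ∃ B : Matrix (Fin (k + 2)) (Fin (k + 2)) F,
      (∀ u v, hermForm (k + 2) F q (B *ᵥ u) (B *ᵥ v) = hermForm (k + 2) F q u v) ∧ B.det = μ ∧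
        B *ᵥ y = y' := by
  obtain ⟨fr⟩ := exists_frame (F := F) (q := q) k
  obtain ⟨w₀, hw₀, hw₀n⟩ := exists_model (q := q) hk (h_self_fixed y)
  have hiw0 : iw w₀ ≠ 0 := by
    intro h
    apply hw₀
    apply iw_injective
    rw [h, iw_zero]
  obtain ⟨g₁, hg₁⟩ := exists_GU_vec (q := q) hiw0 hy0 (by rw [h_iw, hw₀n])
  obtain ⟨g₂, hg₂⟩ := exists_GU_vec (q := q) hiw0 hy0' (by rw [h_iw, hw₀n, hyy'])
  set ν := (mg g₂).det * (mg g₁⁻¹).det with hν
  have hν0 : ν ≠ 0 := mul_ne_zero (det_mg_ne_zero g₂) (det_mg_ne_zero g₁⁻¹)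
  have hνn : ν * ν ^ q = 1 := by
    rw [hν, mul_pow]
    have h1 := det_mg_norm g₂
    have h2 := det_mg_norm g₁⁻¹
    calc (mg g₂).det * (mg g₁⁻¹).det * ((mg g₂).det ^ q * (mg g₁⁻¹).det ^ q)
        = ((mg g₂).det * (mg g₂).det ^ q) * ((mg g₁⁻¹).det * (mg g₁⁻¹).det ^ q) := by ring
      _ = 1 := by rw [h1, h2, one_mul]
  have hn' : (μ * ν⁻¹) * (μ * ν⁻¹) ^ q = 1 := by
    rw [mul_pow, inv_pow]
    have : ν ^ q ≠ 0 := pow_ne_zero q hν0
    field_simp
    rw [hμ, hνn]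
  obtain ⟨t, ht0, ht⟩ := exists_quot (q := q) hn'
  refine ⟨mg g₂ * dM fr t * mg g₁⁻¹, ?_, ?_, ?_⟩
  · intro u v
    rw [← mulVec_mulVec, ← mulVec_mulVec, ← mulVec_mulVec, ← mulVec_mulVec, herm_mg,
      form_dM fr ht0, herm_mg]
  · rw [det_mul, det_mul, det_dM, ht]
    have e : (mg g₂).det * (μ * ν⁻¹) * (mg g₁⁻¹).det = μ * (ν * ν⁻¹) := by rw [hν]; ring
    rw [e, mul_inv_cancel₀ hν0, mul_one]
  · rw [← mulVec_mulVec, ← mulVec_mulVec]
    have : mg g₁⁻¹ *ᵥ y = iw w₀ := by rw [← hg₁, mg_inv_mulVec']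
    rw [this, dM_iw, hg₂]

/-- the block diagonal subgroup acts transitively on the isotropic vectors with non-zero blocks of
given norm. -/
theorem exists_bd_move (hm : 2 ≤ m) {x x' : Fin k → F} {y y' : Fin (m + 2) → F} (hx0 : x ≠ 0)
    (hx0' : x' ≠ 0) (hy0 : y ≠ 0) (hy0' : y' ≠ 0)
    (hxx' : hermForm k F q x x = hermForm k F q x' x')
    (hyy' : hermForm (m + 2) F q y y = hermForm (m + 2) F q y' y') :
    ∃ s : SU (k + (m + 2)) F q, (∀ v ∈ W0 k (m + 2) F, mt s *ᵥ v ∈ W0 k (m + 2) F) ∧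
      mt s *ᵥ apv x y = apv x' y' := by
  obtain ⟨g, hg⟩ := exists_GU_vec (q := q) hx0 hx0' hxx'
  have hμ : ((mg g).det)⁻¹ * (((mg g).det)⁻¹) ^ q = 1 := by
    rw [inv_pow, ← mul_inv, det_mg_norm, inv_one]
  obtain ⟨B, hB, hBdet, hBy⟩ := exists_GU_det (q := q) hm hy0 hy0' hyy' hμ
  have hdet : (mg g).det * B.det = 1 := by
    rw [hBdet, mul_inv_cancel₀ (det_mg_ne_zero g)]
  refine ⟨bd (mg g) B (herm_mg g) hB hdet, ?_, ?_⟩
  · intro v hv
    rw [eq_apv_of_mem_W0 hv, bd_mulVec, mulVec_zero]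
    exact apv_mem_W0 _
  · rw [bd_mulVec, hg, hBy]

end Cfsg.Agent.Helper7.SUNd
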