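import Mathlib
import Cfsg.Agent.Helper7.SUNdC

set_option autoImplicit false
set_option linter.unusedSectionVars false

/-! Non-degenerate subspaces of the unitary space: the isotropic vectors whose transvections lie in
an overgroup of the stabiliser of the first block (helper7). -/

namespace Cfsg.Agent.Helper7.SUNd

open Matrix Module Cfsg Cfsg.Agent.Helper7.Herm Cfsg.Agent.Helper8.GUOrder Cfsg.Agent.Helper8.SURoot
  Cfsg.Agent.Helper8.AutSU Cfsg.Agent.Helper7.SUSimp Cfsg.Agent.Helper7.SUMax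
  Cfsg.Agent.Helper7.SUGen

variable {F : Type*} [Field F] [Fintype F] {q N k m : ℕ} [hF : Fact (Fintype.card F = q ^ 2)]

/-- the isotropic vectors all of whose transvections lie in `M`. -/
def SS (M : Subgroup (SU N F q)) (v : Fin N → F) : Prop :=
  hermForm N F q v v = 0 ∧ ∀ s : F, s ^ q + s = 0 → TU q v s ∈ M

theorem SS_inv {M : Subgroup (SU N F q)} {A : SU N F q} (hA : A ∈ M) {v : Fin N → F}
    (hv : SS M v) : SS M (mt A *ᵥ v) := by
  refine ⟨by rw [herm_mt, hv.1], fun s hs => ?_⟩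
  rw [← conj_TU A hv.1 hs]
  exact M.mul_mem (M.mul_mem hA (hv.2 s hs)) (M.inv_mem hA)

theorem SS_smul {M : Subgroup (SU N F q)} {v : Fin N → F} (hv : SS M v) {c : F} (hc : c ≠ 0) :
    SS M (c • v) := by
  refine ⟨by rw [hermForm_smul_left, hermForm_smul_right, hv.1, mul_zero, mul_zero], fun s hs => ?_⟩
  rw [TU_smul hv.1 hs]
  exact hv.2 _ (tz_mul_fixed hs (norm_fixed c))

theorem SS_line {M : Subgroup (SU N F q)} {v₁ v₂ : Fin N → F} (h₁ : SS M v₁) (h₂ : SS M v₂)
    {s : F} (hs : s ^ q + s = 0) : SS M (v₁ + (s * hermForm N F q v₁ v₂) • v₂) := by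
  rw [← TU_mulVec h₂.1 hs]
  exact SS_inv (h₂.2 s hs) h₁

section

variable (M : Subgroup (SU (k + m) F q))
  (hPM : ∀ A : SU (k + m) F q, (∀ v, v ∈ W0 k m F ↔ mt A *ᵥ v ∈ W0 k m F) → A ∈ M)

include hPM

theorem SS_left {x : Fin k → F} (hx : hermForm k F q x x = 0) :
    SS M (apv x (0 : Fin m → F)) := by
  have hiso : hermForm (k + m) F q (apv x (0 : Fin m → F)) (apv x 0) = 0 := by
    rw [herm_apv, hx, hermForm_zero_left, add_zero]
  refine ⟨hiso, fun s hs => ?_⟩
  apply hPM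
  apply stab_of_mapsTo
  intro v hv
  rw [TU_mulVec hiso hs]
  exact (W0 k m F).add_mem hv ((W0 k m F).smul_mem _ (apv_mem_W0 x))

theorem SS_right {y : Fin m → F} (hy : hermForm m F q y y = 0) :
    SS M (apv (0 : Fin k → F) y) := by
  have hiso : hermForm (k + m) F q (apv (0 : Fin k → F) y) (apv 0 y) = 0 := by
    rw [herm_apv, hy, hermForm_zero_left, add_zero]
  refine ⟨hiso, fun s hs => ?_⟩
  apply hPM
  apply stab_of_mapsTo
  intro v hv
  rw [TU_mulVec hiso hs]
  have : hermForm (k + m) F q v (apv (0 : Fin k → F) y) = 0 := by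
    rw [eq_apv_of_mem_W0 hv, herm_apv, hermForm_zero_left, hermForm_zero_right, add_zero]
  rw [this, mul_zero, zero_smul, add_zero]
  exact hv

end

/-- all mixed isotropic vectors with isotropic blocks lie in the set. -/
def T3all (M : Subgroup (SU (k + m) F q)) : Prop :=
  ∀ (x : Fin k → F) (y : Fin m → F), x ≠ 0 → y ≠ 0 → hermForm k F q x x = 0 →
    hermForm m F q y y = 0 → SS M (apv x y)

/-- all isotropic vectors with anisotropic blocks lie in the set. -/
def T4all (M : Subgroup (SU (k + m) F q)) : Prop :=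
  ∀ (x : Fin k → F) (y : Fin m → F), hermForm k F q x x ≠ 0 →
    hermForm (k + m) F q (apv x y) (apv x y) = 0 → SS M (apv x y)

section

variable (hm : 2 ≤ m) (M : Subgroup (SU (k + (m + 2)) F q))
  (hPM : ∀ A : SU (k + (m + 2)) F q,
    (∀ v, v ∈ W0 k (m + 2) F ↔ mt A *ᵥ v ∈ W0 k (m + 2) F) → A ∈ M)

include hm hPM

theorem T3all_of_mem {x : Fin k → F} {y : Fin (m + 2) → F} (hx0 : x ≠ 0) (hy0 : y ≠ 0)
    (hx : hermForm k F q x x = 0) (hS : SS M (apv x y)) : T3all M := by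
  intro x' y' hx0' hy0' hx' hy'
  have hy : hermForm (m + 2) F q y y = 0 := by
    have := hS.1
    rw [herm_apv, hx, zero_add] at this
    exact this
  obtain ⟨s, hsW, hs⟩ := exists_bd_move (q := q) hm hx0 hx0' hy0 hy0' (hx.trans hx'.symm)
    (hy.trans hy'.symm)
  rw [← hs]
  exact SS_inv (hPM s (stab_of_mapsTo _ s hsW)) hS

theorem T4all_of_mem {x : Fin k → F} {y : Fin (m + 2) → F}
    (hx : hermForm k F q x x ≠ 0) (hS : SS M (apv x y)) : T4all M := by
  intro x' y' hx' hiso'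
  have hy : hermForm (m + 2) F q y y = -hermForm k F q x x := by
    have := hS.1
    rw [herm_apv] at this
    linear_combination this
  have hy' : hermForm (m + 2) F q y' y' = -hermForm k F q x' x' := by
    rw [herm_apv] at hiso'
    linear_combination hiso'
  set l := hermForm k F q x x with hl
  set l' := hermForm k F q x' x' with hl'
  have hfix : (l' / l) ^ q = l' / l := by
    rw [div_pow, hl, hl', h_self_fixed, h_self_fixed]
  obtain ⟨c, hc⟩ := exists_norm hF.out (div_ne_zero hx' hx) hfix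
  have hc0 : c ≠ 0 := by
    rintro rfl
    rw [zero_mul] at hc
    exact (div_ne_zero hx' hx) hc.symm
  have hx0 : x ≠ 0 := by
    rintro rfl
    exact hx (hermForm_zero_left _)
  have hx0' : x' ≠ 0 := by
    rintro rfl
    exact hx' (hermForm_zero_left _)
  have hy0 : y ≠ 0 := by
    rintro rfl
    rw [hermForm_zero_left] at hy
    exact hx (neg_eq_zero.mp hy.symm)
  have hy0' : y' ≠ 0 := by
    rintro rfl
    rw [hermForm_zero_left] at hy'
    exact hx' (neg_eq_zero.mp hy'.symm)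
  have h1 : hermForm k F q (c • x) (c • x) = hermForm k F q x' x' := by
    rw [hermForm_smul_left, hermForm_smul_right, ← mul_assoc, hc, ← hl, div_mul_cancel₀ _ hx]
  have h2 : hermForm (m + 2) F q (c • y) (c • y) = hermForm (m + 2) F q y' y' := by
    rw [hermForm_smul_left, hermForm_smul_right, ← mul_assoc, hc, hy, hy']
    field_simp
  obtain ⟨s, hsW, hs⟩ := exists_bd_move (q := q) hm (smul_ne_zero hc0 hx0) hx0'
    (smul_ne_zero hc0 hy0) hy0' h1 h2
  rw [← hs, apv_smul]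
  exact SS_inv (hPM s (stab_of_mapsTo _ s hsW)) (SS_smul hS hc0)

end

section

variable {k' : ℕ} (hm : 2 ≤ m) (M : Subgroup (SU ((k' + 2) + (m + 2)) F q))
  (hPM : ∀ A : SU ((k' + 2) + (m + 2)) F q,
    (∀ v, v ∈ W0 (k' + 2) (m + 2) F ↔ mt A *ᵥ v ∈ W0 (k' + 2) (m + 2) F) → A ∈ M)

include hm hPM

theorem T4all_of_T3all (h3 : T3all M) : T4all M := by
  obtain ⟨fr₁⟩ := exists_frame (F := F) (q := q) k'
  obtain ⟨fr₂⟩ := exists_frame (F := F) (q := q) m
  obtain ⟨β, hβ⟩ := exists_not_fixed hF.out (K := F)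
  obtain ⟨s, hs0, hs⟩ := exists_tz_ne_zero (F := F) (q := q)
  have hβ0 : β ≠ 0 := by
    rintro rfl
    exact hβ b_zero
  have hβq0 : β ^ q ≠ 0 := pow_ne_zero q hβ0
  have hv₁ : SS M (apv fr₁.e fr₂.e) := h3 _ _ fr₁.e_ne_zero fr₂.e_ne_zero fr₁.he fr₂.he
  have hv₂ : SS M (apv fr₁.f (β ^ q • fr₂.f)) :=
    h3 _ _ fr₁.f_ne_zero (smul_ne_zero hβq0 fr₂.f_ne_zero) fr₁.hf
      (by rw [hermForm_smul_left, hermForm_smul_right, fr₂.hf, mul_zero, mul_zero])
  have hH : hermForm ((k' + 2) + (m + 2)) F q (apv fr₁.e fr₂.e) (apv fr₁.f (β ^ q • fr₂.f))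
      = 1 + β := by
    rw [herm_apv, fr₁.hef, hermForm_smul_right, fr₂.hef, bb, mul_one]
  have hnew := SS_line hv₁ hv₂ hs
  rw [hH] at hnew
  set t := s * (1 + β) with ht
  have hnew' : apv fr₁.e fr₂.e + t • apv fr₁.f (β ^ q • fr₂.f)
      = apv (fr₁.e + t • fr₁.f) (fr₂.e + t • (β ^ q • fr₂.f)) := by
    rw [apv_add, apv_smul]
  rw [hnew'] at hnew
  have hsq : s ^ q = -s := by linear_combination hs
  have hnorm : hermForm (k' + 2) F q (fr₁.e + t • fr₁.f) (fr₁.e + t • fr₁.f) ≠ 0 := by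
    rw [hermForm_add_left, h_add_right, h_add_right, hermForm_smul_left, hermForm_smul_left,
      hermForm_smul_right, hermForm_smul_right, fr₁.he, fr₁.hf, fr₁.hef, fr₁.hfe]
    have e : (0 : F) + t ^ q * 1 + (t * 1 + t * (t ^ q * 0)) = s * (β - β ^ q) := by
      rw [ht, mul_pow, b_add, b_one, hsq]
      ring
    rw [e]
    exact mul_ne_zero hs0 (sub_ne_zero.mpr (Ne.symm hβ))
  exact T4all_of_mem hm M hPM hnorm hnew

theorem T3all_of_T4all (h4 : T4all M) : T3all M := by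
  obtain ⟨fr₁⟩ := exists_frame (F := F) (q := q) k'
  obtain ⟨fr₂⟩ := exists_frame (F := F) (q := q) m
  obtain ⟨ρ, hρ⟩ := exists_trace (F := F) (q := q) (c := 1) (one_pow q)
  obtain ⟨ε, hε0, hε⟩ := exists_tz_ne_zero (F := F) (q := q)
  obtain ⟨w, hw0, hw⟩ := exists_model (F := F) (q := q) hm (l := -1) (by rw [b_neg, b_one])
  have hεq : ε ^ q = -ε := by linear_combination hε
  set x₁ := fr₁.e + ρ • fr₁.f with hx₁
  set x₂ := fr₁.e + (ρ + ε) • fr₁.f with hx₂
  set y₁ : Fin (m + 2) → F := iw w with hy₁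
  set y₂ : Fin (m + 2) → F := iw w + fr₂.e with hy₂
  have n₁ : hermForm (k' + 2) F q x₁ x₁ = 1 := by
    rw [hx₁, hermForm_add_left, h_add_right, h_add_right, hermForm_smul_left, hermForm_smul_left,
      hermForm_smul_right, hermForm_smul_right, fr₁.he, fr₁.hf, fr₁.hef, fr₁.hfe]
    linear_combination hρ
  have n₂ : hermForm (k' + 2) F q x₂ x₂ = 1 := by
    rw [hx₂, hermForm_add_left, h_add_right, h_add_right, hermForm_smul_left, hermForm_smul_left,
      hermForm_smul_right, hermForm_smul_right, fr₁.he, fr₁.hf, fr₁.hef, fr₁.hfe, b_add, hεq]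
    linear_combination hρ
  have n₁₂ : hermForm (k' + 2) F q x₁ x₂ = 1 - ε := by
    rw [hx₁, hx₂, hermForm_add_left, h_add_right, h_add_right, hermForm_smul_left,
      hermForm_smul_left, hermForm_smul_right, hermForm_smul_right, fr₁.he, fr₁.hf, fr₁.hef,
      fr₁.hfe, b_add, hεq]
    linear_combination hρ
  have p₁ : hermForm (m + 2) F q y₁ y₁ = -1 := by rw [hy₁, h_iw, hw]
  have p₂ : hermForm (m + 2) F q y₂ y₂ = -1 := by
    rw [hy₂, hermForm_add_left, h_add_right, h_add_right, h_iw, hw, fr₂.hwe, fr₂.hew, fr₂.he]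
    ring
  have p₁₂ : hermForm (m + 2) F q y₁ y₂ = -1 := by
    rw [hy₁, hy₂, h_add_right, h_iw, hw, fr₂.hwe, add_zero]
  have hv₁ : SS M (apv x₁ y₁) := h4 _ _ (by rw [n₁]; exact one_ne_zero)
    (by rw [herm_apv, n₁, p₁]; ring)
  have hv₂ : SS M (apv x₂ y₂) := h4 _ _ (by rw [n₂]; exact one_ne_zero)
    (by rw [herm_apv, n₂, p₂]; ring)
  have hsε : (ε⁻¹) ^ q + ε⁻¹ = 0 := by
    rw [inv_pow, hεq]
    field_simp
    ring
  have hnew := SS_line hv₁ hv₂ hsε
  have hH : ε⁻¹ * hermForm ((k' + 2) + (m + 2)) F q (apv x₁ y₁) (apv x₂ y₂) = -1 := by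
    rw [herm_apv, n₁₂, p₁₂]
    field_simp
    ring
  rw [hH, neg_one_smul, ← sub_eq_add_neg, ← apv_sub] at hnew
  have hxd : x₁ - x₂ = (-ε) • fr₁.f := by
    rw [hx₁, hx₂]
    module
  have hyd : y₁ - y₂ = -fr₂.e := by
    rw [hy₁, hy₂]
    abel
  rw [hxd, hyd] at hnew
  exact T3all_of_mem hm M hPM (smul_ne_zero (neg_ne_zero.mpr hε0) fr₁.f_ne_zero)
    (neg_ne_zero.mpr fr₂.e_ne_zero)
    (by rw [hermForm_smul_left, hermForm_smul_right, fr₁.hf, mul_zero, mul_zero]) hnew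

end

end Cfsg.Agent.Helper7.SUNd
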