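import Mathlib
import Cfsg.Agent.Helper7.SUNdD

set_option autoImplicit false
set_option linter.unusedSectionVars false

/-! Non-degenerate subspaces of the unitary space: the dichotomy for the first block (helper7). -/

namespace Cfsg.Agent.Helper7.SUNd

open Matrix Module Cfsg Cfsg.Agent.Helper7.Herm Cfsg.Agent.Helper8.GUOrder Cfsg.Agent.Helper8.SURoot
  Cfsg.Agent.Helper8.AutSU Cfsg.Agent.Helper7.SUSimp Cfsg.Agent.Helper7.SUMax
  Cfsg.Agent.Helper7.SUGen

variable {F : Type*} [Field F] [Fintype F] {q N k m : ℕ} [hF : Fact (Fintype.card F = q ^ 2)]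

/-- the isotropic vectors span the space. -/
theorem iso_span (S : Submodule F (Fin (m + 2) → F))
    (h : ∀ y : Fin (m + 2) → F, hermForm (m + 2) F q y y = 0 → y ∈ S) (y : Fin (m + 2) → F) :
    y ∈ S := by
  obtain ⟨fr⟩ := exists_frame (F := F) (q := q) m
  have hw : ∀ w : Fin m → F, (iw w : Fin (m + 2) → F) ∈ S := by
    intro w
    obtain ⟨a, ha⟩ := exists_sg (q := q) w
    have h1 : fr.f + iw w + a • fr.e ∈ S := by
      apply h
      rw [← fr.sg_f ha, herm_mt, fr.hf]
    have h2 : (iw w : Fin (m + 2) → F) = (fr.f + iw w + a • fr.e) - fr.f - a • fr.e := by abel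
    rw [h2]
    exact S.sub_mem (S.sub_mem h1 (h _ fr.hf)) (S.smul_mem _ (h _ fr.he))
  rw [fr.dec y]
  exact S.add_mem (S.add_mem (S.smul_mem _ (h _ fr.he)) (S.smul_mem _ (h _ fr.hf))) (hw _)

theorem herm_W0_U0 {u v : Fin (k + m) → F} (hu : u ∈ W0 k m F) (hv : v ∈ U0 k m F) :
    hermForm (k + m) F q u v = 0 := by
  rw [eq_apv_of_mem_W0 hu, eq_apv_of_mem_U0 hv, herm_apv, hermForm_zero_left, hermForm_zero_right,
    add_zero]

theorem herm_U0_W0 {u v : Fin (k + m) → F} (hu : u ∈ U0 k m F) (hv : v ∈ W0 k m F) :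
    hermForm (k + m) F q u v = 0 := by
  rw [eq_apv_of_mem_W0 hv, eq_apv_of_mem_U0 hu, herm_apv, hermForm_zero_left, hermForm_zero_right,
    add_zero]

theorem mem_W0_of_perp {u : Fin (k + m) → F}
    (h : ∀ y : Fin m → F, hermForm (k + m) F q u (apv 0 y) = 0) : u ∈ W0 k m F := by
  rw [mem_W0]
  apply eq_zero_of_h_right (q := q)
  intro y
  have := h y
  rw [← apv_p u, herm_apv, hermForm_zero_right, zero_add] at this
  exact this

/-- the embedding of the second block, as a linear map. -/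
def apvR (k m : ℕ) (F : Type*) [Field F] : (Fin m → F) →ₗ[F] (Fin (k + m) → F) where
  toFun y := apv 0 y
  map_add' y y' := by rw [← apv_add, add_zero]
  map_smul' c y := by rw [RingHom.id_apply, ← apv_smul, smul_zero]

omit [Fintype F] hF in
theorem apvR_apply (y : Fin m → F) : apvR k m F y = apv 0 y := rfl

section

variable (hkm : k < m + 2) (M : Subgroup (SU (k + (m + 2)) F q))
  (hPM : ∀ A : SU (k + (m + 2)) F q,
    (∀ v, v ∈ W0 k (m + 2) F ↔ mt A *ᵥ v ∈ W0 k (m + 2) F) → A ∈ M)

include hkm hPM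

/-- an element of the overgroup not stabilising the first block yields a mixed vector. -/
theorem exists_mixed {A : SU (k + (m + 2)) F q} (hA : A ∈ M)
    (hAW : ¬ ∀ v, v ∈ W0 k (m + 2) F ↔ mt A *ᵥ v ∈ W0 k (m + 2) F) :
    ∃ (x : Fin k → F) (y : Fin (m + 2) → F), x ≠ 0 ∧ y ≠ 0 ∧ SS M (apv x y) := by
  by_contra hcon
  push Not at hcon
  -- the images of the isotropic vectors of the second block lie in one of the blocks
  have hb : ∀ y : Fin (m + 2) → F, hermForm (m + 2) F q y y = 0 →
      p1 (mt A *ᵥ apv (0 : Fin k → F) y) = 0 ∨ p2 (mt A *ᵥ apv (0 : Fin k → F) y) = 0 := by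
    intro y hy
    by_contra hne
    push Not at hne
    have := SS_inv hA (SS_right M hPM hy)
    rw [← apv_p (mt A *ᵥ apv (0 : Fin k → F) y)] at this
    exact hcon _ _ hne.1 hne.2 this
  by_cases hall : ∀ y : Fin (m + 2) → F, hermForm (m + 2) F q y y = 0 →
      p1 (mt A *ᵥ apv (0 : Fin k → F) y) = 0
  · -- `A` preserves the second block, hence the first
    apply hAW
    have hU : ∀ u ∈ U0 k (m + 2) F, mt A *ᵥ u ∈ U0 k (m + 2) F := by
      intro u hu
      rw [eq_apv_of_mem_U0 hu]
      have := iso_span (q := q)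
        ((U0 k (m + 2) F).comap ((Matrix.mulVecLin (mt A)).comp (apvR k (m + 2) F)))
        (fun y hy => by
          rw [Submodule.mem_comap, LinearMap.comp_apply, Matrix.mulVecLin_apply, apvR_apply, mem_U0]
          exact hall y hy) (p2 u)
      rw [Submodule.mem_comap, LinearMap.comp_apply, Matrix.mulVecLin_apply, apvR_apply] at this
      exact this
    have hU' := stab_of_mapsTo _ A hU
    apply stab_of_mapsTo
    intro v hv
    apply mem_W0_of_perp (q := q)
    intro y
    have h1 : mt A *ᵥ (mt A⁻¹ *ᵥ apv (0 : Fin k → F) y) = apv 0 y := mt_inv_mulVec A _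
    have h2 : mt A⁻¹ *ᵥ apv (0 : Fin k → F) y ∈ U0 k (m + 2) F := by
      rw [hU', h1]
      exact apv_mem_U0 y
    rw [← h1, herm_mt]
    exact herm_W0_U0 hv h2
  · push Not at hall
    obtain ⟨y₀, hy₀, hy₀1⟩ := hall
    have hy₀2 : p2 (mt A *ᵥ apv (0 : Fin k → F) y₀) = 0 := (hb y₀ hy₀).resolve_left hy₀1
    have hy₀0 : y₀ ≠ 0 := by
      rintro rfl
      apply hy₀1
      rw [apv_zero, Matrix.mulVec_zero]
      rfl
    have keyWU : ∀ y y' : Fin (m + 2) → F, p2 (mt A *ᵥ apv (0 : Fin k → F) y) = 0 →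
        p1 (mt A *ᵥ apv (0 : Fin k → F) y') = 0 → hermForm (m + 2) F q y y' = 0 := by
      intro y y' h1 h2
      have := herm_W0_U0 (q := q) (mem_W0.mpr h1) (mem_U0.mpr h2)
      rw [herm_mt, herm_apv, hermForm_zero_left, zero_add] at this
      exact this
    have keyUW : ∀ y y' : Fin (m + 2) → F, p1 (mt A *ᵥ apv (0 : Fin k → F) y) = 0 →
        p2 (mt A *ᵥ apv (0 : Fin k → F) y') = 0 → hermForm (m + 2) F q y y' = 0 := by
      intro y y' h1 h2
      have := herm_U0_W0 (q := q) (mem_U0.mpr h1) (mem_W0.mpr h2)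
      rw [herm_mt, herm_apv, hermForm_zero_left, zero_add] at this
      exact this
    have hallW : ∀ y : Fin (m + 2) → F, hermForm (m + 2) F q y y = 0 →
        p2 (mt A *ᵥ apv (0 : Fin k → F) y) = 0 := by
      intro y₁ hy₁
      by_contra h2
      have h1 : p1 (mt A *ᵥ apv (0 : Fin k → F) y₁) = 0 := (hb y₁ hy₁).resolve_right h2
      have hy₁0 : y₁ ≠ 0 := by
        rintro rfl
        apply h2
        rw [apv_zero, Matrix.mulVec_zero]
        rfl
      have h01 := keyWU y₀ y₁ hy₀2 h1
      obtain ⟨r, hr, hr0, hr1⟩ := exists_middle hy₀0 hy₀ hy₁0 h01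
      rcases hb r hr with h | h
      · exact hr0 (keyWU y₀ r hy₀2 h)
      · exact hr1 (keyWU r y₁ h h1)
    have hallW' : ∀ y : Fin (m + 2) → F, p2 (mt A *ᵥ apv (0 : Fin k → F) y) = 0 := by
      intro y
      have := iso_span (q := q)
        ((W0 k (m + 2) F).comap ((Matrix.mulVecLin (mt A)).comp (apvR k (m + 2) F)))
        (fun y hy => by
          rw [Submodule.mem_comap, LinearMap.comp_apply, Matrix.mulVecLin_apply, apvR_apply, mem_W0]
          exact hallW y hy) y
      rw [Submodule.mem_comap, LinearMap.comp_apply, Matrix.mulVecLin_apply, apvR_apply,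
        mem_W0] at this
      exact this
    have hinj : Function.Injective
        (fun y : Fin (m + 2) → F => p1 (mt A *ᵥ apv (0 : Fin k → F) y)) := by
      intro y y' hyy'
      beta_reduce at hyy'
      have e1 : mt A *ᵥ apv (0 : Fin k → F) y = mt A *ᵥ apv (0 : Fin k → F) y' := by
        rw [← apv_p (mt A *ᵥ apv (0 : Fin k → F) y), ← apv_p (mt A *ᵥ apv (0 : Fin k → F) y'),
          hallW' y, hallW' y', hyy']
      have e2 : apv (0 : Fin k → F) y = apv (0 : Fin k → F) y' := by
        rw [← mt_inv_mulVec' A (apv (0 : Fin k → F) y), e1, mt_inv_mulVec']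
      exact (apv_inj e2).2
    have hcard := Fintype.card_le_of_injective _ hinj
    rw [Fintype.card_fun, Fintype.card_fun, Fintype.card_fin, Fintype.card_fin] at hcard
    have := (Nat.pow_le_pow_iff_right (Fintype.one_lt_card (α := F))).mp hcard
    omega

end

end Cfsg.Agent.Helper7.SUNd
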