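import Mathlib
import Cfsg.Agent.Helper7.PolH
import Cfsg.Agent.Helper7.SUNdE

set_option autoImplicit false
set_option linter.unusedSectionVars false

/-!
Derangements of odd prime order `r ≠ p`, II: block elements `x₀ ⊕ 1` with `x₀` of order `r` in
`GU_e(q)`, and the conclusion for all odd primes dividing some `q^(2j+1) + 1` (helper7).
-/

namespace Cfsg.Agent.Helper7.Pol

open Matrix Module Cfsg Cfsg.Agent.Helper7.Herm Cfsg.Agent.Helper8.GUOrder Cfsg.Agent.Helper8.SURoot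
  Cfsg.Agent.Helper8.AutSU Cfsg.Agent.Helper7.SUMax Cfsg.Agent.Helper7.SUNd
  Cfsg.Agent.Helper7.SUPair Cfsg.Agent.Helper7.Invol Cfsg.Agent.Helper7.Ex27
  Cfsg.Agent.Helper8.MaxSingular

variable {F : Type*} [Field F] [Fintype F] {q N k e m : ℕ} [hF : Fact (Fintype.card F = q ^ 2)]

omit [Fintype F] hF in
theorem bdM_mul_gen (A A' : Matrix (Fin e) (Fin e) F) (B B' : Matrix (Fin m) (Fin m) F) :
    bdM A B * bdM A' B' = bdM (A * A') (B * B') := by
  apply Matrix.toLin'.injective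
  apply LinearMap.ext
  intro v
  rw [Matrix.toLin'_apply, Matrix.toLin'_apply, ← apv_p v, ← Matrix.mulVec_mulVec, bdM_mulVec,
    bdM_mulVec, bdM_mulVec, Matrix.mulVec_mulVec, Matrix.mulVec_mulVec]

omit [Fintype F] hF in
theorem bdM_one_gen : bdM (1 : Matrix (Fin e) (Fin e) F) (1 : Matrix (Fin m) (Fin m) F) = 1 := by
  apply Matrix.toLin'.injective
  apply LinearMap.ext
  intro v
  rw [Matrix.toLin'_apply, Matrix.toLin'_apply, ← apv_p v, bdM_mulVec, Matrix.one_mulVec,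
    Matrix.one_mulVec, Matrix.one_mulVec]

omit [Fintype F] hF in
theorem bdM_pow_gen (A : Matrix (Fin e) (Fin e) F) (B : Matrix (Fin m) (Fin m) F) (n : ℕ) :
    bdM A B ^ n = bdM (A ^ n) (B ^ n) := by
  induction n with
  | zero => rw [pow_zero, pow_zero, pow_zero, bdM_one_gen]
  | succ n ih => rw [pow_succ, ih, bdM_mul_gen, ← pow_succ, ← pow_succ]

omit [Fintype F] hF in
theorem finrank_fixS_bdM (A : Matrix (Fin e) (Fin e) F) :
    m ≤ finrank F (fixS (bdM A (1 : Matrix (Fin m) (Fin m) F))) := by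
  have hinj : Function.Injective (apvR e m F) := by
    intro y y' h
    exact (apv_inj h).2
  have h1 : finrank F (LinearMap.range (apvR e m F)) = m := by
    rw [LinearMap.finrank_range_of_inj hinj, Module.finrank_fin_fun]
  have h2 : LinearMap.range (apvR e m F) ≤ fixS (bdM A (1 : Matrix (Fin m) (Fin m) F)) := by
    rintro _ ⟨y, rfl⟩
    rw [mem_fixS, apvR_apply, bdM_mulVec, Matrix.mulVec_zero, Matrix.one_mulVec]
  have := Submodule.finrank_mono h2
  omega

/-- **The block derangements.** -/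
theorem derangement_block (D : Fin 2 → Submodule F (Fin N → F))
    (hD : Cfsg.Geo.IsMDecomposition k D)
    (hts : ∀ i, Cfsg.Geo.IsTotallySingularFor (Cfsg.hermForm N F q) (D i)) (hk : 2 ≤ k)
    (r : ℕ) [Fact r.Prime] (hr2 : r ≠ 2) (hrq : ¬ r ∣ q)
    (e : ℕ) (hepos : 0 < e) (heodd : Odd e) (heN : e < N) (hdvd : r ∣ q ^ e + 1)
    (hq1 : ¬ r ∣ q + 1) (he : ∀ t, r ∣ q ^ (2 * t) - 1 → e ∣ t) :
    ∃ x ∈ Cfsg.GU N F q ⊓ Cfsg.Geo.specialLinear (Fin N) F,
      (∃ z : F, ((x ^ r : GL (Fin N) F) : Matrix (Fin N) (Fin N) F) =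
        z • (1 : Matrix (Fin N) (Fin N) F)) ∧
      (∀ z : F, (x : Matrix (Fin N) (Fin N) F) ≠ z • (1 : Matrix (Fin N) (Fin N) F)) ∧
      ∀ g ∈ Cfsg.GU N F q ⊓ Cfsg.Geo.specialLinear (Fin N) F,
        g⁻¹ * x * g ∉ Cfsg.Geo.decompositionStabilizer D := by
  classical
  have hr := (Fact.out : r.Prime)
  obtain ⟨hd, hf0, hf1, hsum⟩ := lpair_of_decomp (q := q) D hD hts
  obtain ⟨m', rfl⟩ : ∃ m', N = e + m' := ⟨N - e, by omega⟩
  have hm' : 1 ≤ m' := by omega
  have hcardGU : r ∣ Nat.card (GU e F q) := by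
    rw [card_GU hF.out]
    apply dvd_mul_of_dvd_right
    have hmem : e - 1 ∈ Finset.range e := Finset.mem_range.mpr (by omega)
    refine Dvd.dvd.trans ?_ (Finset.dvd_prod_of_mem _ hmem)
    have hev : Even (e - 1) := by
      obtain ⟨s, hs⟩ := heodd
      exact ⟨s, by omega⟩
    rw [if_pos hev, Nat.sub_add_cancel hepos]
    exact hdvd
  obtain ⟨x₀, hx₀⟩ := exists_prime_orderOf_dvd_card' r hcardGU
  set X₀ : Matrix (Fin e) (Fin e) F := mg x₀ with hX₀
  have hX₀r : X₀ ^ r = 1 := by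
    have h1 : x₀ ^ r = 1 := by rw [← hx₀]; exact pow_orderOf_eq_one x₀
    have h2 := congrArg (fun g : GU e F q => ((g : GL (Fin e) F) : Matrix (Fin e) (Fin e) F)) h1
    simpa using h2
  have hX₀1 : X₀ ≠ 1 := by
    intro h
    have : x₀ = 1 := by
      apply Subtype.ext
      apply Units.ext
      exact h
    rw [this, orderOf_one] at hx₀
    exact hr.one_lt.ne hx₀
  have hX₀U : ∀ u v, hermForm e F q (X₀ *ᵥ u) (X₀ *ᵥ v) = hermForm e F q u v :=
    fun u v => x₀.2 u v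
  have hdet₀ : X₀.det = 1 := by
    have h1 : X₀.det ^ r = 1 := by rw [← Matrix.det_pow, hX₀r, Matrix.det_one]
    have h2 : X₀.det ^ (q + 1) = 1 := det_GU_norm_gen (q := q) x₀.2
    have h3 := pow_gcd_eq_one.mpr ⟨h1, h2⟩
    rw [(Nat.Prime.coprime_iff_not_dvd hr).mpr hq1, pow_one] at h3
    exact h3
  set X : Matrix (Fin (e + m')) (Fin (e + m')) F := bdM X₀ 1 with hX
  have hXr : X ^ r = 1 := by rw [hX, bdM_pow_gen, hX₀r, one_pow, bdM_one_gen]
  have hXinv : X * bdM (X₀ ^ (r - 1)) 1 = 1 := by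
    rw [hX, bdM_mul_gen, ← pow_succ', Nat.sub_add_cancel hr.one_lt.le, hX₀r, one_mul, bdM_one_gen]
  have hXinv' : bdM (X₀ ^ (r - 1)) 1 * X = 1 := by
    rw [hX, bdM_mul_gen, ← pow_succ, Nat.sub_add_cancel hr.one_lt.le, hX₀r, one_mul, bdM_one_gen]
  set x : GL (Fin (e + m')) F := ⟨X, bdM (X₀ ^ (r - 1)) 1, hXinv, hXinv'⟩ with hx
  have hxm : (x : Matrix (Fin (e + m')) (Fin (e + m')) F) = X := rfl
  have hXU : ∀ u v, hermForm (e + m') F q (X *ᵥ u) (X *ᵥ v) = hermForm (e + m') F q u v := by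
    intro u v
    rw [← apv_p u, ← apv_p v, hX, bdM_mulVec, bdM_mulVec, herm_apv, herm_apv, hX₀U,
      Matrix.one_mulVec, Matrix.one_mulVec]
  have hXdet : X.det = 1 := by rw [hX, det_bdM, hdet₀, Matrix.det_one, one_mul]
  have hXne : ∀ z : F, X ≠ z • (1 : Matrix (Fin (e + m')) (Fin (e + m')) F) := by
    intro z hz
    set y₀ : Fin m' → F := fun _ => 1 with hy₀
    have hy₀0 : apv (0 : Fin e → F) y₀ ≠ 0 := by
      intro h
      have := congrArg p2 h
      rw [p2_apv] at this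
      have h2 := congrFun this ⟨0, by omega⟩
      simp [hy₀, p2] at h2
    have h1 : X *ᵥ apv 0 y₀ = apv 0 y₀ := by
      rw [hX, bdM_mulVec, Matrix.mulVec_zero, Matrix.one_mulVec]
    rw [hz, Matrix.smul_mulVec, Matrix.one_mulVec] at h1
    have hz1 : z = 1 := by
      by_contra hne
      apply hy₀0
      have : (z - 1) • apv (0 : Fin e → F) y₀ = 0 := by rw [sub_smul, h1, one_smul, sub_self]
      exact (smul_eq_zero.mp this).resolve_left (sub_ne_zero.mpr hne)
    apply hX₀1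
    apply Matrix.toLin'.injective
    apply LinearMap.ext
    intro v
    rw [Matrix.toLin'_apply, Matrix.toLin'_apply, Matrix.one_mulVec]
    have h2 : X *ᵥ apv v (0 : Fin m' → F) = apv v 0 := by
      rw [hz, hz1, one_smul, Matrix.one_mulVec]
    rw [hX, bdM_mulVec] at h2
    exact (apv_inj h2).1
  refine ⟨x, Subgroup.mem_inf.mpr ⟨fun u v => hXU u v, (mem_SL_iff _).mpr hXdet⟩, ⟨1, ?_⟩,
    hXne, ?_⟩
  · rw [Units.val_pow_eq_pow_val, hxm, hXr, one_smul]
  · intro g hg hmem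
    obtain ⟨E, E', hdE, hfE, hfE', hst⟩ := exists_lpair_of_conj (q := q) D hD hts hg.1 hmem
    rw [hxm] at hst
    have hX1 : X ≠ 1 := by
      intro h
      apply hXne 1
      rw [h, one_smul]
    have hfix : e + m' ≤ finrank F (fixS X) + e := by
      have : m' ≤ finrank F (fixS X) := finrank_fixS_bdM (m := m') X₀
      omega
    exact not_stab_of_block (q := q) X hXU r hr2 hrq hXr hX1 e hepos he hfix hdE hfE hfE' hsum
      (by omega) hst

/-- **Derangements of odd prime order**: if an odd prime `r ∤ q` divides `q^(2j+1) + 1` for some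
`j < k`, some element of order `r` modulo scalars fixes no point. -/
theorem derangement_odd (D : Fin 2 → Submodule F (Fin N → F))
    (hD : Cfsg.Geo.IsMDecomposition k D)
    (hts : ∀ i, Cfsg.Geo.IsTotallySingularFor (Cfsg.hermForm N F q) (D i)) (hk : 2 ≤ k)
    (r : ℕ) [Fact r.Prime] (hr2 : r ≠ 2) (hrq : ¬ r ∣ q) (j : ℕ) (hj : j < k)
    (hdvd : r ∣ q ^ (2 * j + 1) + 1) :
    ∃ x ∈ Cfsg.GU N F q ⊓ Cfsg.Geo.specialLinear (Fin N) F,
      (∃ z : F, ((x ^ r : GL (Fin N) F) : Matrix (Fin N) (Fin N) F) =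
        z • (1 : Matrix (Fin N) (Fin N) F)) ∧
      (∀ z : F, (x : Matrix (Fin N) (Fin N) F) ≠ z • (1 : Matrix (Fin N) (Fin N) F)) ∧
      ∀ g ∈ Cfsg.GU N F q ⊓ Cfsg.Geo.specialLinear (Fin N) F,
        g⁻¹ * x * g ∉ Cfsg.Geo.decompositionStabilizer D := by
  obtain ⟨-, -, -, hsum⟩ := lpair_of_decomp (q := q) D hD hts
  obtain ⟨e, hepos, hem, heodd, hedvd, hq1, he⟩ :=
    exists_min_exp (r := r) (q := q) (m := 2 * j + 1) hr2 ⟨j, rfl⟩ hdvd
  by_cases he1 : e = 1
  · subst he1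
    rw [pow_one] at hedvd
    exact derangement_diag (q := q) D hD hts hk r hr2 hedvd
  · exact derangement_block (q := q) D hD hts hk r hr2 hrq e hepos heodd (by omega) hedvd
      (hq1 (by omega)) he

end Cfsg.Agent.Helper7.Pol
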