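import Mathlib
import Cfsg.Agent.Helper7.PolI

set_option autoImplicit false
set_option linter.unusedSectionVars false

/-!
Elements of order two modulo scalars of `SU_n(q)`, `q` odd, stabilise a pair of complementary
totally isotropic subspaces when the 2-part of `q + 1` is at most that of `n`: matchings of
eigenvectors, frames built from orthonormal bases, and the two cases (helper7).
-/

namespace Cfsg.Agent.Helper7.Pol

open Matrix Module Cfsg Cfsg.Agent.Helper7.Herm Cfsg.Agent.Helper8.GUOrder Cfsg.Agent.Helper8.SURoot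
  Cfsg.Agent.Helper8.AutSU Cfsg.Agent.Helper7.SUMax Cfsg.Agent.Helper7.SUNd
  Cfsg.Agent.Helper7.SUPair Cfsg.Agent.Helper7.Invol Cfsg.Agent.Helper7.Ex27
  Cfsg.Agent.Helper8.MaxSingular

/-- A perfect matching of a finite set respecting a colouring with two colours, each colour class
being even. -/
theorem exists_matching {ι : Type*} [DecidableEq ι] (e : ι → Fin 2) :
    ∀ (m : ℕ) (S : Finset ι), S.card = m + m → Even (S.filter (fun i => e i = 1)).card →
      ∃ α β : Fin m → ι, (∀ i, α i ∈ S) ∧ (∀ i, β i ∈ S) ∧ Function.Injective α ∧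
        Function.Injective β ∧ (∀ i j, α i ≠ β j) ∧ ∀ i, e (α i) = e (β i) := by
  intro m
  induction m with
  | zero =>
    intro S _ _
    exact ⟨fun i => i.elim0, fun i => i.elim0, fun i => i.elim0, fun i => i.elim0,
      fun i => i.elim0, fun i => i.elim0, fun i => i.elim0, fun i => i.elim0⟩
  | succ m ih =>
    intro S hS hev
    have h01 : ∀ t : Fin 2, t ≠ 1 → t = 0 := by decide
    -- two elements of the same colour
    obtain ⟨s, hs, t, ht, hst, hest, hpar⟩ : ∃ s ∈ S, ∃ t ∈ S, s ≠ t ∧ e s = e t ∧
        Even (((S.erase s).erase t).filter (fun i => e i = 1)).card := by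
      by_cases hne : (S.filter (fun i => e i = 1)).Nonempty
      · have h2 : 1 < (S.filter (fun i => e i = 1)).card := by
          have hpos := Finset.card_pos.mpr hne
          obtain ⟨c, hc⟩ := hev
          omega
        obtain ⟨s, hs, t, ht, hst⟩ := Finset.one_lt_card.mp h2
        rw [Finset.mem_filter] at hs ht
        refine ⟨s, hs.1, t, ht.1, hst, by rw [hs.2, ht.2], ?_⟩
        rw [Finset.filter_erase, Finset.filter_erase, Finset.card_erase_of_mem,
          Finset.card_erase_of_mem (Finset.mem_filter.mpr hs)]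
        · obtain ⟨c, hc⟩ := hev
          exact ⟨c - 1, by omega⟩
        · rw [Finset.mem_erase]
          exact ⟨hst.symm, Finset.mem_filter.mpr ht⟩
      · rw [Finset.not_nonempty_iff_eq_empty] at hne
        have h2 : 1 < S.card := by omega
        obtain ⟨s, hs, t, ht, hst⟩ := Finset.one_lt_card.mp h2
        have hs1 : e s ≠ 1 := fun h => by
          have : s ∈ S.filter (fun i => e i = 1) := Finset.mem_filter.mpr ⟨hs, h⟩
          rw [hne] at this
          exact absurd this (Finset.notMem_empty s)
        have ht1 : e t ≠ 1 := fun h => by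
          have : t ∈ S.filter (fun i => e i = 1) := Finset.mem_filter.mpr ⟨ht, h⟩
          rw [hne] at this
          exact absurd this (Finset.notMem_empty t)
        refine ⟨s, hs, t, ht, hst, by rw [h01 _ hs1, h01 _ ht1], ?_⟩
        rw [Finset.filter_erase, Finset.filter_erase, hne]
        simp
    have hcard : ((S.erase s).erase t).card = m + m := by
      rw [Finset.card_erase_of_mem (Finset.mem_erase.mpr ⟨hst.symm, ht⟩),
        Finset.card_erase_of_mem hs]
      omega
    obtain ⟨α', β', hα'S, hβ'S, hα', hβ', hαβ', he'⟩ := ih ((S.erase s).erase t) hcard hpar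
    have hmemS : ∀ x, x ∈ (S.erase s).erase t → x ∈ S ∧ x ≠ s ∧ x ≠ t := by
      intro x hx
      rw [Finset.mem_erase, Finset.mem_erase] at hx
      exact ⟨hx.2.2, hx.2.1, hx.1⟩
    refine ⟨Fin.cons s α', Fin.cons t β', ?_, ?_, ?_, ?_, ?_, ?_⟩
    · intro i
      refine Fin.cases ?_ (fun i => ?_) i
      · simpa using hs
      · simpa using (hmemS _ (hα'S i)).1
    · intro i
      refine Fin.cases ?_ (fun i => ?_) i
      · simpa using ht
      · simpa using (hmemS _ (hβ'S i)).1
    · rw [Fin.cons_injective_iff]
      refine ⟨?_, hα'⟩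
      rintro ⟨i, hi⟩
      exact (hmemS _ (hα'S i)).2.1 hi
    · rw [Fin.cons_injective_iff]
      refine ⟨?_, hβ'⟩
      rintro ⟨i, hi⟩
      exact (hmemS _ (hβ'S i)).2.2 hi
    · intro i j
      refine Fin.cases ?_ (fun i => ?_) i <;> refine Fin.cases ?_ (fun j => ?_) j
      · simpa using hst
      · simp only [Fin.cons_zero, Fin.cons_succ]
        exact fun h => (hmemS _ (hβ'S j)).2.1 h.symm
      · simp only [Fin.cons_zero, Fin.cons_succ]
        exact (hmemS _ (hα'S i)).2.2
      · simp only [Fin.cons_succ]
        exact hαβ' i j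
    · intro i
      refine Fin.cases ?_ (fun i => ?_) i
      · simpa using hest
      · simpa using he' i

variable {F : Type*} [Field F] [Fintype F] {q N k : ℕ} [hF : Fact (Fintype.card F = q ^ 2)]

/-- An element of norm `-1`. -/
theorem exists_norm_neg_one : ∃ a : F, a * a ^ q = -1 :=
  exists_norm hF.out (neg_ne_zero.mpr one_ne_zero) (neg_one_pow_q hF.out)

/-- A hyperbolic frame built from an orthonormal family and a matching. -/
theorem frame_of_onb {ι : Type*} [DecidableEq ι] (b : ι → (Fin N → F))
    (hb : ∀ i j, hermForm N F q (b i) (b j) = if i = j then 1 else 0)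
    (α β : Fin k → ι) (hα : Function.Injective α) (hβ : Function.Injective β)
    (hαβ : ∀ i j, α i ≠ β j) (a : F) (ha : a * a ^ q = -1) (h2 : (2 : F) ≠ 0) :
    HFrame q (fun i => b (α i) + a • b (β i))
      (fun i => (2 : F)⁻¹ • (b (α i) - a • b (β i))) := by
  have hαα : ∀ i j, hermForm N F q (b (α i)) (b (α j)) = if i = j then 1 else 0 := by
    intro i j
    rw [hb]
    by_cases hij : i = j
    · rw [if_pos hij, if_pos (by rw [hij])]
    · rw [if_neg hij, if_neg (fun h => hij (hα h))]
  have hββ : ∀ i j, hermForm N F q (b (β i)) (b (β j)) = if i = j then 1 else 0 := by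
    intro i j
    rw [hb]
    by_cases hij : i = j
    · rw [if_pos hij, if_pos (by rw [hij])]
    · rw [if_neg hij, if_neg (fun h => hij (hβ h))]
  have hαβ0 : ∀ i j, hermForm N F q (b (α i)) (b (β j)) = 0 := by
    intro i j
    rw [hb, if_neg (hαβ i j)]
  have hβα0 : ∀ i j, hermForm N F q (b (β i)) (b (α j)) = 0 := by
    intro i j
    rw [hb, if_neg (fun h => hαβ j i h.symm)]
  have h2q : ((2 : F)⁻¹) ^ q = (2 : F)⁻¹ := by rw [inv_pow, two_pow_q]
  have h22 : (2 : F)⁻¹ * 2 = 1 := inv_mul_cancel₀ h2
  refine ⟨fun i j => ?_, fun i j => ?_, fun i j => ?_⟩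
  · rw [hermForm_add_left, h_add_right, h_add_right, hermForm_smul_left, hermForm_smul_left,
      hermForm_smul_right, hermForm_smul_right, hαα, hββ, hαβ0, hβα0]
    by_cases hij : i = j
    · rw [if_pos hij]
      linear_combination ha
    · rw [if_neg hij]
      ring
  · rw [hermForm_smul_left, hermForm_smul_right, hermForm_sub_left, h_sub_right, h_sub_right,
      hermForm_smul_left, hermForm_smul_left, hermForm_smul_right, hermForm_smul_right, hαα, hββ,
      hαβ0, hβα0]
    by_cases hij : i = j
    · rw [if_pos hij]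
      linear_combination ((2 : F)⁻¹ * ((2 : F)⁻¹) ^ q) * ha
    · rw [if_neg hij]
      ring
  · rw [hermForm_smul_right, hermForm_add_left, h_sub_right, h_sub_right,
      hermForm_smul_left, hermForm_smul_left, hermForm_smul_right, hermForm_smul_right, hαα, hββ,
      hαβ0, hβα0, h2q]
    by_cases hij : i = j
    · rw [if_pos hij]
      linear_combination (-(2 : F)⁻¹) * ha + h22
    · rw [if_neg hij]
      ring

end Cfsg.Agent.Helper7.Pol
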