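import Mathlib
import Cfsg.Agent.Helper7.PolJ

set_option autoImplicit false
set_option linter.unusedSectionVars false

/-!
Elements of order two modulo scalars of `SU_n(q)`, `q` odd, fix a point of the action on pairs of
complementary totally isotropic subspaces when the 2-part of `q + 1` is at most that of `n`
(helper7).
-/

namespace Cfsg.Agent.Helper7.Pol

open Matrix Module Cfsg Cfsg.Agent.Helper7.Herm Cfsg.Agent.Helper8.GUOrder Cfsg.Agent.Helper8.SURoot
  Cfsg.Agent.Helper8.AutSU Cfsg.Agent.Helper7.SUMax Cfsg.Agent.Helper7.SUNd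
  Cfsg.Agent.Helper7.SUPair Cfsg.Agent.Helper7.Invol Cfsg.Agent.Helper7.Ex27
  Cfsg.Agent.Helper8.MaxSingular

variable {F : Type*} [Field F] [Fintype F] {q N k : ℕ} [hF : Fact (Fintype.card F = q ^ 2)]

/-- An orthonormal family of `N` vectors of `F^N` is a basis. -/
theorem exists_basis_of_onb_gen (b : Fin N → (Fin N → F))
    (hb : ∀ i j, hermForm N F q (b i) (b j) = if i = j then 1 else 0) :
    ∃ bb : Module.Basis (Fin N) F (Fin N → F), ∀ i, bb i = b i := by
  have hli := linearIndependent_of_onb (q := q) hb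
  have hcard : Fintype.card (Fin N) = Module.finrank F (Fin N → F) := by
    rw [Module.finrank_fin_fun, Fintype.card_fin]
  have hsp := hli.span_eq_top_of_card_eq_finrank' hcard
  refine ⟨Module.Basis.mk hli (by rw [hsp]), fun i => ?_⟩
  rw [Module.Basis.coe_mk]

omit [Fintype F] hF in
theorem prod_pm (e : Fin N → Fin 2) :
    ∏ i, pm F (e i) = (-1) ^ (Finset.univ.filter (fun i => e i = 1)).card := by
  have h1 : ∀ i, pm F (e i) = if e i = 1 then (-1 : F) else 1 := by
    intro i
    have h01 : ∀ t : Fin 2, t = 0 ∨ t = 1 := by decide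
    rcases h01 (e i) with h | h <;> rw [h] <;> simp [pm]
  simp only [h1]
  rw [Finset.prod_ite, Finset.prod_const_one, mul_one, Finset.prod_const]

/-- **Involutions modulo scalars fix a point.** -/
theorem fixes_point_of_invol (D : Fin 2 → Submodule F (Fin N → F))
    (hD : Cfsg.Geo.IsMDecomposition k D)
    (hts : ∀ i, Cfsg.Geo.IsTotallySingularFor (Cfsg.hermForm N F q) (D i))
    (h2 : (2 : F) ≠ 0) (hqodd : Odd q)
    (hv2 : padicValNat 2 (q + 1) ≤ padicValNat 2 N)
    (x : GL (Fin N) F) (hx : x ∈ Cfsg.GU N F q ⊓ Cfsg.Geo.specialLinear (Fin N) F) (z : F)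
    (hxz : ((x ^ 2 : GL (Fin N) F) : Matrix (Fin N) (Fin N) F) =
      z • (1 : Matrix (Fin N) (Fin N) F)) :
    ∃ g ∈ Cfsg.GU N F q ⊓ Cfsg.Geo.specialLinear (Fin N) F,
      g⁻¹ * x * g ∈ Cfsg.Geo.decompositionStabilizer D := by
  classical
  obtain ⟨hd, hf0, hf1, hsum⟩ := lpair_of_decomp (q := q) D hD hts
  have hkpos := hD.pos
  have hq := two_le_q hF.out
  set X : Matrix (Fin N) (Fin N) F := (x : Matrix (Fin N) (Fin N) F) with hXdef
  have hXX : X * X = z • (1 : Matrix (Fin N) (Fin N) F) := by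
    rw [← hxz, Units.val_pow_eq_pow_val, pow_two]
  have hXU : ∀ u v, hermForm N F q (X *ᵥ u) (X *ᵥ v) = hermForm N F q u v := fun u v => hx.1 u v
  have hdetX : X.det = 1 := (mem_SL_iff _).mp hx.2
  have hXXv : ∀ v, X *ᵥ (X *ᵥ v) = z • v := by
    intro v
    rw [Matrix.mulVec_mulVec, hXX, Matrix.smul_mulVec, Matrix.one_mulVec]
  -- `z` has norm one
  have hzq : z * z ^ q = 1 := by
    obtain ⟨v, -, hvv⟩ := herm_single_self (F := F) (q := q) (N := N) (by omega)
    have h1 := hXU (X *ᵥ v) (X *ᵥ v)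
    rw [hXXv, hXU, hermForm_smul_left, hermForm_smul_right, hvv, mul_one] at h1
    exact h1
  have hz0 : z ≠ 0 := by
    rintro rfl
    rw [zero_mul] at hzq
    exact zero_ne_one hzq
  -- a square root of `z`
  obtain ⟨c, hc⟩ : IsSquare z := by
    have hchar : ringChar F ≠ 2 := by
      intro h
      apply h2
      have := ringChar.Nat.cast_ringChar (R := F)
      rw [h] at this
      exact_mod_cast this
    rw [FiniteField.isSquare_iff hchar hz0, hF.out]
    obtain ⟨s, hs⟩ := hqodd
    have : q ^ 2 / 2 = (q + 1) * s := by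
      rw [hs]
      have : (2 * s + 1) ^ 2 = 2 * ((2 * s + 1 + 1) * s) + 1 := by ring
      omega
    rw [this, pow_mul, pow_succ', hzq, one_pow]
  have hc0 : c ≠ 0 := by
    rintro rfl
    rw [mul_zero] at hc
    exact hz0 hc
  have hcq2 : (c * c ^ q) ^ 2 = 1 := by
    have : (c * c ^ q) ^ 2 = (c * c) * (c * c) ^ q := by ring
    rw [this, ← hc, hzq]
  have hcases : c * c ^ q = 1 ∨ c * c ^ q = -1 := by
    have : (c * c ^ q - 1) * (c * c ^ q + 1) = 0 := by linear_combination hcq2
    rcases mul_eq_zero.mp this with h | h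
    · left; linear_combination h
    · right; linear_combination h
  -- the involution `Y = c⁻¹ X`
  set Y : Matrix (Fin N) (Fin N) F := c⁻¹ • X with hYdef
  have hYY : Y * Y = 1 := by
    rw [hYdef, smul_mul_smul_comm, hXX, smul_smul, hc]
    have : c⁻¹ * c⁻¹ * (c * c) = 1 := by field_simp
    rw [this, one_smul]
  have hXY : ∀ v, X *ᵥ v = c • (Y *ᵥ v) := by
    intro v
    rw [hYdef, Matrix.smul_mulVec, smul_smul, mul_inv_cancel₀ hc0, one_smul]
  have hm1 : (-1 : F) ^ (q + 1) = 1 := by
    obtain ⟨s, hs⟩ := hqodd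
    have : Even (q + 1) := ⟨s + 1, by omega⟩
    exact this.neg_one_pow
  rcases hcases with hc1 | hc1
  · -- `c` has norm one: `Y` is a unitary involution
    have hcinv : c⁻¹ * (c⁻¹) ^ q = 1 := by
      rw [inv_pow, ← mul_inv, hc1, inv_one]
    have hYU : ∀ u v, hermForm N F q (Y *ᵥ u) (Y *ᵥ v) = hermForm N F q u v := by
      intro u v
      rw [hYdef, Matrix.smul_mulVec, Matrix.smul_mulVec, hermForm_smul_left, hermForm_smul_right,
        ← mul_assoc, hcinv, one_mul, hXU]
    obtain ⟨b, e, hb, hYb⟩ := exists_onb_eigen_top (q := q) Y hYU (pm F)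
      (pm_unitary_ne h2 hm1) (invol_decomp Y h2 hYY)
    obtain ⟨bb, hbb⟩ := exists_basis_of_onb_gen (q := q) b hb
    have hdetY := det_of_diag_basis Y bb (fun i => pm F (e i)) (fun i => by rw [hbb]; exact hYb i)
    rw [prod_pm] at hdetY
    have hdetY' : Y.det = (c⁻¹) ^ N := by
      rw [hYdef, Matrix.det_smul, hdetX, mul_one, Fintype.card_fin]
    have hev : Even (Finset.univ.filter (fun i => e i = 1)).card := by
      by_contra hodd
      rw [Nat.not_even_iff_odd] at hodd
      rw [hodd.neg_one_pow, hdetY'] at hdetY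
      have hcq' : (c⁻¹) ^ (q + 1) = 1 := by rw [pow_succ']; exact hcinv
      have := v2_lt_of_pow (q := q) h2 (by omega) hcq' hdetY
      omega
    obtain ⟨α, β, -, -, hα, hβ, hαβ, heq⟩ := exists_matching e k Finset.univ
      (by rw [Finset.card_univ, Fintype.card_fin, hsum]) hev
    obtain ⟨a, ha⟩ := exists_norm_neg_one (F := F) (q := q)
    have hfr := frame_of_onb (q := q) b hb α β hα hβ hαβ a ha h2
    apply exists_conj_mem_stab (q := q) D hD hts hfr x
    · intro i
      refine ⟨c * pm F (e (α i)), ?_⟩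
      show X *ᵥ (b (α i) + a • b (β i)) = _
      rw [hXY, Matrix.mulVec_add, Matrix.mulVec_smul, hYb, hYb, ← heq i, smul_smul]
      module
    · intro i
      refine ⟨c * pm F (e (α i)), ?_⟩
      show X *ᵥ ((2 : F)⁻¹ • (b (α i) - a • b (β i))) = _
      rw [hXY, Matrix.mulVec_smul, Matrix.mulVec_sub, Matrix.mulVec_smul, hYb, hYb, ← heq i]
      module
  · -- `c` has norm `-1`: the eigenspaces are totally isotropic
    have hfixY : ∀ v, v ∈ fixS Y → X *ᵥ v = c • v := by
      intro v hv
      rw [hXY, mem_fixS.mp hv]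
    have hfixY' : ∀ v, v ∈ fixS (-Y) → X *ᵥ v = (-c) • v := by
      intro v hv
      have h1 : Y *ᵥ v = -v := by
        have := mem_fixS.mp hv
        rw [Matrix.neg_mulVec] at this
        exact neg_eq_iff_eq_neg.mp this
      rw [hXY, h1, smul_neg, neg_smul]
    have hts' : ∀ (c' : F), c' * c' ^ q = -1 → ∀ u v : Fin N → F, X *ᵥ u = c' • u →
        X *ᵥ v = c' • v → hermForm N F q u v = 0 := by
      intro c' hc' u v hu hv
      have h1 := hXU u v
      rw [hu, hv, hermForm_smul_left, hermForm_smul_right, ← mul_assoc, hc'] at h1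
      have h3 : (2 : F) * hermForm N F q u v = 0 := by linear_combination -h1
      exact (mul_eq_zero.mp h3).resolve_left h2
    have hc1' : (-c) * (-c) ^ q = -1 := by
      rw [neg_pow_q hF.out]
      linear_combination hc1
    have hdY : LPair q (fixS Y) (fixS (-Y)) := by
      refine ⟨fun u hu v hv => hts' c hc1 u v (hfixY u hu) (hfixY v hv),
        fun u hu v hv => hts' (-c) hc1' u v (hfixY' u hu) (hfixY' v hv), ?_, ?_⟩
      · rw [Submodule.eq_bot_iff]
        rintro v ⟨h1, h3⟩
        have h4 := mem_fixS.mp h1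
        have h5 := mem_fixS.mp h3
        rw [Matrix.neg_mulVec, h4] at h5
        have h6 : (2 : F) • v = 0 := by
          rw [two_smul]
          nth_rewrite 1 [← h5]
          exact neg_add_cancel v
        exact (smul_eq_zero.mp h6).resolve_left h2
      · rw [eq_top_iff]
        intro v _
        obtain ⟨c', hc', hsum', -⟩ := invol_decomp Y h2 hYY v
        rw [Fin.sum_univ_two] at hsum'
        rw [hsum']
        apply Submodule.add_mem_sup
        · rw [mem_fixS, hc' 0]
          simp [pm]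
        · rw [mem_fixS, Matrix.neg_mulVec, hc' 1]
          simp [pm]
    have hdim : finrank F (fixS Y) + finrank F (fixS (-Y)) = N := by
      have h1 := Submodule.finrank_sup_add_finrank_inf_eq (fixS Y) (fixS (-Y))
      rw [hdY.sup, hdY.inf, finrank_top, finrank_bot, Module.finrank_fin_fun] at h1
      omega
    obtain ⟨u₁, w₁, hfr₁, -, -⟩ := exists_frame_of_paired (q := q) _ (fixS Y) (fixS (-Y))
      hdY.paired rfl
    obtain ⟨u₂, w₂, hfr₂, -, -⟩ := exists_frame_of_paired (q := q) _ (fixS (-Y)) (fixS Y)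
      hdY.symm.paired rfl
    have hle₁ := hfr₁.two_mul_le
    have hle₂ := hfr₂.two_mul_le
    have hfinY : finrank F (fixS Y) = k := by omega
    obtain ⟨u, w, hfr, hu, hw⟩ := exists_frame_of_paired (q := q) k (fixS Y) (fixS (-Y))
      hdY.paired hfinY
    apply exists_conj_mem_stab (q := q) D hD hts hfr x
    · intro i
      exact ⟨c, hfixY _ (hu i)⟩
    · intro i
      exact ⟨-c, hfixY' _ (hw i)⟩

end Cfsg.Agent.Helper7.Pol
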