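import Mathlib
import Cfsg.Prelude.Def_GeometricClasses

/-!
# A spanning set of matrices acts absolutely irreducibly (any finite index type) (helper7)

Generalisation of helper9's `AschPPT7D.absIrred_of_span_eq_top` from `Fin n` to an arbitrary finite index type.
-/

set_option autoImplicit false

namespace Cfsg.Agent.Helper7.AbsIrr

open Cfsg Cfsg.Geo Matrix

variable {ι : Type} [Fintype ι] [DecidableEq ι] {F : Type*} [Field F]

/-- the full matrix algebra acts absolutely irreducibly -/
theorem absIrred_univ' : ActsAbsolutelyIrreducibly (Set.univ : Set (Matrix ι ι F)) := by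
  classical
  constructor
  · intro W hW
    by_cases hW0 : W = ⊥
    · exact Or.inl hW0
    right
    obtain ⟨w, hw, hw0⟩ := (Submodule.ne_bot_iff W).1 hW0
    obtain ⟨i, hi⟩ : ∃ i, w i ≠ 0 := by
      by_contra h
      push Not at h
      exact hw0 (funext h)
    rw [eq_top_iff]
    intro v _
    set m : Matrix ι ι F := Matrix.vecMulVec v (Pi.single i (w i)⁻¹) with hm
    have hmw : m *ᵥ w = v := by
      rw [hm, Matrix.vecMulVec_mulVec]
      simp [hi]
    have := hW m (Set.mem_univ m) ⟨w, hw, by rw [Matrix.toLin'_apply]⟩
    rwa [hmw] at this
  · intro M hM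
    have h1 : M ∈ Set.range (Matrix.scalar ι) := by
      rw [Matrix.mem_range_scalar_iff_commute_single']
      intro i j
      exact (hM _ (Set.mem_univ _)).symm
    obtain ⟨c, hc⟩ := h1
    refine ⟨c, ?_⟩
    rw [← hc]
    ext i j
    by_cases h : i = j <;> simp [h, Matrix.one_apply]

/-- a set of matrices spanning the matrix algebra acts absolutely irreducibly -/
theorem absIrred_of_span_eq_top' {S : Set (Matrix ι ι F)}
    (hS : Submodule.span F S = ⊤) : ActsAbsolutelyIrreducibly S := by
  have huniv := absIrred_univ' (ι := ι) (F := F)
  constructor
  · intro W hW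
    apply huniv.1 W
    intro M _
    let A : Submodule F (Matrix ι ι F) :=
      { carrier := {M | ∀ v ∈ W, M *ᵥ v ∈ W}
        add_mem' := by
          intro M N hM hN v hv
          rw [Matrix.add_mulVec]
          exact W.add_mem (hM v hv) (hN v hv)
        zero_mem' := by
          intro v hv
          rw [Matrix.zero_mulVec]
          exact W.zero_mem
        smul_mem' := by
          intro c M hM v hv
          rw [Matrix.smul_mulVec]
          exact W.smul_mem c (hM v hv) }
    have hSA : S ⊆ A := by
      intro s hs v hv
      have := hW s hs (Submodule.mem_map_of_mem hv)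
      rwa [Matrix.toLin'_apply] at this
    have h := Submodule.span_le.2 hSA
    rw [hS] at h
    have hM : M ∈ A := h Submodule.mem_top
    rintro _ ⟨v, hv, rfl⟩
    rw [Matrix.toLin'_apply]
    exact hM v hv
  · intro M hM
    apply huniv.2 M
    intro N _
    let A : Submodule F (Matrix ι ι F) :=
      { carrier := {N | M * N = N * M}
        add_mem' := by
          intro N N' hN hN'
          show M * (N + N') = (N + N') * M
          rw [mul_add, add_mul, hN, hN']
        zero_mem' := by
          show M * 0 = 0 * M
          rw [mul_zero, zero_mul]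
        smul_mem' := by
          intro c N hN
          show M * (c • N) = (c • N) * M
          rw [Matrix.mul_smul, Matrix.smul_mul, hN] }
    have hSA : S ⊆ A := fun s hs => hM s hs
    have h := Submodule.span_le.2 hSA
    rw [hS] at h
    exact h Submodule.mem_top

end Cfsg.Agent.Helper7.AbsIrr
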