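import Mathlib
import Cfsg.Agent.Helper7.SpOrdD

set_option autoImplicit false
set_option linter.unusedSectionVars false
set_option linter.unusedVariables false

/-!
Unitary-type structures on an alternating space: an endomorphism `δ` with `δ² = z` a nonsquare scalar which is
skew-adjoint for the alternating form `B` (so that `F[δ]` is a quadratic field closed under adjoints but not
self-adjoint).  Basic facts; `δ`-invariant subspaces have even dimension.
-/

namespace Cfsg.Agent.Helper7.UTy

open Module Polynomial Cfsg.Agent.Helper7.POrd Cfsg.Agent.Helper7.SpOrd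

variable {F : Type*} [Field F] {V : Type*} [AddCommGroup V] [Module F V]

/-- a unitary-type structure. -/
structure US (B : LinearMap.BilinForm F V) (δ : Module.End F V) (z : F) : Prop where
  alt : B.IsAlt
  nd : ND B ⊤
  sq : ∀ v, δ (δ v) = z • v
  skew : ∀ u v, B (δ u) v = - B u (δ v)
  nsq : ¬ IsSquare z

theorem US.z_ne_zero {B : LinearMap.BilinForm F V} {δ : Module.End F V} {z : F} (h : US B δ z) : z ≠ 0 := by
  intro h0
  apply h.nsq
  rw [h0]
  exact ⟨0, by ring⟩

theorem US.mul_self {B : LinearMap.BilinForm F V} {δ : Module.End F V} {z : F} (h : US B δ z) :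
    δ * δ = z • (1 : Module.End F V) := by
  ext v
  rw [Module.End.mul_apply, h.sq, LinearMap.smul_apply, Module.End.one_apply]

theorem US.injective {B : LinearMap.BilinForm F V} {δ : Module.End F V} {z : F} (h : US B δ z) :
    Function.Injective δ := by
  intro u v huv
  have h1 : δ (δ u) = δ (δ v) := by rw [huv]
  rw [h.sq, h.sq] at h1
  exact smul_right_injective V h.z_ne_zero h1

/-- a `δ`-invariant subspace has even dimension (`z` is not a square). -/
theorem even_finrank_of_invt [FiniteDimensional F V] {δ : Module.End F V} {z : F}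
    (hsq : ∀ v, δ (δ v) = z • v) (hz : ¬ IsSquare z)
    {E : Submodule F V} (hE : E ∈ Module.End.invtSubmodule δ) : Even (finrank F ↥E) := by
  classical
  have hz0 : z ≠ 0 := by
    intro h0
    apply hz
    rw [h0]
    exact ⟨0, by ring⟩
  by_contra hodd
  rw [Nat.not_even_iff_odd] at hodd
  obtain ⟨k, hk⟩ := hodd
  have hmaps : ∀ x ∈ E, δ x ∈ E := fun x hx => invt_apply hE hx
  set δE : Module.End F ↥E := δ.restrict hmaps with hδE
  have hmul : δE * δE = z • (1 : Module.End F ↥E) := by
    ext v
    rw [Module.End.mul_apply, LinearMap.smul_apply, Module.End.one_apply]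
    show δ (δ (v : V)) = z • (v : V)
    exact hsq _
  have hdet : LinearMap.det δE * LinearMap.det δE = z ^ finrank F ↥E := by
    rw [← map_mul, hmul, LinearMap.det_smul, map_one, mul_one]
  apply hz
  refine ⟨LinearMap.det δE / z ^ k, ?_⟩
  rw [hk] at hdet
  have hzk : z ^ k ≠ 0 := pow_ne_zero _ hz0
  have h1 : LinearMap.det δE / z ^ k * (LinearMap.det δE / z ^ k) =
      (LinearMap.det δE * LinearMap.det δE) / (z ^ k * z ^ k) := by
    field_simp
  rw [h1, hdet]
  field_simp
  ring

/-- unitary frames: `B (v i) (v j) = 0` and `B (δ (v i)) (v j) = [i = j]`; then the `v i`, `δ (v i)` form a basis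
adapted to both `B` and `δ`. -/
def IsFrame (B : LinearMap.BilinForm F V) (δ : Module.End F V) {d : ℕ} (v : Fin d → V) : Prop :=
  (∀ i j, B (v i) (v j) = 0) ∧ (∀ i j, B (δ (v i)) (v j) = if i = j then 1 else 0)

/-- the "hermitian norm" `B (δ v) v`. -/
def nrm (B : LinearMap.BilinForm F V) (δ : Module.End F V) (v : V) : F := B (δ v) v

end Cfsg.Agent.Helper7.UTy
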