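import Mathlib
import Cfsg.Agent.Helper7.UTyA

set_option autoImplicit false
set_option linter.unusedSectionVars false
set_option linter.unusedVariables false

/-!
Isometries of odd prime order commuting with a unitary-type structure: the two obstructions.
If `i` is the order of `q` modulo `r`, an isometry of order `r` whose moved space is a single block
(of dimension `2i` for `i` odd, `i` for `4 ∣ i`) commutes with no unitary-type structure.
-/

namespace Cfsg.Agent.Helper7.UTy

open Module Polynomial Cfsg.Agent.Helper7.POrd Cfsg.Agent.Helper7.SpOrd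

section comm

variable {F : Type*} [Field F] {A : Type*} [Ring A] [Algebra F A]

theorem commute_aeval {a b : A} (h : Commute a b) (g : F[X]) : Commute a (aeval b g) := by
  rw [aeval_eq_sum_range]
  exact Commute.sum_right _ _ _ (fun i _ => (h.pow_right i).smul_right _)

end comm

variable {F : Type*} [Field F] [Fintype F] {V : Type*} [AddCommGroup V] [Module F V] [Finite V]
  {p : ℕ} [Fact p.Prime] [CharP F p] {r : ℕ} [Fact r.Prime]

theorem commute_of_apply {T δ : Module.End F V} (h : ∀ v, T (δ v) = δ (T v)) : Commute δ T := by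
  ext v
  rw [Module.End.mul_apply, Module.End.mul_apply, h]

theorem aeval_apply_comm {T δ : Module.End F V} (h : ∀ v, T (δ v) = δ (T v)) (g : F[X]) (v : V) :
    aeval T g (δ v) = δ (aeval T g v) := by
  have hc := commute_aeval (F := F) (commute_of_apply h) g
  have := congrArg (fun f : Module.End F V => f v) hc.eq
  simp only [Module.End.mul_apply] at this
  exact this.symm

theorem aeval_apply_of_fixed {T : Module.End F V} {v : V} (hv : T v = v) (g : F[X]) :
    aeval T g v = g.eval 1 • v := by
  rw [aeval_eq_sum_range, LinearMap.sum_apply, eval_eq_sum_range, Finset.sum_smul]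
  apply Finset.sum_congr rfl
  intro t _
  rw [LinearMap.smul_apply, pow_apply_of_fixed hv, one_pow, mul_one]

theorem ker_aeval_invt_of_comm {T δ : Module.End F V} (h : ∀ v, T (δ v) = δ (T v)) (g : F[X]) :
    LinearMap.ker (aeval T g) ∈ Module.End.invtSubmodule δ := by
  rw [Module.End.mem_invtSubmodule]
  intro v hv
  rw [Submodule.mem_comap, LinearMap.mem_ker, aeval_apply_comm h, LinearMap.mem_ker.mp hv, map_zero]

/-- `i` odd: no commuting unitary-type structure. -/
theorem not_commute_of_odd (hr2 : r ≠ 2) (hrp : r ≠ p) {B : LinearMap.BilinForm F V} {δ : Module.End F V} {z : F}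
    (hS : US B δ z) {T : Module.End F V} (hiso : ∀ u v, B (T u) (T v) = B u v) (hT : T ^ r = 1)
    (hcomm : ∀ v, T (δ v) = δ (T v))
    (hodd : Odd (orderOf ((Fintype.card F : ℕ) : ZMod r)))
    (hdim : finrank F ↥(movS r T) = 2 * orderOf ((Fintype.card F : ℕ) : ZMod r)) : False := by
  classical
  haveI : FiniteDimensional F V := Module.Finite.of_finite
  set i := orderOf ((Fintype.card F : ℕ) : ZMod r) with hi
  have hipos : 0 < i := orderOf_q_pos hrp
  have hrF : (r : F) ≠ 0 := natCast_ne_zero_of_ne hrp
  have hB : B.IsRefl := hS.alt.isRefl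
  have hW : movS r T ∈ Module.End.invtSubmodule T := movS_invt r T
  have htop : (⊤ : Submodule F V) ∈ Module.End.invtSubmodule T := by
    rw [Module.End.mem_invtSubmodule]
    exact le_top
  have hWnd : ND B (movS r T) := by
    have := nd_inf_mov hB hiso hrF hT htop hS.nd
    rwa [top_inf_eq] at this
  have hfix : movS r T ⊓ fixS T = ⊥ := by
    rw [inf_comm]
    exact (disjoint_fix_mov hrF T).eq_bot
  have hne : movS r T ≠ ⊥ := by
    intro h
    rw [h, finrank_bot] at hdim
    omega
  obtain ⟨g, hgirr, hgdvd, hgdeg, v, hvW, hv0, hgv⟩ := exists_irred_vec hrp hT hW hfix hne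
  set E := LinearMap.ker (aeval T g) with hE
  have hET : E ∈ Module.End.invtSubmodule T := ker_aeval_invt T g
  have hEδ : E ∈ Module.End.invtSubmodule δ := ker_aeval_invt_of_comm hcomm g
  have hEeven : Even (finrank F ↥E) := even_finrank_of_invt hS.sq hS.nsq hEδ
  have hvE : v ∈ E := LinearMap.mem_ker.mpr hgv
  -- g(1) ≠ 0
  have hg1 : g.eval 1 ≠ 0 := by
    intro h0
    have hdvd : (X - C (1 : F)) ∣ g := dvd_iff_isRoot.mpr h0
    obtain ⟨c, hc⟩ := hdvd
    have hcu : IsUnit c := by
      rcases hgirr.isUnit_or_isUnit hc with h | h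
      · exact absurd h (not_isUnit_X_sub_C 1)
      · exact h
    obtain ⟨c0, hc0, rfl⟩ := isUnit_iff.mp hcu
    have : aeval T g v = c0 • (T v - v) := by
      rw [hc, map_mul, aeval_C, map_sub, aeval_X, aeval_C, Module.End.mul_apply,
        Module.algebraMap_end_apply, LinearMap.sub_apply, Module.algebraMap_end_apply, one_smul,
        map_smul, smul_sub]
    rw [this] at hgv
    have hTv : T v = v := by
      rcases smul_eq_zero.mp hgv with h | h
      · exact absurd h hc0.ne_zero
      · exact sub_eq_zero.mp h
    have : v ∈ movS r T ⊓ fixS T := ⟨hvW, mem_fixS.mpr hTv⟩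
    rw [hfix] at this
    exact hv0 ((Submodule.mem_bot F).mp this)
  have hEfix : E ⊓ fixS T = ⊥ := by
    rw [eq_bot_iff]
    rintro x ⟨hxE, hxf⟩
    have h1 : aeval T g x = 0 := LinearMap.mem_ker.mp hxE
    rw [aeval_apply_of_fixed (mem_fixS.mp hxf)] at h1
    rcases smul_eq_zero.mp h1 with h | h
    · exact absurd h hg1
    · exact (Submodule.mem_bot F).mpr h
  have hEW : E ≤ movS r T := by
    have := invt_decomp hrF hT hET
    rw [hEfix, bot_sup_eq] at this
    rw [this]
    exact inf_le_right
  have hidvd : i ∣ finrank F ↥E := orderOf_dvd_finrank hT hET hEfix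
  have hEle : finrank F ↥E ≤ 2 * i := by
    rw [← hdim]
    exact Submodule.finrank_mono hEW
  have hEpos : 0 < finrank F ↥E := by
    rw [Module.finrank_pos_iff_exists_ne_zero]
    exact ⟨⟨v, hvE⟩, fun h => hv0 (congrArg Subtype.val h)⟩
  have hEdim : finrank F ↥E = 2 * i := by
    obtain ⟨m, hm⟩ := hidvd
    have hm2 : m ≤ 2 := by
      by_contra hcon
      push_neg at hcon
      have : i * 3 ≤ i * m := Nat.mul_le_mul_left i hcon
      omega
    have hm0 : 0 < m := by
      rcases Nat.eq_zero_or_pos m with h | h
      · rw [h, mul_zero] at hm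
        omega
      · exact h
    have hm1 : m ≠ 1 := by
      intro h1
      rw [h1, mul_one] at hm
      rw [hm] at hEeven
      exact (Nat.not_even_iff_odd.mpr hodd) hEeven
    have : m = 2 := by omega
    rw [hm, this, mul_comm]
  have hEeq : E = movS r T := Submodule.eq_of_le_of_finrank_eq hEW (by rw [hEdim, hdim])
  -- a vector with B u (T u) ≠ 0
  obtain ⟨u, huW, hu⟩ := exists_not_ti_vec hr2 hrp hS.alt hiso hT hW hWnd hfix hne
  have hu0 : u ≠ 0 := by
    intro h
    rw [h, map_zero, LinearMap.zero_apply] at hu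
    exact hu rfl
  have hgu : aeval T g u = 0 := by
    have : u ∈ E := by rw [hEeq]; exact huW
    exact LinearMap.mem_ker.mp this
  set M := cyc T u g.natDegree with hM
  have hMinv : M ∈ Module.End.invtSubmodule T := cyc_invt T u g hgirr.ne_zero hgu
  have hMW : M ≤ movS r T := cyc_le hW huW _
  have hMfix : M ⊓ fixS T = ⊥ := by
    rw [eq_bot_iff, ← hfix]
    exact inf_le_inf_right _ hMW
  have huM : u ∈ M := by
    have := pow_mem_cyc T u (d := g.natDegree) (t := 0) (by rw [hgdeg]; exact hipos)
    simpa using this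
  have hTuM : T u ∈ M := invt_apply hMinv huM
  have hMle : finrank F ↥M ≤ i := by
    exact (finrank_cyc_le T u g.natDegree).trans (le_of_eq hgdeg)
  have hMdvd : i ∣ finrank F ↥M := orderOf_dvd_finrank hT hMinv hMfix
  have hMpos : 0 < finrank F ↥M := by
    rw [Module.finrank_pos_iff_exists_ne_zero]
    exact ⟨⟨u, huM⟩, fun h => hu0 (congrArg Subtype.val h)⟩
  have hMdim : finrank F ↥M = i := Nat.le_antisymm hMle (Nat.le_of_dvd hMpos hMdvd)
  rcases nd_or_ti hB hiso hT hMinv hMfix hMdim with hnd | hti
  · have := even_finrank_of_nd hS.alt hnd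
    rw [hMdim] at this
    exact (Nat.not_even_iff_odd.mpr hodd) this
  · have := hti hTuM
    rw [mem_perp] at this
    exact hu (this u huM)

end Cfsg.Agent.Helper7.UTy
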