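import Mathlib
import Cfsg.Agent.Helper7.UTyB
import Cfsg.Agent.Helper7.POrdE

set_option autoImplicit false
set_option linter.unusedSectionVars false
set_option linter.unusedVariables false

/-!
Isometries of odd prime order commuting with a unitary-type structure: the case `4 ∣ i`.
-/

namespace Cfsg.Agent.Helper7.UTy

open Module Polynomial Cfsg.Agent.Helper7.POrd Cfsg.Agent.Helper7.SpOrd

variable {F : Type*} [Field F] [Fintype F] {V : Type*} [AddCommGroup V] [Module F V] [Finite V]
  {p : ℕ} [Fact p.Prime] [CharP F p] {r : ℕ} [Fact r.Prime]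

theorem pow_two_mul_add_one {δ : Module.End F V} {z : F} (h : δ * δ = z • (1 : Module.End F V)) (k : ℕ) :
    δ ^ (2 * k + 1) = z ^ k • δ := by
  induction k with
  | zero => simp
  | succ k ih =>
    have e : 2 * (k + 1) + 1 = (2 * k + 1) + 2 := by ring
    rw [e, pow_add, ih, pow_two, h, smul_mul_assoc, mul_smul_comm, mul_one, smul_smul, pow_succ]

theorem pow_card_sq_eq {δ : Module.End F V} {z : F} (h : δ * δ = z • (1 : Module.End F V)) (hz : z ≠ 0)
    (hodd : Odd (Fintype.card F)) : δ ^ (Fintype.card F ^ 2) = δ := by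
  obtain ⟨n, hn⟩ := hodd
  have e : Fintype.card F ^ 2 = 2 * ((Fintype.card F - 1) * (n + 1)) + 1 := by
    rw [hn]
    have : 2 * n + 1 - 1 = 2 * n := by omega
    rw [this]
    ring
  rw [e, pow_two_mul_add_one h, pow_mul, FiniteField.pow_card_sub_one_eq_one z hz, one_pow, one_smul]

theorem pow_card_sq_pow_eq {δ : Module.End F V} {z : F} (h : δ * δ = z • (1 : Module.End F V)) (hz : z ≠ 0)
    (hodd : Odd (Fintype.card F)) (m : ℕ) : δ ^ ((Fintype.card F ^ 2) ^ m) = δ := by
  induction m with
  | zero => simp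
  | succ m ih => rw [pow_succ, pow_mul, ih, pow_card_sq_eq h hz hodd]

/-- `4 ∣ i`: no commuting unitary-type structure. -/
theorem not_commute_of_four (hr2 : r ≠ 2) (hrp : r ≠ p) (hqodd : Odd (Fintype.card F))
    {B : LinearMap.BilinForm F V} {δ : Module.End F V} {z : F}
    (hS : US B δ z) {T : Module.End F V} (hiso : ∀ u v, B (T u) (T v) = B u v) (hT : T ^ r = 1)
    (hcomm : ∀ v, T (δ v) = δ (T v))
    (h4 : 4 ∣ orderOf ((Fintype.card F : ℕ) : ZMod r))
    (hdim : finrank F ↥(movS r T) = orderOf ((Fintype.card F : ℕ) : ZMod r)) : False := by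
  classical
  haveI : FiniteDimensional F V := Module.Finite.of_finite
  set i := orderOf ((Fintype.card F : ℕ) : ZMod r) with hi
  have hipos : 0 < i := orderOf_q_pos hrp
  have hrpos : 0 < r := (Fact.out : r.Prime).pos
  have hrF : (r : F) ≠ 0 := natCast_ne_zero_of_ne hrp
  have hB : B.IsRefl := hS.alt.isRefl
  have hW : movS r T ∈ Module.End.invtSubmodule T := movS_invt r T
  have htop : (⊤ : Submodule F V) ∈ Module.End.invtSubmodule T := by
    rw [Module.End.mem_invtSubmodule]
    exact le_top
  have hWnd : ND B (movS r T) := by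
    have := nd_inf_mov hB hiso hrF hT htop hS.nd
    rwa [top_inf_eq] at this
  have hfix : movS r T ⊓ fixS T = ⊥ := by
    rw [inf_comm]
    exact (disjoint_fix_mov hrF T).eq_bot
  have hne : movS r T ≠ ⊥ := by
    intro h
    rw [h, finrank_bot] at hdim
    omega
  have hδT : Commute δ T := commute_of_apply hcomm
  -- `δ` preserves `W`
  have hWδ : ∀ w ∈ movS r T, δ w ∈ movS r T := by
    intro w hw
    rw [mem_movS] at hw ⊢
    have hc : Commute δ (Phi r T) := by
      unfold Phi
      exact Commute.sum_right _ _ _ (fun t _ => hδT.pow_right t)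
    have := congrArg (fun f : Module.End F V => f w) hc.eq
    simp only [Module.End.mul_apply] at this
    rw [← this, hw, map_zero]
  obtain ⟨g, hgirr, hgdvd, hgdeg, u, huW, hu0, hgu⟩ := exists_irred_vec hrp hT hW hfix hne
  -- the cyclic space of `u` is `W`
  set M := cyc T u g.natDegree with hM
  have hMinv : M ∈ Module.End.invtSubmodule T := cyc_invt T u g hgirr.ne_zero hgu
  have hMW : M ≤ movS r T := cyc_le hW huW _
  have huM : u ∈ M := by
    have := pow_mem_cyc T u (d := g.natDegree) (t := 0) (by rw [hgdeg]; exact hipos)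
    simpa using this
  have hMeq : M = movS r T := by
    rcases irred_of_finrank hT hfix hdim hMinv hMW with h | h
    · exfalso
      rw [h] at huM
      exact hu0 ((Submodule.mem_bot F).mp huM)
    · exact h
  -- `δ = a(T)` on `W`
  have hδu : δ u ∈ M := by rw [hMeq]; exact hWδ u huW
  obtain ⟨c, hc⟩ := mem_cyc_iff.mp hδu
  set a := polyOf c with ha
  have hδa : ∀ w ∈ movS r T, δ w = aeval T a w := by
    intro w hw
    rw [← hMeq] at hw
    obtain ⟨c', hc'⟩ := mem_cyc_iff.mp hw
    rw [hc', ← aeval_apply_comm hcomm, hc, ← Module.End.mul_apply, ← Module.End.mul_apply, ← map_mul,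
      ← map_mul, mul_comm]
  -- the adjoint
  have hWinv' : movS r T ∈ Module.End.invtSubmodule (T ^ (r - 1)) := by
    rw [Module.End.mem_invtSubmodule]
    intro w hw
    exact invt_pow_apply hW hw (r - 1)
  have hadj : ∀ w' ∈ movS r T, aeval (T ^ (r - 1)) a w' = - δ w' := by
    intro w' hw'
    have hy : aeval (T ^ (r - 1)) a w' + δ w' ∈ movS r T :=
      (movS r T).add_mem (invt_aeval_apply hWinv' a hw') (hWδ w' hw')
    have hzero : aeval (T ^ (r - 1)) a w' + δ w' = 0 := by
      by_contra hne0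
      obtain ⟨v, hvW, hv⟩ := hWnd _ hy hne0
      apply hv
      have h1 : B v (aeval (T ^ (r - 1)) a w' + δ w') = 0 := by
        rw [map_add, ← adj_aeval hiso hrpos hT, ← hδa v hvW, hS.skew, neg_add_cancel]
      rw [← hS.alt.neg_eq, h1, neg_zero]
    exact eq_neg_of_add_eq_zero_left hzero
  -- Frobenius
  have hev : Even i := by
    obtain ⟨m, hm⟩ := h4
    exact ⟨2 * m, by rw [hm]; ring⟩
  have hQ : r ∣ Fintype.card F ^ (i / 2) + 1 := dvd_pow_half_add_one hrp hev
  have hTQ : T ^ (Fintype.card F ^ (i / 2)) = T ^ (r - 1) := pow_eq_inv_of_dvd hrpos hT hQ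
  have hfrob : aeval (T ^ (r - 1)) a = (aeval T a) ^ (Fintype.card F ^ (i / 2)) := by
    rw [← hTQ, aeval_pow_card_pow]
  have hpow : ∀ (n : ℕ) (w : V), w ∈ movS r T → ((aeval T a) ^ n) w = (δ ^ n) w ∧ (δ ^ n) w ∈ movS r T := by
    intro n
    induction n with
    | zero =>
      intro w hw
      simp only [pow_zero, Module.End.one_apply]
      exact ⟨trivial, hw⟩
    | succ n ih =>
      intro w hw
      obtain ⟨e1, e2⟩ := ih w hw
      rw [pow_succ', pow_succ', Module.End.mul_apply, Module.End.mul_apply, e1, ← hδa _ e2]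
      exact ⟨rfl, hWδ _ e2⟩
  have hδQ : δ ^ (Fintype.card F ^ (i / 2)) = δ := by
    obtain ⟨m, hm⟩ := h4
    have e : i / 2 = 2 * m := by omega
    rw [e, pow_mul]
    exact pow_card_sq_pow_eq hS.mul_self hS.z_ne_zero hqodd m
  have h2 : δ u = - δ u := by
    have h1 := hadj u huW
    rw [hfrob, (hpow _ u huW).1, hδQ] at h1
    exact h1
  have h3 : (2 : F) • δ u = 0 := by
    rw [two_smul]
    nth_rewrite 1 [h2]
    exact neg_add_cancel _
  have h2F : (2 : F) ≠ 0 := by
    intro h
    obtain ⟨n, hn⟩ := hqodd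
    have hq0 : ((Fintype.card F : ℕ) : F) = 0 := by
      have := Nat.cast_card_eq_zero F
      exact this
    rw [hn, Nat.cast_add, Nat.cast_mul, Nat.cast_two, h, zero_mul, zero_add, Nat.cast_one] at hq0
    exact one_ne_zero hq0
  have h4' : δ u = 0 := by
    rcases smul_eq_zero.mp h3 with h | h
    · exact absurd h h2F
    · exact h
  apply hu0
  apply hS.injective
  rw [h4', map_zero]

end Cfsg.Agent.Helper7.UTy
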