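import Mathlib
import Cfsg.Prelude.Def_GeometricClasses
import Cfsg.Agent.Helper7.SympTransitive

set_option autoImplicit false
set_option linter.unusedSectionVars false
set_option linter.unusedVariables false

/-!
A quadratic field subalgebra of the matrix algebra which is closed under adjoints for the standard alternating
form but not self-adjoint: extraction of a skew-adjoint generator `δ` with `δ² = z` a nonsquare.
-/

namespace Cfsg.Agent.Helper7.UTy

open Matrix Cfsg.Agent.Helper7.Symp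

section general

variable {F : Type*} [Field F] {ι : Type} [Fintype ι] [DecidableEq ι]

theorem one_ne_zero_mat [Nonempty ι] : (1 : Matrix ι ι F) ≠ 0 := one_ne_zero

theorem kli [Nonempty ι] (K : Subalgebra F (Matrix ι ι F))
    (κ : Matrix ι ι F) (hκK : κ ∈ K) (hκ : ∀ a : F, κ ≠ a • 1) :
    LinearIndependent F ![(1 : K), ⟨κ, hκK⟩] := by
  rw [LinearIndependent.pair_iff]
  intro s t hst
  have h1 : s • (1 : Matrix ι ι F) + t • κ = 0 := by
    have := congrArg Subtype.val hst
    simpa using this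
  by_cases ht : t = 0
  · subst ht
    rw [zero_smul, add_zero] at h1
    have : s = 0 := by
      by_contra hs
      have h2 : (1 : Matrix ι ι F) = 0 := by
        have := congrArg (fun M => s⁻¹ • M) h1
        simpa [smul_smul, inv_mul_cancel₀ hs] using this
      exact one_ne_zero h2
    exact ⟨this, rfl⟩
  · exfalso
    apply hκ (-(t⁻¹ * s))
    have h2 : t • κ = -(s • (1 : Matrix ι ι F)) := eq_neg_of_add_eq_zero_right h1
    have := congrArg (fun M => t⁻¹ • M) h2
    simp only [smul_smul, inv_mul_cancel₀ ht, one_smul, smul_neg] at this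
    rw [this, neg_smul]

/-- Every element of a field subalgebra of degree 2 is `a + bκ`. -/
theorem kdecomp [Nonempty ι] (K : Subalgebra F (Matrix ι ι F))
    (hK : Cfsg.Geo.IsFieldSubalgebra 2 K)
    (κ : Matrix ι ι F) (hκK : κ ∈ K) (hκ : ∀ a : F, κ ≠ a • 1)
    (k : Matrix ι ι F) (hk : k ∈ K) :
    ∃ a b : F, k = a • (1 : Matrix ι ι F) + b • κ := by
  have hli := kli K κ hκK hκ
  have hcard : Fintype.card (Fin 2) = Module.finrank F K := by
    rw [hK.finrank_eq]; rfl
  let bK : Module.Basis (Fin 2) F K := basisOfLinearIndependentOfCardEqFinrank hli hcard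
  have h := bK.sum_repr ⟨k, hk⟩
  rw [Fin.sum_univ_two] at h
  simp only [bK, coe_basisOfLinearIndependentOfCardEqFinrank, Matrix.cons_val_zero,
    Matrix.cons_val_one] at h
  have h' := congrArg Subtype.val h
  simp only [Subalgebra.coe_add, Subalgebra.coe_smul, Subalgebra.coe_one] at h'
  exact ⟨_, _, h'.symm⟩

/-- A field subalgebra of degree 2 contains a non-scalar matrix. -/
theorem knonscalar (K : Subalgebra F (Matrix ι ι F))
    (hK : Cfsg.Geo.IsFieldSubalgebra 2 K) :
    ∃ κ ∈ K, ∀ a : F, κ ≠ a • (1 : Matrix ι ι F) := by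
  by_contra hcon
  push Not at hcon
  let φ : F →ₗ[F] K :=
    { toFun := fun a => ⟨a • (1 : Matrix ι ι F), K.smul_mem K.one_mem a⟩
      map_add' := fun a b => Subtype.ext (by simp [add_smul])
      map_smul' := fun c a => Subtype.ext (by simp [smul_smul]) }
  have hsurj : Function.Surjective φ := by
    rintro ⟨k, hk⟩
    obtain ⟨a, ha⟩ := hcon k hk
    exact ⟨a, Subtype.ext ha.symm⟩
  have h := LinearMap.finrank_le_finrank_of_surjective hsurj
  rw [hK.finrank_eq, Module.finrank_self] at h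
  omega

/-- no zero divisors in a field subalgebra. -/
theorem keq_zero_of_mul {n : ℕ} (K : Subalgebra F (Matrix ι ι F))
    (hK : Cfsg.Geo.IsFieldSubalgebra n K) {x y : Matrix ι ι F} (hx : x ∈ K) (hy : y ∈ K)
    (hxy : x * y = 0) : x = 0 ∨ y = 0 := by
  by_cases hx0 : x = 0
  · exact Or.inl hx0
  · right
    obtain ⟨x', hx', hxx'⟩ := hK.inv x hx hx0
    calc y = (x * x') * y := by rw [hxx', one_mul]
      _ = (x' * x) * y := by rw [hK.comm x hx x' hx']
      _ = x' * (x * y) := by rw [mul_assoc]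
      _ = 0 := by rw [hxy, mul_zero]

theorem mat_eq_zero_of_mulVec {A : Matrix ι ι F} (h : ∀ u, A *ᵥ u = 0) : A = 0 := by
  have h1 : Matrix.toLin' A = 0 := by
    apply LinearMap.ext
    intro u
    rw [Matrix.toLin'_apply, h, LinearMap.zero_apply]
  exact (LinearEquiv.map_eq_zero_iff _).mp h1

end general

section symp

variable {F : Type*} [Field F] [Fintype F] {d : ℕ}

local notation "MM" => Matrix (Fin d ⊕ Fin d) (Fin d ⊕ Fin d) F
local notation "VV" => (Fin d ⊕ Fin d → F)

theorem two_ne_zero_of_odd_card (hodd : Odd (Fintype.card F)) : (2 : F) ≠ 0 := by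
  intro h
  obtain ⟨n, hn⟩ := hodd
  have hq0 : ((Fintype.card F : ℕ) : F) = 0 := Nat.cast_card_eq_zero F
  rw [hn, Nat.cast_add, Nat.cast_mul, Nat.cast_two, h, zero_mul, zero_add, Nat.cast_one] at hq0
  exact one_ne_zero hq0

theorem exists_pair_ne_zero (hd : 1 ≤ d) : ∃ u v : VV, sympForm d F u v ≠ 0 := by
  have : ∃ u : VV, u ≠ 0 := by
    refine ⟨Pi.single (Sum.inl ⟨0, hd⟩) 1, ?_⟩
    intro h
    have := congrFun h (Sum.inl ⟨0, hd⟩)
    simp at this
  obtain ⟨u, hu⟩ := this
  obtain ⟨v, hv⟩ := exists_sympForm_ne_zero hu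
  exact ⟨u, v, hv⟩

/-- left nondegeneracy. -/
theorem eq_zero_of_sympForm_left {u : VV} (h : ∀ v, sympForm d F u v = 0) : u = 0 := by
  by_contra hu
  obtain ⟨v, hv⟩ := exists_sympForm_ne_zero hu
  exact hv (h v)

/-- the skew-adjoint generator of a quadratic field subalgebra of unitary type. -/
theorem exists_delta (hodd : Odd (Fintype.card F)) (hd : 1 ≤ d) (K : Subalgebra F MM)
    (hK : Cfsg.Geo.IsFieldSubalgebra 2 K)
    (hKf : Cfsg.Geo.IsAdjointClosedFor (Cfsg.sympForm d F) K)
    (hKns : ¬ Cfsg.Geo.IsSelfAdjointFor (Cfsg.sympForm d F) K) :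
    ∃ (δm : MM) (z : F), δm ∈ K ∧ ¬ IsSquare z ∧ δm * δm = z • (1 : MM) ∧
      (∀ u v : VV, sympForm d F (δm *ᵥ u) v = - sympForm d F u (δm *ᵥ v)) ∧
      (∀ a : F, δm ≠ a • (1 : MM)) ∧
      (∀ k ∈ K, ∃ a b : F, k = a • (1 : MM) + b • δm) := by
  have : Nonempty (Fin d ⊕ Fin d) := ⟨Sum.inl ⟨0, hd⟩⟩
  have h2 : (2 : F) ≠ 0 := two_ne_zero_of_odd_card hodd
  obtain ⟨κ, hκK, hκ⟩ := knonscalar K hK
  obtain ⟨κ', hκ'K, hadj⟩ := hKf κ hκK
  -- the adjoint of `κ'` is `κ`
  have hadj' : ∀ u v : VV, sympForm d F (κ' *ᵥ u) v = sympForm d F u (κ *ᵥ v) := by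
    intro u v
    rw [sympForm_swap, ← hadj, sympForm_swap]
    ring
  set δ0 : MM := κ - κ' with hδ0
  have hδ0K : δ0 ∈ K := K.sub_mem hκK hκ'K
  have hskew : ∀ u v : VV, sympForm d F (δ0 *ᵥ u) v = - sympForm d F u (δ0 *ᵥ v) := by
    intro u v
    rw [hδ0, sub_mulVec, sub_mulVec, sympForm_sub_left, sympForm_sub_right, hadj, hadj']
    ring
  -- `δ0 ≠ 0`
  have hδ00 : δ0 ≠ 0 := by
    intro h0
    have hκκ' : κ = κ' := sub_eq_zero.mp h0
    apply hKns
    intro k hk u v
    obtain ⟨a, b, rfl⟩ := kdecomp K hK κ hκK hκ k hk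
    rw [add_mulVec, add_mulVec, smul_mulVec, smul_mulVec, smul_mulVec, smul_mulVec, one_mulVec, one_mulVec,
      sympForm_add_left, sympForm_add_right, sympForm_smul_left, sympForm_smul_left, sympForm_smul_right,
      sympForm_smul_right, hadj, ← hκκ']
  -- `δ0` is not a scalar
  have hδ0ns : ∀ a : F, δ0 ≠ a • (1 : MM) := by
    intro a ha
    obtain ⟨u, v, huv⟩ := exists_pair_ne_zero (F := F) hd
    have h1 := hskew u v
    rw [ha, smul_mulVec, smul_mulVec, one_mulVec, one_mulVec, sympForm_smul_left, sympForm_smul_right] at h1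
    have h3 : (2 * a) * sympForm d F u v = 0 := by linear_combination h1
    have ha0 : a = 0 := by
      rcases mul_eq_zero.mp h3 with h | h
      · rcases mul_eq_zero.mp h with h' | h'
        · exact absurd h' h2
        · exact h'
      · exact absurd h huv
    apply hδ00
    rw [ha, ha0, zero_smul]
  -- `δ0 * δ0` is a scalar
  obtain ⟨a, b, hab⟩ := kdecomp K hK δ0 hδ0K hδ0ns (δ0 * δ0) (K.mul_mem hδ0K hδ0K)
  have hb : b = 0 := by
    by_contra hb0
    apply hδ00
    apply mat_eq_zero_of_mulVec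
    intro u
    apply eq_zero_of_sympForm_left
    intro v
    have h1 : sympForm d F ((δ0 * δ0) *ᵥ u) v = sympForm d F u ((δ0 * δ0) *ᵥ v) := by
      rw [← mulVec_mulVec, ← mulVec_mulVec, hskew (δ0 *ᵥ u) v, hskew u (δ0 *ᵥ v), neg_neg]
    rw [hab, add_mulVec, add_mulVec, smul_mulVec, smul_mulVec, smul_mulVec, smul_mulVec, one_mulVec,
      one_mulVec, sympForm_add_left, sympForm_add_right, sympForm_smul_left, sympForm_smul_left,
      sympForm_smul_right, sympForm_smul_right] at h1
    have h3 := hskew u v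
    have h4 : (2 * b) * sympForm d F (δ0 *ᵥ u) v = 0 := by linear_combination h1 + b * h3
    rcases mul_eq_zero.mp h4 with h | h
    · rcases mul_eq_zero.mp h with h' | h'
      · exact absurd h' h2
      · exact absurd h' hb0
    · exact h
  rw [hb, zero_smul, add_zero] at hab
  refine ⟨δ0, a, hδ0K, ?_, hab, hskew, hδ0ns, fun k hk => kdecomp K hK δ0 hδ0K hδ0ns k hk⟩
  -- `a` is not a square
  rintro ⟨s, hs⟩
  have hprod : (δ0 - s • (1 : MM)) * (δ0 + s • (1 : MM)) = 0 := by
    rw [sub_mul, mul_add, mul_add, hab, smul_mul_assoc, one_mul, mul_smul_comm, mul_one, smul_mul_assoc,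
      mul_smul_comm, mul_one, smul_smul, hs]
    abel
  have hm1 : δ0 - s • (1 : MM) ∈ K := K.sub_mem hδ0K (K.smul_mem K.one_mem s)
  have hm2 : δ0 + s • (1 : MM) ∈ K := K.add_mem hδ0K (K.smul_mem K.one_mem s)
  rcases keq_zero_of_mul K hK hm1 hm2 hprod with h | h
  · exact hδ0ns s (sub_eq_zero.mp h)
  · apply hδ0ns (-s)
    rw [neg_smul]
    exact eq_neg_of_add_eq_zero_left h

end symp

end Cfsg.Agent.Helper7.UTy
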