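import Mathlib
import Cfsg.Agent.Helper7.UTyD
import Cfsg.Agent.Helper7.UTyC
import Cfsg.Agent.Helper7.SpOrdH

set_option autoImplicit false
set_option linter.unusedSectionVars false
set_option linter.unusedVariables false

/-!
The normalizer of a quadratic field subalgebra `K = F[δ]` (with `δ² = z` a nonsquare): the invertible matrices
conjugating `δ` to `±δ`.  Bridge to the abstract unitary-type structures.
-/

namespace Cfsg.Agent.Helper7.UTy

open Matrix Module Cfsg.Agent.Helper7.Symp Cfsg.Agent.Helper7.SpOrd Cfsg.Agent.Helper8.SpStab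

section general

variable {F : Type*} [Field F] {ι : Type} [Fintype ι] [DecidableEq ι]

/-- the data extracted from the subalgebra. -/
structure KGen (K : Subalgebra F (Matrix ι ι F)) (δm : Matrix ι ι F) (z : F) : Prop where
  mem : δm ∈ K
  nsq : ¬ IsSquare z
  sq : δm * δm = z • (1 : Matrix ι ι F)
  ns : ∀ a : F, δm ≠ a • (1 : Matrix ι ι F)
  dec : ∀ k ∈ K, ∃ a b : F, k = a • (1 : Matrix ι ι F) + b • δm

theorem KGen.z_ne_zero {K : Subalgebra F (Matrix ι ι F)} {δm : Matrix ι ι F} {z : F} (h : KGen K δm z) :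
    z ≠ 0 := by
  intro h0
  apply h.nsq
  rw [h0]
  exact ⟨0, by ring⟩

theorem KGen.ne_zero {K : Subalgebra F (Matrix ι ι F)} {δm : Matrix ι ι F} {z : F} (h : KGen K δm z) :
    δm ≠ 0 := by
  intro h0
  apply h.ns 0
  rw [h0, zero_smul]

theorem KGen.indep [Nonempty ι] {K : Subalgebra F (Matrix ι ι F)} {δm : Matrix ι ι F} {z : F}
    (h : KGen K δm z) {s t : F} (hst : s • (1 : Matrix ι ι F) + t • δm = 0) : s = 0 ∧ t = 0 := by
  have ht : t = 0 := by
    by_contra ht
    apply h.ns (-(t⁻¹ * s))
    have h2 : t • δm = -(s • (1 : Matrix ι ι F)) := eq_neg_of_add_eq_zero_right hst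
    have := congrArg (fun M => t⁻¹ • M) h2
    simp only [smul_smul, inv_mul_cancel₀ ht, one_smul, smul_neg] at this
    rw [this, neg_smul]
  rw [ht, zero_smul, add_zero] at hst
  refine ⟨?_, ht⟩
  by_contra hs
  have h2 : (1 : Matrix ι ι F) = 0 := by
    have := congrArg (fun M => s⁻¹ • M) hst
    simpa [smul_smul, inv_mul_cancel₀ hs] using this
  exact one_ne_zero h2

/-- conjugation by an invertible matrix stabilizes `K` iff it maps `δ` to `±δ`. -/
theorem conj_stab_iff [Nonempty ι] (h2 : (2 : F) ≠ 0) {K : Subalgebra F (Matrix ι ι F)} {δm : Matrix ι ι F}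
    {z : F} (h : KGen K δm z) (A A' : Matrix ι ι F) (hAA' : A * A' = 1) (hA'A : A' * A = 1) :
    (∀ k : Matrix ι ι F, k ∈ K ↔ A * k * A' ∈ K) ↔ (A * δm * A' = δm ∨ A * δm * A' = -δm) := by
  constructor
  · intro hN
    have hy : A * δm * A' ∈ K := (hN δm).mp h.mem
    obtain ⟨a, b, hab⟩ := h.dec _ hy
    have hsq : (A * δm * A') * (A * δm * A') = z • (1 : Matrix ι ι F) := by
      calc (A * δm * A') * (A * δm * A') = A * δm * (A' * A) * δm * A' := by simp only [mul_assoc]
        _ = A * (δm * δm) * A' := by rw [hA'A, mul_one]; simp only [mul_assoc]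
        _ = z • (1 : Matrix ι ι F) := by rw [h.sq, mul_smul_comm, mul_one, smul_mul_assoc, hAA']
    rw [hab] at hsq
    have hexp : (a • (1 : Matrix ι ι F) + b • δm) * (a • (1 : Matrix ι ι F) + b • δm) =
        (a * a + b * b * z) • (1 : Matrix ι ι F) + (2 * a * b) • δm := by
      rw [add_mul, mul_add, mul_add, smul_mul_assoc, one_mul, smul_mul_assoc, one_mul, mul_smul_comm, mul_one,
        mul_smul_comm, smul_mul_assoc, h.sq, smul_smul, smul_smul, smul_smul, smul_smul]
      module
    rw [hexp] at hsq
    have hlin : (a * a + b * b * z - z) • (1 : Matrix ι ι F) + (2 * a * b) • δm = 0 := by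
      have h0 := sub_eq_zero.mpr hsq
      rw [← h0]
      module
    obtain ⟨e1, e2⟩ := h.indep hlin
    have hab0 : a = 0 ∨ b = 0 := by
      rcases mul_eq_zero.mp e2 with h' | h'
      · rcases mul_eq_zero.mp h' with h'' | h''
        · exact absurd h'' h2
        · exact Or.inl h''
      · exact Or.inr h'
    rcases hab0 with ha | hb
    · rw [ha] at e1 hab
      have hb2 : b * b = 1 := by
        have : (b * b - 1) * z = 0 := by linear_combination e1
        rcases mul_eq_zero.mp this with h' | h'
        · exact sub_eq_zero.mp h'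
        · exact absurd h' h.z_ne_zero
      have hb1 : b = 1 ∨ b = -1 := by
        have : (b - 1) * (b + 1) = 0 := by linear_combination hb2
        rcases mul_eq_zero.mp this with h' | h'
        · exact Or.inl (sub_eq_zero.mp h')
        · exact Or.inr (eq_neg_of_add_eq_zero_left h')
      rcases hb1 with hb1 | hb1
      · left
        rw [hab, hb1, zero_smul, zero_add, one_smul]
      · right
        rw [hab, hb1, zero_smul, zero_add, neg_smul, one_smul]
    · exfalso
      apply h.nsq
      refine ⟨a, ?_⟩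
      rw [hb] at e1
      linear_combination -e1
  · intro hε
    have hε' : A' * δm * A = δm ∨ A' * δm * A = -δm := by
      rcases hε with h1 | h1
      · left
        calc A' * δm * A = A' * (A * δm * A') * A := by rw [h1]
          _ = (A' * A) * δm * (A' * A) := by simp only [mul_assoc]
          _ = δm := by rw [hA'A, one_mul, mul_one]
      · right
        have : A' * (A * δm * A') * A = δm := by
          calc A' * (A * δm * A') * A = (A' * A) * δm * (A' * A) := by simp only [mul_assoc]
            _ = δm := by rw [hA'A, one_mul, mul_one]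
        rw [h1] at this
        have h3 : A' * δm * A = -(A' * (-δm) * A) := by
          rw [mul_neg, neg_mul, neg_neg]
        rw [h3, this]
    intro k
    constructor
    · intro hk
      obtain ⟨a, b, rfl⟩ := h.dec k hk
      have : A * (a • (1 : Matrix ι ι F) + b • δm) * A' = a • (1 : Matrix ι ι F) + b • (A * δm * A') := by
        rw [mul_add, add_mul, mul_smul_comm, mul_one, smul_mul_assoc, hAA', mul_smul_comm, smul_mul_assoc]
      rw [this]
      rcases hε with h1 | h1
      · rw [h1]
        exact K.add_mem (K.smul_mem K.one_mem a) (K.smul_mem h.mem b)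
      · rw [h1]
        exact K.add_mem (K.smul_mem K.one_mem a) (K.smul_mem (K.neg_mem h.mem) b)
    · intro hk
      obtain ⟨a, b, hab⟩ := h.dec _ hk
      have hk' : k = A' * (A * k * A') * A := by
        calc k = (A' * A) * k * (A' * A) := by rw [hA'A, one_mul, mul_one]
          _ = A' * (A * k * A') * A := by simp only [mul_assoc]
      rw [hk', hab]
      have : A' * (a • (1 : Matrix ι ι F) + b • δm) * A = a • (1 : Matrix ι ι F) + b • (A' * δm * A) := by
        rw [mul_add, add_mul, mul_smul_comm, mul_one, smul_mul_assoc, hA'A, mul_smul_comm, smul_mul_assoc]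
      rw [this]
      rcases hε' with h1 | h1
      · rw [h1]
        exact K.add_mem (K.smul_mem K.one_mem a) (K.smul_mem h.mem b)
      · rw [h1]
        exact K.add_mem (K.smul_mem K.one_mem a) (K.smul_mem (K.neg_mem h.mem) b)

/-- the normalizer of `K` in terms of the generator. -/
theorem mem_normalizer_iff [Nonempty ι] (h2 : (2 : F) ≠ 0) {K : Subalgebra F (Matrix ι ι F)}
    {δm : Matrix ι ι F} {z : F} (h : KGen K δm z) (g : GL ι F) :
    g ∈ Cfsg.Geo.subalgebraNormalizer K ↔
      ((g : Matrix ι ι F) * δm * ((g⁻¹ : GL ι F) : Matrix ι ι F) = δm ∨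
        (g : Matrix ι ι F) * δm * ((g⁻¹ : GL ι F) : Matrix ι ι F) = -δm) := by
  have h1 : (g : Matrix ι ι F) * ((g⁻¹ : GL ι F) : Matrix ι ι F) = 1 := by
    rw [← Units.val_mul, mul_inv_cancel, Units.val_one]
  have h1' : ((g⁻¹ : GL ι F) : Matrix ι ι F) * (g : Matrix ι ι F) = 1 := by
    rw [← Units.val_mul, inv_mul_cancel, Units.val_one]
  exact conj_stab_iff h2 h _ _ h1 h1'

/-- an anticommuting conjugation has even order. -/
theorem conj_pow_neg {δm : Matrix ι ι F} (A A' : Matrix ι ι F) (hA'A : A' * A = 1)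
    (hneg : A * δm * A' = -δm) (n : ℕ) : A ^ n * δm * A' ^ n = (-1 : F) ^ n • δm := by
  induction n with
  | zero => simp
  | succ n ih =>
    calc A ^ (n + 1) * δm * A' ^ (n + 1) = A * (A ^ n * δm * A' ^ n) * A' := by
          rw [pow_succ', pow_succ]; simp only [mul_assoc]
      _ = (-1 : F) ^ n • (A * δm * A') := by rw [ih, mul_smul_comm, smul_mul_assoc]
      _ = (-1 : F) ^ (n + 1) • δm := by rw [hneg, smul_neg, pow_succ, mul_neg_one, neg_smul]

theorem not_conj_neg_of_odd_pow (h2 : (2 : F) ≠ 0) {δm : Matrix ι ι F} (hδ : δm ≠ 0) (A A' : Matrix ι ι F)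
    (hA'A : A' * A = 1) {n : ℕ} (hn : Odd n) (hAn : A ^ n = 1) (hA'n : A' ^ n = 1) :
    A * δm * A' ≠ -δm := by
  intro hneg
  have h1 := conj_pow_neg A A' hA'A hneg n
  rw [hAn, hA'n, one_mul, mul_one, hn.neg_one_pow, neg_smul, one_smul] at h1
  have h3 : (2 : F) • δm = 0 := by
    rw [two_smul]
    nth_rewrite 1 [h1]
    exact neg_add_cancel _
  rcases smul_eq_zero.mp h3 with h | h
  · exact h2 h
  · exact hδ h

end general

end Cfsg.Agent.Helper7.UTy
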