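import Mathlib
import Cfsg.Prelude.Def_GeometricClasses

/-!
# Generic "not contained in a geometric class member" lemmas (helper7), part A:
a Kronecker product of two matrices of sizes at least two is not a rank-one perturbation of the identity.
-/

set_option autoImplicit false

namespace Cfsg.Agent.Helper7.AschGen

open Cfsg Cfsg.Geo
open scoped MatrixGroups Matrix Kronecker

variable {F : Type*} [Field F]

theorem mulVec_mul_mulVec {n₁ n₂ : ℕ} (a : Matrix (Fin n₁) (Fin n₁) F) (b : Matrix (Fin n₂) (Fin n₂) F)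
    (x : Fin n₁ → F) (y : Fin n₂ → F) (i : Fin n₁) (k : Fin n₂) :
    (a *ᵥ x) i * (b *ᵥ y) k = ∑ j, ∑ l, a i j * b k l * (x j * y l) := by
  unfold Matrix.mulVec dotProduct
  rw [Finset.sum_mul_sum]
  refine Finset.sum_congr rfl fun j _ => Finset.sum_congr rfl fun l _ => ?_
  ring

/-- a vector in the kernel of a functional, in dimension at least two -/
theorem exists_ne_zero_dot_eq_zero {n : ℕ} (hn : 2 ≤ n) (c : Fin n → F) :
    ∃ y : Fin n → F, y ≠ 0 ∧ ∑ l, c l * y l = 0 := by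
  set l₀ : Fin n := ⟨0, by omega⟩ with hl₀
  set l₁ : Fin n := ⟨1, by omega⟩ with hl₁
  have hne : l₀ ≠ l₁ := by
    intro h; have := congrArg Fin.val h; simp [hl₀, hl₁] at this
  by_cases hc : c l₀ = 0
  · refine ⟨Pi.single l₀ 1, ?_, ?_⟩
    · intro h
      have := congrFun h l₀
      rw [Pi.single_eq_same, Pi.zero_apply] at this
      exact one_ne_zero this
    · rw [Finset.sum_eq_single l₀]
      · rw [hc, zero_mul]
      · intro l _ hl; rw [Pi.single_eq_of_ne hl, mul_zero]
      · intro h; exact absurd (Finset.mem_univ l₀) h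
  · refine ⟨Pi.single l₀ (c l₁) - Pi.single l₁ (c l₀), ?_, ?_⟩
    · intro h
      have := congrFun h l₁
      rw [Pi.sub_apply, Pi.single_eq_of_ne hne.symm, Pi.single_eq_same, Pi.zero_apply, zero_sub,
        neg_eq_zero] at this
      exact hc this
    · simp only [Pi.sub_apply, mul_sub, Finset.sum_sub_distrib]
      rw [Finset.sum_eq_single l₀, Finset.sum_eq_single l₁]
      · rw [Pi.single_eq_same, Pi.single_eq_same]; ring
      · intro l _ hl; rw [Pi.single_eq_of_ne hl, mul_zero]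
      · intro h; exact absurd (Finset.mem_univ l₁) h
      · intro l _ hl; rw [Pi.single_eq_of_ne hl, mul_zero]
      · intro h; exact absurd (Finset.mem_univ l₀) h

/-- a matrix for which every non-zero vector is an eigenvector is scalar -/
theorem scalar_of_forall_eigen {n : ℕ} (a : Matrix (Fin n) (Fin n) F)
    (h : ∀ x : Fin n → F, x ≠ 0 → ∃ c : F, a *ᵥ x = c • x) : ∃ α : F, a = α • (1 : Matrix (Fin n) (Fin n) F) := by
  by_cases hn : n = 0
  · subst hn
    exact ⟨0, by ext i; exact i.elim0⟩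
  have hs : ∀ j : Fin n, (Pi.single j 1 : Fin n → F) ≠ 0 := by
    intro j h0
    have := congrFun h0 j
    rw [Pi.single_eq_same, Pi.zero_apply] at this
    exact one_ne_zero this
  choose! c hc using h
  set j₀ : Fin n := ⟨0, by omega⟩ with hj₀
  have hcol : ∀ i j, a i j = c (Pi.single j 1) * (Pi.single j 1 : Fin n → F) i := by
    intro i j
    have := congrFun (hc _ (hs j)) i
    rw [Matrix.mulVec_single_one] at this
    rw [Pi.smul_apply, smul_eq_mul] at this
    exact this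
  have hsame : ∀ j, c (Pi.single j 1) = c (Pi.single j₀ 1) := by
    intro j
    by_cases hj : j = j₀
    · rw [hj]
    have hsum0 : (Pi.single j₀ 1 + Pi.single j 1 : Fin n → F) ≠ 0 := by
      intro h0
      have := congrFun h0 j
      rw [Pi.add_apply, Pi.single_eq_of_ne hj, Pi.single_eq_same, zero_add, Pi.zero_apply] at this
      exact one_ne_zero this
    have h1 := hc _ hsum0
    rw [Matrix.mulVec_add, hc _ (hs j₀), hc _ (hs j)] at h1
    have e0 := congrFun h1 j₀
    have e1 := congrFun h1 j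
    simp only [Pi.add_apply, Pi.smul_apply, smul_eq_mul, Pi.single_eq_same,
      Pi.single_eq_of_ne hj, Pi.single_eq_of_ne (Ne.symm hj), mul_one, mul_zero, add_zero, zero_add] at e0 e1
    rw [e1, ← e0]
  refine ⟨c (Pi.single j₀ 1), ?_⟩
  ext i j
  rw [hcol, hsame, Matrix.smul_apply, Matrix.one_apply, smul_eq_mul, Pi.single_apply]

/-- if `a ⊗ b` is a rank-one perturbation of the identity then `a` is scalar -/
theorem left_scalar {n₁ n₂ : ℕ} (h₂ : 2 ≤ n₂) (a : Matrix (Fin n₁) (Fin n₁) F)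
    (b : Matrix (Fin n₂) (Fin n₂) F) (u φ : Fin n₁ × Fin n₂ → F)
    (h : ∀ i j k l, a i j * b k l = (1 : Matrix (Fin n₁) (Fin n₁) F) i j *
      (1 : Matrix (Fin n₂) (Fin n₂) F) k l + u (i, k) * φ (j, l)) :
    ∃ α : F, a = α • (1 : Matrix (Fin n₁) (Fin n₁) F) := by
  apply scalar_of_forall_eigen
  intro x hx
  obtain ⟨y, hy0, hy⟩ := exists_ne_zero_dot_eq_zero h₂ (fun l => ∑ j, φ (j, l) * x j)
  have key : ∀ i k, (a *ᵥ x) i * (b *ᵥ y) k = x i * y k := by
    intro i k
    have e1 : ∑ j, ∑ l, (1 : Matrix (Fin n₁) (Fin n₁) F) i j * (1 : Matrix (Fin n₂) (Fin n₂) F) k l *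
        (x j * y l) = x i * y k := by
      rw [← mulVec_mul_mulVec, Matrix.one_mulVec, Matrix.one_mulVec]
    have e2 : ∑ j, ∑ l, u (i, k) * φ (j, l) * (x j * y l) = 0 := by
      rw [Finset.sum_comm]
      have : ∀ l, ∑ j, u (i, k) * φ (j, l) * (x j * y l) =
          u (i, k) * ((∑ j, φ (j, l) * x j) * y l) := by
        intro l
        rw [Finset.sum_mul, Finset.mul_sum]
        exact Finset.sum_congr rfl fun j _ => by ring
      simp only [this]
      rw [← Finset.mul_sum, hy, mul_zero]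
    rw [mulVec_mul_mulVec]
    calc ∑ j, ∑ l, a i j * b k l * (x j * y l)
        = ∑ j, ∑ l, ((1 : Matrix (Fin n₁) (Fin n₁) F) i j * (1 : Matrix (Fin n₂) (Fin n₂) F) k l *
            (x j * y l) + u (i, k) * φ (j, l) * (x j * y l)) := by
          refine Finset.sum_congr rfl fun j _ => Finset.sum_congr rfl fun l _ => ?_
          rw [h, add_mul]
      _ = x i * y k := by
          simp only [Finset.sum_add_distrib]
          rw [e1, e2, add_zero]
  obtain ⟨i₁, hi₁⟩ := Function.ne_iff.mp hx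
  obtain ⟨k₁, hk₁⟩ := Function.ne_iff.mp hy0
  rw [Pi.zero_apply] at hi₁ hk₁
  have hβ : (b *ᵥ y) k₁ ≠ 0 := by
    intro h0
    have := key i₁ k₁
    rw [h0, mul_zero] at this
    exact mul_ne_zero hi₁ hk₁ this.symm
  refine ⟨y k₁ * ((b *ᵥ y) k₁)⁻¹, ?_⟩
  funext i
  rw [Pi.smul_apply, smul_eq_mul]
  have := key i k₁
  field_simp
  linear_combination this

/-- a Kronecker product of two square matrices of sizes at least two is not a rank-one perturbation of
the identity -/
theorem kron_ne_rankOne {n₁ n₂ : ℕ} (h₁ : 2 ≤ n₁) (h₂ : 2 ≤ n₂) (a : Matrix (Fin n₁) (Fin n₁) F)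
    (b : Matrix (Fin n₂) (Fin n₂) F) (u φ : Fin n₁ × Fin n₂ → F) (hu : u ≠ 0) (hφ : φ ≠ 0)
    (h : ∀ i j k l, a i j * b k l = (1 : Matrix (Fin n₁) (Fin n₁) F) i j *
      (1 : Matrix (Fin n₂) (Fin n₂) F) k l + u (i, k) * φ (j, l)) : False := by
  obtain ⟨α, hα⟩ := left_scalar h₂ a b u φ h
  obtain ⟨β, hβ⟩ := left_scalar h₁ b a (fun p => u (p.2, p.1)) (fun p => φ (p.2, p.1)) (by
    intro k l i j
    rw [mul_comm, h i j k l, mul_comm ((1 : Matrix (Fin n₁) (Fin n₁) F) i j)])
  have h' : ∀ i j k l, u (i, k) * φ (j, l) = (α * β - 1) *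
      ((1 : Matrix (Fin n₁) (Fin n₁) F) i j * (1 : Matrix (Fin n₂) (Fin n₂) F) k l) := by
    intro i j k l
    have := h i j k l
    rw [hα, hβ, Matrix.smul_apply, Matrix.smul_apply, smul_eq_mul, smul_eq_mul] at this
    linear_combination -this
  obtain ⟨⟨i₀, k₀⟩, hu0⟩ := Function.ne_iff.mp hu
  obtain ⟨⟨j₀, l₀⟩, hφ0⟩ := Function.ne_iff.mp hφ
  rw [Pi.zero_apply] at hu0 hφ0
  have h1 := h' i₀ j₀ k₀ l₀
  have hne : (α * β - 1) * ((1 : Matrix (Fin n₁) (Fin n₁) F) i₀ j₀ *
      (1 : Matrix (Fin n₂) (Fin n₂) F) k₀ l₀) ≠ 0 := by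
    rw [← h1]; exact mul_ne_zero hu0 hφ0
  have hαβ : α * β - 1 ≠ 0 := left_ne_zero_of_mul hne
  have hij : i₀ = j₀ := by
    by_contra hcon
    rw [Matrix.one_apply_ne hcon, zero_mul, mul_zero] at hne
    exact hne rfl
  have hkl : k₀ = l₀ := by
    by_contra hcon
    rw [Matrix.one_apply_ne hcon, mul_zero, mul_zero] at hne
    exact hne rfl
  subst hij hkl
  obtain ⟨i', hi'⟩ : ∃ i' : Fin n₁, i' ≠ i₀ := by
    by_cases h0 : (i₀ : ℕ) = 0
    · exact ⟨⟨1, by omega⟩, fun h' => by have := congrArg Fin.val h'; simp at this; omega⟩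
    · exact ⟨⟨0, by omega⟩, fun h' => by have := congrArg Fin.val h'; simp at this; omega⟩
  have h2 := h' i' i₀ k₀ k₀
  rw [Matrix.one_apply_ne hi', zero_mul, mul_zero] at h2
  have hu' : u (i', k₀) = 0 := by
    rcases mul_eq_zero.mp h2 with h3 | h3
    · exact h3
    · exact absurd h3 hφ0
  have h3 := h' i' i' k₀ k₀
  rw [hu', zero_mul, Matrix.one_apply_eq, Matrix.one_apply_eq, mul_one, mul_one] at h3
  exact hαβ h3.symm

end Cfsg.Agent.Helper7.AschGen
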