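import Mathlib
import Cfsg.Prelude.Def_GeometricClasses
import Cfsg.Agent.Helper7.AschNotGenA
import Cfsg.Agent.Helper7.FExB

/-!
# Generic "not contained in a geometric class member" lemmas (helper7), part B:
a rank-one perturbation of the identity (a transvection) lies in no tensor-product subgroup with both factors of
dimension at least two; if it lies in the stabiliser of a decomposition into blocks of dimension at least two, it
fixes every block.
-/

set_option autoImplicit false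

namespace Cfsg.Agent.Helper7.AschGen

open Cfsg Cfsg.Geo
open scoped MatrixGroups Matrix Kronecker

variable {F : Type*} [Field F] {ι : Type} [Fintype ι] [DecidableEq ι]

theorem conj_one_add_vecMulVec (P : GL ι F) (u φ : ι → F) :
    ((P⁻¹ : GL ι F) : Matrix ι ι F) * (1 + Matrix.vecMulVec u φ) * (P : Matrix ι ι F) =
      1 + Matrix.vecMulVec (((P⁻¹ : GL ι F) : Matrix ι ι F) *ᵥ u) (φ ᵥ* (P : Matrix ι ι F)) := by
  rw [mul_add, add_mul, mul_one, FEx.val_inv_mul, Matrix.mul_vecMulVec, Matrix.vecMulVec_mul]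

theorem inv_mulVec_ne_zero (P : GL ι F) {u : ι → F} (hu : u ≠ 0) :
    ((P⁻¹ : GL ι F) : Matrix ι ι F) *ᵥ u ≠ 0 := by
  intro h
  apply hu
  have := congrArg (fun v => (P : Matrix ι ι F) *ᵥ v) h
  simp only [Matrix.mulVec_mulVec, FEx.val_mul_inv, Matrix.one_mulVec, Matrix.mulVec_zero] at this
  exact this

theorem vecMul_ne_zero (P : GL ι F) {φ : ι → F} (hφ : φ ≠ 0) : φ ᵥ* (P : Matrix ι ι F) ≠ 0 := by
  intro h
  apply hφ
  have := congrArg (fun v => v ᵥ* ((P⁻¹ : GL ι F) : Matrix ι ι F)) h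
  simp only [Matrix.vecMul_vecMul, FEx.val_mul_inv, Matrix.vecMul_one, Matrix.zero_vecMul] at this
  exact this

/-- a transvection lies in no tensor-product subgroup -/
theorem not_mem_tensorProductSubgroup {n₁ n₂ : ℕ} (h₁ : 2 ≤ n₁) (h₂ : 2 ≤ n₂)
    (e : ι ≃ Fin n₁ × Fin n₂) (P g : GL ι F) (u φ : ι → F) (hu : u ≠ 0) (hφ : φ ≠ 0)
    (hg : (g : Matrix ι ι F) = 1 + Matrix.vecMulVec u φ) : g ∉ tensorProductSubgroup n₁ n₂ e P := by
  intro hmem
  obtain ⟨y, hy, hyg⟩ := hmem
  obtain ⟨k, ⟨a, b, hab⟩, rfl⟩ := hy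
  have h1 : glReindex e.symm k = P⁻¹ * g * P := by
    simp only [MulEquiv.coe_toMonoidHom, MulAut.conj_apply] at hyg
    rw [← hyg]
    group
  have h2 : ((glReindex e.symm k : GL ι F) : Matrix ι ι F) =
      1 + Matrix.vecMulVec (((P⁻¹ : GL ι F) : Matrix ι ι F) *ᵥ u) (φ ᵥ* (P : Matrix ι ι F)) := by
    rw [h1, Matrix.GeneralLinearGroup.coe_mul, Matrix.GeneralLinearGroup.coe_mul, hg,
      conj_one_add_vecMulVec]
  set u' := ((P⁻¹ : GL ι F) : Matrix ι ι F) *ᵥ u with hu'_def
  set φ' := φ ᵥ* (P : Matrix ι ι F) with hφ'_def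
  have hu' : u' ≠ 0 := inv_mulVec_ne_zero P hu
  have hφ' : φ' ≠ 0 := vecMul_ne_zero P hφ
  apply kron_ne_rankOne h₁ h₂ (a : Matrix (Fin n₁) (Fin n₁) F) (b : Matrix (Fin n₂) (Fin n₂) F)
    (fun x => u' (e.symm x)) (fun x => φ' (e.symm x))
  · intro h
    apply hu'
    funext i
    have := congrFun h (e i)
    simpa using this
  · intro h
    apply hφ'
    funext i
    have := congrFun h (e i)
    simpa using this
  · intro i j k' l
    have h3 := congrFun (congrFun h2 (e.symm (i, k'))) (e.symm (j, l))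
    have h4 : ((glReindex e.symm k : GL ι F) : Matrix ι ι F) (e.symm (i, k')) (e.symm (j, l)) =
        (k : Matrix (Fin n₁ × Fin n₂) (Fin n₁ × Fin n₂) F) (i, k') (j, l) := by
      change (k : Matrix (Fin n₁ × Fin n₂) (Fin n₁ × Fin n₂) F) (e.symm.symm (e.symm (i, k')))
        (e.symm.symm (e.symm (j, l))) = _
      rw [Equiv.symm_symm, Equiv.apply_symm_apply, Equiv.apply_symm_apply]
    rw [h4, hab, Matrix.kroneckerMap_apply, Matrix.add_apply, Matrix.vecMulVec_apply] at h3
    rw [h3]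
    congr 1
    rw [Matrix.one_apply, Matrix.one_apply, Matrix.one_apply]
    by_cases hij : i = j
    · by_cases hkl : k' = l
      · rw [if_pos (by rw [hij, hkl]), if_pos hij, if_pos hkl, mul_one]
      · rw [if_neg (fun h => hkl (congrArg Prod.snd (e.symm.injective h))), if_neg hkl, mul_zero]
    · rw [if_neg (fun h => hij (congrArg Prod.fst (e.symm.injective h))), if_neg hij, zero_mul]

theorem one_add_vecMulVec_mulVec (u φ x : ι → F) :
    (1 + Matrix.vecMulVec u φ) *ᵥ x = x + (φ ⬝ᵥ x) • u := by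
  rw [Matrix.add_mulVec, Matrix.one_mulVec, Matrix.vecMulVec_mulVec, op_smul_eq_smul]

/-- a non-zero vector of a subspace of dimension at least two killed by a given functional -/
theorem exists_ne_zero_mem_dot_eq_zero {W : Submodule F (ι → F)} (hW : 2 ≤ Module.finrank F W)
    (φ : ι → F) : ∃ x ∈ W, x ≠ 0 ∧ φ ⬝ᵥ x = 0 := by
  let f : (ι → F) →ₗ[F] F :=
    { toFun := fun x => φ ⬝ᵥ x
      map_add' := fun x y => dotProduct_add φ x y
      map_smul' := fun c x => by simp [dotProduct_smul] }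
  let fW : W →ₗ[F] F := f.domRestrict W
  have h1 := LinearMap.finrank_range_add_finrank_ker fW
  have h2 : Module.finrank F (LinearMap.range fW) ≤ 1 := by
    have := Submodule.finrank_le (LinearMap.range fW)
    rwa [Module.finrank_self] at this
  have h3 : 0 < Module.finrank F (LinearMap.ker fW) := by omega
  obtain ⟨⟨⟨x, hxW⟩, hxk⟩, hx0⟩ :=
    (Module.finrank_pos_iff_exists_ne_zero (R := F) (M := ↥(LinearMap.ker fW))).mp h3
  refine ⟨x, hxW, ?_, ?_⟩
  · intro h
    apply hx0
    apply Subtype.ext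
    apply Subtype.ext
    exact h
  · exact hxk

/-- a transvection in the stabiliser of a decomposition into blocks of dimension at least two fixes
every block -/
theorem maps_block_of_rankOne {t k : ℕ} (hk : 2 ≤ k) (D : Fin t → Submodule F (ι → F))
    (hD : IsMDecomposition k D) (g : GL ι F) (u φ : ι → F)
    (hg : (g : Matrix ι ι F) = 1 + Matrix.vecMulVec u φ)
    (hmem : g ∈ decompositionStabilizer D) : ∀ i, ∀ x ∈ D i, x + (φ ⬝ᵥ x) • u ∈ D i := by
  obtain ⟨σ, hσ⟩ := hmem
  have hmaps : ∀ i, ∀ x ∈ D i, x + (φ ⬝ᵥ x) • u ∈ D (σ i) := by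
    intro i x hx
    rw [← hσ i]
    refine ⟨x, hx, ?_⟩
    rw [Matrix.toLin'_apply, hg, one_add_vecMulVec_mulVec]
  have hfix : ∀ i, σ i = i := by
    intro i
    by_contra hne
    obtain ⟨x, hxW, hx0, hφx⟩ := exists_ne_zero_mem_dot_eq_zero
      (W := D i) (by rw [hD.finrank_eq i]; exact hk) φ
    have h1 := hmaps i x hxW
    rw [hφx, zero_smul, add_zero] at h1
    have h := hD.indep.pairwiseDisjoint (Ne.symm hne)
    have : x ∈ D i ⊓ D (σ i) := ⟨hxW, h1⟩
    rw [h.eq_bot, Submodule.mem_bot] at this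
    exact hx0 this
  intro i x hx
  have := hmaps i x hx
  rwa [hfix i] at this

end Cfsg.Agent.Helper7.AschGen
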