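import Mathlib
import Cfsg.Prelude.Def_GeometricClasses
import Cfsg.Agent.Helper7.AschNotGenB

/-!
# Generic "not contained in a geometric class member" lemmas (helper7), part C:
a group containing a one-parameter family of transvections `1 + c • u φᵀ`, `c ∈ F`, with `φ ⬝ᵥ u = 0`, is contained
in no subfield group of a proper subfield (dimension at least three).
-/

set_option autoImplicit false

namespace Cfsg.Agent.Helper7.AschGen

open Cfsg Cfsg.Geo
open scoped MatrixGroups Matrix

variable {F : Type*} [Field F] {ι : Type} [Fintype ι] [DecidableEq ι]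

/-- a rank-one perturbation of the identity which is a scalar multiple of a matrix over a subfield, in dimension
at least three and with vanishing trace, has its entries in the subfield -/
theorem entries_mem' (hn : 3 ≤ Fintype.card ι) (F₁ : Subfield F) (x y : ι → F) (hxy : y ⬝ᵥ x = 0)
    (A : Matrix ι ι F) (hA : ∀ i j, A i j ∈ F₁) (d : F)
    (h : ∀ i j, (1 : Matrix ι ι F) i j + x i * y j = A i j * d) :
    ∀ i j, x i * y j ∈ F₁ := by
  by_cases hoff : ∃ c b, c ≠ b ∧ x c * y b ≠ 0
  · obtain ⟨c, b, hcb, hne⟩ := hoff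
    obtain ⟨a, hab, hac⟩ : ∃ a : ι, a ≠ b ∧ a ≠ c := by
      have hlt : ({b, c} : Finset ι).card < (Finset.univ : Finset ι).card := by
        rw [Finset.card_univ]
        exact lt_of_le_of_lt Finset.card_le_two (by omega)
      obtain ⟨a, -, ha⟩ := Finset.exists_mem_notMem_of_card_lt_card hlt
      simp only [Finset.mem_insert, Finset.mem_singleton, not_or] at ha
      exact ⟨a, ha.1, ha.2⟩
    have e1 := h a b
    have e2 := h c a
    have e3 := h a a
    have e4 := h c b
    rw [Matrix.one_apply_ne hab, zero_add] at e1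
    rw [Matrix.one_apply_ne hac.symm, zero_add] at e2
    rw [Matrix.one_apply_eq] at e3
    rw [Matrix.one_apply_ne hcb, zero_add] at e4
    have hd0 : d ≠ 0 := by
      rintro rfl
      rw [mul_zero] at e4
      exact hne e4
    have hA0 : A c b ≠ 0 := by
      intro h0
      rw [h0, zero_mul] at e4
      exact hne e4
    have hkey : d * (A a a * A c b - A a b * A c a) = A c b := by
      have h5 : (x a * y b) * (x c * y a) = (x a * y a) * (x c * y b) := by ring
      rw [e1, e2, e4, eq_sub_of_add_eq' e3] at h5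
      have h6 : d * (d * (A a a * A c b - A a b * A c a) - A c b) = 0 := by
        linear_combination -h5
      rcases mul_eq_zero.mp h6 with h7 | h7
      · exact absurd h7 hd0
      · exact sub_eq_zero.mp h7
    have hD0 : A a a * A c b - A a b * A c a ≠ 0 := by
      intro h0
      rw [h0, mul_zero] at hkey
      exact hA0 hkey.symm
    have hdF : d ∈ F₁ := by
      have : d = A c b * (A a a * A c b - A a b * A c a)⁻¹ :=
        (eq_mul_inv_iff_mul_eq₀ hD0).mpr hkey
      rw [this]
      exact F₁.mul_mem (hA c b) (F₁.inv_mem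
        (F₁.sub_mem (F₁.mul_mem (hA a a) (hA c b)) (F₁.mul_mem (hA a b) (hA c a))))
    intro i j
    have hij := h i j
    have h8 : x i * y j = A i j * d - (1 : Matrix ι ι F) i j := by
      rw [← hij]; ring
    rw [h8]
    refine F₁.sub_mem (F₁.mul_mem (hA i j) hdF) ?_
    rw [Matrix.one_apply]
    split_ifs
    · exact F₁.one_mem
    · exact F₁.zero_mem
  · push Not at hoff
    intro i j
    by_cases hij : i = j
    · subst hij
      by_contra hne
      have hne0 : x i * y i ≠ 0 := by
        intro h0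
        rw [h0] at hne
        exact hne F₁.zero_mem
      have hxi : x i ≠ 0 := left_ne_zero_of_mul hne0
      have hy : ∀ j, j ≠ i → y j = 0 := by
        intro j hj
        have := hoff i j (Ne.symm hj)
        rcases mul_eq_zero.mp this with h1 | h1
        · exact absurd h1 hxi
        · exact h1
      unfold dotProduct at hxy
      rw [Finset.sum_eq_single i] at hxy
      · exact hne0 (by rw [mul_comm]; exact hxy)
      · intro j _ hj
        rw [hy j hj, zero_mul]
      · intro h; exact absurd (Finset.mem_univ i) h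
    · rw [hoff i j hij]
      exact F₁.zero_mem

/-- the shape of the elements of a subfield group -/
theorem exists_of_mem_subfieldSubgroup' {F₁ : Subfield F} {Pm g : GL ι F}
    (hg : g ∈ subfieldSubgroup F₁ Pm) :
    ∃ (A : Matrix ι ι F) (d : F), (∀ i j, A i j ∈ F₁) ∧
      ∀ i j, (((Pm⁻¹ : GL ι F) : Matrix ι ι F) * (g : Matrix ι ι F) *
        (Pm : Matrix ι ι F)) i j = A i j * d := by
  unfold subfieldSubgroup at hg
  rw [Subgroup.mem_map] at hg
  obtain ⟨x, hx, hxe⟩ := hg
  have hxt : x = Pm⁻¹ * g * Pm := by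
    simp only [MulEquiv.coe_toMonoidHom, MulAut.conj_apply] at hxe
    rw [← hxe]
    group
  rw [Subgroup.mem_sup_of_normal_right] at hx
  obtain ⟨y, ⟨A, rfl⟩, z, hz, hyz⟩ := hx
  rw [mem_scalars_iff] at hz
  obtain ⟨d, hd⟩ := hz
  refine ⟨fun i j => ((A i j : F₁) : F), (d : F), fun i j => (A i j).2, fun i j => ?_⟩
  have : ((Pm⁻¹ : GL ι F) : Matrix ι ι F) * (g : Matrix ι ι F) *
      (Pm : Matrix ι ι F) = ((Pm⁻¹ * g * Pm : GL ι F) : Matrix ι ι F) := by
    rw [Matrix.GeneralLinearGroup.coe_mul, Matrix.GeneralLinearGroup.coe_mul]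
  rw [this, ← hxt, ← hyz, Matrix.GeneralLinearGroup.coe_mul, hd, Matrix.mul_smul, mul_one,
    Matrix.smul_apply, Matrix.GeneralLinearGroup.map_apply, smul_eq_mul, mul_comm]
  rfl

/-- a subgroup containing all the transvections `1 + c • u φᵀ`, `c ∈ F`, for some fixed non-zero `u`, `φ` with
`φ ⬝ᵥ u = 0`, is contained in no subfield group of a proper subfield -/
theorem not_le_subfieldSubgroup_of_family (hn : 3 ≤ Fintype.card ι) (G : Subgroup (GL ι F))
    (u φ : ι → F) (hu : u ≠ 0) (hφ : φ ≠ 0) (hφu : φ ⬝ᵥ u = 0)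
    (hG : ∀ c : F, ∃ g ∈ G, (g : Matrix ι ι F) = 1 + Matrix.vecMulVec (c • u) φ)
    (F₁ : Subfield F) (h1 : F₁ ≠ ⊤) (Pm : GL ι F) : ¬ G ≤ subfieldSubgroup F₁ Pm := by
  intro hle
  set u' := ((Pm⁻¹ : GL ι F) : Matrix ι ι F) *ᵥ u with hu'_def
  set φ' := φ ᵥ* (Pm : Matrix ι ι F) with hφ'_def
  have hu' : u' ≠ 0 := inv_mulVec_ne_zero Pm hu
  have hφ' : φ' ≠ 0 := vecMul_ne_zero Pm hφ
  have hdot : φ' ⬝ᵥ u' = 0 := by
    rw [hφ'_def, hu'_def, ← Matrix.dotProduct_mulVec, Matrix.mulVec_mulVec, FEx.val_mul_inv,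
      Matrix.one_mulVec, hφu]
  have key : ∀ c : F, ∀ i j, c * (u' i * φ' j) ∈ F₁ := by
    intro c i j
    obtain ⟨g, hgG, hg⟩ := hG c
    obtain ⟨A, d, hA, hAd⟩ := exists_of_mem_subfieldSubgroup' (hle hgG)
    have h2 : ((Pm⁻¹ : GL ι F) : Matrix ι ι F) * (g : Matrix ι ι F) * (Pm : Matrix ι ι F) =
        1 + Matrix.vecMulVec (c • u') φ' := by
      rw [hg, conj_one_add_vecMulVec, Matrix.mulVec_smul]
    have h3 := entries_mem' hn F₁ (c • u') φ' (by rw [dotProduct_smul, hdot, smul_zero]) A hA d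
      (fun i j => by rw [← hAd i j, h2, Matrix.add_apply, Matrix.vecMulVec_apply]) i j
    rwa [Pi.smul_apply, smul_eq_mul, mul_assoc] at h3
  obtain ⟨i, hi⟩ := Function.ne_iff.mp hu'
  obtain ⟨j, hj⟩ := Function.ne_iff.mp hφ'
  rw [Pi.zero_apply] at hi hj
  have hne : u' i * φ' j ≠ 0 := mul_ne_zero hi hj
  apply h1
  rw [eq_top_iff]
  intro c _
  have h4 := key c i j
  have h5 := key 1 i j
  rw [one_mul] at h5
  have : c = c * (u' i * φ' j) * (u' i * φ' j)⁻¹ := by
    rw [mul_assoc, mul_inv_cancel₀ hne, mul_one]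
  rw [this]
  exact F₁.mul_mem h4 (F₁.inv_mem h5)

end Cfsg.Agent.Helper7.AschGen
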