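import Mathlib
import Cfsg.Prelude.Def_GeometricClasses
import Cfsg.Agent.S5645
import Cfsg.Agent.Helper7.AschNotGenC

/-!
# `Sp_{2m}(F)` is not contained in a member of a geometric class (helper7): subspaces, decompositions into blocks
of dimension at least two, fields, tensor products, subfield groups.
-/

set_option autoImplicit false

namespace Cfsg.Agent.Helper7.AschSp

open Cfsg Cfsg.Geo Matrix
open Cfsg.Agent.Helper7.Symp Cfsg.Agent.Helper7.SpMax Cfsg.Agent.S5645 Cfsg.Agent.Helper7.AschGen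
open scoped MatrixGroups Matrix

variable {m : ℕ} {F : Type*} [Field F]

theorem toGL_T_eq (w : Fin m ⊕ Fin m → F) (c : F) :
    ((toGL m F (T w c) : GL (Fin m ⊕ Fin m) F) : Matrix (Fin m ⊕ Fin m) (Fin m ⊕ Fin m) F) =
      1 + Matrix.vecMulVec (c • w) (Matrix.J (Fin m) F *ᵥ w) := by
  change sympTransvection m w c = _
  unfold sympTransvection
  rw [Matrix.smul_vecMulVec]

theorem J_dot (w x : Fin m ⊕ Fin m → F) : (Matrix.J (Fin m) F *ᵥ w) ⬝ᵥ x = sympForm m F x w := by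
  rw [dotProduct_comm]
  rfl

theorem J_mulVec_ne_zero {w : Fin m ⊕ Fin m → F} (hw : w ≠ 0) : Matrix.J (Fin m) F *ᵥ w ≠ 0 := by
  intro h
  obtain ⟨y, hy⟩ := exists_sympForm_ne_zero hw
  apply hy
  rw [sympForm_swap, ← J_dot, h, zero_dotProduct, neg_zero]

/-- a vector not perpendicular to two given non-zero vectors -/
theorem exists_not_perp_pair {x y : Fin m ⊕ Fin m → F} (hx : x ≠ 0) (hy : y ≠ 0) :
    ∃ v : Fin m ⊕ Fin m → F, sympForm m F x v ≠ 0 ∧ sympForm m F y v ≠ 0 := by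
  obtain ⟨v₁, hv₁⟩ := exists_sympForm_ne_zero hx
  obtain ⟨v₂, hv₂⟩ := exists_sympForm_ne_zero hy
  by_cases h1 : sympForm m F y v₁ = 0
  swap
  · exact ⟨v₁, hv₁, h1⟩
  by_cases h2 : sympForm m F x v₂ = 0
  swap
  · exact ⟨v₂, h2, hv₂⟩
  refine ⟨v₁ + v₂, ?_, ?_⟩
  · rw [sympForm_add_right, h2, add_zero]; exact hv₁
  · rw [sympForm_add_right, h1, zero_add]; exact hv₂

theorem not_le_subspaceStabilizer_Sp (W : Submodule F (Fin m ⊕ Fin m → F)) (h0 : W ≠ ⊥) (h1 : W ≠ ⊤) :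
    ¬ spGL m F ≤ subspaceStabilizer W := by
  intro hle
  obtain ⟨w, hwW, hw0⟩ := (Submodule.ne_bot_iff W).mp h0
  have key : ∀ v : Fin m ⊕ Fin m → F, sympForm m F w v ≠ 0 → v ∈ W := by
    intro v hv
    have h2 := ((toGL_mem_stab W (T v 1)).mp (hle (toGL_mem (T v 1))) w).mp hwW
    rw [T_mulVec, one_mul] at h2
    have h3 := W.sub_mem h2 hwW
    rw [add_sub_cancel_left] at h3
    have := W.smul_mem (sympForm m F w v)⁻¹ h3
    rwa [smul_smul, inv_mul_cancel₀ hv, one_smul] at this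
  apply h1
  rw [eq_top_iff]
  intro v _
  by_cases hv : sympForm m F w v = 0
  · obtain ⟨y, hy⟩ := exists_sympForm_ne_zero hw0
    have h2 := key y hy
    have h3 := key (y + v) (by rw [sympForm_add_right, hv, add_zero]; exact hy)
    have := W.sub_mem h3 h2
    rwa [add_sub_cancel_left] at this
  · exact key v hv

/-- `Sp_{2m}(F)` does not permute the blocks of a decomposition into blocks of dimension at least two -/
theorem not_le_decompositionStabilizer_Sp_block {t k : ℕ} (hk : 2 ≤ k)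
    (D : Fin t → Submodule F (Fin m ⊕ Fin m → F)) (hD : IsMDecomposition k D) :
    ¬ spGL m F ≤ decompositionStabilizer D := by
  intro hle
  have ht := hD.two_le
  set i₀ : Fin t := ⟨0, by omega⟩ with hi₀
  set i₁ : Fin t := ⟨1, by omega⟩ with hi₁
  have hne : i₀ ≠ i₁ := by
    intro h; have := congrArg Fin.val h; simp [hi₀, hi₁] at this
  have hex : ∀ i, ∃ e : Fin m ⊕ Fin m → F, e ∈ D i ∧ e ≠ 0 := by
    intro i
    have hpos : 0 < Module.finrank F (D i) := by rw [hD.finrank_eq i]; exact hD.pos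
    obtain ⟨⟨e, he⟩, he0⟩ := Module.finrank_pos_iff_exists_ne_zero.mp hpos
    exact ⟨e, he, fun h => he0 (Subtype.ext h)⟩
  obtain ⟨x, hxD, hx0⟩ := hex i₀
  obtain ⟨y, hyD, hy0⟩ := hex i₁
  obtain ⟨p, hxp, hyp⟩ := exists_not_perp_pair hx0 hy0
  have hmem := hle (toGL_mem (T p 1))
  have hblock := maps_block_of_rankOne hk D hD _ _ _ (toGL_T_eq p 1) hmem
  have key : ∀ i, ∀ v ∈ D i, sympForm m F v p ≠ 0 → p ∈ D i := by
    intro i v hv hvp
    have h1 := hblock i v hv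
    rw [J_dot, smul_smul, mul_one] at h1
    have h2 := (D i).sub_mem h1 hv
    rw [add_sub_cancel_left] at h2
    have := (D i).smul_mem (sympForm m F v p)⁻¹ h2
    rwa [smul_smul, inv_mul_cancel₀ hvp, one_smul] at this
  have hp0 : p ∈ D i₀ ⊓ D i₁ := ⟨key i₀ x hxD hxp, key i₁ y hyD hyp⟩
  rw [(hD.indep.pairwiseDisjoint hne).eq_bot, Submodule.mem_bot] at hp0
  rw [hp0] at hxp
  apply hxp
  unfold sympForm
  rw [Matrix.mulVec_zero, dotProduct_zero]

/-- `Sp_{2m}(F)` is not contained in the stabiliser of a tensor decomposition -/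
theorem not_le_tensorProductSubgroup_Sp (hm : 1 ≤ m) {n₁ n₂ : ℕ} (h₁ : 2 ≤ n₁) (h₂ : 2 ≤ n₂)
    (e : (Fin m ⊕ Fin m) ≃ Fin n₁ × Fin n₂) (P : GL (Fin m ⊕ Fin m) F) :
    ¬ spGL m F ≤ tensorProductSubgroup n₁ n₂ e P := by
  intro hle
  set w : Fin m ⊕ Fin m → F := Pi.single (Sum.inl ⟨0, by omega⟩) 1 with hw_def
  have hw : w ≠ 0 := by
    intro h
    have := congrFun h (Sum.inl ⟨0, by omega⟩)
    rw [hw_def, Pi.single_eq_same, Pi.zero_apply] at this
    exact one_ne_zero this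
  refine not_mem_tensorProductSubgroup h₁ h₂ e P _ ((1 : F) • w) (Matrix.J (Fin m) F *ᵥ w) ?_
    (J_mulVec_ne_zero hw) (toGL_T_eq w 1) (hle (toGL_mem (T w 1)))
  rw [one_smul]
  exact hw

/-- `Sp_{2m}(F)`, `m ≥ 2`, is not contained in a subfield group of a proper subfield -/
theorem not_le_subfieldSubgroup_Sp (hm : 2 ≤ m) (F₁ : Subfield F) (h1 : F₁ ≠ ⊤)
    (Pm : GL (Fin m ⊕ Fin m) F) : ¬ spGL m F ≤ subfieldSubgroup F₁ Pm := by
  set w : Fin m ⊕ Fin m → F := Pi.single (Sum.inl ⟨0, by omega⟩) 1 with hw_def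
  have hw : w ≠ 0 := by
    intro h
    have := congrFun h (Sum.inl ⟨0, by omega⟩)
    rw [hw_def, Pi.single_eq_same, Pi.zero_apply] at this
    exact one_ne_zero this
  refine not_le_subfieldSubgroup_of_family ?_ (spGL m F) w (Matrix.J (Fin m) F *ᵥ w) hw
    (J_mulVec_ne_zero hw) ?_ (fun c => ⟨toGL m F (T w c), toGL_mem (T w c), toGL_T_eq w c⟩) F₁ h1 Pm
  · rw [Fintype.card_sum, Fintype.card_fin]; omega
  · rw [J_dot]
    exact sympForm_self w

/-- `Sp_{2m}(F)`, `m ≥ 2`, `F` finite, does not normalise a field of degree at least two -/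
theorem not_le_subalgebraNormalizer_Sp [Fintype F] (hm : 2 ≤ m) {r : ℕ} (hr : 2 ≤ r)
    (K : Subalgebra F (Matrix (Fin m ⊕ Fin m) (Fin m ⊕ Fin m) F)) (hK : IsFieldSubalgebra r K) :
    ¬ spGL m F ≤ subalgebraNormalizer K := by
  intro hle
  set w : Fin m ⊕ Fin m → F := Pi.single (Sum.inl ⟨0, by omega⟩) 1 with hw_def
  have hw : w ≠ 0 := by
    intro h
    have := congrFun h (Sum.inl ⟨0, by omega⟩)
    rw [hw_def, Pi.single_eq_same, Pi.zero_apply] at this
    exact one_ne_zero this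
  have hmem := hle (toGL_mem (T w 1))
  have hval : ((toGL m F (T w 1) : GL (Fin m ⊕ Fin m) F) : Matrix (Fin m ⊕ Fin m) (Fin m ⊕ Fin m) F) - 1 =
      Matrix.vecMulVec ((1 : F) • w) (Matrix.J (Fin m) F *ᵥ w) := by
    rw [toGL_T_eq, add_sub_cancel_left]
  have hrank : 2 * (((toGL m F (T w 1) : GL (Fin m ⊕ Fin m) F) :
      Matrix (Fin m ⊕ Fin m) (Fin m ⊕ Fin m) F) - 1).rank < Fintype.card (Fin m ⊕ Fin m) := by
    rw [hval, Fintype.card_sum, Fintype.card_fin]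
    have := Matrix.rank_vecMulVec_le ((1 : F) • w) (Matrix.J (Fin m) F *ᵥ w)
    omega
  have hcomm := FEx.commute_of_rank_lt hK _ hmem hrank
  obtain ⟨κ, hκK, hκ⟩ := FEx.exists_nonscalar hr K hK
  obtain ⟨y, hy⟩ := exists_sympForm_ne_zero hw
  set x : Fin m ⊕ Fin m → F := (-(sympForm m F w y)⁻¹) • y with hx
  have hxw : sympForm m F x w = 1 := by
    rw [hx, sympForm_smul_left, sympForm_swap y w, neg_mul_neg, inv_mul_cancel₀ hy]
  have h1 : (((toGL m F (T w 1) : GL (Fin m ⊕ Fin m) F) :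
      Matrix (Fin m ⊕ Fin m) (Fin m ⊕ Fin m) F) * κ) *ᵥ x =
      (κ * ((toGL m F (T w 1) : GL (Fin m ⊕ Fin m) F) :
        Matrix (Fin m ⊕ Fin m) (Fin m ⊕ Fin m) F)) *ᵥ x := by
    rw [hcomm κ hκK]
  rw [← Matrix.mulVec_mulVec, ← Matrix.mulVec_mulVec] at h1
  change (T w 1 : Matrix (Fin m ⊕ Fin m) (Fin m ⊕ Fin m) F) *ᵥ (κ *ᵥ x) =
    κ *ᵥ ((T w 1 : Matrix (Fin m ⊕ Fin m) (Fin m ⊕ Fin m) F) *ᵥ x) at h1
  rw [T_mulVec, T_mulVec, hxw, one_mul, one_mul, one_smul, Matrix.mulVec_add] at h1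
  have h2 := add_left_cancel h1
  set c := sympForm m F (κ *ᵥ x) w with hc
  have h3 : (κ - c • (1 : Matrix (Fin m ⊕ Fin m) (Fin m ⊕ Fin m) F)) *ᵥ w = 0 := by
    rw [Matrix.sub_mulVec, ← h2, Matrix.smul_mulVec, Matrix.one_mulVec, sub_self]
  have hmemK : κ - c • (1 : Matrix (Fin m ⊕ Fin m) (Fin m ⊕ Fin m) F) ∈ K := by
    refine K.sub_mem hκK ?_
    rw [← Algebra.algebraMap_eq_smul_one]
    exact K.algebraMap_mem c
  exact hw (FEx.mulVec_eq_zero hK hmemK (sub_ne_zero.mpr (hκ c)) h3)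

end Cfsg.Agent.Helper7.AschSp
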