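import Mathlib
import Cfsg.Prelude.Def_GeometricClasses
import Cfsg.Agent.Helper7.AschNotSpA
import Cfsg.Agent.Helper8.SpEvenE
import Cfsg.Agent.Helper1.AschSpBase

/-!
# ASCH-COMP-Sp (helper7): the structure `NotSp m F` of helper1's assembly, for `2 ≤ m`.
-/

set_option autoImplicit false

namespace Cfsg.Agent.Helper7.AschSp

open Cfsg Cfsg.Geo Matrix
open Cfsg.Agent.Helper7.Symp Cfsg.Agent.Helper7.SpMax Cfsg.Agent.S5645 Cfsg.Agent.Helper7.AschGen
open scoped MatrixGroups Matrix

variable {m : ℕ} {F : Type*} [Field F]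

/-- two vectors in different blocks that are not perpendicular: `Sp` does not permute the blocks -/
theorem not_le_decompositionStabilizer_Sp_of_pair {t k : ℕ}
    (D : Fin t → Submodule F (Fin m ⊕ Fin m → F)) (hD : IsMDecomposition k D) {i₀ i₁ : Fin t} (hne : i₀ ≠ i₁)
    {p x : Fin m ⊕ Fin m → F} (hp : p ∈ D i₀) (hx : x ∈ D i₁) (hxp : sympForm m F x p ≠ 0) :
    ¬ spGL m F ≤ decompositionStabilizer D := by
  intro hle
  obtain ⟨σ, hσ⟩ := hle (toGL_mem (T p 1))
  have h1 : (T p 1 : Matrix (Fin m ⊕ Fin m) (Fin m ⊕ Fin m) F) *ᵥ x ∈ D (σ i₁) := by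
    rw [← hσ i₁]
    exact ⟨x, hx, by rw [Matrix.toLin'_apply]; rfl⟩
  rw [T_mulVec, one_mul] at h1
  have hp0 : p ≠ 0 := by
    intro h
    apply hxp
    rw [h]
    unfold sympForm
    rw [Matrix.mulVec_zero, dotProduct_zero]
  by_cases hj : σ i₁ = i₁
  · rw [hj] at h1
    have h2 := (D i₁).sub_mem h1 hx
    rw [add_sub_cancel_left] at h2
    have h3 := (D i₁).smul_mem (sympForm m F x p)⁻¹ h2
    rw [smul_smul, inv_mul_cancel₀ hxp, one_smul] at h3
    have : p ∈ D i₀ ⊓ D i₁ := ⟨hp, h3⟩
    rw [(hD.indep.pairwiseDisjoint hne).eq_bot, Submodule.mem_bot] at this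
    exact hp0 this
  · have h2 : x ∈ ⨆ (l : Fin t) (_ : l ≠ i₁), D l := by
      have h3 : x + sympForm m F x p • p ∈ ⨆ (l : Fin t) (_ : l ≠ i₁), D l :=
        (le_iSup₂ (f := fun (l : Fin t) (_ : l ≠ i₁) => D l) (σ i₁) hj) h1
      have h4 : sympForm m F x p • p ∈ ⨆ (l : Fin t) (_ : l ≠ i₁), D l :=
        (le_iSup₂ (f := fun (l : Fin t) (_ : l ≠ i₁) => D l) i₀ hne) ((D i₀).smul_mem _ hp)
      have := Submodule.sub_mem _ h3 h4
      rwa [add_sub_cancel_right] at this
    have h5 : x ∈ D i₁ ⊓ ⨆ (l : Fin t) (_ : l ≠ i₁), D l := ⟨hx, h2⟩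
    rw [(hD.indep i₁).eq_bot, Submodule.mem_bot] at h5
    apply hxp
    rw [h5]
    unfold sympForm
    rw [zero_dotProduct]

/-- `Sp_{2m}(F)` does not permute the lines of a frame -/
theorem not_le_decompositionStabilizer_Sp_line {t : ℕ}
    (D : Fin t → Submodule F (Fin m ⊕ Fin m → F)) (hD : IsMDecomposition 1 D) :
    ¬ spGL m F ≤ decompositionStabilizer D := by
  have ht := hD.two_le
  set i₀ : Fin t := ⟨0, by omega⟩ with hi₀
  have hpos : 0 < Module.finrank F (D i₀) := by rw [hD.finrank_eq i₀]; exact hD.pos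
  obtain ⟨⟨p, hp⟩, hp0'⟩ := Module.finrank_pos_iff_exists_ne_zero.mp hpos
  have hp0 : p ≠ 0 := fun h => hp0' (Subtype.ext h)
  -- some block is not perpendicular to `p`
  have hex : ∃ i, ∃ x ∈ D i, sympForm m F x p ≠ 0 := by
    by_contra hcon
    push Not at hcon
    let W : Submodule F (Fin m ⊕ Fin m → F) :=
      { carrier := {x | sympForm m F x p = 0}
        add_mem' := by
          intro a b ha hb
          change sympForm m F (a + b) p = 0
          rw [sympForm_add_left, ha, hb, add_zero]
        zero_mem' := by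
          change sympForm m F 0 p = 0
          unfold sympForm
          rw [zero_dotProduct]
        smul_mem' := by
          intro c a ha
          change sympForm m F (c • a) p = 0
          rw [sympForm_smul_left, ha, mul_zero] }
    have hW : iSup D ≤ W := iSup_le fun i x hx => hcon i x hx
    rw [hD.iSup_eq_top] at hW
    obtain ⟨y, hy⟩ := exists_sympForm_ne_zero hp0
    apply hy
    rw [sympForm_swap]
    have : y ∈ W := hW Submodule.mem_top
    rw [show sympForm m F y p = 0 from this, neg_zero]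
  obtain ⟨i₁, x, hx, hxp⟩ := hex
  have hne : i₀ ≠ i₁ := by
    intro h
    subst h
    -- `x ∈ D i₀ = span p`
    have hspan : D i₀ = Submodule.span F {p} := by
      symm
      apply Submodule.eq_of_le_of_finrank_eq
      · rw [Submodule.span_singleton_le_iff_mem]; exact hp
      · rw [hD.finrank_eq, finrank_span_singleton hp0]
    rw [hspan, Submodule.mem_span_singleton] at hx
    obtain ⟨c, rfl⟩ := hx
    apply hxp
    rw [sympForm_smul_left, sympForm_self, mul_zero]
  exact not_le_decompositionStabilizer_Sp_of_pair D hD hne hp hx hxp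

/-- `Sp_{2m}(F)` does not permute the blocks of any decomposition -/
theorem not_le_decompositionStabilizer_Sp {t : ℕ} (k : ℕ)
    (D : Fin t → Submodule F (Fin m ⊕ Fin m → F)) (hD : IsMDecomposition k D) :
    ¬ spGL m F ≤ decompositionStabilizer D := by
  have hpos := hD.pos
  rcases Nat.lt_or_ge k 2 with hk | hk
  · have hk1 : k = 1 := by omega
    subst hk1
    exact not_le_decompositionStabilizer_Sp_line D hD
  · exact not_le_decompositionStabilizer_Sp_block hk D hD

/-- no quadratic form polarising to the symplectic form has `Sp_{2m}(F)` in its similarity group -/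
theorem not_le_quadSimilarityGroup_Sp (hm : 2 ≤ m) (Q : (Fin m ⊕ Fin m → F) → F)
    (hQ : IsNondegenerateQuadraticForm Q)
    (hpol : ∀ u v, QuadraticMap.polar Q u v = sympForm m F u v) : ¬ spGL m F ≤ quadSimilarityGroup Q := by
  by_cases h2 : (2 : F) = 0
  · exact Cfsg.Agent.Helper8.SpEven.not_spGL_le_quadSimilarityGroup hm h2 hQ.smul hpol
  · intro _
    have hQ0 : ∀ v, Q v = 0 := by
      intro v
      have h1 := hpol v v
      rw [sympForm_self] at h1
      unfold QuadraticMap.polar at h1
      have h3 : Q (v + v) = 4 * Q v := by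
        rw [← two_smul F v, hQ.smul]
        norm_num
      rw [h3] at h1
      have h4 : (2 : F) * Q v = 0 := by linear_combination h1
      rcases mul_eq_zero.mp h4 with h | h
      · exact absurd h h2
      · exact h
    -- a non-zero vector
    let v : Fin m ⊕ Fin m → F := Pi.single (Sum.inl ⟨0, by omega⟩) 1
    have hv : v ≠ 0 := by
      intro h
      have := congrFun h (Sum.inl ⟨0, by omega⟩)
      simp [v] at this
    obtain ⟨⟨x, hx⟩, -⟩ := hQ.nondegenerate v hv
    apply hx
    unfold QuadraticMap.polar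
    rw [hQ0, hQ0, hQ0]
    ring

/-- **the structure `NotSp m F` of helper1's assembly** -/
theorem notSp [Fintype F] (hm : 2 ≤ m) : Cfsg.Agent.Helper1.AschSp.NotSp m F where
  subspace := fun W h0 h1 => not_le_subspaceStabilizer_Sp W h0 h1
  decomp := fun k D hD => not_le_decompositionStabilizer_Sp k D hD
  field := fun r K hr hK => not_le_subalgebraNormalizer_Sp hm hr K hK
  tensor := fun n₁ n₂ h₁ h₂ e P => not_le_tensorProductSubgroup_Sp (by omega) h₁ h₂ e P
  subfield := fun F₀ h P => not_le_subfieldSubgroup_Sp hm F₀ h P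
  quad := fun Q hQ hpol => not_le_quadSimilarityGroup_Sp hm Q hQ hpol

end Cfsg.Agent.Helper7.AschSp
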