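import Mathlib
import Cfsg.Prelude.Def_GeometricClasses
import Cfsg.Agent.S0269
import Cfsg.Agent.S0270
import Cfsg.Agent.S5645
import Cfsg.Agent.Helper7.SympPerfect

/-!
# ASCH-PP-Sp piece (B): `Sp_{2m}(q)` does not normalise a solvable non-scalar subgroup of itself
(from the simplicity of `PSp_{2m}(q)`, S0270, and the perfectness of `Sp_{2m}(q)`, S0269).
-/

set_option autoImplicit false

namespace Cfsg.Agent.Helper7.AschSp

open Cfsg Cfsg.Geo Matrix
open Cfsg.Agent.Helper7.Symp Cfsg.Agent.S5645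
open scoped MatrixGroups Matrix

variable {m : ℕ} {F : Type*} [Field F]

/-- a matrix (any finite index type) for which every non-zero vector is an eigenvector is scalar -/
theorem scalar_of_forall_eigen_gen {ι : Type} [Fintype ι] [DecidableEq ι] (a : Matrix ι ι F)
    (h : ∀ x : ι → F, x ≠ 0 → ∃ c : F, a *ᵥ x = c • x) : ∃ α : F, a = α • (1 : Matrix ι ι F) := by
  rcases isEmpty_or_nonempty ι with hι | ⟨⟨j₀⟩⟩
  · exact ⟨0, by ext i; exact (hι.false i).elim⟩
  have hs : ∀ j : ι, (Pi.single j 1 : ι → F) ≠ 0 := by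
    intro j h0
    have := congrFun h0 j
    rw [Pi.single_eq_same, Pi.zero_apply] at this
    exact one_ne_zero this
  choose! c hc using h
  have hcol : ∀ i j, a i j = c (Pi.single j 1) * (Pi.single j 1 : ι → F) i := by
    intro i j
    have := congrFun (hc _ (hs j)) i
    rw [Matrix.mulVec_single_one] at this
    rw [Pi.smul_apply, smul_eq_mul] at this
    exact this
  have hsame : ∀ j, c (Pi.single j 1) = c (Pi.single j₀ 1) := by
    intro j
    by_cases hj : j = j₀
    · rw [hj]
    have hsum0 : (Pi.single j₀ 1 + Pi.single j 1 : ι → F) ≠ 0 := by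
      intro h0
      have := congrFun h0 j
      rw [Pi.add_apply, Pi.single_eq_of_ne hj, Pi.single_eq_same, zero_add, Pi.zero_apply] at this
      exact one_ne_zero this
    have h1 := hc _ hsum0
    rw [Matrix.mulVec_add, hc _ (hs j₀), hc _ (hs j)] at h1
    have e0 := congrFun h1 j₀
    have e1 := congrFun h1 j
    simp only [Pi.add_apply, Pi.smul_apply, smul_eq_mul, Pi.single_eq_same,
      Pi.single_eq_of_ne hj, Pi.single_eq_of_ne (Ne.symm hj), mul_one, mul_zero, add_zero, zero_add] at e0 e1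
    rw [e1, ← e0]
  refine ⟨c (Pi.single j₀ 1), ?_⟩
  ext i j
  rw [hcol, hsame, Matrix.smul_apply, Matrix.one_apply, smul_eq_mul, Pi.single_apply]

theorem exists_sympForm_ne_zero {w : Fin m ⊕ Fin m → F} (hw : w ≠ 0) :
    ∃ x : Fin m ⊕ Fin m → F, sympForm m F x w ≠ 0 := by
  by_contra hcon
  push_neg at hcon
  apply hw
  have hJ : Matrix.J (Fin m) F *ᵥ w = 0 := by
    ext i
    have := hcon (Pi.single i 1)
    unfold sympForm at this
    rw [single_dotProduct, one_mul] at this
    exact this
  have h2 := congrArg (fun v => Matrix.J (Fin m) F *ᵥ v) hJ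
  simp only [Matrix.mulVec_zero] at h2
  rw [J_mulVec_J_mulVec] at h2
  exact neg_eq_zero.mp h2

/-- a central element of the symplectic group is scalar -/
theorem center_scalar (A : Matrix.symplecticGroup (Fin m) F)
    (hA : A ∈ Subgroup.center (Matrix.symplecticGroup (Fin m) F)) :
    ∃ α : F, (A : Matrix (Fin m ⊕ Fin m) (Fin m ⊕ Fin m) F) = α • (1 : Matrix (Fin m ⊕ Fin m) (Fin m ⊕ Fin m) F) := by
  apply scalar_of_forall_eigen_gen
  intro w hw
  obtain ⟨x, hx⟩ := exists_sympForm_ne_zero hw
  have hconj : A * T w 1 * A⁻¹ = T w 1 := by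
    rw [Subgroup.mem_center_iff] at hA
    rw [← hA (T w 1), mul_assoc, mul_inv_cancel, mul_one]
  rw [conj_T] at hconj
  have h1 := congrArg (fun B : Matrix.symplecticGroup (Fin m) F =>
    (B : Matrix (Fin m ⊕ Fin m) (Fin m ⊕ Fin m) F) *ᵥ x) hconj
  simp only [T_mulVec, one_mul] at h1
  have h2 : sympForm m F x ((A : Matrix (Fin m ⊕ Fin m) (Fin m ⊕ Fin m) F) *ᵥ w) •
      ((A : Matrix (Fin m ⊕ Fin m) (Fin m ⊕ Fin m) F) *ᵥ w) = sympForm m F x w • w := add_left_cancel h1
  have h3 : sympForm m F x ((A : Matrix (Fin m ⊕ Fin m) (Fin m ⊕ Fin m) F) *ᵥ w) ≠ 0 := by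
    intro h0
    rw [h0, zero_smul] at h2
    exact (smul_ne_zero hx hw) h2.symm
  refine ⟨(sympForm m F x ((A : Matrix (Fin m ⊕ Fin m) (Fin m ⊕ Fin m) F) *ᵥ w))⁻¹ * sympForm m F x w, ?_⟩
  rw [mul_smul, ← h2, smul_smul, inv_mul_cancel₀ h3, one_smul]

theorem toGL_injective : Function.Injective (toGL m F) := by
  intro A B h
  apply Subtype.ext
  exact congrArg (fun g : GL (Fin m ⊕ Fin m) F => (g : Matrix (Fin m ⊕ Fin m) (Fin m ⊕ Fin m) F)) h

/-- **(B)** `Sp_{2m}(q)` does not normalise a solvable non-scalar subgroup of itself. -/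
theorem not_le_normalizer_of_solvable_Sp [Fintype F] (hm : 2 ≤ m) (h : m = 2 → 3 ≤ Fintype.card F)
    (R : Subgroup (GL (Fin m ⊕ Fin m) F)) (hR : R ≤ spGL m F) (hsol : Group.IsSolvable R)
    (hns : ¬ R ≤ scalars (Fin m ⊕ Fin m) F) : ¬ spGL m F ≤ subgroupNormalizer R := by
  intro hle
  let S := Matrix.symplecticGroup (Fin m) F
  let tg : S →* GL (Fin m ⊕ Fin m) F := toGL m F
  set R' : Subgroup S := R.comap tg with hR'
  have hnormal : R'.Normal := by
    refine ⟨fun A hA B => ?_⟩
    rw [hR', Subgroup.mem_comap, map_mul, map_mul, map_inv]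
    have hB := hle (toGL_mem B)
    unfold subgroupNormalizer at hB
    rw [Subgroup.mem_normalizer_iff] at hB
    exact (hB (tg A)).mp hA
  have hsol' : Group.IsSolvable R' := by
    let f : ↥R' →* ↥R :=
      { toFun := fun x => ⟨tg x.1, x.2⟩
        map_one' := Subtype.ext (map_one tg)
        map_mul' := fun x y => Subtype.ext (map_mul tg x.1 y.1) }
    refine Group.isSolvable_of_isSolvable_injective (f := f) ?_
    intro x y hxy
    have h1 : tg x.1 = tg y.1 := congrArg (fun z : ↥R => (z : GL (Fin m ⊕ Fin m) F)) hxy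
    exact Subtype.ext (toGL_injective h1)
  have hnc : ¬ R' ≤ Subgroup.center S := by
    intro hcen
    apply hns
    intro r hr
    obtain ⟨A, hA⟩ := exists_toGL_eq (hR hr)
    have hAR : A ∈ R' := by rw [hR', Subgroup.mem_comap]; change toGL m F A ∈ R; rw [hA]; exact hr
    obtain ⟨α, hα⟩ := center_scalar A (hcen hAR)
    have hα0 : α ≠ 0 := by
      rintro rfl
      have h1 : ((r : GL (Fin m ⊕ Fin m) F) : Matrix (Fin m ⊕ Fin m) (Fin m ⊕ Fin m) F) = 0 := by
        rw [← hA]
        change (A : Matrix (Fin m ⊕ Fin m) (Fin m ⊕ Fin m) F) = 0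
        rw [hα, zero_smul]
      have h2 := r.mul_inv
      rw [h1, Matrix.zero_mul] at h2
      haveI : Nonempty (Fin m ⊕ Fin m) := ⟨Sum.inl ⟨0, by omega⟩⟩
      exact zero_ne_one h2
    rw [mem_scalars_iff]
    refine ⟨Units.mk0 α hα0, ?_⟩
    rw [← hA, Units.val_mk0]
    exact hα
  have hperf : commutator S = ⊤ := by
    apply Cfsg.Agent.S0269.result
    by_cases h2 : m = 2
    · right; left; exact ⟨h2, h h2⟩
    · left; omega
  have := Cfsg.Agent.S0270.result (F := F) m hm h
  let π : S →* S ⧸ Subgroup.center S := QuotientGroup.mk' (Subgroup.center S)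
  have hπ : Function.Surjective π := QuotientGroup.mk'_surjective _
  have hmapN : (R'.map π).Normal := hnormal.map π hπ
  have hsimple : IsSimpleGroup (S ⧸ Subgroup.center S) := this
  rcases hmapN.eq_bot_or_eq_top with hb | ht
  · apply hnc
    have := (Subgroup.map_eq_bot_iff R').mp hb
    rwa [QuotientGroup.ker_mk'] at this
  · have hsolP : Group.IsSolvable (S ⧸ Subgroup.center S) := by
      refine Group.isSolvable_of_surjective (f := π.comp R'.subtype) ?_
      intro y
      have hy : y ∈ R'.map π := by rw [ht]; trivial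
      obtain ⟨x, hx, rfl⟩ := hy
      exact ⟨⟨x, hx⟩, rfl⟩
    have hall : ∀ k, derivedSeries S k = ⊤ := by
      intro k
      induction k with
      | zero => rfl
      | succ k ih =>
        rw [derivedSeries_succ, ih, ← commutator_def]
        exact hperf
    have hallP : ∀ k, derivedSeries (S ⧸ Subgroup.center S) k = ⊤ := by
      intro k
      rw [← map_derivedSeries_eq hπ k, hall k, ← MonoidHom.range_eq_map,
        MonoidHom.range_eq_top.mpr hπ]
    haveI : Nontrivial (S ⧸ Subgroup.center S) := hsimple.toNontrivial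
    obtain ⟨g, hg⟩ := exists_ne (1 : S ⧸ Subgroup.center S)
    exact not_isSolvable_of_mem_derivedSeries hg (fun k => by rw [hallP k]; trivial) hsolP

end Cfsg.Agent.Helper7.AschSp

namespace Cfsg.Agent.Helper7.AschSp

open Cfsg Cfsg.Geo Matrix
open scoped MatrixGroups Matrix

variable {m : ℕ} {F : Type*} [Field F]

/-- a group of isometries of the standard symplectic form lies in `spGL` -/
theorem le_spGL_of_fixes {R : Subgroup (GL (Fin m ⊕ Fin m) F)}
    (hfix : FixesForm (matrixSet R) (sympForm m F)) : R ≤ spGL m F := by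
  intro g hg
  show ∀ u v, _ = _
  intro u v
  exact hfix _ ⟨g, hg, rfl⟩ u v

/-- an irreducible group in dimension at least 2 is not scalar (any index type) -/
theorem not_le_scalars_of_irred_gen {ι : Type} [Fintype ι] [DecidableEq ι] {i₀ i₁ : ι} (hne : i₀ ≠ i₁)
    {R : Subgroup (GL ι F)} (hirr : ActsIrreducibly (matrixSet R)) : ¬ R ≤ scalars ι F := by
  intro hle
  have hW := hirr (Submodule.span F {(Pi.single i₀ 1 : ι → F)}) (by
    rintro s ⟨g, hg, rfl⟩
    obtain ⟨c, hc⟩ := (mem_scalars_iff g).mp (hle hg)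
    rw [Submodule.map_span_le]
    intro x hx
    rw [Matrix.toLin'_apply]
    show (g : Matrix ι ι F) *ᵥ x ∈ _
    rw [hc, Matrix.smul_mulVec, Matrix.one_mulVec]
    exact Submodule.smul_mem _ _ (Submodule.subset_span hx))
  rcases hW with h0 | h1
  · have : (Pi.single i₀ 1 : ι → F) ∈ (⊥ : Submodule F (ι → F)) := by
      rw [← h0]; exact Submodule.mem_span_singleton_self _
    rw [Submodule.mem_bot] at this
    have h2 := congrFun this i₀
    rw [Pi.single_eq_same, Pi.zero_apply] at h2
    exact one_ne_zero h2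
  · have : (Pi.single i₁ 1 : ι → F) ∈ Submodule.span F {(Pi.single i₀ 1 : ι → F)} := by
      rw [h1]; trivial
    obtain ⟨c, hc⟩ := Submodule.mem_span_singleton.mp this
    have h2 := congrFun hc i₁
    rw [Pi.smul_apply, Pi.single_eq_of_ne (Ne.symm hne), smul_zero, Pi.single_eq_same] at h2
    exact zero_ne_one h2

/-- **(B')** the class-6 form: `Sp_{2m}(q)` does not normalise an absolutely irreducible `2`-group of isometries. -/
theorem not_le_normalizer_class6_Sp [Fintype F] (hm : 2 ≤ m) (h : m = 2 → 3 ≤ Fintype.card F)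
    (R : Subgroup (GL (Fin m ⊕ Fin m) F)) {r : ℕ} (hst : IsSymplecticTypeGroup r R)
    (habs : ActsAbsolutelyIrreducibly (matrixSet R)) (hfix : FixesForm (matrixSet R) (sympForm m F)) :
    ¬ spGL m F ≤ subgroupNormalizer R := by
  haveI : Fact r.Prime := ⟨hst.prime⟩
  haveI : Finite R := inferInstance
  have hnil : Group.IsNilpotent R := hst.pGroup.isNilpotent
  have hsol : Group.IsSolvable R := inferInstance
  refine not_le_normalizer_of_solvable_Sp hm h R (le_spGL_of_fixes hfix) hsol ?_
  exact not_le_scalars_of_irred_gen (i₀ := Sum.inl ⟨0, by omega⟩) (i₁ := Sum.inr ⟨0, by omega⟩) (by simp) habs.1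

end Cfsg.Agent.Helper7.AschSp
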