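import Mathlib
import Cfsg.Prelude.Def_GeometricClasses
import Cfsg.Agent.S5653
import Cfsg.Agent.Helper7.FExB

/-!
# ASCH-PRIME-U piece U7 (part A): `SU_n(q)` stabilises no proper non-zero subspace and does not
normalise a field of degree `n`.  Preliminaries: isotropic vectors span.
-/

set_option autoImplicit false

namespace Cfsg.Agent.Helper7.AschU

open Cfsg Cfsg.Geo Matrix
open Cfsg.Agent.Helper7.Herm Cfsg.Agent.Helper8.GUOrder Cfsg.Agent.Helper8.SURoot
  Cfsg.Agent.Helper8.AutSU Cfsg.Agent.Helper7.SUSimp Cfsg.Agent.S5653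
open scoped MatrixGroups Matrix

variable {n : ℕ} {F : Type*} [Field F] [Fintype F]

omit [Fintype F] in
theorem hermForm_single_left (q : ℕ) (i : Fin n) (a : F) (v : Fin n → F) :
    hermForm n F q (Pi.single i a) v = a * (v i) ^ q := by
  unfold hermForm
  rw [Finset.sum_eq_single i]
  · rw [Pi.single_eq_same]
  · intro j _ hj; rw [Pi.single_eq_of_ne hj, zero_mul]
  · intro h; exact absurd (Finset.mem_univ i) h

omit [Fintype F] in
theorem hermForm_single_right {q : ℕ} (hq : 1 ≤ q) (i : Fin n) (a : F) (v : Fin n → F) :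
    hermForm n F q v (Pi.single i a) = v i * a ^ q := by
  unfold hermForm
  rw [Finset.sum_eq_single i]
  · rw [Pi.single_eq_same]
  · intro j _ hj; rw [Pi.single_eq_of_ne hj, zero_pow (by omega), mul_zero]
  · intro h; exact absurd (Finset.mem_univ i) h

theorem hermForm_pair {q : ℕ} {i j : Fin n} (hij : i ≠ j) (a b : F) (v : Fin n → F) :
    hermForm n F q (Pi.single i a + Pi.single j b) v = a * (v i) ^ q + b * (v j) ^ q := by
  rw [hermForm_add_left, hermForm_single_left, hermForm_single_left]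

omit [Fintype F] in
theorem pair_apply_left {i j : Fin n} (hij : i ≠ j) (a b : F) :
    (Pi.single i a + Pi.single j b : Fin n → F) i = a := by
  rw [Pi.add_apply, Pi.single_eq_same, Pi.single_eq_of_ne hij, add_zero]

omit [Fintype F] in
theorem pair_apply_right {i j : Fin n} (hij : i ≠ j) (a b : F) :
    (Pi.single i a + Pi.single j b : Fin n → F) j = b := by
  rw [Pi.add_apply, Pi.single_eq_same, Pi.single_eq_of_ne hij.symm, zero_add]

theorem hermForm_pair_pair {q : ℕ} {i j : Fin n} (hij : i ≠ j) (a b c d : F) :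
    hermForm n F q (Pi.single i a + Pi.single j b) (Pi.single i c + Pi.single j d) =
      a * c ^ q + b * d ^ q := by
  rw [hermForm_pair hij, pair_apply_left hij, pair_apply_right hij]

theorem exists_lam {q : ℕ} (hF : Fintype.card F = q ^ 2) : ∃ l : F, l * l ^ q = -1 :=
  exists_norm hF (neg_ne_zero.mpr one_ne_zero) (neg_one_pow_q hF)

/-- the isotropic vectors span the unitary space of dimension at least two -/
theorem span_isotropic (q : ℕ) (hF : Fintype.card F = q ^ 2) (hn : 2 ≤ n) :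
    Submodule.span F {p : Fin n → F | hermForm n F q p p = 0} = ⊤ := by
  obtain ⟨l, hl⟩ := exists_lam hF
  obtain ⟨ζ, hζ, hζ1⟩ := exists_zeta hF
  have hl0 : l ≠ 0 := by
    rintro rfl
    rw [zero_mul] at hl
    exact one_ne_zero (neg_eq_zero.mp hl.symm)
  rw [eq_top_iff, ← (Pi.basisFun F (Fin n)).span_eq, Submodule.span_le]
  rintro _ ⟨j, rfl⟩
  rw [Pi.basisFun_apply]
  obtain ⟨i, hij⟩ : ∃ i : Fin n, i ≠ j := by
    by_cases h : (j : ℕ) = 0
    · exact ⟨⟨1, by omega⟩, fun h' => by have := congrArg Fin.val h'; simp at this; omega⟩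
    · exact ⟨⟨0, by omega⟩, fun h' => by have := congrArg Fin.val h'; simp at this; omega⟩
  have h1 : (Pi.single i 1 + Pi.single j l : Fin n → F) ∈
      Submodule.span F {p : Fin n → F | hermForm n F q p p = 0} := by
    apply Submodule.subset_span
    show hermForm n F q _ _ = 0
    rw [hermForm_pair_pair hij, one_pow, mul_one, hl, add_neg_cancel]
  have h2 : (Pi.single i 1 + Pi.single j (l * ζ) : Fin n → F) ∈
      Submodule.span F {p : Fin n → F | hermForm n F q p p = 0} := by
    apply Submodule.subset_span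
    show hermForm n F q _ _ = 0
    rw [hermForm_pair_pair hij, one_pow, mul_one, mul_pow]
    linear_combination (ζ * ζ ^ q) * hl - hζ
  have h3 := Submodule.smul_mem _ ((l * (1 - ζ))⁻¹) (Submodule.sub_mem _ h1 h2)
  have h4 : (l * (1 - ζ))⁻¹ • ((Pi.single i 1 + Pi.single j l : Fin n → F) -
      (Pi.single i 1 + Pi.single j (l * ζ))) = Pi.single j 1 := by
    have hne : l * (1 - ζ) ≠ 0 := mul_ne_zero hl0 (sub_ne_zero.mpr (Ne.symm hζ1))
    rw [add_sub_add_left_eq_sub, ← Pi.single_sub, ← Pi.single_smul', smul_eq_mul,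
      show l - l * ζ = l * (1 - ζ) by ring, inv_mul_cancel₀ hne]
  rw [h4] at h3
  exact h3

/-- a vector orthogonal to all isotropic vectors is zero -/
theorem eq_zero_of_forall_isotropic (q : ℕ) (hF : Fintype.card F = q ^ 2) (hn : 2 ≤ n)
    {w : Fin n → F} (hw : ∀ p : Fin n → F, hermForm n F q p p = 0 → hermForm n F q w p = 0) :
    w = 0 := by
  haveI : Fact (Fintype.card F = q ^ 2) := ⟨hF⟩
  have hall : ∀ x ∈ Submodule.span F {p : Fin n → F | hermForm n F q p p = 0},
      hermForm n F q w x = 0 := by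
    intro x hx
    induction hx using Submodule.span_induction with
    | mem x hx => exact hw x hx
    | zero => exact hermForm_zero_right w
    | add x y _ _ hx hy => rw [hermForm_add_right hF, hx, hy, add_zero]
    | smul a x _ hx => rw [hermForm_smul_right, hx, mul_zero]
  rw [span_isotropic q hF hn] at hall
  funext i
  have := hall (Pi.single i 1) trivial
  rw [hermForm_single_right (one_le_q hF), one_pow, mul_one] at this
  exact this

/-- a subspace invariant under `SU_n(q)`, `n ≥ 2`, is zero or everything -/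
theorem eq_top_of_invariant (q : ℕ) [Fact (Fintype.card F = q ^ 2)] {k : ℕ}
    (W : Submodule F (Fin (k + 2) → F))
    (hstab : ∀ (A : SU (k + 2) F q) (v : Fin (k + 2) → F), v ∈ W → mt A *ᵥ v ∈ W)
    (h0 : W ≠ ⊥) : W = ⊤ := by
  have hF : Fintype.card F = q ^ 2 := Fact.out
  obtain ⟨w, hwW, hw0⟩ := (Submodule.ne_bot_iff W).mp h0
  have hex : ∃ p : Fin (k + 2) → F, hermForm (k + 2) F q p p = 0 ∧
      hermForm (k + 2) F q w p ≠ 0 := by
    by_contra hcon
    push Not at hcon
    exact hw0 (eq_zero_of_forall_isotropic q hF (by omega) hcon)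
  obtain ⟨p, hp, hwp⟩ := hex
  obtain ⟨s, hs0, hs⟩ := exists_tz_ne_zero (F := F) (q := q)
  have hpW : p ∈ W := by
    have h2 := hstab (TU q p s) w hwW
    rw [TU_mulVec hp hs] at h2
    have h3 := W.sub_mem h2 hwW
    rw [add_sub_cancel_left] at h3
    have := W.smul_mem (s * hermForm (k + 2) F q w p)⁻¹ h3
    rwa [smul_smul, inv_mul_cancel₀ (mul_ne_zero hs0 hwp), one_smul] at this
  have hp0 : p ≠ 0 := by
    rintro rfl
    exact hwp (hermForm_zero_right w)
  rw [eq_top_iff, ← span_isotropic q hF (by omega), Submodule.span_le]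
  intro z hz
  by_cases hz0 : z = 0
  · rw [hz0]; exact W.zero_mem
  obtain ⟨A, c, hc0, hA⟩ := exists_SU_point hp0 hp hz0 hz
  have h5 := hstab A p hpW
  rw [hA] at h5
  have := W.smul_mem c⁻¹ h5
  rwa [smul_smul, inv_mul_cancel₀ hc0, one_smul] at this

theorem not_le_subspaceStabilizer_SU (q : ℕ) (hF : Fintype.card F = q ^ 2) (hn : 3 ≤ n)
    (W : Submodule F (Fin n → F)) (h0 : W ≠ ⊥) (h1 : W ≠ ⊤) :
    ¬ GU n F q ⊓ specialLinear (Fin n) F ≤ subspaceStabilizer W := by
  intro hle
  haveI : Fact (Fintype.card F = q ^ 2) := ⟨hF⟩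
  obtain ⟨k, rfl⟩ : ∃ k, n = k + 2 := ⟨n - 2, by omega⟩
  exact h1 (eq_top_of_invariant q W
    (fun A v hv => ((toGL_mem_stab W A).mp (hle (toGL_mem A)) v).mp hv) h0)

theorem mt_TU {q : ℕ} [Fact (Fintype.card F = q ^ 2)] {p : Fin n → F} (hp : hermForm n F q p p = 0) {s : F}
    (hs : s ^ q + s = 0) :
    (mt (TU q p s) : Matrix (Fin n) (Fin n) F) = unitaryTransvection n q p s := by
  unfold TU
  rw [dif_pos ⟨hp, hs⟩]

theorem not_le_subalgebraNormalizer_SU (q : ℕ) (hF : Fintype.card F = q ^ 2) (hn : 3 ≤ n)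
    (K : Subalgebra F (Matrix (Fin n) (Fin n) F)) (hK : IsFieldSubalgebra n K) :
    ¬ GU n F q ⊓ specialLinear (Fin n) F ≤ subalgebraNormalizer K := by
  intro hle
  have : Fact (Fintype.card F = q ^ 2) := ⟨hF⟩
  set i₀ : Fin n := ⟨0, by omega⟩ with hi₀
  set i₁ : Fin n := ⟨1, by omega⟩ with hi₁
  have hne : i₀ ≠ i₁ := by
    intro h; have := congrArg Fin.val h; simp [hi₀, hi₁] at this
  obtain ⟨l, hl⟩ := exists_lam hF
  set p : Fin n → F := Pi.single i₀ 1 + Pi.single i₁ l with hp_def
  have hp : hermForm n F q p p = 0 := by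
    rw [hp_def, hermForm_pair_pair hne, one_pow, mul_one, hl, add_neg_cancel]
  obtain ⟨s, hs0, hs⟩ := exists_tz_ne_zero (F := F) (q := q)
  have hmem := hle (toGL_mem (TU q p s))
  have hval : ((toGL n F q (TU q p s) : GL (Fin n) F) : Matrix (Fin n) (Fin n) F) - 1 =
      s • Matrix.vecMulVec p (fun j => (p j) ^ q) := by
    change mt (TU q p s) - 1 = _
    rw [mt_TU hp hs]
    unfold unitaryTransvection
    rw [add_sub_cancel_left]
  have hrank : 2 * (((toGL n F q (TU q p s) : GL (Fin n) F) : Matrix (Fin n) (Fin n) F) - 1).rank <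
      Fintype.card (Fin n) := by
    rw [hval, Fintype.card_fin, ← Matrix.vecMulVec_smul]
    have := Matrix.rank_vecMulVec_le p (s • fun j => (p j) ^ q)
    omega
  have hcomm := FEx.commute_of_rank_lt hK _ hmem hrank
  obtain ⟨κ, hκK, hκ⟩ := FEx.exists_nonscalar (by omega : 2 ≤ n) K hK
  set x : Fin n → F := Pi.single i₀ 1 with hx
  have hxp : hermForm n F q x p = 1 := by
    rw [hx, hermForm_single_left, hp_def, pair_apply_left hne, one_pow, mul_one]
  have h1 : (((toGL n F q (TU q p s) : GL (Fin n) F) : Matrix (Fin n) (Fin n) F) * κ) *ᵥ x =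
      (κ * ((toGL n F q (TU q p s) : GL (Fin n) F) : Matrix (Fin n) (Fin n) F)) *ᵥ x := by
    rw [hcomm κ hκK]
  rw [← Matrix.mulVec_mulVec, ← Matrix.mulVec_mulVec] at h1
  change mt (TU q p s) *ᵥ (κ *ᵥ x) = κ *ᵥ (mt (TU q p s) *ᵥ x) at h1
  rw [TU_mulVec hp hs, TU_mulVec hp hs, hxp, mul_one, Matrix.mulVec_add, Matrix.mulVec_smul] at h1
  have h2 := add_left_cancel h1
  set c := hermForm n F q (κ *ᵥ x) p with hc
  have h2' : κ *ᵥ p = c • p := by
    have := congrArg (fun v => s⁻¹ • v) h2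
    simp only [smul_smul] at this
    rw [← mul_assoc, inv_mul_cancel₀ hs0, one_mul, one_smul] at this
    exact this.symm
  have h3 : (κ - c • (1 : Matrix (Fin n) (Fin n) F)) *ᵥ p = 0 := by
    rw [Matrix.sub_mulVec, h2', Matrix.smul_mulVec, Matrix.one_mulVec, sub_self]
  have hmemK : κ - c • (1 : Matrix (Fin n) (Fin n) F) ∈ K := by
    refine K.sub_mem hκK ?_
    rw [← Algebra.algebraMap_eq_smul_one]
    exact K.algebraMap_mem c
  have hv0 := FEx.mulVec_eq_zero hK hmemK (sub_ne_zero.mpr (hκ c)) h3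
  have := congrFun hv0 i₀
  rw [hp_def, pair_apply_left hne, Pi.zero_apply] at this
  exact one_ne_zero this

end Cfsg.Agent.Helper7.AschU
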