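import Mathlib
import Cfsg.Prelude.Def_GeometricClasses
import Cfsg.Agent.S5653
import Cfsg.Agent.Helper7.AschNotSUA

/-!
# ASCH-PRIME-U piece U7 (part B): `SU_n(q)` does not normalise a solvable non-scalar subgroup of itself.
-/

set_option autoImplicit false

namespace Cfsg.Agent.Helper7.AschU

open Cfsg Cfsg.Geo Matrix
open Cfsg.Agent.Helper7.Herm Cfsg.Agent.Helper8.GUOrder Cfsg.Agent.Helper8.SURoot
  Cfsg.Agent.Helper8.AutSU Cfsg.Agent.Helper7.SUSimp Cfsg.Agent.S5653
open scoped MatrixGroups Matrix

variable {n : ℕ} {F : Type*} [Field F] [Fintype F]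

theorem toGL_injective (q : ℕ) : Function.Injective (toGL n F q) := by
  intro A B h
  apply ext_mulVec
  intro v
  have : (mt A : Matrix (Fin n) (Fin n) F) = mt B :=
    congrArg (fun g : GL (Fin n) F => (g : Matrix (Fin n) (Fin n) F)) h
  rw [this]

theorem not_le_normalizer_of_solvable_SU (q : ℕ) (hF : Fintype.card F = q ^ 2) (hn : 3 ≤ n)
    (h32 : ¬ (n = 3 ∧ q = 2)) (R : Subgroup (GL (Fin n) F))
    (hR : R ≤ GU n F q ⊓ specialLinear (Fin n) F) (hsol : Group.IsSolvable R)
    (hns : ¬ R ≤ scalars (Fin n) F) :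
    ¬ GU n F q ⊓ specialLinear (Fin n) F ≤ subgroupNormalizer R := by
  intro hle
  haveI : Fact (Fintype.card F = q ^ 2) := ⟨hF⟩
  obtain ⟨k, rfl⟩ : ∃ k, n = k + 2 := ⟨n - 2, by omega⟩
  have hk : 1 ≤ k := by omega
  let S := SU (k + 2) F q
  let tg : S →* GL (Fin (k + 2)) F := toGL (k + 2) F q
  set R' : Subgroup S := R.comap tg with hR'
  -- normality
  have hnormal : R'.Normal := by
    refine ⟨fun A hA B => ?_⟩
    rw [hR', Subgroup.mem_comap, map_mul, map_mul, map_inv]
    have hB := hle (toGL_mem B)
    unfold subgroupNormalizer at hB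
    rw [Subgroup.mem_normalizer_iff] at hB
    exact (hB (tg A)).mp hA
  -- solvability
  have hsol' : Group.IsSolvable R' := by
    let f : ↥R' →* ↥R :=
      { toFun := fun x => ⟨tg x.1, x.2⟩
        map_one' := Subtype.ext (map_one tg)
        map_mul' := fun x y => Subtype.ext (map_mul tg x.1 y.1) }
    refine Group.isSolvable_of_isSolvable_injective (f := f) ?_
    intro x y hxy
    have h1 : tg x.1 = tg y.1 := congrArg (fun z : ↥R => (z : GL (Fin (k + 2)) F)) hxy
    exact Subtype.ext (toGL_injective q h1)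
  -- not central
  have hnc : ¬ R' ≤ Subgroup.center S := by
    intro hcen
    apply hns
    intro r hr
    obtain ⟨A, hA⟩ := exists_toGL_eq (hR hr)
    have hAR : A ∈ R' := by rw [hR', Subgroup.mem_comap]; change toGL (k + 2) F q A ∈ R; rw [hA]; exact hr
    obtain ⟨ζ, hζ⟩ := center_mulVec (by omega : 1 ≤ k + 2) (hcen hAR)
    have hζ0 : ζ ≠ 0 := by
      rintro rfl
      have h1 : (Pi.single 0 1 : Fin (k + 2) → F) ≠ 0 := by
        intro h
        have := congrFun h 0
        rw [Pi.single_eq_same, Pi.zero_apply] at this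
        exact one_ne_zero this
      exact mulVec_ne_zero' A h1 (by rw [hζ, zero_smul])
    rw [mem_scalars_iff]
    refine ⟨Units.mk0 ζ hζ0, ?_⟩
    rw [← hA, Units.val_mk0]
    change (mt A : Matrix (Fin (k + 2)) (Fin (k + 2)) F) = _
    ext i j
    have := congrFun (hζ (Pi.single j 1)) i
    rw [Matrix.mulVec_single_one] at this
    rw [Matrix.smul_apply, Matrix.one_apply]
    rw [Pi.smul_apply, Pi.single_apply] at this
    exact this
  have := isSimpleGroup_PSU (F := F) (q := q) hk h32
  let π : S →* S ⧸ Subgroup.center S := QuotientGroup.mk' (Subgroup.center S)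
  have hπ : Function.Surjective π := QuotientGroup.mk'_surjective _
  have hmapN : (R'.map π).Normal := hnormal.map π hπ
  rcases hmapN.eq_bot_or_eq_top with hb | ht
  · apply hnc
    have := (Subgroup.map_eq_bot_iff R').mp hb
    rwa [QuotientGroup.ker_mk'] at this
  · have hsolP : Group.IsSolvable (S ⧸ Subgroup.center S) := by
      refine Group.isSolvable_of_surjective (f := π.comp R'.subtype) ?_
      intro y
      have hy : y ∈ R'.map π := by rw [ht]; trivial
      obtain ⟨x, hx, rfl⟩ := hy
      exact ⟨⟨x, hx⟩, rfl⟩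
    have hall : ∀ m, derivedSeries S m = ⊤ := by
      intro m
      induction m with
      | zero => rfl
      | succ m ih =>
        rw [derivedSeries_succ, ih, ← commutator_def]
        exact commutator_SU_eq_top hk h32
    have hallP : ∀ m, derivedSeries (S ⧸ Subgroup.center S) m = ⊤ := by
      intro m
      rw [← map_derivedSeries_eq hπ m, hall m, ← MonoidHom.range_eq_map,
        MonoidHom.range_eq_top.mpr hπ]
    obtain ⟨g, hg⟩ := exists_ne (1 : S ⧸ Subgroup.center S)
    exact not_isSolvable_of_mem_derivedSeries hg (fun m => by rw [hallP m]; trivial) hsolP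

end Cfsg.Agent.Helper7.AschU
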