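import Mathlib
import Cfsg.Prelude.Def_GeometricClasses
import Cfsg.Agent.S5653
import Cfsg.Agent.Helper7.AschNotSUA

/-!
# ASCH-PRIME-U piece U7 (part C): `SU_n(q)`, `n ≥ 4`, does not permute the lines of an orthogonal frame.
-/

set_option autoImplicit false

namespace Cfsg.Agent.Helper7.AschU

open Cfsg Cfsg.Geo Matrix
open Cfsg.Agent.Helper7.Herm Cfsg.Agent.Helper8.GUOrder Cfsg.Agent.Helper8.SURoot
  Cfsg.Agent.Helper8.AutSU Cfsg.Agent.Helper7.SUSimp Cfsg.Agent.S5653
open scoped MatrixGroups Matrix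

variable {n : ℕ} {F : Type*} [Field F] [Fintype F]

/-- a non-degenerate line contains a vector of norm one -/
theorem exists_unit_vector (q : ℕ) (hF : Fintype.card F = q ^ 2) {W : Submodule F (Fin n → F)}
    (h1 : Module.finrank F W = 1) (hnd : IsNondegenerateOn (hermForm n F q) W) :
    ∃ u ∈ W, hermForm n F q u u = 1 := by
  have hpos : 0 < Module.finrank F W := by rw [h1]; exact Nat.one_pos
  obtain ⟨⟨e, he⟩, he0⟩ := Module.finrank_pos_iff_exists_ne_zero.mp hpos
  have he0' : e ≠ 0 := fun h => he0 (Subtype.ext h)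
  obtain ⟨⟨x, hxW, hx⟩, -⟩ := hnd e he he0'
  obtain ⟨c, hc⟩ := (finrank_eq_one_iff_of_nonzero' (⟨e, he⟩ : W) he0).mp h1 ⟨x, hxW⟩
  have hxe : x = c • e := (congrArg Subtype.val hc).symm
  rw [hxe, hermForm_smul_left] at hx
  have ha0 : hermForm n F q e e ≠ 0 := right_ne_zero_of_mul hx
  have haq : hermForm n F q e e ^ q = hermForm n F q e e := (hermForm_swap hF e e).symm
  obtain ⟨l, hl⟩ := exists_norm hF (inv_ne_zero ha0) (by rw [inv_pow, haq])
  refine ⟨l • e, W.smul_mem l he, ?_⟩
  rw [hermForm_smul_left, hermForm_smul_right, ← mul_assoc, hl, inv_mul_cancel₀ ha0]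

theorem not_le_decompositionStabilizer_SU (q : ℕ) (hF : Fintype.card F = q ^ 2) (hn : 4 ≤ n)
    (D : Fin n → Submodule F (Fin n → F))
    (hD : IsNondegenerateMDecomposition (hermForm n F q) 1 D) :
    ¬ GU n F q ⊓ specialLinear (Fin n) F ≤ decompositionStabilizer D := by
  intro hle
  have : Fact (Fintype.card F = q ^ 2) := ⟨hF⟩
  let ι : Fin 4 → Fin n := Fin.castLE hn
  have hι : Function.Injective ι := Fin.castLE_injective hn
  choose u huD hu1 using fun a : Fin 4 =>
    exists_unit_vector q hF (hD.decomp.finrank_eq (ι a)) (hD.nondegenerate (ι a))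
  have hO : ∀ a b : Fin 4, a ≠ b → hermForm n F q (u a) (u b) = 0 := fun a b hab =>
    hD.orthogonal (ι a) (ι b) (fun h => hab (hι h)) (u a) (huD a) (u b) (huD b)
  obtain ⟨l, hl⟩ := exists_lam hF
  have hl0 : l ≠ 0 := by
    rintro rfl
    rw [zero_mul] at hl
    exact one_ne_zero (neg_eq_zero.mp hl.symm)
  set p : Fin n → F := u 0 + l • u 1 + u 2 + l • u 3 with hp_def
  have hR : ∀ v, hermForm n F q v p = hermForm n F q v (u 0) + l ^ q * hermForm n F q v (u 1) +
      hermForm n F q v (u 2) + l ^ q * hermForm n F q v (u 3) := by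
    intro v
    rw [hp_def, hermForm_add_right hF, hermForm_add_right hF, hermForm_add_right hF,
      hermForm_smul_right, hermForm_smul_right]
  have hL : ∀ v, hermForm n F q p v = hermForm n F q (u 0) v + l * hermForm n F q (u 1) v +
      hermForm n F q (u 2) v + l * hermForm n F q (u 3) v := by
    intro v
    rw [hp_def, hermForm_add_left, hermForm_add_left, hermForm_add_left,
      hermForm_smul_left, hermForm_smul_left]
  have hp : hermForm n F q p p = 0 := by
    rw [hL p, hR (u 0), hR (u 1), hR (u 2), hR (u 3), hu1 0, hu1 1, hu1 2, hu1 3,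
      hO 0 1 (by decide), hO 0 2 (by decide), hO 0 3 (by decide),
      hO 1 0 (by decide), hO 1 2 (by decide), hO 1 3 (by decide),
      hO 2 0 (by decide), hO 2 1 (by decide), hO 2 3 (by decide),
      hO 3 0 (by decide), hO 3 1 (by decide), hO 3 2 (by decide)]
    linear_combination 2 * hl
  have hu0p : hermForm n F q (u 0) p = 1 := by
    rw [hR (u 0), hu1 0, hO 0 1 (by decide), hO 0 2 (by decide), hO 0 3 (by decide)]
    ring
  obtain ⟨s, hs0, hs⟩ := exists_tz_ne_zero (F := F) (q := q)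
  obtain ⟨σ, hσ⟩ := hle (toGL_mem (TU q p s))
  have hy : u 0 + s • p ∈ D (σ (ι 0)) := by
    rw [← hσ (ι 0)]
    refine ⟨u 0, huD 0, ?_⟩
    rw [Matrix.toLin'_apply]
    change mt (TU q p s) *ᵥ u 0 = _
    rw [TU_mulVec hp hs, hu0p, mul_one]
  have key : ∀ a : Fin 4, hermForm n F q (u 0 + s • p) (u a) ≠ 0 → ι a = σ (ι 0) := by
    intro a hne
    by_contra hja
    exact hne (hD.orthogonal (σ (ι 0)) (ι a) (Ne.symm hja) _ hy _ (huD a))
  have h1 : ι 1 = σ (ι 0) := by
    apply key
    rw [hermForm_add_left, hermForm_smul_left, hL (u 1), hu1 1, hO 0 1 (by decide),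
      hO 2 1 (by decide), hO 3 1 (by decide)]
    simpa using mul_ne_zero hs0 hl0
  have h2 : ι 2 = σ (ι 0) := by
    apply key
    rw [hermForm_add_left, hermForm_smul_left, hL (u 2), hu1 2, hO 0 2 (by decide),
      hO 1 2 (by decide), hO 3 2 (by decide)]
    simpa using hs0
  exact absurd (hι (h1.trans h2.symm)) (by decide)

end Cfsg.Agent.Helper7.AschU
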