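import Mathlib
import Cfsg.Prelude.Def_GeometricClasses
import Cfsg.Agent.S5653
import Cfsg.Agent.Helper7.AschNotSUA

/-!
# ASCH-PRIME-U piece U7 (part D): preparations for the subfield case: the rank-one parts of the unitary
transvections, conjugated into a subfield group, have their entries in the subfield.
-/

set_option autoImplicit false

namespace Cfsg.Agent.Helper7.AschU

open Cfsg Cfsg.Geo Matrix
open Cfsg.Agent.Helper7.Herm Cfsg.Agent.Helper8.GUOrder Cfsg.Agent.Helper8.SURoot
  Cfsg.Agent.Helper8.AutSU Cfsg.Agent.Helper7.SUSimp Cfsg.Agent.S5653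
open scoped MatrixGroups Matrix

variable {n : ℕ} {F : Type*} [Field F]

/-- the rank-one matrix `a • u (v^q)ᵀ` -/
def RK (q : ℕ) (a : F) (u v : Fin n → F) : Matrix (Fin n) (Fin n) F :=
  a • vecMulVec u (fun j => v j ^ q)

theorem RK_mul (q : ℕ) (a s : F) (u v p p' : Fin n → F) :
    RK q a u v * RK q s p p' = RK q (a * s * hermForm n F q p v) u p' := by
  unfold RK
  rw [smul_mul_assoc, mul_smul_comm, vecMulVec_mul_vecMulVec, vecMulVec_smul, smul_smul, smul_smul]
  congr 1
  rw [dotProduct_comm]
  rfl

theorem trace_RK (q : ℕ) (a : F) (u v : Fin n → F) :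
    (RK q a u v).trace = a * hermForm n F q u v := by
  unfold RK
  rw [trace_smul, trace_vecMulVec, smul_eq_mul]
  rfl

/-- a rank-one perturbation of the identity which is a scalar multiple of a matrix over a subfield, in dimension
at least three and with vanishing trace, has its entries in the subfield -/
theorem entries_mem (hn : 3 ≤ n) (F₁ : Subfield F) (x y : Fin n → F) (hxy : y ⬝ᵥ x = 0)
    (A : Matrix (Fin n) (Fin n) F) (hA : ∀ i j, A i j ∈ F₁) (d : F)
    (h : ∀ i j, (1 : Matrix (Fin n) (Fin n) F) i j + x i * y j = A i j * d) :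
    ∀ i j, x i * y j ∈ F₁ := by
  by_cases hoff : ∃ c b, c ≠ b ∧ x c * y b ≠ 0
  · obtain ⟨c, b, hcb, hne⟩ := hoff
    obtain ⟨a, hab, hac⟩ : ∃ a : Fin n, a ≠ b ∧ a ≠ c := by
      have hlt : ({b, c} : Finset (Fin n)).card < (Finset.univ : Finset (Fin n)).card := by
        rw [Finset.card_univ, Fintype.card_fin]
        exact lt_of_le_of_lt Finset.card_le_two (by omega)
      obtain ⟨a, -, ha⟩ := Finset.exists_mem_notMem_of_card_lt_card hlt
      simp only [Finset.mem_insert, Finset.mem_singleton, not_or] at ha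
      exact ⟨a, ha.1, ha.2⟩
    have e1 := h a b
    have e2 := h c a
    have e3 := h a a
    have e4 := h c b
    rw [Matrix.one_apply_ne hab, zero_add] at e1
    rw [Matrix.one_apply_ne hac.symm, zero_add] at e2
    rw [Matrix.one_apply_eq] at e3
    rw [Matrix.one_apply_ne hcb, zero_add] at e4
    have hd0 : d ≠ 0 := by
      rintro rfl
      rw [mul_zero] at e4
      exact hne e4
    have hA0 : A c b ≠ 0 := by
      intro h0
      rw [h0, zero_mul] at e4
      exact hne e4
    have hkey : d * (A a a * A c b - A a b * A c a) = A c b := by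
      have h5 : (x a * y b) * (x c * y a) = (x a * y a) * (x c * y b) := by ring
      rw [e1, e2, e4, eq_sub_of_add_eq' e3] at h5
      have h6 : d * (d * (A a a * A c b - A a b * A c a) - A c b) = 0 := by
        linear_combination -h5
      rcases mul_eq_zero.mp h6 with h7 | h7
      · exact absurd h7 hd0
      · exact sub_eq_zero.mp h7
    have hD0 : A a a * A c b - A a b * A c a ≠ 0 := by
      intro h0
      rw [h0, mul_zero] at hkey
      exact hA0 hkey.symm
    have hdF : d ∈ F₁ := by
      have : d = A c b * (A a a * A c b - A a b * A c a)⁻¹ :=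
        (eq_mul_inv_iff_mul_eq₀ hD0).mpr hkey
      rw [this]
      exact F₁.mul_mem (hA c b) (F₁.inv_mem
        (F₁.sub_mem (F₁.mul_mem (hA a a) (hA c b)) (F₁.mul_mem (hA a b) (hA c a))))
    intro i j
    have hij := h i j
    have h8 : x i * y j = A i j * d - (1 : Matrix (Fin n) (Fin n) F) i j := by
      rw [← hij]; ring
    rw [h8]
    refine F₁.sub_mem (F₁.mul_mem (hA i j) hdF) ?_
    rw [Matrix.one_apply]
    split_ifs
    · exact F₁.one_mem
    · exact F₁.zero_mem
  · push Not at hoff
    intro i j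
    by_cases hij : i = j
    · subst hij
      by_contra hne
      have hne0 : x i * y i ≠ 0 := by
        intro h0
        rw [h0] at hne
        exact hne F₁.zero_mem
      have hxi : x i ≠ 0 := left_ne_zero_of_mul hne0
      have hy : ∀ j, j ≠ i → y j = 0 := by
        intro j hj
        have := hoff i j (Ne.symm hj)
        rcases mul_eq_zero.mp this with h1 | h1
        · exact absurd h1 hxi
        · exact h1
      unfold dotProduct at hxy
      rw [Finset.sum_eq_single i] at hxy
      · exact hne0 (by rw [mul_comm]; exact hxy)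
      · intro j _ hj
        rw [hy j hj, zero_mul]
      · intro h; exact absurd (Finset.mem_univ i) h
    · rw [hoff i j hij]
      exact F₁.zero_mem

/-- the shape of the elements of a subfield group -/
theorem exists_of_mem_subfieldSubgroup {F₁ : Subfield F} {Pm g : GL (Fin n) F}
    (hg : g ∈ subfieldSubgroup F₁ Pm) :
    ∃ (A : Matrix (Fin n) (Fin n) F) (d : F), (∀ i j, A i j ∈ F₁) ∧
      ∀ i j, (((Pm⁻¹ : GL (Fin n) F) : Matrix (Fin n) (Fin n) F) * (g : Matrix (Fin n) (Fin n) F) *
        (Pm : Matrix (Fin n) (Fin n) F)) i j = A i j * d := by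
  unfold subfieldSubgroup at hg
  rw [Subgroup.mem_map] at hg
  obtain ⟨x, hx, hxe⟩ := hg
  have hxt : x = Pm⁻¹ * g * Pm := by
    simp only [MulEquiv.coe_toMonoidHom, MulAut.conj_apply] at hxe
    rw [← hxe]
    group
  rw [Subgroup.mem_sup_of_normal_right] at hx
  obtain ⟨y, ⟨A, rfl⟩, z, hz, hyz⟩ := hx
  rw [mem_scalars_iff] at hz
  obtain ⟨d, hd⟩ := hz
  refine ⟨fun i j => ((A i j : F₁) : F), (d : F), fun i j => (A i j).2, fun i j => ?_⟩
  have : ((Pm⁻¹ : GL (Fin n) F) : Matrix (Fin n) (Fin n) F) * (g : Matrix (Fin n) (Fin n) F) *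
      (Pm : Matrix (Fin n) (Fin n) F) = ((Pm⁻¹ * g * Pm : GL (Fin n) F) : Matrix (Fin n) (Fin n) F) := by
    rw [Matrix.GeneralLinearGroup.coe_mul, Matrix.GeneralLinearGroup.coe_mul]
  rw [this, ← hxt, ← hyz, Matrix.GeneralLinearGroup.coe_mul, hd, Matrix.mul_smul, mul_one,
    Matrix.smul_apply, Matrix.GeneralLinearGroup.map_apply, smul_eq_mul, mul_comm]
  rfl

end Cfsg.Agent.Helper7.AschU
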