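import Mathlib
import Cfsg.Prelude.Def_GeometricClasses
import Cfsg.Agent.S5653
import Cfsg.Agent.Helper7.AschNotSUD

/-!
# ASCH-PRIME-U piece U7 (part E): `SU_n(q)`, `n ≥ 3`, is not contained in a subfield group.
-/

set_option autoImplicit false

namespace Cfsg.Agent.Helper7.AschU

open Cfsg Cfsg.Geo Matrix
open Cfsg.Agent.Helper7.Herm Cfsg.Agent.Helper8.GUOrder Cfsg.Agent.Helper8.SURoot
  Cfsg.Agent.Helper8.AutSU Cfsg.Agent.Helper7.SUSimp Cfsg.Agent.S5653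
open scoped MatrixGroups Matrix

variable {n : ℕ} {F : Type*} [Field F]

/-- matrices with entries in a subfield -/
def IsOver (F₁ : Subfield F) (M : Matrix (Fin n) (Fin n) F) : Prop := ∀ i j, M i j ∈ F₁

theorem IsOver.mul {F₁ : Subfield F} {M N : Matrix (Fin n) (Fin n) F} (hM : IsOver F₁ M)
    (hN : IsOver F₁ N) : IsOver F₁ (M * N) := by
  intro i j
  rw [Matrix.mul_apply]
  exact F₁.sum_mem fun k _ => F₁.mul_mem (hM i k) (hN k j)

theorem IsOver.trace {F₁ : Subfield F} {M : Matrix (Fin n) (Fin n) F} (hM : IsOver F₁ M) :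
    M.trace ∈ F₁ := by
  unfold Matrix.trace
  exact F₁.sum_mem fun i _ => hM i i

theorem conj_mul_conj (P : GL (Fin n) F) (X Y : Matrix (Fin n) (Fin n) F) :
    ((P⁻¹ : GL (Fin n) F) : Matrix (Fin n) (Fin n) F) * X * (P : Matrix (Fin n) (Fin n) F) *
      (((P⁻¹ : GL (Fin n) F) : Matrix (Fin n) (Fin n) F) * Y * (P : Matrix (Fin n) (Fin n) F)) =
    ((P⁻¹ : GL (Fin n) F) : Matrix (Fin n) (Fin n) F) * (X * Y) * (P : Matrix (Fin n) (Fin n) F) := by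
  have h := FEx.val_mul_inv P
  calc _ = ((P⁻¹ : GL (Fin n) F) : Matrix (Fin n) (Fin n) F) * X *
        ((P : Matrix (Fin n) (Fin n) F) * ((P⁻¹ : GL (Fin n) F) : Matrix (Fin n) (Fin n) F)) * Y *
          (P : Matrix (Fin n) (Fin n) F) := by simp only [Matrix.mul_assoc]
    _ = _ := by rw [h, Matrix.mul_one]; simp only [Matrix.mul_assoc]

theorem trace_conj (P : GL (Fin n) F) (X : Matrix (Fin n) (Fin n) F) :
    (((P⁻¹ : GL (Fin n) F) : Matrix (Fin n) (Fin n) F) * X * (P : Matrix (Fin n) (Fin n) F)).trace =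
      X.trace := by
  rw [Matrix.trace_mul_cycle, FEx.val_mul_inv, Matrix.one_mul]

omit [Field F] in
theorem pair_apply_other [Zero F] [Add F] {i j k : Fin n} (hik : i ≠ k) (hjk : j ≠ k) (a b : F)
    (h00 : (0 : F) + 0 = 0) :
    (Pi.single i a + Pi.single j b : Fin n → F) k = 0 := by
  rw [Pi.add_apply, Pi.single_eq_of_ne hik.symm, Pi.single_eq_of_ne hjk.symm, h00]

variable [Fintype F]

theorem conj_RK_isOver (q : ℕ) [Fact (Fintype.card F = q ^ 2)] (hn : 3 ≤ n) (F₁ : Subfield F)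
    (Pm : GL (Fin n) F)
    (hle : GU n F q ⊓ specialLinear (Fin n) F ≤ subfieldSubgroup F₁ Pm)
    {p : Fin n → F} (hp : hermForm n F q p p = 0) {s : F} (hs : s ^ q + s = 0) :
    IsOver F₁ (((Pm⁻¹ : GL (Fin n) F) : Matrix (Fin n) (Fin n) F) * RK q s p p *
      (Pm : Matrix (Fin n) (Fin n) F)) := by
  obtain ⟨A, d, hA, hAd⟩ := exists_of_mem_subfieldSubgroup (hle (toGL_mem (TU q p s)))
  have hg : ((toGL n F q (TU q p s) : GL (Fin n) F) : Matrix (Fin n) (Fin n) F) =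
      1 + RK q s p p := by
    change (mt (TU q p s) : Matrix (Fin n) (Fin n) F) = _
    rw [mt_TU hp hs]
    rfl
  have hconj : ((Pm⁻¹ : GL (Fin n) F) : Matrix (Fin n) (Fin n) F) * RK q s p p *
      (Pm : Matrix (Fin n) (Fin n) F) =
      vecMulVec (((Pm⁻¹ : GL (Fin n) F) : Matrix (Fin n) (Fin n) F) *ᵥ (s • p))
        ((fun j => p j ^ q) ᵥ* (Pm : Matrix (Fin n) (Fin n) F)) := by
    unfold RK
    rw [← smul_vecMulVec, mul_vecMulVec, vecMulVec_mul]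
  have hxy : ((fun j => p j ^ q) ᵥ* (Pm : Matrix (Fin n) (Fin n) F)) ⬝ᵥ
      (((Pm⁻¹ : GL (Fin n) F) : Matrix (Fin n) (Fin n) F) *ᵥ (s • p)) = 0 := by
    rw [← dotProduct_mulVec, mulVec_mulVec, FEx.val_mul_inv, one_mulVec, dotProduct_smul, smul_eq_mul]
    have : (fun j => p j ^ q) ⬝ᵥ p = hermForm n F q p p := by rw [dotProduct_comm]; rfl
    rw [this, hp, mul_zero]
  rw [hconj]
  intro i j
  rw [vecMulVec_apply]
  refine entries_mem hn F₁ _ _ hxy A hA d (fun i j => ?_) i j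
  rw [← hAd i j, hg, mul_add, add_mul, mul_one, FEx.val_inv_mul, hconj, Matrix.add_apply,
    vecMulVec_apply]

theorem trace2_mem (q : ℕ) [Fact (Fintype.card F = q ^ 2)] (hn : 3 ≤ n) (F₁ : Subfield F)
    (Pm : GL (Fin n) F)
    (hle : GU n F q ⊓ specialLinear (Fin n) F ≤ subfieldSubgroup F₁ Pm)
    {p₁ p₂ : Fin n → F} {s₁ s₂ : F} (hp₁ : hermForm n F q p₁ p₁ = 0) (hs₁ : s₁ ^ q + s₁ = 0)
    (hp₂ : hermForm n F q p₂ p₂ = 0) (hs₂ : s₂ ^ q + s₂ = 0) :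
    s₁ * s₂ * hermForm n F q p₂ p₁ * hermForm n F q p₁ p₂ ∈ F₁ := by
  have h := ((conj_RK_isOver q hn F₁ Pm hle hp₁ hs₁).mul
    (conj_RK_isOver q hn F₁ Pm hle hp₂ hs₂)).trace
  rwa [conj_mul_conj, trace_conj, RK_mul, trace_RK] at h

theorem trace3_mem (q : ℕ) [Fact (Fintype.card F = q ^ 2)] (hn : 3 ≤ n) (F₁ : Subfield F)
    (Pm : GL (Fin n) F)
    (hle : GU n F q ⊓ specialLinear (Fin n) F ≤ subfieldSubgroup F₁ Pm)
    {p₁ p₂ p₃ : Fin n → F} {s₁ s₂ s₃ : F} (hp₁ : hermForm n F q p₁ p₁ = 0) (hs₁ : s₁ ^ q + s₁ = 0)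
    (hp₂ : hermForm n F q p₂ p₂ = 0) (hs₂ : s₂ ^ q + s₂ = 0)
    (hp₃ : hermForm n F q p₃ p₃ = 0) (hs₃ : s₃ ^ q + s₃ = 0) :
    s₁ * s₂ * hermForm n F q p₂ p₁ * s₃ * hermForm n F q p₃ p₂ * hermForm n F q p₁ p₃ ∈ F₁ := by
  have h := (((conj_RK_isOver q hn F₁ Pm hle hp₁ hs₁).mul
    (conj_RK_isOver q hn F₁ Pm hle hp₂ hs₂)).mul (conj_RK_isOver q hn F₁ Pm hle hp₃ hs₃)).trace
  rwa [conj_mul_conj, conj_mul_conj, trace_conj, RK_mul, RK_mul, trace_RK] at h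

end Cfsg.Agent.Helper7.AschU
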