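import Mathlib
import Cfsg.Prelude.Def_GeometricClasses
import Cfsg.Agent.S5653
import Cfsg.Agent.Helper7.AschNotSUE

/-!
# ASCH-PRIME-U piece U7 (part F): `SU_n(q)`, `n ≥ 3`, is not contained in a subfield group.
-/

set_option autoImplicit false

namespace Cfsg.Agent.Helper7.AschU

open Cfsg Cfsg.Geo Matrix
open Cfsg.Agent.Helper7.Herm Cfsg.Agent.Helper8.GUOrder Cfsg.Agent.Helper8.SURoot
  Cfsg.Agent.Helper8.AutSU Cfsg.Agent.Helper7.SUSimp Cfsg.Agent.S5653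
open scoped MatrixGroups Matrix

variable {n : ℕ} {F : Type*} [Field F] [Fintype F]

theorem not_le_subfieldSubgroup_SU (q : ℕ) (hF : Fintype.card F = q ^ 2) (hn : 3 ≤ n)
    (F₁ : Subfield F) (h1 : F₁ ≠ ⊤) (Pm : GL (Fin n) F) :
    ¬ GU n F q ⊓ specialLinear (Fin n) F ≤ subfieldSubgroup F₁ Pm := by
  intro hle
  have : Fact (Fintype.card F = q ^ 2) := ⟨hF⟩
  have hq1 : 1 ≤ q := one_le_q hF
  set i₀ : Fin n := ⟨0, by omega⟩ with hi₀
  set i₁ : Fin n := ⟨1, by omega⟩ with hi₁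
  set i₂ : Fin n := ⟨2, by omega⟩ with hi₂
  have h01 : i₀ ≠ i₁ := by
    intro h; have := congrArg Fin.val h; simp [hi₀, hi₁] at this
  have h02 : i₀ ≠ i₂ := by
    intro h; have := congrArg Fin.val h; simp [hi₀, hi₂] at this
  have h12 : i₁ ≠ i₂ := by
    intro h; have := congrArg Fin.val h; simp [hi₁, hi₂] at this
  obtain ⟨l, hl⟩ := exists_lam hF
  obtain ⟨ζ, hζ, hζ1⟩ := exists_zeta hF
  obtain ⟨ε, hε0, hε⟩ := exists_tz_ne_zero (F := F) (q := q)
  obtain ⟨b, hb⟩ := exists_trace (F := F) (q := q) (c := -1) (neg_one_pow_q hF)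
  have hεq : ε ^ q = -ε := eq_neg_of_add_eq_zero_left hε
  obtain ⟨p, hp_def⟩ : ∃ p : Fin n → F, p = Pi.single i₀ 1 + Pi.single i₁ l := ⟨_, rfl⟩
  obtain ⟨p', hp'_def⟩ : ∃ p' : Fin n → F, p' = Pi.single i₀ 1 + Pi.single i₁ (l * ζ) := ⟨_, rfl⟩
  obtain ⟨e₂, he₂_def⟩ : ∃ e₂ : Fin n → F, e₂ = Pi.single i₂ 1 := ⟨_, rfl⟩
  obtain ⟨ν, hν_def⟩ : ∃ ν : F, ν = 1 - ζ ^ q := ⟨_, rfl⟩
  have hp : hermForm n F q p p = 0 := by
    rw [hp_def, hermForm_pair_pair h01, one_pow, mul_one, hl, add_neg_cancel]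
  have hp' : hermForm n F q p' p' = 0 := by
    rw [hp'_def, hermForm_pair_pair h01, one_pow, mul_one, mul_pow]
    linear_combination (ζ * ζ ^ q) * hl - hζ
  have hpp' : hermForm n F q p p' = ν := by
    rw [hp_def, hp'_def, hermForm_pair_pair h01, one_pow, mul_one, mul_pow, hν_def]
    linear_combination (ζ ^ q) * hl
  have hp'p : hermForm n F q p' p = ν ^ q := by
    rw [hermForm_swap hF, hpp']
  have hν0 : ν ≠ 0 := by
    intro h0
    rw [hν_def, sub_eq_zero] at h0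
    apply hζ1
    rw [← pow_q_pow_q hF ζ, ← h0, one_pow]
  have hνq0 : ν ^ q ≠ 0 := pow_ne_zero q hν0
  -- the third vector
  have hpe : hermForm n F q p e₂ = 0 := by
    rw [he₂_def, hermForm_single_right hq1, hp_def, pair_apply_other h02 h12 _ _ (add_zero 0), zero_mul]
  have hp'e : hermForm n F q p' e₂ = 0 := by
    rw [he₂_def, hermForm_single_right hq1, hp'_def, pair_apply_other h02 h12 _ _ (add_zero 0),
      zero_mul]
  have hep : hermForm n F q e₂ p = 0 := by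
    rw [he₂_def, hermForm_single_left, hp_def, pair_apply_other h02 h12 _ _ (add_zero 0),
      zero_pow (by omega), mul_zero]
  have hep' : hermForm n F q e₂ p' = 0 := by
    rw [he₂_def, hermForm_single_left, hp'_def, pair_apply_other h02 h12 _ _ (add_zero 0),
      zero_pow (by omega), mul_zero]
  have hee : hermForm n F q e₂ e₂ = 1 := by
    rw [he₂_def, hermForm_single_left, Pi.single_eq_same, one_pow, mul_one]
  obtain ⟨β, hβ_def⟩ : ∃ β : F, β = b * ν⁻¹ := ⟨_, rfl⟩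
  have hβν : β * ν = b := by rw [hβ_def, mul_assoc, inv_mul_cancel₀ hν0, mul_one]
  obtain ⟨p₃, hp₃_def⟩ : ∃ p₃ : Fin n → F, p₃ = β • p + p' + e₂ := ⟨_, rfl⟩
  have hR3 : ∀ v, hermForm n F q v p₃ = β ^ q * hermForm n F q v p + hermForm n F q v p' +
      hermForm n F q v e₂ := by
    intro v
    rw [hp₃_def, hermForm_add_right hF, hermForm_add_right hF, hermForm_smul_right]
  have hL3 : ∀ v, hermForm n F q p₃ v = β * hermForm n F q p v + hermForm n F q p' v +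
      hermForm n F q e₂ v := by
    intro v
    rw [hp₃_def, hermForm_add_left, hermForm_add_left, hermForm_smul_left]
  have hpp₃ : hermForm n F q p p₃ = ν := by
    rw [hR3, hp, hpp', hpe]; ring
  have hp'p₃ : hermForm n F q p' p₃ = b ^ q := by
    rw [hR3, hp'p, hp', hp'e, ← hβν, mul_pow]; ring
  have hep₃ : hermForm n F q e₂ p₃ = 1 := by
    rw [hR3, hep, hep', hee]; ring
  have hp₃ : hermForm n F q p₃ p₃ = 0 := by
    rw [hL3, hpp₃, hp'p₃, hep₃, hβν]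
    linear_combination hb
  have hp₃p' : hermForm n F q p₃ p' = b := by
    rw [hL3, hpp', hp', hep', hβν]; ring
  -- the fixed field lies in `F₁`
  obtain ⟨κ, hκ_def⟩ : ∃ κ : F, κ = ε * ε * (ν ^ q * ν) := ⟨_, rfl⟩
  have hκ0 : κ ≠ 0 := by
    rw [hκ_def]
    exact mul_ne_zero (mul_ne_zero hε0 hε0) (mul_ne_zero hνq0 hν0)
  have hκq : κ ^ q = κ := by
    rw [hκ_def, mul_pow, mul_pow, mul_pow, hεq, pow_q_pow_q hF]; ring
  have hfix : ∀ x : F, x ^ q = x → x ∈ F₁ := by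
    intro x hx
    have hc : (x * κ⁻¹) ^ q = x * κ⁻¹ := by rw [mul_pow, inv_pow, hx, hκq]
    have hmem := trace2_mem q hn F₁ Pm hle hp hε hp' (tz_mul_fixed hε hc)
    rw [hp'p, hpp'] at hmem
    have e : ε * (ε * (x * κ⁻¹)) * ν ^ q * ν = x := by
      calc ε * (ε * (x * κ⁻¹)) * ν ^ q * ν = x * (κ⁻¹ * (ε * ε * (ν ^ q * ν))) := by ring
        _ = x := by rw [← hκ_def, inv_mul_cancel₀ hκ0, mul_one]
    rwa [e] at hmem
  -- an element of `F₁` outside the fixed field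
  obtain ⟨θ, hθ_def⟩ : ∃ θ : F, θ = ε * b := ⟨_, rfl⟩
  have hθ : θ ∈ F₁ := by
    have hmem := trace3_mem q hn F₁ Pm hle hp hε hp' hε hp₃ hε
    rw [hp'p, hp₃p', hpp₃] at hmem
    have e : θ = (ε * ε * ν ^ q * ε * b * ν) * κ⁻¹ := by
      calc θ = θ * (κ * κ⁻¹) := by rw [mul_inv_cancel₀ hκ0, mul_one]
        _ = _ := by rw [hθ_def, hκ_def]; ring
    rw [e]
    exact F₁.mul_mem hmem (F₁.inv_mem (hfix κ hκq))
  have hθq : θ ^ q = ε + θ := by
    have hbq : b ^ q = -1 - b := by linear_combination hb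
    rw [hθ_def, mul_pow, hεq, hbq]; ring
  apply h1
  rw [eq_top_iff]
  intro x _
  obtain ⟨c₂, hc₂_def⟩ : ∃ c₂ : F, c₂ = (x ^ q - x) * ε⁻¹ := ⟨_, rfl⟩
  have hεc₂ : ε * c₂ = x ^ q - x := by
    rw [hc₂_def, mul_comm, mul_assoc, inv_mul_cancel₀ hε0, mul_one]
  have hc₂ : c₂ ^ q = c₂ := by
    rw [hc₂_def, mul_pow, sub_pow_q hF, pow_q_pow_q hF, inv_pow, hεq, inv_neg]; ring
  have hc₁ : (x - θ * c₂) ^ q = x - θ * c₂ := by
    rw [sub_pow_q hF, mul_pow, hθq, hc₂]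
    linear_combination -hεc₂
  have hx : x = (x - θ * c₂) + θ * c₂ := by ring
  rw [hx]
  exact F₁.add_mem (hfix _ hc₁) (F₁.mul_mem hθ (hfix _ hc₂))

end Cfsg.Agent.Helper7.AschU
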