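import Mathlib
import Cfsg.Prelude.Def_GeometricClasses

/-!
# Block-monomial subgroups of `GL ι F` (standard form of decomposition stabilisers)
-/

set_option autoImplicit false

namespace Cfsg.Agent.Helper7.Dcp

open Matrix

variable {ι : Type} [Fintype ι] [DecidableEq ι] {F : Type*} [Field F]

/-- The block-monomial subgroup for the block function `β : ι → τ`: invertible matrices `g` for which there
is a permutation `σ` of the blocks such that every nonzero entry `g k l` has `β k = σ (β l)` (and the same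
for `g⁻¹` with `σ⁻¹`). -/
def blockMono {τ : Type} (β : ι → τ) : Subgroup (GL ι F) where
  carrier := {g | ∃ σ : Equiv.Perm τ,
    (∀ k l, (g : Matrix ι ι F) k l ≠ 0 → β k = σ (β l)) ∧
    (∀ k l, ((g⁻¹ : GL ι F) : Matrix ι ι F) k l ≠ 0 → β k = σ.symm (β l))}
  mul_mem' := by
    rintro a b ⟨σ, hσ, hσ'⟩ ⟨ρ, hρ, hρ'⟩
    refine ⟨ρ.trans σ, ?_, ?_⟩
    · intro k l h
      rw [Units.val_mul, Matrix.mul_apply] at h
      obtain ⟨x, -, hx⟩ := Finset.exists_ne_zero_of_sum_ne_zero h
      have h1 : (a : Matrix ι ι F) k x ≠ 0 := left_ne_zero_of_mul hx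
      have h2 : (b : Matrix ι ι F) x l ≠ 0 := right_ne_zero_of_mul hx
      rw [hσ k x h1, hρ x l h2]; rfl
    · intro k l h
      rw [_root_.mul_inv_rev, Units.val_mul, Matrix.mul_apply] at h
      obtain ⟨x, -, hx⟩ := Finset.exists_ne_zero_of_sum_ne_zero h
      have h1 : ((b⁻¹ : GL ι F) : Matrix ι ι F) k x ≠ 0 := left_ne_zero_of_mul hx
      have h2 : ((a⁻¹ : GL ι F) : Matrix ι ι F) x l ≠ 0 := right_ne_zero_of_mul hx
      rw [hρ' k x h1, hσ' x l h2]; rfl
  one_mem' := by
    refine ⟨1, ?_, ?_⟩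
    · intro k l h
      rw [Units.val_one, Matrix.one_apply] at h
      have : k = l := by by_contra hne; exact h (if_neg hne)
      rw [this]; rfl
    · intro k l h
      rw [inv_one, Units.val_one, Matrix.one_apply] at h
      have : k = l := by by_contra hne; exact h (if_neg hne)
      rw [this]; rfl
  inv_mem' := by
    rintro a ⟨σ, hσ, hσ'⟩
    refine ⟨σ.symm, hσ', ?_⟩
    intro k l h
    rw [inv_inv] at h
    rw [Equiv.symm_symm]
    exact hσ k l h

theorem mem_blockMono {τ : Type} (β : ι → τ) (g : GL ι F) :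
    g ∈ blockMono β ↔ ∃ σ : Equiv.Perm τ,
      (∀ k l, (g : Matrix ι ι F) k l ≠ 0 → β k = σ (β l)) ∧
      (∀ k l, ((g⁻¹ : GL ι F) : Matrix ι ι F) k l ≠ 0 → β k = σ.symm (β l)) := Iff.rfl

/-- The full monomial subgroup of `GL ι F`. -/
def monomialGL (ι : Type) [Fintype ι] [DecidableEq ι] (F : Type*) [Field F] : Subgroup (GL ι F) :=
  blockMono (id : ι → ι)

end Cfsg.Agent.Helper7.Dcp
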