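import Mathlib
import Cfsg.Prelude.Def_GeometricClasses
import Cfsg.Agent.Helper7.TransvectionGL
import Cfsg.Agent.Helper7.Transvections

set_option autoImplicit false

/-!
Maximality of subspace stabilisers in `SL` and `GL`: a subgroup containing the determinant-one part of the
stabiliser of `W` and an element not stabilising `W` contains `SL`.
-/

namespace Cfsg.Agent.Helper7.PMax

open Matrix Cfsg Cfsg.Agent.Helper7.TGL

variable {ι : Type} [Fintype ι] [DecidableEq ι] {F : Type*} [Field F]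

/-- For a finite set, mapping into the set under an injective linear map means stabilising. -/
theorem stab_of_mapsTo [Finite F] (M N : Matrix ι ι F)
    (hNM : N * M = 1) (S : Set (ι → F)) (h : ∀ v ∈ S, M *ᵥ v ∈ S) (v : ι → F) :
    v ∈ S ↔ M *ᵥ v ∈ S := by
  refine ⟨h v, fun hv => ?_⟩
  have hinj : Function.Injective (fun w : S => (⟨M *ᵥ w.1, h w.1 w.2⟩ : S)) := by
    intro w w' hww
    have h1 : M *ᵥ w.1 = M *ᵥ w'.1 := congrArg Subtype.val hww
    have h2 := congrArg (fun z => N *ᵥ z) h1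
    simp only [mulVec_mulVec, hNM, one_mulVec] at h2
    exact Subtype.ext h2
  obtain ⟨w, hw⟩ := Finite.surjective_of_injective hinj ⟨M *ᵥ v, hv⟩
  have h1 : M *ᵥ w.1 = M *ᵥ v := congrArg Subtype.val hw
  have h2 := congrArg (fun z => N *ᵥ z) h1
  simp only [mulVec_mulVec, hNM, one_mulVec] at h2
  rw [← h2]
  exact w.2

/-- An element outside the stabiliser moves some vector of `W` out of `W`. -/
theorem exists_not_mem [Finite F] (W : Submodule F (ι → F)) {g : GL ι F}
    (hg : g ∉ Geo.subspaceStabilizer W) : ∃ w ∈ W, (g : Matrix ι ι F) *ᵥ w ∉ W := by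
  by_contra hcon
  push Not at hcon
  apply hg
  rw [mem_subspaceStabilizer_iff]
  intro x
  exact stab_of_mapsTo (g : Matrix ι ι F) ((g⁻¹ : GL ι F) : Matrix ι ι F)
    (by rw [← Units.val_mul, inv_mul_cancel, Units.val_one]) (W : Set (ι → F)) hcon x

/-- Transvections with direction in `W` stabilise `W`. -/
theorem tau_mem_of_mem (v φ : ι → F) (h : φ ⬝ᵥ v = 0) (W : Submodule F (ι → F)) (hv : v ∈ W) :
    tau v φ h ∈ Geo.subspaceStabilizer W := by
  rw [mem_subspaceStabilizer_iff]
  intro x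
  rw [tau_mulVec]
  constructor
  · intro hx
    exact W.add_mem hx (W.smul_mem _ hv)
  · intro hx
    have := W.sub_mem hx (W.smul_mem (φ ⬝ᵥ x) hv)
    rwa [add_sub_cancel_right] at this

/-- Conjugating a transvection. -/
theorem tau_conj (M : GL ι F) (a φ : ι → F) (h0 : φ ⬝ᵥ ((M : Matrix ι ι F) *ᵥ a) = 0)
    (h1 : (φ ᵥ* (M : Matrix ι ι F)) ⬝ᵥ a = 0) :
    tau ((M : Matrix ι ι F) *ᵥ a) φ h0 = M * tau a (φ ᵥ* (M : Matrix ι ι F)) h1 * M⁻¹ := by
  apply Units.ext
  change 1 + vecMulVec ((M : Matrix ι ι F) *ᵥ a) φ =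
    (M : Matrix ι ι F) * (1 + vecMulVec a (φ ᵥ* (M : Matrix ι ι F))) *
      ((M⁻¹ : GL ι F) : Matrix ι ι F)
  rw [Matrix.mul_add, Matrix.add_mul, Matrix.mul_one, Matrix.mul_vecMulVec, Matrix.vecMulVec_mul,
    Matrix.vecMul_vecMul]
  have e1 : (M : Matrix ι ι F) * ((M⁻¹ : GL ι F) : Matrix ι ι F) = 1 := by
    rw [← Units.val_mul, mul_inv_cancel, Units.val_one]
  rw [e1, Matrix.vecMul_one]

theorem dot_vecMul (φ a : ι → F) (M : Matrix ι ι F) : (φ ᵥ* M) ⬝ᵥ a = φ ⬝ᵥ (M *ᵥ a) :=
  (dotProduct_mulVec φ M a).symm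

/-- The key step: if `X` contains the determinant-one stabiliser of `W` and an element `g` moving
`w₀ ∈ W` outside `W`, then `X` contains every transvection. -/
theorem tau_mem_of_not_stab (W : Submodule F (ι → F)) (X : Subgroup (GL ι F))
    (hX : Geo.subspaceStabilizer W ⊓ Geo.specialLinear ι F ≤ X) {g : GL ι F} (hg : g ∈ X)
    {w₀ : ι → F} (hw₀ : w₀ ∈ W) (hgw : (g : Matrix ι ι F) *ᵥ w₀ ∉ W)
    (v φ : ι → F) (h : φ ⬝ᵥ v = 0) : tau v φ h ∈ X := by
  by_cases hv : v ∈ W
  · exact hX ⟨tau_mem_of_mem v φ h W hv, tau_mem_specialLinear v φ h⟩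
  -- transvections with direction `g w`, `w ∈ W`, lie in `X`
  have step1 : ∀ (w : ι → F) (hw : w ∈ W) (ψ : ι → F) (hψ : ψ ⬝ᵥ ((g : Matrix ι ι F) *ᵥ w) = 0),
      tau ((g : Matrix ι ι F) *ᵥ w) ψ hψ ∈ X := by
    intro w hw ψ hψ
    rw [tau_conj g w ψ hψ (by rw [dot_vecMul]; exact hψ)]
    refine X.mul_mem (X.mul_mem hg (hX ⟨tau_mem_of_mem _ _ _ W hw, tau_mem_specialLinear _ _ _⟩))
      (X.inv_mem hg)
  -- it suffices to find `u' = g w'` and `k ∈ X` with `k u' = v`
  suffices hex : ∃ (w' : ι → F) (k : GL ι F), w' ∈ W ∧ k ∈ X ∧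
      (k : Matrix ι ι F) *ᵥ ((g : Matrix ι ι F) *ᵥ w') = v by
    obtain ⟨w', k, hw', hk, hkv⟩ := hex
    have h0 : φ ⬝ᵥ ((k : Matrix ι ι F) *ᵥ ((g : Matrix ι ι F) *ᵥ w')) = 0 := by rw [hkv]; exact h
    have e : tau v φ h = tau ((k : Matrix ι ι F) *ᵥ ((g : Matrix ι ι F) *ᵥ w')) φ h0 := by
      apply Units.ext
      change 1 + vecMulVec v φ = 1 + vecMulVec ((k : Matrix ι ι F) *ᵥ ((g : Matrix ι ι F) *ᵥ w')) φ
      rw [hkv]
    rw [e, tau_conj k _ φ h0 (by rw [dot_vecMul]; exact h0)]
    exact X.mul_mem (X.mul_mem hk (step1 w' hw' _ _)) (X.inv_mem hk)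
  set u₀ := (g : Matrix ι ι F) *ᵥ w₀ with hu₀
  by_cases hcase : u₀ ∈ W ⊔ Submodule.span F {v - u₀}
  · -- proportional case
    obtain ⟨s, hs, t, ht, hst⟩ := Submodule.mem_sup.mp hcase
    obtain ⟨c, rfl⟩ := Submodule.mem_span_singleton.mp ht
    have hc0 : c ≠ 0 := by
      intro hc
      rw [hc, zero_smul, add_zero] at hst
      rw [← hst] at hgw
      exact hgw hs
    have hc1 : 1 + c ≠ 0 := by
      intro hc
      have hcv : c • v = -s := by
        have : (1 + c) • u₀ = s + c • v := by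
          rw [add_smul, one_smul]
          nth_rw 1 [← hst]
          rw [smul_sub]
          abel
        rw [hc, zero_smul] at this
        rw [eq_neg_iff_add_eq_zero, add_comm]
        exact this.symm
      apply hv
      have : v = c⁻¹ • (-s) := by rw [← hcv, smul_smul, inv_mul_cancel₀ hc0, one_smul]
      rw [this]
      exact W.smul_mem _ (W.neg_mem hs)
    set d := (1 + c) / c with hd
    have hd0 : d ≠ 0 := div_ne_zero hc1 hc0
    have hvu : v - d • u₀ = (-c⁻¹) • s := by
      have h1 : (1 + c) • u₀ = s + c • v := by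
        rw [add_smul, one_smul]
        nth_rw 1 [← hst]
        rw [smul_sub]
        abel
      have h2 : d • u₀ = c⁻¹ • ((1 + c) • u₀) := by
        rw [smul_smul, hd, div_eq_inv_mul]
      rw [h2, h1, smul_add, smul_smul, inv_mul_cancel₀ hc0, one_smul, neg_smul]
      abel
    have hdu : d • u₀ ∉ W := by
      intro hmem
      have := W.smul_mem d⁻¹ hmem
      rw [smul_smul, inv_mul_cancel₀ hd0, one_smul] at this
      exact hgw this
    obtain ⟨α, hαW, hαu⟩ := exists_covector W hdu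
    have hα0 : α ⬝ᵥ (v - d • u₀) = 0 := by
      rw [hvu]
      exact hαW _ (W.smul_mem _ hs)
    refine ⟨d • w₀, tau (v - d • u₀) α hα0, W.smul_mem _ hw₀, ?_, ?_⟩
    · exact hX ⟨tau_mem_subspaceStabilizer _ _ _ W hαW, tau_mem_specialLinear _ _ _⟩
    · rw [mulVec_smul, ← hu₀, tau_mulVec, hαu, one_smul]
      abel
  · -- independent case
    obtain ⟨α, hαW, hαu⟩ := exists_covector _ hcase
    have hα0 : α ⬝ᵥ (v - u₀) = 0 :=
      hαW _ (Submodule.mem_sup_right (Submodule.mem_span_singleton_self _))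
    refine ⟨w₀, tau (v - u₀) α hα0, hw₀, ?_, ?_⟩
    · exact hX ⟨tau_mem_subspaceStabilizer _ _ _ W
        (fun w hw => hαW w (Submodule.mem_sup_left hw)), tau_mem_specialLinear _ _ _⟩
    · rw [← hu₀, tau_mulVec, hαu, one_smul]
      abel

/-- A subgroup containing all transvections contains the special linear group. -/
theorem specialLinear_le_of_tau_mem [Nontrivial ι] (X : Subgroup (GL ι F))
    (hX : ∀ (v φ : ι → F) (h : φ ⬝ᵥ v = 0), tau v φ h ∈ X) : Geo.specialLinear ι F ≤ X := by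
  intro g hg
  have hdet : (g : Matrix ι ι F).det = 1 := by
    have := (MonoidHom.mem_ker).mp hg
    exact congrArg Units.val this
  have hg' : g = Matrix.SpecialLinearGroup.toGL ⟨(g : Matrix ι ι F), hdet⟩ := by
    apply Units.ext
    rfl
  rw [hg']
  refine Cfsg.Agent.Helper7.Transv.transvection_induction
    (fun M => Matrix.SpecialLinearGroup.toGL M ∈ X) ?_ ?_ _
  · intro i j hij a
    have h0 : (Pi.single j (1 : F) : ι → F) ⬝ᵥ (Pi.single i a : ι → F) = 0 := by
      rw [single_dotProduct, one_mul, Pi.single_apply, if_neg (Ne.symm hij)]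
    have : Matrix.SpecialLinearGroup.toGL (SpecialLinearGroup.transvection hij a) =
        tau (Pi.single i a) (Pi.single j (1 : F)) h0 := by
      apply Units.ext
      change (1 : Matrix ι ι F) + single i j a = 1 + vecMulVec (Pi.single i a) (Pi.single j (1 : F))
      congr 1
      ext x y
      simp only [single, of_apply, vecMulVec_apply, Pi.single_apply]
      by_cases hx : x = i <;> by_cases hy : y = j
      · subst hx hy; simp
      · have hy' : ¬ j = y := fun h => hy h.symm
        subst hx; simp [hy, hy']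
      · have hx' : ¬ i = x := fun h => hx h.symm
        subst hy; simp [hx, hx']
      · have hx' : ¬ i = x := fun h => hx h.symm
        simp [hx, hx']
    rw [this]
    exact hX _ _ _
  · intro A B hA hB
    rw [map_mul]
    exact X.mul_mem hA hB

/-- Main lemma: a subgroup containing the determinant-one stabiliser of `W` and an element not stabilising
`W` contains the special linear group. -/
theorem specialLinear_le [Finite F] (W : Submodule F (ι → F)) (X : Subgroup (GL ι F))
    (hX : Geo.subspaceStabilizer W ⊓ Geo.specialLinear ι F ≤ X) {g : GL ι F} (hg : g ∈ X)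
    (hgW : g ∉ Geo.subspaceStabilizer W) : Geo.specialLinear ι F ≤ X := by
  obtain ⟨w₀, hw₀, hgw⟩ := exists_not_mem W hgW
  have hnt : Nontrivial ι := by
    by_contra hnt
    rw [not_nontrivial_iff_subsingleton] at hnt
    have hw0 : w₀ ≠ 0 := by
      intro h0
      rw [h0, mulVec_zero] at hgw
      exact hgw W.zero_mem
    obtain ⟨i₀, hi₀⟩ : ∃ i₀, w₀ i₀ ≠ 0 := by
      by_contra hcon
      push Not at hcon
      exact hw0 (funext hcon)
    apply hgw
    have : (g : Matrix ι ι F) *ᵥ w₀ = (((g : Matrix ι ι F) *ᵥ w₀) i₀ / w₀ i₀) • w₀ := by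
      ext i
      have : i = i₀ := Subsingleton.elim _ _
      subst this
      rw [Pi.smul_apply, smul_eq_mul, div_mul_cancel₀ _ hi₀]
    rw [this]
    exact W.smul_mem _ hw₀
  exact specialLinear_le_of_tau_mem X (tau_mem_of_not_stab W X hX hg hw₀ hgw)

end Cfsg.Agent.Helper7.PMax
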