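import Mathlib
import Cfsg.Prelude.Def_GeometricClasses
import Cfsg.Agent.Helper7.ParabolicMax

set_option autoImplicit false

/-! # Transvection calculus in `GL(ι, F)` and symplectic forms given as functions -/

namespace Cfsg.Agent.Helper7.SLMax

open Matrix Cfsg Cfsg.Geo Cfsg.Agent.Helper7.TGL Cfsg.Agent.Helper7.PMax

variable {ι : Type} [Fintype ι] [DecidableEq ι] {F : Type*} [Field F]

/-- Covectors are determined by their values. -/
theorem covec_ext {φ ψ : ι → F} (h : ∀ x : ι → F, φ ⬝ᵥ x = ψ ⬝ᵥ x) : φ = ψ := by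
  funext i
  have := h (Pi.single i 1)
  rwa [dotProduct_single_one, dotProduct_single_one] at this

theorem gl_ext {A B : GL ι F}
    (h : ∀ x : ι → F, (A : Matrix ι ι F) *ᵥ x = (B : Matrix ι ι F) *ᵥ x) : A = B := by
  apply Units.ext
  apply Matrix.toLin'.injective
  apply LinearMap.ext
  intro x
  rw [Matrix.toLin'_apply, Matrix.toLin'_apply]
  exact h x

theorem gl_mul_mulVec (A B : GL ι F) (x : ι → F) :
    ((A * B : GL ι F) : Matrix ι ι F) *ᵥ x = (A : Matrix ι ι F) *ᵥ ((B : Matrix ι ι F) *ᵥ x) := by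
  rw [Units.val_mul, mulVec_mulVec]

theorem gl_inv_mulVec (A : GL ι F) (x : ι → F) :
    ((A⁻¹ : GL ι F) : Matrix ι ι F) *ᵥ ((A : Matrix ι ι F) *ᵥ x) = x := by
  rw [← gl_mul_mulVec, inv_mul_cancel, Units.val_one, one_mulVec]

theorem gl_mulVec_inv (A : GL ι F) (x : ι → F) :
    (A : Matrix ι ι F) *ᵥ (((A⁻¹ : GL ι F) : Matrix ι ι F) *ᵥ x) = x := by
  rw [← gl_mul_mulVec, mul_inv_cancel, Units.val_one, one_mulVec]

/-- The inverse of a transvection. -/
theorem tau_inv (a φ : ι → F) (h : φ ⬝ᵥ a = 0) :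
    (tau a φ h)⁻¹ = tau a (-φ) (by rw [neg_dotProduct, h, neg_zero]) := by
  apply inv_eq_of_mul_eq_one_right
  apply gl_ext
  intro x
  rw [gl_mul_mulVec, tau_mulVec, tau_mulVec, Units.val_one, one_mulVec, dotProduct_add,
    dotProduct_smul, h, smul_zero, add_zero, neg_dotProduct, neg_smul]
  abel

/-- The product of two transvections with the same centre. -/
theorem tau_mul_tau (a φ ψ : ι → F) (h : φ ⬝ᵥ a = 0) (h' : ψ ⬝ᵥ a = 0) :
    tau a φ h * tau a ψ h' = tau a (φ + ψ) (by rw [add_dotProduct, h, h', add_zero]) := by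
  apply gl_ext
  intro x
  rw [gl_mul_mulVec, tau_mulVec, tau_mulVec, tau_mulVec, dotProduct_add, dotProduct_smul, h, smul_zero,
    add_zero, add_dotProduct, add_smul]
  abel

/-- The commutator of two transvections. -/
theorem tau_comm (a φ b ψ : ι → F) (h : φ ⬝ᵥ a = 0) (h' : ψ ⬝ᵥ b = 0) (hψa : ψ ⬝ᵥ a = 0) :
    tau a φ h * tau b ψ h' * (tau a φ h)⁻¹ * (tau b ψ h')⁻¹ =
      tau a ((φ ⬝ᵥ b) • ψ) (by rw [smul_dotProduct, hψa, smul_zero]) := by
  rw [tau_inv, tau_inv]
  apply gl_ext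
  intro x
  simp only [gl_mul_mulVec, tau_mulVec, dotProduct_add, dotProduct_smul, neg_dotProduct, dotProduct_neg,
    h, h', hψa,
    smul_zero, add_zero, smul_eq_mul, mul_zero, neg_zero, zero_smul, smul_dotProduct, neg_smul,
    smul_add, smul_neg, mul_neg, neg_neg]
  module

/-- Conjugating a transvection, in a form convenient for transport. -/
theorem tau_conj' (M : GL ι F) (a φ : ι → F) (h : φ ⬝ᵥ a = 0) :
    M * tau a φ h * M⁻¹ = tau ((M : Matrix ι ι F) *ᵥ a) (φ ᵥ* ((M⁻¹ : GL ι F) : Matrix ι ι F))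
      (by rw [← dotProduct_mulVec, gl_inv_mulVec, h]) := by
  apply gl_ext
  intro x
  rw [gl_mul_mulVec, gl_mul_mulVec, tau_mulVec, tau_mulVec, mulVec_add, mulVec_smul, gl_mulVec_inv,
    ← dotProduct_mulVec]

end Cfsg.Agent.Helper7.SLMax
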