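import Mathlib
import Cfsg.Agent.Lead.BswDefs

/-!
S3282 swarm (architect: lead), pieces A31, A32, A34, A35 (general facts, no hypotheses).
-/

set_option autoImplicit false
namespace Cfsg.Agent.Lead.Bsw
variable {G : Type*} [Group G] [Finite G] {t s : G} {K : Subgroup G}

theorem h7_mul_self {z : G} (hz : orderOf z = 2) : z * z = 1 := by
  have h2 : z ^ 2 = 1 := by rw [← hz]; exact pow_orderOf_eq_one z
  rwa [sq] at h2

theorem h7_ne_one {z : G} (hz : orderOf z = 2) : z ≠ 1 := by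
  rintro rfl
  simp at hz

theorem h7_inv_eq_self {z : G} (hz : orderOf z = 2) : z⁻¹ = z :=
  inv_eq_of_mul_eq_one_left (h7_mul_self hz)

theorem h7_orderOf_two {z : G} (h1 : z ≠ 1) (h2 : z * z = 1) : orderOf z = 2 := by
  haveI : Fact (Nat.Prime 2) := ⟨Nat.prime_two⟩
  exact orderOf_eq_prime (by rw [sq]; exact h2) h1

theorem h7_orderOf_conj (g z : G) : orderOf (g * z * g⁻¹) = orderOf z := by
  have := (MulAut.conj g).orderOf_eq z
  rwa [MulAut.conj_apply] at this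

/-- the first factor of a factorisation into two involutions inverts the product -/
theorem h7_pair_inverts {z z' y : G} (hz : orderOf z = 2) (hz' : orderOf z' = 2) (hzz : z * z' = y) :
    z * y * z⁻¹ = y⁻¹ := by
  have e1 := h7_mul_self hz
  rw [← hzz, mul_inv_rev, h7_inv_eq_self hz, h7_inv_eq_self hz', ← mul_assoc, e1, one_mul]

theorem h7_inverter_pair {z y : G} (hz : orderOf z = 2) (hzy : z * y * z⁻¹ = y⁻¹) (hy : y * y ≠ 1) :
    orderOf (z * y) = 2 := by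
  rw [h7_inv_eq_self hz] at hzy
  apply h7_orderOf_two
  · intro h1
    have h2 : y = z⁻¹ := eq_inv_of_mul_eq_one_right h1
    have h3 : y = z := by rw [h2, h7_inv_eq_self hz]
    apply hy
    rw [h3]; exact h7_mul_self hz
  · calc z * y * (z * y) = (z * y * z) * y := by group
      _ = y⁻¹ * y := by rw [hzy]
      _ = 1 := by group

-- A31  (general; no hypotheses)
theorem F_eq_inverters {y : G} (hy : y * y ≠ 1) :
    F y = Nat.card {z : G // orderOf z = 2 ∧ z * y * z⁻¹ = y⁻¹} := by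
  rw [F_def]
  apply Nat.card_congr
  refine
    { toFun := fun p => ⟨p.1.1, p.2.1, h7_pair_inverts p.2.1 p.2.2.1 p.2.2.2⟩
      invFun := fun z => ⟨(z.1, z.1 * y), z.2.1, h7_inverter_pair z.2.1 z.2.2 hy, ?_⟩
      left_inv := ?_
      right_inv := ?_ }
  · show z.1 * (z.1 * y) = y
    rw [← mul_assoc, h7_mul_self z.2.1, one_mul]
  · rintro ⟨⟨z, z'⟩, hz, hz', hzz⟩
    apply Subtype.ext
    simp only at hz hz' hzz
    show (z, z * y) = (z, z')
    rw [← hzz, ← mul_assoc, h7_mul_self hz, one_mul]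
  · rintro ⟨z, hz, hzy⟩
    rfl

-- A32
theorem F_conj (g y : G) : F (g * y * g⁻¹) = F y := by
  rw [F_def, F_def]
  apply Nat.card_congr
  refine
    { toFun := fun p => ⟨(g⁻¹ * p.1.1 * g, g⁻¹ * p.1.2 * g), ?_, ?_, ?_⟩
      invFun := fun p => ⟨(g * p.1.1 * g⁻¹, g * p.1.2 * g⁻¹), ?_, ?_, ?_⟩
      left_inv := ?_
      right_inv := ?_ }
  · have := h7_orderOf_conj g⁻¹ p.1.1
    rw [inv_inv] at this
    show orderOf (g⁻¹ * p.1.1 * g) = 2
    rw [this]; exact p.2.1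
  · have := h7_orderOf_conj g⁻¹ p.1.2
    rw [inv_inv] at this
    show orderOf (g⁻¹ * p.1.2 * g) = 2
    rw [this]; exact p.2.2.1
  · show g⁻¹ * p.1.1 * g * (g⁻¹ * p.1.2 * g) = y
    have h3 := p.2.2.2
    calc g⁻¹ * p.1.1 * g * (g⁻¹ * p.1.2 * g) = g⁻¹ * (p.1.1 * p.1.2) * g := by group
      _ = g⁻¹ * (g * y * g⁻¹) * g := by rw [h3]
      _ = y := by group
  · show orderOf (g * p.1.1 * g⁻¹) = 2
    rw [h7_orderOf_conj]; exact p.2.1
  · show orderOf (g * p.1.2 * g⁻¹) = 2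
    rw [h7_orderOf_conj]; exact p.2.2.1
  · show g * p.1.1 * g⁻¹ * (g * p.1.2 * g⁻¹) = g * y * g⁻¹
    have h3 := p.2.2.2
    calc g * p.1.1 * g⁻¹ * (g * p.1.2 * g⁻¹) = g * (p.1.1 * p.1.2) * g⁻¹ := by group
      _ = g * y * g⁻¹ := by rw [h3]
  · rintro ⟨⟨a, b⟩, h1, h2, h3⟩
    apply Subtype.ext
    show (g * (g⁻¹ * a * g) * g⁻¹, g * (g⁻¹ * b * g) * g⁻¹) = (a, b)
    congr 1 <;> group
  · rintro ⟨⟨a, b⟩, h1, h2, h3⟩
    apply Subtype.ext
    show (g⁻¹ * (g * a * g⁻¹) * g, g⁻¹ * (g * b * g⁻¹) * g) = (a, b)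
    congr 1 <;> group

-- A34
theorem F_eq_zero_of_NR {y : G} (hy : IsNR y) : F y = 0 := by
  rw [F_def]
  have : IsEmpty {p : G × G // orderOf p.1 = 2 ∧ orderOf p.2 = 2 ∧ p.1 * p.2 = y} := by
    constructor
    rintro ⟨⟨z, z'⟩, hz, hz', hzz⟩
    exact hy.2.2 ⟨z, hz, h7_pair_inverts hz hz' hzz⟩
  exact Nat.card_of_isEmpty

theorem h7_isReal_conj_mp (g y : G) (h : IsReal y) : IsReal (g * y * g⁻¹) := by
  obtain ⟨z, hz, hzy⟩ := h
  refine ⟨g * z * g⁻¹, by rw [h7_orderOf_conj]; exact hz, ?_⟩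
  calc g * z * g⁻¹ * (g * y * g⁻¹) * (g * z * g⁻¹)⁻¹ = g * (z * y * z⁻¹) * g⁻¹ := by group
    _ = g * y⁻¹ * g⁻¹ := by rw [hzy]
    _ = (g * y * g⁻¹)⁻¹ := by group

-- A35 (general conjugation invariance)
theorem isReal_conj (g y : G) : IsReal (g * y * g⁻¹) ↔ IsReal y := by
  constructor
  · intro h
    have := h7_isReal_conj_mp g⁻¹ (g * y * g⁻¹) h
    have e : g⁻¹ * (g * y * g⁻¹) * g⁻¹⁻¹ = y := by group
    rwa [e] at this
  · exact h7_isReal_conj_mp g y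

theorem h7_conj_eq_one_iff (g y : G) : g * y * g⁻¹ = 1 ↔ y = 1 := by
  constructor
  · intro h
    have : y = g⁻¹ * (g * y * g⁻¹) * g := by group
    rw [this, h]; group
  · rintro rfl; group

theorem isNR_conj (g y : G) : IsNR (g * y * g⁻¹) ↔ IsNR y := by
  unfold IsNR
  rw [h7_orderOf_conj, isReal_conj, Ne, h7_conj_eq_one_iff]

theorem h7_card_cent_conj (g y : G) :
    Nat.card (Subgroup.centralizer ({g * y * g⁻¹} : Set G)) =
      Nat.card (Subgroup.centralizer ({y} : Set G)) := by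
  apply Nat.card_congr
  refine
    { toFun := fun x => ⟨g⁻¹ * x.1 * g, ?_⟩
      invFun := fun x => ⟨g * x.1 * g⁻¹, ?_⟩
      left_inv := ?_
      right_inv := ?_ }
  · have hx := x.2
    rw [Subgroup.mem_centralizer_singleton_iff] at hx ⊢
    -- hx : x * (g y g⁻¹) = (g y g⁻¹) * x   (or the other orientation)
    have h1 : g⁻¹ * x.1 * g * y = g⁻¹ * (x.1 * (g * y * g⁻¹)) * g := by group
    have h2 : y * (g⁻¹ * x.1 * g) = g⁻¹ * ((g * y * g⁻¹) * x.1) * g := by group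
    rw [h1, h2, hx]
  · have hx := x.2
    rw [Subgroup.mem_centralizer_singleton_iff] at hx ⊢
    have h1 : g * x.1 * g⁻¹ * (g * y * g⁻¹) = g * (x.1 * y) * g⁻¹ := by group
    have h2 : g * y * g⁻¹ * (g * x.1 * g⁻¹) = g * (y * x.1) * g⁻¹ := by group
    rw [h1, h2, hx]
  · intro x
    apply Subtype.ext
    show g * (g⁻¹ * x.1 * g) * g⁻¹ = x.1
    group
  · intro x
    apply Subtype.ext
    show g⁻¹ * (g * x.1 * g⁻¹) * g = x.1
    group

theorem isTorusElt_conj (g y : G) : IsTorusElt (g * y * g⁻¹) ↔ IsTorusElt y := by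
  unfold IsTorusElt
  rw [h7_card_cent_conj, isReal_conj, Ne, h7_conj_eq_one_iff]

theorem h7_isReal_inv_mp (y : G) (h : IsReal y) : IsReal y⁻¹ := by
  obtain ⟨z, hz, hzy⟩ := h
  refine ⟨z, hz, ?_⟩
  calc z * y⁻¹ * z⁻¹ = (z * y * z⁻¹)⁻¹ := by group
    _ = y⁻¹⁻¹ := by rw [hzy]

theorem isNR_inv (y : G) : IsNR y⁻¹ ↔ IsNR y := by
  unfold IsNR
  have hr : IsReal y⁻¹ ↔ IsReal y := by
    constructor
    · intro h
      have := h7_isReal_inv_mp y⁻¹ h
      rwa [inv_inv] at this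
    · exact h7_isReal_inv_mp y
  rw [orderOf_inv, hr, Ne, inv_eq_one]

end Cfsg.Agent.Lead.Bsw
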