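import Mathlib
import Cfsg.Agent.Lead.BswDefs
import Cfsg.Agent.Helper7.Bsw_A31_35
import Cfsg.Agent.Lead.Bsw_A1_12

/-!
S3282 swarm (architect: lead), piece A33: `F x = |K|` for `x ∈ K`, `x ≠ 1`.
-/

set_option autoImplicit false
namespace Cfsg.Agent.Lead.Bsw
variable {G : Type*} [Group G] [Finite G] {t s : G} {K : Subgroup G}

/-- `x ↦ x * s` is a bijection from `K` onto any set described as `{u | ∃ x ∈ K, u = x * s}`. -/
theorem h7_card_Ks (P : G → Prop) (hP : ∀ u, P u ↔ ∃ x ∈ K, u = x * s) :
    Nat.card {u : G // P u} = Nat.card K := by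
  symm
  apply Nat.card_congr
  refine Equiv.ofBijective (fun x => ⟨x.1 * s, (hP _).2 ⟨x.1, x.2, rfl⟩⟩) ⟨?_, ?_⟩
  · intro a b hab
    have h1 : a.1 * s = b.1 * s := congrArg Subtype.val hab
    exact Subtype.ext (mul_right_cancel h1)
  · rintro ⟨u, hu⟩
    obtain ⟨x, hx, rfl⟩ := (hP u).1 hu
    exact ⟨⟨x, hx⟩, rfl⟩

/-- elements of `K s` are not in `K` -/
theorem h7_mul_s_not_mem (h : Hyp t K s) {x : G} (hx : x ∈ K) : x * s ∉ K := by
  intro hxs
  apply h.hsK
  have : s = x⁻¹ * (x * s) := by group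
  rw [this]
  exact K.mul_mem (K.inv_mem hx) hxs

/-- factorisations of an involution `t` into two involutions <-> involutions of `C(t)` other than `t` -/
theorem h7_F_involution {t : G} (ht : orderOf t = 2) :
    F t = Nat.card {u : G // orderOf u = 2 ∧ u * t = t * u ∧ u ≠ t} := by
  rw [F_def]
  apply Nat.card_congr
  refine
    { toFun := fun p => ⟨p.1.1, p.2.1, ?_, ?_⟩
      invFun := fun u => ⟨(u.1, u.1 * t), u.2.1, ?_, ?_⟩
      left_inv := ?_
      right_inv := ?_ }
  · have hinv := h7_pair_inverts p.2.1 p.2.2.1 p.2.2.2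
    rw [h7_inv_eq_self ht] at hinv
    calc p.1.1 * t = (p.1.1 * t * (p.1.1)⁻¹) * p.1.1 := by group
      _ = t * p.1.1 := by rw [hinv]
  · intro hzt
    have h3 := p.2.2.2
    rw [hzt] at h3
    have : p.1.2 = 1 := by
      have := mul_left_cancel (a := t) (b := p.1.2) (c := 1) (by rw [h3, mul_one])
      exact this
    exact h7_ne_one p.2.2.1 this
  · have hu := u.2.1
    have hc := u.2.2.1
    have hne := u.2.2.2
    apply h7_orderOf_two
    · intro h1
      apply hne
      have : u.1 = t⁻¹ := eq_inv_of_mul_eq_one_left h1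
      rw [this, h7_inv_eq_self ht]
    · calc u.1 * t * (u.1 * t) = u.1 * (t * u.1) * t := by group
        _ = u.1 * (u.1 * t) * t := by rw [hc]
        _ = (u.1 * u.1) * (t * t) := by group
        _ = 1 := by rw [h7_mul_self hu, h7_mul_self ht, one_mul]
  · show u.1 * (u.1 * t) = t
    rw [← mul_assoc, h7_mul_self u.2.1, one_mul]
  · rintro ⟨⟨z, z'⟩, hz, hz', hzz⟩
    apply Subtype.ext
    simp only at hz hz' hzz
    show (z, z * t) = (z, z')
    rw [← hzz, ← mul_assoc, h7_mul_self hz, one_mul]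
  · rintro ⟨u, hu⟩
    rfl

-- A33
theorem F_of_mem_K (h : Hyp t K s) {x : G} (hx : x ∈ K) (hx1 : x ≠ 1) : F x = Nat.card K := by
  by_cases hx2 : x * x = 1
  · -- x is an involution of K, so x = t
    have hxt : x = t := inv_of_mem_K h hx (h7_orderOf_two hx1 hx2)
    subst hxt
    have ht := h.ht
    rw [h7_F_involution ht]
    apply h7_card_Ks (K := K) (s := s)
    intro u
    constructor
    · rintro ⟨hu2, huc, hune⟩
      have hmem : u ∈ Subgroup.centralizer ({x} : Set G) := by
        rw [Subgroup.mem_centralizer_singleton_iff]; exact huc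
      rcases (mem_cent_t h u).1 hmem with huK | huK
      · exact absurd (inv_of_mem_K h huK hu2) hune
      · exact huK
    · rintro ⟨y, hy, rfl⟩
      refine ⟨orderOf_mul_s h hy, ?_, ?_⟩
      · have hmem : y * s ∈ Subgroup.centralizer ({x} : Set G) :=
          (mem_cent_t h (y * s)).2 (Or.inr ⟨y, hy, rfl⟩)
        rw [Subgroup.mem_centralizer_singleton_iff] at hmem
        exact hmem
      · intro hys
        apply h7_mul_s_not_mem h hy
        rw [hys]; exact hx
  · rw [F_eq_inverters hx2]
    apply h7_card_Ks (K := K) (s := s)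
    intro u
    constructor
    · rintro ⟨hu2, hux⟩
      have hxi : x⁻¹ ∈ K := K.inv_mem hx
      have hmem : u ∈ Subgroup.centralizer ({t} : Set G) := TI_elt h hx hx1 (by rw [hux]; exact hxi)
      rcases (mem_cent_t h u).1 hmem with huK | huK
      · exfalso
        -- K commutative: u x u⁻¹ = x
        have hc : (⟨u, huK⟩ : K) * ⟨x, hx⟩ = ⟨x, hx⟩ * ⟨u, huK⟩ := h.hKab.is_comm.comm _ _
        have hc' : u * x = x * u := congrArg Subtype.val hc
        have : x⁻¹ = x := by
          rw [← hux]
          calc u * x * u⁻¹ = (x * u) * u⁻¹ := by rw [hc']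
            _ = x := by group
        apply hx2
        calc x * x = x⁻¹ * x := by rw [this]
          _ = 1 := by group
      · exact huK
    · rintro ⟨y, hy, rfl⟩
      exact ⟨orderOf_mul_s h hy, mul_s_inverts h hy hx⟩

end Cfsg.Agent.Lead.Bsw
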