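import Mathlib

set_option autoImplicit false

namespace Cfsg.Agent.Helper1.Fo3

/-- F9b: the real-arithmetic end of the eigenvalue integrality argument for a triangle-free
strongly regular graph.  `m0`, `m1`, `m2` are the multiplicities of the eigenvalues `k`, `θ`,
`τ`; `htr1` is `tr A = 0` and `htr2` is `tr A² = n k`. -/
theorem srg_arith_core {n k μ m0 m1 m2 : ℕ} (hμ : 0 < μ) (hμk : μ ≤ k) (hn : 0 < n)
    (hsum : m0 + m1 + m2 = n) (θ τ : ℝ)
    (hθ : θ ^ 2 + (μ : ℝ) * θ - ((k : ℝ) - (μ : ℝ)) = 0)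
    (hτ : τ ^ 2 + (μ : ℝ) * τ - ((k : ℝ) - (μ : ℝ)) = 0) (hθτ : θ ≠ τ)
    (htr1 : (m0 : ℝ) * k + m1 * θ + m2 * τ = 0)
    (htr2 : (m0 : ℝ) * (k : ℝ) ^ 2 + m1 * θ ^ 2 + m2 * τ ^ 2 = n * k) :
    k + μ = 3 ∨ ∃ s : ℕ, s ^ 2 = μ ^ 2 + 4 * (k - μ) := by
  classical
  by_cases hsq : IsSquare (μ ^ 2 + 4 * (k - μ))
  · right
    obtain ⟨s, hs⟩ := hsq
    exact ⟨s, by rw [hs]; ring⟩
  left
  -- sum and difference of the two roots
  have hne : θ - τ ≠ 0 := sub_ne_zero.mpr hθτ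
  have hsumr : θ + τ = -(μ : ℝ) := by
    have h1 : (θ - τ) * (θ + τ + μ) = 0 := by
      have : θ ^ 2 + (μ : ℝ) * θ - ((k : ℝ) - (μ : ℝ))
          - (τ ^ 2 + (μ : ℝ) * τ - ((k : ℝ) - (μ : ℝ))) = 0 := by rw [hθ, hτ]; ring
      nlinarith [this]
    rcases mul_eq_zero.mp h1 with h | h
    · exact absurd h hne
    · linarith
  set d : ℝ := θ - τ with hd
  have hθd : θ = (-(μ : ℝ) + d) / 2 := by rw [hd]; linarith
  have hτd : τ = (-(μ : ℝ) - d) / 2 := by rw [hd]; linarith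
  have hcast : ((k - μ : ℕ) : ℝ) = (k : ℝ) - (μ : ℝ) := by
    rw [Nat.cast_sub hμk]
  have hd2 : d ^ 2 = ((μ ^ 2 + 4 * (k - μ) : ℕ) : ℝ) := by
    push_cast
    rw [hcast]
    have h1 := hθ
    rw [hθd] at h1
    nlinarith [h1]
  -- `d` is irrational
  have hirr : Irrational d := by
    have hs : Irrational (√((μ ^ 2 + 4 * (k - μ) : ℕ) : ℝ)) :=
      irrational_sqrt_natCast_iff.mpr hsq
    have habs : |d| = √((μ ^ 2 + 4 * (k - μ) : ℕ) : ℝ) := by
      rw [← hd2, Real.sqrt_sq_eq_abs]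
    rw [← habs] at hs
    rcases abs_choice d with h | h
    · rwa [h] at hs
    · rw [h] at hs
      exact irrational_neg_iff.mp hs
  -- the multiplicities of `θ` and `τ` agree
  have h12 : m1 = m2 := by
    by_contra hne12
    have hcne : ((m1 : ℝ) - (m2 : ℝ)) ≠ 0 := by
      intro h
      apply hne12
      have : (m1 : ℝ) = (m2 : ℝ) := by linarith
      exact_mod_cast this
    have hlin : ((m1 : ℝ) - m2) * d = ((m1 : ℝ) + m2) * μ - 2 * m0 * k := by
      rw [hθd, hτd] at htr1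
      linarith
    have hdq : d = ((((m1 : ℚ) + m2) * μ - 2 * m0 * k) / ((m1 : ℚ) - m2) : ℚ) := by
      push_cast
      field_simp
      linarith
    exact hirr.ne_rat _ hdq
  subst h12
  -- `m0 * k = m1 * μ`
  have hA : (m0 : ℝ) * k = (m1 : ℝ) * μ := by
    rw [hθd, hτd] at htr1
    linarith
  have hnR : (n : ℝ) = (m0 : ℝ) + m1 + m1 := by
    rw [← hsum]; push_cast; ring
  have hB : (m0 : ℝ) * (k : ℝ) ^ 2 + (m1 : ℝ) * ((μ : ℝ) ^ 2 + 2 * ((k : ℝ) - μ))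
      = ((m0 : ℝ) + m1 + m1) * k := by
    rw [← hnR, ← htr2, hθd, hτd]
    have hd2' : d ^ 2 = (μ : ℝ) ^ 2 + 4 * ((k : ℝ) - μ) := by
      rw [hd2]; push_cast; rw [hcast]
    nlinarith [hd2']
  have hC : ((m0 : ℝ) * k) * ((k : ℝ) + μ - 3) = 0 := by
    nlinarith [hA, hB]
  have hm0k : (m0 : ℝ) * k ≠ 0 := by
    intro h0
    have hk0 : (k : ℝ) ≠ 0 := by
      have : 0 < k := lt_of_lt_of_le hμ hμk
      exact_mod_cast this.ne'
    have hm0 : (m0 : ℝ) = 0 := by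
      rcases mul_eq_zero.mp h0 with h | h
      · exact h
      · exact absurd h hk0
    have hm1 : (m1 : ℝ) * μ = 0 := by rw [← hA, h0]
    have hμ0 : (μ : ℝ) ≠ 0 := by exact_mod_cast hμ.ne'
    have hm1' : (m1 : ℝ) = 0 := by
      rcases mul_eq_zero.mp hm1 with h | h
      · exact h
      · exact absurd h hμ0
    have : (n : ℝ) = 0 := by rw [hnR, hm0, hm1']; ring
    have : n = 0 := by exact_mod_cast this
    omega
  have hfin : (k : ℝ) + μ - 3 = 0 := by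
    rcases mul_eq_zero.mp hC with h | h
    · exact absurd h hm0k
    · exact h
  have : ((k + μ : ℕ) : ℝ) = (3 : ℕ) := by push_cast; linarith
  exact_mod_cast this

end Cfsg.Agent.Helper1.Fo3
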