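import Mathlib

/-!
# M11 cluster, piece L2 (helper7): the normalizer of a Sylow 5-subgroup has order 20

`G` simple of order `7920`, all Sylow 11-normalizers of order 55 (piece L1).  Then
`|N_G(Q)| = 20` for `Q` a Sylow 5-subgroup.  Pure group theory (Mathlib only).
-/

set_option autoImplicit false

namespace Cfsg.Agent.Helper2.M11

open Subgroup

/-- a Sylow `p`-subgroup has order `p` when `p` divides the group order exactly once -/
theorem h7_card_sylow_of_exact {G : Type*} [Group G] [Finite G] {p : ℕ} [Fact p.Prime]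
    (P : Sylow p G) (h1 : p ∣ Nat.card G) (h2 : ¬ p ^ 2 ∣ Nat.card G) :
    Nat.card ↥(P : Subgroup G) = p := by
  have hp : p.Prime := Fact.out
  have hn : Nat.card G ≠ 0 := Nat.card_pos.ne'
  rw [Sylow.card_eq_multiplicity]
  have hpos : 0 < (Nat.card G).factorization p := hp.factorization_pos_of_dvd hn h1
  have hlt : (Nat.card G).factorization p < 2 := by
    by_contra hge
    push Not at hge
    apply h2
    exact (pow_dvd_pow p hge).trans (Nat.ordProj_dvd _ _)
  have : (Nat.card G).factorization p = 1 := by omega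
  rw [this, pow_one]

/-- Burnside: in a simple group whose order is not a prime power times..., the normalizer of a
Sylow subgroup is not contained in its centralizer -/
theorem h7_not_normalizer_le_centralizer {G : Type*} [Group G] [Finite G] (hs : IsSimpleGroup G)
    {p : ℕ} [Fact p.Prime] (P : Sylow p G) (h1 : Nat.card ↥(P : Subgroup G) ≠ 1)
    (h2 : Nat.card ↥(P : Subgroup G) ≠ Nat.card G) :
    ¬ normalizer ((P : Subgroup G) : Set G) ≤ centralizer ((P : Subgroup G) : Set G) := by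
  intro hP
  have hc := MonoidHom.ker_transferSylow_isComplement' P hP
  have hcard := hc.card_mul_card
  rcases hs.eq_bot_or_eq_top_of_normal (MonoidHom.transferSylow P hP).ker inferInstance with h | h
  · rw [h, Subgroup.card_bot, one_mul] at hcard
    exact h2 hcard
  · rw [h, Subgroup.card_top] at hcard
    have hpos : 0 < Nat.card G := Nat.card_pos
    apply h1
    have := Nat.eq_of_mul_eq_mul_left hpos (hcard.trans (mul_one _).symm)
    exact this

theorem h7_between_5_55 {G : Type*} [Group G] [Finite G] {Q K H : Subgroup G}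
    (hQ : Nat.card ↥Q = 5) (hH : Nat.card ↥H = 55) (hQK : Q ≤ K) (hKH : K ≤ H) :
    K = Q ∨ K = H := by
  have h1 : Nat.card ↥Q ∣ Nat.card ↥K := Subgroup.card_dvd_of_le hQK
  have h2 : Nat.card ↥K ∣ Nat.card ↥H := Subgroup.card_dvd_of_le hKH
  rw [hQ] at h1
  rw [hH] at h2
  obtain ⟨j, hj⟩ := h1
  have hj' : j ∣ 11 := by
    have : 5 * j ∣ 5 * 11 := by rw [← hj]; exact h2
    exact Nat.dvd_of_mul_dvd_mul_left (by norm_num) this
  have h11 : Nat.Prime 11 := by norm_num
  rcases (Nat.dvd_prime h11).mp hj' with h | h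
  · left
    symm
    apply Subgroup.eq_of_le_of_card_ge hQK
    rw [hj, h, hQ]
  · right
    apply Subgroup.eq_of_le_of_card_ge hKH
    rw [hj, h, hH]

/-- elements of two subgroups normalizing each other with trivial intersection commute -/
theorem h7_commute_of_normalize {G : Type*} [Group G] {A B : Subgroup G}
    (hAB : A ≤ normalizer (B : Set G)) (hBA : B ≤ normalizer (A : Set G))
    (hd : A ⊓ B = ⊥) {x y : G} (hx : x ∈ A) (hy : y ∈ B) : x * y = y * x := by
  have h1 : x * y * x⁻¹ ∈ B := (mem_normalizer_iff.mp (hAB hx) y).mp hy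
  have h2 : y * x⁻¹ * y⁻¹ ∈ A := (mem_normalizer_iff.mp (hBA hy) x⁻¹).mp (A.inv_mem hx)
  have h3 : x * y * x⁻¹ * y⁻¹ ∈ A ⊓ B := by
    refine ⟨?_, B.mul_mem h1 (B.inv_mem hy)⟩
    have : x * y * x⁻¹ * y⁻¹ = x * (y * x⁻¹ * y⁻¹) := by group
    rw [this]
    exact A.mul_mem hx h2
  rw [hd, mem_bot] at h3
  calc x * y = (x * y * x⁻¹ * y⁻¹) * (y * x) := by group
    _ = y * x := by rw [h3, one_mul]

theorem h7_lemmaA {G : Type*} [Group G] [Finite G] (hs : IsSimpleGroup G)
    (hc : Nat.card G = 7920) (P : Sylow 11 G)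
    (hP : Nat.card ↥(normalizer ((P : Subgroup G) : Set G)) = 55)
    (Q : Subgroup G) (hQ : Nat.card ↥Q = 5)
    (hQP : Q ≤ normalizer ((P : Subgroup G) : Set G)) :
    normalizer (Q : Set G) ⊓ normalizer ((P : Subgroup G) : Set G) = Q := by
  have h11 : Fact (Nat.Prime 11) := ⟨by norm_num⟩
  have hPc : Nat.card ↥(P : Subgroup G) = 11 :=
    h7_card_sylow_of_exact P (by rw [hc]; norm_num) (by rw [hc]; norm_num)
  rcases h7_between_5_55 hQ hP (le_inf le_normalizer hQP) inf_le_right with h | h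
  · exact h
  exfalso
  have hNN : normalizer ((P : Subgroup G) : Set G) ≤ normalizer (Q : Set G) := by
    rw [← h]; exact inf_le_left
  apply h7_not_normalizer_le_centralizer hs P (by rw [hPc]; norm_num) (by rw [hPc, hc]; norm_num)
  have hd : (P : Subgroup G) ⊓ Q = ⊥ := by
    apply Disjoint.eq_bot
    apply Subgroup.disjoint_of_coprime_natCard
    rw [hPc, hQ]; norm_num
  -- P ≤ C(P)
  have hPcent : (P : Subgroup G) ≤ centralizer ((P : Subgroup G) : Set G) := by
    have hcyc : IsCyclic ↥(P : Subgroup G) := isCyclic_of_prime_card hPc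
    intro x hx
    rw [mem_centralizer_iff]
    intro y hy
    have := IsCyclic.commGroup.mul_comm (⟨y, hy⟩ : ↥(P : Subgroup G)) ⟨x, hx⟩
    exact congrArg Subtype.val this
  have hQcent : Q ≤ centralizer ((P : Subgroup G) : Set G) := by
    intro q hq
    rw [mem_centralizer_iff]
    intro x hx
    exact h7_commute_of_normalize (le_normalizer.trans hNN) hQP hd hx hq
  set C := centralizer ((P : Subgroup G) : Set G) ⊓ normalizer ((P : Subgroup G) : Set G) with hC
  have h1 : Nat.card ↥(P : Subgroup G) ∣ Nat.card ↥C :=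
    Subgroup.card_dvd_of_le (le_inf hPcent le_normalizer)
  have h2 : Nat.card ↥Q ∣ Nat.card ↥C := Subgroup.card_dvd_of_le (le_inf hQcent hQP)
  have h3 : Nat.card ↥C ∣ Nat.card ↥(normalizer ((P : Subgroup G) : Set G)) :=
    Subgroup.card_dvd_of_le inf_le_right
  rw [hPc] at h1
  rw [hQ] at h2
  rw [hP] at h3
  have h4 : 55 ∣ Nat.card ↥C := by
    have : Nat.Coprime 11 5 := by norm_num
    have := this.mul_dvd_of_dvd_of_dvd h1 h2
    simpa using this
  have h5 : Nat.card ↥C = 55 := Nat.dvd_antisymm h3 h4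
  have h6 : C = normalizer ((P : Subgroup G) : Set G) := by
    apply Subgroup.eq_of_le_of_card_ge inf_le_right
    rw [h5, hP]
  rw [← h6]
  exact inf_le_left

/-- in a finite subgroup, one-sided conjugation invariance gives membership in the normalizer -/
theorem h7_mem_normalizer_of_conj_mem {G : Type*} [Group G] (H : Subgroup G) [Finite ↥H] (g : G)
    (h : ∀ x ∈ H, g * x * g⁻¹ ∈ H) : g ∈ normalizer (H : Set G) := by
  rw [mem_normalizer_iff]
  intro x
  refine ⟨h x, fun hx => ?_⟩
  let φ : ↥H → ↥H := fun y => ⟨g * y * g⁻¹, h y y.2⟩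
  have hinj : Function.Injective φ := by
    intro a b hab
    have h1 : g * (a : G) * g⁻¹ = g * (b : G) * g⁻¹ := congrArg Subtype.val hab
    apply Subtype.ext
    have h2 := mul_right_cancel h1
    exact mul_left_cancel h2
  obtain ⟨y, hy⟩ := Finite.surjective_of_injective hinj ⟨g * x * g⁻¹, hx⟩
  have h1 : g * (y : G) * g⁻¹ = g * x * g⁻¹ := congrArg Subtype.val hy
  have h2 : (y : G) = x := mul_left_cancel (mul_right_cancel h1)
  rw [← h2]
  exact y.2

theorem h7_smul_eq_iff {G : Type*} [Group G] {p : ℕ} {g : G} {P : Sylow p G} :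
    g • P = P ↔ g ∈ normalizer ((P : Subgroup G) : Set G) :=
  Sylow.smul_eq_iff_mem_normalizer

theorem h7_inj_key {G : Type*} [Group G] [Finite G] (hs : IsSimpleGroup G)
    (hc : Nat.card G = 7920)
    (h11 : ∀ P : Sylow 11 G, Nat.card ↥(normalizer ((P : Subgroup G) : Set G)) = 55)
    (Q : Sylow 5 G) (P0 P1 : Sylow 11 G)
    (h0 : (Q : Subgroup G) ≤ normalizer ((P0 : Subgroup G) : Set G))
    (h1 : (Q : Subgroup G) ≤ normalizer ((P1 : Subgroup G) : Set G))
    (hne : P1 ≠ P0) (z : G) (hz : z ∈ (P0 : Subgroup G))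
    (h2 : (Q : Subgroup G) ≤ normalizer (((z • P1 : Sylow 11 G) : Subgroup G) : Set G)) :
    z = 1 := by
  have hp11 : Fact (Nat.Prime 11) := ⟨by norm_num⟩
  have hp5 : Fact (Nat.Prime 5) := ⟨by norm_num⟩
  have hQc : Nat.card ↥(Q : Subgroup G) = 5 :=
    h7_card_sylow_of_exact Q (by rw [hc]; norm_num) (by rw [hc]; norm_num)
  have hP0c : Nat.card ↥(P0 : Subgroup G) = 11 :=
    h7_card_sylow_of_exact P0 (by rw [hc]; norm_num) (by rw [hc]; norm_num)
  -- K = N(P1) ⊓ N(P0) equals Q
  have hK : normalizer ((P1 : Subgroup G) : Set G) ⊓ normalizer ((P0 : Subgroup G) : Set G)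
      = (Q : Subgroup G) := by
    rcases h7_between_5_55 hQc (h11 P0) (le_inf h1 h0) inf_le_right with h | h
    · exact h
    exfalso
    apply hne
    have hle : normalizer ((P0 : Subgroup G) : Set G) ≤ normalizer ((P1 : Subgroup G) : Set G) := by
      rw [← h]; exact inf_le_left
    have hP0le : (P0 : Subgroup G) ≤ normalizer ((P1 : Subgroup G) : Set G) :=
      le_normalizer.trans hle
    have h3 : (P0 : Subgroup G) ⊓ normalizer ((P1 : Subgroup G) : Set G)
        = (P0 : Subgroup G) ⊓ (P1 : Subgroup G) := IsPGroup.inf_normalizer_sylow P0.isPGroup' P1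
    rw [inf_eq_left.mpr hP0le] at h3
    have h4 : (P0 : Subgroup G) ≤ (P1 : Subgroup G) := by
      rw [h3]; exact inf_le_right
    exact Sylow.ext (P0.is_maximal' P1.isPGroup' h4)
  -- conjugates of Q by z⁻¹ stay in Q
  have hconj : ∀ q ∈ (Q : Subgroup G), z⁻¹ * q * z⁻¹⁻¹ ∈ (Q : Subgroup G) := by
    intro q hq
    rw [inv_inv, ← hK]
    refine Subgroup.mem_inf.mpr ⟨?_, ?_⟩
    · rw [← h7_smul_eq_iff, mul_smul, mul_smul]
      have : q • z • P1 = z • P1 := h7_smul_eq_iff.mpr (h2 hq)
      rw [this, inv_smul_smul]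
    · have hzN : z ∈ normalizer ((P0 : Subgroup G) : Set G) := le_normalizer hz
      exact mul_mem (mul_mem (inv_mem hzN) (h0 hq)) hzN
  have hzinv : z⁻¹ ∈ normalizer (((Q : Subgroup G)) : Set G) :=
    h7_mem_normalizer_of_conj_mem (Q : Subgroup G) z⁻¹ hconj
  have hzNQ : z ∈ normalizer (((Q : Subgroup G)) : Set G) := by
    have := inv_mem hzinv
    rwa [inv_inv] at this
  have hA := h7_lemmaA hs hc P0 (h11 P0) (Q : Subgroup G) hQc h0
  have hzQ : z ∈ (Q : Subgroup G) := by
    rw [← hA]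
    exact ⟨hzNQ, le_normalizer hz⟩
  have hd : Disjoint (P0 : Subgroup G) (Q : Subgroup G) := by
    apply Subgroup.disjoint_of_coprime_natCard
    rw [hP0c, hQc]; norm_num
  have : z ∈ (P0 : Subgroup G) ⊓ (Q : Subgroup G) := ⟨hz, hzQ⟩
  rw [hd.eq_bot, mem_bot] at this
  exact this

theorem h7_fixed_le {G : Type*} [Group G] [Finite G] (hs : IsSimpleGroup G)
    (hc : Nat.card G = 7920)
    (h11 : ∀ P : Sylow 11 G, Nat.card ↥(normalizer ((P : Subgroup G) : Set G)) = 55)
    (hn11 : Nat.card (Sylow 11 G) = 144)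
    (Q : Sylow 5 G) :
    (MulAction.fixedPoints ↥(Q : Subgroup G) (Sylow 11 G)).ncard ≤ 14 := by
  have hp11 : Fact (Nat.Prime 11) := ⟨by norm_num⟩
  set F := MulAction.fixedPoints ↥(Q : Subgroup G) (Sylow 11 G) with hF
  rcases Set.eq_empty_or_nonempty F with he | ⟨P0, hP0⟩
  · rw [he]; simp
  have hmem : ∀ P : Sylow 11 G,
      P ∈ F ↔ (Q : Subgroup G) ≤ normalizer ((P : Subgroup G) : Set G) :=
    fun P => Subgroup.sylow_mem_fixedPoints_iff _
  have h0 := (hmem P0).mp hP0
  have hP0c : Nat.card ↥(P0 : Subgroup G) = 11 :=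
    h7_card_sylow_of_exact P0 (by rw [hc]; norm_num) (by rw [hc]; norm_num)
  let φ : G × Sylow 11 G → Sylow 11 G := fun a => a.1 • a.2
  let D : Set (G × Sylow 11 G) := ((P0 : Subgroup G) : Set G) ×ˢ (F \ {P0})
  have hinj : Set.InjOn φ D := by
    rintro ⟨x, P1⟩ ⟨hx, hP1, hP1ne⟩ ⟨y, P2⟩ ⟨hy, hP2, hP2ne⟩ hxy
    simp only [φ] at hxy
    have hz : y⁻¹ * x ∈ (P0 : Subgroup G) := mul_mem (inv_mem hy) hx
    have hP2eq : (y⁻¹ * x) • P1 = P2 := by rw [mul_smul, hxy, inv_smul_smul]
    have h2 : (Q : Subgroup G) ≤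
        normalizer ((((y⁻¹ * x) • P1 : Sylow 11 G) : Subgroup G) : Set G) := by
      rw [hP2eq]; exact (hmem P2).mp hP2
    have hz1 := h7_inj_key hs hc h11 Q P0 P1 h0 ((hmem P1).mp hP1) hP1ne (y⁻¹ * x) hz h2
    have hxy' : x = y := (inv_mul_eq_one.mp hz1).symm
    subst hxy'
    have : P1 = P2 := by rw [← hP2eq, hz1, one_smul]
    rw [this]
  have himg : φ '' D ⊆ {P0}ᶜ := by
    rintro _ ⟨⟨x, P1⟩, ⟨hx, hP1, hP1ne⟩, rfl⟩
    simp only [φ, Set.mem_compl_iff, Set.mem_singleton_iff]
    intro h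
    apply hP1ne
    have hxN : x⁻¹ ∈ normalizer ((P0 : Subgroup G) : Set G) := le_normalizer (inv_mem hx)
    have : x⁻¹ • P0 = P0 := h7_smul_eq_iff.mpr hxN
    rw [Set.mem_singleton_iff, ← this, ← h, inv_smul_smul]
  have hcardD : D.ncard = 11 * (F.ncard - 1) := by
    rw [Set.ncard_prod, Set.ncard_sdiff_singleton_of_mem hP0]
    congr 1
  have hcompl : ({P0}ᶜ : Set (Sylow 11 G)).ncard = 143 := by
    rw [Set.ncard_compl, Set.ncard_singleton, hn11]
  have := Set.ncard_le_ncard himg (Set.toFinite _)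
  rw [hinj.ncard_image, hcardD, hcompl] at this
  omega

theorem card_normalizer_sylow5 {G : Type*} [Group G] [Finite G] (hs : IsSimpleGroup G)
    (hc : Nat.card G = 7920)
    (h11 : ∀ P : Sylow 11 G, Nat.card ↥(normalizer ((P : Subgroup G) : Set G)) = 55)
    (Q : Sylow 5 G) : Nat.card ↥(normalizer ((Q : Subgroup G) : Set G)) = 20 := by
  have hp11 : Fact (Nat.Prime 11) := ⟨by norm_num⟩
  have hp5 : Fact (Nat.Prime 5) := ⟨by norm_num⟩
  have hQc : Nat.card ↥(Q : Subgroup G) = 5 :=
    h7_card_sylow_of_exact Q (by rw [hc]; norm_num) (by rw [hc]; norm_num)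
  -- number of Sylow 11-subgroups
  obtain ⟨P⟩ : Nonempty (Sylow 11 G) := inferInstance
  have hn11 : Nat.card (Sylow 11 G) = 144 := by
    have h1 : Nat.card (Sylow 11 G) = (normalizer ((P : Subgroup G) : Set G)).index :=
      Sylow.card_eq_index_normalizer P
    have h2 := Subgroup.card_mul_index (normalizer ((P : Subgroup G) : Set G))
    rw [h11 P, hc] at h2
    rw [h1]
    omega
  set F := MulAction.fixedPoints ↥(Q : Subgroup G) (Sylow 11 G) with hF
  have hmod : Nat.card (Sylow 11 G) ≡ Nat.card ↥F [MOD 5] :=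
    Q.isPGroup'.card_modEq_card_fixedPoints (Sylow 11 G)
  have hFle : F.ncard ≤ 14 := h7_fixed_le hs hc h11 hn11 Q
  have hFmod : F.ncard % 5 = 4 := by
    rw [hn11, Nat.card_coe_set_eq] at hmod
    unfold Nat.ModEq at hmod
    omega
  have hFne : F.Nonempty := by
    rw [← Set.ncard_pos]; omega
  obtain ⟨P0, hP0⟩ := hFne
  have hmem : ∀ P : Sylow 11 G,
      P ∈ F ↔ (Q : Subgroup G) ≤ normalizer ((P : Subgroup G) : Set G) :=
    fun P => Subgroup.sylow_mem_fixedPoints_iff _
  have h0 := (hmem P0).mp hP0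
  set N := normalizer ((Q : Subgroup G) : Set G) with hN
  -- the orbit of P0 under N lies in F
  have horb : MulAction.orbit ↥N P0 ⊆ F := by
    rintro _ ⟨n, rfl⟩
    rw [hmem]
    intro q hq
    rw [← h7_smul_eq_iff]
    have hn : (n : G) ∈ N := n.2
    have h1 : (n : G)⁻¹ * q * (n : G) ∈ (Q : Subgroup G) :=
      (mem_normalizer_iff''.mp hn q).mp hq
    have h2 : ((n : G)⁻¹ * q * (n : G)) • P0 = P0 := h7_smul_eq_iff.mpr (h0 h1)
    show q • ((n : G) • P0) = (n : G) • P0
    calc q • (n : G) • P0 = (n : G) • (((n : G)⁻¹ * q * (n : G)) • P0) := by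
          simp only [← mul_smul]; congr 1; group
      _ = (n : G) • P0 := by rw [h2]
  -- the stabilizer of P0 in N is Q
  have hstab : Nat.card ↥(MulAction.stabilizer ↥N P0) = 5 := by
    have hA := h7_lemmaA hs hc P0 (h11 P0) (Q : Subgroup G) hQc h0
    have h1 : MulAction.stabilizer ↥N P0 =
        (N ⊓ normalizer ((P0 : Subgroup G) : Set G)).subgroupOf N := by
      ext n
      rw [MulAction.mem_stabilizer_iff, mem_subgroupOf, Subgroup.mem_inf, Subgroup.smul_def,
        h7_smul_eq_iff]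
      exact ⟨fun h => ⟨n.2, h⟩, fun h => h.2⟩
    rw [h1, hA,
      Nat.card_congr (Subgroup.subgroupOfEquivOfLe (le_normalizer : (Q : Subgroup G) ≤ N)).toEquiv]
    exact hQc
  have hk : Nat.card ↥N = 5 * (MulAction.orbit ↥N P0).ncard := by
    have := Subgroup.card_mul_index (MulAction.stabilizer ↥N P0)
    rw [MulAction.index_stabilizer, hstab] at this
    exact this.symm
  have hkle : (MulAction.orbit ↥N P0).ncard ≤ 14 :=
    (Set.ncard_le_ncard horb (Set.toFinite _)).trans hFle
  -- Sylow count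
  have hn5 : Nat.card (Sylow 5 G) ≡ 1 [MOD 5] := card_sylow_modEq_one 5 G
  have hidx : Nat.card (Sylow 5 G) = N.index := Sylow.card_eq_index_normalizer Q
  have hmul := Subgroup.card_mul_index N
  rw [hc, hk] at hmul
  rw [hidx] at hn5
  have hn5' : N.index % 5 = 1 := by unfold Nat.ModEq at hn5; omega
  have hk49 : (MulAction.orbit ↥N P0).ncard = 4 ∨ (MulAction.orbit ↥N P0).ncard = 9 := by
    generalize (MulAction.orbit ↥N P0).ncard = k at hmul hkle
    generalize N.index = n5 at hmul hn5'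
    interval_cases k <;> omega
  rcases hk49 with h4 | h9
  · rw [hk, h4]
  · exfalso
    have hN45 : Nat.card ↥N = 45 := by rw [hk, h9]
    apply h7_not_normalizer_le_centralizer hs Q (by rw [hQc]; norm_num)
      (by rw [hQc, hc]; norm_num)
    have key := Subgroup.card_dvd_of_injective _
      (QuotientGroup.kerLift_injective (Q : Subgroup G).normalizerMonoidHom)
    rw [normalizerMonoidHom_ker, ← index, ← relIndex] at key
    have hcyc : IsCyclic ↥(Q : Subgroup G) := isCyclic_of_prime_card hQc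
    rw [IsCyclic.card_mulAut, hQc] at key
    have h4 : Nat.totient 5 = 4 := by decide
    rw [h4] at key
    have h45 : (centralizer ((Q : Subgroup G) : Set G)).relIndex N ∣ 45 :=
      hN45 ▸ relIndex_dvd_card _ _
    have hdvd := Nat.dvd_gcd key h45
    have hg : Nat.gcd 4 45 = 1 := by norm_num
    rw [hg, Nat.dvd_one] at hdvd
    exact relIndex_eq_one.mp hdvd

/-- a Sylow 5-subgroup of a group of order 7920 has order 5 -/
theorem h7_card_sylow5 {G : Type*} [Group G] [Finite G] (hc : Nat.card G = 7920)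
    (Q : Sylow 5 G) : Nat.card ↥(Q : Subgroup G) = 5 := by
  have hp5 : Fact (Nat.Prime 5) := ⟨by norm_num⟩
  exact h7_card_sylow_of_exact Q (by rw [hc]; norm_num) (by rw [hc]; norm_num)

end Cfsg.Agent.Helper2.M11
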