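import Mathlib
import Cfsg.Prelude.Def_Sporadic
import Cfsg.Agent.Helper3.M11_L1
import Cfsg.Agent.Helper7.M11_L2

/-!
# M11 cluster, piece L2 in the blueprint's shape (helper7)

Combines `Helper3/M11_L1.lean` (`card_normalizer_sylow11`) with `Helper7/M11_L2.lean`.
-/

set_option autoImplicit false

namespace Cfsg.Agent.Helper2.M11

/-- In a simple group of order 7920 the normalizer of a Sylow 5-subgroup has order 20. -/
theorem card_normalizer_sylow5_of_simple {G : Type*} [Group G] [Finite G] (hs : IsSimpleGroup G)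
    (hc : Nat.card G = 7920) (Q : Sylow 5 G) :
    Nat.card ↥(Subgroup.normalizer ((Q : Subgroup G) : Set G)) = 20 :=
  card_normalizer_sylow5 hs hc (fun P => card_normalizer_sylow11 hs hc P) Q

/-- Blueprint piece L2. -/
theorem sylow5 {G : Type*} [Group G] [Finite G] (hG : Cfsg.IsM11 G) (Q : Sylow 5 G) :
    Nat.card (Q : Subgroup G) = 5 ∧
    Nat.card (Subgroup.normalizer ((Q : Subgroup G) : Set G)) = 20 :=
  ⟨h7_card_sylow5 hG.2 Q, card_normalizer_sylow5_of_simple hG.1 hG.2 Q⟩

end Cfsg.Agent.Helper2.M11
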