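import Mathlib
import Cfsg.Prelude.Def_Sporadic
import Cfsg.Agent.Helper3.M11_L1
import Cfsg.Agent.Helper7.M11_L2

/-!
# M11 cluster (helper7): centralizers of elements of order prime to 55 have order dividing 144
-/

set_option autoImplicit false

namespace Cfsg.Agent.Helper2.M11

open Subgroup

/-- if `p` divides `|G|` exactly once and Sylow `p`-subgroups are self-centralizing, then `p` does
not divide `|C_G(x)|` for `x ≠ 1` of order prime to `p` -/
theorem h7_not_dvd_card_centralizer {G : Type*} [Group G] [Finite G] {p : ℕ} [Fact p.Prime]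
    (hp1 : p ∣ Nat.card G) (hp2 : ¬ p ^ 2 ∣ Nat.card G)
    (hC : ∀ Q : Sylow p G, centralizer ((Q : Subgroup G) : Set G) = (Q : Subgroup G))
    (x : G) (hx1 : x ≠ 1) (hxp : ¬ p ∣ orderOf x) :
    ¬ p ∣ Nat.card ↥(centralizer ({x} : Set G)) := by
  intro hdvd
  have hp : p.Prime := Fact.out
  obtain ⟨q, hq⟩ := exists_prime_orderOf_dvd_card' p hdvd
  have hq' : orderOf (q : G) = p := by rw [Subgroup.orderOf_coe]; exact hq
  have hcomm : Commute (q : G) x := by
    have := q.2
    rw [mem_centralizer_iff] at this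
    exact (this x (Set.mem_singleton x)).symm
  have hzc : Nat.card ↥(zpowers (q : G)) = p := by rw [Nat.card_zpowers, hq']
  have hpg : IsPGroup p ↥(zpowers (q : G)) := IsPGroup.of_card (n := 1) (by rw [hzc, pow_one])
  obtain ⟨Q, hQ⟩ := hpg.exists_le_sylow
  have hQc : Nat.card ↥(Q : Subgroup G) = p := h7_card_sylow_of_exact Q hp1 hp2
  have hQeq : zpowers (q : G) = (Q : Subgroup G) :=
    Subgroup.eq_of_le_of_card_ge hQ (by rw [hQc, hzc])
  have hxQ : x ∈ (Q : Subgroup G) := by
    rw [← hC Q, mem_centralizer_iff]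
    intro y hy
    have hy' : y ∈ zpowers (q : G) := by rw [hQeq]; exact hy
    obtain ⟨n, rfl⟩ := mem_zpowers_iff.mp hy'
    exact (hcomm.zpow_left n).eq
  have hord : orderOf x ∣ p := by
    have h1 : orderOf (⟨x, hxQ⟩ : ↥(Q : Subgroup G)) ∣ Nat.card ↥(Q : Subgroup G) :=
      orderOf_dvd_natCard _
    rw [hQc, Subgroup.orderOf_mk] at h1
    exact h1
  rcases (Nat.dvd_prime hp).mp hord with h | h
  · exact hx1 (orderOf_eq_one_iff.mp h)
  · exact hxp (by rw [h])

/-- In a simple group of order 7920 with self-centralizing Sylow 5-subgroups, the centralizer of a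
nontrivial element of order prime to 55 has order dividing 144. -/
theorem card_centralizer_dvd_144 {G : Type*} [Group G] [Finite G] (hG : Cfsg.IsM11 G)
    (hC5 : ∀ Q : Sylow 5 G, centralizer ((Q : Subgroup G) : Set G) = (Q : Subgroup G))
    (x : G) (hx1 : x ≠ 1) (hx5 : ¬ 5 ∣ orderOf x) (hx11 : ¬ 11 ∣ orderOf x) :
    Nat.card ↥(centralizer ({x} : Set G)) ∣ 144 := by
  have hp11 : Fact (Nat.Prime 11) := ⟨by norm_num⟩
  have hp5 : Fact (Nat.Prime 5) := ⟨by norm_num⟩
  obtain ⟨hs, hc⟩ := hG
  have h5 := h7_not_dvd_card_centralizer (p := 5) (by rw [hc]; norm_num) (by rw [hc]; norm_num)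
    hC5 x hx1 hx5
  have h11 := h7_not_dvd_card_centralizer (p := 11) (by rw [hc]; norm_num) (by rw [hc]; norm_num)
    (fun P => centralizer_sylow11 hs hc P) x hx1 hx11
  have hdvd : Nat.card ↥(centralizer ({x} : Set G)) ∣ 7920 := by
    rw [← hc]; exact Subgroup.card_subgroup_dvd_card _
  have hcop5 : Nat.Coprime (Nat.card ↥(centralizer ({x} : Set G))) 5 :=
    (Nat.Coprime.symm ((Nat.Prime.coprime_iff_not_dvd (by norm_num)).mpr h5))
  have hcop11 : Nat.Coprime (Nat.card ↥(centralizer ({x} : Set G))) 11 :=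
    (Nat.Coprime.symm ((Nat.Prime.coprime_iff_not_dvd (by norm_num)).mpr h11))
  have hcop : Nat.Coprime (Nat.card ↥(centralizer ({x} : Set G))) 55 := by
    have := Nat.Coprime.mul_right hcop5 hcop11
    simpa using this
  have h7920 : (7920 : ℕ) = 144 * 55 := by norm_num
  rw [h7920] at hdvd
  exact hcop.dvd_of_dvd_mul_right hdvd

/-- the involution case -/
theorem card_centralizer_involution_dvd_144 {G : Type*} [Group G] [Finite G] (hG : Cfsg.IsM11 G)
    (hC5 : ∀ Q : Sylow 5 G, centralizer ((Q : Subgroup G) : Set G) = (Q : Subgroup G))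
    (u : G) (hu : orderOf u = 2) :
    Nat.card ↥(centralizer ({u} : Set G)) ∣ 144 := by
  apply card_centralizer_dvd_144 hG hC5 u
  · intro h; rw [h, orderOf_one] at hu; omega
  · rw [hu]; norm_num
  · rw [hu]; norm_num

end Cfsg.Agent.Helper2.M11
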