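import Mathlib

set_option autoImplicit false

/-!
Definitions for the proof of S4017 (shared by all pieces; definitions only).
-/

namespace Cfsg.Agent.Helper7.S4017

universe u

/-- the hypotheses of S4017, bundled -/
def Hyp (G : Type u) [Group G] [Finite G] (p q : ℕ) : Prop :=
  p.Prime ∧ q.Prime ∧ p ≠ q ∧ p ≠ 2 ∧ p ∣ Nat.card G ∧ q ∣ Nat.card G ∧
  (∀ H : Subgroup G, H ≠ ⊤ → ¬ IsPGroup q H → q ∣ Nat.card H → p ∣ Nat.card H) ∧
  (q ^ (Nat.card G).factorization q - 1 < p ∨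
    (p = q ^ (Nat.card G).factorization q - 1 ∧ ∀ P : Sylow p G, IsMulCommutative P))

/-- every proper subgroup of order divisible by `q` is a `{p,q}`-group -/
def H1 (G : Type u) [Group G] [Finite G] (p q : ℕ) : Prop :=
  ∀ H : Subgroup G, H ≠ ⊤ → q ∣ Nat.card H → ∀ ℓ : ℕ, ℓ.Prime → ℓ ∣ Nat.card H → ℓ = p ∨ ℓ = q

/-- the conclusion of S4017 -/
def Concl (G : Type u) [Group G] [Finite G] (p q : ℕ) : Prop :=
  ∀ r : ℕ, r.Prime → r ∣ Nat.card G → r = p ∨ r = q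

variable {G : Type u} [Group G]

/-- `x` is an involution -/
def IsInv (x : G) : Prop := x ≠ 1 ∧ x * x = 1

/-- `x` is a `p`-element -/
def IsPElt (p : ℕ) (x : G) : Prop := ∃ k : ℕ, orderOf x = p ^ k

/-- the centralizer of the element `t` -/
def Cent (t : G) : Subgroup G := Subgroup.centralizer ({t} : Set G)

/-- the subgroup generated by the `p`-elements of `C(t)` (it will be `O_p(C(t))`) -/
def Dsub (p : ℕ) (t : G) : Subgroup G :=
  Subgroup.closure {x : G | x ∈ Cent t ∧ IsPElt p x}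

/-- the normalizer of `Dsub p t` -/
def Msub (p : ℕ) (t : G) : Subgroup G :=
  Subgroup.normalizer ((Dsub p t : Subgroup G) : Set G)

/-- A minimal counterexample in case 2 of S4017 (after the reductions):
`q = 2`, `p = 2^a - 1`, `G` simple, abelian Sylow `p`-subgroups, every proper subgroup of even
order is a `{2,p}`-group, a third prime divides `|G|`, and a Sylow 2-subgroup `Q` of exponent 2
on whose non-identity elements a `p`-element `y` of its normalizer acts transitively. -/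
structure MinCE (G : Type u) [Group G] [Finite G] (p a : ℕ) : Prop where
  hp : p.Prime
  ha : 2 ≤ a
  hpa : p + 1 = 2 ^ a
  hsimple : ∀ N : Subgroup G, N.Normal → N = ⊥ ∨ N = ⊤
  hr : ∃ r : ℕ, r.Prime ∧ r ≠ 2 ∧ r ≠ p ∧ r ∣ Nat.card G
  hpG : p ∣ Nat.card G
  h2 : (Nat.card G).factorization 2 = a
  hH1 : ∀ H : Subgroup G, H ≠ ⊤ → 2 ∣ Nat.card H →
    ∀ ℓ : ℕ, ℓ.Prime → ℓ ∣ Nat.card H → ℓ = 2 ∨ ℓ = p
  hab : ∀ P : Sylow p G, ∀ x ∈ P, ∀ y ∈ P, x * y = y * x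
  hQ : ∃ (Q : Sylow 2 G) (y : G),
    y ∈ Subgroup.normalizer ((Q : Subgroup G) : Set G) ∧ IsPElt p y ∧
    (∀ x ∈ Q, x * x = 1) ∧
    ∀ s ∈ Q, s ≠ 1 → ∀ t ∈ Q, t ≠ 1 → ∃ j : ℕ, y ^ j * s * (y ^ j)⁻¹ = t

/-- first bundle of derived facts -/
structure FactsA (G : Type u) [Group G] [Finite G] (p a : ℕ) : Prop where
  two_exp : ∀ T : Subgroup G, IsPGroup 2 T → ∀ x ∈ T, x * x = 1
  inv_conj : ∀ s t : G, IsInv s → IsInv t → ∃ g : G, g * s * g⁻¹ = t
  norm_ne_top : ∀ X : Subgroup G, X ≠ ⊥ → X ≠ ⊤ → Subgroup.normalizer (X : Set G) ≠ ⊤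
  cent_ne_top : ∀ x : G, x ≠ 1 → Cent x ≠ ⊤
  syl2_fix : ∀ (Q : Sylow 2 G) (z : G), z ∈ Subgroup.normalizer ((Q : Subgroup G) : Set G) →
    ∀ t ∈ Q, t ≠ 1 → z * t * z⁻¹ = t → ∀ x ∈ Q, z * x * z⁻¹ = x

/-- second bundle of derived facts: structure of involution centralizers -/
structure FactsB (G : Type u) [Group G] [Finite G] (p a : ℕ) : Prop where
  dsub_pgroup : ∀ t : G, IsInv t → IsPGroup p (Dsub p t)
  cent_card : ∀ t : G, IsInv t → Nat.card (Cent t) = 2 ^ a * Nat.card (Dsub p t)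

/-- the `P ⊴ Y` or `T ⊴ Y` dichotomy for `{2,p}`-subgroups `Y = T P` (from Itô's theorem) -/
def Dichotomy (G : Type u) [Group G] [Finite G] (p a : ℕ) : Prop :=
  ∀ (Y : Subgroup G) (P : Sylow p G) (T : Subgroup G), (P : Subgroup G) ≤ Y → T ≤ Y →
    IsPGroup 2 T → Nat.card Y = Nat.card T * Nat.card P →
    (∀ g ∈ Y, ∀ x ∈ (P : Subgroup G), g * x * g⁻¹ ∈ (P : Subgroup G)) ∨
    (Nat.card T = 2 ^ a ∧ ∀ g ∈ Y, ∀ x ∈ T, g * x * g⁻¹ ∈ T)

end Cfsg.Agent.Helper7.S4017
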