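import Mathlib
import Cfsg.Agent.Helper7.SLMaxA

set_option autoImplicit false

/-! # Symplectic forms given as functions: covectors, transvections, proportionality -/

namespace Cfsg.Agent.Helper7.SLMax

open Matrix Cfsg Cfsg.Geo Cfsg.Agent.Helper7.TGL Cfsg.Agent.Helper7.PMax

variable {ι : Type} [Fintype ι] [DecidableEq ι] {F : Type*} [Field F]
variable {f : (ι → F) → (ι → F) → F}

/-- The covector of `x ↦ f x u`. -/
def cov (f : (ι → F) → (ι → F) → F) (u : ι → F) : ι → F := fun i => f (Pi.single i 1) u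

theorem cov_dot (hf : IsBilinearForm f) (u x : ι → F) : cov f u ⬝ᵥ x = f x u := by
  let L : (ι → F) →ₗ[F] F :=
    { toFun := fun x => f x u
      map_add' := fun x y => hf.add_left x y u
      map_smul' := fun c x => hf.smul_left c x u }
  let L' : (ι → F) →ₗ[F] F :=
    { toFun := fun x => cov f u ⬝ᵥ x
      map_add' := fun x y => dotProduct_add _ x y
      map_smul' := fun c x => dotProduct_smul c _ x }
  have : L' = L := by
    apply LinearMap.pi_ext
    intro i c
    change cov f u ⬝ᵥ Pi.single i c = f (Pi.single i c) u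
    rw [dotProduct_single]
    have : (Pi.single i c : ι → F) = c • Pi.single i 1 := by
      rw [← Pi.single_smul, smul_eq_mul, mul_one]
    rw [this, hf.smul_left, mul_comm]
    rfl
  exact LinearMap.congr_fun this x

theorem form_zero_left (hf : IsBilinearForm f) (v : ι → F) : f 0 v = 0 := by
  have := hf.smul_left 0 0 v
  rw [zero_smul, zero_mul] at this
  exact this

theorem form_zero_right (hf : IsBilinearForm f) (v : ι → F) : f v 0 = 0 := by
  have := hf.smul_right 0 v 0
  rw [zero_smul, zero_mul] at this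
  exact this

theorem form_neg_left (hf : IsBilinearForm f) (x v : ι → F) : f (-x) v = -f x v := by
  have := hf.smul_left (-1) x v
  rw [neg_one_smul, neg_one_mul] at this
  exact this

theorem form_neg_right (hf : IsBilinearForm f) (v x : ι → F) : f v (-x) = -f v x := by
  have := hf.smul_right (-1) v x
  rw [neg_one_smul, neg_one_mul] at this
  exact this

theorem form_sub_left (hf : IsBilinearForm f) (x y v : ι → F) : f (x - y) v = f x v - f y v := by
  rw [sub_eq_add_neg, hf.add_left, form_neg_left hf, ← sub_eq_add_neg]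

theorem form_sub_right (hf : IsBilinearForm f) (v x y : ι → F) : f v (x - y) = f v x - f v y := by
  rw [sub_eq_add_neg, hf.add_right, form_neg_right hf, ← sub_eq_add_neg]

theorem cov_add (hf : IsBilinearForm f) (u u' : ι → F) : cov f (u + u') = cov f u + cov f u' := by
  funext i
  exact hf.add_right _ u u'

theorem cov_smul (hf : IsBilinearForm f) (c : F) (u : ι → F) : cov f (c • u) = c • cov f u := by
  funext i
  exact hf.smul_right c _ u

theorem cov_neg (hf : IsBilinearForm f) (u : ι → F) : cov f (-u) = -cov f u := by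
  funext i
  exact form_neg_right hf _ u

/-- Every covector is represented by the form. -/
theorem exists_cov_eq (hf : IsSymplecticForm f) (φ : ι → F) : ∃ w, cov f w = φ := by
  let B : LinearMap.BilinForm F (ι → F) :=
    LinearMap.mk₂ F f hf.bilinear.add_left hf.bilinear.smul_left hf.bilinear.add_right
      hf.bilinear.smul_right
  have hB : B.flip.Nondegenerate := by
    constructor
    · intro x hx
      by_contra hx0
      obtain ⟨y, hy⟩ := (hf.nondegenerate x hx0).1
      exact hy (hx y)
    · intro x hx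
      by_contra hx0
      obtain ⟨y, hy⟩ := (hf.nondegenerate x hx0).2
      exact hy (hx y)
  let ψ : Module.Dual F (ι → F) :=
    { toFun := fun x => φ ⬝ᵥ x
      map_add' := fun x y => dotProduct_add _ x y
      map_smul' := fun c x => dotProduct_smul c _ x }
  refine ⟨(B.flip.toDual hB).symm ψ, ?_⟩
  apply covec_ext
  intro x
  rw [cov_dot hf.bilinear]
  have := LinearMap.BilinForm.apply_toDual_symm_apply (B := B.flip) (hB := hB) ψ x
  exact this

/-- The symplectic transvection `x ↦ x + c f(x,v) v`. -/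
def tf (hf : IsSymplecticForm f) (v : ι → F) (c : F) : GL ι F :=
  tau v (c • cov f v) (by rw [smul_dotProduct, cov_dot hf.bilinear, hf.alternating, smul_zero])

theorem tf_mulVec (hf : IsSymplecticForm f) (v : ι → F) (c : F) (x : ι → F) :
    (tf hf v c : Matrix ι ι F) *ᵥ x = x + (c * f x v) • v := by
  unfold tf
  rw [tau_mulVec, smul_dotProduct, cov_dot hf.bilinear, smul_eq_mul]

theorem tf_mem (hf : IsSymplecticForm f) (v : ι → F) (c : F) :
    tf hf v c ∈ similarityGroup f ⊓ specialLinear ι F := by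
  refine ⟨⟨1, fun u w => ?_⟩, tau_mem_specialLinear _ _ _⟩
  rw [tf_mulVec, tf_mulVec, hf.bilinear.add_left, hf.bilinear.add_right, hf.bilinear.add_right,
    hf.bilinear.smul_left, hf.bilinear.smul_left, hf.bilinear.smul_right, hf.bilinear.smul_right,
    hf.alternating, hf.skew v w, Units.val_one]
  ring

/-- Transitivity of the group generated by symplectic transvections on non-zero vectors. -/
theorem exists_tf_move (hf : IsSymplecticForm f) {u u' : ι → F} (hu : u ≠ 0) (hu' : u' ≠ 0) :
    ∃ h ∈ similarityGroup f ⊓ specialLinear ι F, (h : Matrix ι ι F) *ᵥ u = u' := by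
  have hb := hf.bilinear
  have step : ∀ a a' : ι → F, f a a' ≠ 0 →
      (tf hf (a - a') (f a a')⁻¹ : Matrix ι ι F) *ᵥ a = a' := by
    intro a a' h
    rw [tf_mulVec, form_sub_right hb, hf.alternating, zero_sub, mul_neg, inv_mul_cancel₀ h, neg_smul,
      one_smul]
    abel
  by_cases h : f u u' ≠ 0
  · exact ⟨_, tf_mem hf _ _, step u u' h⟩
  push Not at h
  obtain ⟨a, ha⟩ := (hf.nondegenerate u hu).2
  obtain ⟨b, hb'⟩ := (hf.nondegenerate u' hu').1
  have hz : ∃ z, f u z ≠ 0 ∧ f z u' ≠ 0 := by
    by_cases h1 : f a u' ≠ 0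
    · exact ⟨a, ha, h1⟩
    push Not at h1
    by_cases h2 : f u b ≠ 0
    · exact ⟨b, h2, hb'⟩
    push Not at h2
    refine ⟨a + b, ?_, ?_⟩
    · rw [hb.add_right, h2, add_zero]; exact ha
    · rw [hb.add_left, h1, zero_add]; exact hb'
  obtain ⟨z, hz1, hz2⟩ := hz
  refine ⟨tf hf (z - u') (f z u')⁻¹ * tf hf (u - z) (f u z)⁻¹,
    Subgroup.mul_mem _ (tf_mem hf _ _) (tf_mem hf _ _), ?_⟩
  rw [gl_mul_mulVec, step u z hz1, step z u' hz2]

/-- Two symplectic forms with nested "perpendicularity" are proportional. -/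
theorem proportional_of_perp [Nonempty ι] {f' : (ι → F) → (ι → F) → F} (hf : IsSymplecticForm f)
    (hf' : IsSymplecticForm f') (hstar : ∀ v w, f' v w = 0 → f w v = 0) :
    ∃ c : F, c ≠ 0 ∧ ∀ x y, f x y = c * f' x y := by
  have hb := hf.bilinear
  have hb' := hf'.bilinear
  -- rows
  have hrow : ∀ v w₀, f' v w₀ = 1 → ∀ w, f v w = f' v w * f v w₀ := by
    intro v w₀ h1 w
    have h0 : f' v (w - f' v w • w₀) = 0 := by
      rw [form_sub_right hb', hb'.smul_right, h1, mul_one, sub_self]
    have := hstar _ _ h0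
    rw [form_sub_left hb, hb.smul_left, hf.skew w v, hf.skew w₀ v] at this
    linear_combination -this
  -- columns
  have hcol : ∀ w v₀, f' v₀ w = 1 → ∀ v, f v w = f' v w * f v₀ w := by
    intro w v₀ h1 v
    have h0 : f' (v - f' v w • v₀) w = 0 := by
      rw [form_sub_left hb', hb'.smul_left, h1, mul_one, sub_self]
    have := hstar _ _ h0
    rw [form_sub_right hb, hb.smul_right, hf.skew w v, hf.skew w v₀] at this
    linear_combination -this
  obtain ⟨i₀⟩ := (inferInstance : Nonempty ι)
  have hv₁ : (Pi.single i₀ 1 : ι → F) ≠ 0 := by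
    intro h
    have := congrFun h i₀
    rw [Pi.single_eq_same] at this
    exact one_ne_zero this
  set v₁ : ι → F := Pi.single i₀ 1 with hv₁def
  obtain ⟨w₁', hw₁'⟩ := (hf'.nondegenerate v₁ hv₁).2
  set w₁ : ι → F := (f' v₁ w₁')⁻¹ • w₁' with hw₁def
  have hw₁ : f' v₁ w₁ = 1 := by
    rw [hw₁def, hb'.smul_right, inv_mul_cancel₀ hw₁']
  refine ⟨f v₁ w₁, ?_, ?_⟩
  · intro hc
    obtain ⟨y, hy⟩ := (hf.nondegenerate v₁ hv₁).2
    apply hy
    rw [hrow v₁ w₁ hw₁ y, hc, mul_zero]
  · intro v w
    by_cases hvw : f' v w = 0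
    · rw [hvw, mul_zero, hf.skew, hstar v w hvw, neg_zero]
    have hv0 : v ≠ 0 := by
      rintro rfl
      exact hvw (form_zero_left hb' w)
    -- a common column
    obtain ⟨a₁, ha₁⟩ := (hf'.nondegenerate v₁ hv₁).2
    obtain ⟨a₂, ha₂⟩ := (hf'.nondegenerate v hv0).2
    have hw' : ∃ w', f' v₁ w' ≠ 0 ∧ f' v w' ≠ 0 := by
      by_cases h1 : f' v a₁ ≠ 0
      · exact ⟨a₁, ha₁, h1⟩
      push Not at h1
      by_cases h2 : f' v₁ a₂ ≠ 0
      · exact ⟨a₂, h2, ha₂⟩
      push Not at h2
      refine ⟨a₁ + a₂, ?_, ?_⟩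
      · rw [hb'.add_right, h2, add_zero]; exact ha₁
      · rw [hb'.add_right, h1, zero_add]; exact ha₂
    obtain ⟨w', hw'1, hw'2⟩ := hw'
    -- row of `v`
    have hr := hrow v ((f' v w)⁻¹ • w) (by rw [hb'.smul_right, inv_mul_cancel₀ hvw])
    -- column of `w'`
    have hc := hcol w' ((f' v₁ w')⁻¹ • v₁) (by rw [hb'.smul_left, inv_mul_cancel₀ hw'1])
    have e1 := hr w'
    have e2 := hc v
    have e3 := hrow v₁ w₁ hw₁ w'
    have e4 := hr w
    rw [hb.smul_right] at e1 e4
    rw [hb.smul_left, e3] at e2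
    -- `μ = c`
    have hμ : (f' v w)⁻¹ * f v w = f v₁ w₁ := by
      have : f' v w' * ((f' v w)⁻¹ * f v w) = f' v w' * f v₁ w₁ := by
        rw [← e1, e2]
        field_simp
      exact mul_left_cancel₀ hw'2 this
    rw [← hμ]
    field_simp

end Cfsg.Agent.Helper7.SLMax
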