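import Mathlib
import Cfsg.Agent.Helper7.SLMaxB

set_option autoImplicit false

/-! # The normaliser of the symplectic group is maximal in `SL_n(F)` -/

namespace Cfsg.Agent.Helper7.SLMax

open Matrix Cfsg Cfsg.Geo Cfsg.Agent.Helper7.TGL Cfsg.Agent.Helper7.PMax

variable {ι : Type} [Fintype ι] [DecidableEq ι] {F : Type*} [Field F]
variable {f : (ι → F) → (ι → F) → F}

/-- The form transported by `g`. -/
def pull (f : (ι → F) → (ι → F) → F) (g : GL ι F) (x y : ι → F) : F :=
  f (((g⁻¹ : GL ι F) : Matrix ι ι F) *ᵥ x) (((g⁻¹ : GL ι F) : Matrix ι ι F) *ᵥ y)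

theorem pull_symplectic (hf : IsSymplecticForm f) (g : GL ι F) : IsSymplecticForm (pull f g) := by
  have hne : ∀ v : ι → F, v ≠ 0 → ((g⁻¹ : GL ι F) : Matrix ι ι F) *ᵥ v ≠ 0 := by
    intro v hv h
    apply hv
    have := gl_mulVec_inv g v
    rw [h, mulVec_zero] at this
    exact this.symm
  refine ⟨⟨?_, ?_, ?_, ?_⟩, ?_, ?_, ?_⟩
  · intro x y v
    unfold pull
    rw [mulVec_add, hf.bilinear.add_left]
  · intro c x v
    unfold pull
    rw [mulVec_smul, hf.bilinear.smul_left]
  · intro v x y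
    unfold pull
    rw [mulVec_add, hf.bilinear.add_right]
  · intro c v x
    unfold pull
    rw [mulVec_smul, hf.bilinear.smul_right]
  · intro v w
    exact hf.skew _ _
  · intro v
    exact hf.alternating _
  · intro v hv
    obtain ⟨⟨x, hx⟩, ⟨y, hy⟩⟩ := hf.nondegenerate _ (hne v hv)
    refine ⟨⟨(g : Matrix ι ι F) *ᵥ x, ?_⟩, ⟨(g : Matrix ι ι F) *ᵥ y, ?_⟩⟩
    · unfold pull
      rw [gl_inv_mulVec]
      exact hx
    · unfold pull
      rw [gl_inv_mulVec]
      exact hy

/-- The transvections of the transported form are conjugates. -/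
theorem tf_pull (hf : IsSymplecticForm f) (g : GL ι F) (w : ι → F) (c : F) :
    tf (pull_symplectic hf g) w c = g * tf hf (((g⁻¹ : GL ι F) : Matrix ι ι F) *ᵥ w) c * g⁻¹ := by
  apply gl_ext
  intro x
  rw [gl_mul_mulVec, gl_mul_mulVec, tf_mulVec, tf_mulVec, mulVec_add, mulVec_smul, gl_mulVec_inv,
    gl_mulVec_inv]
  rfl

/-- The main lemma: a subgroup containing the determinant-one similarities of `f` and an element that is
not a similarity contains the special linear group. -/
theorem specialLinear_le_of_not_sim [Nontrivial ι] (hf : IsSymplecticForm f) (X : Subgroup (GL ι F))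
    (hX : similarityGroup f ⊓ specialLinear ι F ≤ X) {g : GL ι F} (hg : g ∈ X)
    (hgs : g ∉ similarityGroup f) : specialLinear ι F ≤ X := by
  have hb := hf.bilinear
  set f' := pull f g with hf'def
  have hf' : IsSymplecticForm f' := pull_symplectic hf g
  have hb' := hf'.bilinear
  -- the transvections of both forms lie in `X`
  have h1 : ∀ v c, tf hf v c ∈ X := fun v c => hX (tf_mem hf v c)
  have h2 : ∀ w c, tf hf' w c ∈ X := by
    intro w c
    rw [tf_pull hf g w c]
    exact X.mul_mem (X.mul_mem hg (h1 _ _)) (X.inv_mem hg)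
  -- the forms are not proportional
  have hnp : ¬ ∃ c : F, c ≠ 0 ∧ ∀ x y, f x y = c * f' x y := by
    rintro ⟨c, hc0, hc⟩
    apply hgs
    refine ⟨Units.mk0 c hc0, fun u v => ?_⟩
    rw [Units.val_mk0, hc, hf'def]
    unfold pull
    rw [gl_inv_mulVec, gl_inv_mulVec]
  have hgood : ∃ v w, f' v w = 0 ∧ f w v ≠ 0 := by
    by_contra hcon
    push Not at hcon
    exact hnp (proportional_of_perp hf hf' hcon)
  obtain ⟨v₀, w₁, hw₁0, hw₁⟩ := hgood
  -- step: commutators
  have hstep : ∀ w, f' v₀ w = 0 → f w v₀ ≠ 0 →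
      ∀ h : cov f' w ⬝ᵥ v₀ = 0, tau v₀ (cov f' w) h ∈ X := by
    intro w hw0 hw h
    have hA := h1 v₀ (f w v₀)⁻¹
    have hB := h2 w 1
    unfold tf at hA hB
    have hcomm := tau_comm v₀ ((f w v₀)⁻¹ • cov f v₀) w ((1 : F) • cov f' w)
      (by rw [smul_dotProduct, cov_dot hb, hf.alternating, smul_zero])
      (by rw [smul_dotProduct, cov_dot hb', hf'.alternating, smul_zero])
      (by rw [one_smul]; exact h)
    have hmem : tau v₀ (((f w v₀)⁻¹ • cov f v₀ ⬝ᵥ w) • (1 : F) • cov f' w)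
        (by rw [smul_dotProduct, one_smul, h, smul_zero]) ∈ X := by
      rw [← hcomm]
      exact X.mul_mem (X.mul_mem (X.mul_mem hA hB) (X.inv_mem hA)) (X.inv_mem hB)
    have e : ((f w v₀)⁻¹ • cov f v₀ ⬝ᵥ w) • (1 : F) • cov f' w = cov f' w := by
      rw [smul_dotProduct, cov_dot hb, smul_eq_mul, inv_mul_cancel₀ hw, one_smul, one_smul]
    simp only [e] at hmem
    exact hmem
  -- all transvections with centre `v₀`
  have hv₀ : ∀ φ : ι → F, ∀ h : φ ⬝ᵥ v₀ = 0, tau v₀ φ h ∈ X := by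
    intro φ h
    obtain ⟨w, rfl⟩ := exists_cov_eq hf' φ
    have hw0 : f' v₀ w = 0 := by rw [← cov_dot hb']; exact h
    have hw₁c : cov f' w₁ ⬝ᵥ v₀ = 0 := by rw [cov_dot hb']; exact hw₁0
    by_cases hw : f w v₀ ≠ 0
    · exact hstep w hw0 hw h
    push Not at hw
    -- `w = (w + w₁) - w₁`
    have hsum0 : f' v₀ (w + w₁) = 0 := by rw [hb'.add_right, hw0, hw₁0, add_zero]
    have hsum : f (w + w₁) v₀ ≠ 0 := by rw [hb.add_left, hw, zero_add]; exact hw₁
    have hsumc : cov f' (w + w₁) ⬝ᵥ v₀ = 0 := by rw [cov_dot hb']; exact hsum0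
    have m1 := hstep (w + w₁) hsum0 hsum hsumc
    have m2 := X.inv_mem (hstep w₁ hw₁0 hw₁ hw₁c)
    rw [tau_inv] at m2
    have m3 := X.mul_mem m1 m2
    rw [tau_mul_tau] at m3
    have e : cov f' (w + w₁) + -cov f' w₁ = cov f' w := by
      rw [cov_add hb']; abel
    simp only [e] at m3
    exact m3
  have hv₀0 : v₀ ≠ 0 := by
    rintro rfl
    exact hw₁ (form_zero_right hb w₁)
  -- all transvections
  apply specialLinear_le_of_tau_mem
  intro v φ h
  by_cases hv : v = 0
  · subst hv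
    have : tau (0 : ι → F) φ h = 1 := by
      apply gl_ext
      intro x
      rw [tau_mulVec, smul_zero, add_zero, Units.val_one, one_mulVec]
    rw [this]
    exact X.one_mem
  obtain ⟨k, hk, hkv⟩ := exists_tf_move hf hv₀0 hv
  have hkX : k ∈ X := hX hk
  have h0 : (φ ᵥ* (k : Matrix ι ι F)) ⬝ᵥ v₀ = 0 := by
    rw [← dotProduct_mulVec, hkv, h]
  have m := hv₀ (φ ᵥ* (k : Matrix ι ι F)) h0
  have m' := X.mul_mem (X.mul_mem hkX m) (X.inv_mem hkX)
  rw [tau_conj'] at m'
  have e : (φ ᵥ* (k : Matrix ι ι F)) ᵥ* ((k⁻¹ : GL ι F) : Matrix ι ι F) = φ := by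
    rw [vecMul_vecMul, ← Units.val_mul, mul_inv_cancel, Units.val_one, vecMul_one]
  simp only [e, hkv] at m'
  exact m'

end Cfsg.Agent.Helper7.SLMax

namespace Cfsg.Agent.Helper7.SLMax

open Matrix Cfsg Cfsg.Geo Cfsg.Agent.Helper7.TGL Cfsg.Agent.Helper7.PMax

variable {ι : Type} [Fintype ι] [DecidableEq ι] {F : Type*} [Field F]
variable {f : (ι → F) → (ι → F) → F}

/-- Some element of the special linear group is not a similarity of `f`. -/
theorem exists_not_sim (hf : IsSymplecticForm f) (hcard : 3 ≤ Fintype.card ι) :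
    ∃ τ ∈ specialLinear ι F, τ ∉ similarityGroup f := by
  classical
  have hb := hf.bilinear
  have hne : Nonempty ι := by
    rw [← Fintype.card_pos_iff]; omega
  obtain ⟨i₀⟩ := hne
  have ha0 : (Pi.single i₀ 1 : ι → F) ≠ 0 := by
    intro h
    have := congrFun h i₀
    rw [Pi.single_eq_same] at this
    exact one_ne_zero this
  set a : ι → F := Pi.single i₀ 1 with hadef
  obtain ⟨b', hb'⟩ := (hf.nondegenerate a ha0).2
  obtain ⟨b, hbdef⟩ : ∃ b : ι → F, b = (f a b')⁻¹ • b' := ⟨_, rfl⟩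
  have hab : f a b = 1 := by rw [hbdef, hb.smul_right, inv_mul_cancel₀ hb']
  have hba : f b a = -1 := by rw [hf.skew, hab]
  -- a vector outside the span of `a`, `b`
  have hy₀ : ∃ y₀ : ι → F, y₀ ∉ Submodule.span F ({a, b} : Set (ι → F)) := by
    by_contra hcon
    push Not at hcon
    have htop : Submodule.span F ({a, b} : Set (ι → F)) = ⊤ := (Submodule.eq_top_iff').mpr hcon
    have h1 : Module.finrank F (Submodule.span F ({a, b} : Set (ι → F))) ≤ 2 := by
      have := finrank_span_finset_le_card (R := F) ({a, b} : Finset (ι → F))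
      have h2 : (({a, b} : Finset (ι → F)) : Set (ι → F)) = {a, b} := by simp
      rw [Set.finrank, h2] at this
      exact this.trans Finset.card_le_two
    rw [htop, finrank_top, Module.finrank_pi] at h1
    omega
  obtain ⟨y₀, hy₀⟩ := hy₀
  obtain ⟨y, hydef⟩ : ∃ y : ι → F, y = y₀ - f y₀ b • a + f y₀ a • b := ⟨_, rfl⟩
  have hya : f y a = 0 := by
    rw [hydef, hb.add_left, form_sub_left hb, hb.smul_left, hb.smul_left, hf.alternating, hba]
    ring
  have hyb : f y b = 0 := by
    rw [hydef, hb.add_left, form_sub_left hb, hb.smul_left, hb.smul_left, hf.alternating, hab]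
    ring
  have hy0 : y ≠ 0 := by
    intro h
    apply hy₀
    have : y₀ = f y₀ b • a - f y₀ a • b := by
      have h' : y₀ - f y₀ b • a + f y₀ a • b = 0 := by rw [← hydef]; exact h
      rw [← sub_eq_zero, ← h']; abel
    rw [this]
    exact Submodule.sub_mem _ (Submodule.smul_mem _ _ (Submodule.subset_span (by simp)))
      (Submodule.smul_mem _ _ (Submodule.subset_span (by simp)))
  obtain ⟨z₀', hz₀'⟩ := (hf.nondegenerate y hy0).2
  obtain ⟨z₀, hz₀def⟩ : ∃ z₀ : ι → F, z₀ = (f y z₀')⁻¹ • z₀' := ⟨_, rfl⟩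
  have hyz₀ : f y z₀ = 1 := by rw [hz₀def, hb.smul_right, inv_mul_cancel₀ hz₀']
  obtain ⟨z, hzdef⟩ : ∃ z : ι → F, z = z₀ - f z₀ b • a + f z₀ a • b := ⟨_, rfl⟩
  have hza : f z a = 0 := by
    rw [hzdef, hb.add_left, form_sub_left hb, hb.smul_left, hb.smul_left, hf.alternating, hba]
    ring
  have hzb : f z b = 0 := by
    rw [hzdef, hb.add_left, form_sub_left hb, hb.smul_left, hb.smul_left, hf.alternating, hab]
    ring
  have hyz : f y z = 1 := by
    rw [hzdef, hb.add_right, form_sub_right hb, hb.smul_right, hb.smul_right, hya, hyb, hyz₀]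
    ring
  have haz : f a z = 0 := by rw [hf.skew, hza, neg_zero]
  have hbz : f b z = 0 := by rw [hf.skew, hzb, neg_zero]
  have hτ0 : cov f z ⬝ᵥ a = 0 := by rw [cov_dot hb]; exact haz
  refine ⟨tau a (cov f z) hτ0, tau_mem_specialLinear _ _ _, ?_⟩
  rintro ⟨c, hc⟩
  have e1 := hc a b
  have e2 := hc y b
  rw [tau_mulVec, tau_mulVec, cov_dot hb, cov_dot hb, haz, hbz, zero_smul, add_zero, add_zero,
    hab, mul_one] at e1
  rw [tau_mulVec, tau_mulVec, cov_dot hb, cov_dot hb, hyz, hbz, zero_smul, one_smul, add_zero,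
    hb.add_left, hyb, hab, zero_add, mul_zero] at e2
  exact one_ne_zero e2

end Cfsg.Agent.Helper7.SLMax
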