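import Mathlib
import Cfsg.Agent.Helper7.SLMaxC
import Cfsg.Agent.Helper8.SpStabMain

set_option autoImplicit false
set_option linter.unusedSectionVars false

/-! The symplectic similarity group inside `SL_n(F)`: the bilinear map of a form function, and an
embedding of Mathlib's symplectic group (helper7). -/

namespace Cfsg.Agent.Helper7.SLSp

open Matrix Module Cfsg Cfsg.Geo Cfsg.Agent.Helper8.SpS Cfsg.Agent.Helper8.SpStab

variable {F : Type*} [Field F] {n : ℕ}

/-- the bilinear map of a bilinear form function. -/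
def toB {f : (Fin n → F) → (Fin n → F) → F} (hf : IsBilinearForm f) :
    (Fin n → F) →ₗ[F] (Fin n → F) →ₗ[F] F :=
  LinearMap.mk₂ F f hf.add_left hf.smul_left hf.add_right hf.smul_right

theorem toB_apply {f : (Fin n → F) → (Fin n → F) → F} (hf : IsBilinearForm f) (u v : Fin n → F) :
    toB hf u v = f u v := rfl

theorem toB_alt {f : (Fin n → F) → (Fin n → F) → F} (hf : IsSymplecticForm f) :
    Alt (toB hf.bilinear) := fun v => hf.alternating v

theorem toB_nondeg {f : (Fin n → F) → (Fin n → F) → F} (hf : IsSymplecticForm f) :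
    Nondeg (toB hf.bilinear) := by
  intro u hu
  by_contra h
  obtain ⟨-, ⟨x, hx⟩⟩ := hf.nondegenerate u h
  exact hx (hu x)

variable {k : ℕ}

/-- transport of a matrix in a basis of `F^n` to a matrix on `Fin n`. -/
noncomputable def theta (b : Basis (Fin k ⊕ Fin k) F (Fin n → F))
    (g : Matrix (Fin k ⊕ Fin k) (Fin k ⊕ Fin k) F) : Matrix (Fin n) (Fin n) F :=
  LinearMap.toMatrix' (Matrix.toLin b b g)

theorem theta_mul (b : Basis (Fin k ⊕ Fin k) F (Fin n → F))
    (g h : Matrix (Fin k ⊕ Fin k) (Fin k ⊕ Fin k) F) :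
    theta b (g * h) = theta b g * theta b h := by
  unfold theta
  rw [Matrix.toLin_mul b b b, LinearMap.toMatrix'_comp]

theorem theta_det (b : Basis (Fin k ⊕ Fin k) F (Fin n → F))
    (g : Matrix (Fin k ⊕ Fin k) (Fin k ⊕ Fin k) F) : (theta b g).det = g.det := by
  unfold theta
  rw [LinearMap.det_toMatrix', LinearMap.det_toLin]

theorem theta_injective (b : Basis (Fin k ⊕ Fin k) F (Fin n → F)) :
    Function.Injective (theta b) := by
  intro g h hgh
  unfold theta at hgh
  exact (Matrix.toLin b b).injective (LinearMap.toMatrix'.injective hgh)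

theorem theta_mulVec (b : Basis (Fin k ⊕ Fin k) F (Fin n → F))
    (g : Matrix (Fin k ⊕ Fin k) (Fin k ⊕ Fin k) F) (u : Fin n → F) :
    theta b g *ᵥ u = Matrix.toLin b b g u := by
  unfold theta
  rw [← Matrix.toLin'_apply, Matrix.toLin'_toMatrix']

theorem theta_preserves {f : (Fin n → F) → (Fin n → F) → F} (hf : IsSymplecticForm f)
    (b : Basis (Fin k ⊕ Fin k) F (Fin n → F))
    (hb : ∀ x y, toB hf.bilinear (b x) (b y) = Jent x y)
    (g : Matrix (Fin k ⊕ Fin k) (Fin k ⊕ Fin k) F) (hg : g ∈ symplecticGroup (Fin k) F)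
    (u v : Fin n → F) : f (theta b g *ᵥ u) (theta b g *ᵥ v) = f u v := by
  have hG : LinearMap.toMatrix₂ b b (toB hf.bilinear) = -J (Fin k) F := by
    ext x y
    rw [LinearMap.toMatrix₂_apply, hb, Jent_eq]
  have h1 : LinearMap.toMatrix₂ b b ((toB hf.bilinear).compl₁₂ (Matrix.toLin b b g)
      (Matrix.toLin b b g)) = LinearMap.toMatrix₂ b b (toB hf.bilinear) := by
    rw [LinearMap.toMatrix₂_compl₁₂ b b b b, LinearMap.toMatrix_toLin, hG]
    exact (neg_J_form_iff g).mpr hg
  have h2 := (LinearMap.toMatrix₂ b b).injective h1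
  have h3 := LinearMap.congr_fun (LinearMap.congr_fun h2 u) v
  rw [LinearMap.compl₁₂_apply] at h3
  rw [theta_mulVec, theta_mulVec]
  exact h3

/-- the embedding of the symplectic group. -/
noncomputable def psi (b : Basis (Fin k ⊕ Fin k) F (Fin n → F)) :
    symplecticGroup (Fin k) F →* SpecialLinearGroup (Fin n) F :=
  MonoidHom.mk' (fun g => ⟨theta b (g : Matrix (Fin k ⊕ Fin k) (Fin k ⊕ Fin k) F), by
    rw [theta_det]; exact SymplecticGroup.det_eq_one g.2⟩) (by
    intro g h
    apply Subtype.ext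
    exact theta_mul b _ _)

theorem psi_coe (b : Basis (Fin k ⊕ Fin k) F (Fin n → F)) (g : symplecticGroup (Fin k) F) :
    ((psi b g : SpecialLinearGroup (Fin n) F) : Matrix (Fin n) (Fin n) F) =
      theta b (g : Matrix (Fin k ⊕ Fin k) (Fin k ⊕ Fin k) F) := rfl

theorem psi_injective (b : Basis (Fin k ⊕ Fin k) F (Fin n → F)) :
    Function.Injective (psi b) := by
  intro g h hgh
  apply Subtype.ext
  apply theta_injective b
  rw [← psi_coe, ← psi_coe, hgh]

/-- the similarity subgroup of `SL_n`. -/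
abbrev simSL (f : (Fin n → F) → (Fin n → F) → F) : Subgroup (SpecialLinearGroup (Fin n) F) :=
  (similarityGroup f).comap (SpecialLinearGroup.toGL : SpecialLinearGroup (Fin n) F →* GL (Fin n) F)

theorem mem_simSL {f : (Fin n → F) → (Fin n → F) → F} {x : SpecialLinearGroup (Fin n) F} :
    x ∈ simSL f ↔ ∃ c : Fˣ, ∀ u v,
      f ((x : Matrix (Fin n) (Fin n) F) *ᵥ u) ((x : Matrix (Fin n) (Fin n) F) *ᵥ v) =
        (c : F) * f u v := Iff.rfl

theorem psi_range_le {f : (Fin n → F) → (Fin n → F) → F} (hf : IsSymplecticForm f)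
    (b : Basis (Fin k ⊕ Fin k) F (Fin n → F))
    (hb : ∀ x y, toB hf.bilinear (b x) (b y) = Jent x y) : (psi b).range ≤ simSL f := by
  rintro _ ⟨g, rfl⟩
  rw [mem_simSL]
  refine ⟨1, fun u v => ?_⟩
  rw [psi_coe, theta_preserves hf b hb _ g.2, Units.val_one, one_mul]

/-- the order of the symplectic group divides the order of the similarity subgroup. -/
theorem card_symp_dvd [Finite F] {f : (Fin n → F) → (Fin n → F) → F} (hf : IsSymplecticForm f) :
    ∃ k : ℕ, n = 2 * k ∧ Nat.card (symplecticGroup (Fin k) F) ∣ Nat.card (simSL f) := by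
  obtain ⟨k, b, hb⟩ := exists_symp_basis (toB hf.bilinear) (toB_alt hf) (toB_nondeg hf)
  refine ⟨k, ?_, ?_⟩
  · have h1 := Module.finrank_eq_card_basis b
    rw [Fintype.card_sum, Fintype.card_fin, Module.finrank_fin_fun] at h1
    omega
  · have h1 : Nat.card (symplecticGroup (Fin k) F) = Nat.card (psi b).range :=
      Nat.card_congr (MonoidHom.ofInjective (psi_injective b)).toEquiv
    rw [h1]
    exact Subgroup.card_dvd_of_le (psi_range_le hf b hb)

end Cfsg.Agent.Helper7.SLSp
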