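import Mathlib
import Cfsg.Agent.Helper7.SLSpA

set_option autoImplicit false
set_option linter.unusedSectionVars false

/-! Elements of `SL_n(F)` that are similarities of no symplectic form: the framework and the
unipotent element with one Jordan block of size three (helper7). -/

namespace Cfsg.Agent.Helper7.SLSp

open Matrix Module Cfsg Cfsg.Geo Cfsg.Agent.Helper7.SLMax

variable {F : Type*} [Field F] {n : ℕ}

/-- no symplectic form has `x` as a similarity. -/
def NoSim (x : Matrix (Fin n) (Fin n) F) : Prop :=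
  ∀ f' : (Fin n → F) → (Fin n → F) → F, IsSymplecticForm f' → ∀ c : Fˣ,
    ¬ ∀ u v, f' (x *ᵥ u) (x *ᵥ v) = (c : F) * f' u v

theorem not_mem_of_noSim {f : (Fin n → F) → (Fin n → F) → F} (hf : IsSymplecticForm f)
    (x : SpecialLinearGroup (Fin n) F) (hx : NoSim (x : Matrix (Fin n) (Fin n) F))
    (P : SpecialLinearGroup (Fin n) F) : P⁻¹ * x * P ∉ simSL f := by
  intro hmem
  rw [mem_simSL] at hmem
  obtain ⟨c, hc⟩ := hmem
  apply hx (pull f (SpecialLinearGroup.toGL P)) (pull_symplectic hf _) c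
  intro u v
  have e1 : (((SpecialLinearGroup.toGL P)⁻¹ : GL (Fin n) F) : Matrix (Fin n) (Fin n) F) =
      ((P⁻¹ : SpecialLinearGroup (Fin n) F) : Matrix (Fin n) (Fin n) F) := by
    rw [← map_inv]
    rfl
  have e2 : ((P⁻¹ * x * P : SpecialLinearGroup (Fin n) F) : Matrix (Fin n) (Fin n) F) *
      ((P⁻¹ : SpecialLinearGroup (Fin n) F) : Matrix (Fin n) (Fin n) F) =
      ((P⁻¹ : SpecialLinearGroup (Fin n) F) : Matrix (Fin n) (Fin n) F) *
        (x : Matrix (Fin n) (Fin n) F) := by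
    have e0 : (P⁻¹ * x * P) * P⁻¹ = P⁻¹ * x := by group
    have e3 := congrArg (fun y : SpecialLinearGroup (Fin n) F => (y : Matrix (Fin n) (Fin n) F)) e0
    simp only [Matrix.SpecialLinearGroup.coe_mul] at e3
    simp only [Matrix.SpecialLinearGroup.coe_mul]
    exact e3
  have h := hc (((P⁻¹ : SpecialLinearGroup (Fin n) F) : Matrix (Fin n) (Fin n) F) *ᵥ u)
    (((P⁻¹ : SpecialLinearGroup (Fin n) F) : Matrix (Fin n) (Fin n) F) *ᵥ v)
  rw [mulVec_mulVec, mulVec_mulVec, e2, ← mulVec_mulVec, ← mulVec_mulVec] at h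
  unfold pull
  rw [e1]
  exact h

/-- a standard basis vector. -/
def ev (i : Fin n) : Fin n → F := Pi.single i 1

theorem ev_ne_zero (i : Fin n) : (ev i : Fin n → F) ≠ 0 := by
  intro h
  have := congrFun h i
  rw [ev, Pi.single_eq_same] at this
  exact one_ne_zero this

/-- a standard basis vector cannot be in the radical. -/
theorem radical_contra {f' : (Fin n → F) → (Fin n → F) → F} (hf' : IsSymplecticForm f')
    (i0 : Fin n) (h : ∀ j, f' (ev i0) (ev j) = 0) : False := by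
  have h1 : cov f' (ev i0) = 0 := by
    funext j
    show f' (ev j) (ev i0) = 0
    rw [hf'.skew, h j, neg_zero]
  obtain ⟨⟨x, hx⟩, -⟩ := hf'.nondegenerate (ev i0) (ev_ne_zero i0)
  apply hx
  rw [← cov_dot hf'.bilinear, h1, zero_dotProduct]

/-- the unipotent matrix with one Jordan block of size three. -/
def j3 (i0 i1 i2 : Fin n) : Matrix (Fin n) (Fin n) F :=
  transvection i1 i2 1 * transvection i0 i1 1

theorem j3_det {i0 i1 i2 : Fin n} (h01 : i0 ≠ i1) (h12 : i1 ≠ i2) :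
    (j3 i0 i1 i2 : Matrix (Fin n) (Fin n) F).det = 1 := by
  unfold j3
  rw [det_mul, det_transvection_of_ne _ _ h12, det_transvection_of_ne _ _ h01, one_mul]

/-- the nilpotent part. -/
def n3 (i0 i1 i2 : Fin n) : Matrix (Fin n) (Fin n) F :=
  single i0 i1 1 + single i1 i2 1

theorem j3_eq {i0 i1 i2 : Fin n} (h02 : i0 ≠ i2) :
    (j3 i0 i1 i2 : Matrix (Fin n) (Fin n) F) = 1 + n3 i0 i1 i2 := by
  unfold j3 n3 transvection
  rw [add_mul, mul_add, mul_add, Matrix.one_mul, Matrix.mul_one, Matrix.one_mul,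
    single_mul_single_of_ne _ _ _ _ (Ne.symm h02)]
  abel

theorem n3_cube {i0 i1 i2 : Fin n} (h01 : i0 ≠ i1) (h12 : i1 ≠ i2) (h02 : i0 ≠ i2) :
    (n3 i0 i1 i2 : Matrix (Fin n) (Fin n) F) ^ 3 = 0 := by
  have h2 : (n3 i0 i1 i2 : Matrix (Fin n) (Fin n) F) * n3 i0 i1 i2 = single i0 i2 1 := by
    unfold n3
    rw [add_mul, mul_add, mul_add, single_mul_single_of_ne _ _ _ _ (Ne.symm h01),
      single_mul_single_same, single_mul_single_of_ne _ _ _ _ (Ne.symm h02),
      single_mul_single_of_ne _ _ _ _ (Ne.symm h12), mul_one]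
    abel
  rw [pow_succ, pow_two, h2]
  unfold n3
  rw [mul_add, single_mul_single_of_ne _ _ _ _ (Ne.symm h02),
    single_mul_single_of_ne _ _ _ _ (Ne.symm h12), add_zero]

theorem j3_pow {p : ℕ} [Fact p.Prime] [CharP F p] (hp : 3 ≤ p) {i0 i1 i2 : Fin n}
    (h01 : i0 ≠ i1) (h12 : i1 ≠ i2) (h02 : i0 ≠ i2) :
    (j3 i0 i1 i2 : Matrix (Fin n) (Fin n) F) ^ p = 1 := by
  have : Nonempty (Fin n) := ⟨i0⟩
  rw [j3_eq h02, add_pow_char_of_commute p (Commute.one_left _), one_pow]
  have : (n3 i0 i1 i2 : Matrix (Fin n) (Fin n) F) ^ p = 0 := by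
    have e : p = 3 + (p - 3) := by omega
    rw [e, pow_add, n3_cube h01 h12 h02, zero_mul]
  rw [this, add_zero]

theorem j3_mulVec {i0 i1 i2 : Fin n} (h02 : i0 ≠ i2) (w : Fin n → F) :
    (j3 i0 i1 i2 : Matrix (Fin n) (Fin n) F) *ᵥ w = w + w i1 • ev i0 + w i2 • ev i1 := by
  rw [j3_eq h02]
  unfold n3
  rw [add_mulVec, add_mulVec, one_mulVec, single_mulVec_eq, single_mulVec_eq, one_mul, one_mul,
    add_assoc]
  rfl

theorem j3_ev {i0 i1 i2 : Fin n} (h02 : i0 ≠ i2) (j : Fin n) (hj1 : j ≠ i1) (hj2 : j ≠ i2) :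
    (j3 i0 i1 i2 : Matrix (Fin n) (Fin n) F) *ᵥ ev j = ev j := by
  rw [j3_mulVec h02]
  have e1 : (ev j : Fin n → F) i1 = 0 := Pi.single_eq_of_ne (Ne.symm hj1) 1
  have e2 : (ev j : Fin n → F) i2 = 0 := Pi.single_eq_of_ne (Ne.symm hj2) 1
  rw [e1, e2, zero_smul, zero_smul, add_zero, add_zero]

theorem j3_ev1 {i0 i1 i2 : Fin n} (h12 : i1 ≠ i2) (h02 : i0 ≠ i2) :
    (j3 i0 i1 i2 : Matrix (Fin n) (Fin n) F) *ᵥ ev i1 = ev i1 + ev i0 := by
  rw [j3_mulVec h02]
  have e1 : (ev i1 : Fin n → F) i1 = 1 := Pi.single_eq_same i1 1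
  have e2 : (ev i1 : Fin n → F) i2 = 0 := Pi.single_eq_of_ne (Ne.symm h12) 1
  rw [e1, e2, zero_smul, one_smul, add_zero]

theorem j3_ev2 {i0 i1 i2 : Fin n} (h12 : i1 ≠ i2) (h02 : i0 ≠ i2) :
    (j3 i0 i1 i2 : Matrix (Fin n) (Fin n) F) *ᵥ ev i2 = ev i2 + ev i1 := by
  rw [j3_mulVec h02]
  have e1 : (ev i2 : Fin n → F) i1 = 0 := Pi.single_eq_of_ne h12 1
  have e2 : (ev i2 : Fin n → F) i2 = 1 := Pi.single_eq_same i2 1
  rw [e1, e2, zero_smul, one_smul, add_zero]

/-- the Jordan block of size three is a similarity of no symplectic form. -/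
theorem j3_noSim {i0 i1 i2 : Fin n} (h01 : i0 ≠ i1) (h12 : i1 ≠ i2) (h02 : i0 ≠ i2) :
    NoSim (j3 i0 i1 i2 : Matrix (Fin n) (Fin n) F) := by
  intro f' hf' c hc
  have hb := hf'.bilinear
  have h0 : (j3 i0 i1 i2 : Matrix (Fin n) (Fin n) F) *ᵥ ev i0 = ev i0 :=
    j3_ev h02 i0 h01 h02
  -- the three relations from `e₀`
  have ha : ∀ j, j ≠ i1 → j ≠ i2 → f' (ev i0) (ev j) = (c : F) * f' (ev i0) (ev j) := by
    intro j hj1 hj2
    have := hc (ev i0) (ev j)
    rw [h0, j3_ev h02 j hj1 hj2] at this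
    exact this
  have hb1 : f' (ev i0) (ev i1) = (c : F) * f' (ev i0) (ev i1) := by
    have := hc (ev i0) (ev i1)
    rw [h0, j3_ev1 h12 h02, hb.add_right, hf'.alternating, add_zero] at this
    exact this
  have hc2 : f' (ev i0) (ev i2) + f' (ev i0) (ev i1) = (c : F) * f' (ev i0) (ev i2) := by
    have := hc (ev i0) (ev i2)
    rw [h0, j3_ev2 h12 h02, hb.add_right] at this
    exact this
  apply radical_contra hf' i0
  by_cases hc1 : (c : F) = 1
  · rw [hc1, one_mul] at hc2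
    have h01' : f' (ev i0) (ev i1) = 0 := by
      have := hc2
      linear_combination this
    intro j
    by_cases hj1 : j = i1
    · rw [hj1]; exact h01'
    by_cases hj2 : j = i2
    · rw [hj2]
      have := hc (ev i1) (ev i2)
      rw [j3_ev1 h12 h02, j3_ev2 h12 h02, hc1, one_mul, hb.add_left, hb.add_right, hb.add_right,
        hf'.alternating, h01'] at this
      linear_combination this
    · have := hc (ev i1) (ev j)
      rw [j3_ev1 h12 h02, j3_ev h02 j hj1 hj2, hc1, one_mul, hb.add_left] at this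
      linear_combination this
  · have hne : (1 : F) - c ≠ 0 := sub_ne_zero.mpr (Ne.symm hc1)
    have h01' : f' (ev i0) (ev i1) = 0 := by
      have : (1 - (c : F)) * f' (ev i0) (ev i1) = 0 := by linear_combination hb1
      exact (mul_eq_zero.mp this).resolve_left hne
    intro j
    by_cases hj1 : j = i1
    · rw [hj1]; exact h01'
    by_cases hj2 : j = i2
    · rw [hj2]
      have : (1 - (c : F)) * f' (ev i0) (ev i2) = 0 := by
        rw [h01'] at hc2
        linear_combination hc2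
      exact (mul_eq_zero.mp this).resolve_left hne
    · have : (1 - (c : F)) * f' (ev i0) (ev j) = 0 := by linear_combination ha j hj1 hj2
      exact (mul_eq_zero.mp this).resolve_left hne

end Cfsg.Agent.Helper7.SLSp
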