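import Mathlib
import Cfsg.Agent.Helper7.SLSpC

set_option autoImplicit false
set_option linter.unusedSectionVars false

/-! Diagonal matrices as similarities of symplectic forms: the eigenvalue multiplicities are
symmetric under `μ ↦ c / μ` (helper7). -/

namespace Cfsg.Agent.Helper7.SLSp

open Matrix Module Cfsg Cfsg.Geo Cfsg.Agent.Helper7.SLMax

open scoped Classical

variable {F : Type*} [Field F] {n : ℕ}

/-- the Gram matrix of a form in the standard basis. -/
def gram (f' : (Fin n → F) → (Fin n → F) → F) : Matrix (Fin n) (Fin n) F :=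
  Matrix.of fun i j => f' (ev i) (ev j)

theorem gram_det_ne_zero {f' : (Fin n → F) → (Fin n → F) → F} (hf' : IsSymplecticForm f') :
    (gram f').det ≠ 0 := by
  intro h
  obtain ⟨v, hv, hvG⟩ := exists_vecMul_eq_zero_iff.mpr h
  have h1 : ∀ j, f' v (ev j) = 0 := by
    intro j
    have h2 := congrFun hvG j
    rw [← cov_dot hf'.bilinear, dotProduct_comm]
    exact h2
  have h3 : cov f' v = 0 := by
    funext j
    show f' (ev j) v = 0
    rw [hf'.skew, h1 j, neg_zero]
  obtain ⟨⟨x, hx⟩, -⟩ := hf'.nondegenerate v hv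
  apply hx
  rw [← cov_dot hf'.bilinear, h3, zero_dotProduct]

/-- a permutation along which the Gram matrix does not vanish. -/
theorem exists_perm {f' : (Fin n → F) → (Fin n → F) → F} (hf' : IsSymplecticForm f') :
    ∃ σ : Equiv.Perm (Fin n), ∀ i, f' (ev (σ i)) (ev i) ≠ 0 := by
  by_contra hcon
  push_neg at hcon
  apply gram_det_ne_zero hf'
  rw [det_apply]
  apply Finset.sum_eq_zero
  intro σ _
  obtain ⟨i, hi⟩ := hcon σ
  have : ∏ i, gram f' (σ i) i = 0 := Finset.prod_eq_zero (Finset.mem_univ i) hi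
  rw [this, smul_zero]

theorem diagonal_mulVec_ev (d : Fin n → F) (j : Fin n) :
    diagonal d *ᵥ (ev j : Fin n → F) = d j • ev j := by
  funext i
  rw [mulVec_diagonal, Pi.smul_apply, smul_eq_mul]
  by_cases h : i = j
  · rw [h]
  · have : (ev j : Fin n → F) i = 0 := Pi.single_eq_of_ne h 1
    rw [this, mul_zero, mul_zero]

/-- the number of diagonal entries equal to `μ`. -/
noncomputable def cnt (d : Fin n → F) (μ : F) : ℕ := (Finset.univ.filter (fun i => d i = μ)).card

/-- the symmetry of the multiplicities. -/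
theorem cnt_symm {f' : (Fin n → F) → (Fin n → F) → F} (hf' : IsSymplecticForm f')
    (d : Fin n → F) (c : Fˣ)
    (hc : ∀ u v, f' (diagonal d *ᵥ u) (diagonal d *ᵥ v) = (c : F) * f' u v)
    (μ : F) (hμ : μ ≠ 0) : cnt d μ = cnt d ((c : F) / μ) := by
  obtain ⟨σ, hσ⟩ := exists_perm hf'
  have h1 : ∀ i, d (σ i) * d i = (c : F) := by
    intro i
    have h2 := hc (ev (σ i)) (ev i)
    rw [diagonal_mulVec_ev, diagonal_mulVec_ev, hf'.bilinear.smul_left,
      hf'.bilinear.smul_right, ← mul_assoc] at h2
    exact mul_right_cancel₀ (hσ i) h2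
  unfold cnt
  apply Finset.card_equiv σ
  intro i
  simp only [Finset.mem_filter, Finset.mem_univ, true_and]
  constructor
  · intro h
    rw [eq_div_iff hμ, ← h]
    exact h1 i
  · intro h
    have h2 := h1 i
    rw [h, div_mul_eq_mul_div, div_eq_iff hμ] at h2
    exact mul_left_cancel₀ c.ne_zero h2

/-- diagonal entries: `a` on `A`, `b` on `B`, `1` elsewhere. -/
def dAB (A B : Finset (Fin n)) (a b : F) : Fin n → F :=
  fun i => if i ∈ A then a else if i ∈ B then b else 1

theorem dAB_values (A B : Finset (Fin n)) (a b : F) (i : Fin n) :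
    dAB A B a b i = a ∨ dAB A B a b i = b ∨ dAB A B a b i = 1 := by
  unfold dAB
  split_ifs
  · exact Or.inl rfl
  · exact Or.inr (Or.inl rfl)
  · exact Or.inr (Or.inr rfl)

theorem cnt_other (A B : Finset (Fin n)) (a b μ : F) (h1 : μ ≠ a) (h2 : μ ≠ b) (h3 : μ ≠ 1) :
    cnt (dAB A B a b) μ = 0 := by
  unfold cnt
  rw [Finset.card_eq_zero, Finset.filter_eq_empty_iff]
  intro i _ hi
  rcases dAB_values A B a b i with h | h | h
  · exact h1 (hi.symm.trans h)
  · exact h2 (hi.symm.trans h)
  · exact h3 (hi.symm.trans h)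

theorem cnt_a (A B : Finset (Fin n)) (a b : F) (hab : a ≠ b) (ha : a ≠ 1) :
    cnt (dAB A B a b) a = A.card := by
  unfold cnt
  congr 1
  ext i
  simp only [Finset.mem_filter, Finset.mem_univ, true_and]
  unfold dAB
  constructor
  · intro h
    by_contra hA
    rw [if_neg hA] at h
    split_ifs at h
    · exact hab h.symm
    · exact ha h.symm
  · intro h
    rw [if_pos h]

theorem cnt_b (A B : Finset (Fin n)) (a b : F) (hAB : Disjoint A B) (hab : a ≠ b) (hb : b ≠ 1) :
    cnt (dAB A B a b) b = B.card := by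
  unfold cnt
  congr 1
  ext i
  simp only [Finset.mem_filter, Finset.mem_univ, true_and]
  unfold dAB
  constructor
  · intro h
    by_contra hB
    rw [if_neg hB] at h
    split_ifs at h
    · exact hab h
    · exact hb h.symm
  · intro h
    rw [if_neg (Finset.disjoint_right.mp hAB h), if_pos h]

theorem cnt_one (A B : Finset (Fin n)) (a b : F) (ha : a ≠ 1) (hb : b ≠ 1) :
    cnt (dAB A B a b) 1 = n - (A ∪ B).card := by
  unfold cnt
  have : Finset.univ.filter (fun i => dAB A B a b i = 1) = (A ∪ B)ᶜ := by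
    ext i
    simp only [Finset.mem_filter, Finset.mem_univ, true_and, Finset.mem_compl, Finset.mem_union,
      not_or]
    unfold dAB
    constructor
    · intro h
      split_ifs at h with h1 h2
      · exact absurd h ha
      · exact absurd h hb
      · exact ⟨h1, h2⟩
    · rintro ⟨h1, h2⟩
      rw [if_neg h1, if_neg h2]
  rw [this, Finset.card_compl, Fintype.card_fin]

theorem dAB_prod (A B : Finset (Fin n)) (a b : F) (hAB : Disjoint A B) :
    ∏ i, dAB A B a b i = a ^ A.card * b ^ B.card := by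
  have h1 : ∀ i, dAB A B a b i = (if i ∈ A then a else 1) * (if i ∈ B then b else 1) := by
    intro i
    unfold dAB
    by_cases hA : i ∈ A
    · rw [if_pos hA, if_pos hA, if_neg (Finset.disjoint_left.mp hAB hA), mul_one]
    · rw [if_neg hA, if_neg hA, one_mul]
  simp only [h1]
  rw [Finset.prod_mul_distrib, Finset.prod_ite_mem, Finset.prod_ite_mem, Finset.univ_inter,
    Finset.univ_inter, Finset.prod_const, Finset.prod_const]

theorem dAB_pow (A B : Finset (Fin n)) (a b : F) (r : ℕ) (ha : a ^ r = 1) (hb : b ^ r = 1) :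
    (diagonal (dAB A B a b)) ^ r = (1 : Matrix (Fin n) (Fin n) F) := by
  rw [diagonal_pow, ← diagonal_one]
  congr 1
  funext i
  rw [Pi.pow_apply]
  rcases dAB_values A B a b i with h | h | h
  · rw [h, ha]
  · rw [h, hb]
  · rw [h, one_pow]

theorem dAB_not_scalar (A B : Finset (Fin n)) (a b : F) (ha : a ≠ 1) {i0 j0 : Fin n}
    (hi0 : i0 ∈ A) (hj0 : j0 ∉ A ∪ B) (z : F) :
    diagonal (dAB A B a b) ≠ z • (1 : Matrix (Fin n) (Fin n) F) := by
  intro h
  have h1 := congrFun (congrFun h i0) i0
  have h2 := congrFun (congrFun h j0) j0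
  rw [diagonal_apply_eq, Matrix.smul_apply, one_apply_eq, smul_eq_mul, mul_one] at h1 h2
  rw [Finset.mem_union, not_or] at hj0
  unfold dAB at h1 h2
  rw [if_pos hi0] at h1
  rw [if_neg hj0.1, if_neg hj0.2] at h2
  exact ha (h1.trans h2.symm)

end Cfsg.Agent.Helper7.SLSp
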