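import Mathlib
import Cfsg.Agent.Helper7.SLSpC
import Cfsg.Agent.Helper8.SpSSympIso

set_option autoImplicit false
set_option linter.unusedSectionVars false

/-! The unipotent case, and abstract machinery for the extension-field case (helper7). -/

namespace Cfsg.Agent.Helper7.SLSp

open Matrix Module Cfsg Cfsg.Geo Cfsg.Agent.Helper7.SLMax Cfsg.Agent.Helper8.SpS

variable {F : Type*} [Field F] {n : ℕ}

/-- the case `r = p`. -/
theorem exists_case_char {p : ℕ} [hp : Fact p.Prime] [CharP F p] (hn : 4 ≤ n) (hp2 : p ≠ 2) :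
    ∃ x : SpecialLinearGroup (Fin n) F,
      (x : Matrix (Fin n) (Fin n) F) ^ p = 1 ∧
      (∀ z : F, (x : Matrix (Fin n) (Fin n) F) ≠ z • (1 : Matrix (Fin n) (Fin n) F)) ∧
      NoSim (x : Matrix (Fin n) (Fin n) F) := by
  set i0 : Fin n := ⟨0, by omega⟩ with hi0
  set i1 : Fin n := ⟨1, by omega⟩ with hi1
  set i2 : Fin n := ⟨2, by omega⟩ with hi2
  have h01 : i0 ≠ i1 := by rw [hi0, hi1, Ne, Fin.mk.injEq]; omega
  have h12 : i1 ≠ i2 := by rw [hi1, hi2, Ne, Fin.mk.injEq]; omega
  have h02 : i0 ≠ i2 := by rw [hi0, hi2, Ne, Fin.mk.injEq]; omega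
  have hp3 : 3 ≤ p := by
    have := hp.out.two_le
    omega
  refine ⟨⟨j3 i0 i1 i2, j3_det h01 h12⟩, j3_pow hp3 h01 h12 h02, ?_, j3_noSim h01 h12 h02⟩
  intro z hz
  have h1 := congrArg (fun M : Matrix (Fin n) (Fin n) F => (M *ᵥ (ev i1 : Fin n → F)) i0) hz
  simp only at h1
  rw [j3_ev1 h12 h02, smul_mulVec, one_mulVec, Pi.add_apply, Pi.smul_apply] at h1
  have e1 : (ev i1 : Fin n → F) i0 = 0 := Pi.single_eq_of_ne h01 1
  have e2 : (ev i0 : Fin n → F) i0 = 1 := Pi.single_eq_same i0 1
  rw [e1, e2, zero_add, smul_zero] at h1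
  exact one_ne_zero h1

universe u v

variable {E : Type u} [AddCommGroup E] [Module F E]

/-- a matrix of an endomorphism in a basis is a similarity of no symplectic form, if the
endomorphism is a similarity of no nondegenerate alternating form. -/
theorem noSim_of_basis (b : Basis (Fin n) F E) (φ : E →ₗ[F] E)
    (H : ∀ B : E →ₗ[F] E →ₗ[F] F, Alt B → Nondeg B → ∀ c : Fˣ,
      ¬ ∀ u v, B (φ u) (φ v) = (c : F) * B u v) :
    NoSim (LinearMap.toMatrix b b φ) := by
  intro f' hf' c hc
  apply H ((toB hf'.bilinear).compl₁₂ b.equivFun.toLinearMap b.equivFun.toLinearMap) ?_ ?_ c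
  · intro u v
    rw [LinearMap.compl₁₂_apply, LinearMap.compl₁₂_apply, toB_apply, toB_apply]
    have e : ∀ w : E, b.equivFun.toLinearMap (φ w) =
        LinearMap.toMatrix b b φ *ᵥ b.equivFun.toLinearMap w := by
      intro w
      exact (LinearMap.toMatrix_mulVec_repr b b φ w).symm
    rw [e, e]
    exact hc _ _
  · intro v
    rw [LinearMap.compl₁₂_apply]
    exact toB_alt hf' _
  · intro u hu
    have h1 : b.equivFun u = 0 := by
      apply toB_nondeg hf'
      intro w
      have := hu (b.equivFun.symm w)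
      rw [LinearMap.compl₁₂_apply] at this
      simp only [LinearEquiv.coe_coe, LinearEquiv.apply_symm_apply] at this
      exact this
    exact b.equivFun.map_eq_zero_iff.mp h1

variable {E₁ : Type u} {E₀ : Type v} [AddCommGroup E₁] [Module F E₁] [FiniteDimensional F E₁]
  [AddCommGroup E₀] [Module F E₀]

/-- an isometry acting without fixed points on the first factor and trivially on the second:
the first factor has even dimension. -/
theorem even_of_block (B : (E₁ × E₀) →ₗ[F] (E₁ × E₀) →ₗ[F] F) (hAlt : Alt B) (hND : Nondeg B)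
    (α : E₁ →ₗ[F] E₁) (hα : ∀ a, ∃ a', α a' - a' = a)
    (hinv : ∀ u v, B (LinearMap.prodMap α LinearMap.id u) (LinearMap.prodMap α LinearMap.id v) =
      B u v) : Even (finrank F E₁) := by
  have horth : ∀ (a : E₁) (w : E₀), B (a, 0) (0, w) = 0 := by
    intro a w
    obtain ⟨a', ha'⟩ := hα a
    have h1 := hinv (a', 0) (0, w)
    rw [LinearMap.prodMap_apply, LinearMap.prodMap_apply] at h1
    simp only [LinearMap.id_coe, id_eq, map_zero] at h1
    have h2 : ((a, 0) : E₁ × E₀) = (α a', 0) - (a', 0) := by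
      rw [Prod.mk_sub_mk, ha', sub_zero]
    rw [h2, map_sub, LinearMap.sub_apply, h1, sub_self]
  have hAlt₁ : Alt (B.compl₁₂ (LinearMap.inl F E₁ E₀) (LinearMap.inl F E₁ E₀)) := by
    intro a
    rw [LinearMap.compl₁₂_apply]
    exact hAlt _
  have hND₁ : Nondeg (B.compl₁₂ (LinearMap.inl F E₁ E₀) (LinearMap.inl F E₁ E₀)) := by
    intro a ha
    have h1 : ((a, 0) : E₁ × E₀) = 0 := by
      apply hND
      rintro ⟨a', w⟩
      have h2 : ((a', w) : E₁ × E₀) = (a', 0) + (0, w) := by
        rw [Prod.mk_add_mk, add_zero, zero_add]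
      have h3 := ha a'
      rw [LinearMap.compl₁₂_apply, LinearMap.inl_apply, LinearMap.inl_apply] at h3
      rw [h2, map_add, h3, horth, add_zero]
    exact (Prod.mk_eq_zero.mp h1).1
  obtain ⟨k, b, -⟩ := exists_symp_basis _ hAlt₁ hND₁
  have h1 := Module.finrank_eq_card_basis b
  rw [Fintype.card_sum, Fintype.card_fin] at h1
  exact ⟨k, h1⟩

end Cfsg.Agent.Helper7.SLSp
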