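import Mathlib
import Cfsg.Agent.Helper7.SLSpF
import Cfsg.Agent.Helper7.SingerJ

set_option autoImplicit false
set_option linter.unusedSectionVars false

/-! The extension-field case: an element acting as a field element of order `r` on an
odd-dimensional block (helper7). -/

namespace Cfsg.Agent.Helper7.SLSp

open Matrix Module Cfsg Cfsg.Geo Cfsg.Agent.Helper7.SLMax Cfsg.Agent.Helper8.SpS

variable {F : Type*} [Field F] {n : ℕ}

/-- an element of order dividing `r` in `F` is trivial when `r ∤ q - 1`. -/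
theorem eq_one_of_pow [Fintype F] (r : ℕ) [hr : Fact r.Prime] (hrq : ¬ r ∣ Fintype.card F - 1)
    (a : F) (ha : a ^ r = 1) : a = 1 := by
  have ha0 : a ≠ 0 := by
    rintro rfl
    rw [zero_pow hr.out.ne_zero] at ha
    exact zero_ne_one ha
  have h2 : a ^ (Fintype.card F - 1) = 1 := FiniteField.pow_card_sub_one_eq_one a ha0
  have h3 : a ^ (Nat.gcd r (Fintype.card F - 1)) = 1 := pow_gcd_eq_one.mpr ⟨ha, h2⟩
  have h4 : Nat.gcd r (Fintype.card F - 1) = 1 := (Nat.Prime.coprime_iff_not_dvd hr.out).mpr hrq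
  rw [h4, pow_one] at h3
  exact h3

section block

variable {L : Type} [Field L] [Algebra F L] [FiniteDimensional F L] {m : ℕ}

/-- the block endomorphism. -/
noncomputable def blockEnd (ζ : L) : (L × (Fin m → F)) →ₗ[F] (L × (Fin m → F)) :=
  LinearMap.prodMap (LinearMap.mulLeft F ζ) LinearMap.id

theorem mulLeft_pow_apply (ζ : L) (k : ℕ) (a : L) :
    ((LinearMap.mulLeft F ζ) ^ k) a = ζ ^ k * a := by
  induction k generalizing a with
  | zero => simp
  | succ k ih =>
    rw [pow_succ, Module.End.mul_apply, ih, LinearMap.mulLeft_apply, pow_succ, mul_assoc]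

theorem blockEnd_pow_apply (ζ : L) (k : ℕ) (a : L) (w : Fin m → F) :
    ((blockEnd (F := F) (m := m) ζ) ^ k) (a, w) = (ζ ^ k * a, w) := by
  induction k generalizing a with
  | zero => simp
  | succ k ih =>
    rw [pow_succ, Module.End.mul_apply]
    have : blockEnd (F := F) (m := m) ζ (a, w) = (ζ * a, w) := by
      unfold blockEnd
      rw [LinearMap.prodMap_apply]
      rfl
    rw [this, ih, pow_succ, mul_assoc]

theorem blockEnd_pow_eq_one (ζ : L) (r : ℕ) (hζ : ζ ^ r = 1) :
    (blockEnd (F := F) (m := m) ζ) ^ r = 1 := by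
  apply LinearMap.ext
  rintro ⟨a, w⟩
  rw [blockEnd_pow_apply, hζ, one_mul]
  rfl

theorem blockEnd_det [Fintype F] (ζ : L) (r : ℕ) [hr : Fact r.Prime]
    (hrq : ¬ r ∣ Fintype.card F - 1) (hζ : ζ ^ r = 1) :
    LinearMap.det (blockEnd (F := F) (m := m) ζ) = 1 := by
  unfold blockEnd
  rw [LinearMap.det_prodMap, LinearMap.det_id, mul_one]
  apply eq_one_of_pow r hrq
  rw [← map_pow]
  have : (LinearMap.mulLeft F ζ) ^ r = 1 := by
    apply LinearMap.ext
    intro a
    rw [mulLeft_pow_apply, hζ, one_mul]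
    rfl
  rw [this, map_one]

/-- the block endomorphism is a similarity of no nondegenerate alternating form, when the
dimension of `L` is odd. -/
theorem blockEnd_noSim [Fintype F] (ζ : L) (r : ℕ) [hr : Fact r.Prime]
    (hrq : ¬ r ∣ Fintype.card F - 1) (hζ : ζ ^ r = 1) (hζ1 : ζ ≠ 1) (hodd : Odd (finrank F L))
    (B : (L × (Fin m → F)) →ₗ[F] (L × (Fin m → F)) →ₗ[F] F) (hAlt : Alt B) (hND : Nondeg B)
    (c : Fˣ) : ¬ ∀ u v, B (blockEnd ζ u) (blockEnd ζ v) = (c : F) * B u v := by
  intro hc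
  have hpowB : ∀ (k : ℕ) u v, B ((blockEnd ζ ^ k) u) ((blockEnd ζ ^ k) v) = (c : F) ^ k * B u v := by
    intro k
    induction k with
    | zero => intro u v; simp
    | succ k ih =>
      intro u v
      rw [pow_succ, Module.End.mul_apply, Module.End.mul_apply, ih, hc, pow_succ, mul_assoc]
  have hu0 : ((1, 0) : L × (Fin m → F)) ≠ 0 := by
    intro h
    exact one_ne_zero (Prod.mk_eq_zero.mp h).1
  obtain ⟨v0, hv0⟩ : ∃ v0, B (1, 0) v0 ≠ 0 := by
    by_contra hcon
    push_neg at hcon
    exact hu0 (hND _ hcon)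
  have hcr : (c : F) ^ r = 1 := by
    have h1 := hpowB r (1, 0) v0
    rw [blockEnd_pow_eq_one ζ r hζ, Module.End.one_apply, Module.End.one_apply] at h1
    have h2 : (1 : F) * B (1, 0) v0 = (c : F) ^ r * B (1, 0) v0 := by rw [one_mul]; exact h1
    exact (mul_right_cancel₀ hv0 h2).symm
  have hc1 : (c : F) = 1 := eq_one_of_pow r hrq _ hcr
  have hne : ζ - 1 ≠ 0 := sub_ne_zero.mpr hζ1
  have heven := even_of_block B hAlt hND (LinearMap.mulLeft F ζ) (by
    intro a
    refine ⟨(ζ - 1)⁻¹ * a, ?_⟩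
    rw [LinearMap.mulLeft_apply]
    field_simp) (by
    intro u v
    have := hc u v
    rw [hc1, one_mul] at this
    exact this)
  exact (Nat.not_even_iff_odd.mpr hodd) heven

end block

/-- the extension-field case. -/
theorem exists_case_ext [Fintype F] {p : ℕ} [Fact p.Prime] [CharP F p] (r : ℕ) [hr : Fact r.Prime]
    (j : ℕ) (hj : Odd j) (hj3 : 3 ≤ j) (hjn : j ≤ n - 1) (hn : 4 ≤ n)
    (hrq : ¬ r ∣ Fintype.card F - 1) (hrj : r ∣ Fintype.card F ^ j - 1) :
    ∃ x : SpecialLinearGroup (Fin n) F,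
      (x : Matrix (Fin n) (Fin n) F) ^ r = 1 ∧
      (∀ z : F, (x : Matrix (Fin n) (Fin n) F) ≠ z • (1 : Matrix (Fin n) (Fin n) F)) ∧
      NoSim (x : Matrix (Fin n) (Fin n) F) := by
  haveI : NeZero j := ⟨by omega⟩
  letI : Fintype (FiniteField.Extension F p j) := Fintype.ofFinite _
  have hcardL : Fintype.card (FiniteField.Extension F p j) = Fintype.card F ^ j := by
    rw [← Nat.card_eq_fintype_card, FiniteField.natCard_extension, Nat.card_eq_fintype_card]
  obtain ⟨ζ, hζ⟩ := Cfsg.Agent.Helper7.Singer.exists_unit_of_order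
    (F := FiniteField.Extension F p j) r (by rw [hcardL]; exact hrj)
  have hζr : ((ζ : (FiniteField.Extension F p j)ˣ) : FiniteField.Extension F p j) ^ r = 1 := by
    rw [← Units.val_pow_eq_pow_val, ← hζ, pow_orderOf_eq_one, Units.val_one]
  have hζ1 : ((ζ : (FiniteField.Extension F p j)ˣ) : FiniteField.Extension F p j) ≠ 1 := by
    intro h
    have h1 : ζ = 1 := Units.ext h
    rw [h1, orderOf_one] at hζ
    exact hr.out.one_lt.ne hζ
  have hfrL : finrank F (FiniteField.Extension F p j) = j := FiniteField.finrank_extension F p j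
  have hfr : finrank F (FiniteField.Extension F p j × (Fin (n - j) → F)) = n := by
    rw [Module.finrank_prod, hfrL, Module.finrank_fin_fun]
    omega
  obtain ⟨b⟩ : Nonempty (Basis (Fin n) F (FiniteField.Extension F p j × (Fin (n - j) → F))) :=
    ⟨Module.finBasisOfFinrankEq F _ hfr⟩
  obtain ⟨φ, hφ⟩ : ∃ φ, φ = blockEnd (F := F) (m := n - j)
    ((ζ : (FiniteField.Extension F p j)ˣ) : FiniteField.Extension F p j) := ⟨_, rfl⟩
  have hdet : (LinearMap.toMatrix b b φ).det = 1 := by
    rw [LinearMap.det_toMatrix, hφ]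
    exact blockEnd_det _ r hrq hζr
  refine ⟨⟨LinearMap.toMatrix b b φ, hdet⟩, ?_, ?_, ?_⟩
  · show (LinearMap.toMatrix b b φ) ^ r = 1
    rw [LinearMap.toMatrix_pow, hφ, blockEnd_pow_eq_one _ r hζr, LinearMap.toMatrix_one]
  · intro z hz
    have hz' : LinearMap.toMatrix b b φ = z • (1 : Matrix (Fin n) (Fin n) F) := hz
    have h1 : φ = z • (1 : Module.End F _) := by
      apply (LinearMap.toMatrix b b).injective
      rw [hz', map_smul, LinearMap.toMatrix_one]
    have hm : 0 < n - j := by omega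
    have h2 := LinearMap.congr_fun h1 ((0 : FiniteField.Extension F p j), fun _ : Fin (n - j) => (1 : F))
    have h3 := LinearMap.congr_fun h1 ((1 : FiniteField.Extension F p j), (0 : Fin (n - j) → F))
    rw [hφ] at h2 h3
    unfold blockEnd at h2 h3
    rw [LinearMap.prodMap_apply, LinearMap.smul_apply, Module.End.one_apply, Prod.smul_mk,
      Prod.mk.injEq] at h2 h3
    have hz1 : z = 1 := by
      have h4 := congrFun h2.2 ⟨0, hm⟩
      simp only [LinearMap.id_coe, id_eq, Pi.smul_apply, smul_eq_mul, mul_one] at h4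
      exact h4.symm
    have h5 := h3.1
    rw [hz1, one_smul, LinearMap.mulLeft_apply, mul_one] at h5
    exact hζ1 h5
  · show NoSim (LinearMap.toMatrix b b φ)
    apply noSim_of_basis b φ
    intro B hAlt hND c
    rw [hφ]
    exact blockEnd_noSim _ r hrq hζr hζ1 (by rw [hfrL]; exact hj) B hAlt hND c

end Cfsg.Agent.Helper7.SLSp
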