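import Mathlib

set_option autoImplicit false
set_option linter.unusedSectionVars false

/-! Rank invariants of the powers of an endomorphism on invariant subspaces: the numbers of
Jordan blocks of each size, without Jordan normal form (helper7). -/

namespace Cfsg.Agent.Helper7.NilRk

open Module

variable {F : Type*} [Field F] {V : Type*} [AddCommGroup V] [Module F V] [FiniteDimensional F V]

/-- the rank of the `j`-th power on a subspace. -/
noncomputable def rk (f : Module.End F V) (A : Submodule F V) (j : ℕ) : ℕ :=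
  finrank F (A.map (f ^ j))

theorem rk_zero (f : Module.End F V) (A : Submodule F V) : rk f A 0 = finrank F A := by
  unfold rk
  rw [pow_zero, Module.End.one_eq_id, Submodule.map_id]

/-- rank-nullity on a subspace. -/
theorem finrank_map_add (f : Module.End F V) (W : Submodule F V) :
    finrank F W = finrank F (W.map f) + finrank F (W ⊓ LinearMap.ker f : Submodule F V) := by
  have h1 := LinearMap.finrank_range_add_finrank_ker (f.domRestrict W)
  rw [LinearMap.range_domRestrict, LinearMap.ker_domRestrict] at h1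
  have h2 : finrank F ((LinearMap.ker f).comap W.subtype) =
      finrank F (W ⊓ LinearMap.ker f : Submodule F V) := by
    have h3 : ((LinearMap.ker f).comap W.subtype).map W.subtype = W ⊓ LinearMap.ker f :=
      Submodule.map_comap_subtype W (LinearMap.ker f)
    rw [← h3]
    exact (LinearEquiv.finrank_eq (Submodule.equivMapOfInjective W.subtype
      (Submodule.injective_subtype W) _))
  rw [h2] at h1
  exact h1.symm

theorem map_pow_succ (f : Module.End F V) (A : Submodule F V) (j : ℕ) :
    A.map (f ^ (j + 1)) = (A.map (f ^ j)).map f := by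
  rw [pow_succ', Module.End.mul_eq_comp, Submodule.map_comp]

theorem map_pow_le {f : Module.End F V} {A : Submodule F V} (hA : A.map f ≤ A) (j : ℕ) :
    A.map (f ^ j) ≤ A := by
  induction j with
  | zero => rw [pow_zero, Module.End.one_eq_id, Submodule.map_id]
  | succ j ih =>
    rw [map_pow_succ]
    exact le_trans (Submodule.map_mono ih) hA

theorem map_pow_anti {f : Module.End F V} {A : Submodule F V} (hA : A.map f ≤ A) (j : ℕ) :
    A.map (f ^ (j + 1)) ≤ A.map (f ^ j) := by
  rw [pow_succ, Module.End.mul_eq_comp, Submodule.map_comp]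
  exact Submodule.map_mono hA

theorem rk_anti {f : Module.End F V} {A : Submodule F V} (hA : A.map f ≤ A) (j : ℕ) :
    rk f A (j + 1) ≤ rk f A j :=
  Submodule.finrank_mono (map_pow_anti hA j)

/-- the ranks of the powers form a convex sequence. -/
theorem rk_convex {f : Module.End F V} {A : Submodule F V} (hA : A.map f ≤ A) (j : ℕ) :
    2 * rk f A (j + 1) ≤ rk f A j + rk f A (j + 2) := by
  have h1 := finrank_map_add f (A.map (f ^ j))
  have h2 := finrank_map_add f (A.map (f ^ (j + 1)))
  rw [← map_pow_succ] at h1 h2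
  have e : j + 1 + 1 = j + 2 := rfl
  rw [e] at h2
  have h3 : finrank F (A.map (f ^ (j + 1)) ⊓ LinearMap.ker f : Submodule F V) ≤
      finrank F (A.map (f ^ j) ⊓ LinearMap.ker f : Submodule F V) :=
    Submodule.finrank_mono (inf_le_inf_right _ (map_pow_anti hA j))
  unfold rk
  omega

/-- the number of Jordan blocks of size exactly `k + 1`. -/
noncomputable def cntS (f : Module.End F V) (A : Submodule F V) (k : ℕ) : ℕ :=
  rk f A k + rk f A (k + 2) - 2 * rk f A (k + 1)

theorem cntS_add {f : Module.End F V} {A : Submodule F V} (hA : A.map f ≤ A) (k : ℕ) :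
    cntS f A k + 2 * rk f A (k + 1) = rk f A k + rk f A (k + 2) := by
  unfold cntS
  have := rk_convex hA k
  omega

/-- additivity of the ranks over invariant complements. -/
theorem rk_top_eq_add {f : Module.End F V} {A B : Submodule F V} (hAB : IsCompl A B)
    (hA : A.map f ≤ A) (hB : B.map f ≤ B) (j : ℕ) :
    rk f ⊤ j = rk f A j + rk f B j := by
  unfold rk
  have h1 : (⊤ : Submodule F V).map (f ^ j) = A.map (f ^ j) ⊔ B.map (f ^ j) := by
    rw [← Submodule.map_sup, hAB.sup_eq_top]
  have h2 : A.map (f ^ j) ⊓ B.map (f ^ j) = ⊥ := by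
    rw [eq_bot_iff]
    exact le_trans (inf_le_inf (map_pow_le hA j) (map_pow_le hB j)) (le_of_eq hAB.inf_eq_bot)
  have h3 := Submodule.finrank_sup_add_finrank_inf_eq (A.map (f ^ j)) (B.map (f ^ j))
  rw [h2, finrank_bot, add_zero] at h3
  rw [h1, h3]

theorem cntS_le_top {f : Module.End F V} {A B : Submodule F V} (hAB : IsCompl A B)
    (hA : A.map f ≤ A) (hB : B.map f ≤ B) (k : ℕ) : cntS f A k ≤ cntS f ⊤ k := by
  have hT : (⊤ : Submodule F V).map f ≤ ⊤ := le_top
  have h1 := cntS_add hA k
  have h2 := cntS_add hB k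
  have h3 := cntS_add hT k
  rw [rk_top_eq_add hAB hA hB, rk_top_eq_add hAB hA hB, rk_top_eq_add hAB hA hB] at h3
  omega

/-- a telescoping identity for convex sequences. -/
theorem sum_telescope (r : ℕ → ℕ) (hconv : ∀ j, 2 * r (j + 1) ≤ r j + r (j + 2)) (M : ℕ) :
    (∑ k ∈ Finset.range M, (k + 1) * (r k + r (k + 2) - 2 * r (k + 1))) + (M + 1) * r M =
      r 0 + M * r (M + 1) := by
  induction M with
  | zero => simp
  | succ M ih =>
    rw [Finset.sum_range_succ]
    have h := hconv M
    obtain ⟨c, hc⟩ : ∃ c, r M + r (M + 2) = 2 * r (M + 1) + c := ⟨r M + r (M + 2) - 2 * r (M + 1), by omega⟩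
    have e : r M + r (M + 2) - 2 * r (M + 1) = c := by omega
    rw [e]
    have e2 : M + 1 + 1 = M + 2 := rfl
    rw [e2]
    nlinarith [ih, hc]

/-- the block sizes add up to the dimension, for an operator nilpotent on the subspace. -/
theorem sum_cntS {f : Module.End F V} {A : Submodule F V} (hA : A.map f ≤ A) (M : ℕ)
    (hM : A.map (f ^ M) = ⊥) :
    ∑ k ∈ Finset.range M, (k + 1) * cntS f A k = finrank F A := by
  have h1 := sum_telescope (rk f A) (rk_convex hA) M
  have h2 : rk f A M = 0 := by
    unfold rk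
    rw [hM, finrank_bot]
  have h3 : rk f A (M + 1) = 0 := by
    have := rk_anti hA M
    omega
  rw [h2, h3, mul_zero, mul_zero, add_zero, add_zero, rk_zero] at h1
  exact h1

/-- invariance under conjugation by a linear equivalence. -/
theorem rk_conj {V' : Type*} [AddCommGroup V'] [Module F V'] [FiniteDimensional F V']
    (Φ : V ≃ₗ[F] V') (f : Module.End F V) (f' : Module.End F V')
    (hff : ∀ v, f' (Φ v) = Φ (f v)) (A : Submodule F V) (j : ℕ) :
    rk f' (A.map (Φ : V →ₗ[F] V')) j = rk f A j := by
  unfold rk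
  have hpow : ∀ (j : ℕ) (v : V), (f' ^ j) (Φ v) = Φ ((f ^ j) v) := by
    intro j
    induction j with
    | zero => intro v; simp
    | succ j ih =>
      intro v
      rw [pow_succ, pow_succ, Module.End.mul_apply, Module.End.mul_apply, hff, ih]
  have h1 : (A.map (Φ : V →ₗ[F] V')).map (f' ^ j) = (A.map (f ^ j)).map (Φ : V →ₗ[F] V') := by
    ext w
    constructor
    · rintro ⟨_, ⟨v, hv, rfl⟩, rfl⟩
      exact ⟨(f ^ j) v, ⟨v, hv, rfl⟩, (hpow j v).symm⟩
    · rintro ⟨_, ⟨v, hv, rfl⟩, rfl⟩
      exact ⟨Φ v, ⟨v, hv, rfl⟩, hpow j v⟩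
  rw [h1]
  exact LinearEquiv.finrank_map_eq Φ _

end Cfsg.Agent.Helper7.NilRk
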