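import Mathlib
import Cfsg.Agent.Helper8.UJOrthOdd

/-!
# Unipotent isometries of hyperbolic quadratic spaces: realisability of rank profiles (I)

`PReal F ν`: the rank profile `ν` is realised by a unipotent isometry of a quadratic form `v ↦ v ⬝ G v`
which carries a hyperbolic family of half the dimension (so the form is of plus type).
-/

set_option autoImplicit false

namespace Cfsg.Agent.Helper7.OrUn

open Matrix Module Cfsg.Agent.Helper8.UJ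

variable {F : Type*} [Field F]

/-- a hyperbolic family for the quadratic form `v ↦ v ⬝ G v`. -/
def HypM {ι κ : Type*} [Fintype ι] (G : Matrix ι ι F) (e f : κ → ι → F) : Prop :=
  (∀ i, e i ⬝ᵥ (G *ᵥ e i) = 0 ∧ f i ⬝ᵥ (G *ᵥ f i) = 0) ∧
  (∀ i j, i ≠ j → e i ⬝ᵥ ((G + Gᵀ) *ᵥ f j) = 0) ∧
  (∀ i, e i ⬝ᵥ ((G + Gᵀ) *ᵥ f i) = 1) ∧
  (∀ i j, e i ⬝ᵥ ((G + Gᵀ) *ᵥ e j) = 0 ∧ f i ⬝ᵥ ((G + Gᵀ) *ᵥ f j) = 0)

/-- realisability in a quadratic space of plus type. -/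
def PReal (F : Type*) [Field F] (ν : Multiset ℕ) : Prop :=
  ∃ (ι κ : Type) (_ : Fintype ι) (_ : DecidableEq ι) (_ : Fintype κ) (G A : Matrix ι ι F)
    (e f : κ → ι → F),
    Fintype.card ι = 2 * Fintype.card κ ∧ HypM G e f ∧ IsAltM (Aᵀ * G * A - G) ∧
      ∀ j, ((A - 1) ^ j).rank = mprof ν j

theorem hypM_mk {ι κ : Type*} [Fintype ι] (G : Matrix ι ι F) (e f : κ → ι → F)
    (h1 : ∀ i, e i ⬝ᵥ (G *ᵥ e i) = 0 ∧ f i ⬝ᵥ (G *ᵥ f i) = 0)
    (h2 : ∀ i j, i ≠ j → e i ⬝ᵥ ((G + Gᵀ) *ᵥ f j) = 0)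
    (h3 : ∀ i, e i ⬝ᵥ ((G + Gᵀ) *ᵥ f i) = 1)
    (h4 : ∀ i j, e i ⬝ᵥ ((G + Gᵀ) *ᵥ e j) = 0 ∧ f i ⬝ᵥ ((G + Gᵀ) *ᵥ f j) = 0) : HypM G e f :=
  ⟨h1, h2, h3, h4⟩

theorem pReal_zero : PReal F 0 := by
  refine ⟨Fin 0, Fin 0, inferInstance, inferInstance, inferInstance, 0, 1, fun i => i.elim0,
    fun i => i.elim0, by simp, ?_, ?_, fun j => ?_⟩
  · exact hypM_mk _ _ _ (fun i => i.elim0) (fun i => i.elim0) (fun i => i.elim0) (fun i => i.elim0)
  · simp only [Matrix.transpose_one, Matrix.one_mul, Matrix.mul_one, sub_self]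
    exact isAltM_zero
  · rw [mprof_zero]
    have := Matrix.rank_le_card_width (((1 : Matrix (Fin 0) (Fin 0) F) - 1) ^ j)
    simp only [Fintype.card_fin] at this
    omega

section blocks

variable {ι₁ ι₂ : Type*} [Fintype ι₁] [Fintype ι₂]

theorem dot_fromBlocks_ll (G₁ : Matrix ι₁ ι₁ F) (G₂ : Matrix ι₂ ι₂ F) (u v : ι₁ → F) :
    (Sum.elim u (0 : ι₂ → F)) ⬝ᵥ (fromBlocks G₁ 0 0 G₂ *ᵥ Sum.elim v (0 : ι₂ → F)) = u ⬝ᵥ (G₁ *ᵥ v) := by
  rw [Matrix.fromBlocks_mulVec, sumElim_dotProduct_sumElim]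
  simp

theorem dot_fromBlocks_rr (G₁ : Matrix ι₁ ι₁ F) (G₂ : Matrix ι₂ ι₂ F) (u v : ι₂ → F) :
    (Sum.elim (0 : ι₁ → F) u) ⬝ᵥ (fromBlocks G₁ 0 0 G₂ *ᵥ Sum.elim (0 : ι₁ → F) v) = u ⬝ᵥ (G₂ *ᵥ v) := by
  rw [Matrix.fromBlocks_mulVec, sumElim_dotProduct_sumElim]
  simp

theorem dot_fromBlocks_lr (G₁ : Matrix ι₁ ι₁ F) (G₂ : Matrix ι₂ ι₂ F) (u : ι₁ → F) (v : ι₂ → F) :
    (Sum.elim u (0 : ι₂ → F)) ⬝ᵥ (fromBlocks G₁ 0 0 G₂ *ᵥ Sum.elim (0 : ι₁ → F) v) = 0 := by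
  rw [Matrix.fromBlocks_mulVec, sumElim_dotProduct_sumElim]
  simp

theorem dot_fromBlocks_rl (G₁ : Matrix ι₁ ι₁ F) (G₂ : Matrix ι₂ ι₂ F) (u : ι₂ → F) (v : ι₁ → F) :
    (Sum.elim (0 : ι₁ → F) u) ⬝ᵥ (fromBlocks G₁ 0 0 G₂ *ᵥ Sum.elim v (0 : ι₂ → F)) = 0 := by
  rw [Matrix.fromBlocks_mulVec, sumElim_dotProduct_sumElim]
  simp

theorem fromBlocks_add_transpose (G₁ : Matrix ι₁ ι₁ F) (G₂ : Matrix ι₂ ι₂ F) :
    fromBlocks G₁ 0 0 G₂ + (fromBlocks G₁ 0 0 G₂)ᵀ = fromBlocks (G₁ + G₁ᵀ) 0 0 (G₂ + G₂ᵀ) := by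
  rw [Matrix.fromBlocks_transpose, Matrix.fromBlocks_add]
  simp

end blocks

/-- the orthogonal sum of two hyperbolic families. -/
theorem hypM_add {ι₁ ι₂ κ₁ κ₂ : Type*} [Fintype ι₁] [Fintype ι₂]
    (G₁ : Matrix ι₁ ι₁ F) (G₂ : Matrix ι₂ ι₂ F) (e₁ f₁ : κ₁ → ι₁ → F) (e₂ f₂ : κ₂ → ι₂ → F)
    (h₁ : HypM G₁ e₁ f₁) (h₂ : HypM G₂ e₂ f₂) :
    HypM (fromBlocks G₁ 0 0 G₂)
      (Sum.elim (fun i => Sum.elim (e₁ i) (0 : ι₂ → F)) (fun i => Sum.elim (0 : ι₁ → F) (e₂ i)))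
      (Sum.elim (fun i => Sum.elim (f₁ i) (0 : ι₂ → F)) (fun i => Sum.elim (0 : ι₁ → F) (f₂ i))) := by
  obtain ⟨a1, a2, a3, a4⟩ := h₁
  obtain ⟨b1, b2, b3, b4⟩ := h₂
  apply hypM_mk
  · rintro (i | i)
    · simp only [Sum.elim_inl]
      rw [dot_fromBlocks_ll, dot_fromBlocks_ll]
      exact a1 i
    · simp only [Sum.elim_inr]
      rw [dot_fromBlocks_rr, dot_fromBlocks_rr]
      exact b1 i
  · rintro (i | i) (j | j) hij
    · simp only [Sum.elim_inl]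
      rw [fromBlocks_add_transpose, dot_fromBlocks_ll]
      exact a2 i j (fun h => hij (by rw [h]))
    · simp only [Sum.elim_inl, Sum.elim_inr]
      rw [fromBlocks_add_transpose, dot_fromBlocks_lr]
    · simp only [Sum.elim_inl, Sum.elim_inr]
      rw [fromBlocks_add_transpose, dot_fromBlocks_rl]
    · simp only [Sum.elim_inr]
      rw [fromBlocks_add_transpose, dot_fromBlocks_rr]
      exact b2 i j (fun h => hij (by rw [h]))
  · rintro (i | i)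
    · simp only [Sum.elim_inl]
      rw [fromBlocks_add_transpose, dot_fromBlocks_ll]
      exact a3 i
    · simp only [Sum.elim_inr]
      rw [fromBlocks_add_transpose, dot_fromBlocks_rr]
      exact b3 i
  · rintro (i | i) (j | j)
    · simp only [Sum.elim_inl]
      rw [fromBlocks_add_transpose, dot_fromBlocks_ll, dot_fromBlocks_ll]
      exact a4 i j
    · simp only [Sum.elim_inl, Sum.elim_inr]
      rw [fromBlocks_add_transpose, dot_fromBlocks_lr, dot_fromBlocks_lr]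
      exact ⟨rfl, rfl⟩
    · simp only [Sum.elim_inl, Sum.elim_inr]
      rw [fromBlocks_add_transpose, dot_fromBlocks_rl, dot_fromBlocks_rl]
      exact ⟨rfl, rfl⟩
    · simp only [Sum.elim_inr]
      rw [fromBlocks_add_transpose, dot_fromBlocks_rr, dot_fromBlocks_rr]
      exact b4 i j

theorem pReal_add (ν₁ ν₂ : Multiset ℕ) (h₁ : PReal F ν₁) (h₂ : PReal F ν₂) : PReal F (ν₁ + ν₂) := by
  obtain ⟨ι₁, κ₁, _, _, _, G₁, A₁, e₁, f₁, hc₁, hh₁, ha₁, hr₁⟩ := h₁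
  obtain ⟨ι₂, κ₂, _, _, _, G₂, A₂, e₂, f₂, hc₂, hh₂, ha₂, hr₂⟩ := h₂
  refine ⟨ι₁ ⊕ ι₂, κ₁ ⊕ κ₂, inferInstance, inferInstance, inferInstance, fromBlocks G₁ 0 0 G₂,
    fromBlocks A₁ 0 0 A₂, _, _, ?_, hypM_add G₁ G₂ e₁ f₁ e₂ f₂ hh₁ hh₂, ?_, fun j => ?_⟩
  · rw [Fintype.card_sum, Fintype.card_sum, hc₁, hc₂]
    ring
  · rw [Matrix.fromBlocks_transpose, Matrix.fromBlocks_multiply, Matrix.fromBlocks_multiply,
      fromBlocks_sub']
    simp only [Matrix.transpose_zero, Matrix.zero_mul, Matrix.mul_zero, add_zero, zero_add,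
      sub_self]
    constructor
    · rw [Matrix.fromBlocks_transpose, Matrix.fromBlocks_neg, ha₁.1, ha₂.1]
      simp
    · rintro (i | i)
      · exact ha₁.2 i
      · exact ha₂.2 i
  · rw [fromBlocks_diag_sub_one, rank_pow_fromBlocks, mprof_add, hr₁ j, hr₂ j]

/-- a pair of equal blocks, on the standard hyperbolic space. -/
theorem pReal_pair (a : ℕ) : PReal F {a, a} := by
  have hnil : IsNilpotent (Zs (F := F) a) := ⟨a, Zs_pow_self a⟩
  obtain ⟨u, hu⟩ := hnil.isUnit_one_add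
  set W : Matrix (Fin a) (Fin a) F := ((u⁻¹ : (Matrix (Fin a) (Fin a) F)ˣ) : Matrix (Fin a) (Fin a) F)
    with hW
  have h1 : (1 + Zs a) * W = 1 := by rw [← hu, hW]; exact Units.mul_inv u
  have h2 : W * (1 + Zs a) = 1 := by rw [← hu, hW]; exact Units.inv_mul u
  have hGT : fromBlocks (0 : Matrix (Fin a) (Fin a) F) (1 : Matrix (Fin a) (Fin a) F)
        (0 : Matrix (Fin a) (Fin a) F) (0 : Matrix (Fin a) (Fin a) F) +
      (fromBlocks (0 : Matrix (Fin a) (Fin a) F) (1 : Matrix (Fin a) (Fin a) F)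
        (0 : Matrix (Fin a) (Fin a) F) (0 : Matrix (Fin a) (Fin a) F))ᵀ = fromBlocks 0 1 1 0 := by
    rw [Matrix.fromBlocks_transpose, Matrix.fromBlocks_add]
    simp
  refine ⟨Fin a ⊕ Fin a, Fin a, inferInstance, inferInstance, inferInstance,
    fromBlocks (0 : Matrix (Fin a) (Fin a) F) (1 : Matrix (Fin a) (Fin a) F)
      (0 : Matrix (Fin a) (Fin a) F) (0 : Matrix (Fin a) (Fin a) F),
    fromBlocks (1 + Zs a) 0 0 Wᵀ,
    fun i => Sum.elim (Pi.single i 1) 0, fun i => Sum.elim 0 (Pi.single i 1), ?_, ?_, ?_, fun j => ?_⟩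
  · rw [Fintype.card_sum, Fintype.card_fin]
    ring
  · apply hypM_mk
    · intro i
      constructor
      · rw [Matrix.fromBlocks_mulVec, sumElim_dotProduct_sumElim]
        simp
      · rw [Matrix.fromBlocks_mulVec, sumElim_dotProduct_sumElim]
        simp
    · intro i j hij
      rw [hGT, Matrix.fromBlocks_mulVec, sumElim_dotProduct_sumElim]
      simp [hij]
    · intro i
      rw [hGT, Matrix.fromBlocks_mulVec, sumElim_dotProduct_sumElim]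
      simp
    · intro i j
      constructor
      · rw [hGT, Matrix.fromBlocks_mulVec, sumElim_dotProduct_sumElim]
        simp
      · rw [hGT, Matrix.fromBlocks_mulVec, sumElim_dotProduct_sumElim]
        simp
  · have h3 : (fromBlocks (1 + Zs a) 0 0 Wᵀ)ᵀ * fromBlocks (0 : Matrix (Fin a) (Fin a) F) 1 0 0 *
        fromBlocks (1 + Zs a) 0 0 Wᵀ = fromBlocks 0 1 0 0 := by
      rw [Matrix.fromBlocks_transpose, Matrix.fromBlocks_multiply, Matrix.fromBlocks_multiply]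
      simp only [Matrix.transpose_zero, Matrix.zero_mul, Matrix.mul_zero, add_zero, zero_add,
        Matrix.mul_one, Matrix.transpose_transpose]
      congr 1
      rw [← Matrix.transpose_mul, h2, Matrix.transpose_one]
    rw [h3, sub_self]
    exact isAltM_zero
  · rw [fromBlocks_diag_sub_one, rank_pow_fromBlocks, rank_transpose_sub_one_pow,
      rank_inv_sub_one_pow _ _ h1 h2, add_sub_cancel_left, rank_Zs_pow, mprof_pair]

end Cfsg.Agent.Helper7.OrUn
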