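import Mathlib
import Cfsg.Agent.Helper7.OrUnA

/-!
# Realisability in plus type (II): pairs of odd blocks
-/

set_option autoImplicit false

namespace Cfsg.Agent.Helper7.OrUn

open Matrix Module Cfsg.Agent.Helper8.UJ

variable {F : Type*} [Field F]

/-- realisability with a one-dimensional remainder of value `t`. -/
def QReal (F : Type*) [Field F] (ν : Multiset ℕ) (t : F) : Prop :=
  ∃ (ι κ : Type) (_ : Fintype ι) (_ : DecidableEq ι) (_ : Fintype κ) (G A : Matrix ι ι F)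
    (e f : κ → ι → F) (w : ι → F),
    Fintype.card ι = 2 * Fintype.card κ + 1 ∧ HypM G e f ∧
      (∀ i, e i ⬝ᵥ ((G + Gᵀ) *ᵥ w) = 0 ∧ f i ⬝ᵥ ((G + Gᵀ) *ᵥ w) = 0) ∧ w ⬝ᵥ (G *ᵥ w) = t ∧
      IsAltM (Aᵀ * G * A - G) ∧ ∀ j, ((A - 1) ^ j).rank = mprof ν j

section gen

variable {ι : Type*} [Fintype ι]

theorem dot_symm (G : Matrix ι ι F) (u v : ι → F) :
    u ⬝ᵥ ((G + Gᵀ) *ᵥ v) = v ⬝ᵥ ((G + Gᵀ) *ᵥ u) := by
  rw [Matrix.dotProduct_mulVec, dotProduct_comm, ← Matrix.mulVec_transpose]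
  congr 2
  rw [Matrix.transpose_add, Matrix.transpose_transpose, add_comm]

theorem dot_polar_self (G : Matrix ι ι F) (u : ι → F) :
    u ⬝ᵥ ((G + Gᵀ) *ᵥ u) = 2 * (u ⬝ᵥ (G *ᵥ u)) := by
  rw [Matrix.add_mulVec, dotProduct_add, Matrix.dotProduct_mulVec u Gᵀ, Matrix.vecMul_transpose,
    dotProduct_comm (G *ᵥ u) u, two_mul]

theorem smul_add_transpose (c : F) (G : Matrix ι ι F) : c • G + (c • G)ᵀ = c • (G + Gᵀ) := by
  rw [Matrix.transpose_smul, smul_add]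

theorem isAltM_smul {K : Matrix ι ι F} (h : IsAltM K) (c : F) : IsAltM (c • K) := by
  constructor
  · rw [Matrix.transpose_smul, h.1, smul_neg]
  · intro i
    rw [Matrix.smul_apply, h.2 i, smul_zero]

end gen

/-- rescaling the form. -/
theorem qReal_smul (ν : Multiset ℕ) (t : F) (h : QReal F ν t) {c : F} (hc : c ≠ 0) :
    QReal F ν (c * t) := by
  obtain ⟨ι, κ, _, _, _, G, A, e, f, w, hcard, ⟨a1, a2, a3, a4⟩, how, hw, halt, hr⟩ := h
  refine ⟨ι, κ, inferInstance, inferInstance, inferInstance, c • G, A, e, fun i => c⁻¹ • f i, w,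
    hcard, ?_, ?_, ?_, ?_, hr⟩
  · apply hypM_mk
    · intro i
      constructor
      · rw [Matrix.smul_mulVec, dotProduct_smul, (a1 i).1, smul_zero]
      · rw [Matrix.smul_mulVec, Matrix.mulVec_smul, dotProduct_smul, dotProduct_smul,
          smul_dotProduct, (a1 i).2]
        simp
    · intro i j hij
      rw [smul_add_transpose, Matrix.smul_mulVec, Matrix.mulVec_smul, dotProduct_smul,
        dotProduct_smul, a2 i j hij]
      simp
    · intro i
      rw [smul_add_transpose, Matrix.smul_mulVec, Matrix.mulVec_smul, dotProduct_smul,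
        dotProduct_smul, a3 i, smul_eq_mul, smul_eq_mul, mul_one, mul_inv_cancel₀ hc]
    · intro i j
      constructor
      · rw [smul_add_transpose, Matrix.smul_mulVec, dotProduct_smul, (a4 i j).1, smul_zero]
      · rw [smul_add_transpose, Matrix.smul_mulVec, Matrix.mulVec_smul, dotProduct_smul,
          dotProduct_smul, smul_dotProduct, (a4 i j).2]
        simp
  · intro i
    constructor
    · rw [smul_add_transpose, Matrix.smul_mulVec, dotProduct_smul, (how i).1, smul_zero]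
    · rw [smul_add_transpose, Matrix.smul_mulVec, dotProduct_smul, smul_dotProduct, (how i).2]
      simp
  · rw [Matrix.smul_mulVec, dotProduct_smul, hw, smul_eq_mul]
  · have : Aᵀ * (c • G) * A - c • G = c • (Aᵀ * G * A - G) := by
      rw [Matrix.mul_smul, Matrix.smul_mul, smul_sub]
    rw [this]
    exact isAltM_smul halt c

/-- two remainders of opposite values combine to a hyperbolic pair. -/
theorem pReal_of_qReal (h2 : (2 : F) ≠ 0) (ν₁ ν₂ : Multiset ℕ) {t : F} (ht : t ≠ 0)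
    (h₁ : QReal F ν₁ t) (h₂ : QReal F ν₂ (-t)) : PReal F (ν₁ + ν₂) := by
  obtain ⟨ι₁, κ₁, _, _, _, G₁, A₁, e₁, f₁, w₁, hc₁, hh₁, ho₁, hw₁, ha₁, hr₁⟩ := h₁
  obtain ⟨ι₂, κ₂, _, _, _, G₂, A₂, e₂, f₂, w₂, hc₂, hh₂, ho₂, hw₂, ha₂, hr₂⟩ := h₂
  have h4 : (4 : F) ≠ 0 := by
    have : (4 : F) = 2 * 2 := by norm_num
    rw [this]
    exact mul_ne_zero h2 h2
  have h4t : (4 : F) * t ≠ 0 := mul_ne_zero h4 ht
  obtain ⟨s, hs⟩ : ∃ s : F, s = (4 * t)⁻¹ := ⟨_, rfl⟩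
  have hs4 : s * (4 * t) = 1 := by rw [hs, inv_mul_cancel₀ h4t]
  have hadd := hypM_add G₁ G₂ e₁ f₁ e₂ f₂ hh₁ hh₂
  obtain ⟨b1, b2, b3, b4⟩ := hadd
  obtain ⟨E, hE⟩ : ∃ E : (κ₁ ⊕ κ₂) → (ι₁ ⊕ ι₂) → F,
      E = Sum.elim (fun i => Sum.elim (e₁ i) (0 : ι₂ → F)) (fun i => Sum.elim (0 : ι₁ → F) (e₂ i)) :=
    ⟨_, rfl⟩
  obtain ⟨E', hE'⟩ : ∃ E' : (κ₁ ⊕ κ₂) → (ι₁ ⊕ ι₂) → F,
      E' = Sum.elim (fun i => Sum.elim (f₁ i) (0 : ι₂ → F)) (fun i => Sum.elim (0 : ι₁ → F) (f₂ i)) :=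
    ⟨_, rfl⟩
  rw [← hE, ← hE'] at b1 b2 b3 b4
  obtain ⟨Gs', hGs'⟩ : ∃ Gs' : Matrix (ι₁ ⊕ ι₂) (ι₁ ⊕ ι₂) F, Gs' = fromBlocks G₁ 0 0 G₂ := ⟨_, rfl⟩
  rw [← hGs'] at b1 b2 b3 b4
  -- the new vectors
  obtain ⟨x, hx⟩ : ∃ x : (ι₁ ⊕ ι₂) → F, x = Sum.elim w₁ w₂ := ⟨_, rfl⟩
  obtain ⟨y, hy⟩ : ∃ y : (ι₁ ⊕ ι₂) → F, y = Sum.elim (s • w₁) (-(s • w₂)) := ⟨_, rfl⟩
  have hP : Gs' + Gs'ᵀ = fromBlocks (G₁ + G₁ᵀ) 0 0 (G₂ + G₂ᵀ) := by
    rw [hGs']
    exact fromBlocks_add_transpose G₁ G₂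
  -- general evaluation
  have ev : ∀ (M₁ : Matrix ι₁ ι₁ F) (M₂ : Matrix ι₂ ι₂ F) (u₁ v₁ : ι₁ → F) (u₂ v₂ : ι₂ → F),
      (Sum.elim u₁ u₂) ⬝ᵥ (fromBlocks M₁ 0 0 M₂ *ᵥ Sum.elim v₁ v₂) =
        u₁ ⬝ᵥ (M₁ *ᵥ v₁) + u₂ ⬝ᵥ (M₂ *ᵥ v₂) := by
    intro M₁ M₂ u₁ v₁ u₂ v₂
    rw [Matrix.fromBlocks_mulVec, sumElim_dotProduct_sumElim]
    simp
  have hxx : x ⬝ᵥ (Gs' *ᵥ x) = 0 := by
    rw [hx, hGs', ev, hw₁, hw₂, add_neg_cancel]
  have hyy : y ⬝ᵥ (Gs' *ᵥ y) = 0 := by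
    rw [hy, hGs', ev]
    simp only [Matrix.mulVec_smul, Matrix.mulVec_neg, dotProduct_smul, dotProduct_neg,
      smul_dotProduct, neg_dotProduct, smul_eq_mul, hw₁, hw₂]
    ring
  have hxy : x ⬝ᵥ ((Gs' + Gs'ᵀ) *ᵥ y) = 1 := by
    rw [hP, hx, hy, ev]
    simp only [Matrix.mulVec_smul, Matrix.mulVec_neg, dotProduct_smul, dotProduct_neg,
      smul_dotProduct, neg_dotProduct, smul_eq_mul, dot_polar_self, hw₁, hw₂]
    rw [← hs4]
    ring
  have hxE : ∀ i, E i ⬝ᵥ ((Gs' + Gs'ᵀ) *ᵥ x) = 0 ∧ E' i ⬝ᵥ ((Gs' + Gs'ᵀ) *ᵥ x) = 0 := by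
    rintro (i | i)
    · rw [hP, hx, hE, hE']
      simp only [Sum.elim_inl]
      rw [ev, ev, (ho₁ i).1, (ho₁ i).2]
      simp
    · rw [hP, hx, hE, hE']
      simp only [Sum.elim_inr]
      rw [ev, ev, (ho₂ i).1, (ho₂ i).2]
      simp
  have hyE : ∀ i, E i ⬝ᵥ ((Gs' + Gs'ᵀ) *ᵥ y) = 0 ∧ E' i ⬝ᵥ ((Gs' + Gs'ᵀ) *ᵥ y) = 0 := by
    rintro (i | i)
    · rw [hP, hy, hE, hE']
      simp only [Sum.elim_inl]
      rw [ev, ev]
      simp only [Matrix.mulVec_smul, Matrix.mulVec_neg, dotProduct_smul, dotProduct_neg,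
        smul_dotProduct, neg_dotProduct, smul_eq_mul, (ho₁ i).1, (ho₁ i).2, zero_dotProduct]
      simp
    · rw [hP, hy, hE, hE']
      simp only [Sum.elim_inr]
      rw [ev, ev]
      simp only [Matrix.mulVec_smul, Matrix.mulVec_neg, dotProduct_smul, dotProduct_neg,
        smul_dotProduct, neg_dotProduct, smul_eq_mul, (ho₂ i).1, (ho₂ i).2, zero_dotProduct]
      simp
  refine ⟨ι₁ ⊕ ι₂, (κ₁ ⊕ κ₂) ⊕ Unit, inferInstance, inferInstance, inferInstance, Gs',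
    fromBlocks A₁ 0 0 A₂, Sum.elim E (fun _ => x), Sum.elim E' (fun _ => y), ?_, ?_, ?_, fun j => ?_⟩
  · rw [Fintype.card_sum, Fintype.card_sum, Fintype.card_sum, hc₁, hc₂, Fintype.card_unit]
    ring
  · apply hypM_mk
    · rintro (i | i)
      · exact b1 i
      · exact ⟨hxx, hyy⟩
    · rintro (i | i) (j | j) hij
      · exact b2 i j (fun h => hij (by rw [h]))
      · exact (hyE i).1
      · simp only [Sum.elim_inl, Sum.elim_inr]
        rw [dot_symm]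
        exact (hxE j).2
      · exact absurd rfl hij
    · rintro (i | i)
      · exact b3 i
      · exact hxy
    · rintro (i | i) (j | j)
      · exact b4 i j
      · exact ⟨(hxE i).1, (hyE i).2⟩
      · simp only [Sum.elim_inl, Sum.elim_inr]
        rw [dot_symm, dot_symm Gs' y]
        exact ⟨(hxE j).1, (hyE j).2⟩
      · simp only [Sum.elim_inr]
        rw [dot_polar_self, dot_polar_self, hxx, hyy, mul_zero]
        exact ⟨rfl, rfl⟩
  · rw [hGs', Matrix.fromBlocks_transpose, Matrix.fromBlocks_multiply, Matrix.fromBlocks_multiply,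
      fromBlocks_sub']
    simp only [Matrix.transpose_zero, Matrix.zero_mul, Matrix.mul_zero, add_zero, zero_add,
      sub_self]
    constructor
    · rw [Matrix.fromBlocks_transpose, Matrix.fromBlocks_neg, ha₁.1, ha₂.1]
      simp
    · rintro (i | i)
      · exact ha₁.2 i
      · exact ha₂.2 i
  · rw [fromBlocks_diag_sub_one, rank_pow_fromBlocks, mprof_add, hr₁ j, hr₂ j]

section single

theorem single_dot_single {n : ℕ} (M : Matrix (Fin n) (Fin n) F) (p q : Fin n) (x y : F) :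
    (Pi.single p x : Fin n → F) ⬝ᵥ (M *ᵥ Pi.single q y) = x * M p q * y := by
  rw [Matrix.mulVec_single, single_dotProduct]
  simp [mul_assoc, mul_comm y]

/-- a single odd block with its remainder. -/
theorem qReal_single (h2 : (2 : F) ≠ 0) (k : ℕ) : QReal F {2 * k + 1} ((-1) ^ k) := by
  obtain ⟨n, hn⟩ : ∃ n, n = 2 * k + 1 := ⟨_, rfl⟩
  have hodd : Odd n := ⟨k, hn⟩
  obtain ⟨U, V, hU, hU1, cTV, e2, e1⟩ := cayley (Gs (F := F) n) (Zs n) n (Zs_pow_self n) (Gs_skew n)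
  have hGG : Gs (F := F) n + (Gs n)ᵀ = (2 : F) • Gs n := by
    rw [Gs_transpose n hodd, two_smul]
  have hGs : ∀ p q : Fin n, Gs (F := F) n p q = if (p : ℕ) + (q : ℕ) + 1 = n then (-1) ^ (p : ℕ) else 0 := by
    intro p q
    simp [Gs]
  rw [← hn]
  refine ⟨Fin n, Fin k, inferInstance, inferInstance, inferInstance, Gs n, U,
    fun i => Pi.single ⟨i, by omega⟩ 1,
    fun i => Pi.single ⟨2 * k - i, by omega⟩ ((-1) ^ (i : ℕ) * (2 : F)⁻¹),
    Pi.single ⟨k, by omega⟩ 1, ?_, ?_, ?_, ?_, ?_, fun j => ?_⟩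
  · rw [Fintype.card_fin, Fintype.card_fin, hn]
  · apply hypM_mk
    · intro i
      have hi := i.2
      constructor
      · rw [single_dot_single, hGs, if_neg (by simp only []; omega)]
        simp
      · rw [single_dot_single, hGs, if_neg (by simp only []; omega)]
        simp
    · intro i j hij
      have hi := i.2
      have hj := j.2
      have hne : (i : ℕ) ≠ (j : ℕ) := fun h => hij (Fin.ext h)
      rw [hGG, single_dot_single, Matrix.smul_apply, hGs, if_neg (by simp only []; omega)]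
      simp
    · intro i
      have hi := i.2
      rw [hGG, single_dot_single, Matrix.smul_apply, hGs, if_pos (by simp only []; omega)]
      simp only [smul_eq_mul, one_mul]
      have h1 : ((-1 : F) ^ (i : ℕ)) * ((-1) ^ (i : ℕ)) = 1 := by
        rw [← mul_pow]
        simp
      calc (2 : F) * (-1) ^ (i : ℕ) * ((-1) ^ (i : ℕ) * 2⁻¹)
          = ((-1) ^ (i : ℕ) * (-1) ^ (i : ℕ)) * (2 * 2⁻¹) := by ring
        _ = 1 := by rw [h1, mul_inv_cancel₀ h2, mul_one]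
    · intro i j
      have hi := i.2
      have hj := j.2
      constructor
      · rw [hGG, single_dot_single, Matrix.smul_apply, hGs, if_neg (by simp only []; omega)]
        simp
      · rw [hGG, single_dot_single, Matrix.smul_apply, hGs, if_neg (by simp only []; omega)]
        simp
  · intro i
    have hi := i.2
    constructor
    · rw [hGG, single_dot_single, Matrix.smul_apply, hGs, if_neg (by simp only []; omega)]
      simp
    · rw [hGG, single_dot_single, Matrix.smul_apply, hGs, if_neg (by simp only []; omega)]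
      simp
  · rw [single_dot_single, hGs, if_pos (by simp only []; omega)]
    simp
  · rw [hU, sub_self]
    exact isAltM_zero
  · have hu : IsUnit ((2 : F) • V) := by
      refine ⟨⟨(2 : F) • V, (2 : F)⁻¹ • (1 - Zs n), ?_, ?_⟩, rfl⟩
      · rw [Matrix.smul_mul, Matrix.mul_smul, e2, smul_smul, mul_inv_cancel₀ h2, one_smul]
      · rw [Matrix.smul_mul, Matrix.mul_smul, e1, smul_smul, inv_mul_cancel₀ h2, one_smul]
    rw [hU1, rank_pow_mul_unit _ _ (cTV.smul_right _) hu, rank_Zs_pow, mprof_singleton]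

end single

/-- **a pair of odd blocks is realised in plus type.** -/
theorem pReal_odd_pair (h2 : (2 : F) ≠ 0) (a b : ℕ) (ha : Odd a) (hb : Odd b) : PReal F {a, b} := by
  obtain ⟨k, rfl⟩ := ha
  obtain ⟨l, rfl⟩ := hb
  have h1 := qReal_single h2 k
  have h3 := qReal_single h2 l
  have hne : ∀ m : ℕ, ((-1 : F)) ^ m ≠ 0 := fun m => pow_ne_zero m (neg_ne_zero.mpr one_ne_zero)
  have hc : (-((-1 : F)) ^ k * ((-1) ^ l)⁻¹) ≠ 0 :=
    mul_ne_zero (neg_ne_zero.mpr (hne k)) (inv_ne_zero (hne l))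
  have h4 := qReal_smul _ _ h3 hc
  have h5 : -(-1 : F) ^ k * ((-1) ^ l)⁻¹ * (-1) ^ l = -((-1) ^ k) := by
    rw [mul_assoc, inv_mul_cancel₀ (hne l), mul_one]
  rw [h5] at h4
  have := pReal_of_qReal h2 _ _ (hne k) h1 h4
  have hm : ({2 * k + 1} : Multiset ℕ) + {2 * l + 1} = {2 * k + 1, 2 * l + 1} := by
    rfl
  rw [hm] at this
  exact this

end Cfsg.Agent.Helper7.OrUn
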