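import Mathlib
import Cfsg.Agent.Helper7.OrUnB

/-!
# Realisability in plus type (III): all admissible types of even total size
-/

set_option autoImplicit false

namespace Cfsg.Agent.Helper7.OrUn

open Matrix Module Cfsg.Agent.Helper8.UJ

variable {F : Type*} [Field F]

/-- **every admissible type of even size is realised in plus type** (odd characteristic). -/
theorem pReal_of_valid (h2 : (2 : F) ≠ 0) :
    ∀ (n : ℕ) (μ : Multiset ℕ), Multiset.card μ = n → (∀ a, Even a → Even (μ.count a)) → Even μ.sum →
      PReal F μ := by
  intro n
  induction n using Nat.strong_induction_on with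
  | _ n ih =>
    intro μ hcard hev hsum
    by_cases hex : ∃ a ∈ μ, Even a
    · obtain ⟨a, ha, hae⟩ := hex
      have hc2 : 2 ≤ μ.count a := by
        have h1 : 1 ≤ μ.count a := Multiset.one_le_count_iff_mem.mpr ha
        obtain ⟨c, hc⟩ := hev a hae
        omega
      have hle : ({a, a} : Multiset ℕ) ≤ μ := by
        rw [Multiset.le_iff_count]
        intro b
        by_cases hb : b = a
        · subst hb
          have : Multiset.count b ({b, b} : Multiset ℕ) = 2 := by
            simp
          rw [this]
          exact hc2
        · have : Multiset.count b ({a, a} : Multiset ℕ) = 0 := by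
            rw [Multiset.count_eq_zero]
            intro hmem
            simp at hmem
            exact hb hmem
          rw [this]
          exact Nat.zero_le _
      obtain ⟨μ', hμ'⟩ := Multiset.le_iff_exists_add.mp hle
      have hcard' : Multiset.card μ' < n := by
        rw [← hcard, hμ', Multiset.card_add]
        simp
      have hev' : ∀ b, Even b → Even (μ'.count b) := by
        intro b hb
        have h1 := hev b hb
        rw [hμ', Multiset.count_add] at h1
        by_cases hba : b = a
        · subst hba
          have : Multiset.count b ({b, b} : Multiset ℕ) = 2 := by simp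
          rw [this] at h1
          obtain ⟨c, hc⟩ := h1
          exact ⟨c - 1, by omega⟩
        · have : Multiset.count b ({a, a} : Multiset ℕ) = 0 := by
            rw [Multiset.count_eq_zero]
            intro hmem
            simp at hmem
            exact hba hmem
          rw [this, zero_add] at h1
          exact h1
      have hsum' : Even μ'.sum := by
        rw [hμ', Multiset.sum_add] at hsum
        have : ({a, a} : Multiset ℕ).sum = a + a := by simp
        rw [this] at hsum
        obtain ⟨c, hc⟩ := hsum
        exact ⟨c - a, by omega⟩
      rw [hμ']
      exact pReal_add _ _ (pReal_pair a) (ih _ hcard' μ' rfl hev' hsum')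
    · push Not at hex
      have hodd : ∀ a ∈ μ, Odd a := fun a ha => Nat.not_even_iff_odd.mp (hex a ha)
      rcases Multiset.empty_or_exists_mem μ with h0 | ⟨a, ha⟩
      · rw [h0]
        exact pReal_zero
      · obtain ⟨μ₁, hμ₁⟩ := Multiset.exists_cons_of_mem ha
        have hs1 : Odd μ₁.sum := by
          rw [hμ₁, Multiset.sum_cons] at hsum
          have hao := hodd a ha
          rcases Nat.even_or_odd μ₁.sum with h | h
          · exact absurd hsum (Nat.not_even_iff_odd.mpr (hao.add_even h))
          · exact h
        have hne : μ₁ ≠ 0 := by
          intro h
          rw [h, Multiset.sum_zero] at hs1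
          exact absurd hs1 (by decide)
        obtain ⟨b, hb⟩ := Multiset.exists_mem_of_ne_zero hne
        obtain ⟨μ₂, hμ₂⟩ := Multiset.exists_cons_of_mem hb
        have hbμ : b ∈ μ := by rw [hμ₁]; exact Multiset.mem_cons_of_mem hb
        have hμeq : μ = {a, b} + μ₂ := by
          rw [hμ₁, hμ₂]
          have : ({a, b} : Multiset ℕ) = a ::ₘ b ::ₘ 0 := rfl
          rw [this, Multiset.cons_add, Multiset.cons_add, zero_add]
        have hcard' : Multiset.card μ₂ < n := by
          rw [← hcard, hμeq, Multiset.card_add]
          simp
        have hev' : ∀ c, Even c → Even (μ₂.count c) := by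
          intro c hc
          have : μ₂.count c = 0 := by
            rw [Multiset.count_eq_zero]
            intro hmem
            have hcμ : c ∈ μ := by
              rw [hμeq]
              exact Multiset.mem_add.mpr (Or.inr hmem)
            exact hex c hcμ hc
          rw [this]
          exact Even.zero
        have hsum' : Even μ₂.sum := by
          rw [hμ₂, Multiset.sum_cons] at hs1
          have hbo := hodd b hbμ
          rcases Nat.even_or_odd μ₂.sum with h | h
          · exact h
          · exact absurd hs1 (Nat.not_odd_iff_even.mpr (hbo.add_odd h))
        rw [hμeq]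
        exact pReal_add _ _ (pReal_odd_pair h2 a b (hodd a ha) (hodd b hbμ)) (ih _ hcard' μ₂ rfl hev' hsum')

end Cfsg.Agent.Helper7.OrUn
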