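import Mathlib
import Cfsg.Agent.Helper7.OrUnC
import Cfsg.Agent.Helper7.OrthMaxC
import Cfsg.Agent.Helper8.StdTransfer
import Cfsg.Agent.Helper8.SpUL

/-!
# Realisability in plus type (IV): transfer to the standard form, elements of `Ω⁺`
-/

set_option autoImplicit false

namespace Cfsg.Agent.Helper7.OrUn

open Matrix Module Cfsg.Agent.Helper8.UJ Cfsg.Agent.Helper8.QuadForm Cfsg.Agent.Helper8.StdForms
  Cfsg.Agent.Helper8.StdTransfer Cfsg.Agent.Helper8.OrthOrder Cfsg.Agent.Helper8.SiegelGroup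
  Cfsg.Agent.Helper8.ReflMatrix Cfsg.Agent.Helper8.OmegaSimple Cfsg.Agent.Helper7.OrthMax

variable {F : Type*} [Field F]

section qf

variable {ι : Type*} [Fintype ι] [DecidableEq ι]

/-- the quadratic form `v ↦ v ⬝ G v`. -/
noncomputable def qf (G : Matrix ι ι F) : QuadraticForm F (ι → F) :=
  LinearMap.BilinMap.toQuadraticMap (Matrix.toLinearMap₂' F G)

theorem qf_apply (G : Matrix ι ι F) (v : ι → F) : qf G v = v ⬝ᵥ (G *ᵥ v) := by
  unfold qf
  rw [LinearMap.BilinMap.toQuadraticMap_apply, Matrix.toLinearMap₂'_apply']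

theorem polar_qf (G : Matrix ι ι F) (u v : ι → F) :
    QuadraticMap.polar (qf G) u v = u ⬝ᵥ ((G + Gᵀ) *ᵥ v) := by
  unfold QuadraticMap.polar
  rw [qf_apply, qf_apply, qf_apply, Matrix.add_mulVec, dotProduct_add, Matrix.mulVec_add,
    add_dotProduct, dotProduct_add, dotProduct_add,
    Matrix.dotProduct_mulVec u Gᵀ, Matrix.vecMul_transpose, dotProduct_comm (G *ᵥ u) v]
  ring

theorem qf_invariant (G A : Matrix ι ι F) (halt : IsAltM (Aᵀ * G * A - G)) (v : ι → F) :
    qf G (A *ᵥ v) = qf G v := by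
  rw [qf_apply, qf_apply]
  have h1 := halt.dot_eq_zero v
  rw [Matrix.sub_mulVec, dotProduct_sub, sub_eq_zero] at h1
  rw [← h1, ← Matrix.mulVec_mulVec, ← Matrix.mulVec_mulVec, Matrix.dotProduct_mulVec v,
    Matrix.vecMul_transpose]

end qf

/-- squares lie in the commutator subgroup of a group generated by involutions. -/
theorem sq_mem_commutator {H : Type*} [Group H] (S : Set H) (hS : Subgroup.closure S = ⊤)
    (hinv : ∀ s ∈ S, s⁻¹ = s) (g : H) : g ^ 2 ∈ commutator H := by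
  have key : ∀ g : H, (Abelianization.of g) ^ 2 = 1 := by
    intro g
    have hg : g ∈ Subgroup.closure S := by rw [hS]; exact Subgroup.mem_top g
    induction hg using Subgroup.closure_induction with
    | mem s hs =>
      rw [← map_pow, pow_two]
      have : s * s = 1 := by
        have h := hinv s hs
        calc s * s = s * s⁻¹ := by rw [h]
          _ = 1 := mul_inv_cancel s
      rw [this, map_one]
    | one => rw [map_one, one_pow]
    | mul a b _ _ ha hb => rw [map_mul, mul_pow, ha, hb, one_mul]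
    | inv a _ ha => rw [map_inv, inv_pow, ha, inv_one]
  have h1 := key g
  rw [← map_pow] at h1
  rw [← Abelianization.ker_of, MonoidHom.mem_ker]
  exact h1

/-- **an element of `Ω⁺` of odd prime order with a prescribed plus-type rank profile.** -/
theorem exists_omega_elt [Fintype F] (p : ℕ) [Fact p.Prime] [CharP F p] (hp2 : p ≠ 2) {d : ℕ}
    (hd : 3 ≤ d) (μ : Multiset ℕ) (hμ : ∀ a ∈ μ, a ≤ p) (hsum : μ.sum = 2 * d) (hreal : PReal F μ) :
    ∃ x : GL (Fin d ⊕ Fin d) F, x ∈ Cfsg.Geo.omegaGL (Cfsg.quadFormPlus d F) ∧ x ^ p = 1 ∧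
      ∀ j, (((x : Matrix (Fin d ⊕ Fin d) (Fin d ⊕ Fin d) F) - 1) ^ j).rank = mprof μ j := by
  classical
  have hp : p.Prime := Fact.out
  obtain ⟨ι, κ, _, _, _, G, A, e, f, hcard, ⟨a1, a2, a3, a4⟩, halt, hr⟩ := hreal
  -- sizes
  have hιd : Fintype.card ι = 2 * d := by
    have h0 := hr 0
    rw [pow_zero, Matrix.rank_one, Cfsg.Agent.Helper8.SpU.mprof_zero_eq, hsum] at h0
    exact h0
  have hκd : Fintype.card κ = d := by omega
  obtain ⟨σ⟩ : Nonempty (Fin d ≃ κ) := ⟨(Fintype.equivFinOfCardEq hκd).symm⟩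
  -- the hyperbolic family
  have hhyp : IsHyp (qf G) (fun i => e (σ i)) (fun i => f (σ i)) := by
    refine ⟨fun i => ⟨?_, ?_⟩, fun i j => ?_, fun i j => ⟨?_, ?_⟩⟩
    · rw [qf_apply]; exact (a1 (σ i)).1
    · rw [qf_apply]; exact (a1 (σ i)).2
    · rw [polar_qf]
      by_cases hij : i = j
      · subst hij
        rw [if_pos rfl]
        exact a3 (σ i)
      · rw [if_neg hij]
        exact a2 _ _ (fun h => hij (σ.injective h))
    · rw [polar_qf]; exact (a4 _ _).1
    · rw [polar_qf]; exact (a4 _ _).2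
  have hfr : finrank F (ι → F) = 2 * d := by
    rw [Module.finrank_fintype_fun_eq_card, hιd]
  obtain ⟨b, hb⟩ := hhyp.exists_basis (qf G) hfr
  have hbl : ∀ i, b (Sum.inl i) = e (σ i) := fun i => by rw [hb]; rfl
  have hbr : ∀ i, b (Sum.inr i) = f (σ i) := fun i => by rw [hb]; rfl
  have htr : ∀ v, plusForm F d (b.equivFun v) = qf G v := by
    apply plus_transfer (qf G) b
    · intro i
      rw [hbl, hbr]
      exact hhyp.1 i
    · intro i j
      rw [hbl, hbr]
      exact hhyp.2.1 i j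
    · intro i j
      rw [hbl, hbl, hbr, hbr]
      exact hhyp.2.2 i j
  -- the unipotent matrix as an invertible matrix
  have hnilp : (A - 1) ^ p = 0 := by
    apply eq_zero_of_rank_eq_zero
    rw [hr, Cfsg.Agent.Helper8.SpU.mprof_eq_zero_iff]
    exact hμ
  have hAp : A ^ p = 1 := by
    have := Cfsg.Agent.Helper8.SpU.sub_one_pow_char p A
    rw [hnilp] at this
    exact (sub_eq_zero.mp this.symm)
  obtain ⟨gA, hgA⟩ := isUnit_of_sub_one_nilpotent A ⟨p, hnilp⟩
  -- transported isometry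
  obtain ⟨φ, hφ⟩ : ∃ φ : (ι → F) ≃ₗ[F] (Fin d ⊕ Fin d → F), φ = b.equivFun := ⟨_, rfl⟩
  rw [← hφ] at htr
  obtain ⟨k, hk⟩ : ∃ k : (Fin d ⊕ Fin d → F) ≃ₗ[F] (Fin d ⊕ Fin d → F),
      k = (φ.symm.trans (glEquiv gA)).trans φ := ⟨_, rfl⟩
  have hkapp : ∀ w, k w = φ (A *ᵥ (φ.symm w)) := by
    intro w
    rw [hk]
    simp only [LinearEquiv.trans_apply]
    rw [glEquiv_apply, hgA]
  have hkI : k ∈ Isom (plusForm F d) := by
    intro w
    rw [hkapp, htr, qf_invariant G A halt, ← htr, LinearEquiv.apply_symm_apply]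
  have hQ : (QuadraticMap.polarBilin (plusForm F d)).Nondegenerate := plusForm_nondeg F d
  have h5 : 5 ≤ Fintype.card (Fin d ⊕ Fin d) := by
    rw [Fintype.card_sum, Fintype.card_fin]
    omega
  obtain ⟨K, hK⟩ : ∃ K : ↥(Isom (plusForm F d)), K = ⟨k, hkI⟩ := ⟨_, rfl⟩
  obtain ⟨x, hx⟩ : ∃ x : GL (Fin d ⊕ Fin d) F, x = toGL (plusForm F d) K := ⟨_, rfl⟩
  have hxmul : ∀ v, (x : Matrix (Fin d ⊕ Fin d) (Fin d ⊕ Fin d) F) *ᵥ v = k v := by
    intro v
    rw [hx, toGL_mulVec, hK]
  -- rank profile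
  have hprof : ∀ j, (((x : Matrix (Fin d ⊕ Fin d) (Fin d ⊕ Fin d) F) - 1) ^ j).rank = mprof μ j := by
    intro j
    rw [← hr j, ← finrank_range_toLin'_sub_one_pow, ← finrank_range_toLin'_sub_one_pow]
    have hconj : ∀ (j : ℕ) (w : Fin d ⊕ Fin d → F),
        ((Matrix.toLin' (x : Matrix (Fin d ⊕ Fin d) (Fin d ⊕ Fin d) F) - 1) ^ j) w =
          φ (((Matrix.toLin' A - 1) ^ j) (φ.symm w)) := by
      intro j
      induction j with
      | zero => intro w; simp
      | succ j ih =>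
        intro w
        rw [pow_succ', Module.End.mul_apply, ih, pow_succ', Module.End.mul_apply]
        rw [LinearMap.sub_apply, LinearMap.sub_apply, Matrix.toLin'_apply, hxmul, hkapp,
          Module.End.one_apply, Module.End.one_apply, Matrix.toLin'_apply,
          LinearEquiv.symm_apply_apply, map_sub]
    have hrange : LinearMap.range ((Matrix.toLin' (x : Matrix (Fin d ⊕ Fin d) (Fin d ⊕ Fin d) F) - 1) ^ j) =
        (LinearMap.range ((Matrix.toLin' A - 1) ^ j)).map (φ : (ι → F) →ₗ[F] (Fin d ⊕ Fin d → F)) := by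
      ext w
      constructor
      · rintro ⟨w', rfl⟩
        rw [hconj]
        exact ⟨_, ⟨φ.symm w', rfl⟩, rfl⟩
      · rintro ⟨_, ⟨v, rfl⟩, rfl⟩
        refine ⟨φ v, ?_⟩
        rw [hconj, LinearEquiv.symm_apply_apply]
        rfl
    rw [hrange]
    exact LinearEquiv.finrank_map_eq φ _
  -- order
  have hxp : x ^ p = 1 := by
    have h1 : ((x : Matrix (Fin d ⊕ Fin d) (Fin d ⊕ Fin d) F) - 1) ^ p = 0 := by
      apply eq_zero_of_rank_eq_zero
      rw [hprof, Cfsg.Agent.Helper8.SpU.mprof_eq_zero_iff]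
      exact hμ
    have h2 := Cfsg.Agent.Helper8.SpU.sub_one_pow_char p (x : Matrix (Fin d ⊕ Fin d) (Fin d ⊕ Fin d) F)
    rw [h1] at h2
    apply Units.ext
    rw [Units.val_pow_eq_pow_val, Units.val_one]
    exact sub_eq_zero.mp h2.symm
  -- membership in Ω
  have hinj : Function.Injective (toGL (plusForm F d)) := by
    unfold toGL
    intro a b hab
    simp only [MonoidHom.coe_comp, Function.comp_apply] at hab
    exact (isomEquiv (plusForm F d)).symm.injective (Subtype.ext hab)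
  have hKp : K ^ p = 1 := by
    apply hinj
    rw [map_pow, ← hx, hxp, map_one]
  have hKsq : K = (K ^ ((p + 1) / 2)) ^ 2 := by
    rw [← pow_mul]
    have hodd : Odd p := hp.odd_of_ne_two hp2
    obtain ⟨m, hm⟩ := hodd
    have : (p + 1) / 2 * 2 = p + 1 := by omega
    rw [this, pow_succ, hKp, one_mul]
  have hgen := closure_reflG (plusForm F d) hQ h5
  have hKcomm : K ∈ commutator ↥(Isom (plusForm F d)) := by
    rw [hKsq]
    apply sq_mem_commutator _ hgen
    rintro s ⟨z, -, rfl⟩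
    exact reflG_inv _ z
  have hcomm := commutator_eq_SG (plusForm F d) ((nondeg_iff _).mp hQ)
    (by rw [Module.finrank_fintype_fun_eq_card]; exact h5) hgen
  rw [hcomm] at hKcomm
  have hxΩ := toGL_mem_omegaGL (plusForm F d) hQ h5 hKcomm
  rw [← hx] at hxΩ
  have hfun : (⇑(plusForm F d) : (Fin d ⊕ Fin d → F) → F) = Cfsg.quadFormPlus d F := by
    funext v
    exact plusForm_apply F d v
  rw [hfun] at hxΩ
  exact ⟨x, hxΩ, hxp, hprof⟩

end Cfsg.Agent.Helper7.OrUn
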