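import Mathlib
import Cfsg.Agent.Helper7.OrUnD
import Cfsg.Agent.Helper7.SpUnD
import Cfsg.Agent.Helper8.UJEven

/-!
# Unipotent isometries of symmetric forms on an invariant nondegenerate subspace: parity of the type
-/

set_option autoImplicit false

namespace Cfsg.Agent.Helper7.OrUn

open Matrix Module Cfsg.Agent.Helper8.UJ Cfsg.Agent.Helper7.SpUn Cfsg.Agent.Helper7.SpOrd
  Cfsg.Agent.Helper8.SpU

variable {F : Type*} [Field F] {V : Type*} [AddCommGroup V] [Module F V]

theorem exists_fin_of_multiset (ν : Multiset ℕ) :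
    ∃ (t : ℕ) (d : Fin t → ℕ), Finset.univ.val.map d = ν := by
  refine ⟨ν.toList.length, fun i => ν.toList.get i, ?_⟩
  have h1 : (Finset.univ : Finset (Fin ν.toList.length)).val.map (fun i => ν.toList.get i) =
      ((List.ofFn (fun i => ν.toList.get i) : List ℕ) : Multiset ℕ) := by
    rw [Fin.univ_val_map]
  rw [h1, List.ofFn_get, Multiset.coe_toList]

/-- **parity of the type on an invariant nondegenerate subspace** (symmetric form, odd
characteristic): even parts have even multiplicity. -/
theorem type_even_symm [FiniteDimensional F V] {B : LinearMap.BilinForm F V} (hS : B.IsSymm)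
    (h2 : (2 : F) ≠ 0) {T : Module.End F V} (hiso : ∀ u v, B (T u) (T v) = B u v)
    (W : Submodule F V) (hWT : W ∈ Module.End.invtSubmodule T) (hWnd : ND B W)
    (ν : Multiset ℕ) (hνpos : ∀ a ∈ ν, 1 ≤ a) (hν : ∀ j, rprof (T - 1) W j = mprof ν j) :
    ∀ a : ℕ, Even a → Even (ν.count a) := by
  intro a ha
  rcases Nat.eq_zero_or_pos a with rfl | ha0
  · have : ν.count 0 = 0 := by
      rw [Multiset.count_eq_zero]
      intro h
      have := hνpos 0 h
      omega
    rw [this]
    exact Even.zero
  have hWT' : ∀ x ∈ W, T x ∈ W := fun x hx => (Module.End.mem_invtSubmodule T).mp hWT hx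
  obtain ⟨u, hu⟩ : ∃ u : Module.End F ↥W, u = T.restrict hWT' := ⟨_, rfl⟩
  have hucoe : ∀ x : ↥W, ((u x : ↥W) : V) = T (x : V) := by
    intro x
    rw [hu]
    rfl
  have hN : ∀ (j : ℕ) (x : ↥W), ((((u - 1) ^ j) x : ↥W) : V) = ((T - 1) ^ j) (x : V) := by
    intro j
    induction j with
    | zero => intro x; simp
    | succ j ih =>
      intro x
      rw [pow_succ', Module.End.mul_apply, pow_succ', Module.End.mul_apply, ← ih]
      rw [LinearMap.sub_apply, LinearMap.sub_apply, Module.End.one_apply, Module.End.one_apply,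
        Submodule.coe_sub, hucoe]
  have hrefl : B.IsRefl := hS.isRefl
  have hBWnd : (B.restrict W).Nondegenerate :=
    B.nondegenerate_restrict_of_disjoint_orthogonal hrefl ((nd_iff_disjoint hrefl).mp hWnd)
  have hBWS : (B.restrict W).IsSymm := by
    constructor
    intro x y
    show B (x : V) (y : V) = B (y : V) (x : V)
    exact hS.eq x y
  have hBWiso : ∀ x y, (B.restrict W) (u x) (u y) = (B.restrict W) x y := by
    intro x y
    show B ((u x : ↥W) : V) ((u y : ↥W) : V) = B (x : V) (y : V)
    rw [hucoe, hucoe]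
    exact hiso _ _
  obtain ⟨t, d, hd⟩ := exists_fin_of_multiset ν
  have hprof : ∀ i, finrank F ↥(LinearMap.range ((u - 1) ^ i)) = ∑ k, (d k - i) := by
    intro i
    rw [← mprof_map, hd, ← hν i]
    unfold rprof
    -- range of the restricted power corresponds to the image of `W`
    have hmap : (LinearMap.range ((u - 1) ^ i)).map W.subtype = W.map ((T - 1) ^ i) := by
      ext v
      constructor
      · rintro ⟨_, ⟨x, rfl⟩, rfl⟩
        exact ⟨(x : V), x.2, (hN i x).symm⟩
      · rintro ⟨x, hx, rfl⟩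
        exact ⟨((u - 1) ^ i) ⟨x, hx⟩, ⟨⟨x, hx⟩, rfl⟩, hN i ⟨x, hx⟩⟩
    rw [← hmap]
    exact (LinearEquiv.finrank_eq (Submodule.equivMapOfInjective W.subtype W.injective_subtype _))
  have hcount := even_card_of_isometry (B.restrict W) hBWnd hBWS.isRefl u hBWiso d hprof a ha0
    (alt_of_symm (B.restrict W) (u - 1) hBWS h2 (hN_of_inv _ u hBWiso) a ha ha0)
  rw [← hd, count_map_univ]
  exact hcount

end Cfsg.Agent.Helper7.OrUn
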