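import Mathlib
import Cfsg.Agent.Helper7.OrUnE
import Cfsg.Agent.Helper8.AutImageOrth

/-!
# Unipotent elements of `Ω⁺` fixing nondegenerate subspaces: the necessary condition
-/

set_option autoImplicit false

namespace Cfsg.Agent.Helper7.OrUn

open Matrix Module Cfsg.Agent.Helper8.UJ Cfsg.Agent.Helper7.SpUn Cfsg.Agent.Helper7.SpOrd
  Cfsg.Agent.Helper8.SpU Cfsg.Agent.Helper8.StdForms

variable {F : Type*} [Field F] [Fintype F] {p : ℕ} [Fact p.Prime] [CharP F p]

/-- the general necessity argument: an isometry of prime order `p` of a symmetric form with an invariant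
nondegenerate subspace `W` has a type containing an admissible type of size `dim W`. -/
theorem exists_sub_type {ι : Type*} [Fintype ι] [DecidableEq ι] (hp2 : p ≠ 2)
    {B : LinearMap.BilinForm F (ι → F)} (hS : B.IsSymm)
    (x : Matrix ι ι F) (hxp : x ^ p = 1) (hiso : ∀ u v, B (x *ᵥ u) (x *ᵥ v) = B u v)
    (μ : Multiset ℕ) (hμpos : ∀ a ∈ μ, 1 ≤ a) (hprof : ∀ j, ((x - 1) ^ j).rank = mprof μ j)
    (W : Submodule F (ι → F)) (hWnd : ND B W) (hWinv : W.map (Matrix.toLin' x) ≤ W) :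
    ∃ ν : Multiset ℕ, ν ≤ μ ∧ ν.sum = finrank F ↥W ∧ ∀ a : ℕ, Even a → Even (ν.count a) := by
  classical
  have hp : p.Prime := Fact.out
  have h2 : (2 : F) ≠ 0 := by
    intro h
    have h1 : ((2 : ℕ) : F) = 0 := by rw [Nat.cast_ofNat]; exact h
    rw [CharP.cast_eq_zero_iff F p 2] at h1
    exact hp2 ((Nat.prime_dvd_prime_iff_eq hp Nat.prime_two).mp h1)
  obtain ⟨T, hTdef⟩ : ∃ T : Module.End F (ι → F), T = Matrix.toLin' x := ⟨_, rfl⟩
  have hWT : W ∈ Module.End.invtSubmodule T := by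
    rw [Module.End.mem_invtSubmodule, ← Submodule.map_le_iff_le_comap, hTdef]
    exact hWinv
  have hisoT : ∀ u v, B (T u) (T v) = B u v := by
    intro u v
    rw [hTdef, Matrix.toLin'_apply, Matrix.toLin'_apply]
    exact hiso u v
  have hT : T ^ p = 1 := by
    rw [hTdef, ← Matrix.toLin'_pow, hxp, Matrix.toLin'_one]
    rfl
  have hNp : (T - 1) ^ p = 0 := by
    rw [hTdef]
    exact nilpotent_toLin'_sub_one hxp
  have hnil : IsNilpotent (T - 1) := ⟨p, hNp⟩
  have hrefl := hS.isRefl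
  have htopprof : ∀ j, rprof (T - 1) ⊤ j = mprof μ j := by
    intro j
    unfold rprof
    rw [Submodule.map_top, hTdef, finrank_range_toLin'_sub_one_pow, hprof]
  have hW'T : B.orthogonal W ∈ Module.End.invtSubmodule T := perp_invt hisoT hp.pos hT hWT
  obtain ⟨ν, hνpos, hν⟩ := exists_type hnil (invt_sub_one hWT)
  obtain ⟨ν', hν'pos, hν'⟩ := exists_type hnil (invt_sub_one hW'T)
  have hcompl := isCompl_perp hrefl hWnd
  have hμeq : μ = ν + ν' := by
    apply eq_of_mprof_eq _ _ hμpos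
    · intro a ha
      rcases Multiset.mem_add.mp ha with h | h
      · exact hνpos a h
      · exact hν'pos a h
    · intro j
      rw [← htopprof, ← hcompl.sup_eq_top, rprof_sup (invt_sub_one hWT) (invt_sub_one hW'T) hcompl.disjoint,
        hν, hν', mprof_add]
  refine ⟨ν, ?_, ?_, ?_⟩
  · rw [hμeq]
    exact Multiset.le_add_right ν ν'
  · rw [← mprof_zero_eq, ← hν, rprof_zero]
  · exact type_even_symm hS h2 hisoT W hWT hWnd ν hνpos hν

/-- **`Ω⁺_{2d}(q)`, `q` odd: elements of order `p` fixing nondegenerate `m`-spaces, necessity.** -/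
theorem cond_of_forall_plus (hp2 : p ≠ 2) {d m : ℕ} (hd : 3 ≤ d) (hmd : m ≤ 2 * d)
    (hall : ∀ x : GL (Fin d ⊕ Fin d) F, x ∈ Cfsg.Geo.omegaGL (Cfsg.quadFormPlus d F) →
      (∃ z : F, ((x ^ p : GL (Fin d ⊕ Fin d) F) : Matrix (Fin d ⊕ Fin d) (Fin d ⊕ Fin d) F) =
        z • (1 : Matrix (Fin d ⊕ Fin d) (Fin d ⊕ Fin d) F)) →
      (∀ z : F, (x : Matrix (Fin d ⊕ Fin d) (Fin d ⊕ Fin d) F) ≠
        z • (1 : Matrix (Fin d ⊕ Fin d) (Fin d ⊕ Fin d) F)) →
      ∃ W : Submodule F (Fin d ⊕ Fin d → F), (Module.finrank F ↥W = m ∧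
        Cfsg.Geo.IsNondegenerateOn (QuadraticMap.polar (Cfsg.quadFormPlus d F)) W) ∧
        W.map (Matrix.toLin' (x : Matrix (Fin d ⊕ Fin d) (Fin d ⊕ Fin d) F)) ≤ W)
    (μ : Multiset ℕ) (hμ : ∀ a ∈ μ, 0 < a ∧ a ≤ p) (hμpar : ∀ a : ℕ, Even a → Even (μ.count a))
    (hμsum : μ.sum = 2 * d) :
    ∃ ν : Multiset ℕ, ν ≤ μ ∧ ν.sum = m ∧ ∀ a : ℕ, Even a → Even (ν.count a) := by
  classical
  have hp : p.Prime := Fact.out
  have h2 : (2 : F) ≠ 0 := by
    intro h
    have h1 : ((2 : ℕ) : F) = 0 := by rw [Nat.cast_ofNat]; exact h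
    rw [CharP.cast_eq_zero_iff F p 2] at h1
    exact hp2 ((Nat.prime_dvd_prime_iff_eq hp Nat.prime_two).mp h1)
  have hμpos : ∀ a ∈ μ, 1 ≤ a := fun a ha => (hμ a ha).1
  by_cases hones : ∀ a ∈ μ, a = 1
  · have hμeq : μ = Multiset.replicate (2 * d) 1 := by
      have h1 := Multiset.eq_replicate_card.mpr hones
      have h3 : Multiset.card μ = 2 * d := by
        rw [← hμsum]
        conv_rhs => rw [h1]
        rw [Multiset.sum_replicate, smul_eq_mul, mul_one]
      rw [h3] at h1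
      exact h1
    refine ⟨Multiset.replicate m 1, ?_, ?_, ?_⟩
    · rw [hμeq, Multiset.replicate_le_replicate]
      exact hmd
    · rw [Multiset.sum_replicate, smul_eq_mul, mul_one]
    · intro a ha
      rw [Multiset.count_replicate]
      split_ifs with h
      · rw [← h] at ha
        exact absurd ha (by decide)
      · exact Even.zero
  push Not at hones
  obtain ⟨a₀, ha₀, ha₀1⟩ := hones
  have ha₀2 : 2 ≤ a₀ := by have := hμpos a₀ ha₀; omega
  have hreal : PReal F μ := pReal_of_valid h2 _ μ rfl hμpar (by rw [hμsum]; exact even_two_mul d)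
  obtain ⟨x, hxΩ, hxp, hprof⟩ := exists_omega_elt p hp2 hd μ (fun a ha => (hμ a ha).2) hμsum hreal
  have hxpm : (x : Matrix (Fin d ⊕ Fin d) (Fin d ⊕ Fin d) F) ^ p = 1 := by
    rw [← Units.val_pow_eq_pow_val, hxp]
    rfl
  have h1ne : mprof μ 1 ≠ 0 := by
    intro h
    have := (mprof_eq_zero_iff μ 1).mp h a₀ ha₀
    omega
  have hns : ∀ z : F, (x : Matrix (Fin d ⊕ Fin d) (Fin d ⊕ Fin d) F) ≠ z • 1 := by
    intro z hz
    have h3 : ((z - 1) ^ p) • (1 : Matrix (Fin d ⊕ Fin d) (Fin d ⊕ Fin d) F) = 0 := by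
      have h4 : (x : Matrix (Fin d ⊕ Fin d) (Fin d ⊕ Fin d) F) - 1 = (z - 1) • 1 := by
        rw [hz, sub_smul, one_smul]
      have h5 := Cfsg.Agent.Helper8.SpU.sub_one_pow_char p (x : Matrix (Fin d ⊕ Fin d) (Fin d ⊕ Fin d) F)
      rw [hxpm, sub_self, h4, _root_.smul_pow, one_pow] at h5
      exact h5
    have hd0 : 0 < d := by omega
    have h6 := congrFun (congrFun h3 (Sum.inl ⟨0, hd0⟩)) (Sum.inl ⟨0, hd0⟩)
    rw [Matrix.smul_apply, Matrix.one_apply_eq, smul_eq_mul, mul_one, Matrix.zero_apply] at h6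
    have hz1 : z = 1 := by
      have := pow_eq_zero_iff (hp.ne_zero) |>.mp h6
      exact sub_eq_zero.mp this
    apply h1ne
    rw [← hprof 1, pow_one, hz, hz1, one_smul, sub_self, Matrix.rank_zero]
  obtain ⟨W, ⟨hWd, hWnd'⟩, hWinv⟩ := hall x hxΩ ⟨1, by rw [hxp, one_smul]; rfl⟩ hns
  -- the bilinear form
  obtain ⟨B, hB⟩ : ∃ B : LinearMap.BilinForm F (Fin d ⊕ Fin d → F),
      B = QuadraticMap.polarBilin (plusForm F d) := ⟨_, rfl⟩
  have hfun : (⇑(plusForm F d) : (Fin d ⊕ Fin d → F) → F) = Cfsg.quadFormPlus d F := by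
    funext v
    exact plusForm_apply F d v
  have hBapp : ∀ u v, B u v = QuadraticMap.polar (Cfsg.quadFormPlus d F) u v := by
    intro u v
    rw [hB, QuadraticMap.polarBilin_apply_apply, hfun]
  have hS : B.IsSymm := by
    constructor
    intro u v
    rw [hB]
    simp only [QuadraticMap.polarBilin_apply_apply, RingHom.id_apply]
    exact QuadraticMap.polar_comm _ u v
  have hxiso : x ∈ Cfsg.isometryGroup F (Cfsg.quadFormPlus d F) := by
    obtain ⟨y, -, rfl⟩ := hxΩ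
    exact y.2
  have hxQ := (Cfsg.Agent.Helper8.AutImageOrth.mem_isometryGroup_iff' _ x).mp hxiso
  have hiso : ∀ u v, B ((x : Matrix (Fin d ⊕ Fin d) (Fin d ⊕ Fin d) F) *ᵥ u)
      ((x : Matrix (Fin d ⊕ Fin d) (Fin d ⊕ Fin d) F) *ᵥ v) = B u v := by
    intro u v
    rw [hBapp, hBapp]
    unfold QuadraticMap.polar
    rw [← Matrix.mulVec_add, hxQ, hxQ, hxQ]
  have hWnd : ND B W := by
    intro u hu hne
    obtain ⟨-, v, hv, hv'⟩ := hWnd' u hu hne
    exact ⟨v, hv, by rw [hBapp]; exact hv'⟩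
  obtain ⟨ν, hνle, hνsum, hνpar⟩ := exists_sub_type hp2 hS _ hxpm hiso μ hμpos hprof W hWnd hWinv
  exact ⟨ν, hνle, by rw [hνsum, hWd], hνpar⟩

end Cfsg.Agent.Helper7.OrUn
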