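import Mathlib
import Cfsg.Agent.Helper7.OrUnF

/-!
# Realisability of orthogonal unipotent types in odd dimension; the generic transfer to `Ω`
-/

set_option autoImplicit false

namespace Cfsg.Agent.Helper7.OrUn

open Matrix Module Cfsg.Agent.Helper8.UJ Cfsg.Agent.Helper8.QuadForm Cfsg.Agent.Helper8.StdForms
  Cfsg.Agent.Helper8.StdTransfer Cfsg.Agent.Helper8.OrthOrder Cfsg.Agent.Helper8.SiegelGroup
  Cfsg.Agent.Helper8.ReflMatrix Cfsg.Agent.Helper8.OmegaSimple Cfsg.Agent.Helper7.OrthMax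

variable {F : Type*} [Field F]

/-- adding a hyperbolic part to a realisation with remainder. -/
theorem qReal_add_pReal (ν₁ ν₂ : Multiset ℕ) {t : F} (h₁ : QReal F ν₁ t) (h₂ : PReal F ν₂) :
    QReal F (ν₁ + ν₂) t := by
  obtain ⟨ι₁, κ₁, _, _, _, G₁, A₁, e₁, f₁, w₁, hc₁, hh₁, ho₁, hw₁, ha₁, hr₁⟩ := h₁
  obtain ⟨ι₂, κ₂, _, _, _, G₂, A₂, e₂, f₂, hc₂, hh₂, ha₂, hr₂⟩ := h₂
  have ev : ∀ (M₁ : Matrix ι₁ ι₁ F) (M₂ : Matrix ι₂ ι₂ F) (u₁ v₁ : ι₁ → F) (u₂ v₂ : ι₂ → F),
      (Sum.elim u₁ u₂) ⬝ᵥ (fromBlocks M₁ 0 0 M₂ *ᵥ Sum.elim v₁ v₂) =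
        u₁ ⬝ᵥ (M₁ *ᵥ v₁) + u₂ ⬝ᵥ (M₂ *ᵥ v₂) := by
    intro M₁ M₂ u₁ v₁ u₂ v₂
    rw [Matrix.fromBlocks_mulVec, sumElim_dotProduct_sumElim]
    simp
  refine ⟨ι₁ ⊕ ι₂, κ₁ ⊕ κ₂, inferInstance, inferInstance, inferInstance, fromBlocks G₁ 0 0 G₂,
    fromBlocks A₁ 0 0 A₂, _, _, Sum.elim w₁ (0 : ι₂ → F), ?_, hypM_add G₁ G₂ e₁ f₁ e₂ f₂ hh₁ hh₂,
    ?_, ?_, ?_, fun j => ?_⟩
  · rw [Fintype.card_sum, Fintype.card_sum, hc₁, hc₂]
    ring
  · rintro (i | i)
    · simp only [Sum.elim_inl]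
      rw [fromBlocks_add_transpose, ev, ev, (ho₁ i).1, (ho₁ i).2]
      simp
    · simp only [Sum.elim_inr]
      rw [fromBlocks_add_transpose, ev, ev]
      simp
  · rw [ev, hw₁]
    simp
  · rw [Matrix.fromBlocks_transpose, Matrix.fromBlocks_multiply, Matrix.fromBlocks_multiply,
      fromBlocks_sub']
    simp only [Matrix.transpose_zero, Matrix.zero_mul, Matrix.mul_zero, add_zero, zero_add,
      sub_self]
    constructor
    · rw [Matrix.fromBlocks_transpose, Matrix.fromBlocks_neg, ha₁.1, ha₂.1]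
      simp
    · rintro (i | i)
      · exact ha₁.2 i
      · exact ha₂.2 i
  · rw [fromBlocks_diag_sub_one, rank_pow_fromBlocks, mprof_add, hr₁ j, hr₂ j]

/-- **every admissible type of odd size is realised with remainder `1`** (odd characteristic). -/
theorem qReal_of_valid (h2 : (2 : F) ≠ 0) (μ : Multiset ℕ) (hev : ∀ a, Even a → Even (μ.count a))
    (hsum : Odd μ.sum) : QReal F μ 1 := by
  have hex : ∃ a ∈ μ, Odd a := by
    by_contra hcon
    push Not at hcon
    have : Even μ.sum := by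
      rw [even_iff_two_dvd]
      apply Multiset.dvd_sum
      intro a ha
      exact even_iff_two_dvd.mp (Nat.not_odd_iff_even.mp (hcon a ha))
    exact (Nat.not_even_iff_odd.mpr hsum) this
  obtain ⟨a, ha, hao⟩ := hex
  obtain ⟨μ', hμ'⟩ := Multiset.exists_cons_of_mem ha
  have hev' : ∀ b, Even b → Even (μ'.count b) := by
    intro b hb
    have h1 := hev b hb
    rw [hμ', Multiset.count_cons_of_ne] at h1
    · exact h1
    · intro hba
      rw [hba] at hb
      exact (Nat.not_even_iff_odd.mpr hao) hb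
  have hsum' : Even μ'.sum := by
    rw [hμ', Multiset.sum_cons] at hsum
    rcases Nat.even_or_odd μ'.sum with h | h
    · exact h
    · exact absurd hsum (Nat.not_odd_iff_even.mpr (hao.add_odd h))
  have hP := pReal_of_valid h2 _ μ' rfl hev' hsum'
  obtain ⟨k, rfl⟩ := hao
  have hQ := qReal_single h2 k
  have hne : ((-1 : F)) ^ k ≠ 0 := pow_ne_zero k (neg_ne_zero.mpr one_ne_zero)
  have hQ' := qReal_smul _ _ hQ (inv_ne_zero hne)
  rw [inv_mul_cancel₀ hne] at hQ'
  have := qReal_add_pReal _ _ hQ' hP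
  rw [hμ']
  exact this

/-- **the generic transfer**: a unipotent isometry of `v ↦ v ⬝ G v` with all parts at most `p`, transported
to an isometric standard space, gives an element of `Ω` of the same rank profile. -/
theorem exists_omega_elt_gen [Fintype F] (p : ℕ) [Fact p.Prime] [CharP F p] (hp2 : p ≠ 2)
    {ι ι' : Type} [Fintype ι] [DecidableEq ι] [Fintype ι'] [DecidableEq ι']
    (Q : QuadraticForm F (ι' → F)) (hQ : (QuadraticMap.polarBilin Q).Nondegenerate)
    (h5 : 5 ≤ Fintype.card ι') (G A : Matrix ι ι F) (halt : IsAltM (Aᵀ * G * A - G))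
    (φ : (ι → F) ≃ₗ[F] (ι' → F)) (htr : ∀ v, Q (φ v) = qf G v)
    (μ : Multiset ℕ) (hμ : ∀ a ∈ μ, a ≤ p) (hr : ∀ j, ((A - 1) ^ j).rank = mprof μ j) :
    ∃ x : GL ι' F, x ∈ Cfsg.Geo.omegaGL ⇑Q ∧ x ^ p = 1 ∧
      ∀ j, (((x : Matrix ι' ι' F) - 1) ^ j).rank = mprof μ j := by
  classical
  have hp : p.Prime := Fact.out
  have hnilp : (A - 1) ^ p = 0 := by
    apply eq_zero_of_rank_eq_zero
    rw [hr, Cfsg.Agent.Helper8.SpU.mprof_eq_zero_iff]
    exact hμ
  obtain ⟨gA, hgA⟩ := isUnit_of_sub_one_nilpotent A ⟨p, hnilp⟩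
  obtain ⟨k, hk⟩ : ∃ k : (ι' → F) ≃ₗ[F] (ι' → F), k = (φ.symm.trans (glEquiv gA)).trans φ := ⟨_, rfl⟩
  have hkapp : ∀ w, k w = φ (A *ᵥ (φ.symm w)) := by
    intro w
    rw [hk]
    simp only [LinearEquiv.trans_apply]
    rw [glEquiv_apply, hgA]
  have hkI : k ∈ Isom Q := by
    intro w
    rw [hkapp, htr, qf_invariant G A halt, ← htr, LinearEquiv.apply_symm_apply]
  obtain ⟨K, hK⟩ : ∃ K : ↥(Isom Q), K = ⟨k, hkI⟩ := ⟨_, rfl⟩
  obtain ⟨x, hx⟩ : ∃ x : GL ι' F, x = toGL Q K := ⟨_, rfl⟩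
  have hxmul : ∀ v, (x : Matrix ι' ι' F) *ᵥ v = k v := by
    intro v
    rw [hx, toGL_mulVec, hK]
  have hprof : ∀ j, (((x : Matrix ι' ι' F) - 1) ^ j).rank = mprof μ j := by
    intro j
    rw [← hr j, ← finrank_range_toLin'_sub_one_pow, ← finrank_range_toLin'_sub_one_pow]
    have hconj : ∀ (j : ℕ) (w : ι' → F),
        ((Matrix.toLin' (x : Matrix ι' ι' F) - 1) ^ j) w =
          φ (((Matrix.toLin' A - 1) ^ j) (φ.symm w)) := by
      intro j
      induction j with
      | zero => intro w; simp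
      | succ j ih =>
        intro w
        rw [pow_succ', Module.End.mul_apply, ih, pow_succ', Module.End.mul_apply]
        rw [LinearMap.sub_apply, LinearMap.sub_apply, Matrix.toLin'_apply, hxmul, hkapp,
          Module.End.one_apply, Module.End.one_apply, Matrix.toLin'_apply,
          LinearEquiv.symm_apply_apply, map_sub]
    have hrange : LinearMap.range ((Matrix.toLin' (x : Matrix ι' ι' F) - 1) ^ j) =
        (LinearMap.range ((Matrix.toLin' A - 1) ^ j)).map (φ : (ι → F) →ₗ[F] (ι' → F)) := by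
      ext w
      constructor
      · rintro ⟨w', rfl⟩
        rw [hconj]
        exact ⟨_, ⟨φ.symm w', rfl⟩, rfl⟩
      · rintro ⟨_, ⟨v, rfl⟩, rfl⟩
        refine ⟨φ v, ?_⟩
        rw [hconj, LinearEquiv.symm_apply_apply]
        rfl
    rw [hrange]
    exact LinearEquiv.finrank_map_eq φ _
  have hxp : x ^ p = 1 := by
    have h1 : ((x : Matrix ι' ι' F) - 1) ^ p = 0 := by
      apply eq_zero_of_rank_eq_zero
      rw [hprof, Cfsg.Agent.Helper8.SpU.mprof_eq_zero_iff]
      exact hμ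
    have h2 := Cfsg.Agent.Helper8.SpU.sub_one_pow_char p (x : Matrix ι' ι' F)
    rw [h1] at h2
    apply Units.ext
    rw [Units.val_pow_eq_pow_val, Units.val_one]
    exact sub_eq_zero.mp h2.symm
  have hinj : Function.Injective (toGL Q) := by
    unfold toGL
    intro a b hab
    simp only [MonoidHom.coe_comp, Function.comp_apply] at hab
    exact (isomEquiv Q).symm.injective (Subtype.ext hab)
  have hKp : K ^ p = 1 := by
    apply hinj
    rw [map_pow, ← hx, hxp, map_one]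
  have hKsq : K = (K ^ ((p + 1) / 2)) ^ 2 := by
    rw [← pow_mul]
    have hodd : Odd p := hp.odd_of_ne_two hp2
    obtain ⟨m, hm⟩ := hodd
    have : (p + 1) / 2 * 2 = p + 1 := by omega
    rw [this, pow_succ, hKp, one_mul]
  have hgen := closure_reflG Q hQ h5
  have hKcomm : K ∈ commutator ↥(Isom Q) := by
    rw [hKsq]
    apply sq_mem_commutator _ hgen
    rintro s ⟨z, -, rfl⟩
    exact reflG_inv _ z
  have hcomm := commutator_eq_SG Q ((nondeg_iff _).mp hQ)
    (by rw [Module.finrank_fintype_fun_eq_card]; exact h5) hgen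
  rw [hcomm] at hKcomm
  have hxΩ := toGL_mem_omegaGL Q hQ h5 hKcomm
  rw [← hx] at hxΩ
  exact ⟨x, hxΩ, hxp, hprof⟩

theorem polar_odd_00 (m : ℕ) :
    QuadraticMap.polar (oddForm F m) (Pi.single (Sum.inl ()) 1) (Pi.single (Sum.inl ()) 1) = 2 := by
  rw [polar_oddForm]
  simp

theorem polar_odd_0l (m : ℕ) (i : Fin m) :
    QuadraticMap.polar (oddForm F m) (Pi.single (Sum.inl ()) 1)
      (Pi.single (Sum.inr (Sum.inl i)) 1) = 0 := by
  rw [polar_oddForm]
  simp [Pi.single_apply]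

theorem polar_odd_0r (m : ℕ) (i : Fin m) :
    QuadraticMap.polar (oddForm F m) (Pi.single (Sum.inl ()) 1)
      (Pi.single (Sum.inr (Sum.inr i)) 1) = 0 := by
  rw [polar_oddForm]
  simp [Pi.single_apply]

theorem polar_odd_ll (m : ℕ) (i j : Fin m) :
    QuadraticMap.polar (oddForm F m) (Pi.single (Sum.inr (Sum.inl i)) 1)
      (Pi.single (Sum.inr (Sum.inl j)) 1) = 0 := by
  rw [polar_oddForm]
  simp [Pi.single_apply]

theorem polar_odd_rr (m : ℕ) (i j : Fin m) :
    QuadraticMap.polar (oddForm F m) (Pi.single (Sum.inr (Sum.inr i)) 1)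
      (Pi.single (Sum.inr (Sum.inr j)) 1) = 0 := by
  rw [polar_oddForm]
  simp [Pi.single_apply]

theorem polar_odd_lr (m : ℕ) (i j : Fin m) :
    QuadraticMap.polar (oddForm F m) (Pi.single (Sum.inr (Sum.inl i)) 1)
      (Pi.single (Sum.inr (Sum.inr j)) 1) = if i = j then 1 else 0 := by
  classical
  rw [polar_oddForm]
  simp [Pi.single_apply, eq_comm]

/-- transfer to the standard odd-dimensional form along a basis adapted to `⟨w⟩ ⟂ hyperbolic`. -/
theorem odd_transfer {V : Type*} [AddCommGroup V] [Module F V] {m : ℕ} (Q : QuadraticForm F V)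
    (b : Basis (Unit ⊕ (Fin m ⊕ Fin m)) F V)
    (h0 : Q (b (Sum.inl ())) = 1)
    (h0' : ∀ i, QuadraticMap.polar ⇑Q (b (Sum.inl ())) (b (Sum.inr (Sum.inl i))) = 0 ∧
      QuadraticMap.polar ⇑Q (b (Sum.inl ())) (b (Sum.inr (Sum.inr i))) = 0)
    (h1 : ∀ i, Q (b (Sum.inr (Sum.inl i))) = 0 ∧ Q (b (Sum.inr (Sum.inr i))) = 0)
    (h2 : ∀ i j, QuadraticMap.polar ⇑Q (b (Sum.inr (Sum.inl i))) (b (Sum.inr (Sum.inr j)))
      = if i = j then 1 else 0)
    (h3 : ∀ i j, QuadraticMap.polar ⇑Q (b (Sum.inr (Sum.inl i))) (b (Sum.inr (Sum.inl j))) = 0 ∧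
      QuadraticMap.polar ⇑Q (b (Sum.inr (Sum.inr i))) (b (Sum.inr (Sum.inr j))) = 0) :
    ∀ v, oddForm F m (b.equivFun v) = Q v := by
  classical
  have hself : ∀ x : V, QuadraticMap.polar ⇑Q x x = 2 * Q x := by
    intro x
    have := QuadraticMap.polar_self Q x
    simpa using this
  have key : (oddForm F m).comp (b.equivFun : V →ₗ[F] (Unit ⊕ (Fin m ⊕ Fin m) → F)) = Q := by
    apply eq_of_basis b
    · intro r
      rw [QuadraticMap.comp_apply, LinearEquiv.coe_coe, equivFun_basis, oddForm_apply]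
      unfold Cfsg.quadFormOdd
      rcases r with r | r | r
      · rw [h0]; simp
      · rw [(h1 r).1]; simp
      · rw [(h1 r).2]; simp
    · intro r s
      rw [polar_comp_equivFun, equivFun_basis, equivFun_basis]
      rcases r with r | r | r <;> rcases s with s | s | s
      · rw [polar_odd_00, hself, h0, mul_one]
      · rw [polar_odd_0l, (h0' s).1]
      · rw [polar_odd_0r, (h0' s).2]
      · rw [QuadraticMap.polar_comm, polar_odd_0l, QuadraticMap.polar_comm, (h0' r).1]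
      · rw [polar_odd_ll, (h3 r s).1]
      · rw [polar_odd_lr, h2]
      · rw [QuadraticMap.polar_comm, polar_odd_0r, QuadraticMap.polar_comm, (h0' r).2]
      · rw [QuadraticMap.polar_comm, polar_odd_lr, QuadraticMap.polar_comm, h2]
      · rw [polar_odd_rr, (h3 r s).2]
  intro v
  have := congrArg (fun Q' : QuadraticForm F V => Q' v) key
  exact this

/-- **an element of `Ω_{2d+1}` of order dividing `p` with a prescribed rank profile.** -/
theorem exists_omega_elt_odd [Fintype F] (p : ℕ) [Fact p.Prime] [CharP F p] (hp2 : p ≠ 2) {d : ℕ}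
    (hd : 2 ≤ d) (μ : Multiset ℕ) (hμ : ∀ a ∈ μ, a ≤ p) (hsum : μ.sum = 2 * d + 1)
    (hreal : QReal F μ 1) :
    ∃ x : GL (Unit ⊕ (Fin d ⊕ Fin d)) F, x ∈ Cfsg.Geo.omegaGL (Cfsg.quadFormOdd d F) ∧ x ^ p = 1 ∧
      ∀ j, (((x : Matrix (Unit ⊕ (Fin d ⊕ Fin d)) (Unit ⊕ (Fin d ⊕ Fin d)) F) - 1) ^ j).rank =
        mprof μ j := by
  classical
  have hp : p.Prime := Fact.out
  have h2 : (2 : F) ≠ 0 := by
    intro h
    have h1 : ((2 : ℕ) : F) = 0 := by rw [Nat.cast_ofNat]; exact h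
    rw [CharP.cast_eq_zero_iff F p 2] at h1
    exact hp2 ((Nat.prime_dvd_prime_iff_eq hp Nat.prime_two).mp h1)
  obtain ⟨ι, κ, _, _, _, G, A, e, f, w, hcard, ⟨a1, a2, a3, a4⟩, how, hw, halt, hr⟩ := hreal
  have hιd : Fintype.card ι = 2 * d + 1 := by
    have h0 := hr 0
    rw [pow_zero, Matrix.rank_one, Cfsg.Agent.Helper8.SpU.mprof_zero_eq, hsum] at h0
    exact h0
  have hκd : Fintype.card κ = d := by omega
  obtain ⟨σ⟩ : Nonempty (Fin d ≃ κ) := ⟨(Fintype.equivFinOfCardEq hκd).symm⟩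
  -- the polar values
  have P00 : QuadraticMap.polar (qf G) w w = 2 := by
    rw [polar_qf, dot_polar_self, hw, mul_one]
  have P0e : ∀ i, QuadraticMap.polar (qf G) w (e (σ i)) = 0 := by
    intro i
    rw [polar_qf, dot_symm, (how (σ i)).1]
  have P0f : ∀ i, QuadraticMap.polar (qf G) w (f (σ i)) = 0 := by
    intro i
    rw [polar_qf, dot_symm, (how (σ i)).2]
  have Pee : ∀ i j, QuadraticMap.polar (qf G) (e (σ i)) (e (σ j)) = 0 := by
    intro i j
    rw [polar_qf, (a4 _ _).1]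
  have Pff : ∀ i j, QuadraticMap.polar (qf G) (f (σ i)) (f (σ j)) = 0 := by
    intro i j
    rw [polar_qf, (a4 _ _).2]
  have Pef : ∀ i j, QuadraticMap.polar (qf G) (e (σ i)) (f (σ j)) = if i = j then 1 else 0 := by
    intro i j
    rw [polar_qf]
    by_cases hij : i = j
    · subst hij
      rw [if_pos rfl]
      exact a3 (σ i)
    · rw [if_neg hij]
      exact a2 _ _ (fun h => hij (σ.injective h))
  -- the standard family
  obtain ⟨bf, hbf⟩ : ∃ bf : Unit ⊕ (Fin d ⊕ Fin d) → ι → F,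
      bf = Sum.elim (fun _ => w) (Sum.elim (fun i => e (σ i)) (fun i => f (σ i))) := ⟨_, rfl⟩
  obtain ⟨bf', hbf'⟩ : ∃ bf' : Unit ⊕ (Fin d ⊕ Fin d) → ι → F,
      bf' = Sum.elim (fun _ => w) (Sum.elim (fun i => f (σ i)) (fun i => e (σ i))) := ⟨_, rfl⟩
  -- linear independence
  have hli : LinearIndependent F bf := by
    apply linearIndependent_of_dual (qf G) bf bf'
      (fun r => Sum.elim (fun _ => (2 : F)) (fun _ => 1) r)
    · rintro (r | r)
      · exact h2
      · exact one_ne_zero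
    · intro r s
      rw [hbf, hbf']
      rcases r with r | r | r <;> rcases s with s | s | s
      · simp only [Sum.elim_inl]
        rw [P00]
        simp
      · simp only [Sum.elim_inl, Sum.elim_inr]
        rw [P0f]
        simp
      · simp only [Sum.elim_inl, Sum.elim_inr]
        rw [P0e]
        simp
      · simp only [Sum.elim_inl, Sum.elim_inr]
        rw [QuadraticMap.polar_comm, P0e]
        simp
      · simp only [Sum.elim_inl, Sum.elim_inr]
        rw [Pef]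
        by_cases hrs : r = s
        · simp [hrs]
        · simp [hrs]
      · simp only [Sum.elim_inl, Sum.elim_inr]
        rw [Pee]
        simp
      · simp only [Sum.elim_inl, Sum.elim_inr]
        rw [QuadraticMap.polar_comm, P0f]
        simp
      · simp only [Sum.elim_inl, Sum.elim_inr]
        rw [Pff]
        simp
      · simp only [Sum.elim_inl, Sum.elim_inr]
        rw [QuadraticMap.polar_comm, Pef]
        by_cases hrs : r = s
        · simp [hrs]
        · have hrs' : ¬ s = r := fun h => hrs h.symm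
          simp [hrs, hrs']
  have hfr : finrank F (ι → F) = 2 * d + 1 := by
    rw [Module.finrank_fintype_fun_eq_card, hιd]
  obtain ⟨b, hb⟩ := exists_basis_of_li hli (by
    rw [hfr]
    simp [Fintype.card_sum]
    omega)
  have hb0 : b (Sum.inl ()) = w := by rw [hb, hbf]; rfl
  have hbl : ∀ i, b (Sum.inr (Sum.inl i)) = e (σ i) := fun i => by rw [hb, hbf]; rfl
  have hbr : ∀ i, b (Sum.inr (Sum.inr i)) = f (σ i) := fun i => by rw [hb, hbf]; rfl
  have htr : ∀ v, oddForm F d (b.equivFun v) = qf G v := by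
    apply odd_transfer (qf G) b
    · rw [hb0, qf_apply, hw]
    · intro i
      rw [hb0, hbl, hbr]
      exact ⟨P0e i, P0f i⟩
    · intro i
      rw [hbl, hbr, qf_apply, qf_apply]
      exact a1 (σ i)
    · intro i j
      rw [hbl, hbr]
      exact Pef i j
    · intro i j
      rw [hbl, hbl, hbr, hbr]
      exact ⟨Pee i j, Pff i j⟩
  have hQ : (QuadraticMap.polarBilin (oddForm F d)).Nondegenerate := oddForm_nondeg F d h2
  have h5 : 5 ≤ Fintype.card (Unit ⊕ (Fin d ⊕ Fin d)) := by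
    simp [Fintype.card_sum]
    omega
  obtain ⟨x, hxΩ, hxp, hprof⟩ := exists_omega_elt_gen p hp2 (oddForm F d) hQ h5 G A halt b.equivFun htr
    μ hμ hr
  have hfun : (⇑(oddForm F d) : (Unit ⊕ (Fin d ⊕ Fin d) → F) → F) = Cfsg.quadFormOdd d F := by
    funext v
    exact oddForm_apply F d v
  rw [hfun] at hxΩ
  exact ⟨x, hxΩ, hxp, hprof⟩

end Cfsg.Agent.Helper7.OrUn
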