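import Mathlib
import Cfsg.Agent.Helper7.OrUnG

/-!
# `Ω_{2d+1}(q)`, `q` odd: unipotent elements fixing nondegenerate subspaces, the necessary condition
-/

set_option autoImplicit false

namespace Cfsg.Agent.Helper7.OrUn

open Matrix Module Cfsg.Agent.Helper8.UJ Cfsg.Agent.Helper7.SpUn Cfsg.Agent.Helper7.SpOrd
  Cfsg.Agent.Helper8.SpU Cfsg.Agent.Helper8.StdForms

/-- a submultiset of `c ::ₘ replicate n 2` (with `c` odd) of even sum and with `2` of even multiplicity
has sum divisible by four. -/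
theorem four_dvd_of_le_twos {c n m : ℕ} (hc : Odd c) (ν : Multiset ℕ)
    (hle : ν ≤ c ::ₘ Multiset.replicate n 2) (hsum : ν.sum = m) (hme : Even m)
    (hpar : ∀ a : ℕ, Even a → Even (ν.count a)) : m % 4 = 0 := by
  classical
  by_cases hcν : c ∈ ν
  · exfalso
    obtain ⟨ν', rfl⟩ := Multiset.exists_cons_of_mem hcν
    rw [Multiset.cons_le_cons_iff] at hle
    obtain ⟨j, -, rfl⟩ := Multiset.le_replicate_iff.mp hle
    rw [Multiset.sum_cons, Multiset.sum_replicate, smul_eq_mul] at hsum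
    obtain ⟨t, ht⟩ := hc
    obtain ⟨s, hs⟩ := hme
    omega
  · rw [Multiset.le_cons_of_notMem hcν] at hle
    obtain ⟨j, -, rfl⟩ := Multiset.le_replicate_iff.mp hle
    rw [Multiset.sum_replicate, smul_eq_mul] at hsum
    have h2 := hpar 2 (by decide)
    rw [Multiset.count_replicate_self] at h2
    obtain ⟨t, ht⟩ := h2
    omega

/-- the combinatorial condition in odd dimension forces `4 ∣ m`. -/
theorem four_dvd_of_cond {p d m : ℕ} (hp3 : 3 ≤ p) (hme : Even m)
    (h : ∀ μ : Multiset ℕ, (∀ e ∈ μ, 0 < e ∧ e ≤ p) → (∀ e : ℕ, Even e → Even (μ.count e)) →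
      μ.sum = 2 * d + 1 → ∃ ν : Multiset ℕ, ν ≤ μ ∧ ν.sum = m ∧ ∀ e : ℕ, Even e → Even (ν.count e)) :
    m % 4 = 0 := by
  classical
  have key : ∀ c k : ℕ, Odd c → 0 < c → c ≤ 3 → 2 * d + 1 = 4 * k + c → m % 4 = 0 := by
    intro c k hc hc0 hc3 hdk
    have g1 : ∀ e ∈ c ::ₘ Multiset.replicate (2 * k) 2, 0 < e ∧ e ≤ p := by
      intro e he
      rcases Multiset.mem_cons.mp he with he | he
      · rw [he]; exact ⟨hc0, by omega⟩
      · rw [Multiset.eq_of_mem_replicate he]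
        exact ⟨by norm_num, by omega⟩
    have g2 : ∀ e : ℕ, Even e → Even ((c ::ₘ Multiset.replicate (2 * k) 2).count e) := by
      intro e he
      have hec : e ≠ c := by
        intro hh
        rw [hh] at he
        exact (Nat.not_even_iff_odd.mpr hc) he
      rw [Multiset.count_cons_of_ne hec, Multiset.count_replicate]
      split_ifs
      · exact even_two_mul k
      · exact Even.zero
    have g3 : (c ::ₘ Multiset.replicate (2 * k) 2).sum = 2 * d + 1 := by
      rw [Multiset.sum_cons, Multiset.sum_replicate, smul_eq_mul]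
      omega
    obtain ⟨ν, hle, hsum, hpar⟩ := h (c ::ₘ Multiset.replicate (2 * k) 2) g1 g2 g3
    exact four_dvd_of_le_twos hc ν hle hsum hme hpar
  rcases Nat.even_or_odd' d with ⟨k, hk | hk⟩
  · exact key 1 k odd_one (by norm_num) (by norm_num) (by omega)
  · exact key 3 k (by decide) (by norm_num) (by norm_num) (by omega)

variable {F : Type*} [Field F] [Fintype F] {p : ℕ} [Fact p.Prime] [CharP F p]

/-- **`Ω_{2d+1}(q)`, `q` odd: elements of order `p` fixing nondegenerate `m`-spaces, necessity.** -/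
theorem cond_of_forall_odd (hp2 : p ≠ 2) {d m : ℕ} (hd : 2 ≤ d) (hmd : m ≤ 2 * d + 1)
    (hall : ∀ x : GL (Unit ⊕ (Fin d ⊕ Fin d)) F, x ∈ Cfsg.Geo.omegaGL (Cfsg.quadFormOdd d F) →
      orderOf x = p →
      ∃ W : Submodule F (Unit ⊕ (Fin d ⊕ Fin d) → F), (Module.finrank F ↥W = m ∧
        Cfsg.Geo.IsNondegenerateOn (QuadraticMap.polar (Cfsg.quadFormOdd d F)) W) ∧
        W.map (Matrix.toLin' (x : Matrix (Unit ⊕ (Fin d ⊕ Fin d)) (Unit ⊕ (Fin d ⊕ Fin d)) F)) ≤ W)
    (μ : Multiset ℕ) (hμ : ∀ a ∈ μ, 0 < a ∧ a ≤ p) (hμpar : ∀ a : ℕ, Even a → Even (μ.count a))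
    (hμsum : μ.sum = 2 * d + 1) :
    ∃ ν : Multiset ℕ, ν ≤ μ ∧ ν.sum = m ∧ ∀ a : ℕ, Even a → Even (ν.count a) := by
  classical
  have hp : p.Prime := Fact.out
  have h2 : (2 : F) ≠ 0 := by
    intro h
    have h1 : ((2 : ℕ) : F) = 0 := by rw [Nat.cast_ofNat]; exact h
    rw [CharP.cast_eq_zero_iff F p 2] at h1
    exact hp2 ((Nat.prime_dvd_prime_iff_eq hp Nat.prime_two).mp h1)
  have hμpos : ∀ a ∈ μ, 1 ≤ a := fun a ha => (hμ a ha).1
  by_cases hones : ∀ a ∈ μ, a = 1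
  · have hμeq : μ = Multiset.replicate (2 * d + 1) 1 := by
      have h1 := Multiset.eq_replicate_card.mpr hones
      have h3 : Multiset.card μ = 2 * d + 1 := by
        rw [← hμsum]
        conv_rhs => rw [h1]
        rw [Multiset.sum_replicate, smul_eq_mul, mul_one]
      rw [h3] at h1
      exact h1
    refine ⟨Multiset.replicate m 1, ?_, ?_, ?_⟩
    · rw [hμeq, Multiset.replicate_le_replicate]
      exact hmd
    · rw [Multiset.sum_replicate, smul_eq_mul, mul_one]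
    · intro a ha
      rw [Multiset.count_replicate]
      split_ifs with h
      · rw [← h] at ha
        exact absurd ha (by decide)
      · exact Even.zero
  push Not at hones
  obtain ⟨a₀, ha₀, ha₀1⟩ := hones
  have ha₀2 : 2 ≤ a₀ := by have := hμpos a₀ ha₀; omega
  have hreal : QReal F μ 1 := qReal_of_valid h2 μ hμpar (by rw [hμsum]; exact odd_two_mul_add_one d)
  obtain ⟨x, hxΩ, hxp, hprof⟩ := exists_omega_elt_odd p hp2 hd μ (fun a ha => (hμ a ha).2) hμsum hreal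
  have hxpm : (x : Matrix (Unit ⊕ (Fin d ⊕ Fin d)) (Unit ⊕ (Fin d ⊕ Fin d)) F) ^ p = 1 := by
    rw [← Units.val_pow_eq_pow_val, hxp]
    rfl
  have h1ne : mprof μ 1 ≠ 0 := by
    intro h
    have := (mprof_eq_zero_iff μ 1).mp h a₀ ha₀
    omega
  have hx1 : x ≠ 1 := by
    intro hx
    apply h1ne
    rw [← hprof 1, pow_one, hx, Units.val_one, sub_self, Matrix.rank_zero]
  have hord : orderOf x = p := orderOf_eq_prime hxp hx1
  obtain ⟨W, ⟨hWd, hWnd'⟩, hWinv⟩ := hall x hxΩ hord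
  -- the bilinear form
  obtain ⟨B, hB⟩ : ∃ B : LinearMap.BilinForm F (Unit ⊕ (Fin d ⊕ Fin d) → F),
      B = QuadraticMap.polarBilin (oddForm F d) := ⟨_, rfl⟩
  have hfun : (⇑(oddForm F d) : (Unit ⊕ (Fin d ⊕ Fin d) → F) → F) = Cfsg.quadFormOdd d F := by
    funext v
    exact oddForm_apply F d v
  have hBapp : ∀ u v, B u v = QuadraticMap.polar (Cfsg.quadFormOdd d F) u v := by
    intro u v
    rw [hB, QuadraticMap.polarBilin_apply_apply, hfun]
  have hS : B.IsSymm := by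
    constructor
    intro u v
    rw [hB]
    simp only [QuadraticMap.polarBilin_apply_apply]
    exact QuadraticMap.polar_comm _ u v
  have hxiso : x ∈ Cfsg.isometryGroup F (Cfsg.quadFormOdd d F) := by
    obtain ⟨y, -, rfl⟩ := hxΩ
    exact y.2
  have hxQ := (Cfsg.Agent.Helper8.AutImageOrth.mem_isometryGroup_iff' _ x).mp hxiso
  have hiso : ∀ u v, B ((x : Matrix (Unit ⊕ (Fin d ⊕ Fin d)) (Unit ⊕ (Fin d ⊕ Fin d)) F) *ᵥ u)
      ((x : Matrix (Unit ⊕ (Fin d ⊕ Fin d)) (Unit ⊕ (Fin d ⊕ Fin d)) F) *ᵥ v) = B u v := by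
    intro u v
    rw [hBapp, hBapp]
    unfold QuadraticMap.polar
    rw [← Matrix.mulVec_add, hxQ, hxQ, hxQ]
  have hWnd : ND B W := by
    intro u hu hne
    obtain ⟨-, v, hv, hv'⟩ := hWnd' u hu hne
    exact ⟨v, hv, by rw [hBapp]; exact hv'⟩
  obtain ⟨ν, hνle, hνsum, hνpar⟩ := exists_sub_type hp2 hS _ hxpm hiso μ hμpos hprof W hWnd hWinv
  exact ⟨ν, hνle, by rw [hνsum, hWd], hνpar⟩

end Cfsg.Agent.Helper7.OrUn
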