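import Mathlib
import Cfsg.Agent.Helper7.OrUnH

/-!
# Realisability of orthogonal unipotent types in minus type; the transfer to `Ω⁻`
-/

set_option autoImplicit false

namespace Cfsg.Agent.Helper7.OrUn

open Matrix Module Cfsg.Agent.Helper8.UJ Cfsg.Agent.Helper8.QuadForm Cfsg.Agent.Helper8.StdForms
  Cfsg.Agent.Helper8.StdTransfer

variable {F : Type*} [Field F]

/-- realisability with a two-dimensional remainder carrying the binary form `z₁² + a z₁ z₂ + b z₂²`. -/
def RReal (F : Type*) [Field F] (ν : Multiset ℕ) (a b : F) : Prop :=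
  ∃ (ι κ : Type) (_ : Fintype ι) (_ : DecidableEq ι) (_ : Fintype κ) (G A : Matrix ι ι F)
    (e f : κ → ι → F) (u₀ u₁ : ι → F),
    Fintype.card ι = 2 * Fintype.card κ + 2 ∧ HypM G e f ∧
      (∀ i, e i ⬝ᵥ ((G + Gᵀ) *ᵥ u₀) = 0 ∧ f i ⬝ᵥ ((G + Gᵀ) *ᵥ u₀) = 0) ∧
      (∀ i, e i ⬝ᵥ ((G + Gᵀ) *ᵥ u₁) = 0 ∧ f i ⬝ᵥ ((G + Gᵀ) *ᵥ u₁) = 0) ∧
      u₀ ⬝ᵥ (G *ᵥ u₀) = 1 ∧ u₀ ⬝ᵥ ((G + Gᵀ) *ᵥ u₁) = a ∧ u₁ ⬝ᵥ (G *ᵥ u₁) = b ∧
      IsAltM (Aᵀ * G * A - G) ∧ ∀ j, ((A - 1) ^ j).rank = mprof ν j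

/-- two realisations with remainder combine to a realisation with binary remainder. -/
theorem rReal_add (h2 : (2 : F) ≠ 0) (ν₁ ν₂ : Multiset ℕ) (a b : F)
    (h₁ : QReal F ν₁ 1) (h₂ : QReal F ν₂ (b - (a * 2⁻¹) ^ 2)) : RReal F (ν₁ + ν₂) a b := by
  obtain ⟨ι₁, κ₁, _, _, _, G₁, A₁, e₁, f₁, w₁, hc₁, hh₁, ho₁, hw₁, ha₁, hr₁⟩ := h₁
  obtain ⟨ι₂, κ₂, _, _, _, G₂, A₂, e₂, f₂, w₂, hc₂, hh₂, ho₂, hw₂, ha₂, hr₂⟩ := h₂
  have ev : ∀ (M₁ : Matrix ι₁ ι₁ F) (M₂ : Matrix ι₂ ι₂ F) (u₁ v₁ : ι₁ → F) (u₂ v₂ : ι₂ → F),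
      (Sum.elim u₁ u₂) ⬝ᵥ (fromBlocks M₁ 0 0 M₂ *ᵥ Sum.elim v₁ v₂) =
        u₁ ⬝ᵥ (M₁ *ᵥ v₁) + u₂ ⬝ᵥ (M₂ *ᵥ v₂) := by
    intro M₁ M₂ u₁ v₁ u₂ v₂
    rw [Matrix.fromBlocks_mulVec, sumElim_dotProduct_sumElim]
    simp
  refine ⟨ι₁ ⊕ ι₂, κ₁ ⊕ κ₂, inferInstance, inferInstance, inferInstance, fromBlocks G₁ 0 0 G₂,
    fromBlocks A₁ 0 0 A₂, _, _, Sum.elim w₁ (0 : ι₂ → F), Sum.elim ((a * 2⁻¹) • w₁) w₂, ?_,
    hypM_add G₁ G₂ e₁ f₁ e₂ f₂ hh₁ hh₂, ?_, ?_, ?_, ?_, ?_, ?_, fun j => ?_⟩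
  · rw [Fintype.card_sum, Fintype.card_sum, hc₁, hc₂]
    ring
  · rintro (i | i)
    · simp only [Sum.elim_inl]
      rw [fromBlocks_add_transpose, ev, ev, (ho₁ i).1, (ho₁ i).2]
      simp
    · simp only [Sum.elim_inr]
      rw [fromBlocks_add_transpose, ev, ev]
      simp
  · rintro (i | i)
    · simp only [Sum.elim_inl]
      rw [fromBlocks_add_transpose, ev, ev]
      simp only [Matrix.mulVec_smul, dotProduct_smul, (ho₁ i).1, (ho₁ i).2]
      simp
    · simp only [Sum.elim_inr]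
      rw [fromBlocks_add_transpose, ev, ev, (ho₂ i).1, (ho₂ i).2]
      simp
  · rw [ev, hw₁]
    simp
  · rw [fromBlocks_add_transpose, ev]
    simp only [Matrix.mulVec_smul, dotProduct_smul, dot_polar_self, hw₁, zero_dotProduct, add_zero,
      smul_eq_mul, mul_one]
    rw [mul_assoc, inv_mul_cancel₀ h2, mul_one]
  · rw [ev, hw₂]
    simp only [Matrix.mulVec_smul, dotProduct_smul, smul_dotProduct, hw₁, smul_eq_mul, mul_one]
    ring
  · rw [Matrix.fromBlocks_transpose, Matrix.fromBlocks_multiply, Matrix.fromBlocks_multiply,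
      fromBlocks_sub']
    simp only [Matrix.transpose_zero, Matrix.zero_mul, Matrix.mul_zero, add_zero, zero_add,
      sub_self]
    constructor
    · rw [Matrix.fromBlocks_transpose, Matrix.fromBlocks_neg, ha₁.1, ha₂.1]
      simp
    · rintro (i | i)
      · exact ha₁.2 i
      · exact ha₂.2 i
  · rw [fromBlocks_diag_sub_one, rank_pow_fromBlocks, mprof_add, hr₁ j, hr₂ j]

/-- **every admissible type of even size with an odd part is realised with any binary remainder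
`z₁² + a z₁ z₂ + b z₂²` of nonzero discriminant** (odd characteristic). -/
theorem rReal_of_valid (h2 : (2 : F) ≠ 0) (μ : Multiset ℕ) (hev : ∀ c, Even c → Even (μ.count c))
    (hsum : Even μ.sum) {c : ℕ} (hc : c ∈ μ) (hco : Odd c) (a b : F)
    (hab : b - (a * 2⁻¹) ^ 2 ≠ 0) : RReal F μ a b := by
  obtain ⟨μ', hμ'⟩ := Multiset.exists_cons_of_mem hc
  have hev' : ∀ b, Even b → Even (μ'.count b) := by
    intro b hb
    have h1 := hev b hb
    rw [hμ', Multiset.count_cons_of_ne] at h1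
    · exact h1
    · intro hba
      rw [hba] at hb
      exact (Nat.not_even_iff_odd.mpr hco) hb
  have hsum' : Odd μ'.sum := by
    rw [hμ', Multiset.sum_cons] at hsum
    rcases Nat.even_or_odd μ'.sum with h | h
    · exact absurd hsum (Nat.not_even_iff_odd.mpr (hco.add_even h))
    · exact h
  have hQ2 := qReal_smul _ _ (qReal_of_valid h2 μ' hev' hsum') hab
  rw [mul_one] at hQ2
  obtain ⟨k, rfl⟩ := hco
  have hQ := qReal_single (F := F) h2 k
  have hne : ((-1 : F)) ^ k ≠ 0 := pow_ne_zero k (neg_ne_zero.mpr one_ne_zero)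
  have hQ' := qReal_smul _ _ hQ (inv_ne_zero hne)
  rw [inv_mul_cancel₀ hne] at hQ'
  have := rReal_add h2 _ _ a b hQ' hQ2
  rw [hμ']
  exact this

/-! ### the standard minus form on the standard basis -/

section polar

variable (m : ℕ) (a b : F)

theorem polar_minus_ll (i j : Fin m) :
    QuadraticMap.polar (minusForm F m a b) (Pi.single (Sum.inl (Sum.inl i)) 1)
      (Pi.single (Sum.inl (Sum.inl j)) 1) = 0 := by
  rw [polar_minusForm]
  simp [Pi.single_apply]

theorem polar_minus_rr (i j : Fin m) :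
    QuadraticMap.polar (minusForm F m a b) (Pi.single (Sum.inl (Sum.inr i)) 1)
      (Pi.single (Sum.inl (Sum.inr j)) 1) = 0 := by
  rw [polar_minusForm]
  simp [Pi.single_apply]

theorem polar_minus_lr (i j : Fin m) :
    QuadraticMap.polar (minusForm F m a b) (Pi.single (Sum.inl (Sum.inl i)) 1)
      (Pi.single (Sum.inl (Sum.inr j)) 1) = if i = j then 1 else 0 := by
  classical
  rw [polar_minusForm]
  simp [Pi.single_apply, eq_comm]

theorem polar_minus_lz (i : Fin m) (c : Fin 2) :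
    QuadraticMap.polar (minusForm F m a b) (Pi.single (Sum.inl (Sum.inl i)) 1)
      (Pi.single (Sum.inr c) 1) = 0 := by
  rw [polar_minusForm]
  simp [Pi.single_apply]

theorem polar_minus_rz (i : Fin m) (c : Fin 2) :
    QuadraticMap.polar (minusForm F m a b) (Pi.single (Sum.inl (Sum.inr i)) 1)
      (Pi.single (Sum.inr c) 1) = 0 := by
  rw [polar_minusForm]
  simp [Pi.single_apply]

theorem polar_minus_00 :
    QuadraticMap.polar (minusForm F m a b) (Pi.single (Sum.inr 0) 1) (Pi.single (Sum.inr 0) 1) = 2 := by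
  rw [polar_minusForm]
  simp [Pi.single_apply]

theorem polar_minus_01 :
    QuadraticMap.polar (minusForm F m a b) (Pi.single (Sum.inr 0) 1) (Pi.single (Sum.inr 1) 1) = a := by
  rw [polar_minusForm]
  simp [Pi.single_apply]

theorem polar_minus_11 :
    QuadraticMap.polar (minusForm F m a b) (Pi.single (Sum.inr 1) 1) (Pi.single (Sum.inr 1) 1)
      = 2 * b := by
  rw [polar_minusForm]
  simp [Pi.single_apply]

end polar

/-- transfer to the standard minus form along a basis adapted to `hyperbolic ⟂ binary`. -/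
theorem minus_transfer_gen {V : Type*} [AddCommGroup V] [Module F V] {m : ℕ} (a b : F)
    (Q : QuadraticForm F V) (bs : Basis ((Fin m ⊕ Fin m) ⊕ Fin 2) F V)
    (h1 : ∀ i, Q (bs (Sum.inl (Sum.inl i))) = 0 ∧ Q (bs (Sum.inl (Sum.inr i))) = 0)
    (h2 : ∀ i j, QuadraticMap.polar ⇑Q (bs (Sum.inl (Sum.inl i))) (bs (Sum.inl (Sum.inr j)))
      = if i = j then 1 else 0)
    (h3 : ∀ i j, QuadraticMap.polar ⇑Q (bs (Sum.inl (Sum.inl i))) (bs (Sum.inl (Sum.inl j))) = 0 ∧
      QuadraticMap.polar ⇑Q (bs (Sum.inl (Sum.inr i))) (bs (Sum.inl (Sum.inr j))) = 0)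
    (h4 : ∀ i (c : Fin 2), QuadraticMap.polar ⇑Q (bs (Sum.inl (Sum.inl i))) (bs (Sum.inr c)) = 0 ∧
      QuadraticMap.polar ⇑Q (bs (Sum.inl (Sum.inr i))) (bs (Sum.inr c)) = 0)
    (h5 : Q (bs (Sum.inr 0)) = 1) (h6 : QuadraticMap.polar ⇑Q (bs (Sum.inr 0)) (bs (Sum.inr 1)) = a)
    (h7 : Q (bs (Sum.inr 1)) = b) :
    ∀ v, minusForm F m a b (bs.equivFun v) = Q v := by
  classical
  have hself : ∀ x : V, QuadraticMap.polar ⇑Q x x = 2 * Q x := by
    intro x
    have := QuadraticMap.polar_self Q x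
    simpa using this
  have key : (minusForm F m a b).comp (bs.equivFun : V →ₗ[F] ((Fin m ⊕ Fin m) ⊕ Fin 2 → F)) = Q := by
    apply eq_of_basis bs
    · intro r
      rw [QuadraticMap.comp_apply, LinearEquiv.coe_coe, equivFun_basis, minusForm_apply]
      unfold Cfsg.quadFormMinus
      rcases r with (r | r) | r
      · rw [(h1 r).1]; simp
      · rw [(h1 r).2]; simp
      · fin_cases r
        · simp only [Fin.zero_eta]
          rw [h5]; simp
        · simp only [Fin.mk_one]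
          rw [h7]; simp
    · intro r s
      rw [polar_comp_equivFun, equivFun_basis, equivFun_basis]
      rcases r with (r | r) | r <;> rcases s with (s | s) | s
      · rw [polar_minus_ll, (h3 r s).1]
      · rw [polar_minus_lr, h2]
      · rw [polar_minus_lz, (h4 r s).1]
      · rw [QuadraticMap.polar_comm, polar_minus_lr, QuadraticMap.polar_comm, h2]
      · rw [polar_minus_rr, (h3 r s).2]
      · rw [polar_minus_rz, (h4 r s).2]
      · rw [QuadraticMap.polar_comm, polar_minus_lz, QuadraticMap.polar_comm, (h4 s r).1]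
      · rw [QuadraticMap.polar_comm, polar_minus_rz, QuadraticMap.polar_comm, (h4 s r).2]
      · fin_cases r <;> fin_cases s
        · simp only [Fin.zero_eta]
          rw [polar_minus_00, hself, h5, mul_one]
        · simp only [Fin.zero_eta, Fin.mk_one]
          rw [polar_minus_01, h6]
        · simp only [Fin.zero_eta, Fin.mk_one]
          rw [QuadraticMap.polar_comm, polar_minus_01, QuadraticMap.polar_comm, h6]
        · simp only [Fin.mk_one]
          rw [polar_minus_11, hself, h7]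
  intro v
  have := congrArg (fun Q' : QuadraticForm F V => Q' v) key
  exact this

end Cfsg.Agent.Helper7.OrUn
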