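import Mathlib
import Cfsg.Agent.Helper7.OrUnI

/-!
# An element of `Ω⁻` with a prescribed rank profile
-/

set_option autoImplicit false

namespace Cfsg.Agent.Helper7.OrUn

open Matrix Module Cfsg.Agent.Helper8.UJ Cfsg.Agent.Helper8.QuadForm Cfsg.Agent.Helper8.StdForms
  Cfsg.Agent.Helper8.StdTransfer

variable {F : Type*} [Field F]

/-- an anisotropic binary form `z₁² + a z₁ z₂ + b z₂²` has nonzero discriminant (odd characteristic). -/
theorem disc_ne_zero (h2 : (2 : F) ≠ 0) {a b : F}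
    (hab : ∀ x y : F, x ^ 2 + a * x * y + b * y ^ 2 = 0 → x = 0 ∧ y = 0) :
    4 * b - a ^ 2 ≠ 0 := by
  intro h
  have := hab (-a) 2 (by linear_combination h)
  exact h2 this.2

theorem disc_ne_zero' (h2 : (2 : F) ≠ 0) {a b : F}
    (hab : ∀ x y : F, x ^ 2 + a * x * y + b * y ^ 2 = 0 → x = 0 ∧ y = 0) :
    b - (a * 2⁻¹) ^ 2 ≠ 0 := by
  intro h
  apply disc_ne_zero h2 hab
  have h4 : (2 : F) * 2⁻¹ = 1 := mul_inv_cancel₀ h2
  have : 4 * b - a ^ 2 = 4 * (b - (a * 2⁻¹) ^ 2) - a ^ 2 * (1 - (2 * 2⁻¹) ^ 2) := by ring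
  rw [this, h, h4]
  ring

/-- **an element of `Ω⁻_{2m+2}` of order dividing `p` with a prescribed rank profile.** -/
theorem exists_omega_elt_minus [Fintype F] (p : ℕ) [Fact p.Prime] [CharP F p] (hp2 : p ≠ 2) {m : ℕ}
    (hm : 2 ≤ m) (a b : F) (hab : ∀ x y : F, x ^ 2 + a * x * y + b * y ^ 2 = 0 → x = 0 ∧ y = 0)
    (μ : Multiset ℕ) (hμ : ∀ c ∈ μ, c ≤ p) (hsum : μ.sum = 2 * m + 2)
    (hreal : RReal F μ a b) :
    ∃ x : GL ((Fin m ⊕ Fin m) ⊕ Fin 2) F, x ∈ Cfsg.Geo.omegaGL (Cfsg.quadFormMinus m F a b) ∧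
      x ^ p = 1 ∧
      ∀ j, (((x : Matrix ((Fin m ⊕ Fin m) ⊕ Fin 2) ((Fin m ⊕ Fin m) ⊕ Fin 2) F) - 1) ^ j).rank =
        mprof μ j := by
  classical
  have hp : p.Prime := Fact.out
  have h2 : (2 : F) ≠ 0 := by
    intro h
    have h1 : ((2 : ℕ) : F) = 0 := by rw [Nat.cast_ofNat]; exact h
    rw [CharP.cast_eq_zero_iff F p 2] at h1
    exact hp2 ((Nat.prime_dvd_prime_iff_eq hp Nat.prime_two).mp h1)
  have hD := disc_ne_zero h2 hab
  obtain ⟨ι, κ, _, _, _, G, A, e, f, u₀, u₁, hcard, ⟨a1, a2, a3, a4⟩, ho0, ho1, hu0, hu01, hu1,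
    halt, hr⟩ := hreal
  have hιd : Fintype.card ι = 2 * m + 2 := by
    have h0 := hr 0
    rw [pow_zero, Matrix.rank_one, Cfsg.Agent.Helper8.SpU.mprof_zero_eq, hsum] at h0
    exact h0
  have hκd : Fintype.card κ = m := by omega
  obtain ⟨σ⟩ : Nonempty (Fin m ≃ κ) := ⟨(Fintype.equivFinOfCardEq hκd).symm⟩
  -- the polar values
  have P00 : QuadraticMap.polar (qf G) u₀ u₀ = 2 := by
    rw [polar_qf, dot_polar_self, hu0, mul_one]
  have P11 : QuadraticMap.polar (qf G) u₁ u₁ = 2 * b := by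
    rw [polar_qf, dot_polar_self, hu1]
  have P01 : QuadraticMap.polar (qf G) u₀ u₁ = a := by
    rw [polar_qf, hu01]
  have P10 : QuadraticMap.polar (qf G) u₁ u₀ = a := by
    rw [QuadraticMap.polar_comm, P01]
  have Pe0 : ∀ i, QuadraticMap.polar (qf G) (e (σ i)) u₀ = 0 := by
    intro i
    rw [polar_qf, (ho0 (σ i)).1]
  have Pf0 : ∀ i, QuadraticMap.polar (qf G) (f (σ i)) u₀ = 0 := by
    intro i
    rw [polar_qf, (ho0 (σ i)).2]
  have Pe1 : ∀ i, QuadraticMap.polar (qf G) (e (σ i)) u₁ = 0 := by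
    intro i
    rw [polar_qf, (ho1 (σ i)).1]
  have Pf1 : ∀ i, QuadraticMap.polar (qf G) (f (σ i)) u₁ = 0 := by
    intro i
    rw [polar_qf, (ho1 (σ i)).2]
  have Pee : ∀ i j, QuadraticMap.polar (qf G) (e (σ i)) (e (σ j)) = 0 := by
    intro i j
    rw [polar_qf, (a4 _ _).1]
  have Pff : ∀ i j, QuadraticMap.polar (qf G) (f (σ i)) (f (σ j)) = 0 := by
    intro i j
    rw [polar_qf, (a4 _ _).2]
  have Pef : ∀ i j, QuadraticMap.polar (qf G) (e (σ i)) (f (σ j)) = if i = j then 1 else 0 := by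
    intro i j
    rw [polar_qf]
    by_cases hij : i = j
    · subst hij
      rw [if_pos rfl]
      exact a3 (σ i)
    · rw [if_neg hij]
      exact a2 _ _ (fun h => hij (σ.injective h))
  -- the binary part and its dual
  obtain ⟨U, hU⟩ : ∃ U : Fin 2 → ι → F, U = ![u₀, u₁] := ⟨_, rfl⟩
  obtain ⟨U', hU'⟩ : ∃ U' : Fin 2 → ι → F,
      U' = ![(2 * b) • u₀ - a • u₁, (2 : F) • u₁ - a • u₀] := ⟨_, rfl⟩
  have hU0 : U 0 = u₀ := by rw [hU]; rfl
  have hU1 : U 1 = u₁ := by rw [hU]; rfl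
  have hU'0 : U' 0 = (2 * b) • u₀ - a • u₁ := by rw [hU']; rfl
  have hU'1 : U' 1 = (2 : F) • u₁ - a • u₀ := by rw [hU']; rfl
  have PUU' : ∀ c c', QuadraticMap.polar (qf G) (U c) (U' c') = if c = c' then 4 * b - a ^ 2 else 0 := by
    intro c c'
    fin_cases c <;> fin_cases c'
    · simp only [Fin.zero_eta]
      rw [hU0, hU'0, QuadraticMap.polar_sub_right, QuadraticMap.polar_smul_right,
        QuadraticMap.polar_smul_right, P00, P01, smul_eq_mul, smul_eq_mul]
      simp only [if_true]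
      ring
    · simp only [Fin.zero_eta, Fin.mk_one]
      rw [hU0, hU'1, QuadraticMap.polar_sub_right, QuadraticMap.polar_smul_right,
        QuadraticMap.polar_smul_right, P00, P01, if_neg (by decide), smul_eq_mul, smul_eq_mul]
      ring
    · simp only [Fin.zero_eta, Fin.mk_one]
      rw [hU1, hU'0, QuadraticMap.polar_sub_right, QuadraticMap.polar_smul_right,
        QuadraticMap.polar_smul_right, P10, P11, if_neg (by decide), smul_eq_mul, smul_eq_mul]
      ring
    · simp only [Fin.mk_one]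
      rw [hU1, hU'1, QuadraticMap.polar_sub_right, QuadraticMap.polar_smul_right,
        QuadraticMap.polar_smul_right, P10, P11, smul_eq_mul, smul_eq_mul]
      simp only [if_true]
      ring
  have PeU : ∀ i c, QuadraticMap.polar (qf G) (e (σ i)) (U c) = 0 := by
    intro i c
    fin_cases c
    · simp only [Fin.zero_eta]; rw [hU0, Pe0]
    · simp only [Fin.mk_one]; rw [hU1, Pe1]
  have PfU : ∀ i c, QuadraticMap.polar (qf G) (f (σ i)) (U c) = 0 := by
    intro i c
    fin_cases c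
    · simp only [Fin.zero_eta]; rw [hU0, Pf0]
    · simp only [Fin.mk_one]; rw [hU1, Pf1]
  have PeU' : ∀ i c, QuadraticMap.polar (qf G) (e (σ i)) (U' c) = 0 := by
    intro i c
    fin_cases c
    · simp only [Fin.zero_eta]
      rw [hU'0, QuadraticMap.polar_sub_right, QuadraticMap.polar_smul_right,
        QuadraticMap.polar_smul_right, Pe0, Pe1]
      simp
    · simp only [Fin.mk_one]
      rw [hU'1, QuadraticMap.polar_sub_right, QuadraticMap.polar_smul_right,
        QuadraticMap.polar_smul_right, Pe0, Pe1]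
      simp
  have PfU' : ∀ i c, QuadraticMap.polar (qf G) (f (σ i)) (U' c) = 0 := by
    intro i c
    fin_cases c
    · simp only [Fin.zero_eta]
      rw [hU'0, QuadraticMap.polar_sub_right, QuadraticMap.polar_smul_right,
        QuadraticMap.polar_smul_right, Pf0, Pf1]
      simp
    · simp only [Fin.mk_one]
      rw [hU'1, QuadraticMap.polar_sub_right, QuadraticMap.polar_smul_right,
        QuadraticMap.polar_smul_right, Pf0, Pf1]
      simp
  -- the standard family
  obtain ⟨bf, hbf⟩ : ∃ bf : (Fin m ⊕ Fin m) ⊕ Fin 2 → ι → F,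
      bf = Sum.elim (Sum.elim (fun i => e (σ i)) (fun i => f (σ i))) U := ⟨_, rfl⟩
  obtain ⟨bf', hbf'⟩ : ∃ bf' : (Fin m ⊕ Fin m) ⊕ Fin 2 → ι → F,
      bf' = Sum.elim (Sum.elim (fun i => f (σ i)) (fun i => e (σ i))) U' := ⟨_, rfl⟩
  have hli : LinearIndependent F bf := by
    apply linearIndependent_of_dual (qf G) bf bf'
      (fun r => Sum.elim (fun _ => (1 : F)) (fun _ => 4 * b - a ^ 2) r)
    · rintro (r | r)
      · exact one_ne_zero
      · exact hD
    · intro r s
      rw [hbf, hbf']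
      rcases r with (r | r) | r <;> rcases s with (s | s) | s
      · simp only [Sum.elim_inl]
        rw [Pef]
        by_cases hrs : r = s
        · simp [hrs]
        · simp [hrs]
      · simp only [Sum.elim_inl, Sum.elim_inr]
        rw [Pee]
        simp
      · simp only [Sum.elim_inl, Sum.elim_inr]
        rw [PeU']
        simp
      · simp only [Sum.elim_inl, Sum.elim_inr]
        rw [Pff]
        simp
      · simp only [Sum.elim_inl, Sum.elim_inr]
        rw [QuadraticMap.polar_comm, Pef]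
        by_cases hrs : r = s
        · simp [hrs]
        · have hrs' : ¬ s = r := fun h => hrs h.symm
          simp [hrs, hrs']
      · simp only [Sum.elim_inl, Sum.elim_inr]
        rw [PfU']
        simp
      · simp only [Sum.elim_inl, Sum.elim_inr]
        rw [QuadraticMap.polar_comm, PfU]
        simp
      · simp only [Sum.elim_inl, Sum.elim_inr]
        rw [QuadraticMap.polar_comm, PeU]
        simp
      · simp only [Sum.elim_inr]
        rw [PUU']
        by_cases hrs : r = s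
        · simp [hrs]
        · simp [hrs]
  have hfr : finrank F (ι → F) = 2 * m + 2 := by
    rw [Module.finrank_fintype_fun_eq_card, hιd]
  obtain ⟨bs, hbs⟩ := exists_basis_of_li hli (by
    rw [hfr]
    simp [Fintype.card_sum]
    omega)
  have hb0 : bs (Sum.inr 0) = u₀ := by rw [hbs, hbf]; exact hU0
  have hb1 : bs (Sum.inr 1) = u₁ := by rw [hbs, hbf]; exact hU1
  have hbU : ∀ c, bs (Sum.inr c) = U c := fun c => by rw [hbs, hbf]; rfl
  have hbl : ∀ i, bs (Sum.inl (Sum.inl i)) = e (σ i) := fun i => by rw [hbs, hbf]; rfl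
  have hbr : ∀ i, bs (Sum.inl (Sum.inr i)) = f (σ i) := fun i => by rw [hbs, hbf]; rfl
  have htr : ∀ v, minusForm F m a b (bs.equivFun v) = qf G v := by
    apply minus_transfer_gen a b (qf G) bs
    · intro i
      rw [hbl, hbr, qf_apply, qf_apply]
      exact a1 (σ i)
    · intro i j
      rw [hbl, hbr]
      exact Pef i j
    · intro i j
      rw [hbl, hbl, hbr, hbr]
      exact ⟨Pee i j, Pff i j⟩
    · intro i c
      rw [hbl, hbr, hbU]
      exact ⟨PeU i c, PfU i c⟩
    · rw [hb0, qf_apply, hu0]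
    · rw [hb0, hb1]
      exact P01
    · rw [hb1, qf_apply, hu1]
  have hQ : (QuadraticMap.polarBilin (minusForm F m a b)).Nondegenerate :=
    minusForm_nondeg F m hab
  have h5 : 5 ≤ Fintype.card ((Fin m ⊕ Fin m) ⊕ Fin 2) := by
    simp [Fintype.card_sum]
    omega
  obtain ⟨x, hxΩ, hxp, hprof⟩ := exists_omega_elt_gen p hp2 (minusForm F m a b) hQ h5 G A halt
    bs.equivFun htr μ hμ hr
  have hfun : (⇑(minusForm F m a b) : ((Fin m ⊕ Fin m) ⊕ Fin 2 → F) → F) =
      Cfsg.quadFormMinus m F a b := by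
    funext v
    exact minusForm_apply F m a b v
  rw [hfun] at hxΩ
  exact ⟨x, hxΩ, hxp, hprof⟩

end Cfsg.Agent.Helper7.OrUn
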