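import Mathlib
import Cfsg.Agent.Helper7.OrUnJ

/-!
# `Ω⁻_{2d}(q)`, `q` odd: unipotent elements fixing elliptic nondegenerate subspaces, necessity
-/

set_option autoImplicit false

namespace Cfsg.Agent.Helper7.OrUn

open Matrix Module Cfsg.Agent.Helper8.UJ Cfsg.Agent.Helper7.SpUn Cfsg.Agent.Helper7.SpOrd
  Cfsg.Agent.Helper8.SpU Cfsg.Agent.Helper8.StdForms

/-! ### combinatorics -/

/-- a submultiset of `c₁, c₂, 2, …, 2` (`c₁, c₂` odd) of even sum with `2` of even multiplicity which is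
not of the form `2, …, 2` contains both odd parts. -/
theorem sub_two_odd {c₁ c₂ n m : ℕ} (h₁ : Odd c₁) (h₂ : Odd c₂) (ν : Multiset ℕ)
    (hle : ν ≤ c₁ ::ₘ c₂ ::ₘ Multiset.replicate n 2) (hsum : ν.sum = m) (hme : Even m)
    (hpar : ∀ a : ℕ, Even a → Even (ν.count a)) (hne : ∀ j, ν ≠ Multiset.replicate j 2) :
    ∃ j, Even j ∧ m = c₁ + c₂ + 2 * j := by
  classical
  obtain ⟨t₁, ht₁⟩ := h₁
  obtain ⟨t₂, ht₂⟩ := h₂
  obtain ⟨s, hs⟩ := hme
  by_cases hc1 : c₁ ∈ ν
  · obtain ⟨ν₁, rfl⟩ := Multiset.exists_cons_of_mem hc1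
    rw [Multiset.cons_le_cons_iff] at hle
    by_cases hc2 : c₂ ∈ ν₁
    · obtain ⟨ν₂, rfl⟩ := Multiset.exists_cons_of_mem hc2
      rw [Multiset.cons_le_cons_iff] at hle
      obtain ⟨j, -, rfl⟩ := Multiset.le_replicate_iff.mp hle
      refine ⟨j, ?_, ?_⟩
      · have h2 := hpar 2 (by decide)
        rw [Multiset.count_cons_of_ne (by omega), Multiset.count_cons_of_ne (by omega),
          Multiset.count_replicate_self] at h2
        exact h2
      · rw [Multiset.sum_cons, Multiset.sum_cons, Multiset.sum_replicate, smul_eq_mul] at hsum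
        omega
    · exfalso
      rw [Multiset.le_cons_of_notMem hc2] at hle
      obtain ⟨j, -, rfl⟩ := Multiset.le_replicate_iff.mp hle
      rw [Multiset.sum_cons, Multiset.sum_replicate, smul_eq_mul] at hsum
      omega
  · exfalso
    rw [Multiset.le_cons_of_notMem hc1] at hle
    by_cases hc2 : c₂ ∈ ν
    · obtain ⟨ν₂, rfl⟩ := Multiset.exists_cons_of_mem hc2
      rw [Multiset.cons_le_cons_iff] at hle
      obtain ⟨j, -, rfl⟩ := Multiset.le_replicate_iff.mp hle
      rw [Multiset.sum_cons, Multiset.sum_replicate, smul_eq_mul] at hsum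
      omega
    · rw [Multiset.le_cons_of_notMem hc2] at hle
      obtain ⟨j, -, rfl⟩ := Multiset.le_replicate_iff.mp hle
      exact hne j rfl

/-- the sum of a multiset of even numbers is even. -/
theorem even_sum_of_all_even (ν : Multiset ℕ) (h : ∀ c ∈ ν, Even c) : Even ν.sum := by
  rw [even_iff_two_dvd]
  apply Multiset.dvd_sum
  intro c hc
  exact even_iff_two_dvd.mp (h c hc)

/-- the all-even types are handled by the types with an odd part. -/
theorem cond_all_even {p d m : ℕ} (hpo : Odd p) (hme : Even m) (hd : 1 ≤ d)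
    (h : ∀ μ : Multiset ℕ, (∀ e ∈ μ, 0 < e ∧ e ≤ p) → (∀ e : ℕ, Even e → Even (μ.count e)) →
      μ.sum = 2 * d → (∃ c ∈ μ, Odd c) →
      ∃ ν : Multiset ℕ, ν ≤ μ ∧ ν.sum = m ∧ ∀ e : ℕ, Even e → Even (ν.count e))
    (μ : Multiset ℕ) (hμ : ∀ e ∈ μ, 0 < e ∧ e ≤ p) (hμpar : ∀ e : ℕ, Even e → Even (μ.count e))
    (hμsum : μ.sum = 2 * d) :
    ∃ ν : Multiset ℕ, ν ≤ μ ∧ ν.sum = m ∧ ∀ e : ℕ, Even e → Even (ν.count e) := by
  classical
  by_cases hodd : ∃ c ∈ μ, Odd c
  · exact h μ hμ hμpar hμsum hodd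
  push Not at hodd
  have hall : ∀ c ∈ μ, Even c := fun c hc => Nat.not_odd_iff_even.mp (hodd c hc)
  -- pick a part
  have hne : μ ≠ 0 := by
    intro h0
    rw [h0, Multiset.sum_zero] at hμsum
    omega
  obtain ⟨a, ha⟩ := Multiset.exists_mem_of_ne_zero hne
  have hae : Even a := hall a ha
  have ha0 : 0 < a := (hμ a ha).1
  have hap : a ≤ p := (hμ a ha).2
  obtain ⟨μ₁, hμ₁⟩ := Multiset.exists_cons_of_mem ha
  have ha1 : a ∈ μ₁ := by
    have h1 := hμpar a hae
    rw [hμ₁, Multiset.count_cons_self] at h1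
    have : 0 < μ₁.count a := by
      rcases Nat.eq_zero_or_pos (μ₁.count a) with h0 | h0
      · rw [h0] at h1
        exact absurd h1 (by decide)
      · exact h0
    exact Multiset.count_pos.mp this
  obtain ⟨μ₀, hμ₀⟩ := Multiset.exists_cons_of_mem ha1
  have hμeq : μ = a ::ₘ a ::ₘ μ₀ := by rw [hμ₁, hμ₀]
  have hall₀ : ∀ c ∈ μ₀, Even c := by
    intro c hc
    apply hall
    rw [hμeq]
    exact Multiset.mem_cons_of_mem (Multiset.mem_cons_of_mem hc)
  obtain ⟨t, ht⟩ := hae
  obtain ⟨r, hr⟩ := hpo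
  have hap1 : a + 1 ≤ p := by omega
  have ho1 : Odd (a + 1) := ⟨t, by omega⟩
  have ho2 : Odd (a - 1) := ⟨t - 1, by omega⟩
  -- the modified type
  have g1 : ∀ e ∈ (a + 1) ::ₘ (a - 1) ::ₘ μ₀, 0 < e ∧ e ≤ p := by
    intro e he
    rcases Multiset.mem_cons.mp he with he | he
    · rw [he]; exact ⟨by omega, hap1⟩
    rcases Multiset.mem_cons.mp he with he | he
    · rw [he]; exact ⟨by omega, by omega⟩
    · apply hμ
      rw [hμeq]
      exact Multiset.mem_cons_of_mem (Multiset.mem_cons_of_mem he)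
  have g2 : ∀ e : ℕ, Even e → Even (((a + 1) ::ₘ (a - 1) ::ₘ μ₀).count e) := by
    intro e he
    have hne1 : e ≠ a + 1 := by
      intro hh; rw [hh] at he; exact (Nat.not_even_iff_odd.mpr ho1) he
    have hne2 : e ≠ a - 1 := by
      intro hh; rw [hh] at he; exact (Nat.not_even_iff_odd.mpr ho2) he
    rw [Multiset.count_cons_of_ne hne1, Multiset.count_cons_of_ne hne2]
    have h1 := hμpar e he
    rw [hμeq] at h1
    by_cases hea : e = a
    · rw [hea, Multiset.count_cons_self, Multiset.count_cons_self] at h1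
      rw [hea]
      obtain ⟨u, hu⟩ := h1
      exact ⟨u - 1, by omega⟩
    · rw [Multiset.count_cons_of_ne hea, Multiset.count_cons_of_ne hea] at h1
      exact h1
  have g3 : ((a + 1) ::ₘ (a - 1) ::ₘ μ₀).sum = 2 * d := by
    rw [← hμsum, hμeq]
    simp only [Multiset.sum_cons]
    omega
  obtain ⟨ν', hle, hsum, hpar⟩ := h _ g1 g2 g3 ⟨a + 1, Multiset.mem_cons_self _ _, ho1⟩
  obtain ⟨s, hs⟩ := hme
  by_cases hc1 : (a + 1) ∈ ν'
  · obtain ⟨ν₁, rfl⟩ := Multiset.exists_cons_of_mem hc1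
    rw [Multiset.cons_le_cons_iff] at hle
    by_cases hc2 : (a - 1) ∈ ν₁
    · obtain ⟨ν₂, rfl⟩ := Multiset.exists_cons_of_mem hc2
      rw [Multiset.cons_le_cons_iff] at hle
      refine ⟨a ::ₘ a ::ₘ ν₂, ?_, ?_, ?_⟩
      · rw [hμeq]
        exact Multiset.cons_le_cons a (Multiset.cons_le_cons a hle)
      · rw [← hsum]
        simp only [Multiset.sum_cons]
        omega
      · intro e he
        have hne1 : e ≠ a + 1 := by
          intro hh; rw [hh] at he; exact (Nat.not_even_iff_odd.mpr ho1) he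
        have hne2 : e ≠ a - 1 := by
          intro hh; rw [hh] at he; exact (Nat.not_even_iff_odd.mpr ho2) he
        have h1 := hpar e he
        rw [Multiset.count_cons_of_ne hne1, Multiset.count_cons_of_ne hne2] at h1
        by_cases hea : e = a
        · rw [hea, Multiset.count_cons_self, Multiset.count_cons_self]
          rw [hea] at h1
          obtain ⟨u, hu⟩ := h1
          exact ⟨u + 1, by omega⟩
        · rw [Multiset.count_cons_of_ne hea, Multiset.count_cons_of_ne hea]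
          exact h1
    · exfalso
      rw [Multiset.le_cons_of_notMem hc2] at hle
      have hev := even_sum_of_all_even ν₁ (fun c hc => hall₀ c (Multiset.mem_of_le hle hc))
      obtain ⟨u, hu⟩ := hev
      rw [Multiset.sum_cons] at hsum
      omega
  · rw [Multiset.le_cons_of_notMem hc1] at hle
    by_cases hc2 : (a - 1) ∈ ν'
    · exfalso
      obtain ⟨ν₂, rfl⟩ := Multiset.exists_cons_of_mem hc2
      rw [Multiset.cons_le_cons_iff] at hle
      have hev := even_sum_of_all_even ν₂ (fun c hc => hall₀ c (Multiset.mem_of_le hle hc))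
      obtain ⟨u, hu⟩ := hev
      rw [Multiset.sum_cons] at hsum
      omega
    · rw [Multiset.le_cons_of_notMem hc2] at hle
      refine ⟨ν', ?_, hsum, hpar⟩
      rw [hμeq]
      exact hle.trans ((Multiset.le_cons_self _ _).trans (Multiset.le_cons_self _ _))

/-- the congruence `2d ≡ m (mod 4)` from the test types `3, 1, 2, …, 2` and `1, 1, 2, …, 2`. -/
theorem mod_four_minus {p d m : ℕ} (hp3 : 3 ≤ p) (hd : 2 ≤ d) (hme : Even m)
    (h : ∀ μ : Multiset ℕ, (∀ e ∈ μ, 0 < e ∧ e ≤ p) → (∀ e : ℕ, Even e → Even (μ.count e)) →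
      μ.sum = 2 * d → (∃ c ∈ μ, Odd c) →
      ∃ ν : Multiset ℕ, ν ≤ μ ∧ ν.sum = m ∧ (∀ e : ℕ, Even e → Even (ν.count e)) ∧
        ∀ j, ν ≠ Multiset.replicate j 2) :
    (2 * d) % 4 = m % 4 := by
  classical
  have key : ∀ c₁ c₂ k : ℕ, Odd c₁ → Odd c₂ → 0 < c₁ → c₁ ≤ 3 → 0 < c₂ → c₂ ≤ 3 →
      2 * d = 4 * k + c₁ + c₂ → (2 * d) % 4 = m % 4 := by
    intro c₁ c₂ k h₁ h₂ h10 h13 h20 h23 hdk
    have g1 : ∀ e ∈ c₁ ::ₘ c₂ ::ₘ Multiset.replicate (2 * k) 2, 0 < e ∧ e ≤ p := by
      intro e he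
      rcases Multiset.mem_cons.mp he with he | he
      · rw [he]; exact ⟨h10, by omega⟩
      rcases Multiset.mem_cons.mp he with he | he
      · rw [he]; exact ⟨h20, by omega⟩
      · rw [Multiset.eq_of_mem_replicate he]
        exact ⟨by norm_num, by omega⟩
    have g2 : ∀ e : ℕ, Even e → Even ((c₁ ::ₘ c₂ ::ₘ Multiset.replicate (2 * k) 2).count e) := by
      intro e he
      have hne1 : e ≠ c₁ := by
        intro hh; rw [hh] at he; exact (Nat.not_even_iff_odd.mpr h₁) he
      have hne2 : e ≠ c₂ := by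
        intro hh; rw [hh] at he; exact (Nat.not_even_iff_odd.mpr h₂) he
      rw [Multiset.count_cons_of_ne hne1, Multiset.count_cons_of_ne hne2, Multiset.count_replicate]
      split_ifs
      · exact even_two_mul k
      · exact Even.zero
    have g3 : (c₁ ::ₘ c₂ ::ₘ Multiset.replicate (2 * k) 2).sum = 2 * d := by
      rw [Multiset.sum_cons, Multiset.sum_cons, Multiset.sum_replicate, smul_eq_mul]
      omega
    obtain ⟨ν, hle, hsum, hpar, hne⟩ := h _ g1 g2 g3 ⟨c₁, Multiset.mem_cons_self _ _, h₁⟩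
    obtain ⟨j, ⟨t, ht⟩, hj⟩ := sub_two_odd h₁ h₂ ν hle hsum hme hpar hne
    omega
  rcases Nat.even_or_odd' d with ⟨k, hk | hk⟩
  · exact key 3 1 (k - 1) (by decide) odd_one (by norm_num) (by norm_num) (by norm_num)
      (by norm_num) (by omega)
  · exact key 1 1 k odd_one odd_one (by norm_num) (by norm_num) (by norm_num) (by norm_num)
      (by omega)

end Cfsg.Agent.Helper7.OrUn
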