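import Mathlib
import Cfsg.Agent.Helper7.OrUnK

/-!
# `Ω⁻_{2d}(q)`, `q` odd: unipotent elements fixing elliptic nondegenerate subspaces, necessity (II)
-/

set_option autoImplicit false

namespace Cfsg.Agent.Helper7.OrUn

open Matrix Module Cfsg.Agent.Helper8.UJ Cfsg.Agent.Helper7.SpUn Cfsg.Agent.Helper7.SpOrd
  Cfsg.Agent.Helper8.SpU Cfsg.Agent.Helper8.StdForms

section

variable {F : Type*} [Field F]

theorem mprof_replicate_two (n j : ℕ) : mprof (Multiset.replicate n 2) j = n * (2 - j) := by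
  unfold mprof
  rw [Multiset.map_replicate, Multiset.sum_replicate, smul_eq_mul]

/-- a nondegenerate invariant subspace on which the isometry has type `2, …, 2` is of plus type:
the image of `T - 1` is totally singular of half the dimension. -/
theorem plusType_of_twos {ι : Type} [Fintype ι] [DecidableEq ι] (h2 : (2 : F) ≠ 0)
    (Q : QuadraticForm F (ι → F)) (T : Module.End F (ι → F)) (hT : ∀ v, Q (T v) = Q v)
    (W : Submodule F (ι → F)) (hWT : W ∈ Module.End.invtSubmodule T) (n : ℕ)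
    (hprof : ∀ j, rprof (T - 1) W j = mprof (Multiset.replicate n 2) j) :
    Cfsg.Geo.IsPlusTypeOn ⇑Q W := by
  have hWN := invt_sub_one hWT
  have hkill : ∀ w ∈ W, (T - 1) ((T - 1) w) = 0 := by
    intro w hw
    have h0 : rprof (T - 1) W 2 = 0 := by rw [hprof, mprof_replicate_two, Nat.sub_self, mul_zero]
    unfold rprof at h0
    have hbot : W.map ((T - 1) ^ 2) = ⊥ := Submodule.finrank_eq_zero.mp h0
    have hmem : ((T - 1 : Module.End F (ι → F)) ^ 2) w ∈ W.map ((T - 1) ^ 2) :=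
      Submodule.mem_map_of_mem hw
    rw [hbot, Submodule.mem_bot, pow_two, Module.End.mul_apply] at hmem
    exact hmem
  have hpolT : ∀ u v, QuadraticMap.polar Q (T u) (T v) = QuadraticMap.polar Q u v := by
    intro u v
    unfold QuadraticMap.polar
    rw [← map_add, hT, hT, hT]
  have hself : ∀ x : ι → F, QuadraticMap.polar ⇑Q x x = 2 * Q x := by
    intro x
    have := QuadraticMap.polar_self Q x
    simpa using this
  refine ⟨W.map (T - 1), ?_, ?_, ?_⟩
  · have := map_pow_le hWN 1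
    rw [pow_one] at this
    exact this
  · rintro _ ⟨w, hw, rfl⟩
    have h1 := hkill w hw
    have hTT : T (T w) = (2 : F) • T w - w := by
      simp only [LinearMap.sub_apply, Module.End.one_apply, map_sub] at h1
      have : T (T w) = T w + T w - w := by
        have h3 : T (T w) - T w - (T w - w) = 0 := h1
        have h4 : T (T w) = T w + (T w - w) := by
          rw [sub_eq_zero] at h3
          rw [← h3]
          abel
        rw [h4]
        abel
      rw [this, two_smul]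
    have hpol : QuadraticMap.polar Q (T w) w = 2 * Q w := by
      have e1 : QuadraticMap.polar Q (T w) w = QuadraticMap.polar Q (T (T w)) (T w) :=
        (hpolT (T w) w).symm
      rw [hTT, QuadraticMap.polar_sub_left, QuadraticMap.polar_smul_left, hself, hT,
        QuadraticMap.polar_comm Q w (T w), smul_eq_mul] at e1
      have e2 : (2 : F) * QuadraticMap.polar Q (T w) w = 2 * (2 * Q w) := by
        linear_combination e1
      exact mul_left_cancel₀ h2 e2
    have hval : Q ((T - 1) w) = 0 := by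
      rw [LinearMap.sub_apply, Module.End.one_apply, sub_eq_add_neg, QuadraticMap.map_add Q,
        QuadraticMap.map_neg, QuadraticMap.polar_neg_right, hT, hpol]
      ring
    exact hval
  · have h1 := hprof 1
    have h0 := hprof 0
    rw [mprof_replicate_two] at h1 h0
    rw [rprof_zero] at h0
    unfold rprof at h1
    rw [pow_one] at h1
    rw [h1, h0]
    omega

end

variable {F : Type*} [Field F] [Fintype F] {p : ℕ} [Fact p.Prime] [CharP F p]

/-- the necessity argument, exporting the rank profile of the subspace. -/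
theorem exists_sub_type' {ι : Type*} [Fintype ι] [DecidableEq ι] (hp2 : p ≠ 2)
    {B : LinearMap.BilinForm F (ι → F)} (hS : B.IsSymm)
    (x : Matrix ι ι F) (hxp : x ^ p = 1) (hiso : ∀ u v, B (x *ᵥ u) (x *ᵥ v) = B u v)
    (μ : Multiset ℕ) (hμpos : ∀ a ∈ μ, 1 ≤ a) (hprof : ∀ j, ((x - 1) ^ j).rank = mprof μ j)
    (W : Submodule F (ι → F)) (hWnd : ND B W) (hWinv : W.map (Matrix.toLin' x) ≤ W) :
    ∃ ν : Multiset ℕ, ν ≤ μ ∧ ν.sum = finrank F ↥W ∧ (∀ a : ℕ, Even a → Even (ν.count a)) ∧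
      ∀ j, rprof (Matrix.toLin' x - 1) W j = mprof ν j := by
  classical
  have hp : p.Prime := Fact.out
  have h2 : (2 : F) ≠ 0 := by
    intro h
    have h1 : ((2 : ℕ) : F) = 0 := by rw [Nat.cast_ofNat]; exact h
    rw [CharP.cast_eq_zero_iff F p 2] at h1
    exact hp2 ((Nat.prime_dvd_prime_iff_eq hp Nat.prime_two).mp h1)
  obtain ⟨T, hTdef⟩ : ∃ T : Module.End F (ι → F), T = Matrix.toLin' x := ⟨_, rfl⟩
  have hWT : W ∈ Module.End.invtSubmodule T := by
    rw [Module.End.mem_invtSubmodule, ← Submodule.map_le_iff_le_comap, hTdef]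
    exact hWinv
  have hisoT : ∀ u v, B (T u) (T v) = B u v := by
    intro u v
    rw [hTdef, Matrix.toLin'_apply, Matrix.toLin'_apply]
    exact hiso u v
  have hT : T ^ p = 1 := by
    rw [hTdef, ← Matrix.toLin'_pow, hxp, Matrix.toLin'_one]
    rfl
  have hNp : (T - 1) ^ p = 0 := by
    rw [hTdef]
    exact nilpotent_toLin'_sub_one hxp
  have hnil : IsNilpotent (T - 1) := ⟨p, hNp⟩
  have hrefl := hS.isRefl
  have htopprof : ∀ j, rprof (T - 1) ⊤ j = mprof μ j := by
    intro j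
    unfold rprof
    rw [Submodule.map_top, hTdef, finrank_range_toLin'_sub_one_pow, hprof]
  have hW'T : B.orthogonal W ∈ Module.End.invtSubmodule T := perp_invt hisoT hp.pos hT hWT
  obtain ⟨ν, hνpos, hν⟩ := exists_type hnil (invt_sub_one hWT)
  obtain ⟨ν', hν'pos, hν'⟩ := exists_type hnil (invt_sub_one hW'T)
  have hcompl := isCompl_perp hrefl hWnd
  have hμeq : μ = ν + ν' := by
    apply eq_of_mprof_eq _ _ hμpos
    · intro a ha
      rcases Multiset.mem_add.mp ha with h | h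
      · exact hνpos a h
      · exact hν'pos a h
    · intro j
      rw [← htopprof, ← hcompl.sup_eq_top, rprof_sup (invt_sub_one hWT) (invt_sub_one hW'T) hcompl.disjoint,
        hν, hν', mprof_add]
  refine ⟨ν, ?_, ?_, ?_, ?_⟩
  · rw [hμeq]
    exact Multiset.le_add_right ν ν'
  · rw [← mprof_zero_eq, ← hν, rprof_zero]
  · exact type_even_symm hS h2 hisoT W hWT hWnd ν hνpos hν
  · rw [← hTdef]
    exact hν

/-- **`Ω⁻_{2m'+2}(q)`, `q` odd: elements of order `p` fixing elliptic nondegenerate `m`-spaces,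
necessity for the types with an odd part.** -/
theorem cond_of_forall_minus (hp2 : p ≠ 2) {m' m : ℕ} (hm' : 2 ≤ m') (hm1 : 1 ≤ m)
    (hmd : m ≤ 2 * m' + 2) (a b : F)
    (hab : ∀ x y : F, x ^ 2 + a * x * y + b * y ^ 2 = 0 → x = 0 ∧ y = 0)
    (hall : ∀ x : GL ((Fin m' ⊕ Fin m') ⊕ Fin 2) F,
      x ∈ Cfsg.Geo.omegaGL (Cfsg.quadFormMinus m' F a b) →
      (∃ z : F, ((x ^ p : GL ((Fin m' ⊕ Fin m') ⊕ Fin 2) F) :
        Matrix ((Fin m' ⊕ Fin m') ⊕ Fin 2) ((Fin m' ⊕ Fin m') ⊕ Fin 2) F) =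
        z • (1 : Matrix ((Fin m' ⊕ Fin m') ⊕ Fin 2) ((Fin m' ⊕ Fin m') ⊕ Fin 2) F)) →
      (∀ z : F, (x : Matrix ((Fin m' ⊕ Fin m') ⊕ Fin 2) ((Fin m' ⊕ Fin m') ⊕ Fin 2) F) ≠
        z • (1 : Matrix ((Fin m' ⊕ Fin m') ⊕ Fin 2) ((Fin m' ⊕ Fin m') ⊕ Fin 2) F)) →
      ∃ W : Submodule F ((Fin m' ⊕ Fin m') ⊕ Fin 2 → F), (Module.finrank F ↥W = m ∧
        Cfsg.Geo.IsNondegenerateOn (QuadraticMap.polar (Cfsg.quadFormMinus m' F a b)) W ∧
        ¬ Cfsg.Geo.IsPlusTypeOn (Cfsg.quadFormMinus m' F a b) W) ∧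
        W.map (Matrix.toLin' (x : Matrix ((Fin m' ⊕ Fin m') ⊕ Fin 2) ((Fin m' ⊕ Fin m') ⊕ Fin 2) F)) ≤ W)
    (μ : Multiset ℕ) (hμ : ∀ c ∈ μ, 0 < c ∧ c ≤ p) (hμpar : ∀ c : ℕ, Even c → Even (μ.count c))
    (hμsum : μ.sum = 2 * m' + 2) (hodd : ∃ c ∈ μ, Odd c) :
    ∃ ν : Multiset ℕ, ν ≤ μ ∧ ν.sum = m ∧ (∀ c : ℕ, Even c → Even (ν.count c)) ∧
      ∀ j, ν ≠ Multiset.replicate j 2 := by
  classical
  have hp : p.Prime := Fact.out
  have h2 : (2 : F) ≠ 0 := by
    intro h
    have h1 : ((2 : ℕ) : F) = 0 := by rw [Nat.cast_ofNat]; exact h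
    rw [CharP.cast_eq_zero_iff F p 2] at h1
    exact hp2 ((Nat.prime_dvd_prime_iff_eq hp Nat.prime_two).mp h1)
  have hμpos : ∀ c ∈ μ, 1 ≤ c := fun c hc => (hμ c hc).1
  by_cases hones : ∀ c ∈ μ, c = 1
  · have hμeq : μ = Multiset.replicate (2 * m' + 2) 1 := by
      have h1 := Multiset.eq_replicate_card.mpr hones
      have h3 : Multiset.card μ = 2 * m' + 2 := by
        rw [← hμsum]
        conv_rhs => rw [h1]
        rw [Multiset.sum_replicate, smul_eq_mul, mul_one]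
      rw [h3] at h1
      exact h1
    refine ⟨Multiset.replicate m 1, ?_, ?_, ?_, ?_⟩
    · rw [hμeq, Multiset.replicate_le_replicate]
      exact hmd
    · rw [Multiset.sum_replicate, smul_eq_mul, mul_one]
    · intro c hc
      rw [Multiset.count_replicate]
      split_ifs with h
      · rw [← h] at hc
        exact absurd hc (by decide)
      · exact Even.zero
    · intro j hj
      have h1 : (1 : ℕ) ∈ Multiset.replicate m 1 := by
        rw [Multiset.mem_replicate]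
        exact ⟨by omega, rfl⟩
      rw [hj] at h1
      have := Multiset.eq_of_mem_replicate h1
      omega
  push Not at hones
  obtain ⟨a₀, ha₀, ha₀1⟩ := hones
  have ha₀2 : 2 ≤ a₀ := by have := hμpos a₀ ha₀; omega
  obtain ⟨c, hc, hco⟩ := hodd
  have hreal : RReal F μ a b :=
    rReal_of_valid h2 μ hμpar (by rw [hμsum]; exact ⟨m' + 1, by ring⟩) hc hco a b
      (disc_ne_zero' h2 hab)
  obtain ⟨x, hxΩ, hxp, hprof⟩ := exists_omega_elt_minus p hp2 hm' a b hab μ
    (fun c hc => (hμ c hc).2) hμsum hreal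
  have hxpm : (x : Matrix ((Fin m' ⊕ Fin m') ⊕ Fin 2) ((Fin m' ⊕ Fin m') ⊕ Fin 2) F) ^ p = 1 := by
    rw [← Units.val_pow_eq_pow_val, hxp]
    rfl
  have h1ne : mprof μ 1 ≠ 0 := by
    intro h
    have := (mprof_eq_zero_iff μ 1).mp h a₀ ha₀
    omega
  have hns : ∀ z : F, (x : Matrix ((Fin m' ⊕ Fin m') ⊕ Fin 2) ((Fin m' ⊕ Fin m') ⊕ Fin 2) F) ≠ z • 1 := by
    intro z hz
    have h3 : ((z - 1) ^ p) • (1 : Matrix ((Fin m' ⊕ Fin m') ⊕ Fin 2) ((Fin m' ⊕ Fin m') ⊕ Fin 2) F) = 0 := by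
      have h4 : (x : Matrix ((Fin m' ⊕ Fin m') ⊕ Fin 2) ((Fin m' ⊕ Fin m') ⊕ Fin 2) F) - 1 = (z - 1) • 1 := by
        rw [hz, sub_smul, one_smul]
      have h5 := Cfsg.Agent.Helper8.SpU.sub_one_pow_char p
        (x : Matrix ((Fin m' ⊕ Fin m') ⊕ Fin 2) ((Fin m' ⊕ Fin m') ⊕ Fin 2) F)
      rw [hxpm, sub_self, h4, _root_.smul_pow, one_pow] at h5
      exact h5
    have h6 := congrFun (congrFun h3 (Sum.inr 0)) (Sum.inr 0)
    rw [Matrix.smul_apply, Matrix.one_apply_eq, smul_eq_mul, mul_one, Matrix.zero_apply] at h6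
    have hz1 : z = 1 := by
      have := pow_eq_zero_iff (hp.ne_zero) |>.mp h6
      exact sub_eq_zero.mp this
    apply h1ne
    rw [← hprof 1, pow_one, hz, hz1, one_smul, sub_self, Matrix.rank_zero]
  obtain ⟨W, ⟨hWd, hWnd', hWminus⟩, hWinv⟩ := hall x hxΩ ⟨1, by rw [hxp, one_smul]; rfl⟩ hns
  -- the bilinear form
  obtain ⟨B, hB⟩ : ∃ B : LinearMap.BilinForm F ((Fin m' ⊕ Fin m') ⊕ Fin 2 → F),
      B = QuadraticMap.polarBilin (minusForm F m' a b) := ⟨_, rfl⟩
  have hfun : (⇑(minusForm F m' a b) : ((Fin m' ⊕ Fin m') ⊕ Fin 2 → F) → F) =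
      Cfsg.quadFormMinus m' F a b := by
    funext v
    exact minusForm_apply F m' a b v
  have hBapp : ∀ u v, B u v = QuadraticMap.polar (Cfsg.quadFormMinus m' F a b) u v := by
    intro u v
    rw [hB, QuadraticMap.polarBilin_apply_apply, hfun]
  have hS : B.IsSymm := by
    constructor
    intro u v
    rw [hB]
    simp only [QuadraticMap.polarBilin_apply_apply]
    exact QuadraticMap.polar_comm _ u v
  have hxiso : x ∈ Cfsg.isometryGroup F (Cfsg.quadFormMinus m' F a b) := by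
    obtain ⟨y, -, rfl⟩ := hxΩ
    exact y.2
  have hxQ := (Cfsg.Agent.Helper8.AutImageOrth.mem_isometryGroup_iff' _ x).mp hxiso
  have hiso : ∀ u v, B ((x : Matrix ((Fin m' ⊕ Fin m') ⊕ Fin 2) ((Fin m' ⊕ Fin m') ⊕ Fin 2) F) *ᵥ u)
      ((x : Matrix ((Fin m' ⊕ Fin m') ⊕ Fin 2) ((Fin m' ⊕ Fin m') ⊕ Fin 2) F) *ᵥ v) = B u v := by
    intro u v
    rw [hBapp, hBapp]
    unfold QuadraticMap.polar
    rw [← Matrix.mulVec_add, hxQ, hxQ, hxQ]
  have hWnd : ND B W := by
    intro u hu hne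
    obtain ⟨-, v, hv, hv'⟩ := hWnd' u hu hne
    exact ⟨v, hv, by rw [hBapp]; exact hv'⟩
  obtain ⟨ν, hνle, hνsum, hνpar, hνprof⟩ :=
    exists_sub_type' hp2 hS _ hxpm hiso μ hμpos hprof W hWnd hWinv
  refine ⟨ν, hνle, by rw [hνsum, hWd], hνpar, ?_⟩
  intro j hj
  apply hWminus
  rw [← hfun]
  have hWT : W ∈ Module.End.invtSubmodule
      (Matrix.toLin' (x : Matrix ((Fin m' ⊕ Fin m') ⊕ Fin 2) ((Fin m' ⊕ Fin m') ⊕ Fin 2) F)) := by
    rw [Module.End.mem_invtSubmodule, ← Submodule.map_le_iff_le_comap]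
    exact hWinv
  refine plusType_of_twos h2 (minusForm F m' a b) _ ?_ W hWT j ?_
  · intro v
    rw [Matrix.toLin'_apply, minusForm_apply, minusForm_apply]
    exact hxQ v
  · intro i
    rw [hνprof, hj]

end Cfsg.Agent.Helper7.OrUn
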