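import Mathlib
import Cfsg.Agent.Helper7.QTyE

set_option autoImplicit false
set_option linter.unusedSectionVars false
set_option linter.unusedVariables false

/-!
# The number of plus type subspaces of a quadratic space of odd dimension
-/

namespace Cfsg.Agent.Helper7.QTy

open Module Cfsg.Agent.Helper7.POrd Cfsg.Agent.Helper7.SpOrd Cfsg.Agent.Helper7.SpTI
  Cfsg.Agent.Helper7.OrTS Cfsg.Agent.Helper8.QuadForm Cfsg.Agent.Helper8.OrthOrder Cfsg.Agent.Helper7.SpUn

universe u

variable {F : Type*} [Field F] {V : Type u} [AddCommGroup V] [Module F V]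

/-- nondegenerate plus type subspaces of dimension `m`. -/
abbrev HypSub (Q : QuadraticForm F V) (m : ℕ) : Type _ :=
  {W : Submodule F V // finrank F ↥W = m ∧ ND (QuadraticMap.polarBilin Q) W ∧ Hyp Q W}

/-- the span of a frame, as a plus type subspace. -/
noncomputable def fspanOf [FiniteDimensional F V] (Q : QuadraticForm F V) (h : ℕ) (s : QFr Q ⊤ h) :
    HypSub Q (2 * h) :=
  ⟨hspan F s.1, (fspan_props s.2.1).2.1, (fspan_props s.2.1).1, (fspan_props s.2.1).2.2⟩

/-- the fibre of the span map over `W` is the set of frames of `W`. -/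
noncomputable def qfrFibreEquiv [FiniteDimensional F V] (Q : QuadraticForm F V) (h : ℕ)
    (W : HypSub Q (2 * h)) : {s : QFr Q ⊤ h // fspanOf Q h s = W} ≃ QFr Q W.1 h where
  toFun s := ⟨s.1.1, s.1.2.1, fun a => by
      have h1 : (fspanOf Q h s.1).1 = W.1 := by rw [s.2]
      rw [← h1]
      exact Submodule.subset_span ⟨Sum.inl a, rfl⟩, fun a => by
      have h1 : (fspanOf Q h s.1).1 = W.1 := by rw [s.2]
      rw [← h1]
      exact Submodule.subset_span ⟨Sum.inr a, rfl⟩⟩
  invFun t := ⟨⟨t.1, t.2.1, fun _ => Submodule.mem_top, fun _ => Submodule.mem_top⟩, by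
    apply Subtype.ext
    apply Submodule.eq_of_le_of_finrank_eq (hspan_le t.2.2.1 t.2.2.2)
    rw [W.2.1]
    exact (fspan_props t.2.1).2.1⟩
  left_inv s := by
    apply Subtype.ext
    apply Subtype.ext
    rfl
  right_inv t := by
    apply Subtype.ext
    rfl

/-- the number of singular vectors of a plus type space of dimension `2m`. -/
def nuP (q m : ℕ) : ℕ := q ^ m * (q ^ m + (q - 1)) / q

theorem card_singular_hyp' [Fintype F] [FiniteDimensional F V] {Q : QuadraticForm F V}
    (hV : ND (QuadraticMap.polarBilin Q) ⊤) {m : ℕ} {W : Submodule F V}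
    (hW : ND (QuadraticMap.polarBilin Q) W) (hd : finrank F ↥W = 2 * m) (hy : Hyp Q W) :
    Nat.card {w : ↥W // Q (w : V) = 0} = nuP (Fintype.card F) m := by
  have h1 := card_singular_hyp hV m W hW hd hy
  unfold nuP
  rw [← h1, Nat.mul_div_cancel _ Fintype.card_pos]

section count

variable [Fintype F] [Finite V]

/-- frames of a plus type space. -/
theorem card_qfr_hyp {Q : QuadraticForm F V} (hV : ND (QuadraticMap.polarBilin Q) ⊤) {h : ℕ}
    {W : Submodule F V} (hW : ND (QuadraticMap.polarBilin Q) W) (hd : finrank F ↥W = 2 * h) (hy : Hyp Q W) :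
    Nat.card (QFr Q W h) * Fintype.card F ^ h =
      ∏ j : Fin h, ((nuP (Fintype.card F) (h - (j : ℕ)) - 1) * Fintype.card F ^ (2 * h - 2 * (j : ℕ) - 1)) := by
  have hfd : FiniteDimensional F V := Module.Finite.of_finite
  have := card_qfr hW (fun j => nuP (Fintype.card F) (h - j)) h (by
    intro j hj s
    obtain ⟨h1, h2, h3, h4, h5, h6⟩ := qfr_span_props hW s
    have hy' : Hyp Q (LinearMap.BilinForm.orthogonal (QuadraticMap.polarBilin Q) (hspan F s.1) ⊓ W) := by
      apply hyp_cancel hV _ (hspan F s.1) _ rfl h2 h5 inf_le_left h4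
      rw [sup_perp_inf (pB_refl Q) h2 h1]
      exact hy
    exact card_singular_hyp' hV h5 (by rw [h6, hd]; omega) hy')
  rw [hd] at this
  exact this

/-- frames of a space of odd dimension. -/
theorem card_qfr_odd (h2 : (2 : F) ≠ 0) {Q : QuadraticForm F V} (hV : ND (QuadraticMap.polarBilin Q) ⊤) {d : ℕ}
    (hn : finrank F V = 2 * d + 1) (h : ℕ) :
    Nat.card (QFr Q ⊤ h) * Fintype.card F ^ h =
      ∏ j : Fin h, ((Fintype.card F ^ (2 * (d - (j : ℕ))) - 1) * Fintype.card F ^ (2 * d + 1 - 2 * (j : ℕ) - 1)) := by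
  have hfd : FiniteDimensional F V := Module.Finite.of_finite
  have := card_qfr hV (fun j => Fintype.card F ^ (2 * (d - j))) h (by
    intro j hj s
    obtain ⟨h1, h2', h3, h4, h5, h6⟩ := qfr_span_props hV s
    rw [finrank_top, hn] at h6
    have hjd : j ≤ d := by
      have := Submodule.finrank_le (hspan F s.1)
      rw [h3, hn] at this
      omega
    exact card_singular_odd h2 (d - j) (Q.comp (Submodule.subtype _))
      ((nondeg_iff _).mpr (nondeg_comp_of_nd h5)) (by rw [h6]; omega))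
  rw [finrank_top, hn] at this
  exact this

/-- **the number of plus type `2h`-spaces of a space of odd dimension**, in product form. -/
theorem card_hypSub_mul (h2 : (2 : F) ≠ 0) {Q : QuadraticForm F V} (hV : ND (QuadraticMap.polarBilin Q) ⊤) {d : ℕ}
    (hn : finrank F V = 2 * d + 1) (h : ℕ) :
    Nat.card (HypSub Q (2 * h)) *
        ∏ j : Fin h, ((nuP (Fintype.card F) (h - (j : ℕ)) - 1) * Fintype.card F ^ (2 * h - 2 * (j : ℕ) - 1)) =
      ∏ j : Fin h, ((Fintype.card F ^ (2 * (d - (j : ℕ))) - 1) * Fintype.card F ^ (2 * d + 1 - 2 * (j : ℕ) - 1)) := by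
  classical
  have hfd : FiniteDimensional F V := Module.Finite.of_finite
  letI : Fintype (HypSub Q (2 * h)) := Fintype.ofFinite _
  have h0 := card_qfr_odd h2 hV hn h
  rw [Nat.card_congr (Equiv.sigmaFiberEquiv (fspanOf Q h)).symm, Nat.card_sigma, Finset.sum_mul] at h0
  have hf : ∀ W : HypSub Q (2 * h), Nat.card {s : QFr Q ⊤ h // fspanOf Q h s = W} * Fintype.card F ^ h =
      ∏ j : Fin h, ((nuP (Fintype.card F) (h - (j : ℕ)) - 1) * Fintype.card F ^ (2 * h - 2 * (j : ℕ) - 1)) := by
    intro W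
    rw [Nat.card_congr (qfrFibreEquiv Q h W), card_qfr_hyp hV W.2.2.1 W.2.1 W.2.2.2]
  rw [Finset.sum_congr rfl (fun P _ => hf P), Finset.sum_const, Finset.card_univ, smul_eq_mul,
    ← Nat.card_eq_fintype_card] at h0
  exact h0

/-- a prime other than the characteristic dividing the number of plus type `2h`-spaces divides some
`q^(2d - 2j) - 1`, `j < h`. -/
theorem exists_dvd_of_dvd_card_hypSub {p : ℕ} [Fact p.Prime] [CharP F p] (h2 : (2 : F) ≠ 0)
    {Q : QuadraticForm F V} (hV : ND (QuadraticMap.polarBilin Q) ⊤) {d : ℕ} (hn : finrank F V = 2 * d + 1)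
    (h : ℕ) {r : ℕ} (hr : r.Prime) (hrp : r ≠ p) (hdvd : r ∣ Nat.card (HypSub Q (2 * h))) :
    ∃ j < h, r ∣ Fintype.card F ^ (2 * (d - j)) - 1 := by
  have hp : p.Prime := Fact.out
  have h1 : r ∣ ∏ j : Fin h, ((Fintype.card F ^ (2 * (d - (j : ℕ))) - 1) *
      Fintype.card F ^ (2 * d + 1 - 2 * (j : ℕ) - 1)) := by
    rw [← card_hypSub_mul h2 hV hn h]
    exact Dvd.dvd.mul_right hdvd _
  rw [hr.prime.dvd_finsetProd_iff] at h1
  obtain ⟨j, -, hj⟩ := h1
  rcases (Nat.Prime.dvd_mul hr).mp hj with h3 | h3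
  · exact ⟨j, j.2, h3⟩
  · exfalso
    have h4 : r ∣ Fintype.card F := hr.dvd_of_dvd_pow h3
    obtain ⟨n, -, hn'⟩ := FiniteField.card F p
    rw [hn'] at h4
    exact hrp ((Nat.prime_dvd_prime_iff_eq hr hp).mp (hr.dvd_of_dvd_pow h4))

end count

end Cfsg.Agent.Helper7.QTy
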