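import Mathlib
import Cfsg.Agent.Helper7.QTyF

set_option autoImplicit false
set_option linter.unusedSectionVars false
set_option linter.unusedVariables false

/-!
# Isometries of odd prime order of a quadratic space (odd characteristic): the types of the invariant
nondegenerate subspaces without fixed vectors
-/

namespace Cfsg.Agent.Helper7.QTy

open Module Cfsg.Agent.Helper7.POrd Cfsg.Agent.Helper7.SpOrd Cfsg.Agent.Helper7.SpTI
  Cfsg.Agent.Helper7.OrTS Cfsg.Agent.Helper8.QuadForm

universe u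

variable {F : Type*} [Field F] {V : Type u} [AddCommGroup V] [Module F V]

theorem pB_symm' (Q : QuadraticForm F V) : LinearMap.BilinForm.IsSymm (QuadraticMap.polarBilin Q) := by
  constructor
  intro u v
  exact QuadraticMap.polar_comm Q u v

theorem iso_of_Q {Q : QuadraticForm F V} {T : Module.End F V} (hQT : ∀ v, Q (T v) = Q v) (u v : V) :
    QuadraticMap.polarBilin Q (T u) (T v) = QuadraticMap.polarBilin Q u v := by
  rw [pB_apply, pB_apply]
  unfold QuadraticMap.polar
  rw [← map_add, hQT, hQT, hQT]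

variable [Fintype F] [Finite V] {p : ℕ} [Fact p.Prime] [CharP F p] {r : ℕ} [Fact r.Prime]

/-- the complement of an invariant nondegenerate subspace. -/
theorem perp_inf_props_s {Q : QuadraticForm F V} {T : Module.End F V} (hQT : ∀ v, Q (T v) = Q v)
    (hT : T ^ r = 1) {U W : Submodule F V}
    (hU : U ∈ Module.End.invtSubmodule T) (hUnd : ND (QuadraticMap.polarBilin Q) U) (hUW : U ≤ W)
    (hW : W ∈ Module.End.invtSubmodule T) (hND : ND (QuadraticMap.polarBilin Q) W)
    (hfix : W ⊓ fixS T = ⊥) :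
    LinearMap.BilinForm.orthogonal (QuadraticMap.polarBilin Q) U ⊓ W ∈ Module.End.invtSubmodule T ∧
      ND (QuadraticMap.polarBilin Q) (LinearMap.BilinForm.orthogonal (QuadraticMap.polarBilin Q) U ⊓ W) ∧
      finrank F ↥U + finrank F ↥(LinearMap.BilinForm.orthogonal (QuadraticMap.polarBilin Q) U ⊓ W) =
        finrank F ↥W ∧
      (LinearMap.BilinForm.orthogonal (QuadraticMap.polarBilin Q) U ⊓ W) ⊓ fixS T = ⊥ ∧
      U ⊔ (LinearMap.BilinForm.orthogonal (QuadraticMap.polarBilin Q) U ⊓ W) = W := by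
  have hfd : FiniteDimensional F V := Module.Finite.of_finite
  have hr : 0 < r := (Fact.out : r.Prime).pos
  refine ⟨inf_invt (perp_invt (iso_of_Q hQT) hr hT hU) hW, nd_perp_inf (pB_refl Q) hUnd hND hUW,
    finrank_perp_inf (pB_refl Q) hUnd hUW, ?_, sup_perp_inf (pB_refl Q) hUnd hUW⟩
  rw [eq_bot_iff, ← hfix]
  exact inf_le_inf_right _ inf_le_right

/-- **blocks, `i` odd**: nondegenerate invariant subspaces of plus type of every dimension `2 i s`. -/
theorem exists_hyp_blocks_odd (h2 : (2 : F) ≠ 0) (hr2 : r ≠ 2) (hrp : r ≠ p) {Q : QuadraticForm F V}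
    {T : Module.End F V} (hQT : ∀ v, Q (T v) = Q v) (hT : T ^ r = 1)
    (hodd : Odd (orderOf ((Fintype.card F : ℕ) : ZMod r))) :
    ∀ (s : ℕ) (W : Submodule F V), W ∈ Module.End.invtSubmodule T → ND (QuadraticMap.polarBilin Q) W →
      W ⊓ fixS T = ⊥ → 2 * orderOf ((Fintype.card F : ℕ) : ZMod r) * s ≤ finrank F ↥W →
      ∃ U : Submodule F V, U ≤ W ∧ U ∈ Module.End.invtSubmodule T ∧ ND (QuadraticMap.polarBilin Q) U ∧
        finrank F ↥U = 2 * orderOf ((Fintype.card F : ℕ) : ZMod r) * s ∧ Hyp Q U := by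
  have hfd : FiniteDimensional F V := Module.Finite.of_finite
  have hipos := orderOf_q_pos (F := F) hrp
  intro s
  induction s with
  | zero =>
    intro W hW hND hfix _
    exact ⟨⊥, bot_le, Module.End.invtSubmodule.bot_mem T, nd_bot _, by simp, hyp_bot Q⟩
  | succ s ih =>
    intro W hW hND hfix hle
    have hne : W ≠ ⊥ := by
      intro h
      rw [h, finrank_bot] at hle
      have : 0 < 2 * orderOf ((Fintype.card F : ℕ) : ZMod r) * (s + 1) := Nat.mul_pos (by omega) (by omega)
      omega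
    obtain ⟨H, M, hHW, hH, hHnd, hHd, hMH, hM, hMti, hMd⟩ :=
      exists_nd_pair_odd_s hr2 hrp (pB_symm' Q) (iso_of_Q hQT) hT hodd hW hND hfix hne
    have hHy : Hyp Q H := ⟨M, hMH, ti_ts h2 hMti, by rw [hMd, hHd]⟩
    obtain ⟨h1, h2', h3, h4, -⟩ := perp_inf_props_s hQT hT hH hHnd hHW hW hND hfix
    obtain ⟨U', hU'le, hU', hU'nd, hU'd, hU'y⟩ := ih _ h1 h2' h4 (by rw [mul_add, mul_one] at hle; omega)
    have hU'perp : U' ≤ LinearMap.BilinForm.orthogonal (QuadraticMap.polarBilin Q) H := hU'le.trans inf_le_left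
    refine ⟨H ⊔ U', sup_le hHW (hU'le.trans inf_le_right), sup_invt hH hU',
      nd_sup (pB_refl Q) hHnd hU'nd hU'perp, ?_, hyp_sup hHnd hU'perp hHy hU'y⟩
    rw [finrank_sup_of_le_perp (pB_refl Q) hHnd hU'perp, hHd, hU'd]
    ring

/-- **blocks, `i` even**: nondegenerate invariant subspaces of every dimension `i s`. -/
theorem exists_nd_blocks_even (h2 : (2 : F) ≠ 0) (hrp : r ≠ p) {Q : QuadraticForm F V}
    {T : Module.End F V} (hQT : ∀ v, Q (T v) = Q v) (hT : T ^ r = 1)
    (hev : Even (orderOf ((Fintype.card F : ℕ) : ZMod r))) :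
    ∀ (s : ℕ) (W : Submodule F V), W ∈ Module.End.invtSubmodule T → ND (QuadraticMap.polarBilin Q) W →
      W ⊓ fixS T = ⊥ → orderOf ((Fintype.card F : ℕ) : ZMod r) * s ≤ finrank F ↥W →
      ∃ U : Submodule F V, U ≤ W ∧ U ∈ Module.End.invtSubmodule T ∧ ND (QuadraticMap.polarBilin Q) U ∧
        finrank F ↥U = orderOf ((Fintype.card F : ℕ) : ZMod r) * s := by
  have hfd : FiniteDimensional F V := Module.Finite.of_finite
  have hipos := orderOf_q_pos (F := F) hrp
  intro s
  induction s with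
  | zero =>
    intro W hW hND hfix _
    exact ⟨⊥, bot_le, Module.End.invtSubmodule.bot_mem T, nd_bot _, by simp⟩
  | succ s ih =>
    intro W hW hND hfix hle
    have hne : W ≠ ⊥ := by
      intro h
      rw [h, finrank_bot] at hle
      have : 0 < orderOf ((Fintype.card F : ℕ) : ZMod r) * (s + 1) := Nat.mul_pos (by omega) (by omega)
      omega
    obtain ⟨M, hMW, hM, hMnd, hMd⟩ :=
      exists_nd_irred_even_s h2 hrp (pB_symm' Q) (iso_of_Q hQT) hT hev hW hND hfix hne
    obtain ⟨h1, h2', h3, h4, -⟩ := perp_inf_props_s hQT hT hM hMnd hMW hW hND hfix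
    obtain ⟨U', hU'le, hU', hU'nd, hU'd⟩ := ih _ h1 h2' h4 (by rw [mul_add, mul_one] at hle; omega)
    have hU'perp : U' ≤ LinearMap.BilinForm.orthogonal (QuadraticMap.polarBilin Q) M := hU'le.trans inf_le_left
    refine ⟨M ⊔ U', sup_le hMW (hU'le.trans inf_le_right), sup_invt hM hU',
      nd_sup (pB_refl Q) hMnd hU'nd hU'perp, ?_⟩
    rw [finrank_sup_of_le_perp (pB_refl Q) hMnd hU'perp, hMd, hU'd]
    ring

/-- **the type of a sum of blocks, `i` even**: plus type exactly when the number of blocks is even. -/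
theorem hyp_iff_even_blocks (h2 : (2 : F) ≠ 0) (hr2 : r ≠ 2) (hrp : r ≠ p) {Q : QuadraticForm F V}
    (hV : ND (QuadraticMap.polarBilin Q) ⊤) {T : Module.End F V} (hQT : ∀ v, Q (T v) = Q v) (hT : T ^ r = 1)
    (hev : Even (orderOf ((Fintype.card F : ℕ) : ZMod r))) :
    ∀ (s : ℕ) (U : Submodule F V), U ∈ Module.End.invtSubmodule T → ND (QuadraticMap.polarBilin Q) U →
      U ⊓ fixS T = ⊥ → finrank F ↥U = orderOf ((Fintype.card F : ℕ) : ZMod r) * s → (Hyp Q U ↔ Even s) := by
  have hfd : FiniteDimensional F V := Module.Finite.of_finite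
  have hipos := orderOf_q_pos (F := F) hrp
  intro s
  induction s with
  | zero =>
    intro U hU hND hfix hd
    have : U = ⊥ := by
      rw [← Submodule.finrank_eq_zero (R := F)]
      rw [hd, mul_zero]
    rw [this]
    exact ⟨fun _ => Even.zero, fun _ => hyp_bot Q⟩
  | succ s ih =>
    intro U hU hND hfix hd
    have hne : U ≠ ⊥ := by
      intro h
      rw [h, finrank_bot] at hd
      have : 0 < orderOf ((Fintype.card F : ℕ) : ZMod r) * (s + 1) := Nat.mul_pos (by omega) (by omega)
      omega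
    obtain ⟨M, hMU, hM, hMnd, hMd⟩ :=
      exists_nd_irred_even_s h2 hrp (pB_symm' Q) (iso_of_Q hQT) hT hev hU hND hfix hne
    have hMfix : M ⊓ fixS T = ⊥ := by
      rw [eq_bot_iff, ← hfix]
      exact inf_le_inf_right _ hMU
    have hMnot : ¬ Hyp Q M := not_hyp_of_irred hr2 hrp hV hQT hT hM hMnd hMfix hev hMd
    obtain ⟨h1, h2', h3, h4, h5⟩ := perp_inf_props_s hQT hT hM hMnd hMU hU hND hfix
    obtain ⟨U', hU'def⟩ : ∃ U', U' = LinearMap.BilinForm.orthogonal (QuadraticMap.polarBilin Q) M ⊓ U :=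
      ⟨_, rfl⟩
    rw [← hU'def] at h1 h2' h3 h4 h5
    have hU'd : finrank F ↥U' = orderOf ((Fintype.card F : ℕ) : ZMod r) * s := by
      rw [mul_add, mul_one] at hd
      omega
    have hIH := ih U' h1 h2' h4 hU'd
    have hU'perp : U' ≤ LinearMap.BilinForm.orthogonal (QuadraticMap.polarBilin Q) M := by
      rw [hU'def]; exact inf_le_left
    have hMperp : M ≤ LinearMap.BilinForm.orthogonal (QuadraticMap.polarBilin Q) U' := by
      intro x hx
      rw [mem_perp]
      intro y hy
      exact (pB_refl Q) _ _ (mem_perp.mp (hU'perp hy) x hx)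
    have hsup' : U' ⊔ M = U := by rw [sup_comm]; exact h5
    rw [Nat.even_add_one]
    constructor
    · intro hy hs
      have hU'y := hIH.mpr hs
      apply hMnot
      rw [← hsup'] at hy
      exact hyp_cancel hV _ U' M rfl h2' hMnd hMperp hU'y hy
    · intro hs
      have hU'n : ¬ Hyp Q U' := fun h => hs (hIH.mp h)
      have hev1 : Even (finrank F ↥M) := by rw [hMd]; exact hev
      have hev2 : Even (finrank F ↥U') := by rw [hU'd]; exact hev.mul_right s
      have := hyp_sup_of_not_hyp_odd h2 hV hMnd h2' hU'perp hev1 hev2 hMnot hU'n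
      rwa [h5] at this

end Cfsg.Agent.Helper7.QTy
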