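import Mathlib
import Cfsg.Agent.Helper7.QTyG

set_option autoImplicit false
set_option linter.unusedSectionVars false
set_option linter.unusedVariables false

/-!
# Invariant plus type subspaces of an isometry of odd prime order (odd dimension, odd characteristic)
-/

namespace Cfsg.Agent.Helper7.QTy

open Module Cfsg.Agent.Helper7.POrd Cfsg.Agent.Helper7.SpOrd Cfsg.Agent.Helper7.SpTI
  Cfsg.Agent.Helper7.OrTS Cfsg.Agent.Helper8.QuadForm

universe u

variable {F : Type*} [Field F] {V : Type u} [AddCommGroup V] [Module F V]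

variable [Fintype F] [Finite V] {p : ℕ} [Fact p.Prime] [CharP F p] {r : ℕ} [Fact r.Prime]

/-- a subspace of the fixed space whose sum with a given subspace of the moved space is of plus type. -/
theorem exists_fix_compl (h2 : (2 : F) ≠ 0) (hrp : r ≠ p) {Q : QuadraticForm F V}
    (hV : ND (QuadraticMap.polarBilin Q) ⊤) {T : Module.End F V} (hQT : ∀ v, Q (T v) = Q v) (hT : T ^ r = 1)
    {U : Submodule F V} (hU : U ∈ Module.End.invtSubmodule T) (hUnd : ND (QuadraticMap.polarBilin Q) U)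
    (hUM : U ≤ movS r T) (hUe : Even (finrank F ↥U)) {g : ℕ} (hg0 : 0 < g) (hge : Even g)
    (hg : g < finrank F ↥(fixS T)) :
    ∃ W : Submodule F V, W ∈ Module.End.invtSubmodule T ∧ ND (QuadraticMap.polarBilin Q) W ∧
      finrank F ↥W = finrank F ↥U + g ∧ Hyp Q W := by
  have hfd : FiniteDimensional F V := Module.Finite.of_finite
  have hrF : (r : F) ≠ 0 := natCast_ne_zero_of_ne hrp
  have hrefl := pB_refl Q
  have hiso := iso_of_Q hQT
  have hfxnd : ND (QuadraticMap.polarBilin Q) (fixS T) := by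
    have := nd_inf_fix hrefl hiso hrF hT (Module.End.invtSubmodule.top_mem T) hV
    rwa [top_inf_eq] at this
  have hperp : ∀ W₂ : Submodule F V, W₂ ≤ fixS T →
      W₂ ≤ LinearMap.BilinForm.orthogonal (QuadraticMap.polarBilin Q) U := by
    intro W₂ hW₂ v hv
    rw [mem_perp]
    intro w hw
    exact hrefl _ _ (fix_perp_mov hiso hrF (hW₂ hv) (hUM hw))
  obtain ⟨h, hh⟩ := hge
  by_cases hUy : Hyp Q U
  · obtain ⟨W₂, hW₂fx, hW₂nd, hW₂d, hW₂y⟩ := exists_hyp_sub hV hfxnd (h := h) (by omega)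
    refine ⟨U ⊔ W₂, sup_invt hU (invt_of_le_fixS hW₂fx), nd_sup hrefl hUnd hW₂nd (hperp W₂ hW₂fx), ?_,
      hyp_sup hUnd (hperp W₂ hW₂fx) hUy hW₂y⟩
    rw [finrank_sup_of_le_perp hrefl hUnd (hperp W₂ hW₂fx), hW₂d]
    omega
  · obtain ⟨W₂, hW₂fx, hW₂nd, hW₂d, hW₂y⟩ := exists_not_hyp_sub_odd h2 hV hfxnd (h := h - 1) (by omega)
    refine ⟨U ⊔ W₂, sup_invt hU (invt_of_le_fixS hW₂fx), nd_sup hrefl hUnd hW₂nd (hperp W₂ hW₂fx), ?_,
      hyp_sup_of_not_hyp_odd h2 hV hUnd hW₂nd (hperp W₂ hW₂fx) hUe (by rw [hW₂d]; exact ⟨h, by omega⟩)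
        hUy hW₂y⟩
    rw [finrank_sup_of_le_perp hrefl hUnd (hperp W₂ hW₂fx), hW₂d]
    omega

/-- **existence of invariant plus type subspaces**, `r` odd. -/
theorem exists_hyp_invt_odd_aux (h2 : (2 : F) ≠ 0) (hr2 : r ≠ 2) (hrp : r ≠ p) {Q : QuadraticForm F V}
    (hV : ND (QuadraticMap.polarBilin Q) ⊤) {T : Module.End F V} (hQT : ∀ v, Q (T v) = Q v) (hT : T ^ r = 1)
    {d m : ℕ} (hn : finrank F V = 2 * d + 1) (hme : Even m) (hm : m ≤ 2 * d)
    (h1 : m % cOf (orderOf ((Fintype.card F : ℕ) : ZMod r)) <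
      (2 * d + 1) % cOf (orderOf ((Fintype.card F : ℕ) : ZMod r)))
    (h2' : 0 < m % cOf (orderOf ((Fintype.card F : ℕ) : ZMod r)) ∨
      Odd (orderOf ((Fintype.card F : ℕ) : ZMod r)) ∨ Even (m / orderOf ((Fintype.card F : ℕ) : ZMod r))) :
    ∃ W : Submodule F V, W ∈ Module.End.invtSubmodule T ∧ ND (QuadraticMap.polarBilin Q) W ∧
      finrank F ↥W = m ∧ Hyp Q W := by
  have hfd : FiniteDimensional F V := Module.Finite.of_finite
  have hrF : (r : F) ≠ 0 := natCast_ne_zero_of_ne hrp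
  have hrefl := pB_refl Q
  have hiso := iso_of_Q hQT
  obtain ⟨i, hi⟩ : ∃ i, i = orderOf ((Fintype.card F : ℕ) : ZMod r) := ⟨_, rfl⟩
  rw [← hi] at h1 h2'
  have hipos : 0 < i := by rw [hi]; exact orderOf_q_pos hrp
  obtain ⟨c, hc⟩ : ∃ c, c = cOf i := ⟨_, rfl⟩
  rw [← hc] at h1 h2'
  have hcpos : 0 < c := by rw [hc]; exact cOf_pos hipos
  have hceven : Even c := by rw [hc]; exact cOf_even i
  have hMnd : ND (QuadraticMap.polarBilin Q) (movS r T) := by
    have := nd_inf_mov hrefl hiso hrF hT (Module.End.invtSubmodule.top_mem T) hV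
    rwa [top_inf_eq] at this
  have hMfix : movS r T ⊓ fixS T = ⊥ := by
    rw [inf_comm]
    exact (disjoint_fix_mov hrF T).eq_bot
  have hMinv := movS_invt r T
  have hsum := finrank_fix_add_mov hrF hT
  rw [hn] at hsum
  have hcdvd : c ∣ finrank F ↥(movS r T) := by
    rw [hc, hi]
    exact cOf_dvd_finrank_s h2 hr2 hrp (pB_symm' Q) hiso hT _ _ rfl hMinv hMnd hMfix
  obtain ⟨a, ha⟩ := hcdvd
  -- the fixed space is at least as large as the residue
  have hkfx : (2 * d + 1) % c ≤ finrank F ↥(fixS T) := by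
    have : (2 * d + 1) % c = finrank F ↥(fixS T) % c := by
      rw [← hsum, ha, Nat.add_mul_mod_self_left]
    rw [this]
    exact Nat.mod_le _ _
  obtain ⟨b, hb⟩ : ∃ b, b = min a (m / c) := ⟨_, rfl⟩
  have hba : b ≤ a := by rw [hb]; exact min_le_left _ _
  have hbm : b ≤ m / c := by rw [hb]; exact min_le_right _ _
  have hcb_le : c * b ≤ finrank F ↥(movS r T) := by rw [ha]; exact Nat.mul_le_mul_left c hba
  have hcbm : c * b ≤ m := (Nat.mul_le_mul_left c hbm).trans (Nat.mul_div_le m c)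
  -- the blocks
  have hblocks : ∃ U : Submodule F V, U ≤ movS r T ∧ U ∈ Module.End.invtSubmodule T ∧
      ND (QuadraticMap.polarBilin Q) U ∧ finrank F ↥U = c * b ∧
      ((Odd i ∨ Even b) → Hyp Q U) := by
    by_cases hev : Even i
    · have hci : c = i := by rw [hc]; unfold cOf; rw [if_pos hev]
      rw [hi] at hev
      obtain ⟨U, hUM, hU, hUnd, hUd⟩ := exists_nd_blocks_even h2 hrp hQT hT hev b _ hMinv hMnd hMfix
        (by rw [← hi, ← hci]; exact hcb_le)
      refine ⟨U, hUM, hU, hUnd, by rw [hUd, ← hi, ← hci], ?_⟩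
      rintro (ho | he)
      · rw [hi] at ho
        exact absurd hev (Nat.not_even_iff_odd.mpr ho)
      · have hUfix : U ⊓ fixS T = ⊥ := by
          rw [eq_bot_iff, ← hMfix]
          exact inf_le_inf_right _ hUM
        exact (hyp_iff_even_blocks h2 hr2 hrp hV hQT hT hev b U hU hUnd hUfix hUd).mpr he
    · have hodd : Odd i := Nat.not_even_iff_odd.mp hev
      have hci : c = 2 * i := by rw [hc]; unfold cOf; rw [if_neg hev]
      rw [hi] at hodd
      obtain ⟨U, hUM, hU, hUnd, hUd, hUy⟩ := exists_hyp_blocks_odd h2 hr2 hrp hQT hT hodd b _ hMinv hMnd hMfix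
        (by rw [← hi, ← hci]; exact hcb_le)
      exact ⟨U, hUM, hU, hUnd, by rw [hUd, ← hi, ← hci], fun _ => hUy⟩
  obtain ⟨U, hUM, hU, hUnd, hUd, hUy⟩ := hblocks
  by_cases hg : m = c * b
  · -- no fixed part
    have hbq : b = m / c := by
      rw [hg, Nat.mul_div_cancel_left _ hcpos]
    have hmod : m % c = 0 := by rw [hg]; exact Nat.mul_mod_right c b
    refine ⟨U, hU, hUnd, by rw [hUd, hg], hUy ?_⟩
    rcases h2' with h | h | h
    · omega
    · exact Or.inl h
    · by_cases hev : Even i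
      · have hci : c = i := by rw [hc]; unfold cOf; rw [if_pos hev]
        right
        rw [hbq, hci]
        exact h
      · exact Or.inl (Nat.not_even_iff_odd.mp hev)
  · have hg0 : 0 < m - c * b := by omega
    have hge : Even (m - c * b) := by
      rw [Nat.even_sub hcbm]
      exact ⟨fun _ => hceven.mul_right b, fun _ => hme⟩
    have hglt : m - c * b < finrank F ↥(fixS T) := by
      rcases Nat.lt_or_ge a (m / c) with hlt | hge'
      · have : b = a := by rw [hb]; exact min_eq_left hlt.le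
        rw [this]
        omega
      · have : b = m / c := by rw [hb]; exact min_eq_right hge'
        have hdm := Nat.div_add_mod m c
        rw [this]
        omega
    obtain ⟨W, hW, hWnd, hWd, hWy⟩ := exists_fix_compl h2 hrp hV hQT hT hU hUnd hUM
      (by rw [hUd]; exact hceven.mul_right b) hg0 hge hglt
    exact ⟨W, hW, hWnd, by rw [hWd, hUd]; omega, hWy⟩

end Cfsg.Agent.Helper7.QTy
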