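import Mathlib
import Cfsg.Agent.Helper7.QTyH
import Cfsg.Agent.Helper8.Reflections

set_option autoImplicit false
set_option linter.unusedSectionVars false
set_option linter.unusedVariables false

/-!
# Invariant plus type subspaces: necessary conditions for odd `r`; involutions
-/

namespace Cfsg.Agent.Helper7.QTy

open Module Cfsg.Agent.Helper7.POrd Cfsg.Agent.Helper7.SpOrd Cfsg.Agent.Helper7.SpTI
  Cfsg.Agent.Helper7.OrTS Cfsg.Agent.Helper8.QuadForm Cfsg.Agent.Helper8.Reflections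
  Cfsg.Agent.Helper8.WittQuad

universe u

variable {F : Type*} [Field F] {V : Type u} [AddCommGroup V] [Module F V]

section odd

variable [Fintype F] [Finite V] {p : ℕ} [Fact p.Prime] [CharP F p] {r : ℕ} [Fact r.Prime]

/-- **the fixed part of an invariant plus type subspace.** -/
theorem props_of_hyp_invt (h2 : (2 : F) ≠ 0) (hr2 : r ≠ 2) (hrp : r ≠ p) {Q : QuadraticForm F V}
    (hV : ND (QuadraticMap.polarBilin Q) ⊤) {T : Module.End F V} (hQT : ∀ v, Q (T v) = Q v) (hT : T ^ r = 1)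
    {W : Submodule F V} (hW : W ∈ Module.End.invtSubmodule T) (hWnd : ND (QuadraticMap.polarBilin Q) W)
    (hWy : Hyp Q W)
    (hfx : finrank F ↥(fixS T) < cOf (orderOf ((Fintype.card F : ℕ) : ZMod r))) :
    finrank F ↥W % cOf (orderOf ((Fintype.card F : ℕ) : ZMod r)) ≤ finrank F ↥(fixS T) ∧
      (finrank F ↥W % cOf (orderOf ((Fintype.card F : ℕ) : ZMod r)) = 0 →
        Even (orderOf ((Fintype.card F : ℕ) : ZMod r)) →
        Even (finrank F ↥W / orderOf ((Fintype.card F : ℕ) : ZMod r))) := by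
  have hfd : FiniteDimensional F V := Module.Finite.of_finite
  have hrF : (r : F) ≠ 0 := natCast_ne_zero_of_ne hrp
  have hrefl := pB_refl Q
  have hiso := iso_of_Q hQT
  have hipos := orderOf_q_pos (F := F) hrp
  have hdec := finrank_invt_decomp hrF hT hW
  have hmovnd := nd_inf_mov hrefl hiso hrF hT hW hWnd
  have hmovinv : W ⊓ movS r T ∈ Module.End.invtSubmodule T := inf_invt hW (movS_invt r T)
  have hmovfix : (W ⊓ movS r T) ⊓ fixS T = ⊥ := by
    rw [eq_bot_iff, ← (disjoint_fix_mov hrF T).eq_bot]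
    rintro x ⟨⟨-, hx1⟩, hx2⟩
    exact ⟨hx2, hx1⟩
  have hcdvd := cOf_dvd_finrank_s h2 hr2 hrp (pB_symm' Q) hiso hT _ _ rfl hmovinv hmovnd hmovfix
  obtain ⟨a, ha⟩ := hcdvd
  have hle : finrank F ↥(W ⊓ fixS T) ≤ finrank F ↥(fixS T) := Submodule.finrank_mono inf_le_right
  have hmod : finrank F ↥W % cOf (orderOf ((Fintype.card F : ℕ) : ZMod r)) = finrank F ↥(W ⊓ fixS T) := by
    rw [hdec, ha, Nat.add_mul_mod_self_left, Nat.mod_eq_of_lt (by omega)]
  refine ⟨by rw [hmod]; exact hle, ?_⟩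
  intro h0 hev
  rw [hmod] at h0
  have hWfix : W ⊓ fixS T = ⊥ := by
    rw [← Submodule.finrank_eq_zero (R := F)]
    exact h0
  have hci : cOf (orderOf ((Fintype.card F : ℕ) : ZMod r)) = orderOf ((Fintype.card F : ℕ) : ZMod r) := by
    unfold cOf; rw [if_pos hev]
  have hWd : finrank F ↥W = orderOf ((Fintype.card F : ℕ) : ZMod r) * a := by
    rw [hdec, h0, zero_add, ha, hci]
  have := (hyp_iff_even_blocks h2 hr2 hrp hV hQT hT hev a W hW hWnd hWfix hWd).mp hWy
  rw [hWd, Nat.mul_div_cancel_left _ hipos]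
  exact this

end odd

/-! ### the orthogonal complement of a nonsingular vector -/

theorem mem_perp_line {Q : QuadraticForm F V} {v x : V} :
    x ∈ LinearMap.BilinForm.orthogonal (QuadraticMap.polarBilin Q) (Submodule.span F {v}) ↔
      QuadraticMap.polar Q v x = 0 := by
  rw [mem_perp]
  constructor
  · intro h
    exact h v (Submodule.mem_span_singleton_self v)
  · intro h w hw
    obtain ⟨c, rfl⟩ := Submodule.mem_span_singleton.mp hw
    rw [pB_apply, QuadraticMap.polar_smul_left, h, smul_zero]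

theorem line_props [FiniteDimensional F V] (h2 : (2 : F) ≠ 0) {Q : QuadraticForm F V}
    (hV : ND (QuadraticMap.polarBilin Q) ⊤) {v : V} (hQv : Q v ≠ 0) :
    ND (QuadraticMap.polarBilin Q) (Submodule.span F {v}) ∧
      ND (QuadraticMap.polarBilin Q)
        (LinearMap.BilinForm.orthogonal (QuadraticMap.polarBilin Q) (Submodule.span F {v})) ∧
      finrank F ↥(LinearMap.BilinForm.orthogonal (QuadraticMap.polarBilin Q) (Submodule.span F {v})) + 1 =
        finrank F V := by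
  have hrefl := pB_refl Q
  have hv0 : v ≠ 0 := by
    rintro rfl
    exact hQv (QuadraticMap.map_zero Q)
  have hLnd : ND (QuadraticMap.polarBilin Q) (Submodule.span F {v}) := by
    intro x hx hx0
    obtain ⟨c, rfl⟩ := Submodule.mem_span_singleton.mp hx
    refine ⟨v, Submodule.mem_span_singleton_self v, ?_⟩
    rw [pB_apply, QuadraticMap.polar_smul_left, polar_self', smul_eq_mul]
    refine mul_ne_zero ?_ (mul_ne_zero h2 hQv)
    rintro rfl
    exact hx0 (zero_smul _ _)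
  have h1 := nd_perp_inf hrefl hLnd hV le_top
  have h3 := finrank_perp_inf hrefl hLnd (le_top : Submodule.span F {v} ≤ ⊤)
  rw [inf_top_eq] at h1 h3
  rw [finrank_span_singleton hv0, finrank_top] at h3
  exact ⟨hLnd, h1, by omega⟩

theorem hyp_map_isom [FiniteDimensional F V] {Q : QuadraticForm F V} {g : V ≃ₗ[F] V}
    (hg : ∀ v, Q (g v) = Q v) {W : Submodule F V} (hy : Hyp Q W) :
    Hyp Q (W.map (g : V →ₗ[F] V)) := by
  obtain ⟨U, hUW, hU, hUd⟩ := hy
  refine ⟨U.map (g : V →ₗ[F] V), Submodule.map_mono hUW, ?_, ?_⟩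
  · rintro _ ⟨u, hu, rfl⟩
    show Q (g u) = 0
    rw [hg]
    exact hU u hu
  · rw [LinearEquiv.finrank_map_eq, LinearEquiv.finrank_map_eq]
    exact hUd

theorem map_perp_line {Q : QuadraticForm F V} {g : V ≃ₗ[F] V} (hg : ∀ v, Q (g v) = Q v) (v : V) :
    (LinearMap.BilinForm.orthogonal (QuadraticMap.polarBilin Q) (Submodule.span F {v})).map (g : V →ₗ[F] V) =
      LinearMap.BilinForm.orthogonal (QuadraticMap.polarBilin Q) (Submodule.span F {g v}) := by
  ext x
  rw [mem_perp_line]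
  constructor
  · rintro ⟨y, hy, rfl⟩
    show QuadraticMap.polar Q (g v) (g y) = 0
    rw [polar_isometry Q g hg]
    exact mem_perp_line.mp hy
  · intro hx
    refine ⟨g.symm x, mem_perp_line.mpr ?_, by simp⟩
    rw [← polar_isometry Q g hg, LinearEquiv.apply_symm_apply]
    exact hx

/-- the complements of two vectors with the same value of `Q` have the same type. -/
theorem hyp_perp_of_Q_eq [FiniteDimensional F V] (h2 : (2 : F) ≠ 0) {Q : QuadraticForm F V} {z w : V}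
    (hQ : Q z = Q w) (hQz : Q z ≠ 0)
    (hy : Hyp Q (LinearMap.BilinForm.orthogonal (QuadraticMap.polarBilin Q) (Submodule.span F {z}))) :
    Hyp Q (LinearMap.BilinForm.orthogonal (QuadraticMap.polarBilin Q) (Submodule.span F {w})) := by
  have hsum : Q (w - z) + Q (w + z) = 4 * Q z := by
    rw [sub_eq_add_neg, QuadraticMap.map_add Q, QuadraticMap.map_add Q, QuadraticMap.map_neg,
      QuadraticMap.polar_neg_right, ← hQ]
    ring
  have h4 : (4 : F) * Q z ≠ 0 := by
    have : (4 : F) = 2 * 2 := by norm_num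
    rw [this]
    exact mul_ne_zero (mul_ne_zero h2 h2) hQz
  by_cases h1 : Q (w - z) = 0
  · have h3 : Q (w + z) ≠ 0 := by
      intro h
      rw [h1, h, add_zero] at hsum
      exact h4 hsum.symm
    have := hyp_map_isom (Q_refl Q (w + z)) hy
    rw [map_perp_line (Q_refl Q (w + z)), refl_add Q hQ h3] at this
    obtain ⟨U, hU1, hU2, hU3⟩ := this
    have heq : LinearMap.BilinForm.orthogonal (QuadraticMap.polarBilin Q) (Submodule.span F {-w}) =
        LinearMap.BilinForm.orthogonal (QuadraticMap.polarBilin Q) (Submodule.span F {w}) := by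
      ext x
      rw [mem_perp_line, mem_perp_line, QuadraticMap.polar_neg_left, neg_eq_zero]
    rw [heq] at hU1 hU3
    exact ⟨U, hU1, hU2, hU3⟩
  · have := hyp_map_isom (Q_refl Q (w - z)) hy
    rwa [map_perp_line (Q_refl Q (w - z)), refl_sub Q hQ h1] at this

section invol

variable [Fintype F] [Finite V]

/-- **an invariant plus type subspace from an orthogonal splitting into two pointwise stable parts.** -/
theorem exists_hyp_invt_of_split (h2 : (2 : F) ≠ 0) {Q : QuadraticForm F V}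
    (hV : ND (QuadraticMap.polarBilin Q) ⊤) {T : Module.End F V} (hQT : ∀ v, Q (T v) = Q v) (hT : T ^ 2 = 1)
    {d m : ℕ} (hn : finrank F V = 2 * d + 1) {N₁ N₂ : Submodule F V}
    (h₁ : ND (QuadraticMap.polarBilin Q) N₁) (h₂ : ND (QuadraticMap.polarBilin Q) N₂)
    (h12 : N₂ ≤ LinearMap.BilinForm.orthogonal (QuadraticMap.polarBilin Q) N₁)
    (hsum : finrank F ↥N₁ + finrank F ↥N₂ = 2 * d + 1) (hodd : Odd (finrank F ↥N₁))
    (hinv₁ : ∀ S : Submodule F V, S ≤ N₁ → S ∈ Module.End.invtSubmodule T)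
    (hinv₂ : ∀ S : Submodule F V, S ≤ N₂ → S ∈ Module.End.invtSubmodule T)
    (hme : Even m) (hm2 : 2 ≤ m) (hm : m ≤ 2 * d) :
    ∃ W : Submodule F V, W ∈ Module.End.invtSubmodule T ∧ ND (QuadraticMap.polarBilin Q) W ∧
      finrank F ↥W = m ∧ Hyp Q W := by
  have hfd : FiniteDimensional F V := Module.Finite.of_finite
  have hrefl := pB_refl Q
  have hiso := iso_of_Q hQT
  obtain ⟨mh, hmh⟩ := hme
  obtain ⟨a, ha⟩ := hodd
  have heven₂ : Even (finrank F ↥N₂) := ⟨d - a, by omega⟩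
  by_cases hc1 : m < finrank F ↥N₁
  · obtain ⟨W, hWN, hWnd, hWd, hWy⟩ := exists_hyp_sub hV h₁ (h := mh) (by omega)
    exact ⟨W, hinv₁ W hWN, hWnd, by omega, hWy⟩
  by_cases hc2 : m < finrank F ↥N₂
  · obtain ⟨W, hWN, hWnd, hWd, hWy⟩ := exists_hyp_sub hV h₂ (h := mh) (by omega)
    exact ⟨W, hinv₂ W hWN, hWnd, by omega, hWy⟩
  rw [not_lt] at hc1 hc2
  -- dimension `2a` in `N₁`, dimension `m - 2a` in `N₂`
  have hperp : ∀ W₁ W₂ : Submodule F V, W₁ ≤ N₁ → W₂ ≤ N₂ →
      W₂ ≤ LinearMap.BilinForm.orthogonal (QuadraticMap.polarBilin Q) W₁ := fun W₁ W₂ hW₁ hW₂ =>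
    (hW₂.trans h12).trans (LinearMap.BilinForm.orthogonal_le hW₁)
  by_cases hc3 : m - 2 * a < finrank F ↥N₂
  · obtain ⟨W₁, hW₁N, hW₁nd, hW₁d, hW₁y⟩ := exists_hyp_sub hV h₁ (h := a) (by omega)
    obtain ⟨W₂, hW₂N, hW₂nd, hW₂d, hW₂y⟩ := exists_hyp_sub hV h₂ (h := mh - a) (by omega)
    refine ⟨W₁ ⊔ W₂, sup_invt (hinv₁ W₁ hW₁N) (hinv₂ W₂ hW₂N),
      nd_sup hrefl hW₁nd hW₂nd (hperp W₁ W₂ hW₁N hW₂N), ?_, hyp_sup hW₁nd (hperp W₁ W₂ hW₁N hW₂N) hW₁y hW₂y⟩
    rw [finrank_sup_of_le_perp hrefl hW₁nd (hperp W₁ W₂ hW₁N hW₂N), hW₁d, hW₂d]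
    omega
  rw [not_lt] at hc3
  have hm2d : m = 2 * d := by omega
  have hN₂d : finrank F ↥N₂ = m - 2 * a := by omega
  by_cases hy₂ : Hyp Q N₂
  · obtain ⟨W₁, hW₁N, hW₁nd, hW₁d, hW₁y⟩ := exists_hyp_sub hV h₁ (h := a) (by omega)
    refine ⟨W₁ ⊔ N₂, sup_invt (hinv₁ W₁ hW₁N) (hinv₂ N₂ le_rfl),
      nd_sup hrefl hW₁nd h₂ (hperp W₁ N₂ hW₁N le_rfl), ?_, hyp_sup hW₁nd (hperp W₁ N₂ hW₁N le_rfl) hW₁y hy₂⟩
    rw [finrank_sup_of_le_perp hrefl hW₁nd (hperp W₁ N₂ hW₁N le_rfl), hW₁d]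
    omega
  by_cases ha0 : a = 0
  · -- the corner case: `N₁` is a line
    obtain ⟨H₀, -, hH₀nd, hH₀d, hH₀y⟩ := exists_hyp_sub hV hV (h := d) (by rw [finrank_top, hn]; omega)
    have hPnd := nd_perp_inf hrefl hH₀nd hV le_top
    have hPd := finrank_perp_inf hrefl hH₀nd (le_top : H₀ ≤ ⊤)
    rw [inf_top_eq] at hPnd hPd
    rw [finrank_top, hn, hH₀d] at hPd
    have hPne : LinearMap.BilinForm.orthogonal (QuadraticMap.polarBilin Q) H₀ ≠ ⊥ := by
      intro h
      rw [h, finrank_bot] at hPd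
      omega
    obtain ⟨z, hz, hz0⟩ := Submodule.exists_mem_ne_zero_of_ne_bot hPne
    have hQz : Q z ≠ 0 := by
      intro h0
      obtain ⟨y, hy, hzy⟩ := hPnd z hz hz0
      apply hzy
      obtain ⟨c, rfl⟩ : ∃ c : F, c • z = y := by
        have h1 : finrank F ↥(LinearMap.BilinForm.orthogonal (QuadraticMap.polarBilin Q) H₀) = 1 := by omega
        obtain ⟨c, hc⟩ := (finrank_eq_one_iff_of_nonzero' (⟨z, hz⟩ : ↥(LinearMap.BilinForm.orthogonal
          (QuadraticMap.polarBilin Q) H₀)) (fun h => hz0 (congrArg Subtype.val h))).mp h1 ⟨y, hy⟩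
        exact ⟨c, congrArg Subtype.val hc⟩
      rw [map_smul, pB_apply, polar_self', h0, mul_zero, smul_zero]
    obtain ⟨-, hzPnd, hzPd⟩ := line_props h2 hV hQz
    have hH₀eq : H₀ = LinearMap.BilinForm.orthogonal (QuadraticMap.polarBilin Q) (Submodule.span F {z}) := by
      apply Submodule.eq_of_le_of_finrank_eq
      · intro x hx
        rw [mem_perp_line]
        exact hrefl _ _ (mem_perp.mp hz x hx)
      · rw [hH₀d]
        omega
    rw [hH₀eq] at hH₀y
    obtain ⟨w, hwN, hQw⟩ := exists_repr_in h₂ (by omega) (Q z)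
    have hQw0 : Q w ≠ 0 := by rw [hQw]; exact hQz
    have hwy := hyp_perp_of_Q_eq h2 hQw.symm hQz hH₀y
    obtain ⟨-, hwPnd, hwPd⟩ := line_props h2 hV hQw0
    refine ⟨_, perp_invt hiso (by norm_num) hT (hinv₂ _ ?_), hwPnd, by omega, hwy⟩
    rw [Submodule.span_singleton_le_iff_mem]
    exact hwN
  · obtain ⟨W₁, hW₁N, hW₁nd, hW₁d, hW₁y⟩ := exists_not_hyp_sub_odd h2 hV h₁ (h := a - 1) (by omega)
    refine ⟨W₁ ⊔ N₂, sup_invt (hinv₁ W₁ hW₁N) (hinv₂ N₂ le_rfl),
      nd_sup hrefl hW₁nd h₂ (hperp W₁ N₂ hW₁N le_rfl), ?_,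
      hyp_sup_of_not_hyp_odd h2 hV hW₁nd h₂ (hperp W₁ N₂ hW₁N le_rfl) (by rw [hW₁d]; exact ⟨a, by omega⟩)
        heven₂ hW₁y hy₂⟩
    rw [finrank_sup_of_le_perp hrefl hW₁nd (hperp W₁ N₂ hW₁N le_rfl), hW₁d]
    omega

/-- **involutions fix plus type subspaces of every even dimension.** -/
theorem exists_hyp_invt_two (h2 : (2 : F) ≠ 0) {Q : QuadraticForm F V}
    (hV : ND (QuadraticMap.polarBilin Q) ⊤) {T : Module.End F V} (hQT : ∀ v, Q (T v) = Q v) (hT : T ^ 2 = 1)
    {d m : ℕ} (hn : finrank F V = 2 * d + 1) (hme : Even m) (hm2 : 2 ≤ m) (hm : m ≤ 2 * d) :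
    ∃ W : Submodule F V, W ∈ Module.End.invtSubmodule T ∧ ND (QuadraticMap.polarBilin Q) W ∧
      finrank F ↥W = m ∧ Hyp Q W := by
  have hfd : FiniteDimensional F V := Module.Finite.of_finite
  have hrF := two_cast_ne_zero h2
  have hrefl := pB_refl Q
  have hiso := iso_of_Q hQT
  have hfxnd : ND (QuadraticMap.polarBilin Q) (fixS T) := by
    have := nd_inf_fix hrefl hiso hrF hT (Module.End.invtSubmodule.top_mem T) hV
    rwa [top_inf_eq] at this
  have hmvnd : ND (QuadraticMap.polarBilin Q) (movS 2 T) := by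
    have := nd_inf_mov hrefl hiso hrF hT (Module.End.invtSubmodule.top_mem T) hV
    rwa [top_inf_eq] at this
  have hsum := finrank_fix_add_mov hrF hT
  rw [hn] at hsum
  have hp1 : movS 2 T ≤ LinearMap.BilinForm.orthogonal (QuadraticMap.polarBilin Q) (fixS T) := by
    intro v hv
    rw [mem_perp]
    intro w hw
    exact fix_perp_mov hiso hrF hw hv
  have hp2 : fixS T ≤ LinearMap.BilinForm.orthogonal (QuadraticMap.polarBilin Q) (movS 2 T) := by
    intro v hv
    rw [mem_perp]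
    intro w hw
    exact hrefl _ _ (fix_perp_mov hiso hrF hv hw)
  rcases Nat.even_or_odd (finrank F ↥(fixS T)) with he | ho
  · have ho' : Odd (finrank F ↥(movS 2 T)) := by
      rcases Nat.even_or_odd (finrank F ↥(movS 2 T)) with he' | ho'
      · exfalso
        obtain ⟨x, hx⟩ := he
        obtain ⟨y, hy⟩ := he'
        omega
      · exact ho'
    exact exists_hyp_invt_of_split h2 hV hQT hT hn hmvnd hfxnd hp2 (by omega) ho'
      (fun S hS => invt_of_le_movS_two hS) (fun S hS => invt_of_le_fixS hS) hme hm2 hm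
  · exact exists_hyp_invt_of_split h2 hV hQT hT hn hfxnd hmvnd hp1 hsum ho
      (fun S hS => invt_of_le_fixS hS) (fun S hS => invt_of_le_movS_two hS) hme hm2 hm

end invol

end Cfsg.Agent.Helper7.QTy
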