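import Mathlib
import Cfsg.Agent.Helper7.QTyI

set_option autoImplicit false
set_option linter.unusedSectionVars false
set_option linter.unusedVariables false

/-!
# `Ω_{2d+1}(q)` on plus type subspaces: the standard space, an element with small fixed space, necessity
-/

namespace Cfsg.Agent.Helper7.QTy

open Matrix Module Cfsg.Agent.Helper7.POrd Cfsg.Agent.Helper7.SpOrd Cfsg.Agent.Helper7.SpTI
  Cfsg.Agent.Helper7.OrTS Cfsg.Agent.Helper8.QuadForm Cfsg.Agent.Helper8.StdForms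

variable {F : Type*} [Field F]

/-! ### the standard space -/

theorem std_nd_top (h2 : (2 : F) ≠ 0) (d : ℕ) : ND (QuadraticMap.polarBilin (oddForm F d)) ⊤ := oB_ND h2 d

theorem nd_iff_std (d : ℕ) (W : Submodule F (Unit ⊕ (Fin d ⊕ Fin d) → F)) :
    Cfsg.Geo.IsNondegenerateOn (QuadraticMap.polar (Cfsg.quadFormOdd d F)) W ↔
      ND (QuadraticMap.polarBilin (oddForm F d)) W := by
  constructor
  · intro h w hw hw0
    obtain ⟨x, hx, hxw⟩ := (h w hw hw0).2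
    refine ⟨x, hx, ?_⟩
    rw [pB_apply, oddForm_coe]
    exact hxw
  · intro h w hw hw0
    obtain ⟨x, hx, hxw⟩ := h w hw hw0
    rw [pB_apply, oddForm_coe] at hxw
    refine ⟨⟨x, hx, ?_⟩, ⟨x, hx, hxw⟩⟩
    rw [QuadraticMap.polar_comm]
    exact hxw

theorem hyp_iff_std (d : ℕ) (W : Submodule F (Unit ⊕ (Fin d ⊕ Fin d) → F)) :
    Cfsg.Geo.IsPlusTypeOn (Cfsg.quadFormOdd d F) W ↔ Hyp (oddForm F d) W := by
  constructor
  · rintro ⟨U, hUW, hU, hUd⟩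
    exact ⟨U, hUW, fun w hw => by rw [oddForm_apply]; exact hU w hw, hUd⟩
  · rintro ⟨U, hUW, hU, hUd⟩
    exact ⟨U, hUW, fun w hw => by rw [← oddForm_apply]; exact hU w hw, hUd⟩

theorem card_hyp_eq (d m : ℕ) :
    Nat.card {W : Submodule F (Unit ⊕ (Fin d ⊕ Fin d) → F) // finrank F ↥W = m ∧
      Cfsg.Geo.IsNondegenerateOn (QuadraticMap.polar (Cfsg.quadFormOdd d F)) W ∧
      Cfsg.Geo.IsPlusTypeOn (Cfsg.quadFormOdd d F) W} = Nat.card (HypSub (oddForm F d) m) := by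
  apply Nat.card_congr
  apply Equiv.subtypeEquivRight
  intro W
  rw [nd_iff_std, hyp_iff_std]

theorem std_QT {d : ℕ} {x : GL (Unit ⊕ (Fin d ⊕ Fin d)) F}
    (hx : x ∈ Cfsg.isometryGroup F (Cfsg.quadFormOdd d F)) (v : Unit ⊕ (Fin d ⊕ Fin d) → F) :
    oddForm F d (Matrix.toLin' (x : Matrix (Unit ⊕ (Fin d ⊕ Fin d)) (Unit ⊕ (Fin d ⊕ Fin d)) F) v) =
      oddForm F d v := by
  rw [oddForm_apply, oddForm_apply, Matrix.toLin'_apply]
  exact hx v v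

theorem to_statement_h {d m : ℕ} (x : GL (Unit ⊕ (Fin d ⊕ Fin d)) F)
    {W : Submodule F (Unit ⊕ (Fin d ⊕ Fin d) → F)}
    (hW : W ∈ Module.End.invtSubmodule
      (Matrix.toLin' (x : Matrix (Unit ⊕ (Fin d ⊕ Fin d)) (Unit ⊕ (Fin d ⊕ Fin d)) F)))
    (hWnd : ND (QuadraticMap.polarBilin (oddForm F d)) W) (hWd : finrank F ↥W = m)
    (hWy : Hyp (oddForm F d) W) :
    ∃ W : Submodule F (Unit ⊕ (Fin d ⊕ Fin d) → F), (finrank F ↥W = m ∧
      Cfsg.Geo.IsNondegenerateOn (QuadraticMap.polar (Cfsg.quadFormOdd d F)) W ∧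
      Cfsg.Geo.IsPlusTypeOn (Cfsg.quadFormOdd d F) W) ∧
      W.map (Matrix.toLin' (x : Matrix (Unit ⊕ (Fin d ⊕ Fin d)) (Unit ⊕ (Fin d ⊕ Fin d)) F)) ≤ W := by
  refine ⟨W, ⟨hWd, (nd_iff_std d W).mpr hWnd, (hyp_iff_std d W).mpr hWy⟩, ?_⟩
  rw [Submodule.map_le_iff_le_comap]
  exact (Module.End.mem_invtSubmodule _).mp hW

variable [Fintype F] {p : ℕ} [Fact p.Prime] [CharP F p] {r : ℕ} [Fact r.Prime]

/-- **an element of `Ω_{2d+1}(q)` of order `r` with the smallest possible fixed space.** -/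
theorem exists_elt_small_fix (h2F : (2 : F) ≠ 0) (hr2 : r ≠ 2) (hrp : r ≠ p) (d : ℕ)
    (hcd : cOf (orderOf ((Fintype.card F : ℕ) : ZMod r)) ≤ 2 * d) :
    ∃ x : GL (Unit ⊕ (Fin d ⊕ Fin d)) F, x ∈ Cfsg.Geo.omegaGL (Cfsg.quadFormOdd d F) ∧ x ^ r = 1 ∧ x ≠ 1 ∧
      finrank F ↥(fixS (Matrix.toLin' (x : Matrix (Unit ⊕ (Fin d ⊕ Fin d)) (Unit ⊕ (Fin d ⊕ Fin d)) F))) ≤
        (2 * d + 1) % cOf (orderOf ((Fintype.card F : ℕ) : ZMod r)) := by
  classical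
  have hr : r.Prime := Fact.out
  have hrodd : Odd r := hr.odd_of_ne_two hr2
  have hcpos := cOf_pos (orderOf_q_pos (F := F) hrp)
  obtain ⟨h, hh⟩ := cOf_even (orderOf ((Fintype.card F : ℕ) : ZMod r))
  have hh' : cOf (orderOf ((Fintype.card F : ℕ) : ZMod r)) = 2 * h := by omega
  have hh1 : 1 ≤ h := by omega
  obtain ⟨B₀, T₀, hB₀s, hB₀nd, hT₀iso, hT₀r, hT₀fix⟩ := exists_orth_block hr2 hrp hh'
  obtain ⟨K, hK⟩ : ∃ K, K = 2 * d / cOf (orderOf ((Fintype.card F : ℕ) : ZMod r)) := ⟨_, rfl⟩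
  have hdm := Nat.div_add_mod (2 * d) (cOf (orderOf ((Fintype.card F : ℕ) : ZMod r)))
  have hmodlt := Nat.mod_lt (2 * d) hcpos
  rw [← hK] at hdm
  obtain ⟨ρ, hρ⟩ : ∃ ρ, ρ = 2 * d % cOf (orderOf ((Fintype.card F : ℕ) : ZMod r)) := ⟨_, rfl⟩
  rw [← hρ] at hdm hmodlt
  have hK1 : 1 ≤ K := by
    rw [hK]
    exact Nat.div_pos hcd hcpos
  rw [hh'] at hdm hmodlt
  have hmul : 2 * h * K = 2 * (h * K) := by ring
  have hhs : h * K ≤ d := by omega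
  obtain ⟨S, hS⟩ : ∃ S : Fin K → Module.End F (Fin h ⊕ Fin h → F), S = fun _ => T₀ := ⟨_, rfl⟩
  have hSiso : ∀ l, Cfsg.Agent.Helper8.SpS.Inv B₀ (S l) := fun l => by rw [hS]; exact hT₀iso
  have hSr : ∀ l, S l ^ r = 1 := fun l => by rw [hS]; exact hT₀r
  have hSfix : ∀ l, fixS (S l) = ⊥ := fun l => by rw [hS]; exact hT₀fix
  obtain ⟨x, e, c, hxΩ, hxr, hx1, hc, he1, he2⟩ :=
    exists_model_elt h2F hrodd hh1 hK1 hhs hB₀s hB₀nd S hSiso hSr hSfix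
  refine ⟨x, hxΩ, hxr, hx1, ?_⟩
  have h2 := finrank_fix_model_le (V₁ := (Unit ⊕ (Fin (d - h * K) ⊕ Fin (d - h * K)) → F)) hSfix
  rw [finrank_std_odd] at h2
  have hfixeq : fixS (Matrix.toLin' (x : Matrix (Unit ⊕ (Fin d ⊕ Fin d)) (Unit ⊕ (Fin d ⊕ Fin d)) F)) =
      (fixS (modelMap (V₁ := (Unit ⊕ (Fin (d - h * K) ⊕ Fin (d - h * K)) → F)) S)).map
        (e : _ →ₗ[F] (Unit ⊕ (Fin d ⊕ Fin d) → F)) := by
    ext v
    constructor
    · intro hv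
      refine ⟨e.symm v, ?_, by simp⟩
      rw [mem_fixS] at hv
      rw [SetLike.mem_coe, mem_fixS]
      apply e.injective
      rw [← he2, LinearEquiv.apply_symm_apply]
      exact hv
    · rintro ⟨u, hu, rfl⟩
      rw [SetLike.mem_coe, mem_fixS] at hu
      rw [mem_fixS]
      show Matrix.toLin' _ (e u) = e u
      rw [he2, hu]
  rw [hfixeq, LinearEquiv.finrank_map_eq]
  have hmod : (2 * d + 1) % cOf (orderOf ((Fintype.card F : ℕ) : ZMod r)) = ρ + 1 := by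
    rw [hh']
    have : 2 * d + 1 = 2 * h * K + (ρ + 1) := by omega
    rw [this, Nat.mul_add_mod, Nat.mod_eq_of_lt (by omega)]
  rw [hmod]
  omega

/-- **necessity**, `r` odd. -/
theorem cond_of_forall_hyp (h2F : (2 : F) ≠ 0) (hr2 : r ≠ 2) (hrp : r ≠ p) {d m : ℕ} (hme : Even m)
    (hm2 : 2 ≤ m) (hm : m ≤ 2 * d) (hdvd : r ∣ Nat.card (HypSub (oddForm F d) m))
    (hall : ∀ x : GL (Unit ⊕ (Fin d ⊕ Fin d)) F, x ∈ Cfsg.Geo.omegaGL (Cfsg.quadFormOdd d F) →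
      orderOf x = r →
      ∃ W : Submodule F (Unit ⊕ (Fin d ⊕ Fin d) → F), (finrank F ↥W = m ∧
        Cfsg.Geo.IsNondegenerateOn (QuadraticMap.polar (Cfsg.quadFormOdd d F)) W ∧
        Cfsg.Geo.IsPlusTypeOn (Cfsg.quadFormOdd d F) W) ∧
        W.map (Matrix.toLin' (x : Matrix (Unit ⊕ (Fin d ⊕ Fin d)) (Unit ⊕ (Fin d ⊕ Fin d)) F)) ≤ W) :
    cOf (orderOf ((Fintype.card F : ℕ) : ZMod r)) ≤ m ∧
    m % cOf (orderOf ((Fintype.card F : ℕ) : ZMod r)) <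
      (2 * d + 1) % cOf (orderOf ((Fintype.card F : ℕ) : ZMod r)) ∧
    (0 < m % cOf (orderOf ((Fintype.card F : ℕ) : ZMod r)) ∨ Odd (orderOf ((Fintype.card F : ℕ) : ZMod r)) ∨
      Even (m / orderOf ((Fintype.card F : ℕ) : ZMod r))) := by
  have hr : r.Prime := Fact.out
  have hipos : 0 < orderOf ((Fintype.card F : ℕ) : ZMod r) := orderOf_q_pos hrp
  have hcpos := cOf_pos hipos
  obtain ⟨mh, hmh⟩ := hme
  have hm' : m = 2 * mh := by omega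
  rw [hm'] at hdvd
  have hV := std_nd_top h2F d
  obtain ⟨j, hjm, hj⟩ := exists_dvd_of_dvd_card_hypSub h2F hV (finrank_std_odd d) mh hr hrp hdvd
  have hij : orderOf ((Fintype.card F : ℕ) : ZMod r) ∣ 2 * (d - j) := orderOf_dvd_of_dvd_pow_sub_one hj
  have hcj : cOf (orderOf ((Fintype.card F : ℕ) : ZMod r)) ∣ 2 * (d - j) := cOf_dvd_of_dvd hij
  have hcd : cOf (orderOf ((Fintype.card F : ℕ) : ZMod r)) ≤ 2 * d := by
    have := Nat.le_of_dvd (by omega) hcj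
    omega
  obtain ⟨x, hxΩ, hxr, hx1, hxfix⟩ := exists_elt_small_fix h2F hr2 hrp d hcd
  obtain ⟨W, ⟨hWd, hWnd, hWy⟩, hWinv⟩ := hall x hxΩ (orderOf_eq_prime hxr hx1)
  have hxiso : x ∈ Cfsg.isometryGroup F (Cfsg.quadFormOdd d F) := by
    obtain ⟨y, -, rfl⟩ := hxΩ
    exact y.2
  have hWinv' : W ∈ Module.End.invtSubmodule
      (Matrix.toLin' (x : Matrix (Unit ⊕ (Fin d ⊕ Fin d)) (Unit ⊕ (Fin d ⊕ Fin d)) F)) := by
    rw [Module.End.mem_invtSubmodule, ← Submodule.map_le_iff_le_comap]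
    exact hWinv
  obtain ⟨c, hc⟩ : ∃ c, c = cOf (orderOf ((Fintype.card F : ℕ) : ZMod r)) := ⟨_, rfl⟩
  rw [← hc] at hcj hcd hxfix hcpos ⊢
  have hklt : (2 * d + 1) % c < c := Nat.mod_lt _ hcpos
  have hprops := props_of_hyp_invt h2F hr2 hrp hV (std_QT hxiso) (toLin'_pow_eq_one hxr) hWinv'
    ((nd_iff_std d W).mp hWnd) ((hyp_iff_std d W).mp hWy) (by rw [← hc]; omega)
  rw [hWd, ← hc] at hprops
  obtain ⟨hp1, hp2⟩ := hprops
  -- parities
  obtain ⟨h, hh⟩ : ∃ h, c = 2 * h := by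
    obtain ⟨h, hh⟩ := cOf_even (orderOf ((Fintype.card F : ℕ) : ZMod r))
    exact ⟨h, by rw [hc]; omega⟩
  have hmmod : m % c = 2 * (mh % h) := by
    rw [hm', hh, Nat.mul_mod_mul_left]
  have hkodd : ∃ z, (2 * d + 1) % c = 2 * z + 1 := by
    have hdm := Nat.div_add_mod (2 * d + 1) c
    rw [hh] at hdm hklt
    have hmul : 2 * h * ((2 * d + 1) / (2 * h)) = 2 * (h * ((2 * d + 1) / (2 * h))) := by ring
    rw [hmul] at hdm
    rw [hh]
    exact ⟨((2 * d + 1) % (2 * h)) / 2, by omega⟩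
  obtain ⟨z, hz⟩ := hkodd
  have hlt : m % c < (2 * d + 1) % c := by omega
  refine ⟨?_, hlt, ?_⟩
  · by_contra hcon
    rw [not_le] at hcon
    have hmm : m % c = m := Nat.mod_eq_of_lt hcon
    obtain ⟨s, hs⟩ := hcj
    have h5 : (2 * d + 1) % c ≤ 2 * j + 1 := by
      have : 2 * d + 1 = c * s + (2 * j + 1) := by omega
      rw [this, Nat.mul_add_mod]
      exact Nat.mod_le _ _
    omega
  · by_cases hm0 : m % c = 0
    · right
      by_cases hev : Even (orderOf ((Fintype.card F : ℕ) : ZMod r))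
      · exact Or.inr (hp2 hm0 hev)
      · exact Or.inl (Nat.not_even_iff_odd.mp hev)
    · left
      omega

end Cfsg.Agent.Helper7.QTy
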