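import Mathlib
import Cfsg.Agent.Helper7.QTyJ

set_option autoImplicit false
set_option linter.unusedSectionVars false
set_option linter.unusedVariables false

/-!
# Quadratic spaces: subspaces not of plus type, their singular vectors and hyperbolic pairs
-/

namespace Cfsg.Agent.Helper7.QEll

open Module Cfsg.Agent.Helper7.POrd Cfsg.Agent.Helper7.SpOrd Cfsg.Agent.Helper7.SpTI
  Cfsg.Agent.Helper7.OrTS Cfsg.Agent.Helper8.QuadForm Cfsg.Agent.Helper8.OrthOrder Cfsg.Agent.Helper7.SpUn
  Cfsg.Agent.Helper7.QTy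

universe u

/-- **double counting.** -/
theorem sum_card_rel {A B : Type*} [Fintype A] [Fintype B] (R : A → B → Prop) :
    ∑ a : A, Nat.card {b : B // R a b} = ∑ b : B, Nat.card {a : A // R a b} := by
  classical
  have h1 : Nat.card {x : A × B // R x.1 x.2} = ∑ a : A, Nat.card {b : B // R a b} := by
    rw [Nat.card_congr (Equiv.subtypeProdEquivSigmaSubtype R), Nat.card_sigma]
  have h2 : Nat.card {x : A × B // R x.1 x.2} = ∑ b : B, Nat.card {a : A // R a b} := by
    have e : {x : A × B // R x.1 x.2} ≃ {y : B × A // R y.2 y.1} :=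
      (Equiv.prodComm A B).subtypeEquiv (fun x => Iff.rfl)
    rw [Nat.card_congr e, Nat.card_congr (Equiv.subtypeProdEquivSigmaSubtype (fun b a => R a b)),
      Nat.card_sigma]
  rw [← h1, h2]

variable {F : Type*} [Field F] {V : Type u} [AddCommGroup V] [Module F V]

/-- subspaces of `U` of dimension `m`, nondegenerate and not of plus type. -/
abbrev EllIn (Q : QuadraticForm F V) (U : Submodule F V) (m : ℕ) : Type _ :=
  {W : Submodule F V // W ≤ U ∧ finrank F ↥W = m ∧ ND (QuadraticMap.polarBilin Q) W ∧ ¬ Hyp Q W}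

theorem ts_span_singleton {Q : QuadraticForm F V} {a : V} (ha : Q a = 0) : TS Q (Submodule.span F {a}) := by
  intro w hw
  obtain ⟨c, rfl⟩ := Submodule.mem_span_singleton.mp hw
  rw [QuadraticMap.map_smul, ha, smul_zero]

theorem hyp_pairSpan {Q : QuadraticForm F V} {e f : V} (he : Q e = 0) (hf : Q f = 0)
    (hef : QuadraticMap.polar Q e f = 1) : Hyp Q (pairSpan F e f) := by
  have he0 : e ≠ 0 := by
    rintro rfl
    rw [QuadraticMap.polar_zero_left] at hef
    exact zero_ne_one hef
  refine ⟨Submodule.span F {e}, ?_, ts_span_singleton he, ?_⟩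
  · rw [Submodule.span_singleton_le_iff_mem]
    exact left_mem_pairSpan e f
  · rw [finrank_span_singleton he0, finrank_pairSpan he hf hef]

theorem aniso_of_not_hyp {Q : QuadraticForm F V} {W : Submodule F V}
    (hd : finrank F ↥W = 2) (hn : ¬ Hyp Q W) : ∀ a ∈ W, Q a = 0 → a = 0 := by
  intro a haW ha
  by_contra ha0
  apply hn
  refine ⟨Submodule.span F {a}, ?_, ts_span_singleton ha, ?_⟩
  · rw [Submodule.span_singleton_le_iff_mem]
    exact haW
  · rw [finrank_span_singleton ha0, hd]

theorem not_hyp_of_aniso {Q : QuadraticForm F V} {W : Submodule F V}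
    (hd : finrank F ↥W = 2) (han : ∀ a ∈ W, Q a = 0 → a = 0) : ¬ Hyp Q W := by
  rintro ⟨U, hUW, hU, hUd⟩
  have hUne : U ≠ ⊥ := by
    intro h0
    rw [h0, finrank_bot] at hUd
    omega
  obtain ⟨a, haU, ha0⟩ := Submodule.exists_mem_ne_zero_of_ne_bot hUne
  exact ha0 (han a (hUW haU) (hU a haU))

theorem not_hyp_perpPair_inf [FiniteDimensional F V] {Q : QuadraticForm F V} {W : Submodule F V} {e f : V}
    (he : Q e = 0) (hf : Q f = 0) (hef : QuadraticMap.polar Q e f = 1)
    (hW : ND (QuadraticMap.polarBilin Q) W) (heW : e ∈ W) (hfW : f ∈ W) (hn : ¬ Hyp Q W) :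
    ¬ Hyp Q (perpPair Q e f ⊓ W) := by
  intro hy
  apply hn
  have h12 : perpPair Q e f ⊓ W ≤
      LinearMap.BilinForm.orthogonal (QuadraticMap.polarBilin Q) (pairSpan F e f) := by
    rw [perp_pairSpan]
    exact inf_le_left
  have := hyp_sup (nd_pairSpan he hf hef) h12 (hyp_pairSpan he hf hef) hy
  rwa [(perpPair_inf_props he hf hef hW heW hfW).2.2] at this

theorem not_hyp_pairSpan_sup [FiniteDimensional F V] {Q : QuadraticForm F V}
    (hV : ND (QuadraticMap.polarBilin Q) ⊤) {W' : Submodule F V} {e f : V}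
    (he : Q e = 0) (hf : Q f = 0) (hef : QuadraticMap.polar Q e f = 1)
    (hW' : ND (QuadraticMap.polarBilin Q) W') (hle : W' ≤ perpPair Q e f) (hn : ¬ Hyp Q W') :
    ¬ Hyp Q (pairSpan F e f ⊔ W') := by
  intro hy
  exact hn (hyp_cancel hV _ (pairSpan F e f) W' rfl (nd_pairSpan he hf hef) hW'
    (by rw [perp_pairSpan]; exact hle) (hyp_pairSpan he hf hef) hy)

/-- the number of singular vectors of a space of dimension `2(k+1)` not of plus type. -/
def nuM (q : ℕ) : ℕ → ℕ
  | 0 => 1
  | k + 1 => nuM q k * q + q ^ (2 * (k + 1)) * (q - 1)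

theorem card_singular_ell [Fintype F] [FiniteDimensional F V] {Q : QuadraticForm F V} :
    ∀ (k : ℕ) (W : Submodule F V), ND (QuadraticMap.polarBilin Q) W → finrank F ↥W = 2 * (k + 1) →
      ¬ Hyp Q W → Nat.card {w : ↥W // Q (w : V) = 0} = nuM (Fintype.card F) k := by
  intro k
  induction k with
  | zero =>
    intro W hW hd hn
    have han := aniso_of_not_hyp (by omega) hn
    haveI : Unique {w : ↥W // Q (w : V) = 0} :=
      { default := ⟨0, by rw [Submodule.coe_zero, QuadraticMap.map_zero]⟩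
        uniq := by
          rintro ⟨w, hw⟩
          apply Subtype.ext
          apply Subtype.ext
          exact han w w.2 hw }
    rw [Nat.card_unique]
    rfl
  | succ k ih =>
    intro W hW hd hn
    obtain ⟨e, heW, he0, hQe⟩ := exists_singular_in Q (W := W) (by omega)
    obtain ⟨f, hfW, hQf, hef⟩ := exists_partner hW heW he0 hQe
    obtain ⟨hnd', hdim', -⟩ := perpPair_inf_props hQe hQf hef hW heW hfW
    have hn' := not_hyp_perpPair_inf hQe hQf hef hW heW hfW hn
    have hd' : finrank F ↥(perpPair Q e f ⊓ W) = 2 * (k + 1) := by omega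
    have h2 := card_singular_sub Q heW hfW hQe hQf hef
    rw [hd', ih _ hnd' hd' hn'] at h2
    rw [h2]
    rfl

/-- hyperbolic pairs of a space not of plus type. -/
theorem card_qpair_ell [Fintype F] [FiniteDimensional F V] {Q : QuadraticForm F V} {W : Submodule F V}
    (hW : ND (QuadraticMap.polarBilin Q) W) {k : ℕ} (hd : finrank F ↥W = 2 * (k + 1)) (hn : ¬ Hyp Q W) :
    Nat.card (QPair Q W) * Fintype.card F =
      (nuM (Fintype.card F) k - 1) * Fintype.card F ^ (2 * k + 1) := by
  rw [card_qpair hW, card_singular_ell k W hW hd hn, hd]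
  congr 2

/-- hyperbolic pairs of a space of odd dimension. -/
theorem card_qpair_odd [Fintype F] [FiniteDimensional F V] (h2 : (2 : F) ≠ 0) {Q : QuadraticForm F V}
    {U : Submodule F V} (hU : ND (QuadraticMap.polarBilin Q) U) {e : ℕ} (hd : finrank F ↥U = 2 * e + 1) :
    Nat.card (QPair Q U) * Fintype.card F = (Fintype.card F ^ (2 * e) - 1) * Fintype.card F ^ (2 * e) := by
  have h1 : Nat.card {w : ↥U // Q (w : V) = 0} = Fintype.card F ^ (2 * e) :=
    card_singular_odd h2 e (Q.comp U.subtype) ((nondeg_iff _).mpr (nondeg_comp_of_nd hU)) hd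
  rw [card_qpair hU, h1, hd]
  congr 2

/-- hyperbolic pairs of a hyperbolic plane. -/
theorem card_qpair_hyp_two [Fintype F] [FiniteDimensional F V] {Q : QuadraticForm F V}
    (hV : ND (QuadraticMap.polarBilin Q) ⊤) {P : Submodule F V}
    (hP : ND (QuadraticMap.polarBilin Q) P) (hd : finrank F ↥P = 2) (hy : Hyp Q P) :
    Nat.card (QPair Q P) = 2 * (Fintype.card F - 1) := by
  have h0 := card_qpair hP
  have h1 := card_singular_hyp hV 1 P hP (by omega) hy
  rw [hd] at h0
  obtain ⟨q, hq⟩ : ∃ q, q = Fintype.card F := ⟨_, rfl⟩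
  have hq2 : 2 ≤ q := by rw [hq]; exact two_le_card
  rw [← hq] at h0 h1 ⊢
  obtain ⟨N, hN⟩ : ∃ N, N = Nat.card {w : ↥P // Q (w : V) = 0} := ⟨_, rfl⟩
  rw [← hN] at h0 h1
  rw [pow_one] at h1
  have hNq : N = q + (q - 1) := Nat.eq_of_mul_eq_mul_right (by omega : 0 < q) (h1.trans (mul_comm _ _))
  rw [hNq] at h0
  have h3 : Nat.card (QPair Q P) * q = (2 * (q - 1)) * q := by
    rw [h0]
    simp only [Nat.add_one_sub_one, pow_one]
    congr 1
    omega
  exact Nat.eq_of_mul_eq_mul_right (by omega : 0 < q) h3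

end Cfsg.Agent.Helper7.QEll
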