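import Mathlib
import Cfsg.Agent.Helper7.QEllA

set_option autoImplicit false
set_option linter.unusedSectionVars false
set_option linter.unusedVariables false

/-!
# Double counting of hyperbolic pairs against subspaces not of plus type
-/

namespace Cfsg.Agent.Helper7.QEll

open Module Cfsg.Agent.Helper7.POrd Cfsg.Agent.Helper7.SpOrd Cfsg.Agent.Helper7.SpTI
  Cfsg.Agent.Helper7.OrTS Cfsg.Agent.Helper8.QuadForm Cfsg.Agent.Helper8.OrthOrder Cfsg.Agent.Helper7.SpUn
  Cfsg.Agent.Helper7.QTy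

universe u

/-- **double counting with constant fibres** (up to factors). -/
theorem card_mul_of_rel {A B : Type*} [Finite A] [Finite B] (R : A → B → Prop) {kA kB cA cB : ℕ}
    (hA : ∀ a, Nat.card {b : B // R a b} * kA = cA) (hB : ∀ b, Nat.card {a : A // R a b} * kB = cB) :
    Nat.card A * cA * kB = Nat.card B * cB * kA := by
  classical
  letI : Fintype A := Fintype.ofFinite A
  letI : Fintype B := Fintype.ofFinite B
  have h := sum_card_rel R
  have h1 : (∑ a : A, Nat.card {b : B // R a b}) * kA = Nat.card A * cA := by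
    rw [Finset.sum_mul, Finset.sum_congr rfl (fun a _ => hA a), Finset.sum_const, Finset.card_univ,
      smul_eq_mul, Nat.card_eq_fintype_card]
  have h2 : (∑ b : B, Nat.card {a : A // R a b}) * kB = Nat.card B * cB := by
    rw [Finset.sum_mul, Finset.sum_congr rfl (fun b _ => hB b), Finset.sum_const, Finset.card_univ,
      smul_eq_mul, Nat.card_eq_fintype_card]
  rw [← h1, ← h2, h]
  ring

variable {F : Type*} [Field F] {V : Type u} [AddCommGroup V] [Module F V]

/-- pairs of `U` inside `W ≤ U`. -/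
def fibInEquiv (Q : QuadraticForm F V) {U W : Submodule F V} (hWU : W ≤ U) :
    {ef : QPair Q U // ef.1.1 ∈ W ∧ ef.1.2 ∈ W} ≃ QPair Q W where
  toFun ef := ⟨ef.1.1, ef.2.1, ef.2.2, ef.1.2.2.2⟩
  invFun ef := ⟨⟨ef.1, hWU ef.2.1, hWU ef.2.2.1, ef.2.2.2⟩, ef.2.1, ef.2.2.1⟩
  left_inv ef := rfl
  right_inv ef := rfl

/-- subspaces of `U` orthogonal to a pair. -/
def fibPerpEquiv (Q : QuadraticForm F V) (U : Submodule F V) (m : ℕ) (e f : V) :
    {W : EllIn Q U m // W.1 ≤ perpPair Q e f} ≃ EllIn Q (perpPair Q e f ⊓ U) m where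
  toFun W := ⟨W.1.1, le_inf W.2 W.1.2.1, W.1.2.2⟩
  invFun W' := ⟨⟨W'.1, W'.2.1.trans inf_le_right, W'.2.2⟩, W'.2.1.trans inf_le_left⟩
  left_inv W := rfl
  right_inv W' := rfl

theorem le_perpPair_iff {Q : QuadraticForm F V} {W : Submodule F V} {e f : V} :
    W ≤ perpPair Q e f ↔ e ∈ LinearMap.BilinForm.orthogonal (QuadraticMap.polarBilin Q) W ∧
      f ∈ LinearMap.BilinForm.orthogonal (QuadraticMap.polarBilin Q) W := by
  constructor
  · intro h
    refine ⟨?_, ?_⟩
    · rw [mem_perp]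
      intro w hw
      rw [pB_apply, QuadraticMap.polar_comm]
      exact ((mem_perpPair Q e f w).mp (h hw)).1
    · rw [mem_perp]
      intro w hw
      rw [pB_apply, QuadraticMap.polar_comm]
      exact ((mem_perpPair Q e f w).mp (h hw)).2
  · rintro ⟨h1, h2⟩ w hw
    rw [mem_perpPair]
    refine ⟨?_, ?_⟩
    · rw [QuadraticMap.polar_comm]
      exact mem_perp.mp h1 w hw
    · rw [QuadraticMap.polar_comm]
      exact mem_perp.mp h2 w hw

/-- pairs of `U` orthogonal to `W`. -/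
def fibOrthEquiv (Q : QuadraticForm F V) (U W : Submodule F V) :
    {ef : QPair Q U // W ≤ perpPair Q ef.1.1 ef.1.2} ≃
      QPair Q (LinearMap.BilinForm.orthogonal (QuadraticMap.polarBilin Q) W ⊓ U) where
  toFun ef := ⟨ef.1.1, ⟨(le_perpPair_iff.mp ef.2).1, ef.1.2.1⟩, ⟨(le_perpPair_iff.mp ef.2).2, ef.1.2.2.1⟩,
    ef.1.2.2.2⟩
  invFun ef := ⟨⟨ef.1, ef.2.1.2, ef.2.2.1.2, ef.2.2.2⟩, le_perpPair_iff.mpr ⟨ef.2.1.1, ef.2.2.1.1⟩⟩
  left_inv ef := rfl
  right_inv ef := rfl

theorem perpPair_inf_sup [FiniteDimensional F V] {Q : QuadraticForm F V} {e f : V} (he : Q e = 0)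
    (hf : Q f = 0) (hef : QuadraticMap.polar Q e f = 1) {W' : Submodule F V} (hle : W' ≤ perpPair Q e f) :
    perpPair Q e f ⊓ (pairSpan F e f ⊔ W') = W' := by
  apply le_antisymm
  · rintro x ⟨hxP, hx⟩
    obtain ⟨a, ha, w, hw, rfl⟩ := Submodule.mem_sup.mp hx
    have haP : a ∈ perpPair Q e f := by
      have := (perpPair Q e f).sub_mem hxP (hle hw)
      rwa [add_sub_cancel_right] at this
    have hdisj := (nd_iff_disjoint (pB_refl Q)).mp (nd_pairSpan he hf hef)
    rw [perp_pairSpan] at hdisj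
    have ha0 : a = 0 := by
      have : a ∈ pairSpan F e f ⊓ perpPair Q e f := ⟨ha, haP⟩
      rw [hdisj.eq_bot, Submodule.mem_bot] at this
      exact this
    rw [ha0, zero_add]
    exact hw
  · exact le_inf hle le_sup_right

/-- subspaces of `U` containing a pair. -/
noncomputable def fibEllEquiv [FiniteDimensional F V] {Q : QuadraticForm F V}
    (hV : ND (QuadraticMap.polarBilin Q) ⊤) (U : Submodule F V) {m m' : ℕ} (hm : m' = m + 2) {e f : V}
    (he : Q e = 0) (hf : Q f = 0) (hef : QuadraticMap.polar Q e f = 1) (heU : e ∈ U) (hfU : f ∈ U) :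
    {W : EllIn Q U m' // e ∈ W.1 ∧ f ∈ W.1} ≃ EllIn Q (perpPair Q e f ⊓ U) m where
  toFun W := ⟨perpPair Q e f ⊓ W.1.1, inf_le_inf_left _ W.1.2.1, by
      have h1 := (perpPair_inf_props he hf hef W.1.2.2.2.1 W.2.1 W.2.2).2.1
      have h2 := W.1.2.2.1
      omega,
    (perpPair_inf_props he hf hef W.1.2.2.2.1 W.2.1 W.2.2).1,
    not_hyp_perpPair_inf he hf hef W.1.2.2.2.1 W.2.1 W.2.2 W.1.2.2.2.2⟩
  invFun W' := ⟨⟨pairSpan F e f ⊔ W'.1, sup_le (pairSpan_le heU hfU) (W'.2.1.trans inf_le_right), by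
      have h12 : W'.1 ≤ LinearMap.BilinForm.orthogonal (QuadraticMap.polarBilin Q) (pairSpan F e f) := by
        rw [perp_pairSpan]
        exact W'.2.1.trans inf_le_left
      rw [finrank_sup_of_le_perp (pB_refl Q) (nd_pairSpan he hf hef) h12, finrank_pairSpan he hf hef,
        W'.2.2.1, hm]
      ring,
    nd_sup (pB_refl Q) (nd_pairSpan he hf hef) W'.2.2.2.1 (by
      rw [perp_pairSpan]
      exact W'.2.1.trans inf_le_left),
    not_hyp_pairSpan_sup hV he hf hef W'.2.2.2.1 (W'.2.1.trans inf_le_left) W'.2.2.2.2⟩,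
    Submodule.mem_sup_left (left_mem_pairSpan e f), Submodule.mem_sup_left (right_mem_pairSpan e f)⟩
  left_inv W := by
    apply Subtype.ext
    apply Subtype.ext
    exact (perpPair_inf_props he hf hef W.1.2.2.2.1 W.2.1 W.2.2).2.2
  right_inv W' := by
    apply Subtype.ext
    exact perpPair_inf_sup he hf hef (W'.2.1.trans inf_le_left)

end Cfsg.Agent.Helper7.QEll
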