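import Mathlib
import Cfsg.Agent.Helper7.QEllB

set_option autoImplicit false
set_option linter.unusedSectionVars false
set_option linter.unusedVariables false

/-!
# Anisotropic planes of a nondegenerate quadratic space of dimension three (odd characteristic)
-/

namespace Cfsg.Agent.Helper7.QEll

open Module Cfsg.Agent.Helper7.POrd Cfsg.Agent.Helper7.SpOrd Cfsg.Agent.Helper7.SpTI
  Cfsg.Agent.Helper7.OrTS Cfsg.Agent.Helper8.QuadForm Cfsg.Agent.Helper8.OrthOrder Cfsg.Agent.Helper7.SpUn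
  Cfsg.Agent.Helper7.QTy

universe u

theorem card_subtype_not {α : Type*} [Finite α] (p : α → Prop) :
    Nat.card {x : α // ¬ p x} + Nat.card {x : α // p x} = Nat.card α := by
  classical
  letI : Fintype α := Fintype.ofFinite α
  rw [Nat.card_eq_fintype_card, Nat.card_eq_fintype_card, Nat.card_eq_fintype_card,
    Fintype.card_subtype_compl]
  have := Fintype.card_subtype_le p
  omega

variable {F : Type*} [Field F] {V : Type u} [AddCommGroup V] [Module F V]

theorem card_ne_zero_sub [Fintype F] [Finite V] (L : Submodule F V) :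
    Nat.card {z : ↥L // z ≠ 0} + 1 = Fintype.card F ^ finrank F ↥L := by
  have hfd : FiniteDimensional F V := Module.Finite.of_finite
  have h := card_subtype_not (α := ↥L) (fun z => z = 0)
  have h1 : Nat.card {z : ↥L // z = 0} = 1 := by
    rw [Nat.card_eq_one_iff_unique]
    refine ⟨⟨?_⟩, ⟨⟨0, rfl⟩⟩⟩
    rintro ⟨a, ha⟩ ⟨b, hb⟩
    exact Subtype.ext (ha.trans hb.symm)
  rw [h1, card_space (F := F) ↥L] at h
  exact h

theorem nonsing_of_line [FiniteDimensional F V] {Q : QuadraticForm F V} {L : Submodule F V}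
    (hL : ND (QuadraticMap.polarBilin Q) L) (hd : finrank F ↥L = 1) {z : V} (hz : z ∈ L) (hz0 : z ≠ 0) :
    Q z ≠ 0 := by
  intro h0
  obtain ⟨y, hy, hzy⟩ := hL z hz hz0
  apply hzy
  obtain ⟨c, rfl⟩ : ∃ c : F, c • z = y := by
    obtain ⟨c, hc⟩ := (finrank_eq_one_iff_of_nonzero' (⟨z, hz⟩ : ↥L)
      (fun h => hz0 (congrArg Subtype.val h))).mp hd ⟨y, hy⟩
    exact ⟨c, congrArg Subtype.val hc⟩
  rw [map_smul, pB_apply, polar_self', h0, mul_zero, smul_zero]

/-- nondegenerate subspaces of `U` of dimension `m`. -/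
abbrev NDIn (Q : QuadraticForm F V) (U : Submodule F V) (m : ℕ) : Type _ :=
  {P : Submodule F V // P ≤ U ∧ finrank F ↥P = m ∧ ND (QuadraticMap.polarBilin Q) P}

section three

variable [Fintype F] [Finite V]

/-- the nondegenerate planes of a nondegenerate space of dimension three. -/
theorem card_ndIn_two_of_three (h2 : (2 : F) ≠ 0) {Q : QuadraticForm F V}
    {U : Submodule F V} (hU : ND (QuadraticMap.polarBilin Q) U) (hd : finrank F ↥U = 3) :
    Nat.card (NDIn Q U 2) * (Fintype.card F - 1) + Fintype.card F ^ 2 = Fintype.card F ^ 3 := by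
  classical
  have hfd : FiniteDimensional F V := Module.Finite.of_finite
  have hrefl := pB_refl Q
  have hcardA : Nat.card {z : ↥U // ¬ Q (z : V) = 0} + Fintype.card F ^ 2 = Fintype.card F ^ 3 := by
    have h := card_subtype_not (α := ↥U) (fun z => Q (z : V) = 0)
    have h1 : Nat.card {w : ↥U // Q (w : V) = 0} = Fintype.card F ^ (2 * 1) :=
      card_singular_odd h2 1 (Q.comp U.subtype) ((nondeg_iff _).mpr (nondeg_comp_of_nd hU)) hd
    rw [h1, card_space (F := F) ↥U, hd] at h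
    exact h
  have hrel := card_mul_of_rel (A := {z : ↥U // ¬ Q (z : V) = 0}) (B := NDIn Q U 2)
    (fun z P => (z.1 : V) ∈ LinearMap.BilinForm.orthogonal (QuadraticMap.polarBilin Q) P.1)
    (kA := 1) (kB := 1) (cA := 1) (cB := Fintype.card F - 1) ?_ ?_
  · rw [mul_one, mul_one, mul_one] at hrel
    rw [← hrel]
    exact hcardA
  · -- the plane orthogonal to a nonsingular vector
    rintro ⟨⟨z, hzU⟩, hQz⟩
    rw [mul_one, Nat.card_eq_one_iff_unique]
    have hz0 : z ≠ 0 := by
      rintro rfl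
      exact hQz (QuadraticMap.map_zero Q)
    have hLnd : ND (QuadraticMap.polarBilin Q) (Submodule.span F {z}) := by
      intro x hx hx0
      obtain ⟨c, rfl⟩ := Submodule.mem_span_singleton.mp hx
      refine ⟨z, Submodule.mem_span_singleton_self z, ?_⟩
      rw [pB_apply, QuadraticMap.polar_smul_left, polar_self', smul_eq_mul]
      refine mul_ne_zero ?_ (mul_ne_zero h2 hQz)
      rintro rfl
      exact hx0 (zero_smul _ _)
    have hLU : Submodule.span F {z} ≤ U := by
      rw [Submodule.span_singleton_le_iff_mem]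
      exact hzU
    have hP₀nd := nd_perp_inf hrefl hLnd hU hLU
    have hP₀d := finrank_perp_inf hrefl hLnd hLU
    rw [finrank_span_singleton hz0, hd] at hP₀d
    have hkey : ∀ P : NDIn Q U 2, z ∈ LinearMap.BilinForm.orthogonal (QuadraticMap.polarBilin Q) P.1 →
        P.1 = LinearMap.BilinForm.orthogonal (QuadraticMap.polarBilin Q) (Submodule.span F {z}) ⊓ U := by
      intro P hP
      apply Submodule.eq_of_le_of_finrank_eq
      · intro w hw
        refine Submodule.mem_inf.2 ⟨?_, P.2.1 hw⟩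
        rw [mem_perp_line, QuadraticMap.polar_comm]
        exact mem_perp.mp hP w hw
      · rw [P.2.2.1]
        omega
    refine ⟨⟨?_⟩, ⟨⟨⟨_, inf_le_right, by omega, hP₀nd⟩, ?_⟩⟩⟩
    · rintro ⟨P, hP⟩ ⟨P', hP'⟩
      apply Subtype.ext
      apply Subtype.ext
      rw [hkey P hP, hkey P' hP']
    · show z ∈ LinearMap.BilinForm.orthogonal (QuadraticMap.polarBilin Q)
        (LinearMap.BilinForm.orthogonal (QuadraticMap.polarBilin Q) (Submodule.span F {z}) ⊓ U)
      rw [mem_perp]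
      intro w hw
      rw [pB_apply, QuadraticMap.polar_comm]
      exact mem_perp_line.mp hw.1
  · -- the line orthogonal to a nondegenerate plane
    rintro ⟨P, hPU, hPd, hPnd⟩
    rw [mul_one]
    have hLnd := nd_perp_inf hrefl hPnd hU hPU
    have hLd := finrank_perp_inf hrefl hPnd hPU
    rw [hPd, hd] at hLd
    have hLd' : finrank F ↥(LinearMap.BilinForm.orthogonal (QuadraticMap.polarBilin Q) P ⊓ U) = 1 := by omega
    have e : {z : {z : ↥U // ¬ Q (z : V) = 0} //
        (z.1 : V) ∈ LinearMap.BilinForm.orthogonal (QuadraticMap.polarBilin Q) P} ≃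
        {z : ↥(LinearMap.BilinForm.orthogonal (QuadraticMap.polarBilin Q) P ⊓ U) // z ≠ 0} :=
      { toFun := fun z => ⟨⟨(z.1.1 : V), z.2, z.1.1.2⟩, fun h => z.1.2 (by
          have : (z.1.1 : V) = 0 := congrArg Subtype.val h
          rw [this, QuadraticMap.map_zero])⟩
        invFun := fun z => ⟨⟨⟨(z.1 : V), z.1.2.2⟩,
          nonsing_of_line hLnd hLd' z.1.2 (fun h => z.2 (Subtype.ext h))⟩, z.1.2.1⟩
        left_inv := fun z => rfl
        right_inv := fun z => rfl }
    rw [Nat.card_congr e]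
    have := card_ne_zero_sub (F := F)
      (LinearMap.BilinForm.orthogonal (QuadraticMap.polarBilin Q) P ⊓ U)
    rw [hLd', pow_one] at this
    omega

/-- the hyperbolic planes of a nondegenerate space of dimension three. -/
theorem card_hypIn_two_of_three (h2 : (2 : F) ≠ 0) {Q : QuadraticForm F V}
    (hV : ND (QuadraticMap.polarBilin Q) ⊤) {U : Submodule F V}
    (hU : ND (QuadraticMap.polarBilin Q) U) (hd : finrank F ↥U = 3) :
    Nat.card {P : NDIn Q U 2 // Hyp Q P.1} * (2 * (Fintype.card F - 1)) * Fintype.card F =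
      (Fintype.card F ^ 2 - 1) * Fintype.card F ^ 2 := by
  classical
  have hfd : FiniteDimensional F V := Module.Finite.of_finite
  have hrefl := pB_refl Q
  have hrel := card_mul_of_rel (A := QPair Q U) (B := {P : NDIn Q U 2 // Hyp Q P.1})
    (fun ef P => ef.1.1 ∈ P.1.1 ∧ ef.1.2 ∈ P.1.1)
    (kA := 1) (kB := 1) (cA := 1) (cB := 2 * (Fintype.card F - 1)) ?_ ?_
  · rw [mul_one, mul_one, mul_one] at hrel
    rw [← hrel]
    exact card_qpair_odd h2 hU (e := 1) hd
  · rintro ⟨⟨e, f⟩, heU, hfU, he, hf, hef⟩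
    rw [mul_one, Nat.card_eq_one_iff_unique]
    have hkey : ∀ P : {P : NDIn Q U 2 // Hyp Q P.1}, e ∈ P.1.1 ∧ f ∈ P.1.1 → P.1.1 = pairSpan F e f := by
      intro P hP
      symm
      apply Submodule.eq_of_le_of_finrank_eq (pairSpan_le hP.1 hP.2)
      rw [finrank_pairSpan he hf hef, P.1.2.2.1]
    refine ⟨⟨?_⟩, ⟨⟨⟨⟨pairSpan F e f, pairSpan_le heU hfU, finrank_pairSpan he hf hef,
      nd_pairSpan he hf hef⟩, hyp_pairSpan he hf hef⟩, left_mem_pairSpan e f, right_mem_pairSpan e f⟩⟩⟩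
    rintro ⟨P, hP⟩ ⟨P', hP'⟩
    apply Subtype.ext
    apply Subtype.ext
    apply Subtype.ext
    rw [hkey P hP, hkey P' hP']
  · rintro ⟨⟨P, hPU, hPd, hPnd⟩, hPy⟩
    rw [mul_one, Nat.card_congr (fibInEquiv Q hPU)]
    exact card_qpair_hyp_two hV hPnd hPd hPy

/-- **the anisotropic planes of a nondegenerate space of dimension three.** -/
theorem card_ell_two_of_three (h2 : (2 : F) ≠ 0) {Q : QuadraticForm F V}
    (hV : ND (QuadraticMap.polarBilin Q) ⊤) {U : Submodule F V}
    (hU : ND (QuadraticMap.polarBilin Q) U) (hd : finrank F ↥U = 3) :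
    2 * (Fintype.card F + 1) * Nat.card (EllIn Q U 2) = Fintype.card F * (Fintype.card F ^ 2 - 1) := by
  classical
  have h1 := card_ndIn_two_of_three h2 hU hd
  have h3 := card_hypIn_two_of_three h2 hV hU hd
  have h4 := card_subtype_not (α := NDIn Q U 2) (fun P => Hyp Q P.1)
  have e : {P : NDIn Q U 2 // ¬ Hyp Q P.1} ≃ EllIn Q U 2 :=
    { toFun := fun P => ⟨P.1.1, P.1.2.1, P.1.2.2.1, P.1.2.2.2, P.2⟩
      invFun := fun W => ⟨⟨W.1, W.2.1, W.2.2.1, W.2.2.2.1⟩, W.2.2.2.2⟩
      left_inv := fun P => rfl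
      right_inv := fun W => rfl }
  rw [Nat.card_congr e] at h4
  obtain ⟨q, hq⟩ : ∃ q, q = Fintype.card F := ⟨_, rfl⟩
  have hq2 : 2 ≤ q := by rw [hq]; exact two_le_card
  obtain ⟨t, rfl⟩ : ∃ t, q = t + 1 := ⟨q - 1, by omega⟩
  rw [← hq] at h1 h3 ⊢
  obtain ⟨E, hE⟩ : ∃ E, E = Nat.card (EllIn Q U 2) := ⟨_, rfl⟩
  obtain ⟨H, hH⟩ : ∃ H, H = Nat.card {P : NDIn Q U 2 // Hyp Q P.1} := ⟨_, rfl⟩
  obtain ⟨N, hN⟩ : ∃ N, N = Nat.card (NDIn Q U 2) := ⟨_, rfl⟩
  rw [← hE, ← hH, ← hN] at h4
  rw [← hN] at h1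
  rw [← hH] at h3
  rw [← hE]
  simp only [Nat.add_sub_cancel] at h1 h3
  have ht : 1 ≤ t := by omega
  have e1 : (t + 1) ^ 2 - 1 = t * (t + 2) := by
    have : (t + 1) ^ 2 = t * (t + 2) + 1 := by ring
    omega
  rw [e1] at h3 ⊢
  -- `N = (t+1)^2`
  have hN' : N = (t + 1) ^ 2 := by
    have : N * t = (t + 1) ^ 2 * t := by
      have h5 : (t + 1) ^ 3 = (t + 1) ^ 2 * t + (t + 1) ^ 2 := by ring
      omega
    exact Nat.eq_of_mul_eq_mul_right (by omega) this
  have hH' : 2 * H = (t + 2) * (t + 1) := by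
    have : (2 * H) * (t * (t + 1)) = ((t + 2) * (t + 1)) * (t * (t + 1)) := by
      calc (2 * H) * (t * (t + 1)) = H * (2 * t) * (t + 1) := by ring
        _ = t * (t + 2) * (t + 1) ^ 2 := h3
        _ = ((t + 2) * (t + 1)) * (t * (t + 1)) := by ring
    exact Nat.eq_of_mul_eq_mul_right (Nat.mul_pos (by omega) (by omega)) this
  have hE' : 2 * E = (t + 1) * t := by
    have h6 : 2 * E + 2 * H = 2 * (t + 1) ^ 2 := by rw [← hN']; omega
    have h7 : 2 * (t + 1) ^ 2 = (t + 1) * t + (t + 2) * (t + 1) := by ring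
    omega
  calc 2 * (t + 1 + 1) * E = (t + 2) * (2 * E) := by ring
    _ = (t + 2) * ((t + 1) * t) := by rw [hE']
    _ = (t + 1) * (t * (t + 2)) := by ring

end three

end Cfsg.Agent.Helper7.QEll
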