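import Mathlib
import Cfsg.Agent.Helper7.QEllC

set_option autoImplicit false
set_option linter.unusedSectionVars false
set_option linter.unusedVariables false

/-!
# The number of subspaces not of plus type of a quadratic space of odd dimension (odd characteristic)
-/

namespace Cfsg.Agent.Helper7.QEll

open Module Cfsg.Agent.Helper7.POrd Cfsg.Agent.Helper7.SpOrd Cfsg.Agent.Helper7.SpTI
  Cfsg.Agent.Helper7.OrTS Cfsg.Agent.Helper8.QuadForm Cfsg.Agent.Helper8.OrthOrder Cfsg.Agent.Helper7.SpUn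
  Cfsg.Agent.Helper7.QTy

universe u

variable {F : Type*} [Field F] {V : Type u} [AddCommGroup V] [Module F V]

section count

variable [Fintype F] [Finite V]

/-- **the anisotropic planes of a nondegenerate space of odd dimension `2(e+1)+1`.** -/
theorem card_ell_two (h2 : (2 : F) ≠ 0) {Q : QuadraticForm F V} (hV : ND (QuadraticMap.polarBilin Q) ⊤) :
    ∀ (e : ℕ) (U : Submodule F V), ND (QuadraticMap.polarBilin Q) U → finrank F ↥U = 2 * (e + 1) + 1 →
      2 * (Fintype.card F + 1) * Nat.card (EllIn Q U 2) =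
        Fintype.card F ^ (2 * e + 1) * (Fintype.card F ^ (2 * e + 2) - 1) := by
  classical
  have hfd : FiniteDimensional F V := Module.Finite.of_finite
  have hrefl := pB_refl Q
  intro e
  induction e with
  | zero =>
    intro U hU hd
    have := card_ell_two_of_three h2 hV hU (by omega)
    rw [this]
    simp
  | succ e ih =>
    intro U hU hd
    have hrel := card_mul_of_rel (A := QPair Q U) (B := EllIn Q U 2)
      (fun ef W => W.1 ≤ perpPair Q ef.1.1 ef.1.2)
      (kA := 2 * (Fintype.card F + 1)) (kB := Fintype.card F)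
      (cA := Fintype.card F ^ (2 * e + 1) * (Fintype.card F ^ (2 * e + 2) - 1))
      (cB := (Fintype.card F ^ (2 * (e + 1)) - 1) * Fintype.card F ^ (2 * (e + 1))) ?_ ?_
    · have hQU := card_qpair_odd h2 hU (e := e + 2) (by omega)
      obtain ⟨q, hq⟩ : ∃ q, q = Fintype.card F := ⟨_, rfl⟩
      have hq2 : 2 ≤ q := by rw [hq]; exact two_le_card
      rw [← hq] at hrel hQU ⊢
      obtain ⟨y, hy⟩ : ∃ y, y = q ^ (2 * e + 1) := ⟨_, rfl⟩
      have hy0 : 0 < y := by rw [hy]; exact Nat.pow_pos (by omega)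
      have e1 : q ^ (2 * e + 2) = y * q := by rw [hy]; ring
      have e1' : q ^ (2 * (e + 1)) = y * q := by rw [hy]; ring
      have e2 : q ^ (2 * (e + 1) + 1) = y * q * q := by rw [hy]; ring
      have e3 : q ^ (2 * (e + 1) + 2) = y * q * q * q := by rw [hy]; ring
      have e4 : q ^ (2 * (e + 2)) = y * q * q * q := by rw [hy]; ring
      rw [← hy, e1, e1'] at hrel
      rw [e4] at hQU
      rw [e2, e3]
      obtain ⟨A, hA⟩ : ∃ A, A = y * q - 1 := ⟨_, rfl⟩
      obtain ⟨B, hB⟩ : ∃ B, B = y * q * q * q - 1 := ⟨_, rfl⟩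
      have hA0 : 0 < A := by
        have : 2 ≤ y * q := by nlinarith
        omega
      rw [← hA] at hrel
      rw [← hB] at hQU ⊢
      obtain ⟨P, hP⟩ : ∃ P, P = Nat.card (QPair Q U) := ⟨_, rfl⟩
      obtain ⟨E, hE⟩ : ∃ E, E = Nat.card (EllIn Q U 2) := ⟨_, rfl⟩
      rw [← hP] at hQU
      rw [← hP, ← hE] at hrel
      rw [← hE]
      have hX : 0 < A * (y * q) := Nat.mul_pos hA0 (Nat.mul_pos hy0 (by omega))
      apply Nat.eq_of_mul_eq_mul_right hX
      calc 2 * (q + 1) * E * (A * (y * q)) = E * (A * (y * q)) * (2 * (q + 1)) := by ring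
        _ = P * (y * A) * q := hrel.symm
        _ = (P * q) * (y * A) := by ring
        _ = (B * (y * q * q * q)) * (y * A) := by rw [hQU]
        _ = y * q * q * B * (A * (y * q)) := by ring
    · rintro ⟨⟨e', f'⟩, heU, hfU, he, hf, hef⟩
      rw [Nat.card_congr (fibPerpEquiv Q U 2 e' f'), mul_comm]
      obtain ⟨hnd', hdim', -⟩ := perpPair_inf_props (e := e') (f := f') he hf hef hU heU hfU
      rw [hd] at hdim'
      exact ih (perpPair Q e' f' ⊓ U) hnd' (by omega)
    · rintro ⟨W, hWU, hWd, hWnd, hWn⟩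
      rw [Nat.card_congr (fibOrthEquiv Q U W)]
      have h5 := finrank_perp_inf hrefl hWnd hWU
      exact card_qpair_odd h2 (nd_perp_inf hrefl hWnd hU hWU) (e := e + 1) (by omega)

/-- the cofactor. -/
def aE (q : ℕ) : ℕ → ℕ
  | 0 => 2 * (q + 1)
  | h + 1 => (nuM q (h + 1) - 1) * q ^ (2 * (h + 1) + 1) * aE q h

/-- the product. -/
def bE (q : ℕ) : ℕ → ℕ → ℕ
  | d, 0 => q ^ (2 * d - 1) * (q ^ (2 * d) - 1)
  | d, h + 1 => (q ^ (2 * d) - 1) * q ^ (2 * d) * bE q (d - 1) h

/-- **the number of `2(h+1)`-spaces not of plus type of a space of odd dimension**, in product form. -/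
theorem card_ellIn_mul (h2 : (2 : F) ≠ 0) {Q : QuadraticForm F V} (hV : ND (QuadraticMap.polarBilin Q) ⊤) :
    ∀ (h d : ℕ) (U : Submodule F V), ND (QuadraticMap.polarBilin Q) U → finrank F ↥U = 2 * d + 1 →
      h + 1 ≤ d →
      Nat.card (EllIn Q U (2 * (h + 1))) * aE (Fintype.card F) h = bE (Fintype.card F) d h := by
  classical
  have hfd : FiniteDimensional F V := Module.Finite.of_finite
  have hrefl := pB_refl Q
  intro h
  induction h with
  | zero =>
    intro d U hU hd hhd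
    obtain ⟨e, rfl⟩ : ∃ e, d = e + 1 := ⟨d - 1, by omega⟩
    have := card_ell_two h2 hV e U hU hd
    have e1 : 2 * (e + 1) - 1 = 2 * e + 1 := by omega
    have e2 : 2 * (e + 1) = 2 * e + 2 := by ring
    show Nat.card (EllIn Q U (2 * (0 + 1))) * (2 * (Fintype.card F + 1)) =
      Fintype.card F ^ (2 * (e + 1) - 1) * (Fintype.card F ^ (2 * (e + 1)) - 1)
    rw [e1, e2, ← this]
    ring
  | succ h ih =>
    intro d U hU hd hhd
    have hrel := card_mul_of_rel (A := QPair Q U) (B := EllIn Q U (2 * (h + 1 + 1)))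
      (fun ef W => ef.1.1 ∈ W.1 ∧ ef.1.2 ∈ W.1)
      (kA := aE (Fintype.card F) h) (kB := Fintype.card F)
      (cA := bE (Fintype.card F) (d - 1) h)
      (cB := (nuM (Fintype.card F) (h + 1) - 1) * Fintype.card F ^ (2 * (h + 1) + 1)) ?_ ?_
    · have hQU := card_qpair_odd h2 hU (e := d) hd
      show Nat.card (EllIn Q U (2 * (h + 1 + 1))) *
          ((nuM (Fintype.card F) (h + 1) - 1) * Fintype.card F ^ (2 * (h + 1) + 1) * aE (Fintype.card F) h) =
        (Fintype.card F ^ (2 * d) - 1) * Fintype.card F ^ (2 * d) * bE (Fintype.card F) (d - 1) h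
      rw [← hQU]
      calc Nat.card (EllIn Q U (2 * (h + 1 + 1))) *
            ((nuM (Fintype.card F) (h + 1) - 1) * Fintype.card F ^ (2 * (h + 1) + 1) * aE (Fintype.card F) h)
          = Nat.card (EllIn Q U (2 * (h + 1 + 1))) *
            ((nuM (Fintype.card F) (h + 1) - 1) * Fintype.card F ^ (2 * (h + 1) + 1)) * aE (Fintype.card F) h := by
            ring
        _ = Nat.card (QPair Q U) * bE (Fintype.card F) (d - 1) h * Fintype.card F := hrel.symm
        _ = Nat.card (QPair Q U) * Fintype.card F * bE (Fintype.card F) (d - 1) h := by ring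
    · rintro ⟨⟨e', f'⟩, heU, hfU, he, hf, hef⟩
      rw [Nat.card_congr (fibEllEquiv hV U (m := 2 * (h + 1)) (m' := 2 * (h + 1 + 1)) (by ring) he hf hef
        heU hfU)]
      obtain ⟨hnd', hdim', -⟩ := perpPair_inf_props (e := e') (f := f') he hf hef hU heU hfU
      rw [hd] at hdim'
      exact ih (d - 1) (perpPair Q e' f' ⊓ U) hnd' (by omega) (by omega)
    · rintro ⟨W, hWU, hWd, hWnd, hWn⟩
      rw [Nat.card_congr (fibInEquiv Q hWU)]
      exact card_qpair_ell hWnd (k := h + 1) hWd hWn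

end count

theorem exists_dvd_of_dvd_bE {q r : ℕ} (hr : r.Prime) (hrq : ¬ r ∣ q) :
    ∀ h d : ℕ, r ∣ bE q d h → ∃ j < h + 1, r ∣ q ^ (2 * (d - j)) - 1 := by
  intro h
  induction h with
  | zero =>
    intro d hdvd
    refine ⟨0, by omega, ?_⟩
    rcases (Nat.Prime.dvd_mul hr).mp hdvd with h3 | h3
    · exact absurd (hr.dvd_of_dvd_pow h3) hrq
    · exact h3
  | succ h ih =>
    intro d hdvd
    have hdvd' : r ∣ (q ^ (2 * d) - 1) * q ^ (2 * d) * bE q (d - 1) h := hdvd
    rcases (Nat.Prime.dvd_mul hr).mp hdvd' with h3 | h3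
    · rcases (Nat.Prime.dvd_mul hr).mp h3 with h4 | h4
      · exact ⟨0, by omega, h4⟩
      · exact absurd (hr.dvd_of_dvd_pow h4) hrq
    · obtain ⟨j, hj, hjd⟩ := ih (d - 1) h3
      refine ⟨j + 1, by omega, ?_⟩
      have : d - (j + 1) = d - 1 - j := by omega
      rw [this]
      exact hjd

/-- a prime other than the characteristic dividing the number of `2h`-spaces not of plus type divides some
`q^(2d - 2j) - 1`, `j < h`. -/
theorem exists_dvd_of_dvd_card_ellIn [Fintype F] [Finite V] {p : ℕ} [Fact p.Prime] [CharP F p]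
    (h2 : (2 : F) ≠ 0) {Q : QuadraticForm F V} (hV : ND (QuadraticMap.polarBilin Q) ⊤) {d : ℕ}
    (hn : finrank F V = 2 * d + 1) (h : ℕ) (hh : 1 ≤ h) (hhd : h ≤ d) {r : ℕ} (hr : r.Prime) (hrp : r ≠ p)
    (hdvd : r ∣ Nat.card (EllIn Q ⊤ (2 * h))) :
    ∃ j < h, r ∣ Fintype.card F ^ (2 * (d - j)) - 1 := by
  have hp : p.Prime := Fact.out
  obtain ⟨h', rfl⟩ : ∃ h', h = h' + 1 := ⟨h - 1, by omega⟩
  have h1 := card_ellIn_mul h2 hV h' d ⊤ hV (by rw [finrank_top]; exact hn) hhd
  have h3 : r ∣ bE (Fintype.card F) d h' := by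
    rw [← h1]
    exact Dvd.dvd.mul_right hdvd _
  have hrq : ¬ r ∣ Fintype.card F := by
    intro h4
    obtain ⟨n, -, hn'⟩ := FiniteField.card F p
    rw [hn'] at h4
    exact hrp ((Nat.prime_dvd_prime_iff_eq hr hp).mp (hr.dvd_of_dvd_pow h4))
  exact exists_dvd_of_dvd_bE hr hrq h' d h3

end Cfsg.Agent.Helper7.QEll
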