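import Mathlib
import Cfsg.Agent.Helper7.QEllE

set_option autoImplicit false
set_option linter.unusedSectionVars false
set_option linter.unusedVariables false

/-!
# Involutions fix subspaces not of plus type of every even dimension (odd dimension, odd characteristic)
-/

namespace Cfsg.Agent.Helper7.QEll

open Module Cfsg.Agent.Helper7.POrd Cfsg.Agent.Helper7.SpOrd Cfsg.Agent.Helper7.SpTI
  Cfsg.Agent.Helper7.OrTS Cfsg.Agent.Helper8.QuadForm Cfsg.Agent.Helper8.Reflections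
  Cfsg.Agent.Helper8.WittQuad Cfsg.Agent.Helper7.QTy

universe u

variable {F : Type*} [Field F] {V : Type u} [AddCommGroup V] [Module F V]

variable [Fintype F] [Finite V]

/-- **an invariant subspace not of plus type from an orthogonal splitting into two pointwise stable parts.** -/
theorem exists_ell_invt_of_split (h2 : (2 : F) ≠ 0) {Q : QuadraticForm F V}
    (hV : ND (QuadraticMap.polarBilin Q) ⊤) {T : Module.End F V} (hQT : ∀ v, Q (T v) = Q v) (hT : T ^ 2 = 1)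
    {d m : ℕ} (hn : finrank F V = 2 * d + 1) {N₁ N₂ : Submodule F V}
    (h₁ : ND (QuadraticMap.polarBilin Q) N₁) (h₂ : ND (QuadraticMap.polarBilin Q) N₂)
    (h12 : N₂ ≤ LinearMap.BilinForm.orthogonal (QuadraticMap.polarBilin Q) N₁)
    (hsum : finrank F ↥N₁ + finrank F ↥N₂ = 2 * d + 1) (hodd : Odd (finrank F ↥N₁))
    (hinv₁ : ∀ S : Submodule F V, S ≤ N₁ → S ∈ Module.End.invtSubmodule T)
    (hinv₂ : ∀ S : Submodule F V, S ≤ N₂ → S ∈ Module.End.invtSubmodule T)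
    (hme : Even m) (hm2 : 2 ≤ m) (hm : m ≤ 2 * d) :
    ∃ W : Submodule F V, W ∈ Module.End.invtSubmodule T ∧ ND (QuadraticMap.polarBilin Q) W ∧
      finrank F ↥W = m ∧ ¬ Hyp Q W := by
  have hfd : FiniteDimensional F V := Module.Finite.of_finite
  have hrefl := pB_refl Q
  have hiso := iso_of_Q hQT
  obtain ⟨mh, hmh⟩ := hme
  obtain ⟨a, ha⟩ := hodd
  have heven₂ : Even (finrank F ↥N₂) := ⟨d - a, by omega⟩
  by_cases hc1 : m < finrank F ↥N₁
  · obtain ⟨W, hWN, hWnd, hWd, hWy⟩ := exists_not_hyp_sub_odd h2 hV h₁ (h := mh - 1) (by omega)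
    exact ⟨W, hinv₁ W hWN, hWnd, by omega, hWy⟩
  by_cases hc2 : m < finrank F ↥N₂
  · obtain ⟨W, hWN, hWnd, hWd, hWy⟩ := exists_not_hyp_sub_odd h2 hV h₂ (h := mh - 1) (by omega)
    exact ⟨W, hinv₂ W hWN, hWnd, by omega, hWy⟩
  rw [not_lt] at hc1 hc2
  have hperp : ∀ W₁ W₂ : Submodule F V, W₁ ≤ N₁ → W₂ ≤ N₂ →
      W₂ ≤ LinearMap.BilinForm.orthogonal (QuadraticMap.polarBilin Q) W₁ := fun W₁ W₂ hW₁ hW₂ =>
    (hW₂.trans h12).trans (LinearMap.BilinForm.orthogonal_le hW₁)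
  by_cases hc3 : m - 2 * a < finrank F ↥N₂
  · obtain ⟨W₁, hW₁N, hW₁nd, hW₁d, hW₁y⟩ := exists_hyp_sub hV h₁ (h := a) (by omega)
    obtain ⟨W₂, hW₂N, hW₂nd, hW₂d, hW₂y⟩ := exists_not_hyp_sub_odd h2 hV h₂ (h := mh - a - 1) (by omega)
    refine ⟨W₁ ⊔ W₂, sup_invt (hinv₁ W₁ hW₁N) (hinv₂ W₂ hW₂N),
      nd_sup hrefl hW₁nd hW₂nd (hperp W₁ W₂ hW₁N hW₂N), ?_,
      not_hyp_sup_left hV hW₁nd hW₂nd (hperp W₁ W₂ hW₁N hW₂N) hW₁y hW₂y⟩
    rw [finrank_sup_of_le_perp hrefl hW₁nd (hperp W₁ W₂ hW₁N hW₂N), hW₁d, hW₂d]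
    omega
  rw [not_lt] at hc3
  have hm2d : m = 2 * d := by omega
  have hN₂d : finrank F ↥N₂ = m - 2 * a := by omega
  by_cases hy₂ : Hyp Q N₂
  · by_cases ha0 : a = 0
    · -- the corner case: `N₁` is a line
      obtain ⟨H₀, -, hH₀nd, hH₀d, hH₀y⟩ := exists_not_hyp_sub_odd h2 hV hV (h := d - 1)
        (by rw [finrank_top, hn]; omega)
      have hPnd := nd_perp_inf hrefl hH₀nd hV le_top
      have hPd := finrank_perp_inf hrefl hH₀nd (le_top : H₀ ≤ ⊤)
      rw [inf_top_eq] at hPnd hPd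
      rw [finrank_top, hn, hH₀d] at hPd
      have hPne : LinearMap.BilinForm.orthogonal (QuadraticMap.polarBilin Q) H₀ ≠ ⊥ := by
        intro h
        rw [h, finrank_bot] at hPd
        omega
      obtain ⟨z, hz, hz0⟩ := Submodule.exists_mem_ne_zero_of_ne_bot hPne
      have hQz : Q z ≠ 0 := nonsing_of_line hPnd (by omega) hz hz0
      obtain ⟨-, hzPnd, hzPd⟩ := line_props h2 hV hQz
      have hH₀eq : H₀ = LinearMap.BilinForm.orthogonal (QuadraticMap.polarBilin Q) (Submodule.span F {z}) := by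
        apply Submodule.eq_of_le_of_finrank_eq
        · intro x hx
          rw [mem_perp_line]
          exact hrefl _ _ (mem_perp.mp hz x hx)
        · rw [hH₀d]
          omega
      rw [hH₀eq] at hH₀y
      obtain ⟨w, hwN, hQw⟩ := exists_repr_in h₂ (by omega) (Q z)
      have hQw0 : Q w ≠ 0 := by rw [hQw]; exact hQz
      have hwy : ¬ Hyp Q (LinearMap.BilinForm.orthogonal (QuadraticMap.polarBilin Q) (Submodule.span F {w})) :=
        fun hy => hH₀y (hyp_perp_of_Q_eq h2 hQw hQw0 hy)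
      obtain ⟨-, hwPnd, hwPd⟩ := line_props h2 hV hQw0
      refine ⟨_, perp_invt hiso (by norm_num) hT (hinv₂ _ ?_), hwPnd, by omega, hwy⟩
      rw [Submodule.span_singleton_le_iff_mem]
      exact hwN
    · obtain ⟨W₁, hW₁N, hW₁nd, hW₁d, hW₁y⟩ := exists_not_hyp_sub_odd h2 hV h₁ (h := a - 1) (by omega)
      refine ⟨W₁ ⊔ N₂, sup_invt (hinv₁ W₁ hW₁N) (hinv₂ N₂ le_rfl),
        nd_sup hrefl hW₁nd h₂ (hperp W₁ N₂ hW₁N le_rfl), ?_,
        not_hyp_sup_right hV hW₁nd h₂ (hperp W₁ N₂ hW₁N le_rfl) hW₁y hy₂⟩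
      rw [finrank_sup_of_le_perp hrefl hW₁nd (hperp W₁ N₂ hW₁N le_rfl), hW₁d]
      omega
  · obtain ⟨W₁, hW₁N, hW₁nd, hW₁d, hW₁y⟩ := exists_hyp_sub hV h₁ (h := a) (by omega)
    refine ⟨W₁ ⊔ N₂, sup_invt (hinv₁ W₁ hW₁N) (hinv₂ N₂ le_rfl),
      nd_sup hrefl hW₁nd h₂ (hperp W₁ N₂ hW₁N le_rfl), ?_,
      not_hyp_sup_left hV hW₁nd h₂ (hperp W₁ N₂ hW₁N le_rfl) hW₁y hy₂⟩
    rw [finrank_sup_of_le_perp hrefl hW₁nd (hperp W₁ N₂ hW₁N le_rfl), hW₁d]
    omega

/-- **involutions fix subspaces not of plus type of every even dimension.** -/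
theorem exists_ell_invt_two (h2 : (2 : F) ≠ 0) {Q : QuadraticForm F V}
    (hV : ND (QuadraticMap.polarBilin Q) ⊤) {T : Module.End F V} (hQT : ∀ v, Q (T v) = Q v) (hT : T ^ 2 = 1)
    {d m : ℕ} (hn : finrank F V = 2 * d + 1) (hme : Even m) (hm2 : 2 ≤ m) (hm : m ≤ 2 * d) :
    ∃ W : Submodule F V, W ∈ Module.End.invtSubmodule T ∧ ND (QuadraticMap.polarBilin Q) W ∧
      finrank F ↥W = m ∧ ¬ Hyp Q W := by
  have hfd : FiniteDimensional F V := Module.Finite.of_finite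
  have hrF := two_cast_ne_zero h2
  have hrefl := pB_refl Q
  have hiso := iso_of_Q hQT
  have hfxnd : ND (QuadraticMap.polarBilin Q) (fixS T) := by
    have := nd_inf_fix hrefl hiso hrF hT (Module.End.invtSubmodule.top_mem T) hV
    rwa [top_inf_eq] at this
  have hmvnd : ND (QuadraticMap.polarBilin Q) (movS 2 T) := by
    have := nd_inf_mov hrefl hiso hrF hT (Module.End.invtSubmodule.top_mem T) hV
    rwa [top_inf_eq] at this
  have hsum := finrank_fix_add_mov hrF hT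
  rw [hn] at hsum
  have hp1 : movS 2 T ≤ LinearMap.BilinForm.orthogonal (QuadraticMap.polarBilin Q) (fixS T) := by
    intro v hv
    rw [mem_perp]
    intro w hw
    exact fix_perp_mov hiso hrF hw hv
  have hp2 : fixS T ≤ LinearMap.BilinForm.orthogonal (QuadraticMap.polarBilin Q) (movS 2 T) := by
    intro v hv
    rw [mem_perp]
    intro w hw
    exact hrefl _ _ (fix_perp_mov hiso hrF hv hw)
  rcases Nat.even_or_odd (finrank F ↥(fixS T)) with he | ho
  · have ho' : Odd (finrank F ↥(movS 2 T)) := by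
      rcases Nat.even_or_odd (finrank F ↥(movS 2 T)) with he' | ho'
      · exfalso
        obtain ⟨x, hx⟩ := he
        obtain ⟨y, hy⟩ := he'
        omega
      · exact ho'
    exact exists_ell_invt_of_split h2 hV hQT hT hn hmvnd hfxnd hp2 (by omega) ho'
      (fun S hS => invt_of_le_movS_two hS) (fun S hS => invt_of_le_fixS hS) hme hm2 hm
  · exact exists_ell_invt_of_split h2 hV hQT hT hn hfxnd hmvnd hp1 hsum ho
      (fun S hS => invt_of_le_fixS hS) (fun S hS => invt_of_le_movS_two hS) hme hm2 hm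

end Cfsg.Agent.Helper7.QEll
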