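import Mathlib
import Cfsg.Agent.Helper7.QEllF

set_option autoImplicit false
set_option linter.unusedSectionVars false
set_option linter.unusedVariables false

/-!
# `Ω_{2d+1}(q)` on subspaces not of plus type: the standard space, necessity for odd `r ≠ p`
-/

namespace Cfsg.Agent.Helper7.QEll

open Matrix Module Cfsg.Agent.Helper7.POrd Cfsg.Agent.Helper7.SpOrd Cfsg.Agent.Helper7.SpTI
  Cfsg.Agent.Helper7.OrTS Cfsg.Agent.Helper8.QuadForm Cfsg.Agent.Helper8.StdForms Cfsg.Agent.Helper7.QTy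

variable {F : Type*} [Field F]

theorem card_ell_eq (d m : ℕ) :
    Nat.card {W : Submodule F (Unit ⊕ (Fin d ⊕ Fin d) → F) // finrank F ↥W = m ∧
      Cfsg.Geo.IsNondegenerateOn (QuadraticMap.polar (Cfsg.quadFormOdd d F)) W ∧
      ¬ Cfsg.Geo.IsPlusTypeOn (Cfsg.quadFormOdd d F) W} = Nat.card (EllIn (oddForm F d) ⊤ m) := by
  apply Nat.card_congr
  apply Equiv.subtypeEquivRight
  intro W
  rw [nd_iff_std, hyp_iff_std]
  exact ⟨fun h => ⟨le_top, h⟩, fun h => h.2⟩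

theorem to_statement_e {d m : ℕ} (x : GL (Unit ⊕ (Fin d ⊕ Fin d)) F)
    {W : Submodule F (Unit ⊕ (Fin d ⊕ Fin d) → F)}
    (hW : W ∈ Module.End.invtSubmodule
      (Matrix.toLin' (x : Matrix (Unit ⊕ (Fin d ⊕ Fin d)) (Unit ⊕ (Fin d ⊕ Fin d)) F)))
    (hWnd : ND (QuadraticMap.polarBilin (oddForm F d)) W) (hWd : finrank F ↥W = m)
    (hWy : ¬ Hyp (oddForm F d) W) :
    ∃ W : Submodule F (Unit ⊕ (Fin d ⊕ Fin d) → F), (finrank F ↥W = m ∧
      Cfsg.Geo.IsNondegenerateOn (QuadraticMap.polar (Cfsg.quadFormOdd d F)) W ∧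
      ¬ Cfsg.Geo.IsPlusTypeOn (Cfsg.quadFormOdd d F) W) ∧
      W.map (Matrix.toLin' (x : Matrix (Unit ⊕ (Fin d ⊕ Fin d)) (Unit ⊕ (Fin d ⊕ Fin d)) F)) ≤ W := by
  refine ⟨W, ⟨hWd, (nd_iff_std d W).mpr hWnd, fun h => hWy ((hyp_iff_std d W).mp h)⟩, ?_⟩
  rw [Submodule.map_le_iff_le_comap]
  exact (Module.End.mem_invtSubmodule _).mp hW

variable [Fintype F] {p : ℕ} [Fact p.Prime] [CharP F p] {r : ℕ} [Fact r.Prime]

/-- **necessity**, `r` odd. -/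
theorem cond_of_forall_ell (h2F : (2 : F) ≠ 0) (hr2 : r ≠ 2) (hrp : r ≠ p) {d m : ℕ} (hme : Even m)
    (hm2 : 2 ≤ m) (hm : m ≤ 2 * d) (hdvd : r ∣ Nat.card (EllIn (oddForm F d) ⊤ m))
    (hall : ∀ x : GL (Unit ⊕ (Fin d ⊕ Fin d)) F, x ∈ Cfsg.Geo.omegaGL (Cfsg.quadFormOdd d F) →
      orderOf x = r →
      ∃ W : Submodule F (Unit ⊕ (Fin d ⊕ Fin d) → F), (finrank F ↥W = m ∧
        Cfsg.Geo.IsNondegenerateOn (QuadraticMap.polar (Cfsg.quadFormOdd d F)) W ∧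
        ¬ Cfsg.Geo.IsPlusTypeOn (Cfsg.quadFormOdd d F) W) ∧
        W.map (Matrix.toLin' (x : Matrix (Unit ⊕ (Fin d ⊕ Fin d)) (Unit ⊕ (Fin d ⊕ Fin d)) F)) ≤ W) :
    cOf (orderOf ((Fintype.card F : ℕ) : ZMod r)) ≤ m ∧
    m % cOf (orderOf ((Fintype.card F : ℕ) : ZMod r)) <
      (2 * d + 1) % cOf (orderOf ((Fintype.card F : ℕ) : ZMod r)) ∧
    (0 < m % cOf (orderOf ((Fintype.card F : ℕ) : ZMod r)) ∨
      (Even (orderOf ((Fintype.card F : ℕ) : ZMod r)) ∧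
        Odd (m / orderOf ((Fintype.card F : ℕ) : ZMod r)))) := by
  have hr : r.Prime := Fact.out
  have hipos : 0 < orderOf ((Fintype.card F : ℕ) : ZMod r) := orderOf_q_pos hrp
  have hcpos := cOf_pos hipos
  obtain ⟨mh, hmh⟩ := hme
  have hm' : m = 2 * mh := by omega
  rw [hm'] at hdvd
  have hV := std_nd_top h2F d
  obtain ⟨j, hjm, hj⟩ := exists_dvd_of_dvd_card_ellIn h2F hV (finrank_std_odd d) mh (by omega) (by omega)
    hr hrp hdvd
  have hij : orderOf ((Fintype.card F : ℕ) : ZMod r) ∣ 2 * (d - j) := orderOf_dvd_of_dvd_pow_sub_one hj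
  have hcj : cOf (orderOf ((Fintype.card F : ℕ) : ZMod r)) ∣ 2 * (d - j) := cOf_dvd_of_dvd hij
  have hcd : cOf (orderOf ((Fintype.card F : ℕ) : ZMod r)) ≤ 2 * d := by
    have := Nat.le_of_dvd (by omega) hcj
    omega
  obtain ⟨x, hxΩ, hxr, hx1, hxfix⟩ := exists_elt_small_fix h2F hr2 hrp d hcd
  obtain ⟨W, ⟨hWd, hWnd, hWy⟩, hWinv⟩ := hall x hxΩ (orderOf_eq_prime hxr hx1)
  have hxiso : x ∈ Cfsg.isometryGroup F (Cfsg.quadFormOdd d F) := by
    obtain ⟨y, -, rfl⟩ := hxΩ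
    exact y.2
  have hWinv' : W ∈ Module.End.invtSubmodule
      (Matrix.toLin' (x : Matrix (Unit ⊕ (Fin d ⊕ Fin d)) (Unit ⊕ (Fin d ⊕ Fin d)) F)) := by
    rw [Module.End.mem_invtSubmodule, ← Submodule.map_le_iff_le_comap]
    exact hWinv
  obtain ⟨c, hc⟩ : ∃ c, c = cOf (orderOf ((Fintype.card F : ℕ) : ZMod r)) := ⟨_, rfl⟩
  rw [← hc] at hcj hcd hxfix hcpos ⊢
  have hklt : (2 * d + 1) % c < c := Nat.mod_lt _ hcpos
  have hprops := props_of_ell_invt h2F hr2 hrp hV (std_QT hxiso) (toLin'_pow_eq_one hxr) hWinv'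
    ((nd_iff_std d W).mp hWnd) (fun h => hWy ((hyp_iff_std d W).mpr h)) (by rw [← hc]; omega)
  rw [hWd, ← hc] at hprops
  obtain ⟨hp1, hp2⟩ := hprops
  -- parities
  obtain ⟨h, hh⟩ : ∃ h, c = 2 * h := by
    obtain ⟨h, hh⟩ := cOf_even (orderOf ((Fintype.card F : ℕ) : ZMod r))
    exact ⟨h, by rw [hc]; omega⟩
  have hmmod : m % c = 2 * (mh % h) := by
    rw [hm', hh, Nat.mul_mod_mul_left]
  have hkodd : ∃ z, (2 * d + 1) % c = 2 * z + 1 := by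
    have hdm := Nat.div_add_mod (2 * d + 1) c
    rw [hh] at hdm hklt
    have hmul : 2 * h * ((2 * d + 1) / (2 * h)) = 2 * (h * ((2 * d + 1) / (2 * h))) := by ring
    rw [hmul] at hdm
    rw [hh]
    exact ⟨((2 * d + 1) % (2 * h)) / 2, by omega⟩
  obtain ⟨z, hz⟩ := hkodd
  have hlt : m % c < (2 * d + 1) % c := by omega
  refine ⟨?_, hlt, ?_⟩
  · by_contra hcon
    rw [not_le] at hcon
    have hmm : m % c = m := Nat.mod_eq_of_lt hcon
    obtain ⟨s, hs⟩ := hcj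
    have h5 : (2 * d + 1) % c ≤ 2 * j + 1 := by
      have : 2 * d + 1 = c * s + (2 * j + 1) := by omega
      rw [this, Nat.mul_add_mod]
      exact Nat.mod_le _ _
    omega
  · by_cases hm0 : m % c = 0
    · exact Or.inr (hp2 hm0)
    · left
      omega

end Cfsg.Agent.Helper7.QEll
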