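import Mathlib
import Cfsg.Agent.Helper7.QEllG
import Cfsg.Agent.Helper7.OrUnL

/-!
# `Ω_{2d+1}(q)`, `q` odd: an element of order `p` fixing no nondegenerate `m`-space not of plus type
-/

set_option autoImplicit false

namespace Cfsg.Agent.Helper7.QEll

open Matrix Module Cfsg.Agent.Helper8.UJ Cfsg.Agent.Helper7.SpUn Cfsg.Agent.Helper7.SpOrd
  Cfsg.Agent.Helper8.SpU Cfsg.Agent.Helper8.StdForms Cfsg.Agent.Helper7.OrUn

variable {F : Type*} [Field F] [Fintype F] {p : ℕ} [Fact p.Prime] [CharP F p]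

/-- **`Ω_{2d+1}(q)`, `q` odd: some element of order `p` fixes no nondegenerate `m`-space (`m` even) which is
not of plus type.** -/
theorem not_forall_ell_char (hp2 : p ≠ 2) {d m : ℕ} (hd : 2 ≤ d) (hme : Even m) :
    ¬ ∀ x : GL (Unit ⊕ (Fin d ⊕ Fin d)) F, x ∈ Cfsg.Geo.omegaGL (Cfsg.quadFormOdd d F) →
      orderOf x = p →
      ∃ W : Submodule F (Unit ⊕ (Fin d ⊕ Fin d) → F), (Module.finrank F ↥W = m ∧
        Cfsg.Geo.IsNondegenerateOn (QuadraticMap.polar (Cfsg.quadFormOdd d F)) W ∧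
        ¬ Cfsg.Geo.IsPlusTypeOn (Cfsg.quadFormOdd d F) W) ∧
        W.map (Matrix.toLin' (x : Matrix (Unit ⊕ (Fin d ⊕ Fin d)) (Unit ⊕ (Fin d ⊕ Fin d)) F)) ≤ W := by
  classical
  intro hall
  have hp : p.Prime := Fact.out
  have hp3 : 3 ≤ p := by
    have := hp.two_le
    omega
  have h2 : (2 : F) ≠ 0 := by
    intro h
    have h1 : ((2 : ℕ) : F) = 0 := by rw [Nat.cast_ofNat]; exact h
    rw [CharP.cast_eq_zero_iff F p 2] at h1
    exact hp2 ((Nat.prime_dvd_prime_iff_eq hp Nat.prime_two).mp h1)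
  obtain ⟨c, k, hc, hc0, hc3, hk1, hdk⟩ : ∃ c k : ℕ, Odd c ∧ 0 < c ∧ c ≤ 3 ∧ 1 ≤ k ∧
      2 * d + 1 = 4 * k + c := by
    rcases Nat.even_or_odd' d with ⟨k, hk | hk⟩
    · exact ⟨1, k, odd_one, by norm_num, by norm_num, by omega, by omega⟩
    · exact ⟨3, k, by decide, by norm_num, by norm_num, by omega, by omega⟩
  obtain ⟨μ, hμdef⟩ : ∃ μ : Multiset ℕ, μ = c ::ₘ Multiset.replicate (2 * k) 2 := ⟨_, rfl⟩
  have hμ : ∀ e ∈ μ, 0 < e ∧ e ≤ p := by
    intro e he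
    rw [hμdef] at he
    rcases Multiset.mem_cons.mp he with he | he
    · rw [he]; exact ⟨hc0, by omega⟩
    · rw [Multiset.eq_of_mem_replicate he]
      exact ⟨by norm_num, by omega⟩
  have hμpar : ∀ e : ℕ, Even e → Even (μ.count e) := by
    intro e he
    have hec : e ≠ c := by
      intro hh
      rw [hh] at he
      exact (Nat.not_even_iff_odd.mpr hc) he
    rw [hμdef, Multiset.count_cons_of_ne hec, Multiset.count_replicate]
    split_ifs
    · exact even_two_mul k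
    · exact Even.zero
  have hμsum : μ.sum = 2 * d + 1 := by
    rw [hμdef, Multiset.sum_cons, Multiset.sum_replicate, smul_eq_mul]
    omega
  have hμpos : ∀ a ∈ μ, 1 ≤ a := fun a ha => (hμ a ha).1
  have h2μ : (2 : ℕ) ∈ μ := by
    rw [hμdef]
    apply Multiset.mem_cons_of_mem
    rw [Multiset.mem_replicate]
    exact ⟨by omega, rfl⟩
  have hreal : QReal F μ 1 := qReal_of_valid h2 μ hμpar (by rw [hμsum]; exact odd_two_mul_add_one d)
  obtain ⟨x, hxΩ, hxp, hprof⟩ := exists_omega_elt_odd p hp2 hd μ (fun a ha => (hμ a ha).2) hμsum hreal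
  have hxpm : (x : Matrix (Unit ⊕ (Fin d ⊕ Fin d)) (Unit ⊕ (Fin d ⊕ Fin d)) F) ^ p = 1 := by
    rw [← Units.val_pow_eq_pow_val, hxp]
    rfl
  have h1ne : mprof μ 1 ≠ 0 := by
    intro h
    have := (mprof_eq_zero_iff μ 1).mp h 2 h2μ
    omega
  have hx1 : x ≠ 1 := by
    intro hx
    apply h1ne
    rw [← hprof 1, pow_one, hx, Units.val_one, sub_self, Matrix.rank_zero]
  have hord : orderOf x = p := orderOf_eq_prime hxp hx1
  obtain ⟨W, ⟨hWd, hWnd', hWminus⟩, hWinv⟩ := hall x hxΩ hord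
  -- the bilinear form
  obtain ⟨B, hB⟩ : ∃ B : LinearMap.BilinForm F (Unit ⊕ (Fin d ⊕ Fin d) → F),
      B = QuadraticMap.polarBilin (oddForm F d) := ⟨_, rfl⟩
  have hfun : (⇑(oddForm F d) : (Unit ⊕ (Fin d ⊕ Fin d) → F) → F) = Cfsg.quadFormOdd d F := by
    funext v
    exact oddForm_apply F d v
  have hBapp : ∀ u v, B u v = QuadraticMap.polar (Cfsg.quadFormOdd d F) u v := by
    intro u v
    rw [hB, QuadraticMap.polarBilin_apply_apply, hfun]
  have hS : B.IsSymm := by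
    constructor
    intro u v
    rw [hB]
    simp only [QuadraticMap.polarBilin_apply_apply]
    exact QuadraticMap.polar_comm _ u v
  have hxiso : x ∈ Cfsg.isometryGroup F (Cfsg.quadFormOdd d F) := by
    obtain ⟨y, -, rfl⟩ := hxΩ
    exact y.2
  have hxQ := (Cfsg.Agent.Helper8.AutImageOrth.mem_isometryGroup_iff' _ x).mp hxiso
  have hiso : ∀ u v, B ((x : Matrix (Unit ⊕ (Fin d ⊕ Fin d)) (Unit ⊕ (Fin d ⊕ Fin d)) F) *ᵥ u)
      ((x : Matrix (Unit ⊕ (Fin d ⊕ Fin d)) (Unit ⊕ (Fin d ⊕ Fin d)) F) *ᵥ v) = B u v := by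
    intro u v
    rw [hBapp, hBapp]
    unfold QuadraticMap.polar
    rw [← Matrix.mulVec_add, hxQ, hxQ, hxQ]
  have hWnd : ND B W := by
    intro u hu hne
    obtain ⟨-, v, hv, hv'⟩ := hWnd' u hu hne
    exact ⟨v, hv, by rw [hBapp]; exact hv'⟩
  obtain ⟨ν, hνle, hνsum, hνpar, hνprof⟩ :=
    exists_sub_type' hp2 hS _ hxpm hiso μ hμpos hprof W hWnd hWinv
  rw [hWd] at hνsum
  rw [hμdef] at hνle
  by_cases hcν : c ∈ ν
  · obtain ⟨ν', rfl⟩ := Multiset.exists_cons_of_mem hcν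
    rw [Multiset.cons_le_cons_iff] at hνle
    obtain ⟨j, -, rfl⟩ := Multiset.le_replicate_iff.mp hνle
    rw [Multiset.sum_cons, Multiset.sum_replicate, smul_eq_mul] at hνsum
    obtain ⟨t, ht⟩ := hc
    obtain ⟨s, hs⟩ := hme
    omega
  · rw [Multiset.le_cons_of_notMem hcν] at hνle
    obtain ⟨j, -, rfl⟩ := Multiset.le_replicate_iff.mp hνle
    apply hWminus
    rw [← hfun]
    have hWT : W ∈ Module.End.invtSubmodule
        (Matrix.toLin' (x : Matrix (Unit ⊕ (Fin d ⊕ Fin d)) (Unit ⊕ (Fin d ⊕ Fin d)) F)) := by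
      rw [Module.End.mem_invtSubmodule, ← Submodule.map_le_iff_le_comap]
      exact hWinv
    refine plusType_of_twos h2 (oddForm F d) _ ?_ W hWT j ?_
    · intro v
      rw [Matrix.toLin'_apply, oddForm_apply, oddForm_apply]
      exact hxQ v
    · intro i
      rw [hνprof]

end Cfsg.Agent.Helper7.QEll
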