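import Mathlib
import Cfsg.Agent.Helper7.QEllH
import Cfsg.Agent.Helper8.WittQuad

set_option autoImplicit false
set_option linter.unusedSectionVars false
set_option linter.unusedVariables false

/-!
# Nondegenerate subspaces of odd dimension of a quadratic space (odd characteristic): the two isometry classes

`OT Q W c`: `W` is the orthogonal sum of a plus type subspace and a vector of norm `c`.  The class of `c` modulo
squares is determined by `W` (Witt cancellation, through the type of `W ⊥ ⟨z⟩`), and determines `W` up to isometry.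
-/

namespace Cfsg.Agent.Helper7.QPa

open Module Cfsg.Agent.Helper7.POrd Cfsg.Agent.Helper7.SpOrd Cfsg.Agent.Helper7.SpTI
  Cfsg.Agent.Helper7.OrTS Cfsg.Agent.Helper8.QuadForm Cfsg.Agent.Helper8.OrthOrder Cfsg.Agent.Helper7.SpUn
  Cfsg.Agent.Helper7.QTy Cfsg.Agent.Helper7.QEll

universe u

variable {F : Type*} [Field F] {V : Type u} [AddCommGroup V] [Module F V]

/-- frames of all sizes in a plus type space. -/
theorem nonempty_qfr [FiniteDimensional F V] {Q : QuadraticForm F V} (hV : ND (QuadraticMap.polarBilin Q) ⊤)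
    {W : Submodule F V} (hW : ND (QuadraticMap.polarBilin Q) W) {k : ℕ} (hd : finrank F ↥W = 2 * k)
    (hy : Hyp Q W) : ∀ j, j ≤ k → Nonempty (QFr Q W j) := by
  intro j
  induction j with
  | zero =>
    intro _
    exact ⟨⟨(Fin.elim0, Fin.elim0), ⟨fun a => a.elim0, fun a => a.elim0, fun a => a.elim0⟩,
      fun a => a.elim0, fun a => a.elim0⟩⟩
  | succ j ih =>
    intro hj
    obtain ⟨s⟩ := ih (by omega)
    obtain ⟨h1, h2, h3, h4, h5, h6⟩ := qfr_span_props hW s
    have hy' : Hyp Q (LinearMap.BilinForm.orthogonal (QuadraticMap.polarBilin Q) (hspan F s.1) ⊓ W) := by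
      apply hyp_cancel hV _ (hspan F s.1) _ rfl h2 h5 inf_le_left h4
      rw [sup_perp_inf (pB_refl Q) h2 h1]
      exact hy
    obtain ⟨U, hUP, hU, hUd⟩ := hy'
    have hUne : U ≠ ⊥ := by
      intro h0
      rw [h0, finrank_bot, h6, hd] at hUd
      omega
    obtain ⟨e, heU, he0⟩ := Submodule.exists_mem_ne_zero_of_ne_bot hUne
    obtain ⟨f, hfP, hQf, hef⟩ := exists_partner h5 (hUP heU) he0 (hU e heU)
    exact ⟨(qfrEquiv Q W j).symm ⟨s, ⟨(e, f), hUP heU, hfP, hU e heU, hQf, hef⟩⟩⟩

/-- a full frame of a plus type space. -/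
theorem exists_full_frame [FiniteDimensional F V] {Q : QuadraticForm F V}
    (hV : ND (QuadraticMap.polarBilin Q) ⊤) {W : Submodule F V} (hW : ND (QuadraticMap.polarBilin Q) W)
    {k : ℕ} (hd : finrank F ↥W = 2 * k) (hy : Hyp Q W) : ∃ s : QFr Q W k, hspan F s.1 = W := by
  obtain ⟨s⟩ := nonempty_qfr hV hW hd hy k le_rfl
  refine ⟨s, ?_⟩
  obtain ⟨h1, -, h3, -⟩ := qfr_span_props hW s
  exact Submodule.eq_of_le_of_finrank_eq h1 (by rw [h3, hd])

/-- odd type `c`: an orthogonal sum of a plus type subspace and a vector of norm `c`. -/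
def OT (Q : QuadraticForm F V) (W : Submodule F V) (c : F) : Prop :=
  ∃ (H : Submodule F V) (u : V), H ≤ W ∧ ND (QuadraticMap.polarBilin Q) H ∧ Hyp Q H ∧ u ∈ W ∧
    u ∈ LinearMap.BilinForm.orthogonal (QuadraticMap.polarBilin Q) H ∧ Q u = c ∧
    H ⊔ Submodule.span F {u} = W

/-- isometric subspaces. -/
def QIso (Q : QuadraticForm F V) (W W' : Submodule F V) : Prop :=
  ∃ e : ↥W ≃ₗ[F] ↥W', ∀ w : ↥W, Q ((e w : ↥W') : V) = Q (w : V)

theorem exists_ot [Finite F] [FiniteDimensional F V] {Q : QuadraticForm F V}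
    (hV : ND (QuadraticMap.polarBilin Q) ⊤) {W : Submodule F V} (hW : ND (QuadraticMap.polarBilin Q) W)
    {h : ℕ} (hd : finrank F ↥W = 2 * h + 1) : ∃ c : F, c ≠ 0 ∧ OT Q W c := by
  obtain ⟨L, hLW, hL, hLd⟩ := exists_ts_of_lt hV h W hW (by omega)
  obtain ⟨H, hLH, hHW, hHnd, hHd, hHy⟩ := exists_hull hV hW hLW hL
  have hrefl := pB_refl Q
  have hPnd := nd_perp_inf hrefl hHnd hW hHW
  have hPd := finrank_perp_inf hrefl hHnd hHW
  have hP1 : finrank F ↥(LinearMap.BilinForm.orthogonal (QuadraticMap.polarBilin Q) H ⊓ W) = 1 := by omega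
  have hPne : LinearMap.BilinForm.orthogonal (QuadraticMap.polarBilin Q) H ⊓ W ≠ ⊥ := by
    intro h0
    rw [h0, finrank_bot] at hP1
    omega
  obtain ⟨u, huP, hu0⟩ := Submodule.exists_mem_ne_zero_of_ne_bot hPne
  have hQu := nonsing_of_line hPnd hP1 huP hu0
  refine ⟨Q u, hQu, H, u, hHW, hHnd, hHy, huP.2, huP.1, rfl, ?_⟩
  have hspan : Submodule.span F {u} = LinearMap.BilinForm.orthogonal (QuadraticMap.polarBilin Q) H ⊓ W := by
    apply Submodule.eq_of_le_of_finrank_eq
    · rw [Submodule.span_singleton_le_iff_mem]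
      exact huP
    · rw [finrank_span_singleton hu0, hP1]
  rw [hspan]
  exact sup_perp_inf hrefl hHnd hHW

theorem ot_smul {Q : QuadraticForm F V} {W : Submodule F V} {c : F} (h : OT Q W c) {t : F} (ht : t ≠ 0) :
    OT Q W (t * t * c) := by
  obtain ⟨H, u, h1, h2, h3, h4, h5, h6, h7⟩ := h
  refine ⟨H, t • u, h1, h2, h3, W.smul_mem t h4, Submodule.smul_mem _ t h5, ?_, ?_⟩
  · rw [QuadraticMap.map_smul, h6, smul_eq_mul]
  · rw [Submodule.span_singleton_smul_eq (IsUnit.mk0 t ht)]
    exact h7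

/-- the dimension of a space of odd type. -/
theorem ot_props [FiniteDimensional F V] (h2 : (2 : F) ≠ 0) {Q : QuadraticForm F V}
    (hV : ND (QuadraticMap.polarBilin Q) ⊤) {W : Submodule F V} {c : F} (h : OT Q W c) (hc : c ≠ 0) :
    ND (QuadraticMap.polarBilin Q) W ∧ Odd (finrank F ↥W) := by
  obtain ⟨H, u, h1, h2', h3, h4, h5, h6, h7⟩ := h
  have hrefl := pB_refl Q
  have hQu : Q u ≠ 0 := by rw [h6]; exact hc
  have hu0 : u ≠ 0 := by
    rintro rfl
    exact hQu (QuadraticMap.map_zero Q)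
  have hLnd := (line_props h2 hV hQu).1
  have hLH : Submodule.span F {u} ≤ LinearMap.BilinForm.orthogonal (QuadraticMap.polarBilin Q) H := by
    rw [Submodule.span_singleton_le_iff_mem]
    exact h5
  refine ⟨?_, ?_⟩
  · rw [← h7]
    exact nd_sup hrefl h2' hLnd hLH
  · rw [← h7, finrank_sup_of_le_perp hrefl h2' hLH, finrank_span_singleton hu0]
    obtain ⟨U, -, -, hUd⟩ := h3
    exact ⟨finrank F ↥U, by omega⟩

/-- two orthogonal nonsingular vectors span a nondegenerate plane. -/
theorem plane_props [FiniteDimensional F V] (h2 : (2 : F) ≠ 0) {Q : QuadraticForm F V}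
    (hV : ND (QuadraticMap.polarBilin Q) ⊤) {u z : V} (hu : Q u ≠ 0) (hz : Q z ≠ 0)
    (huz : QuadraticMap.polar Q u z = 0) :
    ND (QuadraticMap.polarBilin Q) (Submodule.span F {u} ⊔ Submodule.span F {z}) ∧
      finrank F ↥(Submodule.span F {u} ⊔ Submodule.span F {z}) = 2 := by
  have hrefl := pB_refl Q
  have hu0 : u ≠ 0 := by
    rintro rfl
    exact hu (QuadraticMap.map_zero Q)
  have hz0 : z ≠ 0 := by
    rintro rfl
    exact hz (QuadraticMap.map_zero Q)
  have h12 : Submodule.span F {z} ≤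
      LinearMap.BilinForm.orthogonal (QuadraticMap.polarBilin Q) (Submodule.span F {u}) := by
    rw [Submodule.span_singleton_le_iff_mem, mem_perp_line]
    exact huz
  refine ⟨nd_sup hrefl (line_props h2 hV hu).1 (line_props h2 hV hz).1 h12, ?_⟩
  rw [finrank_sup_of_le_perp hrefl (line_props h2 hV hu).1 h12, finrank_span_singleton hu0,
    finrank_span_singleton hz0]

/-- the type of the plane spanned by two orthogonal nonsingular vectors. -/
theorem hyp_plane_iff [FiniteDimensional F V] (h2 : (2 : F) ≠ 0) {Q : QuadraticForm F V}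
    (hV : ND (QuadraticMap.polarBilin Q) ⊤) {u z : V} (hu : Q u ≠ 0) (hz : Q z ≠ 0)
    (huz : QuadraticMap.polar Q u z = 0) :
    Hyp Q (Submodule.span F {u} ⊔ Submodule.span F {z}) ↔ ∃ t : F, Q z = -(t * t * Q u) := by
  obtain ⟨hnd, hd⟩ := plane_props h2 hV hu hz huz
  constructor
  · intro hy
    by_contra hno
    push Not at hno
    apply not_hyp_of_aniso hd ?_ hy
    intro a ha hQa
    obtain ⟨x, hx, y, hy', rfl⟩ := Submodule.mem_sup.mp ha
    obtain ⟨α, rfl⟩ := Submodule.mem_span_singleton.mp hx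
    obtain ⟨β, rfl⟩ := Submodule.mem_span_singleton.mp hy'
    have hQ : α * α * Q u + β * β * Q z = 0 := by
      rw [QuadraticMap.map_add Q, QuadraticMap.map_smul, QuadraticMap.map_smul,
        QuadraticMap.polar_smul_left, QuadraticMap.polar_smul_right, huz] at hQa
      simp only [smul_eq_mul, mul_zero, add_zero] at hQa
      exact hQa
    by_cases hβ : β = 0
    · subst hβ
      have hα : α = 0 := by
        by_contra hα
        have : α * α * Q u ≠ 0 := mul_ne_zero (mul_ne_zero hα hα) hu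
        apply this
        simpa using hQ
      rw [hα, zero_smul, zero_smul, add_zero]
    · exfalso
      apply hno (α / β)
      field_simp
      linear_combination hQ
  · rintro ⟨t, ht⟩
    by_contra hn
    have han := aniso_of_not_hyp hd hn
    have hmem : t • u + z ∈ Submodule.span F {u} ⊔ Submodule.span F {z} :=
      Submodule.add_mem _ (Submodule.mem_sup_left (Submodule.smul_mem _ t (Submodule.mem_span_singleton_self u)))
        (Submodule.mem_sup_right (Submodule.mem_span_singleton_self z))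
    have hQ0 : Q (t • u + z) = 0 := by
      rw [QuadraticMap.map_add Q, QuadraticMap.map_smul, QuadraticMap.polar_smul_left, huz, ht]
      simp only [smul_eq_mul, mul_zero, add_zero]
      ring
    have h0 := han _ hmem hQ0
    have hz' : z = -(t • u) := eq_neg_of_add_eq_zero_right h0
    have hQz : Q z = t * t * Q u := by
      rw [hz', QuadraticMap.map_neg, QuadraticMap.map_smul, smul_eq_mul]
    have h3 : (2 : F) * Q z = 0 := by
      have : Q z + Q z = 0 := by
        nth_rewrite 1 [ht]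
        rw [hQz]
        ring
      linear_combination this
    rcases mul_eq_zero.mp h3 with h | h
    · exact h2 h
    · exact hz h

/-- **the type of the extension by an orthogonal vector.** -/
theorem hyp_ext_iff [FiniteDimensional F V] (h2 : (2 : F) ≠ 0) {Q : QuadraticForm F V}
    (hV : ND (QuadraticMap.polarBilin Q) ⊤) {W : Submodule F V} {c : F} (hot : OT Q W c) (hc : c ≠ 0) {z : V}
    (hz : z ∈ LinearMap.BilinForm.orthogonal (QuadraticMap.polarBilin Q) W) (hQz : Q z ≠ 0) :
    Hyp Q (W ⊔ Submodule.span F {z}) ↔ ∃ t : F, Q z = -(t * t * c) := by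
  obtain ⟨H, u, h1, h2', h3, h4, h5, h6, h7⟩ := hot
  subst h6
  have huz : QuadraticMap.polar Q u z = 0 := mem_perp.mp hz u h4
  have hA : Submodule.span F {u} ⊔ Submodule.span F {z} ≤
      LinearMap.BilinForm.orthogonal (QuadraticMap.polarBilin Q) H := by
    apply sup_le
    · rw [Submodule.span_singleton_le_iff_mem]
      exact h5
    · rw [Submodule.span_singleton_le_iff_mem]
      exact LinearMap.BilinForm.orthogonal_le h1 hz
  obtain ⟨hnd, hd⟩ := plane_props h2 hV hc hQz huz
  rw [← h7, sup_assoc]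
  constructor
  · intro hy
    exact (hyp_plane_iff h2 hV hc hQz huz).mp (hyp_cancel hV _ H _ rfl h2' hnd hA h3 hy)
  · intro ht
    exact hyp_sup h2' hA h3 ((hyp_plane_iff h2 hV hc hQz huz).mpr ht)

/-- **the odd type is unique up to squares.** -/
theorem ot_unique [FiniteDimensional F V] (h2 : (2 : F) ≠ 0) {Q : QuadraticForm F V}
    (hV : ND (QuadraticMap.polarBilin Q) ⊤) {W : Submodule F V} {c c' : F} (hot : OT Q W c)
    (hot' : OT Q W c') (hc : c ≠ 0) (hc' : c' ≠ 0) {z : V}
    (hz : z ∈ LinearMap.BilinForm.orthogonal (QuadraticMap.polarBilin Q) W) (hQz : Q z = -c) :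
    ∃ t : F, t ≠ 0 ∧ c' = t * t * c := by
  have hQz0 : Q z ≠ 0 := by
    rw [hQz]
    exact neg_ne_zero.mpr hc
  have hy : Hyp Q (W ⊔ Submodule.span F {z}) :=
    (hyp_ext_iff h2 hV hot hc hz hQz0).mpr ⟨1, by rw [hQz]; ring⟩
  obtain ⟨t, ht⟩ := (hyp_ext_iff h2 hV hot' hc' hz hQz0).mp hy
  rw [hQz] at ht
  have hcc : c = t * t * c' := neg_injective ht
  have ht0 : t ≠ 0 := by
    rintro rfl
    apply hc
    rw [hcc]
    ring
  refine ⟨t⁻¹, inv_ne_zero ht0, ?_⟩
  rw [hcc]
  field_simp

/-- vectors of a given norm orthogonal to a small nondegenerate subspace. -/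
theorem exists_perp_repr [Finite F] [FiniteDimensional F V] {Q : QuadraticForm F V}
    (hV : ND (QuadraticMap.polarBilin Q) ⊤) {W : Submodule F V} (hW : ND (QuadraticMap.polarBilin Q) W)
    (hd : finrank F ↥W + 2 ≤ finrank F V) (a : F) :
    ∃ z ∈ LinearMap.BilinForm.orthogonal (QuadraticMap.polarBilin Q) W, Q z = a := by
  have hrefl := pB_refl Q
  have h1 := nd_perp_inf hrefl hW hV le_top
  have h3 := finrank_perp_inf hrefl hW (le_top : W ≤ ⊤)
  rw [inf_top_eq] at h1 h3
  rw [finrank_top] at h3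
  exact exists_repr_in h1 (by omega) a

end Cfsg.Agent.Helper7.QPa
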