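import Mathlib
import Cfsg.Agent.Helper7.QPaA

set_option autoImplicit false
set_option linter.unusedSectionVars false
set_option linter.unusedVariables false

/-!
# Odd type and isometry classes of nondegenerate subspaces of odd dimension
-/

namespace Cfsg.Agent.Helper7.QPa

open Module Cfsg.Agent.Helper7.POrd Cfsg.Agent.Helper7.SpOrd Cfsg.Agent.Helper7.SpTI
  Cfsg.Agent.Helper7.OrTS Cfsg.Agent.Helper8.QuadForm Cfsg.Agent.Helper8.OrthOrder Cfsg.Agent.Helper7.SpUn
  Cfsg.Agent.Helper7.QTy Cfsg.Agent.Helper7.QEll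

universe u

variable {F : Type*} [Field F] {V : Type u} [AddCommGroup V] [Module F V]

/-- the standard basis of a space of odd type. -/
theorem exists_ot_basis [FiniteDimensional F V] (h2 : (2 : F) ≠ 0) {Q : QuadraticForm F V}
    (hV : ND (QuadraticMap.polarBilin Q) ⊤) {W : Submodule F V} {c : F} (hot : OT Q W c) (hc : c ≠ 0)
    {h : ℕ} (hd : finrank F ↥W = 2 * h + 1) :
    ∃ b : Basis ((Fin h ⊕ Fin h) ⊕ Unit) F ↥W,
      (∀ i, Q ((b i : ↥W) : V) = Sum.elim (fun _ => (0 : F)) (fun _ => c) i) ∧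
      ∀ i j, QuadraticMap.polar Q ((b i : ↥W) : V) ((b j : ↥W) : V) =
        if i = Sum.map Sum.swap id j then Sum.elim (fun _ => (1 : F)) (fun _ => 2 * c) i else 0 := by
  classical
  obtain ⟨H, u, h1, h2', h3, h4, h5, h6, h7⟩ := hot
  have hrefl := pB_refl Q
  have hQu : Q u ≠ 0 := by rw [h6]; exact hc
  have hu0 : u ≠ 0 := by
    rintro rfl
    exact hQu (QuadraticMap.map_zero Q)
  have hLH : Submodule.span F {u} ≤ LinearMap.BilinForm.orthogonal (QuadraticMap.polarBilin Q) H := by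
    rw [Submodule.span_singleton_le_iff_mem]
    exact h5
  have hHd : finrank F ↥H = 2 * h := by
    have := finrank_sup_of_le_perp hrefl h2' hLH
    rw [h7, finrank_span_singleton hu0, hd] at this
    omega
  obtain ⟨s, hs⟩ := exists_full_frame hV h2' hHd h3
  obtain ⟨⟨e, f⟩, hhyp, heH, hfH⟩ := s
  simp only at heH hfH hs
  have hue : ∀ i, QuadraticMap.polar Q (e i) u = 0 := fun i => mem_perp.mp h5 _ (heH i)
  have huf : ∀ i, QuadraticMap.polar Q (f i) u = 0 := fun i => mem_perp.mp h5 _ (hfH i)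
  have hdual : ∀ i j : (Fin h ⊕ Fin h) ⊕ Unit,
      QuadraticMap.polar Q (Sum.elim (Sum.elim e f) (fun _ : Unit => u) i)
        (Sum.elim (Sum.elim f e) (fun _ : Unit => u) j) =
        if i = j then Sum.elim (fun _ => (1 : F)) (fun _ => 2 * c) i else 0 := by
    refine dual_sum Q (hhyp.dual Q) (fun i j => ?_) ?_ ?_
    · rw [if_pos (Subsingleton.elim i j), polar_self', h6]
    · intro i j
      rcases i with i | i
      · exact hue i
      · exact huf i
    · intro i j
      rcases j with j | j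
      · rw [QuadraticMap.polar_comm]; exact huf j
      · rw [QuadraticMap.polar_comm]; exact hue j
  have hli : LinearIndependent F (Sum.elim (Sum.elim e f) (fun _ : Unit => u)) := by
    refine linearIndependent_of_dual Q _ _ (Sum.elim (fun _ => (1 : F)) (fun _ => 2 * c)) ?_ hdual
    rintro (i | i)
    · exact one_ne_zero
    · exact mul_ne_zero h2 hc
  have hmem : ∀ i, Sum.elim (Sum.elim e f) (fun _ : Unit => u) i ∈ W := by
    rintro ((i | i) | i)
    · exact h1 (heH i)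
    · exact h1 (hfH i)
    · exact h4
  obtain ⟨fam, hfam⟩ : ∃ fam : (Fin h ⊕ Fin h) ⊕ Unit → ↥W,
      ∀ i, (fam i : V) = Sum.elim (Sum.elim e f) (fun _ : Unit => u) i :=
    ⟨fun i => ⟨_, hmem i⟩, fun i => rfl⟩
  have hli' : LinearIndependent F fam := by
    apply LinearIndependent.of_comp W.subtype
    have : (⇑W.subtype ∘ fam) = Sum.elim (Sum.elim e f) (fun _ : Unit => u) := by
      funext i
      exact hfam i
    rw [this]
    exact hli
  obtain ⟨b, hb⟩ := exists_basis_of_li hli' (by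
    rw [hd]
    simp only [Fintype.card_sum, Fintype.card_fin, Fintype.card_unit]
    omega)
  have hbi : ∀ i, ((b i : ↥W) : V) = Sum.elim (Sum.elim e f) (fun _ : Unit => u) i := by
    intro i
    rw [hb, hfam]
  refine ⟨b, fun i => ?_, fun i j => ?_⟩
  · rw [hbi]
    rcases i with (i | i) | i
    · exact (hhyp.1 i).1
    · exact (hhyp.1 i).2
    · exact h6
  · rw [hbi, hbi]
    have hsw : Sum.elim (Sum.elim e f) (fun _ : Unit => u) j =
        Sum.elim (Sum.elim f e) (fun _ : Unit => u) (Sum.map Sum.swap id j) := by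
      rcases j with (j | j) | j <;> rfl
    rw [hsw]
    exact hdual i _

/-- **spaces of the same odd type and dimension are isometric.** -/
theorem iso_of_ot [FiniteDimensional F V] (h2 : (2 : F) ≠ 0) {Q : QuadraticForm F V}
    (hV : ND (QuadraticMap.polarBilin Q) ⊤) {W W' : Submodule F V} {c : F} (hot : OT Q W c)
    (hot' : OT Q W' c) (hc : c ≠ 0) {h : ℕ} (hd : finrank F ↥W = 2 * h + 1)
    (hd' : finrank F ↥W' = 2 * h + 1) : QIso Q W W' := by
  obtain ⟨b, hb1, hb2⟩ := exists_ot_basis h2 hV hot hc hd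
  obtain ⟨b', hb1', hb2'⟩ := exists_ot_basis h2 hV hot' hc hd'
  obtain ⟨e, he⟩ : ∃ e : ↥W ≃ₗ[F] ↥W', ∀ i, e (b i) = b' i :=
    ⟨b.equiv b' (Equiv.refl _), fun i => by rw [Basis.equiv_apply]; rfl⟩
  refine ⟨e, ?_⟩
  have key : (Q.comp W'.subtype).comp (e : ↥W →ₗ[F] ↥W') = Q.comp W.subtype := by
    apply eq_of_basis b
    · intro i
      show Q ((e (b i) : ↥W') : V) = Q ((b i : ↥W) : V)
      rw [he, hb1, hb1']
    · intro i j
      have e1 : QuadraticMap.polar ((Q.comp W'.subtype).comp (e : ↥W →ₗ[F] ↥W')) (b i) (b j) =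
          QuadraticMap.polar Q ((e (b i) : ↥W') : V) ((e (b j) : ↥W') : V) := by
        unfold QuadraticMap.polar
        simp only [QuadraticMap.comp_apply, LinearEquiv.coe_coe, map_add, Submodule.subtype_apply,
          Submodule.coe_add]
      have e2 : QuadraticMap.polar (Q.comp W.subtype) (b i) (b j) =
          QuadraticMap.polar Q ((b i : ↥W) : V) ((b j : ↥W) : V) := rfl
      rw [e1, e2, he, he, hb2, hb2']
  intro w
  have := congrArg (fun q : QuadraticForm F ↥W => q w) key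
  exact this

/-- extending an isometry of subspaces. -/
theorem iso_extend [FiniteDimensional F V] {Q : QuadraticForm F V}
    (hV : ND (QuadraticMap.polarBilin Q) ⊤) {W W' : Submodule F V} (h : QIso Q W W') :
    ∃ g : V ≃ₗ[F] V, (∀ v, Q (g v) = Q v) ∧ W.map (g : V →ₗ[F] V) = W' := by
  obtain ⟨e, he⟩ := h
  have hQ : (QuadraticMap.polarBilin Q).Nondegenerate := by
    rw [nondeg_iff]
    intro v hv
    by_contra hne
    obtain ⟨w, -, hw⟩ := hV v Submodule.mem_top hne
    exact hw (hv w)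
  obtain ⟨g, hg1, hg2⟩ := Cfsg.Agent.Helper8.WittQuad.witt Q hQ W W' e he
  refine ⟨g, hg1, le_antisymm ?_ ?_⟩
  · rintro _ ⟨w, hw, rfl⟩
    have := hg2 ⟨w, hw⟩
    simp only at this
    rw [LinearEquiv.coe_coe, this]
    exact (e ⟨w, hw⟩).2
  · intro w' hw'
    refine ⟨(e.symm ⟨w', hw'⟩ : V), (e.symm ⟨w', hw'⟩).2, ?_⟩
    rw [LinearEquiv.coe_coe, hg2, LinearEquiv.apply_symm_apply]

theorem nd_map_isom {Q : QuadraticForm F V} {g : V ≃ₗ[F] V} (hg : ∀ v, Q (g v) = Q v) {W : Submodule F V}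
    (hW : ND (QuadraticMap.polarBilin Q) W) : ND (QuadraticMap.polarBilin Q) (W.map (g : V →ₗ[F] V)) := by
  rintro _ ⟨u, hu, rfl⟩ hne
  have hu0 : u ≠ 0 := by
    rintro rfl
    exact hne (map_zero _)
  obtain ⟨v, hv, huv⟩ := hW u hu hu0
  refine ⟨g v, Submodule.mem_map_of_mem hv, ?_⟩
  rw [LinearEquiv.coe_coe, pB_apply, Cfsg.Agent.Helper8.WittQuad.polar_isometry Q g hg]
  exact huv

/-- the odd type is preserved by isometries of the space. -/
theorem ot_map_isom [FiniteDimensional F V] {Q : QuadraticForm F V} {g : V ≃ₗ[F] V}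
    (hg : ∀ v, Q (g v) = Q v) {W : Submodule F V} {c : F} (h : OT Q W c) :
    OT Q (W.map (g : V →ₗ[F] V)) c := by
  obtain ⟨H, u, h1, h2, h3, h4, h5, h6, h7⟩ := h
  refine ⟨H.map (g : V →ₗ[F] V), g u, Submodule.map_mono h1, nd_map_isom hg h2, hyp_map_isom hg h3,
    Submodule.mem_map_of_mem h4, ?_, by rw [hg, h6], ?_⟩
  · rw [mem_perp]
    rintro _ ⟨w, hw, rfl⟩
    rw [LinearEquiv.coe_coe, pB_apply, Cfsg.Agent.Helper8.WittQuad.polar_isometry Q g hg]
    exact mem_perp.mp h5 w hw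
  · rw [← h7, Submodule.map_sup, Submodule.map_span, Set.image_singleton]
    rfl

/-- **the isometry class in terms of the odd type.** -/
theorem iso_iff_ot [Finite F] [FiniteDimensional F V] (h2 : (2 : F) ≠ 0) {Q : QuadraticForm F V}
    (hV : ND (QuadraticMap.polarBilin Q) ⊤) {W₀ : Submodule F V} {c₀ : F} (hot₀ : OT Q W₀ c₀) (hc₀ : c₀ ≠ 0)
    {h : ℕ} (hd₀ : finrank F ↥W₀ = 2 * h + 1) (hroom : 2 * h + 3 ≤ finrank F V) {W : Submodule F V}
    (hW : ND (QuadraticMap.polarBilin Q) W) (hd : finrank F ↥W = 2 * h + 1) :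
    QIso Q W W₀ ↔ OT Q W c₀ := by
  constructor
  · intro hiso
    obtain ⟨g, hg, hgW⟩ := iso_extend hV hiso
    obtain ⟨c, hc, hot⟩ := exists_ot hV hW hd
    have hot' := ot_map_isom hg hot
    rw [hgW] at hot'
    obtain ⟨hnd₀, -⟩ := ot_props h2 hV hot₀ hc₀
    obtain ⟨z, hz, hQz⟩ := exists_perp_repr hV hnd₀ (by rw [hd₀]; omega) (-c)
    obtain ⟨t, ht, htc⟩ := ot_unique h2 hV hot' hot₀ hc hc₀ hz hQz
    rw [htc]
    exact ot_smul hot ht
  · intro hot
    exact iso_of_ot h2 hV hot hot₀ hc₀ hd hd₀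

/-- **the complement of a suitable vector has a prescribed odd type.** -/
theorem exists_vec_ot [Fintype F] [FiniteDimensional F V] (h2 : (2 : F) ≠ 0) {Q : QuadraticForm F V}
    (hV : ND (QuadraticMap.polarBilin Q) ⊤) {Y N : Submodule F V} (hY : ND (QuadraticMap.polarBilin Q) Y)
    {h : ℕ} (hYd : finrank F ↥Y = 2 * h + 2) (hNY : N ≤ Y) (hN : ND (QuadraticMap.polarBilin Q) N)
    (hNd : 2 ≤ finrank F ↥N) {c₀ : F} (hc₀ : c₀ ≠ 0) :
    ∃ v ∈ N, Q v ≠ 0 ∧
      ND (QuadraticMap.polarBilin Q)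
        (LinearMap.BilinForm.orthogonal (QuadraticMap.polarBilin Q) (Submodule.span F {v}) ⊓ Y) ∧
      finrank F ↥(LinearMap.BilinForm.orthogonal (QuadraticMap.polarBilin Q) (Submodule.span F {v}) ⊓ Y) =
        2 * h + 1 ∧
      OT Q (LinearMap.BilinForm.orthogonal (QuadraticMap.polarBilin Q) (Submodule.span F {v}) ⊓ Y) c₀ := by
  have hrefl := pB_refl Q
  have key : ∀ a : F, a ≠ 0 → ∀ v ∈ N, Q v = a →
      ND (QuadraticMap.polarBilin Q)
        (LinearMap.BilinForm.orthogonal (QuadraticMap.polarBilin Q) (Submodule.span F {v}) ⊓ Y) ∧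
      finrank F ↥(LinearMap.BilinForm.orthogonal (QuadraticMap.polarBilin Q) (Submodule.span F {v}) ⊓ Y) =
        2 * h + 1 ∧
      ∃ c' : F, c' ≠ 0 ∧
        OT Q (LinearMap.BilinForm.orthogonal (QuadraticMap.polarBilin Q) (Submodule.span F {v}) ⊓ Y) c' ∧
        (Hyp Q Y ↔ ∃ t : F, a = -(t * t * c')) := by
    intro a ha v hvN hQv
    have hQv0 : Q v ≠ 0 := by rw [hQv]; exact ha
    have hv0 : v ≠ 0 := by
      rintro rfl
      exact hQv0 (QuadraticMap.map_zero Q)
    have hLnd := (line_props h2 hV hQv0).1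
    have hLY : Submodule.span F {v} ≤ Y := by
      rw [Submodule.span_singleton_le_iff_mem]
      exact hNY hvN
    have hWnd := nd_perp_inf hrefl hLnd hY hLY
    have hWd := finrank_perp_inf hrefl hLnd hLY
    rw [finrank_span_singleton hv0, hYd] at hWd
    have hWd' : finrank F ↥(LinearMap.BilinForm.orthogonal (QuadraticMap.polarBilin Q)
        (Submodule.span F {v}) ⊓ Y) = 2 * h + 1 := by omega
    obtain ⟨c', hc', hot⟩ := exists_ot hV hWnd hWd'
    refine ⟨hWnd, hWd', c', hc', hot, ?_⟩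
    have hvperp : v ∈ LinearMap.BilinForm.orthogonal (QuadraticMap.polarBilin Q)
        (LinearMap.BilinForm.orthogonal (QuadraticMap.polarBilin Q) (Submodule.span F {v}) ⊓ Y) := by
      rw [mem_perp]
      intro w hw
      exact hrefl _ _ (mem_perp.mp hw.1 v (Submodule.mem_span_singleton_self v))
    have := hyp_ext_iff h2 hV hot hc' hvperp hQv0
    rw [sup_comm, sup_perp_inf hrefl hLnd hLY, hQv] at this
    exact this
  by_cases hy : Hyp Q Y
  · obtain ⟨v, hvN, hQv⟩ := exists_repr_in hN hNd (-c₀)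
    obtain ⟨hWnd, hWd, c', hc', hot, hiff⟩ := key (-c₀) (neg_ne_zero.mpr hc₀) v hvN hQv
    obtain ⟨t, ht⟩ := hiff.mp hy
    have hcc : c₀ = t * t * c' := neg_injective ht
    have ht0 : t ≠ 0 := by
      rintro rfl
      apply hc₀
      rw [hcc]
      ring
    refine ⟨v, hvN, by rw [hQv]; exact neg_ne_zero.mpr hc₀, hWnd, hWd, ?_⟩
    rw [hcc]
    exact ot_smul hot ht0
  · obtain ⟨ν, hν⟩ := Cfsg.Agent.Helper8.OmegaOdd.exists_nonsquare (F := F) h2
    have hν0 : ν ≠ 0 := by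
      rintro rfl
      exact hν ⟨0, by ring⟩
    obtain ⟨v, hvN, hQv⟩ := exists_repr_in hN hNd (-(c₀ * ν))
    have ha : -(c₀ * ν) ≠ 0 := neg_ne_zero.mpr (mul_ne_zero hc₀ hν0)
    obtain ⟨hWnd, hWd, c', hc', hot, hiff⟩ := key _ ha v hvN hQv
    have hns : ¬ IsSquare (c₀ * ν / c') := by
      rintro ⟨s, hs⟩
      apply hy
      rw [hiff]
      refine ⟨s, ?_⟩
      rw [neg_inj]
      exact (div_eq_iff hc').mp hs
    obtain ⟨s, hs⟩ := exists_sq_mul_of_not_isSquare hns hν
    have hcc : c₀ = s * s * c' := by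
      have hs' := (div_eq_iff hc').mp hs
      have h3 : ν * (c₀ - s * s * c') = 0 := by linear_combination hs'
      rcases mul_eq_zero.mp h3 with h | h
      · exact absurd h hν0
      · exact sub_eq_zero.mp h
    have hs0 : s ≠ 0 := by
      rintro rfl
      apply hc₀
      rw [hcc]
      ring
    refine ⟨v, hvN, by rw [hQv]; exact ha, hWnd, hWd, ?_⟩
    rw [hcc]
    exact ot_smul hot hs0

/-- **a subspace of prescribed odd type inside a large nondegenerate subspace.** -/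
theorem exists_ot_sub [Fintype F] [FiniteDimensional F V] (h2 : (2 : F) ≠ 0) {Q : QuadraticForm F V}
    (hV : ND (QuadraticMap.polarBilin Q) ⊤) {N : Submodule F V} (hN : ND (QuadraticMap.polarBilin Q) N)
    {h : ℕ} (hNd : 2 * h + 2 ≤ finrank F ↥N) {c₀ : F} (hc₀ : c₀ ≠ 0) :
    ∃ W : Submodule F V, W ≤ N ∧ ND (QuadraticMap.polarBilin Q) W ∧ finrank F ↥W = 2 * h + 1 ∧
      OT Q W c₀ := by
  obtain ⟨Y, hYN, hYnd, hYd⟩ : ∃ Y : Submodule F V, Y ≤ N ∧ ND (QuadraticMap.polarBilin Q) Y ∧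
      finrank F ↥Y = 2 * h + 2 := by
    rcases Nat.lt_or_ge (2 * (h + 1)) (finrank F ↥N) with hlt | hge
    · obtain ⟨Y, h1, h2', h3, -⟩ := exists_hyp_sub hV hN hlt
      exact ⟨Y, h1, h2', by rw [h3]; ring⟩
    · exact ⟨N, le_rfl, hN, by omega⟩
  obtain ⟨v, hvY, hQv, hWnd, hWd, hot⟩ := exists_vec_ot h2 hV hYnd hYd le_rfl hYnd (by omega) hc₀
  exact ⟨_, inf_le_right.trans hYN, hWnd, hWd, hot⟩

end Cfsg.Agent.Helper7.QPa
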