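import Mathlib
import Cfsg.Agent.Helper7.QPaB

set_option autoImplicit false
set_option linter.unusedSectionVars false
set_option linter.unusedVariables false

/-!
# Level sets of plus type spaces, frames, pointed frames
-/

namespace Cfsg.Agent.Helper7.QPa

open Module Cfsg.Agent.Helper7.POrd Cfsg.Agent.Helper7.SpOrd Cfsg.Agent.Helper7.SpTI
  Cfsg.Agent.Helper7.OrTS Cfsg.Agent.Helper8.QuadForm Cfsg.Agent.Helper8.OrthOrder Cfsg.Agent.Helper7.SpUn
  Cfsg.Agent.Helper7.QTy Cfsg.Agent.Helper7.QEll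

universe u

variable {F : Type*} [Field F] {V : Type u} [AddCommGroup V] [Module F V]

section level

variable [Fintype F] [FiniteDimensional F V] (Q : QuadraticForm F V) {e f : V} (he : Q e = 0)
  (hf : Q f = 0) (hef : QuadraticMap.polar Q e f = 1)

include he hf hef in
/-- the number of vectors of norm `c` of `⟨e, f⟩ ⊥ W` in terms of that of `W`. -/
theorem card_level (c : F) :
    Nat.card {v : V // Q v = c} =
      Nat.card {w : perpPair Q e f // Q (w : V) = c} * Fintype.card F
        + Nat.card (perpPair Q e f) * (Fintype.card F - 1) := by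
  classical
  haveI : Finite V := Module.finite_of_finite F
  haveI : Fintype (perpPair Q e f) := Fintype.ofFinite _
  have h0 := Cfsg.Agent.Helper7.Hyp.card_triples (F := F) (ι := Fin 1)
    (fun w : perpPair Q e f => c - Q (w : V))
  rw [Fintype.card_fin, pow_one, Nat.sub_self, pow_zero, mul_one] at h0
  have h1 : Nat.card {w : perpPair Q e f // c - Q (w : V) = 0}
      = Nat.card {w : perpPair Q e f // Q (w : V) = c} :=
    Nat.card_congr (Equiv.subtypeEquivRight fun w => by rw [sub_eq_zero, eq_comm])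
  rw [h1, ← Nat.card_eq_fintype_card (α := perpPair Q e f)] at h0
  rw [← h0]
  let E1 : (F × F) × perpPair Q e f ≃ (perpPair Q e f × F) × F :=
    ⟨fun p => ((p.2, p.1.1), p.1.2), fun p => ((p.1.2, p.2), p.1.1), fun _ => rfl, fun _ => rfl⟩
  let E2 : (perpPair Q e f × F) × F ≃ (perpPair Q e f × (Fin 1 → F)) × (Fin 1 → F) :=
    Equiv.prodCongr (Equiv.prodCongr (Equiv.refl _) (Equiv.funUnique (Fin 1) F).symm)
      (Equiv.funUnique (Fin 1) F).symm
  refine Nat.card_congr (Equiv.subtypeEquiv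
    (((decomp Q he hf hef).toEquiv.trans E1).trans E2) (fun v => ?_))
  have hv : v = QuadraticMap.polar Q f v • e + QuadraticMap.polar Q e v • f
      + (((decomp Q he hf hef) v).2 : V) := by
    rw [decomp_apply]
    show v = QuadraticMap.polar Q f v • e + QuadraticMap.polar Q e v • f
      + (v - QuadraticMap.polar Q f v • e - QuadraticMap.polar Q e v • f)
    abel
  have hQ : Q v = QuadraticMap.polar Q f v * QuadraticMap.polar Q e v
      + Q (((decomp Q he hf hef) v).2 : V) := by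
    conv_lhs => rw [hv]
    exact Q_decomp Q he hf hef _ _ _
  show Q v = c ↔ (fun _ : Fin 1 => QuadraticMap.polar Q f v) ⬝ᵥ
    (fun _ : Fin 1 => QuadraticMap.polar Q e v) = c - Q (((decomp Q he hf hef) v).2 : V)
  rw [hQ]
  simp only [dotProduct, Finset.univ_unique, Finset.sum_singleton]
  constructor
  · intro h; linear_combination h
  · intro h; linear_combination h

end level

/-- level sets: splitting off a hyperbolic pair inside a subspace. -/
theorem card_level_sub [Fintype F] [FiniteDimensional F V] (Q : QuadraticForm F V) {W : Submodule F V}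
    {e f : V} (heW : e ∈ W) (hfW : f ∈ W) (he : Q e = 0) (hf : Q f = 0)
    (hef : QuadraticMap.polar Q e f = 1) (c : F) :
    Nat.card {w : ↥W // Q (w : V) = c} =
      Nat.card {w : ↥(perpPair Q e f ⊓ W) // Q (w : V) = c} * Fintype.card F +
        Fintype.card F ^ finrank F ↥(perpPair Q e f ⊓ W) * (Fintype.card F - 1) := by
  have h1 := card_level (Q.comp W.subtype) (e := ⟨e, heW⟩) (f := ⟨f, hfW⟩) he hf hef c
  have h2 : Nat.card {w : ↥(perpPair (Q.comp W.subtype) ⟨e, heW⟩ ⟨f, hfW⟩) //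
      (Q.comp W.subtype) (w : ↥W) = c} = Nat.card {w : ↥(perpPair Q e f ⊓ W) // Q (w : V) = c} :=
    Nat.card_congr (Equiv.subtypeEquiv (perpPairSubEquiv Q W heW hfW) (fun w => Iff.rfl))
  have h3 : Nat.card ↥(perpPair (Q.comp W.subtype) ⟨e, heW⟩ ⟨f, hfW⟩) =
      Fintype.card F ^ finrank F ↥(perpPair Q e f ⊓ W) := by
    rw [Nat.card_congr (perpPairSubEquiv Q W heW hfW), card_space (F := F)]
  rw [h2, h3] at h1
  exact h1

/-- **the number of vectors of a given nonzero norm of a plus type space.** -/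
theorem card_level_hyp [Fintype F] [FiniteDimensional F V] {Q : QuadraticForm F V}
    (hV : ND (QuadraticMap.polarBilin Q) ⊤) {c : F} (hc : c ≠ 0) : ∀ (k : ℕ) (W : Submodule F V),
      ND (QuadraticMap.polarBilin Q) W → finrank F ↥W = 2 * k → Hyp Q W →
      Nat.card {w : ↥W // Q (w : V) = c} * Fintype.card F =
        Fintype.card F ^ k * (Fintype.card F ^ k - 1) := by
  intro k
  obtain ⟨q, hq⟩ : ∃ q, q = Fintype.card F := ⟨_, rfl⟩
  have hqpos : 0 < q := by rw [hq]; exact Fintype.card_pos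
  obtain ⟨t, ht⟩ : ∃ t, q = t + 1 := ⟨q - 1, by omega⟩
  rw [← hq]
  have ht' : q - 1 = t := by omega
  induction k with
  | zero =>
    intro W hW hd hy
    have hW0 : W = ⊥ := by
      rw [← Submodule.finrank_eq_zero (R := F)]
      omega
    haveI : IsEmpty {w : ↥W // Q (w : V) = c} := by
      refine ⟨fun w => hc ?_⟩
      have h0 : (w.1 : V) = 0 := (Submodule.eq_bot_iff W).mp hW0 w.1 w.1.2
      rw [← w.2, h0, QuadraticMap.map_zero]
    rw [Nat.card_of_isEmpty]
    simp
  | succ k ih =>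
    intro W hW hd hy
    obtain ⟨U, hUW, hU, hUd⟩ := hy
    have hUne : U ≠ ⊥ := by
      intro h0
      rw [h0, finrank_bot] at hUd
      omega
    obtain ⟨e, heU, he0⟩ := Submodule.exists_mem_ne_zero_of_ne_bot hUne
    have heW := hUW heU
    have hQe := hU e heU
    obtain ⟨f, hfW, hQf, hef⟩ := exists_partner hW heW he0 hQe
    obtain ⟨hnd', hdim', -⟩ := perpPair_inf_props hQe hQf hef hW heW hfW
    have hy' := hyp_perpPair_inf hQe hQf hef hV hW heW hfW ⟨U, hUW, hU, hUd⟩
    have hd' : finrank F ↥(perpPair Q e f ⊓ W) = 2 * k := by omega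
    have h1 := ih _ hnd' hd' hy'
    have h2 := card_level_sub Q heW hfW hQe hQf hef c
    rw [hd', ← hq] at h2
    rw [h2, ht']
    obtain ⟨N', hN'⟩ : ∃ N', N' = Nat.card {w : ↥(perpPair Q e f ⊓ W) // Q (w : V) = c} := ⟨_, rfl⟩
    rw [← hN'] at h1 ⊢
    obtain ⟨A, hA⟩ : ∃ A, A = q ^ k := ⟨_, rfl⟩
    have hApos : 0 < A := by rw [hA]; exact Nat.pow_pos hqpos
    obtain ⟨a, ha⟩ : ∃ a, A = a + 1 := ⟨A - 1, by omega⟩
    have e1 : q ^ (2 * k) = A * A := by rw [hA, ← pow_add]; congr 1; omega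
    have e2 : q ^ (k + 1) = A * q := by rw [hA, pow_succ]
    have h1' : N' * q = A * a := by
      rw [h1, ← hA]
      congr 1
      omega
    have e3 : A * q - 1 = a * t + a + t := by
      have : A * q = (a * t + a + t) + 1 := by rw [ha, ht]; ring
      omega
    rw [e1, e2, e3]
    calc (N' * q + A * A * t) * q = q * (N' * q) + A * A * t * q := by ring
      _ = q * (A * a) + A * A * t * q := by rw [h1']
      _ = A * q * (a * t + a + t) := by rw [ha, ht]; ring

section count

variable [Fintype F] [Finite V]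

/-- frames of a plus type space of dimension `2d`. -/
theorem card_qfr_plus {Q : QuadraticForm F V} (hV : ND (QuadraticMap.polarBilin Q) ⊤) {d : ℕ}
    (hn : finrank F V = 2 * d) (hy : Hyp Q ⊤) (h : ℕ) :
    Nat.card (QFr Q ⊤ h) * Fintype.card F ^ h =
      ∏ j : Fin h, ((nuP (Fintype.card F) (d - (j : ℕ)) - 1) * Fintype.card F ^ (2 * d - 2 * (j : ℕ) - 1)) := by
  have hfd : FiniteDimensional F V := Module.Finite.of_finite
  have := card_qfr hV (fun j => nuP (Fintype.card F) (d - j)) h (by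
    intro j hj s
    obtain ⟨h1, h2, h3, h4, h5, h6⟩ := qfr_span_props hV s
    have hy' : Hyp Q (LinearMap.BilinForm.orthogonal (QuadraticMap.polarBilin Q) (hspan F s.1) ⊓ ⊤) := by
      apply hyp_cancel hV _ (hspan F s.1) _ rfl h2 h5 inf_le_left h4
      rw [sup_perp_inf (pB_refl Q) h2 h1]
      exact hy
    exact card_singular_hyp' hV h5 (by rw [h6, finrank_top, hn]; omega) hy')
  rw [finrank_top, hn] at this
  exact this

/-- frames of a nondegenerate subspace of odd dimension. -/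
theorem card_qfr_oddsub (h2 : (2 : F) ≠ 0) {Q : QuadraticForm F V} (hV : ND (QuadraticMap.polarBilin Q) ⊤)
    {W : Submodule F V} (hW : ND (QuadraticMap.polarBilin Q) W) {h' : ℕ}
    (hd : finrank F ↥W = 2 * h' + 1) (h : ℕ) :
    Nat.card (QFr Q W h) * Fintype.card F ^ h =
      ∏ j : Fin h, ((Fintype.card F ^ (2 * (h' - (j : ℕ))) - 1) *
        Fintype.card F ^ (2 * h' + 1 - 2 * (j : ℕ) - 1)) := by
  have hfd : FiniteDimensional F V := Module.Finite.of_finite
  have := card_qfr hW (fun j => Fintype.card F ^ (2 * (h' - j))) h (by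
    intro j hj s
    obtain ⟨h1, h2', h3, h4, h5, h6⟩ := qfr_span_props hW s
    have hjd : j ≤ h' := by
      have := Submodule.finrank_mono h1
      rw [h3, hd] at this
      omega
    exact card_singular_odd h2 (h' - j) (Q.comp (Submodule.subtype _))
      ((nondeg_iff _).mpr (nondeg_comp_of_nd h5)) (by rw [h6, hd]; omega))
  rw [hd] at this
  exact this

end count

/-! ### pointed frames -/

/-- pointed frames inside `U`: a frame and a vector of norm `c` orthogonal to it. -/
abbrev PFr (Q : QuadraticForm F V) (U : Submodule F V) (h : ℕ) (c : F) : Type _ :=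
  {x : ((Fin h → V) × (Fin h → V)) × V // (IsHyp Q x.1.1 x.1.2 ∧ (∀ a, x.1.1 a ∈ U) ∧ (∀ a, x.1.2 a ∈ U)) ∧
    (x.2 ∈ LinearMap.BilinForm.orthogonal (QuadraticMap.polarBilin Q) (hspan F x.1) ⊓ U ∧ Q x.2 = c)}

/-- pointed frames, fibred over frames. -/
def pfrEquiv (Q : QuadraticForm F V) (U : Submodule F V) (h : ℕ) (c : F) :
    PFr Q U h c ≃ Σ s : QFr Q U h,
      {v : ↥(LinearMap.BilinForm.orthogonal (QuadraticMap.polarBilin Q) (hspan F s.1) ⊓ U) // Q (v : V) = c} where
  toFun x := ⟨⟨x.1.1, x.2.1⟩, ⟨⟨x.1.2, x.2.2.1⟩, x.2.2.2⟩⟩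
  invFun t := ⟨(t.1.1, (t.2.1 : V)), t.1.2, t.2.1.2, t.2.2⟩
  left_inv x := rfl
  right_inv t := rfl

/-- the number of pointed frames, when the fibres have constant size. -/
theorem card_pfr [Fintype F] [Finite V] (Q : QuadraticForm F V) (U : Submodule F V) (h : ℕ) (c : F) (N : ℕ)
    (hN : ∀ s : QFr Q U h, Nat.card {v : ↥(LinearMap.BilinForm.orthogonal (QuadraticMap.polarBilin Q)
      (hspan F s.1) ⊓ U) // Q (v : V) = c} = N) :
    Nat.card (PFr Q U h c) = Nat.card (QFr Q U h) * N := by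
  classical
  haveI : Fintype (QFr Q U h) := Fintype.ofFinite _
  rw [Nat.card_congr (pfrEquiv Q U h c), Nat.card_sigma, Finset.sum_congr rfl (fun s _ => hN s),
    Finset.sum_const, Finset.card_univ, smul_eq_mul, ← Nat.card_eq_fintype_card]

/-- pointed frames of the space inside `W`. -/
def pfrInEquiv (Q : QuadraticForm F V) (W : Submodule F V) (h : ℕ) (c : F) :
    {x : PFr Q ⊤ h c // (∀ a, x.1.1.1 a ∈ W) ∧ (∀ a, x.1.1.2 a ∈ W) ∧ x.1.2 ∈ W} ≃ PFr Q W h c where
  toFun x := ⟨x.1.1, ⟨x.1.2.1.1, x.2.1, x.2.2.1⟩, ⟨x.1.2.2.1.1, x.2.2.2⟩, x.1.2.2.2⟩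
  invFun y := ⟨⟨y.1, ⟨y.2.1.1, fun _ => Submodule.mem_top, fun _ => Submodule.mem_top⟩,
    ⟨y.2.2.1.1, Submodule.mem_top⟩, y.2.2.2⟩, y.2.1.2.1, y.2.1.2.2, y.2.2.1.2⟩
  left_inv x := rfl
  right_inv y := rfl

/-- the two vectors of a given norm on a line. -/
theorem card_line_level [FiniteDimensional F V] (h2 : (2 : F) ≠ 0) {Q : QuadraticForm F V} {L : Submodule F V}
    (hd : finrank F ↥L = 1) {u₀ : V} (hu₀ : u₀ ∈ L) {c : F} (hc : c ≠ 0) (hQ : Q u₀ = c) :
    Nat.card {v : ↥L // Q (v : V) = c} = 2 := by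
  have hu0 : u₀ ≠ 0 := by
    rintro rfl
    apply hc
    rw [← hQ, QuadraticMap.map_zero]
  rw [Nat.card_eq_two_iff]
  refine ⟨⟨⟨u₀, hu₀⟩, hQ⟩, ⟨⟨-u₀, L.neg_mem hu₀⟩, by rw [QuadraticMap.map_neg]; exact hQ⟩, ?_, ?_⟩
  · intro h
    have h1 : u₀ = -u₀ := congrArg (fun x => ((x.1 : ↥L) : V)) h
    have h3 : (2 : F) • u₀ = 0 := by
      rw [two_smul]
      nth_rewrite 2 [h1]
      exact add_neg_cancel u₀
    rcases smul_eq_zero.mp h3 with h | h
    · exact h2 h
    · exact hu0 h
  · rw [Set.eq_univ_iff_forall]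
    rintro ⟨⟨v, hv⟩, hQv⟩
    obtain ⟨a, ha⟩ := (finrank_eq_one_iff_of_nonzero' (⟨u₀, hu₀⟩ : ↥L)
      (fun h => hu0 (congrArg Subtype.val h))).mp hd ⟨v, hv⟩
    have hav : a • u₀ = v := congrArg Subtype.val ha
    simp only at hQv
    rw [← hav, QuadraticMap.map_smul, hQ, smul_eq_mul] at hQv
    have h1 : (a - 1) * (a + 1) = 0 := by
      have : (a * a - 1) * c = 0 := by linear_combination hQv
      rcases mul_eq_zero.mp this with h | h
      · linear_combination h
      · exact absurd h hc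
    rcases mul_eq_zero.mp h1 with h | h
    · left
      apply Subtype.ext
      apply Subtype.ext
      show v = u₀
      rw [← hav, sub_eq_zero.mp h, one_smul]
    · right
      apply Subtype.ext
      apply Subtype.ext
      show v = -u₀
      rw [← hav, eq_neg_of_add_eq_zero_left h, neg_smul, one_smul]

end Cfsg.Agent.Helper7.QPa
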