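import Mathlib
import Cfsg.Agent.Helper7.QPaC

set_option autoImplicit false
set_option linter.unusedSectionVars false
set_option linter.unusedVariables false

/-!
# The number of nondegenerate subspaces of a given odd dimension and type of a plus type space
-/

namespace Cfsg.Agent.Helper7.QPa

open Module Cfsg.Agent.Helper7.POrd Cfsg.Agent.Helper7.SpOrd Cfsg.Agent.Helper7.SpTI
  Cfsg.Agent.Helper7.OrTS Cfsg.Agent.Helper8.QuadForm Cfsg.Agent.Helper8.OrthOrder Cfsg.Agent.Helper7.SpUn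
  Cfsg.Agent.Helper7.QTy Cfsg.Agent.Helper7.QEll

universe u

variable {F : Type*} [Field F] {V : Type u} [AddCommGroup V] [Module F V]

/-- nondegenerate subspaces of dimension `2h+1` of odd type `c`. -/
abbrev ParSub (Q : QuadraticForm F V) (h : ℕ) (c : F) : Type _ :=
  {W : Submodule F V // finrank F ↥W = 2 * h + 1 ∧ ND (QuadraticMap.polarBilin Q) W ∧ OT Q W c}

/-- the number of pointed frames, with a factor. -/
theorem card_pfr_mul [Fintype F] [Finite V] (Q : QuadraticForm F V) (U : Submodule F V) (h : ℕ) (c : F)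
    (κ N : ℕ)
    (hN : ∀ s : QFr Q U h, Nat.card {v : ↥(LinearMap.BilinForm.orthogonal (QuadraticMap.polarBilin Q)
      (hspan F s.1) ⊓ U) // Q (v : V) = c} * κ = N) :
    Nat.card (PFr Q U h c) * κ = Nat.card (QFr Q U h) * N := by
  classical
  haveI : Fintype (QFr Q U h) := Fintype.ofFinite _
  rw [Nat.card_congr (pfrEquiv Q U h c), Nat.card_sigma, Finset.sum_mul,
    Finset.sum_congr rfl (fun s _ => hN s),
    Finset.sum_const, Finset.card_univ, smul_eq_mul, ← Nat.card_eq_fintype_card]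

theorem nuP_sub_one {q k : ℕ} (hq : 0 < q) (hk : 1 ≤ k) :
    nuP q k - 1 = (q ^ k - 1) * (q ^ (k - 1) + 1) := by
  obtain ⟨k', rfl⟩ : ∃ k', k = k' + 1 := ⟨k - 1, by omega⟩
  obtain ⟨t, ht⟩ : ∃ t, q = t + 1 := ⟨q - 1, by omega⟩
  obtain ⟨A, hA⟩ : ∃ A, A = q ^ k' := ⟨_, rfl⟩
  have hApos : 0 < A := by rw [hA]; exact Nat.pow_pos hq
  obtain ⟨a, ha⟩ : ∃ a, A = a + 1 := ⟨A - 1, by omega⟩
  have e0 : q ^ (k' + 1) = A * q := by rw [hA, pow_succ]
  have e1 : nuP q (k' + 1) = A * (A * q + t) := by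
    unfold nuP
    rw [e0]
    have : q - 1 = t := by omega
    rw [this]
    have : A * q * (A * q + t) = q * (A * (A * q + t)) := by ring
    rw [this, Nat.mul_div_cancel_left _ hq]
  have e2 : A * (A * q + t) = (a * t + a + t) * (a + 2) + 1 := by rw [ha, ht]; ring
  have e3 : A * q = (a * t + a + t) + 1 := by rw [ha, ht]; ring
  rw [e1, e2, e0, e3, Nat.add_sub_cancel, Nat.add_sub_cancel, Nat.add_sub_cancel, ← hA, ha]

theorem dvd_pow_two_mul_sub_one {q a r : ℕ} (hq : 0 < q) (h : r ∣ q ^ a - 1 ∨ r ∣ q ^ a + 1) :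
    r ∣ q ^ (2 * a) - 1 := by
  obtain ⟨A, hA⟩ : ∃ A, A = q ^ a := ⟨_, rfl⟩
  have hApos : 0 < A := by rw [hA]; exact Nat.pow_pos hq
  obtain ⟨b, hb⟩ : ∃ b, A = b + 1 := ⟨A - 1, by omega⟩
  have e1 : q ^ (2 * a) = b * (b + 2) + 1 := by
    rw [two_mul, pow_add, ← hA, hb]
    ring
  rw [e1, Nat.add_sub_cancel]
  rw [← hA, hb] at h
  rcases h with h | h
  · rw [Nat.add_sub_cancel] at h
    exact Dvd.dvd.mul_right h _
  · exact Dvd.dvd.mul_left h _

section count

variable [Fintype F] [Finite V]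

/-- **the number of subspaces of a given odd dimension and type of a plus type space**, in product form. -/
theorem card_parSub_mul (h2 : (2 : F) ≠ 0) {Q : QuadraticForm F V} (hV : ND (QuadraticMap.polarBilin Q) ⊤)
    {d : ℕ} (hn : finrank F V = 2 * d) (hy : Hyp Q ⊤) {h : ℕ} (hhd : h + 2 ≤ d) {c₀ : F} (hc₀ : c₀ ≠ 0) :
    Nat.card (ParSub Q h c₀) *
        (2 * ∏ j : Fin h, ((Fintype.card F ^ (2 * (h - (j : ℕ))) - 1) *
          Fintype.card F ^ (2 * h + 1 - 2 * (j : ℕ) - 1))) * Fintype.card F =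
      (∏ j : Fin h, ((nuP (Fintype.card F) (d - (j : ℕ)) - 1) * Fintype.card F ^ (2 * d - 2 * (j : ℕ) - 1))) *
        (Fintype.card F ^ (d - h) * (Fintype.card F ^ (d - h) - 1)) := by
  classical
  have hfd : FiniteDimensional F V := Module.Finite.of_finite
  have hrefl := pB_refl Q
  -- the relation
  obtain ⟨R, hR⟩ : ∃ R : ParSub Q h c₀ → PFr Q ⊤ h c₀ → Prop, ∀ W x, R W x ↔
      ((∀ a, x.1.1.1 a ∈ W.1) ∧ (∀ a, x.1.1.2 a ∈ W.1) ∧ x.1.2 ∈ W.1) :=
    ⟨fun W x => (∀ a, x.1.1.1 a ∈ W.1) ∧ (∀ a, x.1.1.2 a ∈ W.1) ∧ x.1.2 ∈ W.1, fun W x => Iff.rfl⟩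
  have hA : ∀ W : ParSub Q h c₀, Nat.card {x : PFr Q ⊤ h c₀ // R W x} * Fintype.card F ^ h =
      2 * ∏ j : Fin h, ((Fintype.card F ^ (2 * (h - (j : ℕ))) - 1) *
          Fintype.card F ^ (2 * h + 1 - 2 * (j : ℕ) - 1)) := by
    intro W
    obtain ⟨W, hWd, hWnd, hWot⟩ := W
    have e1 : Nat.card {x : PFr Q ⊤ h c₀ // R ⟨W, hWd, hWnd, hWot⟩ x} = Nat.card (PFr Q W h c₀) := by
      rw [← Nat.card_congr (pfrInEquiv Q W h c₀)]
      apply Nat.card_congr
      apply Equiv.subtypeEquivRight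
      intro x
      exact hR _ x
    have e2 : Nat.card (PFr Q W h c₀) * 1 = Nat.card (QFr Q W h) * 2 := by
      apply card_pfr_mul
      intro s
      rw [mul_one]
      obtain ⟨h1, h2', h3, h4, h5, h6⟩ := qfr_span_props hWnd s
      have hL1 : finrank F ↥(LinearMap.BilinForm.orthogonal (QuadraticMap.polarBilin Q) (hspan F s.1) ⊓ W)
          = 1 := by rw [h6, hWd]; omega
      have hLne : LinearMap.BilinForm.orthogonal (QuadraticMap.polarBilin Q) (hspan F s.1) ⊓ W ≠ ⊥ := by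
        intro h0
        rw [h0, finrank_bot] at hL1
        omega
      obtain ⟨u, huL, hu0⟩ := Submodule.exists_mem_ne_zero_of_ne_bot hLne
      have hQu := nonsing_of_line h5 hL1 huL hu0
      have hot' : OT Q W (Q u) := by
        refine ⟨hspan F s.1, u, h1, h2', h4, huL.2, huL.1, rfl, ?_⟩
        have hspan : Submodule.span F {u} =
            LinearMap.BilinForm.orthogonal (QuadraticMap.polarBilin Q) (hspan F s.1) ⊓ W := by
          apply Submodule.eq_of_le_of_finrank_eq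
          · rw [Submodule.span_singleton_le_iff_mem]
            exact huL
          · rw [finrank_span_singleton hu0, hL1]
        rw [hspan]
        exact sup_perp_inf hrefl h2' h1
      obtain ⟨z, hz, hQz⟩ := exists_perp_repr hV hWnd (by rw [hWd, hn]; omega) (-c₀)
      obtain ⟨t, ht, htc⟩ := ot_unique h2 hV hWot hot' hc₀ hQu hz hQz
      refine card_line_level h2 hL1 (u₀ := t⁻¹ • u) (Submodule.smul_mem _ _ huL) hc₀ ?_
      rw [QuadraticMap.map_smul, htc, smul_eq_mul]
      field_simp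
    rw [e1, ← mul_one (Nat.card (PFr Q W h c₀)), e2, mul_comm (Nat.card (QFr Q W h)) 2, mul_assoc,
      card_qfr_oddsub h2 hV hWnd hWd h]
  have hB : ∀ x : PFr Q ⊤ h c₀, Nat.card {W : ParSub Q h c₀ // R W x} * 1 = 1 := by
    intro x
    rw [mul_one, Nat.card_eq_one_iff_unique]
    obtain ⟨⟨⟨e, f⟩, v⟩, ⟨hhyp, -, -⟩, ⟨hv, -⟩, hQv⟩ := x
    simp only at hhyp hv hQv
    obtain ⟨hHnd, hHd, hHy⟩ := fspan_props hhyp
    have hQv0 : Q v ≠ 0 := by rw [hQv]; exact hc₀
    have hv0 : v ≠ 0 := by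
      rintro rfl
      exact hQv0 (QuadraticMap.map_zero Q)
    have hLnd := (line_props h2 hV hQv0).1
    have hLH : Submodule.span F {v} ≤
        LinearMap.BilinForm.orthogonal (QuadraticMap.polarBilin Q) (hspan F (e, f)) := by
      rw [Submodule.span_singleton_le_iff_mem]
      exact hv
    have hW1d : finrank F ↥(hspan F (e, f) ⊔ Submodule.span F {v}) = 2 * h + 1 := by
      rw [finrank_sup_of_le_perp hrefl hHnd hLH, finrank_span_singleton hv0, hHd]
    constructor
    · constructor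
      rintro ⟨⟨W, hWd, hWnd, hWot⟩, hRW⟩ ⟨⟨W', hWd', hWnd', hWot'⟩, hRW'⟩
      rw [hR] at hRW hRW'
      simp only at hRW hRW'
      apply Subtype.ext
      apply Subtype.ext
      simp only
      have hle : hspan F (e, f) ⊔ Submodule.span F {v} ≤ W :=
        sup_le (hspan_le hRW.1 hRW.2.1) (by rw [Submodule.span_singleton_le_iff_mem]; exact hRW.2.2)
      have hle' : hspan F (e, f) ⊔ Submodule.span F {v} ≤ W' :=
        sup_le (hspan_le hRW'.1 hRW'.2.1) (by rw [Submodule.span_singleton_le_iff_mem]; exact hRW'.2.2)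
      rw [← Submodule.eq_of_le_of_finrank_eq hle (by rw [hW1d, hWd]),
        ← Submodule.eq_of_le_of_finrank_eq hle' (by rw [hW1d, hWd'])]
    · refine ⟨⟨⟨hspan F (e, f) ⊔ Submodule.span F {v}, hW1d, nd_sup hrefl hHnd hLnd hLH,
        hspan F (e, f), v, le_sup_left, hHnd, hHy,
        Submodule.mem_sup_right (Submodule.mem_span_singleton_self v), hv, hQv, rfl⟩, ?_⟩⟩
      rw [hR]
      refine ⟨fun a => Submodule.mem_sup_left (Submodule.subset_span ⟨Sum.inl a, rfl⟩),
        fun a => Submodule.mem_sup_left (Submodule.subset_span ⟨Sum.inr a, rfl⟩),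
        Submodule.mem_sup_right (Submodule.mem_span_singleton_self v)⟩
  have hmain := card_mul_of_rel R hA hB
  -- pointed frames of the space
  have hBc : Nat.card (PFr Q ⊤ h c₀) * Fintype.card F =
      Nat.card (QFr Q ⊤ h) * (Fintype.card F ^ (d - h) * (Fintype.card F ^ (d - h) - 1)) := by
    apply card_pfr_mul
    intro s
    obtain ⟨h1, h2', h3, h4, h5, h6⟩ := qfr_span_props hV s
    have hy' : Hyp Q (LinearMap.BilinForm.orthogonal (QuadraticMap.polarBilin Q) (hspan F s.1) ⊓ ⊤) := by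
      apply hyp_cancel hV _ (hspan F s.1) _ rfl h2' h5 inf_le_left h4
      rw [sup_perp_inf hrefl h2' h1]
      exact hy
    exact card_level_hyp hV hc₀ (d - h) _ h5 (by rw [h6, finrank_top, hn]; omega) hy'
  have hfr := card_qfr_plus hV hn hy h
  calc Nat.card (ParSub Q h c₀) *
        (2 * ∏ j : Fin h, ((Fintype.card F ^ (2 * (h - (j : ℕ))) - 1) *
          Fintype.card F ^ (2 * h + 1 - 2 * (j : ℕ) - 1))) * Fintype.card F
      = (Nat.card (ParSub Q h c₀) *
        (2 * ∏ j : Fin h, ((Fintype.card F ^ (2 * (h - (j : ℕ))) - 1) *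
          Fintype.card F ^ (2 * h + 1 - 2 * (j : ℕ) - 1))) * 1) * Fintype.card F := by ring
    _ = (Nat.card (PFr Q ⊤ h c₀) * 1 * Fintype.card F ^ h) * Fintype.card F := by rw [hmain]
    _ = (Nat.card (PFr Q ⊤ h c₀) * Fintype.card F) * Fintype.card F ^ h := by ring
    _ = (Nat.card (QFr Q ⊤ h) * Fintype.card F ^ h) *
          (Fintype.card F ^ (d - h) * (Fintype.card F ^ (d - h) - 1)) := by rw [hBc]; ring
    _ = _ := by rw [hfr]

/-- **a prime other than the characteristic dividing the number of subspaces of a given odd dimension and type.** -/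
theorem exists_dvd_of_dvd_card_parSub {p : ℕ} [Fact p.Prime] [CharP F p] (h2 : (2 : F) ≠ 0)
    {Q : QuadraticForm F V} (hV : ND (QuadraticMap.polarBilin Q) ⊤) {d : ℕ} (hn : finrank F V = 2 * d)
    (hy : Hyp Q ⊤) {h : ℕ} (hhd : h + 2 ≤ d) {c₀ : F} (hc₀ : c₀ ≠ 0) {r : ℕ} (hr : r.Prime) (hrp : r ≠ p)
    (hdvd : r ∣ Nat.card (ParSub Q h c₀)) :
    r ∣ Fintype.card F ^ d - 1 ∨ ∃ j, d - h ≤ j ∧ j < d ∧ r ∣ Fintype.card F ^ (2 * j) - 1 := by
  have hp : p.Prime := Fact.out
  have hqpos : 0 < Fintype.card F := Fintype.card_pos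
  have hnq : ∀ n : ℕ, ¬ r ∣ Fintype.card F ^ n := by
    intro n h3
    have h4 : r ∣ Fintype.card F := hr.dvd_of_dvd_pow h3
    obtain ⟨n', -, hn'⟩ := FiniteField.card F p
    rw [hn'] at h4
    exact hrp ((Nat.prime_dvd_prime_iff_eq hr hp).mp (hr.dvd_of_dvd_pow h4))
  have h1 : r ∣ (∏ j : Fin h, ((nuP (Fintype.card F) (d - (j : ℕ)) - 1) *
      Fintype.card F ^ (2 * d - 2 * (j : ℕ) - 1))) *
        (Fintype.card F ^ (d - h) * (Fintype.card F ^ (d - h) - 1)) := by
    rw [← card_parSub_mul h2 hV hn hy hhd hc₀, mul_assoc]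
    exact Dvd.dvd.mul_right hdvd _
  rcases (Nat.Prime.dvd_mul hr).mp h1 with h3 | h3
  · rw [hr.prime.dvd_finsetProd_iff] at h3
    obtain ⟨j, -, hj⟩ := h3
    rcases (Nat.Prime.dvd_mul hr).mp hj with h4 | h4
    · rw [nuP_sub_one hqpos (by have := j.2; omega)] at h4
      rcases (Nat.Prime.dvd_mul hr).mp h4 with h5 | h5
      · by_cases hj0 : (j : ℕ) = 0
        · left
          rw [hj0, Nat.sub_zero] at h5
          exact h5
        · right
          exact ⟨d - (j : ℕ), by have := j.2; omega, by omega,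
            dvd_pow_two_mul_sub_one hqpos (Or.inl h5)⟩
      · right
        exact ⟨d - (j : ℕ) - 1, by have := j.2; omega, by omega,
          dvd_pow_two_mul_sub_one hqpos (Or.inr h5)⟩
    · exact absurd h4 (hnq _)
  · rcases (Nat.Prime.dvd_mul hr).mp h3 with h4 | h4
    · exact absurd h4 (hnq _)
    · by_cases hh0 : h = 0
      · left
        rw [hh0, Nat.sub_zero] at h4
        exact h4
      · right
        exact ⟨d - h, le_rfl, by omega, dvd_pow_two_mul_sub_one hqpos (Or.inl h4)⟩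

end count

end Cfsg.Agent.Helper7.QPa
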