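import Mathlib
import Cfsg.Agent.Helper7.QPaE
import Cfsg.Agent.Helper8.StdTransfer

set_option autoImplicit false
set_option linter.unusedSectionVars false
set_option linter.unusedVariables false

/-!
# Isometric embeddings, orthogonal products, and the transfer of a plus type space to the standard one
-/

namespace Cfsg.Agent.Helper7.QPa

open Module Cfsg.Agent.Helper7.POrd Cfsg.Agent.Helper7.SpOrd Cfsg.Agent.Helper7.SpTI
  Cfsg.Agent.Helper7.OrTS Cfsg.Agent.Helper8.QuadForm Cfsg.Agent.Helper7.QTy Cfsg.Agent.Helper7.QEll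
  Cfsg.Agent.Helper8.StdForms Cfsg.Agent.Helper8.OrthOrder Cfsg.Agent.Helper8.ReflMatrix

universe u

variable {F : Type*} [Field F]

section emb

variable {V : Type*} [AddCommGroup V] [Module F V] {V₁ : Type*} [AddCommGroup V₁] [Module F V₁]
  {Q : QuadraticForm F V} {Q₁ : QuadraticForm F V₁} {ι : V₁ →ₗ[F] V}

theorem polar_emb (hι : ∀ v, Q (ι v) = Q₁ v) (u v : V₁) :
    QuadraticMap.polar Q (ι u) (ι v) = QuadraticMap.polar Q₁ u v := by
  unfold QuadraticMap.polar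
  rw [← map_add, hι, hι, hι]

theorem nd_map_emb (hι : ∀ v, Q (ι v) = Q₁ v) {W : Submodule F V₁}
    (hW : ND (QuadraticMap.polarBilin Q₁) W) : ND (QuadraticMap.polarBilin Q) (W.map ι) := by
  rintro _ ⟨u, hu, rfl⟩ hne
  have hu0 : u ≠ 0 := by
    rintro rfl
    exact hne (map_zero _)
  obtain ⟨v, hv, huv⟩ := hW u hu hu0
  refine ⟨ι v, Submodule.mem_map_of_mem hv, ?_⟩
  rw [pB_apply, polar_emb hι]
  exact huv

theorem hyp_map_emb (hinj : Function.Injective ι) (hι : ∀ v, Q (ι v) = Q₁ v) {W : Submodule F V₁}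
    (hy : Hyp Q₁ W) : Hyp Q (W.map ι) := by
  obtain ⟨U, hUW, hU, hUd⟩ := hy
  refine ⟨U.map ι, Submodule.map_mono hUW, ?_, ?_⟩
  · rintro _ ⟨u, hu, rfl⟩
    rw [hι]
    exact hU u hu
  · rw [← (Submodule.equivMapOfInjective ι hinj U).finrank_eq,
      ← (Submodule.equivMapOfInjective ι hinj W).finrank_eq]
    exact hUd

theorem hyp_of_map_emb (hinj : Function.Injective ι) (hι : ∀ v, Q (ι v) = Q₁ v) {W : Submodule F V₁}
    (hy : Hyp Q (W.map ι)) : Hyp Q₁ W := by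
  obtain ⟨U', hUW, hU, hUd⟩ := hy
  refine ⟨U'.comap ι, ?_, ?_, ?_⟩
  · intro v hv
    obtain ⟨w, hw, hwv⟩ := hUW hv
    rw [← hinj hwv]
    exact hw
  · intro v hv
    rw [← hι]
    exact hU _ hv
  · have hmap : (U'.comap ι).map ι = U' :=
      Submodule.map_comap_eq_of_le (hUW.trans (LinearMap.map_le_range))
    rw [(Submodule.equivMapOfInjective ι hinj (U'.comap ι)).finrank_eq, hmap,
      (Submodule.equivMapOfInjective ι hinj W).finrank_eq]
    exact hUd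

end emb

section prod

variable {V₁ V₂ : Type*} [AddCommGroup V₁] [Module F V₁] [AddCommGroup V₂] [Module F V₂]
  (Q₁ : QuadraticForm F V₁) (Q₂ : QuadraticForm F V₂)

theorem prod_inl (v : V₁) : (Q₁.prod Q₂) (LinearMap.inl F V₁ V₂ v) = Q₁ v := by
  rw [QuadraticMap.prod_apply]
  simp

theorem prod_inr (v : V₂) : (Q₁.prod Q₂) (LinearMap.inr F V₁ V₂ v) = Q₂ v := by
  rw [QuadraticMap.prod_apply]
  simp

/-- **the orthogonal product of two quadratic spaces.** -/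
theorem prod_props [Fintype F] [FiniteDimensional F V₁] [FiniteDimensional F V₂] (h2 : (2 : F) ≠ 0)
    (h₁ : ND (QuadraticMap.polarBilin Q₁) ⊤) (h₂ : ND (QuadraticMap.polarBilin Q₂) ⊤) :
    ND (QuadraticMap.polarBilin (Q₁.prod Q₂)) ⊤ ∧
      (((Hyp Q₁ ⊤ ∧ Hyp Q₂ ⊤) ∨
        (¬ Hyp Q₁ ⊤ ∧ ¬ Hyp Q₂ ⊤ ∧ Even (finrank F V₁) ∧ Even (finrank F V₂))) → Hyp (Q₁.prod Q₂) ⊤) := by
  have hrefl := pB_refl (Q₁.prod Q₂)
  have hinjl : Function.Injective (LinearMap.inl F V₁ V₂) := LinearMap.inl_injective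
  have hinjr : Function.Injective (LinearMap.inr F V₁ V₂) := LinearMap.inr_injective
  have hA := nd_map_emb (Q := Q₁.prod Q₂) (prod_inl Q₁ Q₂) h₁
  have hB := nd_map_emb (Q := Q₁.prod Q₂) (prod_inr Q₁ Q₂) h₂
  have hAB : (⊤ : Submodule F V₂).map (LinearMap.inr F V₁ V₂) ≤
      LinearMap.BilinForm.orthogonal (QuadraticMap.polarBilin (Q₁.prod Q₂))
        ((⊤ : Submodule F V₁).map (LinearMap.inl F V₁ V₂)) := by
    rintro _ ⟨w, -, rfl⟩
    rw [mem_perp]
    rintro _ ⟨u, -, rfl⟩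
    rw [pB_apply, QuadraticMap.polar_prod]
    simp
  have hsup : (⊤ : Submodule F V₁).map (LinearMap.inl F V₁ V₂) ⊔
      (⊤ : Submodule F V₂).map (LinearMap.inr F V₁ V₂) = ⊤ := by
    rw [eq_top_iff]
    rintro ⟨x, y⟩ -
    have : ((x, y) : V₁ × V₂) = LinearMap.inl F V₁ V₂ x + LinearMap.inr F V₁ V₂ y := by simp
    rw [this]
    exact Submodule.add_mem _ (Submodule.mem_sup_left (Submodule.mem_map_of_mem Submodule.mem_top))
      (Submodule.mem_sup_right (Submodule.mem_map_of_mem Submodule.mem_top))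
  have hnd : ND (QuadraticMap.polarBilin (Q₁.prod Q₂)) ⊤ := by
    rw [← hsup]
    exact nd_sup hrefl hA hB hAB
  refine ⟨hnd, ?_⟩
  rintro (⟨hy₁, hy₂⟩ | ⟨hn₁, hn₂, he₁, he₂⟩)
  · rw [← hsup]
    exact hyp_sup hA hAB (hyp_map_emb hinjl (prod_inl Q₁ Q₂) hy₁) (hyp_map_emb hinjr (prod_inr Q₁ Q₂) hy₂)
  · rw [← hsup]
    refine hyp_sup_of_not_hyp_odd h2 hnd hA hB hAB ?_ ?_
      (fun h => hn₁ (hyp_of_map_emb hinjl (prod_inl Q₁ Q₂) h))
      (fun h => hn₂ (hyp_of_map_emb hinjr (prod_inr Q₁ Q₂) h))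
    · rw [← (Submodule.equivMapOfInjective _ hinjl ⊤).finrank_eq, finrank_top]
      exact he₁
    · rw [← (Submodule.equivMapOfInjective _ hinjr ⊤).finrank_eq, finrank_top]
      exact he₂

end prod

section transfer

variable {E : Type u} [AddCommGroup E] [Module F E]

/-- a plus type space is isometric to the standard one. -/
theorem exists_plus_iso [FiniteDimensional F E] {QE : QuadraticForm F E}
    (hND : ND (QuadraticMap.polarBilin QE) ⊤) (hy : Hyp QE ⊤) {d : ℕ} (hd : finrank F E = 2 * d) :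
    ∃ e : E ≃ₗ[F] (Fin d ⊕ Fin d → F), ∀ v, plusForm F d (e v) = QE v := by
  obtain ⟨s, -⟩ := exists_full_frame hND hND (by rw [finrank_top]; exact hd) hy
  obtain ⟨⟨e, f⟩, hhyp, -, -⟩ := s
  simp only at hhyp
  obtain ⟨b, hb⟩ := hhyp.exists_basis QE hd
  have hbl : ∀ i, b (Sum.inl i) = e i := fun i => by rw [hb]; rfl
  have hbr : ∀ i, b (Sum.inr i) = f i := fun i => by rw [hb]; rfl
  refine ⟨b.equivFun, Cfsg.Agent.Helper8.StdTransfer.plus_transfer QE b ?_ ?_ ?_⟩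
  · intro i
    rw [hbl, hbr]
    exact hhyp.1 i
  · intro i j
    rw [hbl, hbr]
    exact hhyp.2.1 i j
  · intro i j
    rw [hbl, hbl, hbr, hbr]
    exact hhyp.2.2 i j

/-- an isometry of a space isometric to the standard plus type space, as a matrix. -/
theorem exists_isom_of_equiv {d : ℕ} (e : E ≃ₗ[F] (Fin d ⊕ Fin d → F)) {QE : QuadraticForm F E}
    (he : ∀ v, plusForm F d (e v) = QE v) (φ φ' : Module.End F E) (h1 : φ * φ' = 1) (h2 : φ' * φ = 1)
    (hφ : ∀ v, QE (φ v) = QE v) :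
    ∃ y : ↥(Cfsg.isometryGroup F ⇑(plusForm F d)),
      ∀ v, Matrix.toLin' ((y : GL (Fin d ⊕ Fin d) F) : Matrix (Fin d ⊕ Fin d) (Fin d ⊕ Fin d) F) (e v) =
        e (φ v) := by
  obtain ⟨ψ, hψ⟩ : ∃ ψ : (Fin d ⊕ Fin d → F) ≃ₗ[F] (Fin d ⊕ Fin d → F),
      ∀ w, ψ w = e (φ (e.symm w)) := by
    refine ⟨LinearEquiv.ofLinear
      ((e : E →ₗ[F] (Fin d ⊕ Fin d → F)) ∘ₗ φ ∘ₗ (e.symm : (Fin d ⊕ Fin d → F) →ₗ[F] E))
      ((e : E →ₗ[F] (Fin d ⊕ Fin d → F)) ∘ₗ φ' ∘ₗ
        (e.symm : (Fin d ⊕ Fin d → F) →ₗ[F] E)) ?_ ?_, fun w => rfl⟩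
    · apply LinearMap.ext
      intro w
      simp only [LinearMap.comp_apply, LinearEquiv.coe_coe, LinearEquiv.symm_apply_apply,
        LinearMap.id_apply]
      rw [← Module.End.mul_apply, h1, Module.End.one_apply, LinearEquiv.apply_symm_apply]
    · apply LinearMap.ext
      intro w
      simp only [LinearMap.comp_apply, LinearEquiv.coe_coe, LinearEquiv.symm_apply_apply,
        LinearMap.id_apply]
      rw [← Module.End.mul_apply, h2, Module.End.one_apply, LinearEquiv.apply_symm_apply]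
  have hψQ : ∀ w, plusForm F d (ψ w) = plusForm F d w := by
    intro w
    rw [hψ, he, hφ, ← he, LinearEquiv.apply_symm_apply]
  obtain ⟨k, hk⟩ : ∃ k : ↥(Isom (plusForm F d)), k.1 = ψ := ⟨⟨ψ, hψQ⟩, rfl⟩
  obtain ⟨y, hy⟩ : ∃ y : ↥(Cfsg.isometryGroup F ⇑(plusForm F d)), isomEquiv (plusForm F d) y = k :=
    ⟨(isomEquiv (plusForm F d)).symm k, MulEquiv.apply_symm_apply _ _⟩
  refine ⟨y, fun v => ?_⟩
  rw [Matrix.toLin'_apply, ← isomEquiv_apply, hy, hk, hψ, LinearEquiv.symm_apply_apply]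

theorem intertwine_pow {V' : Type*} [AddCommGroup V'] [Module F V'] (e : E ≃ₗ[F] V') {T : Module.End F V'}
    {φ : Module.End F E} (h : ∀ v, T (e v) = e (φ v)) (n : ℕ) (v : E) : (T ^ n) (e v) = e ((φ ^ n) v) := by
  induction n generalizing v with
  | zero => simp
  | succ n ih => rw [pow_succ, Module.End.mul_apply, h, ih, pow_succ, Module.End.mul_apply]

theorem fix_intertwine {V' : Type*} [AddCommGroup V'] [Module F V'] (e : E ≃ₗ[F] V') {T : Module.End F V'}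
    {φ : Module.End F E} (h : ∀ v, T (e v) = e (φ v)) :
    fixS T = (fixS φ).map (e : E →ₗ[F] V') := by
  ext w
  constructor
  · intro hw
    refine ⟨e.symm w, ?_, by simp⟩
    rw [SetLike.mem_coe, mem_fixS]
    apply e.injective
    rw [← h, LinearEquiv.apply_symm_apply]
    exact mem_fixS.mp hw
  · rintro ⟨v, hv, rfl⟩
    rw [mem_fixS, LinearEquiv.coe_coe, h, mem_fixS.mp hv]

end transfer

end Cfsg.Agent.Helper7.QPa
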