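import Mathlib
import Cfsg.Agent.Helper7.QPaF

set_option autoImplicit false
set_option linter.unusedSectionVars false
set_option linter.unusedVariables false

/-!
# The standard plus type space; an element of `Ω⁺_{2d}(q)` of odd prime order with the smallest fixed space
-/

namespace Cfsg.Agent.Helper7.QPa

open Matrix Module Cfsg.Agent.Helper8.SpS Cfsg.Agent.Helper8.SpStab Cfsg.Agent.Helper7.POrd
  Cfsg.Agent.Helper7.SpOrd Cfsg.Agent.Helper7.SpTI Cfsg.Agent.Helper7.SpCP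
  Cfsg.Agent.Helper7.OrTS Cfsg.Agent.Helper8.QuadForm Cfsg.Agent.Helper7.QTy Cfsg.Agent.Helper7.QEll
  Cfsg.Agent.Helper8.StdForms Cfsg.Agent.Helper8.OrthOrder Cfsg.Agent.Helper8.ReflMatrix

universe u

variable {F : Type*} [Field F]

/-! ### the standard space -/

theorem plus_nd_top (d : ℕ) : ND (QuadraticMap.polarBilin (plusForm F d)) ⊤ := by
  intro u _ hu
  by_contra hcon
  push Not at hcon
  apply hu
  exact (nondeg_iff _).mp (plusForm_nondeg F d) u (fun v => hcon v Submodule.mem_top)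

/-- the first half of the coordinates. -/
noncomputable def inlMap (d : ℕ) (F : Type*) [Field F] : (Fin d → F) →ₗ[F] (Fin d ⊕ Fin d → F) :=
  LinearMap.pi (fun k => Sum.elim (fun i => LinearMap.proj i) (fun _ => 0) k)

theorem inlMap_inl {d : ℕ} (u : Fin d → F) (i : Fin d) : inlMap d F u (Sum.inl i) = u i := rfl

theorem inlMap_inr {d : ℕ} (u : Fin d → F) (i : Fin d) : inlMap d F u (Sum.inr i) = 0 := rfl

theorem plus_hyp_top (d : ℕ) : Hyp (plusForm F d) ⊤ := by
  refine ⟨LinearMap.range (inlMap d F), le_top, ?_, ?_⟩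
  · rintro _ ⟨u, rfl⟩
    rw [plusForm_apply]
    unfold Cfsg.quadFormPlus
    apply Finset.sum_eq_zero
    intro i _
    rw [inlMap_inr, mul_zero]
  · have hinj : Function.Injective (inlMap d F) := by
      intro u u' h
      funext i
      have := congrFun h (Sum.inl i)
      rw [inlMap_inl, inlMap_inl] at this
      exact this
    rw [LinearMap.finrank_range_of_inj hinj, finrank_top, finrank_plus, Module.finrank_fin_fun]

theorem plus_QT {d : ℕ} {x : GL (Fin d ⊕ Fin d) F}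
    (hx : x ∈ Cfsg.isometryGroup F (Cfsg.quadFormPlus d F)) (v : Fin d ⊕ Fin d → F) :
    plusForm F d (Matrix.toLin' (x : Matrix (Fin d ⊕ Fin d) (Fin d ⊕ Fin d) F) v) = plusForm F d v := by
  rw [plusForm_apply, plusForm_apply, Matrix.toLin'_apply]
  exact (Cfsg.Agent.Helper8.AutImageOrth.mem_isometryGroup_iff' _ x).mp hx v

theorem plusForm_coe (d : ℕ) :
    (⇑(plusForm F d) : (Fin d ⊕ Fin d → F) → F) = Cfsg.quadFormPlus d F := by
  funext v
  exact plusForm_apply F d v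

/-! ### restriction to a subspace -/

section sub

variable {V : Type*} [AddCommGroup V] [Module F V]

theorem sub_nd_top {Q : QuadraticForm F V} {W : Submodule F V} (hW : ND (QuadraticMap.polarBilin Q) W) :
    ND (QuadraticMap.polarBilin (Q.comp W.subtype)) ⊤ := by
  intro u _ hu
  have hu' : (u : V) ≠ 0 := fun h => hu (Subtype.ext h)
  obtain ⟨v, hv, huv⟩ := hW u u.2 hu'
  exact ⟨⟨v, hv⟩, Submodule.mem_top, huv⟩

theorem sub_hyp_top_iff {Q : QuadraticForm F V} {W : Submodule F V} :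
    Hyp (Q.comp W.subtype) ⊤ ↔ Hyp Q W := by
  have hinj : Function.Injective W.subtype := Subtype.val_injective
  have hι : ∀ v, Q (W.subtype v) = (Q.comp W.subtype) v := fun v => rfl
  constructor
  · intro h
    have := hyp_map_emb hinj hι h
    rwa [Submodule.map_subtype_top] at this
  · intro h
    apply hyp_of_map_emb hinj hι
    rwa [Submodule.map_subtype_top]

end sub

/-! ### the block model -/

section model

variable {V₀ : Type*} [AddCommGroup V₀] [Module F V₀] {s : ℕ}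

theorem piMapF_pow_apply (S : Fin s → Module.End F V₀) (n : ℕ) (u : Fin s → V₀) :
    ((piMapF S) ^ n) u = fun l => ((S l) ^ n) (u l) := by
  induction n generalizing u with
  | zero => simp
  | succ n ih =>
    rw [pow_succ, Module.End.mul_apply, ih]
    funext l
    rw [piMapF_apply, pow_succ, Module.End.mul_apply]

theorem piMapF_pow_eq_one {S : Fin s → Module.End F V₀} {r : ℕ} (hSr : ∀ l, S l ^ r = 1) :
    (piMapF S) ^ r = 1 := by
  apply LinearMap.ext
  intro u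
  rw [piMapF_pow_apply]
  funext l
  rw [hSr l]
  rfl

theorem fixS_piMapF {S : Fin s → Module.End F V₀} (hSfix : ∀ l, fixS (S l) = ⊥) : fixS (piMapF S) = ⊥ := by
  rw [eq_bot_iff]
  intro u hu
  rw [Submodule.mem_bot]
  funext l
  have h1 := congrFun (POrd.mem_fixS.mp hu) l
  rw [piMapF_apply] at h1
  have h2 : u l ∈ fixS (S l) := POrd.mem_fixS.mpr h1
  rw [hSfix l, Submodule.mem_bot] at h2
  exact h2

end model

variable [Fintype F] {p : ℕ} [Fact p.Prime] [CharP F p] {r : ℕ} [Fact r.Prime]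

/-- **an element of `Ω⁺_{2d}(q)` of order `r` with the smallest possible fixed space.** -/
theorem exists_elt_small_fix_plus (h2F : (2 : F) ≠ 0) (hr2 : r ≠ 2) (hrp : r ≠ p) (d : ℕ)
    (hcd : cOf (orderOf ((Fintype.card F : ℕ) : ZMod r)) ≤ 2 * d)
    (hty : Odd (orderOf ((Fintype.card F : ℕ) : ZMod r)) ∨
      0 < (2 * d) % cOf (orderOf ((Fintype.card F : ℕ) : ZMod r)) ∨
      Even ((2 * d) / orderOf ((Fintype.card F : ℕ) : ZMod r))) :
    ∃ x : GL (Fin d ⊕ Fin d) F, x ∈ Cfsg.Geo.omegaGL (Cfsg.quadFormPlus d F) ∧ x ^ r = 1 ∧ x ≠ 1 ∧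
      finrank F ↥(fixS (Matrix.toLin' (x : Matrix (Fin d ⊕ Fin d) (Fin d ⊕ Fin d) F))) ≤
        (2 * d) % cOf (orderOf ((Fintype.card F : ℕ) : ZMod r)) := by
  classical
  have hr : r.Prime := Fact.out
  have hrodd : Odd r := hr.odd_of_ne_two hr2
  obtain ⟨i, hi⟩ : ∃ i, i = orderOf ((Fintype.card F : ℕ) : ZMod r) := ⟨_, rfl⟩
  rw [← hi] at hcd hty ⊢
  have hipos : 0 < i := by rw [hi]; exact orderOf_q_pos hrp
  obtain ⟨c, hc⟩ : ∃ c, c = cOf i := ⟨_, rfl⟩
  rw [← hc] at hcd hty ⊢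
  have hcpos : 0 < c := by rw [hc]; exact cOf_pos hipos
  obtain ⟨h₀, hh₀⟩ : ∃ h₀, c = 2 * h₀ := by
    obtain ⟨h₀, hh₀⟩ := cOf_even i
    exact ⟨h₀, by rw [hc]; omega⟩
  have hh₀pos : 1 ≤ h₀ := by omega
  obtain ⟨a, ha⟩ : ∃ a, a = 2 * d / c := ⟨_, rfl⟩
  have ha1 : 1 ≤ a := by
    rw [ha]
    exact Nat.div_pos hcd hcpos
  have hdm := Nat.div_add_mod (2 * d) c
  rw [← ha] at hdm
  obtain ⟨k', hk'⟩ : ∃ k', (2 * d) % c = 2 * k' := by
    refine ⟨d - h₀ * a, ?_⟩
    have : c * a = 2 * (h₀ * a) := by rw [hh₀]; ring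
    omega
  -- the block
  obtain ⟨B₀, T₀, hB₀s, hB₀nd, hinv₀, hT₀r, hfix₀⟩ := exists_orth_block (F := F) hr2 hrp
    (h := h₀) (by rw [← hi, ← hc, hh₀])
  haveI : Nontrivial (Fin h₀ ⊕ Fin h₀ → F) := by
    haveI : Nonempty (Fin h₀ ⊕ Fin h₀) := ⟨Sum.inl ⟨0, by omega⟩⟩
    infer_instance
  obtain ⟨S, hS⟩ : ∃ S : Fin a → Module.End F (Fin h₀ ⊕ Fin h₀ → F), ∀ l, S l = T₀ := ⟨fun _ => T₀, fun _ => rfl⟩
  have hSiso : ∀ l, Inv B₀ (S l) := fun l => by rw [hS]; exact hinv₀
  have hSr : ∀ l, S l ^ r = 1 := fun l => by rw [hS]; exact hT₀r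
  have hSfix : ∀ l, fixS (S l) = ⊥ := fun l => by rw [hS]; exact hfix₀
  -- the quadratic form of the blocks
  have hBMs := piB_symm (s := a) hB₀s
  obtain ⟨QM, hQM⟩ : ∃ QM : QuadraticForm F (Fin a → (Fin h₀ ⊕ Fin h₀ → F)),
      ∀ v, QM v = 2⁻¹ * piB (ι := Fin a) B₀ v v :=
    ⟨(2⁻¹ : F) • LinearMap.BilinMap.toQuadraticMap (piB (ι := Fin a) B₀), fun v => rfl⟩
  have hpolM : ∀ u v, QuadraticMap.polar QM u v = piB (ι := Fin a) B₀ u v := by
    intro u v
    unfold QuadraticMap.polar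
    rw [hQM, hQM, hQM]
    simp only [map_add, LinearMap.add_apply]
    rw [hBMs.eq v u]
    field_simp
    ring
  have hQTM : ∀ v, QM (piMapF S v) = QM v := by
    intro v
    rw [hQM, hQM, piB_invF hSiso]
  have hTMr : (piMapF S) ^ r = 1 := piMapF_pow_eq_one hSr
  have hfixM : fixS (piMapF S) = ⊥ := fixS_piMapF hSfix
  have hNDM : ND (QuadraticMap.polarBilin QM) ⊤ := by
    intro u _ hu
    by_contra hcon
    push Not at hcon
    apply hu
    apply piB_nondeg (ι := Fin a) hB₀nd u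
    intro v
    rw [← hpolM]
    exact hcon v Submodule.mem_top
  have hMd : finrank F (Fin a → (Fin h₀ ⊕ Fin h₀ → F)) = c * a := by
    rw [Module.finrank_pi_fintype]
    simp only [Module.finrank_fintype_fun_eq_card, Fintype.card_sum, Fintype.card_fin, Finset.sum_const,
      Finset.card_univ, smul_eq_mul]
    rw [hh₀]
    ring
  -- the type of the blocks
  have hMty : Hyp QM ⊤ ↔ (Odd i ∨ Even a) := by
    by_cases hev : Even i
    · have hci : c = i := by rw [hc]; unfold cOf; rw [if_pos hev]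
      have hev' := hev
      rw [hi] at hev'
      have := hyp_iff_even_blocks h2F hr2 hrp hNDM hQTM hTMr hev' a ⊤ (Module.End.invtSubmodule.top_mem _)
        hNDM (by rw [hfixM, inf_bot_eq]) (by rw [finrank_top, hMd, ← hi, ← hci])
      rw [this]
      constructor
      · exact fun h => Or.inr h
      · rintro (h | h)
        · exact absurd hev (Nat.not_even_iff_odd.mpr h)
        · exact h
    · have hodd : Odd i := Nat.not_even_iff_odd.mp hev
      have hci : c = 2 * i := by rw [hc]; unfold cOf; rw [if_neg hev]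
      have hodd' := hodd
      rw [hi] at hodd'
      obtain ⟨U, -, -, -, hUd, hUy⟩ := exists_hyp_blocks_odd h2F hr2 hrp hQTM hTMr hodd' a ⊤
        (Module.End.invtSubmodule.top_mem _) hNDM (by rw [hfixM, inf_bot_eq])
        (by rw [finrank_top, hMd, ← hi, ← hci])
      have hUtop : U = ⊤ := by
        apply Submodule.eq_top_of_finrank_eq
        rw [hUd, hMd, ← hi, ← hci]
      rw [hUtop] at hUy
      exact ⟨fun _ => Or.inl hodd, fun _ => hUy⟩
  -- the fixed part
  have hV' := plus_nd_top (F := F) (k' + 1)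
  have hV'd : finrank F ↥(⊤ : Submodule F (Fin (k' + 1) ⊕ Fin (k' + 1) → F)) = 2 * (k' + 1) := by
    rw [finrank_top, finrank_plus]
  obtain ⟨W₁, hW₁nd, hW₁d, hW₁ty⟩ : ∃ W₁ : Submodule F (Fin (k' + 1) ⊕ Fin (k' + 1) → F),
      ND (QuadraticMap.polarBilin (plusForm F (k' + 1))) W₁ ∧ finrank F ↥W₁ = 2 * k' ∧
      (Hyp (plusForm F (k' + 1)) W₁ ↔ Hyp QM ⊤) := by
    by_cases hyM : Hyp QM ⊤
    · obtain ⟨W₁, -, h2', h3, h4⟩ := exists_hyp_sub hV' hV' (h := k') (by rw [hV'd]; omega)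
      exact ⟨W₁, h2', h3, ⟨fun _ => hyM, fun _ => h4⟩⟩
    · have hnot : ¬ (Odd i ∨ Even a) := fun h => hyM (hMty.mpr h)
      push Not at hnot
      obtain ⟨hno, hna⟩ := hnot
      have hev : Even i := Nat.not_odd_iff_even.mp hno
      have hci : c = i := by rw [hc]; unfold cOf; rw [if_pos hev]
      have hk'pos : 1 ≤ k' := by
        rcases hty with h | h | h
        · exact absurd h hno
        · omega
        · rw [← hci, ← ha] at h
          exact absurd h hna
      obtain ⟨W₁, -, h2', h3, h4⟩ := exists_not_hyp_sub_odd h2F hV' hV' (h := k' - 1)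
        (by rw [hV'd]; omega)
      exact ⟨W₁, h2', by rw [h3]; omega, ⟨fun h => absurd h h4, fun h => absurd h hyM⟩⟩
  -- the model
  obtain ⟨Q₁, hQ₁⟩ : ∃ Q₁ : QuadraticForm F ↥W₁, Q₁ = (plusForm F (k' + 1)).comp W₁.subtype := ⟨_, rfl⟩
  have hND₁ : ND (QuadraticMap.polarBilin Q₁) ⊤ := by rw [hQ₁]; exact sub_nd_top hW₁nd
  have hty₁ : Hyp Q₁ ⊤ ↔ Hyp QM ⊤ := by rw [hQ₁, sub_hyp_top_iff]; exact hW₁ty
  obtain ⟨hNDE, hHypE⟩ := prod_props QM Q₁ h2F hNDM hND₁
  have hyE : Hyp (QM.prod Q₁) ⊤ := by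
    apply hHypE
    by_cases hyM : Hyp QM ⊤
    · exact Or.inl ⟨hyM, hty₁.mpr hyM⟩
    · refine Or.inr ⟨hyM, fun h => hyM (hty₁.mp h), ?_, ?_⟩
      · rw [hMd, hh₀]
        exact ⟨h₀ * a, by ring⟩
      · rw [hW₁d]
        exact ⟨k', by ring⟩
  have hEd : finrank F ((Fin a → (Fin h₀ ⊕ Fin h₀ → F)) × ↥W₁) = 2 * d := by
    rw [Module.finrank_prod, hMd, hW₁d]
    omega
  have hφQ : ∀ x, (QM.prod Q₁) (modelMap (V₁ := ↥W₁) S x) = (QM.prod Q₁) x := by
    intro x
    rw [QuadraticMap.prod_apply, QuadraticMap.prod_apply, modelMap_apply]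
    simp only
    rw [hQTM]
  have hφr := modelMap_pow_eq_one (V₁ := ↥W₁) hSr
  have hrpos : 0 < r := hr.pos
  have hφinv1 : modelMap (V₁ := ↥W₁) S * (modelMap (V₁ := ↥W₁) S) ^ (r - 1) = 1 := by
    rw [← pow_succ', Nat.sub_add_cancel hrpos, hφr]
  have hφinv2 : (modelMap (V₁ := ↥W₁) S) ^ (r - 1) * modelMap (V₁ := ↥W₁) S = 1 := by
    rw [← pow_succ, Nat.sub_add_cancel hrpos, hφr]
  obtain ⟨e, he⟩ := exists_plus_iso hNDE hyE hEd
  obtain ⟨y, hy⟩ := exists_isom_of_equiv e he _ _ hφinv1 hφinv2 hφQ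
  -- the order
  have hTr : (Matrix.toLin' ((y : GL (Fin d ⊕ Fin d) F) : Matrix (Fin d ⊕ Fin d) (Fin d ⊕ Fin d) F)) ^ r
      = 1 := by
    apply LinearMap.ext
    intro w
    obtain ⟨v, rfl⟩ := e.surjective w
    rw [intertwine_pow e hy, hφr]
    rfl
  have hyr : y ^ r = 1 := by
    apply Subtype.ext
    apply Units.ext
    apply Matrix.toLin'.injective
    rw [Subgroup.coe_pow, ← toLin'_pow_gl, hTr, Subgroup.coe_one, Units.val_one, Matrix.toLin'_one]
    rfl
  have hcard : 2 ≤ Fintype.card (Fin d ⊕ Fin d) := by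
    rw [Fintype.card_sum, Fintype.card_fin]
    omega
  have hycomm := mem_commutator_of_pow_odd (plusForm F d) h2F (plusForm_nondeg F d) hcard hrodd hyr
  refine ⟨(y : GL (Fin d ⊕ Fin d) F), ?_, ?_, ?_, ?_⟩
  · rw [← plusForm_coe]
    exact ⟨y, hycomm, rfl⟩
  · rw [← Subgroup.coe_pow, hyr]
    rfl
  · intro hx1
    apply modelMap_ne_one (V₁ := ↥W₁) ha1 hSfix
    apply LinearMap.ext
    intro v
    apply e.injective
    rw [← hy, hx1, Units.val_one, Matrix.toLin'_one, LinearMap.id_apply, Module.End.one_apply]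
  · rw [fix_intertwine e hy, LinearEquiv.finrank_map_eq, hk', ← hW₁d]
    exact finrank_fix_model_le hSfix

end Cfsg.Agent.Helper7.QPa
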