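import Mathlib
import Cfsg.Agent.Helper7.QPaG

set_option autoImplicit false
set_option linter.unusedSectionVars false
set_option linter.unusedVariables false

/-!
# `Ω⁺_{2d}(q)` on nondegenerate subspaces of odd dimension: necessity for odd `r ≠ p`
-/

namespace Cfsg.Agent.Helper7.QPa

open Matrix Module Cfsg.Agent.Helper7.POrd Cfsg.Agent.Helper7.SpOrd Cfsg.Agent.Helper7.SpTI
  Cfsg.Agent.Helper7.OrTS Cfsg.Agent.Helper8.QuadForm Cfsg.Agent.Helper7.QTy Cfsg.Agent.Helper7.QEll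
  Cfsg.Agent.Helper8.StdForms

universe u

variable {F : Type*} [Field F]

section odd

variable {V : Type u} [AddCommGroup V] [Module F V]
variable [Fintype F] [Finite V] {p : ℕ} [Fact p.Prime] [CharP F p] {r : ℕ} [Fact r.Prime]

/-- **the fixed part of an invariant nondegenerate subspace.** -/
theorem mod_le_of_nd_invt (h2 : (2 : F) ≠ 0) (hr2 : r ≠ 2) (hrp : r ≠ p) {Q : QuadraticForm F V}
    {T : Module.End F V} (hQT : ∀ v, Q (T v) = Q v) (hT : T ^ r = 1)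
    {W : Submodule F V} (hW : W ∈ Module.End.invtSubmodule T) (hWnd : ND (QuadraticMap.polarBilin Q) W)
    (hfx : finrank F ↥(fixS T) < cOf (orderOf ((Fintype.card F : ℕ) : ZMod r))) :
    finrank F ↥W % cOf (orderOf ((Fintype.card F : ℕ) : ZMod r)) ≤ finrank F ↥(fixS T) := by
  have hfd : FiniteDimensional F V := Module.Finite.of_finite
  have hrF : (r : F) ≠ 0 := natCast_ne_zero_of_ne hrp
  have hrefl := pB_refl Q
  have hiso := iso_of_Q hQT
  have hdec := finrank_invt_decomp hrF hT hW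
  have hmovnd := nd_inf_mov hrefl hiso hrF hT hW hWnd
  have hmovinv : W ⊓ movS r T ∈ Module.End.invtSubmodule T := inf_invt hW (movS_invt r T)
  have hmovfix : (W ⊓ movS r T) ⊓ fixS T = ⊥ := by
    rw [eq_bot_iff, ← (disjoint_fix_mov hrF T).eq_bot]
    rintro x ⟨⟨-, hx1⟩, hx2⟩
    exact ⟨hx2, hx1⟩
  have hcdvd := cOf_dvd_finrank_s h2 hr2 hrp (pB_symm' Q) hiso hT _ _ rfl hmovinv hmovnd hmovfix
  obtain ⟨a, ha⟩ := hcdvd
  have hle : finrank F ↥(W ⊓ fixS T) ≤ finrank F ↥(fixS T) := Submodule.finrank_mono inf_le_right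
  have hmod : finrank F ↥W % cOf (orderOf ((Fintype.card F : ℕ) : ZMod r)) = finrank F ↥(W ⊓ fixS T) := by
    rw [hdec, ha, Nat.add_mul_mod_self_left, Nat.mod_eq_of_lt (by omega)]
  rw [hmod]
  exact hle

end odd

variable [Fintype F] {p : ℕ} [Fact p.Prime] [CharP F p] {r : ℕ} [Fact r.Prime]

/-- **necessity**, `r` odd. -/
theorem cond_of_forall_par (h2F : (2 : F) ≠ 0) (hr2 : r ≠ 2) (hrp : r ≠ p) {d h : ℕ} (hhd : 2 * h + 1 < d)
    {c₀ : F} (hc₀ : c₀ ≠ 0) (hdvd : r ∣ Nat.card (ParSub (plusForm F d) h c₀))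
    (hall : ∀ x : GL (Fin d ⊕ Fin d) F, x ∈ Cfsg.Geo.omegaGL (Cfsg.quadFormPlus d F) → x ^ r = 1 → x ≠ 1 →
      ∃ W : Submodule F (Fin d ⊕ Fin d → F),
        W ∈ Module.End.invtSubmodule (Matrix.toLin' (x : Matrix (Fin d ⊕ Fin d) (Fin d ⊕ Fin d) F)) ∧
        ND (QuadraticMap.polarBilin (plusForm F d)) W ∧ finrank F ↥W = 2 * h + 1) :
    ((2 * d) % cOf (orderOf ((Fintype.card F : ℕ) : ZMod r)) = 0 ∧
        Even (orderOf ((Fintype.card F : ℕ) : ZMod r)) ∧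
        Odd ((2 * d) / orderOf ((Fintype.card F : ℕ) : ZMod r))) ∨
      (cOf (orderOf ((Fintype.card F : ℕ) : ZMod r)) ≤ 2 * h + 1 ∧
        (2 * h + 1) % cOf (orderOf ((Fintype.card F : ℕ) : ZMod r)) <
          (2 * d) % cOf (orderOf ((Fintype.card F : ℕ) : ZMod r))) := by
  have hr : r.Prime := Fact.out
  have hipos : 0 < orderOf ((Fintype.card F : ℕ) : ZMod r) := orderOf_q_pos hrp
  have hcpos := cOf_pos hipos
  have hdiv := exists_dvd_of_dvd_card_parSub h2F (plus_nd_top (F := F) d) (finrank_plus F d) (plus_hyp_top d)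
    (by omega : h + 2 ≤ d) hc₀ hr hrp hdvd
  obtain ⟨c, hc⟩ : ∃ c, c = cOf (orderOf ((Fintype.card F : ℕ) : ZMod r)) := ⟨_, rfl⟩
  rw [← hc] at hcpos ⊢
  obtain ⟨h₀, hh₀⟩ : ∃ h₀, c = 2 * h₀ := by
    obtain ⟨h₀, hh₀⟩ := cOf_even (orderOf ((Fintype.card F : ℕ) : ZMod r))
    exact ⟨h₀, by rw [hc]; omega⟩
  -- consequences of the divisibility
  have hD : c ≤ 2 * d ∧ (2 * d) % c ≤ 2 * h := by
    rcases hdiv with h1 | ⟨j, hj1, hj2, h1⟩
    · have hid : orderOf ((Fintype.card F : ℕ) : ZMod r) ∣ d := orderOf_dvd_of_dvd_pow_sub_one h1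
      have hcd : c ∣ 2 * d := by
        rw [hc]
        exact cOf_dvd_of_dvd (Dvd.dvd.mul_left hid 2)
      refine ⟨Nat.le_of_dvd (by omega) hcd, ?_⟩
      rw [Nat.mod_eq_zero_of_dvd hcd]
      omega
    · have hij : orderOf ((Fintype.card F : ℕ) : ZMod r) ∣ 2 * j := orderOf_dvd_of_dvd_pow_sub_one h1
      have hcj : c ∣ 2 * j := by
        rw [hc]
        exact cOf_dvd_of_dvd hij
      have hcle : c ≤ 2 * j := Nat.le_of_dvd (by omega) hcj
      refine ⟨by omega, ?_⟩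
      obtain ⟨s, hs⟩ := hcj
      have : 2 * d = c * s + 2 * (d - j) := by omega
      rw [this, Nat.mul_add_mod]
      exact (Nat.mod_le _ _).trans (by omega)
  obtain ⟨hcd, hkm⟩ := hD
  -- parities
  have hmodd : ∃ z, (2 * h + 1) % c = 2 * z + 1 := by
    have hdm := Nat.div_add_mod (2 * h + 1) c
    rw [hh₀] at hdm ⊢
    have hmul : 2 * h₀ * ((2 * h + 1) / (2 * h₀)) = 2 * (h₀ * ((2 * h + 1) / (2 * h₀))) := by ring
    rw [hmul] at hdm
    exact ⟨((2 * h + 1) % (2 * h₀)) / 2, by omega⟩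
  have hkev : ∃ z, (2 * d) % c = 2 * z := by
    have hdm := Nat.div_add_mod (2 * d) c
    rw [hh₀] at hdm ⊢
    have hmul : 2 * h₀ * ((2 * d) / (2 * h₀)) = 2 * (h₀ * ((2 * d) / (2 * h₀))) := by ring
    rw [hmul] at hdm
    exact ⟨((2 * d) % (2 * h₀)) / 2, by omega⟩
  by_cases hty : Odd (orderOf ((Fintype.card F : ℕ) : ZMod r)) ∨ 0 < (2 * d) % c ∨
      Even ((2 * d) / orderOf ((Fintype.card F : ℕ) : ZMod r))
  · right
    obtain ⟨x, hxΩ, hxr, hx1, hxfix⟩ := exists_elt_small_fix_plus h2F hr2 hrp d (by rw [← hc]; exact hcd)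
      (by rw [← hc]; exact hty)
    rw [← hc] at hxfix
    obtain ⟨W, hWinv, hWnd, hWd⟩ := hall x hxΩ hxr hx1
    have hxiso : x ∈ Cfsg.isometryGroup F (Cfsg.quadFormPlus d F) := by
      obtain ⟨y, -, rfl⟩ := hxΩ
      exact y.2
    have hklt : (2 * d) % c < c := Nat.mod_lt _ hcpos
    have hmod := mod_le_of_nd_invt h2F hr2 hrp (plus_QT hxiso) (toLin'_pow_eq_one hxr) hWinv hWnd
      (by rw [← hc]; omega)
    rw [hWd, ← hc] at hmod
    obtain ⟨z, hz⟩ := hmodd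
    obtain ⟨z', hz'⟩ := hkev
    have hlt : (2 * h + 1) % c < (2 * d) % c := by omega
    refine ⟨?_, hlt⟩
    by_contra hcon
    rw [not_le] at hcon
    rw [Nat.mod_eq_of_lt hcon] at hlt
    omega
  · left
    push Not at hty
    obtain ⟨h1, h3, h4⟩ := hty
    exact ⟨by omega, Nat.not_odd_iff_even.mp h1, Nat.not_even_iff_odd.mp h4⟩

end Cfsg.Agent.Helper7.QPa
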