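import Mathlib
import Cfsg.Agent.Helper7.QPaH
import Cfsg.Agent.Helper8.Reflections

set_option autoImplicit false
set_option linter.unusedSectionVars false
set_option linter.unusedVariables false

/-!
# Isometries with square `-1` (odd characteristic): invariant subspaces, reflections, type
-/

namespace Cfsg.Agent.Helper7.QPa

open Module Cfsg.Agent.Helper7.POrd Cfsg.Agent.Helper7.SpOrd Cfsg.Agent.Helper7.SpTI
  Cfsg.Agent.Helper7.OrTS Cfsg.Agent.Helper8.QuadForm Cfsg.Agent.Helper7.QTy Cfsg.Agent.Helper7.QEll
  Cfsg.Agent.Helper8.Reflections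

universe u

variable {F : Type*} [Field F] {V : Type u} [AddCommGroup V] [Module F V]

theorem polar_self_apply (h2 : (2 : F) ≠ 0) {Q : QuadraticForm F V} {T : Module.End F V}
    (hQT : ∀ v, Q (T v) = Q v) (hTT : ∀ v, T (T v) = -v) (v : V) :
    QuadraticMap.polar Q v (T v) = 0 := by
  have h1 := iso_of_Q hQT v (T v)
  rw [hTT, pB_apply, pB_apply, QuadraticMap.polar_neg_right, QuadraticMap.polar_comm] at h1
  have : (2 : F) * QuadraticMap.polar Q v (T v) = 0 := by linear_combination (-1 : F) * h1
  exact (mul_eq_zero.mp this).resolve_left h2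

/-- **invariant nondegenerate subspaces of an isometry with square `-1` have even dimension.** -/
theorem even_finrank_of_sq_neg_one [FiniteDimensional F V] (h2 : (2 : F) ≠ 0) {Q : QuadraticForm F V}
    {T : Module.End F V} (hQT : ∀ v, Q (T v) = Q v) (hTT : ∀ v, T (T v) = -v) {W : Submodule F V}
    (hW : W ∈ Module.End.invtSubmodule T) (hWnd : ND (QuadraticMap.polarBilin Q) W) :
    Even (finrank F ↥W) := by
  obtain ⟨A, hA⟩ : ∃ A : LinearMap.BilinForm F V, ∀ u v, A u v = QuadraticMap.polar Q u (T v) :=
    ⟨(QuadraticMap.polarBilin Q).compl₂ T, fun u v => rfl⟩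
  have hAalt : A.IsAlt := by
    intro v
    rw [hA]
    exact polar_self_apply h2 hQT hTT v
  apply even_finrank_of_nd hAalt
  intro u hu hne
  obtain ⟨v, hv, huv⟩ := hWnd u hu hne
  have hTv : T v ∈ W := (Module.End.mem_invtSubmodule _).mp hW hv
  refine ⟨-(T v), W.neg_mem hTv, ?_⟩
  rw [hA, map_neg, hTT, neg_neg]
  exact huv

theorem prod_refl_of_perp (Q : QuadraticForm F V) (l : List V) (x : V)
    (h : ∀ z ∈ l, QuadraticMap.polar Q z x = 0) : (l.map (refl Q)).prod x = x := by
  induction l with
  | nil => simp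
  | cons z t ih =>
    rw [List.map_cons, List.prod_cons, LinearEquiv.mul_apply, ih (fun y hy => h y (List.mem_cons_of_mem _ hy)),
      refl_of_perp Q (h z List.mem_cons_self)]

/-- **an isometry with square `-1`**: a product of reflections, and the type of the space. -/
theorem sq_neg_one_props [Fintype F] [FiniteDimensional F V] (h2 : (2 : F) ≠ 0) {Q : QuadraticForm F V}
    (hV : ND (QuadraticMap.polarBilin Q) ⊤) {T : Module.End F V} (hQT : ∀ v, Q (T v) = Q v)
    (hTT : ∀ v, T (T v) = -v) :
    ∀ (n : ℕ) (U : Submodule F V), finrank F ↥U = 2 * n → U ∈ Module.End.invtSubmodule T →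
      ND (QuadraticMap.polarBilin Q) U →
      (∃ l : List V, (∀ z ∈ l, z ∈ U ∧ Q z ≠ 0) ∧ l.length = 2 * n ∧
        (∃ s : F, s ≠ 0 ∧ (l.map (fun v => Q v)).prod = 2 ^ n * (s * s)) ∧
        ∀ u ∈ U, (l.map (refl Q)).prod u = T u) ∧
      (¬ IsSquare (-1 : F) → (Hyp Q U ↔ Even n)) := by
  have hrefl := pB_refl Q
  intro n
  induction n with
  | zero =>
    intro U hUd hUinv hUnd
    have hU0 : U = ⊥ := by
      rw [← Submodule.finrank_eq_zero (R := F)]
      omega
    refine ⟨⟨[], by simp, by simp, ⟨1, one_ne_zero, by simp⟩, ?_⟩, fun _ => ?_⟩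
    · intro u hu
      rw [hU0, Submodule.mem_bot] at hu
      rw [hu]
      simp
    · rw [hU0]
      exact ⟨fun _ => Even.zero, fun _ => hyp_bot Q⟩
  | succ n ih =>
    intro U hUd hUinv hUnd
    have hUinv' : ∀ x ∈ U, T x ∈ U := fun x hx => (Module.End.mem_invtSubmodule _).mp hUinv hx
    have hUne : U ≠ ⊥ := by
      intro h0
      rw [h0, finrank_bot] at hUd
      omega
    obtain ⟨v, hvU, hvv⟩ := exists_self_ne_zero (pB_symm' Q) h2 hUnd hUne
    have hQv : Q v ≠ 0 := by
      intro h0
      apply hvv
      rw [pB_apply, polar_self', h0, mul_zero]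
    obtain ⟨w, hw⟩ : ∃ w, w = T v := ⟨_, rfl⟩
    have hwU : w ∈ U := by rw [hw]; exact hUinv' v hvU
    have hQw : Q w = Q v := by rw [hw]; exact hQT v
    have hQw0 : Q w ≠ 0 := by rw [hQw]; exact hQv
    have hvw : QuadraticMap.polar Q v w = 0 := by rw [hw]; exact polar_self_apply h2 hQT hTT v
    have hTw : T w = -v := by rw [hw]; exact hTT v
    have hQvw : Q (v + w) = 2 * Q v := by
      rw [QuadraticMap.map_add Q, hQw, hvw]
      ring
    have hQvw0 : Q (v + w) ≠ 0 := by rw [hQvw]; exact mul_ne_zero h2 hQv
    obtain ⟨hPnd, hPd⟩ := plane_props h2 hV hQv hQw0 hvw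
    have hPU : Submodule.span F {v} ⊔ Submodule.span F {w} ≤ U := by
      apply sup_le
      · rw [Submodule.span_singleton_le_iff_mem]; exact hvU
      · rw [Submodule.span_singleton_le_iff_mem]; exact hwU
    have hvP : v ∈ Submodule.span F {v} ⊔ Submodule.span F {w} :=
      Submodule.mem_sup_left (Submodule.mem_span_singleton_self v)
    have hwP : w ∈ Submodule.span F {v} ⊔ Submodule.span F {w} :=
      Submodule.mem_sup_right (Submodule.mem_span_singleton_self w)
    have hU'nd := nd_perp_inf hrefl hPnd hUnd hPU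
    have hU'd := finrank_perp_inf hrefl hPnd hPU
    rw [hPd, hUd] at hU'd
    have hU'd' : finrank F ↥(LinearMap.BilinForm.orthogonal (QuadraticMap.polarBilin Q)
        (Submodule.span F {v} ⊔ Submodule.span F {w}) ⊓ U) = 2 * n := by omega
    -- vectors of the complement are orthogonal to `v` and `w`
    have hperp : ∀ x ∈ LinearMap.BilinForm.orthogonal (QuadraticMap.polarBilin Q)
        (Submodule.span F {v} ⊔ Submodule.span F {w}), QuadraticMap.polar Q v x = 0 ∧
        QuadraticMap.polar Q w x = 0 := fun x hx => ⟨mem_perp.mp hx v hvP, mem_perp.mp hx w hwP⟩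
    have hperp' : ∀ x, QuadraticMap.polar Q v x = 0 → QuadraticMap.polar Q w x = 0 →
        x ∈ LinearMap.BilinForm.orthogonal (QuadraticMap.polarBilin Q)
          (Submodule.span F {v} ⊔ Submodule.span F {w}) := by
      intro x h1 h3
      rw [mem_perp]
      intro y hy
      obtain ⟨y₁, hy₁, y₂, hy₂, rfl⟩ := Submodule.mem_sup.mp hy
      obtain ⟨α, rfl⟩ := Submodule.mem_span_singleton.mp hy₁
      obtain ⟨β, rfl⟩ := Submodule.mem_span_singleton.mp hy₂
      rw [map_add, LinearMap.add_apply, map_smul, map_smul, LinearMap.smul_apply, LinearMap.smul_apply,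
        pB_apply, pB_apply, h1, h3]
      simp
    have hTperp : ∀ x ∈ LinearMap.BilinForm.orthogonal (QuadraticMap.polarBilin Q)
        (Submodule.span F {v} ⊔ Submodule.span F {w}),
        T x ∈ LinearMap.BilinForm.orthogonal (QuadraticMap.polarBilin Q)
          (Submodule.span F {v} ⊔ Submodule.span F {w}) := by
      intro x hx
      obtain ⟨h1, h3⟩ := hperp x hx
      apply hperp'
      · have hv' : v = T (-w) := by rw [map_neg, hTw, neg_neg]
        have := iso_of_Q hQT (-w) x
        rw [pB_apply, pB_apply, ← hv', QuadraticMap.polar_neg_left, h3, neg_zero] at this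
        exact this
      · have := iso_of_Q hQT v x
        rw [pB_apply, pB_apply, ← hw, h1] at this
        exact this
    have hU'inv : LinearMap.BilinForm.orthogonal (QuadraticMap.polarBilin Q)
        (Submodule.span F {v} ⊔ Submodule.span F {w}) ⊓ U ∈ Module.End.invtSubmodule T := by
      rw [Module.End.mem_invtSubmodule]
      intro x hx
      exact ⟨hTperp x hx.1, hUinv' x hx.2⟩
    obtain ⟨⟨l', hl'mem, hl'len, ⟨s, hs0, hs⟩, hl'act⟩, hty'⟩ := ih _ hU'd' hU'inv hU'nd
    have hsup := sup_perp_inf hrefl hPnd hPU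
    refine ⟨⟨(v + w) :: v :: l', ?_, ?_, ⟨Q v * s, mul_ne_zero hQv hs0, ?_⟩, ?_⟩, ?_⟩
    · intro z hz
      rcases List.mem_cons.mp hz with rfl | hz
      · exact ⟨U.add_mem hvU hwU, hQvw0⟩
      · rcases List.mem_cons.mp hz with rfl | hz
        · exact ⟨hvU, hQv⟩
        · exact ⟨(hl'mem z hz).1.2, (hl'mem z hz).2⟩
    · simp only [List.length_cons, hl'len]
      omega
    · simp only [List.map_cons, List.prod_cons]
      rw [hs, hQvw, pow_succ]
      ring
    · -- the action
      have hPrv : (l'.map (refl Q)).prod v = v := by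
        apply prod_refl_of_perp
        intro z hz
        rw [QuadraticMap.polar_comm]
        exact (hperp z (hl'mem z hz).1.1).1
      have hPrw : (l'.map (refl Q)).prod w = w := by
        apply prod_refl_of_perp
        intro z hz
        rw [QuadraticMap.polar_comm]
        exact (hperp z (hl'mem z hz).1.1).2
      have hGv : (((v + w) :: v :: l').map (refl Q)).prod v = T v := by
        simp only [List.map_cons, List.prod_cons, LinearEquiv.mul_apply]
        rw [hPrv, refl_self Q hQv, map_neg, add_comm v w, refl_add Q hQw.symm (by rw [add_comm]; exact hQvw0),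
          neg_neg, hw]
      have hGw : (((v + w) :: v :: l').map (refl Q)).prod w = T w := by
        simp only [List.map_cons, List.prod_cons, LinearEquiv.mul_apply]
        rw [hPrw, refl_of_perp Q hvw, refl_add Q hQw hQvw0, hTw]
      have hGu : ∀ u' ∈ LinearMap.BilinForm.orthogonal (QuadraticMap.polarBilin Q)
          (Submodule.span F {v} ⊔ Submodule.span F {w}) ⊓ U,
          (((v + w) :: v :: l').map (refl Q)).prod u' = T u' := by
        intro u' hu'
        simp only [List.map_cons, List.prod_cons, LinearEquiv.mul_apply]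
        rw [hl'act u' hu']
        obtain ⟨h1, h3⟩ := hperp _ (hTperp u' hu'.1)
        rw [refl_of_perp Q h1, refl_of_perp Q (by rw [QuadraticMap.polar_add_left, h1, h3, add_zero])]
      intro u hu
      rw [← hsup] at hu
      obtain ⟨y, hy, u', hu', rfl⟩ := Submodule.mem_sup.mp hu
      obtain ⟨y₁, hy₁, y₂, hy₂, rfl⟩ := Submodule.mem_sup.mp hy
      obtain ⟨α, rfl⟩ := Submodule.mem_span_singleton.mp hy₁
      obtain ⟨β, rfl⟩ := Submodule.mem_span_singleton.mp hy₂
      rw [map_add, map_add, map_smul, map_smul, hGv, hGw, hGu u' hu', map_add, map_add, map_smul, map_smul]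
    · intro hns
      have hnP : ¬ Hyp Q (Submodule.span F {v} ⊔ Submodule.span F {w}) := by
        rw [hyp_plane_iff h2 hV hQv hQw0 hvw]
        rintro ⟨t, ht⟩
        apply hns
        refine ⟨t, ?_⟩
        rw [hQw] at ht
        have h3 : Q v * (1 + t * t) = 0 := by linear_combination ht
        rcases mul_eq_zero.mp h3 with h | h
        · exact absurd h hQv
        · linear_combination (-1 : F) * h
      rw [← hsup]
      by_cases hen : Even n
      · have hyU' := (hty' hns).mpr hen
        constructor
        · intro hy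
          exact absurd hy (not_hyp_sup_right hV hPnd hU'nd inf_le_left hnP hyU')
        · intro he
          exact absurd hen (by rw [Nat.even_add_one] at he; exact he)
      · have hnU' : ¬ Hyp Q (LinearMap.BilinForm.orthogonal (QuadraticMap.polarBilin Q)
            (Submodule.span F {v} ⊔ Submodule.span F {w}) ⊓ U) := fun h => hen ((hty' hns).mp h)
        constructor
        · intro _
          rw [Nat.even_add_one]
          exact hen
        · intro _
          exact hyp_sup_of_not_hyp_odd h2 hV hPnd hU'nd inf_le_left (by rw [hPd]; exact even_two)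
            (by rw [hU'd']; exact even_two_mul n) hnP hnU'

end Cfsg.Agent.Helper7.QPa
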