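import Mathlib
import Cfsg.Agent.Helper7.QPaI
import Cfsg.Agent.Helper8.OmegaDiag

set_option autoImplicit false
set_option linter.unusedSectionVars false
set_option linter.unusedVariables false

/-!
# Involutions and elements of square `-1` in `Ω⁺_{2d}(q)`, `q` odd
-/

namespace Cfsg.Agent.Helper7.QPa

open Matrix Module Cfsg.Agent.Helper7.POrd Cfsg.Agent.Helper7.SpOrd Cfsg.Agent.Helper7.SpTI
  Cfsg.Agent.Helper7.OrTS Cfsg.Agent.Helper8.QuadForm Cfsg.Agent.Helper7.QTy Cfsg.Agent.Helper7.QEll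
  Cfsg.Agent.Helper8.Reflections Cfsg.Agent.Helper8.StdForms Cfsg.Agent.Helper8.OrthOrder
  Cfsg.Agent.Helper8.ReflMatrix

universe u

variable {F : Type*} [Field F]

/-! ### involutions -/

section Invol

variable {V : Type u} [AddCommGroup V] [Module F V] [Fintype F] [Finite V]

/-- an involutory isometry of a space of dimension `2d` fixes a nondegenerate subspace of dimension
`2h+1` of prescribed type when `2h+2 ≤ d`. -/
theorem exists_ot_invt_two (h2 : (2 : F) ≠ 0) {Q : QuadraticForm F V}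
    (hV : ND (QuadraticMap.polarBilin Q) ⊤) {T : Module.End F V} (hQT : ∀ v, Q (T v) = Q v) (hT : T ^ 2 = 1)
    {d h : ℕ} (hn : finrank F V = 2 * d) (hm : 2 * h + 2 ≤ d) {c₀ : F} (hc₀ : c₀ ≠ 0) :
    ∃ W : Submodule F V, W ∈ Module.End.invtSubmodule T ∧ ND (QuadraticMap.polarBilin Q) W ∧
      finrank F ↥W = 2 * h + 1 ∧ OT Q W c₀ := by
  have hfd : FiniteDimensional F V := Module.Finite.of_finite
  have hrF : ((2 : ℕ) : F) ≠ 0 := OrTS.two_cast_ne_zero h2
  have hrefl := pB_refl Q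
  have hiso := iso_of_Q hQT
  have hMnd : ND (QuadraticMap.polarBilin Q) (movS 2 T) := by
    have := nd_inf_mov hrefl hiso hrF hT (Module.End.invtSubmodule.top_mem T) hV
    rwa [top_inf_eq] at this
  have hFnd : ND (QuadraticMap.polarBilin Q) (fixS T) := by
    have := nd_inf_fix hrefl hiso hrF hT (Module.End.invtSubmodule.top_mem T) hV
    rwa [top_inf_eq] at this
  have hsum := finrank_fix_add_mov hrF hT
  rw [hn] at hsum
  by_cases hcase : 2 * h + 2 ≤ finrank F ↥(fixS T)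
  · obtain ⟨W, hWle, hWnd, hWd, hWot⟩ := exists_ot_sub h2 hV hFnd hcase hc₀
    exact ⟨W, invt_of_le_fixS hWle, hWnd, hWd, hWot⟩
  · obtain ⟨W, hWle, hWnd, hWd, hWot⟩ := exists_ot_sub h2 hV hMnd (h := h) (by omega) hc₀
    exact ⟨W, OrTS.invt_of_le_movS_two hWle, hWnd, hWd, hWot⟩

end Invol

/-! ### elements of square `-1` of the standard group -/

section Std

variable [Fintype F]

theorem plus_QT' {d : ℕ} (y : ↥(Cfsg.isometryGroup F ⇑(plusForm F d))) (v : Fin d ⊕ Fin d → F) :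
    plusForm F d (Matrix.toLin' ((y : GL (Fin d ⊕ Fin d) F) : Matrix (Fin d ⊕ Fin d) (Fin d ⊕ Fin d) F) v)
      = plusForm F d v := by
  have := (isomEquiv (plusForm F d) y).2 v
  rw [isomEquiv_apply] at this
  rw [Matrix.toLin'_apply]
  exact this

/-- an isometry of the standard space of square `-1` lies in `Ω` iff `2^d` is a square. -/
theorem mem_commutator_iff_of_sq_neg_one (h2 : (2 : F) ≠ 0) {d : ℕ} (hd : 1 ≤ d)
    (y : ↥(Cfsg.isometryGroup F ⇑(plusForm F d)))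
    (hTT : ∀ v, Matrix.toLin' ((y : GL (Fin d ⊕ Fin d) F) : Matrix (Fin d ⊕ Fin d) (Fin d ⊕ Fin d) F)
      (Matrix.toLin' ((y : GL (Fin d ⊕ Fin d) F) : Matrix (Fin d ⊕ Fin d) (Fin d ⊕ Fin d) F) v) = -v) :
    y ∈ commutator ↥(Cfsg.isometryGroup F ⇑(plusForm F d)) ↔ IsSquare ((2 : F) ^ d) := by
  classical
  have hVnd := plus_nd_top (F := F) d
  have hdim : finrank F ↥(⊤ : Submodule F (Fin d ⊕ Fin d → F)) = 2 * d := by
    rw [finrank_top, finrank_plus]
  obtain ⟨⟨l, hl, hlen, ⟨s, hs0, hprod⟩, hact⟩, -⟩ := sq_neg_one_props h2 hVnd (plus_QT' y) hTT d ⊤ hdim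
    (Module.End.invtSubmodule.top_mem _) hVnd
  have hy : y = (l.map (reflElt (plusForm F d))).prod := by
    apply (isomEquiv (plusForm F d)).injective
    apply Subtype.ext
    apply LinearEquiv.ext
    intro v
    rw [Cfsg.Agent.Helper8.OmegaDiag.isomEquiv_prod_reflElt, isomEquiv_apply, hact v Submodule.mem_top,
      Matrix.toLin'_apply]
  have hcard : 2 ≤ Fintype.card (Fin d ⊕ Fin d) := by
    rw [Fintype.card_sum, Fintype.card_fin]
    omega
  rw [hy, Cfsg.Agent.Helper8.OmegaCrit.prod_reflElt_mem_iff (plusForm F d) h2 (plusForm_nondeg F d) hcard l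
    (fun z hz => (hl z hz).2), hlen, hprod, mul_comm ((2 : F) ^ d) (s * s),
    Cfsg.Agent.Helper8.OmegaCrit.isSquare_mul_iff (mul_ne_zero hs0 hs0) ⟨s, rfl⟩]
  exact ⟨fun h => h.2, fun h => ⟨⟨d, by ring⟩, h⟩⟩

/-- if `-1` is not a square, an isometry of square `-1` exists only for even `d`. -/
theorem even_of_sq_neg_one (h2 : (2 : F) ≠ 0) {d : ℕ}
    (y : ↥(Cfsg.isometryGroup F ⇑(plusForm F d)))
    (hTT : ∀ v, Matrix.toLin' ((y : GL (Fin d ⊕ Fin d) F) : Matrix (Fin d ⊕ Fin d) (Fin d ⊕ Fin d) F)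
      (Matrix.toLin' ((y : GL (Fin d ⊕ Fin d) F) : Matrix (Fin d ⊕ Fin d) (Fin d ⊕ Fin d) F) v) = -v)
    (hns : ¬ IsSquare (-1 : F)) : Even d := by
  have hVnd := plus_nd_top (F := F) d
  have hdim : finrank F ↥(⊤ : Submodule F (Fin d ⊕ Fin d → F)) = 2 * d := by
    rw [finrank_top, finrank_plus]
  obtain ⟨-, hty⟩ := sq_neg_one_props h2 hVnd (plus_QT' y) hTT d ⊤ hdim
    (Module.End.invtSubmodule.top_mem _) hVnd
  exact (hty hns).mp (plus_hyp_top d)

/-- construction of an isometry of square `-1` from a square root of `-1`. -/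
theorem exists_sq_neg_one_of_root (d : ℕ) {ι₀ : F} (hι : ι₀ * ι₀ = -1) :
    ∃ y : ↥(Cfsg.isometryGroup F ⇑(plusForm F d)),
      ∀ v, Matrix.toLin' ((y : GL (Fin d ⊕ Fin d) F) : Matrix (Fin d ⊕ Fin d) (Fin d ⊕ Fin d) F)
        (Matrix.toLin' ((y : GL (Fin d ⊕ Fin d) F) : Matrix (Fin d ⊕ Fin d) (Fin d ⊕ Fin d) F) v) = -v := by
  classical
  obtain ⟨sg, hsg⟩ : ∃ sg : Fin d ⊕ Fin d → F, sg = Sum.elim (fun _ => ι₀) (fun _ => -ι₀) := ⟨_, rfl⟩
  have hsg2 : ∀ k, sg k * sg k = -1 := by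
    intro k
    rw [hsg]
    rcases k with k | k
    · exact hι
    · show -ι₀ * -ι₀ = -1
      rw [neg_mul_neg, hι]
  obtain ⟨φ, hφ⟩ : ∃ φ : Module.End F (Fin d ⊕ Fin d → F), ∀ v k, φ v k = sg k * v k :=
    ⟨LinearMap.pi (fun k => sg k • LinearMap.proj k), fun v k => rfl⟩
  have hφφ : ∀ v, φ (φ v) = -v := by
    intro v
    funext k
    rw [hφ, hφ, ← mul_assoc, hsg2, Pi.neg_apply]
    ring
  have h1 : φ * (-φ) = 1 := by
    apply LinearMap.ext
    intro v
    rw [Module.End.mul_apply, LinearMap.neg_apply, map_neg, hφφ, neg_neg, Module.End.one_apply]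
  have h2' : (-φ) * φ = 1 := by
    apply LinearMap.ext
    intro v
    rw [Module.End.mul_apply, LinearMap.neg_apply, hφφ, neg_neg, Module.End.one_apply]
  have hQ : ∀ v, plusForm F d (φ v) = plusForm F d v := by
    intro v
    rw [plusForm_apply, plusForm_apply]
    unfold Cfsg.quadFormPlus
    apply Finset.sum_congr rfl
    intro k _
    rw [hφ, hφ, hsg]
    show ι₀ * v (Sum.inl k) * (-ι₀ * v (Sum.inr k)) = v (Sum.inl k) * v (Sum.inr k)
    linear_combination (-(v (Sum.inl k) * v (Sum.inr k))) * hι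
  obtain ⟨y, hy⟩ := exists_isom_of_equiv (LinearEquiv.refl F (Fin d ⊕ Fin d → F)) (fun v => rfl) φ (-φ) h1 h2' hQ
  refine ⟨y, fun v => ?_⟩
  have e1 := hy v
  have e2 := hy (φ v)
  simp only [LinearEquiv.refl_apply] at e1 e2
  rw [e1, e2, hφφ]

/-- construction of an isometry of square `-1` for even `d`. -/
theorem exists_sq_neg_one_of_even (h2 : (2 : F) ≠ 0) (e : ℕ) :
    ∃ y : ↥(Cfsg.isometryGroup F ⇑(plusForm F (e + e))),
      ∀ v, Matrix.toLin' ((y : GL (Fin (e + e) ⊕ Fin (e + e)) F) :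
          Matrix (Fin (e + e) ⊕ Fin (e + e)) (Fin (e + e) ⊕ Fin (e + e)) F)
        (Matrix.toLin' ((y : GL (Fin (e + e) ⊕ Fin (e + e)) F) :
          Matrix (Fin (e + e) ⊕ Fin (e + e)) (Fin (e + e) ⊕ Fin (e + e)) F) v) = -v := by
  classical
  obtain ⟨φ, hφ⟩ : ∃ φ : Module.End F ((Fin e ⊕ Fin e → F) × (Fin e ⊕ Fin e → F)),
      ∀ x, φ x = (-x.2, x.1) :=
    ⟨LinearMap.prod (-(LinearMap.snd F _ _)) (LinearMap.fst F _ _), fun x => rfl⟩
  have hφφ : ∀ x, φ (φ x) = -x := by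
    intro x
    rw [hφ, hφ]
    rfl
  have h1 : φ * (-φ) = 1 := by
    apply LinearMap.ext
    intro v
    rw [Module.End.mul_apply, LinearMap.neg_apply, map_neg, hφφ, neg_neg, Module.End.one_apply]
  have h2' : (-φ) * φ = 1 := by
    apply LinearMap.ext
    intro v
    rw [Module.End.mul_apply, LinearMap.neg_apply, hφφ, neg_neg, Module.End.one_apply]
  have hQ : ∀ x, ((plusForm F e).prod (plusForm F e)) (φ x) = ((plusForm F e).prod (plusForm F e)) x := by
    intro x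
    rw [hφ, QuadraticMap.prod_apply, QuadraticMap.prod_apply]
    simp only
    rw [QuadraticMap.map_neg, add_comm]
  obtain ⟨hNDE, hHypE⟩ := prod_props (plusForm F e) (plusForm F e) h2 (plus_nd_top e) (plus_nd_top e)
  have hyE : Hyp ((plusForm F e).prod (plusForm F e)) ⊤ := hHypE (Or.inl ⟨plus_hyp_top e, plus_hyp_top e⟩)
  have hEd : finrank F ((Fin e ⊕ Fin e → F) × (Fin e ⊕ Fin e → F)) = 2 * (e + e) := by
    rw [Module.finrank_prod, finrank_plus]
    ring
  obtain ⟨ee, hee⟩ := exists_plus_iso hNDE hyE hEd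
  obtain ⟨y, hy⟩ := exists_isom_of_equiv ee hee φ (-φ) h1 h2' hQ
  refine ⟨y, fun w => ?_⟩
  obtain ⟨v, rfl⟩ := ee.surjective w
  rw [hy, hy, hφφ, map_neg]

/-- an element of `Ω` of square `-1` is a non-scalar element whose invariant nondegenerate subspaces have
even dimension. -/
theorem derangement_of_sq_neg_one (h2 : (2 : F) ≠ 0) {d : ℕ} (hd : 1 ≤ d)
    (y : ↥(Cfsg.isometryGroup F ⇑(plusForm F d)))
    (hTT : ∀ v, Matrix.toLin' ((y : GL (Fin d ⊕ Fin d) F) : Matrix (Fin d ⊕ Fin d) (Fin d ⊕ Fin d) F)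
      (Matrix.toLin' ((y : GL (Fin d ⊕ Fin d) F) : Matrix (Fin d ⊕ Fin d) (Fin d ⊕ Fin d) F) v) = -v)
    (hsq : IsSquare ((2 : F) ^ d)) :
    ∃ x : GL (Fin d ⊕ Fin d) F, x ∈ Cfsg.Geo.omegaGL (Cfsg.quadFormPlus d F) ∧
      ((x ^ 2 : GL (Fin d ⊕ Fin d) F) : Matrix (Fin d ⊕ Fin d) (Fin d ⊕ Fin d) F) =
        (-1 : F) • (1 : Matrix (Fin d ⊕ Fin d) (Fin d ⊕ Fin d) F) ∧
      (∀ z : F, (x : Matrix (Fin d ⊕ Fin d) (Fin d ⊕ Fin d) F) ≠
        z • (1 : Matrix (Fin d ⊕ Fin d) (Fin d ⊕ Fin d) F)) ∧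
      ∀ W : Submodule F (Fin d ⊕ Fin d → F),
        W ∈ Module.End.invtSubmodule (Matrix.toLin' (x : Matrix (Fin d ⊕ Fin d) (Fin d ⊕ Fin d) F)) →
        ND (QuadraticMap.polarBilin (plusForm F d)) W → Even (finrank F ↥W) := by
  classical
  have hVnd := plus_nd_top (F := F) d
  have hcomm := (mem_commutator_iff_of_sq_neg_one h2 hd y hTT).mpr hsq
  have hev : ∀ W : Submodule F (Fin d ⊕ Fin d → F),
      W ∈ Module.End.invtSubmodule
        (Matrix.toLin' ((y : GL (Fin d ⊕ Fin d) F) : Matrix (Fin d ⊕ Fin d) (Fin d ⊕ Fin d) F)) →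
      ND (QuadraticMap.polarBilin (plusForm F d)) W → Even (finrank F ↥W) :=
    fun W hW hWnd => even_finrank_of_sq_neg_one h2 (plus_QT' y) hTT hW hWnd
  refine ⟨(y : GL (Fin d ⊕ Fin d) F), ?_, ?_, ?_, hev⟩
  · rw [← plusForm_coe]
    exact ⟨y, hcomm, rfl⟩
  · apply Matrix.toLin'.injective
    apply LinearMap.ext
    intro v
    rw [Units.val_pow_eq_pow_val, pow_two, Matrix.toLin'_mul, LinearMap.comp_apply, hTT,
      Matrix.toLin'_apply, Matrix.smul_mulVec, Matrix.one_mulVec, neg_one_smul]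
  · intro z hz
    have hdim : 2 ≤ finrank F ↥(⊤ : Submodule F (Fin d ⊕ Fin d → F)) := by
      rw [finrank_top, finrank_plus]
      omega
    obtain ⟨v, -, hv⟩ := exists_repr_in hVnd hdim (1 : F)
    have hQv : plusForm F d v ≠ 0 := by rw [hv]; exact one_ne_zero
    have hv0 : v ≠ 0 := by
      rintro rfl
      exact hQv (QuadraticMap.map_zero _)
    obtain ⟨hLnd, -, -⟩ := line_props h2 hVnd hQv
    have hinv : Submodule.span F {v} ∈ Module.End.invtSubmodule
        (Matrix.toLin' ((y : GL (Fin d ⊕ Fin d) F) : Matrix (Fin d ⊕ Fin d) (Fin d ⊕ Fin d) F)) := by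
      rw [Module.End.mem_invtSubmodule]
      intro w hw
      rw [Submodule.mem_comap, hz, Matrix.toLin'_apply, Matrix.smul_mulVec, Matrix.one_mulVec]
      exact Submodule.smul_mem _ _ hw
    have := hev _ hinv hLnd
    rw [finrank_span_singleton hv0] at this
    exact absurd this (by decide)

end Std

end Cfsg.Agent.Helper7.QPa
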