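import Mathlib
import Cfsg.Agent.Helper7.QPaJ

set_option autoImplicit false
set_option linter.unusedSectionVars false
set_option linter.unusedVariables false

/-!
# The case `r = 2` for `Ω⁺_{2d}(q)` on nondegenerate subspaces of odd dimension
-/

namespace Cfsg.Agent.Helper7.QPa

open Matrix Module Cfsg.Agent.Helper7.POrd Cfsg.Agent.Helper7.SpOrd Cfsg.Agent.Helper7.SpTI
  Cfsg.Agent.Helper7.OrTS Cfsg.Agent.Helper8.QuadForm Cfsg.Agent.Helper7.QTy Cfsg.Agent.Helper7.QEll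
  Cfsg.Agent.Helper8.Reflections Cfsg.Agent.Helper8.StdForms Cfsg.Agent.Helper8.OrthOrder
  Cfsg.Agent.Helper8.ReflMatrix

variable {F : Type*} [Field F] [Fintype F]

theorem isSquare_two_of_pow_odd {d : ℕ} (hd : Odd d) (h2 : (2 : F) ≠ 0) (h : IsSquare ((2 : F) ^ d)) :
    IsSquare (2 : F) := by
  obtain ⟨k, rfl⟩ := hd
  obtain ⟨s, hs⟩ := h
  have hk : ((2 : F) ^ k) ≠ 0 := pow_ne_zero _ h2
  refine ⟨s / 2 ^ k, ?_⟩
  rw [div_mul_div_comm, eq_div_iff (mul_ne_zero hk hk), ← hs]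
  ring

/-- **the case `r = 2`.** -/
theorem two_case_iff (h2 : (2 : F) ≠ 0) (hqodd : Odd (Fintype.card F)) {d h : ℕ} (hhd : 2 * h + 2 ≤ d)
    {c₀ : F} (hc₀ : c₀ ≠ 0) :
    (∀ x : GL (Fin d ⊕ Fin d) F, x ∈ Cfsg.Geo.omegaGL (Cfsg.quadFormPlus d F) →
      (∃ z : F, ((x ^ 2 : GL (Fin d ⊕ Fin d) F) : Matrix (Fin d ⊕ Fin d) (Fin d ⊕ Fin d) F) =
        z • (1 : Matrix (Fin d ⊕ Fin d) (Fin d ⊕ Fin d) F)) →
      (∀ z : F, (x : Matrix (Fin d ⊕ Fin d) (Fin d ⊕ Fin d) F) ≠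
        z • (1 : Matrix (Fin d ⊕ Fin d) (Fin d ⊕ Fin d) F)) →
      ∃ W : Submodule F (Fin d ⊕ Fin d → F),
        W ∈ Module.End.invtSubmodule (Matrix.toLin' (x : Matrix (Fin d ⊕ Fin d) (Fin d ⊕ Fin d) F)) ∧
        ND (QuadraticMap.polarBilin (plusForm F d)) W ∧ finrank F ↥W = 2 * h + 1 ∧
        OT (plusForm F d) W c₀) ↔
    (Odd d ∧ Fintype.card F % 8 ≠ 1) := by
  classical
  have hd1 : 1 ≤ d := by omega
  have hVnd := plus_nd_top (F := F) d
  constructor
  · intro hall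
    by_contra hcon
    have hcase : Even d ∨ Fintype.card F % 8 = 1 := by
      by_cases hev : Even d
      · exact Or.inl hev
      · right
        by_contra hq
        exact hcon ⟨Nat.not_even_iff_odd.mp hev, hq⟩
    have key : ∀ (y : ↥(Cfsg.isometryGroup F ⇑(plusForm F d))),
        (∀ v, Matrix.toLin' ((y : GL (Fin d ⊕ Fin d) F) : Matrix (Fin d ⊕ Fin d) (Fin d ⊕ Fin d) F)
          (Matrix.toLin' ((y : GL (Fin d ⊕ Fin d) F) : Matrix (Fin d ⊕ Fin d) (Fin d ⊕ Fin d) F) v) = -v) →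
        IsSquare ((2 : F) ^ d) → False := by
      intro y hTT hsq
      obtain ⟨x, hxΩ, hx2, hxns, hxev⟩ := derangement_of_sq_neg_one h2 hd1 y hTT hsq
      obtain ⟨W, hWinv, hWnd, hWd, -⟩ := hall x hxΩ ⟨-1, hx2⟩ hxns
      have := hxev W hWinv hWnd
      rw [hWd] at this
      exact absurd this (Nat.not_even_iff_odd.mpr ⟨h, rfl⟩)
    rcases hcase with hev | hq
    · obtain ⟨e, rfl⟩ := hev
      obtain ⟨y, hy⟩ := exists_sq_neg_one_of_even h2 e
      exact key y hy ⟨2 ^ e, pow_add _ _ _⟩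
    · have hm1 : IsSquare (-1 : F) := by
        rw [FiniteField.isSquare_neg_one_iff]
        omega
      obtain ⟨ι₀, hι₀⟩ := hm1
      obtain ⟨y, hy⟩ := exists_sq_neg_one_of_root d hι₀.symm
      have h2sq : IsSquare (2 : F) := by
        rw [FiniteField.isSquare_two_iff]
        omega
      exact key y hy (h2sq.pow d)
  · rintro ⟨hdodd, hq8⟩ x hxΩ ⟨z, hz⟩ hxns
    rw [← plusForm_coe] at hxΩ
    obtain ⟨y, hycomm, rfl⟩ := hxΩ
    have hQT := plus_QT' y
    have hTTz : ∀ v, Matrix.toLin' ((y : GL (Fin d ⊕ Fin d) F) : Matrix (Fin d ⊕ Fin d) (Fin d ⊕ Fin d) F)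
        (Matrix.toLin' ((y : GL (Fin d ⊕ Fin d) F) : Matrix (Fin d ⊕ Fin d) (Fin d ⊕ Fin d) F) v) = z • v := by
      intro v
      have hz' : (((y : GL (Fin d ⊕ Fin d) F) ^ 2 : GL (Fin d ⊕ Fin d) F) :
          Matrix (Fin d ⊕ Fin d) (Fin d ⊕ Fin d) F) = z • 1 := hz
      have : Matrix.toLin' (((y : GL (Fin d ⊕ Fin d) F) ^ 2 : GL (Fin d ⊕ Fin d) F) :
          Matrix (Fin d ⊕ Fin d) (Fin d ⊕ Fin d) F) v =
          Matrix.toLin' (z • (1 : Matrix (Fin d ⊕ Fin d) (Fin d ⊕ Fin d) F)) v := by rw [hz']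
      rw [Units.val_pow_eq_pow_val, pow_two, Matrix.toLin'_mul, LinearMap.comp_apply,
        Matrix.toLin'_apply (z • (1 : Matrix (Fin d ⊕ Fin d) (Fin d ⊕ Fin d) F)), Matrix.smul_mulVec,
        Matrix.one_mulVec] at this
      exact this
    have hdim : 2 ≤ finrank F ↥(⊤ : Submodule F (Fin d ⊕ Fin d → F)) := by
      rw [finrank_top, finrank_plus]
      omega
    obtain ⟨v, -, hv⟩ := exists_repr_in hVnd hdim (1 : F)
    have hzz : z * z = 1 := by
      have h1 : plusForm F d ((Matrix.toLin' ((y : GL (Fin d ⊕ Fin d) F) :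
          Matrix (Fin d ⊕ Fin d) (Fin d ⊕ Fin d) F)) ((Matrix.toLin' ((y : GL (Fin d ⊕ Fin d) F) :
          Matrix (Fin d ⊕ Fin d) (Fin d ⊕ Fin d) F)) v)) = plusForm F d v := by rw [hQT, hQT]
      rw [hTTz, QuadraticMap.map_smul, hv, smul_eq_mul, mul_one] at h1
      exact h1
    have hz' : z = 1 ∨ z = -1 := by
      have : (z - 1) * (z + 1) = 0 := by linear_combination hzz
      rcases mul_eq_zero.mp this with h | h
      · exact Or.inl (by linear_combination h)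
      · exact Or.inr (by linear_combination h)
    rcases hz' with rfl | rfl
    · have hT : (Matrix.toLin' ((y : GL (Fin d ⊕ Fin d) F) :
          Matrix (Fin d ⊕ Fin d) (Fin d ⊕ Fin d) F)) ^ 2 = 1 := by
        apply LinearMap.ext
        intro v
        rw [pow_two, Module.End.mul_apply, hTTz, one_smul, Module.End.one_apply]
      exact exists_ot_invt_two h2 hVnd hQT hT (finrank_plus F d) hhd hc₀
    · exfalso
      have hTT : ∀ v, Matrix.toLin' ((y : GL (Fin d ⊕ Fin d) F) : Matrix (Fin d ⊕ Fin d) (Fin d ⊕ Fin d) F)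
          (Matrix.toLin' ((y : GL (Fin d ⊕ Fin d) F) : Matrix (Fin d ⊕ Fin d) (Fin d ⊕ Fin d) F) v) = -v := by
        intro v
        rw [hTTz, neg_one_smul]
      have hsq := (mem_commutator_iff_of_sq_neg_one h2 hd1 y hTT).mp hycomm
      have h2sq := isSquare_two_of_pow_odd hdodd h2 hsq
      rw [FiniteField.isSquare_two_iff] at h2sq
      have hm1 : IsSquare (-1 : F) := by
        by_contra hns
        have := even_of_sq_neg_one h2 y hTT hns
        exact absurd this (Nat.not_even_iff_odd.mpr hdodd)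
      rw [FiniteField.isSquare_neg_one_iff] at hm1
      obtain ⟨t, ht⟩ := hqodd
      omega

end Cfsg.Agent.Helper7.QPa
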