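import Mathlib
import Cfsg.Agent.Helper7.QPaK
import Cfsg.Agent.Helper7.OrUnF

set_option autoImplicit false
set_option linter.unusedSectionVars false
set_option linter.unusedVariables false

/-!
# The case `r = p` for `Ω⁺_{2d}(q)` on nondegenerate subspaces of odd dimension
-/

namespace Cfsg.Agent.Helper7.QPa

open Module

/-- a submultiset of `c, c, 2, …, 2` (`c` odd) of odd sum with `2` of even multiplicity. -/
theorem sub_odd_pair {c n m : ℕ} (hc : Odd c) (ν : Multiset ℕ)
    (hle : ν ≤ c ::ₘ c ::ₘ Multiset.replicate n 2) (hsum : ν.sum = m) (hmo : Odd m)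
    (hpar : ∀ a : ℕ, Even a → Even (ν.count a)) :
    ∃ j, Even j ∧ m = c + 2 * j := by
  classical
  obtain ⟨t, ht⟩ := hc
  obtain ⟨s, hs⟩ := hmo
  by_cases hc1 : c ∈ ν
  · obtain ⟨ν₁, rfl⟩ := Multiset.exists_cons_of_mem hc1
    rw [Multiset.cons_le_cons_iff] at hle
    by_cases hc2 : c ∈ ν₁
    · exfalso
      obtain ⟨ν₂, rfl⟩ := Multiset.exists_cons_of_mem hc2
      rw [Multiset.cons_le_cons_iff] at hle
      obtain ⟨j, -, rfl⟩ := Multiset.le_replicate_iff.mp hle
      rw [Multiset.sum_cons, Multiset.sum_cons, Multiset.sum_replicate, smul_eq_mul] at hsum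
      omega
    · rw [Multiset.le_cons_of_notMem hc2] at hle
      obtain ⟨j, -, rfl⟩ := Multiset.le_replicate_iff.mp hle
      refine ⟨j, ?_, ?_⟩
      · have h2 := hpar 2 (by decide)
        rw [Multiset.count_cons_of_ne (by omega), Multiset.count_replicate_self] at h2
        exact h2
      · rw [Multiset.sum_cons, Multiset.sum_replicate, smul_eq_mul] at hsum
        omega
  · exfalso
    rw [Multiset.le_cons_of_notMem hc1, Multiset.le_cons_of_notMem hc1] at hle
    obtain ⟨j, -, rfl⟩ := Multiset.le_replicate_iff.mp hle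
    rw [Multiset.sum_replicate, smul_eq_mul] at hsum
    omega

/-- no partition condition holds for odd `m`. -/
theorem not_partition_cond {p d m : ℕ} (hp3 : 3 ≤ p) (hd : 3 ≤ d) (hmo : Odd m)
    (h : ∀ μ : Multiset ℕ, (∀ e ∈ μ, 0 < e ∧ e ≤ p) → (∀ e : ℕ, Even e → Even (μ.count e)) →
      μ.sum = 2 * d →
      ∃ ν : Multiset ℕ, ν ≤ μ ∧ ν.sum = m ∧ ∀ e : ℕ, Even e → Even (ν.count e)) : False := by
  classical
  have key : ∀ c k : ℕ, Odd c → 0 < c → c ≤ 3 → 2 * d = 4 * k + c + c → ∃ j, Even j ∧ m = c + 2 * j := by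
    intro c k h₁ h10 h13 hdk
    have g1 : ∀ e ∈ c ::ₘ c ::ₘ Multiset.replicate (2 * k) 2, 0 < e ∧ e ≤ p := by
      intro e he
      rcases Multiset.mem_cons.mp he with he | he
      · rw [he]; exact ⟨h10, by omega⟩
      rcases Multiset.mem_cons.mp he with he | he
      · rw [he]; exact ⟨h10, by omega⟩
      · rw [Multiset.eq_of_mem_replicate he]
        exact ⟨by norm_num, by omega⟩
    have g2 : ∀ e : ℕ, Even e → Even ((c ::ₘ c ::ₘ Multiset.replicate (2 * k) 2).count e) := by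
      intro e he
      have hne1 : e ≠ c := by
        intro hh; rw [hh] at he; exact (Nat.not_even_iff_odd.mpr h₁) he
      rw [Multiset.count_cons_of_ne hne1, Multiset.count_cons_of_ne hne1, Multiset.count_replicate]
      split_ifs
      · exact even_two_mul k
      · exact Even.zero
    have g3 : (c ::ₘ c ::ₘ Multiset.replicate (2 * k) 2).sum = 2 * d := by
      rw [Multiset.sum_cons, Multiset.sum_cons, Multiset.sum_replicate, smul_eq_mul]
      omega
    obtain ⟨ν, hle, hsum, hpar⟩ := h _ g1 g2 g3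
    exact sub_odd_pair h₁ ν hle hsum hmo hpar
  obtain ⟨s, hs⟩ := hmo
  rcases Nat.even_or_odd' d with ⟨k, hk | hk⟩
  · -- d even
    have g1 : ∀ e ∈ Multiset.replicate d 2, 0 < e ∧ e ≤ p := by
      intro e he
      rw [Multiset.eq_of_mem_replicate he]
      exact ⟨by norm_num, by omega⟩
    have g2 : ∀ e : ℕ, Even e → Even ((Multiset.replicate d 2).count e) := by
      intro e he
      rw [Multiset.count_replicate]
      split_ifs
      · exact ⟨k, by omega⟩
      · exact Even.zero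
    have g3 : (Multiset.replicate d 2).sum = 2 * d := by
      rw [Multiset.sum_replicate, smul_eq_mul]
      omega
    obtain ⟨ν, hle, hsum, -⟩ := h _ g1 g2 g3
    obtain ⟨j, -, rfl⟩ := Multiset.le_replicate_iff.mp hle
    rw [Multiset.sum_replicate, smul_eq_mul] at hsum
    omega
  · -- d odd
    have hk1 : 1 ≤ k := by omega
    obtain ⟨j₁, ⟨t₁, ht₁⟩, hj₁⟩ := key 3 (k - 1) (by decide) (by norm_num) (by norm_num) (by omega)
    obtain ⟨j₂, ⟨t₂, ht₂⟩, hj₂⟩ := key 1 k odd_one (by norm_num) (by norm_num) (by omega)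
    omega

variable {F : Type*} [Field F] [Fintype F] {p : ℕ} [Fact p.Prime] [CharP F p]

/-- **the case `r = p`**: some element of order `p` of `Ω⁺_{2d}(q)` fixes no nondegenerate subspace of odd
dimension `m`. -/
theorem not_forall_odd_char (hp2 : p ≠ 2) {d m : ℕ} (hd : 3 ≤ d) (hmo : Odd m) (hmd : m ≤ 2 * d)
    (hall : ∀ x : GL (Fin d ⊕ Fin d) F, x ∈ Cfsg.Geo.omegaGL (Cfsg.quadFormPlus d F) →
      (∃ z : F, ((x ^ p : GL (Fin d ⊕ Fin d) F) : Matrix (Fin d ⊕ Fin d) (Fin d ⊕ Fin d) F) =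
        z • (1 : Matrix (Fin d ⊕ Fin d) (Fin d ⊕ Fin d) F)) →
      (∀ z : F, (x : Matrix (Fin d ⊕ Fin d) (Fin d ⊕ Fin d) F) ≠
        z • (1 : Matrix (Fin d ⊕ Fin d) (Fin d ⊕ Fin d) F)) →
      ∃ W : Submodule F (Fin d ⊕ Fin d → F), (Module.finrank F ↥W = m ∧
        Cfsg.Geo.IsNondegenerateOn (QuadraticMap.polar (Cfsg.quadFormPlus d F)) W) ∧
        W.map (Matrix.toLin' (x : Matrix (Fin d ⊕ Fin d) (Fin d ⊕ Fin d) F)) ≤ W) : False := by
  have hp : p.Prime := Fact.out
  have hp3 : 3 ≤ p := by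
    have := hp.two_le
    omega
  exact not_partition_cond hp3 hd hmo
    (fun μ hμ hμpar hμsum => Cfsg.Agent.Helper7.OrUn.cond_of_forall_plus (F := F) (p := p) hp2 hd hmd hall μ hμ
      hμpar hμsum)

end Cfsg.Agent.Helper7.QPa
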