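import Mathlib
import Cfsg.Agent.Helper7.QPaL

set_option autoImplicit false
set_option linter.unusedSectionVars false
set_option linter.unusedVariables false

/-!
# `PΩ⁺_{2d}(q)`, `q` odd, on nondegenerate subspaces of odd dimension: translation to the statement, and the
case of odd `r ≠ p`
-/

namespace Cfsg.Agent.Helper7.QPa

open Matrix Module Cfsg.Agent.Helper7.POrd Cfsg.Agent.Helper7.SpOrd Cfsg.Agent.Helper7.SpTI
  Cfsg.Agent.Helper7.OrTS Cfsg.Agent.Helper8.QuadForm Cfsg.Agent.Helper7.QTy Cfsg.Agent.Helper7.QEll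
  Cfsg.Agent.Helper8.StdForms

variable {F : Type*} [Field F]

/-! ### translation -/

theorem nd_iff_plus (d : ℕ) (W : Submodule F (Fin d ⊕ Fin d → F)) :
    Cfsg.Geo.IsNondegenerateOn (QuadraticMap.polar (Cfsg.quadFormPlus d F)) W ↔
      ND (QuadraticMap.polarBilin (plusForm F d)) W := by
  constructor
  · intro h w hw hw0
    obtain ⟨x, hx, hxw⟩ := (h w hw hw0).2
    refine ⟨x, hx, ?_⟩
    rw [pB_apply, plusForm_coe]
    exact hxw
  · intro h w hw hw0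
    obtain ⟨x, hx, hxw⟩ := h w hw hw0
    rw [pB_apply, plusForm_coe] at hxw
    refine ⟨⟨x, hx, ?_⟩, ⟨x, hx, hxw⟩⟩
    rw [QuadraticMap.polar_comm]
    exact hxw

theorem iso_iff_plus (d : ℕ) (W W' : Submodule F (Fin d ⊕ Fin d → F)) :
    Cfsg.Geo.AreIsometricFor (Cfsg.quadFormPlus d F) W W' ↔ QIso (plusForm F d) W W' := by
  constructor
  · rintro ⟨e, he⟩
    exact ⟨e, fun w => by rw [plusForm_apply, plusForm_apply]; exact he w⟩
  · rintro ⟨e, he⟩
    exact ⟨e, fun w => by rw [← plusForm_apply, ← plusForm_apply]; exact he w⟩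

theorem invt_iff_map_le {V : Type*} [AddCommGroup V] [Module F V] (T : Module.End F V) (W : Submodule F V) :
    W.map T ≤ W ↔ W ∈ Module.End.invtSubmodule T := by
  rw [Module.End.mem_invtSubmodule, Submodule.map_le_iff_le_comap]

/-- the statement's predicate on subspaces in terms of the odd type. -/
theorem par_pred_iff [Finite F] (h2 : (2 : F) ≠ 0) {d h : ℕ} (hhd : 2 * h + 3 ≤ 2 * d)
    {W₀ : Submodule F (Fin d ⊕ Fin d → F)} {c₀ : F} (hot₀ : OT (plusForm F d) W₀ c₀) (hc₀ : c₀ ≠ 0)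
    (hd₀ : finrank F ↥W₀ = 2 * h + 1) (W : Submodule F (Fin d ⊕ Fin d → F)) :
    (finrank F ↥W = 2 * h + 1 ∧
        Cfsg.Geo.IsNondegenerateOn (QuadraticMap.polar (Cfsg.quadFormPlus d F)) W ∧
        Cfsg.Geo.AreIsometricFor (Cfsg.quadFormPlus d F) W W₀) ↔
      (finrank F ↥W = 2 * h + 1 ∧ ND (QuadraticMap.polarBilin (plusForm F d)) W ∧
        OT (plusForm F d) W c₀) := by
  have hroom : 2 * h + 3 ≤ finrank F (Fin d ⊕ Fin d → F) := by
    rw [finrank_plus]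
    exact hhd
  constructor
  · rintro ⟨h1, h2', h3⟩
    rw [nd_iff_plus] at h2'
    rw [iso_iff_plus] at h3
    exact ⟨h1, h2', (iso_iff_ot h2 (plus_nd_top d) hot₀ hc₀ hd₀ hroom h2' h1).mp h3⟩
  · rintro ⟨h1, h2', h3⟩
    refine ⟨h1, (nd_iff_plus d W).mpr h2', (iso_iff_plus d W W₀).mpr ?_⟩
    exact (iso_iff_ot h2 (plus_nd_top d) hot₀ hc₀ hd₀ hroom h2' h1).mpr h3

theorem card_par_eq [Finite F] (h2 : (2 : F) ≠ 0) {d h : ℕ} (hhd : 2 * h + 3 ≤ 2 * d)
    {W₀ : Submodule F (Fin d ⊕ Fin d → F)} {c₀ : F} (hot₀ : OT (plusForm F d) W₀ c₀) (hc₀ : c₀ ≠ 0)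
    (hd₀ : finrank F ↥W₀ = 2 * h + 1) :
    Nat.card {W : Submodule F (Fin d ⊕ Fin d → F) // finrank F ↥W = 2 * h + 1 ∧
      Cfsg.Geo.IsNondegenerateOn (QuadraticMap.polar (Cfsg.quadFormPlus d F)) W ∧
      Cfsg.Geo.AreIsometricFor (Cfsg.quadFormPlus d F) W W₀} =
    Nat.card (ParSub (plusForm F d) h c₀) := by
  apply Nat.card_congr
  apply Equiv.subtypeEquivRight
  intro W
  exact par_pred_iff h2 hhd hot₀ hc₀ hd₀ W

/-- the statement's conclusion for one element. -/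
theorem concl_iff [Finite F] (h2 : (2 : F) ≠ 0) {d h : ℕ} (hhd : 2 * h + 3 ≤ 2 * d)
    {W₀ : Submodule F (Fin d ⊕ Fin d → F)} {c₀ : F} (hot₀ : OT (plusForm F d) W₀ c₀) (hc₀ : c₀ ≠ 0)
    (hd₀ : finrank F ↥W₀ = 2 * h + 1) (x : GL (Fin d ⊕ Fin d) F) :
    (∃ W : Submodule F (Fin d ⊕ Fin d → F), (finrank F ↥W = 2 * h + 1 ∧
        Cfsg.Geo.IsNondegenerateOn (QuadraticMap.polar (Cfsg.quadFormPlus d F)) W ∧
        Cfsg.Geo.AreIsometricFor (Cfsg.quadFormPlus d F) W W₀) ∧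
        W.map (Matrix.toLin' (x : Matrix (Fin d ⊕ Fin d) (Fin d ⊕ Fin d) F)) ≤ W) ↔
    (∃ W : Submodule F (Fin d ⊕ Fin d → F),
        W ∈ Module.End.invtSubmodule (Matrix.toLin' (x : Matrix (Fin d ⊕ Fin d) (Fin d ⊕ Fin d) F)) ∧
        ND (QuadraticMap.polarBilin (plusForm F d)) W ∧ finrank F ↥W = 2 * h + 1 ∧
        OT (plusForm F d) W c₀) := by
  constructor
  · rintro ⟨W, hW, hinv⟩
    obtain ⟨h1, h2', h3⟩ := (par_pred_iff h2 hhd hot₀ hc₀ hd₀ W).mp hW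
    exact ⟨W, (invt_iff_map_le _ W).mp hinv, h2', h1, h3⟩
  · rintro ⟨W, hinv, h2', h1, h3⟩
    exact ⟨W, (par_pred_iff h2 hhd hot₀ hc₀ hd₀ W).mpr ⟨h1, h2', h3⟩, (invt_iff_map_le _ W).mpr hinv⟩

/-! ### scalars -/

section Scalars

variable [Fintype F]

/-- a scalar power of an isometry is `±1`. -/
theorem scalar_sq_of_pow {d : ℕ} (hd : 1 ≤ d) {x : GL (Fin d ⊕ Fin d) F}
    (hx : x ∈ Cfsg.isometryGroup F (Cfsg.quadFormPlus d F)) {n : ℕ} {z : F}
    (hz : ((x ^ n : GL (Fin d ⊕ Fin d) F) : Matrix (Fin d ⊕ Fin d) (Fin d ⊕ Fin d) F) =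
      z • (1 : Matrix (Fin d ⊕ Fin d) (Fin d ⊕ Fin d) F)) : z = 1 ∨ z = -1 := by
  have hVnd := plus_nd_top (F := F) d
  have hdim : 2 ≤ finrank F ↥(⊤ : Submodule F (Fin d ⊕ Fin d → F)) := by
    rw [finrank_top, finrank_plus]
    omega
  obtain ⟨v, -, hv⟩ := exists_repr_in hVnd hdim (1 : F)
  have h1 := plus_QT (pow_mem hx n) v
  rw [hz, Matrix.toLin'_apply, Matrix.smul_mulVec, Matrix.one_mulVec, QuadraticMap.map_smul, hv, smul_eq_mul,
    mul_one] at h1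
  have : (z - 1) * (z + 1) = 0 := by linear_combination h1
  rcases mul_eq_zero.mp this with h | h
  · exact Or.inl (by linear_combination h)
  · exact Or.inr (by linear_combination h)

end Scalars

/-! ### odd `r ≠ p` -/

section OddCase

variable [Fintype F] {p : ℕ} [Fact p.Prime] [CharP F p] {r : ℕ} [Fact r.Prime]

/-- **the case of odd `r ≠ p`.** -/
theorem odd_case_iff (h2F : (2 : F) ≠ 0) (hr2 : r ≠ 2) (hrp : r ≠ p) {d h : ℕ} (hhd : 2 * h + 1 < d)
    {c₀ : F} (hc₀ : c₀ ≠ 0) (hdvd : r ∣ Nat.card (ParSub (plusForm F d) h c₀)) :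
    (∀ x : GL (Fin d ⊕ Fin d) F, x ∈ Cfsg.Geo.omegaGL (Cfsg.quadFormPlus d F) →
      (∃ z : F, ((x ^ r : GL (Fin d ⊕ Fin d) F) : Matrix (Fin d ⊕ Fin d) (Fin d ⊕ Fin d) F) =
        z • (1 : Matrix (Fin d ⊕ Fin d) (Fin d ⊕ Fin d) F)) →
      (∀ z : F, (x : Matrix (Fin d ⊕ Fin d) (Fin d ⊕ Fin d) F) ≠
        z • (1 : Matrix (Fin d ⊕ Fin d) (Fin d ⊕ Fin d) F)) →
      ∃ W : Submodule F (Fin d ⊕ Fin d → F),
        W ∈ Module.End.invtSubmodule (Matrix.toLin' (x : Matrix (Fin d ⊕ Fin d) (Fin d ⊕ Fin d) F)) ∧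
        ND (QuadraticMap.polarBilin (plusForm F d)) W ∧ finrank F ↥W = 2 * h + 1 ∧
        OT (plusForm F d) W c₀) ↔
    (((2 * d) % cOf (orderOf ((Fintype.card F : ℕ) : ZMod r)) = 0 ∧
        Even (orderOf ((Fintype.card F : ℕ) : ZMod r)) ∧
        Odd ((2 * d) / orderOf ((Fintype.card F : ℕ) : ZMod r))) ∨
      (cOf (orderOf ((Fintype.card F : ℕ) : ZMod r)) ≤ 2 * h + 1 ∧
        (2 * h + 1) % cOf (orderOf ((Fintype.card F : ℕ) : ZMod r)) <
          (2 * d) % cOf (orderOf ((Fintype.card F : ℕ) : ZMod r)))) := by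
  classical
  have hr : r.Prime := Fact.out
  have hrodd : Odd r := hr.odd_of_ne_two hr2
  have hd1 : 1 ≤ d := by omega
  constructor
  · intro hall
    apply cond_of_forall_par h2F hr2 hrp hhd hc₀ hdvd
    intro x hxΩ hxr hx1
    have hxiso : x ∈ Cfsg.isometryGroup F (Cfsg.quadFormPlus d F) := by
      obtain ⟨y, -, rfl⟩ := hxΩ
      exact y.2
    have hns : ∀ z : F, (x : Matrix (Fin d ⊕ Fin d) (Fin d ⊕ Fin d) F) ≠
        z • (1 : Matrix (Fin d ⊕ Fin d) (Fin d ⊕ Fin d) F) := by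
      intro z hz
      have hz1 : ((x ^ 1 : GL (Fin d ⊕ Fin d) F) : Matrix (Fin d ⊕ Fin d) (Fin d ⊕ Fin d) F) =
          z • (1 : Matrix (Fin d ⊕ Fin d) (Fin d ⊕ Fin d) F) := by rw [pow_one]; exact hz
      have hzr : z ^ r = 1 := by
        have h1 : ((x ^ r : GL (Fin d ⊕ Fin d) F) : Matrix (Fin d ⊕ Fin d) (Fin d ⊕ Fin d) F) = 1 := by
          rw [hxr]; rfl
        rw [Units.val_pow_eq_pow_val, hz, smul_pow, one_pow] at h1
        have h2 := congrFun (congrFun h1 (Sum.inl ⟨0, by omega⟩)) (Sum.inl ⟨0, by omega⟩)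
        rw [Matrix.smul_apply, Matrix.one_apply_eq, smul_eq_mul, mul_one] at h2
        exact h2
      have hz1' : z = 1 := by
        rcases scalar_sq_of_pow hd1 hxiso hz1 with h | h
        · exact h
        · rw [h, hrodd.neg_one_pow] at hzr
          exfalso
          have : (2 : F) = 0 := by linear_combination -hzr
          exact h2F this
      apply hx1
      apply Units.ext
      rw [hz, hz1', one_smul]
      rfl
    obtain ⟨W, h1, h2', h3, -⟩ := hall x hxΩ ⟨1, by rw [hxr, one_smul]; rfl⟩ hns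
    exact ⟨W, h1, h2', h3⟩
  · intro hcond x hxΩ ⟨z, hz⟩ hxns
    have hxiso : x ∈ Cfsg.isometryGroup F (Cfsg.quadFormPlus d F) := by
      obtain ⟨y, -, rfl⟩ := hxΩ
      exact y.2
    have hcond' : (2 * h + 1) % cOf (orderOf ((Fintype.card F : ℕ) : ZMod r)) <
        (2 * d) % cOf (orderOf ((Fintype.card F : ℕ) : ZMod r)) ∨
      (Even (orderOf ((Fintype.card F : ℕ) : ZMod r)) ∧
        (2 * d) % cOf (orderOf ((Fintype.card F : ℕ) : ZMod r)) = 0 ∧
        Odd ((2 * d) / orderOf ((Fintype.card F : ℕ) : ZMod r))) := by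
      rcases hcond with ⟨h1, h2', h3⟩ | ⟨-, h2'⟩
      · exact Or.inr ⟨h2', h1, h3⟩
      · exact Or.inl h2'
    have hVnd := plus_nd_top (F := F) d
    have hQT₀ := plus_QT hxiso
    have hT₀ : (Matrix.toLin' (x : Matrix (Fin d ⊕ Fin d) (Fin d ⊕ Fin d) F) :
        Module.End F (Fin d ⊕ Fin d → F)) ^ r =
        Matrix.toLin' (z • (1 : Matrix (Fin d ⊕ Fin d) (Fin d ⊕ Fin d) F)) := by
      rw [toLin'_pow_gl, hz]
    rcases scalar_sq_of_pow hd1 hxiso hz with rfl | rfl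
    · have hT : (Matrix.toLin' (x : Matrix (Fin d ⊕ Fin d) (Fin d ⊕ Fin d) F) :
          Module.End F (Fin d ⊕ Fin d → F)) ^ r = 1 := by
        rw [hT₀, one_smul, Matrix.toLin'_one]
        rfl
      exact exists_ot_invt_odd h2F hr2 hrp hVnd hQT₀ hT (finrank_plus F d) (plus_hyp_top d) (by omega) hc₀ hcond'
    · have hT : (-(Matrix.toLin' (x : Matrix (Fin d ⊕ Fin d) (Fin d ⊕ Fin d) F) :
          Module.End F (Fin d ⊕ Fin d → F))) ^ r = 1 := by
        rw [← neg_one_smul F (Matrix.toLin' (x : Matrix (Fin d ⊕ Fin d) (Fin d ⊕ Fin d) F) :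
          Module.End F (Fin d ⊕ Fin d → F)), smul_pow, hrodd.neg_one_pow, hT₀]
        apply LinearMap.ext
        intro v
        rw [LinearMap.smul_apply, Matrix.toLin'_apply, Matrix.smul_mulVec, Matrix.one_mulVec,
          neg_one_smul, neg_one_smul, neg_neg, Module.End.one_apply]
      have hQT : ∀ v, plusForm F d ((-(Matrix.toLin' (x : Matrix (Fin d ⊕ Fin d) (Fin d ⊕ Fin d) F) :
          Module.End F (Fin d ⊕ Fin d → F))) v) = plusForm F d v := by
        intro v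
        rw [LinearMap.neg_apply, QuadraticMap.map_neg, hQT₀]
      obtain ⟨W, hWinv, hWnd, hWd, hWot⟩ := exists_ot_invt_odd h2F hr2 hrp hVnd hQT hT (finrank_plus F d)
        (plus_hyp_top d) (by omega) hc₀ hcond'
      refine ⟨W, ?_, hWnd, hWd, hWot⟩
      rw [Module.End.mem_invtSubmodule] at hWinv ⊢
      intro w hw
      have := hWinv hw
      rw [Submodule.mem_comap, LinearMap.neg_apply] at this
      rw [Submodule.mem_comap]
      exact (Submodule.neg_mem_iff _).mp this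

end OddCase

end Cfsg.Agent.Helper7.QPa
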