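import Mathlib
import Cfsg.Agent.Helper7.QPaM
import Cfsg.Agent.Helper7.OrUnL
import Cfsg.Agent.Helper8.O2MinusCount

set_option autoImplicit false
set_option linter.unusedSectionVars false
set_option linter.unusedVariables false

/-!
# Minus type spaces: the standard space, transfer from abstract spaces, products
-/

namespace Cfsg.Agent.Helper7.QMi

open Matrix Module Cfsg.Agent.Helper7.POrd Cfsg.Agent.Helper7.SpOrd Cfsg.Agent.Helper7.SpTI
  Cfsg.Agent.Helper7.OrTS Cfsg.Agent.Helper8.QuadForm Cfsg.Agent.Helper7.QTy Cfsg.Agent.Helper7.QEll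
  Cfsg.Agent.Helper7.QPa Cfsg.Agent.Helper8.StdForms Cfsg.Agent.Helper8.OrthOrder
  Cfsg.Agent.Helper8.ReflMatrix Cfsg.Agent.Helper7.SpUn

universe u

variable {F : Type*} [Field F]

/-! ### general facts on types -/

section types

variable {V : Type u} [AddCommGroup V] [Module F V]

/-- the sum of a plus type space and a space not of plus type is not of plus type. -/
theorem not_hyp_sup [FiniteDimensional F V] {Q : QuadraticForm F V} (hV : ND (QuadraticMap.polarBilin Q) ⊤)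
    {W₁ W₂ : Submodule F V} (h₁ : ND (QuadraticMap.polarBilin Q) W₁) (h₂ : ND (QuadraticMap.polarBilin Q) W₂)
    (h12 : W₂ ≤ LinearMap.BilinForm.orthogonal (QuadraticMap.polarBilin Q) W₁) (hy₁ : Hyp Q W₁)
    (hn₂ : ¬ Hyp Q W₂) : ¬ Hyp Q (W₁ ⊔ W₂) :=
  fun hy => hn₂ (hyp_cancel hV _ W₁ W₂ rfl h₁ h₂ h12 hy₁ hy)

end types

/-! ### the binary part -/

section bin

variable {V : Type u} [AddCommGroup V] [Module F V]

/-- the dual family of a pair with Gram data `1, a, b`. -/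
theorem dual_bin (Q : QuadraticForm F V) {a b : F} {x y : V} (hx : Q x = 1)
    (hxy : QuadraticMap.polar Q x y = a) (hy : Q y = b) (i j : Fin 2) :
    QuadraticMap.polar Q (![x, y] i) (![(2 * b) • x - a • y, (2 : F) • y - a • x] j)
      = if i = j then 4 * b - a ^ 2 else 0 := by
  have hyx : QuadraticMap.polar Q y x = a := by rw [QuadraticMap.polar_comm]; exact hxy
  fin_cases i <;> fin_cases j
  · show QuadraticMap.polar Q x ((2 * b) • x - a • y) = if (0 : Fin 2) = 0 then 4 * b - a ^ 2 else 0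
    rw [QuadraticMap.polar_sub_right, QuadraticMap.polar_smul_right, QuadraticMap.polar_smul_right,
      polar_self', hx, hxy, smul_eq_mul, smul_eq_mul, if_pos rfl]
    ring
  · show QuadraticMap.polar Q x ((2 : F) • y - a • x) = if (0 : Fin 2) = 1 then 4 * b - a ^ 2 else 0
    rw [QuadraticMap.polar_sub_right, QuadraticMap.polar_smul_right, QuadraticMap.polar_smul_right,
      polar_self', hx, hxy, smul_eq_mul, smul_eq_mul, if_neg (by decide)]
    ring
  · show QuadraticMap.polar Q y ((2 * b) • x - a • y) = if (1 : Fin 2) = 0 then 4 * b - a ^ 2 else 0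
    rw [QuadraticMap.polar_sub_right, QuadraticMap.polar_smul_right, QuadraticMap.polar_smul_right,
      polar_self', hy, hyx, smul_eq_mul, smul_eq_mul, if_neg (by decide)]
    ring
  · show QuadraticMap.polar Q y ((2 : F) • y - a • x) = if (1 : Fin 2) = 1 then 4 * b - a ^ 2 else 0
    rw [QuadraticMap.polar_sub_right, QuadraticMap.polar_smul_right, QuadraticMap.polar_smul_right,
      polar_self', hy, hyx, smul_eq_mul, smul_eq_mul, if_pos rfl]
    ring

/-- a hyperbolic family together with an orthogonal pair with Gram data `1, a, b` is a basis. -/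
theorem exists_bin_basis [FiniteDimensional F V] (Q : QuadraticForm F V) {k : ℕ}
    {e f : Fin k → V} (h : IsHyp Q e f) (hV : finrank F V = 2 * k + 2) {x y : V} {a b : F}
    (hpx : ∀ i, QuadraticMap.polar Q (e i) x = 0 ∧ QuadraticMap.polar Q (f i) x = 0)
    (hpy : ∀ i, QuadraticMap.polar Q (e i) y = 0 ∧ QuadraticMap.polar Q (f i) y = 0)
    (hx : Q x = 1) (hxy : QuadraticMap.polar Q x y = a) (hy : Q y = b) (hD : 4 * b - a ^ 2 ≠ 0) :
    ∃ bs : Basis ((Fin k ⊕ Fin k) ⊕ Fin 2) F V, ⇑bs = Sum.elim (Sum.elim e f) ![x, y] := by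
  classical
  have hli : LinearIndependent F (Sum.elim (Sum.elim e f) ![x, y]) := by
    refine linearIndependent_of_dual Q _
      (Sum.elim (Sum.elim f e) ![(2 * b) • x - a • y, (2 : F) • y - a • x])
      (Sum.elim (fun _ => 1) (fun _ => 4 * b - a ^ 2)) ?_
      (dual_sum Q (h.dual Q) (dual_bin Q hx hxy hy) ?_ ?_)
    · rintro (i | i)
      · exact one_ne_zero
      · exact hD
    · intro i j
      have h1 : ∀ i, QuadraticMap.polar Q (Sum.elim e f i) x = 0 := by
        rintro (i | i)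
        · exact (hpx i).1
        · exact (hpx i).2
      have h2 : ∀ i, QuadraticMap.polar Q (Sum.elim e f i) y = 0 := by
        rintro (i | i)
        · exact (hpy i).1
        · exact (hpy i).2
      fin_cases j
      · show QuadraticMap.polar Q (Sum.elim e f i) ((2 * b) • x - a • y) = 0
        rw [QuadraticMap.polar_sub_right, QuadraticMap.polar_smul_right, QuadraticMap.polar_smul_right, h1, h2]
        simp
      · show QuadraticMap.polar Q (Sum.elim e f i) ((2 : F) • y - a • x) = 0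
        rw [QuadraticMap.polar_sub_right, QuadraticMap.polar_smul_right, QuadraticMap.polar_smul_right, h1, h2]
        simp
    · intro i j
      have h1 : ∀ j, QuadraticMap.polar Q x (Sum.elim f e j) = 0 := by
        rintro (j | j)
        · rw [QuadraticMap.polar_comm]; exact (hpx j).2
        · rw [QuadraticMap.polar_comm]; exact (hpx j).1
      have h2 : ∀ j, QuadraticMap.polar Q y (Sum.elim f e j) = 0 := by
        rintro (j | j)
        · rw [QuadraticMap.polar_comm]; exact (hpy j).2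
        · rw [QuadraticMap.polar_comm]; exact (hpy j).1
      fin_cases i
      · exact h1 j
      · exact h2 j
  exact exists_basis_of_li hli (by simp [hV]; omega)

/-- an anisotropic binary form `z₁² + a z₁ z₂ + b z₂²`: minus its reduced discriminant is not a square. -/
theorem not_isSquare_neg_disc (h2 : (2 : F) ≠ 0) {a b : F}
    (hab : ∀ x y : F, x ^ 2 + a * x * y + b * y ^ 2 = 0 → x = 0 ∧ y = 0) :
    ¬ IsSquare (-(b - (a * 2⁻¹) ^ 2)) := by
  rintro ⟨s, hs⟩
  have h4 : (2 : F) * 2⁻¹ = 1 := mul_inv_cancel₀ h2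
  have := hab (s - a * 2⁻¹) 1 (by
    have e1 : (s - a * 2⁻¹) ^ 2 + a * (s - a * 2⁻¹) * 1 + b * 1 ^ 2 =
        s * s + (b - (a * 2⁻¹) ^ 2) + a * s * (1 - 2 * 2⁻¹) - a ^ 2 * 2⁻¹ * (1 - 2 * 2⁻¹) := by ring
    rw [e1, h4, ← hs]
    ring)
  exact one_ne_zero this.2

/-- **an anisotropic plane carries every anisotropic binary form** (finite field, odd characteristic). -/
theorem exists_bin_pair [Fintype F] [FiniteDimensional F V] (h2 : (2 : F) ≠ 0) {Q : QuadraticForm F V}
    {A : Submodule F V} (hA : ND (QuadraticMap.polarBilin Q) A) (hd : finrank F ↥A = 2)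
    (han : ∀ v ∈ A, Q v = 0 → v = 0) {a b : F}
    (hab : ∀ x y : F, x ^ 2 + a * x * y + b * y ^ 2 = 0 → x = 0 ∧ y = 0) :
    ∃ x ∈ A, ∃ y ∈ A, Q x = 1 ∧ QuadraticMap.polar Q x y = a ∧ Q y = b := by
  obtain ⟨u, hu, hQu⟩ := exists_repr_in hA (by omega) (1 : F)
  have huu : QuadraticMap.polar Q u u ≠ 0 := by
    rw [polar_self', hQu, mul_one]; exact h2
  obtain ⟨v, hv, hv0, huv⟩ := exists_perp_in_plane hd hu huu
  have hns₁ : ¬ IsSquare (-(Q v)) := by
    rintro ⟨s, hs⟩
    apply aniso_not_sq h2 han hu hv hv0 huv one_ne_zero hQu s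
    rw [one_mul, ← hs, neg_neg]
  obtain ⟨s, hs⟩ := exists_sq_mul_of_not_isSquare (not_isSquare_neg_disc h2 hab) hns₁
  have h4 : (2 : F) * 2⁻¹ = 1 := mul_inv_cancel₀ h2
  refine ⟨u, hu, (a * 2⁻¹) • u + s • v, A.add_mem (A.smul_mem _ hu) (A.smul_mem _ hv), hQu, ?_, ?_⟩
  · rw [QuadraticMap.polar_add_right, QuadraticMap.polar_smul_right, QuadraticMap.polar_smul_right,
      polar_self', hQu, huv, smul_eq_mul, smul_eq_mul, mul_zero, add_zero, mul_one, mul_assoc,
      mul_comm 2⁻¹ 2, h4, mul_one]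
  · rw [QuadraticMap.map_add Q, QuadraticMap.map_smul, QuadraticMap.map_smul, QuadraticMap.polar_smul_left,
      QuadraticMap.polar_smul_right, huv, hQu]
    simp only [smul_eq_mul, mul_zero, add_zero, mul_one]
    linear_combination hs

end bin

/-! ### transfer to the standard space -/

section transfer

variable {E : Type u} [AddCommGroup E] [Module F E]

/-- **a space of even dimension not of plus type is isometric to the standard minus type space.** -/
theorem exists_minus_iso [Fintype F] [FiniteDimensional F E] (h2 : (2 : F) ≠ 0) {QE : QuadraticForm F E}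
    (hND : ND (QuadraticMap.polarBilin QE) ⊤) (hn : ¬ Hyp QE ⊤) {k : ℕ} (hd : finrank F E = 2 * k + 2)
    {a b : F} (hab : ∀ x y : F, x ^ 2 + a * x * y + b * y ^ 2 = 0 → x = 0 ∧ y = 0) :
    ∃ e : E ≃ₗ[F] ((Fin k ⊕ Fin k) ⊕ Fin 2 → F), ∀ v, minusForm F k a b (e v) = QE v := by
  obtain ⟨H, A, -, -, hHnd, hHy, hHd, hAnd, hAd, hAH, hsup, han⟩ :=
    exists_hyp_aniso hND hND (by rw [finrank_top]; exact hd) hn
  obtain ⟨s, hs⟩ := exists_full_frame hND hHnd hHd hHy
  obtain ⟨⟨e, f⟩, hhyp, heH, hfH⟩ := s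
  simp only at hhyp heH hfH
  obtain ⟨x, hxA, y, hyA, hQx, hxy, hQy⟩ := exists_bin_pair h2 hAnd hAd han hab
  have hperp : ∀ z ∈ A, ∀ w ∈ H, QuadraticMap.polar QE w z = 0 :=
    fun z hz w hw => mem_perp.mp (hAH hz) w hw
  obtain ⟨bs, hbs⟩ := exists_bin_basis QE hhyp hd
    (fun i => ⟨hperp x hxA _ (heH i), hperp x hxA _ (hfH i)⟩)
    (fun i => ⟨hperp y hyA _ (heH i), hperp y hyA _ (hfH i)⟩) hQx hxy hQy
    (Cfsg.Agent.Helper7.OrUn.disc_ne_zero h2 hab)
  have hbl : ∀ i, bs (Sum.inl (Sum.inl i)) = e i := fun i => by rw [hbs]; rfl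
  have hbr : ∀ i, bs (Sum.inl (Sum.inr i)) = f i := fun i => by rw [hbs]; rfl
  have hb0 : bs (Sum.inr 0) = x := by rw [hbs]; rfl
  have hb1 : bs (Sum.inr 1) = y := by rw [hbs]; rfl
  refine ⟨bs.equivFun, Cfsg.Agent.Helper7.OrUn.minus_transfer_gen a b QE bs ?_ ?_ ?_ ?_ ?_ ?_ ?_⟩
  · intro i
    rw [hbl, hbr]
    exact hhyp.1 i
  · intro i j
    rw [hbl, hbr]
    exact hhyp.2.1 i j
  · intro i j
    rw [hbl, hbl, hbr, hbr]
    exact hhyp.2.2 i j
  · intro i c
    rw [hbl, hbr]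
    fin_cases c
    · show QuadraticMap.polar ⇑QE (e i) (bs (Sum.inr 0)) = 0 ∧ QuadraticMap.polar ⇑QE (f i) (bs (Sum.inr 0)) = 0
      rw [hb0]
      exact ⟨hperp x hxA _ (heH i), hperp x hxA _ (hfH i)⟩
    · show QuadraticMap.polar ⇑QE (e i) (bs (Sum.inr 1)) = 0 ∧ QuadraticMap.polar ⇑QE (f i) (bs (Sum.inr 1)) = 0
      rw [hb1]
      exact ⟨hperp y hyA _ (heH i), hperp y hyA _ (hfH i)⟩
  · rw [hb0]; exact hQx
  · rw [hb0, hb1]; exact hxy
  · rw [hb1]; exact hQy

/-- an isometry of a space isometric to a standard space, as a matrix. -/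
theorem exists_isom_of_equiv_gen {ι : Type} [Fintype ι] [DecidableEq ι] (Q : QuadraticForm F (ι → F))
    (e : E ≃ₗ[F] (ι → F)) {QE : QuadraticForm F E}
    (he : ∀ v, Q (e v) = QE v) (φ φ' : Module.End F E) (h1 : φ * φ' = 1) (h2 : φ' * φ = 1)
    (hφ : ∀ v, QE (φ v) = QE v) :
    ∃ y : ↥(Cfsg.isometryGroup F ⇑Q),
      ∀ v, Matrix.toLin' ((y : GL ι F) : Matrix ι ι F) (e v) = e (φ v) := by
  obtain ⟨ψ, hψ⟩ : ∃ ψ : (ι → F) ≃ₗ[F] (ι → F), ∀ w, ψ w = e (φ (e.symm w)) := by
    refine ⟨LinearEquiv.ofLinearMap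
      ((e : E →ₗ[F] (ι → F)) ∘ₗ φ ∘ₗ (e.symm : (ι → F) →ₗ[F] E))
      ((e : E →ₗ[F] (ι → F)) ∘ₗ φ' ∘ₗ (e.symm : (ι → F) →ₗ[F] E)) ?_ ?_, fun w => rfl⟩
    · apply LinearMap.ext
      intro w
      simp only [LinearMap.comp_apply, LinearEquiv.coe_coe, LinearEquiv.symm_apply_apply,
        LinearMap.id_apply]
      rw [← Module.End.mul_apply, h1, Module.End.one_apply, LinearEquiv.apply_symm_apply]
    · apply LinearMap.ext
      intro w
      simp only [LinearMap.comp_apply, LinearEquiv.coe_coe, LinearEquiv.symm_apply_apply,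
        LinearMap.id_apply]
      rw [← Module.End.mul_apply, h2, Module.End.one_apply, LinearEquiv.apply_symm_apply]
  have hψQ : ∀ w, Q (ψ w) = Q w := by
    intro w
    rw [hψ, he, hφ, ← he, LinearEquiv.apply_symm_apply]
  obtain ⟨k, hk⟩ : ∃ k : ↥(Isom Q), k.1 = ψ := ⟨⟨ψ, hψQ⟩, rfl⟩
  obtain ⟨y, hy⟩ : ∃ y : ↥(Cfsg.isometryGroup F ⇑Q), isomEquiv Q y = k :=
    ⟨(isomEquiv Q).symm k, MulEquiv.apply_symm_apply _ _⟩
  refine ⟨y, fun v => ?_⟩
  rw [Matrix.toLin'_apply, ← isomEquiv_apply, hy, hk, hψ, LinearEquiv.symm_apply_apply]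

end transfer

/-! ### the standard space -/

section std

variable [Fintype F] {a b : F}

theorem minus_nd_top (k : ℕ) (hab : ∀ x y : F, x ^ 2 + a * x * y + b * y ^ 2 = 0 → x = 0 ∧ y = 0) :
    ND (QuadraticMap.polarBilin (minusForm F k a b)) ⊤ := by
  intro u _ hu
  by_contra hcon
  push Not at hcon
  apply hu
  exact (nondeg_iff _).mp (minusForm_nondeg F k hab) u (fun v => hcon v Submodule.mem_top)

theorem minus_not_hyp (k : ℕ) (hab : ∀ x y : F, x ^ 2 + a * x * y + b * y ^ 2 = 0 → x = 0 ∧ y = 0) :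
    ¬ Hyp (minusForm F k a b) ⊤ := by
  rintro ⟨U, -, hU, hUd⟩
  have h1 := Cfsg.Agent.Helper8.O2.ts_finrank_le hab U hU
  rw [finrank_top, finrank_minus] at hUd
  omega

theorem minusForm_coe (k : ℕ) (a b : F) :
    (⇑(minusForm F k a b) : ((Fin k ⊕ Fin k) ⊕ Fin 2 → F) → F) = Cfsg.quadFormMinus k F a b := by
  funext v
  exact minusForm_apply F k a b v

theorem minus_QT {k : ℕ} {x : GL ((Fin k ⊕ Fin k) ⊕ Fin 2) F}
    (hx : x ∈ Cfsg.isometryGroup F (Cfsg.quadFormMinus k F a b)) (v : (Fin k ⊕ Fin k) ⊕ Fin 2 → F) :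
    minusForm F k a b (Matrix.toLin' (x : Matrix ((Fin k ⊕ Fin k) ⊕ Fin 2) ((Fin k ⊕ Fin k) ⊕ Fin 2) F) v) =
      minusForm F k a b v := by
  rw [minusForm_apply, minusForm_apply, Matrix.toLin'_apply]
  exact hx v v

theorem minus_QT' {k : ℕ} (y : ↥(Cfsg.isometryGroup F ⇑(minusForm F k a b)))
    (v : (Fin k ⊕ Fin k) ⊕ Fin 2 → F) :
    minusForm F k a b (Matrix.toLin' ((y : GL ((Fin k ⊕ Fin k) ⊕ Fin 2) F) :
      Matrix ((Fin k ⊕ Fin k) ⊕ Fin 2) ((Fin k ⊕ Fin k) ⊕ Fin 2) F) v) = minusForm F k a b v := by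
  have := (isomEquiv (minusForm F k a b) y).2 v
  rw [isomEquiv_apply] at this
  rw [Matrix.toLin'_apply]
  exact this

end std

end Cfsg.Agent.Helper7.QMi
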