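import Mathlib
import Cfsg.Agent.Helper7.QMiA

set_option autoImplicit false
set_option linter.unusedSectionVars false
set_option linter.unusedVariables false

/-!
# Counting in spaces not of plus type: level sets and frames
-/

namespace Cfsg.Agent.Helper7.QMi

open Matrix Module Cfsg.Agent.Helper7.POrd Cfsg.Agent.Helper7.SpOrd Cfsg.Agent.Helper7.SpTI
  Cfsg.Agent.Helper7.OrTS Cfsg.Agent.Helper8.QuadForm Cfsg.Agent.Helper7.QTy Cfsg.Agent.Helper7.QEll
  Cfsg.Agent.Helper7.QPa Cfsg.Agent.Helper8.StdForms Cfsg.Agent.Helper8.OrthOrder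
  Cfsg.Agent.Helper7.SpUn

universe u

/-! ### the numbers `nuM` -/

theorem nuM_add (q : ℕ) (hq : 0 < q) (k : ℕ) : nuM q k + q ^ (k + 1) = q ^ (2 * k + 1) + q ^ k := by
  obtain ⟨t, rfl⟩ : ∃ t, q = t + 1 := ⟨q - 1, by omega⟩
  induction k with
  | zero =>
    show 1 + (t + 1) ^ (0 + 1) = (t + 1) ^ (2 * 0 + 1) + (t + 1) ^ 0
    ring
  | succ k ih =>
    have e : nuM (t + 1) (k + 1) = nuM (t + 1) k * (t + 1) + (t + 1) ^ (2 * (k + 1)) * t := by
      show nuM (t + 1) k * (t + 1) + (t + 1) ^ (2 * (k + 1)) * (t + 1 - 1) = _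
      rw [Nat.add_sub_cancel]
    rw [e]
    have e2 : nuM (t + 1) k * (t + 1) + (t + 1) ^ (2 * (k + 1)) * t + (t + 1) ^ (k + 1 + 1) =
        (nuM (t + 1) k + (t + 1) ^ (k + 1)) * (t + 1) + (t + 1) ^ (2 * (k + 1)) * t := by ring
    rw [e2, ih]
    ring

theorem nuM_sub_one (q : ℕ) (hq : 0 < q) (k : ℕ) : nuM q k - 1 = (q ^ (k + 1) + 1) * (q ^ k - 1) := by
  have h := nuM_add q hq k
  obtain ⟨A, hA⟩ : ∃ A, A = q ^ k := ⟨_, rfl⟩
  have hApos : 0 < A := by rw [hA]; exact Nat.pow_pos hq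
  obtain ⟨a', ha'⟩ : ∃ a', A = a' + 1 := ⟨A - 1, by omega⟩
  have e1 : q ^ (k + 1) = A * q := by rw [hA, pow_succ]
  have e2 : q ^ (2 * k + 1) = A * A * q := by rw [hA, ← pow_add, ← pow_succ]; congr 1; omega
  rw [e1, e2, ← hA] at h
  rw [e1, ← hA, ha', Nat.add_sub_cancel]
  rw [ha'] at h
  have h' : nuM q k = a' * ((a' + 1) * q + 1) + 1 := by
    have : a' * ((a' + 1) * q + 1) + 1 + (a' + 1) * q = (a' + 1) * (a' + 1) * q + (a' + 1) := by ring
    omega
  rw [h', Nat.add_sub_cancel]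
  ring

variable {F : Type*} [Field F]

/-! ### level sets through the singular vectors of a space of odd dimension -/

section level

variable {E : Type u} [AddCommGroup E] [Module F E]

/-- the form `c t²` on the field. -/
noncomputable def sqF (c : F) : QuadraticForm F F := c • QuadraticMap.sq

theorem sqF_apply (c t : F) : sqF c t = c * (t * t) := rfl

theorem sqF_nd (h2 : (2 : F) ≠ 0) {c : F} (hc : c ≠ 0) : ND (QuadraticMap.polarBilin (sqF c)) ⊤ := by
  intro u _ hu
  refine ⟨1, Submodule.mem_top, ?_⟩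
  rw [pB_apply]
  unfold QuadraticMap.polar
  rw [sqF_apply, sqF_apply, sqF_apply]
  have : c * ((u + 1) * (u + 1)) - c * (u * u) - c * (1 * 1) = 2 * c * u := by ring
  rw [this]
  exact mul_ne_zero (mul_ne_zero h2 hc) hu

/-- **level sets and singular vectors** of a nondegenerate space of even dimension. -/
theorem card_level_add [Fintype F] [FiniteDimensional F E] (h2 : (2 : F) ≠ 0) {QE : QuadraticForm F E}
    (hND : ND (QuadraticMap.polarBilin QE) ⊤) {k : ℕ} (hd : finrank F E = 2 * k) {c : F} (hc : c ≠ 0) :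
    Nat.card {v : E // QE v = c} * (Fintype.card F - 1) + Nat.card {v : E // QE v = 0} =
      Fintype.card F ^ (2 * k) := by
  classical
  have : Finite E := Module.finite_of_finite F
  have hnc : -c ≠ 0 := neg_ne_zero.mpr hc
  obtain ⟨hNDP, -⟩ := prod_props QE (sqF (-c)) h2 hND (sqF_nd h2 hnc)
  have hnondeg : (QuadraticMap.polarBilin (QE.prod (sqF (-c)))).Nondegenerate := by
    rw [nondeg_iff]
    intro v hv
    by_contra hv0
    obtain ⟨w, -, hw⟩ := hNDP v Submodule.mem_top hv0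
    exact hw (hv w)
  have hdim : finrank F (E × F) = 2 * k + 1 := by
    rw [Module.finrank_prod, hd, Module.finrank_self]
  have hsing := card_singular_odd h2 k (QE.prod (sqF (-c))) hnondeg hdim
  -- the fibration over the last coordinate
  have e1 : Nat.card {x : E × F // (QE.prod (sqF (-c))) x = 0} =
      ∑ t : F, Nat.card {w : E // QE w = c * (t * t)} := by
    rw [← Nat.card_sigma]
    apply Nat.card_congr
    refine ⟨fun x => ⟨x.1.2, ⟨x.1.1, ?_⟩⟩, fun y => ⟨(y.2.1, y.1), ?_⟩, ?_, ?_⟩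
    · have := x.2
      rw [QuadraticMap.prod_apply, sqF_apply] at this
      linear_combination this
    · rw [QuadraticMap.prod_apply, sqF_apply]
      have := y.2.2
      simp only
      linear_combination this
    · rintro ⟨⟨w, t⟩, h⟩
      rfl
    · rintro ⟨t, ⟨w, h⟩⟩
      rfl
  have e2 : ∀ t : F, t ≠ 0 → Nat.card {w : E // QE w = c * (t * t)} = Nat.card {v : E // QE v = c} := by
    intro t ht
    apply Nat.card_congr
    refine ⟨fun w => ⟨t⁻¹ • w.1, ?_⟩, fun v => ⟨t • v.1, ?_⟩, ?_, ?_⟩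
    · rw [QuadraticMap.map_smul, w.2, smul_eq_mul]
      field_simp
    · rw [QuadraticMap.map_smul, v.2, smul_eq_mul]
      ring
    · rintro ⟨w, h⟩
      apply Subtype.ext
      simp only
      rw [smul_smul, mul_inv_cancel₀ ht, one_smul]
    · rintro ⟨v, h⟩
      apply Subtype.ext
      simp only
      rw [smul_smul, inv_mul_cancel₀ ht, one_smul]
  rw [hsing] at e1
  rw [e1, ← Finset.add_sum_erase Finset.univ _ (Finset.mem_univ (0 : F))]
  rw [Finset.sum_congr rfl (fun t ht => e2 t (Finset.ne_of_mem_erase ht)), Finset.sum_const,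
    Finset.card_erase_of_mem (Finset.mem_univ _), Finset.card_univ, smul_eq_mul, mul_zero, mul_zero]
  ring

end level

section sub

variable {V : Type u} [AddCommGroup V] [Module F V]

/-- **the number of vectors of a given nonzero norm of a space not of plus type.** -/
theorem card_level_ell [Fintype F] [FiniteDimensional F V] (h2 : (2 : F) ≠ 0) {Q : QuadraticForm F V}
    {W : Submodule F V} (hW : ND (QuadraticMap.polarBilin Q) W) {k : ℕ} (hd : finrank F ↥W = 2 * (k + 1))
    (hn : ¬ Hyp Q W) {c : F} (hc : c ≠ 0) :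
    Nat.card {w : ↥W // Q (w : V) = c} = Fintype.card F ^ k * (Fintype.card F ^ (k + 1) + 1) := by
  obtain ⟨q, hq⟩ : ∃ q, q = Fintype.card F := ⟨_, rfl⟩
  have hq2 : 2 ≤ q := by rw [hq]; exact two_le_card (F := F)
  have h1 := card_level_add (E := ↥W) h2 (QE := Q.comp W.subtype) (sub_nd_top hW) hd hc
  have h3 : Nat.card {v : ↥W // (Q.comp W.subtype) v = 0} = nuM q k := by
    rw [hq, ← card_singular_ell k W hW hd hn]
    rfl
  have h4 : Nat.card {v : ↥W // (Q.comp W.subtype) v = c} = Nat.card {w : ↥W // Q (w : V) = c} := rfl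
  rw [h3, h4, ← hq] at h1
  rw [← hq]
  obtain ⟨N, hN⟩ : ∃ N, N = Nat.card {w : ↥W // Q (w : V) = c} := ⟨_, rfl⟩
  rw [← hN] at h1 ⊢
  have h5 := nuM_add q (by omega) k
  obtain ⟨t, rfl⟩ : ∃ t, q = t + 1 := ⟨q - 1, by omega⟩
  rw [Nat.add_sub_cancel] at h1
  have ht : 0 < t := by omega
  have e1 : (t + 1) ^ (2 * (k + 1)) = (t + 1) ^ (2 * k + 1) * (t + 1) := by
    rw [← pow_succ]
    congr 1
  have e2 : (t + 1) ^ (k + 1) = (t + 1) ^ k * (t + 1) := pow_succ _ _
  have key : N * t = ((t + 1) ^ k * ((t + 1) ^ (k + 1) + 1)) * t := by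
    have : N * t + nuM (t + 1) k + (t + 1) ^ (k + 1) =
        ((t + 1) ^ k * ((t + 1) ^ (k + 1) + 1)) * t + nuM (t + 1) k + (t + 1) ^ (k + 1) := by
      rw [h1, add_assoc, h5, e1, e2]
      ring
    omega
  exact Nat.eq_of_mul_eq_mul_right ht key

end sub

end Cfsg.Agent.Helper7.QMi
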