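import Mathlib
import Cfsg.Agent.Helper7.QMiB

set_option autoImplicit false
set_option linter.unusedSectionVars false
set_option linter.unusedVariables false

/-!
# Counting subspaces of odd dimension and given type in a space not of plus type
-/

namespace Cfsg.Agent.Helper7.QMi

open Matrix Module Cfsg.Agent.Helper7.POrd Cfsg.Agent.Helper7.SpOrd Cfsg.Agent.Helper7.SpTI
  Cfsg.Agent.Helper7.OrTS Cfsg.Agent.Helper8.QuadForm Cfsg.Agent.Helper7.QTy Cfsg.Agent.Helper7.QEll
  Cfsg.Agent.Helper7.QPa Cfsg.Agent.Helper8.StdForms Cfsg.Agent.Helper8.OrthOrder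
  Cfsg.Agent.Helper7.SpUn

universe u

variable {F : Type*} [Field F] {V : Type u} [AddCommGroup V] [Module F V]

section count

variable [Fintype F] [Finite V]

/-- the complement of a frame of a space not of plus type is not of plus type. -/
theorem not_hyp_frame_perp {Q : QuadraticForm F V} (hV : ND (QuadraticMap.polarBilin Q) ⊤)
    (hy : ¬ Hyp Q ⊤) {j : ℕ} (s : QFr Q ⊤ j) :
    ¬ Hyp Q (LinearMap.BilinForm.orthogonal (QuadraticMap.polarBilin Q) (hspan F s.1) ⊓ ⊤) := by
  have hfd : FiniteDimensional F V := Module.Finite.of_finite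
  obtain ⟨h1, h2, h3, h4, h5, h6⟩ := qfr_span_props hV s
  intro hy'
  apply hy
  rw [← sup_perp_inf (pB_refl Q) h2 h1]
  exact hyp_sup h2 inf_le_left h4 hy'

/-- frames of a space of dimension `2d` not of plus type. -/
theorem card_qfr_minus {Q : QuadraticForm F V} (hV : ND (QuadraticMap.polarBilin Q) ⊤) {d : ℕ}
    (hn : finrank F V = 2 * d) (hy : ¬ Hyp Q ⊤) (h : ℕ) (hh : h ≤ d) :
    Nat.card (QFr Q ⊤ h) * Fintype.card F ^ h =
      ∏ j : Fin h, ((nuM (Fintype.card F) (d - 1 - (j : ℕ)) - 1) *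
        Fintype.card F ^ (2 * d - 2 * (j : ℕ) - 1)) := by
  have hfd : FiniteDimensional F V := Module.Finite.of_finite
  have := card_qfr hV (fun j => nuM (Fintype.card F) (d - 1 - j)) h (by
    intro j hj s
    obtain ⟨h1, h2, h3, h4, h5, h6⟩ := qfr_span_props hV s
    exact card_singular_ell (d - 1 - j) _ h5 (by rw [h6, finrank_top, hn]; omega)
      (not_hyp_frame_perp hV hy s))
  rw [finrank_top, hn] at this
  exact this

/-- **the number of subspaces of a given odd dimension and type**, in terms of the numbers of frames and of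
vectors of a given norm orthogonal to a frame. -/
theorem card_parSub_mul_gen (h2 : (2 : F) ≠ 0) {Q : QuadraticForm F V} (hV : ND (QuadraticMap.polarBilin Q) ⊤)
    {d : ℕ} (hn : finrank F V = 2 * d) {h : ℕ} (hhd : h + 2 ≤ d) {c₀ : F} (hc₀ : c₀ ≠ 0) (κ Lv Fr : ℕ)
    (hLv : ∀ s : QFr Q ⊤ h, Nat.card {v : ↥(LinearMap.BilinForm.orthogonal (QuadraticMap.polarBilin Q)
      (hspan F s.1) ⊓ ⊤) // Q (v : V) = c₀} * κ = Lv)
    (hFr : Nat.card (QFr Q ⊤ h) * Fintype.card F ^ h = Fr) :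
    Nat.card (ParSub Q h c₀) *
        (2 * ∏ j : Fin h, ((Fintype.card F ^ (2 * (h - (j : ℕ))) - 1) *
          Fintype.card F ^ (2 * h + 1 - 2 * (j : ℕ) - 1))) * κ = Fr * Lv := by
  classical
  have hfd : FiniteDimensional F V := Module.Finite.of_finite
  have hrefl := pB_refl Q
  -- the relation
  obtain ⟨R, hR⟩ : ∃ R : ParSub Q h c₀ → PFr Q ⊤ h c₀ → Prop, ∀ W x, R W x ↔
      ((∀ a, x.1.1.1 a ∈ W.1) ∧ (∀ a, x.1.1.2 a ∈ W.1) ∧ x.1.2 ∈ W.1) :=
    ⟨fun W x => (∀ a, x.1.1.1 a ∈ W.1) ∧ (∀ a, x.1.1.2 a ∈ W.1) ∧ x.1.2 ∈ W.1, fun W x => Iff.rfl⟩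
  have hA : ∀ W : ParSub Q h c₀, Nat.card {x : PFr Q ⊤ h c₀ // R W x} * Fintype.card F ^ h =
      2 * ∏ j : Fin h, ((Fintype.card F ^ (2 * (h - (j : ℕ))) - 1) *
          Fintype.card F ^ (2 * h + 1 - 2 * (j : ℕ) - 1)) := by
    intro W
    obtain ⟨W, hWd, hWnd, hWot⟩ := W
    have e1 : Nat.card {x : PFr Q ⊤ h c₀ // R ⟨W, hWd, hWnd, hWot⟩ x} = Nat.card (PFr Q W h c₀) := by
      rw [← Nat.card_congr (pfrInEquiv Q W h c₀)]
      apply Nat.card_congr
      apply Equiv.subtypeEquivRight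
      intro x
      exact hR _ x
    have e2 : Nat.card (PFr Q W h c₀) * 1 = Nat.card (QFr Q W h) * 2 := by
      apply card_pfr_mul
      intro s
      rw [mul_one]
      obtain ⟨h1, h2', h3, h4, h5, h6⟩ := qfr_span_props hWnd s
      have hL1 : finrank F ↥(LinearMap.BilinForm.orthogonal (QuadraticMap.polarBilin Q) (hspan F s.1) ⊓ W)
          = 1 := by rw [h6, hWd]; omega
      have hLne : LinearMap.BilinForm.orthogonal (QuadraticMap.polarBilin Q) (hspan F s.1) ⊓ W ≠ ⊥ := by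
        intro h0
        rw [h0, finrank_bot] at hL1
        omega
      obtain ⟨u, huL, hu0⟩ := Submodule.exists_mem_ne_zero_of_ne_bot hLne
      have hQu := nonsing_of_line h5 hL1 huL hu0
      have hot' : OT Q W (Q u) := by
        refine ⟨hspan F s.1, u, h1, h2', h4, huL.2, huL.1, rfl, ?_⟩
        have hspan : Submodule.span F {u} =
            LinearMap.BilinForm.orthogonal (QuadraticMap.polarBilin Q) (hspan F s.1) ⊓ W := by
          apply Submodule.eq_of_le_of_finrank_eq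
          · rw [Submodule.span_singleton_le_iff_mem]
            exact huL
          · rw [finrank_span_singleton hu0, hL1]
        rw [hspan]
        exact sup_perp_inf hrefl h2' h1
      obtain ⟨z, hz, hQz⟩ := exists_perp_repr hV hWnd (by rw [hWd, hn]; omega) (-c₀)
      obtain ⟨t, ht, htc⟩ := ot_unique h2 hV hWot hot' hc₀ hQu hz hQz
      refine card_line_level h2 hL1 (u₀ := t⁻¹ • u) (Submodule.smul_mem _ _ huL) hc₀ ?_
      rw [QuadraticMap.map_smul, htc, smul_eq_mul]
      field_simp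
    rw [e1, ← mul_one (Nat.card (PFr Q W h c₀)), e2, mul_comm (Nat.card (QFr Q W h)) 2, mul_assoc,
      card_qfr_oddsub h2 hV hWnd hWd h]
  have hB : ∀ x : PFr Q ⊤ h c₀, Nat.card {W : ParSub Q h c₀ // R W x} * 1 = 1 := by
    intro x
    rw [mul_one, Nat.card_eq_one_iff_unique]
    obtain ⟨⟨⟨e, f⟩, v⟩, ⟨hhyp, -, -⟩, ⟨hv, -⟩, hQv⟩ := x
    simp only at hhyp hv hQv
    obtain ⟨hHnd, hHd, hHy⟩ := fspan_props hhyp
    have hQv0 : Q v ≠ 0 := by rw [hQv]; exact hc₀
    have hv0 : v ≠ 0 := by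
      rintro rfl
      exact hQv0 (QuadraticMap.map_zero Q)
    have hLnd := (line_props h2 hV hQv0).1
    have hLH : Submodule.span F {v} ≤
        LinearMap.BilinForm.orthogonal (QuadraticMap.polarBilin Q) (hspan F (e, f)) := by
      rw [Submodule.span_singleton_le_iff_mem]
      exact hv
    have hW1d : finrank F ↥(hspan F (e, f) ⊔ Submodule.span F {v}) = 2 * h + 1 := by
      rw [finrank_sup_of_le_perp hrefl hHnd hLH, finrank_span_singleton hv0, hHd]
    constructor
    · constructor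
      rintro ⟨⟨W, hWd, hWnd, hWot⟩, hRW⟩ ⟨⟨W', hWd', hWnd', hWot'⟩, hRW'⟩
      rw [hR] at hRW hRW'
      simp only at hRW hRW'
      apply Subtype.ext
      apply Subtype.ext
      simp only
      have hle : hspan F (e, f) ⊔ Submodule.span F {v} ≤ W :=
        sup_le (hspan_le hRW.1 hRW.2.1) (by rw [Submodule.span_singleton_le_iff_mem]; exact hRW.2.2)
      have hle' : hspan F (e, f) ⊔ Submodule.span F {v} ≤ W' :=
        sup_le (hspan_le hRW'.1 hRW'.2.1) (by rw [Submodule.span_singleton_le_iff_mem]; exact hRW'.2.2)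
      rw [← Submodule.eq_of_le_of_finrank_eq hle (by rw [hW1d, hWd]),
        ← Submodule.eq_of_le_of_finrank_eq hle' (by rw [hW1d, hWd'])]
    · refine ⟨⟨⟨hspan F (e, f) ⊔ Submodule.span F {v}, hW1d, nd_sup hrefl hHnd hLnd hLH,
        hspan F (e, f), v, le_sup_left, hHnd, hHy,
        Submodule.mem_sup_right (Submodule.mem_span_singleton_self v), hv, hQv, rfl⟩, ?_⟩⟩
      rw [hR]
      refine ⟨fun a => Submodule.mem_sup_left (Submodule.subset_span ⟨Sum.inl a, rfl⟩),
        fun a => Submodule.mem_sup_left (Submodule.subset_span ⟨Sum.inr a, rfl⟩),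
        Submodule.mem_sup_right (Submodule.mem_span_singleton_self v)⟩
  have hmain := card_mul_of_rel R hA hB
  -- pointed frames of the space
  have hBc : Nat.card (PFr Q ⊤ h c₀) * κ = Nat.card (QFr Q ⊤ h) * Lv := card_pfr_mul Q ⊤ h c₀ κ Lv hLv
  calc Nat.card (ParSub Q h c₀) *
        (2 * ∏ j : Fin h, ((Fintype.card F ^ (2 * (h - (j : ℕ))) - 1) *
          Fintype.card F ^ (2 * h + 1 - 2 * (j : ℕ) - 1))) * κ
      = (Nat.card (ParSub Q h c₀) *
        (2 * ∏ j : Fin h, ((Fintype.card F ^ (2 * (h - (j : ℕ))) - 1) *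
          Fintype.card F ^ (2 * h + 1 - 2 * (j : ℕ) - 1))) * 1) * κ := by ring
    _ = (Nat.card (PFr Q ⊤ h c₀) * 1 * Fintype.card F ^ h) * κ := by rw [hmain]
    _ = (Nat.card (PFr Q ⊤ h c₀) * κ) * Fintype.card F ^ h := by ring
    _ = (Nat.card (QFr Q ⊤ h) * Fintype.card F ^ h) * Lv := by rw [hBc]; ring
    _ = _ := by rw [hFr]

/-- **the number of subspaces of a given odd dimension and type of a space of dimension `2d` not of plus type**,
in product form. -/
theorem card_parSub_mul_minus (h2 : (2 : F) ≠ 0) {Q : QuadraticForm F V}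
    (hV : ND (QuadraticMap.polarBilin Q) ⊤) {d : ℕ} (hn : finrank F V = 2 * d) (hy : ¬ Hyp Q ⊤) {h : ℕ}
    (hhd : h + 2 ≤ d) {c₀ : F} (hc₀ : c₀ ≠ 0) :
    Nat.card (ParSub Q h c₀) *
        (2 * ∏ j : Fin h, ((Fintype.card F ^ (2 * (h - (j : ℕ))) - 1) *
          Fintype.card F ^ (2 * h + 1 - 2 * (j : ℕ) - 1))) * 1 =
      (∏ j : Fin h, ((nuM (Fintype.card F) (d - 1 - (j : ℕ)) - 1) *
        Fintype.card F ^ (2 * d - 2 * (j : ℕ) - 1))) *
        (Fintype.card F ^ (d - h - 1) * (Fintype.card F ^ (d - h) + 1)) := by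
  have hfd : FiniteDimensional F V := Module.Finite.of_finite
  apply card_parSub_mul_gen h2 hV hn hhd hc₀
  · intro s
    obtain ⟨h1, h2', h3, h4, h5, h6⟩ := qfr_span_props hV s
    rw [mul_one, card_level_ell h2 h5 (k := d - h - 1) (by rw [h6, finrank_top, hn]; omega)
      (not_hyp_frame_perp hV hy s) hc₀]
    congr 3
    omega
  · exact card_qfr_minus hV hn hy h (by omega)

/-- **a prime other than the characteristic dividing the number of subspaces of a given odd dimension and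
type**, space not of plus type. -/
theorem exists_dvd_of_dvd_card_parSub_minus {p : ℕ} [Fact p.Prime] [CharP F p] (h2 : (2 : F) ≠ 0)
    {Q : QuadraticForm F V} (hV : ND (QuadraticMap.polarBilin Q) ⊤) {d : ℕ} (hn : finrank F V = 2 * d)
    (hy : ¬ Hyp Q ⊤) {h : ℕ} (hhd : h + 2 ≤ d) {c₀ : F} (hc₀ : c₀ ≠ 0) {r : ℕ} (hr : r.Prime) (hrp : r ≠ p)
    (hdvd : r ∣ Nat.card (ParSub Q h c₀)) :
    r ∣ Fintype.card F ^ d + 1 ∨ ∃ j, d - h ≤ j ∧ j < d ∧ r ∣ Fintype.card F ^ (2 * j) - 1 := by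
  have hp : p.Prime := Fact.out
  have hqpos : 0 < Fintype.card F := Fintype.card_pos
  have hnq : ∀ n : ℕ, ¬ r ∣ Fintype.card F ^ n := by
    intro n h3
    have h4 : r ∣ Fintype.card F := hr.dvd_of_dvd_pow h3
    obtain ⟨n', -, hn'⟩ := FiniteField.card F p
    rw [hn'] at h4
    exact hrp ((Nat.prime_dvd_prime_iff_eq hr hp).mp (hr.dvd_of_dvd_pow h4))
  have h1 : r ∣ (∏ j : Fin h, ((nuM (Fintype.card F) (d - 1 - (j : ℕ)) - 1) *
        Fintype.card F ^ (2 * d - 2 * (j : ℕ) - 1))) *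
        (Fintype.card F ^ (d - h - 1) * (Fintype.card F ^ (d - h) + 1)) := by
    rw [← card_parSub_mul_minus h2 hV hn hy hhd hc₀, mul_assoc]
    exact Dvd.dvd.mul_right hdvd _
  rcases (Nat.Prime.dvd_mul hr).mp h1 with h3 | h3
  · rw [hr.prime.dvd_finsetProd_iff] at h3
    obtain ⟨j, -, hj⟩ := h3
    have hjh := j.2
    rcases (Nat.Prime.dvd_mul hr).mp hj with h4 | h4
    · rw [nuM_sub_one _ hqpos] at h4
      have e : d - 1 - (j : ℕ) + 1 = d - (j : ℕ) := by omega
      rw [e] at h4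
      rcases (Nat.Prime.dvd_mul hr).mp h4 with h5 | h5
      · by_cases hj0 : (j : ℕ) = 0
        · left
          rw [hj0, Nat.sub_zero] at h5
          exact h5
        · right
          exact ⟨d - (j : ℕ), by omega, by omega, dvd_pow_two_mul_sub_one hqpos (Or.inr h5)⟩
      · right
        exact ⟨d - 1 - (j : ℕ), by omega, by omega, dvd_pow_two_mul_sub_one hqpos (Or.inl h5)⟩
    · exact absurd h4 (hnq _)
  · rcases (Nat.Prime.dvd_mul hr).mp h3 with h4 | h4
    · exact absurd h4 (hnq _)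
    · by_cases hh0 : h = 0
      · left
        rw [hh0, Nat.sub_zero] at h4
        exact h4
      · right
        exact ⟨d - h, le_rfl, by omega, dvd_pow_two_mul_sub_one hqpos (Or.inr h4)⟩

end count

end Cfsg.Agent.Helper7.QMi
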