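import Mathlib
import Cfsg.Agent.Helper7.QMiC

set_option autoImplicit false
set_option linter.unusedSectionVars false
set_option linter.unusedVariables false

/-!
# Invariant nondegenerate subspaces of odd dimension and prescribed type: the general criterion and spaces
not of plus type (odd `r ≠ p`)
-/

namespace Cfsg.Agent.Helper7.QMi

open Module Cfsg.Agent.Helper7.POrd Cfsg.Agent.Helper7.SpOrd Cfsg.Agent.Helper7.SpTI
  Cfsg.Agent.Helper7.OrTS Cfsg.Agent.Helper8.QuadForm Cfsg.Agent.Helper7.QTy Cfsg.Agent.Helper7.QEll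
  Cfsg.Agent.Helper7.QPa

universe u

variable {F : Type*} [Field F] {V : Type u} [AddCommGroup V] [Module F V]

variable [Fintype F] [Finite V] {p : ℕ} [Fact p.Prime] [CharP F p] {r : ℕ} [Fact r.Prime]

/-- **existence of invariant subspaces of odd dimension and prescribed type** when the fixed space is large
enough, `r` odd. -/
theorem exists_ot_invt_odd_of_fix (h2 : (2 : F) ≠ 0) (hr2 : r ≠ 2) (hrp : r ≠ p) {Q : QuadraticForm F V}
    (hV : ND (QuadraticMap.polarBilin Q) ⊤) {T : Module.End F V} (hQT : ∀ v, Q (T v) = Q v) (hT : T ^ r = 1)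
    {d h : ℕ} (hn : finrank F V = 2 * d) (hm : 2 * h + 1 < 2 * d) {c₀ : F} (hc₀ : c₀ ≠ 0)
    (hfxbig : (2 * h + 1) % cOf (orderOf ((Fintype.card F : ℕ) : ZMod r)) < finrank F ↥(fixS T)) :
    ∃ W : Submodule F V, W ∈ Module.End.invtSubmodule T ∧ ND (QuadraticMap.polarBilin Q) W ∧
      finrank F ↥W = 2 * h + 1 ∧ OT Q W c₀ := by
  have hfd : FiniteDimensional F V := Module.Finite.of_finite
  have hrF : (r : F) ≠ 0 := natCast_ne_zero_of_ne hrp
  have hrefl := pB_refl Q
  have hiso := iso_of_Q hQT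
  obtain ⟨i, hi⟩ : ∃ i, i = orderOf ((Fintype.card F : ℕ) : ZMod r) := ⟨_, rfl⟩
  rw [← hi] at hfxbig
  have hipos : 0 < i := by rw [hi]; exact orderOf_q_pos hrp
  obtain ⟨c, hc⟩ : ∃ c, c = cOf i := ⟨_, rfl⟩
  rw [← hc] at hfxbig
  have hcpos : 0 < c := by rw [hc]; exact cOf_pos hipos
  have hceven : Even c := by rw [hc]; exact cOf_even i
  have hMnd : ND (QuadraticMap.polarBilin Q) (movS r T) := by
    have := nd_inf_mov hrefl hiso hrF hT (Module.End.invtSubmodule.top_mem T) hV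
    rwa [top_inf_eq] at this
  have hfxnd : ND (QuadraticMap.polarBilin Q) (fixS T) := by
    have := nd_inf_fix hrefl hiso hrF hT (Module.End.invtSubmodule.top_mem T) hV
    rwa [top_inf_eq] at this
  have hMfix : movS r T ⊓ fixS T = ⊥ := by
    rw [inf_comm]
    exact (disjoint_fix_mov hrF T).eq_bot
  have hMinv := movS_invt r T
  have hsum := finrank_fix_add_mov hrF hT
  rw [hn] at hsum
  have hcdvd : c ∣ finrank F ↥(movS r T) := by
    rw [hc, hi]
    exact cOf_dvd_finrank_s h2 hr2 hrp (pB_symm' Q) hiso hT _ _ rfl hMinv hMnd hMfix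
  obtain ⟨a, ha⟩ := hcdvd
  obtain ⟨b, hb⟩ : ∃ b, b = min a ((2 * h + 1) / c) := ⟨_, rfl⟩
  have hba : b ≤ a := by rw [hb]; exact min_le_left _ _
  have hbm : b ≤ (2 * h + 1) / c := by rw [hb]; exact min_le_right _ _
  have hcb_le : c * b ≤ finrank F ↥(movS r T) := by rw [ha]; exact Nat.mul_le_mul_left c hba
  have hcbm : c * b ≤ 2 * h + 1 := (Nat.mul_le_mul_left c hbm).trans (Nat.mul_div_le _ c)
  -- the blocks
  have hblocks : ∃ U : Submodule F V, U ≤ movS r T ∧ U ∈ Module.End.invtSubmodule T ∧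
      ND (QuadraticMap.polarBilin Q) U ∧ finrank F ↥U = c * b := by
    by_cases hev : Even i
    · have hci : c = i := by rw [hc]; unfold cOf; rw [if_pos hev]
      rw [hi] at hev
      obtain ⟨U, hUM, hU, hUnd, hUd⟩ := exists_nd_blocks_even h2 hrp hQT hT hev b _ hMinv hMnd hMfix
        (by rw [← hi, ← hci]; exact hcb_le)
      exact ⟨U, hUM, hU, hUnd, by rw [hUd, ← hi, ← hci]⟩
    · have hodd : Odd i := Nat.not_even_iff_odd.mp hev
      have hci : c = 2 * i := by rw [hc]; unfold cOf; rw [if_neg hev]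
      rw [hi] at hodd
      obtain ⟨U, hUM, hU, hUnd, hUd, -⟩ := exists_hyp_blocks_odd h2 hr2 hrp hQT hT hodd b _ hMinv hMnd hMfix
        (by rw [← hi, ← hci]; exact hcb_le)
      exact ⟨U, hUM, hU, hUnd, by rw [hUd, ← hi, ← hci]⟩
  obtain ⟨U, hUM, hU, hUnd, hUd⟩ := hblocks
  -- the fixed part
  obtain ⟨e, he⟩ : ∃ e, 2 * h + 1 - c * b + 1 = 2 * e := by
    obtain ⟨c', hc'⟩ := hceven
    have hcc : c * b = 2 * (c' * b) := by rw [hc']; ring
    rw [hcc] at hcbm ⊢
    exact ⟨h + 1 - c' * b, by omega⟩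
  have hglt : 2 * h + 1 - c * b < finrank F ↥(fixS T) := by
    rcases Nat.lt_or_ge a ((2 * h + 1) / c) with hlt | hge'
    · have : b = a := by rw [hb]; exact min_eq_left hlt.le
      rw [this]
      omega
    · have : b = (2 * h + 1) / c := by rw [hb]; exact min_eq_right hge'
      have hdm := Nat.div_add_mod (2 * h + 1) c
      rw [this]
      omega
  obtain ⟨N', hN'fx, hN'nd, hN'd⟩ : ∃ N' : Submodule F V, N' ≤ fixS T ∧
      ND (QuadraticMap.polarBilin Q) N' ∧ finrank F ↥N' = 2 * e := by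
    rcases Nat.lt_or_ge (2 * e) (finrank F ↥(fixS T)) with hlt | hge
    · obtain ⟨N', h1, h2', h3, -⟩ := exists_hyp_sub hV hfxnd hlt
      exact ⟨N', h1, h2', h3⟩
    · exact ⟨fixS T, le_rfl, hfxnd, by omega⟩
  have hperp : N' ≤ LinearMap.BilinForm.orthogonal (QuadraticMap.polarBilin Q) U := by
    intro v hv
    rw [mem_perp]
    intro w hw
    exact hrefl _ _ (fix_perp_mov hiso hrF (hN'fx hv) (hUM hw))
  have hYnd : ND (QuadraticMap.polarBilin Q) (U ⊔ N') := nd_sup hrefl hUnd hN'nd hperp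
  have hYd : finrank F ↥(U ⊔ N') = 2 * h + 2 := by
    rw [finrank_sup_of_le_perp hrefl hUnd hperp, hUd, hN'd]
    omega
  have hYinv : U ⊔ N' ∈ Module.End.invtSubmodule T := sup_invt hU (invt_of_le_fixS hN'fx)
  obtain ⟨v, hvN, hQv, hWnd, hWd, hot⟩ := exists_vec_ot h2 hV hYnd hYd le_sup_right hN'nd (by omega) hc₀
  exact ⟨_, inf_invt (perp_line_invt hQT (mem_fixS.mp (hN'fx hvN))) hYinv, hWnd, hWd, hot⟩

/-- the fixed space of an isometry of odd prime order of a space not of plus type is large in the good cases. -/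
theorem fix_big_minus (h2 : (2 : F) ≠ 0) (hr2 : r ≠ 2) (hrp : r ≠ p) {Q : QuadraticForm F V}
    (hV : ND (QuadraticMap.polarBilin Q) ⊤) {T : Module.End F V} (hQT : ∀ v, Q (T v) = Q v) (hT : T ^ r = 1)
    {d m : ℕ} (hn : finrank F V = 2 * d) (hy : ¬ Hyp Q ⊤)
    (hcond : m % cOf (orderOf ((Fintype.card F : ℕ) : ZMod r)) <
        (2 * d) % cOf (orderOf ((Fintype.card F : ℕ) : ZMod r)) ∨
      ((2 * d) % cOf (orderOf ((Fintype.card F : ℕ) : ZMod r)) = 0 ∧
        (Odd (orderOf ((Fintype.card F : ℕ) : ZMod r)) ∨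
          Even ((2 * d) / orderOf ((Fintype.card F : ℕ) : ZMod r))))) :
    m % cOf (orderOf ((Fintype.card F : ℕ) : ZMod r)) < finrank F ↥(fixS T) := by
  have hfd : FiniteDimensional F V := Module.Finite.of_finite
  have hrF : (r : F) ≠ 0 := natCast_ne_zero_of_ne hrp
  have hrefl := pB_refl Q
  have hiso := iso_of_Q hQT
  obtain ⟨i, hi⟩ : ∃ i, i = orderOf ((Fintype.card F : ℕ) : ZMod r) := ⟨_, rfl⟩
  rw [← hi] at hcond ⊢
  have hipos : 0 < i := by rw [hi]; exact orderOf_q_pos hrp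
  obtain ⟨c, hc⟩ : ∃ c, c = cOf i := ⟨_, rfl⟩
  rw [← hc] at hcond ⊢
  have hcpos : 0 < c := by rw [hc]; exact cOf_pos hipos
  have hMnd : ND (QuadraticMap.polarBilin Q) (movS r T) := by
    have := nd_inf_mov hrefl hiso hrF hT (Module.End.invtSubmodule.top_mem T) hV
    rwa [top_inf_eq] at this
  have hMfix : movS r T ⊓ fixS T = ⊥ := by
    rw [inf_comm]
    exact (disjoint_fix_mov hrF T).eq_bot
  have hMinv := movS_invt r T
  have hsum := finrank_fix_add_mov hrF hT
  rw [hn] at hsum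
  have hcdvd : c ∣ finrank F ↥(movS r T) := by
    rw [hc, hi]
    exact cOf_dvd_finrank_s h2 hr2 hrp (pB_symm' Q) hiso hT _ _ rfl hMinv hMnd hMfix
  obtain ⟨a, ha⟩ := hcdvd
  have hkmod : (2 * d) % c = finrank F ↥(fixS T) % c := by
    rw [← hsum, ha, Nat.add_mul_mod_self_left]
  have hkfx : (2 * d) % c ≤ finrank F ↥(fixS T) := by
    rw [hkmod]
    exact Nat.mod_le _ _
  rcases hcond with hlt | ⟨hk0, hty⟩
  · omega
  · have hfx0 : finrank F ↥(fixS T) ≠ 0 := by
      intro h0
      rw [h0, zero_add] at hsum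
      have htop : movS r T = ⊤ := by
        apply Submodule.eq_top_of_finrank_eq
        rw [hsum, hn]
      by_cases hev : Even i
      · have hci : c = i := by rw [hc]; unfold cOf; rw [if_pos hev]
        have hev' := hev
        rw [hi] at hev'
        have hiff := hyp_iff_even_blocks h2 hr2 hrp hV hQT hT hev' a (movS r T) hMinv hMnd hMfix
          (by rw [ha, ← hi, ← hci])
        rw [htop] at hiff
        have hda : 2 * d / i = a := by
          rw [← hsum, ha, hci]
          exact Nat.mul_div_cancel_left a hipos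
        rcases hty with hodd | hea
        · exact (Nat.not_even_iff_odd.mpr hodd) hev
        · rw [hda] at hea
          exact hy (hiff.mpr hea)
      · have hodd : Odd i := Nat.not_even_iff_odd.mp hev
        have hci : c = 2 * i := by rw [hc]; unfold cOf; rw [if_neg hev]
        have hodd' := hodd
        rw [hi] at hodd'
        obtain ⟨U, hUM, -, -, hUd, hUy⟩ := exists_hyp_blocks_odd h2 hr2 hrp hQT hT hodd' a (movS r T) hMinv hMnd
          hMfix (by rw [ha, ← hi, ← hci])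
        have hUtop : U = ⊤ := by
          apply Submodule.eq_top_of_finrank_eq
          rw [hUd, ← hi, ← hci, ← ha, hsum, hn]
        rw [hUtop] at hUy
        exact hy hUy
    have hdvd : c ∣ finrank F ↥(fixS T) := by
      rw [Nat.dvd_iff_mod_eq_zero, ← hkmod]
      exact hk0
    have hge : c ≤ finrank F ↥(fixS T) := Nat.le_of_dvd (Nat.pos_of_ne_zero hfx0) hdvd
    have := Nat.mod_lt m hcpos
    omega

/-- **existence of invariant subspaces of odd dimension and prescribed type**, space not of plus type,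
`r` odd. -/
theorem exists_ot_invt_odd_minus (h2 : (2 : F) ≠ 0) (hr2 : r ≠ 2) (hrp : r ≠ p) {Q : QuadraticForm F V}
    (hV : ND (QuadraticMap.polarBilin Q) ⊤) {T : Module.End F V} (hQT : ∀ v, Q (T v) = Q v) (hT : T ^ r = 1)
    {d h : ℕ} (hn : finrank F V = 2 * d) (hy : ¬ Hyp Q ⊤) (hm : 2 * h + 1 < 2 * d) {c₀ : F} (hc₀ : c₀ ≠ 0)
    (hcond : (2 * h + 1) % cOf (orderOf ((Fintype.card F : ℕ) : ZMod r)) <
        (2 * d) % cOf (orderOf ((Fintype.card F : ℕ) : ZMod r)) ∨
      ((2 * d) % cOf (orderOf ((Fintype.card F : ℕ) : ZMod r)) = 0 ∧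
        (Odd (orderOf ((Fintype.card F : ℕ) : ZMod r)) ∨
          Even ((2 * d) / orderOf ((Fintype.card F : ℕ) : ZMod r))))) :
    ∃ W : Submodule F V, W ∈ Module.End.invtSubmodule T ∧ ND (QuadraticMap.polarBilin Q) W ∧
      finrank F ↥W = 2 * h + 1 ∧ OT Q W c₀ :=
  exists_ot_invt_odd_of_fix h2 hr2 hrp hV hQT hT hn hm hc₀
    (fix_big_minus h2 hr2 hrp hV hQT hT hn hy hcond)

end Cfsg.Agent.Helper7.QMi
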