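import Mathlib
import Cfsg.Agent.Helper7.QMiD

set_option autoImplicit false
set_option linter.unusedSectionVars false
set_option linter.unusedVariables false

/-!
# Products not of plus type; an element of `Ω⁻_{2d}(q)` of odd prime order with the smallest fixed space
-/

namespace Cfsg.Agent.Helper7.QMi

open Matrix Module Cfsg.Agent.Helper8.SpS Cfsg.Agent.Helper8.SpStab Cfsg.Agent.Helper7.POrd
  Cfsg.Agent.Helper7.SpOrd Cfsg.Agent.Helper7.SpTI Cfsg.Agent.Helper7.SpCP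
  Cfsg.Agent.Helper7.OrTS Cfsg.Agent.Helper8.QuadForm Cfsg.Agent.Helper7.QTy Cfsg.Agent.Helper7.QEll
  Cfsg.Agent.Helper7.QPa Cfsg.Agent.Helper8.StdForms Cfsg.Agent.Helper8.OrthOrder
  Cfsg.Agent.Helper8.ReflMatrix

universe u

variable {F : Type*} [Field F]

section prod

variable {V₁ V₂ : Type*} [AddCommGroup V₁] [Module F V₁] [AddCommGroup V₂] [Module F V₂]
  (Q₁ : QuadraticForm F V₁) (Q₂ : QuadraticForm F V₂)

/-- the orthogonal product of a plus type space and a space not of plus type is not of plus type. -/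
theorem prod_not_hyp [Fintype F] [FiniteDimensional F V₁] [FiniteDimensional F V₂] (h2 : (2 : F) ≠ 0)
    (h₁ : ND (QuadraticMap.polarBilin Q₁) ⊤) (h₂ : ND (QuadraticMap.polarBilin Q₂) ⊤)
    (h : (Hyp Q₁ ⊤ ∧ ¬ Hyp Q₂ ⊤) ∨ (¬ Hyp Q₁ ⊤ ∧ Hyp Q₂ ⊤)) : ¬ Hyp (Q₁.prod Q₂) ⊤ := by
  have hrefl := pB_refl (Q₁.prod Q₂)
  have hinjl : Function.Injective (LinearMap.inl F V₁ V₂) := LinearMap.inl_injective
  have hinjr : Function.Injective (LinearMap.inr F V₁ V₂) := LinearMap.inr_injective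
  have hA := nd_map_emb (Q := Q₁.prod Q₂) (prod_inl Q₁ Q₂) h₁
  have hB := nd_map_emb (Q := Q₁.prod Q₂) (prod_inr Q₁ Q₂) h₂
  have hAB : (⊤ : Submodule F V₂).map (LinearMap.inr F V₁ V₂) ≤
      LinearMap.BilinForm.orthogonal (QuadraticMap.polarBilin (Q₁.prod Q₂))
        ((⊤ : Submodule F V₁).map (LinearMap.inl F V₁ V₂)) := by
    rintro _ ⟨w, -, rfl⟩
    rw [mem_perp]
    rintro _ ⟨u, -, rfl⟩
    rw [pB_apply, QuadraticMap.polar_prod]
    simp
  have hBA : (⊤ : Submodule F V₁).map (LinearMap.inl F V₁ V₂) ≤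
      LinearMap.BilinForm.orthogonal (QuadraticMap.polarBilin (Q₁.prod Q₂))
        ((⊤ : Submodule F V₂).map (LinearMap.inr F V₁ V₂)) := by
    rintro _ ⟨w, -, rfl⟩
    rw [mem_perp]
    rintro _ ⟨u, -, rfl⟩
    rw [pB_apply, QuadraticMap.polar_prod]
    simp
  have hsup : (⊤ : Submodule F V₁).map (LinearMap.inl F V₁ V₂) ⊔
      (⊤ : Submodule F V₂).map (LinearMap.inr F V₁ V₂) = ⊤ := by
    rw [eq_top_iff]
    rintro ⟨x, y⟩ -
    have : ((x, y) : V₁ × V₂) = LinearMap.inl F V₁ V₂ x + LinearMap.inr F V₁ V₂ y := by simp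
    rw [this]
    exact Submodule.add_mem _ (Submodule.mem_sup_left (Submodule.mem_map_of_mem Submodule.mem_top))
      (Submodule.mem_sup_right (Submodule.mem_map_of_mem Submodule.mem_top))
  have hnd : ND (QuadraticMap.polarBilin (Q₁.prod Q₂)) ⊤ := by
    rw [← hsup]
    exact nd_sup hrefl hA hB hAB
  rcases h with ⟨hy₁, hn₂⟩ | ⟨hn₁, hy₂⟩
  · rw [← hsup]
    exact not_hyp_sup hnd hA hB hAB (hyp_map_emb hinjl (prod_inl Q₁ Q₂) hy₁)
      (fun h => hn₂ (hyp_of_map_emb hinjr (prod_inr Q₁ Q₂) h))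
  · rw [← hsup, sup_comm]
    exact not_hyp_sup hnd hB hA hBA (hyp_map_emb hinjr (prod_inr Q₁ Q₂) hy₂)
      (fun h => hn₁ (hyp_of_map_emb hinjl (prod_inl Q₁ Q₂) h))

end prod

variable [Fintype F] {p : ℕ} [Fact p.Prime] [CharP F p] {r : ℕ} [Fact r.Prime]

/-- **an element of `Ω⁻_{2d}(q)` of odd prime order `r ≠ p` whose fixed space has the dimension of the
remainder of `2d` modulo `c`**, whenever the types allow it. -/
theorem exists_elt_small_fix_minus (h2F : (2 : F) ≠ 0) (hr2 : r ≠ 2) (hrp : r ≠ p) {d k : ℕ} (hdk : d = k + 1)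
    {a b : F} (hab : ∀ x y : F, x ^ 2 + a * x * y + b * y ^ 2 = 0 → x = 0 ∧ y = 0)
    (hcd : cOf (orderOf ((Fintype.card F : ℕ) : ZMod r)) ≤ 2 * d)
    (hty : (Odd (orderOf ((Fintype.card F : ℕ) : ZMod r)) ∧
        0 < (2 * d) % cOf (orderOf ((Fintype.card F : ℕ) : ZMod r))) ∨
      (Even (orderOf ((Fintype.card F : ℕ) : ZMod r)) ∧
        (0 < (2 * d) % cOf (orderOf ((Fintype.card F : ℕ) : ZMod r)) ∨
          Odd ((2 * d) / orderOf ((Fintype.card F : ℕ) : ZMod r))))) :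
    ∃ x : GL ((Fin k ⊕ Fin k) ⊕ Fin 2) F, x ∈ Cfsg.Geo.omegaGL (Cfsg.quadFormMinus k F a b) ∧ x ^ r = 1 ∧
      x ≠ 1 ∧
      finrank F ↥(fixS (Matrix.toLin' (x : Matrix ((Fin k ⊕ Fin k) ⊕ Fin 2) ((Fin k ⊕ Fin k) ⊕ Fin 2) F))) ≤
        (2 * d) % cOf (orderOf ((Fintype.card F : ℕ) : ZMod r)) := by
  classical
  have hr : r.Prime := Fact.out
  have hrodd : Odd r := hr.odd_of_ne_two hr2
  obtain ⟨i, hi⟩ : ∃ i, i = orderOf ((Fintype.card F : ℕ) : ZMod r) := ⟨_, rfl⟩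
  rw [← hi] at hcd hty ⊢
  have hipos : 0 < i := by rw [hi]; exact orderOf_q_pos hrp
  obtain ⟨c, hc⟩ : ∃ c, c = cOf i := ⟨_, rfl⟩
  rw [← hc] at hcd hty ⊢
  have hcpos : 0 < c := by rw [hc]; exact cOf_pos hipos
  obtain ⟨h₀, hh₀⟩ : ∃ h₀, c = 2 * h₀ := by
    obtain ⟨h₀, hh₀⟩ := cOf_even i
    exact ⟨h₀, by rw [hc]; omega⟩
  have hh₀pos : 1 ≤ h₀ := by omega
  obtain ⟨a', ha'⟩ : ∃ a', a' = 2 * d / c := ⟨_, rfl⟩
  have ha1 : 1 ≤ a' := by
    rw [ha']
    exact Nat.div_pos hcd hcpos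
  have hdm := Nat.div_add_mod (2 * d) c
  rw [← ha'] at hdm
  obtain ⟨k', hk'⟩ : ∃ k', (2 * d) % c = 2 * k' := by
    refine ⟨d - h₀ * a', ?_⟩
    have : c * a' = 2 * (h₀ * a') := by rw [hh₀]; ring
    omega
  -- the block
  obtain ⟨B₀, T₀, hB₀s, hB₀nd, hinv₀, hT₀r, hfix₀⟩ := exists_orth_block (F := F) hr2 hrp
    (h := h₀) (by rw [← hi, ← hc, hh₀])
  haveI : Nontrivial (Fin h₀ ⊕ Fin h₀ → F) := by
    haveI : Nonempty (Fin h₀ ⊕ Fin h₀) := ⟨Sum.inl ⟨0, by omega⟩⟩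
    infer_instance
  obtain ⟨S, hS⟩ : ∃ S : Fin a' → Module.End F (Fin h₀ ⊕ Fin h₀ → F), ∀ l, S l = T₀ := ⟨fun _ => T₀, fun _ => rfl⟩
  have hSiso : ∀ l, Inv B₀ (S l) := fun l => by rw [hS]; exact hinv₀
  have hSr : ∀ l, S l ^ r = 1 := fun l => by rw [hS]; exact hT₀r
  have hSfix : ∀ l, fixS (S l) = ⊥ := fun l => by rw [hS]; exact hfix₀
  -- the quadratic form of the blocks
  have hBMs := piB_symm (s := a') hB₀s
  obtain ⟨QM, hQM⟩ : ∃ QM : QuadraticForm F (Fin a' → (Fin h₀ ⊕ Fin h₀ → F)),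
      ∀ v, QM v = 2⁻¹ * piB (ι := Fin a') B₀ v v :=
    ⟨(2⁻¹ : F) • LinearMap.BilinMap.toQuadraticMap (piB (ι := Fin a') B₀), fun v => rfl⟩
  have hpolM : ∀ u v, QuadraticMap.polar QM u v = piB (ι := Fin a') B₀ u v := by
    intro u v
    unfold QuadraticMap.polar
    rw [hQM, hQM, hQM]
    simp only [map_add, LinearMap.add_apply]
    rw [hBMs.eq v u]
    field_simp
    ring
  have hQTM : ∀ v, QM (piMapF S v) = QM v := by
    intro v
    rw [hQM, hQM, piB_invF hSiso]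
  have hTMr : (piMapF S) ^ r = 1 := piMapF_pow_eq_one hSr
  have hfixM : fixS (piMapF S) = ⊥ := fixS_piMapF hSfix
  have hNDM : ND (QuadraticMap.polarBilin QM) ⊤ := by
    intro u _ hu
    by_contra hcon
    push Not at hcon
    apply hu
    apply piB_nondeg (ι := Fin a') hB₀nd u
    intro v
    rw [← hpolM]
    exact hcon v Submodule.mem_top
  have hMd : finrank F (Fin a' → (Fin h₀ ⊕ Fin h₀ → F)) = c * a' := by
    rw [Module.finrank_pi_fintype]
    simp only [Module.finrank_fintype_fun_eq_card, Fintype.card_sum, Fintype.card_fin, Finset.sum_const,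
      Finset.card_univ, smul_eq_mul]
    rw [hh₀]
    ring
  -- the type of the blocks
  have hMty : Hyp QM ⊤ ↔ (Odd i ∨ Even a') := by
    by_cases hev : Even i
    · have hci : c = i := by rw [hc]; unfold cOf; rw [if_pos hev]
      have hev' := hev
      rw [hi] at hev'
      have := hyp_iff_even_blocks h2F hr2 hrp hNDM hQTM hTMr hev' a' ⊤ (Module.End.invtSubmodule.top_mem _)
        hNDM (by rw [hfixM, inf_bot_eq]) (by rw [finrank_top, hMd, ← hi, ← hci])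
      rw [this]
      constructor
      · exact fun h => Or.inr h
      · rintro (h | h)
        · exact absurd hev (Nat.not_even_iff_odd.mpr h)
        · exact h
    · have hodd : Odd i := Nat.not_even_iff_odd.mp hev
      have hci : c = 2 * i := by rw [hc]; unfold cOf; rw [if_neg hev]
      have hodd' := hodd
      rw [hi] at hodd'
      obtain ⟨U, -, -, -, hUd, hUy⟩ := exists_hyp_blocks_odd h2F hr2 hrp hQTM hTMr hodd' a' ⊤
        (Module.End.invtSubmodule.top_mem _) hNDM (by rw [hfixM, inf_bot_eq])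
        (by rw [finrank_top, hMd, ← hi, ← hci])
      have hUtop : U = ⊤ := by
        apply Submodule.eq_top_of_finrank_eq
        rw [hUd, hMd, ← hi, ← hci]
      rw [hUtop] at hUy
      exact ⟨fun _ => Or.inl hodd, fun _ => hUy⟩
  -- the fixed part
  have hV' := plus_nd_top (F := F) (k' + 1)
  have hV'd : finrank F ↥(⊤ : Submodule F (Fin (k' + 1) ⊕ Fin (k' + 1) → F)) = 2 * (k' + 1) := by
    rw [finrank_top, finrank_plus]
  obtain ⟨W₁, hW₁nd, hW₁d, hW₁ty⟩ : ∃ W₁ : Submodule F (Fin (k' + 1) ⊕ Fin (k' + 1) → F),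
      ND (QuadraticMap.polarBilin (plusForm F (k' + 1))) W₁ ∧ finrank F ↥W₁ = 2 * k' ∧
      (Hyp (plusForm F (k' + 1)) W₁ ↔ ¬ Hyp QM ⊤) := by
    by_cases hyM : Hyp QM ⊤
    · have hk'pos : 1 ≤ k' := by
        rcases hty with ⟨-, h⟩ | ⟨hev, h | h⟩
        · omega
        · omega
        · have hci : c = i := by rw [hc]; unfold cOf; rw [if_pos hev]
          rw [← hci, ← ha'] at h
          rcases hMty.mp hyM with h' | h'
          · exact absurd hev (Nat.not_even_iff_odd.mpr h')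
          · exact absurd h' (Nat.not_even_iff_odd.mpr h)
      obtain ⟨W₁, -, h2', h3, h4⟩ := exists_not_hyp_sub_odd h2F hV' hV' (h := k' - 1)
        (by rw [hV'd]; omega)
      exact ⟨W₁, h2', by rw [h3]; omega, ⟨fun h => absurd h h4, fun h => absurd hyM h⟩⟩
    · obtain ⟨W₁, -, h2', h3, h4⟩ := exists_hyp_sub hV' hV' (h := k') (by rw [hV'd]; omega)
      exact ⟨W₁, h2', h3, ⟨fun _ => hyM, fun _ => h4⟩⟩
  -- the model
  obtain ⟨Q₁, hQ₁⟩ : ∃ Q₁ : QuadraticForm F ↥W₁, Q₁ = (plusForm F (k' + 1)).comp W₁.subtype := ⟨_, rfl⟩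
  have hND₁ : ND (QuadraticMap.polarBilin Q₁) ⊤ := by rw [hQ₁]; exact sub_nd_top hW₁nd
  have hty₁ : Hyp Q₁ ⊤ ↔ ¬ Hyp QM ⊤ := by rw [hQ₁, sub_hyp_top_iff]; exact hW₁ty
  obtain ⟨hNDE, -⟩ := prod_props QM Q₁ h2F hNDM hND₁
  have hnE : ¬ Hyp (QM.prod Q₁) ⊤ := by
    apply prod_not_hyp QM Q₁ h2F hNDM hND₁
    by_cases hyM : Hyp QM ⊤
    · exact Or.inl ⟨hyM, fun h => (hty₁.mp h) hyM⟩
    · exact Or.inr ⟨hyM, hty₁.mpr hyM⟩
  have hEd : finrank F ((Fin a' → (Fin h₀ ⊕ Fin h₀ → F)) × ↥W₁) = 2 * k + 2 := by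
    rw [Module.finrank_prod, hMd, hW₁d]
    omega
  have hφQ : ∀ x, (QM.prod Q₁) (modelMap (V₁ := ↥W₁) S x) = (QM.prod Q₁) x := by
    intro x
    rw [QuadraticMap.prod_apply, QuadraticMap.prod_apply, modelMap_apply]
    simp only
    rw [hQTM]
  have hφr := modelMap_pow_eq_one (V₁ := ↥W₁) hSr
  have hrpos : 0 < r := hr.pos
  have hφinv1 : modelMap (V₁ := ↥W₁) S * (modelMap (V₁ := ↥W₁) S) ^ (r - 1) = 1 := by
    rw [← pow_succ', Nat.sub_add_cancel hrpos, hφr]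
  have hφinv2 : (modelMap (V₁ := ↥W₁) S) ^ (r - 1) * modelMap (V₁ := ↥W₁) S = 1 := by
    rw [← pow_succ, Nat.sub_add_cancel hrpos, hφr]
  obtain ⟨e, he⟩ := exists_minus_iso h2F hNDE hnE hEd hab
  obtain ⟨y, hy⟩ := exists_isom_of_equiv_gen (minusForm F k a b) e he _ _ hφinv1 hφinv2 hφQ
  -- the order
  have hTr : (Matrix.toLin' ((y : GL ((Fin k ⊕ Fin k) ⊕ Fin 2) F) :
      Matrix ((Fin k ⊕ Fin k) ⊕ Fin 2) ((Fin k ⊕ Fin k) ⊕ Fin 2) F)) ^ r = 1 := by
    apply LinearMap.ext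
    intro w
    obtain ⟨v, rfl⟩ := e.surjective w
    rw [intertwine_pow e hy, hφr]
    rfl
  have hyr : y ^ r = 1 := by
    apply Subtype.ext
    apply Units.ext
    apply Matrix.toLin'.injective
    rw [Subgroup.coe_pow, ← toLin'_pow_gl, hTr, Subgroup.coe_one, Units.val_one, Matrix.toLin'_one]
    rfl
  have hcard : 2 ≤ Fintype.card ((Fin k ⊕ Fin k) ⊕ Fin 2) := by
    rw [Fintype.card_sum, Fintype.card_fin]
    omega
  have hycomm := mem_commutator_of_pow_odd (minusForm F k a b) h2F (minusForm_nondeg F k hab) hcard hrodd hyr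
  refine ⟨(y : GL ((Fin k ⊕ Fin k) ⊕ Fin 2) F), ?_, ?_, ?_, ?_⟩
  · rw [← minusForm_coe]
    exact ⟨y, hycomm, rfl⟩
  · rw [← Subgroup.coe_pow, hyr]
    rfl
  · intro hx1
    apply modelMap_ne_one (V₁ := ↥W₁) ha1 hSfix
    apply LinearMap.ext
    intro v
    apply e.injective
    rw [← hy, hx1, Units.val_one, Matrix.toLin'_one, LinearMap.id_apply, Module.End.one_apply]
  · rw [fix_intertwine e hy, LinearEquiv.finrank_map_eq, hk', ← hW₁d]
    exact finrank_fix_model_le hSfix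

end Cfsg.Agent.Helper7.QMi
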