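import Mathlib
import Cfsg.Agent.Helper7.QMiE

set_option autoImplicit false
set_option linter.unusedSectionVars false
set_option linter.unusedVariables false

/-!
# `PΩ⁻_{2d}(q)`, `q` odd, on nondegenerate subspaces of odd dimension: translation, and odd `r ≠ p`
-/

namespace Cfsg.Agent.Helper7.QMi

open Matrix Module Cfsg.Agent.Helper7.POrd Cfsg.Agent.Helper7.SpOrd Cfsg.Agent.Helper7.SpTI
  Cfsg.Agent.Helper7.OrTS Cfsg.Agent.Helper8.QuadForm Cfsg.Agent.Helper7.QTy Cfsg.Agent.Helper7.QEll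
  Cfsg.Agent.Helper7.QPa Cfsg.Agent.Helper8.StdForms

variable {F : Type*} [Field F]

/-! ### translation -/

theorem nd_iff_minus (k : ℕ) (a b : F) (W : Submodule F ((Fin k ⊕ Fin k) ⊕ Fin 2 → F)) :
    Cfsg.Geo.IsNondegenerateOn (QuadraticMap.polar (Cfsg.quadFormMinus k F a b)) W ↔
      ND (QuadraticMap.polarBilin (minusForm F k a b)) W := by
  have hcoe : (⇑(minusForm F k a b) : ((Fin k ⊕ Fin k) ⊕ Fin 2 → F) → F) = Cfsg.quadFormMinus k F a b := by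
    funext v
    exact minusForm_apply F k a b v
  constructor
  · intro h w hw hw0
    obtain ⟨x, hx, hxw⟩ := (h w hw hw0).2
    refine ⟨x, hx, ?_⟩
    rw [pB_apply, hcoe]
    exact hxw
  · intro h w hw hw0
    obtain ⟨x, hx, hxw⟩ := h w hw hw0
    rw [pB_apply, hcoe] at hxw
    refine ⟨⟨x, hx, ?_⟩, ⟨x, hx, hxw⟩⟩
    rw [QuadraticMap.polar_comm]
    exact hxw

theorem iso_iff_minus (k : ℕ) (a b : F) (W W' : Submodule F ((Fin k ⊕ Fin k) ⊕ Fin 2 → F)) :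
    Cfsg.Geo.AreIsometricFor (Cfsg.quadFormMinus k F a b) W W' ↔ QIso (minusForm F k a b) W W' := by
  constructor
  · rintro ⟨e, he⟩
    exact ⟨e, fun w => by rw [minusForm_apply, minusForm_apply]; exact he w⟩
  · rintro ⟨e, he⟩
    exact ⟨e, fun w => by rw [← minusForm_apply, ← minusForm_apply]; exact he w⟩

section trans

variable [Fintype F] {a b : F}

/-- the statement's predicate on subspaces in terms of the odd type. -/
theorem par_pred_iff_minus (h2 : (2 : F) ≠ 0) {k h : ℕ}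
    (hab : ∀ x y : F, x ^ 2 + a * x * y + b * y ^ 2 = 0 → x = 0 ∧ y = 0) (hhd : 2 * h + 3 ≤ 2 * k + 2)
    {W₀ : Submodule F ((Fin k ⊕ Fin k) ⊕ Fin 2 → F)} {c₀ : F} (hot₀ : OT (minusForm F k a b) W₀ c₀)
    (hc₀ : c₀ ≠ 0) (hd₀ : finrank F ↥W₀ = 2 * h + 1) (W : Submodule F ((Fin k ⊕ Fin k) ⊕ Fin 2 → F)) :
    (finrank F ↥W = 2 * h + 1 ∧
        Cfsg.Geo.IsNondegenerateOn (QuadraticMap.polar (Cfsg.quadFormMinus k F a b)) W ∧
        Cfsg.Geo.AreIsometricFor (Cfsg.quadFormMinus k F a b) W W₀) ↔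
      (finrank F ↥W = 2 * h + 1 ∧ ND (QuadraticMap.polarBilin (minusForm F k a b)) W ∧
        OT (minusForm F k a b) W c₀) := by
  have hroom : 2 * h + 3 ≤ finrank F ((Fin k ⊕ Fin k) ⊕ Fin 2 → F) := by
    rw [finrank_minus]
    exact hhd
  constructor
  · rintro ⟨h1, h2', h3⟩
    rw [nd_iff_minus] at h2'
    rw [iso_iff_minus] at h3
    exact ⟨h1, h2', (iso_iff_ot h2 (minus_nd_top k hab) hot₀ hc₀ hd₀ hroom h2' h1).mp h3⟩
  · rintro ⟨h1, h2', h3⟩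
    refine ⟨h1, (nd_iff_minus k a b W).mpr h2', (iso_iff_minus k a b W W₀).mpr ?_⟩
    exact (iso_iff_ot h2 (minus_nd_top k hab) hot₀ hc₀ hd₀ hroom h2' h1).mpr h3

theorem card_par_eq_minus (h2 : (2 : F) ≠ 0) {k h : ℕ}
    (hab : ∀ x y : F, x ^ 2 + a * x * y + b * y ^ 2 = 0 → x = 0 ∧ y = 0) (hhd : 2 * h + 3 ≤ 2 * k + 2)
    {W₀ : Submodule F ((Fin k ⊕ Fin k) ⊕ Fin 2 → F)} {c₀ : F} (hot₀ : OT (minusForm F k a b) W₀ c₀)
    (hc₀ : c₀ ≠ 0) (hd₀ : finrank F ↥W₀ = 2 * h + 1) :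
    Nat.card {W : Submodule F ((Fin k ⊕ Fin k) ⊕ Fin 2 → F) // finrank F ↥W = 2 * h + 1 ∧
      Cfsg.Geo.IsNondegenerateOn (QuadraticMap.polar (Cfsg.quadFormMinus k F a b)) W ∧
      Cfsg.Geo.AreIsometricFor (Cfsg.quadFormMinus k F a b) W W₀} =
    Nat.card (ParSub (minusForm F k a b) h c₀) := by
  apply Nat.card_congr
  apply Equiv.subtypeEquivRight
  intro W
  exact par_pred_iff_minus h2 hab hhd hot₀ hc₀ hd₀ W

/-- the statement's conclusion for one element. -/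
theorem concl_iff_minus (h2 : (2 : F) ≠ 0) {k h : ℕ}
    (hab : ∀ x y : F, x ^ 2 + a * x * y + b * y ^ 2 = 0 → x = 0 ∧ y = 0) (hhd : 2 * h + 3 ≤ 2 * k + 2)
    {W₀ : Submodule F ((Fin k ⊕ Fin k) ⊕ Fin 2 → F)} {c₀ : F} (hot₀ : OT (minusForm F k a b) W₀ c₀)
    (hc₀ : c₀ ≠ 0) (hd₀ : finrank F ↥W₀ = 2 * h + 1) (x : GL ((Fin k ⊕ Fin k) ⊕ Fin 2) F) :
    (∃ W : Submodule F ((Fin k ⊕ Fin k) ⊕ Fin 2 → F), (finrank F ↥W = 2 * h + 1 ∧
        Cfsg.Geo.IsNondegenerateOn (QuadraticMap.polar (Cfsg.quadFormMinus k F a b)) W ∧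
        Cfsg.Geo.AreIsometricFor (Cfsg.quadFormMinus k F a b) W W₀) ∧
        W.map (Matrix.toLin' (x : Matrix ((Fin k ⊕ Fin k) ⊕ Fin 2) ((Fin k ⊕ Fin k) ⊕ Fin 2) F)) ≤ W) ↔
    (∃ W : Submodule F ((Fin k ⊕ Fin k) ⊕ Fin 2 → F),
        W ∈ Module.End.invtSubmodule
          (Matrix.toLin' (x : Matrix ((Fin k ⊕ Fin k) ⊕ Fin 2) ((Fin k ⊕ Fin k) ⊕ Fin 2) F)) ∧
        ND (QuadraticMap.polarBilin (minusForm F k a b)) W ∧ finrank F ↥W = 2 * h + 1 ∧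
        OT (minusForm F k a b) W c₀) := by
  constructor
  · rintro ⟨W, hW, hinv⟩
    obtain ⟨h1, h2', h3⟩ := (par_pred_iff_minus h2 hab hhd hot₀ hc₀ hd₀ W).mp hW
    exact ⟨W, (invt_iff_map_le _ W).mp hinv, h2', h1, h3⟩
  · rintro ⟨W, hinv, h2', h1, h3⟩
    exact ⟨W, (par_pred_iff_minus h2 hab hhd hot₀ hc₀ hd₀ W).mpr ⟨h1, h2', h3⟩, (invt_iff_map_le _ W).mpr hinv⟩

/-- a scalar power of an isometry is `±1`. -/
theorem scalar_sq_of_pow_minus {k : ℕ}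
    (hab : ∀ x y : F, x ^ 2 + a * x * y + b * y ^ 2 = 0 → x = 0 ∧ y = 0)
    {x : GL ((Fin k ⊕ Fin k) ⊕ Fin 2) F}
    (hx : x ∈ Cfsg.isometryGroup F (Cfsg.quadFormMinus k F a b)) {n : ℕ} {z : F}
    (hz : ((x ^ n : GL ((Fin k ⊕ Fin k) ⊕ Fin 2) F) :
      Matrix ((Fin k ⊕ Fin k) ⊕ Fin 2) ((Fin k ⊕ Fin k) ⊕ Fin 2) F) =
      z • (1 : Matrix ((Fin k ⊕ Fin k) ⊕ Fin 2) ((Fin k ⊕ Fin k) ⊕ Fin 2) F)) : z = 1 ∨ z = -1 := by
  have hVnd := minus_nd_top (F := F) k hab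
  have hdim : 2 ≤ finrank F ↥(⊤ : Submodule F ((Fin k ⊕ Fin k) ⊕ Fin 2 → F)) := by
    rw [finrank_top, finrank_minus]
    omega
  obtain ⟨v, -, hv⟩ := exists_repr_in hVnd hdim (1 : F)
  have h1 := minus_QT (pow_mem hx n) v
  rw [hz, Matrix.toLin'_apply, Matrix.smul_mulVec, Matrix.one_mulVec, QuadraticMap.map_smul, hv, smul_eq_mul,
    mul_one] at h1
  have : (z - 1) * (z + 1) = 0 := by linear_combination h1
  rcases mul_eq_zero.mp this with h | h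
  · exact Or.inl (by linear_combination h)
  · exact Or.inr (by linear_combination h)

end trans

/-! ### odd `r ≠ p` -/

section OddCase

variable [Fintype F] {p : ℕ} [Fact p.Prime] [CharP F p] {r : ℕ} [Fact r.Prime] {a b : F}

/-- **necessity**, `r` odd. -/
theorem cond_of_forall_par_minus (h2F : (2 : F) ≠ 0) (hr2 : r ≠ 2) (hrp : r ≠ p) {d k h : ℕ}
    (hdk : d = k + 1) (hhd : 2 * h + 1 < d)
    (hab : ∀ x y : F, x ^ 2 + a * x * y + b * y ^ 2 = 0 → x = 0 ∧ y = 0)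
    {c₀ : F} (hc₀ : c₀ ≠ 0) (hdvd : r ∣ Nat.card (ParSub (minusForm F k a b) h c₀))
    (hall : ∀ x : GL ((Fin k ⊕ Fin k) ⊕ Fin 2) F, x ∈ Cfsg.Geo.omegaGL (Cfsg.quadFormMinus k F a b) →
      x ^ r = 1 → x ≠ 1 →
      ∃ W : Submodule F ((Fin k ⊕ Fin k) ⊕ Fin 2 → F),
        W ∈ Module.End.invtSubmodule
          (Matrix.toLin' (x : Matrix ((Fin k ⊕ Fin k) ⊕ Fin 2) ((Fin k ⊕ Fin k) ⊕ Fin 2) F)) ∧
        ND (QuadraticMap.polarBilin (minusForm F k a b)) W ∧ finrank F ↥W = 2 * h + 1) :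
    ((2 * d) % cOf (orderOf ((Fintype.card F : ℕ) : ZMod r)) = 0 ∧
        (Odd (orderOf ((Fintype.card F : ℕ) : ZMod r)) ∨
          Even ((2 * d) / orderOf ((Fintype.card F : ℕ) : ZMod r)))) ∨
      (cOf (orderOf ((Fintype.card F : ℕ) : ZMod r)) ≤ 2 * h + 1 ∧
        (2 * h + 1) % cOf (orderOf ((Fintype.card F : ℕ) : ZMod r)) <
          (2 * d) % cOf (orderOf ((Fintype.card F : ℕ) : ZMod r))) := by
  have hr : r.Prime := Fact.out
  have hipos : 0 < orderOf ((Fintype.card F : ℕ) : ZMod r) := orderOf_q_pos hrp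
  have hcpos := cOf_pos hipos
  have hqpos : 0 < Fintype.card F := Fintype.card_pos
  have hdim : finrank F ((Fin k ⊕ Fin k) ⊕ Fin 2 → F) = 2 * d := by
    rw [finrank_minus, hdk]
    ring
  have hdiv := exists_dvd_of_dvd_card_parSub_minus h2F (minus_nd_top (F := F) k hab) hdim
    (minus_not_hyp k hab) (by omega : h + 2 ≤ d) hc₀ hr hrp hdvd
  obtain ⟨c, hc⟩ : ∃ c, c = cOf (orderOf ((Fintype.card F : ℕ) : ZMod r)) := ⟨_, rfl⟩
  rw [← hc] at hcpos ⊢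
  obtain ⟨h₀, hh₀⟩ : ∃ h₀, c = 2 * h₀ := by
    obtain ⟨h₀, hh₀⟩ := cOf_even (orderOf ((Fintype.card F : ℕ) : ZMod r))
    exact ⟨h₀, by rw [hc]; omega⟩
  -- consequences of the divisibility
  have hD : c ≤ 2 * d ∧ (2 * d) % c ≤ 2 * h := by
    rcases hdiv with h1 | ⟨j, hj1, hj2, h1⟩
    · have h1' := dvd_pow_two_mul_sub_one hqpos (Or.inr h1)
      have hid : orderOf ((Fintype.card F : ℕ) : ZMod r) ∣ 2 * d := orderOf_dvd_of_dvd_pow_sub_one h1'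
      have hcd : c ∣ 2 * d := by
        rw [hc]
        exact cOf_dvd_of_dvd hid
      refine ⟨Nat.le_of_dvd (by omega) hcd, ?_⟩
      rw [Nat.mod_eq_zero_of_dvd hcd]
      omega
    · have hij : orderOf ((Fintype.card F : ℕ) : ZMod r) ∣ 2 * j := orderOf_dvd_of_dvd_pow_sub_one h1
      have hcj : c ∣ 2 * j := by
        rw [hc]
        exact cOf_dvd_of_dvd hij
      have hcle : c ≤ 2 * j := Nat.le_of_dvd (by omega) hcj
      refine ⟨by omega, ?_⟩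
      obtain ⟨s, hs⟩ := hcj
      have : 2 * d = c * s + 2 * (d - j) := by omega
      rw [this, Nat.mul_add_mod]
      exact (Nat.mod_le _ _).trans (by omega)
  obtain ⟨hcd, hkm⟩ := hD
  -- parities
  have hmodd : ∃ z, (2 * h + 1) % c = 2 * z + 1 := by
    have hdm := Nat.div_add_mod (2 * h + 1) c
    rw [hh₀] at hdm ⊢
    have hmul : 2 * h₀ * ((2 * h + 1) / (2 * h₀)) = 2 * (h₀ * ((2 * h + 1) / (2 * h₀))) := by ring
    rw [hmul] at hdm
    exact ⟨((2 * h + 1) % (2 * h₀)) / 2, by omega⟩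
  have hkev : ∃ z, (2 * d) % c = 2 * z := by
    have hdm := Nat.div_add_mod (2 * d) c
    rw [hh₀] at hdm ⊢
    have hmul : 2 * h₀ * ((2 * d) / (2 * h₀)) = 2 * (h₀ * ((2 * d) / (2 * h₀))) := by ring
    rw [hmul] at hdm
    exact ⟨((2 * d) % (2 * h₀)) / 2, by omega⟩
  by_cases hty : (Odd (orderOf ((Fintype.card F : ℕ) : ZMod r)) ∧ 0 < (2 * d) % c) ∨
      (Even (orderOf ((Fintype.card F : ℕ) : ZMod r)) ∧
        (0 < (2 * d) % c ∨ Odd ((2 * d) / orderOf ((Fintype.card F : ℕ) : ZMod r))))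
  · right
    obtain ⟨x, hxΩ, hxr, hx1, hxfix⟩ := exists_elt_small_fix_minus h2F hr2 hrp hdk hab
      (by rw [← hc]; exact hcd) (by rw [← hc]; exact hty)
    rw [← hc] at hxfix
    obtain ⟨W, hWinv, hWnd, hWd⟩ := hall x hxΩ hxr hx1
    have hxiso : x ∈ Cfsg.isometryGroup F (Cfsg.quadFormMinus k F a b) := by
      obtain ⟨y, -, rfl⟩ := hxΩ
      exact y.2
    have hklt : (2 * d) % c < c := Nat.mod_lt _ hcpos
    have hmod := mod_le_of_nd_invt h2F hr2 hrp (minus_QT hxiso) (toLin'_pow_eq_one hxr) hWinv hWnd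
      (by rw [← hc]; omega)
    rw [hWd, ← hc] at hmod
    obtain ⟨z, hz⟩ := hmodd
    obtain ⟨z', hz'⟩ := hkev
    have hlt : (2 * h + 1) % c < (2 * d) % c := by omega
    refine ⟨?_, hlt⟩
    by_contra hcon
    rw [not_le] at hcon
    rw [Nat.mod_eq_of_lt hcon] at hlt
    omega
  · left
    push Not at hty
    obtain ⟨h1, h3⟩ := hty
    rcases Nat.even_or_odd (orderOf ((Fintype.card F : ℕ) : ZMod r)) with hev | hodd
    · obtain ⟨h4, h5⟩ := h3 hev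
      exact ⟨by omega, Or.inr (Nat.not_odd_iff_even.mp h5)⟩
    · have := h1 hodd
      exact ⟨by omega, Or.inl hodd⟩

/-- **the case of odd `r ≠ p`.** -/
theorem odd_case_iff_minus (h2F : (2 : F) ≠ 0) (hr2 : r ≠ 2) (hrp : r ≠ p) {d k h : ℕ} (hdk : d = k + 1)
    (hhd : 2 * h + 1 < d) (hab : ∀ x y : F, x ^ 2 + a * x * y + b * y ^ 2 = 0 → x = 0 ∧ y = 0)
    {c₀ : F} (hc₀ : c₀ ≠ 0) (hdvd : r ∣ Nat.card (ParSub (minusForm F k a b) h c₀)) :
    (∀ x : GL ((Fin k ⊕ Fin k) ⊕ Fin 2) F, x ∈ Cfsg.Geo.omegaGL (Cfsg.quadFormMinus k F a b) →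
      (∃ z : F, ((x ^ r : GL ((Fin k ⊕ Fin k) ⊕ Fin 2) F) :
        Matrix ((Fin k ⊕ Fin k) ⊕ Fin 2) ((Fin k ⊕ Fin k) ⊕ Fin 2) F) =
        z • (1 : Matrix ((Fin k ⊕ Fin k) ⊕ Fin 2) ((Fin k ⊕ Fin k) ⊕ Fin 2) F)) →
      (∀ z : F, (x : Matrix ((Fin k ⊕ Fin k) ⊕ Fin 2) ((Fin k ⊕ Fin k) ⊕ Fin 2) F) ≠
        z • (1 : Matrix ((Fin k ⊕ Fin k) ⊕ Fin 2) ((Fin k ⊕ Fin k) ⊕ Fin 2) F)) →
      ∃ W : Submodule F ((Fin k ⊕ Fin k) ⊕ Fin 2 → F),
        W ∈ Module.End.invtSubmodule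
          (Matrix.toLin' (x : Matrix ((Fin k ⊕ Fin k) ⊕ Fin 2) ((Fin k ⊕ Fin k) ⊕ Fin 2) F)) ∧
        ND (QuadraticMap.polarBilin (minusForm F k a b)) W ∧ finrank F ↥W = 2 * h + 1 ∧
        OT (minusForm F k a b) W c₀) ↔
    (((2 * d) % cOf (orderOf ((Fintype.card F : ℕ) : ZMod r)) = 0 ∧
        (Odd (orderOf ((Fintype.card F : ℕ) : ZMod r)) ∨
          Even ((2 * d) / orderOf ((Fintype.card F : ℕ) : ZMod r)))) ∨
      (cOf (orderOf ((Fintype.card F : ℕ) : ZMod r)) ≤ 2 * h + 1 ∧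
        (2 * h + 1) % cOf (orderOf ((Fintype.card F : ℕ) : ZMod r)) <
          (2 * d) % cOf (orderOf ((Fintype.card F : ℕ) : ZMod r)))) := by
  classical
  have hr : r.Prime := Fact.out
  have hrodd : Odd r := hr.odd_of_ne_two hr2
  have hdim : finrank F ((Fin k ⊕ Fin k) ⊕ Fin 2 → F) = 2 * d := by
    rw [finrank_minus, hdk]
    ring
  constructor
  · intro hall
    apply cond_of_forall_par_minus h2F hr2 hrp hdk hhd hab hc₀ hdvd
    intro x hxΩ hxr hx1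
    have hxiso : x ∈ Cfsg.isometryGroup F (Cfsg.quadFormMinus k F a b) := by
      obtain ⟨y, -, rfl⟩ := hxΩ
      exact y.2
    have hns : ∀ z : F, (x : Matrix ((Fin k ⊕ Fin k) ⊕ Fin 2) ((Fin k ⊕ Fin k) ⊕ Fin 2) F) ≠
        z • (1 : Matrix ((Fin k ⊕ Fin k) ⊕ Fin 2) ((Fin k ⊕ Fin k) ⊕ Fin 2) F) := by
      intro z hz
      have hz1 : ((x ^ 1 : GL ((Fin k ⊕ Fin k) ⊕ Fin 2) F) :
          Matrix ((Fin k ⊕ Fin k) ⊕ Fin 2) ((Fin k ⊕ Fin k) ⊕ Fin 2) F) =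
          z • (1 : Matrix ((Fin k ⊕ Fin k) ⊕ Fin 2) ((Fin k ⊕ Fin k) ⊕ Fin 2) F) := by rw [pow_one]; exact hz
      have hzr : z ^ r = 1 := by
        have h1 : ((x ^ r : GL ((Fin k ⊕ Fin k) ⊕ Fin 2) F) :
            Matrix ((Fin k ⊕ Fin k) ⊕ Fin 2) ((Fin k ⊕ Fin k) ⊕ Fin 2) F) = 1 := by
          rw [hxr]; rfl
        rw [Units.val_pow_eq_pow_val, hz, smul_pow, one_pow] at h1
        have h2 := congrFun (congrFun h1 (Sum.inr 0)) (Sum.inr 0)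
        rw [Matrix.smul_apply, Matrix.one_apply_eq, smul_eq_mul, mul_one] at h2
        exact h2
      have hz1' : z = 1 := by
        rcases scalar_sq_of_pow_minus hab hxiso hz1 with h | h
        · exact h
        · rw [h, hrodd.neg_one_pow] at hzr
          exfalso
          have : (2 : F) = 0 := by linear_combination -hzr
          exact h2F this
      apply hx1
      apply Units.ext
      rw [hz, hz1', one_smul]
      rfl
    obtain ⟨W, h1, h2', h3, -⟩ := hall x hxΩ ⟨1, by rw [hxr, one_smul]; rfl⟩ hns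
    exact ⟨W, h1, h2', h3⟩
  · intro hcond x hxΩ ⟨z, hz⟩ hxns
    have hxiso : x ∈ Cfsg.isometryGroup F (Cfsg.quadFormMinus k F a b) := by
      obtain ⟨y, -, rfl⟩ := hxΩ
      exact y.2
    have hcond' : (2 * h + 1) % cOf (orderOf ((Fintype.card F : ℕ) : ZMod r)) <
        (2 * d) % cOf (orderOf ((Fintype.card F : ℕ) : ZMod r)) ∨
      ((2 * d) % cOf (orderOf ((Fintype.card F : ℕ) : ZMod r)) = 0 ∧
        (Odd (orderOf ((Fintype.card F : ℕ) : ZMod r)) ∨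
          Even ((2 * d) / orderOf ((Fintype.card F : ℕ) : ZMod r)))) := by
      rcases hcond with h1 | ⟨-, h2'⟩
      · exact Or.inr h1
      · exact Or.inl h2'
    have hVnd := minus_nd_top (F := F) k hab
    have hnot := minus_not_hyp (F := F) k hab
    have hQT₀ := minus_QT hxiso
    have hT₀ : (Matrix.toLin' (x : Matrix ((Fin k ⊕ Fin k) ⊕ Fin 2) ((Fin k ⊕ Fin k) ⊕ Fin 2) F) :
        Module.End F ((Fin k ⊕ Fin k) ⊕ Fin 2 → F)) ^ r =
        Matrix.toLin' (z • (1 : Matrix ((Fin k ⊕ Fin k) ⊕ Fin 2) ((Fin k ⊕ Fin k) ⊕ Fin 2) F)) := by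
      rw [toLin'_pow_gl, hz]
    rcases scalar_sq_of_pow_minus hab hxiso hz with rfl | rfl
    · have hT : (Matrix.toLin' (x : Matrix ((Fin k ⊕ Fin k) ⊕ Fin 2) ((Fin k ⊕ Fin k) ⊕ Fin 2) F) :
          Module.End F ((Fin k ⊕ Fin k) ⊕ Fin 2 → F)) ^ r = 1 := by
        rw [hT₀, one_smul, Matrix.toLin'_one]
        rfl
      exact exists_ot_invt_odd_minus h2F hr2 hrp hVnd hQT₀ hT hdim hnot (by omega) hc₀ hcond'
    · have hT : (-(Matrix.toLin' (x : Matrix ((Fin k ⊕ Fin k) ⊕ Fin 2) ((Fin k ⊕ Fin k) ⊕ Fin 2) F) :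
          Module.End F ((Fin k ⊕ Fin k) ⊕ Fin 2 → F))) ^ r = 1 := by
        rw [← neg_one_smul F (Matrix.toLin' (x : Matrix ((Fin k ⊕ Fin k) ⊕ Fin 2) ((Fin k ⊕ Fin k) ⊕ Fin 2) F) :
          Module.End F ((Fin k ⊕ Fin k) ⊕ Fin 2 → F)), smul_pow, hrodd.neg_one_pow, hT₀]
        apply LinearMap.ext
        intro v
        rw [LinearMap.smul_apply, Matrix.toLin'_apply, Matrix.smul_mulVec, Matrix.one_mulVec,
          neg_one_smul, neg_one_smul, neg_neg, Module.End.one_apply]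
      have hQT : ∀ v, minusForm F k a b
          ((-(Matrix.toLin' (x : Matrix ((Fin k ⊕ Fin k) ⊕ Fin 2) ((Fin k ⊕ Fin k) ⊕ Fin 2) F) :
          Module.End F ((Fin k ⊕ Fin k) ⊕ Fin 2 → F))) v) = minusForm F k a b v := by
        intro v
        rw [LinearMap.neg_apply, QuadraticMap.map_neg, hQT₀]
      obtain ⟨W, hWinv, hWnd, hWd, hWot⟩ := exists_ot_invt_odd_minus h2F hr2 hrp hVnd hQT hT hdim hnot
        (by omega) hc₀ hcond'
      refine ⟨W, ?_, hWnd, hWd, hWot⟩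
      rw [Module.End.mem_invtSubmodule] at hWinv ⊢
      intro w hw
      have := hWinv hw
      rw [Submodule.mem_comap, LinearMap.neg_apply] at this
      rw [Submodule.mem_comap]
      exact (Submodule.neg_mem_iff _).mp this

end OddCase

end Cfsg.Agent.Helper7.QMi
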