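import Mathlib
import Cfsg.Agent.Helper7.QMiF

set_option autoImplicit false
set_option linter.unusedSectionVars false
set_option linter.unusedVariables false

/-!
# Elements of square `-1` of orthogonal groups in general, and the case `r = 2` for `Ω⁻_{2d}(q)`
-/

namespace Cfsg.Agent.Helper7.QMi

open Matrix Module Cfsg.Agent.Helper7.POrd Cfsg.Agent.Helper7.SpOrd Cfsg.Agent.Helper7.SpTI
  Cfsg.Agent.Helper7.OrTS Cfsg.Agent.Helper8.QuadForm Cfsg.Agent.Helper7.QTy Cfsg.Agent.Helper7.QEll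
  Cfsg.Agent.Helper7.QPa Cfsg.Agent.Helper8.Reflections Cfsg.Agent.Helper8.StdForms
  Cfsg.Agent.Helper8.OrthOrder Cfsg.Agent.Helper8.ReflMatrix

universe u

variable {F : Type*} [Field F]

/-! ### a square root of `-1` forces plus type -/

section root

variable {V : Type u} [AddCommGroup V] [Module F V]

/-- an isometry of square `-1` of a space over a field containing a square root of `-1`: the space is of
plus type. -/
theorem hyp_of_sq_neg_one_of_root [FiniteDimensional F V] (h2 : (2 : F) ≠ 0) {Q : QuadraticForm F V}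
    (hV : ND (QuadraticMap.polarBilin Q) ⊤) {T : Module.End F V} (hQT : ∀ v, Q (T v) = Q v)
    (hTT : ∀ v, T (T v) = -v) {ι₀ : F} (hι : ι₀ * ι₀ = -1) : Hyp Q ⊤ := by
  have hrefl := pB_refl Q
  obtain ⟨Ep, hEp⟩ : ∃ Ep : Submodule F V, ∀ v, v ∈ Ep ↔ T v = ι₀ • v := by
    refine ⟨LinearMap.ker (T - ι₀ • (1 : Module.End F V)), fun v => ?_⟩
    rw [LinearMap.mem_ker, LinearMap.sub_apply, LinearMap.smul_apply, Module.End.one_apply, sub_eq_zero]
  obtain ⟨Em, hEm⟩ : ∃ Em : Submodule F V, ∀ v, v ∈ Em ↔ T v = (-ι₀) • v := by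
    refine ⟨LinearMap.ker (T - (-ι₀) • (1 : Module.End F V)), fun v => ?_⟩
    rw [LinearMap.mem_ker, LinearMap.sub_apply, LinearMap.smul_apply, Module.End.one_apply, sub_eq_zero]
  have hts : ∀ (s : F), s * s = -1 → ∀ v, T v = s • v → Q v = 0 := by
    intro s hs v hv
    have h1 := hQT v
    rw [hv, QuadraticMap.map_smul, hs, smul_eq_mul] at h1
    have : (2 : F) * Q v = 0 := by linear_combination -h1
    exact (mul_eq_zero.mp this).resolve_left h2
  have hEpts : TS Q Ep := fun v hv => hts ι₀ hι v ((hEp v).mp hv)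
  have hEmts : TS Q Em := fun v hv => hts (-ι₀) (by rw [neg_mul_neg, hι]) v ((hEm v).mp hv)
  have hsup : Ep ⊔ Em = ⊤ := by
    rw [eq_top_iff]
    intro v _
    have h4 : (2 : F)⁻¹ * 2 = 1 := inv_mul_cancel₀ h2
    have hdec : v = (2 : F)⁻¹ • (v - ι₀ • T v) + (2 : F)⁻¹ • (v + ι₀ • T v) := by
      rw [← smul_add]
      have : v - ι₀ • T v + (v + ι₀ • T v) = (2 : F) • v := by rw [two_smul]; abel
      rw [this, smul_smul, h4, one_smul]
    rw [hdec]
    apply Submodule.add_mem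
    · apply Submodule.mem_sup_left
      apply Submodule.smul_mem
      rw [hEp, map_sub, map_smul, hTT, smul_sub, smul_smul, hι]
      module
    · apply Submodule.mem_sup_right
      apply Submodule.smul_mem
      rw [hEm, map_add, map_smul, hTT, smul_add, smul_smul, neg_mul, hι]
      module
  have h1 := finrank_ti_le_of_nd hrefl hV hV (le_top : Ep ≤ ⊤) (ts_ti hEpts)
  have h3 := finrank_ti_le_of_nd hrefl hV hV (le_top : Em ≤ ⊤) (ts_ti hEmts)
  have h4 := Submodule.finrank_sup_add_finrank_inf_eq Ep Em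
  rw [hsup] at h4
  exact ⟨Ep, le_top, hEpts, by omega⟩

end root

/-! ### elements of square `-1` in matrix groups -/

section Std

variable [Fintype F] {ι : Type} [Fintype ι] [DecidableEq ι]

theorem gen_QT' (Q : QuadraticForm F (ι → F)) (y : ↥(Cfsg.isometryGroup F ⇑Q)) (v : ι → F) :
    Q (Matrix.toLin' ((y : GL ι F) : Matrix ι ι F) v) = Q v := by
  have := (isomEquiv Q y).2 v
  rw [isomEquiv_apply] at this
  rw [Matrix.toLin'_apply]
  exact this

/-- an isometry of square `-1` of a space of dimension `2n` lies in `Ω` iff `2^n` is a square. -/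
theorem mem_commutator_iff_of_sq_neg_one_gen (h2 : (2 : F) ≠ 0) (Q : QuadraticForm F (ι → F))
    (hQ : (QuadraticMap.polarBilin Q).Nondegenerate) (hVnd : ND (QuadraticMap.polarBilin Q) ⊤) {n : ℕ}
    (hn : 1 ≤ n) (hdim : finrank F (ι → F) = 2 * n) (y : ↥(Cfsg.isometryGroup F ⇑Q))
    (hTT : ∀ v, Matrix.toLin' ((y : GL ι F) : Matrix ι ι F)
      (Matrix.toLin' ((y : GL ι F) : Matrix ι ι F) v) = -v) :
    y ∈ commutator ↥(Cfsg.isometryGroup F ⇑Q) ↔ IsSquare ((2 : F) ^ n) := by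
  classical
  have hdim' : finrank F ↥(⊤ : Submodule F (ι → F)) = 2 * n := by
    rw [finrank_top, hdim]
  obtain ⟨⟨l, hl, hlen, ⟨s, hs0, hprod⟩, hact⟩, -⟩ := sq_neg_one_props h2 hVnd (gen_QT' Q y) hTT n ⊤ hdim'
    (Module.End.invtSubmodule.top_mem _) hVnd
  have hy : y = (l.map (reflElt Q)).prod := by
    apply (isomEquiv Q).injective
    apply Subtype.ext
    apply LinearEquiv.ext
    intro v
    rw [Cfsg.Agent.Helper8.OmegaDiag.isomEquiv_prod_reflElt, isomEquiv_apply, hact v Submodule.mem_top,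
      Matrix.toLin'_apply]
  have hcard : 2 ≤ Fintype.card ι := by
    rw [Module.finrank_fintype_fun_eq_card] at hdim
    omega
  rw [hy, Cfsg.Agent.Helper8.OmegaCrit.prod_reflElt_mem_iff Q h2 hQ hcard l
    (fun z hz => (hl z hz).2), hlen, hprod, mul_comm ((2 : F) ^ n) (s * s),
    Cfsg.Agent.Helper8.OmegaCrit.isSquare_mul_iff (mul_ne_zero hs0 hs0) ⟨s, rfl⟩]
  exact ⟨fun h => h.2, fun h => ⟨⟨n, by ring⟩, h⟩⟩

/-- the type of a space with an isometry of square `-1` when `-1` is not a square. -/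
theorem hyp_iff_even_of_sq_neg_one_gen (h2 : (2 : F) ≠ 0) (Q : QuadraticForm F (ι → F))
    (hVnd : ND (QuadraticMap.polarBilin Q) ⊤) {n : ℕ} (hdim : finrank F (ι → F) = 2 * n)
    (y : ↥(Cfsg.isometryGroup F ⇑Q))
    (hTT : ∀ v, Matrix.toLin' ((y : GL ι F) : Matrix ι ι F)
      (Matrix.toLin' ((y : GL ι F) : Matrix ι ι F) v) = -v)
    (hns : ¬ IsSquare (-1 : F)) : Hyp Q ⊤ ↔ Even n := by
  have hdim' : finrank F ↥(⊤ : Submodule F (ι → F)) = 2 * n := by
    rw [finrank_top, hdim]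
  obtain ⟨-, hty⟩ := sq_neg_one_props h2 hVnd (gen_QT' Q y) hTT n ⊤ hdim'
    (Module.End.invtSubmodule.top_mem _) hVnd
  exact hty hns

/-- an element of `Ω` of square `-1` is a non-scalar element whose invariant nondegenerate subspaces have
even dimension. -/
theorem derangement_of_sq_neg_one_gen (h2 : (2 : F) ≠ 0) (Q : QuadraticForm F (ι → F))
    (hQ : (QuadraticMap.polarBilin Q).Nondegenerate) (hVnd : ND (QuadraticMap.polarBilin Q) ⊤) {n : ℕ}
    (hn : 1 ≤ n) (hdim : finrank F (ι → F) = 2 * n) (y : ↥(Cfsg.isometryGroup F ⇑Q))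
    (hTT : ∀ v, Matrix.toLin' ((y : GL ι F) : Matrix ι ι F)
      (Matrix.toLin' ((y : GL ι F) : Matrix ι ι F) v) = -v)
    (hsq : IsSquare ((2 : F) ^ n)) :
    ∃ x : GL ι F, x ∈ Cfsg.Geo.omegaGL ⇑Q ∧
      ((x ^ 2 : GL ι F) : Matrix ι ι F) = (-1 : F) • (1 : Matrix ι ι F) ∧
      (∀ z : F, (x : Matrix ι ι F) ≠ z • (1 : Matrix ι ι F)) ∧
      ∀ W : Submodule F (ι → F),
        W ∈ Module.End.invtSubmodule (Matrix.toLin' (x : Matrix ι ι F)) →
        ND (QuadraticMap.polarBilin Q) W → Even (finrank F ↥W) := by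
  classical
  have hcomm := (mem_commutator_iff_of_sq_neg_one_gen h2 Q hQ hVnd hn hdim y hTT).mpr hsq
  have hev : ∀ W : Submodule F (ι → F),
      W ∈ Module.End.invtSubmodule (Matrix.toLin' ((y : GL ι F) : Matrix ι ι F)) →
      ND (QuadraticMap.polarBilin Q) W → Even (finrank F ↥W) :=
    fun W hW hWnd => even_finrank_of_sq_neg_one h2 (gen_QT' Q y) hTT hW hWnd
  refine ⟨(y : GL ι F), ⟨y, hcomm, rfl⟩, ?_, ?_, hev⟩
  · apply Matrix.toLin'.injective
    apply LinearMap.ext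
    intro v
    rw [Units.val_pow_eq_pow_val, pow_two, Matrix.toLin'_mul, LinearMap.comp_apply, hTT,
      Matrix.toLin'_apply, Matrix.smul_mulVec, Matrix.one_mulVec, neg_one_smul]
  · intro z hz
    have hdim2 : 2 ≤ finrank F ↥(⊤ : Submodule F (ι → F)) := by
      rw [finrank_top, hdim]
      omega
    obtain ⟨v, -, hv⟩ := exists_repr_in hVnd hdim2 (1 : F)
    have hQv : Q v ≠ 0 := by rw [hv]; exact one_ne_zero
    have hv0 : v ≠ 0 := by
      rintro rfl
      exact hQv (QuadraticMap.map_zero _)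
    obtain ⟨hLnd, -, -⟩ := line_props h2 hVnd hQv
    have hinv : Submodule.span F {v} ∈ Module.End.invtSubmodule
        (Matrix.toLin' ((y : GL ι F) : Matrix ι ι F)) := by
      rw [Module.End.mem_invtSubmodule]
      intro w hw
      rw [Submodule.mem_comap, hz, Matrix.toLin'_apply, Matrix.smul_mulVec, Matrix.one_mulVec]
      exact Submodule.smul_mem _ _ hw
    have := hev _ hinv hLnd
    rw [finrank_span_singleton hv0] at this
    exact absurd this (by decide)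

end Std

/-! ### the standard minus type space -/

section minus

variable [Fintype F] {a b : F}

/-- construction of an isometry of square `-1` of the minus type space of dimension `2d`, `d` odd, when `-1` is
not a square. -/
theorem exists_sq_neg_one_minus (h2 : (2 : F) ≠ 0) (hns : ¬ IsSquare (-1 : F)) {d k : ℕ} (hdk : d = k + 1)
    (hd : Odd d) (hab : ∀ x y : F, x ^ 2 + a * x * y + b * y ^ 2 = 0 → x = 0 ∧ y = 0) :
    ∃ y : ↥(Cfsg.isometryGroup F ⇑(minusForm F k a b)),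
      ∀ v, Matrix.toLin' ((y : GL ((Fin k ⊕ Fin k) ⊕ Fin 2) F) :
          Matrix ((Fin k ⊕ Fin k) ⊕ Fin 2) ((Fin k ⊕ Fin k) ⊕ Fin 2) F)
        (Matrix.toLin' ((y : GL ((Fin k ⊕ Fin k) ⊕ Fin 2) F) :
          Matrix ((Fin k ⊕ Fin k) ⊕ Fin 2) ((Fin k ⊕ Fin k) ⊕ Fin 2) F) v) = -v := by
  classical
  obtain ⟨h', hh'⟩ := hd
  obtain ⟨φ, hφ⟩ : ∃ φ : Module.End F ((Unit ⊕ (Fin h' ⊕ Fin h') → F) × (Unit ⊕ (Fin h' ⊕ Fin h') → F)),
      ∀ x, φ x = (-x.2, x.1) :=
    ⟨LinearMap.prod (-(LinearMap.snd F _ _)) (LinearMap.fst F _ _), fun x => rfl⟩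
  have hφφ : ∀ x, φ (φ x) = -x := by
    intro x
    rw [hφ, hφ]
    rfl
  have h1 : φ * (-φ) = 1 := by
    apply LinearMap.ext
    intro v
    rw [Module.End.mul_apply, LinearMap.neg_apply, map_neg, hφφ, neg_neg, Module.End.one_apply]
  have h2' : (-φ) * φ = 1 := by
    apply LinearMap.ext
    intro v
    rw [Module.End.mul_apply, LinearMap.neg_apply, hφφ, neg_neg, Module.End.one_apply]
  have hQ : ∀ x, ((oddForm F h').prod (oddForm F h')) (φ x) = ((oddForm F h').prod (oddForm F h')) x := by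
    intro x
    rw [hφ, QuadraticMap.prod_apply, QuadraticMap.prod_apply]
    simp only
    rw [QuadraticMap.map_neg, add_comm]
  obtain ⟨hNDE, -⟩ := prod_props (oddForm F h') (oddForm F h') h2 (std_nd_top h2 h') (std_nd_top h2 h')
  have hEd : finrank F ((Unit ⊕ (Fin h' ⊕ Fin h') → F) × (Unit ⊕ (Fin h' ⊕ Fin h') → F)) = 2 * d := by
    rw [Module.finrank_prod, finrank_odd, hh']
    ring
  have hnE : ¬ Hyp ((oddForm F h').prod (oddForm F h')) ⊤ := by
    obtain ⟨-, hty⟩ := sq_neg_one_props h2 hNDE hQ hφφ d ⊤ (by rw [finrank_top]; exact hEd)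
      (Module.End.invtSubmodule.top_mem _) hNDE
    intro hy
    have := (hty hns).mp hy
    rw [hh'] at this
    exact (Nat.not_even_iff_odd.mpr ⟨h', rfl⟩) this
  obtain ⟨ee, hee⟩ := exists_minus_iso h2 hNDE hnE (k := k) (by rw [hEd, hdk]; ring) hab
  obtain ⟨y, hy⟩ := exists_isom_of_equiv_gen (minusForm F k a b) ee hee φ (-φ) h1 h2' hQ
  refine ⟨y, fun w => ?_⟩
  obtain ⟨v, rfl⟩ := ee.surjective w
  rw [hy, hy, hφφ, map_neg]

/-- **the case `r = 2`.** -/
theorem two_case_iff_minus (h2 : (2 : F) ≠ 0) (hqodd : Odd (Fintype.card F)) {d k h : ℕ} (hdk : d = k + 1)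
    (hhd : 2 * h + 2 ≤ d) (hab : ∀ x y : F, x ^ 2 + a * x * y + b * y ^ 2 = 0 → x = 0 ∧ y = 0)
    {c₀ : F} (hc₀ : c₀ ≠ 0) :
    (∀ x : GL ((Fin k ⊕ Fin k) ⊕ Fin 2) F, x ∈ Cfsg.Geo.omegaGL (Cfsg.quadFormMinus k F a b) →
      (∃ z : F, ((x ^ 2 : GL ((Fin k ⊕ Fin k) ⊕ Fin 2) F) :
        Matrix ((Fin k ⊕ Fin k) ⊕ Fin 2) ((Fin k ⊕ Fin k) ⊕ Fin 2) F) =
        z • (1 : Matrix ((Fin k ⊕ Fin k) ⊕ Fin 2) ((Fin k ⊕ Fin k) ⊕ Fin 2) F)) →
      (∀ z : F, (x : Matrix ((Fin k ⊕ Fin k) ⊕ Fin 2) ((Fin k ⊕ Fin k) ⊕ Fin 2) F) ≠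
        z • (1 : Matrix ((Fin k ⊕ Fin k) ⊕ Fin 2) ((Fin k ⊕ Fin k) ⊕ Fin 2) F)) →
      ∃ W : Submodule F ((Fin k ⊕ Fin k) ⊕ Fin 2 → F),
        W ∈ Module.End.invtSubmodule
          (Matrix.toLin' (x : Matrix ((Fin k ⊕ Fin k) ⊕ Fin 2) ((Fin k ⊕ Fin k) ⊕ Fin 2) F)) ∧
        ND (QuadraticMap.polarBilin (minusForm F k a b)) W ∧ finrank F ↥W = 2 * h + 1 ∧
        OT (minusForm F k a b) W c₀) ↔
    (Even d ∨ Fintype.card F % 8 ≠ 7) := by
  classical
  have hd1 : 1 ≤ d := by omega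
  have hVnd := minus_nd_top (F := F) k hab
  have hnot := minus_not_hyp (F := F) k hab
  have hQnd := minusForm_nondeg F k hab
  have hdim : finrank F ((Fin k ⊕ Fin k) ⊕ Fin 2 → F) = 2 * d := by
    rw [finrank_minus, hdk]
    ring
  constructor
  · intro hall
    by_contra hcon
    push Not at hcon
    obtain ⟨hdodd, hq7⟩ := hcon
    have hdodd' : Odd d := Nat.not_even_iff_odd.mp hdodd
    have hns : ¬ IsSquare (-1 : F) := by
      rw [FiniteField.isSquare_neg_one_iff]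
      omega
    have h2sq : IsSquare (2 : F) := by
      rw [FiniteField.isSquare_two_iff]
      omega
    obtain ⟨y, hTT⟩ := exists_sq_neg_one_minus h2 hns hdk hdodd' hab
    obtain ⟨x, hxΩ, hx2, hxns, hxev⟩ := derangement_of_sq_neg_one_gen h2 (minusForm F k a b) hQnd hVnd hd1
      hdim y hTT (h2sq.pow d)
    rw [minusForm_coe] at hxΩ
    obtain ⟨W, hWinv, hWnd, hWd, -⟩ := hall x hxΩ ⟨-1, hx2⟩ hxns
    have := hxev W hWinv hWnd
    rw [hWd] at this
    exact absurd this (Nat.not_even_iff_odd.mpr ⟨h, rfl⟩)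
  · rintro hcond x hxΩ ⟨z, hz⟩ hxns
    rw [← minusForm_coe] at hxΩ
    obtain ⟨y, hycomm, rfl⟩ := hxΩ
    have hQT := minus_QT' y
    have hTTz : ∀ v, Matrix.toLin' ((y : GL ((Fin k ⊕ Fin k) ⊕ Fin 2) F) :
          Matrix ((Fin k ⊕ Fin k) ⊕ Fin 2) ((Fin k ⊕ Fin k) ⊕ Fin 2) F)
        (Matrix.toLin' ((y : GL ((Fin k ⊕ Fin k) ⊕ Fin 2) F) :
          Matrix ((Fin k ⊕ Fin k) ⊕ Fin 2) ((Fin k ⊕ Fin k) ⊕ Fin 2) F) v) = z • v := by
      intro v
      have hz' : (((y : GL ((Fin k ⊕ Fin k) ⊕ Fin 2) F) ^ 2 : GL ((Fin k ⊕ Fin k) ⊕ Fin 2) F) :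
          Matrix ((Fin k ⊕ Fin k) ⊕ Fin 2) ((Fin k ⊕ Fin k) ⊕ Fin 2) F) = z • 1 := hz
      have : Matrix.toLin' (((y : GL ((Fin k ⊕ Fin k) ⊕ Fin 2) F) ^ 2 : GL ((Fin k ⊕ Fin k) ⊕ Fin 2) F) :
          Matrix ((Fin k ⊕ Fin k) ⊕ Fin 2) ((Fin k ⊕ Fin k) ⊕ Fin 2) F) v =
          Matrix.toLin' (z • (1 : Matrix ((Fin k ⊕ Fin k) ⊕ Fin 2) ((Fin k ⊕ Fin k) ⊕ Fin 2) F)) v := by
        rw [hz']
      rw [Units.val_pow_eq_pow_val, pow_two, Matrix.toLin'_mul, LinearMap.comp_apply,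
        Matrix.toLin'_apply (z • (1 : Matrix ((Fin k ⊕ Fin k) ⊕ Fin 2) ((Fin k ⊕ Fin k) ⊕ Fin 2) F)),
        Matrix.smul_mulVec, Matrix.one_mulVec] at this
      exact this
    have hdim2 : 2 ≤ finrank F ↥(⊤ : Submodule F ((Fin k ⊕ Fin k) ⊕ Fin 2 → F)) := by
      rw [finrank_top, hdim]
      omega
    obtain ⟨v, -, hv⟩ := exists_repr_in hVnd hdim2 (1 : F)
    have hzz : z * z = 1 := by
      have h1 : minusForm F k a b ((Matrix.toLin' ((y : GL ((Fin k ⊕ Fin k) ⊕ Fin 2) F) :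
          Matrix ((Fin k ⊕ Fin k) ⊕ Fin 2) ((Fin k ⊕ Fin k) ⊕ Fin 2) F))
          ((Matrix.toLin' ((y : GL ((Fin k ⊕ Fin k) ⊕ Fin 2) F) :
          Matrix ((Fin k ⊕ Fin k) ⊕ Fin 2) ((Fin k ⊕ Fin k) ⊕ Fin 2) F)) v)) = minusForm F k a b v := by
        rw [hQT, hQT]
      rw [hTTz, QuadraticMap.map_smul, hv, smul_eq_mul, mul_one] at h1
      exact h1
    have hz' : z = 1 ∨ z = -1 := by
      have : (z - 1) * (z + 1) = 0 := by linear_combination hzz
      rcases mul_eq_zero.mp this with h | h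
      · exact Or.inl (by linear_combination h)
      · exact Or.inr (by linear_combination h)
    rcases hz' with rfl | rfl
    · have hT : (Matrix.toLin' ((y : GL ((Fin k ⊕ Fin k) ⊕ Fin 2) F) :
          Matrix ((Fin k ⊕ Fin k) ⊕ Fin 2) ((Fin k ⊕ Fin k) ⊕ Fin 2) F)) ^ 2 = 1 := by
        apply LinearMap.ext
        intro v
        rw [pow_two, Module.End.mul_apply, hTTz, one_smul, Module.End.one_apply]
      exact exists_ot_invt_two h2 hVnd hQT hT hdim hhd hc₀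
    · exfalso
      have hTT : ∀ v, Matrix.toLin' ((y : GL ((Fin k ⊕ Fin k) ⊕ Fin 2) F) :
            Matrix ((Fin k ⊕ Fin k) ⊕ Fin 2) ((Fin k ⊕ Fin k) ⊕ Fin 2) F)
          (Matrix.toLin' ((y : GL ((Fin k ⊕ Fin k) ⊕ Fin 2) F) :
            Matrix ((Fin k ⊕ Fin k) ⊕ Fin 2) ((Fin k ⊕ Fin k) ⊕ Fin 2) F) v) = -v := by
        intro v
        rw [hTTz, neg_one_smul]
      have hsq := (mem_commutator_iff_of_sq_neg_one_gen h2 (minusForm F k a b) hQnd hVnd hd1 hdim y hTT).mp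
        hycomm
      by_cases hm1 : IsSquare (-1 : F)
      · obtain ⟨ι₀, hι₀⟩ := hm1
        exact hnot (hyp_of_sq_neg_one_of_root h2 hVnd hQT hTT hι₀.symm)
      · have hiff := hyp_iff_even_of_sq_neg_one_gen h2 (minusForm F k a b) hVnd hdim y hTT hm1
        have hdodd : Odd d := by
          rcases Nat.even_or_odd d with he | ho
          · exact absurd (hiff.mpr he) hnot
          · exact ho
        rcases hcond with he | hq7
        · exact (Nat.not_even_iff_odd.mpr hdodd) he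
        · have h2sq := isSquare_two_of_pow_odd hdodd h2 hsq
          rw [FiniteField.isSquare_two_iff] at h2sq
          rw [FiniteField.isSquare_neg_one_iff] at hm1
          obtain ⟨t, ht⟩ := hqodd
          omega

end minus

end Cfsg.Agent.Helper7.QMi
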