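import Mathlib
import Cfsg.Agent.Helper7.QMiG
import Cfsg.Agent.Helper7.NilRkA

set_option autoImplicit false
set_option linter.unusedSectionVars false
set_option linter.unusedVariables false

/-!
# Unipotent isometries: the values of the form on the fixed space, and invariant subspaces of type `1, 2, …, 2`
-/

namespace Cfsg.Agent.Helper7.QMi

open Matrix Module Cfsg.Agent.Helper7.POrd Cfsg.Agent.Helper7.SpOrd Cfsg.Agent.Helper7.SpTI
  Cfsg.Agent.Helper7.OrTS Cfsg.Agent.Helper8.QuadForm Cfsg.Agent.Helper7.QTy Cfsg.Agent.Helper7.QEll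
  Cfsg.Agent.Helper7.QPa Cfsg.Agent.Helper8.StdForms Cfsg.Agent.Helper8.UJ Cfsg.Agent.Helper7.SpUn
  Cfsg.Agent.Helper8.SpU Cfsg.Agent.Helper7.OrUn

variable {F : Type*} [Field F] {ι : Type} [Fintype ι] [DecidableEq ι]

/-- the fixed space of an isometry is orthogonal to the image of `T - 1`. -/
theorem fix_perp_image {Q : QuadraticForm F (ι → F)} {T : Module.End F (ι → F)} (hQT : ∀ v, Q (T v) = Q v)
    {k : ι → F} (hk : T k = k) (w : ι → F) : QuadraticMap.polar Q k ((T - 1) w) = 0 := by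
  have h := iso_of_Q hQT k w
  rw [hk, pB_apply, pB_apply] at h
  rw [LinearMap.sub_apply, Module.End.one_apply, QuadraticMap.polar_sub_right, h, sub_self]

/-- **the values of the form on the fixed space** of an isometry of type `3, 1, 2, …, 2` of a space not of plus
type. -/
theorem fix_values (h2 : (2 : F) ≠ 0) {Q : QuadraticForm F (ι → F)} (hV : ND (QuadraticMap.polarBilin Q) ⊤)
    (hy : ¬ Hyp Q ⊤) {T : Module.End F (ι → F)} (hQT : ∀ v, Q (T v) = Q v) {d : ℕ}
    (h0 : rprof (T - 1) ⊤ 0 = 2 * d) (h1 : rprof (T - 1) ⊤ 1 = d) (h2' : rprof (T - 1) ⊤ 2 = 1) :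
    ∃ β : F, β ≠ 0 ∧ ∀ v ∈ fixS T, ∃ s : F, Q v = s * s * β := by
  obtain ⟨N, hN⟩ : ∃ N : Module.End F (ι → F), N = T - 1 := ⟨_, rfl⟩
  rw [← hN] at h0 h1 h2'
  have hK : fixS T = LinearMap.ker N := by rw [hN]; rfl
  rw [rprof_zero] at h0
  unfold rprof at h1 h2'
  rw [pow_one] at h1
  have hI2 : (⊤ : Submodule F (ι → F)).map (N ^ 2) = ((⊤ : Submodule F (ι → F)).map N).map N := by
    have := Cfsg.Agent.Helper7.NilRk.map_pow_succ N ⊤ 1
    rw [pow_one] at this
    exact this
  rw [hI2] at h2'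
  have e1 := Cfsg.Agent.Helper7.NilRk.finrank_map_add N ⊤
  rw [h0, h1, top_inf_eq] at e1
  have e2 := Cfsg.Agent.Helper7.NilRk.finrank_map_add N ((⊤ : Submodule F (ι → F)).map N)
  rw [h1, h2'] at e2
  have hKd : finrank F ↥(LinearMap.ker N) = d := by omega
  obtain ⟨R, hR⟩ : ∃ R : Submodule F (ι → F), R = (⊤ : Submodule F (ι → F)).map N ⊓ LinearMap.ker N := ⟨_, rfl⟩
  rw [← hR] at e2
  have hRK : R ≤ LinearMap.ker N := by rw [hR]; exact inf_le_right
  have hRI : R ≤ (⊤ : Submodule F (ι → F)).map N := by rw [hR]; exact inf_le_left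
  have hperp : ∀ k ∈ LinearMap.ker N, ∀ r ∈ (⊤ : Submodule F (ι → F)).map N, QuadraticMap.polar Q k r = 0 := by
    intro k hk r hr
    obtain ⟨w, -, rfl⟩ := hr
    have hk' : T k = k := by
      have := LinearMap.mem_ker.mp hk
      rw [hN, LinearMap.sub_apply, Module.End.one_apply, sub_eq_zero] at this
      exact this
    rw [hN]
    exact fix_perp_image hQT hk' w
  have hQR : ∀ r ∈ R, Q r = 0 := by
    intro r hr
    have := hperp r (hRK hr) r (hRI hr)
    rw [polar_self'] at this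
    exact (mul_eq_zero.mp this).resolve_left h2
  have hlt : R < LinearMap.ker N := by
    apply lt_of_le_of_ne hRK
    intro h
    rw [h] at e2
    omega
  obtain ⟨k₀, hk₀K, hk₀R⟩ := SetLike.exists_of_lt hlt
  have hdisj : R ⊓ Submodule.span F {k₀} = ⊥ := by
    rw [eq_bot_iff]
    rintro x ⟨hxR, hxL⟩
    obtain ⟨c, rfl⟩ := Submodule.mem_span_singleton.mp hxL
    by_cases hc : c = 0
    · rw [hc, zero_smul]
      exact Submodule.zero_mem _
    · exfalso
      apply hk₀R
      have := R.smul_mem c⁻¹ hxR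
      rw [smul_smul, inv_mul_cancel₀ hc, one_smul] at this
      exact this
  have hk₀0 : k₀ ≠ 0 := by
    rintro rfl
    exact hk₀R (Submodule.zero_mem _)
  have hsup : R ⊔ Submodule.span F {k₀} = LinearMap.ker N := by
    apply Submodule.eq_of_le_of_finrank_eq
    · apply sup_le hRK
      rw [Submodule.span_singleton_le_iff_mem]
      exact hk₀K
    · have h4 := Submodule.finrank_sup_add_finrank_inf_eq R (Submodule.span F {k₀})
      rw [hdisj, finrank_bot, add_zero, finrank_span_singleton hk₀0] at h4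
      omega
  have hval : ∀ v ∈ LinearMap.ker N, ∃ s : F, Q v = s * s * Q k₀ := by
    intro v hv
    rw [← hsup] at hv
    obtain ⟨r, hr, l, hl, rfl⟩ := Submodule.mem_sup.mp hv
    obtain ⟨s, rfl⟩ := Submodule.mem_span_singleton.mp hl
    refine ⟨s, ?_⟩
    rw [QuadraticMap.map_add Q, hQR r hr, QuadraticMap.map_smul, QuadraticMap.polar_smul_right,
      QuadraticMap.polar_comm, hperp k₀ hk₀K r (hRI hr), smul_zero, zero_add, add_zero, smul_eq_mul]
  refine ⟨Q k₀, ?_, ?_⟩
  · intro h0'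
    apply hy
    refine ⟨LinearMap.ker N, le_top, ?_, by rw [hKd, h0]⟩
    intro v hv
    obtain ⟨s, hs⟩ := hval v hv
    rw [hs, h0', mul_zero]
  · intro v hv
    rw [hK] at hv
    exact hval v hv

/-- **an invariant nondegenerate subspace of type `1, 2, …, 2`** is the orthogonal sum of a fixed nonsingular
vector and a plus type subspace. -/
theorem ot_of_invt_one_twos (h2 : (2 : F) ≠ 0) {Q : QuadraticForm F (ι → F)}
    (hV : ND (QuadraticMap.polarBilin Q) ⊤) {T : Module.End F (ι → F)} (hQT : ∀ v, Q (T v) = Q v)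
    {W : Submodule F (ι → F)} (hWT : W ∈ Module.End.invtSubmodule T) (hWnd : ND (QuadraticMap.polarBilin Q) W)
    {j : ℕ} (hprof : ∀ i, rprof (T - 1) W i = mprof (1 ::ₘ Multiset.replicate j 2) i) :
    ∃ w ∈ W ⊓ fixS T, Q w ≠ 0 ∧ OT Q W (Q w) := by
  have hrefl := pB_refl Q
  obtain ⟨N, hN⟩ : ∃ N : Module.End F (ι → F), N = T - 1 := ⟨_, rfl⟩
  rw [← hN] at hprof
  have hK : fixS T = LinearMap.ker N := by rw [hN]; rfl
  have hWN : W ∈ Module.End.invtSubmodule N := by rw [hN]; exact invt_sub_one hWT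
  have hmp : ∀ i, mprof (1 ::ₘ Multiset.replicate j 2) i = (1 - i) + j * (2 - i) := by
    intro i
    rw [mprof_cons, mprof_replicate_two]
  have h0 := hprof 0
  have h1 := hprof 1
  have h2' := hprof 2
  rw [hmp] at h0 h1 h2'
  rw [rprof_zero] at h0
  unfold rprof at h1 h2'
  rw [pow_one] at h1
  simp only [Nat.sub_self, Nat.sub_zero, mul_zero, add_zero, zero_add] at h0 h1 h2'
  have hW2 : W.map (N ^ 2) = ⊥ := by
    rw [← Submodule.finrank_eq_zero (R := F)]
    exact h2'
  have e1 := Cfsg.Agent.Helper7.NilRk.finrank_map_add N W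
  rw [h0, h1] at e1
  have hKd : finrank F ↥(W ⊓ LinearMap.ker N) = j + 1 := by omega
  -- a nonsingular fixed vector
  have hex : ∃ w ∈ W ⊓ LinearMap.ker N, Q w ≠ 0 := by
    by_contra hcon
    push Not at hcon
    have hts : TS Q (W ⊓ LinearMap.ker N) := hcon
    have := finrank_ti_le_of_nd hrefl hV hWnd (inf_le_left : W ⊓ LinearMap.ker N ≤ W) (ts_ti hts)
    omega
  obtain ⟨w, hwK, hQw⟩ := hex
  have hwW : w ∈ W := hwK.1
  have hNw : N w = 0 := LinearMap.mem_ker.mp hwK.2
  have hTw : T w = w := by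
    rw [hN, LinearMap.sub_apply, Module.End.one_apply, sub_eq_zero] at hNw
    exact hNw
  have hw0 : w ≠ 0 := by
    rintro rfl
    exact hQw (QuadraticMap.map_zero Q)
  obtain ⟨hLnd, -, -⟩ := line_props h2 hV hQw
  have hLW : Submodule.span F {w} ≤ W := by
    rw [Submodule.span_singleton_le_iff_mem]
    exact hwW
  obtain ⟨W₁, hW₁⟩ : ∃ W₁ : Submodule F (ι → F),
      W₁ = LinearMap.BilinForm.orthogonal (QuadraticMap.polarBilin Q) (Submodule.span F {w}) ⊓ W := ⟨_, rfl⟩
  have hW₁nd : ND (QuadraticMap.polarBilin Q) W₁ := by rw [hW₁]; exact nd_perp_inf hrefl hLnd hWnd hLW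
  have hW₁d : finrank F ↥W₁ = 2 * j := by
    have := finrank_perp_inf hrefl hLnd hLW
    rw [finrank_span_singleton hw0, h0, ← hW₁] at this
    omega
  have hW₁T : W₁ ∈ Module.End.invtSubmodule T := by
    rw [hW₁]
    exact inf_invt (perp_line_invt hQT hTw) hWT
  have hW₁W : W₁ ≤ W := by rw [hW₁]; exact inf_le_right
  have hsup : Submodule.span F {w} ⊔ W₁ = W := by rw [hW₁]; exact sup_perp_inf hrefl hLnd hLW
  have hLN : (Submodule.span F {w}).map N = ⊥ := by
    rw [eq_bot_iff]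
    rintro _ ⟨x, hx, rfl⟩
    obtain ⟨c, rfl⟩ := Submodule.mem_span_singleton.mp hx
    rw [map_smul, hNw, smul_zero]
    exact Submodule.zero_mem _
  have hW₁N : W₁.map N = W.map N := by
    rw [← hsup, Submodule.map_sup, hLN, bot_sup_eq]
  have hW₁prof : ∀ i, rprof (T - 1) W₁ i = mprof (Multiset.replicate j 2) i := by
    intro i
    rw [mprof_replicate_two, ← hN]
    rcases Nat.lt_or_ge i 2 with hi | hi
    · interval_cases i
      · rw [rprof_zero, hW₁d, Nat.sub_zero, mul_comm]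
      · unfold rprof
        rw [pow_one, hW₁N, h1]
    · have hz : W.map (N ^ i) = ⊥ := by
        obtain ⟨t, rfl⟩ : ∃ t, i = 2 + t := ⟨i - 2, by omega⟩
        rw [eq_bot_iff]
        rintro _ ⟨x, hx, rfl⟩
        rw [pow_add, Module.End.mul_apply]
        have hx' : (N ^ t) x ∈ W := map_pow_le hWN t ⟨x, hx, rfl⟩
        have : (N ^ 2) ((N ^ t) x) ∈ W.map (N ^ 2) := ⟨_, hx', rfl⟩
        rw [hW2] at this
        exact this
      have hz₁ : W₁.map (N ^ i) = ⊥ := by
        rw [eq_bot_iff, ← hz]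
        exact Submodule.map_mono hW₁W
      unfold rprof
      rw [hz₁, finrank_bot]
      have : 2 - i = 0 := by omega
      rw [this, mul_zero]
  have hW₁hyp : Hyp Q W₁ := by
    obtain ⟨U, hUW, hU, hUd⟩ := plusType_of_twos h2 Q T hQT W₁ hW₁T j hW₁prof
    exact ⟨U, hUW, fun u hu => hU u hu, hUd⟩
  refine ⟨w, by rw [hK]; exact hwK, hQw, W₁, w, hW₁W, hW₁nd, hW₁hyp, hwW, ?_, rfl, ?_⟩
  · rw [mem_perp]
    intro u hu
    rw [hW₁] at hu
    have := mem_perp_line.mp hu.1
    rw [pB_apply, QuadraticMap.polar_comm]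
    exact this
  · rw [sup_comm]
    exact hsup

end Cfsg.Agent.Helper7.QMi
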