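import Mathlib
import Cfsg.Agent.Helper7.QMiH

set_option autoImplicit false
set_option linter.unusedSectionVars false
set_option linter.unusedVariables false

/-!
# Elements of order `p` of `Ω⁻_{2d}(q)`, `q` odd: prescribed type, invariant subspaces, prescribed values on the
fixed space
-/

namespace Cfsg.Agent.Helper7.QMi

open Matrix Module Cfsg.Agent.Helper7.POrd Cfsg.Agent.Helper7.SpOrd Cfsg.Agent.Helper7.SpTI
  Cfsg.Agent.Helper7.OrTS Cfsg.Agent.Helper8.QuadForm Cfsg.Agent.Helper7.QTy Cfsg.Agent.Helper7.QEll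
  Cfsg.Agent.Helper7.QPa Cfsg.Agent.Helper8.StdForms Cfsg.Agent.Helper8.UJ Cfsg.Agent.Helper7.SpUn
  Cfsg.Agent.Helper8.SpU Cfsg.Agent.Helper7.OrUn Cfsg.Agent.Helper8.OrthOrder

variable {F : Type*} [Field F]

/-! ### intertwining -/

section inter

variable {E : Type*} [AddCommGroup E] [Module F E] {V' : Type*} [AddCommGroup V'] [Module F V']

theorem intertwine_sub_one_pow (e : E ≃ₗ[F] V') {T : Module.End F V'} {φ : Module.End F E}
    (h : ∀ v, T (e v) = e (φ v)) (n : ℕ) (v : E) : ((T - 1) ^ n) (e v) = e (((φ - 1) ^ n) v) := by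
  induction n generalizing v with
  | zero => simp
  | succ n ih =>
    rw [pow_succ, Module.End.mul_apply, LinearMap.sub_apply, Module.End.one_apply, h, ← map_sub, ih,
      pow_succ, Module.End.mul_apply, LinearMap.sub_apply, Module.End.one_apply]

theorem range_intertwine_sub_one_pow (e : E ≃ₗ[F] V') {T : Module.End F V'} {φ : Module.End F E}
    (h : ∀ v, T (e v) = e (φ v)) (n : ℕ) :
    LinearMap.range ((T - 1) ^ n) = (LinearMap.range ((φ - 1) ^ n)).map (e : E →ₗ[F] V') := by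
  ext w
  constructor
  · rintro ⟨w', rfl⟩
    obtain ⟨v, rfl⟩ := e.surjective w'
    rw [intertwine_sub_one_pow e h]
    exact ⟨_, ⟨v, rfl⟩, rfl⟩
  · rintro ⟨_, ⟨v, rfl⟩, rfl⟩
    refine ⟨e v, ?_⟩
    rw [intertwine_sub_one_pow e h]
    rfl

end inter

variable [Fintype F] {p : ℕ} [Fact p.Prime] [CharP F p] {a b : F}

/-! ### elements of prescribed type -/

/-- an element of order `p` with a nontrivial rank profile is not scalar. -/
theorem nonscalar_of_prof {k : ℕ} {x : GL ((Fin k ⊕ Fin k) ⊕ Fin 2) F} (hxp : x ^ p = 1) {μ : Multiset ℕ}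
    (hprof1 : (((x : Matrix ((Fin k ⊕ Fin k) ⊕ Fin 2) ((Fin k ⊕ Fin k) ⊕ Fin 2) F) - 1) ^ 1).rank = mprof μ 1)
    (h1ne : mprof μ 1 ≠ 0) :
    ∀ z : F, (x : Matrix ((Fin k ⊕ Fin k) ⊕ Fin 2) ((Fin k ⊕ Fin k) ⊕ Fin 2) F) ≠ z • 1 := by
  have hp : p.Prime := Fact.out
  have hxpm : (x : Matrix ((Fin k ⊕ Fin k) ⊕ Fin 2) ((Fin k ⊕ Fin k) ⊕ Fin 2) F) ^ p = 1 := by
    rw [← Units.val_pow_eq_pow_val, hxp]
    rfl
  intro z hz
  have h3 : ((z - 1) ^ p) • (1 : Matrix ((Fin k ⊕ Fin k) ⊕ Fin 2) ((Fin k ⊕ Fin k) ⊕ Fin 2) F) = 0 := by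
    have h4 : (x : Matrix ((Fin k ⊕ Fin k) ⊕ Fin 2) ((Fin k ⊕ Fin k) ⊕ Fin 2) F) - 1 = (z - 1) • 1 := by
      rw [hz, sub_smul, one_smul]
    have h5 := Cfsg.Agent.Helper8.SpU.sub_one_pow_char p
      (x : Matrix ((Fin k ⊕ Fin k) ⊕ Fin 2) ((Fin k ⊕ Fin k) ⊕ Fin 2) F)
    rw [hxpm, sub_self, h4, _root_.smul_pow, one_pow] at h5
    exact h5
  have h6 := congrFun (congrFun h3 (Sum.inr 0)) (Sum.inr 0)
  rw [Matrix.smul_apply, Matrix.one_apply_eq, smul_eq_mul, mul_one, Matrix.zero_apply] at h6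
  have hz1 : z = 1 := by
    have := pow_eq_zero_iff (hp.ne_zero) |>.mp h6
    exact sub_eq_zero.mp this
  apply h1ne
  rw [← hprof1, pow_one, hz, hz1, one_smul, sub_self, Matrix.rank_zero]

/-- **an element of order `p` of `Ω⁻` of prescribed type.** -/
theorem exists_unip_minus (hp2 : p ≠ 2) {k : ℕ} (hk : 2 ≤ k)
    (hab : ∀ x y : F, x ^ 2 + a * x * y + b * y ^ 2 = 0 → x = 0 ∧ y = 0)
    (μ : Multiset ℕ) (hμ : ∀ c ∈ μ, 0 < c ∧ c ≤ p) (hμpar : ∀ c : ℕ, Even c → Even (μ.count c))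
    (hμsum : μ.sum = 2 * k + 2) (hodd : ∃ c ∈ μ, Odd c) (hbig : ∃ c ∈ μ, 2 ≤ c) :
    ∃ x : GL ((Fin k ⊕ Fin k) ⊕ Fin 2) F, x ∈ Cfsg.Geo.omegaGL (Cfsg.quadFormMinus k F a b) ∧ x ^ p = 1 ∧
      (∀ z : F, (x : Matrix ((Fin k ⊕ Fin k) ⊕ Fin 2) ((Fin k ⊕ Fin k) ⊕ Fin 2) F) ≠ z • 1) ∧
      ∀ j, (((x : Matrix ((Fin k ⊕ Fin k) ⊕ Fin 2) ((Fin k ⊕ Fin k) ⊕ Fin 2) F) - 1) ^ j).rank = mprof μ j := by
  classical
  have hp : p.Prime := Fact.out
  have h2 : (2 : F) ≠ 0 := by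
    intro h
    have h1 : ((2 : ℕ) : F) = 0 := by rw [Nat.cast_ofNat]; exact h
    rw [CharP.cast_eq_zero_iff F p 2] at h1
    exact hp2 ((Nat.prime_dvd_prime_iff_eq hp Nat.prime_two).mp h1)
  obtain ⟨c, hc, hco⟩ := hodd
  obtain ⟨a₀, ha₀, ha₀2⟩ := hbig
  have hreal : RReal F μ a b :=
    rReal_of_valid h2 μ hμpar (by rw [hμsum]; exact ⟨k + 1, by ring⟩) hc hco a b
      (disc_ne_zero' h2 hab)
  obtain ⟨x, hxΩ, hxp, hprof⟩ := exists_omega_elt_minus p hp2 hk a b hab μ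
    (fun c hc => (hμ c hc).2) hμsum hreal
  have h1ne : mprof μ 1 ≠ 0 := by
    intro h
    have := (mprof_eq_zero_iff μ 1).mp h a₀ ha₀
    omega
  exact ⟨x, hxΩ, hxp, nonscalar_of_prof hxp (hprof 1) h1ne, hprof⟩

/-- invariant nondegenerate subspaces of an element of order `p` of prescribed type. -/
theorem sub_type_minus (hp2 : p ≠ 2) {k : ℕ} {x : GL ((Fin k ⊕ Fin k) ⊕ Fin 2) F}
    (hxiso : x ∈ Cfsg.isometryGroup F (Cfsg.quadFormMinus k F a b)) (hxp : x ^ p = 1) {μ : Multiset ℕ}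
    (hμpos : ∀ c ∈ μ, 1 ≤ c)
    (hprof : ∀ j, (((x : Matrix ((Fin k ⊕ Fin k) ⊕ Fin 2) ((Fin k ⊕ Fin k) ⊕ Fin 2) F) - 1) ^ j).rank =
      mprof μ j)
    {W : Submodule F ((Fin k ⊕ Fin k) ⊕ Fin 2 → F)} (hWnd : ND (QuadraticMap.polarBilin (minusForm F k a b)) W)
    (hWinv : W ∈ Module.End.invtSubmodule
      (Matrix.toLin' (x : Matrix ((Fin k ⊕ Fin k) ⊕ Fin 2) ((Fin k ⊕ Fin k) ⊕ Fin 2) F))) :
    ∃ ν : Multiset ℕ, ν ≤ μ ∧ ν.sum = finrank F ↥W ∧ (∀ c : ℕ, Even c → Even (ν.count c)) ∧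
      ∀ j, rprof (Matrix.toLin' (x : Matrix ((Fin k ⊕ Fin k) ⊕ Fin 2) ((Fin k ⊕ Fin k) ⊕ Fin 2) F) - 1) W j =
        mprof ν j := by
  have hxpm : (x : Matrix ((Fin k ⊕ Fin k) ⊕ Fin 2) ((Fin k ⊕ Fin k) ⊕ Fin 2) F) ^ p = 1 := by
    rw [← Units.val_pow_eq_pow_val, hxp]
    rfl
  have hS : LinearMap.BilinForm.IsSymm (QuadraticMap.polarBilin (minusForm F k a b)) := by
    constructor
    intro u v
    simp only [QuadraticMap.polarBilin_apply_apply]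
    exact QuadraticMap.polar_comm _ u v
  have hiso : ∀ u v, QuadraticMap.polarBilin (minusForm F k a b)
      ((x : Matrix ((Fin k ⊕ Fin k) ⊕ Fin 2) ((Fin k ⊕ Fin k) ⊕ Fin 2) F) *ᵥ u)
      ((x : Matrix ((Fin k ⊕ Fin k) ⊕ Fin 2) ((Fin k ⊕ Fin k) ⊕ Fin 2) F) *ᵥ v) =
      QuadraticMap.polarBilin (minusForm F k a b) u v := by
    intro u v
    have := iso_of_Q (minus_QT hxiso) u v
    rw [Matrix.toLin'_apply, Matrix.toLin'_apply] at this
    exact this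
  exact exists_sub_type' hp2 hS _ hxpm hiso μ hμpos hprof W hWnd ((invt_iff_map_le _ W).mpr hWinv)

/-! ### prescribed values on the fixed space -/

/-- **an element of order `p` of `Ω⁻_{2d}(q)`, `d` even, of type `3, 1, 2, …, 2` whose fixed vectors have norms in
a prescribed square class.** -/
theorem exists_unip_minus_values (hp2 : p ≠ 2) {d k : ℕ} (hdk : d = k + 1) (hd : 4 ≤ d) (hde : Even d)
    (hab : ∀ x y : F, x ^ 2 + a * x * y + b * y ^ 2 = 0 → x = 0 ∧ y = 0) {γ : F} (hγ : γ ≠ 0) :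
    ∃ x : GL ((Fin k ⊕ Fin k) ⊕ Fin 2) F, x ∈ Cfsg.Geo.omegaGL (Cfsg.quadFormMinus k F a b) ∧ x ^ p = 1 ∧
      (∀ z : F, (x : Matrix ((Fin k ⊕ Fin k) ⊕ Fin 2) ((Fin k ⊕ Fin k) ⊕ Fin 2) F) ≠ z • 1) ∧
      (∀ j, (((x : Matrix ((Fin k ⊕ Fin k) ⊕ Fin 2) ((Fin k ⊕ Fin k) ⊕ Fin 2) F) - 1) ^ j).rank =
        mprof (3 ::ₘ 1 ::ₘ Multiset.replicate (d - 2) 2) j) ∧
      ∀ v ∈ fixS (Matrix.toLin' (x : Matrix ((Fin k ⊕ Fin k) ⊕ Fin 2) ((Fin k ⊕ Fin k) ⊕ Fin 2) F)),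
        ∃ t : F, minusForm F k a b v = t * t * γ := by
  classical
  have hp : p.Prime := Fact.out
  have hp3 : 3 ≤ p := by
    have := hp.two_le
    omega
  have hpodd : Odd p := hp.odd_of_ne_two hp2
  have h2 : (2 : F) ≠ 0 := by
    intro h
    have h1 : ((2 : ℕ) : F) = 0 := by rw [Nat.cast_ofNat]; exact h
    rw [CharP.cast_eq_zero_iff F p 2] at h1
    exact hp2 ((Nat.prime_dvd_prime_iff_eq hp Nat.prime_two).mp h1)
  obtain ⟨μ, hμdef⟩ : ∃ μ : Multiset ℕ, μ = 3 ::ₘ 1 ::ₘ Multiset.replicate (d - 2) 2 := ⟨_, rfl⟩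
  rw [← hμdef]
  have hμ : ∀ c ∈ μ, 0 < c ∧ c ≤ p := by
    intro c hc
    rw [hμdef] at hc
    rcases Multiset.mem_cons.mp hc with hc | hc
    · rw [hc]; exact ⟨by norm_num, hp3⟩
    rcases Multiset.mem_cons.mp hc with hc | hc
    · rw [hc]; exact ⟨by norm_num, by omega⟩
    · rw [Multiset.eq_of_mem_replicate hc]
      exact ⟨by norm_num, by omega⟩
  have hμpar : ∀ c : ℕ, Even c → Even (μ.count c) := by
    intro c hc
    have hne3 : c ≠ 3 := by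
      rintro rfl
      exact absurd hc (by decide)
    have hne1 : c ≠ 1 := by
      rintro rfl
      exact absurd hc (by decide)
    rw [hμdef, Multiset.count_cons_of_ne hne3, Multiset.count_cons_of_ne hne1, Multiset.count_replicate]
    split_ifs
    · obtain ⟨t, ht⟩ := hde
      exact ⟨t - 1, by omega⟩
    · exact Even.zero
  have hμsum : μ.sum = 2 * k + 2 := by
    rw [hμdef, Multiset.sum_cons, Multiset.sum_cons, Multiset.sum_replicate, smul_eq_mul]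
    omega
  have hμpos : ∀ c ∈ μ, 1 ≤ c := fun c hc => (hμ c hc).1
  obtain ⟨x₀, hx₀Ω, hx₀p, hx₀ns, hx₀prof⟩ := exists_unip_minus hp2 (by omega : 2 ≤ k) hab μ hμ hμpar hμsum
    ⟨3, by rw [hμdef]; exact Multiset.mem_cons_self _ _, by decide⟩
    ⟨3, by rw [hμdef]; exact Multiset.mem_cons_self _ _, by norm_num⟩
  have hx₀iso : x₀ ∈ Cfsg.isometryGroup F (Cfsg.quadFormMinus k F a b) := by
    obtain ⟨y, -, rfl⟩ := hx₀Ω
    exact y.2
  obtain ⟨T₀, hT₀⟩ : ∃ T₀ : Module.End F ((Fin k ⊕ Fin k) ⊕ Fin 2 → F),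
      T₀ = Matrix.toLin' (x₀ : Matrix ((Fin k ⊕ Fin k) ⊕ Fin 2) ((Fin k ⊕ Fin k) ⊕ Fin 2) F) := ⟨_, rfl⟩
  have hQT₀ : ∀ v, minusForm F k a b (T₀ v) = minusForm F k a b v := by
    intro v
    rw [hT₀]
    exact minus_QT hx₀iso v
  have hT₀p : T₀ ^ p = 1 := by
    rw [hT₀]
    exact toLin'_pow_eq_one hx₀p
  have hVnd := minus_nd_top (F := F) k hab
  have hnot := minus_not_hyp (F := F) k hab
  have htop : ∀ j, rprof (T₀ - 1) ⊤ j = mprof μ j := by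
    intro j
    unfold rprof
    rw [Submodule.map_top, hT₀, finrank_range_toLin'_sub_one_pow, hx₀prof]
  have hm0 : mprof μ 0 = 2 * d := by
    rw [mprof_zero_eq, hμsum, hdk]
    ring
  have hm1 : mprof μ 1 = d := by
    rw [hμdef, mprof_cons, mprof_cons, mprof_replicate_two]
    omega
  have hm2 : mprof μ 2 = 1 := by
    rw [hμdef, mprof_cons, mprof_cons, mprof_replicate_two]
    omega
  obtain ⟨β₀, hβ₀, hval₀⟩ := fix_values h2 hVnd hnot hQT₀ (by rw [htop, hm0]) (by rw [htop, hm1])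
    (by rw [htop, hm2])
  -- the similitude
  obtain ⟨lam, hlam⟩ : ∃ lam : F, lam = γ / β₀ := ⟨_, rfl⟩
  have hlam0 : lam ≠ 0 := by rw [hlam]; exact div_ne_zero hγ hβ₀
  obtain ⟨QE, hQE⟩ : ∃ QE : QuadraticForm F ((Fin k ⊕ Fin k) ⊕ Fin 2 → F),
      ∀ v, QE v = lam * minusForm F k a b v := ⟨lam • minusForm F k a b, fun v => rfl⟩
  have hpolE : ∀ u v, QuadraticMap.polar QE u v = lam * QuadraticMap.polar (minusForm F k a b) u v := by
    intro u v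
    unfold QuadraticMap.polar
    rw [hQE, hQE, hQE]
    ring
  have hNDE : ND (QuadraticMap.polarBilin QE) ⊤ := by
    intro u hu hu0
    obtain ⟨w, hw, hw'⟩ := hVnd u hu hu0
    refine ⟨w, hw, ?_⟩
    rw [pB_apply, hpolE]
    exact mul_ne_zero hlam0 hw'
  have hnE : ¬ Hyp QE ⊤ := by
    rintro ⟨U, hUle, hU, hUd⟩
    apply hnot
    refine ⟨U, hUle, ?_, hUd⟩
    intro u hu
    have := hU u hu
    rw [hQE] at this
    exact (mul_eq_zero.mp this).resolve_left hlam0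
  obtain ⟨g, hg⟩ := exists_minus_iso h2 hNDE hnE (finrank_minus F k) hab
  have hφQ : ∀ v, QE (T₀ v) = QE v := by
    intro v
    rw [hQE, hQE, hQT₀]
  have hppos : 0 < p := hp.pos
  have hφinv1 : T₀ * T₀ ^ (p - 1) = 1 := by
    rw [← pow_succ', Nat.sub_add_cancel hppos, hT₀p]
  have hφinv2 : T₀ ^ (p - 1) * T₀ = 1 := by
    rw [← pow_succ, Nat.sub_add_cancel hppos, hT₀p]
  obtain ⟨y, hy⟩ := exists_isom_of_equiv_gen (minusForm F k a b) g hg T₀ (T₀ ^ (p - 1)) hφinv1 hφinv2 hφQ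
  have hTp : (Matrix.toLin' ((y : GL ((Fin k ⊕ Fin k) ⊕ Fin 2) F) :
      Matrix ((Fin k ⊕ Fin k) ⊕ Fin 2) ((Fin k ⊕ Fin k) ⊕ Fin 2) F)) ^ p = 1 := by
    apply LinearMap.ext
    intro w
    obtain ⟨v, rfl⟩ := g.surjective w
    rw [intertwine_pow g hy, hT₀p]
    rfl
  have hyp' : y ^ p = 1 := by
    apply Subtype.ext
    apply Units.ext
    apply Matrix.toLin'.injective
    rw [Subgroup.coe_pow, ← toLin'_pow_gl, hTp, Subgroup.coe_one, Units.val_one, Matrix.toLin'_one]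
    rfl
  have hcard : 2 ≤ Fintype.card ((Fin k ⊕ Fin k) ⊕ Fin 2) := by
    rw [Fintype.card_sum, Fintype.card_fin]
    omega
  have hycomm := mem_commutator_of_pow_odd (minusForm F k a b) h2 (minusForm_nondeg F k hab) hcard hpodd hyp'
  have hyprof : ∀ j, ((((y : GL ((Fin k ⊕ Fin k) ⊕ Fin 2) F) :
      Matrix ((Fin k ⊕ Fin k) ⊕ Fin 2) ((Fin k ⊕ Fin k) ⊕ Fin 2) F) - 1) ^ j).rank = mprof μ j := by
    intro j
    rw [← hx₀prof j, ← finrank_range_toLin'_sub_one_pow, ← finrank_range_toLin'_sub_one_pow,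
      range_intertwine_sub_one_pow g hy, ← hT₀]
    exact LinearEquiv.finrank_map_eq g _
  have hyp'' : (y : GL ((Fin k ⊕ Fin k) ⊕ Fin 2) F) ^ p = 1 := by
    rw [← Subgroup.coe_pow, hyp']
    rfl
  have h1ne : mprof μ 1 ≠ 0 := by rw [hm1]; omega
  refine ⟨(y : GL ((Fin k ⊕ Fin k) ⊕ Fin 2) F), ?_, hyp'', nonscalar_of_prof hyp'' (hyprof 1) h1ne, hyprof, ?_⟩
  · rw [← minusForm_coe]
    exact ⟨y, hycomm, rfl⟩
  · intro v hv
    rw [fix_intertwine g hy] at hv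
    obtain ⟨v₀, hv₀, rfl⟩ := hv
    obtain ⟨s, hs⟩ := hval₀ v₀ hv₀
    refine ⟨s, ?_⟩
    show minusForm F k a b (g v₀) = s * s * γ
    rw [hg, hQE, hs, hlam]
    field_simp

end Cfsg.Agent.Helper7.QMi
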