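import Mathlib
import Cfsg.Agent.Helper7.QMiI

set_option autoImplicit false
set_option linter.unusedSectionVars false
set_option linter.unusedVariables false

/-!
# The case `r = p` for `Ω⁻_{2d}(q)`, `q` odd, on nondegenerate subspaces of odd dimension
-/

namespace Cfsg.Agent.Helper7.QMi

open Matrix Module Cfsg.Agent.Helper7.POrd Cfsg.Agent.Helper7.SpOrd Cfsg.Agent.Helper7.SpTI
  Cfsg.Agent.Helper7.OrTS Cfsg.Agent.Helper8.QuadForm Cfsg.Agent.Helper7.QTy Cfsg.Agent.Helper7.QEll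
  Cfsg.Agent.Helper7.QPa Cfsg.Agent.Helper8.StdForms Cfsg.Agent.Helper8.UJ Cfsg.Agent.Helper7.SpUn
  Cfsg.Agent.Helper8.SpU Cfsg.Agent.Helper7.OrUn Cfsg.Agent.Helper8.OrthOrder

/-- a submultiset of `3, 1, 2, …, 2` of sum `≡ 1 (mod 4)` with `2` of even multiplicity. -/
theorem sub_three_one {n m : ℕ} (ν : Multiset ℕ)
    (hle : ν ≤ 3 ::ₘ 1 ::ₘ Multiset.replicate n 2) (hsum : ν.sum = m) (hm4 : m % 4 = 1)
    (hpar : ∀ a : ℕ, Even a → Even (ν.count a)) :
    ∃ j, ν = 1 ::ₘ Multiset.replicate j 2 := by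
  classical
  by_cases hc3 : 3 ∈ ν
  · exfalso
    obtain ⟨ν₁, rfl⟩ := Multiset.exists_cons_of_mem hc3
    rw [Multiset.cons_le_cons_iff] at hle
    by_cases hc1 : 1 ∈ ν₁
    · obtain ⟨ν₂, rfl⟩ := Multiset.exists_cons_of_mem hc1
      rw [Multiset.cons_le_cons_iff] at hle
      obtain ⟨j, -, rfl⟩ := Multiset.le_replicate_iff.mp hle
      rw [Multiset.sum_cons, Multiset.sum_cons, Multiset.sum_replicate, smul_eq_mul] at hsum
      omega
    · rw [Multiset.le_cons_of_notMem hc1] at hle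
      obtain ⟨j, -, rfl⟩ := Multiset.le_replicate_iff.mp hle
      have h2 := hpar 2 (by decide)
      rw [Multiset.count_cons_of_ne (by omega), Multiset.count_replicate_self] at h2
      obtain ⟨t, ht⟩ := h2
      rw [Multiset.sum_cons, Multiset.sum_replicate, smul_eq_mul] at hsum
      omega
  · rw [Multiset.le_cons_of_notMem hc3] at hle
    by_cases hc1 : 1 ∈ ν
    · obtain ⟨ν₁, rfl⟩ := Multiset.exists_cons_of_mem hc1
      rw [Multiset.cons_le_cons_iff] at hle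
      obtain ⟨j, -, rfl⟩ := Multiset.le_replicate_iff.mp hle
      exact ⟨j, rfl⟩
    · exfalso
      rw [Multiset.le_cons_of_notMem hc1] at hle
      obtain ⟨j, -, rfl⟩ := Multiset.le_replicate_iff.mp hle
      rw [Multiset.sum_replicate, smul_eq_mul] at hsum
      omega

variable {F : Type*} [Field F] [Fintype F] {p : ℕ} [Fact p.Prime] [CharP F p] {a b : F}

/-- an invariant nondegenerate subspace of dimension `≡ 1 (mod 4)` of an element of type `3, 1, 2, …, 2` is of the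
odd type of one of its fixed vectors. -/
theorem ot_of_invt_mod_four (hp2 : p ≠ 2) {k n : ℕ}
    (hab : ∀ x y : F, x ^ 2 + a * x * y + b * y ^ 2 = 0 → x = 0 ∧ y = 0)
    {x : GL ((Fin k ⊕ Fin k) ⊕ Fin 2) F}
    (hxiso : x ∈ Cfsg.isometryGroup F (Cfsg.quadFormMinus k F a b)) (hxp : x ^ p = 1)
    (hprof : ∀ j, (((x : Matrix ((Fin k ⊕ Fin k) ⊕ Fin 2) ((Fin k ⊕ Fin k) ⊕ Fin 2) F) - 1) ^ j).rank =
      mprof (3 ::ₘ 1 ::ₘ Multiset.replicate n 2) j)
    {W : Submodule F ((Fin k ⊕ Fin k) ⊕ Fin 2 → F)} (hWnd : ND (QuadraticMap.polarBilin (minusForm F k a b)) W)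
    (hWinv : W ∈ Module.End.invtSubmodule
      (Matrix.toLin' (x : Matrix ((Fin k ⊕ Fin k) ⊕ Fin 2) ((Fin k ⊕ Fin k) ⊕ Fin 2) F)))
    (hW4 : finrank F ↥W % 4 = 1) :
    ∃ w ∈ W ⊓ fixS (Matrix.toLin' (x : Matrix ((Fin k ⊕ Fin k) ⊕ Fin 2) ((Fin k ⊕ Fin k) ⊕ Fin 2) F)),
      minusForm F k a b w ≠ 0 ∧ OT (minusForm F k a b) W (minusForm F k a b w) := by
  have hp : p.Prime := Fact.out
  have h2 : (2 : F) ≠ 0 := by
    intro h
    have h1 : ((2 : ℕ) : F) = 0 := by rw [Nat.cast_ofNat]; exact h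
    rw [CharP.cast_eq_zero_iff F p 2] at h1
    exact hp2 ((Nat.prime_dvd_prime_iff_eq hp Nat.prime_two).mp h1)
  have hμpos : ∀ c ∈ (3 ::ₘ 1 ::ₘ Multiset.replicate n 2 : Multiset ℕ), 1 ≤ c := by
    intro c hc
    rcases Multiset.mem_cons.mp hc with hc | hc
    · rw [hc]; norm_num
    rcases Multiset.mem_cons.mp hc with hc | hc
    · rw [hc]
    · rw [Multiset.eq_of_mem_replicate hc]
      norm_num
  obtain ⟨ν, hνle, hνsum, hνpar, hνprof⟩ := sub_type_minus hp2 hxiso hxp hμpos hprof hWnd hWinv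
  obtain ⟨j, rfl⟩ := sub_three_one ν hνle hνsum hW4 hνpar
  exact ot_of_invt_one_twos h2 (minus_nd_top k hab) (fun v => minus_QT hxiso v) hWinv hWnd hνprof

/-- **the case `r = p`**: some element of order `p` of `Ω⁻_{2d}(q)` fixes no nondegenerate subspace of odd
dimension `m < d` of a given type. -/
theorem not_forall_odd_char_minus (hp2 : p ≠ 2) {d k h : ℕ} (hdk : d = k + 1) (hd : 4 ≤ d)
    (hhd : 2 * h + 1 < d) (hab : ∀ x y : F, x ^ 2 + a * x * y + b * y ^ 2 = 0 → x = 0 ∧ y = 0)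
    {c₀ : F} (hc₀ : c₀ ≠ 0)
    (hall : ∀ x : GL ((Fin k ⊕ Fin k) ⊕ Fin 2) F, x ∈ Cfsg.Geo.omegaGL (Cfsg.quadFormMinus k F a b) →
      (∃ z : F, ((x ^ p : GL ((Fin k ⊕ Fin k) ⊕ Fin 2) F) :
        Matrix ((Fin k ⊕ Fin k) ⊕ Fin 2) ((Fin k ⊕ Fin k) ⊕ Fin 2) F) =
        z • (1 : Matrix ((Fin k ⊕ Fin k) ⊕ Fin 2) ((Fin k ⊕ Fin k) ⊕ Fin 2) F)) →
      (∀ z : F, (x : Matrix ((Fin k ⊕ Fin k) ⊕ Fin 2) ((Fin k ⊕ Fin k) ⊕ Fin 2) F) ≠
        z • (1 : Matrix ((Fin k ⊕ Fin k) ⊕ Fin 2) ((Fin k ⊕ Fin k) ⊕ Fin 2) F)) →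
      ∃ W : Submodule F ((Fin k ⊕ Fin k) ⊕ Fin 2 → F),
        W ∈ Module.End.invtSubmodule
          (Matrix.toLin' (x : Matrix ((Fin k ⊕ Fin k) ⊕ Fin 2) ((Fin k ⊕ Fin k) ⊕ Fin 2) F)) ∧
        ND (QuadraticMap.polarBilin (minusForm F k a b)) W ∧ finrank F ↥W = 2 * h + 1 ∧
        OT (minusForm F k a b) W c₀) : False := by
  classical
  have hp : p.Prime := Fact.out
  have hp3 : 3 ≤ p := by
    have := hp.two_le
    omega
  have h2 : (2 : F) ≠ 0 := by
    intro h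
    have h1 : ((2 : ℕ) : F) = 0 := by rw [Nat.cast_ofNat]; exact h
    rw [CharP.cast_eq_zero_iff F p 2] at h1
    exact hp2 ((Nat.prime_dvd_prime_iff_eq hp Nat.prime_two).mp h1)
  have hVnd := minus_nd_top (F := F) k hab
  have hnot := minus_not_hyp (F := F) k hab
  have hrefl := pB_refl (minusForm F k a b)
  have hdim : finrank F ((Fin k ⊕ Fin k) ⊕ Fin 2 → F) = 2 * d := by
    rw [finrank_minus, hdk]
    ring
  -- applying the hypothesis to an element of order `p`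
  have happ : ∀ x : GL ((Fin k ⊕ Fin k) ⊕ Fin 2) F, x ∈ Cfsg.Geo.omegaGL (Cfsg.quadFormMinus k F a b) →
      x ^ p = 1 →
      (∀ z : F, (x : Matrix ((Fin k ⊕ Fin k) ⊕ Fin 2) ((Fin k ⊕ Fin k) ⊕ Fin 2) F) ≠
        z • (1 : Matrix ((Fin k ⊕ Fin k) ⊕ Fin 2) ((Fin k ⊕ Fin k) ⊕ Fin 2) F)) →
      ∃ W : Submodule F ((Fin k ⊕ Fin k) ⊕ Fin 2 → F),
        W ∈ Module.End.invtSubmodule
          (Matrix.toLin' (x : Matrix ((Fin k ⊕ Fin k) ⊕ Fin 2) ((Fin k ⊕ Fin k) ⊕ Fin 2) F)) ∧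
        ND (QuadraticMap.polarBilin (minusForm F k a b)) W ∧ finrank F ↥W = 2 * h + 1 ∧
        OT (minusForm F k a b) W c₀ := by
    intro x hxΩ hxp hxns
    apply hall x hxΩ ⟨1, ?_⟩ hxns
    rw [hxp, one_smul]
    rfl
  rcases Nat.even_or_odd d with hde | hdo
  · -- `d` even
    obtain ⟨t, ht⟩ := hde
    have hcases : (2 * h + 1) % 4 = 1 ∨ (2 * h + 1) % 4 = 3 := by omega
    rcases hcases with h4 | h4
    · -- `m ≡ 1 (mod 4)`
      have hchar : ringChar F ≠ 2 := by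
        rw [ringChar.eq F p]
        exact hp2
      obtain ⟨ε, hε⟩ := FiniteField.exists_nonsquare hchar
      have hε0 : ε ≠ 0 := by
        rintro rfl
        exact hε ⟨0, by ring⟩
      obtain ⟨x, hxΩ, hxp, hxns, hxprof, hxval⟩ := exists_unip_minus_values hp2 hdk hd ⟨t, ht⟩ hab
        (mul_ne_zero hε0 hc₀)
      have hxiso : x ∈ Cfsg.isometryGroup F (Cfsg.quadFormMinus k F a b) := by
        obtain ⟨y, -, rfl⟩ := hxΩ
        exact y.2
      obtain ⟨W, hWinv, hWnd, hWd, hot₀⟩ := happ x hxΩ hxp hxns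
      obtain ⟨w, hw, hQw, hotw⟩ := ot_of_invt_mod_four hp2 hab hxiso hxp hxprof hWnd hWinv (by rw [hWd]; exact h4)
      obtain ⟨s, hs⟩ := hxval w hw.2
      obtain ⟨z, hz, hQz⟩ := exists_perp_repr hVnd hWnd (by rw [hWd, hdim]; omega) (-c₀)
      obtain ⟨t', ht'0, ht'⟩ := ot_unique h2 hVnd hot₀ hotw hc₀ hQw hz hQz
      have hs0 : s ≠ 0 := by
        rintro rfl
        apply hQw
        rw [hs]
        ring
      apply hε
      refine ⟨t' / s, ?_⟩
      have h5 : s * s * (ε * c₀) = t' * t' * c₀ := by rw [← hs, ht']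
      have h6 : s * s * ε = t' * t' := by
        apply mul_right_cancel₀ hc₀
        linear_combination h5
      field_simp
      linear_combination h6
    · -- `m ≡ 3 (mod 4)`
      obtain ⟨x, hxΩ, hxp, hxns, hxprof, hxval⟩ := exists_unip_minus_values hp2 hdk hd ⟨t, ht⟩ hab
        (neg_ne_zero.mpr hc₀)
      have hxiso : x ∈ Cfsg.isometryGroup F (Cfsg.quadFormMinus k F a b) := by
        obtain ⟨y, -, rfl⟩ := hxΩ
        exact y.2
      obtain ⟨W, hWinv, hWnd, hWd, hot₀⟩ := happ x hxΩ hxp hxns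
      have hQT : ∀ v, minusForm F k a b
          (Matrix.toLin' (x : Matrix ((Fin k ⊕ Fin k) ⊕ Fin 2) ((Fin k ⊕ Fin k) ⊕ Fin 2) F) v) =
          minusForm F k a b v := fun v => minus_QT hxiso v
      have hW'inv := perp_invt (iso_of_Q hQT) hp.pos (toLin'_pow_eq_one hxp) hWinv
      have hW'nd := nd_perp_inf hrefl hWnd hVnd le_top
      have hW'd := finrank_perp_inf hrefl hWnd (le_top : W ≤ ⊤)
      rw [inf_top_eq] at hW'nd hW'd
      rw [finrank_top, hdim, hWd] at hW'd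
      obtain ⟨w, hw, hQw, hotw⟩ := ot_of_invt_mod_four hp2 hab hxiso hxp hxprof hW'nd hW'inv (by omega)
      obtain ⟨s, hs⟩ := hxval w hw.2
      obtain ⟨H', u', hH'W', hH'nd, hH'y, hu'W', hu'perp, hQu', hsup⟩ := hotw
      have hy1 : Hyp (minusForm F k a b) (W ⊔ Submodule.span F {u'}) := by
        rw [hyp_ext_iff h2 hVnd hot₀ hc₀ hu'W' (by rw [hQu']; exact hQw)]
        refine ⟨s, ?_⟩
        rw [hQu', hs]
        ring
      have h12 : W ⊔ Submodule.span F {u'} ≤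
          LinearMap.BilinForm.orthogonal (QuadraticMap.polarBilin (minusForm F k a b)) H' := by
        apply sup_le
        · intro v hv
          rw [mem_perp]
          intro w' hw'
          exact hrefl _ _ (mem_perp.mp (hH'W' hw') v hv)
        · rw [Submodule.span_singleton_le_iff_mem]
          exact hu'perp
      have hy2 := hyp_sup hH'nd h12 hH'y hy1
      apply hnot
      have htop : H' ⊔ (W ⊔ Submodule.span F {u'}) = ⊤ := by
        rw [sup_left_comm, hsup]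
        exact (isCompl_perp hrefl hWnd).sup_eq_top
      rw [← htop]
      exact hy2
  · -- `d` odd
    obtain ⟨t, ht⟩ := hdo
    have key : ∀ c n : ℕ, Odd c → 0 < c → c ≤ 3 → 2 * d = 4 * n + c + c → (c = 1 → 1 ≤ n) →
        ∃ j, Even j ∧ 2 * h + 1 = c + 2 * j := by
      intro c n h₁ h10 h13 hdn hc1n
      have g1 : ∀ e ∈ c ::ₘ c ::ₘ Multiset.replicate (2 * n) 2, 0 < e ∧ e ≤ p := by
        intro e he
        rcases Multiset.mem_cons.mp he with he | he
        · rw [he]; exact ⟨h10, by omega⟩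
        rcases Multiset.mem_cons.mp he with he | he
        · rw [he]; exact ⟨h10, by omega⟩
        · rw [Multiset.eq_of_mem_replicate he]
          exact ⟨by norm_num, by omega⟩
      have g2 : ∀ e : ℕ, Even e → Even ((c ::ₘ c ::ₘ Multiset.replicate (2 * n) 2).count e) := by
        intro e he
        have hne1 : e ≠ c := by
          intro hh; rw [hh] at he; exact (Nat.not_even_iff_odd.mpr h₁) he
        rw [Multiset.count_cons_of_ne hne1, Multiset.count_cons_of_ne hne1, Multiset.count_replicate]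
        split_ifs
        · exact even_two_mul n
        · exact Even.zero
      have g3 : (c ::ₘ c ::ₘ Multiset.replicate (2 * n) 2).sum = 2 * k + 2 := by
        rw [Multiset.sum_cons, Multiset.sum_cons, Multiset.sum_replicate, smul_eq_mul]
        omega
      have g4 : ∃ e ∈ c ::ₘ c ::ₘ Multiset.replicate (2 * n) 2, 2 ≤ e := by
        by_cases hc1 : c = 1
        · refine ⟨2, ?_, le_rfl⟩
          apply Multiset.mem_cons_of_mem
          apply Multiset.mem_cons_of_mem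
          rw [Multiset.mem_replicate]
          exact ⟨by have := hc1n hc1; omega, rfl⟩
        · refine ⟨c, Multiset.mem_cons_self _ _, ?_⟩
          obtain ⟨u, hu⟩ := h₁
          omega
      obtain ⟨x, hxΩ, hxp, hxns, hxprof⟩ := exists_unip_minus hp2 (by omega : 2 ≤ k) hab _ g1 g2 g3
        ⟨c, Multiset.mem_cons_self _ _, h₁⟩ g4
      have hxiso : x ∈ Cfsg.isometryGroup F (Cfsg.quadFormMinus k F a b) := by
        obtain ⟨y, -, rfl⟩ := hxΩ
        exact y.2
      obtain ⟨W, hWinv, hWnd, hWd, -⟩ := happ x hxΩ hxp hxns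
      obtain ⟨ν, hνle, hνsum, hνpar, -⟩ := sub_type_minus hp2 hxiso hxp (fun e he => (g1 e he).1) hxprof hWnd hWinv
      rw [hWd] at hνsum
      exact sub_odd_pair h₁ ν hνle hνsum ⟨h, rfl⟩ hνpar
    obtain ⟨j₁, ⟨t₁, ht₁⟩, hj₁⟩ := key 3 ((d - 3) / 2) (by decide) (by norm_num) (by norm_num) (by omega)
      (by omega)
    obtain ⟨j₂, ⟨t₂, ht₂⟩, hj₂⟩ := key 1 ((d - 1) / 2) odd_one (by norm_num) (by norm_num) (by omega)
      (by omega)
    omega

end Cfsg.Agent.Helper7.QMi
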