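import Mathlib
import Cfsg.Agent.Helper7.QMiJ
import Cfsg.Agent.Helper8.OrREvenA
import Cfsg.Agent.Helper8.OmegaEven

set_option autoImplicit false
set_option linter.unusedSectionVars false
set_option linter.unusedVariables false

/-!
# Quadratic spaces in all characteristics: totally singular invariant subspaces of the moved space
-/

namespace Cfsg.Agent.Helper7.OpTS

open Module Polynomial Cfsg.Agent.Helper7.POrd Cfsg.Agent.Helper7.SpOrd Cfsg.Agent.Helper7.SpTI
  Cfsg.Agent.Helper7.OrTS Cfsg.Agent.Helper7.QTy Cfsg.Agent.Helper8.QuadForm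

section basic

variable {F : Type*} [Field F] {V : Type*} [AddCommGroup V] [Module F V]

theorem Q_pow_apply {Q : QuadraticForm F V} {T : Module.End F V} (hQT : ∀ v, Q (T v) = Q v) (n : ℕ) (v : V) :
    Q ((T ^ n) v) = Q v := by
  induction n with
  | zero => simp
  | succ n ih => rw [pow_succ', Module.End.mul_apply, hQT, ih]

/-- the value of the form on a partial orbit sum inside an invariant totally isotropic subspace. -/
theorem Q_sum_pow {Q : QuadraticForm F V} {T : Module.End F V} (hQT : ∀ v, Q (T v) = Q v)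
    {L : Submodule F V} (hL : L ∈ Module.End.invtSubmodule T) (hti : TI (QuadraticMap.polarBilin Q) L)
    {u : V} (hu : u ∈ L) (n : ℕ) :
    (∑ t ∈ Finset.range n, (T ^ t) u) ∈ L ∧ Q (∑ t ∈ Finset.range n, (T ^ t) u) = (n : F) * Q u := by
  induction n with
  | zero => simp
  | succ n ih =>
    obtain ⟨h1, h2⟩ := ih
    have h3 : (T ^ n) u ∈ L := invt_pow_apply hL hu n
    rw [Finset.sum_range_succ]
    refine ⟨L.add_mem h1 h3, ?_⟩
    rw [QuadraticMap.map_add Q, h2, Q_pow_apply hQT, ← pB_apply, hti _ h1 _ h3]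
    push_cast
    ring

/-- **totally isotropic invariant subspaces of the moved space are totally singular**, in every characteristic
prime to `r`. -/
theorem ts_of_ti_mov {r : ℕ} (hrF : (r : F) ≠ 0) {Q : QuadraticForm F V} {T : Module.End F V}
    (hQT : ∀ v, Q (T v) = Q v) {L : Submodule F V} (hL : L ∈ Module.End.invtSubmodule T)
    (hLmov : L ≤ movS r T) (hti : TI (QuadraticMap.polarBilin Q) L) : TS Q L := by
  intro u hu
  have h1 := mem_movS.mp (hLmov hu)
  unfold Phi at h1
  rw [LinearMap.sum_apply] at h1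
  obtain ⟨-, h2⟩ := Q_sum_pow hQT hL hti hu r
  rw [h1, QuadraticMap.map_zero] at h2
  exact (mul_eq_zero.mp h2.symm).resolve_left hrF

theorem pB_isAlt_of_two (h2 : (2 : F) = 0) (Q : QuadraticForm F V) : (QuadraticMap.polarBilin Q).IsAlt := by
  intro v
  rw [pB_apply, polar_self', h2, zero_mul]

end basic

variable {F : Type*} [Field F] [Fintype F] {V : Type*} [AddCommGroup V] [Module F V] [Finite V]
  {p : ℕ} [Fact p.Prime] [CharP F p] {r : ℕ} [Fact r.Prime]

/-- **totally singular invariant subspaces of the moved space**, all characteristics. -/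
theorem exists_ts_mov_q (hr2 : r ≠ 2) (hrp : r ≠ p) {Q : QuadraticForm F V}
    (hV : ND (QuadraticMap.polarBilin Q) ⊤) {T : Module.End F V} (hQT : ∀ v, Q (T v) = Q v)
    (hT : T ^ r = 1) (b : ℕ)
    (hb : if Even (orderOf ((Fintype.card F : ℕ) : ZMod r)) then
        (r - 1) + 2 * orderOf ((Fintype.card F : ℕ) : ZMod r) * b <
          finrank F ↥(movS r T) + 2 * orderOf ((Fintype.card F : ℕ) : ZMod r)
      else 2 * orderOf ((Fintype.card F : ℕ) : ZMod r) * b ≤ finrank F ↥(movS r T)) :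
    ∃ L : Submodule F V, L ≤ movS r T ∧ L ∈ Module.End.invtSubmodule T ∧ TS Q L ∧
      finrank F ↥L = orderOf ((Fintype.card F : ℕ) : ZMod r) * b := by
  have hrF : (r : F) ≠ 0 := natCast_ne_zero_of_ne hrp
  by_cases h2 : (2 : F) = 0
  · obtain ⟨L, h1, h3, h4, h5⟩ := exists_ti_mov hr2 hrp (pB_isAlt_of_two h2 Q) hV (iso_of_Q hQT) hT b hb
    exact ⟨L, h1, h3, ts_of_ti_mov hrF hQT h3 h1 h4, h5⟩
  · obtain ⟨L, h1, h3, h4, h5⟩ := exists_ti_mov_s h2 hr2 hrp (pB_symm' Q) hV (iso_of_Q hQT) hT b hb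
    exact ⟨L, h1, h3, ts_of_ti_mov hrF hQT h3 h1 h4, h5⟩

end Cfsg.Agent.Helper7.OpTS
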