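import Mathlib
import Cfsg.Agent.Helper7.OpTSA

set_option autoImplicit false
set_option linter.unusedSectionVars false
set_option linter.unusedVariables false

/-!
# The sign of a nondegenerate subspace of even dimension, all characteristics

`sg Q W = 1` when `W` is of plus type, `-1` otherwise.  The sign is multiplicative on orthogonal sums (through
the count of singular vectors), and the sign of a nondegenerate invariant subspace without fixed vectors is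
determined by its dimension.
-/

namespace Cfsg.Agent.Helper7.OpTS

open Module Polynomial Cfsg.Agent.Helper7.POrd Cfsg.Agent.Helper7.SpOrd Cfsg.Agent.Helper7.SpTI
  Cfsg.Agent.Helper7.OrTS Cfsg.Agent.Helper7.QTy Cfsg.Agent.Helper7.QPa Cfsg.Agent.Helper8.QuadForm
  Cfsg.Agent.Helper8.OrT Cfsg.Agent.Helper8.OrR Cfsg.Agent.Helper8.StdForms

universe u v

variable {F : Type v} [Field F] [Fintype F] {V : Type u} [AddCommGroup V] [Module F V] [FiniteDimensional F V]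

/-- the sign of a subspace. -/
noncomputable def sg (Q : QuadraticForm F V) (W : Submodule F V) : ℤ :=
  letI := Classical.propDecidable (Hyp Q W)
  if Hyp Q W then 1 else -1

theorem sg_eq_one_iff {Q : QuadraticForm F V} {W : Submodule F V} : sg Q W = 1 ↔ Hyp Q W := by
  unfold sg
  split_ifs with h
  · exact ⟨fun _ => h, fun _ => rfl⟩
  · exact ⟨fun h1 => absurd h1 (by norm_num), fun h1 => absurd h1 h⟩

theorem sg_eq_neg_one_iff {Q : QuadraticForm F V} {W : Submodule F V} : sg Q W = -1 ↔ ¬ Hyp Q W := by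
  unfold sg
  split_ifs with h
  · exact ⟨fun h1 => absurd h1 (by norm_num), fun h1 => absurd h h1⟩
  · exact ⟨fun _ => h, fun _ => rfl⟩

theorem sg_cases (Q : QuadraticForm F V) (W : Submodule F V) : sg Q W = 1 ∨ sg Q W = -1 := by
  unfold sg
  split_ifs
  · exact Or.inl rfl
  · exact Or.inr rfl

theorem sg_bot (Q : QuadraticForm F V) : sg Q ⊥ = 1 := sg_eq_one_iff.mpr (hyp_bot Q)

/-- the count of singular vectors of a plus type subspace. -/
theorem nuS_of_hyp {Q : QuadraticForm F V} (hV : ND (QuadraticMap.polarBilin Q) ⊤) {W : Submodule F V}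
    (hW : ND (QuadraticMap.polarBilin Q) W) {k : ℕ} (hd : finrank F ↥W = 2 * (k + 1)) (hy : Hyp Q W) :
    NuS 1 (Q.comp W.subtype) k := by
  have h1 := card_singular_hyp hV (k + 1) W hW hd hy
  unfold NuS lev
  have h2 : Nat.card {v : ↥W // (Q.comp W.subtype) v = 0} = Nat.card {w : ↥W // Q (w : V) = 0} := rfl
  rw [h2]
  have hq : 1 ≤ Fintype.card F := Fintype.card_pos
  have hq0 : ((Fintype.card F : ℕ) : ℤ) ≠ 0 := by
    have : (0 : ℤ) < ((Fintype.card F : ℕ) : ℤ) := by exact_mod_cast hq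
    exact this.ne'
  have h3 : ((Nat.card {w : ↥W // Q (w : V) = 0} : ℕ) : ℤ) * ((Fintype.card F : ℕ) : ℤ) =
      ((Fintype.card F : ℕ) : ℤ) ^ (k + 1) * (((Fintype.card F : ℕ) : ℤ) ^ (k + 1) +
        (((Fintype.card F : ℕ) : ℤ) - 1)) := by
    have := congrArg (fun n : ℕ => (n : ℤ)) h1
    push_cast [Nat.cast_sub hq] at this
    exact this
  apply mul_right_cancel₀ hq0
  rw [h3]
  ring

/-- the count of singular vectors of a subspace that is not of plus type. -/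
theorem nuS_of_not_hyp {Q : QuadraticForm F V} {W : Submodule F V}
    (hW : ND (QuadraticMap.polarBilin Q) W) {k : ℕ} (hd : finrank F ↥W = 2 * (k + 1)) (hy : ¬ Hyp Q W) :
    NuS (-1) (Q.comp W.subtype) k := by
  rcases dichotomy k hd (Q.comp W.subtype) (nondeg_comp_of_nd hW) with ⟨-, φ, hφ⟩ | ⟨h, -⟩
  · exfalso
    apply hy
    rw [← sub_hyp_top_iff]
    apply hyp_of_map_emb (Q := plusForm F (k + 1)) (ι := (φ : ↥W →ₗ[F] (Fin (k + 1) ⊕ Fin (k + 1) → F)))
      φ.injective hφ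
    have : (⊤ : Submodule F ↥W).map (φ : ↥W →ₗ[F] (Fin (k + 1) ⊕ Fin (k + 1) → F)) = ⊤ := by
      rw [Submodule.map_top]
      exact LinearEquiv.range φ
    rw [this]
    exact plus_hyp_top (k + 1)
  · exact h

theorem nuS_sg {Q : QuadraticForm F V} (hV : ND (QuadraticMap.polarBilin Q) ⊤) {W : Submodule F V}
    (hW : ND (QuadraticMap.polarBilin Q) W) {k : ℕ} (hd : finrank F ↥W = 2 * (k + 1)) :
    NuS (sg Q W) (Q.comp W.subtype) k := by
  by_cases hy : Hyp Q W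
  · rw [sg_eq_one_iff.mpr hy]
    exact nuS_of_hyp hV hW hd hy
  · rw [sg_eq_neg_one_iff.mpr hy]
    exact nuS_of_not_hyp hW hd hy

theorem sg_eq_of_nuS {Q : QuadraticForm F V} (hV : ND (QuadraticMap.polarBilin Q) ⊤) {W : Submodule F V}
    (hW : ND (QuadraticMap.polarBilin Q) W) {k : ℕ} (hd : finrank F ↥W = 2 * (k + 1)) {s : ℤ}
    (hs : NuS s (Q.comp W.subtype) k) : sg Q W = s :=
  (nuS_sg hV hW hd).unique hs

/-- the sum of two orthogonal subspaces, as a product. -/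
theorem exists_prod_iso {Q : QuadraticForm F V} {W₁ W₂ : Submodule F V}
    (h₁ : ND (QuadraticMap.polarBilin Q) W₁)
    (h12 : W₂ ≤ LinearMap.BilinForm.orthogonal (QuadraticMap.polarBilin Q) W₁) :
    ∃ e : (↥W₁ × ↥W₂) ≃ₗ[F] ↥(W₁ ⊔ W₂), ∀ x,
      (Q.comp (W₁ ⊔ W₂).subtype) (e x) = ((Q.comp W₁.subtype).prod (Q.comp W₂.subtype)) x := by
  have hdisj : Disjoint W₁ W₂ := disjoint_of_le_perp (pB_refl Q) h₁ h12
  obtain ⟨f, hf⟩ : ∃ f : (↥W₁ × ↥W₂) →ₗ[F] ↥(W₁ ⊔ W₂), ∀ x, ((f x : ↥(W₁ ⊔ W₂)) : V) = (x.1 : V) + (x.2 : V) :=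
    ⟨LinearMap.coprod (Submodule.inclusion le_sup_left) (Submodule.inclusion le_sup_right), fun x => rfl⟩
  have hinj : Function.Injective f := by
    rw [← LinearMap.ker_eq_bot, eq_bot_iff]
    intro x hx
    rw [LinearMap.mem_ker] at hx
    have h1 := congrArg Subtype.val hx
    rw [hf] at h1
    simp only [ZeroMemClass.coe_zero] at h1
    have h2 : (x.1 : V) ∈ W₁ ⊓ W₂ := by
      refine ⟨x.1.2, ?_⟩
      have : (x.1 : V) = -(x.2 : V) := eq_neg_of_add_eq_zero_left h1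
      rw [SetLike.mem_coe, this]
      exact W₂.neg_mem x.2.2
    rw [hdisj.eq_bot, Submodule.mem_bot] at h2
    rw [h2, zero_add] at h1
    rw [Submodule.mem_bot]
    exact Prod.ext (Subtype.ext h2) (Subtype.ext h1)
  have hsurj : Function.Surjective f := by
    rintro ⟨w, hw⟩
    obtain ⟨a, ha, b, hb, rfl⟩ := Submodule.mem_sup.mp hw
    exact ⟨(⟨a, ha⟩, ⟨b, hb⟩), Subtype.ext (hf _)⟩
  obtain ⟨e, he⟩ : ∃ e : (↥W₁ × ↥W₂) ≃ₗ[F] ↥(W₁ ⊔ W₂), ∀ x, e x = f x :=
    ⟨LinearEquiv.ofBijective f ⟨hinj, hsurj⟩, fun x => rfl⟩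
  refine ⟨e, fun x => ?_⟩
  rw [he, QuadraticMap.comp_apply, Submodule.subtype_apply, hf,
    QuadraticMap.map_add Q, QuadraticMap.prod_apply, QuadraticMap.comp_apply, QuadraticMap.comp_apply,
    Submodule.subtype_apply, Submodule.subtype_apply]
  have : QuadraticMap.polar Q (x.1 : V) (x.2 : V) = 0 := mem_perp.mp (h12 x.2.2) _ x.1.2
  rw [this, add_zero]

/-- **the sign is multiplicative on orthogonal sums.** -/
theorem sg_sup {Q : QuadraticForm F V} (hV : ND (QuadraticMap.polarBilin Q) ⊤) {W₁ W₂ : Submodule F V}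
    (h₁ : ND (QuadraticMap.polarBilin Q) W₁) (h₂ : ND (QuadraticMap.polarBilin Q) W₂)
    (h12 : W₂ ≤ LinearMap.BilinForm.orthogonal (QuadraticMap.polarBilin Q) W₁)
    (he₁ : Even (finrank F ↥W₁)) (he₂ : Even (finrank F ↥W₂)) :
    sg Q (W₁ ⊔ W₂) = sg Q W₁ * sg Q W₂ := by
  by_cases hz₁ : finrank F ↥W₁ = 0
  · have : W₁ = ⊥ := Submodule.finrank_eq_zero.mp hz₁
    rw [this, bot_sup_eq, sg_bot, one_mul]
  by_cases hz₂ : finrank F ↥W₂ = 0
  · have : W₂ = ⊥ := Submodule.finrank_eq_zero.mp hz₂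
    rw [this, sup_bot_eq, sg_bot, mul_one]
  obtain ⟨k₁, hk₁⟩ : ∃ k₁, finrank F ↥W₁ = 2 * (k₁ + 1) := by
    obtain ⟨a, ha⟩ := he₁
    exact ⟨a - 1, by omega⟩
  obtain ⟨k₂, hk₂⟩ : ∃ k₂, finrank F ↥W₂ = 2 * (k₂ + 1) := by
    obtain ⟨a, ha⟩ := he₂
    exact ⟨a - 1, by omega⟩
  have hsupnd : ND (QuadraticMap.polarBilin Q) (W₁ ⊔ W₂) := nd_sup (pB_refl Q) h₁ h₂ h12
  have hsupd : finrank F ↥(W₁ ⊔ W₂) = 2 * ((k₁ + k₂ + 1) + 1) := by
    rw [finrank_sup_of_le_perp (pB_refl Q) h₁ h12, hk₁, hk₂]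
    ring
  obtain ⟨e, he⟩ := exists_prod_iso h₁ h12
  have hprod := nuS_prod k₁ k₂ hk₁ hk₂ (Q.comp W₁.subtype) (Q.comp W₂.subtype) (nondeg_comp_of_nd h₁)
    (nondeg_comp_of_nd h₂) _ _ (nuS_sg hV h₁ hk₁) (nuS_sg hV h₂ hk₂)
  exact sg_eq_of_nuS hV hsupnd hsupd (NuS.congr e he hprod)

end Cfsg.Agent.Helper7.OpTS
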