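import Mathlib
import Cfsg.Agent.Helper7.OpTSB

set_option autoImplicit false
set_option linter.unusedSectionVars false
set_option linter.unusedVariables false

/-!
# The sign of the moved space and of the fixed space of an isometry of odd prime order
-/

namespace Cfsg.Agent.Helper7.OpTS

open Module Polynomial Cfsg.Agent.Helper7.POrd Cfsg.Agent.Helper7.SpOrd Cfsg.Agent.Helper7.SpTI
  Cfsg.Agent.Helper7.OrTS Cfsg.Agent.Helper7.QTy Cfsg.Agent.Helper7.QPa Cfsg.Agent.Helper8.QuadForm
  Cfsg.Agent.Helper8.OrT Cfsg.Agent.Helper8.OrR Cfsg.Agent.Helper8.StdForms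

universe u v

variable {F : Type v} [Field F] [Fintype F] {V : Type u} [AddCommGroup V] [Module F V] [FiniteDimensional F V]
  {p : ℕ} [Fact p.Prime] [CharP F p] {r : ℕ} [Fact r.Prime]

/-- the dimension of a nondegenerate invariant subspace without fixed vectors, all characteristics. -/
theorem cOf_dvd_finrank_q (hr2 : r ≠ 2) (hrp : r ≠ p) {Q : QuadraticForm F V} {T : Module.End F V}
    (hQT : ∀ v, Q (T v) = Q v) (hT : T ^ r = 1) {W : Submodule F V}
    (hW : W ∈ Module.End.invtSubmodule T) (hWnd : ND (QuadraticMap.polarBilin Q) W)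
    (hfix : W ⊓ fixS T = ⊥) : cOf (orderOf ((Fintype.card F : ℕ) : ZMod r)) ∣ finrank F ↥W := by
  haveI : Finite V := Module.finite_of_finite F
  by_cases h2 : (2 : F) = 0
  · exact cOf_dvd_finrank hr2 hrp (pB_isAlt_of_two h2 Q) (iso_of_Q hQT) hT _ W rfl hW hWnd hfix
  · exact cOf_dvd_finrank_s h2 hr2 hrp (pB_symm' Q) (iso_of_Q hQT) hT _ W rfl hW hWnd hfix

theorem not_dvd_card (hrp : r ≠ p) : ¬ r ∣ Fintype.card F := by
  intro h
  have := card_natCast_ne_zero (F := F) (p := p) (r := r) hrp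
  exact this ((ZMod.natCast_eq_zero_iff _ _).mpr h)

/-- **the sign of an invariant nondegenerate subspace without fixed vectors.** -/
theorem sg_of_fpf (hr2 : r ≠ 2) (hrp : r ≠ p) {Q : QuadraticForm F V}
    (hV : ND (QuadraticMap.polarBilin Q) ⊤) {T : Module.End F V}
    (hQT : ∀ v, Q (T v) = Q v) (hT : T ^ r = 1) {W : Submodule F V}
    (hW : W ∈ Module.End.invtSubmodule T) (hWnd : ND (QuadraticMap.polarBilin Q) W)
    (hfix : W ⊓ fixS T = ⊥) :
    sg Q W = typ (orderOf ((Fintype.card F : ℕ) : ZMod r))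
      (finrank F ↥W / orderOf ((Fintype.card F : ℕ) : ZMod r)) := by
  haveI : Finite V := Module.finite_of_finite F
  have hr : r.Prime := Fact.out
  have hrpos : 0 < r := hr.pos
  obtain ⟨i, hi⟩ : ∃ i, i = orderOf ((Fintype.card F : ℕ) : ZMod r) := ⟨_, rfl⟩
  rw [← hi]
  have hipos : 0 < i := by rw [hi]; exact orderOf_q_pos hrp
  have hc := cOf_dvd_finrank_q hr2 hrp hQT hT hW hWnd hfix
  rw [← hi] at hc
  obtain ⟨s, hs⟩ := hc
  by_cases hs0 : s = 0
  · have hW0 : W = ⊥ := by
      apply Submodule.finrank_eq_zero.mp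
      rw [hs, hs0, mul_zero]
    rw [hW0, sg_bot, finrank_bot, Nat.zero_div]
    unfold typ
    rw [if_pos (Or.inr ⟨0, rfl⟩)]
  -- the dimension
  obtain ⟨S, hS, hSodd⟩ : ∃ S, finrank F ↥W = S * i ∧ (Odd i → Even S) := by
    by_cases hev : Even i
    · refine ⟨s, ?_, fun ho => absurd hev (Nat.not_even_iff_odd.mpr ho)⟩
      rw [hs]
      unfold cOf
      rw [if_pos hev, mul_comm]
    · refine ⟨2 * s, ?_, fun _ => ⟨s, by ring⟩⟩
      rw [hs]
      unfold cOf
      rw [if_neg hev]
      ring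
  have hdiv : finrank F ↥W / i = S := by rw [hS, Nat.mul_div_cancel _ hipos]
  rw [hdiv]
  obtain ⟨k, hk⟩ : ∃ k, finrank F ↥W = 2 * (k + 1) := by
    obtain ⟨a, ha⟩ := cOf_even i
    have hcpos := cOf_pos hipos
    have : 0 < cOf i * s := Nat.mul_pos hcpos (by omega)
    rw [ha, ← two_mul, mul_assoc] at hs
    refine ⟨a * s - 1, ?_⟩
    rw [hs]
    have : 0 < a * s := by
      rw [ha, ← two_mul, mul_assoc] at this
      omega
    omega
  -- the restriction
  have hWT : ∀ x ∈ W, T x ∈ W := fun x hx => invt_apply hW hx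
  have hWT' : ∀ x ∈ W, (T ^ (r - 1)) x ∈ W := fun x hx => invt_pow_apply hW hx (r - 1)
  have h1 : T * T ^ (r - 1) = 1 := by rw [← pow_succ', Nat.sub_add_cancel hrpos, hT]
  have h2 : T ^ (r - 1) * T = 1 := by rw [← pow_succ, Nat.sub_add_cancel hrpos, hT]
  obtain ⟨g, hg⟩ : ∃ g : ↥W ≃ₗ[F] ↥W, ∀ w, ((g w : ↥W) : V) = T (w : V) := by
    refine ⟨LinearEquiv.ofLinear (T.restrict hWT) ((T ^ (r - 1)).restrict hWT') ?_ ?_, fun w => rfl⟩
    · apply LinearMap.ext
      intro w
      apply Subtype.ext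
      rw [LinearMap.comp_apply, LinearMap.restrict_coe_apply, LinearMap.restrict_coe_apply,
        ← Module.End.mul_apply, h1]
      rfl
    · apply LinearMap.ext
      intro w
      apply Subtype.ext
      rw [LinearMap.comp_apply, LinearMap.restrict_coe_apply, LinearMap.restrict_coe_apply,
        ← Module.End.mul_apply, h2]
      rfl
  have hgpow : ∀ (n : ℕ) (w : ↥W), (((g ^ n) w : ↥W) : V) = (T ^ n) (w : V) := by
    intro n
    induction n with
    | zero => intro w; simp
    | succ n ih =>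
      intro w
      rw [pow_succ, LinearEquiv.mul_apply, ih, hg, pow_succ, Module.End.mul_apply]
  have hgr : g ^ r = 1 := by
    apply LinearEquiv.ext
    intro w
    apply Subtype.ext
    rw [hgpow, hT]
    rfl
  have hgQ : ∀ w, (Q.comp W.subtype) (g w) = (Q.comp W.subtype) w := by
    intro w
    rw [QuadraticMap.comp_apply, QuadraticMap.comp_apply, Submodule.subtype_apply, Submodule.subtype_apply,
      hg, hQT]
  have hgfix : ∀ w, g w = w → w = 0 := by
    intro w hw
    have h3 : (w : V) ∈ W ⊓ fixS T := by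
      refine ⟨w.2, ?_⟩
      rw [SetLike.mem_coe, mem_fixS, ← hg, hw]
    rw [hfix, Submodule.mem_bot] at h3
    exact Subtype.ext h3
  exact typ_of_isometry k hk (Q.comp W.subtype) (nondeg_comp_of_nd hWnd) (sg Q W) (sg_cases Q W)
    (nuS_sg hV hWnd hk) r hr hr2 (not_dvd_card hrp) g hgQ hgr hgfix i S hi hipos (by rw [← hk, hS]) hSodd

/-- **the sign of the fixed space.** -/
theorem sg_fix (hr2 : r ≠ 2) (hrp : r ≠ p) {Q : QuadraticForm F V}
    (hV : ND (QuadraticMap.polarBilin Q) ⊤) {T : Module.End F V}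
    (hQT : ∀ v, Q (T v) = Q v) (hT : T ^ r = 1) (hn : Even (finrank F V)) :
    sg Q ⊤ = sg Q (fixS T) * typ (orderOf ((Fintype.card F : ℕ) : ZMod r))
      (finrank F ↥(movS r T) / orderOf ((Fintype.card F : ℕ) : ZMod r)) := by
  haveI : Finite V := Module.finite_of_finite F
  have hrF : (r : F) ≠ 0 := natCast_ne_zero_of_ne hrp
  have hrefl := pB_refl Q
  have hiso := iso_of_Q hQT
  have hmovnd : ND (QuadraticMap.polarBilin Q) (movS r T) := by
    have := nd_inf_mov hrefl hiso hrF hT (Module.End.invtSubmodule.top_mem T) hV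
    rwa [top_inf_eq] at this
  have hfixnd : ND (QuadraticMap.polarBilin Q) (fixS T) := by
    have := nd_inf_fix hrefl hiso hrF hT (Module.End.invtSubmodule.top_mem T) hV
    rwa [top_inf_eq] at this
  have hmovfix : movS r T ⊓ fixS T = ⊥ := by
    rw [inf_comm]
    exact (disjoint_fix_mov hrF T).eq_bot
  have hperp : movS r T ≤ LinearMap.BilinForm.orthogonal (QuadraticMap.polarBilin Q) (fixS T) := by
    intro w hw
    rw [mem_perp]
    intro c hc
    exact fix_perp_mov hiso hrF hc hw
  have hc := cOf_dvd_finrank_q hr2 hrp hQT hT (movS_invt r T) hmovnd hmovfix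
  have hmove : Even (finrank F ↥(movS r T)) := (cOf_even _).trans_dvd hc
  have hsum := finrank_fix_add_mov hrF hT
  have hfixe : Even (finrank F ↥(fixS T)) := by
    by_contra hcon
    rw [Nat.not_even_iff_odd] at hcon
    have := hcon.add_even hmove
    rw [hsum] at this
    exact (Nat.not_even_iff_odd.mpr this) hn
  have htop := (isCompl_fix_mov hrF hT).sup_eq_top
  rw [← htop, sg_sup hV hfixnd hmovnd hperp hfixe hmove,
    sg_of_fpf hr2 hrp hV hQT hT (movS_invt r T) hmovnd hmovfix]

end Cfsg.Agent.Helper7.OpTS
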