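import Mathlib
import Cfsg.Agent.Helper7.OpTSC

set_option autoImplicit false
set_option linter.unusedSectionVars false
set_option linter.unusedVariables false

/-!
# Invariant totally singular subspaces of an isometry of odd prime order: existence from the dimensions
-/

namespace Cfsg.Agent.Helper7.OpTS

open Module Polynomial Cfsg.Agent.Helper7.POrd Cfsg.Agent.Helper7.SpOrd Cfsg.Agent.Helper7.SpTI
  Cfsg.Agent.Helper7.OrTS Cfsg.Agent.Helper7.QTy Cfsg.Agent.Helper7.QPa Cfsg.Agent.Helper8.QuadForm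
  Cfsg.Agent.Helper8.OrT Cfsg.Agent.Helper8.OrR Cfsg.Agent.Helper8.StdForms

universe u v

variable {F : Type v} [Field F] [Fintype F] {V : Type u} [AddCommGroup V] [Module F V] [FiniteDimensional F V]
  {p : ℕ} [Fact p.Prime] [CharP F p] {r : ℕ} [Fact r.Prime]

/-- **existence from the dimensions of the moved part and of the fixed part.** -/
theorem exists_ts_invt_q (hr2 : r ≠ 2) (hrp : r ≠ p) {Q : QuadraticForm F V}
    (hV : ND (QuadraticMap.polarBilin Q) ⊤) {T : Module.End F V}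
    (hQT : ∀ v, Q (T v) = Q v) (hT : T ^ r = 1) {m : ℕ}
    (h : ∃ b w, m = orderOf ((Fintype.card F : ℕ) : ZMod r) * b + w ∧
      (b = 0 ∨ if Even (orderOf ((Fintype.card F : ℕ) : ZMod r)) then
        (r - 1) + 2 * orderOf ((Fintype.card F : ℕ) : ZMod r) * b <
          finrank F ↥(movS r T) + 2 * orderOf ((Fintype.card F : ℕ) : ZMod r)
        else 2 * orderOf ((Fintype.card F : ℕ) : ZMod r) * b ≤ finrank F ↥(movS r T)) ∧
      (2 * w < finrank F ↥(fixS T) ∨ (2 * w = finrank F ↥(fixS T) ∧ Hyp Q (fixS T)))) :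
    ∃ W : Submodule F V, W ∈ Module.End.invtSubmodule T ∧ TS Q W ∧ finrank F ↥W = m := by
  haveI : Finite V := Module.finite_of_finite F
  have hrF : (r : F) ≠ 0 := natCast_ne_zero_of_ne hrp
  have hrefl := pB_refl Q
  have hiso := iso_of_Q hQT
  obtain ⟨b, w, hm, hb, hw⟩ := h
  have hfixnd : ND (QuadraticMap.polarBilin Q) (fixS T) := by
    have := nd_inf_fix hrefl hiso hrF hT (Module.End.invtSubmodule.top_mem T) hV
    rwa [top_inf_eq] at this
  have hmovfix : movS r T ⊓ fixS T = ⊥ := by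
    rw [inf_comm]
    exact (disjoint_fix_mov hrF T).eq_bot
  -- the moved part
  have hL : ∃ L : Submodule F V, L ≤ movS r T ∧ L ∈ Module.End.invtSubmodule T ∧ TS Q L ∧
      finrank F ↥L = orderOf ((Fintype.card F : ℕ) : ZMod r) * b := by
    rcases hb with hb0 | hb
    · exact ⟨⊥, bot_le, Module.End.invtSubmodule.bot_mem T, ts_bot Q, by rw [hb0, finrank_bot, mul_zero]⟩
    · exact exists_ts_mov_q hr2 hrp hV hQT hT b hb
  obtain ⟨L, hLmov, hLinv, hLts, hLd⟩ := hL
  -- the fixed part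
  have hL₀ : ∃ L₀ : Submodule F V, L₀ ≤ fixS T ∧ TS Q L₀ ∧ finrank F ↥L₀ = w := by
    rcases hw with hw | ⟨hw, hy⟩
    · exact exists_ts_of_lt hV w (fixS T) hfixnd hw
    · obtain ⟨U, hU1, hU2, hU3⟩ := hy
      exact ⟨U, hU1, hU2, by omega⟩
  obtain ⟨L₀, hL₀fix, hL₀ts, hL₀d⟩ := hL₀
  have hL₀inv : L₀ ∈ Module.End.invtSubmodule T := invt_of_le_fixS hL₀fix
  refine ⟨L ⊔ L₀, sup_invt hLinv hL₀inv, ts_sup hLts hL₀ts ?_, ?_⟩
  · intro u hu v hv
    rw [← pB_apply]
    exact hrefl _ _ (fix_perp_mov hiso hrF (hL₀fix hv) (hLmov hu))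
  · have hdisj : L ⊓ L₀ = ⊥ := by
      rw [eq_bot_iff, ← hmovfix]
      exact inf_le_inf hLmov hL₀fix
    have h4 := Submodule.finrank_sup_add_finrank_inf_eq L L₀
    rw [hdisj, finrank_bot, add_zero] at h4
    rw [h4, hLd, hL₀d, hm]

/-- **the structure of an isometry of odd prime order**: the dimensions and the type of the fixed space. -/
theorem struct_q (hr2 : r ≠ 2) (hrp : r ≠ p) {Q : QuadraticForm F V}
    (hV : ND (QuadraticMap.polarBilin Q) ⊤) {T : Module.End F V}
    (hQT : ∀ v, Q (T v) = Q v) (hT : T ^ r = 1) (hn : Even (finrank F V)) :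
    ∃ s : ℕ, finrank F ↥(movS r T) = cOf (orderOf ((Fintype.card F : ℕ) : ZMod r)) * s ∧
      finrank F ↥(fixS T) + cOf (orderOf ((Fintype.card F : ℕ) : ZMod r)) * s = finrank F V ∧
      (Hyp Q (fixS T) ↔ (Hyp Q ⊤ ↔ (Odd (orderOf ((Fintype.card F : ℕ) : ZMod r)) ∨ Even s))) := by
  haveI : Finite V := Module.finite_of_finite F
  have hrF : (r : F) ≠ 0 := natCast_ne_zero_of_ne hrp
  have hrefl := pB_refl Q
  have hiso := iso_of_Q hQT
  have hmovnd : ND (QuadraticMap.polarBilin Q) (movS r T) := by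
    have := nd_inf_mov hrefl hiso hrF hT (Module.End.invtSubmodule.top_mem T) hV
    rwa [top_inf_eq] at this
  have hmovfix : movS r T ⊓ fixS T = ⊥ := by
    rw [inf_comm]
    exact (disjoint_fix_mov hrF T).eq_bot
  obtain ⟨s, hs⟩ := cOf_dvd_finrank_q hr2 hrp hQT hT (movS_invt r T) hmovnd hmovfix
  have hsum := finrank_fix_add_mov hrF hT
  refine ⟨s, hs, by rw [← hs]; exact hsum, ?_⟩
  have hsg := sg_fix hr2 hrp hV hQT hT hn
  obtain ⟨i, hi⟩ : ∃ i, i = orderOf ((Fintype.card F : ℕ) : ZMod r) := ⟨_, rfl⟩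
  rw [← hi] at hs hsg ⊢
  have hipos : 0 < i := by rw [hi]; exact orderOf_q_pos hrp
  have htyp : typ i (finrank F ↥(movS r T) / i) = 1 ↔ (Odd i ∨ Even s) := by
    unfold typ
    by_cases hev : Even i
    · have : finrank F ↥(movS r T) / i = s := by
        rw [hs]
        unfold cOf
        rw [if_pos hev, Nat.mul_div_cancel_left _ hipos]
      rw [this]
      split_ifs with h
      · exact ⟨fun _ => h, fun _ => rfl⟩
      · exact ⟨fun h1 => absurd h1 (by norm_num), fun h1 => absurd h1 h⟩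
    · have hodd : Odd i := Nat.not_even_iff_odd.mp hev
      rw [if_pos (Or.inl hodd)]
      exact ⟨fun _ => Or.inl hodd, fun _ => rfl⟩
  rw [← sg_eq_one_iff, ← sg_eq_one_iff, ← htyp]
  rcases sg_cases Q (fixS T) with h1 | h1 <;> rcases typ_eq i (finrank F ↥(movS r T) / i) with h2 | h2 <;>
    rw [h1, h2] at hsg <;> rw [hsg, h1, h2] <;> norm_num

end Cfsg.Agent.Helper7.OpTS
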