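import Mathlib
import Cfsg.Agent.Helper7.OpTSD

set_option autoImplicit false
set_option linter.unusedSectionVars false
set_option linter.unusedVariables false

/-!
# Counting totally singular subspaces of a nondegenerate quadratic space of even dimension, all characteristics
-/

namespace Cfsg.Agent.Helper7.OpTS

open Module Polynomial Cfsg.Agent.Helper7.POrd Cfsg.Agent.Helper7.SpOrd Cfsg.Agent.Helper7.SpTI
  Cfsg.Agent.Helper7.OrTS Cfsg.Agent.Helper7.QTy Cfsg.Agent.Helper7.QPa Cfsg.Agent.Helper8.QuadForm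

universe u

variable {F : Type*} [Field F] {V : Type u} [AddCommGroup V] [Module F V]

/-- linearly independent tuples spanning a totally singular subspace. -/
abbrev TSInd (Q : QuadraticForm F V) (k : ℕ) : Type _ :=
  {s : Fin k → V // LinearIndependent F s ∧ (∀ a, Q (s a) = 0) ∧ ∀ a b, QuadraticMap.polar Q (s a) (s b) = 0}

/-- totally singular subspaces of dimension `m`. -/
abbrev TSSub (Q : QuadraticForm F V) (m : ℕ) : Type _ :=
  {W : Submodule F V // finrank F ↥W = m ∧ TS Q W}

theorem ts_span_range {Q : QuadraticForm F V} {k : ℕ} {s : Fin k → V} (h1 : ∀ a, Q (s a) = 0)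
    (h2 : ∀ a b, QuadraticMap.polar Q (s a) (s b) = 0) : TS Q (Submodule.span F (Set.range s)) := by
  have hti : TI (QuadraticMap.polarBilin Q) (Submodule.span F (Set.range s)) :=
    ti_span_range (B := QuadraticMap.polarBilin Q) h2
  intro w hw
  induction hw using Submodule.span_induction with
  | mem x hx =>
    obtain ⟨a, rfl⟩ := hx
    exact h1 a
  | zero => exact QuadraticMap.map_zero Q
  | add x y hx hy hx' hy' =>
    rw [QuadraticMap.map_add Q, hx', hy', ← pB_apply, hti x hx y hy]
    simp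
  | smul c x hx hx' =>
    rw [QuadraticMap.map_smul, hx', smul_zero]

/-- the recursion for singular tuples. -/
def tsIndEquiv (Q : QuadraticForm F V) (k : ℕ) :
    TSInd Q (k + 1) ≃ Σ s : TSInd Q k,
      ↥({v : V | v ∈ LinearMap.BilinForm.orthogonal (QuadraticMap.polarBilin Q)
          (Submodule.span F (Set.range s.1)) ∧ Q v = 0} \
        ((Submodule.span F (Set.range s.1) : Submodule F V) : Set V)) where
  toFun s := ⟨⟨Fin.tail s.1, (linearIndependent_finSucc.mp s.2.1).1, fun a => s.2.2.1 a.succ,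
      fun a b => s.2.2.2 a.succ b.succ⟩,
    ⟨s.1 0, by
      refine ⟨⟨?_, s.2.2.1 0⟩, (linearIndependent_finSucc.mp s.2.1).2⟩
      rw [mem_perp]
      intro w hw
      have h1 : Submodule.span F (Set.range (Fin.tail s.1)) ≤
          LinearMap.ker ((QuadraticMap.polarBilin Q).flip (s.1 0)) := by
        rw [Submodule.span_le]
        rintro _ ⟨a, rfl⟩
        rw [SetLike.mem_coe, LinearMap.mem_ker]
        exact s.2.2.2 a.succ 0
      exact LinearMap.mem_ker.mp (h1 hw)⟩⟩
  invFun s := ⟨Fin.cons s.2.1 s.1.1, linearIndependent_finCons.mpr ⟨s.1.2.1, s.2.2.2⟩, by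
    intro a
    refine Fin.cases ?_ (fun a' => ?_) a
    · simp only [Fin.cons_zero]
      exact s.2.2.1.2
    · simp only [Fin.cons_succ]
      exact s.1.2.2.1 a', by
    have hv : ∀ b, QuadraticMap.polar Q (s.1.1 b) s.2.1 = 0 := fun b =>
      mem_perp.mp s.2.2.1.1 _ (Submodule.subset_span ⟨b, rfl⟩)
    intro a b
    refine Fin.cases ?_ (fun a' => ?_) a <;> refine Fin.cases ?_ (fun b' => ?_) b
    · simp only [Fin.cons_zero]
      rw [polar_self', s.2.2.1.2, mul_zero]
    · simp only [Fin.cons_zero, Fin.cons_succ]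
      rw [QuadraticMap.polar_comm]
      exact hv b'
    · simp only [Fin.cons_zero, Fin.cons_succ]
      exact hv a'
    · simp only [Fin.cons_succ]
      exact s.1.2.2.2 a' b'⟩
  left_inv s := by
    apply Subtype.ext
    simp only [Fin.cons_self_tail]
  right_inv := fun ⟨⟨s, hs⟩, ⟨v, hv⟩⟩ => rfl

/-- **singular vectors orthogonal to a totally singular subspace**, from the number `ν e` of singular vectors of a
nondegenerate subspace of dimension `2 e` of the type of the space. -/
theorem card_sing_perp [Fintype F] [FiniteDimensional F V] {Q : QuadraticForm F V}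
    (hV : ND (QuadraticMap.polarBilin Q) ⊤) {d : ℕ} (hn : finrank F V = 2 * d) (ν : ℕ → ℕ)
    (hν : ∀ (e : ℕ) (N : Submodule F V), ND (QuadraticMap.polarBilin Q) N → finrank F ↥N = 2 * e → 1 ≤ e →
      (Hyp Q N ↔ Hyp Q ⊤) → Nat.card {w : ↥N // Q (w : V) = 0} = ν e)
    {L : Submodule F V} (hL : TS Q L) {k : ℕ} (hk : finrank F ↥L = k) (hkd : k < d) :
    Nat.card {v : V // v ∈ LinearMap.BilinForm.orthogonal (QuadraticMap.polarBilin Q) L ∧ Q v = 0} =
      Fintype.card F ^ k * ν (d - k) := by
  have hrefl := pB_refl Q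
  obtain ⟨B, hB⟩ : ∃ B : LinearMap.BilinForm F V, B = QuadraticMap.polarBilin Q := ⟨_, rfl⟩
  rw [← hB] at hV hrefl ⊢
  obtain ⟨H, hLH, -, hHnd, hHd, hHy⟩ := exists_hull (by rw [← hB]; exact hV) (by rw [← hB]; exact hV)
    (le_top : L ≤ ⊤) hL
  rw [← hB] at hHnd
  rw [hk] at hHd
  obtain ⟨N, hNdef⟩ : ∃ N, N = B.orthogonal H := ⟨_, rfl⟩
  have hNnd : ND B N := by
    have := nd_perp_inf hrefl hHnd hV le_top
    rwa [inf_top_eq, ← hNdef] at this
  have hNd : finrank F ↥N = 2 * (d - k) := by
    have := finrank_perp_inf hrefl hHnd (le_top : H ≤ ⊤)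
    rw [inf_top_eq, finrank_top, ← hNdef, hHd, hn] at this
    omega
  have hNperpH : N ≤ B.orthogonal H := le_of_eq hNdef
  have hNty : Hyp Q N ↔ Hyp Q ⊤ := by
    have htop : H ⊔ N = ⊤ := by
      have := sup_perp_inf hrefl hHnd (le_top : H ≤ ⊤)
      rwa [inf_top_eq, ← hNdef] at this
    constructor
    · intro hy
      rw [← htop]
      exact hyp_sup (by rw [← hB]; exact hHnd) (by rw [← hB]; exact hNperpH) hHy hy
    · intro hy
      rw [← htop] at hy
      exact hyp_cancel (by rw [← hB]; exact hV) _ H N rfl (by rw [← hB]; exact hHnd)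
        (by rw [← hB]; exact hNnd) (by rw [← hB]; exact hNperpH) hHy hy
  have hLperp : L ≤ B.orthogonal L := by
    intro x hx
    rw [mem_perp]
    intro w hw
    rw [hB]
    exact ts_polar hL hw hx
  have hNperp : N ≤ B.orthogonal L := by
    rw [hNdef]
    exact LinearMap.BilinForm.orthogonal_le hLH
  have hdisj : L ⊓ N = ⊥ := by
    rw [eq_bot_iff, ← ((nd_iff_disjoint hrefl).mp hHnd).eq_bot, hNdef]
    exact inf_le_inf_right _ hLH
  have hsup : L ⊔ N = B.orthogonal L := by
    apply Submodule.eq_of_le_of_finrank_le (sup_le hLperp hNperp)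
    have h3 := finrank_perp_inf' hrefl hV hV (le_top : L ≤ ⊤)
    rw [inf_top_eq, finrank_top, hk, hn] at h3
    have h4 := Submodule.finrank_sup_add_finrank_inf_eq L N
    rw [hdisj, finrank_bot, add_zero, hk, hNd] at h4
    omega
  have hLN : ∀ a ∈ L, ∀ w ∈ N, QuadraticMap.polar Q a w = 0 := by
    intro a ha w hw
    have := mem_perp.mp (hNperp hw) a ha
    rw [hB] at this
    exact this
  have hval : ∀ a ∈ L, ∀ w ∈ N, Q (a + w) = Q w := by
    intro a ha w hw
    rw [QuadraticMap.map_add Q, hL a ha, hLN a ha w hw]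
    ring
  obtain ⟨f, hf⟩ : ∃ f : (↥L × {w : ↥N // Q (w : V) = 0}) →
      {v : V // v ∈ B.orthogonal L ∧ Q v = 0},
      ∀ x, ((f x : {v : V // v ∈ B.orthogonal L ∧ Q v = 0}) : V) = (x.1 : V) + ((x.2 : ↥N) : V) :=
    ⟨fun x => ⟨(x.1 : V) + ((x.2 : ↥N) : V), by
      rw [← hsup]
      exact Submodule.add_mem_sup x.1.2 x.2.1.2, by
      rw [hval _ x.1.2 _ x.2.1.2]
      exact x.2.2⟩, fun x => rfl⟩
  have hbij : Function.Bijective f := by
    constructor
    · rintro ⟨a, ⟨w, hw⟩⟩ ⟨a', ⟨w', hw'⟩⟩ hxy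
      have h1 := congrArg Subtype.val hxy
      rw [hf, hf] at h1
      simp only at h1
      have h3 : (a : V) - (a' : V) ∈ L ⊓ N := by
        refine ⟨Submodule.sub_mem _ a.2 a'.2, ?_⟩
        have : (a : V) - (a' : V) = (w' : V) - (w : V) := by
          rw [sub_eq_sub_iff_add_eq_add, h1, add_comm]
        rw [SetLike.mem_coe, this]
        exact Submodule.sub_mem _ w'.2 w.2
      rw [hdisj, Submodule.mem_bot, sub_eq_zero] at h3
      have h4 : (w : V) = (w' : V) := by
        rw [h3] at h1
        exact add_left_cancel h1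
      have ha : a = a' := Subtype.ext h3
      have hw4 : w = w' := Subtype.ext h4
      subst ha
      subst hw4
      rfl
    · rintro ⟨v, hv1, hv2⟩
      rw [← hsup] at hv1
      obtain ⟨a, ha, w, hw, rfl⟩ := Submodule.mem_sup.mp hv1
      refine ⟨⟨⟨a, ha⟩, ⟨⟨w, hw⟩, ?_⟩⟩, ?_⟩
      · rw [← hval a ha w hw]
        exact hv2
      · apply Subtype.ext
        rw [hf]
  rw [← Nat.card_congr (Equiv.ofBijective f hbij), Nat.card_prod,
    hν (d - k) N (by rw [← hB]; exact hNnd) hNd (by omega) hNty,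
    Module.natCard_eq_pow_finrank (K := F), hk, Nat.card_eq_fintype_card]

/-- **the number of singular tuples.** -/
theorem card_tsInd [Fintype F] [Finite V] {Q : QuadraticForm F V}
    (hV : ND (QuadraticMap.polarBilin Q) ⊤) {d : ℕ} (hn : finrank F V = 2 * d) (ν : ℕ → ℕ)
    (hν : ∀ (e : ℕ) (N : Submodule F V), ND (QuadraticMap.polarBilin Q) N → finrank F ↥N = 2 * e → 1 ≤ e →
      (Hyp Q N ↔ Hyp Q ⊤) → Nat.card {w : ↥N // Q (w : V) = 0} = ν e) :
    ∀ k : ℕ, k ≤ d → Nat.card (TSInd Q k) =
      ∏ j : Fin k, (Fintype.card F ^ (j : ℕ) * ν (d - (j : ℕ)) - Fintype.card F ^ (j : ℕ)) := by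
  classical
  have hfd : FiniteDimensional F V := Module.Finite.of_finite
  intro k
  induction k with
  | zero =>
    intro _
    rw [Finset.univ_eq_empty, Finset.prod_empty]
    haveI : Unique (TSInd Q 0) :=
      { default := ⟨Fin.elim0, linearIndependent_empty_type, fun a => a.elim0, fun a => a.elim0⟩
        uniq := fun s => Subtype.ext (funext fun a => a.elim0) }
    exact Nat.card_unique
  | succ k ih =>
    intro hk
    haveI : Fintype (TSInd Q k) := Fintype.ofFinite _
    rw [Nat.card_congr (tsIndEquiv Q k), Nat.card_sigma, Fin.prod_univ_castSucc]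
    have hfib : ∀ s : TSInd Q k,
        Nat.card ↥({v : V | v ∈ LinearMap.BilinForm.orthogonal (QuadraticMap.polarBilin Q)
            (Submodule.span F (Set.range s.1)) ∧ Q v = 0} \
          ((Submodule.span F (Set.range s.1) : Submodule F V) : Set V)) =
        Fintype.card F ^ k * ν (d - k) - Fintype.card F ^ k := by
      intro s
      have hts := ts_span_range s.2.2.1 s.2.2.2
      have hle : ((Submodule.span F (Set.range s.1) : Submodule F V) : Set V) ⊆
          {v : V | v ∈ LinearMap.BilinForm.orthogonal (QuadraticMap.polarBilin Q)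
            (Submodule.span F (Set.range s.1)) ∧ Q v = 0} := by
        intro x hx
        refine ⟨?_, hts x hx⟩
        rw [mem_perp]
        intro w hw
        exact ts_polar hts hw hx
      rw [Nat.card_coe_set_eq, Set.ncard_sdiff hle (Set.toFinite _), ← Nat.card_coe_set_eq,
        ← Nat.card_coe_set_eq]
      have hkk : finrank F ↥(Submodule.span F (Set.range s.1)) = k := by
        rw [finrank_span_eq_card s.2.1, Fintype.card_fin]
      have h1 : Nat.card ↥(Submodule.span F (Set.range s.1)) = Fintype.card F ^ k := by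
        rw [Module.natCard_eq_pow_finrank (K := F), hkk, Nat.card_eq_fintype_card]
      have h2' : Nat.card ↥{v : V | v ∈ LinearMap.BilinForm.orthogonal (QuadraticMap.polarBilin Q)
          (Submodule.span F (Set.range s.1)) ∧ Q v = 0} = Fintype.card F ^ k * ν (d - k) :=
        card_sing_perp hV hn ν hν hts hkk (by omega)
      exact congrArg₂ (· - ·) h2' h1
    rw [Finset.sum_congr rfl (fun s _ => hfib s), Finset.sum_const, Finset.card_univ, smul_eq_mul,
      ← Nat.card_eq_fintype_card, ih (by omega)]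
    simp only [Fin.val_castSucc, Fin.val_last]

/-- the span of a singular tuple. -/
noncomputable def tsSpanOf (Q : QuadraticForm F V) (m : ℕ) (s : TSInd Q m) : TSSub Q m :=
  ⟨Submodule.span F (Set.range s.1), by rw [finrank_span_eq_card s.2.1, Fintype.card_fin],
    ts_span_range s.2.2.1 s.2.2.2⟩

/-- the fibre of the span map over `W` is the set of bases of `W`. -/
noncomputable def tsFibreEquiv [FiniteDimensional F V] (Q : QuadraticForm F V) (m : ℕ) (W : TSSub Q m) :
    {s : TSInd Q m // tsSpanOf Q m s = W} ≃ Ind F ↥W.1 m where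
  toFun s := ⟨fun i => ⟨s.1.1 i, by
      have h1 : (tsSpanOf Q m s.1).1 = W.1 := by rw [s.2]
      rw [← h1]
      exact Submodule.subset_span ⟨i, rfl⟩⟩, by
    apply LinearIndependent.of_comp W.1.subtype
    exact s.1.2.1⟩
  invFun e := ⟨⟨fun i => (e.1 i : V), e.2.map' W.1.subtype (Submodule.ker_subtype _),
      fun a => W.2.2 _ (e.1 a).2, fun a b => ts_polar W.2.2 (e.1 a).2 (e.1 b).2⟩, by
    apply Subtype.ext
    exact span_eq_of_li W.1 W.2.1 (e.2.map' W.1.subtype (Submodule.ker_subtype _)) (fun i => (e.1 i).2)⟩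
  left_inv s := by
    apply Subtype.ext
    apply Subtype.ext
    rfl
  right_inv e := by
    apply Subtype.ext
    rfl

/-- **the number of totally singular `m`-spaces**, in product form. -/
theorem card_tsSub_mul [Fintype F] [Finite V] {Q : QuadraticForm F V}
    (hV : ND (QuadraticMap.polarBilin Q) ⊤) {d : ℕ} (hn : finrank F V = 2 * d) (ν : ℕ → ℕ)
    (hν : ∀ (e : ℕ) (N : Submodule F V), ND (QuadraticMap.polarBilin Q) N → finrank F ↥N = 2 * e → 1 ≤ e →
      (Hyp Q N ↔ Hyp Q ⊤) → Nat.card {w : ↥N // Q (w : V) = 0} = ν e)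
    (m : ℕ) (hm : m ≤ d) :
    Nat.card (TSSub Q m) * ∏ j : Fin m, (Fintype.card F ^ (m - (j : ℕ)) - 1) =
      ∏ j : Fin m, (ν (d - (j : ℕ)) - 1) := by
  classical
  have hfd : FiniteDimensional F V := Module.Finite.of_finite
  letI : Fintype (TSSub Q m) := Fintype.ofFinite _
  have h0 := card_tsInd hV hn ν hν m hm
  rw [Nat.card_congr (Equiv.sigmaFiberEquiv (tsSpanOf Q m)).symm, Nat.card_sigma] at h0
  have h : ∀ W : TSSub Q m, Nat.card {s : TSInd Q m // tsSpanOf Q m s = W} =
      ∏ i : Fin m, (Fintype.card F ^ m - Fintype.card F ^ (i : ℕ)) := by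
    intro W
    rw [Nat.card_congr (tsFibreEquiv Q m W)]
    have := card_linearIndependent (K := F) (V := ↥W.1) (k := m) (le_of_eq W.2.1.symm)
    rw [W.2.1] at this
    exact this
  rw [Finset.sum_congr rfl (fun P _ => h P), Finset.sum_const, Finset.card_univ, smul_eq_mul,
    ← Nat.card_eq_fintype_card, prod_split _ m m le_rfl] at h0
  have hsplit : ∏ j : Fin m, (Fintype.card F ^ (j : ℕ) * ν (d - (j : ℕ)) - Fintype.card F ^ (j : ℕ)) =
      (∏ j : Fin m, Fintype.card F ^ (j : ℕ)) * ∏ j : Fin m, (ν (d - (j : ℕ)) - 1) := by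
    rw [← Finset.prod_mul_distrib]
    apply Finset.prod_congr rfl
    intro j _
    rw [Nat.mul_sub, mul_one]
  rw [hsplit] at h0
  have hpos : 0 < ∏ i : Fin m, Fintype.card F ^ (i : ℕ) :=
    Finset.prod_pos (fun i _ => pow_pos Fintype.card_pos _)
  apply Nat.eq_of_mul_eq_mul_left hpos
  rw [← h0]
  ring

end Cfsg.Agent.Helper7.OpTS
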