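import Mathlib
import Cfsg.Agent.Helper7.OpTSE

set_option autoImplicit false
set_option linter.unusedSectionVars false
set_option linter.unusedVariables false

/-!
# The number of totally singular subspaces: plus and minus type, and the primes dividing it
-/

namespace Cfsg.Agent.Helper7.OpTS

open Module Polynomial Cfsg.Agent.Helper7.POrd Cfsg.Agent.Helper7.SpOrd Cfsg.Agent.Helper7.SpTI
  Cfsg.Agent.Helper7.OrTS Cfsg.Agent.Helper7.QTy Cfsg.Agent.Helper7.QEll Cfsg.Agent.Helper7.QPa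
  Cfsg.Agent.Helper8.QuadForm

universe u

variable {F : Type*} [Field F] [Fintype F] {V : Type u} [AddCommGroup V] [Module F V] [Finite V]

/-- **plus type.** -/
theorem card_tsSub_plus {Q : QuadraticForm F V} (hV : ND (QuadraticMap.polarBilin Q) ⊤) {d : ℕ}
    (hn : finrank F V = 2 * d) (hy : Hyp Q ⊤) (m : ℕ) (hm : m ≤ d) :
    Nat.card (TSSub Q m) * ∏ j : Fin m, (Fintype.card F ^ (m - (j : ℕ)) - 1) =
      ∏ j : Fin m, ((Fintype.card F ^ (d - (j : ℕ)) - 1) * (Fintype.card F ^ (d - (j : ℕ) - 1) + 1)) := by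
  have hfd : FiniteDimensional F V := Module.Finite.of_finite
  rw [card_tsSub_mul hV hn (fun e => nuP (Fintype.card F) e) (fun e N hN hNd he hNy =>
    card_singular_hyp' hV hN hNd (hNy.mpr hy)) m hm]
  apply Finset.prod_congr rfl
  intro j _
  exact nuP_sub_one Fintype.card_pos (by have := j.2; omega)

/-- **minus type.** -/
theorem card_tsSub_minus {Q : QuadraticForm F V} (hV : ND (QuadraticMap.polarBilin Q) ⊤) {d : ℕ}
    (hn : finrank F V = 2 * d) (hy : ¬ Hyp Q ⊤) (m : ℕ) (hm : m ≤ d) :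
    Nat.card (TSSub Q m) * ∏ j : Fin m, (Fintype.card F ^ (m - (j : ℕ)) - 1) =
      ∏ j : Fin m, ((Fintype.card F ^ (d - (j : ℕ)) + 1) * (Fintype.card F ^ (d - (j : ℕ) - 1) - 1)) := by
  have hfd : FiniteDimensional F V := Module.Finite.of_finite
  rw [card_tsSub_mul hV hn (fun e => nuM (Fintype.card F) (e - 1)) (fun e N hN hNd he hNy =>
    card_singular_ell (e - 1) N hN (by rw [hNd]; omega) (fun h => hy (hNy.mp h))) m hm]
  apply Finset.prod_congr rfl
  intro j _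
  have hj := j.2
  rw [Cfsg.Agent.Helper7.QMi.nuM_sub_one _ Fintype.card_pos]
  have : d - (j : ℕ) - 1 + 1 = d - (j : ℕ) := by omega
  rw [this]

theorem not_dvd_pow_sub_one {p q e : ℕ} (hp : p.Prime) (hpq : p ∣ q) (hq : 0 < q) (he : 1 ≤ e) :
    ¬ p ∣ q ^ e - 1 := by
  intro h
  have hpq' : p ∣ q ^ e := dvd_pow hpq (by omega)
  have hge : 1 ≤ q ^ e := Nat.one_le_pow _ _ hq
  have h2 : p ∣ 1 := by
    have := Nat.dvd_sub hpq' h
    rwa [Nat.sub_sub_self hge] at this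
  exact hp.one_lt.ne' (Nat.dvd_one.mp h2)

theorem not_dvd_pow_add_one {p q e : ℕ} (hp : p.Prime) (hpq : p ∣ q) (he : 1 ≤ e) :
    ¬ p ∣ q ^ e + 1 := by
  intro h
  have hpq' : p ∣ q ^ e := dvd_pow hpq (by omega)
  have h2 : p ∣ 1 := (Nat.dvd_add_right hpq').mp h
  exact hp.one_lt.ne' (Nat.dvd_one.mp h2)

variable {p : ℕ} [Fact p.Prime] [CharP F p]

/-- the characteristic does not divide the number of totally singular `m`-spaces, `m < d`. -/
theorem char_not_dvd_card_tsSub {Q : QuadraticForm F V} (hV : ND (QuadraticMap.polarBilin Q) ⊤) {d : ℕ}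
    (hn : finrank F V = 2 * d) (m : ℕ) (hm : m < d) : ¬ p ∣ Nat.card (TSSub Q m) := by
  intro hdvd
  have hp : p.Prime := Fact.out
  have hpq : p ∣ Fintype.card F := char_dvd_card
  by_cases hy : Hyp Q ⊤
  · have h1 : p ∣ ∏ j : Fin m, ((Fintype.card F ^ (d - (j : ℕ)) - 1) *
        (Fintype.card F ^ (d - (j : ℕ) - 1) + 1)) := by
      rw [← card_tsSub_plus hV hn hy m hm.le]
      exact Dvd.dvd.mul_right hdvd _
    rw [hp.prime.dvd_finsetProd_iff] at h1
    obtain ⟨j, -, hj⟩ := h1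
    have hj' := j.2
    rcases (Nat.Prime.dvd_mul hp).mp hj with h | h
    · exact not_dvd_pow_sub_one hp hpq Fintype.card_pos (by omega) h
    · exact not_dvd_pow_add_one hp hpq (by omega) h
  · have h1 : p ∣ ∏ j : Fin m, ((Fintype.card F ^ (d - (j : ℕ)) + 1) *
        (Fintype.card F ^ (d - (j : ℕ) - 1) - 1)) := by
      rw [← card_tsSub_minus hV hn hy m hm.le]
      exact Dvd.dvd.mul_right hdvd _
    rw [hp.prime.dvd_finsetProd_iff] at h1
    obtain ⟨j, -, hj⟩ := h1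
    have hj' := j.2
    rcases (Nat.Prime.dvd_mul hp).mp hj with h | h
    · exact not_dvd_pow_add_one hp hpq (by omega) h
    · exact not_dvd_pow_sub_one hp hpq Fintype.card_pos (by omega) h

variable {r : ℕ} [Fact r.Prime]

/-- a prime dividing `q ^ e + 1`. -/
theorem orderOf_of_dvd_pow_add_one (hr2 : r ≠ 2) {e : ℕ} (h : r ∣ Fintype.card F ^ e + 1) :
    orderOf ((Fintype.card F : ℕ) : ZMod r) ∣ 2 * e ∧ ¬ orderOf ((Fintype.card F : ℕ) : ZMod r) ∣ e := by
  have hr : r.Prime := Fact.out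
  have h1 : ((Fintype.card F : ℕ) : ZMod r) ^ e = -1 := by
    have : ((Fintype.card F ^ e + 1 : ℕ) : ZMod r) = 0 := (ZMod.natCast_eq_zero_iff _ _).mpr h
    push_cast at this
    exact eq_neg_of_add_eq_zero_left this
  constructor
  · rw [orderOf_dvd_iff_pow_eq_one, mul_comm, pow_mul, h1]
    norm_num
  · intro hd
    rw [orderOf_dvd_iff_pow_eq_one, h1] at hd
    have h2 : ((2 : ℕ) : ZMod r) = 0 := by
      push_cast
      linear_combination -hd
    rw [ZMod.natCast_eq_zero_iff] at h2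
    exact hr2 ((Nat.prime_dvd_prime_iff_eq hr Nat.prime_two).mp h2)

/-- **primes dividing the number of totally singular subspaces, plus type.** -/
theorem exists_cond_of_dvd_plus (hr2 : r ≠ 2) {Q : QuadraticForm F V}
    (hV : ND (QuadraticMap.polarBilin Q) ⊤) {d : ℕ}
    (hn : finrank F V = 2 * d) (hy : Hyp Q ⊤) (m : ℕ) (hm : m ≤ d) (h : r ∣ Nat.card (TSSub Q m)) :
    ∃ j < m, orderOf ((Fintype.card F : ℕ) : ZMod r) ∣ d - j ∨
      (orderOf ((Fintype.card F : ℕ) : ZMod r) ∣ 2 * (d - j - 1) ∧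
        ¬ orderOf ((Fintype.card F : ℕ) : ZMod r) ∣ d - j - 1) := by
  have hr : r.Prime := Fact.out
  have h1 : r ∣ ∏ j : Fin m, ((Fintype.card F ^ (d - (j : ℕ)) - 1) *
      (Fintype.card F ^ (d - (j : ℕ) - 1) + 1)) := by
    rw [← card_tsSub_plus hV hn hy m hm]
    exact Dvd.dvd.mul_right h _
  rw [hr.prime.dvd_finsetProd_iff] at h1
  obtain ⟨j, -, hj⟩ := h1
  refine ⟨j, j.2, ?_⟩
  rcases (Nat.Prime.dvd_mul hr).mp hj with h | h
  · exact Or.inl (orderOf_dvd_of_dvd_pow_sub_one h)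
  · exact Or.inr (orderOf_of_dvd_pow_add_one hr2 h)

/-- **primes dividing the number of totally singular subspaces, minus type.** -/
theorem exists_cond_of_dvd_minus (hr2 : r ≠ 2) {Q : QuadraticForm F V}
    (hV : ND (QuadraticMap.polarBilin Q) ⊤) {d : ℕ}
    (hn : finrank F V = 2 * d) (hy : ¬ Hyp Q ⊤) (m : ℕ) (hm : m ≤ d) (h : r ∣ Nat.card (TSSub Q m)) :
    ∃ j < m, (orderOf ((Fintype.card F : ℕ) : ZMod r) ∣ 2 * (d - j) ∧
        ¬ orderOf ((Fintype.card F : ℕ) : ZMod r) ∣ d - j) ∨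
      orderOf ((Fintype.card F : ℕ) : ZMod r) ∣ d - j - 1 := by
  have hr : r.Prime := Fact.out
  have h1 : r ∣ ∏ j : Fin m, ((Fintype.card F ^ (d - (j : ℕ)) + 1) *
      (Fintype.card F ^ (d - (j : ℕ) - 1) - 1)) := by
    rw [← card_tsSub_minus hV hn hy m hm]
    exact Dvd.dvd.mul_right h _
  rw [hr.prime.dvd_finsetProd_iff] at h1
  obtain ⟨j, -, hj⟩ := h1
  refine ⟨j, j.2, ?_⟩
  rcases (Nat.Prime.dvd_mul hr).mp hj with h | h
  · exact Or.inl (orderOf_of_dvd_pow_add_one hr2 h)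
  · exact Or.inr (orderOf_dvd_of_dvd_pow_sub_one h)

end Cfsg.Agent.Helper7.OpTS
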