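import Mathlib
import Cfsg.Agent.Helper7.OpTSF

set_option autoImplicit false
set_option linter.unusedSectionVars false
set_option linter.unusedVariables false

/-!
# Elements of odd order in `Ω`, all characteristics; isometric spaces; the block model as an element of `Ω`
-/

namespace Cfsg.Agent.Helper7.OpTS

open Matrix Module Polynomial Cfsg.Agent.Helper7.POrd Cfsg.Agent.Helper7.SpOrd Cfsg.Agent.Helper7.SpTI
  Cfsg.Agent.Helper7.OrTS Cfsg.Agent.Helper7.QTy Cfsg.Agent.Helper7.QPa Cfsg.Agent.Helper7.QMi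
  Cfsg.Agent.Helper8.QuadForm Cfsg.Agent.Helper8.OrT Cfsg.Agent.Helper8.OrR

universe u v

section omega

variable {F : Type*} [Field F] [Fintype F] {ι : Type} [Fintype ι] [DecidableEq ι]
  (Q : QuadraticForm F (ι → F))

/-- **elements of odd order lie in the commutator subgroup of the orthogonal group**, all characteristics. -/
theorem mem_commutator_of_pow_odd_gen (hQ : (QuadraticMap.polarBilin Q).Nondegenerate)
    (hn : 2 ≤ Fintype.card ι) (hex : Fintype.card F ≠ 2 ∨ Fintype.card ι ≠ 4)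
    {g : ↥(Cfsg.isometryGroup F ⇑Q)} {N : ℕ} (hN : Odd N) (hg : g ^ N = 1) :
    g ∈ commutator ↥(Cfsg.isometryGroup F ⇑Q) := by
  by_cases h2 : (2 : F) = 0
  · obtain ⟨hidx, -⟩ := Cfsg.Agent.Helper8.OmegaEven.commutator_eq Q h2 hQ hn hex
    have hsq : g ^ 2 ∈ commutator ↥(Cfsg.isometryGroup F ⇑Q) := Subgroup.sq_mem_of_index_two hidx g
    obtain ⟨k, hk⟩ := hN
    have h3 : g = (g ^ 2) ^ (k + 1) := by
      rw [← pow_mul, show 2 * (k + 1) = N + 1 by omega, pow_succ, hg, one_mul]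
    rw [h3]
    exact Subgroup.pow_mem _ hsq _
  · exact mem_commutator_of_pow_odd Q h2 hQ hn hN hg

end omega

section iso

variable {F : Type v} [Field F] [Fintype F]

theorem nuS_top {V : Type u} [AddCommGroup V] [Module F V] [FiniteDimensional F V] {Q : QuadraticForm F V}
    (hV : ND (QuadraticMap.polarBilin Q) ⊤) {k : ℕ} (hd : finrank F V = 2 * (k + 1)) :
    NuS (sg Q ⊤) Q k := by
  have h1 := nuS_sg hV hV (k := k) (by rw [finrank_top]; exact hd)
  exact NuS.congr (Submodule.topEquiv : ↥(⊤ : Submodule F V) ≃ₗ[F] V) (fun v => rfl) h1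

theorem nondeg_of_nd_top {V : Type u} [AddCommGroup V] [Module F V] {Q : QuadraticForm F V}
    (hV : ND (QuadraticMap.polarBilin Q) ⊤) : Nondeg Q := by
  intro v hv
  by_contra hv0
  obtain ⟨w, -, hw⟩ := hV v Submodule.mem_top hv0
  exact hw (hv w)

/-- **spaces of the same dimension and type are isometric.** -/
theorem exists_iso_of_hyp_iff {V₁ V₂ : Type u} [AddCommGroup V₁] [Module F V₁] [FiniteDimensional F V₁]
    [AddCommGroup V₂] [Module F V₂] [FiniteDimensional F V₂] {Q₁ : QuadraticForm F V₁}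
    {Q₂ : QuadraticForm F V₂} (h₁ : ND (QuadraticMap.polarBilin Q₁) ⊤)
    (h₂ : ND (QuadraticMap.polarBilin Q₂) ⊤) {d : ℕ} (hd : 1 ≤ d) (hd₁ : finrank F V₁ = 2 * d)
    (hd₂ : finrank F V₂ = 2 * d) (hs : Hyp Q₁ ⊤ ↔ Hyp Q₂ ⊤) :
    ∃ φ : V₁ ≃ₗ[F] V₂, ∀ v, Q₂ (φ v) = Q₁ v := by
  obtain ⟨k, rfl⟩ : ∃ k, d = k + 1 := ⟨d - 1, by omega⟩
  have hsg : sg Q₁ ⊤ = sg Q₂ ⊤ := by
    by_cases hy : Hyp Q₁ ⊤
    · rw [sg_eq_one_iff.mpr hy, sg_eq_one_iff.mpr (hs.mp hy)]
    · rw [sg_eq_neg_one_iff.mpr hy, sg_eq_neg_one_iff.mpr (fun h => hy (hs.mpr h))]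
  have n1 := nuS_top h₁ hd₁
  have n2 := nuS_top h₂ hd₂
  rw [← hsg] at n2
  exact exists_isometry_of_nuS k hd₁ hd₂ Q₁ Q₂ (nondeg_of_nd_top h₁) (nondeg_of_nd_top h₂) _ n1 n2

end iso

section model

variable {F : Type v} [Field F] [Fintype F] {p : ℕ} [Fact p.Prime] [CharP F p]

/-- **the model element**: an isometry of odd order of a space isometric to the standard one, as an element
of `Ω`, with the comparison map. -/
theorem exists_omega_of_model {ι : Type} [Fintype ι] [DecidableEq ι] (Qs : QuadraticForm F (ι → F))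
    (hQs : ND (QuadraticMap.polarBilin Qs) ⊤) {d : ℕ} (hd : 3 ≤ d) (hι : Fintype.card ι = 2 * d)
    {E : Type v} [AddCommGroup E] [Module F E] [FiniteDimensional F E] {QE : QuadraticForm F E}
    (hQE : ND (QuadraticMap.polarBilin QE) ⊤) (hEd : finrank F E = 2 * d) (hs : Hyp QE ⊤ ↔ Hyp Qs ⊤)
    {φ : Module.End F E} (hφ : ∀ v, QE (φ v) = QE v) {N : ℕ} (hN : Odd N) (hφN : φ ^ N = 1) :
    ∃ (x : GL ι F) (e : E ≃ₗ[F] (ι → F)), x ∈ Cfsg.Geo.omegaGL ⇑Qs ∧ x ^ N = 1 ∧
      (∀ v, Qs (e v) = QE v) ∧ ∀ v, Matrix.toLin' (x : Matrix ι ι F) (e v) = e (φ v) := by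
  classical
  have hNpos : 0 < N := hN.pos
  have hsd : finrank F (ι → F) = 2 * d := by rw [Module.finrank_fintype_fun_eq_card, hι]
  obtain ⟨e, he⟩ := exists_iso_of_hyp_iff hQE hQs (by omega) hEd hsd hs
  have hφinv1 : φ * φ ^ (N - 1) = 1 := by rw [← pow_succ', Nat.sub_add_cancel hNpos, hφN]
  have hφinv2 : φ ^ (N - 1) * φ = 1 := by rw [← pow_succ, Nat.sub_add_cancel hNpos, hφN]
  obtain ⟨y, hy⟩ := exists_isom_of_equiv_gen Qs e he _ _ hφinv1 hφinv2 hφ
  have hTr : (Matrix.toLin' ((y : GL ι F) : Matrix ι ι F)) ^ N = 1 := by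
    apply LinearMap.ext
    intro w
    obtain ⟨v, rfl⟩ := e.surjective w
    rw [intertwine_pow e hy, hφN]
    rfl
  have hyr : y ^ N = 1 := by
    apply Subtype.ext
    apply Units.ext
    apply Matrix.toLin'.injective
    rw [Subgroup.coe_pow, ← toLin'_pow_gl, hTr, Subgroup.coe_one, Units.val_one, Matrix.toLin'_one]
    rfl
  have hnd : (QuadraticMap.polarBilin Qs).Nondegenerate := (nondeg_iff Qs).mpr (nondeg_of_nd_top hQs)
  have hycomm := mem_commutator_of_pow_odd_gen Qs hnd (by omega) (Or.inr (by omega)) hN hyr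
  refine ⟨(y : GL ι F), e, ⟨y, hycomm, rfl⟩, ?_, he, hy⟩
  rw [← Subgroup.coe_pow, hyr]
  rfl

/-- pulling back an invariant totally singular subspace along the comparison map. -/
theorem pullback_ts_q {ι : Type} [Fintype ι] [DecidableEq ι] {Qs : QuadraticForm F (ι → F)}
    {E : Type v} [AddCommGroup E] [Module F E] [FiniteDimensional F E] {QE : QuadraticForm F E}
    {φ : Module.End F E} {x : GL ι F} (e : E ≃ₗ[F] (ι → F)) (he1 : ∀ v, Qs (e v) = QE v)
    (he2 : ∀ v, Matrix.toLin' (x : Matrix ι ι F) (e v) = e (φ v))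
    {W : Submodule F (ι → F)} (hWts : ∀ w ∈ W, Qs w = 0)
    (hWinv : W.map (Matrix.toLin' (x : Matrix ι ι F)) ≤ W) :
    ∃ W' : Submodule F E, W' ∈ Module.End.invtSubmodule φ ∧ TS QE W' ∧ finrank F ↥W' = finrank F ↥W := by
  refine ⟨W.comap (e : E →ₗ[F] (ι → F)), ?_, ?_, ?_⟩
  · rw [Module.End.mem_invtSubmodule]
    intro v hv
    rw [Submodule.mem_comap] at hv ⊢
    rw [Submodule.mem_comap, LinearEquiv.coe_coe, ← he2]
    exact hWinv (Submodule.mem_map_of_mem hv)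
  · intro u hu
    rw [Submodule.mem_comap] at hu
    rw [← he1]
    exact hWts _ hu
  · have : W.comap (e : E →ₗ[F] (ι → F)) = W.map (e.symm : (ι → F) →ₗ[F] E) :=
      (Submodule.map_equiv_eq_comap_symm e.symm W).symm
    rw [this]
    exact LinearEquiv.finrank_map_eq e.symm W

end model

end Cfsg.Agent.Helper7.OpTS
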