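import Mathlib
import Cfsg.Agent.Helper7.OpTSG

set_option autoImplicit false
set_option linter.unusedSectionVars false
set_option linter.unusedVariables false

/-!
# The block model for quadratic forms, all characteristics
-/

namespace Cfsg.Agent.Helper7.OpTS

open Matrix Module Polynomial Cfsg.Agent.Helper8.SpS Cfsg.Agent.Helper8.SpStab Cfsg.Agent.Helper7.POrd
  Cfsg.Agent.Helper7.SpOrd Cfsg.Agent.Helper7.SpTI Cfsg.Agent.Helper7.SpCP Cfsg.Agent.Helper7.OrTS
  Cfsg.Agent.Helper7.QTy Cfsg.Agent.Helper7.QPa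

universe u v

section block

variable {F : Type*} [Field F] [Fintype F] {p : ℕ} [Fact p.Prime] [CharP F p] {r : ℕ} [Fact r.Prime]

/-- **the quadratic block**: a quadratic form with nondegenerate polar form on a space of dimension `c` with an
isometry of order `r` without fixed vectors, in every characteristic. -/
theorem exists_quad_block (hr2 : r ≠ 2) (hrp : r ≠ p) {h : ℕ}
    (hh : cOf (orderOf ((Fintype.card F : ℕ) : ZMod r)) = 2 * h) :
    ∃ (Q₀ : QuadraticForm F (Fin h ⊕ Fin h → F)) (T₀ : Module.End F (Fin h ⊕ Fin h → F)),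
      ND (QuadraticMap.polarBilin Q₀) ⊤ ∧ (∀ v, Q₀ (T₀ v) = Q₀ v) ∧ T₀ ^ r = 1 ∧ fixS T₀ = ⊥ := by
  have hr : 0 < r := (Fact.out : r.Prime).pos
  have hrodd : Odd r := (Fact.out : r.Prime).odd_of_ne_two hr2
  obtain ⟨x₀, hx₀r, hx₀fix⟩ := exists_block_elt hr2 hrp hh
  obtain ⟨T₀, hT₀⟩ : ∃ T₀ : Module.End F (Fin h ⊕ Fin h → F),
      T₀ = Matrix.toLin' (x₀ : Matrix (Fin h ⊕ Fin h) (Fin h ⊕ Fin h) F) := ⟨_, rfl⟩
  rw [← hT₀] at hx₀fix
  have hT₀r : T₀ ^ r = 1 := by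
    rw [hT₀, toLin'_pow_symp, hx₀r]
    exact Matrix.toLin'_one
  have hiso : ∀ u v, sB h F (T₀ u) (T₀ v) = sB h F u v := by
    intro u v
    rw [hT₀]
    exact sB_iso x₀ u v
  have hAlt : (sB h F).IsAlt := sB_isAlt h
  have hinv : ∀ u, (T₀ ^ (r - 1)) (T₀ u) = u := by
    intro u
    rw [← Module.End.mul_apply, ← pow_succ, Nat.sub_add_cancel hr, hT₀r, Module.End.one_apply]
  have hinv' : ∀ u, T₀ ((T₀ ^ (r - 1)) u) = u := by
    intro u
    rw [← Module.End.mul_apply, ← pow_succ', Nat.sub_add_cancel hr, hT₀r, Module.End.one_apply]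
  have hadj' : ∀ u v, sB h F ((T₀ ^ (r - 1)) u) v = sB h F u (T₀ v) := by
    intro u v
    rw [← iso_pow hiso (r - 1) u (T₀ v), hinv]
  obtain ⟨Q₀, hQ₀⟩ : ∃ Q₀ : QuadraticForm F (Fin h ⊕ Fin h → F), ∀ v, Q₀ v = sB h F (T₀ v) v :=
    ⟨LinearMap.BilinMap.toQuadraticMap ((sB h F).compl₁₂ T₀ LinearMap.id), fun v => rfl⟩
  have hpol : ∀ u v, QuadraticMap.polar Q₀ u v = sB h F (T₀ u) v - sB h F ((T₀ ^ (r - 1)) u) v := by
    intro u v
    unfold QuadraticMap.polar
    rw [hQ₀, hQ₀, hQ₀, hadj' u v]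
    simp only [map_add, LinearMap.add_apply]
    rw [← LinearMap.IsAlt.neg hAlt u (T₀ v)]
    ring
  refine ⟨Q₀, T₀, ?_, ?_, hT₀r, hx₀fix⟩
  · intro u _ hu
    by_contra hcon
    push Not at hcon
    apply hu
    have h1 : T₀ u - (T₀ ^ (r - 1)) u = 0 := by
      apply sB_nondeg (F := F) (m := h)
      intro v
      have := hcon v Submodule.mem_top
      rw [pB_apply, hpol, ← LinearMap.sub_apply, ← map_sub] at this
      exact this
    have h2 : T₀ (T₀ u) = u := by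
      rw [sub_eq_zero] at h1
      rw [h1, hinv']
    have h3 : u ∈ fixS T₀ := POrd.mem_fixS.mpr (fixed_of_sq_fixed hrodd hT₀r h2)
    rw [hx₀fix, Submodule.mem_bot] at h3
    exact h3
  · intro v
    rw [hQ₀, hQ₀, hiso]

end block

section model

variable {F : Type*} [Field F] {V₀ V₁ : Type*} [AddCommGroup V₀] [Module F V₀] [AddCommGroup V₁]
  [Module F V₁] {s : ℕ}

/-- the quadratic form of the model. -/
noncomputable def modelQ (s : ℕ) (Q₀ : QuadraticForm F V₀) (Q₁ : QuadraticForm F V₁) :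
    QuadraticForm F ((Fin s → V₀) × V₁) :=
  (QuadraticMap.pi (fun _ : Fin s => Q₀)).prod Q₁

theorem modelQ_apply (Q₀ : QuadraticForm F V₀) (Q₁ : QuadraticForm F V₁) (x : (Fin s → V₀) × V₁) :
    modelQ s Q₀ Q₁ x = ∑ l, Q₀ (x.1 l) + Q₁ x.2 := by
  unfold modelQ
  rw [QuadraticMap.prod_apply, QuadraticMap.pi_apply]

theorem polar_modelQ (Q₀ : QuadraticForm F V₀) (Q₁ : QuadraticForm F V₁) (x y : (Fin s → V₀) × V₁) :
    QuadraticMap.polarBilin (modelQ s Q₀ Q₁) x y =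
      prodB (piB (ι := Fin s) (QuadraticMap.polarBilin Q₀)) (QuadraticMap.polarBilin Q₁) x y := by
  rw [pB_apply, prodB_apply, piB_apply]
  unfold modelQ
  rw [QuadraticMap.polar_prod, QuadraticMap.Ring.polar_pi]
  rfl

theorem modelQ_inv {Q₀ : QuadraticForm F V₀} (Q₁ : QuadraticForm F V₁) {S : Fin s → Module.End F V₀}
    (hS : ∀ l v, Q₀ (S l v) = Q₀ v) (x : (Fin s → V₀) × V₁) :
    modelQ s Q₀ Q₁ (modelMap (V₁ := V₁) S x) = modelQ s Q₀ Q₁ x := by
  rw [modelQ_apply, modelQ_apply, modelMap_apply]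
  simp only [piMapF_apply, hS]

theorem nondeg_of_nd_top' {V : Type*} [AddCommGroup V] [Module F V] {B : LinearMap.BilinForm F V}
    (h : ND B ⊤) : Nondeg B := by
  intro u hu
  by_contra hu0
  obtain ⟨w, -, hw⟩ := h u Submodule.mem_top hu0
  exact hw (hu w)

theorem modelQ_nd {Q₀ : QuadraticForm F V₀} {Q₁ : QuadraticForm F V₁}
    (h₀ : ND (QuadraticMap.polarBilin Q₀) ⊤) (h₁ : ND (QuadraticMap.polarBilin Q₁) ⊤) :
    ND (QuadraticMap.polarBilin (modelQ s Q₀ Q₁)) ⊤ := by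
  have h := prodB_nondeg (piB_nondeg (ι := Fin s) (nondeg_of_nd_top' h₀)) (nondeg_of_nd_top' h₁)
  intro u _ hu
  by_contra hcon
  push Not at hcon
  apply hu
  apply h
  intro v
  rw [← polar_modelQ]
  exact hcon v Submodule.mem_top

/-- the fixed space of the model. -/
theorem fixS_modelMap {S : Fin s → Module.End F V₀} (hSfix : ∀ l, fixS (S l) = ⊥) :
    fixS (modelMap (V₁ := V₁) S) = LinearMap.range (LinearMap.inr F (Fin s → V₀) V₁) := by
  ext ⟨u, w⟩
  rw [POrd.mem_fixS, modelMap_apply, LinearMap.mem_range]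
  constructor
  · intro hfx
    have hu : u = 0 := by
      funext l
      have h1 := congrFun (congrArg Prod.fst hfx) l
      simp only [piMapF_apply] at h1
      have h2 : u l ∈ fixS (S l) := POrd.mem_fixS.mpr h1
      rw [hSfix l, Submodule.mem_bot] at h2
      exact h2
    exact ⟨w, by rw [hu]; rfl⟩
  · rintro ⟨w', hw'⟩
    have h1 : u = 0 := (congrArg Prod.fst hw').symm
    rw [h1]
    apply Prod.ext
    · funext l
      simp only [piMapF_apply, Pi.zero_apply, map_zero]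
    · rfl

theorem modelQ_inr (Q₀ : QuadraticForm F V₀) (Q₁ : QuadraticForm F V₁) (w : V₁) :
    modelQ s Q₀ Q₁ (LinearMap.inr F (Fin s → V₀) V₁ w) = Q₁ w := by
  rw [modelQ_apply]
  simp

/-- the type of the fixed space of the model. -/
theorem hyp_fix_model {Q₀ : QuadraticForm F V₀} {Q₁ : QuadraticForm F V₁} {S : Fin s → Module.End F V₀}
    (hSfix : ∀ l, fixS (S l) = ⊥) :
    Hyp (modelQ s Q₀ Q₁) (fixS (modelMap (V₁ := V₁) S)) ↔ Hyp Q₁ ⊤ := by
  rw [fixS_modelMap hSfix, ← Submodule.map_top]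
  exact ⟨hyp_of_map_emb LinearMap.inr_injective (modelQ_inr Q₀ Q₁),
    hyp_map_emb LinearMap.inr_injective (modelQ_inr Q₀ Q₁)⟩

theorem finrank_fix_model [FiniteDimensional F V₀] [FiniteDimensional F V₁] {S : Fin s → Module.End F V₀}
    (hSfix : ∀ l, fixS (S l) = ⊥) : finrank F ↥(fixS (modelMap (V₁ := V₁) S)) = finrank F V₁ := by
  rw [fixS_modelMap hSfix]
  exact LinearMap.finrank_range_of_inj LinearMap.inr_injective

/-- an invariant totally singular subspace of the model meets the fixed space in a small subspace. -/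
theorem finrank_ts_inf_fix_model [FiniteDimensional F V₀] [FiniteDimensional F V₁]
    {Q₀ : QuadraticForm F V₀} {Q₁ : QuadraticForm F V₁}
    (h₀ : ND (QuadraticMap.polarBilin Q₀) ⊤) (h₁ : ND (QuadraticMap.polarBilin Q₁) ⊤)
    {S : Fin s → Module.End F V₀} (hSfix : ∀ l, fixS (S l) = ⊥)
    {W : Submodule F ((Fin s → V₀) × V₁)} (hW : TS (modelQ s Q₀ Q₁) W) :
    2 * finrank F ↥(W ⊓ fixS (modelMap (V₁ := V₁) S)) ≤ finrank F V₁ ∧
      (¬ Hyp Q₁ ⊤ → 2 * finrank F ↥(W ⊓ fixS (modelMap (V₁ := V₁) S)) < finrank F V₁) := by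
  have hnd := modelQ_nd (s := s) h₀ h₁
  have hfixnd : ND (QuadraticMap.polarBilin (modelQ s Q₀ Q₁)) (fixS (modelMap (V₁ := V₁) S)) := by
    rw [fixS_modelMap hSfix, ← Submodule.map_top]
    exact nd_map_emb (modelQ_inr Q₀ Q₁) h₁
  have hts : TS (modelQ s Q₀ Q₁) (W ⊓ fixS (modelMap (V₁ := V₁) S)) := ts_mono hW inf_le_left
  have hle := finrank_ti_le_of_nd (pB_refl _) hnd hfixnd inf_le_right (ts_ti hts)
  rw [finrank_fix_model hSfix] at hle
  refine ⟨hle, fun hny => ?_⟩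
  rcases Nat.lt_or_ge (2 * finrank F ↥(W ⊓ fixS (modelMap (V₁ := V₁) S))) (finrank F V₁) with h | h
  · exact h
  · exfalso
    apply hny
    rw [← hyp_fix_model (Q₀ := Q₀) hSfix]
    exact ⟨_, inf_le_right, hts, by rw [finrank_fix_model hSfix]; omega⟩

end model

end Cfsg.Agent.Helper7.OpTS
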