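import Mathlib
import Cfsg.Agent.Helper7.OpTSH

set_option autoImplicit false
set_option linter.unusedSectionVars false
set_option linter.unusedVariables false

/-!
# The model with one repeated type: invariant totally isotropic subspaces of the moved space
-/

namespace Cfsg.Agent.Helper7.OpTS

open Matrix Module Polynomial Cfsg.Agent.Helper8.SpS Cfsg.Agent.Helper8.SpStab Cfsg.Agent.Helper7.POrd
  Cfsg.Agent.Helper7.SpOrd Cfsg.Agent.Helper7.SpTI Cfsg.Agent.Helper7.SpCP Cfsg.Agent.Helper7.OrTS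

section model

variable {F : Type*} [Field F] {V₀ V₁ : Type*} [AddCommGroup V₀] [Module F V₀] [AddCommGroup V₁] [Module F V₁]
  {s : ℕ}

theorem prodB_blockEmb_right (B₀ : V₀ →ₗ[F] V₀ →ₗ[F] F) (B₁ : V₁ →ₗ[F] V₁ →ₗ[F] F) (l : Fin s)
    (x : (Fin s → V₀) × V₁) (y : V₀) :
    prodB (piB (ι := Fin s) B₀) B₁ x (blockEmb (F := F) (V₁ := V₁) l y) = B₀ (x.1 l) y := by
  rw [prodB_apply, blockEmb_apply, piB_apply]
  simp only [map_zero, add_zero]
  rw [Finset.sum_eq_single l]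
  · rw [Pi.single_eq_same]
  · intro b _ hb
    rw [Pi.single_eq_of_ne hb, map_zero]
  · intro h
    exact absurd (Finset.mem_univ l) h

/-- **one repeated type**: an element of an invariant totally isotropic subspace lying in the moved space has
zero coordinates at the blocks whose type occurs only once. -/
theorem ti_inf_mov_coord {r : ℕ} (hrF : (r : F) ≠ 0) {B₀ : V₀ →ₗ[F] V₀ →ₗ[F] F} (hB₀nd : Nondeg B₀)
    [Nontrivial V₀] (B₁ : V₁ →ₗ[F] V₁ →ₗ[F] F) (S : Fin s → Module.End F V₀)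
    (hirr : ∀ l, ∀ U : Submodule F V₀, U ∈ Module.End.invtSubmodule (S l) → U = ⊥ ∨ U = ⊤)
    (Qp : Fin s → F[X]) (hQ : ∀ l, aeval (S l) (Qp l) = 0) (A : Finset (Fin s))
    (hcop : ∀ l, l ∉ A → ∀ l', l' ≠ l → IsCoprime (Qp l) (Qp l'))
    {W : Submodule F ((Fin s → V₀) × V₁)} (hW : W ∈ Module.End.invtSubmodule (modelMap (V₁ := V₁) S))
    (hWti : TI (prodB (piB (ι := Fin s) B₀) B₁) W) {x : (Fin s → V₀) × V₁}
    (hx : x ∈ W ⊓ movS r (modelMap (V₁ := V₁) S)) : x.2 = 0 ∧ ∀ l, l ∉ A → x.1 l = 0 := by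
  classical
  obtain ⟨u, w₁⟩ := x
  obtain ⟨hwW, hwmov⟩ := hx
  rw [SetLike.mem_coe, mem_movS] at hwmov
  have hw₁ : w₁ = 0 := by
    have h1 := congrArg Prod.snd hwmov
    unfold Phi at h1
    rw [LinearMap.sum_apply, Prod.snd_sum] at h1
    simp only [modelMap_pow_apply, Prod.snd_zero] at h1
    rw [Finset.sum_const, Finset.card_range, ← Nat.cast_smul_eq_nsmul F] at h1
    exact (smul_eq_zero.mp h1).resolve_left hrF
  subst hw₁
  refine ⟨rfl, ?_⟩
  intro j hjA
  by_contra hj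
  have hcopj : IsCoprime (Qp j) (∏ l ∈ Finset.univ.erase j, Qp l) := by
    apply IsCoprime.prod_right
    intro l hl
    exact hcop j hjA l (Finset.ne_of_mem_erase hl)
  obtain ⟨a, b, hab⟩ := hcopj
  obtain ⟨f, hf⟩ : ∃ f, f = b * ∏ l ∈ Finset.univ.erase j, Qp l := ⟨_, rfl⟩
  have hfj : aeval (S j) f = 1 := by
    have h1 : f = 1 - a * Qp j := by rw [hf, ← hab]; ring
    rw [h1, map_sub, map_mul, hQ j, mul_zero, sub_zero, map_one]
  have hfl : ∀ l, l ≠ j → aeval (S l) f = 0 := by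
    intro l hl
    obtain ⟨c, hc⟩ := Finset.dvd_prod_of_mem Qp (Finset.mem_erase.mpr ⟨hl, Finset.mem_univ l⟩)
    rw [hf, hc, map_mul, map_mul, hQ l, zero_mul, mul_zero]
  have hfw : aeval (modelMap (V₁ := V₁) S) f (u, (0 : V₁)) = blockEmb (F := F) (V₁ := V₁) j (u j) := by
    rw [← sum_blockEmb (F := F) (V₁ := V₁) u, map_sum]
    rw [Finset.sum_eq_single j]
    · rw [aeval_intertwine _ (modelMap_blockEmb (V₁ := V₁) S j), hfj, Module.End.one_apply]
    · intro l _ hl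
      rw [aeval_intertwine _ (modelMap_blockEmb (V₁ := V₁) S l), hfl l hl, LinearMap.zero_apply, map_zero]
    · intro h
      exact absurd (Finset.mem_univ j) h
  have hjW : blockEmb (F := F) (V₁ := V₁) j (u j) ∈ W := by
    rw [← hfw]
    exact invt_aeval_apply hW f hwW
  obtain ⟨U, hU⟩ : ∃ U : Submodule F V₀, U = W.comap (blockEmb (F := F) (V₁ := V₁) j) := ⟨_, rfl⟩
  have hUinv : U ∈ Module.End.invtSubmodule (S j) := by
    rw [Module.End.mem_invtSubmodule]
    intro y hy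
    rw [hU, Submodule.mem_comap] at hy
    rw [Submodule.mem_comap, hU, Submodule.mem_comap, ← modelMap_blockEmb]
    exact invt_apply hW hy
  have hUtop : U = ⊤ := by
    rcases hirr j U hUinv with h | h
    · exfalso
      have : u j ∈ U := by rw [hU, Submodule.mem_comap]; exact hjW
      rw [h, Submodule.mem_bot] at this
      exact hj this
    · exact h
  obtain ⟨y, hy⟩ := exists_ne (0 : V₀)
  apply hy
  apply hB₀nd
  intro y'
  have h1 : y ∈ U := by rw [hUtop]; exact Submodule.mem_top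
  have h2 : y' ∈ U := by rw [hUtop]; exact Submodule.mem_top
  rw [hU, Submodule.mem_comap] at h1 h2
  rw [← prodB_blockEmb B₀ B₁ j y y']
  exact hWti _ h1 _ h2

/-- the coordinate subspace of a set of blocks. -/
def coordSub (F : Type*) [Field F] (V₀ V₁ : Type*) [AddCommGroup V₀] [Module F V₀] [AddCommGroup V₁]
    [Module F V₁] {s : ℕ} (A : Finset (Fin s)) : Submodule F ((Fin s → V₀) × V₁) where
  carrier := {x | x.2 = 0 ∧ ∀ l, l ∉ A → x.1 l = 0}
  add_mem' := by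
    rintro x y ⟨hx1, hx2⟩ ⟨hy1, hy2⟩
    refine ⟨by rw [Prod.snd_add, hx1, hy1, add_zero], fun l hl => ?_⟩
    rw [Prod.fst_add, Pi.add_apply, hx2 l hl, hy2 l hl, add_zero]
  zero_mem' := ⟨rfl, fun l _ => rfl⟩
  smul_mem' := by
    rintro c x ⟨hx1, hx2⟩
    refine ⟨by rw [Prod.smul_snd, hx1, smul_zero], fun l hl => ?_⟩
    rw [Prod.smul_fst, Pi.smul_apply, hx2 l hl, smul_zero]

theorem mem_coordSub {A : Finset (Fin s)} {x : (Fin s → V₀) × V₁} :
    x ∈ coordSub F V₀ V₁ A ↔ x.2 = 0 ∧ ∀ l, l ∉ A → x.1 l = 0 := Iff.rfl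

theorem coordSub_nd {B₀ : V₀ →ₗ[F] V₀ →ₗ[F] F} (hB₀nd : Nondeg B₀) (B₁ : V₁ →ₗ[F] V₁ →ₗ[F] F)
    (A : Finset (Fin s)) : ND (prodB (piB (ι := Fin s) B₀) B₁) (coordSub F V₀ V₁ A) := by
  classical
  rintro ⟨u, w⟩ ⟨hw, hu⟩ hne
  simp only at hw hu
  subst hw
  obtain ⟨a, ha⟩ : ∃ a, u a ≠ 0 := by
    by_contra hcon
    push Not at hcon
    apply hne
    rw [funext hcon]
    rfl
  have haA : a ∈ A := by
    by_contra h
    exact ha (hu a h)
  obtain ⟨v₀, hv₀⟩ : ∃ v₀, B₀ (u a) v₀ ≠ 0 := by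
    by_contra hcon
    push Not at hcon
    exact ha (hB₀nd _ hcon)
  refine ⟨blockEmb (F := F) (V₁ := V₁) a v₀, ?_, ?_⟩
  · rw [mem_coordSub, blockEmb_apply]
    refine ⟨rfl, fun l hl => ?_⟩
    have : l ≠ a := fun h => hl (h ▸ haA)
    simp only
    rw [Pi.single_eq_of_ne this]
  · rw [prodB_blockEmb_right]
    exact hv₀

theorem finrank_coordSub_le [FiniteDimensional F V₀] [FiniteDimensional F V₁] (A : Finset (Fin s)) :
    finrank F ↥(coordSub F V₀ V₁ A) ≤ A.card * finrank F V₀ := by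
  classical
  obtain ⟨f, hf⟩ : ∃ f : ↥(coordSub F V₀ V₁ A) →ₗ[F] (↥A → V₀), ∀ x a, f x a = (x : (Fin s → V₀) × V₁).1 a.1 :=
    ⟨LinearMap.pi (fun a => (LinearMap.proj a.1) ∘ₗ (LinearMap.fst F (Fin s → V₀) V₁) ∘ₗ
      (coordSub F V₀ V₁ A).subtype), fun x a => rfl⟩
  have hinj : Function.Injective f := by
    rw [← LinearMap.ker_eq_bot, eq_bot_iff]
    rintro ⟨⟨u, w⟩, hw, hu⟩ hx
    simp only at hw hu
    rw [LinearMap.mem_ker] at hx
    rw [Submodule.mem_bot]
    apply Subtype.ext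
    apply Prod.ext
    · funext l
      by_cases hl : l ∈ A
      · have := congrFun hx ⟨l, hl⟩
        rw [hf] at this
        exact this
      · exact hu l hl
    · exact hw
  have h1 := LinearMap.finrank_le_finrank_of_injective hinj
  rw [Module.finrank_pi_fintype] at h1
  simp only [Finset.sum_const, Finset.card_univ, smul_eq_mul, Fintype.card_coe] at h1
  exact h1

/-- **the moved part of an invariant totally isotropic subspace of the model with one repeated type.** -/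
theorem finrank_ti_inf_mov_le [FiniteDimensional F V₀] [FiniteDimensional F V₁] {r : ℕ} (hrF : (r : F) ≠ 0)
    {B₀ : LinearMap.BilinForm F V₀} (hB₀s : B₀.IsSymm) (hB₀nd : Nondeg B₀) [Nontrivial V₀]
    {B₁ : LinearMap.BilinForm F V₁} (hB₁s : B₁.IsSymm) (hB₁nd : Nondeg B₁) (S : Fin s → Module.End F V₀)
    (hirr : ∀ l, ∀ U : Submodule F V₀, U ∈ Module.End.invtSubmodule (S l) → U = ⊥ ∨ U = ⊤)
    (Qp : Fin s → F[X]) (hQ : ∀ l, aeval (S l) (Qp l) = 0) (A : Finset (Fin s))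
    (hcop : ∀ l, l ∉ A → ∀ l', l' ≠ l → IsCoprime (Qp l) (Qp l'))
    {W : Submodule F ((Fin s → V₀) × V₁)} (hW : W ∈ Module.End.invtSubmodule (modelMap (V₁ := V₁) S))
    (hWti : TI (prodB (piB (ι := Fin s) B₀) B₁) W) :
    2 * finrank F ↥(W ⊓ movS r (modelMap (V₁ := V₁) S)) ≤ A.card * finrank F V₀ := by
  have hle : W ⊓ movS r (modelMap (V₁ := V₁) S) ≤ coordSub F V₀ V₁ A := by
    intro x hx
    exact mem_coordSub.mpr (ti_inf_mov_coord hrF hB₀nd B₁ S hirr Qp hQ A hcop hW hWti hx)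
  have hsymm := prodB_symm (piB_symm (s := s) hB₀s) hB₁s
  have hND : ND (prodB (piB (ι := Fin s) B₀) B₁) ⊤ := by
    intro u _ hu
    by_contra hcon
    push Not at hcon
    exact hu (prodB_nondeg (piB_nondeg (ι := Fin s) hB₀nd) hB₁nd u (fun v => hcon v Submodule.mem_top))
  have h1 := finrank_ti_le_of_nd hsymm.isRefl hND (coordSub_nd hB₀nd B₁ A) hle (ti_mono hWti inf_le_left)
  exact h1.trans (finrank_coordSub_le A)

end model

end Cfsg.Agent.Helper7.OpTS
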