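import Mathlib
import Cfsg.Agent.Helper7.OpTSI

set_option autoImplicit false
set_option linter.unusedSectionVars false
set_option linter.unusedVariables false

/-!
# Derangements of odd prime order in `Ω^±_{2d}(q)` on totally singular subspaces: the model element
-/

namespace Cfsg.Agent.Helper7.OpTS

open Matrix Module Polynomial Cfsg.Agent.Helper8.SpS Cfsg.Agent.Helper8.SpStab Cfsg.Agent.Helper7.POrd
  Cfsg.Agent.Helper7.SpOrd Cfsg.Agent.Helper7.SpTI Cfsg.Agent.Helper7.SpCP Cfsg.Agent.Helper7.OrTS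
  Cfsg.Agent.Helper7.QTy Cfsg.Agent.Helper7.QPa Cfsg.Agent.Helper7.QMi Cfsg.Agent.Helper8.StdForms

universe v

section spaces

variable {F : Type v} [Field F] [Fintype F]

/-- a quadratic space of dimension `2e` of either type. -/
theorem exists_space_of_type (e : ℕ) (P : Prop) (h : e = 0 → P) :
    ∃ (V₁ : Type v) (_ : AddCommGroup V₁) (_ : Module F V₁) (_ : FiniteDimensional F V₁)
      (Q₁ : QuadraticForm F V₁), ND (QuadraticMap.polarBilin Q₁) ⊤ ∧ finrank F V₁ = 2 * e ∧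
        (Hyp Q₁ ⊤ ↔ P) := by
  by_cases hP : P
  · exact ⟨Fin e ⊕ Fin e → F, inferInstance, inferInstance, inferInstance, plusForm F e, plus_nd_top e,
      finrank_plus F e, iff_of_true (plus_hyp_top e) hP⟩
  · have he : e ≠ 0 := fun h0 => hP (h h0)
    obtain ⟨k, rfl⟩ : ∃ k, e = k + 1 := ⟨e - 1, by omega⟩
    obtain ⟨ζ, hζ⟩ := Cfsg.Agent.Helper8.OrR.exists_irred (F := F)
    have hab := Cfsg.Agent.Helper8.OrT.aniso_of_irred hζ
    exact ⟨(Fin k ⊕ Fin k) ⊕ Fin 2 → F, inferInstance, inferInstance, inferInstance, minusForm F k 1 ζ,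
      minus_nd_top k hab, by rw [finrank_minus]; ring, iff_of_false (minus_not_hyp k hab) hP⟩

end spaces

section model

variable {F : Type v} [Field F] [Fintype F] {p : ℕ} [Fact p.Prime] [CharP F p] {r : ℕ} [Fact r.Prime]

/-- **the model as a derangement candidate**: blocks without fixed vectors and a fixed space of the right type
give an element of `Ω` of order `r`; its invariant totally singular subspaces come from the model. -/
theorem exists_model_derangement {ι : Type} [Fintype ι] [DecidableEq ι] (Qs : QuadraticForm F (ι → F))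
    (hQs : ND (QuadraticMap.polarBilin Qs) ⊤) {d : ℕ} (hd : 3 ≤ d) (hι : Fintype.card ι = 2 * d)
    (hr2 : r ≠ 2) (hrp : r ≠ p)
    {V₀ V₁ : Type v} [AddCommGroup V₀] [Module F V₀] [FiniteDimensional F V₀] [Nontrivial V₀]
    [AddCommGroup V₁] [Module F V₁] [FiniteDimensional F V₁]
    {Q₀ : QuadraticForm F V₀} {Q₁ : QuadraticForm F V₁}
    (h₀ : ND (QuadraticMap.polarBilin Q₀) ⊤) (h₁ : ND (QuadraticMap.polarBilin Q₁) ⊤)
    (hV₀ : finrank F V₀ = cOf (orderOf ((Fintype.card F : ℕ) : ZMod r)))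
    {s : ℕ} (hs1 : 1 ≤ s) (hdim : s * finrank F V₀ + finrank F V₁ = 2 * d)
    (S : Fin s → Module.End F V₀) (hSQ : ∀ l v, Q₀ (S l v) = Q₀ v) (hSr : ∀ l, S l ^ r = 1)
    (hSfix : ∀ l, fixS (S l) = ⊥)
    (hsign : Hyp Q₁ ⊤ ↔ (Hyp Qs ⊤ ↔ (Odd (orderOf ((Fintype.card F : ℕ) : ZMod r)) ∨ Even s))) :
    ∃ x : GL ι F, x ∈ Cfsg.Geo.omegaGL ⇑Qs ∧ x ^ r = 1 ∧ x ≠ 1 ∧
      ∀ W : Submodule F (ι → F), (∀ w ∈ W, Qs w = 0) →
        W.map (Matrix.toLin' (x : Matrix ι ι F)) ≤ W →
        ∃ W' : Submodule F ((Fin s → V₀) × V₁), W' ∈ Module.End.invtSubmodule (modelMap (V₁ := V₁) S) ∧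
          TS (modelQ s Q₀ Q₁) W' ∧ finrank F ↥W' = finrank F ↥W := by
  classical
  have hr : r.Prime := Fact.out
  have hrodd : Odd r := hr.odd_of_ne_two hr2
  have hcpos := cOf_pos (orderOf_q_pos (F := F) hrp)
  have hdimE : finrank F ((Fin s → V₀) × V₁) = 2 * d := by
    rw [Module.finrank_prod, Module.finrank_pi_fintype]
    simp only [Finset.sum_const, Finset.card_univ, Fintype.card_fin, smul_eq_mul]
    exact hdim
  have hQE := modelQ_nd (s := s) h₀ h₁
  have hφQ := modelQ_inv (s := s) Q₁ hSQ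
  have hφr := modelMap_pow_eq_one (V₁ := V₁) hSr
  obtain ⟨s', hs'mov, hs'sum, hs'hyp⟩ := struct_q hr2 hrp hQE hφQ hφr (by rw [hdimE]; exact even_two_mul d)
  rw [finrank_fix_model hSfix, hdimE] at hs'sum
  have hss : s' = s := by
    have h1 : cOf (orderOf ((Fintype.card F : ℕ) : ZMod r)) * s' =
        cOf (orderOf ((Fintype.card F : ℕ) : ZMod r)) * s := by
      rw [hV₀, mul_comm] at hdim
      omega
    exact Nat.eq_of_mul_eq_mul_left hcpos h1
  rw [hss, hyp_fix_model hSfix] at hs'hyp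
  have hs : Hyp (modelQ s Q₀ Q₁) ⊤ ↔ Hyp Qs ⊤ := by tauto
  obtain ⟨x, e, hxΩ, hxr, he1, he2⟩ := exists_omega_of_model Qs hQs hd hι hQE hdimE hs hφQ hrodd hφr
  refine ⟨x, hxΩ, hxr, ?_, ?_⟩
  · intro hx1
    apply modelMap_ne_one (V₁ := V₁) hs1 hSfix
    apply LinearMap.ext
    intro v
    apply e.injective
    rw [← he2, hx1, Units.val_one, Matrix.toLin'_one, LinearMap.id_apply, Module.End.one_apply]
  · intro W hWts hWinv
    exact pullback_ts_q e he1 he2 hWts hWinv

end model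

end Cfsg.Agent.Helper7.OpTS
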