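import Mathlib
import Cfsg.Agent.Helper7.OpTSJ

set_option autoImplicit false
set_option linter.unusedSectionVars false
set_option linter.unusedVariables false

/-!
# Derangements of odd prime order in `Ω^±_{2d}(q)` on totally singular subspaces: `i` even
-/

namespace Cfsg.Agent.Helper7.OpTS

open Matrix Module Polynomial Cfsg.Agent.Helper8.SpS Cfsg.Agent.Helper8.SpStab Cfsg.Agent.Helper7.POrd
  Cfsg.Agent.Helper7.SpOrd Cfsg.Agent.Helper7.SpTI Cfsg.Agent.Helper7.SpCP Cfsg.Agent.Helper7.OrTS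
  Cfsg.Agent.Helper7.QTy Cfsg.Agent.Helper7.QPa Cfsg.Agent.Helper7.QMi Cfsg.Agent.Helper8.StdForms

universe v

section bounds

variable {F : Type v} [Field F] [Fintype F] {p : ℕ} [Fact p.Prime] [CharP F p] {r : ℕ} [Fact r.Prime]

/-- **the dimensions of an invariant totally singular subspace of the model with one repeated type.** -/
theorem model_bounds_even (hrp : r ≠ p)
    {V₀ V₁ : Type v} [AddCommGroup V₀] [Module F V₀] [FiniteDimensional F V₀] [Nontrivial V₀]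
    [AddCommGroup V₁] [Module F V₁] [FiniteDimensional F V₁]
    {Q₀ : QuadraticForm F V₀} {Q₁ : QuadraticForm F V₁}
    (h₀ : ND (QuadraticMap.polarBilin Q₀) ⊤) (h₁ : ND (QuadraticMap.polarBilin Q₁) ⊤)
    (hV₀ : finrank F V₀ = orderOf ((Fintype.card F : ℕ) : ZMod r))
    {s : ℕ} (S : Fin s → Module.End F V₀) (hSr : ∀ l, S l ^ r = 1) (hSfix : ∀ l, fixS (S l) = ⊥)
    (hirr : ∀ l, ∀ U : Submodule F V₀, U ∈ Module.End.invtSubmodule (S l) → U = ⊥ ∨ U = ⊤)
    (Qp : Fin s → F[X]) (hQ : ∀ l, aeval (S l) (Qp l) = 0) (A : Finset (Fin s))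
    (hcop : ∀ l, l ∉ A → ∀ l', l' ≠ l → IsCoprime (Qp l) (Qp l'))
    {W : Submodule F ((Fin s → V₀) × V₁)} (hW : W ∈ Module.End.invtSubmodule (modelMap (V₁ := V₁) S))
    (hWts : TS (modelQ s Q₀ Q₁) W) :
    ∃ b w, finrank F ↥W = orderOf ((Fintype.card F : ℕ) : ZMod r) * b + w ∧ 2 * b ≤ A.card ∧
      2 * w ≤ finrank F V₁ ∧ (¬ Hyp Q₁ ⊤ → 2 * w < finrank F V₁) := by
  classical
  haveI : Finite ((Fin s → V₀) × V₁) := Module.finite_of_finite F
  have hrF : (r : F) ≠ 0 := natCast_ne_zero_of_ne hrp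
  have hipos : 0 < orderOf ((Fintype.card F : ℕ) : ZMod r) := orderOf_q_pos hrp
  have hφr := modelMap_pow_eq_one (V₁ := V₁) hSr
  have hdec := finrank_invt_decomp hrF hφr hW
  obtain ⟨hw1, hw2⟩ := finrank_ts_inf_fix_model h₀ h₁ hSfix hWts
  have hminv : W ⊓ movS r (modelMap (V₁ := V₁) S) ∈ Module.End.invtSubmodule (modelMap (V₁ := V₁) S) :=
    inf_invt hW (movS_invt r _)
  have hmfix : (W ⊓ movS r (modelMap (V₁ := V₁) S)) ⊓ fixS (modelMap (V₁ := V₁) S) = ⊥ := by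
    rw [eq_bot_iff]
    intro v hv
    have := (disjoint_fix_mov hrF (modelMap (V₁ := V₁) S))
    rw [Submodule.disjoint_def] at this
    exact (Submodule.mem_bot F).mpr (this v hv.2 hv.1.2)
  obtain ⟨b, hb⟩ := orderOf_dvd_finrank hφr hminv hmfix
  have hti : TI (prodB (piB (ι := Fin s) (QuadraticMap.polarBilin Q₀)) (QuadraticMap.polarBilin Q₁)) W := by
    intro u hu v hv
    rw [← polar_modelQ]
    exact ts_ti hWts u hu v hv
  have hmov := finrank_ti_inf_mov_le hrF (LinearMap.BilinForm.isSymm_iff.mpr (pB_symm Q₀))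
    (nondeg_of_nd_top' h₀) (LinearMap.BilinForm.isSymm_iff.mpr (pB_symm Q₁))
    (nondeg_of_nd_top' h₁) S hirr Qp hQ A hcop hW hti
  rw [hb, hV₀] at hmov
  refine ⟨b, finrank F ↥(W ⊓ fixS (modelMap (V₁ := V₁) S)), ?_, ?_, hw1, hw2⟩
  · rw [hdec, hb, add_comm]
  · have h1 : orderOf ((Fintype.card F : ℕ) : ZMod r) * (2 * b) ≤
        orderOf ((Fintype.card F : ℕ) : ZMod r) * A.card := by
      calc orderOf ((Fintype.card F : ℕ) : ZMod r) * (2 * b)
          = 2 * (orderOf ((Fintype.card F : ℕ) : ZMod r) * b) := by ring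
        _ ≤ A.card * orderOf ((Fintype.card F : ℕ) : ZMod r) := hmov
        _ = orderOf ((Fintype.card F : ℕ) : ZMod r) * A.card := by ring
    exact Nat.le_of_mul_le_mul_left h1 hipos

end bounds

section family

variable {F : Type v} [Field F] [Fintype F] {p : ℕ} [Fact p.Prime] [CharP F p] {r : ℕ} [Fact r.Prime]

/-- **the derangement family, `i` even**: `s` blocks of minus type, the types spread over the `t` factors of
the cyclotomic polynomial, the surplus on one type. -/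
theorem exists_derangement_even {ι : Type} [Fintype ι] [DecidableEq ι] (Qs : QuadraticForm F (ι → F))
    (hQs : ND (QuadraticMap.polarBilin Qs) ⊤) {d : ℕ} (hd : 3 ≤ d) (hι : Fintype.card ι = 2 * d)
    (hr2 : r ≠ 2) (hrp : r ≠ p) (hev : Even (orderOf ((Fintype.card F : ℕ) : ZMod r)))
    {s : ℕ} (hs1 : 1 ≤ s) (hsd : orderOf ((Fintype.card F : ℕ) : ZMod r) * s ≤ 2 * d)
    (hval : orderOf ((Fintype.card F : ℕ) : ZMod r) * s = 2 * d → (Hyp Qs ⊤ ↔ Even s)) :
    ∃ x : GL ι F, x ∈ Cfsg.Geo.omegaGL ⇑Qs ∧ x ^ r = 1 ∧ x ≠ 1 ∧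
      ∀ W : Submodule F (ι → F), (∀ w ∈ W, Qs w = 0) →
        W.map (Matrix.toLin' (x : Matrix ι ι F)) ≤ W →
        ∃ b w, finrank F ↥W = orderOf ((Fintype.card F : ℕ) : ZMod r) * b + w ∧
          2 * b ≤ 1 + (s - (r - 1) / orderOf ((Fintype.card F : ℕ) : ZMod r)) ∧
          2 * w + orderOf ((Fintype.card F : ℕ) : ZMod r) * s ≤ 2 * d ∧
          (¬ (Hyp Qs ⊤ ↔ Even s) → 2 * w + orderOf ((Fintype.card F : ℕ) : ZMod r) * s < 2 * d) := by
  classical
  have hr : r.Prime := Fact.out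
  have hrodd : Odd r := hr.odd_of_ne_two hr2
  have hrF : (r : F) ≠ 0 := natCast_ne_zero_of_ne hrp
  obtain ⟨i, hi⟩ : ∃ i, i = orderOf ((Fintype.card F : ℕ) : ZMod r) := ⟨_, rfl⟩
  rw [← hi] at hev hsd hval ⊢
  have hipos : 0 < i := by rw [hi]; exact orderOf_q_pos hrp
  have hev' := hev
  obtain ⟨h, hh⟩ := hev
  have hcOfi : cOf (orderOf ((Fintype.card F : ℕ) : ZMod r)) = i := by
    rw [← hi]
    unfold cOf
    rw [if_pos hev']
  have hcOf : cOf (orderOf ((Fintype.card F : ℕ) : ZMod r)) = 2 * h := by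
    rw [hcOfi]
    omega
  obtain ⟨Q₀, T₀, h₀, hQT₀, hT₀r, hx₀fix⟩ := exists_quad_block hr2 hrp hcOf
  have hdim₀ : finrank F (Fin h ⊕ Fin h → F) = orderOf ((Fintype.card F : ℕ) : ZMod r) := by
    rw [Module.finrank_fintype_fun_eq_card, Fintype.card_sum, Fintype.card_fin, ← hi]
    omega
  have hh1 : 1 ≤ h := by omega
  haveI : Nontrivial (Fin h ⊕ Fin h → F) := by
    haveI : Nonempty (Fin h ⊕ Fin h) := ⟨Sum.inl ⟨0, by omega⟩⟩
    infer_instance
  have hirr₀ : ∀ U : Submodule F (Fin h ⊕ Fin h → F), U ∈ Module.End.invtSubmodule T₀ → U = ⊥ ∨ U = ⊤ := by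
    intro U hU
    exact irred_of_finrank hT₀r (M := ⊤) (by rw [top_inf_eq, hx₀fix]) (by rw [finrank_top, hdim₀]) hU le_top
  have hT₀ne : T₀ ≠ 1 := by
    intro h1
    have : fixS T₀ = ⊤ := by
      rw [eq_top_iff]
      intro w _
      rw [POrd.mem_fixS, h1, Module.End.one_apply]
    rw [hx₀fix] at this
    exact bot_ne_top this
  -- the factors
  obtain ⟨t, ht⟩ : ∃ t, t * i = r - 1 := by
    obtain ⟨t, ht⟩ := orderOf_q_dvd (F := F) hrp
    exact ⟨t, by rw [hi, ht, mul_comm]⟩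
  have ht1 : 0 < t := by
    rcases Nat.eq_zero_or_pos t with h0 | h0
    · rw [h0, zero_mul] at ht
      have := hr.two_le
      omega
    · exact h0
  have htdiv : (r - 1) / i = t := by
    rw [← ht, Nat.mul_div_cancel _ hipos]
  rw [htdiv]
  obtain ⟨Q', hinj, hQ', -⟩ := Cfsg.Agent.Helper8.SemiS.exists_cyclotomic_factors (F := F) p r hr hrp i t hi ht
  have hex : ∀ j : Fin t, ∃ e, 1 ≤ e ∧ e < r ∧ aeval (T₀ ^ e) (Q' j) = 0 := fun j =>
    exists_pow_type hrp hT₀r hx₀fix hdim₀ (hQ' _).2.1 (hQ' _).2.2.2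
  choose ex hex1 hexr hexQ using hex
  obtain ⟨τ, hτ⟩ : ∃ τ : Fin s → Fin t, ∀ l : Fin s, ((τ l : Fin t) : ℕ) = if (l : ℕ) < t then (l : ℕ) else 0 := by
    refine ⟨fun l => if hl : (l : ℕ) < t then ⟨(l : ℕ), hl⟩ else ⟨0, ht1⟩, fun l => ?_⟩
    by_cases hl : (l : ℕ) < t
    · simp only [dif_pos hl, if_pos hl]
    · simp only [dif_neg hl, if_neg hl]
  obtain ⟨S, hS⟩ : ∃ S : Fin s → Module.End F (Fin h ⊕ Fin h → F), S = fun l => T₀ ^ (ex (τ l)) := ⟨_, rfl⟩
  have hSl : ∀ l, S l = T₀ ^ (ex (τ l)) := fun l => by rw [hS]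
  have hSr : ∀ l, (S l) ^ r = 1 := by
    intro l
    rw [hSl, ← pow_mul, mul_comm, pow_mul, hT₀r, one_pow]
  have hSQ₀ : ∀ l v, Q₀ (S l v) = Q₀ v := by
    intro l v
    rw [hSl]
    exact Q_pow_apply hQT₀ _ v
  have hSQ : ∀ l, aeval (S l) (Q' (τ l)) = 0 := fun l => by rw [hSl]; exact hexQ (τ l)
  have hback : ∀ l, ∃ e', (S l) ^ e' = T₀ := by
    intro l
    have hcop : Nat.Coprime (ex (τ l)) r := by
      rw [Nat.coprime_comm]
      exact (Nat.Prime.coprime_iff_not_dvd hr).mpr (fun hd => by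
        have := Nat.le_of_dvd (by have := hex1 (τ l); omega) hd
        have := hexr (τ l)
        omega)
    obtain ⟨e', -, he'⟩ := Nat.exists_mul_mod_eq_one_of_coprime hcop hr.one_lt
    refine ⟨e', ?_⟩
    rw [hSl, ← pow_mul, pow_eq_pow_mod _ hT₀r, he', pow_one]
  have hSirr : ∀ l, ∀ U : Submodule F (Fin h ⊕ Fin h → F), U ∈ Module.End.invtSubmodule (S l) →
      U = ⊥ ∨ U = ⊤ := by
    intro l U hU
    apply hirr₀
    obtain ⟨e', he'⟩ := hback l
    rw [← he', Module.End.mem_invtSubmodule]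
    intro y hy
    exact invt_pow_apply hU hy e'
  have hSne : ∀ l, S l ≠ 1 := by
    intro l h1
    obtain ⟨e', he'⟩ := hback l
    rw [h1, one_pow] at he'
    exact hT₀ne he'.symm
  have hfixS : ∀ l, fixS (S l) = ⊥ := by
    intro l
    rcases hSirr l _ (fixS_invt (S l)) with h1 | h1
    · exact h1
    · exfalso
      apply hSne l
      apply LinearMap.ext
      intro w
      have : w ∈ fixS (S l) := by rw [h1]; exact Submodule.mem_top
      rw [Module.End.one_apply]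
      exact POrd.mem_fixS.mp this
  -- the set of blocks of the repeated type
  obtain ⟨A, hA⟩ : ∃ A : Finset (Fin s), ∀ l, l ∈ A ↔ ((l : ℕ) = 0 ∨ t ≤ (l : ℕ)) :=
    ⟨Finset.univ.filter (fun l : Fin s => (l : ℕ) = 0 ∨ t ≤ (l : ℕ)), fun l => by
      rw [Finset.mem_filter]
      exact ⟨fun hl => hl.2, fun hl => ⟨Finset.mem_univ l, hl⟩⟩⟩
  have hAcard : A.card ≤ 1 + (s - t) := by
    have h1 : A.card ≤ (Finset.range (1 + (s - t))).card := by
      apply Finset.card_le_card_of_injOn (fun l : Fin s => if (l : ℕ) = 0 then 0 else (l : ℕ) - t + 1)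
      · intro l hl
        have hl' := (hA l).mp hl
        have hls := l.2
        rw [Finset.coe_range, Set.mem_Iio]
        by_cases h0 : (l : ℕ) = 0
        · simp only [if_pos h0]
          omega
        · simp only [if_neg h0]
          omega
      · intro l hl l' hl'
        have h1 := (hA l).mp hl
        have h2 := (hA l').mp hl'
        intro hf
        apply Fin.ext
        by_cases h3 : (l : ℕ) = 0 <;> by_cases h4 : (l' : ℕ) = 0
        · omega
        · simp only [if_pos h3, if_neg h4] at hf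
          omega
        · simp only [if_neg h3, if_pos h4] at hf
          omega
        · simp only [if_neg h3, if_neg h4] at hf
          omega
    rw [Finset.card_range] at h1
    exact h1
  have hcop : ∀ l, l ∉ A → ∀ l', l' ≠ l → IsCoprime (Q' (τ l)) (Q' (τ l')) := by
    intro l hl l' hll
    rw [hA] at hl
    push Not at hl
    rw [(hQ' _).2.1.coprime_iff_not_dvd]
    intro hdvd
    have hassoc := (hQ' (τ l)).2.1.associated_of_dvd (hQ' (τ l')).2.1 hdvd
    have h1 := hinj (eq_of_monic_of_associated (hQ' _).1 (hQ' _).1 hassoc)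
    have h2 := congrArg (fun j : Fin t => (j : ℕ)) h1
    simp only [hτ] at h2
    apply hll
    apply Fin.ext
    rw [if_pos hl.2] at h2
    split_ifs at h2 with h3
    · exact h2.symm
    · exact absurd h2 hl.1
  -- the fixed space
  obtain ⟨e, he⟩ : ∃ e, 2 * d = i * s + 2 * e := by
    obtain ⟨e, he⟩ : ∃ e, 2 * d - i * s = 2 * e := by
      have h1 : i * s = 2 * (h * s) := by rw [hh]; ring
      exact ⟨d - h * s, by omega⟩
    exact ⟨e, by omega⟩
  obtain ⟨V₁, iV1, iV2, iV3, Q₁, h₁, hV₁d, hV₁h⟩ :=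
    exists_space_of_type (F := F) e (Hyp Qs ⊤ ↔ Even s) (fun he0 => hval (by omega))
  have hsign : Hyp Q₁ ⊤ ↔ (Hyp Qs ⊤ ↔ (Odd (orderOf ((Fintype.card F : ℕ) : ZMod r)) ∨ Even s)) := by
    rw [hV₁h, ← hi]
    have : ¬ Odd i := Nat.not_odd_iff_even.mpr hev'
    tauto
  have hV₀c : finrank F (Fin h ⊕ Fin h → F) = cOf (orderOf ((Fintype.card F : ℕ) : ZMod r)) := by
    rw [hdim₀, hcOfi, hi]
  obtain ⟨x, hxΩ, hxr, hx1, hx⟩ := exists_model_derangement Qs hQs hd hι hr2 hrp h₀ h₁ hV₀c hs1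
    (by rw [hdim₀, ← hi, hV₁d, he]; ring) S hSQ₀ hSr hfixS hsign
  refine ⟨x, hxΩ, hxr, hx1, ?_⟩
  intro W hWts hWinv
  obtain ⟨W', hW'inv, hW'ts, hW'd⟩ := hx W hWts hWinv
  obtain ⟨b, w, hbw, hb, hw1, hw2⟩ := model_bounds_even hrp h₀ h₁ hdim₀ S hSr hfixS hSirr
    (fun l => Q' (τ l)) hSQ A hcop hW'inv hW'ts
  rw [← hi, hW'd] at hbw
  refine ⟨b, w, hbw, hb.trans hAcard, by omega, ?_⟩
  intro hny
  have := hw2 (fun hy => hny (hV₁h.mp hy))
  omega

end family

end Cfsg.Agent.Helper7.OpTS
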