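import Mathlib
import Cfsg.Agent.Helper7.OpTSK

set_option autoImplicit false
set_option linter.unusedSectionVars false
set_option linter.unusedVariables false

/-!
# Derangements of odd prime order in `Ω^±_{2d}(q)` on totally singular subspaces: `i` odd
-/

namespace Cfsg.Agent.Helper7.OpTS

open Matrix Module Polynomial Cfsg.Agent.Helper8.SpS Cfsg.Agent.Helper8.SpStab Cfsg.Agent.Helper7.POrd
  Cfsg.Agent.Helper7.SpOrd Cfsg.Agent.Helper7.SpTI Cfsg.Agent.Helper7.SpCP Cfsg.Agent.Helper7.OrTS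
  Cfsg.Agent.Helper7.QTy Cfsg.Agent.Helper7.QPa Cfsg.Agent.Helper7.QMi Cfsg.Agent.Helper8.StdForms

universe v

section bounds

variable {F : Type v} [Field F] [Fintype F] {p : ℕ} [Fact p.Prime] [CharP F p] {r : ℕ} [Fact r.Prime]

/-- **the dimensions of an invariant totally singular subspace of the model**, no condition on the types. -/
theorem model_bounds_odd (hrp : r ≠ p)
    {V₀ V₁ : Type v} [AddCommGroup V₀] [Module F V₀] [FiniteDimensional F V₀]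
    [AddCommGroup V₁] [Module F V₁] [FiniteDimensional F V₁]
    {Q₀ : QuadraticForm F V₀} {Q₁ : QuadraticForm F V₁}
    (h₀ : ND (QuadraticMap.polarBilin Q₀) ⊤) (h₁ : ND (QuadraticMap.polarBilin Q₁) ⊤)
    {s : ℕ} (S : Fin s → Module.End F V₀) (hSQ : ∀ l v, Q₀ (S l v) = Q₀ v) (hSr : ∀ l, S l ^ r = 1)
    (hSfix : ∀ l, fixS (S l) = ⊥)
    {W : Submodule F ((Fin s → V₀) × V₁)} (hW : W ∈ Module.End.invtSubmodule (modelMap (V₁ := V₁) S))
    (hWts : TS (modelQ s Q₀ Q₁) W) :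
    ∃ b w, finrank F ↥W = orderOf ((Fintype.card F : ℕ) : ZMod r) * b + w ∧
      2 * (orderOf ((Fintype.card F : ℕ) : ZMod r) * b) ≤ s * finrank F V₀ ∧
      2 * w ≤ finrank F V₁ ∧ (¬ Hyp Q₁ ⊤ → 2 * w < finrank F V₁) := by
  classical
  haveI : Finite ((Fin s → V₀) × V₁) := Module.finite_of_finite F
  have hrF : (r : F) ≠ 0 := natCast_ne_zero_of_ne hrp
  have hφr := modelMap_pow_eq_one (V₁ := V₁) hSr
  have hφQ := modelQ_inv (s := s) Q₁ hSQ
  have hQE := modelQ_nd (s := s) h₀ h₁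
  have hdec := finrank_invt_decomp hrF hφr hW
  obtain ⟨hw1, hw2⟩ := finrank_ts_inf_fix_model h₀ h₁ hSfix hWts
  have hminv : W ⊓ movS r (modelMap (V₁ := V₁) S) ∈ Module.End.invtSubmodule (modelMap (V₁ := V₁) S) :=
    inf_invt hW (movS_invt r _)
  have hmfix : (W ⊓ movS r (modelMap (V₁ := V₁) S)) ⊓ fixS (modelMap (V₁ := V₁) S) = ⊥ := by
    rw [eq_bot_iff]
    intro v hv
    have := (disjoint_fix_mov hrF (modelMap (V₁ := V₁) S))
    rw [Submodule.disjoint_def] at this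
    exact (Submodule.mem_bot F).mpr (this v hv.2 hv.1.2)
  obtain ⟨b, hb⟩ := orderOf_dvd_finrank hφr hminv hmfix
  have hmovnd : ND (QuadraticMap.polarBilin (modelQ s Q₀ Q₁)) (movS r (modelMap (V₁ := V₁) S)) := by
    have := nd_inf_mov (pB_refl _) (iso_of_Q hφQ) hrF hφr (Module.End.invtSubmodule.top_mem _) hQE
    rwa [top_inf_eq] at this
  have hmov := finrank_ti_le_of_nd (pB_refl _) hQE hmovnd inf_le_right (ts_ti (ts_mono hWts inf_le_left))
  have hsum := finrank_fix_add_mov hrF hφr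
  rw [finrank_fix_model hSfix, Module.finrank_prod, Module.finrank_pi_fintype] at hsum
  simp only [Finset.sum_const, Finset.card_univ, Fintype.card_fin, smul_eq_mul] at hsum
  refine ⟨b, finrank F ↥(W ⊓ fixS (modelMap (V₁ := V₁) S)), ?_, ?_, hw1, hw2⟩
  · rw [hdec, hb, add_comm]
  · rw [hb] at hmov
    omega

end bounds

section family

variable {F : Type v} [Field F] [Fintype F] {p : ℕ} [Fact p.Prime] [CharP F p] {r : ℕ} [Fact r.Prime]

/-- **the derangement family, `i` odd**: `s` hyperbolic blocks. -/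
theorem exists_derangement_odd {ι : Type} [Fintype ι] [DecidableEq ι] (Qs : QuadraticForm F (ι → F))
    (hQs : ND (QuadraticMap.polarBilin Qs) ⊤) {d : ℕ} (hd : 3 ≤ d) (hι : Fintype.card ι = 2 * d)
    (hr2 : r ≠ 2) (hrp : r ≠ p) (hodd : Odd (orderOf ((Fintype.card F : ℕ) : ZMod r)))
    {s : ℕ} (hs1 : 1 ≤ s) (hsd : orderOf ((Fintype.card F : ℕ) : ZMod r) * s ≤ d)
    (hval : orderOf ((Fintype.card F : ℕ) : ZMod r) * s = d → Hyp Qs ⊤) :
    ∃ x : GL ι F, x ∈ Cfsg.Geo.omegaGL ⇑Qs ∧ x ^ r = 1 ∧ x ≠ 1 ∧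
      ∀ W : Submodule F (ι → F), (∀ w ∈ W, Qs w = 0) →
        W.map (Matrix.toLin' (x : Matrix ι ι F)) ≤ W →
        ∃ b w, finrank F ↥W = orderOf ((Fintype.card F : ℕ) : ZMod r) * b + w ∧ b ≤ s ∧
          w + orderOf ((Fintype.card F : ℕ) : ZMod r) * s ≤ d ∧
          (¬ Hyp Qs ⊤ → w + orderOf ((Fintype.card F : ℕ) : ZMod r) * s < d) := by
  classical
  have hr : r.Prime := Fact.out
  obtain ⟨i, hi⟩ : ∃ i, i = orderOf ((Fintype.card F : ℕ) : ZMod r) := ⟨_, rfl⟩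
  rw [← hi] at hodd hsd hval ⊢
  have hipos : 0 < i := by rw [hi]; exact orderOf_q_pos hrp
  have hnev : ¬ Even i := Nat.not_even_iff_odd.mpr hodd
  have hcOf : cOf (orderOf ((Fintype.card F : ℕ) : ZMod r)) = 2 * i := by
    rw [← hi]
    unfold cOf
    rw [if_neg hnev]
  obtain ⟨Q₀, T₀, h₀, hQT₀, hT₀r, hx₀fix⟩ := exists_quad_block hr2 hrp hcOf
  have hdim₀ : finrank F (Fin i ⊕ Fin i → F) = 2 * i := by
    rw [Module.finrank_fintype_fun_eq_card, Fintype.card_sum, Fintype.card_fin]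
    omega
  haveI : Nontrivial (Fin i ⊕ Fin i → F) := by
    haveI : Nonempty (Fin i ⊕ Fin i) := ⟨Sum.inl ⟨0, hipos⟩⟩
    infer_instance
  obtain ⟨S, hS⟩ : ∃ S : Fin s → Module.End F (Fin i ⊕ Fin i → F), S = fun _ => T₀ := ⟨_, rfl⟩
  have hSQ₀ : ∀ l v, Q₀ (S l v) = Q₀ v := fun l v => by rw [hS]; exact hQT₀ v
  have hSr : ∀ l, S l ^ r = 1 := fun l => by rw [hS]; exact hT₀r
  have hSfix : ∀ l, fixS (S l) = ⊥ := fun l => by rw [hS]; exact hx₀fix
  obtain ⟨e, he⟩ : ∃ e, d = i * s + e := ⟨d - i * s, by omega⟩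
  obtain ⟨V₁, iV1, iV2, iV3, Q₁, h₁, hV₁d, hV₁h⟩ :=
    exists_space_of_type (F := F) e (Hyp Qs ⊤) (fun he0 => hval (by omega))
  have hsign : Hyp Q₁ ⊤ ↔ (Hyp Qs ⊤ ↔ (Odd (orderOf ((Fintype.card F : ℕ) : ZMod r)) ∨ Even s)) := by
    rw [hV₁h, ← hi]
    tauto
  have hV₀c : finrank F (Fin i ⊕ Fin i → F) = cOf (orderOf ((Fintype.card F : ℕ) : ZMod r)) := by
    rw [hdim₀, hcOf]
  obtain ⟨x, hxΩ, hxr, hx1, hx⟩ := exists_model_derangement Qs hQs hd hι hr2 hrp h₀ h₁ hV₀c hs1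
    (by rw [hdim₀, hV₁d, he]; ring) S hSQ₀ hSr hSfix hsign
  refine ⟨x, hxΩ, hxr, hx1, ?_⟩
  intro W hWts hWinv
  obtain ⟨W', hW'inv, hW'ts, hW'd⟩ := hx W hWts hWinv
  obtain ⟨b, w, hbw, hb, hw1, hw2⟩ := model_bounds_odd hrp h₀ h₁ S hSQ₀ hSr hSfix hW'inv hW'ts
  rw [← hi, hW'd] at hbw
  rw [← hi, hdim₀] at hb
  refine ⟨b, w, hbw, ?_, by omega, ?_⟩
  · have h1 : i * b ≤ i * s := by
      have : s * (2 * i) = 2 * (i * s) := by ring
      omega
    exact Nat.le_of_mul_le_mul_left h1 hipos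
  · intro hny
    have := hw2 (fun hy => hny (hV₁h.mp hy))
    omega

end family

end Cfsg.Agent.Helper7.OpTS
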