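import Mathlib

set_option autoImplicit false
set_option linter.unusedSectionVars false
set_option linter.unusedVariables false

/-!
# Arithmetic of the dimensions of invariant totally singular subspaces, `i` even
-/

namespace Cfsg.Agent.Helper7.OpTS

theorem divmod_unique {i b w b' w' : ℕ} (h : i * b + w = i * b' + w') (hw : w < i) (hw' : w' < i) :
    b = b' ∧ w = w' := by
  have hi : 0 < i := by omega
  have h1 : (i * b + w) / i = b := by
    rw [Nat.add_comm, Nat.add_mul_div_left _ _ hi, Nat.div_eq_of_lt hw, Nat.zero_add]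
  have h2 : (i * b' + w') / i = b' := by
    rw [Nat.add_comm, Nat.add_mul_div_left _ _ hi, Nat.div_eq_of_lt hw', Nat.zero_add]
  have h3 : b = b' := by rw [← h1, ← h2, h]
  subst h3
  exact ⟨rfl, by omega⟩

theorem iff_even_enc {H : Prop} {h : ℕ} (hh1 : h ≤ 1) (hP : H ↔ h = 0) (x : ℕ) :
    (H ↔ Even x) ↔ (x + h) % 2 = 0 := by
  rw [hP, Nat.even_iff]
  omega

theorem iff_odd_enc {H : Prop} {h : ℕ} (hh1 : h ≤ 1) (hP : H ↔ h = 0) (x : ℕ) :
    (H ↔ Odd x) ↔ (x + h) % 2 = 1 := by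
  rw [hP, Nat.odd_iff]
  omega

theorem exists_enc (H : Prop) : ∃ h : ℕ, h ≤ 1 ∧ (H ↔ h = 0) := by
  by_cases hH : H
  · exact ⟨0, by omega, by simp [hH]⟩
  · exact ⟨1, le_refl 1, by simp [hH]⟩

/-- **necessity, `i` even**: from the derangement family to the condition of the statement. -/
theorem arith_nec_even (H : Prop) (i d m t : ℕ) (hi : 0 < i) (ht : 1 ≤ t) (hm : 1 ≤ m) (hmd : m < d)
    (hcond : ∃ j < m, ∃ u, (2 * (d - j) = i * u ∧ (H ↔ Even u)) ∨ (2 * (d - j - 1) = i * u ∧ (H ↔ Odd u)))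
    (hfam : ∀ s, 1 ≤ s → i * s ≤ 2 * d → (i * s = 2 * d → (H ↔ Even s)) →
      ∃ b w, m = i * b + w ∧ 2 * b ≤ 1 + (s - t) ∧ 2 * w + i * s ≤ 2 * d ∧
        (¬ (H ↔ Even s) → 2 * w + i * s < 2 * d)) :
    i ≤ m ∧ t + 2 * (m / i) ≤ 2 * d / i ∧
      ((2 * (m % i) ≤ i ∧ 2 * d % i = 0 ∧ (H ↔ Odd (2 * d / i)) ∧ t + 2 * (m / i) < 2 * d / i) ∨
       (2 * (m % i) ≤ 2 * d % i ∧ (H ↔ Even (2 * d / i))) ∨
       (2 * (m % i) < 2 * d % i ∧ (H ↔ Odd (2 * d / i)))) := by
  obtain ⟨h, hh1, hP⟩ := exists_enc H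
  simp only [iff_even_enc hh1 hP, iff_odd_enc hh1 hP] at hcond hfam ⊢
  obtain ⟨n', hn'⟩ : ∃ n', n' = 2 * d / i := ⟨_, rfl⟩
  obtain ⟨k, hk⟩ : ∃ k, k = 2 * d % i := ⟨_, rfl⟩
  obtain ⟨m', hm'⟩ : ∃ m', m' = m / i := ⟨_, rfl⟩
  obtain ⟨ℓ, hℓ⟩ : ∃ ℓ, ℓ = m % i := ⟨_, rfl⟩
  have hd2 : i * n' + k = 2 * d := by rw [hn', hk]; exact Nat.div_add_mod _ _
  have hki : k < i := by rw [hk]; exact Nat.mod_lt _ hi
  have hmm : i * m' + ℓ = m := by rw [hm', hℓ]; exact Nat.div_add_mod _ _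
  have hℓi : ℓ < i := by rw [hℓ]; exact Nat.mod_lt _ hi
  rw [← hn', ← hk, ← hm', ← hℓ]
  clear hn' hk hm' hℓ
  -- the consequences of the condition on `r`
  obtain ⟨j, hjm, u, hu⟩ := hcond
  have hu1 : 1 ≤ u := by
    rcases Nat.eq_zero_or_pos u with h0 | h0
    · rw [h0, mul_zero] at hu
      omega
    · exact h0
  have hiu : i ≤ i * u := Nat.le_mul_of_pos_right i hu1
  have hn1 : 1 ≤ n' := by
    rcases Nat.eq_zero_or_pos n' with h0 | h0
    · rw [h0, mul_zero] at hd2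
      omega
    · exact h0
  -- the top value of `s`
  have stepB : (0 < k ∨ (n' + h) % 2 = 0) →
      2 * ℓ ≤ k ∧ ((n' + h) % 2 = 1 → 2 * ℓ < k) ∧ 2 * m' ≤ 1 + (n' - t) := by
    intro hVT
    obtain ⟨b, w, hbw, hb, hw1, hw2⟩ := hfam n' hn1 (by omega) (by intro h1; omega)
    have hwi : w < i := by omega
    obtain ⟨h1, h2⟩ := divmod_unique (hmm.trans hbw) hℓi hwi
    subst h1 h2
    refine ⟨by omega, fun hp => ?_, hb⟩
    have := hw2 (by omega)
    omega
  have stepC : 2 ≤ n' → 2 * ℓ ≤ i + k ∧ ((n' + h) % 2 = 0 → 2 * ℓ < i + k) ∧ 2 * m' ≤ 1 + (n' - 1 - t) := by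
    intro hn2
    have hs : i * (n' - 1) + i = i * n' := by
      obtain ⟨a, rfl⟩ : ∃ a, n' = a + 1 := ⟨n' - 1, by omega⟩
      rw [Nat.add_sub_cancel]
      ring
    obtain ⟨b, w, hbw, hb, hw1, hw2⟩ := hfam (n' - 1) (by omega) (by omega) (by intro h1; omega)
    have hwi : w < i := by omega
    obtain ⟨h1, h2⟩ := divmod_unique (hmm.trans hbw) hℓi hwi
    subst h1 h2
    refine ⟨by omega, fun hp => ?_, hb⟩
    have := hw2 (by omega)
    omega
  have stepD : 3 ≤ n' → k = 0 → (n' + h) % 2 = 1 → 2 * m' ≤ 1 + (n' - 2 - t) := by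
    intro hn3 hk0 hp
    have hs : i * (n' - 2) + 2 * i = i * n' := by
      obtain ⟨a, rfl⟩ : ∃ a, n' = a + 2 := ⟨n' - 2, by omega⟩
      rw [Nat.add_sub_cancel]
      ring
    obtain ⟨b, w, hbw, hb, hw1, hw2⟩ := hfam (n' - 2) (by omega) (by omega) (by intro h1; omega)
    have := hw2 (by omega)
    have hwi : w < i := by omega
    obtain ⟨h1, h2⟩ := divmod_unique (hmm.trans hbw) hℓi hwi
    subst h1 h2
    exact hb
  -- the top value is admissible when `n' = 1`
  have hVT1 : n' = 1 → (0 < k ∨ (n' + h) % 2 = 0) := by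
    intro h1
    by_contra hcon
    push Not at hcon
    rw [h1, mul_one] at hd2
    rcases hu with ⟨hu, hpu⟩ | ⟨hu, hpu⟩
    · have : u = 1 := by
        rcases Nat.lt_or_ge u 2 with h2 | h2
        · omega
        · have : i * 2 ≤ i * u := Nat.mul_le_mul_left i h2
          omega
      subst this
      omega
    · omega
  -- `i ≤ m`
  have hI : 1 ≤ m' := by
    by_contra hcon
    have hm0 : m' = 0 := by omega
    subst hm0
    rw [mul_zero, zero_add] at hmm
    subst hmm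
    by_cases hVT : 0 < k ∨ (n' + h) % 2 = 0
    · obtain ⟨h1, h2, -⟩ := stepB hVT
      rcases hu with ⟨hu, hpu⟩ | ⟨hu, hpu⟩
      · have h3 : i * u + 2 * j = i * n' + k := by omega
        obtain ⟨h4, h5⟩ := divmod_unique h3 (by omega) hki
        omega
      · have h3 : i * u + (2 * j + 2) = i * n' + k := by omega
        obtain ⟨h4, h5⟩ := divmod_unique h3 (by omega) hki
        subst h4
        have := h2 (by omega)
        omega
    · push Not at hVT
      have hn2 : 2 ≤ n' := by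
        by_contra hcon2
        have := hVT1 (by omega)
        omega
      obtain ⟨h1, -, -⟩ := stepC hn2
      rcases hu with ⟨hu, hpu⟩ | ⟨hu, hpu⟩
      · have h3 : i * u + 2 * j = i * n' + 0 := by omega
        obtain ⟨h4, h5⟩ := divmod_unique h3 (by omega) hi
        subst h4
        omega
      · rcases Nat.lt_or_ge (2 * j + 2) i with h6 | h6
        · have h3 : i * u + (2 * j + 2) = i * n' + 0 := by omega
          obtain ⟨h4, h5⟩ := divmod_unique h3 h6 hi
          omega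
        · have h7 : i * (u + 1) = i * n' := by
            rw [mul_add, mul_one]
            omega
          have h8 := Nat.eq_of_mul_eq_mul_left hi h7
          omega
  have hII : t + 2 * m' ≤ n' := by
    rcases Nat.lt_or_ge n' 2 with h2 | h2
    · have h1 : n' = 1 := by omega
      obtain ⟨-, -, h3⟩ := stepB (hVT1 h1)
      omega
    · obtain ⟨-, -, h3⟩ := stepC h2
      omega
  have him : i ≤ m := by
    have : i * 1 ≤ i * m' := Nat.mul_le_mul_left i hI
    omega
  refine ⟨him, hII, ?_⟩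
  by_cases hpn : (n' + h) % 2 = 0
  · obtain ⟨h1, -, -⟩ := stepB (Or.inr hpn)
    exact Or.inr (Or.inl ⟨h1, hpn⟩)
  · have hpn' : (n' + h) % 2 = 1 := by omega
    rcases Nat.eq_zero_or_pos k with hk0 | hk0
    · left
      have hn2 : 2 ≤ n' := by
        by_contra hcon2
        have := hVT1 (by omega)
        omega
      obtain ⟨h1, -, h3⟩ := stepC hn2
      refine ⟨by omega, hk0, hpn', ?_⟩
      by_contra hcon
      have := stepD (by omega) hk0 hpn'
      omega
    · obtain ⟨-, h2, -⟩ := stepB (Or.inl hk0)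
      exact Or.inr (Or.inr ⟨h2 hpn', hpn'⟩)

end Cfsg.Agent.Helper7.OpTS
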