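import Mathlib
import Cfsg.Agent.Helper7.OpTSM

set_option autoImplicit false
set_option linter.unusedSectionVars false
set_option linter.unusedVariables false

/-!
# Arithmetic of the dimensions of invariant totally singular subspaces: sufficiency, and `i` odd
-/

namespace Cfsg.Agent.Helper7.OpTS

theorem cmp_lt {i M N ℓ k : ℕ} (hℓ : ℓ < i)
    (h : 2 * M + 2 ≤ N ∨ (2 * M + 1 = N ∧ 2 * ℓ < i + k) ∨ (2 * M = N ∧ 2 * ℓ < k)) :
    2 * (i * M + ℓ) < i * N + k := by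
  rcases h with h | ⟨h, h'⟩ | ⟨h, h'⟩
  · have h1 : i * (2 * M + 2) ≤ i * N := Nat.mul_le_mul_left i h
    have h2 : i * (2 * M + 2) = 2 * (i * M) + 2 * i := by ring
    omega
  · subst h
    have h2 : i * (2 * M + 1) = 2 * (i * M) + i := by ring
    omega
  · subst h
    have h2 : i * (2 * M) = 2 * (i * M) := by ring
    omega

theorem cmp_eq {i M N ℓ k : ℕ} (h : (2 * M + 1 = N ∧ 2 * ℓ = i + k) ∨ (2 * M = N ∧ 2 * ℓ = k)) :
    2 * (i * M + ℓ) = i * N + k := by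
  rcases h with ⟨h, h'⟩ | ⟨h, h'⟩
  · subst h
    have h2 : i * (2 * M + 1) = 2 * (i * M) + i := by ring
    omega
  · subst h
    have h2 : i * (2 * M) = 2 * (i * M) := by ring
    omega

/-- **sufficiency, `i` even**: from the condition of the statement to the dimensions of the two parts. -/
theorem arith_suff_even (H : Prop) (i d m t s mov fx : ℕ) (HC : Prop) (hi : 0 < i)
    (him : i ≤ m) (h1 : t + 2 * (m / i) ≤ 2 * d / i)
    (h2 : (2 * (m % i) ≤ i ∧ 2 * d % i = 0 ∧ (H ↔ Odd (2 * d / i)) ∧ t + 2 * (m / i) < 2 * d / i) ∨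
       (2 * (m % i) ≤ 2 * d % i ∧ (H ↔ Even (2 * d / i))) ∨
       (2 * (m % i) < 2 * d % i ∧ (H ↔ Odd (2 * d / i))))
    (hmov : mov = i * s) (hfx : fx + mov = 2 * d) (hHC : HC ↔ (H ↔ Even s)) (hval : fx = 0 → HC) :
    ∃ b w, m = i * b + w ∧ (b = 0 ∨ t * i + 2 * i * b < mov + 2 * i) ∧
      (2 * w < fx ∨ (2 * w = fx ∧ HC)) := by
  obtain ⟨h, hh1, hP⟩ := exists_enc H
  simp only [iff_even_enc hh1 hP, iff_odd_enc hh1 hP] at h2 hHC
  obtain ⟨n', hn'⟩ : ∃ n', n' = 2 * d / i := ⟨_, rfl⟩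
  obtain ⟨k, hk⟩ : ∃ k, k = 2 * d % i := ⟨_, rfl⟩
  obtain ⟨m', hm'⟩ : ∃ m', m' = m / i := ⟨_, rfl⟩
  obtain ⟨ℓ, hℓ⟩ : ∃ ℓ, ℓ = m % i := ⟨_, rfl⟩
  have hd2 : i * n' + k = 2 * d := by rw [hn', hk]; exact Nat.div_add_mod _ _
  have hki : k < i := by rw [hk]; exact Nat.mod_lt _ hi
  have hmm : i * m' + ℓ = m := by rw [hm', hℓ]; exact Nat.div_add_mod _ _
  have hℓi : ℓ < i := by rw [hℓ]; exact Nat.mod_lt _ hi
  rw [← hn', ← hm'] at h1
  rw [← hn', ← hk, ← hm', ← hℓ] at h2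
  clear hn' hk hm' hℓ
  subst hmov
  have hsn : s ≤ n' := by
    by_contra hcon
    have h3 : i * (n' + 1) ≤ i * s := Nat.mul_le_mul_left i (by omega)
    rw [mul_add, mul_one] at h3
    omega
  obtain ⟨N, hN⟩ : ∃ N, s + N = n' := ⟨n' - s, by omega⟩
  have hiN : i * s + i * N = i * n' := by rw [← mul_add, hN]
  have hfxN : fx = i * N + k := by omega
  have hN0 : N = 0 → k = 0 → fx = 0 := by
    intro h3 h4
    rw [hfxN, h3, h4, mul_zero]
  obtain ⟨b, hb⟩ : ∃ b, (b = m' ∧ m' ≤ (1 + (s - t)) / 2) ∨ (b = (1 + (s - t)) / 2 ∧ (1 + (s - t)) / 2 < m') := by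
    rcases Nat.lt_or_ge ((1 + (s - t)) / 2) m' with h3 | h3
    · exact ⟨_, Or.inr ⟨rfl, h3⟩⟩
    · exact ⟨_, Or.inl ⟨rfl, h3⟩⟩
  obtain ⟨M, hM⟩ : ∃ M, b + M = m' := ⟨m' - b, by omega⟩
  have hiM : i * b + i * M = i * m' := by rw [← mul_add, hM]
  refine ⟨b, i * M + ℓ, by omega, ?_, ?_⟩
  · rcases Nat.eq_zero_or_pos b with hb0 | hb0
    · exact Or.inl hb0
    · right
      have h3 : t + 2 * b < s + 2 := by omega
      have h4 : i * (t + 2 * b) < i * (s + 2) := (Nat.mul_lt_mul_left hi).mpr h3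
      have h5 : i * (t + 2 * b) = t * i + 2 * i * b := by ring
      have h6 : i * (s + 2) = i * s + 2 * i := by ring
      omega
  · have hval' : N = 0 → k = 0 → (s + h) % 2 = 0 := fun h3 h4 => hHC.mp (hval (hN0 h3 h4))
    have key : (2 * M + 2 ≤ N ∨ (2 * M + 1 = N ∧ 2 * ℓ < i + k) ∨ (2 * M = N ∧ 2 * ℓ < k)) ∨
        (((2 * M + 1 = N ∧ 2 * ℓ = i + k) ∨ (2 * M = N ∧ 2 * ℓ = k)) ∧ (s + h) % 2 = 0) := by
      omega
    rcases key with key | ⟨key, hps⟩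
    · left
      rw [hfxN]
      exact cmp_lt hℓi key
    · right
      rw [hfxN]
      exact ⟨cmp_eq key, hHC.mpr hps⟩

/-- **necessity, `i` odd**. -/
theorem arith_nec_odd (H : Prop) (i d m : ℕ) (hi : 0 < i) (hm : 1 ≤ m) (hmd : m < d)
    (hcond : ∃ j < m, ∃ u, (H ∧ d - j = i * u) ∨ (¬ H ∧ d - j - 1 = i * u))
    (hfam : ∀ s, 1 ≤ s → i * s ≤ d → (i * s = d → H) →
      ∃ b w, m = i * b + w ∧ b ≤ s ∧ w + i * s ≤ d ∧ (¬ H → w + i * s < d)) :
    i ≤ m ∧ (H → 2 * (m % i) ≤ 2 * d % (2 * i)) ∧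
      (¬ H → 2 * d % (2 * i) = 0 ∨ 2 * (m % i) < 2 * d % (2 * i)) := by
  rw [Nat.mul_mod_mul_left]
  obtain ⟨n', hn'⟩ : ∃ n', n' = d / i := ⟨_, rfl⟩
  obtain ⟨k, hk⟩ : ∃ k, k = d % i := ⟨_, rfl⟩
  obtain ⟨m', hm'⟩ : ∃ m', m' = m / i := ⟨_, rfl⟩
  obtain ⟨ℓ, hℓ⟩ : ∃ ℓ, ℓ = m % i := ⟨_, rfl⟩
  have hd2 : i * n' + k = d := by rw [hn', hk]; exact Nat.div_add_mod _ _
  have hki : k < i := by rw [hk]; exact Nat.mod_lt _ hi
  have hmm : i * m' + ℓ = m := by rw [hm', hℓ]; exact Nat.div_add_mod _ _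
  have hℓi : ℓ < i := by rw [hℓ]; exact Nat.mod_lt _ hi
  rw [← hk, ← hℓ]
  clear hn' hk hm' hℓ
  obtain ⟨j, hjm, u, hu⟩ := hcond
  have hu1 : 1 ≤ u := by
    rcases Nat.eq_zero_or_pos u with h0 | h0
    · rw [h0, mul_zero] at hu
      omega
    · exact h0
  have hiu : i ≤ i * u := Nat.le_mul_of_pos_right i hu1
  have hn1 : 1 ≤ n' := by
    rcases Nat.eq_zero_or_pos n' with h0 | h0
    · rw [h0, mul_zero] at hd2
      omega
    · exact h0
  have stepB : (H ∨ 0 < k) → ∃ b w, m = i * b + w ∧ w ≤ k ∧ (¬ H → w < k) := by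
    intro hVT
    obtain ⟨b, w, hbw, hb, hw1, hw2⟩ := hfam n' hn1 (by omega) (by
      intro h1
      rcases hVT with h3 | h3
      · exact h3
      · omega)
    refine ⟨b, w, hbw, by omega, fun hH => ?_⟩
    have := hw2 hH
    omega
  have hI : 1 ≤ m' := by
    by_contra hcon
    have hm0 : m' = 0 := by omega
    subst hm0
    rw [mul_zero, zero_add] at hmm
    subst hmm
    rcases hu with ⟨hH, hu⟩ | ⟨hH, hu⟩
    · obtain ⟨b, w, hbw, hw1, -⟩ := stepB (Or.inl hH)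
      have h0 : i * 0 + ℓ = i * b + w := by omega
      obtain ⟨h4, h5⟩ := divmod_unique h0 hℓi (by omega)
      subst h5
      have h3 : i * u + j = i * n' + k := by omega
      obtain ⟨h6, h7⟩ := divmod_unique h3 (by omega) hki
      omega
    · rcases Nat.eq_zero_or_pos k with hk0 | hk0
      · have h3 : i * u + (j + 1) = i * n' + 0 := by omega
        obtain ⟨h6, h7⟩ := divmod_unique h3 (by omega) hi
        omega
      · obtain ⟨b, w, hbw, hw1, hw2⟩ := stepB (Or.inr hk0)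
        have := hw2 hH
        have h0 : i * 0 + ℓ = i * b + w := by omega
        obtain ⟨h4, h5⟩ := divmod_unique h0 hℓi (by omega)
        subst h5
        have h3 : i * u + (j + 1) = i * n' + k := by omega
        obtain ⟨h6, h7⟩ := divmod_unique h3 (by omega) hki
        omega
  have him : i ≤ m := by
    have : i * 1 ≤ i * m' := Nat.mul_le_mul_left i hI
    omega
  refine ⟨him, fun hH => ?_, fun hH => ?_⟩
  · obtain ⟨b, w, hbw, hw1, -⟩ := stepB (Or.inl hH)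
    obtain ⟨h4, h5⟩ := divmod_unique (hmm.trans hbw) hℓi (by omega)
    omega
  · rcases Nat.eq_zero_or_pos k with hk0 | hk0
    · left
      omega
    · right
      obtain ⟨b, w, hbw, hw1, hw2⟩ := stepB (Or.inr hk0)
      have := hw2 hH
      obtain ⟨h4, h5⟩ := divmod_unique (hmm.trans hbw) hℓi (by omega)
      omega

/-- **sufficiency, `i` odd**. -/
theorem arith_suff_odd (H : Prop) (i d m s mov fx : ℕ) (HC : Prop) (hi : 0 < i) (hmd : m < d)
    (h2 : (H → 2 * (m % i) ≤ 2 * d % (2 * i)) ∧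
      (¬ H → 2 * d % (2 * i) = 0 ∨ 2 * (m % i) < 2 * d % (2 * i)))
    (hmov : mov = 2 * i * s) (hfx : fx + mov = 2 * d) (hHC : HC ↔ H) (hval : fx = 0 → HC) :
    ∃ b w, m = i * b + w ∧ (b = 0 ∨ 2 * i * b ≤ mov) ∧ (2 * w < fx ∨ (2 * w = fx ∧ HC)) := by
  rw [Nat.mul_mod_mul_left] at h2
  obtain ⟨n', hn'⟩ : ∃ n', n' = d / i := ⟨_, rfl⟩
  obtain ⟨k, hk⟩ : ∃ k, k = d % i := ⟨_, rfl⟩
  obtain ⟨m', hm'⟩ : ∃ m', m' = m / i := ⟨_, rfl⟩
  obtain ⟨ℓ, hℓ⟩ : ∃ ℓ, ℓ = m % i := ⟨_, rfl⟩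
  have hd2 : i * n' + k = d := by rw [hn', hk]; exact Nat.div_add_mod _ _
  have hki : k < i := by rw [hk]; exact Nat.mod_lt _ hi
  have hmm : i * m' + ℓ = m := by rw [hm', hℓ]; exact Nat.div_add_mod _ _
  have hℓi : ℓ < i := by rw [hℓ]; exact Nat.mod_lt _ hi
  rw [← hk, ← hℓ] at h2
  clear hn' hk hm' hℓ
  subst hmov
  have h2is : 2 * i * s = 2 * (i * s) := by ring
  have hsn : s ≤ n' := by
    by_contra hcon
    have h3 : i * (n' + 1) ≤ i * s := Nat.mul_le_mul_left i (by omega)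
    rw [mul_add, mul_one] at h3
    omega
  obtain ⟨N, hN⟩ : ∃ N, s + N = n' := ⟨n' - s, by omega⟩
  have hiN : i * s + i * N = i * n' := by rw [← mul_add, hN]
  have hfxN : fx = 2 * (i * N + k) := by omega
  have hiN1 : 1 ≤ N → i ≤ i * N := fun h3 => Nat.le_mul_of_pos_right i h3
  have hN0 : N = 0 → i * N = 0 := fun h3 => by rw [h3, mul_zero]
  obtain ⟨b, hb⟩ : ∃ b, (b = m' ∧ m' ≤ s) ∨ (b = s ∧ s < m') := by
    rcases Nat.lt_or_ge s m' with h3 | h3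
    · exact ⟨_, Or.inr ⟨rfl, h3⟩⟩
    · exact ⟨_, Or.inl ⟨rfl, h3⟩⟩
  obtain ⟨M, hM⟩ : ∃ M, b + M = m' := ⟨m' - b, by omega⟩
  have hiM : i * b + i * M = i * m' := by rw [← mul_add, hM]
  have hbs : i * b ≤ i * s := Nat.mul_le_mul_left i (by omega)
  have hM0 : M = 0 → i * M = 0 := fun h3 => by rw [h3, mul_zero]
  refine ⟨b, i * M + ℓ, by omega, ?_, ?_⟩
  · right
    have : 2 * i * b = 2 * (i * b) := by ring
    omega
  · by_cases hH : H
    · have hHC' : HC := hHC.mpr hH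
      have h3 := h2.1 hH
      rcases hb with ⟨hb1, hb2⟩ | ⟨hb1, hb2⟩
      · have : M = 0 := by omega
        have := hM0 this
        rcases Nat.lt_or_ge (2 * (i * M + ℓ)) fx with h4 | h4
        · exact Or.inl h4
        · exact Or.inr ⟨by omega, hHC'⟩
      · subst hb1
        rcases Nat.lt_or_ge (2 * (i * M + ℓ)) fx with h4 | h4
        · exact Or.inl h4
        · exact Or.inr ⟨by omega, hHC'⟩
    · left
      have h3 := h2.2 hH
      have hfx0 : fx ≠ 0 := fun h4 => hH (hHC.mp (hval h4))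
      rcases hb with ⟨hb1, hb2⟩ | ⟨hb1, hb2⟩
      · have : M = 0 := by omega
        have := hM0 this
        rcases Nat.eq_zero_or_pos N with h5 | h5
        · have := hN0 h5
          omega
        · have := hiN1 h5
          omega
      · subst hb1
        omega

end Cfsg.Agent.Helper7.OpTS
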