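import Mathlib
import Cfsg.Agent.Helper7.OpTSL
import Cfsg.Agent.Helper7.OpTSN

set_option autoImplicit false
set_option linter.unusedSectionVars false
set_option linter.unusedVariables false

/-!
# Isometries of odd prime order and totally singular subspaces of a given dimension: the criterion
-/

namespace Cfsg.Agent.Helper7.OpTS

open Matrix Module Polynomial Cfsg.Agent.Helper7.POrd Cfsg.Agent.Helper7.SpOrd Cfsg.Agent.Helper7.SpTI
  Cfsg.Agent.Helper7.OrTS Cfsg.Agent.Helper7.QTy Cfsg.Agent.Helper7.QPa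

universe u v

/-- the condition of the statements, `i` odd. -/
def OddCond (H : Prop) (i d m : ℕ) : Prop :=
  i ≤ m ∧ (H → 2 * (m % i) ≤ 2 * d % (2 * i)) ∧ (¬ H → 2 * d % (2 * i) = 0 ∨ 2 * (m % i) < 2 * d % (2 * i))

/-- the condition of the statements, `i` even. -/
def EvenCond (H : Prop) (i d m t : ℕ) : Prop :=
  i ≤ m ∧ t + 2 * (m / i) ≤ 2 * d / i ∧
    ((2 * (m % i) ≤ i ∧ 2 * d % i = 0 ∧ (H ↔ Odd (2 * d / i)) ∧ t + 2 * (m / i) < 2 * d / i) ∨
     (2 * (m % i) ≤ 2 * d % i ∧ (H ↔ Even (2 * d / i))) ∨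
     (2 * (m % i) < 2 * d % i ∧ (H ↔ Odd (2 * d / i))))

section suff

variable {F : Type v} [Field F] [Fintype F] {V : Type u} [AddCommGroup V] [Module F V] [FiniteDimensional F V]
  {p : ℕ} [Fact p.Prime] [CharP F p] {r : ℕ} [Fact r.Prime]

theorem hyp_of_finrank_zero (Q : QuadraticForm F V) {W : Submodule F V} (h : finrank F ↥W = 0) : Hyp Q W :=
  ⟨⊥, bot_le, ts_bot Q, by rw [finrank_bot, h]⟩

/-- **sufficiency**: an isometry of odd prime order `r ≠ p` has an invariant totally singular `m`-space under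
the condition of the statements. -/
theorem exists_ts_invt_of_cond (hr2 : r ≠ 2) (hrp : r ≠ p) {Q : QuadraticForm F V}
    (hV : ND (QuadraticMap.polarBilin Q) ⊤) {d : ℕ} (hdim : finrank F V = 2 * d) {m : ℕ} (hmd : m < d)
    (hcond : (Odd (orderOf ((Fintype.card F : ℕ) : ZMod r)) ∧
        OddCond (Hyp Q ⊤) (orderOf ((Fintype.card F : ℕ) : ZMod r)) d m) ∨
      (Even (orderOf ((Fintype.card F : ℕ) : ZMod r)) ∧
        EvenCond (Hyp Q ⊤) (orderOf ((Fintype.card F : ℕ) : ZMod r)) d m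
          ((r - 1) / orderOf ((Fintype.card F : ℕ) : ZMod r))))
    {T : Module.End F V} (hQT : ∀ v, Q (T v) = Q v) (hT : T ^ r = 1) :
    ∃ W : Submodule F V, W ∈ Module.End.invtSubmodule T ∧ TS Q W ∧ finrank F ↥W = m := by
  obtain ⟨s, hmov, hsum, hHC⟩ := struct_q hr2 hrp hV hQT hT (by rw [hdim]; exact even_two_mul d)
  apply exists_ts_invt_q hr2 hrp hV hQT hT
  obtain ⟨i, hi⟩ : ∃ i, i = orderOf ((Fintype.card F : ℕ) : ZMod r) := ⟨_, rfl⟩
  rw [← hi] at hcond hmov hsum hHC ⊢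
  have hipos : 0 < i := by rw [hi]; exact orderOf_q_pos hrp
  rw [hdim, ← hmov] at hsum
  rcases hcond with ⟨hodd, -, h2, h3⟩ | ⟨hev, h1, h2, h3⟩
  · have hnev : ¬ Even i := Nat.not_even_iff_odd.mpr hodd
    have hc : cOf i = 2 * i := by unfold cOf; rw [if_neg hnev]
    rw [hc] at hmov
    have hHC' : Hyp Q (fixS T) ↔ Hyp Q ⊤ := by
      rw [hHC]
      tauto
    obtain ⟨b, w, hbw, hb, hw⟩ := arith_suff_odd (Hyp Q ⊤) i d m s _ _ (Hyp Q (fixS T)) hipos hmd ⟨h2, h3⟩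
      hmov hsum hHC' (fun h0 => hyp_of_finrank_zero Q h0)
    refine ⟨b, w, hbw, ?_, hw⟩
    rw [if_neg hnev]
    exact hb
  · have hc : cOf i = i := by unfold cOf; rw [if_pos hev]
    rw [hc] at hmov
    have hHC' : Hyp Q (fixS T) ↔ (Hyp Q ⊤ ↔ Even s) := by
      rw [hHC]
      have : ¬ Odd i := Nat.not_odd_iff_even.mpr hev
      tauto
    have ht : (r - 1) / i * i = r - 1 := by
      apply Nat.div_mul_cancel
      rw [hi]
      exact orderOf_q_dvd hrp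
    obtain ⟨b, w, hbw, hb, hw⟩ := arith_suff_even (Hyp Q ⊤) i d m ((r - 1) / i) s _ _ (Hyp Q (fixS T)) hipos
      h1 h2 h3 hmov hsum hHC' (fun h0 => hyp_of_finrank_zero Q h0)
    refine ⟨b, w, hbw, ?_, hw⟩
    rw [if_pos hev]
    rw [ht] at hb
    exact hb

end suff

section cond

variable {F : Type v} [Field F] [Fintype F] {V : Type u} [AddCommGroup V] [Module F V] [FiniteDimensional F V]
  {r : ℕ} [Fact r.Prime]

/-- **primes dividing the number of totally singular subspaces**, both types. -/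
theorem exists_cond_gen (hr2 : r ≠ 2) {Q : QuadraticForm F V}
    (hV : ND (QuadraticMap.polarBilin Q) ⊤) {d : ℕ}
    (hn : finrank F V = 2 * d) (m : ℕ) (hm : m ≤ d) (h : r ∣ Nat.card (TSSub Q m)) :
    ∃ j < m, (orderOf ((Fintype.card F : ℕ) : ZMod r) ∣ 2 * (d - j) ∧
        (Hyp Q ⊤ ↔ orderOf ((Fintype.card F : ℕ) : ZMod r) ∣ d - j)) ∨
      (orderOf ((Fintype.card F : ℕ) : ZMod r) ∣ 2 * (d - j - 1) ∧
        (Hyp Q ⊤ ↔ ¬ orderOf ((Fintype.card F : ℕ) : ZMod r) ∣ d - j - 1)) := by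
  haveI : Finite V := Module.finite_of_finite F
  by_cases hy : Hyp Q ⊤
  · obtain ⟨j, hj, h1 | ⟨h1, h2⟩⟩ := exists_cond_of_dvd_plus hr2 hV hn hy m hm h
    · exact ⟨j, hj, Or.inl ⟨Dvd.dvd.mul_left h1 2, iff_of_true hy h1⟩⟩
    · exact ⟨j, hj, Or.inr ⟨h1, iff_of_true hy h2⟩⟩
  · obtain ⟨j, hj, ⟨h1, h2⟩ | h1⟩ := exists_cond_of_dvd_minus hr2 hV hn hy m hm h
    · exact ⟨j, hj, Or.inl ⟨h1, iff_of_false hy h2⟩⟩
    · exact ⟨j, hj, Or.inr ⟨Dvd.dvd.mul_left h1 2, iff_of_false hy (not_not.mpr h1)⟩⟩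

theorem dvd_iff_even_quot {i e u : ℕ} (hi : 0 < i) (h : 2 * e = i * u) : i ∣ e ↔ Even u := by
  constructor
  · rintro ⟨v, rfl⟩
    have h1 : i * (2 * v) = i * u := by rw [← h]; ring
    have h2 := Nat.eq_of_mul_eq_mul_left hi h1
    exact ⟨v, by omega⟩
  · rintro ⟨v, rfl⟩
    refine ⟨v, ?_⟩
    have h1 : 2 * e = 2 * (i * v) := by rw [h]; ring
    omega

end cond

section nec

variable {F : Type v} [Field F] [Fintype F] {p : ℕ} [Fact p.Prime] [CharP F p] {r : ℕ} [Fact r.Prime]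

/-- **necessity**: if every element of `Ω` of odd prime order `r ≠ p` fixes a totally singular `m`-space then the
condition of the statements holds. -/
theorem cond_of_forall_fix {ι : Type} [Fintype ι] [DecidableEq ι] (Qs : QuadraticForm F (ι → F))
    (hQs : ND (QuadraticMap.polarBilin Qs) ⊤) {d : ℕ} (hd : 3 ≤ d) (hι : Fintype.card ι = 2 * d)
    (hr2 : r ≠ 2) (hrp : r ≠ p) {m : ℕ} (hm : 1 ≤ m) (hmd : m < d)
    (hdvd : r ∣ Nat.card (TSSub Qs m))
    (hall : ∀ x : GL ι F, x ∈ Cfsg.Geo.omegaGL ⇑Qs → x ^ r = 1 → x ≠ 1 →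
      ∃ W : Submodule F (ι → F), finrank F ↥W = m ∧ (∀ w ∈ W, Qs w = 0) ∧
        W.map (Matrix.toLin' (x : Matrix ι ι F)) ≤ W) :
    (Odd (orderOf ((Fintype.card F : ℕ) : ZMod r)) ∧
        OddCond (Hyp Qs ⊤) (orderOf ((Fintype.card F : ℕ) : ZMod r)) d m) ∨
      (Even (orderOf ((Fintype.card F : ℕ) : ZMod r)) ∧
        EvenCond (Hyp Qs ⊤) (orderOf ((Fintype.card F : ℕ) : ZMod r)) d m
          ((r - 1) / orderOf ((Fintype.card F : ℕ) : ZMod r))) := by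
  classical
  have hr : r.Prime := Fact.out
  have hdimV : finrank F (ι → F) = 2 * d := by rw [Module.finrank_fintype_fun_eq_card, hι]
  obtain ⟨j, hjm, hj⟩ := exists_cond_gen hr2 hQs hdimV m hmd.le hdvd
  have hipos : 0 < orderOf ((Fintype.card F : ℕ) : ZMod r) := orderOf_q_pos hrp
  by_cases hev : Even (orderOf ((Fintype.card F : ℕ) : ZMod r))
  · right
    refine ⟨hev, ?_⟩
    have ht1 : 1 ≤ (r - 1) / orderOf ((Fintype.card F : ℕ) : ZMod r) := by
      apply Nat.div_pos _ hipos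
      apply Nat.le_of_dvd _ (orderOf_q_dvd hrp)
      have := hr.two_le
      omega
    apply arith_nec_even (Hyp Qs ⊤) _ d m _ hipos ht1 hm hmd
    · refine ⟨j, hjm, ?_⟩
      rcases hj with ⟨⟨u, hu⟩, h2⟩ | ⟨⟨u, hu⟩, h2⟩
      · exact ⟨u, Or.inl ⟨hu, by rw [h2, dvd_iff_even_quot hipos hu]⟩⟩
      · refine ⟨u, Or.inr ⟨hu, ?_⟩⟩
        rw [h2, dvd_iff_even_quot hipos hu, Nat.not_even_iff_odd]
    · intro s hs1 hsd hval
      obtain ⟨x, hxΩ, hxr, hx1, hx⟩ := exists_derangement_even Qs hQs hd hι hr2 hrp hev hs1 hsd hval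
      obtain ⟨W, hWd, hWts, hWinv⟩ := hall x hxΩ hxr hx1
      obtain ⟨b, w, hbw, hb, hw1, hw2⟩ := hx W hWts hWinv
      exact ⟨b, w, by rw [← hWd]; exact hbw, hb, hw1, hw2⟩
  · left
    have hodd : Odd (orderOf ((Fintype.card F : ℕ) : ZMod r)) := Nat.not_even_iff_odd.mp hev
    refine ⟨hodd, ?_⟩
    apply arith_nec_odd (Hyp Qs ⊤) _ d m hipos hm hmd
    · refine ⟨j, hjm, ?_⟩
      have hcop : Nat.Coprime (orderOf ((Fintype.card F : ℕ) : ZMod r)) 2 :=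
        Nat.Coprime.symm (Nat.coprime_two_left.mpr hodd)
      rcases hj with ⟨h1, h2⟩ | ⟨h1, h2⟩
      · have h3 := hcop.dvd_of_dvd_mul_left h1
        obtain ⟨u, hu⟩ := h3
        exact ⟨u, Or.inl ⟨h2.mpr ⟨u, hu⟩, hu⟩⟩
      · have h3 := hcop.dvd_of_dvd_mul_left h1
        obtain ⟨u, hu⟩ := h3
        exact ⟨u, Or.inr ⟨fun hy => (h2.mp hy) ⟨u, hu⟩, hu⟩⟩
    · intro s hs1 hsd hval
      obtain ⟨x, hxΩ, hxr, hx1, hx⟩ := exists_derangement_odd Qs hQs hd hι hr2 hrp hodd hs1 hsd hval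
      obtain ⟨W, hWd, hWts, hWinv⟩ := hall x hxΩ hxr hx1
      obtain ⟨b, w, hbw, hb, hw1, hw2⟩ := hx W hWts hWinv
      exact ⟨b, w, by rw [← hWd]; exact hbw, hb, hw1, hw2⟩

end nec

end Cfsg.Agent.Helper7.OpTS
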