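import Mathlib
import Cfsg.Agent.Helper7.OpTSO

set_option autoImplicit false
set_option linter.unusedSectionVars false
set_option linter.unusedVariables false

/-!
# Elements of odd prime order `r ≠ p` of `PΩ^±_{2d}(q)` and totally singular `m`-spaces: the criterion
-/

namespace Cfsg.Agent.Helper7.OpTS

open Matrix Module Polynomial Cfsg.Agent.Helper7.POrd Cfsg.Agent.Helper7.SpOrd Cfsg.Agent.Helper7.SpTI
  Cfsg.Agent.Helper7.OrTS Cfsg.Agent.Helper7.QTy Cfsg.Agent.Helper7.QPa

universe u v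

section scalars

variable {F : Type v} [Field F] {V : Type u} [AddCommGroup V] [Module F V]

theorem exists_nonsing [Nontrivial V] {Q : QuadraticForm F V} (hV : ND (QuadraticMap.polarBilin Q) ⊤) :
    ∃ v, Q v ≠ 0 := by
  by_contra hcon
  push Not at hcon
  obtain ⟨u, hu⟩ := exists_ne (0 : V)
  obtain ⟨w, -, hw⟩ := hV u Submodule.mem_top hu
  apply hw
  rw [pB_apply]
  unfold QuadraticMap.polar
  rw [hcon, hcon, hcon]
  ring

/-- a scalar isometry is `±1`. -/
theorem scalar_pm_one [Nontrivial V] {Q : QuadraticForm F V} (hV : ND (QuadraticMap.polarBilin Q) ⊤)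
    {z : F} (hz : ∀ v, Q (z • v) = Q v) : z = 1 ∨ z = -1 := by
  obtain ⟨v, hv⟩ := exists_nonsing hV
  have h1 := hz v
  rw [QuadraticMap.map_smul, smul_eq_mul] at h1
  have h2 : (z - 1) * (z + 1) * Q v = 0 := by linear_combination h1
  rcases mul_eq_zero.mp h2 with h | h
  · rcases mul_eq_zero.mp h with h | h
    · exact Or.inl (by linear_combination h)
    · exact Or.inr (by linear_combination h)
  · exact absurd h hv

end scalars

section gl

variable {F : Type v} [Field F] {ι : Type} [Fintype ι] [DecidableEq ι]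

theorem QT_of_mem_iso {Qs : QuadraticForm F (ι → F)} {x : GL ι F} (hx : x ∈ Cfsg.isometryGroup F ⇑Qs)
    (v : ι → F) : Qs (Matrix.toLin' (x : Matrix ι ι F) v) = Qs v := by
  rw [Matrix.toLin'_apply]
  exact (Cfsg.Agent.Helper8.AutImageOrth.mem_isometryGroup_iff' _ x).mp hx v

theorem iso_of_mem_omega {Qs : QuadraticForm F (ι → F)} {x : GL ι F} (hx : x ∈ Cfsg.Geo.omegaGL ⇑Qs) :
    x ∈ Cfsg.isometryGroup F ⇑Qs := by
  obtain ⟨y, -, rfl⟩ := hx
  exact y.2

/-- a scalar power of an isometry is `±1`. -/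
theorem scalar_pow_pm_one [Nonempty ι] {Qs : QuadraticForm F (ι → F)} (hQs : ND (QuadraticMap.polarBilin Qs) ⊤)
    {x : GL ι F} (hx : x ∈ Cfsg.isometryGroup F ⇑Qs) {n : ℕ} {z : F}
    (hz : ((x ^ n : GL ι F) : Matrix ι ι F) = z • (1 : Matrix ι ι F)) : z = 1 ∨ z = -1 := by
  apply scalar_pm_one hQs
  intro v
  have h1 := QT_of_mem_iso (pow_mem hx n) v
  rw [hz, Matrix.toLin'_apply, Matrix.smul_mulVec, Matrix.one_mulVec] at h1
  exact h1

theorem map_le_of_invt {x : GL ι F} {W : Submodule F (ι → F)}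
    (h : W ∈ Module.End.invtSubmodule (Matrix.toLin' (x : Matrix ι ι F))) :
    W.map (Matrix.toLin' (x : Matrix ι ι F)) ≤ W := by
  rw [Submodule.map_le_iff_le_comap]
  exact (Module.End.mem_invtSubmodule _).mp h

theorem invt_of_neg_invt {V : Type u} [AddCommGroup V] [Module F V] {T : Module.End F V} {W : Submodule F V}
    (h : W ∈ Module.End.invtSubmodule (-T)) : W ∈ Module.End.invtSubmodule T := by
  rw [Module.End.mem_invtSubmodule] at h ⊢
  intro w hw
  have := h hw
  rw [Submodule.mem_comap, LinearMap.neg_apply] at this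
  rw [Submodule.mem_comap]
  exact (Submodule.neg_mem_iff _).mp this

end gl

section main

variable {F : Type v} [Field F] [Fintype F] {p : ℕ} [Fact p.Prime] [CharP F p] {r : ℕ} [Fact r.Prime]

/-- **the case of odd `r ≠ p`**, both types. -/
theorem odd_case_iff_ts {ι : Type} [Fintype ι] [DecidableEq ι] (Qs : QuadraticForm F (ι → F))
    (hQs : ND (QuadraticMap.polarBilin Qs) ⊤) {d : ℕ} (hd : 3 ≤ d) (hι : Fintype.card ι = 2 * d)
    (hr2 : r ≠ 2) (hrp : r ≠ p) {m : ℕ} (hm : 1 ≤ m) (hmd : m < d)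
    (hdvd : r ∣ Nat.card (TSSub Qs m)) :
    (∀ x : GL ι F, x ∈ Cfsg.Geo.omegaGL ⇑Qs →
      (∃ z : F, ((x ^ r : GL ι F) : Matrix ι ι F) = z • (1 : Matrix ι ι F)) →
      (∀ z : F, (x : Matrix ι ι F) ≠ z • (1 : Matrix ι ι F)) →
      ∃ W : Submodule F (ι → F), finrank F ↥W = m ∧ (∀ w ∈ W, Qs w = 0) ∧
        W.map (Matrix.toLin' (x : Matrix ι ι F)) ≤ W) ↔
    ((Odd (orderOf ((Fintype.card F : ℕ) : ZMod r)) ∧
        OddCond (Hyp Qs ⊤) (orderOf ((Fintype.card F : ℕ) : ZMod r)) d m) ∨
      (Even (orderOf ((Fintype.card F : ℕ) : ZMod r)) ∧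
        EvenCond (Hyp Qs ⊤) (orderOf ((Fintype.card F : ℕ) : ZMod r)) d m
          ((r - 1) / orderOf ((Fintype.card F : ℕ) : ZMod r)))) := by
  classical
  have hr : r.Prime := Fact.out
  have hrodd : Odd r := hr.odd_of_ne_two hr2
  haveI : Nonempty ι := by
    apply Fintype.card_pos_iff.mp
    omega
  have hdimV : finrank F (ι → F) = 2 * d := by rw [Module.finrank_fintype_fun_eq_card, hι]
  obtain ⟨i₀⟩ := ‹Nonempty ι›
  constructor
  · intro hall
    apply cond_of_forall_fix Qs hQs hd hι hr2 hrp hm hmd hdvd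
    intro x hxΩ hxr hx1
    have hxiso := iso_of_mem_omega hxΩ
    have hns : ∀ z : F, (x : Matrix ι ι F) ≠ z • (1 : Matrix ι ι F) := by
      intro z hz
      have hz1 : ((x ^ 1 : GL ι F) : Matrix ι ι F) = z • (1 : Matrix ι ι F) := by rw [pow_one]; exact hz
      have hzr : z ^ r = 1 := by
        have h1 : ((x ^ r : GL ι F) : Matrix ι ι F) = 1 := by
          rw [hxr]; rfl
        rw [Units.val_pow_eq_pow_val, hz, _root_.smul_pow, one_pow] at h1
        have h2 := congrFun (congrFun h1 i₀) i₀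
        rw [Matrix.smul_apply, Matrix.one_apply_eq, smul_eq_mul, mul_one] at h2
        exact h2
      have hz1' : z = 1 := by
        rcases scalar_pow_pm_one hQs hxiso hz1 with h | h
        · exact h
        · rw [h, hrodd.neg_one_pow] at hzr
          rw [h, hzr]
      apply hx1
      apply Units.ext
      rw [hz, hz1', one_smul]
      rfl
    exact hall x hxΩ ⟨1, by rw [hxr, one_smul]; rfl⟩ hns
  · intro hcond x hxΩ ⟨z, hz⟩ hxns
    have hxiso := iso_of_mem_omega hxΩ
    have hQT₀ := QT_of_mem_iso hxiso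
    have hT₀ : (Matrix.toLin' (x : Matrix ι ι F) : Module.End F (ι → F)) ^ r =
        Matrix.toLin' (z • (1 : Matrix ι ι F)) := by
      rw [toLin'_pow_gl, hz]
    rcases scalar_pow_pm_one hQs hxiso hz with rfl | rfl
    · have hT : (Matrix.toLin' (x : Matrix ι ι F) : Module.End F (ι → F)) ^ r = 1 := by
        rw [hT₀, one_smul, Matrix.toLin'_one]
        rfl
      obtain ⟨W, hWinv, hWts, hWd⟩ := exists_ts_invt_of_cond hr2 hrp hQs hdimV hmd hcond hQT₀ hT
      exact ⟨W, hWd, hWts, map_le_of_invt hWinv⟩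
    · have hT : (-(Matrix.toLin' (x : Matrix ι ι F) : Module.End F (ι → F))) ^ r = 1 := by
        rw [← neg_one_smul F (Matrix.toLin' (x : Matrix ι ι F) : Module.End F (ι → F)), _root_.smul_pow,
          hrodd.neg_one_pow, hT₀]
        apply LinearMap.ext
        intro v
        rw [LinearMap.smul_apply, Matrix.toLin'_apply, Matrix.smul_mulVec, Matrix.one_mulVec,
          neg_one_smul, neg_one_smul, neg_neg, Module.End.one_apply]
      have hQT : ∀ v, Qs ((-(Matrix.toLin' (x : Matrix ι ι F) : Module.End F (ι → F))) v) = Qs v := by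
        intro v
        rw [LinearMap.neg_apply, QuadraticMap.map_neg, hQT₀]
      obtain ⟨W, hWinv, hWts, hWd⟩ := exists_ts_invt_of_cond hr2 hrp hQs hdimV hmd hcond hQT hT
      exact ⟨W, hWd, hWts, map_le_of_invt (invt_of_neg_invt hWinv)⟩

end main

end Cfsg.Agent.Helper7.OpTS
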