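import Mathlib
import Cfsg.Agent.Helper7.OpTSP

set_option autoImplicit false
set_option linter.unusedSectionVars false
set_option linter.unusedVariables false

/-!
# Isometries of square `±1` and totally singular subspaces, odd characteristic
-/

namespace Cfsg.Agent.Helper7.OpTS

open Matrix Module Polynomial Cfsg.Agent.Helper7.POrd Cfsg.Agent.Helper7.SpOrd Cfsg.Agent.Helper7.SpTI
  Cfsg.Agent.Helper7.OrTS Cfsg.Agent.Helper7.QTy Cfsg.Agent.Helper7.QPa

universe u v

section sub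

variable {F : Type v} [Field F] {V : Type u} [AddCommGroup V] [Module F V] [FiniteDimensional F V]

/-- subspaces of every smaller dimension. -/
theorem exists_le_finrank (W : Submodule F V) {k : ℕ} (hk : k ≤ finrank F ↥W) :
    ∃ W' : Submodule F V, W' ≤ W ∧ finrank F ↥W' = k := by
  classical
  obtain ⟨b⟩ : Nonempty (Basis (Fin (finrank F ↥W)) F ↥W) := ⟨Module.finBasis F ↥W⟩
  obtain ⟨f, hf⟩ : ∃ f : Fin k → V, f = fun i => ((b (Fin.castLE hk i) : ↥W) : V) := ⟨_, rfl⟩
  have hli : LinearIndependent F f := by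
    rw [hf]
    have h1 : LinearIndependent F (fun i : Fin k => b (Fin.castLE hk i)) :=
      b.linearIndependent.comp _ (Fin.castLE_injective hk)
    exact h1.map' W.subtype (Submodule.ker_subtype W)
  refine ⟨Submodule.span F (Set.range f), ?_, ?_⟩
  · rw [Submodule.span_le]
    rintro _ ⟨i, rfl⟩
    rw [hf]
    exact (b (Fin.castLE hk i)).2
  · rw [finrank_span_eq_card hli, Fintype.card_fin]

end sub

section invol

variable {F : Type v} [Field F] [Fintype F] {V : Type u} [AddCommGroup V] [Module F V] [FiniteDimensional F V]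

/-- the sum of totally singular subspaces of the two eigenspaces of an involution. -/
theorem invol_sup_ts (h2F : (2 : F) ≠ 0) {Q : QuadraticForm F V} {T : Module.End F V}
    (hQT : ∀ v, Q (T v) = Q v) {L₁ L₂ : Submodule F V} (h₁ : L₁ ≤ fixS T) (h₂ : L₂ ≤ movS 2 T)
    (ht₁ : TS Q L₁) (ht₂ : TS Q L₂) {m : ℕ} (hm : m ≤ finrank F ↥L₁ + finrank F ↥L₂) :
    ∃ W : Submodule F V, W ∈ Module.End.invtSubmodule T ∧ TS Q W ∧ finrank F ↥W = m := by
  obtain ⟨a, b, hab, ha, hb⟩ : ∃ a b, m = a + b ∧ a ≤ finrank F ↥L₁ ∧ b ≤ finrank F ↥L₂ :=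
    ⟨min m (finrank F ↥L₁), m - min m (finrank F ↥L₁), by omega, by omega, by omega⟩
  obtain ⟨L₁', hL₁', hd₁⟩ := exists_le_finrank L₁ ha
  obtain ⟨L₂', hL₂', hd₂⟩ := exists_le_finrank L₂ hb
  obtain ⟨h1, h2, h3⟩ := invol_sup h2F (pB_refl Q) (iso_of_Q hQT) (hL₁'.trans h₁) (hL₂'.trans h₂)
    (ts_ti (ts_mono ht₁ hL₁')) (ts_ti (ts_mono ht₂ hL₂'))
  exact ⟨L₁' ⊔ L₂', h1, ti_ts h2F h2, by rw [h3, hd₁, hd₂, hab]⟩

/-- **involutions, the cheap bound**. -/
theorem exists_ts_invol (h2F : (2 : F) ≠ 0) {Q : QuadraticForm F V}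
    (hV : ND (QuadraticMap.polarBilin Q) ⊤) {T : Module.End F V} (hQT : ∀ v, Q (T v) = Q v)
    (hT : T ^ 2 = 1) {m w₁ w₂ : ℕ} (hm : m ≤ w₁ + w₂) (h1 : 2 * w₁ < finrank F ↥(fixS T))
    (h2 : 2 * w₂ < finrank F ↥(movS 2 T)) :
    ∃ W : Submodule F V, W ∈ Module.End.invtSubmodule T ∧ TS Q W ∧ finrank F ↥W = m := by
  haveI : Finite V := Module.finite_of_finite F
  have hrF := two_cast_ne_zero h2F
  have hrefl := pB_refl Q
  have hiso := iso_of_Q hQT
  have hmovnd : ND (QuadraticMap.polarBilin Q) (movS 2 T) := by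
    have := nd_inf_mov hrefl hiso hrF hT (Module.End.invtSubmodule.top_mem T) hV
    rwa [top_inf_eq] at this
  have hfixnd : ND (QuadraticMap.polarBilin Q) (fixS T) := by
    have := nd_inf_fix hrefl hiso hrF hT (Module.End.invtSubmodule.top_mem T) hV
    rwa [top_inf_eq] at this
  obtain ⟨L₁, hL₁, hL₁ts, hL₁d⟩ := exists_ts_of_lt hV w₁ (fixS T) hfixnd h1
  obtain ⟨L₂, hL₂, hL₂ts, hL₂d⟩ := exists_ts_of_lt hV w₂ (movS 2 T) hmovnd h2
  exact invol_sup_ts h2F hQT hL₁ hL₂ hL₁ts hL₂ts (by omega)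

/-- **isometries of square `-1` when `-1` is a square**: the eigenspaces are totally singular. -/
theorem exists_ts_of_sq_neg_one_root (h2F : (2 : F) ≠ 0) {Q : QuadraticForm F V}
    (hV : ND (QuadraticMap.polarBilin Q) ⊤) {d : ℕ} (hdim : finrank F V = 2 * d) {T : Module.End F V}
    (hQT : ∀ v, Q (T v) = Q v) (hTT : ∀ v, T (T v) = -v) {ω : F} (hω : ω * ω = -1) {m : ℕ} (hm : m ≤ d) :
    ∃ W : Submodule F V, W ∈ Module.End.invtSubmodule T ∧ TS Q W ∧ finrank F ↥W = m := by
  have hrF := two_cast_ne_zero h2F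
  obtain ⟨S, hS⟩ : ∃ S : Module.End F V, S = ω • T := ⟨_, rfl⟩
  have hSv : ∀ v, S v = ω • T v := fun v => by rw [hS]; rfl
  have hS2 : S ^ 2 = 1 := by
    apply LinearMap.ext
    intro v
    rw [pow_two, Module.End.mul_apply, hSv, hSv, map_smul, hTT, smul_smul, hω, Module.End.one_apply]
    simp
  have hQS : ∀ v, Q (S v) = - Q v := by
    intro v
    rw [hSv, QuadraticMap.map_smul, hQT, hω, smul_eq_mul]
    ring
  have hfixT : ∀ v ∈ fixS S, T v = (-ω) • v := by
    intro v hv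
    have h1 := POrd.mem_fixS.mp hv
    rw [hSv] at h1
    calc T v = ((-ω) * ω) • T v := by rw [neg_mul, hω, neg_neg, one_smul]
      _ = (-ω) • (ω • T v) := by rw [smul_smul]
      _ = (-ω) • v := by rw [h1]
  have hmovT : ∀ v ∈ movS 2 S, T v = ω • v := by
    intro v hv
    have h1 := apply_of_mem_movS_two hv
    rw [hSv] at h1
    calc T v = ((-ω) * ω) • T v := by rw [neg_mul, hω, neg_neg, one_smul]
      _ = (-ω) • (ω • T v) := by rw [smul_smul]
      _ = ω • v := by rw [h1, smul_neg, neg_smul, neg_neg]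
  have hfixts : TS Q (fixS S) := by
    intro v hv
    have h1 := hQS v
    rw [POrd.mem_fixS.mp hv] at h1
    have h3 : (2 : F) * Q v = 0 := by linear_combination h1
    exact (mul_eq_zero.mp h3).resolve_left h2F
  have hmovts : TS Q (movS 2 S) := by
    intro v hv
    have h1 := hQS v
    rw [apply_of_mem_movS_two hv, QuadraticMap.map_neg] at h1
    have h3 : (2 : F) * Q v = 0 := by linear_combination h1
    exact (mul_eq_zero.mp h3).resolve_left h2F
  have hsum := finrank_fix_add_mov hrF hS2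
  rw [hdim] at hsum
  rcases Nat.lt_or_ge (finrank F ↥(fixS S)) d with hlt | hge
  · have hge : m ≤ finrank F ↥(movS 2 S) := by omega
    obtain ⟨W, hW, hWd⟩ := exists_le_finrank _ hge
    refine ⟨W, ?_, ts_mono hmovts hW, hWd⟩
    rw [Module.End.mem_invtSubmodule]
    intro w hw
    rw [Submodule.mem_comap, hmovT w (hW hw)]
    exact W.smul_mem _ hw
  · obtain ⟨W, hW, hWd⟩ := exists_le_finrank (fixS S) (k := m) (by omega)
    refine ⟨W, ?_, ts_mono hfixts hW, hWd⟩
    rw [Module.End.mem_invtSubmodule]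
    intro w hw
    rw [Submodule.mem_comap, hfixT w (hW hw)]
    exact W.smul_mem _ hw

end invol

end Cfsg.Agent.Helper7.OpTS
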