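import Mathlib
import Cfsg.Agent.Helper7.OpTSQ

set_option autoImplicit false
set_option linter.unusedSectionVars false
set_option linter.unusedVariables false

/-!
# Isometries of square `-1` when `-1` is not a square: invariant totally singular subspaces
-/

namespace Cfsg.Agent.Helper7.OpTS

open Matrix Module Polynomial Cfsg.Agent.Helper7.POrd Cfsg.Agent.Helper7.SpOrd Cfsg.Agent.Helper7.SpTI
  Cfsg.Agent.Helper7.OrTS Cfsg.Agent.Helper7.QTy Cfsg.Agent.Helper7.QPa

universe u v

section even

variable {F : Type v} [Field F] {V : Type u} [AddCommGroup V] [Module F V] [FiniteDimensional F V]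

/-- **invariant subspaces of a map of square `-1` have even dimension** when `-1` is not a square. -/
theorem even_finrank_of_invt_sq_neg_one {T : Module.End F V} (hTT : ∀ v, T (T v) = -v)
    (hns : ¬ IsSquare (-1 : F)) {W : Submodule F V} (hW : W ∈ Module.End.invtSubmodule T) :
    Even (finrank F ↥W) := by
  by_contra hodd
  rw [Nat.not_even_iff_odd] at hodd
  have hW' : ∀ w ∈ W, T w ∈ W := fun w hw => (Module.End.mem_invtSubmodule _).mp hW hw
  obtain ⟨Tw, hTw⟩ : ∃ Tw : Module.End F ↥W, ∀ w : ↥W, ((Tw w : ↥W) : V) = T (w : V) :=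
    ⟨T.restrict hW', fun w => rfl⟩
  have hsq : Tw * Tw = (-1 : F) • (1 : Module.End F ↥W) := by
    apply LinearMap.ext
    intro w
    apply Subtype.ext
    rw [Module.End.mul_apply, hTw, hTw, hTT, LinearMap.smul_apply, Module.End.one_apply]
    simp
  have hdet := congrArg LinearMap.det hsq
  rw [LinearMap.det_smul, map_mul, map_one, mul_one, hodd.neg_one_pow] at hdet
  exact hns ⟨LinearMap.det Tw, hdet.symm⟩

end even

section ladder

variable {F : Type v} [Field F] [Fintype F] {V : Type u} [AddCommGroup V] [Module F V] [FiniteDimensional F V]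

/-- **isometries of square `-1` when `-1` is not a square**: invariant totally singular subspaces of every even
dimension up to half the dimension. -/
theorem exists_ts_of_sq_neg_one_nonsq (h2F : (2 : F) ≠ 0) {Q : QuadraticForm F V}
    (hV : ND (QuadraticMap.polarBilin Q) ⊤) {d : ℕ} (hdim : finrank F V = 2 * d) {T : Module.End F V}
    (hQT : ∀ v, Q (T v) = Q v) (hTT : ∀ v, T (T v) = -v) (hns : ¬ IsSquare (-1 : F)) :
    ∀ k : ℕ, 2 * k ≤ d →
      ∃ W : Submodule F V, W ∈ Module.End.invtSubmodule T ∧ TS Q W ∧ finrank F ↥W = 2 * k := by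
  haveI : Finite V := Module.finite_of_finite F
  have hrefl := pB_refl Q
  have hiso := iso_of_Q hQT
  intro k
  induction k with
  | zero =>
    intro _
    exact ⟨⊥, Module.End.invtSubmodule.bot_mem T, ts_bot Q, by rw [finrank_bot]⟩
  | succ k ih =>
    intro hk
    obtain ⟨W, hWinv, hWts, hWd⟩ := ih (by omega)
    obtain ⟨H, hWH, -, hHnd, hHd, -⟩ := exists_hull hV hV (le_top : W ≤ ⊤) hWts
    obtain ⟨N, hN⟩ : ∃ N, N = LinearMap.BilinForm.orthogonal (QuadraticMap.polarBilin Q) H := ⟨_, rfl⟩
    have hNd : finrank F ↥H + finrank F ↥N = 2 * d := by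
      have := finrank_perp_inf hrefl hHnd (le_top : H ≤ ⊤)
      rw [inf_top_eq, finrank_top, hdim, ← hN] at this
      exact this
    obtain ⟨v, hvN, hv0, hQv⟩ := exists_singular_in Q (W := N) (by omega)
    have hvW : v ∉ W := by
      intro hv
      have h1 := (nd_iff_disjoint hrefl).mp hHnd
      rw [Submodule.disjoint_def] at h1
      exact hv0 (h1 v (hWH hv) (by rw [← hN]; exact hvN))
    have hvperp : ∀ w ∈ W, QuadraticMap.polar Q w v = 0 := by
      intro w hw
      rw [hN] at hvN
      have := mem_perp.mp hvN w (hWH hw)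
      rw [pB_apply] at this
      exact this
    have hTvperp : ∀ w ∈ W, QuadraticMap.polar Q w (T v) = 0 := by
      intro w hw
      have hTw : T w ∈ W := (Module.End.mem_invtSubmodule _).mp hWinv hw
      have h1 := hiso (T w) v
      rw [hTT, pB_apply, pB_apply, QuadraticMap.polar_neg_left] at h1
      rw [hvperp (T w) hTw] at h1
      have h2 : QuadraticMap.polar Q w (T v) = 0 := by
        rw [neg_eq_iff_eq_neg, neg_zero] at h1
        exact h1
      exact h2
    obtain ⟨P, hP⟩ : ∃ P, P = Submodule.span F {v} ⊔ Submodule.span F {T v} := ⟨_, rfl⟩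
    have hPts : TS Q P := by
      rw [hP]
      apply ts_sup (Cfsg.Agent.Helper7.QEll.ts_span_singleton hQv)
        (Cfsg.Agent.Helper7.QEll.ts_span_singleton (by rw [hQT]; exact hQv))
      intro a ha b hb
      obtain ⟨ca, rfl⟩ := Submodule.mem_span_singleton.mp ha
      obtain ⟨cb, rfl⟩ := Submodule.mem_span_singleton.mp hb
      rw [QuadraticMap.polar_smul_left, QuadraticMap.polar_smul_right, polar_self_apply h2F hQT hTT v,
        smul_zero, smul_zero]
    have hPinv : P ∈ Module.End.invtSubmodule T := by
      rw [Module.End.mem_invtSubmodule]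
      intro w hw
      rw [hP] at hw
      obtain ⟨a, ha, b, hb, rfl⟩ := Submodule.mem_sup.mp hw
      obtain ⟨ca, rfl⟩ := Submodule.mem_span_singleton.mp ha
      obtain ⟨cb, rfl⟩ := Submodule.mem_span_singleton.mp hb
      rw [Submodule.mem_comap, map_add, map_smul, map_smul, hTT, hP]
      apply Submodule.add_mem
      · exact Submodule.mem_sup_right (Submodule.smul_mem _ _ (Submodule.mem_span_singleton_self _))
      · apply Submodule.mem_sup_left
        rw [smul_neg]
        exact Submodule.neg_mem _ (Submodule.smul_mem _ _ (Submodule.mem_span_singleton_self _))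
    have hPd : finrank F ↥P ≤ 2 := by
      rw [hP]
      have h1 := Submodule.finrank_add_le_finrank_add_finrank (Submodule.span F {v}) (Submodule.span F {T v})
      have h2 := finrank_span_singleton (K := F) hv0
      have h3 : finrank F ↥(Submodule.span F {T v}) ≤ 1 := by
        have := finrank_span_le_card (R := F) ({T v} : Set V)
        simpa using this
      omega
    have hW'ts : TS Q (W ⊔ P) := by
      apply ts_sup hWts hPts
      intro w hw b hb
      rw [hP] at hb
      obtain ⟨b₁, hb₁, b₂, hb₂, rfl⟩ := Submodule.mem_sup.mp hb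
      obtain ⟨c₁, rfl⟩ := Submodule.mem_span_singleton.mp hb₁
      obtain ⟨c₂, rfl⟩ := Submodule.mem_span_singleton.mp hb₂
      rw [QuadraticMap.polar_add_right, QuadraticMap.polar_smul_right, QuadraticMap.polar_smul_right,
        hvperp w hw, hTvperp w hw, smul_zero, smul_zero, add_zero]
    have hW'inv : W ⊔ P ∈ Module.End.invtSubmodule T := sup_invt hWinv hPinv
    have hW'ev := even_finrank_of_invt_sq_neg_one hTT hns hW'inv
    have hlt : W < W ⊔ P := by
      apply lt_of_le_of_ne le_sup_left
      intro heq
      apply hvW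
      rw [heq]
      apply Submodule.mem_sup_right
      rw [hP]
      exact Submodule.mem_sup_left (Submodule.mem_span_singleton_self _)
    have hlt' := Submodule.finrank_lt_finrank_of_lt hlt
    have hle := Submodule.finrank_add_le_finrank_add_finrank W P
    refine ⟨W ⊔ P, hW'inv, hW'ts, ?_⟩
    obtain ⟨a, ha⟩ := hW'ev
    omega

end ladder

end Cfsg.Agent.Helper7.OpTS
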