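import Mathlib
import Cfsg.Agent.Helper7.OpTSR
import Cfsg.Agent.Helper7.OrTSP

set_option autoImplicit false
set_option linter.unusedSectionVars false
set_option linter.unusedVariables false

/-!
# Involutions of `Ω(Q)`, odd characteristic: the negative eigenspace
-/

namespace Cfsg.Agent.Helper7.OpTS

open Matrix Module Polynomial Cfsg.Agent.Helper7.POrd Cfsg.Agent.Helper7.SpOrd Cfsg.Agent.Helper7.SpTI
  Cfsg.Agent.Helper7.OrTS Cfsg.Agent.Helper7.QTy Cfsg.Agent.Helper7.QPa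
  Cfsg.Agent.Helper8.StdForms Cfsg.Agent.Helper8.QuadForm Cfsg.Agent.Helper8.OmegaDiag
  Cfsg.Agent.Helper8.OmegaCrit Cfsg.Agent.Helper8.ReflMatrix Cfsg.Agent.Helper8.Reflections

universe v

section half

variable {F : Type v} [Field F] [Fintype F] {ι : Type} [Fintype ι] [DecidableEq ι]

/-- **the negative eigenspace of an involution of `Ω(Q)` is of plus type when `-1` is a square.** -/
theorem exists_ts_half_mov (h2F : (2 : F) ≠ 0) (Qs : QuadraticForm F (ι → F))
    (hQs : ND (QuadraticMap.polarBilin Qs) ⊤) (hcard : 2 ≤ Fintype.card ι)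
    {y : ↥(Cfsg.isometryGroup F ⇑Qs)} (hy : y ∈ commutator ↥(Cfsg.isometryGroup F ⇑Qs))
    (hT : (Matrix.toLin' ((y : GL ι F) : Matrix ι ι F) : Module.End F (ι → F)) ^ 2 = 1)
    {ω : F} (hω : ω * ω = -1) :
    ∃ L₂ : Submodule F (ι → F),
      L₂ ≤ movS 2 (Matrix.toLin' ((y : GL ι F) : Matrix ι ι F) : Module.End F (ι → F)) ∧ TS Qs L₂ ∧
      2 * finrank F ↥L₂ =
        finrank F ↥(movS 2 (Matrix.toLin' ((y : GL ι F) : Matrix ι ι F) : Module.End F (ι → F))) := by
  classical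
  have hrF := two_cast_ne_zero h2F
  have hrefl := pB_refl Qs
  have hQnd : (QuadraticMap.polarBilin Qs).Nondegenerate := (nondeg_iff Qs).mpr (nondeg_of_nd_top hQs)
  obtain ⟨T, hTdef⟩ : ∃ T : Module.End F (ι → F), T = Matrix.toLin' ((y : GL ι F) : Matrix ι ι F) :=
    ⟨_, rfl⟩
  rw [← hTdef] at hT ⊢
  have hQT : ∀ v, Qs (T v) = Qs v := by
    intro v
    rw [hTdef]
    exact QT_of_mem_iso y.2 v
  have hiso := iso_of_Q hQT
  have hmovnd : ND (QuadraticMap.polarBilin Qs) (movS 2 T) := by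
    have := nd_inf_mov hrefl hiso hrF hT (Module.End.invtSubmodule.top_mem T) hQs
    rwa [top_inf_eq] at this
  rcases Nat.eq_zero_or_pos (finrank F ↥(movS 2 T)) with h0 | hpos
  · exact ⟨⊥, bot_le, ts_bot _, by rw [finrank_bot, h0]⟩
  obtain ⟨n, hn⟩ : ∃ n, finrank F ↥(movS 2 T) = n + 1 := ⟨finrank F ↥(movS 2 T) - 1, by omega⟩
  have hNnd : NondegOn Qs (movS 2 T) := by
    intro w hw hww
    by_contra hw0
    obtain ⟨v, hv, hv'⟩ := hmovnd w hw hw0
    apply hv'
    rw [QuadraticMap.polarBilin_apply_apply]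
    exact hww v hv
  obtain ⟨b, hbN, horth, hb0, hb1, hspan⟩ := exists_orth_basis_sub h2F Qs hNnd hn
  obtain ⟨heven, hsq⟩ := invol_disc Qs h2F hQnd hcard hy
    (by rw [← hTdef]; exact hT) (b := b) (by rw [← hTdef]; exact hbN) horth hb0 hb1
    (by rw [← hTdef]; exact hspan)
  obtain ⟨j, hj⟩ := heven
  have hnj : n + 1 = 2 * j := by omega
  obtain ⟨L, hLle, hLti, hLd⟩ := exists_ti_half h2F Qs hω hnj horth hsq hb0 hb1
  rw [hspan] at hLle
  exact ⟨L, hLle, ti_ts h2F hLti, by rw [hLd, hn, hnj]⟩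

end half

section aniso

variable {F : Type v} [Field F] [Fintype F] {ι : Type} [Fintype ι] [DecidableEq ι]

/-- **an involution of `Ω(Q)` with anisotropic negative eigenspace of dimension two** when `-1` is not a square. -/
theorem exists_invol_aniso (h2F : (2 : F) ≠ 0) (Q : QuadraticForm F (ι → F))
    (hQs : ND (QuadraticMap.polarBilin Q) ⊤) (hcard : 2 ≤ Fintype.card ι) {k : ℕ}
    {e f : Fin k → (ι → F)} (hhyp : IsHyp Q e f) (hk : 2 ≤ k) (hns : ¬ IsSquare (-1 : F)) :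
    ∃ y : ↥(Cfsg.isometryGroup F ⇑Q), y ∈ commutator ↥(Cfsg.isometryGroup F ⇑Q) ∧
      (Matrix.toLin' ((y : GL ι F) : Matrix ι ι F) : Module.End F (ι → F)) ^ 2 = 1 ∧
      finrank F ↥(movS 2 (Matrix.toLin' ((y : GL ι F) : Matrix ι ι F) : Module.End F (ι → F))) = 2 ∧
      ∀ w ∈ movS 2 (Matrix.toLin' ((y : GL ι F) : Matrix ι ι F) : Module.End F (ι → F)), Q w = 0 → w = 0 := by
  classical
  have hQnd : (QuadraticMap.polarBilin Q).Nondegenerate := (nondeg_iff Q).mpr (nondeg_of_nd_top hQs)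
  obtain ⟨j₁, j₂, hj⟩ : ∃ j₁ j₂ : Fin k, j₁ ≠ j₂ :=
    ⟨⟨0, by omega⟩, ⟨1, by omega⟩, fun h => by simpa using congrArg Fin.val h⟩
  obtain ⟨u₁, hu₁⟩ : ∃ u₁ : ι → F, u₁ = e j₁ + f j₁ := ⟨_, rfl⟩
  obtain ⟨u₂, hu₂⟩ : ∃ u₂ : ι → F, u₂ = e j₂ + f j₂ := ⟨_, rfl⟩
  have hQ1 : Q u₁ = 1 := by rw [hu₁]; exact Q_add_of_isHyp Q hhyp j₁
  have hQ2 : Q u₂ = 1 := by rw [hu₂]; exact Q_add_of_isHyp Q hhyp j₂
  have hp12 : QuadraticMap.polar Q u₁ u₂ = 0 := by
    have := polar_pm_of_isHyp Q hhyp hj 1 1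
    simp only [one_smul] at this
    rw [hu₁, hu₂]
    exact this
  have hp21 : QuadraticMap.polar Q u₂ u₁ = 0 := by rw [QuadraticMap.polar_comm]; exact hp12
  have hp11 : QuadraticMap.polar Q u₁ u₁ = 2 := by rw [polar_self', hQ1, mul_one]
  have hp22 : QuadraticMap.polar Q u₂ u₂ = 2 := by rw [polar_self', hQ2, mul_one]
  obtain ⟨y, hy⟩ : ∃ y : ↥(Cfsg.isometryGroup F ⇑Q), y = ([u₁, u₂].map (reflElt Q)).prod := ⟨_, rfl⟩
  have hycomm : y ∈ commutator ↥(Cfsg.isometryGroup F ⇑Q) := by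
    rw [hy, prod_reflElt_mem_iff Q h2F hQnd hcard [u₁, u₂] (by
      intro z hz
      simp only [List.mem_cons, List.not_mem_nil, or_false] at hz
      rcases hz with rfl | rfl
      · rw [hQ1]; exact one_ne_zero
      · rw [hQ2]; exact one_ne_zero)]
    refine ⟨⟨1, rfl⟩, ?_⟩
    simp only [List.map_cons, List.map_nil, List.prod_cons, List.prod_nil]
    rw [hQ1, hQ2]
    exact ⟨1, by ring⟩
  obtain ⟨T, hTdef⟩ : ∃ T : Module.End F (ι → F), T = Matrix.toLin' ((y : GL ι F) : Matrix ι ι F) :=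
    ⟨_, rfl⟩
  have hTapp : ∀ v, T v = v - QuadraticMap.polar Q u₁ v • u₁ - QuadraticMap.polar Q u₂ v • u₂ := by
    intro v
    rw [hTdef, Matrix.toLin'_apply, ← isomEquiv_apply, hy, isomEquiv_prod_reflElt]
    simp only [List.map_cons, List.map_nil, List.prod_cons, List.prod_nil, mul_one]
    rw [LinearEquiv.mul_apply, refl_apply Q u₂ v, refl_apply Q u₁, hQ1, hQ2, div_one, div_one,
      QuadraticMap.polar_sub_right, QuadraticMap.polar_smul_right, hp12, smul_zero, sub_zero]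
    abel
  have hp1T : ∀ v, QuadraticMap.polar Q u₁ (T v) = - QuadraticMap.polar Q u₁ v := by
    intro v
    rw [hTapp, QuadraticMap.polar_sub_right, QuadraticMap.polar_sub_right, QuadraticMap.polar_smul_right,
      QuadraticMap.polar_smul_right, hp11, hp12, smul_eq_mul, smul_eq_mul]
    ring
  have hp2T : ∀ v, QuadraticMap.polar Q u₂ (T v) = - QuadraticMap.polar Q u₂ v := by
    intro v
    rw [hTapp, QuadraticMap.polar_sub_right, QuadraticMap.polar_sub_right, QuadraticMap.polar_smul_right,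
      QuadraticMap.polar_smul_right, hp22, hp21, smul_eq_mul, smul_eq_mul]
    ring
  have hT2 : T ^ 2 = 1 := by
    apply LinearMap.ext
    intro v
    rw [pow_two, Module.End.mul_apply, Module.End.one_apply, hTapp (T v), hp1T, hp2T, hTapp v]
    rw [neg_smul, neg_smul]
    abel
  have hTu₁ : T u₁ = -u₁ := by
    rw [hTapp, hp11, hp21, zero_smul, sub_zero, two_smul]
    abel
  have hTu₂ : T u₂ = -u₂ := by
    rw [hTapp, hp22, hp12, zero_smul, sub_zero, two_smul]
    abel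
  have hmov_le : movS 2 T ≤ Submodule.span F (Set.range ![u₁, u₂]) := by
    intro w hw
    have h1 := apply_of_mem_movS_two hw
    rw [hTapp] at h1
    have h4 : w = (2⁻¹ * QuadraticMap.polar Q u₁ w) • u₁ + (2⁻¹ * QuadraticMap.polar Q u₂ w) • u₂ := by
      have h5 : (2 : F) • w = QuadraticMap.polar Q u₁ w • u₁ + QuadraticMap.polar Q u₂ w • u₂ := by
        rw [two_smul]
        have : w + w = (w - QuadraticMap.polar Q u₁ w • u₁ - QuadraticMap.polar Q u₂ w • u₂) + w +
            (QuadraticMap.polar Q u₁ w • u₁ + QuadraticMap.polar Q u₂ w • u₂) := by abel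
        rw [this, h1]
        abel
      rw [mul_smul, mul_smul, ← smul_add, ← h5, smul_smul, inv_mul_cancel₀ h2F, one_smul]
    rw [h4]
    apply Submodule.add_mem
    · exact Submodule.smul_mem _ _ (Submodule.subset_span ⟨0, rfl⟩)
    · exact Submodule.smul_mem _ _ (Submodule.subset_span ⟨1, rfl⟩)
  have hle_mov : Submodule.span F (Set.range ![u₁, u₂]) ≤ movS 2 T := by
    rw [Submodule.span_le]
    rintro _ ⟨i, rfl⟩
    rw [SetLike.mem_coe, mem_movS_two_iff]
    fin_cases i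
    · exact hTu₁
    · exact hTu₂
  have hmov_eq : movS 2 T = Submodule.span F (Set.range ![u₁, u₂]) := le_antisymm hmov_le hle_mov
  have hli : LinearIndependent F ![u₁, u₂] := by
    refine linearIndependent_of_dual Q ![u₁, u₂] ![u₁, u₂] (fun _ => 2) (fun _ => h2F) ?_
    intro i i'
    fin_cases i <;> fin_cases i'
    · simpa using hp11
    · simpa using hp12
    · simpa using hp21
    · simpa using hp22
  have hmovd : finrank F ↥(movS 2 T) = 2 := by
    rw [hmov_eq, finrank_span_eq_card hli, Fintype.card_fin]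
  have han : ∀ w ∈ movS 2 T, Q w = 0 → w = 0 := by
    intro w hw hww
    rw [hmov_eq, Submodule.mem_span_range_iff_exists_fun] at hw
    obtain ⟨c, rfl⟩ := hw
    rw [Fin.sum_univ_two] at hww ⊢
    simp only [Matrix.cons_val_zero, Matrix.cons_val_one] at hww ⊢
    have hQw : Q (c 0 • u₁ + c 1 • u₂) = c 0 * c 0 + c 1 * c 1 := by
      rw [QuadraticMap.map_add (⇑Q), QuadraticMap.map_smul, QuadraticMap.map_smul,
        QuadraticMap.polar_smul_left, QuadraticMap.polar_smul_right, hp12, hQ1, hQ2]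
      simp only [smul_eq_mul, mul_zero, add_zero, mul_one]
    rw [hQw] at hww
    have hc1 : c 1 = 0 := by
      by_contra hc1
      apply hns
      refine ⟨c 0 / c 1, ?_⟩
      field_simp
      linear_combination -hww
    have hc0 : c 0 = 0 := by
      rw [hc1, mul_zero, add_zero] at hww
      exact mul_self_eq_zero.mp hww
    rw [hc0, hc1, zero_smul, zero_smul, add_zero]
  refine ⟨y, hycomm, ?_, ?_, ?_⟩
  · rw [← hTdef]; exact hT2
  · rw [← hTdef]; exact hmovd
  · rw [← hTdef]; exact han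

end aniso

end Cfsg.Agent.Helper7.OpTS
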