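import Mathlib
import Cfsg.Agent.Helper7.OpTSS

set_option autoImplicit false
set_option linter.unusedSectionVars false
set_option linter.unusedVariables false

/-!
# Elements of order two of `PΩ^±_{2d}(q)`, `q` odd, and totally singular subspaces: general lemmas
-/

namespace Cfsg.Agent.Helper7.OpTS

open Matrix Module Polynomial Cfsg.Agent.Helper7.POrd Cfsg.Agent.Helper7.SpOrd Cfsg.Agent.Helper7.SpTI
  Cfsg.Agent.Helper7.OrTS Cfsg.Agent.Helper7.QTy Cfsg.Agent.Helper7.QPa

universe u v

section endo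

variable {F : Type v} [Field F] [Fintype F] {V : Type u} [AddCommGroup V] [Module F V] [FiniteDimensional F V]

/-- an involution which is not `±1` has both eigenvalues. -/
theorem finrank_pos_of_invol (h2F : (2 : F) ≠ 0) {T : Module.End F V} (hT : T ^ 2 = 1) (h1 : T ≠ 1)
    (hm1 : T ≠ -1) : 1 ≤ finrank F ↥(fixS T) ∧ 1 ≤ finrank F ↥(movS 2 T) := by
  have hrF := two_cast_ne_zero h2F
  have hc := isCompl_fix_mov hrF hT
  constructor
  · by_contra hcon
    have h0 : finrank F ↥(fixS T) = 0 := by omega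
    have hbot : fixS T = ⊥ := Submodule.finrank_eq_zero.mp h0
    have htop : movS 2 T = ⊤ := by
      have := hc.sup_eq_top
      rwa [hbot, bot_sup_eq] at this
    apply hm1
    apply LinearMap.ext
    intro v
    have hv : v ∈ movS 2 T := by rw [htop]; exact Submodule.mem_top
    rw [apply_of_mem_movS_two hv]
    rfl
  · by_contra hcon
    have h0 : finrank F ↥(movS 2 T) = 0 := by omega
    have hbot : movS 2 T = ⊥ := Submodule.finrank_eq_zero.mp h0
    have htop : fixS T = ⊤ := by
      have := hc.sup_eq_top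
      rwa [hbot, sup_bot_eq] at this
    apply h1
    apply LinearMap.ext
    intro v
    have hv : v ∈ fixS T := by rw [htop]; exact Submodule.mem_top
    rw [POrd.mem_fixS.mp hv]
    rfl

/-- **involutions below the top dimensions**: every isometric involution different from `±1` of a space of
dimension `2d` fixes a totally singular subspace of each dimension `m ≤ d - 2`. -/
theorem exists_ts_invol_cheap (h2F : (2 : F) ≠ 0) {Q : QuadraticForm F V}
    (hV : ND (QuadraticMap.polarBilin Q) ⊤) {d : ℕ} (hdim : finrank F V = 2 * d) {T : Module.End F V}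
    (hQT : ∀ v, Q (T v) = Q v) (hT : T ^ 2 = 1) (h1 : T ≠ 1) (hm1 : T ≠ -1) {m : ℕ} (hm : m + 2 ≤ d) :
    ∃ W : Submodule F V, W ∈ Module.End.invtSubmodule T ∧ TS Q W ∧ finrank F ↥W = m := by
  have hrF := two_cast_ne_zero h2F
  obtain ⟨ha, hb⟩ := finrank_pos_of_invol h2F hT h1 hm1
  have hsum := finrank_fix_add_mov hrF hT
  rw [hdim] at hsum
  exact exists_ts_invol h2F hV hQT hT (w₁ := (finrank F ↥(fixS T) - 1) / 2)
    (w₂ := (finrank F ↥(movS 2 T) - 1) / 2) (by omega) (by omega) (by omega)

/-- **an involution with anisotropic negative eigenspace of dimension two on a space of plus type**: the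
invariant totally singular subspaces have dimension at most `d - 2`. -/
theorem finrank_add_two_le_of_aniso_mov (h2F : (2 : F) ≠ 0) {Q : QuadraticForm F V}
    (hV : ND (QuadraticMap.polarBilin Q) ⊤) {d : ℕ} (hdim : finrank F V = 2 * d) (hy : Hyp Q ⊤)
    {T : Module.End F V} (hQT : ∀ v, Q (T v) = Q v) (hT : T ^ 2 = 1)
    (hmovd : finrank F ↥(movS 2 T) = 2) (han : ∀ w ∈ movS 2 T, Q w = 0 → w = 0)
    {W : Submodule F V} (hW : W ∈ Module.End.invtSubmodule T) (hWts : TS Q W) :
    finrank F ↥W + 2 ≤ d := by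
  haveI : Finite V := Module.finite_of_finite F
  have hrF := two_cast_ne_zero h2F
  have hrefl := pB_refl Q
  have hiso := iso_of_Q hQT
  have hmovnd : ND (QuadraticMap.polarBilin Q) (movS 2 T) := by
    have := nd_inf_mov hrefl hiso hrF hT (Module.End.invtSubmodule.top_mem T) hV
    rwa [top_inf_eq] at this
  have hfixnd : ND (QuadraticMap.polarBilin Q) (fixS T) := by
    have := nd_inf_fix hrefl hiso hrF hT (Module.End.invtSubmodule.top_mem T) hV
    rwa [top_inf_eq] at this
  have hsum := finrank_fix_add_mov hrF hT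
  rw [hdim, hmovd] at hsum
  have hmov : W ⊓ movS 2 T = ⊥ := by
    rw [eq_bot_iff]
    rintro w ⟨hw1, hw2⟩
    rw [Submodule.mem_bot]
    exact han w hw2 (hWts w hw1)
  have hdec := finrank_invt_decomp hrF hT hW
  rw [hmov, finrank_bot, add_zero] at hdec
  have hts : TS Q (W ⊓ fixS T) := ts_mono hWts inf_le_left
  have h1 := finrank_ti_le_of_nd hrefl hV hfixnd (inf_le_right : W ⊓ fixS T ≤ fixS T) (ts_ti hts)
  by_contra hcon
  have heq : 2 * finrank F ↥(W ⊓ fixS T) = finrank F ↥(fixS T) := by omega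
  have hfixhyp : Hyp Q (fixS T) := ⟨_, inf_le_right, hts, heq⟩
  have hmovnh : ¬ Hyp Q (movS 2 T) := by
    rintro ⟨U, hU, hUts, hUd⟩
    have hU1 : finrank F ↥U = 1 := by omega
    obtain ⟨u, hu, hu0⟩ : ∃ u ∈ U, u ≠ 0 := by
      by_contra hcon2
      push Not at hcon2
      have : U = ⊥ := by
        rw [eq_bot_iff]
        intro u hu
        exact (Submodule.mem_bot F).mpr (hcon2 u hu)
      rw [this, finrank_bot] at hU1
      omega
    exact hu0 (han u (hU hu) (hUts u hu))
  have hperp : movS 2 T ≤ LinearMap.BilinForm.orthogonal (QuadraticMap.polarBilin Q) (fixS T) := by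
    intro v hv
    rw [mem_perp]
    intro w hw
    exact fix_perp_mov hiso hrF hw hv
  have hsg := sg_sup hV hfixnd hmovnd hperp (by rw [show finrank F ↥(fixS T) = 2 * (d - 1) by omega]; exact even_two_mul _)
    (by rw [hmovd]; exact even_two)
  rw [(isCompl_fix_mov hrF hT).sup_eq_top, sg_eq_one_iff.mpr hy, sg_eq_one_iff.mpr hfixhyp,
    sg_eq_neg_one_iff.mpr hmovnh] at hsg
  norm_num at hsg

end endo

section gl

variable {F : Type v} [Field F] {ι : Type} [Fintype ι] [DecidableEq ι]

theorem toLin'_ne_smul_one {x : GL ι F} (hns : ∀ z : F, (x : Matrix ι ι F) ≠ z • (1 : Matrix ι ι F)) (z : F) :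
    (Matrix.toLin' (x : Matrix ι ι F) : Module.End F (ι → F)) ≠ z • 1 := by
  intro h
  apply hns z
  apply Matrix.toLin'.injective
  rw [h, map_smul, Matrix.toLin'_one]
  rfl

theorem toLin'_sq_of_scalar {x : GL ι F} {z : F}
    (hz : ((x ^ 2 : GL ι F) : Matrix ι ι F) = z • (1 : Matrix ι ι F)) (v : ι → F) :
    Matrix.toLin' (x : Matrix ι ι F) (Matrix.toLin' (x : Matrix ι ι F) v) = z • v := by
  have h1 : (Matrix.toLin' (x : Matrix ι ι F) : Module.End F (ι → F)) ^ 2 =
      Matrix.toLin' (z • (1 : Matrix ι ι F)) := by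
    rw [toLin'_pow_gl, hz]
  have h2 := LinearMap.congr_fun h1 v
  rw [pow_two, Module.End.mul_apply, Matrix.toLin'_apply, Matrix.toLin'_apply, Matrix.toLin'_apply,
    Matrix.smul_mulVec, Matrix.one_mulVec] at h2
  rw [Matrix.toLin'_apply, Matrix.toLin'_apply]
  exact h2

end gl

end Cfsg.Agent.Helper7.OpTS
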