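import Mathlib
import Cfsg.Agent.Helper7.OpTST
import Cfsg.Agent.Helper8.OmegaStd

set_option autoImplicit false
set_option linter.unusedSectionVars false
set_option linter.unusedVariables false

/-!
# Elements of order two of `PΩ^+_{2d}(q)`, `q` odd, and totally singular `m`-spaces
-/

namespace Cfsg.Agent.Helper7.OpTS

open Matrix Module Polynomial Cfsg.Agent.Helper7.POrd Cfsg.Agent.Helper7.SpOrd Cfsg.Agent.Helper7.SpTI
  Cfsg.Agent.Helper7.OrTS Cfsg.Agent.Helper7.QTy Cfsg.Agent.Helper7.QPa Cfsg.Agent.Helper8.StdForms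

universe v

variable {F : Type v} [Field F] [Fintype F]

theorem movS_two_one (h2F : (2 : F) ≠ 0) {V : Type*} [AddCommGroup V] [Module F V] :
    movS 2 (1 : Module.End F V) = ⊥ := by
  rw [eq_bot_iff]
  intro w hw
  have h1 := apply_of_mem_movS_two hw
  rw [Module.End.one_apply] at h1
  have h2 : (2 : F) • w = 0 := by
    rw [two_smul]
    nth_rewrite 1 [h1]
    exact neg_add_cancel w
  rw [Submodule.mem_bot]
  exact (smul_eq_zero.mp h2).resolve_left h2F

/-- **the case `r = 2`, plus type.** -/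
theorem two_case_iff_ts_plus (h2F : (2 : F) ≠ 0) (hqodd : Odd (Fintype.card F)) {d m : ℕ} (hd : 2 ≤ d)
    (hm : 1 ≤ m) (hmd : m < d) :
    (∀ x : GL (Fin d ⊕ Fin d) F, x ∈ Cfsg.Geo.omegaGL (Cfsg.quadFormPlus d F) →
      (∃ z : F, ((x ^ 2 : GL (Fin d ⊕ Fin d) F) : Matrix (Fin d ⊕ Fin d) (Fin d ⊕ Fin d) F) =
        z • (1 : Matrix (Fin d ⊕ Fin d) (Fin d ⊕ Fin d) F)) →
      (∀ z : F, (x : Matrix (Fin d ⊕ Fin d) (Fin d ⊕ Fin d) F) ≠
        z • (1 : Matrix (Fin d ⊕ Fin d) (Fin d ⊕ Fin d) F)) →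
      ∃ W : Submodule F (Fin d ⊕ Fin d → F), finrank F ↥W = m ∧ (∀ w ∈ W, Cfsg.quadFormPlus d F w = 0) ∧
        W.map (Matrix.toLin' (x : Matrix (Fin d ⊕ Fin d) (Fin d ⊕ Fin d) F)) ≤ W) ↔
    (Fintype.card F % 4 = 1 ∨ (Fintype.card F % 4 = 3 ∧ m + 2 ≤ d ∧ (Even m ∨ (2 * d) % 4 = 2))) := by
  classical
  rw [← plusForm_coe]
  have hrF := two_cast_ne_zero h2F
  have hQs := plus_nd_top (F := F) d
  have hdimV : finrank F (Fin d ⊕ Fin d → F) = 2 * d := finrank_plus F d
  have hcard : Fintype.card (Fin d ⊕ Fin d) = 2 * d := by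
    rw [Fintype.card_sum, Fintype.card_fin]
    ring
  haveI : Nonempty (Fin d ⊕ Fin d) := ⟨Sum.inl ⟨0, by omega⟩⟩
  have hq2 : Fintype.card F % 2 = 1 := Nat.odd_iff.mp hqodd
  constructor
  · intro hall
    by_cases hq4 : Fintype.card F % 4 = 1
    · exact Or.inl hq4
    right
    have hq3 : Fintype.card F % 4 = 3 := by omega
    have hns : ¬ IsSquare (-1 : F) := by
      rw [FiniteField.isSquare_neg_one_iff]
      omega
    refine ⟨hq3, ?_, ?_⟩
    · by_contra hcon
      obtain ⟨y, hycomm, hT2, hmovd, han⟩ := exists_invol_aniso h2F (plusForm F d) hQs (by omega)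
        (Cfsg.Agent.Helper8.OmegaStd.plus_isHyp F d) hd hns
      have hsum := finrank_fix_add_mov hrF hT2
      rw [hdimV, hmovd] at hsum
      have hx2 : (((y : GL (Fin d ⊕ Fin d) F) ^ 2 : GL (Fin d ⊕ Fin d) F) :
          Matrix (Fin d ⊕ Fin d) (Fin d ⊕ Fin d) F) = (1 : F) • (1 : Matrix (Fin d ⊕ Fin d) (Fin d ⊕ Fin d) F) := by
        apply Matrix.toLin'.injective
        rw [← toLin'_pow_gl, hT2, one_smul, Matrix.toLin'_one]
        rfl
      have hxns : ∀ z : F, ((y : GL (Fin d ⊕ Fin d) F) : Matrix (Fin d ⊕ Fin d) (Fin d ⊕ Fin d) F) ≠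
          z • (1 : Matrix (Fin d ⊕ Fin d) (Fin d ⊕ Fin d) F) := by
        intro z hz
        have hTz : (Matrix.toLin' ((y : GL (Fin d ⊕ Fin d) F) : Matrix (Fin d ⊕ Fin d) (Fin d ⊕ Fin d) F) :
            Module.End F (Fin d ⊕ Fin d → F)) = z • 1 := by
          rw [hz, map_smul, Matrix.toLin'_one]
          rfl
        obtain ⟨v, hv, hv0⟩ : ∃ v ∈ fixS (Matrix.toLin' ((y : GL (Fin d ⊕ Fin d) F) :
            Matrix (Fin d ⊕ Fin d) (Fin d ⊕ Fin d) F) : Module.End F (Fin d ⊕ Fin d → F)), v ≠ 0 := by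
          by_contra hcon2
          push Not at hcon2
          have : fixS (Matrix.toLin' ((y : GL (Fin d ⊕ Fin d) F) :
              Matrix (Fin d ⊕ Fin d) (Fin d ⊕ Fin d) F) : Module.End F (Fin d ⊕ Fin d → F)) = ⊥ := by
            rw [eq_bot_iff]
            intro u hu
            exact (Submodule.mem_bot F).mpr (hcon2 u hu)
          rw [this, finrank_bot] at hsum
          omega
        have h1 := POrd.mem_fixS.mp hv
        rw [hTz, LinearMap.smul_apply, Module.End.one_apply] at h1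
        have hz1 : z = 1 := by
          have h2 : (z - 1) • v = 0 := by rw [sub_smul, one_smul, h1, sub_self]
          have h3 := (smul_eq_zero.mp h2).resolve_right hv0
          linear_combination h3
        rw [hz1, one_smul] at hTz
        rw [hTz, movS_two_one h2F, finrank_bot] at hmovd
        omega
      obtain ⟨W, hWd, hWts, hWinv⟩ := hall (y : GL (Fin d ⊕ Fin d) F) ⟨y, hycomm, rfl⟩ ⟨1, hx2⟩ hxns
      have hle := finrank_add_two_le_of_aniso_mov h2F hQs hdimV (plus_hyp_top d)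
        (QT_of_mem_iso y.2) hT2 hmovd han ((invt_iff_map_le _ W).mp hWinv) hWts
      omega
    · by_contra hcon
      push Not at hcon
      obtain ⟨hmodd, hd4⟩ := hcon
      have hdev : Even d := by
        rw [Nat.even_iff]
        omega
      obtain ⟨e, rfl⟩ := hdev
      obtain ⟨y, hTT⟩ := exists_sq_neg_one_of_even (F := F) h2F e
      have hycomm : y ∈ commutator ↥(Cfsg.isometryGroup F ⇑(plusForm F (e + e))) := by
        rw [mem_commutator_iff_of_sq_neg_one h2F (by omega) y hTT]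
        exact ⟨2 ^ e, by rw [pow_add]⟩
      have hx2 : (((y : GL (Fin (e + e) ⊕ Fin (e + e)) F) ^ 2 : GL (Fin (e + e) ⊕ Fin (e + e)) F) :
          Matrix (Fin (e + e) ⊕ Fin (e + e)) (Fin (e + e) ⊕ Fin (e + e)) F) =
          (-1 : F) • (1 : Matrix (Fin (e + e) ⊕ Fin (e + e)) (Fin (e + e) ⊕ Fin (e + e)) F) := by
        apply Matrix.toLin'.injective
        rw [← toLin'_pow_gl]
        apply LinearMap.ext
        intro v
        rw [pow_two, Module.End.mul_apply, hTT, Matrix.toLin'_apply, Matrix.smul_mulVec, Matrix.one_mulVec,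
          neg_one_smul]
      have hxns : ∀ z : F, ((y : GL (Fin (e + e) ⊕ Fin (e + e)) F) :
          Matrix (Fin (e + e) ⊕ Fin (e + e)) (Fin (e + e) ⊕ Fin (e + e)) F) ≠
          z • (1 : Matrix (Fin (e + e) ⊕ Fin (e + e)) (Fin (e + e) ⊕ Fin (e + e)) F) := by
        intro z hz
        apply hns
        refine ⟨z, ?_⟩
        obtain ⟨v, hv⟩ := exists_ne (0 : Fin (e + e) ⊕ Fin (e + e) → F)
        have h1 := hTT v
        rw [hz, Matrix.toLin'_apply, Matrix.toLin'_apply, Matrix.smul_mulVec, Matrix.one_mulVec,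
          Matrix.smul_mulVec, Matrix.one_mulVec, smul_smul] at h1
        have h2 : (z * z + 1) • v = 0 := by rw [add_smul, h1, one_smul, neg_add_cancel]
        have h3 := (smul_eq_zero.mp h2).resolve_right hv
        linear_combination -h3
      obtain ⟨W, hWd, hWts, hWinv⟩ := hall (y : GL (Fin (e + e) ⊕ Fin (e + e)) F) ⟨y, hycomm, rfl⟩
        ⟨-1, hx2⟩ hxns
      have hev := even_finrank_of_invt_sq_neg_one hTT hns ((invt_iff_map_le _ W).mp hWinv)
      rw [hWd] at hev
      exact hmodd hev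
  · intro hcond x hxΩ ⟨z, hz⟩ hxns
    have hxiso := iso_of_mem_omega hxΩ
    have hQT := QT_of_mem_iso hxiso
    have hsq := toLin'_sq_of_scalar hz
    have hsq4 : (∃ ω : F, ω * ω = -1) ∨ ¬ IsSquare (-1 : F) := by
      by_cases h : IsSquare (-1 : F)
      · obtain ⟨ω, hω⟩ := h
        exact Or.inl ⟨ω, hω.symm⟩
      · exact Or.inr h
    have hconv : (∃ W : Submodule F (Fin d ⊕ Fin d → F),
        W ∈ Module.End.invtSubmodule (Matrix.toLin' (x : Matrix (Fin d ⊕ Fin d) (Fin d ⊕ Fin d) F)) ∧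
        TS (plusForm F d) W ∧ finrank F ↥W = m) →
        ∃ W : Submodule F (Fin d ⊕ Fin d → F), finrank F ↥W = m ∧ (∀ w ∈ W, (plusForm F d) w = 0) ∧
        W.map (Matrix.toLin' (x : Matrix (Fin d ⊕ Fin d) (Fin d ⊕ Fin d) F)) ≤ W := by
      rintro ⟨W, h1, h2, h3⟩
      exact ⟨W, h3, h2, map_le_of_invt h1⟩
    apply hconv
    rcases scalar_pow_pm_one hQs hxiso hz with rfl | rfl
    · -- involutions
      have hT : (Matrix.toLin' (x : Matrix (Fin d ⊕ Fin d) (Fin d ⊕ Fin d) F) :
          Module.End F (Fin d ⊕ Fin d → F)) ^ 2 = 1 := by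
        apply LinearMap.ext
        intro v
        rw [pow_two, Module.End.mul_apply, hsq, one_smul, Module.End.one_apply]
      have h1 : (Matrix.toLin' (x : Matrix (Fin d ⊕ Fin d) (Fin d ⊕ Fin d) F) :
          Module.End F (Fin d ⊕ Fin d → F)) ≠ 1 := by
        have := toLin'_ne_smul_one hxns 1
        rwa [one_smul] at this
      have hm1 : (Matrix.toLin' (x : Matrix (Fin d ⊕ Fin d) (Fin d ⊕ Fin d) F) :
          Module.End F (Fin d ⊕ Fin d → F)) ≠ -1 := by
        intro h
        apply toLin'_ne_smul_one hxns (-1)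
        rw [h]
        apply LinearMap.ext
        intro v
        simp
      rcases hsq4 with ⟨ω, hω⟩ | hns
      · obtain ⟨y, hy, hyx⟩ := hxΩ
        have hyx' : ((y : GL (Fin d ⊕ Fin d) F) : Matrix (Fin d ⊕ Fin d) (Fin d ⊕ Fin d) F) =
            (x : Matrix (Fin d ⊕ Fin d) (Fin d ⊕ Fin d) F) := by
          rw [← hyx]
          rfl
        have hhalf := exists_ts_half_mov h2F (plusForm F d) hQs (by omega) hy (by rw [hyx']; exact hT) hω
        rw [hyx'] at hhalf
        obtain ⟨L₂, hL₂, hL₂ts, hL₂d⟩ := hhalf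
        obtain ⟨ha, hb⟩ := finrank_pos_of_invol h2F hT h1 hm1
        have hsum := finrank_fix_add_mov hrF hT
        rw [hdimV] at hsum
        have hfinV : Finite (Fin d ⊕ Fin d → F) := Module.finite_of_finite F
        have hfixnd : ND (QuadraticMap.polarBilin (plusForm F d)) (fixS (Matrix.toLin'
            (x : Matrix (Fin d ⊕ Fin d) (Fin d ⊕ Fin d) F) :
            Module.End F (Fin d ⊕ Fin d → F))) := by
          have := nd_inf_fix (pB_refl _) (iso_of_Q hQT) hrF hT (Module.End.invtSubmodule.top_mem _) hQs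
          rwa [top_inf_eq] at this
        obtain ⟨L₁, hL₁, hL₁ts, hL₁d⟩ := exists_ts_of_lt hQs ((finrank F ↥(fixS (Matrix.toLin'
            (x : Matrix (Fin d ⊕ Fin d) (Fin d ⊕ Fin d) F) :
            Module.End F (Fin d ⊕ Fin d → F))) - 1) / 2) _ hfixnd (by omega)
        exact invol_sup_ts h2F hQT hL₁ hL₂ hL₁ts hL₂ts (by omega)
      · have hq3 : Fintype.card F % 4 = 3 := by
          rw [FiniteField.isSquare_neg_one_iff] at hns
          omega
        have hm2 : m + 2 ≤ d := by
          rcases hcond with h | ⟨-, h, -⟩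
          · omega
          · exact h
        exact exists_ts_invol_cheap h2F hQs hdimV hQT hT h1 hm1 hm2
    · -- square `-1`
      have hTT : ∀ v, Matrix.toLin' (x : Matrix (Fin d ⊕ Fin d) (Fin d ⊕ Fin d) F)
          (Matrix.toLin' (x : Matrix (Fin d ⊕ Fin d) (Fin d ⊕ Fin d) F) v) = -v := by
        intro v
        rw [hsq, neg_one_smul]
      rcases hsq4 with ⟨ω, hω⟩ | hns
      · exact exists_ts_of_sq_neg_one_root h2F hQs hdimV hQT hTT hω hmd.le
      · have hq3 : Fintype.card F % 4 = 3 := by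
          rw [FiniteField.isSquare_neg_one_iff] at hns
          omega
        have hdev : Even d := even_of_sq_neg_one h2F ⟨x, hxiso⟩ hTT hns
        have hmev : Even m := by
          rcases hcond with h | ⟨-, -, h | h⟩
          · omega
          · exact h
          · rw [Nat.even_iff] at hdev
            omega
        obtain ⟨k, hk⟩ := hmev
        obtain ⟨W, h1, h2, h3⟩ := exists_ts_of_sq_neg_one_nonsq h2F hQs hdimV hQT hTT hns k (by omega)
        exact ⟨W, h1, h2, by rw [h3, hk]; ring⟩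

end Cfsg.Agent.Helper7.OpTS
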