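import Mathlib
import Cfsg.Agent.Helper7.OpTSU

set_option autoImplicit false
set_option linter.unusedSectionVars false
set_option linter.unusedVariables false

/-!
# The conditions of the statements on totally singular subspaces of `Ω^±_{2d}(q)`
-/

namespace Cfsg.Agent.Helper7.OpTS

open Matrix Module Cfsg.Agent.Helper7.SpOrd Cfsg.Agent.Helper7.QTy Cfsg.Agent.Helper7.QPa
  Cfsg.Agent.Helper8.StdForms

/-- the conditions in the form of the statement, plus type. -/
theorem plus_cond_iff {H : Prop} (hH : H) (i d m t : ℕ) :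
    ((Odd i ∧ OddCond H i d m) ∨ (Even i ∧ EvenCond H i d m t)) ↔
    ((Odd i ∧ i ≤ m ∧ 2 * (m % i) ≤ (2 * d) % cOf i) ∨
     (Even i ∧ i ≤ m ∧ t + 2 * (m / i) ≤ (2 * d) / i ∧
       ((2 * (m % i) ≤ i ∧ (2 * d) % cOf i = 0 ∧ Odd ((2 * d) / i) ∧ t + 2 * (m / i) < (2 * d) / i) ∨
        (2 * (m % i) ≤ (2 * d) % cOf i ∧ Even ((2 * d) / i)) ∨
        (2 * (m % i) < (2 * d) % cOf i ∧ Odd ((2 * d) / i))))) := by
  unfold OddCond EvenCond
  by_cases hev : Even i
  · have hodd : ¬ Odd i := Nat.not_odd_iff_even.mpr hev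
    have hc : cOf i = i := by unfold cOf; rw [if_pos hev]
    rw [hc]
    simp only [hodd, hev, hH, false_and, true_and, false_or, true_iff]
  · have hodd : Odd i := Nat.not_even_iff_odd.mp hev
    have hc : cOf i = 2 * i := by unfold cOf; rw [if_neg hev]
    rw [hc]
    simp only [hodd, hev, hH, false_and, true_and, or_false, not_true_eq_false, forall_const,
      false_imp_iff, and_true]

/-- the conditions in the form of the statement, minus type. -/
theorem minus_cond_iff {H : Prop} (hH : ¬ H) (i d m t : ℕ) :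
    ((Odd i ∧ OddCond H i d m) ∨ (Even i ∧ EvenCond H i d m t)) ↔
    ((Odd i ∧ i ≤ m ∧ ((2 * d) % cOf i = 0 ∨ 2 * (m % i) < (2 * d) % cOf i)) ∨
     (Even i ∧ i ≤ m ∧ t + 2 * (m / i) ≤ (2 * d) / i ∧
       ((2 * (m % i) ≤ i ∧ (2 * d) % cOf i = 0 ∧ Even ((2 * d) / i) ∧ t + 2 * (m / i) < (2 * d) / i) ∨
        (2 * (m % i) ≤ (2 * d) % cOf i ∧ Odd ((2 * d) / i)) ∨
        (2 * (m % i) < (2 * d) % cOf i ∧ Even ((2 * d) / i))))) := by
  unfold OddCond EvenCond
  by_cases hev : Even i
  · have hodd : ¬ Odd i := Nat.not_odd_iff_even.mpr hev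
    have hc : cOf i = i := by unfold cOf; rw [if_pos hev]
    rw [hc]
    simp only [hodd, hev, hH, false_and, true_and, false_or, false_iff, Nat.not_odd_iff_even,
      Nat.not_even_iff_odd]
  · have hodd : Odd i := Nat.not_even_iff_odd.mp hev
    have hc : cOf i = 2 * i := by unfold cOf; rw [if_neg hev]
    rw [hc]
    simp only [hodd, hev, hH, false_and, true_and, or_false, not_false_eq_true, forall_const,
      false_imp_iff, true_and]

section count

variable {F : Type*} [Field F]

theorem card_ts_eq_plus (d m : ℕ) :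
    Nat.card {W : Submodule F (Fin d ⊕ Fin d → F) // finrank F ↥W = m ∧
      (∀ w ∈ W, Cfsg.quadFormPlus d F w = 0)} = Nat.card (TSSub (plusForm F d) m) := by
  apply Nat.card_congr
  apply Equiv.subtypeEquivRight
  intro W
  unfold TS
  simp only [plusForm_apply]

theorem card_ts_eq_minus (k m : ℕ) (a b : F) :
    Nat.card {W : Submodule F ((Fin k ⊕ Fin k) ⊕ Fin 2 → F) // finrank F ↥W = m ∧
      Cfsg.Geo.IsTotallySingularQuad (Cfsg.quadFormMinus k F a b) W} =
      Nat.card (TSSub (minusForm F k a b) m) := by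
  apply Nat.card_congr
  apply Equiv.subtypeEquivRight
  intro W
  unfold TS Cfsg.Geo.IsTotallySingularQuad
  simp only [minusForm_apply]

end count

end Cfsg.Agent.Helper7.OpTS
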