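import Mathlib
import Cfsg.Agent.Helper7.OpTSV

set_option autoImplicit false
set_option linter.unusedSectionVars false
set_option linter.unusedVariables false

/-!
# Elements of order two of `PΩ^-_{2d}(q)`, `q` odd, and totally singular `m`-spaces
-/

namespace Cfsg.Agent.Helper7.OpTS

open Matrix Module Polynomial Cfsg.Agent.Helper7.POrd Cfsg.Agent.Helper7.SpOrd Cfsg.Agent.Helper7.SpTI
  Cfsg.Agent.Helper7.OrTS Cfsg.Agent.Helper7.QTy Cfsg.Agent.Helper7.QPa Cfsg.Agent.Helper7.QMi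
  Cfsg.Agent.Helper8.StdForms

universe u v

section endo

variable {F : Type v} [Field F] [Fintype F] {V : Type u} [AddCommGroup V] [Module F V] [FiniteDimensional F V]

/-- **involutions of a space of minus type**: every isometric involution different from `±1` fixes a totally
singular subspace of each dimension `m < d`. -/
theorem exists_ts_invol_minus (h2F : (2 : F) ≠ 0) {Q : QuadraticForm F V}
    (hV : ND (QuadraticMap.polarBilin Q) ⊤) {d : ℕ} (hdim : finrank F V = 2 * d) (hny : ¬ Hyp Q ⊤)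
    {T : Module.End F V} (hQT : ∀ v, Q (T v) = Q v) (hT : T ^ 2 = 1) (h1 : T ≠ 1) (hm1 : T ≠ -1)
    {m : ℕ} (hm : m < d) :
    ∃ W : Submodule F V, W ∈ Module.End.invtSubmodule T ∧ TS Q W ∧ finrank F ↥W = m := by
  haveI : Finite V := Module.finite_of_finite F
  have hrF := two_cast_ne_zero h2F
  have hrefl := pB_refl Q
  have hiso := iso_of_Q hQT
  obtain ⟨ha, hb⟩ := finrank_pos_of_invol h2F hT h1 hm1
  have hsum := finrank_fix_add_mov hrF hT
  rw [hdim] at hsum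
  have hmovnd : ND (QuadraticMap.polarBilin Q) (movS 2 T) := by
    have := nd_inf_mov hrefl hiso hrF hT (Module.End.invtSubmodule.top_mem T) hV
    rwa [top_inf_eq] at this
  have hfixnd : ND (QuadraticMap.polarBilin Q) (fixS T) := by
    have := nd_inf_fix hrefl hiso hrF hT (Module.End.invtSubmodule.top_mem T) hV
    rwa [top_inf_eq] at this
  by_cases hev : Even (finrank F ↥(fixS T))
  · have hev' : Even (finrank F ↥(movS 2 T)) := by
      rw [Nat.even_iff] at hev ⊢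
      omega
    have hperp : movS 2 T ≤ LinearMap.BilinForm.orthogonal (QuadraticMap.polarBilin Q) (fixS T) := by
      intro v hv
      rw [mem_perp]
      intro w hw
      exact fix_perp_mov hiso hrF hw hv
    have hsg := sg_sup hV hfixnd hmovnd hperp hev hev'
    rw [(isCompl_fix_mov hrF hT).sup_eq_top, sg_eq_neg_one_iff.mpr hny] at hsg
    rw [Nat.even_iff] at hev hev'
    by_cases hfy : Hyp Q (fixS T)
    · obtain ⟨L₁, hL₁, hL₁ts, hL₁d⟩ := hfy
      obtain ⟨L₂, hL₂, hL₂ts, hL₂d⟩ := exists_ts_of_lt hV ((finrank F ↥(movS 2 T) - 1) / 2) (movS 2 T) hmovnd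
        (by omega)
      exact invol_sup_ts h2F hQT hL₁ hL₂ hL₁ts hL₂ts (by omega)
    · have hmy : Hyp Q (movS 2 T) := by
        rw [sg_eq_neg_one_iff.mpr hfy] at hsg
        rw [← sg_eq_one_iff]
        rcases sg_cases Q (movS 2 T) with h | h
        · exact h
        · rw [h] at hsg
          norm_num at hsg
      obtain ⟨L₂, hL₂, hL₂ts, hL₂d⟩ := hmy
      obtain ⟨L₁, hL₁, hL₁ts, hL₁d⟩ := exists_ts_of_lt hV ((finrank F ↥(fixS T) - 1) / 2) (fixS T) hfixnd
        (by omega)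
      exact invol_sup_ts h2F hQT hL₁ hL₂ hL₁ts hL₂ts (by omega)
  · rw [Nat.even_iff] at hev
    exact exists_ts_invol h2F hV hQT hT (w₁ := (finrank F ↥(fixS T) - 1) / 2)
      (w₂ := (finrank F ↥(movS 2 T) - 1) / 2) (by omega) (by omega) (by omega)

end endo

section sq

variable {F : Type v} [Field F]

theorem isSquare_two_of_pow_odd {n : ℕ} (hn : Odd n) (h2F : (2 : F) ≠ 0) (h : IsSquare ((2 : F) ^ n)) :
    IsSquare (2 : F) := by
  obtain ⟨k, rfl⟩ := hn
  obtain ⟨s, hs⟩ := h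
  have h0 : ((2 : F) ^ k) ≠ 0 := pow_ne_zero _ h2F
  refine ⟨s / 2 ^ k, ?_⟩
  field_simp
  linear_combination hs

end sq

section main

variable {F : Type v} [Field F] [Fintype F]

/-- **the case `r = 2`, minus type.** -/
theorem two_case_iff_ts_minus (h2F : (2 : F) ≠ 0) (hqodd : Odd (Fintype.card F)) {d k m : ℕ}
    (hdk : d = k + 1) (hd : 2 ≤ d) (hm : 1 ≤ m) (hmd : m < d) {a b : F}
    (hab : ∀ x y : F, x ^ 2 + a * x * y + b * y ^ 2 = 0 → x = 0 ∧ y = 0) :
    (∀ x : GL ((Fin k ⊕ Fin k) ⊕ Fin 2) F, x ∈ Cfsg.Geo.omegaGL (Cfsg.quadFormMinus k F a b) →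
      (∃ z : F, ((x ^ 2 : GL ((Fin k ⊕ Fin k) ⊕ Fin 2) F) :
        Matrix ((Fin k ⊕ Fin k) ⊕ Fin 2) ((Fin k ⊕ Fin k) ⊕ Fin 2) F) =
        z • (1 : Matrix ((Fin k ⊕ Fin k) ⊕ Fin 2) ((Fin k ⊕ Fin k) ⊕ Fin 2) F)) →
      (∀ z : F, (x : Matrix ((Fin k ⊕ Fin k) ⊕ Fin 2) ((Fin k ⊕ Fin k) ⊕ Fin 2) F) ≠
        z • (1 : Matrix ((Fin k ⊕ Fin k) ⊕ Fin 2) ((Fin k ⊕ Fin k) ⊕ Fin 2) F)) →
      ∃ W : Submodule F ((Fin k ⊕ Fin k) ⊕ Fin 2 → F),
        (finrank F ↥W = m ∧ Cfsg.Geo.IsTotallySingularQuad (Cfsg.quadFormMinus k F a b) W) ∧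
        W.map (Matrix.toLin' (x : Matrix ((Fin k ⊕ Fin k) ⊕ Fin 2) ((Fin k ⊕ Fin k) ⊕ Fin 2) F)) ≤ W) ↔
    (Even d ∨ Even m ∨ Fintype.card F % 8 ≠ 7) := by
  classical
  rw [← minusForm_coe]
  have hrF := two_cast_ne_zero h2F
  have hQs := minus_nd_top (F := F) k hab
  have hnot := minus_not_hyp (F := F) k hab
  have hQnd := minusForm_nondeg F k hab
  have hdimV : finrank F ((Fin k ⊕ Fin k) ⊕ Fin 2 → F) = 2 * d := by
    rw [finrank_minus, hdk]
    ring
  haveI : Nonempty ((Fin k ⊕ Fin k) ⊕ Fin 2) := ⟨Sum.inr 0⟩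
  have hq2 : Fintype.card F % 2 = 1 := Nat.odd_iff.mp hqodd
  constructor
  · intro hall
    by_contra hcon
    push Not at hcon
    obtain ⟨hdodd, hmodd, hq7⟩ := hcon
    have hdodd' : Odd d := Nat.not_even_iff_odd.mp hdodd
    have hns : ¬ IsSquare (-1 : F) := by
      rw [FiniteField.isSquare_neg_one_iff]
      omega
    have h2sq : IsSquare (2 : F) := by
      rw [FiniteField.isSquare_two_iff]
      omega
    obtain ⟨y, hTT⟩ := exists_sq_neg_one_minus h2F hns hdk hdodd' hab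
    have hycomm := (mem_commutator_iff_of_sq_neg_one_gen h2F (minusForm F k a b) hQnd hQs (by omega) hdimV y
      hTT).mpr (h2sq.pow d)
    have hx2 : (((y : GL ((Fin k ⊕ Fin k) ⊕ Fin 2) F) ^ 2 : GL ((Fin k ⊕ Fin k) ⊕ Fin 2) F) :
        Matrix ((Fin k ⊕ Fin k) ⊕ Fin 2) ((Fin k ⊕ Fin k) ⊕ Fin 2) F) =
        (-1 : F) • (1 : Matrix ((Fin k ⊕ Fin k) ⊕ Fin 2) ((Fin k ⊕ Fin k) ⊕ Fin 2) F) := by
      apply Matrix.toLin'.injective
      rw [← toLin'_pow_gl]
      apply LinearMap.ext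
      intro v
      rw [pow_two, Module.End.mul_apply, hTT, Matrix.toLin'_apply, Matrix.smul_mulVec, Matrix.one_mulVec,
        neg_one_smul]
    have hxns : ∀ z : F, ((y : GL ((Fin k ⊕ Fin k) ⊕ Fin 2) F) :
        Matrix ((Fin k ⊕ Fin k) ⊕ Fin 2) ((Fin k ⊕ Fin k) ⊕ Fin 2) F) ≠
        z • (1 : Matrix ((Fin k ⊕ Fin k) ⊕ Fin 2) ((Fin k ⊕ Fin k) ⊕ Fin 2) F) := by
      intro z hz
      apply hns
      refine ⟨z, ?_⟩
      obtain ⟨v, hv⟩ := exists_ne (0 : (Fin k ⊕ Fin k) ⊕ Fin 2 → F)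
      have h1 := hTT v
      rw [hz, Matrix.toLin'_apply, Matrix.toLin'_apply, Matrix.smul_mulVec, Matrix.one_mulVec,
        Matrix.smul_mulVec, Matrix.one_mulVec, smul_smul] at h1
      have h2 : (z * z + 1) • v = 0 := by rw [add_smul, h1, one_smul, neg_add_cancel]
      have h3 := (smul_eq_zero.mp h2).resolve_right hv
      linear_combination -h3
    obtain ⟨W, ⟨hWd, hWts⟩, hWinv⟩ := hall (y : GL ((Fin k ⊕ Fin k) ⊕ Fin 2) F) ⟨y, hycomm, rfl⟩
      ⟨-1, hx2⟩ hxns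
    have hev := even_finrank_of_invt_sq_neg_one hTT hns ((invt_iff_map_le _ W).mp hWinv)
    rw [hWd] at hev
    exact hmodd hev
  · intro hcond x hxΩ ⟨z, hz⟩ hxns
    have hxiso := iso_of_mem_omega hxΩ
    have hQT := QT_of_mem_iso hxiso
    have hsq := toLin'_sq_of_scalar hz
    have hsq4 : (∃ ω : F, ω * ω = -1) ∨ ¬ IsSquare (-1 : F) := by
      by_cases h : IsSquare (-1 : F)
      · obtain ⟨ω, hω⟩ := h
        exact Or.inl ⟨ω, hω.symm⟩
      · exact Or.inr h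
    have hconv : (∃ W : Submodule F ((Fin k ⊕ Fin k) ⊕ Fin 2 → F),
        W ∈ Module.End.invtSubmodule (Matrix.toLin'
          (x : Matrix ((Fin k ⊕ Fin k) ⊕ Fin 2) ((Fin k ⊕ Fin k) ⊕ Fin 2) F)) ∧
        TS (minusForm F k a b) W ∧ finrank F ↥W = m) →
        ∃ W : Submodule F ((Fin k ⊕ Fin k) ⊕ Fin 2 → F),
          (finrank F ↥W = m ∧ Cfsg.Geo.IsTotallySingularQuad (⇑(minusForm F k a b)) W) ∧
          W.map (Matrix.toLin' (x : Matrix ((Fin k ⊕ Fin k) ⊕ Fin 2) ((Fin k ⊕ Fin k) ⊕ Fin 2) F)) ≤ W := by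
      rintro ⟨W, h1, h2, h3⟩
      exact ⟨W, ⟨h3, h2⟩, map_le_of_invt h1⟩
    apply hconv
    rcases scalar_pow_pm_one hQs hxiso hz with rfl | rfl
    · have hT : (Matrix.toLin' (x : Matrix ((Fin k ⊕ Fin k) ⊕ Fin 2) ((Fin k ⊕ Fin k) ⊕ Fin 2) F) :
          Module.End F ((Fin k ⊕ Fin k) ⊕ Fin 2 → F)) ^ 2 = 1 := by
        apply LinearMap.ext
        intro v
        rw [pow_two, Module.End.mul_apply, hsq, one_smul, Module.End.one_apply]
      have h1 : (Matrix.toLin' (x : Matrix ((Fin k ⊕ Fin k) ⊕ Fin 2) ((Fin k ⊕ Fin k) ⊕ Fin 2) F) :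
          Module.End F ((Fin k ⊕ Fin k) ⊕ Fin 2 → F)) ≠ 1 := by
        have := toLin'_ne_smul_one hxns 1
        rwa [one_smul] at this
      have hm1 : (Matrix.toLin' (x : Matrix ((Fin k ⊕ Fin k) ⊕ Fin 2) ((Fin k ⊕ Fin k) ⊕ Fin 2) F) :
          Module.End F ((Fin k ⊕ Fin k) ⊕ Fin 2 → F)) ≠ -1 := by
        intro h
        apply toLin'_ne_smul_one hxns (-1)
        rw [h]
        apply LinearMap.ext
        intro v
        simp
      exact exists_ts_invol_minus h2F hQs hdimV hnot hQT hT h1 hm1 hmd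
    · have hTT : ∀ v, Matrix.toLin' (x : Matrix ((Fin k ⊕ Fin k) ⊕ Fin 2) ((Fin k ⊕ Fin k) ⊕ Fin 2) F)
          (Matrix.toLin' (x : Matrix ((Fin k ⊕ Fin k) ⊕ Fin 2) ((Fin k ⊕ Fin k) ⊕ Fin 2) F) v) = -v := by
        intro v
        rw [hsq, neg_one_smul]
      rcases hsq4 with ⟨ω, hω⟩ | hns
      · exact exists_ts_of_sq_neg_one_root h2F hQs hdimV hQT hTT hω hmd.le
      · have hq3 : Fintype.card F % 4 = 3 := by
          rw [FiniteField.isSquare_neg_one_iff] at hns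
          omega
        have hdodd : ¬ Even d := by
          intro hdev
          exact hnot ((hyp_iff_even_of_sq_neg_one_gen h2F (minusForm F k a b) hQs hdimV ⟨x, hxiso⟩ hTT
            hns).mpr hdev)
        have hmev : Even m := by
          rcases hcond with h | h | h
          · exact absurd h hdodd
          · exact h
          · exfalso
            obtain ⟨y, hycomm, hyx⟩ := hxΩ
            have hyx' : ((y : GL ((Fin k ⊕ Fin k) ⊕ Fin 2) F) :
                Matrix ((Fin k ⊕ Fin k) ⊕ Fin 2) ((Fin k ⊕ Fin k) ⊕ Fin 2) F) =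
                (x : Matrix ((Fin k ⊕ Fin k) ⊕ Fin 2) ((Fin k ⊕ Fin k) ⊕ Fin 2) F) := by
              rw [← hyx]
              rfl
            have h2pow := (mem_commutator_iff_of_sq_neg_one_gen h2F (minusForm F k a b) hQnd hQs (by omega)
              hdimV y (by rw [hyx']; exact hTT)).mp hycomm
            have h2sq := isSquare_two_of_pow_odd (Nat.not_even_iff_odd.mp hdodd) h2F h2pow
            rw [FiniteField.isSquare_two_iff] at h2sq
            omega
        obtain ⟨j, hj⟩ := hmev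
        obtain ⟨W, h1, h2, h3⟩ := exists_ts_of_sq_neg_one_nonsq h2F hQs hdimV hQT hTT hns j (by omega)
        exact ⟨W, h1, h2, by rw [h3, hj]; ring⟩

end main

end Cfsg.Agent.Helper7.OpTS
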