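import Mathlib
import Cfsg.Agent.Helper7.OpTSW

set_option autoImplicit false
set_option linter.unusedSectionVars false
set_option linter.unusedVariables false

/-!
# Nondegenerate subspaces of prescribed dimension and type in a quadratic space over a finite field
-/

namespace Cfsg.Agent.Helper7.OpND

open Matrix Module Polynomial Cfsg.Agent.Helper7.POrd Cfsg.Agent.Helper7.SpOrd Cfsg.Agent.Helper7.SpTI
  Cfsg.Agent.Helper7.OrTS Cfsg.Agent.Helper7.QTy Cfsg.Agent.Helper7.QPa Cfsg.Agent.Helper7.QMi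
  Cfsg.Agent.Helper7.OpTS Cfsg.Agent.Helper8.QuadForm Cfsg.Agent.Helper8.OrT Cfsg.Agent.Helper8.OrR
  Cfsg.Agent.Helper8.StdForms

universe u

variable {F : Type u} [Field F] [Fintype F]

section emb

variable {V : Type u} [AddCommGroup V] [Module F V] [FiniteDimensional F V]
  {V₁ : Type u} [AddCommGroup V₁] [Module F V₁] [FiniteDimensional F V₁]
  {Q : QuadraticForm F V} {Q₁ : QuadraticForm F V₁} {ι : V₁ →ₗ[F] V}

/-- the sign only depends on the type. -/
theorem sg_congr {V' : Type u} [AddCommGroup V'] [Module F V'] [FiniteDimensional F V']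
    {Q' : QuadraticForm F V'} {W : Submodule F V} {W' : Submodule F V'} (h : Hyp Q W ↔ Hyp Q' W') :
    sg Q W = sg Q' W' := by
  by_cases hy : Hyp Q W
  · rw [sg_eq_one_iff.mpr hy, sg_eq_one_iff.mpr (h.mp hy)]
  · rw [sg_eq_neg_one_iff.mpr hy, sg_eq_neg_one_iff.mpr (fun h' => hy (h.mpr h'))]

/-- the sign of the image under an isometric embedding. -/
theorem sg_map_emb (hinj : Function.Injective ι) (hι : ∀ v, Q (ι v) = Q₁ v) (W : Submodule F V₁) :
    sg Q (W.map ι) = sg Q₁ W :=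
  sg_congr ⟨hyp_of_map_emb hinj hι, hyp_map_emb hinj hι⟩

theorem finrank_map_emb (hinj : Function.Injective ι) (W : Submodule F V₁) :
    finrank F ↥(W.map ι) = finrank F ↥W :=
  ((Submodule.equivMapOfInjective ι hinj W).finrank_eq).symm

end emb

section prod

variable {V₁ V₂ : Type u} [AddCommGroup V₁] [Module F V₁] [FiniteDimensional F V₁]
  [AddCommGroup V₂] [Module F V₂] [FiniteDimensional F V₂]
  (Q₁ : QuadraticForm F V₁) (Q₂ : QuadraticForm F V₂)

/-- **the orthogonal product of two quadratic spaces of even dimension**, all characteristics. -/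
theorem prod_nd_sg (h₁ : ND (QuadraticMap.polarBilin Q₁) ⊤) (h₂ : ND (QuadraticMap.polarBilin Q₂) ⊤)
    (he₁ : Even (finrank F V₁)) (he₂ : Even (finrank F V₂)) :
    ND (QuadraticMap.polarBilin (Q₁.prod Q₂)) ⊤ ∧ sg (Q₁.prod Q₂) ⊤ = sg Q₁ ⊤ * sg Q₂ ⊤ := by
  have hrefl := pB_refl (Q₁.prod Q₂)
  have hinjl : Function.Injective (LinearMap.inl F V₁ V₂) := LinearMap.inl_injective
  have hinjr : Function.Injective (LinearMap.inr F V₁ V₂) := LinearMap.inr_injective
  have hA := nd_map_emb (Q := Q₁.prod Q₂) (prod_inl Q₁ Q₂) h₁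
  have hB := nd_map_emb (Q := Q₁.prod Q₂) (prod_inr Q₁ Q₂) h₂
  have hAB : (⊤ : Submodule F V₂).map (LinearMap.inr F V₁ V₂) ≤
      LinearMap.BilinForm.orthogonal (QuadraticMap.polarBilin (Q₁.prod Q₂))
        ((⊤ : Submodule F V₁).map (LinearMap.inl F V₁ V₂)) := by
    rintro _ ⟨w, -, rfl⟩
    rw [mem_perp]
    rintro _ ⟨u, -, rfl⟩
    rw [pB_apply, QuadraticMap.polar_prod]
    simp
  have hsup : (⊤ : Submodule F V₁).map (LinearMap.inl F V₁ V₂) ⊔
      (⊤ : Submodule F V₂).map (LinearMap.inr F V₁ V₂) = ⊤ := by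
    rw [eq_top_iff]
    rintro ⟨x, y⟩ -
    have : ((x, y) : V₁ × V₂) = LinearMap.inl F V₁ V₂ x + LinearMap.inr F V₁ V₂ y := by simp
    rw [this]
    exact Submodule.add_mem _ (Submodule.mem_sup_left (Submodule.mem_map_of_mem Submodule.mem_top))
      (Submodule.mem_sup_right (Submodule.mem_map_of_mem Submodule.mem_top))
  have hnd : ND (QuadraticMap.polarBilin (Q₁.prod Q₂)) ⊤ := by
    rw [← hsup]
    exact nd_sup hrefl hA hB hAB
  refine ⟨hnd, ?_⟩
  have h := sg_sup hnd hA hB hAB (by rw [finrank_map_emb hinjl, finrank_top]; exact he₁)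
    (by rw [finrank_map_emb hinjr, finrank_top]; exact he₂)
  rw [hsup, sg_map_emb hinjl (prod_inl Q₁ Q₂), sg_map_emb hinjr (prod_inr Q₁ Q₂)] at h
  exact h

end prod

section exist

variable {V : Type u} [AddCommGroup V] [Module F V] [FiniteDimensional F V]

/-- **nondegenerate subspaces of prescribed dimension and type.** -/
theorem exists_nd_sub {Q : QuadraticForm F V} (hV : ND (QuadraticMap.polarBilin Q) ⊤) {k : ℕ}
    (hk : finrank F V = 2 * k) {a : ℕ} (hak : a ≤ k) (P : Prop) (h0 : a = 0 → P)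
    (hfull : a = k → (P ↔ Hyp Q ⊤)) :
    ∃ W : Submodule F V, ND (QuadraticMap.polarBilin Q) W ∧ finrank F ↥W = 2 * a ∧ (Hyp Q W ↔ P) := by
  by_cases ha0 : a = 0
  · subst ha0
    exact ⟨⊥, nd_bot _, by rw [finrank_bot], iff_of_true (hyp_bot Q) (h0 rfl)⟩
  have hk1 : 1 ≤ k := by omega
  obtain ⟨V₁, _, _, _, Q₁, hQ₁, hd₁, hy₁⟩ := exists_space_of_type (F := F) a P h0
  obtain ⟨V₂, _, _, _, Q₂, hQ₂, hd₂, hy₂⟩ := exists_space_of_type (F := F) (k - a) (P ↔ Hyp Q ⊤)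
    (fun h => hfull (by omega))
  obtain ⟨hnd, hsg⟩ := prod_nd_sg Q₁ Q₂ hQ₁ hQ₂ (by rw [hd₁]; exact even_two_mul _)
    (by rw [hd₂]; exact even_two_mul _)
  have hdE : finrank F (V₁ × V₂) = 2 * k := by
    rw [Module.finrank_prod, hd₁, hd₂]
    omega
  have hs : Hyp (Q₁.prod Q₂) ⊤ ↔ Hyp Q ⊤ := by
    rw [← sg_eq_one_iff, hsg]
    by_cases hP : P
    · have hy₁' : Hyp Q₁ ⊤ := hy₁.mpr hP
      rw [sg_eq_one_iff.mpr hy₁', one_mul, sg_eq_one_iff, hy₂]
      exact ⟨fun h => h.mp hP, fun h => ⟨fun _ => h, fun _ => hP⟩⟩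
    · have hy₁' : ¬ Hyp Q₁ ⊤ := fun h => hP (hy₁.mp h)
      rw [sg_eq_neg_one_iff.mpr hy₁']
      by_cases hq : Hyp Q ⊤
      · have : ¬ Hyp Q₂ ⊤ := fun h => hP ((hy₂.mp h).mpr hq)
        rw [sg_eq_neg_one_iff.mpr this]
        exact ⟨fun _ => hq, fun _ => by norm_num⟩
      · have : Hyp Q₂ ⊤ := hy₂.mpr ⟨fun h => absurd h hP, fun h => absurd h hq⟩
        rw [sg_eq_one_iff.mpr this]
        exact ⟨fun h => absurd h (by norm_num), fun h => absurd h hq⟩
  obtain ⟨φ, hφ⟩ := exists_iso_of_hyp_iff hnd hV hk1 hdE hk hs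
  obtain ⟨ι, hι⟩ : ∃ ι : V₁ →ₗ[F] V, ι = (φ : (V₁ × V₂) →ₗ[F] V) ∘ₗ LinearMap.inl F V₁ V₂ := ⟨_, rfl⟩
  have hinj : Function.Injective ι := by
    rw [hι]
    exact φ.injective.comp LinearMap.inl_injective
  have hιQ : ∀ v, Q (ι v) = Q₁ v := by
    intro v
    rw [hι, LinearMap.comp_apply, LinearEquiv.coe_coe, hφ, prod_inl]
  refine ⟨(⊤ : Submodule F V₁).map ι, nd_map_emb hιQ hQ₁, ?_, ?_⟩
  · rw [finrank_map_emb hinj, finrank_top, hd₁]
  · exact ⟨fun h => hy₁.mp (hyp_of_map_emb hinj hιQ h), fun h => hyp_map_emb hinj hιQ (hy₁.mpr h)⟩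

/-- **nondegenerate subspaces of prescribed dimension and type inside a nondegenerate subspace.** -/
theorem exists_nd_sub_le {Q : QuadraticForm F V} {E : Submodule F V}
    (hE : ND (QuadraticMap.polarBilin Q) E) {k : ℕ} (hk : finrank F ↥E = 2 * k) {a : ℕ} (hak : a ≤ k)
    (P : Prop) (h0 : a = 0 → P) (hfull : a = k → (P ↔ Hyp Q E)) :
    ∃ W : Submodule F V, W ≤ E ∧ ND (QuadraticMap.polarBilin Q) W ∧ finrank F ↥W = 2 * a ∧
      (Hyp Q W ↔ P) := by
  have hιQ : ∀ v, Q (E.subtype v) = (Q.comp E.subtype) v := fun v => rfl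
  have hinj : Function.Injective E.subtype := E.injective_subtype
  have hEtop : ND (QuadraticMap.polarBilin (Q.comp E.subtype)) ⊤ := by
    intro u _ hu0
    obtain ⟨v, hv, huv⟩ := hE (u : V) u.2 (fun h => hu0 (Subtype.ext h))
    exact ⟨⟨v, hv⟩, Submodule.mem_top, huv⟩
  have hmapE : (⊤ : Submodule F ↥E).map E.subtype = E := by
    rw [Submodule.map_top, Submodule.range_subtype]
  have hyE : Hyp (Q.comp E.subtype) ⊤ ↔ Hyp Q E := by
    constructor
    · intro h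
      have := hyp_map_emb hinj hιQ h
      rwa [hmapE] at this
    · intro h
      rw [← hmapE] at h
      exact hyp_of_map_emb hinj hιQ h
  obtain ⟨W, hWnd, hWd, hWy⟩ := exists_nd_sub hEtop (by rw [hk]) hak P h0
    (fun h => (hfull h).trans hyE.symm)
  refine ⟨W.map E.subtype, ?_, nd_map_emb hιQ hWnd, ?_, ?_⟩
  · rintro _ ⟨w, -, rfl⟩
    exact w.2
  · rw [finrank_map_emb hinj, hWd]
  · exact ⟨fun h => hWy.mp (hyp_of_map_emb hinj hιQ h), fun h => hyp_map_emb hinj hιQ (hWy.mpr h)⟩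

end exist

end Cfsg.Agent.Helper7.OpND
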