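import Mathlib
import Cfsg.Agent.Helper7.OpNDA

set_option autoImplicit false
set_option linter.unusedSectionVars false
set_option linter.unusedVariables false

/-!
# Invariant nondegenerate subspaces of an isometry of odd prime order `r ≠ p`: blocks, necessity, sufficiency
-/

namespace Cfsg.Agent.Helper7.OpND

open Matrix Module Polynomial Cfsg.Agent.Helper7.POrd Cfsg.Agent.Helper7.SpOrd Cfsg.Agent.Helper7.SpTI
  Cfsg.Agent.Helper7.OrTS Cfsg.Agent.Helper7.QTy Cfsg.Agent.Helper7.QPa Cfsg.Agent.Helper7.QMi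
  Cfsg.Agent.Helper7.OpTS Cfsg.Agent.Helper8.QuadForm Cfsg.Agent.Helper8.OrT Cfsg.Agent.Helper8.OrR
  Cfsg.Agent.Helper8.StdForms

universe u

variable {F : Type u} [Field F] [Fintype F] {V : Type u} [AddCommGroup V] [Module F V] [FiniteDimensional F V]
  {p : ℕ} [Fact p.Prime] [CharP F p] {r : ℕ} [Fact r.Prime]

/-- existence of a block, all characteristics. -/
theorem exists_block_q (hr2 : r ≠ 2) (hrp : r ≠ p) {Q : QuadraticForm F V} {T : Module.End F V}
    (hQT : ∀ v, Q (T v) = Q v) (hT : T ^ r = 1) {W : Submodule F V}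
    (hW : W ∈ Module.End.invtSubmodule T) (hND : ND (QuadraticMap.polarBilin Q) W)
    (hfix : W ⊓ fixS T = ⊥) (hne : W ≠ ⊥) :
    ∃ U : Submodule F V, U ≤ W ∧ U ∈ Module.End.invtSubmodule T ∧ ND (QuadraticMap.polarBilin Q) U ∧
      finrank F ↥U = cOf (orderOf ((Fintype.card F : ℕ) : ZMod r)) := by
  haveI : Finite V := Module.finite_of_finite F
  by_cases h2 : (2 : F) = 0
  · exact exists_block hr2 hrp (pB_isAlt_of_two h2 Q) (iso_of_Q hQT) hT hW hND hfix hne
  · exact exists_block_s h2 hr2 hrp (pB_symm' Q) (iso_of_Q hQT) hT hW hND hfix hne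

/-- **nondegenerate invariant subspaces of every dimension `c s`**, all characteristics. -/
theorem exists_nd_mul_q (hr2 : r ≠ 2) (hrp : r ≠ p) {Q : QuadraticForm F V} {T : Module.End F V}
    (hQT : ∀ v, Q (T v) = Q v) (hT : T ^ r = 1) :
    ∀ (s : ℕ) (W : Submodule F V), W ∈ Module.End.invtSubmodule T → ND (QuadraticMap.polarBilin Q) W →
      W ⊓ fixS T = ⊥ → cOf (orderOf ((Fintype.card F : ℕ) : ZMod r)) * s ≤ finrank F ↥W →
      ∃ U : Submodule F V, U ≤ W ∧ U ∈ Module.End.invtSubmodule T ∧ ND (QuadraticMap.polarBilin Q) U ∧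
        finrank F ↥U = cOf (orderOf ((Fintype.card F : ℕ) : ZMod r)) * s := by
  have hr : 0 < r := (Fact.out : r.Prime).pos
  have hrefl := pB_refl Q
  intro s
  induction s with
  | zero =>
    intro W hW hND hfix _
    exact ⟨⊥, bot_le, Module.End.invtSubmodule.bot_mem T, nd_bot _, by simp⟩
  | succ s ih =>
    intro W hW hND hfix hle
    have hcpos := cOf_pos (orderOf_q_pos (F := F) hrp)
    have hne : W ≠ ⊥ := by
      intro h
      rw [h, finrank_bot] at hle
      have : 0 < cOf (orderOf ((Fintype.card F : ℕ) : ZMod r)) * (s + 1) := Nat.mul_pos hcpos (by omega)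
      omega
    obtain ⟨U, hUW, hU, hUnd, hUd⟩ := exists_block_q hr2 hrp hQT hT hW hND hfix hne
    have h1 : LinearMap.BilinForm.orthogonal (QuadraticMap.polarBilin Q) U ⊓ W ∈ Module.End.invtSubmodule T :=
      inf_invt (perp_invt (iso_of_Q hQT) hr hT hU) hW
    have h2 : ND (QuadraticMap.polarBilin Q) (LinearMap.BilinForm.orthogonal (QuadraticMap.polarBilin Q) U ⊓ W) :=
      nd_perp_inf hrefl hUnd hND hUW
    have h3 := finrank_perp_inf hrefl hUnd hUW
    have hfix' : (LinearMap.BilinForm.orthogonal (QuadraticMap.polarBilin Q) U ⊓ W) ⊓ fixS T = ⊥ := by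
      rw [eq_bot_iff, ← hfix]
      exact inf_le_inf_right _ inf_le_right
    have hle' : cOf (orderOf ((Fintype.card F : ℕ) : ZMod r)) * s ≤
        finrank F ↥(LinearMap.BilinForm.orthogonal (QuadraticMap.polarBilin Q) U ⊓ W) := by
      rw [mul_add, mul_one] at hle
      omega
    obtain ⟨U', hU'le, hU', hU'nd, hU'd⟩ := ih _ h1 h2 hfix' hle'
    have hU'perp : U' ≤ LinearMap.BilinForm.orthogonal (QuadraticMap.polarBilin Q) U := hU'le.trans inf_le_left
    refine ⟨U ⊔ U', sup_le hUW (hU'le.trans inf_le_right), sup_invt hU hU',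
      nd_sup hrefl hUnd hU'nd hU'perp, ?_⟩
    rw [finrank_sup_of_le_perp hrefl hUnd hU'perp, hUd, hU'd]
    ring

theorem typ_sq (i S : ℕ) : typ i S * typ i S = 1 := by
  rcases typ_eq i S with h | h <;> rw [h] <;> norm_num

/-- the type of a multiple of the block size. -/
theorem typ_cOf_mul (i j : ℕ) (hi : 0 < i) : typ i (cOf i * j / i) = typ i j := by
  unfold cOf
  by_cases hev : Even i
  · rw [if_pos hev, Nat.mul_div_cancel_left _ hi]
  · rw [if_neg hev]
    have hodd : Odd i := Nat.not_even_iff_odd.mp hev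
    unfold typ
    rw [if_pos (Or.inl hodd), if_pos (Or.inl hodd)]

/-- **necessity**: the shape of an invariant nondegenerate subspace of even dimension. -/
theorem shape_of_invt (hr2 : r ≠ 2) (hrp : r ≠ p) {Q : QuadraticForm F V}
    (hV : ND (QuadraticMap.polarBilin Q) ⊤) {T : Module.End F V}
    (hQT : ∀ v, Q (T v) = Q v) (hT : T ^ r = 1) {W : Submodule F V}
    (hW : W ∈ Module.End.invtSubmodule T) (hWnd : ND (QuadraticMap.polarBilin Q) W)
    (hWe : Even (finrank F ↥W)) :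
    ∃ j a : ℕ, finrank F ↥W = cOf (orderOf ((Fintype.card F : ℕ) : ZMod r)) * j + 2 * a ∧
      cOf (orderOf ((Fintype.card F : ℕ) : ZMod r)) * j ≤ finrank F ↥(movS r T) ∧
      2 * a ≤ finrank F ↥(fixS T) ∧
      (a = 0 → sg Q W = typ (orderOf ((Fintype.card F : ℕ) : ZMod r)) j) ∧
      (2 * a = finrank F ↥(fixS T) →
        sg Q W * typ (orderOf ((Fintype.card F : ℕ) : ZMod r)) j = sg Q (fixS T)) := by
  have hrF : (r : F) ≠ 0 := natCast_ne_zero_of_ne hrp
  have hrefl := pB_refl Q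
  have hipos := orderOf_q_pos (F := F) hrp
  obtain ⟨i, hi⟩ : ∃ i, i = orderOf ((Fintype.card F : ℕ) : ZMod r) := ⟨_, rfl⟩
  rw [← hi] at hipos ⊢
  have hWf : ND (QuadraticMap.polarBilin Q) (W ⊓ fixS T) := nd_inf_fix hrefl (iso_of_Q hQT) hrF hT hW hWnd
  have hWm : ND (QuadraticMap.polarBilin Q) (W ⊓ movS r T) := nd_inf_mov hrefl (iso_of_Q hQT) hrF hT hW hWnd
  have hWminv : W ⊓ movS r T ∈ Module.End.invtSubmodule T := inf_invt hW (movS_invt r T)
  have hWmfix : (W ⊓ movS r T) ⊓ fixS T = ⊥ := by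
    rw [eq_bot_iff]
    intro x hx
    have := (disjoint_fix_mov hrF T).le_bot ⟨hx.2, hx.1.2⟩
    exact this
  obtain ⟨j, hj⟩ := cOf_dvd_finrank_q hr2 hrp hQT hT hWminv hWm hWmfix
  rw [← hi] at hj
  have hdec := finrank_invt_decomp hrF hT hW
  have hce : Even (cOf i) := cOf_even i
  have hfe : Even (finrank F ↥(W ⊓ fixS T)) := by
    have h1 : Even (cOf i * j) := hce.mul_right j
    rw [hdec, hj] at hWe
    exact (Nat.even_add.mp hWe).mpr h1
  obtain ⟨a, ha⟩ := hfe
  have hperp : W ⊓ movS r T ≤ LinearMap.BilinForm.orthogonal (QuadraticMap.polarBilin Q) (W ⊓ fixS T) := by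
    intro x hx
    rw [mem_perp]
    intro y hy
    exact fix_perp_mov (iso_of_Q hQT) hrF hy.2 hx.2
  have hsg : sg Q W = sg Q (W ⊓ fixS T) * sg Q (W ⊓ movS r T) := by
    have h := sg_sup hV hWf hWm hperp ⟨a, ha⟩ (by rw [hj]; exact hce.mul_right j)
    rw [← invt_decomp hrF hT hW] at h
    exact h
  have hsgm : sg Q (W ⊓ movS r T) = typ i j := by
    rw [sg_of_fpf hr2 hrp hV hQT hT hWminv hWm hWmfix, ← hi, hj, typ_cOf_mul i j hipos]
  refine ⟨j, a, by rw [hdec, hj, ha]; ring, ?_, ?_, ?_, ?_⟩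
  · rw [← hj]
    exact Submodule.finrank_mono inf_le_right
  · have := Submodule.finrank_mono (inf_le_right : W ⊓ fixS T ≤ fixS T)
    omega
  · intro ha0
    have : W ⊓ fixS T = ⊥ := Submodule.finrank_eq_zero.mp (by omega)
    rw [hsg, this, sg_bot, one_mul, hsgm]
  · intro hfull
    have : W ⊓ fixS T = fixS T :=
      Submodule.eq_of_le_of_finrank_eq inf_le_right (by omega)
    rw [hsg, this, hsgm, mul_assoc, typ_sq, mul_one]

/-- **sufficiency**: an invariant nondegenerate subspace of prescribed shape. -/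
theorem exists_invt_of_shape (hr2 : r ≠ 2) (hrp : r ≠ p) {Q : QuadraticForm F V}
    (hV : ND (QuadraticMap.polarBilin Q) ⊤) {T : Module.End F V}
    (hQT : ∀ v, Q (T v) = Q v) (hT : T ^ r = 1) (hfe : Even (finrank F ↥(fixS T)))
    {j a : ℕ} {δ : ℤ} (hδ : δ = 1 ∨ δ = -1)
    (hj : cOf (orderOf ((Fintype.card F : ℕ) : ZMod r)) * j ≤ finrank F ↥(movS r T))
    (ha : 2 * a ≤ finrank F ↥(fixS T))
    (h0 : a = 0 → δ = typ (orderOf ((Fintype.card F : ℕ) : ZMod r)) j)
    (hfull : 2 * a = finrank F ↥(fixS T) →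
      δ * typ (orderOf ((Fintype.card F : ℕ) : ZMod r)) j = sg Q (fixS T)) :
    ∃ W : Submodule F V, W ∈ Module.End.invtSubmodule T ∧ ND (QuadraticMap.polarBilin Q) W ∧
      finrank F ↥W = cOf (orderOf ((Fintype.card F : ℕ) : ZMod r)) * j + 2 * a ∧ sg Q W = δ := by
  have hrF : (r : F) ≠ 0 := natCast_ne_zero_of_ne hrp
  have hrefl := pB_refl Q
  have hipos := orderOf_q_pos (F := F) hrp
  obtain ⟨i, hi⟩ : ∃ i, i = orderOf ((Fintype.card F : ℕ) : ZMod r) := ⟨_, rfl⟩
  rw [← hi] at hipos hj h0 hfull ⊢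
  have hfixnd : ND (QuadraticMap.polarBilin Q) (fixS T) := by
    have := nd_inf_fix hrefl (iso_of_Q hQT) hrF hT (Module.End.invtSubmodule.top_mem T) hV
    rwa [top_inf_eq] at this
  have hmovnd : ND (QuadraticMap.polarBilin Q) (movS r T) := by
    have := nd_inf_mov hrefl (iso_of_Q hQT) hrF hT (Module.End.invtSubmodule.top_mem T) hV
    rwa [top_inf_eq] at this
  have hmovfix : movS r T ⊓ fixS T = ⊥ := by
    rw [inf_comm]
    exact (disjoint_fix_mov hrF T).eq_bot
  obtain ⟨U, hUle, hUinv, hUnd, hUd⟩ := exists_nd_mul_q hr2 hrp hQT hT j (movS r T) (movS_invt r T) hmovnd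
    hmovfix (by rw [← hi]; exact hj)
  rw [← hi] at hUd
  have hUfix : U ⊓ fixS T = ⊥ := by
    rw [eq_bot_iff, ← hmovfix]
    exact inf_le_inf_right _ hUle
  have hsgU : sg Q U = typ i j := by
    rw [sg_of_fpf hr2 hrp hV hQT hT hUinv hUnd hUfix, ← hi, hUd, typ_cOf_mul i j hipos]
  obtain ⟨kf, hkf⟩ := hfe
  have hkf' : finrank F ↥(fixS T) = 2 * kf := by omega
  obtain ⟨Wf, hWfle, hWfnd, hWfd, hWfy⟩ := exists_nd_sub_le hfixnd hkf' (a := a) (by omega)
    (δ * typ i j = 1)
    (fun h => by rw [h0 h, typ_sq])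
    (fun h => by
      rw [← sg_eq_one_iff, ← hfull (by omega)])
  have hWfinv : Wf ∈ Module.End.invtSubmodule T := by
    rw [Module.End.mem_invtSubmodule]
    intro x hx
    rw [Submodule.mem_comap, mem_fixS.mp (hWfle hx)]
    exact hx
  have hperp : U ≤ LinearMap.BilinForm.orthogonal (QuadraticMap.polarBilin Q) Wf := by
    intro x hx
    rw [mem_perp]
    intro y hy
    exact fix_perp_mov (iso_of_Q hQT) hrF (hWfle hy) (hUle hx)
  have hce : Even (cOf i) := cOf_even i
  have hsg := sg_sup hV hWfnd hUnd hperp (by rw [hWfd]; exact even_two_mul _)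
    (by rw [hUd]; exact hce.mul_right j)
  refine ⟨Wf ⊔ U, sup_invt hWfinv hUinv, nd_sup hrefl hWfnd hUnd hperp, ?_, ?_⟩
  · rw [finrank_sup_of_le_perp hrefl hWfnd hperp, hWfd, hUd]
    ring
  · rw [hsg, hsgU]
    have ht := typ_eq i j
    have key : ∀ (x t : ℤ), (x = 1 ∨ x = -1) → (t = 1 ∨ t = -1) →
        (x * t = 1 → t = x) ∧ (x * t ≠ 1 → -1 * t = x) := by
      rintro x t (rfl | rfl) (rfl | rfl) <;> norm_num
    by_cases hP : δ * typ i j = 1
    · rw [sg_eq_one_iff.mpr (hWfy.mpr hP), one_mul]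
      exact (key δ _ hδ ht).1 hP
    · rw [sg_eq_neg_one_iff.mpr (fun h => hP (hWfy.mp h))]
      exact (key δ _ hδ ht).2 hP

end Cfsg.Agent.Helper7.OpND
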