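import Mathlib
import Cfsg.Agent.Helper7.OpNDB

set_option autoImplicit false
set_option linter.unusedSectionVars false
set_option linter.unusedVariables false

/-!
# Elements of odd prime order `r ≠ p` of `Ω^±_{2d}(q)` and nondegenerate subspaces of given type:
the generic criterion
-/

namespace Cfsg.Agent.Helper7.OpND

open Matrix Module Polynomial Cfsg.Agent.Helper8.SpS Cfsg.Agent.Helper8.SpStab Cfsg.Agent.Helper7.POrd
  Cfsg.Agent.Helper7.SpOrd Cfsg.Agent.Helper7.SpTI Cfsg.Agent.Helper7.SpCP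
  Cfsg.Agent.Helper7.OrTS Cfsg.Agent.Helper7.QTy Cfsg.Agent.Helper7.QPa Cfsg.Agent.Helper7.QMi
  Cfsg.Agent.Helper7.OpTS Cfsg.Agent.Helper8.QuadForm Cfsg.Agent.Helper8.OrT Cfsg.Agent.Helper8.OrR
  Cfsg.Agent.Helper8.StdForms

universe u

/-- the shape `(j, a)` of a subspace fits the element with `s` blocks. -/
def Fits (i c n m : ℕ) (ε δ : ℤ) (s j a : ℕ) : Prop :=
  m = c * j + 2 * a ∧ j ≤ s ∧ 2 * a + c * s ≤ n ∧ (a = 0 → δ = typ i j) ∧
    (2 * a + c * s = n → δ * typ i j = ε * typ i s)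

/-- the combinatorial model: every admissible number of blocks admits a fitting shape. -/
def NDModel (i c n m : ℕ) (ε δ : ℤ) : Prop :=
  ∀ s, 1 ≤ s → c * s ≤ n → (c * s = n → ε = typ i s) → ∃ j a, Fits i c n m ε δ s j a

variable {F : Type u} [Field F] [Fintype F] {p : ℕ} [Fact p.Prime] [CharP F p] {r : ℕ} [Fact r.Prime]

theorem sg_eq_typ_iff {V : Type u} [AddCommGroup V] [Module F V] [FiniteDimensional F V]
    {Q : QuadraticForm F V} {W : Submodule F V} (i s : ℕ) :
    sg Q W = typ i s ↔ (Hyp Q W ↔ (Odd i ∨ Even s)) := by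
  unfold typ
  by_cases h : Odd i ∨ Even s
  · rw [if_pos h, sg_eq_one_iff]
    exact ⟨fun hy => iff_of_true hy h, fun hy => hy.mpr h⟩
  · rw [if_neg h, sg_eq_neg_one_iff]
    exact ⟨fun hy => iff_of_false hy h, fun hy hy' => h (hy.mp hy')⟩

/-- **an element of `Ω` with a prescribed number of blocks.** -/
theorem exists_elt_of_blocks {ι : Type} [Fintype ι] [DecidableEq ι] (Qs : QuadraticForm F (ι → F))
    (hQs : ND (QuadraticMap.polarBilin Qs) ⊤) {d : ℕ} (hd : 3 ≤ d) (hι : Fintype.card ι = 2 * d)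
    (hr2 : r ≠ 2) (hrp : r ≠ p) {s : ℕ} (hs1 : 1 ≤ s)
    (hsd : cOf (orderOf ((Fintype.card F : ℕ) : ZMod r)) * s ≤ 2 * d)
    (hval : cOf (orderOf ((Fintype.card F : ℕ) : ZMod r)) * s = 2 * d →
      sg Qs ⊤ = typ (orderOf ((Fintype.card F : ℕ) : ZMod r)) s) :
    ∃ x : GL ι F, x ∈ Cfsg.Geo.omegaGL ⇑Qs ∧ x ^ r = 1 ∧ x ≠ 1 ∧
      finrank F ↥(fixS (Matrix.toLin' (x : Matrix ι ι F) : Module.End F (ι → F))) +
        cOf (orderOf ((Fintype.card F : ℕ) : ZMod r)) * s = 2 * d := by
  classical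
  have hr : r.Prime := Fact.out
  have hrodd : Odd r := hr.odd_of_ne_two hr2
  have hcpos := cOf_pos (orderOf_q_pos (F := F) hrp)
  obtain ⟨i, hi⟩ : ∃ i, i = orderOf ((Fintype.card F : ℕ) : ZMod r) := ⟨_, rfl⟩
  rw [← hi] at hsd hval hcpos ⊢
  obtain ⟨h, hh⟩ := cOf_even i
  have hcOf : cOf (orderOf ((Fintype.card F : ℕ) : ZMod r)) = 2 * h := by rw [← hi]; omega
  have hh1 : 1 ≤ h := by omega
  obtain ⟨Q₀, T₀, h₀, hQT₀, hT₀r, hx₀fix⟩ := exists_quad_block hr2 hrp hcOf
  haveI : Nontrivial (Fin h ⊕ Fin h → F) := by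
    haveI : Nonempty (Fin h ⊕ Fin h) := ⟨Sum.inl ⟨0, by omega⟩⟩
    infer_instance
  have hdim₀ : finrank F (Fin h ⊕ Fin h → F) = cOf i := by
    rw [Module.finrank_fintype_fun_eq_card, Fintype.card_sum, Fintype.card_fin]
    omega
  have hsh : h * s ≤ d := by
    have : cOf i * s = 2 * (h * s) := by rw [hh]; ring
    omega
  obtain ⟨V₁, _, _, _, Q₁, h₁, hd₁, hy₁⟩ := exists_space_of_type (F := F) (d - h * s)
    (Hyp Qs ⊤ ↔ (Odd i ∨ Even s)) (fun h0 => by
      rw [← sg_eq_typ_iff]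
      apply hval
      have : cOf i * s = 2 * (h * s) := by rw [hh]; ring
      omega)
  obtain ⟨S, hS⟩ : ∃ S : Fin s → Module.End F (Fin h ⊕ Fin h → F), S = fun _ => T₀ := ⟨_, rfl⟩
  have hSQ : ∀ l v, Q₀ (S l v) = Q₀ v := fun l v => by rw [hS]; exact hQT₀ v
  have hSr : ∀ l, S l ^ r = 1 := fun l => by rw [hS]; exact hT₀r
  have hSfix : ∀ l, fixS (S l) = ⊥ := fun l => by rw [hS]; exact hx₀fix
  have hdimE : finrank F ((Fin s → (Fin h ⊕ Fin h → F)) × V₁) = 2 * d := by
    rw [Module.finrank_prod, Module.finrank_pi_fintype]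
    simp only [Finset.sum_const, Finset.card_univ, Fintype.card_fin, smul_eq_mul]
    rw [hdim₀, hd₁, hh]
    have : s * (h + h) = 2 * (h * s) := by ring
    omega
  have hQE := modelQ_nd (s := s) h₀ h₁
  have hφQ := modelQ_inv (s := s) Q₁ hSQ
  have hφr := modelMap_pow_eq_one (V₁ := V₁) hSr
  obtain ⟨s', hs'mov, hs'sum, hs'hyp⟩ := struct_q hr2 hrp hQE hφQ hφr (by rw [hdimE]; exact even_two_mul d)
  rw [finrank_fix_model hSfix, hdimE, ← hi] at hs'sum
  have hfixdim : finrank F V₁ + cOf i * s = 2 * d := by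
    rw [hd₁]
    have : cOf i * s = 2 * (h * s) := by rw [hh]; ring
    omega
  have hss : s' = s := by
    have h1 : cOf i * s' = cOf i * s := by omega
    exact Nat.eq_of_mul_eq_mul_left hcpos h1
  rw [hss, hyp_fix_model hSfix, ← hi] at hs'hyp
  have hs : Hyp (modelQ s Q₀ Q₁) ⊤ ↔ Hyp Qs ⊤ := by tauto
  obtain ⟨x, e, hxΩ, hxr, he1, he2⟩ := exists_omega_of_model Qs hQs hd hι hQE hdimE hs hφQ hrodd hφr
  refine ⟨x, hxΩ, hxr, ?_, ?_⟩
  · intro hx1
    apply modelMap_ne_one (V₁ := V₁) hs1 hSfix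
    apply LinearMap.ext
    intro v
    apply e.injective
    rw [← he2, hx1, Units.val_one, Matrix.toLin'_one, LinearMap.id_apply, Module.End.one_apply]
  · rw [fix_intertwine e he2, finrank_map_emb e.injective, finrank_fix_model hSfix]
    exact hfixdim

/-- **the criterion for odd `r ≠ p`**: every element of order `r` of `PΩ` fixes a nondegenerate `m`-space of
sign `δ` if and only if the combinatorial model holds. -/
theorem odd_case_iff_nd {ι : Type} [Fintype ι] [DecidableEq ι] (Qs : QuadraticForm F (ι → F))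
    (hQs : ND (QuadraticMap.polarBilin Qs) ⊤) {d : ℕ} (hd : 3 ≤ d) (hι : Fintype.card ι = 2 * d)
    (hr2 : r ≠ 2) (hrp : r ≠ p) {m : ℕ} (hme : Even m) {δ : ℤ} (hδ : δ = 1 ∨ δ = -1) :
    (∀ x : GL ι F, x ∈ Cfsg.Geo.omegaGL ⇑Qs →
      (∃ z : F, ((x ^ r : GL ι F) : Matrix ι ι F) = z • (1 : Matrix ι ι F)) →
      (∀ z : F, (x : Matrix ι ι F) ≠ z • (1 : Matrix ι ι F)) →
      ∃ W : Submodule F (ι → F), finrank F ↥W = m ∧ ND (QuadraticMap.polarBilin Qs) W ∧ sg Qs W = δ ∧
        W.map (Matrix.toLin' (x : Matrix ι ι F)) ≤ W) ↔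
    NDModel (orderOf ((Fintype.card F : ℕ) : ZMod r)) (cOf (orderOf ((Fintype.card F : ℕ) : ZMod r)))
      (2 * d) m (sg Qs ⊤) δ := by
  classical
  have hr : r.Prime := Fact.out
  have hrodd : Odd r := hr.odd_of_ne_two hr2
  have hrF : (r : F) ≠ 0 := natCast_ne_zero_of_ne hrp
  have hcpos := cOf_pos (orderOf_q_pos (F := F) hrp)
  haveI : Nonempty ι := by
    apply Fintype.card_pos_iff.mp
    omega
  have hdimV : finrank F (ι → F) = 2 * d := by rw [Module.finrank_fintype_fun_eq_card, hι]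
  obtain ⟨i₀⟩ := ‹Nonempty ι›
  -- the common analysis of an isometry of order `r`
  have key : ∀ T : Module.End F (ι → F), (∀ v, Qs (T v) = Qs v) → T ^ r = 1 →
      ∃ s : ℕ, finrank F ↥(movS r T) = cOf (orderOf ((Fintype.card F : ℕ) : ZMod r)) * s ∧
        finrank F ↥(fixS T) + cOf (orderOf ((Fintype.card F : ℕ) : ZMod r)) * s = 2 * d ∧
        sg Qs (fixS T) = sg Qs ⊤ * typ (orderOf ((Fintype.card F : ℕ) : ZMod r)) s := by
    intro T hQT hT
    obtain ⟨s, h1, h2, h3⟩ := struct_q hr2 hrp hQs hQT hT (by rw [hdimV]; exact even_two_mul d)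
    refine ⟨s, h1, by rw [h2, hdimV], ?_⟩
    have ht := typ_eq (orderOf ((Fintype.card F : ℕ) : ZMod r)) s
    by_cases hy : Hyp Qs ⊤
    · rw [sg_eq_one_iff.mpr hy, one_mul, sg_eq_typ_iff]
      exact ⟨fun h => (h3.mp h).mp hy, fun h => h3.mpr (iff_of_true hy h)⟩
    · rw [sg_eq_neg_one_iff.mpr hy]
      by_cases hc : Odd (orderOf ((Fintype.card F : ℕ) : ZMod r)) ∨ Even s
      · have h4 : ¬ Hyp Qs (fixS T) := fun h => hy ((h3.mp h).mpr hc)
        rw [sg_eq_neg_one_iff.mpr h4]
        unfold typ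
        rw [if_pos hc]
        norm_num
      · have h4 : Hyp Qs (fixS T) := h3.mpr (iff_of_false hy hc)
        rw [sg_eq_one_iff.mpr h4]
        unfold typ
        rw [if_neg hc]
        norm_num
  constructor
  · intro hall s hs1 hsd hval
    obtain ⟨x, hxΩ, hxr, hx1, hxfix⟩ := exists_elt_of_blocks Qs hQs hd hι hr2 hrp hs1 hsd hval
    have hxiso := iso_of_mem_omega hxΩ
    have hns : ∀ z : F, (x : Matrix ι ι F) ≠ z • (1 : Matrix ι ι F) := by
      intro z hz
      have hz1 : ((x ^ 1 : GL ι F) : Matrix ι ι F) = z • (1 : Matrix ι ι F) := by rw [pow_one]; exact hz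
      have hzr : z ^ r = 1 := by
        have h1 : ((x ^ r : GL ι F) : Matrix ι ι F) = 1 := by
          rw [hxr]; rfl
        rw [Units.val_pow_eq_pow_val, hz, _root_.smul_pow, one_pow] at h1
        have h2 := congrFun (congrFun h1 i₀) i₀
        rw [Matrix.smul_apply, Matrix.one_apply_eq, smul_eq_mul, mul_one] at h2
        exact h2
      have hz1' : z = 1 := by
        rcases scalar_pow_pm_one hQs hxiso hz1 with h | h
        · exact h
        · rw [h, hrodd.neg_one_pow] at hzr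
          rw [h, hzr]
      apply hx1
      apply Units.ext
      rw [hz, hz1', one_smul]
      rfl
    obtain ⟨W, hWd, hWnd, hWsg, hWinv⟩ := hall x hxΩ ⟨1, by rw [hxr, one_smul]; rfl⟩ hns
    have hQT := QT_of_mem_iso hxiso
    have hT : (Matrix.toLin' (x : Matrix ι ι F) : Module.End F (ι → F)) ^ r = 1 := by
      rw [toLin'_pow_gl, hxr, Units.val_one, Matrix.toLin'_one]
      rfl
    have hWinv' : W ∈ Module.End.invtSubmodule (Matrix.toLin' (x : Matrix ι ι F)) := by
      rw [Module.End.mem_invtSubmodule]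
      exact Submodule.map_le_iff_le_comap.mp hWinv
    obtain ⟨s', hs'1, hs'2, hs'3⟩ := key _ hQT hT
    have hss : s' = s := by
      have h1 : cOf (orderOf ((Fintype.card F : ℕ) : ZMod r)) * s' =
          cOf (orderOf ((Fintype.card F : ℕ) : ZMod r)) * s := by omega
      exact Nat.eq_of_mul_eq_mul_left hcpos h1
    rw [hss] at hs'1 hs'2 hs'3
    obtain ⟨j, a, h1, h2, h3, h4, h5⟩ := shape_of_invt hr2 hrp hQs hQT hT hWinv' hWnd (by rw [hWd]; exact hme)
    rw [hWd] at h1
    rw [hWsg] at h4 h5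
    refine ⟨j, a, h1, ?_, by omega, h4, ?_⟩
    · rw [hs'1] at h2
      exact Nat.le_of_mul_le_mul_left h2 hcpos
    · intro hfull
      rw [h5 (by omega), hs'3]
  · intro hmodel x hxΩ ⟨z, hz⟩ hxns
    have hxiso := iso_of_mem_omega hxΩ
    have hQT₀ := QT_of_mem_iso hxiso
    have hT₀ : (Matrix.toLin' (x : Matrix ι ι F) : Module.End F (ι → F)) ^ r =
        Matrix.toLin' (z • (1 : Matrix ι ι F)) := by
      rw [toLin'_pow_gl, hz]
    -- the common construction
    have build : ∀ T : Module.End F (ι → F), (∀ v, Qs (T v) = Qs v) → T ^ r = 1 → T ≠ 1 →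
        ∃ W : Submodule F (ι → F), W ∈ Module.End.invtSubmodule T ∧ finrank F ↥W = m ∧
          ND (QuadraticMap.polarBilin Qs) W ∧ sg Qs W = δ := by
      intro T hQT hT hT1
      obtain ⟨s, hs1, hs2, hs3⟩ := key T hQT hT
      have hspos : 1 ≤ s := by
        by_contra hs0
        have hs0' : s = 0 := by omega
        rw [hs0', mul_zero] at hs1
        have hmov : movS r T = ⊥ := Submodule.finrank_eq_zero.mp hs1
        have hfix : fixS T = ⊤ := by
          have := (isCompl_fix_mov hrF hT).sup_eq_top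
          rwa [hmov, sup_bot_eq] at this
        apply hT1
        apply LinearMap.ext
        intro v
        rw [Module.End.one_apply]
        exact mem_fixS.mp (by rw [hfix]; exact Submodule.mem_top)
      obtain ⟨j, a, h1, h2, h3, h4, h5⟩ := hmodel s hspos (by omega) (fun hfull => by
        have hf0 : fixS T = ⊥ := Submodule.finrank_eq_zero.mp (by omega)
        rw [hf0, sg_bot] at hs3
        have ht := typ_eq (orderOf ((Fintype.card F : ℕ) : ZMod r)) s
        rcases sg_cases Qs ⊤ with h | h <;> rcases ht with h' | h' <;> rw [h, h'] at hs3 ⊢ <;>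
          first | rfl | (norm_num at hs3))
      obtain ⟨W, hWinv, hWnd, hWd, hWsg⟩ := exists_invt_of_shape hr2 hrp hQs hQT hT
        (by
          have hce : Even (cOf (orderOf ((Fintype.card F : ℕ) : ZMod r)) * s) := (cOf_even _).mul_right s
          have h2d : Even (2 * d) := even_two_mul d
          rw [← hs2] at h2d
          exact (Nat.even_add.mp h2d).mpr hce)
        hδ (j := j) (a := a)
        (by rw [hs1]; exact Nat.mul_le_mul_left _ h2) (by omega) h4
        (fun hfull => by rw [h5 (by omega), hs3])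
      exact ⟨W, hWinv, by rw [hWd, h1], hWnd, hWsg⟩
    rcases scalar_pow_pm_one hQs hxiso hz with rfl | rfl
    · have hT : (Matrix.toLin' (x : Matrix ι ι F) : Module.End F (ι → F)) ^ r = 1 := by
        rw [hT₀, one_smul, Matrix.toLin'_one]
        rfl
      have hT1 : (Matrix.toLin' (x : Matrix ι ι F) : Module.End F (ι → F)) ≠ 1 := by
        intro h1
        apply hxns 1
        rw [one_smul]
        have := congrArg LinearMap.toMatrix' h1
        rwa [LinearMap.toMatrix'_toLin', LinearMap.toMatrix'_one] at this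
      obtain ⟨W, hWinv, hWd, hWnd, hWsg⟩ := build _ hQT₀ hT hT1
      exact ⟨W, hWd, hWnd, hWsg, map_le_of_invt hWinv⟩
    · have hT : (-(Matrix.toLin' (x : Matrix ι ι F) : Module.End F (ι → F))) ^ r = 1 := by
        rw [← neg_one_smul F (Matrix.toLin' (x : Matrix ι ι F) : Module.End F (ι → F)), _root_.smul_pow,
          hrodd.neg_one_pow, hT₀]
        apply LinearMap.ext
        intro v
        rw [LinearMap.smul_apply, Matrix.toLin'_apply, Matrix.smul_mulVec, Matrix.one_mulVec,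
          neg_one_smul, neg_one_smul, neg_neg, Module.End.one_apply]
      have hQT : ∀ v, Qs ((-(Matrix.toLin' (x : Matrix ι ι F) : Module.End F (ι → F))) v) = Qs v := by
        intro v
        rw [LinearMap.neg_apply, QuadraticMap.map_neg, hQT₀]
      have hT1 : (-(Matrix.toLin' (x : Matrix ι ι F) : Module.End F (ι → F))) ≠ 1 := by
        intro h1
        apply hxns (-1)
        have h2 : (Matrix.toLin' (x : Matrix ι ι F) : Module.End F (ι → F)) = -1 := by
          rw [← h1, neg_neg]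
        have := congrArg LinearMap.toMatrix' h2
        rw [LinearMap.toMatrix'_toLin'] at this
        rw [this, neg_one_smul]
        ext a b
        simp [LinearMap.toMatrix'_apply, Matrix.one_apply, Pi.single_apply]
      obtain ⟨W, hWinv, hWd, hWnd, hWsg⟩ := build _ hQT hT hT1
      exact ⟨W, hWd, hWnd, hWsg, map_le_of_invt (invt_of_neg_invt hWinv)⟩

end Cfsg.Agent.Helper7.OpND
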