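import Mathlib
import Cfsg.Agent.Helper7.OpNDC

set_option autoImplicit false
set_option linter.unusedSectionVars false
set_option linter.unusedVariables false

/-!
# The number of nondegenerate subspaces of given dimension and type: orbit and stabiliser
-/

namespace Cfsg.Agent.Helper7.OpND

open Matrix Module Polynomial Cfsg.Agent.Helper7.POrd Cfsg.Agent.Helper7.SpOrd Cfsg.Agent.Helper7.SpTI
  Cfsg.Agent.Helper7.OrTS Cfsg.Agent.Helper7.QTy Cfsg.Agent.Helper7.QPa Cfsg.Agent.Helper7.QMi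
  Cfsg.Agent.Helper7.OpTS Cfsg.Agent.Helper8.QuadForm Cfsg.Agent.Helper8.OrT Cfsg.Agent.Helper8.OrR
  Cfsg.Agent.Helper8.StdForms Cfsg.Agent.Helper8.OrthOrder

universe u

variable {F : Type u} [Field F] [Fintype F]

section action

variable {V : Type u} [AddCommGroup V] [Module F V] [FiniteDimensional F V]

/-- the action of the isometry group on subspaces. -/
@[reducible] def subAction (Q : QuadraticForm F V) : MulAction ↥(Isom Q) (Submodule F V) where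
  smul g W := W.map ((g.1 : V ≃ₗ[F] V) : V →ₗ[F] V)
  one_smul W := by
    show W.map (((1 : ↥(Isom Q)).1 : V ≃ₗ[F] V) : V →ₗ[F] V) = W
    ext x
    simp
  mul_smul g h W := by
    show W.map (((g * h : ↥(Isom Q)).1 : V ≃ₗ[F] V) : V →ₗ[F] V) =
      (W.map ((h.1 : V ≃ₗ[F] V) : V →ₗ[F] V)).map ((g.1 : V ≃ₗ[F] V) : V →ₗ[F] V)
    ext x
    simp only [Submodule.mem_map, LinearEquiv.coe_coe]
    constructor
    · rintro ⟨w, hw, rfl⟩
      exact ⟨h.1 w, ⟨w, hw, rfl⟩, rfl⟩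
    · rintro ⟨_, ⟨w, hw, rfl⟩, rfl⟩
      exact ⟨w, hw, rfl⟩

end action

section stab

variable {E₁ E₂ : Type u} [AddCommGroup E₁] [Module F E₁] [FiniteDimensional F E₁]
  [AddCommGroup E₂] [Module F E₂] [FiniteDimensional F E₂]
  (Q₁ : QuadraticForm F E₁) (Q₂ : QuadraticForm F E₂)

/-- the first summand. -/
def W0 (F : Type u) [Field F] (E₁ E₂ : Type u) [AddCommGroup E₁] [Module F E₁] [AddCommGroup E₂] [Module F E₂] :
    Submodule F (E₁ × E₂) :=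
  (⊤ : Submodule F E₁).map (LinearMap.inl F E₁ E₂)

theorem mem_W0 {x : E₁ × E₂} : x ∈ W0 F E₁ E₂ ↔ x.2 = 0 := by
  unfold W0
  constructor
  · rintro ⟨y, -, rfl⟩
    rfl
  · intro h
    refine ⟨x.1, Submodule.mem_top, ?_⟩
    ext <;> simp [h]

/-- the block diagonal isometry. -/
noncomputable def blockIso (h : ↥(Isom Q₁) × ↥(Isom Q₂)) : ↥(Isom (Q₁.prod Q₂)) :=
  ⟨LinearEquiv.prodCongr h.1.1 h.2.1, by
    intro v
    rw [LinearEquiv.prodCongr_apply, QuadraticMap.prod_apply, QuadraticMap.prod_apply]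
    simp only []
    rw [h.1.2 v.1, h.2.2 v.2]⟩

theorem blockIso_apply (h : ↥(Isom Q₁) × ↥(Isom Q₂)) (v : E₁ × E₂) :
    (blockIso Q₁ Q₂ h).1 v = (h.1.1 v.1, h.2.1 v.2) := rfl

theorem polar_isom {V : Type u} [AddCommGroup V] [Module F V] {Q : QuadraticForm F V} (g : ↥(Isom Q))
    (u v : V) : QuadraticMap.polar Q (g.1 u) (g.1 v) = QuadraticMap.polar Q u v := by
  unfold QuadraticMap.polar
  rw [← map_add, g.2, g.2, g.2]

theorem blockIso_stab (h : ↥(Isom Q₁) × ↥(Isom Q₂)) :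
    (W0 F E₁ E₂).map (((blockIso Q₁ Q₂ h).1 : (E₁ × E₂) ≃ₗ[F] (E₁ × E₂)) : (E₁ × E₂) →ₗ[F] (E₁ × E₂)) =
      W0 F E₁ E₂ := by
  ext x
  rw [Submodule.mem_map, mem_W0]
  constructor
  · rintro ⟨w, hw, rfl⟩
    rw [LinearEquiv.coe_coe, blockIso_apply, mem_W0.mp hw, map_zero]
  · intro hx
    refine ⟨(h.1.1.symm x.1, 0), mem_W0.mpr rfl, ?_⟩
    rw [LinearEquiv.coe_coe, blockIso_apply]
    ext
    · simp
    · simp [hx]

/-- **the stabiliser of the first summand consists of the block diagonal isometries.** -/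
theorem exists_block_of_stab (h₁ : ND (QuadraticMap.polarBilin Q₁) ⊤) (g : ↥(Isom (Q₁.prod Q₂)))
    (hg : (W0 F E₁ E₂).map ((g.1 : (E₁ × E₂) ≃ₗ[F] (E₁ × E₂)) : (E₁ × E₂) →ₗ[F] (E₁ × E₂)) = W0 F E₁ E₂) :
    ∃ h : ↥(Isom Q₁) × ↥(Isom Q₂), blockIso Q₁ Q₂ h = g := by
  have hg0 : ∀ x : E₁, (g.1 (x, 0)).2 = 0 := by
    intro x
    apply (mem_W0 (F := F)).mp
    rw [← hg]
    exact Submodule.mem_map_of_mem ((mem_W0 (F := F)).mpr rfl)
  have hsurj : ∀ x' : E₁, ∃ x : E₁, g.1 (x, 0) = (x', 0) := by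
    intro x'
    have : ((x', 0) : E₁ × E₂) ∈ (W0 F E₁ E₂).map
        ((g.1 : (E₁ × E₂) ≃ₗ[F] (E₁ × E₂)) : (E₁ × E₂) →ₗ[F] (E₁ × E₂)) := by
      rw [hg]
      exact mem_W0.mpr rfl
    obtain ⟨w, hw, hw'⟩ := this
    refine ⟨w.1, ?_⟩
    rw [← hw']
    have hw2 : ((w.1, 0) : E₁ × E₂) = w := Prod.ext rfl ((mem_W0 (F := F)).mp hw).symm
    rw [hw2]
    rfl
  have hg1 : ∀ y : E₂, (g.1 (0, y)).1 = 0 := by
    intro y
    by_contra hne
    obtain ⟨x', -, hx'⟩ := h₁ _ Submodule.mem_top hne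
    obtain ⟨x, hx⟩ := hsurj x'
    apply hx'
    have h2 := polar_isom g ((0, y) : E₁ × E₂) ((x, 0) : E₁ × E₂)
    rw [hx, QuadraticMap.polar_prod, QuadraticMap.polar_prod] at h2
    simp only [QuadraticMap.polar_zero_left, QuadraticMap.polar_zero_right, add_zero, zero_add] at h2
    rw [pB_apply]
    exact h2
  obtain ⟨l₁, hl₁⟩ : ∃ l₁ : E₁ →ₗ[F] E₁, l₁ = (LinearMap.fst F E₁ E₂) ∘ₗ
      ((g.1 : (E₁ × E₂) ≃ₗ[F] (E₁ × E₂)) : (E₁ × E₂) →ₗ[F] (E₁ × E₂)) ∘ₗ (LinearMap.inl F E₁ E₂) := ⟨_, rfl⟩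
  obtain ⟨l₂, hl₂⟩ : ∃ l₂ : E₂ →ₗ[F] E₂, l₂ = (LinearMap.snd F E₁ E₂) ∘ₗ
      ((g.1 : (E₁ × E₂) ≃ₗ[F] (E₁ × E₂)) : (E₁ × E₂) →ₗ[F] (E₁ × E₂)) ∘ₗ (LinearMap.inr F E₁ E₂) := ⟨_, rfl⟩
  have hl₁a : ∀ x, g.1 (x, 0) = (l₁ x, 0) := by
    intro x
    ext
    · rw [hl₁]
      rfl
    · exact hg0 x
  have hl₂a : ∀ y, g.1 (0, y) = (0, l₂ y) := by
    intro y
    ext
    · exact hg1 y
    · rw [hl₂]
      rfl
  have hgv : ∀ v : E₁ × E₂, g.1 v = (l₁ v.1, l₂ v.2) := by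
    intro v
    have : v = (v.1, 0) + (0, v.2) := by ext <;> simp
    rw [this, map_add, hl₁a, hl₂a]
    simp
  have hinj₁ : Function.Injective l₁ := by
    rw [← LinearMap.ker_eq_bot, LinearMap.ker_eq_bot']
    intro x hx
    have h2 := hl₁a x
    rw [hx] at h2
    have h3 : ((x, 0) : E₁ × E₂) = 0 := g.1.injective (by rw [h2, map_zero]; rfl)
    exact (Prod.ext_iff.mp h3).1
  have hinj₂ : Function.Injective l₂ := by
    rw [← LinearMap.ker_eq_bot, LinearMap.ker_eq_bot']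
    intro y hy
    have h2 := hl₂a y
    rw [hy] at h2
    have h3 : ((0, y) : E₁ × E₂) = 0 := g.1.injective (by rw [h2, map_zero]; rfl)
    exact (Prod.ext_iff.mp h3).2
  obtain ⟨k₁, hk₁⟩ : ∃ k₁ : E₁ ≃ₗ[F] E₁, ∀ x, k₁ x = l₁ x :=
    ⟨LinearEquiv.ofBijective l₁ ⟨hinj₁, LinearMap.injective_iff_surjective.mp hinj₁⟩, fun x => rfl⟩
  obtain ⟨k₂, hk₂⟩ : ∃ k₂ : E₂ ≃ₗ[F] E₂, ∀ y, k₂ y = l₂ y :=
    ⟨LinearEquiv.ofBijective l₂ ⟨hinj₂, LinearMap.injective_iff_surjective.mp hinj₂⟩, fun y => rfl⟩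
  have hk₁Q : k₁ ∈ Isom Q₁ := by
    intro x
    have h2 := g.2 (x, 0)
    rw [hl₁a, QuadraticMap.prod_apply, QuadraticMap.prod_apply] at h2
    simp only [map_zero, add_zero] at h2
    rw [hk₁]
    exact h2
  have hk₂Q : k₂ ∈ Isom Q₂ := by
    intro y
    have h2 := g.2 (0, y)
    rw [hl₂a, QuadraticMap.prod_apply, QuadraticMap.prod_apply] at h2
    simp only [map_zero, zero_add] at h2
    rw [hk₂]
    exact h2
  refine ⟨(⟨k₁, hk₁Q⟩, ⟨k₂, hk₂Q⟩), ?_⟩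
  apply Subtype.ext
  apply LinearEquiv.ext
  intro v
  rw [blockIso_apply, hgv]
  simp only []
  rw [hk₁, hk₂]

theorem blockIso_injective : Function.Injective (blockIso Q₁ Q₂) := by
  intro h h' hh
  have h2 : ∀ v, (blockIso Q₁ Q₂ h).1 v = (blockIso Q₁ Q₂ h').1 v := fun v => by rw [hh]
  apply Prod.ext
  · apply Subtype.ext
    apply LinearEquiv.ext
    intro x
    have := h2 (x, 0)
    rw [blockIso_apply, blockIso_apply] at this
    exact (Prod.ext_iff.mp this).1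
  · apply Subtype.ext
    apply LinearEquiv.ext
    intro y
    have := h2 (0, y)
    rw [blockIso_apply, blockIso_apply] at this
    exact (Prod.ext_iff.mp this).2

/-- the order of the stabiliser of the first summand. -/
theorem card_stabilizer (h₁ : ND (QuadraticMap.polarBilin Q₁) ⊤) :
    Nat.card {g : ↥(Isom (Q₁.prod Q₂)) // (W0 F E₁ E₂).map
      ((g.1 : (E₁ × E₂) ≃ₗ[F] (E₁ × E₂)) : (E₁ × E₂) →ₗ[F] (E₁ × E₂)) = W0 F E₁ E₂} =
      Nat.card ↥(Isom Q₁) * Nat.card ↥(Isom Q₂) := by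
  rw [← Nat.card_prod]
  symm
  apply Nat.card_congr
  refine Equiv.ofBijective (fun h => ⟨blockIso Q₁ Q₂ h, blockIso_stab Q₁ Q₂ h⟩) ⟨?_, ?_⟩
  · intro h h' hh
    exact blockIso_injective Q₁ Q₂ (Subtype.ext_iff.mp hh)
  · rintro ⟨g, hg⟩
    obtain ⟨h, hh⟩ := exists_block_of_stab Q₁ Q₂ h₁ g hg
    exact ⟨h, Subtype.ext hh⟩

end stab

section restrict

variable {V : Type u} [AddCommGroup V] [Module F V] [FiniteDimensional F V]

theorem nd_top_comp_subtype {Q : QuadraticForm F V} {E : Submodule F V}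
    (hE : ND (QuadraticMap.polarBilin Q) E) : ND (QuadraticMap.polarBilin (Q.comp E.subtype)) ⊤ := by
  intro u _ hu0
  obtain ⟨v, hv, huv⟩ := hE (u : V) u.2 (fun h => hu0 (Subtype.ext h))
  exact ⟨⟨v, hv⟩, Submodule.mem_top, huv⟩

theorem hyp_comp_subtype_iff {Q : QuadraticForm F V} (E : Submodule F V) :
    Hyp (Q.comp E.subtype) ⊤ ↔ Hyp Q E := by
  have hιQ : ∀ v, Q (E.subtype v) = (Q.comp E.subtype) v := fun v => rfl
  have hinj : Function.Injective E.subtype := E.injective_subtype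
  have hmapE : (⊤ : Submodule F ↥E).map E.subtype = E := by
    rw [Submodule.map_top, Submodule.range_subtype]
  constructor
  · intro h
    have := hyp_map_emb hinj hιQ h
    rwa [hmapE] at this
  · intro h
    rw [← hmapE] at h
    exact hyp_of_map_emb hinj hιQ h

end restrict

section orbit

variable {E₁ E₂ : Type u} [AddCommGroup E₁] [Module F E₁] [FiniteDimensional F E₁]
  [AddCommGroup E₂] [Module F E₂] [FiniteDimensional F E₂]
  (Q₁ : QuadraticForm F E₁) (Q₂ : QuadraticForm F E₂)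

/-- **transitivity**: the isometry group is transitive on the nondegenerate subspaces of given dimension and
type. -/
theorem exists_isom_map_W0 (h₁ : ND (QuadraticMap.polarBilin Q₁) ⊤) (h₂ : ND (QuadraticMap.polarBilin Q₂) ⊤)
    {a b : ℕ} (ha : 1 ≤ a) (hb : 1 ≤ b) (hd₁ : finrank F E₁ = 2 * a) (hd₂ : finrank F E₂ = 2 * b)
    {W : Submodule F (E₁ × E₂)} (hWnd : ND (QuadraticMap.polarBilin (Q₁.prod Q₂)) W)
    (hWd : finrank F ↥W = 2 * a) (hWy : Hyp (Q₁.prod Q₂) W ↔ Hyp Q₁ ⊤) :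
    ∃ g : ↥(Isom (Q₁.prod Q₂)), (W0 F E₁ E₂).map
      ((g.1 : (E₁ × E₂) ≃ₗ[F] (E₁ × E₂)) : (E₁ × E₂) →ₗ[F] (E₁ × E₂)) = W := by
  obtain ⟨hnd, hsg⟩ := prod_nd_sg Q₁ Q₂ h₁ h₂ (by rw [hd₁]; exact even_two_mul _)
    (by rw [hd₂]; exact even_two_mul _)
  have hrefl := pB_refl (Q₁.prod Q₂)
  have hdE : finrank F (E₁ × E₂) = 2 * a + 2 * b := by rw [Module.finrank_prod, hd₁, hd₂]
  obtain ⟨W', hW'⟩ : ∃ W' : Submodule F (E₁ × E₂),
      W' = LinearMap.BilinForm.orthogonal (QuadraticMap.polarBilin (Q₁.prod Q₂)) W ⊓ ⊤ := ⟨_, rfl⟩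
  have hW'nd : ND (QuadraticMap.polarBilin (Q₁.prod Q₂)) W' := by
    rw [hW']
    exact nd_perp_inf hrefl hWnd hnd le_top
  have hW'd : finrank F ↥W' = 2 * b := by
    have := finrank_perp_inf hrefl hWnd (le_top : W ≤ ⊤)
    rw [← hW', finrank_top, hdE, hWd] at this
    omega
  have hW'perp : W' ≤ LinearMap.BilinForm.orthogonal (QuadraticMap.polarBilin (Q₁.prod Q₂)) W := by
    rw [hW']
    exact inf_le_left
  have hsup : W ⊔ W' = ⊤ := by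
    apply Submodule.eq_top_of_finrank_eq
    rw [finrank_sup_of_le_perp hrefl hWnd hW'perp, hWd, hW'd, hdE]
  have hsgW' : sg (Q₁.prod Q₂) W' = sg Q₂ ⊤ := by
    have h := sg_sup hnd hWnd hW'nd hW'perp (by rw [hWd]; exact even_two_mul _)
      (by rw [hW'd]; exact even_two_mul _)
    rw [hsup, hsg, sg_congr hWy] at h
    rcases sg_cases Q₁ ⊤ with h' | h' <;> rw [h'] at h <;> linarith
  obtain ⟨φ₁, hφ₁⟩ := exists_iso_of_hyp_iff h₁ (nd_top_comp_subtype hWnd) ha hd₁ hWd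
    ((hyp_comp_subtype_iff W).trans hWy).symm
  obtain ⟨φ₂, hφ₂⟩ := exists_iso_of_hyp_iff h₂ (nd_top_comp_subtype hW'nd) hb hd₂ hW'd
    (by
      rw [hyp_comp_subtype_iff, ← sg_eq_one_iff, ← sg_eq_one_iff, hsgW'])
  obtain ⟨L, hL⟩ : ∃ L : (E₁ × E₂) →ₗ[F] (E₁ × E₂), L =
      (W.subtype ∘ₗ (φ₁ : E₁ →ₗ[F] ↥W)).coprod (W'.subtype ∘ₗ (φ₂ : E₂ →ₗ[F] ↥W')) := ⟨_, rfl⟩
  have hLv : ∀ v : E₁ × E₂, L v = (φ₁ v.1 : E₁ × E₂) + (φ₂ v.2 : E₁ × E₂) := by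
    intro v
    rw [hL]
    rfl
  have hLQ : ∀ v, (Q₁.prod Q₂) (L v) = (Q₁.prod Q₂) v := by
    intro v
    rw [hLv, QuadraticMap.map_add (Q₁.prod Q₂)]
    have hp : QuadraticMap.polar (Q₁.prod Q₂) (φ₁ v.1 : E₁ × E₂) (φ₂ v.2 : E₁ × E₂) = 0 :=
      mem_perp.mp (hW'perp (φ₂ v.2).2) _ (φ₁ v.1).2
    have e1 : (Q₁.prod Q₂) (φ₁ v.1 : E₁ × E₂) = Q₁ v.1 := hφ₁ v.1
    have e2 : (Q₁.prod Q₂) (φ₂ v.2 : E₁ × E₂) = Q₂ v.2 := hφ₂ v.2
    rw [hp, e1, e2, add_zero, QuadraticMap.prod_apply]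
  have hLinj : Function.Injective L := by
    rw [← LinearMap.ker_eq_bot, LinearMap.ker_eq_bot']
    intro v hv
    by_contra hv0
    obtain ⟨w, -, hw⟩ := hnd v Submodule.mem_top hv0
    apply hw
    rw [pB_apply]
    have : QuadraticMap.polar (Q₁.prod Q₂) (L v) (L w) = QuadraticMap.polar (Q₁.prod Q₂) v w := by
      unfold QuadraticMap.polar
      rw [← map_add, hLQ, hLQ, hLQ]
    rw [← this, hv, QuadraticMap.polar_zero_left]
  obtain ⟨g, hg⟩ : ∃ g : (E₁ × E₂) ≃ₗ[F] (E₁ × E₂), ∀ v, g v = L v :=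
    ⟨LinearEquiv.ofBijective L ⟨hLinj, LinearMap.injective_iff_surjective.mp hLinj⟩, fun v => rfl⟩
  have hgQ : g ∈ Isom (Q₁.prod Q₂) := fun v => by rw [hg, hLQ]
  refine ⟨⟨g, hgQ⟩, ?_⟩
  ext x
  rw [Submodule.mem_map]
  constructor
  · rintro ⟨w, hw, rfl⟩
    rw [LinearEquiv.coe_coe, hg, hLv, (mem_W0 (F := F)).mp hw, map_zero, ZeroMemClass.coe_zero, add_zero]
    exact (φ₁ w.1).2
  · intro hx
    refine ⟨(φ₁.symm ⟨x, hx⟩, 0), (mem_W0 (F := F)).mpr rfl, ?_⟩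
    rw [LinearEquiv.coe_coe, hg, hLv]
    simp

/-- **the number of nondegenerate subspaces of given dimension and type**, in a product. -/
theorem card_ndsub_prod (h₁ : ND (QuadraticMap.polarBilin Q₁) ⊤) (h₂ : ND (QuadraticMap.polarBilin Q₂) ⊤)
    {a b : ℕ} (ha : 1 ≤ a) (hb : 1 ≤ b) (hd₁ : finrank F E₁ = 2 * a) (hd₂ : finrank F E₂ = 2 * b) :
    Nat.card {W : Submodule F (E₁ × E₂) // ND (QuadraticMap.polarBilin (Q₁.prod Q₂)) W ∧
      finrank F ↥W = 2 * a ∧ (Hyp (Q₁.prod Q₂) W ↔ Hyp Q₁ ⊤)} *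
      (Nat.card ↥(Isom Q₁) * Nat.card ↥(Isom Q₂)) = Nat.card ↥(Isom (Q₁.prod Q₂)) := by
  classical
  let act : MulAction ↥(Isom (Q₁.prod Q₂)) (Submodule F (E₁ × E₂)) := subAction (Q₁.prod Q₂)
  have hsmul : ∀ (g : ↥(Isom (Q₁.prod Q₂))) (W : Submodule F (E₁ × E₂)),
      g • W = W.map ((g.1 : (E₁ × E₂) ≃ₗ[F] (E₁ × E₂)) : (E₁ × E₂) →ₗ[F] (E₁ × E₂)) := fun g W => rfl
  have h1 := Subgroup.card_eq_card_quotient_mul_card_subgroup
    (MulAction.stabilizer ↥(Isom (Q₁.prod Q₂)) (W0 F E₁ E₂))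
  have h2 : Nat.card (↥(Isom (Q₁.prod Q₂)) ⧸ MulAction.stabilizer ↥(Isom (Q₁.prod Q₂)) (W0 F E₁ E₂)) =
      Nat.card (MulAction.orbit ↥(Isom (Q₁.prod Q₂)) (W0 F E₁ E₂)) :=
    Nat.card_congr (MulAction.orbitEquivQuotientStabilizer _ _).symm
  rw [h1, h2]
  have hinjl : Function.Injective (LinearMap.inl F E₁ E₂) := LinearMap.inl_injective
  have hW0nd : ND (QuadraticMap.polarBilin (Q₁.prod Q₂)) (W0 F E₁ E₂) :=
    nd_map_emb (Q := Q₁.prod Q₂) (prod_inl Q₁ Q₂) h₁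
  have hW0d : finrank F ↥(W0 F E₁ E₂) = 2 * a := by
    unfold W0
    rw [finrank_map_emb hinjl, finrank_top, hd₁]
  have hW0y : Hyp (Q₁.prod Q₂) (W0 F E₁ E₂) ↔ Hyp Q₁ ⊤ :=
    ⟨hyp_of_map_emb hinjl (prod_inl Q₁ Q₂), hyp_map_emb hinjl (prod_inl Q₁ Q₂)⟩
  congr 1
  · apply Nat.card_congr
    apply Equiv.subtypeEquivRight
    intro W
    rw [MulAction.mem_orbit_iff]
    constructor
    · rintro ⟨hWnd, hWd, hWy⟩
      obtain ⟨g, hg⟩ := exists_isom_map_W0 Q₁ Q₂ h₁ h₂ ha hb hd₁ hd₂ hWnd hWd hWy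
      exact ⟨g, by rw [hsmul, hg]⟩
    · rintro ⟨g, rfl⟩
      rw [hsmul]
      refine ⟨nd_map_isom g.2 hW0nd, ?_, ?_⟩
      · rw [finrank_map_emb g.1.injective, hW0d]
      · rw [← hW0y]
        constructor
        · intro hy
          have h2 := hyp_map_isom (g := (g⁻¹).1) (g⁻¹).2 hy
          have h3 : ((W0 F E₁ E₂).map ((g.1 : (E₁ × E₂) ≃ₗ[F] (E₁ × E₂)) : (E₁ × E₂) →ₗ[F] (E₁ × E₂))).map
              (((g⁻¹).1 : (E₁ × E₂) ≃ₗ[F] (E₁ × E₂)) : (E₁ × E₂) →ₗ[F] (E₁ × E₂)) = W0 F E₁ E₂ := by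
            rw [← hsmul, ← hsmul, ← mul_smul, inv_mul_cancel, one_smul]
          rwa [h3] at h2
        · exact hyp_map_isom g.2
  · rw [← card_stabilizer Q₁ Q₂ h₁]
    apply Nat.card_congr
    apply Equiv.subtypeEquivRight
    intro g
    rw [MulAction.mem_stabilizer_iff, hsmul]

end orbit

end Cfsg.Agent.Helper7.OpND
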