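import Mathlib
import Cfsg.Agent.Helper7.OpNDD
import Cfsg.Agent.Helper8.OrthEven
import Cfsg.Agent.Helper8.OrthAniso

set_option autoImplicit false
set_option linter.unusedSectionVars false
set_option linter.unusedVariables false

/-!
# The number of nondegenerate subspaces of given dimension and type, and the primes dividing it
-/

namespace Cfsg.Agent.Helper7.OpND

open Matrix Module Polynomial Cfsg.Agent.Helper7.POrd Cfsg.Agent.Helper7.SpOrd Cfsg.Agent.Helper7.SpTI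
  Cfsg.Agent.Helper7.OrTS Cfsg.Agent.Helper7.QTy Cfsg.Agent.Helper7.QPa Cfsg.Agent.Helper7.QMi
  Cfsg.Agent.Helper7.OpTS Cfsg.Agent.Helper8.QuadForm Cfsg.Agent.Helper8.OrT Cfsg.Agent.Helper8.OrR
  Cfsg.Agent.Helper8.StdForms Cfsg.Agent.Helper8.OrthOrder

universe u

/-- the factor `q^e ∓ 1`. -/
def fO (q : ℕ) (s : ℤ) (e : ℕ) : ℕ := if s = 1 then q ^ e - 1 else q ^ e + 1

/-- the product of the `q^(2l) - 1`, `1 ≤ l ≤ k`. -/
def piO (q k : ℕ) : ℕ := ∏ i ∈ Finset.range k, (q ^ (2 * (i + 1)) - 1)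

/-- the order of the orthogonal group of sign `s` in dimension `2(k+1)`. -/
def gO (q : ℕ) (s : ℤ) (k : ℕ) : ℕ := 2 * q ^ ((k + 1) * k) * fO q s (k + 1) * piO q k

variable {F : Type u} [Field F] [Fintype F]

/-- **the order of the isometry group**, by sign. -/
theorem card_Isom_sg {E : Type u} [AddCommGroup E] [Module F E] [FiniteDimensional F E]
    (QE : QuadraticForm F E) (hE : ND (QuadraticMap.polarBilin QE) ⊤) {k : ℕ}
    (hd : finrank F E = 2 * (k + 1)) :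
    Nat.card ↥(Isom QE) = gO (Fintype.card F) (sg QE ⊤) k := by
  have hQ : (QuadraticMap.polarBilin QE).Nondegenerate := (nondeg_iff QE).mpr (nondeg_of_nd_top hE)
  have hnu := nuS_top hE hd
  unfold NuS lev at hnu
  have hq1 : (Fintype.card F : ℤ) ^ k ≤ (Fintype.card F : ℤ) ^ (k + 1) := by
    have : (1 : ℤ) ≤ (Fintype.card F : ℤ) := by exact_mod_cast Fintype.card_pos (α := F)
    exact pow_le_pow_right₀ this (by omega)
  unfold gO fO piO
  rcases sg_cases QE ⊤ with h | h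
  · rw [h] at hnu ⊢
    rw [if_pos rfl]
    apply Cfsg.Agent.Helper8.OrthEven.card_Isom_plus k QE hQ hd
    have : ((Nat.card {v : E // QE v = 0} + Fintype.card F ^ k : ℕ) : ℤ) =
        ((Fintype.card F ^ (2 * k + 1) + Fintype.card F ^ (k + 1) : ℕ) : ℤ) := by
      push_cast
      rw [hnu]
      ring
    exact_mod_cast this
  · rw [h] at hnu ⊢
    rw [if_neg (by norm_num)]
    apply Cfsg.Agent.Helper8.OrthAniso.card_Isom_minus k QE hQ hd
    have : ((Nat.card {v : E // QE v = 0} + Fintype.card F ^ (k + 1) : ℕ) : ℤ) =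
        ((Fintype.card F ^ (2 * k + 1) + Fintype.card F ^ k : ℕ) : ℤ) := by
      push_cast
      rw [hnu]
      ring
    exact_mod_cast this

section count

variable {V : Type u} [AddCommGroup V] [Module F V] [FiniteDimensional F V]

/-- **the number of nondegenerate subspaces of dimension `2a` and sign `δ`** in a space of dimension
`2(a+b)`, `a, b ≥ 1`. -/
theorem card_ndsub_mul {Q : QuadraticForm F V} (hV : ND (QuadraticMap.polarBilin Q) ⊤) {a b : ℕ}
    (ha : 1 ≤ a) (hb : 1 ≤ b) (hdim : finrank F V = 2 * (a + b)) {δ : ℤ} (hδ : δ = 1 ∨ δ = -1) :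
    Nat.card {W : Submodule F V // ND (QuadraticMap.polarBilin Q) W ∧ finrank F ↥W = 2 * a ∧ sg Q W = δ} *
      (gO (Fintype.card F) δ (a - 1) * gO (Fintype.card F) (sg Q ⊤ * δ) (b - 1)) =
      gO (Fintype.card F) (sg Q ⊤) (a + b - 1) := by
  obtain ⟨E₁, _, _, _, Q₁, h₁, hd₁, hy₁⟩ := exists_space_of_type (F := F) a (δ = 1) (fun h => by omega)
  obtain ⟨E₂, _, _, _, Q₂, h₂, hd₂, hy₂⟩ := exists_space_of_type (F := F) b (sg Q ⊤ * δ = 1)
    (fun h => by omega)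
  have hs₁ : sg Q₁ ⊤ = δ := by
    rcases hδ with h | h
    · rw [h]; exact sg_eq_one_iff.mpr (hy₁.mpr h)
    · rw [h]; exact sg_eq_neg_one_iff.mpr (fun hy => by have := hy₁.mp hy; rw [h] at this; norm_num at this)
  have hs₂ : sg Q₂ ⊤ = sg Q ⊤ * δ := by
    by_cases h : sg Q ⊤ * δ = 1
    · rw [h]; exact sg_eq_one_iff.mpr (hy₂.mpr h)
    · have key : ∀ x y : ℤ, (x = 1 ∨ x = -1) → (y = 1 ∨ y = -1) → x * y ≠ 1 → x * y = -1 := by
        rintro x y (rfl | rfl) (rfl | rfl) <;> norm_num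
      have h' : sg Q ⊤ * δ = -1 := key _ _ (sg_cases Q ⊤) hδ h
      rw [h']; exact sg_eq_neg_one_iff.mpr (fun hy => h (hy₂.mp hy))
  obtain ⟨hnd, hsg⟩ := prod_nd_sg Q₁ Q₂ h₁ h₂ (by rw [hd₁]; exact even_two_mul _)
    (by rw [hd₂]; exact even_two_mul _)
  have hsgE : sg (Q₁.prod Q₂) ⊤ = sg Q ⊤ := by
    rw [hsg, hs₁, hs₂]
    rcases hδ with h2 | h2 <;> rw [h2] <;> ring
  have hdE : finrank F (E₁ × E₂) = 2 * (a + b) := by
    rw [Module.finrank_prod, hd₁, hd₂]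
    ring
  obtain ⟨φ, hφ⟩ := exists_iso_of_hyp_iff hnd hV (d := a + b) (by omega) hdE hdim
    (by rw [← sg_eq_one_iff, ← sg_eq_one_iff, hsgE])
  have hcount := card_ndsub_prod Q₁ Q₂ h₁ h₂ ha hb hd₁ hd₂
  rw [card_Isom_sg Q₁ h₁ (k := a - 1) (by rw [hd₁]; omega),
    card_Isom_sg Q₂ h₂ (k := b - 1) (by rw [hd₂]; omega),
    card_Isom_sg (Q₁.prod Q₂) hnd (k := a + b - 1) (by rw [hdE]; omega), hs₁, hs₂, hsgE] at hcount
  obtain ⟨ι, hι⟩ : ∃ ι : (E₁ × E₂) →ₗ[F] V, ι = (φ : (E₁ × E₂) →ₗ[F] V) := ⟨_, rfl⟩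
  have hinj : Function.Injective ι := by rw [hι]; exact φ.injective
  have hιQ : ∀ v, Q (ι v) = (Q₁.prod Q₂) v := fun v => by rw [hι]; exact hφ v
  rw [← hcount]
  congr 1
  apply Nat.card_congr
  symm
  refine Equiv.subtypeEquiv (Submodule.orderIsoMapComap φ).toEquiv (fun W => ?_)
  have hmap : (Submodule.orderIsoMapComap φ).toEquiv W = W.map ι := by
    rw [hι]
    rfl
  rw [hmap, finrank_map_emb hinj, sg_map_emb hinj hιQ, ← hs₁]
  constructor
  · rintro ⟨h1, h2, h3⟩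
    refine ⟨nd_map_emb hιQ h1, h2, ?_⟩
    exact sg_congr h3
  · rintro ⟨h1, h2, h3⟩
    refine ⟨?_, h2, ?_⟩
    · intro u hu hu0
      obtain ⟨v', ⟨v, hv, rfl⟩, huv⟩ := h1 (ι u) (Submodule.mem_map_of_mem hu)
        (fun h => hu0 (hinj (by rw [h, map_zero])))
      refine ⟨v, hv, ?_⟩
      rw [pB_apply] at huv ⊢
      rwa [polar_emb hιQ] at huv
    · rw [← sg_eq_one_iff, ← sg_eq_one_iff, h3]

end count

end Cfsg.Agent.Helper7.OpND
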