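import Mathlib
import Cfsg.Agent.Helper7.SpCPD
import Cfsg.Agent.Helper7.SpCPA

set_option autoImplicit false
set_option linter.unusedSectionVars false

/-! A symplectic matrix of prime order whose fixed space is too small stabilises no complementary
pair of totally isotropic subspaces (helper7). -/

namespace Cfsg.Agent.Helper7.SpCP

open Matrix Module Cfsg Cfsg.Agent.Helper8.SpS Cfsg.Agent.Helper8.SpStab Cfsg.Agent.Helper7.Symp

variable {F : Type*} [Field F]

/-- counting the fixed points of a matrix of prime order on an invariant subspace. -/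
theorem card_modEq_fix [Fintype F] {ι : Type*} [Fintype ι] [DecidableEq ι] (r : ℕ) [Fact r.Prime]
    (M : Matrix ι ι F) (hM : M ^ r = 1) (U : Submodule F (ι → F)) (hU : ∀ u ∈ U, M *ᵥ u ∈ U) :
    Fintype.card F ^ finrank F U ≡ Fintype.card F ^ finrank F ↥(U ⊓ fixS M) [MOD r] := by
  classical
  letI : Fintype U := Fintype.ofFinite U
  let f : Function.End U := fun u => ⟨M *ᵥ (u : ι → F), hU u u.2⟩
  have hpow : ∀ (k : ℕ) (u : U), (((f ^ k) u : U) : ι → F) = (M ^ k) *ᵥ (u : ι → F) := by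
    intro k
    induction k with
    | zero => intro u; simp [Function.End.one_def]
    | succ k ih =>
      intro u
      have e : (f ^ (k + 1)) u = (f ^ k) (f u) := by rw [pow_succ]; rfl
      rw [e, ih, pow_succ, ← Matrix.mulVec_mulVec]
  have hf : f ^ r ^ 1 = 1 := by
    funext u
    apply Subtype.ext
    rw [pow_one, hpow, hM, Matrix.one_mulVec]
    rfl
  have h1 := Equiv.Perm.card_fixedPoints_modEq (p := r) (n := 1) hf
  have h2 : Fintype.card (Function.fixedPoints f) = Fintype.card F ^ finrank F ↥(U ⊓ fixS M) := by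
    have e : Function.fixedPoints f ≃ ↥(U ⊓ fixS M) :=
      { toFun := fun u => ⟨(u.1 : ι → F), u.1.2, by
          have h3 : f u.1 = u.1 := u.2
          exact congrArg Subtype.val h3⟩
        invFun := fun v => ⟨⟨v.1, v.2.1⟩, by
          show f ⟨v.1, v.2.1⟩ = ⟨v.1, v.2.1⟩
          apply Subtype.ext
          exact v.2.2⟩
        left_inv := fun u => rfl
        right_inv := fun v => rfl }
    rw [← Nat.card_eq_fintype_card, Nat.card_congr e, Module.natCard_eq_pow_finrank (K := F),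
      Nat.card_eq_fintype_card]
  have h3 : Fintype.card U = Fintype.card F ^ finrank F U := by
    have := Module.natCard_eq_pow_finrank (K := F) (V := U)
    rw [Nat.card_eq_fintype_card, Nat.card_eq_fintype_card] at this
    exact this
  rw [h2, h3] at h1
  exact h1

/-- the order of `q` modulo `r` divides the codimension of the fixed space. -/
theorem pow_sub_eq_one {q r a c : ℕ} [Fact r.Prime] (hrq : ¬ r ∣ q) (hca : c ≤ a)
    (h : q ^ a ≡ q ^ c [MOD r]) : (q : ZMod r) ^ (a - c) = 1 := by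
  have h1 : ((q ^ a : ℕ) : ZMod r) = ((q ^ c : ℕ) : ZMod r) :=
    (ZMod.natCast_eq_natCast_iff _ _ _).mpr h
  push_cast at h1
  have hq0 : (q : ZMod r) ≠ 0 := by
    intro h0
    exact hrq ((ZMod.natCast_eq_zero_iff q r).mp h0)
  have h2 : (q : ZMod r) ^ c * (q : ZMod r) ^ (a - c) = (q : ZMod r) ^ c * 1 := by
    rw [← pow_add, Nat.add_sub_cancel' hca, mul_one, h1]
  exact mul_left_cancel₀ (pow_ne_zero c hq0) h2

variable {d : ℕ}

/-- the fixed space splits along an invariant complementary pair. -/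
theorem finrank_fixS_split (M : Matrix (Fin d ⊕ Fin d) (Fin d ⊕ Fin d) F)
    (U W : Submodule F (Fin d ⊕ Fin d → F)) (hc : IsCompl U W) (hU : ∀ u ∈ U, M *ᵥ u ∈ U)
    (hW : ∀ w ∈ W, M *ᵥ w ∈ W) :
    finrank F (fixS M) = finrank F ↥(U ⊓ fixS M) + finrank F ↥(W ⊓ fixS M) := by
  have hsup : (U ⊓ fixS M) ⊔ (W ⊓ fixS M) = fixS M := by
    apply le_antisymm
    · exact sup_le inf_le_right inf_le_right
    · intro v hv
      have hvd : v ∈ U ⊔ W := by rw [hc.sup_eq_top]; trivial
      obtain ⟨u, hu, w, hw, rfl⟩ := Submodule.mem_sup.mp hvd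
      have h1 : M *ᵥ u + M *ᵥ w = u + w := by
        rw [← mulVec_add]; exact hv
      have h2 : M *ᵥ u - u = w - M *ᵥ w := by linear_combination h1
      have h3 : M *ᵥ u - u ∈ U ⊓ W := ⟨U.sub_mem (hU u hu) hu, by
        rw [h2]; exact W.sub_mem hw (hW w hw)⟩
      rw [hc.inf_eq_bot, Submodule.mem_bot] at h3
      have h4 : M *ᵥ u = u := sub_eq_zero.mp h3
      have h5 : M *ᵥ w = w := by
        have : w - M *ᵥ w = 0 := by rw [← h2, h3]
        exact (sub_eq_zero.mp this).symm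
      exact Submodule.add_mem_sup ⟨hu, h4⟩ ⟨hw, h5⟩
  have hinf : (U ⊓ fixS M) ⊓ (W ⊓ fixS M) = ⊥ := by
    rw [eq_bot_iff, ← hc.inf_eq_bot]
    exact inf_le_inf inf_le_left inf_le_left
  have h := Submodule.finrank_sup_add_finrank_inf_eq (U ⊓ fixS M) (W ⊓ fixS M)
  rw [hsup, hinf, finrank_bot, add_zero] at h
  exact h

/-- a symplectic matrix fixing one member of a pair pointwise, and stabilising the other, is the
identity. -/
theorem eq_one_of_fix_half (x : symplecticGroup (Fin d) F)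
    (U W : Submodule F (Fin d ⊕ Fin d → F)) (hc : IsCompl U W)
    (hUti : ∀ u ∈ U, ∀ v ∈ U, sympForm d F u v = 0)
    (hU : ∀ u ∈ U, (x : Matrix (Fin d ⊕ Fin d) (Fin d ⊕ Fin d) F) *ᵥ u ∈ U)
    (hW : ∀ w ∈ W, (x : Matrix (Fin d ⊕ Fin d) (Fin d ⊕ Fin d) F) *ᵥ w = w) : x = 1 := by
  have hfixU : ∀ u ∈ U, (x : Matrix (Fin d ⊕ Fin d) (Fin d ⊕ Fin d) F) *ᵥ u = u := by
    intro u hu
    by_contra hne
    have hz0 : (x : Matrix (Fin d ⊕ Fin d) (Fin d ⊕ Fin d) F) *ᵥ u - u ≠ 0 := sub_ne_zero.mpr hne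
    obtain ⟨y, hy⟩ := exists_sympForm_ne_zero hz0
    apply hy
    have hyd : y ∈ U ⊔ W := by rw [hc.sup_eq_top]; trivial
    obtain ⟨a, ha, b, hb, rfl⟩ := Submodule.mem_sup.mp hyd
    have h1 : sympForm d F ((x : Matrix (Fin d ⊕ Fin d) (Fin d ⊕ Fin d) F) *ᵥ u - u) a = 0 :=
      hUti _ (U.sub_mem (hU u hu) hu) _ ha
    have h2 : sympForm d F ((x : Matrix (Fin d ⊕ Fin d) (Fin d ⊕ Fin d) F) *ᵥ u - u) b = 0 := by
      rw [sympForm_sub_left]
      conv_lhs => rw [← hW b hb]
      rw [sympForm_mulVec, hW b hb, sub_self]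
    rw [sympForm_add_right, h1, h2, add_zero]
  apply Subtype.ext
  show (x : Matrix (Fin d ⊕ Fin d) (Fin d ⊕ Fin d) F) = 1
  apply Matrix.toLin'.injective
  apply LinearMap.ext
  intro v
  have hvd : v ∈ U ⊔ W := by rw [hc.sup_eq_top]; trivial
  obtain ⟨a, ha, b, hb, rfl⟩ := Submodule.mem_sup.mp hvd
  rw [Matrix.toLin'_apply, Matrix.toLin'_one, LinearMap.id_apply, mulVec_add, hfixU a ha, hW b hb]

end Cfsg.Agent.Helper7.SpCP
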