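import Mathlib
import Cfsg.Agent.Helper7.SpCPB
import Cfsg.Agent.Helper7.SpCPF
import Cfsg.Agent.Helper8.SpOrder

set_option autoImplicit false
set_option linter.unusedSectionVars false

/-! The number of complementary pairs of totally isotropic subspaces, arithmetically; the order of
`q` modulo `r`; and the absence of invariant pairs (helper7). -/

namespace Cfsg.Agent.Helper7.SpCP

open Matrix Module Cfsg Cfsg.Agent.Helper8.SpS Cfsg.Agent.Helper8.SpStab Cfsg.Agent.Helper7.Symp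

section arith

theorem prod_gl (q d : ℕ) (hq : 1 ≤ q) :
    ∏ i : Fin d, (q ^ d - q ^ (i : ℕ)) =
      (∏ i ∈ Finset.range d, q ^ i) * ∏ i ∈ Finset.range d, (q ^ (i + 1) - 1) := by
  rw [Fin.prod_univ_eq_prod_range (fun i => q ^ d - q ^ i) d,
    ← Finset.prod_range_reflect (fun j => q ^ (j + 1) - 1) d, ← Finset.prod_mul_distrib]
  apply Finset.prod_congr rfl
  intro i hi
  rw [Finset.mem_range] at hi
  have e : d - 1 - i + 1 = d - i := by omega
  rw [e, Nat.mul_sub, mul_one, ← pow_add, Nat.add_sub_cancel' hi.le]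

theorem prod_sp (q d : ℕ) (hq : 1 ≤ q) :
    ∏ i ∈ Finset.range d, (q ^ (2 * (i + 1)) - 1) =
      (∏ i ∈ Finset.range d, (q ^ (i + 1) - 1)) * ∏ i ∈ Finset.range d, (q ^ (i + 1) + 1) := by
  rw [← Finset.prod_mul_distrib]
  apply Finset.prod_congr rfl
  intro i _
  have h1 : 1 ≤ q ^ (i + 1) := Nat.one_le_pow _ _ hq
  have h2 : 1 ≤ q ^ (2 * (i + 1)) := Nat.one_le_pow _ _ hq
  zify [h1, h2]
  ring

end arith

variable {F : Type*} [Field F] [Fintype F] {d : ℕ}

/-- the number of pairs, arithmetically. -/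
theorem card_pairs_rel :
    Nat.card (Pairs d F) * ∏ i ∈ Finset.range d, Fintype.card F ^ i =
      Fintype.card F ^ (d ^ 2) * ∏ i ∈ Finset.range d, (Fintype.card F ^ (i + 1) + 1) := by
  have hq : 2 ≤ Fintype.card F := Fintype.one_lt_card
  have h1 := card_pairs_mul (F := F) (d := d)
  rw [Cfsg.Agent.Helper8.SpOrder.card_symp, prod_gl _ _ (by omega), prod_sp _ _ (by omega)] at h1
  have hA : 0 < ∏ i ∈ Finset.range d, (Fintype.card F ^ (i + 1) - 1) := by
    apply Finset.prod_pos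
    intro i _
    have : 2 ≤ Fintype.card F ^ (i + 1) := by
      calc 2 ≤ Fintype.card F := hq
        _ = Fintype.card F ^ 1 := (pow_one _).symm
        _ ≤ Fintype.card F ^ (i + 1) := Nat.pow_le_pow_right (by omega) (by omega)
    omega
  apply Nat.eq_of_mul_eq_mul_right hA
  rw [mul_assoc, h1]
  ring

/-- a prime `r ≠ p` dividing the number of pairs divides some `q^i + 1`. -/
theorem exists_i (p : ℕ) [Fact p.Prime] [CharP F p] (r : ℕ) [Fact r.Prime] (hrp : r ≠ p)
    (hΩ : r ∣ Nat.card (Pairs d F)) : ∃ i, 1 ≤ i ∧ i ≤ d ∧ r ∣ Fintype.card F ^ i + 1 := by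
  have hr : r.Prime := Fact.out
  have h1 : r ∣ Fintype.card F ^ (d ^ 2) * ∏ i ∈ Finset.range d, (Fintype.card F ^ (i + 1) + 1) := by
    rw [← card_pairs_rel]
    exact Dvd.dvd.mul_right hΩ _
  rcases (Nat.Prime.dvd_mul hr).mp h1 with h2 | h2
  · exfalso
    have h3 := hr.dvd_of_dvd_pow h2
    obtain ⟨n, _, hn⟩ := FiniteField.card F p
    rw [hn] at h3
    have h4 := hr.dvd_of_dvd_pow h3
    exact hrp ((Nat.prime_dvd_prime_iff_eq hr (Fact.out : p.Prime)).mp h4)
  · obtain ⟨i, hi, hdvd⟩ := (Prime.dvd_finsetProd_iff hr.prime _).mp h2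
    rw [Finset.mem_range] at hi
    exact ⟨i + 1, by omega, by omega, hdvd⟩

/-- the number of pairs is even when `q` is odd. -/
theorem even_card_pairs (hd : 1 ≤ d) (hodd : Odd (Fintype.card F)) : 2 ∣ Nat.card (Pairs d F) := by
  have h1 : 2 ∣ Nat.card (Pairs d F) * ∏ i ∈ Finset.range d, Fintype.card F ^ i := by
    rw [card_pairs_rel]
    apply Dvd.dvd.mul_left
    have h0 : 0 ∈ Finset.range d := Finset.mem_range.mpr (by omega)
    apply Dvd.dvd.trans _ (Finset.dvd_prod_of_mem _ h0)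
    rw [zero_add, pow_one]
    exact (Odd.add_one hodd).two_dvd
  have h2 : Odd (∏ i ∈ Finset.range d, Fintype.card F ^ i) := by
    apply Finset.prod_induction _ (fun n => Odd n) (fun a b ha hb => Odd.mul ha hb) odd_one
    intro i _
    exact Odd.pow hodd
  exact (Nat.Coprime.dvd_of_dvd_mul_right (Nat.coprime_two_left.mpr h2) h1)

/-- the order of `q` modulo `r`, for the least `i` with `r ∣ q^i + 1`. -/
theorem order_lemma (q r i : ℕ) [Fact r.Prime] (hr2 : r ≠ 2) (hi : 1 ≤ i) (hri : r ∣ q ^ i + 1)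
    (hmin : ∀ j, 1 ≤ j → j < i → ¬ r ∣ q ^ j + 1) :
    ∀ m, (q : ZMod r) ^ m = 1 → 2 * i ∣ m := by
  have hr : r.Prime := Fact.out
  have hneg : (-1 : ZMod r) ≠ 1 := by
    intro h
    have h2 : ((2 : ℕ) : ZMod r) = 0 := by
      push_cast
      linear_combination -h
    have h3 := (ZMod.natCast_eq_zero_iff 2 r).mp h2
    exact hr2 ((Nat.prime_dvd_prime_iff_eq hr Nat.prime_two).mp h3)
  have dvd_iff : ∀ j, r ∣ q ^ j + 1 ↔ (q : ZMod r) ^ j = -1 := by
    intro j
    rw [← ZMod.natCast_eq_zero_iff]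
    push_cast
    constructor
    · intro h; linear_combination h
    · intro h; linear_combination h
  have hai : (q : ZMod r) ^ i = -1 := (dvd_iff i).mp hri
  have h2i : (q : ZMod r) ^ (2 * i) = 1 := by
    rw [mul_comm, pow_mul, hai]
    ring
  obtain ⟨e, he⟩ : ∃ e, e = orderOf (q : ZMod r) := ⟨_, rfl⟩
  have he2i : e ∣ 2 * i := by rw [he]; exact orderOf_dvd_of_pow_eq_one h2i
  have hei : ¬ e ∣ i := by
    intro h
    obtain ⟨c, hc⟩ := h
    have : (q : ZMod r) ^ i = 1 := by rw [hc, he, pow_mul, pow_orderOf_eq_one, one_pow]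
    rw [hai] at this
    exact hneg this
  have heven : Even e := by
    by_contra hodd
    rw [Nat.not_even_iff_odd] at hodd
    have hcop : Nat.Coprime e 2 := Nat.coprime_two_right.mpr hodd
    exact hei (hcop.dvd_of_dvd_mul_left he2i)
  obtain ⟨e', he'⟩ := heven
  have he'' : e = 2 * e' := by omega
  have he'pos : 1 ≤ e' := by
    rcases Nat.eq_zero_or_pos e' with h | h
    · exfalso
      rw [h] at he''
      rw [he'', Nat.zero_dvd] at he2i
      omega
    · exact h
  have hsq : ((q : ZMod r) ^ e') ^ 2 = 1 := by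
    rw [← pow_mul, mul_comm, ← he'', he, pow_orderOf_eq_one]
  have hcase : (q : ZMod r) ^ e' = 1 ∨ (q : ZMod r) ^ e' = -1 := by
    have : ((q : ZMod r) ^ e' - 1) * ((q : ZMod r) ^ e' + 1) = 0 := by linear_combination hsq
    rcases mul_eq_zero.mp this with h | h
    · left; linear_combination h
    · right; linear_combination h
  have he'i : e' ∣ i := by
    rw [he''] at he2i
    exact (Nat.mul_dvd_mul_iff_left (by omega)).mp he2i
  have he'le : e' ≤ i := Nat.le_of_dvd (by omega) he'i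
  have hee : e' = i := by
    rcases hcase with h | h
    · exfalso
      have h1 := orderOf_dvd_of_pow_eq_one h
      rw [← he, he''] at h1
      have := Nat.le_of_dvd (by omega) h1
      omega
    · by_contra hne
      exact hmin e' he'pos (lt_of_le_of_ne he'le hne) ((dvd_iff e').mpr h)
  intro m hm
  have := orderOf_dvd_of_pow_eq_one hm
  rw [← he, he'', hee] at this
  exact this

/-- **no invariant pair.** -/
theorem no_pair (r : ℕ) [Fact r.Prime] (hr2 : r ≠ 2) (i : ℕ) (hi : 1 ≤ i) (hid : i ≤ d)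
    (x : symplecticGroup (Fin d) F) (hx : x ^ r = 1) (hx1 : x ≠ 1)
    (hfix : finrank F (fixS (x : Matrix (Fin d ⊕ Fin d) (Fin d ⊕ Fin d) F)) = 2 * (d - i))
    (hrq : ¬ r ∣ Fintype.card F)
    (hord : ∀ m, ((Fintype.card F : ℕ) : ZMod r) ^ m = 1 → 2 * i ∣ m) :
    ¬ ∃ U W : Submodule F (Fin d ⊕ Fin d → F), IsCompl U W ∧
      (∀ u ∈ U, ∀ v ∈ U, sympForm d F u v = 0) ∧ (∀ u ∈ W, ∀ v ∈ W, sympForm d F u v = 0) ∧
      ((U.map (Matrix.toLin' (x : Matrix (Fin d ⊕ Fin d) (Fin d ⊕ Fin d) F)) = U ∧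
          W.map (Matrix.toLin' (x : Matrix (Fin d ⊕ Fin d) (Fin d ⊕ Fin d) F)) = W) ∨
        (U.map (Matrix.toLin' (x : Matrix (Fin d ⊕ Fin d) (Fin d ⊕ Fin d) F)) = W ∧
          W.map (Matrix.toLin' (x : Matrix (Fin d ⊕ Fin d) (Fin d ⊕ Fin d) F)) = U)) := by
  rintro ⟨U, W, hc, hUti, hWti, h⟩
  have hr : r.Prime := Fact.out
  obtain ⟨M, hMdef⟩ : ∃ M, M = (x : Matrix (Fin d ⊕ Fin d) (Fin d ⊕ Fin d) F) := ⟨_, rfl⟩
  rw [← hMdef] at h hfix
  have hM : M ^ r = 1 := by
    have := congrArg Subtype.val hx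
    rw [SubmonoidClass.coe_pow] at this
    rw [hMdef]
    exact this
  have hmapmem : ∀ (A B : Submodule F (Fin d ⊕ Fin d → F)), A.map (Matrix.toLin' M) = B →
      ∀ a ∈ A, M *ᵥ a ∈ B := by
    intro A B hAB a ha
    rw [← hAB]
    exact ⟨a, ha, Matrix.toLin'_apply _ _⟩
  have hinj : Function.Injective M.mulVec := by
    rw [hMdef]; exact mulVec_injective_of_symp x
  -- reduce to the case where both are stabilised
  have hboth : (∀ u ∈ U, M *ᵥ u ∈ U) ∧ (∀ w ∈ W, M *ᵥ w ∈ W) := by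
    rcases h with ⟨h1, h2⟩ | ⟨h1, h2⟩
    · exact ⟨hmapmem U U h1, hmapmem W W h2⟩
    · exfalso
      have hUW := hmapmem U W h1
      have hWU := hmapmem W U h2
      obtain ⟨n, hn⟩ : ∃ n, r + 1 = 2 * n := by
        have hodd : Odd r := hr.odd_of_ne_two hr2
        obtain ⟨k, hk⟩ := hodd
        exact ⟨k + 1, by omega⟩
      have hpowU : ∀ (A B : Submodule F (Fin d ⊕ Fin d → F)), (∀ a ∈ A, M *ᵥ a ∈ B) →
          (∀ b ∈ B, M *ᵥ b ∈ A) → ∀ k : ℕ, ∀ a ∈ A, (M ^ (2 * k)) *ᵥ a ∈ A := by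
        intro A B hAB hBA k
        induction k with
        | zero => intro a ha; simpa using ha
        | succ k ih =>
          intro a ha
          have e : M ^ (2 * (k + 1)) = M ^ (2 * k) * (M * M) := by
            rw [mul_add, pow_add, mul_one, pow_two]
          rw [e, ← mulVec_mulVec, ← mulVec_mulVec]
          exact ih _ (hBA _ (hAB a ha))
      have hMr1 : M ^ (2 * n) = M := by rw [← hn, pow_succ, hM, one_mul]
      have hzero : ∀ (A B : Submodule F (Fin d ⊕ Fin d → F)), A ⊓ B = ⊥ → (∀ a ∈ A, M *ᵥ a ∈ B) →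
          (∀ b ∈ B, M *ᵥ b ∈ A) → ∀ a ∈ A, a = 0 := by
        intro A B hAB0 hAB hBA a ha
        have h3 := hpowU A B hAB hBA n a ha
        rw [hMr1] at h3
        have h4 : M *ᵥ a ∈ A ⊓ B := ⟨h3, hAB a ha⟩
        rw [hAB0, Submodule.mem_bot] at h4
        apply hinj
        show M *ᵥ a = M *ᵥ 0
        rw [h4, mulVec_zero]
      have hU0 := hzero U W hc.inf_eq_bot hUW hWU
      have hW0 := hzero W U (by rw [inf_comm]; exact hc.inf_eq_bot) hWU hUW
      have hv : (Pi.single (Sum.inl ⟨0, by omega⟩) 1 : Fin d ⊕ Fin d → F) ∈ U ⊔ W := by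
        rw [hc.sup_eq_top]; trivial
      obtain ⟨a, ha, b, hb, hab⟩ := Submodule.mem_sup.mp hv
      rw [hU0 a ha, hW0 b hb, add_zero] at hab
      have := congrFun hab (Sum.inl ⟨0, by omega⟩)
      simp at this
  obtain ⟨hUinv, hWinv⟩ := hboth
  -- dimensions
  have hfr := finrank_pair (⟨(U, W), hc, hUti, hWti⟩ : Pairs d F)
  have hfU : finrank F U = d := hfr.1
  have hfW : finrank F W = d := hfr.2
  have hcU : finrank F ↥(U ⊓ fixS M) ≤ d :=
    le_trans (Submodule.finrank_mono inf_le_left) (le_of_eq hfU)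
  have hcW : finrank F ↥(W ⊓ fixS M) ≤ d :=
    le_trans (Submodule.finrank_mono inf_le_left) (le_of_eq hfW)
  have hsplit := finrank_fixS_split M U W hc hUinv hWinv
  rw [hfix] at hsplit
  have h1 := card_modEq_fix r M hM U hUinv
  have h2 := card_modEq_fix r M hM W hWinv
  rw [hfU] at h1
  rw [hfW] at h2
  obtain ⟨k, hk⟩ := hord _ (pow_sub_eq_one hrq hcU h1)
  obtain ⟨k', hk'⟩ := hord _ (pow_sub_eq_one hrq hcW h2)
  have hsum : 2 * i * (k + k') = 2 * i * 1 := by
    rw [mul_add, ← hk, ← hk']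
    omega
  have hkk : k + k' = 1 := Nat.eq_of_mul_eq_mul_left (by omega) hsum
  have hfull : ∀ (A : Submodule F (Fin d ⊕ Fin d → F)), finrank F A = d →
      d - finrank F ↥(A ⊓ fixS M) = 0 → finrank F ↥(A ⊓ fixS M) ≤ d → ∀ a ∈ A, M *ᵥ a = a := by
    intro A hA h0 hle a ha
    have heq : A ⊓ fixS M = A := by
      apply Submodule.eq_of_le_of_finrank_eq inf_le_left
      omega
    have : a ∈ A ⊓ fixS M := by rw [heq]; exact ha
    exact this.2
  rcases Nat.eq_zero_or_pos k with hk0 | hkpos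
  · -- `U` is fixed pointwise
    rw [hk0, mul_zero] at hk
    have hUfix := hfull U hfU hk hcU
    apply hx1
    refine eq_one_of_fix_half x W U hc.symm hWti ?_ ?_
    · rw [← hMdef]; exact hWinv
    · rw [← hMdef]; exact hUfix
  · have hk'0 : k' = 0 := by omega
    rw [hk'0, mul_zero] at hk'
    have hWfix := hfull W hfW hk' hcW
    apply hx1
    refine eq_one_of_fix_half x U W hc hUti ?_ ?_
    · rw [← hMdef]; exact hUinv
    · rw [← hMdef]; exact hWfix

end Cfsg.Agent.Helper7.SpCP
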