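import Mathlib
import Cfsg.Agent.Helper7.SLSpA
import Cfsg.Agent.Helper7.SpCPG
import Cfsg.Agent.Helper7.LinearCard
import Cfsg.Agent.Helper8.SpOrder

set_option autoImplicit false
set_option linter.unusedSectionVars false

/-! The primes dividing the index of the symplectic similarity group in `SL_n(F)` (helper7). -/

namespace Cfsg.Agent.Helper7.SLSp

open Matrix Module Cfsg Cfsg.Geo

theorem prod_split_parity (q k : ℕ) :
    ∏ i ∈ Finset.range (2 * k), (q ^ (i + 1) - 1) =
      (∏ i ∈ Finset.range k, (q ^ (2 * i + 1) - 1)) * ∏ i ∈ Finset.range k, (q ^ (2 * (i + 1)) - 1) := by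
  induction k with
  | zero => simp
  | succ k ih =>
    rw [show 2 * (k + 1) = 2 * k + 1 + 1 by ring, Finset.prod_range_succ, Finset.prod_range_succ, ih,
      Finset.prod_range_succ, Finset.prod_range_succ]
    rw [show 2 * k + 1 + 1 = 2 * (k + 1) by ring]
    ring

theorem prod_pow_range (q k : ℕ) :
    ∏ i ∈ Finset.range (2 * k), q ^ i = q ^ (k ^ 2) * q ^ (k * (k - 1)) := by
  rw [Finset.prod_pow_eq_pow_sum, ← pow_add]
  congr 1
  have h1 := Finset.sum_range_id_mul_two (2 * k)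
  have h2 : (∑ i ∈ Finset.range (2 * k), i) = k * (2 * k - 1) := by
    have : k * (2 * k - 1) * 2 = 2 * k * (2 * k - 1) := by ring
    omega
  rw [h2]
  rcases k with _ | k
  · simp
  · have e1 : 2 * (k + 1) - 1 = 2 * k + 1 := by omega
    have e2 : k + 1 - 1 = k := by omega
    rw [e1, e2]
    ring

/-- the order of `SL_{2k}` as a multiple of the order of `Sp_{2k}`. -/
theorem card_SL_eq {F : Type*} [Field F] [Fintype F] (k : ℕ) (hk : 1 ≤ k) :
    Nat.card (SpecialLinearGroup (Fin (2 * k)) F) =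
      Nat.card (symplecticGroup (Fin k) F) *
        (Fintype.card F ^ (k * (k - 1)) *
          ∏ i ∈ Finset.range (k - 1), (Fintype.card F ^ (2 * i + 3) - 1)) := by
  haveI : Nonempty (Fin (2 * k)) := ⟨⟨0, by omega⟩⟩
  have hq : 2 ≤ Fintype.card F := Fintype.one_lt_card
  have h1 := Cfsg.Agent.Helper7.card_units_mul_card_SL (n := Fin (2 * k)) (F := F)
  rw [Matrix.card_GL_field, Cfsg.Agent.Helper7.SpCP.prod_gl _ _ (by omega), prod_split_parity,
    prod_pow_range] at h1
  obtain ⟨k', rfl⟩ : ∃ k', k = k' + 1 := ⟨k - 1, by omega⟩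
  rw [Finset.prod_range_succ' (fun i => Fintype.card F ^ (2 * i + 1) - 1)] at h1
  have h0 : Fintype.card F ^ (2 * 0 + 1) - 1 = Fintype.card F - 1 := by simp
  rw [h0] at h1
  have h2 : 0 < Fintype.card F - 1 := by omega
  apply Nat.eq_of_mul_eq_mul_left h2
  rw [h1, Cfsg.Agent.Helper8.SpOrder.card_symp]
  have e : k' + 1 - 1 = k' := by omega
  rw [e]
  have e3 : ∀ i, 2 * (i + 1) + 1 = 2 * i + 3 := fun i => by ring
  simp only [e3]
  ring

/-- the primes dividing the index. -/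
theorem cases_of_dvd_index {F : Type*} [Field F] [Fintype F] {p : ℕ} [Fact p.Prime] [CharP F p]
    {n : ℕ} (hn : 1 ≤ n) {f : (Fin n → F) → (Fin n → F) → F} (hf : IsSymplecticForm f)
    (r : ℕ) [hr : Fact r.Prime] (hΩ : r ∣ (simSL f).index) :
    r = p ∨ ∃ j, Odd j ∧ 3 ≤ j ∧ j ≤ n - 1 ∧ r ∣ Fintype.card F ^ j - 1 := by
  obtain ⟨k, rfl, t, ht⟩ := card_symp_dvd hf
  have hk : 1 ≤ k := by omega
  have h1 := Subgroup.card_mul_index (simSL f)
  rw [card_SL_eq k hk, ht] at h1
  have hpos : 0 < Nat.card (symplecticGroup (Fin k) F) := Nat.card_pos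
  rw [mul_assoc] at h1
  have h2 := Nat.eq_of_mul_eq_mul_left hpos h1
  have h3 : r ∣ Fintype.card F ^ (k * (k - 1)) *
      ∏ i ∈ Finset.range (k - 1), (Fintype.card F ^ (2 * i + 3) - 1) := by
    rw [← h2]
    exact Dvd.dvd.mul_left hΩ t
  rcases (Nat.Prime.dvd_mul hr.out).mp h3 with h4 | h4
  · left
    have h5 := hr.out.dvd_of_dvd_pow h4
    obtain ⟨a, hp, ha⟩ := FiniteField.card F p
    rw [ha] at h5
    have h6 := hr.out.dvd_of_dvd_pow h5
    exact (Nat.prime_dvd_prime_iff_eq hr.out hp).mp h6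
  · right
    rw [Prime.dvd_finsetProd_iff (Nat.Prime.prime hr.out)] at h4
    obtain ⟨i, hi, hd⟩ := h4
    rw [Finset.mem_range] at hi
    refine ⟨2 * i + 3, ⟨i + 1, by ring⟩, by omega, by omega, hd⟩

end Cfsg.Agent.Helper7.SLSp
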