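import Mathlib

set_option autoImplicit false

namespace Cfsg.Agent.Helper7.SL25

open Matrix

/-- Matrices over the field with five elements. -/
abbrev M2 := Matrix (Fin 2) (Fin 2) (ZMod 5)
/-- The special linear group over the field with five elements. -/
abbrev G := Matrix.SpecialLinearGroup (Fin 2) (ZMod 5)

/-- The elements of a subgroup of order 24 (the binary tetrahedral group). -/
def L : List M2 := [!![0, 1; 4, 0], !![0, 2; 2, 0], !![0, 3; 3, 0], !![0, 4; 1, 0], !![1, 0; 0, 1], !![1, 1; 2, 3], !![1, 2; 1, 3], !![1, 3; 4, 3], !![1, 4; 3, 3], !![2, 0; 0, 3], !![2, 1; 2, 4], !![2, 2; 1, 4], !![2, 3; 4, 4], !![2, 4; 3, 4], !![3, 0; 0, 2], !![3, 1; 2, 1], !![3, 2; 1, 1], !![3, 3; 4, 1], !![3, 4; 3, 1], !![4, 0; 0, 4], !![4, 1; 2, 2], !![4, 2; 1, 2], !![4, 3; 4, 2], !![4, 4; 3, 2]]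

/-- Explicit adjugate. -/
def adj (A : M2) : M2 := !![A 1 1, -A 0 1; -A 1 0, A 0 0]

theorem adj_eq (A : M2) : A.adjugate = adj A := Matrix.adjugate_fin_two A

set_option maxRecDepth 1000000 in
theorem L_mul : ∀ A ∈ L, ∀ B ∈ L, A * B ∈ L := by
  decide +kernel

set_option maxRecDepth 1000000 in
theorem L_adj : ∀ A ∈ L, adj A ∈ L := by
  decide +kernel

set_option maxRecDepth 1000000 in
theorem L_det : ∀ A ∈ L, A 0 0 * A 1 1 - A 0 1 * A 1 0 = 1 := by
  decide +kernel

theorem L_one : (1 : M2) ∈ L := by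
  decide +kernel

set_option maxRecDepth 1000000 in
theorem L_card : L.toFinset.card = 24 := by
  decide +kernel

/-- The first conjugating element. -/
def g1 : M2 := !![0, 1; 4, 1]
/-- The second conjugating element. -/
def g2 : M2 := !![0, 1; 4, 2]

set_option maxRecDepth 1000000 in
theorem core_aux : ∀ A ∈ L, (g1 * A * adj g1 ∈ L ∧ g2 * A * adj g2 ∈ L) → A = 1 ∨ A = -1 := by
  decide +kernel

theorem scalar_mem : ∀ r : ZMod 5, r ^ 2 = 1 → Matrix.scalar (Fin 2) r ∈ L := by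
  decide +kernel

end Cfsg.Agent.Helper7.SL25
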