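import Mathlib
import Cfsg.Prelude.Def_Classical
import Cfsg.Prelude.Def_ClassicalGeometry

set_option autoImplicit false
set_option linter.unusedSectionVars false

/-!
Transfer of isometry groups along a ring isomorphism of the coefficient fields.
-/

namespace Cfsg.Agent.Helper7.IsomTransfer

open Matrix Cfsg

variable {ι : Type} [Fintype ι] [DecidableEq ι] {F K : Type*} [Field F] [Field K]

/-- The isomorphism of general linear groups induced by a ring isomorphism. -/
def glEquiv (φ : F ≃+* K) : Matrix.GeneralLinearGroup ι F ≃* Matrix.GeneralLinearGroup ι K :=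
  Units.mapEquiv (RingEquiv.mapMatrix φ (m := ι)).toMulEquiv

theorem glEquiv_coe (φ : F ≃+* K) (g : Matrix.GeneralLinearGroup ι F) :
    ((glEquiv φ g : Matrix.GeneralLinearGroup ι K) : Matrix ι ι K) = (g : Matrix ι ι F).map φ := rfl

theorem map_mulVec_comp (φ : F ≃+* K) (M : Matrix ι ι F) (v : ι → F) :
    (M.map φ) *ᵥ (φ ∘ v) = φ ∘ (M *ᵥ v) := by
  funext i
  simp only [Matrix.mulVec, dotProduct, Matrix.map_apply, Function.comp_apply, map_sum, map_mul]

theorem mem_iff (φ : F ≃+* K) (QF : (ι → F) → F) (QK : (ι → K) → K)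
    (hnat : ∀ v : ι → F, QK (φ ∘ v) = φ (QF v)) (g : Matrix.GeneralLinearGroup ι F) :
    g ∈ isometryGroup F QF ↔ glEquiv φ g ∈ isometryGroup K QK := by
  constructor
  · intro h u v
    show QK (((glEquiv φ g : Matrix.GeneralLinearGroup ι K) : Matrix ι ι K) *ᵥ u) = QK u
    have hu : u = φ ∘ (φ.symm ∘ u) := by funext i; simp
    rw [glEquiv_coe, hu, map_mulVec_comp, hnat, hnat]
    exact congrArg φ (h _ (φ.symm ∘ u))
  · intro h u v
    have h1 := h (φ ∘ u) (φ ∘ u)
    change QK (((glEquiv φ g : Matrix.GeneralLinearGroup ι K) : Matrix ι ι K) *ᵥ (φ ∘ u)) =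
      QK (φ ∘ u) at h1
    rw [glEquiv_coe, map_mulVec_comp, hnat, hnat] at h1
    exact φ.injective h1

/-- Isometry groups of a form that is natural in the field correspond under a ring isomorphism. -/
theorem isometryGroup_equiv (φ : F ≃+* K) (QF : (ι → F) → F) (QK : (ι → K) → K)
    (hnat : ∀ v : ι → F, QK (φ ∘ v) = φ (QF v)) :
    Nonempty (↥(isometryGroup F QF) ≃* ↥(isometryGroup K QK)) := by
  have hmap : (isometryGroup F QF).map (glEquiv φ).toMonoidHom = isometryGroup K QK := by
    ext g
    constructor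
    · rintro ⟨x, hx, rfl⟩
      exact (mem_iff φ QF QK hnat x).mp hx
    · intro hg
      refine ⟨(glEquiv φ).symm g, ?_, by simp⟩
      show (glEquiv φ).symm g ∈ isometryGroup F QF
      rw [mem_iff φ QF QK hnat]
      simpa using hg
  exact ⟨((glEquiv φ).subgroupMap (isometryGroup F QF)).trans (MulEquiv.subgroupCongr hmap)⟩

theorem map_isometryGroup (φ : F ≃+* K) (QF : (ι → F) → F) (QK : (ι → K) → K)
    (hnat : ∀ v : ι → F, QK (φ ∘ v) = φ (QF v)) :
    (isometryGroup F QF).map (glEquiv φ).toMonoidHom = isometryGroup K QK := by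
  ext g
  constructor
  · rintro ⟨x, hx, rfl⟩
    exact (mem_iff φ QF QK hnat x).mp hx
  · intro hg
    refine ⟨(glEquiv φ).symm g, ?_, by simp⟩
    show (glEquiv φ).symm g ∈ isometryGroup F QF
    rw [mem_iff φ QF QK hnat]
    simpa using hg

/-- The explicit isomorphism of isometry groups induced by a ring isomorphism. -/
noncomputable def isoEquiv (φ : F ≃+* K) (QF : (ι → F) → F) (QK : (ι → K) → K)
    (hnat : ∀ v : ι → F, QK (φ ∘ v) = φ (QF v)) :
    ↥(isometryGroup F QF) ≃* ↥(isometryGroup K QK) :=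
  ((glEquiv φ).subgroupMap (isometryGroup F QF)).trans
    (MulEquiv.subgroupCongr (map_isometryGroup φ QF QK hnat))

theorem isoEquiv_coe (φ : F ≃+* K) (QF : (ι → F) → F) (QK : (ι → K) → K)
    (hnat : ∀ v : ι → F, QK (φ ∘ v) = φ (QF v)) (g : ↥(isometryGroup F QF)) :
    ((isoEquiv φ QF QK hnat g : ↥(isometryGroup K QK)) : Matrix.GeneralLinearGroup ι K) =
      glEquiv φ g.1 := rfl

theorem det_glEquiv (φ : F ≃+* K) (g : Matrix.GeneralLinearGroup ι F) :
    ((glEquiv φ g : Matrix.GeneralLinearGroup ι K) : Matrix ι ι K).det = φ ((g : Matrix ι ι F).det) := by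
  rw [glEquiv_coe]
  exact (RingHom.map_det (φ : F →+* K) _).symm

theorem mem_special_iff {F : Type*} [Field F] (Q : (ι → F) → F) (g : ↥(isometryGroup F Q)) :
    g ∈ specialIsometryGroup F Q ↔ ((g : Matrix.GeneralLinearGroup ι F) : Matrix ι ι F).det = 1 := by
  unfold specialIsometryGroup
  rw [MonoidHom.mem_ker, MonoidHom.comp_apply, Subgroup.coe_subtype, Units.ext_iff]
  rfl

/-- Special isometry groups of a form that is natural in the field correspond under a ring
isomorphism. -/
theorem special_equiv (φ : F ≃+* K) (QF : (ι → F) → F) (QK : (ι → K) → K)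
    (hnat : ∀ v : ι → F, QK (φ ∘ v) = φ (QF v)) :
    Nonempty (↥(specialIsometryGroup F QF) ≃* ↥(specialIsometryGroup K QK)) := by
  have hmap : (specialIsometryGroup F QF).map (isoEquiv φ QF QK hnat).toMonoidHom =
      specialIsometryGroup K QK := by
    ext g
    constructor
    · rintro ⟨x, hx, rfl⟩
      rw [SetLike.mem_coe, mem_special_iff] at hx
      show isoEquiv φ QF QK hnat x ∈ specialIsometryGroup K QK
      rw [mem_special_iff, isoEquiv_coe, det_glEquiv, hx, map_one]
    · intro hg
      refine ⟨(isoEquiv φ QF QK hnat).symm g, ?_, by simp⟩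
      show (isoEquiv φ QF QK hnat).symm g ∈ specialIsometryGroup F QF
      rw [mem_special_iff] at hg ⊢
      have h1 := det_glEquiv φ ((isoEquiv φ QF QK hnat).symm g).1
      rw [← isoEquiv_coe φ QF QK hnat, MulEquiv.apply_symm_apply, hg] at h1
      apply φ.injective
      rw [← h1, map_one]
  exact ⟨((isoEquiv φ QF QK hnat).subgroupMap (specialIsometryGroup F QF)).trans
    (MulEquiv.subgroupCongr hmap)⟩

end Cfsg.Agent.Helper7.IsomTransfer
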