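import Mathlib

set_option autoImplicit false

/-!
A checkable certificate that every element of a list is a product of two generators:
a list of pairs (element, parent) in which every element is the identity or its parent,
which occurs later in the list, times a generator.
-/

namespace Cfsg.Agent.Helper7.Chain

variable {α : Type*} [DecidableEq α]

/-- The chain condition: every element is the identity or a later element times a generator. -/
def ok (mul : α → α → α) (one a b : α) : List (α × α) → Bool
  | [] => true
  | p :: rest => (decide (p.1 = one) || ((decide (mul p.2 a = p.1) || decide (mul p.2 b = p.1)) &&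
      rest.any (fun r => decide (r.1 = p.2)))) && ok mul one a b rest

theorem ok_induct (mul : α → α → α) (one a b : α) (P : α → Prop) (h1 : P one)
    (ha : ∀ y, P y → P (mul y a)) (hb : ∀ y, P y → P (mul y b)) :
    ∀ l : List (α × α), ok mul one a b l = true → ∀ p ∈ l, P p.1 := by
  intro l
  induction l with
  | nil => intro _ p hp; exact absurd hp List.not_mem_nil
  | cons q rest ih =>
    intro h p hp
    rw [ok, Bool.and_eq_true] at h
    obtain ⟨hq, hrest⟩ := h
    rcases List.mem_cons.mp hp with rfl | hp
    · rw [Bool.or_eq_true] at hq
      rcases hq with hq | hq
      · rw [decide_eq_true_eq] at hq; rw [hq]; exact h1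
      · rw [Bool.and_eq_true, Bool.or_eq_true, List.any_eq_true] at hq
        obtain ⟨hgen, r, hr, hr2⟩ := hq
        rw [decide_eq_true_eq] at hr2
        have hP : P p.2 := hr2 ▸ ih hrest r hr
        rcases hgen with hg | hg <;> rw [decide_eq_true_eq] at hg <;> rw [← hg]
        · exact ha _ hP
        · exact hb _ hP
    · exact ih hrest p hp

end Cfsg.Agent.Helper7.Chain
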