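import Mathlib
import Cfsg.Prelude.Def_GeometricClasses
import Cfsg.Agent.Helper7.TensNME
import Cfsg.Agent.Helper7.TensNMD

/-!
# ASCH-COMP-Sp piece `tensor33` (helper7)

Over the field with three elements, `Sp_{n₁}(3) ⊗ O_3(3)` stabilises a decomposition into three non-degenerate
`n₁`-spaces (a ternary symmetric form over `F_3` is `± (x² + y² + z²)` and its similarities are monomial).
-/

set_option autoImplicit false

namespace Cfsg.Agent.Helper7.AschSpT33

open Cfsg Cfsg.Geo Matrix Cfsg.Agent.Helper7.TensNM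
open scoped MatrixGroups Matrix Kronecker

variable {F : Type*} [Field F]

section blocks

variable {ι : Type} [Fintype ι] [DecidableEq ι] {t : ℕ} {J : Type} [Fintype J] [DecidableEq J]

theorem supp_indep : iSupIndep (fun l : Fin t => supp F J l) := by
  intro l
  rw [Submodule.disjoint_def]
  intro x hx hx'
  let Z : Submodule F (Fin t × J → F) := ⨅ j : J, LinearMap.ker (LinearMap.proj (R := F) (φ := fun _ => F) (l, j))
  have hle : (⨆ (l' : Fin t) (_ : l' ≠ l), supp F J l') ≤ Z := by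
    refine iSup₂_le fun l' hl' y hy => ?_
    rw [Submodule.mem_iInf]
    intro j
    rw [LinearMap.mem_ker, LinearMap.proj_apply]
    exact hy (l, j) (Ne.symm hl')
  have hxZ := hle hx'
  rw [Submodule.mem_iInf] at hxZ
  ext a
  obtain ⟨k, j⟩ := a
  by_cases hk : k = l
  · subst hk
    have := hxZ j
    rwa [LinearMap.mem_ker, LinearMap.proj_apply] at this
  · exact hx (k, j) hk

theorem supp_iSup : (⨆ l : Fin t, supp F J l) = ⊤ := by
  rw [eq_top_iff]
  intro x _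
  have hx : x = ∑ l : Fin t, pt (ev F l) (fun j => x (l, j)) := by
    ext a
    obtain ⟨k, j⟩ := a
    rw [Finset.sum_apply]
    simp only [pt_apply, ev_apply]
    rw [Finset.sum_eq_single k]
    · rw [if_pos rfl, one_mul]
    · intro b _ hb
      rw [if_neg (Ne.symm hb), zero_mul]
    · intro h
      exact absurd (Finset.mem_univ k) h
  rw [hx]
  exact Submodule.sum_mem _ fun l _ => Submodule.mem_iSup_of_mem l (pt_ev_mem l _)

/-- the block `supp l` is a copy of `F^J` -/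
def suppEquiv (l : Fin t) : (J → F) ≃ₗ[F] supp F J l where
  toFun y := ⟨pt (ev F l) y, pt_ev_mem l y⟩
  map_add' y y' := Subtype.ext (pt_add_right _ y y')
  map_smul' c y := Subtype.ext (pt_smul_right c _ y)
  invFun x := fun j => (x : Fin t × J → F) (l, j)
  left_inv y := by
    ext j
    change pt (ev F l) y (l, j) = y j
    rw [pt_apply, ev_apply, if_pos rfl, one_mul]
  right_inv x := Subtype.ext (eq_pt_of_mem x.2).symm

theorem finrank_supp (l : Fin t) : Module.finrank F (supp F J l) = Fintype.card J := by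
  rw [← (suppEquiv (F := F) (J := J) l).finrank_eq, Module.finrank_fintype_fun_eq_card]

/-- the coordinate map as a linear equivalence -/
def cEquiv (R : Matrix ι (Fin t × J) F) (R' : Matrix (Fin t × J) ι F) (h1 : R * R' = 1) (h2 : R' * R = 1) :
    (Fin t × J → F) ≃ₗ[F] (ι → F) :=
  LinearEquiv.ofLinear R.mulVecLin R'.mulVecLin
    (by rw [← Matrix.mulVecLin_mul, h1, Matrix.mulVecLin_one])
    (by rw [← Matrix.mulVecLin_mul, h2, Matrix.mulVecLin_one])

theorem blk_eq_map (R : Matrix ι (Fin t × J) F) (R' : Matrix (Fin t × J) ι F) (h1 : R * R' = 1)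
    (h2 : R' * R = 1) (l : Fin t) :
    blk R l = (supp F J l).map (cEquiv R R' h1 h2 : (Fin t × J → F) →ₗ[F] (ι → F)) := rfl

theorem blk_isMDecomposition (R : Matrix ι (Fin t × J) F) (R' : Matrix (Fin t × J) ι F) (h1 : R * R' = 1)
    (h2 : R' * R = 1) (ht : 2 ≤ t) (hJ : 0 < Fintype.card J) :
    IsMDecomposition (Fintype.card J) (blk R) where
  two_le := ht
  pos := hJ
  finrank_eq := by
    intro l
    rw [blk_eq_map R R' h1 h2, LinearEquiv.finrank_map_eq, finrank_supp]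
  indep := by
    have h := iSupIndep.map_orderIso (Submodule.orderIsoMapComap (cEquiv R R' h1 h2))
      (supp_indep (F := F) (t := t) (J := J))
    exact h
  iSup_eq_top := by
    have h : iSup (blk R) = (⨆ l : Fin t, supp F J l).map (Matrix.mulVecLin R) := by
      rw [Submodule.map_iSup]
      rfl
    rw [h, supp_iSup, Submodule.map_top, LinearMap.range_eq_top]
    intro v
    refine ⟨R' *ᵥ v, ?_⟩
    rw [Matrix.mulVecLin_apply, Matrix.mulVec_mulVec, h1, Matrix.one_mulVec]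

theorem blk_nondeg {R : Matrix ι (Fin t × J) F} {R' : Matrix (Fin t × J) ι F} {σ : F →+* F}
    {f : (ι → F) → (ι → F) → F} {G₂ : Matrix J J F} {c : F} (h : Frame R R' σ f G₂ c) (ht : 2 ≤ t)
    (hJ : 0 < Fintype.card J)
    (hnd : ∀ y : J → F, y ≠ 0 → (∃ y', formOfGram σ G₂ y' y ≠ 0) ∧ (∃ y', formOfGram σ G₂ y y' ≠ 0)) :
    IsNondegenerateMDecomposition f (Fintype.card J) (blk R) where
  decomp := blk_isMDecomposition R R' h.RR' h.R'R ht hJ
  nondegenerate := by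
    intro l w hw hw0
    obtain ⟨y, rfl⟩ := mem_blk.mp hw
    have hy : y ≠ 0 := by
      intro hy
      apply hw0
      rw [hy, pt_zero_right, Matrix.mulVec_zero]
    obtain ⟨⟨y₁, h₁⟩, ⟨y₂, h₂⟩⟩ := hnd y hy
    refine ⟨⟨_, mem_blk.mpr ⟨y₁, rfl⟩, ?_⟩, ⟨_, mem_blk.mpr ⟨y₂, rfl⟩, ?_⟩⟩
    · rw [h.form_ev, if_pos rfl]
      exact mul_ne_zero h.c_ne h₁
    · rw [h.form_ev, if_pos rfl]
      exact mul_ne_zero h.c_ne h₂
  orthogonal := by
    intro l l' hll u hu v hv
    obtain ⟨y, rfl⟩ := mem_blk.mp hu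
    obtain ⟨y', rfl⟩ := mem_blk.mp hv
    rw [h.form_ev, if_neg hll]

end blocks

/-- **`tensor33`, general first factor**: over `F_3` the group `Isom(f₁) ⊗ GO_3(3)` stabilises a decomposition into three
non-degenerate `n₁`-spaces. -/
theorem tensor33_gen {ι : Type} [Fintype ι] [DecidableEq ι] [Fintype F] (hq : Fintype.card F = 3)
    (f : (ι → F) → (ι → F) → F) {n₁ : ℕ} (hn₁ : 0 < n₁)
    (e : ι ≃ Fin n₁ × Fin 3) (P : GL ι F) (f₁ : (Fin n₁ → F) → (Fin n₁ → F) → F)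
    (f₂ : (Fin 3 → F) → (Fin 3 → F) → F) (hf₁b : IsBilinearForm f₁) (hf₁n : IsNondegenerateForm f₁)
    (hf₂ : IsSymmetricForm f₂) (hT : IsTensorFormStructure id f f₁ f₂ e P) :
    ∃ D : Fin 3 → Submodule F (ι → F), IsNondegenerateMDecomposition f n₁ D ∧
      ∀ H : Subgroup (GL ι F), FixesForm (matrixSet H) f → H ≤ tensorProductSubgroup n₁ 3 e P →
        H ≤ decompositionStabilizer D := by
  obtain ⟨c, hc, hform⟩ := hT
  obtain ⟨U, U', ε, hU, hU', hε, hG⟩ := frame_F3 hq (gramMatrix f₂) (gram_transpose hf₂.symm)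
    (gram_nondegenerate hf₂.bilinear hf₂.nondegenerate)
  have hf : ∀ (u u' : Fin 3 → F) (y y' : Fin n₁ → F),
      f (Rs e P *ᵥ pt u y) (Rs e P *ᵥ pt u' y') =
        c * (formOfGram (RingHom.id F) (gramMatrix f₂) u u' * formOfGram (RingHom.id F) (gramMatrix f₁) y y') := by
    intro u u' y y'
    rw [Rs_mulVec_pt, Rs_mulVec_pt, ← mulVec_comp, ← mulVec_comp, hform]
    have h1 := formOfGram_pt (RingHom.id F) (gramMatrix f₁) (gramMatrix f₂) y y' u u'
    rw [mul_comm (formOfGram _ (gramMatrix f₂) u u')]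
    exact congrArg (fun z => c * z) h1
  have hgram : ∀ y y' : Fin n₁ → F, formOfGram (RingHom.id F) (gramMatrix f₁) y y' = f₁ y y' :=
    fun y y' => (form_eq_gram hf₁b y y').symm
  let y₀ : Fin n₁ → F := Pi.single ⟨0, hn₁⟩ 1
  have hy₀ : y₀ ≠ 0 := by
    intro h
    have := congrFun h ⟨0, hn₁⟩
    simp only [y₀, Pi.single_eq_same, Pi.zero_apply] at this
    exact one_ne_zero this
  obtain ⟨x₀, hx₀⟩ := (hf₁n y₀ hy₀).1
  have hnz : ∃ y y', formOfGram (RingHom.id F) (gramMatrix f₁) y y' ≠ 0 := ⟨x₀, y₀, by rw [hgram]; exact hx₀⟩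
  have hG' : Uᵀ * gramMatrix f₂ * U.map (RingHom.id F) = ε • (1 : Matrix (Fin 3) (Fin 3) F) := by
    have : U.map (RingHom.id F) = U := by
      ext i j; rfl
    rw [this]
    exact hG
  have hFr := frame_of (Rs_mul_Rs' e P) (Rs'_mul_Rs e P) hc hf hU hU' hε hG' hnz
  obtain ⟨R, hR⟩ : ∃ R, R = Rs e P * (U ⊗ₖ (1 : Matrix (Fin n₁) (Fin n₁) F)) := ⟨_, rfl⟩
  obtain ⟨R', hR'⟩ : ∃ R', R' = (U' ⊗ₖ (1 : Matrix (Fin n₁) (Fin n₁) F)) * Rs' e P := ⟨_, rfl⟩
  rw [← hR, ← hR'] at hFr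
  have hrep : ∀ g ∈ tensorProductSubgroup n₁ 3 e P, ∃ (B : Matrix (Fin 3) (Fin 3) F) (a : GL (Fin n₁) F),
      (g : Matrix ι ι F) = R * (B ⊗ₖ (a : Matrix (Fin n₁) (Fin n₁) F)) * R' := by
    intro g hg
    obtain ⟨a, b, hab⟩ := mem_tensor_swap hg
    refine ⟨U' * (b : Matrix (Fin 3) (Fin 3) F) * U, a, ?_⟩
    rw [hR, hR']
    exact conj_of hU hab
  have hcard : Fintype.card (Fin n₁) = n₁ := Fintype.card_fin n₁
  refine ⟨blk R, ?_, ?_⟩
  · have h := blk_nondeg hFr (by norm_num) (by rw [hcard]; exact hn₁) (by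
      intro y hy
      obtain ⟨⟨y₁, h₁⟩, ⟨y₂, h₂⟩⟩ := hf₁n y hy
      exact ⟨⟨y₁, by rw [hgram]; exact h₁⟩, ⟨y₂, by rw [hgram]; exact h₂⟩⟩)
    rwa [hcard] at h
  · intro H hfix hle g hg
    obtain ⟨B, a, hgR⟩ := hrep g (hle hg)
    refine hFr.stab (mono_F3 hq) (A := (a : Matrix (Fin n₁) (Fin n₁) F))
      (A' := ((a⁻¹ : GL (Fin n₁) F) : Matrix (Fin n₁) (Fin n₁) F)) ?_ hgR
      (fun x y => hfix _ ⟨g, hg, rfl⟩ x y)
    rw [← Units.val_mul, mul_inv_cancel, Units.val_one]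

/-- **`SpPieces.tensor33`** -/
theorem tensor33 {n : ℕ} [Fintype F] (hq : Fintype.card F = 3) (f : (Fin n → F) → (Fin n → F) → F)
    (_hf : IsSymplecticForm f) (e : Fin n ≃ Fin 2 × Fin 3) (P : GL (Fin n) F)
    (f₁ : (Fin 2 → F) → (Fin 2 → F) → F) (f₂ : (Fin 3 → F) → (Fin 3 → F) → F)
    (hf₁ : IsSymplecticForm f₁) (hf₂ : IsSymmetricForm f₂) (hT : IsTensorFormStructure id f f₁ f₂ e P) :
    ∃ D : Fin 3 → Submodule F (Fin n → F), IsNondegenerateMDecomposition f 2 D ∧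
      ∀ H : Subgroup (GL (Fin n) F), FixesForm (matrixSet H) f → H ≤ tensorProductSubgroup 2 3 e P →
        H ≤ decompositionStabilizer D :=
  tensor33_gen hq f (by norm_num) e P f₁ f₂ hf₁.bilinear hf₁.nondegenerate hf₂ hT

end Cfsg.Agent.Helper7.AschSpT33
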