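import Mathlib
import Cfsg.Prelude.Def_GeometricClasses
import Cfsg.Agent.Helper7.OrthMaxC
import Cfsg.Agent.Helper8.OmegaStd2

/-!
# ASCH-PRIME-O piece O1 (part A): `Ω_{2m+1}(q)` is the commutator subgroup, and it stabilises no proper
non-zero subspace.
-/

set_option autoImplicit false
set_option linter.unusedSectionVars false

namespace Cfsg.Agent.Helper7.AschO

open Module Cfsg Cfsg.Geo
open Cfsg.Agent.Helper8.QuadForm Cfsg.Agent.Helper8.WittQuad Cfsg.Agent.Helper8.OrthOrder
  Cfsg.Agent.Helper8.Siegel Cfsg.Agent.Helper8.SiegelGroup Cfsg.Agent.Helper8.StdForms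
  Cfsg.Agent.Helper8.OmegaStd2 Cfsg.Agent.Helper7.OrthMax
open scoped MatrixGroups Matrix

variable {F : Type*} [Field F]

theorem omegaGL_eq_commutator {ι : Type} [Fintype ι] [DecidableEq ι] (Q : (ι → F) → F) :
    omegaGL Q = ⁅isometryGroup F Q, isometryGroup F Q⁆ := by
  unfold omegaGL Omega
  rw [commutator_def, Subgroup.map_commutator, ← MonoidHom.range_eq_map, Subgroup.range_subtype]

section generic

variable {V : Type*} [AddCommGroup V] [Module F V]

/-- a subspace invariant under the Siegel group is zero or everything (odd characteristic, singular vectors span) -/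
theorem sg_invariant_eq_top [Finite F] [FiniteDimensional F V] (Q : QuadraticForm F V) (hQ : Nondeg Q)
    (h2 : (2 : F) ≠ 0) (h5 : 5 ≤ finrank F V)
    (hspan : Submodule.span F {u : V | Q u = 0} = ⊤)
    (W : Submodule F V) (hW : ∀ g ∈ SG Q, ∀ x ∈ W, (g : V ≃ₗ[F] V) x ∈ W) (h0 : W ≠ ⊥) : W = ⊤ := by
  obtain ⟨w, hwW, hw0⟩ := (Submodule.ne_bot_iff W).mp h0
  -- a singular vector not perpendicular to `w`
  obtain ⟨u, hu, hwu⟩ : ∃ u, Q u = 0 ∧ QuadraticMap.polar Q w u ≠ 0 := by
    by_contra hcon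
    push Not at hcon
    apply hw0
    apply hQ w
    intro x
    have hx : x ∈ Submodule.span F {u : V | Q u = 0} := by rw [hspan]; trivial
    induction hx using Submodule.span_induction with
    | mem x hx => exact hcon x hx
    | zero => exact QuadraticMap.polar_zero_right Q w
    | add x y _ _ hx hy => rw [QuadraticMap.polar_add_right, hx, hy, add_zero]
    | smul a x _ hx => rw [QuadraticMap.polar_smul_right, hx, smul_zero]
  have hu0 : u ≠ 0 := by
    rintro rfl
    exact hwu (QuadraticMap.polar_zero_right Q w)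
  -- a non-singular vector perpendicular to `u`
  obtain ⟨z, huz, hz⟩ : ∃ z, QuadraticMap.polar Q u z = 0 ∧ Q z ≠ 0 := by
    by_contra hcon
    push Not at hcon
    have hB : (QuadraticMap.polarBilin Q).Nondegenerate := (nondeg_iff Q).mpr hQ
    set T := LinearMap.BilinForm.orthogonal (QuadraticMap.polarBilin Q) (Submodule.span F {u}) with hTdef
    have hT : ∀ x ∈ T, Q x = 0 := by
      intro x hx
      rw [hTdef, mem_orth_iff] at hx
      apply hcon x
      rw [QuadraticMap.polar_comm]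
      exact hx u (Submodule.mem_span_singleton_self u)
    have h1 := ts_finrank_le Q hQ T hT
    have h3 := LinearMap.BilinForm.finrank_orthogonal hB (Submodule.span F {u})
    have h4 : finrank F (Submodule.span F {u}) = 1 := finrank_span_singleton hu0
    rw [← hTdef] at h3
    omega
  have huW : u ∈ W := by
    have huz' : QuadraticMap.polar Q u (-z) = 0 := by
      rw [QuadraticMap.polar_neg_right, huz, neg_zero]
    have h1 := hW (siegG Q u z) (siegG_mem_SG Q hu huz) w hwW
    have h2' := hW (siegG Q u (-z)) (siegG_mem_SG Q hu huz') w hwW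
    rw [siegG_val, siegE_apply Q hu huz, sieg_apply] at h1
    rw [siegG_val, siegE_apply Q hu huz', sieg_apply, QuadraticMap.polar_neg_right,
      QuadraticMap.map_neg] at h2'
    have h3 := W.sub_mem (W.add_mem h1 h2') (W.smul_mem (2 : F) hwW)
    have e : w + QuadraticMap.polar Q w z • u - QuadraticMap.polar Q w u • z -
        (Q z * QuadraticMap.polar Q w u) • u +
        (w + -QuadraticMap.polar Q w z • u - QuadraticMap.polar Q w u • -z -
          (Q z * QuadraticMap.polar Q w u) • u) - (2 : F) • w =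
        (-(2 * (Q z * QuadraticMap.polar Q w u))) • u := by
      module
    rw [e] at h3
    have hc : -(2 * (Q z * QuadraticMap.polar Q w u)) ≠ 0 :=
      neg_ne_zero.mpr (mul_ne_zero h2 (mul_ne_zero hz hwu))
    have := W.smul_mem (-(2 * (Q z * QuadraticMap.polar Q w u)))⁻¹ h3
    rwa [smul_smul, inv_mul_cancel₀ hc, one_smul] at this
  rw [eq_top_iff, ← hspan, Submodule.span_le]
  intro u' hu'
  by_cases hu'0 : u' = 0
  · rw [hu'0]; exact W.zero_mem
  obtain ⟨g, hg, t, ht, hgu⟩ := exists_SGW_smul Q ⊤ (fun w _ h => hQ w (fun w' => h w' trivial))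
    (by rw [finrank_top]; omega) (Submodule.mem_top (x := u)) (Submodule.mem_top (x := u')) hu hu' hu0 hu'0
  have h6 := hW g hg u huW
  rw [hgu] at h6
  have := W.smul_mem t⁻¹ h6
  rwa [smul_smul, inv_mul_cancel₀ ht, one_smul] at this

end generic

section odd

variable (F) (m : ℕ)

/-- the vector `d + e₀ - f₀` -/
def dvec (j : Fin m) : Unit ⊕ (Fin m ⊕ Fin m) → F :=
  Pi.single (Sum.inl ()) 1 + Pi.single (Sum.inr (Sum.inl j)) 1 - Pi.single (Sum.inr (Sum.inr j)) 1

theorem oddForm_dvec (j : Fin m) : oddForm F m (dvec F m j) = 0 := by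
  rw [oddForm_apply]
  unfold quadFormOdd dvec
  simp [Pi.single_apply]

theorem span_singular_odd (hm : 1 ≤ m) :
    Submodule.span F {u : Unit ⊕ (Fin m ⊕ Fin m) → F | oddForm F m u = 0} = ⊤ := by
  rw [eq_top_iff, ← (Pi.basisFun F (Unit ⊕ (Fin m ⊕ Fin m))).span_eq, Submodule.span_le]
  rintro _ ⟨j, rfl⟩
  rw [Pi.basisFun_apply]
  have he : ∀ j : Fin m, (Pi.single (Sum.inr (Sum.inl j)) 1 : Unit ⊕ (Fin m ⊕ Fin m) → F) ∈
      Submodule.span F {u : Unit ⊕ (Fin m ⊕ Fin m) → F | oddForm F m u = 0} :=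
    fun j => Submodule.subset_span ((odd_isHyp F m).1 j).1
  have hf : ∀ j : Fin m, (Pi.single (Sum.inr (Sum.inr j)) 1 : Unit ⊕ (Fin m ⊕ Fin m) → F) ∈
      Submodule.span F {u : Unit ⊕ (Fin m ⊕ Fin m) → F | oddForm F m u = 0} :=
    fun j => Submodule.subset_span ((odd_isHyp F m).1 j).2
  rcases j with ⟨⟩ | j | j
  · have hd := Submodule.subset_span (s := {u : Unit ⊕ (Fin m ⊕ Fin m) → F | oddForm F m u = 0})
      (R := F) (oddForm_dvec F m ⟨0, by omega⟩)
    have := Submodule.add_mem _ (Submodule.sub_mem _ hd (he ⟨0, by omega⟩)) (hf ⟨0, by omega⟩)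
    unfold dvec at this
    have e : (Pi.single (Sum.inl ()) 1 + Pi.single (Sum.inr (Sum.inl ⟨0, by omega⟩)) 1 -
        Pi.single (Sum.inr (Sum.inr ⟨0, by omega⟩)) 1 -
        Pi.single (Sum.inr (Sum.inl ⟨0, by omega⟩)) 1 +
        Pi.single (Sum.inr (Sum.inr ⟨0, by omega⟩)) 1 : Unit ⊕ (Fin m ⊕ Fin m) → F) =
        Pi.single (Sum.inl ()) 1 := by abel
    rwa [e] at this
  · exact he j
  · exact hf j

end odd

theorem card_index (m : ℕ) : Fintype.card (Unit ⊕ (Fin m ⊕ Fin m)) = 1 + (m + m) := by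
  rw [Fintype.card_sum, Fintype.card_sum, Fintype.card_fin, Fintype.card_unit]

theorem not_le_subspaceStabilizer_omega [Fintype F] {m : ℕ} (hm : 3 ≤ m) (h2 : (2 : F) ≠ 0)
    (W : Submodule F (Unit ⊕ (Fin m ⊕ Fin m) → F)) (h0 : W ≠ ⊥) (h1 : W ≠ ⊤) :
    ¬ omegaGL (quadFormOdd m F) ≤ subspaceStabilizer W := by
  intro hle
  have hQ := oddForm_nondeg F m h2
  have hfun : quadFormOdd m F = ⇑(oddForm F m) := funext fun v => (oddForm_apply F m v).symm
  rw [hfun] at hle
  have h5 : 5 ≤ Fintype.card (Unit ⊕ (Fin m ⊕ Fin m)) := by rw [card_index]; omega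
  apply h1
  apply sg_invariant_eq_top (oddForm F m) ((nondeg_iff _).mp hQ) h2 (by rw [finrank_odd]; omega)
    (span_singular_odd F m (by omega)) W _ h0
  intro g hg x hx
  have := hle (toGL_mem_omegaGL _ hQ h5 hg)
  rw [toGL_mem_stab] at this
  exact (this x).mp hx

end Cfsg.Agent.Helper7.AschO
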