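import Mathlib
import Cfsg.Prelude.Def_GeometricClasses
import Cfsg.Agent.Lead.AschOmB
import Cfsg.Agent.Helper7.OrthMaxF
import Cfsg.Agent.Helper7.OrthNdA

/-!
# ASCH-OM piece M5a: `Ω(Q)` stabilises no proper non-zero subspace (`n ≥ 5`, any characteristic), and the
generation principles used for the other `M5` pieces.
-/

set_option autoImplicit false
set_option linter.unusedSectionVars false

namespace Cfsg.Agent.Helper7.AschOm

open Module Cfsg Cfsg.Geo
open Cfsg.Agent.Helper8.QuadForm Cfsg.Agent.Helper8.WittQuad Cfsg.Agent.Helper8.OrthOrder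
  Cfsg.Agent.Helper8.Siegel Cfsg.Agent.Helper8.SiegelGeom Cfsg.Agent.Helper8.SiegelGroup
  Cfsg.Agent.Helper8.SiegelSimple Cfsg.Agent.Helper7.OrthMax Cfsg.Agent.Lead.AschOm
open scoped MatrixGroups Matrix

variable {F : Type*} [Field F]

section abstract

variable {V : Type*} [AddCommGroup V] [Module F V]

/-- a non-zero subspace invariant under the Siegel group is everything (any characteristic). -/
theorem sg_invariant_eq_top' [Finite F] [FiniteDimensional F V] (Q : QuadraticForm F V) (hQ : Nondeg Q)
    (h5 : 5 ≤ finrank F V) (W : Submodule F V)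
    (hW : ∀ g ∈ SG Q, ∀ x ∈ W, (g : V ≃ₗ[F] V) x ∈ W) (h0 : W ≠ ⊥) : W = ⊤ := by
  obtain ⟨w, hwW, hw0⟩ := (Submodule.ne_bot_iff W).mp h0
  have htop : finrank F (⊤ : Submodule F V) = finrank F V := finrank_top F V
  -- a non-zero singular vector in `W`
  obtain ⟨u, huW, hu0, hu⟩ : ∃ u ∈ W, u ≠ 0 ∧ Q u = 0 := by
    by_cases hQw : Q w = 0
    · exact ⟨w, hwW, hw0, hQw⟩
    · obtain ⟨s, -, hs0, hQs, hsw⟩ := Cfsg.Agent.Helper7.OrthNd.exists_singular_perp Q hQ ⊤
        (by rw [htop]; omega) w
      have haa : Q w = Q (w + s) := by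
        have := QuadraticMap.polar_comm Q s w
        rw [hsw] at this
        have h := QuadraticMap.map_add Q w s
        rw [h, hQs, ← this]
        ring
      have hd : w - (w + s) ≠ 0 := by
        intro h
        apply hs0
        have : w - (w + s) = -s := by abel
        rw [this, neg_eq_zero] at h
        exact h
      rcases exists_siegel_move Q hQ h5 haa hd with ⟨μ, hμ⟩ | ⟨g, hg, hgw⟩
      · exfalso
        apply hQw
        have : w - (w + s) = -s := by abel
        rw [this] at hμ
        rw [hμ, QuadraticMap.map_smul, QuadraticMap.map_neg, hQs, smul_zero]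
      · have h1 := hW g hg w hwW
        rw [hgw] at h1
        refine ⟨s, ?_, hs0, hQs⟩
        have := W.sub_mem h1 hwW
        rwa [add_sub_cancel_left] at this
  -- all singular vectors lie in `W`
  have hall : ∀ a, Q a = 0 → a ∈ W := by
    intro a ha
    by_cases ha0 : a = 0
    · rw [ha0]; exact W.zero_mem
    obtain ⟨g, hg, t, ht, hgt⟩ := exists_SGW_smul Q ⊤ (nondegOn_top Q hQ) (by rw [htop]; omega)
      (Submodule.mem_top (x := u)) (Submodule.mem_top (x := a)) hu ha hu0 ha0
    have h1 := hW g hg u huW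
    rw [hgt] at h1
    have := W.smul_mem t⁻¹ h1
    rwa [smul_smul, inv_mul_cancel₀ ht, one_smul] at this
  -- the singular vectors span
  obtain ⟨f, hf, huf⟩ := exists_hyperbolic_pair Q hQ hu0 hu
  rw [eq_top_iff]
  intro x _
  have hx := mem_span_singular Q ⊤ (Submodule.mem_top (x := u)) (Submodule.mem_top (x := f)) hu hf huf
    (Submodule.mem_top (x := x))
  refine (Submodule.span_le.mpr ?_) hx
  rintro c ⟨-, hc⟩
  exact hall c hc

/-- a third singular vector extending a totally singular plane (dimension at least seven). -/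
theorem exists_third [Finite F] [FiniteDimensional F V] (Q : QuadraticForm F V) (hQ : Nondeg Q)
    (h7 : 7 ≤ finrank F V) {u z : V} (hz : Q z = 0) (huz : QuadraticMap.polar Q u z = 0)
    (hli : LinearIndependent F ![u, z]) :
    ∃ e, Q e = 0 ∧ QuadraticMap.polar Q u e = 0 ∧ QuadraticMap.polar Q z e = 0 ∧
      LinearIndependent F ![u, z, e] := by
  have hB : (QuadraticMap.polarBilin Q).Nondegenerate := (nondeg_iff Q).mpr hQ
  rw [LinearIndependent.pair_iff] at hli
  have hu_not : u ∉ Submodule.span F {z} := by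
    intro h
    obtain ⟨c, hc⟩ := Submodule.mem_span_singleton.mp h
    have := hli 1 (-c) (by rw [one_smul, neg_smul, hc]; abel)
    exact one_ne_zero this.1
  have hz_not : z ∉ Submodule.span F {u} := by
    intro h
    obtain ⟨c, hc⟩ := Submodule.mem_span_singleton.mp h
    have := hli (-c) 1 (by rw [one_smul, neg_smul, hc]; abel)
    exact one_ne_zero this.2
  obtain ⟨a, haz, hau⟩ := exists_dual_vec Q hB (Submodule.span F {z}) hu_not
  obtain ⟨b, hbu, hbz⟩ := exists_dual_vec Q hB (Submodule.span F {u}) hz_not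
  have haz' : QuadraticMap.polar Q a z = 0 := haz z (Submodule.mem_span_singleton_self z)
  have hbu' : QuadraticMap.polar Q b u = 0 := hbu u (Submodule.mem_span_singleton_self u)
  set S : Submodule F V := Submodule.span F (Set.range ![u, z, a, b]) with hS
  have hSfin : finrank F S ≤ 4 := by
    have := finrank_range_le_card (R := F) ![u, z, a, b]
    rw [Fintype.card_fin] at this
    exact this
  have hdim : 3 ≤ finrank F ↥(LinearMap.BilinForm.orthogonal (QuadraticMap.polarBilin Q) S) := by
    rw [LinearMap.BilinForm.finrank_orthogonal hB]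
    omega
  obtain ⟨e, heA, he0, hQe⟩ := exists_singular_in Q _ hdim
  rw [mem_orth_iff] at heA
  have heu : QuadraticMap.polar Q e u = 0 := heA u (Submodule.subset_span ⟨0, rfl⟩)
  have hez : QuadraticMap.polar Q e z = 0 := heA z (Submodule.subset_span ⟨1, rfl⟩)
  have hea : QuadraticMap.polar Q e a = 0 := heA a (Submodule.subset_span ⟨2, rfl⟩)
  have heb : QuadraticMap.polar Q e b = 0 := heA b (Submodule.subset_span ⟨3, rfl⟩)
  refine ⟨e, hQe, by rw [QuadraticMap.polar_comm]; exact heu, by rw [QuadraticMap.polar_comm]; exact hez, ?_⟩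
  rw [Fintype.linearIndependent_iff]
  intro c hc
  rw [Fin.sum_univ_three] at hc
  simp only [Matrix.cons_val_zero, Matrix.cons_val_one, Matrix.cons_val_two, Matrix.head_cons,
    Matrix.tail_cons] at hc
  have h0 : c 0 = 0 := by
    have := congrArg (fun v => QuadraticMap.polar Q a v) hc
    simp only [QuadraticMap.polar_add_right, QuadraticMap.polar_smul_right, hau, haz',
      QuadraticMap.polar_zero_right, smul_eq_mul, mul_one, mul_zero, add_zero] at this
    rw [QuadraticMap.polar_comm Q a e, hea, mul_zero, add_zero] at this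
    exact this
  have h1 : c 1 = 0 := by
    have := congrArg (fun v => QuadraticMap.polar Q b v) hc
    simp only [QuadraticMap.polar_add_right, QuadraticMap.polar_smul_right, hbz, hbu',
      QuadraticMap.polar_zero_right, smul_eq_mul, mul_one, mul_zero, add_zero, zero_add] at this
    rw [QuadraticMap.polar_comm Q b e, heb, mul_zero, add_zero] at this
    exact this
  have h2 : c 2 = 0 := by
    rw [h0, h1, zero_smul, zero_smul, zero_add, zero_add] at hc
    rcases smul_eq_zero.mp hc with h | h
    · exact h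
    · exact absurd h he0
  intro i
  fin_cases i
  · exact h0
  · exact h1
  · exact h2

end abstract

section matrix

variable [Fintype F] {ι : Type} [Fintype ι] [DecidableEq ι]

/-- `Ω(Q)` lies in every subgroup containing the Siegel transformations. -/
theorem omegaGL_le_of_gens (h5 : 5 ≤ Fintype.card ι) (Q : (ι → F) → F)
    (hQ : IsNondegenerateQuadraticForm Q) (X : Subgroup (GL ι F))
    (h : ∀ c w, Q c = 0 → QuadraticMap.polar Q c w = 0 →
      toGL (toQF Q hQ) (siegG (toQF Q hQ) c w) ∈ X) : omegaGL Q ≤ X := by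
  intro g hg
  obtain ⟨k, hk, rfl⟩ := exists_SG_of_mem_omegaGL h5 Q hQ hg
  have hle : SG (toQF Q hQ) ≤ X.comap (toGL (toQF Q hQ)) := by
    unfold SG SGW
    rw [Subgroup.closure_le]
    rintro _ ⟨c, -, w, -, hc, hcw, rfl⟩
    exact h c w hc hcw
  exact hle hk

/-- `Ω(Q)` lies in every subgroup containing the long root elements. -/
theorem omegaGL_le_of_longRoot (h5 : 5 ≤ Fintype.card ι) (Q : (ι → F) → F)
    (hQ : IsNondegenerateQuadraticForm Q) (X : Subgroup (GL ι F))
    (h : ∀ c w, Q c = 0 → Q w = 0 → QuadraticMap.polar Q c w = 0 →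
      toGL (toQF Q hQ) (siegG (toQF Q hQ) c w) ∈ X) : omegaGL Q ≤ X := by
  apply omegaGL_le_of_gens h5 Q hQ X
  intro c w hc hcw
  have hfin : 5 ≤ finrank F (ι → F) := by rw [Module.finrank_fintype_fun_eq_card]; exact h5
  exact siegG_mem_of_singular (toQF Q hQ) (toQF_nondeg Q hQ) hfin (X.comap (toGL (toQF Q hQ)))
    (c := c) hc (fun u' hu' hcu' => h c u' hc hu' hcu') hcw

/-- the action of a Siegel transformation as a matrix. -/
theorem toGL_siegG_mulVec (Q : (ι → F) → F) (hQ : IsNondegenerateQuadraticForm Q) {c w : ι → F}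
    (hc : Q c = 0) (hcw : QuadraticMap.polar Q c w = 0) (x : ι → F) :
    ((toGL (toQF Q hQ) (siegG (toQF Q hQ) c w) : GL ι F) : Matrix ι ι F) *ᵥ x =
      x + QuadraticMap.polar Q x w • c - QuadraticMap.polar Q x c • w
        - (Q w * QuadraticMap.polar Q x c) • c := by
  rw [toGL_mulVec, siegG_val, siegE_apply (toQF Q hQ) hc hcw, sieg_apply]
  rfl

/-- **M5a**: `Ω(Q)` stabilises no proper non-zero subspace. -/
theorem not_le_subspaceStabilizer_omega_of_five (h5 : 5 ≤ Fintype.card ι) (Q : (ι → F) → F)
    (hQ : IsNondegenerateQuadraticForm Q) (W : Submodule F (ι → F)) (h0 : W ≠ ⊥) (h1 : W ≠ ⊤) :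
    ¬ omegaGL Q ≤ subspaceStabilizer W := by
  intro hle
  apply h1
  have hfin : 5 ≤ finrank F (ι → F) := by rw [Module.finrank_fintype_fun_eq_card]; exact h5
  apply sg_invariant_eq_top' (toQF Q hQ) (toQF_nondeg Q hQ) hfin W _ h0
  intro g hg x hx
  have := hle (toGL_mem_omegaGL (toQF Q hQ) (toQF_polarBilin_nondegenerate Q hQ) h5 hg)
  rw [toGL_mem_stab] at this
  exact (this x).mp hx

/-- **M5a** (exact stub). -/
theorem not_le_subspaceStabilizer_omega_gen {n : ℕ} (hn : 8 ≤ n) (Q : (Fin n → F) → F)
    (hQ : IsNondegenerateQuadraticForm Q) (W : Submodule F (Fin n → F)) (h0 : W ≠ ⊥) (h1 : W ≠ ⊤) :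
    ¬ omegaGL Q ≤ subspaceStabilizer W :=
  not_le_subspaceStabilizer_omega_of_five (by rw [Fintype.card_fin]; omega) Q hQ W h0 h1

end matrix

end Cfsg.Agent.Helper7.AschOm
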