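import Mathlib
import Cfsg.Prelude.Def_GeometricClasses
import Cfsg.Agent.Helper7.AschOmA

/-!
# ASCH-OM piece M5b: `Ω(Q)` stabilises no decomposition into subspaces of equal dimension (`n ≥ 8`, any
characteristic, any `q`).

Odd characteristic: a long root element `g` satisfies `g² = 2g − 1`, so it cannot move a block.
Characteristic two: the three long root subgroups of a totally singular 3-space.
-/

set_option autoImplicit false
set_option linter.unusedSectionVars false

namespace Cfsg.Agent.Helper7.AschOm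

open Module Cfsg Cfsg.Geo
open Cfsg.Agent.Helper8.QuadForm Cfsg.Agent.Helper8.WittQuad Cfsg.Agent.Helper8.OrthOrder
  Cfsg.Agent.Helper8.Siegel Cfsg.Agent.Helper8.SiegelGeom Cfsg.Agent.Helper8.SiegelGroup
  Cfsg.Agent.Helper8.SiegelSimple Cfsg.Agent.Helper7.OrthMax Cfsg.Agent.Lead.AschOm
open scoped MatrixGroups Matrix

variable {F : Type*} [Field F]

section blocks

variable {ι : Type} [Fintype ι] [DecidableEq ι] {t m : ℕ} {D : Fin t → Submodule F (ι → F)}

theorem mem_others (D : Fin t → Submodule F (ι → F)) {i k : Fin t} (hk : k ≠ i) {z : ι → F}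
    (hz : z ∈ D k) : z ∈ ⨆ j, ⨆ (_ : j ≠ i), D j :=
  Submodule.mem_iSup_of_mem k (Submodule.mem_iSup_of_mem hk hz)

theorem eq_zero_of_mem_others (hD : IsMDecomposition m D) {i : Fin t} {x : ι → F} (hx : x ∈ D i)
    (h : x ∈ ⨆ j, ⨆ (_ : j ≠ i), D j) : x = 0 :=
  (Submodule.disjoint_def.mp (hD.indep i)) x hx h

/-- two components in distinct blocks whose sum lies in one block: one of them vanishes. -/
theorem two_comp (hD : IsMDecomposition m D) {i j k : Fin t} (hij : i ≠ j) {x y : ι → F}
    (hx : x ∈ D i) (hy : y ∈ D j) (h : x + y ∈ D k) : x = 0 ∨ y = 0 := by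
  by_cases hk : k = i
  · subst hk
    right
    have hy' : y ∈ D k := by
      have := (D k).sub_mem h hx
      rwa [add_sub_cancel_left] at this
    exact eq_zero_of_mem_others hD hy (mem_others D hij hy')
  · left
    apply eq_zero_of_mem_others hD hx
    have : x = (x + y) - y := by abel
    rw [this]
    exact Submodule.sub_mem _ (mem_others D hk h) (mem_others D hij.symm hy)

/-- three components in pairwise distinct blocks whose sum lies in one block. -/
theorem three_comp (hD : IsMDecomposition m D) {i j k l : Fin t} (hij : i ≠ j) (hik : i ≠ k)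
    (hjk : j ≠ k) {x y z : ι → F} (hx : x ∈ D i) (hy : y ∈ D j) (hz : z ∈ D k)
    (h : x + y + z ∈ D l) : x = 0 ∨ y = 0 := by
  by_cases hl : l = i
  · subst hl
    right
    apply eq_zero_of_mem_others hD hy
    have : y = (x + y + z) - x - z := by abel
    rw [this]
    exact Submodule.sub_mem _ (Submodule.sub_mem _ (mem_others D hij h) (mem_others D hij hx))
      (mem_others D hjk.symm hz)
  · left
    apply eq_zero_of_mem_others hD hx
    have : x = (x + y + z) - y - z := by abel
    rw [this]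
    exact Submodule.sub_mem _ (Submodule.sub_mem _ (mem_others D hl h) (mem_others D hij.symm hy))
      (mem_others D hik.symm hz)

theorem maps_mem {g : GL ι F} {σ : Equiv.Perm (Fin t)}
    (hσ : ∀ i, (D i).map (Matrix.toLin' (g : Matrix ι ι F)) = D (σ i)) {i : Fin t} {x : ι → F}
    (hx : x ∈ D i) : (g : Matrix ι ι F) *ᵥ x ∈ D (σ i) := by
  rw [← hσ i]
  exact ⟨x, hx, Matrix.toLin'_apply _ _⟩

theorem mulVec_eq_zero_gl (g : GL ι F) {x : ι → F} (h : (g : Matrix ι ι F) *ᵥ x = 0) : x = 0 := by
  have := congrArg (fun v => ((g⁻¹ : GL ι F) : Matrix ι ι F) *ᵥ v) h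
  simp only [Matrix.mulVec_mulVec, Matrix.mulVec_zero] at this
  rwa [← Units.val_mul, inv_mul_cancel, Units.val_one, Matrix.one_mulVec] at this

theorem exists_ne_zero_block (hD : IsMDecomposition m D) (i : Fin t) : ∃ x ∈ D i, x ≠ 0 := by
  have h : D i ≠ ⊥ := by
    intro h
    have := hD.finrank_eq i
    rw [h, finrank_bot] at this
    have := hD.pos
    omega
  exact (Submodule.ne_bot_iff _).mp h

/-- the elements fixing every block. -/
def blockKernel (D : Fin t → Submodule F (ι → F)) : Subgroup (GL ι F) where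
  carrier := {g | ∀ i, (D i).map (Matrix.toLin' (g : Matrix ι ι F)) = D i}
  mul_mem' {a b} ha hb := by
    intro i
    rw [Units.val_mul, Matrix.toLin'_mul, Submodule.map_comp, hb i, ha i]
  one_mem' := fun i => by simp
  inv_mem' {a} ha := by
    intro i
    have h := ha i
    conv_lhs => rw [← h]
    rw [← Submodule.map_comp, ← Matrix.toLin'_mul, ← Units.val_mul, inv_mul_cancel, Units.val_one,
      Matrix.toLin'_one, Submodule.map_id]

theorem mem_blockKernel_of_maps (hD : IsMDecomposition m D) {g : GL ι F}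
    (hg : g ∈ decompositionStabilizer D)
    (h : ∀ i x, x ∈ D i → (g : Matrix ι ι F) *ᵥ x ∈ D i) : g ∈ blockKernel D := by
  obtain ⟨σ, hσ⟩ := hg
  intro i
  rw [hσ i]
  congr 1
  by_contra hne
  obtain ⟨x, hx, hx0⟩ := exists_ne_zero_block hD i
  have h1 := maps_mem hσ hx
  have h2 := h i x hx
  have := eq_zero_of_mem_others hD h2 (mem_others D hne h1)
  exact hx0 (mulVec_eq_zero_gl g this)

theorem blockKernel_le_stab (D : Fin t → Submodule F (ι → F)) (i : Fin t) :
    blockKernel D ≤ subspaceStabilizer (D i) := by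
  intro g hg v
  have hgi := hg i
  constructor
  · intro hv
    show (g : Matrix ι ι F) *ᵥ v ∈ D i
    rw [← hgi]
    exact ⟨v, hv, Matrix.toLin'_apply _ _⟩
  · intro hv
    have hv' : (g : Matrix ι ι F) *ᵥ v ∈ D i := hv
    rw [← hgi] at hv'
    obtain ⟨v', hv', he⟩ := hv'
    rw [Matrix.toLin'_apply] at he
    have : v' = v := by
      have h0 : (g : Matrix ι ι F) *ᵥ (v' - v) = 0 := by rw [Matrix.mulVec_sub, he, sub_self]
      exact sub_eq_zero.mp (mulVec_eq_zero_gl g h0)
    rw [← this]
    exact hv'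

/-- odd characteristic: an element with `g² = 2g − 1` of the stabiliser of a decomposition fixes every block. -/
theorem maps_of_sq (hD : IsMDecomposition m D) (h2 : (2 : F) ≠ 0) {g : GL ι F}
    (hg : g ∈ decompositionStabilizer D)
    (hsq : ∀ x, (g : Matrix ι ι F) *ᵥ ((g : Matrix ι ι F) *ᵥ x) = (2 : F) • ((g : Matrix ι ι F) *ᵥ x) - x) :
    ∀ i x, x ∈ D i → (g : Matrix ι ι F) *ᵥ x ∈ D i := by
  obtain ⟨σ, hσ⟩ := hg
  intro i x hx
  by_cases hi : σ i = i
  · have := maps_mem hσ hx
    rwa [hi] at this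
  exfalso
  obtain ⟨x, hx, hx0⟩ := exists_ne_zero_block hD i
  have hy := maps_mem hσ hx
  have hyy := maps_mem hσ hy
  rw [hsq x, sub_eq_add_neg] at hyy
  rcases two_comp hD hi ((D _).smul_mem (2 : F) hy) ((D i).neg_mem hx) hyy with h | h
  · rcases smul_eq_zero.mp h with h | h
    · exact h2 h
    · exact hx0 (mulVec_eq_zero_gl g h)
  · exact hx0 (neg_eq_zero.mp h)

/-- characteristic two: three elements `1 + N_a`, `1 + N_b`, `1 + N_a + N_b` of the stabiliser of a
decomposition; on a block moved by the first, `N_b` is `0` or `N_a`. -/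
theorem two_cases_of_three (hD : IsMDecomposition m D) (h2 : (2 : F) = 0) {ga gb gab : GL ι F}
    (ha : ga ∈ decompositionStabilizer D) (hb : gb ∈ decompositionStabilizer D)
    (hab : gab ∈ decompositionStabilizer D) (Na Nb : (ι → F) → (ι → F))
    (hga : ∀ x, (ga : Matrix ι ι F) *ᵥ x = x + Na x) (hgb : ∀ x, (gb : Matrix ι ι F) *ᵥ x = x + Nb x)
    (hgab : ∀ x, (gab : Matrix ι ι F) *ᵥ x = x + Na x + Nb x) {i : Fin t} {x : ι → F} (hx : x ∈ D i)
    (hmove : (ga : Matrix ι ι F) *ᵥ x ∉ D i) : Nb x = 0 ∨ Nb x = Na x := by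
  obtain ⟨σa, hσa⟩ := ha
  obtain ⟨σb, hσb⟩ := hb
  obtain ⟨σab, hσab⟩ := hab
  have hy := maps_mem hσa hx
  have hy' := maps_mem hσb hx
  have hyab := maps_mem hσab hx
  have hj : σa i ≠ i := by
    intro h
    rw [h] at hy
    exact hmove hy
  have hy0 : (ga : Matrix ι ι F) *ᵥ x ≠ 0 := by
    intro h
    apply hmove
    rw [h]
    exact (D i).zero_mem
  have hx0 : x ≠ 0 := by
    intro h
    apply hy0
    rw [h, Matrix.mulVec_zero]
  have hneg : ∀ v : ι → F, -v = v := by
    intro v
    have : v + v = 0 := by rw [← two_smul F v, h2, zero_smul]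
    exact neg_eq_of_add_eq_zero_left this
  have hNa : Na x = (ga : Matrix ι ι F) *ᵥ x + x := by
    rw [hga x]
    have := hneg x
    calc Na x = x + Na x + -x := by abel
      _ = x + Na x + x := by rw [this]
  have hNb : Nb x = (gb : Matrix ι ι F) *ᵥ x + x := by
    rw [hgb x]
    have := hneg x
    calc Nb x = x + Nb x + -x := by abel
      _ = x + Nb x + x := by rw [this]
  by_cases hk : σb i = i
  · left
    rw [hk] at hy'
    have hNbi : Nb x ∈ D i := by rw [hNb]; exact (D i).add_mem hy' hx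
    have hsum : (ga : Matrix ι ι F) *ᵥ x + Nb x ∈ D (σab i) := by
      have : (ga : Matrix ι ι F) *ᵥ x + Nb x = (gab : Matrix ι ι F) *ᵥ x := by rw [hga, hgab]
      rw [this]
      exact hyab
    rcases two_comp hD hj hy hNbi hsum with h | h
    · exact absurd h hy0
    · exact h
  · right
    have hsum : x + (ga : Matrix ι ι F) *ᵥ x + (gb : Matrix ι ι F) *ᵥ x ∈ D (σab i) := by
      have : x + (ga : Matrix ι ι F) *ᵥ x + (gb : Matrix ι ι F) *ᵥ x = (gab : Matrix ι ι F) *ᵥ x := by
        rw [hgab, hNa, hNb]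
        have := hneg x
        calc x + (ga : Matrix ι ι F) *ᵥ x + (gb : Matrix ι ι F) *ᵥ x
            = x + ((ga : Matrix ι ι F) *ᵥ x + x) + ((gb : Matrix ι ι F) *ᵥ x + -x) := by abel
          _ = x + ((ga : Matrix ι ι F) *ᵥ x + x) + ((gb : Matrix ι ι F) *ᵥ x + x) := by rw [this]
      rw [this]
      exact hyab
    by_cases hjk : σa i = σb i
    · rw [← hjk] at hy'
      have hsum' : ((ga : Matrix ι ι F) *ᵥ x + (gb : Matrix ι ι F) *ᵥ x) + x ∈ D (σab i) := by
        have : ((ga : Matrix ι ι F) *ᵥ x + (gb : Matrix ι ι F) *ᵥ x) + x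
            = x + (ga : Matrix ι ι F) *ᵥ x + (gb : Matrix ι ι F) *ᵥ x := by abel
        rw [this]
        exact hsum
      rcases two_comp hD hj ((D _).add_mem hy hy') hx hsum' with h | h
      · rw [hNa, hNb]
        have : (gb : Matrix ι ι F) *ᵥ x = -((ga : Matrix ι ι F) *ᵥ x) := by
          exact (neg_eq_of_add_eq_zero_right h).symm
        rw [this, hneg]
      · exact absurd h hx0
    · exfalso
      rcases three_comp hD (Ne.symm hj) (Ne.symm hk) hjk hx hy hy' hsum with h | h
      · exact hx0 h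
      · exact hy0 h

end blocks

end Cfsg.Agent.Helper7.AschOm
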