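import Mathlib
import Cfsg.Prelude.Def_GeometricClasses
import Cfsg.Agent.Helper7.AschOmB

/-!
# ASCH-OM piece M5b (main part): `Ω(Q)` stabilises no decomposition into subspaces of equal dimension.
-/

set_option autoImplicit false
set_option linter.unusedSectionVars false

namespace Cfsg.Agent.Helper7.AschOm

open Module Cfsg Cfsg.Geo
open Cfsg.Agent.Helper8.QuadForm Cfsg.Agent.Helper8.WittQuad Cfsg.Agent.Helper8.OrthOrder
  Cfsg.Agent.Helper8.Siegel Cfsg.Agent.Helper8.SiegelGeom Cfsg.Agent.Helper8.SiegelGroup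
  Cfsg.Agent.Helper8.SiegelSimple Cfsg.Agent.Helper7.OrthMax Cfsg.Agent.Lead.AschOm
open scoped MatrixGroups Matrix

variable {F : Type*} [Field F]

theorem coeff3 {V : Type*} [AddCommGroup V] [Module F V] {u z e : V}
    (hli : LinearIndependent F ![u, z, e]) {a b c : F} (h : a • u + b • z + c • e = 0) :
    a = 0 ∧ b = 0 ∧ c = 0 := by
  rw [Fintype.linearIndependent_iff] at hli
  have := hli ![a, b, c] (by
    rw [Fin.sum_univ_three]
    simpa using h)
  exact ⟨this 0, this 1, this 2⟩

section matrix

variable [Fintype F] {ι : Type} [Fintype ι] [DecidableEq ι]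

/-- the matrix of a Siegel transformation. -/
noncomputable def G (Q : (ι → F) → F) (hQ : IsNondegenerateQuadraticForm Q) (c w : ι → F) : GL ι F :=
  toGL (toQF Q hQ) (siegG (toQF Q hQ) c w)

theorem G_mem (h5 : 5 ≤ Fintype.card ι) (Q : (ι → F) → F) (hQ : IsNondegenerateQuadraticForm Q)
    {c w : ι → F} (hc : Q c = 0) (hcw : QuadraticMap.polar Q c w = 0) : G Q hQ c w ∈ omegaGL Q :=
  toGL_mem_omegaGL (toQF Q hQ) (toQF_polarBilin_nondegenerate Q hQ) h5
    (siegG_mem_SG (toQF Q hQ) (c := c) (w := w) hc hcw)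

/-- the action of a long root element. -/
theorem G_mulVec_ts (Q : (ι → F) → F) (hQ : IsNondegenerateQuadraticForm Q) {c w : ι → F}
    (hc : Q c = 0) (hw : Q w = 0) (hcw : QuadraticMap.polar Q c w = 0) (x : ι → F) :
    (G Q hQ c w : Matrix ι ι F) *ᵥ x =
      x + (QuadraticMap.polar Q x w • c - QuadraticMap.polar Q x c • w) := by
  unfold G
  rw [toGL_siegG_mulVec Q hQ hc hcw, hw, zero_mul, zero_smul, sub_zero, add_sub_assoc]

theorem polar_self_of_singular (Q : (ι → F) → F) (hQ : IsNondegenerateQuadraticForm Q) {c : ι → F}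
    (hc : Q c = 0) : QuadraticMap.polar Q c c = 0 := by
  have := polar_self' (toQF Q hQ) c
  rw [toQF_polar, toQF_apply, hc, mul_zero] at this
  exact this

/-- `N² = 0` for a long root element, in the form `g² = 2g − 1`. -/
theorem G_sq (Q : (ι → F) → F) (hQ : IsNondegenerateQuadraticForm Q) {c w : ι → F}
    (hc : Q c = 0) (hw : Q w = 0) (hcw : QuadraticMap.polar Q c w = 0) (x : ι → F) :
    (G Q hQ c w : Matrix ι ι F) *ᵥ ((G Q hQ c w : Matrix ι ι F) *ᵥ x) =
      (2 : F) • ((G Q hQ c w : Matrix ι ι F) *ᵥ x) - x := by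
  have hb := hQ.polar_bilinear
  have hcc := polar_self_of_singular Q hQ hc
  have hww := polar_self_of_singular Q hQ hw
  have hwc : QuadraticMap.polar Q w c = 0 := by rw [QuadraticMap.polar_comm]; exact hcw
  rw [G_mulVec_ts Q hQ hc hw hcw, G_mulVec_ts Q hQ hc hw hcw]
  have e1 : QuadraticMap.polar Q (x + (QuadraticMap.polar Q x w • c - QuadraticMap.polar Q x c • w)) w
      = QuadraticMap.polar Q x w := by
    rw [hb.add_left, sub_eq_add_neg, hb.add_left, hb.smul_left, ← neg_smul, hb.smul_left, hcw, hww]
    ring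
  have e2 : QuadraticMap.polar Q (x + (QuadraticMap.polar Q x w • c - QuadraticMap.polar Q x c • w)) c
      = QuadraticMap.polar Q x c := by
    rw [hb.add_left, sub_eq_add_neg, hb.add_left, hb.smul_left, ← neg_smul, hb.smul_left, hcc, hwc]
    ring
  rw [e1, e2]
  module

/-- dependent parameters give the identity. -/
theorem G_mulVec_of_dep (Q : (ι → F) → F) (hQ : IsNondegenerateQuadraticForm Q) {c w : ι → F}
    (hc : Q c = 0) (hw : Q w = 0) (hcw : QuadraticMap.polar Q c w = 0)
    (hdep : ¬ LinearIndependent F ![c, w]) (x : ι → F) : (G Q hQ c w : Matrix ι ι F) *ᵥ x = x := by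
  have hb := hQ.polar_bilinear
  rw [G_mulVec_ts Q hQ hc hw hcw]
  rw [LinearIndependent.pair_iff] at hdep
  push Not at hdep
  obtain ⟨s, r, hsr, hne⟩ := hdep
  have key : QuadraticMap.polar Q x w • c - QuadraticMap.polar Q x c • w = 0 := by
    by_cases hr : r = 0
    · have hs : s ≠ 0 := fun h => hne h hr
      rw [hr, zero_smul, add_zero] at hsr
      have hc0 : c = 0 := by
        rcases smul_eq_zero.mp hsr with h | h
        · exact absurd h hs
        · exact h
      have h0 : QuadraticMap.polar Q x (0 : ι → F) = 0 := by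
        have := hb.smul_right 0 x 0
        rwa [zero_smul, zero_mul] at this
      rw [hc0, smul_zero, h0, zero_smul, sub_self]
    · have hw' : w = (-(s / r)) • c := by
        have : r • w = -(s • c) := eq_neg_of_add_eq_zero_right hsr
        calc w = r⁻¹ • (r • w) := by rw [smul_smul, inv_mul_cancel₀ hr, one_smul]
          _ = r⁻¹ • (-(s • c)) := by rw [this]
          _ = (-(s / r)) • c := by rw [smul_neg, smul_smul, neg_smul]; congr 2; field_simp
      rw [hw', hb.smul_right, smul_smul, mul_comm, sub_self]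
  rw [key, add_zero]

variable {t m : ℕ} {D : Fin t → Submodule F (ι → F)}

/-- characteristic two: a long root element whose plane lies in a totally singular 3-space fixes every block. -/
theorem longRoot_maps_even (h5 : 5 ≤ Fintype.card ι) (Q : (ι → F) → F)
    (hQ : IsNondegenerateQuadraticForm Q) (hD : IsMDecomposition m D) (h2 : (2 : F) = 0)
    (hle : omegaGL Q ≤ decompositionStabilizer D) {u z e : ι → F} (hu : Q u = 0) (hz : Q z = 0)
    (he : Q e = 0) (huz : QuadraticMap.polar Q u z = 0) (hue : QuadraticMap.polar Q u e = 0)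
    (hze : QuadraticMap.polar Q z e = 0) (hli : LinearIndependent F ![u, z, e]) :
    ∀ i x, x ∈ D i → (G Q hQ u z : Matrix ι ι F) *ᵥ x ∈ D i := by
  intro i x hx
  by_contra hmove
  have hb := hQ.polar_bilinear
  have hzu : QuadraticMap.polar Q z u = 0 := by rw [QuadraticMap.polar_comm]; exact huz
  have hQadd : ∀ a b : ι → F, Q a = 0 → Q b = 0 → QuadraticMap.polar Q a b = 0 → Q (a + b) = 0 := by
    intro a b ha hb' hab
    have : Q (a + b) = Q a + Q b + QuadraticMap.polar Q a b := by
      unfold QuadraticMap.polar; ring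
    rw [this, ha, hb', hab]; ring
  have hneg : ∀ v : ι → F, -v = v := by
    intro v
    have : v + v = 0 := by rw [← two_smul F v, h2, zero_smul]
    exact neg_eq_of_add_eq_zero_left this
  -- the pair (u, z), (u, e)
  have hu_ze : QuadraticMap.polar Q u (z + e) = 0 := by rw [hb.add_right, huz, hue, add_zero]
  have h1 := two_cases_of_three hD h2
    (hle (G_mem h5 Q hQ hu huz)) (hle (G_mem h5 Q hQ hu hue)) (hle (G_mem h5 Q hQ hu hu_ze))
    (fun x => QuadraticMap.polar Q x z • u - QuadraticMap.polar Q x u • z)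
    (fun x => QuadraticMap.polar Q x e • u - QuadraticMap.polar Q x u • e)
    (fun x => G_mulVec_ts Q hQ hu hz huz x) (fun x => G_mulVec_ts Q hQ hu he hue x)
    (fun x => by
      rw [G_mulVec_ts Q hQ hu (hQadd z e hz he hze) hu_ze, hb.add_right]
      module) hx hmove
  -- the pair (z, u), (z, e)
  have hz_ue : QuadraticMap.polar Q z (u + e) = 0 := by rw [hb.add_right, hzu, hze, add_zero]
  have hmove' : (G Q hQ z u : Matrix ι ι F) *ᵥ x ∉ D i := by
    have : (G Q hQ z u : Matrix ι ι F) *ᵥ x = (G Q hQ u z : Matrix ι ι F) *ᵥ x := by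
      rw [G_mulVec_ts Q hQ hz hu hzu, G_mulVec_ts Q hQ hu hz huz]
      congr 1
      rw [← hneg (QuadraticMap.polar Q x u • z - QuadraticMap.polar Q x z • u), neg_sub]
    rw [this]
    exact hmove
  have hue' : QuadraticMap.polar Q u e = 0 := hue
  have h2' := two_cases_of_three hD h2
    (hle (G_mem h5 Q hQ hz hzu)) (hle (G_mem h5 Q hQ hz hze)) (hle (G_mem h5 Q hQ hz hz_ue))
    (fun x => QuadraticMap.polar Q x u • z - QuadraticMap.polar Q x z • u)
    (fun x => QuadraticMap.polar Q x e • z - QuadraticMap.polar Q x z • e)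
    (fun x => G_mulVec_ts Q hQ hz hu hzu x) (fun x => G_mulVec_ts Q hQ hz he hze x)
    (fun x => by
      rw [G_mulVec_ts Q hQ hz (hQadd u e hu he hue) hz_ue, hb.add_right]
      module) hx hmove'
  -- coefficients
  have hxu : QuadraticMap.polar Q x u = 0 := by
    rcases h1 with h | h
    · have h' : QuadraticMap.polar Q x e • u + (0 : F) • z + (-QuadraticMap.polar Q x u) • e = 0 := by
        rw [← h]; module
      have := (coeff3 hli h').2.2
      exact neg_eq_zero.mp this
    · have h' : (QuadraticMap.polar Q x e - QuadraticMap.polar Q x z) • u + QuadraticMap.polar Q x u • z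
          + (-QuadraticMap.polar Q x u) • e = 0 := by
        have h'' := sub_eq_zero.mpr h
        rw [← h'']; module
      exact (coeff3 hli h').2.1
  have hxz : QuadraticMap.polar Q x z = 0 := by
    rcases h2' with h | h
    · have h' : (0 : F) • u + QuadraticMap.polar Q x e • z + (-QuadraticMap.polar Q x z) • e = 0 := by
        rw [← h]; module
      have := (coeff3 hli h').2.2
      exact neg_eq_zero.mp this
    · have h' : QuadraticMap.polar Q x z • u + (QuadraticMap.polar Q x e - QuadraticMap.polar Q x u) • z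
          + (-QuadraticMap.polar Q x z) • e = 0 := by
        have h'' := sub_eq_zero.mpr h
        rw [← h'']; module
      exact (coeff3 hli h').1
  apply hmove
  rw [G_mulVec_ts Q hQ hu hz huz, hxu, hxz, zero_smul, zero_smul, sub_self, add_zero]
  exact hx

/-- **M5b**: `Ω(Q)` stabilises no decomposition into subspaces of equal dimension. -/
theorem not_le_decompositionStabilizer_omega_of_seven (h7 : 7 ≤ Fintype.card ι) (Q : (ι → F) → F)
    (hQ : IsNondegenerateQuadraticForm Q) (hD : IsMDecomposition m D) :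
    ¬ omegaGL Q ≤ decompositionStabilizer D := by
  intro hle
  have h5 : 5 ≤ Fintype.card ι := by omega
  have hfin : 7 ≤ finrank F (ι → F) := by rw [Module.finrank_fintype_fun_eq_card]; exact h7
  have hker : omegaGL Q ≤ blockKernel D := by
    apply omegaGL_le_of_longRoot h5 Q hQ
    intro c w hc hw hcw
    show G Q hQ c w ∈ blockKernel D
    have hmem : G Q hQ c w ∈ decompositionStabilizer D := hle (G_mem h5 Q hQ hc hcw)
    apply mem_blockKernel_of_maps hD hmem
    by_cases hli : LinearIndependent F ![c, w]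
    · by_cases h2 : (2 : F) = 0
      · obtain ⟨e, he, hce, hwe, hli3⟩ := exists_third (toQF Q hQ) (toQF_nondeg Q hQ) hfin (u := c) (z := w)
          hw hcw hli
        exact longRoot_maps_even h5 Q hQ hD h2 hle hc hw he hcw hce hwe hli3
      · exact maps_of_sq hD h2 hmem (G_sq Q hQ hc hw hcw)
    · intro i x hx
      rw [G_mulVec_of_dep Q hQ hc hw hcw hli]
      exact hx
  have ht := hD.two_le
  have h0 : D ⟨0, by omega⟩ ≠ ⊥ := by
    intro h
    have := hD.finrank_eq ⟨0, by omega⟩
    rw [h, finrank_bot] at this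
    have := hD.pos
    omega
  have h1 : D ⟨0, by omega⟩ ≠ ⊤ := by
    intro h
    obtain ⟨x, hx, hx0⟩ := exists_ne_zero_block hD ⟨1, by omega⟩
    apply hx0
    apply eq_zero_of_mem_others hD hx
    have hne : (⟨0, by omega⟩ : Fin t) ≠ ⟨1, by omega⟩ := by
      intro h'
      have := congrArg Fin.val h'
      simp at this
    apply mem_others D hne
    rw [h]
    trivial
  exact not_le_subspaceStabilizer_omega_of_five h5 Q hQ _ h0 h1 (hker.trans (blockKernel_le_stab D _))

end matrix

/-- **M5b** (exact stub). -/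
theorem not_le_decompositionStabilizer_omega_gen [Fintype F] {n : ℕ} (hn : 8 ≤ n) (Q : (Fin n → F) → F)
    (hQ : IsNondegenerateQuadraticForm Q) {t : ℕ} (m : ℕ) (D : Fin t → Submodule F (Fin n → F))
    (hD : IsMDecomposition m D) : ¬ omegaGL Q ≤ decompositionStabilizer D :=
  not_le_decompositionStabilizer_omega_of_seven (by rw [Fintype.card_fin]; omega) Q hQ hD

end Cfsg.Agent.Helper7.AschOm
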