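import Mathlib
import Cfsg.Agent.Lead.BswDefs
import Cfsg.Agent.Helper7.Bsw_A31_35
import Cfsg.Agent.Helper5.Bsw_A13_20
import Cfsg.Agent.Helper5.Bsw_A21_27

/-!
S3282 swarm (architect: lead), pieces B1–B9: real elements, tori of the second kind (basics).
-/

set_option autoImplicit false
namespace Cfsg.Agent.Lead.Bsw
variable {G : Type*} [Group G] [Finite G] {t s : G} {K : Subgroup G}

theorem h7_mem_cent_iff {x y : G} : x ∈ Subgroup.centralizer ({y} : Set G) ↔ x * y = y * x :=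
  Subgroup.mem_centralizer_singleton_iff

theorem h7_self_mem_cent (y : G) : y ∈ Subgroup.centralizer ({y} : Set G) :=
  h7_mem_cent_iff.2 rfl

theorem h7_cent_symm {x y : G} (h : x ∈ Subgroup.centralizer ({y} : Set G)) :
    y ∈ Subgroup.centralizer ({x} : Set G) :=
  h7_mem_cent_iff.2 (h7_mem_cent_iff.1 h).symm

/-- a subgroup of even order contains an involution -/
theorem h7_exists_inv_of_even (H : Subgroup G) (hH : Even (Nat.card H)) :
    ∃ w : G, w ∈ H ∧ orderOf w = 2 := by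
  haveI : Fact (Nat.Prime 2) := ⟨Nat.prime_two⟩
  obtain ⟨w, hw⟩ := exists_prime_orderOf_dvd_card' (G := H) 2 (even_iff_two_dvd.1 hH)
  exact ⟨w.1, w.2, by rw [← hw, Subgroup.orderOf_coe]⟩

/-- an element of a subgroup of odd order has odd order -/
theorem h7_odd_orderOf (H : Subgroup G) (hH : Odd (Nat.card H)) {a : G} (ha : a ∈ H) :
    Odd (orderOf a) := by
  have h1 : orderOf (⟨a, ha⟩ : H) ∣ Nat.card H := orderOf_dvd_natCard _
  rw [Subgroup.orderOf_mk] at h1
  exact Odd.of_dvd_nat hH h1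

theorem h7_sq_ne_of_odd {a : G} (ha : Odd (orderOf a)) (ha1 : a ≠ 1) : a * a ≠ 1 ∧ orderOf a ≠ 2 := by
  constructor
  · intro h2
    have hd : orderOf a ∣ 2 := orderOf_dvd_of_pow_eq_one (by rw [sq]; exact h2)
    have h12 : orderOf a = 1 ∨ orderOf a = 2 := (Nat.dvd_prime Nat.prime_two).1 hd
    rcases h12 with h | h
    · exact ha1 (orderOf_eq_one_iff.1 h)
    · rw [h] at ha; exact absurd ha (by decide)
  · intro h
    rw [h] at ha; exact absurd ha (by decide)

-- B1 : a real non-involution lies in some K_w or has centralizer of odd order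
theorem real_dichotomy (h : Hyp t K s) {x : G} (hx1 : x ≠ 1) (hx2 : orderOf x ≠ 2) (hr : IsReal x) :
    (∃ w : G, orderOf w = 2 ∧ x ∈ Kz w) ∨ IsTorusElt x := by
  by_cases hodd : Odd (Nat.card (Subgroup.centralizer ({x} : Set G)))
  · exact Or.inr ⟨hx1, hr, hodd⟩
  · left
    rw [Nat.not_odd_iff_even] at hodd
    obtain ⟨w, hwC, hw⟩ := h7_exists_inv_of_even _ hodd
    exact ⟨w, hw, mem_Kz_of_cent h hw (h7_cent_symm hwC) hx2⟩

-- B2 : exclusivity
theorem even_card_cent_of_mem_Kz (h : Hyp t K s) {x w : G} (hw : orderOf w = 2) (hx : x ∈ Kz w) :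
    Even (Nat.card (Subgroup.centralizer ({x} : Set G))) := by
  have hxw : x ∈ Subgroup.centralizer ({w} : Set G) := Kz_le_cent h hw hx
  have hwx : w ∈ Subgroup.centralizer ({x} : Set G) := h7_cent_symm hxw
  have h1 : orderOf (⟨w, hwx⟩ : Subgroup.centralizer ({x} : Set G)) ∣
      Nat.card (Subgroup.centralizer ({x} : Set G)) := orderOf_dvd_natCard _
  rw [Subgroup.orderOf_mk, hw] at h1
  exact even_iff_two_dvd.2 h1

-- B3 : elements of K_w other than 1, w are real
theorem isReal_of_mem_Kz (h : Hyp t K s) {x w : G} (hw : orderOf w = 2) (hx : x ∈ Kz w) : IsReal x := by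
  have hle : Kz w ≤ Subgroup.centralizer ({w} : Set G) := Kz_le_cent h hw
  have hne : Kz w ≠ Subgroup.centralizer ({w} : Set G) := by
    intro he
    have h1 := card_Kz h hw
    have h2 := card_cent_inv h hw
    rw [← he, h1] at h2
    have hpos : 0 < Nat.card K := Nat.card_pos
    omega
  obtain ⟨u, huC, huK⟩ := SetLike.exists_of_lt (lt_of_le_of_ne hle hne)
  obtain ⟨hu2, hinv⟩ := cent_diff_Kz h hw huC huK
  exact ⟨u, hu2, hinv x hx⟩

-- B4 : torus elements have odd order, in particular are not involutions and x*x ≠ 1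
theorem torusElt_sq_ne (h : Hyp t K s) {y : G} (hy : IsTorusElt y) : y * y ≠ 1 ∧ orderOf y ≠ 2 :=
  h7_sq_ne_of_odd (h7_odd_orderOf _ hy.2.2 (h7_self_mem_cent y)) hy.1

-- B5 : an involution inverting y has no nontrivial fixed point on A = C(y)
theorem torus_fpf (h : Hyp t K s) {y z a : G} (hy : IsTorusElt y) (hz : orderOf z = 2)
    (hzN : z ∈ Subgroup.normalizer ((Subgroup.centralizer ({y} : Set G) : Subgroup G) : Set G))
    (ha : a ∈ Subgroup.centralizer ({y} : Set G)) (hza : z * a * z⁻¹ = a) : a = 1 := by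
  by_contra ha1
  have hodd := h7_odd_orderOf _ hy.2.2 ha
  obtain ⟨hsq, ho2⟩ := h7_sq_ne_of_odd hodd ha1
  have haz : a ∈ Subgroup.centralizer ({z} : Set G) := by
    rw [h7_mem_cent_iff]
    calc a * z = (z * a * z⁻¹) * z := by rw [hza]
      _ = z * a := by group
  have haK : a ∈ Kz z := mem_Kz_of_cent h hz haz ho2
  have hC : Subgroup.centralizer ({a} : Set G) = Kz z := cent_of_mem_Kz h hz haK hsq
  have hyK : y ∈ Kz z := by rw [← hC]; exact h7_cent_symm ha
  have hev := even_card_cent_of_mem_Kz h hz hyK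
  exact (Nat.not_even_iff_odd.2 hy.2.2) hev

-- B6 : every involution normalizing A inverts A
theorem torus_inverts (h : Hyp t K s) {y z : G} (hy : IsTorusElt y) (hz : orderOf z = 2)
    (hzN : z ∈ Subgroup.normalizer ((Subgroup.centralizer ({y} : Set G) : Subgroup G) : Set G)) :
    ∀ a ∈ Subgroup.centralizer ({y} : Set G), z * a * z⁻¹ = a⁻¹ := by
  let A : Subgroup G := Subgroup.centralizer ({y} : Set G)
  let φ : A →* A :=
    { toFun := fun a => ⟨z * a.1 * z⁻¹, (Subgroup.mem_normalizer_iff.1 hzN a.1).1 a.2⟩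
      map_one' := by apply Subtype.ext; show z * 1 * z⁻¹ = 1; group
      map_mul' := by
        intro a b
        apply Subtype.ext
        show z * (a.1 * b.1) * z⁻¹ = (z * a.1 * z⁻¹) * (z * b.1 * z⁻¹)
        group }
  have hφ : MonoidHom.FixedPointFree φ := by
    intro a ha
    have h1 : z * a.1 * z⁻¹ = a.1 := congrArg Subtype.val ha
    exact Subtype.ext (torus_fpf h hy hz hzN a.2 h1)
  have h2 : Function.Involutive φ := by
    intro a
    apply Subtype.ext
    show z * (z * a.1 * z⁻¹) * z⁻¹ = a.1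
    have hzz := h7_mul_self hz
    have hzi := h7_inv_eq_self hz
    rw [hzi]
    calc z * (z * a.1 * z) * z = (z * z) * a.1 * (z * z) := by group
      _ = a.1 := by rw [hzz, one_mul, mul_one]
  have key := hφ.coe_eq_inv_of_involutive h2
  intro a ha
  have := congrFun key ⟨a, ha⟩
  exact congrArg Subtype.val this

-- B7 : an involution inverting y normalizes A
theorem inverter_mem_normalizer {y z : G} (hzy : z * y * z⁻¹ = y⁻¹) :
    z ∈ Subgroup.normalizer ((Subgroup.centralizer ({y} : Set G) : Subgroup G) : Set G) := by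
  have hzy' : z⁻¹ * y * z = y⁻¹ := by
    have : y = z⁻¹ * y⁻¹ * z := by
      rw [← hzy]; group
    calc z⁻¹ * y * z = (z⁻¹ * y⁻¹ * z)⁻¹ := by group
      _ = y⁻¹ := by rw [← this]
  rw [Subgroup.mem_normalizer_iff]
  intro a
  rw [h7_mem_cent_iff, h7_mem_cent_iff]
  constructor
  · intro ha
    -- (z a z⁻¹) y = z a (z⁻¹ y z) z⁻¹ = z a y⁻¹ z⁻¹ = z y⁻¹ a z⁻¹ = y (z a z⁻¹)
    have ha' : a * y⁻¹ = y⁻¹ * a := by
      calc a * y⁻¹ = y⁻¹ * (y * a) * y⁻¹ := by group
        _ = y⁻¹ * (a * y) * y⁻¹ := by rw [ha]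
        _ = y⁻¹ * a := by group
    calc z * a * z⁻¹ * y = z * (a * (z⁻¹ * y * z)) * z⁻¹ := by group
      _ = z * (a * y⁻¹) * z⁻¹ := by rw [hzy']
      _ = z * (y⁻¹ * a) * z⁻¹ := by rw [ha']
      _ = (z * y * z⁻¹)⁻¹ * (z * a * z⁻¹) := by group
      _ = y * (z * a * z⁻¹) := by rw [hzy, inv_inv]
  · intro ha
    -- a y = z⁻¹ (z a z⁻¹)(z y z⁻¹) z
    have ha' : (z * a * z⁻¹) * y⁻¹ = y⁻¹ * (z * a * z⁻¹) := by
      calc (z * a * z⁻¹) * y⁻¹ = y⁻¹ * (y * (z * a * z⁻¹)) * y⁻¹ := by group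
        _ = y⁻¹ * ((z * a * z⁻¹) * y) * y⁻¹ := by rw [ha]
        _ = y⁻¹ * (z * a * z⁻¹) := by group
    calc a * y = z⁻¹ * ((z * a * z⁻¹) * (z * y * z⁻¹)) * z := by group
      _ = z⁻¹ * ((z * a * z⁻¹) * y⁻¹) * z := by rw [hzy]
      _ = z⁻¹ * (y⁻¹ * (z * a * z⁻¹)) * z := by rw [ha']
      _ = (z⁻¹ * y * z)⁻¹ * a := by group
      _ = y * a := by rw [hzy', inv_inv]

-- B8 : A is abelian
theorem torus_comm (h : Hyp t K s) {y : G} (hy : IsTorusElt y) :
    ∀ a ∈ Subgroup.centralizer ({y} : Set G), ∀ b ∈ Subgroup.centralizer ({y} : Set G), a * b = b * a := by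
  obtain ⟨z, hz, hzy⟩ := hy.2.1
  have hzN := inverter_mem_normalizer hzy
  have hinv := torus_inverts h hy hz hzN
  intro a ha b hb
  have hab := hinv (a * b) (Subgroup.mul_mem _ ha hb)
  have e1 : z * (a * b) * z⁻¹ = (z * a * z⁻¹) * (z * b * z⁻¹) := by group
  rw [e1, hinv a ha, hinv b hb] at hab
  -- a⁻¹ b⁻¹ = (a b)⁻¹ = b⁻¹ a⁻¹
  have : (b * a)⁻¹ = (a * b)⁻¹ := by rw [← hab]; group
  exact (inv_injective this).symm

-- B9 : C(a) = A for every a in A, a ≠ 1, and a is again a torus element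
theorem torus_cent (h : Hyp t K s) {y a : G} (hy : IsTorusElt y)
    (ha : a ∈ Subgroup.centralizer ({y} : Set G)) (ha1 : a ≠ 1) :
    Subgroup.centralizer ({a} : Set G) = Subgroup.centralizer ({y} : Set G) ∧ IsTorusElt a := by
  obtain ⟨z, hz, hzy⟩ := hy.2.1
  have hzN := inverter_mem_normalizer hzy
  have hinv := torus_inverts h hy hz hzN
  have hodd := h7_odd_orderOf _ hy.2.2 ha
  obtain ⟨hsq, ho2⟩ := h7_sq_ne_of_odd hodd ha1
  have hreal : IsReal a := ⟨z, hz, hinv a ha⟩
  have hT : IsTorusElt a := by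
    rcases real_dichotomy h ha1 ho2 hreal with ⟨w, hw, haw⟩ | hT
    · exfalso
      have hC : Subgroup.centralizer ({a} : Set G) = Kz w := cent_of_mem_Kz h hw haw hsq
      have hyK : y ∈ Kz w := by rw [← hC]; exact h7_cent_symm ha
      exact (Nat.not_even_iff_odd.2 hy.2.2) (even_card_cent_of_mem_Kz h hw hyK)
    · exact hT
  refine ⟨?_, hT⟩
  apply le_antisymm
  · -- C(a) abelian, contains y and any c ∈ C(a): c commutes with y
    intro c hc
    have hya : y ∈ Subgroup.centralizer ({a} : Set G) := h7_cent_symm ha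
    rw [h7_mem_cent_iff]
    exact torus_comm h hT c hc y hya
  · intro c hc
    rw [h7_mem_cent_iff]
    exact torus_comm h hy c hc a ha

end Cfsg.Agent.Lead.Bsw
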