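import Mathlib
import Cfsg.Prelude.Def_GeometricClasses
import Cfsg.Agent.Helper7.TransvectionGL

/-!
# ASCH-PP piece T5 (helper7): `SL_n(F)` is not contained in a tensor-wreath subgroup

Every element of the standard tensor-wreath group maps decomposable vectors `⊗ vᵢ` to decomposable vectors; a
transvection `1 + E_{xy}` with `x`, `y` differing in every coordinate does not.
-/

set_option autoImplicit false

namespace Cfsg.Agent.Helper7.AschPP

open Cfsg Cfsg.Geo Matrix Cfsg.Agent.Helper7.TGL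
open scoped MatrixGroups Matrix

variable {F : Type*} [Field F] {m t : ℕ}

/-- the decomposable vector `⊗ vᵢ` -/
def dec (v : Fin t → Fin m → F) : (Fin t → Fin m) → F := fun x => ∏ i, v i (x i)

theorem dec_apply (v : Fin t → Fin m → F) (x : Fin t → Fin m) : dec v x = ∏ i, v i (x i) := rfl

/-- a pure tensor maps `⊗ vᵢ` to `⊗ gᵢ vᵢ` -/
theorem pure_mulVec_dec (g : Matrix (Fin t → Fin m) (Fin t → Fin m) F) (gs : Fin t → Matrix (Fin m) (Fin m) F)
    (hgs : ∀ x y, g x y = ∏ i, gs i (x i) (y i)) (v : Fin t → Fin m → F) :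
    g *ᵥ dec v = dec (fun i => gs i *ᵥ v i) := by
  funext x
  rw [dec_apply]
  simp only [Matrix.mulVec, dotProduct]
  rw [Finset.prod_univ_sum, Fintype.piFinset_univ]
  refine Finset.sum_congr rfl fun y _ => ?_
  rw [hgs, dec_apply, ← Finset.prod_mul_distrib]

/-- a factor permutation maps `⊗ vᵢ` to `⊗ v_{σ⁻¹ i}` -/
theorem perm_mulVec_dec (g : Matrix (Fin t → Fin m) (Fin t → Fin m) F) (σ : Equiv.Perm (Fin t))
    (hσ : ∀ x y, g x y = if y = x ∘ σ then 1 else 0) (v : Fin t → Fin m → F) :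
    g *ᵥ dec v = dec (fun i => v (σ.symm i)) := by
  funext x
  simp only [Matrix.mulVec, dotProduct]
  rw [Finset.sum_eq_single (x ∘ σ)]
  · rw [hσ, if_pos rfl, one_mul, dec_apply, dec_apply]
    rw [← Equiv.prod_comp σ (fun j => v (σ.symm j) (x j))]
    refine Finset.prod_congr rfl fun i _ => ?_
    rw [Equiv.symm_apply_apply]
    rfl
  · intro y _ hy
    rw [hσ, if_neg hy, zero_mul]
  · intro h
    exact absurd (Finset.mem_univ _) h

/-- `g` and `g⁻¹` preserve the set of decomposable vectors -/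
def PresDec (g : GL (Fin t → Fin m) F) : Prop :=
  (∀ v : Fin t → Fin m → F, ∃ w : Fin t → Fin m → F,
      (g : Matrix (Fin t → Fin m) (Fin t → Fin m) F) *ᵥ dec v = dec w) ∧
  (∀ v : Fin t → Fin m → F, ∃ w : Fin t → Fin m → F,
      ((g⁻¹ : GL (Fin t → Fin m) F) : Matrix (Fin t → Fin m) (Fin t → Fin m) F) *ᵥ dec v = dec w)

theorem inv_mulVec_of_mulVec (g : GL (Fin t → Fin m) F) {a b : (Fin t → Fin m) → F}
    (h : (g : Matrix (Fin t → Fin m) (Fin t → Fin m) F) *ᵥ a = b) :
    ((g⁻¹ : GL (Fin t → Fin m) F) : Matrix (Fin t → Fin m) (Fin t → Fin m) F) *ᵥ b = a := by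
  rw [← h, Matrix.mulVec_mulVec, ← Units.val_mul, inv_mul_cancel, Units.val_one, Matrix.one_mulVec]

theorem presDec_of_mem {g : GL (Fin t → Fin m) F} (hg : g ∈ tensorWreathStandard m t F) : PresDec g := by
  unfold tensorWreathStandard at hg
  induction hg using Subgroup.closure_induction with
  | mem x hx =>
    rcases hx with ⟨gs, hgs⟩ | ⟨σ, hσ⟩
    · refine ⟨fun v => ⟨_, pure_mulVec_dec _ (fun i => (gs i : Matrix (Fin m) (Fin m) F)) hgs v⟩, fun v => ?_⟩
      refine ⟨fun i => ((gs i)⁻¹ : GL (Fin m) F).val *ᵥ v i, ?_⟩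
      apply inv_mulVec_of_mulVec
      rw [pure_mulVec_dec _ (fun i => (gs i : Matrix (Fin m) (Fin m) F)) hgs]
      congr 1
      funext i
      rw [Matrix.mulVec_mulVec, ← Units.val_mul, mul_inv_cancel, Units.val_one, Matrix.one_mulVec]
    · refine ⟨fun v => ⟨_, perm_mulVec_dec _ σ hσ v⟩, fun v => ?_⟩
      refine ⟨fun i => v (σ i), ?_⟩
      apply inv_mulVec_of_mulVec
      rw [perm_mulVec_dec _ σ hσ]
      congr 1
      funext i
      rw [Equiv.apply_symm_apply]
  | one =>
    refine ⟨fun v => ⟨v, ?_⟩, fun v => ⟨v, ?_⟩⟩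
    · rw [Units.val_one, Matrix.one_mulVec]
    · rw [inv_one, Units.val_one, Matrix.one_mulVec]
  | mul x y _ _ hx hy =>
    refine ⟨fun v => ?_, fun v => ?_⟩
    · obtain ⟨w, hw⟩ := hy.1 v
      obtain ⟨w', hw'⟩ := hx.1 w
      exact ⟨w', by rw [Units.val_mul, ← Matrix.mulVec_mulVec, hw, hw']⟩
    · obtain ⟨w, hw⟩ := hx.2 v
      obtain ⟨w', hw'⟩ := hy.2 w
      exact ⟨w', by rw [_root_.mul_inv_rev, Units.val_mul, ← Matrix.mulVec_mulVec, hw, hw']⟩
  | inv x _ hx =>
    refine ⟨hx.2, ?_⟩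
    rw [inv_inv]
    exact hx.1

/-- the standard basis vector `e_y` is decomposable -/
theorem single_eq_dec (y : Fin t → Fin m) :
    (Pi.single y 1 : (Fin t → Fin m) → F) = dec (fun i => Pi.single (y i) 1) := by
  funext z
  rw [dec_apply]
  by_cases h : z = y
  · subst h
    simp
  · rw [Pi.single_eq_of_ne h]
    obtain ⟨i, hi⟩ : ∃ i, z i ≠ y i := by
      by_contra hcon
      push Not at hcon
      exact h (funext hcon)
    symm
    apply Finset.prod_eq_zero (Finset.mem_univ i)
    rw [Pi.single_eq_of_ne hi]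

/-- `e_x + e_y` is not decomposable when `x` and `y` differ in two coordinates -/
theorem single_add_single_ne_dec {x y : Fin t → Fin m} {i₀ i₁ : Fin t} (h01 : i₀ ≠ i₁) (h0 : x i₀ ≠ y i₀)
    (h1 : x i₁ ≠ y i₁) (w : Fin t → Fin m → F) :
    (Pi.single y 1 + Pi.single x 1 : (Fin t → Fin m) → F) ≠ dec w := by
  intro h
  have hxy : x ≠ y := fun hh => h0 (congrFun hh i₀)
  have hx := congrFun h x
  have hy := congrFun h y
  rw [Pi.add_apply, Pi.single_eq_of_ne hxy, Pi.single_eq_same, zero_add, dec_apply] at hx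
  rw [Pi.add_apply, Pi.single_eq_of_ne (Ne.symm hxy), Pi.single_eq_same, add_zero, dec_apply] at hy
  have hxi : ∀ i, w i (x i) ≠ 0 := by
    intro i hi
    rw [Finset.prod_eq_zero (Finset.mem_univ i) hi] at hx
    exact one_ne_zero hx
  have hyi : ∀ i, w i (y i) ≠ 0 := by
    intro i hi
    rw [Finset.prod_eq_zero (Finset.mem_univ i) hi] at hy
    exact one_ne_zero hy
  let z : Fin t → Fin m := Function.update y i₀ (x i₀)
  have hz0 : z i₀ = x i₀ := Function.update_self _ _ _
  have hz1 : z i₁ = y i₁ := Function.update_of_ne (Ne.symm h01) _ _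
  have hzy : z ≠ y := fun hh => h0 (by rw [← hz0, hh])
  have hzx : z ≠ x := fun hh => h1 (by rw [← hz1, hh])
  have hz := congrFun h z
  rw [Pi.add_apply, Pi.single_eq_of_ne hzy, Pi.single_eq_of_ne hzx, add_zero, dec_apply] at hz
  have : ∏ i, w i (z i) ≠ 0 := by
    rw [Finset.prod_ne_zero_iff]
    intro i _
    by_cases hi : i = i₀
    · subst hi
      rw [hz0]
      exact hxi i
    · rw [show z i = y i from Function.update_of_ne hi _ _]
      exact hyi i
  exact this hz.symm

/-- T5: NOT-lemma for class 7. -/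
theorem not_le_tensorWreathSubgroup {n : ℕ} (m t : ℕ) (hm : 2 ≤ m) (ht : 2 ≤ t) (e : Fin n ≃ (Fin t → Fin m))
    (P : GL (Fin n) F) : ¬ specialLinear (Fin n) F ≤ tensorWreathSubgroup m t e P := by
  intro hle
  let x : Fin t → Fin m := fun _ => ⟨1, by omega⟩
  let y : Fin t → Fin m := fun _ => ⟨0, by omega⟩
  have hxy : ∀ i, x i ≠ y i := by
    intro i h
    have := congrArg Fin.val h
    simp [x, y] at this
  have hne : y ≠ x := fun h => hxy ⟨0, by omega⟩ (congrFun h.symm ⟨0, by omega⟩)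
  have hdot : (Pi.single y 1 : (Fin t → Fin m) → F) ⬝ᵥ Pi.single x 1 = 0 := by
    rw [single_dotProduct, one_mul, Pi.single_eq_of_ne hne]
  let g₀ : GL (Fin t → Fin m) F := tau (Pi.single x 1) (Pi.single y 1) hdot
  let g : GL (Fin n) F := MulAut.conj P (glReindex e.symm g₀)
  have hg : g ∈ specialLinear (Fin n) F := by
    have h0 := tau_mem_specialLinear (Pi.single x 1 : (Fin t → Fin m) → F) (Pi.single y 1) hdot
    unfold specialLinear at h0 ⊢
    rw [MonoidHom.mem_ker] at h0 ⊢
    change Matrix.GeneralLinearGroup.det (P * glReindex e.symm g₀ * P⁻¹) = 1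
    rw [map_mul, map_mul, map_inv, mul_comm, ← mul_assoc, inv_mul_cancel, one_mul]
    rw [← h0]
    apply Units.ext
    change (Matrix.reindex e.symm e.symm (g₀ : Matrix (Fin t → Fin m) (Fin t → Fin m) F)).det = _
    rw [Matrix.det_reindex_self]
    rfl
  have hmem := hle hg
  unfold tensorWreathSubgroup at hmem
  rw [Subgroup.mem_map_equiv, Subgroup.mem_map_equiv] at hmem
  have hg₀ : g₀ ∈ tensorWreathStandard m t F := by
    have : (glReindex e.symm).symm ((MulAut.conj P).symm g) = g₀ := by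
      change (glReindex e.symm).symm ((MulAut.conj P).symm (MulAut.conj P (glReindex e.symm g₀))) = g₀
      rw [MulEquiv.symm_apply_apply, MulEquiv.symm_apply_apply]
    rwa [this] at hmem
  obtain ⟨w, hw⟩ := (presDec_of_mem hg₀).1 (fun i => Pi.single (y i) 1)
  rw [← single_eq_dec, tau_mulVec, single_dotProduct, one_mul, Pi.single_eq_same, one_smul] at hw
  have h01 : (⟨0, by omega⟩ : Fin t) ≠ ⟨1, by omega⟩ := by
    intro h; have := congrArg Fin.val h; simp at this
  exact single_add_single_ne_dec (x := x) (y := y) h01 (hxy ⟨0, by omega⟩) (hxy ⟨1, by omega⟩) w hw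

end Cfsg.Agent.Helper7.AschPP
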