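import Mathlib
import Cfsg.Agent.Helper7.ChevRee18

set_option autoImplicit false
set_option linter.unusedSectionVars false
set_option linter.unusedVariables false

/-!
The subgroup `φ_{a+b}(θ g) φ_{3a+b}(g)` (`g ∈ SL₂(K)`) of the twisted group of type `G₂`, and the elements
`h(s)` of its torus.
-/

namespace Cfsg.Agent.Helper7.Chev

open Cfsg Cfsg.Lie Matrix

variable {K : Type*} [Field K] [CharP K 3] {m : ℕ}

theorem ortho_G2_8_10 : Ortho chevG2 8 10 := by decide +kernel

/-- The list of the two homomorphisms `g ↦ φ_{a+b}(θ g)` and `φ_{3a+b}`. -/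
noncomputable def reePhiList (K : Type*) [Field K] [CharP K 3] (m : ℕ) :
    List (Matrix.SpecialLinearGroup (Fin 2) K →* GL chevG2.Idx K) :=
  [(phiHom good3_G2.toGood1 (r := 8) (by decide)).comp (Matrix.SpecialLinearGroup.map (reeTh K m)),
    phiHom good3_G2.toGood1 (r := 10) (by decide)]

theorem reePhiList_pairwise :
    (reePhiList K m).Pairwise fun φ ψ => ∀ x y, Commute (φ x) (ψ y) := by
  unfold reePhiList
  simp only [List.pairwise_cons, List.mem_cons, List.not_mem_nil, or_false, forall_eq,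
    IsEmpty.forall_iff, implies_true, List.Pairwise.nil, and_true]
  intro x y
  exact phiHom_commute good3_G2.toGood2 good3_G2.t3 good3_G2.t4 (by decide) (by decide) ortho_G2_8_10 _ _

/-- The homomorphism `g ↦ φ_{a+b}(θ g) φ_{3a+b}(g)`. -/
noncomputable def reePhi (K : Type*) [Field K] [CharP K 3] (m : ℕ) :
    Matrix.SpecialLinearGroup (Fin 2) K →* GL chevG2.Idx K :=
  listHom (reePhiList K m) reePhiList_pairwise

theorem reePhi_apply (g : Matrix.SpecialLinearGroup (Fin 2) K) :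
    reePhi K m g = phiHom good3_G2.toGood1 (r := 8) (by decide)
        (Matrix.SpecialLinearGroup.map (reeTh K m) g) *
      phiHom good3_G2.toGood1 (r := 10) (by decide) g := by
  change listHomFun (reePhiList K m) g = _
  unfold listHomFun reePhiList
  simp only [List.map_cons, List.map_nil, List.prod_cons, List.prod_nil, mul_one]
  rfl

theorem ru_zero_mid (u : K) : ru m 0 u 0 = gx K 8 (reeTh K m u) * gx K 10 u := by
  unfold ru uA
  rw [gA_eq]
  simp only [map_zero, mul_zero, zero_add, gx_zero, one_mul, mul_one, ne_eq, OfNat.ofNat_ne_zero,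
    not_false_eq_true, zero_pow]

theorem reePhi_upper (c : K) : reePhi K m (upperSL c) = ru m 0 c 0 := by
  rw [reePhi_apply, map_upperSL, phiHom_upper', phiHom_upper', ru_zero_mid]
  rfl

theorem nuGL_gx (r : Fin 12) (t : K) (r' : Fin 12) (h : chevG2.neg r.val = r'.val) :
    nuGL good3_G2.toGood1 (gx K r t) = gx K r' (-t) := by
  unfold gx
  rw [nuGL_xGL good3_G2.toGood1 T25_G2 r.2 t]
  exact xGL_congr' good3_G2.toGood1 h _ _ _

theorem reePhi_lower (c : K) : reePhi K m (lowerSL c) = rv m 0 (-c) 0 := by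
  rw [reePhi_apply, map_lowerSL, phiHom_lower', phiHom_lower']
  unfold rv
  rw [ru_zero_mid, map_mul, nuGL_gx 8 _ 3 (by decide), nuGL_gx 10 _ 1 (by decide), _root_.map_neg,
    neg_neg, neg_neg]
  rfl

/-- The image of `reePhi` lies in the twisted group. -/
theorem reePhi_mem (g : Matrix.SpecialLinearGroup (Fin 2) K) : reePhi K m g ∈ twistedG2 K (3 ^ m) := by
  have h : (⊤ : Subgroup (Matrix.SpecialLinearGroup (Fin 2) K)) ≤
      (twistedG2 K (3 ^ m)).comap (reePhi K m) := by
    rw [← sl2_generated, Subgroup.closure_le]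
    rintro x (⟨t, rfl⟩ | ⟨t, rfl⟩)
    · show reePhi K m (upperSL t) ∈ twistedG2 K (3 ^ m)
      rw [reePhi_upper]
      exact ru_mem_twisted _ _ _
    · show reePhi K m (lowerSL t) ∈ twistedG2 K (3 ^ m)
      rw [reePhi_lower]
      exact rv_mem_twisted _ _ _
  exact h (Subgroup.mem_top g)

theorem cr_G2_8 : cr chevG2 8 0 = 1 ∧ cr chevG2 8 1 = 3 ∧ cr chevG2 10 0 = 1 ∧ cr chevG2 10 1 = 1 := by
  decide

variable (hm : ∀ t : K, t ^ 3 ^ (2 * m + 1) = t)

include hm in
/-- The image of the diagonal element of `SL₂`. -/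
theorem reePhi_diag (c : Kˣ) :
    reePhi K m (diagSL (c : K) c.ne_zero) = gh K m (Units.map (reeTh K (m + 1) : K →* K) c * c) := by
  rw [reePhi_apply, map_diagSL]
  apply Units.ext
  have hθc : reeTh K m (c : K) ≠ 0 := (map_ne_zero _).mpr c.ne_zero
  change ((hGL good3_G2.toGood1 (r := 8) (by decide) (reeTh K m (c : K)) hθc *
    hGL good3_G2.toGood1 (r := 10) (by decide) (c : K) c.ne_zero : GL chevG2.Idx K) :
      Matrix chevG2.Idx chevG2.Idx K) = _
  rw [Units.val_mul, hGL_coe, hGL_coe, hMat_eq_tMat good3_G2.toGood1 (by decide) hθc,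
    hMat_eq_tMat good3_G2.toGood1 (by decide) c.ne_zero, tMat_mul, gh_apply]
  unfold tG2
  rw [torusHom_apply, tGL_coe]
  apply tMat_congr
  intro i hi
  have hi2 : i < 2 := hi
  obtain ⟨h1, h2, h3, h4⟩ := cr_G2_8
  interval_cases i
  · rw [h1, h3]
    unfold extc
    rw [dif_pos (by decide)]
    change _ = reeTh K m (reeTh K (m + 1) (c : K) * (c : K))
    rw [map_mul, reeTh_reeTh_succ hm]
    simp only [zpow_one]
    ring
  · rw [h2, h4]
    unfold extc
    rw [dif_pos (by decide)]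
    change _ = reeTh K (m + 1) (c : K) * (c : K)
    rw [reeTh_succ]
    simp only [zpow_one]
    norm_cast

include hm in
theorem gh_thetaMul_mem (c : Kˣ) :
    gh K m (Units.map (reeTh K (m + 1) : K →* K) c * c) ∈ twistedG2 K (3 ^ m) := by
  rw [← reePhi_diag hm]
  exact reePhi_mem _

include hm in
/-- `h(y²)` lies in the twisted group. -/
theorem gh_sq_mem (y : Kˣ) : gh K m (y ^ 2) ∈ twistedG2 K (3 ^ m) := by
  have key : Units.map (reeTh K (m + 1) : K →* K) (y ^ (3 * 3 ^ m - 1)) * y ^ (3 * 3 ^ m - 1) = y ^ 2 := by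
    apply Units.ext
    have hy : (y : K) ≠ 0 := y.ne_zero
    change reeTh K (m + 1) ((y ^ (3 * 3 ^ m - 1) : Kˣ) : K) * ((y ^ (3 * 3 ^ m - 1) : Kˣ) : K) =
      ((y ^ 2 : Kˣ) : K)
    rw [reeTh_apply, Units.val_pow_eq_pow_val, Units.val_pow_eq_pow_val, ← pow_mul, ← pow_add]
    have h3 : 1 ≤ 3 * 3 ^ m := Nat.one_le_iff_ne_zero.mpr (by positivity)
    have e : ((3 * 3 ^ m - 1) * 3 ^ (m + 1) + (3 * 3 ^ m - 1)) + 1 = 3 ^ (2 * m + 1) * 3 := by
      obtain ⟨k, hk⟩ : ∃ k, 3 * 3 ^ m = k + 1 := ⟨3 * 3 ^ m - 1, by omega⟩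
      have e1 : 3 ^ (m + 1) = k + 1 := by rw [pow_succ, mul_comm]; exact hk
      have e2 : 3 ^ (2 * m + 1) * 3 = (k + 1) * (k + 1) := by
        rw [← hk]
        ring
      rw [hk, e1, e2]
      simp only [Nat.add_sub_cancel]
      ring
    have e2 : (y : K) ^ ((3 * 3 ^ m - 1) * 3 ^ (m + 1) + (3 * 3 ^ m - 1)) * (y : K) = (y : K) ^ 2 * (y : K) := by
      rw [← pow_succ, e, pow_mul, hm]
      ring
    exact mul_right_cancel₀ hy e2
  rw [← key]
  exact gh_thetaMul_mem hm _

end Cfsg.Agent.Helper7.Chev
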