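import Mathlib
import Cfsg.Agent.Helper7.ChevRee19
import Cfsg.Agent.Helper7.ChevWordZ

set_option autoImplicit false
set_option linter.unusedSectionVars false
set_option linter.unusedVariables false

/-!
The involution `h(-1)` of the twisted group of type `G₂` as a word in the generators over the prime field, and
`H¹ = {h(s)}`.
-/

namespace Cfsg.Agent.Helper7.Chev

open Cfsg Cfsg.Lie Matrix

/-- The word of `u(1,0,0) v(0,-1,-1) u(0,0,1) v(0,-1,0)`. -/
def reeInvWord : List (ℕ × ℤ) :=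
  [(7, 1), (6, 1), (8, 1), (9, 1), (10, 0), (11, 0)] ++ [(4, 0), (5, 0), (3, 1), (2, 1), (1, 1), (0, 1)] ++
    [(7, 0), (6, 0), (8, 0), (9, 1), (10, 0), (11, 1)] ++ [(4, 0), (5, 0), (3, 1), (2, 0), (1, 1), (0, 0)]

/-- The diagonal of `h_a(-1) h_b(-1)`. -/
def reeInvDiag : ℕ ⊕ ℕ → ℤ
  | Sum.inl _ => 1
  | Sum.inr s => if (chevG2.cartan 0 s + chevG2.cartan 1 s) % 2 = 0 then 1 else -1

set_option maxRecDepth 100000 in
theorem reeInv_fast : fastG2.WordDiag 3 reeInvWord reeInvDiag := by decide +kernel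

theorem reeInv_G2 : (tabOf chevG2).WordDiag 3 reeInvWord reeInvDiag := tab_G2 ▸ reeInv_fast

variable {K : Type*} [Field K] [CharP K 3] {m : ℕ}

theorem neg_one_zpow_cast (a : ℤ) : ((-1 : K)) ^ a = (((if a % 2 = 0 then 1 else -1 : ℤ)) : K) := by
  rcases Int.emod_two_eq_zero_or_one a with h | h
  · rw [if_pos h, Even.neg_one_zpow (Int.even_iff.mpr h)]; simp
  · rw [if_neg (by omega), Odd.neg_one_zpow (Int.odd_iff.mpr h)]; simp

/-- The matrix of `h(-1)`. -/
theorem gh_neg_one_coe :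
    ((gh K m (-1) : GL chevG2.Idx K) : Matrix chevG2.Idx chevG2.Idx K) =
      Matrix.diagonal fun i => ((reeInvDiag (raw chevG2 i) : ℤ) : K) := by
  rw [gh_apply]
  unfold tG2
  rw [torusHom_apply, tGL_coe]
  unfold tMat
  congr 1
  funext v
  rcases v with j | s
  · simp [tEntry, raw, reeInvDiag]
  · simp only [tEntry, Sum.elim_inr, raw, Sum.map_inr, reeInvDiag]
    have e : List.range chevG2.rank = [0, 1] := by decide
    rw [e]
    simp only [List.map_cons, List.map_nil, List.prod_cons, List.prod_nil, mul_one]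
    have e0 : extc chevG2.rank (g2c (Units.map (reeTh K m : K →* K) (-1)) (-1)) 0 = (-1 : K) := by
      unfold extc
      rw [dif_pos (by decide)]
      change reeTh K m ((-1 : Kˣ) : K) = -1
      simp
    have e1 : extc chevG2.rank (g2c (Units.map (reeTh K m : K →* K) (-1)) (-1)) 1 = (-1 : K) := by
      unfold extc
      rw [dif_pos (by decide)]
      change ((-1 : Kˣ) : K) = -1
      simp
    rw [e0, e1, ← zpow_add₀ (by norm_num : (-1 : K) ≠ 0), neg_one_zpow_cast]

theorem odd_three_pow (m : ℕ) : Odd (3 ^ m) := Odd.pow (by decide)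

theorem reeInvWord_eq :
    castWord K reeInvWord = reeWordU (3 ^ m) (1 : K) 0 0 ++ reeWordV (3 ^ m) (0 : K) (-1) (-1) ++
      reeWordU (3 ^ m) (0 : K) 0 1 ++ reeWordV (3 ^ m) (0 : K) (-1) 0 := by
  have h0 : (3 : ℕ) ^ m ≠ 0 := by positivity
  have h1 : (-1 : K) ^ 3 ^ m = -1 := Odd.neg_one_pow (odd_three_pow m)
  unfold reeWordV reeWordU ChevalleyDatum.negWord castWord reeInvWord
  simp only [List.map_cons, List.map_nil, List.map_append, one_pow, zero_pow h0, ne_eq,
    Nat.add_eq_zero_iff, one_ne_zero, and_false, not_false_eq_true, zero_pow, add_zero, zero_add, h1,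
    neg_neg, neg_zero, Int.cast_one, Int.cast_zero]
  rfl

/-- `h(-1) = u(1,0,0) v(0,-1,-1) u(0,0,1) v(0,-1,0)`. -/
theorem gh_neg_one_eq :
    gh K m (-1) = ru m (1 : K) 0 0 * rv m (0 : K) (-1) (-1) * ru m (0 : K) 0 1 * rv m (0 : K) (-1) 0 := by
  apply Units.ext
  rw [gh_neg_one_coe, Units.val_mul, Units.val_mul, Units.val_mul, ru_coe, rv_coe, ru_coe, rv_coe,
    ← wordMat_append, ← wordMat_append, ← wordMat_append, ← reeInvWord_eq]
  symm
  apply wordMat_castWord_diagonal good3_G2.toGood1 (p := 3) reeInvWord _ reeInvDiag reeInv_G2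
  decide

theorem gh_neg_one_mem : gh K m (-1) ∈ twistedG2 K (3 ^ m) := by
  rw [gh_neg_one_eq]
  exact mul_mem (mul_mem (mul_mem (ru_mem_twisted _ _ _) (rv_mem_twisted _ _ _)) (ru_mem_twisted _ _ _))
    (rv_mem_twisted _ _ _)

end Cfsg.Agent.Helper7.Chev
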