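import Mathlib
import Cfsg.Agent.Helper7.ChevRee20

set_option autoImplicit false
set_option linter.unusedSectionVars false
set_option linter.unusedVariables false

/-!
`H¹ = H ∩ G¹` of the twisted group of type `G₂` over the field with `3 ^ (2 m + 1)` elements: it is the group of the
`h(s)`, cyclic of order `q - 1`.
-/

namespace Cfsg.Agent.Helper7.Chev

open Cfsg Cfsg.Lie Matrix

section finite

variable {K : Type*} [Field K] [Fintype K] [CharP K 3] {m : ℕ}

theorem ree_card_mod_four (hK : Fintype.card K = 3 ^ (2 * m + 1)) : Fintype.card K % 4 = 3 := by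
  rw [hK, pow_succ, pow_mul]
  have : 9 ^ m % 4 = 1 := by
    rw [Nat.pow_mod]
    norm_num
  norm_num
  omega

/-- Every element of `Kˣ` is a square or the negative of a square. -/
theorem ree_sq_or_neg_sq (hK : Fintype.card K = 3 ^ (2 * m + 1)) (s : Kˣ) :
    ∃ y : Kˣ, s = y ^ 2 ∨ s = -1 * y ^ 2 := by
  have hF : ringChar K ≠ 2 := by
    rw [ringChar.eq K 3]
    decide
  have hs : (s : K) ≠ 0 := s.ne_zero
  have hneg : ¬ IsSquare (-1 : K) := by
    rw [FiniteField.isSquare_neg_one_iff]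
    exact fun h => h (ree_card_mod_four hK)
  by_cases hsq : IsSquare (s : K)
  · obtain ⟨r, hr⟩ := hsq
    have hr0 : r ≠ 0 := by
      rintro rfl
      rw [mul_zero] at hr
      exact hs hr
    refine ⟨Units.mk0 r hr0, Or.inl ?_⟩
    apply Units.ext
    rw [Units.val_pow_eq_pow_val, Units.val_mk0, hr, sq]
  · have h1 : (s : K) ^ (Fintype.card K / 2) = -1 := by
      rcases FiniteField.pow_dichotomy hF hs with h | h
      · exact absurd ((FiniteField.isSquare_iff hF hs).mpr h) hsq
      · exact h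
    have h2 : (-1 : K) ^ (Fintype.card K / 2) = -1 := by
      rcases FiniteField.pow_dichotomy hF (by norm_num : (-1 : K) ≠ 0) with h | h
      · exact absurd ((FiniteField.isSquare_iff hF (by norm_num)).mpr h) hneg
      · exact h
    have h3 : IsSquare (-(s : K)) := by
      rw [FiniteField.isSquare_iff hF (neg_ne_zero.mpr hs), neg_eq_neg_one_mul, mul_pow, h1, h2]
      norm_num
    obtain ⟨r, hr⟩ := h3
    have hr0 : r ≠ 0 := by
      rintro rfl
      rw [mul_zero, neg_eq_zero] at hr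
      exact hs hr
    refine ⟨Units.mk0 r hr0, Or.inr ?_⟩
    apply Units.ext
    rw [Units.val_mul, Units.val_pow_eq_pow_val, Units.val_mk0, sq, ← hr]
    simp

/-- Every `h(s)` lies in the twisted group. -/
theorem gh_mem_twisted (hK : Fintype.card K = 3 ^ (2 * m + 1)) (s : Kˣ) :
    gh K m s ∈ twistedG2 K (3 ^ m) := by
  have hm := pow_card_three hK
  obtain ⟨y, h | h⟩ := ree_sq_or_neg_sq hK s
  · rw [h]
    exact gh_sq_mem hm y
  · rw [h, map_mul]
    exact mul_mem gh_neg_one_mem (gh_sq_mem hm y)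

/-- `H¹` is the group of the `h(s)`. -/
theorem rH_eq_range (hK : Fintype.card K = 3 ^ (2 * m + 1)) : rH K m = (gh K m).range := by
  have hm := pow_card_three hK
  apply le_antisymm
  · intro g hg
    rw [mem_rH] at hg
    obtain ⟨s, rfl⟩ := exists_gh_of_fixed hm hg.1 (twistedG2_le_fixSub hm hg.2).2
    exact ⟨s, rfl⟩
  · rintro _ ⟨s, rfl⟩
    exact mem_rH.mpr ⟨gh_mem_diagonal s, gh_mem_twisted hK s⟩

theorem mem_rH_iff (hK : Fintype.card K = 3 ^ (2 * m + 1)) {g : GL chevG2.Idx K} :
    g ∈ rH K m ↔ ∃ s : Kˣ, g = gh K m s := by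
  rw [rH_eq_range hK]
  constructor
  · rintro ⟨s, rfl⟩; exact ⟨s, rfl⟩
  · rintro ⟨s, rfl⟩; exact ⟨s, rfl⟩

theorem ree_card_rH (hK : Fintype.card K = 3 ^ (2 * m + 1)) :
    Nat.card ↥(rH K m) = 3 ^ (2 * m + 1) - 1 := by
  rw [rH_eq_range hK, ← Nat.card_congr (MonoidHom.ofInjective (gh_injective (K := K) (m := m))).toEquiv,
    Nat.card_units, Nat.card_eq_fintype_card, hK]

theorem ree_isCyclic_rH (hK : Fintype.card K = 3 ^ (2 * m + 1)) : IsCyclic ↥(rH K m) := by
  rw [rH_eq_range hK]
  exact isCyclic_of_surjective (gh K m).rangeRestrict (gh K m).rangeRestrict_surjective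

end finite

/-- The statement of S1114. -/
theorem ree_S1114 {K : Type*} [Field K] [Fintype K] {m : ℕ} (hK : Fintype.card K = 3 ^ (2 * m + 1)) :
    Nat.card ↥(chevG2.diagonalSubgroup K ⊓ twistedG2 K (3 ^ m)) = 3 ^ (2 * m + 1) - 1 := by
  haveI := charP_three_of_card (by omega) hK
  exact ree_card_rH hK

/-- The statement of S1150. -/
theorem ree_S1150 {K : Type*} [Field K] [Fintype K] {m : ℕ} (hK : Fintype.card K = 3 ^ (2 * m + 1)) :
    IsCyclic ↥(chevG2.diagonalSubgroup K ⊓ twistedG2 K (3 ^ m)) := by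
  haveI := charP_three_of_card (by omega) hK
  exact ree_isCyclic_rH hK

end Cfsg.Agent.Helper7.Chev
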