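import Mathlib
import Cfsg.Agent.Helper7.ChevRee21

set_option autoImplicit false
set_option linter.unusedSectionVars false
set_option linter.unusedVariables false

/-!
The order of the twisted group of type `G₂`: the uniqueness of the expression `u h n₀ u'`.
-/

namespace Cfsg.Agent.Helper7.Chev

open Cfsg Cfsg.Lie Matrix

section cells

variable {K : Type*} [Field K] [CharP K 3] {m : ℕ} (hm : ∀ t : K, t ^ 3 ^ (2 * m + 1) = t)

/-- `U_n⁻ = U` for `n = h n_{w₀}`. -/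
theorem pos_le_minusGen'_hnw {h : GL chevG2.Idx K} (hh : h ∈ chevG2.diagonalSubgroup K) :
    chevG2.posUnipotent K ≤ Subgroup.closure (minusGen' chevG2 K (h * reeNw K)) := by
  unfold ChevalleyDatum.posUnipotent
  apply Subgroup.closure_mono
  rintro x ⟨r, t, hr, hx⟩
  refine ⟨r, t, hr, ?_, hx⟩
  rintro y ⟨z, hz, rfl⟩
  have hzU : z ∈ chevG2.posUnipotent K := by
    have hle : chevG2.rootSubgroup K r ≤ chevG2.posUnipotent K := by
      unfold ChevalleyDatum.rootSubgroup ChevalleyDatum.posUnipotent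
      apply Subgroup.closure_mono
      rintro g ⟨t', hg⟩
      exact ⟨r, t', hr, hg⟩
    exact hle hz
  exact hnw_conj_pos hh hzU

variable {n₀ : GL chevG2.Idx K} (hn₀ : n₀ ∈ rN K m) (hn₀H : n₀ ∉ chevG2.diagonalSubgroup K)

include hm hn₀ hn₀H in
/-- The uniqueness of the expression `u h n₀ u'`. -/
theorem ree_cell_unique {u h u' u₁ h₁ u₁' : GL chevG2.Idx K} (hu : u ∈ rU K m) (hh : h ∈ rH K m)
    (hu' : u' ∈ rU K m) (hu₁ : u₁ ∈ rU K m) (hh₁ : h₁ ∈ rH K m) (hu₁' : u₁' ∈ rU K m)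
    (e : u * h * n₀ * u' = u₁ * h₁ * n₀ * u₁') : u = u₁ ∧ h = h₁ ∧ u' = u₁' := by
  rcases rN_cases hm hn₀ with hd | ⟨h₀, hh₀, rfl⟩
  · exact absurd hd hn₀H
  have hN : h₀ * reeNw K ∈ chevG2.monomialSubgroup K := (mem_rN.mp hn₀).1
  have hmin := pos_le_minusGen'_hnw (K := K) hh₀
  obtain ⟨_, h2⟩ := (bruhat_normal_form (F := K) good3_G2.toGood2 T0_G2 good3_G2.t3 good3_G2.t4 T5_G2
    T6_G2 T8_G2 T9_G2).2 (u * h) (u₁ * h₁) (h₀ * reeNw K) (h₀ * reeNw K) u' u₁'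
    (mul_mem (rU_le_borel hu) (rH_le_borel hh)) (mul_mem (rU_le_borel hu₁) (rH_le_borel hh₁)) hN hN
    (hmin (mem_rU.mp hu').1) (hmin (mem_rU.mp hu₁').1) e
  obtain ⟨e1, e2⟩ := h2 rfl
  have e3 : u₁⁻¹ * u = h₁ * h⁻¹ := by
    have : u₁⁻¹ * u = u₁⁻¹ * (u * h) * h⁻¹ := by group
    rw [this, e1]
    group
  have h4 : u₁⁻¹ * u ∈ chevG2.posUnipotent K ⊓ chevG2.diagonalSubgroup K := by
    refine Subgroup.mem_inf.mpr ⟨mul_mem (inv_mem (mem_rU.mp hu₁).1) (mem_rU.mp hu).1, ?_⟩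
    rw [e3]
    exact mul_mem (mem_rH.mp hh₁).1 (inv_mem (mem_rH.mp hh).1)
  rw [posUnipotent_inf_diagonal good3_G2.toGood2 T0_G2, Subgroup.mem_bot] at h4
  have e5 : u = u₁ := by
    have := inv_mul_eq_one.mp h4
    exact this.symm
  refine ⟨e5, ?_, e2⟩
  rw [e5] at e1
  exact mul_left_cancel e1

include hm hn₀ hn₀H in
/-- The two cells are disjoint. -/
theorem ree_cell_disjoint {u h u₁ h₁ u₁' : GL chevG2.Idx K} (hu : u ∈ rU K m) (hh : h ∈ rH K m)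
    (hu₁ : u₁ ∈ rU K m) (hh₁ : h₁ ∈ rH K m) (hu₁' : u₁' ∈ rU K m) :
    u * h ≠ u₁ * h₁ * n₀ * u₁' := by
  intro e
  apply rN_not_mem_borel hm hn₀ hn₀H
  have : n₀ = h₁⁻¹ * u₁⁻¹ * (u * h) * u₁'⁻¹ := by rw [e]; group
  rw [this]
  exact mul_mem (mul_mem (mul_mem (inv_mem (rH_le_borel hh₁)) (inv_mem (rU_le_borel hu₁)))
    (mul_mem (rU_le_borel hu) (rH_le_borel hh))) (inv_mem (rU_le_borel hu₁'))

/-- The parametrisation of the twisted group by the two cells. -/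
noncomputable def reeCell (n₀ : GL chevG2.Idx K) (hn₀G : n₀ ∈ twistedG2 K (3 ^ m)) :
    (↥(rU K m) × ↥(rH K m)) ⊕ (↥(rU K m) × ↥(rH K m) × ↥(rU K m)) → ↥(twistedG2 K (3 ^ m))
  | Sum.inl p => ⟨p.1 * p.2, mul_mem (mem_rU.mp p.1.2).2 (mem_rH.mp p.2.2).2⟩
  | Sum.inr p => ⟨p.1 * p.2.1 * n₀ * p.2.2,
      mul_mem (mul_mem (mul_mem (mem_rU.mp p.1.2).2 (mem_rH.mp p.2.1.2).2) hn₀G) (mem_rU.mp p.2.2.2).2⟩

include hm hn₀ hn₀H in
theorem reeCell_bijective : Function.Bijective (reeCell (m := m) n₀ (mem_rN.mp hn₀).2) := by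
  constructor
  · rintro (⟨⟨u, hu⟩, ⟨h, hh⟩⟩ | ⟨⟨u, hu⟩, ⟨h, hh⟩, ⟨u', hu'⟩⟩)
      (⟨⟨u₁, hu₁⟩, ⟨h₁, hh₁⟩⟩ | ⟨⟨u₁, hu₁⟩, ⟨h₁, hh₁⟩, ⟨u₁', hu₁'⟩⟩) e
    · have e' : u * h = u₁ * h₁ := congrArg Subtype.val e
      have e3 : u₁⁻¹ * u = h₁ * h⁻¹ := by
        have : u₁⁻¹ * u = u₁⁻¹ * (u * h) * h⁻¹ := by group
        rw [this, e']
        group
      have h4 : u₁⁻¹ * u ∈ chevG2.posUnipotent K ⊓ chevG2.diagonalSubgroup K := by
        refine Subgroup.mem_inf.mpr ⟨mul_mem (inv_mem (mem_rU.mp hu₁).1) (mem_rU.mp hu).1, ?_⟩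
        rw [e3]
        exact mul_mem (mem_rH.mp hh₁).1 (inv_mem (mem_rH.mp hh).1)
      rw [posUnipotent_inf_diagonal good3_G2.toGood2 T0_G2, Subgroup.mem_bot] at h4
      have e5 : u = u₁ := (inv_mul_eq_one.mp h4).symm
      subst e5
      have e6 : h = h₁ := mul_left_cancel e'
      subst e6
      rfl
    · exact absurd (congrArg Subtype.val e) (ree_cell_disjoint hm hn₀ hn₀H hu hh hu₁ hh₁ hu₁')
    · exact absurd (congrArg Subtype.val e).symm (ree_cell_disjoint hm hn₀ hn₀H hu₁ hh₁ hu hh hu')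
    · obtain ⟨rfl, rfl, rfl⟩ := ree_cell_unique hm hn₀ hn₀H hu hh hu' hu₁ hh₁ hu₁'
        (congrArg Subtype.val e)
      rfl
  · rintro ⟨g, hg⟩
    rcases twistedG2_subset_reeX hm hn₀ hn₀H hg with ⟨u, hu, h, hh, rfl⟩ | ⟨u, hu, h, hh, u', hu', rfl⟩
    · exact ⟨Sum.inl (⟨u, hu⟩, ⟨h, hh⟩), rfl⟩
    · exact ⟨Sum.inr (⟨u, hu⟩, ⟨h, hh⟩, ⟨u', hu'⟩), rfl⟩

include hm in
/-- The order of the twisted group in terms of the orders of `U¹` and `H¹`. -/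
theorem ree_card_eq [Finite K] :
    Nat.card ↥(twistedG2 K (3 ^ m)) =
      Nat.card ↥(rU K m) * Nat.card ↥(rH K m) + Nat.card ↥(rU K m) * (Nat.card ↥(rH K m) * Nat.card ↥(rU K m)) := by
  obtain ⟨n₀, hn₀, hn₀H⟩ := exists_rN_not_mem hm
  rw [← Nat.card_congr (Equiv.ofBijective _ (reeCell_bijective hm hn₀ hn₀H)), Nat.card_sum,
    Nat.card_prod, Nat.card_prod, Nat.card_prod]

end cells

/-- The statement of S1069. -/
theorem ree_S1069 {K : Type*} [Field K] [Fintype K] {m : ℕ} (hK : Fintype.card K = 3 ^ (2 * m + 1)) :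
    Nat.card ↥(twistedG2 K (3 ^ m)) =
      (3 ^ (2 * m + 1)) ^ 3 * (3 ^ (2 * m + 1) - 1) * ((3 ^ (2 * m + 1)) ^ 3 + 1) := by
  haveI := charP_three_of_card (by omega) hK
  have hm := pow_card_three hK
  have hU : Nat.card ↥(rU K m) = (3 ^ (2 * m + 1)) ^ 3 := by
    have := ree_card_posInf (K := K) hm
    rw [hK] at this
    exact this
  rw [ree_card_eq hm, hU, ree_card_rH hK]
  ring

end Cfsg.Agent.Helper7.Chev
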