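import Mathlib
import Cfsg.Agent.Helper7.ChevRee22

set_option autoImplicit false
set_option linter.unusedSectionVars false
set_option linter.unusedVariables false

/-!
The action of the torus of `G₂` on the root elements, and of `h(s)` on `U¹`.
-/

namespace Cfsg.Agent.Helper7.Chev

open Cfsg Cfsg.Lie Matrix

section torus

variable {K : Type*} [Field K]

theorem gh7_mul_gx (c : Kˣ) (r : Fin 12) (t : K) :
    gh7 c * gx K r t = gx K r (((c ^ chevG2.cartan 0 r.val : Kˣ) : K) * t) * gh7 c := by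
  apply Units.ext
  unfold gh7
  rw [Units.val_mul, Units.val_mul, hGL_coe, gx_coe, gx_coe,
    hMat_mul_x good3_G2.toGood2 (by decide) c.ne_zero r.2 t]
  have := pairing_simple good3_G2.toGood1 (i := 0) (by decide) r.val
  change (tabOf chevG2).pairing 7 r.val = _ at this
  rw [this, Units.val_zpow_eq_zpow_val]

theorem gh6_mul_gx (c : Kˣ) (r : Fin 12) (t : K) :
    gh6 c * gx K r t = gx K r (((c ^ chevG2.cartan 1 r.val : Kˣ) : K) * t) * gh6 c := by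
  apply Units.ext
  unfold gh6
  rw [Units.val_mul, Units.val_mul, hGL_coe, gx_coe, gx_coe,
    hMat_mul_x good3_G2.toGood2 (by decide) c.ne_zero r.2 t]
  have := pairing_simple good3_G2.toGood1 (i := 1) (by decide) r.val
  change (tabOf chevG2).pairing 6 r.val = _ at this
  rw [this, Units.val_zpow_eq_zpow_val]

/-- The character of the torus on the root subgroup of `r`. -/
def g2chi (c₀ c₁ : Kˣ) (r : Fin 12) : Kˣ := c₀ ^ chevG2.cartan 0 r.val * c₁ ^ chevG2.cartan 1 r.val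

theorem tG2_mul_gx (c₀ c₁ : Kˣ) (r : Fin 12) (t : K) :
    tG2 c₀ c₁ * gx K r t = gx K r ((g2chi c₀ c₁ r : K) * t) * tG2 c₀ c₁ := by
  rw [tG2_eq, mul_assoc, gh6_mul_gx, ← mul_assoc, gh7_mul_gx, mul_assoc]
  unfold g2chi
  rw [Units.val_mul, mul_assoc]

theorem tG2_conj_gx (c₀ c₁ : Kˣ) (r : Fin 12) (t : K) :
    tG2 c₀ c₁ * gx K r t * (tG2 c₀ c₁)⁻¹ = gx K r ((g2chi c₀ c₁ r : K) * t) := by
  rw [tG2_mul_gx, mul_inv_cancel_right]

variable [CharP K 3]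

theorem tG2_conj_gA (c₀ c₁ : Kˣ) (c8 c9 c10 c11 : K) :
    tG2 c₀ c₁ * gA c8 c9 c10 c11 * (tG2 c₀ c₁)⁻¹ =
      gA ((g2chi c₀ c₁ 8 : K) * c8) ((g2chi c₀ c₁ 9 : K) * c9) ((g2chi c₀ c₁ 10 : K) * c10)
        ((g2chi c₀ c₁ 11 : K) * c11) := by
  rw [gA_eq, gA_eq, ← tG2_conj_gx, ← tG2_conj_gx, ← tG2_conj_gx, ← tG2_conj_gx]
  group

theorem tG2_conj_uA (c₀ c₁ : Kˣ) (s r c8 c9 c10 c11 : K) :
    tG2 c₀ c₁ * uA s r c8 c9 c10 c11 * (tG2 c₀ c₁)⁻¹ =
      uA ((g2chi c₀ c₁ 7 : K) * s) ((g2chi c₀ c₁ 6 : K) * r) ((g2chi c₀ c₁ 8 : K) * c8)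
        ((g2chi c₀ c₁ 9 : K) * c9) ((g2chi c₀ c₁ 10 : K) * c10) ((g2chi c₀ c₁ 11 : K) * c11) := by
  unfold uA
  rw [← tG2_conj_gA, ← tG2_conj_gx, ← tG2_conj_gx]
  group

end torus

section ree

variable {K : Type*} [Field K] [CharP K 3] {m : ℕ} (hm : ∀ t : K, t ^ 3 ^ (2 * m + 1) = t)

/-- The characters of `h(s)` on the root subgroups of `b`, `3a+b`, `3a+2b`. -/
noncomputable def ghChi (K : Type*) [Field K] [CharP K 3] (m : ℕ) (s : Kˣ) (r : Fin 12) : Kˣ :=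
  g2chi (Units.map (reeTh K m : K →* K) s) s r

theorem ghChi_11 (s : Kˣ) : ghChi K m s 11 = s := by
  unfold ghChi g2chi
  have a0 : chevG2.cartan 0 ((11 : Fin 12) : ℕ) = 0 := by decide
  have a1 : chevG2.cartan 1 ((11 : Fin 12) : ℕ) = 1 := by decide
  rw [a0, a1, zpow_zero, zpow_one, one_mul]

theorem ghChi_6 (s : Kˣ) :
    ghChi K m s 6 = (Units.map (reeTh K m : K →* K) s) ^ (-3 : ℤ) * s ^ (2 : ℤ) := by
  unfold ghChi g2chi
  have a0 : chevG2.cartan 0 ((6 : Fin 12) : ℕ) = -3 := by decide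
  have a1 : chevG2.cartan 1 ((6 : Fin 12) : ℕ) = 2 := by decide
  rw [a0, a1]

theorem ghChi_10 (s : Kˣ) :
    ghChi K m s 10 = (Units.map (reeTh K m : K →* K) s) ^ (3 : ℤ) * s ^ (-1 : ℤ) := by
  unfold ghChi g2chi
  have a0 : chevG2.cartan 0 ((10 : Fin 12) : ℕ) = 3 := by decide
  have a1 : chevG2.cartan 1 ((10 : Fin 12) : ℕ) = -1 := by decide
  rw [a0, a1]

include hm in
/-- The action of `h(s)` on `U¹`. -/
theorem gh_conj_ru (s : Kˣ) (t u v : K) :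
    gh K m s * ru m t u v * (gh K m s)⁻¹ =
      ru m ((ghChi K m s 6 : K) * t) ((ghChi K m s 10 : K) * u) ((ghChi K m s 11 : K) * v) := by
  have hgG : gh K m s ∈ chevG2.group K :=
    diagonalSubgroup_le_group good3_G2.toGood1 (gh_mem_diagonal s)
  have hU : gh K m s * ru m t u v * (gh K m s)⁻¹ ∈ chevG2.posUnipotent K :=
    (Subgroup.mem_set_normalizer_iff.mp
      (diagonalSubgroup_le_normalizer_pos good3_G2.toGood2 (gh_mem_diagonal s)) _).mp
      (uA_mem_pos _ _ _ _ _ _)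
  have hfix : extFun (reeTau hm) (gh K m s * ru m t u v * (gh K m s)⁻¹) =
      gh K m s * ru m t u v * (gh K m s)⁻¹ := by
    rw [extFun_conj _ hgG (ru_mem_group t u v), reeTau_gh hm, reeTau_ru hm]
  obtain ⟨t', u', v', e⟩ := exists_ru_of_fixed hm hU hfix
  rw [e]
  have e2 := e
  rw [gh_apply] at e2
  unfold ru at e2
  rw [tG2_conj_uA] at e2
  obtain ⟨_, h2, _, _, h5, h6⟩ := uA_injective e2
  unfold ghChi
  rw [h2, h5, h6]

end ree

end Cfsg.Agent.Helper7.Chev
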