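import Mathlib
import Cfsg.Agent.Helper7.ChevRee23

set_option autoImplicit false
set_option linter.unusedSectionVars false
set_option linter.unusedVariables false

/-!
The core of `B¹` in the twisted group of type `G₂` is trivial.
-/

namespace Cfsg.Agent.Helper7.Chev

open Cfsg Cfsg.Lie Matrix

section core

variable {K : Type*} [Field K] [CharP K 3] {m : ℕ} (hm : ∀ t : K, t ^ 3 ^ (2 * m + 1) = t)

include hm in
/-- An element of `B` whose conjugate by an element of `N¹` outside `H` is in `B` is in `H`. -/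
theorem ree_borel_conj_mem_diagonal {n₀ : GL chevG2.Idx K} (hn₀ : n₀ ∈ rN K m)
    (hn₀H : n₀ ∉ chevG2.diagonalSubgroup K) {g : GL chevG2.Idx K} (hg : g ∈ chevG2.borelSubgroup K)
    (hc : n₀ * g * n₀⁻¹ ∈ chevG2.borelSubgroup K) : g ∈ chevG2.diagonalSubgroup K := by
  rcases rN_cases hm hn₀ with hd | ⟨h₀, hh₀, rfl⟩
  · exact absurd hd hn₀H
  obtain ⟨u, hu, h, hh, rfl⟩ := borel_decomp good3_G2.toGood2 hg
  have hN : h₀ * reeNw K ∈ Subgroup.normalizer (chevG2.diagonalSubgroup K : Set (GL chevG2.Idx K)) :=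
    monomialSubgroup_le_normalizer good3_G2.toGood2 (mem_rN.mp hn₀).1
  have e : (h₀ * reeNw K) * (u * h) * (h₀ * reeNw K)⁻¹ =
      ((h₀ * reeNw K) * u * (h₀ * reeNw K)⁻¹) * ((h₀ * reeNw K) * h * (h₀ * reeNw K)⁻¹) := by group
  have h1 : (h₀ * reeNw K) * (u * h) * (h₀ * reeNw K)⁻¹ ∈
      chevG2.negUnipotent K ⊔ chevG2.diagonalSubgroup K := by
    rw [e]
    exact mul_mem (Subgroup.mem_sup_left (hnw_conj_pos hh₀ hu))
      (Subgroup.mem_sup_right (conj_mem_diagonal hN hh))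
  have h2 : (h₀ * reeNw K) * (u * h) * (h₀ * reeNw K)⁻¹ ∈ chevG2.diagonalSubgroup K := by
    rw [← borel_inf_negBorel (F := K) good3_G2.toGood2 T0_G2]
    exact Subgroup.mem_inf.mpr ⟨hc, h1⟩
  have h3 := conj_mem_diagonal' hN h2
  have e2 : (h₀ * reeNw K)⁻¹ * ((h₀ * reeNw K) * (u * h) * (h₀ * reeNw K)⁻¹) * (h₀ * reeNw K) = u * h := by
    group
  rwa [e2] at h3

include hm in
/-- An element of `G¹` all of whose conjugates under `G¹` lie in `B` is the identity. -/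
theorem ree_core_trivial {g : GL chevG2.Idx K} (hg : g ∈ twistedG2 K (3 ^ m))
    (hc : ∀ b ∈ twistedG2 K (3 ^ m), b * g * b⁻¹ ∈ chevG2.borelSubgroup K) : g = 1 := by
  obtain ⟨n₀, hn₀, hn₀H⟩ := exists_rN_not_mem hm
  have hn₀G : n₀ ∈ twistedG2 K (3 ^ m) := (mem_rN.mp hn₀).2
  -- every conjugate of `g` lies in `H`
  have hall : ∀ b ∈ twistedG2 K (3 ^ m), b * g * b⁻¹ ∈ chevG2.diagonalSubgroup K := by
    intro b hb
    apply ree_borel_conj_mem_diagonal hm hn₀ hn₀H (hc b hb)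
    have : n₀ * (b * g * b⁻¹) * n₀⁻¹ = (n₀ * b) * g * (n₀ * b)⁻¹ := by group
    rw [this]
    exact hc _ (mul_mem hn₀G hb)
  have hgH : g ∈ chevG2.diagonalSubgroup K := by
    have := hall 1 (one_mem _)
    rwa [one_mul, inv_one, mul_one] at this
  obtain ⟨s, rfl⟩ := exists_gh_of_fixed hm hgH (twistedG2_le_fixSub hm hg).2
  -- `h(s)` commutes with `u(0,0,1)`
  have hu : ru m (0 : K) 0 1 ∈ twistedG2 K (3 ^ m) := ru_mem_twisted _ _ _
  have hcomm : gh K m s * ru m (0 : K) 0 1 * (gh K m s)⁻¹ * (ru m (0 : K) 0 1)⁻¹ = 1 := by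
    have h1 : gh K m s * ru m (0 : K) 0 1 * (gh K m s)⁻¹ * (ru m (0 : K) 0 1)⁻¹ ∈
        chevG2.posUnipotent K ⊓ chevG2.diagonalSubgroup K := by
      refine Subgroup.mem_inf.mpr ⟨?_, ?_⟩
      · rw [gh_conj_ru hm]
        exact mul_mem (uA_mem_pos _ _ _ _ _ _) (inv_mem (uA_mem_pos _ _ _ _ _ _))
      · have e : gh K m s * ru m (0 : K) 0 1 * (gh K m s)⁻¹ * (ru m (0 : K) 0 1)⁻¹ =
            gh K m s * (ru m (0 : K) 0 1 * gh K m s * (ru m (0 : K) 0 1)⁻¹)⁻¹ := by group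
        rw [e]
        exact mul_mem hgH (inv_mem (hall _ hu))
    rwa [posUnipotent_inf_diagonal good3_G2.toGood2 T0_G2, Subgroup.mem_bot] at h1
  rw [mul_inv_eq_one, gh_conj_ru hm] at hcomm
  obtain ⟨_, _, h3⟩ := ru_injective hcomm
  rw [ghChi_11, mul_one] at h3
  have : s = 1 := Units.ext h3
  rw [this, map_one]

end core

/-- The statement of S1117. -/
theorem ree_S1117 {K : Type*} [Field K] [Fintype K] {m : ℕ} (hK : Fintype.card K = 3 ^ (2 * m + 1)) :
    ((chevG2.borelSubgroup K ⊓ twistedG2 K (3 ^ m)).subgroupOf (twistedG2 K (3 ^ m))).normalCore = ⊥ := by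
  haveI := charP_three_of_card (by omega) hK
  have hm := pow_card_three hK
  rw [eq_bot_iff]
  intro x hx
  rw [Subgroup.mem_bot]
  apply Subtype.ext
  apply ree_core_trivial hm x.2
  intro b hb
  have h1 := hx ⟨b, hb⟩
  rw [Subgroup.mem_subgroupOf] at h1
  exact (Subgroup.mem_inf.mp h1).1

end Cfsg.Agent.Helper7.Chev
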