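import Mathlib
import Cfsg.Agent.Helper7.ChevRee24

set_option autoImplicit false
set_option linter.unusedSectionVars false
set_option linter.unusedVariables false

/-!
The multiplication of `U¹` in the twisted group of type `G₂`, and the twisted group is perfect when the field has
more than three elements.
-/

namespace Cfsg.Agent.Helper7.Chev

open Cfsg Cfsg.Lie Matrix

section mul

variable {K : Type*} [Field K] [CharP K 3] {m : ℕ} (hm : ∀ t : K, t ^ 3 ^ (2 * m + 1) = t)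

include hm in
/-- The multiplication of `U¹`. -/
theorem ru_mul (t u v t' u' v' : K) :
    ru m t u v * ru m t' u' v' =
      ru m (t + t') (u + u' - reeTh K (m + 1) t' * t)
        (v + v' - reeTh K (m + 1) t' * t ^ 2 - t' * (u - reeTh K (m + 1) t' * t)) := by
  have hU : ru m t u v * ru m t' u' v' ∈ chevG2.posUnipotent K :=
    mul_mem (uA_mem_pos _ _ _ _ _ _) (uA_mem_pos _ _ _ _ _ _)
  have hfix : extFun (reeTau hm) (ru m t u v * ru m t' u' v') = ru m t u v * ru m t' u' v' := by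
    rw [extFun_mul _ (ru_mem_group t u v) (ru_mem_group t' u' v'), reeTau_ru hm, reeTau_ru hm]
  obtain ⟨a, b, c, e⟩ := exists_ru_of_fixed hm hU hfix
  rw [e]
  have e2 := e
  unfold ru at e2
  rw [uA_mul] at e2
  obtain ⟨_, h2, _, _, h5, h6⟩ := uA_injective e2
  rw [reeTh_succ]
  rw [← h2, ← h5, ← h6]
  congr 1 <;> ring

include hm in
theorem ru_inv_eq (t u v : K) : ∃ u' v' : K, (ru m t u v)⁻¹ = ru m (-t) u' v' := by
  have hU : (ru m t u v)⁻¹ ∈ chevG2.posUnipotent K := inv_mem (uA_mem_pos _ _ _ _ _ _)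
  have hfix : extFun (reeTau hm) (ru m t u v)⁻¹ = (ru m t u v)⁻¹ := by
    rw [extFun_inv _ (ru_mem_group t u v), reeTau_ru hm]
  obtain ⟨a, b, c, e⟩ := exists_ru_of_fixed hm hU hfix
  have h1 : ru m t u v * ru m a b c = ru m 0 0 0 := by
    rw [← e, mul_inv_cancel, ru_zero]
  rw [ru_mul hm] at h1
  obtain ⟨h2, _, _⟩ := ru_injective h1
  have : a = -t := by linear_combination h2
  exact ⟨b, c, by rw [e, this]⟩

end mul

section perfect

variable {K : Type*} [Field K] [CharP K 3] {m : ℕ} (hm : ∀ t : K, t ^ 3 ^ (2 * m + 1) = t)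

/-- The image in `GL` of the derived subgroup of the twisted group. -/
noncomputable def reeDer (K : Type*) [Field K] (m : ℕ) : Subgroup (GL chevG2.Idx K) :=
  (commutator ↥(twistedG2 K (3 ^ m))).map (twistedG2 K (3 ^ m)).subtype

omit [CharP K 3] in
theorem reeDer_comm {a b : GL chevG2.Idx K} (ha : a ∈ twistedG2 K (3 ^ m)) (hb : b ∈ twistedG2 K (3 ^ m)) :
    a * b * a⁻¹ * b⁻¹ ∈ reeDer K m := by
  have h : ∀ x y : ↥(twistedG2 K (3 ^ m)), x * y * x⁻¹ * y⁻¹ ∈ commutator ↥(twistedG2 K (3 ^ m)) := by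
    intro x y
    rw [← commutatorElement_def]
    exact Subgroup.commutator_mem_commutator (Subgroup.mem_top _) (Subgroup.mem_top _)
  exact ⟨_, h ⟨a, ha⟩ ⟨b, hb⟩, rfl⟩

omit [CharP K 3] in
theorem reeDer_conj {g x : GL chevG2.Idx K} (hg : g ∈ twistedG2 K (3 ^ m)) (hx : x ∈ reeDer K m) :
    g * x * g⁻¹ ∈ reeDer K m := by
  obtain ⟨y, hy, rfl⟩ := hx
  have hn : (commutator ↥(twistedG2 K (3 ^ m))).Normal := inferInstance
  exact ⟨⟨g, hg⟩ * y * (⟨g, hg⟩ : ↥(twistedG2 K (3 ^ m)))⁻¹, hn.conj_mem y hy _, rfl⟩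

omit [CharP K 3] in
theorem reeDer_le : reeDer K m ≤ twistedG2 K (3 ^ m) := by
  rintro _ ⟨y, _, rfl⟩
  exact y.2

variable (hs : ∃ s : K, s ≠ 0 ∧ s ≠ 1 ∧ s ≠ -1)

include hm in
theorem gh_neg_one_chi6 : ((ghChi K m (-1) 6 : Kˣ) : K) = -1 := by
  rw [ghChi_6]
  have : Units.map (reeTh K m : K →* K) (-1 : Kˣ) = -1 := by
    apply Units.ext
    change reeTh K m ((-1 : Kˣ) : K) = ((-1 : Kˣ) : K)
    simp
  rw [this]
  have h1 : ((-1 : Kˣ)) ^ (-3 : ℤ) = -1 := by
    rw [_root_.zpow_neg, Odd.neg_one_zpow (by decide), inv_neg, inv_one]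
  have h2 : ((-1 : Kˣ)) ^ (2 : ℤ) = 1 := Even.neg_one_zpow (by decide)
  rw [h1, h2, mul_one]
  simp

include hm in
/-- `Z(U¹)` lies in the derived subgroup. -/
theorem ru_center_mem_reeDer (v : K) : ru m (0 : K) 0 v ∈ reeDer K m := by
  have h := reeDer_comm (K := K) (m := m) gh_neg_one_mem (ru_mem_twisted (0 : K) 0 v)
  rw [gh_conj_ru hm, ghChi_11] at h
  have hinv : (ru m (0 : K) 0 v)⁻¹ = ru m (0 : K) 0 (-v) := by
    rw [inv_eq_iff_mul_eq_one, ru_mul hm]
    rw [← ru_zero (K := K) (m := m)]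
    congr 1 <;> simp
  rw [hinv, ru_mul hm] at h
  have h3 : (3 : K) = 0 := three_eq_zero'
  convert h using 2
  · simp
  · simp
  · simp only [Units.val_neg, Units.val_one, mul_zero, zero_mul, sub_zero, map_zero,
      ne_eq, OfNat.ofNat_ne_zero, not_false_eq_true, zero_pow]
    linear_combination v * h3

include hm hs in
/-- There is an `s` whose character on the root subgroup of `3a+b` is not trivial. -/
theorem exists_chi10_ne_one : ∃ s : Kˣ, ((ghChi K m s 10 : Kˣ) : K) ≠ 1 := by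
  obtain ⟨s, hs0, hs1, hsm⟩ := hs
  refine ⟨Units.mk0 s hs0, ?_⟩
  rw [ghChi_10]
  intro h
  have h1 : ((Units.map (reeTh K m : K →* K) (Units.mk0 s hs0)) ^ (3 : ℤ) * (Units.mk0 s hs0) ^ (-1 : ℤ) : Kˣ) = 1 :=
    Units.ext h
  rw [_root_.zpow_neg, zpow_one, mul_inv_eq_one] at h1
  have h2 : reeTh K (m + 1) s = s := by
    have := congrArg (fun x : Kˣ => (x : K)) h1
    simp only [Units.val_zpow_eq_zpow_val, Units.coe_map, MonoidHom.coe_coe, Units.val_mk0] at this
    rw [reeTh_succ]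
    exact_mod_cast this
  -- `s ^ (3 ^ (2 m + 2)) = s` and `= s ^ 3`
  have h3 : reeTh K (m + 1) (reeTh K (m + 1) s) = s ^ 3 := by
    rw [reeTh_apply, reeTh_apply, ← pow_mul, ← pow_add]
    have : m + 1 + (m + 1) = (2 * m + 1) + 1 := by ring
    rw [this, pow_succ, pow_mul, hm]
  rw [h2, h2] at h3
  have h4 : s * (s - 1) * (s + 1) = 0 := by linear_combination -h3
  rcases mul_eq_zero.mp h4 with h5 | h5
  · rcases mul_eq_zero.mp h5 with h6 | h6
    · exact hs0 h6
    · exact hs1 (sub_eq_zero.mp h6)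
  · exact hsm (eq_neg_of_add_eq_zero_left h5)

include hm hs in
/-- `U¹' = {u(0,u,v)}` lies in the derived subgroup. -/
theorem ru_derived_mem_reeDer (hK : ∀ s : Kˣ, gh K m s ∈ twistedG2 K (3 ^ m)) (u v : K) :
    ru m (0 : K) u v ∈ reeDer K m := by
  obtain ⟨s, hs10⟩ := exists_chi10_ne_one hm hs
  have key : ∀ u₀ : K, ru m (0 : K) (((ghChi K m s 10 : Kˣ) : K) * u₀ - u₀) 0 ∈ reeDer K m := by
    intro u₀
    have h := reeDer_comm (K := K) (m := m) (hK s) (ru_mem_twisted (0 : K) u₀ 0)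
    rw [gh_conj_ru hm] at h
    have hinv : (ru m (0 : K) u₀ 0)⁻¹ = ru m (0 : K) (-u₀) 0 := by
      rw [inv_eq_iff_mul_eq_one, ru_mul hm]
      rw [← ru_zero (K := K) (m := m)]
      congr 1 <;> simp
    rw [hinv, ru_mul hm] at h
    convert h using 2
    · simp
    · simp; ring
    · simp
  have hne : ((ghChi K m s 10 : Kˣ) : K) - 1 ≠ 0 := sub_ne_zero.mpr hs10
  have h1 := key (u / (((ghChi K m s 10 : Kˣ) : K) - 1))
  have e1 : ((ghChi K m s 10 : Kˣ) : K) * (u / (((ghChi K m s 10 : Kˣ) : K) - 1)) -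
      u / (((ghChi K m s 10 : Kˣ) : K) - 1) = u := by
    field_simp
  rw [e1] at h1
  have h2 := mul_mem h1 (ru_center_mem_reeDer hm v)
  rw [ru_mul hm] at h2
  convert h2 using 2
  · simp
  · simp
  · simp

include hm hs in
/-- `U¹` lies in the derived subgroup. -/
theorem ru_mem_reeDer (hK : ∀ s : Kˣ, gh K m s ∈ twistedG2 K (3 ^ m)) (t u v : K) :
    ru m t u v ∈ reeDer K m := by
  have key : ∃ u₀ v₀ : K, ru m t u₀ v₀ ∈ reeDer K m := by
    have h := reeDer_comm (K := K) (m := m) gh_neg_one_mem (ru_mem_twisted t 0 0)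
    rw [gh_conj_ru hm, gh_neg_one_chi6 hm] at h
    obtain ⟨u', v', hinv⟩ := ru_inv_eq hm t 0 0
    rw [hinv, ru_mul hm] at h
    have h3 : (3 : K) = 0 := three_eq_zero'
    have e : -1 * t + -t = t := by linear_combination (-t) * h3
    rw [e] at h
    exact ⟨_, _, h⟩
  obtain ⟨u₀, v₀, h0⟩ := key
  have h2 := mul_mem h0 (ru_derived_mem_reeDer hm hs hK (u - u₀) (v - v₀))
  rw [ru_mul hm] at h2
  convert h2 using 2
  · simp
  · simp
  · simp

end perfect

end Cfsg.Agent.Helper7.Chev
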