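import Mathlib
import Cfsg.Agent.Helper7.ChevRee25
import Cfsg.Agent.Helper7.BNSimple

set_option autoImplicit false
set_option linter.unusedSectionVars false
set_option linter.unusedVariables false

/-!
The twisted group of type `G₂` over the field with `3 ^ (2 m + 1)` elements, `m ≥ 1`, is perfect and simple.
-/

namespace Cfsg.Agent.Helper7.Chev

open Cfsg Cfsg.Lie Matrix

section finite

variable {K : Type*} [Field K] [Fintype K] [CharP K 3] {m : ℕ}

theorem ree_exists_s (hK : Fintype.card K = 3 ^ (2 * m + 1)) (h1 : 1 ≤ m) :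
    ∃ s : K, s ≠ 0 ∧ s ≠ 1 ∧ s ≠ -1 := by
  classical
  by_contra h
  push_neg at h
  have hsub : (Finset.univ : Finset K) ⊆ {0, 1, -1} := by
    intro s _
    simp only [Finset.mem_insert, Finset.mem_singleton]
    by_cases h0 : s = 0
    · exact Or.inl h0
    · by_cases h1 : s = 1
      · exact Or.inr (Or.inl h1)
      · exact Or.inr (Or.inr (h s h0 h1))
  have hc := Finset.card_le_card hsub
  rw [Finset.card_univ, hK] at hc
  have h3 : ({0, 1, -1} : Finset K).card ≤ 3 := Finset.card_le_three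
  have h27 : 3 ^ 3 ≤ 3 ^ (2 * m + 1) := Nat.pow_le_pow_right (by norm_num) (by omega)
  omega

/-- The twisted group is perfect. -/
theorem ree_perfect_twisted (hK : Fintype.card K = 3 ^ (2 * m + 1)) (h1 : 1 ≤ m) :
    commutator ↥(twistedG2 K (3 ^ m)) = ⊤ := by
  have hm := pow_card_three hK
  have hs := ree_exists_s hK h1
  have hgh : ∀ s : Kˣ, gh K m s ∈ twistedG2 K (3 ^ m) := gh_mem_twisted hK
  obtain ⟨n₀, hn₀, hn₀H⟩ := exists_rN_not_mem hm
  have hn₀G : n₀ ∈ twistedG2 K (3 ^ m) := (mem_rN.mp hn₀).2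
  have hle : twistedG2 K (3 ^ m) ≤ reeDer K m := by
    conv_lhs => rw [twistedG2_eq]
    rw [Subgroup.closure_le]
    rintro g (⟨t, u, v, rfl⟩ | ⟨t, u, v, rfl⟩)
    · exact ru_mem_reeDer hm hs hgh t u v
    · have hv : rv m t u v ∈ chevG2.negUnipotent K :=
        nuGL_pos good3_G2.toGood2 T0_G2 T25_G2 (uA_mem_pos _ _ _ _ _ _)
      have hvG : rv m t u v ∈ twistedG2 K (3 ^ m) := rv_mem_twisted t u v
      rcases rN_cases hm hn₀ with hd | ⟨h₀, hh₀, e⟩
      · exact absurd hd hn₀H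
      have hU : n₀⁻¹ * rv m t u v * n₀ ∈ chevG2.posUnipotent K := by
        rw [e]; exact hnw_conj_neg hh₀ hv
      have hUG : n₀⁻¹ * rv m t u v * n₀ ∈ twistedG2 K (3 ^ m) :=
        mul_mem (mul_mem (inv_mem hn₀G) hvG) hn₀G
      obtain ⟨t', u', v', e'⟩ := (mem_pos_inf_twistedG2 hm).mp (Subgroup.mem_inf.mpr ⟨hU, hUG⟩)
      have e2 : rv m t u v = n₀ * (n₀⁻¹ * rv m t u v * n₀) * n₀⁻¹ := by group
      change rv m t u v ∈ reeDer K m
      rw [e2, e']
      exact reeDer_conj hn₀G (ru_mem_reeDer hm hs hgh t' u' v')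
  rw [eq_top_iff]
  intro x _
  obtain ⟨y, hy, hxy⟩ := hle x.2
  have : y = x := Subtype.ext hxy
  rw [← this]
  exact hy

end finite

/-- The statement of S1116. -/
theorem ree_S1116 {K : Type*} [Field K] [Fintype K] {m : ℕ} (hK : Fintype.card K = 3 ^ (2 * m + 1))
    (hm1 : 1 ≤ m) : commutator ↥(twistedG2 K (3 ^ m)) = ⊤ := by
  haveI := charP_three_of_card (by omega) hK
  exact ree_perfect_twisted hK hm1

/-- The statement of S1073. -/
theorem ree_S1073 {K : Type*} [Field K] [Fintype K] {m : ℕ} (hm1 : 1 ≤ m)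
    (hK : Fintype.card K = 3 ^ (2 * m + 1)) :
    IsSimpleGroup ↥(twistedG2 K (3 ^ m)) ∧ ¬ IsMulCommutative ↥(twistedG2 K (3 ^ m)) := by
  haveI := charP_three_of_card (by omega) hK
  have hm := pow_card_three hK
  have hperf := ree_perfect_twisted hK hm1
  obtain ⟨P, hPB, hPN⟩ := ree_exists_bnPair (K := K) hm
  have memB : ∀ x : ↥(twistedG2 K (3 ^ m)),
      x ∈ (chevG2.borelSubgroup K ⊓ twistedG2 K (3 ^ m)).subgroupOf (twistedG2 K (3 ^ m)) ↔
        (x : GL chevG2.Idx K) ∈ chevG2.borelSubgroup K := by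
    intro x
    rw [Subgroup.mem_subgroupOf, Subgroup.mem_inf]
    exact ⟨fun h => h.1, fun h => ⟨h, x.2⟩⟩
  have memN : ∀ x : ↥(twistedG2 K (3 ^ m)),
      x ∈ (chevG2.monomialSubgroup K ⊓ twistedG2 K (3 ^ m)).subgroupOf (twistedG2 K (3 ^ m)) ↔
        (x : GL chevG2.Idx K) ∈ chevG2.monomialSubgroup K := by
    intro x
    rw [Subgroup.mem_subgroupOf, Subgroup.mem_inf]
    exact ⟨fun h => h.1, fun h => ⟨h, x.2⟩⟩
  -- the elements of `S` are outside `B`
  have hSB : ∀ s ∈ P.S, s ∉ P.B := by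
    intro s hs hsB
    apply P.conj_ne s hs
    ext b
    constructor
    · rintro ⟨b', hb', rfl⟩
      exact mul_mem (mul_mem hsB hb') hsB
    · intro hb
      exact ⟨s⁻¹ * b * s⁻¹, mul_mem (mul_mem (inv_mem hsB) hb) (inv_mem hsB), by group⟩
  have hSN : ∀ s ∈ P.S, (s : GL chevG2.Idx K) ∈ rN K m ∧
      (s : GL chevG2.Idx K) ∉ chevG2.diagonalSubgroup K := by
    intro s hs
    have h1 := P.subset hs
    rw [SetLike.mem_coe, hPN, memN] at h1
    refine ⟨mem_rN.mpr ⟨h1, s.2⟩, fun hd => hSB s hs ?_⟩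
    rw [hPB, memB]
    exact Subgroup.mem_sup_right hd
  have hirr : P.Irreducible := by
    intro J hJ ⟨s, hs⟩ ⟨s', hs'⟩
    exfalso
    obtain ⟨h1, h2⟩ := hSN s (hJ hs)
    obtain ⟨h1', h2'⟩ := hSN s' hs'.1
    have h3 := (rN_mul_mem hm h1 h1' h2 h2').2.2
    have h4 : s⁻¹ * s' ∈ P.B := by
      rw [hPB, memB]
      exact rH_le_borel h3
    have := P.inj s (hJ hs) s' hs'.1 h4
    rw [this] at hs
    exact hs'.2 hs
  have hsolv : Group.IsSolvable ↥P.B := by
    rw [hPB]
    have hBs : Group.IsSolvable ↥(chevG2.borelSubgroup K) :=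
      borel_isSolvable (F := K) good3_G2.toGood2 T0_G2
    let φ : ↥((chevG2.borelSubgroup K ⊓ twistedG2 K (3 ^ m)).subgroupOf (twistedG2 K (3 ^ m))) →*
        ↥(chevG2.borelSubgroup K) :=
      { toFun := fun x => ⟨((x : ↥(twistedG2 K (3 ^ m))) : GL chevG2.Idx K), (memB x.1).mp x.2⟩
        map_one' := rfl
        map_mul' := fun _ _ => rfl }
    apply solvable_of_solvable_injective (f := φ)
    intro x y hxy
    have := congrArg (fun z : ↥(chevG2.borelSubgroup K) => (z : GL chevG2.Idx K)) hxy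
    exact Subtype.ext (Subtype.ext this)
  have hcore : P.B.normalCore = ⊥ := by
    rw [hPB]
    exact ree_S1117 hK
  haveI : Nontrivial ↥(twistedG2 K (3 ^ m)) := by
    refine ⟨⟨⟨ru m (0 : K) 0 1, ru_mem_twisted _ _ _⟩, 1, ?_⟩⟩
    intro h
    have h2 : ru m (0 : K) 0 1 = ru m (0 : K) 0 0 := by
      rw [ru_zero]
      exact congrArg Subtype.val h
    exact one_ne_zero (ru_injective h2).2.2
  refine ⟨BN.isSimpleGroup_of_irreducible P hirr hsolv hperf hcore, ?_⟩
  intro hcomm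
  have hbot : commutator ↥(twistedG2 K (3 ^ m)) = ⊥ := by
    rw [eq_bot_iff, commutator_def, Subgroup.commutator_le]
    intro a _ b _
    rw [Subgroup.mem_bot, commutatorElement_def]
    have := (isMulCommutative_iff.mp hcomm) a b
    rw [this]; group
  rw [hperf] at hbot
  exact top_ne_bot hbot

end Cfsg.Agent.Helper7.Chev
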