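import Mathlib
import Cfsg.Agent.Helper7.ChevRee26

set_option autoImplicit false
set_option linter.unusedSectionVars false
set_option linter.unusedVariables false

/-!
The cube of an element of `U¹` in the twisted group of type `G₂`, and the number of the elements of order 3 of `U¹`.
-/

namespace Cfsg.Agent.Helper7.Chev

open Cfsg Cfsg.Lie Matrix

section cube

variable {K : Type*} [Field K] [CharP K 3] {m : ℕ} (hm : ∀ t : K, t ^ 3 ^ (2 * m + 1) = t)

include hm in
/-- The cube of an element of `U¹`. -/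
theorem ru_cube (t u v : K) :
    ru m t u v ^ 3 = ru m (0 : K) 0 (-(reeTh K (m + 1) t * t ^ 2)) := by
  have h3 : (3 : K) = 0 := three_eq_zero'
  rw [pow_succ, pow_succ, pow_one, ru_mul hm, ru_mul hm]
  congr 1
  · linear_combination t * h3
  · linear_combination (u - reeTh K (m + 1) t * t) * h3
  · linear_combination (v - t * u) * h3

include hm in
/-- The elements of order 3 of `U¹`. -/
theorem ru_orderOf_eq_three (t u v : K) :
    orderOf (ru m t u v) = 3 ↔ t = 0 ∧ (u ≠ 0 ∨ v ≠ 0) := by
  haveI : Fact (Nat.Prime 3) := ⟨Nat.prime_three⟩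
  rw [orderOf_eq_prime_iff, ru_cube hm]
  constructor
  · rintro ⟨h1, h2⟩
    rw [← ru_zero (K := K) (m := m)] at h1
    obtain ⟨_, _, h3⟩ := ru_injective h1
    have ht : t = 0 := by
      by_contra ht
      have : reeTh K (m + 1) t * t ^ 2 ≠ 0 :=
        mul_ne_zero ((map_ne_zero _).mpr ht) (pow_ne_zero _ ht)
      exact this (neg_eq_zero.mp h3)
    refine ⟨ht, ?_⟩
    by_contra hc
    push_neg at hc
    apply h2
    rw [ht, hc.1, hc.2, ru_zero]
  · rintro ⟨rfl, huv⟩
    constructor
    · simp [ru_zero]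
    · intro h
      rw [← ru_zero (K := K) (m := m)] at h
      obtain ⟨_, h2, h3⟩ := ru_injective h
      rcases huv with h' | h'
      · exact h' h2
      · exact h' h3

include hm in
theorem ree_order_three_bijective :
    Function.Bijective (fun p : {p : K × K // ¬ p = 0} =>
      (⟨⟨ru m 0 p.1.1 p.1.2, (mem_pos_inf_twistedG2 hm).mpr ⟨_, _, _, rfl⟩⟩, by
        rw [Subgroup.orderOf_mk, ru_orderOf_eq_three hm]
        refine ⟨rfl, ?_⟩
        by_contra hc
        push_neg at hc
        exact p.2 (Prod.ext hc.1 hc.2)⟩ :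
        {x : ↥(chevG2.posUnipotent K ⊓ twistedG2 K (3 ^ m)) // orderOf x = 3})) := by
  constructor
  · rintro ⟨⟨u, v⟩, hp⟩ ⟨⟨u', v'⟩, hp'⟩ h
    have h1 := congrArg (fun x : {x : ↥(chevG2.posUnipotent K ⊓ twistedG2 K (3 ^ m)) // orderOf x = 3} =>
      ((x : ↥(chevG2.posUnipotent K ⊓ twistedG2 K (3 ^ m))) : GL chevG2.Idx K)) h
    obtain ⟨_, h2, h3⟩ := ru_injective h1
    simp only at h2 h3
    subst h2; subst h3
    rfl
  · rintro ⟨⟨g, hg⟩, hx⟩
    obtain ⟨t, u, v, rfl⟩ := (mem_pos_inf_twistedG2 hm).mp hg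
    rw [Subgroup.orderOf_mk, ru_orderOf_eq_three hm] at hx
    obtain ⟨rfl, huv⟩ := hx
    refine ⟨⟨(u, v), ?_⟩, rfl⟩
    intro h
    rcases huv with h' | h'
    · exact h' (congrArg Prod.fst h)
    · exact h' (congrArg Prod.snd h)

include hm in
theorem ree_card_order_three [Fintype K] :
    Nat.card {x : ↥(chevG2.posUnipotent K ⊓ twistedG2 K (3 ^ m)) // orderOf x = 3} =
      Fintype.card K ^ 2 - 1 := by
  classical
  rw [← Nat.card_congr (Equiv.ofBijective _ (ree_order_three_bijective hm)), Nat.card_eq_fintype_card,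
    Fintype.card_subtype_compl, Fintype.card_subtype_eq, Fintype.card_prod, sq]

end cube

/-- The statement of S1154. -/
theorem ree_S1154 {K : Type*} [Field K] [Fintype K] {m : ℕ} (hK : Fintype.card K = 3 ^ (2 * m + 1)) :
    Nat.card {u : ↥(chevG2.posUnipotent K ⊓ twistedG2 K (3 ^ m)) // orderOf u = 3} =
      (3 ^ (2 * m + 1)) ^ 2 - 1 := by
  haveI := charP_three_of_card (by omega) hK
  rw [ree_card_order_three (pow_card_three hK), hK]

end Cfsg.Agent.Helper7.Chev
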