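import Mathlib
import Cfsg.Agent.Helper7.ChevRee27

set_option autoImplicit false
set_option linter.unusedSectionVars false
set_option linter.unusedVariables false

/-!
The elements of odd order of `H¹` in the twisted group of type `G₂`: there are `(q - 1) / 2` of them, and those other
than the identity have no fixed points on `U¹`.
-/

namespace Cfsg.Agent.Helper7.Chev

open Cfsg Cfsg.Lie Matrix

section chars

variable {K : Type*} [Field K] [CharP K 3] {m : ℕ} (hm : ∀ t : K, t ^ 3 ^ (2 * m + 1) = t)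

include hm in
theorem reeTh_succ_twice (s : K) : reeTh K (m + 1) (reeTh K (m + 1) s) = s ^ 3 := by
  rw [reeTh_apply, reeTh_apply, ← pow_mul, ← pow_add]
  have : m + 1 + (m + 1) = (2 * m + 1) + 1 := by ring
  rw [this, pow_succ, pow_mul, hm]

include hm in
/-- If the character of `h(s)` on the root subgroup of `3a+b` is trivial then `s ^ 2 = 1`. -/
theorem ghChi10_eq_one (s : Kˣ) (h : ((ghChi K m s 10 : Kˣ) : K) = 1) : s ^ 2 = 1 := by
  rw [ghChi_10] at h
  have h1 : ((Units.map (reeTh K m : K →* K) s) ^ (3 : ℤ) * s ^ (-1 : ℤ) : Kˣ) = 1 := Units.ext h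
  rw [_root_.zpow_neg, zpow_one, mul_inv_eq_one] at h1
  have h2 : reeTh K (m + 1) (s : K) = s := by
    have := congrArg (fun x : Kˣ => (x : K)) h1
    simp only [Units.val_zpow_eq_zpow_val, Units.coe_map, MonoidHom.coe_coe] at this
    rw [reeTh_succ]
    exact_mod_cast this
  have h3 := reeTh_succ_twice hm (s : K)
  rw [h2, h2] at h3
  apply Units.ext
  rw [Units.val_pow_eq_pow_val, Units.val_one]
  have hs : (s : K) ≠ 0 := s.ne_zero
  have : (s : K) * ((s : K) ^ 2 - 1) = 0 := by linear_combination -h3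
  rcases mul_eq_zero.mp this with h5 | h5
  · exact absurd h5 hs
  · exact sub_eq_zero.mp h5

include hm in
/-- If the character of `h(s)` on the root subgroup of `b` is trivial then `s = 1`. -/
theorem ghChi6_eq_one (s : Kˣ) (h : ((ghChi K m s 6 : Kˣ) : K) = 1) : s = 1 := by
  rw [ghChi_6] at h
  have h1 : ((Units.map (reeTh K m : K →* K) s) ^ (-3 : ℤ) * s ^ (2 : ℤ) : Kˣ) = 1 := Units.ext h
  rw [_root_.zpow_neg, inv_mul_eq_one] at h1
  have h2 : reeTh K (m + 1) (s : K) = (s : K) ^ 2 := by
    have := congrArg (fun x : Kˣ => (x : K)) h1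
    simp only [Units.val_zpow_eq_zpow_val, Units.coe_map, MonoidHom.coe_coe] at this
    rw [reeTh_succ]
    exact_mod_cast this
  have h3 := reeTh_succ_twice hm (s : K)
  rw [h2, map_pow, h2] at h3
  apply Units.ext
  rw [Units.val_one]
  have hs : (s : K) ≠ 0 := s.ne_zero
  have : (s : K) ^ 3 * ((s : K) - 1) = 0 := by linear_combination h3
  rcases mul_eq_zero.mp this with h5 | h5
  · exact absurd h5 (pow_ne_zero _ hs)
  · exact sub_eq_zero.mp h5

include hm in
/-- An `h(s)` of odd order other than the identity centralises no element of `U¹` other than the identity. -/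
theorem gh_centralizer_trivial (s : Kˣ) (hs1 : s ≠ 1) (hodd : Odd (orderOf s)) (t u v : K)
    (hc : gh K m s * ru m t u v = ru m t u v * gh K m s) : ru m t u v = 1 := by
  have h1 : gh K m s * ru m t u v * (gh K m s)⁻¹ = ru m t u v := by
    rw [hc, mul_inv_cancel_right]
  rw [gh_conj_ru hm] at h1
  obtain ⟨e1, e2, e3⟩ := ru_injective h1
  rw [ghChi_11] at e3
  have hsK : (s : K) ≠ 1 := fun h => hs1 (Units.ext h)
  have hv : v = 0 := by
    have : ((s : K) - 1) * v = 0 := by linear_combination e3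
    rcases mul_eq_zero.mp this with h | h
    · exact absurd (sub_eq_zero.mp h) hsK
    · exact h
  have hu : u = 0 := by
    by_contra hu
    have : (((ghChi K m s 10 : Kˣ) : K) - 1) * u = 0 := by linear_combination e2
    rcases mul_eq_zero.mp this with h | h
    · have h2 := ghChi10_eq_one hm s (sub_eq_zero.mp h)
      have hd : orderOf s ∣ 2 := orderOf_dvd_of_pow_eq_one h2
      have : orderOf s = 1 := by
        rcases (Nat.dvd_prime Nat.prime_two).mp hd with h | h
        · exact h
        · rw [h] at hodd; exact absurd hodd (by decide)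
      exact hs1 (orderOf_eq_one_iff.mp this)
    · exact hu h
  have ht : t = 0 := by
    by_contra ht
    have : (((ghChi K m s 6 : Kˣ) : K) - 1) * t = 0 := by linear_combination e1
    rcases mul_eq_zero.mp this with h | h
    · exact hs1 (ghChi6_eq_one hm s (sub_eq_zero.mp h))
    · exact ht h
  rw [ht, hu, hv, ru_zero]

end chars

section count

variable {K : Type*} [Field K] [Fintype K] [CharP K 3] {m : ℕ}

/-- The elements of odd order of `Kˣ` are the squares. -/
theorem ree_odd_iff_sq (hK : Fintype.card K = 3 ^ (2 * m + 1)) (s : Kˣ) :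
    Odd (orderOf s) ↔ s ∈ (powMonoidHom 2 : Kˣ →* Kˣ).range := by
  constructor
  · rintro ⟨k, hk⟩
    refine ⟨s ^ (k + 1), ?_⟩
    change (s ^ (k + 1)) ^ 2 = s
    rw [← pow_mul]
    have : (k + 1) * 2 = orderOf s + 1 := by rw [hk]; ring
    rw [this, pow_succ, pow_orderOf_eq_one, one_mul]
  · rintro ⟨y, rfl⟩
    change Odd (orderOf (y ^ 2))
    have h4 := ree_card_mod_four (K := K) hK
    have hcard : Nat.card Kˣ = Fintype.card K - 1 := by
      rw [Nat.card_units, Nat.card_eq_fintype_card]
    have h1 : (y ^ 2) ^ ((Fintype.card K - 1) / 2) = 1 := by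
      rw [← pow_mul]
      have : 2 * ((Fintype.card K - 1) / 2) = Nat.card Kˣ := by
        rw [hcard]; omega
      rw [this, pow_card_eq_one']
    have hd := orderOf_dvd_of_pow_eq_one h1
    have hodd : Odd ((Fintype.card K - 1) / 2) := by
      rw [Nat.odd_iff]; omega
    exact Odd.of_dvd_nat hodd hd

/-- The number of the elements of odd order of `Kˣ`. -/
theorem ree_card_odd_units (hK : Fintype.card K = 3 ^ (2 * m + 1)) :
    2 * Nat.card {s : Kˣ // Odd (orderOf s)} = 3 ^ (2 * m + 1) - 1 := by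
  have h1 : Nat.card {s : Kˣ // Odd (orderOf s)} = Nat.card ↥((powMonoidHom 2 : Kˣ →* Kˣ).range) := by
    apply Nat.card_congr
    exact Equiv.subtypeEquivRight (fun s => ree_odd_iff_sq hK s)
  have h2 : Nat.card ↥((powMonoidHom 2 : Kˣ →* Kˣ).ker) = 2 := by
    rw [Nat.card_eq_two_iff]
    have hne : (1 : Kˣ) ≠ -1 := by
      intro h
      have h' : (1 : K) = -1 := congrArg (fun x : Kˣ => (x : K)) h
      have h3 : (3 : K) = 0 := three_eq_zero'
      have : (1 : K) = 0 := by linear_combination 2 * h' - h3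
      exact one_ne_zero this
    refine ⟨⟨1, one_mem _⟩, ⟨-1, by rw [MonoidHom.mem_ker]; change (-1 : Kˣ) ^ 2 = 1; simp⟩, ?_, ?_⟩
    · intro h
      exact hne (congrArg Subtype.val h)
    · ext ⟨x, hx⟩
      simp only [Set.mem_insert_iff, Set.mem_singleton_iff, Set.mem_univ, iff_true]
      rw [MonoidHom.mem_ker] at hx
      change x ^ 2 = 1 at hx
      have hx' : (x : K) ^ 2 = 1 := by
        have := congrArg (fun y : Kˣ => (y : K)) hx
        simpa using this
      rcases sq_eq_one_iff.mp hx' with h | h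
      · left; exact Subtype.ext (Units.ext h)
      · right; exact Subtype.ext (Units.ext h)
  have h3 := Subgroup.card_mul_index (powMonoidHom 2 : Kˣ →* Kˣ).ker
  rw [Subgroup.index_ker, h2] at h3
  rw [h1, h3, Nat.card_units, Nat.card_eq_fintype_card, hK]

/-- The isomorphism of `Kˣ` onto `H¹`. -/
noncomputable def ghEquiv (hK : Fintype.card K = 3 ^ (2 * m + 1)) : Kˣ ≃* ↥(rH K m) :=
  (MonoidHom.ofInjective (gh_injective (K := K) (m := m))).trans
    (MulEquiv.subgroupCongr (rH_eq_range hK).symm)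

theorem ghEquiv_coe (hK : Fintype.card K = 3 ^ (2 * m + 1)) (s : Kˣ) :
    ((ghEquiv hK s : ↥(rH K m)) : GL chevG2.Idx K) = gh K m s := rfl

theorem ree_card_odd_rH (hK : Fintype.card K = 3 ^ (2 * m + 1)) :
    2 * Nat.card {h : ↥(rH K m) // Odd (orderOf h)} = 3 ^ (2 * m + 1) - 1 := by
  rw [← ree_card_odd_units hK]
  congr 1
  apply Nat.card_congr
  refine ((ghEquiv hK).toEquiv.subtypeEquiv ?_).symm
  intro s
  change Odd (orderOf s) ↔ Odd (orderOf (ghEquiv hK s))
  rw [MulEquiv.orderOf_eq]

end count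

/-- The statement of S1151. -/
theorem ree_S1151 {K : Type*} [Field K] [Fintype K] {m : ℕ} (hK : Fintype.card K = 3 ^ (2 * m + 1)) :
    2 * Nat.card {h : ↥(chevG2.diagonalSubgroup K ⊓ twistedG2 K (3 ^ m)) // Odd (orderOf h)} =
        3 ^ (2 * m + 1) - 1 ∧
      ∀ h ∈ (chevG2.diagonalSubgroup K ⊓ twistedG2 K (3 ^ m)), h ≠ 1 → Odd (orderOf h) →
        (chevG2.posUnipotent K ⊓ twistedG2 K (3 ^ m)) ⊓ Subgroup.centralizer {h} = ⊥ := by
  haveI := charP_three_of_card (by omega) hK
  have hm := pow_card_three hK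
  refine ⟨ree_card_odd_rH hK, ?_⟩
  intro h hh h1 hodd
  obtain ⟨s, rfl⟩ := (mem_rH_iff hK).mp hh
  have hs1 : s ≠ 1 := by
    rintro rfl
    exact h1 (map_one _)
  have hodd' : Odd (orderOf s) := by
    rwa [orderOf_injective (gh K m) gh_injective] at hodd
  rw [eq_bot_iff]
  intro x hx
  rw [Subgroup.mem_inf] at hx
  obtain ⟨t, u, v, rfl⟩ := (mem_pos_inf_twistedG2 hm).mp hx.1
  rw [Subgroup.mem_bot]
  apply gh_centralizer_trivial hm s hs1 hodd'
  exact Subgroup.mem_centralizer_iff.mp hx.2 _ rfl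

end Cfsg.Agent.Helper7.Chev
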