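import Mathlib
import Cfsg.Agent.Helper7.ChevRee28

set_option autoImplicit false
set_option linter.unusedSectionVars false
set_option linter.unusedVariables false

/-!
The Sylow 3-subgroups of the twisted group of type `G₂` are the conjugates of `U¹`, and two of them meet trivially.
-/

namespace Cfsg.Agent.Helper7.Chev

open Cfsg Cfsg.Lie Matrix

section ti

variable {K : Type*} [Field K] [CharP K 3] {m : ℕ} (hm : ∀ t : K, t ^ 3 ^ (2 * m + 1) = t)

theorem borel_le_normalizer_pos {D : ChevalleyDatum} {F : Type*} [Field F] (hG : Good2 D) :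
    D.borelSubgroup F ≤ Subgroup.normalizer (D.posUnipotent F : Set (GL D.Idx F)) := by
  unfold ChevalleyDatum.borelSubgroup
  exact sup_le Subgroup.le_normalizer (diagonalSubgroup_le_normalizer_pos hG)

include hm in
/-- An element of `U` whose conjugate by an element of `G¹` outside `B` is in `U` is the identity. -/
theorem ree_TI {g : GL chevG2.Idx K} (hg : g ∈ twistedG2 K (3 ^ m)) (hgB : g ∉ chevG2.borelSubgroup K)
    {y : GL chevG2.Idx K} (hy : y ∈ chevG2.posUnipotent K) (hy' : g⁻¹ * y * g ∈ chevG2.posUnipotent K) :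
    y = 1 := by
  obtain ⟨n₀, hn₀, hn₀H⟩ := exists_rN_not_mem hm
  rcases twistedG2_cover hm hn₀ hn₀H hg with h | ⟨b, hb, b', hb', rfl⟩
  · exact absurd (Subgroup.mem_inf.mp h).1 hgB
  have hbB := (Subgroup.mem_inf.mp hb).1
  have hb'B := (Subgroup.mem_inf.mp hb').1
  rcases rN_cases hm hn₀ with hd | ⟨h₀, hh₀, rfl⟩
  · exact absurd hd hn₀H
  have hz : b⁻¹ * y * b ∈ chevG2.posUnipotent K := by
    have := (Subgroup.mem_set_normalizer_iff.mp
      (borel_le_normalizer_pos (F := K) good3_G2.toGood2 (inv_mem hbB)) y).mp hy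
    rwa [inv_inv] at this
  have hw : (h₀ * reeNw K)⁻¹ * (b⁻¹ * y * b) * (h₀ * reeNw K) ∈ chevG2.posUnipotent K := by
    have := (Subgroup.mem_set_normalizer_iff.mp
      (borel_le_normalizer_pos (F := K) good3_G2.toGood2 hb'B) _).mp hy'
    have e : b' * ((b * (h₀ * reeNw K) * b')⁻¹ * y * (b * (h₀ * reeNw K) * b')) * b'⁻¹ =
        (h₀ * reeNw K)⁻¹ * (b⁻¹ * y * b) * (h₀ * reeNw K) := by group
    rwa [e] at this
  have hv := hnw_conj_pos hh₀ hw
  have e2 : h₀ * reeNw K * ((h₀ * reeNw K)⁻¹ * (b⁻¹ * y * b) * (h₀ * reeNw K)) * (h₀ * reeNw K)⁻¹ =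
      b⁻¹ * y * b := by group
  rw [e2] at hv
  have h1 : b⁻¹ * y * b ∈ chevG2.borelSubgroup K ⊓ chevG2.negUnipotent K :=
    Subgroup.mem_inf.mpr ⟨Subgroup.mem_sup_left hz, hv⟩
  rw [borel_inf_negUnipotent good3_G2.toGood2 T0_G2, Subgroup.mem_bot] at h1
  have : y = b * (b⁻¹ * y * b) * b⁻¹ := by group
  rw [this, h1]
  group

end ti

section sylow

variable {K : Type*} [Field K] [Fintype K] [CharP K 3] {m : ℕ}

/-- `U¹` as a subgroup of `G¹`. -/
def rU' (K : Type*) [Field K] (m : ℕ) : Subgroup ↥(twistedG2 K (3 ^ m)) :=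
  (rU K m).subgroupOf (twistedG2 K (3 ^ m))

theorem mem_rU' (x : ↥(twistedG2 K (3 ^ m))) : x ∈ rU' K m ↔ (x : GL chevG2.Idx K) ∈ chevG2.posUnipotent K := by
  unfold rU'
  rw [Subgroup.mem_subgroupOf, mem_rU]
  exact ⟨fun h => h.1, fun h => ⟨h, x.2⟩⟩

theorem card_rU' (hK : Fintype.card K = 3 ^ (2 * m + 1)) : Nat.card ↥(rU' K m) = (3 ^ (2 * m + 1)) ^ 3 := by
  have hm := pow_card_three hK
  have hle : rU K m ≤ twistedG2 K (3 ^ m) := inf_le_right
  unfold rU'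
  rw [Nat.card_congr (Subgroup.subgroupOfEquivOfLe hle).toEquiv]
  have := ree_card_posInf (K := K) hm
  rw [hK] at this
  exact this

theorem index_rU' (hK : Fintype.card K = 3 ^ (2 * m + 1)) :
    (rU' K m).index = (3 ^ (2 * m + 1) - 1) * ((3 ^ (2 * m + 1)) ^ 3 + 1) := by
  have h1 := Subgroup.card_mul_index (rU' K m)
  have hG : Nat.card ↥(twistedG2 K (3 ^ m)) =
      (3 ^ (2 * m + 1)) ^ 3 * (3 ^ (2 * m + 1) - 1) * ((3 ^ (2 * m + 1)) ^ 3 + 1) := by
    haveI := charP_three_of_card (by omega) hK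
    have hm := pow_card_three hK
    have hU : Nat.card ↥(rU K m) = (3 ^ (2 * m + 1)) ^ 3 := by
      have := ree_card_posInf (K := K) hm
      rw [hK] at this
      exact this
    rw [ree_card_eq hm, hU, ree_card_rH hK]
    ring
  rw [card_rU' hK, hG, mul_assoc] at h1
  exact Nat.eq_of_mul_eq_mul_left (by positivity) h1

theorem not_three_dvd_index_rU' (hK : Fintype.card K = 3 ^ (2 * m + 1)) : ¬ 3 ∣ (rU' K m).index := by
  rw [index_rU' hK]
  intro h
  have hq : 3 ^ (2 * m + 1) = 3 * 3 ^ (2 * m) := by rw [pow_succ, mul_comm]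
  have hpos : 0 < 3 ^ (2 * m) := by positivity
  rcases (Nat.Prime.dvd_mul Nat.prime_three).mp h with h1 | h1
  · rw [hq] at h1
    omega
  · have h3 : 3 ∣ (3 ^ (2 * m + 1)) ^ 3 := by
      rw [hq, mul_pow]
      exact Dvd.dvd.mul_right (by norm_num) _
    omega

/-- `U¹` is a Sylow 3-subgroup of `G¹`. -/
noncomputable def rUSylow (hK : Fintype.card K = 3 ^ (2 * m + 1)) :
    haveI : Fact (Nat.Prime 3) := ⟨Nat.prime_three⟩
    Sylow 3 ↥(twistedG2 K (3 ^ m)) :=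
  haveI : Fact (Nat.Prime 3) := ⟨Nat.prime_three⟩
  (IsPGroup.of_card (n := 3 * (2 * m + 1)) (by rw [card_rU' hK, ← pow_mul, mul_comm])).toSylow
    (not_three_dvd_index_rU' hK)

theorem coe_rUSylow (hK : Fintype.card K = 3 ^ (2 * m + 1)) :
    ((rUSylow hK : Sylow 3 ↥(twistedG2 K (3 ^ m))) : Subgroup ↥(twistedG2 K (3 ^ m))) = rU' K m := rfl

/-- The Sylow 3-subgroups are the conjugates of `U¹`. -/
theorem sylow_three_eq (hK : Fintype.card K = 3 ^ (2 * m + 1)) (P : Sylow 3 ↥(twistedG2 K (3 ^ m))) :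
    ∃ g : ↥(twistedG2 K (3 ^ m)), ∀ x : ↥(twistedG2 K (3 ^ m)),
      x ∈ (P : Subgroup ↥(twistedG2 K (3 ^ m))) ↔ g⁻¹ * x * g ∈ rU' K m := by
  haveI : Fact (Nat.Prime 3) := ⟨Nat.prime_three⟩
  obtain ⟨g, hg⟩ := MulAction.exists_smul_eq ↥(twistedG2 K (3 ^ m)) (rUSylow hK) P
  refine ⟨g, fun x => ?_⟩
  rw [← hg, Sylow.coe_subgroup_smul, Subgroup.mem_pointwise_smul_iff_inv_smul_mem,
    coe_rUSylow]
  simp [MulAut.smul_def, MulAut.conj_inv_apply]

end sylow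

/-- The statement of S1155. -/
theorem ree_S1155 {K : Type*} [Field K] [Fintype K] {m : ℕ} (hK : Fintype.card K = 3 ^ (2 * m + 1))
    (P Q : Sylow 3 ↥(twistedG2 K (3 ^ m))) (hPQ : P ≠ Q) :
    (P : Subgroup ↥(twistedG2 K (3 ^ m))) ⊓ (Q : Subgroup ↥(twistedG2 K (3 ^ m))) = ⊥ := by
  haveI := charP_three_of_card (by omega) hK
  have hm := pow_card_three hK
  obtain ⟨g₁, h₁⟩ := sylow_three_eq hK P
  obtain ⟨g₂, h₂⟩ := sylow_three_eq hK Q
  rw [eq_bot_iff]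
  intro x hx
  rw [Subgroup.mem_bot]
  obtain ⟨hxP, hxQ⟩ := Subgroup.mem_inf.mp hx
  have hP := (h₁ x).mp hxP
  have hQ := (h₂ x).mp hxQ
  rw [mem_rU'] at hP hQ
  by_cases hB : ((g₂⁻¹ * g₁ : ↥(twistedG2 K (3 ^ m))) : GL chevG2.Idx K) ∈ chevG2.borelSubgroup K
  · -- then `P = Q`
    exfalso
    apply hPQ
    apply Sylow.ext
    ext z
    rw [h₁ z, h₂ z, mem_rU', mem_rU']
    have hn := borel_le_normalizer_pos (F := K) good3_G2.toGood2 hB
    have e : ((g₂⁻¹ * z * g₂ : ↥(twistedG2 K (3 ^ m))) : GL chevG2.Idx K) =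
        ((g₂⁻¹ * g₁ : ↥(twistedG2 K (3 ^ m))) : GL chevG2.Idx K) *
          ((g₁⁻¹ * z * g₁ : ↥(twistedG2 K (3 ^ m))) : GL chevG2.Idx K) *
          ((g₂⁻¹ * g₁ : ↥(twistedG2 K (3 ^ m))) : GL chevG2.Idx K)⁻¹ := by
      simp only [Subgroup.coe_mul, Subgroup.coe_inv]
      group
    rw [e]
    exact Subgroup.mem_set_normalizer_iff.mp hn _
  · have hy : ((g₂⁻¹ * x * g₂ : ↥(twistedG2 K (3 ^ m))) : GL chevG2.Idx K) = 1 := by
      apply ree_TI hm (g₂⁻¹ * g₁).2 hB hQ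
      have e : ((g₂⁻¹ * g₁ : ↥(twistedG2 K (3 ^ m))) : GL chevG2.Idx K)⁻¹ *
          ((g₂⁻¹ * x * g₂ : ↥(twistedG2 K (3 ^ m))) : GL chevG2.Idx K) *
          ((g₂⁻¹ * g₁ : ↥(twistedG2 K (3 ^ m))) : GL chevG2.Idx K) =
          ((g₁⁻¹ * x * g₁ : ↥(twistedG2 K (3 ^ m))) : GL chevG2.Idx K) := by
        simp only [Subgroup.coe_mul, Subgroup.coe_inv]
        group
      rw [e]
      exact hP
    have h1 : g₂⁻¹ * x * g₂ = 1 := Subtype.ext hy
    have : x = g₂ * (g₂⁻¹ * x * g₂) * g₂⁻¹ := by group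
    rw [this, h1]
    group

end Cfsg.Agent.Helper7.Chev
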