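import Mathlib
import Cfsg.Agent.Helper7.ChevRee29

set_option autoImplicit false
set_option linter.unusedSectionVars false
set_option linter.unusedVariables false

/-!
The action of the twisted group of type `G₂` on the cosets of `B¹`: the stabiliser of three cosets has at most two
elements.
-/

namespace Cfsg.Agent.Helper7.Chev

open Cfsg Cfsg.Lie Matrix MulAction

section generic

variable {G : Type*} [Group G]

theorem mem_stab_mk (s : Subgroup G) (g a : G) :
    g ∈ stabilizer G (QuotientGroup.mk a : G ⧸ s) ↔ a⁻¹ * g * a ∈ s := by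
  rw [mem_stabilizer_iff, MulAction.Quotient.smul_mk, QuotientGroup.eq]
  constructor
  · intro h
    have := inv_mem h
    have e : ((g • a)⁻¹ * a)⁻¹ = a⁻¹ * g * a := by simp [smul_eq_mul]; group
    rwa [e] at this
  · intro h
    have := inv_mem h
    have e : (a⁻¹ * g * a)⁻¹ = (g • a)⁻¹ * a := by simp [smul_eq_mul]; group
    rwa [e] at this

/-- The stabiliser of three points. -/
def triStab {α : Type*} [MulAction G α] (x y z : α) : Subgroup G :=
  stabilizer G x ⊓ stabilizer G y ⊓ stabilizer G z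

theorem triStab_smul {α : Type*} [MulAction G α] (g : G) (x y z : α) :
    triStab (G := G) (g • x) (g • y) (g • z) =
      (triStab (G := G) x y z).map (MulAut.conj g).toMonoidHom := by
  unfold triStab
  have hinj : Function.Injective (MulAut.conj g).toMonoidHom := (MulAut.conj g).injective
  rw [Subgroup.map_inf_eq _ _ _ hinj, Subgroup.map_inf_eq _ _ _ hinj,
    stabilizer_smul_eq_stabilizer_map_conj, stabilizer_smul_eq_stabilizer_map_conj,
    stabilizer_smul_eq_stabilizer_map_conj]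

theorem card_triStab_smul {α : Type*} [MulAction G α] (g : G) (x y z : α) :
    Nat.card ↥(triStab (G := G) (g • x) (g • y) (g • z)) = Nat.card ↥(triStab (G := G) x y z) := by
  rw [triStab_smul]
  exact Subgroup.card_map_of_injective (MulAut.conj g).injective

end generic

section stab

variable {K : Type*} [Field K] [CharP K 3] {m : ℕ} (hm : ∀ t : K, t ^ 3 ^ (2 * m + 1) = t)

/-- `B¹` as a subgroup of `G¹`. -/
def rB' (K : Type*) [Field K] (m : ℕ) : Subgroup ↥(twistedG2 K (3 ^ m)) :=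
  (chevG2.borelSubgroup K ⊓ twistedG2 K (3 ^ m)).subgroupOf (twistedG2 K (3 ^ m))

omit [CharP K 3] in
theorem mem_rB' (x : ↥(twistedG2 K (3 ^ m))) :
    x ∈ rB' K m ↔ (x : GL chevG2.Idx K) ∈ chevG2.borelSubgroup K := by
  unfold rB'
  rw [Subgroup.mem_subgroupOf, Subgroup.mem_inf]
  exact ⟨fun h => h.1, fun h => ⟨h, x.2⟩⟩

variable {n₀ : GL chevG2.Idx K} (hn₀ : n₀ ∈ rN K m) (hn₀H : n₀ ∉ chevG2.diagonalSubgroup K)

include hm hn₀ hn₀H in
/-- The stabiliser of the three cosets `B¹`, `n₀ B¹`, `u n₀ B¹`. -/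
theorem mem_triStab_iff {u : GL chevG2.Idx K} (hu : u ∈ rU K m) (g : ↥(twistedG2 K (3 ^ m))) :
    g ∈ triStab (G := ↥(twistedG2 K (3 ^ m)))
        (QuotientGroup.mk 1 : ↥(twistedG2 K (3 ^ m)) ⧸ rB' K m)
        (QuotientGroup.mk ⟨n₀, (mem_rN.mp hn₀).2⟩)
        (QuotientGroup.mk (⟨u, (mem_rU.mp hu).2⟩ * ⟨n₀, (mem_rN.mp hn₀).2⟩)) ↔
      (g : GL chevG2.Idx K) ∈ chevG2.diagonalSubgroup K ∧
        (g : GL chevG2.Idx K) * u * (g : GL chevG2.Idx K)⁻¹ = u := by
  have hn₀G : n₀ ∈ twistedG2 K (3 ^ m) := (mem_rN.mp hn₀).2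
  have hNn : n₀ ∈ Subgroup.normalizer (chevG2.diagonalSubgroup K : Set (GL chevG2.Idx K)) :=
    monomialSubgroup_le_normalizer good3_G2.toGood2 (mem_rN.mp hn₀).1
  have hHB : chevG2.diagonalSubgroup K ≤ chevG2.borelSubgroup K := le_sup_right
  unfold triStab
  rw [Subgroup.mem_inf, Subgroup.mem_inf, mem_stab_mk, mem_stab_mk, mem_stab_mk, mem_rB', mem_rB',
    mem_rB']
  simp only [Subgroup.coe_mul, Subgroup.coe_inv, Subgroup.coe_one, inv_one, one_mul, mul_one]
  constructor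
  · rintro ⟨⟨h1, h2⟩, h3⟩
    have hinv : n₀⁻¹ ∈ rN K m := inv_mem hn₀
    have hinvH : n₀⁻¹ ∉ chevG2.diagonalSubgroup K := fun h => hn₀H (by simpa using inv_mem h)
    have hgH : (g : GL chevG2.Idx K) ∈ chevG2.diagonalSubgroup K := by
      apply ree_borel_conj_mem_diagonal hm hinv hinvH h1
      rw [inv_inv]
      exact h2
    refine ⟨hgH, ?_⟩
    -- the commutator
    set c : GL chevG2.Idx K := u⁻¹ * ((g : GL chevG2.Idx K) * u * (g : GL chevG2.Idx K)⁻¹) with hc
    have hcU : c ∈ chevG2.posUnipotent K :=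
      mul_mem (inv_mem (mem_rU.mp hu).1) ((Subgroup.mem_set_normalizer_iff.mp
        (diagonalSubgroup_le_normalizer_pos good3_G2.toGood2 hgH) _).mp (mem_rU.mp hu).1)
    have hgn : n₀⁻¹ * (g : GL chevG2.Idx K) * n₀ ∈ chevG2.diagonalSubgroup K := conj_mem_diagonal' hNn hgH
    have e : (u * n₀)⁻¹ * (g : GL chevG2.Idx K) * (u * n₀) =
        (n₀⁻¹ * c * n₀) * (n₀⁻¹ * (g : GL chevG2.Idx K) * n₀) := by
      rw [hc]; group
    have hcB : n₀⁻¹ * c * n₀ ∈ chevG2.borelSubgroup K := by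
      have : n₀⁻¹ * c * n₀ = ((u * n₀)⁻¹ * (g : GL chevG2.Idx K) * (u * n₀)) *
          (n₀⁻¹ * (g : GL chevG2.Idx K) * n₀)⁻¹ := by rw [e]; group
      rw [this]
      exact mul_mem h3 (inv_mem (hHB hgn))
    have hcV : n₀⁻¹ * c * n₀ ∈ chevG2.negUnipotent K := by
      rcases rN_cases hm hinv with hd | ⟨h', hh', e'⟩
      · exact absurd hd hinvH
      have := hnw_conj_pos hh' hcU
      rw [← e', inv_inv] at this
      exact this
    have h1' : n₀⁻¹ * c * n₀ ∈ chevG2.borelSubgroup K ⊓ chevG2.negUnipotent K :=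
      Subgroup.mem_inf.mpr ⟨hcB, hcV⟩
    rw [borel_inf_negUnipotent good3_G2.toGood2 T0_G2, Subgroup.mem_bot] at h1'
    have hc1 : c = 1 := by
      have : c = n₀ * (n₀⁻¹ * c * n₀) * n₀⁻¹ := by group
      rw [this, h1']; group
    rw [hc] at hc1
    exact (inv_mul_eq_one.mp hc1).symm
  · rintro ⟨hgH, hcomm⟩
    have hgn : n₀⁻¹ * (g : GL chevG2.Idx K) * n₀ ∈ chevG2.diagonalSubgroup K := conj_mem_diagonal' hNn hgH
    refine ⟨⟨hHB hgH, hHB hgn⟩, ?_⟩
    have e : (u * n₀)⁻¹ * (g : GL chevG2.Idx K) * (u * n₀) = n₀⁻¹ * (g : GL chevG2.Idx K) * n₀ := by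
      have h1 : u⁻¹ * (g : GL chevG2.Idx K) * u = (g : GL chevG2.Idx K) := by
        have : (g : GL chevG2.Idx K) * u = u * (g : GL chevG2.Idx K) := by
          calc (g : GL chevG2.Idx K) * u
              = ((g : GL chevG2.Idx K) * u * (g : GL chevG2.Idx K)⁻¹) * (g : GL chevG2.Idx K) := by group
            _ = u * (g : GL chevG2.Idx K) := by rw [hcomm]
        rw [mul_assoc, this]; group
      calc (u * n₀)⁻¹ * (g : GL chevG2.Idx K) * (u * n₀)
          = n₀⁻¹ * (u⁻¹ * (g : GL chevG2.Idx K) * u) * n₀ := by group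
        _ = n₀⁻¹ * (g : GL chevG2.Idx K) * n₀ := by rw [h1]
    rw [e]
    exact hHB hgn

end stab

section finite

variable {K : Type*} [Field K] [Fintype K] [CharP K 3] {m : ℕ}

/-- The involution of `H¹` as an element of `G¹`. -/
noncomputable def reeInv (K : Type*) [Field K] [CharP K 3] (m : ℕ) : ↥(twistedG2 K (3 ^ m)) :=
  ⟨gh K m (-1), gh_neg_one_mem⟩

omit [Fintype K] in
theorem orderOf_reeInv : orderOf (reeInv K m) = 2 := by
  haveI : Fact (Nat.Prime 2) := ⟨Nat.prime_two⟩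
  apply orderOf_eq_prime
  · apply Subtype.ext
    change gh K m (-1) ^ 2 = 1
    rw [← map_pow]
    simp
  · intro h
    have h1 : gh K m (-1) = gh K m 1 := by
      rw [map_one]; exact congrArg Subtype.val h
    have h2 := gh_injective h1
    have h3 : (3 : K) = 0 := three_eq_zero'
    have h' : (-1 : K) = 1 := congrArg (fun x : Kˣ => (x : K)) h2
    have : (1 : K) = 0 := by linear_combination h3 + h'
    exact one_ne_zero this

/-- An element of `H¹` centralising an element of `U¹` other than the identity is `1` or the involution. -/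
theorem ree_centralizer_le (hK : Fintype.card K = 3 ^ (2 * m + 1)) {t a b : K} (hne : ru m t a b ≠ 1)
    (g : ↥(twistedG2 K (3 ^ m))) (hgH : (g : GL chevG2.Idx K) ∈ chevG2.diagonalSubgroup K)
    (hc : (g : GL chevG2.Idx K) * ru m t a b * (g : GL chevG2.Idx K)⁻¹ = ru m t a b) :
    g ∈ Subgroup.zpowers (reeInv K m) := by
  have hm := pow_card_three hK
  obtain ⟨s, hs⟩ := (mem_rH_iff hK).mp (mem_rH.mpr ⟨hgH, g.2⟩)
  rw [hs, gh_conj_ru hm] at hc
  obtain ⟨e1, e2, e3⟩ := ru_injective hc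
  rw [ghChi_11] at e3
  have hsq : s ^ 2 = 1 := by
    by_cases hb : b = 0
    · by_cases ha : a = 0
      · have ht : t ≠ 0 := by
          intro ht
          apply hne
          rw [ht, ha, hb, ru_zero]
        have : (((ghChi K m s 6 : Kˣ) : K) - 1) * t = 0 := by linear_combination e1
        rcases mul_eq_zero.mp this with h | h
        · rw [ghChi6_eq_one hm s (sub_eq_zero.mp h)]; simp
        · exact absurd h ht
      · have : (((ghChi K m s 10 : Kˣ) : K) - 1) * a = 0 := by linear_combination e2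
        rcases mul_eq_zero.mp this with h | h
        · exact ghChi10_eq_one hm s (sub_eq_zero.mp h)
        · exact absurd h ha
    · have : ((s : K) - 1) * b = 0 := by linear_combination e3
      rcases mul_eq_zero.mp this with h | h
      · have : s = 1 := Units.ext (sub_eq_zero.mp h)
        rw [this]; simp
      · exact absurd h hb
  have hsK : (s : K) ^ 2 = 1 := by
    have := congrArg (fun x : Kˣ => (x : K)) hsq
    simpa using this
  rcases sq_eq_one_iff.mp hsK with h | h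
  · have : g = 1 := by
      apply Subtype.ext
      rw [hs, (Units.ext h : s = 1), map_one]
      rfl
    rw [this]
    exact one_mem _
  · have : g = reeInv K m := by
      apply Subtype.ext
      rw [hs, (Units.ext h : s = -1)]
      rfl
    rw [this]
    exact Subgroup.mem_zpowers _

/-- The involution centralises `u(0,1,0)`. -/
theorem reeInv_conj (hK : Fintype.card K = 3 ^ (2 * m + 1)) :
    gh K m (-1) * ru m (0 : K) 1 0 * (gh K m (-1))⁻¹ = ru m (0 : K) 1 0 := by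
  have hm := pow_card_three hK
  rw [gh_conj_ru hm]
  have h10 : ((ghChi K m (-1) 10 : Kˣ) : K) = 1 := by
    rw [ghChi_10]
    have : Units.map (reeTh K m : K →* K) (-1 : Kˣ) = -1 := by
      apply Units.ext
      change reeTh K m ((-1 : Kˣ) : K) = ((-1 : Kˣ) : K)
      simp
    rw [this]
    have h1 : ((-1 : Kˣ)) ^ (3 : ℤ) = -1 := Odd.neg_one_zpow (by decide)
    have h2 : ((-1 : Kˣ)) ^ (-1 : ℤ) = -1 := by
      rw [_root_.zpow_neg, zpow_one, inv_neg, inv_one]
    rw [h1, h2]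
    simp
  rw [h10]
  simp

end finite

/-- The statement of S1153, in terms of `rB'` and `triStab`. -/
theorem ree_S1153' {K : Type*} [Field K] [Fintype K] {m : ℕ} (hK : Fintype.card K = 3 ^ (2 * m + 1)) :
    (∀ x y z : ↥(twistedG2 K (3 ^ m)) ⧸ rB' K m, x ≠ y → x ≠ z → y ≠ z →
        Nat.card ↥(triStab (G := ↥(twistedG2 K (3 ^ m))) x y z) ≤ 2) ∧
      ∃ x y z : ↥(twistedG2 K (3 ^ m)) ⧸ rB' K m, x ≠ y ∧ x ≠ z ∧ y ≠ z ∧
        Nat.card ↥(triStab (G := ↥(twistedG2 K (3 ^ m))) x y z) = 2 := by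
  haveI := charP_three_of_card (by omega) hK
  have hm := pow_card_three hK
  obtain ⟨n₀, hn₀, hn₀H⟩ := exists_rN_not_mem hm
  have hn₀G : n₀ ∈ twistedG2 K (3 ^ m) := (mem_rN.mp hn₀).2
  have hNn : n₀ ∈ Subgroup.normalizer (chevG2.diagonalSubgroup K : Set (GL chevG2.Idx K)) :=
    monomialSubgroup_le_normalizer good3_G2.toGood2 (mem_rN.mp hn₀).1
  have hHB : chevG2.diagonalSubgroup K ≤ chevG2.borelSubgroup K := le_sup_right
  have hn₀B : n₀ ∉ chevG2.borelSubgroup K := rN_not_mem_borel hm hn₀ hn₀H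
  have hcard2 : Nat.card ↥(Subgroup.zpowers (reeInv K m)) = 2 := by
    rw [Nat.card_zpowers, orderOf_reeInv]
  -- the standard triples
  have hstd : ∀ {t a b : K}, ru m t a b ≠ 1 →
      Nat.card ↥(triStab (G := ↥(twistedG2 K (3 ^ m)))
        (QuotientGroup.mk 1 : ↥(twistedG2 K (3 ^ m)) ⧸ rB' K m)
        (QuotientGroup.mk ⟨n₀, hn₀G⟩)
        (QuotientGroup.mk (⟨ru m t a b, ru_mem_twisted t a b⟩ * ⟨n₀, hn₀G⟩))) ≤ 2 := by
    intro t a b hne
    rw [← hcard2]
    apply Subgroup.card_le_of_le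
    intro g hg
    have hu : ru m t a b ∈ rU K m := mem_rU.mpr ⟨uA_mem_pos _ _ _ _ _ _, ru_mem_twisted t a b⟩
    obtain ⟨h1, h2⟩ := (mem_triStab_iff hm hn₀ hn₀H hu g).mp hg
    exact ree_centralizer_le hK hne g h1 h2
  -- distinctness facts for cosets
  have hmk_eq : ∀ a b : ↥(twistedG2 K (3 ^ m)),
      (QuotientGroup.mk a : ↥(twistedG2 K (3 ^ m)) ⧸ rB' K m) = QuotientGroup.mk b ↔
        (a : GL chevG2.Idx K)⁻¹ * (b : GL chevG2.Idx K) ∈ chevG2.borelSubgroup K := by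
    intro a b
    rw [QuotientGroup.eq, mem_rB']
    rfl
  constructor
  · intro x y z hxy hxz hyz
    obtain ⟨g₁, rfl⟩ := QuotientGroup.mk_surjective x
    -- move `x` to the base coset
    obtain ⟨a, ha⟩ := QuotientGroup.mk_surjective (g₁⁻¹ • y)
    obtain ⟨c, hc⟩ := QuotientGroup.mk_surjective (g₁⁻¹ • z)
    have hx1 : (QuotientGroup.mk g₁ : ↥(twistedG2 K (3 ^ m)) ⧸ rB' K m) = g₁ • QuotientGroup.mk 1 := by
      rw [MulAction.Quotient.smul_mk, smul_eq_mul, mul_one]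
    have hy1 : y = g₁ • QuotientGroup.mk a := by rw [ha, smul_inv_smul]
    have hz1 : z = g₁ • QuotientGroup.mk c := by rw [hc, smul_inv_smul]
    have haB : (a : GL chevG2.Idx K) ∉ chevG2.borelSubgroup K := by
      intro h
      apply hxy
      rw [hx1, hy1]
      congr 1
      rw [hmk_eq]
      simpa using h
    have hcB : (c : GL chevG2.Idx K) ∉ chevG2.borelSubgroup K := by
      intro h
      apply hxz
      rw [hx1, hz1]
      congr 1
      rw [hmk_eq]
      simpa using h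
    -- `a = u h n₀ u'`
    rcases twistedG2_subset_reeX hm hn₀ hn₀H a.2 with ⟨u, hu, h, hh, e⟩ | ⟨u, hu, h, hh, u', hu', ea⟩
    · exact absurd (by rw [e]; exact mul_mem (rU_le_borel hu) (rH_le_borel hh)) haB
    set b₁ : ↥(twistedG2 K (3 ^ m)) := ⟨u * h, mul_mem (mem_rU.mp hu).2 (mem_rH.mp hh).2⟩ with hb₁
    have hb₁B : (b₁ : GL chevG2.Idx K) ∈ chevG2.borelSubgroup K :=
      mul_mem (rU_le_borel hu) (rH_le_borel hh)
    have hya : (QuotientGroup.mk a : ↥(twistedG2 K (3 ^ m)) ⧸ rB' K m) =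
        b₁ • QuotientGroup.mk ⟨n₀, hn₀G⟩ := by
      rw [MulAction.Quotient.smul_mk, hmk_eq]
      change (a : GL chevG2.Idx K)⁻¹ * (u * h * n₀) ∈ _
      rw [ea]
      have : (u * h * n₀ * u')⁻¹ * (u * h * n₀) = u'⁻¹ := by group
      rw [this]
      exact inv_mem (rU_le_borel hu')
    obtain ⟨c₂, hc₂⟩ := QuotientGroup.mk_surjective (b₁⁻¹ • (QuotientGroup.mk c : ↥(twistedG2 K (3 ^ m)) ⧸ rB' K m))
    have hzc : (QuotientGroup.mk c : ↥(twistedG2 K (3 ^ m)) ⧸ rB' K m) = b₁ • QuotientGroup.mk c₂ := by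
      rw [hc₂, smul_inv_smul]
    have hb1 : (QuotientGroup.mk 1 : ↥(twistedG2 K (3 ^ m)) ⧸ rB' K m) = b₁ • QuotientGroup.mk 1 := by
      rw [MulAction.Quotient.smul_mk, hmk_eq]
      simpa using hb₁B
    have hc₂B : (c₂ : GL chevG2.Idx K) ∉ chevG2.borelSubgroup K := by
      intro h
      apply hcB
      have h1 : (QuotientGroup.mk c : ↥(twistedG2 K (3 ^ m)) ⧸ rB' K m) = QuotientGroup.mk 1 := by
        rw [hzc, hb1]
        congr 1
        rw [hmk_eq]
        have : (c₂ : GL chevG2.Idx K)⁻¹ * ((1 : ↥(twistedG2 K (3 ^ m))) : GL chevG2.Idx K) =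
            (c₂ : GL chevG2.Idx K)⁻¹ := by simp
        rw [this]
        exact inv_mem h
      have := (hmk_eq c 1).mp h1
      simpa using inv_mem this
    rcases twistedG2_subset_reeX hm hn₀ hn₀H c₂.2 with ⟨u₂, hu₂, h₂, hh₂, e⟩ |
      ⟨u₂, hu₂, h₂, hh₂, u₂', hu₂', ec⟩
    · exact absurd (by rw [e]; exact mul_mem (rU_le_borel hu₂) (rH_le_borel hh₂)) hc₂B
    obtain ⟨t₂, a₂, b₂, rfl⟩ := (mem_pos_inf_twistedG2 hm).mp (show u₂ ∈ chevG2.posUnipotent K ⊓ twistedG2 K (3 ^ m) from hu₂)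
    have hzc₂ : (QuotientGroup.mk c₂ : ↥(twistedG2 K (3 ^ m)) ⧸ rB' K m) =
        QuotientGroup.mk (⟨ru m t₂ a₂ b₂, ru_mem_twisted t₂ a₂ b₂⟩ * ⟨n₀, hn₀G⟩) := by
      rw [hmk_eq]
      change (c₂ : GL chevG2.Idx K)⁻¹ * (ru m t₂ a₂ b₂ * n₀) ∈ _
      rw [ec]
      have : (ru m t₂ a₂ b₂ * h₂ * n₀ * u₂')⁻¹ * (ru m t₂ a₂ b₂ * n₀) =
          u₂'⁻¹ * (n₀⁻¹ * h₂⁻¹ * n₀) := by group
      rw [this]
      exact mul_mem (inv_mem (rU_le_borel hu₂'))
        (hHB (conj_mem_diagonal' hNn (inv_mem (mem_rH.mp hh₂).1)))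
    have hne : ru m t₂ a₂ b₂ ≠ 1 := by
      intro h1
      apply hyz
      rw [hy1, hz1, hya, hzc, hzc₂]
      congr 3
      apply Subtype.ext
      change n₀ = ru m t₂ a₂ b₂ * n₀
      rw [h1, one_mul]
    have key : triStab (G := ↥(twistedG2 K (3 ^ m))) (QuotientGroup.mk g₁ : ↥(twistedG2 K (3 ^ m)) ⧸ rB' K m) y z =
        triStab (G := ↥(twistedG2 K (3 ^ m))) ((g₁ * b₁) • (QuotientGroup.mk 1 : ↥(twistedG2 K (3 ^ m)) ⧸ rB' K m))
          ((g₁ * b₁) • QuotientGroup.mk ⟨n₀, hn₀G⟩)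
          ((g₁ * b₁) • QuotientGroup.mk (⟨ru m t₂ a₂ b₂, ru_mem_twisted t₂ a₂ b₂⟩ * ⟨n₀, hn₀G⟩)) := by
      rw [mul_smul, mul_smul, mul_smul, ← hb1, ← hx1, ← hya, ← hy1, ← hzc₂, ← hzc, ← hz1]
    rw [key, card_triStab_smul]
    exact hstd hne
  · have hu0 : ru m (0 : K) 1 0 ≠ 1 := by
      intro h
      rw [← ru_zero (K := K) (m := m)] at h
      exact one_ne_zero (ru_injective h).2.1
    have hu : ru m (0 : K) 1 0 ∈ rU K m := mem_rU.mpr ⟨uA_mem_pos _ _ _ _ _ _, ru_mem_twisted _ _ _⟩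
    refine ⟨QuotientGroup.mk 1, QuotientGroup.mk ⟨n₀, hn₀G⟩,
      QuotientGroup.mk (⟨ru m (0 : K) 1 0, ru_mem_twisted _ _ _⟩ * ⟨n₀, hn₀G⟩), ?_, ?_, ?_, ?_⟩
    · intro h
      have := (hmk_eq _ _).mp h
      apply hn₀B
      simpa using this
    · intro h
      have := (hmk_eq _ _).mp h
      apply hn₀B
      have h2 : ru m (0 : K) 1 0 * n₀ ∈ chevG2.borelSubgroup K := by simpa using this
      have : n₀ = (ru m (0 : K) 1 0)⁻¹ * (ru m (0 : K) 1 0 * n₀) := by group
      rw [this]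
      exact mul_mem (inv_mem (rU_le_borel hu)) h2
    · intro h
      have := (hmk_eq _ _).mp h
      have h2 : n₀⁻¹ * (ru m (0 : K) 1 0 * n₀) ∈ chevG2.borelSubgroup K := this
      -- then `n₀⁻¹ u n₀ ∈ B ∩ V`
      have hinv : n₀⁻¹ ∈ rN K m := inv_mem hn₀
      have hinvH : n₀⁻¹ ∉ chevG2.diagonalSubgroup K := fun h => hn₀H (by simpa using inv_mem h)
      rcases rN_cases hm hinv with hd | ⟨h', hh', e'⟩
      · exact absurd hd hinvH
      have hV := hnw_conj_pos hh' (mem_rU.mp hu).1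
      rw [← e', inv_inv] at hV
      have h3 : n₀⁻¹ * ru m (0 : K) 1 0 * n₀ ∈ chevG2.borelSubgroup K ⊓ chevG2.negUnipotent K :=
        Subgroup.mem_inf.mpr ⟨by rw [mul_assoc]; exact h2, hV⟩
      rw [borel_inf_negUnipotent good3_G2.toGood2 T0_G2, Subgroup.mem_bot] at h3
      apply hu0
      have : ru m (0 : K) 1 0 = n₀ * (n₀⁻¹ * ru m (0 : K) 1 0 * n₀) * n₀⁻¹ := by group
      rw [this, h3]; group
    · apply le_antisymm (hstd hu0)
      rw [← hcard2]
      apply Subgroup.card_le_of_le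
      rw [Subgroup.zpowers_le]
      rw [mem_triStab_iff hm hn₀ hn₀H hu]
      exact ⟨gh_mem_diagonal _, reeInv_conj hK⟩

/-- The statement of S1153. -/
theorem ree_S1153 {K : Type*} [Field K] [Fintype K] {m : ℕ} (hK : Fintype.card K = 3 ^ (2 * m + 1)) :
    (∀ x y z : ↥(twistedG2 K (3 ^ m)) ⧸
        ((chevG2.borelSubgroup K ⊓ twistedG2 K (3 ^ m))).subgroupOf (twistedG2 K (3 ^ m)),
        x ≠ y → x ≠ z → y ≠ z →
        Nat.card ↥(MulAction.stabilizer ↥(twistedG2 K (3 ^ m)) x ⊓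
          MulAction.stabilizer ↥(twistedG2 K (3 ^ m)) y ⊓
          MulAction.stabilizer ↥(twistedG2 K (3 ^ m)) z) ≤ 2) ∧
      ∃ x y z : ↥(twistedG2 K (3 ^ m)) ⧸
        ((chevG2.borelSubgroup K ⊓ twistedG2 K (3 ^ m))).subgroupOf (twistedG2 K (3 ^ m)),
        x ≠ y ∧ x ≠ z ∧ y ≠ z ∧
        Nat.card ↥(MulAction.stabilizer ↥(twistedG2 K (3 ^ m)) x ⊓
          MulAction.stabilizer ↥(twistedG2 K (3 ^ m)) y ⊓
          MulAction.stabilizer ↥(twistedG2 K (3 ^ m)) z) = 2 :=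
  ree_S1153' hK

end Cfsg.Agent.Helper7.Chev
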