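import Mathlib
import Cfsg.Agent.Helper7.ChevRee30
import Cfsg.Agent.Helper7.ChevFix1

set_option autoImplicit false
set_option linter.unusedSectionVars false
set_option linter.unusedVariables false

/-!
The automorphisms of the Ree groups `²G₂(q)`: the elements of `U¹` and `H¹` in the subtype, the characters of
the torus, the field automorphisms.
-/

namespace Cfsg.Agent.Helper7.ReeAut

open Cfsg Cfsg.Lie Matrix Cfsg.Agent.Helper7.Chev

section chars

variable {K : Type*} [Field K] [CharP K 3] {m : ℕ} (hm : ∀ t : K, t ^ 3 ^ (2 * m + 1) = t)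

/-- The norm-like map `λ ↦ λ² θ'(λ)`, the inverse of the character of the torus on `U¹/U¹'`. -/
noncomputable def nrm (K : Type*) [Field K] [CharP K 3] (m : ℕ) (l : K) : K := l ^ 2 * reeTh K (m + 1) l

theorem nrm_ne_zero {l : K} (hl : l ≠ 0) : nrm K m l ≠ 0 :=
  mul_ne_zero (pow_ne_zero _ hl) ((map_ne_zero _).mpr hl)

theorem chi6_mul (s : Kˣ) : ((ghChi K m s 6 : Kˣ) : K) * reeTh K (m + 1) (s : K) = (s : K) ^ 2 := by
  rw [ghChi_6, reeTh_succ]
  simp only [Units.val_mul, Units.val_zpow_eq_zpow_val, Units.coe_map, MonoidHom.coe_coe]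
  have h0 : reeTh K m (s : K) ≠ 0 := (map_ne_zero _).mpr s.ne_zero
  rw [_root_.zpow_neg, zpow_ofNat, zpow_ofNat]
  field_simp

theorem chi10_mul (s : Kˣ) : ((ghChi K m s 10 : Kˣ) : K) * (s : K) = reeTh K (m + 1) (s : K) := by
  rw [ghChi_10, reeTh_succ]
  simp only [Units.val_mul, Units.val_zpow_eq_zpow_val, Units.coe_map, MonoidHom.coe_coe]
  rw [_root_.zpow_neg, zpow_one, zpow_ofNat]
  field_simp

theorem chi11 (s : Kˣ) : ((ghChi K m s 11 : Kˣ) : K) = (s : K) := by rw [ghChi_11]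

include hm in
/-- The character of the torus on `U¹/U¹'` is onto. -/
theorem chi6_nrm {l : K} (hl : l ≠ 0) : ((ghChi K m (Units.mk0 (nrm K m l) (nrm_ne_zero hl)) 6 : Kˣ) : K) = l := by
  have h1 := chi6_mul (m := m) (Units.mk0 (nrm K m l) (nrm_ne_zero hl))
  rw [Units.val_mk0] at h1
  have h2 : reeTh K (m + 1) (nrm K m l) = reeTh K (m + 1) l ^ 2 * l ^ 3 := by
    unfold nrm
    rw [map_mul, map_pow, reeTh_succ_twice hm]
  rw [h2] at h1
  have h3 : reeTh K (m + 1) l ≠ 0 := (map_ne_zero _).mpr hl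
  have h4 : reeTh K (m + 1) l ^ 2 * l ^ 3 ≠ 0 := mul_ne_zero (pow_ne_zero _ h3) (pow_ne_zero _ hl)
  apply mul_right_cancel₀ h4
  rw [h1]
  unfold nrm
  ring

theorem ghChi_mul (s s' : Kˣ) (r : Fin 12) : ghChi K m (s * s') r = ghChi K m s r * ghChi K m s' r := by
  unfold ghChi g2chi
  rw [map_mul, mul_zpow, mul_zpow]
  exact mul_mul_mul_comm _ _ _ _

theorem ghChi_one (r : Fin 12) : ghChi K m (1 : Kˣ) r = 1 := by
  unfold ghChi g2chi
  rw [map_one, _root_.one_zpow, _root_.one_zpow, one_mul]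

include hm in
theorem chi6_injective {s s' : Kˣ} (h : ((ghChi K m s 6 : Kˣ) : K) = ((ghChi K m s' 6 : Kˣ) : K)) : s = s' := by
  have h1 : ((ghChi K m (s * s'⁻¹) 6 : Kˣ) : K) = 1 := by
    rw [ghChi_mul, Units.val_mul, h, ← Units.val_mul, ← ghChi_mul, mul_inv_cancel, ghChi_one, Units.val_one]
  have := ghChi6_eq_one hm _ h1
  exact mul_inv_eq_one.mp this

include hm in
theorem chi10_neg_one : ((ghChi K m (-1) 10 : Kˣ) : K) = 1 := by
  have h := chi10_mul (m := m) (-1 : Kˣ)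
  simp only [Units.val_neg, Units.val_one, map_neg, map_one, mul_neg, mul_one, neg_inj] at h
  exact h

end chars


section elems

variable {K : Type*} [Field K] [Fintype K] [CharP K 3] {m : ℕ} (hK : Fintype.card K = 3 ^ (2 * m + 1))

/-- The elements of `U¹`, in the group. -/
noncomputable def ruS (m : ℕ) (t u v : K) : ↥(twistedG2 K (3 ^ m)) := ⟨ru m t u v, ru_mem_twisted t u v⟩

/-- The elements of `H¹`, in the group. -/
noncomputable def ghS (hK : Fintype.card K = 3 ^ (2 * m + 1)) (s : Kˣ) : ↥(twistedG2 K (3 ^ m)) :=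
  ⟨gh K m s, gh_mem_twisted hK s⟩

theorem ruS_coe (t u v : K) : ((ruS m t u v : ↥(twistedG2 K (3 ^ m))) : GL chevG2.Idx K) = ru m t u v := rfl

theorem ghS_coe (s : Kˣ) : ((ghS hK s : ↥(twistedG2 K (3 ^ m))) : GL chevG2.Idx K) = gh K m s := rfl

include hK in
theorem ruS_mul (t u v t' u' v' : K) :
    ruS m t u v * ruS m t' u' v' =
      ruS m (t + t') (u + u' - reeTh K (m + 1) t' * t)
        (v + v' - reeTh K (m + 1) t' * t ^ 2 - t' * (u - reeTh K (m + 1) t' * t)) :=
  Subtype.ext (ru_mul (pow_card_three hK) t u v t' u' v')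

theorem ruS_zero : ruS m (0 : K) 0 0 = 1 := Subtype.ext ru_zero

theorem ruS_injective {t u v t' u' v' : K} (h : ruS m t u v = ruS m t' u' v') : t = t' ∧ u = u' ∧ v = v' :=
  ru_injective (congrArg Subtype.val h)

include hK in
theorem ruS_cube (t u v : K) : ruS m t u v ^ 3 = ruS m (0 : K) 0 (-(reeTh K (m + 1) t * t ^ 2)) := by
  apply Subtype.ext
  rw [Subgroup.coe_pow]
  exact ru_cube (pow_card_three hK) t u v

theorem ghS_mul (s s' : Kˣ) : ghS hK s * ghS hK s' = ghS hK (s * s') :=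
  Subtype.ext (map_mul (gh K m) s s').symm

theorem ghS_one : ghS hK (1 : Kˣ) = 1 := Subtype.ext (map_one (gh K m))

theorem ghS_inv (s : Kˣ) : (ghS hK s)⁻¹ = ghS hK s⁻¹ := by
  rw [inv_eq_iff_mul_eq_one, ghS_mul, mul_inv_cancel, ghS_one]

theorem ghS_pow (s : Kˣ) (k : ℕ) : ghS hK s ^ k = ghS hK (s ^ k) := by
  apply Subtype.ext
  rw [Subgroup.coe_pow]
  exact (map_pow (gh K m) s k).symm

theorem ghS_injective {s s' : Kˣ} (h : ghS hK s = ghS hK s') : s = s' :=
  gh_injective (congrArg Subtype.val h)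

theorem ghS_conj_ruS (s : Kˣ) (t u v : K) :
    ghS hK s * ruS m t u v * (ghS hK s)⁻¹ =
      ruS m ((ghChi K m s 6 : K) * t) ((ghChi K m s 10 : K) * u) ((s : K) * v) := by
  apply Subtype.ext
  have := gh_conj_ru (pow_card_three hK) s t u v
  rw [ghChi_11] at this
  exact this

include hK in
theorem mem_pos_iff (g : ↥(twistedG2 K (3 ^ m))) :
    (g : GL chevG2.Idx K) ∈ chevG2.posUnipotent K ↔ ∃ t u v : K, g = ruS m t u v := by
  constructor
  · intro h
    obtain ⟨t, u, v, e⟩ := (mem_pos_inf_twistedG2 (pow_card_three hK)).mp (Subgroup.mem_inf.mpr ⟨h, g.2⟩)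
    exact ⟨t, u, v, Subtype.ext e⟩
  · rintro ⟨t, u, v, rfl⟩
    exact uA_mem_pos _ _ _ _ _ _

theorem mem_diag_iff (g : ↥(twistedG2 K (3 ^ m))) :
    (g : GL chevG2.Idx K) ∈ chevG2.diagonalSubgroup K ↔ ∃ s : Kˣ, g = ghS hK s := by
  constructor
  · intro h
    obtain ⟨s, e⟩ := (mem_rH_iff hK).mp (mem_rH.mpr ⟨h, g.2⟩)
    exact ⟨s, Subtype.ext e⟩
  · rintro ⟨s, rfl⟩
    exact gh_mem_diagonal s

theorem mem_borel_iff (g : ↥(twistedG2 K (3 ^ m))) :
    (g : GL chevG2.Idx K) ∈ chevG2.borelSubgroup K ↔ ∃ (t u v : K) (s : Kˣ), g = ruS m t u v * ghS hK s := by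
  constructor
  · intro h
    obtain ⟨u₀, hu₀, h₀, hh₀, e⟩ :=
      (mem_borel_inf_twistedG2 (pow_card_three hK)).mp (Subgroup.mem_inf.mpr ⟨h, g.2⟩)
    obtain ⟨t, u, v, e1⟩ := (mem_pos_inf_twistedG2 (pow_card_three hK)).mp hu₀
    obtain ⟨s, e2⟩ := (mem_rH_iff hK).mp hh₀
    refine ⟨t, u, v, s, Subtype.ext ?_⟩
    rw [e, e1, e2]
    rfl
  · rintro ⟨t, u, v, s, rfl⟩
    exact mul_mem (Subgroup.mem_sup_left (uA_mem_pos _ _ _ _ _ _)) (Subgroup.mem_sup_right (gh_mem_diagonal s))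

include hK in
theorem ruS_split (t u v : K) : ruS m t u v = ruS m t 0 0 * ruS m 0 u v := by
  rw [ruS_mul hK]
  congr 1 <;> simp

include hK in
theorem ruS_add (u v u' v' : K) : ruS m 0 u v * ruS m 0 u' v' = ruS m 0 (u + u') (v + v') := by
  rw [ruS_mul hK]
  congr 1 <;> simp

include hK in
theorem ruS_inv_center (u v : K) : (ruS m 0 u v)⁻¹ = ruS m 0 (-u) (-v) := by
  rw [inv_eq_iff_mul_eq_one, ruS_add hK, add_neg_cancel, add_neg_cancel, ruS_zero]

/-- An element of both `U¹` and `H¹` is trivial. -/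
theorem ruS_eq_ghS {t u v : K} {s : Kˣ} (h : ruS m t u v = ghS hK s) : ruS m t u v = 1 := by
  apply Subtype.ext
  have h1 : ru m t u v ∈ chevG2.posUnipotent K ⊓ chevG2.diagonalSubgroup K := by
    refine Subgroup.mem_inf.mpr ⟨uA_mem_pos _ _ _ _ _ _, ?_⟩
    have := congrArg Subtype.val h
    rw [ruS_coe, ghS_coe] at this
    rw [this]
    exact gh_mem_diagonal s
  rwa [posUnipotent_inf_diagonal good3_G2.toGood2 T0_G2, Subgroup.mem_bot] at h1

end elems


section field

variable {K : Type*} [Field K] [Fintype K] [CharP K 3] {m : ℕ} (hK : Fintype.card K = 3 ^ (2 * m + 1))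

theorem glMap_ru (σ : K ≃+* K) (t u v : K) :
    glMap (D := chevG2) (σ : K →+* K) (ru m t u v) = ru m (σ t) (σ u) (σ v) := by
  apply Units.ext
  rw [glMap_coe, ru_coe, ru_coe, wordMat_map]
  congr 1
  unfold reeWordU
  simp [map_pow, map_add, map_mul]

theorem glMap_rv (σ : K ≃+* K) (t u v : K) :
    glMap (D := chevG2) (σ : K →+* K) (rv m t u v) = rv m (σ t) (σ u) (σ v) := by
  apply Units.ext
  rw [glMap_coe, rv_coe, rv_coe, wordMat_map]
  congr 1
  unfold reeWordV reeWordU ChevalleyDatum.negWord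
  simp [map_pow, map_add, map_mul, map_neg]

theorem glMap_mem (σ : K ≃+* K) {g : GL chevG2.Idx K} (hg : g ∈ twistedG2 K (3 ^ m)) :
    glMap (D := chevG2) (σ : K →+* K) g ∈ twistedG2 K (3 ^ m) := by
  rw [twistedG2_eq (K := K) (m := m)] at hg
  induction hg using Subgroup.closure_induction with
  | mem x hx =>
    rcases hx with ⟨t, u, v, rfl⟩ | ⟨t, u, v, rfl⟩
    · rw [glMap_ru]
      exact ru_mem_twisted _ _ _
    · rw [glMap_rv]
      exact rv_mem_twisted _ _ _
  | one => rw [map_one]; exact one_mem _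
  | mul x y _ _ hx hy => rw [map_mul]; exact mul_mem hx hy
  | inv x _ hx => rw [map_inv]; exact inv_mem hx

theorem glMap_gh (σ : K ≃+* K) (s : Kˣ) :
    glMap (D := chevG2) (σ : K →+* K) (gh K m s) = gh K m (Units.map (σ : K →* K) s) := by
  rw [gh_apply, gh_apply]
  unfold tG2
  rw [torusHom_apply, torusHom_apply, glMap_tGL]
  congr 1
  funext i
  unfold g2c
  split_ifs
  · apply Units.ext
    simp only [Units.coe_map, MonoidHom.coe_coe, RingHom.coe_coe, reeTh_apply, map_pow]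
  · rfl

/-- The field automorphism as an endomorphism of the group. -/
noncomputable def fieldHom (K : Type*) [Field K] [Fintype K] [CharP K 3] (m : ℕ) (σ : K ≃+* K) :
    ↥(twistedG2 K (3 ^ m)) →* ↥(twistedG2 K (3 ^ m)) :=
  ((glMap (D := chevG2) (σ : K →+* K)).comp (twistedG2 K (3 ^ m)).subtype).codRestrict
    (twistedG2 K (3 ^ m)) (fun g => glMap_mem σ g.2)

theorem fieldHom_coe (σ : K ≃+* K) (g : ↥(twistedG2 K (3 ^ m))) :
    ((fieldHom K m σ g : ↥(twistedG2 K (3 ^ m))) : GL chevG2.Idx K) =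
      glMap (D := chevG2) (σ : K →+* K) (g : GL chevG2.Idx K) := rfl

theorem fieldHom_fieldHom (σ σ' : K ≃+* K) (g : ↥(twistedG2 K (3 ^ m))) :
    fieldHom K m σ (fieldHom K m σ' g) = fieldHom K m (σ * σ') g := by
  apply Subtype.ext
  apply Units.ext
  rw [fieldHom_coe, fieldHom_coe, fieldHom_coe, glMap_coe, glMap_coe, glMap_coe]
  ext i j
  rfl

theorem fieldHom_one (g : ↥(twistedG2 K (3 ^ m))) : fieldHom K m 1 g = g := by
  apply Subtype.ext
  apply Units.ext
  rw [fieldHom_coe, glMap_coe]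
  ext i j
  rfl

/-- The field automorphisms of the Ree group. -/
noncomputable def fieldAut (K : Type*) [Field K] [Fintype K] [CharP K 3] (m : ℕ) :
    (K ≃+* K) →* MulAut ↥(twistedG2 K (3 ^ m)) where
  toFun σ :=
    { toFun := fieldHom K m σ
      invFun := fieldHom K m σ⁻¹
      left_inv := fun g => by rw [fieldHom_fieldHom, inv_mul_cancel, fieldHom_one]
      right_inv := fun g => by rw [fieldHom_fieldHom, mul_inv_cancel, fieldHom_one]
      map_mul' := map_mul (fieldHom K m σ) }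
  map_one' := by
    apply MulEquiv.ext
    intro g
    exact fieldHom_one g
  map_mul' σ σ' := by
    apply MulEquiv.ext
    intro g
    exact (fieldHom_fieldHom σ σ' g).symm

theorem fieldAut_ruS (σ : K ≃+* K) (t u v : K) :
    fieldAut K m σ (ruS m t u v) = ruS m (σ t) (σ u) (σ v) := by
  apply Subtype.ext
  exact glMap_ru σ t u v

theorem fieldAut_ghS (σ : K ≃+* K) (s : Kˣ) :
    fieldAut K m σ (ghS hK s) = ghS hK (Units.map (σ : K →* K) s) := by
  apply Subtype.ext
  exact glMap_gh σ s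

end field

end Cfsg.Agent.Helper7.ReeAut
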