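import Mathlib
import Cfsg.Agent.Helper7.ReeAutA

set_option autoImplicit false
set_option linter.unusedSectionVars false
set_option linter.unusedVariables false

/-!
The automorphisms of the Ree groups `²G₂(q)` stabilising `U¹` and `H¹`.
-/

namespace Cfsg.Agent.Helper7.ReeAut

open Cfsg Cfsg.Lie Matrix Cfsg.Agent.Helper7.Chev

variable {K : Type*} [Field K] [Fintype K] [CharP K 3] {m : ℕ}

/-- The automorphism maps the unipotent subgroup and the torus into themselves. -/
structure Stab (hK : Fintype.card K = 3 ^ (2 * m + 1))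
    (θ : ↥(twistedG2 K (3 ^ m)) ≃* ↥(twistedG2 K (3 ^ m))) : Prop where
  ru : ∀ t u v : K, ∃ t' u' v' : K, θ (ruS m t u v) = ruS m t' u' v'
  gh : ∀ s : Kˣ, ∃ s' : Kˣ, θ (ghS hK s) = ghS hK s'

section basic

variable (hK : Fintype.card K = 3 ^ (2 * m + 1))

theorem three_eq_zero (K : Type*) [Field K] [CharP K 3] : (3 : K) = 0 := three_eq_zero'

theorem two_ne_zero' (K : Type*) [Field K] [CharP K 3] : (2 : K) ≠ 0 := by
  intro h
  have h3 : (3 : K) = 0 := three_eq_zero'
  have : (1 : K) = 0 := by linear_combination h3 - h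
  exact one_ne_zero this

include hK in
/-- The elements of `U¹` of order dividing 3. -/
theorem ruS_cube_eq_one {t u v : K} (h : ruS m t u v ^ 3 = 1) : t = 0 := by
  rw [ruS_cube hK, ← ruS_zero] at h
  obtain ⟨_, _, h3⟩ := ruS_injective h
  by_contra ht
  have : reeTh K (m + 1) t * t ^ 2 ≠ 0 := mul_ne_zero ((map_ne_zero _).mpr ht) (pow_ne_zero _ ht)
  exact this (neg_eq_zero.mp h3)

include hK in
/-- Every element of the centre of `U¹` is a cube. -/
theorem exists_cube (w : K) : ∃ t : K, ruS m t 0 0 ^ 3 = ruS m 0 0 w := by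
  have hm := pow_card_three hK
  by_cases hw : w = 0
  · exact ⟨0, by rw [ruS_zero, one_pow, hw, ruS_zero]⟩
  · have hΘ : reeTh K (m + 1) w ≠ 0 := (map_ne_zero _).mpr hw
    refine ⟨-(w ^ 2 / reeTh K (m + 1) w), ?_⟩
    rw [ruS_cube hK]
    congr 1
    rw [map_neg, map_div₀, map_pow, reeTh_succ_twice hm]
    field_simp

end basic

section trivial

variable (hK : Fintype.card K = 3 ^ (2 * m + 1)) {θ : ↥(twistedG2 K (3 ^ m)) ≃* ↥(twistedG2 K (3 ^ m))}
  (hS : Stab hK θ)

include hS in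
/-- The elements of order 3 of `U¹` are mapped to such elements. -/
theorem Stab.derived (u v : K) : ∃ u' v' : K, θ (ruS m 0 u v) = ruS m 0 u' v' := by
  obtain ⟨t', u', v', e⟩ := hS.ru 0 u v
  have h1 : ruS m (0 : K) u v ^ 3 = 1 := by
    rw [ruS_cube hK, map_zero, zero_mul, neg_zero, ruS_zero]
  have h2 : ruS m t' u' v' ^ 3 = 1 := by rw [← e, ← map_pow, h1, map_one]
  have := ruS_cube_eq_one hK h2
  exact ⟨u', v', by rw [e, this]⟩


variable (h1 : ∀ t : K, ∃ u v : K, θ (ruS m t 0 0) = ruS m t u v)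

include hS h1 in
/-- The automorphism acts trivially on `U¹/U¹'`. -/
theorem Stab.quot (t u v : K) : ∃ u' v' : K, θ (ruS m t u v) = ruS m t u' v' := by
  obtain ⟨a, b, e1⟩ := h1 t
  obtain ⟨u', v', e2⟩ := hS.derived hK u v
  rw [ruS_split hK t u v, map_mul, e1, e2, ruS_mul hK]
  exact ⟨_, _, by rw [add_zero]⟩

include hS h1 in
/-- The automorphism fixes the elements of the centre of `U¹`. -/
theorem Stab.center (w : K) : θ (ruS m 0 0 w) = ruS m 0 0 w := by
  obtain ⟨t, ht⟩ := exists_cube hK w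
  obtain ⟨a, b, e1⟩ := h1 t
  rw [← ht, map_pow, e1, ruS_cube hK, ruS_cube hK]

include hS h1 in
/-- The automorphism acts trivially on `U¹'/Z(U¹)`. -/
theorem Stab.derived_quot (u v : K) : ∃ v' : K, θ (ruS m 0 u v) = ruS m 0 u v' := by
  obtain ⟨a, b, e1⟩ := h1 1
  obtain ⟨u', v', e2⟩ := hS.derived hK u v
  -- `y x = x y z(-u)`
  have e3 : ruS m (0 : K) u v * ruS m 1 0 0 = ruS m 1 0 0 * ruS m 0 u v * ruS m 0 0 (-u) := by
    rw [ruS_mul hK, ruS_mul hK, ruS_mul hK]
    congr 1 <;> simp <;> ring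
  have e4 := congrArg θ e3
  rw [map_mul, map_mul, map_mul, e1, e2, hS.center hK h1, ruS_mul hK, ruS_mul hK, ruS_mul hK] at e4
  obtain ⟨_, _, e5⟩ := ruS_injective e4
  simp only [map_zero, map_one, zero_mul, mul_zero, sub_zero, add_zero, one_mul, mul_one, one_pow,
    zero_add] at e5
  have : u' = u := by linear_combination -e5
  exact ⟨v', by rw [e2, this]⟩

include hS in
/-- The automorphism fixes the involution of the torus. -/
theorem Stab.neg_one : θ (ghS hK (-1)) = ghS hK (-1) := by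
  obtain ⟨s', e⟩ := hS.gh (-1)
  have h2 : ghS hK (-1 : Kˣ) * ghS hK (-1) = 1 := by
    rw [ghS_mul, neg_mul_neg, one_mul, ghS_one]
  have h3 := congrArg θ h2
  rw [map_mul, map_one, e, ghS_mul, ← ghS_one hK] at h3
  have h4 : s' * s' = 1 := ghS_injective hK h3
  have h5 : s' = 1 ∨ s' = -1 := by
    have h4' : (s' : K) * (s' : K) = 1 := by
      have := congrArg Units.val h4
      rwa [Units.val_mul, Units.val_one] at this
    rcases mul_self_eq_one_iff.mp h4' with h | h
    · exact Or.inl (Units.ext h)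
    · exact Or.inr (Units.ext (by rw [h]; simp))
  rcases h5 with h5 | h5
  · exfalso
    rw [h5, ghS_one, ← map_one θ] at e
    have h6 := θ.injective e
    rw [← ghS_one hK] at h6
    have h7 : (-1 : Kˣ) = 1 := ghS_injective hK h6
    have h8 : (-1 : K) = 1 := by
      have := congrArg Units.val h7
      simpa using this
    apply two_ne_zero' K
    linear_combination -h8
  · rw [e, h5]

include hS h1 in
/-- The automorphism fixes the elements of `U¹'`. -/
theorem Stab.fix_derived (u v : K) : θ (ruS m 0 u v) = ruS m 0 u v := by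
  have hm := pow_card_three hK
  have key : ∀ u : K, θ (ruS m 0 u 0) = ruS m 0 u 0 := by
    intro u
    obtain ⟨b, e⟩ := hS.derived_quot hK h1 u 0
    have e1 : ghS hK (-1) * ruS m 0 u 0 * (ghS hK (-1))⁻¹ = ruS m 0 u 0 := by
      rw [ghS_conj_ruS, chi10_neg_one hm, mul_zero, mul_zero, one_mul]
    have e2 := congrArg θ e1
    rw [map_mul, map_mul, map_inv, hS.neg_one hK, e, ghS_conj_ruS, chi10_neg_one hm] at e2
    obtain ⟨_, _, e3⟩ := ruS_injective e2
    have e4 : (2 : K) * b = 0 := by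
      simp only [Units.val_neg, Units.val_one, neg_mul, one_mul] at e3
      linear_combination -e3
    rcases mul_eq_zero.mp e4 with h | h
    · exact absurd h (two_ne_zero' K)
    · rw [e, h]
  have e0 : ruS m (0 : K) u v = ruS m 0 u 0 * ruS m 0 0 v := by
    rw [ruS_add hK, add_zero, zero_add]
  rw [e0, map_mul, key, hS.center hK h1]


include hS h1 in
/-- The image of `u(t,0,0)` differs from it by an element of the centre. -/
theorem Stab.first (t : K) : ∃ b : K, θ (ruS m t 0 0) = ruS m t 0 b := by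
  have hm := pow_card_three hK
  obtain ⟨a, b, e⟩ := h1 t
  have e1 : ghS hK (-1) * ruS m t 0 0 * (ghS hK (-1))⁻¹ = ruS m (-t) 0 0 := by
    rw [ghS_conj_ruS, gh_neg_one_chi6 hm, mul_zero, mul_zero, neg_one_mul]
  have e2 := congrArg θ e1
  rw [map_mul, map_mul, map_inv, hS.neg_one hK, e, ghS_conj_ruS, gh_neg_one_chi6 hm, chi10_neg_one hm] at e2
  -- the product `u(t,0,0) u(-t,0,0)` is in `U¹'`
  have e3 : ruS m t 0 0 * ruS m (-t) 0 0 = ruS m 0 (reeTh K (m + 1) t * t) (2 * (reeTh K (m + 1) t * t ^ 2)) := by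
    rw [ruS_mul hK]
    congr 1 <;> simp <;> ring
  have e4 := congrArg θ e3
  rw [map_mul, ← e2, e, hS.fix_derived hK h1, ruS_mul hK] at e4
  obtain ⟨_, e5, _⟩ := ruS_injective e4
  have e6 : (2 : K) * a = 0 := by
    simp only [map_neg, neg_mul, one_mul, sub_neg_eq_add] at e5
    linear_combination e5
  rcases mul_eq_zero.mp e6 with h | h
  · exact absurd h (two_ne_zero' K)
  · exact ⟨b, by rw [e, h]⟩

variable (hs : ∃ s : K, s ≠ 0 ∧ s ≠ 1 ∧ s ≠ -1)

include hS h1 hs in
/-- An automorphism stabilising the unipotent subgroup and the torus, and acting trivially on the quotient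
of the unipotent subgroup by its derived subgroup, fixes the elements of the Borel subgroup. -/
theorem Stab.fix_borel : (∀ t u v : K, θ (ruS m t u v) = ruS m t u v) ∧ ∀ s : Kˣ, θ (ghS hK s) = ghS hK s := by
  have hm := pow_card_three hK
  choose b hb using hS.first hK h1
  -- additivity
  have hadd : ∀ t t' : K, b (t + t') = b t + b t' := by
    intro t t'
    have e1 : ruS m t 0 0 * ruS m t' 0 0 = ruS m (t + t') 0 0 *
        ruS m 0 (-(reeTh K (m + 1) t' * t)) (-(reeTh K (m + 1) t' * t ^ 2) + t' * (reeTh K (m + 1) t' * t)) := by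
      rw [ruS_mul hK, ruS_mul hK]
      congr 1 <;> simp <;> ring
    have e2 := congrArg θ e1
    rw [map_mul, map_mul, hb, hb, hb, hS.fix_derived hK h1, ruS_mul hK, ruS_mul hK] at e2
    obtain ⟨_, _, e3⟩ := ruS_injective e2
    simp only [map_zero, zero_mul, mul_zero, sub_zero, zero_sub] at e3
    linear_combination -e3
  -- the torus
  have htorus : ∀ s : Kˣ, θ (ghS hK s) = ghS hK s ∧ ∀ t : K, b ((ghChi K m s 6 : K) * t) = (s : K) * b t := by
    intro s
    obtain ⟨s', e⟩ := hS.gh s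
    have key : ∀ t : K, (ghChi K m s' 6 : K) * t = (ghChi K m s 6 : K) * t ∧
        b ((ghChi K m s 6 : K) * t) = (s' : K) * b t := by
      intro t
      have e1 : ghS hK s * ruS m t 0 0 * (ghS hK s)⁻¹ = ruS m ((ghChi K m s 6 : K) * t) 0 0 := by
        rw [ghS_conj_ruS, mul_zero, mul_zero]
      have e2 := congrArg θ e1
      rw [map_mul, map_mul, map_inv, e, hb, hb, ghS_conj_ruS, mul_zero] at e2
      obtain ⟨e3, _, e4⟩ := ruS_injective e2
      exact ⟨e3, e4.symm⟩
    have hss : s' = s := by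
      apply chi6_injective hm
      have := (key 1).1
      rwa [mul_one, mul_one] at this
    rw [hss] at e
    exact ⟨e, fun t => by rw [(key t).2, hss]⟩
  -- `b` vanishes
  have hb0 : b 0 = 0 := by
    have := hadd 0 0
    rw [add_zero] at this
    linear_combination -this
  have hbn : ∀ l : K, b l = nrm K m l * b 1 := by
    intro l
    by_cases hl : l = 0
    · rw [hl, hb0]
      unfold nrm
      simp
    · have := (htorus (Units.mk0 (nrm K m l) (nrm_ne_zero hl))).2 1
      rw [chi6_nrm hm hl, mul_one, Units.val_mk0] at this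
      exact this
  have hc : b 1 = 0 := by
    by_contra hc
    obtain ⟨l, hl0, hl1, hlm⟩ := hs
    have e1 := hadd 1 l
    rw [hbn (1 + l), hbn l] at e1
    have e2 : nrm K m (1 + l) = 1 + nrm K m l := by
      apply mul_right_cancel₀ hc
      linear_combination e1
    unfold nrm at e2
    rw [map_add, map_one] at e2
    have h3 : (3 : K) = 0 := three_eq_zero'
    have e3 : (l - 1) * (l - reeTh K (m + 1) l) = 0 := by
      linear_combination e2 - (l + l * reeTh K (m + 1) l) * h3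
    rcases mul_eq_zero.mp e3 with h | h
    · exact hl1 (sub_eq_zero.mp h)
    · have e4 : reeTh K (m + 1) l = l := (sub_eq_zero.mp h).symm
      have e5 := reeTh_succ_twice hm l
      rw [e4, e4] at e5
      have e6 : l * ((l - 1) * (l + 1)) = 0 := by linear_combination -e5
      rcases mul_eq_zero.mp e6 with h | h
      · exact hl0 h
      · rcases mul_eq_zero.mp h with h | h
        · exact hl1 (sub_eq_zero.mp h)
        · exact hlm (eq_neg_of_add_eq_zero_left h)
  have hball : ∀ l : K, b l = 0 := fun l => by rw [hbn, hc, mul_zero]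
  refine ⟨fun t u v => ?_, fun s => (htorus s).1⟩
  rw [ruS_split hK t u v, map_mul, hb, hball, hS.fix_derived hK h1]


/-- An element of `U¹` commuting with an `h(s)`, `s² ≠ 1`, is trivial. -/
theorem ruS_eq_one_of_comm {s : Kˣ} (hs2 : (s : K) ^ 2 ≠ 1) {t u v : K}
    (hc : ghS hK s * ruS m t u v * (ghS hK s)⁻¹ = ruS m t u v) : ruS m t u v = 1 := by
  have hm := pow_card_three hK
  rw [ghS_conj_ruS] at hc
  obtain ⟨e1, e2, e3⟩ := ruS_injective hc
  have hs1 : (s : K) ≠ 1 := by
    intro h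
    apply hs2
    rw [h, one_pow]
  have hv : v = 0 := by
    have : ((s : K) - 1) * v = 0 := by linear_combination e3
    rcases mul_eq_zero.mp this with h | h
    · exact absurd (sub_eq_zero.mp h) hs1
    · exact h
  have hu : u = 0 := by
    have : (((ghChi K m s 10 : Kˣ) : K) - 1) * u = 0 := by linear_combination e2
    rcases mul_eq_zero.mp this with h | h
    · exfalso
      apply hs2
      have h2 := ghChi10_eq_one hm s (sub_eq_zero.mp h)
      have := congrArg Units.val h2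
      rwa [Units.val_pow_eq_pow_val, Units.val_one] at this
    · exact h
  have ht : t = 0 := by
    have : (((ghChi K m s 6 : Kˣ) : K) - 1) * t = 0 := by linear_combination e1
    rcases mul_eq_zero.mp this with h | h
    · exfalso
      apply hs1
      rw [ghChi6_eq_one hm s (sub_eq_zero.mp h), Units.val_one]
    · exact h
  rw [ht, hu, hv, ruS_zero]

include hS h1 hs in
/-- An automorphism stabilising the unipotent subgroup and the torus, and acting trivially on the quotient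
of the unipotent subgroup by its derived subgroup, is the identity. -/
theorem Stab.eq_one : θ = 1 := by
  have hm := pow_card_three hK
  obtain ⟨hU, hH⟩ := hS.fix_borel hK h1 hs
  -- the elements of `B` are fixed
  have hB : ∀ g : ↥(twistedG2 K (3 ^ m)), (g : GL chevG2.Idx K) ∈ chevG2.borelSubgroup K → θ g = g := by
    intro g hg
    obtain ⟨t, u, v, s, rfl⟩ := (mem_borel_iff hK g).mp hg
    rw [map_mul, hU, hH]
  obtain ⟨l, hl0, hl1, hlm⟩ := hs
  set s₀ : Kˣ := Units.mk0 l hl0 with hs₀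
  have hs2 : (s₀ : K) ^ 2 ≠ 1 := by
    rw [hs₀, Units.val_mk0]
    intro h
    rcases sq_eq_one_iff.mp h with h | h
    · exact hl1 h
    · exact hlm h
  -- the key step
  have hX : ∀ n b b' : ↥(twistedG2 K (3 ^ m)), (n : GL chevG2.Idx K) ∈ Chev.rN K m →
      (n : GL chevG2.Idx K) ∉ chevG2.diagonalSubgroup K →
      (b : GL chevG2.Idx K) ∈ chevG2.borelSubgroup K → (b' : GL chevG2.Idx K) ∈ chevG2.borelSubgroup K →
      θ n = b * n * b' → (b' : GL chevG2.Idx K) ∈ chevG2.diagonalSubgroup K := by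
    intro n b b' hn hnH hb hb' e
    obtain ⟨t, u, v, s₁, rfl⟩ := (mem_borel_iff hK b').mp hb'
    have hu1 : ruS m t u v = 1 := by
      apply ruS_eq_one_of_comm hK hs2
      obtain ⟨s', hs'⟩ := (mem_diag_iff hK (n * ghS hK s₀ * n⁻¹)).mp (by
        have := rN_conj_rH hn (mem_rH.mpr ⟨gh_mem_diagonal s₀, gh_mem_twisted hK s₀⟩)
        exact (mem_rH.mp this).1)
      have e2 := congrArg θ hs'
      rw [map_mul, map_mul, map_inv, hH, hH, e] at e2
      have hcomm : ghS hK s₁ * ghS hK s₀ * (ghS hK s₁)⁻¹ = ghS hK s₀ := by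
        rw [ghS_mul, ghS_inv, ghS_mul, mul_comm s₁ s₀, mul_inv_cancel_right]
      have e3 : n * (ruS m t u v * ghS hK s₀ * (ruS m t u v)⁻¹) * n⁻¹ = b⁻¹ * ghS hK s' * b := by
        calc n * (ruS m t u v * ghS hK s₀ * (ruS m t u v)⁻¹) * n⁻¹
            = n * (ruS m t u v * (ghS hK s₁ * ghS hK s₀ * (ghS hK s₁)⁻¹) * (ruS m t u v)⁻¹) * n⁻¹ := by
              rw [hcomm]
          _ = b⁻¹ * (b * n * (ruS m t u v * ghS hK s₁) * ghS hK s₀ *
                (b * n * (ruS m t u v * ghS hK s₁))⁻¹) * b := by group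
          _ = b⁻¹ * ghS hK s' * b := by rw [e2]
      have hg : ((ruS m t u v * ghS hK s₀ * (ruS m t u v)⁻¹ : ↥(twistedG2 K (3 ^ m))) : GL chevG2.Idx K) ∈
          chevG2.borelSubgroup K := by
        have hr : (ruS m t u v : GL chevG2.Idx K) ∈ chevG2.borelSubgroup K :=
          Subgroup.mem_sup_left (uA_mem_pos _ _ _ _ _ _)
        have hh : (ghS hK s₀ : GL chevG2.Idx K) ∈ chevG2.borelSubgroup K :=
          Subgroup.mem_sup_right (gh_mem_diagonal s₀)
        simp only [Subgroup.coe_mul, Subgroup.coe_inv]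
        exact mul_mem (mul_mem hr hh) (inv_mem hr)
      have hc : (n : GL chevG2.Idx K) *
          ((ruS m t u v * ghS hK s₀ * (ruS m t u v)⁻¹ : ↥(twistedG2 K (3 ^ m))) : GL chevG2.Idx K) *
          (n : GL chevG2.Idx K)⁻¹ ∈ chevG2.borelSubgroup K := by
        have := congrArg Subtype.val e3
        simp only [Subgroup.coe_mul, Subgroup.coe_inv] at this ⊢
        rw [this]
        exact mul_mem (mul_mem (inv_mem hb) (Subgroup.mem_sup_right (gh_mem_diagonal s'))) hb
      have hd := ree_borel_conj_mem_diagonal hm hn hnH hg hc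
      obtain ⟨s'', hs''⟩ := (mem_diag_iff hK _).mp hd
      -- the commutator is in `U¹` and in `H¹`
      have e4 : ghS hK s₀ * ruS m t u v * (ghS hK s₀)⁻¹ = ruS m ((ghChi K m s₀ 6 : K) * t)
          ((ghChi K m s₀ 10 : K) * u) ((s₀ : K) * v) := ghS_conj_ruS hK s₀ t u v
      have hpos : ((ruS m t u v * (ghS hK s₀ * ruS m t u v * (ghS hK s₀)⁻¹)⁻¹ : ↥(twistedG2 K (3 ^ m))) :
          GL chevG2.Idx K) ∈ chevG2.posUnipotent K := by
        rw [e4]
        simp only [Subgroup.coe_mul, Subgroup.coe_inv]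
        exact mul_mem (uA_mem_pos _ _ _ _ _ _) (inv_mem (uA_mem_pos _ _ _ _ _ _))
      obtain ⟨a, b₁, c, e5⟩ := (mem_pos_iff hK _).mp hpos
      have e6 : ruS m a b₁ c = ghS hK (s'' * s₀⁻¹) := by
        rw [← e5, ← ghS_mul, ← hs'', ← ghS_inv]
        group
      have e7 := ruS_eq_ghS hK e6
      rw [← e5] at e7
      have e8 : ruS m t u v = ghS hK s₀ * ruS m t u v * (ghS hK s₀)⁻¹ := by
        have := mul_inv_eq_one.mp e7
        exact this
      exact e8.symm
    rw [hu1, one_mul]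
    exact gh_mem_diagonal s₁
  obtain ⟨n₀, hn₀, hn₀H⟩ := exists_rN_not_mem (K := K) (m := m) hm
  set nS : ↥(twistedG2 K (3 ^ m)) := ⟨n₀, (mem_rN.mp hn₀).2⟩ with hnS
  have hn₀B : n₀ ∉ chevG2.borelSubgroup K := rN_not_mem_borel hm hn₀ hn₀H
  have hyB : (θ nS : GL chevG2.Idx K) ∉ chevG2.borelSubgroup K := by
    intro h
    have h2 := hB _ h
    have h3 := θ.injective h2
    rw [h3] at h
    exact hn₀B h
  -- the image of `n₀` is in `n₀ H`
  have hy : ((nS⁻¹ * θ nS : ↥(twistedG2 K (3 ^ m))) : GL chevG2.Idx K) ∈ chevG2.borelSubgroup K := by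
    rcases twistedG2_cover hm hn₀ hn₀H (θ nS).2 with h | ⟨b, hb, b', hb', e⟩
    · exact absurd (Subgroup.mem_inf.mp h).1 hyB
    · set bS : ↥(twistedG2 K (3 ^ m)) := ⟨b, (Subgroup.mem_inf.mp hb).2⟩ with hbS
      set bS' : ↥(twistedG2 K (3 ^ m)) := ⟨b', (Subgroup.mem_inf.mp hb').2⟩ with hbS'
      have e1 : θ nS = bS * nS * bS' := Subtype.ext e
      have hbB : (bS : GL chevG2.Idx K) ∈ chevG2.borelSubgroup K := (Subgroup.mem_inf.mp hb).1
      have hbB' : (bS' : GL chevG2.Idx K) ∈ chevG2.borelSubgroup K := (Subgroup.mem_inf.mp hb').1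
      have h1 := hX nS bS bS' hn₀ hn₀H hbB hbB' e1
      have e2 : θ nS⁻¹ = bS'⁻¹ * nS⁻¹ * bS⁻¹ := by
        rw [map_inv, e1]
        group
      have hninv : ((nS⁻¹ : ↥(twistedG2 K (3 ^ m))) : GL chevG2.Idx K) ∈ Chev.rN K m := by
        rw [Subgroup.coe_inv]
        exact inv_mem hn₀
      have hninvH : ((nS⁻¹ : ↥(twistedG2 K (3 ^ m))) : GL chevG2.Idx K) ∉ chevG2.diagonalSubgroup K := by
        rw [Subgroup.coe_inv]
        intro h
        apply hn₀H
        have := inv_mem h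
        rwa [inv_inv] at this
      have h2 := hX nS⁻¹ bS'⁻¹ bS⁻¹ hninv hninvH (by rw [Subgroup.coe_inv]; exact inv_mem hbB')
        (by rw [Subgroup.coe_inv]; exact inv_mem hbB) e2
      have h3 : b ∈ chevG2.diagonalSubgroup K := by
        rw [Subgroup.coe_inv] at h2
        have := inv_mem h2
        rwa [inv_inv] at this
      rw [e1]
      simp only [Subgroup.coe_mul, Subgroup.coe_inv]
      change n₀⁻¹ * (b * n₀ * b') ∈ _
      have h4 : n₀⁻¹ * b * n₀ ∈ chevG2.diagonalSubgroup K := by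
        have := rN_conj_rH (inv_mem hn₀) (mem_rH.mpr ⟨h3, (Subgroup.mem_inf.mp hb).2⟩)
        rw [inv_inv] at this
        exact (mem_rH.mp this).1
      have e3 : n₀⁻¹ * (b * n₀ * b') = (n₀⁻¹ * b * n₀) * b' := by group
      rw [e3]
      exact Subgroup.mem_sup_right (mul_mem h4 h1)
  -- every `g⁻¹ θ(g)` is in `B`
  have hall : ∀ g : ↥(twistedG2 K (3 ^ m)),
      ((g⁻¹ * θ g : ↥(twistedG2 K (3 ^ m))) : GL chevG2.Idx K) ∈ chevG2.borelSubgroup K := by
    intro g
    rcases twistedG2_cover hm hn₀ hn₀H g.2 with h | ⟨c, hc, c', hc', e⟩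
    · rw [hB g (Subgroup.mem_inf.mp h).1, inv_mul_cancel]
      exact one_mem _
    · set cS : ↥(twistedG2 K (3 ^ m)) := ⟨c, (Subgroup.mem_inf.mp hc).2⟩ with hcS
      set cS' : ↥(twistedG2 K (3 ^ m)) := ⟨c', (Subgroup.mem_inf.mp hc').2⟩ with hcS'
      have e1 : g = cS * nS * cS' := Subtype.ext e
      have hcB : (cS : GL chevG2.Idx K) ∈ chevG2.borelSubgroup K := (Subgroup.mem_inf.mp hc).1
      have hcB' : (cS' : GL chevG2.Idx K) ∈ chevG2.borelSubgroup K := (Subgroup.mem_inf.mp hc').1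
      have e2 : g⁻¹ * θ g = cS'⁻¹ * (nS⁻¹ * θ nS) * cS' := by
        rw [e1, map_mul, map_mul, hB cS hcB, hB cS' hcB']
        group
      rw [e2]
      simp only [Subgroup.coe_mul, Subgroup.coe_inv] at hy ⊢
      exact mul_mem (mul_mem (inv_mem hcB') hy) hcB'
  -- conclusion
  apply MulEquiv.ext
  intro g
  have h0 : g⁻¹ * θ g = 1 := by
    apply Subtype.ext
    apply ree_core_trivial hm (g⁻¹ * θ g).2
    intro k hk
    set kS : ↥(twistedG2 K (3 ^ m)) := ⟨k, hk⟩ with hkS
    have e1 : kS * (g⁻¹ * θ g) * kS⁻¹ = ((g * kS⁻¹)⁻¹ * θ (g * kS⁻¹)) * ((kS⁻¹)⁻¹ * θ kS⁻¹)⁻¹ := by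
      rw [map_mul, map_inv]
      group
    have e2 := congrArg Subtype.val e1
    have e3 : k * ((g⁻¹ * θ g : ↥(twistedG2 K (3 ^ m))) : GL chevG2.Idx K) * k⁻¹ =
        ((kS * (g⁻¹ * θ g) * kS⁻¹ : ↥(twistedG2 K (3 ^ m))) : GL chevG2.Idx K) := by
      simp only [Subgroup.coe_mul, Subgroup.coe_inv]
      rfl
    rw [e3, e1, Subgroup.coe_mul, Subgroup.coe_inv]
    exact mul_mem (hall _) (inv_mem (hall _))
  have := inv_mul_eq_one.mp h0
  exact this.symm

end trivial

section normal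

variable (hK : Fintype.card K = 3 ^ (2 * m + 1))

theorem Stab.mul {θ₁ θ₂ : ↥(twistedG2 K (3 ^ m)) ≃* ↥(twistedG2 K (3 ^ m))} (h₁ : Stab hK θ₁) (h₂ : Stab hK θ₂) :
    Stab hK (θ₁ * θ₂) := by
  constructor
  · intro t u v
    obtain ⟨t', u', v', e⟩ := h₂.ru t u v
    obtain ⟨t'', u'', v'', e'⟩ := h₁.ru t' u' v'
    exact ⟨t'', u'', v'', by rw [MulAut.mul_apply, e, e']⟩
  · intro s
    obtain ⟨s', e⟩ := h₂.gh s
    obtain ⟨s'', e'⟩ := h₁.gh s'
    exact ⟨s'', by rw [MulAut.mul_apply, e, e']⟩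

theorem stab_conj_ghS (s : Kˣ) : Stab hK (MulAut.conj (ghS hK s)) := by
  constructor
  · intro t u v
    exact ⟨_, _, _, by rw [MulAut.conj_apply, ghS_conj_ruS]⟩
  · intro s'
    exact ⟨s', by rw [MulAut.conj_apply, ghS_mul, ghS_inv, ghS_mul, mul_comm s s', mul_inv_cancel_right]⟩

theorem stab_fieldAut (σ : K ≃+* K) : Stab hK (fieldAut K m σ) := by
  constructor
  · intro t u v
    exact ⟨_, _, _, fieldAut_ruS σ t u v⟩
  · intro s
    exact ⟨_, fieldAut_ghS hK σ s⟩

variable {θ : ↥(twistedG2 K (3 ^ m)) ≃* ↥(twistedG2 K (3 ^ m))} (hS : Stab hK θ)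

include hS in
/-- The action of the automorphism on `U¹/U¹'`. -/
theorem Stab.first_coord : ∃ f : K → K, ∀ t u v : K, ∃ u' v' : K, θ (ruS m t u v) = ruS m (f t) u' v' := by
  choose f g k hf using fun t => hS.ru t 0 0
  refine ⟨f, fun t u v => ?_⟩
  obtain ⟨u', v', e⟩ := hS.derived hK u v
  rw [ruS_split hK t u v, map_mul, hf, e, ruS_mul hK]
  exact ⟨_, _, by rw [add_zero]⟩

variable (hs : ∃ s : K, s ≠ 0 ∧ s ≠ 1 ∧ s ≠ -1)

include hS hs in
/-- An automorphism stabilising the unipotent subgroup and the torus is the product of the conjugation by an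
element of the torus and a field automorphism. -/
theorem Stab.normal_form : ∃ (s₁ : Kˣ) (σ : K ≃+* K), θ = MulAut.conj (ghS hK s₁) * fieldAut K m σ := by
  have hm := pow_card_three hK
  obtain ⟨f, hf⟩ := hS.first_coord hK
  -- additivity
  have hadd : ∀ t t' : K, f (t + t') = f t + f t' := by
    intro t t'
    obtain ⟨a, b, e1⟩ := hf t 0 0
    obtain ⟨a', b', e2⟩ := hf t' 0 0
    have e3 := ruS_mul hK t 0 0 t' 0 0
    obtain ⟨a'', b'', e4⟩ := hf (t + t') (0 + 0 - reeTh K (m + 1) t' * t)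
      (0 + 0 - reeTh K (m + 1) t' * t ^ 2 - t' * (0 - reeTh K (m + 1) t' * t))
    have e5 := congrArg θ e3
    rw [map_mul, e1, e2, e4, ruS_mul hK] at e5
    exact (ruS_injective e5).1.symm
  have hf0 : f 0 = 0 := by
    have := hadd 0 0
    rw [add_zero] at this
    linear_combination -this
  have hinj : ∀ t : K, f t = 0 → t = 0 := by
    intro t ht
    obtain ⟨a, b, e1⟩ := hf t 0 0
    rw [ht] at e1
    have h1 : θ (ruS m t 0 0 ^ 3) = θ 1 := by
      rw [map_pow, e1, ruS_cube hK, map_one, map_zero, zero_mul, neg_zero, ruS_zero]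
    exact ruS_cube_eq_one hK (θ.injective h1)
  -- equivariance
  have hequiv : ∀ l : K, l ≠ 0 → ∃ μ : K, ∀ t : K, f (l * t) = μ * f t := by
    intro l hl
    obtain ⟨s', e⟩ := hS.gh (Units.mk0 (nrm K m l) (nrm_ne_zero hl))
    refine ⟨(ghChi K m s' 6 : K), fun t => ?_⟩
    obtain ⟨a, b, e1⟩ := hf t 0 0
    obtain ⟨a', b', e2⟩ := hf (l * t) 0 0
    have e3 : ghS hK (Units.mk0 (nrm K m l) (nrm_ne_zero hl)) * ruS m t 0 0 *
        (ghS hK (Units.mk0 (nrm K m l) (nrm_ne_zero hl)))⁻¹ = ruS m (l * t) 0 0 := by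
      rw [ghS_conj_ruS, chi6_nrm hm hl, mul_zero, mul_zero]
    have e4 := congrArg θ e3
    rw [map_mul, map_mul, map_inv, e, e1, e2, ghS_conj_ruS] at e4
    exact (ruS_injective e4).1.symm
  have hc : f 1 ≠ 0 := fun h => one_ne_zero (hinj 1 h)
  have hmul : ∀ l t : K, f (l * t) * f 1 = f l * f t := by
    intro l t
    by_cases hl : l = 0
    · rw [hl, zero_mul, hf0, zero_mul, zero_mul]
    · obtain ⟨μ, hμ⟩ := hequiv l hl
      have h1 := hμ 1
      rw [mul_one] at h1
      rw [hμ t, h1]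
      ring
  -- the field automorphism
  let σ₀ : K →+* K :=
    { toFun := fun t => f t / f 1
      map_one' := div_self hc
      map_mul' := fun l t => by
        show f (l * t) / f 1 = f l / f 1 * (f t / f 1)
        field_simp
        linear_combination (hmul l t)
      map_zero' := by
        show f 0 / f 1 = 0
        rw [hf0, zero_div]
      map_add' := fun l t => by
        show f (l + t) / f 1 = f l / f 1 + f t / f 1
        rw [hadd, add_div] }
  have hσ₀ : ∀ t, σ₀ t = f t / f 1 := fun t => rfl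
  have hbij : Function.Bijective σ₀ := Finite.injective_iff_bijective.mp σ₀.injective
  set σ : K ≃+* K := RingEquiv.ofBijective σ₀ hbij with hσ
  have hσt : ∀ t, σ t = f t / f 1 := fun t => rfl
  set s₁ : Kˣ := Units.mk0 (nrm K m (f 1)) (nrm_ne_zero hc) with hs₁
  have hchi : ((ghChi K m s₁⁻¹ 6 : Kˣ) : K) = (f 1)⁻¹ := by
    have h1 : ghChi K m s₁⁻¹ 6 * ghChi K m s₁ 6 = 1 := by
      rw [← ghChi_mul, inv_mul_cancel, ghChi_one]
    have h2 := congrArg Units.val h1
    rw [Units.val_mul, Units.val_one, chi6_nrm hm hc] at h2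
    exact eq_inv_of_mul_eq_one_left h2
  -- the remaining automorphism
  set θ' : ↥(twistedG2 K (3 ^ m)) ≃* ↥(twistedG2 K (3 ^ m)) :=
    fieldAut K m σ⁻¹ * (MulAut.conj (ghS hK s₁⁻¹) * θ) with hθ'
  have hS' : Stab hK θ' := (stab_fieldAut hK σ⁻¹).mul hK ((stab_conj_ghS hK s₁⁻¹).mul hK hS)
  have h1' : ∀ t : K, ∃ u v : K, θ' (ruS m t 0 0) = ruS m t u v := by
    intro t
    obtain ⟨a, b, e1⟩ := hf t 0 0
    have e2 : θ' (ruS m t 0 0) = ruS m (σ⁻¹ ((f 1)⁻¹ * f t)) (σ⁻¹ ((ghChi K m s₁⁻¹ 10 : K) * a))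
        (σ⁻¹ ((s₁⁻¹ : Kˣ) * b)) := by
      rw [hθ', MulAut.mul_apply, MulAut.mul_apply, e1, MulAut.conj_apply, ghS_conj_ruS, fieldAut_ruS, hchi]
    have e3 : σ⁻¹ ((f 1)⁻¹ * f t) = t := by
      have : (f 1)⁻¹ * f t = σ t := by rw [hσt]; ring
      rw [this]
      exact σ.symm_apply_apply t
    rw [e3] at e2
    exact ⟨_, _, e2⟩
  have h2 := hS'.eq_one hK h1' hs
  refine ⟨s₁, σ, ?_⟩
  have h3 : θ = (MulAut.conj (ghS hK s₁⁻¹))⁻¹ * ((fieldAut K m σ⁻¹)⁻¹ * θ') := by
    rw [hθ']
    group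
  rw [h3, h2, mul_one, ← map_inv, ← map_inv, ← ghS_inv, inv_inv, inv_inv]

end normal

end Cfsg.Agent.Helper7.ReeAut
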