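import Mathlib
import Cfsg.Agent.Helper7.ReeAutB
import Cfsg.Agent.Helper7.FieldAutCard
import Cfsg.Prelude.Def_KGroupFacts

set_option autoImplicit false
set_option linter.unusedSectionVars false
set_option linter.unusedVariables false

/-!
The outer automorphism group of the Ree groups `²G₂(q)`.
-/

namespace Cfsg.Agent.Helper7.ReeAut

open Cfsg Cfsg.Lie Matrix Cfsg.Agent.Helper7.Chev

variable {K : Type*} [Field K] [Fintype K] [CharP K 3] {m : ℕ}

section stab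

variable (hK : Fintype.card K = 3 ^ (2 * m + 1))

include hK in
/-- An element normalising `U¹` is in `B`. -/
theorem mem_borel_of_normalizes (x : ↥(twistedG2 K (3 ^ m)))
    (hx : ∀ u : ↥(twistedG2 K (3 ^ m)), (u : GL chevG2.Idx K) ∈ chevG2.posUnipotent K →
      ((x⁻¹ * u * x : ↥(twistedG2 K (3 ^ m))) : GL chevG2.Idx K) ∈ chevG2.posUnipotent K) :
    (x : GL chevG2.Idx K) ∈ chevG2.borelSubgroup K := by
  have hm := pow_card_three hK
  by_contra hxB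
  have h1 := hx (ruS m 0 0 1) (uA_mem_pos _ _ _ _ _ _)
  simp only [Subgroup.coe_mul, Subgroup.coe_inv] at h1
  have h2 := ree_TI hm x.2 hxB (uA_mem_pos _ _ _ _ _ _) h1
  rw [← ru_zero (K := K) (m := m)] at h2
  exact one_ne_zero (ru_injective h2).2.2

include hK in
/-- The inverse of an element of `U¹`. -/
theorem ruS_inv_eq (t u v : K) : ∃ u' v' : K, (ruS m t u v)⁻¹ = ruS m (-t) u' v' := by
  obtain ⟨u', v', e⟩ := ru_inv_eq (pow_card_three hK) t u v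
  exact ⟨u', v', Subtype.ext e⟩

include hK in
/-- Conjugation by an element of `U¹` acts trivially on `U¹/U¹'`. -/
theorem ruS_conj_first (a b c t u v : K) :
    ∃ u' v' : K, ruS m a b c * ruS m t u v * (ruS m a b c)⁻¹ = ruS m t u' v' := by
  obtain ⟨b', c', e⟩ := ruS_inv_eq hK a b c
  rw [e, ruS_mul hK, ruS_mul hK]
  exact ⟨_, _, by rw [add_neg_cancel_comm]⟩


variable (hs : ∃ s : K, s ≠ 0 ∧ s ≠ 1 ∧ s ≠ -1)

include hs in
/-- Up to an inner automorphism, an automorphism stabilises the unipotent subgroup and the torus. -/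
theorem exists_stab (θ : ↥(twistedG2 K (3 ^ m)) ≃* ↥(twistedG2 K (3 ^ m))) :
    ∃ g : ↥(twistedG2 K (3 ^ m)), Stab hK (MulAut.conj g * θ) := by
  classical
  have hm := pow_card_three hK
  haveI : Fact (Nat.Prime 3) := ⟨Nat.prime_three⟩
  -- first step: the unipotent subgroup
  have hinj : Function.Injective θ.symm.toMonoidHom := θ.symm.injective
  have hrange : ((rUSylow hK : Sylow 3 ↥(twistedG2 K (3 ^ m))) : Subgroup ↥(twistedG2 K (3 ^ m))) ≤
      θ.symm.toMonoidHom.range := by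
    intro x _
    exact ⟨θ x, θ.symm_apply_apply x⟩
  set P' : Sylow 3 ↥(twistedG2 K (3 ^ m)) :=
    (rUSylow hK).comapOfInjective θ.symm.toMonoidHom hinj hrange with hP'def
  have hP' : ∀ x, x ∈ (P' : Subgroup ↥(twistedG2 K (3 ^ m))) ↔ θ.symm x ∈ rU' K m := by
    intro x
    rw [hP'def, Sylow.coe_comapOfInjective, Subgroup.mem_comap, coe_rUSylow]
    rfl
  obtain ⟨g, hg⟩ := sylow_three_eq hK P'
  set θ₁ : ↥(twistedG2 K (3 ^ m)) ≃* ↥(twistedG2 K (3 ^ m)) := MulAut.conj g⁻¹ * θ with hθ₁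
  have hθ₁U : ∀ y : ↥(twistedG2 K (3 ^ m)), (y : GL chevG2.Idx K) ∈ chevG2.posUnipotent K ↔
      (θ₁ y : GL chevG2.Idx K) ∈ chevG2.posUnipotent K := by
    intro y
    have h1 := hg (θ y)
    rw [hP', θ.symm_apply_apply, mem_rU', mem_rU'] at h1
    rw [h1, hθ₁, MulAut.mul_apply, MulAut.conj_apply, inv_inv]
  -- the images of the elements of the torus are in `B`
  have hθ₁B : ∀ s : Kˣ, (θ₁ (ghS hK s) : GL chevG2.Idx K) ∈ chevG2.borelSubgroup K := by
    intro s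
    apply mem_borel_of_normalizes hK
    intro u hu
    have hu' : (θ₁.symm u : GL chevG2.Idx K) ∈ chevG2.posUnipotent K := by
      rw [hθ₁U, θ₁.apply_symm_apply]
      exact hu
    obtain ⟨a, b, c, e⟩ := (mem_pos_iff hK _).mp hu'
    have e1 : (θ₁ (ghS hK s))⁻¹ * u * θ₁ (ghS hK s) = θ₁ ((ghS hK s)⁻¹ * θ₁.symm u * ghS hK s) := by
      rw [map_mul, map_mul, map_inv, θ₁.apply_symm_apply]
    rw [e1, ← hθ₁U, e, ghS_inv]
    have := ghS_conj_ruS hK s⁻¹ a b c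
    rw [ghS_inv, inv_inv] at this
    rw [this]
    exact uA_mem_pos _ _ _ _ _ _
  -- second step: the torus
  obtain ⟨s₀, hs₀⟩ := IsCyclic.exists_monoid_generator (α := Kˣ)
  obtain ⟨a, b, c, s', e⟩ := (mem_borel_iff hK _).mp (hθ₁B s₀)
  have hs'2 : (s' : K) ^ 2 ≠ 1 := by
    intro h
    have h1 : s' * s' = 1 := by
      apply Units.ext
      rw [Units.val_mul, Units.val_one, ← sq]
      exact h
    have h2 : (θ₁ (ghS hK (s₀ * s₀)) : GL chevG2.Idx K) ∈ chevG2.posUnipotent K := by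
      rw [← ghS_mul, map_mul, e]
      have e2 : ruS m a b c * ghS hK s' * (ruS m a b c * ghS hK s') =
          ruS m a b c * (ghS hK s' * ruS m a b c * (ghS hK s')⁻¹) * (ghS hK s' * ghS hK s') := by group
      rw [e2, ghS_mul, h1, ghS_one, mul_one, ghS_conj_ruS]
      simp only [Subgroup.coe_mul]
      exact mul_mem (uA_mem_pos _ _ _ _ _ _) (uA_mem_pos _ _ _ _ _ _)
    rw [← hθ₁U] at h2
    obtain ⟨a', b', c', e3⟩ := (mem_pos_iff hK _).mp h2
    have e4 := ruS_eq_ghS hK e3.symm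
    rw [← e3, ← ghS_one hK] at e4
    have e5 : s₀ * s₀ = 1 := ghS_injective hK e4
    obtain ⟨l, hl0, hl1, hlm⟩ := hs
    obtain ⟨k, hk⟩ := (Submonoid.mem_powers_iff _ _).mp (hs₀ (Units.mk0 l hl0))
    have e6 : (Units.mk0 l hl0) * (Units.mk0 l hl0) = 1 := by
      rw [← hk, ← mul_pow, e5, one_pow]
    have e7 : l * l = 1 := by
      have := congrArg Units.val e6
      rwa [Units.val_mul, Units.val_mk0, Units.val_one] at this
    rcases mul_self_eq_one_iff.mp e7 with h | h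
    · exact hl1 h
    · exact hlm h
  -- the map `u ↦ u h' u⁻¹ h'⁻¹` of `U¹` is a bijection
  have hφmem : ∀ u : ↥(rU' K m), (u : ↥(twistedG2 K (3 ^ m))) *
      (ghS hK s' * (u : ↥(twistedG2 K (3 ^ m)))⁻¹ * (ghS hK s')⁻¹) ∈ rU' K m := by
    intro u
    have hu := (mem_rU' _).mp u.2
    obtain ⟨t₁, u₁, v₁, e1⟩ := (mem_pos_iff hK _).mp hu
    obtain ⟨u₂, v₂, e2⟩ := ruS_inv_eq hK t₁ u₁ v₁
    rw [mem_rU', e1, e2, ghS_conj_ruS]
    simp only [Subgroup.coe_mul]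
    exact mul_mem (uA_mem_pos _ _ _ _ _ _) (uA_mem_pos _ _ _ _ _ _)
  set φ : ↥(rU' K m) → ↥(rU' K m) := fun u => ⟨_, hφmem u⟩ with hφ
  have hφinj : Function.Injective φ := by
    intro u w huw
    have e1 : (u : ↥(twistedG2 K (3 ^ m))) * (ghS hK s' * (u : ↥(twistedG2 K (3 ^ m)))⁻¹ * (ghS hK s')⁻¹) =
        (w : ↥(twistedG2 K (3 ^ m))) * (ghS hK s' * (w : ↥(twistedG2 K (3 ^ m)))⁻¹ * (ghS hK s')⁻¹) :=
      congrArg Subtype.val huw
    have hx : ((w⁻¹ * u : ↥(rU' K m)) : ↥(twistedG2 K (3 ^ m))) ∈ rU' K m := (w⁻¹ * u).2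
    obtain ⟨t₁, u₁, v₁, e2⟩ := (mem_pos_iff hK _).mp ((mem_rU' _).mp hx)
    have e3 : ghS hK s' * ruS m t₁ u₁ v₁ * (ghS hK s')⁻¹ = ruS m t₁ u₁ v₁ := by
      rw [← e2]
      simp only [Subgroup.coe_mul, Subgroup.coe_inv]
      have e4 : ghS hK s' * ((w : ↥(twistedG2 K (3 ^ m)))⁻¹ * (u : ↥(twistedG2 K (3 ^ m)))) * (ghS hK s')⁻¹ =
          ghS hK s' * (w : ↥(twistedG2 K (3 ^ m)))⁻¹ * (ghS hK s')⁻¹ *
            ((u : ↥(twistedG2 K (3 ^ m))) * (ghS hK s' * (u : ↥(twistedG2 K (3 ^ m)))⁻¹ * (ghS hK s')⁻¹))⁻¹ *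
            (u : ↥(twistedG2 K (3 ^ m))) := by group
      rw [e4, e1]
      group
    have e5 := ruS_eq_one_of_comm hK hs'2 e3
    rw [← e2] at e5
    have e6 : (w⁻¹ * u : ↥(rU' K m)) = 1 := Subtype.ext e5
    exact (inv_mul_eq_one.mp e6).symm
  have hφsurj : Function.Surjective φ := Finite.injective_iff_surjective.mp hφinj
  obtain ⟨u₀, hu₀⟩ := hφsurj ⟨ruS m a b c, (mem_rU' _).mpr (uA_mem_pos _ _ _ _ _ _)⟩
  have hu₀' : (u₀ : ↥(twistedG2 K (3 ^ m))) *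
      (ghS hK s' * (u₀ : ↥(twistedG2 K (3 ^ m)))⁻¹ * (ghS hK s')⁻¹) = ruS m a b c := congrArg Subtype.val hu₀
  refine ⟨(u₀ : ↥(twistedG2 K (3 ^ m)))⁻¹ * g⁻¹, ?_⟩
  have hθ₂ : ∀ x, (MulAut.conj ((u₀ : ↥(twistedG2 K (3 ^ m)))⁻¹ * g⁻¹) * θ) x =
      (u₀ : ↥(twistedG2 K (3 ^ m)))⁻¹ * θ₁ x * (u₀ : ↥(twistedG2 K (3 ^ m))) := by
    intro x
    rw [hθ₁, MulAut.mul_apply, MulAut.mul_apply, MulAut.conj_apply, MulAut.conj_apply]
    group
  have hu₀U : ((u₀ : ↥(twistedG2 K (3 ^ m))) : GL chevG2.Idx K) ∈ chevG2.posUnipotent K := (mem_rU' _).mp u₀.2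
  constructor
  · intro t u v
    have h1 : (θ₁ (ruS m t u v) : GL chevG2.Idx K) ∈ chevG2.posUnipotent K :=
      (hθ₁U _).mp (uA_mem_pos _ _ _ _ _ _)
    have h2 : (((u₀ : ↥(twistedG2 K (3 ^ m)))⁻¹ * θ₁ (ruS m t u v) * (u₀ : ↥(twistedG2 K (3 ^ m))) :
        ↥(twistedG2 K (3 ^ m))) : GL chevG2.Idx K) ∈ chevG2.posUnipotent K := by
      simp only [Subgroup.coe_mul, Subgroup.coe_inv]
      exact mul_mem (mul_mem (inv_mem hu₀U) h1) hu₀U
    obtain ⟨t', u', v', e'⟩ := (mem_pos_iff hK _).mp h2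
    exact ⟨t', u', v', by rw [hθ₂, e']⟩
  · have h0 : (u₀ : ↥(twistedG2 K (3 ^ m)))⁻¹ * θ₁ (ghS hK s₀) * (u₀ : ↥(twistedG2 K (3 ^ m))) = ghS hK s' := by
      rw [e, ← hu₀']
      group
    intro s
    obtain ⟨k, hk⟩ := (Submonoid.mem_powers_iff _ _).mp (hs₀ s)
    refine ⟨s' ^ k, ?_⟩
    rw [← hk, ← ghS_pow, map_pow, hθ₂, h0, ghS_pow]


include hK hs in
/-- Every automorphism of the Ree group is the product of an inner and a field automorphism. -/
theorem exists_inner_field (θ : ↥(twistedG2 K (3 ^ m)) ≃* ↥(twistedG2 K (3 ^ m))) :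
    ∃ (g : ↥(twistedG2 K (3 ^ m))) (σ : K ≃+* K), θ = MulAut.conj g * fieldAut K m σ := by
  obtain ⟨g, hS⟩ := exists_stab hK hs θ
  obtain ⟨s₁, σ, e⟩ := hS.normal_form hK hs
  refine ⟨g⁻¹ * ghS hK s₁, σ, ?_⟩
  rw [map_mul, map_inv, mul_assoc, ← e]
  group

include hK in
/-- A field automorphism that is inner is trivial. -/
theorem fieldAut_eq_conj {σ : K ≃+* K} {g : ↥(twistedG2 K (3 ^ m))}
    (e : fieldAut K m σ = MulAut.conj g) : σ = 1 := by
  have hm := pow_card_three hK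
  have hT : ∀ t u v : K, g * ruS m t u v * g⁻¹ = ruS m (σ t) (σ u) (σ v) := by
    intro t u v
    rw [← fieldAut_ruS, e, MulAut.conj_apply]
  have hgB : (g : GL chevG2.Idx K) ∈ chevG2.borelSubgroup K := by
    apply mem_borel_of_normalizes hK
    intro x hx
    obtain ⟨t, u, v, rfl⟩ := (mem_pos_iff hK x).mp hx
    have h1 := hT (σ.symm t) (σ.symm u) (σ.symm v)
    rw [σ.apply_symm_apply, σ.apply_symm_apply, σ.apply_symm_apply] at h1
    rw [← h1]
    have : g⁻¹ * (g * ruS m (σ.symm t) (σ.symm u) (σ.symm v) * g⁻¹) * g =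
        ruS m (σ.symm t) (σ.symm u) (σ.symm v) := by group
    rw [this]
    exact uA_mem_pos _ _ _ _ _ _
  obtain ⟨a, b, c, s, rfl⟩ := (mem_borel_iff hK g).mp hgB
  have key : ∀ t : K, (ghChi K m s 6 : K) * t = σ t := by
    intro t
    have e1 := hT t 0 0
    have e0 : ruS m a b c * ghS hK s * ruS m t 0 0 * (ruS m a b c * ghS hK s)⁻¹ =
        ruS m a b c * (ghS hK s * ruS m t 0 0 * (ghS hK s)⁻¹) * (ruS m a b c)⁻¹ := by group
    rw [e0, ghS_conj_ruS] at e1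
    obtain ⟨u', v', e2⟩ := ruS_conj_first hK a b c ((ghChi K m s 6 : K) * t) ((ghChi K m s 10 : K) * 0)
      ((s : K) * 0)
    rw [e2] at e1
    exact (ruS_injective e1).1
  have e1 : ((ghChi K m s 6 : Kˣ) : K) = 1 := by
    have := key 1
    rw [mul_one, map_one] at this
    exact this
  apply RingEquiv.ext
  intro t
  rw [← key t, e1, one_mul]
  rfl

include hK hs in
/-- The order of the outer automorphism group of the Ree group. -/
theorem card_out : Nat.card (Cfsg.Out ↥(twistedG2 K (3 ^ m))) = 2 * m + 1 := by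
  haveI : Fact (Nat.Prime 3) := ⟨Nat.prime_three⟩
  set Φ : (K ≃+* K) →* Cfsg.Out ↥(twistedG2 K (3 ^ m)) :=
    (QuotientGroup.mk' (Cfsg.Inn ↥(twistedG2 K (3 ^ m)))).comp (fieldAut K m) with hΦ
  have hinj : Function.Injective Φ := by
    rw [injective_iff_map_eq_one]
    intro σ hσ
    have h1 : fieldAut K m σ ∈ Cfsg.Inn ↥(twistedG2 K (3 ^ m)) := (QuotientGroup.eq_one_iff _).mp hσ
    obtain ⟨g, hg⟩ := h1
    exact fieldAut_eq_conj hK hg.symm
  have hsurj : Function.Surjective Φ := by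
    intro x
    obtain ⟨θ, rfl⟩ := QuotientGroup.mk'_surjective (Cfsg.Inn ↥(twistedG2 K (3 ^ m))) x
    obtain ⟨g, σ, e⟩ := exists_inner_field hK hs θ
    refine ⟨σ, ?_⟩
    rw [e, map_mul]
    have h1 : QuotientGroup.mk' (Cfsg.Inn ↥(twistedG2 K (3 ^ m))) (MulAut.conj g) = 1 :=
      (QuotientGroup.eq_one_iff _).mpr ⟨g, rfl⟩
    rw [h1, one_mul]
    rfl
  rw [← Nat.card_eq_of_bijective Φ ⟨hinj, hsurj⟩]
  exact Cfsg.Agent.Helper7.FieldAutCard.card_ringAut 3 (2 * m + 1) hK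

end stab

/-- The statement of S2127. -/
theorem ree_S2127 {K : Type*} [Field K] [Fintype K] {m : ℕ} (hm : 1 ≤ m)
    (hK : Fintype.card K = 3 ^ (2 * m + 1)) :
    Nat.card (Cfsg.Out ↥(Cfsg.Lie.twistedG2 K (3 ^ m))) = 2 * m + 1 := by
  haveI := charP_three_of_card (by omega) hK
  exact card_out hK (ree_exists_s hK hm)

end Cfsg.Agent.Helper7.ReeAut
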