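import Mathlib
import Cfsg.Agent.Helper7.ReeAutC

set_option autoImplicit false
set_option linter.unusedSectionVars false
set_option linter.unusedVariables false

/-!
The Ree groups `²G₂(q)` are generated by two elements.
-/

namespace Cfsg.Agent.Helper7.ReeAut

open Cfsg Cfsg.Lie Matrix Cfsg.Agent.Helper7.Chev Polynomial

variable {K : Type*} [Field K] [Fintype K] [CharP K 3] {m : ℕ}

/-- Every element of a finite field of odd order is a sum of two squares. -/
theorem exists_sq_add_sq' (hodd : Fintype.card K % 2 = 1) (x : K) : ∃ a b : K, a ^ 2 + b ^ 2 = x := by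
  let f : K[X] := X ^ 2
  let g : K[X] := X ^ 2 - C x
  obtain ⟨a, b, hab⟩ : ∃ a b, f.eval a + g.eval b = 0 :=
    FiniteField.exists_root_sum_quadratic (f := f) (g := g) (degree_X_pow 2)
      (degree_X_pow_sub_C (by decide) _) hodd
  refine ⟨a, b, ?_⟩
  rw [← sub_eq_zero]
  simpa only [f, g, eval_C, eval_X, eval_pow, eval_sub, ← add_sub_assoc] using hab

section chars

variable (hm : ∀ t : K, t ^ 3 ^ (2 * m + 1) = t)

include hm in
/-- The character of the torus on `U¹'/Z(U¹)` takes all nonzero squares as values. -/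
theorem chi10_sq {a : K} (ha : a ≠ 0) :
    ((ghChi K m (Units.mk0 (a * reeTh K (m + 1) a) (mul_ne_zero ha ((_root_.map_ne_zero _).mpr ha))) 10 : Kˣ) : K) =
      a ^ 2 := by
  have h1 := chi10_mul (m := m) (Units.mk0 (a * reeTh K (m + 1) a) (mul_ne_zero ha ((_root_.map_ne_zero _).mpr ha)))
  rw [Units.val_mk0, map_mul, reeTh_succ_twice hm] at h1
  have h2 : a * reeTh K (m + 1) a ≠ 0 := mul_ne_zero ha ((_root_.map_ne_zero _).mpr ha)
  apply mul_right_cancel₀ h2
  rw [h1]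
  ring

end chars


section gen

variable (hK : Fintype.card K = 3 ^ (2 * m + 1)) (hs : ∃ s : K, s ≠ 0 ∧ s ≠ 1 ∧ s ≠ -1)

include hK hs in
/-- The Ree group is generated by two elements. -/
theorem two_generated :
    ∃ a b : ↥(twistedG2 K (3 ^ m)), Subgroup.closure ({a, b} : Set ↥(twistedG2 K (3 ^ m))) = ⊤ := by
  have hm := pow_card_three hK
  have h3 : (3 : K) = 0 := three_eq_zero'
  obtain ⟨l, hl0, hl1, hlm⟩ := hs
  obtain ⟨s₀, hs₀⟩ := IsCyclic.exists_generator (α := Kˣ)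
  obtain ⟨n₀, hn₀, hn₀H⟩ := exists_rN_not_mem (K := K) (m := m) hm
  set nS : ↥(twistedG2 K (3 ^ m)) := ⟨n₀, (mem_rN.mp hn₀).2⟩ with hnS
  refine ⟨ghS hK s₀, ruS m 1 0 0 * nS, ?_⟩
  set M := Subgroup.closure ({ghS hK s₀, ruS m 1 0 0 * nS} : Set ↥(twistedG2 K (3 ^ m))) with hM
  have haM : ghS hK s₀ ∈ M := Subgroup.subset_closure (by simp)
  have hbM : ruS m 1 0 0 * nS ∈ M := Subgroup.subset_closure (by simp)
  -- the torus
  have hH : ∀ s : Kˣ, ghS hK s ∈ M := by
    intro s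
    obtain ⟨k, rfl⟩ := Subgroup.mem_zpowers_iff.1 (hs₀ s)
    have : ghS hK (s₀ ^ k) = (ghS hK s₀) ^ k := by
      apply Subtype.ext
      rw [Subgroup.coe_zpow]
      exact map_zpow (gh K m) s₀ k
    rw [this]
    exact M.zpow_mem haM k
  have hs₀1 : s₀ ≠ 1 := by
    intro e
    have := hs₀ (Units.mk0 l hl0)
    rw [e, Subgroup.zpowers_one_eq_bot, Subgroup.mem_bot] at this
    apply hl1
    have h := congrArg Units.val this
    rwa [Units.val_mk0, Units.val_one] at h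
  -- conjugation by elements of the torus
  have hscale : ∀ (s : Kˣ) (t u v : K), ruS m t u v ∈ M →
      ruS m ((ghChi K m s 6 : K) * t) ((ghChi K m s 10 : K) * u) ((s : K) * v) ∈ M := by
    intro s t u v h
    rw [← ghS_conj_ruS hK]
    exact M.mul_mem (M.mul_mem (hH s) h) (M.inv_mem (hH s))
  -- a first element of `U¹`
  obtain ⟨s', hs'⟩ := (mem_diag_iff hK (nS * ghS hK s₀ * nS⁻¹)).mp (by
    have := rN_conj_rH hn₀ (mem_rH.mpr ⟨gh_mem_diagonal s₀, gh_mem_twisted hK s₀⟩)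
    exact (mem_rH.mp this).1)
  have hs'1 : s' ≠ 1 := by
    intro e
    rw [e, ghS_one] at hs'
    have h1 : ghS hK s₀ = 1 := by
      have : ghS hK s₀ = nS⁻¹ * (nS * ghS hK s₀ * nS⁻¹) * nS := by group
      rw [this, hs']
      group
    rw [← ghS_one hK] at h1
    exact hs₀1 (ghS_injective hK h1)
  obtain ⟨a₀, b₀, einv⟩ := ruS_inv_eq hK (1 : K) 0 0
  have hc : ∃ a b : K, ruS m (1 - (ghChi K m s' 6 : K)) a b ∈ M := by
    have h1 : (ruS m 1 0 0 * nS) * ghS hK s₀ * (ruS m 1 0 0 * nS)⁻¹ * (ghS hK s')⁻¹ ∈ M :=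
      M.mul_mem (M.mul_mem (M.mul_mem hbM haM) (M.inv_mem hbM)) (M.inv_mem (hH s'))
    have e1 : (ruS m 1 0 0 * nS) * ghS hK s₀ * (ruS m 1 0 0 * nS)⁻¹ * (ghS hK s')⁻¹ =
        ruS m 1 0 0 * (ghS hK s' * (ruS m (1 : K) 0 0)⁻¹ * (ghS hK s')⁻¹) := by
      rw [← hs']
      group
    rw [e1, einv, ghS_conj_ruS, ruS_mul hK] at h1
    have e2 : (1 : K) + ((ghChi K m s' 6 : Kˣ) : K) * -1 = 1 - ((ghChi K m s' 6 : Kˣ) : K) := by ring
    rw [e2] at h1
    exact ⟨_, _, h1⟩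
  obtain ⟨a₁, b₁, hc1⟩ := hc
  have ht₁ : 1 - ((ghChi K m s' 6 : Kˣ) : K) ≠ 0 := by
    intro e
    apply hs'1
    apply chi6_injective hm
    rw [ghChi_one, Units.val_one]
    linear_combination -e
  -- the first layer
  have hall1 : ∀ x : K, ∃ u v : K, ruS m x u v ∈ M := by
    intro x
    by_cases hx : x = 0
    · exact ⟨0, 0, by rw [hx, ruS_zero]; exact M.one_mem⟩
    · have hl : x / (1 - ((ghChi K m s' 6 : Kˣ) : K)) ≠ 0 := div_ne_zero hx ht₁
      have := hscale (Units.mk0 _ (nrm_ne_zero (m := m) hl)) _ _ _ hc1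
      rw [chi6_nrm hm hl, div_mul_cancel₀ _ ht₁] at this
      exact ⟨_, _, this⟩
  -- the third layer
  have hall3 : ∀ w : K, ruS m 0 0 w ∈ M := by
    intro w
    obtain ⟨t, ht⟩ := exists_cube hK w
    obtain ⟨u, v, huv⟩ := hall1 t
    have := M.pow_mem huv 3
    rw [ruS_cube hK] at this
    rw [← ht, ruS_cube hK]
    exact this
  -- the second layer
  have hθl : reeTh K (m + 1) l ≠ l := by
    intro e4
    have e5 := reeTh_succ_twice hm l
    rw [e4, e4] at e5
    have e6 : l * ((l - 1) * (l + 1)) = 0 := by linear_combination -e5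
    rcases mul_eq_zero.mp e6 with h | h
    · exact hl0 h
    · rcases mul_eq_zero.mp h with h | h
      · exact hl1 (sub_eq_zero.mp h)
      · exact hlm (eq_neg_of_add_eq_zero_left h)
  have hd : ∃ e : K, ruS m 0 (l - reeTh K (m + 1) l) e ∈ M := by
    obtain ⟨a, b, hx⟩ := hall1 1
    obtain ⟨a', b', hy⟩ := hall1 l
    have h1 : (ruS m l a' b' * ruS m 1 a b)⁻¹ * (ruS m 1 a b * ruS m l a' b') ∈ M :=
      M.mul_mem (M.inv_mem (M.mul_mem hy hx)) (M.mul_mem hx hy)
    refine ⟨(b + b' - reeTh K (m + 1) l * 1 ^ 2 - l * (a - reeTh K (m + 1) l * 1)) -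
      (b' + b - reeTh K (m + 1) 1 * l ^ 2 - 1 * (a' - reeTh K (m + 1) 1 * l)), ?_⟩
    have e1 : ruS m 1 a b * ruS m l a' b' = ruS m l a' b' * ruS m 1 a b *
        ruS m 0 (l - reeTh K (m + 1) l) ((b + b' - reeTh K (m + 1) l * 1 ^ 2 - l * (a - reeTh K (m + 1) l * 1)) -
      (b' + b - reeTh K (m + 1) 1 * l ^ 2 - 1 * (a' - reeTh K (m + 1) 1 * l))) := by
      rw [ruS_mul hK, ruS_mul hK, ruS_mul hK]
      congr 1
      · ring
      · simp only [map_zero, map_one, zero_mul]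
        ring
      · simp only [map_zero, map_one, zero_mul]
        ring
    rw [e1] at h1
    have e2 : (ruS m l a' b' * ruS m 1 a b)⁻¹ * (ruS m l a' b' * ruS m 1 a b *
        ruS m 0 (l - reeTh K (m + 1) l) ((b + b' - reeTh K (m + 1) l * 1 ^ 2 - l * (a - reeTh K (m + 1) l * 1)) -
      (b' + b - reeTh K (m + 1) 1 * l ^ 2 - 1 * (a' - reeTh K (m + 1) 1 * l)))) =
        ruS m 0 (l - reeTh K (m + 1) l) ((b + b' - reeTh K (m + 1) l * 1 ^ 2 - l * (a - reeTh K (m + 1) l * 1)) -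
      (b' + b - reeTh K (m + 1) 1 * l ^ 2 - 1 * (a' - reeTh K (m + 1) 1 * l))) := by group
    rw [e2] at h1
    exact h1
  obtain ⟨e₀, hd0⟩ := hd
  have hd1 : l - reeTh K (m + 1) l ≠ 0 := fun h => hθl (sub_eq_zero.mp h).symm
  have hsq : ∀ a : K, ∃ e : K, ruS m 0 (a ^ 2 * (l - reeTh K (m + 1) l)) e ∈ M := by
    intro a
    by_cases ha : a = 0
    · exact ⟨0, by rw [ha]; simp only [ne_eq, OfNat.ofNat_ne_zero, not_false_eq_true, zero_pow, zero_mul]
                   rw [ruS_zero]; exact M.one_mem⟩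
    · have := hscale (Units.mk0 _ (mul_ne_zero ha ((_root_.map_ne_zero (reeTh K (m + 1))).mpr ha))) _ _ _ hd0
      rw [chi10_sq hm ha, mul_zero] at this
      exact ⟨_, this⟩
  have hodd : Fintype.card K % 2 = 1 := by
    rw [hK]
    exact Nat.odd_iff.mp (Odd.pow (by decide))
  have hall2 : ∀ u : K, ∃ v : K, ruS m 0 u v ∈ M := by
    intro u
    obtain ⟨c, d, hcd⟩ := exists_sq_add_sq' hodd (u / (l - reeTh K (m + 1) l))
    obtain ⟨e, he⟩ := hsq c
    obtain ⟨e', he'⟩ := hsq d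
    have := M.mul_mem he he'
    rw [ruS_add hK, ← add_mul, hcd, div_mul_cancel₀ _ hd1] at this
    exact ⟨_, this⟩
  -- the whole of `U¹`
  have hU : ∀ t u v : K, ruS m t u v ∈ M := by
    intro t u v
    obtain ⟨a, b, hab⟩ := hall1 t
    obtain ⟨e, he⟩ := hall2 (u - a)
    have e1 : ruS m t u v = ruS m t a b * (ruS m 0 (u - a) e * ruS m 0 0 (v - b - e)) := by
      rw [ruS_add hK, ruS_mul hK]
      congr 1
      · ring
      · simp only [map_zero, zero_mul]
        ring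
      · simp only [map_zero, zero_mul]
        ring
    rw [e1]
    exact M.mul_mem hab (M.mul_mem he (hall3 _))
  have hn : nS ∈ M := by
    have : nS = (ruS m 1 0 0)⁻¹ * (ruS m 1 0 0 * nS) := by group
    rw [this]
    exact M.mul_mem (M.inv_mem (hU 1 0 0)) hbM
  have hB : ∀ g : ↥(twistedG2 K (3 ^ m)), (g : GL chevG2.Idx K) ∈ chevG2.borelSubgroup K → g ∈ M := by
    intro g hg
    obtain ⟨t, u, v, s, rfl⟩ := (mem_borel_iff hK g).mp hg
    exact M.mul_mem (hU t u v) (hH s)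
  rw [eq_top_iff]
  intro g _
  rcases twistedG2_cover hm hn₀ hn₀H g.2 with h | ⟨c, hc, c', hc', e⟩
  · exact hB g (Subgroup.mem_inf.mp h).1
  · set cS : ↥(twistedG2 K (3 ^ m)) := ⟨c, (Subgroup.mem_inf.mp hc).2⟩ with hcS
    set cS' : ↥(twistedG2 K (3 ^ m)) := ⟨c', (Subgroup.mem_inf.mp hc').2⟩ with hcS'
    have e1 : g = cS * nS * cS' := Subtype.ext e
    rw [e1]
    exact M.mul_mem (M.mul_mem (hB cS (Subgroup.mem_inf.mp hc).1) hn) (hB cS' (Subgroup.mem_inf.mp hc').1)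

end gen

/-- The statement of S2409. -/
theorem ree_S2409 {K : Type*} [Field K] [Fintype K] {m : ℕ} (hm : 1 ≤ m)
    (hK : Fintype.card K = 3 ^ (2 * m + 1)) :
    ∃ a b : ↥(Cfsg.Lie.twistedG2 K (3 ^ m)),
      Subgroup.closure ({a, b} : Set ↥(Cfsg.Lie.twistedG2 K (3 ^ m))) = ⊤ := by
  haveI := charP_three_of_card (by omega) hK
  exact two_generated hK (ree_exists_s hK hm)

end Cfsg.Agent.Helper7.ReeAut
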