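import Mathlib
import Cfsg.Agent.Helper7.ReeGenA

set_option autoImplicit false
set_option linter.unusedSectionVars false
set_option linter.unusedVariables false

/-!
The centraliser of an involution of the Ree group `²G₂(q)`: the homomorphism of `SL₂(q)` into it.
-/

namespace Cfsg.Agent.Helper7.ReeAut

open Cfsg Cfsg.Lie Matrix Cfsg.Agent.Helper7.Chev

variable {K : Type*} [Field K] [Fintype K] [CharP K 3] {m : ℕ}

/-- The homomorphism of `SL₂(K)` into the Ree group. -/
noncomputable def rPhi (K : Type*) [Field K] [Fintype K] [CharP K 3] (m : ℕ) :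
    Matrix.SpecialLinearGroup (Fin 2) K →* ↥(twistedG2 K (3 ^ m)) :=
  (reePhi K m).codRestrict (twistedG2 K (3 ^ m)) reePhi_mem

/-- The elements of `V¹`, in the group. -/
noncomputable def rvS (m : ℕ) (t u v : K) : ↥(twistedG2 K (3 ^ m)) := ⟨rv m t u v, rv_mem_twisted t u v⟩

theorem rPhi_coe (x : Matrix.SpecialLinearGroup (Fin 2) K) :
    ((rPhi K m x : ↥(twistedG2 K (3 ^ m))) : GL chevG2.Idx K) = reePhi K m x := rfl

theorem rPhi_upper (c : K) : rPhi K m (upperSL c) = ruS m 0 c 0 := Subtype.ext (reePhi_upper c)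

theorem rPhi_lower (c : K) : rPhi K m (lowerSL c) = rvS m 0 (-c) 0 := Subtype.ext (reePhi_lower c)

section inv

variable (hK : Fintype.card K = 3 ^ (2 * m + 1))

theorem rPhi_diag (c : Kˣ) :
    rPhi K m (diagSL (c : K) c.ne_zero) = ghS hK (Units.map (reeTh K (m + 1) : K →* K) c * c) :=
  Subtype.ext (reePhi_diag (pow_card_three hK) c)

/-- `V¹ ∩ B = 1`. -/
theorem rvS_not_mem_borel {t u v : K} (h : (rvS m t u v : GL chevG2.Idx K) ∈ chevG2.borelSubgroup K) :
    t = 0 ∧ u = 0 ∧ v = 0 := by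
  have hv : rv m t u v ∈ chevG2.negUnipotent K :=
    nuGL_pos good3_G2.toGood2 T0_G2 T25_G2 (uA_mem_pos _ _ _ _ _ _)
  have h1 : rv m t u v ∈ chevG2.borelSubgroup K ⊓ chevG2.negUnipotent K := Subgroup.mem_inf.mpr ⟨h, hv⟩
  rw [borel_inf_negUnipotent good3_G2.toGood2 T0_G2, Subgroup.mem_bot] at h1
  unfold rv at h1
  have h2 : ru m t u v = 1 := by
    have := congrArg (nuGL good3_G2.toGood1) h1
    rw [nuGL_nuGL, map_one] at this
    exact this
  rw [← ru_zero (K := K) (m := m)] at h2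
  exact ru_injective h2

/-- The involution of the torus. -/
noncomputable def aS (hK : Fintype.card K = 3 ^ (2 * m + 1)) : ↥(twistedG2 K (3 ^ m)) := ghS hK (-1)

theorem aS_mul_aS : aS hK * aS hK = 1 := by
  unfold aS
  rw [ghS_mul, neg_mul_neg, one_mul, ghS_one]

theorem aS_inv : (aS hK)⁻¹ = aS hK := inv_eq_of_mul_eq_one_left (aS_mul_aS hK)

theorem aS_ne_one : aS hK ≠ 1 := by
  unfold aS
  rw [← ghS_one hK]
  intro h
  have h7 : (-1 : Kˣ) = 1 := ghS_injective hK h
  have h8 : (-1 : K) = 1 := by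
    have := congrArg Units.val h7
    simpa using this
  apply two_ne_zero' K
  linear_combination -h8

theorem aS_conj_ruS (t u v : K) : aS hK * ruS m t u v * (aS hK)⁻¹ = ruS m (-t) u (-v) := by
  have hm := pow_card_three hK
  unfold aS
  rw [ghS_conj_ruS, gh_neg_one_chi6 hm, chi10_neg_one hm]
  congr 1 <;> simp

/-- The elements of `U¹` centralised by the involution. -/
theorem aS_comm_ruS_iff (t u v : K) : aS hK * ruS m t u v * (aS hK)⁻¹ = ruS m t u v ↔ t = 0 ∧ v = 0 := by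
  rw [aS_conj_ruS]
  constructor
  · intro h
    obtain ⟨h1, _, h3⟩ := ruS_injective h
    have h2 := two_ne_zero' K
    constructor
    · have : (2 : K) * t = 0 := by linear_combination -h1
      rcases mul_eq_zero.mp this with h | h
      · exact absurd h h2
      · exact h
    · have : (2 : K) * v = 0 := by linear_combination -h3
      rcases mul_eq_zero.mp this with h | h
      · exact absurd h h2
      · exact h
  · rintro ⟨rfl, rfl⟩
    rw [neg_zero]


theorem rv_zero_mid (c : K) : rv m 0 c 0 = gx K 3 (-(reeTh K m c)) * gx K 1 (-c) := by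
  unfold rv
  rw [ru_zero_mid, map_mul, nuGL_gx 8 _ 3 (by decide), nuGL_gx 10 _ 1 (by decide)]

theorem g2chi_neg_one_3 : ((g2chi (-1 : Kˣ) (-1) 3 : Kˣ) : K) = 1 := by
  unfold g2chi
  have a0 : chevG2.cartan 0 ((3 : Fin 12) : ℕ) = 1 := by decide
  have a1 : chevG2.cartan 1 ((3 : Fin 12) : ℕ) = -1 := by decide
  rw [a0, a1, zpow_one, _root_.zpow_neg, zpow_one, inv_neg, inv_one, neg_mul_neg, one_mul, Units.val_one]

theorem g2chi_neg_one_1 : ((g2chi (-1 : Kˣ) (-1) 1 : Kˣ) : K) = 1 := by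
  unfold g2chi
  have a0 : chevG2.cartan 0 ((1 : Fin 12) : ℕ) = -3 := by decide
  have a1 : chevG2.cartan 1 ((1 : Fin 12) : ℕ) = 1 := by decide
  have h1 : ((-1 : Kˣ)) ^ (-3 : ℤ) = -1 := by
    rw [_root_.zpow_neg, Odd.neg_one_zpow (by decide), inv_neg, inv_one]
  rw [a0, a1, h1, zpow_one, neg_mul_neg, one_mul, Units.val_one]

theorem aS_conj_rvS (c : K) : aS hK * rvS m 0 c 0 * (aS hK)⁻¹ = rvS m 0 c 0 := by
  apply Subtype.ext
  change gh K m (-1) * rv m 0 c 0 * (gh K m (-1))⁻¹ = rv m 0 c 0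
  have hθ : Units.map (reeTh K m : K →* K) (-1 : Kˣ) = -1 := by
    apply Units.ext
    change reeTh K m ((-1 : Kˣ) : K) = ((-1 : Kˣ) : K)
    simp
  rw [rv_zero_mid, gh_apply, hθ]
  have e : tG2 (-1 : Kˣ) (-1) * (gx K 3 (-(reeTh K m c)) * gx K 1 (-c)) * (tG2 (-1 : Kˣ) (-1))⁻¹ =
      (tG2 (-1 : Kˣ) (-1) * gx K 3 (-(reeTh K m c)) * (tG2 (-1 : Kˣ) (-1))⁻¹) *
        (tG2 (-1 : Kˣ) (-1) * gx K 1 (-c) * (tG2 (-1 : Kˣ) (-1))⁻¹) := by group
  rw [e, tG2_conj_gx, tG2_conj_gx, g2chi_neg_one_3, g2chi_neg_one_1, one_mul, one_mul]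

/-- The involution centralises the image of `SL₂`. -/
theorem aS_comm_rPhi (x : Matrix.SpecialLinearGroup (Fin 2) K) :
    aS hK * rPhi K m x = rPhi K m x * aS hK := by
  have h : (⊤ : Subgroup (Matrix.SpecialLinearGroup (Fin 2) K)) ≤
      (Subgroup.centralizer {aS hK}).comap (rPhi K m) := by
    rw [← sl2_generated, Subgroup.closure_le]
    rintro x (⟨t, rfl⟩ | ⟨t, rfl⟩)
    · show rPhi K m (upperSL t) ∈ Subgroup.centralizer {aS hK}
      rw [Subgroup.mem_centralizer_singleton_iff, rPhi_upper]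
      have := (aS_comm_ruS_iff hK 0 t 0).mpr ⟨rfl, rfl⟩
      rw [mul_inv_eq_iff_eq_mul] at this
      exact this.symm
    · show rPhi K m (lowerSL t) ∈ Subgroup.centralizer {aS hK}
      rw [Subgroup.mem_centralizer_singleton_iff, rPhi_lower]
      have := aS_conj_rvS hK (-t)
      rw [mul_inv_eq_iff_eq_mul] at this
      exact this.symm
  have := h (Subgroup.mem_top x)
  rw [Subgroup.mem_comap, Subgroup.mem_centralizer_singleton_iff] at this
  exact this.symm


omit [Fintype K] [CharP K 3] in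
theorem sl2_decomp_big (g : Matrix.SpecialLinearGroup (Fin 2) K) (hc : g.val 1 0 ≠ 0) :
    g = upperSL ((g.val 0 0 - 1) / g.val 1 0) * lowerSL (g.val 1 0) *
        upperSL ((g.val 1 1 - 1) / g.val 1 0) := by
  have hdet := det_two_eq g
  apply Subtype.ext
  change g.val = (!![1, (g.val 0 0 - 1) / g.val 1 0; 0, 1] : Matrix (Fin 2) (Fin 2) K) *
        !![1, 0; g.val 1 0, 1] * !![1, (g.val 1 1 - 1) / g.val 1 0; 0, 1]
  ext i j
  fin_cases i <;> fin_cases j <;> simp [Matrix.mul_apply, Fin.sum_univ_two] <;>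
    (try field_simp) <;>
    (try (first | ring1 | linear_combination hdet | linear_combination (-1 : K) * hdet))

omit [Fintype K] [CharP K 3] in
theorem sl2_decomp_borel (g : Matrix.SpecialLinearGroup (Fin 2) K) (hc : g.val 1 0 = 0) :
    ∃ (d : Kˣ), g = upperSL (g.val 0 1 * (d : K)) * diagSL (d : K) d.ne_zero ∧ (d : K) = g.val 0 0 := by
  have hdet := det_two_eq g
  rw [hc, mul_zero, sub_zero] at hdet
  have ha : g.val 0 0 ≠ 0 := left_ne_zero_of_mul_eq_one hdet
  refine ⟨Units.mk0 _ ha, ?_, rfl⟩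
  have h11 : g.val 1 1 = (g.val 0 0)⁻¹ := eq_inv_of_mul_eq_one_right hdet
  apply Subtype.ext
  change g.val = (!![1, g.val 0 1 * g.val 0 0; 0, 1] : Matrix (Fin 2) (Fin 2) K) *
    !![g.val 0 0, 0; 0, (g.val 0 0)⁻¹]
  ext i j
  fin_cases i <;> fin_cases j <;> simp [Matrix.mul_apply, Fin.sum_univ_two, hc, h11, ha]

/-- An element of `SL₂` whose image lies in `B` is upper triangular. -/
theorem rPhi_mem_borel {x : Matrix.SpecialLinearGroup (Fin 2) K}
    (h : (rPhi K m x : GL chevG2.Idx K) ∈ chevG2.borelSubgroup K) : x.val 1 0 = 0 := by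
  by_contra hc
  have e := sl2_decomp_big x hc
  have e2 : rPhi K m x = ruS m 0 ((x.val 0 0 - 1) / x.val 1 0) 0 * rvS m 0 (-(x.val 1 0)) 0 *
      ruS m 0 ((x.val 1 1 - 1) / x.val 1 0) 0 := by
    conv_lhs => rw [e]
    rw [map_mul, map_mul, rPhi_upper, rPhi_lower, rPhi_upper]
  have hU : ∀ c : K, (ruS m 0 c 0 : GL chevG2.Idx K) ∈ chevG2.borelSubgroup K := fun c =>
    Subgroup.mem_sup_left (uA_mem_pos _ _ _ _ _ _)
  have h3 : (rvS m 0 (-(x.val 1 0)) 0 : GL chevG2.Idx K) ∈ chevG2.borelSubgroup K := by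
    have e3 : rvS m 0 (-(x.val 1 0)) 0 = (ruS m 0 ((x.val 0 0 - 1) / x.val 1 0) 0)⁻¹ * rPhi K m x *
        (ruS m 0 ((x.val 1 1 - 1) / x.val 1 0) 0)⁻¹ := by
      rw [e2]
      group
    rw [e3]
    simp only [Subgroup.coe_mul, Subgroup.coe_inv]
    exact mul_mem (mul_mem (inv_mem (hU _)) h) (inv_mem (hU _))
  exact hc (neg_eq_zero.mp (rvS_not_mem_borel h3).2.1)

include hK in
/-- If `θ'(d) d = ±1` then `d² = 1`. -/
theorem sq_eq_one_of_thetaMul {d : K} (hd : d ≠ 0) (h : (reeTh K (m + 1) d * d) ^ 2 = 1) : d ^ 2 = 1 := by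
  have hm := pow_card_three hK
  -- `(θ'(d) d)^(3^(m+1) - 1) = d²`
  have h1 : (reeTh K (m + 1) d * d) ^ (3 ^ (m + 1) - 1) = d ^ 2 := by
    have hθ : reeTh K (m + 1) d ≠ 0 := (_root_.map_ne_zero _).mpr hd
    have h2 : (reeTh K (m + 1) d * d) ^ (3 ^ (m + 1) - 1) * (reeTh K (m + 1) d * d) =
        d ^ 2 * (reeTh K (m + 1) d * d) := by
      rw [← pow_succ, Nat.sub_add_cancel (Nat.one_le_pow _ _ (by norm_num)), ← reeTh_apply, map_mul,
        reeTh_succ_twice hm]
      ring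
    exact mul_right_cancel₀ (mul_ne_zero hθ hd) h2
  have hev : Even (3 ^ (m + 1) - 1) := by
    have : Odd (3 ^ (m + 1)) := Odd.pow (by decide)
    exact Nat.Odd.sub_odd this (by decide)
  obtain ⟨k, hk⟩ := hev
  rw [← h1, hk, ← two_mul, pow_mul, h, one_pow]


/-- The image of an upper triangular element of `SL₂`. -/
theorem rPhi_borel_form (x : Matrix.SpecialLinearGroup (Fin 2) K) (hc : x.val 1 0 = 0) :
    ∃ d : Kˣ, rPhi K m x = ruS m 0 (x.val 0 1 * (d : K)) 0 *
      ghS hK (Units.map (reeTh K (m + 1) : K →* K) d * d) ∧ (d : K) = x.val 0 0 := by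
  obtain ⟨d, e, hd⟩ := sl2_decomp_borel x hc
  refine ⟨d, ?_, hd⟩
  conv_lhs => rw [e]
  rw [map_mul, rPhi_upper, rPhi_diag hK]

/-- A product `u h` of elements of `U¹` and `H¹` determines its factors. -/
theorem ruS_mul_ghS_injective {t u v t' u' v' : K} {s s' : Kˣ}
    (h : ruS m t u v * ghS hK s = ruS m t' u' v' * ghS hK s') :
    ruS m t u v = ruS m t' u' v' ∧ s = s' := by
  have hm := pow_card_three hK
  have h1 : (ruS m t' u' v')⁻¹ * ruS m t u v = ghS hK (s' * s⁻¹) := by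
    rw [← ghS_mul, ← ghS_inv]
    have : (ruS m t' u' v')⁻¹ * ruS m t u v = (ruS m t' u' v')⁻¹ * (ruS m t u v * ghS hK s) * (ghS hK s)⁻¹ := by
      group
    rw [this, h]
    group
  have hpos : (((ruS m t' u' v')⁻¹ * ruS m t u v : ↥(twistedG2 K (3 ^ m))) : GL chevG2.Idx K) ∈
      chevG2.posUnipotent K := by
    simp only [Subgroup.coe_mul, Subgroup.coe_inv]
    exact mul_mem (inv_mem (uA_mem_pos _ _ _ _ _ _)) (uA_mem_pos _ _ _ _ _ _)
  obtain ⟨a, b, c, e⟩ := (mem_pos_iff hK _).mp hpos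
  rw [e] at h1
  have h2 := ruS_eq_ghS hK h1
  rw [← e] at h2
  have h3 : ruS m t u v = ruS m t' u' v' := (inv_mul_eq_one.mp h2).symm
  refine ⟨h3, ?_⟩
  rw [h3] at h
  exact ghS_injective hK (mul_left_cancel h)

omit [Fintype K] [CharP K 3] in
theorem diagSL_one : diagSL (1 : K) one_ne_zero = 1 := by
  apply Subtype.ext
  change (!![1, 0; 0, (1 : K)⁻¹] : Matrix (Fin 2) (Fin 2) K) = 1
  ext i j
  fin_cases i <;> fin_cases j <;> simp

omit [Fintype K] [CharP K 3] in
theorem diagSL_neg_one (h : (-1 : K) ≠ 0) : diagSL (-1 : K) h = -1 := by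
  apply Subtype.ext
  change (!![-1, 0; 0, (-1 : K)⁻¹] : Matrix (Fin 2) (Fin 2) K) = -1
  ext i j
  fin_cases i <;> fin_cases j <;> simp [inv_neg]

omit [Fintype K] [CharP K 3] in
theorem upperSL_zero : upperSL (0 : K) = 1 := by
  apply Subtype.ext
  change (!![1, 0; 0, 1] : Matrix (Fin 2) (Fin 2) K) = 1
  ext i j
  fin_cases i <;> fin_cases j <;> simp

include hK in
/-- The kernel of the homomorphism of `SL₂`. -/
theorem rPhi_eq_one_iff (x : Matrix.SpecialLinearGroup (Fin 2) K) : rPhi K m x = 1 ↔ x = 1 ∨ x = -1 := by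
  have hm := pow_card_three hK
  constructor
  · intro h
    have hc : x.val 1 0 = 0 := by
      apply rPhi_mem_borel (m := m)
      rw [h]
      exact one_mem _
    obtain ⟨d, e, hd⟩ := rPhi_borel_form hK x hc
    obtain ⟨d', e', hd'⟩ := sl2_decomp_borel x hc
    rw [h, ← ruS_zero (K := K) (m := m)] at e
    have e2 : ruS m (0 : K) 0 0 * ghS hK 1 = ruS m 0 (x.val 0 1 * (d : K)) 0 *
        ghS hK (Units.map (reeTh K (m + 1) : K →* K) d * d) := by
      rw [ghS_one, mul_one]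
      exact e
    obtain ⟨e3, e4⟩ := ruS_mul_ghS_injective hK e2
    have e5 : x.val 0 1 * (d : K) = 0 := (ruS_injective e3).2.1.symm
    have e6 : reeTh K (m + 1) (d : K) * (d : K) = 1 := by
      have := congrArg Units.val e4
      rw [Units.val_one, Units.val_mul] at this
      exact this.symm
    have e7 : (d : K) ^ 2 = 1 := sq_eq_one_of_thetaMul hK d.ne_zero (by rw [e6, one_pow])
    have e8 : x.val 0 1 = 0 := by
      rcases mul_eq_zero.mp e5 with h | h
      · exact h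
      · exact absurd h d.ne_zero
    have e9 : (d' : K) = (d : K) := by rw [hd', hd]
    rw [e8, zero_mul, upperSL_zero, one_mul] at e'
    rcases sq_eq_one_iff.mp e7 with h | h
    · left
      have hd1 : d' = 1 := Units.ext (by rw [e9, h, Units.val_one])
      rw [e', hd1]
      exact diagSL_one
    · right
      have hd1 : d' = -1 := Units.ext (by rw [e9, h]; simp)
      rw [e', hd1]
      exact diagSL_neg_one _
  · rintro (rfl | rfl)
    · exact map_one _
    · have h1 : (-1 : K) ≠ 0 := neg_ne_zero.mpr one_ne_zero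
      have := rPhi_diag (m := m) hK (-1 : Kˣ)
      have e1 : diagSL (((-1 : Kˣ)) : K) (-1 : Kˣ).ne_zero = -1 := by
        have : (((-1 : Kˣ)) : K) = -1 := by simp
        rw [← diagSL_neg_one h1]
        congr 1
      rw [e1] at this
      rw [this, ← ghS_one hK]
      congr 1
      apply Units.ext
      simp

end inv

end Cfsg.Agent.Helper7.ReeAut
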