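import Mathlib
import Cfsg.Agent.Helper7.ReeInvA

set_option autoImplicit false
set_option linter.unusedSectionVars false
set_option linter.unusedVariables false

/-!
The centraliser of an involution of the Ree group `²G₂(q)`: the centraliser is `⟨a⟩ × L`.
-/

namespace Cfsg.Agent.Helper7.ReeAut

open Cfsg Cfsg.Lie Matrix Cfsg.Agent.Helper7.Chev

variable {K : Type*} [Field K] [Fintype K] [CharP K 3] {m : ℕ}

section inv

variable (hK : Fintype.card K = 3 ^ (2 * m + 1))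

/-- An involution of the torus is the involution `aS`. -/
theorem eq_aS_of_involution {a : ↥(twistedG2 K (3 ^ m))}
    (haH : (a : GL chevG2.Idx K) ∈ chevG2.diagonalSubgroup K) (ha1 : a ≠ 1) (ha2 : a * a = 1) :
    a = aS hK := by
  obtain ⟨s, rfl⟩ := (mem_diag_iff hK a).mp haH
  rw [ghS_mul, ← ghS_one hK] at ha2
  have h1 : s * s = 1 := ghS_injective hK ha2
  have h2 : (s : K) * s = 1 := by
    have := congrArg Units.val h1
    rwa [Units.val_mul, Units.val_one] at this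
  rcases mul_self_eq_one_iff.mp h2 with h | h
  · exfalso
    apply ha1
    rw [← ghS_one hK]
    congr 1
    exact Units.ext h
  · unfold aS
    congr 1
    apply Units.ext
    rw [h]
    simp

/-- The involution of the torus is not in the image of `SL₂`. -/
theorem rPhi_ne_aS (x : Matrix.SpecialLinearGroup (Fin 2) K) : rPhi K m x ≠ aS hK := by
  have hm := pow_card_three hK
  intro h
  have hc : x.val 1 0 = 0 := by
    apply rPhi_mem_borel (m := m)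
    rw [h]
    exact Subgroup.mem_sup_right (gh_mem_diagonal _)
  obtain ⟨d, e, hd⟩ := rPhi_borel_form hK x hc
  rw [h] at e
  have e2 : ruS m (0 : K) 0 0 * ghS hK (-1) = ruS m 0 (x.val 0 1 * (d : K)) 0 *
      ghS hK (Units.map (reeTh K (m + 1) : K →* K) d * d) := by
    rw [ruS_zero, one_mul]
    exact e
  obtain ⟨_, e4⟩ := ruS_mul_ghS_injective hK e2
  have e6 : reeTh K (m + 1) (d : K) * (d : K) = -1 := by
    have := congrArg Units.val e4
    rw [Units.val_mul, Units.val_neg, Units.val_one] at this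
    exact this.symm
  have e7 : (d : K) ^ 2 = 1 := sq_eq_one_of_thetaMul hK d.ne_zero (by rw [e6]; ring)
  have h2 := two_ne_zero' K
  rcases sq_eq_one_iff.mp e7 with h | h
  · rw [h, map_one, one_mul] at e6
    apply h2
    linear_combination e6
  · rw [h, map_neg, map_one, neg_mul_neg, one_mul] at e6
    apply h2
    linear_combination e6

/-- The uniqueness of the expression `u h n₀ u'`, in the group. -/
theorem cell_unique_S {n₀ : ↥(twistedG2 K (3 ^ m))}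
    (hn₀ : (n₀ : GL chevG2.Idx K) ∈ chevG2.monomialSubgroup K)
    (hn₀H : (n₀ : GL chevG2.Idx K) ∉ chevG2.diagonalSubgroup K)
    {t u v t' u' v' t₁ u₁ v₁ t₁' u₁' v₁' : K} {s s₁ : Kˣ}
    (e : ruS m t u v * ghS hK s * n₀ * ruS m t' u' v' =
      ruS m t₁ u₁ v₁ * ghS hK s₁ * n₀ * ruS m t₁' u₁' v₁') :
    ruS m t u v = ruS m t₁ u₁ v₁ ∧ s = s₁ ∧ ruS m t' u' v' = ruS m t₁' u₁' v₁' := by
  have hm := pow_card_three hK
  have hU : ∀ a b c : K, ru m a b c ∈ rU K m := fun a b c =>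
    mem_rU.mpr ⟨uA_mem_pos _ _ _ _ _ _, ru_mem_twisted a b c⟩
  have hH : ∀ s : Kˣ, gh K m s ∈ rH K m := fun s =>
    mem_rH.mpr ⟨gh_mem_diagonal s, gh_mem_twisted hK s⟩
  have e' : ru m t u v * gh K m s * (n₀ : GL chevG2.Idx K) * ru m t' u' v' =
      ru m t₁ u₁ v₁ * gh K m s₁ * (n₀ : GL chevG2.Idx K) * ru m t₁' u₁' v₁' := congrArg Subtype.val e
  obtain ⟨h1, h2, h3⟩ := ree_cell_unique hm (mem_rN.mpr ⟨hn₀, n₀.2⟩) hn₀H (hU _ _ _) (hH _) (hU _ _ _)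
    (hU _ _ _) (hH _) (hU _ _ _) e'
  exact ⟨Subtype.ext h1, gh_injective h2, Subtype.ext h3⟩

/-- The group is the union of `B¹` and `B¹ n₀ U¹`. -/
theorem cover_S {n₀ : ↥(twistedG2 K (3 ^ m))}
    (hn₀ : (n₀ : GL chevG2.Idx K) ∈ chevG2.monomialSubgroup K)
    (hn₀H : (n₀ : GL chevG2.Idx K) ∉ chevG2.diagonalSubgroup K) (g : ↥(twistedG2 K (3 ^ m))) :
    (∃ (t u v : K) (s : Kˣ), g = ruS m t u v * ghS hK s) ∨
      ∃ (t u v : K) (s : Kˣ) (t' u' v' : K), g = ruS m t u v * ghS hK s * n₀ * ruS m t' u' v' := by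
  have hm := pow_card_three hK
  rcases twistedG2_subset_reeX hm (mem_rN.mpr ⟨hn₀, n₀.2⟩) hn₀H g.2 with
    ⟨u, hu, h, hh, e⟩ | ⟨u, hu, h, hh, u', hu', e⟩
  · left
    obtain ⟨t, a, b, rfl⟩ := (mem_pos_inf_twistedG2 hm).mp hu
    obtain ⟨s, rfl⟩ := (mem_rH_iff hK).mp hh
    exact ⟨t, a, b, s, Subtype.ext e⟩
  · right
    obtain ⟨t, a, b, rfl⟩ := (mem_pos_inf_twistedG2 hm).mp hu
    obtain ⟨s, rfl⟩ := (mem_rH_iff hK).mp hh
    obtain ⟨t', a', b', rfl⟩ := (mem_pos_inf_twistedG2 hm).mp hu'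
    exact ⟨t, a, b, s, t', a', b', Subtype.ext e⟩

include hK in
/-- An element of `N¹` outside `H¹` in the image of `SL₂`. -/
theorem exists_n0 : ∃ x₀ : Matrix.SpecialLinearGroup (Fin 2) K,
    ((rPhi K m x₀ : ↥(twistedG2 K (3 ^ m))) : GL chevG2.Idx K) ∈ chevG2.monomialSubgroup K ∧
    ((rPhi K m x₀ : ↥(twistedG2 K (3 ^ m))) : GL chevG2.Idx K) ∉ chevG2.diagonalSubgroup K := by
  have hm := pow_card_three hK
  have hv : rv m (0 : K) 1 0 ∈ chevG2.negUnipotent K :=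
    nuGL_pos good3_G2.toGood2 T0_G2 T25_G2 (uA_mem_pos _ _ _ _ _ _)
  have hv1 : rv m (0 : K) 1 0 ≠ 1 := by
    intro h
    unfold rv at h
    have h2 : ru m (0 : K) 1 0 = 1 := by
      have := congrArg (nuGL good3_G2.toGood1) h
      rw [nuGL_nuGL, map_one] at this
      exact this
    rw [← ru_zero (m := m)] at h2
    have := (ru_injective h2).2.1
    exact one_ne_zero this
  obtain ⟨u₁, hu₁, n, hn, u₂, hu₂, hnH, e⟩ := ree_bruhat_neg hm hv (rv_mem_twisted 0 1 0) hv1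
  obtain ⟨t₁, a₁, b₁, rfl⟩ := (mem_pos_inf_twistedG2 hm).mp hu₁
  obtain ⟨t₂, a₂, b₂, rfl⟩ := (mem_pos_inf_twistedG2 hm).mp hu₂
  set nS : ↥(twistedG2 K (3 ^ m)) := ⟨n, (mem_rN.mp hn).2⟩ with hnS
  have hnS1 : (nS : GL chevG2.Idx K) ∈ chevG2.monomialSubgroup K := (mem_rN.mp hn).1
  have eS : rvS m (0 : K) 1 0 = ruS m t₁ a₁ b₁ * nS * ruS m t₂ a₂ b₂ := Subtype.ext e
  -- conjugate by the involution
  have hconj : aS hK * nS * (aS hK)⁻¹ * nS⁻¹ ∈ (rH K m).subgroupOf (twistedG2 K (3 ^ m)) := by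
    rw [Subgroup.mem_subgroupOf]
    have h1 : gh K m (-1) ∈ rH K m := mem_rH.mpr ⟨gh_mem_diagonal _, gh_mem_twisted hK _⟩
    have h2 := rN_conj_rH hn (inv_mem h1)
    have : ((aS hK * nS * (aS hK)⁻¹ * nS⁻¹ : ↥(twistedG2 K (3 ^ m))) : GL chevG2.Idx K) =
        gh K m (-1) * (n * (gh K m (-1))⁻¹ * n⁻¹) := by
      simp only [Subgroup.coe_mul, Subgroup.coe_inv]
      change gh K m (-1) * n * (gh K m (-1))⁻¹ * n⁻¹ = _
      group
    rw [this]
    exact mul_mem h1 h2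
  obtain ⟨s₁, hs₁⟩ := (mem_rH_iff hK).mp (Subgroup.mem_subgroupOf.mp hconj)
  have hs₁' : aS hK * nS * (aS hK)⁻¹ = ghS hK s₁ * nS := by
    have : aS hK * nS * (aS hK)⁻¹ * nS⁻¹ = ghS hK s₁ := Subtype.ext hs₁
    rw [← this]
    group
  have e2 : ruS m (-t₁) a₁ (-b₁) * ghS hK s₁ * nS * ruS m (-t₂) a₂ (-b₂) =
      ruS m t₁ a₁ b₁ * ghS hK 1 * nS * ruS m t₂ a₂ b₂ := by
    rw [ghS_one, mul_one, ← eS, ← aS_conj_rvS hK 1, eS, ← aS_conj_ruS hK t₁ a₁ b₁,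
      ← aS_conj_ruS hK t₂ a₂ b₂]
    have : aS hK * (ruS m t₁ a₁ b₁ * nS * ruS m t₂ a₂ b₂) * (aS hK)⁻¹ =
        aS hK * ruS m t₁ a₁ b₁ * (aS hK)⁻¹ * (aS hK * nS * (aS hK)⁻¹) *
          (aS hK * ruS m t₂ a₂ b₂ * (aS hK)⁻¹) := by group
    rw [this, hs₁']
    group
  obtain ⟨h1, _, h3⟩ := cell_unique_S hK hnS1 hnH e2
  rw [← aS_conj_ruS hK, aS_comm_ruS_iff] at h1 h3
  obtain ⟨rfl, rfl⟩ := h1
  obtain ⟨rfl, rfl⟩ := h3
  have e3 : nS = rPhi K m ((upperSL a₁)⁻¹ * lowerSL (-1) * (upperSL a₂)⁻¹) := by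
    rw [map_mul, map_mul, map_inv, map_inv, rPhi_upper, rPhi_upper, rPhi_lower, neg_neg, eS]
    group
  refine ⟨(upperSL a₁)⁻¹ * lowerSL (-1) * (upperSL a₂)⁻¹, ?_, ?_⟩
  · rw [← e3]
    exact hnS1
  · rw [← e3]
    exact hnH

/-- An element of the torus is in `⟨a⟩ L`. -/
theorem ghS_mem_prod (s : Kˣ) : ∃ x : Matrix.SpecialLinearGroup (Fin 2) K,
    ghS hK s = rPhi K m x ∨ ghS hK s = aS hK * rPhi K m x := by
  have hm := pow_card_three hK
  obtain ⟨y, h⟩ := ree_sq_or_neg_sq hK s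
  set d : Kˣ := Units.map (reeTh K (m + 1) : K →* K) y * y⁻¹ with hd
  have hd2 : Units.map (reeTh K (m + 1) : K →* K) d * d = y ^ 2 := by
    apply Units.ext
    have hy : (y : K) ≠ 0 := y.ne_zero
    have h1 : ((Units.map (reeTh K (m + 1) : K →* K) d : Kˣ) : K) = reeTh K (m + 1) (d : K) := rfl
    have h2 : (d : K) = reeTh K (m + 1) (y : K) * (y : K)⁻¹ := by
      rw [hd, Units.val_mul, Units.val_inv_eq_inv_val]
      rfl
    rw [Units.val_mul, h1, h2, map_mul, reeTh_succ_twice hm, map_inv₀, Units.val_pow_eq_pow_val]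
    have hθ : reeTh K (m + 1) (y : K) ≠ 0 := (_root_.map_ne_zero _).mpr hy
    field_simp
  have e := rPhi_diag (m := m) hK d
  rw [hd2] at e
  refine ⟨diagSL (d : K) d.ne_zero, ?_⟩
  rcases h with h | h
  · left
    rw [e, h]
  · right
    rw [e, h]
    unfold aS
    rw [ghS_mul]

/-- The centraliser of the involution is `⟨a⟩ L`. -/
theorem centralizer_aS (g : ↥(twistedG2 K (3 ^ m))) (hg : aS hK * g * (aS hK)⁻¹ = g) :
    ∃ x : Matrix.SpecialLinearGroup (Fin 2) K, g = rPhi K m x ∨ g = aS hK * rPhi K m x := by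
  have hm := pow_card_three hK
  obtain ⟨x₀, hx₀, hx₀H⟩ := exists_n0 (m := m) hK
  have hcomm : ∀ s : Kˣ, aS hK * ghS hK s * (aS hK)⁻¹ = ghS hK s := by
    intro s
    unfold aS
    rw [ghS_inv, ghS_mul, ghS_mul]
    congr 1
    rw [mul_comm, ← mul_assoc, inv_mul_cancel, one_mul]
  have hcommx : ∀ x : Matrix.SpecialLinearGroup (Fin 2) K,
      aS hK * rPhi K m x * (aS hK)⁻¹ = rPhi K m x := by
    intro x
    rw [aS_comm_rPhi, mul_assoc, mul_inv_cancel, mul_one]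
  rcases cover_S hK hx₀ hx₀H g with ⟨t, u, v, s, rfl⟩ | ⟨t, u, v, s, t', u', v', rfl⟩
  · have e1 : aS hK * (ruS m t u v * ghS hK s) * (aS hK)⁻¹ =
        (aS hK * ruS m t u v * (aS hK)⁻¹) * (aS hK * ghS hK s * (aS hK)⁻¹) := by group
    rw [e1, hcomm, aS_conj_ruS] at hg
    obtain ⟨h1, _⟩ := ruS_mul_ghS_injective hK hg
    rw [← aS_conj_ruS hK, aS_comm_ruS_iff] at h1
    obtain ⟨rfl, rfl⟩ := h1
    obtain ⟨x, h | h⟩ := ghS_mem_prod (m := m) hK s
    · exact ⟨upperSL u * x, Or.inl (by rw [map_mul, rPhi_upper, h])⟩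
    · refine ⟨upperSL u * x, Or.inr ?_⟩
      rw [map_mul, rPhi_upper, h, ← mul_assoc, ← mul_assoc, ← rPhi_upper, aS_comm_rPhi]
  · have e1 : aS hK * (ruS m t u v * ghS hK s * rPhi K m x₀ * ruS m t' u' v') * (aS hK)⁻¹ =
        (aS hK * ruS m t u v * (aS hK)⁻¹) * (aS hK * ghS hK s * (aS hK)⁻¹) *
          (aS hK * rPhi K m x₀ * (aS hK)⁻¹) * (aS hK * ruS m t' u' v' * (aS hK)⁻¹) := by group
    rw [e1, hcomm, hcommx, aS_conj_ruS, aS_conj_ruS] at hg
    obtain ⟨h1, _, h3⟩ := cell_unique_S hK hx₀ hx₀H hg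
    rw [← aS_conj_ruS hK, aS_comm_ruS_iff] at h1 h3
    obtain ⟨rfl, rfl⟩ := h1
    obtain ⟨rfl, rfl⟩ := h3
    obtain ⟨x, h | h⟩ := ghS_mem_prod (m := m) hK s
    · exact ⟨upperSL u * x * x₀ * upperSL u', Or.inl (by
        rw [map_mul, map_mul, map_mul, rPhi_upper, rPhi_upper, h])⟩
    · refine ⟨upperSL u * x * x₀ * upperSL u', Or.inr ?_⟩
      rw [map_mul, map_mul, map_mul, rPhi_upper, rPhi_upper, h]
      simp only [← mul_assoc]
      rw [← rPhi_upper, aS_comm_rPhi]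

end inv

end Cfsg.Agent.Helper7.ReeAut
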