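import Mathlib
import Cfsg.Agent.Helper7.ReeInvB

set_option autoImplicit false
set_option linter.unusedSectionVars false
set_option linter.unusedVariables false

/-!
The centraliser of an involution of the Ree group `²G₂(q)`: the isomorphism with `Z₂ × PSL₂(q)`.
-/

namespace Cfsg.Agent.Helper7.ReeAut

open Cfsg Cfsg.Lie Matrix Cfsg.Agent.Helper7.Chev

/-- The homomorphism of `Z₂` given by an involution. -/
noncomputable def invHom {G : Type*} [Group G] (b : G) (hb : b * b = 1) : Multiplicative (ZMod 2) →* G :=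
  MonoidHom.mk' (fun z => b ^ (Multiplicative.toAdd z).val) (by
    intro x y
    have hx : ∀ z : ZMod 2, z = 0 ∨ z = 1 := by decide
    obtain ⟨x, rfl⟩ := Multiplicative.ofAdd.surjective x
    obtain ⟨y, rfl⟩ := Multiplicative.ofAdd.surjective y
    have h11 : (1 : ZMod 2) + 1 = 0 := by decide
    rcases hx x with rfl | rfl <;> rcases hx y with rfl | rfl <;>
      simp [← ofAdd_add, ZMod.val_one, hb, h11])

theorem invHom_gen {G : Type*} [Group G] (b : G) (hb : b * b = 1) :
    invHom b hb (Multiplicative.ofAdd 1) = b := by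
  change b ^ (1 : ZMod 2).val = b
  rw [ZMod.val_one, pow_one]

theorem invHom_cases {G : Type*} [Group G] (b : G) (hb : b * b = 1) (z : Multiplicative (ZMod 2)) :
    (z = 1 ∧ invHom b hb z = 1) ∨ (z = Multiplicative.ofAdd 1 ∧ invHom b hb z = b) := by
  have hx : ∀ z : ZMod 2, z = 0 ∨ z = 1 := by decide
  obtain ⟨x, rfl⟩ := Multiplicative.ofAdd.surjective z
  rcases hx x with rfl | rfl
  · left; exact ⟨rfl, map_one _⟩
  · right; exact ⟨rfl, invHom_gen b hb⟩

theorem ofAdd_one_ne_one : (Multiplicative.ofAdd (1 : ZMod 2)) ≠ 1 := by decide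

variable {K : Type*} [Field K] [Fintype K] [CharP K 3] {m : ℕ}

omit [Fintype K] [CharP K 3] in
/-- The centre of `SL₂`. -/
theorem mem_center_sl2_iff (x : Matrix.SpecialLinearGroup (Fin 2) K) :
    x ∈ Subgroup.center (Matrix.SpecialLinearGroup (Fin 2) K) ↔ x = 1 ∨ x = -1 := by
  rw [Matrix.SpecialLinearGroup.mem_center_iff]
  constructor
  · rintro ⟨r, hr, e⟩
    rw [Fintype.card_fin] at hr
    rcases sq_eq_one_iff.mp hr with h | h
    · left
      apply Subtype.ext
      rw [← e, h]
      simp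
    · right
      apply Subtype.ext
      rw [← e, h]
      ext i j
      fin_cases i <;> fin_cases j <;> simp
  · rintro (rfl | rfl)
    · exact ⟨1, one_pow _, by simp⟩
    · refine ⟨-1, by rw [Fintype.card_fin]; ring, ?_⟩
      ext i j
      fin_cases i <;> fin_cases j <;> simp

section inv

variable (hK : Fintype.card K = 3 ^ (2 * m + 1))

/-- The centraliser of the involution is isomorphic to `Z₂ × PSL₂(q)`. -/
theorem centralizer_iso : Nonempty (↥(Subgroup.centralizer {aS hK}) ≃*
    Multiplicative (ZMod 2) × Matrix.ProjectiveSpecialLinearGroup (Fin 2) K) := by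
  have hm := pow_card_three hK
  set f := invHom (aS hK) (aS_mul_aS hK) with hf
  have comm : ∀ z x, Commute (f z) (rPhi K m x) := by
    intro z x
    rcases invHom_cases (aS hK) (aS_mul_aS hK) z with ⟨_, h⟩ | ⟨_, h⟩
    · rw [hf, h]
      exact Commute.one_left _
    · rw [hf, h]
      exact aS_comm_rPhi hK x
  set Ψ₀ := f.noncommCoprod (rPhi K m) comm with hΨ₀
  have hΨ₀a : ∀ p, Ψ₀ p = f p.1 * rPhi K m p.2 := fun p => MonoidHom.noncommCoprod_apply _ _ _ _
  have hmem : ∀ p, Ψ₀ p ∈ Subgroup.centralizer {aS hK} := by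
    intro p
    rw [Subgroup.mem_centralizer_singleton_iff, hΨ₀a]
    rcases invHom_cases (aS hK) (aS_mul_aS hK) p.1 with ⟨_, h⟩ | ⟨_, h⟩
    · rw [hf, h, one_mul]
      exact (aS_comm_rPhi hK p.2).symm
    · rw [hf, h, mul_assoc, ← aS_comm_rPhi hK p.2]
  set Ψ := Ψ₀.codRestrict _ hmem with hΨ
  have hΨs : Function.Surjective Ψ := by
    rintro ⟨g, hg⟩
    rw [Subgroup.mem_centralizer_singleton_iff] at hg
    have hg' : aS hK * g * (aS hK)⁻¹ = g := by rw [← hg, mul_assoc, mul_inv_cancel, mul_one]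
    obtain ⟨x, h | h⟩ := centralizer_aS hK g hg'
    · refine ⟨(1, x), Subtype.ext ?_⟩
      change Ψ₀ (1, x) = g
      rw [hΨ₀a, map_one, one_mul, h]
    · refine ⟨(Multiplicative.ofAdd 1, x), Subtype.ext ?_⟩
      change Ψ₀ (Multiplicative.ofAdd 1, x) = g
      rw [hΨ₀a, hf, invHom_gen, h]
  set Φ : Multiplicative (ZMod 2) × Matrix.SpecialLinearGroup (Fin 2) K →*
      Multiplicative (ZMod 2) × Matrix.ProjectiveSpecialLinearGroup (Fin 2) K :=
    MonoidHom.prodMap (MonoidHom.id _)
      (QuotientGroup.mk' (Subgroup.center (Matrix.SpecialLinearGroup (Fin 2) K))) with hΦ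
  have hΦs : Function.Surjective Φ := by
    rintro ⟨z, y⟩
    obtain ⟨x, rfl⟩ := QuotientGroup.mk'_surjective _ y
    exact ⟨(z, x), rfl⟩
  have hker : Ψ.ker = Φ.ker := by
    ext ⟨z, x⟩
    rw [MonoidHom.mem_ker, MonoidHom.mem_ker]
    have h1 : Ψ (z, x) = 1 ↔ f z * rPhi K m x = 1 := by
      rw [← hΨ₀a (z, x)]
      constructor
      · intro h
        exact congrArg Subtype.val h
      · intro h
        exact Subtype.ext h
    have h2 : Φ (z, x) = 1 ↔ z = 1 ∧ x ∈ Subgroup.center (Matrix.SpecialLinearGroup (Fin 2) K) := by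
      change (z, (QuotientGroup.mk' _ x)) = 1 ↔ _
      rw [Prod.mk_eq_one, QuotientGroup.mk'_apply, QuotientGroup.eq_one_iff]
    rw [h1, h2, mem_center_sl2_iff, ← rPhi_eq_one_iff (m := m) hK]
    rcases invHom_cases (aS hK) (aS_mul_aS hK) z with ⟨hz, h⟩ | ⟨hz, h⟩
    · rw [hf, h, one_mul, hz]
      simp
    · rw [hf, h, hz]
      constructor
      · intro h3
        exfalso
        apply rPhi_ne_aS hK x
        rw [← aS_inv hK]
        exact eq_inv_of_mul_eq_one_right h3
      · rintro ⟨h3, _⟩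
        exact absurd h3 ofAdd_one_ne_one
  exact ⟨(QuotientGroup.quotientKerEquivOfSurjective Ψ hΨs).symm.trans
    ((QuotientGroup.quotientMulEquivOfEq hker).trans
      (QuotientGroup.quotientKerEquivOfSurjective Φ hΦs))⟩

end inv

end Cfsg.Agent.Helper7.ReeAut
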