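import Mathlib

set_option autoImplicit false
set_option linter.unusedSectionVars false
set_option linter.unusedVariables false

/-!
Three commuting involutions of a group: the homomorphism of `(Z₂)³`.
-/

namespace Cfsg.Agent.Helper7.Tri

variable {G : Type*} [Group G]

theorem zmod2_cases (z : ZMod 2) : z = 0 ∨ z = 1 := by
  revert z
  decide

theorem pow_val_add {a : G} (ha : a * a = 1) (i j : ZMod 2) :
    a ^ (i + j).val = a ^ i.val * a ^ j.val := by
  have h11 : (1 : ZMod 2) + 1 = 0 := by decide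
  rcases zmod2_cases i with rfl | rfl <;> rcases zmod2_cases j with rfl | rfl <;>
    simp [ZMod.val_one, ha, h11]

section tri

variable {a b c : G} (ha : a * a = 1) (hb : b * b = 1) (hc : c * c = 1)
  (hab : Commute a b) (hac : Commute a c) (hbc : Commute b c)

/-- The elements `a^i b^j c^k`. -/
def tri (a b c : G) (v : ZMod 2 × ZMod 2 × ZMod 2) : G := a ^ v.1.val * b ^ v.2.1.val * c ^ v.2.2.val

include ha hb hc hab hac hbc in
theorem tri_add (v w : ZMod 2 × ZMod 2 × ZMod 2) : tri a b c (v + w) = tri a b c v * tri a b c w := by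
  unfold tri
  rw [Prod.fst_add, Prod.snd_add, Prod.fst_add, Prod.snd_add, pow_val_add ha, pow_val_add hb,
    pow_val_add hc]
  have h1 : Commute (b ^ v.2.1.val) (a ^ w.1.val) := (hab.pow_pow _ _).symm
  have h2 : Commute (c ^ v.2.2.val) (a ^ w.1.val) := (hac.pow_pow _ _).symm
  have h3 : Commute (c ^ v.2.2.val) (b ^ w.2.1.val) := (hbc.pow_pow _ _).symm
  calc a ^ v.1.val * a ^ w.1.val * (b ^ v.2.1.val * b ^ w.2.1.val) * (c ^ v.2.2.val * c ^ w.2.2.val)
      = a ^ v.1.val * (a ^ w.1.val * b ^ v.2.1.val) * b ^ w.2.1.val * (c ^ v.2.2.val * c ^ w.2.2.val) := by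
        group
    _ = a ^ v.1.val * (b ^ v.2.1.val * a ^ w.1.val) * b ^ w.2.1.val * (c ^ v.2.2.val * c ^ w.2.2.val) := by
        rw [h1.eq]
    _ = a ^ v.1.val * b ^ v.2.1.val * (a ^ w.1.val * (b ^ w.2.1.val * c ^ v.2.2.val)) * c ^ w.2.2.val := by
        group
    _ = a ^ v.1.val * b ^ v.2.1.val * (a ^ w.1.val * (c ^ v.2.2.val * b ^ w.2.1.val)) * c ^ w.2.2.val := by
        rw [h3.eq]
    _ = a ^ v.1.val * b ^ v.2.1.val * ((a ^ w.1.val * c ^ v.2.2.val) * b ^ w.2.1.val) * c ^ w.2.2.val := by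
        group
    _ = a ^ v.1.val * b ^ v.2.1.val * ((c ^ v.2.2.val * a ^ w.1.val) * b ^ w.2.1.val) * c ^ w.2.2.val := by
        rw [h2.eq]
    _ = _ := by group

/-- The homomorphism of `(Z₂)³`. -/
noncomputable def triHom : Multiplicative (ZMod 2 × ZMod 2 × ZMod 2) →* G :=
  MonoidHom.mk' (fun v => tri a b c (Multiplicative.toAdd v)) (fun v w => by
    rw [toAdd_mul]
    exact tri_add ha hb hc hab hac hbc _ _)

theorem triHom_apply (v : ZMod 2 × ZMod 2 × ZMod 2) :
    triHom ha hb hc hab hac hbc (Multiplicative.ofAdd v) = tri a b c v := rfl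

theorem mem_range_triHom (g : G) :
    g ∈ (triHom ha hb hc hab hac hbc).range ↔ ∃ v, g = tri a b c v := by
  constructor
  · rintro ⟨v, rfl⟩
    exact ⟨Multiplicative.toAdd v, rfl⟩
  · rintro ⟨v, rfl⟩
    exact ⟨Multiplicative.ofAdd v, rfl⟩

include ha hb hc hab hac hbc in
theorem tri_mul_self (v : ZMod 2 × ZMod 2 × ZMod 2) : tri a b c v * tri a b c v = 1 := by
  rw [← tri_add ha hb hc hab hac hbc]
  have : v + v = 0 := by
    revert v
    decide
  rw [this]
  simp [tri]

end tri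

end Cfsg.Agent.Helper7.Tri
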