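import Mathlib
import Cfsg.Agent.Helper7.ReeInvC
import Cfsg.Agent.Helper7.TriInv

set_option autoImplicit false
set_option linter.unusedSectionVars false
set_option linter.unusedVariables false

/-!
The Sylow 2-subgroups of the Ree group `²G₂(q)`.
-/

namespace Cfsg.Agent.Helper7.ReeAut

open Cfsg Cfsg.Lie Matrix Cfsg.Agent.Helper7.Chev Cfsg.Agent.Helper7.Tri

variable {K : Type*} [Field K]

/-- An element of order 4 of `SL₂`. -/
def zSL (x y : K) (hxy : x ^ 2 + y ^ 2 = -1) : Matrix.SpecialLinearGroup (Fin 2) K :=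
  ⟨!![x, y; y, -x], by rw [Matrix.det_fin_two_of]; linear_combination -hxy⟩

theorem antiSL_mul_self : (antiSL : Matrix.SpecialLinearGroup (Fin 2) K) * antiSL = -1 := by
  apply Subtype.ext
  change (!![0, 1; -1, 0] : Matrix (Fin 2) (Fin 2) K) * !![0, 1; -1, 0] = _
  ext i j
  fin_cases i <;> fin_cases j <;> simp [Matrix.mul_apply, Fin.sum_univ_two]

theorem zSL_mul_self {x y : K} (hxy : x ^ 2 + y ^ 2 = -1) : zSL x y hxy * zSL x y hxy = -1 := by
  apply Subtype.ext
  change (!![x, y; y, -x] : Matrix (Fin 2) (Fin 2) K) * !![x, y; y, -x] = _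
  ext i j
  fin_cases i <;> fin_cases j <;> simp [Matrix.mul_apply, Fin.sum_univ_two] <;>
    first | ring1 | linear_combination hxy

theorem zSL_mul_antiSL {x y : K} (hxy : x ^ 2 + y ^ 2 = -1) :
    zSL x y hxy * antiSL = -(antiSL * zSL x y hxy) := by
  apply Subtype.ext
  change (!![x, y; y, -x] : Matrix (Fin 2) (Fin 2) K) * !![0, 1; -1, 0] = _
  rw [Matrix.SpecialLinearGroup.coe_neg]
  change _ = -((!![0, 1; -1, 0] : Matrix (Fin 2) (Fin 2) K) * !![x, y; y, -x])
  ext i j
  fin_cases i <;> fin_cases j <;> simp [Matrix.mul_apply, Fin.sum_univ_two]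

section ree

variable [Fintype K] [CharP K 3] {m : ℕ} (hK : Fintype.card K = 3 ^ (2 * m + 1))

include hK in
theorem rPhi_neg (x : Matrix.SpecialLinearGroup (Fin 2) K) : rPhi K m (-x) = rPhi K m x := by
  have h1 : rPhi K m (-1) = 1 := (rPhi_eq_one_iff hK _).mpr (Or.inr rfl)
  rw [← neg_one_mul, map_mul, h1, one_mul]

include hK in
theorem rPhi_neg_one : rPhi K m (-1) = 1 := (rPhi_eq_one_iff hK _).mpr (Or.inr rfl)

/-- The second involution. -/
noncomputable def bS (K : Type*) [Field K] [Fintype K] [CharP K 3] (m : ℕ) : ↥(twistedG2 K (3 ^ m)) :=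
  rPhi K m antiSL

/-- The third involution. -/
noncomputable def cS (m : ℕ) {x y : K} (hxy : x ^ 2 + y ^ 2 = -1) : ↥(twistedG2 K (3 ^ m)) :=
  rPhi K m (zSL x y hxy)

include hK in
theorem bS_mul_self : bS K m * bS K m = 1 := by
  unfold bS
  rw [← map_mul, antiSL_mul_self, rPhi_neg_one hK]

include hK in
theorem cS_mul_self {x y : K} (hxy : x ^ 2 + y ^ 2 = -1) : cS m hxy * cS m hxy = 1 := by
  unfold cS
  rw [← map_mul, zSL_mul_self, rPhi_neg_one hK]

include hK in
theorem bS_comm_cS {x y : K} (hxy : x ^ 2 + y ^ 2 = -1) : Commute (bS K m) (cS m hxy) := by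
  unfold bS cS
  change rPhi K m antiSL * rPhi K m (zSL x y hxy) = rPhi K m (zSL x y hxy) * rPhi K m antiSL
  rw [← map_mul, ← map_mul, zSL_mul_antiSL, rPhi_neg hK]

theorem aS_comm_bS : Commute (aS hK) (bS K m) := aS_comm_rPhi hK _

theorem aS_comm_cS {x y : K} (hxy : x ^ 2 + y ^ 2 = -1) : Commute (aS hK) (cS m hxy) := aS_comm_rPhi hK _

/-- The elementary abelian subgroup of order `8`. -/
noncomputable def eHom {x y : K} (hxy : x ^ 2 + y ^ 2 = -1) :
    Multiplicative (ZMod 2 × ZMod 2 × ZMod 2) →* ↥(twistedG2 K (3 ^ m)) :=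
  triHom (aS_mul_aS hK) (bS_mul_self hK) (cS_mul_self hK hxy) (aS_comm_bS hK) (aS_comm_cS hK hxy)
    (bS_comm_cS hK hxy)

theorem eHom_apply {x y : K} (hxy : x ^ 2 + y ^ 2 = -1) (v : ZMod 2 × ZMod 2 × ZMod 2) :
    eHom hK hxy (Multiplicative.ofAdd v) =
      aS hK ^ v.1.val * rPhi K m (antiSL ^ v.2.1.val * zSL x y hxy ^ v.2.2.val) := by
  unfold eHom
  rw [triHom_apply]
  unfold tri bS cS
  rw [map_mul, map_pow, map_pow, mul_assoc]

theorem eHom_injective {x y : K} (hxy : x ^ 2 + y ^ 2 = -1) : Function.Injective (eHom hK hxy) := by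
  have h2 := two_ne_zero' K
  rw [injective_iff_map_eq_one]
  intro v hv
  obtain ⟨⟨i, j, k⟩, rfl⟩ := Multiplicative.ofAdd.surjective v
  rw [eHom_apply] at hv
  change aS hK ^ i.val * rPhi K m (antiSL ^ j.val * zSL x y hxy ^ k.val) = 1 at hv
  have hi : i = 0 := by
    rcases zmod2_cases i with rfl | rfl
    · rfl
    · exfalso
      rw [ZMod.val_one, pow_one] at hv
      apply rPhi_ne_aS hK (antiSL ^ j.val * zSL x y hxy ^ k.val)
      rw [← aS_inv hK]
      exact eq_inv_of_mul_eq_one_right hv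
  subst hi
  rw [ZMod.val_zero, pow_zero, one_mul, rPhi_eq_one_iff hK] at hv
  have hne : (1 : K) ≠ -1 := by
    intro h
    apply h2
    linear_combination h
  have key : ∀ g : Matrix.SpecialLinearGroup (Fin 2) K, (g = 1 ∨ g = -1) →
      g.val 0 1 = 0 ∧ g.val 0 0 ^ 2 = 1 := by
    rintro g (rfl | rfl)
    · simp
    · simp
  rcases zmod2_cases j with rfl | rfl <;> rcases zmod2_cases k with rfl | rfl
  · rfl
  · exfalso
    rw [ZMod.val_zero, ZMod.val_one, pow_zero, pow_one, one_mul] at hv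
    obtain ⟨h1, h3⟩ := key _ hv
    change y = 0 at h1
    change x ^ 2 = 1 at h3
    rw [h1, h3] at hxy
    apply h2
    linear_combination hxy
  · exfalso
    rw [ZMod.val_zero, ZMod.val_one, pow_zero, pow_one, mul_one] at hv
    obtain ⟨h1, h3⟩ := key _ hv
    change (1 : K) = 0 at h1
    exact one_ne_zero h1
  · exfalso
    rw [ZMod.val_one, pow_one, pow_one] at hv
    obtain ⟨h1, h3⟩ := key _ hv
    have e1 : ((antiSL * zSL x y hxy : Matrix.SpecialLinearGroup (Fin 2) K)).val 0 1 = -x := by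
      change ((!![0, 1; -1, 0] : Matrix (Fin 2) (Fin 2) K) * !![x, y; y, -x]) 0 1 = -x
      simp [Matrix.mul_apply, Fin.sum_univ_two]
    have e2 : ((antiSL * zSL x y hxy : Matrix.SpecialLinearGroup (Fin 2) K)).val 0 0 = y := by
      change ((!![0, 1; -1, 0] : Matrix (Fin 2) (Fin 2) K) * !![x, y; y, -x]) 0 0 = y
      simp [Matrix.mul_apply, Fin.sum_univ_two]
    rw [e1] at h1
    rw [e2] at h3
    have hx : x = 0 := neg_eq_zero.mp h1
    rw [hx, h3] at hxy
    apply h2
    linear_combination hxy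

end ree

end Cfsg.Agent.Helper7.ReeAut
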