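import Mathlib
import Cfsg.Agent.Helper7.ReeInvD

set_option autoImplicit false
set_option linter.unusedSectionVars false
set_option linter.unusedVariables false

/-!
The Sylow 2-subgroups of the Ree group `²G₂(q)` are elementary abelian of order `8`.
-/

namespace Cfsg.Agent.Helper7.ReeAut

open Cfsg Cfsg.Lie Matrix Cfsg.Agent.Helper7.Chev Cfsg.Agent.Helper7.Tri

variable {K : Type*} [Field K] [Fintype K] [CharP K 3] {m : ℕ} (hK : Fintype.card K = 3 ^ (2 * m + 1))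

include hK in
/-- The order of the group is `8` times an odd number. -/
theorem card_eq_eight_mul : ∃ M, Odd M ∧ Nat.card ↥(twistedG2 K (3 ^ m)) = 8 * M := by
  have hq : 3 ^ (2 * m + 1) % 8 = 3 := by
    rw [pow_succ, pow_mul]
    have : (3 ^ 2) ^ m % 8 = 1 := by
      rw [Nat.pow_mod]
      norm_num
    omega
  obtain ⟨k, hk⟩ : ∃ k, 3 ^ (2 * m + 1) = 8 * k + 3 := ⟨3 ^ (2 * m + 1) / 8, by omega⟩
  rw [ree_S1069 hK, hk]
  refine ⟨(8 * k + 3) ^ 3 * (4 * k + 1) * (2 * k + 1) * (64 * k ^ 2 + 40 * k + 7), ?_, ?_⟩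
  · exact Odd.mul (Odd.mul (Odd.mul (Odd.pow ⟨4 * k + 1, by ring⟩) ⟨2 * k, by ring⟩) ⟨k, by ring⟩)
      ⟨32 * k ^ 2 + 20 * k + 3, by ring⟩
  · have : 8 * k + 3 - 1 = 8 * k + 2 := by omega
    rw [this]
    ring

theorem card_Z2_cube : Nat.card (Multiplicative (ZMod 2 × ZMod 2 × ZMod 2)) = 8 := by
  rw [Nat.card_eq_fintype_card, Fintype.card_multiplicative]
  rfl

/-- The elementary abelian subgroup of order `8` is a Sylow subgroup. -/
theorem card_range_eHom {x y : K} (hxy : x ^ 2 + y ^ 2 = -1) : Nat.card ↥(eHom hK hxy).range = 8 := by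
  rw [← card_Z2_cube]
  exact (Nat.card_congr (MonoidHom.ofInjective (eHom_injective hK hxy)).toEquiv).symm

theorem not_two_dvd_index {x y : K} (hxy : x ^ 2 + y ^ 2 = -1) : ¬ 2 ∣ (eHom hK hxy).range.index := by
  obtain ⟨M, hM, hcard⟩ := card_eq_eight_mul (m := m) hK
  have h1 := (eHom hK hxy).range.card_mul_index
  rw [card_range_eHom, hcard] at h1
  have h2 : (eHom hK hxy).range.index = M := by omega
  rw [h2]
  intro h
  rw [← even_iff_two_dvd] at h
  exact (Nat.not_even_iff_odd.mpr hM) h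

theorem eHom_mul_self {x y : K} (hxy : x ^ 2 + y ^ 2 = -1) (g : ↥(twistedG2 K (3 ^ m)))
    (hg : g ∈ (eHom hK hxy).range) : g * g = 1 := by
  obtain ⟨v, rfl⟩ := hg
  rw [← map_mul]
  have : v * v = 1 := by
    revert v
    decide
  rw [this, map_one]

/-- The Sylow `2`-subgroup. -/
noncomputable def eSylow {x y : K} (hxy : x ^ 2 + y ^ 2 = -1) : Sylow 2 ↥(twistedG2 K (3 ^ m)) :=
  haveI : Fact (Nat.Prime 2) := ⟨Nat.prime_two⟩
  (IsPGroup.of_card (n := 3) (by rw [card_range_eHom]; norm_num)).toSylow (not_two_dvd_index hK hxy)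

theorem coe_eSylow {x y : K} (hxy : x ^ 2 + y ^ 2 = -1) :
    ((eSylow hK hxy : Sylow 2 ↥(twistedG2 K (3 ^ m))) : Subgroup ↥(twistedG2 K (3 ^ m))) =
      (eHom hK hxy).range := rfl

/-- The Sylow `2`-subgroups are the conjugates of `E`. -/
theorem sylow_two_eq {x y : K} (hxy : x ^ 2 + y ^ 2 = -1) (P : Sylow 2 ↥(twistedG2 K (3 ^ m))) :
    ∃ g : ↥(twistedG2 K (3 ^ m)), ∀ z : ↥(twistedG2 K (3 ^ m)),
      z ∈ (P : Subgroup ↥(twistedG2 K (3 ^ m))) ↔ g⁻¹ * z * g ∈ (eHom hK hxy).range := by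
  haveI : Fact (Nat.Prime 2) := ⟨Nat.prime_two⟩
  obtain ⟨g, hg⟩ := MulAction.exists_smul_eq ↥(twistedG2 K (3 ^ m)) (eSylow hK hxy) P
  refine ⟨g, fun z => ?_⟩
  rw [← hg, Sylow.coe_subgroup_smul, Subgroup.mem_pointwise_smul_iff_inv_smul_mem,
    coe_eSylow]
  simp [MulAut.smul_def, MulAut.conj_inv_apply]

include hK in
theorem exists_xy : ∃ x y : K, x ^ 2 + y ^ 2 = -1 := by
  apply exists_sq_add_sq'
  have := ree_card_mod_four hK
  omega

include hK in
/-- The Sylow `2`-subgroups are elementary abelian of order `8`. -/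
theorem sylow_two_card (S : Sylow 2 ↥(twistedG2 K (3 ^ m))) :
    Nat.card S = 8 ∧ ∀ z ∈ S, z * z = 1 := by
  haveI : Fact (Nat.Prime 2) := ⟨Nat.prime_two⟩
  obtain ⟨x, y, hxy⟩ := exists_xy (m := m) hK
  obtain ⟨g, hg⟩ := sylow_two_eq hK hxy S
  constructor
  · have h1 := Sylow.card_eq_multiplicity S
    have h2 := Sylow.card_eq_multiplicity (eSylow hK hxy)
    rw [h1, ← h2]
    exact card_range_eHom hK hxy
  · intro z hz
    have h1 := eHom_mul_self hK hxy _ ((hg z).mp hz)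
    have h2 : g⁻¹ * z * g * (g⁻¹ * z * g) = g⁻¹ * (z * z) * g := by group
    rw [h2] at h1
    have h3 : z * z = g * (g⁻¹ * (z * z) * g) * g⁻¹ := by group
    rw [h3, h1]
    group

/-- The statement of S1152. -/
theorem ree_S1152 {K : Type*} [Field K] [Fintype K] {m : ℕ} (hK : Fintype.card K = 3 ^ (2 * m + 1))
    (a : ↥(Cfsg.Lie.twistedG2 K (3 ^ m)))
    (haH : (a : GL Cfsg.Lie.chevG2.Idx K) ∈ Cfsg.Lie.chevG2.diagonalSubgroup K) (ha1 : a ≠ 1)
    (ha2 : a * a = 1) :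
    Nonempty (↥(Subgroup.centralizer {a}) ≃*
        Multiplicative (ZMod 2) × Matrix.ProjectiveSpecialLinearGroup (Fin 2) K) ∧
      ∀ S : Sylow 2 ↥(Cfsg.Lie.twistedG2 K (3 ^ m)), Nat.card S = 8 ∧ ∀ x ∈ S, x * x = 1 := by
  haveI := charP_three_of_card (by omega) hK
  have e := eq_aS_of_involution hK haH ha1 ha2
  subst e
  exact ⟨centralizer_iso hK, sylow_two_card hK⟩

end Cfsg.Agent.Helper7.ReeAut
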