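import Mathlib
import Cfsg.Agent.Helper7.ReeInvE

set_option autoImplicit false
set_option linter.unusedSectionVars false
set_option linter.unusedVariables false

/-!
The normaliser of a Sylow 2-subgroup of the Ree group: computations in `SL₂`.
-/

namespace Cfsg.Agent.Helper7.ReeAut

open Cfsg Cfsg.Lie Matrix Cfsg.Agent.Helper7.Chev Cfsg.Agent.Helper7.Tri

variable {K : Type*} [Field K]

theorem antiSL_val : ((antiSL : Matrix.SpecialLinearGroup (Fin 2) K)).val = !![0, 1; -1, 0] := rfl

theorem zSL_val {x y : K} (hxy : x ^ 2 + y ^ 2 = -1) : (zSL x y hxy).val = !![x, y; y, -x] := rfl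

theorem sl2_mul_anti (g : Matrix.SpecialLinearGroup (Fin 2) K) :
    (g * antiSL).val = !![-g.val 0 1, g.val 0 0; -g.val 1 1, g.val 1 0] := by
  rw [Matrix.SpecialLinearGroup.coe_mul, antiSL_val]
  ext i j
  fin_cases i <;> fin_cases j <;> simp [Matrix.mul_apply, Fin.sum_univ_two]

theorem sl2_anti_mul (g : Matrix.SpecialLinearGroup (Fin 2) K) :
    (antiSL * g).val = !![g.val 1 0, g.val 1 1; -g.val 0 0, -g.val 0 1] := by
  rw [Matrix.SpecialLinearGroup.coe_mul, antiSL_val]
  ext i j
  fin_cases i <;> fin_cases j <;> simp [Matrix.mul_apply, Fin.sum_univ_two]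

theorem sl2_mul_z {x y : K} (hxy : x ^ 2 + y ^ 2 = -1) (g : Matrix.SpecialLinearGroup (Fin 2) K) :
    (g * zSL x y hxy).val = !![g.val 0 0 * x + g.val 0 1 * y, g.val 0 0 * y - g.val 0 1 * x;
      g.val 1 0 * x + g.val 1 1 * y, g.val 1 0 * y - g.val 1 1 * x] := by
  rw [Matrix.SpecialLinearGroup.coe_mul, zSL_val]
  ext i j
  fin_cases i <;> fin_cases j <;> simp [Matrix.mul_apply, Fin.sum_univ_two] <;> ring

theorem sl2_z_mul {x y : K} (hxy : x ^ 2 + y ^ 2 = -1) (g : Matrix.SpecialLinearGroup (Fin 2) K) :
    (zSL x y hxy * g).val = !![x * g.val 0 0 + y * g.val 1 0, x * g.val 0 1 + y * g.val 1 1;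
      y * g.val 0 0 - x * g.val 1 0, y * g.val 0 1 - x * g.val 1 1] := by
  rw [Matrix.SpecialLinearGroup.coe_mul, zSL_val]
  ext i j
  fin_cases i <;> fin_cases j <;> simp [Matrix.mul_apply, Fin.sum_univ_two] <;> ring

theorem sl2_ext_entries {g h : Matrix.SpecialLinearGroup (Fin 2) K} (h00 : g.val 0 0 = h.val 0 0)
    (h01 : g.val 0 1 = h.val 0 1) (h10 : g.val 1 0 = h.val 1 0) (h11 : g.val 1 1 = h.val 1 1) :
    g = h := by
  apply Subtype.ext
  ext i j
  fin_cases i <;> fin_cases j <;> assumption

theorem mat2_eq_iff {a b c d a' b' c' d' : K} :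
    (!![a, b; c, d] : Matrix (Fin 2) (Fin 2) K) = !![a', b'; c', d'] ↔
      a = a' ∧ b = b' ∧ c = c' ∧ d = d' := by
  constructor
  · intro h
    refine ⟨?_, ?_, ?_, ?_⟩
    · simpa using congrFun (congrFun h 0) 0
    · simpa using congrFun (congrFun h 0) 1
    · simpa using congrFun (congrFun h 1) 0
    · simpa using congrFun (congrFun h 1) 1
  · rintro ⟨rfl, rfl, rfl, rfl⟩
    rfl

theorem neg_mat2 {a b c d : K} :
    -(!![a, b; c, d] : Matrix (Fin 2) (Fin 2) K) = !![-a, -b; -c, -d] := by
  ext i j
  fin_cases i <;> fin_cases j <;> simp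

theorem sl2_val_eq (g : Matrix.SpecialLinearGroup (Fin 2) K) :
    g.val = !![g.val 0 0, g.val 0 1; g.val 1 0, g.val 1 1] := by
  ext i j
  fin_cases i <;> fin_cases j <;> simp

/-- The elements of `SL₂` commuting with `w` and `z` up to sign. -/
theorem sl2_centralizer_mod (h2 : (2 : K) ≠ 0) {u v : K} (huv : u ^ 2 + v ^ 2 = -1)
    (g : Matrix.SpecialLinearGroup (Fin 2) K)
    (h1 : g * antiSL = antiSL * g ∨ g * antiSL = -(antiSL * g))
    (h3 : g * zSL u v huv = zSL u v huv * g ∨ g * zSL u v huv = -(zSL u v huv * g)) :
    g = 1 ∨ g = -1 ∨ g = antiSL ∨ g = -antiSL ∨ g = zSL u v huv ∨ g = -zSL u v huv ∨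
      g = antiSL * zSL u v huv ∨ g = -(antiSL * zSL u v huv) := by
  have hdet := det_two_eq g
  have hval := sl2_val_eq g
  have hw : (g.val 1 0 = -g.val 0 1 ∧ g.val 1 1 = g.val 0 0) ∨
      (g.val 1 0 = g.val 0 1 ∧ g.val 1 1 = -g.val 0 0) := by
    rcases h1 with h | h
    · left
      have := congrArg Subtype.val h
      rw [sl2_mul_anti, sl2_anti_mul, mat2_eq_iff] at this
      obtain ⟨e1, e2, e3, e4⟩ := this
      exact ⟨e1.symm, e2.symm⟩
    · right
      have := congrArg Subtype.val h
      rw [Matrix.SpecialLinearGroup.coe_neg, sl2_mul_anti, sl2_anti_mul, neg_mat2, mat2_eq_iff] at this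
      obtain ⟨e1, e2, e3, e4⟩ := this
      exact ⟨(neg_injective e1).symm, by rw [e2, neg_neg]⟩
  have hz : (g.val 0 0 * u + g.val 0 1 * v = u * g.val 0 0 + v * g.val 1 0 ∧
      g.val 0 0 * v - g.val 0 1 * u = u * g.val 0 1 + v * g.val 1 1) ∨
      (g.val 0 0 * u + g.val 0 1 * v = -(u * g.val 0 0 + v * g.val 1 0) ∧
      g.val 0 0 * v - g.val 0 1 * u = -(u * g.val 0 1 + v * g.val 1 1)) := by
    rcases h3 with h | h
    · left
      have := congrArg Subtype.val h
      rw [sl2_mul_z, sl2_z_mul, mat2_eq_iff] at this
      exact ⟨this.1, this.2.1⟩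
    · right
      have := congrArg Subtype.val h
      rw [Matrix.SpecialLinearGroup.coe_neg, sl2_mul_z, sl2_z_mul, neg_mat2, mat2_eq_iff] at this
      exact ⟨this.1, this.2.1⟩
  generalize g.val 0 0 = p at *
  generalize g.val 0 1 = q at *
  generalize g.val 1 0 = r at *
  generalize g.val 1 1 = s at *
  have hcancel : ∀ t : K, 2 * t = 0 → t = 0 := fun t ht => (mul_eq_zero.mp ht).resolve_left h2
  rcases hw with ⟨hr, hs⟩ | ⟨hr, hs⟩
  · rcases hz with ⟨e1, e2⟩ | ⟨e1, e2⟩
    · -- `g = ±1`
      rw [hr] at hdet hval e1
      rw [hs] at hdet hval e2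
      clear hr hs r s
      have hqv : q * v = 0 := hcancel _ (by linear_combination e1)
      have hqu : q * u = 0 := hcancel _ (by linear_combination -e2)
      have hq0 : q = 0 := by linear_combination q * huv - u * hqu - v * hqv
      subst hq0
      have hp2 : p ^ 2 = 1 := by linear_combination hdet
      rcases sq_eq_one_iff.mp hp2 with rfl | rfl
      · left
        apply Subtype.ext
        rw [hval]
        ext i j
        fin_cases i <;> fin_cases j <;> simp
      · right; left
        apply Subtype.ext
        rw [hval]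
        ext i j
        fin_cases i <;> fin_cases j <;> simp
    · -- `g = ±w`
      rw [hr] at hdet hval e1
      rw [hs] at hdet hval e2
      clear hr hs r s
      have hpu : p * u = 0 := hcancel _ (by linear_combination e1)
      have hpv : p * v = 0 := hcancel _ (by linear_combination e2)
      have hp0 : p = 0 := by linear_combination p * huv - u * hpu - v * hpv
      subst hp0
      have hq2 : q ^ 2 = 1 := by linear_combination hdet
      rcases sq_eq_one_iff.mp hq2 with rfl | rfl
      · right; right; left
        apply Subtype.ext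
        rw [hval, antiSL_val]
      · right; right; right; left
        apply Subtype.ext
        rw [hval, Matrix.SpecialLinearGroup.coe_neg, antiSL_val, neg_mat2]
        simp
  · rcases hz with ⟨e1, e2⟩ | ⟨e1, e2⟩
    · -- `g = ±z`
      rw [hr] at hdet hval e1
      rw [hs] at hdet hval e2
      clear hr hs r s
      have h5 : p * v - q * u = 0 := hcancel _ (by linear_combination e2)
      have hl2 : (p * u + q * v) ^ 2 = 1 := by
        linear_combination (-1 : K) * hdet * (u ^ 2 + v ^ 2) + (-1 : K) * huv - (p * v - q * u) * h5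
      have hp' : p = -(p * u + q * v) * u := by linear_combination p * huv - v * h5
      have hq' : q = -(p * u + q * v) * v := by linear_combination q * huv + u * h5
      rcases sq_eq_one_iff.mp hl2 with h | h
      · right; right; right; right; right; left
        rw [h] at hp' hq'
        apply Subtype.ext
        rw [hval, Matrix.SpecialLinearGroup.coe_neg, zSL_val, neg_mat2, mat2_eq_iff]
        refine ⟨by linear_combination hp', by linear_combination hq', by linear_combination hq', ?_⟩
        linear_combination -hp'
      · right; right; right; right; left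
        rw [h] at hp' hq'
        apply Subtype.ext
        rw [hval, zSL_val, mat2_eq_iff]
        refine ⟨by linear_combination hp', by linear_combination hq', by linear_combination hq', ?_⟩
        linear_combination -hp'
    · -- `g = ±wz`
      rw [hr] at hdet hval e1
      rw [hs] at hdet hval e2
      clear hr hs r s
      have h5 : p * u + q * v = 0 := hcancel _ (by linear_combination e1)
      have hl2 : (q * u - p * v) ^ 2 = 1 := by
        linear_combination (-1 : K) * hdet * (u ^ 2 + v ^ 2) + (-1 : K) * huv - (p * u + q * v) * h5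
      have hp' : p = (q * u - p * v) * v := by linear_combination p * huv - u * h5
      have hq' : q = -(q * u - p * v) * u := by linear_combination q * huv - v * h5
      have hwz : (antiSL * zSL u v huv).val = !![v, -u; -u, -v] := by
        rw [sl2_anti_mul, zSL_val]
        simp
      rcases sq_eq_one_iff.mp hl2 with h | h
      · right; right; right; right; right; right; left
        rw [h] at hp' hq'
        apply Subtype.ext
        rw [hval, hwz, mat2_eq_iff]
        refine ⟨by linear_combination hp', by linear_combination hq', by linear_combination hq', ?_⟩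
        linear_combination -hp'
      · right; right; right; right; right; right; right
        rw [h] at hp' hq'
        apply Subtype.ext
        rw [hval, Matrix.SpecialLinearGroup.coe_neg, hwz, neg_mat2, mat2_eq_iff]
        refine ⟨by linear_combination hp', by linear_combination hq', by linear_combination hq', ?_⟩
        linear_combination -hp'

end Cfsg.Agent.Helper7.ReeAut
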