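import Mathlib
import Cfsg.Agent.Helper7.ReeSylA

set_option autoImplicit false
set_option linter.unusedSectionVars false
set_option linter.unusedVariables false

/-!
The normaliser of a Sylow 2-subgroup of the Ree group: the element of order 3.
-/

namespace Cfsg.Agent.Helper7.ReeAut

open Cfsg Cfsg.Lie Matrix Cfsg.Agent.Helper7.Chev Cfsg.Agent.Helper7.Tri

variable {K : Type*} [Field K] [CharP K 3]

/-- The element `1 + w + z + wz` of `SL₂`, in characteristic 3. -/
def rhoSL (u v : K) (huv : u ^ 2 + v ^ 2 = -1) : Matrix.SpecialLinearGroup (Fin 2) K :=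
  ⟨!![1 + u + v, 1 + v - u; -1 + v - u, 1 - u - v], by
    rw [Matrix.det_fin_two_of]
    have h3 := three_eq_zero K
    linear_combination (-2 : K) * huv + h3⟩

theorem rhoSL_val {u v : K} (huv : u ^ 2 + v ^ 2 = -1) :
    (rhoSL u v huv).val = !![1 + u + v, 1 + v - u; -1 + v - u, 1 - u - v] := rfl

theorem rhoSL_mul_anti {u v : K} (huv : u ^ 2 + v ^ 2 = -1) :
    rhoSL u v huv * antiSL = zSL u v huv * rhoSL u v huv := by
  apply Subtype.ext
  rw [sl2_mul_anti, sl2_z_mul, rhoSL_val, mat2_eq_iff]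
  simp only [Matrix.of_apply, Matrix.cons_val', Matrix.cons_val_zero, Matrix.cons_val_one,
    Matrix.cons_val_fin_one]
  refine ⟨?_, ?_, ?_, ?_⟩ <;>
    first | ring1 | linear_combination (1 : K) * huv | linear_combination (-1 : K) * huv

theorem rhoSL_mul_z {u v : K} (huv : u ^ 2 + v ^ 2 = -1) :
    rhoSL u v huv * zSL u v huv = (antiSL * zSL u v huv) * rhoSL u v huv := by
  apply Subtype.ext
  rw [mul_assoc, sl2_mul_z, sl2_anti_mul, sl2_z_mul, rhoSL_val, mat2_eq_iff]
  simp only [Matrix.of_apply, Matrix.cons_val', Matrix.cons_val_zero, Matrix.cons_val_one,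
    Matrix.cons_val_fin_one]
  refine ⟨?_, ?_, ?_, ?_⟩ <;>
    first | ring1 | linear_combination (1 : K) * huv | linear_combination (-1 : K) * huv

end Cfsg.Agent.Helper7.ReeAut
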