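import Mathlib
import Cfsg.Agent.Helper7.TriInv

set_option autoImplicit false
set_option linter.unusedSectionVars false
set_option linter.unusedVariables false

/-!
An elementary abelian Sylow 2-subgroup of order 8 with a normaliser of order 168.
-/

namespace Cfsg.Agent.Helper7.Tri

section general

variable {G : Type*} [Group G]

/-- In a finite group, an element conjugating a subgroup into itself normalises it. -/
theorem mem_normalizer_of_conj_mem [Finite G] (H : Subgroup G) (g : G)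
    (h : ∀ x ∈ H, g * x * g⁻¹ ∈ H) : g ∈ Subgroup.normalizer (H : Set G) := by
  rw [Subgroup.mem_normalizer_iff]
  intro x
  refine ⟨h x, fun hx => ?_⟩
  let f : ↥H → ↥H := fun y => ⟨g * y * g⁻¹, h y y.2⟩
  have hf : Function.Injective f := by
    intro y z hyz
    have : g * y * g⁻¹ = g * z * g⁻¹ := congrArg Subtype.val hyz
    exact Subtype.ext (mul_left_cancel (mul_right_cancel this))
  obtain ⟨y, hy⟩ := (Finite.injective_iff_surjective.mp hf) ⟨g * x * g⁻¹, hx⟩
  have h1 : g * y * g⁻¹ = g * x * g⁻¹ := congrArg Subtype.val hy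
  have h2 : (y : G) = x := mul_left_cancel (mul_right_cancel h1)
  rw [← h2]
  exact y.2

/-- The orbit-stabiliser theorem for the conjugation action of a subgroup. -/
theorem card_eq_card_inf_centralizer_mul [Finite G] (N : Subgroup G) (a : G) :
    Nat.card N = Nat.card ↥(N ⊓ Subgroup.centralizer {a}) *
      {x | ∃ n ∈ N, x = n * a * n⁻¹}.ncard := by
  letI inst : MulAction ↥N G :=
    MulAction.compHom G ((MulAut.conj : G →* MulAut G).comp N.subtype)
  have hsm : ∀ (n : ↥N) (x : G), @HSMul.hSMul ↥N G G (@instHSMul ↥N G inst.toSMul) n x =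
      (n : G) * x * (n : G)⁻¹ := fun n x => rfl
  have h1 := @MulAction.index_stabilizer ↥N G _ inst a
  have h2 := (@MulAction.stabilizer ↥N G _ inst a).card_mul_index
  have h3 : @MulAction.orbit ↥N G inst.toSMul a = {x | ∃ n ∈ N, x = n * a * n⁻¹} := by
    ext x
    constructor
    · rintro ⟨n, rfl⟩
      exact ⟨n, n.2, hsm n a⟩
    · rintro ⟨n, hn, rfl⟩
      exact ⟨⟨n, hn⟩, hsm ⟨n, hn⟩ a⟩
  have h4 : Nat.card ↥(@MulAction.stabilizer ↥N G _ inst a) =
      Nat.card ↥(N ⊓ Subgroup.centralizer {a}) := by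
    apply Nat.card_congr
    refine ⟨fun n => ⟨n.1.1, Subgroup.mem_inf.mpr ⟨n.1.2, ?_⟩⟩, fun n => ⟨⟨n.1, (Subgroup.mem_inf.mp n.2).1⟩, ?_⟩,
      fun n => rfl, fun n => rfl⟩
    · rw [Subgroup.mem_centralizer_singleton_iff]
      have := n.2
      rw [@MulAction.mem_stabilizer_iff ↥N G _ inst] at this
      have h5 := (hsm n.1 a).symm.trans this
      rw [mul_inv_eq_iff_eq_mul] at h5
      exact h5
    · rw [@MulAction.mem_stabilizer_iff ↥N G _ inst]
      have := (Subgroup.mem_inf.mp n.2).2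
      rw [Subgroup.mem_centralizer_singleton_iff] at this
      refine (hsm _ a).trans ?_
      change (n : G) * a * (n : G)⁻¹ = a
      rw [this, mul_assoc, mul_inv_cancel, mul_one]
  rw [← h2, h1, h3, h4]

end general

/-- The automorphism of `(Z₂)³` induced by an element of order 3 of the normaliser. -/
def sig (v : ZMod 2 × ZMod 2 × ZMod 2) : ZMod 2 × ZMod 2 × ZMod 2 := (v.1, v.2.2, v.2.1 + v.2.2)

theorem sig_sig_sig (v : ZMod 2 × ZMod 2 × ZMod 2) : sig (sig (sig v)) = v := by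
  revert v
  decide

/-- The combinatorial property of an orbit. -/
def OrbProp (s : Finset (ZMod 2 × ZMod 2 × ZMod 2)) : Prop :=
  (1, 0, 0) ∈ s → (0, 0, 0) ∉ s → (∀ v ∈ s, sig v ∈ s) → (∃ v ∈ s, v ≠ (1, 0, 0)) →
    s.card % 2 = 1 → s.card = 7

instance : DecidablePred OrbProp := fun s => by unfold OrbProp; infer_instance

set_option maxRecDepth 1000000 in
theorem orbProp_all : ∀ s : Finset (ZMod 2 × ZMod 2 × ZMod 2), OrbProp s := by
  decide

theorem card_zmod2_cube : Nat.card (Multiplicative (ZMod 2 × ZMod 2 × ZMod 2)) = 8 := by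
  rw [Nat.card_eq_fintype_card, Fintype.card_multiplicative]
  rfl

section main

variable {G : Type*} [Group G] {a b c : G} (ha : a * a = 1) (hb : b * b = 1) (hc : c * c = 1)
  (hab : Commute a b) (hac : Commute a c) (hbc : Commute b c)

include hb hc hbc in
theorem rho_conj_tri {ρ : G} (hρa : ρ * a * ρ⁻¹ = a) (hρb : ρ * b * ρ⁻¹ = c)
    (hρc : ρ * c * ρ⁻¹ = b * c) (v : ZMod 2 × ZMod 2 × ZMod 2) :
    ρ * tri a b c v * ρ⁻¹ = tri a b c (sig v) := by
  unfold tri sig
  have e : ρ * (a ^ v.1.val * b ^ v.2.1.val * c ^ v.2.2.val) * ρ⁻¹ =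
      (ρ * a ^ v.1.val * ρ⁻¹) * (ρ * b ^ v.2.1.val * ρ⁻¹) * (ρ * c ^ v.2.2.val * ρ⁻¹) := by group
  rw [e, ← conj_pow, ← conj_pow, ← conj_pow, hρa, hρb, hρc, hbc.mul_pow, pow_val_add hc]
  have h3 : Commute (c ^ v.2.1.val) (b ^ v.2.2.val) := (hbc.pow_pow _ _).symm
  calc a ^ v.1.val * c ^ v.2.1.val * (b ^ v.2.2.val * c ^ v.2.2.val)
      = a ^ v.1.val * (c ^ v.2.1.val * b ^ v.2.2.val) * c ^ v.2.2.val := by group
    _ = a ^ v.1.val * (b ^ v.2.2.val * c ^ v.2.1.val) * c ^ v.2.2.val := by rw [h3.eq]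
    _ = _ := by group

include hb hc hbc in
theorem rho_pow_conj_tri {ρ : G} (hρa : ρ * a * ρ⁻¹ = a) (hρb : ρ * b * ρ⁻¹ = c)
    (hρc : ρ * c * ρ⁻¹ = b * c) (k : ℕ) (v : ZMod 2 × ZMod 2 × ZMod 2) :
    ρ ^ k * tri a b c v * (ρ ^ k)⁻¹ = tri a b c (sig^[k] v) := by
  induction k generalizing v with
  | zero => simp
  | succ k ih =>
    rw [Function.iterate_succ_apply, ← ih, ← rho_conj_tri hb hc hbc hρa hρb hρc, pow_succ]
    group

end main

end Cfsg.Agent.Helper7.Tri
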