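import Mathlib
import Cfsg.Agent.Helper7.TriNorm

set_option autoImplicit false
set_option linter.unusedSectionVars false
set_option linter.unusedVariables false

/-!
An elementary abelian Sylow 2-subgroup of order 8 with a normaliser of order 168: the main lemma.
-/

namespace Cfsg.Agent.Helper7.Tri

section main

variable {G : Type*} [Group G] {a b c : G} (ha : a * a = 1) (hb : b * b = 1) (hc : c * c = 1)
  (hab : Commute a b) (hac : Commute a c) (hbc : Commute b c)

theorem tri_zero : tri a b c 0 = 1 := by simp [tri]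

theorem tri_100 : tri a b c (1, 0, 0) = a := by simp [tri, ZMod.val_one]

theorem tri_010 : tri a b c (0, 1, 0) = b := by simp [tri, ZMod.val_one]

theorem tri_001 : tri a b c (0, 0, 1) = c := by simp [tri, ZMod.val_one]

theorem tri_011 : tri a b c (0, 1, 1) = b * c := by simp [tri, ZMod.val_one]

/-- The elements of the normaliser centralising `a`. -/
theorem normalizer_inf_centralizer [Finite G]
    (hinj : Function.Injective (tri a b c))
    (S : Sylow 2 G) (hS : (S : Subgroup G) = (triHom ha hb hc hab hac hbc).range)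
    (hC : Subgroup.centralizer ((triHom ha hb hc hab hac hbc).range : Set G) ≤
      (triHom ha hb hc hab hac hbc).range)
    {ρ : G} (hρa : ρ * a * ρ⁻¹ = a) (hρb : ρ * b * ρ⁻¹ = c) (hρc : ρ * c * ρ⁻¹ = b * c)
    (L : Subgroup G) (hLb : b ∈ L) (hLc : c ∈ L) (hLa : a ∉ L)
    (hL : ∀ g : G, g * a * g⁻¹ = a → ∀ x ∈ L, g * x * g⁻¹ ∈ L)
    (g : G) (hgN : g ∈ Subgroup.normalizer ((triHom ha hb hc hab hac hbc).range : Set G))
    (hga : g * a * g⁻¹ = a) :
    g ∈ (triHom ha hb hc hab hac hbc).range ∨ ρ⁻¹ * g ∈ (triHom ha hb hc hab hac hbc).range ∨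
      ρ⁻¹ * ρ⁻¹ * g ∈ (triHom ha hb hc hab hac hbc).range := by
  classical
  haveI : Fact (Nat.Prime 2) := ⟨Nat.prime_two⟩
  set E := (triHom ha hb hc hab hac hbc).range with hE
  set N := Subgroup.normalizer (E : Set G) with hN
  have memE : ∀ g, g ∈ E ↔ ∃ v, g = tri a b c v := mem_range_triHom ha hb hc hab hac hbc
  have hEN : E ≤ N := Subgroup.le_normalizer
  have hρN : ρ ∈ N := by
    apply mem_normalizer_of_conj_mem
    intro x hx
    obtain ⟨v, rfl⟩ := (memE x).mp hx
    rw [rho_conj_tri hb hc hbc hρa hρb hρc]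
    exact (memE _).mpr ⟨_, rfl⟩
  have hEL : ∀ v : ZMod 2 × ZMod 2 × ZMod 2, tri a b c v ∈ L → v.1 = 0 := by
    intro v hv
    rcases zmod2_cases v.1 with h | h
    · exact h
    · exfalso
      apply hLa
      have : a = tri a b c v * (b ^ v.2.1.val * c ^ v.2.2.val)⁻¹ := by
        unfold tri
        rw [h, ZMod.val_one, pow_one]
        group
      rw [this]
      exact mul_mem hv (inv_mem (mul_mem (pow_mem hLb _) (pow_mem hLc _)))
  have hb1 : b ≠ 1 := by
    intro h
    have := hinj ((tri_010 (a := a) (b := b) (c := c)).trans (h.trans (tri_zero (a := a) (b := b) (c := c)).symm))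
    revert this
    decide
  have hc1 : c ≠ 1 := by
    intro h
    have := hinj ((tri_001 (a := a) (b := b) (c := c)).trans (h.trans (tri_zero (a := a) (b := b) (c := c)).symm))
    revert this
    decide
  have hcb : c ≠ b := by
    intro h
    have := hinj ((tri_001 (a := a) (b := b) (c := c)).trans (h.trans (tri_010 (a := a) (b := b) (c := c)).symm))
    revert this
    decide
  have hV : ∀ g, g ∈ N → g * a * g⁻¹ = a → ∀ x, (x = b ∨ x = c) →
      (g * x * g⁻¹ = b ∨ g * x * g⁻¹ = c ∨ g * x * g⁻¹ = b * c) := by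
    intro g hgN hga x hx
    have hxE : x ∈ E := by
      rcases hx with rfl | rfl
      · exact (memE _).mpr ⟨_, tri_010.symm⟩
      · exact (memE _).mpr ⟨_, tri_001.symm⟩
    have hxL : x ∈ L := by
      rcases hx with rfl | rfl
      · exact hLb
      · exact hLc
    have h1 : g * x * g⁻¹ ∈ E := ((Subgroup.mem_normalizer_iff.mp hgN) x).mp hxE
    obtain ⟨v, hv⟩ := (memE _).mp h1
    have h2 : v.1 = 0 := hEL v (hv ▸ hL g hga x hxL)
    have hx1 : x ≠ 1 := by
      rcases hx with rfl | rfl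
      · exact hb1
      · exact hc1
    have h3 : g * x * g⁻¹ ≠ 1 := by
      intro h
      apply hx1
      have : x = g⁻¹ * (g * x * g⁻¹) * g := by group
      rw [this, h]
      group
    obtain ⟨i, j, k⟩ := v
    simp only at h2
    subst h2
    rcases zmod2_cases j with rfl | rfl <;> rcases zmod2_cases k with rfl | rfl
    · exfalso
      apply h3
      rw [hv]
      exact tri_zero
    · right; left
      rw [hv, tri_001]
    · left
      rw [hv, tri_010]
    · right; right
      rw [hv, tri_011]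
  have hcent : ∀ h : G, h * a * h⁻¹ = a → h * b * h⁻¹ = b → h * c * h⁻¹ = c → h ∈ E := by
    intro h h1 h2 h3
    apply hC
    rw [Subgroup.mem_centralizer_iff]
    intro e he
    obtain ⟨v, rfl⟩ := (memE e).mp he
    have ca : Commute h a := mul_inv_eq_iff_eq_mul.mp h1
    have cb : Commute h b := mul_inv_eq_iff_eq_mul.mp h2
    have cc : Commute h c := mul_inv_eq_iff_eq_mul.mp h3
    exact (((ca.pow_right _).mul_right (cb.pow_right _)).mul_right (cc.pow_right _)).eq.symm
  have hEp : IsPGroup 2 E := hS ▸ S.isPGroup'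
  have hT1 : ∀ g, g ∈ N → g * a * g⁻¹ = a → g * b * g⁻¹ = b → g ∈ E := by
    intro g hgN hga hgb
    rcases hV g hgN hga c (Or.inr rfl) with h | h | h
    · exfalso
      apply hcb
      have := h.trans hgb.symm
      exact mul_left_cancel (mul_right_cancel this)
    · exact hcent g hga hgb h
    · have h2 : g * g ∈ E := by
        apply hcent
        · rw [show g * g * a * (g * g)⁻¹ = g * (g * a * g⁻¹) * g⁻¹ by group, hga, hga]
        · rw [show g * g * b * (g * g)⁻¹ = g * (g * b * g⁻¹) * g⁻¹ by group, hgb, hgb]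
        · rw [show g * g * c * (g * g)⁻¹ = g * (g * c * g⁻¹) * g⁻¹ by group, h,
            show g * (b * c) * g⁻¹ = (g * b * g⁻¹) * (g * c * g⁻¹) by group, hgb, h, ← mul_assoc, hb,
            one_mul]
      have h4 : g ^ 4 = 1 := by
        obtain ⟨v, hv⟩ := (memE _).mp h2
        have := tri_mul_self ha hb hc hab hac hbc v
        rw [← hv] at this
        rw [show (4 : ℕ) = 2 + 2 from rfl, pow_add, pow_two]
        exact this
      have hp : IsPGroup 2 (Subgroup.zpowers g) := by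
        have hdvd : orderOf g ∣ 2 ^ 2 := orderOf_dvd_of_pow_eq_one (by norm_num; exact h4)
        obtain ⟨k, _, hk⟩ := (Nat.dvd_prime_pow Nat.prime_two).mp hdvd
        exact IsPGroup.of_card (n := k) (by rw [Nat.card_zpowers, hk])
      have hle : Subgroup.zpowers g ≤ Subgroup.normalizer (E : Set G) := by
        rw [Subgroup.zpowers_le]
        exact hgN
      have hsup := hp.to_sup_of_normal_right' hEp hle
      have hmax := S.is_maximal' hsup (hS.le.trans le_sup_right)
      have hg : g ∈ Subgroup.zpowers g ⊔ E := Subgroup.mem_sup_left (Subgroup.mem_zpowers g)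
      rw [hmax, hS] at hg
      exact hg
  have hρ1a : ρ⁻¹ * a * ρ = a := by
    calc ρ⁻¹ * a * ρ = ρ⁻¹ * (ρ * a * ρ⁻¹) * ρ := by rw [hρa]
      _ = a := by group
  have hρ1c : ρ⁻¹ * c * ρ = b := by
    calc ρ⁻¹ * c * ρ = ρ⁻¹ * (ρ * b * ρ⁻¹) * ρ := by rw [hρb]
      _ = b := by group
  have hρ1bc : ρ⁻¹ * (b * c) * ρ = c := by
    calc ρ⁻¹ * (b * c) * ρ = ρ⁻¹ * (ρ * c * ρ⁻¹) * ρ := by rw [hρc]
      _ = c := by group
  rcases hV g hgN hga b (Or.inl rfl) with h | h | h
  · left
    exact hT1 g hgN hga h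
  · right; left
    apply hT1 (ρ⁻¹ * g) (mul_mem (inv_mem hρN) hgN)
    · rw [show ρ⁻¹ * g * a * (ρ⁻¹ * g)⁻¹ = ρ⁻¹ * (g * a * g⁻¹) * ρ by group, hga, hρ1a]
    · rw [show ρ⁻¹ * g * b * (ρ⁻¹ * g)⁻¹ = ρ⁻¹ * (g * b * g⁻¹) * ρ by group, h, hρ1c]
  · right; right
    apply hT1 (ρ⁻¹ * ρ⁻¹ * g) (mul_mem (mul_mem (inv_mem hρN) (inv_mem hρN)) hgN)
    · rw [show ρ⁻¹ * ρ⁻¹ * g * a * (ρ⁻¹ * ρ⁻¹ * g)⁻¹ = ρ⁻¹ * (ρ⁻¹ * (g * a * g⁻¹) * ρ) * ρ by
        simp only [mul_inv_rev, inv_inv, mul_assoc], hga, hρ1a, hρ1a]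
    · rw [show ρ⁻¹ * ρ⁻¹ * g * b * (ρ⁻¹ * ρ⁻¹ * g)⁻¹ = ρ⁻¹ * (ρ⁻¹ * (g * b * g⁻¹) * ρ) * ρ by
        simp only [mul_inv_rev, inv_inv, mul_assoc], h, hρ1bc, hρ1c]

end main

end Cfsg.Agent.Helper7.Tri
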