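import Mathlib
import Cfsg.Agent.Helper7.TriNorm2

set_option autoImplicit false
set_option linter.unusedSectionVars false
set_option linter.unusedVariables false

/-!
An elementary abelian Sylow 2-subgroup of order 8 with a normaliser of order 168: the counting.
-/

namespace Cfsg.Agent.Helper7.Tri

section main

variable {G : Type*} [Group G] {a b c : G} (ha : a * a = 1) (hb : b * b = 1) (hc : c * c = 1)
  (hab : Commute a b) (hac : Commute a c) (hbc : Commute b c)

include ha hb hc hab hac hbc in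
theorem tri_conj_tri (v w : ZMod 2 × ZMod 2 × ZMod 2) :
    tri a b c v * tri a b c w * (tri a b c v)⁻¹ = tri a b c w := by
  rw [← tri_add ha hb hc hab hac hbc, add_comm, tri_add ha hb hc hab hac hbc, mul_assoc,
    mul_inv_cancel, mul_one]

theorem sig_iter_inj : ∀ k k' : Fin 3,
    sig^[(k' : ℕ)] (0, 1, 0) = sig^[(k : ℕ)] (0, 1, 0) → k = k' := by
  decide

theorem card_normalizer_eq_168 [Finite G]
    (hinj : Function.Injective (tri a b c))
    (S : Sylow 2 G) (hS : (S : Subgroup G) = (triHom ha hb hc hab hac hbc).range)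
    (hC : Subgroup.centralizer ((triHom ha hb hc hab hac hbc).range : Set G) ≤
      (triHom ha hb hc hab hac hbc).range)
    {ρ : G} (hρa : ρ * a * ρ⁻¹ = a) (hρb : ρ * b * ρ⁻¹ = c) (hρc : ρ * c * ρ⁻¹ = b * c)
    (L : Subgroup G) (hLb : b ∈ L) (hLc : c ∈ L) (hLa : a ∉ L)
    (hL : ∀ g : G, g * a * g⁻¹ = a → ∀ x ∈ L, g * x * g⁻¹ ∈ L)
    (hn : ∃ n ∈ Subgroup.normalizer ((triHom ha hb hc hab hac hbc).range : Set G), n * a * n⁻¹ ≠ a) :
    Nat.card (Subgroup.normalizer ((triHom ha hb hc hab hac hbc).range : Set G)) = 168 := by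
  classical
  haveI : Fact (Nat.Prime 2) := ⟨Nat.prime_two⟩
  have hT2 := normalizer_inf_centralizer ha hb hc hab hac hbc hinj S hS hC hρa hρb hρc L hLb hLc hLa hL
  set E := (triHom ha hb hc hab hac hbc).range with hE
  set N := Subgroup.normalizer (E : Set G) with hN
  have memE : ∀ g, g ∈ E ↔ ∃ v, g = tri a b c v := mem_range_triHom ha hb hc hab hac hbc
  have hEN : E ≤ N := Subgroup.le_normalizer
  have hρN : ρ ∈ N := by
    apply mem_normalizer_of_conj_mem
    intro x hx
    obtain ⟨v, rfl⟩ := (memE x).mp hx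
    rw [rho_conj_tri hb hc hbc hρa hρb hρc]
    exact (memE _).mpr ⟨_, rfl⟩
  have hcardE : Nat.card E = 8 := by
    have hinj' : Function.Injective (triHom ha hb hc hab hac hbc) := by
      intro v w hvw
      have : tri a b c (Multiplicative.toAdd v) = tri a b c (Multiplicative.toAdd w) := hvw
      exact Multiplicative.toAdd.injective (hinj this)
    rw [← card_zmod2_cube]
    exact (Nat.card_congr (MonoidHom.ofInjective hinj').toEquiv).symm
  have haE : a ∈ E := (memE a).mpr ⟨_, tri_100.symm⟩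
  have ha1 : a ≠ 1 := by
    intro h
    have := hinj ((tri_100 (a := a) (b := b) (c := c)).trans (h.trans (tri_zero (a := a) (b := b) (c := c)).symm))
    revert this
    decide
  have hcomm : ∀ e ∈ E, ∀ w, e * tri a b c w * e⁻¹ = tri a b c w := by
    intro e he w
    obtain ⟨v, rfl⟩ := (memE e).mp he
    exact tri_conj_tri ha hb hc hab hac hbc v w
  -- the order of the centraliser of `a` in the normaliser
  have hNa : Nat.card ↥(N ⊓ Subgroup.centralizer {a}) = 24 := by
    have cρ : Commute ρ a := mul_inv_eq_iff_eq_mul.mp hρa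
    have hmemNa : ∀ (k : ℕ) (e : ↥E), ρ ^ k * (e : G) ∈ N ⊓ Subgroup.centralizer {a} := by
      intro k e
      refine Subgroup.mem_inf.mpr ⟨mul_mem (pow_mem hρN k) (hEN e.2), ?_⟩
      rw [Subgroup.mem_centralizer_singleton_iff]
      have ce : Commute (e : G) a := by
        have := hcomm e e.2 (1, 0, 0)
        rw [tri_100] at this
        exact mul_inv_eq_iff_eq_mul.mp this
      exact ((cρ.pow_left k).mul_left ce).eq
    let f : Fin 3 × ↥E → ↥(N ⊓ Subgroup.centralizer {a}) :=
      fun p => ⟨ρ ^ (p.1 : ℕ) * (p.2 : G), hmemNa _ _⟩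
    have key : ∀ (j : ℕ) (e : ↥E), (ρ ^ j * (e : G)) * b * (ρ ^ j * (e : G))⁻¹ =
        tri a b c (sig^[j] (0, 1, 0)) := by
      intro j e
      have he : (e : G) * b * (e : G)⁻¹ = b := by
        have := hcomm e e.2 (0, 1, 0)
        rw [tri_010] at this
        exact this
      rw [show ρ ^ j * (e : G) * b * (ρ ^ j * (e : G))⁻¹ =
        ρ ^ j * ((e : G) * b * (e : G)⁻¹) * (ρ ^ j)⁻¹ by group, he,
        ← rho_pow_conj_tri hb hc hbc hρa hρb hρc, tri_010]
    have hf : Function.Bijective f := by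
      constructor
      · rintro ⟨k, e⟩ ⟨k', e'⟩ h
        have h1 : ρ ^ (k : ℕ) * (e : G) = ρ ^ (k' : ℕ) * (e' : G) := congrArg Subtype.val h
        have h2 := key k e
        rw [h1, key k' e'] at h2
        have h3 := hinj h2
        have hk : k = k' := sig_iter_inj k k' h3
        subst hk
        have h4 : (e : G) = e' := mul_left_cancel h1
        rw [Subtype.ext h4]
      · rintro ⟨g, hg⟩
        obtain ⟨hgN, hgC⟩ := Subgroup.mem_inf.mp hg
        rw [Subgroup.mem_centralizer_singleton_iff] at hgC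
        have hga : g * a * g⁻¹ = a := by rw [hgC, mul_assoc, mul_inv_cancel, mul_one]
        rcases hT2 g hgN hga with h | h | h
        · exact ⟨(0, ⟨g, h⟩), Subtype.ext (by simp [f])⟩
        · exact ⟨(1, ⟨ρ⁻¹ * g, h⟩), Subtype.ext (by simp [f])⟩
        · exact ⟨(2, ⟨ρ⁻¹ * ρ⁻¹ * g, h⟩), Subtype.ext (by simp [f, pow_two, mul_assoc])⟩
    rw [← Nat.card_eq_of_bijective f hf, Nat.card_prod, Nat.card_eq_fintype_card, Fintype.card_fin,
      hcardE]
  -- the orbit of `a`
  set O : Set G := {x | ∃ n ∈ N, x = n * a * n⁻¹} with hO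
  have hcardN : Nat.card N = 24 * O.ncard := by
    rw [← hNa]
    exact card_eq_card_inf_centralizer_mul N a
  have hr : ∃ r, r % 2 = 1 ∧ Nat.card N = 8 * r := by
    refine ⟨E.relIndex N, ?_, ?_⟩
    · have h1 : ¬ 2 ∣ E.index := hS ▸ S.not_dvd_index
      have h2 : E.relIndex N ∣ E.index := Subgroup.relIndex_dvd_index_of_le hEN
      have : ¬ 2 ∣ E.relIndex N := fun h => h1 (h.trans h2)
      omega
    · have := (E.subgroupOf N).card_mul_index
      rw [Nat.card_congr (Subgroup.subgroupOfEquivOfLe hEN).toEquiv, hcardE] at this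
      exact this.symm
  set s : Finset (ZMod 2 × ZMod 2 × ZMod 2) := Finset.univ.filter (fun v => tri a b c v ∈ O) with hs
  have hmems : ∀ v, v ∈ s ↔ tri a b c v ∈ O := by
    intro v
    rw [hs, Finset.mem_filter]
    exact ⟨fun h => h.2, fun h => ⟨Finset.mem_univ _, h⟩⟩
  have hOE : ∀ x ∈ O, x ∈ E := by
    rintro x ⟨n, hn, rfl⟩
    exact ((Subgroup.mem_normalizer_iff.mp hn) a).mp haE
  have hOs : O = tri a b c '' (s : Set (ZMod 2 × ZMod 2 × ZMod 2)) := by
    ext x
    constructor
    · intro hx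
      obtain ⟨v, hv⟩ := (memE _).mp (hOE x hx)
      refine ⟨v, ?_, hv.symm⟩
      rw [Finset.mem_coe, hmems, ← hv]
      exact hx
    · rintro ⟨v, hv, rfl⟩
      exact (hmems v).mp hv
  have hncard : O.ncard = s.card := by
    rw [hOs, Set.ncard_image_of_injective _ hinj, Set.ncard_coe_finset]
  have h7 : s.card = 7 := by
    apply orbProp_all s
    · rw [hmems, tri_100]
      exact ⟨1, one_mem _, by simp⟩
    · rw [hmems]
      rintro ⟨n, hn, h⟩
      apply ha1
      have h0 : tri a b c ((0 : ZMod 2), (0 : ZMod 2), (0 : ZMod 2)) = 1 := tri_zero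
      rw [h0] at h
      have : a = n⁻¹ * (n * a * n⁻¹) * n := by group
      rw [this, ← h]
      group
    · intro v hv
      rw [hmems] at hv ⊢
      obtain ⟨n, hn, h⟩ := hv
      refine ⟨ρ * n, mul_mem hρN hn, ?_⟩
      rw [← rho_conj_tri hb hc hbc hρa hρb hρc, h]
      group
    · obtain ⟨n, hn, hna⟩ := hn
      have h1 : n * a * n⁻¹ ∈ O := ⟨n, hn, rfl⟩
      obtain ⟨v, hv⟩ := (memE _).mp (hOE _ h1)
      refine ⟨v, ?_, ?_⟩
      · rw [hmems, ← hv]
        exact h1
      · rintro rfl
        apply hna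
        rw [hv, tri_100]
    · rw [← hncard]
      obtain ⟨r, hr1, hr2⟩ := hr
      omega
  rw [hcardN, hncard, h7]

end main

end Cfsg.Agent.Helper7.Tri
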