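import Mathlib
import Cfsg.Agent.Helper7.ReeSylB
import Cfsg.Agent.Helper7.TriNorm3
import Cfsg.Agent.Helper1.AbelianSylow

set_option autoImplicit false
set_option linter.unusedSectionVars false
set_option linter.unusedVariables false

/-!
The normaliser of a Sylow 2-subgroup of the Ree group.
-/

namespace Cfsg.Agent.Helper7.ReeAut

open Cfsg Cfsg.Lie Matrix Cfsg.Agent.Helper7.Chev Cfsg.Agent.Helper7.Tri

variable {K : Type*} [Field K] [Fintype K] [CharP K 3] {m : ℕ}
  (hK : Fintype.card K = 3 ^ (2 * m + 1))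

/-- The element of order 3 normalising the Sylow 2-subgroup. -/
noncomputable def rhoS (m : ℕ) {u v : K} (huv : u ^ 2 + v ^ 2 = -1) : ↥(twistedG2 K (3 ^ m)) :=
  rPhi K m (rhoSL u v huv)

theorem rhoS_conj_aS {u v : K} (huv : u ^ 2 + v ^ 2 = -1) :
    rhoS m huv * aS hK * (rhoS m huv)⁻¹ = aS hK := by
  unfold rhoS
  rw [← aS_comm_rPhi, mul_assoc, mul_inv_cancel, mul_one]

theorem rhoS_conj_bS {u v : K} (huv : u ^ 2 + v ^ 2 = -1) :
    rhoS m huv * bS K m * (rhoS m huv)⁻¹ = cS m huv := by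
  unfold rhoS bS cS
  rw [← map_mul, rhoSL_mul_anti, map_mul, mul_assoc, mul_inv_cancel, mul_one]

theorem rhoS_conj_cS {u v : K} (huv : u ^ 2 + v ^ 2 = -1) :
    rhoS m huv * cS m huv * (rhoS m huv)⁻¹ = bS K m * cS m huv := by
  unfold rhoS bS cS
  rw [← map_mul, rhoSL_mul_z, map_mul, mul_assoc, mul_inv_cancel, mul_one, map_mul]

include hK in
theorem rPhi_eq_iff (x y : Matrix.SpecialLinearGroup (Fin 2) K) :
    rPhi K m x = rPhi K m y ↔ x = y ∨ x = -y := by
  have h1 : rPhi K m x = rPhi K m y ↔ rPhi K m (x * y⁻¹) = 1 := by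
    rw [map_mul, map_inv, mul_inv_eq_one]
  rw [h1, rPhi_eq_one_iff hK]
  constructor
  · rintro (h | h)
    · left
      exact mul_inv_eq_one.mp h
    · right
      have : x = x * y⁻¹ * y := by group
      rw [this, h, neg_one_mul]
  · rintro (rfl | rfl)
    · left
      exact mul_inv_cancel _
    · right
      rw [neg_mul, mul_inv_cancel]

theorem mem_range_eHom {u v : K} (huv : u ^ 2 + v ^ 2 = -1) (g : ↥(twistedG2 K (3 ^ m))) :
    g ∈ (eHom hK huv).range ↔ ∃ w, g = tri (aS hK) (bS K m) (cS m huv) w :=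
  mem_range_triHom _ _ _ _ _ _ g

theorem tri_injective {u v : K} (huv : u ^ 2 + v ^ 2 = -1) :
    Function.Injective (tri (aS hK) (bS K m) (cS m huv)) := by
  intro w w' h
  have : eHom hK huv (Multiplicative.ofAdd w) = eHom hK huv (Multiplicative.ofAdd w') := h
  exact Multiplicative.ofAdd.injective (eHom_injective hK huv this)

/-- The centraliser of the Sylow 2-subgroup. -/
theorem centralizer_range_eHom {u v : K} (huv : u ^ 2 + v ^ 2 = -1) :
    Subgroup.centralizer ((eHom hK huv).range : Set ↥(twistedG2 K (3 ^ m))) ≤ (eHom hK huv).range := by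
  intro g hg
  rw [Subgroup.mem_centralizer_iff] at hg
  have haE : aS hK ∈ (eHom hK huv).range := (mem_range_eHom hK huv _).mpr ⟨(1, 0, 0), tri_100.symm⟩
  have hbE : bS K m ∈ (eHom hK huv).range := (mem_range_eHom hK huv _).mpr ⟨(0, 1, 0), tri_010.symm⟩
  have hcE : cS m huv ∈ (eHom hK huv).range := (mem_range_eHom hK huv _).mpr ⟨(0, 0, 1), tri_001.symm⟩
  have hga : aS hK * g * (aS hK)⁻¹ = g := by
    rw [hg _ haE, mul_assoc, mul_inv_cancel, mul_one]
  have key : ∀ x : Matrix.SpecialLinearGroup (Fin 2) K, bS K m * rPhi K m x = rPhi K m x * bS K m →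
      cS m huv * rPhi K m x = rPhi K m x * cS m huv →
      ∃ j k : ZMod 2, rPhi K m x = bS K m ^ j.val * cS m huv ^ k.val := by
    intro x hb hc
    unfold bS at hb
    unfold cS at hc
    rw [← map_mul, ← map_mul, rPhi_eq_iff hK] at hb hc
    have h1 : x * antiSL = antiSL * x ∨ x * antiSL = -(antiSL * x) := by
      rcases hb with h | h
      · exact Or.inl h.symm
      · right
        rw [h, neg_neg]
    have h3 : x * zSL u v huv = zSL u v huv * x ∨ x * zSL u v huv = -(zSL u v huv * x) := by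
      rcases hc with h | h
      · exact Or.inl h.symm
      · right
        rw [h, neg_neg]
    rcases sl2_centralizer_mod (two_ne_zero' K) huv x h1 h3 with
      rfl | rfl | rfl | rfl | rfl | rfl | rfl | rfl
    · exact ⟨0, 0, by simp⟩
    · exact ⟨0, 0, by rw [rPhi_neg hK]; simp⟩
    · exact ⟨1, 0, by simp [ZMod.val_one, bS]⟩
    · exact ⟨1, 0, by rw [rPhi_neg hK]; simp [ZMod.val_one, bS]⟩
    · exact ⟨0, 1, by simp [ZMod.val_one, cS]⟩
    · exact ⟨0, 1, by rw [rPhi_neg hK]; simp [ZMod.val_one, cS]⟩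
    · exact ⟨1, 1, by simp [ZMod.val_one, bS, cS]⟩
    · exact ⟨1, 1, by rw [rPhi_neg hK]; simp [ZMod.val_one, bS, cS]⟩
  obtain ⟨x, h | h⟩ := centralizer_aS hK g hga
  · have hb := hg _ hbE
    have hc := hg _ hcE
    rw [h] at hb hc
    obtain ⟨j, k, e⟩ := key x hb hc
    rw [h, e]
    exact (mem_range_eHom hK huv _).mpr ⟨(0, j, k), by simp [tri]⟩
  · have hb := hg _ hbE
    have hc := hg _ hcE
    rw [h] at hb hc
    have hb' : bS K m * rPhi K m x = rPhi K m x * bS K m := by
      have e1 : bS K m * (aS hK * rPhi K m x) = aS hK * (bS K m * rPhi K m x) := by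
        rw [← mul_assoc, ← (aS_comm_bS hK).eq, mul_assoc]
      rw [e1, mul_assoc] at hb
      exact mul_left_cancel hb
    have hc' : cS m huv * rPhi K m x = rPhi K m x * cS m huv := by
      have e1 : cS m huv * (aS hK * rPhi K m x) = aS hK * (cS m huv * rPhi K m x) := by
        rw [← mul_assoc, ← (aS_comm_cS hK huv).eq, mul_assoc]
      rw [e1, mul_assoc] at hc
      exact mul_left_cancel hc
    obtain ⟨j, k, e⟩ := key x hb' hc'
    rw [h, e]
    exact (mem_range_eHom hK huv _).mpr ⟨(1, j, k), by simp [tri, ZMod.val_one, mul_assoc]⟩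

end Cfsg.Agent.Helper7.ReeAut
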