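import Mathlib
import Cfsg.Agent.Helper7.ReeSylC

set_option autoImplicit false
set_option linter.unusedSectionVars false
set_option linter.unusedVariables false

/-!
The normaliser of a Sylow 2-subgroup of the Ree group has order 168.
-/

namespace Cfsg.Agent.Helper7.ReeAut

open Cfsg Cfsg.Lie Matrix Cfsg.Agent.Helper7.Chev Cfsg.Agent.Helper7.Tri

variable {K : Type*} [Field K] [Fintype K] [CharP K 3] {m : ℕ}
  (hK : Fintype.card K = 3 ^ (2 * m + 1))

/-- The centraliser of the involution normalises the image of `SL₂`. -/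
theorem conj_mem_range_rPhi (g : ↥(twistedG2 K (3 ^ m))) (hg : g * aS hK * g⁻¹ = aS hK)
    (x : ↥(twistedG2 K (3 ^ m))) (hx : x ∈ (rPhi K m).range) : g * x * g⁻¹ ∈ (rPhi K m).range := by
  obtain ⟨y, rfl⟩ := hx
  have hg' : aS hK * g * (aS hK)⁻¹ = g := by
    have h1 : g * aS hK = aS hK * g := mul_inv_eq_iff_eq_mul.mp hg
    rw [← h1, mul_assoc, mul_inv_cancel, mul_one]
  obtain ⟨x₁, h | h⟩ := centralizer_aS hK g hg'
  · exact ⟨x₁ * y * x₁⁻¹, by rw [map_mul, map_mul, map_inv, h]⟩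
  · refine ⟨x₁ * y * x₁⁻¹, ?_⟩
    have e1 : g * rPhi K m y * g⁻¹ = aS hK * rPhi K m (x₁ * y * x₁⁻¹) * (aS hK)⁻¹ := by
      rw [h, map_mul, map_mul, map_inv]
      group
    rw [e1, aS_comm_rPhi, mul_inv_cancel_right]

/-- Some element of the normaliser of the Sylow 2-subgroup does not centralise the involution. -/
theorem exists_normalizer_not_comm (hm1 : 1 ≤ m) {u v : K} (huv : u ^ 2 + v ^ 2 = -1) :
    ∃ n ∈ Subgroup.normalizer ((eHom hK huv).range : Set ↥(twistedG2 K (3 ^ m))),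
      n * aS hK * n⁻¹ ≠ aS hK := by
  haveI : Fact (Nat.Prime 2) := ⟨Nat.prime_two⟩
  by_contra hcon
  have hall : ∀ n ∈ Subgroup.normalizer ((eHom hK huv).range : Set ↥(twistedG2 K (3 ^ m))),
      n * aS hK * n⁻¹ = aS hK := by
    intro n hn
    by_contra h
    exact hcon ⟨n, hn, h⟩
  set P := eSylow hK huv with hP
  have hPc : IsMulCommutative P := by
    refine ⟨⟨?_⟩⟩
    rintro ⟨x, hx⟩ ⟨y, hy⟩
    apply Subtype.ext
    obtain ⟨w, rfl⟩ := hx
    obtain ⟨w', rfl⟩ := hy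
    change eHom hK huv w * eHom hK huv w' = eHom hK huv w' * eHom hK huv w
    rw [← map_mul, ← map_mul, mul_comm]
  obtain ⟨-, h2, -⟩ := Cfsg.Agent.Helper1.abelian_sylow_decomp P hPc
  have h3 := Cfsg.Agent.Helper1.abelian_sylow_commutator_inf P hPc
  rw [ree_S1116 hK hm1, top_inf_eq] at h3
  have haP : aS hK ∈ (P : Subgroup ↥(twistedG2 K (3 ^ m))) :=
    (mem_range_eHom hK huv _).mpr ⟨(1, 0, 0), tri_100.symm⟩
  have haC : aS hK ∈ Subgroup.centralizer
      ((Subgroup.normalizer ((P : Subgroup ↥(twistedG2 K (3 ^ m))) : Set ↥(twistedG2 K (3 ^ m))) :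
        Subgroup ↥(twistedG2 K (3 ^ m))) : Set ↥(twistedG2 K (3 ^ m))) := by
    rw [Subgroup.mem_centralizer_iff]
    intro n hn
    have := hall n hn
    exact (mul_inv_eq_iff_eq_mul.mp this)
  have haN : aS hK ∈ ⁅Subgroup.normalizer (P : Set ↥(twistedG2 K (3 ^ m))),
      Subgroup.normalizer (P : Set ↥(twistedG2 K (3 ^ m)))⁆ ⊓ (P : Subgroup ↥(twistedG2 K (3 ^ m))) := by
    rw [← h3]
    exact haP
  have : aS hK ∈ (⊥ : Subgroup ↥(twistedG2 K (3 ^ m))) := by
    rw [← h2]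
    exact Subgroup.mem_inf.mpr ⟨haN, Subgroup.mem_inf.mpr ⟨haP, haC⟩⟩
  exact aS_ne_one hK (Subgroup.mem_bot.mp this)

/-- The normaliser of the Sylow 2-subgroup `E` has order 168. -/
theorem card_normalizer_range_eHom (hm1 : 1 ≤ m) {u v : K} (huv : u ^ 2 + v ^ 2 = -1) :
    Nat.card (Subgroup.normalizer ((eHom hK huv).range : Set ↥(twistedG2 K (3 ^ m)))) = 168 := by
  have hLb : bS K m ∈ (rPhi K m).range := ⟨_, rfl⟩
  have hLc : cS m huv ∈ (rPhi K m).range := ⟨_, rfl⟩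
  have hLa : aS hK ∉ (rPhi K m).range := by
    rintro ⟨x, hx⟩
    exact rPhi_ne_aS hK x hx
  exact card_normalizer_eq_168 (aS_mul_aS hK) (bS_mul_self hK) (cS_mul_self hK huv) (aS_comm_bS hK)
    (aS_comm_cS hK huv) (bS_comm_cS hK huv) (tri_injective hK huv) (eSylow hK huv) rfl
    (centralizer_range_eHom hK huv) (rhoS_conj_aS hK huv) (rhoS_conj_bS huv) (rhoS_conj_cS huv)
    (rPhi K m).range hLb hLc hLa (conj_mem_range_rPhi hK) (exists_normalizer_not_comm hK hm1 huv)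

end Cfsg.Agent.Helper7.ReeAut
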