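import Mathlib
import Cfsg.Agent.Helper7.ReeSylD

set_option autoImplicit false
set_option linter.unusedSectionVars false
set_option linter.unusedVariables false

/-!
The statement of S1157: the centraliser and the normaliser of a Sylow 2-subgroup of the Ree group.
-/

namespace Cfsg.Agent.Helper7.ReeAut

open Cfsg Cfsg.Lie Matrix Cfsg.Agent.Helper7.Chev Cfsg.Agent.Helper7.Tri

/-- The statement of S1157. -/
theorem ree_S1157 {K : Type*} [Field K] [Fintype K] {m : ℕ} (hm : 1 ≤ m)
    (hK : Fintype.card K = 3 ^ (2 * m + 1))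
    (S : Sylow 2 ↥(Cfsg.Lie.twistedG2 K (3 ^ m))) :
    Subgroup.centralizer ((S : Subgroup ↥(Cfsg.Lie.twistedG2 K (3 ^ m))) :
        Set ↥(Cfsg.Lie.twistedG2 K (3 ^ m))) = S ∧
      Nat.card (Subgroup.normalizer ((S : Subgroup ↥(Cfsg.Lie.twistedG2 K (3 ^ m))) :
        Set ↥(Cfsg.Lie.twistedG2 K (3 ^ m)))) = 168 := by
  haveI := charP_three_of_card (by omega) hK
  obtain ⟨u, v, huv⟩ := exists_xy (m := m) hK
  obtain ⟨g, hg⟩ := sylow_two_eq hK huv S
  have hSE : (S : Subgroup ↥(twistedG2 K (3 ^ m))) =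
      (eHom hK huv).range.map (MulAut.conj g).toMonoidHom := by
    ext z
    rw [hg, Subgroup.mem_map_equiv]
    simp [MulAut.conj_symm_apply]
  constructor
  · ext x
    constructor
    · intro hx
      rw [hg]
      apply centralizer_range_eHom hK huv
      rw [Subgroup.mem_centralizer_iff]
      intro e he
      have he' : g * e * g⁻¹ ∈ (S : Subgroup ↥(twistedG2 K (3 ^ m))) := by
        rw [hg]
        have : g⁻¹ * (g * e * g⁻¹) * g = e := by group
        rw [this]
        exact he
      have h1 := (Subgroup.mem_centralizer_iff.mp hx) _ he'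
      have h2 : e * (g⁻¹ * x * g) = g⁻¹ * ((g * e * g⁻¹) * x) * g := by group
      rw [h2, h1]
      group
    · intro hx
      rw [Subgroup.mem_centralizer_iff]
      intro y hy
      have hx' := (hg x).mp hx
      have hy' := (hg y).mp hy
      obtain ⟨w, hw⟩ := hx'
      obtain ⟨w', hw'⟩ := hy'
      have h1 : (g⁻¹ * y * g) * (g⁻¹ * x * g) = (g⁻¹ * x * g) * (g⁻¹ * y * g) := by
        rw [← hw, ← hw', ← map_mul, ← map_mul, mul_comm]
      have h2 : y * x = g * ((g⁻¹ * y * g) * (g⁻¹ * x * g)) * g⁻¹ := by group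
      rw [h2, h1]
      group
  · rw [hSE, ← Subgroup.map_equiv_normalizer_eq, ← card_normalizer_range_eHom hK hm huv]
    exact (Nat.card_congr ((MulAut.conj g).subgroupMap _).toEquiv).symm

end Cfsg.Agent.Helper7.ReeAut
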