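import Mathlib

set_option autoImplicit false

/-!
The field with four elements as an enumeration, and three by three matrices over it as records,
for brute force checks in the kernel.
-/

namespace Cfsg.Agent.Helper7.F4Mat

/-- The field with four elements: `0`, `1`, `ω`, `ω + 1`. -/
inductive F4 : Type
  | z | o | w | v
  deriving DecidableEq

namespace F4

/-- Addition. -/
def add : F4 → F4 → F4
  | z, b => b
  | o, z => o | o, o => z | o, w => v | o, v => w
  | w, z => w | w, o => v | w, w => z | w, v => o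
  | v, z => v | v, o => w | v, w => o | v, v => z

/-- Multiplication. -/
def mul : F4 → F4 → F4
  | z, _ => z
  | o, b => b
  | w, z => z | w, o => w | w, w => v | w, v => o
  | v, z => z | v, o => v | v, w => o | v, v => w

/-- Inversion. -/
def inv : F4 → F4
  | z => z | o => o | w => v | v => w

instance : Fintype F4 := ⟨⟨[z, o, w, v], by decide⟩, by intro x; cases x <;> decide⟩

instance : Zero F4 := ⟨z⟩
instance : One F4 := ⟨o⟩
instance : Add F4 := ⟨add⟩
instance : Mul F4 := ⟨mul⟩
instance : Neg F4 := ⟨id⟩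
instance : Inv F4 := ⟨inv⟩

instance : CommRing F4 where
  add_assoc := by decide
  zero_add := by decide
  add_zero := by decide
  nsmul := nsmulRec
  zsmul := zsmulRec
  neg_add_cancel := by decide
  add_comm := by decide
  left_distrib := by decide
  right_distrib := by decide
  zero_mul := by decide
  mul_zero := by decide
  mul_assoc := by decide
  one_mul := by decide
  mul_one := by decide
  mul_comm := by decide

instance : Field F4 where
  exists_pair_ne := ⟨z, o, by decide⟩
  mul_inv_cancel := by decide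
  inv_zero := rfl
  nnqsmul := _
  qsmul := _

theorem card : Fintype.card F4 = 4 := rfl

theorem zero_def : (0 : F4) = z := rfl
theorem one_def : (1 : F4) = o := rfl
theorem add_def (a b : F4) : a + b = add a b := rfl
theorem mul_def (a b : F4) : a * b = mul a b := rfl

/-- Forcing the evaluation of an element. -/
def seq {β : Sort*} (a : F4) (k : F4 → β) : β :=
  match a with
  | z => k z | o => k o | w => k w | v => k v

theorem seq_eq {β : Sort*} (a : F4) (k : F4 → β) : seq a k = k a := by
  cases a <;> rfl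

/-- Universal quantification as a Boolean. -/
def all4 (p : F4 → Bool) : Bool := p z && (p o && (p w && p v))

theorem all4_spec {p : F4 → Bool} (h : all4 p = true) (a : F4) : p a = true := by
  simp only [all4, Bool.and_eq_true] at h
  obtain ⟨h1, h2, h3, h4⟩ := h
  cases a <;> assumption

end F4

open F4

/-- Three by three matrices. -/
structure M9 where
  /-- entry -/
  a : F4
  /-- entry -/
  b : F4
  /-- entry -/
  c : F4
  /-- entry -/
  d : F4
  /-- entry -/
  e : F4
  /-- entry -/
  f : F4
  /-- entry -/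
  g : F4
  /-- entry -/
  h : F4
  /-- entry -/
  i : F4
  deriving DecidableEq

namespace M9

/-- The matrix of a record. -/
def toMat (x : M9) : Matrix (Fin 3) (Fin 3) F4 := !![x.a, x.b, x.c; x.d, x.e, x.f; x.g, x.h, x.i]

/-- The record of a matrix. -/
def ofMat (A : Matrix (Fin 3) (Fin 3) F4) : M9 :=
  ⟨A 0 0, A 0 1, A 0 2, A 1 0, A 1 1, A 1 2, A 2 0, A 2 1, A 2 2⟩

theorem toMat_ofMat (A : Matrix (Fin 3) (Fin 3) F4) : toMat (ofMat A) = A := by
  ext i j
  fin_cases i <;> fin_cases j <;> rfl

theorem ofMat_toMat (x : M9) : ofMat (toMat x) = x := rfl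

theorem toMat_injective : Function.Injective toMat := by
  intro x y h
  rw [← ofMat_toMat x, ← ofMat_toMat y, h]

/-- The product. -/
def mul (x y : M9) : M9 :=
  ⟨x.a * y.a + x.b * y.d + x.c * y.g, x.a * y.b + x.b * y.e + x.c * y.h, x.a * y.c + x.b * y.f + x.c * y.i,
   x.d * y.a + x.e * y.d + x.f * y.g, x.d * y.b + x.e * y.e + x.f * y.h, x.d * y.c + x.e * y.f + x.f * y.i,
   x.g * y.a + x.h * y.d + x.i * y.g, x.g * y.b + x.h * y.e + x.i * y.h, x.g * y.c + x.h * y.f + x.i * y.i⟩

theorem toMat_mul (x y : M9) : toMat (mul x y) = toMat x * toMat y := by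
  ext i j
  fin_cases i <;> fin_cases j <;>
    simp [toMat, mul, Matrix.mul_apply, Fin.sum_univ_three]

/-- The product, with forced evaluation, passed to a continuation. -/
def mulS {β : Sort*} (x y : M9) (k : M9 → β) : β :=
  seq (x.a * y.a + x.b * y.d + x.c * y.g) fun a =>
  seq (x.a * y.b + x.b * y.e + x.c * y.h) fun b =>
  seq (x.a * y.c + x.b * y.f + x.c * y.i) fun c =>
  seq (x.d * y.a + x.e * y.d + x.f * y.g) fun d =>
  seq (x.d * y.b + x.e * y.e + x.f * y.h) fun e =>
  seq (x.d * y.c + x.e * y.f + x.f * y.i) fun f =>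
  seq (x.g * y.a + x.h * y.d + x.i * y.g) fun g =>
  seq (x.g * y.b + x.h * y.e + x.i * y.h) fun h =>
  seq (x.g * y.c + x.h * y.f + x.i * y.i) fun i =>
  k ⟨a, b, c, d, e, f, g, h, i⟩

theorem mulS_eq {β : Sort*} (x y : M9) (k : M9 → β) : mulS x y k = k (mul x y) := by
  simp only [mulS, seq_eq, mul]

/-- The identity. -/
def one : M9 := ⟨1, 0, 0, 0, 1, 0, 0, 0, 1⟩

theorem toMat_one : toMat one = 1 := by
  ext i j
  fin_cases i <;> fin_cases j <;> rfl

/-- The determinant (in characteristic two). -/
def det (x : M9) : F4 :=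
  x.a * (x.e * x.i + x.f * x.h) + x.b * (x.d * x.i + x.f * x.g) + x.c * (x.d * x.h + x.e * x.g)

theorem neg_eq (a : F4) : -a = a := rfl

theorem det_toMat (x : M9) : (toMat x).det = det x := by
  rw [Matrix.det_fin_three]
  simp only [toMat, det, Matrix.of_apply, Matrix.cons_val', Matrix.cons_val_zero,
    Matrix.cons_val_one, Matrix.cons_val_two, Matrix.cons_val_fin_one, Matrix.empty_val',
    Matrix.head_cons, Matrix.tail_cons, Matrix.head_fin_const]
  simp only [sub_eq_add_neg, neg_eq]
  ring

/-- Scalar matrices. -/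
def isScal (x : M9) : Bool :=
  decide (x.b = 0 ∧ x.c = 0 ∧ x.d = 0 ∧ x.f = 0 ∧ x.g = 0 ∧ x.h = 0 ∧ x.a = x.e ∧ x.e = x.i)

theorem isScal_iff (x : M9) : isScal x = true ↔ ∃ r : F4, toMat x = Matrix.scalar (Fin 3) r := by
  rw [isScal, decide_eq_true_eq]
  constructor
  · rintro ⟨h1, h2, h3, h4, h5, h6, h7, h8⟩
    obtain ⟨a, b, c, d, e, f, g, h, i⟩ := x
    simp only at h1 h2 h3 h4 h5 h6 h7 h8
    subst h1 h2 h3 h4 h5 h6 h7 h8
    refine ⟨a, ?_⟩
    ext i j
    fin_cases i <;> fin_cases j <;> simp [toMat]
  · rintro ⟨r, hr⟩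
    have e := congrArg ofMat hr
    rw [ofMat_toMat] at e
    subst e
    simp [ofMat, Matrix.scalar_apply, Matrix.diagonal]

/-- Universal quantification over matrices as a Boolean. -/
def all9 (p : M9 → Bool) : Bool :=
  all4 fun a => all4 fun b => all4 fun c => all4 fun d => all4 fun e => all4 fun f =>
  all4 fun g => all4 fun h => all4 fun i => p ⟨a, b, c, d, e, f, g, h, i⟩

theorem all9_spec {p : M9 → Bool} (h : all9 p = true) (x : M9) : p x = true := by
  obtain ⟨a, b, c, d, e, f, g, h', i⟩ := x
  exact all4_spec (all4_spec (all4_spec (all4_spec (all4_spec (all4_spec (all4_spec (all4_spec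
    (all4_spec h a) b) c) d) e) f) g) h') i

end M9

end Cfsg.Agent.Helper7.F4Mat
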