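import Mathlib
import Cfsg.Prelude.Def_GeometricClasses
import Cfsg.Agent.S5653
import Cfsg.Agent.Helper7.AschNotSUA
import Cfsg.Agent.Helper7.AschNotGenB

/-!
# `SU_n(q)` is not contained in a member of a geometric class, composite dimension (helper7):
decompositions into blocks of dimension at least two, fields of any degree at least two, tensor products.
-/

set_option autoImplicit false

namespace Cfsg.Agent.Helper7.AschU

open Cfsg Cfsg.Geo Matrix
open Cfsg.Agent.Helper7.Herm Cfsg.Agent.Helper8.GUOrder Cfsg.Agent.Helper8.SURoot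
  Cfsg.Agent.Helper8.AutSU Cfsg.Agent.Helper7.SUSimp Cfsg.Agent.S5653 Cfsg.Agent.Helper7.AschGen
open scoped MatrixGroups Matrix

variable {n : ℕ} {F : Type*} [Field F] [Fintype F]

theorem toGL_TU_eq {q : ℕ} [Fact (Fintype.card F = q ^ 2)] {p : Fin n → F}
    (hp : hermForm n F q p p = 0) {s : F} (hs : s ^ q + s = 0) :
    ((toGL n F q (TU q p s) : GL (Fin n) F) : Matrix (Fin n) (Fin n) F) =
      1 + Matrix.vecMulVec (s • p) (fun j => p j ^ q) := by
  change (mt (TU q p s) : Matrix (Fin n) (Fin n) F) = _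
  rw [mt_TU hp hs]
  unfold unitaryTransvection
  rw [Matrix.smul_vecMulVec]

theorem conj_dot (q : ℕ) (p x : Fin n → F) : (fun j => p j ^ q) ⬝ᵥ x = hermForm n F q x p := by
  rw [dotProduct_comm]
  rfl

/-- an isotropic vector not perpendicular to two given non-zero vectors -/
theorem exists_isotropic_not_perp_pair (q : ℕ) (hF : Fintype.card F = q ^ 2) (hn : 2 ≤ n)
    {x y : Fin n → F} (hx : x ≠ 0) (hy : y ≠ 0) :
    ∃ p : Fin n → F, hermForm n F q p p = 0 ∧ hermForm n F q x p ≠ 0 ∧ hermForm n F q y p ≠ 0 := by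
  haveI : Fact (Fintype.card F = q ^ 2) := ⟨hF⟩
  obtain ⟨p₁, hp₁, hxp₁⟩ : ∃ p : Fin n → F, hermForm n F q p p = 0 ∧ hermForm n F q x p ≠ 0 := by
    by_contra hcon
    push Not at hcon
    exact hx (eq_zero_of_forall_isotropic q hF hn hcon)
  obtain ⟨p₂, hp₂, hyp₂⟩ : ∃ p : Fin n → F, hermForm n F q p p = 0 ∧ hermForm n F q y p ≠ 0 := by
    by_contra hcon
    push Not at hcon
    exact hy (eq_zero_of_forall_isotropic q hF hn hcon)
  by_cases h1 : hermForm n F q y p₁ = 0
  swap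
  · exact ⟨p₁, hp₁, hxp₁, h1⟩
  by_cases h2 : hermForm n F q x p₂ = 0
  swap
  · exact ⟨p₂, hp₂, h2, hyp₂⟩
  -- a suitable combination
  obtain ⟨c, hc0, hc⟩ : ∃ c : F, c ≠ 0 ∧
      c ^ q * hermForm n F q p₁ p₂ + c * hermForm n F q p₂ p₁ = 0 := by
    by_cases ha : hermForm n F q p₁ p₂ = 0
    · refine ⟨1, one_ne_zero, ?_⟩
      rw [hermForm_swap hF p₂ p₁, ha, zero_pow (by have := one_le_q hF; omega), mul_zero, mul_zero,
        add_zero]
    · obtain ⟨ε, hε0, hε⟩ := exists_tz_ne_zero (F := F) (q := q)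
      have ha' : hermForm n F q p₂ p₁ ≠ 0 := by
        rw [hermForm_swap hF p₂ p₁]
        exact pow_ne_zero q ha
      refine ⟨ε * (hermForm n F q p₂ p₁)⁻¹, mul_ne_zero hε0 (inv_ne_zero ha'), ?_⟩
      have e1 : hermForm n F q p₁ p₂ = (hermForm n F q p₂ p₁) ^ q := hermForm_swap hF p₁ p₂
      rw [mul_pow, inv_pow, e1, mul_assoc, inv_mul_cancel₀ (pow_ne_zero q ha'), mul_one, mul_assoc,
        inv_mul_cancel₀ ha', mul_one]
      exact hε
  refine ⟨p₁ + c • p₂, ?_, ?_, ?_⟩
  · rw [hermForm_add_left, hermForm_add_right hF, hermForm_add_right hF, hermForm_smul_left,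
      hermForm_smul_left, hermForm_smul_right, hermForm_smul_right, hp₁, hp₂]
    linear_combination hc
  · rw [hermForm_add_right hF, hermForm_smul_right, h2, mul_zero, add_zero]
    exact hxp₁
  · rw [hermForm_add_right hF, hermForm_smul_right, h1, zero_add]
    exact mul_ne_zero (pow_ne_zero q hc0) hyp₂

/-- `SU_n(q)` does not permute the blocks of a decomposition into blocks of dimension at least two -/
theorem not_le_decompositionStabilizer_SU_block (q : ℕ) (hF : Fintype.card F = q ^ 2) (hn : 2 ≤ n)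
    {t k : ℕ} (hk : 2 ≤ k) (D : Fin t → Submodule F (Fin n → F)) (hD : IsMDecomposition k D) :
    ¬ GU n F q ⊓ specialLinear (Fin n) F ≤ decompositionStabilizer D := by
  intro hle
  haveI : Fact (Fintype.card F = q ^ 2) := ⟨hF⟩
  have ht := hD.two_le
  set i₀ : Fin t := ⟨0, by omega⟩ with hi₀
  set i₁ : Fin t := ⟨1, by omega⟩ with hi₁
  have hne : i₀ ≠ i₁ := by
    intro h; have := congrArg Fin.val h; simp [hi₀, hi₁] at this
  have hex : ∀ i, ∃ e : Fin n → F, e ∈ D i ∧ e ≠ 0 := by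
    intro i
    have hpos : 0 < Module.finrank F (D i) := by rw [hD.finrank_eq i]; exact hD.pos
    obtain ⟨⟨e, he⟩, he0⟩ := Module.finrank_pos_iff_exists_ne_zero.mp hpos
    exact ⟨e, he, fun h => he0 (Subtype.ext h)⟩
  obtain ⟨x, hxD, hx0⟩ := hex i₀
  obtain ⟨y, hyD, hy0⟩ := hex i₁
  obtain ⟨p, hp, hxp, hyp⟩ := exists_isotropic_not_perp_pair q hF hn hx0 hy0
  obtain ⟨s, hs0, hs⟩ := exists_tz_ne_zero (F := F) (q := q)
  have hmem := hle (toGL_mem (TU q p s))
  have hblock := maps_block_of_rankOne hk D hD _ _ _ (toGL_TU_eq hp hs) hmem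
  have key : ∀ i, ∀ v ∈ D i, hermForm n F q v p ≠ 0 → p ∈ D i := by
    intro i v hv hvp
    have h1 := hblock i v hv
    rw [conj_dot, smul_smul] at h1
    have h2 := (D i).sub_mem h1 hv
    rw [add_sub_cancel_left] at h2
    have := (D i).smul_mem (hermForm n F q v p * s)⁻¹ h2
    rwa [smul_smul, inv_mul_cancel₀ (mul_ne_zero hvp hs0), one_smul] at this
  have hp0 : p ∈ D i₀ ⊓ D i₁ := ⟨key i₀ x hxD hxp, key i₁ y hyD hyp⟩
  rw [(hD.indep.pairwiseDisjoint hne).eq_bot, Submodule.mem_bot] at hp0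
  rw [hp0] at hxp
  exact hxp (hermForm_zero_right x)

/-- `SU_n(q)`, `n ≥ 3`, does not normalise a field of any degree at least two -/
theorem not_le_subalgebraNormalizer_SU_deg (q : ℕ) (hF : Fintype.card F = q ^ 2) (hn : 3 ≤ n) {r : ℕ}
    (hr : 2 ≤ r) (K : Subalgebra F (Matrix (Fin n) (Fin n) F)) (hK : IsFieldSubalgebra r K) :
    ¬ GU n F q ⊓ specialLinear (Fin n) F ≤ subalgebraNormalizer K := by
  intro hle
  have : Fact (Fintype.card F = q ^ 2) := ⟨hF⟩
  set i₀ : Fin n := ⟨0, by omega⟩ with hi₀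
  set i₁ : Fin n := ⟨1, by omega⟩ with hi₁
  have hne : i₀ ≠ i₁ := by
    intro h; have := congrArg Fin.val h; simp [hi₀, hi₁] at this
  obtain ⟨l, hl⟩ := exists_lam hF
  set p : Fin n → F := Pi.single i₀ 1 + Pi.single i₁ l with hp_def
  have hp : hermForm n F q p p = 0 := by
    rw [hp_def, hermForm_pair_pair hne, one_pow, mul_one, hl, add_neg_cancel]
  obtain ⟨s, hs0, hs⟩ := exists_tz_ne_zero (F := F) (q := q)
  have hmem := hle (toGL_mem (TU q p s))
  have hval : ((toGL n F q (TU q p s) : GL (Fin n) F) : Matrix (Fin n) (Fin n) F) - 1 =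
      Matrix.vecMulVec (s • p) (fun j => (p j) ^ q) := by
    rw [toGL_TU_eq hp hs, add_sub_cancel_left]
  have hrank : 2 * (((toGL n F q (TU q p s) : GL (Fin n) F) : Matrix (Fin n) (Fin n) F) - 1).rank <
      Fintype.card (Fin n) := by
    rw [hval, Fintype.card_fin]
    have := Matrix.rank_vecMulVec_le (s • p) (fun j => (p j) ^ q)
    omega
  have hcomm := FEx.commute_of_rank_lt hK _ hmem hrank
  obtain ⟨κ, hκK, hκ⟩ := FEx.exists_nonscalar hr K hK
  set x : Fin n → F := Pi.single i₀ 1 with hx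
  have hxp : hermForm n F q x p = 1 := by
    rw [hx, hermForm_single_left, hp_def, pair_apply_left hne, one_pow, mul_one]
  have h1 : (((toGL n F q (TU q p s) : GL (Fin n) F) : Matrix (Fin n) (Fin n) F) * κ) *ᵥ x =
      (κ * ((toGL n F q (TU q p s) : GL (Fin n) F) : Matrix (Fin n) (Fin n) F)) *ᵥ x := by
    rw [hcomm κ hκK]
  rw [← Matrix.mulVec_mulVec, ← Matrix.mulVec_mulVec] at h1
  change mt (TU q p s) *ᵥ (κ *ᵥ x) = κ *ᵥ (mt (TU q p s) *ᵥ x) at h1
  rw [TU_mulVec hp hs, TU_mulVec hp hs, hxp, mul_one, Matrix.mulVec_add, Matrix.mulVec_smul] at h1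
  have h2 := add_left_cancel h1
  set c := hermForm n F q (κ *ᵥ x) p with hc
  have h2' : κ *ᵥ p = c • p := by
    have := congrArg (fun v => s⁻¹ • v) h2
    simp only [smul_smul] at this
    rw [← mul_assoc, inv_mul_cancel₀ hs0, one_mul, one_smul] at this
    exact this.symm
  have h3 : (κ - c • (1 : Matrix (Fin n) (Fin n) F)) *ᵥ p = 0 := by
    rw [Matrix.sub_mulVec, h2', Matrix.smul_mulVec, Matrix.one_mulVec, sub_self]
  have hmemK : κ - c • (1 : Matrix (Fin n) (Fin n) F) ∈ K := by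
    refine K.sub_mem hκK ?_
    rw [← Algebra.algebraMap_eq_smul_one]
    exact K.algebraMap_mem c
  have hv0 := FEx.mulVec_eq_zero hK hmemK (sub_ne_zero.mpr (hκ c)) h3
  have := congrFun hv0 i₀
  rw [hp_def, pair_apply_left hne, Pi.zero_apply] at this
  exact one_ne_zero this

/-- `SU_n(q)` is not contained in the stabiliser of a tensor decomposition -/
theorem not_le_tensorProductSubgroup_SU (q : ℕ) (hF : Fintype.card F = q ^ 2) (hn : 2 ≤ n)
    {n₁ n₂ : ℕ} (h₁ : 2 ≤ n₁) (h₂ : 2 ≤ n₂) (e : Fin n ≃ Fin n₁ × Fin n₂) (P : GL (Fin n) F) :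
    ¬ GU n F q ⊓ specialLinear (Fin n) F ≤ tensorProductSubgroup n₁ n₂ e P := by
  intro hle
  have : Fact (Fintype.card F = q ^ 2) := ⟨hF⟩
  set i₀ : Fin n := ⟨0, by omega⟩ with hi₀
  set i₁ : Fin n := ⟨1, by omega⟩ with hi₁
  have hne : i₀ ≠ i₁ := by
    intro h; have := congrArg Fin.val h; simp [hi₀, hi₁] at this
  obtain ⟨l, hl⟩ := exists_lam hF
  set p : Fin n → F := Pi.single i₀ 1 + Pi.single i₁ l with hp_def
  have hp : hermForm n F q p p = 0 := by
    rw [hp_def, hermForm_pair_pair hne, one_pow, mul_one, hl, add_neg_cancel]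
  obtain ⟨s, hs0, hs⟩ := exists_tz_ne_zero (F := F) (q := q)
  have hpi : p i₀ = 1 := by rw [hp_def, pair_apply_left hne]
  refine not_mem_tensorProductSubgroup h₁ h₂ e P _ (s • p) (fun j => p j ^ q) ?_ ?_
    (toGL_TU_eq hp hs) (hle (toGL_mem (TU q p s)))
  · intro h
    have := congrFun h i₀
    rw [Pi.smul_apply, hpi, smul_eq_mul, mul_one, Pi.zero_apply] at this
    exact hs0 this
  · intro h
    have := congrFun h i₀
    simp only [hpi, one_pow, Pi.zero_apply] at this
    exact one_ne_zero this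

end Cfsg.Agent.Helper7.AschU
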