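import Mathlib
import Cfsg.Prelude.Def_GeometricClasses
import Cfsg.Agent.Helper7.AschNotSUC
import Cfsg.Agent.Helper7.AschNotSUG

/-!
ASCH-COMP-U piece V7 (helper7): `SU_n(q)` is not contained in a member of the geometric classes, with the exact
signatures of `notes/helper3_aschCU_stubs.lean.txt`.
-/

set_option autoImplicit false

namespace Cfsg.Agent.Helper7.AschCU

open Cfsg Cfsg.Geo
open scoped MatrixGroups Matrix Kronecker

variable {n : ℕ} {F : Type*} [Field F] [Fintype F]

/-- counting dimensions in a decomposition -/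
theorem card_mul_of_decomp {t m : ℕ} (D : Fin t → Submodule F (Fin n → F)) (hD : IsMDecomposition m D) :
    t * m = n := by
  classical
  have hint := DirectSum.isInternal_submodule_of_iSupIndep_of_iSup_eq_top hD.indep hD.iSup_eq_top
  have e := LinearEquiv.ofBijective (DirectSum.coeLinearMap D) hint
  have h1 := e.finrank_eq
  rw [Module.finrank_directSum] at h1
  simp only [hD.finrank_eq, Finset.sum_const, Finset.card_univ, smul_eq_mul, Fintype.card_fin] at h1
  rw [Module.finrank_fin_fun] at h1
  exact h1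

/-- any block size, blocks non-degenerate and pairwise orthogonal -/
theorem not_le_decompositionStabilizer_SU_nondeg (q : ℕ) (hF : Fintype.card F = q ^ 2) (hn : 4 ≤ n) {t : ℕ} (m : ℕ)
    (D : Fin t → Submodule F (Fin n → F)) (hD : IsNondegenerateMDecomposition (hermForm n F q) m D) :
    ¬ GU n F q ⊓ specialLinear (Fin n) F ≤ decompositionStabilizer D := by
  have hpos := hD.decomp.pos
  rcases Nat.lt_or_ge m 2 with hm | hm
  · have hm1 : m = 1 := by omega
    subst hm1
    have htn : t = n := by
      have := card_mul_of_decomp D hD.decomp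
      omega
    subst htn
    exact Cfsg.Agent.Helper7.AschU.not_le_decompositionStabilizer_SU q hF hn D hD
  · exact Cfsg.Agent.Helper7.AschU.not_le_decompositionStabilizer_SU_block q hF (by omega) hm D hD.decomp

/-- two totally singular blocks -/
theorem not_le_decompositionStabilizer_SU_sing (q : ℕ) (hF : Fintype.card F = q ^ 2) (hn : 4 ≤ n) (m : ℕ)
    (D : Fin 2 → Submodule F (Fin n → F)) (hD : IsMDecomposition m D)
    (hts : ∀ i, IsTotallySingularFor (hermForm n F q) (D i)) :
    ¬ GU n F q ⊓ specialLinear (Fin n) F ≤ decompositionStabilizer D := by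
  have h2 := card_mul_of_decomp D hD
  exact Cfsg.Agent.Helper7.AschU.not_le_decompositionStabilizer_SU_block q hF (by omega) (by omega) D hD

/-- field subalgebras of any degree `r ≥ 2` -/
theorem not_le_subalgebraNormalizer_SU_gen (q : ℕ) (hF : Fintype.card F = q ^ 2) (hn : 3 ≤ n) (r : ℕ) (hr : 2 ≤ r)
    (K : Subalgebra F (Matrix (Fin n) (Fin n) F)) (hK : IsFieldSubalgebra r K) :
    ¬ GU n F q ⊓ specialLinear (Fin n) F ≤ subalgebraNormalizer K :=
  Cfsg.Agent.Helper7.AschU.not_le_subalgebraNormalizer_SU_deg q hF hn hr K hK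

theorem not_le_tensorProductSubgroup_SU (q : ℕ) (hF : Fintype.card F = q ^ 2) (n₁ n₂ : ℕ) (h1 : 2 ≤ n₁)
    (h2 : 2 ≤ n₂) (e : Fin n ≃ Fin n₁ × Fin n₂) (P : GL (Fin n) F) :
    ¬ GU n F q ⊓ specialLinear (Fin n) F ≤ tensorProductSubgroup n₁ n₂ e P := by
  have hcard := Fintype.card_congr e
  rw [Fintype.card_fin, Fintype.card_prod, Fintype.card_fin, Fintype.card_fin] at hcard
  have hn : 2 ≤ n := by nlinarith
  exact Cfsg.Agent.Helper7.AschU.not_le_tensorProductSubgroup_SU q hF hn h1 h2 e P

end Cfsg.Agent.Helper7.AschCU
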