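import Mathlib
import Cfsg.Prelude.Def_LieExceptional

/-!
# S1142 (Feit–Higman for rank 2 BN-pairs): common definitions

See `notes/S1142_blueprint_helper7.md`.
-/

set_option autoImplicit false

namespace Cfsg.Agent.Helper7.FH

/-- alternating word `x * y * x * ...` with `k` letters, the first letter being `x` -/
def alt {M : Type*} [Monoid M] : ℕ → M → M → M
  | 0, _, _ => 1
  | k + 1, x, y => x * alt k y x

@[simp] theorem alt_zero {M : Type*} [Monoid M] (x y : M) : alt 0 x y = 1 := rfl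

theorem alt_succ {M : Type*} [Monoid M] (k : ℕ) (x y : M) :
    alt (k + 1) x y = x * alt k y x := rfl

/-- "character values" on the alternating words of length `k` whose first letter has parameter `a`
(`t` is the trace of `T₁T₂`): `2, a-1, t, a(b-1)+(a-1)t, …` with `χ(k+4) = t χ(k+2) - ab χ(k)` -/
def chi (a b t : ℝ) : ℕ → ℝ
  | 0 => 2
  | 1 => a - 1
  | 2 => t
  | 3 => a * (b - 1) + (a - 1) * t
  | k + 4 => t * chi a b t (k + 2) - a * b * chi a b t k

/-- the sequence `u₀ = 0, u₁ = 1, u_{k+2} = t u_{k+1} - c2 u_k` -/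
def useq (t c2 : ℝ) : ℕ → ℝ
  | 0 => 0
  | 1 => 1
  | k + 2 => t * useq t c2 (k + 1) - c2 * useq t c2 k

section group

variable {G : Type*} [Group G]

/-- the double coset `B g B` -/
abbrev dc (B : Subgroup G) (g : G) : Set G := DoubleCoset.doubleCoset g (B : Set G) B

theorem mem_dc {B : Subgroup G} {g x : G} : x ∈ dc B g ↔ ∃ b ∈ B, ∃ b' ∈ B, x = b * g * b' :=
  DoubleCoset.mem_doubleCoset

open Classical in
/-- the `0/1` matrix of the relation `x⁻¹ y ∈ B g B` on `G ⧸ B` -/
noncomputable def relM (B : Subgroup G) (g : G) : Matrix (G ⧸ B) (G ⧸ B) ℝ :=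
  fun x y => if (Quotient.out x)⁻¹ * Quotient.out y ∈ dc B g then 1 else 0

open Classical in
theorem relM_apply (B : Subgroup G) (g : G) (x y : G ⧸ B) :
    relM B g x y = if (Quotient.out x)⁻¹ * Quotient.out y ∈ dc B g then 1 else 0 := rfl

/-- the number of left cosets of `B` contained in `B g B` -/
noncomputable def qd (B : Subgroup G) (g : G) : ℕ :=
  Nat.card {x : G ⧸ B // Quotient.out x ∈ dc B g}

end group

/-- The matrix data extracted from a rank 2 BN-pair (`F` = flags `G ⧸ B`). -/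
structure FHData (F : Type*) [Fintype F] [DecidableEq F] where
  /-- parameter of the first generator -/
  a : ℕ
  /-- parameter of the second generator -/
  b : ℕ
  /-- half the order of the Weyl group -/
  m : ℕ
  /-- adjacency operator of the first generator -/
  T₁ : Matrix F F ℝ
  /-- adjacency operator of the second generator -/
  T₂ : Matrix F F ℝ
  ha : 2 ≤ a
  hb : 2 ≤ b
  hm : 2 ≤ m
  hF : Nonempty F
  symm₁ : T₁.transpose = T₁
  symm₂ : T₂.transpose = T₂
  sq₁ : T₁ * T₁ = (a : ℝ) • (1 : Matrix F F ℝ) + ((a : ℝ) - 1) • T₁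
  sq₂ : T₂ * T₂ = (b : ℝ) • (1 : Matrix F F ℝ) + ((b : ℝ) - 1) • T₂
  braid : alt m T₁ T₂ = alt m T₂ T₁
  gramAA : ∀ k l : ℕ, k ≤ m → l ≤ m →
    Matrix.trace ((alt k T₁ T₂).transpose * alt l T₁ T₂) =
      if k = l then (Fintype.card F : ℝ) * ((a : ℝ) ^ ((k + 1) / 2) * (b : ℝ) ^ (k / 2)) else 0
  gramBB : ∀ k l : ℕ, k ≤ m → l ≤ m →
    Matrix.trace ((alt k T₂ T₁).transpose * alt l T₂ T₁) =
      if k = l then (Fintype.card F : ℝ) * ((b : ℝ) ^ ((k + 1) / 2) * (a : ℝ) ^ (k / 2)) else 0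
  gramAB : ∀ k l : ℕ, 1 ≤ k → k < m → l ≤ m →
    Matrix.trace ((alt k T₁ T₂).transpose * alt l T₂ T₁) = 0

namespace FHData

variable {F : Type*} [Fintype F] [DecidableEq F] (D : FHData F)

/-- number of flags, as a real -/
def n (_D : FHData F) : ℝ := (Fintype.card F : ℝ)

/-- `q_w` for the alternating word of length `k` starting with `T₁` -/
def qA (k : ℕ) : ℝ := (D.a : ℝ) ^ ((k + 1) / 2) * (D.b : ℝ) ^ (k / 2)

/-- `q_w` for the alternating word of length `k` starting with `T₂` -/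
def qB (k : ℕ) : ℝ := (D.b : ℝ) ^ ((k + 1) / 2) * (D.a : ℝ) ^ (k / 2)

/-- alternating word of length `k` starting with `T₁` -/
def A (k : ℕ) : Matrix F F ℝ := alt k D.T₁ D.T₂

/-- alternating word of length `k` starting with `T₂` -/
def B (k : ℕ) : Matrix F F ℝ := alt k D.T₂ D.T₁

/-- the projection `(1 + T₁)/(a + 1)` -/
noncomputable def p₁ : Matrix F F ℝ := ((D.a : ℝ) + 1)⁻¹ • (1 + D.T₁)

/-- the projection `(1 + T₂)/(b + 1)` -/
noncomputable def p₂ : Matrix F F ℝ := ((D.b : ℝ) + 1)⁻¹ • (1 + D.T₂)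

/-- the central element `(p₁ - p₂)²` -/
noncomputable def C : Matrix F F ℝ := (D.p₁ - D.p₂) * (D.p₁ - D.p₂)

/-- the algebra generated by `T₁, T₂` -/
def Alg : Subalgebra ℝ (Matrix F F ℝ) := Algebra.adjoin ℝ {D.T₁, D.T₂}

/-- the filtration by word length: the span of the alternating words of length `≤ j` -/
def Fil (j : ℕ) : Submodule ℝ (Matrix F F ℝ) :=
  Submodule.span ℝ ({X | ∃ k, k ≤ j ∧ X = D.A k} ∪ {X | ∃ k, k ≤ j ∧ X = D.B k})

/-- the constant `-1/((a+1)(b+1))` (leading coefficient of `C` on `T₁T₂ + T₂T₁`) -/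
noncomputable def kap : ℝ := (-1 : ℝ) / (((D.a : ℝ) + 1) * ((D.b : ℝ) + 1))

/-- the trace of `T₁T₂` in the two-dimensional representation with parameter `lam` -/
def t (lam : ℝ) : ℝ := ((D.a : ℝ) + 1) * ((D.b : ℝ) + 1) * lam - D.a - D.b

/-- `E` is a nonzero symmetric idempotent of the algebra, commuting with the generators, on whose
range the central element `C` acts as `1 - lam`, with `lam ≠ 0, 1`. -/
structure Eig (E : Matrix F F ℝ) (lam : ℝ) : Prop where
  mem : E ∈ D.Alg
  idem : E * E = E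
  symm : E.transpose = E
  ne : E ≠ 0
  comm₁ : E * D.T₁ = D.T₁ * E
  comm₂ : E * D.T₂ = D.T₂ * E
  eig : D.C * E = (1 - lam) • E
  lam0 : lam ≠ 0
  lam1 : lam ≠ 1

end FHData

end Cfsg.Agent.Helper7.FH
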