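import Cfsg.Agent.Helper7.ExtFN
import Cfsg.Agent.Helper7.FExB
import Cfsg.Agent.Helper7.ParabolicMax

set_option autoImplicit false
set_option linter.unusedSectionVars false
set_option linter.unusedSimpArgs false
set_option linter.unusedVariables false

/-! Extension-field normalisers (helper7): the transfer to matrices, and the maximality of the
normaliser of an extension field of prime degree in the general and special linear groups. -/

namespace Cfsg.Agent.Helper7.ExtF

open Module Matrix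

variable {F : Type*} [Field F] {n : ℕ}

theorem tower_of_smul {V : Type*} {K : Type*} [AddCommGroup V] [Module F V] [Field K]
    [Algebra F K] [Module K V] (key : ∀ (a : F) (k : K) (v : V), (a • k) • v = a • (k • v)) :
    IsScalarTower F K V := ⟨key⟩

/-- the general linear group as the group of automorphisms of the natural module. -/
noncomputable def theta : GL (Fin n) F ≃* ((Fin n → F) ≃ₗ[F] (Fin n → F)) :=
  Matrix.GeneralLinearGroup.toLin.trans
    (LinearMap.GeneralLinearGroup.generalLinearEquiv F (Fin n → F))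

theorem theta_apply (g : GL (Fin n) F) (v : Fin n → F) :
    theta g v = (g : Matrix (Fin n) (Fin n) F) *ᵥ v := rfl

theorem theta_toLinearMap (g : GL (Fin n) F) :
    ((theta g : (Fin n → F) ≃ₗ[F] (Fin n → F)) : (Fin n → F) →ₗ[F] (Fin n → F)) =
      Matrix.toLin' (g : Matrix (Fin n) (Fin n) F) := by
  ext v; rfl

theorem det_theta (g : GL (Fin n) F) :
    LinearMap.det ((theta g : (Fin n → F) ≃ₗ[F] (Fin n → F)) : (Fin n → F) →ₗ[F] (Fin n → F)) =
      (g : Matrix (Fin n) (Fin n) F).det := by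
  rw [theta_toLinearMap, LinearMap.det_toLin']

/-- semilinearity in terms of matrices. -/
def MSemi (K : Subalgebra F (Matrix (Fin n) (Fin n) F)) (g : GL (Fin n) F) : Prop :=
  ∀ c ∈ K, ∃ c' ∈ K, (g : Matrix (Fin n) (Fin n) F) * c = c' * (g : Matrix (Fin n) (Fin n) F)

theorem mem_normalizer_of_msemi [Finite F] (K : Subalgebra F (Matrix (Fin n) (Fin n) F))
    (g : GL (Fin n) F) (h : MSemi K g) : g ∈ Cfsg.Geo.subalgebraNormalizer K := by
  have hfwd : ∀ k ∈ K, (g : Matrix (Fin n) (Fin n) F) * k *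
      ((g⁻¹ : GL (Fin n) F) : Matrix (Fin n) (Fin n) F) ∈ K := by
    intro k hk
    obtain ⟨c', hc', hcc'⟩ := h k hk
    rw [hcc', mul_assoc, FEx.val_mul_inv, mul_one]
    exact hc'
  haveI : Finite (Matrix (Fin n) (Fin n) F) := inferInstanceAs (Finite (Fin n → Fin n → F))
  haveI : Finite ↥K := Subtype.finite
  let f : ↥K → ↥K := fun k => ⟨_, hfwd k.1 k.2⟩
  have hfinj : Function.Injective f := by
    intro k k' hkk'
    have h1 : (g : Matrix (Fin n) (Fin n) F) * k.1 *
        ((g⁻¹ : GL (Fin n) F) : Matrix (Fin n) (Fin n) F) =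
        (g : Matrix (Fin n) (Fin n) F) * k'.1 *
          ((g⁻¹ : GL (Fin n) F) : Matrix (Fin n) (Fin n) F) := congrArg Subtype.val hkk'
    have h2 : ((g⁻¹ : GL (Fin n) F) : Matrix (Fin n) (Fin n) F) *
        ((g : Matrix (Fin n) (Fin n) F) * k.1 *
          ((g⁻¹ : GL (Fin n) F) : Matrix (Fin n) (Fin n) F)) * (g : Matrix (Fin n) (Fin n) F) =
        ((g⁻¹ : GL (Fin n) F) : Matrix (Fin n) (Fin n) F) *
        ((g : Matrix (Fin n) (Fin n) F) * k'.1 *
          ((g⁻¹ : GL (Fin n) F) : Matrix (Fin n) (Fin n) F)) * (g : Matrix (Fin n) (Fin n) F) := by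
      rw [h1]
    have e : ∀ x : Matrix (Fin n) (Fin n) F,
        ((g⁻¹ : GL (Fin n) F) : Matrix (Fin n) (Fin n) F) *
          ((g : Matrix (Fin n) (Fin n) F) * x *
            ((g⁻¹ : GL (Fin n) F) : Matrix (Fin n) (Fin n) F)) *
          (g : Matrix (Fin n) (Fin n) F) = x := by
      intro x
      calc _ = (((g⁻¹ : GL (Fin n) F) : Matrix (Fin n) (Fin n) F) *
            (g : Matrix (Fin n) (Fin n) F)) * x *
            (((g⁻¹ : GL (Fin n) F) : Matrix (Fin n) (Fin n) F) *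
              (g : Matrix (Fin n) (Fin n) F)) := by simp only [mul_assoc]
        _ = x := by rw [FEx.val_inv_mul, one_mul, mul_one]
    rw [e, e] at h2
    exact Subtype.ext h2
  have hfsurj : Function.Surjective f := Finite.injective_iff_surjective.mp hfinj
  intro k
  refine ⟨hfwd k, fun hk => ?_⟩
  obtain ⟨c, hc⟩ := hfsurj ⟨_, hk⟩
  have h1 : (g : Matrix (Fin n) (Fin n) F) * c.1 *
      ((g⁻¹ : GL (Fin n) F) : Matrix (Fin n) (Fin n) F) =
      (g : Matrix (Fin n) (Fin n) F) * k *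
        ((g⁻¹ : GL (Fin n) F) : Matrix (Fin n) (Fin n) F) := congrArg Subtype.val hc
  have h2 : ((g⁻¹ : GL (Fin n) F) : Matrix (Fin n) (Fin n) F) *
      ((g : Matrix (Fin n) (Fin n) F) * c.1 *
        ((g⁻¹ : GL (Fin n) F) : Matrix (Fin n) (Fin n) F)) * (g : Matrix (Fin n) (Fin n) F) =
      ((g⁻¹ : GL (Fin n) F) : Matrix (Fin n) (Fin n) F) *
      ((g : Matrix (Fin n) (Fin n) F) * k *
        ((g⁻¹ : GL (Fin n) F) : Matrix (Fin n) (Fin n) F)) * (g : Matrix (Fin n) (Fin n) F) := by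
    rw [h1]
  have e : ∀ x : Matrix (Fin n) (Fin n) F,
      ((g⁻¹ : GL (Fin n) F) : Matrix (Fin n) (Fin n) F) *
        ((g : Matrix (Fin n) (Fin n) F) * x *
          ((g⁻¹ : GL (Fin n) F) : Matrix (Fin n) (Fin n) F)) *
        (g : Matrix (Fin n) (Fin n) F) = x := by
    intro x
    calc _ = (((g⁻¹ : GL (Fin n) F) : Matrix (Fin n) (Fin n) F) *
          (g : Matrix (Fin n) (Fin n) F)) * x *
          (((g⁻¹ : GL (Fin n) F) : Matrix (Fin n) (Fin n) F) *
            (g : Matrix (Fin n) (Fin n) F)) := by simp only [mul_assoc]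
      _ = x := by rw [FEx.val_inv_mul, one_mul, mul_one]
  rw [e, e] at h2
  rw [← h2]; exact c.2

theorem msemi_of_isSemi {r : ℕ} (hn : 0 < n) (K : Subalgebra F (Matrix (Fin n) (Fin n) F))
    (hK : Cfsg.Geo.IsFieldSubalgebra r K) (g : GL (Fin n) F)
    (h : haveI : Nonempty (Fin n) := ⟨⟨0, hn⟩⟩
      letI := FEx.fieldOfSub K hK
      letI := FEx.modOfSub K
      IsSemi ↥K (theta g)) : MSemi K g := by
  haveI : Nonempty (Fin n) := ⟨⟨0, hn⟩⟩
  letI := FEx.fieldOfSub K hK
  letI := FEx.modOfSub K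
  intro c hc
  obtain ⟨c', hc'⟩ := h ⟨c, hc⟩
  refine ⟨c'.1, c'.2, ?_⟩
  apply Matrix.toLin'.injective
  refine LinearMap.ext fun v => ?_
  have := hc' v
  rw [Matrix.toLin'_apply, Matrix.toLin'_apply, ← Matrix.mulVec_mulVec, ← Matrix.mulVec_mulVec]
  exact this

theorem mem_specialLinear_iff (g : GL (Fin n) F) :
    g ∈ Cfsg.Geo.specialLinear (Fin n) F ↔ (g : Matrix (Fin n) (Fin n) F).det = 1 := by
  unfold Cfsg.Geo.specialLinear
  rw [MonoidHom.mem_ker]
  constructor
  · intro h; exact congrArg Units.val h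
  · intro h; exact Units.ext h

/-- the main statement for matrices. -/
theorem sl_le_of_not_le [Finite F] {r : ℕ} (hr : r.Prime) (hrn : r < n)
    (K : Subalgebra F (Matrix (Fin n) (Fin n) F)) (hK : Cfsg.Geo.IsFieldSubalgebra r K)
    (M : Subgroup (GL (Fin n) F))
    (hNM : Cfsg.Geo.subalgebraNormalizer K ⊓ Cfsg.Geo.specialLinear (Fin n) F ≤ M)
    (hMN : ¬ M ≤ Cfsg.Geo.subalgebraNormalizer K) : Cfsg.Geo.specialLinear (Fin n) F ≤ M := by
  have hr2 := hr.two_le
  have hn : 0 < n := by omega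
  haveI : Nonempty (Fin n) := ⟨⟨0, hn⟩⟩
  haveI : Nontrivial (Fin n) := Fin.nontrivial_iff_two_le.mpr (by omega)
  letI := FEx.fieldOfSub K hK
  letI := FEx.modOfSub K
  have key : ∀ (a : F) (k : K) (v : Fin n → F), (a • k) • v = a • (k • v) :=
    fun a k v => FEx.smul_assoc' K a k v
  haveI := tower_of_smul (F := F) (K := ↥K) (V := Fin n → F) key
  haveI : Finite (Matrix (Fin n) (Fin n) F) := inferInstanceAs (Finite (Fin n → Fin n → F))
  haveI : Finite ↥K := Subtype.finite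
  have hrK : finrank F ↥K = r := hK.finrank_eq
  have hmul := FEx.finrank_mul hr.pos K hK
  rw [Fintype.card_fin] at hmul
  have h2 : 2 ≤ finrank ↥K (Fin n → F) := by
    by_contra hlt
    push Not at hlt
    have h1 : finrank ↥K (Fin n → F) ≤ 1 := by omega
    have := Nat.mul_le_mul_left r h1
    omega
  apply PMax.specialLinear_le_of_tau_mem M
  intro v φ h
  set M' : Subgroup ((Fin n → F) ≃ₗ[F] (Fin n → F)) :=
    M.comap (theta (F := F) (n := n)).symm.toMonoidHom with hM'def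
  have hmemM' : ∀ s, s ∈ M' ↔ theta.symm s ∈ M := fun s => Iff.rfl
  have hM' : ∀ s : (Fin n → F) ≃ₗ[F] (Fin n → F), IsSemi ↥K s →
      LinearMap.det (s : (Fin n → F) →ₗ[F] (Fin n → F)) = 1 → s ∈ M' := by
    intro s hs hdet
    rw [hmemM']
    apply hNM
    have hθ : theta (theta.symm s) = s := MulEquiv.apply_symm_apply _ _
    exact Subgroup.mem_inf.mpr
      ⟨mem_normalizer_of_msemi K _ (msemi_of_isSemi hn K hK _ (by rw [hθ]; exact hs)),
        (mem_specialLinear_iff _).mpr (by rw [← det_theta, hθ]; exact hdet)⟩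
  have hne' : ∃ g ∈ M', ¬ IsSemi ↥K g := by
    obtain ⟨g, hgM, hgN⟩ := SetLike.not_le_iff_exists.mp hMN
    refine ⟨theta g, ?_, ?_⟩
    · rw [hmemM', MulEquiv.symm_apply_apply]; exact hgM
    · intro hs
      exact hgN (mem_normalizer_of_msemi K g (msemi_of_isSemi hn K hK g hs))
  have hall := all_tv (F := F) (K := ↥K) (by rw [hrK]; exact hr) h2 M' hM' hne'
  let φ' : Module.Dual F (Fin n → F) :=
    { toFun := fun x => φ ⬝ᵥ x
      map_add' := fun x y => dotProduct_add φ x y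
      map_smul' := fun c x => by simp [dotProduct_smul] }
  have h0 : φ' v = 0 := h
  have h3 := hall φ' v h0
  have e : theta (TGL.tau v φ h) = ftv φ' v h0 := by
    ext1 x
    rw [theta_apply, TGL.tau_mulVec, ftv_apply]
    rfl
  rw [← e, hmemM', MulEquiv.symm_apply_apply] at h3
  exact h3

/-- some transvection does not normalise the field. -/
theorem exists_tau_notMem {r : ℕ} (hr : r.Prime) (hrn : r < n)
    (K : Subalgebra F (Matrix (Fin n) (Fin n) F)) (hK : Cfsg.Geo.IsFieldSubalgebra r K) :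
    ∃ (v φ : Fin n → F) (h : φ ⬝ᵥ v = 0), TGL.tau v φ h ∉ Cfsg.Geo.subalgebraNormalizer K := by
  have hr2 := hr.two_le
  have hn3 : 3 ≤ n := by omega
  set i₀ : Fin n := ⟨0, by omega⟩ with hi₀
  set i₁ : Fin n := ⟨1, by omega⟩ with hi₁
  have hne : i₁ ≠ i₀ := by
    intro h; have := congrArg Fin.val h; simp [hi₀, hi₁] at this
  set v : Fin n → F := Pi.single i₀ 1 with hv
  set φ : Fin n → F := Pi.single i₁ 1 with hφ
  have h : φ ⬝ᵥ v = 0 := by
    rw [hφ, single_dotProduct, one_mul, hv, Pi.single_eq_of_ne hne]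
  refine ⟨v, φ, h, fun hmem => ?_⟩
  have hval : ((TGL.tau v φ h : GL (Fin n) F) : Matrix (Fin n) (Fin n) F) - 1 = vecMulVec v φ := by
    change (1 + vecMulVec v φ) - 1 = vecMulVec v φ
    rw [add_sub_cancel_left]
  have hrank : 2 * (((TGL.tau v φ h : GL (Fin n) F) : Matrix (Fin n) (Fin n) F) - 1).rank <
      Fintype.card (Fin n) := by
    rw [hval, Fintype.card_fin]
    have := Matrix.rank_vecMulVec_le v φ
    omega
  have hcomm := FEx.commute_of_rank_lt hK _ hmem hrank
  obtain ⟨κ, hκK, hκ⟩ := FEx.exists_nonscalar hr2 K hK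
  have h1 : (((TGL.tau v φ h : GL (Fin n) F) : Matrix (Fin n) (Fin n) F) * κ) *ᵥ φ =
      (κ * ((TGL.tau v φ h : GL (Fin n) F) : Matrix (Fin n) (Fin n) F)) *ᵥ φ := by
    rw [hcomm κ hκK]
  rw [← Matrix.mulVec_mulVec, ← Matrix.mulVec_mulVec, TGL.tau_mulVec, TGL.tau_mulVec] at h1
  have hφφ : φ ⬝ᵥ φ = 1 := by
    rw [hφ, single_dotProduct, one_mul, Pi.single_eq_same]
  rw [hφφ, one_smul, Matrix.mulVec_add] at h1
  have h2 : κ *ᵥ v = (φ ⬝ᵥ (κ *ᵥ φ)) • v := (add_left_cancel h1).symm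
  set c := φ ⬝ᵥ (κ *ᵥ φ) with hc
  have h3 : (κ - c • (1 : Matrix (Fin n) (Fin n) F)) *ᵥ v = 0 := by
    rw [Matrix.sub_mulVec, h2, Matrix.smul_mulVec, Matrix.one_mulVec, sub_self]
  have hmemK : κ - c • (1 : Matrix (Fin n) (Fin n) F) ∈ K := by
    refine K.sub_mem hκK ?_
    rw [← Algebra.algebraMap_eq_smul_one]
    exact K.algebraMap_mem c
  have hv0 := FEx.mulVec_eq_zero hK hmemK (sub_ne_zero.mpr (hκ c)) h3
  have := congrFun hv0 i₀
  rw [hv, Pi.single_eq_same, Pi.zero_apply] at this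
  exact one_ne_zero this

/-- the determinant is surjective on the normaliser. -/
theorem exists_det_eq [Finite F] {r : ℕ} (hr : r.Prime) (hrn : r < n)
    (K : Subalgebra F (Matrix (Fin n) (Fin n) F)) (hK : Cfsg.Geo.IsFieldSubalgebra r K) (c : Fˣ) :
    ∃ y ∈ Cfsg.Geo.subalgebraNormalizer K, (y : Matrix (Fin n) (Fin n) F).det = c := by
  have hr2 := hr.two_le
  have hn : 0 < n := by omega
  haveI : Nonempty (Fin n) := ⟨⟨0, hn⟩⟩
  letI := FEx.fieldOfSub K hK
  letI := FEx.modOfSub K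
  have key : ∀ (a : F) (k : K) (v : Fin n → F), (a • k) • v = a • (k • v) :=
    fun a k v => FEx.smul_assoc' K a k v
  haveI := tower_of_smul (F := F) (K := ↥K) (V := Fin n → F) key
  haveI : Finite (Matrix (Fin n) (Fin n) F) := inferInstanceAs (Finite (Fin n → Fin n → F))
  haveI : Finite ↥K := Subtype.finite
  obtain ⟨ν, hν⟩ := FiniteField.norm_surjective F ↥K (c : F)
  have hν0 : ν ≠ 0 := by
    rintro rfl
    rw [Algebra.norm_zero] at hν
    exact c.ne_zero hν.symm
  set z : Fin n → F := Pi.single ⟨0, hn⟩ 1 with hz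
  have hz0 : z ≠ 0 := by
    intro h0
    have := congrFun h0 ⟨0, hn⟩
    rw [hz, Pi.single_eq_same, Pi.zero_apply] at this
    exact one_ne_zero this
  have hnot : z ∉ (⊥ : Submodule ↥K (Fin n → F)) := by simpa using hz0
  obtain ⟨ψ₁, -, hψ₁⟩ := exists_kfunc (K := ↥K) (⊥ : Submodule ↥K (Fin n → F)) hnot
  have hd0 : 1 + ((ν - 1) • ψ₁) z = ν := by
    rw [LinearMap.smul_apply, hψ₁, smul_eq_mul, mul_one, add_sub_cancel]
  have hd : 1 + ((ν - 1) • ψ₁) z ≠ 0 := by rw [hd0]; exact hν0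
  set s := kdil (F := F) ((ν - 1) • ψ₁) z hd with hs
  have hθ : theta (theta.symm s) = s := MulEquiv.apply_symm_apply _ _
  refine ⟨theta.symm s, ?_, ?_⟩
  · apply mem_normalizer_of_msemi
    apply msemi_of_isSemi hn K hK
    rw [hθ]; exact (klin_kdil _ _ _).isSemi
  · rw [← det_theta, hθ, hs, det_kdil, hd0, hν]

end Cfsg.Agent.Helper7.ExtF
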