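import Mathlib

set_option autoImplicit false

/-! Finite fields with `1024` elements (helper7): an involutive automorphism is the power map
`x ↦ x ^ 32`; elements of order eleven; the solutions of `x ^ 33 = 1`. -/

namespace Cfsg.Agent.Helper7.SingerFrame

/-- in a field with `1024` elements, `2 = 0`. -/
theorem two_eq_zero_of_card {L : Type*} [Field L] [Finite L] (hL : Nat.card L = 1024) :
    (2 : L) = 0 := by
  classical
  haveI : Fintype L := Fintype.ofFinite L
  have h1 : ((Fintype.card L : ℕ) : L) = 0 := FiniteField.cast_card_eq_zero L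
  rw [← Nat.card_eq_fintype_card, hL] at h1
  have h2 : (2 : L) ^ 10 = 0 := by
    have : ((1024 : ℕ) : L) = (2 : L) ^ 10 := by norm_num
    rw [← this]; exact h1
  exact pow_eq_zero_iff (by norm_num) |>.mp h2

/-- An involutive ring automorphism, not the identity, of a field with `1024` elements is
`x ↦ x ^ 32`. -/
theorem sigma_eq_pow {L : Type*} [Field L] [Finite L] (hL : Nat.card L = 1024)
    (σ : L ≃+* L) (hσ2 : ∀ x, σ (σ x) = x) (hσ1 : ∃ x, σ x ≠ x) : ∀ x, σ x = x ^ 32 := by
  classical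
  haveI : Fintype L := Fintype.ofFinite L
  haveI : CharP L 2 :=
    CharTwo.of_one_ne_zero_of_two_eq_zero one_ne_zero (two_eq_zero_of_card hL)
  letI : Algebra (ZMod 2) L := ZMod.algebra L 2
  have hfr : Module.finrank (ZMod 2) L = 10 := by
    have h1 : Fintype.card L = Fintype.card (ZMod 2) ^ Module.finrank (ZMod 2) L :=
      Module.card_eq_pow_finrank
    rw [← Nat.card_eq_fintype_card, hL, ZMod.card] at h1
    have h2 : (2 : ℕ) ^ 10 = 2 ^ Module.finrank (ZMod 2) L := by rw [← h1]; norm_num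
    exact (Nat.pow_right_injective (le_refl 2) h2).symm
  let σ' : L ≃ₐ[ZMod 2] L := AlgEquiv.ofRingEquiv (f := σ) (fun r => by
    have : (σ : L →+* L).comp (algebraMap (ZMod 2) L) = algebraMap (ZMod 2) L :=
      Subsingleton.elim _ _
    exact RingHom.congr_fun this r)
  have hσ' : ∀ x, σ' x = σ x := fun x => rfl
  obtain ⟨⟨i, hi⟩, hi'⟩ :=
    (FiniteField.bijective_frobeniusAlgEquivOfAlgebraic_pow (ZMod 2) L).2 σ'
  simp only at hi'
  rw [hfr] at hi
  set φ := FiniteField.frobeniusAlgEquivOfAlgebraic (ZMod 2) L with hφ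
  have hord : orderOf φ = 10 := by
    rw [hφ, FiniteField.orderOf_frobeniusAlgEquivOfAlgebraic, hfr]
  have hsq : φ ^ (2 * i) = 1 := by
    rw [mul_comm, pow_mul, hi']
    ext x
    rw [pow_two, AlgEquiv.mul_apply, hσ', hσ', hσ2]; rfl
  have hdvd : 10 ∣ 2 * i := by
    rw [← hord]; exact orderOf_dvd_of_pow_eq_one hsq
  have hi5 : i = 5 := by
    have h05 : i = 0 ∨ i = 5 := by omega
    rcases h05 with h0 | h5
    · exfalso
      obtain ⟨x, hx⟩ := hσ1
      apply hx
      rw [← hσ', ← hi', h0, pow_zero]; rfl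
    · exact h5
  intro x
  rw [← hσ', ← hi', hi5, AlgEquiv.coe_pow, hφ,
    FiniteField.coe_frobeniusAlgEquivOfAlgebraic_iterate, ZMod.card]
  norm_num

/-- A field with `1024` elements contains an element of order eleven. -/
theorem exists_zeta {L : Type*} [Field L] [Finite L] (hL : Nat.card L = 1024) :
    ∃ ζ : L, ζ ^ 11 = 1 ∧ ζ ≠ 1 := by
  classical
  haveI : Fintype L := Fintype.ofFinite L
  have hcard : Fintype.card Lˣ = 1023 := by
    rw [Fintype.card_units, ← Nat.card_eq_fintype_card, hL]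
  haveI : Fact (Nat.Prime 11) := ⟨by norm_num⟩
  obtain ⟨x, hx⟩ := exists_prime_orderOf_dvd_card (G := Lˣ) 11 (by rw [hcard]; norm_num)
  refine ⟨(x : L), ?_, ?_⟩
  · have : x ^ 11 = 1 := by rw [← hx]; exact pow_orderOf_eq_one x
    rw [← Units.val_pow_eq_pow_val, this, Units.val_one]
  · intro h1
    have : x = 1 := Units.ext h1
    rw [this, orderOf_one] at hx
    omega

/-- in a field with `1024` elements, `x ^ 1024 = x`. -/
theorem pow_card' {L : Type*} [Field L] [Finite L] (hL : Nat.card L = 1024) (x : L) :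
    x ^ 1024 = x := by
  classical
  haveI : Fintype L := Fintype.ofFinite L
  have := FiniteField.pow_card x
  rwa [← Nat.card_eq_fintype_card, hL] at this

/-- The solutions of `a ^ 33 = 1` in a field, from an element of order eleven and one of order
three. -/
theorem eq_of_pow_33 {L : Type*} [Field L] {ζ ω a : L} (hζ : ζ ^ 11 = 1) (hζ1 : ζ ≠ 1)
    (hω : ω ^ 3 = 1) (hω1 : ω ≠ 1) (ha : a ^ 33 = 1) : ∃ j i : ℕ, a = ω ^ j * ζ ^ i := by
  haveI : Fact (Nat.Prime 3) := ⟨by norm_num⟩
  haveI : Fact (Nat.Prime 11) := ⟨by norm_num⟩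
  have hζp : IsPrimitiveRoot ζ 11 := by
    have := IsPrimitiveRoot.orderOf ζ
    rwa [orderOf_eq_prime hζ hζ1] at this
  have hωp : IsPrimitiveRoot ω 3 := by
    have := IsPrimitiveRoot.orderOf ω
    rwa [orderOf_eq_prime hω hω1] at this
  have hb : (a ^ 22) ^ 3 = 1 := by rw [← pow_mul]; norm_num; rw [show 66 = 33 * 2 by norm_num, pow_mul, ha, one_pow]
  have hc : (a ^ 12) ^ 11 = 1 := by rw [← pow_mul]; norm_num; rw [show 132 = 33 * 4 by norm_num, pow_mul, ha, one_pow]
  obtain ⟨j, -, hj⟩ := hωp.eq_pow_of_pow_eq_one hb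
  obtain ⟨i, -, hi⟩ := hζp.eq_pow_of_pow_eq_one hc
  refine ⟨j, i, ?_⟩
  rw [hj, hi, ← pow_add]
  norm_num
  rw [show 34 = 33 + 1 by norm_num, pow_add, ha, one_mul, pow_one]

end Cfsg.Agent.Helper7.SingerFrame
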