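import Mathlib
import Cfsg.Prelude.Def_GeometricClasses
import Cfsg.Agent.Helper7.SingerFrameA

set_option autoImplicit false

/-! The hermitian form over the field with four elements (helper7): the conjugate transpose is the
adjoint. -/

namespace Cfsg.Agent.Helper7.SingerFrame

open Matrix

variable {F : Type*} [Field F] [Fintype F] {n : ℕ}

theorem pow_four (hF : Fintype.card F = 4) (x : F) : x ^ 4 = x := by
  have := FiniteField.pow_card x
  rwa [hF] at this

theorem charTwo (hF : Fintype.card F = 4) : CharP F 2 := by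
  have h1 : ((Fintype.card F : ℕ) : F) = 0 := FiniteField.cast_card_eq_zero F
  rw [hF] at h1
  have h2 : (2 : F) ^ 2 = 0 := by
    have : ((4 : ℕ) : F) = (2 : F) ^ 2 := by norm_num
    rw [← this]; exact h1
  exact CharTwo.of_one_ne_zero_of_two_eq_zero one_ne_zero
    (pow_eq_zero_iff (by norm_num) |>.mp h2)

/-- the conjugate transpose. -/
def adj (k : Matrix (Fin n) (Fin n) F) : Matrix (Fin n) (Fin n) F := fun i j => (k j i) ^ 2

theorem adj_apply (k : Matrix (Fin n) (Fin n) F) (i j : Fin n) : adj k i j = (k j i) ^ 2 := rfl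

theorem adj_add (hF : Fintype.card F = 4) (k l : Matrix (Fin n) (Fin n) F) :
    adj (k + l) = adj k + adj l := by
  haveI := charTwo hF
  ext i j
  simp only [adj_apply, Matrix.add_apply, CharTwo.add_sq]

theorem adj_mul (hF : Fintype.card F = 4) (k l : Matrix (Fin n) (Fin n) F) :
    adj (k * l) = adj l * adj k := by
  haveI := charTwo hF
  ext i j
  simp only [adj_apply, Matrix.mul_apply, CharTwo.sum_sq, mul_pow]
  exact Finset.sum_congr rfl (fun m _ => mul_comm _ _)

theorem adj_one : adj (1 : Matrix (Fin n) (Fin n) F) = 1 := by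
  ext i j
  rw [adj_apply, Matrix.one_apply, Matrix.one_apply]
  by_cases h : i = j
  · subst h; simp
  · rw [if_neg h, if_neg (Ne.symm h)]; simp

theorem adj_adj (hF : Fintype.card F = 4) (k : Matrix (Fin n) (Fin n) F) : adj (adj k) = k := by
  ext i j
  rw [adj_apply, adj_apply, ← pow_mul]
  exact pow_four hF _

theorem adj_smul (c : F) (k : Matrix (Fin n) (Fin n) F) : adj (c • k) = c ^ 2 • adj k := by
  ext i j
  simp [adj_apply, mul_pow]

theorem trace_adj (hF : Fintype.card F = 4) (k : Matrix (Fin n) (Fin n) F) :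
    trace (adj k) = (trace k) ^ 2 := by
  haveI := charTwo hF
  simp only [Matrix.trace, Matrix.diag, adj_apply, CharTwo.sum_sq]

/-- the conjugate transpose is the adjoint. -/
theorem herm_adj (hF : Fintype.card F = 4) (k : Matrix (Fin n) (Fin n) F) (u v : Fin n → F) :
    Cfsg.hermForm n F 2 (k *ᵥ u) v = Cfsg.hermForm n F 2 u (adj k *ᵥ v) := by
  haveI := charTwo hF
  unfold Cfsg.hermForm
  simp only [Matrix.mulVec, dotProduct, adj_apply, CharTwo.sum_sq, mul_pow, ← pow_mul]
  norm_num
  simp only [pow_four hF, Finset.sum_mul, Finset.mul_sum]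
  rw [Finset.sum_comm]
  refine Finset.sum_congr rfl (fun j _ => Finset.sum_congr rfl (fun i _ => ?_))
  ring

theorem herm_right_inj (hF : Fintype.card F = 4) {v w : Fin n → F}
    (h : ∀ u, Cfsg.hermForm n F 2 u v = Cfsg.hermForm n F 2 u w) : v = w := by
  funext i
  have h1 := h (Pi.single i 1)
  unfold Cfsg.hermForm at h1
  simp only [Pi.single_apply, ite_mul, one_mul, zero_mul, Finset.sum_ite_eq', Finset.mem_univ,
    if_true] at h1
  have h4 : (v i) ^ 4 = (w i) ^ 4 := by
    rw [show 4 = 2 * 2 by norm_num, pow_mul, pow_mul, h1]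
  rwa [pow_four hF, pow_four hF] at h4

/-- uniqueness of the adjoint. -/
theorem eq_adj_of (hF : Fintype.card F = 4) {k k' : Matrix (Fin n) (Fin n) F}
    (h : ∀ u v, Cfsg.hermForm n F 2 (k *ᵥ u) v = Cfsg.hermForm n F 2 u (k' *ᵥ v)) :
    k' = adj k := by
  apply Matrix.mulVec_injective
  funext v
  exact herm_right_inj hF (fun u => by rw [← h, herm_adj hF])

theorem adj_mem (hF : Fintype.card F = 4) (K : Subalgebra F (Matrix (Fin n) (Fin n) F))
    (hadj : Cfsg.Geo.IsAdjointClosedFor (Cfsg.hermForm n F 2) K)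
    {k : Matrix (Fin n) (Fin n) F} (hk : k ∈ K) : adj k ∈ K := by
  obtain ⟨k', hk', h⟩ := hadj k hk
  rwa [eq_adj_of hF h] at hk'

theorem adj_mul_self_of_preserves (hF : Fintype.card F = 4) {a : Matrix (Fin n) (Fin n) F}
    (h : ∀ u v, Cfsg.hermForm n F 2 (a *ᵥ u) (a *ᵥ v) = Cfsg.hermForm n F 2 u v) :
    adj a * a = 1 := by
  apply Matrix.mulVec_injective
  funext v
  rw [Matrix.one_mulVec, ← Matrix.mulVec_mulVec]
  exact herm_right_inj hF (fun u => by rw [← herm_adj hF, h])

theorem preserves_of_adj_mul_self (hF : Fintype.card F = 4) {a : Matrix (Fin n) (Fin n) F}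
    (h : adj a * a = 1) (u v : Fin n → F) :
    Cfsg.hermForm n F 2 (a *ᵥ u) (a *ᵥ v) = Cfsg.hermForm n F 2 u v := by
  rw [herm_adj hF, Matrix.mulVec_mulVec, h, Matrix.one_mulVec]

/-- the value of the form at the first basis vector. -/
theorem herm_single (hn : 0 < n) (m : Matrix (Fin n) (Fin n) F) :
    Cfsg.hermForm n F 2 (m *ᵥ Pi.single ⟨0, hn⟩ 1) (Pi.single ⟨0, hn⟩ 1) = m ⟨0, hn⟩ ⟨0, hn⟩ := by
  unfold Cfsg.hermForm
  rw [Matrix.mulVec_single_one]
  simp only [Pi.single_apply, ite_pow, one_pow, mul_ite, mul_one, Matrix.col_apply]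
  simp

end Cfsg.Agent.Helper7.SingerFrame
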