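import Cfsg.Agent.Helper7.SpOStabA

set_option autoImplicit false
set_option linter.unusedSectionVars false
set_option linter.unusedVariables false
set_option maxHeartbeats 800000

/-! `Sp(U) ⊗ O(W) < Sp(U ⊗ W)` (S5666), leaf [STAB], part B (helper7): root elements lie in `X`;
the elements `T_p ⊗ 1` of the unipotent radical of the stabiliser of `u ⊗ W`; tensors fixing a
fibre pointwise. -/

namespace Cfsg.Agent.Helper6.SpO

open Module Cfsg.Agent.Helper7.ExtF Cfsg.Agent.Helper8.Tens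

variable {F : Type*} [Field F] {U W V : Type*} [AddCommGroup U] [Module F U]
  [AddCommGroup W] [Module F W] [AddCommGroup V] [Module F V]
  {t : U →ₗ[F] W →ₗ[F] V} {B : LinearMap.BilinForm F V} {f₁ : LinearMap.BilinForm F U}
  {f₂ : LinearMap.BilinForm F W} {X : Subgroup (V ≃ₗ[F] V)}

/-- the root elements `t_v(c) ⊗ 1` lie in `X`. -/
theorem stabU_yA_mem (ht : IsTensorProduct t) (h : Hyp t B f₁ f₂ X) (v : U) (c : F) :
    yA ht f₁ h.alt₁ v c ∈ X := by
  set A : U ≃ₗ[F] U := ftv (lw f₁ v c) v (lw_self h.alt₁ v c) with hA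
  have hAx : ∀ x, A x = x + (c * f₁ x v) • v := fun x => by rw [hA, ftv_apply, lw_apply]
  obtain ⟨g, hg, e⟩ := movSp h A (by
    intro x y
    rw [hAx, hAx]
    simp only [map_add, map_smul, LinearMap.add_apply, LinearMap.smul_apply, smul_eq_mul, h.alt₁,
      mul_zero, add_zero]
    rw [stabU_skew h v y]
    ring)
  have : g = yA ht f₁ h.alt₁ v c := by
    apply equiv_ext_pure ht
    intro u' w
    rw [e, yA_t, hAx]
  rw [← this]; exact hg

/-- the contraction belonging to a root element. -/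
theorem stabU_yA_apply (ht : IsTensorProduct t) (h : Hyp t B f₁ f₂ X) (u : U) (c : F) (v : V) :
    yA ht f₁ h.alt₁ u c v = v + t u (c • stabU_c ht f₁ u v) := by
  rw [yA_apply]
  have : evU ht (lw f₁ u c) = c • stabU_c ht f₁ u := by
    rw [stabU_c, ← evU_smul]; rfl
  rw [this]; rfl

/-- the element `T_p ⊗ 1` of the unipotent radical, as a product of root elements. -/
noncomputable def stabU_r (ht : IsTensorProduct t) (f₁ : LinearMap.BilinForm F U)
    (halt₁ : ∀ u, f₁ u u = 0) (u p : U) : V ≃ₗ[F] V :=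
  yA ht f₁ halt₁ (u + p) 1 * yA ht f₁ halt₁ u (-1) * yA ht f₁ halt₁ p (-1)

theorem stabU_r_mem (ht : IsTensorProduct t) (h : Hyp t B f₁ f₂ X) (u p : U) :
    stabU_r ht f₁ h.alt₁ u p ∈ X :=
  X.mul_mem (X.mul_mem (stabU_yA_mem ht h _ _) (stabU_yA_mem ht h _ _)) (stabU_yA_mem ht h _ _)

theorem stabU_r_vec (h : Hyp t B f₁ f₂ X) {u p : U} (hp : f₁ p u = 0) (x : U) :
    (x + (-1 * f₁ x p) • p + (-1 * f₁ (x + (-1 * f₁ x p) • p) u) • u) +
      (1 * f₁ (x + (-1 * f₁ x p) • p + (-1 * f₁ (x + (-1 * f₁ x p) • p) u) • u) (u + p)) • (u + p)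
      = x + f₁ x u • p + f₁ x p • u := by
  have hup : f₁ u p = 0 := by rw [stabU_skew h, hp, neg_zero]
  have e1 : f₁ (x + (-1 * f₁ x p) • p) u = f₁ x u := by
    rw [map_add, map_smul, LinearMap.add_apply, LinearMap.smul_apply, hp, smul_zero, add_zero]
  rw [e1]
  have e2 : f₁ (x + (-1 * f₁ x p) • p + (-1 * f₁ x u) • u) (u + p) = f₁ x u + f₁ x p := by
    simp only [map_add, map_smul, LinearMap.add_apply, LinearMap.smul_apply, hp, hup, h.alt₁,
      smul_zero, add_zero]
  rw [e2]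
  module

theorem stabU_r_t (ht : IsTensorProduct t) (h : Hyp t B f₁ f₂ X) {u p : U} (hp : f₁ p u = 0)
    (x : U) (w : W) :
    stabU_r ht f₁ h.alt₁ u p (t x w) = t (x + f₁ x u • p + f₁ x p • u) w := by
  rw [stabU_r, LinearEquiv.mul_apply, LinearEquiv.mul_apply, yA_t, yA_t, yA_t, stabU_r_vec h hp]

/-- on the perpendicular space, `T_p ⊗ 1 - 1` is the contraction with `p` into the fibre. -/
theorem stabU_r_sub (ht : IsTensorProduct t) (h : Hyp t B f₁ f₂ X) {u p : U} (hu : u ≠ 0)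
    (hp : f₁ p u = 0) : ∀ v ∈ SperpU ht f₁ u,
      stabU_r ht f₁ h.alt₁ u p v - v = t u (stabU_c ht f₁ p v) := by
  refine stabU_Sperp_induction ht h hu
    (p := fun v => stabU_r ht f₁ h.alt₁ u p v - v = t u (stabU_c ht f₁ p v)) ?_ ?_ ?_
  · simp
  · intro a b ha hb
    rw [map_add, map_add, map_add, ← ha, ← hb]; abel
  · intro x w hx
    rw [stabU_r_t ht h hp, hx, zero_smul, add_zero, map_add, LinearMap.add_apply, add_sub_cancel_left,
      stabU_c_t, map_smul, map_smul, LinearMap.smul_apply]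

/-- `T_p ⊗ 1` fixes the fibre pointwise. -/
theorem stabU_r_fix (ht : IsTensorProduct t) (h : Hyp t B f₁ f₂ X) {u p : U} (hp : f₁ p u = 0)
    (w : W) : stabU_r ht f₁ h.alt₁ u p (t u w) = t u w := by
  have hup : f₁ u p = 0 := by rw [stabU_skew h, hp, neg_zero]
  rw [stabU_r_t ht h hp, h.alt₁, hup, zero_smul, zero_smul, add_zero, add_zero]

/-- the two contractions commute with the forms. -/
theorem stabU_ev_c (ht : IsTensorProduct t) (l : Module.Dual F W) (p : U) (v : V) :
    f₁ (ev ht l v) p = l (stabU_c ht f₁ p v) := by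
  have : (f₁.flip p).comp (ev ht l) = l.comp (stabU_c ht f₁ p) := by
    apply ext_pure ht; intro x w
    rw [LinearMap.comp_apply, LinearMap.comp_apply, ev_t, stabU_c_t, map_smul, map_smul]
    show l w • f₁ x p = f₁ x p • l w
    rw [smul_eq_mul, smul_eq_mul, mul_comm]
  exact LinearMap.congr_fun this v

section

variable [FiniteDimensional F U] [FiniteDimensional F W] [FiniteDimensional F V]

/-- a tensor fixing the fibre `u ⊗ W` pointwise is of the form `A ⊗ 1` with `A u = u`. -/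
theorem stabU_isTens_fix (ht : IsTensorProduct t) {u : U} (hu : u ≠ 0) {w₁ : W} (hw₁ : w₁ ≠ 0)
    {r : V ≃ₗ[F] V} (hr : IsTens t r) (hfix : ∀ w, r (t u w) = t u w) :
    ∃ A : U ≃ₗ[F] U, (∀ x w, r (t x w) = t (A x) w) ∧ A u = u := by
  obtain ⟨A, C, hAC⟩ := hr
  obtain ⟨a, ha⟩ := exists_dual_eq_one (F := F) hu
  -- `C` is a scalar
  have hC : ∀ w, a (A u) • C w = w := by
    intro w
    have := congrArg (evU ht a) (hfix w)
    rwa [hAC, evU_t, evU_t, ha, one_smul] at this
  have hκ : a (A u) ≠ 0 := by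
    intro h0
    have := hC w₁
    rw [h0, zero_smul] at this
    exact hw₁ this.symm
  set κ := a (A u) with hκdef
  have hCw : ∀ w, C w = κ⁻¹ • w := by
    intro w
    calc C w = κ⁻¹ • (κ • C w) := by rw [smul_smul, inv_mul_cancel₀ hκ, one_smul]
      _ = κ⁻¹ • w := by rw [hC w]
  refine ⟨A.trans (LinearEquiv.smulOfNeZero F U κ⁻¹ (inv_ne_zero hκ)), fun x w => ?_, ?_⟩
  · show r (t x w) = t (κ⁻¹ • A x) w
    rw [hAC, hCw, map_smul, map_smul, LinearMap.smul_apply]
  · show κ⁻¹ • A u = u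
    have h1 := hfix w₁
    rw [hAC, hCw, map_smul, ← LinearMap.smul_apply, ← map_smul] at h1
    exact t_left_injective ht hw₁ h1

end

end Cfsg.Agent.Helper6.SpO
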