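import Mathlib
import Cfsg.Agent.Lead.BswDefs
import Cfsg.Agent.Lead.BswDefs2
import Cfsg.Agent.Helper7.Bsw_A31_35
import Cfsg.Agent.Helper7.Bsw_B1_9
import Cfsg.Agent.Helper9.Bsw_B10_17
import Cfsg.Agent.Helper5.Bsw_B18_23
import Cfsg.Agent.Helper6.Bsw_A29_30
import Cfsg.Agent.Lead.Bsw_F4_9
import Cfsg.Agent.Lead.Bsw_F1_9
import Cfsg.Agent.Helper8.Bsw_F11_13
import Cfsg.Agent.Helper8.Bsw_F14_15
import Cfsg.Agent.Helper5.Bsw_F16
import Cfsg.Agent.Helper5.Bsw_F17

/-!
S3282 swarm (architect: lead), pieces F18a, F18b (endgame e = -1: normalizer of a torus, conclusion).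
-/

set_option autoImplicit false
namespace Cfsg.Agent.Lead.Bsw
variable {G : Type*} [Group G] [Finite G] {t s : G} {K : Subgroup G}

theorem h7h_card_zpowers_two {u : G} (hu : orderOf u = 2) : Nat.card (Subgroup.zpowers u) = 2 := by
  rw [Nat.card_zpowers, hu]

-- F18a : normalizer of a torus in the minus case
theorem minus_torus_normalizer (hm : HypMinus t K s) {y u : G} (hy : IsTorusElt y) (hu : orderOf u = 2)
    (huy : u * y * u⁻¹ = y⁻¹) :
    Subgroup.normalizer ((Subgroup.centralizer ({y} : Set G) : Subgroup G) : Set G) =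
      Subgroup.centralizer ({y} : Set G) ⊔ Subgroup.zpowers u := by
  have h := hm.h
  have huN := inverter_mem_normalizer huy
  have hB15 := torus_normalizer_eq h hy hu huN
  set W : Subgroup G :=
    Subgroup.normalizer ((Subgroup.centralizer ({y} : Set G) : Subgroup G) : Set G) ⊓ Kz u with hW
  have huW : u ∈ W := Subgroup.mem_inf.2 ⟨huN, mem_Kz_self h hu⟩
  have hzle : Subgroup.zpowers u ≤ W := by
    rw [Subgroup.zpowers_le]; exact huW
  -- |W| divides k and k - 2
  have hd1 : Nat.card W ∣ Nat.card K := by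
    rw [← card_Kz h hu]
    exact Subgroup.card_dvd_of_le inf_le_right
  have hd2 : Nat.card W ∣ Nat.card K - 2 := by
    have := torus_W_dvd h hy hu huN
    rw [minus_torus_card hm hy] at this
    have e : Nat.card K - 1 - 1 = Nat.card K - 2 := by omega
    rwa [e] at this
  have hk := hm.hk
  have hd3 : Nat.card W ∣ 2 := by
    have : Nat.card K - (Nat.card K - 2) = 2 := by omega
    rw [← this]
    exact Nat.dvd_sub hd1 hd2
  have hle2 : Nat.card W ≤ 2 := Nat.le_of_dvd (by norm_num) hd3
  have hWeq : Subgroup.zpowers u = W := by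
    apply Subgroup.eq_of_le_of_card_ge hzle
    rw [h7h_card_zpowers_two hu]; exact hle2
  rw [hWeq]
  exact hB15

/-- a torus `C(d)` normalizes each of its subgroups, and so does an involution inverting it -/
theorem h7h_le_normalizer_sub (h : Hyp t K s) {d u : G} (hd : IsTorusElt d) (hu : orderOf u = 2)
    (hud : u * d * u⁻¹ = d⁻¹) {X : Subgroup G} (hX : X ≤ Subgroup.centralizer ({d} : Set G)) :
    Subgroup.centralizer ({d} : Set G) ⊔ Subgroup.zpowers u ≤ Subgroup.normalizer (X : Set G) := by
  have huN := inverter_mem_normalizer hud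
  have hinv := torus_inverts h hd hu huN
  have hcomm := torus_comm h hd
  apply sup_le
  · intro a ha
    rw [Subgroup.mem_normalizer_iff]
    intro b
    constructor
    · intro hb
      have e : a * b * a⁻¹ = b := by
        rw [hcomm a ha b (hX hb)]; group
      rw [e]; exact hb
    · intro hb
      have hc := hX hb
      have e : b = a * b * a⁻¹ := by
        have h1 : a⁻¹ * (a * b * a⁻¹) = (a * b * a⁻¹) * a⁻¹ :=
          hcomm a⁻¹ (Subgroup.inv_mem _ ha) _ hc
        calc b = a⁻¹ * (a * b * a⁻¹) * a := by group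
          _ = (a * b * a⁻¹) * a⁻¹ * a := by rw [h1]
          _ = a * b * a⁻¹ := by group
      rw [e]; exact hb
  · rw [Subgroup.zpowers_le, Subgroup.mem_normalizer_iff]
    intro b
    have hui := h7_inv_eq_self hu
    constructor
    · intro hb
      rw [hinv b (hX hb)]
      exact Subgroup.inv_mem _ hb
    · intro hb
      have hc := hX hb
      have e : b = (u * b * u⁻¹)⁻¹ := by
        have h1 := hinv _ hc
        -- u (u b u⁻¹) u⁻¹ = (u b u⁻¹)⁻¹ ; and u u b u⁻¹ u⁻¹ = b
        rw [← h1, hui]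
        calc b = (u * u) * b * (u * u) := by rw [h7_mul_self hu, one_mul, mul_one]
          _ = u * (u * b * u) * u := by group
      rw [e]; exact Subgroup.inv_mem _ hb

-- F18b
theorem minus_concl (hm : HypMinus t K s) : Concl G := by
  have h := hm.h
  have hk := hm.hk
  obtain ⟨x, hx⟩ := minus_exists_NR hm
  obtain ⟨x', hx', hne⟩ := minus_exists_second hm hx
  have hcardD := minus_card_D0 hm hx hx' hne
  have hcardQ : Nat.card (Subgroup.centralizer ({x} : Set G)) = 2 * Nat.card K - 1 :=
    minus_NR_cent_card hm hx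
  -- pick d ≠ 1 in D0
  have hex : ∃ d ∈ (Subgroup.normalizer ((Subgroup.centralizer ({x} : Set G) : Subgroup G) : Set G) ⊓
      Subgroup.normalizer ((Subgroup.centralizer ({x'} : Set G) : Subgroup G) : Set G) : Subgroup G), d ≠ 1 := by
    by_contra hno
    push Not at hno
    have hbot := (Subgroup.eq_bot_iff_forall _).2 hno
    rw [hbot, Subgroup.card_bot] at hcardD
    omega
  obtain ⟨d, hdD, hd1⟩ := hex
  have hdT : IsTorusElt d := minus_D0_torus hm hx hx' hne hdD hd1
  have hCd := minus_D0_eq hm hx hx' hne hdD hd1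
  have hNQ := minus_normalizer_eq hm hx hx' hne
  rw [← hCd] at hcardD hNQ
  obtain ⟨u, hu, hud⟩ := hdT.2.1
  have huN := inverter_mem_normalizer hud
  have hinv := torus_inverts h hdT hu huN
  have hND := minus_torus_normalizer hm hdT hu hud
  rw [Concl_def]
  refine ⟨Subgroup.centralizer ({x} : Set G), Subgroup.centralizer ({d} : Set G), ?_, ?_, ?_, ?_, ?_, hNQ, ?_⟩
  · rw [hcardQ, card_G h, hm.hn]
    obtain ⟨m, hm'⟩ : ∃ m, Nat.card K = m + 1 := ⟨Nat.card K - 1, by omega⟩
    rw [hm']
    have e1 : 2 * (m + 1) - 1 = 2 * m + 1 := by omega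
    have e2 : m + 1 - 1 = m := by omega
    have e3 : 2 * m + 1 + 1 = 2 * (m + 1) := by omega
    have e4 : 2 * m + 1 - 1 = 2 * m := by omega
    rw [e1, e2, e4]
    ring
  · intro x₁ hx₁ hx₁1
    exact minus_Q_cent hm hx hx₁ hx₁1
  · exact ⟨⟨fun a b => Subtype.ext (torus_comm h hdT a.1 a.2 b.1 b.2)⟩⟩
  · rw [hcardD, hcardQ]; omega
  · rw [Subgroup.eq_bot_iff_forall]
    intro a ha
    by_contra ha1
    have haQ := (Subgroup.mem_inf.1 ha).1
    have haD := (Subgroup.mem_inf.1 ha).2
    have hNR := NR_cent h hx haQ ha1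
    have hT := (torus_cent h hdT haD ha1).2
    exact hNR.2.2 hT.2.1
  · intro X hXD hX1
    refine ⟨?_, u, hu, ?_, hinv, hND⟩
    · apply le_antisymm
      · exact torus_normalizer_sub h hdT hXD hX1
      · rw [hND]
        exact h7h_le_normalizer_sub h hdT hu hud hXD
    · intro huD
      have hodd := h7_odd_orderOf _ hdT.2.2 huD
      rw [hu] at hodd
      exact absurd hodd (by decide)

end Cfsg.Agent.Lead.Bsw
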