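import Mathlib
import Cfsg.Agent.Helper7.StP
import Cfsg.Agent.Helper7.StN

set_option autoImplicit false
set_option linter.unusedSectionVars false
set_option linter.unusedVariables false

/-!
Over a finite field the elements `hb i t` of a group generated by elements with the relations (R1), (R2)
are multiplicative in `t`.
-/

namespace Cfsg.Agent.Helper7.St

open Cfsg Cfsg.Lie Matrix Cfsg.Agent.Helper7.Chev
open scoped Pointwise

theorem hMat_mul_hMat {D : ChevalleyDatum} {K : Type*} [Field K] (hG1 : Good1 D) {r : ℕ}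
    (hr : r < D.nroots) {t₁ t₂ : K} (h₁ : t₁ ≠ 0) (h₂ : t₂ ≠ 0) :
    D.hMat K r t₁ * D.hMat K r t₂ = D.hMat K r (t₁ * t₂) := by
  rw [hMat_eq hG1 hr h₁, hMat_eq hG1 hr h₂, hMat_eq hG1 hr (mul_ne_zero h₁ h₂),
    ← phiMat_mul hG1 hr _ _ (by simp [h₁]) (by simp [h₂])]
  congr 1
  ext i j
  fin_cases i <;> fin_cases j <;> simp [Matrix.mul_apply, Fin.sum_univ_two, mul_comm]

variable {D : ChevalleyDatum} {K : Type*} [Field K] {Γ : Type*} [Group Γ] (S : StD D K Γ)

namespace StD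

/-- The symbol `f(t, u) = h(t) h(u) h(t u)⁻¹`. -/
def sym (i : ℕ) (t u : K) : Γ := S.hb i t * S.hb i u * (S.hb i (t * u))⁻¹

section symbol

variable (hG : Good2 D) (hT : T0 D) (h5 : (tabOf D).T5) (h5m : (tabOf D).T5m) (h6 : (tabOf D).T6)
  (h7 : (tabOf D).T7) (h7m : (tabOf D).T7m) (h8 : (tabOf D).T8) (h9 : (tabOf D).T9)
  {wit : ℕ → ℕ × ℕ × ℕ} (h27 : (tabOf D).T37 wit) {w₀ : List ℕ} (hw₀ : (tabOf D).W0ok w₀)
  (hgen : Subgroup.closure {g | ∃ (r : ℕ) (t : K), r < D.nroots ∧ g = S.xb r t} = ⊤)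
  {i : ℕ} (hi : i < D.rank)

include hG hT h5 h5m h6 h7 h7m h8 h9 h27 hw₀ hgen hi in
/-- The symbol is central. -/
theorem sym_mem_center {t u : K} (ht : t ≠ 0) (hu : u ≠ 0) :
    S.sym i t u ∈ Subgroup.center Γ := by
  have hG1 := hG.toGood1
  have hp := hG1.simple_lt hi
  apply (S.ker_mem hG hT h5 h5m h6 h7 h7m h8 h9 h27 hw₀ hgen _).2
  unfold sym
  rw [map_mul, map_mul, map_inv, mul_inv_eq_one]
  apply Units.ext
  rw [Units.val_mul, S.π_hb hG hi, S.π_hb hG hi, S.π_hb hG hi, hMat_mul_hMat hG1 hp ht hu]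

theorem hb_mul_eq (i : ℕ) (t u : K) : S.hb i t * S.hb i u = S.sym i t u * S.hb i (t * u) := by
  unfold sym; group

end symbol

section finite

variable [Finite K]
  (hG : Good2 D) (hT : T0 D) (h5 : (tabOf D).T5) (h5m : (tabOf D).T5m) (h6 : (tabOf D).T6)
  (h7 : (tabOf D).T7) (h7m : (tabOf D).T7m) (h8 : (tabOf D).T8) (h9 : (tabOf D).T9)
  {wit : ℕ → ℕ × ℕ × ℕ} (h27 : (tabOf D).T37 wit) {w₀ : List ℕ} (hw₀ : (tabOf D).W0ok w₀)
  (hgen : Subgroup.closure {g | ∃ (r : ℕ) (t : K), r < D.nroots ∧ g = S.xb r t} = ⊤)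
  {i : ℕ} (hi : i < D.rank)

include hG hT h5 h5m h6 h7 h7m h8 h9 h27 hw₀ hgen hi in
/-- Over a finite field the elements `hb i t` are multiplicative in `t`. -/
theorem hb_mul_of_finite {t u : K} (ht : t ≠ 0) (hu : u ≠ 0) :
    S.hb i t * S.hb i u = S.hb i (t * u) := by
  classical
  cases nonempty_fintype K
  have hG1 := hG.toGood1
  have hp := hG1.simple_lt hi
  have hcen : ∀ {a b : K}, a ≠ 0 → b ≠ 0 → ∀ g : Γ, g * S.sym i a b = S.sym i a b * g := by
    intro a b ha hb g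
    exact Subgroup.mem_center_iff.mp
      (S.sym_mem_center hG hT h5 h5m h6 h7 h7m h8 h9 h27 hw₀ hgen hi ha hb) g
  -- a generator of the multiplicative group
  obtain ⟨v, hv⟩ := IsCyclic.exists_generator (α := Kˣ)
  have hv0 : (v : K) ≠ 0 := Units.ne_zero v
  have hpow : ∀ a : K, a ≠ 0 → ∃ k : ℕ, a = (v : K) ^ k := by
    intro a ha
    have h1 : Units.mk0 a ha ∈ Submonoid.powers v :=
      (isOfFinOrder_of_finite v).mem_powers_iff_mem_zpowers.mpr (hv _)
    obtain ⟨k, hk⟩ := h1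
    refine ⟨k, ?_⟩
    have := congrArg Units.val hk
    rw [Units.val_pow_eq_pow_val, Units.val_mk0] at this
    exact this.symm
  -- `h(v^k)` is a central multiple of `h(v)^k`
  have hP : ∀ k : ℕ, ∃ z : Γ, (∀ g : Γ, g * z = z * g) ∧ S.hb i ((v : K) ^ k) = z * S.hb i v ^ k := by
    intro k
    induction k with
    | zero =>
      refine ⟨1, fun g => by rw [mul_one, one_mul], ?_⟩
      rw [pow_zero, pow_zero, S.hb_one hG hi, one_mul]
    | succ k ih =>
      obtain ⟨z, hz, e⟩ := ih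
      have e1 := S.hb_mul_eq i (v : K) ((v : K) ^ k)
      refine ⟨(S.sym i (v : K) ((v : K) ^ k))⁻¹ * z, fun g => ?_, ?_⟩
      · have hc := hcen hv0 (pow_ne_zero k hv0) g
        have hc' : g * (S.sym i (v : K) ((v : K) ^ k))⁻¹ = (S.sym i (v : K) ((v : K) ^ k))⁻¹ * g := by
          rw [eq_inv_mul_iff_mul_eq, ← mul_assoc, ← hc, mul_assoc, mul_inv_cancel, mul_one]
        rw [← mul_assoc, hc', mul_assoc, hz g, mul_assoc]
      · rw [pow_succ', ← inv_mul_eq_iff_eq_mul.mpr e1, e, pow_succ', ← mul_assoc, ← mul_assoc,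
          mul_assoc _ (S.hb i (v : K)) z, hz (S.hb i (v : K))]
        simp only [mul_assoc]
  -- all `h(t)` commute
  have hQ : ∀ {a b : K}, a ≠ 0 → b ≠ 0 → S.hb i a * S.hb i b = S.hb i b * S.hb i a := by
    intro a b ha hb
    obtain ⟨k, rfl⟩ := hpow a ha
    obtain ⟨j, rfl⟩ := hpow b hb
    obtain ⟨z, hz, e⟩ := hP k
    obtain ⟨z', hz', e'⟩ := hP j
    rw [e, e']
    have h1 : z * S.hb i ↑v ^ k * (z' * S.hb i ↑v ^ j) = (z * z') * (S.hb i ↑v ^ k * S.hb i ↑v ^ j) := by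
      rw [mul_assoc z, ← mul_assoc (S.hb i ↑v ^ k), hz' (S.hb i ↑v ^ k)]; simp only [mul_assoc]
    have h2 : z' * S.hb i ↑v ^ j * (z * S.hb i ↑v ^ k) = (z' * z) * (S.hb i ↑v ^ j * S.hb i ↑v ^ k) := by
      rw [mul_assoc z', ← mul_assoc (S.hb i ↑v ^ j), hz (S.hb i ↑v ^ j)]; simp only [mul_assoc]
    rw [h1, h2, hz' z, ← pow_add, ← pow_add, add_comm]
  -- `h(t² u) = h(u) h(t²)`
  have hF1 : ∀ {a b : K}, a ≠ 0 → b ≠ 0 → S.hb i (a ^ 2 * b) = S.hb i b * S.hb i (a ^ 2) := by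
    intro a b ha hb
    have e := S.hb_conj_hb' hG hT h5 h5m h6 h7 h7m h8 h27 hi ha b
    rw [hQ ha hb, mul_inv_cancel_right] at e
    rw [e, inv_mul_cancel_right]
  have hS : ∀ {a b : K}, a ≠ 0 → b ≠ 0 → S.sym i a b = S.sym i b a := by
    intro a b ha hb
    unfold sym
    rw [hQ ha hb, mul_comm a b]
  have hA : ∀ {a b c : K}, a ≠ 0 → b ≠ 0 → c ≠ 0 → S.sym i a (c ^ 2 * b) = S.sym i a b := by
    intro a b c ha hb hc
    unfold sym
    have e1 : a * (c ^ 2 * b) = c ^ 2 * (a * b) := by ring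
    rw [e1, hF1 hc hb, hF1 hc (mul_ne_zero ha hb)]
    group
  have hA' : ∀ {a b c : K}, a ≠ 0 → b ≠ 0 → c ≠ 0 → S.sym i (c ^ 2 * a) b = S.sym i a b := by
    intro a b c ha hb hc
    rw [hS (mul_ne_zero (pow_ne_zero 2 hc) ha) hb, hA hb ha hc, hS hb ha]
  have hone : ∀ {a : K}, a ≠ 0 → S.sym i a 1 = 1 := by
    intro a ha
    unfold sym
    rw [S.hb_one hG hi, mul_one, mul_one, mul_inv_cancel]
  -- the classes modulo squares
  have hcls : ∀ a : K, a ≠ 0 → ∃ c : K, c ≠ 0 ∧ (a = c ^ 2 ∨ a = c ^ 2 * v) := by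
    intro a ha
    obtain ⟨k, rfl⟩ := hpow a ha
    rcases Nat.even_or_odd' k with ⟨j, rfl | rfl⟩
    · exact ⟨(v : K) ^ j, pow_ne_zero j hv0, Or.inl (by rw [← pow_mul, mul_comm])⟩
    · exact ⟨(v : K) ^ j, pow_ne_zero j hv0, Or.inr (by rw [← pow_mul, pow_succ, mul_comm j 2])⟩
  -- the symbol of the generator
  have hvv : S.sym i (v : K) (v : K) = 1 := by
    by_cases hsq : IsSquare (v : K)
    · obtain ⟨d, hd⟩ := hsq
      have hd0 : d ≠ 0 := by
        intro h; rw [h, mul_zero] at hd; exact hv0 hd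
      have : (v : K) = d ^ 2 * 1 := by rw [hd]; ring
      nth_rewrite 2 [this]
      rw [hA hv0 one_ne_zero hd0, hone hv0]
    · have hchar : ringChar K ≠ 2 := fun h => hsq (FiniteField.isSquare_of_char_two h _)
      have hodd := FiniteField.odd_card_of_char_ne_two hchar
      obtain ⟨a, b, hab⟩ := FiniteField.exists_root_sum_quadratic
        (f := (Polynomial.X : Polynomial K) ^ 2)
        (g := (Polynomial.X : Polynomial K) ^ 2 - Polynomial.C ((v : K)⁻¹))
        (Polynomial.degree_X_pow 2) (Polynomial.degree_X_pow_sub_C (by decide) _) hodd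
      simp only [Polynomial.eval_pow, Polynomial.eval_X, Polynomial.eval_sub, Polynomial.eval_C] at hab
      have hab' : a ^ 2 + b ^ 2 = (v : K)⁻¹ := by linear_combination hab
      have ha0 : a ≠ 0 := by
        intro h
        apply hsq
        refine ⟨b⁻¹, ?_⟩
        rw [h] at hab'
        have hb0 : b ≠ 0 := by
          intro hb; rw [hb] at hab'; simp at hab'; exact hv0 hab'.symm
        field_simp
        have : (v : K) * b ^ 2 = 1 := by
          have := hab'
          field_simp at this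
          linear_combination this
        linear_combination this
      have hb0 : b ≠ 0 := by
        intro h
        apply hsq
        refine ⟨a⁻¹, ?_⟩
        rw [h] at hab'
        field_simp
        have : (v : K) * a ^ 2 = 1 := by
          have := hab'
          field_simp at this
          linear_combination this
        linear_combination this
      -- `s = (a² v)⁻¹`, `1 - s⁻¹ = b² v`
      have hσ : a ^ 2 * (v : K) + b ^ 2 * (v : K) = 1 := by
        have := hab'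
        field_simp at this
        linear_combination this
      have hs0 : (a ^ 2 * (v : K))⁻¹ ≠ 0 := inv_ne_zero (mul_ne_zero (pow_ne_zero 2 ha0) hv0)
      have hτ0 : b ^ 2 * (v : K) ≠ 0 := mul_ne_zero (pow_ne_zero 2 hb0) hv0
      have hne1 : (a ^ 2 * (v : K))⁻¹ ≠ 0 := hs0
      have key := S.hb_of_add_eq_one hG hT h5 h5m h6 h7 h7m h8 h27 hi hs0
        (u := 1 - (a ^ 2 * (v : K))⁻¹) ?_ (by ring)
      · -- `h(-u) = h(-u/t) h(t)` with `-u/t = b² v`
        have hs1 : a ^ 2 * (v : K) * (a ^ 2 * (v : K))⁻¹ = 1 :=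
          mul_inv_cancel₀ (mul_ne_zero (pow_ne_zero 2 ha0) hv0)
        have e2 : -(1 - (a ^ 2 * (v : K))⁻¹) = b ^ 2 * (v : K) * (a ^ 2 * (v : K))⁻¹ := by
          linear_combination hs1 - (a ^ 2 * (v : K))⁻¹ * hσ
        have e1 : -(1 - (a ^ 2 * (v : K))⁻¹) / (a ^ 2 * (v : K))⁻¹ = b ^ 2 * (v : K) := by
          rw [div_eq_iff hs0]; exact e2
        rw [e1, e2] at key
        have e3 : S.sym i (b ^ 2 * (v : K)) (a ^ 2 * (v : K))⁻¹ = 1 := by
          unfold sym
          rw [← key, mul_inv_cancel]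
        have e4 : (a ^ 2 * (v : K))⁻¹ = (a⁻¹ * (v : K)⁻¹) ^ 2 * (v : K) := by
          field_simp
        rw [e4, hA (mul_ne_zero (pow_ne_zero 2 hb0) hv0) hv0
          (mul_ne_zero (inv_ne_zero ha0) (inv_ne_zero hv0)), hA' hv0 hv0 hb0] at e3
        exact e3
      · -- `u ≠ 0`
        intro h
        have : (a ^ 2 * (v : K))⁻¹ = 1 := by linear_combination -h
        have h2 : a ^ 2 * (v : K) = 1 := by
          rw [inv_eq_one] at this; exact this
        have : b ^ 2 * (v : K) = 0 := by linear_combination hσ - h2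
        exact hτ0 this
  -- conclusion
  have hfinal : S.sym i t u = 1 := by
    obtain ⟨c, hc, hct⟩ := hcls t ht
    obtain ⟨e, he, heu⟩ := hcls u hu
    rcases heu with rfl | rfl
    · have : e ^ 2 = e ^ 2 * 1 := by ring
      rw [this, hA ht one_ne_zero he, hone ht]
    · rcases hct with rfl | rfl
      · have : c ^ 2 = c ^ 2 * 1 := by ring
        rw [this, hA' one_ne_zero (mul_ne_zero (pow_ne_zero 2 he) hv0) hc,
          hS one_ne_zero (mul_ne_zero (pow_ne_zero 2 he) hv0),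
          hone (mul_ne_zero (pow_ne_zero 2 he) hv0)]
      · rw [hA (mul_ne_zero (pow_ne_zero 2 hc) hv0) hv0 he, hA' hv0 hv0 hc, hvv]
  rw [S.hb_mul_eq, hfinal, one_mul]

end finite

end StD

end Cfsg.Agent.Helper7.St
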