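import Mathlib
import Cfsg.Agent.Helper7.StQ
import Cfsg.Agent.Helper7.StM
import Cfsg.Agent.Helper7.StCert2All

set_option autoImplicit false
set_option linter.unusedSectionVars false
set_option linter.unusedVariables false

/-!
Over a finite field the relators (R3) follow from (R1), (R2): the two presented groups are isomorphic.
-/

namespace Cfsg.Agent.Helper7.St

open Cfsg Cfsg.Lie Matrix Cfsg.Agent.Helper7.Chev
open scoped Pointwise

variable {D : ChevalleyDatum} {K : Type*} [Field K] {Γ : Type*} [Group Γ] (S : StD D K Γ)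

namespace StD

section general

variable (hG : Good2 D) (hT : T0 D) (h5 : (tabOf D).T5) (h5m : (tabOf D).T5m) (h6 : (tabOf D).T6)
  (h7 : (tabOf D).T7) (h7m : (tabOf D).T7m) (h8 : (tabOf D).T8)
  {wit : ℕ → ℕ × ℕ × ℕ} (h27 : (tabOf D).T37 wit)
  (hmul : ∀ i, i < D.rank → ∀ t u : K, t ≠ 0 → u ≠ 0 → S.hb i t * S.hb i u = S.hb i (t * u))

include hG hT h5 h5m h6 h7 h7m h8 h27 hmul in
/-- For a root in the orbit of the fundamental root `i`, the element `h̄_r(t)` is a conjugate of `hb i t`. -/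
theorem hbr_eq_conj {w : List ℕ} (hw : ∀ k ∈ w, k < D.rank) {i : ℕ} (hi : i < D.rank) :
    ∃ g : Γ, ∀ t : K, t ≠ 0 →
      S.nbr ((tabOf D).reflWord w (D.simple i)) t * S.nbr ((tabOf D).reflWord w (D.simple i)) (-1) =
        g * S.hb i t * g⁻¹ := by
  have hG1 := hG.toGood1
  have hp := hG1.simple_lt hi
  obtain ⟨g, -, ε, M⟩ := S.exists_Nb_of_word hG hT h5 h5m h6 h7 h7m h8 h27 w hw
  refine ⟨g, fun t ht => ?_⟩
  obtain ⟨e0, -, -⟩ := M.2 _ hp
  have c1 := S.monE_conj_nbr hG M hp ((ε (D.simple i))⁻¹ * t)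
  have c2 := S.monE_conj_nbr hG M hp ((ε (D.simple i))⁻¹ * (-1))
  rw [← mul_assoc, mul_inv_cancel₀ e0, one_mul] at c1 c2
  rw [← c1, ← c2]
  have e1 : g * S.nbr (D.simple i) ((ε (D.simple i))⁻¹ * t) * g⁻¹ *
      (g * S.nbr (D.simple i) ((ε (D.simple i))⁻¹ * (-1)) * g⁻¹) =
      g * (S.nbr (D.simple i) ((ε (D.simple i))⁻¹ * t) *
        S.nbr (D.simple i) ((ε (D.simple i))⁻¹ * (-1))) * g⁻¹ := by group
  rw [e1]
  congr 2
  rw [← S.nb_eq_nbr, ← S.nb_eq_nbr, mul_neg, mul_one, ← S.nb_inv hG hi, S.nb_mul_nb_inv hG hi,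
    mul_comm (ε (D.simple i))⁻¹ t, ← hmul i hi _ _ ht (inv_ne_zero e0), mul_inv_cancel_right]

include hG hT h5 h5m h6 h7 h7m h8 h27 hmul in
/-- The relation (R3) for every root. -/
theorem hbr_mul {orb : List (List ℕ × ℕ)} (h29 : (tabOf D).T29 orb) {r : ℕ} (hr : r < D.nroots)
    {t u : K} (ht : t ≠ 0) (hu : u ≠ 0) :
    S.nbr r t * S.nbr r (-1) * (S.nbr r u * S.nbr r (-1)) = S.nbr r (t * u) * S.nbr r (-1) := by
  have hG1 := hG.toGood1
  obtain ⟨h1, h2, h3⟩ := h29 r hr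
  have hw : ∀ k ∈ (orb.getD r ([], 0)).1, k < D.rank := by
    intro k hk
    exact of_decide_eq_true (List.all_eq_true.mp h1 k hk)
  have h2' : (orb.getD r ([], 0)).2 < D.rank := h2
  have h3' : (tabOf D).reflWord (orb.getD r ([], 0)).1 (D.simple (orb.getD r ([], 0)).2) = r := h3
  obtain ⟨g, hg⟩ := S.hbr_eq_conj hG hT h5 h5m h6 h7 h7m h8 h27 hmul hw h2'
  rw [h3'] at hg
  rw [hg t ht, hg u hu, hg (t * u) (mul_ne_zero ht hu), ← hmul _ h2' t u ht hu]
  group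

end general

end StD

end Cfsg.Agent.Helper7.St
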