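import Mathlib
import Cfsg.Agent.Helper7.StR
import Cfsg.Agent.Helper7.StJ

set_option autoImplicit false
set_option linter.unusedSectionVars false
set_option linter.unusedVariables false

/-!
Over a finite field the group presented by (R1), (R2) is isomorphic to the group presented by (R1)-(R3).
-/

namespace Cfsg.Agent.Helper7.St

open Cfsg Cfsg.Lie Matrix Cfsg.Agent.Helper7.Chev

variable {D : ChevalleyDatum} {K : Type*} [Field K]

section presented

variable (hG : Good3 D) (rels : Set (FreeGroup (Fin D.nroots × K)))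
  (hAB : D.steinbergRelsAB K ⊆ rels) (hkill : ∀ g ∈ rels, liftX hG.toGood1 g = 1)

theorem stdOf_hbr (r : ℕ) (t : K) :
    (stdOf hG rels hAB hkill).nbr r t * (stdOf hG rels hAB hkill).nbr r (-1) =
      PresentedGroup.mk rels (D.stH r t) := by
  unfold ChevalleyDatum.stH ChevalleyDatum.hWord
  rw [stdOf_nbr, stdOf_nbr, ← map_mul]
  congr 1
  unfold ChevalleyDatum.stWord
  rw [List.map_append, List.prod_append]

end presented

/-- The relators (R3) hold in the group presented by (R1), (R2) over a finite field. -/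
theorem cover_R3 [Finite K] (hD : D ∈ [chevG2, chevB2, chevD4, chevF4, chevE6, chevE7, chevE8])
    {r : ℕ} (hr : r < D.nroots) {t u : K} (ht : t ≠ 0) (hu : u ≠ 0) :
    PresentedGroup.mk (D.steinbergRelsAB K) (D.stH r t * D.stH r u * (D.stH r (t * u))⁻¹) = 1 := by
  have hG := good3_of_mem D hD
  have hkill : ∀ g ∈ D.steinbergRelsAB K, liftX (good3_of_mem D hD).toGood1 g = 1 :=
    fun g hg => liftX_relsAB (good3_of_mem D hD) hg
  have hAB : D.steinbergRelsAB K ⊆ D.steinbergRelsAB K := le_refl _
  obtain ⟨wit, h27⟩ := T37_of_mem D hD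
  obtain ⟨w₀, hw₀⟩ := exists_W0ok D hD
  obtain ⟨orb, h29⟩ := T29_of_mem D hD
  have hmul : ∀ i, i < D.rank → ∀ a b : K, a ≠ 0 → b ≠ 0 →
      (stdOf (good3_of_mem D hD) (D.steinbergRelsAB K) hAB hkill).hb i a *
        (stdOf (good3_of_mem D hD) (D.steinbergRelsAB K) hAB hkill).hb i b =
      (stdOf (good3_of_mem D hD) (D.steinbergRelsAB K) hAB hkill).hb i (a * b) := by
    intro i hi a b ha hb
    exact (stdOf (good3_of_mem D hD) (D.steinbergRelsAB K) hAB hkill).hb_mul_of_finite hG.toGood2
      (T0_of_mem D hD) (T5_of_mem D hD) (T5m_of_mem D hD) (T6_of_mem D hD) (T7_of_mem D hD)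
      (T7m_of_mem D hD) (T8_of_mem D hD) (T9_of_mem D hD) h27 hw₀
      (stdOf_gen _ (D.steinbergRelsAB K) hAB hkill) hi ha hb
  have key := (stdOf (good3_of_mem D hD) (D.steinbergRelsAB K) hAB hkill).hbr_mul hG.toGood2
    (T0_of_mem D hD) (T5_of_mem D hD) (T5m_of_mem D hD) (T6_of_mem D hD) (T7_of_mem D hD)
    (T7m_of_mem D hD) (T8_of_mem D hD) h27 hmul h29 hr ht hu
  rw [stdOf_hbr, stdOf_hbr, stdOf_hbr] at key
  rw [map_mul, map_mul, map_inv, mul_inv_eq_one]
  exact key

theorem lift_of_eq_mk {α : Type*} (rels : Set (FreeGroup α)) (g : FreeGroup α) :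
    FreeGroup.lift (fun p => (PresentedGroup.of p : PresentedGroup rels)) g =
      PresentedGroup.mk rels g := by
  have : FreeGroup.lift (fun p => (PresentedGroup.of p : PresentedGroup rels)) =
      PresentedGroup.mk rels := by
    ext p
    rw [FreeGroup.lift_apply_of]
    rfl
  rw [this]

/-- The isomorphism between the two presented groups over a finite field. -/
theorem cover_equiv [Finite K] (hD : D ∈ [chevG2, chevB2, chevD4, chevF4, chevE6, chevE7, chevE8]) :
    ∃ e : D.SteinbergCover K ≃* D.SteinbergGroup K,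
      ∀ (r : ℕ) (t : K), e (D.scGen K r t) = D.stGen K r t := by
  have h1 : ∀ g ∈ D.steinbergRelsAB K,
      FreeGroup.lift (fun p => (PresentedGroup.of p : PresentedGroup (D.steinbergRels K))) g = 1 := by
    intro g hg
    rw [lift_of_eq_mk]
    exact PresentedGroup.one_of_mem (Or.inl hg)
  have h2 : ∀ g ∈ D.steinbergRels K,
      FreeGroup.lift (fun p => (PresentedGroup.of p : PresentedGroup (D.steinbergRelsAB K))) g = 1 := by
    intro g hg
    rw [lift_of_eq_mk]
    rcases hg with hg | ⟨r, t₁, t₂, hr, ht₁, ht₂, rfl⟩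
    · exact PresentedGroup.one_of_mem hg
    · exact cover_R3 hD hr ht₁ ht₂
  have e12 : ∀ x, PresentedGroup.toGroup h2 (PresentedGroup.toGroup h1 x) = x := by
    intro x
    have : (PresentedGroup.toGroup h2).comp (PresentedGroup.toGroup h1) = MonoidHom.id _ := by
      apply PresentedGroup.ext
      intro p
      rw [MonoidHom.comp_apply, PresentedGroup.toGroup.of, PresentedGroup.toGroup.of]
      rfl
    exact DFunLike.congr_fun this x
  have e21 : ∀ x, PresentedGroup.toGroup h1 (PresentedGroup.toGroup h2 x) = x := by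
    intro x
    have : (PresentedGroup.toGroup h1).comp (PresentedGroup.toGroup h2) = MonoidHom.id _ := by
      apply PresentedGroup.ext
      intro p
      rw [MonoidHom.comp_apply, PresentedGroup.toGroup.of, PresentedGroup.toGroup.of]
      rfl
    exact DFunLike.congr_fun this x
  refine ⟨MulEquiv.mk' ⟨PresentedGroup.toGroup h1, PresentedGroup.toGroup h2, e12, e21⟩
    (fun x y => map_mul (PresentedGroup.toGroup h1) x y), fun r t => ?_⟩
  change PresentedGroup.toGroup h1 (PresentedGroup.mk _ (D.stX r t)) = _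
  rw [toGroup_mk, lift_of_eq_mk]
  rfl

end Cfsg.Agent.Helper7.St
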