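import Mathlib
import Cfsg.Agent.Helper7.StS

set_option autoImplicit false
set_option linter.unusedSectionVars false
set_option linter.unusedVariables false

/-!
The table facts in one bundle, and the elements of the subgroup `Hb` acting on the elements `xb s u` by
scalars.
-/

namespace Cfsg.Agent.Helper7.St

open Cfsg Cfsg.Lie Matrix Cfsg.Agent.Helper7.Chev

variable {D : ChevalleyDatum} {K : Type*} [Field K] {Γ : Type*} [Group Γ] (S : StD D K Γ)

namespace StD

/-- The table facts and the generation by the elements `xb r t`, in one bundle. -/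
structure Hyp : Prop where
  hG : Good2 D
  hT : T0 D
  h5 : (tabOf D).T5
  h5m : (tabOf D).T5m
  h6 : (tabOf D).T6
  h7 : (tabOf D).T7
  h7m : (tabOf D).T7m
  h8 : (tabOf D).T8
  h9 : (tabOf D).T9
  h27 : ∃ wit, (tabOf D).T37 wit
  hw₀ : ∃ w₀, (tabOf D).W0ok w₀
  hgen : Subgroup.closure {g | ∃ (r : ℕ) (t : K), r < D.nroots ∧ g = S.xb r t} = ⊤

variable {S}
variable (H : S.Hyp)

include H in
theorem Hyp.nb_conj {i : ℕ} (hi : i < D.rank) {s : ℕ} (hs : s < D.nroots) {t : K} (ht : t ≠ 0)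
    (u : K) : S.nb i t * S.xb s u * (S.nb i t)⁻¹ =
      S.xb ((tabOf D).refl (D.simple i) s) (cf D K i s t * u) := by
  obtain ⟨wit, h27⟩ := H.h27
  exact S.nb_conj H.hG H.hT H.h5 H.h5m H.h6 H.h7 H.h7m H.h8 h27 hi hs ht u

include H in
theorem Hyp.monE_nb {i : ℕ} (hi : i < D.rank) {t : K} (ht : t ≠ 0) :
    S.MonE (S.nb i t) [i] (fun s => cf D K i s t) := by
  obtain ⟨wit, h27⟩ := H.h27
  exact S.monE_nb H.hG H.hT H.h5 H.h5m H.h6 H.h7 H.h7m H.h8 h27 hi ht

include H in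
theorem Hyp.Nb_monE {g : Γ} (hg : g ∈ S.Nb) : ∃ (w : List ℕ) (ε : ℕ → K), S.MonE g w ε := by
  obtain ⟨wit, h27⟩ := H.h27
  exact S.Nb_monE H.hG H.hT H.h5 H.h5m H.h6 H.h7 H.h7m H.h8 h27 hg

include H in
theorem Hyp.exists_Nb_of_word (w : List ℕ) (hw : ∀ i ∈ w, i < D.rank) :
    ∃ g ∈ S.Nb, ∃ ε : ℕ → K, S.MonE g w ε := by
  obtain ⟨wit, h27⟩ := H.h27
  exact S.exists_Nb_of_word H.hG H.hT H.h5 H.h5m H.h6 H.h7 H.h7m H.h8 h27 w hw

include H in
theorem Hyp.ker_center {x : Γ} (hx : S.π x = 1) : x ∈ Subgroup.center Γ := by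
  obtain ⟨wit, h27⟩ := H.h27
  obtain ⟨w₀, hw₀⟩ := H.hw₀
  exact (S.ker_mem H.hG H.hT H.h5 H.h5m H.h6 H.h7 H.h7m H.h8 H.h9 h27 hw₀ H.hgen hx).2

include H in
theorem Hyp.Nb_normalizes_Hb : S.Nb ≤ Subgroup.normalizer (S.Hb : Set Γ) := by
  obtain ⟨wit, h27⟩ := H.h27
  exact S.Nb_le_normalizer_Hb H.hG H.hT H.h5 H.h5m H.h6 H.h7 H.h7m H.h8 h27

include H in
/-- An element commuting with the elements `xb s u` is central. -/
theorem Hyp.central_of_comm {g : Γ} (hg : ∀ s, s < D.nroots → ∀ u : K, g * S.xb s u = S.xb s u * g) :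
    g ∈ Subgroup.center Γ := by
  rw [Subgroup.mem_center_iff]
  intro x
  have hx : x ∈ Subgroup.centralizer ({g} : Set Γ) := by
    have : Subgroup.closure {g' | ∃ (r : ℕ) (t : K), r < D.nroots ∧ g' = S.xb r t} ≤
        Subgroup.centralizer ({g} : Set Γ) := by
      rw [Subgroup.closure_le]
      rintro y ⟨r, t, hr, rfl⟩
      rw [SetLike.mem_coe, Subgroup.mem_centralizer_iff]
      intro z hz
      rw [Set.mem_singleton_iff] at hz
      rw [hz]
      exact hg r hr t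
    apply this
    rw [H.hgen]
    trivial
  rw [Subgroup.mem_centralizer_iff] at hx
  exact (hx g rfl).symm

variable (S)

/-- The element `g` acts on the elements `xb s u` by the scalars `χ s`. -/
def TorE (g : Γ) (χ : ℕ → K) : Prop :=
  ∀ s, s < D.nroots → χ s ≠ 0 ∧ ∀ u : K, g * S.xb s u * g⁻¹ = S.xb s (χ s * u)

theorem torE_one : S.TorE 1 (fun _ => 1) := by
  intro s _
  refine ⟨one_ne_zero, fun u => ?_⟩
  rw [one_mul, one_mul, inv_one, mul_one]

variable {S}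

theorem TorE.mul {g g' : Γ} {χ χ' : ℕ → K} (h : S.TorE g χ) (h' : S.TorE g' χ') :
    S.TorE (g * g') (fun s => χ s * χ' s) := by
  intro s hs
  obtain ⟨a1, a2⟩ := h s hs
  obtain ⟨b1, b2⟩ := h' s hs
  refine ⟨mul_ne_zero a1 b1, fun u => ?_⟩
  have e : g * g' * S.xb s u * (g * g')⁻¹ = g * (g' * S.xb s u * g'⁻¹) * g⁻¹ := by group
  rw [e, b2, a2, mul_assoc]

theorem TorE.inv {g : Γ} {χ : ℕ → K} (h : S.TorE g χ) : S.TorE g⁻¹ (fun s => (χ s)⁻¹) := by
  intro s hs
  obtain ⟨a1, a2⟩ := h s hs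
  refine ⟨inv_ne_zero a1, fun u => ?_⟩
  have := a2 ((χ s)⁻¹ * u)
  rw [← mul_assoc, mul_inv_cancel₀ a1, one_mul] at this
  rw [← this]
  group

include H in
/-- The elements `hb i t` act by the scalars `t ^ ⟨s, p_i⟩`. -/
theorem Hyp.torE_hb {i : ℕ} (hi : i < D.rank) {t : K} (ht : t ≠ 0) :
    S.TorE (S.hb i t) (fun s => t ^ (tabOf D).pairing (D.simple i) s) := by
  have hG := H.hG
  have hG1 := hG.toGood1
  have hp := hG1.simple_lt hi
  have hm1 : (-1 : K) ≠ 0 := neg_ne_zero.mpr one_ne_zero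
  have M := S.monE_mul hG (H.monE_nb hi ht) (H.monE_nb hi hm1)
  intro s hs
  refine ⟨zpow_ne_zero _ ht, fun u => ?_⟩
  obtain ⟨c1, _, c3⟩ := M.2 s hs
  have hrefl : (tabOf D).reflWord ([i] ++ [i]) s = s := by
    change (tabOf D).refl (D.simple i) ((tabOf D).refl (D.simple i) s) = s
    exact hG.refl_refl hi hs
  have e := c3 u
  rw [hrefl] at e
  change S.hb i t * S.xb s u * (S.hb i t)⁻¹ = _ at e
  rw [e]
  -- compare in the matrix group
  have eπ := congrArg S.π e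
  rw [map_mul, map_mul, map_inv, S.π_xb hG1 hs, S.π_xb hG1 hs] at eπ
  have hh : S.π (S.hb i t) = hGL hG1 hp t ht := by
    apply Units.ext
    rw [S.π_hb hG hi, hGL_coe]
  have e2 : hGL hG1 hp t ht * xGL hG1 hs u * (hGL hG1 hp t ht)⁻¹ =
      xGL hG1 hs (t ^ (tabOf D).pairing (D.simple i) s * u) := by
    rw [mul_inv_eq_iff_eq_mul]
    apply Units.ext
    rw [Units.val_mul, Units.val_mul, hGL_coe, xGL_coe, xGL_coe]
    exact hMat_mul_x hG hp ht hs u
  rw [hh, e2] at eπ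
  rw [xGL_injective hG H.hT H.h8 hs eπ]

include H in
/-- Every element of `Hb` acts by scalars. -/
theorem Hyp.Hb_torE {h : Γ} (hh : h ∈ S.Hb) : ∃ χ : ℕ → K, S.TorE h χ := by
  unfold Hb at hh
  induction hh using Subgroup.closure_induction with
  | mem x hx =>
    obtain ⟨i, t, hi, ht, rfl⟩ := hx
    exact ⟨_, H.torE_hb hi ht⟩
  | one => exact ⟨_, S.torE_one⟩
  | mul x y _ _ hx hy =>
    obtain ⟨χ, h⟩ := hx
    obtain ⟨χ', h'⟩ := hy
    exact ⟨_, h.mul h'⟩
  | inv x _ hx =>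
    obtain ⟨χ, h⟩ := hx
    exact ⟨_, h.inv⟩

include H in
/-- Commutators of elements of `Hb` are central. -/
theorem Hyp.Hb_comm_central {x y : Γ} (hx : x ∈ S.Hb) (hy : y ∈ S.Hb) :
    x * y * x⁻¹ * y⁻¹ ∈ Subgroup.center Γ := by
  obtain ⟨χ, h⟩ := H.Hb_torE hx
  obtain ⟨χ', h'⟩ := H.Hb_torE hy
  have T := (h.mul h').mul (h.inv.mul h'.inv)
  apply H.central_of_comm
  intro s hs u
  obtain ⟨_, c⟩ := T s hs
  obtain ⟨a1, _⟩ := h s hs
  obtain ⟨b1, _⟩ := h' s hs
  have e := c u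
  have e1 : χ s * χ' s * ((χ s)⁻¹ * (χ' s)⁻¹) = 1 := by
    field_simp
  simp only [] at e
  rw [e1, one_mul] at e
  have e2 : x * y * (x⁻¹ * y⁻¹) = x * y * x⁻¹ * y⁻¹ := by group
  rw [e2] at e
  rw [← mul_inv_eq_iff_eq_mul]
  exact e

variable (S)

/-- The product of the elements `hb i (v ^ c_i(γ))`, which acts as `h_γ(v)`. -/
def hgam (γ : ℕ) (v : K) : Γ :=
  ((List.range D.rank).map fun i => S.hb i (v ^ (tabOf D).cr γ i)).prod

variable {S}

theorem hgam_mem_Hb (γ : ℕ) {v : K} (hv : v ≠ 0) : S.hgam γ v ∈ S.Hb := by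
  unfold hgam
  apply Subgroup.list_prod_mem
  intro x hx
  rw [List.mem_map] at hx
  obtain ⟨i, hi, rfl⟩ := hx
  exact S.hb_mem_Hb (List.mem_range.mp hi) (zpow_ne_zero _ hv)

include H in
/-- The element `hgam γ v` acts by the scalars `v ^ ⟨s, γ⟩`. -/
theorem Hyp.torE_hgam (γ : ℕ) {v : K} (hv : v ≠ 0) :
    S.TorE (S.hgam γ v) (fun s => v ^ (tabOf D).pairing γ s) := by
  have hG := H.hG
  have hG1 := hG.toGood1
  have key : ∀ L : List ℕ, (∀ i ∈ L, i < D.rank) →
      S.TorE ((L.map fun i => S.hb i (v ^ (tabOf D).cr γ i)).prod)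
        (fun s => v ^ (L.map fun i => (tabOf D).cr γ i * (tabOf D).cartan i s).sum) := by
    intro L
    induction L with
    | nil =>
      intro _
      simp only [List.map_nil, List.prod_nil, List.sum_nil, zpow_zero]
      exact S.torE_one
    | cons i L ih =>
      intro hL
      have hi := hL i List.mem_cons_self
      have h1 := H.torE_hb hi (zpow_ne_zero ((tabOf D).cr γ i) hv)
      have h2 := ih (fun j hj => hL j (List.mem_cons_of_mem _ hj))
      have h3 := h1.mul h2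
      rw [List.map_cons, List.prod_cons]
      intro s hs
      obtain ⟨a1, a2⟩ := h3 s hs
      have e : (v ^ (tabOf D).cr γ i) ^ (tabOf D).pairing (D.simple i) s *
          v ^ (L.map fun i => (tabOf D).cr γ i * (tabOf D).cartan i s).sum =
          v ^ ((i :: L).map fun i => (tabOf D).cr γ i * (tabOf D).cartan i s).sum := by
        rw [List.map_cons, List.sum_cons, zpow_add₀ hv, ← _root_.zpow_mul, pairing_simple hG1 hi]
        rfl
      simp only [] at a1 a2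
      rw [e] at a1 a2
      exact ⟨a1, a2⟩
  exact key (List.range D.rank) (fun i hi => List.mem_range.mp hi)

end StD

end Cfsg.Agent.Helper7.St
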