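import Mathlib
import Cfsg.Agent.Helper7.ScA
import Cfsg.Agent.Helper7.ScB
import Cfsg.Agent.Helper7.ScC

set_option autoImplicit false
set_option linter.unusedSectionVars false
set_option linter.unusedVariables false

/-!
Central extensions of a group with elements `xb r t`: lifts of commuting root elements commute, under
conditions on the torus.
-/

namespace Cfsg.Agent.Helper7.Sc

open Cfsg Cfsg.Lie Cfsg.Agent.Helper7.Chev Cfsg.Agent.Helper7.St

variable {D : ChevalleyDatum} {K : Type*} [Field K] {Γ E : Type*} [Group Γ] [Group E]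
  {S : StD D K Γ} (C : CExt E Γ)

/-- Conjugation by a lift of an element acting by scalars, on the commutator of lifts of root elements. -/
theorem kap_cm_xb {h : Γ} {χ : ℕ → K} (hh : S.TorE h χ) {r s : ℕ} (hr : r < D.nroots)
    (hs : s < D.nroots) (t u : K) :
    C.kap h (C.cm (S.xb r t) (S.xb s u)) = C.cm (S.xb r (χ r * t)) (S.xb s (χ s * u)) := by
  rw [C.kap_cm, (hh r hr).2, (hh s hs).2]

/-- Lifts of commuting root elements of two roots separated by the torus commute. -/
theorem lc_of_torus {r s : ℕ} (hr : r < D.nroots) (hs : s < D.nroots)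
    (hcomm : ∀ t u : K, S.xb r t * S.xb s u = S.xb s u * S.xb r t)
    {h : Γ} {χ : ℕ → K} (hh : S.TorE h χ) (h1 : χ r = 1) (h2 : χ s ≠ 1) (t u : K) :
    C.LC (S.xb r t) (S.xb s u) := by
  rw [C.LC_iff]
  have hadd : ∀ t u u' : K, C.cm (S.xb r t) (S.xb s (u + u')) =
      C.cm (S.xb r t) (S.xb s u) * C.cm (S.xb r t) (S.xb s u') := by
    intro t u u'
    rw [← S.add s hs, C.cm_mul_right_of_comm (hcomm t u')]
  have hinv : ∀ t u : K, C.cm (S.xb r t) (S.xb s (χ s * u)) = C.cm (S.xb r t) (S.xb s u) := by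
    intro t u
    have := kap_cm_xb C hh hr hs t u
    rw [C.kap_ker (C.ψ_cm_of_comm (hcomm t u)), h1, one_mul] at this
    exact this.symm
  have hb : χ s - 1 ≠ 0 := sub_ne_zero.mpr h2
  have key : ∀ u : K, C.cm (S.xb r t) (S.xb s ((χ s - 1) * u)) = 1 := by
    intro u
    have e1 := hinv t u
    have e2 : χ s * u = (χ s - 1) * u + u := by ring
    rw [e2, hadd] at e1
    exact mul_eq_right.mp e1
  have := key ((χ s - 1)⁻¹ * u)
  rwa [← mul_assoc, mul_inv_cancel₀ hb, one_mul] at this

/-- Lifts of root elements of one root commute, when the torus acts on the root by all scalars. -/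
theorem lc_self_of_torus (hK : ∃ s : Finset K, 4 < s.card) {r : ℕ} (hr : r < D.nroots)
    (htor : ∀ v : K, v ≠ 0 → ∃ (h : Γ) (χ : ℕ → K), S.TorE h χ ∧ χ r = v) (t u : K) :
    C.LC (S.xb r t) (S.xb r u) := by
  have hcomm : ∀ t u : K, S.xb r t * S.xb r u = S.xb r u * S.xb r t := by
    intro t u
    rw [S.add r hr, S.add r hr, add_comm]
  have hadd : ∀ t u u' : K, C.cm (S.xb r t) (S.xb r (u + u')) =
      C.cm (S.xb r t) (S.xb r u) * C.cm (S.xb r t) (S.xb r u') := by
    intro t u u'
    rw [← S.add r hr, C.cm_mul_right_of_comm (hcomm t u')]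
  have hzero : ∀ t : K, C.cm (S.xb r t) (S.xb r 0) = 1 := by
    intro t
    have := hadd t 0 0
    rw [add_zero] at this
    exact (mul_eq_left.mp this.symm)
  have hscal : ∀ v : K, v ≠ 0 → ∀ t u : K,
      C.cm (S.xb r (v * t)) (S.xb r (v * u)) = C.cm (S.xb r t) (S.xb r u) := by
    intro v hv t u
    obtain ⟨h, χ, hh, hχ⟩ := htor v hv
    have := kap_cm_xb C hh hr hr t u
    rw [C.kap_ker (C.ψ_cm_of_comm (hcomm t u)), hχ] at this
    exact this.symm
  -- the additive subgroup of the parameters `w` with trivial commutator of lifts of `x(1)`, `x(w)`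
  let A : AddSubgroup K :=
    { carrier := {w | C.cm (S.xb r 1) (S.xb r w) = 1}
      zero_mem' := hzero 1
      add_mem' := by
        intro a b ha hb
        rw [Set.mem_setOf_eq] at ha hb ⊢
        rw [hadd, ha, hb, one_mul]
      neg_mem' := by
        intro a ha
        rw [Set.mem_setOf_eq] at ha ⊢
        have := hadd 1 a (-a)
        rw [add_neg_cancel, hzero, ha, one_mul] at this
        exact this.symm }
  have hA1 : (1 : K) ∈ A := C.cm_self _
  have hAw : ∀ w : K, w ≠ 0 → w + w⁻¹ ∈ A := by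
    intro w hw
    change C.cm (S.xb r 1) (S.xb r (w + w⁻¹)) = 1
    rw [hadd]
    have e1 := hscal w hw 1 w⁻¹
    rw [mul_one, mul_inv_cancel₀ hw] at e1
    rw [← e1, ← C.cm_inv (S.xb r 1) (S.xb r w), mul_inv_cancel]
  have hAtop := addSubgroup_eq_top hK A hA1 hAw
  have hone : ∀ w : K, C.cm (S.xb r 1) (S.xb r w) = 1 := by
    intro w
    have : w ∈ A := by rw [hAtop]; trivial
    exact this
  rw [C.LC_iff]
  by_cases ht : t = 0
  · rw [ht, ← C.cm_inv, hzero, inv_one]
  · have := hscal t ht 1 (t⁻¹ * u)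
    rw [mul_one, ← mul_assoc, mul_inv_cancel₀ ht, one_mul] at this
    rw [this, hone]

/-- Lifts of root elements of one root commute, when the root elements lie in a subgroup generated by
elements whose lifts commute with them. -/
theorem lc_self_of_closure {r : ℕ} (hr : r < D.nroots) (P : ℕ → Prop)
    (hmem : ∀ t : K, S.xb r t ∈ Subgroup.closure {g | ∃ (p : ℕ) (a : K), P p ∧ g = S.xb p a})
    (hP : ∀ p, P p → ∀ a u : K, C.LC (S.xb p a) (S.xb r u)) (t u : K) :
    C.LC (S.xb r t) (S.xb r u) := by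
  have hle : Subgroup.closure {g | ∃ (p : ℕ) (a : K), P p ∧ g = S.xb p a} ≤ C.LCen (S.xb r u) := by
    rw [Subgroup.closure_le]
    rintro g ⟨p, a, hp, rfl⟩
    exact hP p hp a u
  exact hle (hmem t)

end Cfsg.Agent.Helper7.Sc
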