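import Mathlib
import Cfsg.Agent.Helper7.ScD
import Cfsg.Agent.Helper7.ScT

set_option autoImplicit false
set_option linter.unusedSectionVars false
set_option linter.unusedVariables false

/-!
Central extensions of a group with elements `xb r t` over a field with more than four elements: lifts of
commuting root elements commute.
-/

namespace Cfsg.Agent.Helper7.Sc

open Cfsg Cfsg.Lie Cfsg.Agent.Helper7.Chev Cfsg.Agent.Helper7.St

/-- The data of a central extension of a group with elements `xb r t`, with the table facts. -/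
structure Ctx {D : ChevalleyDatum} {K : Type*} [Field K] {Γ : Type*} [Group Γ] (S : StD D K Γ)
    (E : Type*) [Group E] where
  /-- the central extension -/
  C : CExt E Γ
  H : S.Hyp
  h3 : (tabOf D).T3
  hK : ∃ s : Finset K, 4 < s.card
  tp1 : (tabOf D).TP1
  tp3 : (tabOf D).TP3
  t7s : (tabOf D).T7s
  orb : ∃ orb, (tabOf D).T29 orb

variable {D : ChevalleyDatum} {K : Type*} [Field K] {Γ E : Type*} [Group Γ] [Group E]
  {S : StD D K Γ} (X : Ctx S E)

namespace Ctx

/-- Root elements of two roots with no commutator terms commute. -/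
theorem xb_comm_of_nil {r s : ℕ} (hr : r < D.nroots) (hs : s < D.nroots) (hsr : s ≠ r)
    (hsn : s ≠ D.neg r) (hnil : D.commTerms r s = []) (t u : K) :
    S.xb r t * S.xb s u = S.xb s u * S.xb r t := by
  have := S.comm r s hr hs hsr hsn t u
  unfold ChevalleyDatum.commWord at this
  rw [hnil] at this
  simp only [List.map_nil, List.prod_nil, mul_one] at this
  exact this.symm

include X in
/-- Two roots `s ≠ ± r` are separated by an element acting by scalars. -/
theorem exists_sep {r s : ℕ} (hr : r < D.nroots) (hs : s < D.nroots) (hsr : s ≠ r)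
    (hsn : s ≠ D.neg r) :
    ∃ (h : Γ) (χ : ℕ → K), h ∈ S.Hb ∧ S.TorE h χ ∧ χ r = 1 ∧ χ s ≠ 1 := by
  have h : (tabOf D).sepB r s = true := X.tp1 r hr s hs hsr hsn
  unfold Tab.sepB at h
  rw [List.any_eq_true] at h
  obtain ⟨γ, _, hγ⟩ := h
  simp only [Bool.and_eq_true, decide_eq_true_eq] at hγ
  obtain ⟨⟨h1, h2⟩, h3⟩ := hγ
  obtain ⟨v, hv0, hv⟩ := exists_zpow_ne_one X.hK h2 h3
  refine ⟨S.hgam γ v, _, StD.hgam_mem_Hb γ hv0, X.H.torE_hgam γ hv0, ?_, hv⟩
  rw [h1, zpow_zero]

/-- Lifts of commuting root elements of two roots `s ≠ ± r` commute. -/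
theorem lc_sep {r s : ℕ} (hr : r < D.nroots) (hs : s < D.nroots) (hsr : s ≠ r)
    (hsn : s ≠ D.neg r) (hnil : D.commTerms r s = []) (t u : K) :
    X.C.LC (S.xb r t) (S.xb s u) := by
  obtain ⟨h, χ, _, hh, h1, h2⟩ := X.exists_sep hr hs hsr hsn
  exact lc_of_torus X.C hr hs (xb_comm_of_nil hr hs hsr hsn hnil) hh h1 h2 t u

theorem lc_of_okB {r s : ℕ} (hr : r < D.nroots) (h : (tabOf D).okB r s = true) (t u : K) :
    X.C.LC (S.xb s t) (S.xb r u) := by
  unfold Tab.okB at h
  simp only [Bool.and_eq_true, decide_eq_true_eq, List.isEmpty_iff] at h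
  obtain ⟨⟨⟨h1, h2⟩, h3⟩, h4⟩ := h
  exact (X.lc_sep hr h1 h2 h3 h4 u t).symm

/-- Lifts of root elements of one root commute. -/
theorem lc_self {r : ℕ} (hr : r < D.nroots) (t u : K) : X.C.LC (S.xb r t) (S.xb r u) := by
  have h : ((tabOf D).unitB r || (tabOf D).appA r) = true := X.tp3 r hr
  rw [Bool.or_eq_true] at h
  rcases h with h | h
  · -- the torus acts by all scalars
    unfold Tab.unitB at h
    rw [List.any_eq_true] at h
    obtain ⟨γ, _, hγ⟩ := h
    simp only [Bool.or_eq_true, decide_eq_true_eq] at hγ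
    apply lc_self_of_torus X.C X.hK hr
    intro v hv
    rcases hγ with h1 | h1
    · refine ⟨S.hgam γ v, _, X.H.torE_hgam γ hv, ?_⟩
      rw [h1, zpow_one]
    · refine ⟨S.hgam γ v⁻¹, _, X.H.torE_hgam γ (inv_ne_zero hv), ?_⟩
      rw [h1, zpow_neg_one, inv_inv]
  · -- the root is a commutator term
    unfold Tab.appA at h
    rw [List.any_eq_true] at h
    obtain ⟨p, hp, h⟩ := h
    rw [List.any_eq_true] at h
    obtain ⟨q, hq, h⟩ := h
    rw [List.mem_range] at hp hq
    have hn : (tabOf D).n = D.nroots := rfl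
    rw [hn] at hp hq
    rw [commTerms_eq] at h
    rcases hct : D.commTerms p q with _ | ⟨c₁, _ | ⟨c₂, _ | ⟨c₃, l⟩⟩⟩
    · rw [hct] at h; simp at h
    · rw [hct] at h; simp at h
    · rw [hct] at h
      simp only [Bool.and_eq_true, Bool.or_eq_true, decide_eq_true_eq] at h
      obtain ⟨⟨hqp, hqn⟩, ⟨⟨⟨⟨⟨hc2r, hC⟩, hi1⟩, ok1⟩, ok2⟩, ok3⟩⟩ := h
      apply lc_self_of_closure X.C hr (fun x => x = p ∨ x = q ∨ x = c₁.1)
      · intro t₀
        -- the commutator relation at `(t, 1)` with `-C t = t₀`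
        have hrel := S.comm p q hp hq hqp hqn (-((c₂.2.1 : ℤ) : K) * t₀) 1
        unfold ChevalleyDatum.commWord at hrel
        rw [hct] at hrel
        simp only [List.map_cons, List.map_nil, List.prod_cons, List.prod_nil, mul_one] at hrel
        rw [hc2r, hi1] at hrel
        have hCC : ((c₂.2.1 : ℤ) : K) * ((c₂.2.1 : ℤ) : K) = 1 := by
          rcases hC with hC | hC <;> rw [hC] <;> simp
        have eparam : ((c₂.2.1 : ℤ) : K) * (-(-((c₂.2.1 : ℤ) : K) * t₀)) ^ 1 * 1 ^ c₂.2.2.2 = t₀ := by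
          rw [one_pow, mul_one, pow_one]
          linear_combination t₀ * hCC
        rw [eparam] at hrel
        have e : S.xb r t₀ = (S.xb c₁.1 (((c₁.2.1 : ℤ) : K) *
            (-(-((c₂.2.1 : ℤ) : K) * t₀)) ^ c₁.2.2.1 * 1 ^ c₁.2.2.2))⁻¹ *
            ((S.xb p (-((c₂.2.1 : ℤ) : K) * t₀) * S.xb q 1)⁻¹ *
              (S.xb q 1 * S.xb p (-((c₂.2.1 : ℤ) : K) * t₀))) := by
          rw [hrel]
          group
        rw [e]
        apply mul_mem
        · apply inv_mem
          exact Subgroup.subset_closure ⟨c₁.1, _, Or.inr (Or.inr rfl), rfl⟩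
        · apply mul_mem
          · apply inv_mem
            apply mul_mem
            · exact Subgroup.subset_closure ⟨p, _, Or.inl rfl, rfl⟩
            · exact Subgroup.subset_closure ⟨q, _, Or.inr (Or.inl rfl), rfl⟩
          · apply mul_mem
            · exact Subgroup.subset_closure ⟨q, _, Or.inr (Or.inl rfl), rfl⟩
            · exact Subgroup.subset_closure ⟨p, _, Or.inl rfl, rfl⟩
      · rintro x (rfl | rfl | rfl) a u'
        · exact X.lc_of_okB hr ok1 a u'
        · exact X.lc_of_okB hr ok2 a u'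
        · exact X.lc_of_okB hr ok3 a u'
    · rw [hct] at h; simp at h

end Ctx

end Cfsg.Agent.Helper7.Sc
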