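import Mathlib
import Cfsg.Agent.Helper7.ScF

set_option autoImplicit false
set_option linter.unusedSectionVars false
set_option linter.unusedVariables false

/-!
The canonical lifts of the root elements of the positive roots satisfy the commutator relations, and the
projection is injective on the subgroup they generate.
-/

namespace Cfsg.Agent.Helper7.Sc

open Cfsg Cfsg.Lie Cfsg.Agent.Helper7.Chev Cfsg.Agent.Helper7.St
open scoped Pointwise

variable {D : ChevalleyDatum} {K : Type*} [Field K] {Γ E : Type*} [Group Γ] [Group E]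
  {S : StD D K Γ} (X : Ctx S E)

/-- Conjugation form of the commutator relation. -/
theorem xb_conj_rel (S : StD D K Γ) {r s : ℕ} (hr : r < D.nroots) (hs : s < D.nroots) (hsr : s ≠ r)
    (hsn : s ≠ D.neg r) (t u : K) :
    S.xb r t * S.xb s u * (S.xb r t)⁻¹ = S.xb s u * S.wd (D.commWord K r s (-t) u) := by
  have := S.comm r s hr hs hsr hsn (-t) u
  rw [← S.xb_inv hr] at this
  change S.xb s u * (S.xb r t)⁻¹ = (S.xb r t)⁻¹ * S.xb s u * S.wd (D.commWord K r s (-t) u) at this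
  rw [mul_assoc, this]
  group

namespace Ctx

/-- The product of the canonical lifts along a word. -/
noncomputable def wdY (w : List (ℕ × K)) : E := (w.map fun p => X.y p.1 p.2).prod

theorem ψ_wdY (w : List (ℕ × K)) (hw : ∀ q ∈ w, q.1 < D.nroots) : X.C.ψ (X.wdY w) = S.wd w := by
  unfold wdY StD.wd
  induction w with
  | nil => simp
  | cons p w ih =>
    rw [List.map_cons, List.prod_cons, List.map_cons, List.prod_cons, map_mul,
      X.ψ_y (hw p List.mem_cons_self), ih (fun q hq => hw q (List.mem_cons_of_mem _ hq))]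

/-- The subgroup generated by the canonical lifts for the roots of index at least `k`. -/
def Yge (k : ℕ) : Subgroup E :=
  Subgroup.closure {g | ∃ (s : ℕ) (v : K), k ≤ s ∧ s < D.nroots ∧ g = X.y s v}

theorem y_mem_Yge {k s : ℕ} (hks : k ≤ s) (hs : s < D.nroots) (v : K) : X.y s v ∈ X.Yge k :=
  Subgroup.subset_closure ⟨s, v, hks, hs, rfl⟩

theorem Yge_anti {k k' : ℕ} (h : k ≤ k') : X.Yge k' ≤ X.Yge k := by
  unfold Yge
  apply Subgroup.closure_mono
  rintro g ⟨s, v, h1, h2, rfl⟩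
  exact ⟨s, v, le_trans h h1, h2, rfl⟩

theorem Yge_top : X.Yge D.nroots = ⊥ := by
  unfold Yge
  rw [Subgroup.closure_eq_bot_iff]
  rintro g ⟨s, v, h1, h2, _⟩
  omega

theorem wdY_mem_Yge {k : ℕ} (w : List (ℕ × K)) (hw : ∀ q ∈ w, k ≤ q.1 ∧ q.1 < D.nroots) :
    X.wdY w ∈ X.Yge k := by
  apply Subgroup.list_prod_mem
  intro x hx
  rw [List.mem_map] at hx
  obtain ⟨q, hq, rfl⟩ := hx
  exact X.y_mem_Yge (hw q hq).1 (hw q hq).2 _

/-- The commutator relation for the canonical lifts of the pair `(r, s)`. -/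
def R2y (r s : ℕ) : Prop :=
  ∀ t u : K, X.y s u * X.y r t = X.y r t * X.y s u * X.wdY (D.commWord K r s t u)

include X in
/-- The roots of the commutator word of two positive roots `r < s` have index greater than `r`. -/
theorem commWord_gt {r s : ℕ} (hr1 : D.nroots / 2 ≤ r) (hr : r < D.nroots) (hs : s < D.nroots)
    (hrs : r < s) (t u : K) : ∀ q ∈ D.commWord K r s t u, r + 1 ≤ q.1 ∧ q.1 < D.nroots := by
  intro q hq
  unfold ChevalleyDatum.commWord at hq
  rw [List.mem_map] at hq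
  obtain ⟨c, hc, rfl⟩ := hq
  have h := X.H.h7 r hr hr1 s hs hrs
  rw [List.all_eq_true] at h
  have := of_decide_eq_true (h c (by rw [commTerms_eq]; exact hc))
  exact ⟨this.1, this.2⟩

include X in
theorem neg_lt_of_pos {r s : ℕ} (hr1 : D.nroots / 2 ≤ r) (hr : r < D.nroots) (hrs : r < s) :
    s ≠ D.neg r := by
  have := (X.H.h8.1 r hr).1
  change D.neg r = D.nroots - 1 - r at this
  omega

/-- Conjugation by a canonical lift, from the commutator relation. -/
theorem y_conj_of_R2y {r s : ℕ} (hr : r < D.nroots) (h : X.R2y r s) (t u : K) :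
    (X.y r t)⁻¹ * X.y s u * X.y r t = X.y s u * X.wdY (D.commWord K r s t u) := by
  rw [mul_assoc, h t u]
  group

theorem y_normalizes_Yge {k : ℕ} (hk1 : D.nroots / 2 ≤ k) (hk : k < D.nroots)
    (hR : ∀ s, k < s → s < D.nroots → X.R2y k s) (t : K) :
    X.y k t ∈ Subgroup.normalizer (X.Yge (k + 1) : Set E) := by
  unfold Yge
  apply mem_normalizer_closure
  · rintro x ⟨s, v, hks, hs, rfl⟩
    have := X.y_conj_of_R2y hk (hR s (by omega) hs) (-t) v
    rw [← X.y_inv hk, inv_inv] at this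
    rw [this]
    exact mul_mem (X.y_mem_Yge hks hs v)
      (X.wdY_mem_Yge _ (X.commWord_gt hk1 hk hs (by omega) _ _))
  · rintro x ⟨s, v, hks, hs, rfl⟩
    rw [X.y_conj_of_R2y hk (hR s (by omega) hs) t v]
    exact mul_mem (X.y_mem_Yge hks hs v)
      (X.wdY_mem_Yge _ (X.commWord_gt hk1 hk hs (by omega) _ _))

/-- The subgroup of the canonical lifts for one root. -/
def Yr {r : ℕ} (hr : r < D.nroots) : Subgroup E where
  carrier := {g | ∃ t : K, g = X.y r t}
  mul_mem' := by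
    rintro _ _ ⟨t, rfl⟩ ⟨u, rfl⟩
    exact ⟨t + u, X.y_add hr t u⟩
  one_mem' := ⟨0, (X.y_zero hr).symm⟩
  inv_mem' := by
    rintro _ ⟨t, rfl⟩
    exact ⟨-t, X.y_inv hr t⟩

theorem Yge_decomp {k : ℕ} (hk1 : D.nroots / 2 ≤ k) (hk : k < D.nroots)
    (hR : ∀ s, k < s → s < D.nroots → X.R2y k s) {g : E} (hg : g ∈ X.Yge k) :
    ∃ (t : K) (g' : E), g' ∈ X.Yge (k + 1) ∧ g = X.y k t * g' := by
  have hXn : X.Yr hk ≤ Subgroup.normalizer (X.Yge (k + 1) : Set E) := by
    rintro x ⟨t, rfl⟩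
    exact X.y_normalizes_Yge hk1 hk hR t
  have hmul := Subgroup.coe_mul_of_left_le_normalizer_right (X.Yr hk) (X.Yge (k + 1)) hXn
  have hle : X.Yge k ≤ X.Yr hk ⊔ X.Yge (k + 1) := by
    unfold Yge
    rw [Subgroup.closure_le]
    rintro x ⟨s, v, hks, hs, rfl⟩
    by_cases h : s = k
    · rw [h]; exact (le_sup_left : X.Yr hk ≤ _) ⟨v, rfl⟩
    · exact (le_sup_right : Subgroup.closure _ ≤ _)
        (Subgroup.subset_closure ⟨s, v, by omega, hs, rfl⟩)
  have : g ∈ (X.Yr hk : Set E) * (X.Yge (k + 1) : Set E) := by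
    rw [← hmul]; exact hle hg
  obtain ⟨x, ⟨t, rfl⟩, g', hg', rfl⟩ := this
  exact ⟨t, g', hg', rfl⟩

theorem π_ψ_Yge_le (k : ℕ) : (X.Yge k).map (S.π.comp X.C.ψ) ≤ Uge D K k := by
  rw [Subgroup.map_le_iff_le_comap]
  unfold Yge
  rw [Subgroup.closure_le]
  rintro x ⟨s, v, hks, hs, rfl⟩
  rw [SetLike.mem_coe, Subgroup.mem_comap, MonoidHom.comp_apply, X.ψ_y hs]
  apply Subgroup.subset_closure
  exact ⟨s, v, hks, hs, S.hπ _ hs v⟩

theorem Yge_ker_trivial : ∀ (j k : ℕ), D.nroots / 2 ≤ k → k + j = D.nroots →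
    (∀ r s, k ≤ r → r < s → s < D.nroots → X.R2y r s) → ∀ g : E, g ∈ X.Yge k → X.C.ψ g = 1 →
    g = 1 := by
  intro j
  induction j with
  | zero =>
    intro k _ hk _ g hg _
    have : k = D.nroots := by omega
    rw [this, Yge_top, Subgroup.mem_bot] at hg
    exact hg
  | succ j ih =>
    intro k hk1 hkj hR g hg hψ
    have hk : k < D.nroots := by omega
    have hG1 := X.H.hG.toGood1
    obtain ⟨t, g', hg', rfl⟩ := X.Yge_decomp hk1 hk (fun s h1 h2 => hR k s (le_refl _) h1 h2) hg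
    have ht : t = 0 := by
      apply eq_zero_of_xGL_mem_Uge X.H.hG X.H.hT X.H.h8 hk1 hk
      have h1 : S.π (X.C.ψ g') ∈ Uge D K (k + 1) :=
        X.π_ψ_Yge_le (k + 1) (Subgroup.mem_map_of_mem _ hg')
      rw [map_mul, X.ψ_y hk, mul_eq_one_iff_eq_inv] at hψ
      have h2 := congrArg S.π hψ
      rw [S.π_xb hG1 hk, map_inv] at h2
      rw [h2]
      exact inv_mem h1
    rw [ht, X.y_zero hk, one_mul] at hψ ⊢
    exact ih (k + 1) (by omega) (by omega) (fun r s h1 h2 h3 => hR r s (by omega) h2 h3) g' hg' hψ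

theorem Yge_inj {k : ℕ} (hk1 : D.nroots / 2 ≤ k) (hk : k ≤ D.nroots)
    (hR : ∀ r s, k ≤ r → r < s → s < D.nroots → X.R2y r s) {g g' : E} (hg : g ∈ X.Yge k)
    (hg' : g' ∈ X.Yge k) (h : X.C.ψ g = X.C.ψ g') : g = g' := by
  have := X.Yge_ker_trivial (D.nroots - k) k hk1 (by omega) hR (g * g'⁻¹)
    (mul_mem hg (inv_mem hg')) (by rw [map_mul, map_inv, h, mul_inv_cancel])
  exact mul_inv_eq_one.mp this

/-- Conjugation by a lift of an element of `Hb` preserves the subgroups `Yge`. -/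
theorem kap_mem_Yge {h : Γ} (hh : h ∈ S.Hb) {k : ℕ} {g : E} (hg : g ∈ X.Yge k) :
    X.C.kap h g ∈ X.Yge k := by
  obtain ⟨χ, hχ⟩ := X.H.Hb_torE hh
  unfold Yge at hg
  induction hg using Subgroup.closure_induction with
  | mem x hx =>
    obtain ⟨s, v, hks, hs, rfl⟩ := hx
    rw [X.kap_y_of_Hb hh hχ hs]
    exact X.y_mem_Yge hks hs _
  | one => rw [map_one]; exact one_mem _
  | mul x y _ _ hx hy => rw [map_mul]; exact mul_mem hx hy
  | inv x _ hx => rw [map_inv]; exact inv_mem hx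

/-- The step of the downward induction: the commutator relation for the pairs `(k, s)`, `k < s`. -/
theorem R2y_step {k : ℕ} (hk1 : D.nroots / 2 ≤ k) (hk : k < D.nroots)
    (hR : ∀ r s, k + 1 ≤ r → r < s → s < D.nroots → X.R2y r s) {s : ℕ} (hks : k < s)
    (hs : s < D.nroots) : X.R2y k s := by
  have hsr : s ≠ k := by omega
  have hsn : s ≠ D.neg k := X.neg_lt_of_pos hk1 hk hks
  obtain ⟨h, χ, hh, hχ, h1, h2⟩ := X.exists_sep hk hs hsr hsn
  have hb : χ s - 1 ≠ 0 := sub_ne_zero.mpr h2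
  -- the conjugation form, for all parameters
  have key : ∀ t u : K, X.y k t * X.y s u * (X.y k t)⁻¹ =
      X.y s u * X.wdY (D.commWord K k s (-t) u) := by
    intro t u
    obtain ⟨u', hu'⟩ : ∃ u' : K, u' = (χ s - 1)⁻¹ * u := ⟨_, rfl⟩
    have hu : (χ s - 1) * u' = u := by rw [hu', ← mul_assoc, mul_inv_cancel₀ hb, one_mul]
    obtain ⟨Xs, hXs⟩ : ∃ Xs : E, Xs = X.y s u' := ⟨_, rfl⟩
    obtain ⟨Y, hY⟩ : ∃ Y : E, Y = X.y k t := ⟨_, rfl⟩
    obtain ⟨W, hW⟩ : ∃ W : E, W = X.wdY (D.commWord K k s (-t) u') := ⟨_, rfl⟩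
    have hWmem : W ∈ X.Yge (k + 1) := by
      rw [hW]; exact X.wdY_mem_Yge _ (X.commWord_gt hk1 hk hs hks _ _)
    have hXsmem : Xs ∈ X.Yge (k + 1) := by rw [hXs]; exact X.y_mem_Yge (by omega) hs _
    -- (2) the lift of `h` commutes with `Y`
    have e2 : X.C.kap h Y = Y := by rw [hY, X.kap_y_of_Hb hh hχ hk, h1, one_mul]
    -- (3) `y s u = kap h Xs * Xs⁻¹`
    have e3 : X.C.kap h Xs = X.y s u * Xs := by
      rw [hXs, X.kap_y_of_Hb hh hχ hs, X.y_add hs]
      congr 1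
      rw [← hu]; ring
    -- (4) the central factor
    obtain ⟨c, hc⟩ : ∃ c : E, c = (Xs * W)⁻¹ * (Y * Xs * Y⁻¹) := ⟨_, rfl⟩
    have hcψ : X.C.ψ c = 1 := by
      rw [hc, map_mul, map_inv, map_mul, map_mul, map_mul, map_inv, hXs, hY, hW, X.ψ_y hs, X.ψ_y hk,
        X.ψ_wdY _ (fun q hq => (X.commWord_gt hk1 hk hs hks _ _ q hq).2),
        xb_conj_rel S hk hs hsr hsn, inv_mul_cancel]
    have hV : Y * Xs * Y⁻¹ = Xs * W * c := by rw [hc]; group
    -- (5) the main computation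
    have e5 : Y * X.y s u * Y⁻¹ = X.y s u * (Xs * X.C.kap h W * W⁻¹ * Xs⁻¹) := by
      have a1 : X.y s u = X.C.kap h Xs * Xs⁻¹ := by rw [e3]; group
      have a2 : Y * (X.C.kap h Xs * Xs⁻¹) * Y⁻¹ =
          X.C.kap h (Y * Xs * Y⁻¹) * (Y * Xs * Y⁻¹)⁻¹ := by
        rw [map_mul, map_mul, map_inv, e2]
        group
      rw [a1, a2, hV, map_mul, map_mul, X.C.kap_ker hcψ, ← a1, e3]
      group
    -- (6) both sides lie in the subgroup of the later roots
    have hRmem : Xs * X.C.kap h W * W⁻¹ * Xs⁻¹ ∈ X.Yge (k + 1) :=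
      mul_mem (mul_mem (mul_mem hXsmem (X.kap_mem_Yge hh hWmem)) (inv_mem hWmem)) (inv_mem hXsmem)
    have hW'mem : X.wdY (D.commWord K k s (-t) u) ∈ X.Yge (k + 1) :=
      X.wdY_mem_Yge _ (X.commWord_gt hk1 hk hs hks _ _)
    have hψeq : X.C.ψ (Xs * X.C.kap h W * W⁻¹ * Xs⁻¹) =
        X.C.ψ (X.wdY (D.commWord K k s (-t) u)) := by
      have a3 : Xs * X.C.kap h W * W⁻¹ * Xs⁻¹ = (X.y s u)⁻¹ * (Y * X.y s u * Y⁻¹) := by
        rw [e5]; group
      rw [a3, map_mul, map_inv, map_mul, map_mul, map_inv, hY, X.ψ_y hs, X.ψ_y hk,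
        X.ψ_wdY _ (fun q hq => (X.commWord_gt hk1 hk hs hks _ _ q hq).2),
        xb_conj_rel S hk hs hsr hsn, inv_mul_cancel_left]
    rw [← hY, e5, X.Yge_inj (by omega) (by omega) hR hRmem hW'mem hψeq]
  intro t u
  have := key (-t) u
  rw [neg_neg, ← X.y_inv hk, inv_inv] at this
  rw [mul_assoc (X.y k t), ← this]
  group

/-- The commutator relations for the canonical lifts of the pairs of positive roots `r < s`. -/
theorem R2y_pos_aux : ∀ (j k : ℕ), D.nroots / 2 ≤ k → k + j = D.nroots →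
    ∀ r s, k ≤ r → r < s → s < D.nroots → X.R2y r s := by
  intro j
  induction j with
  | zero =>
    intro k _ hk r s h1 h2 h3
    omega
  | succ j ih =>
    intro k hk1 hkj r s h1 h2 h3
    have hR := ih (k + 1) (by omega) (by omega)
    by_cases hrk : r = k
    · rw [hrk]
      exact X.R2y_step hk1 (by omega) hR (by omega) h3
    · exact hR r s (by omega) h2 h3

theorem R2y_pos {r s : ℕ} (hr1 : D.nroots / 2 ≤ r) (hrs : r < s) (hs : s < D.nroots) : X.R2y r s :=
  X.R2y_pos_aux (D.nroots - D.nroots / 2) (D.nroots / 2) (le_refl _)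
    (by have := Nat.div_le_self D.nroots 2; omega) r s hr1 hrs hs

/-- The projection is injective on the subgroup generated by the canonical lifts for the positive
roots. -/
theorem Ypos_inj {g g' : E} (hg : g ∈ X.Yge (D.nroots / 2)) (hg' : g' ∈ X.Yge (D.nroots / 2))
    (h : X.C.ψ g = X.C.ψ g') : g = g' :=
  X.Yge_inj (le_refl _) (Nat.div_le_self _ _) (fun r s h1 h2 h3 => X.R2y_pos h1 h2 h3) hg hg' h

end Ctx

end Cfsg.Agent.Helper7.Sc
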