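import Mathlib
import Cfsg.Agent.Helper7.ScG
import Cfsg.Agent.Helper7.ChevMinus

set_option autoImplicit false
set_option linter.unusedSectionVars false
set_option linter.unusedVariables false

/-!
The canonical lifts of the root elements satisfy all commutator relations: every pair of roots is carried to
a pair of positive roots by a word in the fundamental reflections.
-/

namespace Cfsg.Agent.Helper7.Sc

open Cfsg Cfsg.Lie Cfsg.Agent.Helper7.Chev Cfsg.Agent.Helper7.St

variable {D : ChevalleyDatum} {K : Type*} [Field K] {Γ E : Type*} [Group Γ] [Group E]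
  {S : StD D K Γ} (X : Ctx S E)

namespace Ctx

include X in
/-- A fundamental reflection maps the negative roots other than the negative of its root to negative
roots. -/
theorem refl_neg_of_neg {i : ℕ} (hi : i < D.rank) {s : ℕ} (hs : s < D.nroots)
    (hneg : s < D.nroots / 2) (hne : s ≠ D.neg (D.simple i)) :
    (tabOf D).refl (D.simple i) s < D.nroots / 2 := by
  have hG := X.H.hG
  have hG1 := hG.toGood1
  have h8 := X.H.h8
  have hnegf : ∀ k, k < D.nroots → D.neg k = D.nroots - 1 - k := fun k hk => (h8.1 k hk).1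
  have heven : D.nroots % 2 = 0 := h8.2
  have hns := hG1.neg_lt hs
  have h1 : D.nroots / 2 ≤ D.neg s := by rw [hnegf s hs]; omega
  have h2 : D.neg s ≠ D.simple i := by
    intro h
    apply hne
    rw [← h, hG1.neg_neg hs]
  have h6 := (X.H.h6 i hi (D.neg s) hns h1 h2).1
  change D.nroots / 2 ≤ (tabOf D).refl (D.simple i) (D.neg s) at h6
  rw [hG.refl_neg hi hs, hnegf _ (hG.refl_lt hi hs)] at h6
  have := hG.refl_lt hi hs
  omega

include X in
/-- Two roots `s ≠ ± r` are carried to positive roots by a word. -/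
theorem exists_pos_word {r s : ℕ} (hr : r < D.nroots) (hs : s < D.nroots) (hsr : s ≠ r)
    (hsn : s ≠ D.neg r) :
    ∃ w : List ℕ, (∀ i ∈ w, i < D.rank) ∧ D.nroots / 2 ≤ (tabOf D).reflWord w r ∧
      D.nroots / 2 ≤ (tabOf D).reflWord w s := by
  have hG := X.H.hG
  have hG1 := hG.toGood1
  obtain ⟨orb, h29⟩ := X.orb
  obtain ⟨w₀, hw₀1, hw₀2, hw₀3⟩ := X.H.hw₀
  obtain ⟨hw1, hi, hrw⟩ := h29 r hr
  obtain ⟨w₁, hw₁⟩ : ∃ w₁, w₁ = (orb.getD r ([], 0)).1 := ⟨_, rfl⟩
  obtain ⟨i, hi'⟩ : ∃ i, i = (orb.getD r ([], 0)).2 := ⟨_, rfl⟩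
  rw [← hw₁] at hw1 hrw
  rw [← hi'] at hi hrw
  change i < D.rank at hi
  change (tabOf D).reflWord w₁ (D.simple i) = r at hrw
  have hw1' : ∀ k ∈ w₁, k < D.rank := by
    intro k hk
    rw [List.all_eq_true] at hw1
    exact of_decide_eq_true (hw1 k hk)
  have hw1r : ∀ k ∈ w₁.reverse, k < D.rank := fun k hk => hw1' k (List.mem_reverse.mp hk)
  have hp := hG1.simple_lt hi
  -- the reversed word maps `r` to the fundamental root
  have hr1 : (tabOf D).reflWord w₁.reverse r = D.simple i := by
    rw [← hrw]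
    exact reflWord_reverse hG hw1' hp
  have hs1 := reflWord_lt hG hw1r hs
  have hne1 : (tabOf D).reflWord w₁.reverse s ≠ D.simple i := by
    rw [← hr1]
    exact fun h => hsr (reflWord_injective hG hw1r hs hr h)
  have hne2 : (tabOf D).reflWord w₁.reverse s ≠ D.neg (D.simple i) := by
    rw [← hr1, ← reflWord_neg hG hw1r hr]
    exact fun h => hsn (reflWord_injective hG hw1r hs (hG1.neg_lt hr) h)
  have hppos : D.nroots / 2 ≤ D.simple i := (X.H.h5 i hi).1
  by_cases hpos : D.nroots / 2 ≤ (tabOf D).reflWord w₁.reverse s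
  · exact ⟨w₁.reverse, hw1r, by rw [hr1]; exact hppos, hpos⟩
  · -- reflect in the fundamental root, then apply the longest word
    have hwr : ∀ k ∈ w₀.reverse, k < D.rank := fun k hk => hw₀1 k (List.mem_reverse.mp hk)
    refine ⟨w₀.reverse ++ ([i] ++ w₁.reverse), ?_, ?_, ?_⟩
    · intro k hk
      rcases List.mem_append.mp hk with h | h
      · exact hwr k h
      · rcases List.mem_append.mp h with h | h
        · rw [List.mem_singleton.mp h]; exact hi
        · exact hw1r k h
    · rw [reflWord_append, reflWord_append, hr1]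
      change D.nroots / 2 ≤ (tabOf D).reflWord w₀.reverse ((tabOf D).refl (D.simple i) (D.simple i))
      rw [refl_self]
      exact hw₀3 _ (hG1.neg_lt hp) (X.H.h5m i hi).1
    · rw [reflWord_append, reflWord_append]
      change D.nroots / 2 ≤ (tabOf D).reflWord w₀.reverse
        ((tabOf D).refl (D.simple i) ((tabOf D).reflWord w₁.reverse s))
      exact hw₀3 _ (hG.refl_lt hi hs1) (X.refl_neg_of_neg hi hs1 (by omega) hne2)

include X in
/-- The roots of the commutator terms of two distinct positive roots are positive. -/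
theorem terms_pos {r s : ℕ} (hr1 : D.nroots / 2 ≤ r) (hr : r < D.nroots) (hs1 : D.nroots / 2 ≤ s)
    (hs : s < D.nroots) (hsr : s ≠ r) :
    ∀ c ∈ D.commTerms r s, D.nroots / 2 ≤ c.1 ∧ c.1 < D.nroots := by
  intro c hc
  rcases Nat.lt_or_gt_of_ne hsr with h | h
  · have h7 := X.t7s s hs hs1 r hr h
    rw [List.all_eq_true] at h7
    exact of_decide_eq_true (h7 c (by rw [commTerms_eq]; exact hc))
  · have h7 := X.H.h7 r hr hr1 s hs h
    rw [List.all_eq_true] at h7
    have := of_decide_eq_true (h7 c (by rw [commTerms_eq]; exact hc))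
    exact ⟨by omega, this.2⟩

/-- Conjugation of a product of canonical lifts by a lift of an element acting through a word. -/
theorem kap_wdY_of_Nb {n : Γ} (hn : n ∈ S.Nb) {w : List ℕ} {ε : ℕ → K} (hM : S.MonE n w ε)
    (L : List (ℕ × K)) (hL : ∀ q ∈ L, q.1 < D.nroots) :
    X.C.kap n (X.wdY L) = X.wdY (L.map fun q => ((tabOf D).reflWord w q.1, ε q.1 * q.2)) := by
  unfold wdY
  induction L with
  | nil => simp
  | cons q L ih =>
    rw [List.map_cons, List.prod_cons, map_mul, X.kap_y_of_Nb hn hM (hL q List.mem_cons_self),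
      ih (fun q' hq' => hL q' (List.mem_cons_of_mem _ hq'))]
    simp only [List.map_cons, List.prod_cons]

/-- The commutator relations for the canonical lifts of all pairs of roots. -/
theorem R2y_all {r s : ℕ} (hr : r < D.nroots) (hs : s < D.nroots) (hsr : s ≠ r)
    (hsn : s ≠ D.neg r) : X.R2y r s := by
  have hG := X.H.hG
  have hG1 := hG.toGood1
  obtain ⟨w, hw, hwr, hws⟩ := X.exists_pos_word hr hs hsr hsn
  obtain ⟨n, hn, ε, hM⟩ := X.H.exists_Nb_of_word w hw
  have hr' := reflWord_lt hG hw hr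
  have hs' := reflWord_lt hG hw hs
  have hsr' : (tabOf D).reflWord w s ≠ (tabOf D).reflWord w r :=
    fun h => hsr (reflWord_injective hG hw hs hr h)
  -- the transported terms are positive
  have hterms : ∀ c ∈ D.commTerms r s, D.nroots / 2 ≤ (tabOf D).reflWord w c.1 ∧
      (tabOf D).reflWord w c.1 < D.nroots := by
    intro c hc
    obtain ⟨c', hc', e⟩ := commTerms_reflWord hG X.h3 hw hr hs hsr hsn c
      (by rw [commTerms_eq]; exact hc)
    rw [commTerms_eq] at hc'
    rw [← e]
    exact X.terms_pos hwr hr' hws hs' hsr' c' hc'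
  -- the roots of the terms are roots
  have hlt : ∀ c ∈ D.commTerms r s, c.1 < D.nroots := by
    intro c hc
    obtain ⟨orb, h29⟩ := X.orb
    obtain ⟨_, hi, _⟩ := h29 r hr
    have h := (X.h3 _ hi r hr s hs hsr hsn).2
    rw [List.all_eq_true] at h
    exact of_decide_eq_true (h c (by rw [commTerms_eq]; exact hc))
  intro t u
  have hLlt : ∀ q ∈ D.commWord K r s t u, q.1 < D.nroots := by
    intro q hq
    unfold ChevalleyDatum.commWord at hq
    rw [List.mem_map] at hq
    obtain ⟨c, hc, rfl⟩ := hq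
    exact hlt c hc
  -- both sides after conjugation lie in the subgroup of the positive roots
  have hZ : X.C.kap n ((X.y r t * X.y s u)⁻¹ * (X.y s u * X.y r t)) ∈ X.Yge (D.nroots / 2) := by
    rw [map_mul, map_inv, map_mul, map_mul, X.kap_y_of_Nb hn hM hr, X.kap_y_of_Nb hn hM hs]
    exact mul_mem (inv_mem (mul_mem (X.y_mem_Yge hwr hr' _) (X.y_mem_Yge hws hs' _)))
      (mul_mem (X.y_mem_Yge hws hs' _) (X.y_mem_Yge hwr hr' _))
  have hW : X.C.kap n (X.wdY (D.commWord K r s t u)) ∈ X.Yge (D.nroots / 2) := by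
    rw [X.kap_wdY_of_Nb hn hM _ hLlt]
    apply X.wdY_mem_Yge
    intro q hq
    rw [List.mem_map] at hq
    obtain ⟨q', hq', rfl⟩ := hq
    unfold ChevalleyDatum.commWord at hq'
    rw [List.mem_map] at hq'
    obtain ⟨c, hc, rfl⟩ := hq'
    exact hterms c hc
  have hψ : X.C.ψ (X.C.kap n ((X.y r t * X.y s u)⁻¹ * (X.y s u * X.y r t))) =
      X.C.ψ (X.C.kap n (X.wdY (D.commWord K r s t u))) := by
    rw [X.C.ψ_kap, X.C.ψ_kap, map_mul, map_inv, map_mul, map_mul, X.ψ_y hr, X.ψ_y hs,
      X.ψ_wdY _ hLlt, S.comm r s hr hs hsr hsn t u]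
    congr 2
    unfold StD.wd
    group
  have := X.Ypos_inj hZ hW hψ
  have e := (X.C.kap n).injective this
  rw [inv_mul_eq_iff_eq_mul] at e
  rw [e, mul_assoc]

end Ctx

end Cfsg.Agent.Helper7.Sc
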