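import Mathlib
import Cfsg.Agent.Helper7.ScH
import Cfsg.Agent.Helper7.ScTabAll
import Cfsg.Agent.S2395

set_option autoImplicit false
set_option linter.unusedSectionVars false
set_option linter.unusedVariables false

/-!
Every central extension of the group presented by the relators (R1), (R2) splits, over a field with more
than four elements.
-/

namespace Cfsg.Agent.Helper7.Sc

open Cfsg Cfsg.Lie Cfsg.Agent.Helper7.Chev Cfsg.Agent.Helper7.St

variable {D : ChevalleyDatum} {K : Type*} [Field K]

/-- The structure on the presented group. -/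
noncomputable def coverStd (hD : D ∈ [chevG2, chevB2, chevD4, chevF4, chevE6, chevE7, chevE8]) :
    StD D K (D.SteinbergCover K) :=
  stdOf (good3_of_mem D hD) (D.steinbergRelsAB K) (le_refl _)
    (fun g hg => liftX_relsAB (good3_of_mem D hD) hg)

theorem coverStd_xb (hD : D ∈ [chevG2, chevB2, chevD4, chevF4, chevE6, chevE7, chevE8]) (r : ℕ) (t : K) :
    (coverStd (K := K) hD).xb r t = PresentedGroup.mk (D.steinbergRelsAB K) (D.stX r t) := rfl

theorem coverStd_hyp (hD : D ∈ [chevG2, chevB2, chevD4, chevF4, chevE6, chevE7, chevE8]) :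
    (coverStd (K := K) hD).Hyp where
  hG := (good3_of_mem D hD).toGood2
  hT := T0_of_mem D hD
  h5 := T5_of_mem D hD
  h5m := T5m_of_mem D hD
  h6 := T6_of_mem D hD
  h7 := T7_of_mem D hD
  h7m := T7m_of_mem D hD
  h8 := T8_of_mem D hD
  h9 := T9_of_mem D hD
  h27 := T37_of_mem D hD
  hw₀ := exists_W0ok D hD
  hgen := stdOf_gen _ _ _ _

theorem exists_ne_zero_one (hK : ∃ s : Finset K, 4 < s.card) : ∃ x : K, x ≠ 0 ∧ x ≠ 1 := by
  classical
  obtain ⟨s, hs⟩ := hK
  by_contra hcon
  push_neg at hcon
  have hsub : s ⊆ {0, 1} := by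
    intro x _
    simp only [Finset.mem_insert, Finset.mem_singleton]
    by_cases hx : x = 0
    · left; exact hx
    · right; exact hcon x hx
  have := Finset.card_le_card hsub
  have h2 : ({0, 1} : Finset K).card ≤ 2 := Finset.card_le_two
  omega

/-- The context of a central extension of the presented group. -/
noncomputable def coverCtx (hD : D ∈ [chevG2, chevB2, chevD4, chevF4, chevE6, chevE7, chevE8])
    (hK : ∃ s : Finset K, 4 < s.card) {E : Type*} [Group E] (ψ : E →* D.SteinbergCover K)
    (hψ : Function.Surjective ψ) (hc : ψ.ker ≤ Subgroup.center E) : Ctx (coverStd (K := K) hD) E where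
  C := ⟨ψ, hψ, hc, Cfsg.Agent.S2395.result D hD (fun _ => exists_ne_zero_one hK)⟩
  H := coverStd_hyp hD
  h3 := (good3_of_mem D hD).t3
  hK := hK
  tp1 := TP1_of_mem D hD
  tp3 := TP3_of_mem D hD
  t7s := T7s_of_mem D hD
  orb := T29_of_mem D hD

/-- Every central extension of the presented group splits. -/
theorem cover_splits (hD : D ∈ [chevG2, chevB2, chevD4, chevF4, chevE6, chevE7, chevE8])
    (hK : ∃ s : Finset K, 4 < s.card) {E : Type*} [Group E] (ψ : E →* D.SteinbergCover K)
    (hψ : Function.Surjective ψ) (hc : ψ.ker ≤ Subgroup.center E) :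
    ∃ τ : D.SteinbergCover K →* E, ψ.comp τ = MonoidHom.id _ := by
  obtain ⟨X, hX⟩ : ∃ X : Ctx (coverStd (K := K) hD) E, X = coverCtx hD hK ψ hψ hc := ⟨_, rfl⟩
  have hXψ : X.C.ψ = ψ := by rw [hX]; rfl
  -- the images of the generators
  have hlift : ∀ (r : ℕ) (t : K), r < D.nroots →
      FreeGroup.lift (fun p : Fin D.nroots × K => X.y p.1.val p.2) (D.stX r t) = X.y r t := by
    intro r t hr
    unfold ChevalleyDatum.stX
    rw [dif_pos hr, FreeGroup.lift_apply_of]
  have hword : ∀ w : List (ℕ × K), (∀ q ∈ w, q.1 < D.nroots) →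
      FreeGroup.lift (fun p : Fin D.nroots × K => X.y p.1.val p.2) (D.stWord w) = X.wdY w := by
    intro w hw
    unfold ChevalleyDatum.stWord Ctx.wdY
    induction w with
    | nil => simp
    | cons q w ih =>
      rw [List.map_cons, List.prod_cons, map_mul, hlift _ _ (hw q List.mem_cons_self),
        ih (fun q' hq' => hw q' (List.mem_cons_of_mem _ hq')), List.map_cons, List.prod_cons]
  have hrels : ∀ g ∈ D.steinbergRelsAB K,
      FreeGroup.lift (fun p : Fin D.nroots × K => X.y p.1.val p.2) g = 1 := by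
    intro g hg
    rcases hg with ⟨r, t₁, t₂, hr, rfl⟩ | ⟨r, s, t, u, hr, hs, hsr, hsn, rfl⟩
    · rw [map_mul, map_mul, map_inv, hlift _ _ hr, hlift _ _ hr, hlift _ _ hr, X.y_add hr,
        mul_inv_cancel]
    · have hlt : ∀ q ∈ D.commWord K r s t u, q.1 < D.nroots := by
        intro q hq
        unfold ChevalleyDatum.commWord at hq
        rw [List.mem_map] at hq
        obtain ⟨c, hc, rfl⟩ := hq
        obtain ⟨orb, h29⟩ := X.orb
        obtain ⟨_, hi, _⟩ := h29 r hr
        have h := (X.h3 _ hi r hr s hs hsr hsn).2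
        rw [List.all_eq_true] at h
        exact of_decide_eq_true (h c (by rw [commTerms_eq]; exact hc))
      rw [map_mul, map_mul, map_mul, map_mul, map_inv, map_inv, map_inv, hlift _ _ hr, hlift _ _ hs,
        hword _ hlt, mul_assoc ((X.y s u)⁻¹ * (X.y r t)⁻¹), X.R2y_all hr hs hsr hsn t u]
      group
  refine ⟨PresentedGroup.toGroup hrels, ?_⟩
  -- the composite is the identity on the generators
  apply PresentedGroup.ext
  intro p
  rw [MonoidHom.comp_apply, PresentedGroup.toGroup.of, MonoidHom.id_apply, ← hXψ, X.ψ_y p.1.2]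
  rw [coverStd_xb]
  unfold ChevalleyDatum.stX
  rw [dif_pos p.1.2]
  rfl

end Cfsg.Agent.Helper7.Sc
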