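import Mathlib
import Cfsg.Agent.Helper7.ScT

set_option autoImplicit false

/-!
Table facts for the central closedness of the presented groups of Steinberg of simply laced type of large
rank, over an arbitrary field: decompositions of a root into two roots, and the links between them.
-/

namespace Cfsg.Agent.Helper7.Chev

open Cfsg Cfsg.Lie

namespace Tab

variable (T : Tab)

/-- The pair `(p, q)` has the single commutator term `(γ, ± 1, 1, 1)`. -/
def decB (p q γ : ℕ) : Bool :=
  decide (p < T.n) && decide (q < T.n) && decide (γ < T.n) && decide (q ≠ p) && decide (q ≠ T.neg p) &&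
  match T.commTerms p q with
  | [c] => decide (c.1 = γ) && (decide (c.2.1 = 1) || decide (c.2.1 = -1)) && decide (c.2.2.1 = 1) &&
      decide (c.2.2.2 = 1)
  | _ => false

/-- Simply laced, for the root `r`: a root `s ≠ ± r` either commutes with `r` or has a single commutator
term with it, whose root commutes with both. -/
def TSLrow (r : ℕ) : Prop :=
  AllLt T.n (fun s => s ≠ r → s ≠ T.neg r →
    (T.okB r s || match T.commTerms r s with
      | [c] => T.decB r s c.1 && T.okB c.1 r && T.okB c.1 s
      | _ => false) = true)

instance (r : ℕ) : Decidable (T.TSLrow r) := by unfold TSLrow; infer_instance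

/-- Simply laced: two roots `s ≠ ± r` either commute or have a single commutator term, whose root commutes
with both. -/
def TSL : Prop := AllLt T.n T.TSLrow

instance : Decidable T.TSL := by unfold TSL; infer_instance

/-- The root `s` is the sum of two roots `p`, `q` commuting with `r`. -/
def splitB (r s : ℕ) : Bool :=
  (List.range T.n).any fun p =>
    match T.chainRoot (T.neg p) s 1 with
    | none => false
    | some q => T.decB p q s && T.okB r p && T.okB r q

/-- Every root `s` equal to `r` or commuting with `r` is the sum of two roots commuting with `r`. -/
def TM1row (r : ℕ) : Prop :=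
  AllLt T.n (fun s => (s = r ∨ T.okB r s = true) → T.splitB r s = true)

instance (r : ℕ) : Decidable (T.TM1row r) := by unfold TM1row; infer_instance

/-- The fact `TM1row` for all roots. -/
def TM1 : Prop := AllLt T.n T.TM1row

instance : Decidable T.TM1 := by unfold TM1; infer_instance

/-- The index of the root `γ - a`, if it is a root. -/
def subRoot (a γ : ℕ) : Option ℕ := T.chainRoot (T.neg a) γ 1

/-- The decompositions `(a, b)` and `(a', b')` of a root are linked through the root `β = a - a'`, with
`a = a' + β` and `b' = β + b`. -/
def mvB (a b a' b' : ℕ) : Bool :=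
  match T.subRoot a' a with
  | none => false
  | some β => T.decB β a' a && T.decB b β b' && T.okB a' b && T.okB a b'

/-- The decompositions `(a, b)` and `(a', b')` are linked by a swap or through a third root. -/
def lkB (a b a' b' : ℕ) : Bool :=
  (decide (a' = b) && decide (b' = a)) || T.mvB a b a' b' || T.mvB a' b' a b

/-- The decomposition `(a, γ - a)` of `γ`, if it is one. -/
def decOf (γ a : ℕ) : Option (ℕ × ℕ) :=
  match T.subRoot a γ with
  | none => none
  | some b => if T.decB b a γ then some (a, b) else none

/-- The first decomposition of `γ`. -/
def baseOf (γ : ℕ) : ℕ × ℕ := ((List.range T.n).filterMap (T.decOf γ)).headD (0, 0)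

/-- The decomposition `(a₀, b₀)` of `γ` is linked through a third root to some decomposition. -/
def baseMovesB (γ a₀ b₀ : ℕ) : Bool :=
  (List.range T.n).any fun a => match T.decOf γ a with
    | none => false
    | some d => T.mvB a₀ b₀ d.1 d.2 || T.mvB d.1 d.2 a₀ b₀

/-- The decomposition `(a, b)` of `γ` is reached from the first one in at most two links. -/
def reachB (γ a b : ℕ) : Bool :=
  T.decB (T.baseOf γ).2 (T.baseOf γ).1 γ && T.baseMovesB γ (T.baseOf γ).1 (T.baseOf γ).2 &&
  ((decide (a = (T.baseOf γ).1) && decide (b = (T.baseOf γ).2)) ||
    T.lkB (T.baseOf γ).1 (T.baseOf γ).2 a b ||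
    (List.range T.n).any fun a' => match T.decOf γ a' with
      | none => false
      | some d => T.lkB (T.baseOf γ).1 (T.baseOf γ).2 d.1 d.2 && T.lkB d.1 d.2 a b)

/-- All decompositions `(a, b)` with the given `a` are reached from the first decomposition of their
root. -/
def TCONNrow (a : ℕ) : Prop :=
  AllLt T.n (fun b => (match T.commTerms b a with
    | [c] => !T.decB b a c.1 || T.reachB c.1 a b
    | _ => true) = true)

instance (a : ℕ) : Decidable (T.TCONNrow a) := by unfold TCONNrow; infer_instance

/-- All decompositions are reached from the first decomposition of their root. -/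
def TCONN : Prop := AllLt T.n T.TCONNrow

instance : Decidable T.TCONN := by unfold TCONN; infer_instance

end Tab

/-- A bounded statement follows from its blocks. -/
theorem allLt_of_blocks {P : ℕ → Prop} (m len : ℕ) (hlen : 0 < len)
    (h : ∀ k, k < m → AllLt len (fun j => P (len * k + j))) : AllLt (len * m) P := by
  intro a ha
  have h1 : a / len < m := Nat.div_lt_of_lt_mul ha
  have : P (len * (a / len) + a % len) := h (a / len) h1 (a % len) (Nat.mod_lt _ hlen)
  rwa [Nat.div_add_mod] at this

end Cfsg.Agent.Helper7.Chev
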