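import Mathlib
import Cfsg.Agent.Helper7.ScU
import Cfsg.Agent.Helper7.StCertAll

set_option autoImplicit false

/-!
Table facts of `ScU` for tabulated Chevalley data: the type E6.
-/

namespace Cfsg.Agent.Helper7.Chev

open Cfsg Cfsg.Lie

set_option maxRecDepth 1000000 in
set_option maxHeartbeats 0 in
theorem TSLfast_E6 : fastE6.TSL := by decide +kernel

theorem TSL_E6 : (tabOf chevE6).TSL := tab_E6 ▸ TSLfast_E6

set_option maxRecDepth 1000000 in
set_option maxHeartbeats 0 in
theorem TM1fast_E6 : fastE6.TM1 := by decide +kernel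

theorem TM1_E6 : (tabOf chevE6).TM1 := tab_E6 ▸ TM1fast_E6

set_option maxRecDepth 1000000 in
set_option maxHeartbeats 0 in
theorem TCONNfast_E6 : fastE6.TCONN := by decide +kernel

theorem TCONN_E6 : (tabOf chevE6).TCONN := tab_E6 ▸ TCONNfast_E6


end Cfsg.Agent.Helper7.Chev
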