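import Mathlib
import Cfsg.Agent.Helper7.ScU
import Cfsg.Agent.Helper7.StCertAll
import Cfsg.Agent.Helper7.ScUTabE7TSLb0
import Cfsg.Agent.Helper7.ScUTabE7TSLb1
import Cfsg.Agent.Helper7.ScUTabE7TSLb2
import Cfsg.Agent.Helper7.ScUTabE7TM1b0
import Cfsg.Agent.Helper7.ScUTabE7TM1b1
import Cfsg.Agent.Helper7.ScUTabE7TM1b2
import Cfsg.Agent.Helper7.ScUTabE7TCONNb0
import Cfsg.Agent.Helper7.ScUTabE7TCONNb1
import Cfsg.Agent.Helper7.ScUTabE7TCONNb2

set_option autoImplicit false

/-!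
Table facts of `ScU` for tabulated Chevalley data: the type E7.
-/

namespace Cfsg.Agent.Helper7.Chev

open Cfsg Cfsg.Lie

theorem TSLfast_E7 : fastE7.TSL := by
  have h : AllLt (42 * 3) fastE7.TSLrow := by
    refine allLt_of_blocks (P := fastE7.TSLrow) 3 42 (by norm_num) ?_
    intro k hk
    interval_cases k
    · exact TSLblk_E7_0
    · exact TSLblk_E7_1
    · exact TSLblk_E7_2
  exact h

theorem TSL_E7 : (tabOf chevE7).TSL := tab_E7 ▸ TSLfast_E7

theorem TM1fast_E7 : fastE7.TM1 := by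
  have h : AllLt (42 * 3) fastE7.TM1row := by
    refine allLt_of_blocks (P := fastE7.TM1row) 3 42 (by norm_num) ?_
    intro k hk
    interval_cases k
    · exact TM1blk_E7_0
    · exact TM1blk_E7_1
    · exact TM1blk_E7_2
  exact h

theorem TM1_E7 : (tabOf chevE7).TM1 := tab_E7 ▸ TM1fast_E7

theorem TCONNfast_E7 : fastE7.TCONN := by
  have h : AllLt (42 * 3) fastE7.TCONNrow := by
    refine allLt_of_blocks (P := fastE7.TCONNrow) 3 42 (by norm_num) ?_
    intro k hk
    interval_cases k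
    · exact TCONNblk_E7_0
    · exact TCONNblk_E7_1
    · exact TCONNblk_E7_2
  exact h

theorem TCONN_E7 : (tabOf chevE7).TCONN := tab_E7 ▸ TCONNfast_E7

end Cfsg.Agent.Helper7.Chev
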