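import Mathlib
import Cfsg.Agent.Helper7.ScU
import Cfsg.Agent.Helper7.StCertAll

set_option autoImplicit false
set_option Elab.async false

/-!
Table facts of `ScU` for tabulated Chevalley data: the type E8, block 2 of TSL.
-/

namespace Cfsg.Agent.Helper7.Chev

open Cfsg Cfsg.Lie

set_option maxRecDepth 1000000 in
set_option maxHeartbeats 0 in
theorem TSLsub_E8_2_0 : AllLt 10 (fun j => fastE8.TSLrow (30 * 2 + (10 * 0 + j))) := by
  decide +kernel

set_option maxRecDepth 1000000 in
set_option maxHeartbeats 0 in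
theorem TSLsub_E8_2_1 : AllLt 10 (fun j => fastE8.TSLrow (30 * 2 + (10 * 1 + j))) := by
  decide +kernel

set_option maxRecDepth 1000000 in
set_option maxHeartbeats 0 in
theorem TSLsub_E8_2_2 : AllLt 10 (fun j => fastE8.TSLrow (30 * 2 + (10 * 2 + j))) := by
  decide +kernel

theorem TSLblk_E8_2 : AllLt 30 (fun j => fastE8.TSLrow (30 * 2 + j)) := by
  have h : AllLt (10 * 3) (fun j => fastE8.TSLrow (30 * 2 + j)) := by
    refine allLt_of_blocks (P := fun j => fastE8.TSLrow (30 * 2 + j)) 3 10 (by norm_num) ?_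
    intro i hi
    interval_cases i
    · exact TSLsub_E8_2_0
    · exact TSLsub_E8_2_1
    · exact TSLsub_E8_2_2
  exact h

end Cfsg.Agent.Helper7.Chev
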