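import Mathlib
import Cfsg.Agent.Helper7.ScU
import Cfsg.Agent.Helper7.StCertAll
import Cfsg.Agent.Helper7.ScUTabE8TSLb0
import Cfsg.Agent.Helper7.ScUTabE8TSLb1
import Cfsg.Agent.Helper7.ScUTabE8TSLb2
import Cfsg.Agent.Helper7.ScUTabE8TSLb3
import Cfsg.Agent.Helper7.ScUTabE8TSLb4
import Cfsg.Agent.Helper7.ScUTabE8TSLb5
import Cfsg.Agent.Helper7.ScUTabE8TSLb6
import Cfsg.Agent.Helper7.ScUTabE8TSLb7
import Cfsg.Agent.Helper7.ScUTabE8TM1b0
import Cfsg.Agent.Helper7.ScUTabE8TM1b1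
import Cfsg.Agent.Helper7.ScUTabE8TM1b2
import Cfsg.Agent.Helper7.ScUTabE8TM1b3
import Cfsg.Agent.Helper7.ScUTabE8TM1b4
import Cfsg.Agent.Helper7.ScUTabE8TM1b5
import Cfsg.Agent.Helper7.ScUTabE8TM1b6
import Cfsg.Agent.Helper7.ScUTabE8TM1b7
import Cfsg.Agent.Helper7.ScUTabE8TCONNb0
import Cfsg.Agent.Helper7.ScUTabE8TCONNb1
import Cfsg.Agent.Helper7.ScUTabE8TCONNb2
import Cfsg.Agent.Helper7.ScUTabE8TCONNb3
import Cfsg.Agent.Helper7.ScUTabE8TCONNb4
import Cfsg.Agent.Helper7.ScUTabE8TCONNb5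
import Cfsg.Agent.Helper7.ScUTabE8TCONNb6
import Cfsg.Agent.Helper7.ScUTabE8TCONNb7

set_option autoImplicit false

/-!
Table facts of `ScU` for tabulated Chevalley data: the type E8.
-/

namespace Cfsg.Agent.Helper7.Chev

open Cfsg Cfsg.Lie

theorem TSLfast_E8 : fastE8.TSL := by
  have h : AllLt (30 * 8) fastE8.TSLrow := by
    refine allLt_of_blocks (P := fastE8.TSLrow) 8 30 (by norm_num) ?_
    intro k hk
    interval_cases k
    · exact TSLblk_E8_0
    · exact TSLblk_E8_1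
    · exact TSLblk_E8_2
    · exact TSLblk_E8_3
    · exact TSLblk_E8_4
    · exact TSLblk_E8_5
    · exact TSLblk_E8_6
    · exact TSLblk_E8_7
  exact h

theorem TSL_E8 : (tabOf chevE8).TSL := tab_E8 ▸ TSLfast_E8

theorem TM1fast_E8 : fastE8.TM1 := by
  have h : AllLt (30 * 8) fastE8.TM1row := by
    refine allLt_of_blocks (P := fastE8.TM1row) 8 30 (by norm_num) ?_
    intro k hk
    interval_cases k
    · exact TM1blk_E8_0
    · exact TM1blk_E8_1
    · exact TM1blk_E8_2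
    · exact TM1blk_E8_3
    · exact TM1blk_E8_4
    · exact TM1blk_E8_5
    · exact TM1blk_E8_6
    · exact TM1blk_E8_7
  exact h

theorem TM1_E8 : (tabOf chevE8).TM1 := tab_E8 ▸ TM1fast_E8

theorem TCONNfast_E8 : fastE8.TCONN := by
  have h : AllLt (30 * 8) fastE8.TCONNrow := by
    refine allLt_of_blocks (P := fastE8.TCONNrow) 8 30 (by norm_num) ?_
    intro k hk
    interval_cases k
    · exact TCONNblk_E8_0
    · exact TCONNblk_E8_1
    · exact TCONNblk_E8_2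
    · exact TCONNblk_E8_3
    · exact TCONNblk_E8_4
    · exact TCONNblk_E8_5
    · exact TCONNblk_E8_6
    · exact TCONNblk_E8_7
  exact h

theorem TCONN_E8 : (tabOf chevE8).TCONN := tab_E8 ▸ TCONNfast_E8

end Cfsg.Agent.Helper7.Chev
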