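import Mathlib
import Cfsg.Agent.Helper7.ScUTabE6
import Cfsg.Agent.Helper7.ScUTabE7
import Cfsg.Agent.Helper7.ScUTabE8

set_option autoImplicit false

/-!
The table facts of `ScU` for the types E6, E7, E8.
-/

namespace Cfsg.Agent.Helper7.Chev

open Cfsg Cfsg.Lie

theorem TSL_of_memE (D : ChevalleyDatum) (hD : D ∈ [chevE6, chevE7, chevE8]) :
    (tabOf D).TSL := by
  simp only [List.mem_cons, List.not_mem_nil, or_false] at hD
  rcases hD with rfl | rfl | rfl
  · exact TSL_E6
  · exact TSL_E7
  · exact TSL_E8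

theorem TM1_of_memE (D : ChevalleyDatum) (hD : D ∈ [chevE6, chevE7, chevE8]) :
    (tabOf D).TM1 := by
  simp only [List.mem_cons, List.not_mem_nil, or_false] at hD
  rcases hD with rfl | rfl | rfl
  · exact TM1_E6
  · exact TM1_E7
  · exact TM1_E8

theorem TCONN_of_memE (D : ChevalleyDatum) (hD : D ∈ [chevE6, chevE7, chevE8]) :
    (tabOf D).TCONN := by
  simp only [List.mem_cons, List.not_mem_nil, or_false] at hD
  rcases hD with rfl | rfl | rfl
  · exact TCONN_E6
  · exact TCONN_E7
  · exact TCONN_E8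


end Cfsg.Agent.Helper7.Chev
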