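import Mathlib
import Cfsg.Agent.Helper7.ScE
import Cfsg.Agent.Helper7.ScU

set_option autoImplicit false
set_option linter.unusedSectionVars false
set_option linter.unusedVariables false

/-!
Central extensions of a group with elements `xb r t` of simply laced type of large rank, over an arbitrary
field: commutators of lifts of root elements, and their independence of the decomposition of the root.
-/

namespace Cfsg.Agent.Helper7.Sc

open Cfsg Cfsg.Lie Cfsg.Agent.Helper7.Chev Cfsg.Agent.Helper7.St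

/-- A consequence of the commutator identities for three elements. -/
theorem hw_aux {G : Type*} [Group G] {a b c x y g g' : G} (hx : a * b = x * b * a)
    (hy : b * c = y * c * b) (hg : x * c = g * c * x) (hg' : a * y = g' * y * a)
    (hac : a * c = c * a) (hxy : x * y = y * x) (hgy : g * y = y * g) : g = g' := by
  have e1 : a * b * c = g' * y * c * x * b * a := by
    calc a * b * c = a * (b * c) := by group
      _ = a * (y * c * b) := by rw [hy]
      _ = (a * y) * c * b := by group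
      _ = (g' * y * a) * c * b := by rw [hg']
      _ = g' * y * (a * c) * b := by group
      _ = g' * y * (c * a) * b := by rw [hac]
      _ = g' * y * c * (a * b) := by group
      _ = g' * y * c * (x * b * a) := by rw [hx]
      _ = g' * y * c * x * b * a := by group
  have e2 : a * b * c = g * y * c * x * b * a := by
    calc a * b * c = (x * b * a) * c := by rw [hx]
      _ = x * b * (a * c) := by group
      _ = x * b * (c * a) := by rw [hac]
      _ = x * (b * c) * a := by group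
      _ = x * (y * c * b) * a := by rw [hy]
      _ = (x * y) * c * b * a := by group
      _ = (y * x) * c * b * a := by rw [hxy]
      _ = y * (x * c) * b * a := by group
      _ = y * (g * c * x) * b * a := by rw [hg]
      _ = (y * g) * c * x * b * a := by group
      _ = (g * y) * c * x * b * a := by rw [hgy]
      _ = g * y * c * x * b * a := by group
  have h3 : g' * (y * c * x * b * a) = g * (y * c * x * b * a) := by
    have := e1.symm.trans e2
    simpa [mul_assoc] using this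
  exact (mul_right_cancel h3).symm

/-- The pair `(p, q)` has the single commutator term `(γ, N, 1, 1)` with `N = ± 1`. -/
def Dec (D : ChevalleyDatum) (p q γ : ℕ) (N : ℤ) : Prop :=
  p < D.nroots ∧ q < D.nroots ∧ γ < D.nroots ∧ q ≠ p ∧ q ≠ D.neg p ∧
    D.commTerms p q = [(γ, N, 1, 1)] ∧ (N = 1 ∨ N = -1)

/-- The roots `s ≠ ± r` have no commutator terms. -/
def Ok (D : ChevalleyDatum) (r s : ℕ) : Prop := (tabOf D).okB r s = true

variable {D : ChevalleyDatum}

theorem Ok.spec {r s : ℕ} (h : Ok D r s) :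
    s < D.nroots ∧ s ≠ r ∧ s ≠ D.neg r ∧ D.commTerms r s = [] := by
  unfold Ok Tab.okB at h
  simp only [Bool.and_eq_true, decide_eq_true_eq, List.isEmpty_iff] at h
  obtain ⟨⟨⟨h1, h2⟩, h3⟩, h4⟩ := h
  exact ⟨h1, h2, h3, h4⟩

theorem dec_of_decB {p q γ : ℕ} (h : (tabOf D).decB p q γ = true) : ∃ N, Dec D p q γ N := by
  unfold Tab.decB at h
  rw [commTerms_eq] at h
  rcases hct : D.commTerms p q with _ | ⟨c, _ | ⟨c', l⟩⟩
  · rw [hct] at h; simp at h
  · obtain ⟨c1, c2, c3, c4⟩ := c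
    rw [hct] at h
    simp only [Bool.and_eq_true, Bool.or_eq_true, decide_eq_true_eq] at h
    obtain ⟨⟨⟨⟨⟨h1, h2⟩, h3⟩, h4⟩, h5⟩, ⟨⟨⟨h6, h7⟩, h8⟩, h9⟩⟩ := h
    refine ⟨c2, h1, h2, h3, h4, h5, ?_, h7⟩
    rw [hct, h6, h8, h9]
  · rw [hct] at h; simp at h

theorem Dec.sq {p q γ : ℕ} {N : ℤ} (h : Dec D p q γ N) (K : Type*) [Field K] :
    ((N : ℤ) : K) * ((N : ℤ) : K) = 1 := by
  rcases h.2.2.2.2.2.2 with h | h <;> rw [h] <;> simp

variable {K : Type*} [Field K] {Γ E : Type*} [Group Γ] [Group E] {S : StD D K Γ}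

/-- The commutator relation of a pair with a single commutator term. -/
theorem Dec.rel {p q γ : ℕ} {N : ℤ} (h : Dec D p q γ N) (S : StD D K Γ) (t u : K) :
    S.xb q u * S.xb p t = S.xb p t * S.xb q u * S.xb γ (-((N : ℤ) : K) * t * u) := by
  obtain ⟨hp, hq, _, hqp, hqn, hct, _⟩ := h
  have := S.comm p q hp hq hqp hqn t u
  unfold ChevalleyDatum.commWord at this
  rw [hct] at this
  simp only [List.map_cons, List.map_nil, List.prod_cons, List.prod_nil, mul_one, pow_one] at this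
  rw [this]
  congr 2
  ring

/-- The commutator of two root elements of a pair with a single commutator term. -/
theorem Dec.cm {p q γ : ℕ} {N : ℤ} (h : Dec D p q γ N) (S : StD D K Γ) (a b : K) :
    S.xb q a * S.xb p b * (S.xb q a)⁻¹ * (S.xb p b)⁻¹ = S.xb γ (-((N : ℤ) : K) * a * b) := by
  have e := h.rel S (-b) (-a)
  rw [← S.xb_inv h.1, ← S.xb_inv h.2.1] at e
  have e2 : -((N : ℤ) : K) * -b * -a = -((N : ℤ) : K) * a * b := by ring
  rw [e2] at e
  have e3 : S.xb γ (-((N : ℤ) : K) * a * b) =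
      S.xb q a * S.xb p b * ((S.xb q a)⁻¹ * (S.xb p b)⁻¹) := by
    rw [e]; group
  rw [e3]
  group

theorem Ok.comm {r s : ℕ} (h : Ok D r s) (hr : r < D.nroots) (S : StD D K Γ) (t u : K) :
    S.xb r t * S.xb s u = S.xb s u * S.xb r t := by
  obtain ⟨h1, h2, h3, h4⟩ := h.spec
  exact Ctx.xb_comm_of_nil hr h1 h2 h3 h4 t u

/-- The data of a central extension of a group with elements `xb r t` of simply laced type. -/
structure Ctx0 (S : StD D K Γ) (E : Type*) [Group E] where
  /-- the central extension -/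
  C : CExt E Γ
  inj : ∀ r, r < D.nroots → ∀ a b : K, S.xb r a = S.xb r b → a = b
  tsl : (tabOf D).TSL
  tm1 : (tabOf D).TM1
  tconn : (tabOf D).TCONN

variable (X : Ctx0 S E)

namespace Ctx0

/-- If `d` commutes with `A` and `B` then the lifts of `d` commute with the lifts of their commutator. -/
theorem lc_of_comm_cm {d A B d' : Γ} (h1 : d * A = A * d) (h2 : d * B = B * d)
    (h : A * B * A⁻¹ * B⁻¹ = d') : X.C.LC d d' := by
  rw [X.C.LC_iff]
  have hl : X.C.ψ (X.C.cm A B) = d' := by rw [X.C.ψ_cm, h]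
  rw [X.C.cm_eq_kap hl, X.C.kap_cm]
  have e1 : d * A * d⁻¹ = A := by rw [h1]; group
  have e2 : d * B * d⁻¹ = B := by rw [h2]; group
  rw [e1, e2, mul_inv_cancel]

include X in
/-- Two roots `s ≠ ± r` commute or have a single commutator term whose root commutes with both. -/
theorem ok_or_dec {r s : ℕ} (hr : r < D.nroots) (hs : s < D.nroots) (hsr : s ≠ r)
    (hsn : s ≠ D.neg r) : Ok D r s ∨ ∃ γ N, Dec D r s γ N ∧ Ok D γ r ∧ Ok D γ s := by
  have h : ((tabOf D).okB r s || match (tabOf D).commTerms r s with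
      | [c] => (tabOf D).decB r s c.1 && (tabOf D).okB c.1 r && (tabOf D).okB c.1 s
      | _ => false) = true := X.tsl r hr s hs hsr hsn
  rw [Bool.or_eq_true] at h
  rcases h with h | h
  · exact Or.inl h
  · right
    rw [commTerms_eq] at h
    rcases hct : D.commTerms r s with _ | ⟨c, _ | ⟨c', l⟩⟩
    · rw [hct] at h; simp at h
    · rw [hct] at h
      simp only [Bool.and_eq_true] at h
      obtain ⟨⟨h1, h2⟩, h3⟩ := h
      obtain ⟨N, hN⟩ := dec_of_decB h1
      exact ⟨c.1, N, hN, h2, h3⟩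
    · rw [hct] at h; simp at h

/-- Lifts of the root elements of `r` commute with those of a root equal to `r` or commuting with `r`. -/
theorem lc_of_split {r s : ℕ} (hr : r < D.nroots) (hs : s < D.nroots) (h : s = r ∨ Ok D r s)
    (t u : K) : X.C.LC (S.xb r t) (S.xb s u) := by
  have hsp : (tabOf D).splitB r s = true := X.tm1 r hr s hs h
  unfold Tab.splitB at hsp
  rw [List.any_eq_true] at hsp
  obtain ⟨p, _, hp⟩ := hsp
  rcases hq : (tabOf D).chainRoot ((tabOf D).neg p) s 1 with _ | q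
  · rw [hq] at hp; simp at hp
  · rw [hq] at hp
    simp only [Bool.and_eq_true] at hp
    obtain ⟨⟨h1, h2⟩, h3⟩ := hp
    obtain ⟨N, hN⟩ := dec_of_decB h1
    have hcm := hN.cm S 1 (-((N : ℤ) : K) * u)
    have e : -((N : ℤ) : K) * 1 * (-((N : ℤ) : K) * u) = u := by
      have := hN.sq K
      linear_combination u * this
    rw [e] at hcm
    exact X.lc_of_comm_cm (Ok.comm h3 hr S t 1) (Ok.comm h2 hr S t _) hcm

theorem lc_ok {r s : ℕ} (hr : r < D.nroots) (h : Ok D r s) (t u : K) :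
    X.C.LC (S.xb r t) (S.xb s u) := X.lc_of_split hr h.spec.1 (Or.inr h) t u

theorem lc_same {r : ℕ} (hr : r < D.nroots) (t u : K) : X.C.LC (S.xb r t) (S.xb r u) :=
  X.lc_of_split hr hr (Or.inl rfl) t u

/-- The commutator of lifts of two root elements. -/
noncomputable def F (a b : ℕ) (x y : K) : E := X.C.cm (S.xb a x) (S.xb b y)

theorem ψ_F {a b γ : ℕ} {N : ℤ} (h : Dec D b a γ N) (x y : K) :
    X.C.ψ (X.F a b x y) = S.xb γ (-((N : ℤ) : K) * x * y) := by
  unfold F
  rw [X.C.ψ_cm, h.cm S]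

theorem F_swap (a b : ℕ) (x y : K) : X.F b a y x = (X.F a b x y)⁻¹ := by
  unfold F
  rw [X.C.cm_inv]

theorem F_add_right {a b γ : ℕ} {N : ℤ} (h : Dec D b a γ N) (hb : Ok D γ b) (x y y' : K) :
    X.F a b x (y + y') = X.F a b x y * X.F a b x y' := by
  unfold F
  rw [← S.add b h.1, X.C.cm_mul_right]
  congr 1
  have hl : X.C.ψ (X.C.cm (S.xb a x) (S.xb b y')) = S.xb γ (-((N : ℤ) : K) * x * y') := X.ψ_F h x y'
  exact ((X.lc_ok h.2.2.1 hb _ y).symm.kap_eq X.C hl)

theorem F_zero_right {a b γ : ℕ} {N : ℤ} (h : Dec D b a γ N) (hb : Ok D γ b) (x : K) :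
    X.F a b x 0 = 1 := by
  have := X.F_add_right h hb x 0 0
  rw [add_zero] at this
  exact mul_eq_left.mp this.symm

theorem F_neg_right {a b γ : ℕ} {N : ℤ} (h : Dec D b a γ N) (hb : Ok D γ b) (x y : K) :
    X.F a b x (-y) = (X.F a b x y)⁻¹ := by
  have := X.F_add_right h hb x y (-y)
  rw [add_neg_cancel, X.F_zero_right h hb] at this
  exact (inv_eq_of_mul_eq_one_right this.symm).symm

/-- The canonical lift attached to the decomposition `(a, b)`. -/
noncomputable def G (a b : ℕ) (N : ℤ) (z : K) : E := X.F a b 1 (-((N : ℤ) : K) * z)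

theorem ψ_G {a b γ : ℕ} {N : ℤ} (h : Dec D b a γ N) (z : K) : X.C.ψ (X.G a b N z) = S.xb γ z := by
  unfold G
  rw [X.ψ_F h]
  congr 1
  have := h.sq K
  linear_combination z * this

/-- An element equal to a canonical lift is the canonical lift of its image. -/
theorem eq_G_of_ψ {a b γ : ℕ} {N : ℤ} (h : Dec D b a γ N) {e : E} {w w' : K}
    (he : e = X.G a b N w) (hψ : X.C.ψ e = S.xb γ w') : e = X.G a b N w' := by
  have : w = w' := by
    apply X.inj γ h.2.2.1
    rw [← hψ, he, X.ψ_G h]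
  rw [he, this]

/-- The decomposition `(a, b)` is balanced: the commutator of lifts depends on the product of the
parameters only. -/
def Bal (a b : ℕ) (N : ℤ) : Prop := ∀ x y : K, X.F a b x y = X.G a b N (-((N : ℤ) : K) * x * y)

/-- Two decompositions linked through a third root are balanced and have the same canonical lifts. -/
theorem move {a b a' b' γ : ℕ} {N N' : ℤ} (h : Dec D b a γ N) (h' : Dec D b' a' γ N')
    (hm : (tabOf D).mvB a b a' b' = true) :
    X.Bal a b N ∧ X.Bal a' b' N' ∧ ∀ z, X.G a' b' N' z = X.G a b N z := by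
  unfold Tab.mvB at hm
  rcases hβ : (tabOf D).subRoot a' a with _ | β
  · rw [hβ] at hm; simp at hm
  rw [hβ] at hm
  simp only [Bool.and_eq_true] at hm
  obtain ⟨⟨⟨m1, m2⟩, m3⟩, m4⟩ := hm
  obtain ⟨N₁, d1⟩ := dec_of_decB m1
  obtain ⟨N₂, d2⟩ := dec_of_decB m2
  have hok3 : Ok D a' b := m3
  have hok4 : Ok D a b' := m4
  -- the root of `γ` commutes with `b'`
  have hγb' : Ok D γ b' := by
    rcases X.ok_or_dec h'.1 h'.2.1 h'.2.2.2.1 h'.2.2.2.2.1 with hh | ⟨γ', N'', hd, hh, _⟩
    · exact absurd h'.2.2.2.2.2.1 (by rw [hh.spec.2.2.2]; simp)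
    · have : γ' = γ := by
        have e1 := hd.2.2.2.2.2.1
        rw [h'.2.2.2.2.2.1] at e1
        simp only [List.cons.injEq, Prod.mk.injEq, and_true] at e1
        exact e1.1.symm
      rw [this] at hh
      exact hh
  have hγb : Ok D γ b := by
    rcases X.ok_or_dec h.1 h.2.1 h.2.2.2.1 h.2.2.2.2.1 with hh | ⟨γ', N'', hd, hh, _⟩
    · exact absurd h.2.2.2.2.2.1 (by rw [hh.spec.2.2.2]; simp)
    · have : γ' = γ := by
        have e1 := hd.2.2.2.2.2.1
        rw [h.2.2.2.2.2.1] at e1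
        simp only [List.cons.injEq, Prod.mk.injEq, and_true] at e1
        exact e1.1.symm
      rw [this] at hh
      exact hh
  have hN1 := d1.sq K
  have hN2 := d2.sq K
  have hN := h.sq K
  -- the identity of the three elements
  have key : ∀ t u v : K, X.F a b (-((N₁ : ℤ) : K) * t * u) v =
      X.F a' b' t (-((N₂ : ℤ) : K) * u * v) := by
    intro t u v
    obtain ⟨A, hA⟩ : ∃ A : E, A = X.C.lf (S.xb a' t) := ⟨_, rfl⟩
    obtain ⟨B, hB⟩ : ∃ B : E, B = X.C.lf (S.xb β u) := ⟨_, rfl⟩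
    obtain ⟨Cc, hC⟩ : ∃ Cc : E, Cc = X.C.lf (S.xb b v) := ⟨_, rfl⟩
    have hAψ : X.C.ψ A = S.xb a' t := by rw [hA, X.C.ψ_lf]
    have hBψ : X.C.ψ B = S.xb β u := by rw [hB, X.C.ψ_lf]
    have hCψ : X.C.ψ Cc = S.xb b v := by rw [hC, X.C.ψ_lf]
    -- the commutators
    have hx : X.C.ψ (A * B * A⁻¹ * B⁻¹) = S.xb a (-((N₁ : ℤ) : K) * t * u) := by
      rw [map_mul, map_mul, map_mul, map_inv, map_inv, hAψ, hBψ, d1.cm S]
    have hy : X.C.ψ (B * Cc * B⁻¹ * Cc⁻¹) = S.xb b' (-((N₂ : ℤ) : K) * u * v) := by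
      rw [map_mul, map_mul, map_mul, map_inv, map_inv, hBψ, hCψ, d2.cm S]
    have hg : X.F a b (-((N₁ : ℤ) : K) * t * u) v =
        (A * B * A⁻¹ * B⁻¹) * Cc * (A * B * A⁻¹ * B⁻¹)⁻¹ * Cc⁻¹ := X.C.cm_eq hx hCψ
    have hg' : X.F a' b' t (-((N₂ : ℤ) : K) * u * v) =
        A * (B * Cc * B⁻¹ * Cc⁻¹) * A⁻¹ * (B * Cc * B⁻¹ * Cc⁻¹)⁻¹ := X.C.cm_eq hAψ hy
    rw [hg, hg']
    apply hw_aux (a := A) (b := B) (c := Cc) (x := A * B * A⁻¹ * B⁻¹) (y := B * Cc * B⁻¹ * Cc⁻¹)
    · group
    · group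
    · group
    · group
    · exact X.lc_ok h'.2.1 hok3 t v A Cc hAψ hCψ
    · exact X.lc_ok h.2.1 hok4 _ _ _ _ hx hy
    · have hgψ : X.C.ψ ((A * B * A⁻¹ * B⁻¹) * Cc * (A * B * A⁻¹ * B⁻¹)⁻¹ * Cc⁻¹) =
          S.xb γ (-((N : ℤ) : K) * (-((N₁ : ℤ) : K) * t * u) * v) := by
        rw [← hg, X.ψ_F h]
      exact X.lc_ok h.2.2.1 hγb' _ _ _ _ hgψ hy
  -- consequences
  have k1 : ∀ t v : K, X.F a b t v = X.F a' b' t (((N₂ : ℤ) : K) * ((N₁ : ℤ) : K) * v) := by
    intro t v
    have := key t (-((N₁ : ℤ) : K)) v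
    have e1 : -((N₁ : ℤ) : K) * t * -((N₁ : ℤ) : K) = t := by linear_combination t * hN1
    have e2 : -((N₂ : ℤ) : K) * -((N₁ : ℤ) : K) * v = ((N₂ : ℤ) : K) * ((N₁ : ℤ) : K) * v := by ring
    rw [e1, e2] at this
    exact this
  have k2 : ∀ t w : K, X.F a' b' t w = X.F a b t (((N₁ : ℤ) : K) * ((N₂ : ℤ) : K) * w) := by
    intro t w
    rw [k1]
    congr 1
    linear_combination (-w) * ((N₂ : ℤ) : K) * ((N₂ : ℤ) : K) * hN1 - w * hN2
  have k3 : ∀ t u v : K, X.F a b (t * u) v = X.F a b t (u * v) := by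
    intro t u v
    have := key t (-((N₁ : ℤ) : K) * u) v
    rw [k2] at this
    have e1 : -((N₁ : ℤ) : K) * t * (-((N₁ : ℤ) : K) * u) = t * u := by
      linear_combination t * u * hN1
    have e2 : ((N₁ : ℤ) : K) * ((N₂ : ℤ) : K) * (-((N₂ : ℤ) : K) * (-((N₁ : ℤ) : K) * u) * v) =
        u * v := by
      linear_combination u * v * ((N₁ : ℤ) : K) * ((N₁ : ℤ) : K) * hN2 + u * v * hN1
    rw [e1, e2] at this
    exact this
  have bal : X.Bal a b N := by
    intro x y
    unfold G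
    have := k3 1 x y
    rw [one_mul] at this
    rw [this]
    congr 1
    linear_combination (-x * y) * hN
  have hF' : ∀ x y : K, X.F a' b' x y =
      X.G a b N (-((N : ℤ) : K) * x * (((N₁ : ℤ) : K) * ((N₂ : ℤ) : K) * y)) := by
    intro x y
    rw [k2, bal]
  have bal'aux : ∀ x y : K, X.F a' b' x y = X.G a b N (-((N' : ℤ) : K) * x * y) := by
    intro x y
    exact X.eq_G_of_ψ h (hF' x y) (X.ψ_F h' x y)
  have hGG : ∀ z, X.G a' b' N' z = X.G a b N z := by
    intro z
    have e : X.G a' b' N' z = X.G a b N (-((N' : ℤ) : K) * 1 * (-((N' : ℤ) : K) * z)) := by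
      unfold G
      exact bal'aux 1 _
    exact X.eq_G_of_ψ h e (X.ψ_G h' z)
  refine ⟨bal, ?_, hGG⟩
  intro x y
  rw [hGG]
  exact bal'aux x y

end Ctx0

end Cfsg.Agent.Helper7.Sc
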