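import Mathlib
import Cfsg.Agent.Helper7.ScV

set_option autoImplicit false
set_option linter.unusedSectionVars false
set_option linter.unusedVariables false

/-!
Central extensions of a group with elements `xb r t` of simply laced type of large rank: the commutators of
lifts do not depend on the decomposition of the root, and the canonical lifts satisfy the relations.
-/

namespace Cfsg.Agent.Helper7.Sc

open Cfsg Cfsg.Lie Cfsg.Agent.Helper7.Chev Cfsg.Agent.Helper7.St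

variable {D : ChevalleyDatum} {K : Type*} [Field K] {Γ E : Type*} [Group Γ] [Group E]
  {S : StD D K Γ} (X : Ctx0 S E)

theorem decB_of_dec {p q γ : ℕ} {N : ℤ} (h : Dec D p q γ N) : (tabOf D).decB p q γ = true := by
  obtain ⟨h1, h2, h3, h4, h5, h6, h7⟩ := h
  unfold Tab.decB
  rw [commTerms_eq, h6]
  simp only [Bool.and_eq_true, Bool.or_eq_true, decide_eq_true_eq]
  exact ⟨⟨⟨⟨⟨h1, h2⟩, h3⟩, h4⟩, h5⟩, ⟨⟨⟨trivial, h7⟩, trivial⟩, trivial⟩⟩

theorem Dec.root_eq {p q γ γ' : ℕ} {N N' : ℤ} (h : Dec D p q γ N) (h' : Dec D p q γ' N') :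
    γ' = γ ∧ N' = N := by
  have e1 := h'.2.2.2.2.2.1
  rw [h.2.2.2.2.2.1] at e1
  simp only [List.cons.injEq, Prod.mk.injEq, and_true] at e1
  exact ⟨e1.1.symm, e1.2.symm⟩

namespace Ctx0

include X in
/-- The root of the commutator term of a pair commutes with both roots. -/
theorem ok_of_dec {r s γ : ℕ} {N : ℤ} (h : Dec D r s γ N) : Ok D γ r ∧ Ok D γ s := by
  rcases X.ok_or_dec h.1 h.2.1 h.2.2.2.1 h.2.2.2.2.1 with hh | ⟨γ', N', hd, h1, h2⟩
  · exact absurd h.2.2.2.2.2.1 (by rw [hh.spec.2.2.2]; simp)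
  · rw [(h.root_eq hd).1] at h1 h2
    exact ⟨h1, h2⟩

theorem G_neg {a b γ : ℕ} {N : ℤ} (h : Dec D b a γ N) (z : K) :
    X.G a b N (-z) = (X.G a b N z)⁻¹ := by
  unfold G
  rw [mul_neg, X.F_neg_right h (X.ok_of_dec h).1]

theorem G_add {a b γ : ℕ} {N : ℤ} (h : Dec D b a γ N) (z z' : K) :
    X.G a b N (z + z') = X.G a b N z * X.G a b N z' := by
  unfold G
  rw [mul_add, X.F_add_right h (X.ok_of_dec h).1]

/-- The swapped decomposition of a balanced decomposition is balanced, with the same canonical lifts. -/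
theorem swap {a b γ : ℕ} {N N' : ℤ} (h : Dec D b a γ N) (h' : Dec D a b γ N') (hb : X.Bal a b N) :
    X.Bal b a N' ∧ ∀ z, X.G b a N' z = X.G a b N z := by
  have k1 : ∀ y x : K, X.F b a y x = X.G a b N (-((N' : ℤ) : K) * y * x) := by
    intro y x
    have e : X.F b a y x = X.G a b N (-(-((N : ℤ) : K) * x * y)) := by
      rw [X.F_swap a b x y, hb, X.G_neg h]
    exact X.eq_G_of_ψ h e (X.ψ_F h' y x)
  have k2 : ∀ z, X.G b a N' z = X.G a b N z := by
    intro z
    have e : X.G b a N' z = X.G a b N (-((N' : ℤ) : K) * 1 * (-((N' : ℤ) : K) * z)) := by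
      unfold G
      exact k1 1 _
    exact X.eq_G_of_ψ h e (X.ψ_G h' z)
  refine ⟨?_, k2⟩
  intro y x
  rw [k2]
  exact k1 y x

/-- The decomposition `(a, b)` of `γ` is balanced, with the canonical lifts `Y`. -/
def GoodD (a b γ : ℕ) (Y : K → E) : Prop :=
  ∃ N, Dec D b a γ N ∧ X.Bal a b N ∧ ∀ z, X.G a b N z = Y z

/-- Goodness passes along a link. -/
theorem good_of_lk {a b a' b' γ : ℕ} {Y : K → E} (hg : X.GoodD a b γ Y) {N' : ℤ}
    (h' : Dec D b' a' γ N') (hl : (tabOf D).lkB a b a' b' = true) : X.GoodD a' b' γ Y := by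
  obtain ⟨N, h, hb, hY⟩ := hg
  unfold Tab.lkB at hl
  simp only [Bool.or_eq_true, Bool.and_eq_true, decide_eq_true_eq] at hl
  rcases hl with (⟨e1, e2⟩ | hm) | hm
  · subst e1 e2
    obtain ⟨s1, s2⟩ := X.swap h h' hb
    exact ⟨N', h', s1, fun z => by rw [s2, hY]⟩
  · obtain ⟨m1, m2, m3⟩ := X.move h h' hm
    exact ⟨N', h', m2, fun z => by rw [m3, hY]⟩
  · obtain ⟨m1, m2, m3⟩ := X.move h' h hm
    exact ⟨N', h', m1, fun z => by rw [← m3, hY]⟩

theorem decOf_spec {γ a : ℕ} {d : ℕ × ℕ} (h : (tabOf D).decOf γ a = some d) :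
    (tabOf D).decB d.2 d.1 γ = true := by
  unfold Tab.decOf at h
  rcases hb : (tabOf D).subRoot a γ with _ | b
  · rw [hb] at h; simp at h
  · rw [hb] at h
    simp only at h
    split_ifs at h with hd
    simp only [Option.some.injEq] at h
    rw [← h]
    exact hd

/-- Every decomposition of a root is balanced, with the canonical lifts of the first decomposition. -/
theorem good_all {a b γ : ℕ} {N : ℤ} (h : Dec D b a γ N) :
    ∃ N₀, Dec D ((tabOf D).baseOf γ).2 ((tabOf D).baseOf γ).1 γ N₀ ∧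
      X.GoodD a b γ (X.G ((tabOf D).baseOf γ).1 ((tabOf D).baseOf γ).2 N₀) := by
  have hrow : (match (tabOf D).commTerms b a with
      | [c] => !(tabOf D).decB b a c.1 || (tabOf D).reachB c.1 a b
      | _ => true) = true := X.tconn a h.2.1 b h.1
  rw [commTerms_eq, h.2.2.2.2.2.1] at hrow
  simp only [decB_of_dec h, Bool.not_true, Bool.false_or] at hrow
  unfold Tab.reachB at hrow
  obtain ⟨a₀, ha₀⟩ : ∃ a₀, a₀ = ((tabOf D).baseOf γ).1 := ⟨_, rfl⟩
  obtain ⟨b₀, hb₀⟩ : ∃ b₀, b₀ = ((tabOf D).baseOf γ).2 := ⟨_, rfl⟩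
  rw [← ha₀, ← hb₀] at hrow ⊢
  simp only [Bool.and_eq_true, Bool.or_eq_true, decide_eq_true_eq] at hrow
  obtain ⟨⟨hbase, hmoves⟩, hreach⟩ := hrow
  obtain ⟨N₀, h₀⟩ := dec_of_decB hbase
  refine ⟨N₀, h₀, ?_⟩
  -- the first decomposition is balanced
  have hbal : X.Bal a₀ b₀ N₀ := by
    unfold Tab.baseMovesB at hmoves
    rw [List.any_eq_true] at hmoves
    obtain ⟨a₁, _, hm⟩ := hmoves
    rcases hd : (tabOf D).decOf γ a₁ with _ | d
    · rw [hd] at hm; simp at hm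
    · rw [hd] at hm
      simp only [Bool.or_eq_true] at hm
      obtain ⟨N₁, h₁⟩ := dec_of_decB (decOf_spec hd)
      rcases hm with hm | hm
      · exact (X.move h₀ h₁ hm).1
      · exact (X.move h₁ h₀ hm).2.1
  have hgood₀ : X.GoodD a₀ b₀ γ (X.G a₀ b₀ N₀) := ⟨N₀, h₀, hbal, fun _ => rfl⟩
  rcases hreach with (⟨e1, e2⟩ | hl) | hl
  · rw [e1, e2]; exact hgood₀
  · exact X.good_of_lk hgood₀ h hl
  · rw [List.any_eq_true] at hl
    obtain ⟨a₁, _, hm⟩ := hl
    rcases hd : (tabOf D).decOf γ a₁ with _ | d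
    · rw [hd] at hm; simp at hm
    · rw [hd] at hm
      simp only [Bool.and_eq_true] at hm
      obtain ⟨N₁, h₁⟩ := dec_of_decB (decOf_spec hd)
      exact X.good_of_lk (X.good_of_lk hgood₀ h₁ hm.1) h hm.2

/-- The coefficient of the first commutator term. -/
def coef (D : ChevalleyDatum) (p q : ℕ) : ℤ := ((D.commTerms p q).headD (0, 0, 0, 0)).2.1

theorem coef_of_dec {p q γ : ℕ} {N : ℤ} (h : Dec D p q γ N) : coef D p q = N := by
  unfold coef
  rw [h.2.2.2.2.2.1]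
  rfl

/-- The canonical lift of `xb γ z`. -/
noncomputable def y0 (γ : ℕ) (z : K) : E :=
  X.G ((tabOf D).baseOf γ).1 ((tabOf D).baseOf γ).2
    (coef D ((tabOf D).baseOf γ).2 ((tabOf D).baseOf γ).1) z

include X in
/-- Every root has a decomposition. -/
theorem exists_dec {γ : ℕ} (hγ : γ < D.nroots) : ∃ a b N, Dec D b a γ N := by
  have hsp : (tabOf D).splitB γ γ = true := X.tm1 γ hγ γ hγ (Or.inl rfl)
  unfold Tab.splitB at hsp
  rw [List.any_eq_true] at hsp
  obtain ⟨p, _, hp⟩ := hsp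
  rcases hq : (tabOf D).chainRoot ((tabOf D).neg p) γ 1 with _ | q
  · rw [hq] at hp; simp at hp
  · rw [hq] at hp
    simp only [Bool.and_eq_true] at hp
    obtain ⟨N, hN⟩ := dec_of_decB hp.1.1
    exact ⟨q, p, N, hN⟩

include X in
/-- The first decomposition of a root, with its coefficient. -/
theorem base_dec {γ : ℕ} (hγ : γ < D.nroots) :
    Dec D ((tabOf D).baseOf γ).2 ((tabOf D).baseOf γ).1 γ
      (coef D ((tabOf D).baseOf γ).2 ((tabOf D).baseOf γ).1) := by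
  obtain ⟨a, b, N, h⟩ := X.exists_dec hγ
  obtain ⟨N₀, h₀, _⟩ := X.good_all h
  rw [coef_of_dec h₀]
  exact h₀

/-- The commutators of lifts of root elements through the canonical lifts. -/
theorem F_eq_y0 {a b γ : ℕ} {N : ℤ} (h : Dec D b a γ N) (x y : K) :
    X.F a b x y = X.y0 γ (-((N : ℤ) : K) * x * y) := by
  obtain ⟨N₀, h₀, N', h', hb, hY⟩ := X.good_all h
  unfold y0
  rw [coef_of_dec h₀, ← hY]
  rw [← (h.root_eq h').2]
  exact hb x y

theorem ψ_y0 {γ : ℕ} (hγ : γ < D.nroots) (z : K) : X.C.ψ (X.y0 γ z) = S.xb γ z :=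
  X.ψ_G (X.base_dec hγ) z

theorem y0_add {γ : ℕ} (hγ : γ < D.nroots) (z z' : K) : X.y0 γ z * X.y0 γ z' = X.y0 γ (z + z') :=
  (X.G_add (X.base_dec hγ) z z').symm

/-- The relations (R2) for the canonical lifts. -/
theorem y0_comm {r s : ℕ} (hr : r < D.nroots) (hs : s < D.nroots) (hsr : s ≠ r) (hsn : s ≠ D.neg r)
    (t u : K) :
    X.y0 s u * X.y0 r t = X.y0 r t * X.y0 s u *
      ((D.commWord K r s t u).map fun p => X.y0 p.1 p.2).prod := by
  rcases X.ok_or_dec hr hs hsr hsn with hh | ⟨γ, N, hd, h1, h2⟩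
  · unfold ChevalleyDatum.commWord
    rw [hh.spec.2.2.2]
    simp only [List.map_nil, List.prod_nil, mul_one]
    exact (X.lc_ok hr hh t u _ _ (X.ψ_y0 hr t) (X.ψ_y0 hs u)).symm
  · unfold ChevalleyDatum.commWord
    rw [hd.2.2.2.2.2.1]
    simp only [List.map_cons, List.map_nil, List.prod_cons, List.prod_nil, mul_one, pow_one]
    have hγ := hd.2.2.1
    have e1 : X.F s r u t = X.y0 s u * X.y0 r t * (X.y0 s u)⁻¹ * (X.y0 r t)⁻¹ :=
      X.C.cm_eq (X.ψ_y0 hs u) (X.ψ_y0 hr t)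
    rw [X.F_eq_y0 hd] at e1
    have e2 : -((N : ℤ) : K) * u * t = ((N : ℤ) : K) * -t * u := by ring
    rw [e2] at e1
    have c1 := X.lc_ok hγ h1 (((N : ℤ) : K) * -t * u) t _ _ (X.ψ_y0 hγ _) (X.ψ_y0 hr t)
    have c2 := X.lc_ok hγ h2 (((N : ℤ) : K) * -t * u) u _ _ (X.ψ_y0 hγ _) (X.ψ_y0 hs u)
    have e3 : X.y0 s u * X.y0 r t =
        X.y0 γ (((N : ℤ) : K) * -t * u) * X.y0 r t * X.y0 s u := by
      rw [e1]; group
    rw [e3, c1, mul_assoc (X.y0 r t), c2, ← mul_assoc]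

end Ctx0

end Cfsg.Agent.Helper7.Sc
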