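import Mathlib
import Cfsg.Agent.Helper7.ScW
import Cfsg.Agent.Helper7.ScUTabAll
import Cfsg.Agent.Helper7.ScI
import Cfsg.Prelude.Def_KGroupFacts

set_option autoImplicit false
set_option linter.unusedSectionVars false
set_option linter.unusedVariables false

/-!
Every central extension of the group presented by the relators (R1), (R2) of type E6, E7 or E8 splits, over
an arbitrary field; unique lifts to central extensions; and the Schur multiplier from a universal central
extension.
-/

namespace Cfsg.Agent.Helper7.Sc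

open Cfsg Cfsg.Lie Cfsg.Agent.Helper7.Chev Cfsg.Agent.Helper7.St

universe u

variable {D : ChevalleyDatum} {K : Type*} [Field K]

theorem mem7_of_memE (hD : D ∈ [chevE6, chevE7, chevE8]) :
    D ∈ [chevG2, chevB2, chevD4, chevF4, chevE6, chevE7, chevE8] := by
  simp only [List.mem_cons, List.not_mem_nil, or_false] at hD ⊢
  rcases hD with rfl | rfl | rfl <;> simp

theorem not_small_of_memE (hD : D ∈ [chevE6, chevE7, chevE8]) : ¬ D ∈ [chevB2, chevG2] := by
  intro h
  have h1 : D.rank = 2 := by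
    simp only [List.mem_cons, List.not_mem_nil, or_false] at h
    rcases h with rfl | rfl <;> rfl
  have h2 : 6 ≤ D.rank := by
    simp only [List.mem_cons, List.not_mem_nil, or_false] at hD
    rcases hD with rfl | rfl | rfl <;> decide
  omega

theorem cover_perfect (hD : D ∈ [chevE6, chevE7, chevE8]) :
    commutator (D.SteinbergCover K) = ⊤ :=
  Cfsg.Agent.S2395.result D (mem7_of_memE hD) (fun h => absurd h (not_small_of_memE hD))

/-- The context of a central extension of the presented group of type E6, E7 or E8. -/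
noncomputable def coverCtx0 (hD : D ∈ [chevE6, chevE7, chevE8]) {E : Type*} [Group E]
    (ψ : E →* D.SteinbergCover K) (hψ : Function.Surjective ψ) (hc : ψ.ker ≤ Subgroup.center E) :
    Ctx0 (coverStd (K := K) (mem7_of_memE hD)) E where
  C := ⟨ψ, hψ, hc, cover_perfect hD⟩
  inj := by
    intro r hr a b h
    have H := coverStd_hyp (K := K) (mem7_of_memE hD)
    have hG1 := H.hG.toGood1
    have e := congrArg (coverStd (K := K) (mem7_of_memE hD)).π h
    rw [StD.π_xb _ hG1 hr, StD.π_xb _ hG1 hr] at e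
    exact xGL_injective H.hG H.hT H.h8 hr e
  tsl := TSL_of_memE D hD
  tm1 := TM1_of_memE D hD
  tconn := TCONN_of_memE D hD

/-- Every central extension of the presented group of type E6, E7 or E8 splits. -/
theorem cover_splits0 (hD : D ∈ [chevE6, chevE7, chevE8]) {E : Type*} [Group E]
    (ψ : E →* D.SteinbergCover K) (hψ : Function.Surjective ψ) (hc : ψ.ker ≤ Subgroup.center E) :
    ∃ τ : D.SteinbergCover K →* E, ψ.comp τ = MonoidHom.id _ := by
  have hD7 := mem7_of_memE hD
  obtain ⟨X, hX⟩ : ∃ X : Ctx0 (coverStd (K := K) hD7) E, X = coverCtx0 hD ψ hψ hc := ⟨_, rfl⟩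
  have hXψ : X.C.ψ = ψ := by rw [hX]; rfl
  have hlift : ∀ (r : ℕ) (t : K), r < D.nroots →
      FreeGroup.lift (fun p : Fin D.nroots × K => X.y0 p.1.val p.2) (D.stX r t) = X.y0 r t := by
    intro r t hr
    unfold ChevalleyDatum.stX
    rw [dif_pos hr, FreeGroup.lift_apply_of]
  have hh3 := (good3_of_mem D hD7).t3
  have hrk : 0 < D.rank := by
    simp only [List.mem_cons, List.not_mem_nil, or_false] at hD
    rcases hD with rfl | rfl | rfl <;> decide
  have hword : ∀ w : List (ℕ × K), (∀ q ∈ w, q.1 < D.nroots) →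
      FreeGroup.lift (fun p : Fin D.nroots × K => X.y0 p.1.val p.2) (D.stWord w) =
        (w.map fun p => X.y0 p.1 p.2).prod := by
    intro w hw
    unfold ChevalleyDatum.stWord
    induction w with
    | nil => simp
    | cons q w ih =>
      rw [List.map_cons, List.prod_cons, map_mul, hlift _ _ (hw q List.mem_cons_self),
        ih (fun q' hq' => hw q' (List.mem_cons_of_mem _ hq')), List.map_cons, List.prod_cons]
  have hrels : ∀ g ∈ D.steinbergRelsAB K,
      FreeGroup.lift (fun p : Fin D.nroots × K => X.y0 p.1.val p.2) g = 1 := by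
    intro g hg
    rcases hg with ⟨r, t₁, t₂, hr, rfl⟩ | ⟨r, s, t, u, hr, hs, hsr, hsn, rfl⟩
    · rw [map_mul, map_mul, map_inv, hlift _ _ hr, hlift _ _ hr, hlift _ _ hr, X.y0_add hr,
        mul_inv_cancel]
    · have hlt : ∀ q ∈ D.commWord K r s t u, q.1 < D.nroots := by
        intro q hq
        unfold ChevalleyDatum.commWord at hq
        rw [List.mem_map] at hq
        obtain ⟨c, hc, rfl⟩ := hq
        have h := (hh3 0 hrk r hr s hs hsr hsn).2
        rw [List.all_eq_true] at h
        exact of_decide_eq_true (h c (by rw [commTerms_eq]; exact hc))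
      rw [map_mul, map_mul, map_mul, map_mul, map_inv, map_inv, map_inv, hlift _ _ hr, hlift _ _ hs,
        hword _ hlt, mul_assoc ((X.y0 s u)⁻¹ * (X.y0 r t)⁻¹), X.y0_comm hr hs hsr hsn t u]
      group
  refine ⟨PresentedGroup.toGroup hrels, ?_⟩
  apply PresentedGroup.ext
  intro p
  rw [MonoidHom.comp_apply, PresentedGroup.toGroup.of, MonoidHom.id_apply, ← hXψ, X.ψ_y0 p.1.2]
  rw [coverStd_xb]
  unfold ChevalleyDatum.stX
  rw [dif_pos p.1.2]
  rfl

/-- Unique lifts to central extensions, for a perfect group all of whose central extensions split. -/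
theorem exists_unique_lift {Δ G₁ E : Type*} [Group Δ] [Group G₁] [Group E]
    (hperf : commutator Δ = ⊤) (π₁ : E →* G₁) (hπ : Function.Surjective π₁)
    (hc : π₁.ker ≤ Subgroup.center E) (σ : Δ →* G₁)
    (hsplit : ∀ (P : Subgroup (E × Δ)) (ψ : ↥P →* Δ), Function.Surjective ψ →
      ψ.ker ≤ Subgroup.center ↥P → ∃ τ : Δ →* ↥P, ψ.comp τ = MonoidHom.id Δ) :
    ∃! τ : Δ →* E, π₁.comp τ = σ := by
  let P : Subgroup (E × Δ) :=
    { carrier := {x | π₁ x.1 = σ x.2}
      mul_mem' := by
        intro a b ha hb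
        change π₁ (a * b).1 = σ (a * b).2
        rw [Prod.fst_mul, Prod.snd_mul, map_mul, map_mul, ha, hb]
      one_mem' := by
        change π₁ (1 : E × Δ).1 = σ (1 : E × Δ).2
        rw [Prod.fst_one, Prod.snd_one, map_one, map_one]
      inv_mem' := by
        intro a ha
        change π₁ (a⁻¹).1 = σ (a⁻¹).2
        rw [Prod.fst_inv, Prod.snd_inv, map_inv, map_inv, ha] }
  have hP : ∀ x : E × Δ, x ∈ P ↔ π₁ x.1 = σ x.2 := fun x => Iff.rfl
  let ψ : ↥P →* Δ := (MonoidHom.snd E Δ).comp P.subtype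
  have hψ_apply : ∀ x : ↥P, ψ x = x.1.2 := fun x => rfl
  have hψ : Function.Surjective ψ := by
    intro d
    obtain ⟨e, he⟩ := hπ (σ d)
    exact ⟨⟨(e, d), (hP _).mpr he⟩, rfl⟩
  have hker : ψ.ker ≤ Subgroup.center ↥P := by
    intro x hx
    rw [MonoidHom.mem_ker, hψ_apply] at hx
    have hx1 : x.1.1 ∈ π₁.ker := by
      rw [MonoidHom.mem_ker, (hP _).mp x.2, hx, map_one]
    have hcen := hc hx1
    rw [Subgroup.mem_center_iff] at hcen ⊢
    intro y
    apply Subtype.ext
    apply Prod.ext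
    · exact hcen y.1.1
    · change y.1.2 * x.1.2 = x.1.2 * y.1.2
      rw [hx, mul_one, one_mul]
  obtain ⟨τ₀, hτ₀⟩ := hsplit P ψ hψ hker
  have hτ₀' : ∀ d, (τ₀ d).1.2 = d := by
    intro d
    have := congrArg (fun f => f d) hτ₀
    exact this
  obtain ⟨τ, hτdef⟩ : ∃ τ : Δ →* E, τ = ((MonoidHom.fst E Δ).comp P.subtype).comp τ₀ := ⟨_, rfl⟩
  have hτ : π₁.comp τ = σ := by
    rw [hτdef]
    apply MonoidHom.ext
    intro d
    change π₁ (τ₀ d).1.1 = σ d
    rw [(hP _).mp (τ₀ d).2, hτ₀']
  refine ⟨τ, hτ, ?_⟩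
  intro τ' hτ'
  have hdiff : ∀ d, ∀ x : E, (τ d)⁻¹ * τ' d * x = x * ((τ d)⁻¹ * τ' d) := by
    intro d x
    have hz : (τ d)⁻¹ * τ' d ∈ π₁.ker := by
      rw [MonoidHom.mem_ker, map_mul, map_inv]
      have e1 : π₁ (τ d) = σ d := by rw [← hτ]; rfl
      have e2 : π₁ (τ' d) = σ d := by rw [← hτ']; rfl
      rw [e1, e2, inv_mul_cancel]
    exact (Subgroup.mem_center_iff.mp (hc hz) x).symm
  have hle : commutator Δ ≤ MonoidHom.eqLocus τ' τ := by
    rw [commutator_def, Subgroup.commutator_le]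
    intro a _ b _
    change τ' (a * b * a⁻¹ * b⁻¹) = τ (a * b * a⁻¹ * b⁻¹)
    rw [map_mul, map_mul, map_mul, map_inv, map_inv, map_mul, map_mul, map_mul, map_inv, map_inv]
    have ea : τ' a = τ a * ((τ a)⁻¹ * τ' a) := by group
    have eb : τ' b = τ b * ((τ b)⁻¹ * τ' b) := by group
    rw [ea, eb]
    exact CExt.comm_central_mul (hdiff a) (hdiff b)
  apply MonoidHom.ext
  intro d
  have : d ∈ MonoidHom.eqLocus τ' τ := hle (by rw [hperf]; trivial)
  exact this

/-- Unique lifts from the presented group of type E6, E7 or E8 to central extensions. -/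
theorem lift_unique0 (hD : D ∈ [chevE6, chevE7, chevE8]) {G₁ E : Type*} [Group G₁] [Group E]
    (π₁ : E →* G₁) (hπ : Function.Surjective π₁) (hc : π₁.ker ≤ Subgroup.center E)
    (σ : D.SteinbergCover K →* G₁) : ∃! τ : D.SteinbergCover K →* E, π₁.comp τ = σ :=
  exists_unique_lift (cover_perfect hD) π₁ hπ hc σ (fun _ ψ h1 h2 => cover_splits0 hD ψ h1 h2)

/-- The Schur multiplier of a group with a finite perfect central extension from which every central
extension is reached. -/
theorem schur_of_universal {G Δ : Type u} [Group G] [Group Δ] [Finite Δ] (θ : Δ →* G)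
    (hθs : Function.Surjective θ) (hθc : θ.ker ≤ Subgroup.center Δ) (hperf : commutator Δ = ⊤)
    (hlift : ∀ (Γ : Type u) [Group Γ] (σ : Γ →* G), Function.Surjective σ →
      σ.ker ≤ Subgroup.center Γ → ∃ τ : Δ →* Γ, σ.comp τ = θ)
    {A : Type*} [CommGroup A] (e : A ≃* θ.ker) : Cfsg.HasSchurMultiplier G A := by
  constructor
  · exact ⟨Δ, inferInstance, inferInstance, θ, ⟨hθs, hθc, by rw [hperf]; exact le_top⟩, ⟨e.symm⟩⟩
  · intro Γ _ _ σ ⟨hσs, hσc, hσd⟩
    obtain ⟨τ, hτ⟩ := hlift Γ σ hσs hσc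
    have hτ' : ∀ d, σ (τ d) = θ d := fun d => DFunLike.congr_fun hτ d
    have hcomm : commutator Γ ≤ τ.range := by
      rw [commutator_def, Subgroup.commutator_le]
      intro a _ b _
      obtain ⟨a', ha'⟩ := hθs (σ a)
      obtain ⟨b', hb'⟩ := hθs (σ b)
      have hza : ∀ x : Γ, (τ a')⁻¹ * a * x = x * ((τ a')⁻¹ * a) := by
        intro x
        have hz : (τ a')⁻¹ * a ∈ σ.ker := by
          rw [MonoidHom.mem_ker, map_mul, map_inv, hτ', ha', inv_mul_cancel]
        exact (Subgroup.mem_center_iff.mp (hσc hz) x).symm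
      have hzb : ∀ x : Γ, (τ b')⁻¹ * b * x = x * ((τ b')⁻¹ * b) := by
        intro x
        have hz : (τ b')⁻¹ * b ∈ σ.ker := by
          rw [MonoidHom.mem_ker, map_mul, map_inv, hτ', hb', inv_mul_cancel]
        exact (Subgroup.mem_center_iff.mp (hσc hz) x).symm
      have ea : a = τ a' * ((τ a')⁻¹ * a) := by group
      have eb : b = τ b' * ((τ b')⁻¹ * b) := by group
      refine ⟨a' * b' * a'⁻¹ * b'⁻¹, ?_⟩
      change _ = a * b * a⁻¹ * b⁻¹
      rw [map_mul, map_mul, map_mul, map_inv, map_inv]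
      conv_rhs => rw [ea, eb]
      exact (CExt.comm_central_mul hza hzb).symm
    have hmem : ∀ z : A, τ (e z : Δ) ∈ σ.ker := by
      intro z
      rw [MonoidHom.mem_ker, hτ']
      exact (e z).2
    refine ⟨(τ.comp (θ.ker.subtype.comp e.toMonoidHom)).codRestrict σ.ker hmem, ?_⟩
    intro y
    obtain ⟨d, hd⟩ := hcomm (hσd y.2)
    have hdk : d ∈ θ.ker := by
      rw [MonoidHom.mem_ker, ← hτ', hd]
      exact y.2
    refine ⟨e.symm ⟨d, hdk⟩, ?_⟩
    apply Subtype.ext
    change τ ((e (e.symm ⟨d, hdk⟩) : θ.ker) : Δ) = y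
    rw [MulEquiv.apply_symm_apply]
    exact hd

end Cfsg.Agent.Helper7.Sc
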