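import Mathlib
import Cfsg.Agent.Helper7.ScT
import Cfsg.Agent.Helper7.ChevWeyl

set_option autoImplicit false

/-!
Table facts for the central closedness of the presented groups of Steinberg over the fields with three and
four elements: separating torus elements, roots which are single commutator terms, and words in the
fundamental reflections interchanging two roots.
-/

namespace Cfsg.Agent.Helper7.Chev

open Cfsg Cfsg.Lie

namespace Tab

variable (T : Tab)

/-- Some root `γ` has `⟨r, γ⟩ = 0` and `⟨s, γ⟩ ≠ 0`, of absolute value at most `2`. -/
def sepQ (r s : ℕ) : Bool :=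
  (List.range T.n).any fun γ => decide (T.pairing γ r = 0) && decide (T.pairing γ s ≠ 0) &&
    decide ((T.pairing γ s).natAbs ≤ 2)

/-- Two roots `s ≠ ± r` are separated by a torus element, with a pairing of absolute value at most `2`. -/
def TQ1 : Prop :=
  AllLt T.n (fun r => AllLt T.n (fun s => s ≠ r → s ≠ T.neg r → T.sepQ r s = true))

instance : Decidable T.TQ1 := by unfold TQ1; infer_instance

/-- The root `r` is the only commutator term of a pair `(p, q)`, with coefficient `± 1` and linear in
both parameters, and the roots `p`, `q` commute with `r`. -/
def appS (r : ℕ) : Bool :=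
  (List.range T.n).any fun p => (List.range T.n).any fun q =>
    decide (q ≠ p) && decide (q ≠ T.neg p) &&
    match T.commTerms p q with
    | [c₁] => decide (c₁.1 = r) && (decide (c₁.2.1 = 1) || decide (c₁.2.1 = -1)) &&
        decide (c₁.2.2.1 = 1) && decide (c₁.2.2.2 = 1) && T.okB r p && T.okB r q
    | _ => false

/-- Each root is a single commutator term as in `appS`. -/
def TQ3 : Prop := AllLt T.n (fun r => T.appS r = true)

instance : Decidable T.TQ3 := by unfold TQ3; infer_instance

/-- Some root `γ` has `⟨r, γ⟩` even and `⟨s, γ⟩` odd. -/
def sepP (r s : ℕ) : Bool :=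
  (List.range T.n).any fun γ => decide (T.pairing γ r % 2 = 0) && decide (T.pairing γ s % 2 = 1)

/-- Some root `γ` has `⟨r, γ⟩` odd. -/
def oddB (r : ℕ) : Bool := (List.range T.n).any fun γ => decide (T.pairing γ r % 2 = 1)

/-- Each root has an odd pairing with some root. -/
def TQ4 : Prop := AllLt T.n (fun r => T.oddB r = true)

instance : Decidable T.TQ4 := by unfold TQ4; infer_instance

/-- The root `s` is the only commutator term of a pair `(p, q)`, with coefficient prime to `3` and linear in
both parameters, and the roots `p`, `q` commute with `k` and are separated from it. -/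
def excC (k s : ℕ) : Bool :=
  (List.range T.n).any fun p => (List.range T.n).any fun q =>
    decide (q ≠ p) && decide (q ≠ T.neg p) &&
    match T.commTerms p q with
    | [c₁] => decide (c₁.1 = s) && decide (c₁.2.1 % 3 ≠ 0) &&
        decide (c₁.2.2.1 = 1) && decide (c₁.2.2.2 = 1) && T.okB k p && T.okB k q &&
        (T.sepP k p || T.sepP p k) && (T.sepP k q || T.sepP q k)
    | _ => false

/-- One of the given words interchanges the roots `k` and `s`, with product of signs `1`. -/
def excW (wits : List (List ℕ)) (k s : ℕ) : Bool :=
  wits.any fun w => w.all (fun i => decide (i < T.l)) && decide (T.reflWord w k = s) &&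
    decide (T.reflWord w s = k) && decide (T.etaWord w k * T.etaWord w s = 1)

/-- Two positive roots `k < s` either are separated by an element of order two of the torus, or commute
and fall under `excC` or `excW`. -/
def TQ5 (wits : List (List ℕ)) : Prop :=
  AllLt T.n (fun k => T.n / 2 ≤ k → AllLt T.n (fun s => k < s →
    (T.sepP k s || ((T.commTerms k s).isEmpty && (T.excC k s || T.excW wits k s))) = true))

instance (wits : List (List ℕ)) : Decidable (T.TQ5 wits) := by unfold TQ5; infer_instance

end Tab

end Cfsg.Agent.Helper7.Chev
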