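import Mathlib
import Cfsg.Agent.Helper7.SqC
import Cfsg.Agent.Helper7.SqT

set_option autoImplicit false
set_option linter.unusedSectionVars false
set_option linter.unusedVariables false

/-!
Central extensions of a group with elements `xb r t`: lifts of commuting root elements commute, when one of
the roots is a single commutator term of two roots with this property, or when the field has three elements
and an element interchanges the two roots; and the elements of `Nb` along a word.
-/

namespace Cfsg.Agent.Helper7.Sq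

open Cfsg Cfsg.Lie Cfsg.Agent.Helper7.Chev Cfsg.Agent.Helper7.St Cfsg.Agent.Helper7.Sc

variable {D : ChevalleyDatum} {K : Type*} [Field K] {Γ E : Type*} [Group Γ] [Group E]
  {S : StD D K Γ} (C : CExt E Γ)

/-- Lifts of `x` commute with lifts of `g`, when `x` lies in a subgroup generated by elements with this
property. -/
theorem lc_of_mem_closure {g x : Γ} (T : Set Γ) (hx : x ∈ Subgroup.closure T)
    (hT : ∀ y ∈ T, C.LC y g) : C.LC x g := by
  have hle : Subgroup.closure T ≤ C.LCen g := by
    rw [Subgroup.closure_le]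
    intro y hy
    exact hT y hy
  exact hle hx

omit [Group E] in
/-- The root elements of a single commutator term of the pair `(p, q)` lie in the subgroup generated by
the root elements of `p` and `q`. -/
theorem xb_mem_closure_single {p q r : ℕ} (hp : p < D.nroots) (hq : q < D.nroots)
    (hr : r < D.nroots) (hqp : q ≠ p)
    (hqn : q ≠ D.neg p) {c : ℤ} (hct : D.commTerms p q = [(r, c, 1, 1)]) (hc : ((c : ℤ) : K) ≠ 0)
    (t : K) :
    S.xb r t ∈ Subgroup.closure {g | ∃ a : K, g = S.xb p a ∨ g = S.xb q a} := by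
  have hrel := S.comm p q hp hq hqp hqn (((c : ℤ) : K)⁻¹ * t) 1
  unfold ChevalleyDatum.commWord at hrel
  rw [hct] at hrel
  simp only [List.map_cons, List.map_nil, List.prod_cons, List.prod_nil, mul_one, pow_one,
    one_pow] at hrel
  have e1 : ((c : ℤ) : K) * -(((c : ℤ) : K)⁻¹ * t) = -t := by
    rw [mul_neg, ← mul_assoc, mul_inv_cancel₀ hc, one_mul]
  rw [e1] at hrel
  have e : S.xb r (-t) = (S.xb p (((c : ℤ) : K)⁻¹ * t) * S.xb q 1)⁻¹ *
      (S.xb q 1 * S.xb p (((c : ℤ) : K)⁻¹ * t)) := by
    rw [hrel]
    group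
  have hmem : S.xb r (-t) ∈ Subgroup.closure {g | ∃ a : K, g = S.xb p a ∨ g = S.xb q a} := by
    rw [e]
    apply mul_mem
    · apply inv_mem
      apply mul_mem
      · exact Subgroup.subset_closure ⟨_, Or.inl rfl⟩
      · exact Subgroup.subset_closure ⟨_, Or.inr rfl⟩
    · apply mul_mem
      · exact Subgroup.subset_closure ⟨_, Or.inr rfl⟩
      · exact Subgroup.subset_closure ⟨_, Or.inl rfl⟩
  have hinv : (S.xb r (-t))⁻¹ ∈ Subgroup.closure {g | ∃ a : K, g = S.xb p a ∨ g = S.xb q a} :=
    inv_mem hmem
  rw [S.xb_inv hr, neg_neg] at hinv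
  exact hinv

/-- The product of the elements `nb i 1` along a word. -/
def nw (S : StD D K Γ) (w : List ℕ) : Γ := (w.map fun i => S.nb i 1).prod

omit [Group E] in
theorem nw_mem_Nb {w : List ℕ} (hw : ∀ i ∈ w, i < D.rank) : nw S w ∈ S.Nb := by
  unfold nw
  apply Subgroup.list_prod_mem
  intro x hx
  rw [List.mem_map] at hx
  obtain ⟨i, hi, rfl⟩ := hx
  exact S.nb_mem_Nb (hw i hi) one_ne_zero

omit [Group E] in
/-- The product of the elements `nb i 1` along a word acts through the word, with the signs of the
word. -/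
theorem monE_nw (H : S.Hyp) : ∀ (w : List ℕ), (∀ i ∈ w, i < D.rank) →
    S.MonE (nw S w) w (fun s => (((tabOf D).etaWord w s : ℤ) : K)) := by
  intro w
  induction w with
  | nil =>
    intro _
    have := S.monE_one
    unfold nw
    simp only [List.map_nil, List.prod_nil, Tab.etaWord, Int.cast_one]
    exact this
  | cons i w ih =>
    intro hw
    have hi := hw i List.mem_cons_self
    have h1 := H.monE_nb hi (one_ne_zero (α := K))
    have h2 := ih (fun j hj => hw j (List.mem_cons_of_mem _ hj))
    have h3 := S.monE_mul H.hG h1 h2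
    have e1 : nw S (i :: w) = S.nb i 1 * nw S w := by
      unfold nw
      rw [List.map_cons, List.prod_cons]
    have e2 : (fun s => cf D K i ((tabOf D).reflWord w s) 1 * (((tabOf D).etaWord w s : ℤ) : K)) =
        fun s => (((tabOf D).etaWord (i :: w) s : ℤ) : K) := by
      funext s
      unfold cf
      rw [one_zpow, one_mul]
      simp only [Tab.etaWord, Int.cast_mul]
      rfl
    rw [e1, ← e2]
    exact h3

/-- Over a field with three elements, lifts of commuting root elements of two roots interchanged by an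
element, with product of coefficients `1`, commute. -/
theorem lc_of_swap (hK3 : ∀ t : K, t = 0 ∨ t = 1 ∨ t = -1) (h2 : (1 + 1 : K) ≠ 0) {r s : ℕ}
    (hr : r < D.nroots) (hs : s < D.nroots)
    (hcomm : ∀ t u : K, S.xb r t * S.xb s u = S.xb s u * S.xb r t) {g : Γ} {a b : K}
    (hg1 : ∀ t : K, g * S.xb r t * g⁻¹ = S.xb s (a * t))
    (hg2 : ∀ u : K, g * S.xb s u * g⁻¹ = S.xb r (b * u)) (hab : a * b = 1) (t u : K) :
    C.LC (S.xb r t) (S.xb s u) := by
  obtain ⟨f, hf⟩ : ∃ f : K → K → E, f = fun t u => C.cm (S.xb r t) (S.xb s u) := ⟨_, rfl⟩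
  have hfe : ∀ t u, f t u = C.cm (S.xb r t) (S.xb s u) := fun t u => by rw [hf]
  have hψ : ∀ t u, C.ψ (f t u) = 1 := fun t u => by
    rw [hfe]; exact C.ψ_cm_of_comm (hcomm t u)
  have hcen : ∀ t u (x : E), f t u * x = x * f t u := fun t u x => C.ker_comm (hψ t u) x
  have haddr : ∀ t u u' : K, f t (u + u') = f t u * f t u' := by
    intro t u u'
    rw [hfe, hfe, hfe, ← S.add s hs, C.cm_mul_right_of_comm (hcomm t u')]
  have haddl : ∀ t t' u : K, f (t + t') u = f t u * f t' u := by
    intro t t' u
    have e : ∀ t, f t u = (C.cm (S.xb s u) (S.xb r t))⁻¹ := fun t => by rw [hfe, C.cm_inv]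
    have e2 : C.cm (S.xb s u) (S.xb r (t + t')) =
        C.cm (S.xb s u) (S.xb r t) * C.cm (S.xb s u) (S.xb r t') := by
      rw [← S.add r hr, C.cm_mul_right_of_comm (hcomm t' u).symm]
    rw [e, e, e, e2, _root_.mul_inv_rev]
    rw [← e, ← e]
    exact (hcen t' u (f t u))
  have hswap : ∀ t u : K, f t u * f (b * u) (a * t) = 1 := by
    intro t u
    have h1 := C.kap_cm g (S.xb r t) (S.xb s u)
    rw [← hfe, C.kap_ker (hψ t u), hg1, hg2, ← C.cm_inv, ← hfe] at h1
    rw [h1, inv_mul_cancel]
  have hz1 : ∀ u, f 0 u = 1 := by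
    intro u
    have := haddl 0 0 u
    rw [add_zero] at this
    exact mul_eq_left.mp this.symm
  have hz2 : ∀ t, f t 0 = 1 := by
    intro t
    have := haddr t 0 0
    rw [add_zero] at this
    exact mul_eq_left.mp this.symm
  have hn1 : ∀ t u, f (-t) u = (f t u)⁻¹ := by
    intro t u
    have := haddl t (-t) u
    rw [add_neg_cancel, hz1] at this
    exact eq_inv_of_mul_eq_one_right this.symm
  have hn2 : ∀ t u, f t (-u) = (f t u)⁻¹ := by
    intro t u
    have := haddr t u (-u)
    rw [add_neg_cancel, hz2] at this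
    exact eq_inv_of_mul_eq_one_right this.symm
  -- the element `c = f 1 1`
  have h3 : (1 + 1 + 1 : K) = 0 := by
    rcases hK3 (1 + 1) with h | h | h
    · exact absurd h h2
    · exfalso
      have : (1 : K) = 0 := by linear_combination h
      exact one_ne_zero this
    · linear_combination h
  have hc3 : f 1 1 * f 1 1 * f 1 1 = 1 := by
    rw [← haddl, ← haddl, h3, hz1]
  have hba : f b a = f 1 1 := by
    have ha0 : a ≠ 0 := left_ne_zero_of_mul_eq_one hab
    rcases hK3 a with h | h | h
    · exact absurd h ha0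
    · have hb : b = 1 := by rw [h, one_mul] at hab; exact hab
      rw [h, hb]
    · have hb : b = -1 := by
        rw [h] at hab
        linear_combination -hab
      rw [h, hb, hn1, hn2, inv_inv]
  have hc2 : f 1 1 * f 1 1 = 1 := by
    have := hswap 1 1
    rw [mul_one, mul_one, hba] at this
    exact this
  have hc1 : f 1 1 = 1 := by
    rw [hc2, one_mul] at hc3
    exact hc3
  have hall : f t u = 1 := by
    rcases hK3 t with ht | ht | ht <;> rcases hK3 u with hu | hu | hu <;> rw [ht, hu] <;>
      simp only [hz1, hz2, hn1, hn2, hc1, inv_one]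
  rw [C.LC_iff, ← hfe]
  exact hall

end Cfsg.Agent.Helper7.Sq
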