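import Mathlib
import Cfsg.Agent.Helper7.SqD

set_option autoImplicit false
set_option linter.unusedSectionVars false
set_option linter.unusedVariables false

/-!
Central extensions of a group with elements `xb r t`: separation of two roots by elements of the torus, over
a field with an element whose square is not one or over a field of characteristic not two, and the
consequences for lifts of commuting root elements.
-/

namespace Cfsg.Agent.Helper7.Sq

open Cfsg Cfsg.Lie Cfsg.Agent.Helper7.Chev Cfsg.Agent.Helper7.St Cfsg.Agent.Helper7.Sc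

variable {D : ChevalleyDatum} {K : Type*} [Field K] {Γ E : Type*} [Group Γ] [Group E]
  {S : StD D K Γ}

/-- An element of `Hb` acts trivially on the root elements of `r` and not on those of `s`. -/
def Sep (S : StD D K Γ) (r s : ℕ) : Prop :=
  ∃ (h : Γ) (χ : ℕ → K), h ∈ S.Hb ∧ S.TorE h χ ∧ χ r = 1 ∧ χ s ≠ 1

theorem sep_of_sepQ (H : S.Hyp) {c : K} (hc0 : c ≠ 0) (hc1 : c ≠ 1) (hc2 : c ^ 2 ≠ 1) {r s : ℕ}
    (h : (tabOf D).sepQ r s = true) : Sep S r s := by
  unfold Tab.sepQ at h
  rw [List.any_eq_true] at h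
  obtain ⟨γ, _, hγ⟩ := h
  simp only [Bool.and_eq_true, decide_eq_true_eq] at hγ
  obtain ⟨⟨h1, h2⟩, h3⟩ := hγ
  refine ⟨S.hgam γ c, _, StD.hgam_mem_Hb γ hc0, H.torE_hgam γ hc0, ?_, ?_⟩
  · rw [h1, zpow_zero]
  · obtain ⟨m, hm⟩ : ∃ m : ℤ, m = (tabOf D).pairing γ s := ⟨_, rfl⟩
    rw [← hm] at h2 h3 ⊢
    have hcases : m = 1 ∨ m = -1 ∨ m = 2 ∨ m = -2 := by omega
    rcases hcases with rfl | rfl | rfl | rfl
    · rw [zpow_one]; exact hc1
    · rw [zpow_neg_one]
      intro hh
      exact hc1 (inv_eq_one.mp hh)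
    · intro hh
      apply hc2
      exact_mod_cast hh
    · intro hh
      apply hc2
      have : (c ^ (2 : ℤ))⁻¹ = 1 := by rw [← zpow_neg]; exact hh
      have := inv_eq_one.mp this
      exact_mod_cast this

theorem sep_of_sepP (H : S.Hyp) (hm1 : (-1 : K) ≠ 1) {r s : ℕ}
    (h : (tabOf D).sepP r s = true) : Sep S r s := by
  unfold Tab.sepP at h
  rw [List.any_eq_true] at h
  obtain ⟨γ, _, hγ⟩ := h
  simp only [Bool.and_eq_true, decide_eq_true_eq] at hγ
  obtain ⟨h1, h2⟩ := hγ
  have h0 : (-1 : K) ≠ 0 := neg_ne_zero.mpr one_ne_zero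
  refine ⟨S.hgam γ (-1), _, StD.hgam_mem_Hb γ h0, H.torE_hgam γ h0, ?_, ?_⟩
  · exact Even.neg_one_zpow (Int.even_iff.mpr h1)
  · rw [Odd.neg_one_zpow (Int.odd_iff.mpr h2)]
    exact hm1

/-- Lifts of root elements of two roots which commute by the commutator formula and are separated by an
element of `Hb` commute. -/
theorem lc_of_okB_sep (C : CExt E Γ) {r s : ℕ} (hr : r < D.nroots)
    (hok : (tabOf D).okB r s = true) (hsep : Sep S r s ∨ Sep S s r) (t u : K) :
    C.LC (S.xb r t) (S.xb s u) := by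
  unfold Tab.okB at hok
  simp only [Bool.and_eq_true, decide_eq_true_eq, List.isEmpty_iff] at hok
  obtain ⟨⟨⟨h1, h2⟩, h3⟩, h4⟩ := hok
  have hcomm := fun t u : K => Sc.Ctx.xb_comm_of_nil (S := S) hr h1 h2 h3 h4 t u
  rcases hsep with ⟨h, χ, _, hh, e1, e2⟩ | ⟨h, χ, _, hh, e1, e2⟩
  · exact lc_of_torus C hr h1 hcomm hh e1 e2 t u
  · exact (lc_of_torus C h1 hr (fun u t => (hcomm t u).symm) hh e1 e2 u t).symm

/-- Lifts of root elements of one root commute, when the root is a single commutator term of two roots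
commuting with it and separated from it. -/
theorem lc_self_of_appS (C : CExt E Γ) {r : ℕ} (hr : r < D.nroots)
    (happ : (tabOf D).appS r = true)
    (hsep : ∀ p, (tabOf D).okB r p = true → Sep S r p ∨ Sep S p r) (t u : K) :
    C.LC (S.xb r t) (S.xb r u) := by
  unfold Tab.appS at happ
  rw [List.any_eq_true] at happ
  obtain ⟨p, hp, happ⟩ := happ
  rw [List.any_eq_true] at happ
  obtain ⟨q, hq, happ⟩ := happ
  rw [List.mem_range] at hp hq
  have hn : (tabOf D).n = D.nroots := rfl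
  rw [hn] at hp hq
  rw [commTerms_eq] at happ
  rcases hct : D.commTerms p q with _ | ⟨c₁, _ | ⟨c₂, l⟩⟩
  · rw [hct] at happ; simp at happ
  · rw [hct] at happ
    simp only [Bool.and_eq_true, Bool.or_eq_true, decide_eq_true_eq] at happ
    obtain ⟨⟨hqp, hqn⟩, ⟨⟨⟨⟨⟨hc1r, hC⟩, hi1⟩, hi2⟩, ok1⟩, ok2⟩⟩ := happ
    obtain ⟨r', c, i, j⟩ := c₁
    simp only at hc1r hC hi1 hi2
    subst hc1r hi1 hi2
    have hc : ((c : ℤ) : K) ≠ 0 := by
      rcases hC with rfl | rfl <;> simp
    have hmem := xb_mem_closure_single (S := S) hp hq hr hqp hqn hct hc t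
    apply lc_of_mem_closure C _ hmem
    rintro y ⟨a, rfl | rfl⟩
    · exact (lc_of_okB_sep C hr ok1 (hsep p ok1) u a).symm
    · exact (lc_of_okB_sep C hr ok2 (hsep q ok2) u a).symm
  · rw [hct] at happ; simp at happ

end Cfsg.Agent.Helper7.Sq
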