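import Mathlib
import Cfsg.Agent.Helper7.SqT
import Cfsg.Agent.Helper7.StCertAll

set_option autoImplicit false

/-!
Table facts of `SqT` for the types D4 and F4.
-/

namespace Cfsg.Agent.Helper7.Chev

open Cfsg Cfsg.Lie

set_option maxRecDepth 1000000 in
set_option maxHeartbeats 0 in
theorem TQ1fast_D4 : fastD4.TQ1 := by decide +kernel

theorem TQ1_D4 : (tabOf chevD4).TQ1 := tab_D4 ▸ TQ1fast_D4

set_option maxRecDepth 1000000 in
set_option maxHeartbeats 0 in
theorem TQ1fast_F4 : fastF4.TQ1 := by decide +kernel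

theorem TQ1_F4 : (tabOf chevF4).TQ1 := tab_F4 ▸ TQ1fast_F4

set_option maxRecDepth 1000000 in
set_option maxHeartbeats 0 in
theorem TQ3fast_D4 : fastD4.TQ3 := by decide +kernel

theorem TQ3_D4 : (tabOf chevD4).TQ3 := tab_D4 ▸ TQ3fast_D4

set_option maxRecDepth 1000000 in
set_option maxHeartbeats 0 in
theorem TQ3fast_F4 : fastF4.TQ3 := by decide +kernel

theorem TQ3_F4 : (tabOf chevF4).TQ3 := tab_F4 ▸ TQ3fast_F4

set_option maxRecDepth 1000000 in
set_option maxHeartbeats 0 in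
theorem TQ4fast_D4 : fastD4.TQ4 := by decide +kernel

theorem TQ4_D4 : (tabOf chevD4).TQ4 := tab_D4 ▸ TQ4fast_D4

set_option maxRecDepth 1000000 in
set_option maxHeartbeats 0 in
theorem TQ4fast_F4 : fastF4.TQ4 := by decide +kernel

theorem TQ4_F4 : (tabOf chevF4).TQ4 := tab_F4 ▸ TQ4fast_F4

/-- Words interchanging the pairs of orthogonal positive roots of type D4. -/
def swapWordsD4 : List (List ℕ) := [[1, 3, 2, 1], [1, 3, 0, 1], [1, 2, 0, 1], [3, 2], [3, 0], [2, 0]]

set_option maxRecDepth 1000000 in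
set_option maxHeartbeats 0 in
theorem TQ5fast_D4 : fastD4.TQ5 swapWordsD4 := by decide +kernel

theorem TQ5_D4 : (tabOf chevD4).TQ5 swapWordsD4 := tab_D4 ▸ TQ5fast_D4

set_option maxRecDepth 1000000 in
set_option maxHeartbeats 0 in
theorem TQ5fast_F4 : fastF4.TQ5 [] := by decide +kernel

theorem TQ5_F4 : (tabOf chevF4).TQ5 [] := tab_F4 ▸ TQ5fast_F4

theorem TQ1_of_mem (D : ChevalleyDatum) (hD : D ∈ [chevD4, chevF4]) : (tabOf D).TQ1 := by
  simp only [List.mem_cons, List.not_mem_nil, or_false] at hD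
  rcases hD with rfl | rfl
  · exact TQ1_D4
  · exact TQ1_F4

theorem TQ3_of_mem (D : ChevalleyDatum) (hD : D ∈ [chevD4, chevF4]) : (tabOf D).TQ3 := by
  simp only [List.mem_cons, List.not_mem_nil, or_false] at hD
  rcases hD with rfl | rfl
  · exact TQ3_D4
  · exact TQ3_F4

theorem TQ4_of_mem (D : ChevalleyDatum) (hD : D ∈ [chevD4, chevF4]) : (tabOf D).TQ4 := by
  simp only [List.mem_cons, List.not_mem_nil, or_false] at hD
  rcases hD with rfl | rfl
  · exact TQ4_D4
  · exact TQ4_F4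

theorem TQ5_of_mem (D : ChevalleyDatum) (hD : D ∈ [chevD4, chevF4]) :
    ∃ wits, (tabOf D).TQ5 wits := by
  simp only [List.mem_cons, List.not_mem_nil, or_false] at hD
  rcases hD with rfl | rfl
  · exact ⟨_, TQ5_D4⟩
  · exact ⟨_, TQ5_F4⟩

end Cfsg.Agent.Helper7.Chev
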