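import Mathlib
import Cfsg.Agent.Helper7.SqE
import Cfsg.Agent.Helper7.SqTab

set_option autoImplicit false
set_option linter.unusedSectionVars false
set_option linter.unusedVariables false

/-!
Every central extension of the group presented by the relators (R1), (R2) of type D4 or F4 splits, over a
field with an element whose square is not one, and over a field with three elements.
-/

namespace Cfsg.Agent.Helper7.Sq

open Cfsg Cfsg.Lie Cfsg.Agent.Helper7.Chev Cfsg.Agent.Helper7.St Cfsg.Agent.Helper7.Sc

variable {D : ChevalleyDatum} {K : Type*} [Field K]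

theorem mem7_of_memDF (hD : D ∈ [chevD4, chevF4]) :
    D ∈ [chevG2, chevB2, chevD4, chevF4, chevE6, chevE7, chevE8] := by
  simp only [List.mem_cons, List.not_mem_nil, or_false] at hD ⊢
  rcases hD with rfl | rfl <;> simp

theorem not_small_of_memDF (hD : D ∈ [chevD4, chevF4]) : ¬ D ∈ [chevB2, chevG2] := by
  intro h
  have h1 : D.rank = 2 := by
    simp only [List.mem_cons, List.not_mem_nil, or_false] at h
    rcases h with rfl | rfl <;> rfl
  have h2 : D.rank = 4 := by
    simp only [List.mem_cons, List.not_mem_nil, or_false] at hD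
    rcases hD with rfl | rfl <;> rfl
  omega

theorem cover_perfect_DF (hD : D ∈ [chevD4, chevF4]) : commutator (D.SteinbergCover K) = ⊤ :=
  Cfsg.Agent.S2395.result D (mem7_of_memDF hD) (fun h => absurd h (not_small_of_memDF hD))

/-- A positive root `s` above the positive root `k` is not its negative. -/
theorem ne_neg_of_pos {Γ : Type*} [Group Γ] {S : StD D K Γ} (H : S.Hyp) {k s : ℕ}
    (hk1 : D.nroots / 2 ≤ k) (hk : k < D.nroots) (hks : k < s) : s ≠ D.neg k := by
  have := (H.h8.1 k hk).1
  change D.neg k = D.nroots - 1 - k at this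
  omega

/-- Every central extension of the presented group of type D4 or F4 splits, over a field with an element
whose square is not one. -/
theorem cover_splits_four (hD : D ∈ [chevD4, chevF4]) {c : K} (hc0 : c ≠ 0) (hc1 : c ≠ 1)
    (hc2 : c ^ 2 ≠ 1) {E : Type*} [Group E] (ψ : E →* D.SteinbergCover K)
    (hψ : Function.Surjective ψ) (hc : ψ.ker ≤ Subgroup.center E) :
    ∃ τ : D.SteinbergCover K →* E, ψ.comp τ = MonoidHom.id _ := by
  have hD7 := mem7_of_memDF hD
  have H := coverStd_hyp (K := K) hD7
  have hG1 := H.hG.toGood1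
  have tq1 := TQ1_of_mem D hD
  have tq3 := TQ3_of_mem D hD
  obtain ⟨C, hC⟩ : ∃ C : CExt E (D.SteinbergCover K), C = ⟨ψ, hψ, hc, cover_perfect_DF hD⟩ :=
    ⟨_, rfl⟩
  have hsepall : ∀ r s, r < D.nroots → s < D.nroots → s ≠ r → s ≠ D.neg r →
      Sep (coverStd (K := K) hD7) r s :=
    fun r s hr hs h1 h2 => sep_of_sepQ H hc0 hc1 hc2 (tq1 r hr s hs h1 h2)
  obtain ⟨X, hX⟩ : ∃ X : CtxT (coverStd (K := K) hD7) E, X.C = C := by
    refine ⟨{ C := C
              H := H
              h3 := (good3_of_mem D hD7).t3
              t7s := T7s_of_mem D hD7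
              orb := T29_of_mem D hD7
              exHR := ?_
              lcself := ?_
              stepT := ?_ }, rfl⟩
    · intro r hr
      refine ⟨(coverStd (K := K) hD7).hgam r c, _, StD.hgam_mem_Hb r hc0, H.torE_hgam r hc0, ?_⟩
      rw [hG1.pairing_self hr]
      intro hh
      apply hc2
      exact_mod_cast hh
    · intro r hr t u
      apply lc_self_of_appS C hr (tq3 r hr)
      intro p hok
      left
      unfold Tab.okB at hok
      simp only [Bool.and_eq_true, decide_eq_true_eq, List.isEmpty_iff] at hok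
      obtain ⟨⟨⟨h1, h2⟩, h3⟩, _⟩ := hok
      exact hsepall r p hr h1 h2 h3
    · intro k s hk1 hks hs
      left
      have hk : k < D.nroots := by omega
      exact hsepall k s hk hs (by omega) (ne_neg_of_pos H hk1 hk hks)
  obtain ⟨τ, hτ⟩ := splits_of_ctxT hD7 X
  rw [hX, hC] at hτ
  exact ⟨τ, hτ⟩

end Cfsg.Agent.Helper7.Sq
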