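import Mathlib
import Cfsg.Agent.Helper7.SqF

set_option autoImplicit false
set_option linter.unusedSectionVars false
set_option linter.unusedVariables false

/-!
Every central extension of the group presented by the relators (R1), (R2) of type D4 or F4 splits, over a
field with three elements.
-/

namespace Cfsg.Agent.Helper7.Sq

open Cfsg Cfsg.Lie Cfsg.Agent.Helper7.Chev Cfsg.Agent.Helper7.St Cfsg.Agent.Helper7.Sc

variable {D : ChevalleyDatum} {K : Type*} [Field K]

/-- Over a field with three elements, lifts of root elements of one root commute. -/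
theorem lc_self_of_three {Γ E : Type*} [Group Γ] [Group E] {S : StD D K Γ} (C : CExt E Γ)
    (hK3 : ∀ t : K, t = 0 ∨ t = 1 ∨ t = -1) {r : ℕ} (hr : r < D.nroots) (t u : K) :
    C.LC (S.xb r t) (S.xb r u) := by
  have hone : ∀ d : Γ, C.LC 1 d := fun d a b ha _ => C.ker_comm ha b
  have hself : ∀ d : Γ, C.LC d d := fun d => (C.LC_iff d d).mpr (C.cm_self d)
  have hinv : ∀ d : Γ, C.LC d⁻¹ d := fun d => (C.LCen d).inv_mem (hself d)
  by_cases ht : t = 0
  · rw [ht, S.xb_zero hr]; exact hone _
  by_cases hu : u = 0
  · rw [hu, S.xb_zero hr]; exact (hone _).symm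
  by_cases htu : t = u
  · rw [htu]; exact hself _
  · have : t = -u := by
      rcases hK3 t with h | h | h <;> rcases hK3 u with h' | h' | h' <;> simp_all
    rw [this, ← S.xb_inv hr]
    exact hinv _

/-- In a field with three elements, an integer prime to three is not zero. -/
theorem intCast_ne_zero_of_three (hK3 : ∀ t : K, t = 0 ∨ t = 1 ∨ t = -1) (h2 : (1 + 1 : K) ≠ 0)
    {c : ℤ} (hc : c % 3 ≠ 0) : ((c : ℤ) : K) ≠ 0 := by
  have h3 : (3 : K) = 0 := by
    rcases hK3 (1 + 1) with h | h | h
    · exact absurd h h2
    · exfalso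
      have : (1 : K) = 0 := by linear_combination h
      exact one_ne_zero this
    · linear_combination h
  have e : c = 3 * (c / 3) + c % 3 := (Int.mul_ediv_add_emod c 3).symm
  have hcases : c % 3 = 1 ∨ c % 3 = 2 := by omega
  rw [e]
  push_cast
  rw [h3, zero_mul, zero_add]
  rcases hcases with h | h
  · rw [h]; simp
  · rw [h]
    push_cast
    intro hh
    apply h2
    linear_combination hh

/-- Every central extension of the presented group of type D4 or F4 splits, over a field with three
elements. -/
theorem cover_splits_three (hD : D ∈ [chevD4, chevF4]) (hK3 : ∀ t : K, t = 0 ∨ t = 1 ∨ t = -1)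
    (h2 : (1 + 1 : K) ≠ 0) {E : Type*} [Group E] (ψ : E →* D.SteinbergCover K)
    (hψ : Function.Surjective ψ) (hc : ψ.ker ≤ Subgroup.center E) :
    ∃ τ : D.SteinbergCover K →* E, ψ.comp τ = MonoidHom.id _ := by
  have hD7 := mem7_of_memDF hD
  have H := coverStd_hyp (K := K) hD7
  have hG := H.hG
  have hG1 := H.hG.toGood1
  have tq4 := TQ4_of_mem D hD
  obtain ⟨wits, tq5⟩ := TQ5_of_mem D hD
  have hm1 : (-1 : K) ≠ 1 := by
    intro h
    apply h2
    linear_combination -h
  have hm0 : (-1 : K) ≠ 0 := neg_ne_zero.mpr one_ne_zero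
  obtain ⟨C, hC⟩ : ∃ C : CExt E (D.SteinbergCover K), C = ⟨ψ, hψ, hc, cover_perfect_DF hD⟩ :=
    ⟨_, rfl⟩
  obtain ⟨S, hS⟩ : ∃ S, S = coverStd (K := K) hD7 := ⟨_, rfl⟩
  rw [← hS] at H
  have hn : (tabOf D).n = D.nroots := rfl
  obtain ⟨X, hX⟩ : ∃ X : CtxT S E, X.C = C := by
    refine ⟨{ C := C
              H := H
              h3 := (good3_of_mem D hD7).t3
              t7s := T7s_of_mem D hD7
              orb := T29_of_mem D hD7
              exHR := ?_
              lcself := fun r hr t u => lc_self_of_three C hK3 hr t u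
              stepT := ?_ }, rfl⟩
    · intro r hr
      have h : (tabOf D).oddB r = true := tq4 r hr
      unfold Tab.oddB at h
      rw [List.any_eq_true] at h
      obtain ⟨γ, _, hγ⟩ := h
      rw [decide_eq_true_eq] at hγ
      refine ⟨S.hgam γ (-1), _, StD.hgam_mem_Hb γ hm0, H.torE_hgam γ hm0, ?_⟩
      rw [Odd.neg_one_zpow (Int.odd_iff.mpr hγ)]
      exact hm1
    · intro k s hk1 hks hs
      have hk : k < D.nroots := by omega
      have hsk : s ≠ k := by omega
      have hsn : s ≠ D.neg k := ne_neg_of_pos H hk1 hk hks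
      have h : ((tabOf D).sepP k s || ((tabOf D).commTerms k s).isEmpty &&
          ((tabOf D).excC k s || (tabOf D).excW wits k s)) = true := tq5 k hk hk1 s hs hks
      rw [Bool.or_eq_true] at h
      rcases h with h | h
      · exact Or.inl (sep_of_sepP H hm1 h)
      · right
        rw [Bool.and_eq_true, List.isEmpty_iff, commTerms_eq, Bool.or_eq_true] at h
        obtain ⟨hnil, h⟩ := h
        refine ⟨hnil, ?_⟩
        have hcomm := fun t u : K => Sc.Ctx.xb_comm_of_nil (S := S) hk hs hsk hsn hnil t u
        rcases h with h | h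
        · -- the root `s` is a commutator term
          unfold Tab.excC at h
          rw [List.any_eq_true] at h
          obtain ⟨p, hp, h⟩ := h
          rw [List.any_eq_true] at h
          obtain ⟨q, hq, h⟩ := h
          rw [List.mem_range, hn] at hp hq
          rw [commTerms_eq] at h
          rcases hct : D.commTerms p q with _ | ⟨c₁, _ | ⟨c₂, l⟩⟩
          · rw [hct] at h; simp at h
          · rw [hct] at h
            simp only [Bool.and_eq_true, Bool.or_eq_true, decide_eq_true_eq] at h
            obtain ⟨⟨hqp, hqn⟩, ⟨⟨⟨⟨⟨⟨⟨hc1s, hC⟩, hi1⟩, hi2⟩, ok1⟩, ok2⟩, sp⟩, sq⟩⟩ := h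
            obtain ⟨s', c, i, j⟩ := c₁
            simp only at hc1s hC hi1 hi2
            subst hc1s hi1 hi2
            have hcK : ((c : ℤ) : K) ≠ 0 := intCast_ne_zero_of_three hK3 h2 hC
            intro t u
            have hmem := xb_mem_closure_single (S := S) hp hq hs hqp hqn hct hcK u
            apply CExt.LC.symm
            apply lc_of_mem_closure C _ hmem
            rintro y ⟨a, rfl | rfl⟩
            · apply CExt.LC.symm
              apply lc_of_okB_sep C hk ok1
              rcases sp with sp | sp
              · exact Or.inl (sep_of_sepP H hm1 sp)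
              · exact Or.inr (sep_of_sepP H hm1 sp)
            · apply CExt.LC.symm
              apply lc_of_okB_sep C hk ok2
              rcases sq with sq | sq
              · exact Or.inl (sep_of_sepP H hm1 sq)
              · exact Or.inr (sep_of_sepP H hm1 sq)
          · rw [hct] at h; simp at h
        · -- a word interchanges the two roots
          unfold Tab.excW at h
          rw [List.any_eq_true] at h
          obtain ⟨w, _, h⟩ := h
          simp only [Bool.and_eq_true, decide_eq_true_eq, List.all_eq_true] at h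
          obtain ⟨⟨⟨hw, hwk⟩, hws⟩, hsign⟩ := h
          have hw' : ∀ i ∈ w, i < D.rank := hw
          obtain ⟨_, hM⟩ := monE_nw (S := S) H w hw'
          obtain ⟨_, _, hMk⟩ := hM k hk
          obtain ⟨_, _, hMs⟩ := hM s hs
          rw [hwk] at hMk
          rw [hws] at hMs
          intro t u
          apply lc_of_swap C hK3 h2 hk hs hcomm hMk hMs
          rw [← Int.cast_mul, hsign, Int.cast_one]
  obtain ⟨τ, hτ⟩ := splits_of_ctxT hD7 (hS ▸ X)
  have e : (hS ▸ X).C.ψ = ψ := by
    subst hS
    rw [hX, hC]
  rw [e] at hτ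
  exact ⟨τ, hτ⟩

end Cfsg.Agent.Helper7.Sq
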