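import Mathlib
import Cfsg.Agent.Helper7.SqG
import Cfsg.Agent.Helper7.ScX
import Cfsg.Agent.Helper7.StS

set_option autoImplicit false
set_option linter.unusedSectionVars false
set_option linter.unusedVariables false

/-!
Every central extension of the group presented by the relators (R1), (R2) of type D4 or F4 over a finite
field with at least three elements splits; unique lifts to central extensions; finiteness of a perfect group
with a central subgroup of finite index; and the trivial Schur multiplier from an isomorphism.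
-/

namespace Cfsg.Agent.Helper7.Sq

open Cfsg Cfsg.Lie Cfsg.Agent.Helper7.Chev Cfsg.Agent.Helper7.St Cfsg.Agent.Helper7.Sc

universe u

variable {D : ChevalleyDatum} {K : Type*} [Field K]

/-- A finite field with at least four elements has an element whose square is not one. -/
theorem exists_sq_ne_one [Fintype K] (hK : 4 ≤ Fintype.card K) :
    ∃ c : K, c ≠ 0 ∧ c ≠ 1 ∧ c ^ 2 ≠ 1 := by
  classical
  by_contra hcon
  push_neg at hcon
  have hsub : (Finset.univ : Finset K) ⊆ {0, 1, -1} := by
    intro x _
    simp only [Finset.mem_insert, Finset.mem_singleton]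
    by_cases hx0 : x = 0
    · left; exact hx0
    by_cases hx1 : x = 1
    · right; left; exact hx1
    · right; right
      rcases sq_eq_one_iff.mp (hcon x hx0 hx1) with h | h
      · exact absurd h hx1
      · exact h
  have := Finset.card_le_card hsub
  have h3 : ({0, 1, -1} : Finset K).card ≤ 3 := Finset.card_le_three
  rw [Finset.card_univ] at this
  omega

/-- The elements of a field with three elements. -/
theorem three_facts [Fintype K] (hK : Fintype.card K = 3) :
    (∀ t : K, t = 0 ∨ t = 1 ∨ t = -1) ∧ (1 + 1 : K) ≠ 0 := by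
  classical
  have h3 : (3 : K) = 0 := by
    have := card_nsmul_eq_zero (G := K) (x := 1)
    rw [hK] at this
    simpa using this
  have h2 : (1 + 1 : K) ≠ 0 := by
    intro h
    have : (1 : K) = 0 := by linear_combination h3 - h
    exact one_ne_zero this
  refine ⟨?_, h2⟩
  have hm1 : (-1 : K) ≠ 1 := by
    intro h
    apply h2
    linear_combination -h
  have hcard : ({0, 1, -1} : Finset K).card = 3 := by
    rw [Finset.card_insert_of_notMem, Finset.card_insert_of_notMem, Finset.card_singleton]
    · rw [Finset.mem_singleton]; exact hm1.symm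
    · simp only [Finset.mem_insert, Finset.mem_singleton, not_or]
      exact ⟨zero_ne_one, (neg_ne_zero.mpr one_ne_zero).symm⟩
  have huniv : ({0, 1, -1} : Finset K) = Finset.univ := by
    apply Finset.eq_univ_of_card
    rw [hcard, hK]
  intro t
  have : t ∈ ({0, 1, -1} : Finset K) := by rw [huniv]; exact Finset.mem_univ t
  simpa using this

/-- Every central extension of the presented group of type D4 or F4 over a finite field with at least three
elements splits. -/
theorem cover_splits_DF [Fintype K] (hD : D ∈ [chevD4, chevF4]) (hK : 3 ≤ Fintype.card K)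
    {E : Type*} [Group E] (ψ : E →* D.SteinbergCover K) (hψ : Function.Surjective ψ)
    (hc : ψ.ker ≤ Subgroup.center E) :
    ∃ τ : D.SteinbergCover K →* E, ψ.comp τ = MonoidHom.id _ := by
  by_cases h3 : Fintype.card K = 3
  · obtain ⟨hK3, h2⟩ := three_facts h3
    exact cover_splits_three hD hK3 h2 ψ hψ hc
  · obtain ⟨c, hc0, hc1, hc2⟩ := exists_sq_ne_one (K := K) (by omega)
    exact cover_splits_four hD hc0 hc1 hc2 ψ hψ hc

/-- Unique lifts from the presented group of type D4 or F4 over a finite field with at least three elements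
to central extensions. -/
theorem lift_unique_DF [Fintype K] (hD : D ∈ [chevD4, chevF4]) (hK : 3 ≤ Fintype.card K)
    {G₁ E : Type*} [Group G₁] [Group E] (π₁ : E →* G₁) (hπ : Function.Surjective π₁)
    (hc : π₁.ker ≤ Subgroup.center E) (σ : D.SteinbergCover K →* G₁) :
    ∃! τ : D.SteinbergCover K →* E, π₁.comp τ = σ :=
  exists_unique_lift (cover_perfect_DF hD) π₁ hπ hc σ
    (fun _ ψ h1 h2 => cover_splits_DF hD hK ψ h1 h2)

/-- A perfect group with a central subgroup of finite index is finite. -/
theorem finite_of_perfect_of_central {Δ : Type*} [Group Δ] (hperf : commutator Δ = ⊤)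
    (N : Subgroup Δ) [N.FiniteIndex] (hN : N ≤ Subgroup.center Δ) : Finite Δ := by
  classical
  have : N.Normal := by
    constructor
    intro n hn g
    have := Subgroup.mem_center_iff.mp (hN hn) g
    have e : g * n * g⁻¹ = n := by rw [this]; group
    rw [e]; exact hn
  have : Finite (Δ ⧸ N) := Subgroup.finite_quotient_of_finiteIndex
  -- commutators depend only on the cosets
  obtain ⟨o, ho⟩ : ∃ o : Δ ⧸ N → Δ, ∀ a : Δ, (o (a : Δ ⧸ N))⁻¹ * a ∈ N := by
    refine ⟨fun q => Quotient.out q, fun a => ?_⟩
    rw [← QuotientGroup.eq]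
    exact QuotientGroup.out_eq' _
  have hsurj : ∀ x : commutatorSet Δ, ∃ p : (Δ ⧸ N) × (Δ ⧸ N),
      o p.1 * o p.2 * (o p.1)⁻¹ * (o p.2)⁻¹ = x.1 := by
    rintro ⟨x, hx⟩
    obtain ⟨a, b, rfl⟩ := mem_commutatorSet_iff.mp hx
    refine ⟨((a : Δ ⧸ N), (b : Δ ⧸ N)), ?_⟩
    have ha := ho a
    have hb := ho b
    obtain ⟨a', ha'⟩ : ∃ a', a' = o (a : Δ ⧸ N) := ⟨_, rfl⟩
    obtain ⟨b', hb'⟩ : ∃ b', b' = o (b : Δ ⧸ N) := ⟨_, rfl⟩
    rw [← ha'] at ha
    rw [← hb'] at hb
    have hza : ∀ x : Δ, a'⁻¹ * a * x = x * (a'⁻¹ * a) :=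
      fun x => (Subgroup.mem_center_iff.mp (hN ha) x).symm
    have hzb : ∀ x : Δ, b'⁻¹ * b * x = x * (b'⁻¹ * b) :=
      fun x => (Subgroup.mem_center_iff.mp (hN hb) x).symm
    have ea : a = a' * (a'⁻¹ * a) := by group
    have eb : b = b' * (b'⁻¹ * b) := by group
    change o (a : Δ ⧸ N) * o (b : Δ ⧸ N) * (o (a : Δ ⧸ N))⁻¹ * (o (b : Δ ⧸ N))⁻¹ =
      a * b * a⁻¹ * b⁻¹
    rw [← ha', ← hb']
    conv_rhs => rw [ea, eb]
    exact (CExt.comm_central_mul hza hzb).symm
  have hmem : ∀ p : (Δ ⧸ N) × (Δ ⧸ N),
      o p.1 * o p.2 * (o p.1)⁻¹ * (o p.2)⁻¹ ∈ commutatorSet Δ :=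
    fun p => mem_commutatorSet_iff.mpr ⟨o p.1, o p.2, rfl⟩
  have : Finite (commutatorSet Δ) := by
    have : Function.Surjective (fun p : (Δ ⧸ N) × (Δ ⧸ N) =>
        (⟨o p.1 * o p.2 * (o p.1)⁻¹ * (o p.2)⁻¹, hmem p⟩ : commutatorSet Δ)) := by
      intro x
      obtain ⟨p, hp⟩ := hsurj x
      exact ⟨p, Subtype.ext hp⟩
    exact Finite.of_surjective _ this
  have hfin : Finite (commutator Δ) := inferInstance
  rw [hperf] at hfin
  exact Finite.of_equiv _ Subgroup.topEquiv.toEquiv

/-- The Schur multiplier of a group isomorphic to a finite perfect group all of whose central extensions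
are reached from it is trivial. -/
theorem schur_one_of_iso {G Δ : Type u} [Group G] [Group Δ] [Finite Δ] (θ : Δ →* G)
    (hθs : Function.Surjective θ) (hθi : Function.Injective θ) (hperf : commutator Δ = ⊤)
    (hlift : ∀ (Γ : Type u) [Group Γ] (σ : Γ →* G), Function.Surjective σ →
      σ.ker ≤ Subgroup.center Γ → ∃ τ : Δ →* Γ, σ.comp τ = θ) :
    Cfsg.HasCyclicSchurMultiplier G 1 := by
  have hker : θ.ker = ⊥ := (MonoidHom.ker_eq_bot_iff θ).mpr hθi
  have hθc : θ.ker ≤ Subgroup.center Δ := by rw [hker]; exact bot_le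
  have : Unique ↥θ.ker := by
    rw [hker]
    infer_instance
  have : Unique (Multiplicative (ZMod 1)) :=
    { default := 1, uniq := fun a => Subsingleton.elim (α := ZMod 1) _ _ }
  exact schur_of_universal θ hθs hθc hperf hlift (MulEquiv.ofUnique)

end Cfsg.Agent.Helper7.Sq
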