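import Mathlib
import Cfsg.Agent.Helper7.NilRkA

set_option autoImplicit false
set_option linter.unusedSectionVars false

/-! The model nilpotent operator with prescribed Jordan block sizes, and the ranks of its powers
(helper7). -/

namespace Cfsg.Agent.Helper7.NilRk

open Module

variable {F : Type*} [Field F]

/-- functions supported on a set of indices. -/
def suppOn {ι : Type*} (S : Set ι) : Submodule F (ι → F) where
  carrier := {v | ∀ x, x ∉ S → v x = 0}
  add_mem' := by
    intro v w hv hw x hx
    rw [Pi.add_apply, hv x hx, hw x hx, add_zero]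
  zero_mem' := fun _ _ => rfl
  smul_mem' := by
    intro c v hv x hx
    rw [Pi.smul_apply, hv x hx, smul_zero]

theorem mem_suppOn {ι : Type*} {S : Set ι} {v : ι → F} :
    v ∈ suppOn (F := F) S ↔ ∀ x, x ∉ S → v x = 0 := Iff.rfl

theorem finrank_suppOn {ι : Type*} [Fintype ι] [DecidableEq ι] (S : Finset ι) :
    finrank F (suppOn (F := F) (S : Set ι)) = S.card := by
  have e : suppOn (F := F) (S : Set ι) ≃ₗ[F] (S → F) :=
    { toFun := fun v s => v.1 s.1
      map_add' := fun _ _ => rfl
      map_smul' := fun _ _ => rfl
      invFun := fun u => ⟨fun x => if h : x ∈ S then u ⟨x, h⟩ else 0, by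
        intro x hx
        have hx' : x ∉ S := hx
        show (if h : x ∈ S then u ⟨x, h⟩ else 0) = 0
        rw [dif_neg hx']⟩
      left_inv := by
        intro v
        apply Subtype.ext
        funext x
        by_cases h : x ∈ S
        · simp only [dif_pos h]
        · simp only [dif_neg h]
          exact (v.2 x h).symm
      right_inv := by
        intro u
        funext s
        simp only [dif_pos s.2] }
  rw [LinearEquiv.finrank_eq e, Module.finrank_fintype_fun_eq_card, Fintype.card_coe]

variable {l : ℕ} (b : Fin l → ℕ)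

/-- the index type: pairs (block, position). -/
abbrev Idx (b : Fin l → ℕ) : Type := Σ i : Fin l, Fin (b i)

/-- the shift operator: a nilpotent operator with Jordan blocks of sizes `b i`. -/
def shift : (Idx b → F) →ₗ[F] (Idx b → F) where
  toFun v := fun x => if h : x.2.val + 1 < b x.1 then v ⟨x.1, ⟨x.2.val + 1, h⟩⟩ else 0
  map_add' := by
    intro v w
    funext x
    by_cases h : x.2.val + 1 < b x.1
    · simp only [dif_pos h, Pi.add_apply]
    · simp only [dif_neg h, Pi.add_apply, add_zero]
  map_smul' := by
    intro c v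
    funext x
    by_cases h : x.2.val + 1 < b x.1
    · simp only [dif_pos h, Pi.smul_apply, RingHom.id_apply]
    · simp only [dif_neg h, Pi.smul_apply, RingHom.id_apply, smul_zero]

theorem shift_apply (v : Idx b → F) (x : Idx b) :
    shift b v x = if h : x.2.val + 1 < b x.1 then v ⟨x.1, ⟨x.2.val + 1, h⟩⟩ else 0 := rfl

theorem shift_pow_apply (j : ℕ) (v : Idx b → F) (x : Idx b) :
    ((shift (F := F) b) ^ j) v x =
      if h : x.2.val + j < b x.1 then v ⟨x.1, ⟨x.2.val + j, h⟩⟩ else 0 := by
  induction j generalizing v with
  | zero =>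
    rw [pow_zero, Module.End.one_apply, dif_pos (by simp)]
    rfl
  | succ j ih =>
    rw [pow_succ, Module.End.mul_apply, ih]
    by_cases h : x.2.val + j < b x.1
    · rw [dif_pos h, shift_apply]
      by_cases h' : x.2.val + (j + 1) < b x.1
      · rw [dif_pos h', dif_pos (by simpa [add_assoc] using h')]
        rfl
      · rw [dif_neg h', dif_neg (by simpa [add_assoc] using h')]
    · rw [dif_neg h, dif_neg (by omega)]

/-- the indices in the range of the `j`-th power. -/
def rangeIdx (j : ℕ) : Finset (Idx b) := Finset.univ.filter (fun x => x.2.val + j < b x.1)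

theorem range_shift_pow (j : ℕ) :
    LinearMap.range ((shift (F := F) b) ^ j) = suppOn (F := F) (rangeIdx b j : Set (Idx b)) := by
  ext w
  constructor
  · rintro ⟨v, rfl⟩
    intro x hx
    have hx' : ¬ x.2.val + j < b x.1 := by
      intro h
      apply hx
      simp only [rangeIdx, Finset.coe_filter, Finset.mem_univ, true_and, Set.mem_ofPred_eq]
      exact h
    rw [shift_pow_apply, dif_neg hx']
  · intro hw
    refine ⟨fun x => if h : j ≤ x.2.val then w ⟨x.1, ⟨x.2.val - j, by have := x.2.2; omega⟩⟩ else 0, ?_⟩
    funext x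
    rw [shift_pow_apply]
    by_cases h : x.2.val + j < b x.1
    · rw [dif_pos h]
      simp only [dif_pos (Nat.le_add_left j x.2.val), Nat.add_sub_cancel]
    · rw [dif_neg h]
      symm
      apply hw
      simp only [rangeIdx, Finset.coe_filter, Finset.mem_univ, true_and, Set.mem_ofPred_eq]
      exact h

theorem card_rangeIdx (j : ℕ) : (rangeIdx b j).card = ∑ i, (b i - j) := by
  have h1 : rangeIdx b j = Finset.univ.sigma
      (fun i => Finset.univ.filter (fun a : Fin (b i) => a.val + j < b i)) := by
    ext x
    simp only [rangeIdx, Finset.mem_filter, Finset.mem_univ, true_and, Finset.mem_sigma]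
  rw [h1, Finset.card_sigma]
  apply Finset.sum_congr rfl
  intro i _
  have h2 : (Finset.univ.filter (fun a : Fin (b i) => a.val + j < b i)) =
      Finset.univ.filter (fun a : Fin (b i) => a.val < b i - j) := by
    ext a
    simp only [Finset.mem_filter, Finset.mem_univ, true_and]
    omega
  rw [h2, Fin.card_filter_val_lt]
  omega

/-- the ranks of the powers of the shift operator. -/
theorem rk_shift (j : ℕ) : rk (shift (F := F) b) ⊤ j = ∑ i, (b i - j) := by
  unfold rk
  rw [Submodule.map_top, range_shift_pow, finrank_suppOn, card_rangeIdx]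

/-- the number of blocks of size `k + 1` of the shift operator. -/
theorem cntS_shift (k : ℕ) :
    cntS (shift (F := F) b) ⊤ k = (Finset.univ.filter (fun i => b i = k + 1)).card := by
  unfold cntS
  rw [rk_shift, rk_shift, rk_shift, Finset.card_filter]
  have h : ∑ i, (b i - k) + ∑ i, (b i - (k + 2)) =
      2 * ∑ i, (b i - (k + 1)) + ∑ i, (if b i = k + 1 then 1 else 0) := by
    rw [Finset.mul_sum, ← Finset.sum_add_distrib, ← Finset.sum_add_distrib]
    apply Finset.sum_congr rfl
    intro i _
    split_ifs with h <;> omega
  omega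

theorem shift_pow_eq_zero (p : ℕ) (hb : ∀ i, b i ≤ p) : (shift (F := F) b) ^ p = 0 := by
  apply LinearMap.ext
  intro v
  funext x
  rw [shift_pow_apply, dif_neg (by have := hb x.1; omega)]
  rfl

theorem shift_ne_zero (i : Fin l) (hi : 2 ≤ b i) : shift (F := F) b ≠ 0 := by
  intro h
  have h1 := congrFun (LinearMap.congr_fun h
    (fun x => if x = (⟨i, ⟨1, hi⟩⟩ : Idx b) then (1 : F) else 0)) (⟨i, ⟨0, by omega⟩⟩ : Idx b)
  rw [shift_apply, dif_pos (by show 0 + 1 < b i; omega)] at h1
  simp at h1

end Cfsg.Agent.Helper7.NilRk
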