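import Mathlib
import Cfsg.Agent.Helper7.NilRkB

set_option autoImplicit false
set_option linter.unusedSectionVars false

/-! A unipotent element of `SL_n(F)` with prescribed Jordan block sizes (helper7). -/

namespace Cfsg.Agent.Helper7.NilRk

open Module Matrix

variable {F : Type*} [Field F]

/-- every multiset of naturals is the family of values of a function on `Fin l`. -/
theorem exists_fin_family (μ : Multiset ℕ) :
    ∃ (l : ℕ) (b : Fin l → ℕ), μ = Finset.univ.val.map b := by
  refine ⟨μ.toList.length, μ.toList.get, ?_⟩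
  rw [Fin.univ_val_map, List.ofFn_get, Multiset.coe_toList]

theorem count_family {l : ℕ} (b : Fin l → ℕ) (k : ℕ) :
    (Finset.univ.val.map b).count k = (Finset.univ.filter (fun i => b i = k)).card := by
  rw [Multiset.count_map, Finset.card_def, Finset.filter_val]
  congr 1
  apply Multiset.filter_congr
  intro i _
  exact eq_comm

theorem sum_family {l : ℕ} (b : Fin l → ℕ) : (Finset.univ.val.map b).sum = ∑ i, b i :=
  (Finset.sum_eq_multiset_sum Finset.univ b).symm

variable {p : ℕ} [hp : Fact p.Prime] [CharP F p]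

/-- a unipotent element with prescribed block sizes. -/
theorem exists_model (n : ℕ) (μ : Multiset ℕ) (hμ : ∀ b ∈ μ, 0 < b ∧ b ≤ p) (hsum : μ.sum = n)
    (hne : ∃ b ∈ μ, 2 ≤ b) :
    ∃ (x : SpecialLinearGroup (Fin n) F) (N' : Module.End F (Fin n → F)),
      Matrix.toLin' (x : Matrix (Fin n) (Fin n) F) = 1 + N' ∧ N' ^ p = 0 ∧
      (x : Matrix (Fin n) (Fin n) F) ^ p = 1 ∧
      (∀ z : F, (x : Matrix (Fin n) (Fin n) F) ≠ z • (1 : Matrix (Fin n) (Fin n) F)) ∧
      (∀ k, cntS N' ⊤ k = μ.count (k + 1)) ∧ rk N' ⊤ (p - 1) = μ.count p := by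
  obtain ⟨l, b, rfl⟩ := exists_fin_family μ
  have hb : ∀ i, 0 < b i ∧ b i ≤ p := fun i =>
    hμ (b i) (Multiset.mem_map_of_mem b (Finset.mem_univ_val i))
  rw [sum_family] at hsum
  have hcard : Fintype.card (Idx b) = n := by
    rw [Fintype.card_sigma, ← hsum]
    apply Finset.sum_congr rfl
    intro i _
    exact Fintype.card_fin (b i)
  obtain ⟨e⟩ : Nonempty (Fin n ≃ Idx b) := ⟨(Fintype.equivFinOfCardEq hcard).symm⟩
  obtain ⟨Φ, hΦ⟩ : ∃ Φ : (Idx b → F) ≃ₗ[F] (Fin n → F), Φ = LinearEquiv.funCongrLeft F F e := ⟨_, rfl⟩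
  obtain ⟨N', hN'⟩ : ∃ N' : Module.End F (Fin n → F), N' = Φ.conj (shift (F := F) b) := ⟨_, rfl⟩
  have hconj : ∀ v, N' (Φ v) = Φ (shift b v) := by
    intro v
    rw [hN', LinearEquiv.conj_apply]
    simp
  have hpow : ∀ (j : ℕ) (v : Idx b → F), (N' ^ j) (Φ v) = Φ (((shift b) ^ j) v) := by
    intro j
    induction j with
    | zero => intro v; simp
    | succ j ih =>
      intro v
      rw [pow_succ, pow_succ, Module.End.mul_apply, Module.End.mul_apply, hconj, ih]
  have hNp : N' ^ p = 0 := by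
    apply LinearMap.ext
    intro w
    have h1 := hpow p (Φ.symm w)
    rw [LinearEquiv.apply_symm_apply, shift_pow_eq_zero b p (fun i => (hb i).2)] at h1
    rw [h1]
    simp
  -- ranks
  have htop : (⊤ : Submodule F (Idx b → F)).map (Φ : (Idx b → F) →ₗ[F] (Fin n → F)) = ⊤ := by
    rw [Submodule.map_top, LinearEquiv.range]
  have hrk : ∀ j, rk N' ⊤ j = rk (shift (F := F) b) ⊤ j := by
    intro j
    rw [← htop]
    exact rk_conj Φ (shift b) N' hconj ⊤ j
  have hcnt : ∀ k, cntS N' ⊤ k = (Finset.univ.val.map b).count (k + 1) := by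
    intro k
    rw [count_family, ← cntS_shift (F := F)]
    unfold cntS
    rw [hrk, hrk, hrk]
  have hrkp : rk N' ⊤ (p - 1) = (Finset.univ.val.map b).count p := by
    rw [hrk, rk_shift, count_family, Finset.card_filter]
    apply Finset.sum_congr rfl
    intro i _
    have := hb i
    have hp2 := hp.out.two_le
    split_ifs with h <;> omega
  -- the matrix
  obtain ⟨M, hM⟩ : ∃ M : Matrix (Fin n) (Fin n) F, M = LinearMap.toMatrix' (1 + N') := ⟨_, rfl⟩
  have hMlin : Matrix.toLin' M = 1 + N' := by rw [hM, Matrix.toLin'_toMatrix']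
  have hMN : M = 1 + LinearMap.toMatrix' N' := by
    rw [hM, map_add, LinearMap.toMatrix'_one]
  have hNmp : (LinearMap.toMatrix' N') ^ p = 0 := by
    have h1 : ∀ j : ℕ, (LinearMap.toMatrix' N') ^ j = LinearMap.toMatrix' (N' ^ j) := by
      intro j
      induction j with
      | zero => rw [pow_zero, pow_zero, LinearMap.toMatrix'_one]
      | succ j ih => rw [pow_succ, pow_succ, LinearMap.toMatrix'_mul, ih]
    rw [h1, hNp, map_zero]
  have hp0 : 0 < p := hp.out.pos
  have hn0 : 0 < n := by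
    obtain ⟨c, hc, hc2⟩ := hne
    obtain ⟨i, -, rfl⟩ := Multiset.mem_map.mp hc
    rw [← hsum]
    have : b i ≤ ∑ i, b i := Finset.single_le_sum (f := b) (fun _ _ => Nat.zero_le _) (Finset.mem_univ i)
    omega
  have : Nonempty (Fin n) := ⟨⟨0, hn0⟩⟩
  have hMp : M ^ p = 1 := by
    rw [hMN, add_pow_char_of_commute p (Commute.one_left _), one_pow, hNmp, add_zero]
  have hdet : M.det = 1 := by
    have h1 : M.det ^ p = 1 ^ p := by rw [← det_pow, hMp, det_one, one_pow]
    exact frobenius_inj F p h1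
  refine ⟨⟨M, hdet⟩, N', hMlin, hNp, hMp, ?_, hcnt, hrkp⟩
  intro z hz
  have hz' : M = z • (1 : Matrix (Fin n) (Fin n) F) := hz
  -- `N'` is a nilpotent scalar, hence zero
  have h1 : LinearMap.toMatrix' N' = (z - 1) • (1 : Matrix (Fin n) (Fin n) F) := by
    have : LinearMap.toMatrix' N' = M - 1 := by rw [hMN]; abel
    rw [this, hz', sub_smul, one_smul]
  have h2 : (z - 1) ^ p = 0 := by
    have h3 := hNmp
    rw [h1, smul_pow, one_pow] at h3
    have h4 := congrFun (congrFun h3 ⟨0, hn0⟩) ⟨0, hn0⟩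
    rw [Matrix.smul_apply, one_apply_eq, smul_eq_mul, mul_one, Matrix.zero_apply] at h4
    exact h4
  have h5 : z - 1 = 0 := pow_eq_zero_iff (hp.out.ne_zero) |>.mp h2
  rw [h5, zero_smul] at h1
  have h6 : N' = 0 := by
    apply LinearMap.toMatrix'.injective
    rw [h1, map_zero]
  obtain ⟨c, hc, hc2⟩ := hne
  obtain ⟨i, -, rfl⟩ := Multiset.mem_map.mp hc
  apply shift_ne_zero (F := F) b i hc2
  apply LinearMap.ext
  intro v
  have h7 := hconj v
  rw [h6, LinearMap.zero_apply] at h7
  have h8 : shift b v = 0 := Φ.map_eq_zero_iff.mp h7.symm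
  rw [h8]
  rfl

end Cfsg.Agent.Helper7.NilRk
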