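import Mathlib
import Cfsg.Agent.Helper7.POrdA

set_option autoImplicit false
set_option linter.unusedSectionVars false
set_option linter.unusedVariables false

/-!
Counting the pairs of complementary subspaces.
-/

namespace Cfsg.Agent.Helper7.POrd

open Module

variable {F : Type*} [Field F] {V : Type*} [AddCommGroup V] [Module F V]

/-- the projections onto `U` are the linear maps from a fixed complement to `U`. -/
noncomputable def projEquiv {U Q₀ : Submodule F V} (h₀ : IsCompl U Q₀) :
    {f : V →ₗ[F] ↥U // ∀ x : ↥U, f x = x} ≃ (↥Q₀ →ₗ[F] ↥U) where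
  toFun f := f.1 ∘ₗ Q₀.subtype
  invFun ψ := ⟨LinearMap.ofIsCompl h₀ LinearMap.id ψ, fun x => by
    rw [LinearMap.ofIsCompl_apply_left]
    rfl⟩
  left_inv f := by
    apply Subtype.ext
    apply LinearMap.ofIsCompl_eq
    · intro u
      rw [f.2 u]
      rfl
    · intro u
      rfl
  right_inv ψ := by
    apply LinearMap.ext
    intro v
    show LinearMap.ofIsCompl h₀ LinearMap.id ψ (v : V) = ψ v
    rw [LinearMap.ofIsCompl_apply_right]

/-- **the number of complements of a subspace.** -/
theorem card_compl [Fintype F] [Finite V] (U : Submodule F V) :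
    Nat.card {Q : Submodule F V // IsCompl U Q} =
      Fintype.card F ^ ((finrank F V - finrank F ↥U) * finrank F ↥U) := by
  have hfd : FiniteDimensional F V := Module.Finite.of_finite
  obtain ⟨Q₀, h₀⟩ := Submodule.exists_isCompl U
  have hQ : finrank F ↥Q₀ = finrank F V - finrank F ↥U := by
    have := Submodule.finrank_add_eq_of_isCompl h₀
    omega
  rw [Nat.card_congr (Submodule.isComplEquivProj U), Nat.card_congr (projEquiv h₀),
    Module.natCard_eq_pow_finrank (K := F), Module.finrank_linearMap, hQ, Nat.card_eq_fintype_card]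

/-- the type of pairs of complementary subspaces, the first of dimension `m`. -/
abbrev CPair (F : Type*) [Field F] (V : Type*) [AddCommGroup V] [Module F V] (m : ℕ) : Type _ :=
  {P : Submodule F V × Submodule F V // IsCompl P.1 P.2 ∧ finrank F ↥P.1 = m}

/-- the first member of a pair. -/
def cpairFst (m : ℕ) (P : CPair F V m) : Sub F V m := ⟨P.1.1, P.2.2⟩

/-- the pairs over `U` are the complements of `U`. -/
def cpairFibre (m : ℕ) (U : Sub F V m) :
    {P : CPair F V m // cpairFst m P = U} ≃ {Q : Submodule F V // IsCompl U.1 Q} where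
  toFun P := ⟨P.1.1.2, by
    have h : P.1.1.1 = U.1 := congrArg Subtype.val P.2
    exact h ▸ P.1.2.1⟩
  invFun Q := ⟨⟨(U.1, Q.1), Q.2, U.2⟩, by apply Subtype.ext; rfl⟩
  left_inv P := by
    have h : P.1.1.1 = U.1 := congrArg Subtype.val P.2
    apply Subtype.ext
    apply Subtype.ext
    exact Prod.ext h.symm rfl
  right_inv Q := rfl

/-- **the number of complementary pairs.** -/
theorem card_cpair [Fintype F] [Finite V] (m : ℕ) :
    Nat.card (CPair F V m) = Nat.card (Sub F V m) * Fintype.card F ^ ((finrank F V - m) * m) := by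
  classical
  letI : Fintype (Sub F V m) := Fintype.ofFinite _
  rw [Nat.card_congr (Equiv.sigmaFiberEquiv (cpairFst (F := F) (V := V) m)).symm, Nat.card_sigma]
  have h : ∀ U : Sub F V m, Nat.card {P : CPair F V m // cpairFst m P = U} =
      Fintype.card F ^ ((finrank F V - m) * m) := by
    intro U
    rw [Nat.card_congr (cpairFibre m U), card_compl, U.2]
  rw [Finset.sum_congr rfl (fun U _ => h U), Finset.sum_const, Finset.card_univ, smul_eq_mul,
    Nat.card_eq_fintype_card]

/-- a prime different from the characteristic dividing the number of pairs divides the number of `m`-spaces. -/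
theorem dvd_card_sub_of_dvd_card_cpair [Fintype F] [Finite V] {p : ℕ} [Fact p.Prime] [CharP F p] (m : ℕ) {r : ℕ}
    (hr : r.Prime) (hrp : r ≠ p) (h : r ∣ Nat.card (CPair F V m)) : r ∣ Nat.card (Sub F V m) := by
  rw [card_cpair] at h
  rcases (Nat.Prime.dvd_mul hr).mp h with h1 | h1
  · exact h1
  · exfalso
    have h2 := hr.dvd_of_dvd_pow h1
    obtain ⟨⟨f, hfpos⟩, -, hcard⟩ := FiniteField.card F p
    rw [hcard] at h2
    have h3 := hr.dvd_of_dvd_pow h2
    exact hrp ((Nat.prime_dvd_prime_iff_eq hr Fact.out).mp h3)

end Cfsg.Agent.Helper7.POrd
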