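import Mathlib
import Cfsg.Agent.Helper7.POrdC

set_option autoImplicit false
set_option linter.unusedSectionVars false
set_option linter.unusedVariables false

/-!
Nilpotent maps: cyclic subspaces of maximal dimension have invariant complements.
-/

namespace Cfsg.Agent.Helper7.POrd

open Module

variable {F : Type*} [Field F] {V : Type*} [AddCommGroup V] [Module F V]

theorem cyc_zero (N : Module.End F V) (v : V) : cyc N v 0 = ⊥ := by
  unfold cyc
  rw [Submodule.span_eq_bot]
  rintro _ ⟨t, rfl⟩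
  exact t.elim0

theorem cyc_succ (N : Module.End F V) (v : V) (k : ℕ) :
    cyc N v (k + 1) = Submodule.span F {v} ⊔ cyc N (N v) k := by
  apply le_antisymm
  · unfold cyc
    rw [Submodule.span_le]
    rintro _ ⟨t, rfl⟩
    rcases Nat.eq_zero_or_pos (t : ℕ) with h0 | hpos
    · apply Submodule.mem_sup_left
      show (N ^ (t : ℕ)) v ∈ Submodule.span F {v}
      rw [h0, pow_zero, Module.End.one_apply]
      exact Submodule.mem_span_singleton_self v
    · apply Submodule.mem_sup_right
      apply Submodule.subset_span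
      refine ⟨⟨(t : ℕ) - 1, by have := t.2; omega⟩, ?_⟩
      show (N ^ ((t : ℕ) - 1)) (N v) = (N ^ (t : ℕ)) v
      rw [← Module.End.mul_apply, ← pow_succ, Nat.sub_add_cancel hpos]
  · apply sup_le
    · rw [Submodule.span_le, Set.singleton_subset_iff]
      have := pow_mem_cyc N v (Nat.succ_pos k)
      simpa using this
    · unfold cyc
      rw [Submodule.span_le]
      rintro _ ⟨t, rfl⟩
      show (N ^ (t : ℕ)) (N v) ∈ _
      rw [← Module.End.mul_apply, ← pow_succ]
      exact pow_mem_cyc N v (by have := t.2; omega)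

/-- a power killing the generator kills the cyclic subspace. -/
theorem pow_kill_cyc (N : Module.End F V) {w : V} {j : ℕ} (hw : (N ^ j) w = 0) (d : ℕ) :
    ∀ z ∈ cyc N w d, (N ^ j) z = 0 := by
  intro z hz
  have hle : cyc N w d ≤ LinearMap.ker (N ^ j) := by
    unfold cyc
    rw [Submodule.span_le]
    rintro _ ⟨t, rfl⟩
    rw [SetLike.mem_coe, LinearMap.mem_ker, ← Module.End.mul_apply, ← pow_add, add_comm, pow_add,
      Module.End.mul_apply, hw, map_zero]
  exact hle hz

theorem pow_succ_apply' (N : Module.End F V) (k : ℕ) (v : V) : (N ^ k) (N v) = (N ^ (k + 1)) v := by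
  rw [← Module.End.mul_apply, ← pow_succ]

/-- a vector of the cyclic subspace on which the dual conditions vanish is zero. -/
theorem eq_zero_of_dual_vanish (N : Module.End F V) (φ : V →ₗ[F] F) :
    ∀ (k : ℕ) (v : V), 0 < k → (N ^ k) v = 0 → φ ((N ^ (k - 1)) v) ≠ 0 →
      ∀ z ∈ cyc N v k, (∀ t < k, φ ((N ^ t) z) = 0) → z = 0 := by
  intro k
  induction k with
  | zero => intro v h; omega
  | succ k ih =>
    intro v _ hv hφ z hz hvan
    rw [cyc_succ, Submodule.mem_sup] at hz
    obtain ⟨y, hy, z', hz', rfl⟩ := hz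
    rw [Submodule.mem_span_singleton] at hy
    obtain ⟨c, rfl⟩ := hy
    have hNv : (N ^ k) (N v) = 0 := by rw [pow_succ_apply', hv]
    have hz'k : (N ^ k) z' = 0 := pow_kill_cyc N hNv k z' hz'
    have hc : c = 0 := by
      have h1 := hvan k (Nat.lt_succ_self k)
      rw [map_add, map_smul, hz'k, add_zero, map_smul, smul_eq_mul] at h1
      rw [Nat.add_sub_cancel] at hφ
      exact (mul_eq_zero.mp h1).resolve_right hφ
    rw [hc, zero_smul, zero_add]
    rcases Nat.eq_zero_or_pos k with h0 | hpos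
    · rw [h0, cyc_zero, Submodule.mem_bot] at hz'
      exact hz'
    · apply ih (N v) hpos hNv _ z' hz'
      · intro t ht
        have := hvan t (by omega)
        rwa [hc, zero_smul, zero_add] at this
      · rw [pow_succ_apply', Nat.sub_add_cancel hpos]
        rwa [Nat.add_sub_cancel] at hφ

/-- the chain `v, N v, ..., N^(k-1) v` is linearly independent. -/
theorem li_cyc (N : Module.End F V) :
    ∀ (k : ℕ) (v : V), (N ^ k) v = 0 → (0 < k → (N ^ (k - 1)) v ≠ 0) →
      LinearIndependent F (fun t : Fin k => (N ^ (t : ℕ)) v) := by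
  intro k
  induction k with
  | zero => intro v _ _; exact linearIndependent_empty_type
  | succ k ih =>
    intro v hv hne
    have hne' : (N ^ k) v ≠ 0 := by
      have := hne (Nat.succ_pos k)
      rwa [Nat.add_sub_cancel] at this
    have hNv : (N ^ k) (N v) = 0 := by rw [pow_succ_apply', hv]
    have hfam : (fun t : Fin (k + 1) => (N ^ (t : ℕ)) v) =
        Fin.cons v (fun t : Fin k => (N ^ (t : ℕ)) (N v)) := by
      funext t
      refine Fin.cases ?_ (fun t' => ?_) t
      · simp
      · rw [Fin.cons_succ, pow_succ_apply']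
        rfl
    rw [hfam, linearIndependent_finCons]
    refine ⟨ih (N v) hNv (fun hpos => ?_), ?_⟩
    · rw [pow_succ_apply', Nat.sub_add_cancel hpos]
      exact hne'
    · intro hmem
      have h1 : v ∈ cyc N (N v) k := hmem
      exact hne' (pow_kill_cyc N hNv k v h1)

theorem finrank_cyc_of_nilp [FiniteDimensional F V] (N : Module.End F V) {k : ℕ} {v : V} (hk : 0 < k)
    (hv : (N ^ k) v = 0) (hne : (N ^ (k - 1)) v ≠ 0) : finrank F ↥(cyc N v k) = k := by
  unfold cyc
  rw [finrank_span_eq_card (li_cyc N k v hv (fun _ => hne)), Fintype.card_fin]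

theorem cyc_invt_of_nilp (N : Module.End F V) {k : ℕ} {v : V} (hv : (N ^ k) v = 0) :
    cyc N v k ∈ Module.End.invtSubmodule N := by
  have h := cyc_invt N v (Polynomial.X ^ k : Polynomial F) (pow_ne_zero _ Polynomial.X_ne_zero)
    (by rw [map_pow, Polynomial.aeval_X, hv])
  rwa [Polynomial.natDegree_X_pow] at h

/-- **a cyclic subspace of maximal dimension has an invariant complement.** -/
theorem exists_compl_cyc [FiniteDimensional F V] (N : Module.End F V) {Q : Submodule F V}
    (hQ : Q ∈ Module.End.invtSubmodule N) {k : ℕ} (hk : 0 < k) (hQk : ∀ x ∈ Q, (N ^ k) x = 0) {v : V}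
    (hvQ : v ∈ Q) (hne : (N ^ (k - 1)) v ≠ 0) :
    ∃ Q' : Submodule F V, Q' ≤ Q ∧ Q' ∈ Module.End.invtSubmodule N ∧ cyc N v k ⊓ Q' = ⊥ ∧
      cyc N v k ⊔ Q' = Q := by
  obtain ⟨φ, hφ⟩ := Module.Projective.exists_dual_ne_zero F hne
  -- the map `x ↦ (φ (N^t x))_t`
  let Ψ : V →ₗ[F] (Fin k → F) := LinearMap.pi (fun t : Fin k => φ ∘ₗ (N ^ (t : ℕ)))
  have hΨ : ∀ x, Ψ x = 0 ↔ ∀ t < k, φ ((N ^ t) x) = 0 := by
    intro x
    constructor
    · intro h t ht
      have := congrFun h ⟨t, ht⟩
      exact this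
    · intro h
      funext t
      exact h t t.2
  have hv : (N ^ k) v = 0 := hQk v hvQ
  have hZQ : cyc N v k ≤ Q := cyc_le hQ hvQ k
  have hQ'i : Q ⊓ LinearMap.ker Ψ ∈ Module.End.invtSubmodule N := by
    rw [Module.End.mem_invtSubmodule]
    rintro x ⟨hxQ, hxΨ⟩
    rw [Submodule.mem_comap]
    refine ⟨invt_apply hQ hxQ, ?_⟩
    rw [SetLike.mem_coe, LinearMap.mem_ker, hΨ] at hxΨ ⊢
    intro t ht
    rw [pow_succ_apply']
    by_cases h : t + 1 < k
    · exact hxΨ (t + 1) h
    · have : t + 1 = k := by omega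
      rw [this, hQk x hxQ, map_zero]
  have hdisj : cyc N v k ⊓ (Q ⊓ LinearMap.ker Ψ) = ⊥ := by
    rw [eq_bot_iff]
    rintro z ⟨hz1, -, hz2⟩
    rw [SetLike.mem_coe, LinearMap.mem_ker, hΨ] at hz2
    exact (Submodule.mem_bot F).mpr (eq_zero_of_dual_vanish N φ k v hk hv hφ z hz1 hz2)
  refine ⟨Q ⊓ LinearMap.ker Ψ, inf_le_left, hQ'i, hdisj, ?_⟩
  -- dimension count
  apply Submodule.eq_of_le_of_finrank_le (sup_le hZQ inf_le_left)
  have h1 := Submodule.finrank_sup_add_finrank_inf_eq (cyc N v k) (Q ⊓ LinearMap.ker Ψ)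
  rw [hdisj, finrank_bot, add_zero, finrank_cyc_of_nilp N hk hv hne] at h1
  rw [h1]
  -- rank-nullity for `Ψ` on `Q`
  have h2 := LinearMap.finrank_range_add_finrank_ker (Ψ.domRestrict Q)
  have h3 : finrank F ↥(LinearMap.range (Ψ.domRestrict Q)) ≤ k := by
    have := Submodule.finrank_le (LinearMap.range (Ψ.domRestrict Q))
    rwa [Module.finrank_fin_fun] at this
  have h4 : finrank F ↥(LinearMap.ker (Ψ.domRestrict Q)) = finrank F ↥(Q ⊓ LinearMap.ker Ψ) := by
    rw [LinearMap.ker_domRestrict]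
    have h5 : ((LinearMap.ker Ψ).comap Q.subtype).map Q.subtype = Q ⊓ LinearMap.ker Ψ :=
      Submodule.map_comap_subtype Q (LinearMap.ker Ψ)
    rw [← h5]
    exact (Submodule.finrank_map_subtype_eq Q _).symm
  omega

end Cfsg.Agent.Helper7.POrd
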