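import Mathlib
import Cfsg.Agent.Helper7.POrdQ

set_option autoImplicit false
set_option linter.unusedSectionVars false
set_option linter.unusedVariables false

/-!
The cyclic decomposition of a nilpotent map, and the invariant decompositions it gives.
-/

namespace Cfsg.Agent.Helper7.POrd

open Module

variable {F : Type*} [Field F] {V : Type*} [AddCommGroup V] [Module F V]

/-- `W` is a direct sum of cyclic `N`-invariant subspaces of dimensions given by `μ`. -/
inductive HasType (N : Module.End F V) : Submodule F V → Multiset ℕ → Prop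
  | bot : HasType N ⊥ 0
  | cons (k : ℕ) (v : V) (Q : Submodule F V) (μ : Multiset ℕ) (hk : 0 < k) (hv : (N ^ k) v = 0)
      (hv' : (N ^ (k - 1)) v ≠ 0) (hQ : HasType N Q μ) (hd : cyc N v k ⊓ Q = ⊥) :
      HasType N (cyc N v k ⊔ Q) (k ::ₘ μ)

theorem HasType.invt {N : Module.End F V} {W : Submodule F V} {μ : Multiset ℕ} (h : HasType N W μ) :
    W ∈ Module.End.invtSubmodule N := by
  induction h with
  | bot => exact Module.End.invtSubmodule.bot_mem N
  | cons k v Q μ hk hv hv' hQ hd ih => exact Module.End.invtSubmodule.sup_mem (cyc_invt_of_nilp N hv) ih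

theorem HasType.sum_eq [FiniteDimensional F V] {N : Module.End F V} {W : Submodule F V} {μ : Multiset ℕ}
    (h : HasType N W μ) : μ.sum = finrank F ↥W := by
  induction h with
  | bot => rw [Multiset.sum_zero, finrank_bot]
  | cons k v Q μ hk hv hv' hQ hd ih =>
    have h1 := Submodule.finrank_sup_add_finrank_inf_eq (cyc N v k) Q
    rw [hd, finrank_bot, add_zero, finrank_cyc_of_nilp N hk hv hv'] at h1
    rw [Multiset.sum_cons, ih, h1]

theorem HasType.parts {N : Module.End F V} {W : Submodule F V} {μ : Multiset ℕ} (h : HasType N W μ)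
    {p : ℕ} (hNp : N ^ p = 0) : ∀ a ∈ μ, 0 < a ∧ a ≤ p := by
  induction h with
  | bot => intro a ha; simp at ha
  | cons k v Q μ hk hv hv' hQ hd ih =>
    intro a ha
    rw [Multiset.mem_cons] at ha
    rcases ha with rfl | ha
    · refine ⟨hk, ?_⟩
      by_contra hlt
      rw [not_le] at hlt
      apply hv'
      have : a - 1 = (a - 1 - p) + p := by omega
      rw [this, pow_add, Module.End.mul_apply, hNp, LinearMap.zero_apply, map_zero]
    · exact ih a ha

/-- **the invariant decompositions given by the sub-multisets of the type.** -/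
theorem HasType.exists_decomp [FiniteDimensional F V] {N : Module.End F V} {W : Submodule F V} {μ : Multiset ℕ}
    (h : HasType N W μ) : ∀ ν ≤ μ, ∃ U U' : Submodule F V, U ∈ Module.End.invtSubmodule N ∧
      U' ∈ Module.End.invtSubmodule N ∧ U ⊓ U' = ⊥ ∧ U ⊔ U' = W ∧ finrank F ↥U = ν.sum := by
  induction h with
  | bot =>
    intro ν hν
    have : ν = 0 := le_bot_iff.mp hν
    subst this
    exact ⟨⊥, ⊥, Module.End.invtSubmodule.bot_mem N, Module.End.invtSubmodule.bot_mem N, by simp, by simp,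
      by rw [finrank_bot, Multiset.sum_zero]⟩
  | cons k v Q μ hk hv hv' hQ hd ih =>
    intro ν hν
    have hZi := cyc_invt_of_nilp N hv
    have hZd := finrank_cyc_of_nilp N hk hv hv'
    by_cases hkν : k ∈ ν
    · obtain ⟨ν', rfl⟩ := Multiset.exists_cons_of_mem hkν
      have hν' : ν' ≤ μ := (Multiset.cons_le_cons_iff k).mp hν
      obtain ⟨U, U', hUi, hU'i, hUU', hsup, hUd⟩ := ih ν' hν'
      have hUQ : U ≤ Q := hsup ▸ le_sup_left
      have hU'Q : U' ≤ Q := hsup ▸ le_sup_right
      have hZU : cyc N v k ⊓ U = ⊥ := by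
        rw [eq_bot_iff, ← hd]
        exact inf_le_inf_left _ hUQ
      refine ⟨cyc N v k ⊔ U, U', Module.End.invtSubmodule.sup_mem hZi hUi, hU'i, ?_, ?_, ?_⟩
      · rw [eq_bot_iff]
        rintro x ⟨hx1, hx2⟩
        rw [SetLike.mem_coe, Submodule.mem_sup] at hx1
        obtain ⟨z, hz, u, hu, rfl⟩ := hx1
        have h1 : z ∈ cyc N v k ⊓ Q := by
          refine ⟨hz, ?_⟩
          have : z = (z + u) - u := by abel
          rw [this]
          exact Submodule.sub_mem _ (hU'Q hx2) (hUQ hu)
        rw [hd, Submodule.mem_bot] at h1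
        rw [h1, zero_add] at hx2 ⊢
        have h2 : u ∈ U ⊓ U' := ⟨hu, hx2⟩
        rw [hUU'] at h2
        exact h2
      · rw [sup_assoc, hsup]
      · have h1 := Submodule.finrank_sup_add_finrank_inf_eq (cyc N v k) U
        rw [hZU, finrank_bot, add_zero, hZd, hUd] at h1
        rw [h1, Multiset.sum_cons]
    · have hν' : ν ≤ μ := (Multiset.le_cons_of_notMem hkν).mp hν
      obtain ⟨U, U', hUi, hU'i, hUU', hsup, hUd⟩ := ih ν hν'
      have hUQ : U ≤ Q := hsup ▸ le_sup_left
      have hU'Q : U' ≤ Q := hsup ▸ le_sup_right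
      refine ⟨U, cyc N v k ⊔ U', hUi, Module.End.invtSubmodule.sup_mem hZi hU'i, ?_, ?_, hUd⟩
      · rw [eq_bot_iff]
        rintro x ⟨hx1, hx2⟩
        rw [SetLike.mem_coe, Submodule.mem_sup] at hx2
        obtain ⟨z, hz, u, hu, rfl⟩ := hx2
        have h1 : z ∈ cyc N v k ⊓ Q := by
          refine ⟨hz, ?_⟩
          have : z = (z + u) - u := by abel
          rw [this]
          exact Submodule.sub_mem _ (hUQ hx1) (hU'Q hu)
        rw [hd, Submodule.mem_bot] at h1
        rw [h1, zero_add] at hx1 ⊢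
        have h2 : u ∈ U ⊓ U' := ⟨hx1, hu⟩
        rw [hUU'] at h2
        exact h2
      · rw [sup_left_comm, hsup]

/-- **every invariant subspace on which `N` is nilpotent has a type.** -/
theorem exists_hasType [FiniteDimensional F V] (N : Module.End F V) {p : ℕ} (hNp : N ^ p = 0) :
    ∀ (d : ℕ) (Q : Submodule F V), finrank F ↥Q = d → Q ∈ Module.End.invtSubmodule N →
      ∃ μ : Multiset ℕ, HasType N Q μ := by
  intro d
  induction d using Nat.strong_induction_on with
  | _ d ih =>
    intro Q hd hQ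
    by_cases hbot : Q = ⊥
    · subst hbot
      exact ⟨0, HasType.bot⟩
    · -- the least `k` with `N^k = 0` on `Q`
      have hex : ∃ k, ∀ x ∈ Q, (N ^ k) x = 0 := ⟨p, fun x _ => by rw [hNp, LinearMap.zero_apply]⟩
      classical
      obtain ⟨hk1, hk2⟩ : (∀ x ∈ Q, (N ^ (Nat.find hex)) x = 0) ∧
          ∀ j < Nat.find hex, ¬ ∀ x ∈ Q, (N ^ j) x = 0 :=
        ⟨Nat.find_spec hex, fun j hj => Nat.find_min hex hj⟩
      generalize Nat.find hex = k at hk1 hk2
      have hkpos : 0 < k := by
        rcases Nat.eq_zero_or_pos k with h0 | h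
        · exfalso
          apply hbot
          rw [eq_bot_iff]
          intro x hx
          have := hk1 x hx
          rw [h0, pow_zero, Module.End.one_apply] at this
          exact (Submodule.mem_bot F).mpr this
        · exact h
      have h3 := hk2 (k - 1) (by omega)
      rw [not_forall] at h3
      obtain ⟨v, h3⟩ := h3
      rw [Classical.not_imp] at h3
      obtain ⟨hvQ, hv'⟩ := h3
      obtain ⟨Q', hQ'Q, hQ'i, hdisj, hsup⟩ := exists_compl_cyc N hQ hkpos hk1 hvQ hv'
      have hv : (N ^ k) v = 0 := hk1 v hvQ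
      have hfr := Submodule.finrank_sup_add_finrank_inf_eq (cyc N v k) Q'
      rw [hdisj, finrank_bot, add_zero, hsup, hd, finrank_cyc_of_nilp N hkpos hv hv'] at hfr
      obtain ⟨μ', hμ'⟩ := ih (finrank F ↥Q') (by omega) Q' rfl hQ'i
      refine ⟨k ::ₘ μ', ?_⟩
      rw [← hsup]
      exact HasType.cons k v Q' μ' hkpos hv hv' hμ' hdisj

/-- **a nilpotent map fixes a decomposition for every sub-multiset sum of its type.** -/
theorem exists_isCompl_of_nilp [FiniteDimensional F V] (N : Module.End F V) {p : ℕ} (hNp : N ^ p = 0) {m : ℕ}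
    (hPC : ∀ μ : Multiset ℕ, (∀ a ∈ μ, 0 < a ∧ a ≤ p) → μ.sum = finrank F V → ∃ ν : Multiset ℕ, ν ≤ μ ∧ ν.sum = m) :
    ∃ U W : Submodule F V, IsCompl U W ∧ finrank F ↥U = m ∧ U ∈ Module.End.invtSubmodule N ∧
      W ∈ Module.End.invtSubmodule N := by
  obtain ⟨μ, hμ⟩ := exists_hasType N hNp _ ⊤ rfl (Module.End.invtSubmodule.top_mem N)
  have hsum := hμ.sum_eq
  rw [finrank_top] at hsum
  obtain ⟨ν, hνμ, hνs⟩ := hPC μ (hμ.parts hNp) hsum
  obtain ⟨U, U', hUi, hU'i, hUU', hsup, hUd⟩ := hμ.exists_decomp ν hνμ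
  refine ⟨U, U', ⟨disjoint_iff.mpr hUU', codisjoint_iff.mpr hsup⟩, ?_, hUi, hU'i⟩
  rw [hUd, hνs]

end Cfsg.Agent.Helper7.POrd
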