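import Mathlib
import Cfsg.Agent.Helper7.POrdL
import Cfsg.Agent.Helper7.POrdP
import Cfsg.Agent.Helper7.POrdR
import Cfsg.Agent.Helper7.NilRkC

set_option autoImplicit false
set_option linter.unusedSectionVars false
set_option linter.unusedVariables false

/-!
Complementary invariant pairs: the unipotent case and the semisimple case.
-/

namespace Cfsg.Agent.Helper7.POrd

open Module Polynomial

/-- the partition condition for `p = 2`. -/
theorem pc_two_iff {n m : ℕ} (hmn : m ≤ n) :
    (∀ μ : Multiset ℕ, (∀ a ∈ μ, 0 < a ∧ a ≤ 2) → μ.sum = n → ∃ ν : Multiset ℕ, ν ≤ μ ∧ ν.sum = m) ↔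
      (Odd n ∨ Even m) := by
  constructor
  · intro h
    by_contra hcon
    rw [not_or, Nat.not_odd_iff_even, Nat.not_even_iff_odd] at hcon
    obtain ⟨hn, hm⟩ := hcon
    obtain ⟨k, hk⟩ := hn
    obtain ⟨ν, hν, hνs⟩ := h (Multiset.replicate k 2) (by
      intro a ha
      rw [Multiset.eq_of_mem_replicate ha]
      omega) (by rw [Multiset.sum_replicate, smul_eq_mul]; omega)
    obtain ⟨j, -, rfl⟩ := Multiset.le_replicate_iff.mp hν
    rw [Multiset.sum_replicate, smul_eq_mul] at hνs
    obtain ⟨l, hl⟩ := hm
    omega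
  · intro h μ hμ hsum
    have hdecomp : μ = Multiset.replicate (μ.count 2) 2 + Multiset.replicate (μ.count 1) 1 := by
      ext c
      rw [Multiset.count_add, Multiset.count_replicate, Multiset.count_replicate]
      by_cases h2 : c = 2
      · subst h2; simp
      · by_cases h1 : c = 1
        · subst h1; simp
        · rw [if_neg (Ne.symm h2), if_neg (Ne.symm h1), add_zero, Multiset.count_eq_zero]
          intro hc
          have := hμ c hc
          omega
    have hn : 2 * μ.count 2 + μ.count 1 = n := by
      rw [← hsum]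
      conv_rhs => rw [hdecomp]
      rw [Multiset.sum_add, Multiset.sum_replicate, Multiset.sum_replicate, smul_eq_mul, smul_eq_mul]
      omega
    generalize μ.count 2 = a at hdecomp hn
    generalize μ.count 1 = b at hdecomp hn
    have hb' : m - 2 * min a (m / 2) ≤ b := by
      rcases le_total a (m / 2) with h1 | h1
      · rw [min_eq_left h1]
        omega
      · rw [min_eq_right h1]
        rcases h with h | h
        · rw [Nat.odd_iff] at h
          omega
        · rw [Nat.even_iff] at h
          omega
    refine ⟨Multiset.replicate (min a (m / 2)) 2 + Multiset.replicate (m - 2 * min a (m / 2)) 1, ?_, ?_⟩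
    · rw [hdecomp]
      exact add_le_add (Multiset.replicate_mono 2 (min_le_left _ _)) (Multiset.replicate_mono 1 hb')
    · rw [Multiset.sum_add, Multiset.sum_replicate, Multiset.sum_replicate, smul_eq_mul, smul_eq_mul]
      have : 2 * min a (m / 2) ≤ m := by
        have := min_le_right a (m / 2)
        omega
      omega

variable {F : Type*} [Field F] {V : Type*} [AddCommGroup V] [Module F V]

/-- **the sub-partition given by an invariant decomposition.** -/
theorem exists_sub_partition [FiniteDimensional F V] {p : ℕ} (N' : Module.End F V) (hNp : N' ^ p = 0)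
    {U W : Submodule F V} (hc : IsCompl U W) (hU : U.map N' ≤ U) (hW : W.map N' ≤ W) (μ : Multiset ℕ)
    (hμ : ∀ k, NilRk.cntS N' ⊤ k = μ.count (k + 1)) :
    ∃ ν : Multiset ℕ, ν ≤ μ ∧ ν.sum = finrank F ↥U := by
  have hbound : ∀ k, NilRk.cntS N' U k ≤ NilRk.cntS N' ⊤ k := fun k => NilRk.cntS_le_top hc hU hW k
  have hsum := NilRk.sum_cntS hU p (by rw [hNp, Submodule.map_zero])
  refine ⟨∑ k ∈ Finset.range p, NilRk.cntS N' U k • ({k + 1} : Multiset ℕ), ?_, ?_⟩
  · rw [Multiset.le_iff_count]
    intro j
    rw [Multiset.count_sum']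
    by_cases hj : 1 ≤ j
    · have h1 : ∀ k ∈ Finset.range p, Multiset.count j (NilRk.cntS N' U k • ({k + 1} : Multiset ℕ)) =
          if k = j - 1 then NilRk.cntS N' U k else 0 := by
        intro k _
        rw [Multiset.count_nsmul, Multiset.count_singleton]
        by_cases hk : k = j - 1
        · rw [if_pos hk, if_pos (by omega), mul_one]
        · rw [if_neg hk, if_neg (by omega), mul_zero]
      rw [Finset.sum_congr rfl h1, Finset.sum_ite_eq']
      split_ifs
      · have := hbound (j - 1)
        rw [hμ, Nat.sub_add_cancel hj] at this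
        exact this
      · exact Nat.zero_le _
    · apply le_trans (le_of_eq _) (Nat.zero_le _)
      apply Finset.sum_eq_zero
      intro k _
      rw [Multiset.count_nsmul, Multiset.count_singleton, if_neg (by omega), mul_zero]
  · rw [Multiset.sum_sum, ← hsum]
    apply Finset.sum_congr rfl
    intro k _
    rw [Multiset.sum_nsmul, Multiset.sum_singleton, smul_eq_mul, mul_comm]

/-- invariance under `1 + N` and under `N`. -/
theorem map_le_of_map_one_add_le {N' : Module.End F V} {U : Submodule F V} (h : U.map (1 + N') ≤ U) :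
    U.map N' ≤ U := by
  rintro _ ⟨u, hu, rfl⟩
  have h1 : (1 + N') u ∈ U := h ⟨u, hu, rfl⟩
  have h2 : N' u = (1 + N') u - u := by
    rw [LinearMap.add_apply, Module.End.one_apply, add_sub_cancel_left]
  rw [h2]
  exact U.sub_mem h1 hu

section
variable [Fintype F] [Finite V] {p : ℕ} [Fact p.Prime] [CharP F p] {r : ℕ} [Fact r.Prime]

/-- semisimplicity when `T^r` is a nonzero scalar, `r` not the characteristic. -/
theorem exists_invt_compl (hrp : r ≠ p) {T : Module.End F V} {c : F} (hc : c ≠ 0) (hT : T ^ r = algebraMap F _ c)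
    {U : Submodule F V} (hU : U ∈ Module.End.invtSubmodule T) :
    ∃ W ∈ Module.End.invtSubmodule T, IsCompl U W := by
  have hfd : FiniteDimensional F V := Module.Finite.of_finite
  have hss : T.IsSemisimple := by
    apply Module.End.isSemisimple_of_squarefree_aeval_eq_zero (p := (X ^ r - C c))
    · exact (separable_X_pow_sub_C c (natCast_ne_zero_of_ne hrp) hc).squarefree
    · rw [map_sub, map_pow, aeval_X, aeval_C, hT, sub_self]
  exact (Module.End.isSemisimple_iff.mp hss) U hU

/-- every element of a finite field of characteristic `p` is a `p`-th power. -/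
theorem exists_pow_char_eq (c : F) : ∃ b : F, b ^ p = c := by
  apply exists_pow_eq_of_not_dvd (Fact.out : p.Prime)
  intro h
  have h1 : p ∣ Fintype.card F := char_dvd_card
  have h2 : 1 ≤ Fintype.card F := Fintype.card_pos
  have h3 : p ∣ 1 := by
    have := Nat.dvd_sub h1 h
    rwa [Nat.sub_sub_self h2] at this
  exact (Fact.out : p.Prime).one_lt.ne' (Nat.dvd_one.mp h3)

/-- **the unipotent case**: an element with `T^p` scalar fixes a complementary pair, under the partition condition. -/
theorem exists_isCompl_of_char {m : ℕ} (T : Module.End F V) {c : F} (hc : c ≠ 0) (hT : T ^ p = algebraMap F _ c)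
    (hPC : ∀ μ : Multiset ℕ, (∀ a ∈ μ, 0 < a ∧ a ≤ p) → μ.sum = finrank F V → ∃ ν : Multiset ℕ, ν ≤ μ ∧ ν.sum = m) :
    ∃ U W : Submodule F V, IsCompl U W ∧ finrank F ↥U = m ∧ U ∈ Module.End.invtSubmodule T ∧
      W ∈ Module.End.invtSubmodule T := by
  have hfd : FiniteDimensional F V := Module.Finite.of_finite
  obtain ⟨b, rfl⟩ := exists_pow_char_eq (F := F) (p := p) c
  have hb : b ≠ 0 := by
    rintro rfl
    exact hc (zero_pow (Fact.out : p.Prime).ne_zero)
  have hT₁ : (b⁻¹ • T) ^ p = 1 := by
    rw [_root_.smul_pow, hT, Algebra.algebraMap_eq_smul_one, smul_smul, ← mul_pow, inv_mul_cancel₀ hb, one_pow,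
      one_smul]
  have hpoly : ((X : F[X]) - 1) ^ p = X ^ p - 1 := by
    rw [sub_pow_char, one_pow]
  have hN : (b⁻¹ • T - 1) ^ p = 0 := by
    have h4 := congrArg (aeval (b⁻¹ • T)) hpoly
    rw [map_pow, map_sub, map_sub, map_pow, aeval_X, map_one, hT₁, sub_self] at h4
    exact h4
  obtain ⟨U, W, hUW, hUd, hUi, hWi⟩ := exists_isCompl_of_nilp (b⁻¹ • T - 1) hN hPC
  have hinv : ∀ A : Submodule F V, A ∈ Module.End.invtSubmodule (b⁻¹ • T - 1) →
      A ∈ Module.End.invtSubmodule T := by
    intro A hA
    rw [Module.End.mem_invtSubmodule] at hA ⊢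
    intro w hw
    rw [Submodule.mem_comap]
    have h1 := hA hw
    rw [Submodule.mem_comap, LinearMap.sub_apply, LinearMap.smul_apply, Module.End.one_apply] at h1
    have h2 := Submodule.smul_mem A b (A.add_mem h1 hw)
    rwa [sub_add_cancel, smul_smul, mul_inv_cancel₀ hb, one_smul] at h2
  exact ⟨U, W, hUW, hUd, hinv U hUi, hinv W hWi⟩

end

end Cfsg.Agent.Helper7.POrd
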