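import Mathlib
import Cfsg.Agent.Helper7.POrdS

set_option autoImplicit false
set_option linter.unusedSectionVars false
set_option linter.unusedVariables false

/-!
Direct sum decompositions into subspaces of equal dimension: independence from a dimension count, decompositions
from chains of invariant subspaces, and decompositions from bases.
-/

namespace Cfsg.Agent.Helper7.LOrd

open Module Polynomial Cfsg.Agent.Helper7.POrd

variable {F : Type*} [Field F] {V : Type*} [AddCommGroup V] [Module F V]

/-- a family of subspaces whose dimensions add up to the dimension of the span is independent. -/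
theorem indep_of_finrank [FiniteDimensional F V] {ι : Type*} [Fintype ι] (D : ι → Submodule F V)
    (h : ∑ j, finrank F ↥(D j) ≤ finrank F ↥(⨆ j, D j)) : iSupIndep D := by
  classical
  apply iSupIndep_of_dfinsupp_lsum_injective
  have hr : LinearMap.range (DFinsupp.lsum ℕ fun i => (D i).subtype) = ⨆ j, D j :=
    (Submodule.iSup_eq_range_dfinsupp_lsum D).symm
  have hdom : finrank F (Π₀ i, ↥(D i)) = ∑ j, finrank F ↥(D j) := by
    rw [LinearEquiv.finrank_eq (DFinsupp.linearEquivFunOnFintype (R := F) (M := fun i => ↥(D i))),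
      Module.finrank_pi_fintype]
  have h1 := LinearMap.finrank_range_add_finrank_ker (DFinsupp.lsum ℕ fun i => (D i).subtype)
  rw [hr, hdom] at h1
  rw [← LinearMap.ker_eq_bot]
  apply Submodule.finrank_eq_zero.mp
  omega

/-- **decomposition from a chain** of invariant subspaces, for a semisimple map. -/
theorem exists_decomp_of_chain [FiniteDimensional F V] {T : Module.End F V} (hss : T.IsSemisimple)
    (a t : ℕ) (E : ℕ → Submodule F V) (hmono : Monotone E)
    (hinv : ∀ j ≤ t, E j ∈ Module.End.invtSubmodule T) (hdim : ∀ j ≤ t, finrank F ↥(E j) = a * j) :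
    ∃ D : Fin t → Submodule F V, (∀ j, D j ∈ Module.End.invtSubmodule T) ∧ (∀ j, finrank F ↥(D j) = a) ∧
      iSupIndep D ∧ (⨆ j, D j) = E t := by
  classical
  have hex : ∀ j : Fin t, ∃ Q ∈ Module.End.invtSubmodule T, IsCompl (E j) Q := fun j =>
    (Module.End.isSemisimple_iff.mp hss) (E j) (hinv j (le_of_lt j.2))
  choose Q hQi hQc using hex
  have hsup : ∀ j : Fin t, E j ⊔ (Q j ⊓ E (j + 1)) = E (j + 1) := by
    intro j
    have hle : E j ≤ E (j + 1) := hmono (Nat.le_succ _)
    rw [← sup_inf_assoc_of_le (Q j) hle, (hQc j).sup_eq_top, top_inf_eq]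
  have hinf : ∀ j : Fin t, E j ⊓ (Q j ⊓ E (j + 1)) = ⊥ := by
    intro j
    rw [← inf_assoc, (hQc j).inf_eq_bot, bot_inf_eq]
  have hDd : ∀ j : Fin t, finrank F ↥(Q j ⊓ E (j + 1)) = a := by
    intro j
    have h := Submodule.finrank_sup_add_finrank_inf_eq (E j) (Q j ⊓ E (j + 1))
    have h1 : finrank F ↥(E ((j : ℕ) + 1)) = a * ((j : ℕ) + 1) := hdim _ j.2
    have h2 : finrank F ↥(E (j : ℕ)) = a * (j : ℕ) := hdim _ (le_of_lt j.2)
    rw [hsup j, hinf j, finrank_bot, add_zero, h1, h2] at h
    have h3 : a * ((j : ℕ) + 1) = a * (j : ℕ) + a := by ring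
    rw [h3] at h
    exact (Nat.add_left_cancel h).symm
  have hDle : ∀ j : Fin t, Q j ⊓ E (j + 1) ≤ E t := fun j => inf_le_right.trans (hmono j.2)
  have hE0 : E 0 = ⊥ := by
    apply Submodule.finrank_eq_zero.mp
    rw [hdim 0 (Nat.zero_le _), mul_zero]
  have hge : ∀ j, j ≤ t → E j ≤ ⨆ i : Fin t, Q i ⊓ E (i + 1) := by
    intro j
    induction j with
    | zero => intro _; rw [hE0]; exact bot_le
    | succ j ih =>
      intro hj
      have h1 := hsup ⟨j, hj⟩
      rw [← h1]
      exact sup_le (ih (by omega)) (le_iSup (fun i : Fin t => Q i ⊓ E (i + 1)) ⟨j, hj⟩)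
  have heq : (⨆ i : Fin t, Q i ⊓ E (i + 1)) = E t := le_antisymm (iSup_le hDle) (hge t le_rfl)
  refine ⟨fun j => Q j ⊓ E (j + 1), fun j => ?_, hDd, ?_, heq⟩
  · exact Module.End.invtSubmodule.inf_mem (hQi j) (hinv _ j.2)
  · apply indep_of_finrank
    rw [heq, hdim t le_rfl, Finset.sum_congr rfl (fun j _ => hDd j), Finset.sum_const, Finset.card_univ,
      Fintype.card_fin, smul_eq_mul, mul_comm]

/-- **decomposition from a basis** and a block system respected by an injective map. -/
theorem decomp_of_basis {ι : Type*} [Fintype ι] (b : Module.Basis ι F V) (T : V →ₗ[F] V)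
    (hT : Function.Injective T) {t a : ℕ} (β : ι → Fin t) (σ : Equiv.Perm (Fin t))
    (hβ : ∀ j, Fintype.card {i // β i = j} = a)
    (hσ : ∀ i, T (b i) ∈ Submodule.span F (b '' {i' | β i' = σ (β i)})) :
    (∀ j, finrank F ↥(Submodule.span F (b '' {i | β i = j})) = a) ∧
    iSupIndep (fun j => Submodule.span F (b '' {i | β i = j})) ∧
    (⨆ j, Submodule.span F (b '' {i | β i = j})) = ⊤ ∧
    ∀ j, (Submodule.span F (b '' {i | β i = j})).map T = Submodule.span F (b '' {i | β i = σ j}) := by
  classical
  have hfd : FiniteDimensional F V := Module.Finite.of_basis b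
  have hfin : ∀ j, finrank F ↥(Submodule.span F (b '' {i | β i = j})) = a := by
    intro j
    have h1 : b '' {i | β i = j} = Set.range (b ∘ (Subtype.val : {i // β i = j} → ι)) := by
      rw [Set.image_eq_range]; rfl
    rw [h1, finrank_span_eq_card (b.linearIndependent.comp _ Subtype.val_injective), hβ j]
  refine ⟨hfin, ?_, ?_, ?_⟩
  · rw [iSupIndep_def]
    intro j
    have h1 : (⨆ k, ⨆ (_ : k ≠ j), Submodule.span F (b '' {i | β i = k})) ≤
        Submodule.span F (b '' {i | β i ≠ j}) := by
      apply iSup_le; intro k; apply iSup_le; intro hk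
      apply Submodule.span_mono
      apply Set.image_mono
      intro i hi
      have hi' : β i = k := hi
      show β i ≠ j
      rw [hi']; exact hk
    refine Disjoint.mono_right h1 ?_
    apply b.linearIndependent.disjoint_span_image
    rw [Set.disjoint_left]
    intro i hi hi'
    exact hi' hi
  · rw [eq_top_iff, ← b.span_eq, Submodule.span_le]
    rintro _ ⟨i, rfl⟩
    apply Submodule.mem_iSup_of_mem (β i)
    apply Submodule.subset_span
    exact ⟨i, rfl, rfl⟩
  · intro j
    apply Submodule.eq_of_le_of_finrank_eq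
    · rw [Submodule.map_span, Submodule.span_le]
      rintro _ ⟨_, ⟨i, hi, rfl⟩, rfl⟩
      have hi' : β i = j := hi
      have := hσ i
      rw [hi'] at this
      exact this
    · rw [hfin (σ j), ← hfin j]
      exact (LinearEquiv.finrank_eq (Submodule.equivMapOfInjective T hT _)).symm

end Cfsg.Agent.Helper7.LOrd
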