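import Mathlib
import Cfsg.Agent.Helper7.LOrdA

set_option autoImplicit false
set_option linter.unusedSectionVars false
set_option linter.unusedVariables false

/-!
Invariant decompositions for a map with `T ^ r = 1`, `r` prime different from the characteristic.
-/

namespace Cfsg.Agent.Helper7.LOrd

open Module Polynomial Cfsg.Agent.Helper7.POrd

variable {F : Type*} [Field F] [Fintype F] {V : Type*} [AddCommGroup V] [Module F V] [Finite V]
  {p : ℕ} [Fact p.Prime] [CharP F p] {r : ℕ} [Fact r.Prime]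

/-- **the invariant decomposition**: if the fixed space is large enough, the space is a direct sum of `t` invariant
subspaces of dimension `a`. -/
theorem exists_invt_decomp (hrp : r ≠ p) {T : Module.End F V} (hT : T ^ r = 1) {a t : ℕ}
    (hdim : finrank F V = a * t)
    (hmod : t * (a % orderOf ((Fintype.card F : ℕ) : ZMod r)) ≤ finrank F ↥(fixS T)) :
    ∃ D : Fin t → Submodule F V, (∀ j, D j ∈ Module.End.invtSubmodule T) ∧ (∀ j, finrank F ↥(D j) = a) ∧
      iSupIndep D ∧ (⨆ j, D j) = ⊤ := by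
  have hfd : FiniteDimensional F V := Module.Finite.of_finite
  have hr0 : (r : F) ≠ 0 := natCast_ne_zero_of_ne hrp
  obtain ⟨m', Wf, hm', hmono, hWf⟩ := exists_invt_family hrp hT
  have hcpos : 0 < orderOf ((Fintype.card F : ℕ) : ZMod r) := orderOf_q_pos hrp
  generalize orderOf ((Fintype.card F : ℕ) : ZMod r) = c at *
  have hsum := finrank_fix_add_mov hr0 hT
  rw [hm', hdim] at hsum
  generalize finrank F ↥(fixS T) = f at *
  obtain ⟨A, hA⟩ : ∃ A, A = a / c := ⟨_, rfl⟩
  obtain ⟨ℓ, hℓ⟩ : ∃ ℓ, ℓ = a % c := ⟨_, rfl⟩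
  have hdm : c * A + ℓ = a := by rw [hA, hℓ]; exact Nat.div_add_mod a c
  rw [← hℓ] at hmod
  obtain ⟨β, hβ⟩ : ∃ β : ℕ → ℕ, ∀ j, β j = min (j * A) m' := ⟨_, fun _ => rfl⟩
  obtain ⟨α, hα⟩ : ∃ α : ℕ → ℕ, ∀ j, α j = j * a - c * β j := ⟨_, fun _ => rfl⟩
  have e1 : ∀ j, j * a = c * (j * A) + j * ℓ := by
    intro j
    rw [← hdm]
    ring
  have hβle : ∀ j, β j ≤ m' := fun j => by rw [hβ]; exact min_le_right _ _
  have hcβ : ∀ j, c * β j ≤ j * a := by
    intro j
    have h1 : c * β j ≤ c * (j * A) := Nat.mul_le_mul_left c (by rw [hβ]; exact min_le_left _ _)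
    have := e1 j
    omega
  have hβmono : ∀ j, β j ≤ β (j + 1) := by
    intro j
    rw [hβ, hβ]
    apply min_le_min_right
    exact Nat.mul_le_mul_right A (Nat.le_succ j)
  have hαmono : ∀ j, α j ≤ α (j + 1) := by
    intro j
    rw [hα, hα]
    have h1 := e1 j
    have h2 := e1 (j + 1)
    have h3 : (j + 1) * A = j * A + A := by ring
    have h4 : (j + 1) * ℓ = j * ℓ + ℓ := by ring
    have h5 : (j + 1) * a = j * a + a := by ring
    rcases le_total ((j + 1) * A) m' with h | h
    · have h' : j * A ≤ m' := by omega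
      rw [hβ, hβ, min_eq_left h, min_eq_left h']
      omega
    · rcases le_total (j * A) m' with h' | h'
      · rw [hβ, hβ, min_eq_right h, min_eq_left h']
        have h6 : c * m' ≤ c * ((j + 1) * A) := Nat.mul_le_mul_left c h
        omega
      · rw [hβ, hβ, min_eq_right h, min_eq_right h']
        omega
  have hαle : ∀ j, j ≤ t → α j ≤ f := by
    intro j hj
    rw [hα]
    have h1 := e1 j
    rcases le_total (j * A) m' with h | h
    · rw [hβ, min_eq_left h]
      have h2 : j * ℓ ≤ t * ℓ := Nat.mul_le_mul_right ℓ hj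
      omega
    · rw [hβ, min_eq_right h]
      have h2 : j * a ≤ t * a := Nat.mul_le_mul_right a hj
      have h3 : t * a = a * t := mul_comm _ _
      omega
  have hEmono : Monotone (fun j => Wf (α j) (β j)) := by
    apply monotone_nat_of_le_succ
    intro j
    exact hmono _ _ _ _ (hαmono j) (hβmono j)
  have hss := isSemisimple_of_pow_eq_one hrp hT
  obtain ⟨D, hDi, hDd, hDind, hDsup⟩ := exists_decomp_of_chain hss a t (fun j => Wf (α j) (β j)) hEmono
    (fun j hj => (hWf _ _ (hαle j hj) (hβle j)).1)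
    (fun j hj => by
      rw [(hWf _ _ (hαle j hj) (hβle j)).2, hα]
      have := hcβ j
      have h3 : j * a = a * j := mul_comm _ _
      omega)
  refine ⟨D, hDi, hDd, hDind, ?_⟩
  rw [hDsup]
  apply Submodule.eq_top_of_finrank_eq
  rw [(hWf _ _ (hαle t le_rfl) (hβle t)).2, hα, hdim]
  have := hcβ t
  have h3 : t * a = a * t := mul_comm _ _
  omega

end Cfsg.Agent.Helper7.LOrd
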