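import Mathlib
import Cfsg.Agent.Helper7.LOrdB

set_option autoImplicit false
set_option linter.unusedSectionVars false
set_option linter.unusedVariables false

/-!
Decompositions from spanning families, and the case where `T ^ r` is a scalar which is not an `r`-th power.
-/

namespace Cfsg.Agent.Helper7.LOrd

open Module Polynomial Cfsg.Agent.Helper7.POrd

section general

variable {F : Type*} [Field F] {V : Type*} [AddCommGroup V] [Module F V]

/-- **decomposition from a spanning family** indexed by blocks. -/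
theorem decomp_of_family [FiniteDimensional F V] {κ : Type*} [Fintype κ] {a t : ℕ} (b₀ : κ × Fin a → V)
    (hspan : ⊤ ≤ Submodule.span F (Set.range b₀)) (hcard : Fintype.card κ * a = finrank F V)
    (e : κ ≃ Fin t) (T : V →ₗ[F] V) (hT : Function.Injective T) (σ₀ : Equiv.Perm κ)
    (hσ : ∀ k s, T (b₀ (k, s)) ∈ Submodule.span F (Set.range fun s' => b₀ (σ₀ k, s'))) :
    ∃ D : Fin t → Submodule F V, (∀ j, finrank F ↥(D j) = a) ∧ iSupIndep D ∧ (⨆ j, D j) = ⊤ ∧
      ∃ σ : Equiv.Perm (Fin t), ∀ j, (D j).map T = D (σ j) := by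
  classical
  have hli : LinearIndependent F b₀ := by
    apply linearIndependent_of_top_le_span_of_card_eq_finrank hspan
    rw [Fintype.card_prod, Fintype.card_fin, hcard]
  have hb : ∀ x, (Module.Basis.mk hli hspan) x = b₀ x := fun x => Module.Basis.mk_apply hli hspan x
  have hβ : ∀ j : Fin t, Fintype.card {x : κ × Fin a // e x.1 = j} = a := by
    intro j
    have eq : {x : κ × Fin a // e x.1 = j} ≃ Fin a :=
      { toFun := fun x => x.1.2
        invFun := fun s => ⟨(e.symm j, s), e.apply_symm_apply j⟩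
        left_inv := by
          rintro ⟨⟨k, s⟩, hx⟩
          apply Subtype.ext
          have hx' : e k = j := hx
          show (e.symm j, s) = (k, s)
          rw [← hx', e.symm_apply_apply]
        right_inv := fun s => rfl }
    rw [Fintype.card_congr eq, Fintype.card_fin]
  obtain ⟨h1, h2, h3, h4⟩ := decomp_of_basis (Module.Basis.mk hli hspan) T hT (fun x => e x.1)
    (e.symm.trans (σ₀.trans e)) hβ (by
      rintro ⟨k, s⟩
      rw [hb]
      have h5 := hσ k s
      refine Submodule.span_mono ?_ h5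
      rintro _ ⟨s', rfl⟩
      refine ⟨(σ₀ k, s'), ?_, hb _⟩
      show e (σ₀ k) = (e.symm.trans (σ₀.trans e)) (e k)
      rw [Equiv.trans_apply, Equiv.trans_apply, e.symm_apply_apply])
  exact ⟨_, h1, h2, h3, _, h4⟩

/-- generators of cyclic subspaces, for a map killed by an irreducible polynomial. -/
theorem exists_cyc_gens [FiniteDimensional F V] {g : F[X]} (hg : Irreducible g) {T : Module.End F V}
    (hgT : aeval T g = 0) : ∀ s : ℕ, g.natDegree * s ≤ finrank F V →
    ∃ v : ℕ → V, finrank F ↥(⨆ i ∈ Finset.range s, cyc T (v i) g.natDegree) = g.natDegree * s := by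
  classical
  intro s
  induction s with
  | zero =>
    intro _
    refine ⟨fun _ => 0, ?_⟩
    have h0 : (⨆ i ∈ Finset.range 0, cyc T ((fun _ : ℕ => (0 : V)) i) g.natDegree) = ⊥ := by simp
    rw [h0, finrank_bot, mul_zero]
  | succ s ih =>
    intro hs
    have hs' : g.natDegree * s ≤ finrank F V := le_trans (Nat.mul_le_mul_left _ (Nat.le_succ s)) hs
    obtain ⟨v, hv⟩ := ih hs'
    have hUi : (⨆ i ∈ Finset.range s, cyc T (v i) g.natDegree) ∈ Module.End.invtSubmodule T := by
      rw [Module.End.mem_invtSubmodule]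
      apply iSup₂_le
      intro i _
      have h1 : cyc T (v i) g.natDegree ∈ Module.End.invtSubmodule T :=
        cyc_invt T (v i) g hg.ne_zero (by rw [hgT, LinearMap.zero_apply])
      rw [Module.End.mem_invtSubmodule] at h1
      refine h1.trans (Submodule.comap_mono ?_)
      exact le_iSup₂ (f := fun i (_ : i ∈ Finset.range s) => cyc T (v i) g.natDegree) i ‹_›
    have hne : (⨆ i ∈ Finset.range s, cyc T (v i) g.natDegree) ≠ ⊤ := by
      intro h
      rw [h, finrank_top] at hv
      have hpos := hg.natDegree_pos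
      rw [hv] at hs
      have : g.natDegree * (s + 1) = g.natDegree * s + g.natDegree := by ring
      omega
    obtain ⟨w, -, hw⟩ := SetLike.exists_of_lt (lt_top_iff_ne_top.mpr hne)
    have hw0 : w ≠ 0 := by
      rintro rfl
      exact hw (Submodule.zero_mem _)
    refine ⟨Function.update v s w, ?_⟩
    rw [Finset.range_add_one, Finset.iSup_insert, Function.update_self]
    have hcongr : (⨆ i ∈ Finset.range s, cyc T (Function.update v s w i) g.natDegree) =
        ⨆ i ∈ Finset.range s, cyc T (v i) g.natDegree := by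
      apply iSup_congr
      intro i
      apply iSup_congr
      intro hi
      rw [Function.update_of_ne]
      rw [Finset.mem_range] at hi
      omega
    rw [hcongr]
    have h := Submodule.finrank_sup_add_finrank_inf_eq (cyc T w g.natDegree)
      (⨆ i ∈ Finset.range s, cyc T (v i) g.natDegree)
    rw [cyc_inf_eq_bot hg hgT hUi hw, finrank_bot, add_zero, finrank_cyc_eq hg hgT hw0, hv] at h
    rw [h]
    ring

end general

variable {F : Type*} [Field F] [Fintype F] {V : Type*} [AddCommGroup V] [Module F V] [Finite V]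
  {p : ℕ} [Fact p.Prime] [CharP F p] {r : ℕ} [Fact r.Prime]

/-- **the nonpower case, `r ∣ a`**: all the summands invariant. -/
theorem exists_decomp_nonpower_dvd (hrp : r ≠ p) {T : Module.End F V} {z : F} (hz : ∀ b : F, b ^ r ≠ z)
    (hT : T ^ r = algebraMap F _ z) {a t : ℕ} (hdim : finrank F V = a * t) (hra : r ∣ a) :
    ∃ D : Fin t → Submodule F V, (∀ j, D j ∈ Module.End.invtSubmodule T) ∧ (∀ j, finrank F ↥(D j) = a) ∧
      iSupIndep D ∧ (⨆ j, D j) = ⊤ := by
  have hfd : FiniteDimensional F V := Module.Finite.of_finite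
  have hr : r.Prime := Fact.out
  have hz0 : z ≠ 0 := by
    rintro rfl
    exact hz 0 (zero_pow hr.ne_zero)
  have hirr : Irreducible (X ^ r - C z : F[X]) := X_pow_sub_C_irreducible_of_prime hr hz
  have hdeg : (X ^ r - C z : F[X]).natDegree = r := natDegree_X_pow_sub_C
  have hgT : aeval T (X ^ r - C z : F[X]) = 0 := by
    rw [map_sub, map_pow, aeval_X, aeval_C, hT, sub_self]
  obtain ⟨N, U, hN, hUm, hU⟩ := exists_chain_irred hirr hgT (Module.End.invtSubmodule.top_mem T)
  rw [finrank_top, hdeg, hdim] at hN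
  obtain ⟨a', rfl⟩ := hra
  have hN' : N = a' * t := by
    apply Nat.eq_of_mul_eq_mul_left hr.pos
    rw [← hN]
    ring
  have hss : T.IsSemisimple := Module.End.isSemisimple_iff.mpr (fun U hU => exists_invt_compl hrp hz0 hT hU)
  have hle : ∀ j ≤ t, a' * j ≤ N := fun j hj => by rw [hN']; exact Nat.mul_le_mul_left a' hj
  obtain ⟨D, hDi, hDd, hDind, hDsup⟩ := exists_decomp_of_chain hss (r * a') t (fun j => U (a' * j))
    (fun j j' hjj' => hUm (Nat.mul_le_mul_left a' hjj'))
    (fun j hj => (hU _ (hle j hj)).1)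
    (fun j hj => by rw [(hU _ (hle j hj)).2.2, hdeg]; ring)
  refine ⟨D, hDi, hDd, hDind, ?_⟩
  rw [hDsup]
  apply Submodule.eq_top_of_finrank_eq
  rw [(hU _ (hle t le_rfl)).2.2, hdeg, hdim]
  ring

/-- **the nonpower case, `r ∣ t`**: the summands permuted in cycles of length `r`. -/
theorem exists_decomp_nonpower_rot (hrp : r ≠ p) {T : Module.End F V} {z : F} (hz : ∀ b : F, b ^ r ≠ z)
    (hT : T ^ r = algebraMap F _ z) {a t : ℕ} (hdim : finrank F V = a * t) (hrt : r ∣ t) :
    ∃ D : Fin t → Submodule F V, (∀ j, finrank F ↥(D j) = a) ∧ iSupIndep D ∧ (⨆ j, D j) = ⊤ ∧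
      ∃ σ : Equiv.Perm (Fin t), ∀ j, (D j).map T = D (σ j) := by
  classical
  have hfd : FiniteDimensional F V := Module.Finite.of_finite
  have hr : r.Prime := Fact.out
  haveI : NeZero r := ⟨hr.ne_zero⟩
  have hz0 : z ≠ 0 := by
    rintro rfl
    exact hz 0 (zero_pow hr.ne_zero)
  have hirr : Irreducible (X ^ r - C z : F[X]) := X_pow_sub_C_irreducible_of_prime hr hz
  have hdeg : (X ^ r - C z : F[X]).natDegree = r := natDegree_X_pow_sub_C
  have hgT : aeval T (X ^ r - C z : F[X]) = 0 := by
    rw [map_sub, map_pow, aeval_X, aeval_C, hT, sub_self]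
  obtain ⟨t', rfl⟩ := hrt
  obtain ⟨v, hv⟩ := exists_cyc_gens hirr hgT (t' * a) (by rw [hdeg, hdim]; exact le_of_eq (by ring))
  rw [hdeg] at hv
  have htop : (⨆ i ∈ Finset.range (t' * a), cyc T (v i) r) = ⊤ := by
    apply Submodule.eq_top_of_finrank_eq
    rw [hv, hdim]
    ring
  have hTinj : Function.Injective T := by
    intro x y hxy
    have h1 : (T ^ r) x = (T ^ r) y := by
      have e : r = (r - 1) + 1 := (Nat.sub_add_cancel hr.pos).symm
      rw [e, pow_succ, Module.End.mul_apply, Module.End.mul_apply, hxy]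
    rw [hT, Module.algebraMap_end_apply, Module.algebraMap_end_apply] at h1
    exact smul_right_injective V hz0 h1
  -- the family
  obtain ⟨b₀, hb₀⟩ : ∃ b₀ : (Fin t' × Fin r) × Fin a → V,
      ∀ x, b₀ x = (T ^ (x.1.2 : ℕ)) (v (finProdFinEquiv (x.1.1, x.2) : Fin (t' * a))) := ⟨_, fun _ => rfl⟩
  have hspan : ⊤ ≤ Submodule.span F (Set.range b₀) := by
    rw [← htop]
    apply iSup₂_le
    intro i hi
    rw [Finset.mem_range] at hi
    unfold cyc
    apply Submodule.span_mono
    rintro _ ⟨k, rfl⟩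
    refine ⟨(((finProdFinEquiv.symm ⟨i, hi⟩).1, k), (finProdFinEquiv.symm ⟨i, hi⟩).2), ?_⟩
    rw [hb₀]
    show (T ^ (k : ℕ)) (v (finProdFinEquiv ((finProdFinEquiv.symm ⟨i, hi⟩).1, (finProdFinEquiv.symm ⟨i, hi⟩).2) :
      Fin (t' * a))) = _
    rw [Prod.mk.eta, Equiv.apply_symm_apply]
  have hcard : Fintype.card (Fin t' × Fin r) * a = finrank F V := by
    rw [Fintype.card_prod, Fintype.card_fin, Fintype.card_fin, hdim]
    ring
  have hσ : ∀ (k : Fin t' × Fin r) (s : Fin a), T (b₀ (k, s)) ∈
      Submodule.span F (Set.range fun s' => b₀ ((Equiv.prodCongr (Equiv.refl (Fin t')) (Equiv.addRight (1 : Fin r))) k, s')) := by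
    rintro ⟨j', i⟩ s
    have hval : (((Equiv.addRight (1 : Fin r)) i : Fin r) : ℕ) = ((i : ℕ) + 1) % r := by
      show ((i + 1 : Fin r) : ℕ) = _
      rw [Fin.val_add, Fin.val_one', Nat.add_mod_mod]
    have hT1 : T (b₀ ((j', i), s)) = (T ^ ((i : ℕ) + 1)) (v (finProdFinEquiv (j', s) : Fin (t' * a))) := by
      rw [hb₀, pow_succ', Module.End.mul_apply]
    have hmem : b₀ ((j', (Equiv.addRight (1 : Fin r)) i), s) ∈ Submodule.span F
        (Set.range fun s' => b₀ ((Equiv.prodCongr (Equiv.refl (Fin t')) (Equiv.addRight (1 : Fin r))) (j', i), s')) :=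
      Submodule.subset_span ⟨s, rfl⟩
    rcases Nat.lt_or_ge ((i : ℕ) + 1) r with h | h
    · have e1 : b₀ ((j', (Equiv.addRight (1 : Fin r)) i), s) = T (b₀ ((j', i), s)) := by
        rw [hT1, hb₀]
        show (T ^ (((Equiv.addRight (1 : Fin r)) i : Fin r) : ℕ)) _ = _
        rw [hval, Nat.mod_eq_of_lt h]
      rw [← e1]
      exact hmem
    · have hi : (i : ℕ) + 1 = r := by have := i.2; omega
      have e1 : T (b₀ ((j', i), s)) = z • b₀ ((j', (Equiv.addRight (1 : Fin r)) i), s) := by
        rw [hT1, hb₀ ((j', (Equiv.addRight (1 : Fin r)) i), s)]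
        show _ = z • (T ^ (((Equiv.addRight (1 : Fin r)) i : Fin r) : ℕ)) _
        rw [hval, hi, Nat.mod_self, pow_zero, Module.End.one_apply, hT, Module.algebraMap_end_apply]
      rw [e1]
      exact Submodule.smul_mem _ _ hmem
  exact decomp_of_family b₀ hspan hcard (finProdFinEquiv.trans (finCongr (mul_comm t' r))) T hTinj _ hσ

end Cfsg.Agent.Helper7.LOrd
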