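import Mathlib
import Cfsg.Agent.Helper7.LOrdC

set_option autoImplicit false
set_option linter.unusedSectionVars false
set_option linter.unusedVariables false

/-!
Decompositions into lines permuted by a map with `T ^ r = 1`, when the cyclotomic polynomial is irreducible.
-/

namespace Cfsg.Agent.Helper7.LOrd

open Module Polynomial Cfsg.Agent.Helper7.POrd

variable {F : Type*} [Field F] [Fintype F] {V : Type*} [AddCommGroup V] [Module F V] [Finite V]
  {p : ℕ} [Fact p.Prime] [CharP F p] {r : ℕ} [Fact r.Prime]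

theorem injective_of_pow_eq_one {T : Module.End F V} (hT : T ^ r = 1) : Function.Injective T := by
  have hr : r.Prime := Fact.out
  intro x y hxy
  have h1 : (T ^ r) x = (T ^ r) y := by
    have e : r = (r - 1) + 1 := (Nat.sub_add_cancel hr.pos).symm
    rw [e, pow_succ, Module.End.mul_apply, Module.End.mul_apply, hxy]
  rwa [hT, Module.End.one_apply, Module.End.one_apply] at h1

/-- **the decomposition into lines**, when the moved space is small. -/
theorem exists_line_decomp (hrp : r ≠ p) {T : Module.End F V} (hT : T ^ r = 1) {n : ℕ} (hdim : finrank F V = n)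
    (hcr : orderOf ((Fintype.card F : ℕ) : ZMod r) = r - 1)
    (hn : n ≤ (n % orderOf ((Fintype.card F : ℕ) : ZMod r)) * r) :
    ∃ D : Fin n → Submodule F V, (∀ j, finrank F ↥(D j) = 1) ∧ iSupIndep D ∧ (⨆ j, D j) = ⊤ ∧
      ∃ σ : Equiv.Perm (Fin n), ∀ j, (D j).map T = D (σ j) := by
  classical
  have hfd : FiniteDimensional F V := Module.Finite.of_finite
  have hr : r.Prime := Fact.out
  have hNZ : NeZero r := ⟨hr.ne_zero⟩
  have hr0 : (r : F) ≠ 0 := natCast_ne_zero_of_ne hrp
  have hcpos : 0 < orderOf ((Fintype.card F : ℕ) : ZMod r) := orderOf_q_pos hrp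
  obtain ⟨m', hm'⟩ := orderOf_dvd_finrank_movS hrp hT
  obtain ⟨U, hUm, hU⟩ := exists_chain_mov hrp hT m' hm'
  have hdisj := disjoint_fix_mov hr0 T
  have hinvfix : ∀ W : Submodule F V, W ≤ movS r T → W ⊓ fixS T = ⊥ := by
    intro W hW
    rw [eq_bot_iff]
    intro x hx
    rw [Submodule.disjoint_def] at hdisj
    exact (Submodule.mem_bot F).mpr (hdisj x hx.2 (hW hx.1))
  have hdvd : ∀ W : Submodule F V, W ∈ Module.End.invtSubmodule T → W ≤ movS r T →
      orderOf ((Fintype.card F : ℕ) : ZMod r) ∣ finrank F ↥W :=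
    fun W hWi hW => orderOf_dvd_finrank hT hWi (hinvfix W hW)
  generalize orderOf ((Fintype.card F : ℕ) : ZMod r) = c at *
  have hsum := finrank_fix_add_mov hr0 hT
  rw [hm', hdim] at hsum
  obtain ⟨f, hf⟩ : ∃ f, finrank F ↥(fixS T) = f := ⟨_, rfl⟩
  rw [hf] at hsum
  have hrc : r = c + 1 := by have := hr.two_le; omega
  have hfmod : n % c ≤ f := by
    rw [← hsum, Nat.add_mul_mod_self_left]
    exact Nat.mod_le _ _
  have hm'f : m' ≤ f := by
    apply Nat.le_of_mul_le_mul_left _ hcpos
    have h1 : n % c * r ≤ f * r := Nat.mul_le_mul_right r hfmod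
    have h2 : f * r = c * f + f := by rw [hrc]; ring
    omega
  have hss := isSemisimple_of_pow_eq_one hrp hT
  obtain ⟨M, hMi, hMd, -, hMsup⟩ := exists_decomp_of_chain hss c m' U hUm (fun j hj => (hU j hj).1)
    (fun j hj => (hU j hj).2.2)
  have hUm' : U m' = movS r T := by
    apply Submodule.eq_of_le_of_finrank_eq (hU m' le_rfl).2.1
    rw [(hU m' le_rfl).2.2, hm']
  have hMmov : ∀ s, M s ≤ movS r T := by
    intro s
    rw [← hUm', ← hMsup]
    exact le_iSup M s
  have hex : ∀ s : Fin m', ∃ v ∈ M s, v ≠ 0 := by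
    intro s
    apply Submodule.exists_mem_ne_zero_of_ne_bot
    intro h
    have := hMd s
    rw [h, finrank_bot] at this
    omega
  choose v hvM hv0 using hex
  have hpoly : ∀ u : V, aeval T (X ^ r - 1 : F[X]) u = 0 := by
    intro u
    rw [map_sub, map_pow, aeval_X, map_one, hT, sub_self, LinearMap.zero_apply]
  have hXr : (X ^ r - 1 : F[X]) ≠ 0 := by
    have h := X_pow_sub_C_ne_zero hr.pos (1 : F)
    rwa [map_one] at h
  have hcyc : ∀ s, cyc T (v s) r = M s := by
    intro s
    have hle : cyc T (v s) r ≤ M s := cyc_le (hMi s) (hvM s) r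
    have hinv : cyc T (v s) r ∈ Module.End.invtSubmodule T := by
      have h := cyc_invt T (v s) (X ^ r - 1 : F[X]) hXr (hpoly _)
      have hd : (X ^ r - 1 : F[X]).natDegree = r := by
        have h := natDegree_X_pow_sub_C (R := F) (n := r) (r := 1)
        rwa [map_one] at h
      rwa [hd] at h
    apply Submodule.eq_of_le_of_finrank_eq hle
    apply le_antisymm (Submodule.finrank_mono hle)
    rw [hMd s]
    obtain ⟨k, hk⟩ := hdvd _ hinv (hle.trans (hMmov s))
    have hne : cyc T (v s) r ≠ ⊥ := by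
      intro h
      have h1 : (T ^ 0) (v s) ∈ cyc T (v s) r := pow_mem_cyc T (v s) hr.pos
      rw [h, pow_zero, Module.End.one_apply] at h1
      exact hv0 s ((Submodule.mem_bot F).mp h1)
    have hpos : 0 < finrank F ↥(cyc T (v s) r) := by
      rw [Nat.pos_iff_ne_zero]
      intro h0
      exact hne (Submodule.finrank_eq_zero.mp h0)
    rw [hk] at hpos ⊢
    have hk0 : 0 < k := Nat.pos_of_mul_pos_left hpos
    exact Nat.le_mul_of_pos_right c hk0
  -- the basis of the fixed space
  obtain ⟨eb⟩ : Nonempty (Module.Basis (Fin f) F ↥(fixS T)) := ⟨Module.finBasisOfFinrankEq F _ hf⟩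
  have hebfix : ∀ j, T (eb j : V) = (eb j : V) := fun j => mem_fixS.mp (eb j).2
  obtain ⟨b₀, hb₀⟩ : ∃ b₀ : ((Fin m' × Fin r) ⊕ Fin (f - m')) × Fin 1 → V,
      (∀ (s : Fin m') (i : Fin r) (u : Fin 1),
        b₀ (Sum.inl (s, i), u) = (eb (Fin.castLE hm'f s) : V) + (T ^ (i : ℕ)) (v s)) ∧
      (∀ (s : Fin (f - m')) (u : Fin 1) (h : m' + (s : ℕ) < f), b₀ (Sum.inr s, u) = (eb ⟨m' + s, h⟩ : V)) := by
    refine ⟨fun x => Sum.elim (fun si : Fin m' × Fin r => (eb (Fin.castLE hm'f si.1) : V) + (T ^ (si.2 : ℕ)) (v si.1))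
      (fun s : Fin (f - m') => (eb ⟨m' + s, by have := s.2; omega⟩ : V)) x.1, ?_, ?_⟩
    · intro s i u
      rfl
    · intro s u h
      rfl
  obtain ⟨hbl, hbr⟩ := hb₀
  have hspan : ⊤ ≤ Submodule.span F (Set.range b₀) := by
    have he : ∀ j : Fin f, (eb j : V) ∈ Submodule.span F (Set.range b₀) := by
      intro j
      rcases Nat.lt_or_ge (j : ℕ) m' with h | h
      · have hs : Fin.castLE hm'f ⟨j, h⟩ = j := Fin.ext rfl
        have h1 : ∑ i : Fin r, b₀ (Sum.inl (⟨j, h⟩, i), 0) = (r : F) • (eb j : V) := by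
          have h2 : ∀ i : Fin r, b₀ (Sum.inl (⟨j, h⟩, i), 0) = (eb j : V) + (T ^ (i : ℕ)) (v ⟨j, h⟩) := by
            intro i
            rw [hbl, hs]
          rw [Finset.sum_congr rfl (fun i _ => h2 i), Finset.sum_add_distrib, Finset.sum_const, Finset.card_univ,
            Fintype.card_fin, Fin.sum_univ_eq_sum_range (fun i => (T ^ i) (v ⟨j, h⟩)) r]
          have h3 : ∑ i ∈ Finset.range r, (T ^ i) (v ⟨j, h⟩) = Phi r T (v ⟨j, h⟩) := by
            unfold Phi
            rw [LinearMap.sum_apply]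
          rw [h3, mem_movS.mp (hMmov _ (hvM _)), add_zero, Nat.cast_smul_eq_nsmul]
        have h4 : (eb j : V) = (r : F)⁻¹ • ∑ i : Fin r, b₀ (Sum.inl (⟨j, h⟩, i), 0) := by
          rw [h1, smul_smul, inv_mul_cancel₀ hr0, one_smul]
        rw [h4]
        apply Submodule.smul_mem
        apply Submodule.sum_mem
        intro i _
        exact Submodule.subset_span ⟨_, rfl⟩
      · have hlt : (j : ℕ) - m' < f - m' := by have := j.2; omega
        have h1 := hbr ⟨(j : ℕ) - m', hlt⟩ 0 (by show m' + ((j : ℕ) - m') < f; have := j.2; omega)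
        have h2 : (⟨m' + ((j : ℕ) - m'), by have := j.2; omega⟩ : Fin f) = j := Fin.ext (by show m' + ((j : ℕ) - m') = j; omega)
        rw [← h2, ← h1]
        exact Submodule.subset_span ⟨_, rfl⟩
    have hfix : fixS T ≤ Submodule.span F (Set.range b₀) := by
      intro x hx
      have h1 := congrArg Subtype.val (eb.sum_repr ⟨x, hx⟩)
      rw [Submodule.coe_sum] at h1
      rw [← show ((⟨x, hx⟩ : ↥(fixS T)) : V) = x from rfl, ← h1]
      apply Submodule.sum_mem
      intro j _
      rw [Submodule.coe_smul]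
      exact Submodule.smul_mem _ _ (he j)
    have hmov : movS r T ≤ Submodule.span F (Set.range b₀) := by
      rw [← hUm', ← hMsup]
      apply iSup_le
      intro s
      rw [← hcyc s]
      unfold cyc
      rw [Submodule.span_le]
      rintro _ ⟨i, rfl⟩
      have h1 : (T ^ (i : ℕ)) (v s) = b₀ (Sum.inl (s, i), 0) - (eb (Fin.castLE hm'f s) : V) := by
        rw [hbl, add_sub_cancel_left]
      show (T ^ (i : ℕ)) (v s) ∈ Submodule.span F (Set.range b₀)
      rw [h1]
      exact Submodule.sub_mem _ (Submodule.subset_span ⟨_, rfl⟩) (he _)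
    rw [← (isCompl_fix_mov hr0 hT).sup_eq_top]
    exact sup_le hfix hmov
  have hcard' : Fintype.card ((Fin m' × Fin r) ⊕ Fin (f - m')) = n := by
    rw [Fintype.card_sum, Fintype.card_prod, Fintype.card_fin, Fintype.card_fin, Fintype.card_fin, hrc, ← hsum]
    have : m' * (c + 1) = c * m' + m' := by ring
    omega
  have hcard : Fintype.card ((Fin m' × Fin r) ⊕ Fin (f - m')) * 1 = finrank F V := by
    rw [mul_one, hcard', hdim]
  have hσ : ∀ (k : (Fin m' × Fin r) ⊕ Fin (f - m')) (u : Fin 1), T (b₀ (k, u)) ∈ Submodule.span F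
      (Set.range fun u' => b₀ ((Equiv.sumCongr (Equiv.prodCongr (Equiv.refl (Fin m')) (Equiv.addRight (1 : Fin r)))
        (Equiv.refl (Fin (f - m')))) k, u')) := by
    intro k u
    rcases k with ⟨s, i⟩ | s
    · have hval : (((Equiv.addRight (1 : Fin r)) i : Fin r) : ℕ) = ((i : ℕ) + 1) % r := by
        show ((i + 1 : Fin r) : ℕ) = _
        rw [Fin.val_add, Fin.val_one', Nat.add_mod_mod]
      have e1 : T (b₀ (Sum.inl (s, i), u)) = b₀ (Sum.inl (s, (Equiv.addRight (1 : Fin r)) i), u) := by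
        rw [hbl, hbl, map_add, hebfix, hval, ← pow_eq_pow_mod ((i : ℕ) + 1) hT, pow_succ', Module.End.mul_apply]
      rw [e1]
      exact Submodule.subset_span ⟨u, rfl⟩
    · have hlt : m' + (s : ℕ) < f := by have := s.2; omega
      have e1 : T (b₀ (Sum.inr s, u)) = b₀ (Sum.inr s, u) := by
        rw [hbr s u hlt, hebfix]
      rw [e1]
      exact Submodule.subset_span ⟨u, rfl⟩
  exact decomp_of_family b₀ hspan hcard (Fintype.equivFinOfCardEq hcard') T (injective_of_pow_eq_one hT) _ hσ

end Cfsg.Agent.Helper7.LOrd
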