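import Mathlib
import Cfsg.Agent.Helper7.LOrdD

set_option autoImplicit false
set_option linter.unusedSectionVars false
set_option linter.unusedVariables false

/-!
Dimension bounds for a map of prime order permuting the members of a direct sum decomposition.
-/

namespace Cfsg.Agent.Helper7.LOrd

open Module Polynomial Cfsg.Agent.Helper7.POrd

section perm

theorem perm_pow_fix {α : Type*} (τ : Equiv.Perm α) {x : α} (h : τ x = x) (m : ℕ) : (τ ^ m) x = x := by
  induction m with
  | zero => simp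
  | succ m ih => rw [pow_succ, Equiv.Perm.mul_apply, h, ih]

theorem perm_fix_of_coprime {α : Type*} (σ : Equiv.Perm α) {x : α} {k r : ℕ} (hr : 1 < r)
    (hcop : Nat.Coprime k r) (hk : (σ ^ k) x = x) (hr' : (σ ^ r) x = x) : σ x = x := by
  obtain ⟨m, -, hm⟩ := Nat.exists_mul_mod_eq_one_of_coprime hcop hr
  have h1 : (σ ^ (k * m)) x = x := by
    rw [pow_mul]
    exact perm_pow_fix _ hk m
  have h2 : k * m = r * (k * m / r) + 1 := by
    have := Nat.div_add_mod (k * m) r
    omega
  rw [h2, pow_succ', Equiv.Perm.mul_apply, pow_mul, perm_pow_fix _ hr'] at h1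
  exact h1

theorem perm_pow_mod {α : Type*} (σ : Equiv.Perm α) {x : α} {r : ℕ} (hr' : (σ ^ r) x = x) (m : ℕ) :
    (σ ^ m) x = (σ ^ (m % r)) x := by
  conv_lhs => rw [← Nat.mod_add_div m r, pow_add, Equiv.Perm.mul_apply, pow_mul, perm_pow_fix _ hr']

end perm

section general

variable {F : Type*} [Field F] {V : Type*} [AddCommGroup V] [Module F V] [FiniteDimensional F V]

theorem finrank_biSup {ι : Type*} [DecidableEq ι] {E : ι → Submodule F V} (hind : iSupIndep E) (S : Finset ι) :
    finrank F ↥(⨆ j ∈ S, E j) = ∑ j ∈ S, finrank F ↥(E j) := by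
  induction S using Finset.induction_on with
  | empty => simp
  | insert j₀ S hj₀ ih =>
    rw [Finset.iSup_insert, Finset.sum_insert hj₀, ← ih]
    have hd : Disjoint (E j₀) (⨆ j ∈ S, E j) :=
      hind.disjoint_biSup (y := (S : Set ι)) (by simpa using hj₀)
    have h := Submodule.finrank_sup_add_finrank_inf_eq (E j₀) (⨆ j ∈ S, E j)
    rw [hd.eq_bot, finrank_bot, add_zero] at h
    exact h

theorem finrank_iSup {ι : Type*} [Fintype ι] {E : ι → Submodule F V} (hind : iSupIndep E) :
    finrank F ↥(⨆ j, E j) = ∑ j, finrank F ↥(E j) := by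
  classical
  have h := finrank_biSup hind Finset.univ
  have h0 : (⨆ j ∈ (Finset.univ : Finset ι), E j) = ⨆ j, E j := by simp
  rwa [h0] at h

variable {T : Module.End F V} {t a r : ℕ} {D : Fin t → Submodule F V} {σ : Equiv.Perm (Fin t)}

theorem map_pow_eq (hσ : ∀ j, (D j).map T = D (σ j)) (j : Fin t) (k : ℕ) :
    (D j).map (T ^ k) = D ((σ ^ k) j) := by
  induction k with
  | zero => simp [Module.End.one_eq_id]
  | succ k ih =>
    rw [pow_succ', pow_succ', Equiv.Perm.mul_apply, ← hσ, ← ih, Module.End.mul_eq_comp, Submodule.map_comp]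

theorem pow_apply_mem (hσ : ∀ j, (D j).map T = D (σ j)) {j : Fin t} {u : V} (hu : u ∈ D j) (k : ℕ) :
    (T ^ k) u ∈ D ((σ ^ k) j) := by
  rw [← map_pow_eq hσ]
  exact Submodule.mem_map_of_mem hu

theorem D_inj (hind : iSupIndep D) (ha : 0 < a) (hDd : ∀ j, finrank F ↥(D j) = a) : Function.Injective D := by
  apply hind.injective
  intro j h
  have := hDd j
  rw [h, finrank_bot] at this
  omega

theorem perm_pow_eq (hind : iSupIndep D) (ha : 0 < a) (hDd : ∀ j, finrank F ↥(D j) = a) (hT : T ^ r = 1)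
    (hσ : ∀ j, (D j).map T = D (σ j)) (j : Fin t) : (σ ^ r) j = j := by
  apply D_inj hind ha hDd
  rw [← map_pow_eq hσ, hT, Module.End.one_eq_id, Submodule.map_id]

theorem pow_ne_of_ne (hr : r.Prime) (hind : iSupIndep D) (ha : 0 < a) (hDd : ∀ j, finrank F ↥(D j) = a)
    (hT : T ^ r = 1) (hσ : ∀ j, (D j).map T = D (σ j)) {j₀ : Fin t} (hj₀ : σ j₀ ≠ j₀) {k : ℕ} (hk0 : 0 < k)
    (hkr : k < r) : (σ ^ k) j₀ ≠ j₀ := by
  intro hk
  apply hj₀
  have hcop : Nat.Coprime k r := by
    rw [Nat.coprime_comm]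
    exact Nat.coprime_of_lt_prime (by omega) hkr hr
  exact perm_fix_of_coprime σ hr.one_lt hcop hk (perm_pow_eq hind ha hDd hT hσ j₀)

theorem orbit_injective (hr : r.Prime) (hind : iSupIndep D) (ha : 0 < a) (hDd : ∀ j, finrank F ↥(D j) = a)
    (hT : T ^ r = 1) (hσ : ∀ j, (D j).map T = D (σ j)) {j₀ : Fin t} (hj₀ : σ j₀ ≠ j₀) :
    Function.Injective (fun k : Fin r => (σ ^ (k : ℕ)) j₀) := by
  intro k l hkl
  have hkl' : (σ ^ (k : ℕ)) j₀ = (σ ^ (l : ℕ)) j₀ := hkl
  by_contra hne
  have hne' : (k : ℕ) ≠ (l : ℕ) := fun h => hne (Fin.ext h)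
  rcases Nat.lt_or_gt_of_ne hne' with h | h
  · have e : (l : ℕ) = k + (l - k) := by omega
    rw [e, pow_add, Equiv.Perm.mul_apply] at hkl'
    have := (σ ^ (k : ℕ)).injective hkl'
    exact pow_ne_of_ne hr hind ha hDd hT hσ hj₀ (by omega) (by have := l.2; omega) this.symm
  · have e : (k : ℕ) = l + (k - l) := by omega
    rw [e, pow_add, Equiv.Perm.mul_apply] at hkl'
    have := (σ ^ (l : ℕ)).injective hkl'
    exact pow_ne_of_ne hr hind ha hDd hT hσ hj₀ (by omega) (by have := k.2; omega) this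

theorem Phi_mul_pow (hT : T ^ r = 1) (k : ℕ) : Phi r T * T ^ k = Phi r T := by
  have h1 : Phi r T * T = Phi r T := by
    have h := Phi_mul_sub r T
    rw [hT, sub_self, mul_sub, mul_one, sub_eq_zero] at h
    exact h
  induction k with
  | zero => rw [pow_zero, mul_one]
  | succ k ih => rw [pow_succ, ← mul_assoc, ih, h1]

/-- on a moved member, the averaging map is injective. -/
theorem phi_inj_of_moved (hr : r.Prime) (hind : iSupIndep D) (ha : 0 < a) (hDd : ∀ j, finrank F ↥(D j) = a)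
    (hT : T ^ r = 1) (hσ : ∀ j, (D j).map T = D (σ j)) {j₀ : Fin t} (hj₀ : σ j₀ ≠ j₀) {u : V} (hu : u ∈ D j₀)
    (h0 : Phi r T u = 0) : u = 0 := by
  have hE : iSupIndep (fun k : Fin r => D ((σ ^ (k : ℕ)) j₀)) :=
    hind.comp (orbit_injective hr hind ha hDd hT hσ hj₀)
  have hd := hE ⟨0, hr.pos⟩
  rw [Submodule.disjoint_def] at hd
  apply hd u
  · show u ∈ D ((σ ^ 0) j₀)
    rw [pow_zero]
    exact hu
  · have h1 : Phi r T u = u + ∑ k ∈ Finset.Ico 1 r, (T ^ k) u := by
      unfold Phi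
      rw [LinearMap.sum_apply, Finset.range_eq_Ico, Finset.sum_eq_sum_Ico_succ_bot hr.pos, pow_zero,
        Module.End.one_apply]
    rw [h1] at h0
    have h2 : u = -∑ k ∈ Finset.Ico 1 r, (T ^ k) u := eq_neg_of_add_eq_zero_left h0
    rw [h2]
    apply Submodule.neg_mem
    apply Submodule.sum_mem
    intro k hk
    rw [Finset.mem_Ico] at hk
    apply Submodule.mem_iSup_of_mem (⟨k, hk.2⟩ : Fin r)
    apply Submodule.mem_iSup_of_mem (by
      intro h
      have := congrArg Fin.val h
      simp at this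
      omega)
    exact pow_apply_mem hσ hu k

/-- **a moved member**: the fixed space and the moved space are large. -/
theorem moved_bounds (hr : r.Prime) (hr0 : (r : F) ≠ 0) (hind : iSupIndep D) (ha : 0 < a)
    (hDd : ∀ j, finrank F ↥(D j) = a) (hT : T ^ r = 1) (hσ : ∀ j, (D j).map T = D (σ j)) {j₀ : Fin t}
    (hj₀ : σ j₀ ≠ j₀) : a ≤ finrank F ↥(fixS T) ∧ a * (r - 1) ≤ finrank F ↥(movS r T) := by
  constructor
  · have hinj : Function.Injective ((Phi r T).domRestrict (D j₀)) := by
      rw [← LinearMap.ker_eq_bot, eq_bot_iff]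
      intro u hu
      rw [LinearMap.mem_ker, LinearMap.domRestrict_apply] at hu
      have := phi_inj_of_moved hr hind ha hDd hT hσ hj₀ u.2 hu
      exact (Submodule.mem_bot F).mpr (Subtype.ext this)
    have h1 := LinearMap.finrank_range_of_inj hinj
    rw [hDd j₀] at h1
    rw [← h1]
    apply Submodule.finrank_mono
    rintro _ ⟨u, rfl⟩
    rw [LinearMap.domRestrict_apply]
    exact Phi_mem_fixS hT _
  · have hE : iSupIndep (fun k : Fin r => D ((σ ^ (k : ℕ)) j₀)) :=
      hind.comp (orbit_injective hr hind ha hDd hT hσ hj₀)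
    have hWd : finrank F ↥(⨆ k : Fin r, D ((σ ^ (k : ℕ)) j₀)) = r * a := by
      rw [finrank_iSup hE, Finset.sum_congr rfl (fun k _ => hDd _), Finset.sum_const, Finset.card_univ,
        Fintype.card_fin, smul_eq_mul]
    have hWi : (⨆ k : Fin r, D ((σ ^ (k : ℕ)) j₀)) ∈ Module.End.invtSubmodule T := by
      rw [Module.End.mem_invtSubmodule]
      apply iSup_le
      intro k x hx
      rw [Submodule.mem_comap]
      have h1 : T x ∈ D ((σ ^ ((k : ℕ) + 1)) j₀) := by
        have := pow_apply_mem hσ hx 1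
        rwa [pow_one, pow_one, ← Equiv.Perm.mul_apply, ← pow_succ'] at this
      rw [perm_pow_mod σ (perm_pow_eq hind ha hDd hT hσ j₀)] at h1
      exact Submodule.mem_iSup_of_mem (⟨((k : ℕ) + 1) % r, Nat.mod_lt _ hr.pos⟩ : Fin r) h1
    have hclaim : ∀ w ∈ ⨆ k : Fin r, D ((σ ^ (k : ℕ)) j₀), Phi r T w ∈ (D j₀).map (Phi r T) := by
      intro w hw
      induction hw using Submodule.iSup_induction' with
      | mem k x hx =>
        rw [← map_pow_eq hσ] at hx
        obtain ⟨u, hu, rfl⟩ := Submodule.mem_map.mp hx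
        rw [← Module.End.mul_apply, Phi_mul_pow hT]
        exact Submodule.mem_map_of_mem hu
      | zero => rw [map_zero]; exact Submodule.zero_mem _
      | add x y _ _ hx hy => rw [map_add]; exact Submodule.add_mem _ hx hy
    have hfixle : finrank F ↥((⨆ k : Fin r, D ((σ ^ (k : ℕ)) j₀)) ⊓ fixS T) ≤ a := by
      have h1 : (⨆ k : Fin r, D ((σ ^ (k : ℕ)) j₀)) ⊓ fixS T ≤ (D j₀).map (Phi r T) := by
        rintro v ⟨hv1, hv2⟩
        have h2 : Phi r T v = (r : F) • v := Phi_apply_of_fixed (mem_fixS.mp hv2)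
        have h3 : v = (r : F)⁻¹ • Phi r T v := by rw [h2, smul_smul, inv_mul_cancel₀ hr0, one_smul]
        rw [h3]
        exact Submodule.smul_mem _ _ (hclaim v hv1)
      refine (Submodule.finrank_mono h1).trans ?_
      rw [← hDd j₀]
      exact Submodule.finrank_map_le _ _
    have hdec := finrank_invt_decomp hr0 hT hWi
    rw [hWd] at hdec
    have hmovle : finrank F ↥((⨆ k : Fin r, D ((σ ^ (k : ℕ)) j₀)) ⊓ movS r T) ≤ finrank F ↥(movS r T) :=
      Submodule.finrank_mono inf_le_right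
    have hr1 : r - 1 + 1 = r := Nat.sub_add_cancel hr.pos
    have h5 : a * (r - 1) + a = r * a := by
      calc a * (r - 1) + a = a * (r - 1 + 1) := by ring
        _ = r * a := by rw [hr1, mul_comm]
    omega

/-- **all members invariant**: the fixed and moved spaces split. -/
theorem sum_fix_mov_eq (hr0 : (r : F) ≠ 0) (hT : T ^ r = 1) (hind : iSupIndep D) (hsup : (⨆ j, D j) = ⊤)
    (hinv : ∀ j, D j ∈ Module.End.invtSubmodule T) :
    ∑ j, finrank F ↥(D j ⊓ fixS T) = finrank F ↥(fixS T) ∧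
      ∑ j, finrank F ↥(D j ⊓ movS r T) = finrank F ↥(movS r T) := by
  have h1 : ∑ j, finrank F ↥(D j ⊓ fixS T) ≤ finrank F ↥(fixS T) := by
    rw [← finrank_iSup (hind.mono (fun j => (inf_le_left : D j ⊓ fixS T ≤ D j)))]
    apply Submodule.finrank_mono
    exact iSup_le (fun j => inf_le_right)
  have h2 : ∑ j, finrank F ↥(D j ⊓ movS r T) ≤ finrank F ↥(movS r T) := by
    rw [← finrank_iSup (hind.mono (fun j => (inf_le_left : D j ⊓ movS r T ≤ D j)))]
    apply Submodule.finrank_mono
    exact iSup_le (fun j => inf_le_right)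
  have h3 : ∑ j, finrank F ↥(D j) = finrank F V := by
    rw [← finrank_iSup hind, hsup, finrank_top]
  have h4 : ∑ j, finrank F ↥(D j) = ∑ j, finrank F ↥(D j ⊓ fixS T) + ∑ j, finrank F ↥(D j ⊓ movS r T) := by
    rw [← Finset.sum_add_distrib]
    exact Finset.sum_congr rfl (fun j _ => finrank_invt_decomp hr0 hT (hinv j))
  have h5 := finrank_fix_add_mov hr0 hT
  omega

end general

end Cfsg.Agent.Helper7.LOrd
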