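import Mathlib
import Cfsg.Prelude.Def_GeometricClasses
import Cfsg.Agent.Helper7.LOrdE

set_option autoImplicit false
set_option linter.unusedSectionVars false
set_option linter.unusedVariables false

/-!
# Normalisers of extraspecial groups: the action on column vectors, scalars, commutators
-/

namespace Cfsg.Agent.Helper7.ExSp

open Module Matrix

variable {F : Type*} [Field F] {n : ℕ}

/-- the action of `GL_n(F)` on column vectors. -/
noncomputable def act (u : GL (Fin n) F) : Module.End F (Fin n → F) :=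
  Matrix.toLin' (u : Matrix (Fin n) (Fin n) F)

theorem act_mul (u v : GL (Fin n) F) : act (u * v) = act u * act v := by
  unfold act
  rw [Units.val_mul, Matrix.toLin'_mul]
  rfl

theorem act_one : act (1 : GL (Fin n) F) = 1 := by
  unfold act
  rw [Units.val_one, Matrix.toLin'_one]
  rfl

theorem act_mul_apply (u v : GL (Fin n) F) (w : Fin n → F) : act (u * v) w = act u (act v w) := by
  rw [act_mul]
  rfl

theorem act_inv_apply (u : GL (Fin n) F) (w : Fin n → F) : act u⁻¹ (act u w) = w := by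
  rw [← act_mul_apply, inv_mul_cancel, act_one]
  rfl

theorem act_apply_inv (u : GL (Fin n) F) (w : Fin n → F) : act u (act u⁻¹ w) = w := by
  rw [← act_mul_apply, mul_inv_cancel, act_one]
  rfl

theorem act_pow (u : GL (Fin n) F) (k : ℕ) : act (u ^ k) = act u ^ k := by
  induction k with
  | zero => rw [pow_zero, pow_zero, act_one]
  | succ k ih => rw [pow_succ, pow_succ, act_mul, ih]

theorem act_inj {u v : GL (Fin n) F} (h : act u = act v) : u = v := by
  unfold act at h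
  exact Units.ext (Matrix.toLin'.injective h)

/-- the action as a linear equivalence. -/
noncomputable def actE (u : GL (Fin n) F) : (Fin n → F) ≃ₗ[F] (Fin n → F) :=
  LinearEquiv.ofLinear (act u) (act u⁻¹)
    (LinearMap.ext fun w => act_apply_inv u w) (LinearMap.ext fun w => act_inv_apply u w)

theorem actE_apply (u : GL (Fin n) F) (w : Fin n → F) : actE u w = act u w := rfl

theorem act_injective (u : GL (Fin n) F) : Function.Injective (act u) := (actE u).injective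

theorem act_ne_zero (u : GL (Fin n) F) {w : Fin n → F} (hw : w ≠ 0) : act u w ≠ 0 := by
  intro h
  apply hw
  apply act_injective u
  rw [h, map_zero]

/-- the scalar matrices. -/
noncomputable def sc : Fˣ →* GL (Fin n) F :=
  Units.map (Matrix.scalar (Fin n) : F →+* Matrix (Fin n) (Fin n) F).toMonoidHom

theorem sc_val (ζ : Fˣ) : ((sc ζ : GL (Fin n) F) : Matrix (Fin n) (Fin n) F) = (ζ : F) • (1 : Matrix (Fin n) (Fin n) F) := by
  unfold sc
  simp [Matrix.smul_one_eq_diagonal]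

theorem act_sc (ζ : Fˣ) : act (sc ζ : GL (Fin n) F) = (ζ : F) • (1 : Module.End F (Fin n → F)) := by
  unfold act
  rw [sc_val, map_smul, Matrix.toLin'_one]
  rfl

theorem act_sc_apply (ζ : Fˣ) (w : Fin n → F) : act (sc ζ : GL (Fin n) F) w = (ζ : F) • w := by
  rw [act_sc]
  rfl

theorem sc_comm (ζ : Fˣ) (u : GL (Fin n) F) : sc ζ * u = u * sc ζ := by
  apply Units.ext
  rw [Units.val_mul, Units.val_mul, sc_val, Matrix.smul_mul, Matrix.mul_smul, Matrix.one_mul, Matrix.mul_one]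

theorem mem_scalars_iff_sc (u : GL (Fin n) F) : u ∈ Cfsg.Geo.scalars (Fin n) F ↔ ∃ ζ : Fˣ, u = sc ζ := by
  constructor
  · rintro ⟨ζ, rfl⟩
    exact ⟨ζ, rfl⟩
  · rintro ⟨ζ, rfl⟩
    exact ⟨ζ, rfl⟩

theorem sc_mem (ζ : Fˣ) : (sc ζ : GL (Fin n) F) ∈ Cfsg.Geo.scalars (Fin n) F := ⟨ζ, rfl⟩

/-- a scalar fixing a nonzero vector is `1`. -/
theorem sc_eq_one_of_fix {ζ : Fˣ} {w : Fin n → F} (hw : w ≠ 0) (h : act (sc ζ : GL (Fin n) F) w = w) :
    ζ = 1 := by
  rw [act_sc_apply] at h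
  have h1 : ((ζ : F) - 1) • w = 0 := by rw [sub_smul, h, one_smul, sub_self]
  rcases smul_eq_zero.mp h1 with h2 | h2
  · apply Units.ext
    rw [Units.val_one]
    exact sub_eq_zero.mp h2
  · exact absurd h2 hw

theorem scalar_eq_one_of_fix {u : GL (Fin n) F} (hu : u ∈ Cfsg.Geo.scalars (Fin n) F) {w : Fin n → F}
    (hw : w ≠ 0) (h : act u w = w) : u = 1 := by
  obtain ⟨ζ, rfl⟩ := (mem_scalars_iff_sc u).mp hu
  rw [sc_eq_one_of_fix hw h, map_one]

theorem scalar_comm {u : GL (Fin n) F} (hu : u ∈ Cfsg.Geo.scalars (Fin n) F) (v : GL (Fin n) F) :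
    u * v = v * u := by
  obtain ⟨ζ, rfl⟩ := (mem_scalars_iff_sc u).mp hu
  exact sc_comm ζ v

/-! ### the group `H = R · scalars` -/

/-- `H = R ⊔ scalars`. -/
noncomputable def HH (R : Subgroup (GL (Fin n) F)) : Subgroup (GL (Fin n) F) := R ⊔ Cfsg.Geo.scalars (Fin n) F

theorem mem_HH_iff {R : Subgroup (GL (Fin n) F)} {u : GL (Fin n) F} :
    u ∈ HH R ↔ ∃ x ∈ R, ∃ ζ : Fˣ, u = x * sc ζ := by
  unfold HH
  rw [← SetLike.mem_coe, Subgroup.mul_normal, Set.mem_mul]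
  constructor
  · rintro ⟨x, hx, z, hz, rfl⟩
    obtain ⟨ζ, rfl⟩ := (mem_scalars_iff_sc z).mp hz
    exact ⟨x, hx, ζ, rfl⟩
  · rintro ⟨x, hx, ζ, rfl⟩
    exact ⟨x, hx, sc ζ, sc_mem ζ, rfl⟩

theorem mem_HH_of_mem {R : Subgroup (GL (Fin n) F)} {u : GL (Fin n) F} (hu : u ∈ R) : u ∈ HH R :=
  (le_sup_left : R ≤ R ⊔ Cfsg.Geo.scalars (Fin n) F) hu

theorem mem_HH_of_scalar {R : Subgroup (GL (Fin n) F)} {u : GL (Fin n) F}
    (hu : u ∈ Cfsg.Geo.scalars (Fin n) F) : u ∈ HH R :=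
  (le_sup_right : Cfsg.Geo.scalars (Fin n) F ≤ R ⊔ Cfsg.Geo.scalars (Fin n) F) hu

/-! ### quasi-commutation -/

/-- `u v = ζ v u`. -/
def QC (ζ : Fˣ) (u v : GL (Fin n) F) : Prop := u * v = sc ζ * (v * u)

theorem sc_left_comm (ζ : Fˣ) (a b : GL (Fin n) F) : a * (sc ζ * b) = sc ζ * (a * b) := by
  rw [← mul_assoc, ← sc_comm, mul_assoc]

theorem QC.mul_right {ζ ζ' : Fˣ} {u v w : GL (Fin n) F} (h1 : QC ζ u v) (h2 : QC ζ' u w) :
    QC (ζ * ζ') u (v * w) := by
  unfold QC at *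
  calc u * (v * w) = (u * v) * w := (mul_assoc _ _ _).symm
    _ = sc ζ * (v * (u * w)) := by rw [h1]; simp only [mul_assoc]
    _ = sc ζ * (sc ζ' * (v * (w * u))) := by rw [h2, sc_left_comm]
    _ = sc (ζ * ζ') * (v * w * u) := by rw [map_mul]; simp only [mul_assoc]

theorem QC.mul_left {ζ ζ' : Fˣ} {u v w : GL (Fin n) F} (h1 : QC ζ u w) (h2 : QC ζ' v w) :
    QC (ζ * ζ') (u * v) w := by
  unfold QC at *
  calc u * v * w = u * (v * w) := mul_assoc _ _ _
    _ = sc ζ' * ((u * w) * v) := by rw [h2, sc_left_comm]; simp only [mul_assoc]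
    _ = sc ζ' * (sc ζ * (w * (u * v))) := by rw [h1]; simp only [mul_assoc]
    _ = sc (ζ * ζ') * (w * (u * v)) := by rw [mul_comm ζ ζ', map_mul]; simp only [mul_assoc]

theorem QC.symm {ζ : Fˣ} {u v : GL (Fin n) F} (h : QC ζ u v) : QC ζ⁻¹ v u := by
  unfold QC at *
  rw [h, ← mul_assoc, ← map_mul, inv_mul_cancel, map_one, one_mul]

theorem QC.self (u : GL (Fin n) F) : QC 1 u u := by
  unfold QC
  rw [map_one, one_mul]

theorem QC.sc_right (u : GL (Fin n) F) (s : Fˣ) : QC 1 u (sc s) := by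
  unfold QC
  rw [map_one, one_mul, sc_comm]

theorem QC.sc_left (u : GL (Fin n) F) (s : Fˣ) : QC 1 (sc s) u := by
  unfold QC
  rw [map_one, one_mul, sc_comm]

theorem QC.one_right (u : GL (Fin n) F) : QC 1 u 1 := by
  unfold QC
  rw [map_one, one_mul, mul_one, one_mul]

theorem QC.inv_right {ζ : Fˣ} {u v : GL (Fin n) F} (h : QC ζ u v) : QC ζ⁻¹ u v⁻¹ := by
  unfold QC at *
  -- u v⁻¹ = ζ⁻¹ v⁻¹ u  ⟸  v u v⁻¹ = ζ⁻¹ u ⟸ v u = ζ⁻¹ u v
  have h1 : v * u = sc ζ⁻¹ * (u * v) := by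
    rw [h, ← mul_assoc, ← map_mul, inv_mul_cancel, map_one, one_mul]
  have h2 : v⁻¹ * (v * u) * v⁻¹ = v⁻¹ * (sc ζ⁻¹ * (u * v)) * v⁻¹ := by rw [h1]
  rw [inv_mul_cancel_left, ← mul_assoc, ← sc_comm, mul_assoc, mul_assoc, mul_assoc, mul_inv_cancel,
    mul_one] at h2
  exact h2

theorem QC.inv_left {ζ : Fˣ} {u v : GL (Fin n) F} (h : QC ζ u v) : QC ζ⁻¹ u⁻¹ v := by
  have := (h.symm.inv_right).symm
  rwa [inv_inv] at this

theorem QC.conj {ζ : Fˣ} {u v : GL (Fin n) F} (h : QC ζ u v) (g : GL (Fin n) F) :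
    QC ζ (g⁻¹ * u * g) (g⁻¹ * v * g) := by
  unfold QC at *
  have e1 : g⁻¹ * u * g * (g⁻¹ * v * g) = g⁻¹ * (u * v) * g := by
    simp only [mul_assoc, mul_inv_cancel_left]
  have e2 : g⁻¹ * v * g * (g⁻¹ * u * g) = g⁻¹ * (v * u) * g := by
    simp only [mul_assoc, mul_inv_cancel_left]
  rw [e1, e2, h, ← mul_assoc g⁻¹, ← sc_comm ζ g⁻¹]
  simp only [mul_assoc]

theorem QC.pow_right {ζ : Fˣ} {u v : GL (Fin n) F} (h : QC ζ u v) (k : ℕ) : QC (ζ ^ k) u (v ^ k) := by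
  induction k with
  | zero =>
    rw [pow_zero, pow_zero]
    exact QC.one_right u
  | succ k ih =>
    rw [pow_succ, pow_succ]
    exact ih.mul_right h

theorem QC.pow_left {ζ : Fˣ} {u v : GL (Fin n) F} (h : QC ζ u v) (k : ℕ) : QC (ζ ^ k) (u ^ k) v := by
  have := (h.symm.pow_right k).symm
  rwa [inv_pow, inv_inv] at this

theorem QC.commute {u v : GL (Fin n) F} (h : QC 1 u v) : u * v = v * u := by
  unfold QC at h
  rwa [map_one, one_mul] at h

theorem QC.of_commute {u v : GL (Fin n) F} (h : u * v = v * u) : QC 1 u v := by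
  unfold QC
  rwa [map_one, one_mul]

/-- the derived data of an absolutely irreducible extraspecial `r`-group. -/
structure ES (R : Subgroup (GL (Fin n) F)) (r : ℕ) : Prop where
  rp : r.Prime
  pos : 0 < n
  comm : ∀ x ∈ R, ∀ y ∈ R, ∃ ζ : Fˣ, ζ ^ r = 1 ∧ QC ζ x y
  cent : ∀ u : GL (Fin n) F, (∀ x ∈ R, u * x = x * u) → u ∈ Cfsg.Geo.scalars (Fin n) F
  irr : ∀ W : Submodule F (Fin n → F), (∀ x ∈ R, W.map (act x) ≤ W) → W = ⊥ ∨ W = ⊤
  nonab : ∃ x ∈ R, ∃ y ∈ R, x * y ≠ y * x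

variable {R : Subgroup (GL (Fin n) F)} {r : ℕ}

/-- elements of `H` quasi-commute, with a factor of order dividing `r`. -/
theorem ES.commH (hE : ES R r) {u v : GL (Fin n) F} (hu : u ∈ HH R) (hv : v ∈ HH R) :
    ∃ ζ : Fˣ, ζ ^ r = 1 ∧ QC ζ u v := by
  obtain ⟨x, hx, s, rfl⟩ := mem_HH_iff.mp hu
  obtain ⟨y, hy, t, rfl⟩ := mem_HH_iff.mp hv
  obtain ⟨ζ, hζ, h⟩ := hE.comm x hx y hy
  refine ⟨ζ, hζ, ?_⟩
  have h1 : QC (ζ * 1) x (y * sc t) := h.mul_right (QC.sc_right x t)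
  have h2 : QC (1 * 1) (sc s) (y * sc t) := (QC.sc_left y s).mul_right (QC.sc_left (sc t) s)
  have h3 := h1.mul_left h2
  simpa using h3

theorem sc_injective (hn : 0 < n) : Function.Injective (sc : Fˣ → GL (Fin n) F) := by
  intro ζ ζ' h
  have h1 := congrArg (fun u : GL (Fin n) F => (u : Matrix (Fin n) (Fin n) F) ⟨0, hn⟩ ⟨0, hn⟩) h
  simp only [sc_val, Matrix.smul_apply, Matrix.one_apply_eq, smul_eq_mul, mul_one] at h1
  exact Units.ext h1

theorem QC.unique (hn : 0 < n) {ζ ζ' : Fˣ} {u v : GL (Fin n) F} (h : QC ζ u v) (h' : QC ζ' u v) : ζ = ζ' := by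
  unfold QC at *
  rw [h] at h'
  exact sc_injective hn (mul_right_cancel h')

/-- a nonscalar element of `H` has a partner in `R` with nontrivial commutator. -/
theorem ES.exists_partner (hE : ES R r) {u : GL (Fin n) F} (hu : u ∈ HH R)
    (hns : u ∉ Cfsg.Geo.scalars (Fin n) F) :
    ∃ y ∈ R, ∃ ζ : Fˣ, ζ ^ r = 1 ∧ ζ ≠ 1 ∧ QC ζ y u := by
  by_contra hcon
  apply hns
  apply hE.cent
  intro y hy
  obtain ⟨ζ, hζ, h⟩ := hE.commH (mem_HH_of_mem hy) hu
  by_cases h1 : ζ = 1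
  · rw [h1] at h
    exact h.commute.symm
  · exfalso
    exact hcon ⟨y, hy, ζ, hζ, h1, h⟩

theorem ES.pow_r_scalar (hE : ES R r) {u : GL (Fin n) F} (hu : u ∈ HH R) :
    u ^ r ∈ Cfsg.Geo.scalars (Fin n) F := by
  apply hE.cent
  intro y hy
  obtain ⟨ζ, hζ, h⟩ := hE.commH hu (mem_HH_of_mem hy)
  have h1 := h.pow_left r
  rw [hζ] at h1
  exact h1.commute

/-- elements of `H` with a common nonzero fixed vector commute. -/
theorem ES.commute_of_fix (hE : ES R r) {u v : GL (Fin n) F} (hu : u ∈ HH R) (hv : v ∈ HH R)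
    {w : Fin n → F} (hw : w ≠ 0) (huw : act u w = w) (hvw : act v w = w) : u * v = v * u := by
  obtain ⟨ζ, hζ, h⟩ := hE.commH hu hv
  have h1 : act (u * v) w = act (sc ζ * (v * u)) w := by rw [h]
  rw [act_mul_apply, act_mul_apply, act_mul_apply, hvw, huw, hvw, act_sc_apply] at h1
  have h2 : ζ = 1 := by
    apply sc_eq_one_of_fix hw
    rw [act_sc_apply]
    exact h1.symm
  rw [h2] at h
  exact h.commute

/-- an element of `H` with a nonzero fixed vector has `u ^ r = 1`. -/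
theorem ES.pow_r_eq_one_of_fix (hE : ES R r) {u : GL (Fin n) F} (hu : u ∈ HH R)
    {w : Fin n → F} (hw : w ≠ 0) (huw : act u w = w) : u ^ r = 1 := by
  apply scalar_eq_one_of_fix (hE.pow_r_scalar hu) hw
  rw [act_pow]
  have : ∀ k : ℕ, (act u ^ k) w = w := by
    intro k
    induction k with
    | zero => simp
    | succ k ih => rw [pow_succ, Module.End.mul_apply, huw, ih]
  exact this r

end Cfsg.Agent.Helper7.ExSp
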