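import Mathlib
import Cfsg.Agent.Helper7.ExSpA

set_option autoImplicit false
set_option linter.unusedSectionVars false
set_option linter.unusedVariables false

/-!
# Normalisers of extraspecial groups: eigenspaces
-/

namespace Cfsg.Agent.Helper7.ExSp

open Module Matrix Cfsg.Agent.Helper7.LOrd

variable {F : Type*} [Field F] {n : ℕ}

/-- `u y = ζ y u`: then `y` maps the `μ`-eigenspace of `u` into the `ζ μ`-eigenspace. -/
theorem map_eig_le {ζ : Fˣ} {u y : GL (Fin n) F} (h : QC ζ u y) (μ : F) :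
    (Module.End.eigenspace (act u) μ).map (act y) ≤ Module.End.eigenspace (act u) ((ζ : F) * μ) := by
  rintro - ⟨v, hv, rfl⟩
  rw [SetLike.mem_coe, Module.End.mem_eigenspace_iff] at hv
  rw [Module.End.mem_eigenspace_iff, ← act_mul_apply, h, act_mul_apply, act_mul_apply, hv, act_sc_apply,
    map_smul, smul_smul]

theorem finrank_eig_le {ζ : Fˣ} {u y : GL (Fin n) F} (h : QC ζ u y) (μ : F) :
    finrank F ↥(Module.End.eigenspace (act u) μ) ≤ finrank F ↥(Module.End.eigenspace (act u) ((ζ : F) * μ)) := by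
  have h1 := Submodule.finrank_mono (map_eig_le h μ)
  have h2 : (Module.End.eigenspace (act u) μ).map (act y) =
      (Module.End.eigenspace (act u) μ).map (actE y : (Fin n → F) →ₗ[F] (Fin n → F)) := rfl
  rw [h2, LinearEquiv.finrank_map_eq] at h1
  exact h1

theorem finrank_eig_pow_le {ζ : Fˣ} {u y : GL (Fin n) F} (h : QC ζ u y) (μ : F) (k : ℕ) :
    finrank F ↥(Module.End.eigenspace (act u) μ) ≤
      finrank F ↥(Module.End.eigenspace (act u) (((ζ ^ k : Fˣ) : F) * μ)) := by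
  have := finrank_eig_le (h.pow_right k) μ
  exact this

theorem finrank_eig_pow_eq {ζ : Fˣ} {u y : GL (Fin n) F} (h : QC ζ u y) {r : ℕ} (hr : 0 < r)
    (hζ : ζ ^ r = 1) (μ : F) (k : ℕ) (hk : k ≤ r) :
    finrank F ↥(Module.End.eigenspace (act u) (((ζ ^ k : Fˣ) : F) * μ)) =
      finrank F ↥(Module.End.eigenspace (act u) μ) := by
  apply le_antisymm _ (finrank_eig_pow_le h μ k)
  have h1 := finrank_eig_pow_le h (((ζ ^ k : Fˣ) : F) * μ) (r - k)
  rw [← mul_assoc, ← Units.val_mul, ← pow_add, Nat.sub_add_cancel hk, hζ, Units.val_one, one_mul] at h1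
  exact h1

/-! ### operators of order dividing `r` are diagonalisable -/

section diag

variable {V : Type*} [AddCommGroup V] [Module F V]

theorem geom_sum_root {ξ : F} {r : ℕ} (hξ : ξ ^ r = 1) (hξ1 : ξ ≠ 1) : ∑ k ∈ Finset.range r, ξ ^ k = 0 := by
  have h := mul_geom_sum ξ r
  rw [hξ, sub_self] at h
  rcases mul_eq_zero.mp h with h1 | h1
  · exact absurd (sub_eq_zero.mp h1) hξ1
  · exact h1

/-- the `k`-th spectral projection (times `r`). -/
noncomputable def sproj (T : Module.End F V) (ξ : F) (r k : ℕ) (v : V) : V :=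
  ∑ j ∈ Finset.range r, (ξ⁻¹ ^ (j * k)) • (T ^ j) v

theorem sproj_mem_eig {T : Module.End F V} {ξ : F} {r : ℕ} (hr : 0 < r) (hT : T ^ r = 1) (hξ : ξ ^ r = 1)
    (k : ℕ) (v : V) : sproj T ξ r k v ∈ Module.End.eigenspace T (ξ ^ k) := by
  have hξ0 : ξ ≠ 0 := by
    intro h
    rw [h, zero_pow hr.ne'] at hξ
    exact zero_ne_one hξ
  rw [Module.End.mem_eigenspace_iff]
  unfold sproj
  obtain ⟨m, rfl⟩ : ∃ m, r = m + 1 := ⟨r - 1, by omega⟩
  rw [map_sum, Finset.smul_sum]
  have e1 : ∀ j ∈ Finset.range (m + 1), T ((ξ⁻¹ ^ (j * k)) • (T ^ j) v) =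
      ξ ^ k • ((ξ⁻¹ ^ ((j + 1) * k)) • (T ^ (j + 1)) v) := by
    intro j _
    rw [map_smul, smul_smul, pow_succ' T j, Module.End.mul_apply]
    congr 1
    rw [add_mul, one_mul, pow_add]
    simp only [inv_pow]
    field_simp
  rw [Finset.sum_congr rfl e1]
  rw [Finset.sum_range_succ (fun j => ξ ^ k • ξ⁻¹ ^ ((j + 1) * k) • (T ^ (j + 1)) v)]
  rw [Finset.sum_range_succ' (fun j => ξ ^ k • ξ⁻¹ ^ (j * k) • (T ^ j) v)]
  congr 1
  have h1 : ξ ^ ((m + 1) * k) = 1 := by rw [pow_mul, hξ, one_pow]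
  rw [hT, zero_mul, pow_zero, pow_zero, inv_pow, h1, inv_one]

theorem sum_sproj {T : Module.End F V} {ξ : F} {r : ℕ} (hr : r.Prime) (hξ : ξ ^ r = 1) (hξ1 : ξ ≠ 1) (v : V) :
    ∑ k ∈ Finset.range r, sproj T ξ r k v = (r : F) • v := by
  have hξ0 : ξ ≠ 0 := by
    intro h
    rw [h, zero_pow hr.pos.ne'] at hξ
    exact zero_ne_one hξ
  unfold sproj
  rw [Finset.sum_comm]
  have e1 : ∀ j ∈ Finset.range r, ∑ k ∈ Finset.range r, (ξ⁻¹ ^ (j * k)) • (T ^ j) v =
      (if j = 0 then (r : F) else 0) • (T ^ j) v := by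
    intro j hj
    rw [← Finset.sum_smul]
    congr 1
    split_ifs with h0
    · rw [h0]
      simp
    · have h1 : (ξ⁻¹ ^ j) ^ r = 1 := by rw [← pow_mul, mul_comm, pow_mul, inv_pow, hξ, inv_one, one_pow]
      have h2 : ξ⁻¹ ^ j ≠ 1 := by
        intro h
        rw [inv_pow, inv_eq_one] at h
        have hd : orderOf ξ ∣ j := orderOf_dvd_of_pow_eq_one h
        have hd' : orderOf ξ ∣ r := orderOf_dvd_of_pow_eq_one hξ
        rcases (Nat.dvd_prime hr).mp hd' with h3 | h3
        · exact hξ1 (orderOf_eq_one_iff.mp h3)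
        · rw [h3] at hd
          have := Nat.le_of_dvd (Nat.pos_of_ne_zero h0) hd
          have := Finset.mem_range.mp hj
          omega
      have := geom_sum_root h1 h2
      simp_rw [← pow_mul] at this
      exact this
  rw [Finset.sum_congr rfl e1, Finset.sum_eq_single 0]
  · simp
  · intro j _ hj
    rw [if_neg hj, zero_smul]
  · intro h
    exact absurd (Finset.mem_range.mpr hr.pos) h

theorem natCast_ne_zero_of_root {ξ : F} {r : ℕ} (hr : r.Prime) (hξ : ξ ^ r = 1) (hξ1 : ξ ≠ 1) : (r : F) ≠ 0 := by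
  intro h
  haveI : Fact r.Prime := ⟨hr⟩
  have hd : ringChar F ∣ r := (ringChar.spec F r).mp h
  have hc : ringChar F = r := by
    rcases (Nat.dvd_prime hr).mp hd with h1 | h1
    · exact absurd h1 (CharP.ringChar_ne_one)
    · exact h1
  haveI : CharP F r := by
    rw [← hc]
    exact ringChar.charP F
  have h1 : (ξ - 1) ^ r = 0 := by
    rw [sub_pow_char, hξ, one_pow, sub_self]
  exact hξ1 (sub_eq_zero.mp (pow_eq_zero_iff hr.pos.ne' |>.mp h1))

/-- an invariant subspace of an operator with `T ^ r = 1` is the sum of its intersections with the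
eigenspaces. -/
theorem le_iSup_inf_eig {T : Module.End F V} {ξ : F} {r : ℕ} (hr : r.Prime) (hT : T ^ r = 1) (hξ : ξ ^ r = 1)
    (hξ1 : ξ ≠ 1) (W : Submodule F V) (hW : ∀ w ∈ W, T w ∈ W) :
    W ≤ ⨆ k ∈ Finset.range r, W ⊓ Module.End.eigenspace T (ξ ^ k) := by
  intro w hw
  have hrF := natCast_ne_zero_of_root hr hξ hξ1
  have hpow : ∀ j : ℕ, (T ^ j) w ∈ W := by
    intro j
    induction j with
    | zero => simpa using hw
    | succ j ih =>
      rw [pow_succ', Module.End.mul_apply]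
      exact hW _ ih
  have h1 : ∀ k ∈ Finset.range r, sproj T ξ r k w ∈ W ⊓ Module.End.eigenspace T (ξ ^ k) := by
    intro k _
    refine ⟨?_, sproj_mem_eig hr.pos hT hξ k w⟩
    unfold sproj
    exact Submodule.sum_mem _ (fun j _ => Submodule.smul_mem _ _ (hpow j))
  have h2 : (r : F) • w ∈ ⨆ k ∈ Finset.range r, W ⊓ Module.End.eigenspace T (ξ ^ k) := by
    rw [← sum_sproj hr hξ hξ1]
    apply Submodule.sum_mem
    intro k hk
    exact Submodule.mem_iSup_of_mem k (Submodule.mem_iSup_of_mem hk (h1 k hk))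
  have h3 := Submodule.smul_mem _ ((r : F)⁻¹) h2
  rwa [smul_smul, inv_mul_cancel₀ hrF, one_smul] at h3

theorem orderOf_root {ξ : F} {r : ℕ} (hr : r.Prime) (hξ : ξ ^ r = 1) (hξ1 : ξ ≠ 1) : orderOf ξ = r := by
  have hd' : orderOf ξ ∣ r := orderOf_dvd_of_pow_eq_one hξ
  rcases (Nat.dvd_prime hr).mp hd' with h3 | h3
  · exact absurd (orderOf_eq_one_iff.mp h3) hξ1
  · exact h3

theorem pow_root_injective {ξ : F} {r : ℕ} (hr : r.Prime) (hξ : ξ ^ r = 1) (hξ1 : ξ ≠ 1) :
    Function.Injective (fun k : Fin r => ξ ^ (k : ℕ)) := by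
  intro k l h
  have ho := orderOf_root hr hξ hξ1
  have := pow_injOn_Iio_orderOf (x := ξ) (x₁ := (k : ℕ)) (x₂ := (l : ℕ)) (by rw [ho]; exact k.2)
    (by rw [ho]; exact l.2) h
  exact Fin.ext this

theorem pow_root_eq_iff {ξ : F} {r : ℕ} (hr : r.Prime) (hξ : ξ ^ r = 1) (hξ1 : ξ ≠ 1) {k l : ℕ} (hk : k < r)
    (hl : l < r) : ξ ^ k = ξ ^ l ↔ k = l := by
  constructor
  · intro h
    have := pow_root_injective hr hξ hξ1 (a₁ := ⟨k, hk⟩) (a₂ := ⟨l, hl⟩) h
    exact Fin.mk.inj this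
  · rintro rfl
    rfl

variable [FiniteDimensional F V]

/-- dimension of a family of intersections with distinct eigenspaces. -/
theorem sum_finrank_inf_eig_le (T : Module.End F V) (W : Submodule F V) {ι : Type*} [Fintype ι] (e : ι → F)
    (he : Function.Injective e) :
    ∑ k, finrank F ↥(W ⊓ Module.End.eigenspace T (e k)) ≤ finrank F ↥W := by
  have hind : iSupIndep (fun μ : F => W ⊓ Module.End.eigenspace T μ) :=
    (Module.End.eigenspaces_iSupIndep T).mono (fun μ => inf_le_right)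
  have hind' : iSupIndep (fun k : ι => W ⊓ Module.End.eigenspace T (e k)) := hind.comp he
  rw [← finrank_iSup hind']
  apply Submodule.finrank_mono
  apply iSup_le
  intro k
  exact inf_le_left

theorem finrank_eq_sum_inf_eig {T : Module.End F V} {ξ : F} {r : ℕ} (hr : r.Prime) (hT : T ^ r = 1)
    (hξ : ξ ^ r = 1) (hξ1 : ξ ≠ 1) (W : Submodule F V) (hW : ∀ w ∈ W, T w ∈ W) :
    finrank F ↥W = ∑ k : Fin r, finrank F ↥(W ⊓ Module.End.eigenspace T (ξ ^ (k : ℕ))) := by
  apply le_antisymm _ (sum_finrank_inf_eig_le T W _ (pow_root_injective hr hξ hξ1))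
  have hind : iSupIndep (fun μ : F => W ⊓ Module.End.eigenspace T μ) :=
    (Module.End.eigenspaces_iSupIndep T).mono (fun μ => inf_le_right)
  have hind' : iSupIndep (fun k : Fin r => W ⊓ Module.End.eigenspace T (ξ ^ (k : ℕ))) :=
    hind.comp (pow_root_injective hr hξ hξ1)
  rw [← finrank_iSup hind']
  apply Submodule.finrank_mono
  refine (le_iSup_inf_eig hr hT hξ hξ1 W hW).trans ?_
  apply iSup₂_le
  intro k hk
  exact le_iSup (fun j : Fin r => W ⊓ Module.End.eigenspace T (ξ ^ (j : ℕ))) ⟨k, Finset.mem_range.mp hk⟩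

end diag

/-! ### eigenspaces of nonscalar elements of `H` -/

variable {R : Subgroup (GL (Fin n) F)} {r : ℕ}

theorem finrank_pi (n : ℕ) : finrank F (Fin n → F) = n := by simp

/-- **a nonscalar element of `H` has all eigenspaces of dimension at most `n / r`.** -/
theorem ES.r_mul_finrank_eig_le (hE : ES R r) {u : GL (Fin n) F} (hu : u ∈ HH R)
    (hns : u ∉ Cfsg.Geo.scalars (Fin n) F) (μ : F) :
    r * finrank F ↥(Module.End.eigenspace (act u) μ) ≤ n := by
  obtain ⟨y, hy, ζ, hζ, hζ1, hq⟩ := hE.exists_partner hu hns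
  have hq' : QC ζ⁻¹ u y := hq.symm
  by_cases hμ : μ = 0
  · have : Module.End.eigenspace (act u) μ = ⊥ := by
      rw [hμ, eq_bot_iff]
      intro v hv
      rw [Module.End.mem_eigenspace_iff, zero_smul] at hv
      rw [Submodule.mem_bot]
      by_contra hv0
      exact act_ne_zero u hv0 hv
    rw [this, finrank_bot, mul_zero]
    exact Nat.zero_le _
  · have hξ : ((ζ⁻¹ : Fˣ) : F) ^ r = 1 := by
      rw [← Units.val_pow_eq_pow_val, inv_pow, hζ, inv_one, Units.val_one]
    have hξ1 : ((ζ⁻¹ : Fˣ) : F) ≠ 1 := by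
      intro h
      apply hζ1
      have : ζ⁻¹ = 1 := Units.ext h
      rwa [inv_eq_one] at this
    have hinj : Function.Injective (fun k : Fin r => ((ζ⁻¹ : Fˣ) : F) ^ (k : ℕ) * μ) := by
      intro k l h
      exact pow_root_injective hE.rp hξ hξ1 (mul_right_cancel₀ hμ h)
    have h1 := sum_finrank_inf_eig_le (act u) ⊤ _ hinj
    rw [finrank_top, finrank_pi] at h1
    have h2 : ∀ k : Fin r, finrank F ↥(⊤ ⊓ Module.End.eigenspace (act u) (((ζ⁻¹ : Fˣ) : F) ^ (k : ℕ) * μ)) =
        finrank F ↥(Module.End.eigenspace (act u) μ) := by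
      intro k
      rw [top_inf_eq]
      have := finrank_eig_pow_eq hq' hE.rp.pos (by rw [inv_pow, hζ, inv_one]) μ k (le_of_lt k.2)
      rw [Units.val_pow_eq_pow_val] at this
      exact this
    rw [Finset.sum_congr rfl (fun k _ => h2 k), Finset.sum_const, Finset.card_univ, Fintype.card_fin,
      smul_eq_mul] at h1
    exact h1

end Cfsg.Agent.Helper7.ExSp
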