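import Mathlib
import Cfsg.Agent.Helper7.SUNdE

set_option autoImplicit false
set_option linter.unusedSectionVars false

/-! Non-degenerate subspaces of the unitary space: the stabiliser is a maximal subgroup
(helper7). -/

namespace Cfsg.Agent.Helper7.SUNd

open Matrix Module Cfsg Cfsg.Agent.Helper7.Herm Cfsg.Agent.Helper8.GUOrder Cfsg.Agent.Helper8.SURoot
  Cfsg.Agent.Helper8.AutSU Cfsg.Agent.Helper7.SUSimp Cfsg.Agent.Helper7.SUMax
  Cfsg.Agent.Helper7.SUGen

variable {F : Type*} [Field F] [Fintype F] {q N k m : ℕ} [hF : Fact (Fintype.card F = q ^ 2)]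

omit [Fintype F] hF in
theorem iso_fin_one {x : Fin 1 → F} (hx : hermForm 1 F q x x = 0) : x = 0 := by
  unfold hermForm at hx
  rw [Fin.sum_univ_one] at hx
  have h0 : x 0 = 0 := by
    rcases mul_eq_zero.mp hx with h | h
    · exact h
    · exact pow_eq_zero_iff (n := q) (by
        rintro rfl
        rw [pow_zero] at h
        exact one_ne_zero h) |>.mp h
  ext i
  rw [Subsingleton.elim i 0, h0]
  rfl

section

variable (hk : 1 ≤ k) (hm : 2 ≤ m) (hkm : k < m + 2) (M : Subgroup (SU (k + (m + 2)) F q))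
  (hPM : ∀ A : SU (k + (m + 2)) F q,
    (∀ v, v ∈ W0 k (m + 2) F ↔ mt A *ᵥ v ∈ W0 k (m + 2) F) → A ∈ M)

include hk hm hkm hPM

theorem T34_of_not_stab {A : SU (k + (m + 2)) F q} (hA : A ∈ M)
    (hAW : ¬ ∀ v, v ∈ W0 k (m + 2) F ↔ mt A *ᵥ v ∈ W0 k (m + 2) F) : T3all M ∧ T4all M := by
  obtain ⟨x, y, hx0, hy0, hS⟩ := exists_mixed hkm M hPM hA hAW
  obtain rfl | hk2 : k = 1 ∨ 2 ≤ k := by omega
  · have h3 : T3all M := by
      intro x' y' hx0' _ hx' _
      exact absurd (iso_fin_one hx') hx0'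
    refine ⟨h3, ?_⟩
    have hxx : hermForm 1 F q x x ≠ 0 := fun h => hx0 (iso_fin_one h)
    exact T4all_of_mem hm M hPM hxx hS
  · obtain ⟨k', rfl⟩ : ∃ k', k = k' + 2 := ⟨k - 2, by omega⟩
    by_cases hxx : hermForm (k' + 2) F q x x = 0
    · have h3 := T3all_of_mem hm M hPM hx0 hy0 hxx hS
      exact ⟨h3, T4all_of_T3all hm M hPM h3⟩
    · have h4 := T4all_of_mem hm M hPM hxx hS
      exact ⟨T3all_of_T4all hm M hPM h4, h4⟩

/-- the dichotomy for the first block. -/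
theorem stab_or_top_std :
    (∀ A ∈ M, ∀ v, v ∈ W0 k (m + 2) F ↔ mt A *ᵥ v ∈ W0 k (m + 2) F) ∨ M = ⊤ := by
  by_cases hall : ∀ A ∈ M, ∀ v, v ∈ W0 k (m + 2) F ↔ mt A *ᵥ v ∈ W0 k (m + 2) F
  · exact Or.inl hall
  right
  push Not at hall
  obtain ⟨A, hA, hAW⟩ := hall
  obtain ⟨h3, h4⟩ := T34_of_not_stab hk hm hkm M hPM hA (by push Not; exact hAW)
  have hSall : ∀ v : Fin (k + (m + 2)) → F, hermForm (k + (m + 2)) F q v v = 0 → SS M v := by
    intro v hv
    rw [← apv_p v] at hv ⊢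
    by_cases hxx : hermForm k F q (p1 v) (p1 v) = 0
    · have hyy : hermForm (m + 2) F q (p2 v) (p2 v) = 0 := by
        rw [herm_apv, hxx, zero_add] at hv
        exact hv
      by_cases hx0 : p1 v = 0
      · rw [hx0]
        exact SS_right M hPM hyy
      by_cases hy0 : p2 v = 0
      · rw [hy0]
        exact SS_left M hPM hxx
      exact h3 _ _ hx0 hy0 hxx hyy
    · exact h4 _ _ hxx hv
  rw [eq_top_iff, ← Tsub_eq_top (F := F) (q := q) (k + (m + 2)) (by omega) (by omega)]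
  unfold Tsub
  rw [Subgroup.closure_le]
  rintro g ⟨p, s, hp, hs, rfl⟩
  exact (hSall p hp).2 s hs

end

/-- the stabiliser of the first block is a proper subgroup. -/
theorem not_stab_std (hk : 1 ≤ k) :
    ∃ A : SU (k + (m + 2)) F q, ¬ ∀ v, v ∈ W0 k (m + 2) F ↔ mt A *ᵥ v ∈ W0 k (m + 2) F := by
  obtain ⟨y, hy0, hy⟩ := exists_model (F := F) (q := q) (k := m + 2) (by omega) (l := -1)
    (by rw [b_neg, b_one])
  obtain ⟨s, hs0, hs⟩ := exists_tz_ne_zero (F := F) (q := q)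
  set x : Fin k → F := Pi.single ⟨0, hk⟩ 1 with hx
  have hxx : hermForm k F q x x = 1 := h_single_single _
  have hiso : hermForm (k + (m + 2)) F q (apv x y) (apv x y) = 0 := by
    rw [herm_apv, hxx, hy]
    ring
  refine ⟨TU q (apv x y) s, fun h => ?_⟩
  have h1 := (h (apv x 0)).mp (apv_mem_W0 x)
  rw [TU_mulVec hiso hs, herm_apv, hxx, hermForm_zero_left, add_zero, mul_one, ← apv_smul,
    ← apv_add, mem_W0, p2_apv, zero_add] at h1
  exact smul_ne_zero hs0 hy0 h1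

omit [Fintype F] hF in
theorem stab_conj {W₁ W₂ : Submodule F (Fin N → F)} (C : GU N F q)
    (hC : ∀ v, v ∈ W₁ ↔ mg C *ᵥ v ∈ W₂) (s : SU N F q) :
    (∀ v, v ∈ W₁ ↔ mt s *ᵥ v ∈ W₁) ↔ (∀ v, v ∈ W₂ ↔ mt (suConj C s) *ᵥ v ∈ W₂) := by
  constructor
  · intro h v
    rw [suConj_mulVec, ← hC, ← h, hC, mg_inv_mulVec]
  · intro h v
    have := h (mg C *ᵥ v)
    rw [suConj_mulVec, mg_inv_mulVec', ← hC, ← hC] at this
    exact this

/-- **The dichotomy**: a subgroup of `SU` containing the stabiliser of a non-degenerate subspace of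
small dimension is that stabiliser or the whole group. -/
theorem stab_or_top_nd {n : ℕ} (W : Submodule F (Fin n → F)) (hW : NDeg q W) (k : ℕ)
    (hk : finrank F W = k) (hk1 : 1 ≤ k) (h2 : 2 * k < n) (h4 : k + 4 ≤ n)
    (M : Subgroup (SU n F q))
    (hPM : ∀ A : SU n F q, (∀ v : Fin n → F, v ∈ W ↔ mt A *ᵥ v ∈ W) → A ∈ M) :
    (∀ A ∈ M, ∀ v : Fin n → F, v ∈ W ↔ mt A *ᵥ v ∈ W) ∨ M = ⊤ := by
  obtain ⟨m, rfl⟩ : ∃ m, n = k + (m + 2) := ⟨n - k - 2, by omega⟩
  obtain ⟨C, hC⟩ := exists_std W hW hk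
  have key := stab_or_top_std hk1 (by omega) (by omega) (M.comap (suConj C).toMonoidHom) (by
    intro s hs
    rw [Subgroup.mem_comap]
    exact hPM _ ((stab_conj C hC s).mp hs))
  rcases key with h | h
  · left
    intro A hA
    have h1 : suConj C ((suConj C).symm A) = A := (suConj C).apply_symm_apply A
    have h2 : (suConj C).symm A ∈ M.comap (suConj C).toMonoidHom := by
      rw [Subgroup.mem_comap]
      show suConj C ((suConj C).symm A) ∈ M
      rw [h1]
      exact hA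
    have := (stab_conj C hC _).mp (h _ h2)
    rw [h1] at this
    exact this
  · right
    rw [eq_top_iff]
    intro A _
    have h1 : suConj C ((suConj C).symm A) = A := (suConj C).apply_symm_apply A
    have h2 : (suConj C).symm A ∈ M.comap (suConj C).toMonoidHom := by rw [h]; trivial
    rw [Subgroup.mem_comap] at h2
    have h3 : suConj C ((suConj C).symm A) ∈ M := h2
    rw [h1] at h3
    exact h3

/-- the stabiliser of a non-degenerate proper subspace is a proper subgroup. -/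
theorem not_stab_nd {n : ℕ} (W : Submodule F (Fin n → F)) (hW : NDeg q W) (k : ℕ)
    (hk : finrank F W = k) (hk1 : 1 ≤ k) (h4 : k + 2 ≤ n) :
    ∃ A : SU n F q, ¬ ∀ v : Fin n → F, v ∈ W ↔ mt A *ᵥ v ∈ W := by
  obtain ⟨m, rfl⟩ : ∃ m, n = k + (m + 2) := ⟨n - k - 2, by omega⟩
  obtain ⟨C, hC⟩ := exists_std W hW hk
  obtain ⟨A, hA⟩ := not_stab_std (F := F) (q := q) (m := m) hk1
  exact ⟨suConj C A, fun h => hA ((stab_conj C hC A).mpr h)⟩

end Cfsg.Agent.Helper7.SUNd
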