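import Mathlib
import Cfsg.Agent.Helper7.SUNdF

set_option autoImplicit false
set_option linter.unusedSectionVars false

/-! Stabilisers of totally isotropic subspaces in the unitary groups: extensions of an isotropic
frame, counted in a standard model (helper7). -/

namespace Cfsg.Agent.Helper7.SUPar

open Matrix Module Cfsg Cfsg.Agent.Helper7.Herm Cfsg.Agent.Helper8.GUOrder Cfsg.Agent.Helper8.SURoot
  Cfsg.Agent.Helper8.AutSU Cfsg.Agent.Helper7.SUNd Cfsg.Agent.Helper7.SUGen

variable {F : Type*} [Field F] [Fintype F] {q N j m : ℕ} [hF : Fact (Fintype.card F = q ^ 2)]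

/-- the vectors extending an isotropic family to a longer one. -/
def Ext (q : ℕ) (w : Fin j → (Fin N → F)) : Set (Fin N → F) :=
  {v | hermForm N F q v v = 0 ∧ (∀ i, hermForm N F q v (w i) = 0) ∧
    v ∉ Submodule.span F (Set.range w)}

omit [Fintype F] hF in
theorem mem_Ext {w : Fin j → (Fin N → F)} {v : Fin N → F} :
    v ∈ Ext q w ↔ hermForm N F q v v = 0 ∧ (∀ i, hermForm N F q v (w i) = 0) ∧
      v ∉ Submodule.span F (Set.range w) := Iff.rfl

/-- the standard isotropic family. -/
def stdFr (j m : ℕ) (ζ : F) : Fin j → (Fin (j + j + m) → F) :=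
  fun i => apv (apv (Pi.single i 1) (Pi.single i ζ)) 0

omit [Fintype F] hF in
theorem sum_smul_stdFr (ζ : F) (c : Fin j → F) :
    ∑ i, c i • stdFr j m ζ i = apv (apv c (ζ • c)) (0 : Fin m → F) := by
  ext x
  rw [Finset.sum_apply]
  refine Fin.addCases (fun a => ?_) (fun b => ?_) x
  · refine Fin.addCases (fun a1 => ?_) (fun a2 => ?_) a
    · simp only [stdFr, apv, Fin.append_left, Pi.smul_apply, smul_eq_mul, Pi.single_apply]
      simp
    · simp only [stdFr, apv, Fin.append_left, Fin.append_right, Pi.smul_apply, smul_eq_mul,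
        Pi.single_apply]
      simp [mul_comm]
  · simp only [stdFr, apv, Fin.append_right, Pi.smul_apply, smul_eq_mul]
    simp

theorem herm_stdFr (ζ : F) (a b : Fin j → F) (r : Fin m → F) (i : Fin j) :
    hermForm (j + j + m) F q (apv (apv a b) r) (stdFr j m ζ i) = a i + b i * ζ ^ q := by
  have hq := one_le_q hF.out
  unfold stdFr
  rw [herm_apv, herm_apv, herm_single_right hq, herm_single_right hq, hermForm_zero_right, one_pow,
    mul_one, add_zero]

theorem gram_stdFr {ζ : F} (hζ : ζ * ζ ^ q = -1) (i l : Fin j) :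
    hermForm (j + j + m) F q (stdFr j m ζ i) (stdFr j m ζ l) = 0 := by
  have h := herm_stdFr (m := m) (q := q) ζ (Pi.single i 1) (Pi.single i ζ) (0 : Fin m → F) l
  have e : apv (apv (Pi.single i (1 : F)) (Pi.single i ζ)) (0 : Fin m → F) = stdFr j m ζ i := rfl
  rw [e] at h
  rw [h]
  by_cases hil : l = i
  · subst hil
    rw [Pi.single_eq_same, Pi.single_eq_same]
    linear_combination hζ
  · rw [Pi.single_eq_of_ne hil, Pi.single_eq_of_ne hil]
    ring

omit [Fintype F] hF in
theorem linearIndependent_stdFr (ζ : F) : LinearIndependent F (stdFr j m ζ) := by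
  rw [Fintype.linearIndependent_iff]
  intro c hc i
  rw [sum_smul_stdFr] at hc
  have h1 := congrArg (fun v => p1 (p1 v) i) hc
  simp only [p1_apv] at h1
  rw [h1]
  rfl

omit [Fintype F] hF in
theorem span_stdFr_le (ζ : F) :
    Submodule.span F (Set.range (stdFr j m ζ)) ≤ W0 (j + j) m F := by
  rw [Submodule.span_le]
  rintro _ ⟨i, rfl⟩
  exact apv_mem_W0 _

/-- the extensions of the standard family, parametrised. -/
theorem mem_Ext_stdFr {ζ : F} (hζ : ζ * ζ ^ q = -1) (v : Fin (j + j + m) → F) :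
    v ∈ Ext q (stdFr j m ζ) ↔
      p1 (p1 v) = (-ζ ^ q) • p2 (p1 v) ∧ hermForm m F q (p2 v) (p2 v) = 0 ∧ p2 v ≠ 0 := by
  have hv : v = apv (apv (p1 (p1 v)) (p2 (p1 v))) (p2 v) := by rw [apv_p, apv_p]
  have hnorm : ((-ζ ^ q) : F) * (-ζ ^ q) ^ q = -1 := by
    rw [b_neg, bb]
    linear_combination hζ
  constructor
  · rintro ⟨h1, h2, h3⟩
    have ha : p1 (p1 v) = (-ζ ^ q) • p2 (p1 v) := by
      ext i
      have := h2 i
      rw [hv, herm_stdFr] at this
      simp only [Pi.smul_apply, smul_eq_mul]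
      linear_combination this
    refine ⟨ha, ?_, ?_⟩
    · rw [hv, herm_apv, herm_apv, ha, hermForm_smul_left, hermForm_smul_right, ← mul_assoc,
        hnorm] at h1
      linear_combination h1
    · intro h0
      apply h3
      rw [hv, ha, h0]
      have : apv (apv ((-ζ ^ q) • p2 (p1 v)) (p2 (p1 v))) (0 : Fin m → F) =
          ∑ i, ((-ζ ^ q) • p2 (p1 v)) i • stdFr j m ζ i := by
        rw [sum_smul_stdFr, smul_smul]
        have : ζ * -ζ ^ q = 1 := by linear_combination -hζ
        rw [this, one_smul]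
      rw [this]
      exact Submodule.sum_mem _ (fun i _ => Submodule.smul_mem _ _ (Submodule.subset_span ⟨i, rfl⟩))
  · rintro ⟨ha, h1, h0⟩
    refine ⟨?_, fun i => ?_, fun hmem => ?_⟩
    · rw [hv, herm_apv, herm_apv, ha, hermForm_smul_left, hermForm_smul_right, ← mul_assoc, hnorm, h1]
      ring
    · rw [hv, herm_stdFr, ha]
      simp only [Pi.smul_apply, smul_eq_mul]
      ring
    · exact h0 (span_stdFr_le ζ hmem)

theorem card_norm_zero_ne (m : ℕ) :
    Nat.card {r : Fin m → F // hermForm m F q r r = 0 ∧ r ≠ 0} = A m F q 0 - 1 := by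
  unfold A
  have h1 : {r : Fin m → F | hermForm m F q r r = 0 ∧ r ≠ 0} =
      {r : Fin m → F | hermForm m F q r r = 0} \ {0} := by
    ext r
    simp
  have h2 : (0 : Fin m → F) ∈ {r : Fin m → F | hermForm m F q r r = 0} := hermForm_zero_left _
  have h3 := Set.ncard_sdiff_singleton_of_mem h2
  rw [← h1] at h3
  rw [← Nat.card_coe_set_eq, ← Nat.card_coe_set_eq] at h3
  exact h3

/-- the number of extensions of the standard family. -/
theorem card_Ext_stdFr {ζ : F} (hζ : ζ * ζ ^ q = -1) :
    Nat.card (Ext q (stdFr j m ζ)) = q ^ (2 * j) * (A m F q 0 - 1) := by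
  have e : Ext q (stdFr j m ζ) ≃
      (Fin j → F) × {r : Fin m → F // hermForm m F q r r = 0 ∧ r ≠ 0} :=
    { toFun := fun v => (p2 (p1 v.1), ⟨p2 v.1, ((mem_Ext_stdFr hζ v.1).mp v.2).2⟩)
      invFun := fun x => ⟨apv (apv ((-ζ ^ q) • x.1) x.1) x.2.1, by
        rw [mem_Ext_stdFr hζ]
        simp only [p1_apv, p2_apv]
        exact ⟨trivial, x.2.2⟩⟩
      left_inv := by
        rintro ⟨v, hv⟩
        apply Subtype.ext
        have h := ((mem_Ext_stdFr hζ v).mp hv).1
        show apv (apv ((-ζ ^ q) • p2 (p1 v)) (p2 (p1 v))) (p2 v) = v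
        rw [← h, apv_p, apv_p]
      right_inv := by
        rintro ⟨b, r, hr⟩
        simp }
  rw [Nat.card_congr e, Nat.card_prod, card_norm_zero_ne, Nat.card_eq_fintype_card,
    Fintype.card_fun, hF.out, Fintype.card_fin, ← pow_mul]

end Cfsg.Agent.Helper7.SUPar
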