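import Mathlib
import Cfsg.Agent.Helper7.SUParA

set_option autoImplicit false
set_option linter.unusedSectionVars false

/-! Stabilisers of totally isotropic subspaces in the unitary groups: the number of isotropic
frames (helper7). -/

namespace Cfsg.Agent.Helper7.SUPar

open Matrix Module Cfsg Cfsg.Agent.Helper7.Herm Cfsg.Agent.Helper8.GUOrder Cfsg.Agent.Helper8.SURoot
  Cfsg.Agent.Helper8.AutSU Cfsg.Agent.Helper7.SUNd Cfsg.Agent.Helper7.SUGen

variable {F : Type*} [Field F] [Fintype F] {q N j m : ℕ} [hF : Fact (Fintype.card F = q ^ 2)]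

omit [Fintype F] hF in
theorem mulVec_mem_span (M : Matrix (Fin N) (Fin N) F) {w : Fin j → (Fin N → F)} {v : Fin N → F}
    (hv : v ∈ Submodule.span F (Set.range w)) :
    M *ᵥ v ∈ Submodule.span F (Set.range (fun i => M *ᵥ w i)) := by
  obtain ⟨c, rfl⟩ := (Submodule.mem_span_range_iff_exists_fun F).mp hv
  rw [Matrix.mulVec_sum]
  refine Submodule.sum_mem _ (fun i _ => ?_)
  rw [mulVec_smul]
  exact Submodule.smul_mem _ _ (Submodule.subset_span ⟨i, rfl⟩)

omit [Fintype F] hF in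
theorem mulVec_mem_Ext (g : GU N F q) {w : Fin j → (Fin N → F)} {v : Fin N → F}
    (hv : v ∈ Ext q w) : mg g *ᵥ v ∈ Ext q (fun i => mg g *ᵥ w i) := by
  obtain ⟨h1, h2, h3⟩ := hv
  refine ⟨by rw [herm_mg, h1], fun i => by rw [herm_mg, h2], fun hmem => h3 ?_⟩
  have := mulVec_mem_span (mg g⁻¹) hmem
  simp only [mg_inv_mulVec'] at this
  exact this

/-- the number of extensions of an isotropic frame. -/
theorem card_Ext (w : Fin j → (Fin N → F)) (hw : LinearIndependent F w)
    (hw0 : ∀ i l, hermForm N F q (w i) (w l) = 0) (hN : N = j + j + m) :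
    Nat.card (Ext q w) = q ^ (2 * j) * (A m F q 0 - 1) := by
  subst hN
  obtain ⟨ζ, hζ⟩ := exists_norm hF.out (c := (-1 : F)) (neg_ne_zero.mpr one_ne_zero)
    (neg_one_pow_q hF.out)
  obtain ⟨g, hg⟩ := exists_GU_of_families (q := q) (stdFr j m ζ) w (linearIndependent_stdFr ζ) hw
    (fun i l => by rw [gram_stdFr hζ, hw0])
  have hg' : ∀ i, mg g⁻¹ *ᵥ w i = stdFr j m ζ i := by
    intro i
    rw [← hg i, mg_inv_mulVec']
  rw [← card_Ext_stdFr (j := j) (m := m) hζ]
  refine Nat.card_congr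
    { toFun := fun v => ⟨mg g⁻¹ *ᵥ v.1, ?_⟩
      invFun := fun v => ⟨mg g *ᵥ v.1, ?_⟩
      left_inv := fun v => Subtype.ext (mg_inv_mulVec g v.1)
      right_inv := fun v => Subtype.ext (mg_inv_mulVec' g v.1) }
  · have := mulVec_mem_Ext g⁻¹ v.2
    simp only [hg'] at this
    exact this
  · have := mulVec_mem_Ext g v.2
    simp only [hg] at this
    exact this

/-- the isotropic frames of length `j`. -/
def IsoFr (F : Type*) [Field F] (q N j : ℕ) : Type _ :=
  {w : Fin j → (Fin N → F) // LinearIndependent F w ∧ ∀ i l, hermForm N F q (w i) (w l) = 0}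

instance : Finite (IsoFr F q N j) := by
  unfold IsoFr
  infer_instance

omit [Fintype F] hF in
theorem sigma_ext' {x y : Σ w : IsoFr F q N j, Ext q w.1} (h1 : x.1.1 = y.1.1)
    (h2 : x.2.1 = y.2.1) : x = y := by
  obtain ⟨⟨w, hw⟩, ⟨v, hv⟩⟩ := x
  obtain ⟨⟨w', hw'⟩, ⟨v', hv'⟩⟩ := y
  simp only at h1 h2
  subst h1
  subst h2
  rfl

/-- frames of length `j + 1` are frames of length `j` together with an extension. -/
def isoFrSuccEquiv : IsoFr F q N (j + 1) ≃ Σ w : IsoFr F q N j, Ext q w.1 where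
  toFun w := ⟨⟨Fin.init w.1, (linearIndependent_fin_snoc.mp (by
      rw [Fin.snoc_init_self]; exact w.2.1)).1, fun i l => w.2.2 _ _⟩,
    ⟨w.1 (Fin.last j), w.2.2 _ _, fun i => w.2.2 _ _, (linearIndependent_fin_snoc.mp (by
      rw [Fin.snoc_init_self]; exact w.2.1)).2⟩⟩
  invFun x := ⟨Fin.snoc x.1.1 x.2.1, linearIndependent_fin_snoc.mpr ⟨x.1.2.1, x.2.2.2.2⟩, by
    intro i l
    refine Fin.lastCases ?_ (fun i => ?_) i <;> refine Fin.lastCases ?_ (fun l => ?_) l
    · rw [Fin.snoc_last]; exact x.2.2.1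
    · rw [Fin.snoc_last, Fin.snoc_castSucc]; exact x.2.2.2.1 l
    · rw [Fin.snoc_last, Fin.snoc_castSucc]; exact h_eq_zero_of_swap (x.2.2.2.1 i)
    · rw [Fin.snoc_castSucc, Fin.snoc_castSucc]; exact x.1.2.2 i l⟩
  left_inv w := by
    apply Subtype.ext
    exact Fin.snoc_init_self w.1
  right_inv x := by
    apply sigma_ext'
    · show Fin.init (Fin.snoc x.1.1 x.2.1 : Fin (j + 1) → (Fin N → F)) = x.1.1
      exact Fin.init_snoc _ _
    · show (Fin.snoc x.1.1 x.2.1 : Fin (j + 1) → (Fin N → F)) (Fin.last j) = x.2.1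
      exact Fin.snoc_last _ _

theorem card_IsoFr_succ (hN : 2 * j ≤ N) :
    Nat.card (IsoFr F q N (j + 1)) =
      Nat.card (IsoFr F q N j) * (q ^ (2 * j) * (A (N - 2 * j) F q 0 - 1)) := by
  classical
  letI : Fintype (IsoFr F q N j) := Fintype.ofFinite _
  rw [Nat.card_congr isoFrSuccEquiv, Nat.card_sigma]
  rw [Finset.sum_congr rfl (fun w _ => card_Ext (m := N - 2 * j) w.1 w.2.1 w.2.2 (by omega)),
    Finset.sum_const, Finset.card_univ, smul_eq_mul, Nat.card_eq_fintype_card]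

theorem card_IsoFr_zero : Nat.card (IsoFr F q N 0) = 1 := by
  have : Unique (IsoFr F q N 0) :=
    { default := ⟨fun i => i.elim0, linearIndependent_empty_type, fun i => i.elim0⟩
      uniq := fun w => Subtype.ext (funext fun i => i.elim0) }
  exact Nat.card_unique

/-- **the number of isotropic frames.** -/
theorem card_IsoFr : ∀ j : ℕ, 2 * j ≤ N + 1 →
    Nat.card (IsoFr F q N j) = ∏ i ∈ Finset.range j, (q ^ (2 * i) * (A (N - 2 * i) F q 0 - 1)) := by
  intro j
  induction j with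
  | zero => intro _; rw [card_IsoFr_zero, Finset.prod_range_zero]
  | succ j ih =>
    intro hj
    rw [card_IsoFr_succ (by omega), ih (by omega), Finset.prod_range_succ]

end Cfsg.Agent.Helper7.SUPar
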