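import Mathlib
import Cfsg.Agent.Helper7.SUParB

set_option autoImplicit false
set_option linter.unusedSectionVars false

/-! Stabilisers of totally isotropic subspaces in the unitary groups: the action of `GU` on the
isotropic frames, and the order of the stabiliser in `GU` (helper7). -/

namespace Cfsg.Agent.Helper7.SUPar

open Matrix Module Cfsg Cfsg.Agent.Helper7.Herm Cfsg.Agent.Helper8.GUOrder Cfsg.Agent.Helper8.SURoot
  Cfsg.Agent.Helper8.AutSU Cfsg.Agent.Helper7.SUNd Cfsg.Agent.Helper7.SUGen

variable {F : Type*} [Field F] [Fintype F] {q N j k : ℕ} [hF : Fact (Fintype.card F = q ^ 2)]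

omit [Fintype F] hF in
theorem li_mulVec (g : GU N F q) {w : Fin j → (Fin N → F)} (hw : LinearIndependent F w) :
    LinearIndependent F (fun i => mg g *ᵥ w i) := by
  rw [Fintype.linearIndependent_iff] at hw ⊢
  intro c hc
  apply hw c
  have h1 : mg g *ᵥ (∑ i, c i • w i) = 0 := by
    rw [Matrix.mulVec_sum, ← hc]
    exact Finset.sum_congr rfl (fun i _ => mulVec_smul _ _ _)
  have h2 := congrArg (fun v => mg g⁻¹ *ᵥ v) h1
  beta_reduce at h2
  rw [mg_inv_mulVec', mulVec_zero] at h2
  exact h2

instance instMulActionIsoFr : MulAction (GU N F q) (IsoFr F q N j) where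
  smul g w := ⟨fun i => mg g *ᵥ w.1 i, li_mulVec g w.2.1, fun i l => by
    rw [herm_mg]; exact w.2.2 i l⟩
  one_smul w := Subtype.ext (funext fun i => mg_one_mulVec _)
  mul_smul g h w := Subtype.ext (funext fun i => mg_mul_mulVec g h _)

omit [Fintype F] hF in
theorem smul_val (g : GU N F q) (w : IsoFr F q N j) (i : Fin j) :
    (g • w).1 i = mg g *ᵥ w.1 i := rfl

/-- **Witt**: the unitary group is transitive on the isotropic frames. -/
theorem exists_smul_eq (w w' : IsoFr F q N j) : ∃ g : GU N F q, g • w = w' := by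
  obtain ⟨g, hg⟩ := exists_GU_of_families (q := q) w.1 w'.1 w.2.1 w'.2.1
    (fun i l => by rw [w.2.2, w'.2.2])
  exact ⟨g, Subtype.ext (funext hg)⟩

/-- the stabiliser of a subspace in `GU`. -/
def stabW (q : ℕ) (W : Submodule F (Fin N → F)) : Subgroup (GU N F q) where
  carrier := {g | ∀ v, v ∈ W ↔ mg g *ᵥ v ∈ W}
  mul_mem' := by
    intro a b ha hb v
    rw [mg_mul_mulVec, ← ha, ← hb]
  one_mem' := by
    intro v
    rw [mg_one_mulVec]
  inv_mem' := by
    intro a ha v
    rw [ha (mg a⁻¹ *ᵥ v), mg_inv_mulVec]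

omit [Fintype F] hF in
theorem mem_stabW {W : Submodule F (Fin N → F)} {g : GU N F q} :
    g ∈ stabW q W ↔ ∀ v, v ∈ W ↔ mg g *ᵥ v ∈ W := Iff.rfl

omit [Fintype F] hF in
theorem span_eq_of_li {W : Submodule F (Fin N → F)} {w : Fin k → (Fin N → F)}
    (hw : LinearIndependent F w) (hmem : ∀ i, w i ∈ W) (hWk : finrank F W = k) :
    Submodule.span F (Set.range w) = W := by
  apply Submodule.eq_of_le_of_finrank_eq
  · rw [Submodule.span_le]
    rintro _ ⟨i, rfl⟩
    exact hmem i
  · rw [finrank_span_eq_card hw, Fintype.card_fin, hWk]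

omit [Fintype F] hF in
theorem mem_stabW_of_span {W : Submodule F (Fin N → F)} {g : GU N F q} {w w' : Fin k → (Fin N → F)}
    (hw : Submodule.span F (Set.range w) = W) (hw' : Submodule.span F (Set.range w') = W)
    (hg : ∀ i, mg g *ᵥ w i = w' i) : g ∈ stabW q W := by
  have e1 : (fun i => mg g *ᵥ w i) = w' := funext hg
  have e2 : (fun i => mg g⁻¹ *ᵥ w' i) = w := by
    funext i
    rw [← hg i, mg_inv_mulVec']
  intro v
  constructor
  · intro hv
    rw [← hw] at hv
    have := mulVec_mem_span (mg g) hv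
    rw [e1, hw'] at this
    exact this
  · intro hv
    rw [← hw'] at hv
    have := mulVec_mem_span (mg g⁻¹) hv
    rw [e2, hw, mg_inv_mulVec'] at this
    exact this

/-- **the order of the stabiliser in `GU`**, by counting frames. -/
theorem card_stabW_mul (W : Submodule F (Fin N → F)) (hWk : finrank F W = k)
    (hW : ∀ u ∈ W, ∀ v ∈ W, hermForm N F q u v = 0) :
    Nat.card (stabW q W) * Nat.card (IsoFr F q N k) =
      (∏ i : Fin k, ((q ^ 2) ^ k - (q ^ 2) ^ (i : ℕ))) * Nat.card (GU N F q) := by
  classical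
  let b : Basis (Fin k) F W := (Module.finBasis F W).reindex (finCongr hWk)
  have hbli : LinearIndependent F (fun i => (b i : Fin N → F)) :=
    b.linearIndependent.map' W.subtype (Submodule.ker_subtype W)
  let x₀ : IsoFr F q N k := ⟨fun i => (b i : Fin N → F), hbli, fun i l => hW _ (b i).2 _ (b l).2⟩
  have hx₀ : Submodule.span F (Set.range x₀.1) = W := span_eq_of_li hbli (fun i => (b i).2) hWk
  -- the big group
  have h2 : Nat.card (GU N F q) =
      Nat.card (IsoFr F q N k) * Nat.card (MulAction.stabilizer (GU N F q) x₀) := by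
    rw [← Nat.card_congr (MulAction.orbitProdStabilizerEquivGroup (GU N F q) x₀), Nat.card_prod]
    congr 1
    have : MulAction.orbit (GU N F q) x₀ = Set.univ := by
      ext x
      simp only [Set.mem_univ, iff_true]
      obtain ⟨g, hg⟩ := exists_smul_eq x₀ x
      exact ⟨g, hg⟩
    rw [this]
    exact Nat.card_congr (Equiv.Set.univ _)
  -- the stabiliser of the subspace
  have h1 : Nat.card (stabW q W) =
      Nat.card (MulAction.orbit (stabW q W) x₀) * Nat.card (MulAction.stabilizer (stabW q W) x₀) := by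
    rw [← Nat.card_congr (MulAction.orbitProdStabilizerEquivGroup (stabW q W) x₀), Nat.card_prod]
  have h3 : Nat.card (MulAction.stabilizer (stabW q W) x₀) =
      Nat.card (MulAction.stabilizer (GU N F q) x₀) := by
    refine Nat.card_congr
      { toFun := fun s => ⟨s.1.1, ?_⟩
        invFun := fun p => ⟨⟨p.1, ?_⟩, ?_⟩
        left_inv := fun s => rfl
        right_inv := fun p => rfl }
    · have := s.2
      rw [MulAction.mem_stabilizer_iff] at this ⊢
      exact this
    · have hp := p.2
      rw [MulAction.mem_stabilizer_iff] at hp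
      refine mem_stabW_of_span hx₀ hx₀ (fun i => ?_)
      have := congrArg (fun x : IsoFr F q N k => x.1 i) hp
      exact this
    · have hp := p.2
      rw [MulAction.mem_stabilizer_iff] at hp ⊢
      exact hp
  have h4 : Nat.card (MulAction.orbit (stabW q W) x₀) =
      ∏ i : Fin k, ((q ^ 2) ^ k - (q ^ 2) ^ (i : ℕ)) := by
    have hc := card_linearIndependent (K := F) (V := W) (k := k) (le_of_eq hWk.symm)
    rw [hWk, hF.out] at hc
    rw [← hc]
    have hmem : ∀ x ∈ MulAction.orbit (stabW q W) x₀, ∀ i, x.1 i ∈ W := by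
      rintro x ⟨s, rfl⟩ i
      show mg s.1 *ᵥ x₀.1 i ∈ W
      rw [← s.2 (x₀.1 i)]
      exact (b i).2
    refine Nat.card_congr
      { toFun := fun x => ⟨fun i => ⟨x.1.1 i, hmem x.1 x.2 i⟩, ?_⟩
        invFun := fun s => ⟨⟨fun i => (s.1 i : Fin N → F), ?_, ?_⟩, ?_⟩
        left_inv := fun x => rfl
        right_inv := fun s => rfl }
    · apply LinearIndependent.of_comp W.subtype
      exact x.1.2.1
    · exact s.2.map' W.subtype (Submodule.ker_subtype W)
    · exact fun i l => hW _ (s.1 i).2 _ (s.1 l).2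
    · have hli : LinearIndependent F (fun i => (s.1 i : Fin N → F)) :=
        s.2.map' W.subtype (Submodule.ker_subtype W)
      obtain ⟨g, hg⟩ := exists_smul_eq x₀
        ⟨fun i => (s.1 i : Fin N → F), hli, fun i l => hW _ (s.1 i).2 _ (s.1 l).2⟩
      have hgS : g ∈ stabW q W := by
        refine mem_stabW_of_span hx₀ (span_eq_of_li hli (fun i => (s.1 i).2) hWk) (fun i => ?_)
        have := congrArg (fun x : IsoFr F q N k => x.1 i) hg
        exact this
      exact ⟨⟨g, hgS⟩, hg⟩
  rw [h1, h2, h3, h4]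
  ring

end Cfsg.Agent.Helper7.SUPar
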