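import Mathlib
import Cfsg.Agent.Helper7.SUParC

set_option autoImplicit false
set_option linter.unusedSectionVars false

/-! Stabilisers of totally isotropic subspaces in the unitary groups: from `GU` to `SU`, the
determinant is onto on the stabiliser (helper7). -/

namespace Cfsg.Agent.Helper7.SUPar

open Matrix Module Cfsg Cfsg.Agent.Helper7.Herm Cfsg.Agent.Helper8.GUOrder Cfsg.Agent.Helper8.SURoot
  Cfsg.Agent.Helper8.AutSU Cfsg.Agent.Helper7.SUNd Cfsg.Agent.Helper7.SUGen Cfsg.Agent.Helper7.SUSimp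

variable {F : Type*} [Field F] [Fintype F] {q N j k : ℕ} [hF : Fact (Fintype.card F = q ^ 2)]

/-- the torus matrix of a hyperbolic pair: `e ↦ t e`, `f ↦ t^{-q} f`. -/
def dP (q : ℕ) (e f : Fin N → F) (t : F) : Matrix (Fin N) (Fin N) F :=
  Rm q ((t - 1) • e) f * Rm q (((t ^ q)⁻¹ - 1) • f) e

theorem dP_mulVec {e f : Fin N → F} (hf : hermForm N F q f f = 0) (t : F) (v : Fin N → F) :
    dP q e f t *ᵥ v = v + (hermForm N F q v f * (t - 1)) • e +
      (hermForm N F q v e * ((t ^ q)⁻¹ - 1)) • f := by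
  unfold dP
  rw [← mulVec_mulVec, Rm_mulVec, Rm_mulVec, hermForm_add_left, hermForm_smul_left,
    hermForm_smul_left, hf, mul_zero, mul_zero, add_zero]
  module

theorem det_dP {e f : Fin N → F} (hef : hermForm N F q e f = 1) (hfe : hermForm N F q f e = 1)
    (t : F) : (dP q e f t).det = t * (t ^ q)⁻¹ := by
  unfold dP
  rw [det_mul, det_Rm, det_Rm, hermForm_smul_left, hermForm_smul_left, hef, hfe]
  ring

theorem form_dP {e f : Fin N → F} (he : hermForm N F q e e = 0) (hf : hermForm N F q f f = 0)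
    (hef : hermForm N F q e f = 1) {t : F} (ht : t ≠ 0) (u v : Fin N → F) :
    hermForm N F q (dP q e f t *ᵥ u) (dP q e f t *ᵥ v) = hermForm N F q u v := by
  have hfe : hermForm N F q f e = 1 := h_eq_one_of_swap hef
  have htq : t ^ q ≠ 0 := pow_ne_zero q ht
  have e1 : (t - 1) ^ q + ((t ^ q)⁻¹ - 1) + ((t ^ q)⁻¹ - 1) * (t - 1) ^ q = 0 := by
    rw [b_sub, one_pow]
    field_simp
    ring
  have e2 : ((t ^ q)⁻¹ - 1) ^ q + (t - 1) + (t - 1) * ((t ^ q)⁻¹ - 1) ^ q = 0 := by
    rw [b_sub, one_pow, inv_pow, bb]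
    field_simp
    ring
  have s1 : hermForm N F q e v = (hermForm N F q v e) ^ q := h_swap e v
  have s2 : hermForm N F q f v = (hermForm N F q v f) ^ q := h_swap f v
  rw [dP_mulVec hf, dP_mulVec hf]
  simp only [hermForm_add_left, h_add_right, hermForm_smul_left, hermForm_smul_right, he, hf, hef,
    hfe, s1, s2, mul_pow]
  linear_combination (hermForm N F q u e * (hermForm N F q v f) ^ q) * e1 +
    (hermForm N F q u f * (hermForm N F q v e) ^ q) * e2

omit [Fintype F] hF in
/-- a unitary matrix mapping a subspace into itself stabilises it. -/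
theorem mem_stabW_of_mapsTo (W : Submodule F (Fin N → F)) (g : GU N F q)
    (h : ∀ x ∈ W, mg g *ᵥ x ∈ W) : g ∈ stabW q W := by
  intro v
  refine ⟨h v, fun hv => ?_⟩
  have hinj : Function.Injective (fun x : Fin N → F => mg g *ᵥ x) := by
    intro x y hxy
    beta_reduce at hxy
    rw [← mg_inv_mulVec' g x, hxy, mg_inv_mulVec']
  let φ : ↥W →ₗ[F] ↥W :=
    { toFun := fun x => ⟨mg g *ᵥ (x : Fin N → F), h x x.2⟩
      map_add' := fun x y => by
        apply Subtype.ext
        show mg g *ᵥ ((x : Fin N → F) + (y : Fin N → F)) =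
          mg g *ᵥ (x : Fin N → F) + mg g *ᵥ (y : Fin N → F)
        exact mulVec_add _ _ _
      map_smul' := fun c x => by
        apply Subtype.ext
        show mg g *ᵥ (c • (x : Fin N → F)) = c • (mg g *ᵥ (x : Fin N → F))
        exact mulVec_smul _ _ _ }
  have hφ : Function.Injective φ := by
    intro x y hxy
    apply Subtype.ext
    apply hinj
    exact congrArg Subtype.val hxy
  have hs := LinearMap.surjective_of_injective hφ
  obtain ⟨w, hw⟩ := hs ⟨_, hv⟩
  have : mg g *ᵥ (w : Fin N → F) = mg g *ᵥ v := congrArg Subtype.val hw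
  rw [← hinj this]
  exact w.2

/-- the determinant is already onto on the stabiliser of a totally isotropic subspace. -/
theorem exists_stabW_det (W : Submodule F (Fin N → F))
    (hW : ∀ u ∈ W, ∀ v ∈ W, hermForm N F q u v = 0) (g : GU N F q) :
    ∃ s ∈ stabW q W, (mg s).det = (mg g).det := by
  by_cases hW0 : W = ⊥
  · refine ⟨g, mem_stabW_of_mapsTo W g (fun x hx => ?_), rfl⟩
    rw [hW0, Submodule.mem_bot] at hx
    rw [hx, mulVec_zero]
    exact W.zero_mem
  · obtain ⟨e, heW, he0⟩ := (Submodule.ne_bot_iff W).mp hW0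
    have he : hermForm N F q e e = 0 := hW e heW e heW
    obtain ⟨f, hf, hef⟩ := exists_partner he0 he
    obtain ⟨t, ht0, ht⟩ := exists_quot (det_mg_norm g)
    refine ⟨mkGU (dP q e f t) (form_dP he hf hef ht0), mem_stabW_of_mapsTo W _ (fun x hx => ?_), ?_⟩
    · rw [mg_mkGU, dP_mulVec hf, hW x hx e heW, zero_mul, zero_smul, add_zero]
      exact W.add_mem hx (W.smul_mem _ heW)
    · rw [mg_mkGU, det_dP hef (h_eq_one_of_swap hef), ht]

/-- the determinant on the stabiliser. -/
def detS (q : ℕ) (W : Submodule F (Fin N → F)) : stabW q W →* Fˣ :=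
  (detGU N F q).comp (stabW q W).subtype

theorem range_detS (W : Submodule F (Fin N → F))
    (hW : ∀ u ∈ W, ∀ v ∈ W, hermForm N F q u v = 0) : (detS q W).range = (detGU N F q).range := by
  apply le_antisymm
  · rintro _ ⟨s, rfl⟩
    exact ⟨s.1, rfl⟩
  · rintro _ ⟨g, rfl⟩
    obtain ⟨s, hs, hdet⟩ := exists_stabW_det W hW g
    refine ⟨⟨s, hs⟩, ?_⟩
    apply Units.ext
    exact hdet

/-- the stabiliser in `SU` is the kernel of the determinant on the stabiliser in `GU`. -/
def stabSUEquiv (W : Submodule F (Fin N → F)) :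
    ↥((stabilizing (slToMat N F) (W : Set (Fin N → F))).subgroupOf (SU N F q)) ≃ (detS q W).ker where
  toFun x := ⟨⟨toGU x.1, fun v => x.2 v⟩, by
    rw [MonoidHom.mem_ker]
    apply Units.ext
    show ((x.1.1 : Matrix.SpecialLinearGroup (Fin N) F) : Matrix (Fin N) (Fin N) F).det = 1
    exact x.1.1.2⟩
  invFun g := ⟨⟨⟨mg g.1.1, by
      have := g.2
      rw [MonoidHom.mem_ker] at this
      exact congrArg Units.val this⟩, fun u v => g.1.1.2 u v⟩, fun v => g.1.2 v⟩
  left_inv x := by
    apply Subtype.ext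
    apply Subtype.ext
    apply Subtype.ext
    rfl
  right_inv g := by
    apply Subtype.ext
    apply Subtype.ext
    apply Subtype.ext
    apply Units.ext
    rfl

/-- **from `GU` to `SU`.** -/
theorem card_stab_SU (hN : 1 ≤ N) (W : Submodule F (Fin N → F))
    (hW : ∀ u ∈ W, ∀ v ∈ W, hermForm N F q u v = 0) :
    (q + 1) * Nat.card ↥((stabilizing (slToMat N F) (W : Set (Fin N → F))).subgroupOf (SU N F q)) =
      Nat.card (stabW q W) := by
  rw [Nat.card_congr (stabSUEquiv W), ← card_detGU_range hF.out hN, ← range_detS W hW,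
    ← Subgroup.index_ker, mul_comm, Subgroup.card_mul_index]

end Cfsg.Agent.Helper7.SUPar
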