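import Mathlib
import Cfsg.Agent.Helper7.SUParD

set_option autoImplicit false
set_option linter.unusedSectionVars false

/-! Stabilisers of totally isotropic subspaces in the unitary groups: the arithmetic, and the order
of the stabiliser in `SU` (helper7). -/

namespace Cfsg.Agent.Helper7.SUPar

open Matrix Module Cfsg Cfsg.Agent.Helper7.Herm Cfsg.Agent.Helper8.GUOrder Cfsg.Agent.Helper8.SURoot
  Cfsg.Agent.Helper8.AutSU Cfsg.Agent.Helper7.SUNd Cfsg.Agent.Helper7.SUGen Cfsg.Agent.Helper7.SUSimp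

variable {F : Type*} [Field F] [Fintype F] {q N j k : ℕ} [hF : Fact (Fintype.card F = q ^ 2)]

/-- the factors of the order of `GU`. -/
def ff (q i : ℕ) : ℕ := if Even i then q ^ (i + 1) + 1 else q ^ (i + 1) - 1

theorem A_zero_pos (M : ℕ) : 1 ≤ A M F q 0 := by
  unfold A
  have : Nonempty {v : Fin M → F // hermForm M F q v v = 0} := ⟨⟨0, hermForm_zero_left _⟩⟩
  exact Nat.card_pos

/-- the number of non-zero isotropic vectors. -/
theorem A_two (M : ℕ) : A (M + 2) F q 0 - 1 = ff q M * ff q (M + 1) := by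
  have hq := two_le_q hF.out
  have h := (A_closed hF.out (M + 2)).1
  have hq0 : (q : ℤ) ≠ 0 := by
    have : (2 : ℤ) ≤ q := by exact_mod_cast hq
    omega
  have hA := A_zero_pos (F := F) (q := q) (M + 2)
  have hp1 : 1 ≤ q ^ (M + 1) := Nat.one_le_pow _ _ (by omega)
  have hp2 : 1 ≤ q ^ (M + 1 + 1) := Nat.one_le_pow _ _ (by omega)
  have key : ((A (M + 2) F q 0 - 1 : ℕ) : ℤ) = ((ff q M * ff q (M + 1) : ℕ) : ℤ) := by
    apply mul_left_cancel₀ hq0
    rw [Nat.cast_sub hA, mul_sub, h]
    unfold ff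
    by_cases hM : Even M
    · have hM1 : ¬ Even (M + 1) := by
        rw [Nat.even_add_one]; exact not_not.mpr hM
      rw [if_pos hM, if_neg hM1]
      have : (-(q : ℤ)) ^ (M + 2) = (q : ℤ) ^ (M + 2) := by
        rw [Even.neg_pow (by rw [Nat.even_add]; simp [hM])]
      rw [this, Nat.cast_mul, Nat.cast_sub hp2]
      push_cast
      ring
    · have hM1 : Even (M + 1) := by
        rw [Nat.even_add_one]; exact hM
      rw [if_neg hM, if_pos hM1]
      have hodd : Odd (M + 2) := by
        rw [Nat.odd_add]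
        simp [Nat.not_even_iff_odd.mp hM]
      have : (-(q : ℤ)) ^ (M + 2) = -(q : ℤ) ^ (M + 2) := by
        rw [Odd.neg_pow hodd]
      rw [this, Nat.cast_mul, Nat.cast_sub hp1]
      push_cast
      ring
  exact_mod_cast key

theorem tri_two (M : ℕ) : (M + 2) * (M + 2 - 1) / 2 = M * (M - 1) / 2 + (2 * M + 1) := by
  have h1 := tri_succ (M + 1)
  have h2 := tri_succ M
  have e : M + 2 = M + 1 + 1 := rfl
  rw [e, h1, h2]
  omega

/-- two steps in the order of `GU`. -/
theorem card_GU_two (M : ℕ) :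
    Nat.card (GU (M + 2) F q) = q ^ (2 * M + 1) * (A (M + 2) F q 0 - 1) * Nat.card (GU M F q) := by
  rw [card_GU hF.out, card_GU hF.out, A_two, tri_two, Finset.prod_range_succ, Finset.prod_range_succ,
    pow_add]
  unfold ff
  ring

/-- the order of `GU` against the number of isotropic frames. -/
theorem card_GU_frames : ∀ k N : ℕ, 2 * k ≤ N →
    Nat.card (GU N F q) = (∏ i ∈ Finset.range k, (q ^ (2 * i) * (A (N - 2 * i) F q 0 - 1))) *
      q ^ (k * (2 * N - 3 * k)) * Nat.card (GU (N - 2 * k) F q) := by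
  intro k
  induction k with
  | zero =>
    intro N _
    simp
  | succ k ih =>
    intro N hN
    obtain ⟨d, rfl⟩ : ∃ d, N = 2 * k + 2 + d := ⟨N - (2 * k + 2), by omega⟩
    rw [ih (2 * k + 2 + d) (by omega), Finset.prod_range_succ]
    have e1 : 2 * k + 2 + d - 2 * k = d + 2 := by omega
    have e2 : 2 * k + 2 + d - 2 * (k + 1) = d := by omega
    have e3 : 2 * (2 * k + 2 + d) - 3 * k = k + 4 + 2 * d := by omega
    have e4 : 2 * (2 * k + 2 + d) - 3 * (k + 1) = k + 1 + 2 * d := by omega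
    rw [e1, e2, e3, e4, card_GU_two d]
    have e5 : q ^ (k * (k + 4 + 2 * d)) * q ^ (2 * d + 1) =
        q ^ (2 * k) * q ^ ((k + 1) * (k + 1 + 2 * d)) := by
      rw [← pow_add, ← pow_add]
      congr 1
      ring
    calc _ = (∏ i ∈ Finset.range k, (q ^ (2 * i) * (A (2 * k + 2 + d - 2 * i) F q 0 - 1))) *
          (q ^ (k * (k + 4 + 2 * d)) * q ^ (2 * d + 1)) * ((A (d + 2) F q 0 - 1) *
            Nat.card (GU d F q)) := by ring
      _ = _ := by rw [e5]; ring

theorem nonempty_IsoFr (W : Submodule F (Fin N → F)) (hWk : finrank F W = k)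
    (hW : ∀ u ∈ W, ∀ v ∈ W, hermForm N F q u v = 0) : Nonempty (IsoFr F q N k) := by
  let b : Basis (Fin k) F W := (Module.finBasis F W).reindex (finCongr hWk)
  have hbli : LinearIndependent F (fun i => (b i : Fin N → F)) :=
    b.linearIndependent.map' W.subtype (Submodule.ker_subtype W)
  exact ⟨⟨fun i => (b i : Fin N → F), hbli, fun i l => hW _ (b i).2 _ (b l).2⟩⟩

/-- **the order of the stabiliser of a totally isotropic subspace in `SU`.** -/
theorem card_stab_SU_final (hN : 1 ≤ N) (hk : 2 * k ≤ N) (W : Submodule F (Fin N → F))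
    (hWk : finrank F W = k) (hW : ∀ u ∈ W, ∀ v ∈ W, hermForm N F q u v = 0) :
    (q + 1) * Nat.card ↥((stabilizing (slToMat N F) (W : Set (Fin N → F))).subgroupOf (SU N F q)) =
      q ^ (k * (2 * N - 3 * k)) * (∏ i : Fin k, ((q ^ 2) ^ k - (q ^ 2) ^ (i : ℕ))) *
        Nat.card (GU (N - 2 * k) F q) := by
  rw [card_stab_SU hN W hW]
  have h1 := card_stabW_mul W hWk hW
  have h2 := card_GU_frames (F := F) (q := q) k N hk
  have h3 := card_IsoFr (F := F) (q := q) (N := N) k (by omega)
  haveI := nonempty_IsoFr W hWk hW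
  have hpos : 0 < Nat.card (IsoFr F q N k) := Nat.card_pos
  apply Nat.eq_of_mul_eq_mul_right hpos
  rw [h1, h2, ← h3]
  ring

end Cfsg.Agent.Helper7.SUPar
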