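import Mathlib
import Cfsg.Agent.Helper8.HermTwoA
import Cfsg.Agent.Helper7.SpOrdC

set_option autoImplicit false
set_option linter.unusedSectionVars false
set_option linter.unusedVariables false

/-!
# Unitary isometries of prime order: adjoints of polynomials, fixed and moved spaces
-/

namespace Cfsg.Agent.Helper7.UBlk

open Matrix Module Polynomial Cfsg Cfsg.Agent.Helper7.Herm Cfsg.Agent.Helper7.SUNd Cfsg.Agent.Helper8.HermTwo
  Cfsg.Agent.Helper8.AutSU Cfsg.Agent.Helper7.POrd Cfsg.Agent.Helper7.SpOrd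

variable {F : Type*} [Field F] [Fintype F] {q N : ℕ} [hF : Fact (Fintype.card F = q ^ 2)]

/-- the field automorphism `a ↦ a ^ q`. -/
noncomputable def conjHom (F : Type*) [Field F] [Fintype F] (q : ℕ) [hF : Fact (Fintype.card F = q ^ 2)] :
    F →+* F where
  toFun a := a ^ q
  map_one' := one_pow q
  map_mul' a b := mul_pow a b q
  map_zero' := b_zero
  map_add' a b := b_add a b

theorem conjHom_apply (a : F) : conjHom F q a = a ^ q := rfl

/-- totally isotropic subspaces. -/
def TIso (q : ℕ) (W : Submodule F (Fin N → F)) : Prop :=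
  ∀ u ∈ W, ∀ v ∈ W, hermForm N F q u v = 0

variable {T : Module.End F (Fin N → F)}

theorem uiso_pow (hT : ∀ u v, hermForm N F q (T u) (T v) = hermForm N F q u v) (n : ℕ) (u v : Fin N → F) :
    hermForm N F q ((T ^ n) u) ((T ^ n) v) = hermForm N F q u v := by
  induction n with
  | zero => simp
  | succ n ih => rw [pow_succ', Module.End.mul_apply, Module.End.mul_apply, hT, ih]

theorem uadj_one (hT : ∀ u v, hermForm N F q (T u) (T v) = hermForm N F q u v) {r : ℕ} (hr : 0 < r)
    (hTr : T ^ r = 1) (u v : Fin N → F) :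
    hermForm N F q (T u) v = hermForm N F q u ((T ^ (r - 1)) v) := by
  have h2 : v = T ((T ^ (r - 1)) v) := by
    rw [← Module.End.mul_apply, ← pow_succ', Nat.sub_add_cancel hr, hTr, Module.End.one_apply]
  conv_lhs => rw [h2]
  rw [hT]

theorem uadj_pow (hT : ∀ u v, hermForm N F q (T u) (T v) = hermForm N F q u v) {r : ℕ} (hr : 0 < r)
    (hTr : T ^ r = 1) (n : ℕ) (u v : Fin N → F) :
    hermForm N F q ((T ^ n) u) v = hermForm N F q u (((T ^ (r - 1)) ^ n) v) := by
  induction n generalizing u v with
  | zero => simp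
  | succ n ih =>
    rw [pow_succ', Module.End.mul_apply, uadj_one hT hr hTr, ih, pow_succ, Module.End.mul_apply]

/-- **the adjoint of a polynomial in a unitary isometry**: the coefficients are conjugated. -/
theorem uadj_aeval (hT : ∀ u v, hermForm N F q (T u) (T v) = hermForm N F q u v) {r : ℕ} (hr : 0 < r)
    (hTr : T ^ r = 1) (f : F[X]) (u v : Fin N → F) :
    hermForm N F q (aeval T f u) v = hermForm N F q u (aeval (T ^ (r - 1)) (f.map (conjHom F q)) v) := by
  induction f using Polynomial.induction_on' with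
  | add f g hf hg =>
    rw [map_add, Polynomial.map_add, map_add, LinearMap.add_apply, LinearMap.add_apply, hermForm_add_left,
      h_add_right, hf, hg]
  | monomial n c =>
    rw [Polynomial.map_monomial, aeval_monomial, aeval_monomial, Module.End.mul_apply, Module.End.mul_apply,
      Module.algebraMap_end_apply, Module.algebraMap_end_apply, hermForm_smul_left, hermForm_smul_right,
      uadj_pow hT hr hTr, conjHom_apply, bb]

/-- the fixed space is orthogonal to the moved space. -/
theorem ufix_perp_mov (hT : ∀ u v, hermForm N F q (T u) (T v) = hermForm N F q u v) {r : ℕ}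
    (hrF : (r : F) ≠ 0) {u v : Fin N → F} (hu : u ∈ fixS T) (hv : v ∈ movS r T) :
    hermForm N F q u v = 0 := by
  have h1 : hermForm N F q u (Phi r T v) = (r : F) * hermForm N F q u v := by
    unfold Phi
    rw [LinearMap.sum_apply, Cfsg.Agent.Helper7.Ex27.herm_sum_right]
    have : ∀ t ∈ Finset.range r, hermForm N F q u ((T ^ t) v) = hermForm N F q u v := by
      intro t _
      conv_lhs => rw [← pow_apply_of_fixed (mem_fixS.mp hu) t]
      exact uiso_pow hT t u v
    rw [Finset.sum_congr rfl this, Finset.sum_const, Finset.card_range, nsmul_eq_mul]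
  rw [mem_movS.mp hv, h_zero_right] at h1
  exact (mul_eq_zero.mp h1.symm).resolve_left hrF

theorem umov_perp_fix (hT : ∀ u v, hermForm N F q (T u) (T v) = hermForm N F q u v) {r : ℕ}
    (hrF : (r : F) ≠ 0) {u v : Fin N → F} (hu : u ∈ movS r T) (hv : v ∈ fixS T) :
    hermForm N F q u v = 0 := h_eq_zero_of_swap (ufix_perp_mov hT hrF hv hu)

theorem und_inf_fix (hT : ∀ u v, hermForm N F q (T u) (T v) = hermForm N F q u v) {r : ℕ} (hrF : (r : F) ≠ 0)
    (hTr : T ^ r = 1) {W : Submodule F (Fin N → F)} (hW : W ∈ Module.End.invtSubmodule T) (hND : NDeg q W) :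
    NDeg q (W ⊓ fixS T) := by
  intro u hu hne
  obtain ⟨w, hw, hw'⟩ := hND u hu.1 hne
  have hdec := invt_decomp hrF hTr hW
  rw [hdec] at hw
  obtain ⟨a, ha, b, hb, rfl⟩ := Submodule.mem_sup.mp hw
  refine ⟨a, ha, ?_⟩
  rw [h_add_right, ufix_perp_mov hT hrF hu.2 hb.2, add_zero] at hw'
  exact hw'

theorem und_inf_mov (hT : ∀ u v, hermForm N F q (T u) (T v) = hermForm N F q u v) {r : ℕ} (hrF : (r : F) ≠ 0)
    (hTr : T ^ r = 1) {W : Submodule F (Fin N → F)} (hW : W ∈ Module.End.invtSubmodule T) (hND : NDeg q W) :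
    NDeg q (W ⊓ movS r T) := by
  intro u hu hne
  obtain ⟨w, hw, hw'⟩ := hND u hu.1 hne
  have hdec := invt_decomp hrF hTr hW
  rw [hdec] at hw
  obtain ⟨a, ha, b, hb, rfl⟩ := Submodule.mem_sup.mp hw
  refine ⟨b, hb, ?_⟩
  rw [h_add_right, umov_perp_fix hT hrF hu.2 ha.2, zero_add] at hw'
  exact hw'

/-- the orthogonal complement, inside `E`, of an invariant subspace is invariant. -/
theorem uperp_invt (hT : ∀ u v, hermForm N F q (T u) (T v) = hermForm N F q u v) {r : ℕ} (hr : 0 < r)
    (hTr : T ^ r = 1) {E W : Submodule F (Fin N → F)} (hE : E ∈ Module.End.invtSubmodule T)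
    (hW : W ∈ Module.End.invtSubmodule T) : perpIn q E W ∈ Module.End.invtSubmodule T := by
  rw [Module.End.mem_invtSubmodule]
  intro v hv
  rw [Submodule.mem_comap]
  refine ⟨invt_apply hE hv.1, fun w hw => ?_⟩
  rw [uadj_one hT hr hTr]
  exact hv.2 _ (invt_pow_apply hW hw _)

/-- non-degeneracy is the triviality of the radical. -/
theorem ndeg_iff_inf_perp {W : Submodule F (Fin N → F)} : NDeg q W ↔ perpIn q W W = ⊥ := by
  constructor
  · intro hND
    rw [eq_bot_iff]
    intro x hx
    rw [Submodule.mem_bot]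
    by_contra hx0
    obtain ⟨y, hy, hne⟩ := hND x hx.1 hx0
    exact hne (hx.2 y hy)
  · intro h w hw hw0
    by_contra hcon
    push Not at hcon
    have : w ∈ perpIn q W W := ⟨hw, hcon⟩
    rw [h, Submodule.mem_bot] at this
    exact hw0 this

variable {p : ℕ} [Fact p.Prime] [CharP F p] {r : ℕ} [Fact r.Prime]

/-- an invariant subspace without fixed vectors of the minimal dimension is nondegenerate or totally
isotropic. -/
theorem und_or_ti (hT : ∀ u v, hermForm N F q (T u) (T v) = hermForm N F q u v) (hTr : T ^ r = 1)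
    {M : Submodule F (Fin N → F)} (hM : M ∈ Module.End.invtSubmodule T) (hfix : M ⊓ fixS T = ⊥)
    (hdim : finrank F ↥M = orderOf ((Fintype.card F : ℕ) : ZMod r)) : NDeg q M ∨ TIso q M := by
  have hr : 0 < r := (Fact.out : r.Prime).pos
  have hinv : perpIn q M M ∈ Module.End.invtSubmodule T := uperp_invt hT hr hTr hM hM
  rcases irred_of_finrank hTr hfix hdim hinv (fun x hx => hx.1) with h | h
  · left
    exact ndeg_iff_inf_perp.mpr h
  · right
    intro u hu v hv
    have : u ∈ perpIn q M M := by rw [h]; exact hu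
    exact this.2 v hv

end Cfsg.Agent.Helper7.UBlk
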