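import Mathlib
import Cfsg.Agent.Helper7.UBlkA
import Cfsg.Agent.Helper7.SpOrdD

set_option autoImplicit false
set_option linter.unusedSectionVars false
set_option linter.unusedVariables false

/-!
# Unitary isometries of prime order: the self-dual case
-/

namespace Cfsg.Agent.Helper7.UBlk

open Matrix Module Polynomial Cfsg Cfsg.Agent.Helper7.Herm Cfsg.Agent.Helper7.SUNd Cfsg.Agent.Helper8.HermTwo
  Cfsg.Agent.Helper8.AutSU Cfsg.Agent.Helper7.POrd Cfsg.Agent.Helper7.SpOrd

variable {F : Type*} [Field F] [Fintype F] {q N : ℕ} [hF : Fact (Fintype.card F = q ^ 2)]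

/-- odd powers of `q` act on the field as `q` does. -/
theorem pow_q_pow_odd {s : ℕ} (hs : Odd s) (a : F) : a ^ (q ^ s) = a ^ q := by
  obtain ⟨k, rfl⟩ := hs
  have h1 : q ^ (2 * k + 1) = (q ^ 2) ^ k * q := by rw [pow_succ, pow_mul]
  rw [h1, pow_mul, ← hF.out, FiniteField.pow_card_pow]

/-- **the twisted Frobenius power of a polynomial in an operator.** -/
theorem aeval_pow_q_pow {A : Type*} [Ring A] [Algebra F A] (τ : A) (f : F[X]) {s : ℕ} (hs : Odd s) :
    aeval (τ ^ (q ^ s)) (f.map (conjHom F q)) = (aeval τ f) ^ (q ^ s) := by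
  obtain ⟨p, e, hp', hc, he⟩ := exists_char_pow hF.out
  haveI : Fact p.Prime := ⟨hp'⟩
  haveI : CharP F p := hc
  have hqs : q ^ s = p ^ (e * s) := by rw [he, pow_mul]
  have hmap : f.map (conjHom F q) = f.map (iterateFrobenius F p (e * s)) := by
    ext n
    rw [Polynomial.coeff_map, Polynomial.coeff_map, conjHom_apply, iterateFrobenius_def, ← hqs, pow_q_pow_odd hs]
  rw [hmap, hqs, ← expand_aeval, ← map_expand, map_iterateFrobenius_expand, map_pow]

variable {r : ℕ} [Fact r.Prime] {T : Module.End F (Fin N → F)}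

omit [Fact r.Prime] in
/-- **self-duality**: when `r ∣ q ^ s + 1` with `s` odd, a vector killed by `g(T)` is killed by the adjoint. -/
theorem uaeval_inv_of_aeval (hTr : T ^ r = 1) {s : ℕ} (hs : Odd s) (hQ : r ∣ q ^ s + 1) {g : F[X]}
    {u : Fin N → F} (h : aeval T g u = 0) : aeval (T ^ (r - 1)) (g.map (conjHom F q)) u = 0 := by
  have hr : 0 < r := Nat.pos_of_ne_zero (by rintro rfl; simp at hQ)
  rw [← pow_eq_inv_of_dvd hr hTr hQ, aeval_pow_q_pow T g hs]
  have hpos : 0 < q ^ s := Nat.pow_pos (one_le_q hF.out)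
  obtain ⟨m, hm⟩ : ∃ m, q ^ s = m + 1 := ⟨q ^ s - 1, by omega⟩
  rw [hm, pow_succ, Module.End.mul_apply, h, map_zero]

variable {p : ℕ} [Fact p.Prime] [CharP F p]

/-- the kernel of a self-dual factor is nondegenerate inside a nondegenerate invariant subspace. -/
theorem und_inf_ker (hrp : r ≠ p) (hT : ∀ u v, hermForm N F q (T u) (T v) = hermForm N F q u v)
    (hTr : T ^ r = 1) {W : Submodule F (Fin N → F)}
    (hW : W ∈ Module.End.invtSubmodule T) (hND : NDeg q W) {g : F[X]} (hg : g ∣ (X ^ r - 1 : F[X]))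
    (hself : ∀ u : Fin N → F, aeval T g u = 0 → aeval (T ^ (r - 1)) (g.map (conjHom F q)) u = 0) :
    NDeg q (W ⊓ LinearMap.ker (aeval T g)) := by
  have hr : 0 < r := (Fact.out : r.Prime).pos
  obtain ⟨g', hg'⟩ := hg
  have hsep : (X ^ r - 1 : F[X]).Separable := by
    have := separable_X_pow_sub_C (1 : F) (natCast_ne_zero_of_ne (F := F) hrp) one_ne_zero
    rwa [map_one] at this
  have hcop : IsCoprime g g' := by
    rw [hg'] at hsep
    exact hsep.isCoprime
  obtain ⟨a, b, hab⟩ := hcop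
  intro u hu hne
  by_contra hcon
  push Not at hcon
  obtain ⟨w, hw, hw'⟩ := hND u hu.1 hne
  apply hw'
  have h1 : w = aeval T g (aeval T a w) + aeval T (b * g') w := by
    have : w = aeval T (a * g + b * g') w := by rw [hab, map_one, Module.End.one_apply]
    conv_lhs => rw [this]
    rw [map_add, LinearMap.add_apply, mul_comm a g, map_mul, Module.End.mul_apply]
  have h2 : aeval T (b * g') w ∈ W ⊓ LinearMap.ker (aeval T g) := by
    refine Submodule.mem_inf.mpr ⟨invt_aeval_apply hW _ hw, ?_⟩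
    rw [LinearMap.mem_ker, ← Module.End.mul_apply, ← map_mul]
    have : g * (b * g') = b * (X ^ r - 1) := by rw [hg']; ring
    rw [this, map_mul, map_sub, map_pow, aeval_X, map_one, hTr, sub_self, mul_zero, LinearMap.zero_apply]
  have h3 : hermForm N F q u (aeval T g (aeval T a w)) = 0 := by
    apply h_eq_zero_of_swap
    rw [uadj_aeval hT hr hTr, hself u (LinearMap.mem_ker.mp hu.2), h_zero_right]
  rw [h1, h_add_right, h3, hcon _ h2, add_zero]

/-- **existence of a block, self-dual case.** -/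
theorem exists_nd_irred_sd (hrp : r ≠ p) (hT : ∀ u v, hermForm N F q (T u) (T v) = hermForm N F q u v)
    (hTr : T ^ r = 1) {s : ℕ} (hs : Odd s) (hQ : r ∣ q ^ s + 1) {W : Submodule F (Fin N → F)}
    (hW : W ∈ Module.End.invtSubmodule T) (hND : NDeg q W) (hfix : W ⊓ fixS T = ⊥) (hne : W ≠ ⊥) :
    ∃ M : Submodule F (Fin N → F), M ≤ W ∧ M ∈ Module.End.invtSubmodule T ∧ NDeg q M ∧
      finrank F ↥M = orderOf ((Fintype.card F : ℕ) : ZMod r) := by
  have hr : 0 < r := (Fact.out : r.Prime).pos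
  obtain ⟨g, hg, hdvd, hdeg, v, hvW, hv0, hgv⟩ := exists_irred_vec hrp hTr hW hfix hne
  have hself : ∀ u : Fin N → F, aeval T g u = 0 → aeval (T ^ (r - 1)) (g.map (conjHom F q)) u = 0 :=
    fun u h => uaeval_inv_of_aeval hTr hs hQ h
  have hWg : W ⊓ LinearMap.ker (aeval T g) ∈ Module.End.invtSubmodule T := inf_invt hW (ker_aeval_invt T g)
  have hNDg := und_inf_ker hrp hT hTr hW hND hdvd hself
  have hfixg : (W ⊓ LinearMap.ker (aeval T g)) ⊓ fixS T = ⊥ := by
    rw [eq_bot_iff, ← hfix]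
    exact inf_le_inf_right _ inf_le_left
  have hneg : W ⊓ LinearMap.ker (aeval T g) ≠ ⊥ := by
    intro h
    have : v ∈ W ⊓ LinearMap.ker (aeval T g) := ⟨hvW, LinearMap.mem_ker.mpr hgv⟩
    rw [h, Submodule.mem_bot] at this
    exact hv0 this
  obtain ⟨u, hu, huu⟩ := exists_aniso hNDg hneg
  have hu0 : u ≠ 0 := by
    intro h
    apply huu
    rw [h, h_zero_right]
  have hMinv := cyc_invt T u g hg.ne_zero (LinearMap.mem_ker.mp hu.2)
  have hMW : cyc T u g.natDegree ≤ W := cyc_le hW hu.1 _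
  have hfixM : cyc T u g.natDegree ⊓ fixS T = ⊥ := by
    rw [eq_bot_iff, ← hfix]
    exact inf_le_inf_right _ hMW
  have humem : u ∈ cyc T u g.natDegree := by
    have := pow_mem_cyc T u hg.natDegree_pos
    simpa using this
  have hdim : finrank F ↥(cyc T u g.natDegree) = orderOf ((Fintype.card F : ℕ) : ZMod r) := by
    have h1 : finrank F ↥(cyc T u g.natDegree) ≤ orderOf ((Fintype.card F : ℕ) : ZMod r) := by
      rw [← hdeg]
      exact finrank_cyc_le T _ _
    have h2 := orderOf_dvd_finrank hTr hMinv hfixM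
    have h3 : 0 < finrank F ↥(cyc T u g.natDegree) := by
      rw [Module.finrank_pos_iff_exists_ne_zero]
      exact ⟨⟨_, humem⟩, fun h0 => hu0 (congrArg Subtype.val h0)⟩
    exact le_antisymm h1 (Nat.le_of_dvd h3 h2)
  refine ⟨_, hMW, hMinv, ?_, hdim⟩
  rcases und_or_ti hT hTr hMinv hfixM hdim with h | h
  · exact h
  · exfalso
    exact huu (h u humem u humem)

end Cfsg.Agent.Helper7.UBlk
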