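import Mathlib
import Cfsg.Agent.Helper7.UBlkB
import Cfsg.Agent.Helper8.GUOrder

set_option autoImplicit false
set_option linter.unusedSectionVars false
set_option linter.unusedVariables false

/-!
# Unitary isometries of prime order: blocks
-/

namespace Cfsg.Agent.Helper7.UBlk

open Matrix Module Polynomial Cfsg Cfsg.Agent.Helper7.Herm Cfsg.Agent.Helper7.SUNd Cfsg.Agent.Helper8.HermTwo
  Cfsg.Agent.Helper8.AutSU Cfsg.Agent.Helper7.POrd Cfsg.Agent.Helper7.SpOrd

variable {F : Type*} [Field F] [Fintype F] {q N : ℕ} [hF : Fact (Fintype.card F = q ^ 2)]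

/-- the hermitian form of two combinations of an orthonormal family. -/
theorem herm_lincomb_lincomb {k : ℕ} {b : Fin k → (Fin N → F)}
    (hb : ∀ i j, hermForm N F q (b i) (b j) = if i = j then 1 else 0) (c d : Fin k → F) :
    hermForm N F q (∑ i, c i • b i) (∑ i, d i • b i) = hermForm k F q c d := by
  rw [herm_lincomb_right]
  show _ = ∑ j, c j * d j ^ q
  refine Finset.sum_congr rfl fun j _ => ?_
  rw [herm_lincomb_onb hb, mul_comm]

/-- the number of unit vectors of a nondegenerate subspace. -/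
theorem card_unit_of_ndeg {M : Submodule F (Fin N → F)} (hM : NDeg q M) {k : ℕ} (hk : finrank F ↥M = k) :
    Nat.card {v : Fin N → F // v ∈ M ∧ hermForm N F q v v = 1} = Cfsg.Agent.Helper8.GUOrder.A k F q 1 := by
  obtain ⟨b, hbM, hb⟩ := exists_onb k M hM hk
  have hspan := span_onb_eq hk hbM hb
  unfold Cfsg.Agent.Helper8.GUOrder.A
  symm
  refine Nat.card_congr (Equiv.ofBijective (fun c => ⟨∑ i, c.1 i • b i, ?_, ?_⟩) ⟨?_, ?_⟩)
  · exact Submodule.sum_mem _ fun i _ => Submodule.smul_mem _ _ (hbM i)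
  · rw [herm_lincomb_lincomb hb, c.2]
  · intro c d hcd
    have h1 : ∑ i, c.1 i • b i = ∑ i, d.1 i • b i := congrArg Subtype.val hcd
    apply Subtype.ext
    funext j
    rw [← herm_lincomb_onb hb c.1 j, h1, herm_lincomb_onb hb]
  · rintro ⟨v, hvM, hv⟩
    rw [← hspan] at hvM
    obtain ⟨c, rfl⟩ := (Submodule.mem_span_range_iff_exists_fun F).mp hvM
    refine ⟨⟨c, ?_⟩, rfl⟩
    rw [← herm_lincomb_lincomb hb, hv]

variable {T : Module.End F (Fin N → F)} {r : ℕ} [Fact r.Prime]

/-- an isometry of prime order `r` without fixed vectors on an invariant subspace permutes its unit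
vectors in orbits of length `r`. -/
theorem dvd_card_unit_of_nofix (hT : ∀ u v, hermForm N F q (T u) (T v) = hermForm N F q u v)
    (hTr : T ^ r = 1) {M : Submodule F (Fin N → F)} (hM : M ∈ Module.End.invtSubmodule T)
    (hfix : M ⊓ fixS T = ⊥) :
    r ∣ Nat.card {v : Fin N → F // v ∈ M ∧ hermForm N F q v v = 1} := by
  classical
  let _ : Fintype {v : Fin N → F // v ∈ M ∧ hermForm N F q v v = 1} := Fintype.ofFinite _
  let f : Function.End {v : Fin N → F // v ∈ M ∧ hermForm N F q v v = 1} :=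
    fun v => ⟨T v.1, invt_apply hM v.2.1, by rw [hT]; exact v.2.2⟩
  have hf : ∀ k : ℕ, ∀ w, (((f ^ k) w : {v : Fin N → F // v ∈ M ∧ hermForm N F q v v = 1}) : Fin N → F)
      = (T ^ k) (w : Fin N → F) := by
    intro k
    induction k with
    | zero => intro w; rfl
    | succ k ih =>
      intro w
      rw [pow_succ, Function.End.mul_def]
      show (((f ^ k) (f w) : {v : Fin N → F // v ∈ M ∧ hermForm N F q v v = 1}) : Fin N → F) = _
      rw [ih, pow_succ, Module.End.mul_apply]
  have hfr : f ^ r ^ 1 = 1 := by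
    funext w
    rw [pow_one]
    apply Subtype.ext
    rw [hf, hTr]
    rfl
  have h1 := Equiv.Perm.card_fixedPoints_modEq (f := f) (p := r) (n := 1) hfr
  have h2 : Fintype.card ↥(Function.fixedPoints f) = 0 := by
    rw [Fintype.card_eq_zero_iff]
    constructor
    rintro ⟨w, hw⟩
    have h3 : (w : Fin N → F) ∈ M ⊓ fixS T := by
      refine ⟨w.2.1, ?_⟩
      show (w : Fin N → F) ∈ fixS T
      rw [mem_fixS]
      have : f w = w := hw
      exact congrArg Subtype.val this
    rw [hfix, Submodule.mem_bot] at h3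
    have h4 := w.2.2
    rw [h3, h_zero_right] at h4
    exact zero_ne_one h4
  rw [h2] at h1
  rw [Nat.card_eq_fintype_card]
  exact (Nat.modEq_zero_iff_dvd).mp h1

/-- the self-dual case: the irreducible constituents are nondegenerate. -/
def SD (F : Type*) [Fintype F] (q r : ℕ) : Prop :=
  Odd (orderOf ((Fintype.card F : ℕ) : ZMod r)) ∧ r ∣ q ^ orderOf ((Fintype.card F : ℕ) : ZMod r) + 1

variable {p : ℕ} [Fact p.Prime] [CharP F p]

theorem not_dvd_q (F : Type*) [Field F] [Fintype F] {q : ℕ} [hF : Fact (Fintype.card F = q ^ 2)]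
    {p : ℕ} [Fact p.Prime] [CharP F p] {r : ℕ} [Fact r.Prime] (hrp : r ≠ p) : ¬ r ∣ q := by
  intro h
  apply card_natCast_ne_zero (F := F) hrp
  rw [ZMod.natCast_eq_zero_iff, hF.out]
  exact Dvd.dvd.pow h (by norm_num)

/-- a nondegenerate invariant subspace of the minimal dimension only exists in the self-dual case. -/
theorem sd_of_ndeg (hrp : r ≠ p) (hT : ∀ u v, hermForm N F q (T u) (T v) = hermForm N F q u v)
    (hTr : T ^ r = 1) {M : Submodule F (Fin N → F)} (hM : M ∈ Module.End.invtSubmodule T)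
    (hfix : M ⊓ fixS T = ⊥) (hND : NDeg q M)
    (hdim : finrank F ↥M = orderOf ((Fintype.card F : ℕ) : ZMod r)) : SD F q r := by
  have hrpr : r.Prime := Fact.out
  have hpos := orderOf_q_pos (F := F) hrp
  have h1 := dvd_card_unit_of_nofix hT hTr hM hfix
  rw [card_unit_of_ndeg hND hdim] at h1
  obtain ⟨b', hb'⟩ : ∃ b', orderOf ((Fintype.card F : ℕ) : ZMod r) = b' + 1 := ⟨_, (Nat.succ_pred_eq_of_pos hpos).symm⟩
  have hnq : ¬ r ∣ q ^ b' := fun h => not_dvd_q F hrp (hrpr.dvd_of_dvd_pow h)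
  rw [hb', Cfsg.Agent.Helper8.GUOrder.card_unit_vectors hF.out] at h1
  have h2 := (hrpr.dvd_mul.mp h1).resolve_left hnq
  by_cases hev : Even b'
  · rw [if_pos hev] at h2
    refine ⟨?_, ?_⟩
    · rw [hb']
      exact hev.add_one
    · rw [hb']
      exact h2
  · exfalso
    rw [if_neg hev] at h2
    obtain ⟨e, he⟩ : ∃ e, b' + 1 = 2 * e := by
      obtain ⟨e, he⟩ := Nat.not_even_iff_odd.mp hev
      exact ⟨e + 1, by omega⟩
    have h3 : ((Fintype.card F : ℕ) : ZMod r) ^ e = 1 := by
      have h4 : ((q ^ (b' + 1) - 1 : ℕ) : ZMod r) = 0 := (ZMod.natCast_eq_zero_iff _ _).mpr h2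
      rw [Nat.cast_sub (Nat.one_le_pow _ _ (by
        rcases Nat.eq_zero_or_pos q with h | h
        · exfalso
          apply not_dvd_q F (q := q) hrp
          rw [h]
          exact dvd_zero _
        · exact h)), Nat.cast_pow, Nat.cast_one, sub_eq_zero] at h4
      rw [hF.out, Nat.cast_pow, ← pow_mul, ← he]
      exact h4
    have h5 := orderOf_dvd_of_pow_eq_one h3
    rw [hb', he] at h5
    have h6 := Nat.le_of_dvd (by omega) h5
    omega

/-- **existence of a block, paired case.** -/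
theorem exists_nd_pair (hrp : r ≠ p) (hT : ∀ u v, hermForm N F q (T u) (T v) = hermForm N F q u v)
    (hTr : T ^ r = 1) (hsd : ¬ SD F q r) {W : Submodule F (Fin N → F)}
    (hW : W ∈ Module.End.invtSubmodule T) (hND : NDeg q W) (hfix : W ⊓ fixS T = ⊥) (hne : W ≠ ⊥) :
    ∃ H M : Submodule F (Fin N → F), H ≤ W ∧ H ∈ Module.End.invtSubmodule T ∧ NDeg q H ∧
      finrank F ↥H = 2 * orderOf ((Fintype.card F : ℕ) : ZMod r) ∧
      M ≤ H ∧ M ∈ Module.End.invtSubmodule T ∧ TIso q M ∧
      finrank F ↥M = orderOf ((Fintype.card F : ℕ) : ZMod r) := by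
  have hr : 0 < r := (Fact.out : r.Prime).pos
  have hipos : 0 < orderOf ((Fintype.card F : ℕ) : ZMod r) := orderOf_q_pos (F := F) hrp
  obtain ⟨M, hMW, hMinv, hMd⟩ := exists_invt_finrank_eq hrp hTr hW hfix hne
  have hfixM : M ⊓ fixS T = ⊥ := by
    rw [eq_bot_iff, ← hfix]
    exact inf_le_inf_right _ hMW
  have hMti : TIso q M := by
    rcases und_or_ti hT hTr hMinv hfixM hMd with h | h
    · exact absurd (sd_of_ndeg hrp hT hTr hMinv hfixM h hMd) hsd
    · exact h
  have hMne : M ≠ ⊥ := by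
    intro h
    rw [h, finrank_bot] at hMd
    omega
  have hPinv : perpIn q W M ∈ Module.End.invtSubmodule T := uperp_invt hT hr hTr hW hMinv
  have hPW : perpIn q W M ≤ W := fun x hx => hx.1
  have hPne : perpIn q W M ≠ W := by
    intro h
    apply hMne
    rw [eq_bot_iff]
    intro m hm
    rw [Submodule.mem_bot]
    by_contra hm0
    obtain ⟨w, hw, hw'⟩ := hND m (hMW hm) hm0
    apply hw'
    have : w ∈ perpIn q W M := by rw [h]; exact hw
    exact h_eq_zero_of_swap (this.2 m hm)
  obtain ⟨Qc, hQc, hcompl⟩ :=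
    (Module.End.isSemisimple_iff.mp (isSemisimple_of_pow_eq_one hrp hTr)) _ hPinv
  have hNinv : Qc ⊓ W ∈ Module.End.invtSubmodule T := inf_invt hQc hW
  have hsup : (perpIn q W M) ⊔ (Qc ⊓ W) = W := by
    rw [← sup_inf_assoc_of_le _ hPW, hcompl.sup_eq_top, top_inf_eq]
  have hNne : Qc ⊓ W ≠ ⊥ := by
    intro h
    rw [h, sup_bot_eq] at hsup
    exact hPne hsup
  have hfixN : (Qc ⊓ W) ⊓ fixS T = ⊥ := by
    rw [eq_bot_iff, ← hfix]
    exact inf_le_inf_right _ inf_le_right
  obtain ⟨N', hN'N, hN'inv, hN'd⟩ := exists_invt_finrank_eq hrp hTr hNinv hfixN hNne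
  have hN'W : N' ≤ W := hN'N.trans inf_le_right
  have hN'perp : ∀ x ∈ N', (∀ m ∈ M, hermForm N F q x m = 0) → x = 0 := by
    intro x hx hxm
    have h1 : x ∈ (perpIn q W M) ⊓ Qc := ⟨⟨hN'W hx, hxm⟩, (hN'N hx).1⟩
    rw [hcompl.inf_eq_bot] at h1
    exact h1
  have hN'ne : N' ≠ ⊥ := by
    intro h
    rw [h, finrank_bot] at hN'd
    omega
  have hMN' : perpIn q M N' = ⊥ := by
    have hinv : perpIn q M N' ∈ Module.End.invtSubmodule T := uperp_invt hT hr hTr hMinv hN'inv
    rcases irred_of_finrank hTr hfixM hMd hinv (fun x hx => hx.1) with h | h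
    · exact h
    · exfalso
      apply hN'ne
      rw [eq_bot_iff]
      intro n hn
      rw [Submodule.mem_bot]
      apply hN'perp n hn
      intro m hm
      have hm' : m ∈ perpIn q M N' := by rw [h]; exact hm
      exact h_eq_zero_of_swap (hm'.2 n hn)
  have hdisj : M ⊓ N' = ⊥ := by
    rw [eq_bot_iff]
    intro x hx
    rw [Submodule.mem_bot]
    exact hN'perp x hx.2 (fun m hm => hMti x hx.1 m hm)
  refine ⟨M ⊔ N', M, sup_le hMW hN'W, sup_invt hMinv hN'inv, ?_, ?_, le_sup_left, hMinv, hMti, hMd⟩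
  · intro h hh hne0
    obtain ⟨m, hm, n, hn, rfl⟩ := Submodule.mem_sup.mp hh
    by_cases hn0 : n = 0
    · have hm0 : m ≠ 0 := by
        intro h
        apply hne0
        rw [h, hn0, add_zero]
      have : m ∉ perpIn q M N' := by
        intro h
        rw [hMN', Submodule.mem_bot] at h
        exact hm0 h
      rw [mem_perpIn] at this
      push Not at this
      obtain ⟨n', hn', hb⟩ := this hm
      refine ⟨n', Submodule.mem_sup_right hn', ?_⟩
      rw [hn0, add_zero]
      exact hb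
    · have : ¬ ∀ m ∈ M, hermForm N F q n m = 0 := fun h => hn0 (hN'perp n hn h)
      push Not at this
      obtain ⟨m', hm', hb⟩ := this
      refine ⟨m', Submodule.mem_sup_left hm', ?_⟩
      rw [hermForm_add_left, hMti m hm m' hm', zero_add]
      exact hb
  · have h := Submodule.finrank_sup_add_finrank_inf_eq M N'
    rw [hdisj, finrank_bot, add_zero, hMd, hN'd] at h
    rw [h]; ring

open Classical in
/-- the size of the nondegenerate blocks of an isometry of order `r`. -/
noncomputable def cU (F : Type*) [Fintype F] (q r : ℕ) : ℕ :=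
  if SD F q r then orderOf ((Fintype.card F : ℕ) : ZMod r) else 2 * orderOf ((Fintype.card F : ℕ) : ZMod r)

theorem cU_pos (hrp : r ≠ p) : 0 < cU F q r := by
  have := orderOf_q_pos (F := F) hrp
  unfold cU
  split_ifs <;> omega

/-- **existence of a block.** -/
theorem exists_ublock (hrp : r ≠ p) (hT : ∀ u v, hermForm N F q (T u) (T v) = hermForm N F q u v)
    (hTr : T ^ r = 1) {W : Submodule F (Fin N → F)}
    (hW : W ∈ Module.End.invtSubmodule T) (hND : NDeg q W) (hfix : W ⊓ fixS T = ⊥) (hne : W ≠ ⊥) :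
    ∃ U : Submodule F (Fin N → F), U ≤ W ∧ U ∈ Module.End.invtSubmodule T ∧ NDeg q U ∧
      finrank F ↥U = cU F q r := by
  unfold cU
  by_cases hsd : SD F q r
  · rw [if_pos hsd]
    exact exists_nd_irred_sd hrp hT hTr hsd.1 hsd.2 hW hND hfix hne
  · rw [if_neg hsd]
    obtain ⟨H, M, h1, h2, h3, h4, -⟩ := exists_nd_pair hrp hT hTr hsd hW hND hfix hne
    exact ⟨H, h1, h2, h3, h4⟩

/-- **the dimension of a nondegenerate invariant subspace without fixed vectors is a multiple of the
block size.** -/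
theorem cU_dvd_finrank (hrp : r ≠ p) (hT : ∀ u v, hermForm N F q (T u) (T v) = hermForm N F q u v)
    (hTr : T ^ r = 1) :
    ∀ (n : ℕ) (W : Submodule F (Fin N → F)), finrank F ↥W = n → W ∈ Module.End.invtSubmodule T → NDeg q W →
      W ⊓ fixS T = ⊥ → cU F q r ∣ n := by
  have hr : 0 < r := (Fact.out : r.Prime).pos
  intro n
  induction n using Nat.strong_induction_on with
  | _ n ih =>
    intro W hn hW hND hfix
    by_cases hne : W = ⊥
    · rw [hne, finrank_bot] at hn
      rw [← hn]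
      exact dvd_zero _
    · obtain ⟨U, hUW, hU, hUnd, hUd⟩ := exists_ublock hrp hT hTr hW hND hfix hne
      have h1 := uperp_invt hT hr hTr hW hU
      have h2 := ndeg_perpIn hND hUnd hUW
      have h3 := finrank_perpIn hUnd hUW
      have hcpos := cU_pos (F := F) (q := q) hrp
      have hfix' : (perpIn q W U) ⊓ fixS T = ⊥ := by
        rw [eq_bot_iff, ← hfix]
        exact inf_le_inf_right _ (fun x hx => hx.1)
      have := ih (finrank F ↥(perpIn q W U)) (by omega) _ rfl h1 h2 hfix'
      rw [← hn, ← h3, hUd]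
      exact Dvd.dvd.add (dvd_refl _) this

/-- **nondegenerate invariant subspaces of every dimension `c s`.** -/
theorem exists_und_mul (hrp : r ≠ p) (hT : ∀ u v, hermForm N F q (T u) (T v) = hermForm N F q u v)
    (hTr : T ^ r = 1) :
    ∀ (s : ℕ) (W : Submodule F (Fin N → F)), W ∈ Module.End.invtSubmodule T → NDeg q W → W ⊓ fixS T = ⊥ →
      cU F q r * s ≤ finrank F ↥W →
      ∃ U : Submodule F (Fin N → F), U ≤ W ∧ U ∈ Module.End.invtSubmodule T ∧ NDeg q U ∧
        finrank F ↥U = cU F q r * s := by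
  have hr : 0 < r := (Fact.out : r.Prime).pos
  intro s
  induction s with
  | zero =>
    intro W hW hND hfix _
    exact ⟨⊥, bot_le, Module.End.invtSubmodule.bot_mem T, ndeg_bot, by simp⟩
  | succ s ih =>
    intro W hW hND hfix hle
    have hcpos := cU_pos (F := F) (q := q) hrp
    have hne : W ≠ ⊥ := by
      intro h
      rw [h, finrank_bot] at hle
      have : 0 < cU F q r * (s + 1) := Nat.mul_pos hcpos (by omega)
      omega
    obtain ⟨U, hUW, hU, hUnd, hUd⟩ := exists_ublock hrp hT hTr hW hND hfix hne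
    have h1 := uperp_invt hT hr hTr hW hU
    have h2 := ndeg_perpIn hND hUnd hUW
    have h3 := finrank_perpIn hUnd hUW
    have hfix' : (perpIn q W U) ⊓ fixS T = ⊥ := by
      rw [eq_bot_iff, ← hfix]
      exact inf_le_inf_right _ (fun x hx => hx.1)
    have hle' : cU F q r * s ≤ finrank F ↥(perpIn q W U) := by
      rw [mul_add, mul_one] at hle
      omega
    obtain ⟨U', hU'le, hU', hU'nd, hU'd⟩ := ih _ h1 h2 hfix' hle'
    have hU'perp : ∀ u ∈ U, ∀ v ∈ U', hermForm N F q u v = 0 :=
      fun u hu v hv => h_eq_zero_of_swap ((hU'le hv).2 u hu)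
    refine ⟨U ⊔ U', sup_le hUW (hU'le.trans (fun x hx => hx.1)), sup_invt hU hU', ndeg_sup hUnd hU'nd hU'perp, ?_⟩
    rw [finrank_sup_perp hUnd hU'perp, hUd, hU'd]
    ring

end Cfsg.Agent.Helper7.UBlk
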