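import Mathlib
import Cfsg.Agent.Helper7.UBlkC

set_option autoImplicit false
set_option linter.unusedSectionVars false
set_option linter.unusedVariables false

/-!
# Unitary isometries of prime order: the dimensions of the nondegenerate invariant subspaces
-/

namespace Cfsg.Agent.Helper7.UBlk

open Matrix Module Polynomial Cfsg Cfsg.Agent.Helper7.Herm Cfsg.Agent.Helper7.SUNd Cfsg.Agent.Helper8.HermTwo
  Cfsg.Agent.Helper8.AutSU Cfsg.Agent.Helper7.POrd Cfsg.Agent.Helper7.SpOrd

variable {F : Type*} [Field F] [Fintype F] {q N : ℕ} [hF : Fact (Fintype.card F = q ^ 2)]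
variable {T : Module.End F (Fin N → F)} {r : ℕ} [Fact r.Prime] {p : ℕ} [Fact p.Prime] [CharP F p]

/-- the whole space is nondegenerate. -/
theorem ndeg_top : NDeg q (⊤ : Submodule F (Fin N → F)) := by
  intro u _ hu
  obtain ⟨i, hi⟩ : ∃ i, u i ≠ 0 := by
    by_contra h
    push Not at h
    exact hu (funext h)
  refine ⟨Pi.single i 1, Submodule.mem_top, ?_⟩
  unfold hermForm
  rw [Finset.sum_eq_single i]
  · rw [Pi.single_eq_same, one_pow, mul_one]
    exact hi
  · intro j _ hj
    rw [Pi.single_eq_of_ne hj, zero_pow, mul_zero]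
    have := Cfsg.Agent.Helper8.GUOrder.two_le_q hF.out
    omega
  · intro h
    exact absurd (Finset.mem_univ i) h

/-- the shape of a nondegenerate invariant subspace. -/
theorem ushape_of_invt (hrp : r ≠ p) (hT : ∀ u v, hermForm N F q (T u) (T v) = hermForm N F q u v)
    (hTr : T ^ r = 1) {W : Submodule F (Fin N → F)}
    (hW : W ∈ Module.End.invtSubmodule T) (hWnd : NDeg q W) :
    ∃ j a : ℕ, finrank F ↥W = cU F q r * j + a ∧ cU F q r * j ≤ finrank F ↥(movS r T) ∧
      a ≤ finrank F ↥(fixS T) := by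
  have hrF : (r : F) ≠ 0 := natCast_ne_zero_of_ne hrp
  have h1 := finrank_invt_decomp hrF hTr hW
  have h2 : NDeg q (W ⊓ movS r T) := und_inf_mov hT hrF hTr hW hWnd
  have h3 : (W ⊓ movS r T) ⊓ fixS T = ⊥ := by
    rw [eq_bot_iff]
    intro x hx
    have : x ∈ fixS T ⊓ movS r T := ⟨hx.2, hx.1.2⟩
    rw [(disjoint_fix_mov hrF T).eq_bot] at this
    exact this
  obtain ⟨j, hj⟩ := cU_dvd_finrank hrp hT hTr _ _ rfl (inf_invt hW (movS_invt r T)) h2 h3
  refine ⟨j, finrank F ↥(W ⊓ fixS T), ?_, ?_, ?_⟩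
  · rw [h1, hj, add_comm]
  · rw [← hj]
    exact Submodule.finrank_mono inf_le_right
  · exact Submodule.finrank_mono inf_le_right

/-- nondegenerate invariant subspaces of every admissible shape. -/
theorem exists_invt_of_ushape (hrp : r ≠ p) (hT : ∀ u v, hermForm N F q (T u) (T v) = hermForm N F q u v)
    (hTr : T ^ r = 1) {j a : ℕ} (hj : cU F q r * j ≤ finrank F ↥(movS r T))
    (ha : a ≤ finrank F ↥(fixS T)) :
    ∃ W : Submodule F (Fin N → F), W ∈ Module.End.invtSubmodule T ∧ NDeg q W ∧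
      finrank F ↥W = cU F q r * j + a := by
  have hrF : (r : F) ≠ 0 := natCast_ne_zero_of_ne hrp
  have hmov : NDeg q (movS r T) := by
    have := und_inf_mov hT hrF hTr (Module.End.invtSubmodule.top_mem T) (ndeg_top (q := q))
    rwa [top_inf_eq] at this
  have hfixnd : NDeg q (fixS T) := by
    have := und_inf_fix hT hrF hTr (Module.End.invtSubmodule.top_mem T) (ndeg_top (q := q))
    rwa [top_inf_eq] at this
  have h3 : movS r T ⊓ fixS T = ⊥ := by
    rw [inf_comm]
    exact (disjoint_fix_mov hrF T).eq_bot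
  obtain ⟨U, hUle, hUinv, hUnd, hUd⟩ := exists_und_mul hrp hT hTr j _ (movS_invt r T) hmov h3 hj
  obtain ⟨A, hAle, hAnd, hAd⟩ := exists_ndeg_le hfixnd rfl ha
  have hperp : ∀ u ∈ U, ∀ v ∈ A, hermForm N F q u v = 0 :=
    fun u hu v hv => umov_perp_fix hT hrF (hUle hu) (hAle hv)
  refine ⟨U ⊔ A, sup_invt hUinv (invt_of_le_fixS hAle), ndeg_sup hUnd hAnd hperp, ?_⟩
  rw [finrank_sup_perp hUnd hperp, hUd, hAd]

end Cfsg.Agent.Helper7.UBlk
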