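import Mathlib
import Cfsg.Agent.Helper7.SUNdE
import Cfsg.Agent.Helper8.HermTwoA
import Cfsg.Agent.Helper8.AutSUx

set_option autoImplicit false
set_option linter.unusedSectionVars false
set_option linter.unusedVariables false

/-!
# The number of nondegenerate subspaces of a unitary space
-/

namespace Cfsg.Agent.Helper7.UCnt

open Matrix Module Cfsg Cfsg.Agent.Helper7.Herm Cfsg.Agent.Helper7.SUNd Cfsg.Agent.Helper8.HermTwo
  Cfsg.Agent.Helper8.AutSU Cfsg.Agent.Helper8.GUOrder

variable {F : Type*} [Field F] [Fintype F] {q N k m : ℕ} [hF : Fact (Fintype.card F = q ^ 2)]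

/-- the action of the unitary group on subspaces. -/
@[reducible] def subAct (F : Type*) [Field F] (q N : ℕ) : MulAction (GU N F q) (Submodule F (Fin N → F)) where
  smul g W := W.map (Matrix.mulVecLin (mg g))
  one_smul W := by
    show W.map (Matrix.mulVecLin (mg (1 : GU N F q))) = W
    have : mg (1 : GU N F q) = 1 := rfl
    rw [this, Matrix.mulVecLin_one, Submodule.map_id]
  mul_smul g h W := by
    show W.map (Matrix.mulVecLin (mg (g * h))) =
      (W.map (Matrix.mulVecLin (mg h))).map (Matrix.mulVecLin (mg g))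
    have : mg (g * h) = mg g * mg h := rfl
    rw [this, Matrix.mulVecLin_mul, Submodule.map_comp]

omit [Fintype F] hF in
theorem map_eq_of_iff {W₁ W₂ : Submodule F (Fin N → F)} (g : GU N F q)
    (h : ∀ v, v ∈ W₁ ↔ mg g *ᵥ v ∈ W₂) : W₁.map (Matrix.mulVecLin (mg g)) = W₂ := by
  ext w
  rw [Submodule.mem_map]
  constructor
  · rintro ⟨v, hv, rfl⟩
    rw [Matrix.mulVecLin_apply]
    exact (h v).mp hv
  · intro hw
    refine ⟨mg g⁻¹ *ᵥ w, ?_, ?_⟩
    · rw [h, mg_inv_mulVec]
      exact hw
    · rw [Matrix.mulVecLin_apply, mg_inv_mulVec]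

omit [Fintype F] hF in
theorem mulVec_injective (g : GU N F q) : Function.Injective (Matrix.mulVecLin (mg g)) := by
  intro u v huv
  rw [Matrix.mulVecLin_apply, Matrix.mulVecLin_apply] at huv
  have := congrArg (fun w => mg g⁻¹ *ᵥ w) huv
  simp only [mg_inv_mulVec'] at this
  exact this

omit [Fintype F] hF in
theorem ndeg_map (g : GU N F q) {W : Submodule F (Fin N → F)} (hW : NDeg q W) :
    NDeg q (W.map (Matrix.mulVecLin (mg g))) := by
  rintro _ ⟨u, hu, rfl⟩ hne
  have hu0 : u ≠ 0 := by
    rintro rfl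
    exact hne (map_zero _)
  obtain ⟨v, hv, hv'⟩ := hW u hu hu0
  refine ⟨Matrix.mulVecLin (mg g) v, Submodule.mem_map_of_mem hv, ?_⟩
  rw [Matrix.mulVecLin_apply, Matrix.mulVecLin_apply, herm_mg]
  exact hv'

omit [Fintype F] hF in
theorem finrank_map (g : GU N F q) (W : Submodule F (Fin N → F)) :
    finrank F ↥(W.map (Matrix.mulVecLin (mg g))) = finrank F ↥W :=
  LinearEquiv.finrank_eq (Submodule.equivMapOfInjective _ (mulVec_injective g) W).symm

/-- the first block is nondegenerate. -/
theorem ndeg_W0 : NDeg q (W0 k m F) := by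
  intro u hu hne
  rw [eq_apv_of_mem_W0 hu] at hne ⊢
  have h1 : p1 u ≠ 0 := by
    intro h
    apply hne
    rw [h, apv_zero]
  have h2 : ¬ ∀ x, hermForm k F q (p1 u) x = 0 := fun h => h1 (eq_zero_of_h_right h)
  push Not at h2
  obtain ⟨x, hx⟩ := h2
  refine ⟨apv x 0, apv_mem_W0 x, ?_⟩
  rw [herm_apv, h_zero_right, add_zero]
  exact hx

omit [Fintype F] hF in
/-- the embedding of the first block, as a linear map. -/
def apvL (k m : ℕ) (F : Type*) [Field F] : (Fin k → F) →ₗ[F] (Fin (k + m) → F) where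
  toFun x := apv x 0
  map_add' x x' := by rw [← apv_add, add_zero]
  map_smul' c x := by rw [RingHom.id_apply, ← apv_smul, smul_zero]

omit [Fintype F] hF in
theorem finrank_W0 : finrank F ↥(W0 k m F) = k := by
  have hinj : Function.Injective (apvL k m F) := by
    intro x x' h
    exact (apv_inj h).1
  have hr : LinearMap.range (apvL k m F) = W0 k m F := by
    ext v
    constructor
    · rintro ⟨x, rfl⟩
      exact apv_mem_W0 x
    · intro hv
      exact ⟨p1 v, (eq_apv_of_mem_W0 hv).symm⟩
  rw [← hr, LinearMap.finrank_range_of_inj hinj, finrank_fin_fun]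

theorem mem_U0_of_perp {u : Fin (k + m) → F}
    (h : ∀ x : Fin k → F, hermForm (k + m) F q u (apv x 0) = 0) : u ∈ U0 k m F := by
  rw [mem_U0]
  apply eq_zero_of_h_right (q := q)
  intro x
  have := h x
  rw [← apv_p u, herm_apv, h_zero_right, add_zero] at this
  exact this

/-- the block diagonal unitary matrix. -/
noncomputable def bdG (A : GU k F q) (B : GU m F q) : GU (k + m) F q :=
  mkGU (bdM (mg A) (mg B)) (by
    intro u v
    rw [← apv_p u, ← apv_p v, bdM_mulVec, bdM_mulVec, herm_apv, herm_apv, herm_mg, herm_mg])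

theorem mg_bdG (A : GU k F q) (B : GU m F q) : mg (bdG A B) = bdM (mg A) (mg B) := rfl

theorem bdG_stab (A : GU k F q) (B : GU m F q) :
    (W0 k m F).map (Matrix.mulVecLin (mg (bdG A B))) = W0 k m F := by
  apply map_eq_of_iff
  intro v
  rw [mg_bdG, ← apv_p v, bdM_mulVec, mem_W0, mem_W0, p2_apv, p2_apv]
  constructor
  · intro h
    rw [h, Matrix.mulVec_zero]
  · intro h
    have := congrArg (fun w => mg B⁻¹ *ᵥ w) h
    simp only [mg_inv_mulVec', Matrix.mulVec_zero] at this
    exact this

theorem bdG_injective : Function.Injective (fun AB : GU k F q × GU m F q => bdG AB.1 AB.2) := by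
  rintro ⟨A, B⟩ ⟨A', B'⟩ h
  have h1 : bdM (mg A) (mg B) = bdM (mg A') (mg B') := congrArg mg h
  have hA : mg A = mg A' := by
    apply Matrix.toLin'.injective
    apply LinearMap.ext
    intro x
    rw [Matrix.toLin'_apply, Matrix.toLin'_apply]
    have := congrArg (fun M => M *ᵥ apv x (0 : Fin m → F)) h1
    simp only [bdM_mulVec] at this
    exact (apv_inj this).1
  have hB : mg B = mg B' := by
    apply Matrix.toLin'.injective
    apply LinearMap.ext
    intro y
    rw [Matrix.toLin'_apply, Matrix.toLin'_apply]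
    have := congrArg (fun M => M *ᵥ apv (0 : Fin k → F) y) h1
    simp only [bdM_mulVec] at this
    exact (apv_inj this).2
  have hA' : A = A' := Subtype.ext (Units.ext hA)
  have hB' : B = B' := Subtype.ext (Units.ext hB)
  rw [hA', hB']

/-- an element stabilising the first block is block diagonal. -/
theorem exists_bdG_of_stab (g : GU (k + m) F q)
    (hg : (W0 k m F).map (Matrix.mulVecLin (mg g)) = W0 k m F) :
    ∃ AB : GU k F q × GU m F q, bdG AB.1 AB.2 = g := by
  have hW : ∀ v ∈ W0 k m F, mg g *ᵥ v ∈ W0 k m F := by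
    intro v hv
    rw [← hg]
    exact ⟨v, hv, rfl⟩
  have hU : ∀ u ∈ U0 k m F, mg g *ᵥ u ∈ U0 k m F := by
    intro u hu
    apply mem_U0_of_perp (q := q)
    intro x
    have hx : apv x (0 : Fin m → F) ∈ (W0 k m F).map (Matrix.mulVecLin (mg g)) := by
      rw [hg]; exact apv_mem_W0 x
    obtain ⟨w', hw', hw'eq⟩ := hx
    rw [← hw'eq, Matrix.mulVecLin_apply, herm_mg]
    exact herm_U0_W0 hu hw'
  set MA : Matrix (Fin k) (Fin k) F := fun i j => mg g (Fin.castAdd m i) (Fin.castAdd m j) with hMA
  set MB : Matrix (Fin m) (Fin m) F := fun i j => mg g (Fin.natAdd k i) (Fin.natAdd k j) with hMB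
  have hx : ∀ x : Fin k → F, mg g *ᵥ apv x 0 = apv (MA *ᵥ x) 0 := by
    intro x
    have h1 := hW _ (apv_mem_W0 x)
    rw [eq_apv_of_mem_W0 h1]
    congr 1
    ext i
    show (mg g *ᵥ apv x 0) (Fin.castAdd m i) = _
    rw [Matrix.mulVec, dotProduct, Fin.sum_univ_add]
    simp [apv, MA, Matrix.mulVec, dotProduct]
  have hy : ∀ y : Fin m → F, mg g *ᵥ apv 0 y = apv 0 (MB *ᵥ y) := by
    intro y
    have h1 := hU _ (apv_mem_U0 y)
    rw [eq_apv_of_mem_U0 h1]
    congr 1
    ext i
    show (mg g *ᵥ apv 0 y) (Fin.natAdd k i) = _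
    rw [Matrix.mulVec, dotProduct, Fin.sum_univ_add]
    simp [apv, MB, Matrix.mulVec, dotProduct]
  have hxy : ∀ (x : Fin k → F) (y : Fin m → F), mg g *ᵥ apv x y = apv (MA *ᵥ x) (MB *ᵥ y) := by
    intro x y
    have : apv x y = apv x 0 + apv 0 y := by rw [← apv_add, add_zero, zero_add]
    rw [this, Matrix.mulVec_add, hx, hy, ← apv_add, add_zero, zero_add]
  have hAiso : ∀ u v, hermForm k F q (MA *ᵥ u) (MA *ᵥ v) = hermForm k F q u v := by
    intro u v
    have := herm_mg g (apv u (0 : Fin m → F)) (apv v 0)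
    rw [hx, hx, herm_apv, herm_apv, h_zero_right, add_zero, add_zero] at this
    exact this
  have hBiso : ∀ u v, hermForm m F q (MB *ᵥ u) (MB *ᵥ v) = hermForm m F q u v := by
    intro u v
    have := herm_mg g (apv (0 : Fin k → F) u) (apv 0 v)
    rw [hy, hy, herm_apv, herm_apv, h_zero_right, zero_add, zero_add] at this
    exact this
  refine ⟨(mkGU MA hAiso, mkGU MB hBiso), ?_⟩
  apply Subtype.ext
  apply Units.ext
  show bdM MA MB = mg g
  apply Matrix.toLin'.injective
  apply LinearMap.ext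
  intro v
  rw [Matrix.toLin'_apply, Matrix.toLin'_apply, ← apv_p v, bdM_mulVec, hxy]

/-- **the number of nondegenerate subspaces** of dimension `k` of the unitary space of dimension `k + m`. -/
theorem card_ndeg_mul :
    Nat.card {W : Submodule F (Fin (k + m) → F) // finrank F ↥W = k ∧ NDeg q W} *
      (Nat.card (GU k F q) * Nat.card (GU m F q)) = Nat.card (GU (k + m) F q) := by
  classical
  let act : MulAction (GU (k + m) F q) (Submodule F (Fin (k + m) → F)) := subAct F q (k + m)
  have hsmul : ∀ (g : GU (k + m) F q) (W : Submodule F (Fin (k + m) → F)),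
      g • W = W.map (Matrix.mulVecLin (mg g)) := fun g W => rfl
  have h1 := Subgroup.card_eq_card_quotient_mul_card_subgroup
    (MulAction.stabilizer (GU (k + m) F q) (W0 k m F))
  have h2 : Nat.card ((GU (k + m) F q) ⧸ MulAction.stabilizer (GU (k + m) F q) (W0 k m F)) =
      Nat.card (MulAction.orbit (GU (k + m) F q) (W0 k m F)) :=
    Nat.card_congr (MulAction.orbitEquivQuotientStabilizer _ _).symm
  rw [h1, h2]
  congr 1
  · apply Nat.card_congr
    apply Equiv.subtypeEquivRight
    intro W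
    rw [MulAction.mem_orbit_iff]
    constructor
    · rintro ⟨hWd, hWnd⟩
      obtain ⟨C, hC⟩ := exists_std W hWnd hWd
      exact ⟨C, by rw [hsmul, map_eq_of_iff C hC]⟩
    · rintro ⟨g, rfl⟩
      rw [hsmul]
      exact ⟨by rw [finrank_map, finrank_W0], ndeg_map g ndeg_W0⟩
  · rw [← Nat.card_prod]
    apply Nat.card_congr
    refine Equiv.ofBijective (fun AB => ⟨bdG AB.1 AB.2, ?_⟩) ⟨?_, ?_⟩
    · rw [MulAction.mem_stabilizer_iff, hsmul]
      exact bdG_stab AB.1 AB.2
    · intro AB AB' h
      exact bdG_injective (congrArg Subtype.val h)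
    · rintro ⟨g, hg⟩
      rw [MulAction.mem_stabilizer_iff, hsmul] at hg
      obtain ⟨AB, hAB⟩ := exists_bdG_of_stab g hg
      exact ⟨AB, Subtype.ext hAB⟩

end Cfsg.Agent.Helper7.UCnt
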