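import Mathlib
import Cfsg.Agent.Helper7.UBlkD
import Cfsg.Agent.Helper7.UCntA

set_option autoImplicit false
set_option linter.unusedSectionVars false
set_option linter.unusedVariables false

/-!
# Unitary isometries of prime order: arithmetic of the block size
-/

namespace Cfsg.Agent.Helper7.UBlk

open Matrix Module Polynomial Cfsg Cfsg.Agent.Helper7.Herm Cfsg.Agent.Helper7.SUNd Cfsg.Agent.Helper8.HermTwo
  Cfsg.Agent.Helper8.AutSU Cfsg.Agent.Helper7.POrd Cfsg.Agent.Helper7.SpOrd

variable {F : Type*} [Field F] [Fintype F] {q N : ℕ} [hF : Fact (Fintype.card F = q ^ 2)]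
variable {r : ℕ} [Fact r.Prime] {p : ℕ} [Fact p.Prime] [CharP F p]

theorem card_cast_eq_sq : ((Fintype.card F : ℕ) : ZMod r) = (q : ZMod r) ^ 2 := by
  rw [hF.out, Nat.cast_pow]

/-- the self-dual case, in `ZMod r`. -/
theorem sd_iff : SD F q r ↔ Odd (orderOf ((Fintype.card F : ℕ) : ZMod r)) ∧
    (q : ZMod r) ^ orderOf ((Fintype.card F : ℕ) : ZMod r) = -1 := by
  unfold SD
  refine and_congr Iff.rfl ?_
  rw [← ZMod.natCast_eq_zero_iff, Nat.cast_add, Nat.cast_pow, Nat.cast_one, add_eq_zero_iff_eq_neg]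

/-- the block size is the order of `-q` modulo `r`. -/
theorem cU_eq_orderOf_neg (hrp : r ≠ p) : cU F q r = orderOf (-(q : ZMod r)) := by
  have hbpos := orderOf_q_pos (F := F) hrp
  set b := orderOf ((Fintype.card F : ℕ) : ZMod r) with hb
  have hsq : (-(q : ZMod r)) ^ 2 = ((Fintype.card F : ℕ) : ZMod r) := by
    rw [card_cast_eq_sq (F := F) (q := q), neg_sq]
  have hbdvd : b ∣ orderOf (-(q : ZMod r)) := by
    rw [hb, orderOf_dvd_iff_pow_eq_one, ← hsq, ← pow_mul, mul_comm, pow_mul, pow_orderOf_eq_one, one_pow]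
  have h2b : orderOf (-(q : ZMod r)) ∣ 2 * b := by
    rw [orderOf_dvd_iff_pow_eq_one, pow_mul, hsq, hb, pow_orderOf_eq_one]
  unfold cU
  by_cases hsd : SD F q r
  · rw [if_pos hsd]
    obtain ⟨hodd, hpow⟩ := sd_iff.mp hsd
    apply Nat.dvd_antisymm hbdvd
    rw [orderOf_dvd_iff_pow_eq_one, neg_pow, hpow, hodd.neg_one_pow]
    ring
  · rw [if_neg hsd]
    apply Nat.dvd_antisymm _ h2b
    obtain ⟨t, ht⟩ := hbdvd
    have hcpos : 0 < orderOf (-(q : ZMod r)) := by
      rcases Nat.eq_zero_or_pos (orderOf (-(q : ZMod r))) with h | h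
      · rw [h] at h2b
        have := Nat.eq_zero_of_zero_dvd h2b
        omega
      · exact h
    have ht2 : t ∣ 2 := by
      rw [ht] at h2b
      rw [mul_comm 2 b] at h2b
      exact (Nat.mul_dvd_mul_iff_left hbpos).mp h2b
    have ht' : t = 1 ∨ t = 2 := by
      have := Nat.le_of_dvd (by norm_num) ht2
      interval_cases t
      · simp at ht2
      · left; rfl
      · right; rfl
    rcases ht' with h1 | h1
    · exfalso
      rw [h1, mul_one] at ht
      have h3 : (-(q : ZMod r)) ^ b = 1 := by rw [← ht]; exact pow_orderOf_eq_one _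
      rcases Nat.even_or_odd b with he | ho
      · obtain ⟨e, he⟩ := he
        have h4 : ((Fintype.card F : ℕ) : ZMod r) ^ e = 1 := by
          rw [← hsq, ← pow_mul, ← h3, he]
          congr 1
          ring
        have h5 := orderOf_dvd_of_pow_eq_one h4
        have h6 := Nat.le_of_dvd (by omega) h5
        omega
      · apply hsd
        rw [sd_iff]
        refine ⟨ho, ?_⟩
        rw [neg_pow, ho.neg_one_pow] at h3
        have : (q : ZMod r) ^ b = -(-1 * (q : ZMod r) ^ b) := by ring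
        rw [this, h3]
    · rw [ht, h1, mul_comm]

/-- the factors of the order of the unitary group divisible by `r`. -/
theorem dvd_fU_iff (hrp : r ≠ p) (i : ℕ) :
    r ∣ (if Even i then q ^ (i + 1) + 1 else q ^ (i + 1) - 1) ↔ cU F q r ∣ i + 1 := by
  have hq2 := Cfsg.Agent.Helper8.GUOrder.two_le_q hF.out
  rw [cU_eq_orderOf_neg (F := F) hrp, orderOf_dvd_iff_pow_eq_one, neg_pow]
  by_cases hi : Even i
  · rw [if_pos hi, ← ZMod.natCast_eq_zero_iff, hi.add_one.neg_one_pow]
    push_cast
    constructor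
    · intro h
      linear_combination (-1 : ZMod r) * h
    · intro h
      linear_combination (-1 : ZMod r) * h
  · rw [if_neg hi, ← ZMod.natCast_eq_zero_iff, (Nat.not_even_iff_odd.mp hi).add_one.neg_one_pow,
      Nat.cast_sub (Nat.one_le_pow _ _ (by omega))]
    push_cast
    rw [one_mul, sub_eq_zero]

theorem fU_pos {q : ℕ} (hq2 : 2 ≤ q) (i : ℕ) :
    0 < (if Even i then q ^ (i + 1) + 1 else q ^ (i + 1) - 1) := by
  split_ifs
  · omega
  · have : 2 ^ (i + 1) ≤ q ^ (i + 1) := Nat.pow_le_pow_left hq2 _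
    have : 2 ≤ 2 ^ (i + 1) := by
      calc 2 = 2 ^ 1 := by norm_num
        _ ≤ 2 ^ (i + 1) := Nat.pow_le_pow_right (by norm_num) (by omega)
    omega

/-- **a prime dividing the number of nondegenerate `k`-spaces.** -/
theorem lt_of_dvd_card_ndeg (hrp : r ≠ p) {k m : ℕ}
    (h : r ∣ Nat.card {W : Submodule F (Fin (k + m) → F) // finrank F ↥W = k ∧ NDeg q W}) :
    (k + m) % cU F q r < k := by
  have hrpr : r.Prime := Fact.out
  have hcpos := cU_pos (F := F) (q := q) hrp
  have h1 := Cfsg.Agent.Helper7.UCnt.card_ndeg_mul (F := F) (q := q) (k := k) (m := m)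
  rw [Cfsg.Agent.Helper8.GUOrder.card_GU hF.out (k + m), Cfsg.Agent.Helper8.GUOrder.card_GU hF.out m,
    add_comm k m, Finset.prod_range_add] at h1
  have hPpos : 0 < ∏ i ∈ Finset.range m, (if Even i then q ^ (i + 1) + 1 else q ^ (i + 1) - 1) :=
    Finset.prod_pos fun i _ => fU_pos (Cfsg.Agent.Helper8.GUOrder.two_le_q hF.out) i
  have h2 : Nat.card {W : Submodule F (Fin (m + k) → F) // finrank F ↥W = k ∧ NDeg q W} *
      (Nat.card (GU k F q) * q ^ (m * (m - 1) / 2)) =
      q ^ ((m + k) * (m + k - 1) / 2) *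
        ∏ i ∈ Finset.range k, (if Even (m + i) then q ^ (m + i + 1) + 1 else q ^ (m + i + 1) - 1) := by
    apply Nat.eq_of_mul_eq_mul_right hPpos
    calc _ = _ := by ring
      _ = _ := h1
      _ = _ := by ring
  have h3 : r ∣ q ^ ((m + k) * (m + k - 1) / 2) *
      ∏ i ∈ Finset.range k, (if Even (m + i) then q ^ (m + i + 1) + 1 else q ^ (m + i + 1) - 1) := by
    rw [← h2]
    rw [add_comm k m] at h
    exact Dvd.dvd.mul_right h _
  have h4 := (hrpr.dvd_mul.mp h3).resolve_left (fun hh => not_dvd_q F hrp (hrpr.dvd_of_dvd_pow hh))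
  obtain ⟨i, hi, hdvd⟩ := (hrpr.prime.dvd_finsetProd_iff _).mp h4
  rw [Finset.mem_range] at hi
  rw [dvd_fU_iff (F := F) hrp] at hdvd
  obtain ⟨t, ht⟩ := hdvd
  have h5 : k + m = cU F q r * t + (k - i - 1) := by omega
  rw [h5, Nat.mul_add_mod]
  exact lt_of_le_of_lt (Nat.mod_le _ _) (by omega)

/-- the block size in terms of the order of `q` modulo `r`. -/
theorem cU_eq_of_orderOf (hrp : r ≠ p) (hr2 : r ≠ 2) {i : ℕ} (hi : i = orderOf (q : ZMod r)) :
    cU F q r = if i % 4 = 0 then i else if i % 4 = 2 then i / 2 else 2 * i := by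
  have hrpr : r.Prime := Fact.out
  have hbpos := orderOf_q_pos (F := F) hrp
  have hb : orderOf ((Fintype.card F : ℕ) : ZMod r) = i / Nat.gcd i 2 := by
    rw [card_cast_eq_sq (F := F) (q := q), orderOf_pow' _ (by norm_num : (2 : ℕ) ≠ 0), ← hi]
  have hne : (1 : ZMod r) ≠ -1 := by
    intro h
    have h2 : ((2 : ℕ) : ZMod r) = 0 := by
      push_cast
      linear_combination h
    rw [ZMod.natCast_eq_zero_iff] at h2
    exact hr2 ((Nat.prime_dvd_prime_iff_eq hrpr Nat.prime_two).mp h2)
  have hipos : 0 < i := by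
    rcases Nat.eq_zero_or_pos i with h | h
    · rw [h, Nat.zero_div] at hb
      omega
    · exact h
  unfold cU
  rcases Nat.even_or_odd i with ⟨u, hu⟩ | hodd
  · have hg : Nat.gcd i 2 = 2 := by
      rw [hu]
      have : u + u = u * 2 := by ring
      rw [this]
      exact Nat.gcd_mul_left_left _ _
    have hbu : orderOf ((Fintype.card F : ℕ) : ZMod r) = u := by
      rw [hb, hg, hu]
      omega
    have hxu : (q : ZMod r) ^ u = -1 := by
      have h1 : (q : ZMod r) ^ u * (q : ZMod r) ^ u = 1 := by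
        rw [← pow_add, ← hu, hi, pow_orderOf_eq_one]
      rcases mul_self_eq_one_iff.mp h1 with h | h
      · exfalso
        have := orderOf_dvd_of_pow_eq_one h
        rw [← hi] at this
        have := Nat.le_of_dvd (by omega) this
        omega
      · exact h
    by_cases hu2 : Even u
    · have hnsd : ¬ SD F q r := by
        rw [sd_iff, hbu]
        rintro ⟨ho, -⟩
        exact (Nat.not_even_iff_odd.mpr ho) hu2
      rw [if_neg hnsd, hbu]
      obtain ⟨w, hw⟩ := hu2
      rw [if_pos (by omega)]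
      omega
    · have hsd : SD F q r := by
        rw [sd_iff, hbu]
        exact ⟨Nat.not_even_iff_odd.mp hu2, hxu⟩
      rw [if_pos hsd, hbu]
      obtain ⟨w, hw⟩ := Nat.not_even_iff_odd.mp hu2
      rw [if_neg (by omega), if_pos (by omega)]
      omega
  · have hg : Nat.gcd i 2 = 1 := hodd.coprime_two_right
    have hbi : orderOf ((Fintype.card F : ℕ) : ZMod r) = i := by
      rw [hb, hg, Nat.div_one]
    have hnsd : ¬ SD F q r := by
      rw [sd_iff, hbi]
      rintro ⟨-, h⟩
      rw [hi, pow_orderOf_eq_one] at h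
      exact hne h
    rw [if_neg hnsd, hbi]
    obtain ⟨w, hw⟩ := hodd
    rw [if_neg (by omega), if_neg (by omega)]

end Cfsg.Agent.Helper7.UBlk
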