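import Mathlib
import Cfsg.Prelude.Def_Sporadic
import Cfsg.Agent.Helper7.M11_L2b

/-!
# M11 cluster (helper7): elements of order 5 (given `C(Q5) = Q5`): `|C(q)| = 5` and `q ~ q^2`
-/

set_option autoImplicit false

namespace Cfsg.Agent.Helper2.M11

open Subgroup

/-- squaring, as an automorphism of a cyclic group of order 5 -/
noncomputable def h7_sqAut {G : Type*} [Group G] (Q : Subgroup G) (hQ : Nat.card ↥Q = 5) :
    ↥Q ≃* ↥Q :=
  have hp5 : Fact (Nat.Prime 5) := ⟨by norm_num⟩
  have hcyc : IsCyclic ↥Q := isCyclic_of_prime_card hQ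
  have h5 : ∀ x : ↥Q, x ^ 5 = 1 := fun x => by
    have := pow_card_eq_one' (G := ↥Q) (x := x)
    rwa [hQ] at this
  { toFun := fun x => x ^ 2
    invFun := fun x => x ^ 3
    left_inv := fun x => by
      show (x ^ 2) ^ 3 = x
      rw [← pow_mul]
      calc x ^ (2 * 3) = x ^ 5 * x := by rw [← pow_succ]
        _ = x := by rw [h5, one_mul]
    right_inv := fun x => by
      show (x ^ 3) ^ 2 = x
      rw [← pow_mul]
      calc x ^ (3 * 2) = x ^ 5 * x := by rw [← pow_succ]
        _ = x := by rw [h5, one_mul]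
    map_mul' := fun a b => by
      have hc : Commute a b := IsCyclic.commGroup.mul_comm a b
      exact hc.mul_pow 2 }

theorem h7_sqAut_apply {G : Type*} [Group G] (Q : Subgroup G) (hQ : Nat.card ↥Q = 5) (x : ↥Q) :
    h7_sqAut Q hQ x = x ^ 2 := rfl

/-- In a simple group of order 7920 with self-centralizing Sylow 5-subgroups, an element `q` of
order 5 has centralizer of order 5 and is conjugate to its square. -/
theorem order5_facts {G : Type*} [Group G] [Finite G] (hG : Cfsg.IsM11 G)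
    (hC : ∀ Q : Sylow 5 G, centralizer ((Q : Subgroup G) : Set G) = (Q : Subgroup G))
    (q : G) (hq : orderOf q = 5) :
    Nat.card ↥(centralizer ({q} : Set G)) = 5 ∧ IsConj q (q ^ 2) := by
  have hp5 : Fact (Nat.Prime 5) := ⟨by norm_num⟩
  obtain ⟨hs, hc⟩ := hG
  have hzc : Nat.card ↥(zpowers q) = 5 := by rw [Nat.card_zpowers, hq]
  have hpg : IsPGroup 5 ↥(zpowers q) := IsPGroup.of_card (n := 1) (by rw [hzc, pow_one])
  obtain ⟨Q, hQ⟩ := hpg.exists_le_sylow
  have hQc : Nat.card ↥(Q : Subgroup G) = 5 := h7_card_sylow5 hc Q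
  have hQeq : zpowers q = (Q : Subgroup G) :=
    Subgroup.eq_of_le_of_card_ge hQ (by rw [hQc, hzc])
  have hqQ : q ∈ (Q : Subgroup G) := hQ (mem_zpowers q)
  -- the centralizer of `q` is `Q`
  have hcent : centralizer ({q} : Set G) = (Q : Subgroup G) := by
    rw [← hC Q]
    ext x
    rw [mem_centralizer_iff, mem_centralizer_iff]
    constructor
    · intro h y hy
      have hy' : y ∈ zpowers q := by rw [hQeq]; exact hy
      obtain ⟨n, rfl⟩ := mem_zpowers_iff.mp hy'
      have hcomm : Commute q x := h q (Set.mem_singleton q)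
      exact (hcomm.zpow_left n).eq
    · intro h y hy
      rw [Set.mem_singleton_iff] at hy
      subst hy
      exact h y hqQ
  refine ⟨by rw [hcent]; exact hQc, ?_⟩
  -- `N(Q)/C(Q)` is all of `Aut(Q)`
  set N := normalizer ((Q : Subgroup G) : Set G) with hN
  have hN20 : Nat.card ↥N = 20 := card_normalizer_sylow5_of_simple hs hc Q
  set f := (Q : Subgroup G).normalizerMonoidHom with hf
  have hker : Nat.card ↥f.ker = 5 := by
    rw [hf, normalizerMonoidHom_ker, hC Q,
      Nat.card_congr (Subgroup.subgroupOfEquivOfLe (le_normalizer : (Q : Subgroup G) ≤ N)).toEquiv]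
    exact hQc
  have hquot : Nat.card (↥N ⧸ f.ker) = 4 := by
    have := Subgroup.card_eq_card_quotient_mul_card_subgroup f.ker
    rw [hN20, hker] at this
    have h' : Nat.card (↥N ⧸ f.ker) * 5 = 4 * 5 := this.symm
    exact Nat.eq_of_mul_eq_mul_right (by norm_num) h'
  have hcyc : IsCyclic ↥(Q : Subgroup G) := isCyclic_of_prime_card hQc
  have haut : Nat.card (MulAut ↥(Q : Subgroup G)) = 4 := by
    rw [IsCyclic.card_mulAut, hQc]; decide
  have hbij : Function.Bijective (QuotientGroup.kerLift f) := by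
    rw [Nat.bijective_iff_injective_and_card]
    exact ⟨QuotientGroup.kerLift_injective f, by rw [hquot, haut]⟩
  obtain ⟨nbar, hnbar⟩ := hbij.2 (h7_sqAut (Q : Subgroup G) hQc)
  obtain ⟨n, rfl⟩ := QuotientGroup.mk_surjective nbar
  rw [QuotientGroup.kerLift_mk] at hnbar
  have h1 : (f n) ⟨q, hqQ⟩ = ⟨q, hqQ⟩ ^ 2 := by rw [hnbar]; rfl
  have h2 : ((f n) ⟨q, hqQ⟩ : G) = (n : G) * q * (n : G)⁻¹ := rfl
  rw [isConj_iff]
  refine ⟨(n : G), ?_⟩
  rw [← h2, h1]; rfl

end Cfsg.Agent.Helper2.M11
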