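import Mathlib
import Cfsg.Prelude.Def_Characters
import Cfsg.Agent.Helper6.ColumnOrth
import Cfsg.Agent.Helper6.BlockPart

/-!
# M11 cluster (helper7): S0435 glue.  From the character table data at `1`, `q` (order 5) and the
INV solution at an involution `u`, the centralizer of `u` has order 48.
-/

set_option autoImplicit false

namespace Cfsg.Agent.Helper2.M11

open scoped ComplexConjugate

universe u

/-- sum over the irreducible characters, transported to `Fin 10` -/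
theorem h7_sum_fin10 {G : Type u} [Group G] [Fintype (Cfsg.IrrCharacter G)]
    (e : Fin 10 ≃ Cfsg.IrrCharacter G) (F : Cfsg.IrrCharacter G → ℂ) :
    ∑ χ : Cfsg.IrrCharacter G, F χ =
      F (e 0) + F (e 1) + F (e 2) + F (e 3) + F (e 4) + F (e 5) + F (e 6) + F (e 7) + F (e 8)
        + F (e 9) := by
  rw [← Equiv.sum_comp e F]
  simp only [Fin.sum_univ_succ, Fin.sum_univ_zero]
  simp only [Fin.succ_zero_eq_one, Fin.succ_one_eq_two]
  ring_nf
  rfl

/-- the arithmetic kernel: `27 - 2c + 3c² ∣ 144` forces the value 48 -/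
theorem h7_arith48 (N : ℕ) (c : ℤ) (hN : (N : ℤ) = 27 - 2 * c + 3 * (c * c)) (hdvd : N ∣ 144) :
    N = 48 := by
  have hN144 : N ≤ 144 := Nat.le_of_dvd (by norm_num) hdvd
  have hc1 : c ≤ 6 := by nlinarith
  have hc2 : -6 ≤ c := by nlinarith
  have hNn : N = (27 - 2 * c + 3 * (c * c)).toNat := by omega
  clear hN hN144
  interval_cases c <;> norm_num at hNn <;> subst hNn <;> revert hdvd <;> decide

/-- S0435 glue: the centralizer of an involution has order 48, from the character table. -/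
theorem card_centralizer_involution_of_table {G : Type u} [Group G] [Fintype G]
    [Fintype (Cfsg.IrrCharacter G)]
    (e : Fin 10 ≃ Cfsg.IrrCharacter G)
    (hdeg : ∀ i, Cfsg.charDegree ((e i : Cfsg.IrrCharacter G) : G → ℂ) =
      (![1, 10, 10, 10, 11, 16, 16, 44, 45, 55] : Fin 10 → ℕ) i)
    (q : G)
    (vq : ∀ i, ((e i : Cfsg.IrrCharacter G) : G → ℂ) q =
      (((![1, 0, 0, 0, 1, 1, 1, -1, 0, 0] : Fin 10 → ℤ) i : ℤ) : ℂ))
    (u : G) (hu1 : u ≠ 1) (huq : ¬ IsConj u q)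
    (a : Fin 10 → ℤ) (ha : ∀ i, ((e i : Cfsg.IrrCharacter G) : G → ℂ) u = (a i : ℂ))
    (h0 : a 0 = 1) (hs10 : a 1 + a 2 + a 3 = -2) (hq10 : a 1 ^ 2 + a 2 ^ 2 + a 3 ^ 2 = 12)
    (h16a : a 5 = 0) (h16b : a 6 = 0) (h45 : a 8 = -3)
    (hdvd : Nat.card (Subgroup.centralizer ({u} : Set G)) ∣ 144) :
    Nat.card (Subgroup.centralizer ({u} : Set G)) = 48 := by
  classical
  -- values at 1
  have hone : ∀ i, ((e i : Cfsg.IrrCharacter G) : G → ℂ) 1 =
      (((![1, 10, 10, 10, 11, 16, 16, 44, 45, 55] : Fin 10 → ℕ) i : ℕ) : ℂ) := by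
    intro i
    rw [← hdeg i]
    exact (Cfsg.Agent.Helper6.charDegree_cast_of_isCharacter
      (Cfsg.Agent.Helper6.IsIrrCharacter.isCharacter (e i).2)).symm
  -- column (u, q)
  have c1 := Cfsg.Agent.Helper6.column_orthogonality_aux u q
  rw [if_neg huq, h7_sum_fin10 e] at c1
  simp only [ha, vq] at c1
  -- column (u, 1)
  have c2 := Cfsg.Agent.Helper6.column_orthogonality_aux u 1
  rw [if_neg (by rw [isConj_one_left]; exact hu1), h7_sum_fin10 e] at c2
  simp only [ha, hone] at c2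
  -- column (u, u)
  have c3 := Cfsg.Agent.Helper6.column_orthogonality_aux u u
  rw [if_pos (IsConj.refl u), h7_sum_fin10 e] at c3
  simp only [ha] at c3
  simp only [map_intCast, map_natCast] at c1 c2 c3
  simp [Matrix.cons_val] at c1 c2
  have c1' : a 0 + a 4 + a 5 + a 6 - a 7 = 0 := by
    have h : ((a 0 + a 4 + a 5 + a 6 - a 7 : ℤ) : ℂ) = 0 := by
      push_cast
      linear_combination c1
    exact_mod_cast h
  have c2' : a 0 + 10 * a 1 + 10 * a 2 + 10 * a 3 + 11 * a 4 + 16 * a 5 + 16 * a 6 + 44 * a 7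
      + 45 * a 8 + 55 * a 9 = 0 := by
    have h : ((a 0 + 10 * a 1 + 10 * a 2 + 10 * a 3 + 11 * a 4 + 16 * a 5 + 16 * a 6 + 44 * a 7
      + 45 * a 8 + 55 * a 9 : ℤ) : ℂ) = 0 := by
      push_cast
      linear_combination c2
    exact_mod_cast h
  have c3' : a 0 * a 0 + a 1 * a 1 + a 2 * a 2 + a 3 * a 3 + a 4 * a 4 + a 5 * a 5 + a 6 * a 6
      + a 7 * a 7 + a 8 * a 8 + a 9 * a 9 = (Nat.card (Subgroup.centralizer ({u} : Set G)) : ℤ) := by
    have h : ((a 0 * a 0 + a 1 * a 1 + a 2 * a 2 + a 3 * a 3 + a 4 * a 4 + a 5 * a 5 + a 6 * a 6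
      + a 7 * a 7 + a 8 * a 8 + a 9 * a 9 : ℤ) : ℂ)
        = ((Nat.card (Subgroup.centralizer ({u} : Set G)) : ℤ) : ℂ) := by
      push_cast
      linear_combination c3
    exact_mod_cast h
  have hf : a 7 = 1 + a 4 := by rw [h0, h16a, h16b] at c1'; linarith
  have hg : a 9 = 2 - a 4 := by rw [h0, h16a, h16b, h45, hf] at c2'; linarith [hs10]
  have hN : (Nat.card (Subgroup.centralizer ({u} : Set G)) : ℤ) = 27 - 2 * a 4 + 3 * (a 4 * a 4) := by
    rw [← c3', h0, h16a, h16b, h45, hf, hg]; linear_combination hq10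
  exact h7_arith48 _ (a 4) hN hdvd

end Cfsg.Agent.Helper2.M11
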