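import Mathlib
import Cfsg.Prelude.Def_Sporadic
import Cfsg.Agent.Helper2.M11_Case
import Cfsg.Agent.Helper8.M11_B5
import Cfsg.Agent.Helper8.M11_Deg8
import Cfsg.Agent.Helper8.M11_InvA
import Cfsg.Agent.Helper1.M11j
import Cfsg.Agent.Helper7.M11_Ord5
import Cfsg.Agent.Helper7.M11_Cent
import Cfsg.Agent.Helper7.M11_S0435g

/-!
# M11 cluster (helper7): lemmas for the character table of a simple group of order 7920 in
Case A (see `M11_Table.lean`).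
-/

set_option autoImplicit false

namespace Cfsg.Agent.Helper2.M11

open scoped ComplexConjugate Pointwise
open Subgroup

universe u

theorem h7_forall_fin10 {P : Fin 10 → Prop} (h0 : P 0) (h1 : P 1) (h2 : P 2) (h3 : P 3) (h4 : P 4)
    (h5 : P 5) (h6 : P 6) (h7 : P 7) (h8 : P 8) (h9 : P 9) : ∀ i, P i := by
  intro i
  fin_cases i
  · exact h0
  · exact h1
  · exact h2
  · exact h3
  · exact h4
  · exact h5
  · exact h6
  · exact h7
  · exact h8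
  · exact h9

variable {G : Type u} [Group G] {K : Subgroup G}



/-- exchange `X₁` and `X₂` -/
noncomputable def CaseA.h7_swap12 (A : CaseA K) : CaseA K :=
  { A with
    X₁ := A.X₂
    X₂ := A.X₁
    nodup := by
      have h : [triv G, A.Λ₀, A.Λ₁, A.Y, A.X₂, A.X₁, A.X₃].Perm
          [triv G, A.Λ₀, A.Λ₁, A.Y, A.X₁, A.X₂, A.X₃] :=
        ((((List.Perm.swap A.X₁ A.X₂ [A.X₃]).cons A.Y).cons A.Λ₁).cons A.Λ₀).cons (triv G)
      exact h.nodup_iff.mpr A.nodup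
    degX₁ := A.degX₂
    degX₂ := A.degX₁
    valX₁ := A.valX₂
    valX₂ := A.valX₁
    rest := fun χ hχ => A.rest χ (by
      simp only [List.mem_cons, List.not_mem_nil, or_false, not_or] at hχ ⊢
      tauto)
    vanX₁ := A.vanX₂
    vanX₂ := A.vanX₁ }

/-- exchange `X₂` and `X₃` -/
noncomputable def CaseA.h7_swap23 (A : CaseA K) : CaseA K :=
  { A with
    X₂ := A.X₃
    X₃ := A.X₂
    nodup := by
      have h : [triv G, A.Λ₀, A.Λ₁, A.Y, A.X₁, A.X₃, A.X₂].Perm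
          [triv G, A.Λ₀, A.Λ₁, A.Y, A.X₁, A.X₂, A.X₃] :=
        (((((List.Perm.swap A.X₂ A.X₃ []).cons A.X₁).cons A.Y).cons A.Λ₁).cons A.Λ₀).cons (triv G)
      exact h.nodup_iff.mpr A.nodup
    degX₂ := A.degX₃
    degX₃ := A.degX₂
    valX₂ := A.valX₃
    valX₃ := A.valX₂
    rest := fun χ hχ => A.rest χ (by
      simp only [List.mem_cons, List.not_mem_nil, or_false, not_or] at hχ ⊢
      tauto)
    vanX₂ := A.vanX₃
    vanX₃ := A.vanX₂ }




theorem h7_charDegree_triv : Cfsg.charDegree ((triv G : Cfsg.IrrCharacter G) : G → ℂ) = 1 := by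
  simp [Cfsg.charDegree, triv]

/-- the value of an irreducible character at an element of order 5 -/
theorem h7_value_order5 [Fintype G] [Fintype (Cfsg.IrrCharacter G)] (hG : Cfsg.IsM11 G)
    (hC5 : ∀ Q : Sylow 5 G, centralizer ((Q : Subgroup G) : Set G) = (Q : Subgroup G))
    (q : G) (hq : orderOf q = 5) (χ : Cfsg.IrrCharacter G) :
    ∃ v : ℤ, (χ : G → ℂ) q = (v : ℂ) ∧ (v = 0 ∨ v = 1 ∨ v = -1) ∧
      (5 : ℤ) ∣ (Cfsg.charDegree (χ : G → ℂ) : ℤ) - v := by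
  obtain ⟨h1, h2⟩ := order5_facts hG hC5 q hq
  obtain ⟨v, hv, hv01, _, hvdvd, _⟩ := col5 q hq h1 h2
  exact ⟨v χ, hv χ, hv01 χ, hvdvd χ⟩

/-- the enumeration of the irreducible characters in Case A -/
theorem h7_caseA_enum [Fintype G] [Fintype (Cfsg.IrrCharacter G)] (hG : Cfsg.IsM11 G)
    (A : CaseA K)
    (hC5 : ∀ Q : Sylow 5 G, centralizer ((Q : Subgroup G) : Set G) = (Q : Subgroup G)) :
    ∃ e : Fin 10 ≃ Cfsg.IrrCharacter G,
      (∀ i, Cfsg.charDegree ((e i : Cfsg.IrrCharacter G) : G → ℂ) =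
        (![1, 10, 10, 10, 11, 16, 16, 44, 45, 55] : Fin 10 → ℕ) i) ∧
      e 0 = triv G ∧ e 1 = A.X₁ ∧ e 2 = A.X₂ ∧ e 3 = A.X₃ ∧ e 5 = A.Λ₀ ∧ e 6 = A.Λ₁ ∧
      e 8 = A.Y := by
  have hp5 : Fact (Nat.Prime 5) := ⟨by norm_num⟩
  obtain ⟨q, hq⟩ := exists_prime_orderOf_dvd_card' (G := G) 5 (by rw [hG.2]; norm_num)
  obtain ⟨h1, h2⟩ := order5_facts hG hC5 q hq
  obtain ⟨v, hv, hv01, hvsq, hvdvd, hvdeg⟩ := col5 q hq h1 h2
  have hnd := A.nodup
  simp only [List.nodup_cons, List.mem_cons, List.not_mem_nil, or_false, not_or,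
    List.nodup_nil, and_true] at hnd
  obtain ⟨e, he1, _, he⟩ := deg_caseA hG.2 v hv01 hvsq hvdvd hvdeg (triv G) A.Λ₀ A.Λ₁ A.Y A.X₁ A.X₂
    A.X₃ h7_charDegree_triv A.degΛ₀ A.degΛ₁ (by tauto) A.degY A.degX₁ A.degX₂ A.degX₃
    (by tauto) (by tauto) (by tauto)
    (fun χ c1 c2 c3 c4 c5 c6 c7 => (A.rest χ (by
      simp only [List.mem_cons, List.not_mem_nil, or_false, not_or]
      exact ⟨c1, c2, c3, c4, c5, c6, c7⟩)).2)
  exact ⟨e, he1, he⟩


theorem h7_abs_bound {x m : ℤ} (B : ℤ) (hB0 : 0 ≤ B) (hB : m < (B + 1) * (B + 1)) (h : x * x ≤ m) :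
    -B ≤ x ∧ x ≤ B := by
  constructor
  · by_contra hh
    have h1 : x ≤ -B - 1 := by omega
    nlinarith [mul_nonneg (by linarith : (0:ℤ) ≤ -x - (B+1)) (by linarith : (0:ℤ) ≤ -x + (B+1))]
  · by_contra hh
    have h1 : B + 1 ≤ x := by omega
    nlinarith [mul_nonneg (by linarith : (0:ℤ) ≤ x - (B+1)) (by linarith : (0:ℤ) ≤ x + (B+1))]

set_option maxHeartbeats 1000000 in
/-- the INV-A Diophantine kernel with the bound `≤ 143` -/
theorem h7_kerA (a₁ a₂ a₃ b ℓ : ℤ) (h1 : b = a₁ + a₂ + a₃ + ℓ - 1)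
    (h2 : 720 + 16 * b ^ 2 = 72 * (a₁ ^ 2 + a₂ ^ 2 + a₃ ^ 2) + 45 * ℓ ^ 2)
    (e1 : Even a₁) (e2 : Even a₂) (e3 : Even a₃) (ob : Odd b) (eℓ : Even ℓ)
    (hb : 1 + a₁ ^ 2 + a₂ ^ 2 + a₃ ^ 2 + b ^ 2 + 2 * ℓ ^ 2 ≤ 143) :
    b = -3 ∧ ℓ = 0 ∧ ((a₁ = 2 ∧ a₂ = -2 ∧ a₃ = -2) ∨ (a₁ = -2 ∧ a₂ = 2 ∧ a₃ = -2) ∨
      (a₁ = -2 ∧ a₂ = -2 ∧ a₃ = 2)) := by
  obtain ⟨α₁, rfl⟩ := e1
  obtain ⟨α₂, rfl⟩ := e2
  obtain ⟨α₃, rfl⟩ := e3
  obtain ⟨lam, rfl⟩ := eℓ
  obtain ⟨β, rfl⟩ := ob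
  have q1 := mul_self_nonneg α₁
  have q2 := mul_self_nonneg α₂
  have q3 := mul_self_nonneg α₃
  have q4 := mul_self_nonneg lam
  have q5 := mul_self_nonneg (2 * β + 1)
  have hb' : 1 + 4 * (α₁ * α₁) + 4 * (α₂ * α₂) + 4 * (α₃ * α₃) + (2 * β + 1) * (2 * β + 1)
      + 8 * (lam * lam) ≤ 143 := by linear_combination hb
  have h2' : 720 + 16 * ((2 * β + 1) * (2 * β + 1)) =
      288 * (α₁ * α₁ + α₂ * α₂ + α₃ * α₃) + 180 * (lam * lam) := by linear_combination h2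
  have hα₁ := h7_abs_bound (x := α₁) (m := 35) 5 (by norm_num) (by norm_num) (by linarith)
  have hα₂ := h7_abs_bound (x := α₂) (m := 35) 5 (by norm_num) (by norm_num) (by linarith)
  have hα₃ := h7_abs_bound (x := α₃) (m := 35) 5 (by norm_num) (by norm_num) (by linarith)
  have hlam := h7_abs_bound (x := lam) (m := 17) 4 (by norm_num) (by norm_num) (by linarith)
  have hβ' := h7_abs_bound (x := 2 * β + 1) (m := 142) 11 (by norm_num) (by norm_num) (by linarith)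
  obtain ⟨hl1, hl2⟩ := hlam
  have hb1 : -6 ≤ β := by omega
  have hb2 : β ≤ 5 := by omega
  clear hβ' q4 q5 hb h2
  obtain ⟨S, hS⟩ : ∃ S : ℤ, S = α₁ * α₁ + α₂ * α₂ + α₃ * α₃ := ⟨_, rfl⟩
  rw [← hS] at h2'
  have hb'' : 1 + 4 * S + (2 * β + 1) * (2 * β + 1) + 8 * (lam * lam) ≤ 143 := by
    rw [hS]; linarith
  clear hb'
  clear hα₁ hα₂ hα₃
  interval_cases lam <;> interval_cases β <;> first
    | omega
    | (have hS7 : S ≤ 7 := by omega
       obtain ⟨ha1, ha1'⟩ := h7_abs_bound (x := α₁) (m := 7) 2 (by norm_num) (by norm_num)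
         (by linarith)
       obtain ⟨ha2, ha2'⟩ := h7_abs_bound (x := α₂) (m := 7) 2 (by norm_num) (by norm_num)
         (by linarith)
       obtain ⟨ha3, ha3'⟩ := h7_abs_bound (x := α₃) (m := 7) 2 (by norm_num) (by norm_num)
         (by linarith)
       interval_cases α₁ <;> interval_cases α₂ <;> interval_cases α₃ <;> omega)





/-- the value of an irreducible character at an involution, as an integer with its parity -/
theorem h7_involution_value [Finite G] (χ : Cfsg.IrrCharacter G) (u : G)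
    (hu : orderOf u = 2) :
    ∃ v : ℤ, (χ : G → ℂ) u = (v : ℂ) ∧
      ∃ m : ℤ, v = (Cfsg.charDegree (χ : G → ℂ) : ℤ) + 2 * m := by
  have hχ : Cfsg.IsCharacter G (χ : G → ℂ) := Cfsg.Agent.Helper6.IsIrrCharacter.isCharacter χ.2
  obtain ⟨m, hm⟩ := Cfsg.Agent.Helper6.char_involution_parity hχ u hu
  refine ⟨(Cfsg.charDegree (χ : G → ℂ) : ℤ) + 2 * m, ?_, m, rfl⟩
  rw [hm, ← Cfsg.Agent.Helper6.charDegree_cast_of_isCharacter hχ]
  push_cast
  ring

/-- the values of the Case A characters at an involution -/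
theorem h7_caseA_u [Fintype G] [Fintype (Cfsg.IrrCharacter G)] (hG : Cfsg.IsM11 G)
    (P : Sylow 11 G) (A : CaseA (P : Subgroup G))
    (hC5 : ∀ Q : Sylow 5 G, centralizer ((Q : Subgroup G) : Set G) = (Q : Subgroup G))
    (u : G) (hu : orderOf u = 2) :
    (A.Y : G → ℂ) u = -3 ∧ (A.Λ₀ : G → ℂ) u = 0 ∧ (A.Λ₁ : G → ℂ) u = 0 ∧
    (((A.X₁ : G → ℂ) u = 2 ∧ (A.X₂ : G → ℂ) u = -2 ∧ (A.X₃ : G → ℂ) u = -2) ∨
     ((A.X₁ : G → ℂ) u = -2 ∧ (A.X₂ : G → ℂ) u = 2 ∧ (A.X₃ : G → ℂ) u = -2) ∨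
     ((A.X₁ : G → ℂ) u = -2 ∧ (A.X₂ : G → ℂ) u = -2 ∧ (A.X₃ : G → ℂ) u = 2)) := by
  classical
  have hp11 : Fact (Nat.Prime 11) := ⟨by norm_num⟩
  have hPc : Nat.card ↥(P : Subgroup G) = 11 :=
    h7_card_sylow_of_exact P (by rw [hG.2]; norm_num) (by rw [hG.2]; norm_num)
  obtain ⟨s', hs'⟩ := exists_prime_orderOf_dvd_card' (G := ↥(P : Subgroup G)) 11 (by rw [hPc])
  have hs11 : orderOf (s' : G) = 11 := by rw [Subgroup.orderOf_coe]; exact hs'
  obtain ⟨a₁, a₂, a₃, b, ℓ, hX₁, hX₂, hX₃, hY, hΛ₀, hΛ₁, hb, heq, e1, e2, e3, ob, eℓ⟩ :=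
    inv_caseA A (s' : G) s'.2 hs11
      (fun g hg => not_inverts_eleven hG.1 hG.2 g (s' : G) hg hs11) u hu
  obtain ⟨e, hdeg, he0, he1, he2, he3, he5, he6, he8⟩ := h7_caseA_enum hG A hC5
  obtain ⟨c, hc, mc, hmc⟩ := h7_involution_value (e 4) u hu
  obtain ⟨f, hf, _⟩ := h7_involution_value (e 7) u hu
  obtain ⟨g, hg, _⟩ := h7_involution_value (e 9) u hu
  -- column (u, u)
  have c3 := Cfsg.Agent.Helper6.column_orthogonality_aux u u
  rw [if_pos (IsConj.refl u), h7_sum_fin10 e] at c3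
  rw [he0, he1, he2, he3, he5, he6, he8, hX₁, hX₂, hX₃, hY, hΛ₀, hΛ₁, hc, hf, hg] at c3
  have h0 : ((triv G : Cfsg.IrrCharacter G) : G → ℂ) u = ((1 : ℤ) : ℂ) := by simp [triv]
  rw [h0] at c3
  simp only [map_intCast] at c3
  have hdvd := card_centralizer_involution_dvd_144 hG hC5 u hu
  have hN144 : Nat.card ↥(centralizer ({u} : Set G)) ≤ 144 := Nat.le_of_dvd (by norm_num) hdvd
  have c3' : (1 : ℤ) * 1 + a₁ * a₁ + a₂ * a₂ + a₃ * a₃ + c * c + ℓ * ℓ + ℓ * ℓ + f * f + b * b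
      + g * g = (Nat.card ↥(centralizer ({u} : Set G)) : ℤ) := by
    have h : (((1 : ℤ) * 1 + a₁ * a₁ + a₂ * a₂ + a₃ * a₃ + c * c + ℓ * ℓ + ℓ * ℓ + f * f + b * b
      + g * g : ℤ) : ℂ) = ((Nat.card ↥(centralizer ({u} : Set G)) : ℤ) : ℂ) := by
      push_cast
      linear_combination c3
    exact_mod_cast h
  have hc1 : 1 ≤ c * c := by
    have h4 := hdeg 4
    simp at h4
    rw [h4] at hmc
    have hcc : c ≤ -1 ∨ 1 ≤ c := by omega
    rcases hcc with h | h <;> nlinarith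
  have hbound : 1 + a₁ ^ 2 + a₂ ^ 2 + a₃ ^ 2 + b ^ 2 + 2 * ℓ ^ 2 ≤ 143 := by
    have hN' : (Nat.card ↥(centralizer ({u} : Set G)) : ℤ) ≤ 144 := by exact_mod_cast hN144
    nlinarith [mul_self_nonneg f, mul_self_nonneg g]
  obtain ⟨hb3, hℓ0, hperm⟩ := h7_kerA a₁ a₂ a₃ b ℓ hb heq e1 e2 e3 ob eℓ hbound
  refine ⟨by rw [hY, hb3]; norm_num, by rw [hΛ₀, hℓ0]; norm_num, by rw [hΛ₁, hℓ0]; norm_num, ?_⟩
  rw [hX₁, hX₂, hX₃]
  rcases hperm with ⟨h1, h2, h3⟩ | ⟨h1, h2, h3⟩ | ⟨h1, h2, h3⟩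
  · left; rw [h1, h2, h3]; norm_num
  · right; left; rw [h1, h2, h3]; norm_num
  · right; right; rw [h1, h2, h3]; norm_num



/-- the remaining values at an involution, from the columns `(u,q)`, `(u,1)`, `(u,u)` -/
theorem h7_table_u_values {G : Type u} [Group G] [Fintype G]
    [Fintype (Cfsg.IrrCharacter G)]
    (e : Fin 10 ≃ Cfsg.IrrCharacter G)
    (hdeg : ∀ i, Cfsg.charDegree ((e i : Cfsg.IrrCharacter G) : G → ℂ) =
      (![1, 10, 10, 10, 11, 16, 16, 44, 45, 55] : Fin 10 → ℕ) i)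
    (q : G)
    (vq : ∀ i, ((e i : Cfsg.IrrCharacter G) : G → ℂ) q =
      (((![1, 0, 0, 0, 1, 1, 1, -1, 0, 0] : Fin 10 → ℤ) i : ℤ) : ℂ))
    (u : G) (hu1 : u ≠ 1) (huq : ¬ IsConj u q)
    (a : Fin 10 → ℤ) (ha : ∀ i, ((e i : Cfsg.IrrCharacter G) : G → ℂ) u = (a i : ℂ))
    (h0 : a 0 = 1) (hs10 : a 1 + a 2 + a 3 = -2) (hq10 : a 1 ^ 2 + a 2 ^ 2 + a 3 ^ 2 = 12)
    (h16a : a 5 = 0) (h16b : a 6 = 0) (h45 : a 8 = -3)
    (hdvd : Nat.card (Subgroup.centralizer ({u} : Set G)) ∣ 144) :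
    Nat.card (Subgroup.centralizer ({u} : Set G)) = 48 ∧ a 4 = 3 ∧ a 7 = 4 ∧ a 9 = -1 := by
  classical
  -- values at 1
  have hone : ∀ i, ((e i : Cfsg.IrrCharacter G) : G → ℂ) 1 =
      (((![1, 10, 10, 10, 11, 16, 16, 44, 45, 55] : Fin 10 → ℕ) i : ℕ) : ℂ) := by
    intro i
    rw [← hdeg i]
    exact (Cfsg.Agent.Helper6.charDegree_cast_of_isCharacter
      (Cfsg.Agent.Helper6.IsIrrCharacter.isCharacter (e i).2)).symm
  -- column (u, q)
  have c1 := Cfsg.Agent.Helper6.column_orthogonality_aux u q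
  rw [if_neg huq, h7_sum_fin10 e] at c1
  simp only [ha, vq] at c1
  -- column (u, 1)
  have c2 := Cfsg.Agent.Helper6.column_orthogonality_aux u 1
  rw [if_neg (by rw [isConj_one_left]; exact hu1), h7_sum_fin10 e] at c2
  simp only [ha, hone] at c2
  -- column (u, u)
  have c3 := Cfsg.Agent.Helper6.column_orthogonality_aux u u
  rw [if_pos (IsConj.refl u), h7_sum_fin10 e] at c3
  simp only [ha] at c3
  simp only [map_intCast, map_natCast] at c1 c2 c3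
  simp [Matrix.cons_val] at c1 c2
  have c1' : a 0 + a 4 + a 5 + a 6 - a 7 = 0 := by
    have h : ((a 0 + a 4 + a 5 + a 6 - a 7 : ℤ) : ℂ) = 0 := by
      push_cast
      linear_combination c1
    exact_mod_cast h
  have c2' : a 0 + 10 * a 1 + 10 * a 2 + 10 * a 3 + 11 * a 4 + 16 * a 5 + 16 * a 6 + 44 * a 7
      + 45 * a 8 + 55 * a 9 = 0 := by
    have h : ((a 0 + 10 * a 1 + 10 * a 2 + 10 * a 3 + 11 * a 4 + 16 * a 5 + 16 * a 6 + 44 * a 7
      + 45 * a 8 + 55 * a 9 : ℤ) : ℂ) = 0 := by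
      push_cast
      linear_combination c2
    exact_mod_cast h
  have c3' : a 0 * a 0 + a 1 * a 1 + a 2 * a 2 + a 3 * a 3 + a 4 * a 4 + a 5 * a 5 + a 6 * a 6
      + a 7 * a 7 + a 8 * a 8 + a 9 * a 9 = (Nat.card (Subgroup.centralizer ({u} : Set G)) : ℤ) := by
    have h : ((a 0 * a 0 + a 1 * a 1 + a 2 * a 2 + a 3 * a 3 + a 4 * a 4 + a 5 * a 5 + a 6 * a 6
      + a 7 * a 7 + a 8 * a 8 + a 9 * a 9 : ℤ) : ℂ)
        = ((Nat.card (Subgroup.centralizer ({u} : Set G)) : ℤ) : ℂ) := by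
      push_cast
      linear_combination c3
    exact_mod_cast h
  have hf : a 7 = 1 + a 4 := by rw [h0, h16a, h16b] at c1'; linarith
  have hg : a 9 = 2 - a 4 := by rw [h0, h16a, h16b, h45, hf] at c2'; linarith [hs10]
  have hN : (Nat.card (Subgroup.centralizer ({u} : Set G)) : ℤ) = 27 - 2 * a 4 + 3 * (a 4 * a 4) := by
    rw [← c3', h0, h16a, h16b, h45, hf, hg]; linear_combination hq10
  have h48 := h7_arith48 _ (a 4) hN hdvd
  rw [h48] at hN
  have hc3 : a 4 = 3 := by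
    have hprod : (a 4 - 3) * (3 * a 4 + 7) = 0 := by
      have : ((48 : ℕ) : ℤ) = 48 := by norm_num
      rw [this] at hN
      linear_combination (-1 : ℤ) * hN
    rcases mul_eq_zero.mp hprod with h | h
    · omega
    · omega
  refine ⟨h48, hc3, ?_, ?_⟩
  · rw [hf, hc3]; norm_num
  · rw [hg, hc3]; norm_num





/-- every element of order 11 is conjugate to a nontrivial element of a given Sylow 11-subgroup -/
theorem h7_conj_into_sylow11 [Finite G] (P : Sylow 11 G) (s : G)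
    (hs : orderOf s = 11) : ∃ g k : G, k ∈ (P : Subgroup G) ∧ k ≠ 1 ∧ s = g * k * g⁻¹ := by
  have hp11 : Fact (Nat.Prime 11) := ⟨by norm_num⟩
  have hzc : Nat.card ↥(zpowers s) = 11 := by rw [Nat.card_zpowers, hs]
  have hpg : IsPGroup 11 ↥(zpowers s) := IsPGroup.of_card (n := 1) (by rw [hzc, pow_one])
  obtain ⟨P', hP'⟩ := hpg.exists_le_sylow
  obtain ⟨g, hg⟩ := MulAction.exists_smul_eq G P P'
  have hs' : s ∈ (P' : Subgroup G) := hP' (mem_zpowers s)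
  rw [← hg] at hs'
  have hmem : (MulAut.conj g)⁻¹ • s ∈ (P : Subgroup G) :=
    Subgroup.mem_pointwise_smul_iff_inv_smul_mem.mp hs'
  rw [MulAut.smul_def, ← map_inv, MulAut.conj_apply, inv_inv] at hmem
  refine ⟨g, g⁻¹ * s * g, hmem, ?_, by group⟩
  intro h1
  have : s = 1 := by
    calc s = g * (g⁻¹ * s * g) * g⁻¹ := by group
      _ = 1 := by rw [h1]; group
  rw [this, orderOf_one] at hs
  omega

/-- the centralizer of an element of order 11 has order 11 -/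
theorem h7_card_centralizer_order11 [Finite G] (hG : Cfsg.IsM11 G) (s : G)
    (hs : orderOf s = 11) : Nat.card ↥(centralizer ({s} : Set G)) = 11 := by
  have hp11 : Fact (Nat.Prime 11) := ⟨by norm_num⟩
  have hzc : Nat.card ↥(zpowers s) = 11 := by rw [Nat.card_zpowers, hs]
  have hpg : IsPGroup 11 ↥(zpowers s) := IsPGroup.of_card (n := 1) (by rw [hzc, pow_one])
  obtain ⟨P', hP'⟩ := hpg.exists_le_sylow
  have hP'c : Nat.card ↥(P' : Subgroup G) = 11 :=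
    h7_card_sylow_of_exact P' (by rw [hG.2]; norm_num) (by rw [hG.2]; norm_num)
  have heq : zpowers s = (P' : Subgroup G) :=
    Subgroup.eq_of_le_of_card_ge hP' (by rw [hP'c, hzc])
  rw [← h1_centralizer_zpowers, heq, centralizer_sylow11 hG.1 hG.2 P', hP'c]

/-- two complex numbers with `x + y = -1` and `|x|² + |y|² = 6` are different -/
theorem h7_x_ne_y (x y : ℂ) (hxy : x + y = -1) (hxy2 : x * conj x + y * conj y = 6) : x ≠ y := by
  intro h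
  subst h
  have hx : x = -1 / 2 := by linear_combination (1 / 2 : ℂ) * hxy
  rw [hx] at hxy2
  have hc : conj (-1 / 2 : ℂ) = -1 / 2 := by
    rw [map_div₀, map_neg, map_one]
    congr 1
    exact Complex.conj_ofNat 2
  rw [hc] at hxy2
  norm_num at hxy2


end Cfsg.Agent.Helper2.M11
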