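import Mathlib
import Cfsg.Prelude.Def_Sporadic
import Cfsg.Agent.Helper7.M11_TableA

/-!
# M11 cluster (helper7): the character table of a simple group of order 7920 in Case A, at the
classes of `1`, an involution `u`, the elements of order 5 and the elements of order 11
(`caseA_table`), including `|C(u)| = 48` (S0435).
-/

set_option autoImplicit false

namespace Cfsg.Agent.Helper2.M11

open scoped ComplexConjugate Pointwise
open Subgroup

universe u

variable {G : Type u} [Group G] {K : Subgroup G}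

/-- the values at the elements of order 5 along the enumeration -/
theorem h7_qval [Fintype G] [Fintype (Cfsg.IrrCharacter G)] (hG : Cfsg.IsM11 G)
    (hC5 : ∀ Q : Sylow 5 G, centralizer ((Q : Subgroup G) : Set G) = (Q : Subgroup G))
    (e : Fin 10 ≃ Cfsg.IrrCharacter G)
    (hdeg : ∀ i, Cfsg.charDegree ((e i : Cfsg.IrrCharacter G) : G → ℂ) =
      (![1, 10, 10, 10, 11, 16, 16, 44, 45, 55] : Fin 10 → ℕ) i)
    (q : G) (hq : orderOf q = 5) :
    ∀ i, ((e i : Cfsg.IrrCharacter G) : G → ℂ) q =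
      (((![1, 0, 0, 0, 1, 1, 1, -1, 0, 0] : Fin 10 → ℤ) i : ℤ) : ℂ) := by
  have key : ∀ (i : Fin 10) (d : ℕ) (w : ℤ),
      Cfsg.charDegree ((e i : Cfsg.IrrCharacter G) : G → ℂ) = d →
      (∀ v : ℤ, (v = 0 ∨ v = 1 ∨ v = -1) → (5 : ℤ) ∣ (d : ℤ) - v → v = w) →
      ((e i : Cfsg.IrrCharacter G) : G → ℂ) q = (w : ℂ) := by
    intro i d w hd hw
    obtain ⟨v, hv, hv01, hvd⟩ := h7_value_order5 hG hC5 q hq (e i)
    rw [hd] at hvd
    rw [hv, hw v hv01 hvd]
  apply h7_forall_fin10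
  · exact key 0 1 1 (hdeg 0) (by intro v hv hd; rcases hv with h | h | h <;> subst h <;> omega)
  · exact key 1 10 0 (hdeg 1) (by intro v hv hd; rcases hv with h | h | h <;> subst h <;> omega)
  · exact key 2 10 0 (hdeg 2) (by intro v hv hd; rcases hv with h | h | h <;> subst h <;> omega)
  · exact key 3 10 0 (hdeg 3) (by intro v hv hd; rcases hv with h | h | h <;> subst h <;> omega)
  · exact key 4 11 1 (hdeg 4) (by intro v hv hd; rcases hv with h | h | h <;> subst h <;> omega)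
  · exact key 5 16 1 (hdeg 5) (by intro v hv hd; rcases hv with h | h | h <;> subst h <;> omega)
  · exact key 6 16 1 (hdeg 6) (by intro v hv hd; rcases hv with h | h | h <;> subst h <;> omega)
  · exact key 7 44 (-1) (hdeg 7)
      (by intro v hv hd; rcases hv with h | h | h <;> subst h <;> omega)
  · exact key 8 45 0 (hdeg 8) (by intro v hv hd; rcases hv with h | h | h <;> subst h <;> omega)
  · exact key 9 55 0 (hdeg 9) (by intro v hv hd; rcases hv with h | h | h <;> subst h <;> omega)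

/-- the known part of the character table -/
def h7_Table (e : Fin 10 ≃ Cfsg.IrrCharacter G) (u : G) : Prop :=
  (∀ i, ((e i : Cfsg.IrrCharacter G) : G → ℂ) 1 =
    (![1, 10, 10, 10, 11, 16, 16, 44, 45, 55] : Fin 10 → ℂ) i) ∧
  (∀ i, ((e i : Cfsg.IrrCharacter G) : G → ℂ) u =
    (![1, 2, -2, -2, 3, 0, 0, 4, -3, -1] : Fin 10 → ℂ) i) ∧
  (∀ q : G, orderOf q = 5 → ∀ i, ((e i : Cfsg.IrrCharacter G) : G → ℂ) q =
    (![1, 0, 0, 0, 1, 1, 1, -1, 0, 0] : Fin 10 → ℂ) i) ∧
  (∀ s : G, orderOf s = 11 →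
    (∀ i, i ≠ 5 → i ≠ 6 → ((e i : Cfsg.IrrCharacter G) : G → ℂ) s =
      (![1, -1, -1, -1, 0, 0, 0, 0, 1, 0] : Fin 10 → ℂ) i) ∧
    ((e 5 : Cfsg.IrrCharacter G) : G → ℂ) s + ((e 6 : Cfsg.IrrCharacter G) : G → ℂ) s = -1 ∧
    ((e 5 : Cfsg.IrrCharacter G) : G → ℂ) s ≠ ((e 6 : Cfsg.IrrCharacter G) : G → ℂ) s) ∧
  (∀ q : G, orderOf q = 5 → Nat.card (Subgroup.centralizer ({q} : Set G)) = 5) ∧
  (∀ s : G, orderOf s = 11 → Nat.card (Subgroup.centralizer ({s} : Set G)) = 11) ∧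
  Nat.card (Subgroup.centralizer ({u} : Set G)) = 48

theorem h7_table_wlog [Fintype G] [Fintype (Cfsg.IrrCharacter G)] (hG : Cfsg.IsM11 G)
    (P : Sylow 11 G) (A : CaseA (P : Subgroup G))
    (hC5 : ∀ Q : Sylow 5 G, centralizer ((Q : Subgroup G) : Set G) = (Q : Subgroup G))
    (u : G) (hu : orderOf u = 2)
    (hY : (A.Y : G → ℂ) u = -3) (hΛ₀ : (A.Λ₀ : G → ℂ) u = 0) (hΛ₁ : (A.Λ₁ : G → ℂ) u = 0)
    (h1 : (A.X₁ : G → ℂ) u = 2) (h2 : (A.X₂ : G → ℂ) u = -2) (h3 : (A.X₃ : G → ℂ) u = -2) :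
    ∃ e : Fin 10 ≃ Cfsg.IrrCharacter G, h7_Table e u := by
  classical
  have hp5 : Fact (Nat.Prime 5) := ⟨by norm_num⟩
  obtain ⟨e, hdeg, he0, he1, he2, he3, he5, he6, he8⟩ := h7_caseA_enum hG A hC5
  have hone : ∀ i, ((e i : Cfsg.IrrCharacter G) : G → ℂ) 1 =
      (((![1, 10, 10, 10, 11, 16, 16, 44, 45, 55] : Fin 10 → ℕ) i : ℕ) : ℂ) := by
    intro i
    rw [← hdeg i]
    exact (Cfsg.Agent.Helper6.charDegree_cast_of_isCharacter
      (Cfsg.Agent.Helper6.IsIrrCharacter.isCharacter (e i).2)).symm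
  -- the values at u
  choose a ha using fun i => h7_involution_value (e i) u hu
  have ha' : ∀ i, ((e i : Cfsg.IrrCharacter G) : G → ℂ) u = (a i : ℂ) := fun i => (ha i).1
  have htriv : ∀ g : G, ((triv G : Cfsg.IrrCharacter G) : G → ℂ) g = 1 := fun g => rfl
  have a0 : a 0 = 1 := by
    have h := ha' 0
    rw [he0, htriv] at h
    exact_mod_cast h.symm
  have a1 : a 1 = 2 := by
    have h := ha' 1
    rw [he1, h1] at h
    exact_mod_cast h.symm
  have a2 : a 2 = -2 := by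
    have h := ha' 2
    rw [he2, h2] at h
    exact_mod_cast h.symm
  have a3 : a 3 = -2 := by
    have h := ha' 3
    rw [he3, h3] at h
    exact_mod_cast h.symm
  have a5 : a 5 = 0 := by
    have h := ha' 5
    rw [he5, hΛ₀] at h
    exact_mod_cast h.symm
  have a6 : a 6 = 0 := by
    have h := ha' 6
    rw [he6, hΛ₁] at h
    exact_mod_cast h.symm
  have a8 : a 8 = -3 := by
    have h := ha' 8
    rw [he8, hY] at h
    exact_mod_cast h.symm
  obtain ⟨q0, hq0⟩ := exists_prime_orderOf_dvd_card' (G := G) 5 (by rw [hG.2]; norm_num)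
  have hqval := h7_qval hG hC5 e hdeg
  have hu1 : u ≠ 1 := by
    intro h; rw [h, orderOf_one] at hu; omega
  have huq : ¬ IsConj u q0 := by
    intro h
    obtain ⟨c, hc⟩ := h
    have : orderOf q0 = 2 := by rw [← hc.orderOf_eq]; exact hu
    omega
  have hdvd := card_centralizer_involution_dvd_144 hG hC5 u hu
  obtain ⟨h48, a4, a7, a9⟩ := h7_table_u_values e hdeg q0 (hqval q0 hq0) u hu1 huq a ha' a0
    (by rw [a1, a2, a3]; norm_num) (by rw [a1, a2, a3]; norm_num) a5 a6 a8 hdvd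
  refine ⟨e, ?_, ?_, ?_, ?_, ?_, ?_, h48⟩
  · -- degrees
    apply h7_forall_fin10 <;> (rw [hone]; simp [Matrix.cons_val])
  · -- values at u
    apply h7_forall_fin10
    · rw [ha' 0, a0]; simp [Matrix.cons_val]
    · rw [ha' 1, a1]; simp [Matrix.cons_val]
    · rw [ha' 2, a2]; simp [Matrix.cons_val]
    · rw [ha' 3, a3]; simp [Matrix.cons_val]
    · rw [ha' 4, a4]; simp [Matrix.cons_val]
    · rw [ha' 5, a5]; simp [Matrix.cons_val]
    · rw [ha' 6, a6]; simp [Matrix.cons_val]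
    · rw [ha' 7, a7]; simp [Matrix.cons_val]
    · rw [ha' 8, a8]; simp [Matrix.cons_val]
    · rw [ha' 9, a9]; simp [Matrix.cons_val]
  · -- values at the elements of order 5
    intro q hq
    apply h7_forall_fin10 <;> (rw [hqval q hq]; simp [Matrix.cons_val])
  · -- values at the elements of order 11
    intro s hs
    obtain ⟨g, k, hkP, hk1, rfl⟩ := h7_conj_into_sylow11 P s hs
    have hcf : ∀ χ : Cfsg.IrrCharacter G, (χ : G → ℂ) (g * k * g⁻¹) = (χ : G → ℂ) k := fun χ =>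
      (Cfsg.Agent.Helper6.IsCharacter.isClassFunction
        (Cfsg.Agent.Helper6.IsIrrCharacter.isCharacter χ.2)) k g
    have hzero : ∀ i : Fin 10, i ≠ 0 → i ≠ 5 → i ≠ 6 → i ≠ 8 → i ≠ 1 → i ≠ 2 → i ≠ 3 →
        ((e i : Cfsg.IrrCharacter G) : G → ℂ) k = 0 := by
      intro i c0 c5 c6 c8 c1 c2 c3
      refine (A.rest (e i) ?_).1 k hkP hk1
      rw [← he0, ← he5, ← he6, ← he8, ← he1, ← he2, ← he3]
      simp only [List.mem_cons, List.not_mem_nil, or_false, not_or, EmbeddingLike.apply_eq_iff_eq]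
      exact ⟨c0, c5, c6, c8, c1, c2, c3⟩
    refine ⟨?_, ?_, ?_⟩
    · apply h7_forall_fin10
      · intro _ _; rw [hcf, he0, htriv]; simp [Matrix.cons_val]
      · intro _ _; rw [hcf, he1, A.valX₁ k hkP hk1]; simp [Matrix.cons_val]
      · intro _ _; rw [hcf, he2, A.valX₂ k hkP hk1]; simp [Matrix.cons_val]
      · intro _ _; rw [hcf, he3, A.valX₃ k hkP hk1]; simp [Matrix.cons_val]
      · intro _ _
        rw [hcf, hzero 4 (by decide) (by decide) (by decide) (by decide) (by decide) (by decide)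
          (by decide)]
        simp [Matrix.cons_val]
      · intro h; exact absurd rfl h
      · intro _ h; exact absurd rfl h
      · intro _ _
        rw [hcf, hzero 7 (by decide) (by decide) (by decide) (by decide) (by decide) (by decide)
          (by decide)]
        simp [Matrix.cons_val]
      · intro _ _; rw [hcf, he8, A.valY k hkP hk1]; simp [Matrix.cons_val]
      · intro _ _
        rw [hcf, hzero 9 (by decide) (by decide) (by decide) (by decide) (by decide) (by decide)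
          (by decide)]
        simp [Matrix.cons_val]
    · rw [hcf, hcf, he5, he6, A.valΛ₀ k hkP hk1, A.valΛ₁ k hkP hk1]
      exact A.hxy k hkP hk1
    · rw [hcf, hcf, he5, he6, A.valΛ₀ k hkP hk1, A.valΛ₁ k hkP hk1]
      exact h7_x_ne_y _ _ (A.hxy k hkP hk1) (A.hxy2 k hkP hk1)
  · exact fun q hq => (order5_facts hG hC5 q hq).1
  · exact fun s hs => h7_card_centralizer_order11 hG s hs

/-- **TABLE** (Case A): the character table at `1`, a given involution `u`, the elements of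
order 5 and of order 11, along an enumeration `e` of the ten irreducible characters; in
particular `|C(u)| = 48`. -/
theorem caseA_table [Fintype G] [Fintype (Cfsg.IrrCharacter G)] (hG : Cfsg.IsM11 G)
    (P : Sylow 11 G) (A : CaseA (P : Subgroup G))
    (hC5 : ∀ Q : Sylow 5 G, Subgroup.centralizer ((Q : Subgroup G) : Set G) = (Q : Subgroup G))
    (u : G) (hu : orderOf u = 2) :
    ∃ e : Fin 10 ≃ Cfsg.IrrCharacter G,
      (∀ i, ((e i : Cfsg.IrrCharacter G) : G → ℂ) 1 =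
        (![1, 10, 10, 10, 11, 16, 16, 44, 45, 55] : Fin 10 → ℂ) i) ∧
      (∀ i, ((e i : Cfsg.IrrCharacter G) : G → ℂ) u =
        (![1, 2, -2, -2, 3, 0, 0, 4, -3, -1] : Fin 10 → ℂ) i) ∧
      (∀ q : G, orderOf q = 5 → ∀ i, ((e i : Cfsg.IrrCharacter G) : G → ℂ) q =
        (![1, 0, 0, 0, 1, 1, 1, -1, 0, 0] : Fin 10 → ℂ) i) ∧
      (∀ s : G, orderOf s = 11 →
        (∀ i, i ≠ 5 → i ≠ 6 → ((e i : Cfsg.IrrCharacter G) : G → ℂ) s =
          (![1, -1, -1, -1, 0, 0, 0, 0, 1, 0] : Fin 10 → ℂ) i) ∧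
        ((e 5 : Cfsg.IrrCharacter G) : G → ℂ) s + ((e 6 : Cfsg.IrrCharacter G) : G → ℂ) s = -1 ∧
        ((e 5 : Cfsg.IrrCharacter G) : G → ℂ) s ≠ ((e 6 : Cfsg.IrrCharacter G) : G → ℂ) s) ∧
      (∀ q : G, orderOf q = 5 → Nat.card (Subgroup.centralizer ({q} : Set G)) = 5) ∧
      (∀ s : G, orderOf s = 11 → Nat.card (Subgroup.centralizer ({s} : Set G)) = 11) ∧
      Nat.card (Subgroup.centralizer ({u} : Set G)) = 48 := by
  obtain ⟨hY, hΛ₀, hΛ₁, hperm⟩ := h7_caseA_u hG P A hC5 u hu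
  rcases hperm with ⟨h1, h2, h3⟩ | ⟨h1, h2, h3⟩ | ⟨h1, h2, h3⟩
  · exact h7_table_wlog hG P A hC5 u hu hY hΛ₀ hΛ₁ h1 h2 h3
  · exact h7_table_wlog hG P A.h7_swap12 hC5 u hu hY hΛ₀ hΛ₁ h2 h1 h3
  · exact h7_table_wlog hG P A.h7_swap23.h7_swap12 hC5 u hu hY hΛ₀ hΛ₁ h3 h1 h2

/-- S0435 in Case A -/
theorem card_centralizer_involution_caseA [Fintype G] [Fintype (Cfsg.IrrCharacter G)]
    (hG : Cfsg.IsM11 G) (P : Sylow 11 G) (A : CaseA (P : Subgroup G))
    (hC5 : ∀ Q : Sylow 5 G, Subgroup.centralizer ((Q : Subgroup G) : Set G) = (Q : Subgroup G))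
    (u : G) (hu : orderOf u = 2) :
    Nat.card (Subgroup.centralizer ({u} : Set G)) = 48 := by
  obtain ⟨e, _, _, _, _, _, _, h⟩ := caseA_table hG P A hC5 u hu
  exact h

end Cfsg.Agent.Helper2.M11
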