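import Mathlib
import Cfsg.Agent.Helper7.OrthMaxF

set_option autoImplicit false
set_option linter.unusedSectionVars false

/-! Subfield subgroups of orthogonal groups, part A: hyperbolic pairs and singular vectors
orthogonal to a small subspace (helper7). -/

namespace Cfsg.Agent.Helper7.OSub

open Module Cfsg.Agent.Helper8.QuadForm Cfsg.Agent.Helper7.OrthMax

variable {K : Type*} [Field K] {W : Type*} [AddCommGroup W] [Module K W]

/-- a vector outside a subspace is not orthogonal to the whole orthogonal of the subspace. -/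
theorem exists_perp_sub [FiniteDimensional K W] (q : QuadraticForm K W)
    (hq : (QuadraticMap.polarBilin q).Nondegenerate) (C : Submodule K W) {x : W} (hx : x ∉ C) :
    ∃ f, (∀ c ∈ C, QuadraticMap.polar q f c = 0) ∧ QuadraticMap.polar q x f ≠ 0 := by
  by_contra hcon
  push Not at hcon
  apply hx
  rw [← LinearMap.BilinForm.orthogonal_orthogonal hq (polarBilin_isRefl q) C, mem_orth_iff]
  intro f hf
  rw [mem_orth_iff] at hf
  exact hcon f hf

/-- a singular vector orthogonal to a subspace and outside it has a hyperbolic partner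
orthogonal to the subspace. -/
theorem partner_sub [FiniteDimensional K W] (q : QuadraticForm K W)
    (hq : (QuadraticMap.polarBilin q).Nondegenerate) (C : Submodule K W) {e : W} (he : q e = 0)
    (heC : ∀ c ∈ C, QuadraticMap.polar q e c = 0) (hnot : e ∉ C) :
    ∃ f, q f = 0 ∧ QuadraticMap.polar q e f = 1 ∧ ∀ c ∈ C, QuadraticMap.polar q f c = 0 := by
  obtain ⟨f₀, hf₀C, hef₀⟩ := exists_perp_sub q hq C hnot
  obtain ⟨α, hα⟩ : ∃ α : K, α = QuadraticMap.polar q e f₀ := ⟨_, rfl⟩
  rw [← hα] at hef₀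
  obtain ⟨f₁, hf₁⟩ : ∃ f₁ : W, f₁ = α⁻¹ • f₀ := ⟨_, rfl⟩
  have h1 : QuadraticMap.polar q e f₁ = 1 := by
    rw [hf₁, QuadraticMap.polar_smul_right, ← hα, smul_eq_mul, inv_mul_cancel₀ hef₀]
  have h2 : ∀ c ∈ C, QuadraticMap.polar q f₁ c = 0 := by
    intro c hc
    rw [hf₁, QuadraticMap.polar_smul_left, hf₀C c hc, smul_zero]
  refine ⟨f₁ - q f₁ • e, ?_, ?_, ?_⟩
  · rw [sub_eq_add_neg, ← neg_smul, QuadraticMap.map_add q, QuadraticMap.map_smul, he,
      QuadraticMap.polar_smul_right, QuadraticMap.polar_comm q f₁ e, h1]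
    simp
  · rw [QuadraticMap.polar_sub_right, QuadraticMap.polar_smul_right, h1, polar_self', he]
    simp
  · intro c hc
    rw [QuadraticMap.polar_sub_left, QuadraticMap.polar_smul_left, h2 c hc, heC c hc]
    simp

/-- a hyperbolic pair orthogonal to a small subspace. -/
theorem hyp_sub [Finite K] [FiniteDimensional K W] (q : QuadraticForm K W)
    (hq : (QuadraticMap.polarBilin q).Nondegenerate) (C : Submodule K W)
    (hdim : 2 * finrank K C + 3 ≤ finrank K W) :
    ∃ b f, q b = 0 ∧ q f = 0 ∧ QuadraticMap.polar q b f = 1 ∧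
      (∀ c ∈ C, QuadraticMap.polar q b c = 0) ∧ (∀ c ∈ C, QuadraticMap.polar q f c = 0) := by
  obtain ⟨N, hN⟩ := Submodule.exists_isCompl C
  obtain ⟨O, hO⟩ : ∃ O : Submodule K W,
      O = LinearMap.BilinForm.orthogonal (QuadraticMap.polarBilin q) C := ⟨_, rfl⟩
  have h1 : finrank K O = finrank K W - finrank K C := by
    rw [hO, LinearMap.BilinForm.finrank_orthogonal hq]
  have h2 : finrank K C + finrank K N = finrank K W := Submodule.finrank_add_eq_of_isCompl hN
  have h3 := Submodule.finrank_sup_add_finrank_inf_eq O N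
  have h4 : finrank K ↥(O ⊔ N) ≤ finrank K W := Submodule.finrank_le _
  have h5 : 3 ≤ finrank K ↥(O ⊓ N) := by omega
  obtain ⟨b, hb, hb0, hqb⟩ := exists_singular_in q (O ⊓ N) h5
  have hbO : ∀ c ∈ C, QuadraticMap.polar q b c = 0 := by
    have h6 : b ∈ O := hb.1
    rw [hO, mem_orth_iff] at h6
    exact h6
  have hbC : b ∉ C := by
    intro h
    apply hb0
    have : b ∈ C ⊓ N := ⟨h, hb.2⟩
    rw [hN.inf_eq_bot] at this
    exact (Submodule.mem_bot K).mp this
  obtain ⟨f, hf, hbf, hfC⟩ := partner_sub q hq C hqb hbO hbC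
  exact ⟨b, f, hqb, hf, hbf, hbO, hfC⟩

/-- a vector orthogonal to a small subspace is a sum of three singular vectors orthogonal to the
subspace. -/
theorem three_sing [Finite K] [FiniteDimensional K W] (q : QuadraticForm K W)
    (hq : (QuadraticMap.polarBilin q).Nondegenerate) (C : Submodule K W)
    (hdim : 2 * finrank K C + 5 ≤ finrank K W) {x : W}
    (hx : ∀ c ∈ C, QuadraticMap.polar q x c = 0) :
    ∃ s₁ s₂ s₃, q s₁ = 0 ∧ q s₂ = 0 ∧ q s₃ = 0 ∧ (∀ c ∈ C, QuadraticMap.polar q s₁ c = 0) ∧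
      (∀ c ∈ C, QuadraticMap.polar q s₂ c = 0) ∧ (∀ c ∈ C, QuadraticMap.polar q s₃ c = 0) ∧
      x = s₁ + s₂ + s₃ := by
  have hfr : finrank K ↥(C ⊔ Submodule.span K {x}) ≤ finrank K C + 1 := by
    have h1 := Submodule.finrank_add_le_finrank_add_finrank C (Submodule.span K {x})
    have h2 : finrank K ↥(Submodule.span K {x}) ≤ 1 := by
      have := finrank_span_le_card (R := K) ({x} : Set W)
      simpa using this
    omega
  obtain ⟨b, f, hb, hf, hbf, hbC, hfC⟩ := hyp_sub q hq (C ⊔ Submodule.span K {x}) (by omega)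
  have hbx : QuadraticMap.polar q b x = 0 :=
    hbC x (Submodule.mem_sup_right (Submodule.subset_span rfl))
  have hfx : QuadraticMap.polar q f x = 0 :=
    hfC x (Submodule.mem_sup_right (Submodule.subset_span rfl))
  have hbC' : ∀ c ∈ C, QuadraticMap.polar q b c = 0 := fun c hc => hbC c (Submodule.mem_sup_left hc)
  have hfC' : ∀ c ∈ C, QuadraticMap.polar q f c = 0 := fun c hc => hfC c (Submodule.mem_sup_left hc)
  refine ⟨x + (b + (-(q x)) • f), -b, q x • f, ?_, ?_, ?_, ?_, ?_, ?_, ?_⟩
  · rw [QuadraticMap.map_add q, QuadraticMap.map_add q b, QuadraticMap.map_smul, hb, hf,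
      QuadraticMap.polar_smul_right, hbf, QuadraticMap.polar_add_right,
      QuadraticMap.polar_smul_right, QuadraticMap.polar_comm q x b, hbx,
      QuadraticMap.polar_comm q x f, hfx]
    simp
  · rw [QuadraticMap.map_neg, hb]
  · rw [QuadraticMap.map_smul, hf, smul_zero]
  · intro c hc
    rw [QuadraticMap.polar_add_left, QuadraticMap.polar_add_left, QuadraticMap.polar_smul_left,
      hx c hc, hbC' c hc, hfC' c hc]
    simp
  · intro c hc
    rw [QuadraticMap.polar_neg_left, hbC' c hc, neg_zero]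
  · intro c hc
    rw [QuadraticMap.polar_smul_left, hfC' c hc, smul_zero]
  · module

end Cfsg.Agent.Helper7.OSub
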