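import Mathlib
import Cfsg.Prelude.Def_GeometricClasses
import Cfsg.Agent.Helper7.SLMaxA

set_option autoImplicit false
set_option linter.unusedSectionVars false

/-! Subfield subgroups of the symplectic group, part A: rational vectors over an arbitrary index
type, membership in the subfield group of the identity change of basis, and elements outside
it (helper7). -/

namespace Cfsg.Agent.Helper7.SpSub

open Matrix Cfsg Cfsg.Geo Cfsg.Agent.Helper7.SLMax

variable {ι : Type} [Fintype ι] [DecidableEq ι] {F : Type*} [Field F]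

/-- rational vectors: all entries in the subfield. -/
def RatV (F₀ : Subfield F) (v : ι → F) : Prop := ∀ i, v i ∈ F₀

/-- projectively rational vectors. -/
def PRatV (F₀ : Subfield F) (v : ι → F) : Prop := ∃ μ : F, μ ≠ 0 ∧ RatV F₀ (μ • v)

variable {F₀ : Subfield F}

theorem RatV.zero : RatV F₀ (0 : ι → F) := fun _ => F₀.zero_mem

theorem RatV.add {v w : ι → F} (hv : RatV F₀ v) (hw : RatV F₀ w) : RatV F₀ (v + w) :=
  fun i => F₀.add_mem (hv i) (hw i)

theorem RatV.neg {v : ι → F} (hv : RatV F₀ v) : RatV F₀ (-v) := fun i => F₀.neg_mem (hv i)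

theorem RatV.sub {v w : ι → F} (hv : RatV F₀ v) (hw : RatV F₀ w) : RatV F₀ (v - w) :=
  fun i => F₀.sub_mem (hv i) (hw i)

theorem RatV.smul {a : F} (ha : a ∈ F₀) {v : ι → F} (hv : RatV F₀ v) : RatV F₀ (a • v) :=
  fun i => F₀.mul_mem ha (hv i)

theorem RatV.single (i : ι) {a : F} (ha : a ∈ F₀) : RatV F₀ (Pi.single i a) := by
  intro k
  by_cases hk : k = i
  · rw [hk, Pi.single_eq_same]; exact ha
  · rw [Pi.single_eq_of_ne hk]; exact F₀.zero_mem

theorem RatV.dot {φ v : ι → F} (hφ : RatV F₀ φ) (hv : RatV F₀ v) : φ ⬝ᵥ v ∈ F₀ := by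
  unfold dotProduct
  exact F₀.sum_mem (fun i _ => F₀.mul_mem (hφ i) (hv i))

theorem RatV.pRatV {v : ι → F} (hv : RatV F₀ v) : PRatV F₀ v :=
  ⟨1, one_ne_zero, by rwa [one_smul]⟩

theorem PRatV.smul {v : ι → F} (hv : PRatV F₀ v) {a : F} (ha : a ≠ 0) : PRatV F₀ (a • v) := by
  obtain ⟨μ, hμ, h⟩ := hv
  refine ⟨μ * a⁻¹, mul_ne_zero hμ (inv_ne_zero ha), ?_⟩
  rw [smul_smul, mul_assoc, inv_mul_cancel₀ ha, mul_one]
  exact h

theorem not_pRatV_smul {v : ι → F} (hv : ¬ PRatV F₀ v) {a : F} (ha : a ≠ 0) :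
    ¬ PRatV F₀ (a • v) := by
  intro h
  apply hv
  have := h.smul (inv_ne_zero ha)
  rwa [smul_smul, inv_mul_cancel₀ ha, one_smul] at this

theorem ne_zero_of_not_pRatV {v : ι → F} (hv : ¬ PRatV F₀ v) : v ≠ 0 := by
  rintro rfl
  exact hv RatV.zero.pRatV

theorem mulVec_ratV {B : Matrix ι ι F} (hB : ∀ i j, B i j ∈ F₀)
    {u : ι → F} (hu : RatV F₀ u) : RatV F₀ (B *ᵥ u) := by
  intro i
  unfold mulVec dotProduct
  exact F₀.sum_mem (fun j _ => F₀.mul_mem (hB i j) (hu j))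

/-- an element of the subfield group of the identity carries rational vectors to a fixed scalar
multiple of rational vectors. -/
theorem exists_of_mem_subfield_one {g : GL ι F}
    (hg : g ∈ Cfsg.Geo.subfieldSubgroup F₀ (1 : GL ι F)) :
    ∃ μ : F, μ ≠ 0 ∧ ∀ w : ι → F, RatV F₀ w →
      RatV F₀ (μ • ((g : Matrix ι ι F) *ᵥ w)) := by
  unfold Cfsg.Geo.subfieldSubgroup at hg
  rw [Subgroup.mem_map] at hg
  obtain ⟨x, hx, rfl⟩ := hg
  rw [Subgroup.mem_sup_of_normal_right] at hx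
  obtain ⟨y, ⟨A, rfl⟩, z, hz, rfl⟩ := hx
  rw [Cfsg.Geo.mem_scalars_iff] at hz
  obtain ⟨c, hc⟩ := hz
  refine ⟨(c : F)⁻¹, inv_ne_zero c.ne_zero, ?_⟩
  intro u hu
  have e : (c : F)⁻¹ • ((((MulAut.conj (1 : GL ι F)).toMonoidHom
      (Matrix.GeneralLinearGroup.map (F₀.subtype : F₀ →+* F) A * z) : GL ι F) :
      Matrix ι ι F) *ᵥ u) =
      ((Matrix.GeneralLinearGroup.map (F₀.subtype : F₀ →+* F) A : GL ι F) :
        Matrix ι ι F) *ᵥ u := by
    simp only [MulEquiv.coe_toMonoidHom, MulAut.conj_apply, Matrix.GeneralLinearGroup.coe_mul,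
      hc, one_mul, inv_one, mul_one, Units.val_one]
    rw [Matrix.mul_smul, mul_one, smul_mulVec, smul_smul, inv_mul_cancel₀ c.ne_zero, one_smul]
  rw [e]
  apply mulVec_ratV _ hu
  intro i j
  rw [Matrix.GeneralLinearGroup.map_apply]
  exact (A i j).2

/-- an element carrying rational vectors to a fixed scalar multiple of rational vectors lies in
the subfield group of the identity. -/
theorem mem_subfield_one_of {g : GL ι F} {μ : F} (hμ : μ ≠ 0)
    (h : ∀ w : ι → F, RatV F₀ w → RatV F₀ (μ • ((g : Matrix ι ι F) *ᵥ w))) :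
    g ∈ Cfsg.Geo.subfieldSubgroup F₀ (1 : GL ι F) := by
  obtain ⟨z, hz⟩ : ∃ z : GL ι F, z = Units.map
      (Matrix.scalar ι : F →+* Matrix ι ι F).toMonoidHom (Units.mk0 μ hμ) :=
    ⟨_, rfl⟩
  have hzs : z ∈ Cfsg.Geo.scalars ι F := by rw [hz]; exact ⟨_, rfl⟩
  have hzm : (z : Matrix ι ι F) = μ • (1 : Matrix ι ι F) := by
    rw [hz]
    simp [Matrix.smul_one_eq_diagonal]
  obtain ⟨y, hy⟩ : ∃ y : GL ι F, y = g * z := ⟨_, rfl⟩
  have hym : (y : Matrix ι ι F) = μ • (g : Matrix ι ι F) := by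
    rw [hy, Matrix.GeneralLinearGroup.coe_mul, hzm, Matrix.mul_smul, mul_one]
  have hyrat : ∀ u : ι → F, RatV F₀ u → RatV F₀ ((y : Matrix ι ι F) *ᵥ u) := by
    intro u hu
    rw [hym, smul_mulVec]
    exact h u hu
  have hyent : ∀ i j, (y : Matrix ι ι F) i j ∈ F₀ := by
    intro i j
    have := hyrat (Pi.single j 1) (RatV.single j F₀.one_mem) i
    rwa [Matrix.mulVec_single_one] at this
  obtain ⟨A₀, hA₀⟩ : ∃ A₀ : Matrix ι ι F₀,
      A₀ = fun i j => ⟨(y : Matrix ι ι F) i j, hyent i j⟩ := ⟨_, rfl⟩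
  have hmap : A₀.map (F₀.subtype : F₀ →+* F) = (y : Matrix ι ι F) := by
    ext i j
    rw [hA₀]
    rfl
  have hdet : A₀.det ≠ 0 := by
    intro h0
    have h1 := RingHom.map_det (F₀.subtype : F₀ →+* F) A₀
    rw [h0, map_zero, RingHom.mapMatrix_apply, hmap] at h1
    exact Matrix.GeneralLinearGroup.det_ne_zero y h1.symm
  have hyr : y ∈ (Matrix.GeneralLinearGroup.map (F₀.subtype : F₀ →+* F) :
      GL ι F₀ →* GL ι F).range := by
    refine ⟨Matrix.GeneralLinearGroup.mkOfDetNeZero A₀ hdet, ?_⟩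
    apply Matrix.GeneralLinearGroup.ext
    intro i j
    rw [Matrix.GeneralLinearGroup.map_apply, ← hmap]
    rfl
  unfold Cfsg.Geo.subfieldSubgroup
  rw [Subgroup.mem_map]
  refine ⟨y * z⁻¹, Subgroup.mul_mem_sup hyr (inv_mem hzs), ?_⟩
  rw [hy]
  simp [MulAut.conj_apply, mul_assoc]

/-- two rational independent vectors: a combination is rational only if the coefficients
are. -/
theorem coef_mem {r r' : ι → F} (hr : RatV F₀ r) (hr' : RatV F₀ r')
    (hI : ∀ a b : F, a • r + b • r' = 0 → a = 0 ∧ b = 0) {α β : F}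
    (h : RatV F₀ (α • r + β • r')) : α ∈ F₀ ∧ β ∈ F₀ := by
  obtain ⟨k, l, hd⟩ : ∃ k l, r k * r' l - r l * r' k ≠ 0 := by
    by_contra hcon
    push Not at hcon
    have hr0 : r ≠ 0 := by
      rintro rfl
      have := (hI 1 0 (by simp)).1
      exact one_ne_zero this
    obtain ⟨k, hk⟩ : ∃ k, r k ≠ 0 := by
      by_contra h0
      push Not at h0
      exact hr0 (funext h0)
    have := (hI (r' k) (-(r k)) (by
      funext l
      have := hcon k l
      simp only [Pi.add_apply, Pi.smul_apply, smul_eq_mul, Pi.zero_apply]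
      linear_combination -this)).2
    exact hk (by linear_combination -this)
  have hdm : r k * r' l - r l * r' k ∈ F₀ :=
    F₀.sub_mem (F₀.mul_mem (hr k) (hr' l)) (F₀.mul_mem (hr l) (hr' k))
  have hk := h k
  have hl := h l
  simp only [Pi.add_apply, Pi.smul_apply, smul_eq_mul] at hk hl
  constructor
  · have e : α = ((α * r k + β * r' k) * r' l - (α * r l + β * r' l) * r' k) *
        (r k * r' l - r l * r' k)⁻¹ := by
      rw [eq_mul_inv_iff_mul_eq₀ hd]
      ring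
    rw [e]
    exact F₀.mul_mem (F₀.sub_mem (F₀.mul_mem hk (hr' l)) (F₀.mul_mem hl (hr' k)))
      (F₀.inv_mem hdm)
  · have e : β = ((α * r l + β * r' l) * r k - (α * r k + β * r' k) * r l) *
        (r k * r' l - r l * r' k)⁻¹ := by
      rw [eq_mul_inv_iff_mul_eq₀ hd]
      ring
    rw [e]
    exact F₀.mul_mem (F₀.sub_mem (F₀.mul_mem hl (hr k)) (F₀.mul_mem hk (hr l)))
      (F₀.inv_mem hdm)

/-- an element outside the subfield group moves some rational point to an irrational point. -/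
theorem exists_irr [Nonempty ι] {g : GL ι F}
    (hg : g ∉ Cfsg.Geo.subfieldSubgroup F₀ (1 : GL ι F)) :
    ∃ v : ι → F, RatV F₀ v ∧ v ≠ 0 ∧ ¬ PRatV F₀ ((g : Matrix ι ι F) *ᵥ v) := by
  by_contra hcon
  push Not at hcon
  apply hg
  have hsingle : ∀ j : ι, (Pi.single j (1 : F) : ι → F) ≠ 0 := by
    intro j h
    have := congrFun h j
    rw [Pi.single_eq_same, Pi.zero_apply] at this
    exact one_ne_zero this
  have hrat1 : ∀ j : ι, RatV F₀ (Pi.single j (1 : F) : ι → F) :=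
    fun j => RatV.single j F₀.one_mem
  have hP : ∀ j : ι, PRatV F₀ ((g : Matrix ι ι F) *ᵥ Pi.single j 1) :=
    fun j => hcon _ (hrat1 j) (hsingle j)
  choose μ hμ0 hμ using hP
  obtain ⟨i0⟩ : Nonempty ι := inferInstance
  have hginj : ∀ x : ι → F, (g : Matrix ι ι F) *ᵥ x = 0 → x = 0 := by
    intro x hx
    have := gl_inv_mulVec g x
    rw [hx, mulVec_zero] at this
    exact this.symm
  have hratio : ∀ j : ι, μ i0 * (μ j)⁻¹ ∈ F₀ := by
    intro j
    by_cases hj : j = i0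
    · rw [hj, mul_inv_cancel₀ (hμ0 i0)]; exact F₀.one_mem
    have hsum0 : (Pi.single i0 (1 : F) + Pi.single j (1 : F) : ι → F) ≠ 0 := by
      intro h
      have := congrFun h i0
      rw [Pi.add_apply, Pi.single_eq_same, Pi.single_eq_of_ne (Ne.symm hj), add_zero,
        Pi.zero_apply] at this
      exact one_ne_zero this
    obtain ⟨ν, hν0, hν⟩ := hcon _ ((hrat1 i0).add (hrat1 j)) hsum0
    have hI : ∀ a b : F, a • (μ i0 • ((g : Matrix ι ι F) *ᵥ Pi.single i0 1)) +
        b • (μ j • ((g : Matrix ι ι F) *ᵥ Pi.single j 1)) = 0 → a = 0 ∧ b = 0 := by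
      intro a b hab
      have h1 : (g : Matrix ι ι F) *ᵥ
          ((a * μ i0) • Pi.single i0 (1 : F) + (b * μ j) • Pi.single j (1 : F)) = 0 := by
        rw [mulVec_add, mulVec_smul, mulVec_smul, ← hab, smul_smul, smul_smul]
      have h2 := hginj _ h1
      have e1 := congrFun h2 i0
      have e2 := congrFun h2 j
      simp only [Pi.add_apply, Pi.smul_apply, Pi.single_eq_same, smul_eq_mul, mul_one,
        Pi.single_eq_of_ne (Ne.symm hj), Pi.single_eq_of_ne hj, mul_zero, add_zero, zero_add,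
        Pi.zero_apply] at e1 e2
      exact ⟨(mul_eq_zero.1 e1).resolve_right (hμ0 i0), (mul_eq_zero.1 e2).resolve_right (hμ0 j)⟩
    have hcomb : ν • ((g : Matrix ι ι F) *ᵥ
        (Pi.single i0 (1 : F) + Pi.single j (1 : F))) =
        (ν * (μ i0)⁻¹) • (μ i0 • ((g : Matrix ι ι F) *ᵥ Pi.single i0 1)) +
        (ν * (μ j)⁻¹) • (μ j • ((g : Matrix ι ι F) *ᵥ Pi.single j 1)) := by
      rw [mulVec_add, smul_add, smul_smul, smul_smul, mul_assoc, mul_assoc,
        inv_mul_cancel₀ (hμ0 i0), inv_mul_cancel₀ (hμ0 j), mul_one]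
    rw [hcomb] at hν
    obtain ⟨h1, h2⟩ := coef_mem (hμ i0) (hμ j) hI hν
    have e : μ i0 * (μ j)⁻¹ = (ν * (μ j)⁻¹) * (ν * (μ i0)⁻¹)⁻¹ := by
      field_simp
    rw [e]
    exact F₀.mul_mem h2 (F₀.inv_mem h1)
  have hcol : ∀ j : ι, RatV F₀ (μ i0 • ((g : Matrix ι ι F) *ᵥ Pi.single j 1)) := by
    intro j
    have e : μ i0 • ((g : Matrix ι ι F) *ᵥ Pi.single j 1) =
        (μ i0 * (μ j)⁻¹) • (μ j • ((g : Matrix ι ι F) *ᵥ Pi.single j 1)) := by
      rw [smul_smul, mul_assoc, inv_mul_cancel₀ (hμ0 j), mul_one]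
    rw [e]
    exact RatV.smul (hratio j) (hμ j)
  have hent : ∀ i j : ι, μ i0 * (g : Matrix ι ι F) i j ∈ F₀ := by
    intro i j
    have := hcol j i
    rwa [Pi.smul_apply, mulVec_single_one, smul_eq_mul] at this
  apply mem_subfield_one_of (μ := μ i0) (hμ0 i0)
  intro w hw i
  rw [Pi.smul_apply, smul_eq_mul]
  unfold mulVec dotProduct
  rw [Finset.mul_sum]
  refine F₀.sum_mem (fun j _ => ?_)
  rw [← mul_assoc]
  exact F₀.mul_mem (hent i j) (hw j)

end Cfsg.Agent.Helper7.SpSub
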