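import Mathlib
import Cfsg.Agent.Helper7.OSubA
import Cfsg.Agent.Helper7.SpSubA

set_option autoImplicit false
set_option linter.unusedSectionVars false

/-! Subfield subgroups of orthogonal groups, part B: the rational structure and the quadratic
form over the subfield (helper7). -/

namespace Cfsg.Agent.Helper7.OSub

open Module Matrix Cfsg.Agent.Helper8.QuadForm Cfsg.Agent.Helper7.OrthMax
  Cfsg.Agent.Helper7.SpSub

variable {F : Type*} [Field F] {ι : Type} [Fintype ι] [DecidableEq ι] {F₀ : Subfield F}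
  {Q : QuadraticForm F (ι → F)}

/-- lifting a vector with entries in the subfield. -/
def up (s : ι → F₀) : ι → F := fun i => (s i : F)

theorem up_ratV (s : ι → F₀) : RatV F₀ (up s) := fun i => (s i).2

theorem exists_up {v : ι → F} (hv : RatV F₀ v) : ∃ s : ι → F₀, up s = v :=
  ⟨fun i => ⟨v i, hv i⟩, rfl⟩

theorem up_add (s t : ι → F₀) : up (s + t) = up s + up t := rfl

theorem up_smul (a : F₀) (s : ι → F₀) : up (a • s) = (a : F) • up s := rfl

theorem up_zero : up (0 : ι → F₀) = 0 := rfl

theorem up_neg (s : ι → F₀) : up (-s) = -up s := rfl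

theorem up_injective : Function.Injective (up : (ι → F₀) → (ι → F)) := by
  intro s t h
  funext i
  exact Subtype.ext (congrFun h i)

theorem up_single (i : ι) : up (Pi.single i (1 : F₀)) = Pi.single i 1 := by
  funext k
  unfold up
  by_cases hk : k = i
  · rw [hk, Pi.single_eq_same, Pi.single_eq_same]; rfl
  · rw [Pi.single_eq_of_ne hk, Pi.single_eq_of_ne hk]; rfl

/-- the rational data: the polar form is non-degenerate and the form is rational on rational
vectors. -/
structure OD (Q : QuadraticForm F (ι → F)) (F₀ : Subfield F) : Prop where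
  nd : (QuadraticMap.polarBilin Q).Nondegenerate
  rat : ∀ v : ι → F, RatV F₀ v → Q v ∈ F₀

theorem OD.polar_mem (R : OD Q F₀) {v w : ι → F} (hv : RatV F₀ v) (hw : RatV F₀ w) :
    QuadraticMap.polar Q v w ∈ F₀ := by
  unfold QuadraticMap.polar
  exact F₀.sub_mem (F₀.sub_mem (R.rat _ (hv.add hw)) (R.rat _ hv)) (R.rat _ hw)

theorem OD.nondeg (R : OD Q F₀) : Nondeg Q := (nondeg_iff Q).mp R.nd

/-- the values of the form on the rational vectors. -/
def q0fun (R : OD Q F₀) (s : ι → F₀) : F₀ := ⟨Q (up s), R.rat _ (up_ratV s)⟩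

theorem q0fun_polar (R : OD Q F₀) (s t : ι → F₀) :
    ((QuadraticMap.polar (q0fun R) s t : F₀) : F) = QuadraticMap.polar Q (up s) (up t) := by
  unfold QuadraticMap.polar q0fun
  rfl

/-- the quadratic form over the subfield. -/
noncomputable def Q0 (R : OD Q F₀) : QuadraticForm F₀ (ι → F₀) :=
  QuadraticMap.ofPolar (q0fun R)
    (by
      intro a s
      apply Subtype.ext
      show Q (up (a • s)) = ((a * a : F₀) : F) * Q (up s)
      rw [up_smul, QuadraticMap.map_smul, smul_eq_mul]
      rfl)
    (by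
      intro s s' t
      apply Subtype.ext
      rw [Subfield.coe_add, q0fun_polar, q0fun_polar, q0fun_polar, up_add,
        QuadraticMap.polar_add_left])
    (by
      intro a s t
      apply Subtype.ext
      rw [smul_eq_mul, Subfield.coe_mul, q0fun_polar, q0fun_polar, up_smul,
        QuadraticMap.polar_smul_left, smul_eq_mul])

theorem Q0_apply (R : OD Q F₀) (s : ι → F₀) : ((Q0 R s : F₀) : F) = Q (up s) := rfl

theorem Q0_polar (R : OD Q F₀) (s t : ι → F₀) :
    ((QuadraticMap.polar (Q0 R) s t : F₀) : F) = QuadraticMap.polar Q (up s) (up t) :=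
  q0fun_polar R s t

theorem Q0_eq_zero (R : OD Q F₀) {s : ι → F₀} : Q0 R s = 0 ↔ Q (up s) = 0 := by
  rw [← Q0_apply R s]
  constructor
  · intro h; rw [h]; rfl
  · intro h; exact Subtype.ext h

theorem Q0_polar_eq_zero (R : OD Q F₀) {s t : ι → F₀} :
    QuadraticMap.polar (Q0 R) s t = 0 ↔ QuadraticMap.polar Q (up s) (up t) = 0 := by
  rw [← Q0_polar R s t]
  constructor
  · intro h; rw [h]; rfl
  · intro h; exact Subtype.ext h

/-- a vector orthogonal to all rational vectors is zero. -/
theorem eq_zero_of_perp_rat (R : OD Q F₀) {y : ι → F}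
    (h : ∀ x : ι → F, RatV F₀ x → QuadraticMap.polar Q y x = 0) : y = 0 := by
  apply R.nondeg y
  have hz : QuadraticMap.polarBilin Q y = 0 := by
    apply LinearMap.pi_ext
    intro i c
    rw [LinearMap.zero_apply, QuadraticMap.polarBilin_apply_apply]
    have e1 : (Pi.single i c : ι → F) = c • Pi.single i 1 := by
      rw [← Pi.single_smul, smul_eq_mul, mul_one]
    rw [e1, QuadraticMap.polar_smul_right, h _ (RatV.single i F₀.one_mem), smul_zero]
  intro w
  have := LinearMap.congr_fun hz w
  rwa [QuadraticMap.polarBilin_apply_apply, LinearMap.zero_apply] at this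

theorem Q0_nd (R : OD Q F₀) : (QuadraticMap.polarBilin (Q0 R)).Nondegenerate := by
  rw [nondeg_iff]
  intro s hs
  apply up_injective
  rw [up_zero]
  apply eq_zero_of_perp_rat R
  intro x hx
  obtain ⟨t, rfl⟩ := exists_up hx
  exact (Q0_polar_eq_zero R).mp (hs t)

theorem finrank_V0 : finrank F₀ (ι → F₀) = Fintype.card ι := Module.finrank_fintype_fun_eq_card F₀

/-- a vector with rational pairings against all rational vectors is rational. -/
theorem rat_of_pairings (R : OD Q F₀) {y : ι → F}
    (h : ∀ x : ι → F, RatV F₀ x → QuadraticMap.polar Q y x ∈ F₀) : RatV F₀ y := by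
  obtain ⟨ℓ, hℓ⟩ : ∃ ℓ : Module.Dual F₀ (ι → F₀), ∀ s : ι → F₀,
      ((ℓ s : F₀) : F) = QuadraticMap.polar Q y (up s) := by
    refine ⟨{ toFun := fun s => ⟨QuadraticMap.polar Q y (up s), h _ (up_ratV s)⟩
              map_add' := ?_
              map_smul' := ?_ }, fun s => rfl⟩
    · intro s t
      apply Subtype.ext
      show QuadraticMap.polar Q y (up (s + t)) = _
      rw [up_add, QuadraticMap.polar_add_right]
      rfl
    · intro a s
      apply Subtype.ext
      show QuadraticMap.polar Q y (up (a • s)) = _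
      rw [up_smul, QuadraticMap.polar_smul_right]
      rfl
  obtain ⟨y₀, hy₀⟩ : ∃ y₀ : ι → F₀, y₀ = (LinearMap.BilinForm.toDual _ (Q0_nd R)).symm ℓ :=
    ⟨_, rfl⟩
  have h1 : ∀ s : ι → F₀, QuadraticMap.polar (Q0 R) y₀ s = ℓ s := by
    intro s
    have := LinearMap.BilinForm.apply_toDual_symm_apply (hB := Q0_nd R) ℓ s
    rw [← hy₀, QuadraticMap.polarBilin_apply_apply] at this
    exact this
  have h2 : y - up y₀ = 0 := by
    apply eq_zero_of_perp_rat R
    intro x hx
    obtain ⟨t, rfl⟩ := exists_up hx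
    rw [QuadraticMap.polar_sub_left, ← Q0_polar R, h1 t, hℓ t, sub_self]
  have h3 : y = up y₀ := by rw [← sub_eq_zero]; exact h2
  rw [h3]
  exact up_ratV y₀

end Cfsg.Agent.Helper7.OSub
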