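import Mathlib
import Cfsg.Agent.Helper7.OSubB

set_option autoImplicit false
set_option linter.unusedSectionVars false

/-! Subfield subgroups of orthogonal groups, part C: rational hyperbolic pairs, partners and
singular vectors (helper7). -/

namespace Cfsg.Agent.Helper7.OSub

open Module Matrix Cfsg.Agent.Helper8.QuadForm Cfsg.Agent.Helper7.OrthMax
  Cfsg.Agent.Helper7.SpSub

variable {F : Type*} [Field F] [Finite F] {ι : Type} [Fintype ι] [DecidableEq ι]
  {F₀ : Subfield F} {Q : QuadraticForm F (ι → F)}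

/-- rational singular vectors. -/
def RSg (Q : QuadraticForm F (ι → F)) (F₀ : Subfield F) (v : ι → F) : Prop :=
  RatV F₀ v ∧ Q v = 0

theorem RSg.zero : RSg Q F₀ (0 : ι → F) := ⟨RatV.zero, map_zero Q⟩

theorem RSg.smul {v : ι → F} (hv : RSg Q F₀ v) {c : F} (hc : c ∈ F₀) : RSg Q F₀ (c • v) :=
  ⟨hv.1.smul hc, by rw [QuadraticMap.map_smul, hv.2, smul_zero]⟩

theorem RSg.neg {v : ι → F} (hv : RSg Q F₀ v) : RSg Q F₀ (-v) :=
  ⟨hv.1.neg, by rw [QuadraticMap.map_neg, hv.2]⟩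

theorem RSg.add {v w : ι → F} (hv : RSg Q F₀ v) (hw : RSg Q F₀ w)
    (hvw : QuadraticMap.polar Q v w = 0) : RSg Q F₀ (v + w) :=
  ⟨hv.1.add hw.1, by rw [QuadraticMap.map_add Q, hv.2, hw.2, hvw]; ring⟩

theorem all2 {P : Fin 2 → Prop} (h0 : P 0) (h1 : P 1) : ∀ i, P i := by
  intro i; fin_cases i
  · exact h0
  · exact h1

theorem all3 {P : Fin 3 → Prop} (h0 : P 0) (h1 : P 1) (h2 : P 2) : ∀ i, P i := by
  intro i; fin_cases i
  · exact h0
  · exact h1
  · exact h2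

theorem all4 {P : Fin 4 → Prop} (h0 : P 0) (h1 : P 1) (h2 : P 2) (h3 : P 3) : ∀ i, P i := by
  intro i; fin_cases i
  · exact h0
  · exact h1
  · exact h2
  · exact h3

theorem perp_span (R : OD Q F₀) {k : ℕ} (v₀ : ι → F₀) (s : Fin k → ι → F₀)
    (h : ∀ i, QuadraticMap.polar Q (up v₀) (up (s i)) = 0) :
    ∀ c ∈ Submodule.span F₀ (Set.range s), QuadraticMap.polar (Q0 R) v₀ c = 0 := by
  have hle : Submodule.span F₀ (Set.range s) ≤
      LinearMap.ker (QuadraticMap.polarBilin (Q0 R) v₀) := by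
    rw [Submodule.span_le]
    rintro _ ⟨i, rfl⟩
    rw [SetLike.mem_coe, LinearMap.mem_ker, QuadraticMap.polarBilin_apply_apply]
    exact (Q0_polar_eq_zero R).mpr (h i)
  intro c hc
  have := hle hc
  rwa [LinearMap.mem_ker, QuadraticMap.polarBilin_apply_apply] at this

theorem finrank_span_fin {k : ℕ} (s : Fin k → ι → F₀) :
    finrank F₀ ↥(Submodule.span F₀ (Set.range s)) ≤ k := by
  have := finrank_range_le_card (R := F₀) s
  rwa [Fintype.card_fin] at this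

/-- a rational hyperbolic pair orthogonal to a few rational vectors. -/
theorem rat_hyp (R : OD Q F₀) {k : ℕ} (c : Fin k → ι → F) (hc : ∀ i, RatV F₀ (c i))
    (hk : 2 * k + 3 ≤ Fintype.card ι) :
    ∃ b f, RSg Q F₀ b ∧ RSg Q F₀ f ∧ QuadraticMap.polar Q b f = 1 ∧
      (∀ i, QuadraticMap.polar Q b (c i) = 0) ∧ (∀ i, QuadraticMap.polar Q f (c i) = 0) := by
  choose s hs using fun i => exists_up (hc i)
  have hfr := finrank_span_fin s
  obtain ⟨b₀, f₀, hb, hf, hbf, hbC, hfC⟩ := hyp_sub (Q0 R) (Q0_nd R)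
    (Submodule.span F₀ (Set.range s)) (by rw [finrank_V0]; omega)
  refine ⟨up b₀, up f₀, ⟨up_ratV _, (Q0_eq_zero R).mp hb⟩, ⟨up_ratV _, (Q0_eq_zero R).mp hf⟩,
    ?_, ?_, ?_⟩
  · rw [← Q0_polar R, hbf]; rfl
  · intro i
    rw [← hs i]
    exact (Q0_polar_eq_zero R).mp (hbC _ (Submodule.subset_span ⟨i, rfl⟩))
  · intro i
    rw [← hs i]
    exact (Q0_polar_eq_zero R).mp (hfC _ (Submodule.subset_span ⟨i, rfl⟩))

/-- a rational hyperbolic partner orthogonal to a few rational vectors. -/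
theorem rat_partner (R : OD Q F₀) {k : ℕ} (c : Fin k → ι → F) (hc : ∀ i, RatV F₀ (c i))
    {e : ι → F} (he : RSg Q F₀ e) (hec : ∀ i, QuadraticMap.polar Q e (c i) = 0)
    (hind : ∀ x : Fin k → F, e ≠ ∑ i, x i • c i) :
    ∃ f, RSg Q F₀ f ∧ QuadraticMap.polar Q e f = 1 ∧ ∀ i, QuadraticMap.polar Q f (c i) = 0 := by
  choose s hs using fun i => exists_up (hc i)
  obtain ⟨e₀, rfl⟩ := exists_up he.1
  have h1 : ∀ c' ∈ Submodule.span F₀ (Set.range s), QuadraticMap.polar (Q0 R) e₀ c' = 0 :=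
    perp_span R e₀ s (fun i => by rw [hs i]; exact hec i)
  have h2 : e₀ ∉ Submodule.span F₀ (Set.range s) := by
    intro h
    rw [Submodule.mem_span_range_iff_exists_fun] at h
    obtain ⟨x, hx⟩ := h
    apply hind (fun i => ((x i : F₀) : F))
    rw [← hx]
    have : ∀ t : Finset (Fin k), up (∑ i ∈ t, x i • s i) = ∑ i ∈ t, ((x i : F₀) : F) • c i := by
      intro t
      induction t using Finset.induction_on with
      | empty => rw [Finset.sum_empty, Finset.sum_empty, up_zero]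
      | insert a t ha ih =>
        rw [Finset.sum_insert ha, Finset.sum_insert ha, up_add, up_smul, ih, hs a]
    exact this Finset.univ
  obtain ⟨f₀, hf, hef, hfC⟩ := partner_sub (Q0 R) (Q0_nd R) _ ((Q0_eq_zero R).mpr he.2) h1 h2
  refine ⟨up f₀, ⟨up_ratV _, (Q0_eq_zero R).mp hf⟩, ?_, ?_⟩
  · rw [← Q0_polar R, hef]; rfl
  · intro i
    rw [← hs i]
    exact (Q0_polar_eq_zero R).mp (hfC _ (Submodule.subset_span ⟨i, rfl⟩))

/-- a rational vector orthogonal to a few rational vectors is a sum of three rational singular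
vectors orthogonal to them. -/
theorem rat_three (R : OD Q F₀) {k : ℕ} (c : Fin k → ι → F) (hc : ∀ i, RatV F₀ (c i))
    (hk : 2 * k + 5 ≤ Fintype.card ι) {x : ι → F} (hx : RatV F₀ x)
    (hxc : ∀ i, QuadraticMap.polar Q x (c i) = 0) :
    ∃ s₁ s₂ s₃, RSg Q F₀ s₁ ∧ RSg Q F₀ s₂ ∧ RSg Q F₀ s₃ ∧
      (∀ i, QuadraticMap.polar Q s₁ (c i) = 0) ∧ (∀ i, QuadraticMap.polar Q s₂ (c i) = 0) ∧
      (∀ i, QuadraticMap.polar Q s₃ (c i) = 0) ∧ x = s₁ + s₂ + s₃ := by
  choose s hs using fun i => exists_up (hc i)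
  obtain ⟨x₀, rfl⟩ := exists_up hx
  have hfr := finrank_span_fin s
  have h1 : ∀ c' ∈ Submodule.span F₀ (Set.range s), QuadraticMap.polar (Q0 R) x₀ c' = 0 :=
    perp_span R x₀ s (fun i => by rw [hs i]; exact hxc i)
  obtain ⟨t₁, t₂, t₃, ht₁, ht₂, ht₃, h₁, h₂, h₃, e⟩ := three_sing (Q0 R) (Q0_nd R)
    (Submodule.span F₀ (Set.range s)) (by rw [finrank_V0]; omega) h1
  refine ⟨up t₁, up t₂, up t₃, ⟨up_ratV _, (Q0_eq_zero R).mp ht₁⟩,
    ⟨up_ratV _, (Q0_eq_zero R).mp ht₂⟩, ⟨up_ratV _, (Q0_eq_zero R).mp ht₃⟩, ?_, ?_, ?_, ?_⟩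
  · intro i
    rw [← hs i]
    exact (Q0_polar_eq_zero R).mp (h₁ _ (Submodule.subset_span ⟨i, rfl⟩))
  · intro i
    rw [← hs i]
    exact (Q0_polar_eq_zero R).mp (h₂ _ (Submodule.subset_span ⟨i, rfl⟩))
  · intro i
    rw [← hs i]
    exact (Q0_polar_eq_zero R).mp (h₃ _ (Submodule.subset_span ⟨i, rfl⟩))
  · rw [e, up_add, up_add]

/-- a rational hyperbolic partner. -/
theorem rat_partner0 (R : OD Q F₀) {e : ι → F} (he : RSg Q F₀ e) (he0 : e ≠ 0) :
    ∃ f, RSg Q F₀ f ∧ QuadraticMap.polar Q e f = 1 := by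
  obtain ⟨f, hf, hef, -⟩ := rat_partner R (k := 0) (fun i => i.elim0) (fun i => i.elim0) he
    (fun i => i.elim0) (by
      intro x h
      apply he0
      rw [h, Finset.univ_eq_empty, Finset.sum_empty])
  exact ⟨f, hf, hef⟩

/-- a vector orthogonal to all rational singular vectors is zero. -/
theorem eq_zero_of_perp_sing (R : OD Q F₀) (hN : 5 ≤ Fintype.card ι) {y : ι → F}
    (h : ∀ e : ι → F, RSg Q F₀ e → QuadraticMap.polar Q y e = 0) : y = 0 := by
  apply eq_zero_of_perp_rat R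
  intro x hx
  obtain ⟨s₁, s₂, s₃, h₁, h₂, h₃, -, -, -, e⟩ := rat_three R (k := 0) (fun i => i.elim0)
    (fun i => i.elim0) (by omega) hx (fun i => i.elim0)
  rw [e, QuadraticMap.polar_add_right, QuadraticMap.polar_add_right, h _ h₁, h _ h₂, h _ h₃]
  ring

/-- a vector orthogonal to the rational vectors orthogonal to a rational singular vector is a
multiple of that vector. -/
theorem perp_rat_perp (R : OD Q F₀) {a₀ : ι → F} (ha₀ : RSg Q F₀ a₀) (ha₀0 : a₀ ≠ 0)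
    {x : ι → F}
    (h : ∀ w : ι → F, RatV F₀ w → QuadraticMap.polar Q w a₀ = 0 → QuadraticMap.polar Q x w = 0) :
    ∃ κ : F, x = κ • a₀ := by
  obtain ⟨f, hf, haf⟩ := rat_partner0 R ha₀ ha₀0
  refine ⟨QuadraticMap.polar Q x f, ?_⟩
  rw [← sub_eq_zero]
  apply eq_zero_of_perp_rat R
  intro v hv
  obtain ⟨v₀, hv₀⟩ : ∃ v₀ : ι → F, v₀ = v - QuadraticMap.polar Q v a₀ • f := ⟨_, rfl⟩
  have hv₀r : RatV F₀ v₀ := by
    rw [hv₀]
    exact hv.sub (hf.1.smul (R.polar_mem hv ha₀.1))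
  have hfa : QuadraticMap.polar Q f a₀ = 1 := by rw [QuadraticMap.polar_comm]; exact haf
  have hv₀a : QuadraticMap.polar Q v₀ a₀ = 0 := by
    rw [hv₀, QuadraticMap.polar_sub_left, QuadraticMap.polar_smul_left, hfa, smul_eq_mul,
      mul_one, sub_self]
  have hav₀ : QuadraticMap.polar Q a₀ v₀ = 0 := by rw [QuadraticMap.polar_comm]; exact hv₀a
  have hv : v = v₀ + QuadraticMap.polar Q v a₀ • f := by rw [hv₀]; abel
  have haa : QuadraticMap.polar Q a₀ a₀ = 0 := by rw [polar_self', ha₀.2, mul_zero]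
  rw [hv, QuadraticMap.polar_sub_left, QuadraticMap.polar_smul_left, QuadraticMap.polar_add_right,
    QuadraticMap.polar_add_right, QuadraticMap.polar_smul_right, QuadraticMap.polar_smul_right,
    h v₀ hv₀r hv₀a, hav₀, haf]
  simp only [smul_eq_mul]
  ring

/-- the coefficient of a rational multiple of a non-zero rational vector. -/
theorem coef1 {v : ι → F} (hv : RatV F₀ v) (hv0 : v ≠ 0) {μ : F} (h : RatV F₀ (μ • v)) :
    μ ∈ F₀ := by
  obtain ⟨i, hi⟩ : ∃ i, v i ≠ 0 := by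
    by_contra hcon
    push Not at hcon
    exact hv0 (funext hcon)
  have h1 : μ * v i ∈ F₀ := h i
  have h2 : μ = μ * v i * (v i)⁻¹ := by rw [mul_assoc, mul_inv_cancel₀ hi, mul_one]
  rw [h2]
  exact F₀.mul_mem h1 (F₀.inv_mem (hv i))

end Cfsg.Agent.Helper7.OSub
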