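import Mathlib
import Cfsg.Agent.Helper7.OSubC
import Cfsg.Agent.Helper7.OrthMaxC
import Cfsg.Agent.Helper7.OrthPairA

set_option autoImplicit false
set_option linter.unusedSectionVars false

/-! Subfield subgroups of orthogonal groups, part D: identities between Siegel transformations
(helper7). -/

namespace Cfsg.Agent.Helper7.OSub

open Module Matrix Cfsg.Agent.Helper8.QuadForm Cfsg.Agent.Helper8.WittQuad
  Cfsg.Agent.Helper8.OrthOrder Cfsg.Agent.Helper8.Siegel Cfsg.Agent.Helper8.SiegelGroup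
  Cfsg.Agent.Helper7.OrthMax Cfsg.Agent.Helper7.OrthPair Cfsg.Agent.Helper7.SpSub

section general

variable {F : Type*} [Field F] {V : Type*} [AddCommGroup V] [Module F V] (Q : QuadraticForm F V)

theorem siegG_apply {u w : V} (hu : Q u = 0) (huw : QuadraticMap.polar Q u w = 0) (x : V) :
    ((siegG Q u w : ↥(Isom Q)) : V ≃ₗ[F] V) x = x + QuadraticMap.polar Q x w • u
      - QuadraticMap.polar Q x u • w - (Q w * QuadraticMap.polar Q x u) • u := by
  rw [siegG_val, siegE_apply Q hu huw, sieg_apply]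

/-- the action of a Siegel transformation with two singular parameters. -/
theorem siegG_apply_ts {u w : V} (hu : Q u = 0) (hw : Q w = 0)
    (huw : QuadraticMap.polar Q u w = 0) (x : V) :
    ((siegG Q u w : ↥(Isom Q)) : V ≃ₗ[F] V) x = x + QuadraticMap.polar Q x w • u
      - QuadraticMap.polar Q x u • w := by
  rw [siegG_apply Q hu huw, hw, zero_mul, zero_smul, sub_zero]

theorem siegG_fix {u w x : V} (hxu : QuadraticMap.polar Q x u = 0)
    (hxw : QuadraticMap.polar Q x w = 0) :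
    ((siegG Q u w : ↥(Isom Q)) : V ≃ₗ[F] V) x = x := by
  rw [siegG_val]
  exact siegE_fix Q hxu hxw

theorem siegG_smul_left {u w : V} (hu : Q u = 0) (huw : QuadraticMap.polar Q u w = 0) (c : F) :
    siegG Q (c • u) w = siegG Q u (c • w) :=
  Subtype.ext (siegE_smul_left Q hu huw c)

theorem siegG_conj_mem {M : Subgroup ↥(Isom Q)} {g : ↥(Isom Q)} (hg : g ∈ M) {u w : V}
    (h : siegG Q u w ∈ M) :
    siegG Q ((g : V ≃ₗ[F] V) u) ((g : V ≃ₗ[F] V) w) ∈ M := by
  rw [← siegG_conj]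
  exact M.mul_mem (M.mul_mem hg h) (M.inv_mem hg)

theorem siegG_sub_mem {M : Subgroup ↥(Isom Q)} {u w w' : V} (hu : Q u = 0)
    (huw : QuadraticMap.polar Q u w = 0) (huw' : QuadraticMap.polar Q u w' = 0)
    (h : siegG Q u w ∈ M) (h' : siegG Q u w' ∈ M) : siegG Q u (w - w') ∈ M := by
  have h1 : QuadraticMap.polar Q u (-w') = 0 := by
    rw [QuadraticMap.polar_neg_right, huw', neg_zero]
  rw [sub_eq_add_neg, ← siegG_mul Q hu huw h1, ← siegG_inv Q hu huw']
  exact M.mul_mem h (M.inv_mem h')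

theorem siegG_add_mem {M : Subgroup ↥(Isom Q)} {u w w' : V} (hu : Q u = 0)
    (huw : QuadraticMap.polar Q u w = 0) (huw' : QuadraticMap.polar Q u w' = 0)
    (h : siegG Q u w ∈ M) (h' : siegG Q u w' ∈ M) : siegG Q u (w + w') ∈ M := by
  rw [← siegG_mul Q hu huw huw']
  exact M.mul_mem h h'

/-- Siegel transformations with mutually orthogonal parameters commute. -/
theorem siegG_comm {u w u' w' : V} (hu'u : QuadraticMap.polar Q u' u = 0)
    (hu'w : QuadraticMap.polar Q u' w = 0) (hw'u : QuadraticMap.polar Q w' u = 0)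
    (hw'w : QuadraticMap.polar Q w' w = 0) :
    siegG Q u w * siegG Q u' w' = siegG Q u' w' * siegG Q u w := by
  have h := siegG_conj Q (siegG Q u w) u' w'
  rw [siegG_fix Q hu'u hu'w, siegG_fix Q hw'u hw'w] at h
  exact mul_inv_eq_iff_eq_mul.mp h

/-- additivity in the first parameter, for singular parameters. -/
theorem siegG_add_left {u u' w : V} (hu : Q u = 0) (hu' : Q u' = 0) (hw : Q w = 0)
    (huu' : QuadraticMap.polar Q u u' = 0) (huw : QuadraticMap.polar Q u w = 0)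
    (hu'w : QuadraticMap.polar Q u' w = 0) :
    siegG Q (u + u') w = siegG Q u w * siegG Q u' w := by
  have h1 : Q (u + u') = 0 := by rw [QuadraticMap.map_add Q, hu, hu', huu']; ring
  have h2 : QuadraticMap.polar Q (u + u') w = 0 := by
    rw [QuadraticMap.polar_add_left, huw, hu'w, add_zero]
  have hwu : QuadraticMap.polar Q w (-u) = 0 := by
    rw [QuadraticMap.polar_neg_right, QuadraticMap.polar_comm, huw, neg_zero]
  have hwu' : QuadraticMap.polar Q w (-u') = 0 := by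
    rw [QuadraticMap.polar_neg_right, QuadraticMap.polar_comm, hu'w, neg_zero]
  rw [siegG_swap Q h1 hw h2, neg_add, ← siegG_mul Q hw hwu hwu', ← siegG_swap Q hu hw huw,
    ← siegG_swap Q hu' hw hu'w]

/-- the Plücker decomposition of a Siegel transformation with parameters in a totally singular
plane. -/
theorem plucker3 {e₁ e₂ e₃ : V} (h₁ : Q e₁ = 0) (h₂ : Q e₂ = 0) (h₃ : Q e₃ = 0)
    (h12 : QuadraticMap.polar Q e₁ e₂ = 0) (h13 : QuadraticMap.polar Q e₁ e₃ = 0)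
    (h23 : QuadraticMap.polar Q e₂ e₃ = 0) (v₁ v₂ v₃ w₁ w₂ w₃ : F) :
    siegG Q (v₁ • e₁ + v₂ • e₂ + v₃ • e₃) (w₁ • e₁ + w₂ • e₂ + w₃ • e₃) =
      siegG Q e₁ ((v₁ * w₂ - v₂ * w₁) • e₂ + (v₁ * w₃ - v₃ * w₁) • e₃) *
        siegG Q e₂ ((v₂ * w₃ - v₃ * w₂) • e₃) := by
  have h21 : QuadraticMap.polar Q e₂ e₁ = 0 := by rw [QuadraticMap.polar_comm]; exact h12
  have h31 : QuadraticMap.polar Q e₃ e₁ = 0 := by rw [QuadraticMap.polar_comm]; exact h13
  have h32 : QuadraticMap.polar Q e₃ e₂ = 0 := by rw [QuadraticMap.polar_comm]; exact h23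
  have h11 : QuadraticMap.polar Q e₁ e₁ = 0 := by rw [polar_self', h₁, mul_zero]
  have h22 : QuadraticMap.polar Q e₂ e₂ = 0 := by rw [polar_self', h₂, mul_zero]
  have h33 : QuadraticMap.polar Q e₃ e₃ = 0 := by rw [polar_self', h₃, mul_zero]
  have hQ3 : ∀ a b c : F, Q (a • e₁ + b • e₂ + c • e₃) = 0 := by
    intro a b c
    rw [QuadraticMap.map_add Q, QuadraticMap.map_add Q, QuadraticMap.map_smul,
      QuadraticMap.map_smul, QuadraticMap.map_smul, h₁, h₂, h₃]
    simp only [QuadraticMap.polar_add_left, QuadraticMap.polar_smul_left,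
      QuadraticMap.polar_smul_right, h12, h13, h23, smul_eq_mul, mul_zero, add_zero]
  have hP3 : ∀ a b c a' b' c' : F, QuadraticMap.polar Q (a • e₁ + b • e₂ + c • e₃)
      (a' • e₁ + b' • e₂ + c' • e₃) = 0 := by
    intro a b c a' b' c'
    simp only [QuadraticMap.polar_add_left, QuadraticMap.polar_add_right,
      QuadraticMap.polar_smul_left, QuadraticMap.polar_smul_right, h12, h13, h23, h21, h31, h32,
      h11, h22, h33, smul_eq_mul, mul_zero, add_zero]
  have hQa : Q ((v₁ * w₂ - v₂ * w₁) • e₂ + (v₁ * w₃ - v₃ * w₁) • e₃) = 0 := by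
    have := hQ3 0 (v₁ * w₂ - v₂ * w₁) (v₁ * w₃ - v₃ * w₁)
    rwa [zero_smul, zero_add] at this
  have hPa : QuadraticMap.polar Q e₁ ((v₁ * w₂ - v₂ * w₁) • e₂ + (v₁ * w₃ - v₃ * w₁) • e₃)
      = 0 := by
    rw [QuadraticMap.polar_add_right, QuadraticMap.polar_smul_right,
      QuadraticMap.polar_smul_right, h12, h13, smul_zero, smul_zero, add_zero]
  have hQg : Q ((v₂ * w₃ - v₃ * w₂) • e₃) = 0 := by rw [QuadraticMap.map_smul, h₃, smul_zero]
  have hPg : QuadraticMap.polar Q e₂ ((v₂ * w₃ - v₃ * w₂) • e₃) = 0 := by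
    rw [QuadraticMap.polar_smul_right, h23, smul_zero]
  apply Subtype.ext
  apply LinearEquiv.ext
  intro x
  rw [Subgroup.coe_mul, LinearEquiv.mul_apply,
    siegG_apply_ts Q (hQ3 _ _ _) (hQ3 _ _ _) (hP3 _ _ _ _ _ _),
    siegG_apply_ts Q h₂ hQg hPg, siegG_apply_ts Q h₁ hQa hPa]
  obtain ⟨b₁, hb₁⟩ : ∃ b₁ : F, b₁ = QuadraticMap.polar Q x e₁ := ⟨_, rfl⟩
  obtain ⟨b₂, hb₂⟩ : ∃ b₂ : F, b₂ = QuadraticMap.polar Q x e₂ := ⟨_, rfl⟩
  obtain ⟨b₃, hb₃⟩ : ∃ b₃ : F, b₃ = QuadraticMap.polar Q x e₃ := ⟨_, rfl⟩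
  simp only [QuadraticMap.polar_add_left, QuadraticMap.polar_add_right,
    QuadraticMap.polar_sub_left, QuadraticMap.polar_smul_left, QuadraticMap.polar_smul_right,
    h23, h21, h31, h32, h22, h33, ← hb₁, ← hb₂, ← hb₃, smul_eq_mul, mul_zero,
    add_zero, sub_zero, zero_add]
  module

/-- the Plücker decomposition for a totally singular line. -/
theorem plucker2 {e₁ e₂ : V} (h₁ : Q e₁ = 0) (h₂ : Q e₂ = 0)
    (h12 : QuadraticMap.polar Q e₁ e₂ = 0) (v₁ v₂ w₁ w₂ : F) :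
    siegG Q (v₁ • e₁ + v₂ • e₂) (w₁ • e₁ + w₂ • e₂) =
      siegG Q e₁ ((v₁ * w₂ - v₂ * w₁) • e₂) := by
  have h := plucker3 Q h₁ h₂ (map_zero Q) h12 (QuadraticMap.polar_zero_right _ _)
    (QuadraticMap.polar_zero_right _ _) v₁ v₂ 0 w₁ w₂ 0
  simp only [smul_zero, add_zero, siegG_zero, mul_one] at h
  exact h

end general

section rational

variable {F : Type*} [Field F] {ι : Type} [Fintype ι] [DecidableEq ι] {F₀ : Subfield F}
  {Q : QuadraticForm F (ι → F)}

/-- membership of the subfield group (for the identity change of basis). -/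
def InH (Q : QuadraticForm F (ι → F)) (F₀ : Subfield F) (g : ↥(Isom Q)) : Prop :=
  toGL Q g ∈ Cfsg.Geo.subfieldSubgroup F₀ (1 : GL ι F)

theorem InH_of_smul {g : ↥(Isom Q)} {μ : F} (hμ : μ ≠ 0)
    (h : ∀ w : ι → F, RatV F₀ w → RatV F₀ (μ • (g : (ι → F) ≃ₗ[F] (ι → F)) w)) :
    InH Q F₀ g := by
  apply mem_subfield_one_of hμ
  intro w hw
  rw [toGL_mulVec]
  exact h w hw

theorem InH_of_rat {g : ↥(Isom Q)}
    (h : ∀ w : ι → F, RatV F₀ w → RatV F₀ ((g : (ι → F) ≃ₗ[F] (ι → F)) w)) : InH Q F₀ g :=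
  InH_of_smul one_ne_zero (fun w hw => by rw [one_smul]; exact h w hw)

theorem exists_of_InH {g : ↥(Isom Q)} (h : InH Q F₀ g) :
    ∃ μ : F, μ ≠ 0 ∧ ∀ w : ι → F, RatV F₀ w →
      RatV F₀ (μ • (g : (ι → F) ≃ₗ[F] (ι → F)) w) := by
  obtain ⟨μ, hμ, hw⟩ := exists_of_mem_subfield_one h
  refine ⟨μ, hμ, fun w hw' => ?_⟩
  have := hw w hw'
  rwa [toGL_mulVec] at this

variable [Finite F]

/-- rational Siegel transformations lie in the subfield group. -/
theorem siegG_InH (R : OD Q F₀) {u w : ι → F} (hu : RSg Q F₀ u) (hw : RatV F₀ w)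
    (huw : QuadraticMap.polar Q u w = 0) : InH Q F₀ (siegG Q u w) := by
  apply InH_of_rat
  intro x hx
  rw [siegG_apply Q hu.2 huw]
  exact ((hx.add (hu.1.smul (R.polar_mem hx hw))).sub (hw.smul (R.polar_mem hx hu.1))).sub
    (hu.1.smul (F₀.mul_mem (R.rat _ hw) (R.polar_mem hx hu.1)))

theorem siegG_mem_M (R : OD Q F₀) {M : Subgroup ↥(Isom Q)}
    (hM : ∀ g ∈ SG Q, InH Q F₀ g → g ∈ M) {u w : ι → F} (hu : RSg Q F₀ u) (hw : RatV F₀ w)
    (huw : QuadraticMap.polar Q u w = 0) : siegG Q u w ∈ M :=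
  hM _ (siegG_mem_SG Q hu.2 huw) (siegG_InH R hu hw huw)

end rational

end Cfsg.Agent.Helper7.OSub
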