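import Mathlib
import Cfsg.Agent.Helper7.SUGenH

set_option autoImplicit false
set_option linter.unusedSectionVars false

/-! Subfield structures for the unitary form, part A: the fixed field of `x ↦ x ^ q` and the basic
calculus of a rational structure `V` on which `ζ · h` is an alternating form with values in the
subfield (helper7). -/

namespace Cfsg.Agent.Helper7.SubF

open Matrix Cfsg Cfsg.Agent.Helper7.Herm Cfsg.Agent.Helper8.GUOrder Cfsg.Agent.Helper8.SURoot
  Cfsg.Agent.Helper7.SUGen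

variable {F : Type*} [Field F] [Fintype F] {q N : ℕ}

/-- elements of the subfield of order `q` are fixed by `x ↦ x ^ q`. -/
theorem pow_q_of_mem {F₀ : Subfield F} (hq : Nat.card F₀ = q) {x : F} (hx : x ∈ F₀) :
    x ^ q = x := by
  haveI : Fintype F₀ := Fintype.ofFinite F₀
  have h := FiniteField.pow_card (⟨x, hx⟩ : F₀)
  rw [← Nat.card_eq_fintype_card, hq] at h
  have := congrArg (Subtype.val) h
  simpa using this

/-- the fixed points of `x ↦ x ^ q` lie in the subfield of order `q`. -/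
theorem mem_of_pow_q {F₀ : Subfield F} (hq : Nat.card F₀ = q) (hq2 : 2 ≤ q) {x : F}
    (hx : x ^ q = x) : x ∈ F₀ := by
  classical
  have hne : (Polynomial.X ^ q - Polynomial.X : Polynomial F) ≠ 0 :=
    FiniteField.X_pow_card_sub_X_ne_zero F (by omega)
  have hdeg : (Polynomial.X ^ q - Polynomial.X : Polynomial F).natDegree = q :=
    FiniteField.X_pow_card_sub_X_natDegree_eq F (by omega)
  obtain ⟨R, hR⟩ : ∃ R, R = (Polynomial.X ^ q - Polynomial.X : Polynomial F).roots.toFinset :=
    ⟨_, rfl⟩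
  have hmemR : ∀ y : F, y ∈ R ↔ y ^ q = y := by
    intro y
    rw [hR, Multiset.mem_toFinset, Polynomial.mem_roots hne, Polynomial.IsRoot.def,
      Polynomial.eval_sub, Polynomial.eval_pow, Polynomial.eval_X, sub_eq_zero]
  have hRcard : R.card ≤ q := by
    rw [hR]
    calc _ ≤ Multiset.card (Polynomial.X ^ q - Polynomial.X : Polynomial F).roots :=
          Multiset.toFinset_card_le _
      _ ≤ _ := Polynomial.card_roots' _
      _ = q := hdeg
  obtain ⟨S, hS⟩ : ∃ S : Finset F, S = Finset.univ.filter (fun y => y ∈ F₀) := ⟨_, rfl⟩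
  have hScard : S.card = q := by
    rw [hS, ← hq, Nat.card_eq_fintype_card, Fintype.card_subtype]
  have hSR : S ⊆ R := by
    intro y hy
    rw [hS, Finset.mem_filter] at hy
    rw [hmemR]
    exact pow_q_of_mem hq hy.2
  have hEq : S = R := Finset.eq_of_subset_of_card_le hSR (by rw [hScard]; exact hRcard)
  have : x ∈ S := by rw [hEq, hmemR]; exact hx
  rw [hS, Finset.mem_filter] at this
  exact this.2

section field

variable [hK : Fact (Fintype.card F = q ^ 2)] {F₀ : Subfield F} (hq : Nat.card F₀ = q)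

include hq

omit hK in
theorem two_le_q : 2 ≤ q := by
  rw [← hq]
  exact Finite.one_lt_card

theorem exists_not_mem : ∃ lam : F, lam ∉ F₀ := by
  by_contra hcon
  push Not at hcon
  have h1 : Nat.card F₀ = Fintype.card F := by
    rw [← Nat.card_eq_fintype_card]
    exact Nat.card_congr ⟨fun x => x.1, fun x => ⟨x, hcon x⟩, fun _ => rfl, fun _ => rfl⟩
  rw [hq, hK.out] at h1
  have h2 := two_le_q hq
  nlinarith

omit hK in
theorem pow_q_ne {lam : F} (hl : lam ∉ F₀) : lam ^ q ≠ lam :=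
  fun h => hl (mem_of_pow_q hq (two_le_q hq) h)

/-- every element of `F` is `c₁ + lam c₂` with `c₁, c₂` in the subfield. -/
theorem field_decomp {lam : F} (hl : lam ∉ F₀) (c : F) :
    ∃ c₁ ∈ F₀, ∃ c₂ ∈ F₀, c = c₁ + lam * c₂ := by
  have hne : lam - lam ^ q ≠ 0 := sub_ne_zero.mpr (pow_q_ne hq hl).symm
  have hne' : lam ^ q - lam ≠ 0 := sub_ne_zero.mpr (pow_q_ne hq hl)
  have h2 := two_le_q hq
  have hqq : ∀ a : F, (a ^ q) ^ q = a := pow_q_pow_q hK.out
  obtain ⟨c₂, hc₂⟩ : ∃ c₂, c₂ = (c - c ^ q) / (lam - lam ^ q) := ⟨_, rfl⟩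
  have e2 : c₂ ^ q = c₂ := by
    rw [hc₂, div_pow, sub_pow_q hK.out, sub_pow_q hK.out, hqq, hqq]
    field_simp
    ring
  have e1 : (c - lam * c₂) ^ q = c - lam * c₂ := by
    rw [sub_pow_q hK.out, mul_pow, e2, hc₂]
    field_simp
    ring
  refine ⟨c - lam * c₂, mem_of_pow_q hq h2 e1, c₂, mem_of_pow_q hq h2 e2, by ring⟩

omit hK in
theorem field_uniq {lam : F} (hl : lam ∉ F₀) {c₁ c₂ : F} (h1 : c₁ ∈ F₀) (h2 : c₂ ∈ F₀)
    (h : c₁ + lam * c₂ = 0) : c₁ = 0 ∧ c₂ = 0 := by
  have hc2 : c₂ = 0 := by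
    by_contra hne
    apply hl
    have : lam = -c₁ / c₂ := by
      field_simp
      linear_combination h
    rw [this]
    exact F₀.div_mem (F₀.neg_mem h1) h2
  rw [hc2, mul_zero, add_zero] at h
  exact ⟨h, hc2⟩

end field

end Cfsg.Agent.Helper7.SubF
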