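import Mathlib
import Cfsg.Agent.Helper7.SubFA

set_option autoImplicit false
set_option linter.unusedSectionVars false

/-! Subfield structures for the unitary form, part B: the calculus of a rational structure `V`
on which `ζ · h` is an alternating form with values in the subfield (helper7). -/

namespace Cfsg.Agent.Helper7.SubF

open Matrix Cfsg Cfsg.Agent.Helper7.Herm Cfsg.Agent.Helper8.GUOrder Cfsg.Agent.Helper8.SURoot
  Cfsg.Agent.Helper7.SUGen

variable {F : Type*} [Field F] [Fintype F] {q N : ℕ} [hK : Fact (Fintype.card F = q ^ 2)]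

local notation "H" => hermForm N F q

theorem hl_add (u u' v : Fin N → F) : H (u + u') v = H u v + H u' v := hermForm_add_left u u' v

theorem hl_smul (a : F) (u v : Fin N → F) : H (a • u) v = a * H u v := hermForm_smul_left a u v

theorem hl_neg (u v : Fin N → F) : H (-u) v = -H u v := by
  have := hl_smul (q := q) (-1) u v
  rwa [neg_one_smul, neg_one_mul] at this

theorem hl_sub (u u' v : Fin N → F) : H (u - u') v = H u v - H u' v := by
  rw [sub_eq_add_neg, hl_add, hl_neg, ← sub_eq_add_neg]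

theorem hl_zero (v : Fin N → F) : H 0 v = 0 := hermForm_zero_left v

theorem hr_add (u v v' : Fin N → F) : H u (v + v') = H u v + H u v' :=
  hermForm_add_right hK.out u v v'

theorem hr_smul (a : F) (u v : Fin N → F) : H u (a • v) = a ^ q * H u v :=
  hermForm_smul_right a u v

theorem hr_neg (u v : Fin N → F) : H u (-v) = -H u v := by
  have := hr_smul (q := q) (-1) u v
  rwa [neg_one_smul, neg_pow_q hK.out, one_pow, neg_one_mul] at this

theorem hr_sub (u v v' : Fin N → F) : H u (v - v') = H u v - H u v' := by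
  rw [sub_eq_add_neg, hr_add, hr_neg, ← sub_eq_add_neg]

theorem hr_zero (u : Fin N → F) : H u 0 = 0 := hermForm_zero_right u

/-- linear independence of two vectors, in elementary form. -/
def Indep (v v' : Fin N → F) : Prop := ∀ a b : F, a • v + b • v' = 0 → a = 0 ∧ b = 0

omit [Fintype F] hK in
theorem Indep.ne_left {v v' : Fin N → F} (h : Indep v v') : v ≠ 0 := by
  rintro rfl
  have := (h 1 0 (by simp)).1
  exact one_ne_zero this

omit [Fintype F] hK in
theorem Indep.ne_right {v v' : Fin N → F} (h : Indep v v') : v' ≠ 0 := by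
  rintro rfl
  have := (h 0 1 (by simp)).2
  exact one_ne_zero this

omit [Fintype F] hK in
theorem Indep.map {v v' : Fin N → F} (h : Indep v v') (A B : Matrix (Fin N) (Fin N) F)
    (hBA : B * A = 1) : Indep (A *ᵥ v) (A *ᵥ v') := by
  intro a b hab
  apply h a b
  have := congrArg (fun x => B *ᵥ x) hab
  simp only [mulVec_add, mulVec_smul, mulVec_mulVec, hBA, one_mulVec, mulVec_zero] at this
  exact this

omit [Fintype F] hK in
theorem Indep.smul {v v' : Fin N → F} (h : Indep v v') {c c' : F} (hc : c ≠ 0) (hc' : c' ≠ 0) :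
    Indep (c • v) (c' • v') := by
  intro a b hab
  rw [smul_smul, smul_smul] at hab
  obtain ⟨h1, h2⟩ := h _ _ hab
  exact ⟨(mul_eq_zero.mp h1).resolve_right hc, (mul_eq_zero.mp h2).resolve_right hc'⟩

/-- a rational structure for the unitary form: an additive subgroup `V` of `F ^ N` stable under
the subfield `F₀` of order `q`, with `F ^ N = V ⊕ lam V`, on which `ζ h` is alternating with
values in `F₀`. -/
structure RS (q : ℕ) (F₀ : Subfield F) (ζ lam : F) (V : Set (Fin N → F)) : Prop where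
  card : Nat.card F₀ = q
  zeta0 : ζ ≠ 0
  zeta : ζ + ζ ^ q = 0
  lam_nm : lam ∉ F₀
  zero : (0 : Fin N → F) ∈ V
  add : ∀ x ∈ V, ∀ y ∈ V, x + y ∈ V
  smul : ∀ a ∈ F₀, ∀ x ∈ V, a • x ∈ V
  decomp : ∀ x, ∃ w₁ ∈ V, ∃ w₂ ∈ V, x = w₁ + lam • w₂
  uniq : ∀ w₁ ∈ V, ∀ w₂ ∈ V, w₁ + lam • w₂ = 0 → w₁ = 0 ∧ w₂ = 0
  val : ∀ x ∈ V, ∀ y ∈ V, ζ * hermForm N F q x y ∈ F₀
  alt : ∀ x ∈ V, hermForm N F q x x = 0

namespace RS

variable {F₀ : Subfield F} {ζ lam : F} {V : Set (Fin N → F)} (R : RS q F₀ ζ lam V)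

include R

theorem neg {x : Fin N → F} (hx : x ∈ V) : -x ∈ V := by
  have := R.smul (-1) (F₀.neg_mem F₀.one_mem) x hx
  rwa [neg_one_smul] at this

theorem sub {x y : Fin N → F} (hx : x ∈ V) (hy : y ∈ V) : x - y ∈ V := by
  rw [sub_eq_add_neg]
  exact R.add x hx _ (R.neg hy)

theorem fix {a : F} (ha : a ∈ F₀) : a ^ q = a := pow_q_of_mem R.card ha

theorem mem_of_fix {a : F} (ha : a ^ q = a) : a ∈ F₀ := mem_of_pow_q R.card (two_le_q R.card) ha

theorem zeta_pow : ζ ^ q = -ζ := by linear_combination R.zeta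

/-- on `V` the values of the form are negated by `x ↦ x ^ q`. -/
theorem hpow {x y : Fin N → F} (hx : x ∈ V) (hy : y ∈ V) : (H x y) ^ q = -H x y := by
  have h1 := R.fix (R.val x hx y hy)
  rw [mul_pow, R.zeta_pow] at h1
  have h2 : ζ * ((H x y) ^ q + H x y) = 0 := by linear_combination -h1
  have := (mul_eq_zero.mp h2).resolve_left R.zeta0
  linear_combination this

/-- on `V` the form is skew-symmetric. -/
theorem skew {x y : Fin N → F} (hx : x ∈ V) (hy : y ∈ V) : H y x = -H x y := by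
  rw [hermForm_swap hK.out y x, R.hpow hx hy]

/-- a ratio of values of the form on `V` lies in the subfield. -/
theorem ratio_mem {x y x' y' : Fin N → F} (hx : x ∈ V) (hy : y ∈ V) (hx' : x' ∈ V)
    (hy' : y' ∈ V) : H x y / H x' y' ∈ F₀ := by
  have := F₀.div_mem (R.val x hx y hy) (R.val x' hx' y' hy')
  rwa [mul_div_mul_left _ _ R.zeta0] at this

/-- the form on `V` is non-degenerate, even against arbitrary vectors. -/
theorem nondeg {x : Fin N → F} (hx : x ≠ 0) : ∃ y ∈ V, H x y ≠ 0 := by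
  by_contra hcon
  push Not at hcon
  apply hx
  apply eq_zero_of_herm (q := q)
  intro z
  apply herm_zero_swap
  obtain ⟨w₁, h1, w₂, h2, rfl⟩ := R.decomp z
  rw [hr_add, hr_smul, hcon w₁ h1, hcon w₂ h2, mul_zero, add_zero]

/-- a scalar carrying a non-zero vector of `V` into `V` lies in the subfield. -/
theorem coef_mem {c : F} {w : Fin N → F} (hw : w ∈ V) (hw0 : w ≠ 0) (hcw : c • w ∈ V) :
    c ∈ F₀ := by
  obtain ⟨c₁, h1, c₂, h2, rfl⟩ := field_decomp R.card R.lam_nm c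
  have e : (c₁ • w - (c₁ + lam * c₂) • w) + lam • (c₂ • w) = 0 := by module
  obtain ⟨-, e2⟩ := R.uniq _ (R.sub (R.smul c₁ h1 w hw) hcw) _ (R.smul c₂ h2 w hw) e
  have : c₂ = 0 := (smul_eq_zero.mp e2).resolve_right hw0
  rw [this, mul_zero, add_zero]
  exact h1

/-- coefficients of an element of `V` with respect to independent vectors of `V` lie in the
subfield. -/
theorem coef2_mem {α β : F} {v v' : Fin N → F} (hv : v ∈ V) (hv' : v' ∈ V) (hI : Indep v v')
    (h : α • v + β • v' ∈ V) : α ∈ F₀ ∧ β ∈ F₀ := by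
  obtain ⟨α₁, ha1, α₂, ha2, rfl⟩ := field_decomp R.card R.lam_nm α
  obtain ⟨β₁, hb1, β₂, hb2, rfl⟩ := field_decomp R.card R.lam_nm β
  have e : ((α₁ • v + β₁ • v') - ((α₁ + lam * α₂) • v + (β₁ + lam * β₂) • v')) +
      lam • (α₂ • v + β₂ • v') = 0 := by module
  obtain ⟨-, e2⟩ := R.uniq _ (R.sub (R.add _ (R.smul α₁ ha1 v hv) _ (R.smul β₁ hb1 v' hv')) h) _
    (R.add _ (R.smul α₂ ha2 v hv) _ (R.smul β₂ hb2 v' hv')) e
  obtain ⟨e3, e4⟩ := hI _ _ e2
  rw [e3, e4, mul_zero, add_zero, add_zero]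
  exact ⟨ha1, hb1⟩

/-- the value of the form on `w₁ + lam w₂`. -/
theorem herm_decomp {w₁ w₂ : Fin N → F} (h1 : w₁ ∈ V) (h2 : w₂ ∈ V) :
    H (w₁ + lam • w₂) (w₁ + lam • w₂) = (lam ^ q - lam) * H w₁ w₂ := by
  rw [hl_add, hr_add, hr_add, hl_smul, hl_smul, hr_smul, hr_smul, R.alt w₁ h1, R.alt w₂ h2,
    R.skew h1 h2]
  ring

/-- an isotropic vector has orthogonal components. -/
theorem herm_eq_zero_of_iso {w₁ w₂ : Fin N → F} (h1 : w₁ ∈ V) (h2 : w₂ ∈ V)
    (h : H (w₁ + lam • w₂) (w₁ + lam • w₂) = 0) : H w₁ w₂ = 0 := by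
  rw [R.herm_decomp h1 h2] at h
  exact (mul_eq_zero.mp h).resolve_left (sub_ne_zero.mpr (pow_q_ne R.card R.lam_nm))

/-- a vector with dependent components is a scalar multiple of a vector of `V`. -/
theorem dep_smul {w₁ w₂ : Fin N → F} (h1 : w₁ ∈ V) (h2 : w₂ ∈ V) (hI : ¬ Indep w₁ w₂) :
    ∃ c : F, ∃ v ∈ V, w₁ + lam • w₂ = c • v := by
  unfold Indep at hI
  push Not at hI
  obtain ⟨a, b, hab, hne⟩ := hI
  by_cases hb : b = 0
  · rw [hb, zero_smul, add_zero] at hab
    have ha : a ≠ 0 := fun ha => hne ha hb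
    have hw : w₁ = 0 := (smul_eq_zero.mp hab).resolve_left ha
    exact ⟨lam, w₂, h2, by rw [hw, zero_add]⟩
  · refine ⟨1 - lam * (a / b), w₁, h1, ?_⟩
    have : w₂ = -(a / b) • w₁ := by
      have h3 : b • w₂ = -(a • w₁) := by
        rw [eq_neg_iff_add_eq_zero, add_comm]; exact hab
      calc w₂ = b⁻¹ • (b • w₂) := by rw [smul_smul, inv_mul_cancel₀ hb, one_smul]
        _ = _ := by rw [h3, smul_neg, smul_smul, neg_smul]; congr 2; field_simp
    rw [this]
    module

/-- a hyperbolic partner in `V`. -/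
theorem exists_unit {a : Fin N → F} (ha : a ∈ V) (ha0 : a ≠ 0) : ∃ b ∈ V, ζ * H a b = 1 := by
  obtain ⟨b₀, hb₀, hne⟩ := R.nondeg ha0
  have hc : ζ * H a b₀ ≠ 0 := mul_ne_zero R.zeta0 hne
  refine ⟨(ζ * H a b₀)⁻¹ • b₀, R.smul _ (F₀.inv_mem (R.val a ha b₀ hb₀)) b₀ hb₀, ?_⟩
  rw [hr_smul, R.fix (F₀.inv_mem (R.val a ha b₀ hb₀)), ← mul_assoc, mul_comm ζ, mul_assoc,
    inv_mul_cancel₀ hc]

end RS

end Cfsg.Agent.Helper7.SubF
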