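import Mathlib
import Cfsg.Agent.Helper7.SubFB

set_option autoImplicit false
set_option linter.unusedSectionVars false

/-! Subfield structures for the unitary form, part C: the rational transvections are transitive
on totally isotropic independent pairs of the rational structure; a subgroup of `SU` containing
them and one element not preserving the rational points is everything (helper7). -/

namespace Cfsg.Agent.Helper7.SubF

open Matrix Cfsg Cfsg.Agent.Helper7.Herm Cfsg.Agent.Helper8.GUOrder Cfsg.Agent.Helper8.SURoot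
  Cfsg.Agent.Helper7.SUGen

variable {F : Type*} [Field F] [Fintype F] {q N : ℕ} [hK : Fact (Fintype.card F = q ^ 2)]

local notation "H" => hermForm N F q

namespace RS

variable {F₀ : Subfield F} {ζ lam : F} {V : Set (Fin N → F)} (R : RS q F₀ ζ lam V)

include R

/-- two non-zero vectors have a common non-orthogonal vector in `V`. -/
theorem exists_both {u w : Fin N → F} (hu0 : u ≠ 0) (hw0 : w ≠ 0) :
    ∃ z ∈ V, H u z ≠ 0 ∧ H w z ≠ 0 := by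
  obtain ⟨z₁, hz₁, h1⟩ := R.nondeg hu0
  obtain ⟨z₂, hz₂, h2⟩ := R.nondeg hw0
  by_cases h3 : H w z₁ = 0
  · by_cases h4 : H u z₂ = 0
    · refine ⟨z₁ + z₂, R.add _ hz₁ _ hz₂, ?_, ?_⟩
      · rw [hr_add, h4, add_zero]; exact h1
      · rw [hr_add, h3, zero_add]; exact h2
    · exact ⟨z₂, hz₂, h4, h2⟩
  · exact ⟨z₁, hz₁, h1, h3⟩

/-- inside `a^⊥ ∩ V` there is a vector not orthogonal to `u`, when `a, u` are independent. -/
theorem exists_perp_ne {a u : Fin N → F} (ha : a ∈ V) (hu : u ∈ V) (hI : Indep a u) :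
    ∃ z ∈ V, H a z = 0 ∧ H u z ≠ 0 := by
  by_contra hcon
  push Not at hcon
  obtain ⟨b, hb, hab⟩ := R.exists_unit ha hI.ne_left
  have hk : ζ * H u b ∈ F₀ := R.val u hu b hb
  have hzero : u - (ζ * H u b) • a = 0 := by
    by_contra hne
    obtain ⟨y, hy, hy0⟩ := R.nondeg hne
    apply hy0
    have hc : ζ * H a y ∈ F₀ := R.val a ha y hy
    have hz : y - (ζ * H a y) • b ∈ V := R.sub hy (R.smul _ hc b hb)
    have h1 : H a (y - (ζ * H a y) • b) = 0 := by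
      rw [hr_sub, hr_smul, R.fix hc]
      linear_combination (-(H a y)) * hab
    have h2 := hcon _ hz h1
    rw [hr_sub, hr_smul, R.fix hc] at h2
    rw [hl_sub, hl_smul]
    linear_combination h2
  have := (hI (-(ζ * H u b)) 1 (by rw [neg_smul, one_smul, neg_add_eq_sub]; exact hzero)).2
  exact one_ne_zero this

/-- the three-case trick inside `a^⊥ ∩ V`. -/
theorem exists_both_perp {a u w : Fin N → F} (ha : a ∈ V) (hu : u ∈ V) (hw : w ∈ V)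
    (hIu : Indep a u) (hIw : Indep a w) :
    ∃ z ∈ V, H a z = 0 ∧ H u z ≠ 0 ∧ H w z ≠ 0 := by
  obtain ⟨z₁, hz₁, ha1, h1⟩ := R.exists_perp_ne ha hu hIu
  obtain ⟨z₂, hz₂, ha2, h2⟩ := R.exists_perp_ne ha hw hIw
  by_cases h3 : H w z₁ = 0
  · by_cases h4 : H u z₂ = 0
    · refine ⟨z₁ + z₂, R.add _ hz₁ _ hz₂, ?_, ?_, ?_⟩
      · rw [hr_add, ha1, ha2, add_zero]
      · rw [hr_add, h4, add_zero]; exact h1
      · rw [hr_add, h3, zero_add]; exact h2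
    · exact ⟨z₂, hz₂, ha2, h4, h2⟩
  · exact ⟨z₁, hz₁, ha1, h1, h3⟩

variable (Hs : Subgroup (SU N F q))
  (hV : ∀ c ∈ V, ∀ s : F, s ^ q + s = 0 → TU q c s ∈ Hs)

include hV

/-- one rational transvection moving `u` to `w` when they are not orthogonal. -/
theorem step {u w : Fin N → F} (hu : u ∈ V) (hw : w ∈ V) (hne : H u w ≠ 0) :
    ∃ t ∈ Hs, (∀ x ∈ V, mt t *ᵥ x ∈ V) ∧ mt t *ᵥ u = w ∧
      ∀ x, H x w = H x u → mt t *ᵥ x = x := by
  have hcV : w - u ∈ V := R.sub hw hu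
  have hc : H (w - u) (w - u) = 0 := R.alt _ hcV
  have hs : ((H u w)⁻¹) ^ q + (H u w)⁻¹ = 0 := by
    rw [inv_pow, R.hpow hu hw, inv_neg, neg_add_cancel]
  refine ⟨TU q (w - u) (H u w)⁻¹, hV _ hcV _ hs, ?_, ?_, ?_⟩
  · intro x hx
    rw [TU_mulVec hc hs]
    apply R.add _ hx
    apply R.smul _ _ _ hcV
    rw [inv_mul_eq_div]
    exact R.ratio_mem hx hcV hu hw
  · rw [TU_mulVec hc hs, hr_sub, R.alt u hu, sub_zero, inv_mul_cancel₀ hne, one_smul]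
    abel
  · intro x hx
    rw [TU_mulVec hc hs, hr_sub, hx, sub_self, mul_zero, zero_smul, add_zero]

/-- the rational transvections are transitive on the non-zero vectors of `V`. -/
theorem move {u w : Fin N → F} (hu : u ∈ V) (hw : w ∈ V) (hu0 : u ≠ 0) (hw0 : w ≠ 0) :
    ∃ t ∈ Hs, (∀ x ∈ V, mt t *ᵥ x ∈ V) ∧ mt t *ᵥ u = w := by
  obtain ⟨z, hz, h1, h2⟩ := R.exists_both hu0 hw0
  have h2' : H z w ≠ 0 := by
    rw [R.skew hw hz]
    exact neg_ne_zero.mpr h2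
  obtain ⟨t₁, ht₁, hv₁, e₁, -⟩ := R.step Hs hV hu hz h1
  obtain ⟨t₂, ht₂, hv₂, e₂, -⟩ := R.step Hs hV hz hw h2'
  refine ⟨t₂ * t₁, mul_mem ht₂ ht₁, fun x hx => ?_, ?_⟩
  · rw [mt_mul_mulVec]; exact hv₂ _ (hv₁ x hx)
  · rw [mt_mul_mulVec, e₁, e₂]

/-- moving `u` to `w` inside `a^⊥` while fixing `a`. -/
theorem move_fix {a u w : Fin N → F} (ha : a ∈ V) (hu : u ∈ V) (hw : w ∈ V)
    (hau : H a u = 0) (haw : H a w = 0) (hIu : Indep a u) (hIw : Indep a w) :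
    ∃ t ∈ Hs, (∀ x ∈ V, mt t *ᵥ x ∈ V) ∧ mt t *ᵥ a = a ∧ mt t *ᵥ u = w := by
  obtain ⟨z, hz, haz, h1, h2⟩ := R.exists_both_perp ha hu hw hIu hIw
  have h2' : H z w ≠ 0 := by
    rw [R.skew hw hz]
    exact neg_ne_zero.mpr h2
  obtain ⟨t₁, ht₁, hv₁, e₁, f₁⟩ := R.step Hs hV hu hz h1
  obtain ⟨t₂, ht₂, hv₂, e₂, f₂⟩ := R.step Hs hV hz hw h2'
  refine ⟨t₂ * t₁, mul_mem ht₂ ht₁, fun x hx => ?_, ?_, ?_⟩
  · rw [mt_mul_mulVec]; exact hv₂ _ (hv₁ x hx)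
  · rw [mt_mul_mulVec, f₁ a (by rw [haz, hau]), f₂ a (by rw [haw, haz])]
  · rw [mt_mul_mulVec, e₁, e₂]

omit R hV in
theorem mt_inv_mul (t : SU N F q) : mt t⁻¹ * mt t = 1 := by
  rw [← mt_mul, inv_mul_cancel, mt_one]

/-- the rational transvections are transitive on independent orthogonal pairs of `V`. -/
theorem move_pair {u₁ u₂ w₁ w₂ : Fin N → F} (hu₁ : u₁ ∈ V) (hu₂ : u₂ ∈ V) (hw₁ : w₁ ∈ V)
    (hw₂ : w₂ ∈ V) (hu : H u₁ u₂ = 0) (hw : H w₁ w₂ = 0) (hIu : Indep u₁ u₂)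
    (hIw : Indep w₁ w₂) : ∃ t ∈ Hs, mt t *ᵥ u₁ = w₁ ∧ mt t *ᵥ u₂ = w₂ := by
  obtain ⟨t₁, ht₁, hv₁, e₁⟩ := R.move Hs hV hu₁ hw₁ hIu.ne_left hIw.ne_left
  have hI' : Indep w₁ (mt t₁ *ᵥ u₂) := by
    have := hIu.map (mt t₁) (mt t₁⁻¹) (mt_inv_mul t₁)
    rwa [e₁] at this
  have h0 : H w₁ (mt t₁ *ᵥ u₂) = 0 := by rw [← e₁, herm_mt, hu]
  obtain ⟨t₂, ht₂, -, f₂, e₂⟩ := R.move_fix Hs hV hw₁ (hv₁ _ hu₂) hw₂ h0 hw hI' hIw
  refine ⟨t₂ * t₁, mul_mem ht₂ ht₁, ?_, ?_⟩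
  · rw [mt_mul_mulVec, e₁, f₂]
  · rw [mt_mul_mulVec, e₂]

/-- **Main step**: a subgroup of `SU` containing the rational transvections and an element
carrying a rational vector outside the scalar multiples of rational vectors is everything. -/
theorem top_of_extra (hN : 2 ≤ N) (h32 : ¬ (N = 3 ∧ q = 2)) {g : SU N F q} (hg : g ∈ Hs)
    {w : Fin N → F} (hw : w ∈ V) (hgw : ∀ c : F, ∀ v ∈ V, mt g *ᵥ w ≠ c • v) : Hs = ⊤ := by
  obtain ⟨u₁, h1, u₂, h2, e⟩ := R.decomp (mt g *ᵥ w)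
  have hI : Indep u₁ u₂ := by
    by_contra hcon
    obtain ⟨c, v, hv, e'⟩ := R.dep_smul h1 h2 hcon
    exact hgw c v hv (e.trans e')
  have hiso : H u₁ u₂ = 0 := by
    apply R.herm_eq_zero_of_iso h1 h2
    rw [← e, herm_mt, R.alt w hw]
  have hO : ∀ s : F, s ^ q + s = 0 → TU q (u₁ + lam • u₂) s ∈ Hs := by
    intro s hs
    rw [← e, ← conj_TU g (R.alt w hw) hs]
    exact mul_mem (mul_mem hg (hV w hw s hs)) (inv_mem hg)
  have hall : ∀ p : Fin N → F, H p p = 0 → ∀ s : F, s ^ q + s = 0 → TU q p s ∈ Hs := by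
    intro p hp s hs
    obtain ⟨w₁, hw₁, w₂, hw₂, rfl⟩ := R.decomp p
    have hww : H w₁ w₂ = 0 := R.herm_eq_zero_of_iso hw₁ hw₂ hp
    by_cases hIw : Indep w₁ w₂
    · obtain ⟨t, ht, e₁, e₂⟩ := R.move_pair Hs hV h1 h2 hw₁ hw₂ hiso hww hI hIw
      have hp0 : H (u₁ + lam • u₂) (u₁ + lam • u₂) = 0 := by
        rw [R.herm_decomp h1 h2, hiso, mul_zero]
      have := conj_TU t hp0 hs
      rw [mulVec_add, mulVec_smul, e₁, e₂] at this
      rw [← this]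
      exact mul_mem (mul_mem ht (hO s hs)) (inv_mem ht)
    · obtain ⟨c, v, hv, e'⟩ := R.dep_smul hw₁ hw₂ hIw
      rw [e', TU_smul (R.alt v hv) hs]
      exact hV v hv _ (tz_mul_fixed hs (norm_fixed c))
  rw [eq_top_iff, ← Tsub_eq_top N hN h32]
  unfold Tsub
  rw [Subgroup.closure_le]
  rintro _ ⟨p, s, hp, hs, rfl⟩
  exact hall p hp s hs

end RS

end Cfsg.Agent.Helper7.SubF
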