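import Mathlib
import Cfsg.Agent.Helper7.SubFC
import Cfsg.Prelude.Def_GeometricClasses

set_option autoImplicit false
set_option linter.unusedSectionVars false

/-! Subfield structures for the unitary form, part D: the rational points of a change of basis
`P`, and membership in the subfield group of `P` (helper7). -/

namespace Cfsg.Agent.Helper7.SubF

open Matrix Cfsg Cfsg.Agent.Helper7.Herm Cfsg.Agent.Helper8.GUOrder Cfsg.Agent.Helper8.SURoot
  Cfsg.Agent.Helper7.SUGen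

variable {F : Type*} [Field F] {N : ℕ}

/-- the rational points: the images under `P` of the vectors with entries in the subfield. -/
def V0 (F₀ : Subfield F) (P : Matrix (Fin N) (Fin N) F) : Set (Fin N → F) :=
  {w | ∃ u : Fin N → F, (∀ i, u i ∈ F₀) ∧ P *ᵥ u = w}

theorem mulVec_rat {F₀ : Subfield F} {B : Matrix (Fin N) (Fin N) F} (hB : ∀ i j, B i j ∈ F₀)
    {u : Fin N → F} (hu : ∀ i, u i ∈ F₀) (i : Fin N) : (B *ᵥ u) i ∈ F₀ := by
  unfold mulVec dotProduct
  exact F₀.sum_mem (fun j _ => F₀.mul_mem (hB i j) (hu j))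

/-- an element of the subfield group carries rational points to a fixed scalar multiple of
rational points. -/
theorem exists_of_mem_subfield {F₀ : Subfield F} {P g : GL (Fin N) F}
    (hg : g ∈ Cfsg.Geo.subfieldSubgroup F₀ P) :
    ∃ μ : F, μ ≠ 0 ∧ ∀ w ∈ V0 F₀ (P : Matrix (Fin N) (Fin N) F),
      μ • ((g : Matrix (Fin N) (Fin N) F) *ᵥ w) ∈ V0 F₀ (P : Matrix (Fin N) (Fin N) F) := by
  unfold Cfsg.Geo.subfieldSubgroup at hg
  rw [Subgroup.mem_map] at hg
  obtain ⟨x, hx, rfl⟩ := hg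
  rw [Subgroup.mem_sup_of_normal_right] at hx
  obtain ⟨y, ⟨A, rfl⟩, z, hz, rfl⟩ := hx
  rw [Cfsg.Geo.mem_scalars_iff] at hz
  obtain ⟨c, hc⟩ := hz
  refine ⟨(c : F)⁻¹, inv_ne_zero c.ne_zero, ?_⟩
  rintro _ ⟨u, hu, rfl⟩
  refine ⟨((Matrix.GeneralLinearGroup.map (F₀.subtype : F₀ →+* F) A : GL (Fin N) F) :
    Matrix (Fin N) (Fin N) F) *ᵥ u, mulVec_rat (fun i j => ?_) hu, ?_⟩
  · rw [Matrix.GeneralLinearGroup.map_apply]
    exact (A i j).2
  · simp only [MulEquiv.coe_toMonoidHom, MulAut.conj_apply, Matrix.GeneralLinearGroup.coe_mul,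
      hc, mulVec_mulVec]
    rw [mul_assoc _ (↑P⁻¹ : Matrix (Fin N) (Fin N) F), Units.inv_mul, mul_one, Matrix.mul_smul,
      mul_one, Matrix.mul_smul, smul_mulVec, smul_smul, inv_mul_cancel₀ c.ne_zero, one_smul]

/-- an element carrying rational points to a fixed scalar multiple of rational points lies in
the subfield group. -/
theorem mem_subfield_of {F₀ : Subfield F} {P g : GL (Fin N) F} {μ : F} (hμ : μ ≠ 0)
    (h : ∀ w ∈ V0 F₀ (P : Matrix (Fin N) (Fin N) F),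
      μ • ((g : Matrix (Fin N) (Fin N) F) *ᵥ w) ∈ V0 F₀ (P : Matrix (Fin N) (Fin N) F)) :
    g ∈ Cfsg.Geo.subfieldSubgroup F₀ P := by
  -- the scalar part
  obtain ⟨z, hz⟩ : ∃ z : GL (Fin N) F, z = Units.map
      (Matrix.scalar (Fin N) : F →+* Matrix (Fin N) (Fin N) F).toMonoidHom (Units.mk0 μ hμ) :=
    ⟨_, rfl⟩
  have hzs : z ∈ Cfsg.Geo.scalars (Fin N) F := by rw [hz]; exact ⟨_, rfl⟩
  have hzm : (z : Matrix (Fin N) (Fin N) F) = μ • (1 : Matrix (Fin N) (Fin N) F) := by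
    rw [hz]
    simp [Matrix.smul_one_eq_diagonal]
  -- the rational part
  obtain ⟨y, hy⟩ : ∃ y : GL (Fin N) F, y = P⁻¹ * g * P * z := ⟨_, rfl⟩
  have hym : (y : Matrix (Fin N) (Fin N) F) =
      μ • ((↑P⁻¹ : Matrix (Fin N) (Fin N) F) * (g : Matrix (Fin N) (Fin N) F) *
        (P : Matrix (Fin N) (Fin N) F)) := by
    rw [hy, Matrix.GeneralLinearGroup.coe_mul, Matrix.GeneralLinearGroup.coe_mul,
      Matrix.GeneralLinearGroup.coe_mul, hzm, Matrix.mul_smul, mul_one]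
  have hyrat : ∀ u : Fin N → F, (∀ i, u i ∈ F₀) →
      ∀ i, ((y : Matrix (Fin N) (Fin N) F) *ᵥ u) i ∈ F₀ := by
    intro u hu
    obtain ⟨u', hu', e⟩ := h _ ⟨u, hu, rfl⟩
    have : (y : Matrix (Fin N) (Fin N) F) *ᵥ u = u' := by
      rw [hym, smul_mulVec, ← mulVec_mulVec, ← mulVec_mulVec, ← mulVec_smul, ← e, mulVec_mulVec,
        Units.inv_mul, one_mulVec]
    rw [this]
    exact hu'
  have hyent : ∀ i j, (y : Matrix (Fin N) (Fin N) F) i j ∈ F₀ := by
    intro i j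
    have := hyrat (Pi.single j 1) (fun k => ?_) i
    · rwa [Matrix.mulVec_single_one] at this
    · by_cases hk : k = j
      · rw [hk, Pi.single_eq_same]; exact F₀.one_mem
      · rw [Pi.single_eq_of_ne hk]; exact F₀.zero_mem
  obtain ⟨A₀, hA₀⟩ : ∃ A₀ : Matrix (Fin N) (Fin N) F₀,
      A₀ = fun i j => ⟨(y : Matrix (Fin N) (Fin N) F) i j, hyent i j⟩ := ⟨_, rfl⟩
  have hmap : A₀.map (F₀.subtype : F₀ →+* F) = (y : Matrix (Fin N) (Fin N) F) := by
    ext i j
    rw [hA₀]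
    rfl
  have hdet : A₀.det ≠ 0 := by
    intro h0
    have h1 := RingHom.map_det (F₀.subtype : F₀ →+* F) A₀
    rw [h0, map_zero, RingHom.mapMatrix_apply, hmap] at h1
    exact Matrix.GeneralLinearGroup.det_ne_zero y h1.symm
  have hyr : y ∈ (Matrix.GeneralLinearGroup.map (F₀.subtype : F₀ →+* F) :
      GL (Fin N) F₀ →* GL (Fin N) F).range := by
    refine ⟨Matrix.GeneralLinearGroup.mkOfDetNeZero A₀ hdet, ?_⟩
    apply Matrix.GeneralLinearGroup.ext
    intro i j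
    rw [Matrix.GeneralLinearGroup.map_apply, ← hmap]
    rfl
  unfold Cfsg.Geo.subfieldSubgroup
  rw [Subgroup.mem_map]
  refine ⟨y * z⁻¹, Subgroup.mul_mem_sup hyr (inv_mem hzs), ?_⟩
  rw [hy]
  simp [MulAut.conj_apply, mul_assoc]

end Cfsg.Agent.Helper7.SubF
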