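import Mathlib
import Cfsg.Prelude.Def_GeometricClasses
import Cfsg.Agent.Helper7.SLMaxA
import Cfsg.Agent.Helper7.SubFD

set_option autoImplicit false
set_option linter.unusedSectionVars false

/-! Subfield subgroups of the special linear group, part A: rational vectors, rational
transvections, and elements outside the subfield group move some rational point to an
irrational point (helper7). -/

namespace Cfsg.Agent.Helper7.SubL

open Matrix Cfsg Cfsg.Geo Cfsg.Agent.Helper7.TGL Cfsg.Agent.Helper7.SLMax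

variable {F : Type*} [Field F] {n : ℕ}

/-- rational vectors: all entries in the subfield. -/
def Rat (F₀ : Subfield F) (v : Fin n → F) : Prop := ∀ i, v i ∈ F₀

/-- projectively rational vectors. -/
def PRat (F₀ : Subfield F) (v : Fin n → F) : Prop := ∃ μ : F, μ ≠ 0 ∧ Rat F₀ (μ • v)

variable {F₀ : Subfield F}

theorem Rat.zero : Rat F₀ (0 : Fin n → F) := fun _ => F₀.zero_mem

theorem Rat.add {v w : Fin n → F} (hv : Rat F₀ v) (hw : Rat F₀ w) : Rat F₀ (v + w) :=
  fun i => F₀.add_mem (hv i) (hw i)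

theorem Rat.neg {v : Fin n → F} (hv : Rat F₀ v) : Rat F₀ (-v) := fun i => F₀.neg_mem (hv i)

theorem Rat.sub {v w : Fin n → F} (hv : Rat F₀ v) (hw : Rat F₀ w) : Rat F₀ (v - w) :=
  fun i => F₀.sub_mem (hv i) (hw i)

theorem Rat.smul {a : F} (ha : a ∈ F₀) {v : Fin n → F} (hv : Rat F₀ v) : Rat F₀ (a • v) :=
  fun i => F₀.mul_mem ha (hv i)

theorem Rat.single (i : Fin n) {a : F} (ha : a ∈ F₀) : Rat F₀ (Pi.single i a) := by
  intro k
  by_cases hk : k = i
  · rw [hk, Pi.single_eq_same]; exact ha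
  · rw [Pi.single_eq_of_ne hk]; exact F₀.zero_mem

theorem Rat.dot {φ v : Fin n → F} (hφ : Rat F₀ φ) (hv : Rat F₀ v) : φ ⬝ᵥ v ∈ F₀ := by
  unfold dotProduct
  exact F₀.sum_mem (fun i _ => F₀.mul_mem (hφ i) (hv i))

theorem Rat.pRat {v : Fin n → F} (hv : Rat F₀ v) : PRat F₀ v :=
  ⟨1, one_ne_zero, by rwa [one_smul]⟩

theorem PRat.smul {v : Fin n → F} (hv : PRat F₀ v) {a : F} (ha : a ≠ 0) : PRat F₀ (a • v) := by
  obtain ⟨μ, hμ, h⟩ := hv
  refine ⟨μ * a⁻¹, mul_ne_zero hμ (inv_ne_zero ha), ?_⟩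
  rw [smul_smul, mul_assoc, inv_mul_cancel₀ ha, mul_one]
  exact h

theorem not_pRat_smul {v : Fin n → F} (hv : ¬ PRat F₀ v) {a : F} (ha : a ≠ 0) :
    ¬ PRat F₀ (a • v) := by
  intro h
  apply hv
  have := h.smul (inv_ne_zero ha)
  rwa [smul_smul, inv_mul_cancel₀ ha, one_smul] at this

theorem ne_zero_of_not_pRat {v : Fin n → F} (hv : ¬ PRat F₀ v) : v ≠ 0 := by
  rintro rfl
  exact hv Rat.zero.pRat

/-- the rational points of the identity change of basis are the rational vectors. -/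
theorem mem_V0_one (w : Fin n → F) :
    w ∈ Cfsg.Agent.Helper7.SubF.V0 F₀ ((1 : GL (Fin n) F) : Matrix (Fin n) (Fin n) F) ↔
      Rat F₀ w := by
  unfold Cfsg.Agent.Helper7.SubF.V0
  constructor
  · rintro ⟨u, hu, rfl⟩
    rw [Units.val_one, one_mulVec]
    exact hu
  · intro h
    exact ⟨w, h, by rw [Units.val_one, one_mulVec]⟩

/-- a rational transvection lies in the subfield group and in the special linear group. -/
theorem tau_mem_sub {w χ : Fin n → F} (hw : Rat F₀ w) (hχ : Rat F₀ χ) (h : χ ⬝ᵥ w = 0) :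
    tau w χ h ∈ Cfsg.Geo.subfieldSubgroup F₀ (1 : GL (Fin n) F) ⊓
      Cfsg.Geo.specialLinear (Fin n) F := by
  refine ⟨?_, tau_mem_specialLinear w χ h⟩
  apply Cfsg.Agent.Helper7.SubF.mem_subfield_of (μ := 1) one_ne_zero
  intro x hx
  rw [mem_V0_one] at hx ⊢
  rw [one_smul, tau_mulVec]
  exact hx.add (Rat.smul (hχ.dot hx) hw)

/-- two rational independent vectors: a combination is rational only if the coefficients
are. -/
theorem coef_mem {r r' : Fin n → F} (hr : Rat F₀ r) (hr' : Rat F₀ r')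
    (hI : ∀ a b : F, a • r + b • r' = 0 → a = 0 ∧ b = 0) {α β : F}
    (h : Rat F₀ (α • r + β • r')) : α ∈ F₀ ∧ β ∈ F₀ := by
  obtain ⟨k, l, hd⟩ : ∃ k l, r k * r' l - r l * r' k ≠ 0 := by
    by_contra hcon
    push Not at hcon
    have hr0 : r ≠ 0 := by
      rintro rfl
      have := (hI 1 0 (by simp)).1
      exact one_ne_zero this
    obtain ⟨k, hk⟩ : ∃ k, r k ≠ 0 := by
      by_contra h0
      push Not at h0
      exact hr0 (funext h0)
    have := (hI (r' k) (-(r k)) (by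
      funext l
      have := hcon k l
      simp only [Pi.add_apply, Pi.smul_apply, smul_eq_mul, Pi.zero_apply]
      linear_combination -this)).2
    exact hk (by linear_combination -this)
  have hdm : r k * r' l - r l * r' k ∈ F₀ :=
    F₀.sub_mem (F₀.mul_mem (hr k) (hr' l)) (F₀.mul_mem (hr l) (hr' k))
  have hk := h k
  have hl := h l
  simp only [Pi.add_apply, Pi.smul_apply, smul_eq_mul] at hk hl
  constructor
  · have e : α = ((α * r k + β * r' k) * r' l - (α * r l + β * r' l) * r' k) *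
        (r k * r' l - r l * r' k)⁻¹ := by
      rw [eq_mul_inv_iff_mul_eq₀ hd]
      ring
    rw [e]
    exact F₀.mul_mem (F₀.sub_mem (F₀.mul_mem hk (hr' l)) (F₀.mul_mem hl (hr' k)))
      (F₀.inv_mem hdm)
  · have e : β = ((α * r l + β * r' l) * r k - (α * r k + β * r' k) * r l) *
        (r k * r' l - r l * r' k)⁻¹ := by
      rw [eq_mul_inv_iff_mul_eq₀ hd]
      ring
    rw [e]
    exact F₀.mul_mem (F₀.sub_mem (F₀.mul_mem hl (hr k)) (F₀.mul_mem hk (hr l)))
      (F₀.inv_mem hdm)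

/-- an element outside the subfield group moves some rational point to an irrational point. -/
theorem exists_irr (hn : 2 ≤ n) {g : GL (Fin n) F}
    (hg : g ∉ Cfsg.Geo.subfieldSubgroup F₀ (1 : GL (Fin n) F)) :
    ∃ v : Fin n → F, Rat F₀ v ∧ v ≠ 0 ∧ ¬ PRat F₀ ((g : Matrix (Fin n) (Fin n) F) *ᵥ v) := by
  by_contra hcon
  push Not at hcon
  apply hg
  have hsingle : ∀ j : Fin n, (Pi.single j (1 : F) : Fin n → F) ≠ 0 := by
    intro j h
    have := congrFun h j
    rw [Pi.single_eq_same, Pi.zero_apply] at this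
    exact one_ne_zero this
  have hrat1 : ∀ j : Fin n, Rat F₀ (Pi.single j (1 : F) : Fin n → F) :=
    fun j => Rat.single j F₀.one_mem
  have hP : ∀ j : Fin n, PRat F₀ ((g : Matrix (Fin n) (Fin n) F) *ᵥ Pi.single j 1) :=
    fun j => hcon _ (hrat1 j) (hsingle j)
  choose μ hμ0 hμ using hP
  obtain ⟨i0⟩ : Nonempty (Fin n) := ⟨⟨0, by omega⟩⟩
  have hginj : ∀ x : Fin n → F, (g : Matrix (Fin n) (Fin n) F) *ᵥ x = 0 → x = 0 := by
    intro x hx
    have := gl_inv_mulVec g x
    rw [hx, mulVec_zero] at this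
    exact this.symm
  -- all the scalars agree up to the subfield
  have hratio : ∀ j : Fin n, μ i0 * (μ j)⁻¹ ∈ F₀ := by
    intro j
    by_cases hj : j = i0
    · rw [hj, mul_inv_cancel₀ (hμ0 i0)]; exact F₀.one_mem
    have hsum0 : (Pi.single i0 (1 : F) + Pi.single j (1 : F) : Fin n → F) ≠ 0 := by
      intro h
      have := congrFun h i0
      rw [Pi.add_apply, Pi.single_eq_same, Pi.single_eq_of_ne (Ne.symm hj), add_zero,
        Pi.zero_apply] at this
      exact one_ne_zero this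
    obtain ⟨ν, hν0, hν⟩ := hcon _ ((hrat1 i0).add (hrat1 j)) hsum0
    have hI : ∀ a b : F, a • (μ i0 • ((g : Matrix (Fin n) (Fin n) F) *ᵥ Pi.single i0 1)) +
        b • (μ j • ((g : Matrix (Fin n) (Fin n) F) *ᵥ Pi.single j 1)) = 0 → a = 0 ∧ b = 0 := by
      intro a b hab
      have h1 : (g : Matrix (Fin n) (Fin n) F) *ᵥ
          ((a * μ i0) • Pi.single i0 (1 : F) + (b * μ j) • Pi.single j (1 : F)) = 0 := by
        rw [mulVec_add, mulVec_smul, mulVec_smul, ← hab, smul_smul, smul_smul]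
      have h2 := hginj _ h1
      have e1 := congrFun h2 i0
      have e2 := congrFun h2 j
      simp only [Pi.add_apply, Pi.smul_apply, Pi.single_eq_same, smul_eq_mul, mul_one,
        Pi.single_eq_of_ne (Ne.symm hj), Pi.single_eq_of_ne hj, mul_zero, add_zero, zero_add,
        Pi.zero_apply] at e1 e2
      exact ⟨(mul_eq_zero.1 e1).resolve_right (hμ0 i0), (mul_eq_zero.1 e2).resolve_right (hμ0 j)⟩
    have hcomb : ν • ((g : Matrix (Fin n) (Fin n) F) *ᵥ
        (Pi.single i0 (1 : F) + Pi.single j (1 : F))) =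
        (ν * (μ i0)⁻¹) • (μ i0 • ((g : Matrix (Fin n) (Fin n) F) *ᵥ Pi.single i0 1)) +
        (ν * (μ j)⁻¹) • (μ j • ((g : Matrix (Fin n) (Fin n) F) *ᵥ Pi.single j 1)) := by
      rw [mulVec_add, smul_add, smul_smul, smul_smul, mul_assoc, mul_assoc,
        inv_mul_cancel₀ (hμ0 i0), inv_mul_cancel₀ (hμ0 j), mul_one]
    rw [hcomb] at hν
    obtain ⟨h1, h2⟩ := coef_mem (hμ i0) (hμ j) hI hν
    have e : μ i0 * (μ j)⁻¹ = (ν * (μ j)⁻¹) * (ν * (μ i0)⁻¹)⁻¹ := by
      field_simp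
    rw [e]
    exact F₀.mul_mem h2 (F₀.inv_mem h1)
  have hcol : ∀ j : Fin n, Rat F₀ (μ i0 • ((g : Matrix (Fin n) (Fin n) F) *ᵥ Pi.single j 1)) := by
    intro j
    have e : μ i0 • ((g : Matrix (Fin n) (Fin n) F) *ᵥ Pi.single j 1) =
        (μ i0 * (μ j)⁻¹) • (μ j • ((g : Matrix (Fin n) (Fin n) F) *ᵥ Pi.single j 1)) := by
      rw [smul_smul, mul_assoc, inv_mul_cancel₀ (hμ0 j), mul_one]
    rw [e]
    exact Rat.smul (hratio j) (hμ j)
  have hent : ∀ i j : Fin n, μ i0 * (g : Matrix (Fin n) (Fin n) F) i j ∈ F₀ := by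
    intro i j
    have := hcol j i
    rwa [Pi.smul_apply, mulVec_single_one, smul_eq_mul] at this
  apply Cfsg.Agent.Helper7.SubF.mem_subfield_of (μ := μ i0) (hμ0 i0)
  intro w hw
  rw [mem_V0_one] at hw ⊢
  intro i
  rw [Pi.smul_apply, smul_eq_mul]
  unfold mulVec dotProduct
  rw [Finset.mul_sum]
  refine F₀.sum_mem (fun j _ => ?_)
  rw [← mul_assoc]
  exact F₀.mul_mem (hent i j) (hw j)

end Cfsg.Agent.Helper7.SubL
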