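import Mathlib
import Cfsg.Agent.Helper7.SubLA

set_option autoImplicit false
set_option linter.unusedSectionVars false

/-! Subfield subgroups of the special linear group, part B: elementary transvections and the
field of parameters (helper7). -/

namespace Cfsg.Agent.Helper7.SubL

open Matrix Cfsg Cfsg.Geo Cfsg.Agent.Helper7.TGL Cfsg.Agent.Helper7.SLMax

variable {F : Type*} [Field F] {n : ℕ}

/-! ### More transvection calculus -/

theorem tau_congr {v v' φ φ' : Fin n → F} (hv : v = v') (hφ : φ = φ') (h : φ ⬝ᵥ v = 0) :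
    tau v φ h = tau v' φ' (by rw [← hv, ← hφ]; exact h) := by
  subst hv hφ
  rfl

/-- the product of two transvections with the same axis. -/
theorem tau_add_left (a b φ : Fin n → F) (h : φ ⬝ᵥ a = 0) (h' : φ ⬝ᵥ b = 0) :
    tau a φ h * tau b φ h' = tau (a + b) φ (by rw [dotProduct_add, h, h', add_zero]) := by
  apply gl_ext
  intro x
  rw [gl_mul_mulVec, tau_mulVec, tau_mulVec, tau_mulVec, dotProduct_add, dotProduct_smul, h',
    smul_zero, add_zero, smul_add]
  abel

theorem tau_smul_comm (c : F) (v φ : Fin n → F) (h : φ ⬝ᵥ v = 0) :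
    tau (c • v) φ (by rw [dotProduct_smul, h, smul_zero]) =
      tau v (c • φ) (by rw [smul_dotProduct, h, smul_zero]) := by
  apply gl_ext
  intro x
  rw [tau_mulVec, tau_mulVec, smul_dotProduct, smul_smul, smul_eq_mul, mul_comm]

theorem tau_zero_left (φ : Fin n → F) : tau (0 : Fin n → F) φ (dotProduct_zero φ) = 1 := by
  apply gl_ext
  intro x
  rw [tau_mulVec, smul_zero, add_zero, Units.val_one, one_mulVec]

/-- the inverse of a transvection, negating the centre. -/
theorem tau_inv' (a φ : Fin n → F) (h : φ ⬝ᵥ a = 0) :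
    (tau a φ h)⁻¹ = tau (-a) φ (by rw [dotProduct_neg, h, neg_zero]) := by
  rw [tau_inv]
  apply gl_ext
  intro x
  rw [tau_mulVec, tau_mulVec, neg_dotProduct, neg_smul, smul_neg]

/-! ### Elementary transvections -/

theorem single_dot_single {i j : Fin n} (h : i ≠ j) (c : F) :
    (Pi.single j (1 : F) : Fin n → F) ⬝ᵥ (Pi.single i c) = 0 := by
  rw [single_dotProduct, one_mul, Pi.single_eq_of_ne (Ne.symm h)]

/-- the elementary transvection `1 + c E_{ij}`. -/
def el (i j : Fin n) (h : i ≠ j) (c : F) : GL (Fin n) F :=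
  tau (Pi.single i c) (Pi.single j 1) (single_dot_single h c)

theorem el_mulVec (i j : Fin n) (h : i ≠ j) (c : F) (x : Fin n → F) :
    (el i j h c : Matrix (Fin n) (Fin n) F) *ᵥ x = x + Pi.single i (x j * c) := by
  unfold el
  rw [tau_mulVec, single_dotProduct, one_mul]
  congr 1
  funext k
  by_cases hk : k = i
  · rw [hk, Pi.smul_apply, Pi.single_eq_same, Pi.single_eq_same, smul_eq_mul]
  · rw [Pi.smul_apply, Pi.single_eq_of_ne hk, Pi.single_eq_of_ne hk, smul_zero]

theorem el_zero (i j : Fin n) (h : i ≠ j) : el i j h (0 : F) = 1 := by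
  apply gl_ext
  intro x
  rw [el_mulVec, mul_zero, Pi.single_zero, add_zero, Units.val_one, one_mulVec]

theorem el_mul (i j : Fin n) (h : i ≠ j) (c d : F) :
    el i j h c * el i j h d = el i j h (c + d) := by
  apply gl_ext
  intro x
  rw [gl_mul_mulVec, el_mulVec, el_mulVec, el_mulVec, Pi.add_apply, Pi.single_eq_of_ne (Ne.symm h),
    add_zero, mul_add, Pi.single_add]
  abel

theorem el_inv (i j : Fin n) (h : i ≠ j) (c : F) : (el i j h c)⁻¹ = el i j h (-c) := by
  apply inv_eq_of_mul_eq_one_right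
  rw [el_mul, add_neg_cancel, el_zero]

/-- the commutator relation between elementary transvections. -/
theorem el_comm {i j k : Fin n} (hij : i ≠ j) (hjk : j ≠ k) (hik : i ≠ k) (c d : F) :
    el i j hij c * el j k hjk d * (el i j hij c)⁻¹ * (el j k hjk d)⁻¹ = el i k hik (c * d) := by
  rw [el_inv, el_inv]
  apply gl_ext
  intro x
  simp only [gl_mul_mulVec, el_mulVec, Pi.add_apply, Pi.single_eq_of_ne (Ne.symm hij),
    Pi.single_eq_of_ne (Ne.symm hjk), Pi.single_eq_of_ne (Ne.symm hik), Pi.single_eq_of_ne hjk,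
    Pi.single_eq_of_ne hij, Pi.single_eq_of_ne hik, Pi.single_eq_same, add_zero]
  funext l
  by_cases hli : l = i
  · subst hli
    simp only [Pi.add_apply, Pi.single_eq_same, Pi.single_eq_of_ne hij]
    ring
  · by_cases hlj : l = j
    · subst hlj
      simp only [Pi.add_apply, Pi.single_eq_same, Pi.single_eq_of_ne hli]
      ring
    · simp only [Pi.add_apply, Pi.single_eq_of_ne hli, Pi.single_eq_of_ne hlj, add_zero]

/-! ### The parameters of a subgroup containing the rational transvections -/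

variable {F₀ : Subfield F} {M : Subgroup (GL (Fin n) F)}

theorem el_mem_of_rat
    (hM : Cfsg.Geo.subfieldSubgroup F₀ (1 : GL (Fin n) F) ⊓ Cfsg.Geo.specialLinear (Fin n) F ≤ M)
    (i j : Fin n) (h : i ≠ j) {c : F} (hc : c ∈ F₀) : el i j h c ∈ M :=
  hM (tau_mem_sub (Rat.single i hc) (Rat.single j F₀.one_mem) _)

theorem el_move_right
    (hM : Cfsg.Geo.subfieldSubgroup F₀ (1 : GL (Fin n) F) ⊓ Cfsg.Geo.specialLinear (Fin n) F ≤ M)
    {i j k : Fin n} (hij : i ≠ j) (hjk : j ≠ k) (hik : i ≠ k) {c : F} (h : el i j hij c ∈ M) :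
    el i k hik c ∈ M := by
  have h1 := el_comm hij hjk hik c 1
  rw [mul_one] at h1
  rw [← h1]
  have h2 := el_mem_of_rat hM j k hjk F₀.one_mem
  exact M.mul_mem (M.mul_mem (M.mul_mem h h2) (M.inv_mem h)) (M.inv_mem h2)

theorem el_move_left
    (hM : Cfsg.Geo.subfieldSubgroup F₀ (1 : GL (Fin n) F) ⊓ Cfsg.Geo.specialLinear (Fin n) F ≤ M)
    {k i j : Fin n} (hki : k ≠ i) (hij : i ≠ j) (hkj : k ≠ j) {c : F} (h : el i j hij c ∈ M) :
    el k j hkj c ∈ M := by
  have h1 := el_comm hki hij hkj 1 c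
  rw [one_mul] at h1
  rw [← h1]
  have h2 := el_mem_of_rat hM k i hki F₀.one_mem
  exact M.mul_mem (M.mul_mem (M.mul_mem h2 h) (M.inv_mem h2)) (M.inv_mem h)

theorem exists_ne_ne (hn : 3 ≤ n) (a b : Fin n) : ∃ m : Fin n, m ≠ a ∧ m ≠ b := by
  by_contra hcon
  push Not at hcon
  have hsub : (Finset.univ : Finset (Fin n)) ⊆ {a, b} := by
    intro m _
    by_cases hm : m = a
    · rw [hm]; simp
    · rw [hcon m hm]; simp
  have := Finset.card_le_card hsub
  rw [Finset.card_univ, Fintype.card_fin] at this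
  have h2 : ({a, b} : Finset (Fin n)).card ≤ 2 := Finset.card_le_two
  omega

/-- all positions carry the same parameters. -/
theorem el_any (hn : 3 ≤ n)
    (hM : Cfsg.Geo.subfieldSubgroup F₀ (1 : GL (Fin n) F) ⊓ Cfsg.Geo.specialLinear (Fin n) F ≤ M)
    {i j : Fin n} (hij : i ≠ j) {c : F} (h : el i j hij c ∈ M) (k l : Fin n) (hkl : k ≠ l) :
    el k l hkl c ∈ M := by
  by_cases hli : l = i
  · subst hli
    by_cases hkj : k = j
    · subst hkj
      obtain ⟨m, hml, hmk⟩ := exists_ne_ne hn l k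
      have h1 : el m k hmk c ∈ M := el_move_left hM hml hij hmk h
      have h2 : el m l hml c ∈ M := el_move_right hM hmk hkl hml h1
      exact el_move_left hM (Ne.symm hmk) hml hkl h2
    · have h1 : el k j hkj c ∈ M := el_move_left hM hkl hij hkj h
      exact el_move_right hM hkj (Ne.symm hij) hkl h1
  · by_cases hlj : l = j
    · subst hlj
      by_cases hki : k = i
      · subst hki; exact h
      · exact el_move_left hM hki hij hkl h
    · have h1 : el i l (Ne.symm hli) c ∈ M := el_move_right hM hij (Ne.symm hlj) (Ne.symm hli) h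
      by_cases hki : k = i
      · subst hki; exact h1
      · exact el_move_left hM hki (Ne.symm hli) hkl h1

/-- the parameters of `M`. -/
def Cc (M : Subgroup (GL (Fin n) F)) : Set F := {c | ∀ (i j : Fin n) (h : i ≠ j), el i j h c ∈ M}

theorem mem_Cc_of_el (hn : 3 ≤ n)
    (hM : Cfsg.Geo.subfieldSubgroup F₀ (1 : GL (Fin n) F) ⊓ Cfsg.Geo.specialLinear (Fin n) F ≤ M)
    {i j : Fin n} (hij : i ≠ j) {c : F} (h : el i j hij c ∈ M) : c ∈ Cc M :=
  fun k l hkl => el_any hn hM hij h k l hkl

theorem rat_mem_Cc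
    (hM : Cfsg.Geo.subfieldSubgroup F₀ (1 : GL (Fin n) F) ⊓ Cfsg.Geo.specialLinear (Fin n) F ≤ M)
    {c : F} (hc : c ∈ F₀) : c ∈ Cc M :=
  fun i j h => el_mem_of_rat hM i j h hc

theorem Cc_add {c d : F} (hc : c ∈ Cc M) (hd : d ∈ Cc M) : c + d ∈ Cc M := by
  intro i j h
  rw [← el_mul]
  exact M.mul_mem (hc i j h) (hd i j h)

theorem Cc_neg {c : F} (hc : c ∈ Cc M) : -c ∈ Cc M := by
  intro i j h
  rw [← el_inv]
  exact M.inv_mem (hc i j h)

theorem Cc_mul (hn : 3 ≤ n) {c d : F} (hc : c ∈ Cc M) (hd : d ∈ Cc M) : c * d ∈ Cc M := by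
  intro i j h
  obtain ⟨m, hmi, hmj⟩ := exists_ne_ne hn i j
  rw [← el_comm (Ne.symm hmi) hmj h c d]
  have h1 := hc i m (Ne.symm hmi)
  have h2 := hd m j hmj
  exact M.mul_mem (M.mul_mem (M.mul_mem h1 h2) (M.inv_mem h1)) (M.inv_mem h2)

/-- the parameters form a subfield. -/
def CcField [Fintype F] (hn : 3 ≤ n)
    (hM : Cfsg.Geo.subfieldSubgroup F₀ (1 : GL (Fin n) F) ⊓ Cfsg.Geo.specialLinear (Fin n) F ≤ M) :
    Subfield F where
  carrier := Cc M
  mul_mem' := fun ha hb => Cc_mul hn ha hb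
  one_mem' := rat_mem_Cc hM F₀.one_mem
  add_mem' := fun ha hb => Cc_add ha hb
  zero_mem' := rat_mem_Cc hM F₀.zero_mem
  neg_mem' := fun ha => Cc_neg ha
  inv_mem' := by
    intro x hx
    by_cases hx0 : x = 0
    · rw [hx0, _root_.inv_zero]; exact rat_mem_Cc hM F₀.zero_mem
    · have hpow : ∀ k : ℕ, x ^ k ∈ Cc M := by
        intro k
        induction k with
        | zero => rw [pow_zero]; exact rat_mem_Cc hM F₀.one_mem
        | succ k ih => rw [pow_succ]; exact Cc_mul hn ih hx
      have h2 : 2 ≤ Fintype.card F := Fintype.one_lt_card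
      have h3 : x ^ (Fintype.card F - 1) = 1 := FiniteField.pow_card_sub_one_eq_one x hx0
      have h4 : x⁻¹ = x ^ (Fintype.card F - 2) := by
        apply inv_eq_of_mul_eq_one_right
        rw [← pow_succ']
        have : Fintype.card F - 2 + 1 = Fintype.card F - 1 := by omega
        rw [this, h3]
      show x⁻¹ ∈ Cc M
      rw [h4]; exact hpow _

/-- between a subfield and an extension of prime degree there is no intermediate field. -/
theorem subfield_eq_or_top [Fintype F] {F₀ K : Subfield F} {r : ℕ} (hr : r.Prime)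
    (hcard : Fintype.card F = Nat.card F₀ ^ r) (hle : F₀ ≤ K) : K = F₀ ∨ K = ⊤ := by
  have h1 : Nat.card F = Nat.card F₀ ^ Module.finrank F₀ F := Module.natCard_eq_pow_finrank
  have h2 : 2 ≤ Nat.card F₀ := by
    have : 1 < Nat.card F₀ := Finite.one_lt_card
    omega
  have h3 : Module.finrank F₀ F = r := by
    rw [Nat.card_eq_fintype_card, hcard] at h1
    exact (Nat.pow_right_injective h2 h1).symm
  have h4 := Subfield.relfinrank_mul_finrank_top (E := F) hle
  rw [h3] at h4
  rcases (Nat.dvd_prime hr).1 ⟨_, h4.symm⟩ with h5 | h5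
  · left
    exact le_antisymm (Subfield.relfinrank_eq_one_iff.1 h5) hle
  · right
    rw [h5] at h4
    have h6 : Module.finrank K F = 1 := by
      have hr0 : 0 < r := hr.pos
      nlinarith
    rw [eq_top_iff]
    intro x _
    obtain ⟨c, hc⟩ := (finrank_eq_one_iff_of_nonzero' (1 : F) one_ne_zero).1 h6 x
    rw [← hc]
    have : c • (1 : F) = (c : F) := by
      rw [Subfield.smul_def, smul_eq_mul, mul_one]
    rw [this]
    exact c.2

end Cfsg.Agent.Helper7.SubL
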