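import Mathlib
import Cfsg.Agent.Lead.DicksonA

set_option autoImplicit false
set_option linter.unusedSectionVars false

/-! Subfield subgroups of the special linear group, part F: in characteristic two, two
involutions `uu a`, `ll b` are conjugate in the dihedral group they generate; consequently the
parameters of the upper unitriangular elements of a subgroup of `SL₂` form a line over a
subfield (helper7). -/

namespace Cfsg.Agent.Helper7.SubL

open Matrix Cfsg.Agent.Lead.DicksonA
open scoped MatrixGroups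

variable {F : Type*} [Field F]

theorem sl2_det (g : SL(2, F)) : g.1 0 0 * g.1 1 1 - g.1 0 1 * g.1 1 0 = 1 := by
  have := g.2
  rwa [Matrix.det_fin_two] at this

/-- conjugation is linear in the parameter: from upper to lower. -/
theorem conj_uu_of_conj {g : SL(2, F)} {a b : F} (ha : a ≠ 0) (h : g * uu a * g⁻¹ = ll b)
    (a' : F) : g * uu a' * g⁻¹ = ll (b * a' / a) := by
  have hdet := sl2_det g
  have h01 := congrArg (fun m : SL(2, F) => m.1 0 1) h
  have h10 := congrArg (fun m : SL(2, F) => m.1 1 0) h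
  simp only [mul_00, mul_01, mul_10, mul_11, inv_00, inv_01, inv_10, inv_11, uu_00, uu_01, uu_10,
    uu_11, ll_01, ll_10] at h01 h10
  have hp : g.1 0 0 = 0 := by
    have h1 : a * (g.1 0 0) ^ 2 = 0 := by linear_combination h01
    exact pow_eq_zero_iff (two_ne_zero) |>.1 ((mul_eq_zero.1 h1).resolve_left ha)
  have hr : -(a * (g.1 1 0) ^ 2) = b := by linear_combination h10
  apply ext4
  · simp only [mul_00, mul_01, mul_10, mul_11, inv_00, inv_01, inv_10, inv_11, uu_00, uu_01,
      uu_10, uu_11, ll_00]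
    rw [hp] at hdet ⊢
    linear_combination hdet
  · simp only [mul_00, mul_01, mul_10, mul_11, inv_00, inv_01, inv_10, inv_11, uu_00, uu_01,
      uu_10, uu_11, ll_01]
    rw [hp]
    ring
  · simp only [mul_00, mul_01, mul_10, mul_11, inv_00, inv_01, inv_10, inv_11, uu_00, uu_01,
      uu_10, uu_11, ll_10]
    rw [← hr]
    field_simp
    ring
  · simp only [mul_00, mul_01, mul_10, mul_11, inv_00, inv_01, inv_10, inv_11, uu_00, uu_01,
      uu_10, uu_11, ll_11]
    rw [hp] at hdet ⊢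
    linear_combination hdet

/-- conjugation is linear in the parameter: from lower to upper. -/
theorem conj_ll_of_conj {g : SL(2, F)} {a b : F} (hb : b ≠ 0) (h : g * uu a * g⁻¹ = ll b)
    (b' : F) : g⁻¹ * ll b' * g = uu (a * b' / b) := by
  have hdet := sl2_det g
  have h01 := congrArg (fun m : SL(2, F) => m.1 0 1) h
  have h10 := congrArg (fun m : SL(2, F) => m.1 1 0) h
  simp only [mul_00, mul_01, mul_10, mul_11, inv_00, inv_01, inv_10, inv_11, uu_00, uu_01, uu_10,
    uu_11, ll_01, ll_10] at h01 h10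
  have hr : -(a * (g.1 1 0) ^ 2) = b := by linear_combination h10
  have ha : a ≠ 0 := by
    rintro rfl
    apply hb
    rw [← hr]; ring
  have hp : g.1 0 0 = 0 := by
    have h1 : a * (g.1 0 0) ^ 2 = 0 := by linear_combination h01
    exact pow_eq_zero_iff (two_ne_zero) |>.1 ((mul_eq_zero.1 h1).resolve_left ha)
  rw [hp] at hdet
  have hqr : g.1 0 1 * g.1 1 0 = -1 := by linear_combination -hdet
  have hr0 : g.1 1 0 ≠ 0 := by
    intro h0
    rw [h0, mul_zero] at hqr
    exact one_ne_zero (neg_eq_zero.1 hqr.symm)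
  apply ext4
  · simp only [mul_00, mul_01, mul_10, mul_11, inv_00, inv_01, inv_10, inv_11, ll_00, ll_01,
      ll_10, ll_11, uu_00]
    rw [hp]
    linear_combination -hqr
  · simp only [mul_00, mul_01, mul_10, mul_11, inv_00, inv_01, inv_10, inv_11, ll_00, ll_01,
      ll_10, ll_11, uu_01]
    have hq : g.1 0 1 = -(g.1 1 0)⁻¹ := by
      field_simp
      linear_combination hqr
    rw [← hr, hq]
    field_simp
    ring
  · simp only [mul_00, mul_01, mul_10, mul_11, inv_00, inv_01, inv_10, inv_11, ll_00, ll_01,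
      ll_10, ll_11, uu_10]
    rw [hp]
    ring
  · simp only [mul_00, mul_01, mul_10, mul_11, inv_00, inv_01, inv_10, inv_11, ll_00, ll_01,
      ll_10, ll_11, uu_11]
    rw [hp]
    linear_combination -hqr

/-- in characteristic two, `uu a` is conjugate to `ll b` by a power of their product. -/
theorem exists_conj_char_two [Fintype F] (h2 : (2 : F) = 0) {a b : F} (ha : a ≠ 0)
    (hb : b ≠ 0) :
    ∃ k : ℕ, (uu a * ll b) ^ k * uu a * ((uu a * ll b) ^ k)⁻¹ = ll b := by
  haveI : Finite SL(2, F) := Subtype.finite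
  have hss : uu a * uu a = 1 := by
    rw [uu_mul, ← two_mul, h2, zero_mul, uu_zero]
  have htt : ll b * ll b = 1 := by
    rw [ll_mul, ← two_mul, h2, zero_mul, ll_zero]
  have hsinv : (uu a)⁻¹ = uu a := inv_eq_of_mul_eq_one_right hss
  have htinv : (ll b)⁻¹ = ll b := inv_eq_of_mul_eq_one_right htt
  obtain ⟨ρ, hρ⟩ : ∃ ρ : SL(2, F), ρ = uu a * ll b := ⟨_, rfl⟩
  have hρinv : ρ⁻¹ = ll b * uu a := by rw [hρ, _root_.mul_inv_rev, hsinv, htinv]
  have e00 : ρ.1 0 0 = 1 + a * b := by rw [hρ]; simp [mul_00]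
  have e01 : ρ.1 0 1 = a := by rw [hρ]; simp [mul_01]
  have e10 : ρ.1 1 0 = b := by rw [hρ]; simp [mul_10]
  have e11 : ρ.1 1 1 = 1 := by rw [hρ]; simp [mul_11]
  -- powers of `ρ` are combinations of `1` and `ρ`
  have hlin : ∀ i : ℕ, ∃ x y : F, (ρ ^ i).1 0 0 = x + y * (1 + a * b) ∧ (ρ ^ i).1 0 1 = y * a ∧
      (ρ ^ i).1 1 0 = y * b ∧ (ρ ^ i).1 1 1 = x + y := by
    intro i
    induction i with
    | zero => exact ⟨1, 0, by simp, by simp, by simp, by simp⟩
    | succ i ih =>
      obtain ⟨x, y, h00, h01, h10, h11⟩ := ih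
      refine ⟨y, x + a * b * y, ?_, ?_, ?_, ?_⟩
      · rw [pow_succ, mul_00, h00, h01, e00, e10]
        linear_combination (a * b * y) * h2
      · rw [pow_succ, mul_01, h00, h01, e01, e11]
        linear_combination (a * y) * h2
      · rw [pow_succ, mul_10, h10, h11, e00, e10]
        linear_combination (b * y) * h2
      · rw [pow_succ, mul_11, h10, h11, e01, e11]
        ring
  -- the order of `ρ` is odd
  have hodd : Odd (orderOf ρ) := by
    by_contra hne
    rw [Nat.not_odd_iff_even] at hne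
    obtain ⟨j, hj⟩ := hne
    have hpos : 0 < orderOf ρ := orderOf_pos ρ
    have hj0 : j ≠ 0 := by omega
    have hι1 : ρ ^ j ≠ 1 := pow_ne_one_of_lt_orderOf hj0 (by omega)
    have hι2 : ρ ^ j * ρ ^ j = 1 := by rw [← pow_add, ← hj, pow_orderOf_eq_one]
    obtain ⟨x, y, h00, h01, h10, h11⟩ := hlin j
    have g01 := congrArg (fun m : SL(2, F) => m.1 0 1) hι2
    simp only [mul_01, h00, h01, h11, one_01] at g01
    have hy : y = 0 := by
      have h1 : y ^ 2 * (a ^ 2 * b) = 0 := by
        linear_combination g01 - (x * y * a + y * y * a) * h2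
      have h3 : a ^ 2 * b ≠ 0 := mul_ne_zero (pow_ne_zero 2 ha) hb
      exact pow_eq_zero_iff (two_ne_zero) |>.1 ((mul_eq_zero.1 h1).resolve_right h3)
    have g00 := congrArg (fun m : SL(2, F) => m.1 0 0) hι2
    simp only [mul_00, h00, h01, h10, one_00] at g00
    rw [hy] at g00
    have hx : x = 1 := by
      have h1 : (x + 1) ^ 2 = 0 := by linear_combination g00 + (x + 1) * h2
      have := pow_eq_zero_iff (two_ne_zero) |>.1 h1
      linear_combination this - h2
    apply hι1
    apply ext4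
    · rw [h00, hy, hx]; simp
    · rw [h01, hy]; simp
    · rw [h10, hy]; simp
    · rw [h11, hy, hx]; simp
  obtain ⟨k, hk⟩ := hodd
  refine ⟨k, ?_⟩
  rw [← hρ]
  have hconj : uu a * ρ * (uu a)⁻¹ = ρ⁻¹ := by
    rw [hρinv, hsinv, hρ]
    calc uu a * (uu a * ll b) * uu a = (uu a * uu a) * ll b * uu a := by group
      _ = ll b * uu a := by rw [hss, one_mul]
  have hconjk : uu a * ρ ^ k * (uu a)⁻¹ = (ρ ^ k)⁻¹ := by
    rw [← conj_pow, hconj, inv_pow]
  have hρ2k : ρ ^ k * ρ ^ k = ρ⁻¹ := by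
    have h1 : ρ ^ (2 * k + 1) = 1 := by rw [← hk, pow_orderOf_eq_one]
    have h2' : ρ ^ k * ρ ^ k * ρ = 1 := by
      rw [← pow_add, ← pow_succ]
      rw [← h1]
      congr 1
      ring
    exact eq_inv_of_mul_eq_one_left h2'
  calc ρ ^ k * uu a * (ρ ^ k)⁻¹ = ρ ^ k * uu a * (uu a * ρ ^ k * (uu a)⁻¹) := by rw [hconjk]
    _ = ρ ^ k * (uu a * uu a) * ρ ^ k * (uu a)⁻¹ := by group
    _ = (ρ ^ k * ρ ^ k) * uu a := by rw [hss, mul_one, hsinv]
    _ = ll b * (uu a * uu a) := by rw [hρ2k, hρinv, mul_assoc]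
    _ = ll b := by rw [hss, mul_one]

/-- closure of the upper parameters under `a' a'' / a`. -/
theorem ratio_closed [Fintype F] (h2 : (2 : F) = 0) (X : Subgroup SL(2, F)) {a a' a'' b : F}
    (ha : a ≠ 0) (hb : b ≠ 0) (hXa : uu a ∈ X) (hXa' : uu a' ∈ X) (hXa'' : uu a'' ∈ X)
    (hXb : ll b ∈ X) : uu (a' * a'' / a) ∈ X := by
  by_cases ha'' : a'' = 0
  · rw [ha'', mul_zero, zero_div, uu_zero]; exact X.one_mem
  obtain ⟨k, hk⟩ := exists_conj_char_two h2 ha hb
  obtain ⟨k', hk'⟩ := exists_conj_char_two h2 ha'' hb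
  have hg : (uu a * ll b) ^ k ∈ X := X.pow_mem (X.mul_mem hXa hXb) k
  have hg' : (uu a'' * ll b) ^ k' ∈ X := X.pow_mem (X.mul_mem hXa'' hXb) k'
  have h1 : ll (b * a' / a) ∈ X := by
    rw [← conj_uu_of_conj ha hk a']
    exact X.mul_mem (X.mul_mem hg hXa') (X.inv_mem hg)
  have h3 := conj_ll_of_conj hb hk' (b * a' / a)
  have h4 : a'' * (b * a' / a) / b = a' * a'' / a := by
    field_simp
  rw [h4] at h3
  rw [← h3]
  exact X.mul_mem (X.mul_mem (X.inv_mem hg') h1) hg'

/-- a subset of a finite field closed under the ring operations is a subfield. -/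
def subfieldOfSet [Fintype F] (S : Set F) (h0 : (0 : F) ∈ S) (h1 : (1 : F) ∈ S)
    (hadd : ∀ a b, a ∈ S → b ∈ S → a + b ∈ S) (hneg : ∀ a, a ∈ S → -a ∈ S)
    (hmul : ∀ a b, a ∈ S → b ∈ S → a * b ∈ S) : Subfield F where
  carrier := S
  mul_mem' := fun ha hb => hmul _ _ ha hb
  one_mem' := h1
  add_mem' := fun ha hb => hadd _ _ ha hb
  zero_mem' := h0
  neg_mem' := fun ha => hneg _ ha
  inv_mem' := by
    intro x hx
    by_cases hx0 : x = 0
    · rw [hx0, _root_.inv_zero]; exact h0
    · have hpow : ∀ k : ℕ, x ^ k ∈ S := by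
        intro k
        induction k with
        | zero => rw [pow_zero]; exact h1
        | succ k ih => rw [pow_succ]; exact hmul _ _ ih hx
      have h2 : 2 ≤ Fintype.card F := Fintype.one_lt_card
      have h3 : x ^ (Fintype.card F - 1) = 1 := FiniteField.pow_card_sub_one_eq_one x hx0
      have h4 : x⁻¹ = x ^ (Fintype.card F - 2) := by
        apply inv_eq_of_mul_eq_one_right
        rw [← pow_succ']
        have : Fintype.card F - 2 + 1 = Fintype.card F - 1 := by omega
        rw [this, h3]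
      show x⁻¹ ∈ S
      rw [h4]; exact hpow _

theorem mem_subfieldOfSet [Fintype F] (S : Set F) (h0 : (0 : F) ∈ S) (h1 : (1 : F) ∈ S)
    (hadd : ∀ a b, a ∈ S → b ∈ S → a + b ∈ S) (hneg : ∀ a, a ∈ S → -a ∈ S)
    (hmul : ∀ a b, a ∈ S → b ∈ S → a * b ∈ S) (x : F) :
    x ∈ subfieldOfSet S h0 h1 hadd hneg hmul ↔ x ∈ S := Iff.rfl

/-- the field of ratios of the upper parameters. -/
def lamField [Fintype F] (h2 : (2 : F) = 0) (X : Subgroup SL(2, F)) {a b : F}
    (ha : a ≠ 0) (hb : b ≠ 0) (hXa : uu a ∈ X) (hXb : ll b ∈ X) : Subfield F :=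
  subfieldOfSet {c | uu (a * c) ∈ X}
    (by show uu (a * 0) ∈ X; rw [mul_zero, uu_zero]; exact X.one_mem)
    (by show uu (a * 1) ∈ X; rw [mul_one]; exact hXa)
    (by
      intro c d hc hd
      show uu (a * (c + d)) ∈ X
      rw [mul_add, ← uu_mul]
      exact X.mul_mem hc hd)
    (by
      intro c hc
      show uu (a * -c) ∈ X
      rw [mul_neg, ← uu_inv]
      exact X.inv_mem hc)
    (by
      intro c d hc hd
      show uu (a * (c * d)) ∈ X
      have := ratio_closed h2 X ha hb hXa hc hd hXb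
      have e : a * c * (a * d) / a = a * (c * d) := by
        field_simp
      rwa [e] at this)

theorem mem_lamField [Fintype F] (h2 : (2 : F) = 0) (X : Subgroup SL(2, F)) {a b : F}
    (ha : a ≠ 0) (hb : b ≠ 0) (hXa : uu a ∈ X) (hXb : ll b ∈ X) (c : F) :
    c ∈ lamField h2 X ha hb hXa hXb ↔ uu (a * c) ∈ X := Iff.rfl

end Cfsg.Agent.Helper7.SubL
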