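import Mathlib
import Cfsg.Agent.Helper7.OSubD
import Cfsg.Agent.Helper7.SubLF
import Cfsg.Agent.Helper7.SubLB

set_option autoImplicit false
set_option linter.unusedSectionVars false

/-! Subfield subgroups of orthogonal groups, part E: the field of parameters of the rational
long root elements of an overgroup (helper7). -/

namespace Cfsg.Agent.Helper7.OSub

open Module Matrix Cfsg.Agent.Helper8.QuadForm Cfsg.Agent.Helper8.WittQuad
  Cfsg.Agent.Helper8.OrthOrder Cfsg.Agent.Helper8.Siegel Cfsg.Agent.Helper8.SiegelGroup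
  Cfsg.Agent.Helper7.OrthMax Cfsg.Agent.Helper7.OrthPair Cfsg.Agent.Helper7.SpSub

variable {F : Type*} [Field F] [Fintype F] {ι : Type} [Fintype ι] [DecidableEq ι]
  {F₀ : Subfield F} {Q : QuadraticForm F (ι → F)}

/-- the parameters of the rational long root elements of `M`. -/
def Dset (Q : QuadraticForm F (ι → F)) (F₀ : Subfield F) (M : Subgroup ↥(Isom Q)) : Set F :=
  {c | ∀ a b : ι → F, RSg Q F₀ a → RSg Q F₀ b → QuadraticMap.polar Q a b = 0 →
    siegG Q a (c • b) ∈ M}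

theorem rat_mem_Dset (R : OD Q F₀) {M : Subgroup ↥(Isom Q)}
    (hM : ∀ g ∈ SG Q, InH Q F₀ g → g ∈ M) {c : F} (hc : c ∈ F₀) : c ∈ Dset Q F₀ M := by
  intro a b ha hb hab
  exact siegG_mem_M R hM ha (hb.1.smul hc)
    (by rw [QuadraticMap.polar_smul_right, hab, smul_zero])

theorem Dset_add {M : Subgroup ↥(Isom Q)} {c d : F} (hc : c ∈ Dset Q F₀ M)
    (hd : d ∈ Dset Q F₀ M) : c + d ∈ Dset Q F₀ M := by
  intro a b ha hb hab
  rw [add_smul]
  exact siegG_add_mem Q ha.2 (by rw [QuadraticMap.polar_smul_right, hab, smul_zero])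
    (by rw [QuadraticMap.polar_smul_right, hab, smul_zero]) (hc a b ha hb hab) (hd a b ha hb hab)

theorem Dset_neg {M : Subgroup ↥(Isom Q)} {c : F} (hc : c ∈ Dset Q F₀ M) :
    -c ∈ Dset Q F₀ M := by
  intro a b ha hb hab
  rw [neg_smul, ← siegG_inv Q ha.2 (by rw [QuadraticMap.polar_smul_right, hab, smul_zero])]
  exact M.inv_mem (hc a b ha hb hab)

theorem Dset_mul (R : OD Q F₀) (hN : 13 ≤ Fintype.card ι) {M : Subgroup ↥(Isom Q)} {c d : F}
    (hc : c ∈ Dset Q F₀ M) (hd : d ∈ Dset Q F₀ M) : c * d ∈ Dset Q F₀ M := by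
  intro a b ha hb hab
  obtain ⟨b', f, hb', hf, hb'f, hb'c, hfc⟩ := rat_hyp R ![a, b] (all2 ha.1 hb.1) (by omega)
  have hb'a : QuadraticMap.polar Q b' a = 0 := hb'c 0
  have hb'b : QuadraticMap.polar Q b' b = 0 := hb'c 1
  have hfa : QuadraticMap.polar Q f a = 0 := hfc 0
  have hfb : QuadraticMap.polar Q f b = 0 := hfc 1
  have hbf : QuadraticMap.polar Q b f = 0 := by rw [QuadraticMap.polar_comm]; exact hfb
  have haf : QuadraticMap.polar Q a f = 0 := by rw [QuadraticMap.polar_comm]; exact hfa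
  have hab' : QuadraticMap.polar Q a b' = 0 := by rw [QuadraticMap.polar_comm]; exact hb'a
  have hg : siegG Q b (d • f) ∈ M := hd b f hb hf hbf
  have h1 : siegG Q a (c • b') ∈ M := hc a b' ha hb' hab'
  have h2 := siegG_conj_mem Q hg h1
  have hbdf : QuadraticMap.polar Q b (d • f) = 0 := by
    rw [QuadraticMap.polar_smul_right, hbf, smul_zero]
  have hQdf : Q (d • f) = 0 := by rw [QuadraticMap.map_smul, hf.2, smul_zero]
  have e1 : ((siegG Q b (d • f) : ↥(Isom Q)) : (ι → F) ≃ₗ[F] (ι → F)) a = a :=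
    siegG_fix Q hab (by rw [QuadraticMap.polar_smul_right, haf, smul_zero])
  have e2 : ((siegG Q b (d • f) : ↥(Isom Q)) : (ι → F) ≃ₗ[F] (ι → F)) (c • b') =
      c • b' + (c * d) • b := by
    rw [map_smul, siegG_apply_ts Q hb.2 hQdf hbdf, QuadraticMap.polar_smul_right, hb'f, hb'b,
      zero_smul, sub_zero, smul_eq_mul, mul_one, smul_add, smul_smul]
  rw [e1, e2] at h2
  have h3 := siegG_sub_mem Q ha.2
    (by rw [QuadraticMap.polar_add_right, QuadraticMap.polar_smul_right,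
      QuadraticMap.polar_smul_right, hab', hab, smul_zero, smul_zero, add_zero])
    (by rw [QuadraticMap.polar_smul_right, hab', smul_zero]) h2 h1
  rwa [add_sub_cancel_left] at h3

/-- the field of parameters. -/
def DField (R : OD Q F₀) (hN : 13 ≤ Fintype.card ι) (M : Subgroup ↥(Isom Q))
    (hM : ∀ g ∈ SG Q, InH Q F₀ g → g ∈ M) : Subfield F :=
  Cfsg.Agent.Helper7.SubL.subfieldOfSet (Dset Q F₀ M) (rat_mem_Dset R hM F₀.zero_mem)
    (rat_mem_Dset R hM F₀.one_mem) (fun _ _ hc hd => Dset_add hc hd) (fun _ hc => Dset_neg hc)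
    (fun _ _ hc hd => Dset_mul R hN hc hd)

theorem mem_DField (R : OD Q F₀) (hN : 13 ≤ Fintype.card ι) (M : Subgroup ↥(Isom Q))
    (hM : ∀ g ∈ SG Q, InH Q F₀ g → g ∈ M) (x : F) :
    x ∈ DField R hN M hM ↔ x ∈ Dset Q F₀ M := Iff.rfl

/-- an irrational parameter forces all parameters. -/
theorem Dset_univ (R : OD Q F₀) (hN : 13 ≤ Fintype.card ι) {M : Subgroup ↥(Isom Q)}
    (hM : ∀ g ∈ SG Q, InH Q F₀ g → g ∈ M) {r : ℕ} (hr : r.Prime)
    (hcard : Fintype.card F = Nat.card F₀ ^ r) {c : F} (hc : c ∉ F₀) (hcD : c ∈ Dset Q F₀ M)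
    (x : F) : x ∈ Dset Q F₀ M := by
  have hle : F₀ ≤ DField R hN M hM := fun y hy => rat_mem_Dset R hM hy
  rcases Cfsg.Agent.Helper7.SubL.subfield_eq_or_top hr hcard hle with h | h
  · exfalso
    apply hc
    rw [← h]
    exact hcD
  · have : x ∈ DField R hN M hM := by rw [h]; exact Subfield.mem_top x
    exact this

/-- exchanging the two parameters. -/
theorem swap_mem {M : Subgroup ↥(Isom Q)} {a b : ι → F} (ha : Q a = 0) (hb : Q b = 0)
    (hab : QuadraticMap.polar Q a b = 0) {c : F} (h : siegG Q a (c • b) ∈ M) :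
    siegG Q b (c • a) ∈ M := by
  have hba : QuadraticMap.polar Q b a = 0 := by rw [QuadraticMap.polar_comm]; exact hab
  have h1 : Q (c • b) = 0 := by rw [QuadraticMap.map_smul, hb, smul_zero]
  have h2 : QuadraticMap.polar Q a (c • b) = 0 := by
    rw [QuadraticMap.polar_smul_right, hab, smul_zero]
  have h3 : QuadraticMap.polar Q b (-a) = 0 := by
    rw [QuadraticMap.polar_neg_right, hba, neg_zero]
  have h4 : QuadraticMap.polar Q b (c • a) = 0 := by
    rw [QuadraticMap.polar_smul_right, hba, smul_zero]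
  rw [siegG_swap Q ha h1 h2, siegG_smul_left Q hb h3, smul_neg, ← siegG_inv Q hb h4] at h
  have := M.inv_mem h
  rwa [inv_inv] at this

/-- changing the second parameter. -/
theorem step1 (R : OD Q F₀) {M : Subgroup ↥(Isom Q)}
    (hM : ∀ g ∈ SG Q, InH Q F₀ g → g ∈ M) {a b b' : ι → F} (ha : RSg Q F₀ a)
    (hb : RSg Q F₀ b) (hb' : RSg Q F₀ b') (hab : QuadraticMap.polar Q a b = 0)
    (hab' : QuadraticMap.polar Q a b' = 0) (hbb' : QuadraticMap.polar Q b b' = 0)
    (hind : ∀ x y : F, b' ≠ x • a + y • b) {c : F} (h : siegG Q a (c • b') ∈ M) :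
    siegG Q a (c • b) ∈ M := by
  have hb'a : QuadraticMap.polar Q b' a = 0 := by rw [QuadraticMap.polar_comm]; exact hab'
  have hb'b : QuadraticMap.polar Q b' b = 0 := by rw [QuadraticMap.polar_comm]; exact hbb'
  obtain ⟨f, hf, hb'f, hfc⟩ := rat_partner R ![a, b] (all2 ha.1 hb.1) hb' (all2 hb'a hb'b) (by
    intro x hx
    rw [Fin.sum_univ_two] at hx
    exact hind (x 0) (x 1) hx)
  have hfa : QuadraticMap.polar Q f a = 0 := hfc 0
  have hfb : QuadraticMap.polar Q f b = 0 := hfc 1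
  have hbf : QuadraticMap.polar Q b f = 0 := by rw [QuadraticMap.polar_comm]; exact hfb
  have haf : QuadraticMap.polar Q a f = 0 := by rw [QuadraticMap.polar_comm]; exact hfa
  have hg : siegG Q b f ∈ M := siegG_mem_M R hM hb hf.1 hbf
  have h2 := siegG_conj_mem Q hg h
  have e1 : ((siegG Q b f : ↥(Isom Q)) : (ι → F) ≃ₗ[F] (ι → F)) a = a := siegG_fix Q hab haf
  have e2 : ((siegG Q b f : ↥(Isom Q)) : (ι → F) ≃ₗ[F] (ι → F)) (c • b') = c • b' + c • b := by
    rw [map_smul, siegG_apply_ts Q hb.2 hf.2 hbf, hb'f, hb'b, zero_smul, sub_zero, one_smul,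
      smul_add]
  rw [e1, e2] at h2
  have h3 := siegG_sub_mem Q ha.2
    (by rw [QuadraticMap.polar_add_right, QuadraticMap.polar_smul_right,
      QuadraticMap.polar_smul_right, hab', hab, smul_zero, add_zero])
    (by rw [QuadraticMap.polar_smul_right, hab', smul_zero]) h2 h
  rwa [add_sub_cancel_left] at h3

/-- one long root element with a rational line and the parameter `c` puts `c` among the
parameters. -/
theorem Dset_of_out (R : OD Q F₀) (hN : 13 ≤ Fintype.card ι) {M : Subgroup ↥(Isom Q)}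
    (hM : ∀ g ∈ SG Q, InH Q F₀ g → g ∈ M) {a₀ b₀ : ι → F} (ha₀ : RSg Q F₀ a₀)
    (hb₀ : RSg Q F₀ b₀) (ha₀0 : a₀ ≠ 0) (hab₀ : QuadraticMap.polar Q a₀ b₀ = 0)
    (hind : ∀ x : F, b₀ ≠ x • a₀) {c : F} (h : siegG Q a₀ (c • b₀) ∈ M) : c ∈ Dset Q F₀ M := by
  intro a b ha hb hab
  obtain ⟨x, x', hx, hx', hxx', hxc, hx'c⟩ := rat_hyp R ![a₀, b₀, a, b]
    (all4 ha₀.1 hb₀.1 ha.1 hb.1) (by omega)
  have hxa₀ : QuadraticMap.polar Q x a₀ = 0 := hxc 0
  have hxb₀ : QuadraticMap.polar Q x b₀ = 0 := hxc 1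
  have hxa : QuadraticMap.polar Q x a = 0 := hxc 2
  have hx'a₀ : QuadraticMap.polar Q x' a₀ = 0 := hx'c 0
  have hx'b₀ : QuadraticMap.polar Q x' b₀ = 0 := hx'c 1
  have hx'a : QuadraticMap.polar Q x' a = 0 := hx'c 2
  obtain ⟨y, y', hy, hy', hyy', hyc, hy'c⟩ := rat_hyp R ![x, a₀, a, b]
    (all4 hx.1 ha₀.1 ha.1 hb.1) (by omega)
  have hyx : QuadraticMap.polar Q y x = 0 := hyc 0
  have hya₀ : QuadraticMap.polar Q y a₀ = 0 := hyc 1
  have hya : QuadraticMap.polar Q y a = 0 := hyc 2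
  have hyb : QuadraticMap.polar Q y b = 0 := hyc 3
  have hy'x : QuadraticMap.polar Q y' x = 0 := hy'c 0
  have hy'a₀ : QuadraticMap.polar Q y' a₀ = 0 := hy'c 1
  have hy'a : QuadraticMap.polar Q y' a = 0 := hy'c 2
  have hy'b : QuadraticMap.polar Q y' b = 0 := hy'c 3
  have hcomm : ∀ u v : ι → F, QuadraticMap.polar Q u v = 0 → QuadraticMap.polar Q v u = 0 :=
    fun u v huv => by rw [QuadraticMap.polar_comm]; exact huv
  -- (a₀, b₀) to (a₀, x)
  have s1 : siegG Q a₀ (c • x) ∈ M := by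
    refine step1 R hM ha₀ hx hb₀ (hcomm _ _ hxa₀) hab₀ hxb₀ ?_ h
    intro s t hst
    have h1 : QuadraticMap.polar Q b₀ x' = 0 := hcomm _ _ hx'b₀
    rw [hst, QuadraticMap.polar_add_left, QuadraticMap.polar_smul_left,
      QuadraticMap.polar_smul_left, hcomm _ _ hx'a₀, hxx', smul_zero, zero_add, smul_eq_mul,
      mul_one] at h1
    rw [h1, zero_smul, add_zero] at hst
    exact hind s hst
  have s2 : siegG Q x (c • a₀) ∈ M := swap_mem ha₀.2 hx.2 (hcomm _ _ hxa₀) s1
  -- (x, a₀) to (x, y)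
  have s3 : siegG Q x (c • y) ∈ M := by
    refine step1 R hM hx hy ha₀ (hcomm _ _ hyx) hxa₀ hya₀ ?_ s2
    intro s t hst
    have h1 : QuadraticMap.polar Q a₀ y' = 0 := hcomm _ _ hy'a₀
    rw [hst, QuadraticMap.polar_add_left, QuadraticMap.polar_smul_left,
      QuadraticMap.polar_smul_left, hcomm _ _ hy'x, hyy', smul_zero, zero_add, smul_eq_mul,
      mul_one] at h1
    rw [h1, zero_smul, add_zero] at hst
    have h2 : QuadraticMap.polar Q a₀ x' = 0 := hcomm _ _ hx'a₀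
    rw [hst, QuadraticMap.polar_smul_left, hxx', smul_eq_mul, mul_one] at h2
    apply ha₀0
    rw [hst, h2, zero_smul]
  have s4 : siegG Q y (c • x) ∈ M := swap_mem hx.2 hy.2 (hcomm _ _ hyx) s3
  -- (y, x) to (y, a)
  have s5 : siegG Q y (c • a) ∈ M := by
    refine step1 R hM hy ha hx hya hyx (hcomm _ _ hxa) ?_ s4
    intro s t hst
    have h1 : QuadraticMap.polar Q x y' = 0 := hcomm _ _ hy'x
    rw [hst, QuadraticMap.polar_add_left, QuadraticMap.polar_smul_left,
      QuadraticMap.polar_smul_left, hyy', hcomm _ _ hy'a, smul_zero, add_zero, smul_eq_mul,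
      mul_one] at h1
    rw [h1, zero_smul, zero_add] at hst
    have h2 := hxx'
    rw [hst, QuadraticMap.polar_smul_left, hcomm _ _ hx'a, smul_zero] at h2
    exact zero_ne_one h2
  have s6 : siegG Q a (c • y) ∈ M := swap_mem hy.2 ha.2 hya s5
  -- (a, y) to (a, b)
  refine step1 R hM ha hb hy hab (hcomm _ _ hya) (hcomm _ _ hyb) ?_ s6
  intro s t hst
  have h2 := hyy'
  rw [hst, QuadraticMap.polar_add_left, QuadraticMap.polar_smul_left,
    QuadraticMap.polar_smul_left, hcomm _ _ hy'a, hcomm _ _ hy'b, smul_zero, smul_zero,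
    add_zero] at h2
  exact zero_ne_one h2

end Cfsg.Agent.Helper7.OSub
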