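import Mathlib
import Cfsg.Agent.Helper7.OSubE

set_option autoImplicit false
set_option linter.unusedSectionVars false

/-! Subfield subgroups of orthogonal groups, part F: all parameters give the whole group; the
subfield group is proper (helper7). -/

namespace Cfsg.Agent.Helper7.OSub

open Module Matrix Cfsg.Agent.Helper8.QuadForm Cfsg.Agent.Helper8.WittQuad
  Cfsg.Agent.Helper8.OrthOrder Cfsg.Agent.Helper8.Siegel Cfsg.Agent.Helper8.SiegelGroup
  Cfsg.Agent.Helper7.OrthMax Cfsg.Agent.Helper7.OrthPair Cfsg.Agent.Helper7.SpSub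

variable {F : Type*} [Field F] [Fintype F] {ι : Type} [Fintype ι] [DecidableEq ι]
  {F₀ : Subfield F} {Q : QuadraticForm F (ι → F)}

/-- the orthogonal of a rational singular vector is spanned by rational singular vectors. -/
theorem mem_span_RSg (R : OD Q F₀) (hN : 13 ≤ Fintype.card ι) {a x : ι → F}
    (ha : RSg Q F₀ a) (ha0 : a ≠ 0) (hxa : QuadraticMap.polar Q x a = 0) :
    x ∈ Submodule.span F {b : ι → F | RSg Q F₀ b ∧ QuadraticMap.polar Q b a = 0} := by
  obtain ⟨f, hf, haf⟩ := rat_partner0 R ha ha0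
  have hfa : QuadraticMap.polar Q f a = 1 := by rw [QuadraticMap.polar_comm]; exact haf
  obtain ⟨S, hS⟩ : ∃ S : Submodule F (ι → F),
      S = Submodule.span F {b : ι → F | RSg Q F₀ b ∧ QuadraticMap.polar Q b a = 0} := ⟨_, rfl⟩
  rw [← hS]
  obtain ⟨π, hπ⟩ : ∃ π : (ι → F) →ₗ[F] (ι → F),
      π = LinearMap.id - (QuadraticMap.polarBilin Q a).smulRight f := ⟨_, rfl⟩
  have hπv : ∀ v, π v = v - QuadraticMap.polar Q v a • f := by
    intro v
    rw [hπ, LinearMap.sub_apply, LinearMap.id_apply, LinearMap.smulRight_apply,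
      QuadraticMap.polarBilin_apply_apply, QuadraticMap.polar_comm]
  have hrat : ∀ r : ι → F, RatV F₀ r → π r ∈ S := by
    intro r hr
    have h1 : RatV F₀ (π r) := by
      rw [hπv]
      exact hr.sub (hf.1.smul (R.polar_mem hr ha.1))
    have h2 : QuadraticMap.polar Q (π r) a = 0 := by
      rw [hπv, QuadraticMap.polar_sub_left, QuadraticMap.polar_smul_left, hfa, smul_eq_mul,
        mul_one, sub_self]
    obtain ⟨s₁, s₂, s₃, h₁, h₂, h₃, c₁, c₂, c₃, e⟩ := rat_three R ![a]
      (fun i => by fin_cases i; exact ha.1) (by omega) h1 (fun i => by fin_cases i; exact h2)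
    rw [e, hS]
    exact Submodule.add_mem _ (Submodule.add_mem _ (Submodule.subset_span ⟨h₁, c₁ 0⟩)
      (Submodule.subset_span ⟨h₂, c₂ 0⟩)) (Submodule.subset_span ⟨h₃, c₃ 0⟩)
  have hΦ : (S.mkQ ∘ₗ π) = 0 := by
    apply LinearMap.pi_ext
    intro i c
    rw [LinearMap.zero_apply, LinearMap.comp_apply, Submodule.mkQ_apply,
      Submodule.Quotient.mk_eq_zero]
    have e1 : (Pi.single i c : ι → F) = c • Pi.single i 1 := by
      rw [← Pi.single_smul, smul_eq_mul, mul_one]
    rw [e1, map_smul]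
    apply S.smul_mem
    exact hrat _ (RatV.single i F₀.one_mem)
  have h1 := LinearMap.congr_fun hΦ x
  rw [LinearMap.zero_apply, LinearMap.comp_apply, Submodule.mkQ_apply,
    Submodule.Quotient.mk_eq_zero, hπv, hxa, zero_smul, sub_zero] at h1
  exact h1

/-- if all parameters occur, the Siegel transformations at the rational singular vectors lie in
`M`. -/
theorem RS_of_D (R : OD Q F₀) (hN : 13 ≤ Fintype.card ι) {M : Subgroup ↥(Isom Q)}
    (hD : ∀ x : F, x ∈ Dset Q F₀ M) {a : ι → F} (ha : RSg Q F₀ a) : RS Q M a := by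
  refine ⟨ha.2, fun w haw => ?_⟩
  by_cases ha0 : a = 0
  · rw [ha0, siegG_zero_left]
    exact M.one_mem
  have hwa : QuadraticMap.polar Q w a = 0 := by rw [QuadraticMap.polar_comm]; exact haw
  have hmem := mem_span_RSg R hN ha ha0 hwa
  have key : ∀ w ∈ Submodule.span F {b : ι → F | RSg Q F₀ b ∧ QuadraticMap.polar Q b a = 0},
      QuadraticMap.polar Q a w = 0 ∧ ∀ c : F, siegG Q a (c • w) ∈ M := by
    intro w hw
    induction hw using Submodule.span_induction with
    | mem b hb =>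
      have hab : QuadraticMap.polar Q a b = 0 := by rw [QuadraticMap.polar_comm]; exact hb.2
      exact ⟨hab, fun c => hD c a b ha hb.1 hab⟩
    | zero =>
      refine ⟨QuadraticMap.polar_zero_right _ _, fun c => ?_⟩
      rw [smul_zero, siegG_zero]
      exact M.one_mem
    | add u v _ _ hu hv =>
      refine ⟨by rw [QuadraticMap.polar_add_right, hu.1, hv.1, add_zero], fun c => ?_⟩
      rw [smul_add]
      exact siegG_add_mem Q ha.2 (by rw [QuadraticMap.polar_smul_right, hu.1, smul_zero])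
        (by rw [QuadraticMap.polar_smul_right, hv.1, smul_zero]) (hu.2 c) (hv.2 c)
    | smul d u _ hu =>
      refine ⟨by rw [QuadraticMap.polar_smul_right, hu.1, smul_zero], fun c => ?_⟩
      rw [smul_smul]
      exact hu.2 _
  have := (key w hmem).2 1
  rwa [one_smul] at this

/-- if all parameters occur, `M` contains the group generated by the Siegel transformations. -/
theorem top_of_D (R : OD Q F₀) (hN : 13 ≤ Fintype.card ι) {M : Subgroup ↥(Isom Q)}
    (hD : ∀ x : F, x ∈ Dset Q F₀ M) : SG Q ≤ M := by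
  have hall : ∀ u : ι → F, Q u = 0 → RS Q M u := by
    intro u hu
    by_cases hu0 : u = 0
    · refine ⟨hu, fun w _ => ?_⟩
      rw [hu0, siegG_zero_left]
      exact M.one_mem
    obtain ⟨e, he, heu⟩ : ∃ e : ι → F, RSg Q F₀ e ∧ QuadraticMap.polar Q e u ≠ 0 := by
      by_contra hcon
      push Not at hcon
      apply hu0
      apply eq_zero_of_perp_sing R (by omega)
      intro e he
      rw [QuadraticMap.polar_comm]
      exact hcon e he
    have he0 : e ≠ 0 := by
      rintro rfl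
      exact heu (QuadraticMap.polar_zero_left _ _)
    obtain ⟨f, hf, hef⟩ := rat_partner0 R he he0
    have h1 : RS Q M e := RS_of_D R hN hD he
    have h2 : RS Q M (QuadraticMap.polar Q e u • f) := RS_smul Q (RS_of_D R hN hD hf) _
    have h3 : QuadraticMap.polar Q e (QuadraticMap.polar Q e u • f) = QuadraticMap.polar Q e u := by
      rw [QuadraticMap.polar_smul_right, hef, smul_eq_mul, mul_one]
    exact RS_move Q h1 h2 hu (by rw [h3]; exact heu) h3.symm
  unfold SG SGW
  rw [Subgroup.closure_le]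
  rintro g ⟨c, -, w, -, hc, hcw, rfl⟩
  exact (hall c hc).2 w hcw

/-- a proper subfield misses an element. -/
theorem exists_not_mem {r : ℕ} (hr : r.Prime) (hcard : Fintype.card F = Nat.card F₀ ^ r) :
    ∃ c : F, c ∉ F₀ := by
  by_contra hcon
  push Not at hcon
  have h1 : Nat.card F₀ = Fintype.card F := by
    rw [← Nat.card_eq_fintype_card]
    exact Nat.card_congr ⟨fun x => x.1, fun x => ⟨x, hcon x⟩, fun x => rfl, fun x => rfl⟩
  have h2 : 2 ≤ Fintype.card F := Fintype.one_lt_card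
  rw [← h1] at hcard h2
  have h3 : Nat.card F₀ ^ 1 = Nat.card F₀ ^ r := by rw [pow_one]; exact hcard
  have := Nat.pow_right_injective h2 h3
  exact hr.one_lt.ne this

/-- the subfield group does not contain the group generated by the Siegel transformations. -/
theorem exists_not_InH (R : OD Q F₀) (hN : 13 ≤ Fintype.card ι) {r : ℕ} (hr : r.Prime)
    (hcard : Fintype.card F = Nat.card F₀ ^ r) : ∃ g ∈ SG Q, ¬ InH Q F₀ g := by
  obtain ⟨c, hc⟩ := exists_not_mem hr hcard
  obtain ⟨e₁, f₁, he₁, hf₁, hef₁, -, -⟩ := rat_hyp R (k := 0) (fun i => i.elim0)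
    (fun i => i.elim0) (by omega)
  obtain ⟨e₂, f₂, he₂, hf₂, hef₂, he₂c, hf₂c⟩ := rat_hyp R ![e₁, f₁] (all2 he₁.1 hf₁.1) (by omega)
  have he₂e₁ : QuadraticMap.polar Q e₂ e₁ = 0 := he₂c 0
  have hf₂e₁ : QuadraticMap.polar Q f₂ e₁ = 0 := hf₂c 0
  have he₁e₂ : QuadraticMap.polar Q e₁ e₂ = 0 := by rw [QuadraticMap.polar_comm]; exact he₂e₁
  have hf₂e₂ : QuadraticMap.polar Q f₂ e₂ = 1 := by rw [QuadraticMap.polar_comm]; exact hef₂
  have he₁0 : e₁ ≠ 0 := by
    rintro rfl
    rw [QuadraticMap.polar_zero_left] at hef₁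
    exact zero_ne_one hef₁
  have h1 : QuadraticMap.polar Q e₁ (c • e₂) = 0 := by
    rw [QuadraticMap.polar_smul_right, he₁e₂, smul_zero]
  have h2 : Q (c • e₂) = 0 := by rw [QuadraticMap.map_smul, he₂.2, smul_zero]
  refine ⟨siegG Q e₁ (c • e₂), siegG_mem_SG Q he₁.2 h1, fun hH => ?_⟩
  obtain ⟨μ, hμ0, hμ⟩ := exists_of_InH hH
  have h3 := hμ e₁ he₁.1
  rw [siegG_fix Q (by rw [polar_self', he₁.2, mul_zero]) h1] at h3
  have hμ₀ : μ ∈ F₀ := coef1 he₁.1 he₁0 h3
  have h4 := hμ f₂ hf₂.1
  rw [siegG_apply_ts Q he₁.2 h2 h1, QuadraticMap.polar_smul_right, hf₂e₂, hf₂e₁, zero_smul,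
    sub_zero, smul_eq_mul, mul_one] at h4
  have h5 : RatV F₀ (f₂ + c • e₁) := by
    have := h4.smul (F₀.inv_mem hμ₀)
    rwa [smul_smul, inv_mul_cancel₀ hμ0, one_smul] at this
  have h6 : RatV F₀ (c • e₁) := by
    have := h5.sub hf₂.1
    rwa [add_sub_cancel_left] at this
  exact hc (coef1 he₁.1 he₁0 h6)

end Cfsg.Agent.Helper7.OSub
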