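import Mathlib
import Cfsg.Agent.Helper7.OSubF

set_option autoImplicit false
set_option linter.unusedSectionVars false

/-! Subfield subgroups of orthogonal groups, part G: an isometry outside the subfield group moves
some rational singular point to a point which is not rational (helper7). -/

namespace Cfsg.Agent.Helper7.OSub

open Module Matrix Cfsg.Agent.Helper8.QuadForm Cfsg.Agent.Helper8.WittQuad
  Cfsg.Agent.Helper8.OrthOrder Cfsg.Agent.Helper8.Siegel Cfsg.Agent.Helper8.SiegelGroup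
  Cfsg.Agent.Helper7.OrthMax Cfsg.Agent.Helper7.OrthPair Cfsg.Agent.Helper7.SpSub

variable {F : Type*} [Field F] [Fintype F] {ι : Type} [Fintype ι] [DecidableEq ι]
  {F₀ : Subfield F} {Q : QuadraticForm F (ι → F)}

/-- the scalars making the images of two independent orthogonal rational singular vectors
rational have a rational ratio, when the image of the sum is projectively rational. -/
theorem ratio_mem (g : ↥(Isom Q)) {a b : ι → F}
    (hind : ∀ s t : F, s • a + t • b = 0 → s = 0 ∧ t = 0) {μ ν ρ : F} (hμ0 : μ ≠ 0)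
    (hν0 : ν ≠ 0) (hρ0 : ρ ≠ 0)
    (hμ : RatV F₀ (μ • (g : (ι → F) ≃ₗ[F] (ι → F)) a))
    (hν : RatV F₀ (ν • (g : (ι → F) ≃ₗ[F] (ι → F)) b))
    (hρ : RatV F₀ (ρ • (g : (ι → F) ≃ₗ[F] (ι → F)) (a + b))) : μ / ν ∈ F₀ := by
  have hI : ∀ s t : F, s • (μ • (g : (ι → F) ≃ₗ[F] (ι → F)) a) +
      t • (ν • (g : (ι → F) ≃ₗ[F] (ι → F)) b) = 0 → s = 0 ∧ t = 0 := by
    intro s t hst
    have h1 : (g : (ι → F) ≃ₗ[F] (ι → F)) ((s * μ) • a + (t * ν) • b) = 0 := by
      rw [map_add, map_smul, map_smul, ← hst, smul_smul, smul_smul]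
    have h2 := (LinearEquiv.map_eq_zero_iff _).mp h1
    obtain ⟨h3, h4⟩ := hind _ _ h2
    exact ⟨(mul_eq_zero.mp h3).resolve_right hμ0, (mul_eq_zero.mp h4).resolve_right hν0⟩
  have e : ρ • (g : (ι → F) ≃ₗ[F] (ι → F)) (a + b) =
      (ρ / μ) • (μ • (g : (ι → F) ≃ₗ[F] (ι → F)) a) +
        (ρ / ν) • (ν • (g : (ι → F) ≃ₗ[F] (ι → F)) b) := by
    rw [map_add, smul_add, smul_smul, smul_smul, div_mul_cancel₀ _ hμ0, div_mul_cancel₀ _ hν0]
  rw [e] at hρ
  obtain ⟨h1, h2⟩ := coef_mem hμ hν hI hρ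
  have e2 : μ / ν = (ρ / ν) / (ρ / μ) := by
    field_simp
  rw [e2]
  exact F₀.div_mem h2 h1

/-- an isometry outside the subfield group moves some rational singular vector to a vector which
is not projectively rational. -/
theorem exists_irr_image (R : OD Q F₀) (hN : 13 ≤ Fintype.card ι) {g : ↥(Isom Q)}
    (hg : ¬ InH Q F₀ g) :
    ∃ a₀ : ι → F, RSg Q F₀ a₀ ∧ a₀ ≠ 0 ∧
      ¬ PRatV F₀ ((g : (ι → F) ≃ₗ[F] (ι → F)) a₀) := by
  by_contra hcon
  push Not at hcon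
  apply hg
  obtain ⟨a₁, f₁, ha₁, hf₁, haf₁, -, -⟩ := rat_hyp R (k := 0) (fun i => i.elim0)
    (fun i => i.elim0) (by omega)
  have ha₁0 : a₁ ≠ 0 := by
    rintro rfl
    rw [QuadraticMap.polar_zero_left] at haf₁
    exact zero_ne_one haf₁
  obtain ⟨μ₁, hμ₁0, hμ₁⟩ := hcon a₁ ha₁ ha₁0
  have hcomm : ∀ u v : ι → F, QuadraticMap.polar Q u v = 0 → QuadraticMap.polar Q v u = 0 :=
    fun u v huv => by rw [QuadraticMap.polar_comm]; exact huv
  -- the ratio for an orthogonal independent pair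
  have pair : ∀ a x : ι → F, RSg Q F₀ a → RSg Q F₀ x → QuadraticMap.polar Q a x = 0 →
      (∀ s t : F, s • a + t • x = 0 → s = 0 ∧ t = 0) → ∀ μ ξ : F, μ ≠ 0 → ξ ≠ 0 →
      RatV F₀ (μ • (g : (ι → F) ≃ₗ[F] (ι → F)) a) →
      RatV F₀ (ξ • (g : (ι → F) ≃ₗ[F] (ι → F)) x) → μ / ξ ∈ F₀ := by
    intro a x ha hx hax hind μ ξ hμ0 hξ0 hμ hξ
    have hne : a + x ≠ 0 := by
      intro h
      have := hind 1 1 (by rw [one_smul, one_smul]; exact h)
      exact one_ne_zero this.1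
    obtain ⟨ρ, hρ0, hρ⟩ := hcon (a + x) (ha.add hx hax) hne
    exact ratio_mem g hind hμ0 hξ0 hρ0 hμ hξ hρ
  have key : ∀ a : ι → F, RSg Q F₀ a → RatV F₀ (μ₁ • (g : (ι → F) ≃ₗ[F] (ι → F)) a) := by
    intro a ha
    by_cases ha0 : a = 0
    · rw [ha0, map_zero, smul_zero]; exact RatV.zero
    obtain ⟨μ, hμ0, hμ⟩ := hcon a ha ha0
    obtain ⟨x, x', hx, hx', hxx', hxc, hx'c⟩ := rat_hyp R ![a₁, a] (all2 ha₁.1 ha.1) (by omega)
    have hxa₁ : QuadraticMap.polar Q x a₁ = 0 := hxc 0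
    have hxa : QuadraticMap.polar Q x a = 0 := hxc 1
    have hx'a₁ : QuadraticMap.polar Q x' a₁ = 0 := hx'c 0
    have hx'a : QuadraticMap.polar Q x' a = 0 := hx'c 1
    have hx0 : x ≠ 0 := by
      rintro rfl
      rw [QuadraticMap.polar_zero_left] at hxx'
      exact zero_ne_one hxx'
    obtain ⟨ξ, hξ0, hξ⟩ := hcon x hx hx0
    have indep : ∀ u : ι → F, u ≠ 0 → QuadraticMap.polar Q x' u = 0 →
        ∀ s t : F, s • u + t • x = 0 → s = 0 ∧ t = 0 := by
      intro u hu0 hx'u s t hst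
      have h1 : QuadraticMap.polar Q (s • u + t • x) x' = 0 := by
        rw [hst, QuadraticMap.polar_zero_left]
      rw [QuadraticMap.polar_add_left, QuadraticMap.polar_smul_left, QuadraticMap.polar_smul_left,
        hcomm _ _ hx'u, hxx', smul_zero, zero_add, smul_eq_mul, mul_one] at h1
      rw [h1, zero_smul, add_zero] at hst
      exact ⟨(smul_eq_zero.mp hst).resolve_right hu0, h1⟩
    have r1 := pair a₁ x ha₁ hx (hcomm _ _ hxa₁) (indep a₁ ha₁0 hx'a₁) μ₁ ξ hμ₁0 hξ0 hμ₁ hξ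
    have r2 := pair a x ha hx (hcomm _ _ hxa) (indep a ha0 hx'a) μ ξ hμ0 hξ0 hμ hξ
    have e : μ₁ • (g : (ι → F) ≃ₗ[F] (ι → F)) a =
        ((μ₁ / ξ) / (μ / ξ)) • (μ • (g : (ι → F) ≃ₗ[F] (ι → F)) a) := by
      rw [smul_smul]
      congr 1
      field_simp
    rw [e]
    exact hμ.smul (F₀.div_mem r1 r2)
  apply InH_of_smul hμ₁0
  intro w hw
  obtain ⟨s₁, s₂, s₃, h₁, h₂, h₃, -, -, -, e⟩ := rat_three R (k := 0) (fun i => i.elim0)
    (fun i => i.elim0) (by omega) hw (fun i => i.elim0)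
  rw [e, map_add, map_add, smul_add, smul_add]
  exact ((key _ h₁).add (key _ h₂)).add (key _ h₃)

end Cfsg.Agent.Helper7.OSub
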