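import Mathlib
import Cfsg.Agent.Helper7.OSubG

set_option autoImplicit false
set_option linter.unusedSectionVars false

/-! Subfield subgroups of orthogonal groups, part H: a Siegel transformation of `M` at a rational
singular vector whose parameter is not rational, and long root elements in a rational totally
singular plane (helper7). -/

namespace Cfsg.Agent.Helper7.OSub

open Module Matrix Cfsg.Agent.Helper8.QuadForm Cfsg.Agent.Helper8.WittQuad
  Cfsg.Agent.Helper8.OrthOrder Cfsg.Agent.Helper8.Siegel Cfsg.Agent.Helper8.SiegelGroup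
  Cfsg.Agent.Helper7.OrthMax Cfsg.Agent.Helper7.OrthPair Cfsg.Agent.Helper7.SpSub

variable {F : Type*} [Field F] [Fintype F] {ι : Type} [Fintype ι] [DecidableEq ι]
  {F₀ : Subfield F} {Q : QuadraticForm F (ι → F)}

theorem not_mem_neg {κ : F} (hκ : κ ∉ F₀) : -κ ∉ F₀ := by
  intro h
  apply hκ
  have := F₀.neg_mem h
  rwa [neg_neg] at this

/-- a Siegel transformation of `M` at a rational singular vector whose parameter is not rational
modulo that vector yields an irrational parameter. -/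
theorem caseQ (R : OD Q F₀) (hN : 13 ≤ Fintype.card ι) {M : Subgroup ↥(Isom Q)}
    (hM : ∀ g ∈ SG Q, InH Q F₀ g → g ∈ M) {e y : ι → F} (he : RSg Q F₀ e) (he0 : e ≠ 0)
    (hey : QuadraticMap.polar Q e y = 0) (hy : ∀ κ : F, ¬ RatV F₀ (y - κ • e))
    (hT : siegG Q e y ∈ M) : ∃ κ : F, κ ∉ F₀ ∧ κ ∈ Dset Q F₀ M := by
  have hcomm : ∀ u v : ι → F, QuadraticMap.polar Q u v = 0 → QuadraticMap.polar Q v u = 0 :=
    fun u v huv => by rw [QuadraticMap.polar_comm]; exact huv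
  have hee : QuadraticMap.polar Q e e = 0 := by rw [polar_self', he.2, mul_zero]
  obtain ⟨f, hf, hef⟩ := rat_partner0 R he he0
  have hfe : QuadraticMap.polar Q f e = 1 := by rw [QuadraticMap.polar_comm]; exact hef
  obtain ⟨y₁, hy₁⟩ : ∃ y₁ : ι → F, y₁ = y - QuadraticMap.polar Q y f • e := ⟨_, rfl⟩
  have hey₁ : QuadraticMap.polar Q e y₁ = 0 := by
    rw [hy₁, QuadraticMap.polar_sub_right, QuadraticMap.polar_smul_right, hey, hee, smul_zero,
      sub_zero]
  have hy₁e : QuadraticMap.polar Q y₁ e = 0 := hcomm _ _ hey₁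
  have hy₁f : QuadraticMap.polar Q y₁ f = 0 := by
    rw [hy₁, QuadraticMap.polar_sub_left, QuadraticMap.polar_smul_left, hef, smul_eq_mul, mul_one,
      sub_self]
  have hT₁ : siegG Q e y₁ ∈ M := by
    rw [hy₁]
    refine siegG_sub_mem Q he.2 hey
      (by rw [QuadraticMap.polar_smul_right, hee, smul_zero]) hT ?_
    rw [siegG_self_smul Q he.2]
    exact M.one_mem
  have hy₁r : ¬ RatV F₀ y₁ := by rw [hy₁]; exact hy _
  -- a rational singular vector with an irrational pairing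
  obtain ⟨b, hb, hbe, hbf, hβ⟩ : ∃ b : ι → F, RSg Q F₀ b ∧ QuadraticMap.polar Q b e = 0 ∧
      QuadraticMap.polar Q b f = 0 ∧ QuadraticMap.polar Q y₁ b ∉ F₀ := by
    by_contra hcon
    push Not at hcon
    apply hy₁r
    apply rat_of_pairings R
    intro x hx
    obtain ⟨x₀, hx₀⟩ : ∃ x₀ : ι → F, x₀ = x - QuadraticMap.polar Q x f • e
        - QuadraticMap.polar Q x e • f := ⟨_, rfl⟩
    have hx₀r : RatV F₀ x₀ := by
      rw [hx₀]
      exact (hx.sub (he.1.smul (R.polar_mem hx hf.1))).sub (hf.1.smul (R.polar_mem hx he.1))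
    have hff : QuadraticMap.polar Q f f = 0 := by rw [polar_self', hf.2, mul_zero]
    have hx₀e : QuadraticMap.polar Q x₀ e = 0 := by
      rw [hx₀, QuadraticMap.polar_sub_left, QuadraticMap.polar_sub_left,
        QuadraticMap.polar_smul_left, QuadraticMap.polar_smul_left, hee, hfe]
      simp
    have hx₀f : QuadraticMap.polar Q x₀ f = 0 := by
      rw [hx₀, QuadraticMap.polar_sub_left, QuadraticMap.polar_sub_left,
        QuadraticMap.polar_smul_left, QuadraticMap.polar_smul_left, hef, hff]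
      simp
    obtain ⟨s₁, s₂, s₃, h₁, h₂, h₃, c₁, c₂, c₃, e'⟩ := rat_three R ![e, f] (all2 he.1 hf.1)
      (by omega) hx₀r (all2 hx₀e hx₀f)
    have hx : x = x₀ + QuadraticMap.polar Q x f • e + QuadraticMap.polar Q x e • f := by
      rw [hx₀]; abel
    rw [hx, QuadraticMap.polar_add_right, QuadraticMap.polar_add_right,
      QuadraticMap.polar_smul_right, QuadraticMap.polar_smul_right, hy₁e, hy₁f, smul_zero,
      smul_zero, add_zero, add_zero, e', QuadraticMap.polar_add_right,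
      QuadraticMap.polar_add_right]
    exact F₀.add_mem (F₀.add_mem (hcon s₁ h₁ (c₁ 0) (c₁ 1)) (hcon s₂ h₂ (c₂ 0) (c₂ 1)))
      (hcon s₃ h₃ (c₃ 0) (c₃ 1))
  obtain ⟨β, hβd⟩ : ∃ β : F, β = QuadraticMap.polar Q y₁ b := ⟨_, rfl⟩
  rw [← hβd] at hβ
  have hb0 : b ≠ 0 := by
    rintro rfl
    rw [QuadraticMap.polar_zero_right] at hβd
    rw [hβd] at hβ
    exact hβ F₀.zero_mem
  obtain ⟨c, c₂, hc, hc₂, hcc₂, hcc, hc₂c⟩ := rat_hyp R ![e, f, b] (all3 he.1 hf.1 hb.1) (by omega)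
  have hce : QuadraticMap.polar Q c e = 0 := hcc 0
  have hcb : QuadraticMap.polar Q c b = 0 := hcc 2
  have hc₂e : QuadraticMap.polar Q c₂ e = 0 := hc₂c 0
  have hc₂b : QuadraticMap.polar Q c₂ b = 0 := hc₂c 2
  have hbb : QuadraticMap.polar Q b b = 0 := by rw [polar_self', hb.2, mul_zero]
  -- first conjugation
  have hT1 : siegG Q b c ∈ M := siegG_mem_M R hM hb hc.1 (hcomm _ _ hcb)
  have h2 := siegG_conj_mem Q hT1 hT₁
  rw [siegG_fix Q (hcomm _ _ hbe) (hcomm _ _ hce),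
    siegG_apply_ts Q hb.2 hc.2 (hcomm _ _ hcb), ← hβd] at h2
  obtain ⟨y₂, hy₂⟩ : ∃ y₂ : ι → F, y₂ = QuadraticMap.polar Q y₁ c • b - β • c := ⟨_, rfl⟩
  have hey₂ : QuadraticMap.polar Q e y₂ = 0 := by
    rw [hy₂, QuadraticMap.polar_sub_right, QuadraticMap.polar_smul_right,
      QuadraticMap.polar_smul_right, hcomm _ _ hbe, hcomm _ _ hce, smul_zero, smul_zero, sub_zero]
  have h3 : siegG Q e y₂ ∈ M := by
    have e1 : y₂ = (y₁ + QuadraticMap.polar Q y₁ c • b - β • c) - y₁ := by rw [hy₂]; abel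
    rw [e1]
    refine siegG_sub_mem Q he.2 ?_ hey₁ h2 hT₁
    rw [QuadraticMap.polar_sub_right, QuadraticMap.polar_add_right, QuadraticMap.polar_smul_right,
      QuadraticMap.polar_smul_right, hey₁, hcomm _ _ hbe, hcomm _ _ hce, smul_zero, smul_zero,
      add_zero, sub_zero]
  -- second conjugation
  have hT2 : siegG Q b c₂ ∈ M := siegG_mem_M R hM hb hc₂.1 (hcomm _ _ hc₂b)
  have h4 := siegG_conj_mem Q hT2 h3
  have hy₂c₂ : QuadraticMap.polar Q y₂ c₂ = -β := by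
    rw [hy₂, QuadraticMap.polar_sub_left, QuadraticMap.polar_smul_left,
      QuadraticMap.polar_smul_left, hcomm _ _ hc₂b, hcc₂, smul_zero, zero_sub, smul_eq_mul,
      mul_one]
  have hy₂b : QuadraticMap.polar Q y₂ b = 0 := by
    rw [hy₂, QuadraticMap.polar_sub_left, QuadraticMap.polar_smul_left,
      QuadraticMap.polar_smul_left, hbb, hcb, smul_zero, smul_zero, sub_zero]
  rw [siegG_fix Q (hcomm _ _ hbe) (hcomm _ _ hc₂e),
    siegG_apply_ts Q hb.2 hc₂.2 (hcomm _ _ hc₂b), hy₂c₂, hy₂b, zero_smul, sub_zero] at h4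
  have h5 : siegG Q e ((-β) • b) ∈ M := by
    have e1 : (-β) • b = (y₂ + (-β) • b) - y₂ := by abel
    rw [e1]
    refine siegG_sub_mem Q he.2 ?_ hey₂ h4 h3
    rw [QuadraticMap.polar_add_right, QuadraticMap.polar_smul_right, hey₂, hcomm _ _ hbe,
      smul_zero, add_zero]
  refine ⟨-β, not_mem_neg hβ, Dset_of_out R hN hM he hb he0 (hcomm _ _ hbe) ?_ h5⟩
  intro x hx
  have h6 := hbf
  rw [hx, QuadraticMap.polar_smul_left, hef, smul_eq_mul, mul_one] at h6
  apply hb0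
  rw [hx, h6, zero_smul]

/-- extracting an element from the conjugate of a product. -/
theorem conj_pair {G : Type*} [Group G] {M : Subgroup G} {h A B X : G} (hh : h ∈ M)
    (hτ : A * B ∈ M) (e : (h * A * h⁻¹) * (h * B * h⁻¹) = A * B * X) : X ∈ M := by
  have h1 : h * (A * B) * h⁻¹ ∈ M := M.mul_mem (M.mul_mem hh hτ) (M.inv_mem hh)
  have h2 : h * (A * B) * h⁻¹ = A * B * X := by rw [← e]; group
  rw [h2] at h1
  have h3 := M.mul_mem (M.inv_mem hτ) h1
  rwa [← mul_assoc, inv_mul_cancel, one_mul] at h3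

/-- the coordinates of an element of `M` in the abelian group attached to a rational totally
singular plane. -/
theorem ext3 (R : OD Q F₀) {M : Subgroup ↥(Isom Q)}
    (hM : ∀ g ∈ SG Q, InH Q F₀ g → g ∈ M) {e₁ e₂ e₃ : ι → F} (h₁ : RSg Q F₀ e₁)
    (h₂ : RSg Q F₀ e₂) (h₃ : RSg Q F₀ e₃) (h12 : QuadraticMap.polar Q e₁ e₂ = 0)
    (h13 : QuadraticMap.polar Q e₁ e₃ = 0) (h23 : QuadraticMap.polar Q e₂ e₃ = 0)
    (hi2 : ∀ x y : F, e₂ ≠ x • e₁ + y • e₃) (hi3 : ∀ x y : F, e₃ ≠ x • e₁ + y • e₂)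
    {α β γ : F} (hτ : siegG Q e₁ (α • e₂ + β • e₃) * siegG Q e₂ (γ • e₃) ∈ M) :
    siegG Q e₁ (α • e₃) ∈ M ∧ siegG Q e₁ (β • e₂) ∈ M ∧ siegG Q e₂ (γ • e₁) ∈ M := by
  have h21 : QuadraticMap.polar Q e₂ e₁ = 0 := by rw [QuadraticMap.polar_comm]; exact h12
  have h31 : QuadraticMap.polar Q e₃ e₁ = 0 := by rw [QuadraticMap.polar_comm]; exact h13
  have h32 : QuadraticMap.polar Q e₃ e₂ = 0 := by rw [QuadraticMap.polar_comm]; exact h23
  have h11 : QuadraticMap.polar Q e₁ e₁ = 0 := by rw [polar_self', h₁.2, mul_zero]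
  have h22 : QuadraticMap.polar Q e₂ e₂ = 0 := by rw [polar_self', h₂.2, mul_zero]
  have h33 : QuadraticMap.polar Q e₃ e₃ = 0 := by rw [polar_self', h₃.2, mul_zero]
  obtain ⟨f₃, hf₃, he₃f₃, hf₃c⟩ := rat_partner R ![e₁, e₂] (all2 h₁.1 h₂.1) h₃ (all2 h31 h32) (by
    intro x hx
    rw [Fin.sum_univ_two] at hx
    exact hi3 (x 0) (x 1) hx)
  have hf₃1 : QuadraticMap.polar Q f₃ e₁ = 0 := hf₃c 0
  have hf₃2 : QuadraticMap.polar Q f₃ e₂ = 0 := hf₃c 1
  have h1f₃ : QuadraticMap.polar Q e₁ f₃ = 0 := by rw [QuadraticMap.polar_comm]; exact hf₃1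
  have h2f₃ : QuadraticMap.polar Q e₂ f₃ = 0 := by rw [QuadraticMap.polar_comm]; exact hf₃2
  obtain ⟨f₂, hf₂, he₂f₂, hf₂c⟩ := rat_partner R ![e₁, e₃] (all2 h₁.1 h₃.1) h₂ (all2 h21 h23) (by
    intro x hx
    rw [Fin.sum_univ_two] at hx
    exact hi2 (x 0) (x 1) hx)
  have hf₂1 : QuadraticMap.polar Q f₂ e₁ = 0 := hf₂c 0
  have hf₂3 : QuadraticMap.polar Q f₂ e₃ = 0 := hf₂c 1
  have h1f₂ : QuadraticMap.polar Q e₁ f₂ = 0 := by rw [QuadraticMap.polar_comm]; exact hf₂1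
  have h3f₂ : QuadraticMap.polar Q e₃ f₂ = 0 := by rw [QuadraticMap.polar_comm]; exact hf₂3
  have hA : QuadraticMap.polar Q e₁ (α • e₂ + β • e₃) = 0 := by
    rw [QuadraticMap.polar_add_right, QuadraticMap.polar_smul_right,
      QuadraticMap.polar_smul_right, h12, h13, smul_zero, smul_zero, add_zero]
  have hB : QuadraticMap.polar Q e₂ (γ • e₃) = 0 := by
    rw [QuadraticMap.polar_smul_right, h23, smul_zero]
  have p1 : ∀ c : F, ∀ v : ι → F, QuadraticMap.polar Q e₁ v = 0 →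
      QuadraticMap.polar Q e₁ (c • v) = 0 := by
    intro c v hv
    rw [QuadraticMap.polar_smul_right, hv, smul_zero]
  have p2 : ∀ c : F, ∀ v : ι → F, QuadraticMap.polar Q e₂ v = 0 →
      QuadraticMap.polar Q e₂ (c • v) = 0 := by
    intro c v hv
    rw [QuadraticMap.polar_smul_right, hv, smul_zero]
  refine ⟨?_, ?_, ?_⟩
  · -- conjugation by the map `e₂ ↦ e₂ + e₃`
    have hh : siegG Q e₃ f₂ ∈ M := siegG_mem_M R hM h₃ hf₂.1 h3f₂
    refine conj_pair hh hτ ?_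
    rw [siegG_conj, siegG_conj, siegG_fix Q h13 h1f₂, map_smul, map_add, map_smul, map_smul,
      siegG_fix Q h33 h3f₂, siegG_apply_ts Q h₃.2 hf₂.2 h3f₂, he₂f₂, h23, one_smul, zero_smul,
      sub_zero]
    have e1 : α • (e₂ + e₃) + β • e₃ = (α • e₂ + β • e₃) + α • e₃ := by module
    rw [e1, ← siegG_mul Q h₁.2 hA (p1 _ _ h13),
      siegG_add_left Q h₂.2 h₃.2 (by rw [QuadraticMap.map_smul, h₃.2, smul_zero]) h23 hB
        (by rw [QuadraticMap.polar_smul_right, h33, smul_zero]),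
      siegG_self_smul Q h₃.2, mul_one, mul_assoc, mul_assoc,
      siegG_comm Q h21 (p2 _ _ h23) (by rw [QuadraticMap.polar_smul_left, h31, smul_zero])
        (by rw [QuadraticMap.polar_smul_left, QuadraticMap.polar_smul_right, h33, smul_zero,
          smul_zero])]
  · -- conjugation by the map `e₃ ↦ e₃ + e₂`
    have hh : siegG Q e₂ f₃ ∈ M := siegG_mem_M R hM h₂ hf₃.1 h2f₃
    refine conj_pair hh hτ ?_
    rw [siegG_conj, siegG_conj, siegG_fix Q h12 h1f₃, siegG_fix Q h22 h2f₃, map_smul, map_add,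
      map_smul, map_smul, siegG_fix Q h22 h2f₃, siegG_apply_ts Q h₂.2 hf₃.2 h2f₃, he₃f₃, h32,
      one_smul, zero_smul, sub_zero]
    have e1 : α • e₂ + β • (e₃ + e₂) = (α • e₂ + β • e₃) + β • e₂ := by module
    have e2 : γ • (e₃ + e₂) = γ • e₃ + γ • e₂ := by module
    rw [e1, e2, ← siegG_mul Q h₁.2 hA (p1 _ _ h12), ← siegG_mul Q h₂.2 hB (p2 _ _ h22),
      siegG_self_smul Q h₂.2, mul_one, mul_assoc, mul_assoc,
      siegG_comm Q h21 (p2 _ _ h22) (by rw [QuadraticMap.polar_smul_left, h31, smul_zero])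
        (by rw [QuadraticMap.polar_smul_left, QuadraticMap.polar_smul_right, h32, smul_zero,
          smul_zero])]
  · -- conjugation by the map `e₃ ↦ e₃ + e₁`
    have hh : siegG Q e₁ f₃ ∈ M := siegG_mem_M R hM h₁ hf₃.1 h1f₃
    refine conj_pair hh hτ ?_
    rw [siegG_conj, siegG_conj, siegG_fix Q h11 h1f₃, siegG_fix Q h21 h2f₃, map_smul, map_add,
      map_smul, map_smul, siegG_fix Q h21 h2f₃, siegG_apply_ts Q h₁.2 hf₃.2 h1f₃, he₃f₃, h31,
      one_smul, zero_smul, sub_zero]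
    have e1 : α • e₂ + β • (e₃ + e₁) = (α • e₂ + β • e₃) + β • e₁ := by module
    have e2 : γ • (e₃ + e₁) = γ • e₃ + γ • e₁ := by module
    rw [e1, e2, ← siegG_mul Q h₁.2 hA (p1 _ _ h11), ← siegG_mul Q h₂.2 hB (p2 _ _ h21),
      siegG_self_smul Q h₁.2, mul_one, mul_assoc]

end Cfsg.Agent.Helper7.OSub
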