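import Mathlib
import Cfsg.Agent.Helper7.OSubH

set_option autoImplicit false
set_option linter.unusedSectionVars false

/-! Subfield subgroups of orthogonal groups, part I: the image of a rational singular point is an
irrational point of a rational totally singular line (helper7). -/

namespace Cfsg.Agent.Helper7.OSub

open Module Matrix Cfsg.Agent.Helper8.QuadForm Cfsg.Agent.Helper8.WittQuad
  Cfsg.Agent.Helper8.OrthOrder Cfsg.Agent.Helper8.Siegel Cfsg.Agent.Helper8.SiegelGroup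
  Cfsg.Agent.Helper7.OrthMax Cfsg.Agent.Helper7.OrthPair Cfsg.Agent.Helper7.SpSub

variable {F : Type*} [Field F] [Fintype F] {ι : Type} [Fintype ι] [DecidableEq ι]
  {F₀ : Subfield F} {Q : QuadraticForm F (ι → F)}

/-- a Siegel transformation of `M` at an irrational point of a rational totally singular line
yields an irrational parameter. -/
theorem caseLine (R : OD Q F₀) (hN : 13 ≤ Fintype.card ι) {M : Subgroup ↥(Isom Q)}
    (hM : ∀ g ∈ SG Q, InH Q F₀ g → g ∈ M) {y₁ y₂ w : ι → F} {θ : F} (h₁ : RSg Q F₀ y₁)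
    (h₂ : RSg Q F₀ y₂) (h12 : QuadraticMap.polar Q y₁ y₂ = 0)
    (hind : ∀ s t : F, s • y₁ + t • y₂ = 0 → s = 0 ∧ t = 0) (hθ : θ ∉ F₀)
    (hw : QuadraticMap.polar Q (y₁ + θ • y₂) w = 0) (hT : siegG Q (y₁ + θ • y₂) w ∈ M)
    (hs : QuadraticMap.polar Q w y₂ ≠ 0) : ∃ κ : F, κ ∉ F₀ ∧ κ ∈ Dset Q F₀ M := by
  have hcomm : ∀ u v : ι → F, QuadraticMap.polar Q u v = 0 → QuadraticMap.polar Q v u = 0 :=
    fun u v huv => by rw [QuadraticMap.polar_comm]; exact huv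
  obtain ⟨w₁, f, hw₁, hf, hw₁f, hw₁c, hfc⟩ := rat_hyp R ![y₁, y₂] (all2 h₁.1 h₂.1) (by omega)
  have hw₁1 : QuadraticMap.polar Q w₁ y₁ = 0 := hw₁c 0
  have hw₁2 : QuadraticMap.polar Q w₁ y₂ = 0 := hw₁c 1
  have hf1 : QuadraticMap.polar Q f y₁ = 0 := hfc 0
  have hf2 : QuadraticMap.polar Q f y₂ = 0 := hfc 1
  have h22 : QuadraticMap.polar Q y₂ y₂ = 0 := by rw [polar_self', h₂.2, mul_zero]
  have h11 : QuadraticMap.polar Q y₁ y₁ = 0 := by rw [polar_self', h₁.2, mul_zero]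
  obtain ⟨a, had⟩ : ∃ a : ι → F, a = y₁ + θ • y₂ := ⟨_, rfl⟩
  rw [← had] at hw hT
  have hQa : Q a = 0 := by
    rw [had, QuadraticMap.map_add Q, QuadraticMap.map_smul, h₁.2, h₂.2,
      QuadraticMap.polar_smul_right, h12]
    simp
  have hay₂ : QuadraticMap.polar Q a y₂ = 0 := by
    rw [had, QuadraticMap.polar_add_left, QuadraticMap.polar_smul_left, h12, h22, smul_zero,
      add_zero]
  have haw₁ : QuadraticMap.polar Q a w₁ = 0 := by
    rw [had, QuadraticMap.polar_add_left, QuadraticMap.polar_smul_left, hcomm _ _ hw₁1,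
      hcomm _ _ hw₁2, smul_zero, add_zero]
  have hh : siegG Q y₂ w₁ ∈ M := siegG_mem_M R hM h₂ hw₁.1 (hcomm _ _ hw₁2)
  have h2 := siegG_conj_mem Q hh hT
  rw [siegG_fix Q hay₂ haw₁, siegG_apply_ts Q h₂.2 hw₁.2 (hcomm _ _ hw₁2)] at h2
  obtain ⟨t, htd⟩ : ∃ t : F, t = QuadraticMap.polar Q w w₁ := ⟨_, rfl⟩
  obtain ⟨s, hsd⟩ : ∃ s : F, s = QuadraticMap.polar Q w y₂ := ⟨_, rfl⟩
  rw [← htd, ← hsd] at h2
  rw [← hsd] at hs
  have h3 : siegG Q a (t • y₂ - s • w₁) ∈ M := by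
    have e1 : t • y₂ - s • w₁ = (w + t • y₂ - s • w₁) - w := by abel
    rw [e1]
    refine siegG_sub_mem Q hQa ?_ hw h2 hT
    rw [QuadraticMap.polar_sub_right, QuadraticMap.polar_add_right, QuadraticMap.polar_smul_right,
      QuadraticMap.polar_smul_right, hw, hay₂, haw₁, smul_zero, smul_zero, add_zero, sub_zero]
  have e2 : a = (1 : F) • y₁ + θ • y₂ + (0 : F) • w₁ := by rw [had]; module
  have e3 : t • y₂ - s • w₁ = (0 : F) • y₁ + t • y₂ + (-s) • w₁ := by module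
  rw [e2, e3, plucker3 Q h₁.2 h₂.2 hw₁.2 h12 (hcomm _ _ hw₁1) (hcomm _ _ hw₁2)] at h3
  have hi2 : ∀ x y : F, y₂ ≠ x • y₁ + y • w₁ := by
    intro x y hxy
    have h4 := hcomm _ _ hf2
    rw [hxy, QuadraticMap.polar_add_left, QuadraticMap.polar_smul_left,
      QuadraticMap.polar_smul_left, hcomm _ _ hf1, hw₁f, smul_zero, zero_add, smul_eq_mul,
      mul_one] at h4
    rw [h4, zero_smul, add_zero] at hxy
    have := hind x (-1) (by rw [neg_one_smul, ← hxy, add_neg_cancel])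
    exact one_ne_zero (neg_eq_zero.mp this.2)
  have hi3 : ∀ x y : F, w₁ ≠ x • y₁ + y • y₂ := by
    intro x y hxy
    have h4 := hw₁f
    rw [hxy, QuadraticMap.polar_add_left, QuadraticMap.polar_smul_left,
      QuadraticMap.polar_smul_left, hcomm _ _ hf1, hcomm _ _ hf2, smul_zero, smul_zero,
      add_zero] at h4
    exact zero_ne_one h4
  obtain ⟨-, hβ, hγ⟩ := ext3 R hM h₁ h₂ hw₁ h12 (hcomm _ _ hw₁1) (hcomm _ _ hw₁2) hi2 hi3 h3
  have hy₁0 : y₁ ≠ 0 := by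
    rintro rfl
    have := hind 1 0 (by rw [smul_zero, zero_smul, add_zero])
    exact one_ne_zero this.1
  have hy₂0 : y₂ ≠ 0 := by
    rintro rfl
    have := hind 0 1 (by rw [smul_zero, zero_smul, add_zero])
    exact one_ne_zero this.2
  by_cases hsr : s ∈ F₀
  · have hγ' : θ * -s - 0 * t ∉ F₀ := by
      intro h
      apply hθ
      have e : θ = -((θ * -s - 0 * t) * s⁻¹) := by
        field_simp
        ring
      rw [e]
      exact F₀.neg_mem (F₀.mul_mem h (F₀.inv_mem hsr))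
    refine ⟨_, hγ', Dset_of_out R hN hM h₂ h₁ hy₂0 (hcomm _ _ h12) ?_ hγ⟩
    intro x hx
    have := hind 1 (-x) (by rw [one_smul, neg_smul, ← hx, add_neg_cancel])
    exact one_ne_zero this.1
  · have hβ' : 1 * -s - 0 * 0 ∉ F₀ := by
      intro h
      apply hsr
      have e : s = -(1 * -s - 0 * 0) := by ring
      rw [e]
      exact F₀.neg_mem h
    refine ⟨_, hβ', Dset_of_out R hN hM h₁ h₂ hy₁0 h12 ?_ hβ⟩
    intro x hx
    have := hind (-x) 1 (by rw [one_smul, neg_smul, ← hx, neg_add_cancel])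
    exact one_ne_zero this.2

/-- an element of `M` carrying a rational singular vector to an irrational point of a rational
totally singular line yields an irrational parameter. -/
theorem lineOut (R : OD Q F₀) (hN : 13 ≤ Fintype.card ι) {M : Subgroup ↥(Isom Q)}
    (hM : ∀ g ∈ SG Q, InH Q F₀ g → g ∈ M) {g : ↥(Isom Q)} (hg : g ∈ M) {a₀ : ι → F}
    (ha₀ : RSg Q F₀ a₀) (ha₀0 : a₀ ≠ 0)
    (hirr : ¬ PRatV F₀ ((g : (ι → F) ≃ₗ[F] (ι → F)) a₀)) {y₁ y₂ : ι → F} (h₁ : RSg Q F₀ y₁)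
    (h₂ : RSg Q F₀ y₂) (h12 : QuadraticMap.polar Q y₁ y₂ = 0)
    (hind : ∀ s t : F, s • y₁ + t • y₂ = 0 → s = 0 ∧ t = 0) {s₁ s₂ : F}
    (hexp : (g : (ι → F) ≃ₗ[F] (ι → F)) a₀ = s₁ • y₁ + s₂ • y₂) :
    ∃ κ : F, κ ∉ F₀ ∧ κ ∈ Dset Q F₀ M := by
  have hs₁ : s₁ ≠ 0 := by
    rintro rfl
    rw [zero_smul, zero_add] at hexp
    apply hirr
    rw [hexp]
    by_cases hs₂ : s₂ = 0
    · rw [hs₂, zero_smul]; exact RatV.zero.pRatV
    · exact h₂.1.pRatV.smul hs₂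
  obtain ⟨θ, hθd⟩ : ∃ θ : F, θ = s₂ / s₁ := ⟨_, rfl⟩
  have hexp' : (g : (ι → F) ≃ₗ[F] (ι → F)) a₀ = s₁ • (y₁ + θ • y₂) := by
    rw [hexp, hθd, smul_add, smul_smul, mul_div_cancel₀ _ hs₁]
  have hθ : θ ∉ F₀ := by
    intro h
    apply hirr
    rw [hexp']
    exact (h₁.1.add (h₂.1.smul h)).pRatV.smul hs₁
  obtain ⟨a, had⟩ : ∃ a : ι → F, a = y₁ + θ • y₂ := ⟨_, rfl⟩
  rw [← had] at hexp'
  have h22 : QuadraticMap.polar Q y₂ y₂ = 0 := by rw [polar_self', h₂.2, mul_zero]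
  have hQa : Q a = 0 := by
    rw [had, QuadraticMap.map_add Q, QuadraticMap.map_smul, h₁.2, h₂.2,
      QuadraticMap.polar_smul_right, h12]
    simp
  have hgp : ∀ u v : ι → F, QuadraticMap.polar Q ((g : (ι → F) ≃ₗ[F] (ι → F)) u)
      ((g : (ι → F) ≃ₗ[F] (ι → F)) v) = QuadraticMap.polar Q u v :=
    polar_isometry Q g g.2
  -- a rational vector orthogonal to `a₀` whose image is not orthogonal to `y₂`
  obtain ⟨w₀, hw₀, hw₀a, hw₀y⟩ : ∃ w₀ : ι → F, RatV F₀ w₀ ∧ QuadraticMap.polar Q w₀ a₀ = 0 ∧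
      QuadraticMap.polar Q ((g : (ι → F) ≃ₗ[F] (ι → F)) w₀) y₂ ≠ 0 := by
    by_contra hcon
    push Not at hcon
    obtain ⟨κ, hκ⟩ := perp_rat_perp R ha₀ ha₀0
      (x := (g : (ι → F) ≃ₗ[F] (ι → F)).symm y₂) (by
        intro w hw hwa
        have h1 := hcon w hw hwa
        have e : y₂ = (g : (ι → F) ≃ₗ[F] (ι → F)) ((g : (ι → F) ≃ₗ[F] (ι → F)).symm y₂) :=
          ((g : (ι → F) ≃ₗ[F] (ι → F)).apply_symm_apply y₂).symm
        rw [e, hgp] at h1
        rw [QuadraticMap.polar_comm]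
        exact h1)
    have h2 : y₂ = κ • (g : (ι → F) ≃ₗ[F] (ι → F)) a₀ := by
      rw [← map_smul, ← hκ, LinearEquiv.apply_symm_apply]
    rw [hexp', had, smul_smul] at h2
    have h3 := hind (κ * s₁) (κ * s₁ * θ - 1) (by
      have e : (κ * s₁) • y₁ + (κ * s₁ * θ - 1) • y₂ = (κ * s₁) • (y₁ + θ • y₂) - y₂ := by
        module
      rw [e, ← h2, sub_self])
    have h4 := h3.2
    rw [h3.1, zero_mul, zero_sub] at h4
    exact one_ne_zero (neg_eq_zero.mp h4)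
  have hT0 : siegG Q a₀ w₀ ∈ M :=
    siegG_mem_M R hM ha₀ hw₀ (by rw [QuadraticMap.polar_comm]; exact hw₀a)
  have hT1 := siegG_conj_mem Q hg hT0
  have haw : QuadraticMap.polar Q a ((g : (ι → F) ≃ₗ[F] (ι → F)) w₀) = 0 := by
    have h1 : QuadraticMap.polar Q ((g : (ι → F) ≃ₗ[F] (ι → F)) a₀)
        ((g : (ι → F) ≃ₗ[F] (ι → F)) w₀) = 0 := by
      rw [hgp, QuadraticMap.polar_comm]; exact hw₀a
    rw [hexp', QuadraticMap.polar_smul_left, smul_eq_mul] at h1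
    exact (mul_eq_zero.mp h1).resolve_left hs₁
  rw [hexp', siegG_smul_left Q hQa haw] at hT1
  rw [had] at hT1
  refine caseLine R hN hM h₁ h₂ h12 hind hθ ?_ hT1 ?_
  · rw [← had, QuadraticMap.polar_smul_right, haw, smul_zero]
  · rw [QuadraticMap.polar_smul_left, smul_eq_mul]
    exact mul_ne_zero hs₁ hw₀y

end Cfsg.Agent.Helper7.OSub
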