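import Mathlib
import Cfsg.Agent.Helper7.OSubI

set_option autoImplicit false
set_option linter.unusedSectionVars false
set_option maxHeartbeats 1600000

/-! Subfield subgroups of orthogonal groups, part J: the image of a rational totally singular line
is orthogonal to a non-zero rational singular vector (helper7). -/

namespace Cfsg.Agent.Helper7.OSub

open Module Matrix Cfsg.Agent.Helper8.QuadForm Cfsg.Agent.Helper8.WittQuad
  Cfsg.Agent.Helper8.OrthOrder Cfsg.Agent.Helper8.Siegel Cfsg.Agent.Helper8.SiegelGroup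
  Cfsg.Agent.Helper7.OrthMax Cfsg.Agent.Helper7.OrthPair Cfsg.Agent.Helper7.SpSub

variable {F : Type*} [Field F] [Fintype F] {ι : Type} [Fintype ι] [DecidableEq ι]
  {F₀ : Subfield F} {Q : QuadraticForm F (ι → F)}

theorem not_mem_mul_rat {κ t : F} (hκ : κ ∉ F₀) (ht : t ∈ F₀) (ht0 : t ≠ 0) : κ * t ∉ F₀ := by
  intro h
  apply hκ
  have := F₀.mul_mem h (F₀.inv_mem ht)
  rwa [mul_assoc, mul_inv_cancel₀ ht0, mul_one] at this

/-- the first case: the rational singular vector lies on the image line. -/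
theorem caseA_on (R : OD Q F₀) (hN : 13 ≤ Fintype.card ι) {M : Subgroup ↥(Isom Q)}
    (hM : ∀ g ∈ SG Q, InH Q F₀ g → g ∈ M) {g : ↥(Isom Q)} (hg : g ∈ M) {a₀ : ι → F}
    (ha₀ : RSg Q F₀ a₀) (ha₀0 : a₀ ≠ 0)
    (hirr : ¬ PRatV F₀ ((g : (ι → F) ≃ₗ[F] (ι → F)) a₀)) {b' : ι → F}
    (hτ : siegG Q ((g : (ι → F) ≃ₗ[F] (ι → F)) a₀) b' ∈ M) {e : ι → F} (he : RSg Q F₀ e)
    (he0 : e ≠ 0) (hea : QuadraticMap.polar Q e ((g : (ι → F) ≃ₗ[F] (ι → F)) a₀) = 0)
    {α β : F} (hαβ : e = α • (g : (ι → F) ≃ₗ[F] (ι → F)) a₀ + β • b') :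
    ∃ κ : F, κ ∉ F₀ ∧ κ ∈ Dset Q F₀ M := by
  obtain ⟨a', ha'd⟩ : ∃ a' : ι → F, a' = (g : (ι → F) ≃ₗ[F] (ι → F)) a₀ := ⟨_, rfl⟩
  rw [← ha'd] at hirr hτ hea hαβ
  have hQa' : Q a' = 0 := by rw [ha'd, g.2 a₀]; exact ha₀.2
  have haa : QuadraticMap.polar Q a' a' = 0 := by rw [polar_self', hQa', mul_zero]
  have hee : QuadraticMap.polar Q e e = 0 := by rw [polar_self', he.2, mul_zero]
  have hae : QuadraticMap.polar Q a' e = 0 := by rw [QuadraticMap.polar_comm]; exact hea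
  have hnot : ∀ c : F, a' ≠ c • e := by
    intro c hc
    apply hirr
    rw [hc]
    by_cases hc0 : c = 0
    · rw [hc0, zero_smul]; exact RatV.zero.pRatV
    · exact he.1.pRatV.smul hc0
  have hβ : β ≠ 0 := by
    rintro rfl
    rw [zero_smul, add_zero] at hαβ
    have hα : α ≠ 0 := by
      rintro rfl
      rw [zero_smul] at hαβ
      exact he0 hαβ
    apply hnot α⁻¹
    rw [hαβ, smul_smul, inv_mul_cancel₀ hα, one_smul]
  have hb' : b' = β⁻¹ • e + (-(β⁻¹ * α)) • a' := by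
    rw [hαβ, smul_add, smul_smul, smul_smul, inv_mul_cancel₀ hβ, one_smul, neg_smul]
    abel
  have h1 : QuadraticMap.polar Q a' (β⁻¹ • e) = 0 := by
    rw [QuadraticMap.polar_smul_right, hae, smul_zero]
  have h2 : QuadraticMap.polar Q a' ((-(β⁻¹ * α)) • a') = 0 := by
    rw [QuadraticMap.polar_smul_right, haa, smul_zero]
  rw [hb', ← siegG_mul Q hQa' h1 h2, siegG_self_smul Q hQa', mul_one,
    siegG_swap Q hQa' (by rw [QuadraticMap.map_smul, he.2, smul_zero]) h1,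
    siegG_smul_left Q he.2 (by rw [QuadraticMap.polar_neg_right, hea, neg_zero])] at hτ
  obtain ⟨y, hyd⟩ : ∃ y : ι → F, y = β⁻¹ • -a' := ⟨_, rfl⟩
  rw [← hyd] at hτ
  have hey : QuadraticMap.polar Q e y = 0 := by
    rw [hyd, QuadraticMap.polar_smul_right, QuadraticMap.polar_neg_right, hea, neg_zero,
      smul_zero]
  have hQy : Q y = 0 := by
    rw [hyd, QuadraticMap.map_smul, QuadraticMap.map_neg, hQa', smul_zero]
  have ha'y : a' = (-β) • y := by
    rw [hyd, smul_smul, neg_mul, mul_inv_cancel₀ hβ, neg_smul, one_smul, neg_neg]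
  by_cases hy : ∀ κ : F, ¬ RatV F₀ (y - κ • e)
  · exact caseQ R hN hM he he0 hey hy hτ
  push Not at hy
  obtain ⟨κ, hκ⟩ := hy
  obtain ⟨v, hvd⟩ : ∃ v : ι → F, v = y - κ • e := ⟨_, rfl⟩
  rw [← hvd] at hκ
  have hyv : y = v + κ • e := by rw [hvd]; abel
  have hve : QuadraticMap.polar Q v e = 0 := by
    rw [hvd, QuadraticMap.polar_sub_left, QuadraticMap.polar_smul_left, hee,
      QuadraticMap.polar_comm, hey, smul_zero, sub_zero]
  have hQv : Q v = 0 := by
    have e1 : v = y + (-κ) • e := by rw [hvd, neg_smul]; abel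
    rw [e1, QuadraticMap.map_add Q, QuadraticMap.map_smul, he.2, hQy,
      QuadraticMap.polar_smul_right, QuadraticMap.polar_comm, hey]
    simp
  have hindve : ∀ s t : F, s • v + t • e = 0 → s = 0 ∧ t = 0 := by
    intro s t hst
    have hs : s = 0 := by
      by_contra hs
      have e1 : v = (-(s⁻¹ * t)) • e := by
        have : s • v = -(t • e) := eq_neg_of_add_eq_zero_left hst
        have h3 : v = s⁻¹ • (s • v) := by rw [smul_smul, inv_mul_cancel₀ hs, one_smul]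
        rw [h3, this, smul_neg, smul_smul, neg_smul]
      apply hnot ((-β) * (-(s⁻¹ * t) + κ))
      rw [ha'y, hyv, e1, ← add_smul, smul_smul]
    rw [hs, zero_smul, zero_add] at hst
    exact ⟨hs, (smul_eq_zero.mp hst).resolve_right he0⟩
  refine lineOut R hN hM hg ha₀ ha₀0 (by rw [← ha'd]; exact hirr) ⟨hκ, hQv⟩ he hve hindve
    (s₁ := -β) (s₂ := -β * κ) ?_
  rw [← ha'd, ha'y, hyv, smul_add, smul_smul]

end Cfsg.Agent.Helper7.OSub
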