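import Mathlib
import Cfsg.Agent.Helper7.OSubJ

set_option autoImplicit false
set_option linter.unusedSectionVars false
set_option maxHeartbeats 1600000

/-! Subfield subgroups of orthogonal groups, part K: the image of a rational totally singular line
is orthogonal to a non-zero rational singular vector outside it (helper7). -/

namespace Cfsg.Agent.Helper7.OSub

open Module Matrix Cfsg.Agent.Helper8.QuadForm Cfsg.Agent.Helper8.WittQuad
  Cfsg.Agent.Helper8.OrthOrder Cfsg.Agent.Helper8.Siegel Cfsg.Agent.Helper8.SiegelGroup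
  Cfsg.Agent.Helper7.OrthMax Cfsg.Agent.Helper7.OrthPair Cfsg.Agent.Helper7.SpSub

variable {F : Type*} [Field F] [Fintype F] {ι : Type} [Fintype ι] [DecidableEq ι]
  {F₀ : Subfield F} {Q : QuadraticForm F (ι → F)}

/-- the second case: the rational singular vector is orthogonal to the image line and outside
it. -/
theorem caseA_off (R : OD Q F₀) (hN : 13 ≤ Fintype.card ι) {M : Subgroup ↥(Isom Q)}
    (hM : ∀ g ∈ SG Q, InH Q F₀ g → g ∈ M) {g : ↥(Isom Q)} (hg : g ∈ M) {a₀ : ι → F}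
    (ha₀ : RSg Q F₀ a₀) (ha₀0 : a₀ ≠ 0)
    (hirr : ¬ PRatV F₀ ((g : (ι → F) ≃ₗ[F] (ι → F)) a₀)) {b' : ι → F} (hQb' : Q b' = 0)
    (hab' : QuadraticMap.polar Q ((g : (ι → F) ≃ₗ[F] (ι → F)) a₀) b' = 0)
    (hind' : ∀ s t : F, s • (g : (ι → F) ≃ₗ[F] (ι → F)) a₀ + t • b' = 0 → s = 0 ∧ t = 0)
    (hτ : siegG Q ((g : (ι → F) ≃ₗ[F] (ι → F)) a₀) b' ∈ M) {e : ι → F} (he : RSg Q F₀ e)
    (he0 : e ≠ 0) (hea : QuadraticMap.polar Q e ((g : (ι → F) ≃ₗ[F] (ι → F)) a₀) = 0)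
    (heb : QuadraticMap.polar Q e b' = 0)
    (hL : ∀ α β : F, e ≠ α • (g : (ι → F) ≃ₗ[F] (ι → F)) a₀ + β • b') :
    ∃ κ : F, κ ∉ F₀ ∧ κ ∈ Dset Q F₀ M := by
  have hcomm : ∀ u v : ι → F, QuadraticMap.polar Q u v = 0 → QuadraticMap.polar Q v u = 0 :=
    fun u v huv => by rw [QuadraticMap.polar_comm]; exact huv
  obtain ⟨a', ha'd⟩ : ∃ a' : ι → F, a' = (g : (ι → F) ≃ₗ[F] (ι → F)) a₀ := ⟨_, rfl⟩
  rw [← ha'd] at hirr hτ hea hab' hind' hL
  have hQa' : Q a' = 0 := by rw [ha'd, g.2 a₀]; exact ha₀.2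
  have haa : QuadraticMap.polar Q a' a' = 0 := by rw [polar_self', hQa', mul_zero]
  have hbb : QuadraticMap.polar Q b' b' = 0 := by rw [polar_self', hQb', mul_zero]
  have hba : QuadraticMap.polar Q b' a' = 0 := hcomm _ _ hab'
  have hee : QuadraticMap.polar Q e e = 0 := by rw [polar_self', he.2, mul_zero]
  have hnot : ∀ c : F, a' ≠ c • e := by
    intro c hc
    apply hirr
    rw [hc]
    by_cases hc0 : c = 0
    · rw [hc0, zero_smul]; exact RatV.zero.pRatV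
    · exact he.1.pRatV.smul hc0
  -- combinations of `a'` and `b'`
  have hQc : ∀ x y : F, Q (x • a' + y • b') = 0 := by
    intro x y
    rw [QuadraticMap.map_add Q, QuadraticMap.map_smul, QuadraticMap.map_smul, hQa', hQb',
      QuadraticMap.polar_smul_left, QuadraticMap.polar_smul_right, hab']
    simp
  have hPc : ∀ x y x' y' : F, QuadraticMap.polar Q (x • a' + y • b') (x' • a' + y' • b') = 0 := by
    intro x y x' y'
    simp only [QuadraticMap.polar_add_left, QuadraticMap.polar_add_right,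
      QuadraticMap.polar_smul_left, QuadraticMap.polar_smul_right, hab', hba, haa, hbb,
      smul_eq_mul, mul_zero, add_zero]
  have hec : ∀ x y : F, QuadraticMap.polar Q e (x • a' + y • b') = 0 := by
    intro x y
    rw [QuadraticMap.polar_add_right, QuadraticMap.polar_smul_right,
      QuadraticMap.polar_smul_right, hea, heb, smul_zero, smul_zero, add_zero]
  have hfc : ∀ (f : ι → F) (x y : F), QuadraticMap.polar Q f (x • a' + y • b') =
      x * QuadraticMap.polar Q f a' + y * QuadraticMap.polar Q f b' := by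
    intro f x y
    rw [QuadraticMap.polar_add_right, QuadraticMap.polar_smul_right,
      QuadraticMap.polar_smul_right, smul_eq_mul, smul_eq_mul]
  -- the Siegel transformations at `e` obtained from the rational ones
  have hNf : ∀ f : ι → F, RatV F₀ f → QuadraticMap.polar Q f e = 0 →
      siegG Q e (QuadraticMap.polar Q f b' • a' + (-QuadraticMap.polar Q f a') • b') ∈ M := by
    intro f hf hfe
    have hTf : siegG Q e f ∈ M := siegG_mem_M R hM he hf (hcomm _ _ hfe)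
    have h1 := siegG_conj_mem Q hτ hTf
    rw [siegG_fix Q hea heb, siegG_apply_ts Q hQa' hQb' hab'] at h1
    have e1 : QuadraticMap.polar Q f b' • a' + (-QuadraticMap.polar Q f a') • b' =
        (f + QuadraticMap.polar Q f b' • a' - QuadraticMap.polar Q f a' • b') - f := by
      rw [neg_smul]; abel
    rw [e1]
    refine siegG_sub_mem Q he.2 ?_ (hcomm _ _ hfe) h1 hTf
    rw [QuadraticMap.polar_sub_right, QuadraticMap.polar_add_right, QuadraticMap.polar_smul_right,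
      QuadraticMap.polar_smul_right, hcomm _ _ hfe, hea, heb, smul_zero, smul_zero, add_zero,
      sub_zero]
  by_cases hAi : ∃ f : ι → F, RatV F₀ f ∧ QuadraticMap.polar Q f e = 0 ∧ ∀ κ : F,
      ¬ RatV F₀ (QuadraticMap.polar Q f b' • a' + (-QuadraticMap.polar Q f a') • b' - κ • e)
  · obtain ⟨f, hf, hfe, hy⟩ := hAi
    exact caseQ R hN hM he he0 (hec _ _) hy (hNf f hf hfe)
  push Not at hAi
  -- the first rational vector
  obtain ⟨f₁, hf₁, hf₁e, hα₁⟩ : ∃ f₁ : ι → F, RatV F₀ f₁ ∧ QuadraticMap.polar Q f₁ e = 0 ∧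
      QuadraticMap.polar Q f₁ a' ≠ 0 := by
    by_contra hcon
    push Not at hcon
    obtain ⟨κ, hκ⟩ := perp_rat_perp R he he0 (x := a') (fun w hw hwe => by
      rw [QuadraticMap.polar_comm]; exact hcon w hw hwe)
    exact hnot κ hκ
  obtain ⟨α₁, hα₁d⟩ : ∃ α₁ : F, α₁ = QuadraticMap.polar Q f₁ a' := ⟨_, rfl⟩
  obtain ⟨β₁, hβ₁d⟩ : ∃ β₁ : F, β₁ = QuadraticMap.polar Q f₁ b' := ⟨_, rfl⟩
  rw [← hα₁d] at hα₁
  obtain ⟨u₁, hu₁d⟩ : ∃ u₁ : ι → F, u₁ = β₁ • a' + (-α₁) • b' := ⟨_, rfl⟩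
  have hu₁0 : u₁ ≠ 0 := by
    intro h
    rw [hu₁d] at h
    exact hα₁ (neg_eq_zero.mp (hind' _ _ h).2)
  -- the second rational vector
  obtain ⟨f₂, hf₂, hf₂e, hf₂u₁⟩ : ∃ f₂ : ι → F, RatV F₀ f₂ ∧ QuadraticMap.polar Q f₂ e = 0 ∧
      QuadraticMap.polar Q f₂ u₁ ≠ 0 := by
    by_contra hcon
    push Not at hcon
    obtain ⟨κ, hκ⟩ := perp_rat_perp R he he0 (x := u₁) (fun w hw hwe => by
      rw [QuadraticMap.polar_comm]; exact hcon w hw hwe)
    have hκ0 : κ ≠ 0 := by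
      rintro rfl
      rw [zero_smul] at hκ
      exact hu₁0 hκ
    apply hL (κ⁻¹ * β₁) (κ⁻¹ * -α₁)
    have : e = κ⁻¹ • u₁ := by rw [hκ, smul_smul, inv_mul_cancel₀ hκ0, one_smul]
    rw [this, hu₁d, smul_add, smul_smul, smul_smul]
  obtain ⟨α₂, hα₂d⟩ : ∃ α₂ : F, α₂ = QuadraticMap.polar Q f₂ a' := ⟨_, rfl⟩
  obtain ⟨β₂, hβ₂d⟩ : ∃ β₂ : F, β₂ = QuadraticMap.polar Q f₂ b' := ⟨_, rfl⟩
  obtain ⟨u₂, hu₂d⟩ : ∃ u₂ : ι → F, u₂ = β₂ • a' + (-α₂) • b' := ⟨_, rfl⟩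
  obtain ⟨D, hDd⟩ : ∃ D : F, D = α₁ * β₂ - α₂ * β₁ := ⟨_, rfl⟩
  have p11 : QuadraticMap.polar Q f₁ u₁ = 0 := by
    rw [hu₁d, hfc, ← hα₁d, ← hβ₁d]; ring
  have p12 : QuadraticMap.polar Q f₁ u₂ = D := by
    rw [hu₂d, hfc, ← hα₁d, ← hβ₁d, hDd]; ring
  have p21 : QuadraticMap.polar Q f₂ u₁ = -D := by
    rw [hu₁d, hfc, ← hα₂d, ← hβ₂d, hDd]; ring
  have p22 : QuadraticMap.polar Q f₂ u₂ = 0 := by
    rw [hu₂d, hfc, ← hα₂d, ← hβ₂d]; ring
  have hD : D ≠ 0 := by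
    intro h
    apply hf₂u₁
    rw [p21, h, neg_zero]
  obtain ⟨δ, hδd⟩ : ∃ δ : F, δ = D⁻¹ := ⟨_, rfl⟩
  have hδD : δ * D = 1 := by rw [hδd, inv_mul_cancel₀ hD]
  have hδ0 : δ ≠ 0 := by rw [hδd]; exact inv_ne_zero hD
  -- the rational parts
  obtain ⟨κ₁, hκ₁⟩ := hAi f₁ hf₁ hf₁e
  obtain ⟨κ₂, hκ₂⟩ := hAi f₂ hf₂ hf₂e
  rw [← hα₁d, ← hβ₁d, ← hu₁d] at hκ₁
  rw [← hα₂d, ← hβ₂d, ← hu₂d] at hκ₂
  obtain ⟨v₁, hv₁d⟩ : ∃ v₁ : ι → F, v₁ = u₁ - κ₁ • e := ⟨_, rfl⟩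
  obtain ⟨v₂, hv₂d⟩ : ∃ v₂ : ι → F, v₂ = u₂ - κ₂ • e := ⟨_, rfl⟩
  rw [← hv₁d] at hκ₁
  rw [← hv₂d] at hκ₂
  have hu₁v : u₁ = v₁ + κ₁ • e := by rw [hv₁d]; abel
  have hu₂v : u₂ = v₂ + κ₂ • e := by rw [hv₂d]; abel
  have hQu₁ : Q u₁ = 0 := by rw [hu₁d]; exact hQc _ _
  have hQu₂ : Q u₂ = 0 := by rw [hu₂d]; exact hQc _ _
  have heu₁ : QuadraticMap.polar Q e u₁ = 0 := by rw [hu₁d]; exact hec _ _
  have heu₂ : QuadraticMap.polar Q e u₂ = 0 := by rw [hu₂d]; exact hec _ _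
  have hu₁u₂ : QuadraticMap.polar Q u₁ u₂ = 0 := by rw [hu₁d, hu₂d]; exact hPc _ _ _ _
  have hev₁ : QuadraticMap.polar Q e v₁ = 0 := by
    rw [hv₁d, QuadraticMap.polar_sub_right, QuadraticMap.polar_smul_right, heu₁, hee, smul_zero,
      sub_zero]
  have hev₂ : QuadraticMap.polar Q e v₂ = 0 := by
    rw [hv₂d, QuadraticMap.polar_sub_right, QuadraticMap.polar_smul_right, heu₂, hee, smul_zero,
      sub_zero]
  have hQv₁ : Q v₁ = 0 := by
    have e1 : v₁ = u₁ + (-κ₁) • e := by rw [hv₁d, neg_smul]; abel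
    rw [e1, QuadraticMap.map_add Q, QuadraticMap.map_smul, he.2, hQu₁,
      QuadraticMap.polar_smul_right, hcomm _ _ heu₁]
    simp
  have hQv₂ : Q v₂ = 0 := by
    have e1 : v₂ = u₂ + (-κ₂) • e := by rw [hv₂d, neg_smul]; abel
    rw [e1, QuadraticMap.map_add Q, QuadraticMap.map_smul, he.2, hQu₂,
      QuadraticMap.polar_smul_right, hcomm _ _ heu₂]
    simp
  have hv₁v₂ : QuadraticMap.polar Q v₁ v₂ = 0 := by
    rw [hv₁d, hv₂d]
    simp only [QuadraticMap.polar_sub_left, QuadraticMap.polar_sub_right,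
      QuadraticMap.polar_smul_left, QuadraticMap.polar_smul_right, hu₁u₂, heu₂,
      hcomm _ _ heu₁, hee, smul_eq_mul, mul_zero, sub_zero]
  have q11 : QuadraticMap.polar Q f₁ v₁ = 0 := by
    rw [hv₁d, QuadraticMap.polar_sub_right, QuadraticMap.polar_smul_right, p11, hf₁e, smul_zero,
      sub_zero]
  have q12 : QuadraticMap.polar Q f₁ v₂ = D := by
    rw [hv₂d, QuadraticMap.polar_sub_right, QuadraticMap.polar_smul_right, p12, hf₁e, smul_zero,
      sub_zero]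
  have q21 : QuadraticMap.polar Q f₂ v₁ = -D := by
    rw [hv₁d, QuadraticMap.polar_sub_right, QuadraticMap.polar_smul_right, p21, hf₂e, smul_zero,
      sub_zero]
  have q22 : QuadraticMap.polar Q f₂ v₂ = 0 := by
    rw [hv₂d, QuadraticMap.polar_sub_right, QuadraticMap.polar_smul_right, p22, hf₂e, smul_zero,
      sub_zero]
  have hv₁ : RSg Q F₀ v₁ := ⟨hκ₁, hQv₁⟩
  have hv₂ : RSg Q F₀ v₂ := ⟨hκ₂, hQv₂⟩
  -- the decomposition of the long root element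
  have hτ' : siegG Q a' b' = siegG Q u₁ (δ • u₂) := by
    have h1 := plucker2 Q hQa' hQb' hab' β₁ (-α₁) (δ * β₂) (δ * -α₂)
    have e1 : β₁ * (δ * -α₂) - -α₁ * (δ * β₂) = 1 := by
      rw [← hδD, hDd]; ring
    rw [e1, one_smul] at h1
    rw [← h1, hu₁d, hu₂d, smul_add, smul_smul, smul_smul]
  have e2 : u₁ = κ₁ • e + (1 : F) • v₁ + (0 : F) • v₂ := by rw [hu₁v]; module
  have e3 : δ • u₂ = (δ * κ₂) • e + (0 : F) • v₁ + δ • v₂ := by rw [hu₂v]; module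
  rw [hτ', e2, e3, plucker3 Q he.2 hQv₁ hQv₂ hev₁ hev₂ hv₁v₂] at hτ
  have hi2 : ∀ x y : F, v₁ ≠ x • e + y • v₂ := by
    intro x y hxy
    have h1 := q21
    rw [hxy, QuadraticMap.polar_add_right, QuadraticMap.polar_smul_right,
      QuadraticMap.polar_smul_right, hf₂e, q22, smul_zero, smul_zero, add_zero] at h1
    exact hD (neg_eq_zero.mp h1.symm)
  have hi3 : ∀ x y : F, v₂ ≠ x • e + y • v₁ := by
    intro x y hxy
    have h1 := q12
    rw [hxy, QuadraticMap.polar_add_right, QuadraticMap.polar_smul_right,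
      QuadraticMap.polar_smul_right, hf₁e, q11, smul_zero, smul_zero, add_zero] at h1
    exact hD h1.symm
  obtain ⟨hα, hβ, hγ⟩ := ext3 R hM he hv₁ hv₂ hev₁ hev₂ hv₁v₂ hi2 hi3 hτ
  have hv₁0 : v₁ ≠ 0 := by
    rintro rfl
    rw [QuadraticMap.polar_zero_right] at q21
    exact hD (neg_eq_zero.mp q21.symm)
  by_cases hδr : δ ∉ F₀
  · have hc : 1 * δ - 0 * 0 ∉ F₀ := by
      have e : 1 * δ - 0 * 0 = δ := by ring
      rw [e]; exact hδr
    refine ⟨_, hc, Dset_of_out R hN hM hv₁ he hv₁0 (hcomm _ _ hev₁) ?_ hγ⟩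
    intro x hx
    have h1 := hf₂e
    rw [hx, QuadraticMap.polar_smul_right, q21, smul_eq_mul] at h1
    have hx0 : x = 0 := (mul_eq_zero.mp h1).resolve_right (neg_ne_zero.mpr hD)
    apply he0
    rw [hx, hx0, zero_smul]
  rw [not_not] at hδr
  by_cases hκ₁r : κ₁ ∉ F₀
  · have hc : κ₁ * δ - 0 * (δ * κ₂) ∉ F₀ := by
      have e : κ₁ * δ - 0 * (δ * κ₂) = κ₁ * δ := by ring
      rw [e]; exact not_mem_mul_rat hκ₁r hδr hδ0
    refine ⟨_, hc, Dset_of_out R hN hM he hv₁ he0 hev₁ ?_ hβ⟩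
    intro x hx
    have h1 := q21
    rw [hx, QuadraticMap.polar_smul_right, hf₂e, smul_zero] at h1
    exact hD (neg_eq_zero.mp h1.symm)
  rw [not_not] at hκ₁r
  by_cases hκ₂r : κ₂ ∉ F₀
  · have hc : κ₁ * 0 - 1 * (δ * κ₂) ∉ F₀ := by
      have e : κ₁ * 0 - 1 * (δ * κ₂) = -(κ₂ * δ) := by ring
      rw [e]; exact not_mem_neg (not_mem_mul_rat hκ₂r hδr hδ0)
    refine ⟨_, hc, Dset_of_out R hN hM he hv₂ he0 hev₂ ?_ hα⟩
    intro x hx
    have h1 := q12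
    rw [hx, QuadraticMap.polar_smul_right, hf₁e, smul_zero] at h1
    exact hD h1.symm
  rw [not_not] at hκ₂r
  -- the image line is rational
  have hu₁r : RSg Q F₀ u₁ := ⟨by rw [hu₁v]; exact hκ₁.add (he.1.smul hκ₁r), hQu₁⟩
  have hu₂r : RSg Q F₀ u₂ := ⟨by rw [hu₂v]; exact hκ₂.add (he.1.smul hκ₂r), hQu₂⟩
  have hindu : ∀ s t : F, s • u₂ + t • u₁ = 0 → s = 0 ∧ t = 0 := by
    intro s t hst
    have h1 : QuadraticMap.polar Q f₁ (s • u₂ + t • u₁) = 0 := by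
      rw [hst, QuadraticMap.polar_zero_right]
    rw [QuadraticMap.polar_add_right, QuadraticMap.polar_smul_right,
      QuadraticMap.polar_smul_right, p12, p11, smul_zero, add_zero, smul_eq_mul] at h1
    have h2 : QuadraticMap.polar Q f₂ (s • u₂ + t • u₁) = 0 := by
      rw [hst, QuadraticMap.polar_zero_right]
    rw [QuadraticMap.polar_add_right, QuadraticMap.polar_smul_right,
      QuadraticMap.polar_smul_right, p22, p21, smul_zero, zero_add, smul_eq_mul] at h2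
    exact ⟨(mul_eq_zero.mp h1).resolve_right hD,
      (mul_eq_zero.mp h2).resolve_right (neg_ne_zero.mpr hD)⟩
  refine lineOut R hN hM hg ha₀ ha₀0 (by rw [← ha'd]; exact hirr) hu₂r hu₁r (hcomm _ _ hu₁u₂)
    hindu (s₁ := δ * α₁) (s₂ := -(δ * α₂)) ?_
  rw [← ha'd]
  have e4 : a' = (δ * D) • a' := by rw [hδD, one_smul]
  rw [hu₁d, hu₂d]
  conv_lhs => rw [e4, hDd]
  module

end Cfsg.Agent.Helper7.OSub
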