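import Mathlib
import Cfsg.Agent.Helper7.SubFD

set_option autoImplicit false
set_option linter.unusedSectionVars false

/-! Subfield structures for the unitary form, part E: from pointwise to uniform scalars, the
rational structure of a change of basis, and an element of `SU` outside the subfield group
(helper7). -/

namespace Cfsg.Agent.Helper7.SubF

open Matrix Module Cfsg Cfsg.Agent.Helper7.Herm Cfsg.Agent.Helper8.GUOrder
  Cfsg.Agent.Helper8.SURoot Cfsg.Agent.Helper7.SUGen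

variable {F : Type*} [Field F] [Fintype F] {q N : ℕ} [hK : Fact (Fintype.card F = q ^ 2)]

local notation "H" => hermForm N F q

namespace RS

variable {F₀ : Subfield F} {ζ lam : F} {V : Set (Fin N → F)} (R : RS q F₀ ζ lam V)

include R

/-- a rational transvection preserves the rational points. -/
theorem TU_mem {c : Fin N → F} (hc : c ∈ V) {s : F} (hs : s ^ q + s = 0) {w : Fin N → F}
    (hw : w ∈ V) : mt (TU q c s) *ᵥ w ∈ V := by
  rw [TU_mulVec (R.alt c hc) hs]
  apply R.add _ hw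
  apply R.smul _ _ _ hc
  have hsq : s ^ q = -s := by linear_combination hs
  have h1 : (s / ζ) ^ q = s / ζ := by rw [div_pow, R.zeta_pow, hsq, neg_div_neg_eq]
  have h2 : s * H w c = (s / ζ) * (ζ * H w c) := by
    have := R.zeta0
    field_simp
  rw [h2]
  exact F₀.mul_mem (R.mem_of_fix h1) (R.val w hw c hc)

/-- a vector with independent components is not a scalar multiple of a rational point. -/
theorem not_smul_of_indep {w₁ w₂ : Fin N → F} (h1 : w₁ ∈ V) (h2 : w₂ ∈ V) (hI : Indep w₁ w₂)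
    (c : F) {v : Fin N → F} (hv : v ∈ V) : w₁ + lam • w₂ ≠ c • v := by
  intro e
  obtain ⟨d₁, hd₁, d₂, hd₂, rfl⟩ := field_decomp R.card R.lam_nm c
  have e' : (w₁ - d₁ • v) + lam • (w₂ - d₂ • v) = 0 := by
    have : (w₁ - d₁ • v) + lam • (w₂ - d₂ • v) = (w₁ + lam • w₂) - (d₁ + lam * d₂) • v := by
      module
    rw [this, e, sub_self]
  obtain ⟨e1, e2⟩ := R.uniq _ (R.sub h1 (R.smul d₁ hd₁ v hv)) _ (R.sub h2 (R.smul d₂ hd₂ v hv)) e'
  rw [sub_eq_zero] at e1 e2
  have h3 : d₂ • w₁ + (-d₁) • w₂ = 0 := by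
    rw [e1, e2]
    module
  obtain ⟨h4, h5⟩ := hI _ _ h3
  rw [neg_eq_zero] at h5
  apply hI.ne_left
  rw [e1, h5, zero_smul]

/-- from pointwise scalars to a uniform scalar. -/
theorem uniform {A B : Matrix (Fin N) (Fin N) F} (hBA : B * A = 1)
    (h : ∀ w ∈ V, ∃ μ : F, μ ≠ 0 ∧ μ • (A *ᵥ w) ∈ V) :
    ∃ μ : F, μ ≠ 0 ∧ ∀ w ∈ V, μ • (A *ᵥ w) ∈ V := by
  by_cases hex : ∃ w₀ ∈ V, w₀ ≠ 0
  · obtain ⟨w₀, hw₀, hne⟩ := hex
    obtain ⟨μ₀, hμ₀, hm₀⟩ := h w₀ hw₀
    refine ⟨μ₀, hμ₀, fun w hw => ?_⟩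
    by_cases hI : Indep w w₀
    · obtain ⟨μ, hμ, hm⟩ := h w hw
      obtain ⟨μ', hμ', hm'⟩ := h (w + w₀) (R.add _ hw _ hw₀)
      have hI' : Indep (μ • (A *ᵥ w)) (μ₀ • (A *ᵥ w₀)) := (hI.map A B hBA).smul hμ hμ₀
      have e : μ' • (A *ᵥ (w + w₀)) =
          (μ' / μ) • (μ • (A *ᵥ w)) + (μ' / μ₀) • (μ₀ • (A *ᵥ w₀)) := by
        rw [mulVec_add, smul_add, smul_smul, smul_smul, div_mul_cancel₀ _ hμ,
          div_mul_cancel₀ _ hμ₀]
      rw [e] at hm'
      obtain ⟨c1, c2⟩ := R.coef2_mem hm hm₀ hI' hm'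
      have e2 : μ₀ • (A *ᵥ w) = ((μ' / μ₀)⁻¹ * (μ' / μ)) • (μ • (A *ᵥ w)) := by
        rw [smul_smul]
        congr 1
        field_simp
      rw [e2]
      exact R.smul _ (F₀.mul_mem (F₀.inv_mem c2) c1) _ hm
    · unfold Indep at hI
      push Not at hI
      obtain ⟨a, b, hab, hne'⟩ := hI
      have ha : a ≠ 0 := by
        intro ha
        have hb := hne' ha
        rw [ha, zero_smul, zero_add] at hab
        exact hne ((smul_eq_zero.mp hab).resolve_left hb)
      have hw' : w = (-(b / a)) • w₀ := by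
        have h3 : a • w = -(b • w₀) := by
          rw [eq_neg_iff_add_eq_zero]; exact hab
        calc w = a⁻¹ • (a • w) := by rw [smul_smul, inv_mul_cancel₀ ha, one_smul]
          _ = _ := by rw [h3, smul_neg, smul_smul, neg_smul]; congr 2; field_simp
      have hc : -(b / a) ∈ F₀ := R.coef_mem hw₀ hne (by rw [← hw']; exact hw)
      rw [hw', mulVec_smul, smul_comm]
      exact R.smul _ hc _ hm₀
  · push Not at hex
    refine ⟨1, one_ne_zero, fun w hw => ?_⟩
    rw [hex w hw, mulVec_zero, smul_zero]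
    exact R.zero

/-- a non-zero rational point. -/
theorem exists_ne_zero (hN : 1 ≤ N) : ∃ a ∈ V, a ≠ 0 := by
  by_contra hcon
  push Not at hcon
  have : ∀ x : Fin N → F, x = 0 := by
    intro x
    obtain ⟨w₁, h1, w₂, h2, rfl⟩ := R.decomp x
    rw [hcon w₁ h1, hcon w₂ h2, smul_zero, add_zero]
  have h1 := this (fun _ => 1)
  have := congrFun h1 ⟨0, by omega⟩
  exact one_ne_zero this

/-- an independent orthogonal pair of rational points. -/
theorem exists_pair (hN : 3 ≤ N) : ∃ w₁ ∈ V, ∃ w₂ ∈ V, H w₁ w₂ = 0 ∧ Indep w₁ w₂ := by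
  obtain ⟨a, ha, ha0⟩ := R.exists_ne_zero (by omega)
  obtain ⟨b, hb, hab⟩ := R.exists_unit ha ha0
  obtain ⟨y, hy, hyn⟩ : ∃ y ∈ V, y ∉ Submodule.span F {a, b} := by
    by_contra hcon
    push Not at hcon
    have htop : Submodule.span F {a, b} = ⊤ := by
      rw [eq_top_iff]
      intro x _
      obtain ⟨w₁, h1, w₂, h2, rfl⟩ := R.decomp x
      exact add_mem (hcon w₁ h1) (Submodule.smul_mem _ _ (hcon w₂ h2))
    have h1 : finrank F (Submodule.span F ({a, b} : Set (Fin N → F))) ≤ 2 := by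
      classical
      have := finrank_span_finset_le_card (R := F) ({a, b} : Finset (Fin N → F))
      rw [Finset.coe_insert, Finset.coe_singleton] at this
      exact this.trans Finset.card_le_two
    rw [htop, finrank_top, Module.finrank_pi, Fintype.card_fin] at h1
    omega
  have hc1 : ζ * H y b ∈ F₀ := R.val y hy b hb
  have hc2 : ζ * H y a ∈ F₀ := R.val y hy a ha
  have hy' : y - (ζ * H y b) • a + (ζ * H y a) • b ∈ V :=
    R.add _ (R.sub hy (R.smul _ hc1 a ha)) _ (R.smul _ hc2 b hb)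
  refine ⟨a, ha, _, hy', ?_, ?_⟩
  · rw [hr_add, hr_sub, hr_smul, hr_smul, R.fix hc1, R.fix hc2, R.alt a ha, R.skew ha hy]
    linear_combination (-(H a y)) * hab
  · intro α β hαβ
    have hβ : β = 0 := by
      by_contra hβ
      apply hyn
      have h3 : β • (y - (ζ * H y b) • a + (ζ * H y a) • b) = -(α • a) := by
        rw [eq_neg_iff_add_eq_zero, add_comm]; exact hαβ
      have h4 : y - (ζ * H y b) • a + (ζ * H y a) • b = (-(α / β)) • a := by
        calc _ = β⁻¹ • (β • (y - (ζ * H y b) • a + (ζ * H y a) • b)) := by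
              rw [smul_smul, inv_mul_cancel₀ hβ, one_smul]
          _ = _ := by rw [h3, smul_neg, smul_smul, neg_smul]; congr 2; field_simp
      have h5 : y = (y - (ζ * H y b) • a + (ζ * H y a) • b) + (ζ * H y b) • a +
          (-(ζ * H y a)) • b := by module
      rw [h4] at h5
      rw [h5]
      exact add_mem (add_mem (Submodule.smul_mem _ _ (Submodule.subset_span (by simp)))
        (Submodule.smul_mem _ _ (Submodule.subset_span (by simp))))
        (Submodule.smul_mem _ _ (Submodule.subset_span (by simp)))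
    rw [hβ, zero_smul, add_zero] at hαβ
    exact ⟨(smul_eq_zero.mp hαβ).resolve_right ha0, hβ⟩

/-- **Properness**: a unitary transvection which does not carry the rational points to a scalar
multiple of the rational points. -/
theorem exists_not_uniform (hN : 3 ≤ N) :
    ∃ A : SU N F q, ¬ ∃ μ : F, μ ≠ 0 ∧ ∀ w ∈ V, μ • (mt A *ᵥ w) ∈ V := by
  obtain ⟨w₁, h1, w₂, h2, horth, hI⟩ := R.exists_pair hN
  obtain ⟨s, hs0, hs⟩ := exists_tz_ne_zero (F := F) (q := q)
  have hx : H (w₁ + lam • w₂) (w₁ + lam • w₂) = 0 := by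
    rw [R.herm_decomp h1 h2, horth, mul_zero]
  have hx0 : w₁ + lam • w₂ ≠ 0 := by
    intro h
    exact hI.ne_left (R.uniq _ h1 _ h2 h).1
  refine ⟨TU q (w₁ + lam • w₂) s, ?_⟩
  rintro ⟨μ, hμ, hall⟩
  have hfix : mt (TU q (w₁ + lam • w₂) s) *ᵥ w₁ = w₁ := by
    rw [TU_mulVec hx hs, hr_add, hr_smul, R.alt w₁ h1, horth, mul_zero, add_zero, mul_zero,
      zero_smul, add_zero]
  have hμ0 : μ ∈ F₀ := by
    have := hall w₁ h1
    rw [hfix] at this
    exact R.coef_mem h1 hI.ne_left this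
  obtain ⟨y, hy, hne⟩ := R.nondeg hx0
  have hne' : H y (w₁ + lam • w₂) ≠ 0 := herm_swap_ne_zero hne
  have h3 := hall y hy
  have h4 : mt (TU q (w₁ + lam • w₂) s) *ᵥ y ∈ V := by
    have := R.smul _ (F₀.inv_mem hμ0) _ h3
    rwa [smul_smul, inv_mul_cancel₀ hμ, one_smul] at this
  rw [TU_mulVec hx hs] at h4
  have h5 : (s * H y (w₁ + lam • w₂)) • (w₁ + lam • w₂) ∈ V := by
    have := R.sub h4 hy
    rwa [add_sub_cancel_left] at this
  have hc : s * H y (w₁ + lam • w₂) ≠ 0 := mul_ne_zero hs0 hne'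
  apply R.not_smul_of_indep h1 h2 hI (s * H y (w₁ + lam • w₂))⁻¹ h5
  rw [smul_smul, inv_mul_cancel₀ hc, one_smul]

end RS

end Cfsg.Agent.Helper7.SubF
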