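import Mathlib
import Cfsg.Agent.Helper7.SubFE
import Cfsg.Agent.S5653

set_option autoImplicit false
set_option linter.unusedSectionVars false

/-! Subfield structures for the unitary form, part F: the symplectic subfield group is maximal
in the special unitary group (helper7). -/

namespace Cfsg.Agent.Helper7.SubF

open Matrix Module Cfsg Cfsg.Agent.Helper7.Herm Cfsg.Agent.Helper8.GUOrder
  Cfsg.Agent.Helper8.SURoot Cfsg.Agent.Helper7.SUGen Cfsg.Agent.S5653

variable {F : Type*} [Field F] [Fintype F] {q N : ℕ} [hK : Fact (Fintype.card F = q ^ 2)]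

local notation "H" => hermForm N F q

/-- the rational structure of a change of basis. -/
theorem RS_of {F₀ : Subfield F} (hq : Nat.card F₀ = q) {ζ lam : F} (hζ0 : ζ ≠ 0)
    (hζ : ζ + ζ ^ q = 0) (hl : lam ∉ F₀) (P : GL (Fin N) F)
    (hP : Cfsg.Geo.IsFormRationalStructure (hermForm N F q) F₀ ζ P)
    (halt : ∀ u : Fin N → F, (∀ i, u i ∈ F₀) →
      hermForm N F q ((P : Matrix (Fin N) (Fin N) F) *ᵥ u)
        ((P : Matrix (Fin N) (Fin N) F) *ᵥ u) = 0) :
    RS q F₀ ζ lam (V0 F₀ (P : Matrix (Fin N) (Fin N) F)) where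
  card := hq
  zeta0 := hζ0
  zeta := hζ
  lam_nm := hl
  zero := ⟨0, fun _ => F₀.zero_mem, mulVec_zero _⟩
  add := by
    rintro _ ⟨u, hu, rfl⟩ _ ⟨u', hu', rfl⟩
    exact ⟨u + u', fun i => F₀.add_mem (hu i) (hu' i), mulVec_add _ _ _⟩
  smul := by
    rintro a ha _ ⟨u, hu, rfl⟩
    exact ⟨a • u, fun i => F₀.mul_mem ha (hu i), mulVec_smul _ _ _⟩
  decomp := by
    intro x
    choose c₁ h1 c₂ h2 e using fun i =>
      field_decomp hq hl (((↑P⁻¹ : Matrix (Fin N) (Fin N) F) *ᵥ x) i)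
    refine ⟨_, ⟨c₁, h1, rfl⟩, _, ⟨c₂, h2, rfl⟩, ?_⟩
    have e' : (↑P⁻¹ : Matrix (Fin N) (Fin N) F) *ᵥ x = c₁ + lam • c₂ := by
      ext i
      rw [e i, Pi.add_apply, Pi.smul_apply, smul_eq_mul]
    rw [← mulVec_smul, ← mulVec_add, ← e', mulVec_mulVec, Units.mul_inv, one_mulVec]
  uniq := by
    rintro _ ⟨u₁, hu₁, rfl⟩ _ ⟨u₂, hu₂, rfl⟩ h
    have h1 : (P : Matrix (Fin N) (Fin N) F) *ᵥ (u₁ + lam • u₂) = 0 := by
      rw [mulVec_add, mulVec_smul]; exact h
    have h2 : u₁ + lam • u₂ = 0 := by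
      have := congrArg (fun v => (↑P⁻¹ : Matrix (Fin N) (Fin N) F) *ᵥ v) h1
      simpa [mulVec_mulVec, Units.inv_mul] using this
    have h3 : ∀ i, u₁ i = 0 ∧ u₂ i = 0 := by
      intro i
      apply field_uniq hq hl (hu₁ i) (hu₂ i)
      have := congrFun h2 i
      simpa using this
    have e1 : u₁ = 0 := funext fun i => (h3 i).1
    have e2 : u₂ = 0 := funext fun i => (h3 i).2
    rw [e1, e2, mulVec_zero]
    exact ⟨rfl, rfl⟩
  val := by
    rintro _ ⟨u, hu, rfl⟩ _ ⟨u', hu', rfl⟩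
    exact hP u u' hu hu'
  alt := by
    rintro _ ⟨u, hu, rfl⟩
    exact halt u hu

/-- **The symplectic subfield group is maximal in `SU_n(q)`.** -/
theorem subfield_symplectic_maximal (hN : 3 ≤ N) (h32 : ¬ (N = 3 ∧ q = 2)) {F₀ : Subfield F}
    (hq : Nat.card F₀ = q) {ζ : F} (hζ0 : ζ ≠ 0) (hζ : ζ + ζ ^ q = 0) (P : GL (Fin N) F)
    (hP : Cfsg.Geo.IsFormRationalStructure (hermForm N F q) F₀ ζ P)
    (halt : ∀ u : Fin N → F, (∀ i, u i ∈ F₀) →
      hermForm N F q ((P : Matrix (Fin N) (Fin N) F) *ᵥ u)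
        ((P : Matrix (Fin N) (Fin N) F) *ᵥ u) = 0) :
    Cfsg.Geo.IsMaximalIn (Cfsg.GU N F q ⊓ Cfsg.Geo.specialLinear (Fin N) F)
      (Cfsg.Geo.subfieldSubgroup F₀ P ⊓
        (Cfsg.GU N F q ⊓ Cfsg.Geo.specialLinear (Fin N) F)) := by
  obtain ⟨lam, hl⟩ := exists_not_mem (F := F) hq
  have R := RS_of hq hζ0 hζ hl P hP halt
  refine ⟨lt_of_le_not_ge inf_le_right ?_, ?_⟩
  · intro hle
    obtain ⟨A, hA⟩ := R.exists_not_uniform hN
    exact hA (exists_of_mem_subfield (hle (toGL_mem A)).1)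
  · intro M hNM hMS
    by_cases hM : M ≤ Cfsg.Geo.subfieldSubgroup F₀ P ⊓
        (Cfsg.GU N F q ⊓ Cfsg.Geo.specialLinear (Fin N) F)
    · left
      exact le_antisymm hM hNM
    · right
      obtain ⟨g, hgM, hgn⟩ := Set.not_subset.mp hM
      obtain ⟨A, rfl⟩ := exists_toGL_eq (hMS hgM)
      have hAn : toGL N F q A ∉ Cfsg.Geo.subfieldSubgroup F₀ P :=
        fun h => hgn ⟨h, hMS hgM⟩
      -- a rational point carried outside the multiples of rational points
      obtain ⟨w, hw, hgw⟩ : ∃ w ∈ V0 F₀ (P : Matrix (Fin N) (Fin N) F),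
          ∀ c : F, ∀ v ∈ V0 F₀ (P : Matrix (Fin N) (Fin N) F), mt A *ᵥ w ≠ c • v := by
        by_contra hcon
        push Not at hcon
        apply hAn
        have hpt : ∀ w ∈ V0 F₀ (P : Matrix (Fin N) (Fin N) F),
            ∃ μ : F, μ ≠ 0 ∧ μ • (mt A *ᵥ w) ∈ V0 F₀ (P : Matrix (Fin N) (Fin N) F) := by
          intro w hw
          by_cases hw0 : w = 0
          · refine ⟨1, one_ne_zero, ?_⟩
            rw [hw0, mulVec_zero, smul_zero]
            exact R.zero
          · obtain ⟨c, v, hv, e⟩ := hcon w hw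
            have hc : c ≠ 0 := by
              rintro rfl
              rw [zero_smul] at e
              exact mulVec_ne_zero' A hw0 e
            refine ⟨c⁻¹, inv_ne_zero hc, ?_⟩
            rw [e, smul_smul, inv_mul_cancel₀ hc, one_smul]
            exact hv
        obtain ⟨μ, hμ, hall⟩ := R.uniform (RS.mt_inv_mul A) hpt
        exact mem_subfield_of hμ hall
      have hV : ∀ c ∈ V0 F₀ (P : Matrix (Fin N) (Fin N) F), ∀ s : F, s ^ q + s = 0 →
          TU q c s ∈ M.comap (toGL N F q) := by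
        intro c hc s hs
        rw [Subgroup.mem_comap]
        apply hNM
        refine ⟨mem_subfield_of one_ne_zero fun w hw => ?_, toGL_mem _⟩
        rw [one_smul]
        exact R.TU_mem hc hs hw
      have htop := R.top_of_extra (M.comap (toGL N F q)) hV (by omega) h32
        (Subgroup.mem_comap.mpr hgM) hw hgw
      apply le_antisymm hMS
      intro g hg
      obtain ⟨B, rfl⟩ := exists_toGL_eq hg
      have : B ∈ M.comap (toGL N F q) := by rw [htop]; exact Subgroup.mem_top B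
      exact this

end Cfsg.Agent.Helper7.SubF
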