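import Mathlib
import Cfsg.Agent.Helper7.SubLB

set_option autoImplicit false
set_option linter.unusedSectionVars false

/-! Subfield subgroups of the special linear group, part C: transvections of mixed type
(rational axis and irrational centre, or the reverse) enlarge the field of parameters
(helper7). -/

namespace Cfsg.Agent.Helper7.SubL

open Matrix Cfsg Cfsg.Geo Cfsg.Agent.Helper7.TGL Cfsg.Agent.Helper7.SLMax

variable {F : Type*} [Field F] {n : ℕ} {F₀ : Subfield F} {M : Subgroup (GL (Fin n) F)}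

theorem not_mem_mul {c a : F} (hc : c ∉ F₀) (ha : a ∈ F₀) (ha0 : a ≠ 0) : c * a ∉ F₀ := by
  intro h
  apply hc
  have := F₀.mul_mem h (F₀.inv_mem ha)
  rwa [mul_assoc, mul_inv_cancel₀ ha0, mul_one] at this

/-- two transvections with the same action are equal. -/
theorem tau_eq_tau {v v' φ φ' : Fin n → F} (h : φ ⬝ᵥ v = 0) (h' : φ' ⬝ᵥ v' = 0)
    (e : ∀ x : Fin n → F, (φ ⬝ᵥ x) • v = (φ' ⬝ᵥ x) • v') : tau v φ h = tau v' φ' h' := by
  apply gl_ext
  intro x
  rw [tau_mulVec, tau_mulVec, e x]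

/-- moving the centre of a transvection of `M` to a rational vector of the axis. -/
theorem move_centre
    (hM : Cfsg.Geo.subfieldSubgroup F₀ (1 : GL (Fin n) F) ⊓ Cfsg.Geo.specialLinear (Fin n) F ≤ M)
    {y χ b ψ : Fin n → F} (hy : χ ⬝ᵥ y = 0) (hT : tau y χ hy ∈ M) (hb : Rat F₀ b) (hψ : Rat F₀ ψ)
    (hψb : ψ ⬝ᵥ b = 0) (hχb : χ ⬝ᵥ b = 0) :
    tau ((ψ ⬝ᵥ y) • b) χ (by rw [dotProduct_smul, hχb, smul_zero]) ∈ M := by
  have h1 := tau_comm b ψ y χ hψb hy hχb
  have h2 : tau b ψ hψb ∈ M := hM (tau_mem_sub hb hψ hψb)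
  have h3 : tau b ((ψ ⬝ᵥ y) • χ) (by rw [smul_dotProduct, hχb, smul_zero]) ∈ M := by
    rw [← h1]
    exact M.mul_mem (M.mul_mem (M.mul_mem h2 hT) (M.inv_mem h2)) (M.inv_mem hT)
  have e := tau_smul_comm (ψ ⬝ᵥ y) b χ hχb
  rw [e]
  exact h3

/-- moving the axis of a transvection of `M` to a rational covector vanishing at the
centre. -/
theorem move_axis
    (hM : Cfsg.Geo.subfieldSubgroup F₀ (1 : GL (Fin n) F) ⊓ Cfsg.Geo.specialLinear (Fin n) F ≤ M)
    {y χ b ψ : Fin n → F} (hy : χ ⬝ᵥ y = 0) (hT : tau y χ hy ∈ M) (hb : Rat F₀ b) (hψ : Rat F₀ ψ)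
    (hψb : ψ ⬝ᵥ b = 0) (hψy : ψ ⬝ᵥ y = 0) :
    tau y ((χ ⬝ᵥ b) • ψ) (by rw [smul_dotProduct, hψy, smul_zero]) ∈ M := by
  have h1 := tau_comm y χ b ψ hy hψb hψy
  have h2 : tau b ψ hψb ∈ M := hM (tau_mem_sub hb hψ hψb)
  rw [← h1]
  exact M.mul_mem (M.mul_mem (M.mul_mem hT h2) (M.inv_mem hT)) (M.inv_mem h2)

theorem single_ne_zero' (i : Fin n) : (Pi.single i (1 : F) : Fin n → F) ≠ 0 := by
  intro h
  have := congrFun h i
  rw [Pi.single_eq_same, Pi.zero_apply] at this
  exact one_ne_zero this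

/-- a rational vector killed by a given rational covector, with a prescribed zero entry. -/
theorem exists_rat_perp (hn : 3 ≤ n) {χ : Fin n → F} (hχ : Rat F₀ χ) (l : Fin n) :
    ∃ b : Fin n → F, Rat F₀ b ∧ χ ⬝ᵥ b = 0 ∧ b l = 0 ∧ ∃ m' : Fin n, m' ≠ l ∧ b m' ≠ 0 := by
  obtain ⟨k, hkl, _⟩ := exists_ne_ne hn l l
  obtain ⟨m, hml, hmk⟩ := exists_ne_ne hn l k
  by_cases hχk : χ k = 0
  · refine ⟨Pi.single k 1, Rat.single k F₀.one_mem, ?_, ?_, k, hkl, ?_⟩
    · rw [dotProduct_single_one, hχk]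
    · rw [Pi.single_eq_of_ne (Ne.symm hkl)]
    · rw [Pi.single_eq_same]; exact one_ne_zero
  · refine ⟨χ m • Pi.single k 1 - χ k • Pi.single m 1,
      (Rat.smul (hχ m) (Rat.single k F₀.one_mem)).sub (Rat.smul (hχ k) (Rat.single m F₀.one_mem)),
      ?_, ?_, m, hml, ?_⟩
    · rw [dotProduct_sub, dotProduct_smul, dotProduct_smul, dotProduct_single_one,
        dotProduct_single_one, smul_eq_mul, smul_eq_mul]
      ring
    · simp only [Pi.sub_apply, Pi.smul_apply, Pi.single_eq_of_ne (Ne.symm hkl),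
        Pi.single_eq_of_ne (Ne.symm hml), smul_zero, sub_zero]
    · simp only [Pi.sub_apply, Pi.smul_apply, Pi.single_eq_of_ne hmk, Pi.single_eq_same,
        smul_eq_mul, mul_one, mul_zero, zero_sub]
      exact neg_ne_zero.2 hχk

/-- a transvection of `M` over a rational pair with an irrational parameter enlarges the
parameters. -/
theorem exists_of_pair (hn : 3 ≤ n)
    (hM : Cfsg.Geo.subfieldSubgroup F₀ (1 : GL (Fin n) F) ⊓ Cfsg.Geo.specialLinear (Fin n) F ≤ M)
    {w χ : Fin n → F} (hw : Rat F₀ w) (hχ : Rat F₀ χ) (hw0 : w ≠ 0) (hχ0 : χ ≠ 0)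
    (h : χ ⬝ᵥ w = 0) {c : F} (hc : c ∉ F₀)
    (hT : tau (c • w) χ (by rw [dotProduct_smul, h, smul_zero]) ∈ M) :
    ∃ c' : F, c' ∉ F₀ ∧ c' ∈ Cc M := by
  obtain ⟨l, hl⟩ : ∃ l, w l ≠ 0 := by
    by_contra h0
    push Not at h0
    exact hw0 (funext h0)
  obtain ⟨b, hb, hχb, hbl, m', hm'l, hbm'⟩ := exists_rat_perp hn hχ l
  -- step 1: the centre becomes `b`
  have hψb : (Pi.single l (1 : F) : Fin n → F) ⬝ᵥ b = 0 := by rw [single_dotProduct, one_mul, hbl]
  have h1 := move_centre hM _ hT hb (Rat.single l F₀.one_mem) hψb hχb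
  have e1 : (Pi.single l (1 : F) : Fin n → F) ⬝ᵥ (c • w) = c * w l := by
    rw [single_dotProduct, one_mul, Pi.smul_apply, smul_eq_mul]
  have hc1 : c * w l ∉ F₀ := not_mem_mul hc (hw l) hl
  -- step 2: the axis becomes the `l`-th coordinate
  obtain ⟨c₂, hc₂, h2⟩ : ∃ c₂ : F, c₂ ∉ F₀ ∧ tau (c₂ • b) (Pi.single l (1 : F))
      (by rw [dotProduct_smul, hψb, smul_zero]) ∈ M := by
    by_cases hj : ∃ j, j ≠ l ∧ χ j ≠ 0
    · obtain ⟨j, hjl, hχj⟩ := hj
      have h3 := move_axis hM _ h1 (Rat.single j F₀.one_mem) (Rat.single l F₀.one_mem)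
        (by rw [single_dotProduct, one_mul, Pi.single_eq_of_ne (Ne.symm hjl)])
        (by rw [dotProduct_smul, hψb, smul_zero])
      refine ⟨c * w l * χ j, not_mem_mul hc1 (hχ j) hχj, ?_⟩
      have e2 : tau ((c * w l * χ j) • b) (Pi.single l (1 : F))
          (by rw [dotProduct_smul, hψb, smul_zero]) =
          tau (((Pi.single l (1 : F) : Fin n → F) ⬝ᵥ (c • w)) • b)
            ((χ ⬝ᵥ (Pi.single j (1 : F) : Fin n → F)) • (Pi.single l (1 : F) : Fin n → F))
            (by rw [smul_dotProduct, dotProduct_smul, hψb, smul_zero, smul_zero]) := by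
        refine tau_eq_tau _ _ (fun x => ?_)
        rw [e1, dotProduct_single_one, smul_dotProduct, smul_smul, smul_smul, smul_eq_mul]
        congr 1
        ring
      rw [e2]
      exact h3
    · push Not at hj
      have hχl : χ l ≠ 0 := by
        intro h0
        apply hχ0
        funext j
        by_cases hjl : j = l
        · rw [hjl, h0]; rfl
        · exact hj j hjl
      have hχe : χ = χ l • (Pi.single l (1 : F) : Fin n → F) := by
        funext j
        by_cases hjl : j = l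
        · rw [hjl, Pi.smul_apply, Pi.single_eq_same, smul_eq_mul, mul_one]
        · rw [Pi.smul_apply, Pi.single_eq_of_ne hjl, smul_zero]
          exact hj j hjl
      refine ⟨c * w l * χ l, not_mem_mul hc1 (hχ l) hχl, ?_⟩
      have e2 : tau ((c * w l * χ l) • b) (Pi.single l (1 : F))
          (by rw [dotProduct_smul, hψb, smul_zero]) =
          tau (((Pi.single l (1 : F) : Fin n → F) ⬝ᵥ (c • w)) • b) χ
            (by rw [dotProduct_smul, hχb, smul_zero]) := by
        refine tau_eq_tau _ _ (fun x => ?_)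
        rw [e1, smul_smul]
        conv_rhs => rw [hχe, smul_dotProduct, smul_smul, smul_eq_mul]
        congr 1
        ring
      rw [e2]
      exact h1
  -- step 3: the centre becomes a coordinate vector
  obtain ⟨i, hil, him'⟩ := exists_ne_ne hn l m'
  have h3 := move_centre hM _ h2 (Rat.single i F₀.one_mem) (Rat.single m' F₀.one_mem)
    (by rw [single_dotProduct, one_mul, Pi.single_eq_of_ne (Ne.symm him')])
    (by rw [single_dotProduct, one_mul, Pi.single_eq_of_ne (Ne.symm hil)])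
  have hli0 : (Pi.single l (1 : F) : Fin n → F) ⬝ᵥ (Pi.single i (1 : F) : Fin n → F) = 0 := by
    rw [single_dotProduct, one_mul, Pi.single_eq_of_ne (Ne.symm hil)]
  refine ⟨c₂ * b m', not_mem_mul hc₂ (hb m') hbm', ?_⟩
  refine mem_Cc_of_el hn hM hil ?_
  have e4 : el i l hil (c₂ * b m') =
      tau (((Pi.single m' (1 : F) : Fin n → F) ⬝ᵥ (c₂ • b)) • (Pi.single i (1 : F) : Fin n → F))
        (Pi.single l (1 : F))
        (by rw [dotProduct_smul, hli0, smul_zero]) := by
    unfold el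
    refine tau_eq_tau _ _ (fun x => ?_)
    rw [single_dotProduct, one_mul, single_dotProduct, one_mul, Pi.smul_apply, smul_eq_mul]
    congr 1
    funext j
    by_cases hji : j = i
    · rw [hji, Pi.smul_apply, Pi.single_eq_same, Pi.single_eq_same, smul_eq_mul, mul_one]
    · rw [Pi.smul_apply, Pi.single_eq_of_ne hji, Pi.single_eq_of_ne hji, smul_zero]
  rw [e4]
  exact h3

/-- a transvection of `M` with rational axis and irrational centre enlarges the parameters. -/
theorem mixed_centre (hn : 3 ≤ n)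
    (hM : Cfsg.Geo.subfieldSubgroup F₀ (1 : GL (Fin n) F) ⊓ Cfsg.Geo.specialLinear (Fin n) F ≤ M)
    {y χ : Fin n → F} (hχ : Rat F₀ χ) (hχ0 : χ ≠ 0) (hy : χ ⬝ᵥ y = 0) (hyP : ¬ PRat F₀ y)
    (hT : tau y χ hy ∈ M) : ∃ c' : F, c' ∉ F₀ ∧ c' ∈ Cc M := by
  obtain ⟨l, hl⟩ : ∃ l, y l ∉ F₀ := by
    by_contra h0
    push Not at h0
    exact hyP (Rat.pRat h0)
  obtain ⟨b, hb, hχb, hbl, m', hm'l, hbm'⟩ := exists_rat_perp hn hχ l
  have hψb : (Pi.single l (1 : F) : Fin n → F) ⬝ᵥ b = 0 := by rw [single_dotProduct, one_mul, hbl]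
  have h1 := move_centre hM _ hT hb (Rat.single l F₀.one_mem) hψb hχb
  have hb0 : b ≠ 0 := by
    rintro rfl
    exact hbm' rfl
  refine exists_of_pair hn hM hb hχ hb0 hχ0 hχb (c := y l) hl ?_
  have e : tau (y l • b) χ (by rw [dotProduct_smul, hχb, smul_zero]) =
      tau (((Pi.single l (1 : F) : Fin n → F) ⬝ᵥ y) • b) χ
        (by rw [dotProduct_smul, hχb, smul_zero]) :=
    tau_eq_tau _ _ (fun x => by rw [single_dotProduct, one_mul])
  rw [e]
  exact h1

/-- a transvection of `M` with rational centre and irrational axis enlarges the parameters. -/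
theorem mixed_axis (hn : 3 ≤ n)
    (hM : Cfsg.Geo.subfieldSubgroup F₀ (1 : GL (Fin n) F) ⊓ Cfsg.Geo.specialLinear (Fin n) F ≤ M)
    {w ψ : Fin n → F} (hw : Rat F₀ w) (hw0 : w ≠ 0) (hψw : ψ ⬝ᵥ w = 0) (hψP : ¬ PRat F₀ ψ)
    (hT : tau w ψ hψw ∈ M) : ∃ c' : F, c' ∉ F₀ ∧ c' ∈ Cc M := by
  obtain ⟨l, hl⟩ : ∃ l, ψ l ∉ F₀ := by
    by_contra h0
    push Not at h0
    exact hψP (Rat.pRat h0)
  obtain ⟨φ, hφ, hwφ, hφl, m', hm'l, hφm'⟩ := exists_rat_perp hn hw l
  have hφw : φ ⬝ᵥ w = 0 := by rw [dotProduct_comm]; exact hwφ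
  have hφb : φ ⬝ᵥ (Pi.single l (1 : F) : Fin n → F) = 0 := by rw [dotProduct_single_one, hφl]
  have h1 := move_axis hM _ hT (Rat.single l F₀.one_mem) hφ hφb hφw
  have hφ0 : φ ≠ 0 := by
    rintro rfl
    exact hφm' rfl
  refine exists_of_pair hn hM hw hφ hw0 hφ0 hφw (c := ψ l) hl ?_
  have e : tau (ψ l • w) φ (by rw [dotProduct_smul, hφw, smul_zero]) =
      tau w ((ψ ⬝ᵥ (Pi.single l (1 : F) : Fin n → F)) • φ)
        (by rw [smul_dotProduct, hφw, smul_zero]) :=
    tau_eq_tau _ _ (fun x => by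
      rw [dotProduct_single_one, smul_dotProduct, smul_smul, smul_eq_mul, mul_comm])
  rw [e]
  exact h1

/-- a transvection of `M` whose irrational centre has a rational zero enlarges the
parameters. -/
theorem mixed_of_zero_centre (hn : 3 ≤ n)
    (hM : Cfsg.Geo.subfieldSubgroup F₀ (1 : GL (Fin n) F) ⊓ Cfsg.Geo.specialLinear (Fin n) F ≤ M)
    {u ψ φ' : Fin n → F} (hψu : ψ ⬝ᵥ u = 0) (hT : tau u ψ hψu ∈ M) (huP : ¬ PRat F₀ u)
    (hψ0 : ψ ≠ 0) (hφ' : Rat F₀ φ') (hφ'0 : φ' ≠ 0) (hφ'u : φ' ⬝ᵥ u = 0) :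
    ∃ c' : F, c' ∉ F₀ ∧ c' ∈ Cc M := by
  obtain ⟨a, ha, hTa⟩ : ∃ a : F, a ≠ 0 ∧ tau (a • u) φ'
      (by rw [dotProduct_smul, hφ'u, smul_zero]) ∈ M := by
    by_cases hall : ∀ k m : Fin n, φ' m * ψ k = φ' k * ψ m
    · obtain ⟨m, hm⟩ : ∃ m, φ' m ≠ 0 := by
        by_contra h0
        push Not at h0
        exact hφ'0 (funext h0)
      have hψe : ψ = (ψ m / φ' m) • φ' := by
        funext k
        rw [Pi.smul_apply, smul_eq_mul, div_mul_eq_mul_div, eq_div_iff hm]
        linear_combination hall k m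
      have ha : ψ m / φ' m ≠ 0 := by
        intro h0
        apply hψ0
        rw [hψe, h0, zero_smul]
      refine ⟨ψ m / φ' m, ha, ?_⟩
      have e : tau ((ψ m / φ' m) • u) φ' (by rw [dotProduct_smul, hφ'u, smul_zero]) =
          tau u ψ hψu :=
        tau_eq_tau _ _ (fun x => by
          conv_rhs => rw [hψe, smul_dotProduct, smul_eq_mul, mul_comm, ← smul_smul])
      rw [e]
      exact hT
    · push Not at hall
      obtain ⟨k, m, hkm⟩ := hall
      have hwr : Rat F₀ (φ' m • Pi.single k (1 : F) - φ' k • Pi.single m (1 : F) : Fin n → F) :=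
        (Rat.smul (hφ' m) (Rat.single k F₀.one_mem)).sub
          (Rat.smul (hφ' k) (Rat.single m F₀.one_mem))
      have hφ'w : φ' ⬝ᵥ (φ' m • Pi.single k (1 : F) - φ' k • Pi.single m (1 : F) : Fin n → F)
          = 0 := by
        rw [dotProduct_sub, dotProduct_smul, dotProduct_smul, dotProduct_single_one,
          dotProduct_single_one, smul_eq_mul, smul_eq_mul]
        ring
      have hψw : ψ ⬝ᵥ (φ' m • Pi.single k (1 : F) - φ' k • Pi.single m (1 : F) : Fin n → F)
          ≠ 0 := by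
        rw [dotProduct_sub, dotProduct_smul, dotProduct_smul, dotProduct_single_one,
          dotProduct_single_one, smul_eq_mul, smul_eq_mul]
        intro h0
        exact hkm (by linear_combination h0)
      have h1 := move_axis hM _ hT hwr hφ' hφ'w hφ'u
      refine ⟨_, hψw, ?_⟩
      have e := tau_smul_comm
        (ψ ⬝ᵥ (φ' m • Pi.single k (1 : F) - φ' k • Pi.single m (1 : F) : Fin n → F)) u φ' hφ'u
      rw [e]
      exact h1
  exact mixed_centre hn hM hφ' hφ'0 _ (not_pRat_smul huP ha) hTa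

/-- a transvection of `M` whose irrational axis has a rational zero enlarges the
parameters. -/
theorem mixed_of_zero_axis (hn : 3 ≤ n)
    (hM : Cfsg.Geo.subfieldSubgroup F₀ (1 : GL (Fin n) F) ⊓ Cfsg.Geo.specialLinear (Fin n) F ≤ M)
    {u ψ w : Fin n → F} (hψu : ψ ⬝ᵥ u = 0) (hT : tau u ψ hψu ∈ M) (hψP : ¬ PRat F₀ ψ)
    (hu0 : u ≠ 0) (hw : Rat F₀ w) (hw0 : w ≠ 0) (hψw : ψ ⬝ᵥ w = 0) :
    ∃ c' : F, c' ∉ F₀ ∧ c' ∈ Cc M := by
  obtain ⟨a, ha, hTa⟩ : ∃ a : F, a ≠ 0 ∧ tau w (a • ψ)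
      (by rw [smul_dotProduct, hψw, smul_zero]) ∈ M := by
    by_cases hall : ∀ k m : Fin n, w m * u k = w k * u m
    · obtain ⟨m, hm⟩ : ∃ m, w m ≠ 0 := by
        by_contra h0
        push Not at h0
        exact hw0 (funext h0)
      have hue : u = (u m / w m) • w := by
        funext k
        rw [Pi.smul_apply, smul_eq_mul, div_mul_eq_mul_div, eq_div_iff hm]
        linear_combination hall k m
      have ha : u m / w m ≠ 0 := by
        intro h0
        apply hu0
        rw [hue, h0, zero_smul]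
      refine ⟨u m / w m, ha, ?_⟩
      have e : tau w ((u m / w m) • ψ) (by rw [smul_dotProduct, hψw, smul_zero]) =
          tau u ψ hψu :=
        tau_eq_tau _ _ (fun x => by
          conv_rhs => rw [hue]
          rw [smul_dotProduct, smul_smul, smul_eq_mul, mul_comm])
      rw [e]
      exact hT
    · push Not at hall
      obtain ⟨k, m, hkm⟩ := hall
      have hχr : Rat F₀ (w m • Pi.single k (1 : F) - w k • Pi.single m (1 : F) : Fin n → F) :=
        (Rat.smul (hw m) (Rat.single k F₀.one_mem)).sub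
          (Rat.smul (hw k) (Rat.single m F₀.one_mem))
      have hχw : (w m • Pi.single k (1 : F) - w k • Pi.single m (1 : F) : Fin n → F) ⬝ᵥ w
          = 0 := by
        rw [sub_dotProduct, smul_dotProduct, smul_dotProduct, single_dotProduct,
          single_dotProduct, smul_eq_mul, smul_eq_mul]
        ring
      have hχu : (w m • Pi.single k (1 : F) - w k • Pi.single m (1 : F) : Fin n → F) ⬝ᵥ u
          ≠ 0 := by
        rw [sub_dotProduct, smul_dotProduct, smul_dotProduct, single_dotProduct,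
          single_dotProduct, smul_eq_mul, smul_eq_mul]
        intro h0
        exact hkm (by linear_combination h0)
      have h1 := move_centre hM _ hT hw hχr hχw hψw
      refine ⟨_, hχu, ?_⟩
      have e := tau_smul_comm
        ((w m • Pi.single k (1 : F) - w k • Pi.single m (1 : F) : Fin n → F) ⬝ᵥ u) w ψ hψw
      rw [← e]
      exact h1
  exact mixed_axis hn hM hw hw0 _ (not_pRat_smul hψP ha) hTa

end Cfsg.Agent.Helper7.SubL
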