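import Mathlib
import Cfsg.Agent.Helper7.SubLC
import Cfsg.Agent.Lead.DicksonA

set_option autoImplicit false
set_option linter.unusedSectionVars false

/-! Subfield subgroups of the special linear group, part D: embedding `SL₂` along a plane and a
complementary pair of covectors (helper7). -/

namespace Cfsg.Agent.Helper7.SubL

open Matrix Cfsg Cfsg.Geo Cfsg.Agent.Helper7.TGL Cfsg.Agent.Helper7.SLMax
  Cfsg.Agent.Lead.DicksonA
open scoped MatrixGroups

variable {F : Type*} [Field F] {n : ℕ}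

/-- the matrix with columns `a 0`, `a 1`. -/
def Pm (a : Fin 2 → Fin n → F) : Matrix (Fin n) (Fin 2) F := Matrix.of fun k i => a i k

/-- the matrix with rows `f 0`, `f 1`. -/
def Qm (f : Fin 2 → Fin n → F) : Matrix (Fin 2) (Fin n) F := Matrix.of fun j k => f j k

theorem Qm_mul_Pm {a f : Fin 2 → Fin n → F}
    (h : ∀ i j, f j ⬝ᵥ a i = if j = i then 1 else 0) : Qm f * Pm a = 1 := by
  ext j i
  rw [Matrix.mul_apply, Matrix.one_apply, ← h i j]
  rfl

/-- the embedding of two by two matrices. -/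
def emb (a f : Fin 2 → Fin n → F) (A : Matrix (Fin 2) (Fin 2) F) : Matrix (Fin n) (Fin n) F :=
  1 + Pm a * (A - 1) * Qm f

theorem emb_one (a f : Fin 2 → Fin n → F) : emb a f 1 = 1 := by
  unfold emb
  rw [sub_self, Matrix.mul_zero, Matrix.zero_mul, add_zero]

theorem emb_mul {a f : Fin 2 → Fin n → F} (h : Qm f * Pm a = 1)
    (A B : Matrix (Fin 2) (Fin 2) F) : emb a f (A * B) = emb a f A * emb a f B := by
  unfold emb
  have e : Pm a * (A - 1) * Qm f * (Pm a * (B - 1) * Qm f) =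
      Pm a * ((A - 1) * (B - 1)) * Qm f := by
    calc Pm a * (A - 1) * Qm f * (Pm a * (B - 1) * Qm f)
        = Pm a * (A - 1) * (Qm f * Pm a) * (B - 1) * Qm f := by
          simp only [Matrix.mul_assoc]
      _ = Pm a * ((A - 1) * (B - 1)) * Qm f := by
          rw [h, Matrix.mul_one]
          simp only [Matrix.mul_assoc]
  rw [add_mul, Matrix.one_mul, mul_add, Matrix.mul_one, e]
  have e2 : A * B - 1 = (B - 1) + (A - 1) + (A - 1) * (B - 1) := by
    noncomm_ring
  rw [e2, Matrix.mul_add, Matrix.mul_add, Matrix.add_mul, Matrix.add_mul]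
  abel

/-- the embedding as a monoid homomorphism into matrices. -/
def embHom {a f : Fin 2 → Fin n → F} (h : Qm f * Pm a = 1) :
    SL(2, F) →* Matrix (Fin n) (Fin n) F where
  toFun A := emb a f A.1
  map_one' := emb_one a f
  map_mul' A B := emb_mul h A.1 B.1

/-- the embedding of `SL₂` in the general linear group. -/
def embGL {a f : Fin 2 → Fin n → F} (h : Qm f * Pm a = 1) : SL(2, F) →* GL (Fin n) F :=
  (embHom h).toHomUnits

theorem embGL_val {a f : Fin 2 → Fin n → F} (h : Qm f * Pm a = 1) (A : SL(2, F)) :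
    ((embGL h A : GL (Fin n) F) : Matrix (Fin n) (Fin n) F) = emb a f A.1 := rfl

theorem emb_mulVec (a f : Fin 2 → Fin n → F) (A : Matrix (Fin 2) (Fin 2) F) (x : Fin n → F) :
    emb a f A *ᵥ x = x + ((A 0 0 - 1) * (f 0 ⬝ᵥ x) + A 0 1 * (f 1 ⬝ᵥ x)) • a 0 +
      (A 1 0 * (f 0 ⬝ᵥ x) + (A 1 1 - 1) * (f 1 ⬝ᵥ x)) • a 1 := by
  unfold emb
  rw [add_mulVec, one_mulVec, ← mulVec_mulVec, ← mulVec_mulVec]
  have hQ : Qm f *ᵥ x = ![f 0 ⬝ᵥ x, f 1 ⬝ᵥ x] := by
    funext j
    fin_cases j <;> rfl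
  have hP : ∀ y : Fin 2 → F, Pm a *ᵥ y = y 0 • a 0 + y 1 • a 1 := by
    intro y
    funext k
    rw [mulVec, dotProduct, Fin.sum_univ_two]
    simp only [Pm, Matrix.of_apply, Pi.add_apply, Pi.smul_apply, smul_eq_mul]
    ring
  rw [hQ, hP, add_assoc]
  congr 2
  · rw [mulVec, dotProduct, Fin.sum_univ_two]
    simp [Matrix.sub_apply, Matrix.one_apply]
  · rw [mulVec, dotProduct, Fin.sum_univ_two]
    simp [Matrix.sub_apply, Matrix.one_apply]

theorem embGL_uu {a f : Fin 2 → Fin n → F} (h : Qm f * Pm a = 1) (h10 : f 1 ⬝ᵥ a 0 = 0) (t : F) :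
    embGL h (uu t) = tau (t • a 0) (f 1) (by rw [dotProduct_smul, h10, smul_zero]) := by
  apply gl_ext
  intro x
  rw [embGL_val, emb_mulVec, tau_mulVec]
  simp only [uu_00, uu_01, uu_10, uu_11, sub_self, zero_mul, zero_add, add_zero, zero_smul,
    smul_smul]
  rw [mul_comm]

theorem embGL_ll {a f : Fin 2 → Fin n → F} (h : Qm f * Pm a = 1) (h01 : f 0 ⬝ᵥ a 1 = 0) (t : F) :
    embGL h (ll t) = tau (t • a 1) (f 0) (by rw [dotProduct_smul, h01, smul_zero]) := by
  apply gl_ext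
  intro x
  rw [embGL_val, emb_mulVec, tau_mulVec]
  simp only [ll_00, ll_01, ll_10, ll_11, sub_self, zero_mul, zero_add, add_zero, zero_smul,
    smul_smul]
  rw [mul_comm]

end Cfsg.Agent.Helper7.SubL
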