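import Mathlib
import Cfsg.Agent.Helper7.SubLD
import Cfsg.Agent.Lead.DicksonP

set_option autoImplicit false
set_option linter.unusedSectionVars false

/-! Subfield subgroups of the special linear group, part E: the generic case in odd
characteristic, through Dickson's lemma (helper7). -/

namespace Cfsg.Agent.Helper7.SubL

open Matrix Cfsg Cfsg.Geo Cfsg.Agent.Helper7.TGL Cfsg.Agent.Helper7.SLMax
  Cfsg.Agent.Lead.DicksonA Cfsg.Agent.Lead.DicksonJ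
open scoped MatrixGroups

variable {F : Type*} [Field F] [Fintype F] {n : ℕ} {F₀ : Subfield F}
  {M : Subgroup (GL (Fin n) F)}

/-- the closure of a singleton, seen inside itself, is everything. -/
theorem closure_self_top (κ : F) :
    Subfield.closure ({(⟨κ, Subfield.subset_closure rfl⟩ :
      Subfield.closure ({κ} : Set F))} : Set (Subfield.closure ({κ} : Set F))) = ⊤ := by
  have h1 := RingHom.map_field_closure (Subfield.closure ({κ} : Set F)).subtype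
    ({(⟨κ, Subfield.subset_closure rfl⟩ : Subfield.closure ({κ} : Set F))} :
      Set (Subfield.closure ({κ} : Set F)))
  rw [Set.image_singleton] at h1
  have h2 := Subfield.comap_map (Subfield.closure ({κ} : Set F)).subtype
    (Subfield.closure ({(⟨κ, Subfield.subset_closure rfl⟩ :
      Subfield.closure ({κ} : Set F))} : Set (Subfield.closure ({κ} : Set F))))
  rw [h1] at h2
  rw [← h2, eq_top_iff]
  intro x _
  rw [Subfield.mem_comap]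
  exact x.2

/-- Dickson's lemma along the plane of a rational centre and an arbitrary centre. -/
theorem dickson_step (h2 : (2 : F) ≠ 0)
    (hM : Cfsg.Geo.subfieldSubgroup F₀ (1 : GL (Fin n) F) ⊓ Cfsg.Geo.specialLinear (Fin n) F ≤ M)
    {u ψ w χ : Fin n → F} (hψu : ψ ⬝ᵥ u = 0) (hT : tau u ψ hψu ∈ M)
    (hw : Rat F₀ w) (hχ : Rat F₀ χ) (hχw : χ ⬝ᵥ w = 0) (hχu : χ ⬝ᵥ u ≠ 0) (hψw : ψ ⬝ᵥ w ≠ 0)
    (hne : ¬ (Nat.card (Subfield.closure ({(χ ⬝ᵥ u) * (ψ ⬝ᵥ w)} : Set F)) = 9 ∧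
      ((χ ⬝ᵥ u) * (ψ ⬝ᵥ w)) ^ 2 = -1)) :
    tau (((χ ⬝ᵥ u) * (ψ ⬝ᵥ w)) • w) χ (by rw [dotProduct_smul, hχw, smul_zero]) ∈ M := by
  obtain ⟨κ, hκ⟩ : ∃ κ : F, κ = (χ ⬝ᵥ u) * (ψ ⬝ᵥ w) := ⟨_, rfl⟩
  have hκ0 : κ ≠ 0 := by rw [hκ]; exact mul_ne_zero hχu hψw
  obtain ⟨a, ha⟩ : ∃ a : Fin 2 → Fin n → F, a = ![w, (χ ⬝ᵥ u)⁻¹ • u] := ⟨_, rfl⟩
  obtain ⟨f, hf⟩ : ∃ f : Fin 2 → Fin n → F, f = ![(ψ ⬝ᵥ w)⁻¹ • ψ, χ] := ⟨_, rfl⟩
  have ha0 : a 0 = w := by rw [ha]; rfl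
  have ha1 : a 1 = (χ ⬝ᵥ u)⁻¹ • u := by rw [ha]; rfl
  have hf0 : f 0 = (ψ ⬝ᵥ w)⁻¹ • ψ := by rw [hf]; rfl
  have hf1 : f 1 = χ := by rw [hf]; rfl
  have hdual : ∀ i j, f j ⬝ᵥ a i = if j = i then 1 else 0 := by
    intro i j
    fin_cases i <;> fin_cases j
    · show f 0 ⬝ᵥ a 0 = _
      rw [hf0, ha0, smul_dotProduct, smul_eq_mul, inv_mul_cancel₀ hψw]; rfl
    · show f 1 ⬝ᵥ a 0 = _
      rw [hf1, ha0, hχw]; rfl
    · show f 0 ⬝ᵥ a 1 = _
      rw [hf0, ha1, smul_dotProduct, dotProduct_smul, hψu, smul_zero, smul_zero]; rfl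
    · show f 1 ⬝ᵥ a 1 = _
      rw [hf1, ha1, dotProduct_smul, smul_eq_mul, inv_mul_cancel₀ hχu]; rfl
  have hQP := Qm_mul_Pm hdual
  have h10 : f 1 ⬝ᵥ a 0 = 0 := by rw [hf1, ha0, hχw]
  have h01 : f 0 ⬝ᵥ a 1 = 0 := by
    rw [hf0, ha1, smul_dotProduct, dotProduct_smul, hψu, smul_zero, smul_zero]
  -- the two generators lie in the preimage of `M`
  have hu1 : embGL hQP (uu 1) ∈ M := by
    rw [embGL_uu hQP h10]
    have e : tau ((1 : F) • a 0) (f 1) (by rw [dotProduct_smul, h10, smul_zero]) =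
        tau w χ hχw := tau_eq_tau _ _ (fun x => by rw [one_smul, ha0, hf1])
    rw [e]
    exact hM (tau_mem_sub hw hχ hχw)
  have hl1 : embGL hQP (ll κ) ∈ M := by
    rw [embGL_ll hQP h01]
    have e : tau (κ • a 1) (f 0) (by rw [dotProduct_smul, h01, smul_zero]) = tau u ψ hψu :=
      tau_eq_tau _ _ (fun x => by
        rw [ha1, hf0, smul_dotProduct, smul_smul, smul_smul, hκ, smul_eq_mul]
        congr 1
        field_simp)
    rw [e]
    exact hT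
  -- Dickson's lemma over the field generated by `κ`
  obtain ⟨E, hE⟩ : ∃ E : Subfield F, E = Subfield.closure ({κ} : Set F) := ⟨_, rfl⟩
  haveI : Fintype E := Fintype.ofFinite E
  have hκE : κ ∈ E := by rw [hE]; exact Subfield.subset_closure rfl
  have h2E : (2 : E) ≠ 0 := by
    intro h
    apply h2
    have := congrArg Subtype.val h
    exact this
  have hlam0 : (⟨κ, hκE⟩ : E) ≠ 0 := by
    intro h
    exact hκ0 (congrArg Subtype.val h)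
  have hgen : Subfield.closure ({(⟨κ, hκE⟩ : E)} : Set E) = ⊤ := by
    subst hE
    exact closure_self_top κ
  have hneE : ¬ (Fintype.card E = 9 ∧ (⟨κ, hκE⟩ : E) ^ 2 = -1) := by
    rintro ⟨h9, hsq⟩
    apply hne
    rw [← hκ, ← hE]
    refine ⟨by rw [Nat.card_eq_fintype_card]; exact h9, ?_⟩
    have := congrArg Subtype.val hsq
    simpa using this
  have htop := Cfsg.Agent.Lead.DicksonP.partA h2E (⟨κ, hκE⟩ : E) hlam0 hgen hneE
  have hmem : uu (⟨κ, hκE⟩ : E) ∈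
      Subgroup.closure ({uu 1, ll (⟨κ, hκE⟩ : E)} : Set SL(2, E)) := by
    rw [htop]; exact Subgroup.mem_top _
  -- transport to `M`
  have hle : Subgroup.closure ({uu 1, ll (⟨κ, hκE⟩ : E)} : Set SL(2, E)) ≤
      (M.comap (embGL hQP)).comap (Matrix.SpecialLinearGroup.map E.subtype) := by
    rw [Subgroup.closure_le]
    rintro g (rfl | rfl)
    · show embGL hQP (Matrix.SpecialLinearGroup.map E.subtype (uu 1)) ∈ M
      rw [map_uu, map_one]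
      exact hu1
    · show embGL hQP (Matrix.SpecialLinearGroup.map E.subtype (ll ⟨κ, hκE⟩)) ∈ M
      rw [map_ll]
      exact hl1
  have h3 := hle hmem
  have h4 : embGL hQP (uu κ) ∈ M := by
    have : embGL hQP (Matrix.SpecialLinearGroup.map E.subtype (uu ⟨κ, hκE⟩)) ∈ M := h3
    rwa [map_uu] at this
  rw [embGL_uu hQP h10] at h4
  have e : tau (((χ ⬝ᵥ u) * (ψ ⬝ᵥ w)) • w) χ (by rw [dotProduct_smul, hχw, smul_zero]) =
      tau (κ • a 0) (f 1) (by rw [dotProduct_smul, h10, smul_zero]) :=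
    tau_eq_tau _ _ (fun x => by rw [ha0, hf1, hκ])
  rw [e]
  exact h4

/-- four values, each rational or of square `-1`, of an injective linear map. -/
theorem four_bad (h2 : (2 : F) ≠ 0) {x y : F}
    (hind : ∀ a b : F, a ∈ F₀ → b ∈ F₀ → (a ≠ 0 ∨ b ≠ 0) → a * x + b * y ≠ 0)
    (hx : x ∈ F₀ ∨ x ^ 2 = -1) (hy : y ∈ F₀ ∨ y ^ 2 = -1)
    (hp : x + y ∈ F₀ ∨ (x + y) ^ 2 = -1) (hm : x - y ∈ F₀ ∨ (x - y) ^ 2 = -1) : False := by
  have h2m : (2 : F) ∈ F₀ := by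
    have : (2 : F) = 1 + 1 := by norm_num
    rw [this]; exact F₀.add_mem F₀.one_mem F₀.one_mem
  have hx0 : x ≠ 0 := by
    have := hind 1 0 F₀.one_mem F₀.zero_mem (Or.inl one_ne_zero)
    intro h
    apply this
    rw [h]; ring
  have hy0 : y ≠ 0 := by
    have := hind 0 1 F₀.zero_mem F₀.one_mem (Or.inr one_ne_zero)
    intro h
    apply this
    rw [h]; ring
  have hboth : ¬ (x ∈ F₀ ∧ y ∈ F₀) := by
    rintro ⟨hxm, hym⟩
    exact hind y (-x) hym (F₀.neg_mem hxm) (Or.inl hy0) (by ring)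
  by_cases h1 : x ^ 2 = -1 ∧ y ^ 2 = -1
  · have h3 : (x - y) * (x + y) = 0 := by linear_combination h1.1 - h1.2
    rcases mul_eq_zero.1 h3 with h4 | h4
    · exact hind 1 (-1) F₀.one_mem (F₀.neg_mem F₀.one_mem) (Or.inl one_ne_zero)
        (by linear_combination h4)
    · exact hind 1 1 F₀.one_mem F₀.one_mem (Or.inl one_ne_zero) (by linear_combination h4)
  by_cases h1' : (x + y) ^ 2 = -1 ∧ (x - y) ^ 2 = -1
  · have h3 : (4 : F) * (x * y) = 0 := by linear_combination h1'.1 - h1'.2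
    have h4 : (4 : F) ≠ 0 := by
      have : (4 : F) = 2 * 2 := by norm_num
      rw [this]; exact mul_ne_zero h2 h2
    rcases mul_eq_zero.1 ((mul_eq_zero.1 h3).resolve_left h4) with h5 | h5
    · exact hx0 h5
    · exact hy0 h5
  -- one of `x`, `y` and one of `x + y`, `x - y` are rational
  have hA : x ∈ F₀ ∨ y ∈ F₀ := by
    rcases hx with hx | hx
    · exact Or.inl hx
    · rcases hy with hy | hy
      · exact Or.inr hy
      · exact absurd ⟨hx, hy⟩ h1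
  have hB : x + y ∈ F₀ ∨ x - y ∈ F₀ := by
    rcases hp with hp | hp
    · exact Or.inl hp
    · rcases hm with hm | hm
      · exact Or.inr hm
      · exact absurd ⟨hp, hm⟩ h1'
  apply hboth
  rcases hA with hxm | hym
  · refine ⟨hxm, ?_⟩
    rcases hB with h | h
    · have := F₀.sub_mem h hxm
      rwa [add_sub_cancel_left] at this
    · have := F₀.sub_mem hxm h
      rwa [sub_sub_cancel] at this
  · refine ⟨?_, hym⟩
    rcases hB with h | h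
    · have := F₀.sub_mem h hym
      rwa [add_sub_cancel_right] at this
    · have := F₀.add_mem h hym
      rwa [sub_add_cancel] at this

/-- the generic case in odd characteristic. -/
theorem generic_odd (hn : 3 ≤ n) (h2 : (2 : F) ≠ 0)
    (hM : Cfsg.Geo.subfieldSubgroup F₀ (1 : GL (Fin n) F) ⊓ Cfsg.Geo.specialLinear (Fin n) F ≤ M)
    {u ψ : Fin n → F} (hψu : ψ ⬝ᵥ u = 0) (hT : tau u ψ hψu ∈ M)
    (hu : ∀ φ : Fin n → F, Rat F₀ φ → φ ≠ 0 → φ ⬝ᵥ u ≠ 0)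
    (hψ : ∀ w : Fin n → F, Rat F₀ w → w ≠ 0 → ψ ⬝ᵥ w ≠ 0) :
    ∃ c' : F, c' ∉ F₀ ∧ c' ∈ Cc M := by
  by_contra hno
  obtain ⟨i0, i1, i2, h01, h02, h12⟩ : ∃ i0 i1 i2 : Fin n, i0 ≠ i1 ∧ i0 ≠ i2 ∧ i1 ≠ i2 := by
    refine ⟨⟨0, by omega⟩, ⟨1, by omega⟩, ⟨2, by omega⟩, ?_, ?_, ?_⟩ <;>
      (intro h; have := congrArg Fin.val h; simp at this)
  obtain ⟨χ, hχdef⟩ : ∃ χ : Fin n → F, χ = Pi.single i2 1 := ⟨_, rfl⟩
  have hχ : Rat F₀ χ := by rw [hχdef]; exact Rat.single i2 F₀.one_mem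
  have hχ0 : χ ≠ 0 := by rw [hχdef]; exact single_ne_zero' i2
  have hχu : χ ⬝ᵥ u ≠ 0 := hu χ hχ hχ0
  have key : ∀ w : Fin n → F, Rat F₀ w → w ≠ 0 → χ ⬝ᵥ w = 0 →
      ((χ ⬝ᵥ u) * (ψ ⬝ᵥ w) ∈ F₀ ∨ ((χ ⬝ᵥ u) * (ψ ⬝ᵥ w)) ^ 2 = -1) := by
    intro w hw hw0 hχw
    by_cases hk : (χ ⬝ᵥ u) * (ψ ⬝ᵥ w) ∈ F₀
    · exact Or.inl hk
    by_cases hex : Nat.card (Subfield.closure ({(χ ⬝ᵥ u) * (ψ ⬝ᵥ w)} : Set F)) = 9 ∧
        ((χ ⬝ᵥ u) * (ψ ⬝ᵥ w)) ^ 2 = -1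
    · exact Or.inr hex.2
    exfalso
    apply hno
    have h1 := dickson_step h2 hM hψu hT hw hχ hχw hχu (hψ w hw hw0) hex
    exact exists_of_pair hn hM hw hχ hw0 hχ0 hχw hk h1
  -- the two basis vectors of the rational plane
  have hχe0 : χ ⬝ᵥ (Pi.single i0 (1 : F) : Fin n → F) = 0 := by
    rw [hχdef, single_dotProduct, one_mul, Pi.single_eq_of_ne (Ne.symm h02)]
  have hχe1 : χ ⬝ᵥ (Pi.single i1 (1 : F) : Fin n → F) = 0 := by
    rw [hχdef, single_dotProduct, one_mul, Pi.single_eq_of_ne (Ne.symm h12)]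
  have hcomb : ∀ a b : F, a ∈ F₀ → b ∈ F₀ → (a ≠ 0 ∨ b ≠ 0) →
      Rat F₀ (a • Pi.single i0 (1 : F) + b • Pi.single i1 (1 : F) : Fin n → F) ∧
      (a • Pi.single i0 (1 : F) + b • Pi.single i1 (1 : F) : Fin n → F) ≠ 0 ∧
      χ ⬝ᵥ (a • Pi.single i0 (1 : F) + b • Pi.single i1 (1 : F) : Fin n → F) = 0 := by
    intro a b ha hb hab
    refine ⟨(Rat.smul ha (Rat.single i0 F₀.one_mem)).add (Rat.smul hb (Rat.single i1 F₀.one_mem)),
      ?_, ?_⟩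
    · intro h
      rcases hab with h' | h'
      · apply h'
        have := congrFun h i0
        simpa [Pi.single_eq_of_ne h01] using this
      · apply h'
        have := congrFun h i1
        simpa [Pi.single_eq_of_ne (Ne.symm h01)] using this
    · rw [dotProduct_add, dotProduct_smul, dotProduct_smul, hχe0, hχe1, smul_zero, smul_zero,
        add_zero]
  have hval : ∀ a b : F, (χ ⬝ᵥ u) * (ψ ⬝ᵥ (a • Pi.single i0 (1 : F) +
      b • Pi.single i1 (1 : F) : Fin n → F)) =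
      a * ((χ ⬝ᵥ u) * (ψ ⬝ᵥ (Pi.single i0 (1 : F) : Fin n → F))) +
      b * ((χ ⬝ᵥ u) * (ψ ⬝ᵥ (Pi.single i1 (1 : F) : Fin n → F))) := by
    intro a b
    rw [dotProduct_add, dotProduct_smul, dotProduct_smul, smul_eq_mul, smul_eq_mul]
    ring
  have hbad : ∀ a b : F, a ∈ F₀ → b ∈ F₀ → (a ≠ 0 ∨ b ≠ 0) →
      (a * ((χ ⬝ᵥ u) * (ψ ⬝ᵥ (Pi.single i0 (1 : F) : Fin n → F))) +
        b * ((χ ⬝ᵥ u) * (ψ ⬝ᵥ (Pi.single i1 (1 : F) : Fin n → F))) ∈ F₀ ∨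
      (a * ((χ ⬝ᵥ u) * (ψ ⬝ᵥ (Pi.single i0 (1 : F) : Fin n → F))) +
        b * ((χ ⬝ᵥ u) * (ψ ⬝ᵥ (Pi.single i1 (1 : F) : Fin n → F)))) ^ 2 = -1) := by
    intro a b ha hb hab
    obtain ⟨h1, h2', h3⟩ := hcomb a b ha hb hab
    have := key _ h1 h2' h3
    rwa [hval] at this
  have hind : ∀ a b : F, a ∈ F₀ → b ∈ F₀ → (a ≠ 0 ∨ b ≠ 0) →
      a * ((χ ⬝ᵥ u) * (ψ ⬝ᵥ (Pi.single i0 (1 : F) : Fin n → F))) +
        b * ((χ ⬝ᵥ u) * (ψ ⬝ᵥ (Pi.single i1 (1 : F) : Fin n → F))) ≠ 0 := by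
    intro a b ha hb hab
    obtain ⟨h1, h2', h3⟩ := hcomb a b ha hb hab
    rw [← hval]
    exact mul_ne_zero hχu (hψ _ h1 h2')
  have b1 := hbad 1 0 F₀.one_mem F₀.zero_mem (Or.inl one_ne_zero)
  have b2 := hbad 0 1 F₀.zero_mem F₀.one_mem (Or.inr one_ne_zero)
  have b3 := hbad 1 1 F₀.one_mem F₀.one_mem (Or.inl one_ne_zero)
  have b4 := hbad 1 (-1) F₀.one_mem (F₀.neg_mem F₀.one_mem) (Or.inl one_ne_zero)
  simp only [one_mul, zero_mul, add_zero, zero_add, neg_mul, ← sub_eq_add_neg] at b1 b2 b3 b4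
  exact four_bad h2 hind b1 b2 b3 b4

end Cfsg.Agent.Helper7.SubL
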