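import Mathlib
import Cfsg.Agent.Helper7.SubLC
import Cfsg.Agent.Helper7.SubLF

set_option autoImplicit false
set_option linter.unusedSectionVars false

/-! Subfield subgroups of the special linear group, part G: the elements
`1 + p ⊗ ψ + q ⊗ χ` and the two by two matrices they induce modulo the common kernel of `ψ` and
`χ` (helper7). -/

namespace Cfsg.Agent.Helper7.SubL

open Matrix Cfsg Cfsg.Geo Cfsg.Agent.Helper7.TGL Cfsg.Agent.Helper7.SLMax
  Cfsg.Agent.Lead.DicksonA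
open scoped MatrixGroups

variable {F : Type*} [Field F] {n : ℕ}

theorem mat_ext {A B : Matrix (Fin n) (Fin n) F} (h : ∀ x : Fin n → F, A *ᵥ x = B *ᵥ x) :
    A = B := by
  apply Matrix.toLin'.injective
  apply LinearMap.ext
  intro x
  rw [Matrix.toLin'_apply, Matrix.toLin'_apply]
  exact h x

/-- the matrix `1 + p ⊗ ψ + q ⊗ χ`. -/
def gmat (ψ χ p q : Fin n → F) : Matrix (Fin n) (Fin n) F :=
  1 + vecMulVec p ψ + vecMulVec q χ

theorem gmat_mulVec (ψ χ p q x : Fin n → F) :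
    gmat ψ χ p q *ᵥ x = x + (ψ ⬝ᵥ x) • p + (χ ⬝ᵥ x) • q := by
  unfold gmat
  rw [add_mulVec, add_mulVec, one_mulVec, vecMulVec_mulVec, vecMulVec_mulVec, op_smul_eq_smul,
    op_smul_eq_smul]

/-- the induced two by two matrix. -/
def gind (ψ χ p q : Fin n → F) : Matrix (Fin 2) (Fin 2) F :=
  !![1 + ψ ⬝ᵥ p, ψ ⬝ᵥ q; χ ⬝ᵥ p, 1 + χ ⬝ᵥ q]

theorem gmat_zero (ψ χ : Fin n → F) : gmat ψ χ 0 0 = 1 := by
  apply mat_ext
  intro x
  rw [gmat_mulVec, smul_zero, smul_zero, add_zero, add_zero, one_mulVec]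

theorem gind_zero (ψ χ : Fin n → F) : gind ψ χ 0 0 = 1 := by
  unfold gind
  ext i j
  fin_cases i <;> fin_cases j <;> simp

theorem gmat_mul (ψ χ p q p' q' : Fin n → F) :
    gmat ψ χ p q * gmat ψ χ p' q' =
      gmat ψ χ (p + p' + (ψ ⬝ᵥ p') • p + (χ ⬝ᵥ p') • q)
        (q + q' + (ψ ⬝ᵥ q') • p + (χ ⬝ᵥ q') • q) := by
  apply mat_ext
  intro x
  rw [← mulVec_mulVec, gmat_mulVec, gmat_mulVec, gmat_mulVec]
  simp only [dotProduct_add, dotProduct_smul, smul_eq_mul, smul_add, add_smul, smul_smul]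
  module

theorem gind_mul (ψ χ p q p' q' : Fin n → F) :
    gind ψ χ p q * gind ψ χ p' q' =
      gind ψ χ (p + p' + (ψ ⬝ᵥ p') • p + (χ ⬝ᵥ p') • q)
        (q + q' + (ψ ⬝ᵥ q') • p + (χ ⬝ᵥ q') • q) := by
  unfold gind
  ext i j
  fin_cases i <;> fin_cases j <;>
    simp [Matrix.mul_apply, Fin.sum_univ_two, dotProduct_add, dotProduct_smul] <;> ring

/-- the pairs (element, induced matrix), with `p`, `q` in a given subspace. -/
def relMon (ψ χ : Fin n → F) (P : Submodule F (Fin n → F)) :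
    Submonoid (GL (Fin n) F × SL(2, F)) where
  carrier := {x | ∃ p ∈ P, ∃ q ∈ P, (x.1 : Matrix (Fin n) (Fin n) F) = gmat ψ χ p q ∧
    x.2.1 = gind ψ χ p q}
  one_mem' := ⟨0, P.zero_mem, 0, P.zero_mem, by
    rw [Prod.fst_one, Units.val_one, gmat_zero], by
    rw [Prod.snd_one, gind_zero]; rfl⟩
  mul_mem' := by
    rintro x y ⟨p, hp, q, hq, h1, h2⟩ ⟨p', hp', q', hq', h1', h2'⟩
    refine ⟨p + p' + (ψ ⬝ᵥ p') • p + (χ ⬝ᵥ p') • q,
      P.add_mem (P.add_mem (P.add_mem hp hp') (P.smul_mem _ hp)) (P.smul_mem _ hq),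
      q + q' + (ψ ⬝ᵥ q') • p + (χ ⬝ᵥ q') • q,
      P.add_mem (P.add_mem (P.add_mem hq hq') (P.smul_mem _ hp)) (P.smul_mem _ hq), ?_, ?_⟩
    · rw [Prod.fst_mul, Units.val_mul, h1, h1', gmat_mul]
    · rw [Prod.snd_mul, Matrix.SpecialLinearGroup.coe_mul, h2, h2', gind_mul]

theorem inv_mem_of_finite {G : Type*} [Group G] [Finite G] (S : Submonoid G) {x : G}
    (hx : x ∈ S) : x⁻¹ ∈ S := by
  have h1 : x ^ (orderOf x - 1) * x = 1 := by
    rw [← pow_succ]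
    have : orderOf x - 1 + 1 = orderOf x := Nat.sub_add_cancel (orderOf_pos x)
    rw [this, pow_orderOf_eq_one]
  rw [← eq_inv_of_mul_eq_one_left h1]
  exact S.pow_mem hx _

/-- the induced matrices of the elements of `M` of the given shape. -/
def indGroup [Finite F] (M : Subgroup (GL (Fin n) F)) (ψ χ : Fin n → F)
    (P : Submodule F (Fin n → F)) : Subgroup SL(2, F) where
  carrier := {A | ∃ g ∈ M, (g, A) ∈ relMon ψ χ P}
  one_mem' := ⟨1, M.one_mem, (relMon ψ χ P).one_mem⟩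
  mul_mem' := by
    rintro A B ⟨g, hg, hgA⟩ ⟨g', hg', hgB⟩
    exact ⟨g * g', M.mul_mem hg hg', (relMon ψ χ P).mul_mem hgA hgB⟩
  inv_mem' := by
    rintro A ⟨g, hg, hgA⟩
    haveI : Finite SL(2, F) := Subtype.finite
    haveI : Finite (GL (Fin n) F × SL(2, F)) := inferInstance
    exact ⟨g⁻¹, M.inv_mem hg, inv_mem_of_finite (relMon ψ χ P) hgA⟩

theorem mem_indGroup [Finite F] (M : Subgroup (GL (Fin n) F)) (ψ χ : Fin n → F)
    (P : Submodule F (Fin n → F)) (A : SL(2, F)) :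
    A ∈ indGroup M ψ χ P ↔ ∃ g ∈ M, ∃ p ∈ P, ∃ q ∈ P,
      (g : Matrix (Fin n) (Fin n) F) = gmat ψ χ p q ∧ A.1 = gind ψ χ p q := Iff.rfl

end Cfsg.Agent.Helper7.SubL
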