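import Mathlib
import Cfsg.Agent.Helper7.SubLG

set_option autoImplicit false
set_option linter.unusedSectionVars false

/-! Subfield subgroups of the special linear group, part H: the generic case in characteristic
two (helper7). -/

namespace Cfsg.Agent.Helper7.SubL

open Matrix Cfsg Cfsg.Geo Cfsg.Agent.Helper7.TGL Cfsg.Agent.Helper7.SLMax
  Cfsg.Agent.Lead.DicksonA
open scoped MatrixGroups

variable {F : Type*} [Field F] [Fintype F] {n : ℕ} {F₀ : Subfield F}
  {M : Subgroup (GL (Fin n) F)}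

theorem tau_val (v φ : Fin n → F) (h : φ ⬝ᵥ v = 0) :
    (tau v φ h : Matrix (Fin n) (Fin n) F) = 1 + vecMulVec v φ := rfl

/-- the generic case in characteristic two. -/
theorem generic_even (hn : 4 ≤ n) (h2 : (2 : F) = 0) {r : ℕ} (hr : r.Prime)
    (hcard : Fintype.card F = Nat.card F₀ ^ r)
    (hM : Cfsg.Geo.subfieldSubgroup F₀ (1 : GL (Fin n) F) ⊓ Cfsg.Geo.specialLinear (Fin n) F ≤ M)
    {u ψ : Fin n → F} (hψu : ψ ⬝ᵥ u = 0) (hT : tau u ψ hψu ∈ M)
    (hu : ∀ φ : Fin n → F, Rat F₀ φ → φ ≠ 0 → φ ⬝ᵥ u ≠ 0)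
    (hψ : ∀ w : Fin n → F, Rat F₀ w → w ≠ 0 → ψ ⬝ᵥ w ≠ 0) :
    ∃ c' : F, c' ∉ F₀ ∧ c' ∈ Cc M := by
  have hn3 : 3 ≤ n := by omega
  obtain ⟨i0, i1, i2, i3, h01, h02, h03, h12, h13, h23⟩ : ∃ i0 i1 i2 i3 : Fin n,
      i0 ≠ i1 ∧ i0 ≠ i2 ∧ i0 ≠ i3 ∧ i1 ≠ i2 ∧ i1 ≠ i3 ∧ i2 ≠ i3 := by
    refine ⟨⟨0, by omega⟩, ⟨1, by omega⟩, ⟨2, by omega⟩, ⟨3, by omega⟩, ?_, ?_, ?_, ?_, ?_, ?_⟩ <;>
      (intro h; have := congrArg Fin.val h; simp at this)
  obtain ⟨χ, hχdef⟩ : ∃ χ : Fin n → F, χ = Pi.single i2 1 := ⟨_, rfl⟩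
  obtain ⟨e0, he0⟩ : ∃ e0 : Fin n → F, e0 = Pi.single i0 1 := ⟨_, rfl⟩
  obtain ⟨e1, he1⟩ : ∃ e1 : Fin n → F, e1 = Pi.single i1 1 := ⟨_, rfl⟩
  obtain ⟨e3, he3⟩ : ∃ e3 : Fin n → F, e3 = Pi.single i3 1 := ⟨_, rfl⟩
  have hχ : Rat F₀ χ := by rw [hχdef]; exact Rat.single i2 F₀.one_mem
  have hχ0 : χ ≠ 0 := by rw [hχdef]; exact single_ne_zero' i2
  have hχu : χ ⬝ᵥ u ≠ 0 := hu χ hχ hχ0
  have hre0 : Rat F₀ e0 := by rw [he0]; exact Rat.single i0 F₀.one_mem
  have hre1 : Rat F₀ e1 := by rw [he1]; exact Rat.single i1 F₀.one_mem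
  have hre3 : Rat F₀ e3 := by rw [he3]; exact Rat.single i3 F₀.one_mem
  have hχe0 : χ ⬝ᵥ e0 = 0 := by
    rw [hχdef, he0, single_dotProduct, one_mul, Pi.single_eq_of_ne (Ne.symm h02)]
  have hχe1 : χ ⬝ᵥ e1 = 0 := by
    rw [hχdef, he1, single_dotProduct, one_mul, Pi.single_eq_of_ne (Ne.symm h12)]
  have he00 : e0 ≠ 0 := by rw [he0]; exact single_ne_zero' i0
  have ha1 : ψ ⬝ᵥ e0 ≠ 0 := hψ e0 hre0 he00
  have he3i : ∀ v : Fin n → F, (∃ α β : F, v = α • e0 + β • e1) → v i3 = 0 := by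
    rintro v ⟨α, β, rfl⟩
    rw [he0, he1]
    simp [Pi.single_eq_of_ne (Ne.symm h03), Pi.single_eq_of_ne (Ne.symm h13)]
  -- the subspace and the induced group
  obtain ⟨P, hP⟩ : ∃ P : Submodule F (Fin n → F), P = Submodule.span F {e0, e1, u} := ⟨_, rfl⟩
  have he0P : e0 ∈ P := by rw [hP]; exact Submodule.subset_span (by simp)
  have he1P : e1 ∈ P := by rw [hP]; exact Submodule.subset_span (by simp)
  have huP : u ∈ P := by rw [hP]; exact Submodule.subset_span (by simp)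
  -- elements of `P` killed by `χ` are combinations of `e0`, `e1`
  have hPχ : ∀ v ∈ P, χ ⬝ᵥ v = 0 → ∃ α β : F, v = α • e0 + β • e1 := by
    intro v hv hχv
    rw [hP, Submodule.mem_span_triple] at hv
    obtain ⟨α, β, γ, rfl⟩ := hv
    rw [dotProduct_add, dotProduct_add, dotProduct_smul, dotProduct_smul, dotProduct_smul, hχe0,
      hχe1, smul_zero, smul_zero, zero_add, zero_add, smul_eq_mul] at hχv
    have hγ : γ = 0 := (mul_eq_zero.1 hχv).resolve_right hχu
    exact ⟨α, β, by rw [hγ, zero_smul, add_zero]⟩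
  obtain ⟨X, hX⟩ : ∃ X : Subgroup SL(2, F), X = indGroup M ψ χ P := ⟨_, rfl⟩
  -- the rational transvections induce upper unitriangular matrices
  have hupper : ∀ c d : F, c ∈ F₀ → d ∈ F₀ → uu (ψ ⬝ᵥ (c • e0 + d • e1)) ∈ X := by
    intro c d hc hd
    rw [hX, mem_indGroup]
    have hw : Rat F₀ (c • e0 + d • e1) := (Rat.smul hc hre0).add (Rat.smul hd hre1)
    have hχw : χ ⬝ᵥ (c • e0 + d • e1) = 0 := by
      rw [dotProduct_add, dotProduct_smul, dotProduct_smul, hχe0, hχe1, smul_zero, smul_zero,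
        add_zero]
    refine ⟨tau (c • e0 + d • e1) χ hχw, hM (tau_mem_sub hw hχ hχw), 0, P.zero_mem,
      c • e0 + d • e1, P.add_mem (P.smul_mem _ he0P) (P.smul_mem _ he1P), ?_, ?_⟩
    · rw [tau_val]
      unfold gmat
      rw [zero_vecMulVec, add_zero]
    · unfold gind
      rw [dotProduct_zero, dotProduct_zero, hχw, add_zero]
      rfl
  have hlower : ll (χ ⬝ᵥ u) ∈ X := by
    rw [hX, mem_indGroup]
    refine ⟨tau u ψ hψu, hT, u, huP, 0, P.zero_mem, ?_, ?_⟩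
    · rw [tau_val]
      unfold gmat
      rw [zero_vecMulVec, add_zero]
    · unfold gind
      rw [dotProduct_zero, dotProduct_zero, hψu, add_zero]
      rfl
  have hXa1 : uu (ψ ⬝ᵥ e0) ∈ X := by
    have := hupper 1 0 F₀.one_mem F₀.zero_mem
    rwa [one_smul, zero_smul, add_zero] at this
  -- the field of ratios
  obtain ⟨E, hE⟩ : ∃ E : Subfield F, E = lamField h2 X ha1 hχu hXa1 hlower := ⟨_, rfl⟩
  have hF₀E : F₀ ≤ E := by
    intro c hc
    rw [hE, mem_lamField]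
    have := hupper c 0 hc F₀.zero_mem
    rwa [zero_smul, add_zero, dotProduct_smul, smul_eq_mul, mul_comm] at this
  have hlamE : (ψ ⬝ᵥ e1) / (ψ ⬝ᵥ e0) ∈ E := by
    rw [hE, mem_lamField, mul_div_cancel₀ _ ha1]
    have := hupper 0 1 F₀.zero_mem F₀.one_mem
    rwa [zero_smul, zero_add, one_smul] at this
  have hlam : (ψ ⬝ᵥ e1) / (ψ ⬝ᵥ e0) ∉ F₀ := by
    intro hmem
    have hw : Rat F₀ (e1 - ((ψ ⬝ᵥ e1) / (ψ ⬝ᵥ e0)) • e0) := hre1.sub (Rat.smul hmem hre0)
    have hw0 : e1 - ((ψ ⬝ᵥ e1) / (ψ ⬝ᵥ e0)) • e0 ≠ 0 := by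
      intro h
      have := congrFun h i1
      rw [he1, he0] at this
      simp [Pi.single_eq_of_ne (Ne.symm h01)] at this
    apply hψ _ hw hw0
    rw [dotProduct_sub, dotProduct_smul, smul_eq_mul, div_mul_cancel₀ _ ha1, sub_self]
  have hEtop : E = ⊤ := by
    rcases subfield_eq_or_top hr hcard hF₀E with h | h
    · exact absurd (h ▸ hlamE) hlam
    · exact h
  -- an element inducing `uu (ψ e3)`
  have hmem3 : uu (ψ ⬝ᵥ e3) ∈ X := by
    have h1 : (ψ ⬝ᵥ e3) / (ψ ⬝ᵥ e0) ∈ E := by rw [hEtop]; exact Subfield.mem_top _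
    rw [hE, mem_lamField, mul_div_cancel₀ _ ha1] at h1
    exact h1
  rw [hX, mem_indGroup] at hmem3
  obtain ⟨g, hgM, p, hpP, q, hqP, hgval, hgind⟩ := hmem3
  have hψp : ψ ⬝ᵥ p = 0 := by
    have := congrFun (congrFun hgind 0) 0
    simp only [gind, uu_00, Matrix.of_apply, Matrix.cons_val', Matrix.cons_val_zero,
      Matrix.cons_val_fin_one] at this
    linear_combination -this
  have hψq : ψ ⬝ᵥ q = ψ ⬝ᵥ e3 := by
    have := congrFun (congrFun hgind 0) 1
    simp only [gind, uu_01, Matrix.of_apply, Matrix.cons_val', Matrix.cons_val_zero,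
      Matrix.cons_val_one, Matrix.cons_val_fin_one] at this
    exact this.symm
  have hχp : χ ⬝ᵥ p = 0 := by
    have := congrFun (congrFun hgind 1) 0
    simp only [gind, uu_10, Matrix.of_apply, Matrix.cons_val', Matrix.cons_val_zero,
      Matrix.cons_val_one, Matrix.cons_val_fin_one] at this
    exact this.symm
  have hχq : χ ⬝ᵥ q = 0 := by
    have := congrFun (congrFun hgind 1) 1
    simp only [gind, uu_11, Matrix.of_apply, Matrix.cons_val', Matrix.cons_val_zero,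
      Matrix.cons_val_one, Matrix.cons_val_fin_one] at this
    linear_combination -this
  have hgx : ∀ x : Fin n → F, (g : Matrix (Fin n) (Fin n) F) *ᵥ x =
      x + (ψ ⬝ᵥ x) • p + (χ ⬝ᵥ x) • q := by
    intro x
    rw [hgval, gmat_mulVec]
  by_cases hp0 : p = 0
  · -- `g` is a transvection with axis `χ`
    have hgtau : g = tau q χ hχq := by
      apply gl_ext
      intro x
      rw [hgx, tau_mulVec, hp0, smul_zero, add_zero]
    rw [hgtau] at hgM
    have hq0 : q ≠ 0 := by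
      rintro rfl
      rw [dotProduct_zero] at hψq
      exact hψ e3 hre3 (by rw [he3]; exact single_ne_zero' i3) hψq.symm
    by_cases hqP' : PRat F₀ q
    · obtain ⟨μ, hμ0, hμq⟩ := hqP'
      by_cases hμF : μ⁻¹ ∈ F₀
      · exfalso
        have hqr : Rat F₀ q := by
          have := Rat.smul hμF hμq
          rwa [smul_smul, inv_mul_cancel₀ hμ0, one_smul] at this
        have hw0 : q - e3 ≠ 0 := by
          intro h
          have h1 := congrFun h i3
          rw [Pi.sub_apply, he3i q (hPχ q hqP hχq), he3, Pi.single_eq_same, Pi.zero_apply] at h1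
          exact one_ne_zero (by linear_combination -h1)
        apply hψ _ (hqr.sub hre3) hw0
        rw [dotProduct_sub, hψq, sub_self]
      · have hw0 : μ • q ≠ 0 := smul_ne_zero hμ0 hq0
        have hχw : χ ⬝ᵥ (μ • q) = 0 := by rw [dotProduct_smul, hχq, smul_zero]
        refine exists_of_pair hn3 hM hμq hχ hw0 hχ0 hχw (c := μ⁻¹) hμF ?_
        have e : tau (μ⁻¹ • μ • q) χ (by rw [dotProduct_smul, hχw, smul_zero]) = tau q χ hχq :=
          tau_eq_tau _ _ (fun x => by rw [inv_smul_smul₀ hμ0])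
        rw [e]
        exact hgM
    · exact mixed_centre hn3 hM hχ hχ0 hχq hqP' hgM
  · -- the commutator with a rational transvection has irrational centre
    have hpP' : ¬ PRat F₀ p := by
      rintro ⟨μ, hμ0, hμp⟩
      apply hψ _ hμp (smul_ne_zero hμ0 hp0)
      rw [dotProduct_smul, hψp, smul_zero]
    have hχg : χ ᵥ* (g : Matrix (Fin n) (Fin n) F) = χ := by
      rw [hgval]
      unfold gmat
      rw [vecMul_add, vecMul_add, vecMul_one, vecMul_vecMulVec, vecMul_vecMulVec, hχp, hχq,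
        zero_smul, zero_smul, add_zero, add_zero]
    have hχginv : χ ᵥ* ((g⁻¹ : GL (Fin n) F) : Matrix (Fin n) (Fin n) F) = χ := by
      conv_lhs => rw [← hχg]
      rw [vecMul_vecMul, ← Units.val_mul, mul_inv_cancel, Units.val_one, vecMul_one]
    have hconj := tau_conj' g e0 χ hχe0
    have hmem : g * tau e0 χ hχe0 * g⁻¹ ∈ M :=
      M.mul_mem (M.mul_mem hgM (hM (tau_mem_sub hre0 hχ hχe0))) (M.inv_mem hgM)
    have hχap : χ ⬝ᵥ ((ψ ⬝ᵥ e0) • p) = 0 := by rw [dotProduct_smul, hχp, smul_zero]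
    have hfin : tau ((ψ ⬝ᵥ e0) • p) χ hχap ∈ M := by
      have e : tau ((ψ ⬝ᵥ e0) • p) χ hχap =
          (g * tau e0 χ hχe0 * g⁻¹) * (tau e0 χ hχe0)⁻¹ := by
        rw [hconj, tau_inv']
        apply gl_ext
        intro x
        rw [gl_mul_mulVec, tau_mulVec, tau_mulVec, tau_mulVec, hgx, hχe0, zero_smul, add_zero,
          hχginv]
        simp only [dotProduct_add, dotProduct_smul, dotProduct_neg, hχe0, smul_zero, neg_zero,
          add_zero, smul_add, smul_neg, smul_smul]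
        module
      rw [e]
      exact M.mul_mem hmem (M.inv_mem (hM (tau_mem_sub hre0 hχ hχe0)))
    exact mixed_centre hn3 hM hχ hχ0 hχap (not_pRat_smul hpP' ha1) hfin

end Cfsg.Agent.Helper7.SubL
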