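import Mathlib
import Cfsg.Agent.Helper7.SubLE
import Cfsg.Agent.Helper7.SubLH

set_option autoImplicit false
set_option linter.unusedSectionVars false

/-! Subfield subgroups of the special linear group, part I: the subfield group is maximal
(helper7). -/

namespace Cfsg.Agent.Helper7.SubL

open Matrix Cfsg Cfsg.Geo Cfsg.Agent.Helper7.TGL Cfsg.Agent.Helper7.SLMax

variable {F : Type*} [Field F] [Fintype F] {n : ℕ} {F₀ : Subfield F}
  {M : Subgroup (GL (Fin n) F)}

/-- a subgroup containing all elementary transvections contains the special linear group. -/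
theorem specialLinear_le_of_el (hn : 2 ≤ n) (X : Subgroup (GL (Fin n) F))
    (hX : ∀ (i j : Fin n) (h : i ≠ j) (c : F), el i j h c ∈ X) :
    Geo.specialLinear (Fin n) F ≤ X := by
  haveI : Nontrivial (Fin n) := Fin.nontrivial_iff_two_le.2 hn
  intro g hg
  have hdet : (g : Matrix (Fin n) (Fin n) F).det = 1 := by
    have := (MonoidHom.mem_ker).mp hg
    exact congrArg Units.val this
  have hg' : g = Matrix.SpecialLinearGroup.toGL ⟨(g : Matrix (Fin n) (Fin n) F), hdet⟩ := by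
    apply Units.ext
    rfl
  rw [hg']
  refine Cfsg.Agent.Helper7.Transv.transvection_induction
    (fun A => Matrix.SpecialLinearGroup.toGL A ∈ X) ?_ ?_ _
  · intro i j hij a
    have : Matrix.SpecialLinearGroup.toGL (SpecialLinearGroup.transvection hij a) =
        el i j hij a := by
      apply Units.ext
      change (1 : Matrix (Fin n) (Fin n) F) + single i j a =
        1 + vecMulVec (Pi.single i a) (Pi.single j (1 : F))
      congr 1
      ext x y
      simp only [single, of_apply, vecMulVec_apply, Pi.single_apply]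
      by_cases hx : x = i <;> by_cases hy : y = j
      · subst hx hy; simp
      · have hy' : ¬ j = y := fun h => hy h.symm
        subst hx; simp [hy, hy']
      · have hx' : ¬ i = x := fun h => hx h.symm
        subst hy; simp [hx, hx']
      · have hx' : ¬ i = x := fun h => hx h.symm
        simp [hx, hx']
    rw [this]
    exact hX _ _ _ _
  · intro A B hA hB
    rw [map_mul]
    exact X.mul_mem hA hB

/-- an element of `M` outside the subfield group enlarges the parameters. -/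
theorem exists_of_not_mem (hn : 4 ≤ n) {r : ℕ} (hr : r.Prime)
    (hcard : Fintype.card F = Nat.card F₀ ^ r)
    (hM : Cfsg.Geo.subfieldSubgroup F₀ (1 : GL (Fin n) F) ⊓ Cfsg.Geo.specialLinear (Fin n) F ≤ M)
    {g : GL (Fin n) F} (hgM : g ∈ M)
    (hg : g ∉ Cfsg.Geo.subfieldSubgroup F₀ (1 : GL (Fin n) F)) :
    ∃ c' : F, c' ∉ F₀ ∧ c' ∈ Cc M := by
  have hn3 : 3 ≤ n := by omega
  obtain ⟨v, hv, hv0, hgv⟩ := exists_irr (by omega : 2 ≤ n) hg
  obtain ⟨φ, hφ, hvφ, _, m', _, hφm'⟩ := exists_rat_perp hn3 hv ⟨0, by omega⟩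
  have hφv : φ ⬝ᵥ v = 0 := by rw [dotProduct_comm]; exact hvφ
  have hφ0 : φ ≠ 0 := by
    rintro rfl
    exact hφm' rfl
  have hconj := tau_conj' g v φ hφv
  have hT : g * tau v φ hφv * g⁻¹ ∈ M :=
    M.mul_mem (M.mul_mem hgM (hM (tau_mem_sub hv hφ hφv))) (M.inv_mem hgM)
  rw [hconj] at hT
  obtain ⟨u, hu⟩ : ∃ u : Fin n → F, u = (g : Matrix (Fin n) (Fin n) F) *ᵥ v := ⟨_, rfl⟩
  obtain ⟨ψ, hψ⟩ : ∃ ψ : Fin n → F,
      ψ = φ ᵥ* ((g⁻¹ : GL (Fin n) F) : Matrix (Fin n) (Fin n) F) := ⟨_, rfl⟩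
  have hψu : ψ ⬝ᵥ u = 0 := by
    rw [hψ, hu, ← dotProduct_mulVec, gl_inv_mulVec, hφv]
  have hT' : tau u ψ hψu ∈ M := by
    have e : tau u ψ hψu = tau ((g : Matrix (Fin n) (Fin n) F) *ᵥ v)
        (φ ᵥ* ((g⁻¹ : GL (Fin n) F) : Matrix (Fin n) (Fin n) F))
        (by rw [← dotProduct_mulVec, gl_inv_mulVec, hφv]) :=
      tau_eq_tau _ _ (fun x => by rw [hu, hψ])
    rw [e]
    exact hT
  rw [← hu] at hgv
  have hu0 : u ≠ 0 := ne_zero_of_not_pRat hgv
  have hψ0 : ψ ≠ 0 := by
    intro h0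
    apply hφ0
    have : ψ ᵥ* (g : Matrix (Fin n) (Fin n) F) = φ := by
      rw [hψ, vecMul_vecMul, ← Units.val_mul, inv_mul_cancel, Units.val_one, vecMul_one]
    rw [← this, h0, zero_vecMul]
  by_cases hψP : PRat F₀ ψ
  · obtain ⟨μ, hμ0, hμψ⟩ := hψP
    have hχ0 : μ • ψ ≠ 0 := smul_ne_zero hμ0 hψ0
    have hy : (μ • ψ) ⬝ᵥ (μ⁻¹ • u) = 0 := by
      rw [smul_dotProduct, dotProduct_smul, hψu, smul_zero, smul_zero]
    refine mixed_centre hn3 hM hμψ hχ0 hy (not_pRat_smul hgv (inv_ne_zero hμ0)) ?_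
    have e : tau (μ⁻¹ • u) (μ • ψ) hy = tau u ψ hψu :=
      tau_eq_tau _ _ (fun x => by
        rw [smul_dotProduct, smul_smul, smul_eq_mul]
        congr 1
        field_simp)
    rw [e]
    exact hT'
  by_cases hz1 : ∃ w : Fin n → F, Rat F₀ w ∧ w ≠ 0 ∧ ψ ⬝ᵥ w = 0
  · obtain ⟨w, hw, hw0, hψw⟩ := hz1
    exact mixed_of_zero_axis hn3 hM hψu hT' hψP hu0 hw hw0 hψw
  by_cases hz2 : ∃ φ' : Fin n → F, Rat F₀ φ' ∧ φ' ≠ 0 ∧ φ' ⬝ᵥ u = 0
  · obtain ⟨φ', hφ', hφ'0, hφ'u⟩ := hz2
    exact mixed_of_zero_centre hn3 hM hψu hT' hgv hψ0 hφ' hφ'0 hφ'u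
  push Not at hz1 hz2
  by_cases h2 : (2 : F) = 0
  · exact generic_even hn h2 hr hcard hM hψu hT' hz2 hz1
  · exact generic_odd hn3 h2 hM hψu hT' hz2 hz1

/-- the subfield group (for the identity change of basis) is maximal. -/
theorem maximal_one (hn : 4 ≤ n) {r : ℕ} (hr : r.Prime)
    (hcard : Fintype.card F = Nat.card F₀ ^ r) :
    Cfsg.Geo.IsMaximalIn (Cfsg.Geo.specialLinear (Fin n) F)
      (Cfsg.Geo.subfieldSubgroup F₀ (1 : GL (Fin n) F) ⊓ Cfsg.Geo.specialLinear (Fin n) F) := by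
  have hn3 : 3 ≤ n := by omega
  -- an element outside the subfield
  have hne : ∃ c : F, c ∉ F₀ := by
    by_contra hcon
    push Not at hcon
    have h1 : Nat.card F₀ = Fintype.card F := by
      rw [← Nat.card_eq_fintype_card]
      exact Nat.card_congr ⟨fun x => x.1, fun x => ⟨x, hcon x⟩, fun x => rfl, fun x => rfl⟩
    have h2 : 2 ≤ Fintype.card F := Fintype.one_lt_card
    rw [← h1] at hcard h2
    have h3 : Nat.card F₀ ^ 1 = Nat.card F₀ ^ r := by rw [pow_one]; exact hcard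
    have := Nat.pow_right_injective h2 h3
    exact hr.one_lt.ne this
  obtain ⟨c, hc⟩ := hne
  obtain ⟨i0, i1, i2, h01, h02, h12⟩ : ∃ i0 i1 i2 : Fin n, i0 ≠ i1 ∧ i0 ≠ i2 ∧ i1 ≠ i2 := by
    refine ⟨⟨0, by omega⟩, ⟨1, by omega⟩, ⟨2, by omega⟩, ?_, ?_, ?_⟩ <;>
      (intro h; have := congrArg Fin.val h; simp at this)
  refine ⟨lt_of_le_of_ne inf_le_right ?_, ?_⟩
  · intro heq
    have h1 : el i0 i1 h01 c ∈ Cfsg.Geo.specialLinear (Fin n) F := tau_mem_specialLinear _ _ _
    rw [← heq] at h1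
    obtain ⟨μ, hμ0, hμ⟩ := Cfsg.Agent.Helper7.SubF.exists_of_mem_subfield h1.1
    have hA := hμ (Pi.single i2 1) ((mem_V0_one _).2 (Rat.single i2 F₀.one_mem))
    have hB := hμ (Pi.single i1 1) ((mem_V0_one _).2 (Rat.single i1 F₀.one_mem))
    rw [mem_V0_one, el_mulVec] at hA hB
    have hA2 := hA i2
    have hB0 := hB i0
    simp only [Pi.smul_apply, Pi.add_apply, Pi.single_eq_same, Pi.single_eq_of_ne h12,
      Pi.single_eq_of_ne (Ne.symm h02), Pi.single_eq_of_ne h01, zero_mul, Pi.single_zero,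
      Pi.zero_apply, add_zero, zero_add, one_mul, smul_eq_mul, mul_one] at hA2 hB0
    apply hc
    have := F₀.mul_mem hB0 (F₀.inv_mem hA2)
    rwa [mul_comm μ c, mul_assoc, mul_inv_cancel₀ hμ0, mul_one] at this
  · intro M hHM hMK
    by_cases hsub : M ≤ Cfsg.Geo.subfieldSubgroup F₀ (1 : GL (Fin n) F)
    · left
      exact le_antisymm (le_inf hsub hMK) hHM
    · right
      obtain ⟨g, hgM, hg⟩ := SetLike.not_le_iff_exists.1 hsub
      obtain ⟨c', hc', hc'M⟩ := exists_of_not_mem hn hr hcard hHM hgM hg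
      have hle : F₀ ≤ CcField hn3 hHM := fun x hx => rat_mem_Cc hHM hx
      have htop : CcField hn3 hHM = ⊤ := by
        rcases subfield_eq_or_top hr hcard hle with h | h
        · exfalso
          apply hc'
          rw [← h]
          exact hc'M
        · exact h
      refine le_antisymm hMK (specialLinear_le_of_el (by omega) M ?_)
      intro i j h x
      have hx : x ∈ CcField hn3 hHM := by rw [htop]; exact Subfield.mem_top x
      exact hx i j h

/-- maximality is preserved by group automorphisms. -/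
theorem isMaximalIn_map {G : Type*} [Group G] (e : G ≃* G) {K H : Subgroup G}
    (h : Cfsg.Geo.IsMaximalIn K H) :
    Cfsg.Geo.IsMaximalIn (K.map e.toMonoidHom) (H.map e.toMonoidHom) := by
  obtain ⟨hlt, hmax⟩ := h
  refine ⟨(e.mapSubgroup.lt_iff_lt).2 hlt, ?_⟩
  intro M hHM hMK
  have h1 : H ≤ e.mapSubgroup.symm M := by
    rw [← e.mapSubgroup.le_iff_le, OrderIso.apply_symm_apply]
    exact hHM
  have h2 : e.mapSubgroup.symm M ≤ K := by
    rw [← e.mapSubgroup.le_iff_le, OrderIso.apply_symm_apply]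
    exact hMK
  rcases hmax _ h1 h2 with h3 | h3
  · left
    have := congrArg e.mapSubgroup h3
    rwa [OrderIso.apply_symm_apply] at this
  · right
    have := congrArg e.mapSubgroup h3
    rwa [OrderIso.apply_symm_apply] at this

/-- the subfield group is maximal in the special linear group. -/
theorem subfield_maximal (hn : 4 ≤ n) {r : ℕ} (hr : r.Prime)
    (hcard : Fintype.card F = Nat.card F₀ ^ r) (P : GL (Fin n) F) :
    Cfsg.Geo.IsMaximalIn (Cfsg.Geo.specialLinear (Fin n) F)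
      (Cfsg.Geo.subfieldSubgroup F₀ P ⊓ Cfsg.Geo.specialLinear (Fin n) F) := by
  have h1 := isMaximalIn_map (MulAut.conj P) (maximal_one (F₀ := F₀) hn hr hcard)
  have hSL : (Cfsg.Geo.specialLinear (Fin n) F).map (MulAut.conj P).toMonoidHom =
      Cfsg.Geo.specialLinear (Fin n) F := by
    ext x
    rw [Subgroup.mem_map]
    unfold Cfsg.Geo.specialLinear
    constructor
    · rintro ⟨y, hy, rfl⟩
      rw [MonoidHom.mem_ker] at hy ⊢
      simp only [MulEquiv.coe_toMonoidHom, MulAut.conj_apply, map_mul, map_inv, hy, mul_one,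
        mul_inv_cancel]
    · intro hx
      rw [MonoidHom.mem_ker] at hx
      refine ⟨P⁻¹ * x * P, ?_, ?_⟩
      · rw [MonoidHom.mem_ker]
        simp only [map_mul, map_inv, hx, mul_one, inv_mul_cancel]
      · simp only [MulEquiv.coe_toMonoidHom, MulAut.conj_apply]
        group
  have hsub : (Cfsg.Geo.subfieldSubgroup F₀ (1 : GL (Fin n) F)).map
      (MulAut.conj P).toMonoidHom = Cfsg.Geo.subfieldSubgroup F₀ P := by
    unfold Cfsg.Geo.subfieldSubgroup
    rw [map_one]
    have : ((1 : MulAut (GL (Fin n) F)).toMonoidHom) = MonoidHom.id _ := rfl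
    rw [this, Subgroup.map_id]
  rw [Subgroup.map_inf _ _ _ (MulAut.conj P).injective, hSL, hsub] at h1
  exact h1

end Cfsg.Agent.Helper7.SubL
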