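import Mathlib
import Cfsg.Agent.Helper7.SubFF
import Cfsg.Agent.Helper7.SubLI
import Cfsg.Agent.Helper7.SUPairA

set_option autoImplicit false
set_option linter.unusedSectionVars false

/-! Subfield subgroups of the special unitary group (odd degree), part A: field facts
(helper7). -/

namespace Cfsg.Agent.Helper7.SUSub

open Matrix Cfsg Cfsg.Agent.Helper7.Herm Cfsg.Agent.Helper8.GUOrder Cfsg.Agent.Helper8.SURoot
  Cfsg.Agent.Helper8.AutSU

variable {F : Type*} [Field F] [Fintype F] {q : ℕ} [hF : Fact (Fintype.card F = q ^ 2)]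
  {F₀ : Subfield F}

/-- the fixed field of `x ↦ x ^ q`. -/
def fixedField (F : Type*) [Field F] [Fintype F] (q : ℕ) [hF : Fact (Fintype.card F = q ^ 2)] :
    Subfield F where
  carrier := {x | x ^ q = x}
  mul_mem' := by
    intro a b ha hb
    show (a * b) ^ q = a * b
    rw [mul_pow, ha, hb]
  one_mem' := one_pow q
  add_mem' := by
    intro a b ha hb
    show (a + b) ^ q = a + b
    rw [b_add, ha, hb]
  zero_mem' := b_zero
  neg_mem' := by
    intro a ha
    show (-a) ^ q = -a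
    rw [b_neg, ha]
  inv_mem' := by
    intro a ha
    show (a⁻¹) ^ q = a⁻¹
    rw [inv_pow, ha]

theorem mem_fixedField (x : F) : x ∈ fixedField F q ↔ x ^ q = x := Iff.rfl

/-- the subfield is stable under `x ↦ x ^ q`. -/
theorem pow_mem_sub {x : F} (hx : x ∈ F₀) : x ^ q ∈ F₀ := F₀.pow_mem hx q

/-- the trace trick: an element all of whose rational multiples have rational trace is
rational. -/
theorem mem_of_trace {θ : F} (hθ : θ ∈ F₀) (hθq : θ ^ q ≠ θ) {z : F}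
    (h : ∀ lam : F, lam ∈ F₀ → lam * z + (lam * z) ^ q ∈ F₀) : z ∈ F₀ := by
  have h1 := h 1 F₀.one_mem
  have h2 := h θ hθ
  rw [one_mul] at h1
  rw [mul_pow] at h2
  have h3 : (θ ^ q - θ) * z ∈ F₀ := by
    have : (θ ^ q - θ) * z = θ ^ q * (z + z ^ q) - (θ * z + θ ^ q * z ^ q) := by ring
    rw [this]
    exact F₀.sub_mem (F₀.mul_mem (pow_mem_sub hθ) h1) h2
  have hne : θ ^ q - θ ≠ 0 := sub_ne_zero.mpr hθq
  have h4 : θ ^ q - θ ∈ F₀ := F₀.sub_mem (pow_mem_sub hθ) hθ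
  have := F₀.mul_mem (F₀.inv_mem h4) h3
  rwa [← mul_assoc, inv_mul_cancel₀ hne, one_mul] at this

/-- the skew version of the trace trick. -/
theorem mem_of_skew {θ : F} (hθ : θ ∈ F₀) (hθq : θ ^ q ≠ θ) {z : F}
    (h : ∀ lam : F, lam ∈ F₀ → lam * z - (lam * z) ^ q ∈ F₀) : z ∈ F₀ := by
  have h1 := h 1 F₀.one_mem
  have h2 := h θ hθ
  rw [one_mul] at h1
  rw [mul_pow] at h2
  have h3 : (θ - θ ^ q) * z ∈ F₀ := by
    have : (θ - θ ^ q) * z = (θ * z - θ ^ q * z ^ q) - θ ^ q * (z - z ^ q) := by ring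
    rw [this]
    exact F₀.sub_mem h2 (F₀.mul_mem (pow_mem_sub hθ) h1)
  have hne : θ - θ ^ q ≠ 0 := sub_ne_zero.mpr (Ne.symm hθq)
  have h4 : θ - θ ^ q ∈ F₀ := F₀.sub_mem hθ (pow_mem_sub hθ)
  have := F₀.mul_mem (F₀.inv_mem h4) h3
  rwa [← mul_assoc, inv_mul_cancel₀ hne, one_mul] at this

/-- the norm version: if all rational translates of `μ` have rational norm, `μ` is rational. -/
theorem mem_of_norm {θ : F} (hθ : θ ∈ F₀) (hθq : θ ^ q ≠ θ) {μ : F}
    (h : ∀ lam : F, lam ∈ F₀ → (μ + lam) * (μ + lam) ^ q ∈ F₀) : μ ∈ F₀ := by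
  have h0 := h 0 F₀.zero_mem
  rw [add_zero] at h0
  apply mem_of_trace hθ hθq
  intro lam hlam
  have h1 := h (lam ^ q) (pow_mem_sub hlam)
  rw [b_add, bb] at h1
  have e : lam * μ + (lam * μ) ^ q =
      (μ + lam ^ q) * (μ ^ q + lam) - μ * μ ^ q - lam * lam ^ q := by
    rw [mul_pow]; ring
  rw [e]
  exact F₀.sub_mem (F₀.sub_mem h1 h0) (F₀.mul_mem hlam (pow_mem_sub hlam))

/-- a rational non-zero skew element. -/
theorem exists_skew_rat {θ : F} (hθ : θ ∈ F₀) (hθq : θ ^ q ≠ θ) :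
    ∃ ε : F, ε ∈ F₀ ∧ ε ≠ 0 ∧ ε ^ q + ε = 0 := by
  refine ⟨θ - θ ^ q, F₀.sub_mem hθ (pow_mem_sub hθ), sub_ne_zero.mpr (Ne.symm hθq), ?_⟩
  rw [b_sub, bb]
  ring

section degree

variable {r : ℕ}

/-- an irrational element does not satisfy a quadratic equation over the subfield. -/
theorem no_quadratic (hr : r.Prime) (hr3 : 3 ≤ r) (hcard : Fintype.card F = Nat.card F₀ ^ r)
    {μ a b c : F} (hμ : μ ∉ F₀) (ha : a ∈ F₀) (hb : b ∈ F₀) (hc : c ∈ F₀) (ha0 : a ≠ 0)
    (h : a * μ ^ 2 + b * μ + c = 0) : False := by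
  have hμ2 : μ ^ 2 = -(b / a) * μ + -(c / a) := by
    field_simp
    linear_combination h
  have hba : -(b / a) ∈ F₀ := F₀.neg_mem (F₀.div_mem hb ha)
  have hca : -(c / a) ∈ F₀ := F₀.neg_mem (F₀.div_mem hc ha)
  obtain ⟨S, hS⟩ : ∃ S : Set F, S = {x | ∃ s ∈ F₀, ∃ t ∈ F₀, x = s + t * μ} := ⟨_, rfl⟩
  have hS0 : (0 : F) ∈ S := by
    rw [hS]; exact ⟨0, F₀.zero_mem, 0, F₀.zero_mem, by ring⟩
  have hS1 : (1 : F) ∈ S := by
    rw [hS]; exact ⟨1, F₀.one_mem, 0, F₀.zero_mem, by ring⟩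
  have hSadd : ∀ x y, x ∈ S → y ∈ S → x + y ∈ S := by
    intro x y hx hy
    rw [hS] at hx hy ⊢
    obtain ⟨s, hs, t, ht, rfl⟩ := hx
    obtain ⟨s', hs', t', ht', rfl⟩ := hy
    exact ⟨s + s', F₀.add_mem hs hs', t + t', F₀.add_mem ht ht', by ring⟩
  have hSneg : ∀ x, x ∈ S → -x ∈ S := by
    intro x hx
    rw [hS] at hx ⊢
    obtain ⟨s, hs, t, ht, rfl⟩ := hx
    exact ⟨-s, F₀.neg_mem hs, -t, F₀.neg_mem ht, by ring⟩
  have hSmul : ∀ x y, x ∈ S → y ∈ S → x * y ∈ S := by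
    intro x y hx hy
    rw [hS] at hx hy ⊢
    obtain ⟨s, hs, t, ht, rfl⟩ := hx
    obtain ⟨s', hs', t', ht', rfl⟩ := hy
    refine ⟨s * s' + t * t' * -(c / a), F₀.add_mem (F₀.mul_mem hs hs')
      (F₀.mul_mem (F₀.mul_mem ht ht') hca), s * t' + t * s' + t * t' * -(b / a),
      F₀.add_mem (F₀.add_mem (F₀.mul_mem hs ht') (F₀.mul_mem ht hs'))
        (F₀.mul_mem (F₀.mul_mem ht ht') hba), ?_⟩
    have : (s + t * μ) * (s' + t' * μ) = s * s' + (s * t' + t * s') * μ + t * t' * μ ^ 2 := by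
      ring
    rw [this, hμ2]
    ring
  obtain ⟨K, hK⟩ : ∃ K : Subfield F,
      K = Cfsg.Agent.Helper7.SubL.subfieldOfSet S hS0 hS1 hSadd hSneg hSmul := ⟨_, rfl⟩
  have hKmem : ∀ x, x ∈ K ↔ x ∈ S := by
    intro x; rw [hK]; exact Iff.rfl
  have hle : F₀ ≤ K := by
    intro x hx
    rw [hKmem, hS]
    exact ⟨x, hx, 0, F₀.zero_mem, by ring⟩
  have hμK : μ ∈ K := by
    rw [hKmem, hS]
    exact ⟨0, F₀.zero_mem, 1, F₀.one_mem, by ring⟩
  have hKtop : K = ⊤ := by
    rcases Cfsg.Agent.Helper7.SubL.subfield_eq_or_top hr hcard hle with h1 | h1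
    · exact absurd (h1 ▸ hμK) hμ
    · exact h1
  haveI : Fintype F₀ := Fintype.ofFinite F₀
  have hsurj : Function.Surjective (fun p : F₀ × F₀ => (p.1 : F) + (p.2 : F) * μ) := by
    intro x
    have hx : x ∈ K := by rw [hKtop]; exact Subfield.mem_top x
    rw [hKmem, hS] at hx
    obtain ⟨s, hs, t, ht, rfl⟩ := hx
    exact ⟨(⟨s, hs⟩, ⟨t, ht⟩), rfl⟩
  have h1 := Fintype.card_le_of_surjective _ hsurj
  rw [Fintype.card_prod, hcard, Nat.card_eq_fintype_card] at h1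
  have h2 : 2 ≤ Fintype.card F₀ := by
    have : 1 < Fintype.card F₀ := Fintype.one_lt_card
    omega
  have h3 : Fintype.card F₀ ^ 3 ≤ Fintype.card F₀ ^ r := Nat.pow_le_pow_right (by omega) hr3
  have h4 : Fintype.card F₀ * Fintype.card F₀ < Fintype.card F₀ ^ 3 := by
    have : Fintype.card F₀ ^ 3 = Fintype.card F₀ * Fintype.card F₀ * Fintype.card F₀ := by ring
    rw [this]
    have h5 : 0 < Fintype.card F₀ * Fintype.card F₀ := by positivity
    nlinarith
  omega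

/-- when the degree is an odd prime the subfield is not fixed by `x ↦ x ^ q`. -/
theorem exists_not_fixed_rat (hr : r.Prime) (hr3 : 3 ≤ r)
    (hcard : Fintype.card F = Nat.card F₀ ^ r) : ∃ θ : F, θ ∈ F₀ ∧ θ ^ q ≠ θ := by
  by_contra hcon
  push Not at hcon
  have hle : F₀ ≤ fixedField F q := fun x hx => hcon x hx
  obtain ⟨a, ha⟩ := exists_not_fixed (K := F) hF.out
  rcases Cfsg.Agent.Helper7.SubL.subfield_eq_or_top hr hcard hle with h1 | h1
  · -- the fixed field is the subfield: every element is quadratic over it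
    have haF : a ∉ F₀ := by
      intro h
      exact ha (hcon a h)
    have ht : a + a ^ q ∈ F₀ := by
      rw [← h1, mem_fixedField, b_add, bb]; ring
    have hn : a * a ^ q ∈ F₀ := by
      rw [← h1, mem_fixedField, mul_pow, bb]; ring
    exact no_quadratic hr hr3 hcard haF F₀.one_mem (F₀.neg_mem ht) hn one_ne_zero (by ring)
  · apply ha
    have : a ∈ fixedField F q := by rw [h1]; exact Subfield.mem_top a
    exact this

/-- a fixed element outside the subfield. -/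
theorem exists_fixed_not_mem (hr : r.Prime) (hr3 : 3 ≤ r)
    (hcard : Fintype.card F = Nat.card F₀ ^ r) : ∃ c : F, c ^ q = c ∧ c ∉ F₀ := by
  by_contra hcon
  push Not at hcon
  obtain ⟨θ, hθ, hθq⟩ := exists_not_fixed_rat (q := q) hr hr3 hcard
  -- every element is a combination of `1` and `θ` over the fixed field
  have hall : ∀ y : F, y ∈ F₀ := by
    intro y
    have hne : θ - θ ^ q ≠ 0 := sub_ne_zero.mpr (Ne.symm hθq)
    obtain ⟨b, hb⟩ : ∃ b : F, b = (y - y ^ q) / (θ - θ ^ q) := ⟨_, rfl⟩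
    have hbq : b ^ q = b := by
      rw [hb, div_pow, b_sub, b_sub, bb, bb, ← neg_sub y, ← neg_sub θ, neg_div_neg_eq]
    have hyq : y ^ q = y - b * (θ - θ ^ q) := by
      rw [hb, div_mul_cancel₀ _ hne]; ring
    have haq : (y - b * θ) ^ q = y - b * θ := by
      rw [b_sub, mul_pow, hbq, hyq]; ring
    have : y = (y - b * θ) + b * θ := by ring
    rw [this]
    exact F₀.add_mem (hcon _ haq) (F₀.mul_mem (hcon _ hbq) hθ)
  haveI : Fintype F₀ := Fintype.ofFinite F₀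
  have h1 : Fintype.card F₀ = Fintype.card F :=
    Fintype.card_congr ⟨fun x => x.1, fun x => ⟨x, hall x⟩, fun x => rfl, fun x => rfl⟩
  rw [Nat.card_eq_fintype_card, h1] at hcard
  have h2 : 2 ≤ Fintype.card F := Fintype.one_lt_card
  have h3 : Fintype.card F ^ 1 = Fintype.card F ^ r := by rw [pow_one]; exact hcard
  have := Nat.pow_right_injective h2 h3
  omega

end degree

end Cfsg.Agent.Helper7.SUSub
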