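import Mathlib
import Cfsg.Agent.Helper7.OSubK
import Cfsg.Agent.Helper7.SUSubA
import Cfsg.Agent.Helper7.SubLG
import Cfsg.Agent.Helper7.SubLE
import Cfsg.Agent.Lead.DicksonP

set_option autoImplicit false
set_option linter.unusedSectionVars false

/-! Subfield subgroups of orthogonal groups, part L: the matrices induced on the images of three
vectors modulo a fixed vector, and two lemmas on subgroups of `SL₂` (helper7). -/

namespace Cfsg.Agent.Helper7.OSub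

open Module Matrix Cfsg.Agent.Helper8.QuadForm Cfsg.Agent.Helper8.WittQuad
  Cfsg.Agent.Helper8.OrthOrder Cfsg.Agent.Helper8.Siegel Cfsg.Agent.Helper8.SiegelGroup
  Cfsg.Agent.Helper7.OrthMax Cfsg.Agent.Helper7.OrthPair Cfsg.Agent.Helper7.SpSub
  Cfsg.Agent.Lead.DicksonA Cfsg.Agent.Lead.DicksonJ
open scoped MatrixGroups

variable {F : Type*} [Field F] [Fintype F] {ι : Type} [Fintype ι] [DecidableEq ι]
  {F₀ : Subfield F} {Q : QuadraticForm F (ι → F)}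

/-- the pairs (isometry, matrix): the isometry fixes `z` and acts on the pairs `θ k`, `e k`
through the matrix modulo `z`. -/
def relO (Q : QuadraticForm F (ι → F)) (e θ : Fin 3 → ι → F) (z : ι → F) :
    Submonoid (↥(Isom Q) × SL(2, F)) where
  carrier := {x | (x.1 : (ι → F) ≃ₗ[F] (ι → F)) z = z ∧
    (∀ k, ∃ p : F, (x.1 : (ι → F) ≃ₗ[F] (ι → F)) (θ k) =
      x.2.1 0 0 • θ k + x.2.1 1 0 • e k + p • z) ∧
    (∀ k, ∃ p : F, (x.1 : (ι → F) ≃ₗ[F] (ι → F)) (e k) =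
      x.2.1 0 1 • θ k + x.2.1 1 1 • e k + p • z)}
  one_mem' := by
    refine ⟨rfl, fun k => ⟨0, ?_⟩, fun k => ⟨0, ?_⟩⟩
    · show θ k = (1 : SL(2, F)).1 0 0 • θ k + (1 : SL(2, F)).1 1 0 • e k + (0 : F) • z
      rw [one_00, one_10, one_smul, zero_smul, zero_smul, add_zero, add_zero]
    · show e k = (1 : SL(2, F)).1 0 1 • θ k + (1 : SL(2, F)).1 1 1 • e k + (0 : F) • z
      rw [one_01, one_11, one_smul, zero_smul, zero_smul, zero_add, add_zero]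
  mul_mem' := by
    rintro ⟨g, A⟩ ⟨h, C⟩ ⟨hgz, hg2, hg3⟩ ⟨hhz, hh2, hh3⟩
    simp only at hgz hg2 hg3 hhz hh2 hh3
    refine ⟨?_, fun k => ?_, fun k => ?_⟩
    · show ((g * h : ↥(Isom Q)) : (ι → F) ≃ₗ[F] (ι → F)) z = z
      rw [Subgroup.coe_mul, LinearEquiv.mul_apply, hhz, hgz]
    · obtain ⟨p, hp⟩ := hg2 k
      obtain ⟨p', hp'⟩ := hg3 k
      obtain ⟨r, hr⟩ := hh2 k
      refine ⟨C.1 0 0 * p + C.1 1 0 * p' + r, ?_⟩
      show ((g * h : ↥(Isom Q)) : (ι → F) ≃ₗ[F] (ι → F)) (θ k) =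
        (A * C).1 0 0 • θ k + (A * C).1 1 0 • e k + _ • z
      rw [Subgroup.coe_mul, LinearEquiv.mul_apply, hr, map_add, map_add, map_smul, map_smul,
        map_smul, hp, hp', hgz, mul_00, mul_10]
      module
    · obtain ⟨p, hp⟩ := hg2 k
      obtain ⟨p', hp'⟩ := hg3 k
      obtain ⟨r, hr⟩ := hh3 k
      refine ⟨C.1 0 1 * p + C.1 1 1 * p' + r, ?_⟩
      show ((g * h : ↥(Isom Q)) : (ι → F) ≃ₗ[F] (ι → F)) (e k) =
        (A * C).1 0 1 • θ k + (A * C).1 1 1 • e k + _ • z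
      rw [Subgroup.coe_mul, LinearEquiv.mul_apply, hr, map_add, map_add, map_smul, map_smul,
        map_smul, hp, hp', hgz, mul_01, mul_11]
      module

/-- the matrices induced by the elements of `M`. -/
def indO (M : Subgroup ↥(Isom Q)) (e θ : Fin 3 → ι → F) (z : ι → F) : Subgroup SL(2, F) where
  carrier := {A | ∃ g ∈ M, (g, A) ∈ relO Q e θ z}
  one_mem' := ⟨1, M.one_mem, (relO Q e θ z).one_mem⟩
  mul_mem' := by
    rintro A C ⟨g, hg, hgA⟩ ⟨g', hg', hgC⟩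
    exact ⟨g * g', M.mul_mem hg hg', (relO Q e θ z).mul_mem hgA hgC⟩
  inv_mem' := by
    rintro A ⟨g, hg, hgA⟩
    haveI : Finite SL(2, F) := Subtype.finite
    haveI : Finite ((ι → F) ≃ₗ[F] (ι → F)) :=
      Finite.of_injective (fun e : (ι → F) ≃ₗ[F] (ι → F) => (e : (ι → F) → (ι → F)))
        DFunLike.coe_injective
    haveI : Finite ↥(Isom Q) := Subtype.finite
    haveI : Finite (↥(Isom Q) × SL(2, F)) := inferInstance
    have h1 := Cfsg.Agent.Helper7.SubL.inv_mem_of_finite (relO Q e θ z) hgA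
    rw [Prod.inv_mk] at h1
    exact ⟨g⁻¹, M.inv_mem hg, h1⟩

theorem mem_indO (M : Subgroup ↥(Isom Q)) (e θ : Fin 3 → ι → F) (z : ι → F) (A : SL(2, F)) :
    A ∈ indO M e θ z ↔ ∃ g ∈ M, (g : (ι → F) ≃ₗ[F] (ι → F)) z = z ∧
      (∀ k, ∃ p : F, (g : (ι → F) ≃ₗ[F] (ι → F)) (θ k) =
        A.1 0 0 • θ k + A.1 1 0 • e k + p • z) ∧
      (∀ k, ∃ p : F, (g : (ι → F) ≃ₗ[F] (ι → F)) (e k) =
        A.1 0 1 • θ k + A.1 1 1 • e k + p • z) := Iff.rfl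

/-- an element fixing the `θ k` and adding a multiple of `θ k` to `e k` induces an upper
unitriangular matrix. -/
theorem uu_mem_indO {M : Subgroup ↥(Isom Q)} {e θ : Fin 3 → ι → F} {z : ι → F} {x : ↥(Isom Q)}
    (hx : x ∈ M) {t : F} (hz : (x : (ι → F) ≃ₗ[F] (ι → F)) z = z)
    (hθ : ∀ k, (x : (ι → F) ≃ₗ[F] (ι → F)) (θ k) = θ k)
    (he : ∀ k, (x : (ι → F) ≃ₗ[F] (ι → F)) (e k) = e k + t • θ k) :
    uu t ∈ indO M e θ z := by
  rw [mem_indO]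
  refine ⟨x, hx, hz, fun k => ⟨0, ?_⟩, fun k => ⟨0, ?_⟩⟩
  · rw [hθ k, uu_00, uu_10, one_smul, zero_smul, zero_smul, add_zero, add_zero]
  · rw [he k, uu_01, uu_11, one_smul, zero_smul, add_zero, add_comm]

/-- an element fixing the `e k` and adding a multiple of `e k` to `θ k` modulo `z` induces a
lower unitriangular matrix. -/
theorem ll_mem_indO {M : Subgroup ↥(Isom Q)} {e θ : Fin 3 → ι → F} {z : ι → F} {x : ↥(Isom Q)}
    (hx : x ∈ M) {t : F} (hz : (x : (ι → F) ≃ₗ[F] (ι → F)) z = z)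
    (hθ : ∀ k, ∃ p : F, (x : (ι → F) ≃ₗ[F] (ι → F)) (θ k) = θ k + t • e k + p • z)
    (he : ∀ k, (x : (ι → F) ≃ₗ[F] (ι → F)) (e k) = e k) :
    ll t ∈ indO M e θ z := by
  rw [mem_indO]
  refine ⟨x, hx, hz, fun k => ?_, fun k => ⟨0, ?_⟩⟩
  · obtain ⟨p, hp⟩ := hθ k
    exact ⟨p, by rw [hp, ll_00, ll_10, one_smul]⟩
  · rw [he k, ll_01, ll_11, one_smul, zero_smul, zero_smul, zero_add, add_zero]

/-- odd characteristic: a subgroup of `SL₂` containing `uu 1` and `ll ρ` with `ρ` irrational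
contains a diagonal matrix with irrational entries. -/
theorem diag_of_irr (h2 : (2 : F) ≠ 0) {r : ℕ} (hr : r.Prime) (hr3 : 3 ≤ r)
    (hcard : Fintype.card F = Nat.card F₀ ^ r) (X : Subgroup SL(2, F)) {ρ : F} (hρ : ρ ∉ F₀)
    (hu : uu 1 ∈ X) (hl : ll ρ ∈ X) : ∃ d ∈ X, d.1 0 1 = 0 ∧ d.1 1 1 ∉ F₀ := by
  have hρ0 : ρ ≠ 0 := by
    rintro rfl
    exact hρ F₀.zero_mem
  obtain ⟨E, hE⟩ : ∃ E : Subfield F, E = Subfield.closure ({ρ} : Set F) := ⟨_, rfl⟩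
  haveI : Fintype E := Fintype.ofFinite E
  have hρE : ρ ∈ E := by rw [hE]; exact Subfield.subset_closure rfl
  have h2E : (2 : E) ≠ 0 := by
    intro h
    apply h2
    have := congrArg Subtype.val h
    exact this
  have hlam0 : (⟨ρ, hρE⟩ : E) ≠ 0 := by
    intro h
    exact hρ0 (congrArg Subtype.val h)
  have hgen : Subfield.closure ({(⟨ρ, hρE⟩ : E)} : Set E) = ⊤ := by
    subst hE
    exact Cfsg.Agent.Helper7.SubL.closure_self_top ρ
  have hneE : ¬ (Fintype.card E = 9 ∧ (⟨ρ, hρE⟩ : E) ^ 2 = -1) := by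
    rintro ⟨-, hsq⟩
    have h1 : ρ ^ 2 = -1 := by
      have := congrArg Subtype.val hsq
      simpa using this
    exact Cfsg.Agent.Helper7.SUSub.no_quadratic hr hr3 hcard hρ F₀.one_mem F₀.zero_mem
      F₀.one_mem one_ne_zero (by rw [h1]; ring)
  have htop := Cfsg.Agent.Lead.DicksonP.partA h2E (⟨ρ, hρE⟩ : E) hlam0 hgen hneE
  have hle : Subgroup.closure ({uu 1, ll (⟨ρ, hρE⟩ : E)} : Set SL(2, E)) ≤
      X.comap (Matrix.SpecialLinearGroup.map E.subtype) := by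
    rw [Subgroup.closure_le]
    rintro g (rfl | rfl)
    · show Matrix.SpecialLinearGroup.map E.subtype (uu 1) ∈ X
      rw [map_uu, map_one]
      exact hu
    · show Matrix.SpecialLinearGroup.map E.subtype (ll ⟨ρ, hρE⟩) ∈ X
      rw [map_ll]
      exact hl
  have hmem : (hh (⟨ρ, hρE⟩ : E) hlam0 : SL(2, E)) ∈
      Subgroup.closure ({uu 1, ll (⟨ρ, hρE⟩ : E)} : Set SL(2, E)) := by
    rw [htop]; exact Subgroup.mem_top _
  refine ⟨Matrix.SpecialLinearGroup.map E.subtype (hh (⟨ρ, hρE⟩ : E) hlam0), hle hmem, ?_, ?_⟩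
  · rw [map_entry, hh_01]
    simp
  · rw [map_entry, hh_11]
    intro h
    apply hρ
    have h3 : ((⟨ρ, hρE⟩ : E)⁻¹ : E) = ⟨ρ⁻¹, E.inv_mem hρE⟩ := rfl
    rw [h3] at h
    have h4 : ρ⁻¹ ∈ F₀ := h
    have := F₀.inv_mem h4
    rwa [inv_inv] at this

/-- characteristic two: a subgroup of `SL₂` containing `uu 1`, `ll a₁` and `ll a₂` contains a
lower triangular matrix whose diagonal entry squares to the ratio. -/
theorem lower_of_two (h2 : (2 : F) = 0) (X : Subgroup SL(2, F)) {a₁ a₂ : F} (ha₁ : a₁ ≠ 0)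
    (ha₂ : a₂ ≠ 0) (hu : uu 1 ∈ X) (hl₁ : ll a₁ ∈ X) (hl₂ : ll a₂ ∈ X) :
    ∃ d ∈ X, d.1 0 1 = 0 ∧ d.1 1 1 * d.1 1 1 * a₁ = a₂ := by
  obtain ⟨k₁, hk₁⟩ := Cfsg.Agent.Helper7.SubL.exists_conj_char_two h2 (one_ne_zero (α := F)) ha₁
  obtain ⟨k₂, hk₂⟩ := Cfsg.Agent.Helper7.SubL.exists_conj_char_two h2 (one_ne_zero (α := F)) ha₂
  obtain ⟨g₁, hg₁⟩ : ∃ g₁ : SL(2, F), g₁ = (uu 1 * ll a₁) ^ k₁ := ⟨_, rfl⟩
  obtain ⟨g₂, hg₂⟩ : ∃ g₂ : SL(2, F), g₂ = (uu 1 * ll a₂) ^ k₂ := ⟨_, rfl⟩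
  rw [← hg₁] at hk₁
  rw [← hg₂] at hk₂
  have hg₁X : g₁ ∈ X := by rw [hg₁]; exact X.pow_mem (X.mul_mem hu hl₁) k₁
  have hg₂X : g₂ ∈ X := by rw [hg₂]; exact X.pow_mem (X.mul_mem hu hl₂) k₂
  obtain ⟨d, hd⟩ : ∃ d : SL(2, F), d = g₂ * g₁⁻¹ := ⟨_, rfl⟩
  have hdX : d ∈ X := by rw [hd]; exact X.mul_mem hg₂X (X.inv_mem hg₁X)
  have hconj : d * ll a₁ = ll a₂ * d := by
    rw [hd, ← hk₁, ← hk₂]
    group
  have h00 := congrArg (fun m : SL(2, F) => m.1 0 0) hconj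
  have h10 := congrArg (fun m : SL(2, F) => m.1 1 0) hconj
  simp only [mul_00, mul_10, ll_00, ll_01, ll_10, ll_11, mul_one, mul_zero, add_zero, one_mul,
    zero_mul] at h00 h10
  have hd01 : d.1 0 1 = 0 := by
    have : d.1 0 1 * a₁ = 0 := by linear_combination h00
    exact (mul_eq_zero.mp this).resolve_right ha₁
  have hdet := det_eq d
  rw [hd01, zero_mul, sub_zero] at hdet
  refine ⟨d, hdX, hd01, ?_⟩
  have e1 : d.1 1 1 * a₁ = a₂ * d.1 0 0 := by linear_combination h10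
  calc d.1 1 1 * d.1 1 1 * a₁ = d.1 1 1 * (d.1 1 1 * a₁) := by ring
    _ = d.1 1 1 * (a₂ * d.1 0 0) := by rw [e1]
    _ = a₂ * (d.1 0 0 * d.1 1 1) := by ring
    _ = a₂ := by rw [hdet, mul_one]

end Cfsg.Agent.Helper7.OSub
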