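import Mathlib
import Cfsg.Agent.Helper7.OSubL

set_option autoImplicit false
set_option linter.unusedSectionVars false
set_option maxHeartbeats 1600000

/-! Subfield subgroups of orthogonal groups, part M: the generic case, the group induced on a
rational totally singular plane and the image of a rational totally singular line (helper7). -/

namespace Cfsg.Agent.Helper7.OSub

open Module Matrix Cfsg.Agent.Helper8.QuadForm Cfsg.Agent.Helper8.WittQuad
  Cfsg.Agent.Helper8.OrthOrder Cfsg.Agent.Helper8.Siegel Cfsg.Agent.Helper8.SiegelGroup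
  Cfsg.Agent.Helper7.OrthMax Cfsg.Agent.Helper7.OrthPair Cfsg.Agent.Helper7.SpSub
  Cfsg.Agent.Lead.DicksonA Cfsg.Agent.Lead.DicksonJ
open scoped MatrixGroups

variable {F : Type*} [Field F] [Fintype F] {ι : Type} [Fintype ι] [DecidableEq ι]
  {F₀ : Subfield F} {Q : QuadraticForm F (ι → F)}

/-- the matrices induced by the rational long root elements and by the image root group. -/
theorem induced_mem (R : OD Q F₀) {M : Subgroup ↥(Isom Q)}
    (hM : ∀ g ∈ SG Q, InH Q F₀ g → g ∈ M) {a' b' : ι → F} (hQa' : Q a' = 0) (hQb' : Q b' = 0)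
    (hab' : QuadraticMap.polar Q a' b' = 0)
    (hX' : ∀ c : F, c ∈ F₀ → siegG Q a' (c • b') ∈ M) {e₁ e₂ e₃ : ι → F}
    (h₁ : RSg Q F₀ e₁) (h₂ : RSg Q F₀ e₂) (h₃ : RSg Q F₀ e₃)
    (h12 : QuadraticMap.polar Q e₁ e₂ = 0) (h13 : QuadraticMap.polar Q e₁ e₃ = 0)
    (h23 : QuadraticMap.polar Q e₂ e₃ = 0) {α₁ α₂ α₃ β₁ β₂ β₃ : F}
    (hα₁ : α₁ = QuadraticMap.polar Q e₁ a') (hα₂ : α₂ = QuadraticMap.polar Q e₂ a')
    (hα₃ : α₃ = QuadraticMap.polar Q e₃ a') (hβ₁ : β₁ = QuadraticMap.polar Q e₁ b')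
    (hβ₂ : β₂ = QuadraticMap.polar Q e₂ b') (hβ₃ : β₃ = QuadraticMap.polar Q e₃ b')
    {θ₁ θ₂ θ₃ z : ι → F} (hθ₁ : θ₁ = β₁ • a' - α₁ • b') (hθ₂ : θ₂ = β₂ • a' - α₂ • b')
    (hθ₃ : θ₃ = β₃ • a' - α₃ • b')
    (hz : z = (α₂ * β₃ - α₃ * β₂) • e₁ - (α₁ * β₃ - α₃ * β₁) • e₂ + (α₁ * β₂ - α₂ * β₁) • e₃)
    {c : F} (hc : c ∈ F₀) :
    uu c ∈ indO M ![e₁, e₂, e₃] ![θ₁, θ₂, θ₃] z ∧
      ll (c * -(α₁ * β₂ - α₂ * β₁)) ∈ indO M ![e₁, e₂, e₃] ![θ₁, θ₂, θ₃] z ∧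
      ll (c * -(α₁ * β₃ - α₃ * β₁)) ∈ indO M ![e₁, e₂, e₃] ![θ₁, θ₂, θ₃] z := by
  have hcomm : ∀ u v : ι → F, QuadraticMap.polar Q u v = 0 → QuadraticMap.polar Q v u = 0 :=
    fun u v huv => by rw [QuadraticMap.polar_comm]; exact huv
  have h21 := hcomm _ _ h12
  have h31 := hcomm _ _ h13
  have h32 := hcomm _ _ h23
  have h11 : QuadraticMap.polar Q e₁ e₁ = 0 := by rw [polar_self', h₁.2, mul_zero]
  have h22 : QuadraticMap.polar Q e₂ e₂ = 0 := by rw [polar_self', h₂.2, mul_zero]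
  have h33 : QuadraticMap.polar Q e₃ e₃ = 0 := by rw [polar_self', h₃.2, mul_zero]
  have haa : QuadraticMap.polar Q a' a' = 0 := by rw [polar_self', hQa', mul_zero]
  have hbb : QuadraticMap.polar Q b' b' = 0 := by rw [polar_self', hQb', mul_zero]
  have hba := hcomm _ _ hab'
  have hza : QuadraticMap.polar Q z a' = 0 := by
    rw [hz]
    simp only [QuadraticMap.polar_add_left, QuadraticMap.polar_sub_left,
      QuadraticMap.polar_smul_left, ← hα₁, ← hα₂, ← hα₃, smul_eq_mul]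
    ring
  have hzb : QuadraticMap.polar Q z b' = 0 := by
    rw [hz]
    simp only [QuadraticMap.polar_add_left, QuadraticMap.polar_sub_left,
      QuadraticMap.polar_smul_left, ← hβ₁, ← hβ₂, ← hβ₃, smul_eq_mul]
    ring
  have hze : ∀ v : ι → F, QuadraticMap.polar Q e₁ v = 0 → QuadraticMap.polar Q e₂ v = 0 →
      QuadraticMap.polar Q e₃ v = 0 → QuadraticMap.polar Q z v = 0 := by
    intro v hv1 hv2 hv3
    rw [hz]
    simp only [QuadraticMap.polar_add_left, QuadraticMap.polar_sub_left,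
      QuadraticMap.polar_smul_left, hv1, hv2, hv3, smul_eq_mul, mul_zero, sub_zero, add_zero]
  have hθa : ∀ (β α : F), QuadraticMap.polar Q (β • a' - α • b') a' = 0 := by
    intro β α
    rw [QuadraticMap.polar_sub_left, QuadraticMap.polar_smul_left, QuadraticMap.polar_smul_left,
      haa, hba, smul_zero, smul_zero, sub_zero]
  have hθb : ∀ (β α c : F), QuadraticMap.polar Q (β • a' - α • b') (c • b') = 0 := by
    intro β α c
    rw [QuadraticMap.polar_sub_left, QuadraticMap.polar_smul_left, QuadraticMap.polar_smul_left,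
      QuadraticMap.polar_smul_right, QuadraticMap.polar_smul_right, hab', hbb, smul_zero,
      smul_zero, smul_zero, sub_zero]
  have hacb : QuadraticMap.polar Q a' (c • b') = 0 := by
    rw [QuadraticMap.polar_smul_right, hab', smul_zero]
  have hQcb : Q (c • b') = 0 := by rw [QuadraticMap.map_smul, hQb', smul_zero]
  refine ⟨?_, ?_, ?_⟩
  · -- the image root group
    refine uu_mem_indO (hX' c hc) ?_ ?_ ?_
    · exact siegG_fix Q hza (by rw [QuadraticMap.polar_smul_right, hzb, smul_zero])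
    · refine all3 ?_ ?_ ?_
      · show ((siegG Q a' (c • b') : ↥(Isom Q)) : (ι → F) ≃ₗ[F] (ι → F)) θ₁ = θ₁
        rw [hθ₁]; exact siegG_fix Q (hθa _ _) (hθb _ _ _)
      · show ((siegG Q a' (c • b') : ↥(Isom Q)) : (ι → F) ≃ₗ[F] (ι → F)) θ₂ = θ₂
        rw [hθ₂]; exact siegG_fix Q (hθa _ _) (hθb _ _ _)
      · show ((siegG Q a' (c • b') : ↥(Isom Q)) : (ι → F) ≃ₗ[F] (ι → F)) θ₃ = θ₃
        rw [hθ₃]; exact siegG_fix Q (hθa _ _) (hθb _ _ _)
    · refine all3 ?_ ?_ ?_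
      · show ((siegG Q a' (c • b') : ↥(Isom Q)) : (ι → F) ≃ₗ[F] (ι → F)) e₁ = e₁ + c • θ₁
        rw [siegG_apply_ts Q hQa' hQcb hacb, QuadraticMap.polar_smul_right, ← hα₁, ← hβ₁, hθ₁]
        simp only [smul_eq_mul]
        module
      · show ((siegG Q a' (c • b') : ↥(Isom Q)) : (ι → F) ≃ₗ[F] (ι → F)) e₂ = e₂ + c • θ₂
        rw [siegG_apply_ts Q hQa' hQcb hacb, QuadraticMap.polar_smul_right, ← hα₂, ← hβ₂, hθ₂]
        simp only [smul_eq_mul]
        module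
      · show ((siegG Q a' (c • b') : ↥(Isom Q)) : (ι → F) ≃ₗ[F] (ι → F)) e₃ = e₃ + c • θ₃
        rw [siegG_apply_ts Q hQa' hQcb hacb, QuadraticMap.polar_smul_right, ← hα₃, ← hβ₃, hθ₃]
        simp only [smul_eq_mul]
        module
  · -- the rational long root elements for `e₁`, `e₂`
    have h1c : QuadraticMap.polar Q e₁ (c • e₂) = 0 := by
      rw [QuadraticMap.polar_smul_right, h12, smul_zero]
    have hQc : Q (c • e₂) = 0 := by rw [QuadraticMap.map_smul, h₂.2, smul_zero]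
    have hx : siegG Q e₁ (c • e₂) ∈ M := siegG_mem_M R hM h₁ (h₂.1.smul hc) h1c
    have hpa : ∀ v : ι → F, QuadraticMap.polar Q v e₁ = 0 → QuadraticMap.polar Q v e₂ = 0 →
        ((siegG Q e₁ (c • e₂) : ↥(Isom Q)) : (ι → F) ≃ₗ[F] (ι → F)) v = v := by
      intro v hv1 hv2
      exact siegG_fix Q hv1 (by rw [QuadraticMap.polar_smul_right, hv2, smul_zero])
    have hpθ : ∀ (β α : F), ((siegG Q e₁ (c • e₂) : ↥(Isom Q)) : (ι → F) ≃ₗ[F] (ι → F))
        (β • a' - α • b') = (β • a' - α • b') + (c * (β * α₂ - α * β₂)) • e₁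
          - (β * α₁ - α * β₁) • (c • e₂) := by
      intro β α
      rw [siegG_apply_ts Q h₁.2 hQc h1c]
      simp only [QuadraticMap.polar_sub_left, QuadraticMap.polar_smul_left,
        QuadraticMap.polar_smul_right, QuadraticMap.polar_comm Q a', QuadraticMap.polar_comm Q b',
        ← hα₁, ← hα₂, ← hβ₁, ← hβ₂, smul_eq_mul]
    refine ll_mem_indO hx ?_ ?_ ?_
    · exact hpa z (hze _ h11 h21 h31) (hze _ h12 h22 h32)
    · refine all3 ⟨0, ?_⟩ ⟨0, ?_⟩ ⟨c, ?_⟩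
      · show ((siegG Q e₁ (c • e₂) : ↥(Isom Q)) : (ι → F) ≃ₗ[F] (ι → F)) θ₁ =
          θ₁ + (c * -(α₁ * β₂ - α₂ * β₁)) • e₁ + (0 : F) • z
        rw [hθ₁, hpθ]; module
      · show ((siegG Q e₁ (c • e₂) : ↥(Isom Q)) : (ι → F) ≃ₗ[F] (ι → F)) θ₂ =
          θ₂ + (c * -(α₁ * β₂ - α₂ * β₁)) • e₂ + (0 : F) • z
        rw [hθ₂, hpθ]; module
      · show ((siegG Q e₁ (c • e₂) : ↥(Isom Q)) : (ι → F) ≃ₗ[F] (ι → F)) θ₃ =
          θ₃ + (c * -(α₁ * β₂ - α₂ * β₁)) • e₃ + c • z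
        rw [hθ₃, hpθ, hz]; module
    · refine all3 ?_ ?_ ?_
      · exact hpa e₁ h11 h12
      · exact hpa e₂ h21 h22
      · exact hpa e₃ h31 h32
  · -- the rational long root elements for `e₁`, `e₃`
    have h1c : QuadraticMap.polar Q e₁ (c • e₃) = 0 := by
      rw [QuadraticMap.polar_smul_right, h13, smul_zero]
    have hQc : Q (c • e₃) = 0 := by rw [QuadraticMap.map_smul, h₃.2, smul_zero]
    have hx : siegG Q e₁ (c • e₃) ∈ M := siegG_mem_M R hM h₁ (h₃.1.smul hc) h1c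
    have hpa : ∀ v : ι → F, QuadraticMap.polar Q v e₁ = 0 → QuadraticMap.polar Q v e₃ = 0 →
        ((siegG Q e₁ (c • e₃) : ↥(Isom Q)) : (ι → F) ≃ₗ[F] (ι → F)) v = v := by
      intro v hv1 hv2
      exact siegG_fix Q hv1 (by rw [QuadraticMap.polar_smul_right, hv2, smul_zero])
    have hpθ : ∀ (β α : F), ((siegG Q e₁ (c • e₃) : ↥(Isom Q)) : (ι → F) ≃ₗ[F] (ι → F))
        (β • a' - α • b') = (β • a' - α • b') + (c * (β * α₃ - α * β₃)) • e₁
          - (β * α₁ - α * β₁) • (c • e₃) := by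
      intro β α
      rw [siegG_apply_ts Q h₁.2 hQc h1c]
      simp only [QuadraticMap.polar_sub_left, QuadraticMap.polar_smul_left,
        QuadraticMap.polar_smul_right, QuadraticMap.polar_comm Q a', QuadraticMap.polar_comm Q b',
        ← hα₁, ← hα₃, ← hβ₁, ← hβ₃, smul_eq_mul]
    refine ll_mem_indO hx ?_ ?_ ?_
    · exact hpa z (hze _ h11 h21 h31) (hze _ h13 h23 h33)
    · refine all3 ⟨0, ?_⟩ ⟨-c, ?_⟩ ⟨0, ?_⟩
      · show ((siegG Q e₁ (c • e₃) : ↥(Isom Q)) : (ι → F) ≃ₗ[F] (ι → F)) θ₁ =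
          θ₁ + (c * -(α₁ * β₃ - α₃ * β₁)) • e₁ + (0 : F) • z
        rw [hθ₁, hpθ]; module
      · show ((siegG Q e₁ (c • e₃) : ↥(Isom Q)) : (ι → F) ≃ₗ[F] (ι → F)) θ₂ =
          θ₂ + (c * -(α₁ * β₃ - α₃ * β₁)) • e₂ + (-c) • z
        rw [hθ₂, hpθ, hz]; module
      · show ((siegG Q e₁ (c • e₃) : ↥(Isom Q)) : (ι → F) ≃ₗ[F] (ι → F)) θ₃ =
          θ₃ + (c * -(α₁ * β₃ - α₃ * β₁)) • e₃ + (0 : F) • z
        rw [hθ₃, hpθ]; module
    · refine all3 ?_ ?_ ?_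
      · exact hpa e₁ h11 h13
      · exact hpa e₂ h21 h23
      · exact hpa e₃ h31 h33

end Cfsg.Agent.Helper7.OSub
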