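import Mathlib
import Cfsg.Agent.Helper7.OSubM

set_option autoImplicit false
set_option linter.unusedSectionVars false
set_option maxHeartbeats 1600000

/-! Subfield subgroups of orthogonal groups, part N: the generic case, an irrational diagonal
element on a rational totally singular plane and its principal minors (helper7). -/

namespace Cfsg.Agent.Helper7.OSub

open Module Matrix Cfsg.Agent.Helper8.QuadForm Cfsg.Agent.Helper8.WittQuad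
  Cfsg.Agent.Helper8.OrthOrder Cfsg.Agent.Helper8.Siegel Cfsg.Agent.Helper8.SiegelGroup
  Cfsg.Agent.Helper7.OrthMax Cfsg.Agent.Helper7.OrthPair Cfsg.Agent.Helper7.SpSub
  Cfsg.Agent.Lead.DicksonA Cfsg.Agent.Lead.DicksonJ
open scoped MatrixGroups

variable {F : Type*} [Field F] [Fintype F] {ι : Type} [Fintype ι] [DecidableEq ι]
  {F₀ : Subfield F} {Q : QuadraticForm F (ι → F)}

/-- a subgroup of `SL₂` containing the rational upper unitriangular matrices and the lower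
unitriangular matrices with parameters in `F₀ a₁` and `F₀ a₂`, where the ratio is irrational,
contains a lower triangular matrix with an irrational diagonal entry. -/
theorem exists_diag {r : ℕ} (hr : r.Prime) (hr3 : 3 ≤ r)
    (hcard : Fintype.card F = Nat.card F₀ ^ r) (X : Subgroup SL(2, F)) {a₁ a₂ : F}
    (ha₁ : a₁ ≠ 0) (hirr : a₂ / a₁ ∉ F₀) (hu : ∀ c : F, c ∈ F₀ → uu c ∈ X)
    (hl₁ : ∀ c : F, c ∈ F₀ → ll (c * a₁) ∈ X) (hl₂ : ∀ c : F, c ∈ F₀ → ll (c * a₂) ∈ X) :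
    ∃ d ∈ X, d.1 0 1 = 0 ∧ d.1 1 1 ∉ F₀ := by
  have ha₂ : a₂ ≠ 0 := by
    rintro rfl
    apply hirr
    rw [zero_div]
    exact F₀.zero_mem
  have hl₁' : ll a₁ ∈ X := by
    have := hl₁ 1 F₀.one_mem
    rwa [one_mul] at this
  have hl₂' : ll a₂ ∈ X := by
    have := hl₂ 1 F₀.one_mem
    rwa [one_mul] at this
  by_cases h2 : (2 : F) = 0
  · obtain ⟨d, hdX, hd01, hd⟩ := lower_of_two h2 X ha₁ ha₂ (hu 1 F₀.one_mem) hl₁' hl₂'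
    refine ⟨d, hdX, hd01, fun h => hirr ?_⟩
    have e1 : a₂ / a₁ = d.1 1 1 * d.1 1 1 := by
      rw [← hd]
      field_simp
    rw [e1]
    exact F₀.mul_mem h h
  · by_cases ha : a₁ ∈ F₀
    · refine diag_of_irr h2 hr hr3 hcard X (ρ := a₁⁻¹ * a₂) ?_ (hu 1 F₀.one_mem)
        (hl₂ a₁⁻¹ (F₀.inv_mem ha))
      rwa [div_eq_inv_mul] at hirr
    · exact diag_of_irr h2 hr hr3 hcard X ha (hu 1 F₀.one_mem) hl₁'

/-- the core of the generic case. -/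
theorem caseB_core (R : OD Q F₀) (hN : 13 ≤ Fintype.card ι) {M : Subgroup ↥(Isom Q)}
    (hM : ∀ g ∈ SG Q, InH Q F₀ g → g ∈ M) {r : ℕ} (hr : r.Prime) (hr3 : 3 ≤ r)
    (hcard : Fintype.card F = Nat.card F₀ ^ r) {a' b' : ι → F} (hQa' : Q a' = 0)
    (hQb' : Q b' = 0) (hab' : QuadraticMap.polar Q a' b' = 0)
    (hX' : ∀ c : F, c ∈ F₀ → siegG Q a' (c • b') ∈ M) {e₁ e₂ e₃ f₃ : ι → F}
    (h₁ : RSg Q F₀ e₁) (h₂ : RSg Q F₀ e₂) (h₃ : RSg Q F₀ e₃)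
    (h12 : QuadraticMap.polar Q e₁ e₂ = 0) (h13 : QuadraticMap.polar Q e₁ e₃ = 0)
    (h23 : QuadraticMap.polar Q e₂ e₃ = 0) (hf1 : QuadraticMap.polar Q f₃ e₁ = 0)
    (hf2 : QuadraticMap.polar Q f₃ e₂ = 0) (hf3 : QuadraticMap.polar Q e₃ f₃ = 1)
    {α₁ α₂ α₃ β₁ β₂ β₃ : F}
    (hα₁ : α₁ = QuadraticMap.polar Q e₁ a') (hα₂ : α₂ = QuadraticMap.polar Q e₂ a')
    (hα₃ : α₃ = QuadraticMap.polar Q e₃ a') (hβ₁ : β₁ = QuadraticMap.polar Q e₁ b')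
    (hβ₂ : β₂ = QuadraticMap.polar Q e₂ b') (hβ₃ : β₃ = QuadraticMap.polar Q e₃ b')
    (hp : α₁ * β₂ - α₂ * β₁ ≠ 0)
    (hirr : (α₁ * β₃ - α₃ * β₁) / (α₁ * β₂ - α₂ * β₁) ∉ F₀) :
    ∃ κ : F, κ ∉ F₀ ∧ κ ∈ Dset Q F₀ M := by
  have hcomm : ∀ u v : ι → F, QuadraticMap.polar Q u v = 0 → QuadraticMap.polar Q v u = 0 :=
    fun u v huv => by rw [QuadraticMap.polar_comm]; exact huv
  obtain ⟨θ₁, hθ₁⟩ : ∃ θ₁ : ι → F, θ₁ = β₁ • a' - α₁ • b' := ⟨_, rfl⟩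
  obtain ⟨θ₂, hθ₂⟩ : ∃ θ₂ : ι → F, θ₂ = β₂ • a' - α₂ • b' := ⟨_, rfl⟩
  obtain ⟨θ₃, hθ₃⟩ : ∃ θ₃ : ι → F, θ₃ = β₃ • a' - α₃ • b' := ⟨_, rfl⟩
  obtain ⟨z, hz⟩ : ∃ z : ι → F, z = (α₂ * β₃ - α₃ * β₂) • e₁ - (α₁ * β₃ - α₃ * β₁) • e₂
      + (α₁ * β₂ - α₂ * β₁) • e₃ := ⟨_, rfl⟩
  have hind := fun (c : F) (hc : c ∈ F₀) => induced_mem R hM hQa' hQb' hab' hX' h₁ h₂ h₃ h12 h13
    h23 hα₁ hα₂ hα₃ hβ₁ hβ₂ hβ₃ hθ₁ hθ₂ hθ₃ hz hc
  obtain ⟨d, hdX, hd01, hd11⟩ := exists_diag hr hr3 hcard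
    (indO M ![e₁, e₂, e₃] ![θ₁, θ₂, θ₃] z) (a₁ := -(α₁ * β₂ - α₂ * β₁))
    (a₂ := -(α₁ * β₃ - α₃ * β₁)) (neg_ne_zero.mpr hp) (by rwa [neg_div_neg_eq])
    (fun c hc => (hind c hc).1) (fun c hc => (hind c hc).2.1) (fun c hc => (hind c hc).2.2)
  rw [mem_indO] at hdX
  obtain ⟨m, hmM, hmz, -, hE⟩ := hdX
  obtain ⟨μ₁, hμ₁⟩ := hE 0
  obtain ⟨μ₂, hμ₂⟩ := hE 1
  obtain ⟨μ₃, hμ₃⟩ := hE 2
  obtain ⟨l, hl⟩ : ∃ l : F, l = d.1 1 1 := ⟨_, rfl⟩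
  rw [← hl] at hd11
  have hm₁ : (m : (ι → F) ≃ₗ[F] (ι → F)) e₁ = l • e₁ + μ₁ • z := by
    have h := hμ₁
    rw [hd01, zero_smul, zero_add, ← hl] at h
    exact h
  have hm₂ : (m : (ι → F) ≃ₗ[F] (ι → F)) e₂ = l • e₂ + μ₂ • z := by
    have h := hμ₂
    rw [hd01, zero_smul, zero_add, ← hl] at h
    exact h
  have hm₃ : (m : (ι → F) ≃ₗ[F] (ι → F)) e₃ = l • e₃ + μ₃ • z := by
    have h := hμ₃
    rw [hd01, zero_smul, zero_add, ← hl] at h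
    exact h
  obtain ⟨z₁, hz₁⟩ : ∃ z₁ : F, z₁ = α₂ * β₃ - α₃ * β₂ := ⟨_, rfl⟩
  obtain ⟨z₂, hz₂⟩ : ∃ z₂ : F, z₂ = -(α₁ * β₃ - α₃ * β₁) := ⟨_, rfl⟩
  obtain ⟨z₃, hz₃⟩ : ∃ z₃ : F, z₃ = α₁ * β₂ - α₂ * β₁ := ⟨_, rfl⟩
  have hz' : z = z₁ • e₁ + z₂ • e₂ + z₃ • e₃ := by
    rw [hz, hz₁, hz₂, hz₃]; module
  have hz₃0 : z₃ ≠ 0 := by rw [hz₃]; exact hp
  have hz0 : z ≠ 0 := by
    intro h0
    have h1 : QuadraticMap.polar Q z f₃ = z₃ := by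
      rw [hz', QuadraticMap.polar_add_left, QuadraticMap.polar_add_left,
        QuadraticMap.polar_smul_left, QuadraticMap.polar_smul_left, QuadraticMap.polar_smul_left,
        hcomm _ _ hf1, hcomm _ _ hf2, hf3, smul_zero, smul_zero, zero_add, zero_add, smul_eq_mul,
        mul_one]
    rw [h0, QuadraticMap.polar_zero_left] at h1
    exact hz₃0 h1.symm
  have he₁0 : e₁ ≠ 0 := by
    rintro rfl
    apply hp
    rw [hα₁, hβ₁, QuadraticMap.polar_zero_left, QuadraticMap.polar_zero_left]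
    ring
  have he₂0 : e₂ ≠ 0 := by
    rintro rfl
    apply hp
    rw [hα₂, hβ₂, QuadraticMap.polar_zero_left, QuadraticMap.polar_zero_left]
    ring
  have hi3 : ∀ x y : F, e₃ ≠ x • e₁ + y • e₂ := by
    intro x y h
    have h1 := hf3
    rw [h, QuadraticMap.polar_add_left, QuadraticMap.polar_smul_left,
      QuadraticMap.polar_smul_left, hcomm _ _ hf1, hcomm _ _ hf2, smul_zero, smul_zero,
      add_zero] at h1
    exact zero_ne_one h1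
  have hi2 : ∀ x y : F, e₂ ≠ x • e₁ + y • e₃ := by
    intro x y h
    have h1 := hcomm _ _ hf2
    rw [h, QuadraticMap.polar_add_left, QuadraticMap.polar_smul_left,
      QuadraticMap.polar_smul_left, hcomm _ _ hf1, hf3, smul_zero, zero_add, smul_eq_mul,
      mul_one] at h1
    rw [h1, zero_smul, add_zero] at h
    apply hp
    rw [hα₂, hβ₂, h, QuadraticMap.polar_smul_left, QuadraticMap.polar_smul_left, ← hα₁, ← hβ₁,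
      smul_eq_mul, smul_eq_mul]
    ring
  -- the trace relation
  have hsum : z₁ * μ₁ + z₂ * μ₂ + z₃ * μ₃ = 1 - l := by
    have h : (m : (ι → F) ≃ₗ[F] (ι → F)) z = (l + (z₁ * μ₁ + z₂ * μ₂ + z₃ * μ₃)) • z := by
      conv_lhs => rw [hz']
      rw [map_add, map_add, map_smul, map_smul, map_smul, hm₁, hm₂, hm₃]
      have e1 : (l + (z₁ * μ₁ + z₂ * μ₂ + z₃ * μ₃)) • z =
          l • (z₁ • e₁ + z₂ • e₂ + z₃ • e₃) + (z₁ * μ₁ + z₂ * μ₂ + z₃ * μ₃) • z := by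
        rw [add_smul, ← hz']
      rw [e1]
      module
    rw [hmz] at h
    have h1 : (l + (z₁ * μ₁ + z₂ * μ₂ + z₃ * μ₃) - 1) • z = 0 := by
      rw [sub_smul, one_smul, ← h, sub_self]
    rcases smul_eq_zero.mp h1 with h2 | h2
    · linear_combination h2
    · exact absurd h2 hz0
  have hm₁' : (m : (ι → F) ≃ₗ[F] (ι → F)) e₁ =
      (l + μ₁ * z₁) • e₁ + (μ₁ * z₂) • e₂ + (μ₁ * z₃) • e₃ := by
    rw [hm₁, hz']; module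
  have hm₂' : (m : (ι → F) ≃ₗ[F] (ι → F)) e₂ =
      (μ₂ * z₁) • e₁ + (l + μ₂ * z₂) • e₂ + (μ₂ * z₃) • e₃ := by
    rw [hm₂, hz']; module
  have hm₃' : (m : (ι → F) ≃ₗ[F] (ι → F)) e₃ =
      (μ₃ * z₁) • e₁ + (μ₃ * z₂) • e₂ + (l + μ₃ * z₃) • e₃ := by
    rw [hm₃, hz']; module
  have t12 := siegG_conj_mem Q hmM (siegG_mem_M R hM h₁ h₂.1 h12)
  rw [hm₁', hm₂', plucker3 Q h₁.2 h₂.2 h₃.2 h12 h13 h23] at t12
  obtain ⟨t12a, -, -⟩ := ext3 R hM h₁ h₂ h₃ h12 h13 h23 hi2 hi3 t12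
  have t13 := siegG_conj_mem Q hmM (siegG_mem_M R hM h₁ h₃.1 h13)
  rw [hm₁', hm₃', plucker3 Q h₁.2 h₂.2 h₃.2 h12 h13 h23] at t13
  obtain ⟨-, t13b, -⟩ := ext3 R hM h₁ h₂ h₃ h12 h13 h23 hi2 hi3 t13
  have t23 := siegG_conj_mem Q hmM (siegG_mem_M R hM h₂ h₃.1 h23)
  rw [hm₂', hm₃', plucker3 Q h₁.2 h₂.2 h₃.2 h12 h13 h23] at t23
  obtain ⟨-, -, t23c⟩ := ext3 R hM h₁ h₂ h₃ h12 h13 h23 hi2 hi3 t23
  by_cases hc12 : (l + μ₁ * z₁) * (l + μ₂ * z₂) - μ₁ * z₂ * (μ₂ * z₁) ∈ F₀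
  swap
  · exact ⟨_, hc12, Dset_of_out R hN hM h₁ h₃ he₁0 h13
      (fun x hx => hi3 x 0 (by rw [hx, zero_smul, add_zero])) t12a⟩
  by_cases hc13 : (l + μ₁ * z₁) * (l + μ₃ * z₃) - μ₁ * z₃ * (μ₃ * z₁) ∈ F₀
  swap
  · exact ⟨_, hc13, Dset_of_out R hN hM h₁ h₂ he₁0 h12
      (fun x hx => hi2 x 0 (by rw [hx, zero_smul, add_zero])) t13b⟩
  by_cases hc23 : (l + μ₂ * z₂) * (l + μ₃ * z₃) - μ₂ * z₃ * (μ₃ * z₂) ∈ F₀
  swap
  · refine ⟨_, hc23, Dset_of_out R hN hM h₂ h₁ he₂0 (hcomm _ _ h12) ?_ t23c⟩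
    intro x hx
    by_cases hx0 : x = 0
    · rw [hx0, zero_smul] at hx
      exact he₁0 hx
    · apply hi2 x⁻¹ 0
      rw [hx, smul_smul, inv_mul_cancel₀ hx0, one_smul, zero_smul, add_zero]
  exfalso
  have h2mem : (2 : F) ∈ F₀ := by
    rw [← one_add_one_eq_two]
    exact F₀.add_mem F₀.one_mem F₀.one_mem
  refine Cfsg.Agent.Helper7.SUSub.no_quadratic hr hr3 hcard hd11 F₀.one_mem h2mem
    (F₀.neg_mem (F₀.add_mem (F₀.add_mem hc12 hc13) hc23)) one_ne_zero ?_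
  linear_combination (-2 * l) * hsum

end Cfsg.Agent.Helper7.OSub
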