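import Mathlib
import Cfsg.Agent.Helper7.OSubN

set_option autoImplicit false
set_option linter.unusedSectionVars false
set_option maxHeartbeats 1600000

/-! Subfield subgroups of orthogonal groups, part O: the generic case, the choice of the rational
totally singular plane (helper7). -/

namespace Cfsg.Agent.Helper7.OSub

open Module Matrix Cfsg.Agent.Helper8.QuadForm Cfsg.Agent.Helper8.WittQuad
  Cfsg.Agent.Helper8.OrthOrder Cfsg.Agent.Helper8.Siegel Cfsg.Agent.Helper8.SiegelGroup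
  Cfsg.Agent.Helper7.OrthMax Cfsg.Agent.Helper7.OrthPair Cfsg.Agent.Helper7.SpSub

variable {F : Type*} [Field F] [Fintype F] {ι : Type} [Fintype ι] [DecidableEq ι]
  {F₀ : Subfield F} {Q : QuadraticForm F (ι → F)}

/-- the degree of the extension. -/
theorem finrank_of_card {r : ℕ} (hcard : Fintype.card F = Nat.card F₀ ^ r) :
    finrank F₀ F = r := by
  have h1 : Nat.card F = Nat.card F₀ ^ Module.finrank F₀ F := Module.natCard_eq_pow_finrank
  have h2 : 2 ≤ Nat.card F₀ := by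
    have : 1 < Nat.card F₀ := Finite.one_lt_card
    omega
  rw [Nat.card_eq_fintype_card, hcard] at h1
  exact (Nat.pow_right_injective h2 h1).symm

/-- two vectors are orthogonal to a non-zero rational singular vector when the dimension is large
compared to the degree of the extension. -/
theorem exists_rat_perp2 (R : OD Q F₀) {r : ℕ} (hfr : finrank F₀ F = r)
    (h : 2 * r + 3 ≤ Fintype.card ι) (a' b' : ι → F) :
    ∃ e : ι → F, RSg Q F₀ e ∧ e ≠ 0 ∧ QuadraticMap.polar Q e a' = 0 ∧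
      QuadraticMap.polar Q e b' = 0 := by
  obtain ⟨Φ, hΦ⟩ : ∃ Φ : (ι → F₀) →ₗ[F₀] F × F, ∀ s, Φ s =
      (QuadraticMap.polar Q (up s) a', QuadraticMap.polar Q (up s) b') := by
    refine ⟨{ toFun := fun s => (QuadraticMap.polar Q (up s) a', QuadraticMap.polar Q (up s) b')
              map_add' := ?_
              map_smul' := ?_ }, fun s => rfl⟩
    · intro s t
      rw [up_add, QuadraticMap.polar_add_left, QuadraticMap.polar_add_left]
      rfl
    · intro c s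
      rw [up_smul, QuadraticMap.polar_smul_left, QuadraticMap.polar_smul_left]
      rfl
  have h1 := LinearMap.finrank_range_add_finrank_ker Φ
  rw [finrank_V0] at h1
  have h2 : finrank F₀ ↥(LinearMap.range Φ) ≤ finrank F₀ (F × F) := Submodule.finrank_le _
  rw [Module.finrank_prod, hfr] at h2
  have h3 : 3 ≤ finrank F₀ ↥(LinearMap.ker Φ) := by omega
  obtain ⟨u, huk, hu0, hQu⟩ := exists_singular_in (Q0 R) (LinearMap.ker Φ) h3
  rw [LinearMap.mem_ker, hΦ] at huk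
  have hk1 : QuadraticMap.polar Q (up u) a' = 0 := congrArg Prod.fst huk
  have hk2 : QuadraticMap.polar Q (up u) b' = 0 := congrArg Prod.snd huk
  exact ⟨up u, ⟨up_ratV u, (Q0_eq_zero R).mp hQu⟩,
    fun h0 => hu0 (up_injective (by rw [h0, up_zero])), hk1, hk2⟩

/-- the generic case: no non-zero rational singular vector is orthogonal to the image line. -/
theorem caseB (R : OD Q F₀) (hN : 13 ≤ Fintype.card ι) {M : Subgroup ↥(Isom Q)}
    (hM : ∀ g ∈ SG Q, InH Q F₀ g → g ∈ M) {r : ℕ} (hr : r.Prime)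
    (hcard : Fintype.card F = Nat.card F₀ ^ r) {a' b' : ι → F} (hQa' : Q a' = 0)
    (hQb' : Q b' = 0) (hab' : QuadraticMap.polar Q a' b' = 0)
    (hind' : ∀ s t : F, s • a' + t • b' = 0 → s = 0 ∧ t = 0)
    (hX' : ∀ c : F, c ∈ F₀ → siegG Q a' (c • b') ∈ M)
    (hB : ∀ e : ι → F, RSg Q F₀ e → e ≠ 0 →
      ¬ (QuadraticMap.polar Q e a' = 0 ∧ QuadraticMap.polar Q e b' = 0)) :
    ∃ κ : F, κ ∉ F₀ ∧ κ ∈ Dset Q F₀ M := by
  have hcomm : ∀ u v : ι → F, QuadraticMap.polar Q u v = 0 → QuadraticMap.polar Q v u = 0 :=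
    fun u v huv => by rw [QuadraticMap.polar_comm]; exact huv
  have haa : QuadraticMap.polar Q a' a' = 0 := by rw [polar_self', hQa', mul_zero]
  have hbb : QuadraticMap.polar Q b' b' = 0 := by rw [polar_self', hQb', mul_zero]
  have hfr : finrank F₀ F = r := finrank_of_card hcard
  have hr3 : 3 ≤ r := by
    by_contra hlt
    push Not at hlt
    obtain ⟨e, he, he0, hea, heb⟩ := exists_rat_perp2 R hfr (by omega) a' b'
    exact hB e he he0 ⟨hea, heb⟩
  -- the first vector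
  obtain ⟨e₁, f₁, h₁, -, he₁f₁, -, -⟩ := rat_hyp R (k := 0) (fun i => i.elim0)
    (fun i => i.elim0) (by omega)
  have he₁0 : e₁ ≠ 0 := by
    rintro rfl
    rw [QuadraticMap.polar_zero_left] at he₁f₁
    exact zero_ne_one he₁f₁
  obtain ⟨α₁, hα₁⟩ : ∃ α₁ : F, α₁ = QuadraticMap.polar Q e₁ a' := ⟨_, rfl⟩
  obtain ⟨β₁, hβ₁⟩ : ∃ β₁ : F, β₁ = QuadraticMap.polar Q e₁ b' := ⟨_, rfl⟩
  have hαβ : ¬ (α₁ = 0 ∧ β₁ = 0) := by
    rw [hα₁, hβ₁]
    exact hB e₁ h₁ he₁0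
  obtain ⟨p, hp⟩ : ∃ p : ι → F, p = α₁ • b' - β₁ • a' := ⟨_, rfl⟩
  have hp0 : p ≠ 0 := by
    intro h0
    have h1 : (-β₁) • a' + α₁ • b' = 0 := by
      rw [← h0, hp]; module
    obtain ⟨h2, h3⟩ := hind' _ _ h1
    exact hαβ ⟨h3, neg_eq_zero.mp h2⟩
  have hpa : QuadraticMap.polar Q p a' = 0 := by
    rw [hp, QuadraticMap.polar_sub_left, QuadraticMap.polar_smul_left,
      QuadraticMap.polar_smul_left, hcomm _ _ hab', haa, smul_zero, smul_zero, sub_zero]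
  have hpb : QuadraticMap.polar Q p b' = 0 := by
    rw [hp, QuadraticMap.polar_sub_left, QuadraticMap.polar_smul_left,
      QuadraticMap.polar_smul_left, hab', hbb, smul_zero, smul_zero, sub_zero]
  -- the second vector
  obtain ⟨e₂, h₂, h21, he₂p⟩ : ∃ e₂ : ι → F, RSg Q F₀ e₂ ∧ QuadraticMap.polar Q e₂ e₁ = 0 ∧
      QuadraticMap.polar Q e₂ p ≠ 0 := by
    by_contra hcon
    push Not at hcon
    obtain ⟨κ, hκ⟩ := perp_rat_perp R h₁ he₁0 (x := p) (by
      intro w hw hwe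
      obtain ⟨s₁, s₂, s₃, hs₁, hs₂, hs₃, c₁, c₂, c₃, e'⟩ := rat_three R (fun _ : Fin 1 => e₁)
        (fun _ => h₁.1) (by omega) hw (fun _ => hwe)
      rw [e', QuadraticMap.polar_add_right, QuadraticMap.polar_add_right,
        QuadraticMap.polar_comm Q p s₁, QuadraticMap.polar_comm Q p s₂,
        QuadraticMap.polar_comm Q p s₃, hcon s₁ hs₁ (c₁ 0), hcon s₂ hs₂ (c₂ 0),
        hcon s₃ hs₃ (c₃ 0)]
      ring)
    have hκ0 : κ ≠ 0 := by
      rintro rfl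
      rw [zero_smul] at hκ
      exact hp0 hκ
    have he : e₁ = κ⁻¹ • p := by rw [hκ, smul_smul, inv_mul_cancel₀ hκ0, one_smul]
    apply hB e₁ h₁ he₁0
    constructor
    · rw [he, QuadraticMap.polar_smul_left, hpa, smul_zero]
    · rw [he, QuadraticMap.polar_smul_left, hpb, smul_zero]
  obtain ⟨α₂, hα₂⟩ : ∃ α₂ : F, α₂ = QuadraticMap.polar Q e₂ a' := ⟨_, rfl⟩
  obtain ⟨β₂, hβ₂⟩ : ∃ β₂ : F, β₂ = QuadraticMap.polar Q e₂ b' := ⟨_, rfl⟩
  have hp12 : α₁ * β₂ - α₂ * β₁ ≠ 0 := by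
    have h1 : QuadraticMap.polar Q e₂ p = α₁ * β₂ - α₂ * β₁ := by
      rw [hp, QuadraticMap.polar_sub_right, QuadraticMap.polar_smul_right,
        QuadraticMap.polar_smul_right, ← hα₂, ← hβ₂, smul_eq_mul, smul_eq_mul]
      ring
    rwa [h1] at he₂p
  -- the third vector
  obtain ⟨e₃, f₃, h₃, hf₃, he₃f₃, he₃c, hf₃c⟩ := rat_hyp R ![e₁, e₂] (all2 h₁.1 h₂.1) (by omega)
  have h31 : QuadraticMap.polar Q e₃ e₁ = 0 := he₃c 0
  have h32 : QuadraticMap.polar Q e₃ e₂ = 0 := he₃c 1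
  have hf1 : QuadraticMap.polar Q f₃ e₁ = 0 := hf₃c 0
  have hf2 : QuadraticMap.polar Q f₃ e₂ = 0 := hf₃c 1
  have h12 := hcomm _ _ h21
  have h13 := hcomm _ _ h31
  have h23 := hcomm _ _ h32
  obtain ⟨α₃, hα₃⟩ : ∃ α₃ : F, α₃ = QuadraticMap.polar Q e₃ a' := ⟨_, rfl⟩
  obtain ⟨β₃, hβ₃⟩ : ∃ β₃ : F, β₃ = QuadraticMap.polar Q e₃ b' := ⟨_, rfl⟩
  by_cases hA : (α₁ * β₃ - α₃ * β₁) / (α₁ * β₂ - α₂ * β₁) ∈ F₀
  swap
  · exact caseB_core R hN hM hr hr3 hcard hQa' hQb' hab' hX' h₁ h₂ h₃ h12 h13 h23 hf1 hf2 he₃f₃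
      hα₁ hα₂ hα₃ hβ₁ hβ₂ hβ₃ hp12 hA
  by_cases hC : (α₂ * β₃ - α₃ * β₂) / (α₁ * β₂ - α₂ * β₁) ∈ F₀
  swap
  · refine caseB_core R hN hM hr hr3 hcard hQa' hQb' hab' hX' h₂ h₁ h₃ h21 h23 h13 hf2 hf1 he₃f₃
      hα₂ hα₁ hα₃ hβ₂ hβ₁ hβ₃ ?_ ?_
    · intro h
      apply hp12
      linear_combination -h
    · intro h
      apply hC
      have e1 : (α₂ * β₃ - α₃ * β₂) / (α₁ * β₂ - α₂ * β₁) =
          -((α₂ * β₃ - α₃ * β₂) / (α₂ * β₁ - α₁ * β₂)) := by
        rw [← neg_sub (α₂ * β₁) (α₁ * β₂), div_neg]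
      rw [e1]
      exact F₀.neg_mem h
  exfalso
  obtain ⟨s, hs⟩ : ∃ s : F, s = (α₂ * β₃ - α₃ * β₂) / (α₁ * β₂ - α₂ * β₁) := ⟨_, rfl⟩
  obtain ⟨t, ht⟩ : ∃ t : F, t = (α₁ * β₃ - α₃ * β₁) / (α₁ * β₂ - α₂ * β₁) := ⟨_, rfl⟩
  rw [← hs] at hC
  rw [← ht] at hA
  have hsD : s * (α₁ * β₂ - α₂ * β₁) = α₂ * β₃ - α₃ * β₂ := by
    rw [hs, div_mul_cancel₀ _ hp12]
  have htD : t * (α₁ * β₂ - α₂ * β₁) = α₁ * β₃ - α₃ * β₁ := by
    rw [ht, div_mul_cancel₀ _ hp12]
  obtain ⟨w, hw⟩ : ∃ w : ι → F, w = s • e₁ + (-t) • e₂ + (1 : F) • e₃ := ⟨_, rfl⟩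
  have hwr : RSg Q F₀ w := by
    rw [hw]
    refine ⟨((h₁.1.smul hC).add (h₂.1.smul (F₀.neg_mem hA))).add (h₃.1.smul F₀.one_mem), ?_⟩
    rw [QuadraticMap.map_add Q, QuadraticMap.map_add Q, QuadraticMap.map_smul,
      QuadraticMap.map_smul, QuadraticMap.map_smul, h₁.2, h₂.2, h₃.2]
    simp only [QuadraticMap.polar_add_left, QuadraticMap.polar_smul_left,
      QuadraticMap.polar_smul_right, h12, h13, h23, smul_eq_mul, mul_zero, add_zero]
  have hw0 : w ≠ 0 := by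
    intro h0
    have h1 : QuadraticMap.polar Q w f₃ = 1 := by
      rw [hw, QuadraticMap.polar_add_left, QuadraticMap.polar_add_left,
        QuadraticMap.polar_smul_left, QuadraticMap.polar_smul_left, QuadraticMap.polar_smul_left,
        hcomm _ _ hf1, hcomm _ _ hf2, he₃f₃, smul_zero, smul_zero, zero_add, zero_add,
        smul_eq_mul, mul_one]
    rw [h0, QuadraticMap.polar_zero_left] at h1
    exact zero_ne_one h1
  apply hB w hwr hw0
  constructor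
  · rw [hw, QuadraticMap.polar_add_left, QuadraticMap.polar_add_left,
      QuadraticMap.polar_smul_left, QuadraticMap.polar_smul_left, QuadraticMap.polar_smul_left,
      ← hα₁, ← hα₂, ← hα₃, smul_eq_mul, smul_eq_mul, smul_eq_mul]
    have key : (α₁ * β₂ - α₂ * β₁) * (s * α₁ + -t * α₂ + 1 * α₃) = 0 := by
      linear_combination α₁ * hsD - α₂ * htD
    exact (mul_eq_zero.mp key).resolve_left hp12
  · rw [hw, QuadraticMap.polar_add_left, QuadraticMap.polar_add_left,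
      QuadraticMap.polar_smul_left, QuadraticMap.polar_smul_left, QuadraticMap.polar_smul_left,
      ← hβ₁, ← hβ₂, ← hβ₃, smul_eq_mul, smul_eq_mul, smul_eq_mul]
    have key : (α₁ * β₂ - α₂ * β₁) * (s * β₁ + -t * β₂ + 1 * β₃) = 0 := by
      linear_combination β₁ * hsD - β₂ * htD
    exact (mul_eq_zero.mp key).resolve_left hp12

end Cfsg.Agent.Helper7.OSub
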