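import Mathlib
import Cfsg.Agent.Helper7.OSubO

set_option autoImplicit false
set_option linter.unusedSectionVars false
set_option maxHeartbeats 1600000

/-! Subfield subgroups of orthogonal groups, part P: a subgroup containing the rational elements
of the Siegel group and an element outside the subfield group contains the Siegel group
(helper7). -/

namespace Cfsg.Agent.Helper7.OSub

open Module Matrix Cfsg.Agent.Helper8.QuadForm Cfsg.Agent.Helper8.WittQuad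
  Cfsg.Agent.Helper8.OrthOrder Cfsg.Agent.Helper8.Siegel Cfsg.Agent.Helper8.SiegelGroup
  Cfsg.Agent.Helper7.OrthMax Cfsg.Agent.Helper7.OrthPair Cfsg.Agent.Helper7.SpSub

variable {F : Type*} [Field F] [Fintype F] {ι : Type} [Fintype ι] [DecidableEq ι]
  {F₀ : Subfield F} {Q : QuadraticForm F (ι → F)}

/-- an irrational parameter. -/
theorem exists_out (R : OD Q F₀) (hN : 13 ≤ Fintype.card ι) {r : ℕ} (hr : r.Prime)
    (hcard : Fintype.card F = Nat.card F₀ ^ r) {M : Subgroup ↥(Isom Q)}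
    (hM : ∀ g ∈ SG Q, InH Q F₀ g → g ∈ M) {g : ↥(Isom Q)} (hg : g ∈ M)
    (hgH : ¬ InH Q F₀ g) : ∃ κ : F, κ ∉ F₀ ∧ κ ∈ Dset Q F₀ M := by
  have hcomm : ∀ u v : ι → F, QuadraticMap.polar Q u v = 0 → QuadraticMap.polar Q v u = 0 :=
    fun u v huv => by rw [QuadraticMap.polar_comm]; exact huv
  obtain ⟨a₀, ha₀, ha₀0, hirr⟩ := exists_irr_image R hN hgH
  obtain ⟨b₀, f, hb₀, hf, hb₀f, hb₀c, hfc⟩ := rat_hyp R (fun _ : Fin 1 => a₀) (fun _ => ha₀.1)
    (by omega)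
  have hba : QuadraticMap.polar Q b₀ a₀ = 0 := hb₀c 0
  have hfa : QuadraticMap.polar Q f a₀ = 0 := hfc 0
  have hab : QuadraticMap.polar Q a₀ b₀ = 0 := hcomm _ _ hba
  have hQa' : Q ((g : (ι → F) ≃ₗ[F] (ι → F)) a₀) = 0 := by rw [g.2 a₀]; exact ha₀.2
  have hQb' : Q ((g : (ι → F) ≃ₗ[F] (ι → F)) b₀) = 0 := by rw [g.2 b₀]; exact hb₀.2
  have hab' : QuadraticMap.polar Q ((g : (ι → F) ≃ₗ[F] (ι → F)) a₀)
      ((g : (ι → F) ≃ₗ[F] (ι → F)) b₀) = 0 := by
    rw [polar_isometry Q g g.2]; exact hab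
  have hind' : ∀ s t : F, s • (g : (ι → F) ≃ₗ[F] (ι → F)) a₀ +
      t • (g : (ι → F) ≃ₗ[F] (ι → F)) b₀ = 0 → s = 0 ∧ t = 0 := by
    intro s t h
    rw [← map_smul, ← map_smul, ← map_add] at h
    have h1 : s • a₀ + t • b₀ = 0 := by
      have := (g : (ι → F) ≃ₗ[F] (ι → F)).injective (h.trans (map_zero _).symm)
      exact this
    have h2 : QuadraticMap.polar Q (s • a₀ + t • b₀) f = t := by
      rw [QuadraticMap.polar_add_left, QuadraticMap.polar_smul_left, QuadraticMap.polar_smul_left,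
        hcomm _ _ hfa, hb₀f, smul_zero, zero_add, smul_eq_mul, mul_one]
    rw [h1, QuadraticMap.polar_zero_left] at h2
    rw [← h2, zero_smul, add_zero] at h1
    rcases smul_eq_zero.mp h1 with h3 | h3
    · exact ⟨h3, h2.symm⟩
    · exact absurd h3 ha₀0
  have hX' : ∀ c : F, c ∈ F₀ → siegG Q ((g : (ι → F) ≃ₗ[F] (ι → F)) a₀)
      (c • (g : (ι → F) ≃ₗ[F] (ι → F)) b₀) ∈ M := by
    intro c hc
    have h1 : siegG Q a₀ (c • b₀) ∈ M := siegG_mem_M R hM ha₀ (hb₀.1.smul hc)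
      (by rw [QuadraticMap.polar_smul_right, hab, smul_zero])
    have h2 := siegG_conj_mem Q hg h1
    rwa [map_smul] at h2
  have hτ : siegG Q ((g : (ι → F) ≃ₗ[F] (ι → F)) a₀) ((g : (ι → F) ≃ₗ[F] (ι → F)) b₀) ∈ M := by
    have := hX' 1 F₀.one_mem
    rwa [one_smul] at this
  by_cases hex : ∃ e : ι → F, RSg Q F₀ e ∧ e ≠ 0 ∧
      QuadraticMap.polar Q e ((g : (ι → F) ≃ₗ[F] (ι → F)) a₀) = 0 ∧
      QuadraticMap.polar Q e ((g : (ι → F) ≃ₗ[F] (ι → F)) b₀) = 0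
  · obtain ⟨e, he, he0, hea, heb⟩ := hex
    by_cases hL : ∃ α β : F, e = α • (g : (ι → F) ≃ₗ[F] (ι → F)) a₀ +
        β • (g : (ι → F) ≃ₗ[F] (ι → F)) b₀
    · obtain ⟨α, β, hαβ⟩ := hL
      exact caseA_on R hN hM hg ha₀ ha₀0 hirr hτ he he0 hea hαβ
    · push Not at hL
      exact caseA_off R hN hM hg ha₀ ha₀0 hirr hQb' hab' hind' hτ he he0 hea heb hL
  · push Not at hex
    refine caseB R hN hM hr hcard hQa' hQb' hab' hind' hX' ?_
    rintro e he he0 ⟨hea, heb⟩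
    exact hex e he he0 hea heb

/-- a subgroup containing the rational elements of the Siegel group and an element outside the
subfield group contains the Siegel group. -/
theorem top_of_not_InH (R : OD Q F₀) (hN : 13 ≤ Fintype.card ι) {r : ℕ} (hr : r.Prime)
    (hcard : Fintype.card F = Nat.card F₀ ^ r) {M : Subgroup ↥(Isom Q)}
    (hM : ∀ g ∈ SG Q, InH Q F₀ g → g ∈ M) {g : ↥(Isom Q)} (hg : g ∈ M)
    (hgH : ¬ InH Q F₀ g) : SG Q ≤ M := by
  obtain ⟨κ, hκ, hκD⟩ := exists_out R hN hr hcard hM hg hgH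
  exact top_of_D R hN (fun x => Dset_univ R hN hM hr hcard hκ hκD x)

end Cfsg.Agent.Helper7.OSub
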