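import Mathlib
import Cfsg.Agent.Helper7.OSubP
import Cfsg.Agent.Helper7.SubLI

set_option autoImplicit false
set_option linter.unusedSectionVars false
set_option maxHeartbeats 1600000

/-! Subfield subgroups of orthogonal groups, part Q: the maximality statement for matrices and
the change of basis (helper7). -/

namespace Cfsg.Agent.Helper7.OSub

open Module Matrix Cfsg.Agent.Helper8.QuadForm Cfsg.Agent.Helper8.WittQuad
  Cfsg.Agent.Helper8.OrthOrder Cfsg.Agent.Helper8.Siegel Cfsg.Agent.Helper8.SiegelGroup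
  Cfsg.Agent.Helper7.OrthMax Cfsg.Agent.Helper7.OrthPair Cfsg.Agent.Helper7.SpSub

section one

variable {F : Type*} [Field F] [Fintype F] {ι : Type} [Fintype ι] [DecidableEq ι]
  {F₀ : Subfield F} {Q : QuadraticForm F (ι → F)}

/-- the subfield group of the standard basis is maximal. -/
theorem maximal_one (R : OD Q F₀) (hN : 13 ≤ Fintype.card ι) {r : ℕ} (hr : r.Prime)
    (hcard : Fintype.card F = Nat.card F₀ ^ r) :
    Cfsg.Geo.IsMaximalIn (Cfsg.Geo.omegaGL ⇑Q)
      (Cfsg.Geo.subfieldSubgroup F₀ (1 : GL ι F) ⊓ Cfsg.Geo.omegaGL ⇑Q) := by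
  have h5 : 5 ≤ Fintype.card ι := by omega
  refine ⟨lt_of_le_not_ge inf_le_right ?_, ?_⟩
  · intro hle
    obtain ⟨g, hg, hgH⟩ := exists_not_InH R hN hr hcard
    exact hgH (hle (toGL_mem_omegaGL Q R.nd h5 hg)).1
  · intro M hPM hMG
    have hM' : ∀ g ∈ SG Q, InH Q F₀ g → g ∈ M.comap (toGL Q) := by
      intro g hg hgH
      rw [Subgroup.mem_comap]
      exact hPM ⟨hgH, toGL_mem_omegaGL Q R.nd h5 hg⟩
    by_cases hall : ∀ g ∈ M.comap (toGL Q), InH Q F₀ g
    · left
      apply le_antisymm _ hPM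
      intro x hx
      obtain ⟨k, hk, rfl⟩ := exists_toGL_eq Q R.nd h5 (hMG hx)
      exact ⟨hall k (Subgroup.mem_comap.mpr hx), hMG hx⟩
    · right
      push Not at hall
      obtain ⟨g, hg, hgH⟩ := hall
      have htop := top_of_not_InH R hN hr hcard hM' hg hgH
      apply le_antisymm hMG
      intro x hx
      obtain ⟨k, hk, rfl⟩ := exists_toGL_eq Q R.nd h5 hx
      exact Subgroup.mem_comap.mp (htop hk)

end one

section conj

variable {F : Type*} [Field F] {ι : Type} [Fintype ι] [DecidableEq ι]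

theorem mem_isometryGroup_iff (Q : (ι → F) → F) (g : GL ι F) :
    g ∈ Cfsg.isometryGroup F Q ↔ ∀ u : ι → F, Q ((g : Matrix ι ι F) *ᵥ u) = Q u := by
  constructor
  · intro h u
    exact h u u
  · intro h u _
    exact h u

/-- the isometry group of a form transported by a matrix. -/
theorem isometryGroup_map_conj (Q Q' : (ι → F) → F) (A : GL ι F) {c : F} (hc : c ≠ 0)
    (hQ' : ∀ v : ι → F, Q' v = c * Q ((A : Matrix ι ι F) *ᵥ v)) :
    (Cfsg.isometryGroup F Q').map (MulAut.conj A).toMonoidHom = Cfsg.isometryGroup F Q := by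
  ext x
  rw [Subgroup.mem_map]
  constructor
  · rintro ⟨g, hg, rfl⟩
    rw [mem_isometryGroup_iff] at hg ⊢
    intro w
    simp only [MulEquiv.coe_toMonoidHom, MulAut.conj_apply]
    have h1 := hg (((A⁻¹ : GL ι F) : Matrix ι ι F) *ᵥ w)
    rw [hQ', hQ', mulVec_mulVec, mulVec_mulVec, mulVec_mulVec, ← Units.val_mul, ← Units.val_mul,
      ← Units.val_mul, mul_inv_cancel, Units.val_one, one_mulVec] at h1
    exact mul_left_cancel₀ hc h1
  · intro hx
    rw [mem_isometryGroup_iff] at hx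
    refine ⟨A⁻¹ * x * A, ?_, ?_⟩
    · rw [mem_isometryGroup_iff]
      intro u
      rw [hQ', hQ', mulVec_mulVec, ← Units.val_mul]
      have e1 : A * (A⁻¹ * x * A) = x * A := by group
      rw [e1, Units.val_mul, ← mulVec_mulVec, hx]
    · simp only [MulEquiv.coe_toMonoidHom, MulAut.conj_apply]
      group

theorem omegaGL_eq_commutator (Q : (ι → F) → F) :
    Cfsg.Geo.omegaGL Q = ⁅Cfsg.isometryGroup F Q, Cfsg.isometryGroup F Q⁆ := by
  unfold Cfsg.Geo.omegaGL Cfsg.Omega
  exact Subgroup.map_subtype_commutator _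

/-- the commutator subgroup of the isometry group of a form transported by a matrix. -/
theorem omegaGL_map_conj (Q Q' : (ι → F) → F) (A : GL ι F) {c : F} (hc : c ≠ 0)
    (hQ' : ∀ v : ι → F, Q' v = c * Q ((A : Matrix ι ι F) *ᵥ v)) :
    (Cfsg.Geo.omegaGL Q').map (MulAut.conj A).toMonoidHom = Cfsg.Geo.omegaGL Q := by
  rw [omegaGL_eq_commutator, omegaGL_eq_commutator, Subgroup.map_commutator,
    isometryGroup_map_conj Q Q' A hc hQ']

/-- the subfield group is the conjugate of the standard one. -/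
theorem subfieldSubgroup_one_map' (F₀ : Subfield F) (A : GL ι F) :
    (Cfsg.Geo.subfieldSubgroup F₀ (1 : GL ι F)).map (MulAut.conj A).toMonoidHom =
      Cfsg.Geo.subfieldSubgroup F₀ A := by
  unfold Cfsg.Geo.subfieldSubgroup
  rw [map_one]
  have : ((1 : MulAut (GL ι F)).toMonoidHom) = MonoidHom.id _ := rfl
  rw [this, Subgroup.map_id]

end conj

section general

variable {F : Type*} [Field F] [Fintype F] {ι : Type} [Fintype ι] [DecidableEq ι]
  {F₀ : Subfield F}

/-- the form transported by a matrix and rescaled. -/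
noncomputable def twist (Q : QuadraticForm F (ι → F)) (P : GL ι F) (ζ : F) :
    QuadraticForm F (ι → F) :=
  ζ • Q.comp (Matrix.mulVecLin (P : Matrix ι ι F))

theorem twist_apply (Q : QuadraticForm F (ι → F)) (P : GL ι F) (ζ : F) (v : ι → F) :
    twist Q P ζ v = ζ * Q ((P : Matrix ι ι F) *ᵥ v) := by
  unfold twist
  rw [_root_.smul_apply, QuadraticMap.comp_apply, Matrix.mulVecLin_apply, smul_eq_mul]

theorem twist_polar (Q : QuadraticForm F (ι → F)) (P : GL ι F) (ζ : F) (v w : ι → F) :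
    QuadraticMap.polar (twist Q P ζ) v w =
      ζ * QuadraticMap.polar Q ((P : Matrix ι ι F) *ᵥ v) ((P : Matrix ι ι F) *ᵥ w) := by
  unfold QuadraticMap.polar
  rw [twist_apply, twist_apply, twist_apply, Matrix.mulVec_add]
  ring

theorem twist_nd (Q : QuadraticForm F (ι → F)) (hQ : (QuadraticMap.polarBilin Q).Nondegenerate)
    (P : GL ι F) {ζ : F} (hζ : ζ ≠ 0) :
    (QuadraticMap.polarBilin (twist Q P ζ)).Nondegenerate := by
  rw [nondeg_iff] at hQ ⊢
  intro v hv
  have h1 : (P : Matrix ι ι F) *ᵥ v = 0 := by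
    apply hQ
    intro w
    have h2 := hv (((P⁻¹ : GL ι F) : Matrix ι ι F) *ᵥ w)
    rw [twist_polar, mulVec_mulVec, ← Units.val_mul, mul_inv_cancel, Units.val_one,
      one_mulVec] at h2
    exact (mul_eq_zero.mp h2).resolve_left hζ
  have h3 := congrArg (fun x => ((P⁻¹ : GL ι F) : Matrix ι ι F) *ᵥ x) h1
  simp only [mulVec_mulVec, mulVec_zero] at h3
  rwa [← Units.val_mul, inv_mul_cancel, Units.val_one, one_mulVec] at h3

/-- **Maximality** of the subfield groups in `Ω(Q)`. -/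
theorem subfield_maximal_orth (Q : QuadraticForm F (ι → F))
    (hQ : (QuadraticMap.polarBilin Q).Nondegenerate) (hN : 13 ≤ Fintype.card ι) {r : ℕ}
    (hr : r.Prime) (hcard : Fintype.card F = Nat.card F₀ ^ r) (P : GL ι F) {ζ : F} (hζ : ζ ≠ 0)
    (hP : Cfsg.Geo.IsQuadFormRationalStructure (fun v : ι → F => ζ * Q v) F₀ P) :
    Cfsg.Geo.IsMaximalIn (Cfsg.Geo.omegaGL ⇑Q)
      (Cfsg.Geo.subfieldSubgroup F₀ P ⊓ Cfsg.Geo.omegaGL ⇑Q) := by
  have R : OD (twist Q P ζ) F₀ := by
    refine ⟨twist_nd Q hQ P hζ, fun v hv => ?_⟩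
    rw [twist_apply]
    exact hP v hv
  have h1 := Cfsg.Agent.Helper7.SubL.isMaximalIn_map (MulAut.conj P)
    (maximal_one R hN hr hcard)
  rw [Subgroup.map_inf _ _ _ (MulAut.conj P).injective,
    omegaGL_map_conj (⇑Q) (⇑(twist Q P ζ)) P hζ (twist_apply Q P ζ),
    subfieldSubgroup_one_map'] at h1
  exact h1

end general

end Cfsg.Agent.Helper7.OSub
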