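import Mathlib
import Cfsg.Prelude.Def_GeometricClasses
import Cfsg.Agent.S0144

set_option autoImplicit false

/-! # Perfect subgroups of a decomposition stabiliser with few blocks fix every block

`permStab D A`: the elements of the decomposition stabiliser of `D : Fin t → Submodule` inducing a permutation from the
subgroup `A` of `Perm (Fin t)`.  Commutators land in `permStab D ⁅A, A⁆`; hence a perfect subgroup of
`decompositionStabilizer D` fixes every block as soon as `Perm (Fin t)` is solvable (`t ≤ 4`). -/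

namespace Cfsg.Agent.Helper7.AschDP

open Cfsg Cfsg.Geo
open scoped MatrixGroups Matrix commutatorElement

variable {ι : Type} [Fintype ι] [DecidableEq ι] {F : Type*} [Field F]

/-- `g` induces the permutation `σ` on the blocks. -/
def Ind {t : ℕ} (D : Fin t → Submodule F (ι → F)) (g : GL ι F) (σ : Equiv.Perm (Fin t)) : Prop :=
  ∀ i, (D i).map (Matrix.toLin' (g : Matrix ι ι F)) = D (σ i)

theorem Ind.one {t : ℕ} (D : Fin t → Submodule F (ι → F)) : Ind D 1 1 := fun i => by simp

theorem Ind.mul {t : ℕ} {D : Fin t → Submodule F (ι → F)} {a b : GL ι F} {σ τ : Equiv.Perm (Fin t)}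
    (ha : Ind D a σ) (hb : Ind D b τ) : Ind D (a * b) (σ * τ) := by
  intro i
  rw [Units.val_mul, Matrix.toLin'_mul, Submodule.map_comp, hb, ha, Equiv.Perm.mul_apply]

theorem Ind.inv {t : ℕ} {D : Fin t → Submodule F (ι → F)} {a : GL ι F} {σ : Equiv.Perm (Fin t)}
    (ha : Ind D a σ) : Ind D a⁻¹ σ⁻¹ := by
  intro i
  have h := ha (σ⁻¹ i)
  rw [show σ (σ⁻¹ i) = i from by simp] at h
  rw [← h, ← Submodule.map_comp, ← Matrix.toLin'_mul, ← Units.val_mul, inv_mul_cancel, Units.val_one,
    Matrix.toLin'_one, Submodule.map_id]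

/-- The elements of the decomposition stabiliser inducing a permutation in `A`. -/
def permStab {t : ℕ} (D : Fin t → Submodule F (ι → F)) (A : Subgroup (Equiv.Perm (Fin t))) :
    Subgroup (GL ι F) where
  carrier := {g | ∃ σ ∈ A, Ind D g σ}
  mul_mem' := by
    rintro a b ⟨σ, hσ, ha⟩ ⟨τ, hτ, hb⟩
    exact ⟨σ * τ, A.mul_mem hσ hτ, ha.mul hb⟩
  one_mem' := ⟨1, A.one_mem, Ind.one D⟩
  inv_mem' := by
    rintro a ⟨σ, hσ, ha⟩
    exact ⟨σ⁻¹, A.inv_mem hσ, ha.inv⟩

theorem mem_permStab {t : ℕ} {D : Fin t → Submodule F (ι → F)} {A : Subgroup (Equiv.Perm (Fin t))}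
    {g : GL ι F} : g ∈ permStab D A ↔ ∃ σ ∈ A, Ind D g σ := Iff.rfl

theorem permStab_top {t : ℕ} (D : Fin t → Submodule F (ι → F)) :
    permStab D ⊤ = decompositionStabilizer D := by
  ext g
  constructor
  · rintro ⟨σ, -, h⟩
    exact ⟨σ, h⟩
  · rintro ⟨σ, h⟩
    exact ⟨σ, Subgroup.mem_top σ, h⟩

theorem mem_permStab_bot {t : ℕ} {D : Fin t → Submodule F (ι → F)} {g : GL ι F} :
    g ∈ permStab D ⊥ ↔ ∀ i, (D i).map (Matrix.toLin' (g : Matrix ι ι F)) = D i := by
  constructor
  · rintro ⟨σ, hσ, h⟩ i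
    rw [Subgroup.mem_bot] at hσ
    subst hσ
    exact h i
  · intro h
    exact ⟨1, Subgroup.one_mem _, h⟩

theorem commutator_permStab_le {t : ℕ} (D : Fin t → Submodule F (ι → F))
    (A : Subgroup (Equiv.Perm (Fin t))) : ⁅permStab D A, permStab D A⁆ ≤ permStab D ⁅A, A⁆ := by
  rw [Subgroup.commutator_le]
  rintro a ⟨σ, hσ, ha⟩ b ⟨τ, hτ, hb⟩
  refine ⟨⁅σ, τ⁆, Subgroup.commutator_mem_commutator hσ hτ, ?_⟩
  rw [commutatorElement_def, commutatorElement_def]
  exact ((ha.mul hb).mul ha.inv).mul hb.inv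

/-- A perfect subgroup of the decomposition stabiliser lies in every term of the derived series. -/
theorem le_permStab_derivedSeries {t : ℕ} (D : Fin t → Submodule F (ι → F)) (G : Subgroup (GL ι F))
    (hperf : ⁅G, G⁆ = G) (hle : G ≤ decompositionStabilizer D) (n : ℕ) :
    G ≤ permStab D (derivedSeries (Equiv.Perm (Fin t)) n) := by
  induction n with
  | zero =>
    rw [derivedSeries_zero, permStab_top]
    exact hle
  | succ n ih =>
    rw [derivedSeries_succ]
    calc G = ⁅G, G⁆ := hperf.symm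
      _ ≤ ⁅permStab D (derivedSeries (Equiv.Perm (Fin t)) n), permStab D (derivedSeries (Equiv.Perm (Fin t)) n)⁆ :=
        Subgroup.commutator_mono ih ih
      _ ≤ _ := commutator_permStab_le D _

/-- A perfect subgroup of the stabiliser of a decomposition with a solvable group of block permutations fixes every
block. -/
theorem perfect_fixes_blocks {t : ℕ} (hsol : Group.IsSolvable (Equiv.Perm (Fin t)))
    (D : Fin t → Submodule F (ι → F)) (G : Subgroup (GL ι F))
    (hperf : ⁅G, G⁆ = G) (hle : G ≤ decompositionStabilizer D) {g : GL ι F} (hg : g ∈ G) (i : Fin t) :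
    (D i).map (Matrix.toLin' (g : Matrix ι ι F)) = D i := by
  obtain ⟨n, hn⟩ := hsol.solvable
  have h := le_permStab_derivedSeries D G hperf hle n hg
  rw [hn] at h
  exact mem_permStab_bot.mp h i

theorem perm_three_solvable : Group.IsSolvable (Equiv.Perm (Fin 3)) := by
  apply Cfsg.Agent.S0144.result 2 3 1 1 Nat.prime_two (by norm_num)
  rw [Nat.card_eq_fintype_card, Fintype.card_perm, Fintype.card_fin]
  rfl

theorem perm_four_solvable : Group.IsSolvable (Equiv.Perm (Fin 4)) := by
  apply Cfsg.Agent.S0144.result 2 3 3 1 Nat.prime_two (by norm_num)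
  rw [Nat.card_eq_fintype_card, Fintype.card_perm, Fintype.card_fin]
  rfl

theorem perm_two_solvable : Group.IsSolvable (Equiv.Perm (Fin 2)) := by
  apply Cfsg.Agent.S0144.result 2 3 1 0 Nat.prime_two (by norm_num)
  rw [Nat.card_eq_fintype_card, Fintype.card_perm, Fintype.card_fin]
  rfl

end Cfsg.Agent.Helper7.AschDP
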