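import Mathlib
import Cfsg.Prelude.Def_GeometricClasses
import Cfsg.Agent.Helper7.TensNMD
import Cfsg.Agent.Helper7.AschDecompPerfect

set_option autoImplicit false

/-! # ASCH-Ω9 piece P4: a perfect group of isometries of a symmetric form in dimension 3 over `F_3` is trivial -/

namespace Cfsg.Agent.Helper7.AschO9

open Cfsg Cfsg.Geo Cfsg.Agent.Helper7.TensNM Cfsg.Agent.Helper7.AschDP
open scoped MatrixGroups Matrix commutatorElement

variable {F : Type*} [Field F]

theorem formOfGram_single_single {κ : Type} [Fintype κ] [DecidableEq κ] (M : Matrix κ κ F) (a b : κ) :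
    formOfGram (RingHom.id F) M (Pi.single a 1) (Pi.single b 1) = M a b := by
  unfold formOfGram
  rw [Finset.sum_eq_single a, Finset.sum_eq_single b]
  · simp
  · intro b' _ hb'
    simp [Pi.single_apply, hb']
  · intro h
    exact absurd (Finset.mem_univ b) h
  · intro a' _ ha'
    apply Finset.sum_eq_zero
    intro b' _
    simp [Pi.single_apply, ha']
  · intro h
    exact absurd (Finset.mem_univ a) h

/-- The Gram matrix of a bilinear form is fixed by its isometries. -/
theorem gram_conj_of_fixes {κ : Type} [Fintype κ] [DecidableEq κ] {f : (κ → F) → (κ → F) → F}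
    (hf : IsBilinearForm f) {g : Matrix κ κ F} (hfix : ∀ u v, f (g *ᵥ u) (g *ᵥ v) = f u v) :
    gᵀ * gramMatrix f * g = gramMatrix f := by
  ext a b
  have h1 := hfix (Pi.single a 1) (Pi.single b 1)
  rw [form_eq_gram hf, formOfGram_mulVec, formOfGram_single_single] at h1
  have hmap : g.map (RingHom.id F) = g := by
    ext i j; rfl
  rw [hmap] at h1
  rw [h1]
  rfl

theorem mulVec_single_apply {κ : Type} [Fintype κ] [DecidableEq κ] (A : Matrix κ κ F) (l i : κ) :
    (A *ᵥ Pi.single l 1) i = A i l := by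
  rw [Matrix.mulVec_single_one]
  rfl

/-- **P4 `perfectThree`** (q = 3): `O_3(3)` is solvable, so a perfect group of isometries is trivial. -/
theorem perfectThree_piece [Fintype F] (hq : Fintype.card F = 3) (f₁ : (Fin 3 → F) → (Fin 3 → F) → F)
    (P₁ : Subgroup (GL (Fin 3) F)) (h₁ : IsSymmetricForm f₁) (hperf : ⁅P₁, P₁⁆ = P₁)
    (hfix : FixesForm (matrixSet P₁) f₁) : P₁ = ⊥ := by
  classical
  obtain ⟨U, U', ε, hU, hU', hε, hG⟩ := frame_F3 hq (gramMatrix f₁) (gram_transpose h₁.symm)
    (gram_nondegenerate h₁.bilinear h₁.nondegenerate)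
  obtain ⟨v, hv⟩ : ∃ v : Fin 3 → (Fin 3 → F), v = fun l => U *ᵥ Pi.single l 1 := ⟨_, rfl⟩
  obtain ⟨D, hD⟩ : ∃ D : Fin 3 → Submodule F (Fin 3 → F), D = fun l => Submodule.span F {v l} := ⟨_, rfl⟩
  -- step 1: monomial in the frame
  have hmono : ∀ g ∈ P₁, ∃ (π : Fin 3 → Fin 3) (s : Fin 3 → F), (∀ l, s l ≠ 0) ∧ Function.Injective π ∧
      ∀ l, (g : Matrix (Fin 3) (Fin 3) F) *ᵥ v l = s l • v (π l) := by
    intro g hg
    have hgf : ∀ u w, f₁ ((g : Matrix (Fin 3) (Fin 3) F) *ᵥ u) ((g : Matrix (Fin 3) (Fin 3) F) *ᵥ w) = f₁ u w :=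
      hfix _ ⟨g, hg, rfl⟩
    have hgG := gram_conj_of_fixes h₁.bilinear hgf
    obtain ⟨B, hB⟩ : ∃ B : Matrix (Fin 3) (Fin 3) F, B = U' * (g : Matrix (Fin 3) (Fin 3) F) * U := ⟨_, rfl⟩
    have hUB : U * B = (g : Matrix (Fin 3) (Fin 3) F) * U := by
      rw [hB, ← Matrix.mul_assoc, ← Matrix.mul_assoc, hU, Matrix.one_mul]
    have hBB : Bᵀ * B = 1 := by
      have h1 : Bᵀ * (Uᵀ * gramMatrix f₁ * U) * B = Uᵀ * gramMatrix f₁ * U := by
        calc Bᵀ * (Uᵀ * gramMatrix f₁ * U) * B = (U * B)ᵀ * gramMatrix f₁ * (U * B) := by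
              rw [Matrix.transpose_mul]
              simp only [Matrix.mul_assoc]
          _ = Uᵀ * ((g : Matrix (Fin 3) (Fin 3) F)ᵀ * gramMatrix f₁ * (g : Matrix (Fin 3) (Fin 3) F)) * U := by
              rw [hUB, Matrix.transpose_mul]
              simp only [Matrix.mul_assoc]
          _ = Uᵀ * gramMatrix f₁ * U := by rw [hgG]
      rw [hG, Matrix.mul_smul, Matrix.mul_one, Matrix.smul_mul] at h1
      have h2 : ε • (Bᵀ * B) = ε • (1 : Matrix (Fin 3) (Fin 3) F) := h1
      have h3 := congrArg (fun M => ε⁻¹ • M) h2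
      simpa [smul_smul, inv_mul_cancel₀ hε] using h3
    have hcol : ∀ l l' : Fin 3, (∑ k, B k l * (RingHom.id F) (B k l')) = if l = l' then (1 : F) else 0 := by
      intro l l'
      have := congrFun (congrFun hBB l) l'
      rw [Matrix.mul_apply, Matrix.one_apply] at this
      simpa [Matrix.transpose_apply] using this
    have hm := mono_F3 hq B 1 one_ne_zero hcol
    choose π hπ using hm
    have hs : ∀ l, B (π l) l ≠ 0 := by
      intro l h0
      have h1 := hcol l l
      rw [if_pos rfl, Finset.sum_eq_zero] at h1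
      · exact zero_ne_one h1
      · intro k _
        by_cases hk : k = π l
        · rw [hk, h0, zero_mul]
        · rw [hπ l k hk, zero_mul]
    refine ⟨π, fun l => B (π l) l, hs, ?_, ?_⟩
    · intro l l' hll
      by_contra hne
      have h1 := hcol l l'
      rw [if_neg hne, Finset.sum_eq_single (π l)] at h1
      · rcases mul_eq_zero.mp h1 with h | h
        · exact hs l h
        · rw [hll] at h
          exact hs l' h
      · intro k _ hk
        rw [hπ l k hk, zero_mul]
      · intro h
        exact absurd (Finset.mem_univ _) h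
    · intro l
      rw [hv]
      simp only
      rw [Matrix.mulVec_mulVec, ← hUB, ← Matrix.mulVec_mulVec]
      have hBe : B *ᵥ Pi.single l 1 = B (π l) l • (Pi.single (π l) 1 : Fin 3 → F) := by
        ext k
        rw [mulVec_single_apply, Pi.smul_apply, Pi.single_apply, smul_eq_mul]
        by_cases hk : k = π l
        · rw [if_pos hk, mul_one, hk]
        · rw [if_neg hk, mul_zero, hπ l k hk]
      rw [hBe, Matrix.mulVec_smul]
  have hle : P₁ ≤ decompositionStabilizer D := by
    intro g hg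
    obtain ⟨π, s, hs, hinj, hgv⟩ := hmono g hg
    refine ⟨Equiv.ofBijective π (Finite.injective_iff_bijective.mp hinj), fun l => ?_⟩
    rw [hD]
    simp only [Equiv.ofBijective_apply]
    rw [Submodule.map_span, Set.image_singleton, Matrix.toLin'_apply, hgv l]
    exact Submodule.span_singleton_smul_eq (IsUnit.mk0 _ (hs l)) _
  -- step 2: every line is fixed
  have hline : ∀ g ∈ P₁, ∀ l, ∃ s : F, (g : Matrix (Fin 3) (Fin 3) F) *ᵥ v l = s • v l := by
    intro g hg l
    have h := perfect_fixes_blocks perm_three_solvable D P₁ hperf hle hg l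
    have hmem : (g : Matrix (Fin 3) (Fin 3) F) *ᵥ v l ∈ D l := by
      rw [← h]
      refine ⟨v l, ?_, by rw [Matrix.toLin'_apply]⟩
      rw [hD]
      exact Submodule.mem_span_singleton_self _
    rw [hD] at hmem
    obtain ⟨s, hs⟩ := Submodule.mem_span_singleton.mp hmem
    exact ⟨s, hs.symm⟩
  -- step 3: commutativity
  have hcomm : ∀ g ∈ P₁, ∀ h ∈ P₁, g * h = h * g := by
    intro g hg h hh
    apply Units.ext
    rw [Units.val_mul, Units.val_mul]
    have hcols : ∀ l, ((g : Matrix (Fin 3) (Fin 3) F) * (h : Matrix (Fin 3) (Fin 3) F)) *ᵥ v l =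
        ((h : Matrix (Fin 3) (Fin 3) F) * (g : Matrix (Fin 3) (Fin 3) F)) *ᵥ v l := by
      intro l
      obtain ⟨s, hs⟩ := hline g hg l
      obtain ⟨s', hs'⟩ := hline h hh l
      rw [← Matrix.mulVec_mulVec, ← Matrix.mulVec_mulVec, hs, hs', Matrix.mulVec_smul, Matrix.mulVec_smul, hs, hs',
        smul_comm]
    have hMU : ((g : Matrix (Fin 3) (Fin 3) F) * (h : Matrix (Fin 3) (Fin 3) F)) * U =
        ((h : Matrix (Fin 3) (Fin 3) F) * (g : Matrix (Fin 3) (Fin 3) F)) * U := by
      ext i l
      have h1 := congrFun (hcols l) i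
      rw [hv] at h1
      simp only at h1
      rw [Matrix.mulVec_mulVec, Matrix.mulVec_mulVec, mulVec_single_apply, mulVec_single_apply] at h1
      exact h1
    have h2 := congrArg (fun M => M * U') hMU
    simp only [Matrix.mul_assoc, hU, Matrix.mul_one] at h2
    exact h2
  -- step 4
  rw [← hperf, Subgroup.commutator_eq_bot_iff_le_centralizer]
  intro g hg
  rw [Subgroup.mem_centralizer_iff]
  intro h hh
  exact hcomm h hh g hg

end Cfsg.Agent.Helper7.AschO9
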