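import Mathlib
import Cfsg.Agent.Helper7.OpNDE
import Cfsg.Agent.Helper1.SSCent

set_option autoImplicit false
set_option linter.unusedSectionVars false
set_option linter.unusedVariables false

/-!
# Orthogonal structures over a quadratic extension

`OS Q δ ζ`: `δ` is an endomorphism of the quadratic space `(V, Q)` with `δ² = ζ` a nonsquare, self-adjoint for the
polar form.  Then `V` is a vector space over `L = F(√ζ)` (modelled as `QuadraticAlgebra F ζ 0`) and carries an
`L`-quadratic form `QL` with `Q = re ∘ QL`.  The `L`-structure lives on the type synonym `VL h`.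
-/

namespace Cfsg.Agent.Helper7.OFx

open Module

universe u

variable {F : Type u} [Field F] {V : Type u} [AddCommGroup V] [Module F V]

/-- an orthogonal structure of degree two: a self-adjoint endomorphism whose square is a nonsquare scalar. -/
structure OS (Q : QuadraticForm F V) (δ : Module.End F V) (ζ : F) : Prop where
  sq : ∀ v, δ (δ v) = ζ • v
  nsq : ¬ IsSquare ζ
  sa : ∀ u v, QuadraticMap.polar Q (δ u) v = QuadraticMap.polar Q u (δ v)

variable {Q : QuadraticForm F V} {δ : Module.End F V} {ζ : F}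

theorem OS.zeta_ne_zero (h : OS Q δ ζ) : ζ ≠ 0 := by
  intro h0
  apply h.nsq
  rw [h0]
  exact ⟨0, by ring⟩

theorem OS.mul_self (h : OS Q δ ζ) : δ * δ = ζ • (1 : Module.End F V) := by
  apply LinearMap.ext
  intro v
  rw [Module.End.mul_apply, h.sq, LinearMap.smul_apply, Module.End.one_apply]

/-- `δ` has no eigenvectors. -/
theorem OS.no_eigen (h : OS Q δ ζ) {v : V} {α : F} (hv : δ v = α • v) : v = 0 := by
  by_contra hv0
  have h1 : δ (δ v) = (α * α) • v := by rw [hv, map_smul, hv, smul_smul]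
  rw [h.sq] at h1
  have h2 : (ζ - α * α) • v = 0 := by rw [sub_smul, h1, sub_self]
  rcases smul_eq_zero.mp h2 with h3 | h3
  · exact h.nsq ⟨α, (sub_eq_zero.mp h3)⟩
  · exact hv0 h3

/-- `v` and `δ v` are independent. -/
theorem OS.indep (h : OS Q δ ζ) {v : V} (hv : v ≠ 0) {a b : F} (hab : a • v + b • δ v = 0) :
    a = 0 ∧ b = 0 := by
  have hb : b = 0 := by
    by_contra hb
    apply hv
    apply h.no_eigen (α := -(a / b))
    have : b • δ v = -(a • v) := eq_neg_of_add_eq_zero_right hab
    have h1 : δ v = b⁻¹ • (b • δ v) := by rw [smul_smul, inv_mul_cancel₀ hb, one_smul]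
    rw [h1, this, smul_neg, smul_smul, neg_smul, div_eq_inv_mul]
  refine ⟨?_, hb⟩
  rw [hb, zero_smul, add_zero] at hab
  exact (smul_eq_zero.mp hab).resolve_right hv

/-- the polar form of `δ u`, `δ v`. -/
theorem OS.polar_delta (h : OS Q δ ζ) (u v : V) :
    QuadraticMap.polar Q (δ u) (δ v) = ζ * QuadraticMap.polar Q u v := by
  rw [h.sa, h.sq, QuadraticMap.polar_smul_right, smul_eq_mul]

/-- conjugation by an isometry. -/
theorem OS.conj (h : OS Q δ ζ) (g : V ≃ₗ[F] V) (hg : ∀ v, Q (g v) = Q v) :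
    OS Q ((g : V →ₗ[F] V) ∘ₗ δ ∘ₗ (g.symm : V →ₗ[F] V)) ζ := by
  have hpol : ∀ u v, QuadraticMap.polar Q (g u) (g v) = QuadraticMap.polar Q u v := by
    intro u v
    unfold QuadraticMap.polar
    rw [← map_add, hg, hg, hg]
  have hpol' : ∀ u v, QuadraticMap.polar Q (g u) v = QuadraticMap.polar Q u (g.symm v) := by
    intro u v
    rw [← hpol u (g.symm v), LinearEquiv.apply_symm_apply]
  refine ⟨fun v => ?_, h.nsq, fun u v => ?_⟩
  · simp only [LinearMap.comp_apply, LinearEquiv.coe_coe, LinearEquiv.symm_apply_apply, h.sq, map_smul,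
      LinearEquiv.apply_symm_apply]
  · simp only [LinearMap.comp_apply, LinearEquiv.coe_coe]
    rw [hpol', h.sa, QuadraticMap.polar_comm Q u, hpol', QuadraticMap.polar_comm Q]

/-! ### the field -/

/-- the quadratic extension. -/
abbrev LF (ζ : F) : Type u := QuadraticAlgebra F ζ 0

theorem fact_LF {ζ : F} (h : ¬ IsSquare ζ) : Fact (∀ r : F, r ^ 2 ≠ ζ + 0 * r) :=
  ⟨fun r hr => h ⟨r, by rw [zero_mul, add_zero] at hr; rw [← hr, sq]⟩⟩

end Cfsg.Agent.Helper7.OFx
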