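import Mathlib
import Cfsg.Prelude.Def_GeometricClasses
import Cfsg.Agent.Helper7.AschNotOmA

/-!
# ASCH-PRIME-O piece O1 (part B): `Ω_{2m+1}(q)` does not permute the lines of a decomposition into lines.
-/

set_option autoImplicit false
set_option linter.unusedSectionVars false

namespace Cfsg.Agent.Helper7.AschO

open Module Cfsg Cfsg.Geo
open Cfsg.Agent.Helper8.QuadForm Cfsg.Agent.Helper8.WittQuad Cfsg.Agent.Helper8.OrthOrder
  Cfsg.Agent.Helper8.Siegel Cfsg.Agent.Helper8.SiegelGroup Cfsg.Agent.Helper8.StdForms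
  Cfsg.Agent.Helper8.OmegaStd2 Cfsg.Agent.Helper7.OrthMax
open scoped MatrixGroups Matrix

variable {F : Type*} [Field F]

/-- a linear map `φ` with `(φ - 1)² = 0` permuting the lines of a decomposition is the identity, in
characteristic different from two -/
theorem eq_id_of_permutes {ι : Type} [Fintype ι] [DecidableEq ι] (h2 : (2 : F) ≠ 0) {t : ℕ}
    (D : Fin t → Submodule F (ι → F)) (hD : IsMDecomposition 1 D) (φ : (ι → F) →ₗ[F] (ι → F))
    (σ : Equiv.Perm (Fin t)) (hσ : ∀ i, (D i).map φ = D (σ i))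
    (hN : ∀ x, φ (φ x - x) = φ x - x) : ∀ x, φ x = x := by
  have hex : ∀ i, ∃ e : ι → F, e ∈ D i ∧ e ≠ 0 := by
    intro i
    have hpos : 0 < Module.finrank F (D i) := by rw [hD.finrank_eq i]; exact Nat.one_pos
    obtain ⟨⟨e, he⟩, he0⟩ := Module.finrank_pos_iff_exists_ne_zero.mp hpos
    exact ⟨e, he, fun h => he0 (Subtype.ext h)⟩
  have hdisj : ∀ i j, i ≠ j → ∀ x, x ∈ D i → x ∈ D j → x = 0 := by
    intro i j hij x hxi hxj
    have h := hD.indep.pairwiseDisjoint hij
    have : x ∈ D i ⊓ D j := ⟨hxi, hxj⟩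
    rw [h.eq_bot, Submodule.mem_bot] at this
    exact this
  have hmaps : ∀ i, ∀ x ∈ D i, φ x ∈ D (σ i) := by
    intro i x hx
    rw [← hσ i]
    exact Submodule.mem_map_of_mem hx
  have hker : ∀ x, φ x = 0 → x = 0 := by
    intro x hx
    have := hN x
    rw [hx, zero_sub, map_neg, hx, neg_zero] at this
    exact neg_eq_zero.mp this.symm
  -- the permutation is trivial
  have hfix : ∀ i, σ i = i := by
    intro i
    by_contra hne
    obtain ⟨d, hd, hd0⟩ := hex i
    have hy : φ d ∈ D (σ i) := hmaps i d hd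
    have hφy : φ (φ d) = φ d + φ d - d := by
      have := hN d
      rw [map_sub] at this
      rw [sub_eq_iff_eq_add] at this
      rw [this]; abel
    have hx : φ d + φ d - d ∈ D (σ (σ i)) := by
      rw [← hφy]
      exact hmaps (σ i) _ hy
    have hne2 : σ (σ i) ≠ σ i := fun h => hne (σ.injective h)
    by_cases hcase : σ (σ i) = i
    · rw [hcase] at hx
      have h3 : φ d + φ d ∈ D i := by
        have := (D i).add_mem hx hd
        rwa [sub_add_cancel] at this
      have h4 : φ d ∈ D i := by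
        have := (D i).smul_mem (2 : F)⁻¹ h3
        rwa [← two_smul F (φ d), smul_smul, inv_mul_cancel₀ h2, one_smul] at this
      exact hd0 (hker d (hdisj i (σ i) (Ne.symm hne) _ h4 hy))
    · have hind := hD.indep (σ (σ i))
      have hmem2 : φ d + φ d - d ∈ ⨆ j, ⨆ (_ : j ≠ σ (σ i)), D j := by
        refine Submodule.sub_mem _ (Submodule.add_mem _ ?_ ?_) ?_
        · exact Submodule.mem_iSup_of_mem (σ i) (Submodule.mem_iSup_of_mem (Ne.symm hne2) hy)
        · exact Submodule.mem_iSup_of_mem (σ i) (Submodule.mem_iSup_of_mem (Ne.symm hne2) hy)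
        · exact Submodule.mem_iSup_of_mem i (Submodule.mem_iSup_of_mem (Ne.symm hcase) hd)
      have : φ d + φ d - d ∈ D (σ (σ i)) ⊓ ⨆ j, ⨆ (_ : j ≠ σ (σ i)), D j := ⟨hx, hmem2⟩
      rw [hind.eq_bot, Submodule.mem_bot] at this
      have h3 : d = φ d + φ d := (sub_eq_zero.mp this).symm
      apply hd0
      apply hdisj i (σ i) (Ne.symm hne) d hd
      rw [h3]
      exact (D (σ i)).add_mem hy hy
  -- `φ` fixes every line pointwise
  have hpt : ∀ i, ∀ x ∈ D i, φ x = x := by
    intro i x hx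
    by_cases hx0 : x = 0
    · rw [hx0, map_zero]
    have hφx : φ x ∈ D i := by
      have := hmaps i x hx
      rwa [hfix i] at this
    have hNx : φ x - x ∈ D i := (D i).sub_mem hφx hx
    obtain ⟨c, hc⟩ := (finrank_eq_one_iff_of_nonzero' (⟨x, hx⟩ : D i)
      (fun h => hx0 (congrArg Subtype.val h))).mp (hD.finrank_eq i) ⟨φ x - x, hNx⟩
    have hc' : c • x = φ x - x := congrArg Subtype.val hc
    have h3 := hN x
    rw [← hc', map_smul] at h3
    have h4 : c • (φ x - x) = 0 := by
      rw [smul_sub, h3, sub_self]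
    rw [← hc', smul_smul] at h4
    have hc0 : c = 0 := by
      rcases smul_eq_zero.mp h4 with h | h
      · exact mul_self_eq_zero.mp h
      · exact absurd h hx0
    rw [hc0, zero_smul] at hc'
    exact (sub_eq_zero.mp hc'.symm)
  -- hence everything
  intro x
  have hle : ∀ i, D i ≤ LinearMap.eqLocus φ LinearMap.id := fun i y hy => hpt i y hy
  have htop : (⊤ : Submodule F (ι → F)) ≤ LinearMap.eqLocus φ LinearMap.id := by
    rw [← hD.iSup_eq_top]
    exact iSup_le hle
  exact htop (Submodule.mem_top (x := x))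

theorem not_le_decompositionStabilizer_omega [Fintype F] {m t : ℕ} (hm : 3 ≤ m) (h2 : (2 : F) ≠ 0)
    (D : Fin t → Submodule F (Unit ⊕ (Fin m ⊕ Fin m) → F)) (hD : IsMDecomposition 1 D) :
    ¬ omegaGL (quadFormOdd m F) ≤ decompositionStabilizer D := by
  intro hle
  have hQ := oddForm_nondeg F m h2
  have hfun : quadFormOdd m F = ⇑(oddForm F m) := funext fun v => (oddForm_apply F m v).symm
  rw [hfun] at hle
  have h5 : 5 ≤ Fintype.card (Unit ⊕ (Fin m ⊕ Fin m)) := by rw [card_index]; omega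
  set j₀ : Fin m := ⟨0, by omega⟩ with hj₀
  set j₁ : Fin m := ⟨1, by omega⟩ with hj₁
  have hj : j₀ ≠ j₁ := by
    intro h; have := congrArg Fin.val h; simp [hj₀, hj₁] at this
  set u : Unit ⊕ (Fin m ⊕ Fin m) → F := Pi.single (Sum.inr (Sum.inl j₀)) 1 with hu_def
  set z : Unit ⊕ (Fin m ⊕ Fin m) → F := Pi.single (Sum.inr (Sum.inl j₁)) 1 with hz_def
  set x₀ : Unit ⊕ (Fin m ⊕ Fin m) → F := Pi.single (Sum.inr (Sum.inr j₀)) 1 with hx₀_def
  have hyp := odd_isHyp F m
  have hu : oddForm F m u = 0 := (hyp.1 j₀).1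
  have hz : oddForm F m z = 0 := (hyp.1 j₁).1
  have huz : QuadraticMap.polar (oddForm F m) u z = 0 := (hyp.2.2 j₀ j₁).1
  have hzu : QuadraticMap.polar (oddForm F m) z u = 0 := (hyp.2.2 j₁ j₀).1
  have huu : QuadraticMap.polar (oddForm F m) u u = 0 := (hyp.2.2 j₀ j₀).1
  have hzz : QuadraticMap.polar (oddForm F m) z z = 0 := (hyp.2.2 j₁ j₁).1
  obtain ⟨σ, hσ⟩ := hle (toGL_mem_omegaGL _ hQ h5 (siegG_mem_SG (oddForm F m) hu huz))
  have hlin : ∀ x, Matrix.toLin' ((toGL (oddForm F m) (siegG (oddForm F m) u z) :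
      GL (Unit ⊕ (Fin m ⊕ Fin m)) F) : Matrix _ _ F) x = sieg (oddForm F m) u z x := by
    intro x
    rw [Matrix.toLin'_apply, toGL_mulVec, siegG_val, siegE_apply _ hu huz]
  have hsieg : ∀ x, sieg (oddForm F m) u z x =
      x + QuadraticMap.polar (oddForm F m) x z • u - QuadraticMap.polar (oddForm F m) x u • z := by
    intro x
    rw [sieg_apply, hz, zero_mul, zero_smul, sub_zero]
  have key := eq_id_of_permutes h2 D hD _ σ hσ (by
    intro x
    rw [hlin, hlin, hsieg x, add_sub_assoc, add_sub_cancel_left, hsieg]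
    have e1 : QuadraticMap.polar (oddForm F m)
        (QuadraticMap.polar (oddForm F m) x z • u - QuadraticMap.polar (oddForm F m) x u • z) z = 0 := by
      rw [QuadraticMap.polar_sub_left, QuadraticMap.polar_smul_left, QuadraticMap.polar_smul_left,
        huz, hzz, smul_zero, smul_zero, sub_zero]
    have e2 : QuadraticMap.polar (oddForm F m)
        (QuadraticMap.polar (oddForm F m) x z • u - QuadraticMap.polar (oddForm F m) x u • z) u = 0 := by
      rw [QuadraticMap.polar_sub_left, QuadraticMap.polar_smul_left, QuadraticMap.polar_smul_left,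
        huu, hzu, smul_zero, smul_zero, sub_zero]
    rw [e1, e2, zero_smul, zero_smul, add_zero, sub_zero])
  have h3 := key x₀
  rw [hlin, hsieg] at h3
  have e3 : QuadraticMap.polar (oddForm F m) x₀ z = 0 := by
    rw [QuadraticMap.polar_comm]
    have := hyp.2.1 j₁ j₀
    rwa [if_neg (Ne.symm hj)] at this
  have e4 : QuadraticMap.polar (oddForm F m) x₀ u = 1 := by
    rw [QuadraticMap.polar_comm]
    have := hyp.2.1 j₀ j₀
    rwa [if_pos rfl] at this
  rw [e3, e4, zero_smul, add_zero, one_smul, sub_eq_self] at h3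
  have := congrFun h3 (Sum.inr (Sum.inl j₁))
  rw [hz_def, Pi.single_eq_same, Pi.zero_apply] at this
  exact one_ne_zero this

end Cfsg.Agent.Helper7.AschO
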