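import Mathlib
import Cfsg.Prelude.Def_GeometricClasses
import Cfsg.Agent.Helper7.AschPPT5

/-!
# ASCH-PP-U piece NOT7U (part A, helper7): algebra of decomposable tensors

Multilinearity of `dec`, product covectors, and: `⊗ cᵢ + λ ⊗ aᵢ` is not decomposable when `c` and `a` are non-parallel
in two slots.
-/

set_option autoImplicit false

namespace Cfsg.Agent.Helper7.AschPPU

open Cfsg Cfsg.Geo Matrix Cfsg.Agent.Helper7.AschPP
open scoped MatrixGroups Matrix

variable {F : Type*} [Field F] {m t : ℕ}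

theorem dec_update_apply (v : Fin t → Fin m → F) (i : Fin t) (a : Fin m → F) (x : Fin t → Fin m) :
    dec (Function.update v i a) x = a (x i) * ∏ j ∈ Finset.univ.erase i, v j (x j) := by
  rw [dec_apply, ← Finset.mul_prod_erase Finset.univ _ (Finset.mem_univ i), Function.update_self]
  congr 1
  refine Finset.prod_congr rfl fun j hj => ?_
  rw [Function.update_of_ne (Finset.ne_of_mem_erase hj)]

theorem dec_update_add (v : Fin t → Fin m → F) (i : Fin t) (a b : Fin m → F) :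
    dec (Function.update v i (a + b)) = dec (Function.update v i a) + dec (Function.update v i b) := by
  funext x
  rw [Pi.add_apply, dec_update_apply, dec_update_apply, dec_update_apply, Pi.add_apply, add_mul]

theorem dec_update_smul (v : Fin t → Fin m → F) (i : Fin t) (k : F) (a : Fin m → F) :
    dec (Function.update v i (k • a)) = k • dec (Function.update v i a) := by
  funext x
  rw [Pi.smul_apply, dec_update_apply, dec_update_apply, Pi.smul_apply, smul_eq_mul, smul_eq_mul, mul_assoc]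

theorem dec_eq_zero_of_zero (v : Fin t → Fin m → F) (i : Fin t) (hi : v i = 0) : dec v = 0 := by
  funext x
  rw [dec_apply, Pi.zero_apply]
  apply Finset.prod_eq_zero (Finset.mem_univ i)
  rw [hi, Pi.zero_apply]

/-- the pairing of a product covector with a decomposable vector -/
theorem dec_dot_dec (ψ v : Fin t → Fin m → F) : dec ψ ⬝ᵥ dec v = ∏ i, ψ i ⬝ᵥ v i := by
  simp only [dotProduct, dec_apply]
  rw [Finset.prod_univ_sum, Fintype.piFinset_univ]
  refine Finset.sum_congr rfl fun x _ => ?_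
  rw [← Finset.prod_mul_distrib]

theorem prod_update2 {i₀ i₁ : Fin t} (h01 : i₀ ≠ i₁) (φ : Fin t → Fin m → F) (A B : Fin m → F)
    (v : Fin t → Fin m → F) :
    ∏ i, (Function.update (Function.update φ i₀ A) i₁ B i) ⬝ᵥ v i =
      (A ⬝ᵥ v i₀) * (B ⬝ᵥ v i₁) * ∏ i ∈ (Finset.univ.erase i₀).erase i₁, φ i ⬝ᵥ v i := by
  rw [← Finset.mul_prod_erase Finset.univ _ (Finset.mem_univ i₀),
    ← Finset.mul_prod_erase (Finset.univ.erase i₀) _ (Finset.mem_erase.mpr ⟨h01.symm, Finset.mem_univ i₁⟩),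
    Function.update_of_ne h01, Function.update_self, Function.update_self, mul_assoc]
  congr 2
  refine Finset.prod_congr rfl fun j hj => ?_
  have h1 : j ≠ i₁ := Finset.ne_of_mem_erase hj
  have h0 : j ≠ i₀ := Finset.ne_of_mem_erase (Finset.mem_of_mem_erase hj)
  rw [Function.update_of_ne h1, Function.update_of_ne h0]

/-- dual covectors of a non-parallel pair -/
theorem exists_dual_pair {c a : Fin m → F} (ha : a ≠ 0) (hca : ∀ k : F, c ≠ k • a) :
    ∃ ξ ξ' : Fin m → F, ξ ⬝ᵥ c = 1 ∧ ξ ⬝ᵥ a = 0 ∧ ξ' ⬝ᵥ c = 0 ∧ ξ' ⬝ᵥ a = 1 := by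
  obtain ⟨j, j', hΔ⟩ : ∃ j j', c j * a j' - c j' * a j ≠ 0 := by
    by_contra hcon
    push Not at hcon
    obtain ⟨j', hj'⟩ : ∃ j', a j' ≠ 0 := by
      by_contra h
      push Not at h
      exact ha (funext h)
    apply hca (c j' / a j')
    funext j
    have := hcon j j'
    rw [Pi.smul_apply, smul_eq_mul]
    field_simp
    linear_combination this
  set Δ := c j * a j' - c j' * a j with hΔdef
  refine ⟨Δ⁻¹ • (a j' • Pi.single j 1 - a j • Pi.single j' 1),
    Δ⁻¹ • (c j • Pi.single j' 1 - c j' • Pi.single j 1), ?_, ?_, ?_, ?_⟩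
  · rw [smul_dotProduct, sub_dotProduct, smul_dotProduct, smul_dotProduct, single_dotProduct,
      single_dotProduct, one_mul, one_mul, smul_eq_mul, smul_eq_mul, smul_eq_mul]
    field_simp
    first | done | (rw [hΔdef]; ring) | exact hΔdef.symm
  · rw [smul_dotProduct, sub_dotProduct, smul_dotProduct, smul_dotProduct, single_dotProduct,
      single_dotProduct, one_mul, one_mul, smul_eq_mul, smul_eq_mul, smul_eq_mul]
    ring
  · rw [smul_dotProduct, sub_dotProduct, smul_dotProduct, smul_dotProduct, single_dotProduct,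
      single_dotProduct, one_mul, one_mul, smul_eq_mul, smul_eq_mul, smul_eq_mul]
    ring
  · rw [smul_dotProduct, sub_dotProduct, smul_dotProduct, smul_dotProduct, single_dotProduct,
      single_dotProduct, one_mul, one_mul, smul_eq_mul, smul_eq_mul, smul_eq_mul]
    field_simp
    first | done | (rw [hΔdef]; ring) | exact hΔdef.symm

/-- a covector non-vanishing on two given non-zero vectors -/
theorem exists_dot_ne_zero_pair {c a : Fin m → F} (hc : c ≠ 0) (ha : a ≠ 0) :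
    ∃ φ : Fin m → F, φ ⬝ᵥ c ≠ 0 ∧ φ ⬝ᵥ a ≠ 0 := by
  obtain ⟨j, hj⟩ : ∃ j, c j ≠ 0 := by
    by_contra h
    push Not at h
    exact hc (funext h)
  obtain ⟨j', hj'⟩ : ∃ j', a j' ≠ 0 := by
    by_contra h
    push Not at h
    exact ha (funext h)
  by_cases h1 : a j = 0
  · by_cases h2 : c j' = 0
    · refine ⟨Pi.single j 1 + Pi.single j' 1, ?_, ?_⟩
      · rw [add_dotProduct, single_dotProduct, single_dotProduct, one_mul, one_mul, h2, add_zero]
        exact hj
      · rw [add_dotProduct, single_dotProduct, single_dotProduct, one_mul, one_mul, h1, zero_add]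
        exact hj'
    · refine ⟨Pi.single j' 1, ?_, ?_⟩
      · rw [single_dotProduct, one_mul]; exact h2
      · rw [single_dotProduct, one_mul]; exact hj'
  · refine ⟨Pi.single j 1, ?_, ?_⟩
    · rw [single_dotProduct, one_mul]; exact hj
    · rw [single_dotProduct, one_mul]; exact h1

/-- `⊗ cᵢ + λ ⊗ aᵢ` is not decomposable when `c` and `a` are non-parallel in two slots -/
theorem add_smul_ne_dec {i₀ i₁ : Fin t} (h01 : i₀ ≠ i₁) (c a : Fin t → Fin m → F) (hc : ∀ i, c i ≠ 0)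
    (ha : ∀ i, a i ≠ 0) (h0 : ∀ k : F, c i₀ ≠ k • a i₀) (h1 : ∀ k : F, c i₁ ≠ k • a i₁) {l : F}
    (hl : l ≠ 0) (w : Fin t → Fin m → F) : dec c + l • dec a ≠ dec w := by
  intro h
  choose φ hφc hφa using fun i => exists_dot_ne_zero_pair (hc i) (ha i)
  obtain ⟨ξ₀, ξ₀', h00, h01', h02, h03⟩ := exists_dual_pair (ha i₀) h0
  obtain ⟨ξ₁, ξ₁', h10, h11, h12, h13⟩ := exists_dual_pair (ha i₁) h1
  have key : ∀ A B : Fin m → F,
      (A ⬝ᵥ c i₀) * (B ⬝ᵥ c i₁) * ∏ i ∈ (Finset.univ.erase i₀).erase i₁, φ i ⬝ᵥ c i +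
        l * ((A ⬝ᵥ a i₀) * (B ⬝ᵥ a i₁) * ∏ i ∈ (Finset.univ.erase i₀).erase i₁, φ i ⬝ᵥ a i) =
      (A ⬝ᵥ w i₀) * (B ⬝ᵥ w i₁) * ∏ i ∈ (Finset.univ.erase i₀).erase i₁, φ i ⬝ᵥ w i := by
    intro A B
    have := congrArg (fun z => dec (Function.update (Function.update φ i₀ A) i₁ B) ⬝ᵥ z) h
    simp only [dotProduct_add, dotProduct_smul, dec_dot_dec, prod_update2 h01, smul_eq_mul] at this
    exact this
  set Kc := ∏ i ∈ (Finset.univ.erase i₀).erase i₁, φ i ⬝ᵥ c i with hKc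
  set Ka := ∏ i ∈ (Finset.univ.erase i₀).erase i₁, φ i ⬝ᵥ a i with hKa
  set W := ∏ i ∈ (Finset.univ.erase i₀).erase i₁, φ i ⬝ᵥ w i with hW
  have hKc0 : Kc ≠ 0 := Finset.prod_ne_zero_iff.mpr fun i _ => hφc i
  have hKa0 : Ka ≠ 0 := Finset.prod_ne_zero_iff.mpr fun i _ => hφa i
  have e1 := key ξ₀ ξ₁
  have e2 := key ξ₀' ξ₁'
  have e3 := key ξ₀ ξ₁'
  have e4 := key ξ₀' ξ₁
  rw [h00, h10, h01', h11] at e1
  rw [h02, h12, h03, h13] at e2
  rw [h00, h12, h01', h13] at e3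
  rw [h02, h10, h03, h11] at e4
  have hprod : Kc * (l * Ka) = 0 := by
    have hE1 : Kc = ξ₀ ⬝ᵥ w i₀ * ξ₁ ⬝ᵥ w i₁ * W := by linear_combination e1
    have hE2 : l * Ka = ξ₀' ⬝ᵥ w i₀ * ξ₁' ⬝ᵥ w i₁ * W := by linear_combination e2
    have hE3 : 0 = ξ₀ ⬝ᵥ w i₀ * ξ₁' ⬝ᵥ w i₁ * W := by linear_combination e3
    have hE4 : 0 = ξ₀' ⬝ᵥ w i₀ * ξ₁ ⬝ᵥ w i₁ * W := by linear_combination e4
    rw [hE1, hE2]
    calc ξ₀ ⬝ᵥ w i₀ * ξ₁ ⬝ᵥ w i₁ * W * (ξ₀' ⬝ᵥ w i₀ * ξ₁' ⬝ᵥ w i₁ * W)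
        = (ξ₀ ⬝ᵥ w i₀ * ξ₁' ⬝ᵥ w i₁ * W) * (ξ₀' ⬝ᵥ w i₀ * ξ₁ ⬝ᵥ w i₁ * W) := by ring
      _ = 0 := by rw [← hE3, zero_mul]
  rcases mul_eq_zero.mp hprod with h' | h'
  · exact hKc0 h'
  · rcases mul_eq_zero.mp h' with h'' | h''
    · exact hl h''
    · exact hKa0 h''

/-- a vector not parallel to a given non-zero vector -/
theorem exists_not_parallel (hm : 2 ≤ m) {a : Fin m → F} (ha : a ≠ 0) : ∃ w₀ : Fin m → F, ∀ k : F, w₀ ≠ k • a := by
  obtain ⟨j, hj⟩ : ∃ j, a j ≠ 0 := by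
    by_contra h
    push Not at h
    exact ha (funext h)
  obtain ⟨j', hj'⟩ : ∃ j' : Fin m, j' ≠ j := by
    by_cases h : j = ⟨0, by omega⟩
    · exact ⟨⟨1, by omega⟩, by rw [h]; intro h'; have := congrArg Fin.val h'; simp at this⟩
    · exact ⟨⟨0, by omega⟩, fun h' => h h'.symm⟩
  refine ⟨Pi.single j' 1, fun k hk => ?_⟩
  have h1 := congrFun hk j
  rw [Pi.single_eq_of_ne hj'.symm, Pi.smul_apply, smul_eq_mul] at h1
  have hk0 : k = 0 := by
    rcases mul_eq_zero.mp h1.symm with h | h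
    · exact h
    · exact absurd h hj
  have h2 := congrFun hk j'
  rw [Pi.single_eq_same, hk0, zero_smul, Pi.zero_apply] at h2
  exact one_ne_zero h2

/-- making one slot generic while keeping a linear functional non-zero -/
theorem exists_generic_slot (hm : 2 ≤ m) (ψ : ((Fin t → Fin m) → F) →ₗ[F] F) (c : Fin t → Fin m → F)
    (hc : ψ (dec c) ≠ 0) (i : Fin t) {a : Fin m → F} (ha : a ≠ 0) :
    ∃ c' : Fin m → F, (∀ k : F, c' ≠ k • a) ∧ ψ (dec (Function.update c i c')) ≠ 0 := by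
  by_cases hpar : ∃ k : F, c i = k • a
  · obtain ⟨k, hk⟩ := hpar
    obtain ⟨w₀, hw₀⟩ := exists_not_parallel hm ha
    by_cases hψ : ψ (dec (Function.update c i w₀)) = 0
    · refine ⟨c i + w₀, fun k' hk' => ?_, ?_⟩
      · apply hw₀ (k' - k)
        rw [sub_smul, ← hk', hk]
        abel
      · rw [dec_update_add, map_add, hψ, add_zero, Function.update_eq_self]
        exact hc
    · exact ⟨w₀, hw₀, hψ⟩
  · push Not at hpar
    refine ⟨c i, hpar, ?_⟩
    rw [Function.update_eq_self]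
    exact hc

end Cfsg.Agent.Helper7.AschPPU
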