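import Mathlib
import Cfsg.Prelude.Def_GeometricClasses
import Cfsg.Agent.Helper7.AschPPUNotA
import Cfsg.Agent.Helper7.AschNotSUG

/-!
# ASCH-PP-U piece NOT7U (helper7): `SU_n(q)` is not contained in a tensor-wreath subgroup

An isotropic decomposable vector `u` exists (a Hermitian plane over a finite field is isotropic); the unitary
transvection with centre `u` maps a decomposable `s`, non-parallel to `u` in two slots and not perpendicular to
`u`, to `s + λ u`, which is not decomposable.
-/

set_option autoImplicit false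

namespace Cfsg.Agent.Helper7.AschPPU

open Cfsg Cfsg.Geo Matrix Cfsg.Agent.Helper7.AschPP
open Cfsg.Agent.Helper7.Herm Cfsg.Agent.Helper8.GUOrder Cfsg.Agent.Helper8.SURoot
  Cfsg.Agent.Helper8.AutSU Cfsg.Agent.Helper7.SUSimp Cfsg.Agent.S5653 Cfsg.Agent.Helper7.AschGen
  Cfsg.Agent.Helper7.AschU
open scoped MatrixGroups Matrix

variable {F : Type*} [Field F] [Fintype F] {n : ℕ}

theorem dec_ne_zero {m t : ℕ} {v : Fin t → Fin m → F} (hv : ∀ i, v i ≠ 0) : dec v ≠ 0 := by
  have : ∀ i, ∃ j, v i j ≠ 0 := by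
    intro i
    by_contra h
    push Not at h
    exact hv i (funext h)
  choose x hx using this
  intro h
  have := congrFun h x
  rw [dec_apply, Pi.zero_apply, Finset.prod_eq_zero_iff] at this
  obtain ⟨i, -, hi⟩ := this
  exact hx i hi

/-- a Hermitian plane over a finite field contains a non-zero isotropic vector -/
theorem exists_isotropic_pair (q : ℕ) (hF : Fintype.card F = q ^ 2) (x y : Fin n → F) :
    ∃ α β : F, (α ≠ 0 ∨ β ≠ 0) ∧ hermForm n F q (α • x + β • y) (α • x + β • y) = 0 := by
  have hq1 := one_le_q hF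
  set a := hermForm n F q x x with ha
  set b := hermForm n F q x y with hb
  set c := hermForm n F q y y with hc
  have haq : a ^ q = a := (hermForm_swap hF x x).symm
  have hcq : c ^ q = c := (hermForm_swap hF y y).symm
  have hyx : hermForm n F q y x = b ^ q := hermForm_swap hF y x
  have hexp : ∀ α β : F, hermForm n F q (α • x + β • y) (α • x + β • y) =
      α * α ^ q * a + α * β ^ q * b + β * α ^ q * b ^ q + β * β ^ q * c := by
    intro α β
    rw [hermForm_add_left, hermForm_add_right hF, hermForm_add_right hF, hermForm_smul_left,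
      hermForm_smul_left, hermForm_smul_left, hermForm_smul_left, hermForm_smul_right, hermForm_smul_right,
      hermForm_smul_right, hermForm_smul_right, hyx]
    ring
  by_cases ha0 : a = 0
  · refine ⟨1, 0, Or.inl one_ne_zero, ?_⟩
    rw [hexp, ha0, zero_pow (by omega)]
    ring
  · set γ := b ^ q / a with hγ
    have hγq : γ ^ q = b / a := by rw [hγ, div_pow, pow_q_pow_q hF, haq]
    set d := c - b * b ^ q / a with hd
    have hdq : d ^ q = d := by
      rw [hd, sub_pow_q hF, div_pow, mul_pow, pow_q_pow_q hF, haq, hcq, mul_comm]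
    have hH : ∀ α : F, hermForm n F q (α • x + (1 : F) • y) (α • x + (1 : F) • y) =
        a * ((α + γ) * (α + γ) ^ q) + d := by
      intro α
      rw [hexp, add_pow_q hF, hγq, hγ, hd]
      field_simp
      ring
    by_cases hd0 : d = 0
    · refine ⟨-γ, 1, Or.inr one_ne_zero, ?_⟩
      rw [hH, hd0, neg_add_cancel, zero_mul, mul_zero, add_zero]
    · set r := -d / a with hr
      have hr0 : r ≠ 0 := div_ne_zero (neg_ne_zero.mpr hd0) ha0
      have hrq : r ^ q = r := by rw [hr, div_pow, neg_pow_q hF, hdq, haq]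
      obtain ⟨l, hl⟩ := exists_norm hF hr0 hrq
      refine ⟨l - γ, 1, Or.inr one_ne_zero, ?_⟩
      rw [hH, sub_add_cancel, hl, hr]
      field_simp
      ring

/-- **NOT7U**: `SU_n(q)` is not contained in a tensor-wreath subgroup. -/
theorem not_le_tensorWreathSubgroup_SU (q : ℕ) (hF : Fintype.card F = q ^ 2) (m t : ℕ)
    (hm : 2 ≤ m) (ht : 2 ≤ t) (e : Fin n ≃ (Fin t → Fin m)) (P : GL (Fin n) F) :
    ¬ GU n F q ⊓ specialLinear (Fin n) F ≤ tensorWreathSubgroup m t e P := by
  intro hle
  haveI : Fact (Fintype.card F = q ^ 2) := ⟨hF⟩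
  let Φ : ((Fin t → Fin m) → F) →ₗ[F] (Fin n → F) :=
    (Matrix.toLin' (P : Matrix (Fin n) (Fin n) F)).comp (LinearMap.funLeft F F e)
  have hΦ : ∀ z, Φ z = (P : Matrix (Fin n) (Fin n) F) *ᵥ (z ∘ e) := fun z => by
    show Matrix.toLin' (P : Matrix (Fin n) (Fin n) F) (LinearMap.funLeft F F e z) = _
    rw [Matrix.toLin'_apply]
    rfl
  have hΦinj : ∀ z z', Φ z = Φ z' → z = z' := by
    intro z z' h
    rw [hΦ, hΦ] at h
    have h' := congrArg (fun v => ((P⁻¹ : GL (Fin n) F) : Matrix (Fin n) (Fin n) F) *ᵥ v) h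
    simp only [Matrix.mulVec_mulVec] at h'
    rw [← Units.val_mul, inv_mul_cancel, Units.val_one, Matrix.one_mulVec, Matrix.one_mulVec] at h'
    funext x
    have := congrFun h' (e.symm x)
    simpa using this
  -- transport of the invariance of decomposable vectors
  have htr : ∀ g ∈ tensorWreathSubgroup m t e P, ∀ v : Fin t → Fin m → F, ∃ w : Fin t → Fin m → F,
      (g : Matrix (Fin n) (Fin n) F) *ᵥ Φ (dec v) = Φ (dec w) := by
    intro g hg v
    unfold tensorWreathSubgroup at hg
    rw [Subgroup.mem_map_equiv, Subgroup.mem_map_equiv] at hg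
    set g₀ := (glReindex e.symm).symm ((MulAut.conj P).symm g) with hg₀
    obtain ⟨w, hw⟩ := (presDec_of_mem hg).1 v
    refine ⟨w, ?_⟩
    have hgeq : g = MulAut.conj P (glReindex e.symm g₀) := by
      rw [hg₀, MulEquiv.apply_symm_apply, MulEquiv.apply_symm_apply]
    have hval : (g : Matrix (Fin n) (Fin n) F) = (P : Matrix (Fin n) (Fin n) F) *
        (Matrix.reindex e.symm e.symm (g₀ : Matrix (Fin t → Fin m) (Fin t → Fin m) F)) *
        ((P⁻¹ : GL (Fin n) F) : Matrix (Fin n) (Fin n) F) := by
      rw [hgeq]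
      rfl
    rw [hval, hΦ, hΦ, Matrix.mulVec_mulVec, Matrix.mul_assoc, Matrix.mul_assoc, ← Units.val_mul, inv_mul_cancel,
      Units.val_one, Matrix.mul_one, ← Matrix.mulVec_mulVec]
    congr 1
    rw [Matrix.reindex_apply, Matrix.submatrix_mulVec_equiv, ← hw]
    have h1 : (dec v ∘ ⇑e) ∘ ⇑e.symm.symm.symm = dec v := by
      funext x
      simp
    rw [h1]
    rfl
  -- the isotropic decomposable vector
  let i₀ : Fin t := ⟨0, by omega⟩
  let i₁ : Fin t := ⟨1, by omega⟩
  have h01 : i₀ ≠ i₁ := by
    intro h; have := congrArg Fin.val h; simp [i₀, i₁] at this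
  let j₀ : Fin m := ⟨0, by omega⟩
  let j₁ : Fin m := ⟨1, by omega⟩
  have hj01 : j₀ ≠ j₁ := by
    intro h; have := congrArg Fin.val h; simp [j₀, j₁] at this
  let a0 : Fin t → Fin m → F := fun _ => Pi.single j₀ 1
  obtain ⟨α, β, hαβ, hiso⟩ := exists_isotropic_pair q hF (Φ (dec a0))
    (Φ (dec (Function.update a0 i₀ (Pi.single j₁ 1))))
  set a : Fin t → Fin m → F := Function.update a0 i₀ (α • Pi.single j₀ 1 + β • Pi.single j₁ 1) with ha_def
  have hpa : Φ (dec a) = α • Φ (dec a0) + β • Φ (dec (Function.update a0 i₀ (Pi.single j₁ 1))) := by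
    rw [ha_def, dec_update_add, dec_update_smul, dec_update_smul, map_add, map_smul, map_smul]
    have hup : Function.update a0 i₀ (Pi.single j₀ 1) = a0 := Function.update_eq_self i₀ a0
    rw [hup]
  set p := Φ (dec a) with hp_def
  have hp : hermForm n F q p p = 0 := by rw [hpa]; exact hiso
  have ha : ∀ i, a i ≠ 0 := by
    intro i
    by_cases hi : i = i₀
    · rw [hi, ha_def, Function.update_self]
      intro h
      have e0 := congrFun h j₀
      have e1 := congrFun h j₁
      simp only [Pi.add_apply, Pi.smul_apply, Pi.single_eq_same, Pi.single_eq_of_ne hj01,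
        Pi.single_eq_of_ne hj01.symm, smul_eq_mul, mul_one, mul_zero, add_zero, zero_add,
        Pi.zero_apply] at e0 e1
      rcases hαβ with h' | h'
      · exact h' e0
      · exact h' e1
    · rw [ha_def, Function.update_of_ne hi]
      intro h
      have := congrFun h j₀
      simp [a0] at this
  have hp0 : p ≠ 0 := by
    intro h
    apply dec_ne_zero ha
    apply hΦinj
    rw [map_zero]
    exact h
  -- the functional `h(·, p)`
  let ψ : ((Fin t → Fin m) → F) →ₗ[F] F :=
    { toFun := fun z => hermForm n F q (Φ z) p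
      map_add' := fun z z' => by rw [map_add, hermForm_add_left]
      map_smul' := fun k z => by rw [map_smul, hermForm_smul_left, RingHom.id_apply, smul_eq_mul] }
  have hψ : ∀ z, ψ z = hermForm n F q (Φ z) p := fun z => rfl
  obtain ⟨x₀, hx₀⟩ : ∃ x₀ : Fin t → Fin m, ψ (Pi.single x₀ 1) ≠ 0 := by
    by_contra hcon
    push Not at hcon
    obtain ⟨j, hj⟩ : ∃ j, p j ≠ 0 := by
      by_contra h
      push Not at h
      exact hp0 (funext h)
    let z₀ : (Fin t → Fin m) → F :=
      fun x => (((P⁻¹ : GL (Fin n) F) : Matrix (Fin n) (Fin n) F) *ᵥ Pi.single j 1) (e.symm x)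
    have hΦz : Φ z₀ = Pi.single j 1 := by
      rw [hΦ]
      have : z₀ ∘ e = ((P⁻¹ : GL (Fin n) F) : Matrix (Fin n) (Fin n) F) *ᵥ Pi.single j 1 := by
        funext i
        simp [z₀]
      rw [this, Matrix.mulVec_mulVec, ← Units.val_mul, mul_inv_cancel, Units.val_one, Matrix.one_mulVec]
    have h1 : ψ z₀ = p j ^ q := by
      rw [hψ, hΦz]
      unfold hermForm
      rw [Finset.sum_eq_single j]
      · rw [Pi.single_eq_same, one_mul]
      · intro i _ hi
        rw [Pi.single_eq_of_ne hi, zero_mul]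
      · intro h; exact absurd (Finset.mem_univ j) h
    have h2 : ψ z₀ = 0 := by
      rw [LinearMap.pi_apply_eq_sum_univ ψ z₀]
      apply Finset.sum_eq_zero
      intro x _
      have : (fun y : Fin t → Fin m => if x = y then (1 : F) else 0) = Pi.single x 1 := by
        funext y
        rw [Pi.single_apply]
        by_cases h : x = y
        · rw [if_pos h, if_pos h.symm]
        · rw [if_neg h, if_neg (Ne.symm h)]
      rw [this, hcon x, smul_zero]
    rw [h1] at h2
    exact hj (pow_eq_zero_iff (by have := one_le_q hF; omega) |>.mp h2)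
  let c0 : Fin t → Fin m → F := fun i => Pi.single (x₀ i) 1
  have hc0 : ψ (dec c0) ≠ 0 := by
    rw [← single_eq_dec]
    exact hx₀
  obtain ⟨c₀', hc₀', h1⟩ := exists_generic_slot hm ψ c0 hc0 i₀ (ha i₀)
  obtain ⟨c₁', hc₁', h2⟩ := exists_generic_slot hm ψ (Function.update c0 i₀ c₀') h1 i₁ (ha i₁)
  set c : Fin t → Fin m → F := Function.update (Function.update c0 i₀ c₀') i₁ c₁' with hc_def
  have hci₀ : c i₀ = c₀' := by rw [hc_def, Function.update_of_ne h01, Function.update_self]
  have hci₁ : c i₁ = c₁' := by rw [hc_def, Function.update_self]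
  have hc : ∀ i, c i ≠ 0 := by
    intro i hi
    apply h2
    rw [dec_eq_zero_of_zero c i hi, map_zero]
  -- the transvection
  obtain ⟨s, hs0, hs⟩ := exists_tz_ne_zero (F := F) (q := q)
  have hgmem := hle (toGL_mem (TU q p s))
  obtain ⟨w, hw⟩ := htr _ hgmem c
  have hact : ((toGL n F q (TU q p s) : GL (Fin n) F) : Matrix (Fin n) (Fin n) F) *ᵥ Φ (dec c) =
      Φ (dec c) + (s * hermForm n F q (Φ (dec c)) p) • p := by
    change mt (TU q p s) *ᵥ Φ (dec c) = _
    exact TU_mulVec hp hs _
  rw [hact] at hw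
  have hfin : dec c + (s * ψ (dec c)) • dec a = dec w := by
    apply hΦinj
    rw [map_add, map_smul, hψ]
    exact hw
  refine add_smul_ne_dec h01 c a hc ha ?_ ?_ (mul_ne_zero hs0 h2) w hfin
  · rw [hci₀]; exact hc₀'
  · rw [hci₁]; exact hc₁'

end Cfsg.Agent.Helper7.AschPPU
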