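import Mathlib
import Cfsg.Prelude.Def_GeometricClasses
import Cfsg.Agent.Helper7.AschPPUNotB
import Cfsg.Agent.Helper7.AschNotSpA

/-!
# ASCH-PP-Sp piece N7 (helper7): `Sp_{2m}(F)` is not contained in a tensor-wreath subgroup

Every vector is isotropic for the symplectic form; the symplectic transvection with centre a decomposable vector
`p` maps a decomposable `s`, non-parallel to `p` in two slots and not perpendicular to `p`, to `s + λ p`, which is
not decomposable, while the elements of a tensor-wreath subgroup preserve the set of decomposable vectors.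
-/

set_option autoImplicit false

namespace Cfsg.Agent.Helper7.AschSpW

open Cfsg Cfsg.Geo Matrix Cfsg.Agent.Helper7.AschPP Cfsg.Agent.Helper7.AschPPU
open Cfsg.Agent.Helper7.Symp Cfsg.Agent.S5645
open scoped MatrixGroups Matrix

variable {m : ℕ} {F : Type*} [Field F]

/-- **N7**: `Sp_{2m}(F)` is not contained in a tensor-wreath subgroup. -/
theorem not_le_tensorWreathSubgroup_Sp [Fintype F] (hm : 2 ≤ m) {k t : ℕ} (hk : 2 ≤ k) (ht : 2 ≤ t)
    (e : (Fin m ⊕ Fin m) ≃ (Fin t → Fin k)) (P : GL (Fin m ⊕ Fin m) F) :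
    ¬ spGL m F ≤ tensorWreathSubgroup k t e P := by
  intro hle
  let Φ : ((Fin t → Fin k) → F) →ₗ[F] (Fin m ⊕ Fin m → F) :=
    (Matrix.toLin' (P : Matrix (Fin m ⊕ Fin m) (Fin m ⊕ Fin m) F)).comp (LinearMap.funLeft F F e)
  have hΦ : ∀ z, Φ z = (P : Matrix (Fin m ⊕ Fin m) (Fin m ⊕ Fin m) F) *ᵥ (z ∘ e) := fun z => by
    show Matrix.toLin' (P : Matrix (Fin m ⊕ Fin m) (Fin m ⊕ Fin m) F) (LinearMap.funLeft F F e z) = _
    rw [Matrix.toLin'_apply]
    rfl
  have hΦinj : ∀ z z', Φ z = Φ z' → z = z' := by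
    intro z z' h
    rw [hΦ, hΦ] at h
    have h' := congrArg (fun v => ((P⁻¹ : GL (Fin m ⊕ Fin m) F) :
      Matrix (Fin m ⊕ Fin m) (Fin m ⊕ Fin m) F) *ᵥ v) h
    simp only [Matrix.mulVec_mulVec] at h'
    rw [← Units.val_mul, inv_mul_cancel, Units.val_one, Matrix.one_mulVec, Matrix.one_mulVec] at h'
    funext x
    have := congrFun h' (e.symm x)
    simpa using this
  -- transport of the invariance of decomposable vectors
  have htr : ∀ g ∈ tensorWreathSubgroup k t e P, ∀ v : Fin t → Fin k → F, ∃ w : Fin t → Fin k → F,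
      (g : Matrix (Fin m ⊕ Fin m) (Fin m ⊕ Fin m) F) *ᵥ Φ (dec v) = Φ (dec w) := by
    intro g hg v
    unfold tensorWreathSubgroup at hg
    rw [Subgroup.mem_map_equiv, Subgroup.mem_map_equiv] at hg
    set g₀ := (glReindex e.symm).symm ((MulAut.conj P).symm g) with hg₀
    obtain ⟨w, hw⟩ := (presDec_of_mem hg).1 v
    refine ⟨w, ?_⟩
    have hgeq : g = MulAut.conj P (glReindex e.symm g₀) := by
      rw [hg₀, MulEquiv.apply_symm_apply, MulEquiv.apply_symm_apply]
    have hval : (g : Matrix (Fin m ⊕ Fin m) (Fin m ⊕ Fin m) F) =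
        (P : Matrix (Fin m ⊕ Fin m) (Fin m ⊕ Fin m) F) *
        (Matrix.reindex e.symm e.symm (g₀ : Matrix (Fin t → Fin k) (Fin t → Fin k) F)) *
        ((P⁻¹ : GL (Fin m ⊕ Fin m) F) : Matrix (Fin m ⊕ Fin m) (Fin m ⊕ Fin m) F) := by
      rw [hgeq]
      rfl
    rw [hval, hΦ, hΦ, Matrix.mulVec_mulVec, Matrix.mul_assoc, Matrix.mul_assoc, ← Units.val_mul,
      inv_mul_cancel, Units.val_one, Matrix.mul_one, ← Matrix.mulVec_mulVec]
    congr 1
    rw [Matrix.reindex_apply, Matrix.submatrix_mulVec_equiv, ← hw]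
    have h1 : (dec v ∘ ⇑e) ∘ ⇑e.symm.symm.symm = dec v := by
      funext x
      simp
    rw [h1]
    rfl
  -- the decomposable centre
  let i₀ : Fin t := ⟨0, by omega⟩
  let i₁ : Fin t := ⟨1, by omega⟩
  have h01 : i₀ ≠ i₁ := by
    intro h; have := congrArg Fin.val h; simp [i₀, i₁] at this
  let j₀ : Fin k := ⟨0, by omega⟩
  let a : Fin t → Fin k → F := fun _ => Pi.single j₀ 1
  have ha : ∀ i, a i ≠ 0 := by
    intro i h
    have := congrFun h j₀
    simp [a] at this
  set p := Φ (dec a) with hp_def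
  have hp0 : p ≠ 0 := by
    intro h
    apply dec_ne_zero ha
    apply hΦinj
    rw [map_zero]
    exact h
  -- the functional `f(·, p)`
  let ψ : ((Fin t → Fin k) → F) →ₗ[F] F :=
    { toFun := fun z => sympForm m F (Φ z) p
      map_add' := fun z z' => by rw [map_add, sympForm_add_left]
      map_smul' := fun c z => by rw [map_smul, sympForm_smul_left, RingHom.id_apply, smul_eq_mul] }
  have hψ : ∀ z, ψ z = sympForm m F (Φ z) p := fun z => rfl
  obtain ⟨x₀, hx₀⟩ : ∃ x₀ : Fin t → Fin k, ψ (Pi.single x₀ 1) ≠ 0 := by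
    by_contra hcon
    push Not at hcon
    obtain ⟨y, hy⟩ := Cfsg.Agent.Helper7.Symp.exists_sympForm_ne_zero hp0
    let z₀ : (Fin t → Fin k) → F :=
      fun x => (((P⁻¹ : GL (Fin m ⊕ Fin m) F) : Matrix (Fin m ⊕ Fin m) (Fin m ⊕ Fin m) F) *ᵥ y)
        (e.symm x)
    have hΦz : Φ z₀ = y := by
      rw [hΦ]
      have : z₀ ∘ e = ((P⁻¹ : GL (Fin m ⊕ Fin m) F) :
          Matrix (Fin m ⊕ Fin m) (Fin m ⊕ Fin m) F) *ᵥ y := by
        funext i
        simp [z₀]
      rw [this, Matrix.mulVec_mulVec, ← Units.val_mul, mul_inv_cancel, Units.val_one,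
        Matrix.one_mulVec]
    have h1 : ψ z₀ ≠ 0 := by
      rw [hψ, hΦz, sympForm_swap]
      exact neg_ne_zero.mpr hy
    apply h1
    rw [LinearMap.pi_apply_eq_sum_univ ψ z₀]
    apply Finset.sum_eq_zero
    intro x _
    have : (fun y : Fin t → Fin k => if x = y then (1 : F) else 0) = Pi.single x 1 := by
      funext y
      rw [Pi.single_apply]
      by_cases h : x = y
      · rw [if_pos h, if_pos h.symm]
      · rw [if_neg h, if_neg (Ne.symm h)]
    rw [this, hcon x, smul_zero]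
  let c0 : Fin t → Fin k → F := fun i => Pi.single (x₀ i) 1
  have hc0 : ψ (dec c0) ≠ 0 := by
    rw [← single_eq_dec]
    exact hx₀
  obtain ⟨c₀', hc₀', h1⟩ := exists_generic_slot hk ψ c0 hc0 i₀ (ha i₀)
  obtain ⟨c₁', hc₁', h2⟩ := exists_generic_slot hk ψ (Function.update c0 i₀ c₀') h1 i₁ (ha i₁)
  set c : Fin t → Fin k → F := Function.update (Function.update c0 i₀ c₀') i₁ c₁' with hc_def
  have hci₀ : c i₀ = c₀' := by rw [hc_def, Function.update_of_ne h01, Function.update_self]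
  have hci₁ : c i₁ = c₁' := by rw [hc_def, Function.update_self]
  have hc : ∀ i, c i ≠ 0 := by
    intro i hi
    apply h2
    rw [dec_eq_zero_of_zero c i hi, map_zero]
  -- the transvection
  have hgmem := hle (toGL_mem (T p 1))
  obtain ⟨w, hw⟩ := htr _ hgmem c
  have hact : ((toGL m F (T p 1) : GL (Fin m ⊕ Fin m) F) :
      Matrix (Fin m ⊕ Fin m) (Fin m ⊕ Fin m) F) *ᵥ Φ (dec c) =
      Φ (dec c) + (1 * sympForm m F (Φ (dec c)) p) • p := T_mulVec p 1 _
  rw [hact] at hw
  have hfin : dec c + (1 * ψ (dec c)) • dec a = dec w := by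
    apply hΦinj
    rw [map_add, map_smul, hψ]
    exact hw
  refine add_smul_ne_dec h01 c a hc ha ?_ ?_ (mul_ne_zero one_ne_zero h2) w hfin
  · rw [hci₀]; exact hc₀'
  · rw [hci₁]; exact hc₁'

end Cfsg.Agent.Helper7.AschSpW
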