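import Mathlib
import Cfsg.Prelude.Def_GeometricClasses
import Cfsg.Agent.Helper4.AschTIE
import Cfsg.Agent.Helper6.AschGenT3

/-!
# A perfect subgroup of a tensor-wreath group with two factors consists of pure tensors (helper7)

`tensorWreathStandard d 2 F = T₀ ∪ T₀ σ₀` with `T₀` the pure tensors and `σ₀` the swap of the factors, so its
commutator subgroup lies in `T₀`; hence a perfect subgroup of `tensorWreathSubgroup d 2 e P` lies in
`tensorProductSubgroup d d e' P`.
-/

set_option autoImplicit false

namespace Cfsg.Agent.Helper7.AschWr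

open Cfsg Cfsg.Geo Cfsg.Agent.Helper4.AschTI Cfsg.Agent.Helper6.AschGen Cfsg.Agent.Helper9.AschComp
open scoped MatrixGroups Matrix Kronecker commutatorElement

variable {F : Type*} [Field F] {d : ℕ}

/-- the pure tensors with two factors, as a subgroup -/
def pureSub (d : ℕ) (F : Type*) [Field F] : Subgroup (GL (Fin 2 → Fin d) F) where
  carrier := {g | ∃ a : Fin 2 → GL (Fin d) F, g = ptensGL a}
  mul_mem' := by
    rintro _ _ ⟨a, rfl⟩ ⟨b, rfl⟩
    refine ⟨fun i => a i * b i, ?_⟩
    apply Units.ext
    rw [Units.val_mul, ptensGL_val, ptensGL_val, ptensGL_val, ptens_mul]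
    rfl
  one_mem' := by
    refine ⟨fun _ => 1, ?_⟩
    apply Units.ext
    rw [ptensGL_val, Units.val_one]
    exact ptens_one.symm
  inv_mem' := by
    rintro _ ⟨a, rfl⟩
    refine ⟨fun i => (a i)⁻¹, ?_⟩
    apply Units.ext
    rw [ptensGL_inv_val, ptensGL_val]

theorem mem_pureSub_of_isPureTensor {g : GL (Fin 2 → Fin d) F} (hg : IsPureTensor d 2 g) :
    g ∈ pureSub d F := by
  obtain ⟨gs, hgs⟩ := hg
  refine ⟨gs, ?_⟩
  apply Units.ext
  ext x y
  rw [hgs, ptensGL_val, ptens_apply]

/-- the swap of the two factors -/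
def swapGL (d : ℕ) (F : Type*) [Field F] : GL (Fin 2 → Fin d) F := fpermGL (Equiv.swap 0 1)

theorem swapGL_mul_self : swapGL d F * swapGL d F = 1 := by
  apply Units.ext
  show (fperm (Equiv.swap 0 1) : Matrix (Fin 2 → Fin d) (Fin 2 → Fin d) F) * fperm (Equiv.swap 0 1) = 1
  rw [fperm_mul, Equiv.swap_mul_self, fperm_one]

theorem swapGL_inv : (swapGL d F)⁻¹ = swapGL d F := inv_eq_of_mul_eq_one_right swapGL_mul_self

theorem swap_cancel (z : GL (Fin 2 → Fin d) F) : swapGL d F * (swapGL d F * z) = z := by
  rw [← mul_assoc, swapGL_mul_self, one_mul]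

/-- conjugation by the swap preserves the pure tensors -/
theorem swap_conj_mem {g : GL (Fin 2 → Fin d) F} (hg : g ∈ pureSub d F) :
    swapGL d F * g * swapGL d F ∈ pureSub d F := by
  obtain ⟨a, rfl⟩ := hg
  refine ⟨fun i => a (Equiv.swap 0 1 i), ?_⟩
  apply Units.ext
  ext x y
  show (((fperm (Equiv.swap 0 1) : Matrix (Fin 2 → Fin d) (Fin 2 → Fin d) F) *
    (ptens (fun i => (a i : Matrix (Fin d) (Fin d) F)) : Matrix (Fin 2 → Fin d) (Fin 2 → Fin d) F)) *
    (fperm (Equiv.swap 0 1) : Matrix (Fin 2 → Fin d) (Fin 2 → Fin d) F)) x y = _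
  rw [mul_fperm_apply, fperm_mul_apply, ptens_apply, ptensGL_val, ptens_apply, Fin.prod_univ_two,
    Fin.prod_univ_two]
  simp only [Function.comp_apply, Equiv.symm_swap, Equiv.swap_apply_left, Equiv.swap_apply_right]
  rw [mul_comm]

theorem perm_fin_two (σ : Equiv.Perm (Fin 2)) : σ = 1 ∨ σ = Equiv.swap 0 1 := by
  revert σ
  decide

/-- the dichotomy: a pure tensor, or a pure tensor times the swap -/
theorem mem_or_mul_swap_mem {g : GL (Fin 2 → Fin d) F} (hg : g ∈ tensorWreathStandard d 2 F) :
    g ∈ pureSub d F ∨ g * swapGL d F ∈ pureSub d F := by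
  unfold tensorWreathStandard at hg
  induction hg using Subgroup.closure_induction with
  | mem x hx =>
    rcases hx with hx | ⟨σ, hσ⟩
    · exact Or.inl (mem_pureSub_of_isPureTensor hx)
    · have hx' : x = fpermGL σ := by
        apply Units.ext
        ext a b
        rw [hσ]
        rfl
      rcases perm_fin_two σ with rfl | rfl
      · left
        rw [hx']
        have : (fpermGL 1 : GL (Fin 2 → Fin d) F) = 1 := by
          apply Units.ext
          exact fperm_one
        rw [this]
        exact Subgroup.one_mem _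
      · right
        rw [hx']
        show swapGL d F * swapGL d F ∈ _
        rw [swapGL_mul_self]
        exact Subgroup.one_mem _
  | one => exact Or.inl (Subgroup.one_mem _)
  | mul x y _ _ hx hy =>
    rcases hx with hx | hx <;> rcases hy with hy | hy
    · exact Or.inl (Subgroup.mul_mem _ hx hy)
    · right
      rw [mul_assoc]
      exact Subgroup.mul_mem _ hx hy
    · right
      have : x * y * swapGL d F = (x * swapGL d F) * (swapGL d F * y * swapGL d F) := by
        simp only [mul_assoc, swap_cancel]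
      rw [this]
      exact Subgroup.mul_mem _ hx (swap_conj_mem hy)
    · left
      have : x * y = (x * swapGL d F) * (swapGL d F * (y * swapGL d F) * swapGL d F) := by
        simp only [mul_assoc, swap_cancel, swapGL_mul_self, mul_one]
      rw [this]
      exact Subgroup.mul_mem _ hx (swap_conj_mem hy)
  | inv x _ hx =>
    rcases hx with hx | hx
    · exact Or.inl (Subgroup.inv_mem _ hx)
    · right
      have h1 : swapGL d F * x⁻¹ ∈ pureSub d F := by
        have := Subgroup.inv_mem _ hx
        rwa [mul_inv_rev, swapGL_inv] at this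
      have : x⁻¹ * swapGL d F = swapGL d F * (swapGL d F * x⁻¹) * swapGL d F := by
        simp only [mul_assoc, swap_cancel]
      rw [this]
      exact swap_conj_mem h1

/-- the commutator subgroup of the tensor-wreath group with two factors consists of pure tensors -/
theorem commutator_le_pureSub :
    ⁅tensorWreathStandard d 2 F, tensorWreathStandard d 2 F⁆ ≤ pureSub d F := by
  rw [Subgroup.commutator_le]
  intro x hx y hy
  rw [commutatorElement_def]
  rcases mem_or_mul_swap_mem hx with hx | hx <;> rcases mem_or_mul_swap_mem hy with hy | hy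
  · exact Subgroup.mul_mem _ (Subgroup.mul_mem _ (Subgroup.mul_mem _ hx hy) (Subgroup.inv_mem _ hx))
      (Subgroup.inv_mem _ hy)
  · -- y = b σ₀
    set b := y * swapGL d F with hb
    have hy' : y = b * swapGL d F := by rw [hb, mul_assoc, swapGL_mul_self, mul_one]
    have : x * y * x⁻¹ * y⁻¹ = x * b * (swapGL d F * x⁻¹ * swapGL d F) * b⁻¹ := by
      rw [hy']
      simp only [mul_inv_rev, swapGL_inv, mul_assoc]
    rw [this]
    exact Subgroup.mul_mem _ (Subgroup.mul_mem _ (Subgroup.mul_mem _ hx hy)
      (swap_conj_mem (Subgroup.inv_mem _ hx))) (Subgroup.inv_mem _ hy)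
  · set a := x * swapGL d F with ha
    have hx' : x = a * swapGL d F := by rw [ha, mul_assoc, swapGL_mul_self, mul_one]
    have : x * y * x⁻¹ * y⁻¹ = a * (swapGL d F * y * swapGL d F) * a⁻¹ * y⁻¹ := by
      rw [hx']
      simp only [mul_inv_rev, swapGL_inv, mul_assoc]
    rw [this]
    exact Subgroup.mul_mem _ (Subgroup.mul_mem _ (Subgroup.mul_mem _ hx (swap_conj_mem hy))
      (Subgroup.inv_mem _ hx)) (Subgroup.inv_mem _ hy)
  · set a := x * swapGL d F with ha
    set b := y * swapGL d F with hb
    have hx' : x = a * swapGL d F := by rw [ha, mul_assoc, swapGL_mul_self, mul_one]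
    have hy' : y = b * swapGL d F := by rw [hb, mul_assoc, swapGL_mul_self, mul_one]
    have : x * y * x⁻¹ * y⁻¹ = a * (swapGL d F * (b * a⁻¹) * swapGL d F) * b⁻¹ := by
      rw [hx', hy']
      simp only [mul_inv_rev, swapGL_inv, mul_assoc, swap_cancel]
    rw [this]
    exact Subgroup.mul_mem _ (Subgroup.mul_mem _ hx
      (swap_conj_mem (Subgroup.mul_mem _ hy (Subgroup.inv_mem _ hx)))) (Subgroup.inv_mem _ hy)

/-- a pure tensor with two factors, reindexed, is a Kronecker product -/
theorem reindex_pure_mem {g : GL (Fin 2 → Fin d) F} (hg : g ∈ pureSub d F) :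
    glReindex (pairEquiv d).symm g ∈ kroneckerSubgroup d d F := by
  obtain ⟨a, rfl⟩ := hg
  refine ⟨a 0, a 1, ?_⟩
  ext ⟨i, j⟩ ⟨i', j'⟩
  rw [glReindex_apply, ptensGL_val, ptens_apply, Fin.prod_univ_two, Matrix.kroneckerMap_apply]
  rfl

/-- **a perfect subgroup of a tensor-wreath group with two factors lies in a tensor product subgroup.** -/
theorem le_tensorProduct_of_perfect {ι : Type} [Fintype ι] [DecidableEq ι] (G : Subgroup (GL ι F))
    (hperf : ⁅G, G⁆ = G) (e : ι ≃ (Fin 2 → Fin d)) (P : GL ι F)
    (hle : G ≤ tensorWreathSubgroup d 2 e P) :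
    G ≤ tensorProductSubgroup d d (e.trans (pairEquiv d).symm) P := by
  have h1 : G ≤ ((pureSub d F).map (glReindex e.symm).toMonoidHom).map (MulAut.conj P).toMonoidHom := by
    calc G = ⁅G, G⁆ := hperf.symm
      _ ≤ ⁅tensorWreathSubgroup d 2 e P, tensorWreathSubgroup d 2 e P⁆ := Subgroup.commutator_mono hle hle
      _ = ((⁅tensorWreathStandard d 2 F, tensorWreathStandard d 2 F⁆).map
            (glReindex e.symm).toMonoidHom).map (MulAut.conj P).toMonoidHom := by
          unfold tensorWreathSubgroup
          rw [← Subgroup.map_commutator, ← Subgroup.map_commutator]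
      _ ≤ _ := Subgroup.map_mono (Subgroup.map_mono commutator_le_pureSub)
  refine h1.trans ?_
  unfold tensorProductSubgroup
  apply Subgroup.map_mono
  rintro _ ⟨g, hg, rfl⟩
  refine ⟨glReindex (pairEquiv d).symm g, reindex_pure_mem hg, ?_⟩
  show glReindex (e.trans (pairEquiv d).symm).symm (glReindex (pairEquiv d).symm g) = glReindex e.symm g
  apply Units.ext
  ext i j
  rw [glReindex_apply, glReindex_apply, glReindex_apply]
  simp

end Cfsg.Agent.Helper7.AschWr
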