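import Mathlib
import Cfsg.Prelude.Def_GeometricClasses
import Cfsg.Agent.Helper7.AschOmA
import Cfsg.Agent.Helper7.AschWreathTwo
import Cfsg.Agent.Helper8.AschOmM5d

/-!
# `Ω(Q)` is perfect and is not contained in a tensor-wreath subgroup with two factors (`n ≥ 8`, any characteristic)
-/

set_option autoImplicit false
set_option linter.unusedSectionVars false

namespace Cfsg.Agent.Helper7.AschOm

open Module Cfsg Cfsg.Geo
open Cfsg.Agent.Helper8.QuadForm Cfsg.Agent.Helper8.SiegelGroup Cfsg.Agent.Helper7.OrthMax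
  Cfsg.Agent.Lead.AschOm
open scoped MatrixGroups Matrix commutatorElement

variable {F : Type*} [Field F] [Fintype F]

/-- `Ω(Q)` is perfect (dimension at least five). -/
theorem omegaGL_perfect {ι : Type} [Fintype ι] [DecidableEq ι] (h5 : 5 ≤ Fintype.card ι)
    (Q : (ι → F) → F) (hQ : IsNondegenerateQuadraticForm Q) : ⁅omegaGL Q, omegaGL Q⁆ = omegaGL Q := by
  apply le_antisymm
  · rw [Subgroup.commutator_le]
    intro x hx y hy
    rw [commutatorElement_def]
    exact Subgroup.mul_mem _ (Subgroup.mul_mem _ (Subgroup.mul_mem _ hx hy) (Subgroup.inv_mem _ hx))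
      (Subgroup.inv_mem _ hy)
  · have hfin : 5 ≤ finrank F (ι → F) := by rw [Module.finrank_fintype_fun_eq_card]; exact h5
    have hΩ : omegaGL Q = (SG (toQF Q hQ)).map (toGL (toQF Q hQ)) := by
      apply le_antisymm
      · intro g hg
        obtain ⟨k, hk, rfl⟩ := exists_SG_of_mem_omegaGL h5 Q hQ hg
        exact ⟨k, hk, rfl⟩
      · rintro _ ⟨k, hk, rfl⟩
        exact toGL_mem_omegaGL (toQF Q hQ) (toQF_polarBilin_nondegenerate Q hQ) h5 hk
    rw [hΩ, ← Subgroup.map_commutator]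
    exact Subgroup.map_mono (SG_le_commutator (toQF Q hQ) (toQF_nondeg Q hQ) hfin)

/-- `Ω(Q)` is not contained in a tensor-wreath subgroup with two factors. -/
theorem not_le_tensorWreathSubgroup_two_omega_gen {n : ℕ} (hn : 8 ≤ n) (Q : (Fin n → F) → F)
    (hQ : IsNondegenerateQuadraticForm Q) (d : ℕ) (hd : 2 ≤ d) (e : Fin n ≃ (Fin 2 → Fin d))
    (P : GL (Fin n) F) : ¬ omegaGL Q ≤ tensorWreathSubgroup d 2 e P := by
  intro hle
  have h5 : 5 ≤ Fintype.card (Fin n) := by rw [Fintype.card_fin]; omega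
  exact Cfsg.Agent.Helper8.AschOm.not_le_tensorProductSubgroup_omega_gen hn Q hQ d d hd hd _ P
    (Cfsg.Agent.Helper7.AschWr.le_tensorProduct_of_perfect (omegaGL Q) (omegaGL_perfect h5 Q hQ) e P hle)

end Cfsg.Agent.Helper7.AschOm

namespace Cfsg.Agent.Helper7.AschO9

open Cfsg Cfsg.Geo
open scoped MatrixGroups Matrix Kronecker commutatorElement

variable {F : Type*} [Field F]

/-- **N7** (helper2's stub for ASCH-Ω9, with `[Fintype F]`). -/
theorem not_le_tensorWreathSubgroup_omega_two [Fintype F] {n : ℕ} (hn : 8 ≤ n) (Q : (Fin n → F) → F)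
    (hQ : IsNondegenerateQuadraticForm Q) (m : ℕ) (hm : 2 ≤ m) (e : Fin n ≃ (Fin 2 → Fin m)) (P : GL (Fin n) F) :
    ¬ omegaGL Q ≤ tensorWreathSubgroup m 2 e P :=
  Cfsg.Agent.Helper7.AschOm.not_le_tensorWreathSubgroup_two_omega_gen hn Q hQ m hm e P

end Cfsg.Agent.Helper7.AschO9
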