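import Mathlib
import Cfsg.Prelude.Def_GeometricClasses

/-!
# ASCH-PP pieces G5a `field_cases` and G5b `exists_involution` (helper7): finite field arithmetic
-/

set_option autoImplicit false

namespace Cfsg.Agent.Helper7.AschPP

open Cfsg Cfsg.Geo

variable {F : Type*} [Field F]

/-- G5a: either `z ∣ q₁ - 1` for a proper subfield order `q₁`, or `F` is the minimal field for `z`. -/
theorem field_cases [Fintype F] (z : ℕ) (hz : z ∣ Fintype.card F - 1) :
    (∃ (τ : F →+* F) (q₁ m : ℕ), 2 ≤ m ∧ Fintype.card F = q₁ ^ m ∧ z ∣ q₁ - 1 ∧ ∀ x, τ x = x ^ q₁) ∨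
    (∃ p e : ℕ, IsMinimalFieldFor z p e F) := by
  obtain ⟨p, hchar⟩ := CharP.exists F
  haveI := hchar
  obtain ⟨e, hp, hcard⟩ := FiniteField.card F p
  haveI : Fact p.Prime := ⟨hp⟩
  by_cases hmin : ∀ d : ℕ, 0 < d → d < (e : ℕ) → ¬ z ∣ p ^ d - 1
  · right
    exact ⟨p, e, hp, hchar, hcard, by rw [← hcard]; exact hz, hmin⟩
  · left
    push Not at hmin
    obtain ⟨d, hd0, hde, hzd⟩ := hmin
    have hze : z ∣ p ^ (e : ℕ) - 1 := by rw [← hcard]; exact hz
    have hg : z ∣ p ^ Nat.gcd d e - 1 := by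
      rw [← Nat.pow_sub_one_gcd_pow_sub_one]
      exact Nat.dvd_gcd hzd hze
    set g := Nat.gcd d e with hgdef
    have hg0 : 0 < g := Nat.gcd_pos_of_pos_left _ hd0
    have hgd : g ≤ d := Nat.le_of_dvd hd0 (Nat.gcd_dvd_left d e)
    obtain ⟨m, hm⟩ : g ∣ (e : ℕ) := Nat.gcd_dvd_right d e
    refine ⟨iterateFrobenius F p g, p ^ g, m, ?_, ?_, hg, ?_⟩
    · by_contra hlt
      push Not at hlt
      have : m = 0 ∨ m = 1 := by omega
      rcases this with h | h
      · rw [h, mul_zero] at hm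
        omega
      · rw [h, mul_one] at hm
        omega
    · rw [hcard, hm, pow_mul]
    · intro x
      rw [iterateFrobenius_def]

/-- G5b: for even `e` the field has an involution `x ↦ x ^ q₀` with `z ∣ q₀ + 1`. -/
theorem exists_involution [Fintype F] {z p e : ℕ} (hmin : IsMinimalFieldFor z p e F) (he : Even e)
    (hz : z.Prime ∨ z = 4) : ∃ q₀ : ℕ, Fintype.card F = q₀ ^ 2 ∧ z ∣ q₀ + 1 := by
  obtain ⟨hp, _, hcard, hze, hd⟩ := hmin
  obtain ⟨k, hk⟩ := he
  have hk0 : 0 < k := by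
    by_contra h
    have hk00 : k = 0 := by omega
    rw [hk, hk00, add_zero, pow_zero] at hcard
    have := Fintype.one_lt_card (α := F)
    omega
  refine ⟨p ^ k, ?_, ?_⟩
  · rw [hcard, hk, ← two_mul, mul_comm, pow_mul]
  · have hnd : ¬ z ∣ p ^ k - 1 := hd k hk0 (by omega)
    have hq1 : 1 ≤ p ^ k := Nat.one_le_pow _ _ hp.pos
    have hfac : p ^ e - 1 = (p ^ k - 1) * (p ^ k + 1) := by
      rw [hk, pow_add]
      obtain ⟨a, ha⟩ : ∃ a, p ^ k = a + 1 := ⟨p ^ k - 1, by omega⟩
      rw [ha, Nat.add_sub_cancel]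
      have : (a + 1) * (a + 1) = a * (a + 1 + 1) + 1 := by ring
      omega
    rw [hfac] at hze
    rcases hz with hzp | hz4
    · rcases (Nat.Prime.dvd_mul hzp).mp hze with h | h
      · exact absurd h hnd
      · exact h
    · subst hz4
      set q := p ^ k with hq
      have h4 : (q - 1) * (q + 1) % 4 = 0 := Nat.mod_eq_zero_of_dvd hze
      have hnd' : (q - 1) % 4 ≠ 0 := fun h => hnd (Nat.dvd_of_mod_eq_zero h)
      rw [Nat.mul_mod] at h4
      apply Nat.dvd_of_mod_eq_zero
      have hcases : q % 4 = 0 ∨ q % 4 = 1 ∨ q % 4 = 2 ∨ q % 4 = 3 := by omega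
      rcases hcases with h | h | h | h
      · have e1 : (q - 1) % 4 = 3 := by omega
        have e2 : (q + 1) % 4 = 1 := by omega
        rw [e1, e2] at h4
        norm_num at h4
      · omega
      · have e1 : (q - 1) % 4 = 1 := by omega
        have e2 : (q + 1) % 4 = 3 := by omega
        rw [e1, e2] at h4
        norm_num at h4
      · omega

end Cfsg.Agent.Helper7.AschPP
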