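import Mathlib
import Cfsg.Prelude.Def_GeometricClasses

/-!
# Sp_4 (helper7): a perfect subgroup of a tensor-wreath group `GL_2 ≀ S_2` fixes a non-degenerate quadratic form

On `F^(Fin 2 → Fin 2)` (2 × 2 matrices) the determinant `Q₀` is multiplied by `det a · det b` under `a ⊗ b` and is fixed
by the swap of the two factors; so `tensorWreathSubgroup 2 2 e P ≤ quadSimilarityGroup Q` for the transported form, and
a perfect subgroup consists of isometries.
-/

set_option autoImplicit false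

namespace Cfsg.Agent.Helper7.AschSp4

open Cfsg Cfsg.Geo Matrix
open scoped MatrixGroups Matrix

variable {F : Type*} [Field F]

/-- the determinant form on `F^(Fin 2 → Fin 2)` -/
def Q0 (x : (Fin 2 → Fin 2) → F) : F := x ![0, 0] * x ![1, 1] - x ![0, 1] * x ![1, 0]

theorem sum_fin22 (f : (Fin 2 → Fin 2) → F) :
    ∑ y, f y = f ![0, 0] + f ![0, 1] + f ![1, 0] + f ![1, 1] := by
  rw [← (finTwoArrowEquiv (Fin 2)).symm.sum_comp, Fintype.sum_prod_type, Fin.sum_univ_two, Fin.sum_univ_two,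
    Fin.sum_univ_two]
  have h : ∀ a b : Fin 2, (finTwoArrowEquiv (Fin 2)).symm (a, b) = ![a, b] := fun a b => rfl
  rw [h, h, h, h]
  ring

theorem eq_cons (p : Fin 2 → Fin 2) : p = ![p 0, p 1] := by
  funext i
  fin_cases i <;> rfl

/-- a pure tensor multiplies `Q₀` by the product of the determinants -/
theorem Q0_pure (g : Matrix (Fin 2 → Fin 2) (Fin 2 → Fin 2) F) (gs : Fin 2 → Matrix (Fin 2) (Fin 2) F)
    (hgs : ∀ x y, g x y = ∏ i, gs i (x i) (y i)) (v : (Fin 2 → Fin 2) → F) :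
    Q0 (g *ᵥ v) = ((gs 0).det * (gs 1).det) * Q0 v := by
  have key : ∀ a b : Fin 2, (g *ᵥ v) ![a, b] =
      gs 0 a 0 * gs 1 b 0 * v ![0, 0] + gs 0 a 0 * gs 1 b 1 * v ![0, 1] +
        gs 0 a 1 * gs 1 b 0 * v ![1, 0] + gs 0 a 1 * gs 1 b 1 * v ![1, 1] := by
    intro a b
    simp only [Matrix.mulVec, dotProduct]
    rw [sum_fin22]
    simp only [hgs, Fin.prod_univ_two, Matrix.cons_val_zero, Matrix.cons_val_one]
  unfold Q0
  rw [key, key, key, key, Matrix.det_fin_two, Matrix.det_fin_two]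
  ring

/-- a factor permutation fixes `Q₀` -/
theorem Q0_perm (g : Matrix (Fin 2 → Fin 2) (Fin 2 → Fin 2) F) (σ : Equiv.Perm (Fin 2))
    (hσ : ∀ x y, g x y = if y = x ∘ σ then 1 else 0) (v : (Fin 2 → Fin 2) → F) :
    Q0 (g *ᵥ v) = Q0 v := by
  have key : ∀ p : Fin 2 → Fin 2, (g *ᵥ v) p = v (p ∘ σ) := by
    intro p
    simp only [Matrix.mulVec, dotProduct]
    rw [Finset.sum_eq_single (p ∘ σ)]
    · rw [hσ, if_pos rfl, one_mul]
    · intro y _ hy
      rw [hσ, if_neg hy, zero_mul]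
    · intro h
      exact absurd (Finset.mem_univ _) h
  have hcases : (σ 0 = 0 ∧ σ 1 = 1) ∨ (σ 0 = 1 ∧ σ 1 = 0) := by
    have hinj : σ 0 ≠ σ 1 := fun h => by
      have := σ.injective h
      exact absurd this (by decide)
    have h0 : σ 0 = 0 ∨ σ 0 = 1 := by
      have := (σ 0).2
      rcases Nat.lt_or_ge (σ 0).1 1 with h | h
      · left; exact Fin.ext (by omega)
      · right; exact Fin.ext (by simp; omega)
    have h1 : σ 1 = 0 ∨ σ 1 = 1 := by
      have := (σ 1).2
      rcases Nat.lt_or_ge (σ 1).1 1 with h | h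
      · left; exact Fin.ext (by omega)
      · right; exact Fin.ext (by simp; omega)
    rcases h0 with h0 | h0 <;> rcases h1 with h1 | h1
    · exact absurd (h0.trans h1.symm) hinj
    · exact Or.inl ⟨h0, h1⟩
    · exact Or.inr ⟨h0, h1⟩
    · exact absurd (h0.trans h1.symm) hinj
  have hcomp : ∀ a b : Fin 2, (![a, b] : Fin 2 → Fin 2) ∘ σ = ![(![a, b] : Fin 2 → Fin 2) (σ 0), (![a, b] : Fin 2 → Fin 2) (σ 1)] := by
    intro a b
    exact eq_cons _
  unfold Q0
  rw [key, key, key, key, hcomp, hcomp, hcomp, hcomp]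
  rcases hcases with ⟨h0, h1⟩ | ⟨h0, h1⟩
  · rw [h0, h1]
    simp only [Matrix.cons_val_zero, Matrix.cons_val_one]
  · rw [h0, h1]
    simp only [Matrix.cons_val_zero, Matrix.cons_val_one]
    ring

theorem Q0_smul (c : F) (v : (Fin 2 → Fin 2) → F) : Q0 (c • v) = c ^ 2 * Q0 v := by
  unfold Q0
  simp only [Pi.smul_apply, smul_eq_mul]
  ring

/-- the polar form of `Q₀` -/
def B0 (x y : (Fin 2 → Fin 2) → F) : F :=
  x ![0, 0] * y ![1, 1] + x ![1, 1] * y ![0, 0] - x ![0, 1] * y ![1, 0] - x ![1, 0] * y ![0, 1]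

theorem polar_Q0 (x y : (Fin 2 → Fin 2) → F) : QuadraticMap.polar Q0 x y = B0 x y := by
  unfold QuadraticMap.polar Q0 B0
  simp only [Pi.add_apply]
  ring

theorem B0_nondeg (x : (Fin 2 → Fin 2) → F) (hx : x ≠ 0) : ∃ y, B0 x y ≠ 0 := by
  obtain ⟨p, hp⟩ : ∃ p, x p ≠ 0 := by
    by_contra h
    push Not at h
    exact hx (funext h)
  rw [eq_cons p] at hp
  have h0 : p 0 = 0 ∨ p 0 = 1 := by
    rcases Nat.lt_or_ge (p 0).1 1 with h | h
    · left; exact Fin.ext (by omega)
    · right; exact Fin.ext (by have := (p 0).2; simp; omega)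
  have h1 : p 1 = 0 ∨ p 1 = 1 := by
    rcases Nat.lt_or_ge (p 1).1 1 with h | h
    · left; exact Fin.ext (by omega)
    · right; exact Fin.ext (by have := (p 1).2; simp; omega)
  have hne : ∀ a b c d : Fin 2, (a, b) ≠ (c, d) → (![a, b] : Fin 2 → Fin 2) ≠ ![c, d] := by
    intro a b c d h hh
    apply h
    have e0 := congrFun hh 0
    have e1 := congrFun hh 1
    simp only [Matrix.cons_val_zero, Matrix.cons_val_one] at e0 e1
    rw [e0, e1]
  rcases h0 with h0 | h0 <;> rcases h1 with h1 | h1 <;> rw [h0, h1] at hp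
  · refine ⟨Pi.single ![1, 1] 1, ?_⟩
    unfold B0
    rw [Pi.single_eq_same, Pi.single_eq_of_ne (hne _ _ _ _ (by decide)),
      Pi.single_eq_of_ne (hne _ _ _ _ (by decide)), Pi.single_eq_of_ne (hne _ _ _ _ (by decide))]
    simpa using hp
  · refine ⟨Pi.single ![1, 0] 1, ?_⟩
    unfold B0
    rw [Pi.single_eq_same, Pi.single_eq_of_ne (hne _ _ _ _ (by decide)),
      Pi.single_eq_of_ne (hne _ _ _ _ (by decide)), Pi.single_eq_of_ne (hne _ _ _ _ (by decide))]
    simpa using hp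
  · refine ⟨Pi.single ![0, 1] 1, ?_⟩
    unfold B0
    rw [Pi.single_eq_same, Pi.single_eq_of_ne (hne _ _ _ _ (by decide)),
      Pi.single_eq_of_ne (hne _ _ _ _ (by decide)), Pi.single_eq_of_ne (hne _ _ _ _ (by decide))]
    simpa using hp
  · refine ⟨Pi.single ![0, 0] 1, ?_⟩
    unfold B0
    rw [Pi.single_eq_same, Pi.single_eq_of_ne (hne _ _ _ _ (by decide)),
      Pi.single_eq_of_ne (hne _ _ _ _ (by decide)), Pi.single_eq_of_ne (hne _ _ _ _ (by decide))]
    simpa using hp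

theorem B0_symm (x y : (Fin 2 → Fin 2) → F) : B0 x y = B0 y x := by
  unfold B0
  ring


/-- the standard tensor-wreath group `GL_2 ≀ S_2` consists of similarities of `Q₀` -/
theorem tensorWreathStandard_le : tensorWreathStandard 2 2 F ≤ quadSimilarityGroup (Q0 : ((Fin 2 → Fin 2) → F) → F) := by
  unfold tensorWreathStandard
  rw [Subgroup.closure_le]
  rintro g (⟨gs, hgs⟩ | ⟨σ, hσ⟩)
  · refine ⟨Matrix.GeneralLinearGroup.det (gs 0) * Matrix.GeneralLinearGroup.det (gs 1), fun v => ?_⟩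
    rw [Q0_pure _ (fun i => (gs i : Matrix (Fin 2) (Fin 2) F)) hgs v, Units.val_mul]
    rfl
  · exact ⟨1, fun v => by rw [Q0_perm _ σ hσ v, Units.val_one, one_mul]⟩

section transport

variable {n : ℕ} (e : Fin n ≃ (Fin 2 → Fin 2)) (Pm : GL (Fin n) F)

/-- coordinates with respect to `(e, Pm)` -/
def Lf (v : Fin n → F) : (Fin 2 → Fin 2) → F :=
  fun p => (((Pm⁻¹ : GL (Fin n) F) : Matrix (Fin n) (Fin n) F) *ᵥ v) (e.symm p)

/-- the inverse of `Lf` -/
def Linv (x : (Fin 2 → Fin 2) → F) : Fin n → F := (Pm : Matrix (Fin n) (Fin n) F) *ᵥ (fun i => x (e i))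

theorem Lf_Linv (x : (Fin 2 → Fin 2) → F) : Lf e Pm (Linv e Pm x) = x := by
  funext p
  unfold Lf Linv
  rw [Matrix.mulVec_mulVec, ← Units.val_mul, inv_mul_cancel, Units.val_one, Matrix.one_mulVec, Equiv.apply_symm_apply]

theorem Linv_Lf (v : Fin n → F) : Linv e Pm (Lf e Pm v) = v := by
  unfold Lf Linv
  simp only [Equiv.symm_apply_apply]
  rw [Matrix.mulVec_mulVec, ← Units.val_mul, mul_inv_cancel, Units.val_one, Matrix.one_mulVec]

theorem Lf_add (u v : Fin n → F) : Lf e Pm (u + v) = Lf e Pm u + Lf e Pm v := by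
  funext p
  unfold Lf
  rw [Matrix.mulVec_add]
  rfl

theorem Lf_smul (c : F) (v : Fin n → F) : Lf e Pm (c • v) = c • Lf e Pm v := by
  funext p
  unfold Lf
  rw [Matrix.mulVec_smul]
  rfl

theorem Lf_ne_zero {v : Fin n → F} (hv : v ≠ 0) : Lf e Pm v ≠ 0 := by
  intro h
  apply hv
  rw [← Linv_Lf e Pm v, h]
  unfold Linv
  have : (fun i => (0 : (Fin 2 → Fin 2) → F) (e i)) = (0 : Fin n → F) := rfl
  rw [this, Matrix.mulVec_zero]

/-- the action of a transported element in coordinates -/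
theorem Lf_conj (w : GL (Fin 2 → Fin 2) F) (v : Fin n → F) :
    Lf e Pm (((MulAut.conj Pm (glReindex e.symm w) : GL (Fin n) F) : Matrix (Fin n) (Fin n) F) *ᵥ v) =
      (w : Matrix (Fin 2 → Fin 2) (Fin 2 → Fin 2) F) *ᵥ Lf e Pm v := by
  funext p
  unfold Lf
  have h1 : ((MulAut.conj Pm (glReindex e.symm w) : GL (Fin n) F) : Matrix (Fin n) (Fin n) F) =
      (Pm : Matrix (Fin n) (Fin n) F) * (w : Matrix (Fin 2 → Fin 2) (Fin 2 → Fin 2) F).submatrix e e *
        ((Pm⁻¹ : GL (Fin n) F) : Matrix (Fin n) (Fin n) F) := rfl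
  rw [h1, Matrix.mulVec_mulVec, ← Matrix.mul_assoc, ← Matrix.mul_assoc, ← Units.val_mul, inv_mul_cancel,
    Units.val_one, Matrix.one_mul, ← Matrix.mulVec_mulVec, Matrix.submatrix_mulVec_equiv]
  simp only [Function.comp_apply, Equiv.apply_symm_apply]
  rfl

/-- the transported determinant form -/
def QT (v : Fin n → F) : F := Q0 (Lf e Pm v)

theorem tensorWreathSubgroup_le : tensorWreathSubgroup 2 2 e Pm ≤ quadSimilarityGroup (QT e Pm) := by
  intro g hg
  unfold tensorWreathSubgroup at hg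
  obtain ⟨g', hg', rfl⟩ := hg
  obtain ⟨w, hw, rfl⟩ := hg'
  obtain ⟨c, hc⟩ := tensorWreathStandard_le hw
  refine ⟨c, fun v => ?_⟩
  unfold QT
  have := Lf_conj e Pm w v
  rw [show ((MulAut.conj Pm).toMonoidHom ((glReindex e.symm).toMonoidHom w)) =
    MulAut.conj Pm (glReindex e.symm w) from rfl, this, hc]

theorem QT_isNondegenerate : IsNondegenerateQuadraticForm (QT e Pm) where
  smul := by
    intro c v
    unfold QT
    rw [Lf_smul, Q0_smul]
  polar_bilinear := by
    have hp : ∀ u v, QuadraticMap.polar (QT e Pm) u v = B0 (Lf e Pm u) (Lf e Pm v) := by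
      intro u v
      rw [← polar_Q0]
      unfold QuadraticMap.polar QT
      rw [Lf_add]
    constructor
    · intro x y v
      rw [hp, hp, hp, Lf_add]
      unfold B0
      simp only [Pi.add_apply]
      ring
    · intro c x v
      rw [hp, hp, Lf_smul]
      unfold B0
      simp only [Pi.smul_apply, smul_eq_mul]
      ring
    · intro v x y
      rw [hp, hp, hp, Lf_add]
      unfold B0
      simp only [Pi.add_apply]
      ring
    · intro c v x
      rw [hp, hp, Lf_smul]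
      unfold B0
      simp only [Pi.smul_apply, smul_eq_mul]
      ring
  nondegenerate := by
    have hp : ∀ u v, QuadraticMap.polar (QT e Pm) u v = B0 (Lf e Pm u) (Lf e Pm v) := by
      intro u v
      rw [← polar_Q0]
      unfold QuadraticMap.polar QT
      rw [Lf_add]
    intro v hv
    obtain ⟨y, hy⟩ := B0_nondeg (Lf e Pm v) (Lf_ne_zero e Pm hv)
    refine ⟨⟨Linv e Pm y, ?_⟩, ⟨Linv e Pm y, ?_⟩⟩
    · rw [hp, Lf_Linv, B0_symm]
      exact hy
    · rw [hp, Lf_Linv]
      exact hy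

end transport

/-- commutators of similarities of a quadratic form are isometries -/
theorem commutator_quadSimilarity_fixes {ι : Type} [Fintype ι] [DecidableEq ι] (Q : (ι → F) → F)
    {g : GL ι F} (hg : g ∈ ⁅quadSimilarityGroup Q, quadSimilarityGroup Q⁆) (v : ι → F) :
    Q ((g : Matrix ι ι F) *ᵥ v) = Q v := by
  let Iso : Subgroup (GL ι F) :=
    { carrier := {g | ∀ v, Q ((g : Matrix ι ι F) *ᵥ v) = Q v}
      mul_mem' := by
        intro a b ha hb v
        rw [Units.val_mul, ← Matrix.mulVec_mulVec, ha, hb]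
      one_mem' := by
        intro v
        rw [Units.val_one, Matrix.one_mulVec]
      inv_mem' := by
        intro a ha v
        have := ha (((a⁻¹ : GL ι F) : Matrix ι ι F) *ᵥ v)
        rw [Matrix.mulVec_mulVec, ← Units.val_mul, mul_inv_cancel, Units.val_one, Matrix.one_mulVec] at this
        exact this.symm }
  have hle : ⁅quadSimilarityGroup Q, quadSimilarityGroup Q⁆ ≤ Iso := by
    rw [Subgroup.commutator_le]
    rintro a ⟨c, hc⟩ b ⟨d, hd⟩ v
    have hcinv : ∀ w, Q (((a⁻¹ : GL ι F) : Matrix ι ι F) *ᵥ w) = ((c⁻¹ : Fˣ) : F) * Q w := by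
      intro w
      have := hc (((a⁻¹ : GL ι F) : Matrix ι ι F) *ᵥ w)
      rw [Matrix.mulVec_mulVec, ← Units.val_mul, mul_inv_cancel, Units.val_one, Matrix.one_mulVec] at this
      rw [this, ← mul_assoc, ← Units.val_mul, inv_mul_cancel, Units.val_one, one_mul]
    have hdinv : ∀ w, Q (((b⁻¹ : GL ι F) : Matrix ι ι F) *ᵥ w) = ((d⁻¹ : Fˣ) : F) * Q w := by
      intro w
      have := hd (((b⁻¹ : GL ι F) : Matrix ι ι F) *ᵥ w)
      rw [Matrix.mulVec_mulVec, ← Units.val_mul, mul_inv_cancel, Units.val_one, Matrix.one_mulVec] at this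
      rw [this, ← mul_assoc, ← Units.val_mul, inv_mul_cancel, Units.val_one, one_mul]
    rw [commutatorElement_def, Units.val_mul, Units.val_mul, Units.val_mul, ← Matrix.mulVec_mulVec,
      ← Matrix.mulVec_mulVec, ← Matrix.mulVec_mulVec, hc, hd, hcinv, hdinv]
    have h1 : ((c : Fˣ) : F) * ((c⁻¹ : Fˣ) : F) = 1 := by rw [← Units.val_mul, mul_inv_cancel, Units.val_one]
    have h2 : ((d : Fˣ) : F) * ((d⁻¹ : Fˣ) : F) = 1 := by rw [← Units.val_mul, mul_inv_cancel, Units.val_one]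
    calc (c : F) * ((d : F) * (((c⁻¹ : Fˣ) : F) * (((d⁻¹ : Fˣ) : F) * Q v)))
        = ((c : F) * ((c⁻¹ : Fˣ) : F)) * (((d : Fˣ) : F) * ((d⁻¹ : Fˣ) : F)) * Q v := by ring
      _ = Q v := by rw [h1, h2, one_mul, one_mul]
  exact hle hg v

/-- **a perfect subgroup of a tensor-wreath group `GL_2 ≀ S_2` fixes a non-degenerate quadratic form** -/
theorem exists_fixed_quad {n : ℕ} (e : Fin n ≃ (Fin 2 → Fin 2)) (Pm : GL (Fin n) F)
    {N : Subgroup (GL (Fin n) F)} (hN : N ≤ tensorWreathSubgroup 2 2 e Pm) (hperf : ⁅N, N⁆ = N) :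
    ∃ Q : (Fin n → F) → F, IsNondegenerateQuadraticForm Q ∧ FixesQuadForm (matrixSet N) Q := by
  refine ⟨QT e Pm, QT_isNondegenerate e Pm, ?_⟩
  rintro s ⟨g, hg, rfl⟩ v
  have hle : N ≤ quadSimilarityGroup (QT e Pm) := hN.trans (tensorWreathSubgroup_le e Pm)
  have hg' : g ∈ ⁅quadSimilarityGroup (QT e Pm), quadSimilarityGroup (QT e Pm)⁆ := by
    have : g ∈ ⁅N, N⁆ := by rw [hperf]; exact hg
    exact Subgroup.commutator_mono hle hle this
  exact commutator_quadSimilarity_fixes (QT e Pm) hg' v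

end Cfsg.Agent.Helper7.AschSp4
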