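import Mathlib
import Cfsg.Prelude.Def_GeometricClasses
import Cfsg.Agent.Lead.AschBase
import Cfsg.Agent.Lead.AschOBase
import Cfsg.Agent.Helper1.AschSpBase
import Cfsg.Agent.Helper1.AschSpMain
import Cfsg.Agent.Helper1.AschSpSub
import Cfsg.Agent.Helper2.AschSpA
import Cfsg.Agent.Helper2.AschRefl
import Cfsg.Agent.Helper3.AschCUV1
import Cfsg.Agent.Helper4.AschTIH
import Cfsg.Agent.Helper5.AschSpU
import Cfsg.Agent.Helper5.AschForm5
import Cfsg.Agent.Helper5.AschForm7
import Cfsg.Agent.Helper5.AschForm9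
import Cfsg.Agent.Helper5.AschHom4
import Cfsg.Agent.Helper6.AschCompCliff
import Cfsg.Agent.Helper8.AschSpDvd
import Cfsg.Agent.Helper8.AschSpEven
import Cfsg.Agent.Helper9.AschCompHom
import Cfsg.Agent.Helper9.AschCompTensor
import Cfsg.Agent.Helper9.AschCompK
import Cfsg.Agent.Helper9.AschC6StrB
import Cfsg.Agent.Helper7.AschSp4W
import Cfsg.Agent.Helper7.AschNotSpB

/-!
# Sp_4(q), q even (helper7): Aschbacher's theorem for groups of isometries of a symplectic form in dimension 4 over a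
field of even order, assembled from the ASCH-COMP-Sp pieces (helper1, helper2, helper5, helper8), the C6 structure
theorem (helper9), the tensor-induced exit (helper4) and `AschSp4W`.
-/

set_option autoImplicit false
set_option linter.unusedVariables false

namespace Cfsg.Agent.Helper7.AschSp4

open Cfsg Cfsg.Geo Cfsg.Agent.Lead.Asch Cfsg.Agent.Helper1.AschSp Cfsg.Agent.Helper2.AschRefl
open scoped MatrixGroups Matrix Kronecker

variable {F : Type*} [Field F]

/-- the tensor exit in characteristic 2 (helper8's piece (A)), as a hypothesis -/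
def TensorEvenExit (n : ℕ) (F : Type*) [Field F] [Fintype F] : Prop :=
  ∀ {f : (Fin n → F) → (Fin n → F) → F}, IsSymplecticForm f → ∀ {H : Subgroup (GL (Fin n) F)},
    ActsIrreducibly (matrixSet H) → FixesForm (matrixSet H) f → ∀ {d e : ℕ}, 2 ≤ e → 2 ≤ d →
    ∀ (eqv : Fin n ≃ Fin e × Fin d) (P : GL (Fin n) F), H ≤ tensorProductSubgroup e d eqv P →
    ∀ (B : Matrix (Fin e) (Fin e) F) (G : Matrix (Fin d) (Fin d) F), IsUnit B.det → IsUnit G.det →
    (∀ x y : Fin e × Fin d → F,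
      f ((P : Matrix (Fin n) (Fin n) F) *ᵥ (x ∘ eqv)) ((P : Matrix (Fin n) (Fin n) F) *ᵥ (y ∘ eqv)) =
        formOfGram id (B ⊗ₖ G) x y) → QuadExit f H

/-- Aschbacher's theorem for groups of isometries of a symplectic form in dimension 4, `q` even, `q ≥ 3`. -/
theorem asch_sp4_even [Fintype F] (heven : ¬ Odd (Fintype.card F)) (h3 : 3 ≤ Fintype.card F)
    (hTE : TensorEvenExit 4 F)
    (f : (Fin 4 → F) → (Fin 4 → F) → F) (hf : IsSymplecticForm f) (H : Subgroup (GL (Fin 4) F))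
    (hfix : FixesForm (matrixSet H) f) : SpConcl 2 f H := by
  have hn0 : 0 < 4 := by norm_num
  have hn2 : 2 ≤ 4 := by norm_num
  have h2 : (2 : F) = 0 := Cfsg.Agent.Helper8.SpEven.two_eq_zero_of_not_odd_card heven
  have hiso : ∀ g ∈ H, ∀ u v, f ((g : Matrix (Fin 4) (Fin 4) F) *ᵥ u) ((g : Matrix (Fin 4) (Fin 4) F) *ᵥ v) =
      f u v := fun g hg u v => hfix _ (coe_mem_matrixSet hg) u v
  have hR : Refl (RingEquiv.refl F) f := Refl.of_symplectic hf
  have evenRank := Cfsg.Agent.Helper2.AschSp.evenRank (n := 4) (F := F) f hf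
  have posRank : ∀ W : Submodule F (Fin 4 → F), W ≠ ⊥ → 0 < Module.finrank F W := by
    intro W hW
    rcases Nat.eq_zero_or_pos (Module.finrank F W) with h0 | h0
    · exact absurd (Submodule.finrank_eq_zero.1 h0) hW
    · exact h0
  -- Step 1: reducible
  by_cases hirr : ActsIrreducibly (matrixSet H)
  swap
  · obtain ⟨W, hW0, hW1, hWle, h | ⟨hP0, hP1, hPle, hinf, hsup, hsum, hndW, hndP⟩⟩ :=
      refl_reducible_aux hR hf.nondegenerate hiso hirr
    · exact Or.inl ⟨W, hW0, h, hWle⟩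
    · obtain ⟨a, ha⟩ := evenRank W hndW
      obtain ⟨b, hb⟩ := evenRank (perp hR W) hndP
      have hWpos := posRank W hW0
      have hPpos := posRank (perp hR W) hP0
      have hW2 : Module.finrank F W = 2 := by omega
      have hP2 : Module.finrank F (perp hR W) = 2 := by omega
      refine Or.inr (Or.inr (Or.inl ⟨h3, ![W, perp hR W],
        nondegDecomp_pair hR (by norm_num) hinf hsup hW2 hP2 hndW hndP, ?_⟩))
      intro g hg
      refine ⟨1, fun i => ?_⟩
      fin_cases i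
      · exact Cfsg.Agent.Helper3.AschCU.map_eq_of_mem_subspaceStabilizer (hWle hg)
      · exact Cfsg.Agent.Helper3.AschCU.map_eq_of_mem_subspaceStabilizer (hPle hg)
  -- the exits
  have exitQ : QuadExit f H → SpConcl 2 f H := by
    rintro ⟨Q, hQ, hpol, hle⟩
    exact Or.inr (Or.inr (Or.inr (Or.inr (Or.inr (Or.inr (Or.inr (Or.inr (Or.inl
      ⟨heven, Q, hQ, hpol, hle⟩))))))))
  have exitD : ∀ (t k : ℕ) (D : Fin t → Submodule F (Fin 4 → F)), IsNondegenerateMDecomposition f k D →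
      t * k = 4 → H ≤ decompositionStabilizer D → SpConcl 2 f H := by
    intro t k D hD htk hle
    have ht2 := hD.decomp.two_le
    have hev : Even k := by
      have h1 := evenRank (D ⟨0, by omega⟩) (hD.nondegenerate _)
      rwa [hD.decomp.finrank_eq] at h1
    obtain ⟨a, ha⟩ := hev
    have hkpos := hD.decomp.pos
    have hk2 : k = 2 := by
      subst ha
      have : t * (a + a) = 2 * (t * a) := by ring
      have hta : t * a = 2 := by omega
      have ha1 : a = 1 := by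
        rcases Nat.lt_or_ge a 2 with h | h
        · omega
        · nlinarith
      omega
    subst hk2
    have ht : t = 2 := by omega
    subst ht
    exact Or.inr (Or.inr (Or.inl ⟨h3, D, hD, hle⟩))
  have exitP : ∀ (k : ℕ) (D : Fin 2 → Submodule F (Fin 4 → F)), IsMDecomposition k D →
      (∀ i, IsTotallySingularFor f (D i)) → H ≤ decompositionStabilizer D → SpConcl 2 f H := by
    intro k D hD hts hle
    exact exitQ (Cfsg.Agent.Helper8.AschSp.evenPair heven f hf k D hD hts H hfix hle)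
  have exitK : ∀ (r : ℕ) (K : Subalgebra F (Matrix (Fin 4) (Fin 4) F)), r.Prime → r ∣ 4 →
      IsFieldSubalgebra r K → IsAdjointClosedFor f K → H ≤ subalgebraNormalizer K → SpConcl 2 f H := by
    intro r K hr hrn hK hadj hle
    have hr2 : r = 2 := by
      have h22 : r ∣ 2 ^ 2 := by norm_num; exact hrn
      exact (Nat.prime_dvd_prime_iff_eq hr Nat.prime_two).1 (hr.dvd_of_dvd_pow h22)
    subst hr2
    by_cases hsa : IsSelfAdjointFor f K
    · have halt := Cfsg.Agent.Helper8.AschSp.altOfSelfAdj f hf H hfix hirr 2 K hK hsa hle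
      exact Or.inr (Or.inr (Or.inr (Or.inr (Or.inl ⟨K, hK, hsa, halt, hle⟩))))
    · exact exitQ (Cfsg.Agent.Helper8.AschSp.evenField heven f hf K hK hadj hsa H hfix hle)
  -- Step 2: Clifford
  by_cases hexit : SpConcl 2 f H
  · exact hexit
  have hall : ∀ M : Subgroup (GL (Fin 4) F), M ≤ H → Nzes H M →
      M ≤ scalars (Fin 4) F ∨ ActsAbsolutelyIrreducibly (matrixSet M) := by
    intro N hNH hnz
    rcases Cfsg.Agent.Helper5.AschF.clifford_symplectic hn0 hf hfix hirr hNH hnz with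
      ⟨t, m, D, hD, hle, -, -⟩ | ⟨m, D, hD, hts, hle, -, -⟩ | hhom
    · exact absurd (exitD t m D hD
        (Cfsg.Agent.Helper6.AschComp.card_mul_of_isMDecomposition D hD.decomp) hle) hexit
    · exact absurd (exitP m D hD hts hle) hexit
    have hfixN : FixesForm (matrixSet N) f := by
      intro s hs
      obtain ⟨x, hx, rfl⟩ := mem_matrixSet_iff.1 hs
      exact hfix _ (coe_mem_matrixSet (hNH hx))
    rcases Cfsg.Agent.Helper5.AschF.field_of_fullyInv_form hn0
      (Cfsg.Agent.Helper5.AschF.RForm.of_symplectic hf) hnz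
      (Cfsg.Agent.Helper5.AschF.isom_of_fixesForm hfixN) hhom with ⟨r, K, hr, hrn, hK, hadj, hle⟩ | hct
    · exact absurd (exitK r K hr hrn hK hadj hle) hexit
    obtain ⟨d, e, eqv, P, ρ, hd, he, hrel, hirrρ, hdvd⟩ := Cfsg.Agent.Helper5.Asch.homog_data hn0 hirr hnz hhom
    have habs := Cfsg.Agent.Helper9.AschComp.rho_absIrred_of_centreTrivial he eqv P ρ hrel hirrρ hct
    have hcard : 4 = e * d := by
      have := Fintype.card_congr eqv
      simpa using this
    by_cases hd1 : d = 1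
    · subst hd1
      exact Or.inl (Cfsg.Agent.Helper9.AschComp.le_scalars_of_dim_one eqv P ρ hrel)
    by_cases he1 : e = 1
    · subst he1
      have hdn : d = 4 := by omega
      refine Or.inr (Cfsg.Agent.Helper9.AschComp.absIrred_of_dvd hn0 (fun X hX => ?_) hct)
      have h1 := hdvd X hX
      rw [hdn] at h1
      exact h1
    · exfalso
      have hHt : H ≤ tensorProductSubgroup e d eqv P := fun g hg =>
        Cfsg.Agent.Helper9.AschComp.tensor_exit hn0 eqv P
          (fun x => ((ρ x : GL (Fin d) F) : Matrix (Fin d) (Fin d) F)) hrel habs (fun x hx => hnz g hg x hx)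
      have hρu : ∀ x : N, IsUnit (((ρ x : GL (Fin d) F) : Matrix (Fin d) (Fin d) F)).det := fun x =>
        (Matrix.isUnit_iff_isUnit_det _).1 (Units.isUnit (ρ x))
      obtain ⟨B, G, hB, hG, hinv, hform, hT⟩ :=
        Cfsg.Agent.Helper5.AschF.tensorFormStructure_of_matrix_form hn0
          (Cfsg.Agent.Helper5.AschF.RForm.of_symplectic hf) (Cfsg.Agent.Helper5.AschF.isom_of_fixesForm hfixN)
          eqv P (fun x : N => ((ρ x : GL (Fin d) F) : Matrix (Fin d) (Fin d) F)) hrel hρu habs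
      have hform' : ∀ x y : Fin e × Fin d → F,
          f ((P : Matrix (Fin 4) (Fin 4) F) *ᵥ (x ∘ eqv)) ((P : Matrix (Fin 4) (Fin 4) F) *ᵥ (y ∘ eqv)) =
            formOfGram id (B ⊗ₖ G) x y := hform
      exact hexit (exitQ (hTE hf hirr hfix (by omega : 2 ≤ e) (by omega : 2 ≤ d) eqv P hHt B G hB hG hform'))
  have hHns : ¬ H ≤ scalars (Fin 4) F := not_le_scalars_of_irred hn2 hirr
  obtain ⟨N, hNH, hNnz, hNns, hmin⟩ := exists_minimal hHns
  have hNabs : ActsAbsolutelyIrreducibly (matrixSet N) := (hall N hNH hNnz).resolve_left hNns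
  have hNfix : FixesForm (matrixSet N) f := fun s hs => hfix s (matrixSet_mono hNH hs)
  by_cases hperf : ⁅N, N⁆ = N
  · -- the perfect case
    rcases Cfsg.Agent.Helper4.AschTI.perfect_case_gen hn2 hNH hNnz hNns hall hmin hperf with
      ⟨d, k, e, Pm, hd, hk, hle⟩ | ⟨hsimp, hnab, hcent⟩
    · -- tensor-induced: `d = k = 2`
      have hcard : 4 = d ^ k := by
        have := Fintype.card_congr e
        simpa using this
      have hd2 : d = 2 := by
        by_contra hne
        have h3d : 3 ≤ d := by omega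
        have : 3 ^ 2 ≤ d ^ k := (Nat.pow_le_pow_left h3d 2).trans (Nat.pow_le_pow_right (by omega) hk)
        omega
      subst hd2
      have hk2 : k = 2 := by
        by_contra hne
        have h3k : 3 ≤ k := by omega
        have : 2 ^ 3 ≤ 2 ^ k := Nat.pow_le_pow_right (by norm_num) h3k
        omega
      subst hk2
      obtain ⟨Q, hQ, hQfix⟩ := exists_fixed_quad e Pm (hNH.trans hle) hperf
      exact exitQ (Cfsg.Agent.Helper8.AschSp.quadEven heven f hf hNfix hNnz hNabs Q hQ hQfix)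
    by_cases hsub : ∃ F₀ : Subfield F, F₀ ≠ ⊤ ∧ RealisableOver F₀ (matrixSet N)
    · obtain ⟨F₀, h0, hr⟩ := hsub
      exact Or.inr (Or.inr (Or.inr (Or.inr (Or.inr (Or.inr (Or.inr (Or.inl
        (subfield_symp f hf hNfix hNnz hNabs F₀ h0 hr))))))))
    by_cases hQ : ∃ Q : (Fin 4 → F) → F, IsNondegenerateQuadraticForm Q ∧ FixesQuadForm (matrixSet N) Q
    · obtain ⟨Q, hQ, hQfix⟩ := hQ
      exact exitQ (Cfsg.Agent.Helper8.AschSp.quadEven heven f hf hNfix hNnz hNabs Q hQ hQfix)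
    by_cases hU : ∃ (σ : F ≃+* F) (g : (Fin 4 → F) → (Fin 4 → F) → F), IsUnitaryForm σ g ∧
        FixesForm (matrixSet N) g
    · obtain ⟨σ, g, hg, hgfix⟩ := hU
      exact absurd (Cfsg.Agent.Helper5.AschSp.unitary hn0 f hf N hNfix hNabs σ g hg hgfix) hsub
    · refine Or.inr (Or.inr (Or.inr (Or.inr (Or.inr (Or.inr (Or.inr (Or.inr (Or.inr ⟨N, ?_, hQ, hU⟩))))))))
      exact
        { le := hNH
          normal := hNnz
          perfect := hperf
          simple := hsimp
          nonabelian := hnab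
          centralizer_scalar := hcent
          absIrred := hNabs
          no_subfield := fun F₀ h0 hr => hsub ⟨F₀, h0, hr⟩ }
  · -- the symplectic-type case: impossible in characteristic 2
    exfalso
    have hcomm : ⁅N, N⁆ ≤ scalars (Fin 4) F := by
      by_contra hc
      exact hperf (hmin _ (Subgroup.commutator_le_self N) (nzes_commutator hNnz) hc)
    obtain ⟨r, a, z, hstr⟩ := Cfsg.Agent.Helper9.AschC6.c6_structure hn2
      (⟨hNH, hNnz, hNns, hNabs, hmin, hcomm⟩ : Cfsg.Agent.Helper9.AschC6.C6Hyp 4 F H N)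
    have hr2 : r = 2 := by
      have hdim := hstr.dim
      have ha := hstr.pos
      have hr4 : r ∣ 2 ^ 2 := by
        have : r ∣ r ^ a := dvd_pow_self r (by omega)
        rw [← hdim] at this
        norm_num
        exact this
      exact (Nat.prime_dvd_prime_iff_eq hstr.prime Nat.prime_two).1 (hstr.prime.dvd_of_dvd_pow hr4)
    have hz2 : 2 ∣ z := by
      rcases hstr.z_cases with ⟨h, -⟩ | ⟨-, h⟩ | ⟨-, h⟩
      · exact absurd hr2 h
      · rw [h]
      · rw [h]; norm_num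
    have hq1 : 2 ∣ Fintype.card F - 1 := hz2.trans hstr.z_dvd
    apply heven
    have hqpos : 1 ≤ Fintype.card F := by omega
    obtain ⟨c, hc⟩ := hq1
    exact ⟨c, by omega⟩

/-- S5790 (`Sp_4(q)`, `q ≥ 4` even) from the transport and the tensor exit -/
theorem final_sp4_even {F : Type*} [Field F] [Fintype F] (htr : SpTransport 2 4 F) (hTE : TensorEvenExit 4 F)
    (heven : ¬ Odd (Fintype.card F)) (h4 : 4 ≤ Fintype.card F)
    (H : Subgroup (Matrix.GeneralLinearGroup (Fin 2 ⊕ Fin 2) F)) (hH : Cfsg.Geo.IsMaximalIn (Cfsg.spGL 2 F) H) :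
    (∃ W : Submodule F (Fin 2 ⊕ Fin 2 → F), W ≠ ⊥ ∧ Cfsg.Geo.IsTotallySingularFor (Cfsg.sympForm 2 F) W ∧ H = Cfsg.Geo.subspaceStabilizer W ⊓ Cfsg.spGL 2 F) ∨
    (∃ D : Fin 2 → Submodule F (Fin 2 ⊕ Fin 2 → F), Cfsg.Geo.IsNondegenerateMDecomposition (Cfsg.sympForm 2 F) 2 D ∧ H = Cfsg.Geo.decompositionStabilizer D ⊓ Cfsg.spGL 2 F) ∨
    (∃ K : Subalgebra F (Matrix (Fin 2 ⊕ Fin 2) (Fin 2 ⊕ Fin 2) F), Cfsg.Geo.IsFieldSubalgebra 2 K ∧ Cfsg.Geo.IsSelfAdjointFor (Cfsg.sympForm 2 F) K ∧ (∀ k ∈ K, ∀ v : (Fin 2 ⊕ Fin 2 → F), (Cfsg.sympForm 2 F) (Matrix.mulVec k v) v = 0) ∧ H = Cfsg.Geo.subalgebraNormalizer K ⊓ Cfsg.spGL 2 F) ∨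
    (∃ (F₀ : Subfield F) (r : ℕ) (P : Matrix.GeneralLinearGroup (Fin 2 ⊕ Fin 2) F) (ζ : F), r.Prime ∧ Fintype.card F = Nat.card F₀ ^ r ∧ ζ ≠ 0 ∧ Cfsg.Geo.IsFormRationalStructure (Cfsg.sympForm 2 F) F₀ ζ P ∧ H = Cfsg.Geo.subfieldSubgroup F₀ P ⊓ Cfsg.spGL 2 F) ∨
    (∃ Q : (Fin 2 ⊕ Fin 2 → F) → F, Cfsg.Geo.IsNondegenerateQuadraticForm Q ∧ (∀ u v : (Fin 2 ⊕ Fin 2 → F), QuadraticMap.polar Q u v = (Cfsg.sympForm 2 F) u v) ∧ H = Cfsg.Geo.quadSimilarityGroup Q ⊓ Cfsg.spGL 2 F) ∨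
    Cfsg.Geo.InSymplecticResidualClass H := by
  classical
  have hnot := Cfsg.Agent.Helper7.AschSp.notSp (m := 2) (F := F) (le_refl 2)
  have hcard : Fintype.card (Fin 2 ⊕ Fin 2) = 4 := by
    simp only [Fintype.card_sum, Fintype.card_fin]
  let e : (Fin 2 ⊕ Fin 2) ≃ Fin 4 := Fintype.equivFinOfCardEq hcard
  have hcon : SpConcl 2 (sympForm 2 F) H :=
    htr.concl e H (asch_sp4_even heven (by omega) hTE (reF e (sympForm 2 F)) (htr.symplectic e) _
      (htr.fixes e H hH.1.le))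
  have hne : ∃ u v : Fin 2 ⊕ Fin 2 → F, sympForm 2 F u v ≠ 0 := by
    have hS := htr.symplectic e
    have hv : (Pi.single (0 : Fin 4) (1 : F) : Fin 4 → F) ≠ 0 := by
      intro h
      have := congrFun h 0
      simp at this
    obtain ⟨⟨x, hx⟩, -⟩ := hS.nondegenerate _ hv
    exact ⟨_, _, hx⟩
  rcases hcon with ⟨W, h0, hts, hle⟩ | ⟨W, h0, hnd, hdim, hle⟩ | ⟨hq, D, hD, hle⟩ | ⟨ho, D, hD, hts, hle⟩ |
    ⟨K, hK, hsa, halt, hle⟩ | ⟨ho, K, hK, hadj, hnsa, hle⟩ | ⟨ho, h33, e', P, f₁, f₂, hf₁, hf₂, hT, hle⟩ |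
    ⟨F₀, r, P, ζ, hr, hc, hζ, hrat, hle⟩ | ⟨ho, Q, hQ, hpol, hle⟩ | hres
  · refine Or.inl ⟨W, h0, hts, Cfsg.Agent.Lead.AschO.eq_inf_of_le' hH hle (hnot.subspace W h0 ?_)⟩
    rintro rfl
    obtain ⟨u, v, huv⟩ := hne
    exact huv (hts u Submodule.mem_top v Submodule.mem_top)
  · -- a non-degenerate subspace of dimension `< 2`: impossible
    exfalso
    have hpos : 0 < Module.finrank F W := by
      rcases Nat.eq_zero_or_pos (Module.finrank F W) with h | h
      · exact absurd (Submodule.finrank_eq_zero.1 h) h0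
      · exact h
    have h1 : Module.finrank F W = 1 := by omega
    obtain ⟨w, hw0, hspan⟩ := finrank_eq_one_iff'.1 h1
    have hw0' : (w : Fin 2 ⊕ Fin 2 → F) ≠ 0 := fun h => hw0 (Subtype.ext h)
    obtain ⟨-, x, hx, hfx⟩ := hnd w w.2 hw0'
    obtain ⟨c, hc⟩ := hspan ⟨x, hx⟩
    have hxw : x = c • (w : Fin 2 ⊕ Fin 2 → F) := by
      have := congrArg Subtype.val hc
      simpa using this.symm
    apply hfx
    rw [hxw, Cfsg.Agent.Helper7.Symp.sympForm_smul_right, Cfsg.Agent.Helper7.Symp.sympForm_self, mul_zero]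
  · exact Or.inr (Or.inl ⟨D, hD,
      Cfsg.Agent.Lead.AschO.eq_inf_of_le' hH hle (hnot.decomp 2 D hD.decomp)⟩)
  · exact absurd ho heven
  · exact Or.inr (Or.inr (Or.inl ⟨K, hK, hsa, halt,
      Cfsg.Agent.Lead.AschO.eq_inf_of_le' hH hle (hnot.field 2 K (le_refl 2) hK)⟩))
  · exact absurd ho heven
  · exact absurd ho heven
  · exact Or.inr (Or.inr (Or.inr (Or.inl ⟨F₀, r, P, ζ, hr, hc, hζ, hrat,
      Cfsg.Agent.Lead.AschO.eq_inf_of_le' hH hle
        (hnot.subfield F₀ (subfield_ne_top_of_card F₀ r hr hc) P)⟩)))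
  · exact Or.inr (Or.inr (Or.inr (Or.inr (Or.inl ⟨Q, hQ, hpol,
      Cfsg.Agent.Lead.AschO.eq_inf_of_le' hH hle (hnot.quad Q hQ hpol)⟩))))
  · exact Or.inr (Or.inr (Or.inr (Or.inr (Or.inr hres))))

end Cfsg.Agent.Helper7.AschSp4
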