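import Mathlib
import Cfsg.Prelude.Def_GeometricClasses

/-!
# ASCH-COMP-Sp piece `dvdOfSelfAdj` (helper7)

A symplectic space with a self-adjoint field `K` of degree `r` with `f(kv, v) = 0` has dimension divisible by `2r`
(a maximal `K`-stable totally isotropic subspace is its own perpendicular space, and is a `K`-space).
-/

set_option autoImplicit false

namespace Cfsg.Agent.Helper7.AschSpDvd

open Cfsg Cfsg.Geo Matrix
open scoped MatrixGroups Matrix

variable {n : ℕ} {F : Type*} [Field F]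

/-- the form as a Mathlib bilinear form -/
noncomputable def bil {f : (Fin n → F) → (Fin n → F) → F} (hf : IsBilinearForm f) :
    LinearMap.BilinForm F (Fin n → F) :=
  LinearMap.mk₂ F f hf.add_left (fun c x v => by rw [hf.smul_left, smul_eq_mul])
    hf.add_right (fun c v x => by rw [hf.smul_right, smul_eq_mul])

theorem bil_apply {f : (Fin n → F) → (Fin n → F) → F} (hf : IsBilinearForm f) (x y : Fin n → F) :
    bil hf x y = f x y := rfl

theorem bil_nondegenerate {f : (Fin n → F) → (Fin n → F) → F} (hf : IsBilinearForm f)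
    (hnd : IsNondegenerateForm f) : (bil hf).Nondegenerate := by
  constructor
  · intro x hx
    by_contra hx0
    obtain ⟨-, y, hy⟩ := hnd x hx0
    exact hy (hx y)
  · intro y hy
    by_contra hy0
    obtain ⟨⟨x, hx⟩, -⟩ := hnd y hy0
    exact hx (hy x)

/-- a totally singular subspace containing its perpendicular space has half the dimension -/
theorem two_mul_finrank_eq {f : (Fin n → F) → (Fin n → F) → F} (hf : IsSymplecticForm f)
    (W : Submodule F (Fin n → F)) (hts : IsTotallySingularFor f W)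
    (hperp : ∀ v, (∀ w ∈ W, f w v = 0) → v ∈ W) : 2 * Module.finrank F W = n := by
  have hB := bil_nondegenerate hf.bilinear hf.nondegenerate
  have h1 := LinearMap.BilinForm.finrank_orthogonal hB W
  have h2 : (bil hf.bilinear).orthogonal W = W := by
    ext v
    rw [LinearMap.BilinForm.mem_orthogonal_iff]
    constructor
    · intro h
      exact hperp v h
    · intro hv w hw
      exact hts w hw v hv
  rw [h2, Module.finrank_fin_fun] at h1
  have h3 : Module.finrank F W ≤ n := by
    have := Submodule.finrank_le W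
    rwa [Module.finrank_fin_fun] at this
  omega

/-- the orbit map `k ↦ k v` of a subalgebra -/
def orb (K : Subalgebra F (Matrix (Fin n) (Fin n) F)) (v : Fin n → F) : K →ₗ[F] (Fin n → F) where
  toFun k := (k : Matrix (Fin n) (Fin n) F) *ᵥ v
  map_add' a b := by
    change ((a + b : K) : Matrix (Fin n) (Fin n) F) *ᵥ v = _
    rw [Subalgebra.coe_add, Matrix.add_mulVec]
  map_smul' c a := by
    change ((c • a : K) : Matrix (Fin n) (Fin n) F) *ᵥ v = _
    rw [Subalgebra.coe_smul, Matrix.smul_mulVec]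
    rfl

theorem orb_apply (K : Subalgebra F (Matrix (Fin n) (Fin n) F)) (v : Fin n → F) (k : K) :
    orb K v k = (k : Matrix (Fin n) (Fin n) F) *ᵥ v := rfl

/-- in a field of matrices a non-zero element kills no non-zero vector -/
theorem eq_zero_of_mulVec_eq_zero {r : ℕ} {K : Subalgebra F (Matrix (Fin n) (Fin n) F)}
    (hK : IsFieldSubalgebra r K) {k : Matrix (Fin n) (Fin n) F} (hk : k ∈ K) {v : Fin n → F}
    (hkv : k *ᵥ v = 0) (hv : v ≠ 0) : k = 0 := by
  by_contra hk0
  obtain ⟨y, hy, hky⟩ := hK.inv k hk hk0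
  have hyk : y * k = 1 := by rw [hK.comm y hy k hk]; exact hky
  apply hv
  have : (y * k) *ᵥ v = v := by rw [hyk, Matrix.one_mulVec]
  rw [← this, ← Matrix.mulVec_mulVec, hkv, Matrix.mulVec_zero]

theorem orb_injective {r : ℕ} {K : Subalgebra F (Matrix (Fin n) (Fin n) F)}
    (hK : IsFieldSubalgebra r K) {v : Fin n → F} (hv : v ≠ 0) : Function.Injective (orb K v) := by
  rw [← LinearMap.ker_eq_bot, LinearMap.ker_eq_bot']
  intro k hk
  rw [orb_apply] at hk
  exact Subtype.ext (eq_zero_of_mulVec_eq_zero hK k.2 hk hv)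

/-- enlarging a `K`-stable totally singular subspace by a vector of its perpendicular space -/
theorem exists_larger {f : (Fin n → F) → (Fin n → F) → F} (hf : IsSymplecticForm f) {r : ℕ}
    {K : Subalgebra F (Matrix (Fin n) (Fin n) F)} (hK : IsFieldSubalgebra r K) (hsa : IsSelfAdjointFor f K)
    (halt : ∀ k ∈ K, ∀ v : Fin n → F, f (k *ᵥ v) v = 0)
    (W : Submodule F (Fin n → F)) (hst : ∀ k ∈ K, ∀ w ∈ W, k *ᵥ w ∈ W) (hts : IsTotallySingularFor f W)
    {v : Fin n → F} (hvp : ∀ w ∈ W, f w v = 0) (hvW : v ∉ W) :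
    ∃ W' : Submodule F (Fin n → F), (∀ k ∈ K, ∀ w ∈ W', k *ᵥ w ∈ W') ∧ IsTotallySingularFor f W' ∧
      Module.finrank F W' = Module.finrank F W + r := by
  have hv0 : v ≠ 0 := fun h => hvW (h ▸ W.zero_mem)
  have b := hf.bilinear
  refine ⟨W ⊔ LinearMap.range (orb K v), ?_, ?_, ?_⟩
  · intro k hk x hx
    obtain ⟨w, hw, y, ⟨k', rfl⟩, rfl⟩ := Submodule.mem_sup.mp hx
    rw [Matrix.mulVec_add]
    refine Submodule.add_mem _ (Submodule.mem_sup_left (hst k hk w hw)) (Submodule.mem_sup_right ?_)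
    refine ⟨⟨k * k', K.mul_mem hk k'.2⟩, ?_⟩
    rw [orb_apply, orb_apply, Matrix.mulVec_mulVec]
  · intro x hx x' hx'
    obtain ⟨w, hw, y, ⟨k, rfl⟩, rfl⟩ := Submodule.mem_sup.mp hx
    obtain ⟨w', hw', y', ⟨k', rfl⟩, rfl⟩ := Submodule.mem_sup.mp hx'
    rw [orb_apply, orb_apply, b.add_left, b.add_right, b.add_right]
    have e1 : f w w' = 0 := hts w hw w' hw'
    have e2 : f w ((k' : Matrix (Fin n) (Fin n) F) *ᵥ v) = 0 := by
      rw [← hsa _ k'.2]
      exact hvp _ (hst _ k'.2 w hw)
    have e3 : f ((k : Matrix (Fin n) (Fin n) F) *ᵥ v) w' = 0 := by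
      rw [hf.skew, ← hsa _ k.2, hvp _ (hst _ k.2 w' hw'), neg_zero]
    have e4 : f ((k : Matrix (Fin n) (Fin n) F) *ᵥ v) ((k' : Matrix (Fin n) (Fin n) F) *ᵥ v) = 0 := by
      rw [hsa _ k.2, Matrix.mulVec_mulVec, hf.skew, halt _ (K.mul_mem k.2 k'.2), neg_zero]
    rw [e1, e2, e3, e4]
    ring
  · have hinf : W ⊓ LinearMap.range (orb K v) = ⊥ := by
      rw [eq_bot_iff]
      rintro x ⟨hxW, ⟨k, rfl⟩⟩
      rw [Submodule.mem_bot]
      by_cases hk0 : (k : Matrix (Fin n) (Fin n) F) = 0
      · rw [orb_apply, hk0, Matrix.zero_mulVec]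
      · exfalso
        obtain ⟨y, hy, hky⟩ := hK.inv _ k.2 hk0
        have hyk : y * (k : Matrix (Fin n) (Fin n) F) = 1 := by rw [hK.comm y hy _ k.2]; exact hky
        apply hvW
        have h1 := hst y hy _ hxW
        rwa [orb_apply, Matrix.mulVec_mulVec, hyk, Matrix.one_mulVec] at h1
    have h1 := Submodule.finrank_sup_add_finrank_inf_eq W (LinearMap.range (orb K v))
    rw [hinf, finrank_bot, add_zero, LinearMap.finrank_range_of_inj (orb_injective hK hv0),
      hK.finrank_eq] at h1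
    exact h1

theorem dvd_aux {f : (Fin n → F) → (Fin n → F) → F} (hf : IsSymplecticForm f) {r : ℕ}
    {K : Subalgebra F (Matrix (Fin n) (Fin n) F)} (hK : IsFieldSubalgebra r K) (hsa : IsSelfAdjointFor f K)
    (halt : ∀ k ∈ K, ∀ v : Fin n → F, f (k *ᵥ v) v = 0) :
    ∀ j : ℕ, ∀ W : Submodule F (Fin n → F), (∀ k ∈ K, ∀ w ∈ W, k *ᵥ w ∈ W) → IsTotallySingularFor f W →
      r ∣ Module.finrank F W → n - Module.finrank F W = j → 2 * r ∣ n := by
  intro j
  induction j using Nat.strong_induction_on with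
  | _ j ih =>
    intro W hst hts hdvd hj
    by_cases hperp : ∀ v, (∀ w ∈ W, f w v = 0) → v ∈ W
    · have h := two_mul_finrank_eq hf W hts hperp
      rw [← h]
      exact Nat.mul_dvd_mul_left 2 hdvd
    · push Not at hperp
      obtain ⟨v, hvp, hvW⟩ := hperp
      obtain ⟨W', hst', hts', hfr⟩ := exists_larger hf hK hsa halt W hst hts hvp hvW
      have hv0 : v ≠ 0 := fun h => hvW (h ▸ W.zero_mem)
      have hr : 0 < r := by
        rw [← hK.finrank_eq]
        apply Module.finrank_pos_iff_exists_ne_zero.mpr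
        refine ⟨1, ?_⟩
        intro h1
        apply hv0
        have := congrArg (fun k : K => (k : Matrix (Fin n) (Fin n) F) *ᵥ v) h1
        simpa using this
      have hle : Module.finrank F W' ≤ n := by
        have := Submodule.finrank_le W'
        rwa [Module.finrank_fin_fun] at this
      exact ih (n - Module.finrank F W') (by omega) W' hst' hts' (by rw [hfr]; exact Dvd.dvd.add hdvd dvd_rfl ) rfl

/-- **`SpPieces.dvdOfSelfAdj`** -/
theorem dvdOfSelfAdj (f : (Fin n → F) → (Fin n → F) → F) (hf : IsSymplecticForm f) (r : ℕ)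
    (K : Subalgebra F (Matrix (Fin n) (Fin n) F)) (hK : IsFieldSubalgebra r K) (hsa : IsSelfAdjointFor f K)
    (halt : ∀ k ∈ K, ∀ v : Fin n → F, f (k *ᵥ v) v = 0) : 2 * r ∣ n := by
  refine dvd_aux hf hK hsa halt (n - Module.finrank F (⊥ : Submodule F (Fin n → F))) ⊥ ?_ ?_ ?_ rfl
  · intro k _ w hw
    rw [Submodule.mem_bot] at hw ⊢
    rw [hw, Matrix.mulVec_zero]
  · intro u hu v _
    rw [Submodule.mem_bot] at hu
    rw [hu]
    have := hf.bilinear.smul_left 0 0 v
    rwa [zero_smul, zero_mul] at this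
  · rw [finrank_bot]
    exact dvd_zero r

end Cfsg.Agent.Helper7.AschSpDvd
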