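import Mathlib
import Cfsg.Agent.Helper7.PolG

set_option autoImplicit false
set_option linter.unusedSectionVars false

/-!
ASCH-PP-U, piece U42 (helper7), part A: an isometry of the unitary space `F^(k+k)` fixing both
members of a pair of complementary totally isotropic subspaces is `diag(A, A^{-*})` in an adapted
hyperbolic frame; the twisted diagonal `{(x, θ x)}` of `F^(2+2)`.
-/

namespace Cfsg.Agent.Helper7.U42

open Matrix Module Cfsg Cfsg.Agent.Helper7.Herm Cfsg.Agent.Helper8.GUOrder Cfsg.Agent.Helper8.SURoot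
  Cfsg.Agent.Helper8.AutSU Cfsg.Agent.Helper7.SUMax Cfsg.Agent.Helper7.SUNd
  Cfsg.Agent.Helper7.SUPair Cfsg.Agent.Helper7.Invol Cfsg.Agent.Helper7.Ex27
  Cfsg.Agent.Helper8.MaxSingular Cfsg.Agent.Helper7.Pol

variable {F : Type*} [Field F] [Fintype F] {q k : ℕ} [hF : Fact (Fintype.card F = q ^ 2)]

/-- An isometry fixing both members of the pair is in the image of the Levi embedding. -/
theorem eq_phi_of_fix {u w : Fin k → (Fin (k + k) → F)} (h : HFrame q u w)
    {E E' : Submodule F (Fin (k + k) → F)} (hd : LPair q E E') (hu : ∀ i, u i ∈ E)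
    (hw : ∀ i, w i ∈ E') (g : GL (Fin (k + k)) F) (hg : g ∈ GU (k + k) F q)
    (h0 : ∀ v ∈ E, (g : Matrix (Fin (k + k)) (Fin (k + k)) F) *ᵥ v ∈ E)
    (h1 : ∀ v ∈ E', (g : Matrix (Fin (k + k)) (Fin (k + k)) F) *ᵥ v ∈ E') :
    ∃ A : GL (Fin k) F, g = phi h A := by
  classical
  have hx : ∀ j, ∃ x : Fin k → F,
      (g : Matrix (Fin (k + k)) (Fin (k + k)) F) *ᵥ u j = Pm u w *ᵥ apv x 0 :=
    fun j => exists_of_mem_left h hd hu hw (h0 _ (hu j))
  choose xs hxs using hx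
  set A₀ : Matrix (Fin k) (Fin k) F := Matrix.of (fun i j => xs j i) with hA₀
  have hA : ∀ c : Fin k → F, (g : Matrix (Fin (k + k)) (Fin (k + k)) F) *ᵥ (Pm u w *ᵥ apv c 0) =
      Pm u w *ᵥ apv (A₀ *ᵥ c) 0 := by
    intro c
    rw [Pm_apv, Pm_apv]
    simp only [Pi.zero_apply, zero_smul, Finset.sum_const_zero, add_zero]
    rw [← Matrix.mulVecLin_apply, map_sum]
    simp only [map_smul, Matrix.mulVecLin_apply, hxs, Pm_apv, Pi.zero_apply, zero_smul,
      Finset.sum_const_zero, add_zero, Finset.smul_sum, smul_smul]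
    rw [Finset.sum_comm]
    apply Finset.sum_congr rfl
    intro i _
    rw [← Finset.sum_smul]
    congr 1
    simp only [hA₀, Matrix.mulVec, dotProduct, Matrix.of_apply]
    apply Finset.sum_congr rfl
    intro j _
    ring
  have hinjP := Matrix.mulVec_injective_iff_isUnit.mpr (isUnit_Pm h)
  have hinjg : Function.Injective (g : Matrix (Fin (k + k)) (Fin (k + k)) F).mulVec :=
    Matrix.mulVec_injective_iff_isUnit.mpr ⟨g, rfl⟩
  have hA₀u : IsUnit A₀ := by
    rw [← Matrix.mulVec_injective_iff_isUnit]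
    intro c c' hcc
    have h2 : (g : Matrix (Fin (k + k)) (Fin (k + k)) F) *ᵥ (Pm u w *ᵥ apv c 0) =
        (g : Matrix (Fin (k + k)) (Fin (k + k)) F) *ᵥ (Pm u w *ᵥ apv c' 0) := by
      rw [hA, hA]
      exact congrArg (fun z => Pm u w *ᵥ apv z 0) hcc
    exact (apv_inj (hinjP (hinjg h2))).1
  set A : GL (Fin k) F := hA₀u.unit with hAdef
  have hAval : (A : Matrix (Fin k) (Fin k) F) = A₀ := hA₀u.unit_spec
  refine ⟨A, ?_⟩
  have hXU : (phi h A)⁻¹ * g ∈ GU (k + k) F q :=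
    (GU (k + k) F q).mul_mem ((GU (k + k) F q).inv_mem (phi_mem_GU h A)) hg
  have hinv : (phi h A)⁻¹ = phi h A⁻¹ := (map_inv (phi h) A).symm
  have hX1 : (((phi h A)⁻¹ * g : GL (Fin (k + k)) F) : Matrix (Fin (k + k)) (Fin (k + k)) F) = 1 := by
    refine eq_one_of_trivial_left (q := q) _ (fun a b => hXU a b) hd ?_ ?_
    · intro v hv
      rw [Units.val_mul, ← Matrix.mulVec_mulVec]
      obtain ⟨y, hy⟩ := exists_of_mem_right h hd hu hw (h1 v hv)
      rw [hy, hinv, phi_mulVec, Matrix.mulVec_zero]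
      exact Pm_right_mem hw _
    · intro v hv
      obtain ⟨c, rfl⟩ := exists_of_mem_left h hd hu hw hv
      rw [Units.val_mul, ← Matrix.mulVec_mulVec, hA, hinv, phi_mulVec, Matrix.mulVec_zero,
        ← hAval, Matrix.mulVec_mulVec, ← Units.val_mul, inv_mul_cancel, Units.val_one,
        Matrix.one_mulVec]
  have h3 : (phi h A)⁻¹ * g = 1 := Units.ext hX1
  exact (inv_mul_eq_one.mp h3).symm

omit [Fintype F] hF in
/-- the twist. -/
def theta (q : ℕ) (x : Fin 2 → F) : Fin 2 → F := ![x 1 ^ q, -(x 0 ^ q)]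

omit [Fintype F] hF in
theorem theta_zero (x : Fin 2 → F) : theta q x 0 = x 1 ^ q := rfl

omit [Fintype F] hF in
theorem theta_one (x : Fin 2 → F) : theta q x 1 = -(x 0 ^ q) := rfl

theorem theta_smul (c : F) (x : Fin 2 → F) : theta q (c • x) = c ^ q • theta q x := by
  ext i
  fin_cases i
  · show (c • x) 1 ^ q = c ^ q * x 1 ^ q
    rw [Pi.smul_apply, smul_eq_mul, mul_pow]
  · show -((c • x) 0 ^ q) = c ^ q * -(x 0 ^ q)
    rw [Pi.smul_apply, smul_eq_mul, mul_pow]; ring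

theorem herm_theta (x y : Fin 2 → F) :
    hermForm 2 F q x (theta q y) = x 0 * y 1 - x 1 * y 0 := by
  unfold hermForm
  rw [Fin.sum_univ_two, theta_zero, theta_one, bb, b_neg, bb]
  ring

theorem herm_theta' (x y : Fin 2 → F) :
    hermForm 2 F q (theta q x) y = (y 0 * x 1 - y 1 * x 0) ^ q := by
  rw [h_swap, herm_theta]

theorem dualM_theta (A : GL (Fin 2) F) (x : Fin 2 → F) :
    dualM q A *ᵥ theta q x =
      (((A⁻¹ : GL (Fin 2) F) : Matrix (Fin 2) (Fin 2) F).det) ^ q •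
        theta q ((A : Matrix (Fin 2) (Fin 2) F) *ᵥ x) := by
  have hinv : ((A⁻¹ : GL (Fin 2) F) : Matrix (Fin 2) (Fin 2) F) =
      ((A : Matrix (Fin 2) (Fin 2) F).det)⁻¹ • (A : Matrix (Fin 2) (Fin 2) F).adjugate := by
    rw [Matrix.coe_units_inv, Matrix.inv_def, Ring.inverse_eq_inv']
  have hd : ((A⁻¹ : GL (Fin 2) F) : Matrix (Fin 2) (Fin 2) F).det =
      ((A : Matrix (Fin 2) (Fin 2) F).det)⁻¹ := by
    rw [Matrix.coe_units_inv, Matrix.det_nonsing_inv, Ring.inverse_eq_inv']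
  rw [hd]
  have key : ∀ i : Fin 2, (dualM q A *ᵥ theta q x) i =
      ((((A : Matrix (Fin 2) (Fin 2) F).det)⁻¹) ^ q •
        theta q ((A : Matrix (Fin 2) (Fin 2) F) *ᵥ x)) i := by
    rw [Fin.forall_fin_two]
    constructor
    · simp only [dualM, hinv, Matrix.adjugate_fin_two, Matrix.mulVec, dotProduct, Fin.sum_univ_two,
        Matrix.map_apply, Matrix.transpose_apply, Matrix.smul_apply, Matrix.of_apply,
        Matrix.cons_val_zero, Matrix.cons_val_one, theta_zero, theta_one,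
        Pi.smul_apply, smul_eq_mul, Matrix.cons_val', Matrix.cons_val_fin_one, b_add, mul_pow,
        b_neg]
      ring
    · simp only [dualM, hinv, Matrix.adjugate_fin_two, Matrix.mulVec, dotProduct, Fin.sum_univ_two,
        Matrix.map_apply, Matrix.transpose_apply, Matrix.smul_apply, Matrix.of_apply,
        Matrix.cons_val_zero, Matrix.cons_val_one, theta_zero, theta_one,
        Pi.smul_apply, smul_eq_mul, Matrix.cons_val', Matrix.cons_val_fin_one, b_add, mul_pow,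
        b_neg]
      ring
  exact funext key


/-! ### the swap -/

omit [Fintype F] hF in
/-- the swap, in frame coordinates. -/
def S0 (F : Type*) [Field F] : Matrix (Fin (2 + 2)) (Fin (2 + 2)) F :=
  !![0, 0, 0, -1; 0, 0, 1, 0; 0, -1, 0, 0; 1, 0, 0, 0]

omit [Fintype F] hF in
theorem apv_eq (x y : Fin 2 → F) : apv x y = (![x 0, x 1, y 0, y 1] : Fin (2 + 2) → F) := by
  ext i
  fin_cases i <;> rfl

omit [Fintype F] hF in
theorem det_S0 : (S0 F).det = 1 := by
  unfold S0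
  have h1 : Fin.succAbove (3 : Fin 4) (2 : Fin 3) = 2 := by decide
  simp [Matrix.det_succ_row_zero, Fin.sum_univ_succ, h1]
  ring

omit [Fintype F] hF in
theorem S0_mulVec (x y : Fin 2 → F) :
    S0 F *ᵥ apv x y = apv ![-(y 1), y 0] ![-(x 1), x 0] := by
  rw [apv_eq, apv_eq]
  unfold S0
  ext i
  fin_cases i <;> simp [Matrix.mulVec, dotProduct, Fin.sum_univ_succ]

omit [Fintype F] hF in
/-- the swap as an element of `GL`. -/
noncomputable def S0G (F : Type*) [Field F] : GL (Fin (2 + 2)) F :=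
  Matrix.GeneralLinearGroup.mk'' (S0 F) (by rw [det_S0]; exact isUnit_one)

omit [Fintype F] hF in
theorem S0G_val : ((S0G F : GL (Fin (2 + 2)) F) : Matrix (Fin (2 + 2)) (Fin (2 + 2)) F) = S0 F := rfl

/-- the swap attached to a frame. -/
noncomputable def swp {u w : Fin 2 → (Fin (2 + 2) → F)} (h : HFrame q u w) : GL (Fin (2 + 2)) F :=
  PG h * S0G F * (PG h)⁻¹

theorem swp_mulVec {u w : Fin 2 → (Fin (2 + 2) → F)} (h : HFrame q u w) (x y : Fin 2 → F) :
    ((swp h : GL (Fin (2 + 2)) F) : Matrix (Fin (2 + 2)) (Fin (2 + 2)) F) *ᵥ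
        (Pm u w *ᵥ apv x y) = Pm u w *ᵥ apv ![-(y 1), y 0] ![-(x 1), x 0] := by
  have hc : (((PG h)⁻¹ : GL (Fin (2 + 2)) F) : Matrix (Fin (2 + 2)) (Fin (2 + 2)) F) *ᵥ
      (Pm u w *ᵥ apv x y) = apv x y := by
    rw [← PG_val h, Matrix.mulVec_mulVec, ← Units.val_mul, inv_mul_cancel, Units.val_one,
      Matrix.one_mulVec]
  unfold swp
  rw [Units.val_mul, Units.val_mul, S0G_val, ← Matrix.mulVec_mulVec, ← Matrix.mulVec_mulVec,
    hc, S0_mulVec, PG_val]

theorem det_swp {u w : Fin 2 → (Fin (2 + 2) → F)} (h : HFrame q u w) :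
    ((swp h : GL (Fin (2 + 2)) F) : Matrix (Fin (2 + 2)) (Fin (2 + 2)) F).det = 1 := by
  unfold swp
  rw [Units.val_mul, Units.val_mul, Matrix.det_mul, Matrix.det_mul, S0G_val, det_S0, mul_one,
    ← Matrix.det_mul, ← Units.val_mul, mul_inv_cancel, Units.val_one, Matrix.det_one]

theorem herm_K (x y : Fin 2 → F) :
    hermForm 2 F q ![-(x 1), x 0] ![-(y 1), y 0] = hermForm 2 F q x y := by
  unfold hermForm
  rw [Fin.sum_univ_two, Fin.sum_univ_two]
  simp only [Matrix.cons_val_zero, Matrix.cons_val_one]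
  rw [b_neg]
  ring

theorem swp_mem_GU {u w : Fin 2 → (Fin (2 + 2) → F)} (h : HFrame q u w) :
    swp h ∈ GU (2 + 2) F q := by
  intro a b
  show hermForm (2 + 2) F q
    (((swp h : GL (Fin (2 + 2)) F) : Matrix (Fin (2 + 2)) (Fin (2 + 2)) F) *ᵥ a)
    (((swp h : GL (Fin (2 + 2)) F) : Matrix (Fin (2 + 2)) (Fin (2 + 2)) F) *ᵥ b) = _
  obtain ⟨x, y, rfl⟩ := exists_Pm_apv h a
  obtain ⟨x', y', rfl⟩ := exists_Pm_apv h b
  rw [swp_mulVec, swp_mulVec, herm_Pm h, herm_Pm h, herm_K, herm_K, add_comm]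

omit [Fintype F] hF in
theorem K_zero : (![-((0 : Fin 2 → F) 1), (0 : Fin 2 → F) 0] : Fin 2 → F) = 0 := by
  ext i
  fin_cases i <;> simp

theorem swp_left {u w : Fin 2 → (Fin (2 + 2) → F)} (h : HFrame q u w)
    {E E' : Submodule F (Fin (2 + 2) → F)} (hd : LPair q E E') (hu : ∀ i, u i ∈ E)
    (hw : ∀ i, w i ∈ E') {v : Fin (2 + 2) → F} (hv : v ∈ E) :
    ((swp h : GL (Fin (2 + 2)) F) : Matrix (Fin (2 + 2)) (Fin (2 + 2)) F) *ᵥ v ∈ E' := by
  obtain ⟨x, rfl⟩ := exists_of_mem_left h hd hu hw hv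
  rw [swp_mulVec, K_zero]
  exact Pm_right_mem hw _

theorem swp_right {u w : Fin 2 → (Fin (2 + 2) → F)} (h : HFrame q u w)
    {E E' : Submodule F (Fin (2 + 2) → F)} (hd : LPair q E E') (hu : ∀ i, u i ∈ E)
    (hw : ∀ i, w i ∈ E') {v : Fin (2 + 2) → F} (hv : v ∈ E') :
    ((swp h : GL (Fin (2 + 2)) F) : Matrix (Fin (2 + 2)) (Fin (2 + 2)) F) *ᵥ v ∈ E := by
  obtain ⟨y, rfl⟩ := exists_of_mem_right h hd hu hw hv
  rw [swp_mulVec, K_zero]
  exact Pm_left_mem hu _

/-! ### the twisted diagonal -/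

omit [Fintype F] hF in
/-- the twisted diagonal. -/
def tw (q : ℕ) (u w : Fin 2 → (Fin (2 + 2) → F)) (x : Fin 2 → F) : Fin (2 + 2) → F :=
  Pm u w *ᵥ apv x (theta q x)

theorem smul_tw (u w : Fin 2 → (Fin (2 + 2) → F)) {s δ : F} (hs : s ^ q = δ * s)
    (x : Fin 2 → F) :
    s • (Pm u w *ᵥ apv x (δ • theta q x)) = tw q u w (s • x) := by
  unfold tw
  rw [theta_smul, hs, ← Matrix.mulVec_smul, ← apv_smul, smul_smul, mul_comm]

theorem herm_tw {u w : Fin 2 → (Fin (2 + 2) → F)} (h : HFrame q u w) (x x' : Fin 2 → F) :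
    hermForm (2 + 2) F q (tw q u w x) (tw q u w x') =
      (x 0 * x' 1 - x 1 * x' 0) - (x 0 * x' 1 - x 1 * x' 0) ^ q := by
  unfold tw
  rw [herm_Pm h, herm_theta, herm_theta']
  have h1 : x' 0 * x 1 - x' 1 * x 0 = -(x 0 * x' 1 - x 1 * x' 0) := by ring
  rw [h1, b_neg]
  ring

/-- the swap preserves the twisted diagonal up to a scalar. -/
theorem swp_tw {u w : Fin 2 → (Fin (2 + 2) → F)} (h : HFrame q u w) :
    ∃ s : F, s ≠ 0 ∧ ∀ x : Fin 2 → F, ∃ x' : Fin 2 → F,
      s • (((swp h : GL (Fin (2 + 2)) F) : Matrix (Fin (2 + 2)) (Fin (2 + 2)) F) *ᵥ tw q u w x) =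
        tw q u w x' := by
  have hδ : (-1 : F) ^ (q + 1) = 1 := by
    rw [pow_succ, b_neg, b_one]
    ring
  obtain ⟨s, hs0, hs⟩ := exists_pow_q_eq (q := q) hδ
  refine ⟨s, hs0, fun x => ⟨s • ![x 0 ^ q, x 1 ^ q], ?_⟩⟩
  rw [← smul_tw u w hs]
  congr 1
  unfold tw
  rw [swp_mulVec]
  congr 2
  · ext i
    fin_cases i
    · show -(theta q x 1) = x 0 ^ q
      rw [theta_one, neg_neg]
    · show theta q x 0 = x 1 ^ q
      rw [theta_zero]
  · ext i
    fin_cases i
    · show -(x 1) = ((-1 : F) • theta q ![x 0 ^ q, x 1 ^ q]) 0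
      rw [Pi.smul_apply, theta_zero, smul_eq_mul]
      show -(x 1) = -1 * (x 1 ^ q) ^ q
      rw [bb]; ring
    · show x 0 = ((-1 : F) • theta q ![x 0 ^ q, x 1 ^ q]) 1
      rw [Pi.smul_apply, theta_one, smul_eq_mul]
      show x 0 = -1 * -((x 0 ^ q) ^ q)
      rw [bb]; ring

/-- the Levi elements of determinant one preserve the twisted diagonal up to a scalar,
when `q ≤ 3`. -/
theorem phi_tw (hq : q ≤ 3) {u w : Fin 2 → (Fin (2 + 2) → F)} (h : HFrame q u w)
    (A : GL (Fin 2) F)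
    (hdet : ((phi h A : GL (Fin (2 + 2)) F) : Matrix (Fin (2 + 2)) (Fin (2 + 2)) F).det = 1) :
    ∃ s : F, s ≠ 0 ∧ ∀ x : Fin 2 → F, ∃ x' : Fin 2 → F,
      s • (((phi h A : GL (Fin (2 + 2)) F) : Matrix (Fin (2 + 2)) (Fin (2 + 2)) F) *ᵥ
        tw q u w x) = tw q u w x' := by
  set d := (A : Matrix (Fin 2) (Fin 2) F).det with hd
  set d' := ((A⁻¹ : GL (Fin 2) F) : Matrix (Fin 2) (Fin 2) F).det with hd'
  have hdd : d' * d = 1 := by
    rw [hd, hd', ← Matrix.det_mul, ← Units.val_mul, inv_mul_cancel, Units.val_one, Matrix.det_one]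
  have h1 : d * d' ^ q = 1 := by rw [← hdet, det_phi]
  have h2 : d' ^ q = d' := by
    calc d' ^ q = (d' * d) * d' ^ q := by rw [hdd, one_mul]
      _ = d' * (d * d' ^ q) := by ring
      _ = d' := by rw [h1, mul_one]
  have hd0 : d' ≠ 0 := by
    intro h0
    rw [h0, zero_mul] at hdd
    exact zero_ne_one hdd
  have h3 : d' * d' = 1 := by
    have hq2 : 2 ≤ q := by
      by_contra hlt
      have hc : Fintype.card F ≤ 1 := by
        rw [hF.out]
        have : q ≤ 1 := by omega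
        calc q ^ 2 ≤ 1 ^ 2 := Nat.pow_le_pow_left this 2
          _ = 1 := one_pow 2
      have := Fintype.one_lt_card (α := F)
      omega
    have hq' : q = 2 ∨ q = 3 := by omega
    rcases hq' with h' | h'
    · rw [h'] at h2
      have h4 : d' * (d' - 1) = 0 := by linear_combination h2
      rcases mul_eq_zero.mp h4 with h5 | h5
      · exact absurd h5 hd0
      · rw [sub_eq_zero.mp h5, one_mul]
    · rw [h'] at h2
      have h4 : d' * (d' * d' - 1) = 0 := by linear_combination h2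
      rcases mul_eq_zero.mp h4 with h5 | h5
      · exact absurd h5 hd0
      · exact sub_eq_zero.mp h5
  have hδ : (d' ^ q) ^ (q + 1) = 1 := by
    rw [h2, pow_succ, h2, h3]
  obtain ⟨s, hs0, hs⟩ := exists_pow_q_eq (q := q) hδ
  refine ⟨s, hs0, fun x => ⟨s • ((A : Matrix (Fin 2) (Fin 2) F) *ᵥ x), ?_⟩⟩
  rw [← smul_tw u w hs]
  congr 1
  unfold tw
  rw [phi_mulVec, dualM_theta]

end Cfsg.Agent.Helper7.U42
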