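import Mathlib
import Cfsg.Agent.Helper7.AschU42A
import Cfsg.Agent.Helper7.SubFD
import Cfsg.Agent.Helper8.UnitaryLines
import Cfsg.Agent.Helper3.AschUSubA
import Cfsg.Prelude.Def_GeometricClasses

set_option autoImplicit false
set_option linter.unusedSectionVars false

/-!
ASCH-PP-U, piece U42 (helper7), part B: the stabiliser in `SU_4(q)`, `q ≤ 3`, of a pair of
complementary totally isotropic planes lies in a subfield group of symplectic type: the twisted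
diagonal `{(x, θ x)}` is an `F_q`-form of `F^4` on which the Hermitian form is `ζ⁻¹` times an
alternating `F_q`-form.
-/

namespace Cfsg.Agent.Helper7.U42

open Matrix Module Cfsg Cfsg.Geo Cfsg.Agent.Helper7.Herm Cfsg.Agent.Helper8.GUOrder
  Cfsg.Agent.Helper8.SURoot
  Cfsg.Agent.Helper8.AutSU Cfsg.Agent.Helper7.SUMax Cfsg.Agent.Helper7.SUNd
  Cfsg.Agent.Helper7.SUPair Cfsg.Agent.Helper7.Invol Cfsg.Agent.Helper7.Ex27
  Cfsg.Agent.Helper8.MaxSingular Cfsg.Agent.Helper7.Pol Cfsg.Agent.Helper7.SubF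

variable {F : Type*} [Field F] [Fintype F] {q : ℕ} [hF : Fact (Fintype.card F = q ^ 2)]

/-- the fixed field of the `q`-power map. -/
def fixF (F : Type*) [Field F] [Fintype F] (q : ℕ) [hF : Fact (Fintype.card F = q ^ 2)] :
    Subfield F :=
  (frobq F q).eqLocusField (RingHom.id F)

theorem mem_fixF (a : F) : a ∈ fixF F q ↔ a ^ q = a := Iff.rfl

theorem card_fixF : Nat.card (fixF F q) = q := by
  have h := Cfsg.Agent.Helper8.UnitaryLines.card_fixed hF.out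
  have h2 : Nat.card (fixF F q) = Nat.card {c : F // c ^ q = c} :=
    Nat.card_congr (Equiv.subtypeEquivRight fun x => Iff.rfl)
  rw [h2, h]

/-- every element is `c + μ c'` with `c, c'` fixed by the `q`-power map. -/
theorem exists_rat {μ : F} (hμ : μ ^ q ≠ μ) (a : F) :
    ∃ c c' : F, c ^ q = c ∧ c' ^ q = c' ∧ a = c + μ * c' := by
  have hζ : μ - μ ^ q ≠ 0 := sub_ne_zero.mpr (Ne.symm hμ)
  have hζ' : μ ^ q - μ ≠ 0 := sub_ne_zero.mpr hμ
  set c' := (a - a ^ q) / (μ - μ ^ q) with hc'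
  have h1 : c' ^ q = c' := by
    rw [hc', div_pow, b_sub, b_sub, bb, bb, div_eq_div_iff hζ' hζ]
    ring
  have h2 : (μ - μ ^ q) * c' = a - a ^ q := by
    rw [hc', mul_div_cancel₀ _ hζ]
  refine ⟨a - μ * c', c', ?_, h1, by ring⟩
  rw [b_sub, mul_pow, h1]
  linear_combination h2

omit [Fintype F] hF in
/-- the rational basis of the twisted diagonal, in frame coordinates. -/
def Cm (q : ℕ) (μ : F) : Matrix (Fin (2 + 2)) (Fin (2 + 2)) F :=
  !![1, 0, μ, 0; 0, 1, 0, μ; 0, 1, 0, μ ^ q; -1, 0, -(μ ^ q), 0]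

omit [Fintype F] hF in
theorem det_Cm (μ : F) : (Cm q μ).det = (μ - μ ^ q) ^ 2 := by
  unfold Cm
  have h1 : Fin.succAbove (3 : Fin 4) (2 : Fin 3) = 2 := by decide
  have h2 : Fin.succAbove (2 : Fin 4) (2 : Fin 3) = 3 := by decide
  simp [Matrix.det_succ_row_zero, Fin.sum_univ_succ, h1, h2]
  ring

omit [Fintype F] hF in
/-- the coordinates of a rational point. -/
def xof (μ : F) (c : Fin (2 + 2) → F) : Fin 2 → F := ![c 0 + μ * c 2, c 1 + μ * c 3]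

theorem Cm_mulVec (μ : F) (c : Fin (2 + 2) → F) (hc : ∀ i, c i ^ q = c i) :
    Cm q μ *ᵥ c = apv (xof μ c) (theta q (xof μ c)) := by
  have e0 : (Cm q μ *ᵥ c) 0 = c 0 + μ * c 2 := by
    simp [Cm, Matrix.mulVec, dotProduct, Fin.sum_univ_succ]
  have e1 : (Cm q μ *ᵥ c) 1 = c 1 + μ * c 3 := by
    simp [Cm, Matrix.mulVec, dotProduct, Fin.sum_univ_succ]
  have e2 : (Cm q μ *ᵥ c) 2 = c 1 + μ ^ q * c 3 := by
    simp [Cm, Matrix.mulVec, dotProduct, Fin.sum_univ_succ]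
  have e3 : (Cm q μ *ᵥ c) 3 = -(c 0 + μ ^ q * c 2) := by
    simp [Cm, Matrix.mulVec, dotProduct, Fin.sum_univ_succ]
    ring
  rw [apv_eq]
  ext i
  fin_cases i
  · exact e0
  · exact e1
  · show (Cm q μ *ᵥ c) 2 = (c 1 + μ * c 3) ^ q
    rw [e2, b_add, mul_pow, hc 1, hc 3]
  · show (Cm q μ *ᵥ c) 3 = -((c 0 + μ * c 2) ^ q)
    rw [e3, b_add, mul_pow, hc 0, hc 2]

omit [Fintype F] hF in
/-- the rational basis as an element of `GL`. -/
noncomputable def CmG (q : ℕ) {μ : F} (hμ : μ ^ q ≠ μ) : GL (Fin (2 + 2)) F :=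
  Matrix.GeneralLinearGroup.mk'' (Cm q μ) (by
    rw [det_Cm, isUnit_iff_ne_zero]
    exact pow_ne_zero 2 (sub_ne_zero.mpr (Ne.symm hμ)))

omit [Fintype F] hF in
theorem CmG_val {μ : F} (hμ : μ ^ q ≠ μ) :
    ((CmG q hμ : GL (Fin (2 + 2)) F) : Matrix (Fin (2 + 2)) (Fin (2 + 2)) F) = Cm q μ := rfl

/-- the rational structure. -/
noncomputable def PP {u w : Fin 2 → (Fin (2 + 2) → F)} (h : HFrame q u w) {μ : F}
    (hμ : μ ^ q ≠ μ) : GL (Fin (2 + 2)) F := PG h * CmG q hμ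

theorem PP_mulVec {u w : Fin 2 → (Fin (2 + 2) → F)} (h : HFrame q u w) {μ : F}
    (hμ : μ ^ q ≠ μ) (c : Fin (2 + 2) → F) (hc : ∀ i, c i ∈ fixF F q) :
    ((PP h hμ : GL (Fin (2 + 2)) F) : Matrix (Fin (2 + 2)) (Fin (2 + 2)) F) *ᵥ c =
      tw q u w (xof μ c) := by
  unfold PP tw
  rw [Units.val_mul, PG_val, CmG_val, ← Matrix.mulVec_mulVec, Cm_mulVec μ c hc]

theorem mem_V0_iff {u w : Fin 2 → (Fin (2 + 2) → F)} (h : HFrame q u w) {μ : F}
    (hμ : μ ^ q ≠ μ) (v : Fin (2 + 2) → F) :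
    v ∈ V0 (fixF F q) ((PP h hμ : GL (Fin (2 + 2)) F) : Matrix (Fin (2 + 2)) (Fin (2 + 2)) F) ↔
      ∃ x : Fin 2 → F, v = tw q u w x := by
  constructor
  · rintro ⟨c, hc, rfl⟩
    exact ⟨xof μ c, PP_mulVec h hμ c hc⟩
  · rintro ⟨x, rfl⟩
    obtain ⟨c0, c0', h0, h0', hx0⟩ := exists_rat hμ (x 0)
    obtain ⟨c1, c1', h1, h1', hx1⟩ := exists_rat hμ (x 1)
    have hc : ∀ i, (![c0, c1, c0', c1'] : Fin (2 + 2) → F) i ∈ fixF F q := by
      intro i
      fin_cases i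
      · exact h0
      · exact h1
      · exact h0'
      · exact h1'
    refine ⟨(![c0, c1, c0', c1'] : Fin (2 + 2) → F), hc, ?_⟩
    rw [PP_mulVec h hμ _ hc]
    congr 1
    ext i
    fin_cases i
    · exact hx0.symm
    · exact hx1.symm

/-- an element preserving the twisted diagonal up to a scalar lies in the subfield group. -/
theorem mem_of_tw {u w : Fin 2 → (Fin (2 + 2) → F)} (h : HFrame q u w) {μ : F}
    (hμ : μ ^ q ≠ μ) (g : GL (Fin (2 + 2)) F)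
    (hg : ∃ s : F, s ≠ 0 ∧ ∀ x : Fin 2 → F, ∃ x' : Fin 2 → F,
      s • ((g : Matrix (Fin (2 + 2)) (Fin (2 + 2)) F) *ᵥ tw q u w x) = tw q u w x') :
    g ∈ subfieldSubgroup (fixF F q) (PP h hμ) := by
  obtain ⟨s, hs0, hs⟩ := hg
  refine mem_subfield_of hs0 (fun v hv => ?_)
  obtain ⟨x, rfl⟩ := (mem_V0_iff h hμ v).mp hv
  obtain ⟨x', hx'⟩ := hs x
  exact (mem_V0_iff h hμ _).mpr ⟨x', hx'⟩

/-- **U42**, in the coordinates `Fin (2 + 2)`. -/
theorem ts_pair_small_aux (hq : q ≤ 3) (D : Fin 2 → Submodule F (Fin (2 + 2) → F))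
    (hD : IsMDecomposition 2 D)
    (hts : ∀ i, IsTotallySingularFor (hermForm (2 + 2) F q) (D i)) :
    ∃ (F₀ : Subfield F) (P : GL (Fin (2 + 2)) F) (ζ : F),
      Fintype.card F = Nat.card F₀ ^ 2 ∧ ζ ≠ 0 ∧ ζ + ζ ^ q = 0 ∧
      IsFormRationalStructure (hermForm (2 + 2) F q) F₀ ζ P ∧
      (∀ u : Fin (2 + 2) → F, (∀ i, u i ∈ F₀) →
        hermForm (2 + 2) F q ((P : Matrix (Fin (2 + 2)) (Fin (2 + 2)) F) *ᵥ u)
          ((P : Matrix (Fin (2 + 2)) (Fin (2 + 2)) F) *ᵥ u) = 0) ∧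
      decompositionStabilizer D ⊓ (GU (2 + 2) F q ⊓ specialLinear (Fin (2 + 2)) F) ≤
        subfieldSubgroup F₀ P := by
  obtain ⟨hd, hf0, hf1, -⟩ := lpair_of_decomp (q := q) D hD hts
  obtain ⟨u, w, hfr, hu, hw⟩ := exists_frame_of_paired (q := q) 2 (D 0) (D 1) hd.paired hf0
  obtain ⟨μ, hμ⟩ := Cfsg.Agent.Helper3.AschU.exists_pow_q_ne hF.out
  have hζ : μ - μ ^ q ≠ 0 := sub_ne_zero.mpr (Ne.symm hμ)
  refine ⟨fixF F q, PP hfr hμ, μ - μ ^ q, ?_, hζ, ?_, ?_, ?_, ?_⟩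
  · rw [card_fixF, hF.out]
  · rw [b_sub, bb]
    ring
  · intro c c' hc hc'
    rw [PP_mulVec hfr hμ c hc, PP_mulVec hfr hμ c' hc', herm_tw hfr, mem_fixF, mul_pow, b_sub,
      b_sub, bb, bb]
    ring
  · intro c hc
    rw [PP_mulVec hfr hμ c hc, herm_tw hfr]
    have h0 : xof μ c 0 * xof μ c 1 - xof μ c 1 * xof μ c 0 = 0 := by ring
    rw [h0, b_zero, sub_zero]
  · intro g hg
    have hgU : g ∈ GU (2 + 2) F q := hg.2.1
    have hgdet : (g : Matrix (Fin (2 + 2)) (Fin (2 + 2)) F).det = 1 := by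
      have h1 : g ∈ specialLinear (Fin (2 + 2)) F := hg.2.2
      unfold specialLinear at h1
      rw [MonoidHom.mem_ker] at h1
      exact congrArg Units.val h1
    have hfix : ∀ g' : GL (Fin (2 + 2)) F, g' ∈ GU (2 + 2) F q →
        (g' : Matrix (Fin (2 + 2)) (Fin (2 + 2)) F).det = 1 →
        (∀ v ∈ D 0, (g' : Matrix (Fin (2 + 2)) (Fin (2 + 2)) F) *ᵥ v ∈ D 0) →
        (∀ v ∈ D 1, (g' : Matrix (Fin (2 + 2)) (Fin (2 + 2)) F) *ᵥ v ∈ D 1) →
        g' ∈ subfieldSubgroup (fixF F q) (PP hfr hμ) := by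
      intro g' hU hdet h0 h1
      obtain ⟨A, rfl⟩ := eq_phi_of_fix hfr hd hu hw g' hU h0 h1
      exact mem_of_tw hfr hμ _ (phi_tw hq hfr A hdet)
    rcases (mem_decomp_iff D (hf0.trans hf1.symm) g).mp hg.1 with ⟨h0, h1⟩ | ⟨h0, h1⟩
    · exact hfix g hgU hgdet h0 h1
    · have hsw : swp hfr ∈ subfieldSubgroup (fixF F q) (PP hfr hμ) :=
        mem_of_tw hfr hμ _ (swp_tw hfr)
      have hg' : g * swp hfr ∈ subfieldSubgroup (fixF F q) (PP hfr hμ) := by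
        apply hfix
        · exact (GU (2 + 2) F q).mul_mem hgU (swp_mem_GU hfr)
        · rw [Units.val_mul, Matrix.det_mul, hgdet, det_swp, mul_one]
        · intro v hv
          rw [Units.val_mul, ← Matrix.mulVec_mulVec]
          exact h1 _ (swp_left hfr hd hu hw hv)
        · intro v hv
          rw [Units.val_mul, ← Matrix.mulVec_mulVec]
          exact h0 _ (swp_right hfr hd hu hw hv)
      have h3 : g = g * swp hfr * (swp hfr)⁻¹ := (mul_inv_cancel_right g (swp hfr)).symm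
      rw [h3]
      exact Subgroup.mul_mem _ hg' (Subgroup.inv_mem _ hsw)


end Cfsg.Agent.Helper7.U42
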