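import Mathlib
import Cfsg.Agent.Helper7.AschU42B
import Cfsg.Prelude.Def_GeometricClasses
import Cfsg.Prelude.Def_LieClassical

set_option autoImplicit false

/-!
ASCH-PP-U, piece U42 (helper7), part C: helper9's stub `ts_pair_small`, exact statement.
-/

namespace Cfsg.Agent.Helper7.U42

open Cfsg Cfsg.Geo
open scoped MatrixGroups Matrix

variable {F : Type*} [Field F]

/-- **U42** (SU_4, q ≤ 3): the stabiliser in `SU_4(q)` of a pair of complementary totally
isotropic planes lies in a subfield group of symplectic type. -/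
theorem ts_pair_small [Fintype F] (q : ℕ) (hF : Fintype.card F = q ^ 2) (hq : q ≤ 3)
    (D : Fin 2 → Submodule F (Fin 4 → F)) (hD : IsMDecomposition 2 D)
    (hts : ∀ i, IsTotallySingularFor (hermForm 4 F q) (D i)) :
    ∃ (F₀ : Subfield F) (P : GL (Fin 4) F) (ζ : F), Fintype.card F = Nat.card F₀ ^ 2 ∧ ζ ≠ 0 ∧ ζ + ζ ^ q = 0 ∧
      IsFormRationalStructure (hermForm 4 F q) F₀ ζ P ∧
      (∀ u : Fin 4 → F, (∀ i, u i ∈ F₀) → hermForm 4 F q ((P : Matrix (Fin 4) (Fin 4) F) *ᵥ u)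
        ((P : Matrix (Fin 4) (Fin 4) F) *ᵥ u) = 0) ∧
      decompositionStabilizer D ⊓ (GU 4 F q ⊓ specialLinear (Fin 4) F) ≤ subfieldSubgroup F₀ P := by
  haveI : Fact (Fintype.card F = q ^ 2) := ⟨hF⟩
  exact ts_pair_small_aux hq D hD hts

end Cfsg.Agent.Helper7.U42
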