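import Mathlib

set_option autoImplicit false

/-!
Automorphisms of a finite field are linearly independent and span the additive maps.
-/

namespace Cfsg.Agent.Helper7.AutSpan

variable {F : Type*} [Field F]

theorem linIndep_aut : LinearIndependent F (fun σ : F ≃+* F => ((σ : F →+* F) : F → F)) := by
  have h := linearIndependent_monoidHom F F
  have hinj : Function.Injective (fun σ : F ≃+* F => ((σ : F →+* F) : F →* F)) := by
    intro σ τ h
    ext x
    exact DFunLike.congr_fun h x
  exact h.comp _ hinj

theorem finite_aut [Finite F] : Finite (F ≃+* F) :=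
  Finite.of_injective (fun σ : F ≃+* F => (σ : F → F)) DFunLike.coe_injective

/-- Every additive map of a finite field of characteristic `p` is a combination of automorphisms. -/
theorem exists_coeff [Finite F] (p : ℕ) [Fact p.Prime] [CharP F p] [Fintype (F ≃+* F)]
    (f : F →+ F) : ∃ c : (F ≃+* F) → F, ∀ x, f x = ∑ σ, c σ * σ x := by
  classical
  let _ := ZMod.algebra F p
  let v : (F ≃+* F) → (F →ₗ[ZMod p] F) :=
    fun σ => (σ : F →+* F).toAddMonoidHom.toZModLinearMap p
  have hv : LinearIndependent F v := by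
    apply LinearIndependent.of_comp (LinearMap.ltoFun (ZMod p) F F F)
    exact linIndep_aut
  have hfin : Module.finrank F (F →ₗ[ZMod p] F) = Module.finrank (ZMod p) F :=
    Module.finrank_linearMap_self (ZMod p) F F
  have hcard : Fintype.card (F ≃+* F) = Module.finrank F (F →ₗ[ZMod p] F) := by
    apply le_antisymm hv.fintype_card_le_finrank
    rw [hfin, ← IsGalois.card_aut_eq_finrank (ZMod p) F, ← Nat.card_eq_fintype_card]
    apply Nat.card_le_card_of_injective (fun σ : F ≃ₐ[ZMod p] F => (σ : F ≃+* F))
    intro σ τ h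
    ext x
    exact DFunLike.congr_fun h x
  have hspan := hv.span_eq_top_of_card_eq_finrank' hcard
  have hf : f.toZModLinearMap p ∈ Submodule.span F (Set.range v) := by
    rw [hspan]
    exact Submodule.mem_top
  obtain ⟨c, hc⟩ := (Submodule.mem_span_range_iff_exists_fun F).1 hf
  refine ⟨c, fun x => ?_⟩
  have h1 := congrArg (fun g : F →ₗ[ZMod p] F => g x) hc
  simp only [LinearMap.coe_sum, Finset.sum_apply, LinearMap.smul_apply, smul_eq_mul] at h1
  exact h1.symm

theorem coeff_unique [Fintype (F ≃+* F)] {c c' : (F ≃+* F) → F}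
    (h : ∀ x, ∑ σ, c σ * σ x = ∑ σ, c' σ * σ x) : c = c' := by
  have hli := Fintype.linearIndependent_iff.1 (linIndep_aut (F := F)) (fun σ => c σ - c' σ)
  have h0 : ∑ σ : F ≃+* F, (c σ - c' σ) • ((σ : F →+* F) : F → F) = 0 := by
    funext x
    simp only [Finset.sum_apply, Pi.smul_apply, smul_eq_mul, sub_mul, Finset.sum_sub_distrib,
      Pi.zero_apply]
    exact sub_eq_zero.2 (h x)
  funext σ
  exact sub_eq_zero.1 (hli h0 σ)

/-- Every biadditive map of a finite field of characteristic `p` is a combination of the maps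
`(x, y) ↦ σ x * τ y`. -/
theorem exists_coeff₂ [Finite F] (p : ℕ) [Fact p.Prime] [CharP F p] [Fintype (F ≃+* F)]
    (B : F →+ F →+ F) : ∃ d : (F ≃+* F) × (F ≃+* F) → F,
      ∀ x y, B x y = ∑ q : (F ≃+* F) × (F ≃+* F), d q * (q.1 x * q.2 y) := by
  choose c hc using fun x => exists_coeff p (B x)
  have hadd : ∀ x x', c (x + x') = c x + c x' := by
    intro x x'
    apply coeff_unique
    intro y
    rw [← hc (x + x') y, map_add, AddMonoidHom.add_apply, hc x y, hc x' y,
      ← Finset.sum_add_distrib]
    refine Finset.sum_congr rfl fun σ _ => ?_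
    rw [Pi.add_apply, add_mul]
  let g : (F ≃+* F) → (F →+ F) := fun τ =>
    AddMonoidHom.mk' (fun x => c x τ) (fun x x' => by rw [hadd]; rfl)
  choose d hd using fun τ => exists_coeff p (g τ)
  refine ⟨fun q => d q.2 q.1, fun x y => ?_⟩
  rw [hc x y, Fintype.sum_prod_type_right]
  refine Finset.sum_congr rfl fun τ _ => ?_
  have h1 : c x τ = ∑ σ, d τ σ * σ x := hd τ x
  rw [h1, Finset.sum_mul]
  refine Finset.sum_congr rfl fun σ _ => ?_
  ring

end Cfsg.Agent.Helper7.AutSpan
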