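import Mathlib
import Cfsg.Prelude.Def_ChevB2
import Cfsg.Prelude.Def_ChevStructure

set_option autoImplicit false

/-!
The root elements of the orthogonal group of the quadratic form `x₀² + x₁x₃ + x₂x₄` in dimension five,
with signs matching the structure constants of the Chevalley datum of type `B₂`.
-/

namespace Cfsg.Agent.Helper7.B2O

open Cfsg Cfsg.Lie Matrix

variable {F : Type*} [Field F]

/-- The quadratic form on `F^5`. -/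
def Q5 (v : Fin 5 → F) : F := v 0 ^ 2 + v 1 * v 3 + v 2 * v 4

/-- The root elements. -/
def yM (r : ℕ) (t : F) : Matrix (Fin 5) (Fin 5) F :=
  match r with
  | 0 => !![1, 0, 0, 0, 0; 0, 1, 0, 0, 0; 0, 0, 1, 0, 0; 0, 0, t, 1, 0; 0, -t, 0, 0, 1]
  | 1 => !![1, -t, 0, 0, 0; 0, 1, 0, 0, 0; 0, 0, 1, 0, 0; 2 * t, -t ^ 2, 0, 1, 0; 0, 0, 0, 0, 1]
  | 2 => !![1, 0, t, 0, 0; 0, 1, 0, 0, 0; 0, 0, 1, 0, 0; 0, 0, 0, 1, 0; -2 * t, 0, -t ^ 2, 0, 1]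
  | 3 => !![1, 0, 0, 0, 0; 0, 1, 0, 0, 0; 0, -t, 1, 0, 0; 0, 0, 0, 1, t; 0, 0, 0, 0, 1]
  | 4 => !![1, 0, 0, 0, 0; 0, 1, -t, 0, 0; 0, 0, 1, 0, 0; 0, 0, 0, 1, 0; 0, 0, 0, t, 1]
  | 5 => !![1, 0, 0, 0, -t; 0, 1, 0, 0, 0; 2 * t, 0, 1, 0, -t ^ 2; 0, 0, 0, 1, 0; 0, 0, 0, 0, 1]
  | 6 => !![1, 0, 0, t, 0; -2 * t, 1, 0, -t ^ 2, 0; 0, 0, 1, 0, 0; 0, 0, 0, 1, 0; 0, 0, 0, 0, 1]
  | 7 => !![1, 0, 0, 0, 0; 0, 1, 0, 0, -t; 0, 0, 1, t, 0; 0, 0, 0, 1, 0; 0, 0, 0, 0, 1]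
  | _ => 1

theorem yM_add {r : ℕ} (hr : r < 8) (t u : F) : yM r t * yM r u = yM r (t + u) := by
  interval_cases r <;>
  · unfold yM
    ext i j
    fin_cases i <;> fin_cases j <;> simp [Matrix.mul_apply, Fin.sum_univ_succ] <;> ring

theorem yM_zero (r : ℕ) : yM r (0 : F) = 1 := by
  by_cases hr : r < 8
  · interval_cases r <;>
    · unfold yM
      ext i j
      fin_cases i <;> fin_cases j <;> simp
  · unfold yM
    split <;> first | omega | rfl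

theorem Q5_yM {r : ℕ} (hr : r < 8) (t : F) (v : Fin 5 → F) : Q5 (yM r t *ᵥ v) = Q5 v := by
  interval_cases r <;>
  · unfold yM Q5
    simp [Matrix.mulVec, dotProduct, Fin.sum_univ_succ]
    ring

end Cfsg.Agent.Helper7.B2O
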