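import Mathlib
import Cfsg.Agent.Helper7.B2OA

set_option autoImplicit false
set_option maxHeartbeats 1600000

/-!
The commutator relations of the root elements of the five-dimensional orthogonal group.
-/

namespace Cfsg.Agent.Helper7.B2O

open Cfsg Cfsg.Lie Matrix

variable {F : Type*} [Field F]

/-- The product of the root elements of a word. -/
def wordM (w : List (ℕ × F)) : Matrix (Fin 5) (Fin 5) F := (w.map fun p => yM p.1 p.2).prod

theorem comm_0_1 (t u : F) :
    yM 1 (-u) * yM 0 (-t) * yM 1 u * yM 0 t = wordM (chevB2.commWord F 0 1 t u) := by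
  have h : chevB2.commTerms 0 1 = [] := by decide
  unfold ChevalleyDatum.commWord wordM
  rw [h]
  simp only [List.map_cons, List.map_nil, List.prod_cons, List.prod_nil, mul_one]
  unfold yM
  ext i j
  fin_cases i <;> fin_cases j <;> simp [Matrix.mul_apply, Fin.sum_univ_succ] <;> ring

theorem comm_0_2 (t u : F) :
    yM 2 (-u) * yM 0 (-t) * yM 2 u * yM 0 t = wordM (chevB2.commWord F 0 2 t u) := by
  have h : chevB2.commTerms 0 2 = [] := by decide
  unfold ChevalleyDatum.commWord wordM
  rw [h]
  simp only [List.map_cons, List.map_nil, List.prod_cons, List.prod_nil, mul_one]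
  unfold yM
  ext i j
  fin_cases i <;> fin_cases j <;> simp [Matrix.mul_apply, Fin.sum_univ_succ] <;> ring

theorem comm_0_3 (t u : F) :
    yM 3 (-u) * yM 0 (-t) * yM 3 u * yM 0 t = wordM (chevB2.commWord F 0 3 t u) := by
  have h : chevB2.commTerms 0 3 = [] := by decide
  unfold ChevalleyDatum.commWord wordM
  rw [h]
  simp only [List.map_cons, List.map_nil, List.prod_cons, List.prod_nil, mul_one]
  unfold yM
  ext i j
  fin_cases i <;> fin_cases j <;> simp [Matrix.mul_apply, Fin.sum_univ_succ] <;> ring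

theorem comm_0_4 (t u : F) :
    yM 4 (-u) * yM 0 (-t) * yM 4 u * yM 0 t = wordM (chevB2.commWord F 0 4 t u) := by
  have h : chevB2.commTerms 0 4 = [] := by decide
  unfold ChevalleyDatum.commWord wordM
  rw [h]
  simp only [List.map_cons, List.map_nil, List.prod_cons, List.prod_nil, mul_one]
  unfold yM
  ext i j
  fin_cases i <;> fin_cases j <;> simp [Matrix.mul_apply, Fin.sum_univ_succ] <;> ring

theorem comm_0_5 (t u : F) :
    yM 5 (-u) * yM 0 (-t) * yM 5 u * yM 0 t = wordM (chevB2.commWord F 0 5 t u) := by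
  have h : chevB2.commTerms 0 5 = [(1, 1, 1, 1), (3, -1, 1, 2)] := by decide
  unfold ChevalleyDatum.commWord wordM
  rw [h]
  simp only [List.map_cons, List.map_nil, List.prod_cons, List.prod_nil, mul_one]
  unfold yM
  ext i j
  fin_cases i <;> fin_cases j <;> simp [Matrix.mul_apply, Fin.sum_univ_succ] <;> ring

theorem comm_0_6 (t u : F) :
    yM 6 (-u) * yM 0 (-t) * yM 6 u * yM 0 t = wordM (chevB2.commWord F 0 6 t u) := by
  have h : chevB2.commTerms 0 6 = [(2, -1, 1, 1), (4, 1, 1, 2)] := by decide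
  unfold ChevalleyDatum.commWord wordM
  rw [h]
  simp only [List.map_cons, List.map_nil, List.prod_cons, List.prod_nil, mul_one]
  unfold yM
  ext i j
  fin_cases i <;> fin_cases j <;> simp [Matrix.mul_apply, Fin.sum_univ_succ] <;> ring

theorem comm_1_0 (t u : F) :
    yM 0 (-u) * yM 1 (-t) * yM 0 u * yM 1 t = wordM (chevB2.commWord F 1 0 t u) := by
  have h : chevB2.commTerms 1 0 = [] := by decide
  unfold ChevalleyDatum.commWord wordM
  rw [h]
  simp only [List.map_cons, List.map_nil, List.prod_cons, List.prod_nil, mul_one]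
  unfold yM
  ext i j
  fin_cases i <;> fin_cases j <;> simp [Matrix.mul_apply, Fin.sum_univ_succ] <;> ring

theorem comm_1_2 (t u : F) :
    yM 2 (-u) * yM 1 (-t) * yM 2 u * yM 1 t = wordM (chevB2.commWord F 1 2 t u) := by
  have h : chevB2.commTerms 1 2 = [(0, 2, 1, 1)] := by decide
  unfold ChevalleyDatum.commWord wordM
  rw [h]
  simp only [List.map_cons, List.map_nil, List.prod_cons, List.prod_nil, mul_one]
  unfold yM
  ext i j
  fin_cases i <;> fin_cases j <;> simp [Matrix.mul_apply, Fin.sum_univ_succ] <;> ring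

theorem comm_1_3 (t u : F) :
    yM 3 (-u) * yM 1 (-t) * yM 3 u * yM 1 t = wordM (chevB2.commWord F 1 3 t u) := by
  have h : chevB2.commTerms 1 3 = [] := by decide
  unfold ChevalleyDatum.commWord wordM
  rw [h]
  simp only [List.map_cons, List.map_nil, List.prod_cons, List.prod_nil, mul_one]
  unfold yM
  ext i j
  fin_cases i <;> fin_cases j <;> simp [Matrix.mul_apply, Fin.sum_univ_succ] <;> ring

theorem comm_1_4 (t u : F) :
    yM 4 (-u) * yM 1 (-t) * yM 4 u * yM 1 t = wordM (chevB2.commWord F 1 4 t u) := by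
  have h : chevB2.commTerms 1 4 = [(2, 1, 1, 1), (0, 1, 2, 1)] := by decide
  unfold ChevalleyDatum.commWord wordM
  rw [h]
  simp only [List.map_cons, List.map_nil, List.prod_cons, List.prod_nil, mul_one]
  unfold yM
  ext i j
  fin_cases i <;> fin_cases j <;> simp [Matrix.mul_apply, Fin.sum_univ_succ] <;> ring

theorem comm_1_5 (t u : F) :
    yM 5 (-u) * yM 1 (-t) * yM 5 u * yM 1 t = wordM (chevB2.commWord F 1 5 t u) := by
  have h : chevB2.commTerms 1 5 = [(3, -2, 1, 1)] := by decide
  unfold ChevalleyDatum.commWord wordM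
  rw [h]
  simp only [List.map_cons, List.map_nil, List.prod_cons, List.prod_nil, mul_one]
  unfold yM
  ext i j
  fin_cases i <;> fin_cases j <;> simp [Matrix.mul_apply, Fin.sum_univ_succ] <;> ring

theorem comm_1_7 (t u : F) :
    yM 7 (-u) * yM 1 (-t) * yM 7 u * yM 1 t = wordM (chevB2.commWord F 1 7 t u) := by
  have h : chevB2.commTerms 1 7 = [(5, -1, 1, 1), (3, 1, 2, 1)] := by decide
  unfold ChevalleyDatum.commWord wordM
  rw [h]
  simp only [List.map_cons, List.map_nil, List.prod_cons, List.prod_nil, mul_one]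
  unfold yM
  ext i j
  fin_cases i <;> fin_cases j <;> simp [Matrix.mul_apply, Fin.sum_univ_succ] <;> ring

theorem comm_2_0 (t u : F) :
    yM 0 (-u) * yM 2 (-t) * yM 0 u * yM 2 t = wordM (chevB2.commWord F 2 0 t u) := by
  have h : chevB2.commTerms 2 0 = [] := by decide
  unfold ChevalleyDatum.commWord wordM
  rw [h]
  simp only [List.map_cons, List.map_nil, List.prod_cons, List.prod_nil, mul_one]
  unfold yM
  ext i j
  fin_cases i <;> fin_cases j <;> simp [Matrix.mul_apply, Fin.sum_univ_succ] <;> ring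

theorem comm_2_1 (t u : F) :
    yM 1 (-u) * yM 2 (-t) * yM 1 u * yM 2 t = wordM (chevB2.commWord F 2 1 t u) := by
  have h : chevB2.commTerms 2 1 = [(0, -2, 1, 1)] := by decide
  unfold ChevalleyDatum.commWord wordM
  rw [h]
  simp only [List.map_cons, List.map_nil, List.prod_cons, List.prod_nil, mul_one]
  unfold yM
  ext i j
  fin_cases i <;> fin_cases j <;> simp [Matrix.mul_apply, Fin.sum_univ_succ] <;> ring

theorem comm_2_3 (t u : F) :
    yM 3 (-u) * yM 2 (-t) * yM 3 u * yM 2 t = wordM (chevB2.commWord F 2 3 t u) := by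
  have h : chevB2.commTerms 2 3 = [(1, 1, 1, 1), (0, -1, 2, 1)] := by decide
  unfold ChevalleyDatum.commWord wordM
  rw [h]
  simp only [List.map_cons, List.map_nil, List.prod_cons, List.prod_nil, mul_one]
  unfold yM
  ext i j
  fin_cases i <;> fin_cases j <;> simp [Matrix.mul_apply, Fin.sum_univ_succ] <;> ring

theorem comm_2_4 (t u : F) :
    yM 4 (-u) * yM 2 (-t) * yM 4 u * yM 2 t = wordM (chevB2.commWord F 2 4 t u) := by
  have h : chevB2.commTerms 2 4 = [] := by decide
  unfold ChevalleyDatum.commWord wordM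
  rw [h]
  simp only [List.map_cons, List.map_nil, List.prod_cons, List.prod_nil, mul_one]
  unfold yM
  ext i j
  fin_cases i <;> fin_cases j <;> simp [Matrix.mul_apply, Fin.sum_univ_succ] <;> ring

theorem comm_2_6 (t u : F) :
    yM 6 (-u) * yM 2 (-t) * yM 6 u * yM 2 t = wordM (chevB2.commWord F 2 6 t u) := by
  have h : chevB2.commTerms 2 6 = [(4, -2, 1, 1)] := by decide
  unfold ChevalleyDatum.commWord wordM
  rw [h]
  simp only [List.map_cons, List.map_nil, List.prod_cons, List.prod_nil, mul_one]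
  unfold yM
  ext i j
  fin_cases i <;> fin_cases j <;> simp [Matrix.mul_apply, Fin.sum_univ_succ] <;> ring

theorem comm_2_7 (t u : F) :
    yM 7 (-u) * yM 2 (-t) * yM 7 u * yM 2 t = wordM (chevB2.commWord F 2 7 t u) := by
  have h : chevB2.commTerms 2 7 = [(6, 1, 1, 1), (4, -1, 2, 1)] := by decide
  unfold ChevalleyDatum.commWord wordM
  rw [h]
  simp only [List.map_cons, List.map_nil, List.prod_cons, List.prod_nil, mul_one]
  unfold yM
  ext i j
  fin_cases i <;> fin_cases j <;> simp [Matrix.mul_apply, Fin.sum_univ_succ] <;> ring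

theorem comm_3_0 (t u : F) :
    yM 0 (-u) * yM 3 (-t) * yM 0 u * yM 3 t = wordM (chevB2.commWord F 3 0 t u) := by
  have h : chevB2.commTerms 3 0 = [] := by decide
  unfold ChevalleyDatum.commWord wordM
  rw [h]
  simp only [List.map_cons, List.map_nil, List.prod_cons, List.prod_nil, mul_one]
  unfold yM
  ext i j
  fin_cases i <;> fin_cases j <;> simp [Matrix.mul_apply, Fin.sum_univ_succ] <;> ring

theorem comm_3_1 (t u : F) :
    yM 1 (-u) * yM 3 (-t) * yM 1 u * yM 3 t = wordM (chevB2.commWord F 3 1 t u) := by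
  have h : chevB2.commTerms 3 1 = [] := by decide
  unfold ChevalleyDatum.commWord wordM
  rw [h]
  simp only [List.map_cons, List.map_nil, List.prod_cons, List.prod_nil, mul_one]
  unfold yM
  ext i j
  fin_cases i <;> fin_cases j <;> simp [Matrix.mul_apply, Fin.sum_univ_succ] <;> ring

theorem comm_3_2 (t u : F) :
    yM 2 (-u) * yM 3 (-t) * yM 2 u * yM 3 t = wordM (chevB2.commWord F 3 2 t u) := by
  have h : chevB2.commTerms 3 2 = [(1, -1, 1, 1), (0, -1, 1, 2)] := by decide
  unfold ChevalleyDatum.commWord wordM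
  rw [h]
  simp only [List.map_cons, List.map_nil, List.prod_cons, List.prod_nil, mul_one]
  unfold yM
  ext i j
  fin_cases i <;> fin_cases j <;> simp [Matrix.mul_apply, Fin.sum_univ_succ] <;> ring

theorem comm_3_5 (t u : F) :
    yM 5 (-u) * yM 3 (-t) * yM 5 u * yM 3 t = wordM (chevB2.commWord F 3 5 t u) := by
  have h : chevB2.commTerms 3 5 = [] := by decide
  unfold ChevalleyDatum.commWord wordM
  rw [h]
  simp only [List.map_cons, List.map_nil, List.prod_cons, List.prod_nil, mul_one]
  unfold yM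
  ext i j
  fin_cases i <;> fin_cases j <;> simp [Matrix.mul_apply, Fin.sum_univ_succ] <;> ring

theorem comm_3_6 (t u : F) :
    yM 6 (-u) * yM 3 (-t) * yM 6 u * yM 3 t = wordM (chevB2.commWord F 3 6 t u) := by
  have h : chevB2.commTerms 3 6 = [(5, 1, 1, 1), (7, 1, 1, 2)] := by decide
  unfold ChevalleyDatum.commWord wordM
  rw [h]
  simp only [List.map_cons, List.map_nil, List.prod_cons, List.prod_nil, mul_one]
  unfold yM
  ext i j
  fin_cases i <;> fin_cases j <;> simp [Matrix.mul_apply, Fin.sum_univ_succ] <;> ring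

theorem comm_3_7 (t u : F) :
    yM 7 (-u) * yM 3 (-t) * yM 7 u * yM 3 t = wordM (chevB2.commWord F 3 7 t u) := by
  have h : chevB2.commTerms 3 7 = [] := by decide
  unfold ChevalleyDatum.commWord wordM
  rw [h]
  simp only [List.map_cons, List.map_nil, List.prod_cons, List.prod_nil, mul_one]
  unfold yM
  ext i j
  fin_cases i <;> fin_cases j <;> simp [Matrix.mul_apply, Fin.sum_univ_succ] <;> ring

theorem comm_4_0 (t u : F) :
    yM 0 (-u) * yM 4 (-t) * yM 0 u * yM 4 t = wordM (chevB2.commWord F 4 0 t u) := by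
  have h : chevB2.commTerms 4 0 = [] := by decide
  unfold ChevalleyDatum.commWord wordM
  rw [h]
  simp only [List.map_cons, List.map_nil, List.prod_cons, List.prod_nil, mul_one]
  unfold yM
  ext i j
  fin_cases i <;> fin_cases j <;> simp [Matrix.mul_apply, Fin.sum_univ_succ] <;> ring

theorem comm_4_1 (t u : F) :
    yM 1 (-u) * yM 4 (-t) * yM 1 u * yM 4 t = wordM (chevB2.commWord F 4 1 t u) := by
  have h : chevB2.commTerms 4 1 = [(2, -1, 1, 1), (0, 1, 1, 2)] := by decide
  unfold ChevalleyDatum.commWord wordM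
  rw [h]
  simp only [List.map_cons, List.map_nil, List.prod_cons, List.prod_nil, mul_one]
  unfold yM
  ext i j
  fin_cases i <;> fin_cases j <;> simp [Matrix.mul_apply, Fin.sum_univ_succ] <;> ring

theorem comm_4_2 (t u : F) :
    yM 2 (-u) * yM 4 (-t) * yM 2 u * yM 4 t = wordM (chevB2.commWord F 4 2 t u) := by
  have h : chevB2.commTerms 4 2 = [] := by decide
  unfold ChevalleyDatum.commWord wordM
  rw [h]
  simp only [List.map_cons, List.map_nil, List.prod_cons, List.prod_nil, mul_one]
  unfold yM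
  ext i j
  fin_cases i <;> fin_cases j <;> simp [Matrix.mul_apply, Fin.sum_univ_succ] <;> ring

theorem comm_4_5 (t u : F) :
    yM 5 (-u) * yM 4 (-t) * yM 5 u * yM 4 t = wordM (chevB2.commWord F 4 5 t u) := by
  have h : chevB2.commTerms 4 5 = [(6, 1, 1, 1), (7, -1, 1, 2)] := by decide
  unfold ChevalleyDatum.commWord wordM
  rw [h]
  simp only [List.map_cons, List.map_nil, List.prod_cons, List.prod_nil, mul_one]
  unfold yM
  ext i j
  fin_cases i <;> fin_cases j <;> simp [Matrix.mul_apply, Fin.sum_univ_succ] <;> ring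

theorem comm_4_6 (t u : F) :
    yM 6 (-u) * yM 4 (-t) * yM 6 u * yM 4 t = wordM (chevB2.commWord F 4 6 t u) := by
  have h : chevB2.commTerms 4 6 = [] := by decide
  unfold ChevalleyDatum.commWord wordM
  rw [h]
  simp only [List.map_cons, List.map_nil, List.prod_cons, List.prod_nil, mul_one]
  unfold yM
  ext i j
  fin_cases i <;> fin_cases j <;> simp [Matrix.mul_apply, Fin.sum_univ_succ] <;> ring

theorem comm_4_7 (t u : F) :
    yM 7 (-u) * yM 4 (-t) * yM 7 u * yM 4 t = wordM (chevB2.commWord F 4 7 t u) := by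
  have h : chevB2.commTerms 4 7 = [] := by decide
  unfold ChevalleyDatum.commWord wordM
  rw [h]
  simp only [List.map_cons, List.map_nil, List.prod_cons, List.prod_nil, mul_one]
  unfold yM
  ext i j
  fin_cases i <;> fin_cases j <;> simp [Matrix.mul_apply, Fin.sum_univ_succ] <;> ring

theorem comm_5_0 (t u : F) :
    yM 0 (-u) * yM 5 (-t) * yM 0 u * yM 5 t = wordM (chevB2.commWord F 5 0 t u) := by
  have h : chevB2.commTerms 5 0 = [(1, -1, 1, 1), (3, -1, 2, 1)] := by decide
  unfold ChevalleyDatum.commWord wordM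
  rw [h]
  simp only [List.map_cons, List.map_nil, List.prod_cons, List.prod_nil, mul_one]
  unfold yM
  ext i j
  fin_cases i <;> fin_cases j <;> simp [Matrix.mul_apply, Fin.sum_univ_succ] <;> ring

theorem comm_5_1 (t u : F) :
    yM 1 (-u) * yM 5 (-t) * yM 1 u * yM 5 t = wordM (chevB2.commWord F 5 1 t u) := by
  have h : chevB2.commTerms 5 1 = [(3, 2, 1, 1)] := by decide
  unfold ChevalleyDatum.commWord wordM
  rw [h]
  simp only [List.map_cons, List.map_nil, List.prod_cons, List.prod_nil, mul_one]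
  unfold yM
  ext i j
  fin_cases i <;> fin_cases j <;> simp [Matrix.mul_apply, Fin.sum_univ_succ] <;> ring

theorem comm_5_3 (t u : F) :
    yM 3 (-u) * yM 5 (-t) * yM 3 u * yM 5 t = wordM (chevB2.commWord F 5 3 t u) := by
  have h : chevB2.commTerms 5 3 = [] := by decide
  unfold ChevalleyDatum.commWord wordM
  rw [h]
  simp only [List.map_cons, List.map_nil, List.prod_cons, List.prod_nil, mul_one]
  unfold yM
  ext i j
  fin_cases i <;> fin_cases j <;> simp [Matrix.mul_apply, Fin.sum_univ_succ] <;> ring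

theorem comm_5_4 (t u : F) :
    yM 4 (-u) * yM 5 (-t) * yM 4 u * yM 5 t = wordM (chevB2.commWord F 5 4 t u) := by
  have h : chevB2.commTerms 5 4 = [(6, -1, 1, 1), (7, -1, 2, 1)] := by decide
  unfold ChevalleyDatum.commWord wordM
  rw [h]
  simp only [List.map_cons, List.map_nil, List.prod_cons, List.prod_nil, mul_one]
  unfold yM
  ext i j
  fin_cases i <;> fin_cases j <;> simp [Matrix.mul_apply, Fin.sum_univ_succ] <;> ring

theorem comm_5_6 (t u : F) :
    yM 6 (-u) * yM 5 (-t) * yM 6 u * yM 5 t = wordM (chevB2.commWord F 5 6 t u) := by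
  have h : chevB2.commTerms 5 6 = [(7, 2, 1, 1)] := by decide
  unfold ChevalleyDatum.commWord wordM
  rw [h]
  simp only [List.map_cons, List.map_nil, List.prod_cons, List.prod_nil, mul_one]
  unfold yM
  ext i j
  fin_cases i <;> fin_cases j <;> simp [Matrix.mul_apply, Fin.sum_univ_succ] <;> ring

theorem comm_5_7 (t u : F) :
    yM 7 (-u) * yM 5 (-t) * yM 7 u * yM 5 t = wordM (chevB2.commWord F 5 7 t u) := by
  have h : chevB2.commTerms 5 7 = [] := by decide
  unfold ChevalleyDatum.commWord wordM
  rw [h]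
  simp only [List.map_cons, List.map_nil, List.prod_cons, List.prod_nil, mul_one]
  unfold yM
  ext i j
  fin_cases i <;> fin_cases j <;> simp [Matrix.mul_apply, Fin.sum_univ_succ] <;> ring

theorem comm_6_0 (t u : F) :
    yM 0 (-u) * yM 6 (-t) * yM 0 u * yM 6 t = wordM (chevB2.commWord F 6 0 t u) := by
  have h : chevB2.commTerms 6 0 = [(2, 1, 1, 1), (4, 1, 2, 1)] := by decide
  unfold ChevalleyDatum.commWord wordM
  rw [h]
  simp only [List.map_cons, List.map_nil, List.prod_cons, List.prod_nil, mul_one]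
  unfold yM
  ext i j
  fin_cases i <;> fin_cases j <;> simp [Matrix.mul_apply, Fin.sum_univ_succ] <;> ring

theorem comm_6_2 (t u : F) :
    yM 2 (-u) * yM 6 (-t) * yM 2 u * yM 6 t = wordM (chevB2.commWord F 6 2 t u) := by
  have h : chevB2.commTerms 6 2 = [(4, 2, 1, 1)] := by decide
  unfold ChevalleyDatum.commWord wordM
  rw [h]
  simp only [List.map_cons, List.map_nil, List.prod_cons, List.prod_nil, mul_one]
  unfold yM
  ext i j
  fin_cases i <;> fin_cases j <;> simp [Matrix.mul_apply, Fin.sum_univ_succ] <;> ring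

theorem comm_6_3 (t u : F) :
    yM 3 (-u) * yM 6 (-t) * yM 3 u * yM 6 t = wordM (chevB2.commWord F 6 3 t u) := by
  have h : chevB2.commTerms 6 3 = [(5, -1, 1, 1), (7, 1, 2, 1)] := by decide
  unfold ChevalleyDatum.commWord wordM
  rw [h]
  simp only [List.map_cons, List.map_nil, List.prod_cons, List.prod_nil, mul_one]
  unfold yM
  ext i j
  fin_cases i <;> fin_cases j <;> simp [Matrix.mul_apply, Fin.sum_univ_succ] <;> ring

theorem comm_6_4 (t u : F) :
    yM 4 (-u) * yM 6 (-t) * yM 4 u * yM 6 t = wordM (chevB2.commWord F 6 4 t u) := by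
  have h : chevB2.commTerms 6 4 = [] := by decide
  unfold ChevalleyDatum.commWord wordM
  rw [h]
  simp only [List.map_cons, List.map_nil, List.prod_cons, List.prod_nil, mul_one]
  unfold yM
  ext i j
  fin_cases i <;> fin_cases j <;> simp [Matrix.mul_apply, Fin.sum_univ_succ] <;> ring

theorem comm_6_5 (t u : F) :
    yM 5 (-u) * yM 6 (-t) * yM 5 u * yM 6 t = wordM (chevB2.commWord F 6 5 t u) := by
  have h : chevB2.commTerms 6 5 = [(7, -2, 1, 1)] := by decide
  unfold ChevalleyDatum.commWord wordM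
  rw [h]
  simp only [List.map_cons, List.map_nil, List.prod_cons, List.prod_nil, mul_one]
  unfold yM
  ext i j
  fin_cases i <;> fin_cases j <;> simp [Matrix.mul_apply, Fin.sum_univ_succ] <;> ring

theorem comm_6_7 (t u : F) :
    yM 7 (-u) * yM 6 (-t) * yM 7 u * yM 6 t = wordM (chevB2.commWord F 6 7 t u) := by
  have h : chevB2.commTerms 6 7 = [] := by decide
  unfold ChevalleyDatum.commWord wordM
  rw [h]
  simp only [List.map_cons, List.map_nil, List.prod_cons, List.prod_nil, mul_one]
  unfold yM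
  ext i j
  fin_cases i <;> fin_cases j <;> simp [Matrix.mul_apply, Fin.sum_univ_succ] <;> ring

theorem comm_7_1 (t u : F) :
    yM 1 (-u) * yM 7 (-t) * yM 1 u * yM 7 t = wordM (chevB2.commWord F 7 1 t u) := by
  have h : chevB2.commTerms 7 1 = [(5, 1, 1, 1), (3, 1, 1, 2)] := by decide
  unfold ChevalleyDatum.commWord wordM
  rw [h]
  simp only [List.map_cons, List.map_nil, List.prod_cons, List.prod_nil, mul_one]
  unfold yM
  ext i j
  fin_cases i <;> fin_cases j <;> simp [Matrix.mul_apply, Fin.sum_univ_succ] <;> ring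

theorem comm_7_2 (t u : F) :
    yM 2 (-u) * yM 7 (-t) * yM 2 u * yM 7 t = wordM (chevB2.commWord F 7 2 t u) := by
  have h : chevB2.commTerms 7 2 = [(6, -1, 1, 1), (4, -1, 1, 2)] := by decide
  unfold ChevalleyDatum.commWord wordM
  rw [h]
  simp only [List.map_cons, List.map_nil, List.prod_cons, List.prod_nil, mul_one]
  unfold yM
  ext i j
  fin_cases i <;> fin_cases j <;> simp [Matrix.mul_apply, Fin.sum_univ_succ] <;> ring

theorem comm_7_3 (t u : F) :
    yM 3 (-u) * yM 7 (-t) * yM 3 u * yM 7 t = wordM (chevB2.commWord F 7 3 t u) := by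
  have h : chevB2.commTerms 7 3 = [] := by decide
  unfold ChevalleyDatum.commWord wordM
  rw [h]
  simp only [List.map_cons, List.map_nil, List.prod_cons, List.prod_nil, mul_one]
  unfold yM
  ext i j
  fin_cases i <;> fin_cases j <;> simp [Matrix.mul_apply, Fin.sum_univ_succ] <;> ring

theorem comm_7_4 (t u : F) :
    yM 4 (-u) * yM 7 (-t) * yM 4 u * yM 7 t = wordM (chevB2.commWord F 7 4 t u) := by
  have h : chevB2.commTerms 7 4 = [] := by decide
  unfold ChevalleyDatum.commWord wordM
  rw [h]
  simp only [List.map_cons, List.map_nil, List.prod_cons, List.prod_nil, mul_one]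
  unfold yM
  ext i j
  fin_cases i <;> fin_cases j <;> simp [Matrix.mul_apply, Fin.sum_univ_succ] <;> ring

theorem comm_7_5 (t u : F) :
    yM 5 (-u) * yM 7 (-t) * yM 5 u * yM 7 t = wordM (chevB2.commWord F 7 5 t u) := by
  have h : chevB2.commTerms 7 5 = [] := by decide
  unfold ChevalleyDatum.commWord wordM
  rw [h]
  simp only [List.map_cons, List.map_nil, List.prod_cons, List.prod_nil, mul_one]
  unfold yM
  ext i j
  fin_cases i <;> fin_cases j <;> simp [Matrix.mul_apply, Fin.sum_univ_succ] <;> ring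

theorem comm_7_6 (t u : F) :
    yM 6 (-u) * yM 7 (-t) * yM 6 u * yM 7 t = wordM (chevB2.commWord F 7 6 t u) := by
  have h : chevB2.commTerms 7 6 = [] := by decide
  unfold ChevalleyDatum.commWord wordM
  rw [h]
  simp only [List.map_cons, List.map_nil, List.prod_cons, List.prod_nil, mul_one]
  unfold yM
  ext i j
  fin_cases i <;> fin_cases j <;> simp [Matrix.mul_apply, Fin.sum_univ_succ] <;> ring


end Cfsg.Agent.Helper7.B2O
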