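import Mathlib
import Cfsg.Agent.Helper7.B2OB

set_option autoImplicit false

namespace Cfsg.Agent.Helper7.B2O

open Cfsg Cfsg.Lie Matrix

variable {F : Type*} [Field F]

theorem yM_comm {r s : ℕ} (hr : r < 8) (hs : s < 8) (hsr : s ≠ r) (hsn : s ≠ 7 - r) (t u : F) :
    yM s (-u) * yM r (-t) * yM s u * yM r t = wordM (chevB2.commWord F r s t u) := by
  interval_cases r
  · interval_cases s
    · omega
    · exact comm_0_1 t u
    · exact comm_0_2 t u
    · exact comm_0_3 t u
    · exact comm_0_4 t u
    · exact comm_0_5 t u
    · exact comm_0_6 t u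
    · omega
  · interval_cases s
    · exact comm_1_0 t u
    · omega
    · exact comm_1_2 t u
    · exact comm_1_3 t u
    · exact comm_1_4 t u
    · exact comm_1_5 t u
    · omega
    · exact comm_1_7 t u
  · interval_cases s
    · exact comm_2_0 t u
    · exact comm_2_1 t u
    · omega
    · exact comm_2_3 t u
    · exact comm_2_4 t u
    · omega
    · exact comm_2_6 t u
    · exact comm_2_7 t u
  · interval_cases s
    · exact comm_3_0 t u
    · exact comm_3_1 t u
    · exact comm_3_2 t u
    · omega
    · omega
    · exact comm_3_5 t u
    · exact comm_3_6 t u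
    · exact comm_3_7 t u
  · interval_cases s
    · exact comm_4_0 t u
    · exact comm_4_1 t u
    · exact comm_4_2 t u
    · omega
    · omega
    · exact comm_4_5 t u
    · exact comm_4_6 t u
    · exact comm_4_7 t u
  · interval_cases s
    · exact comm_5_0 t u
    · exact comm_5_1 t u
    · omega
    · exact comm_5_3 t u
    · exact comm_5_4 t u
    · omega
    · exact comm_5_6 t u
    · exact comm_5_7 t u
  · interval_cases s
    · exact comm_6_0 t u
    · omega
    · exact comm_6_2 t u
    · exact comm_6_3 t u
    · exact comm_6_4 t u
    · exact comm_6_5 t u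
    · omega
    · exact comm_6_7 t u
  · interval_cases s
    · omega
    · exact comm_7_1 t u
    · exact comm_7_2 t u
    · exact comm_7_3 t u
    · exact comm_7_4 t u
    · exact comm_7_5 t u
    · exact comm_7_6 t u
    · omega

end Cfsg.Agent.Helper7.B2O
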