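import Mathlib
import Cfsg.Agent.Helper7.B2OA
import Cfsg.Prelude.Def_Steinberg

set_option autoImplicit false
set_option maxHeartbeats 1600000

/-!
The elements `n_r(t)`, `h_r(t)` of the five-dimensional orthogonal group and the relation (R3).
-/

namespace Cfsg.Agent.Helper7.B2O

open Cfsg Cfsg.Lie Matrix

variable {F : Type*} [Field F]

/-- The diagonal of `h_r(t)`. -/
def hD (r : ℕ) (t : F) : Fin 5 → F :=
  match r with
  | 0 => ![1, t⁻¹, t⁻¹, t, t]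
  | 1 => ![1, (t ^ 2)⁻¹, 1, t ^ 2, 1]
  | 2 => ![1, 1, (t ^ 2)⁻¹, 1, t ^ 2]
  | 3 => ![1, t⁻¹, t, t, t⁻¹]
  | 4 => ![1, t, t⁻¹, t⁻¹, t]
  | 5 => ![1, 1, t ^ 2, 1, (t ^ 2)⁻¹]
  | 6 => ![1, t ^ 2, 1, (t ^ 2)⁻¹, 1]
  | 7 => ![1, t, t, t⁻¹, t⁻¹]
  | _ => 1

/-- The monomial matrix of `n_r(t)`. -/
def nE (r : ℕ) (t : F) : Matrix (Fin 5) (Fin 5) F :=
  match r with
  | 0 => !![1, 0, 0, 0, 0; 0, 0, 0, 0, t⁻¹; 0, 0, 0, -t⁻¹, 0; 0, 0, t, 0, 0; 0, -t, 0, 0, 0]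
  | 1 => !![-1, 0, 0, 0, 0; 0, 0, 0, -(t ^ 2)⁻¹, 0; 0, 0, 1, 0, 0; 0, -t ^ 2, 0, 0, 0; 0, 0, 0, 0, 1]
  | 2 => !![-1, 0, 0, 0, 0; 0, 1, 0, 0, 0; 0, 0, 0, 0, -(t ^ 2)⁻¹; 0, 0, 0, 1, 0; 0, 0, -t ^ 2, 0, 0]
  | 3 => !![1, 0, 0, 0, 0; 0, 0, t⁻¹, 0, 0; 0, -t, 0, 0, 0; 0, 0, 0, 0, t; 0, 0, 0, -t⁻¹, 0]
  | 4 => !![1, 0, 0, 0, 0; 0, 0, -t, 0, 0; 0, t⁻¹, 0, 0, 0; 0, 0, 0, 0, -t⁻¹; 0, 0, 0, t, 0]
  | 5 => !![-1, 0, 0, 0, 0; 0, 1, 0, 0, 0; 0, 0, 0, 0, -t ^ 2; 0, 0, 0, 1, 0; 0, 0, -(t ^ 2)⁻¹, 0, 0]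
  | 6 => !![-1, 0, 0, 0, 0; 0, 0, 0, -t ^ 2, 0; 0, 0, 1, 0, 0; 0, -(t ^ 2)⁻¹, 0, 0, 0; 0, 0, 0, 0, 1]
  | 7 => !![1, 0, 0, 0, 0; 0, 0, 0, 0, -t; 0, 0, 0, t, 0; 0, 0, -t⁻¹, 0, 0; 0, t⁻¹, 0, 0, 0]
  | _ => 1

/-- The element `n_r(t)`. -/
def nM5 (r : ℕ) (t : F) : Matrix (Fin 5) (Fin 5) F := yM r t * yM (7 - r) (-t⁻¹) * yM r t

/-- The element `h_r(t)`. -/
def hM5 (r : ℕ) (t : F) : Matrix (Fin 5) (Fin 5) F := nM5 r t * nM5 r (-1)

theorem nM5_eq_0 {t : F} (ht : t ≠ 0) : nM5 0 t = nE 0 t := by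
  unfold nM5 nE
  simp only [Nat.reduceSub]
  unfold yM
  ext i j
  fin_cases i <;> fin_cases j <;> simp [Matrix.mul_apply, Fin.sum_univ_succ] <;>
    first | done | ring1 | (field_simp; first | done | ring1 | simp)

theorem nE_mul_0 {t : F} (ht : t ≠ 0) : nE 0 t * nE 0 (-1) = Matrix.diagonal (hD 0 t) := by
  unfold nE hD
  ext i j
  fin_cases i <;> fin_cases j <;> simp [Matrix.mul_apply, Fin.sum_univ_succ, Matrix.diagonal]

theorem nM5_eq_1 {t : F} (ht : t ≠ 0) : nM5 1 t = nE 1 t := by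
  unfold nM5 nE
  simp only [Nat.reduceSub]
  unfold yM
  ext i j
  fin_cases i <;> fin_cases j <;> simp [Matrix.mul_apply, Fin.sum_univ_succ] <;>
    first | done | ring1 | (field_simp; first | done | ring1 | simp)

theorem nE_mul_1 {t : F} (ht : t ≠ 0) : nE 1 t * nE 1 (-1) = Matrix.diagonal (hD 1 t) := by
  unfold nE hD
  ext i j
  fin_cases i <;> fin_cases j <;> simp [Matrix.mul_apply, Fin.sum_univ_succ, Matrix.diagonal]

theorem nM5_eq_2 {t : F} (ht : t ≠ 0) : nM5 2 t = nE 2 t := by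
  unfold nM5 nE
  simp only [Nat.reduceSub]
  unfold yM
  ext i j
  fin_cases i <;> fin_cases j <;> simp [Matrix.mul_apply, Fin.sum_univ_succ] <;>
    first | done | ring1 | (field_simp; first | done | ring1 | simp)

theorem nE_mul_2 {t : F} (ht : t ≠ 0) : nE 2 t * nE 2 (-1) = Matrix.diagonal (hD 2 t) := by
  unfold nE hD
  ext i j
  fin_cases i <;> fin_cases j <;> simp [Matrix.mul_apply, Fin.sum_univ_succ, Matrix.diagonal]

theorem nM5_eq_3 {t : F} (ht : t ≠ 0) : nM5 3 t = nE 3 t := by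
  unfold nM5 nE
  simp only [Nat.reduceSub]
  unfold yM
  ext i j
  fin_cases i <;> fin_cases j <;> simp [Matrix.mul_apply, Fin.sum_univ_succ] <;>
    first | done | ring1 | (field_simp; first | done | ring1 | simp)

theorem nE_mul_3 {t : F} (ht : t ≠ 0) : nE 3 t * nE 3 (-1) = Matrix.diagonal (hD 3 t) := by
  unfold nE hD
  ext i j
  fin_cases i <;> fin_cases j <;> simp [Matrix.mul_apply, Fin.sum_univ_succ, Matrix.diagonal]

theorem nM5_eq_4 {t : F} (ht : t ≠ 0) : nM5 4 t = nE 4 t := by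
  unfold nM5 nE
  simp only [Nat.reduceSub]
  unfold yM
  ext i j
  fin_cases i <;> fin_cases j <;> simp [Matrix.mul_apply, Fin.sum_univ_succ] <;>
    first | done | ring1 | (field_simp; first | done | ring1 | simp)

theorem nE_mul_4 {t : F} (ht : t ≠ 0) : nE 4 t * nE 4 (-1) = Matrix.diagonal (hD 4 t) := by
  unfold nE hD
  ext i j
  fin_cases i <;> fin_cases j <;> simp [Matrix.mul_apply, Fin.sum_univ_succ, Matrix.diagonal]

theorem nM5_eq_5 {t : F} (ht : t ≠ 0) : nM5 5 t = nE 5 t := by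
  unfold nM5 nE
  simp only [Nat.reduceSub]
  unfold yM
  ext i j
  fin_cases i <;> fin_cases j <;> simp [Matrix.mul_apply, Fin.sum_univ_succ] <;>
    first | done | ring1 | (field_simp; first | done | ring1 | simp)

theorem nE_mul_5 {t : F} (ht : t ≠ 0) : nE 5 t * nE 5 (-1) = Matrix.diagonal (hD 5 t) := by
  unfold nE hD
  ext i j
  fin_cases i <;> fin_cases j <;> simp [Matrix.mul_apply, Fin.sum_univ_succ, Matrix.diagonal]

theorem nM5_eq_6 {t : F} (ht : t ≠ 0) : nM5 6 t = nE 6 t := by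
  unfold nM5 nE
  simp only [Nat.reduceSub]
  unfold yM
  ext i j
  fin_cases i <;> fin_cases j <;> simp [Matrix.mul_apply, Fin.sum_univ_succ] <;>
    first | done | ring1 | (field_simp; first | done | ring1 | simp)

theorem nE_mul_6 {t : F} (ht : t ≠ 0) : nE 6 t * nE 6 (-1) = Matrix.diagonal (hD 6 t) := by
  unfold nE hD
  ext i j
  fin_cases i <;> fin_cases j <;> simp [Matrix.mul_apply, Fin.sum_univ_succ, Matrix.diagonal]

theorem nM5_eq_7 {t : F} (ht : t ≠ 0) : nM5 7 t = nE 7 t := by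
  unfold nM5 nE
  simp only [Nat.reduceSub]
  unfold yM
  ext i j
  fin_cases i <;> fin_cases j <;> simp [Matrix.mul_apply, Fin.sum_univ_succ] <;>
    first | done | ring1 | (field_simp; first | done | ring1 | simp)

theorem nE_mul_7 {t : F} (ht : t ≠ 0) : nE 7 t * nE 7 (-1) = Matrix.diagonal (hD 7 t) := by
  unfold nE hD
  ext i j
  fin_cases i <;> fin_cases j <;> simp [Matrix.mul_apply, Fin.sum_univ_succ, Matrix.diagonal]

theorem hM5_eq {r : ℕ} (hr : r < 8) {t : F} (ht : t ≠ 0) : hM5 r t = Matrix.diagonal (hD r t) := by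
  have h1 : (-1 : F) ≠ 0 := neg_ne_zero.mpr one_ne_zero
  unfold hM5
  interval_cases r
  · rw [nM5_eq_0 ht, nM5_eq_0 h1, nE_mul_0 ht]
  · rw [nM5_eq_1 ht, nM5_eq_1 h1, nE_mul_1 ht]
  · rw [nM5_eq_2 ht, nM5_eq_2 h1, nE_mul_2 ht]
  · rw [nM5_eq_3 ht, nM5_eq_3 h1, nE_mul_3 ht]
  · rw [nM5_eq_4 ht, nM5_eq_4 h1, nE_mul_4 ht]
  · rw [nM5_eq_5 ht, nM5_eq_5 h1, nE_mul_5 ht]
  · rw [nM5_eq_6 ht, nM5_eq_6 h1, nE_mul_6 ht]
  · rw [nM5_eq_7 ht, nM5_eq_7 h1, nE_mul_7 ht]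

theorem hD_mul {r : ℕ} (t u : F) : hD r t * hD r u = hD r (t * u) := by
  by_cases hr : r < 8
  · interval_cases r <;>
    · unfold hD
      ext i
      fin_cases i <;> simp [mul_pow, mul_comm]
  · unfold hD
    split <;> first | omega | simp

theorem hM5_mul {r : ℕ} (hr : r < 8) {t u : F} (ht : t ≠ 0) (hu : u ≠ 0) :
    hM5 r t * hM5 r u = hM5 r (t * u) := by
  rw [hM5_eq hr ht, hM5_eq hr hu, hM5_eq hr (mul_ne_zero ht hu), Matrix.diagonal_mul_diagonal]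
  congr 1
  funext i
  exact congrFun (hD_mul (r := r) t u) i

end Cfsg.Agent.Helper7.B2O
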