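import Mathlib
import Cfsg.Agent.Helper7.B2OA
import Cfsg.Prelude.Def_Classical

set_option autoImplicit false
set_option maxHeartbeats 1600000

/-!
The group generated by the root elements of the five-dimensional orthogonal group: invertibility, the
torus, and the action on vectors.
-/

namespace Cfsg.Agent.Helper7.B2O

open Cfsg Cfsg.Lie Matrix

variable {F : Type*} [Field F]

theorem yM_mulVec_0 (t : F) (v : Fin 5 → F) :
    yM 0 t *ᵥ v = ![v 0, v 1, v 2, t * v 2 + v 3, (-t) * v 1 + v 4] := by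
  ext i; fin_cases i <;> simp [yM, Matrix.mulVec, dotProduct, Fin.sum_univ_succ] <;> ring

theorem yM_mulVec_1 (t : F) (v : Fin 5 → F) :
    yM 1 t *ᵥ v = ![v 0 + (-t) * v 1, v 1, v 2, 2 * t * v 0 + (-t ^ 2) * v 1 + v 3, v 4] := by
  ext i; fin_cases i <;> simp [yM, Matrix.mulVec, dotProduct, Fin.sum_univ_succ] <;> ring

theorem yM_mulVec_2 (t : F) (v : Fin 5 → F) :
    yM 2 t *ᵥ v = ![v 0 + t * v 2, v 1, v 2, v 3, (-2 * t) * v 0 + (-t ^ 2) * v 2 + v 4] := by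
  ext i; fin_cases i <;> simp [yM, Matrix.mulVec, dotProduct, Fin.sum_univ_succ] <;> ring

theorem yM_mulVec_3 (t : F) (v : Fin 5 → F) :
    yM 3 t *ᵥ v = ![v 0, v 1, (-t) * v 1 + v 2, v 3 + t * v 4, v 4] := by
  ext i; fin_cases i <;> simp [yM, Matrix.mulVec, dotProduct, Fin.sum_univ_succ] <;> ring

theorem yM_mulVec_4 (t : F) (v : Fin 5 → F) :
    yM 4 t *ᵥ v = ![v 0, v 1 + (-t) * v 2, v 2, v 3, t * v 3 + v 4] := by
  ext i; fin_cases i <;> simp [yM, Matrix.mulVec, dotProduct, Fin.sum_univ_succ] <;> ring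

theorem yM_mulVec_5 (t : F) (v : Fin 5 → F) :
    yM 5 t *ᵥ v = ![v 0 + (-t) * v 4, v 1, 2 * t * v 0 + v 2 + (-t ^ 2) * v 4, v 3, v 4] := by
  ext i; fin_cases i <;> simp [yM, Matrix.mulVec, dotProduct, Fin.sum_univ_succ] <;> ring

theorem yM_mulVec_6 (t : F) (v : Fin 5 → F) :
    yM 6 t *ᵥ v = ![v 0 + t * v 3, (-2 * t) * v 0 + v 1 + (-t ^ 2) * v 3, v 2, v 3, v 4] := by
  ext i; fin_cases i <;> simp [yM, Matrix.mulVec, dotProduct, Fin.sum_univ_succ] <;> ring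

theorem yM_mulVec_7 (t : F) (v : Fin 5 → F) :
    yM 7 t *ᵥ v = ![v 0, v 1 + (-t) * v 4, v 2 + t * v 3, v 3, v 4] := by
  ext i; fin_cases i <;> simp [yM, Matrix.mulVec, dotProduct, Fin.sum_univ_succ] <;> ring

theorem yM_of_ge {r : ℕ} (hr : ¬ r < 8) (t : F) : yM r t = 1 := by
  unfold yM
  split <;> first | omega | rfl

theorem yM_mul_neg (r : ℕ) (t : F) : yM r t * yM r (-t) = 1 := by
  by_cases hr : r < 8
  · rw [yM_add hr, add_neg_cancel, yM_zero]
  · rw [yM_of_ge hr, yM_of_ge hr, one_mul]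

theorem yM_neg_mul (r : ℕ) (t : F) : yM r (-t) * yM r t = 1 := by
  by_cases hr : r < 8
  · rw [yM_add hr, neg_add_cancel, yM_zero]
  · rw [yM_of_ge hr, yM_of_ge hr, one_mul]

/-- The root elements as invertible matrices. -/
def yG (r : ℕ) (t : F) : GL (Fin 5) F := ⟨yM r t, yM r (-t), yM_mul_neg r t, yM_neg_mul r t⟩

@[simp] theorem yG_coe (r : ℕ) (t : F) : ((yG r t : GL (Fin 5) F) : Matrix (Fin 5) (Fin 5) F) = yM r t := rfl

theorem yG_inv (r : ℕ) (t : F) : (yG r t)⁻¹ = yG r (-t) := by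
  apply Units.ext
  rfl

theorem yG_add {r : ℕ} (hr : r < 8) (t u : F) : yG r t * yG r u = yG r (t + u) := by
  apply Units.ext
  exact yM_add hr t u

theorem yG_of_ge {r : ℕ} (hr : ¬ r < 8) (t : F) : yG r t = 1 := by
  apply Units.ext
  exact yM_of_ge hr t

variable (F) in
/-- The subgroup generated by the root elements. -/
def E5 : Subgroup (GL (Fin 5) F) := Subgroup.closure {g | ∃ (r : ℕ) (t : F), r < 8 ∧ g = yG r t}

theorem yG_mem_E5 (r : ℕ) (t : F) : yG r t ∈ E5 F := by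
  by_cases hr : r < 8
  · exact Subgroup.subset_closure ⟨r, t, hr, rfl⟩
  · rw [yG_of_ge hr]; exact one_mem _

/-- The group of isometries. -/
abbrev G5 (F : Type*) [Field F] : Subgroup (GL (Fin 5) F) := isometryGroup F (Q5 (F := F))

theorem mem_G5 {g : GL (Fin 5) F} : g ∈ G5 F ↔ ∀ v, Q5 ((g : Matrix (Fin 5) (Fin 5) F) *ᵥ v) = Q5 v := by
  constructor
  · intro h v; exact h v v
  · intro h u _; exact h u

theorem yG_mem_G5 (r : ℕ) (t : F) : yG r t ∈ G5 F := by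
  rw [mem_G5]
  intro v
  by_cases hr : r < 8
  · exact Q5_yM hr t v
  · rw [yG_of_ge hr]; simp

theorem E5_le_G5 : E5 F ≤ G5 F := by
  unfold E5
  rw [Subgroup.closure_le]
  rintro g ⟨r, t, _, rfl⟩
  exact yG_mem_G5 r t

end Cfsg.Agent.Helper7.B2O
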