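import Mathlib
import Cfsg.Agent.Helper7.B2OE

set_option autoImplicit false
set_option maxHeartbeats 1600000

/-!
The diagonal isometries of the five-dimensional quadratic form and their action on the root elements.
-/

namespace Cfsg.Agent.Helper7.B2O

open Cfsg Cfsg.Lie Matrix

variable {F : Type*} [Field F]

/-- The diagonal matrices `diag(l, a, b, a⁻¹, b⁻¹)`. -/
def dM (l a b : F) : Matrix (Fin 5) (Fin 5) F := Matrix.diagonal ![l, a, b, a⁻¹, b⁻¹]

theorem dM_mul_dM (l a b l' a' b' : F) : dM l a b * dM l' a' b' = dM (l * l') (a * a') (b * b') := by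
  unfold dM
  rw [Matrix.diagonal_mul_diagonal]
  congr 1
  funext i
  fin_cases i <;> simp [mul_comm]

theorem dM_one : dM (1 : F) 1 1 = 1 := by
  unfold dM
  rw [← Matrix.diagonal_one]
  congr 1
  funext i
  fin_cases i <;> simp

theorem dM_mul_inv {l a b : F} (hl : l * l = 1) (ha : a ≠ 0) (hb : b ≠ 0) :
    dM l a b * dM l a⁻¹ b⁻¹ = 1 := by
  rw [dM_mul_dM, hl, mul_inv_cancel₀ ha, mul_inv_cancel₀ hb, dM_one]

theorem dM_inv_mul {l a b : F} (hl : l * l = 1) (ha : a ≠ 0) (hb : b ≠ 0) :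
    dM l a⁻¹ b⁻¹ * dM l a b = 1 := by
  rw [dM_mul_dM, hl, inv_mul_cancel₀ ha, inv_mul_cancel₀ hb, dM_one]

/-- The diagonal isometries as invertible matrices. -/
def dG {l a b : F} (hl : l * l = 1) (ha : a ≠ 0) (hb : b ≠ 0) : GL (Fin 5) F :=
  ⟨dM l a b, dM l a⁻¹ b⁻¹, dM_mul_inv hl ha hb, dM_inv_mul hl ha hb⟩

theorem dG_coe {l a b : F} (hl : l * l = 1) (ha : a ≠ 0) (hb : b ≠ 0) :
    ((dG hl ha hb : GL (Fin 5) F) : Matrix (Fin 5) (Fin 5) F) = dM l a b := rfl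

theorem dM_mulVec (l a b : F) (v : Fin 5 → F) :
    dM l a b *ᵥ v = ![l * v 0, a * v 1, b * v 2, a⁻¹ * v 3, b⁻¹ * v 4] := by
  unfold dM
  ext i
  rw [Matrix.mulVec_diagonal]
  fin_cases i <;> simp

theorem dG_mem_G5 {l a b : F} (hl : l * l = 1) (ha : a ≠ 0) (hb : b ≠ 0) : dG hl ha hb ∈ G5 F := by
  rw [mem_G5]
  intro v
  rw [dG_coe, dM_mulVec]
  unfold Q5
  simp only [Matrix.cons_val_zero, Matrix.cons_val_one, Matrix.cons_val]
  have e1 : a * v 1 * (a⁻¹ * v 3) = v 1 * v 3 := by field_simp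
  have e2 : b * v 2 * (b⁻¹ * v 4) = v 2 * v 4 := by field_simp
  have e3 : (l * v 0) ^ 2 = v 0 ^ 2 := by
    have : (l * v 0) ^ 2 = (l * l) * v 0 ^ 2 := by ring
    rw [this, hl, one_mul]
  rw [e1, e2, e3]

/-- The character of the diagonal isometries on the root elements. -/
def chi (r : ℕ) (l a b : F) : F :=
  match r with
  | 0 => (a * b)⁻¹
  | 1 => l * a⁻¹
  | 2 => l * b⁻¹
  | 3 => b * a⁻¹
  | 4 => a * b⁻¹
  | 5 => l * b
  | 6 => l * a
  | 7 => a * b
  | _ => 1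

theorem dM_mul_yM {l a b : F} (hl : l * l = 1) (ha : a ≠ 0) (hb : b ≠ 0) {r : ℕ} (hr : r < 8) (t : F) :
    dM l a b * yM r t = yM r (chi r l a b * t) * dM l a b := by
  have hl' : l = 1 ∨ l = -1 := mul_self_eq_one_iff.mp hl
  unfold dM
  interval_cases r <;>
  · unfold yM chi
    ext i j
    rw [Matrix.diagonal_mul, Matrix.mul_diagonal]
    rcases hl' with rfl | rfl <;>
    fin_cases i <;> fin_cases j <;> simp <;> first | done | ring1 | (field_simp; first | done | ring1)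

theorem dG_mul_yG {l a b : F} (hl : l * l = 1) (ha : a ≠ 0) (hb : b ≠ 0) {r : ℕ} (hr : r < 8) (t : F) :
    dG hl ha hb * yG r t * (dG hl ha hb)⁻¹ = yG r (chi r l a b * t) := by
  rw [mul_inv_eq_iff_eq_mul]
  apply Units.ext
  rw [Units.val_mul, Units.val_mul, dG_coe, yG_coe, yG_coe]
  exact dM_mul_yM hl ha hb hr t

theorem dG_conj_mem_E5 {l a b : F} (hl : l * l = 1) (ha : a ≠ 0) (hb : b ≠ 0) {e : GL (Fin 5) F}
    (he : e ∈ E5 F) : dG hl ha hb * e * (dG hl ha hb)⁻¹ ∈ E5 F := by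
  unfold E5 at he
  induction he using Subgroup.closure_induction with
  | mem x hx =>
    obtain ⟨r, t, hr, rfl⟩ := hx
    rw [dG_mul_yG hl ha hb hr]
    exact yG_mem_E5 _ _
  | one => rw [mul_one, mul_inv_cancel]; exact one_mem _
  | mul x y _ _ hx hy =>
    have e : dG hl ha hb * (x * y) * (dG hl ha hb)⁻¹ =
        (dG hl ha hb * x * (dG hl ha hb)⁻¹) * (dG hl ha hb * y * (dG hl ha hb)⁻¹) := by group
    rw [e]
    exact mul_mem hx hy
  | inv x _ hx =>
    have e : dG hl ha hb * x⁻¹ * (dG hl ha hb)⁻¹ = (dG hl ha hb * x * (dG hl ha hb)⁻¹)⁻¹ := by group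
    rw [e]
    exact inv_mem hx

theorem dG_mul_comm {l a b l' a' b' : F} (hl : l * l = 1) (ha : a ≠ 0) (hb : b ≠ 0)
    (hl' : l' * l' = 1) (ha' : a' ≠ 0) (hb' : b' ≠ 0) :
    dG hl ha hb * dG hl' ha' hb' = dG hl' ha' hb' * dG hl ha hb := by
  apply Units.ext
  rw [Units.val_mul, Units.val_mul, dG_coe, dG_coe, dM_mul_dM, dM_mul_dM, mul_comm l, mul_comm a, mul_comm b]

end Cfsg.Agent.Helper7.B2O
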