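import Mathlib
import Cfsg.Agent.Helper7.B2OF

set_option autoImplicit false
set_option maxHeartbeats 1600000

/-!
Every isometry of the five-dimensional quadratic form is the product of an element of the group generated
by the root elements and a diagonal isometry.
-/

namespace Cfsg.Agent.Helper7.B2O

open Cfsg Cfsg.Lie Matrix

variable {F : Type*} [Field F]

/-- The polar form. -/
def B5 (u v : Fin 5 → F) : F := 2 * u 0 * v 0 + u 1 * v 3 + u 3 * v 1 + u 2 * v 4 + u 4 * v 2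

theorem B5_eq (u v : Fin 5 → F) : B5 u v = Q5 (u + v) - Q5 u - Q5 v := by
  unfold B5 Q5
  simp only [Pi.add_apply]
  ring

theorem B5_map {g : GL (Fin 5) F} (hg : g ∈ G5 F) (u v : Fin 5 → F) :
    B5 ((g : Matrix (Fin 5) (Fin 5) F) *ᵥ u) ((g : Matrix (Fin 5) (Fin 5) F) *ᵥ v) = B5 u v := by
  rw [B5_eq, B5_eq, ← Matrix.mulVec_add, mem_G5.mp hg, mem_G5.mp hg, mem_G5.mp hg]

theorem Q5_map {g : GL (Fin 5) F} (hg : g ∈ G5 F) (v : Fin 5 → F) :
    Q5 ((g : Matrix (Fin 5) (Fin 5) F) *ᵥ v) = Q5 v := mem_G5.mp hg v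

/-- Making the coordinate `1` of a singular vector nonzero. -/
theorem exists_coord1_ne_zero {v : Fin 5 → F} (hv : v ≠ 0) (hQ : Q5 v = 0) :
    ∃ e ∈ E5 F, ((e : Matrix (Fin 5) (Fin 5) F) *ᵥ v) 1 ≠ 0 := by
  by_cases h1 : v 1 = 0
  · by_cases h2 : v 2 = 0
    · by_cases h4 : v 4 = 0
      · by_cases h3 : v 3 = 0
        · exfalso
          apply hv
          have h0 : v 0 = 0 := by
            unfold Q5 at hQ
            rw [h1, h2, zero_mul, zero_mul, add_zero, add_zero] at hQ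
            exact pow_eq_zero_iff (two_ne_zero) |>.mp hQ
          funext i
          fin_cases i <;> simp [h0, h1, h2, h3, h4]
        · have h0 : v 0 = 0 := by
            unfold Q5 at hQ
            rw [h1, h2, zero_mul, zero_mul, add_zero, add_zero] at hQ
            exact pow_eq_zero_iff (two_ne_zero) |>.mp hQ
          refine ⟨yG 6 1, yG_mem_E5 _ _, ?_⟩
          rw [yG_coe, yM_mulVec_6]
          simp [h0, h1, h3]
      · refine ⟨yG 7 1, yG_mem_E5 _ _, ?_⟩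
        rw [yG_coe, yM_mulVec_7]
        simp [h1, h4]
    · refine ⟨yG 4 1, yG_mem_E5 _ _, ?_⟩
      rw [yG_coe, yM_mulVec_4]
      simp [h1, h2]
  · exact ⟨1, one_mem _, by simpa using h1⟩

/-- Moving a singular vector with nonzero coordinate `1` to the first hyperbolic line. -/
theorem map_to_line1 {v : Fin 5 → F} (h1 : v 1 ≠ 0) (hQ : Q5 v = 0) :
    ∃ e ∈ E5 F, (e : Matrix (Fin 5) (Fin 5) F) *ᵥ v = ![0, v 1, 0, 0, 0] := by
  refine ⟨yG 0 (v 4 / v 1) * yG 3 (v 2 / v 1) * yG 1 (v 0 / v 1),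
    mul_mem (mul_mem (yG_mem_E5 _ _) (yG_mem_E5 _ _)) (yG_mem_E5 _ _), ?_⟩
  rw [Units.val_mul, Units.val_mul, ← Matrix.mulVec_mulVec, ← Matrix.mulVec_mulVec, yG_coe, yG_coe,
    yG_coe, yM_mulVec_1, yM_mulVec_3, yM_mulVec_0]
  unfold Q5 at hQ
  ext i
  fin_cases i
  · simp; field_simp; ring
  · simp
  · simp; field_simp; ring
  · simp; field_simp; linear_combination hQ
  · simp; field_simp; ring

/-- Moving a singular vector with nonzero coordinate `3` to the line of the opposite vector, fixing the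
first hyperbolic line. -/
theorem map_to_line3 {w : Fin 5 → F} (h3 : w 3 ≠ 0) (hQ : Q5 w = 0) :
    ∃ e ∈ E5 F, (e : Matrix (Fin 5) (Fin 5) F) *ᵥ w = ![0, 0, 0, w 3, 0] ∧
      ∀ c : F, (e : Matrix (Fin 5) (Fin 5) F) *ᵥ ![0, c, 0, 0, 0] = ![0, c, 0, 0, 0] := by
  refine ⟨yG 7 (-(w 2 / w 3)) * yG 4 (-(w 4 / w 3)) * yG 6 (-(w 0 / w 3)),
    mul_mem (mul_mem (yG_mem_E5 _ _) (yG_mem_E5 _ _)) (yG_mem_E5 _ _), ?_, ?_⟩
  · rw [Units.val_mul, Units.val_mul, ← Matrix.mulVec_mulVec, ← Matrix.mulVec_mulVec, yG_coe, yG_coe,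
      yG_coe, yM_mulVec_6, yM_mulVec_4, yM_mulVec_7]
    unfold Q5 at hQ
    ext i
    fin_cases i
    · simp; field_simp; ring
    · simp; field_simp; linear_combination hQ
    · simp; field_simp; ring
    · simp
    · simp; field_simp; ring
  · intro c
    rw [Units.val_mul, Units.val_mul, ← Matrix.mulVec_mulVec, ← Matrix.mulVec_mulVec, yG_coe, yG_coe,
      yG_coe, yM_mulVec_6, yM_mulVec_4, yM_mulVec_7]
    ext i
    fin_cases i <;> simp

/-- Moving a singular vector of the inner three-dimensional space to the second hyperbolic line. -/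
theorem map_to_line2 {v : Fin 5 → F} (hv : v ≠ 0) (h1 : v 1 = 0) (h3 : v 3 = 0) (hQ : Q5 v = 0) :
    ∃ e ∈ E5 F, ∃ c : F, c ≠ 0 ∧ (e : Matrix (Fin 5) (Fin 5) F) *ᵥ v = ![0, 0, c, 0, 0] ∧
      (∀ c : F, (e : Matrix (Fin 5) (Fin 5) F) *ᵥ ![0, c, 0, 0, 0] = ![0, c, 0, 0, 0]) ∧
      (∀ c : F, (e : Matrix (Fin 5) (Fin 5) F) *ᵥ ![0, 0, 0, c, 0] = ![0, 0, 0, c, 0]) := by
  -- first make the coordinate `2` nonzero
  have key : ∀ u : Fin 5 → F, u 2 ≠ 0 → u 1 = 0 → u 3 = 0 → Q5 u = 0 →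
      (yM 2 (-(u 0 / u 2))) *ᵥ u = ![0, 0, u 2, 0, 0] := by
    intro u h2 h1 h3 hQ
    rw [yM_mulVec_2]
    unfold Q5 at hQ
    rw [h1, zero_mul, add_zero] at hQ
    ext i
    fin_cases i
    · simp; field_simp; ring
    · simp [h1]
    · simp
    · simp [h3]
    · simp; field_simp; linear_combination hQ
  have fix1 : ∀ (r : ℕ) (t c : F), r = 2 ∨ r = 5 → yM r t *ᵥ ![0, c, 0, 0, 0] = ![0, c, 0, 0, 0] := by
    intro r t c hr
    rcases hr with rfl | rfl
    · rw [yM_mulVec_2]; ext i; fin_cases i <;> simp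
    · rw [yM_mulVec_5]; ext i; fin_cases i <;> simp
  have fix3 : ∀ (r : ℕ) (t c : F), r = 2 ∨ r = 5 → yM r t *ᵥ ![0, 0, 0, c, 0] = ![0, 0, 0, c, 0] := by
    intro r t c hr
    rcases hr with rfl | rfl
    · rw [yM_mulVec_2]; ext i; fin_cases i <;> simp
    · rw [yM_mulVec_5]; ext i; fin_cases i <;> simp
  by_cases h2 : v 2 = 0
  · -- then `v 0 = 0` and `v 4 ≠ 0`
    have h0 : v 0 = 0 := by
      unfold Q5 at hQ
      rw [h1, h2, zero_mul, zero_mul, add_zero, add_zero] at hQ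
      exact pow_eq_zero_iff (two_ne_zero) |>.mp hQ
    have h4 : v 4 ≠ 0 := by
      intro h4
      apply hv
      funext i
      fin_cases i <;> simp [h0, h1, h2, h3, h4]
    obtain ⟨u, hu⟩ : ∃ u : Fin 5 → F, u = yM 5 1 *ᵥ v := ⟨_, rfl⟩
    have hu' : u = ![-v 4, 0, -v 4, 0, v 4] := by
      rw [hu, yM_mulVec_5]
      ext i
      fin_cases i <;> simp [h0, h1, h2, h3]
    have hu2 : u 2 ≠ 0 := by rw [hu']; simpa using h4
    have hu1 : u 1 = 0 := by rw [hu']; simp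
    have hu3 : u 3 = 0 := by rw [hu']; simp
    have huQ : Q5 u = 0 := by
      rw [hu]
      have := Q5_map (yG_mem_G5 5 (1 : F)) v
      rw [yG_coe] at this
      rw [this, hQ]
    refine ⟨yG 2 (-(u 0 / u 2)) * yG 5 1, mul_mem (yG_mem_E5 _ _) (yG_mem_E5 _ _), u 2, hu2, ?_, ?_, ?_⟩
    · rw [Units.val_mul, ← Matrix.mulVec_mulVec, yG_coe, yG_coe, ← hu]
      exact key u hu2 hu1 hu3 huQ
    · intro c
      rw [Units.val_mul, ← Matrix.mulVec_mulVec, yG_coe, yG_coe, fix1 5 _ _ (Or.inr rfl),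
        fix1 2 _ _ (Or.inl rfl)]
    · intro c
      rw [Units.val_mul, ← Matrix.mulVec_mulVec, yG_coe, yG_coe, fix3 5 _ _ (Or.inr rfl),
        fix3 2 _ _ (Or.inl rfl)]
  · refine ⟨yG 2 (-(v 0 / v 2)), yG_mem_E5 _ _, v 2, h2, ?_, ?_, ?_⟩
    · rw [yG_coe]; exact key v h2 h1 h3 hQ
    · intro c; rw [yG_coe]; exact fix1 2 _ _ (Or.inl rfl)
    · intro c; rw [yG_coe]; exact fix3 2 _ _ (Or.inl rfl)

/-- Moving a singular vector of the inner three-dimensional space with nonzero coordinate `4` to the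
line of the opposite vector. -/
theorem map_to_line4 {w : Fin 5 → F} (h4 : w 4 ≠ 0) (h1 : w 1 = 0) (h3 : w 3 = 0) (hQ : Q5 w = 0) :
    ∃ e ∈ E5 F, (e : Matrix (Fin 5) (Fin 5) F) *ᵥ w = ![0, 0, 0, 0, w 4] ∧
      (∀ c : F, (e : Matrix (Fin 5) (Fin 5) F) *ᵥ ![0, c, 0, 0, 0] = ![0, c, 0, 0, 0]) ∧
      (∀ c : F, (e : Matrix (Fin 5) (Fin 5) F) *ᵥ ![0, 0, 0, c, 0] = ![0, 0, 0, c, 0]) ∧
      (∀ c : F, (e : Matrix (Fin 5) (Fin 5) F) *ᵥ ![0, 0, c, 0, 0] = ![0, 0, c, 0, 0]) := by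
  refine ⟨yG 5 (w 0 / w 4), yG_mem_E5 _ _, ?_, ?_, ?_, ?_⟩
  · rw [yG_coe, yM_mulVec_5]
    unfold Q5 at hQ
    rw [h1, zero_mul, add_zero] at hQ
    ext i
    fin_cases i
    · simp; field_simp; ring
    · simp [h1]
    · simp; field_simp; linear_combination hQ
    · simp [h3]
    · simp
  · intro c; rw [yG_coe, yM_mulVec_5]; ext i; fin_cases i <;> simp
  · intro c; rw [yG_coe, yM_mulVec_5]; ext i; fin_cases i <;> simp
  · intro c; rw [yG_coe, yM_mulVec_5]; ext i; fin_cases i <;> simp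

end Cfsg.Agent.Helper7.B2O
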