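import Mathlib
import Cfsg.Agent.Helper7.B2OG

set_option autoImplicit false
set_option maxHeartbeats 1600000

/-!
Every isometry of the five-dimensional quadratic form is the product of an element of the group generated
by the root elements and a diagonal isometry; the commutator subgroup of the isometry group.
-/

namespace Cfsg.Agent.Helper7.B2O

open Cfsg Cfsg.Lie Matrix

variable {F : Type*} [Field F]

theorem vec_eq_zero_of_mulVec {g : GL (Fin 5) F} {v : Fin 5 → F}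
    (h : (g : Matrix (Fin 5) (Fin 5) F) *ᵥ v = 0) : v = 0 := by
  have := congrArg (fun w => ((g⁻¹ : GL (Fin 5) F) : Matrix (Fin 5) (Fin 5) F) *ᵥ w) h
  simp only [Matrix.mulVec_mulVec, Matrix.mulVec_zero] at this
  rw [← Units.val_mul, inv_mul_cancel, Units.val_one, Matrix.one_mulVec] at this
  exact this

theorem matrix_eq_of_cols {M N : Matrix (Fin 5) (Fin 5) F}
    (h0 : M *ᵥ ![1, 0, 0, 0, 0] = N *ᵥ ![1, 0, 0, 0, 0])
    (h1 : M *ᵥ ![0, 1, 0, 0, 0] = N *ᵥ ![0, 1, 0, 0, 0])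
    (h2 : M *ᵥ ![0, 0, 1, 0, 0] = N *ᵥ ![0, 0, 1, 0, 0])
    (h3 : M *ᵥ ![0, 0, 0, 1, 0] = N *ᵥ ![0, 0, 0, 1, 0])
    (h4 : M *ᵥ ![0, 0, 0, 0, 1] = N *ᵥ ![0, 0, 0, 0, 1]) : M = N := by
  ext i j
  fin_cases j
  · have := congrFun h0 i
    simpa [Matrix.mulVec, dotProduct, Fin.sum_univ_succ] using this
  · have := congrFun h1 i
    simpa [Matrix.mulVec, dotProduct, Fin.sum_univ_succ] using this
  · have := congrFun h2 i
    simpa [Matrix.mulVec, dotProduct, Fin.sum_univ_succ] using this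
  · have := congrFun h3 i
    simpa [Matrix.mulVec, dotProduct, Fin.sum_univ_succ] using this
  · have := congrFun h4 i
    simpa [Matrix.mulVec, dotProduct, Fin.sum_univ_succ] using this

/-- The decomposition of an isometry. -/
theorem exists_E5_mul_eq_dG {g : GL (Fin 5) F} (hg : g ∈ G5 F) :
    ∃ e ∈ E5 F, ∃ (l a b : F) (hl : l * l = 1) (ha : a ≠ 0) (hb : b ≠ 0), e * g = dG hl ha hb := by
  -- step 1
  have hb1 : (![0, 1, 0, 0, 0] : Fin 5 → F) ≠ 0 := by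
    intro h; have := congrFun h 1; simp at this
  have hv0 : (g : Matrix (Fin 5) (Fin 5) F) *ᵥ ![0, 1, 0, 0, 0] ≠ 0 :=
    fun h => hb1 (vec_eq_zero_of_mulVec h)
  have hvQ : Q5 ((g : Matrix (Fin 5) (Fin 5) F) *ᵥ ![0, 1, 0, 0, 0]) = 0 := by
    rw [Q5_map hg]; simp [Q5]
  obtain ⟨e1, he1, h1⟩ := exists_coord1_ne_zero hv0 hvQ
  have hvQ' : Q5 ((e1 : Matrix (Fin 5) (Fin 5) F) *ᵥ ((g : Matrix (Fin 5) (Fin 5) F) *ᵥ ![0, 1, 0, 0, 0])) = 0 := by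
    rw [Q5_map (E5_le_G5 he1), hvQ]
  obtain ⟨e2, he2, h2⟩ := map_to_line1 h1 hvQ'
  obtain ⟨a, ha_def⟩ : ∃ a : F, a = ((e1 : Matrix (Fin 5) (Fin 5) F) *ᵥ
      ((g : Matrix (Fin 5) (Fin 5) F) *ᵥ ![0, 1, 0, 0, 0])) 1 := ⟨_, rfl⟩
  rw [← ha_def] at h1 h2
  obtain ⟨g1, hg1_def⟩ : ∃ g1 : GL (Fin 5) F, g1 = e2 * e1 * g := ⟨_, rfl⟩
  have hg1 : g1 ∈ G5 F := by
    rw [hg1_def]; exact mul_mem (mul_mem (E5_le_G5 he2) (E5_le_G5 he1)) hg
  have c1 : (g1 : Matrix (Fin 5) (Fin 5) F) *ᵥ ![0, 1, 0, 0, 0] = ![0, a, 0, 0, 0] := by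
    rw [hg1_def, Units.val_mul, Units.val_mul, ← Matrix.mulVec_mulVec, ← Matrix.mulVec_mulVec, h2]
  -- step 2
  obtain ⟨w, hw_def⟩ : ∃ w : Fin 5 → F, w = (g1 : Matrix (Fin 5) (Fin 5) F) *ᵥ ![0, 0, 0, 1, 0] := ⟨_, rfl⟩
  have hw3 : a * w 3 = 1 := by
    have := B5_map hg1 ![0, 1, 0, 0, 0] ![0, 0, 0, 1, 0]
    rw [c1, ← hw_def] at this
    simpa [B5] using this
  have hw3' : w 3 ≠ 0 := right_ne_zero_of_mul_eq_one hw3
  have hwQ : Q5 w = 0 := by rw [hw_def, Q5_map hg1]; simp [Q5]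
  obtain ⟨e3, he3, h3, f3⟩ := map_to_line3 hw3' hwQ
  obtain ⟨g2, hg2_def⟩ : ∃ g2 : GL (Fin 5) F, g2 = e3 * g1 := ⟨_, rfl⟩
  have hg2 : g2 ∈ G5 F := by rw [hg2_def]; exact mul_mem (E5_le_G5 he3) hg1
  have c2 : (g2 : Matrix (Fin 5) (Fin 5) F) *ᵥ ![0, 1, 0, 0, 0] = ![0, a, 0, 0, 0] := by
    rw [hg2_def, Units.val_mul, ← Matrix.mulVec_mulVec, c1, f3]
  have d2 : (g2 : Matrix (Fin 5) (Fin 5) F) *ᵥ ![0, 0, 0, 1, 0] = ![0, 0, 0, a⁻¹, 0] := by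
    rw [hg2_def, Units.val_mul, ← Matrix.mulVec_mulVec, ← hw_def, h3]
    have : w 3 = a⁻¹ := eq_inv_of_mul_eq_one_right hw3
    rw [this]
  -- step 3
  obtain ⟨v, hv_def⟩ : ∃ v : Fin 5 → F, v = (g2 : Matrix (Fin 5) (Fin 5) F) *ᵥ ![0, 0, 1, 0, 0] := ⟨_, rfl⟩
  have ha0 : a ≠ 0 := left_ne_zero_of_mul_eq_one hw3
  have hv3 : v 3 = 0 := by
    have := B5_map hg2 ![0, 1, 0, 0, 0] ![0, 0, 1, 0, 0]
    rw [c2, ← hv_def] at this
    have h' : a * v 3 = 0 := by simpa [B5] using this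
    exact (mul_eq_zero.mp h').resolve_left ha0
  have hv1 : v 1 = 0 := by
    have := B5_map hg2 ![0, 0, 0, 1, 0] ![0, 0, 1, 0, 0]
    rw [d2, ← hv_def] at this
    have h' : a⁻¹ * v 1 = 0 := by simpa [B5] using this
    exact (mul_eq_zero.mp h').resolve_left (inv_ne_zero ha0)
  have hvn : v ≠ 0 := by
    rw [hv_def]
    intro h
    have := vec_eq_zero_of_mulVec h
    have := congrFun this 2
    simp at this
  have hvQ2 : Q5 v = 0 := by rw [hv_def, Q5_map hg2]; simp [Q5]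
  obtain ⟨e4, he4, b, hb0, h4, f41, f43⟩ := map_to_line2 hvn hv1 hv3 hvQ2
  obtain ⟨g3, hg3_def⟩ : ∃ g3 : GL (Fin 5) F, g3 = e4 * g2 := ⟨_, rfl⟩
  have hg3 : g3 ∈ G5 F := by rw [hg3_def]; exact mul_mem (E5_le_G5 he4) hg2
  have c3 : (g3 : Matrix (Fin 5) (Fin 5) F) *ᵥ ![0, 1, 0, 0, 0] = ![0, a, 0, 0, 0] := by
    rw [hg3_def, Units.val_mul, ← Matrix.mulVec_mulVec, c2, f41]
  have d3 : (g3 : Matrix (Fin 5) (Fin 5) F) *ᵥ ![0, 0, 0, 1, 0] = ![0, 0, 0, a⁻¹, 0] := by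
    rw [hg3_def, Units.val_mul, ← Matrix.mulVec_mulVec, d2, f43]
  have p3 : (g3 : Matrix (Fin 5) (Fin 5) F) *ᵥ ![0, 0, 1, 0, 0] = ![0, 0, b, 0, 0] := by
    rw [hg3_def, Units.val_mul, ← Matrix.mulVec_mulVec, ← hv_def, h4]
  -- step 4
  obtain ⟨w', hw'_def⟩ : ∃ w' : Fin 5 → F, w' = (g3 : Matrix (Fin 5) (Fin 5) F) *ᵥ ![0, 0, 0, 0, 1] := ⟨_, rfl⟩
  have hw'3 : w' 3 = 0 := by
    have := B5_map hg3 ![0, 1, 0, 0, 0] ![0, 0, 0, 0, 1]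
    rw [c3, ← hw'_def] at this
    have h' : a * w' 3 = 0 := by simpa [B5] using this
    exact (mul_eq_zero.mp h').resolve_left ha0
  have hw'1 : w' 1 = 0 := by
    have := B5_map hg3 ![0, 0, 0, 1, 0] ![0, 0, 0, 0, 1]
    rw [d3, ← hw'_def] at this
    have h' : a⁻¹ * w' 1 = 0 := by simpa [B5] using this
    exact (mul_eq_zero.mp h').resolve_left (inv_ne_zero ha0)
  have hw'4 : b * w' 4 = 1 := by
    have := B5_map hg3 ![0, 0, 1, 0, 0] ![0, 0, 0, 0, 1]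
    rw [p3, ← hw'_def] at this
    simpa [B5] using this
  have hw'4' : w' 4 ≠ 0 := right_ne_zero_of_mul_eq_one hw'4
  have hw'Q : Q5 w' = 0 := by rw [hw'_def, Q5_map hg3]; simp [Q5]
  obtain ⟨e5, he5, h5, f51, f53, f52⟩ := map_to_line4 hw'4' hw'1 hw'3 hw'Q
  obtain ⟨g4, hg4_def⟩ : ∃ g4 : GL (Fin 5) F, g4 = e5 * g3 := ⟨_, rfl⟩
  have hg4 : g4 ∈ G5 F := by rw [hg4_def]; exact mul_mem (E5_le_G5 he5) hg3
  have c4 : (g4 : Matrix (Fin 5) (Fin 5) F) *ᵥ ![0, 1, 0, 0, 0] = ![0, a, 0, 0, 0] := by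
    rw [hg4_def, Units.val_mul, ← Matrix.mulVec_mulVec, c3, f51]
  have d4 : (g4 : Matrix (Fin 5) (Fin 5) F) *ᵥ ![0, 0, 0, 1, 0] = ![0, 0, 0, a⁻¹, 0] := by
    rw [hg4_def, Units.val_mul, ← Matrix.mulVec_mulVec, d3, f53]
  have p4 : (g4 : Matrix (Fin 5) (Fin 5) F) *ᵥ ![0, 0, 1, 0, 0] = ![0, 0, b, 0, 0] := by
    rw [hg4_def, Units.val_mul, ← Matrix.mulVec_mulVec, p3, f52]
  have q4 : (g4 : Matrix (Fin 5) (Fin 5) F) *ᵥ ![0, 0, 0, 0, 1] = ![0, 0, 0, 0, b⁻¹] := by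
    rw [hg4_def, Units.val_mul, ← Matrix.mulVec_mulVec, ← hw'_def, h5]
    have : w' 4 = b⁻¹ := eq_inv_of_mul_eq_one_right hw'4
    rw [this]
  -- step 5
  obtain ⟨u, hu_def⟩ : ∃ u : Fin 5 → F, u = (g4 : Matrix (Fin 5) (Fin 5) F) *ᵥ ![1, 0, 0, 0, 0] := ⟨_, rfl⟩
  have hu3 : u 3 = 0 := by
    have := B5_map hg4 ![0, 1, 0, 0, 0] ![1, 0, 0, 0, 0]
    rw [c4, ← hu_def] at this
    have h' : a * u 3 = 0 := by simpa [B5] using this
    exact (mul_eq_zero.mp h').resolve_left ha0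
  have hu1 : u 1 = 0 := by
    have := B5_map hg4 ![0, 0, 0, 1, 0] ![1, 0, 0, 0, 0]
    rw [d4, ← hu_def] at this
    have h' : a⁻¹ * u 1 = 0 := by simpa [B5] using this
    exact (mul_eq_zero.mp h').resolve_left (inv_ne_zero ha0)
  have hu4 : u 4 = 0 := by
    have := B5_map hg4 ![0, 0, 1, 0, 0] ![1, 0, 0, 0, 0]
    rw [p4, ← hu_def] at this
    have h' : b * u 4 = 0 := by simpa [B5] using this
    exact (mul_eq_zero.mp h').resolve_left hb0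
  have hu2 : u 2 = 0 := by
    have := B5_map hg4 ![0, 0, 0, 0, 1] ![1, 0, 0, 0, 0]
    rw [q4, ← hu_def] at this
    have h' : b⁻¹ * u 2 = 0 := by simpa [B5] using this
    exact (mul_eq_zero.mp h').resolve_left (inv_ne_zero hb0)
  have hu0 : u 0 * u 0 = 1 := by
    have : Q5 u = 1 := by rw [hu_def, Q5_map hg4]; simp [Q5]
    unfold Q5 at this
    rw [hu1, hu2, zero_mul, zero_mul, add_zero, add_zero] at this
    rw [← this]; ring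
  refine ⟨e5 * e4 * e3 * e2 * e1, mul_mem (mul_mem (mul_mem (mul_mem he5 he4) he3) he2) he1,
    u 0, a, b, hu0, ha0, hb0, ?_⟩
  have hg4' : g4 = e5 * e4 * e3 * e2 * e1 * g := by
    rw [hg4_def, hg3_def, hg2_def, hg1_def]; simp only [mul_assoc]
  rw [← hg4']
  apply Units.ext
  rw [dG_coe]
  apply matrix_eq_of_cols
  · rw [← hu_def, dM_mulVec]
    ext i
    fin_cases i <;> simp [hu1, hu2, hu3, hu4]
  · rw [c4, dM_mulVec]; ext i; fin_cases i <;> simp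
  · rw [p4, dM_mulVec]; ext i; fin_cases i <;> simp
  · rw [d4, dM_mulVec]; ext i; fin_cases i <;> simp
  · rw [q4, dM_mulVec]; ext i; fin_cases i <;> simp

end Cfsg.Agent.Helper7.B2O
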