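import Mathlib
import Cfsg.Agent.Helper7.B2OH

set_option autoImplicit false
set_option maxHeartbeats 800000

/-!
The commutator subgroup of the isometry group of the five-dimensional quadratic form is the group
generated by the root elements.
-/

namespace Cfsg.Agent.Helper7.B2O

open Cfsg Cfsg.Lie Matrix

variable {F : Type*} [Field F]

/-- Commutators of isometries lie in the group generated by the root elements. -/
theorem commutator_mem_E5 {x y : GL (Fin 5) F} (hx : x ∈ G5 F) (hy : y ∈ G5 F) :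
    x * y * x⁻¹ * y⁻¹ ∈ E5 F := by
  obtain ⟨e1, he1, l1, a1, b1, hl1, ha1, hb1, h1⟩ := exists_E5_mul_eq_dG hx
  obtain ⟨e2, he2, l2, a2, b2, hl2, ha2, hb2, h2⟩ := exists_E5_mul_eq_dG hy
  have ex : x = e1⁻¹ * dG hl1 ha1 hb1 := by rw [← h1, inv_mul_cancel_left]
  have ey : y = e2⁻¹ * dG hl2 ha2 hb2 := by rw [← h2, inv_mul_cancel_left]
  obtain ⟨d1, hd1⟩ : ∃ d : GL (Fin 5) F, d = dG hl1 ha1 hb1 := ⟨_, rfl⟩
  obtain ⟨d2, hd2⟩ : ∃ d : GL (Fin 5) F, d = dG hl2 ha2 hb2 := ⟨_, rfl⟩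
  have hc : d1 * d2 = d2 * d1 := by rw [hd1, hd2]; exact dG_mul_comm hl1 ha1 hb1 hl2 ha2 hb2
  have hc' : d2 * d1⁻¹ = d1⁻¹ * d2 := by
    rw [eq_inv_mul_iff_mul_eq, ← mul_assoc, hc, mul_assoc, mul_inv_cancel, mul_one]
  have n1 : d1 * e2⁻¹ * d1⁻¹ ∈ E5 F := by rw [hd1]; exact dG_conj_mem_E5 hl1 ha1 hb1 (inv_mem he2)
  have n2 : d2 * e1 * d2⁻¹ ∈ E5 F := by rw [hd2]; exact dG_conj_mem_E5 hl2 ha2 hb2 he1
  have key : x * y * x⁻¹ * y⁻¹ = e1⁻¹ * (d1 * e2⁻¹ * d1⁻¹) * (d2 * e1 * d2⁻¹) * e2 := by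
    rw [ex, ey, ← hd1, ← hd2]
    have : e1⁻¹ * d1 * (e2⁻¹ * d2) * (e1⁻¹ * d1)⁻¹ * (e2⁻¹ * d2)⁻¹ =
        e1⁻¹ * d1 * e2⁻¹ * (d2 * d1⁻¹) * e1 * d2⁻¹ * e2 := by group
    rw [this, hc']
    group
  rw [key]
  exact mul_mem (mul_mem (mul_mem (inv_mem he1) n1) n2) he2

/-- The root elements are commutators of isometries. -/
theorem yG_eq_commutator (hF : ∃ c : F, c ≠ 0 ∧ c ≠ 1) {r : ℕ} (hr : r < 8) (t : F) :
    ∃ x ∈ G5 F, ∃ y ∈ G5 F, yG r t = x * y * x⁻¹ * y⁻¹ := by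
  obtain ⟨c, hc0, hc1⟩ := hF
  have h11 : (1 : F) * 1 = 1 := one_mul 1
  have h1 : (1 : F) ≠ 0 := one_ne_zero
  -- a diagonal element acting by a character different from one
  have hx : ∃ (a b : F) (ha : a ≠ 0) (hb : b ≠ 0), chi r 1 a b ≠ 1 := by
    have hci : c⁻¹ ≠ 1 := fun h => hc1 (inv_eq_one.mp h)
    interval_cases r
    · exact ⟨c, 1, hc0, h1, by simpa [chi] using hci⟩
    · exact ⟨c, 1, hc0, h1, by simpa [chi] using hci⟩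
    · exact ⟨1, c, h1, hc0, by simpa [chi] using hci⟩
    · exact ⟨c, 1, hc0, h1, by simpa [chi] using hci⟩
    · exact ⟨c, 1, hc0, h1, by simpa [chi] using hc1⟩
    · exact ⟨1, c, h1, hc0, by simpa [chi] using hc1⟩
    · exact ⟨c, 1, hc0, h1, by simpa [chi] using hc1⟩
    · exact ⟨c, 1, hc0, h1, by simpa [chi] using hc1⟩
  obtain ⟨a, b, ha, hb, hχ⟩ := hx
  have hχ' : chi r 1 a b - 1 ≠ 0 := sub_ne_zero.mpr hχ
  refine ⟨dG h11 ha hb, dG_mem_G5 h11 ha hb, yG r (t / (chi r 1 a b - 1)), yG_mem_G5 _ _, ?_⟩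
  rw [dG_mul_yG h11 ha hb hr, yG_inv, yG_add hr]
  congr 1
  field_simp
  ring

end Cfsg.Agent.Helper7.B2O
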