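import Mathlib
import Cfsg.Agent.Helper7.B2OC
import Cfsg.Agent.Helper7.B2OD
import Cfsg.Agent.Helper7.B2OE

set_option autoImplicit false
set_option maxHeartbeats 800000

/-!
The homomorphism from the group of Steinberg's presentation of type `B₂` onto the group generated by the
root elements of the five-dimensional orthogonal group.
-/

namespace Cfsg.Agent.Helper7.B2O

open Cfsg Cfsg.Lie Matrix

variable {F : Type*} [Field F]

theorem neg_eq {r : ℕ} (hr : r < 8) : chevB2.neg r = 7 - r := by
  interval_cases r <;> rfl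

/-- The homomorphism from the free group. -/
noncomputable def liftY : FreeGroup (Fin chevB2.nroots × F) →* GL (Fin 5) F :=
  FreeGroup.lift fun p => yG p.1.val p.2

theorem liftY_stX (r : ℕ) (t : F) : liftY (chevB2.stX r t) = yG r t := by
  unfold ChevalleyDatum.stX
  split_ifs with h
  · unfold liftY
    rw [FreeGroup.lift_apply_of]
  · rw [map_one]
    have : ¬ r < 8 := h
    rw [yG_of_ge this]

theorem liftY_stWord (w : List (ℕ × F)) :
    liftY (chevB2.stWord w) = (w.map fun p => yG p.1 p.2).prod := by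
  unfold ChevalleyDatum.stWord
  rw [map_list_prod, List.map_map]
  congr 1
  apply List.map_congr_left
  intro p _
  exact liftY_stX p.1 p.2

theorem coe_prod_yG (w : List (ℕ × F)) :
    (((w.map fun p => yG p.1 p.2).prod : GL (Fin 5) F) : Matrix (Fin 5) (Fin 5) F) = wordM w := by
  unfold wordM
  induction w with
  | nil => simp
  | cons p w ih => rw [List.map_cons, List.prod_cons, Units.val_mul, ih, List.map_cons, List.prod_cons, yG_coe]

theorem liftY_stH {r : ℕ} (hr : r < 8) (t : F) :
    ((liftY (chevB2.stH r t) : GL (Fin 5) F) : Matrix (Fin 5) (Fin 5) F) = hM5 r t := by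
  unfold ChevalleyDatum.stH
  rw [liftY_stWord, coe_prod_yG]
  unfold wordM ChevalleyDatum.hWord ChevalleyDatum.nWord hM5 nM5
  rw [neg_eq hr]
  simp only [List.cons_append, List.nil_append, List.map_cons, List.map_nil, List.prod_cons,
    List.prod_nil, mul_one, mul_assoc]

/-- The relators of Steinberg's presentation hold. -/
theorem liftY_rels {g : FreeGroup (Fin chevB2.nroots × F)} (hg : g ∈ chevB2.steinbergRels F) :
    liftY g = 1 := by
  rcases hg with (⟨r, t₁, t₂, hr, rfl⟩ | ⟨r, s, t, u, hr, hs, hsr, hsn, rfl⟩) | ⟨r, t₁, t₂, hr, ht₁, ht₂, rfl⟩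
  · have hr' : r < 8 := hr
    rw [map_mul, map_mul, map_inv, liftY_stX, liftY_stX, liftY_stX, yG_add hr', mul_inv_cancel]
  · have hr' : r < 8 := hr
    have hs' : s < 8 := hs
    have hsn' : s ≠ 7 - r := by rw [← neg_eq hr']; exact hsn
    rw [map_mul, map_mul, map_mul, map_mul, map_inv, map_inv, map_inv, liftY_stX, liftY_stX,
      liftY_stWord, mul_inv_eq_one, yG_inv, yG_inv]
    apply Units.ext
    rw [Units.val_mul, Units.val_mul, Units.val_mul, yG_coe, yG_coe, yG_coe, yG_coe, coe_prod_yG]
    exact yM_comm hr' hs' hsr hsn' t u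
  · have hr' : r < 8 := hr
    rw [map_mul, map_mul, map_inv, mul_inv_eq_one]
    apply Units.ext
    rw [Units.val_mul, liftY_stH hr', liftY_stH hr', liftY_stH hr', hM5_mul hr' ht₁ ht₂]

/-- The homomorphism from the presented group. -/
noncomputable def stToGL : chevB2.SteinbergGroup F →* GL (Fin 5) F :=
  PresentedGroup.toGroup (f := fun p => yG p.1.val p.2)
    (fun g hg => by have := liftY_rels hg; unfold liftY at this; exact this)

theorem stToGL_of (p : Fin chevB2.nroots × F) :
    stToGL (PresentedGroup.of p) = yG p.1.val p.2 := by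
  unfold stToGL
  exact PresentedGroup.toGroup.of _

theorem stToGL_range : (stToGL (F := F)).range = E5 F := by
  rw [MonoidHom.range_eq_map, ← PresentedGroup.closure_range_of, MonoidHom.map_closure]
  unfold E5
  congr 1
  ext g
  constructor
  · rintro ⟨x, ⟨⟨r, t⟩, rfl⟩, rfl⟩
    refine ⟨r.val, t, r.2, ?_⟩
    rw [stToGL_of]
  · rintro ⟨r, t, hr, rfl⟩
    refine ⟨PresentedGroup.of (⟨r, hr⟩, t), ⟨(⟨r, hr⟩, t), rfl⟩, ?_⟩
    rw [stToGL_of]

end Cfsg.Agent.Helper7.B2O
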