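import Mathlib
import Cfsg.Agent.Helper7.B2OI
import Cfsg.Agent.Helper7.B2OJ

set_option autoImplicit false
set_option maxHeartbeats 800000

/-!
General lemmas on quotients by the centre, and the identification of the commutator subgroup of the
isometry group with the group generated by the root elements.
-/

namespace Cfsg.Agent.Helper7.B2O

open Cfsg Cfsg.Lie Matrix

/-- An isomorphism induces an isomorphism of the quotients by the centres. -/
noncomputable def quotCenterCongr {G H : Type*} [Group G] [Group H] (e : G ≃* H) :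
    G ⧸ Subgroup.center G ≃* H ⧸ Subgroup.center H :=
  QuotientGroup.congr (Subgroup.center G) (Subgroup.center H) e (by
    ext x
    rw [Subgroup.mem_map]
    constructor
    · rintro ⟨z, hz, rfl⟩
      rw [Subgroup.mem_center_iff]
      intro g
      obtain ⟨g', rfl⟩ := e.surjective g
      change e g' * e z = e z * e g'
      rw [← map_mul, ← map_mul, Subgroup.mem_center_iff.mp hz g']
    · intro hx
      refine ⟨e.symm x, ?_, e.apply_symm_apply x⟩
      rw [Subgroup.mem_center_iff]
      intro g
      apply e.injective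
      rw [map_mul, map_mul, e.apply_symm_apply]
      exact Subgroup.mem_center_iff.mp hx (e g))

/-- An isomorphism induces an isomorphism of the commutator subgroups. -/
noncomputable def commutatorCongr {G H : Type*} [Group G] [Group H] (e : G ≃* H) :
    ↥(commutator G) ≃* ↥(commutator H) :=
  (e.subgroupMap (commutator G)).trans (MulEquiv.subgroupCongr (by
    rw [commutator_def, commutator_def]
    change Subgroup.map e.toMonoidHom _ = _
    rw [Subgroup.map_commutator, Subgroup.map_top_of_surjective _ e.surjective]))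

/-- A simple group which is the quotient of `S` by its centre is the quotient by the centre of every
non-commutative homomorphic image of `S`. -/
theorem nonempty_equiv_quot_center {S A Γ : Type*} [Group S] [Group A] [Group Γ] [IsSimpleGroup A]
    (ψ : S →* A) (hψ : Function.Surjective ψ) (hker : ψ.ker = Subgroup.center S)
    (φ : S →* Γ) (hφ : Function.Surjective φ) (hna : ∃ x y : Γ, x * y ≠ y * x) :
    Nonempty (A ≃* Γ ⧸ Subgroup.center Γ) := by
  obtain ⟨φb, hφb⟩ : ∃ φb : S →* Γ ⧸ Subgroup.center Γ,
      φb = (QuotientGroup.mk' (Subgroup.center Γ)).comp φ := ⟨_, rfl⟩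
  have hle : ψ.ker ≤ φb.ker := by
    rw [hker]
    intro z hz
    rw [MonoidHom.mem_ker, hφb, MonoidHom.comp_apply, QuotientGroup.mk'_apply,
      QuotientGroup.eq_one_iff, Subgroup.mem_center_iff]
    intro g
    obtain ⟨s, rfl⟩ := hφ g
    rw [← map_mul, ← map_mul, Subgroup.mem_center_iff.mp hz s]
  obtain ⟨θ, hθ_def⟩ : ∃ θ : A →* Γ ⧸ Subgroup.center Γ, θ = ψ.liftOfSurjective hψ ⟨φb, hle⟩ := ⟨_, rfl⟩
  have hθ : ∀ s, θ (ψ s) = φb s := by
    intro s
    rw [hθ_def]
    exact MonoidHom.liftOfRightInverse_comp_apply ψ _ (Function.rightInverse_surjInv hψ) ⟨φb, hle⟩ s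
  have hsurj : Function.Surjective θ := by
    intro y
    obtain ⟨γ, rfl⟩ := QuotientGroup.mk_surjective y
    obtain ⟨s, rfl⟩ := hφ γ
    exact ⟨ψ s, by rw [hθ, hφb]; rfl⟩
  have hinj : Function.Injective θ := by
    rw [← MonoidHom.ker_eq_bot_iff]
    rcases θ.normal_ker.eq_bot_or_eq_top with h | h
    · exact h
    · exfalso
      obtain ⟨x, y, hxy⟩ := hna
      apply hxy
      obtain ⟨s, rfl⟩ := hφ x
      have h1 : θ (ψ s) = 1 := by
        have : ψ s ∈ θ.ker := by rw [h]; exact Subgroup.mem_top _
        exact this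
      rw [hθ, hφb, MonoidHom.comp_apply, QuotientGroup.mk'_apply, QuotientGroup.eq_one_iff,
        Subgroup.mem_center_iff] at h1
      exact (h1 y).symm
  exact ⟨MulEquiv.ofBijective θ ⟨hinj, hsurj⟩⟩

variable {F : Type*} [Field F]

/-- The inclusion of the commutator subgroup of the isometry group into the general linear group. -/
noncomputable def omegaIncl : ↥(Omega F (Q5 (F := F))) →* GL (Fin 5) F :=
  (G5 F).subtype.comp (Omega F (Q5 (F := F))).subtype

theorem omegaIncl_injective : Function.Injective (omegaIncl (F := F)) := by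
  intro x y h
  apply Subtype.ext
  apply Subtype.ext
  exact h

theorem omegaIncl_range (hF : ∃ c : F, c ≠ 0 ∧ c ≠ 1) : (omegaIncl (F := F)).range = E5 F := by
  apply le_antisymm
  · rintro g ⟨x, rfl⟩
    have hx : (x : ↥(G5 F)) ∈ commutator ↥(G5 F) := x.2
    have hle : commutator ↥(G5 F) ≤ (E5 F).comap (G5 F).subtype := by
      rw [commutator_def, Subgroup.commutator_le]
      intro g₁ _ g₂ _
      rw [Subgroup.mem_comap, commutatorElement_def]
      simp only [map_mul, map_inv, Subgroup.subtype_apply]
      exact commutator_mem_E5 g₁.2 g₂.2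
    exact hle hx
  · unfold E5
    rw [Subgroup.closure_le]
    rintro g ⟨r, t, hr, rfl⟩
    obtain ⟨x, hx, y, hy, e⟩ := yG_eq_commutator hF hr t
    have hmem := Subgroup.commutator_mem_commutator (H₁ := (⊤ : Subgroup ↥(G5 F))) (H₂ := ⊤)
      (Subgroup.mem_top (⟨x, hx⟩ : ↥(G5 F))) (Subgroup.mem_top (⟨y, hy⟩ : ↥(G5 F)))
    rw [← commutator_def] at hmem
    refine ⟨⟨_, hmem⟩, ?_⟩
    rw [e]
    rfl

/-- The commutator subgroup of the isometry group is isomorphic to the group generated by the root
elements. -/
noncomputable def omegaEquivE5 (hF : ∃ c : F, c ≠ 0 ∧ c ≠ 1) : ↥(Omega F (Q5 (F := F))) ≃* ↥(E5 F) :=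
  (MulEquiv.ofBijective (omegaIncl (F := F)).rangeRestrict
    ⟨MonoidHom.rangeRestrict_injective_iff.mpr omegaIncl_injective,
      MonoidHom.rangeRestrict_surjective _⟩).trans (MulEquiv.subgroupCongr (omegaIncl_range hF))

/-- The homomorphism from the presented group onto the group generated by the root elements. -/
noncomputable def stToE5 : chevB2.SteinbergGroup F →* ↥(E5 F) :=
  (MulEquiv.subgroupCongr (stToGL_range (F := F))).toMonoidHom.comp (stToGL (F := F)).rangeRestrict

theorem stToE5_surjective : Function.Surjective (stToE5 (F := F)) := by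
  unfold stToE5
  exact (MulEquiv.subgroupCongr (stToGL_range (F := F))).surjective.comp
    (MonoidHom.rangeRestrict_surjective _)

theorem E5_not_comm : ∃ x y : ↥(E5 F), x * y ≠ y * x := by
  refine ⟨⟨yG 5 1, yG_mem_E5 _ _⟩, ⟨yG 4 1, yG_mem_E5 _ _⟩, ?_⟩
  intro h
  have h1 := congrArg (fun z : ↥(E5 F) => ((z : GL (Fin 5) F) : Matrix (Fin 5) (Fin 5) F) 0 3) h
  simp [yM, Matrix.mul_apply, Fin.sum_univ_succ] at h1

end Cfsg.Agent.Helper7.B2O
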