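import Mathlib
import Cfsg.Agent.Helper7.B2OK
import Cfsg.Agent.S1077
import Cfsg.Agent.S1056

set_option autoImplicit false
set_option maxHeartbeats 800000

/-!
`B₂(F) ≅ PΩ₅(F)`.
-/

namespace Cfsg.Agent.Helper7.B2O

open Cfsg Cfsg.Lie Matrix

variable {F : Type*} [Field F]

/-- The bijection between the index sets. -/
def e5 : Unit ⊕ (Fin 2 ⊕ Fin 2) ≃ Fin 5 where
  toFun x := match x with
    | .inl _ => 0
    | .inr (.inl i) => if i = 0 then 1 else 2
    | .inr (.inr i) => if i = 0 then 3 else 4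
  invFun j := match j with
    | 0 => .inl ()
    | 1 => .inr (.inl 0)
    | 2 => .inr (.inl 1)
    | 3 => .inr (.inr 0)
    | 4 => .inr (.inr 1)
  left_inv := by
    rintro (_ | i | i)
    · rfl
    · fin_cases i <;> rfl
    · fin_cases i <;> rfl
  right_inv := by
    intro j
    fin_cases j <;> rfl

theorem quadFormOdd_eq (v : Unit ⊕ (Fin 2 ⊕ Fin 2) → F) :
    quadFormOdd 2 F v = Q5 (v ∘ e5.symm) := by
  unfold quadFormOdd Q5
  rw [Fin.sum_univ_two]
  have h0 : e5.symm 0 = Sum.inl () := rfl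
  have h1 : e5.symm 1 = Sum.inr (Sum.inl 0) := rfl
  have h2 : e5.symm 2 = Sum.inr (Sum.inl 1) := rfl
  have h3 : e5.symm 3 = Sum.inr (Sum.inr 0) := rfl
  have h4 : e5.symm 4 = Sum.inr (Sum.inr 1) := rfl
  simp only [Function.comp_apply, h0, h1, h2, h3, h4]
  ring

/-- The isomorphism of the general linear groups. -/
noncomputable def rho : GL (Fin 5) F ≃* GL (Unit ⊕ (Fin 2 ⊕ Fin 2)) F :=
  Units.mapEquiv (Matrix.reindexAlgEquiv F F e5.symm).toMulEquiv

theorem rho_coe (g : GL (Fin 5) F) :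
    ((rho g : GL (Unit ⊕ (Fin 2 ⊕ Fin 2)) F) : Matrix _ _ F) =
      (g : Matrix (Fin 5) (Fin 5) F).submatrix e5 e5 := rfl

theorem rho_mulVec (g : GL (Fin 5) F) (v : Unit ⊕ (Fin 2 ⊕ Fin 2) → F) :
    ((rho g : GL (Unit ⊕ (Fin 2 ⊕ Fin 2)) F) : Matrix _ _ F) *ᵥ v =
      ((g : Matrix (Fin 5) (Fin 5) F) *ᵥ (v ∘ e5.symm)) ∘ e5 := by
  rw [rho_coe]
  exact Matrix.submatrix_mulVec_equiv _ _ _ _

theorem map_rho_G5 : (G5 F).map (rho (F := F)).toMonoidHom = isometryGroup F (quadFormOdd 2 F) := by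
  ext h
  rw [Subgroup.mem_map]
  constructor
  · rintro ⟨g, hg, rfl⟩
    intro u _
    change quadFormOdd 2 F (((rho g : GL (Unit ⊕ (Fin 2 ⊕ Fin 2)) F) : Matrix _ _ F) *ᵥ u) =
      quadFormOdd 2 F u
    rw [rho_mulVec, quadFormOdd_eq, quadFormOdd_eq]
    have : (((g : Matrix (Fin 5) (Fin 5) F) *ᵥ (u ∘ e5.symm)) ∘ e5) ∘ e5.symm =
        (g : Matrix (Fin 5) (Fin 5) F) *ᵥ (u ∘ e5.symm) := by
      funext i; simp
    rw [this]
    exact mem_G5.mp hg _
  · intro hh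
    refine ⟨rho.symm h, ?_, rho.apply_symm_apply h⟩
    rw [mem_G5]
    intro w
    have h1 := hh (w ∘ e5) (w ∘ e5)
    change quadFormOdd 2 F (h.val *ᵥ (w ∘ e5)) = quadFormOdd 2 F (w ∘ e5) at h1
    have h2 : h.val = (rho (rho.symm h)).val := by
      rw [rho.apply_symm_apply]
    rw [h2, rho_mulVec, quadFormOdd_eq, quadFormOdd_eq] at h1
    have e1 : (w ∘ e5) ∘ e5.symm = w := by funext i; simp
    have e2 : ((((rho.symm h : GL (Fin 5) F) : Matrix (Fin 5) (Fin 5) F) *ᵥ ((w ∘ e5) ∘ e5.symm)) ∘ e5) ∘ e5.symm =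
        ((rho.symm h : GL (Fin 5) F) : Matrix (Fin 5) (Fin 5) F) *ᵥ w := by
      rw [e1]; funext i; simp
    rw [e2, e1] at h1
    exact h1

/-- The isomorphism of the isometry groups. -/
noncomputable def isoG : ↥(G5 F) ≃* ↥(isometryGroup F (quadFormOdd 2 F)) :=
  ((rho (F := F)).subgroupMap (G5 F)).trans (MulEquiv.subgroupCongr map_rho_G5)

/-- `B₂(F) ≅ PΩ₅(F)` over a field with more than two elements. -/
theorem b2_equiv_pomega (hF : ∃ a : F, a ≠ 0 ∧ a ≠ 1) :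
    Nonempty (↥(chevB2.group F) ≃* POmega F (quadFormOdd 2 F)) := by
  obtain ⟨θ, hθs, hθk, -⟩ := Cfsg.Agent.S1077.result (K := F) chevB2 (by simp)
  have : IsSimpleGroup ↥(chevB2.group F) := (Cfsg.Agent.S1056.result hF).1
  obtain ⟨e⟩ := nonempty_equiv_quot_center θ hθs hθk (stToE5 (F := F)) stToE5_surjective E5_not_comm
  exact ⟨(e.trans (quotCenterCongr (omegaEquivE5 hF).symm)).trans
    (quotCenterCongr (commutatorCongr isoG))⟩

end Cfsg.Agent.Helper7.B2O
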