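import Mathlib
import Cfsg.Agent.Helper7.BNIndex

set_option autoImplicit false

/-!
Minimal parabolic subgroups `B ∪ B s B` of a (B,N)-pair.
-/

namespace Cfsg.Agent.Helper7.BN

open Cfsg DoubleCoset InvWords
open scoped Pointwise

variable {G : Type*} [Group G] (P : Cfsg.BNPair G)

theorem closure_singleton_invol {W : Type*} [Group W] {r : W} (hr : r * r = 1) (w : W)
    (hw : w ∈ Subgroup.closure ({r} : Set W)) : w = 1 ∨ w = r := by
  induction hw using Subgroup.closure_induction with
  | mem x hx => exact Or.inr hx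
  | one => exact Or.inl rfl
  | mul x y _ _ hx hy =>
    rcases hx with rfl | rfl <;> rcases hy with rfl | rfl <;> simp [hr]
  | inv x _ hx =>
    rcases hx with rfl | rfl
    · simp
    · right; exact inv_eq_of_mul_eq_one_left hr

theorem Rset_singleton {s : G} (hs : s ∈ P.N) : Rset P {s} = {proj P ⟨s, hs⟩} := by
  ext w
  constructor
  · rintro ⟨n, hn, rfl⟩
    have : n = ⟨s, hs⟩ := Subtype.ext hn
    rw [this]; rfl
  · rintro rfl
    exact ⟨⟨s, hs⟩, rfl, rfl⟩

/-- The minimal parabolic `P_{s} = B ∪ B s B`. -/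
theorem mem_parabolic_singleton {s : G} (hs : s ∈ P.S) (g : G) :
    g ∈ P.parabolic {s} ↔ g ∈ P.B ∨ g ∈ C P s := by
  have hJ : ({s} : Set G) ⊆ P.S := Set.singleton_subset_iff.mpr hs
  have hsN := P.subset hs
  constructor
  · intro h
    obtain ⟨w, hw⟩ := exists_mem_CW P g
    have := (mem_parabolic_iff_CW P hJ hw).mp h
    rw [Rset_singleton P hsN] at this
    have hr : proj P ⟨s, hsN⟩ ∈ RS P := mem_Rset_of_mem P hs hsN
    rcases closure_singleton_invol (RS_mul_self P hr) w this with rfl | rfl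
    · left; rw [CW_one] at hw; exact hw
    · right; rw [CW_proj] at hw; exact hw
  · rintro (h | h)
    · exact B_le_parabolic P _ h
    · exact C_subset_of_mem P (B_le_parabolic P _) (mem_parabolic_of_mem P rfl) h

/-- For `n ∈ N ∖ B`, `B ∪ B n B` is a subgroup iff `n` is congruent to a distinguished generator. -/
theorem union_isSubgroup_iff {n : G} (hn : n ∈ P.N) (hnB : n ∉ P.B) :
    (∃ H : Subgroup G, (H : Set G) = (P.B : Set G) ∪ C P n) ↔ ∃ s ∈ P.S, s⁻¹ * n ∈ P.B := by
  constructor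
  · rintro ⟨H, hH⟩
    have hBH : P.B ≤ H := by
      intro b hb
      have : b ∈ (H : Set G) := by rw [hH]; exact Or.inl hb
      exact this
    have hnH : n ∈ H := by
      have : n ∈ (H : Set G) := by rw [hH]; exact Or.inr (self_mem_C P n)
      exact this
    have hpar := eq_parabolic_of_le P H hBH
    have hne : (P.S ∩ (H : Set G)).Nonempty := by
      by_contra hempty
      rw [Set.not_nonempty_iff_eq_empty] at hempty
      rw [hempty] at hpar
      have : n ∈ P.parabolic ∅ := hpar ▸ hnH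
      unfold BNPair.parabolic at this
      rw [Subgroup.closure_empty, sup_bot_eq] at this
      exact hnB this
    obtain ⟨s, hsS, hsH⟩ := hne
    refine ⟨s, hsS, ?_⟩
    have : s ∈ (P.B : Set G) ∪ C P n := by rw [← hH]; exact hsH
    rcases this with h | h
    · exact absurd h (S_not_mem_B P hsS)
    · have h1 : CW P (proj P ⟨s, P.subset hsS⟩) = CW P (proj P ⟨n, hn⟩) := by
        rw [CW_proj, CW_proj]; exact C_eq_of_mem P h
      exact (proj_eq_iff P).mp (CW_injective P h1)
  · rintro ⟨s, hs, hsn⟩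
    refine ⟨P.parabolic {s}, ?_⟩
    have hC : C P n = C P s := by
      have : proj P ⟨s, P.subset hs⟩ = proj P ⟨n, hn⟩ := (proj_eq_iff P).mpr hsn
      have h1 := congrArg (CW P) this
      rw [CW_proj, CW_proj] at h1
      exact h1.symm
    ext g
    rw [hC]
    exact mem_parabolic_singleton P hs g

end Cfsg.Agent.Helper7.BN

namespace Cfsg.Agent.Helper7.BN

open Cfsg DoubleCoset InvWords
open scoped Pointwise

variable {G : Type*} [Group G] (P : Cfsg.BNPair G)

theorem exists_S_eq_singleton_of_rank_one (h : P.rank = 1) : ∃ s, P.S = {s} := by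
  unfold BNPair.rank at h
  rw [Nat.card_eq_one_iff_unique] at h
  obtain ⟨h1, ⟨s⟩⟩ := h
  refine ⟨s, ?_⟩
  ext x
  constructor
  · intro hx
    have : (⟨x, hx⟩ : P.S) = s := Subsingleton.elim _ _
    exact congrArg Subtype.val this
  · rintro rfl
    exact s.2

/-- In rank one, `G = B ∪ B s B`. -/
theorem mem_B_or_mem_C_of_S_eq {s : G} (hS : P.S = {s}) (g : G) : g ∈ P.B ∨ g ∈ C P s := by
  have hs : s ∈ P.S := by rw [hS]; rfl
  rw [← mem_parabolic_singleton P hs, ← hS]
  unfold BNPair.parabolic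
  rw [closure_S_sup_B]
  exact Subgroup.mem_top g

/-- A (B,N)-pair of rank one is doubly transitive on `G ⧸ B`. -/
theorem two_transitive_of_rank_one (h : P.rank = 1) :
    MulAction.IsMultiplyPretransitive G (G ⧸ P.B) 2 := by
  obtain ⟨s, hS⟩ := exists_S_eq_singleton_of_rank_one P h
  rw [MulAction.is_two_pretransitive_iff]
  intro a b c d hab hcd
  induction a using QuotientGroup.induction_on with | _ a => ?_
  induction b using QuotientGroup.induction_on with | _ b => ?_
  induction c using QuotientGroup.induction_on with | _ c => ?_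
  induction d using QuotientGroup.induction_on with | _ d => ?_
  have hab' : a⁻¹ * b ∉ P.B := fun h => hab (QuotientGroup.eq.mpr h)
  have hcd' : c⁻¹ * d ∉ P.B := fun h => hcd (QuotientGroup.eq.mpr h)
  have h1 := (mem_B_or_mem_C_of_S_eq P hS (a⁻¹ * b)).resolve_left hab'
  have h2 := (mem_B_or_mem_C_of_S_eq P hS (c⁻¹ * d)).resolve_left hcd'
  obtain ⟨b1, hb1, b2, hb2, e1⟩ := (mem_C P).mp h1
  obtain ⟨b3, hb3, b4, hb4, e2⟩ := (mem_C P).mp h2
  refine ⟨c * b3 * b1⁻¹ * a⁻¹, ?_, ?_⟩
  · change ((c * b3 * b1⁻¹ * a⁻¹ * a : G) : G ⧸ P.B) = (c : G ⧸ P.B)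
    rw [QuotientGroup.eq]
    have e : (c * b3 * b1⁻¹ * a⁻¹ * a)⁻¹ * c = b1 * b3⁻¹ := by group
    rw [e]
    exact P.B.mul_mem hb1 (P.B.inv_mem hb3)
  · change ((c * b3 * b1⁻¹ * a⁻¹ * b : G) : G ⧸ P.B) = (d : G ⧸ P.B)
    rw [QuotientGroup.eq]
    have hb : b = a * (b1 * s * b2) := by rw [← e1]; group
    have hd : d = c * (b3 * s * b4) := by rw [← e2]; group
    have e : (c * b3 * b1⁻¹ * a⁻¹ * b)⁻¹ * d = b2⁻¹ * b4 := by
      rw [hb, hd]; group
    rw [e]
    exact P.B.mul_mem (P.B.inv_mem hb2) hb4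

end Cfsg.Agent.Helper7.BN
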