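import Cfsg.Agent.Helper7.F4Batch

set_option autoImplicit false

/-!
Boolean formulas over the 24 bits of the index of a map `Fin 8 → Fin 8`, evaluated on all `2 ^ 24`
indices at once by operations on big natural numbers.
-/

namespace Cfsg.Agent.Helper7.Batch8

open Cfsg.Agent.Helper7.F4Mat

/-- Boolean formulas over the bits of an index. -/
inductive Fm : Type
  | atom (k : Nat)
  | tt
  | and (a b : Fm)
  | or (a b : Fm)
  | xor (a b : Fm)
  | not (a : Fm)

/-- The mask of all indices. -/
def ones24 : Nat := 2 ^ (2 ^ 24) - 1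

namespace Fm

/-- The mask of the indices satisfying a formula. -/
def evalN : Fm → Nat
  | atom k => if k < 24 then pl k (23 - k) else 0
  | tt => ones24
  | and a b => a.evalN &&& b.evalN
  | or a b => a.evalN ||| b.evalN
  | xor a b => a.evalN ^^^ b.evalN
  | not a => ones24 ^^^ a.evalN

/-- The value of a formula at an index. -/
def evalB (m : Nat) : Fm → Bool
  | atom k => decide (k < 24) && m.testBit k
  | tt => true
  | and a b => a.evalB m && b.evalB m
  | or a b => a.evalB m || b.evalB m
  | xor a b => Bool.xor (a.evalB m) (b.evalB m)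
  | not a => !a.evalB m

theorem testBit_ones24 {m : Nat} (hm : m < 2 ^ 24) : ones24.testBit m = true := by
  rw [ones24, Nat.testBit_two_pow_sub_one]
  exact decide_eq_true hm

theorem testBit_evalN {m : Nat} (hm : m < 2 ^ 24) : ∀ φ : Fm, φ.evalN.testBit m = φ.evalB m
  | atom k => by
    rw [evalN, evalB]
    by_cases hk : k < 24
    · rw [if_pos hk, testBit_pl]
      have : k + 1 + (23 - k) = 24 := by omega
      rw [this, decide_eq_true hm, decide_eq_true hk]
    · rw [if_neg hk, Nat.zero_testBit, decide_eq_false hk, Bool.false_and]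
  | tt => testBit_ones24 hm
  | and a b => by rw [evalN, evalB, Nat.testBit_and, testBit_evalN hm a, testBit_evalN hm b]
  | or a b => by rw [evalN, evalB, Nat.testBit_or, testBit_evalN hm a, testBit_evalN hm b]
  | xor a b => by rw [evalN, evalB, Nat.testBit_xor, testBit_evalN hm a, testBit_evalN hm b]
  | not a => by
    rw [evalN, evalB, Nat.testBit_xor, testBit_evalN hm a, testBit_ones24 hm, Bool.true_xor]

/-- The conjunction of a list of formulas. -/
def andL : List Fm → Fm
  | [] => tt
  | a :: l => and a (andL l)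

/-- The disjunction of a list of formulas. -/
def orL : List Fm → Fm
  | [] => not tt
  | a :: l => or a (orL l)

theorem evalB_andL (m : Nat) : ∀ l : List Fm, (andL l).evalB m = l.all (fun a => a.evalB m)
  | [] => rfl
  | a :: l => by rw [andL, evalB, evalB_andL m l, List.all_cons]

theorem evalB_orL (m : Nat) : ∀ l : List Fm, (orL l).evalB m = l.any (fun a => a.evalB m)
  | [] => rfl
  | a :: l => by rw [orL, evalB, evalB_orL m l, List.any_cons]

/-- A bit of the index, or its negation. -/
def lit (k : Nat) (b : Bool) : Fm := if b then atom k else not (atom k)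

theorem evalB_lit (m k : Nat) (hk : k < 24) (b : Bool) :
    (lit k b).evalB m = (m.testBit k == b) := by
  cases b
  · simp [lit, evalB, hk]
  · simp [lit, evalB, hk]

end Fm

/-- The number with given bits. -/
def bitval (b0 b1 b2 : Bool) : Nat := b0.toNat + 2 * b1.toNat + 4 * b2.toNat

/-- The value at `i` of the map with index `m`. -/
def val (m i : Nat) : Nat :=
  bitval (m.testBit (3 * i)) (m.testBit (3 * i + 1)) (m.testBit (3 * i + 2))

theorem val_lt (m i : Nat) : val m i < 8 := by
  unfold val bitval
  cases m.testBit (3 * i) <;> cases m.testBit (3 * i + 1) <;> cases m.testBit (3 * i + 2) <;>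
    decide

namespace Fm

/-- The formula saying that the value at `i` is `v`. -/
def mtF (i v : Nat) : Fm :=
  and (lit (3 * i) (v.testBit 0)) (and (lit (3 * i + 1) (v.testBit 1))
    (lit (3 * i + 2) (v.testBit 2)))

theorem bitval_aux : ∀ (b0 b1 b2 : Bool) (v : Fin 8),
    ((b0 == v.val.testBit 0) && ((b1 == v.val.testBit 1) && (b2 == v.val.testBit 2))) =
      decide (bitval b0 b1 b2 = v.val) := by decide

theorem evalB_mtF (m i v : Nat) (hi : i < 8) (hv : v < 8) :
    (mtF i v).evalB m = decide (val m i = v) := by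
  rw [mtF, evalB, evalB, evalB_lit m _ (by omega), evalB_lit m _ (by omega),
    evalB_lit m _ (by omega)]
  exact bitval_aux _ _ _ ⟨v, hv⟩

end Fm

/-- The index of a map. -/
def cod (y : Fin 8 → Fin 8) : Nat :=
  Nat.ofBits (n := 24) fun k => (y ⟨k.val / 3, by omega⟩).val.testBit (k.val % 3)

theorem cod_lt (y : Fin 8 → Fin 8) : cod y < 2 ^ 24 := Nat.ofBits_lt_two_pow _

theorem testBit_cod (y : Fin 8 → Fin 8) (i b : Nat) (hi : i < 8) (hb : b < 3) :
    (cod y).testBit (3 * i + b) = (y ⟨i, hi⟩).val.testBit b := by
  rw [cod, Nat.testBit_ofBits_lt _ _ (by omega)]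
  have h1 : (3 * i + b) / 3 = i := by omega
  have h2 : (3 * i + b) % 3 = b := by omega
  simp only [h1, h2]

theorem bitval_bits : ∀ v : Fin 8,
    bitval (v.val.testBit 0) (v.val.testBit 1) (v.val.testBit 2) = v.val := by decide

theorem val_cod (y : Fin 8 → Fin 8) (i : Nat) (hi : i < 8) : val (cod y) i = (y ⟨i, hi⟩).val := by
  unfold val
  have h0 := testBit_cod y i 0 hi (by norm_num)
  rw [Nat.add_zero] at h0
  rw [h0, testBit_cod y i 1 hi (by norm_num), testBit_cod y i 2 hi (by norm_num)]
  exact bitval_bits _

/-- A property of maps holds for all maps if the mask of its failures vanishes. -/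
theorem forall_of_evalN_eq_zero (φ : Fm) (h : φ.evalN = 0) (y : Fin 8 → Fin 8) :
    φ.evalB (cod y) = false := by
  rw [← Fm.testBit_evalN (cod_lt y), h, Nat.zero_testBit]

/-- The pairs `i < j` below `8`. -/
def pairs8 : List (Nat × Nat) :=
  (List.range 8).flatMap fun i => ((List.range 8).filter fun j => i < j).map fun j => (i, j)

theorem mem_pairs8 : ∀ i j : Fin 8, i.val < j.val → (i.val, j.val) ∈ pairs8 := by decide

theorem lt_of_mem_pairs8 : ∀ p ∈ pairs8, p.1 < p.2 ∧ p.2 < 8 := by decide

namespace Fm

theorem evalB_not (m : Nat) (a : Fm) : (not a).evalB m = true ↔ ¬ a.evalB m = true := by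
  rw [evalB]; simp

theorem evalB_and (m : Nat) (a b : Fm) :
    (and a b).evalB m = true ↔ a.evalB m = true ∧ b.evalB m = true := by
  rw [evalB]; simp

theorem evalB_or (m : Nat) (a b : Fm) :
    (or a b).evalB m = true ↔ a.evalB m = true ∨ b.evalB m = true := by
  rw [evalB]; simp

theorem evalB_ite (m : Nat) (c : Prop) [Decidable c] (a : Fm) :
    (if c then a else not a).evalB m = true ↔ (c ↔ a.evalB m = true) := by
  by_cases h : c
  · rw [if_pos h]; simp [h]
  · rw [if_neg h, evalB_not]; simp [h]

theorem evalB_orL_range (m n : Nat) (f : Nat → Fm) :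
    (orL ((List.range n).map f)).evalB m = true ↔ ∃ k < n, (f k).evalB m = true := by
  rw [evalB_orL, List.any_eq_true]
  constructor
  · rintro ⟨a, ha, h⟩
    obtain ⟨k, hk, rfl⟩ := List.mem_map.1 ha
    exact ⟨k, List.mem_range.1 hk, h⟩
  · rintro ⟨k, hk, h⟩
    exact ⟨f k, List.mem_map.2 ⟨k, List.mem_range.2 hk, rfl⟩, h⟩

theorem evalB_andL_map {α : Type} (m : Nat) (l : List α) (f : α → Fm) :
    (andL (l.map f)).evalB m = true ↔ ∀ a ∈ l, (f a).evalB m = true := by
  rw [evalB_andL, List.all_eq_true]
  constructor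
  · intro h a ha
    exact h (f a) (List.mem_map.2 ⟨a, ha, rfl⟩)
  · intro h b hb
    obtain ⟨a, ha, rfl⟩ := List.mem_map.1 hb
    exact h a ha

/-- Evaluate a number below `8` before building a formula from it, so that equal formulas are
built as equal terms. -/
def force8 (n : Nat) (f : Nat → Fm) : Fm :=
  match n with
  | 0 => f 0 | 1 => f 1 | 2 => f 2 | 3 => f 3 | 4 => f 4 | 5 => f 5 | 6 => f 6 | 7 => f 7
  | _ => f n

theorem force8_eq (n : Nat) (f : Nat → Fm) : force8 n f = f n := by
  unfold force8
  split <;> rfl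

/-- The formula saying that the value at `i` is `v`, built from evaluated numbers. -/
def mtC (i v : Nat) : Fm := force8 i fun i => force8 v fun v => mtF i v

theorem mtC_eq (i v : Nat) : mtC i v = mtF i v := by
  rw [mtC, force8_eq, force8_eq]

theorem evalB_mtC (m i v : Nat) (hi : i < 8) (hv : v < 8) :
    (mtC i v).evalB m = decide (val m i = v) := by
  rw [mtC_eq, evalB_mtF m i v hi hv]

/-- The values at `i` and `j` agree. -/
def eqF (i j : Nat) : Fm :=
  force8 i fun i => force8 j fun j => orL ((List.range 8).map fun v => and (mtC i v) (mtC j v))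

theorem evalB_eqF (m i j : Nat) (hi : i < 8) (hj : j < 8) :
    (eqF i j).evalB m = true ↔ val m i = val m j := by
  rw [eqF, force8_eq, force8_eq, evalB_orL_range]
  constructor
  · rintro ⟨v, hv, h⟩
    rw [evalB_and, evalB_mtC m i v hi hv, evalB_mtC m j v hj hv, decide_eq_true_eq,
      decide_eq_true_eq] at h
    rw [h.1, h.2]
  · intro h
    refine ⟨val m i, val_lt m i, ?_⟩
    rw [evalB_and, evalB_mtC m i _ hi (val_lt m i), evalB_mtC m j _ hj (val_lt m i),
      decide_eq_true_eq, decide_eq_true_eq]
    exact ⟨rfl, h.symm⟩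

/-- The map is injective. -/
def permF : Fm := andL (pairs8.map fun p => not (eqF p.1 p.2))

end Fm

end Cfsg.Agent.Helper7.Batch8
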