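import Mathlib

/-!
S0508 swarm (architect: helper2), Part 2 (owner helper6), sub-piece P2b:
`Q` acts regularly on the cosets of `N(Q)` other than `N(Q)` itself.
-/

set_option autoImplicit false
namespace Cfsg.Agent.Helper2.Bsd
variable {G : Type*} [Group G] [Finite G]

/-- `|Q ⊔ D| = |Q| |D|` when `D` normalizes `Q` and `Q ⊓ D = ⊥` -/
theorem h7_card_sup (Q D : Subgroup G) (hQD : Q ⊓ D = ⊥)
    (hle : D ≤ Subgroup.normalizer (Q : Set G)) :
    Nat.card ↥(D ⊔ Q) = Nat.card Q * Nat.card D := by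
  haveI := Subgroup.normal_subgroupOf_of_le_normalizer hle
  haveI := Subgroup.normal_subgroupOf_sup_of_le_normalizer hle
  have e := QuotientGroup.quotientInfEquivProdNormalizerQuotient D Q hle
  have h1 : Nat.card (D ⧸ Q.subgroupOf D) = Nat.card D := by
    have hbot : Q.subgroupOf D = ⊥ := by
      rw [Subgroup.subgroupOf_eq_bot, disjoint_iff, hQD]
    rw [hbot]
    exact Nat.card_congr (QuotientGroup.quotientBot (G := D)).toEquiv
  have h2 : Nat.card (Q.subgroupOf (D ⊔ Q)) = Nat.card Q :=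
    Nat.card_congr (Subgroup.subgroupOfEquivOfLe le_sup_right).toEquiv
  have h3 := Subgroup.card_eq_card_quotient_mul_card_subgroup (Q.subgroupOf (D ⊔ Q))
  rw [h3, ← Nat.card_congr e.toEquiv, h1, h2, mul_comm]

/-- an element of `H` whose order is coprime to the index of the normal subgroup `A` of `H` lies in `A` -/
theorem h7_mem_of_coprime (H A : Subgroup G) (hA : A ≤ H) [hn : (A.subgroupOf H).Normal] {z : G} (hz : z ∈ H)
    (hco : Nat.Coprime (orderOf z) (Nat.card (H ⧸ A.subgroupOf H))) : z ∈ A := by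
  set π := QuotientGroup.mk' (A.subgroupOf H) with hπ
  have h1 : orderOf (π ⟨z, hz⟩) ∣ orderOf z := by
    have := orderOf_map_dvd π (⟨z, hz⟩ : H)
    rwa [Subgroup.orderOf_mk] at this
  have h2 : orderOf (π ⟨z, hz⟩) ∣ Nat.card (H ⧸ A.subgroupOf H) := orderOf_dvd_natCard _
  have h3 : orderOf (π ⟨z, hz⟩) = 1 := Nat.eq_one_of_dvd_coprimes hco h1 h2
  rw [orderOf_eq_one_iff, hπ, QuotientGroup.mk'_apply, QuotientGroup.eq_one_iff] at h3
  exact h3

section
variable (Q D : Subgroup G)
    (hord : 2 * Nat.card G = Nat.card ↥Q * (Nat.card ↥Q + 1) * (Nat.card ↥Q - 1))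
    (hCQ : ∀ x ∈ Q, x ≠ 1 → Subgroup.centralizer ({x} : Set G) = Q)
    (hDq : 2 * Nat.card ↥D + 1 = Nat.card ↥Q) (hQD : Q ⊓ D = ⊥)
    (hNQ : Subgroup.normalizer (Q : Set G) = Q ⊔ D)

include hNQ in
theorem h7_D_le : D ≤ Subgroup.normalizer (Q : Set G) := by
  rw [hNQ]; exact le_sup_right

include hQD hNQ in
/-- `|N(Q)| = |Q| |D|` -/
theorem p2b_card_normalizer :
    Nat.card (Subgroup.normalizer (Q : Set G)) = Nat.card Q * Nat.card D := by
  have h := h7_card_sup Q D hQD (h7_D_le Q D hNQ)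
  rw [sup_comm, ← hNQ] at h
  exact h

/-- (i) the stabilizer of the base point -/
theorem p2b_stab :
    MulAction.stabilizer G ((1 : G) : G ⧸ Subgroup.normalizer (Q : Set G)) =
      Subgroup.normalizer (Q : Set G) :=
  MulAction.stabilizer_quotient _

include hord hDq hQD hNQ in
/-- (ii) the number of points -/
theorem p2b_card : Nat.card (G ⧸ Subgroup.normalizer (Q : Set G)) = Nat.card Q + 1 := by
  have h1 := Subgroup.card_eq_card_quotient_mul_card_subgroup (Subgroup.normalizer (Q : Set G))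
  rw [p2b_card_normalizer Q D hQD hNQ] at h1
  rw [h1] at hord
  have hq : 0 < Nat.card Q := Nat.card_pos
  have hd : 0 < Nat.card D := Nat.card_pos
  have e : Nat.card Q - 1 = 2 * Nat.card D := by omega
  rw [e] at hord
  -- 2 * (m * (q * d)) = q * (q+1) * (2 d)
  have h2 : Nat.card (G ⧸ Subgroup.normalizer (Q : Set G)) * (2 * (Nat.card Q * Nat.card D)) =
      (Nat.card Q + 1) * (2 * (Nat.card Q * Nat.card D)) := by
    calc Nat.card (G ⧸ Subgroup.normalizer (Q : Set G)) * (2 * (Nat.card Q * Nat.card D))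
        = 2 * (Nat.card (G ⧸ Subgroup.normalizer (Q : Set G)) * (Nat.card Q * Nat.card D)) := by ring
      _ = Nat.card Q * (Nat.card Q + 1) * (2 * Nat.card D) := hord
      _ = (Nat.card Q + 1) * (2 * (Nat.card Q * Nat.card D)) := by ring
  exact Nat.eq_of_mul_eq_mul_right (by positivity) h2

include hCQ in
/-- (v) `Q` is abelian -/
theorem p2b_comm : IsMulCommutative ↥Q := by
  refine ⟨⟨fun a b => ?_⟩⟩
  by_cases ha : (a : G) = 1
  · have : a = 1 := Subtype.ext ha
    rw [this, one_mul, mul_one]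
  · have hb : (b : G) ∈ Subgroup.centralizer ({(a : G)} : Set G) := by
      rw [hCQ a a.2 ha]; exact b.2
    rw [Subgroup.mem_centralizer_singleton_iff] at hb
    apply Subtype.ext
    show (a : G) * b = b * a
    exact hb.symm

/-- (vi) `Q` is normal in the stabilizer of the base point -/
theorem p2b_normal :
    (Q.subgroupOf (MulAction.stabilizer G ((1 : G) : G ⧸ Subgroup.normalizer (Q : Set G)))).Normal := by
  rw [p2b_stab]
  exact Subgroup.normal_in_normalizer

/-- `Q ≤ ` the stabilizer of the base point -/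
theorem p2b_le :
    Q ≤ MulAction.stabilizer G ((1 : G) : G ⧸ Subgroup.normalizer (Q : Set G)) := by
  rw [p2b_stab]
  exact Subgroup.le_normalizer

include hCQ hDq hQD hNQ in
/-- (iii) `Q` acts semiregularly off the base point -/
theorem p2b_semireg : ∀ y ∈ Q, ∀ g : G, g ∉ Subgroup.normalizer (Q : Set G) →
    y • (g : G ⧸ Subgroup.normalizer (Q : Set G)) = (g : G ⧸ Subgroup.normalizer (Q : Set G)) →
    y = 1 := by
  intro y hy g hg hfix
  by_contra hy1
  -- z = g⁻¹ y g ∈ N(Q)
  have hzN : g⁻¹ * y * g ∈ Subgroup.normalizer (Q : Set G) := by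
    have h1 : ((y * g : G) : G ⧸ Subgroup.normalizer (Q : Set G)) = (g : G ⧸ Subgroup.normalizer (Q : Set G)) := hfix
    rw [QuotientGroup.eq] at h1
    have h2 : (y * g)⁻¹ * g = (g⁻¹ * y * g)⁻¹ := by group
    rw [h2] at h1
    exact (Subgroup.inv_mem_iff _).1 h1
  -- the order of z divides |Q|
  have hord_z : orderOf (g⁻¹ * y * g) = orderOf y := by
    have h := (MulAut.conj g⁻¹).orderOf_eq y
    rw [MulAut.conj_apply, inv_inv] at h
    exact h
  have hdvd : orderOf y ∣ Nat.card Q := by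
    have := orderOf_dvd_natCard (⟨y, hy⟩ : Q)
    rwa [Subgroup.orderOf_mk] at this
  -- index of Q in N(Q) is |D|
  have hn : (Q.subgroupOf (Subgroup.normalizer (Q : Set G))).Normal := Subgroup.normal_in_normalizer
  have hidx : Nat.card (↥(Subgroup.normalizer (Q : Set G)) ⧸ Q.subgroupOf (Subgroup.normalizer (Q : Set G))) =
      Nat.card D := by
    have h1 := Subgroup.card_eq_card_quotient_mul_card_subgroup
      (Q.subgroupOf (Subgroup.normalizer (Q : Set G)))
    have h2 : Nat.card (Q.subgroupOf (Subgroup.normalizer (Q : Set G))) = Nat.card Q :=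
      Nat.card_congr (Subgroup.subgroupOfEquivOfLe Subgroup.le_normalizer).toEquiv
    rw [p2b_card_normalizer Q D hQD hNQ, h2] at h1
    have hq : 0 < Nat.card Q := Nat.card_pos
    have : Nat.card D * Nat.card Q = Nat.card (↥(Subgroup.normalizer (Q : Set G)) ⧸
        Q.subgroupOf (Subgroup.normalizer (Q : Set G))) * Nat.card Q := by
      rw [← h1, mul_comm]
    exact (Nat.eq_of_mul_eq_mul_right hq this).symm
  have hco : Nat.Coprime (orderOf (g⁻¹ * y * g))
      (Nat.card (↥(Subgroup.normalizer (Q : Set G)) ⧸ Q.subgroupOf (Subgroup.normalizer (Q : Set G)))) := by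
    rw [hidx, hord_z]
    apply Nat.Coprime.coprime_dvd_left hdvd
    rw [← hDq]
    -- gcd (2d+1, d) = 1
    have : Nat.Coprime (Nat.card D * 2 + 1) (Nat.card D) := by
      rw [Nat.coprime_mul_left_add_left]; exact Nat.coprime_one_left _
    rwa [mul_comm] at this
  have hzQ : g⁻¹ * y * g ∈ Q :=
    h7_mem_of_coprime (Subgroup.normalizer (Q : Set G)) Q Subgroup.le_normalizer hzN hco
  have hz1 : g⁻¹ * y * g ≠ 1 := by
    intro h
    apply hy1
    have : y = g * (g⁻¹ * y * g) * g⁻¹ := by group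
    rw [this, h]; group
  -- C(z) = Q and C(z) = g⁻¹ C(y) g = g⁻¹ Q g
  have hCz := hCQ _ hzQ hz1
  have hCy := hCQ y hy hy1
  -- g⁻¹ normalizes Q
  apply hg
  have hginv : g⁻¹ ∈ Subgroup.normalizer (Q : Set G) := by
    rw [Subgroup.mem_normalizer_iff]
    intro a
    constructor
    · intro ha
      -- a ∈ Q = C(y) → g⁻¹ a g ∈ C(g⁻¹ y g) = Q
      rw [← hCz, Subgroup.mem_centralizer_singleton_iff]
      have hay : a ∈ Subgroup.centralizer ({y} : Set G) := by rw [hCy]; exact ha
      rw [Subgroup.mem_centralizer_singleton_iff] at hay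
      calc g⁻¹ * a * g⁻¹⁻¹ * (g⁻¹ * y * g) = g⁻¹ * (a * y) * g := by group
        _ = g⁻¹ * (y * a) * g := by rw [hay]
        _ = g⁻¹ * y * g * (g⁻¹ * a * g⁻¹⁻¹) := by group
    · intro ha
      rw [← hCz, Subgroup.mem_centralizer_singleton_iff] at ha
      rw [← hCy, Subgroup.mem_centralizer_singleton_iff]
      have h1 : g * (g⁻¹ * a * g⁻¹⁻¹ * (g⁻¹ * y * g)) * g⁻¹ = a * y := by group
      have h2 : g * (g⁻¹ * y * g * (g⁻¹ * a * g⁻¹⁻¹)) * g⁻¹ = y * a := by group
      rw [← h1, ← h2, ha]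
  have := (Subgroup.normalizer (Q : Set G)).inv_mem hginv
  rwa [inv_inv] at this

include hord hCQ hDq hQD hNQ in
/-- (iv) `Q` acts regularly on the points other than the base point -/
theorem p2b_reg : ∀ y z : G ⧸ Subgroup.normalizer (Q : Set G),
    y ≠ ((1 : G) : G ⧸ Subgroup.normalizer (Q : Set G)) →
    z ≠ ((1 : G) : G ⧸ Subgroup.normalizer (Q : Set G)) → ∃! u : Q, (u : G) • y = z := by
  classical
  intro y z hy hz
  set x₀ : G ⧸ Subgroup.normalizer (Q : Set G) := ((1 : G) : G ⧸ Subgroup.normalizer (Q : Set G)) with hx₀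
  have hQfix : ∀ u ∈ Q, u • x₀ = x₀ := by
    intro u hu
    have := p2b_le Q hu
    exact MulAction.mem_stabilizer_iff.1 this
  -- y = g N with g ∉ N
  obtain ⟨g, rfl⟩ := QuotientGroup.mk_surjective y
  have hg : g ∉ Subgroup.normalizer (Q : Set G) := by
    intro hg
    apply hy
    rw [hx₀, QuotientGroup.eq]
    have : g⁻¹ * 1 = g⁻¹ := mul_one _
    rw [this]
    exact (Subgroup.normalizer (Q : Set G)).inv_mem hg
  -- the orbit map into the complement of the base point
  have hne : ∀ u : Q, (u : G) • (g : G ⧸ Subgroup.normalizer (Q : Set G)) ≠ x₀ := by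
    intro u h
    apply hy
    have h1 : (g : G ⧸ Subgroup.normalizer (Q : Set G)) = (u : G)⁻¹ • x₀ := by
      rw [← h, inv_smul_smul]
    rw [h1]
    exact hQfix _ (Q.inv_mem u.2)
  let f : Q → {w : G ⧸ Subgroup.normalizer (Q : Set G) // w ≠ x₀} := fun u => ⟨(u : G) • (g : G ⧸ Subgroup.normalizer (Q : Set G)), hne u⟩
  have hinj : Function.Injective f := by
    intro u v huv
    have h1 : (u : G) • (g : G ⧸ Subgroup.normalizer (Q : Set G)) = (v : G) • (g : G ⧸ Subgroup.normalizer (Q : Set G)) :=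
      congrArg Subtype.val huv
    have h2 : ((v : G)⁻¹ * u) • (g : G ⧸ Subgroup.normalizer (Q : Set G)) = (g : G ⧸ Subgroup.normalizer (Q : Set G)) := by
      rw [mul_smul, h1, inv_smul_smul]
    have h3 := p2b_semireg Q D hCQ hDq hQD hNQ _ (Q.mul_mem (Q.inv_mem v.2) u.2) g hg h2
    apply Subtype.ext
    have : (u : G) = v := by
      calc (u : G) = v * ((v : G)⁻¹ * u) := by group
        _ = v := by rw [h3, mul_one]
    exact this
  have hcard : Nat.card {w : G ⧸ Subgroup.normalizer (Q : Set G) // w ≠ x₀} ≤ Nat.card Q := by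
    have hΩ := p2b_card Q D hord hDq hQD hNQ
    haveI : Fintype (G ⧸ Subgroup.normalizer (Q : Set G)) := Fintype.ofFinite _
    rw [Nat.card_eq_fintype_card, Fintype.card_subtype_compl, Fintype.card_subtype_eq,
      ← Nat.card_eq_fintype_card, hΩ]
    simp
  have hbij := hinj.bijective_of_nat_card_le hcard
  obtain ⟨u, hu⟩ := hbij.2 ⟨z, hz⟩
  refine ⟨u, congrArg Subtype.val hu, ?_⟩
  intro v hv
  apply hinj
  rw [hu]
  exact Subtype.ext hv

end

end Cfsg.Agent.Helper2.Bsd
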