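import Mathlib

/-!
# Strict subnormal chains of subgroups

`SCh K₀ K l` says that there is a chain `K₀ = H₀ < H₁ < ⋯ < H_l = K` of subgroups of `G`, each normal in the
next.  `HasChain G l` is the special case `K₀ = ⊥`, `K = ⊤`.  We prove the basic calculus: transport along
injective maps and surjective comaps, concatenation, splitting along a normal subgroup, and the bound
`l ≤ Ω(|G|)`.
-/

set_option autoImplicit false

namespace Cfsg.Agent.Helper7.CLen

open scoped ArithmeticFunction.Omega

variable {G : Type*} [Group G]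

/-- A strict chain from `K₀` to `K` of length `l`, each term normal in the next. -/
inductive SCh (K₀ : Subgroup G) : Subgroup G → ℕ → Prop
  | refl : SCh K₀ K₀ 0
  | step {K K' : Subgroup G} {l : ℕ} : SCh K₀ K l → K < K' → (K.subgroupOf K').Normal →
      SCh K₀ K' (l + 1)

/-- The group `G` has a strict subnormal chain of length `l` from `⊥` to `⊤`. -/
def HasChain (G : Type*) [Group G] (l : ℕ) : Prop := SCh (⊥ : Subgroup G) ⊤ l

theorem SCh.le {K₀ K : Subgroup G} {l : ℕ} (h : SCh K₀ K l) : K₀ ≤ K := by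
  induction h with
  | refl => exact le_refl _
  | step _ hlt _ ih => exact ih.trans hlt.le

theorem SCh.lt_of_pos {K₀ K : Subgroup G} {l : ℕ} (h : SCh K₀ K l) (hl : 0 < l) : K₀ < K := by
  cases h with
  | refl => exact absurd hl (lt_irrefl 0)
  | step h' hlt _ => exact lt_of_le_of_lt h'.le hlt

theorem SCh.eq_zero_of_eq {K : Subgroup G} {l : ℕ} (h : SCh K K l) : l = 0 := by
  by_contra hl
  exact lt_irrefl _ (h.lt_of_pos (Nat.pos_of_ne_zero hl))

/-- Concatenation of chains. -/
theorem SCh.trans {K₀ K₁ K₂ : Subgroup G} {a b : ℕ} (h₁ : SCh K₀ K₁ a) (h₂ : SCh K₁ K₂ b) :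
    SCh K₀ K₂ (a + b) := by
  induction h₂ with
  | refl => exact h₁
  | step _ hlt hn ih => exact SCh.step ih hlt hn

/-- From a chain indexed by `Fin (l + 1)`. -/
theorem sCh_of_fin (l : ℕ) (H : Fin (l + 1) → Subgroup G)
    (hchain : ∀ i : Fin l, H i.castSucc < H i.succ ∧ ((H i.castSucc).subgroupOf (H i.succ)).Normal) :
    SCh (H 0) (H (Fin.last l)) l := by
  have key : ∀ j : ℕ, ∀ hj : j < l + 1, SCh (H 0) (H ⟨j, hj⟩) j := by
    intro j
    induction j with
    | zero => intro hj; exact SCh.refl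
    | succ j ih =>
      intro hj
      have hj' : j < l := by omega
      have h1 := ih (by omega)
      have h2 := hchain ⟨j, hj'⟩
      exact SCh.step h1 h2.1 h2.2
  exact key l (by omega)

theorem hasChain_of_fin (l : ℕ) (H : Fin (l + 1) → Subgroup G) (h0 : H 0 = ⊥)
    (hl : H (Fin.last l) = ⊤)
    (hchain : ∀ i : Fin l, H i.castSucc < H i.succ ∧ ((H i.castSucc).subgroupOf (H i.succ)).Normal) :
    HasChain G l := by
  have := sCh_of_fin l H hchain
  rw [h0, hl] at this
  exact this

/-- Normality of `K.subgroupOf K'` spelled out. -/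
theorem normal_subgroupOf_iff' {K K' : Subgroup G} (hle : K ≤ K') :
    (K.subgroupOf K').Normal ↔ ∀ k ∈ K, ∀ g ∈ K', g * k * g⁻¹ ∈ K := by
  constructor
  · intro h k hk g hg
    have := h.conj_mem ⟨k, hle hk⟩ (Subgroup.mem_subgroupOf.mpr hk) ⟨g, hg⟩
    exact Subgroup.mem_subgroupOf.mp this
  · intro h
    refine ⟨fun n hn g => ?_⟩
    rw [Subgroup.mem_subgroupOf] at hn ⊢
    exact h n hn g g.2

/-- Image of a chain under an injective homomorphism. -/
theorem SCh.map {G' : Type*} [Group G'] (f : G →* G') (hf : Function.Injective f)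
    {K₀ K : Subgroup G} {l : ℕ} (h : SCh K₀ K l) : SCh (K₀.map f) (K.map f) l := by
  induction h with
  | refl => exact SCh.refl
  | @step K₁ K₂ l' _ hlt hn ih =>
    refine SCh.step ih ?_ ?_
    · exact (Subgroup.map_lt_map_iff_of_injective hf).mpr hlt
    · rw [normal_subgroupOf_iff' (Subgroup.map_mono hlt.le)]
      rw [normal_subgroupOf_iff' hlt.le] at hn
      rintro _ ⟨k, hk, rfl⟩ _ ⟨g, hg, rfl⟩
      exact ⟨g * k * g⁻¹, hn k hk g hg, by simp⟩

/-- Preimage of a chain under a surjective homomorphism. -/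
theorem SCh.comap {G' : Type*} [Group G'] (f : G →* G') (hf : Function.Surjective f)
    {K₀ K : Subgroup G'} {l : ℕ} (h : SCh K₀ K l) : SCh (K₀.comap f) (K.comap f) l := by
  induction h with
  | refl => exact SCh.refl
  | @step K₁ K₂ l' _ hlt hn ih =>
    refine SCh.step ih ?_ ?_
    · exact (Subgroup.comap_lt_comap_of_surjective hf).mpr hlt
    · rw [normal_subgroupOf_iff' (Subgroup.comap_mono hlt.le)]
      rw [normal_subgroupOf_iff' hlt.le] at hn
      intro k hk g hg
      rw [Subgroup.mem_comap] at hk hg ⊢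
      rw [map_mul, map_mul, map_inv]
      exact hn _ hk _ hg

/-- Restricting a chain below `N` to the group `N`. -/
theorem SCh.subgroupOf {K₀ K : Subgroup G} {l : ℕ} (h : SCh K₀ K l) (N : Subgroup G) (hK : K ≤ N) :
    SCh (K₀.subgroupOf N) (K.subgroupOf N) l := by
  induction h with
  | refl => exact SCh.refl
  | @step K₁ K₂ l' h' hlt hn ih =>
    refine SCh.step (ih (hlt.le.trans hK)) ?_ ?_
    · constructor
      · intro x hx
        exact hlt.le hx
      · intro hcon
        apply hlt.not_ge
        intro x hx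
        have : (⟨x, hK hx⟩ : N) ∈ K₂.subgroupOf N := Subgroup.mem_subgroupOf.mpr hx
        exact Subgroup.mem_subgroupOf.mp (hcon this)
    · have hle : K₁.subgroupOf N ≤ K₂.subgroupOf N := fun x hx => hlt.le hx
      rw [normal_subgroupOf_iff' hle]
      rw [normal_subgroupOf_iff' hlt.le] at hn
      intro k hk g hg
      rw [Subgroup.mem_subgroupOf] at hk hg ⊢
      exact hn _ hk _ hg

/-- Chains are invariant under isomorphism. -/
theorem HasChain.of_equiv {G' : Type*} [Group G'] (e : G ≃* G') {l : ℕ} (h : HasChain G l) :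
    HasChain G' l := by
  have := SCh.map e.toMonoidHom e.injective h
  rw [Subgroup.map_bot] at this
  have htop : (⊤ : Subgroup G).map e.toMonoidHom = ⊤ := by
    rw [← MonoidHom.range_eq_map]
    exact MonoidHom.range_eq_top.mpr e.surjective
  rw [htop] at this
  exact this

/-- A chain in `G` from `⊥` to `N` gives a chain of the group `N`. -/
theorem hasChain_subgroup_of_sCh {N : Subgroup G} {l : ℕ} (h : SCh (⊥ : Subgroup G) N l) :
    HasChain N l := by
  have := h.subgroupOf N (le_refl _)
  rw [Subgroup.bot_subgroupOf, Subgroup.subgroupOf_self] at this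
  exact this

/-- A chain of the group `N` gives a chain in `G` from `⊥` to `N`. -/
theorem sCh_of_hasChain_subgroup {N : Subgroup G} {l : ℕ} (h : HasChain N l) :
    SCh (⊥ : Subgroup G) N l := by
  have := SCh.map N.subtype N.subtype_injective h
  rw [Subgroup.map_bot, ← MonoidHom.range_eq_map, Subgroup.range_subtype] at this
  exact this

/-- Gluing a chain of a normal subgroup and a chain of the quotient. -/
theorem HasChain.glue (N : Subgroup G) [N.Normal] {a b : ℕ} (ha : HasChain N a)
    (hb : HasChain (G ⧸ N) b) : HasChain G (a + b) := by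
  have h1 := sCh_of_hasChain_subgroup ha
  have h2 := SCh.comap (QuotientGroup.mk' N) (QuotientGroup.mk'_surjective N) hb
  rw [Subgroup.comap_top] at h2
  have hbot : (⊥ : Subgroup (G ⧸ N)).comap (QuotientGroup.mk' N) = N := by
    rw [MonoidHom.comap_bot]; exact QuotientGroup.ker_mk' N
  rw [hbot] at h2
  exact h1.trans h2

/-- Splitting a chain along a normal subgroup (the Dedekind argument). -/
theorem SCh.split (N : Subgroup G) [hN : N.Normal] {K₀ K : Subgroup G} {l : ℕ} (h : SCh K₀ K l) :
    ∃ a b : ℕ, l ≤ a + b ∧ SCh (K₀ ⊓ N) (K ⊓ N) a ∧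
      SCh (K₀.map (QuotientGroup.mk' N)) (K.map (QuotientGroup.mk' N)) b := by
  induction h with
  | refl => exact ⟨0, 0, le_refl _, SCh.refl, SCh.refl⟩
  | @step K₁ K₂ l' h' hlt hn ih =>
    obtain ⟨a, b, hab, h1, h2⟩ := ih
    rw [normal_subgroupOf_iff' hlt.le] at hn
    have hle1 : K₁ ⊓ N ≤ K₂ ⊓ N := inf_le_inf_right N hlt.le
    have hle2 : K₁.map (QuotientGroup.mk' N) ≤ K₂.map (QuotientGroup.mk' N) :=
      Subgroup.map_mono hlt.le
    have hn1 : ((K₁ ⊓ N).subgroupOf (K₂ ⊓ N)).Normal := by
      rw [normal_subgroupOf_iff' hle1]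
      intro k hk g hg
      exact ⟨hn k hk.1 g hg.1, hN.conj_mem k hk.2 g⟩
    have hn2 : ((K₁.map (QuotientGroup.mk' N)).subgroupOf (K₂.map (QuotientGroup.mk' N))).Normal := by
      rw [normal_subgroupOf_iff' hle2]
      rintro _ ⟨k, hk, rfl⟩ _ ⟨g, hg, rfl⟩
      exact ⟨g * k * g⁻¹, hn k hk g hg, by simp⟩
    by_cases e1 : K₁ ⊓ N = K₂ ⊓ N
    · by_cases e2 : K₁.map (QuotientGroup.mk' N) = K₂.map (QuotientGroup.mk' N)
      · exfalso
        apply hlt.not_ge
        intro x hx
        have hx' : (QuotientGroup.mk' N) x ∈ K₁.map (QuotientGroup.mk' N) := by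
          rw [e2]; exact ⟨x, hx, rfl⟩
        obtain ⟨k, hk, hkx⟩ := hx'
        have hmem : k⁻¹ * x ∈ N := by
          have : (QuotientGroup.mk' N) k = (QuotientGroup.mk' N) x := hkx
          rw [QuotientGroup.mk'_apply, QuotientGroup.mk'_apply, QuotientGroup.eq] at this
          exact this
        have h3 : k⁻¹ * x ∈ K₂ ⊓ N :=
          ⟨K₂.mul_mem (K₂.inv_mem (hlt.le hk)) hx, hmem⟩
        rw [← e1] at h3
        have := K₁.mul_mem hk h3.1
        rwa [mul_inv_cancel_left] at this
      · refine ⟨a, b + 1, by omega, ?_, SCh.step h2 (lt_of_le_of_ne hle2 e2) hn2⟩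
        rw [← e1]; exact h1
    · by_cases e2 : K₁.map (QuotientGroup.mk' N) = K₂.map (QuotientGroup.mk' N)
      · refine ⟨a + 1, b, by omega, SCh.step h1 (lt_of_le_of_ne hle1 e1) hn1, ?_⟩
        rw [← e2]; exact h2
      · exact ⟨a + 1, b + 1, by omega, SCh.step h1 (lt_of_le_of_ne hle1 e1) hn1,
          SCh.step h2 (lt_of_le_of_ne hle2 e2) hn2⟩

/-- Splitting a chain of `G` along a normal subgroup. -/
theorem HasChain.split (N : Subgroup G) [N.Normal] {l : ℕ} (h : HasChain G l) :
    ∃ a b : ℕ, l ≤ a + b ∧ HasChain N a ∧ HasChain (G ⧸ N) b := by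
  obtain ⟨a, b, hab, h1, h2⟩ := SCh.split N h
  rw [bot_inf_eq, top_inf_eq] at h1
  rw [Subgroup.map_bot] at h2
  have htop : (⊤ : Subgroup G).map (QuotientGroup.mk' N) = ⊤ := by
    rw [← MonoidHom.range_eq_map]
    exact MonoidHom.range_eq_top.mpr (QuotientGroup.mk'_surjective N)
  rw [htop] at h2
  exact ⟨a, b, hab, hasChain_subgroup_of_sCh h1, h2⟩

/-- A trivial group has only the chain of length `0`. -/
theorem HasChain.eq_zero_of_subsingleton [Subsingleton G] {l : ℕ} (h : HasChain G l) : l = 0 := by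
  have : (⊥ : Subgroup G) = ⊤ := Subsingleton.elim _ _
  unfold HasChain at h
  rw [this] at h
  exact h.eq_zero_of_eq

/-- Every group has some chain. -/
theorem hasChain_exists (G : Type*) [Group G] : ∃ l, HasChain G l := by
  by_cases h : (⊥ : Subgroup G) = ⊤
  · refine ⟨0, ?_⟩
    unfold HasChain
    rw [h]
    exact SCh.refl
  · refine ⟨1, SCh.step SCh.refl (lt_of_le_of_ne bot_le h) ?_⟩
    rw [Subgroup.bot_subgroupOf]
    infer_instance

/-- A non-trivial group has a chain of length `1`. -/
theorem hasChain_one_of_nontrivial [Nontrivial G] : HasChain G 1 := by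
  have h : (⊥ : Subgroup G) ≠ ⊤ := bot_ne_top
  refine SCh.step SCh.refl (lt_of_le_of_ne bot_le h) ?_
  rw [Subgroup.bot_subgroupOf]
  infer_instance

/-- Chains of a simple group have length at most `1`. -/
theorem HasChain.le_one_of_simple [IsSimpleGroup G] {l : ℕ} (h : HasChain G l) : l ≤ 1 := by
  unfold HasChain at h
  generalize hT : (⊤ : Subgroup G) = T at h
  cases h with
  | refl => exact Nat.zero_le _
  | @step K _ l' h' hlt hn =>
    subst hT
    have hK : K.Normal := by
      rw [normal_subgroupOf_iff' hlt.le] at hn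
      exact ⟨fun n hn' g => hn n hn' g (Subgroup.mem_top g)⟩
    rcases hK.eq_bot_or_eq_top with hb | ht
    · rw [hb] at h'
      rw [h'.eq_zero_of_eq]
    · exact absurd ht hlt.ne

/-- The length of a chain is bounded by the number of prime factors of the order. -/
theorem SCh.cardFactors_le [Finite G] {K₀ K : Subgroup G} {l : ℕ} (h : SCh K₀ K l) :
    Ω (Nat.card K₀) + l ≤ Ω (Nat.card K) := by
  induction h with
  | refl => exact le_refl _
  | @step K₁ K₂ l' h' hlt _ ih =>
    have hcard : Nat.card K₂ = K₁.relIndex K₂ * Nat.card K₁ := by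
      have := Subgroup.relIndex_mul_relIndex (⊥ : Subgroup G) K₁ K₂ bot_le hlt.le
      rw [Subgroup.relIndex_bot_left, Subgroup.relIndex_bot_left] at this
      rw [← this, mul_comm]
    have hne1 : Nat.card K₁ ≠ 0 := Nat.card_pos.ne'
    have hne2 : K₁.relIndex K₂ ≠ 0 := by
      intro h0
      rw [h0, zero_mul] at hcard
      exact (Nat.card_pos (α := K₂)).ne' hcard
    have hge : 2 ≤ K₁.relIndex K₂ := by
      by_contra hlt2
      have h1 : K₁.relIndex K₂ = 1 := by omega
      rw [Subgroup.relIndex_eq_one] at h1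
      exact hlt.not_ge h1
    have hpos : 1 ≤ Ω (K₁.relIndex K₂) := by
      rw [Nat.one_le_iff_ne_zero, Ne, ArithmeticFunction.cardFactors_eq_zero_iff_eq_zero_or_one]
      omega
    rw [hcard, ArithmeticFunction.cardFactors_mul hne2 hne1]
    omega

theorem HasChain.le_cardFactors [Finite G] {l : ℕ} (h : HasChain G l) : l ≤ Ω (Nat.card G) := by
  have := SCh.cardFactors_le h
  rw [Subgroup.card_top] at this
  omega

end Cfsg.Agent.Helper7.CLen
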