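import Mathlib
import Cfsg.Agent.Helper7.CLenA

/-!
# Counting orbits, and transport of the bound to permutation groups on `Fin m`
-/

set_option autoImplicit false

namespace Cfsg.Agent.Helper7.CLen

open MulAction

/-- The number of orbits. -/
noncomputable def orb (G : Type*) [Group G] (Ω : Type*) [MulAction G Ω] : ℕ :=
  Nat.card (Quotient (MulAction.orbitRel G Ω))

section basic

variable {G : Type*} [Group G] {Ω : Type*} [MulAction G Ω]

theorem orbitRel_iff' {x y : Ω} : (MulAction.orbitRel G Ω) x y ↔ ∃ g : G, g • y = x := by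
  rw [MulAction.orbitRel_apply, MulAction.mem_orbit_iff]

theorem orb_le_card [Finite Ω] : orb G Ω ≤ Nat.card Ω :=
  Nat.card_le_card_of_surjective (Quotient.mk (MulAction.orbitRel G Ω)) Quotient.mk_surjective

/-- An invariant function with at least `s` values forces at least `s` orbits. -/
theorem card_le_orb_of_invariant [Finite Ω] {ι : Type*} (f : Ω → ι) (hf : ∀ (g : G) (x : Ω), f (g • x) = f x)
    (s : Finset ι) (hs : ∀ i ∈ s, ∃ x, f x = i) : s.card ≤ orb G Ω := by
  classical
  let F : Quotient (MulAction.orbitRel G Ω) → ι :=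
    Quotient.lift f (by
      intro a b hab
      obtain ⟨g, hg⟩ := orbitRel_iff'.mp hab
      rw [← hg, hf])
  have hsub : (s : Set ι) ⊆ Set.range F := by
    intro i hi
    obtain ⟨x, hx⟩ := hs i hi
    exact ⟨Quotient.mk _ x, hx⟩
  have h1 : Nat.card (s : Set ι) ≤ Nat.card (Set.range F) :=
    Nat.card_mono (Set.finite_range F) hsub
  have h2 : Nat.card (Set.range F) ≤ orb G Ω := by
    unfold orb
    exact Nat.card_le_card_of_surjective (Set.rangeFactorization F) Set.rangeFactorization_surjective
  have h3 : Nat.card (s : Set ι) = s.card := by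
    rw [Nat.card_coe_set_eq, Set.ncard_coe_finset]
  omega

/-- Orbit counts agree under a bijection matching the orbit relations. -/
theorem orb_congr {G' : Type*} [Group G'] {Ω' : Type*} [MulAction G' Ω'] (σ : Ω ≃ Ω')
    (h : ∀ x y : Ω, (∃ g : G, g • y = x) ↔ ∃ g' : G', g' • σ y = σ x) : orb G Ω = orb G' Ω' := by
  unfold orb
  apply Nat.card_congr
  refine Quotient.congr σ ?_
  intro a b
  change (MulAction.orbitRel G Ω) a b ↔ (MulAction.orbitRel G' Ω') (σ a) (σ b)
  rw [orbitRel_iff', orbitRel_iff']
  exact h a b

theorem orb_eq_one_of_pretransitive [Nonempty Ω] [MulAction.IsPretransitive G Ω] : orb G Ω = 1 := by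
  unfold orb
  have : Subsingleton (Quotient (MulAction.orbitRel G Ω)) := by
    constructor
    intro a b
    induction a using Quotient.inductionOn with
    | h a =>
      induction b using Quotient.inductionOn with
      | h b =>
        apply Quotient.sound
        exact orbitRel_iff'.mpr (MulAction.exists_smul_eq G b a)
  have : Nonempty (Quotient (MulAction.orbitRel G Ω)) :=
    ⟨Quotient.mk _ (Classical.arbitrary Ω)⟩
  exact Nat.card_unique

theorem pretransitive_of_orb_eq_one [Finite Ω] (h : orb G Ω = 1) : MulAction.IsPretransitive G Ω := by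
  unfold orb at h
  have hs := (Nat.card_eq_one_iff_unique.mp h).1
  constructor
  intro x y
  have : (Quotient.mk (MulAction.orbitRel G Ω) y) = Quotient.mk _ x := Subsingleton.elim _ _
  exact orbitRel_iff'.mp (Quotient.exact this)

theorem nonempty_of_orb_eq_one (h : orb G Ω = 1) : Nonempty Ω := by
  unfold orb at h
  have hs := (Nat.card_eq_one_iff_unique.mp h).2
  obtain ⟨q⟩ := hs
  induction q using Quotient.inductionOn with
  | h a => exact ⟨a⟩

end basic

/-- The statement for permutation groups on `Fin m`. -/
def P (m : ℕ) : Prop :=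
  ∀ (G : Subgroup (Equiv.Perm (Fin m))) (l : ℕ), HasChain G l → 3 * l ≤ 4 * (m - orb G (Fin m))

/-- Transport of `P m` to an arbitrary faithful action on a set with `m` points. -/
theorem transport {H : Type*} {X : Type*} [Group H] [MulAction H X] [FaithfulSMul H X] [Fintype X]
    (m : ℕ) (hm : Fintype.card X = m) (hP : P m) (l : ℕ) (hl : HasChain H l) :
    3 * l ≤ 4 * (m - orb H X) := by
  classical
  subst hm
  let σ : X ≃ Fin (Fintype.card X) := Fintype.equivFin X
  let ψ : H →* Equiv.Perm (Fin (Fintype.card X)) :=
    (Equiv.permCongrHom σ).toMonoidHom.comp (MulAction.toPermHom H X)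
  have hψ : ∀ (h : H) (x : X), ψ h (σ x) = σ (h • x) := by
    intro h x
    change σ ((MulAction.toPermHom H X h) (σ.symm (σ x))) = _
    rw [σ.symm_apply_apply]
    rfl
  have hinj : Function.Injective ψ := by
    intro a b hab
    apply FaithfulSMul.eq_of_smul_eq_smul (α := X)
    intro x
    have := congrArg (fun p => p (σ x)) hab
    simp only [hψ] at this
    exact σ.injective this
  let e : H ≃* ψ.range := MonoidHom.ofInjective hinj
  have h1 := hP ψ.range l (hl.of_equiv e)
  have h2 : orb H X = orb ψ.range (Fin (Fintype.card X)) := by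
    apply orb_congr σ
    intro x y
    constructor
    · rintro ⟨g, hg⟩
      refine ⟨⟨ψ g, g, rfl⟩, ?_⟩
      change ψ g (σ y) = σ x
      rw [hψ, hg]
    · rintro ⟨⟨_, g, rfl⟩, hg⟩
      refine ⟨g, ?_⟩
      change ψ g (σ y) = σ x at hg
      rw [hψ] at hg
      exact σ.injective hg
  rw [h2]
  exact h1

end Cfsg.Agent.Helper7.CLen
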