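import Mathlib
import Cfsg.Agent.Helper7.CLenB

/-!
# Reductions: intransitive and imprimitive groups
-/

set_option autoImplicit false

namespace Cfsg.Agent.Helper7.CLen

open MulAction

section kq

variable {G : Type*} [Group G] {X : Type*} [MulAction G X]

/-- Splitting a chain along the kernel of an action. -/
theorem HasChain.split_action {l : ℕ} (h : HasChain G l) :
    ∃ a b : ℕ, l ≤ a + b ∧ HasChain (MulAction.toPermHom G X).ker a ∧
      HasChain (MulAction.toPermHom G X).range b := by
  obtain ⟨a, b, hab, h1, h2⟩ := h.split (MulAction.toPermHom G X).ker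
  exact ⟨a, b, hab, h1, h2.of_equiv (QuotientGroup.quotientKerEquivRange _)⟩

theorem orb_range_eq : orb (MulAction.toPermHom G X).range X = orb G X := by
  apply orb_congr (Equiv.refl X)
  intro x y
  constructor
  · rintro ⟨⟨_, g, rfl⟩, hg⟩
    exact ⟨g, hg⟩
  · rintro ⟨g, hg⟩
    exact ⟨⟨_, g, rfl⟩, hg⟩

end kq

/-- A faithful action on the empty set or a one-point set is by the trivial group. -/
theorem subsingleton_of_card_le_one {G : Type*} [Group G] {Ω : Type*} [MulAction G Ω]
    [FaithfulSMul G Ω] [Subsingleton Ω] : Subsingleton G := by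
  constructor
  intro a b
  apply FaithfulSMul.eq_of_smul_eq_smul (α := Ω)
  intro x
  exact Subsingleton.elim _ _

/-- The intransitive case of the induction. -/
theorem intrans (n : ℕ) (IH : ∀ m < n, P m) {G : Type*} [Group G] {Ω : Type*} [MulAction G Ω]
    [FaithfulSMul G Ω] [Fintype Ω] (hn : Fintype.card Ω = n) (hr : orb G Ω ≠ 1) (l : ℕ)
    (hl : HasChain G l) : 3 * l ≤ 4 * (n - orb G Ω) := by
  classical
  rcases isEmpty_or_nonempty Ω with hΩ | ⟨⟨ω⟩⟩
  · haveI : Subsingleton G := subsingleton_of_card_le_one (Ω := Ω)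
    rw [hl.eq_zero_of_subsingleton]
    omega
  -- the orbit of `ω` and its complement
  let X : SubMulAction G Ω :=
    { carrier := MulAction.orbit G ω
      smul_mem' := fun g x hx => by
        obtain ⟨g', rfl⟩ := hx
        exact ⟨g * g', by simp [mul_smul]⟩ }
  let Y : SubMulAction G Ω :=
    { carrier := (MulAction.orbit G ω)ᶜ
      smul_mem' := fun g x hx hgx => by
        apply hx
        obtain ⟨g', hg'⟩ := hgx
        exact ⟨g⁻¹ * g', by
          change (g⁻¹ * g') • ω = x
          rw [mul_smul]
          change g' • ω = g • x at hg'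
          rw [hg', inv_smul_smul]⟩ }
  have hXmem : ∀ x : Ω, x ∈ X ↔ x ∈ MulAction.orbit G ω := fun x => Iff.rfl
  have hYmem : ∀ x : Ω, x ∈ Y ↔ x ∉ MulAction.orbit G ω := fun x => Iff.rfl
  haveI : Nonempty X := ⟨⟨ω, MulAction.mem_orbit_self ω⟩⟩
  haveI : MulAction.IsPretransitive G X := by
    constructor
    rintro ⟨x, g, rfl⟩ ⟨y, g', rfl⟩
    refine ⟨g' * g⁻¹, ?_⟩
    apply Subtype.ext
    change (g' * g⁻¹) • (g • ω) = g' • ω
    rw [mul_smul, inv_smul_smul]
  -- the orbit is proper
  have hXne : ∃ y : Ω, y ∉ MulAction.orbit G ω := by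
    by_contra hcon
    push Not at hcon
    apply hr
    haveI : Nonempty Ω := ⟨ω⟩
    haveI : MulAction.IsPretransitive G Ω := by
      constructor
      intro x y
      obtain ⟨g, rfl⟩ := hcon x
      obtain ⟨g', rfl⟩ := hcon y
      refine ⟨g' * g⁻¹, ?_⟩
      change (g' * g⁻¹) • (g • ω) = g' • ω
      rw [mul_smul, inv_smul_smul]
    exact orb_eq_one_of_pretransitive
  -- cardinalities
  have hcard : Fintype.card X + Fintype.card Y = n := by
    rw [← hn]
    have h1 : Fintype.card X = Fintype.card {x : Ω // x ∈ MulAction.orbit G ω} :=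
      Fintype.card_congr (Equiv.refl _)
    have h2 : Fintype.card Y = Fintype.card {x : Ω // ¬ x ∈ MulAction.orbit G ω} :=
      Fintype.card_congr (Equiv.refl _)
    rw [h1, h2]
    exact Fintype.card_subtype_compl (fun x => x ∈ MulAction.orbit G ω) |> fun h => by
      rw [h]
      have := Fintype.card_subtype_le (fun x : Ω => x ∈ MulAction.orbit G ω)
      omega
  have hXpos : 1 ≤ Fintype.card X := Fintype.card_pos
  have hYpos : 1 ≤ Fintype.card Y := by
    obtain ⟨y, hy⟩ := hXne
    haveI : Nonempty Y := ⟨⟨y, hy⟩⟩
    exact Fintype.card_pos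
  -- split along the kernel on `X`
  obtain ⟨a, b, hab, ha, hb⟩ := hl.split_action (X := X)
  -- the quotient part
  have hb' : 3 * b ≤ 4 * (Fintype.card X - 1) := by
    have h1 := transport (H := (MulAction.toPermHom G X).range) (X := X) (Fintype.card X) rfl
      (IH _ (by omega)) b hb
    rw [orb_range_eq, orb_eq_one_of_pretransitive] at h1
    exact h1
  -- the kernel part
  have hfaith : FaithfulSMul (MulAction.toPermHom G X).ker Y := by
    constructor
    intro k₁ k₂ hk
    apply Subtype.ext
    apply FaithfulSMul.eq_of_smul_eq_smul (α := Ω)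
    intro x
    by_cases hx : x ∈ MulAction.orbit G ω
    · have h1 : ∀ k : (MulAction.toPermHom G X).ker, (k : G) • x = x := by
        intro k
        have := k.2
        rw [MonoidHom.mem_ker] at this
        have h2 := congrArg (fun p => (p (⟨x, hx⟩ : X) : Ω)) this
        exact h2
      rw [h1, h1]
    · have := congrArg (fun y : Y => (y : Ω)) (hk ⟨x, hx⟩)
      exact this
  have ha' : 3 * a ≤ 4 * (Fintype.card Y - orb (MulAction.toPermHom G X).ker Y) :=
    transport (H := (MulAction.toPermHom G X).ker) (X := Y) (Fintype.card Y) rfl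
      (IH _ (by omega)) a ha
  -- orbit counting
  have horb : orb G Ω ≤ orb (MulAction.toPermHom G X).ker Y + 1 := by
    unfold orb
    let F : Option (Quotient (MulAction.orbitRel (MulAction.toPermHom G X).ker Y)) →
        Quotient (MulAction.orbitRel G Ω) := fun o =>
      match o with
      | none => Quotient.mk _ ω
      | some q => Quotient.lift (fun y : Y => Quotient.mk (MulAction.orbitRel G Ω) (y : Ω)) (by
          intro y₁ y₂ h12
          obtain ⟨k, hk⟩ := orbitRel_iff'.mp h12
          apply Quotient.sound
          apply orbitRel_iff'.mpr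
          refine ⟨(k : G), ?_⟩
          rw [← hk]
          rfl) q
    have hF : Function.Surjective F := by
      intro q
      induction q using Quotient.inductionOn with
      | h x =>
        by_cases hx : x ∈ MulAction.orbit G ω
        · refine ⟨none, ?_⟩
          apply Quotient.sound
          apply orbitRel_iff'.mpr
          obtain ⟨g, hg⟩ := hx
          refine ⟨g⁻¹, ?_⟩
          rw [← hg]
          exact inv_smul_smul g ω
        · exact ⟨some (Quotient.mk _ ⟨x, hx⟩), rfl⟩
    have := Nat.card_le_card_of_surjective F hF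
    rw [Nat.card_eq_fintype_card (α := Option _), Fintype.card_option,
      ← Nat.card_eq_fintype_card] at this
    exact this
  have horbY : orb (MulAction.toPermHom G X).ker Y ≤ Fintype.card Y := by
    have := orb_le_card (G := (MulAction.toPermHom G X).ker) (Ω := Y)
    rwa [Nat.card_eq_fintype_card] at this
  omega

/-- The imprimitive case of the induction. -/
theorem imprim (n : ℕ) (IH : ∀ m < n, P m) {G : Type*} [Group G] [Finite G] {Ω : Type*} [MulAction G Ω]
    [FaithfulSMul G Ω] [Fintype Ω] (hn : Fintype.card Ω = n) [MulAction.IsPretransitive G Ω] (α : Ω)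
    (H : Subgroup G) (h1 : MulAction.stabilizer G α < H) (h2 : H < ⊤) (l : ℕ) (hl : HasChain G l) :
    3 * l ≤ 4 * (n - 1) := by
  classical
  -- indices
  have hidx : (MulAction.stabilizer G α).index = n := by
    rw [← hn, MulAction.index_stabilizer_of_transitive, Nat.card_eq_fintype_card]
  have hrel : (MulAction.stabilizer G α).relIndex H * H.index = n := by
    rw [Subgroup.relIndex_mul_index h1.le, hidx]
  have hHidx : 2 ≤ H.index := by
    have h0 : H.index ≠ 0 := Subgroup.index_ne_zero_of_finite
    have h1' : H.index ≠ 1 := by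
      rw [Ne, Subgroup.index_eq_one]
      exact h2.ne
    omega
  have hrel2 : 2 ≤ (MulAction.stabilizer G α).relIndex H := by
    have h0 : (MulAction.stabilizer G α).relIndex H ≠ 0 := by
      intro h0
      rw [h0, zero_mul] at hrel
      rw [← hrel] at hidx
      exact Subgroup.index_ne_zero_of_finite hidx
    have h1' : (MulAction.stabilizer G α).relIndex H ≠ 1 := by
      rw [Ne, Subgroup.relIndex_eq_one]
      exact h1.not_ge
    omega
  have hlt : H.index < n := by
    rw [← hrel]
    nlinarith
  letI : Fintype (G ⧸ H) := Fintype.ofFinite _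
  have hcardQ : Fintype.card (G ⧸ H) = H.index := by
    rw [← Nat.card_eq_fintype_card]
    rfl
  -- split along the kernel of the action on `G ⧸ H`
  obtain ⟨a, b, hab, ha, hb⟩ := hl.split_action (X := G ⧸ H)
  have hb' : 3 * b ≤ 4 * (H.index - 1) := by
    have h3 := transport (H := (MulAction.toPermHom G (G ⧸ H)).range) (X := G ⧸ H) H.index hcardQ
      (IH _ hlt) b hb
    rw [orb_range_eq, orb_eq_one_of_pretransitive] at h3
    exact h3
  -- the projection `Ω → G ⧸ H`
  have hex : ∀ x : Ω, ∃ g : G, g • α = x := fun x => MulAction.exists_smul_eq G α x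
  choose γ hγ using hex
  let π : Ω → G ⧸ H := fun x => (γ x : G ⧸ H)
  have hπ : ∀ g : G, π (g • α) = (g : G ⧸ H) := by
    intro g
    change ((γ (g • α) : G) : G ⧸ H) = (g : G ⧸ H)
    rw [QuotientGroup.eq]
    apply h1.le
    rw [MulAction.mem_stabilizer_iff, mul_smul]
    have e : (γ (g • α))⁻¹ • (γ (g • α) • α) = α := inv_smul_smul _ _
    rwa [hγ] at e
  have hπK : ∀ (k : (MulAction.toPermHom G (G ⧸ H)).ker) (x : Ω), π ((k : G) • x) = π x := by
    intro k x
    obtain ⟨g, rfl⟩ := MulAction.exists_smul_eq G α x
    rw [← mul_smul, hπ, hπ]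
    have := k.2
    rw [MonoidHom.mem_ker] at this
    have h3 := congrArg (fun p => p (g : G ⧸ H)) this
    exact h3
  have horb : H.index ≤ orb (MulAction.toPermHom G (G ⧸ H)).ker Ω := by
    rw [← hcardQ, ← Nat.card_eq_fintype_card]
    unfold orb
    let F : Quotient (MulAction.orbitRel (MulAction.toPermHom G (G ⧸ H)).ker Ω) → G ⧸ H :=
      Quotient.lift π (by
        intro x y hxy
        obtain ⟨k, hk⟩ := orbitRel_iff'.mp hxy
        rw [← hk]
        exact hπK k y)
    apply Nat.card_le_card_of_surjective F
    intro q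
    induction q using QuotientGroup.induction_on with
    | H g => exact ⟨Quotient.mk _ (g • α), hπ g⟩
  have ha' : 3 * a ≤ 4 * (n - orb (MulAction.toPermHom G (G ⧸ H)).ker Ω) :=
    intrans n IH hn (by omega) a ha
  have hle : H.index ≤ n := hlt.le
  omega

end Cfsg.Agent.Helper7.CLen
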