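import Mathlib
import Cfsg.Agent.Helper7.CLenB

/-!
# Groups with a regular normal subgroup

If `G` acts faithfully on `n` points and has a regular normal subgroup `N`, then the point stabilizer embeds in
`Aut N`, and a centralizer chain along a generating sequence of `N` gives `Ω(|G_α|) ≤ Ω(n) · log₂ (n - 1)`.
Together with a numerical inequality this gives the `4 (n - 1) / 3` bound directly.
-/

set_option autoImplicit false

namespace Cfsg.Agent.Helper7.CLen

open MulAction
open scoped ArithmeticFunction.Omega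

/-- `2 ^ Ω e ≤ e`. -/
theorem two_pow_cardFactors_le (e : ℕ) (he : 1 ≤ e) : 2 ^ Ω e ≤ e := by
  induction e using Nat.strong_induction_on with
  | _ e ih =>
    rcases Nat.lt_or_ge e 2 with h2 | h2
    · have : e = 1 := by omega
      subst this
      simp
    · have hp : (Nat.minFac e).Prime := Nat.minFac_prime (by omega)
      obtain ⟨q, hq⟩ := Nat.minFac_dvd e
      have hq0 : q ≠ 0 := by
        rintro rfl
        omega
      have hqlt : q < e := by
        have := hp.two_le
        nlinarith [Nat.pos_of_ne_zero hq0]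
      have h1 := ih q hqlt (Nat.pos_of_ne_zero hq0)
      have hΩ : Ω e = 1 + Ω q := by
        conv_lhs => rw [hq]
        rw [ArithmeticFunction.cardFactors_mul hp.ne_zero hq0,
          ArithmeticFunction.cardFactors_apply_prime hp]
      rw [hΩ, pow_add, pow_one]
      calc 2 * 2 ^ Ω q ≤ Nat.minFac e * q := Nat.mul_le_mul hp.two_le h1
        _ = e := hq.symm

theorem cardFactors_le_log (e : ℕ) (he : 1 ≤ e) : Ω e ≤ Nat.log 2 e :=
  Nat.le_log_of_pow_le (by norm_num) (two_pow_cardFactors_le e he)

theorem pow_bound (c : ℕ) (hc : 5 ≤ c) : 3 * ((c + 1) * (c + 1)) ≤ 4 * 2 ^ c := by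
  induction c, hc using Nat.le_induction with
  | base => norm_num
  | succ c hc ih =>
    rw [pow_succ]
    nlinarith

/-- The numerical inequality behind the regular case. -/
theorem num_bound (n a b : ℕ) (ha : 2 ^ a ≤ n) (hb : 2 ^ b ≤ n - 1) (h5 : n ≠ 5) (h9 : n ≠ 9) :
    3 * (a * (1 + b)) ≤ 4 * (n - 1) := by
  have hn2 : 2 ≤ n := by
    have : 1 ≤ 2 ^ b := Nat.one_le_two_pow
    omega
  rcases Nat.lt_or_ge (max (a - 1) b) 5 with hc | hc
  · have ha5 : a ≤ 5 := by
      have := le_max_left (a - 1) b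
      omega
    have hb4 : b ≤ 4 := by
      have := le_max_right (a - 1) b
      omega
    interval_cases a <;> interval_cases b <;> norm_num at ha hb ⊢ <;> omega
  · set c := max (a - 1) b with hcdef
    have h2c : 2 ^ c ≤ n - 1 := by
      rcases max_cases (a - 1) b with ⟨h1, _⟩ | ⟨h1, _⟩
      · rw [hcdef, h1]
        have ha1 : 1 ≤ a := by
          by_contra h0
          have : a = 0 := by omega
          subst this
          simp at h1
          omega
        have : 2 ^ a = 2 * 2 ^ (a - 1) := by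
          conv_lhs => rw [show a = (a - 1) + 1 by omega, pow_succ]
          ring
        have hpos : 1 ≤ 2 ^ (a - 1) := Nat.one_le_two_pow
        omega
      · rw [hcdef, h1]
        exact hb
    have hac : a ≤ c + 1 := by
      have := le_max_left (a - 1) b
      omega
    have hbc : b ≤ c := le_max_right (a - 1) b
    have h3 := pow_bound c hc
    have h4 : a * (1 + b) ≤ (c + 1) * (c + 1) := Nat.mul_le_mul hac (by omega)
    omega

/-- The numerical inequality in terms of `Ω` and `Nat.log`. -/
theorem num_bound' (n : ℕ) (hn : 2 ≤ n) : 3 * (Ω n * (1 + Nat.log 2 (n - 1))) ≤ 4 * (n - 1) := by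
  have hb : 2 ^ Nat.log 2 (n - 1) ≤ n - 1 := Nat.pow_log_le_self 2 (by omega)
  by_cases h5 : n = 5
  · subst h5
    have h1 : Ω 5 = 1 := ArithmeticFunction.cardFactors_apply_prime (by norm_num)
    have h2 : Nat.log 2 (5 - 1) ≤ 2 := by
      by_contra hcon
      have : 2 ^ 3 ≤ 2 ^ Nat.log 2 (5 - 1) := Nat.pow_le_pow_right (by norm_num) (by omega)
      omega
    rw [h1]
    omega
  by_cases h9 : n = 9
  · subst h9
    have h1 : Ω 9 = 2 := by
      have : (9 : ℕ) = 3 * 3 := by norm_num
      rw [this, ArithmeticFunction.cardFactors_mul (by norm_num) (by norm_num),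
        ArithmeticFunction.cardFactors_apply_prime (by norm_num)]
    have h2 : Nat.log 2 (9 - 1) ≤ 3 := by
      by_contra hcon
      have : 2 ^ 4 ≤ 2 ^ Nat.log 2 (9 - 1) := Nat.pow_le_pow_right (by norm_num) (by omega)
      omega
    rw [h1]
    have : 2 * (1 + Nat.log 2 (9 - 1)) ≤ 2 * (1 + 3) := by omega
    omega
  exact num_bound n _ _ (two_pow_cardFactors_le n (by omega)) hb h5 h9

section regular

variable {G : Type*} [Group G] [Finite G] {Ω' : Type*} [MulAction G Ω'] [FaithfulSMul G Ω'] [Fintype Ω']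

/-- The centralizer in the point stabilizer of a subgroup. -/
def cstab (α : Ω') (X : Subgroup G) : Subgroup G :=
  MulAction.stabilizer G α ⊓ Subgroup.centralizer (X : Set G)

omit [Finite G] [FaithfulSMul G Ω'] [Fintype Ω'] in
theorem cstab_bot (α : Ω') : cstab α (⊥ : Subgroup G) = MulAction.stabilizer G α := by
  unfold cstab
  rw [Subgroup.coe_bot, Subgroup.centralizer_eq_top_iff_subset.mpr, inf_top_eq]
  intro x hx
  rw [Set.mem_singleton_iff] at hx
  rw [hx]
  exact Subgroup.one_mem _

omit [Finite G] [Fintype Ω'] in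
/-- The centralizer of a transitive subgroup in the point stabilizer is trivial. -/
theorem cstab_eq_bot (α : Ω') (N : Subgroup G) (htr : ∀ x : Ω', ∃ n ∈ N, n • α = x) :
    cstab α N = ⊥ := by
  rw [eq_bot_iff]
  intro h hh
  rw [Subgroup.mem_bot]
  apply FaithfulSMul.eq_of_smul_eq_smul (α := Ω')
  intro x
  obtain ⟨n, hn, rfl⟩ := htr x
  have h1 : h • α = α := hh.1
  have h2 : n * h = h * n := (Subgroup.mem_centralizer_iff.mp hh.2) n hn
  rw [one_smul, ← mul_smul, ← h2, mul_smul, h1]

omit [FaithfulSMul G Ω'] [Fintype Ω'] in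
/-- One step of the centralizer chain. -/
theorem cstab_step (α : Ω') (N : Subgroup G) (X : Subgroup G) (x : G) (hxN : x ∈ N)
    (hx1 : x ≠ 1) (hNn : N.Normal) :
    ∃ e : ℕ, 1 ≤ e ∧ e ≤ Nat.card N - 1 ∧
      Nat.card (cstab α X) = Nat.card (cstab α (X ⊔ Subgroup.zpowers x)) * e := by
  classical
  set C := cstab α X with hC
  set C' := cstab α (X ⊔ Subgroup.zpowers x) with hC'
  have hle : C' ≤ C := by
    intro h hh
    have hh' := Subgroup.mem_inf.mp hh
    refine Subgroup.mem_inf.mpr ⟨hh'.1, ?_⟩
    rw [Subgroup.mem_centralizer_iff]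
    intro y hy
    exact (Subgroup.mem_centralizer_iff.mp hh'.2) y (le_sup_left (a := X) hy)
  have hmemC' : ∀ h ∈ C, h ∈ C' ↔ h * x = x * h := by
    intro h hh
    constructor
    · intro hh'
      exact ((Subgroup.mem_centralizer_iff.mp (Subgroup.mem_inf.mp hh').2) x
        (le_sup_right (a := X) (Subgroup.mem_zpowers x))).symm
    · intro hcomm
      have hh2 := Subgroup.mem_inf.mp hh
      refine Subgroup.mem_inf.mpr ⟨hh2.1, ?_⟩
      have h1 : X ⊔ Subgroup.zpowers x ≤ Subgroup.centralizer ({h} : Set G) := by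
        rw [sup_le_iff]
        constructor
        · intro y hy
          rw [Subgroup.mem_centralizer_singleton_iff]
          exact (Subgroup.mem_centralizer_iff.mp hh2.2) y hy
        · rw [Subgroup.zpowers_le]
          rw [Subgroup.mem_centralizer_singleton_iff]
          exact hcomm.symm
      rw [Subgroup.mem_centralizer_iff]
      intro y hy
      have := h1 hy
      rw [Subgroup.mem_centralizer_singleton_iff] at this
      exact this
  refine ⟨C'.relIndex C, ?_, ?_, ?_⟩
  · have h0 : C'.relIndex C ≠ 0 := by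
      unfold Subgroup.relIndex
      exact Subgroup.index_ne_zero_of_finite
    omega
  · -- the orbit map
    let f : C ⧸ (C'.subgroupOf C) → {y : G // y ∈ N ∧ y ≠ 1} :=
      Quotient.lift (fun h : C => (⟨(h : G) * x * (h : G)⁻¹, hNn.conj_mem x hxN _, by
        intro h1
        apply hx1
        have : x = (h : G)⁻¹ * ((h : G) * x * (h : G)⁻¹) * (h : G) := by group
        rw [this, h1]
        group⟩ : {y : G // y ∈ N ∧ y ≠ 1})) (by
        intro h₁ h₂ h12
        have h12' : h₁⁻¹ * h₂ ∈ C'.subgroupOf C := QuotientGroup.leftRel_apply.mp h12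
        rw [Subgroup.mem_subgroupOf] at h12'
        have h3 := (hmemC' _ (C.mul_mem (C.inv_mem h₁.2) h₂.2)).mp h12'
        apply Subtype.ext
        change (h₁ : G) * x * (h₁ : G)⁻¹ = (h₂ : G) * x * (h₂ : G)⁻¹
        calc (h₁ : G) * x * (h₁ : G)⁻¹
            = (h₁ : G) * (x * ((h₁ : G)⁻¹ * (h₂ : G))) * (h₂ : G)⁻¹ := by group
          _ = (h₁ : G) * (((h₁ : G)⁻¹ * (h₂ : G)) * x) * (h₂ : G)⁻¹ := by rw [h3]
          _ = (h₂ : G) * x * (h₂ : G)⁻¹ := by group)
    have hf : Function.Injective f := by
      intro q₁ q₂ hq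
      induction q₁ using QuotientGroup.induction_on with
      | H h₁ =>
        induction q₂ using QuotientGroup.induction_on with
        | H h₂ =>
          have h3 : (h₁ : G) * x * (h₁ : G)⁻¹ = (h₂ : G) * x * (h₂ : G)⁻¹ :=
            congrArg (fun y : {y : G // y ∈ N ∧ y ≠ 1} => (y : G)) hq
          apply QuotientGroup.eq.mpr
          rw [Subgroup.mem_subgroupOf]
          apply (hmemC' _ (C.mul_mem (C.inv_mem h₁.2) h₂.2)).mpr
          change (h₁ : G)⁻¹ * (h₂ : G) * x = x * ((h₁ : G)⁻¹ * (h₂ : G))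
          calc (h₁ : G)⁻¹ * (h₂ : G) * x
              = (h₁ : G)⁻¹ * ((h₂ : G) * x * (h₂ : G)⁻¹) * (h₂ : G) := by group
            _ = (h₁ : G)⁻¹ * ((h₁ : G) * x * (h₁ : G)⁻¹) * (h₂ : G) := by rw [h3]
            _ = x * ((h₁ : G)⁻¹ * (h₂ : G)) := by group
    have h1 := Nat.card_le_card_of_injective f hf
    have h2 : Nat.card {y : G // y ∈ N ∧ y ≠ 1} = Nat.card N - 1 := by
      have e : {y : G // y ∈ N ∧ y ≠ 1} ≃ {y : N // y ≠ 1} :=
        { toFun := fun y => ⟨⟨y.1, y.2.1⟩, fun h => y.2.2 (congrArg Subtype.val h)⟩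
          invFun := fun y => ⟨y.1.1, y.1.2, fun h => y.2 (Subtype.ext h)⟩
          left_inv := fun y => rfl
          right_inv := fun y => rfl }
      rw [Nat.card_congr e]
      let _ : Fintype N := Fintype.ofFinite _
      rw [Nat.card_eq_fintype_card, Fintype.card_subtype_compl, Fintype.card_subtype_eq,
        Nat.card_eq_fintype_card]
    rw [← h2]
    exact h1
  · have := Subgroup.relIndex_mul_relIndex (⊥ : Subgroup G) C' C bot_le hle
    rw [Subgroup.relIndex_bot_left, Subgroup.relIndex_bot_left] at this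
    exact this.symm

omit [Fintype Ω'] in
/-- The centralizer-chain estimate. -/
theorem cardFactors_cstab_le (α : Ω') (N : Subgroup G) (hNn : N.Normal)
    (htr : ∀ x : Ω', ∃ n ∈ N, n • α = x) (X : Subgroup G) (hX : X ≤ N) :
    Ω (Nat.card (cstab α X)) + Ω (Nat.card X) * Nat.log 2 (Nat.card N - 1) ≤
      Ω (Nat.card N) * Nat.log 2 (Nat.card N - 1) := by
  induction X using WellFoundedGT.induction with
  | ind X ih =>
    by_cases hXN : X = N
    · rw [hXN, cstab_eq_bot α N htr, Subgroup.card_bot, ArithmeticFunction.cardFactors_one, zero_add]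
    · have hlt : X < N := lt_of_le_of_ne hX hXN
      obtain ⟨x, hxN, hxX⟩ := SetLike.exists_of_lt hlt
      have hx1 : x ≠ 1 := by
        rintro rfl
        exact hxX (Subgroup.one_mem _)
      have hX' : X < X ⊔ Subgroup.zpowers x := by
        refine lt_of_le_of_ne le_sup_left ?_
        intro h
        apply hxX
        rw [h]
        exact le_sup_right (a := X) (Subgroup.mem_zpowers x)
      have hX'N : X ⊔ Subgroup.zpowers x ≤ N := by
        rw [sup_le_iff]
        exact ⟨hX, by rw [Subgroup.zpowers_le]; exact hxN⟩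
      have h1 := ih _ hX' hX'N
      obtain ⟨e, he1, he2, hcard⟩ := cstab_step α N X x hxN hx1 hNn
      have hΩe : Ω e ≤ Nat.log 2 (Nat.card N - 1) :=
        (cardFactors_le_log e he1).trans (Nat.log_mono_right he2)
      have h2 : Ω (Nat.card (cstab α X)) =
          Ω (Nat.card (cstab α (X ⊔ Subgroup.zpowers x))) + Ω e := by
        rw [hcard, ArithmeticFunction.cardFactors_mul Nat.card_pos.ne' (by omega)]
      have h3 : Ω (Nat.card X) + 1 ≤ Ω (Nat.card (X ⊔ Subgroup.zpowers x : Subgroup G)) := by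
        have hc := Subgroup.relIndex_mul_relIndex (⊥ : Subgroup G) X _ bot_le hX'.le
        rw [Subgroup.relIndex_bot_left, Subgroup.relIndex_bot_left] at hc
        have hr0 : X.relIndex (X ⊔ Subgroup.zpowers x) ≠ 0 := by
          unfold Subgroup.relIndex
          exact Subgroup.index_ne_zero_of_finite
        have hr1 : X.relIndex (X ⊔ Subgroup.zpowers x) ≠ 1 := by
          rw [Ne, Subgroup.relIndex_eq_one]
          exact hX'.not_ge
        rw [← hc, ArithmeticFunction.cardFactors_mul Nat.card_pos.ne' hr0]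
        have : 1 ≤ Ω (X.relIndex (X ⊔ Subgroup.zpowers x)) := by
          rw [Nat.one_le_iff_ne_zero, Ne,
            ArithmeticFunction.cardFactors_eq_zero_iff_eq_zero_or_one]
          omega
        omega
      have h4 : (Ω (Nat.card X) + 1) * Nat.log 2 (Nat.card N - 1) ≤
          Ω (Nat.card (X ⊔ Subgroup.zpowers x : Subgroup G)) * Nat.log 2 (Nat.card N - 1) :=
        Nat.mul_le_mul_right _ h3
      rw [h2]
      rw [add_mul, one_mul] at h4
      omega

/-- A group acting faithfully with a regular normal subgroup satisfies the `4 (n - 1) / 3` bound. -/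
theorem regular_bound (α : Ω') (N : Subgroup G) (hNn : N.Normal)
    (htr : ∀ x : Ω', ∃ n ∈ N, n • α = x) (hreg : N ⊓ MulAction.stabilizer G α = ⊥) (l : ℕ)
    (hl : HasChain G l) : 3 * l ≤ 4 * (Fintype.card Ω' - 1) := by
  classical
  have : MulAction.IsPretransitive G Ω' := by
    constructor
    intro x y
    obtain ⟨n₁, -, rfl⟩ := htr x
    obtain ⟨n₂, -, rfl⟩ := htr y
    refine ⟨n₂ * n₁⁻¹, ?_⟩
    rw [mul_smul, inv_smul_smul]
  -- `|N| = n`
  have hNcard : Nat.card N = Fintype.card Ω' := by
    rw [← Nat.card_eq_fintype_card]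
    apply Nat.card_congr
    refine Equiv.ofBijective (fun n : N => (n : G) • α) ⟨?_, ?_⟩
    · intro n₁ n₂ h12
      have h12' : (n₁ : G) • α = (n₂ : G) • α := h12
      have : (n₁ : G)⁻¹ * (n₂ : G) ∈ N ⊓ MulAction.stabilizer G α := by
        refine Subgroup.mem_inf.mpr ⟨N.mul_mem (N.inv_mem n₁.2) n₂.2, ?_⟩
        rw [MulAction.mem_stabilizer_iff, mul_smul, ← h12', inv_smul_smul]
      rw [hreg, Subgroup.mem_bot, inv_mul_eq_one] at this
      exact Subtype.ext this
    · intro x
      obtain ⟨n, hn, rfl⟩ := htr x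
      exact ⟨⟨n, hn⟩, rfl⟩
  -- `|G| = n |G_α|`
  have hGcard : Nat.card G = Fintype.card Ω' * Nat.card (MulAction.stabilizer G α) := by
    have h1 := Subgroup.card_mul_index (MulAction.stabilizer G α)
    rw [MulAction.index_stabilizer_of_transitive, Nat.card_eq_fintype_card (α := Ω')] at h1
    rw [← h1, mul_comm]
  have hnpos : 1 ≤ Fintype.card Ω' := by
    have : Nonempty Ω' := ⟨α⟩
    exact Fintype.card_pos
  have h1 := cardFactors_cstab_le α N hNn htr ⊥ bot_le
  rw [cstab_bot, Subgroup.card_bot, ArithmeticFunction.cardFactors_one, zero_mul, add_zero, hNcard] at h1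
  have h2 := hl.le_cardFactors
  rw [hGcard, ArithmeticFunction.cardFactors_mul (by omega) Nat.card_pos.ne'] at h2
  rcases Nat.lt_or_ge (Fintype.card Ω') 2 with hn2 | hn2
  · have hn1 : Fintype.card Ω' = 1 := by omega
    rw [hn1, ArithmeticFunction.cardFactors_one] at h1 h2
    omega
  · have h3 := num_bound' (Fintype.card Ω') hn2
    have h4 : Ω (Fintype.card Ω') * (1 + Nat.log 2 (Fintype.card Ω' - 1)) =
        Ω (Fintype.card Ω') + Ω (Fintype.card Ω') * Nat.log 2 (Fintype.card Ω' - 1) := by ring
    omega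

end regular

end Cfsg.Agent.Helper7.CLen
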