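import Mathlib
import Cfsg.Agent.Helper1.ONSe

/-!
# The O'Nan–Scott structure theorem with the link to components

A restatement of `Cfsg.Agent.Helper1.ONS.ons_idx` that additionally records that the coordinate isomorphism `e`
has the same supports as the component map `comp` (so that supports are permuted by conjugation).
-/

set_option autoImplicit false

namespace Cfsg.Agent.Helper7.CLen

open MulAction Cfsg.Agent.Helper1.OS Cfsg.Agent.Helper1.ONS Cfsg.Agent.Helper1

variable {G : Type*} [Group G] [Finite G] {N S : Subgroup G} [hNn : N.Normal]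

variable (hNmin : ∀ M : Subgroup G, M.Normal → M ≤ N → M = ⊥ ∨ M = N)
  (hNnab : ¬ ∀ a ∈ N, ∀ b ∈ N, a * b = b * a) (h : IsMinIn N S)
  {Ω : Type*} [MulAction G Ω] [FaithfulSMul G Ω]

include hNmin hNnab h in
/-- The structure theorem over the index type of the conjugates of `S`, with supports. -/
theorem ons_idx_supp [Nontrivial Ω] (hprim : IsPreprimitive G Ω) (hN1 : N ≠ ⊥) (α : Ω) :
    ∃ e : N ≃* (Idx S → S), (∀ (n : N) (i : Idx S), e n i = 1 ↔ comp hNmin hNnab h n i = 1) ∧
      ((∃ K : Idx S → Subgroup S, (∀ i, K i ≠ ⊤) ∧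
          ∀ n : N, (n : G) ∈ stabilizer G α ↔ ∀ i, e n i ∈ K i) ∨
       (∃ (k : ℕ) (c : Idx S → Idx S), 2 ≤ k ∧
          (∀ j, Nat.card {i // c i = j} = k ∨ Nat.card {i // c i = j} = 0) ∧
          ∀ n : N, (n : G) ∈ stabilizer G α ↔ ∀ i j, c i = c j → e n i = e n j)) := by
  classical
  haveI := hprim
  have hSnab := not_comm hNmin hNnab h
  haveI hsimple : IsSimpleGroup S := isSimpleGroup_of_isMinIn hNmin h
  have hS : ∃ a b : S, a * b ≠ b * a := by
    by_contra hcon
    push Not at hcon
    apply hSnab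
    intro a ha b hb
    exact congrArg Subtype.val (hcon ⟨a, ha⟩ ⟨b, hb⟩)
  let ψ : ∀ i : Idx S, S ≃* i.1 := fun i => Classical.choice (nonempty_equiv_idx i)
  -- the basic isomorphism
  let e₀ : N ≃* (Idx S → S) :=
    (E₁ hNmin hNnab h).symm.trans (MulEquiv.piCongrRight (fun i => (ψ i).symm))
  have he₀ : ∀ (n : N) (i : Idx S), ((ψ i (e₀ n i) : i.1) : G) = comp hNmin hNnab h n i := by
    intro n i
    change ((ψ i ((ψ i).symm (((E₁ hNmin hNnab h).symm n) i)) : i.1) : G) = _
    rw [MulEquiv.apply_symm_apply]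
    rfl
  have hsupp₀ : ∀ (n : N) (i : Idx S), e₀ n i = 1 ↔ comp hNmin hNnab h n i = 1 := by
    intro n i
    rw [← he₀]
    constructor
    · intro h1
      rw [h1, map_one]
      rfl
    · intro h1
      have h2 : (ψ i (e₀ n i) : i.1) = 1 := Subtype.ext h1
      have h3 : ψ i (e₀ n i) = ψ i 1 := by rw [h2, map_one]
      exact (ψ i).injective h3
  by_cases hall : ∀ t ∈ S, t ∈ projS N S (N ⊓ stabilizer G α)
  · -- diagonal case
    have hfull := proj_full_all (h := h) hprim hN1 α hall
    let D' : Subgroup (Idx S → S) :=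
      Subgroup.comap e₀.symm.toMonoidHom ((stabilizer G α).subgroupOf N)
    have hD' : ∀ n : N, e₀ n ∈ D' ↔ (n : G) ∈ stabilizer G α := by
      intro n
      change ((e₀.symm (e₀ n) : N) : G) ∈ stabilizer G α ↔ _
      rw [MulEquiv.symm_apply_apply]
    have hD'x : ∀ x ∈ D', ∃ n : N, (n : G) ∈ stabilizer G α ∧ e₀ n = x := by
      intro x hx
      refine ⟨e₀.symm x, hx, ?_⟩
      rw [MulEquiv.apply_symm_apply]
    have hsub : ∀ (i : Idx S) (s : S), ∃ x ∈ D', x i = s := by
      intro i s
      obtain ⟨n, hn, hni⟩ := exists_comp_eq_of_mem_projS hNmin hNnab h i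
        (hfull i _ (ψ i s).2)
      refine ⟨e₀ n, (hD' n).mpr hn, ?_⟩
      apply (ψ i).injective
      apply Subtype.ext
      rw [he₀, hni]
    obtain ⟨c, θ, hc3, hc2, hD⟩ := Scott.scott hS D' hsub
    -- intrinsic description of the linking relation
    have hL1 : ∀ i j : Idx S, Scott.Linked D' i j →
        (N ⊓ stabilizer G α) ⊓ Subgroup.centralizer (i.1 : Set G) ≤
          Subgroup.centralizer (j.1 : Set G) := by
      rintro i j ⟨φ, hφ⟩ g hg
      obtain ⟨⟨hgN, hgA⟩, hgC⟩ := hg
      have h1 : comp hNmin hNnab h ⟨g, hgN⟩ i = 1 :=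
        comp_eq hNmin hNnab h ⟨g, hgN⟩ i (s := 1) (c := g) (Subgroup.one_mem _) hgC
          (by rw [one_mul])
      have h2 : e₀ ⟨g, hgN⟩ i = 1 := by
        apply (ψ i).injective
        apply Subtype.ext
        rw [he₀, h1, map_one]
        rfl
      have h3 : e₀ ⟨g, hgN⟩ j = 1 := by
        rw [hφ _ ((hD' ⟨g, hgN⟩).mpr hgA), h2, map_one]
      have h4 : comp hNmin hNnab h ⟨g, hgN⟩ j = 1 := by
        rw [← he₀, h3, map_one]
        rfl
      obtain ⟨c', hc', hgc⟩ := exists_eq_comp_mul hNmin hNnab h ⟨g, hgN⟩ j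
      rw [h4, one_mul] at hgc
      change g = c' at hgc
      rw [hgc]
      exact hc'.2
    have hL2 : ∀ i j : Idx S, (N ⊓ stabilizer G α) ⊓ Subgroup.centralizer (i.1 : Set G) ≤
          Subgroup.centralizer (j.1 : Set G) → Scott.Linked D' i j := by
      intro i j hle
      by_contra hnl
      obtain ⟨s₀, hs₀⟩ := exists_ne (1 : S)
      obtain ⟨x, hx, hxi, hxj⟩ := Scott.full_of_not_linked D' hsub hnl 1 s₀
      obtain ⟨n, hnA, rfl⟩ := hD'x x hx
      have h1 : comp hNmin hNnab h n i = 1 := by
        rw [← he₀, hxi, map_one]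
        rfl
      obtain ⟨c', hc', hnc⟩ := exists_eq_comp_mul hNmin hNnab h n i
      rw [h1, one_mul] at hnc
      have hmem : (n : G) ∈ (N ⊓ stabilizer G α) ⊓ Subgroup.centralizer (i.1 : Set G) := by
        refine Subgroup.mem_inf.mpr ⟨Subgroup.mem_inf.mpr ⟨n.2, hnA⟩, ?_⟩
        rw [hnc]
        exact hc'.2
      have h2 : comp hNmin hNnab h n j = 1 :=
        comp_eq hNmin hNnab h n j (s := 1) (c := (n : G)) (Subgroup.one_mem _) (hle hmem)
          (by rw [one_mul])
      apply hs₀
      rw [← hxj]
      apply (ψ j).injective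
      apply Subtype.ext
      rw [he₀, h2, map_one]
      rfl
    -- invariance under the stabilizer
    have hLinv : ∀ a ∈ stabilizer G α, ∀ i j : Idx S,
        Scott.Linked D' (conjIdx a i) (conjIdx a j) → Scott.Linked D' i j := by
      intro a ha i j hl
      apply hL2
      intro g hg
      obtain ⟨⟨hgN, hgA⟩, hgC⟩ := hg
      have h1 : a * g * a⁻¹ ∈ (N ⊓ stabilizer G α) ⊓
          Subgroup.centralizer ((conjIdx a i).1 : Set G) := by
        refine Subgroup.mem_inf.mpr ⟨Subgroup.mem_inf.mpr ⟨hNn.conj_mem g hgN a, ?_⟩, ?_⟩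
        · exact Subgroup.mul_mem _ (Subgroup.mul_mem _ ha hgA) (Subgroup.inv_mem _ ha)
        · exact conj_mem_centralizer_cj a hgC
      have h2 := hL1 _ _ hl h1
      have h3 := conj_mem_centralizer_cj a⁻¹ h2
      have h4 : cj a⁻¹ (conjIdx a j).1 = j.1 := by
        rw [conjIdx_val, cj_inv_cj]
      rw [h4] at h3
      have e : a⁻¹ * (a * g * a⁻¹) * a⁻¹⁻¹ = g := by group
      rwa [e] at h3
    have hLinv' : ∀ a ∈ stabilizer G α, ∀ i j : Idx S,
        Scott.Linked D' i j ↔ Scott.Linked D' (conjIdx a i) (conjIdx a j) := by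
      intro a ha i j
      constructor
      · intro hl
        apply hLinv a⁻¹ (Subgroup.inv_mem _ ha)
        rw [conjIdx_inv_conjIdx, conjIdx_inv_conjIdx]
        exact hl
      · exact hLinv a ha i j
    -- all classes have the same size
    have hcard : ∀ i i' : Idx S,
        Nat.card {j // c j = c i} = Nat.card {j // c j = c i'} := by
      intro i i'
      obtain ⟨a, ha, hai⟩ := exists_conjIdx_eq hprim hN1 h α i i'
      apply Nat.card_congr
      refine Equiv.subtypeEquiv (conjIdxEquiv a) ?_
      intro j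
      change c j = c i ↔ c (conjIdx a j) = c i'
      rw [hc2, hc2, ← hai]
      constructor
      · intro hl
        exact ((hLinv' a ha i j).mp hl.symm).symm
      · intro hl
        exact ((hLinv' a ha i j).mpr hl.symm).symm
    refine ⟨e₀.trans (MulEquiv.piCongrRight θ), ?_,
      Or.inr ⟨Nat.card {j // c j = c (idx0 S)}, c, ?_, ?_, ?_⟩⟩
    · intro n i
      rw [← hsupp₀]
      change θ i (e₀ n i) = 1 ↔ _
      constructor
      · intro h1
        have h3 : θ i (e₀ n i) = θ i 1 := by rw [h1, map_one]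
        exact (θ i).injective h3
      · intro h1
        rw [h1, map_one]
    · -- at least two
      by_contra hlt
      push Not at hlt
      have hinj : ∀ i j : Idx S, c i = c j → i = j := by
        intro i j hij
        have h1 : Nat.card {j' // c j' = c i} ≤ 1 := by
          rw [hcard i (idx0 S)]
          omega
        have h2 := Finite.card_le_one_iff_subsingleton.mp h1
        have := h2.elim ⟨i, rfl⟩ ⟨j, hij.symm⟩
        exact congrArg Subtype.val this
      apply hN1
      apply eq_bot_of_normal_le_stab hprim N α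
      intro g hg
      have := (hD' ⟨g, hg⟩).mp ((hD _).mpr (fun i j hij => by rw [hinj i j hij]))
      exact this
    · intro j₀
      by_cases hex : ∃ i, c i = j₀
      · left
        obtain ⟨i, rfl⟩ := hex
        exact hcard i (idx0 S)
      · right
        push Not at hex
        have : IsEmpty {i // c i = j₀} := ⟨fun x => hex x.1 x.2⟩
        exact Nat.card_of_isEmpty
    · intro n
      rw [← hD' n, hD]
      rfl
  · -- product case
    have hproper := proj_proper_all (h := h) hprim hN1 α hall
    let K : Idx S → Subgroup S := fun i =>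
      Subgroup.comap ((i.1.subtype).comp (ψ i).toMonoidHom)
        (projS N i.1 (N ⊓ stabilizer G α))
    have hK : ∀ (i : Idx S) (s : S), s ∈ K i ↔
        ((ψ i s : i.1) : G) ∈ projS N i.1 (N ⊓ stabilizer G α) := fun i s => Iff.rfl
    refine ⟨e₀, hsupp₀, Or.inl ⟨K, ?_, ?_⟩⟩
    · intro i hKi
      obtain ⟨t, ht, htn⟩ := hproper i
      apply htn
      have h1 : (ψ i).symm ⟨t, ht⟩ ∈ K i := by rw [hKi]; trivial
      rw [hK, MulEquiv.apply_symm_apply] at h1
      exact h1
    · intro n
      constructor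
      · intro hn i
        rw [hK, he₀]
        exact comp_mem_projS hNmin hNnab h n hn i
      · intro hn
        apply product_case_mem hNmin hNnab h hprim hN1 α hall n
        intro i
        have := hn i
        rw [hK, he₀] at this
        exact this


end Cfsg.Agent.Helper7.CLen
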