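import Mathlib
import Cfsg.Agent.Helper1.ONSe
import Cfsg.Agent.Helper7.CLenB

/-!
# Supports in a non-abelian minimal normal subgroup, and the distance invariant

For a non-abelian minimal normal subgroup `N = ∏ Tᵢ` we define the support and weight of an element, show that
conjugation permutes supports, and define for a point `ω` the least weight `dist ω` of an element of `N` taking
`α` to `ω`.  This is invariant under the point stabilizer and takes every value between `0` and any attained
value, so it bounds the number of orbits of the point stabilizer from below.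
-/

set_option autoImplicit false

namespace Cfsg.Agent.Helper7.CLen

open MulAction Cfsg.Agent.Helper1.OS Cfsg.Agent.Helper1.ONS Cfsg.Agent.Helper1

variable {G : Type*} [Group G] [Finite G] {N S : Subgroup G} [hNn : N.Normal]

variable (hNmin : ∀ M : Subgroup G, M.Normal → M ≤ N → M = ⊥ ∨ M = N)
  (hNnab : ¬ ∀ a ∈ N, ∀ b ∈ N, a * b = b * a) (h : IsMinIn N S)

open scoped Classical in
/-- The support of an element of `N`. -/
noncomputable def supp (n : N) : Finset (Idx S) :=
  Finset.univ.filter (fun i => comp hNmin hNnab h n i ≠ 1)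

/-- The weight of an element of `N`. -/
noncomputable def wt (n : N) : ℕ := (supp hNmin hNnab h n).card

theorem mem_supp (n : N) (i : Idx S) : i ∈ supp hNmin hNnab h n ↔ comp hNmin hNnab h n i ≠ 1 := by
  unfold supp
  simp only [Finset.mem_filter, Finset.mem_univ, true_and]

/-- The components of an element of a factor. -/
theorem comp_of_mem_self (i : Idx S) (t : G) (ht : t ∈ i.1) :
    comp hNmin hNnab h ⟨t, (idx_isMinIn h i).le ht⟩ i = t :=
  comp_eq hNmin hNnab h _ i (s := t) (c := 1) ht (Subgroup.one_mem _) (by simp)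

theorem comp_of_mem_ne (i j : Idx S) (hji : j ≠ i) (t : G) (ht : t ∈ i.1) :
    comp hNmin hNnab h ⟨t, (idx_isMinIn h i).le ht⟩ j = 1 := by
  apply comp_eq hNmin hNnab h _ j (s := 1) (c := t) (Subgroup.one_mem _) ?_ (by simp)
  rw [Subgroup.mem_centralizer_iff]
  intro y hy
  exact (idx_comm h hji y t hy ht).eq

theorem supp_mul_subset (x y : N) :
    supp hNmin hNnab h (x * y) ⊆ supp hNmin hNnab h x ∪ supp hNmin hNnab h y := by
  intro i hi
  rw [mem_supp, comp_mul] at hi
  rw [Finset.mem_union, mem_supp, mem_supp]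
  by_contra hcon
  push Not at hcon
  apply hi
  rw [hcon.1, hcon.2, mul_one]

theorem supp_of_mem_subset (i : Idx S) (t : G) (ht : t ∈ i.1) :
    supp hNmin hNnab h ⟨t, (idx_isMinIn h i).le ht⟩ ⊆ {i} := by
  intro j hj
  rw [mem_supp] at hj
  rw [Finset.mem_singleton]
  by_contra hji
  exact hj (comp_of_mem_ne hNmin hNnab h i j hji t ht)

/-- Multiplying by an element of a factor raises the weight by at most one. -/
theorem wt_mul_le (i : Idx S) (t : G) (ht : t ∈ i.1) (z : N) :
    wt hNmin hNnab h (⟨t, (idx_isMinIn h i).le ht⟩ * z) ≤ wt hNmin hNnab h z + 1 := by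
  unfold wt
  calc (supp hNmin hNnab h (⟨t, (idx_isMinIn h i).le ht⟩ * z)).card
      ≤ (supp hNmin hNnab h ⟨t, (idx_isMinIn h i).le ht⟩ ∪ supp hNmin hNnab h z).card :=
        Finset.card_le_card (supp_mul_subset hNmin hNnab h _ _)
    _ ≤ (supp hNmin hNnab h ⟨t, (idx_isMinIn h i).le ht⟩).card + (supp hNmin hNnab h z).card :=
        Finset.card_union_le _ _
    _ ≤ ({i} : Finset (Idx S)).card + (supp hNmin hNnab h z).card :=
        Nat.add_le_add_right (Finset.card_le_card (supp_of_mem_subset hNmin hNnab h i t ht)) _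
    _ = (supp hNmin hNnab h z).card + 1 := by rw [Finset.card_singleton, add_comm]

/-- Removing a non-trivial component lowers the weight by one. -/
theorem wt_remove (n : N) (i : Idx S) (hi : comp hNmin hNnab h n i ≠ 1) :
    wt hNmin hNnab h ((⟨comp hNmin hNnab h n i,
      (idx_isMinIn h i).le (comp_mem hNmin hNnab h n i)⟩ : N)⁻¹ * n) + 1 = wt hNmin hNnab h n := by
  classical
  unfold wt
  have hsupp : supp hNmin hNnab h ((⟨comp hNmin hNnab h n i,
      (idx_isMinIn h i).le (comp_mem hNmin hNnab h n i)⟩ : N)⁻¹ * n) =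
      (supp hNmin hNnab h n).erase i := by
    ext j
    rw [mem_supp, Finset.mem_erase, mem_supp, comp_mul, comp_inv]
    by_cases hji : j = i
    · subst hji
      rw [comp_of_mem_self hNmin hNnab h j _ (comp_mem hNmin hNnab h n j), inv_mul_cancel]
      simp
    · rw [comp_of_mem_ne hNmin hNnab h i j hji _ (comp_mem hNmin hNnab h n i), inv_one, one_mul]
      simp [hji]
  rw [hsupp, Finset.card_erase_of_mem ((mem_supp hNmin hNnab h n i).mpr hi)]
  have : 0 < (supp hNmin hNnab h n).card :=
    Finset.card_pos.mpr ⟨i, (mem_supp hNmin hNnab h n i).mpr hi⟩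
  omega

theorem eq_one_of_wt_eq_zero (n : N) (hn : wt hNmin hNnab h n = 0) : n = 1 := by
  unfold wt at hn
  rw [Finset.card_eq_zero] at hn
  have h1 : ∀ i, comp hNmin hNnab h n i = 1 := by
    intro i
    by_contra hi
    have := (mem_supp hNmin hNnab h n i).mpr hi
    rw [hn] at this
    exact absurd this (Finset.notMem_empty _)
  have h2 : (E₁ hNmin hNnab h).symm n = 1 := by
    funext i
    apply Subtype.ext
    exact h1 i
  have h3 : (E₁ hNmin hNnab h).symm n = (E₁ hNmin hNnab h).symm 1 := by rw [h2, map_one]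
  exact (E₁ hNmin hNnab h).symm.injective h3

theorem wt_one : wt hNmin hNnab h (1 : N) = 0 := by
  unfold wt
  rw [Finset.card_eq_zero, Finset.eq_empty_iff_forall_notMem]
  intro i hi
  rw [mem_supp, comp_one] at hi
  exact hi rfl

/-- Conjugation preserves the weight. -/
theorem wt_conj (a : G) (n : N) :
    wt hNmin hNnab h ⟨a * n * a⁻¹, hNn.conj_mem n n.2 a⟩ = wt hNmin hNnab h n := by
  unfold wt
  symm
  apply Finset.card_bij (fun i _ => conjIdx a i)
  · intro i hi
    rw [mem_supp] at hi ⊢
    rw [comp_conj]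
    intro h1
    apply hi
    have : comp hNmin hNnab h n i = a⁻¹ * (a * comp hNmin hNnab h n i * a⁻¹) * a := by group
    rw [this, h1]
    group
  · intro i _ j _ hij
    have := congrArg (conjIdx a⁻¹) hij
    rwa [conjIdx_inv_conjIdx, conjIdx_inv_conjIdx] at this
  · intro j hj
    refine ⟨conjIdx a⁻¹ j, ?_, conjIdx_conjIdx_inv a j⟩
    rw [mem_supp] at hj ⊢
    intro h1
    apply hj
    have h2 := comp_conj hNmin hNnab h a n (conjIdx a⁻¹ j)
    rw [conjIdx_conjIdx_inv] at h2
    rw [h2, h1]
    group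

variable {Ω : Type*} [MulAction G Ω] (α : Ω)

/-- The least weight of an element of `N` carrying `α` to `ω`. -/
noncomputable def dist (ω : Ω) : ℕ :=
  sInf {k | ∃ n : N, (n : G) • α = ω ∧ wt hNmin hNnab h n = k}

theorem dist_le (ω : Ω) (n : N) (hn : (n : G) • α = ω) :
    dist hNmin hNnab h α ω ≤ wt hNmin hNnab h n :=
  Nat.sInf_le ⟨n, hn, rfl⟩

theorem dist_attained (htr : ∀ ω : Ω, ∃ n ∈ N, n • α = ω) (ω : Ω) :
    ∃ n : N, (n : G) • α = ω ∧ wt hNmin hNnab h n = dist hNmin hNnab h α ω := by
  have hne : {k | ∃ n : N, (n : G) • α = ω ∧ wt hNmin hNnab h n = k}.Nonempty := by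
    obtain ⟨n, hn, hnω⟩ := htr ω
    exact ⟨_, ⟨n, hn⟩, hnω, rfl⟩
  exact Nat.sInf_mem hne

theorem dist_self : dist hNmin hNnab h α α = 0 := by
  have := dist_le hNmin hNnab h α α 1 (by simp)
  rw [wt_one] at this
  omega

theorem eq_of_dist_eq_zero (htr : ∀ ω : Ω, ∃ n ∈ N, n • α = ω) (ω : Ω)
    (hω : dist hNmin hNnab h α ω = 0) : ω = α := by
  obtain ⟨n, hn, hw⟩ := dist_attained hNmin hNnab h α htr ω
  rw [hω] at hw
  have := eq_one_of_wt_eq_zero hNmin hNnab h n hw
  rw [this] at hn
  simpa using hn.symm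

/-- The distance is invariant under the point stabilizer. -/
theorem dist_smul (htr : ∀ ω : Ω, ∃ n ∈ N, n • α = ω) (a : G) (ha : a ∈ stabilizer G α) (ω : Ω) :
    dist hNmin hNnab h α (a • ω) = dist hNmin hNnab h α ω := by
  have key : ∀ (b : G), b ∈ stabilizer G α → ∀ ω' : Ω,
      dist hNmin hNnab h α (b • ω') ≤ dist hNmin hNnab h α ω' := by
    intro b hb ω'
    obtain ⟨n, hn, hw⟩ := dist_attained hNmin hNnab h α htr ω'
    rw [← hw, ← wt_conj hNmin hNnab h b n]
    apply dist_le
    change (b * (n : G) * b⁻¹) • α = b • ω'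
    have hb' : b⁻¹ • α = α := by
      rw [inv_smul_eq_iff]
      exact (mem_stabilizer_iff.mp hb).symm
    rw [mul_smul, mul_smul, hb', hn]
  apply le_antisymm (key a ha ω)
  have := key a⁻¹ (Subgroup.inv_mem _ ha) (a • ω)
  rwa [inv_smul_smul] at this

/-- Below an attained positive value there is the preceding value. -/
theorem dist_pred (htr : ∀ ω : Ω, ∃ n ∈ N, n • α = ω) (ω : Ω) (j : ℕ)
    (hω : dist hNmin hNnab h α ω = j + 1) : ∃ ω' : Ω, dist hNmin hNnab h α ω' = j := by
  obtain ⟨n, hn, hw⟩ := dist_attained hNmin hNnab h α htr ω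
  rw [hω] at hw
  have hne : (supp hNmin hNnab h n).Nonempty := by
    rw [← Finset.card_pos]
    unfold wt at hw
    omega
  obtain ⟨i, hi⟩ := hne
  rw [mem_supp] at hi
  set t : N := ⟨comp hNmin hNnab h n i, (idx_isMinIn h i).le (comp_mem hNmin hNnab h n i)⟩ with ht
  have hrem := wt_remove hNmin hNnab h n i hi
  rw [← ht] at hrem
  refine ⟨((t⁻¹ * n : N) : G) • α, ?_⟩
  apply le_antisymm
  · have := dist_le hNmin hNnab h α _ (t⁻¹ * n) rfl
    omega
  · by_contra hlt
    push Not at hlt
    obtain ⟨z, hz, hzw⟩ := dist_attained hNmin hNnab h α htr (((t⁻¹ * n : N) : G) • α)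
    have h1 : ((t * z : N) : G) • α = ω := by
      change ((t : G) * (z : G)) • α = ω
      rw [mul_smul, hz]
      change (t : G) • (((t : G)⁻¹ * (n : G)) • α) = ω
      rw [← mul_smul, mul_inv_cancel_left, hn]
    have h2 := dist_le hNmin hNnab h α ω (t * z) h1
    have h3 := wt_mul_le hNmin hNnab h i _ (comp_mem hNmin hNnab h n i) z
    rw [← ht] at h3
    omega

theorem dist_all_values (htr : ∀ ω : Ω, ∃ n ∈ N, n • α = ω) (ω : Ω) (j : ℕ)
    (hj : j ≤ dist hNmin hNnab h α ω) : ∃ ω' : Ω, dist hNmin hNnab h α ω' = j := by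
  obtain ⟨d, hd⟩ : ∃ d, dist hNmin hNnab h α ω = j + d := ⟨_, (Nat.add_sub_cancel' hj).symm⟩
  clear hj
  induction d generalizing ω with
  | zero => exact ⟨ω, hd⟩
  | succ d ih =>
    obtain ⟨ω', hω'⟩ := dist_pred hNmin hNnab h α htr ω (j + d) hd
    exact ih ω' hω'

/-- The number of orbits of the point stabilizer on the other points is at least any attained distance. -/
theorem dist_le_orb [Finite Ω] (htr : ∀ ω : Ω, ∃ n ∈ N, n • α = ω) (ω : Ω) :
    dist hNmin hNnab h α ω ≤ orb (stabilizer G α) (SubMulAction.ofStabilizer G α) := by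
  classical
  have h1 := card_le_orb_of_invariant (G := stabilizer G α) (Ω := SubMulAction.ofStabilizer G α)
    (fun x => dist hNmin hNnab h α (x : Ω))
    (fun g x => dist_smul hNmin hNnab h α htr (g : G) g.2 (x : Ω))
    (Finset.Icc 1 (dist hNmin hNnab h α ω)) (by
      intro j hj
      rw [Finset.mem_Icc] at hj
      obtain ⟨ω', hω'⟩ := dist_all_values hNmin hNnab h α htr ω j hj.2
      have hne : ω' ≠ α := by
        rintro rfl
        rw [dist_self] at hω'
        omega
      exact ⟨⟨ω', hne⟩, hω'⟩)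
  rw [Nat.card_Icc] at h1
  omega

end Cfsg.Agent.Helper7.CLen
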