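import Mathlib
import Cfsg.Agent.Helper7.CLenA

/-!
# Chains in direct powers of a simple group, and chains along surjections
-/

set_option autoImplicit false

namespace Cfsg.Agent.Helper7.CLen

variable {S : Type*} [Group S]

/-- The kernel of evaluation at `0` on `Fin (m + 1) → S` is `Fin m → S`. -/
def kerEvalEquiv (m : ℕ) :
    (Pi.evalMonoidHom (fun _ : Fin (m + 1) => S) 0).ker ≃* (Fin m → S) where
  toFun x := fun i => (x : Fin (m + 1) → S) i.succ
  invFun y := ⟨Fin.cons 1 y, by
    rw [MonoidHom.mem_ker]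
    rfl⟩
  left_inv x := by
    apply Subtype.ext
    funext i
    have hx : (x : Fin (m + 1) → S) 0 = 1 := MonoidHom.mem_ker.mp x.2
    change (Fin.cons (α := fun _ : Fin (m + 1) => S) (1 : S)
      (fun j : Fin m => (x : Fin (m + 1) → S) j.succ)) i = (x : Fin (m + 1) → S) i
    refine Fin.cases ?_ (fun j => ?_) i
    · rw [Fin.cons_zero, hx]
    · rw [Fin.cons_succ]
  right_inv y := by
    funext i
    change (Fin.cons (α := fun _ : Fin (m + 1) => S) (1 : S) y) i.succ = y i
    rw [Fin.cons_succ]
  map_mul' x y := rfl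

theorem eval_surjective (m : ℕ) :
    Function.Surjective (Pi.evalMonoidHom (fun _ : Fin (m + 1) => S) 0) := by
  intro s
  exact ⟨fun _ => s, rfl⟩

/-- Chains in `Sᵐ` have length at most `m` when `S` is simple. -/
theorem pi_chain_le [IsSimpleGroup S] (m : ℕ) (a : ℕ) (h : HasChain (Fin m → S) a) : a ≤ m := by
  induction m generalizing a with
  | zero =>
    have := h.eq_zero_of_subsingleton
    omega
  | succ m ih =>
    obtain ⟨a₁, a₂, ha, h1, h2⟩ := h.split (Pi.evalMonoidHom (fun _ : Fin (m + 1) => S) 0).ker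
    have h1' := ih a₁ (h1.of_equiv (kerEvalEquiv m))
    have h2' : a₂ ≤ 1 :=
      (h2.of_equiv (QuotientGroup.quotientKerEquivOfSurjective _ (eval_surjective m))).le_one_of_simple
    omega

/-- `Sᵐ` has a chain of length `m` when `S` is non-trivial. -/
theorem pi_chain_exists [Nontrivial S] (m : ℕ) : HasChain (Fin m → S) m := by
  induction m with
  | zero =>
    unfold HasChain
    have : (⊥ : Subgroup (Fin 0 → S)) = ⊤ := Subsingleton.elim _ _
    rw [this]
    exact SCh.refl
  | succ m ih =>
    have h1 : HasChain (Pi.evalMonoidHom (fun _ : Fin (m + 1) => S) 0).ker m :=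
      ih.of_equiv (kerEvalEquiv m).symm
    have h2 : HasChain ((Fin (m + 1) → S) ⧸ (Pi.evalMonoidHom (fun _ : Fin (m + 1) => S) 0).ker) 1 :=
      (hasChain_one_of_nontrivial (G := S)).of_equiv
        (QuotientGroup.quotientKerEquivOfSurjective _ (eval_surjective m)).symm
    exact HasChain.glue _ h1 h2

/-- Chains in `S^ι` for a finite index type. -/
theorem pi_chain_le' [IsSimpleGroup S] {ι : Type*} [Fintype ι] (a : ℕ) (h : HasChain (ι → S) a) :
    a ≤ Fintype.card ι :=
  pi_chain_le (Fintype.card ι) a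
    (h.of_equiv (MulEquiv.arrowCongr (Fintype.equivFin ι) (MulEquiv.refl S)))

theorem pi_chain_exists' [Nontrivial S] {ι : Type*} [Fintype ι] : HasChain (ι → S) (Fintype.card ι) :=
  (pi_chain_exists (S := S) (Fintype.card ι)).of_equiv
    (MulEquiv.arrowCongr (Fintype.equivFin ι) (MulEquiv.refl S)).symm

/-- Chains lift along surjections. -/
theorem HasChain.of_surjective {A B : Type*} [Group A] [Group B] (f : A →* B)
    (hf : Function.Surjective f) {b : ℕ} (hb : HasChain B b) : ∃ a, b ≤ a ∧ HasChain A a := by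
  obtain ⟨a₀, ha₀⟩ := hasChain_exists f.ker
  refine ⟨a₀ + b, by omega, ?_⟩
  exact HasChain.glue f.ker ha₀
    (hb.of_equiv (QuotientGroup.quotientKerEquivOfSurjective f hf).symm)

end Cfsg.Agent.Helper7.CLen
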