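import Mathlib
import Cfsg.Agent.Helper7.CLenF
import Cfsg.Agent.Helper7.CLenG
import Cfsg.Agent.Helper7.CLenH

/-!
# The primitive case with a non-abelian minimal normal subgroup
-/

set_option autoImplicit false

namespace Cfsg.Agent.Helper7.CLen

open MulAction Cfsg.Agent.Helper1.OS Cfsg.Agent.Helper1.ONS Cfsg.Agent.Helper1

/-- The residues modulo `4` below `k`. -/
theorem card_residue_le (k j₀ : ℕ) :
    ((Finset.range k).filter (fun p => p % 4 = j₀)).card ≤ (k + 3) / 4 := by
  have : ((Finset.range k).filter (fun p => p % 4 = j₀)).card ≤ (Finset.range ((k + 3) / 4)).card := by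
    apply Finset.card_le_card_of_injOn (fun p => p / 4)
    · intro p hp
      rw [Finset.coe_filter] at hp
      have h1 : p < k := Finset.mem_range.mp hp.1
      rw [Finset.coe_range, Set.mem_Iio]
      change p / 4 < (k + 3) / 4
      omega
    · intro p hp q hq hpq
      rw [Finset.coe_filter] at hp hq
      have h1 := hp.2
      have h2 := hq.2
      simp only at hpq
      omega
  rwa [Finset.card_range] at this

/-- A non-commutative group has four distinct elements. -/
theorem exists_four_injective {S : Type*} [Group S] (hS : ∃ a b : S, a * b ≠ b * a) :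
    ∃ v : Fin 4 → S, Function.Injective v := by
  obtain ⟨a, b, hab⟩ := hS
  have ha : a ≠ 1 := by rintro rfl; simp at hab
  have hb : b ≠ 1 := by rintro rfl; simp at hab
  have hne : a ≠ b := by rintro rfl; exact hab rfl
  have hab1 : a * b ≠ 1 := by
    intro h1
    apply hab
    have : b = a⁻¹ := eq_inv_of_mul_eq_one_right h1
    rw [this]
    simp
  refine ⟨![1, a, b, a * b], ?_⟩
  intro i j hij
  fin_cases i <;> fin_cases j <;> simp at hij ⊢ <;> first
    | exact absurd hij.symm ha | exact absurd hij ha | exact absurd hij.symm hb | exact absurd hij hb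
    | exact absurd hij hne | exact absurd hij.symm hne | exact absurd hij.symm hab1
    | exact absurd hij hab1 | omega

section main

variable {G : Type*} [Group G] [Finite G] {N : Subgroup G} [hNn : N.Normal]
  {Ω : Type*} [MulAction G Ω] [FaithfulSMul G Ω] [Fintype Ω]

/-- The primitive case with a non-abelian minimal normal subgroup, given the bound for the point stabilizer. -/
theorem nonab_bound (hprim : IsPreprimitive G Ω) (hN1 : N ≠ ⊥)
    (hNmin : ∀ M : Subgroup G, M.Normal → M ≤ N → M = ⊥ ∨ M = N)
    (hNnab : ¬ ∀ a ∈ N, ∀ b ∈ N, a * b = b * a) (α : Ω)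
    (hstab : ∀ l' : ℕ, HasChain (stabilizer G α) l' → 3 * l' ≤ 4 * (Fintype.card Ω - 1 -
      orb (stabilizer G α) (SubMulAction.ofStabilizer G α)))
    (l : ℕ) (hl : HasChain G l) : 3 * l ≤ 4 * (Fintype.card Ω - 1) := by
  classical
  obtain ⟨S, h⟩ := exists_isMinIn N hN1
  have hSnab := not_comm hNmin hNnab h
  haveI hsimple : IsSimpleGroup S := isSimpleGroup_of_isMinIn hNmin h
  have hS : ∃ a b : S, a * b ≠ b * a := by
    by_contra hcon
    push Not at hcon
    apply hSnab
    intro a ha b hb
    exact congrArg Subtype.val (hcon ⟨a, ha⟩ ⟨b, hb⟩)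
  have : Nontrivial Ω := by
    obtain ⟨n, hn, hn1⟩ : ∃ n ∈ N, n ≠ 1 := by
      by_contra hcon
      push Not at hcon
      exact hN1 ((Subgroup.eq_bot_iff_forall N).mpr hcon)
    obtain ⟨x, hx⟩ : ∃ x : Ω, n • x ≠ x := by
      by_contra hcon
      push Not at hcon
      apply hn1
      apply FaithfulSMul.eq_of_smul_eq_smul (α := Ω)
      intro x
      rw [hcon x, one_smul]
    exact ⟨⟨n • x, x, hx⟩⟩
  have htr : ∀ ω : Ω, ∃ n ∈ N, n • α = ω := fun ω => exists_smul_eq_of_normal hprim N hN1 α ω
  obtain ⟨e, hsupp, hcase⟩ := ons_idx_supp hNmin hNnab h hprim hN1 α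
  -- cardinalities
  have hcardstab : Nat.card (SubMulAction.ofStabilizer G α) + 1 = Fintype.card Ω := by
    rw [SubMulAction.nat_card_ofStabilizer_add_one_eq, Nat.card_eq_fintype_card]
  have horble : orb (stabilizer G α) (SubMulAction.ofStabilizer G α) + 1 ≤ Fintype.card Ω := by
    have := orb_le_card (G := stabilizer G α) (Ω := SubMulAction.ofStabilizer G α)
    omega
  -- split the chain
  obtain ⟨a, b, hab, ha, hb⟩ := hl.split N
  have ham : a ≤ Fintype.card (Idx S) := pi_chain_le' a (ha.of_equiv e)
  -- the map `G_α → G ⧸ N`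
  let f : stabilizer G α →* G ⧸ N := (QuotientGroup.mk' N).comp (stabilizer G α).subtype
  have hf : Function.Surjective f := by
    intro q
    induction q using QuotientGroup.induction_on with
    | H g =>
      obtain ⟨n, hn, s, hs, rfl⟩ := exists_mul_stab hprim N hN1 α g
      refine ⟨⟨s, hs⟩, ?_⟩
      change ((s : G) : G ⧸ N) = ((n * s : G) : G ⧸ N)
      rw [QuotientGroup.eq]
      have : s⁻¹ * (n * s) = s⁻¹ * n * s⁻¹⁻¹ := by group
      rw [this]
      exact hNn.conj_mem n hn _
  have hker : ∀ y : stabilizer G α, y ∈ f.ker ↔ (y : G) ∈ N := by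
    intro y
    rw [MonoidHom.mem_ker]
    change ((y : G) : G ⧸ N) = 1 ↔ _
    rw [QuotientGroup.eq_one_iff]
  have hbq : HasChain (stabilizer G α ⧸ f.ker) b :=
    hb.of_equiv (QuotientGroup.quotientKerEquivOfSurjective f hf).symm
  have hkey : ∀ cA : ℕ, HasChain f.ker cA → 3 * (cA + b) ≤ 4 * (Fintype.card Ω - 1 -
      orb (stabilizer G α) (SubMulAction.ofStabilizer G α)) :=
    fun cA hcA => hstab _ (HasChain.glue f.ker hcA hbq)
  -- elements of `N` with the same image of `α`
  have hquot : ∀ x n : N, (n : G) • α = (x : G) • α → ((x⁻¹ * n : N) : G) ∈ stabilizer G α := by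
    intro x n hxn
    rw [mem_stabilizer_iff]
    change ((x : G)⁻¹ * (n : G)) • α = α
    rw [mul_smul, hxn, inv_smul_smul]
  have hwt_ge : ∀ (n : N) (Z : Finset (Idx S)), (∀ i, e n i = 1 → i ∈ Z) →
      Fintype.card (Idx S) ≤ wt hNmin hNnab h n + Z.card := by
    intro n Z hZ
    unfold wt
    have hsub : (Finset.univ : Finset (Idx S)) ⊆ supp hNmin hNnab h n ∪ Z := by
      intro i _
      rw [Finset.mem_union, mem_supp]
      by_cases hi : comp hNmin hNnab h n i = 1
      · right
        exact hZ i ((hsupp n i).mpr hi)
      · left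
        exact hi
    calc Fintype.card (Idx S) = (Finset.univ : Finset (Idx S)).card := rfl
      _ ≤ (supp hNmin hNnab h n ∪ Z).card := Finset.card_le_card hsub
      _ ≤ _ := Finset.card_union_le _ _
  rcases hcase with ⟨K, hK1, hK2⟩ | ⟨k, c, hk, hc, hst⟩
  · -- product case
    have hs : ∀ i : Idx S, ∃ s : S, s ∉ K i := by
      intro i
      by_contra hcon
      push Not at hcon
      exact hK1 i ((Subgroup.eq_top_iff' _).mpr hcon)
    choose s hs using hs
    set x : N := e.symm s with hx
    have hdist : Fintype.card (Idx S) ≤ dist hNmin hNnab h α ((x : G) • α) := by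
      obtain ⟨n, hn, hw⟩ := dist_attained hNmin hNnab h α htr ((x : G) • α)
      rw [← hw]
      have h1 := hwt_ge n ∅ (by
        intro i hi
        exfalso
        have h2 := (hK2 (x⁻¹ * n)).mp (hquot x n hn) i
        rw [map_mul, map_inv, Pi.mul_apply, Pi.inv_apply, hx, MulEquiv.apply_symm_apply, hi,
          mul_one] at h2
        exact hs i (by simpa using (K i).inv_mem h2))
      rw [Finset.card_empty, add_zero] at h1
      exact h1
    have horb := dist_le_orb hNmin hNnab h α htr ((x : G) • α)
    obtain ⟨cA, hcA⟩ := hasChain_exists f.ker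
    have h3 := hkey cA hcA
    omega
  · -- diagonal case
    let R : Finset (Idx S) := Finset.univ.image c
    have hfib : ∀ r : R, Nat.card {i // c i = (r : Idx S)} = k := by
      intro r
      rcases hc r with h1 | h1
      · exact h1
      · exfalso
        obtain ⟨i, _, hi⟩ := Finset.mem_image.mp r.2
        have : Nonempty {j // c j = (r : Idx S)} := ⟨⟨i, hi⟩⟩
        have := Nat.card_pos (α := {j // c j = (r : Idx S)})
        omega
    have hpos : ∀ r : R, Nonempty ({i // c i = (r : Idx S)} ≃ Fin k) := by
      intro r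
      have := hfib r
      rw [Nat.card_eq_fintype_card] at this
      exact ⟨Fintype.equivFinOfCardEq this⟩
    let pos : ∀ r : R, {i // c i = (r : Idx S)} ≃ Fin k := fun r => Classical.choice (hpos r)
    let cR : Idx S → R := fun i => ⟨c i, Finset.mem_image.mpr ⟨i, Finset.mem_univ _, rfl⟩⟩
    let pp : Idx S → ℕ := fun i => ((pos (cR i)) ⟨i, rfl⟩ : Fin k).val
    have hpp_lt : ∀ i, pp i < k := fun i => ((pos (cR i)) ⟨i, rfl⟩ : Fin k).2
    have hpp_inj : ∀ i j, c i = c j → pp i = pp j → i = j := by
      intro i j hij hp
      have hR : cR i = cR j := Subtype.ext hij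
      have haux : ∀ (r r' : R) (_ : r = r') (t : Idx S) (ht : c t = (r : Idx S))
          (ht' : c t = (r' : Idx S)),
          ((pos r) ⟨t, ht⟩ : Fin k).val = ((pos r') ⟨t, ht'⟩ : Fin k).val := by
        intro r r' hr
        subst hr
        intro t ht ht'
        rfl
      have h1 : ((pos (cR j)) ⟨i, hij⟩ : Fin k).val = pp i :=
        (haux (cR i) (cR j) hR i rfl hij).symm
      have h2 : (pos (cR j)) ⟨i, hij⟩ = (pos (cR j)) ⟨j, rfl⟩ := by
        apply Fin.ext
        rw [h1, hp]
      exact congrArg Subtype.val ((pos (cR j)).injective h2)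
    -- size of the index set
    have hm : R.card * k ≤ Fintype.card (Idx S) := by
      have : Fintype.card (R × Fin k) ≤ Fintype.card (Idx S) := by
        apply Fintype.card_le_of_injective (fun p : R × Fin k => (((pos p.1).symm p.2 : {i // c i = (p.1 : Idx S)}) : Idx S))
        intro p q hpq
        have hp2 := ((pos p.1).symm p.2).2
        have hq2 := ((pos q.1).symm q.2).2
        have hpq' : (((pos p.1).symm p.2 : {i // c i = (p.1 : Idx S)}) : Idx S) =
            (((pos q.1).symm q.2 : {i // c i = (q.1 : Idx S)}) : Idx S) := hpq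
        have h1 : p.1 = q.1 := by
          apply Subtype.ext
          rw [← hp2, ← hq2, hpq']
        obtain ⟨p1, p2⟩ := p
        obtain ⟨q1, q2⟩ := q
        simp only at h1 hpq'
        subst h1
        have h3 : (pos p1).symm p2 = (pos p1).symm q2 := Subtype.ext hpq'
        rw [(pos p1).symm.injective h3]
      rwa [Fintype.card_prod, Fintype.card_coe, Fintype.card_fin] at this
    -- a long chain in the kernel
    have hSnt : Nontrivial S := hsimple.toNontrivial
    obtain ⟨cA, hcA1, hcA2⟩ : ∃ cA, R.card ≤ cA ∧ HasChain f.ker cA := by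
      have hsec : ∀ r : R, ∃ i : Idx S, c i = (r : Idx S) := by
        intro r
        obtain ⟨i, _, hi⟩ := Finset.mem_image.mp r.2
        exact ⟨i, hi⟩
      choose sec hsec using hsec
      let ι₀ : f.ker →* N :=
        { toFun := fun y => ⟨((y : stabilizer G α) : G), (hker y).mp y.2⟩
          map_one' := rfl
          map_mul' := fun _ _ => rfl }
      let res : (Idx S → S) →* (R → S) :=
        { toFun := fun z r => z (sec r)
          map_one' := rfl
          map_mul' := fun _ _ => rfl }
      let ρ : f.ker →* (R → S) := res.comp (e.toMonoidHom.comp ι₀)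
      have hρ : Function.Surjective ρ := by
        intro y
        let z : Idx S → S := fun i => y (cR i)
        have hz : ((e.symm z : N) : G) ∈ stabilizer G α := by
          rw [hst]
          intro i j hij
          rw [MulEquiv.apply_symm_apply]
          change y (cR i) = y (cR j)
          have : cR i = cR j := Subtype.ext hij
          rw [this]
        refine ⟨⟨⟨((e.symm z : N) : G), hz⟩, (hker _).mpr (e.symm z).2⟩, ?_⟩
        funext r
        change e (⟨((e.symm z : N) : G), _⟩ : N) (sec r) = y r
        have h1 : (⟨((e.symm z : N) : G), (e.symm z).2⟩ : N) = e.symm z := rfl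
        rw [h1, MulEquiv.apply_symm_apply]
        change y (cR (sec r)) = y r
        have : cR (sec r) = r := Subtype.ext (hsec r)
        rw [this]
      obtain ⟨cA, hcA1, hcA2⟩ := HasChain.of_surjective ρ hρ (pi_chain_exists' (S := S) (ι := R))
      rw [Fintype.card_coe] at hcA1
      exact ⟨cA, hcA1, hcA2⟩
    -- the far point
    obtain ⟨v, hv⟩ := exists_four_injective hS
    set x : N := e.symm (fun i => v ⟨pp i % 4, Nat.mod_lt _ (by norm_num)⟩) with hx
    have hdist : Fintype.card (Idx S) ≤
        dist hNmin hNnab h α ((x : G) • α) + R.card * ((k + 3) / 4) := by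
      obtain ⟨n, hn, hw⟩ := dist_attained hNmin hNnab h α htr ((x : G) • α)
      rw [← hw]
      have hconst := (hst (x⁻¹ * n)).mp (hquot x n hn)
      let Z : Finset (Idx S) := Finset.univ.filter (fun i => e n i = 1)
      have h1 := hwt_ge n Z (fun i hi => Finset.mem_filter.mpr ⟨Finset.mem_univ _, hi⟩)
      have hZ : Z.card ≤ R.card * ((k + 3) / 4) := by
        have : Z.card ≤ (R ×ˢ Finset.range ((k + 3) / 4)).card := by
          apply Finset.card_le_card_of_injOn (fun i => (c i, pp i / 4))
          · intro i _
            rw [Finset.coe_product, Set.mem_prod]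
            refine ⟨Finset.mem_image.mpr ⟨i, Finset.mem_univ _, rfl⟩, ?_⟩
            rw [Finset.coe_range, Set.mem_Iio]
            have := hpp_lt i
            change pp i / 4 < (k + 3) / 4
            omega
          · intro i hi j hj hij
            have hi' : e n i = 1 := (Finset.mem_filter.mp hi).2
            have hj' : e n j = 1 := (Finset.mem_filter.mp hj).2
            have hcij : c i = c j := congrArg Prod.fst hij
            have hq : pp i / 4 = pp j / 4 := congrArg Prod.snd hij
            have hu := hconst i j hcij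
            -- `e n = e x * e (x⁻¹ n)`
            have hn_eq : ∀ t, e n t = v ⟨pp t % 4, Nat.mod_lt _ (by norm_num)⟩ * e (x⁻¹ * n) t := by
              intro t
              have : n = x * (x⁻¹ * n) := by group
              conv_lhs => rw [this, map_mul, Pi.mul_apply, hx, MulEquiv.apply_symm_apply]
            have h2 : v ⟨pp i % 4, Nat.mod_lt _ (by norm_num)⟩ =
                v ⟨pp j % 4, Nat.mod_lt _ (by norm_num)⟩ := by
              have e1 := hn_eq i
              have e2 := hn_eq j
              rw [hi'] at e1
              rw [hj', ← hu] at e2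
              have e3 : v ⟨pp i % 4, Nat.mod_lt _ (by norm_num)⟩ = (e (x⁻¹ * n) i)⁻¹ :=
                eq_inv_of_mul_eq_one_left e1.symm
              have e4 : v ⟨pp j % 4, Nat.mod_lt _ (by norm_num)⟩ = (e (x⁻¹ * n) i)⁻¹ :=
                eq_inv_of_mul_eq_one_left e2.symm
              rw [e3, e4]
            have h3 : pp i % 4 = pp j % 4 := congrArg Fin.val (hv h2)
            apply hpp_inj i j hcij
            omega
        rwa [Finset.card_product, Finset.card_range] at this
      omega
    have horb := dist_le_orb hNmin hNnab h α htr ((x : G) • α)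
    have h3 := hkey cA hcA2
    have h4 : 4 * ((k + 3) / 4) ≤ k + 3 := Nat.mul_div_le _ _
    have h5 : R.card * (4 * ((k + 3) / 4)) ≤ R.card * (k + 3) := Nat.mul_le_mul_left _ h4
    have h6 : R.card * (4 * ((k + 3) / 4)) = 4 * (R.card * ((k + 3) / 4)) := by ring
    have h7 : R.card * (k + 3) = R.card * k + 3 * R.card := by ring
    omega

end main

end Cfsg.Agent.Helper7.CLen
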