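import Mathlib
import Cfsg.Agent.Helper4.MinNormalPower
import Cfsg.Agent.Helper7.CLenC
import Cfsg.Agent.Helper7.CLenD
import Cfsg.Agent.Helper7.CLenI

/-!
# The composition length of a permutation group of degree `n` with `r` orbits is at most `4 (n - r) / 3`
-/

set_option autoImplicit false

namespace Cfsg.Agent.Helper7.CLen

open MulAction

/-- The induction step, for an arbitrary faithful action on `n` points. -/
theorem step (n : ℕ) (IH : ∀ m < n, P m) {G : Type*} [Group G] [Finite G] {Ω : Type*} [MulAction G Ω]
    [FaithfulSMul G Ω] [Fintype Ω] (hn : Fintype.card Ω = n) (l : ℕ) (hl : HasChain G l) :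
    3 * l ≤ 4 * (n - orb G Ω) := by
  classical
  by_cases hr : orb G Ω = 1
  swap
  · exact intrans n IH hn hr l hl
  rw [hr]
  haveI : MulAction.IsPretransitive G Ω := by
    haveI : Finite Ω := Finite.of_fintype Ω
    exact pretransitive_of_orb_eq_one hr
  obtain ⟨α⟩ := nonempty_of_orb_eq_one hr
  by_cases hsub : Subsingleton Ω
  · haveI : Subsingleton G := subsingleton_of_card_le_one (Ω := Ω)
    rw [hl.eq_zero_of_subsingleton]
    omega
  haveI : Nontrivial Ω := not_subsingleton_iff_nontrivial.mp hsub
  by_cases hprim : IsPreprimitive G Ω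
  · -- primitive case
    haveI : Nontrivial G := by
      obtain ⟨x, y, hxy⟩ := exists_pair_ne Ω
      obtain ⟨g, hg⟩ := MulAction.exists_smul_eq G x y
      refine ⟨⟨g, 1, ?_⟩⟩
      rintro rfl
      rw [one_smul] at hg
      exact hxy hg
    obtain ⟨N, hNn, hN1, hNmin⟩ := Cfsg.Agent.Helper4.exists_isMinNormal G
    haveI := hNn
    have htr : ∀ ω : Ω, ∃ n ∈ N, n • α = ω :=
      fun ω => Cfsg.Agent.Helper1.OS.exists_smul_eq_of_normal hprim N hN1 α ω
    by_cases hreg : N ⊓ stabilizer G α = ⊥
    · rw [← hn]
      exact regular_bound α N hNn htr hreg l hl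
    · have hNnab : ¬ ∀ a ∈ N, ∀ b ∈ N, a * b = b * a := by
        intro hab
        apply hreg
        rw [eq_bot_iff]
        intro x hx
        rw [Subgroup.mem_bot]
        apply FaithfulSMul.eq_of_smul_eq_smul (α := Ω)
        intro ω
        obtain ⟨m, hm, rfl⟩ := htr ω
        have hx' := Subgroup.mem_inf.mp hx
        have hxα : x • α = α := hx'.2
        rw [one_smul, ← mul_smul, hab x hx'.1 m hm, mul_smul, hxα]
      -- the bound for the point stabilizer
      letI : Fintype (SubMulAction.ofStabilizer G α) := Fintype.ofFinite _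
      have hcard : Fintype.card (SubMulAction.ofStabilizer G α) + 1 = n := by
        rw [← hn, ← Nat.card_eq_fintype_card, SubMulAction.nat_card_ofStabilizer_add_one_eq,
          Nat.card_eq_fintype_card]
      haveI : FaithfulSMul (stabilizer G α) (SubMulAction.ofStabilizer G α) := by
        constructor
        intro g₁ g₂ hg
        apply Subtype.ext
        apply FaithfulSMul.eq_of_smul_eq_smul (α := Ω)
        intro ω
        by_cases hω : ω = α
        · subst hω
          have h1 : (g₁ : G) • ω = ω := g₁.2
          have h2 : (g₂ : G) • ω = ω := g₂.2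
          rw [h1, h2]
        · have := congrArg (fun y : SubMulAction.ofStabilizer G α => (y : Ω)) (hg ⟨ω, hω⟩)
          exact this
      have hstab : ∀ l' : ℕ, HasChain (stabilizer G α) l' → 3 * l' ≤ 4 * (Fintype.card Ω - 1 -
          orb (stabilizer G α) (SubMulAction.ofStabilizer G α)) := by
        intro l' hl'
        have := transport (H := stabilizer G α) (X := SubMulAction.ofStabilizer G α)
          (Fintype.card (SubMulAction.ofStabilizer G α)) rfl (IH _ (by omega)) l' hl'
        have h2 : Fintype.card (SubMulAction.ofStabilizer G α) = Fintype.card Ω - 1 := by omega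
        rwa [h2] at this
      rw [← hn]
      exact nonab_bound hprim hN1 hNmin hNnab α hstab l hl
  · -- imprimitive case
    have hnc : ¬ IsCoatom (stabilizer G α) := by
      rw [MulAction.isCoatom_stabilizer_iff_preprimitive]
      exact hprim
    have hne : stabilizer G α ≠ ⊤ := by
      intro htop
      obtain ⟨x, hx⟩ := exists_ne α
      obtain ⟨g, hg⟩ := MulAction.exists_smul_eq G α x
      have : g ∈ stabilizer G α := by rw [htop]; trivial
      exact hx (hg.symm.trans this)
    have hex : ∃ H : Subgroup G, stabilizer G α < H ∧ H < ⊤ := by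
      by_contra hcon
      push Not at hcon
      apply hnc
      refine ⟨hne, fun H hH => ?_⟩
      by_contra hH'
      exact hcon H hH (lt_of_le_of_ne le_top hH')
    obtain ⟨H, h1, h2⟩ := hex
    exact imprim n IH hn α H h1 h2 l hl

/-- The bound for all permutation groups on `Fin n`. -/
theorem main_P (n : ℕ) : P n := by
  induction n using Nat.strong_induction_on with
  | _ n ih =>
    intro G l hl
    exact step n ih (Fintype.card_fin n) l hl

/-- The composition length bound for an arbitrary faithful action. -/
theorem bound {G : Type*} [Group G] [Finite G] {Ω : Type*} [MulAction G Ω] [FaithfulSMul G Ω]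
    [Fintype Ω] (l : ℕ) (hl : HasChain G l) : 3 * l ≤ 4 * (Fintype.card Ω - orb G Ω) :=
  step (Fintype.card Ω) (fun m _ => main_P m) rfl l hl

end Cfsg.Agent.Helper7.CLen
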