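import Mathlib

set_option autoImplicit false
set_option linter.unusedSectionVars false
set_option linter.unusedVariables false

/-!
# Groups with the Steinberg relations of type `C`

Elements `x a b t` (`a ≠ b` in `Fin m ⊕ Fin m`) of a group, subject to the relations of the root elements of
the symplectic group: basic consequences.
-/

namespace Cfsg.Agent.Helper7.Cd

/-- the sign of an index. -/
def ep (K : Type*) [Field K] {m : ℕ} : Fin m ⊕ Fin m → K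
  | Sum.inl _ => 1
  | Sum.inr _ => -1

section ep

variable {K : Type*} [Field K] {m : ℕ}

theorem ep_mul_self (a : Fin m ⊕ Fin m) : ep K a * ep K a = 1 := by
  cases a <;> simp [ep]

theorem ep_swap (a : Fin m ⊕ Fin m) : ep K a.swap = -ep K a := by
  cases a <;> simp [ep]

theorem ep_ne_zero (a : Fin m ⊕ Fin m) : ep K a ≠ 0 := by
  cases a <;> simp [ep]

theorem ep_inv (a : Fin m ⊕ Fin m) : (ep K a)⁻¹ = ep K a := by
  cases a <;> simp [ep, inv_neg]

theorem ep_cases (a : Fin m ⊕ Fin m) : ep K a = 1 ∨ ep K a = -1 := by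
  cases a
  · exact Or.inl rfl
  · exact Or.inr rfl

theorem swap_ne (a : Fin m ⊕ Fin m) : a.swap ≠ a := by
  cases a <;> simp

theorem ne_swap (a : Fin m ⊕ Fin m) : a ≠ a.swap := fun h => swap_ne a h.symm

theorem swap_inj {a b : Fin m ⊕ Fin m} (h : a.swap = b.swap) : a = b := by
  have := congrArg Sum.swap h
  rwa [Sum.swap_swap, Sum.swap_swap] at this

theorem swap_ne_swap {a b : Fin m ⊕ Fin m} (h : a ≠ b) : a.swap ≠ b.swap := fun e => h (swap_inj e)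

theorem swap_ne_of_ne_swap {a b : Fin m ⊕ Fin m} (h : a ≠ b.swap) : a.swap ≠ b := by
  intro e
  apply h
  rw [← e, Sum.swap_swap]

theorem ne_swap_of_swap_ne {a b : Fin m ⊕ Fin m} (h : a.swap ≠ b) : a ≠ b.swap := by
  intro e
  apply h
  rw [e, Sum.swap_swap]

end ep

/-- Elements `x a b t` of a group `Γ` with the Steinberg relations of `Sp_{2m}`. -/
structure CD (m : ℕ) (K : Type*) [Field K] (Γ : Type*) [Group Γ] where
  /-- the elements `x a b t` -/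
  x : Fin m ⊕ Fin m → Fin m ⊕ Fin m → K → Γ
  add : ∀ a b, a ≠ b → ∀ t u : K, x a b t * x a b u = x a b (t + u)
  sym : ∀ a b, a ≠ b → a ≠ b.swap → ∀ t : K, x a b t = x b.swap a.swap (-(ep K a * ep K b) * t)
  comm : ∀ a b c d, a ≠ b → c ≠ d → b ≠ c → a ≠ d → b ≠ d.swap → a.swap ≠ c → ∀ t u : K,
    x a b t * x c d u = x c d u * x a b t
  c1 : ∀ a b c, a ≠ b → a ≠ b.swap → b ≠ c → b ≠ c.swap → a ≠ c → a ≠ c.swap → ∀ t u : K,
    x a b t * x b c u * (x a b t)⁻¹ * (x b c u)⁻¹ = x a c (t * u)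
  c2 : ∀ a b, a ≠ b → a ≠ b.swap → ∀ t u : K,
    x a b t * x b a.swap u * (x a b t)⁻¹ * (x b a.swap u)⁻¹ = x a a.swap (2 * t * u)
  c3 : ∀ a b, a ≠ b → a ≠ b.swap → ∀ t u : K,
    x a b t * x b b.swap u * (x a b t)⁻¹ * (x b b.swap u)⁻¹ =
      x a b.swap (t * u) * x a a.swap (ep K a * ep K b * t * t * u)

variable {m : ℕ} {K : Type*} [Field K] {Γ : Type*} [Group Γ] (S : CD m K Γ)

namespace CD

theorem x_zero {a b : Fin m ⊕ Fin m} (hab : a ≠ b) : S.x a b 0 = 1 := by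
  have h := S.add a b hab 0 0
  rw [add_zero] at h
  exact mul_eq_left.mp h

theorem x_inv {a b : Fin m ⊕ Fin m} (hab : a ≠ b) (t : K) : (S.x a b t)⁻¹ = S.x a b (-t) := by
  apply inv_eq_of_mul_eq_one_right
  rw [S.add a b hab, add_neg_cancel, S.x_zero hab]

theorem x_add_cancel {a b : Fin m ⊕ Fin m} (hab : a ≠ b) (t : K) : S.x a b t * S.x a b (-t) = 1 := by
  rw [S.add a b hab, add_neg_cancel, S.x_zero hab]

theorem x_add_cancel' {a b : Fin m ⊕ Fin m} (hab : a ≠ b) (t : K) : S.x a b (-t) * S.x a b t = 1 := by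
  rw [S.add a b hab, neg_add_cancel, S.x_zero hab]

/-- the symmetry in the form `x_{a b̄}(t) = x_{b ā}(ε_a ε_b t)`. -/
theorem sym' {a b : Fin m ⊕ Fin m} (hab : a ≠ b) (hab' : a ≠ b.swap) (t : K) :
    S.x a b.swap t = S.x b a.swap (ep K a * ep K b * t) := by
  have h := S.sym a b.swap hab' (by rw [Sum.swap_swap]; exact hab) t
  rw [Sum.swap_swap, ep_swap] at h
  rw [h]
  congr 1
  ring

/-- conjugation by a commuting root element. -/
theorem cj_comm {a b c d : Fin m ⊕ Fin m} (hab : a ≠ b) (hcd : c ≠ d) (hbc : b ≠ c) (had : a ≠ d)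
    (hbd : b ≠ d.swap) (hac : a.swap ≠ c) (t u : K) :
    MulAut.conj (S.x a b t) (S.x c d u) = S.x c d u := by
  rw [MulAut.conj_apply, S.comm a b c d hab hcd hbc had hbd hac, mul_inv_cancel_right]

/-- `x_ab(t) x_bc(u) x_ab(t)⁻¹ = x_ac(tu) x_bc(u)`. -/
theorem cj1 {a b c : Fin m ⊕ Fin m} (hab : a ≠ b) (hab' : a ≠ b.swap) (hbc : b ≠ c) (hbc' : b ≠ c.swap)
    (hac : a ≠ c) (hac' : a ≠ c.swap) (t u : K) :
    MulAut.conj (S.x a b t) (S.x b c u) = S.x a c (t * u) * S.x b c u := by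
  rw [MulAut.conj_apply, ← S.c1 a b c hab hab' hbc hbc' hac hac' t u, inv_mul_cancel_right]

/-- `x_bc(u) x_ab(t) x_bc(u)⁻¹ = x_ac(-tu) x_ab(t)`. -/
theorem cj1' {a b c : Fin m ⊕ Fin m} (hab : a ≠ b) (hab' : a ≠ b.swap) (hbc : b ≠ c) (hbc' : b ≠ c.swap)
    (hac : a ≠ c) (hac' : a ≠ c.swap) (t u : K) :
    MulAut.conj (S.x b c u) (S.x a b t) = S.x a c (-(t * u)) * S.x a b t := by
  rw [MulAut.conj_apply, ← S.x_inv hac, ← S.c1 a b c hab hab' hbc hbc' hac hac' t u]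
  group

/-- `x_ab(t) x_bā(u) x_ab(t)⁻¹ = x_aā(2tu) x_bā(u)`. -/
theorem cj2 {a b : Fin m ⊕ Fin m} (hab : a ≠ b) (hab' : a ≠ b.swap) (t u : K) :
    MulAut.conj (S.x a b t) (S.x b a.swap u) = S.x a a.swap (2 * t * u) * S.x b a.swap u := by
  rw [MulAut.conj_apply, ← S.c2 a b hab hab' t u, inv_mul_cancel_right]

/-- `x_bā(u) x_ab(t) x_bā(u)⁻¹ = x_aā(-2tu) x_ab(t)`. -/
theorem cj2' {a b : Fin m ⊕ Fin m} (hab : a ≠ b) (hab' : a ≠ b.swap) (t u : K) :
    MulAut.conj (S.x b a.swap u) (S.x a b t) = S.x a a.swap (-(2 * t * u)) * S.x a b t := by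
  rw [MulAut.conj_apply, ← S.x_inv (ne_swap a), ← S.c2 a b hab hab' t u]
  group

/-- `x_ab(t) x_bb̄(u) x_ab(t)⁻¹ = x_ab̄(tu) x_aā(ε_a ε_b t² u) x_bb̄(u)`. -/
theorem cj3 {a b : Fin m ⊕ Fin m} (hab : a ≠ b) (hab' : a ≠ b.swap) (t u : K) :
    MulAut.conj (S.x a b t) (S.x b b.swap u) =
      S.x a b.swap (t * u) * S.x a a.swap (ep K a * ep K b * t * t * u) * S.x b b.swap u := by
  rw [MulAut.conj_apply, ← S.c3 a b hab hab' t u, inv_mul_cancel_right]

/-- `x_ab̄` and `x_aā` commute. -/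
theorem comm_short_long {a b : Fin m ⊕ Fin m} (hab : a ≠ b) (hab' : a ≠ b.swap) (t u : K) :
    S.x a b t * S.x a a.swap u = S.x a a.swap u * S.x a b t :=
  S.comm a b a a.swap hab (ne_swap a) hab.symm (ne_swap a) (by rw [Sum.swap_swap]; exact hab.symm)
    (swap_ne a) t u

/-- `x_bb̄(u) x_ab(t) x_bb̄(u)⁻¹ = x_aā(-ε_a ε_b t² u) x_ab̄(-tu) x_ab(t)`. -/
theorem cj3' {a b : Fin m ⊕ Fin m} (hab : a ≠ b) (hab' : a ≠ b.swap) (t u : K) :
    MulAut.conj (S.x b b.swap u) (S.x a b t) =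
      S.x a a.swap (-(ep K a * ep K b * t * t * u)) * S.x a b.swap (-(t * u)) * S.x a b t := by
  rw [MulAut.conj_apply, ← S.x_inv (ne_swap a), ← S.x_inv hab']
  have e := S.c3 a b hab hab' t u
  have e2 : (S.x a a.swap (ep K a * ep K b * t * t * u))⁻¹ * (S.x a b.swap (t * u))⁻¹ =
      (S.x a b t * S.x b b.swap u * (S.x a b t)⁻¹ * (S.x b b.swap u)⁻¹)⁻¹ := by
    rw [e, mul_inv_rev]
  rw [e2]
  group

end CD

end Cfsg.Agent.Helper7.Cd
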