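import Mathlib
import Cfsg.Agent.Helper7.CdA

set_option autoImplicit false
set_option linter.unusedSectionVars false
set_option linter.unusedVariables false

/-!
# The elements `w_ab(u)` of a group with the Steinberg relations of type `C`, and their action on the
abelian group of the roots `e_a + e_b`, `2 e_a`, `2 e_b`
-/

namespace Cfsg.Agent.Helper7.Cd

variable {m : ℕ} {K : Type*} [Field K] {Γ : Type*} [Group Γ] (S : CD m K Γ)

theorem ep_mul_inv (a b : Fin m ⊕ Fin m) : (ep K a * ep K b)⁻¹ = ep K a * ep K b := by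
  rw [mul_inv, ep_inv, ep_inv]

theorem ep_mul_sq (a b : Fin m ⊕ Fin m) : ep K a * ep K b * (ep K a * ep K b) = 1 := by
  have h1 := ep_mul_self (K := K) a
  have h2 := ep_mul_self (K := K) b
  calc ep K a * ep K b * (ep K a * ep K b) = (ep K a * ep K a) * (ep K b * ep K b) := by ring
    _ = 1 := by rw [h1, h2, mul_one]

namespace CD

/-- the elements `w_ab(u) = x_ab(u) x_ba(-u⁻¹) x_ab(u)`. -/
def w (a b : Fin m ⊕ Fin m) (u : K) : Γ := S.x a b u * S.x b a (-u⁻¹) * S.x a b u

/-- the elements `h_ab(u) = w_ab(u) w_ab(-1)`. -/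
def h (a b : Fin m ⊕ Fin m) (u : K) : Γ := S.w a b u * S.w a b (-1)

theorem w_inv {a b : Fin m ⊕ Fin m} (hab : a ≠ b) (u : K) : (S.w a b u)⁻¹ = S.w a b (-u) := by
  unfold w
  rw [mul_inv_rev, mul_inv_rev, S.x_inv hab, S.x_inv hab.symm, neg_neg, inv_neg, neg_neg, mul_assoc]

theorem h_one {a b : Fin m ⊕ Fin m} (hab : a ≠ b) : S.h a b 1 = 1 := by
  unfold h
  rw [← S.w_inv hab, mul_inv_cancel]

theorem w_eq_h_mul {a b : Fin m ⊕ Fin m} (hab : a ≠ b) (u : K) : S.w a b u = S.h a b u * S.w a b 1 := by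
  unfold h
  have : S.w a b (-1) = (S.w a b 1)⁻¹ := (S.w_inv hab 1).symm
  rw [this, inv_mul_cancel_right]

theorem conj_w (a b : Fin m ⊕ Fin m) (u : K) (g : Γ) :
    MulAut.conj (S.w a b u) g =
      MulAut.conj (S.x a b u) (MulAut.conj (S.x b a (-u⁻¹)) (MulAut.conj (S.x a b u) g)) := by
  unfold w
  rw [map_mul, map_mul, MulAut.mul_apply, MulAut.mul_apply]

/-- `w_ab(u) = w_b̄ā(-ε_a ε_b u)`. -/
theorem w_sym {a b : Fin m ⊕ Fin m} (hab : a ≠ b) (hab' : a ≠ b.swap) {u : K} (hu : u ≠ 0) :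
    S.w a b u = S.w b.swap a.swap (-(ep K a * ep K b) * u) := by
  have hba' : b ≠ a.swap := fun e => hab' (by rw [e, Sum.swap_swap])
  unfold w
  rw [S.sym a b hab hab' u, S.sym b a hab.symm hba' (-u⁻¹)]
  congr 3
  have h1 := ep_mul_inv (K := K) a b
  have e1 : -(ep K a * ep K b) * u = -((ep K a * ep K b) * u) := by ring
  rw [e1, inv_neg, mul_inv, h1]
  ring

section theta

variable {a b : Fin m ⊕ Fin m} (hab : a ≠ b) (hab' : a ≠ b.swap)

/-- the product `x_ab̄(α) x_bb̄(β) x_aā(γ)`. -/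
def Th (a b : Fin m ⊕ Fin m) (α β γ : K) : Γ :=
  S.x a b.swap α * S.x b b.swap β * S.x a a.swap γ

include hab hab' in
theorem commAB (α β : K) : S.x a b.swap α * S.x b b.swap β = S.x b b.swap β * S.x a b.swap α :=
  S.comm a b.swap b b.swap hab' (ne_swap b) (swap_ne b) hab' (by rw [Sum.swap_swap]; exact swap_ne b)
    (swap_ne_of_ne_swap hab') α β

include hab hab' in
theorem commAC (α γ : K) : S.x a b.swap α * S.x a a.swap γ = S.x a a.swap γ * S.x a b.swap α :=
  S.comm_short_long hab' (by rw [Sum.swap_swap]; exact hab) α γ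

include hab hab' in
theorem commBC (β γ : K) : S.x b b.swap β * S.x a a.swap γ = S.x a a.swap γ * S.x b b.swap β :=
  S.comm b b.swap a a.swap (ne_swap b) (ne_swap a) (fun e => hab' e.symm)
    (fun e => hab' (by rw [e, Sum.swap_swap]))
    (by rw [Sum.swap_swap]; exact fun e => hab' e.symm) (fun e => hab' e.symm) β γ

include hab hab' in
theorem Th_mul (α β γ α' β' γ' : K) :
    S.Th a b α β γ * S.Th a b α' β' γ' = S.Th a b (α + α') (β + β') (γ + γ') := by
  unfold Th
  have e1 := S.commAC hab hab' α' γ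
  have e2 := S.commBC hab hab' β' γ
  have e3 := S.commAB hab hab' α' β
  calc S.x a b.swap α * S.x b b.swap β * S.x a a.swap γ *
        (S.x a b.swap α' * S.x b b.swap β' * S.x a a.swap γ')
      = S.x a b.swap α * S.x b b.swap β * (S.x a a.swap γ * S.x a b.swap α') * S.x b b.swap β' *
          S.x a a.swap γ' := by simp only [mul_assoc]
    _ = S.x a b.swap α * (S.x b b.swap β * S.x a b.swap α') * (S.x a a.swap γ * S.x b b.swap β') *
          S.x a a.swap γ' := by rw [← e1]; simp only [mul_assoc]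
    _ = S.x a b.swap α * S.x a b.swap α' * (S.x b b.swap β * S.x b b.swap β') *
          (S.x a a.swap γ * S.x a a.swap γ') := by rw [← e3, ← e2]; simp only [mul_assoc]
    _ = _ := by rw [S.add _ _ hab', S.add _ _ (ne_swap b), S.add _ _ (ne_swap a)]

include hab hab' in
theorem Th_A (α : K) : S.x a b.swap α = S.Th a b α 0 0 := by
  unfold Th
  rw [S.x_zero (ne_swap b), S.x_zero (ne_swap a), mul_one, mul_one]

include hab hab' in
theorem Th_B (β : K) : S.x b b.swap β = S.Th a b 0 β 0 := by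
  unfold Th
  rw [S.x_zero hab', S.x_zero (ne_swap a), mul_one, one_mul]

include hab hab' in
theorem Th_C (γ : K) : S.x a a.swap γ = S.Th a b 0 0 γ := by
  unfold Th
  rw [S.x_zero hab', S.x_zero (ne_swap b), one_mul, one_mul]

include hab hab' in
/-- the action of `x_ab(v)` on the products `x_ab̄(α) x_bb̄(β) x_aā(γ)`. -/
theorem conj_x_Th (v α β γ : K) :
    MulAut.conj (S.x a b v) (S.Th a b α β γ) =
      S.Th a b (α + v * β) β (γ + 2 * v * (ep K a * ep K b) * α + ep K a * ep K b * v * v * β) := by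
  have hA : MulAut.conj (S.x a b v) (S.x a b.swap α) =
      S.Th a b α 0 (2 * v * (ep K a * ep K b) * α) := by
    rw [S.sym' hab hab' α, S.cj2 hab hab', ← S.sym' hab hab' α, S.Th_A hab hab', S.Th_C hab hab',
      S.Th_mul hab hab']
    congr 1 <;> ring
  have hB : MulAut.conj (S.x a b v) (S.x b b.swap β) =
      S.Th a b (v * β) β (ep K a * ep K b * v * v * β) := by
    rw [S.cj3 hab hab', S.Th_A hab hab', S.Th_B hab hab', S.Th_C hab hab', S.Th_mul hab hab',
      S.Th_mul hab hab']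
    congr 1 <;> ring
  have hC : MulAut.conj (S.x a b v) (S.x a a.swap γ) = S.Th a b 0 0 γ := by
    rw [S.cj_comm hab (ne_swap a) hab.symm (ne_swap a) (by rw [Sum.swap_swap]; exact hab.symm)
      (swap_ne a), S.Th_C hab hab']
  have e : S.Th a b α β γ = S.x a b.swap α * S.x b b.swap β * S.x a a.swap γ := rfl
  rw [e, map_mul, map_mul, hA, hB, hC, S.Th_mul hab hab', S.Th_mul hab hab']
  congr 1 <;> ring

include hab hab' in
/-- the action of `x_ba(s)` on the products `x_ab̄(α) x_bb̄(β) x_aā(γ)`. -/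
theorem conj_y_Th (s α β γ : K) :
    MulAut.conj (S.x b a s) (S.Th a b α β γ) =
      S.Th a b (α + ep K a * ep K b * s * γ) (β + 2 * s * α + ep K a * ep K b * s * s * γ) γ := by
  have hba' : b ≠ a.swap := fun e => hab' (by rw [e, Sum.swap_swap])
  have hA : MulAut.conj (S.x b a s) (S.x a b.swap α) = S.Th a b α (2 * s * α) 0 := by
    rw [S.cj2 hab.symm hba', S.Th_A hab hab', S.Th_B hab hab', S.Th_mul hab hab']
    congr 1 <;> ring
  have hB : MulAut.conj (S.x b a s) (S.x b b.swap β) = S.Th a b 0 β 0 := by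
    rw [S.cj_comm hab.symm (ne_swap b) hab (ne_swap b) (by rw [Sum.swap_swap]; exact hab)
      (swap_ne b), S.Th_B hab hab']
  have hC : MulAut.conj (S.x b a s) (S.x a a.swap γ) =
      S.Th a b (ep K a * ep K b * s * γ) (ep K a * ep K b * s * s * γ) γ := by
    rw [S.cj3 hab.symm hba', S.sym' hab.symm hba', S.Th_A hab hab', S.Th_B hab hab', S.Th_C hab hab',
      S.Th_mul hab hab', S.Th_mul hab hab']
    congr 1 <;> ring
  have e : S.Th a b α β γ = S.x a b.swap α * S.x b b.swap β * S.x a a.swap γ := rfl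
  rw [e, map_mul, map_mul, hA, hB, hC, S.Th_mul hab hab', S.Th_mul hab hab']
  congr 1 <;> ring

include hab hab' in
/-- the action of `w_ab(v)` on the products `x_ab̄(α) x_bb̄(β) x_aā(γ)`. -/
theorem conj_w_Th {v : K} (hv : v ≠ 0) (α β γ : K) :
    MulAut.conj (S.w a b v) (S.Th a b α β γ) =
      S.Th a b (-α) (ep K a * ep K b * v⁻¹ * v⁻¹ * γ) (ep K a * ep K b * v * v * β) := by
  rw [S.conj_w, S.conj_x_Th hab hab', S.conj_y_Th hab hab', S.conj_x_Th hab hab']
  have h1 := ep_mul_sq (K := K) a b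
  obtain ⟨δ, hδ⟩ : ∃ δ : K, δ = ep K a * ep K b := ⟨_, rfl⟩
  rw [← hδ] at h1 ⊢
  have h2 : δ = 1 ∨ δ = -1 := mul_self_eq_one_iff.mp h1
  rcases h2 with rfl | rfl
  · congr 1
    · field_simp
      ring
    · field_simp
      ring
    · field_simp
      ring
  · congr 1
    · field_simp
      ring
    · field_simp
      ring
    · field_simp
      ring

end theta

end CD

end Cfsg.Agent.Helper7.Cd
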