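import Mathlib
import Cfsg.Agent.Helper7.CdB

set_option autoImplicit false
set_option linter.unusedSectionVars false
set_option linter.unusedVariables false

/-!
# The action of the elements `w_ab(v)` of a short root on the root elements: the basic cases
-/

namespace Cfsg.Agent.Helper7.Cd

variable {m : ℕ} {K : Type*} [Field K] {Γ : Type*} [Group Γ] (S : CD m K Γ)

/-- from the action of the inverse to the action of the element. -/
theorem conj_of_conj_inv {g P Q : Γ} (h : MulAut.conj g⁻¹ P = Q) : MulAut.conj g Q = P := by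
  rw [← h, MulAut.conj_apply, MulAut.conj_apply]
  group

namespace CD

section short

variable {a b : Fin m ⊕ Fin m} (hab : a ≠ b) (hab' : a ≠ b.swap) {v : K} (hv : v ≠ 0)

include hab hab' hv in
/-- `w_ab(v) x_ab̄(c) w_ab(v)⁻¹ = x_ab̄(-c)`. -/
theorem w_conj_beta (c : K) : MulAut.conj (S.w a b v) (S.x a b.swap c) = S.x a b.swap (-c) := by
  rw [S.Th_A hab hab', S.conj_w_Th hab hab' hv, S.Th_A hab hab']
  congr 1 <;> ring

include hab hab' hv in
/-- `w_ab(v) x_aā(c) w_ab(v)⁻¹ = x_bb̄(ε_a ε_b v⁻² c)`. -/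
theorem w_conj_L2 (c : K) :
    MulAut.conj (S.w a b v) (S.x a a.swap c) = S.x b b.swap (ep K a * ep K b * v⁻¹ * v⁻¹ * c) := by
  rw [S.Th_C hab hab', S.conj_w_Th hab hab' hv, S.Th_B hab hab']
  congr 1 <;> ring

include hab hab' hv in
/-- `w_ab(v) x_bb̄(c) w_ab(v)⁻¹ = x_aā(ε_a ε_b v² c)`. -/
theorem w_conj_L3 (c : K) :
    MulAut.conj (S.w a b v) (S.x b b.swap c) = S.x a a.swap (ep K a * ep K b * v * v * c) := by
  rw [S.Th_B hab hab', S.conj_w_Th hab hab' hv, S.Th_C hab hab']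
  congr 1 <;> ring

include hab hab' hv in
/-- `w_ab(v) x_āa(c) w_ab(v)⁻¹ = x_b̄b(ε_a ε_b v² c)`. -/
theorem w_conj_L4 (c : K) :
    MulAut.conj (S.w a b v) (S.x a.swap a c) = S.x b.swap b (ep K a * ep K b * v * v * c) := by
  have h1 : b.swap ≠ a.swap := swap_ne_swap hab.symm
  have h2 : b.swap ≠ a.swap.swap := by rw [Sum.swap_swap]; exact fun e => hab' e.symm
  have hv' : -(ep K a * ep K b) * v ≠ 0 :=
    mul_ne_zero (neg_ne_zero.mpr (mul_ne_zero (ep_ne_zero a) (ep_ne_zero b))) hv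
  have e := S.w_conj_L3 h1 h2 hv' c
  rw [Sum.swap_swap, Sum.swap_swap, ← S.w_sym hab hab' hv, ep_swap, ep_swap] at e
  rw [e]
  congr 1
  rcases ep_cases (K := K) a with h3 | h3 <;> rcases ep_cases (K := K) b with h4 | h4 <;>
    rw [h3, h4] <;> ring

include hab hab' hv in
/-- `w_ab(v) x_b̄b(c) w_ab(v)⁻¹ = x_āa(ε_a ε_b v⁻² c)`. -/
theorem w_conj_L5 (c : K) :
    MulAut.conj (S.w a b v) (S.x b.swap b c) = S.x a.swap a (ep K a * ep K b * v⁻¹ * v⁻¹ * c) := by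
  have h1 : b.swap ≠ a.swap := swap_ne_swap hab.symm
  have h2 : b.swap ≠ a.swap.swap := by rw [Sum.swap_swap]; exact fun e => hab' e.symm
  have hv' : -(ep K a * ep K b) * v ≠ 0 :=
    mul_ne_zero (neg_ne_zero.mpr (mul_ne_zero (ep_ne_zero a) (ep_ne_zero b))) hv
  have e := S.w_conj_L2 h1 h2 hv' c
  rw [Sum.swap_swap, Sum.swap_swap, ← S.w_sym hab hab' hv, ep_swap, ep_swap] at e
  rw [e]
  congr 1
  rcases ep_cases (K := K) a with h3 | h3 <;> rcases ep_cases (K := K) b with h4 | h4 <;>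
    rw [h3, h4] <;> field_simp

include hab hab' in
/-- `w_ab(v)` commutes with `x_cd(t)` when `c` and `d` are not among `a`, `b`, `ā`, `b̄`. -/
theorem w_conj_out {c d : Fin m ⊕ Fin m} (hcd : c ≠ d) (hca : c ≠ a) (hcb : c ≠ b) (hca' : c ≠ a.swap)
    (hcb' : c ≠ b.swap) (hda : d ≠ a) (hdb : d ≠ b) (hda' : d ≠ a.swap) (hdb' : d ≠ b.swap) (t : K) :
    MulAut.conj (S.w a b v) (S.x c d t) = S.x c d t := by
  have e1 : ∀ s : K, MulAut.conj (S.x a b s) (S.x c d t) = S.x c d t := fun s =>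
    S.cj_comm hab hcd hcb.symm hda.symm (ne_swap_of_swap_ne (fun e => hdb' e.symm)) hca'.symm s t
  have e2 : ∀ s : K, MulAut.conj (S.x b a s) (S.x c d t) = S.x c d t := fun s =>
    S.cj_comm hab.symm hcd hca.symm hdb.symm (ne_swap_of_swap_ne (fun e => hda' e.symm)) hcb'.symm s t
  rw [S.conj_w, e1, e2, e1]

include hab hab' hv in
/-- `w_ab(v) x_ad(c) w_ab(v)⁻¹ = x_bd(-v⁻¹ c)`. -/
theorem w_conj_S2a {d : Fin m ⊕ Fin m} (hda : d ≠ a) (hdb : d ≠ b) (hda' : d ≠ a.swap)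
    (hdb' : d ≠ b.swap) (c : K) :
    MulAut.conj (S.w a b v) (S.x a d c) = S.x b d (-v⁻¹ * c) := by
  have hba' : b ≠ a.swap := fun e => hab' (by rw [e, Sum.swap_swap])
  have had' : a ≠ d.swap := ne_swap_of_swap_ne hda'.symm
  have hbd' : b ≠ d.swap := ne_swap_of_swap_ne hdb'.symm
  have e1 : ∀ s t : K, MulAut.conj (S.x a b s) (S.x a d t) = S.x a d t := fun s t =>
    S.cj_comm hab hda.symm hab.symm hda.symm hbd' (swap_ne a) s t
  rw [S.conj_w, e1, S.cj1 hab.symm hba' hda.symm had' hdb.symm hbd', map_mul, e1,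
    S.cj1 hab hab' hdb.symm hbd' hda.symm had']
  have e2 : v * (-v⁻¹ * c) = -c := by field_simp
  rw [e2, mul_assoc, S.comm b d a d hdb.symm hda.symm hda hdb.symm (ne_swap d)
    (fun e => hab' e.symm), ← mul_assoc, S.add a d hda.symm, neg_add_cancel, S.x_zero hda.symm, one_mul]

include hab hab' hv in
/-- `w_ab(v) x_bd(c) w_ab(v)⁻¹ = x_ad(v c)`. -/
theorem w_conj_S2b {d : Fin m ⊕ Fin m} (hda : d ≠ a) (hdb : d ≠ b) (hda' : d ≠ a.swap)
    (hdb' : d ≠ b.swap) (c : K) :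
    MulAut.conj (S.w a b v) (S.x b d c) = S.x a d (v * c) := by
  have e := S.w_conj_S2a hab hab' (neg_ne_zero.mpr hv) hda hdb hda' hdb' (v * c)
  rw [← S.w_inv hab] at e
  have e2 : -(-v)⁻¹ * (v * c) = c := by field_simp
  rw [e2] at e
  exact conj_of_conj_inv e

include hab hab' hv in
/-- `w_ab(v) x_ab(c) w_ab(v)⁻¹ = x_ba(-v⁻² c)`. -/
theorem w_conj_alpha (c : K) :
    MulAut.conj (S.w a b v) (S.x a b c) = S.x b a (-v⁻¹ * v⁻¹ * c) := by
  have hba' : b ≠ a.swap := fun e => hab' (by rw [e, Sum.swap_swap])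
  have hab'' : a ≠ b.swap.swap := by rw [Sum.swap_swap]; exact hab
  -- `[x_ab̄(c), x_b̄b(1)] = x_ab(c) x_aā(-ε_a ε_b c²)`
  have e1 := S.c3 a b.swap hab' hab'' c 1
  rw [Sum.swap_swap, ep_swap, mul_one, mul_one] at e1
  have e2 : S.x a b c = S.x a b.swap c * S.x b.swap b 1 * (S.x a b.swap c)⁻¹ * (S.x b.swap b 1)⁻¹ *
      S.x a a.swap (ep K a * ep K b * c * c) := by
    rw [e1, mul_assoc, S.add _ _ (ne_swap a)]
    have : ep K a * -ep K b * c * c + ep K a * ep K b * c * c = 0 := by ring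
    rw [this, S.x_zero (ne_swap a), mul_one]
  -- `[x_bā(t'), x_āa(u')] = x_ba(t' u') x_bb̄(-ε_a ε_b t'² u')`
  have e3 := S.c3 b a.swap hba' (by rw [Sum.swap_swap]; exact hab.symm)
    (ep K a * ep K b * -c) (ep K a * ep K b * v⁻¹ * v⁻¹)
  rw [Sum.swap_swap, ep_swap] at e3
  rw [e2, map_mul, map_mul, map_mul, map_mul, map_inv, map_inv, S.w_conj_beta hab hab' hv,
    S.w_conj_L5 hab hab' hv, S.w_conj_L2 hab hab' hv, S.sym' hab hab' (-c), mul_one, e3, mul_assoc,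
    S.add _ _ (ne_swap b)]
  have e5 : ep K b * -ep K a * (ep K a * ep K b * -c) * (ep K a * ep K b * -c) *
      (ep K a * ep K b * v⁻¹ * v⁻¹) + ep K a * ep K b * v⁻¹ * v⁻¹ * (ep K a * ep K b * c * c) = 0 := by
    rcases ep_cases (K := K) a with h3 | h3 <;> rcases ep_cases (K := K) b with h4 | h4 <;>
      rw [h3, h4] <;> ring
  have e6 : ep K a * ep K b * -c * (ep K a * ep K b * v⁻¹ * v⁻¹) = -v⁻¹ * v⁻¹ * c := by
    rcases ep_cases (K := K) a with h3 | h3 <;> rcases ep_cases (K := K) b with h4 | h4 <;>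
      rw [h3, h4] <;> ring
  rw [e5, S.x_zero (ne_swap b), mul_one, e6]

include hab hab' hv in
/-- `w_ab(v) x_ba(c) w_ab(v)⁻¹ = x_ab(-v² c)`. -/
theorem w_conj_alpha' (c : K) :
    MulAut.conj (S.w a b v) (S.x b a c) = S.x a b (-v * v * c) := by
  have e := S.w_conj_alpha hab hab' (neg_ne_zero.mpr hv) (-v * v * c)
  rw [← S.w_inv hab] at e
  have e2 : -(-v)⁻¹ * (-v)⁻¹ * (-v * v * c) = c := by field_simp
  rw [e2] at e
  exact conj_of_conj_inv e

end short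

end CD

end Cfsg.Agent.Helper7.Cd
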