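import Mathlib
import Cfsg.Agent.Helper7.CdC

set_option autoImplicit false
set_option linter.unusedSectionVars false
set_option linter.unusedVariables false

/-!
# The action of the elements `w_aā(v)` of a long root on the root elements: the basic cases
-/

namespace Cfsg.Agent.Helper7.Cd

variable {m : ℕ} {K : Type*} [Field K] {Γ : Type*} [Group Γ] (S : CD m K Γ)

namespace CD

section long

variable {a : Fin m ⊕ Fin m} {v : K} (hv : v ≠ 0)

/-- `w_aā(v)` commutes with `x_cd(t)` when `c` and `d` are not among `a`, `ā`. -/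
theorem wl_conj_out {c d : Fin m ⊕ Fin m} (hcd : c ≠ d) (hca : c ≠ a) (hca' : c ≠ a.swap)
    (hda : d ≠ a) (hda' : d ≠ a.swap) (t : K) :
    MulAut.conj (S.w a a.swap v) (S.x c d t) = S.x c d t := by
  have e1 : ∀ s : K, MulAut.conj (S.x a a.swap s) (S.x c d t) = S.x c d t := fun s =>
    S.cj_comm (ne_swap a) hcd hca'.symm hda.symm (swap_ne_swap hda.symm) hca'.symm s t
  have e2 : ∀ s : K, MulAut.conj (S.x a.swap a s) (S.x c d t) = S.x c d t := fun s =>
    S.cj_comm (swap_ne a) hcd hca.symm hda'.symm (ne_swap_of_swap_ne hda'.symm)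
      (by rw [Sum.swap_swap]; exact hca.symm) s t
  rw [S.conj_w, e1, e2, e1]

include hv in
/-- `w_aā(v) x_ad(c) w_aā(v)⁻¹ = x_ād(-v⁻¹ c)`. -/
theorem wl_conj_S1 {d : Fin m ⊕ Fin m} (hda : d ≠ a) (hda' : d ≠ a.swap) (c : K) :
    MulAut.conj (S.w a a.swap v) (S.x a d c) = S.x a.swap d (-v⁻¹ * c) := by
  have had : a ≠ d := hda.symm
  have had' : a ≠ d.swap := ne_swap_of_swap_ne hda'.symm
  have hd1 : d.swap ≠ a.swap := swap_ne_swap hda
  have hd2 : d.swap ≠ a := fun e => had' e.symm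
  have hsym : ∀ t : K, S.x a d t = S.x d.swap a.swap (-(ep K a * ep K d) * t) := S.sym a d had had'
  obtain ⟨e, he⟩ : ∃ e : K, e = -(ep K a * ep K d) * c * v⁻¹ := ⟨_, rfl⟩
  -- the inner step
  have e1 : ∀ s t : K, MulAut.conj (S.x a a.swap s) (S.x a d t) = S.x a d t := fun s t =>
    S.cj_comm (ne_swap a) had (swap_ne a) had (swap_ne_swap had) (swap_ne a) s t
  -- the middle step
  have hM : MulAut.conj (S.x a.swap a (-v⁻¹)) (S.x a d c) =
      S.x d.swap d (ep K a * ep K d * c * c * v⁻¹) * S.x d.swap a e * S.x a d c := by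
    have h3 := S.cj3' (a := d.swap) (b := a.swap) hd1 (by rw [Sum.swap_swap]; exact hd2)
      (-(ep K a * ep K d) * c) (-v⁻¹)
    rw [Sum.swap_swap, Sum.swap_swap, ep_swap, ep_swap] at h3
    rw [hsym c, h3]
    congr 2
    · congr 1
      rcases ep_cases (K := K) a with h3 | h3 <;> rcases ep_cases (K := K) d with h4 | h4 <;>
        rw [h3, h4] <;> ring
    · congr 1
      rw [he]
      ring
  -- the outer step
  have hO1 : ∀ t : K, MulAut.conj (S.x a a.swap v) (S.x d.swap d t) = S.x d.swap d t := fun t =>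
    S.cj_comm (ne_swap a) (swap_ne d) hd1.symm had (swap_ne_swap had) hd1.symm v t
  have hO2 : MulAut.conj (S.x a a.swap v) (S.x d.swap a e) =
      S.x d.swap d (ep K a * ep K d * c * c * v⁻¹) * S.x a d (-c) * S.x d.swap a e := by
    have h3 := S.cj3' (a := d.swap) (b := a) hd2 hd1 e v
    rw [Sum.swap_swap, ep_swap] at h3
    rw [h3, hsym (-c)]
    congr 2
    · congr 1
      rw [he]
      rcases ep_cases (K := K) a with h3 | h3 <;> rcases ep_cases (K := K) d with h4 | h4 <;>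
        rw [h3, h4] <;> field_simp <;> ring
    · congr 1
      rw [he]
      field_simp
  -- the last conjugation
  have hL : S.x a d (-c) * S.x d.swap a e * S.x a d c =
      S.x d.swap d (-(2 * (ep K a * ep K d * c * c * v⁻¹))) * S.x d.swap a e := by
    have h3 := S.cj2' (a := d.swap) (b := a) hd2 hd1 e (-c)
    rw [Sum.swap_swap, MulAut.conj_apply, S.x_inv had, neg_neg] at h3
    rw [h3]
    congr 2
    rw [he]
    ring
  rw [S.conj_w, e1, hM, map_mul, map_mul, hO1, hO2, e1]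
  have hfin : S.x a.swap d (-v⁻¹ * c) = S.x d.swap a e := by
    have h3 := S.sym a.swap d hda'.symm (by
      intro e'
      apply hda
      have := congrArg Sum.swap e'
      rw [Sum.swap_swap, Sum.swap_swap] at this
      exact this.symm) (-v⁻¹ * c)
    rw [Sum.swap_swap, ep_swap] at h3
    rw [h3, he]
    congr 1
    ring
  rw [hfin]
  calc S.x d.swap d (ep K a * ep K d * c * c * v⁻¹) *
        (S.x d.swap d (ep K a * ep K d * c * c * v⁻¹) * S.x a d (-c) * S.x d.swap a e) * S.x a d c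
      = S.x d.swap d (ep K a * ep K d * c * c * v⁻¹) * S.x d.swap d (ep K a * ep K d * c * c * v⁻¹) *
          (S.x a d (-c) * S.x d.swap a e * S.x a d c) := by simp only [mul_assoc]
    _ = S.x d.swap a e := by
        rw [hL, ← mul_assoc, S.add _ _ (swap_ne d), S.add _ _ (swap_ne d)]
        have : ep K a * ep K d * c * c * v⁻¹ + ep K a * ep K d * c * c * v⁻¹ +
            -(2 * (ep K a * ep K d * c * c * v⁻¹)) = 0 := by ring
        rw [this, S.x_zero (swap_ne d), one_mul]

include hv in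
/-- `w_aā(v) x_ād(c) w_aā(v)⁻¹ = x_ad(v c)`. -/
theorem wl_conj_S2 {d : Fin m ⊕ Fin m} (hda : d ≠ a) (hda' : d ≠ a.swap) (c : K) :
    MulAut.conj (S.w a a.swap v) (S.x a.swap d c) = S.x a d (v * c) := by
  have e := S.wl_conj_S1 (neg_ne_zero.mpr hv) hda hda' (v * c)
  rw [← S.w_inv (ne_swap a)] at e
  have e2 : -(-v)⁻¹ * (v * c) = c := by field_simp
  rw [e2] at e
  exact conj_of_conj_inv e

include hv in
/-- `w_aā(v) x_aā(c) w_aā(v)⁻¹ = x_āa(-v⁻² c)`. -/
theorem wl_conj_L1 {b : Fin m ⊕ Fin m} (hab : a ≠ b) (hab' : a ≠ b.swap) (c : K) :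
    MulAut.conj (S.w a a.swap v) (S.x a a.swap c) = S.x a.swap a (-v⁻¹ * v⁻¹ * c) := by
  have hba : b ≠ a := hab.symm
  have hba' : b ≠ a.swap := fun e => hab' (by rw [e, Sum.swap_swap])
  have hb'a : b.swap ≠ a := fun e => hab' e.symm
  have hb'a' : b.swap ≠ a.swap := swap_ne_swap hba
  have e1 := S.c3 a b hab hab' 1 (ep K a * ep K b * c)
  have e2 : S.x a a.swap c = (S.x a b.swap (ep K a * ep K b * c))⁻¹ *
      (S.x a b 1 * S.x b b.swap (ep K a * ep K b * c) * (S.x a b 1)⁻¹ *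
        (S.x b b.swap (ep K a * ep K b * c))⁻¹) := by
    rw [e1, one_mul, inv_mul_cancel_left]
    congr 1
    rcases ep_cases (K := K) a with h3 | h3 <;> rcases ep_cases (K := K) b with h4 | h4 <;>
      rw [h3, h4] <;> ring
  have e3 := S.c3 a.swap b (swap_ne_of_ne_swap hab') (swap_ne_swap hab) (-v⁻¹) (ep K a * ep K b * c)
  rw [Sum.swap_swap, ep_swap] at e3
  rw [e2, map_mul, map_mul, map_mul, map_mul, map_inv, map_inv, map_inv, S.wl_conj_S1 hv hb'a hb'a',
    S.wl_conj_S1 hv hba hba', S.wl_conj_out (ne_swap b) hba hba' hb'a hb'a', mul_one, e3,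
    inv_mul_cancel_left]
  congr 1
  rcases ep_cases (K := K) a with h3 | h3 <;> rcases ep_cases (K := K) b with h4 | h4 <;>
    rw [h3, h4] <;> ring

include hv in
/-- `w_aā(v) x_āa(c) w_aā(v)⁻¹ = x_aā(-v² c)`. -/
theorem wl_conj_L2 {b : Fin m ⊕ Fin m} (hab : a ≠ b) (hab' : a ≠ b.swap) (c : K) :
    MulAut.conj (S.w a a.swap v) (S.x a.swap a c) = S.x a a.swap (-v * v * c) := by
  have e := S.wl_conj_L1 (neg_ne_zero.mpr hv) hab hab' (-v * v * c)
  rw [← S.w_inv (ne_swap a)] at e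
  have e2 : -(-v)⁻¹ * (-v)⁻¹ * (-v * v * c) = c := by field_simp
  rw [e2] at e
  exact conj_of_conj_inv e

end long

end CD

end Cfsg.Agent.Helper7.Cd
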