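import Mathlib
import Cfsg.Agent.Helper7.CdD

set_option autoImplicit false
set_option linter.unusedSectionVars false
set_option linter.unusedVariables false

/-!
# The action of the elements `w_ab(v)` on all root elements
-/

namespace Cfsg.Agent.Helper7.Cd

variable {m : ℕ} {K : Type*} [Field K] {Γ : Type*} [Group Γ] (S : CD m K Γ)

/-- compatibility of a permutation of the indices and of coefficients with the symplectic form. -/
structure Compat (σ : Equiv.Perm (Fin m ⊕ Fin m)) (μ : Fin m ⊕ Fin m → K) : Prop where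
  bar : ∀ c, σ c.swap = (σ c).swap
  ne : ∀ c, μ c ≠ 0
  mul : ∀ c, μ c * μ c.swap = ep K c * ep K (σ c)

theorem Compat.swap_eq {σ : Equiv.Perm (Fin m ⊕ Fin m)} {μ : Fin m ⊕ Fin m → K} (h : Compat σ μ)
    (c : Fin m ⊕ Fin m) : μ c.swap = ep K c * ep K (σ c) * (μ c)⁻¹ := by
  have h1 := h.mul c
  have h2 := h.ne c
  field_simp
  linear_combination h1

/-- the permutation of the indices of `w_ab(v)`, for a short root. -/
def sgS (a b : Fin m ⊕ Fin m) : Equiv.Perm (Fin m ⊕ Fin m) :=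
  Equiv.swap a b * Equiv.swap a.swap b.swap

/-- the coefficients of `w_ab(v)`, for a short root. -/
def muS (a b : Fin m ⊕ Fin m) (v : K) (c : Fin m ⊕ Fin m) : K :=
  if c = a then -v⁻¹ else if c = b then v else if c = a.swap then -(ep K a * ep K b * v)
  else if c = b.swap then ep K a * ep K b * v⁻¹ else 1

/-- the permutation of the indices of `w_aā(v)`. -/
def sgL (a : Fin m ⊕ Fin m) : Equiv.Perm (Fin m ⊕ Fin m) := Equiv.swap a a.swap

/-- the coefficients of `w_aā(v)`. -/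
def muL (a : Fin m ⊕ Fin m) (v : K) (c : Fin m ⊕ Fin m) : K :=
  if c = a then -v⁻¹ else if c = a.swap then v else 1

section evalS

variable {a b : Fin m ⊕ Fin m} (hab : a ≠ b) (hab' : a ≠ b.swap)

include hab hab' in
theorem sgS_a : sgS a b a = b := by
  unfold sgS
  rw [Equiv.Perm.mul_apply, Equiv.swap_apply_of_ne_of_ne (ne_swap a) hab', Equiv.swap_apply_left]

include hab hab' in
theorem sgS_b : sgS a b b = a := by
  unfold sgS
  rw [Equiv.Perm.mul_apply, Equiv.swap_apply_of_ne_of_ne (fun e => hab' (by rw [e, Sum.swap_swap]))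
    (ne_swap b), Equiv.swap_apply_right]

include hab hab' in
theorem sgS_a' : sgS a b a.swap = b.swap := by
  unfold sgS
  rw [Equiv.Perm.mul_apply, Equiv.swap_apply_left,
    Equiv.swap_apply_of_ne_of_ne (fun e => hab' e.symm) (swap_ne b)]

include hab hab' in
theorem sgS_b' : sgS a b b.swap = a.swap := by
  unfold sgS
  rw [Equiv.Perm.mul_apply, Equiv.swap_apply_right,
    Equiv.swap_apply_of_ne_of_ne (swap_ne a) (fun e => hab' (by rw [← e, Sum.swap_swap]))]

theorem sgS_out {c : Fin m ⊕ Fin m} (hca : c ≠ a) (hcb : c ≠ b) (hca' : c ≠ a.swap)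
    (hcb' : c ≠ b.swap) : sgS a b c = c := by
  unfold sgS
  rw [Equiv.Perm.mul_apply, Equiv.swap_apply_of_ne_of_ne hca' hcb', Equiv.swap_apply_of_ne_of_ne hca hcb]

theorem muS_a (v : K) : muS a b v a = -v⁻¹ := by
  unfold muS
  rw [if_pos rfl]

include hab in
theorem muS_b (v : K) : muS a b v b = v := by
  unfold muS
  rw [if_neg hab.symm, if_pos rfl]

include hab' in
theorem muS_a' (v : K) : muS a b v a.swap = -(ep K a * ep K b * v) := by
  unfold muS
  rw [if_neg (swap_ne a), if_neg (fun e => hab' (by rw [← e, Sum.swap_swap])), if_pos rfl]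

include hab hab' in
theorem muS_b' (v : K) : muS a b v b.swap = ep K a * ep K b * v⁻¹ := by
  unfold muS
  rw [if_neg (fun e => hab' e.symm), if_neg (swap_ne b), if_neg (swap_ne_swap hab.symm), if_pos rfl]

theorem muS_out {c : Fin m ⊕ Fin m} (hca : c ≠ a) (hcb : c ≠ b) (hca' : c ≠ a.swap)
    (hcb' : c ≠ b.swap) (v : K) : muS a b v c = 1 := by
  unfold muS
  rw [if_neg hca, if_neg hcb, if_neg hca', if_neg hcb']

include hab hab' in
theorem compatS {v : K} (hv : v ≠ 0) : Compat (sgS a b) (muS a b v) := by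
  have hba' : b ≠ a.swap := fun e => hab' (by rw [e, Sum.swap_swap])
  have key : ∀ c : Fin m ⊕ Fin m, c = a ∨ c = b ∨ c = a.swap ∨ c = b.swap ∨
      (c ≠ a ∧ c ≠ b ∧ c ≠ a.swap ∧ c ≠ b.swap) := by
    intro c
    by_cases h1 : c = a
    · exact Or.inl h1
    by_cases h2 : c = b
    · exact Or.inr (Or.inl h2)
    by_cases h3 : c = a.swap
    · exact Or.inr (Or.inr (Or.inl h3))
    by_cases h4 : c = b.swap
    · exact Or.inr (Or.inr (Or.inr (Or.inl h4)))
    exact Or.inr (Or.inr (Or.inr (Or.inr ⟨h1, h2, h3, h4⟩)))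
  have hδ : ep K a * ep K b ≠ 0 := mul_ne_zero (ep_ne_zero a) (ep_ne_zero b)
  have hvi : v⁻¹ ≠ 0 := inv_ne_zero hv
  refine ⟨fun c => ?_, fun c => ?_, fun c => ?_⟩
  · rcases key c with rfl | rfl | rfl | rfl | ⟨h1, h2, h3, h4⟩
    · rw [sgS_a hab hab', sgS_a' hab hab']
    · rw [sgS_b hab hab', sgS_b' hab hab']
    · rw [Sum.swap_swap, sgS_a hab hab', sgS_a' hab hab', Sum.swap_swap]
    · rw [Sum.swap_swap, sgS_b hab hab', sgS_b' hab hab', Sum.swap_swap]
    · rw [sgS_out h1 h2 h3 h4, sgS_out (fun e => h3 (by rw [← e, Sum.swap_swap]))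
        (fun e => h4 (by rw [← e, Sum.swap_swap])) (swap_ne_swap h1) (swap_ne_swap h2)]
  · rcases key c with rfl | rfl | rfl | rfl | ⟨h1, h2, h3, h4⟩
    · rw [muS_a]; exact neg_ne_zero.mpr hvi
    · rw [muS_b hab]; exact hv
    · rw [muS_a' hab']; exact neg_ne_zero.mpr (mul_ne_zero hδ hv)
    · rw [muS_b' hab hab']; exact mul_ne_zero hδ hvi
    · rw [muS_out h1 h2 h3 h4]; exact one_ne_zero
  · rcases key c with rfl | rfl | rfl | rfl | ⟨h1, h2, h3, h4⟩
    · rw [muS_a, muS_a' hab', sgS_a hab hab']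
      field_simp
    · rw [muS_b hab, muS_b' hab hab', sgS_b hab hab']
      field_simp
    · rw [Sum.swap_swap, muS_a, muS_a' hab', sgS_a' hab hab', ep_swap, ep_swap]
      field_simp
    · rw [Sum.swap_swap, muS_b hab, muS_b' hab hab', sgS_b' hab hab', ep_swap, ep_swap]
      field_simp
    · rw [muS_out h1 h2 h3 h4, muS_out (fun e => h3 (by rw [← e, Sum.swap_swap]))
        (fun e => h4 (by rw [← e, Sum.swap_swap])) (swap_ne_swap h1) (swap_ne_swap h2),
        sgS_out h1 h2 h3 h4, ep_mul_self, mul_one]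

end evalS

section evalL

variable {a : Fin m ⊕ Fin m}

theorem sgL_a : sgL a a = a.swap := Equiv.swap_apply_left _ _

theorem sgL_a' : sgL a a.swap = a := Equiv.swap_apply_right _ _

theorem sgL_out {c : Fin m ⊕ Fin m} (hca : c ≠ a) (hca' : c ≠ a.swap) : sgL a c = c :=
  Equiv.swap_apply_of_ne_of_ne hca hca'

theorem muL_a (v : K) : muL a v a = -v⁻¹ := by
  unfold muL
  rw [if_pos rfl]

theorem muL_a' (v : K) : muL a v a.swap = v := by
  unfold muL
  rw [if_neg (swap_ne a), if_pos rfl]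

theorem muL_out {c : Fin m ⊕ Fin m} (hca : c ≠ a) (hca' : c ≠ a.swap) (v : K) : muL a v c = 1 := by
  unfold muL
  rw [if_neg hca, if_neg hca']

theorem compatL {v : K} (hv : v ≠ 0) : Compat (sgL a) (muL a v) := by
  have key : ∀ c : Fin m ⊕ Fin m, c = a ∨ c = a.swap ∨ (c ≠ a ∧ c ≠ a.swap) := by
    intro c
    by_cases h1 : c = a
    · exact Or.inl h1
    by_cases h3 : c = a.swap
    · exact Or.inr (Or.inl h3)
    exact Or.inr (Or.inr ⟨h1, h3⟩)
  have hvi : v⁻¹ ≠ 0 := inv_ne_zero hv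
  refine ⟨fun c => ?_, fun c => ?_, fun c => ?_⟩
  · rcases key c with rfl | rfl | ⟨h1, h3⟩
    · rw [sgL_a, sgL_a', Sum.swap_swap]
    · rw [Sum.swap_swap, sgL_a, sgL_a']
    · rw [sgL_out h1 h3, sgL_out (fun e => h3 (by rw [← e, Sum.swap_swap])) (swap_ne_swap h1)]
  · rcases key c with rfl | rfl | ⟨h1, h3⟩
    · rw [muL_a]; exact neg_ne_zero.mpr hvi
    · rw [muL_a']; exact hv
    · rw [muL_out h1 h3]; exact one_ne_zero
  · rcases key c with rfl | rfl | ⟨h1, h3⟩
    · rw [muL_a, muL_a', sgL_a, ep_swap]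
      rcases ep_cases (K := K) c with h | h <;> rw [h] <;> field_simp
    · rw [Sum.swap_swap, muL_a, muL_a', sgL_a', ep_swap]
      rcases ep_cases (K := K) a with h | h <;> rw [h] <;> field_simp
    · rw [muL_out h1 h3, muL_out (fun e => h3 (by rw [← e, Sum.swap_swap])) (swap_ne_swap h1),
        sgL_out h1 h3, ep_mul_self, mul_one]

end evalL

namespace CD

/-- the action of `g` on the root elements `x_cd(t)` is through `σ` with the coefficients `μ`. -/
def CF (g : Γ) (σ : Equiv.Perm (Fin m ⊕ Fin m)) (μ : Fin m ⊕ Fin m → K) (c d : Fin m ⊕ Fin m) : Prop :=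
  ∀ t : K, MulAut.conj g (S.x c d t) = S.x (σ c) (σ d) (μ c * (μ d)⁻¹ * t)

/-- the formula for `(c, d)` follows from that for `(d̄, c̄)`. -/
theorem CF_sym {g : Γ} {σ : Equiv.Perm (Fin m ⊕ Fin m)} {μ : Fin m ⊕ Fin m → K} (hC : Compat σ μ)
    {c d : Fin m ⊕ Fin m} (hcd : c ≠ d) (hcd' : c ≠ d.swap) (h : S.CF g σ μ d.swap c.swap) :
    S.CF g σ μ c d := by
  intro t
  have h1 : σ c ≠ σ d := fun e => hcd (σ.injective e)
  have h2 : σ c ≠ (σ d).swap := by
    rw [← hC.bar]
    exact fun e => hcd' (σ.injective e)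
  rw [S.sym c d hcd hcd' t, h, hC.bar, hC.bar, S.sym (σ c) (σ d) h1 h2, hC.swap_eq c, hC.swap_eq d]
  congr 1
  have h3 := hC.ne c
  have h4 := hC.ne d
  rcases ep_cases (K := K) c with e1 | e1 <;> rcases ep_cases (K := K) d with e2 | e2 <;>
    rcases ep_cases (K := K) (σ c) with e3 | e3 <;> rcases ep_cases (K := K) (σ d) with e4 | e4 <;>
    rw [e1, e2, e3, e4] <;> field_simp

end CD

end Cfsg.Agent.Helper7.Cd
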