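import Mathlib
import Cfsg.Agent.Helper7.CdE

set_option autoImplicit false
set_option linter.unusedSectionVars false
set_option linter.unusedVariables false

/-!
# The action of the elements `w_ab(v)` on all root elements: the uniform statements
-/

namespace Cfsg.Agent.Helper7.Cd

variable {m : ℕ} {K : Type*} [Field K] {Γ : Type*} [Group Γ] (S : CD m K Γ)

theorem idx_cases4 (a b c : Fin m ⊕ Fin m) : c = a ∨ c = b ∨ c = a.swap ∨ c = b.swap ∨
    (c ≠ a ∧ c ≠ b ∧ c ≠ a.swap ∧ c ≠ b.swap) := by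
  by_cases h1 : c = a
  · exact Or.inl h1
  by_cases h2 : c = b
  · exact Or.inr (Or.inl h2)
  by_cases h3 : c = a.swap
  · exact Or.inr (Or.inr (Or.inl h3))
  by_cases h4 : c = b.swap
  · exact Or.inr (Or.inr (Or.inr (Or.inl h4)))
  exact Or.inr (Or.inr (Or.inr (Or.inr ⟨h1, h2, h3, h4⟩)))

theorem idx_cases2 (a c : Fin m ⊕ Fin m) : c = a ∨ c = a.swap ∨ (c ≠ a ∧ c ≠ a.swap) := by
  by_cases h1 : c = a
  · exact Or.inl h1
  by_cases h3 : c = a.swap
  · exact Or.inr (Or.inl h3)
  exact Or.inr (Or.inr ⟨h1, h3⟩)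

section symm

variable {a b : Fin m ⊕ Fin m} (hab : a ≠ b) (hab' : a ≠ b.swap)

include hab hab' in
theorem sgS_symm_eq : sgS b.swap a.swap = sgS a b := by
  have hba' : b ≠ a.swap := fun e => hab' (by rw [e, Sum.swap_swap])
  have h1 : b.swap ≠ a.swap := swap_ne_swap hab.symm
  have h2 : b.swap ≠ a.swap.swap := by rw [Sum.swap_swap]; exact fun e => hab' e.symm
  apply Equiv.ext
  intro c
  rcases idx_cases4 a b c with rfl | rfl | rfl | rfl | ⟨h3, h4, h5, h6⟩
  · have := sgS_b' h1 h2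
    rw [Sum.swap_swap, Sum.swap_swap] at this
    rw [this, sgS_a hab hab']
  · have := sgS_a' h1 h2
    rw [Sum.swap_swap, Sum.swap_swap] at this
    rw [this, sgS_b hab hab']
  · rw [sgS_b h1 h2, sgS_a' hab hab']
  · rw [sgS_a h1 h2, sgS_b' hab hab']
  · rw [sgS_out h3 h4 h5 h6, sgS_out h6 h5 (by rw [Sum.swap_swap]; exact h4)
      (by rw [Sum.swap_swap]; exact h3)]

include hab hab' in
theorem muS_symm_eq {v : K} (hv : v ≠ 0) :
    muS b.swap a.swap (-(ep K a * ep K b) * v) = muS a b v := by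
  have hba' : b ≠ a.swap := fun e => hab' (by rw [e, Sum.swap_swap])
  have h1 : b.swap ≠ a.swap := swap_ne_swap hab.symm
  have h2 : b.swap ≠ a.swap.swap := by rw [Sum.swap_swap]; exact fun e => hab' e.symm
  have hδ := ep_mul_sq (K := K) a b
  have hδi := ep_mul_inv (K := K) a b
  funext c
  rcases idx_cases4 a b c with rfl | rfl | rfl | rfl | ⟨h3, h4, h5, h6⟩
  · have := muS_b' (K := K) h1 h2 (-(ep K c * ep K b) * v)
    rw [Sum.swap_swap, ep_swap, ep_swap] at this
    rw [this, muS_a]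
    have e1 : -(ep K c * ep K b) * v = -((ep K c * ep K b) * v) := by ring
    rw [e1, inv_neg, mul_inv, hδi]
    linear_combination (-v⁻¹) * hδ
  · have := muS_a' (K := K) (a := c.swap) (b := a.swap) h2 (-(ep K a * ep K c) * v)
    rw [Sum.swap_swap, ep_swap, ep_swap] at this
    rw [this, muS_b hab]
    linear_combination v * hδ
  · rw [muS_b h1, muS_a' hab']
    ring
  · rw [muS_a, muS_b' hab hab']
    have e1 : -(ep K a * ep K b) * v = -((ep K a * ep K b) * v) := by ring
    rw [e1, inv_neg, mul_inv, hδi]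
    ring
  · rw [muS_out h3 h4 h5 h6, muS_out h6 h5 (by rw [Sum.swap_swap]; exact h4)
      (by rw [Sum.swap_swap]; exact h3)]

end symm

namespace CD

section wshort

variable {a b : Fin m ⊕ Fin m} (hab : a ≠ b) (hab' : a ≠ b.swap) {v : K} (hv : v ≠ 0)

include hab hab' hv in
/-- the action of `w_ab(v)` on `x_ad`. -/
theorem w_conj_short_A {d : Fin m ⊕ Fin m} (had : a ≠ d) :
    S.CF (S.w a b v) (sgS a b) (muS a b v) a d := by
  have hba' : b ≠ a.swap := fun e => hab' (by rw [e, Sum.swap_swap])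
  have hδi := ep_mul_inv (K := K) a b
  intro t
  rcases idx_cases4 a b d with rfl | rfl | rfl | rfl | ⟨h3, h4, h5, h6⟩
  · exact absurd rfl had
  · rw [S.w_conj_alpha hab hab' hv, sgS_a hab hab', sgS_b hab hab', muS_a, muS_b hab]
  · rw [S.w_conj_L2 hab hab' hv, sgS_a hab hab', sgS_a' hab hab', muS_a, muS_a' hab']
    congr 1
    rw [inv_neg, mul_inv, hδi]
    ring
  · rw [S.w_conj_beta hab hab' hv, sgS_a hab hab', sgS_b' hab hab', muS_a, muS_b' hab hab',
      S.sym' hab hab']
    congr 1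
    rw [mul_inv, hδi, inv_inv]
    field_simp
  · rw [S.w_conj_S2a hab hab' hv h3 h4 h5 h6, sgS_a hab hab', sgS_out h3 h4 h5 h6, muS_a,
      muS_out h3 h4 h5 h6, inv_one, mul_one]

include hab hab' hv in
/-- the action of `w_ab(v)` on `x_bd`. -/
theorem w_conj_short_B {d : Fin m ⊕ Fin m} (hbd : b ≠ d) :
    S.CF (S.w a b v) (sgS a b) (muS a b v) b d := by
  have hba' : b ≠ a.swap := fun e => hab' (by rw [e, Sum.swap_swap])
  have hδi := ep_mul_inv (K := K) a b
  have hδ := ep_mul_sq (K := K) a b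
  intro t
  rcases idx_cases4 a b d with rfl | rfl | rfl | rfl | ⟨h3, h4, h5, h6⟩
  · rw [S.w_conj_alpha' hab hab' hv, sgS_a hab hab', sgS_b hab hab', muS_a, muS_b hab]
    congr 1
    rw [inv_neg, inv_inv]
    ring
  · exact absurd rfl hbd
  · rw [S.sym' hab.symm hba', S.w_conj_beta hab hab' hv, sgS_b hab hab', sgS_a' hab hab',
      muS_b hab, muS_a' hab']
    congr 1
    rw [inv_neg, mul_inv, hδi]
    field_simp
  · rw [S.w_conj_L3 hab hab' hv, sgS_b hab hab', sgS_b' hab hab', muS_b hab, muS_b' hab hab']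
    congr 1
    rw [mul_inv, hδi, inv_inv]
    ring
  · rw [S.w_conj_S2b hab hab' hv h3 h4 h5 h6, sgS_b hab hab', sgS_out h3 h4 h5 h6, muS_b hab,
      muS_out h3 h4 h5 h6, inv_one, mul_one]

include hab hab' hv in
/-- **the action of `w_ab(v)`, for a short root, on the root elements.** -/
theorem w_conj_short {c d : Fin m ⊕ Fin m} (hcd : c ≠ d) :
    S.CF (S.w a b v) (sgS a b) (muS a b v) c d := by
  have hba' : b ≠ a.swap := fun e => hab' (by rw [e, Sum.swap_swap])
  have h1 : b.swap ≠ a.swap := swap_ne_swap hab.symm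
  have h2 : b.swap ≠ a.swap.swap := by rw [Sum.swap_swap]; exact fun e => hab' e.symm
  have hv' : -(ep K a * ep K b) * v ≠ 0 :=
    mul_ne_zero (neg_ne_zero.mpr (mul_ne_zero (ep_ne_zero a) (ep_ne_zero b))) hv
  -- the four cases where `c` is one of the indices
  have key : ∀ c d : Fin m ⊕ Fin m, c ≠ d → (c = a ∨ c = b ∨ c = a.swap ∨ c = b.swap) →
      S.CF (S.w a b v) (sgS a b) (muS a b v) c d := by
    intro c d hcd hc
    rcases hc with rfl | rfl | rfl | rfl
    · exact S.w_conj_short_A hab hab' hv hcd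
    · exact S.w_conj_short_B hab hab' hv hcd
    · have := S.w_conj_short_B h1 h2 hv' hcd
      rw [← S.w_sym hab hab' hv, sgS_symm_eq hab hab', muS_symm_eq hab hab' hv] at this
      exact this
    · have := S.w_conj_short_A h1 h2 hv' hcd
      rw [← S.w_sym hab hab' hv, sgS_symm_eq hab hab', muS_symm_eq hab hab' hv] at this
      exact this
  rcases idx_cases4 a b c with hc | hc | hc | hc | ⟨h3, h4, h5, h6⟩
  · exact key c d hcd (Or.inl hc)
  · exact key c d hcd (Or.inr (Or.inl hc))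
  · exact key c d hcd (Or.inr (Or.inr (Or.inl hc)))
  · exact key c d hcd (Or.inr (Or.inr (Or.inr hc)))
  · rcases idx_cases4 a b d with hd | hd | hd | hd | ⟨h7, h8, h9, h10⟩
    · refine S.CF_sym (compatS hab hab' hv) hcd (fun e => h5 (by rw [e, hd])) ?_
      exact key _ _ (swap_ne_swap hcd.symm) (Or.inr (Or.inr (Or.inl (by rw [hd]))))
    · refine S.CF_sym (compatS hab hab' hv) hcd (fun e => h6 (by rw [e, hd])) ?_
      exact key _ _ (swap_ne_swap hcd.symm) (Or.inr (Or.inr (Or.inr (by rw [hd]))))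
    · refine S.CF_sym (compatS hab hab' hv) hcd (fun e => h3 (by rw [e, hd, Sum.swap_swap])) ?_
      exact key _ _ (swap_ne_swap hcd.symm) (Or.inl (by rw [hd, Sum.swap_swap]))
    · refine S.CF_sym (compatS hab hab' hv) hcd (fun e => h4 (by rw [e, hd, Sum.swap_swap])) ?_
      exact key _ _ (swap_ne_swap hcd.symm) (Or.inr (Or.inl (by rw [hd, Sum.swap_swap])))
    · intro t
      rw [S.w_conj_out hab hab' hcd h3 h4 h5 h6 h7 h8 h9 h10, sgS_out h3 h4 h5 h6,
        sgS_out h7 h8 h9 h10, muS_out h3 h4 h5 h6, muS_out h7 h8 h9 h10, inv_one, mul_one, one_mul]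

end wshort

section wlong

variable {a b : Fin m ⊕ Fin m} (hab : a ≠ b) (hab' : a ≠ b.swap) {v : K} (hv : v ≠ 0)

include hab hab' hv in
/-- **the action of `w_aā(v)` on the root elements.** -/
theorem w_conj_long {c d : Fin m ⊕ Fin m} (hcd : c ≠ d) :
    S.CF (S.w a a.swap v) (sgL a) (muL a v) c d := by
  have key : ∀ c d : Fin m ⊕ Fin m, c ≠ d → (c = a ∨ c = a.swap) →
      S.CF (S.w a a.swap v) (sgL a) (muL a v) c d := by
    intro c d hcd hc t
    rcases hc with rfl | rfl
    · rcases idx_cases2 c d with rfl | rfl | ⟨h1, h2⟩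
      · exact absurd rfl hcd
      · rw [S.wl_conj_L1 hv hab hab', sgL_a, sgL_a', muL_a, muL_a']
      · rw [S.wl_conj_S1 hv h1 h2, sgL_a, sgL_out h1 h2, muL_a, muL_out h1 h2, inv_one, mul_one]
    · rcases idx_cases2 a d with rfl | rfl | ⟨h1, h2⟩
      · rw [S.wl_conj_L2 hv hab hab', sgL_a, sgL_a', muL_a, muL_a']
        congr 1
        rw [inv_neg, inv_inv]
        ring
      · exact absurd rfl hcd
      · rw [S.wl_conj_S2 hv h1 h2, sgL_a', sgL_out h1 h2, muL_a', muL_out h1 h2, inv_one, mul_one]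
  rcases idx_cases2 a c with hc | hc | ⟨h3, h4⟩
  · exact key c d hcd (Or.inl hc)
  · exact key c d hcd (Or.inr hc)
  · rcases idx_cases2 a d with hd | hd | ⟨h5, h6⟩
    · refine S.CF_sym (compatL hv) hcd (fun e => h4 (by rw [e, hd])) ?_
      exact key _ _ (swap_ne_swap hcd.symm) (Or.inr (by rw [hd]))
    · refine S.CF_sym (compatL hv) hcd (fun e => h3 (by rw [e, hd, Sum.swap_swap])) ?_
      exact key _ _ (swap_ne_swap hcd.symm) (Or.inl (by rw [hd, Sum.swap_swap]))
    · intro t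
      rw [S.wl_conj_out hcd h3 h4 h5 h6, sgL_out h3 h4, sgL_out h5 h6, muL_out h3 h4, muL_out h5 h6,
        inv_one, mul_one, one_mul]

end wlong

end CD

end Cfsg.Agent.Helper7.Cd
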