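import Mathlib
import Cfsg.Agent.Helper7.CdF

set_option autoImplicit false
set_option linter.unusedSectionVars false
set_option linter.unusedVariables false

/-!
# Elements acting monomially on the root elements, and the subgroup generated by the `w_ab(u)`
-/

namespace Cfsg.Agent.Helper7.Cd

variable {m : ℕ} {K : Type*} [Field K] {Γ : Type*} [Group Γ] (S : CD m K Γ)

theorem compat_one : Compat (1 : Equiv.Perm (Fin m ⊕ Fin m)) (fun _ => (1 : K)) := by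
  refine ⟨fun c => rfl, fun c => one_ne_zero, fun c => ?_⟩
  rw [Equiv.Perm.one_apply, ep_mul_self, mul_one]

theorem Compat.mul_compat {σ σ' : Equiv.Perm (Fin m ⊕ Fin m)} {μ μ' : Fin m ⊕ Fin m → K}
    (h : Compat σ μ) (h' : Compat σ' μ') : Compat (σ * σ') (fun c => μ (σ' c) * μ' c) := by
  refine ⟨fun c => ?_, fun c => mul_ne_zero (h.ne _) (h'.ne _), fun c => ?_⟩
  · rw [Equiv.Perm.mul_apply, Equiv.Perm.mul_apply, h'.bar, h.bar]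
  · have h1 := h.mul (σ' c)
    have h2 := h'.mul c
    have h3 := ep_mul_self (K := K) (σ' c)
    rw [Equiv.Perm.mul_apply]
    change μ (σ' c) * μ' c * (μ (σ' c.swap) * μ' c.swap) = _
    rw [h'.bar]
    calc μ (σ' c) * μ' c * (μ (σ' c).swap * μ' c.swap)
        = (μ (σ' c) * μ (σ' c).swap) * (μ' c * μ' c.swap) := by ring
      _ = ep K c * ep K (σ (σ' c)) * (ep K (σ' c) * ep K (σ' c)) := by rw [h1, h2]; ring
      _ = _ := by rw [h3, mul_one]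

theorem Compat.inv_compat {σ : Equiv.Perm (Fin m ⊕ Fin m)} {μ : Fin m ⊕ Fin m → K}
    (h : Compat σ μ) : Compat σ⁻¹ (fun c => (μ (σ⁻¹ c))⁻¹) := by
  have hσ : ∀ c, σ (σ⁻¹ c) = c := fun c => by rw [Equiv.Perm.inv_def, Equiv.apply_symm_apply]
  have hbar : ∀ c, σ⁻¹ c.swap = (σ⁻¹ c).swap := by
    intro c
    apply σ.injective
    rw [hσ, h.bar, hσ]
  refine ⟨hbar, fun c => inv_ne_zero (h.ne _), fun c => ?_⟩
  have h1 := h.mul (σ⁻¹ c)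
  rw [hσ] at h1
  change (μ (σ⁻¹ c))⁻¹ * (μ (σ⁻¹ c.swap))⁻¹ = _
  rw [hbar, ← mul_inv, h1, mul_inv, ep_inv, ep_inv, mul_comm]

namespace CD

/-- `g` acts on the root elements through the permutation `σ` with the coefficients `μ`. -/
def Mon (g : Γ) (σ : Equiv.Perm (Fin m ⊕ Fin m)) (μ : Fin m ⊕ Fin m → K) : Prop :=
  Compat σ μ ∧ ∀ c d, c ≠ d → S.CF g σ μ c d

theorem mon_one : S.Mon 1 1 (fun _ => 1) := by
  refine ⟨compat_one, fun c d hcd t => ?_⟩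
  rw [map_one, MulAut.one_apply, Equiv.Perm.one_apply, Equiv.Perm.one_apply, inv_one, mul_one, one_mul]

theorem Mon.mul {g g' : Γ} {σ σ' : Equiv.Perm (Fin m ⊕ Fin m)} {μ μ' : Fin m ⊕ Fin m → K}
    (h : S.Mon g σ μ) (h' : S.Mon g' σ' μ') :
    S.Mon (g * g') (σ * σ') (fun c => μ (σ' c) * μ' c) := by
  refine ⟨h.1.mul_compat h'.1, fun c d hcd t => ?_⟩
  rw [map_mul, MulAut.mul_apply, h'.2 c d hcd, h.2 _ _ (fun e => hcd (σ'.injective e)),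
    Equiv.Perm.mul_apply, Equiv.Perm.mul_apply]
  congr 1
  rw [mul_inv]
  ring

theorem Mon.inv {g : Γ} {σ : Equiv.Perm (Fin m ⊕ Fin m)} {μ : Fin m ⊕ Fin m → K} (h : S.Mon g σ μ) :
    S.Mon g⁻¹ σ⁻¹ (fun c => (μ (σ⁻¹ c))⁻¹) := by
  refine ⟨h.1.inv_compat, fun i j hij c => ?_⟩
  have hij' : σ⁻¹ i ≠ σ⁻¹ j := fun e => hij (σ⁻¹.injective e)
  have e := h.2 (σ⁻¹ i) (σ⁻¹ j) hij' ((μ (σ⁻¹ i))⁻¹ * ((μ (σ⁻¹ j))⁻¹)⁻¹ * c)
  have hσi : σ (σ⁻¹ i) = i := by rw [Equiv.Perm.inv_def, Equiv.apply_symm_apply]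
  have hσj : σ (σ⁻¹ j) = j := by rw [Equiv.Perm.inv_def, Equiv.apply_symm_apply]
  rw [hσi, hσj] at e
  have e2 : μ (σ⁻¹ i) * (μ (σ⁻¹ j))⁻¹ * ((μ (σ⁻¹ i))⁻¹ * ((μ (σ⁻¹ j))⁻¹)⁻¹ * c) = c := by
    have h1 := h.1.ne (σ⁻¹ i)
    have h2 := h.1.ne (σ⁻¹ j)
    field_simp
  rw [e2] at e
  rw [← e, map_inv, MulAut.inv_apply, MulEquiv.symm_apply_apply]

theorem Mon.congr {g : Γ} {σ σ' : Equiv.Perm (Fin m ⊕ Fin m)} {μ μ' : Fin m ⊕ Fin m → K}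
    (h : S.Mon g σ μ) (hσ : σ = σ') (hμ : ∀ c, μ c = μ' c) : S.Mon g σ' μ' := by
  have : μ = μ' := funext hμ
  rw [← this, ← hσ]
  exact h

theorem mon_w_short {a b : Fin m ⊕ Fin m} (hab : a ≠ b) (hab' : a ≠ b.swap) {v : K} (hv : v ≠ 0) :
    S.Mon (S.w a b v) (sgS a b) (muS a b v) :=
  ⟨compatS hab hab' hv, fun c d hcd => S.w_conj_short hab hab' hv hcd⟩

theorem exists_other (hm : 2 ≤ m) (a : Fin m ⊕ Fin m) : ∃ b : Fin m ⊕ Fin m, a ≠ b ∧ a ≠ b.swap := by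
  have h0 : 0 < m := by omega
  have h1 : 1 < m := by omega
  rcases a with i | i
  · by_cases hi : i = ⟨0, h0⟩
    · refine ⟨Sum.inl ⟨1, h1⟩, ?_, ?_⟩
      · rw [hi]
        intro e
        have := congrArg Fin.val (Sum.inl.inj e)
        simp at this
      · simp
    · refine ⟨Sum.inl ⟨0, h0⟩, ?_, ?_⟩
      · intro e
        exact hi (Sum.inl.inj e)
      · simp
  · by_cases hi : i = ⟨0, h0⟩
    · refine ⟨Sum.inr ⟨1, h1⟩, ?_, ?_⟩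
      · rw [hi]
        intro e
        have := congrArg Fin.val (Sum.inr.inj e)
        simp at this
      · simp
    · refine ⟨Sum.inr ⟨0, h0⟩, ?_, ?_⟩
      · intro e
        exact hi (Sum.inr.inj e)
      · simp

theorem mon_w_long (hm : 2 ≤ m) {a : Fin m ⊕ Fin m} {v : K} (hv : v ≠ 0) :
    S.Mon (S.w a a.swap v) (sgL a) (muL a v) := by
  obtain ⟨b, hab, hab'⟩ := exists_other hm a
  exact ⟨compatL hv, fun c d hcd => S.w_conj_long hab hab' hv hcd⟩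

/-- the monomial action of `w_kl(u)`, in both cases. -/
theorem mon_w (hm : 2 ≤ m) {k l : Fin m ⊕ Fin m} (hkl : k ≠ l) {u : K} (hu : u ≠ 0) :
    ∃ (σ : Equiv.Perm (Fin m ⊕ Fin m)) (μ : Fin m ⊕ Fin m → K), S.Mon (S.w k l u) σ μ ∧ σ k = l ∧
      σ l = k ∧ μ k = -u⁻¹ ∧ μ l = u := by
  by_cases h : k = l.swap
  · have hl : l = k.swap := by rw [h, Sum.swap_swap]
    subst hl
    exact ⟨_, _, S.mon_w_long hm hu, sgL_a, sgL_a', muL_a u, muL_a' u⟩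
  · exact ⟨_, _, S.mon_w_short hkl h hu, sgS_a hkl h, sgS_b hkl h, muS_a u, muS_b hkl u⟩

/-- the subgroup generated by the elements `w_ab(u)`. -/
def Wt : Subgroup Γ :=
  Subgroup.closure {g | ∃ (k l : Fin m ⊕ Fin m) (u : K), k ≠ l ∧ u ≠ 0 ∧ g = S.w k l u}

theorem w_mem_Wt {k l : Fin m ⊕ Fin m} (hkl : k ≠ l) {u : K} (hu : u ≠ 0) : S.w k l u ∈ S.Wt :=
  Subgroup.subset_closure ⟨k, l, u, hkl, hu, rfl⟩

theorem exists_mon_of_mem_Wt (hm : 2 ≤ m) {g : Γ} (hg : g ∈ S.Wt) :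
    ∃ (σ : Equiv.Perm (Fin m ⊕ Fin m)) (μ : Fin m ⊕ Fin m → K), S.Mon g σ μ := by
  unfold Wt at hg
  induction hg using Subgroup.closure_induction with
  | mem g hg =>
    obtain ⟨k, l, u, hkl, hu, rfl⟩ := hg
    obtain ⟨σ, μ, h, _⟩ := S.mon_w hm hkl hu
    exact ⟨σ, μ, h⟩
  | one => exact ⟨_, _, S.mon_one⟩
  | mul a b _ _ iha ihb =>
    obtain ⟨σ, c, h⟩ := iha
    obtain ⟨σ', c', h'⟩ := ihb
    exact ⟨_, _, h.mul S h'⟩
  | inv a _ ih =>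
    obtain ⟨σ, c, h⟩ := ih
    exact ⟨_, _, h.inv S⟩

/-- the action of a monomial element on the `w_kl(u)`. -/
theorem Mon.conj_w {g : Γ} {σ : Equiv.Perm (Fin m ⊕ Fin m)} {μ : Fin m ⊕ Fin m → K} (h : S.Mon g σ μ)
    {k l : Fin m ⊕ Fin m} (hkl : k ≠ l) {u : K} (hu : u ≠ 0) :
    MulAut.conj g (S.w k l u) = S.w (σ k) (σ l) (μ k * (μ l)⁻¹ * u) := by
  unfold w
  rw [map_mul, map_mul, h.2 k l hkl, h.2 l k hkl.symm]
  congr 3
  have h1 := h.1.ne k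
  have h2 := h.1.ne l
  field_simp

/-- the action of a monomial element on the `h_kl(u)`. -/
theorem Mon.conj_h {g : Γ} {σ : Equiv.Perm (Fin m ⊕ Fin m)} {μ : Fin m ⊕ Fin m → K} (h : S.Mon g σ μ)
    {k l : Fin m ⊕ Fin m} (hkl : k ≠ l) {u : K} (hu : u ≠ 0) :
    MulAut.conj g (S.h k l u) =
      S.h (σ k) (σ l) (μ k * (μ l)⁻¹ * u) * (S.h (σ k) (σ l) (μ k * (μ l)⁻¹))⁻¹ := by
  have hσ : σ k ≠ σ l := fun e => hkl (σ.injective e)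
  unfold CD.h
  rw [map_mul, h.conj_w S hkl hu, h.conj_w S hkl (neg_ne_zero.mpr one_ne_zero), mul_neg, mul_one,
    ← S.w_inv hσ (μ k * (μ l)⁻¹)]
  group

/-- `w_lk(s) = w_kl(-s⁻¹)`. -/
theorem w_swap (hm : 2 ≤ m) {k l : Fin m ⊕ Fin m} (hkl : k ≠ l) {s : K} (hs : s ≠ 0) :
    S.w l k s = S.w k l (-s⁻¹) := by
  have hu : -s⁻¹ ≠ 0 := neg_ne_zero.mpr (inv_ne_zero hs)
  obtain ⟨σ, μ, hM, h1, h2, h3, h4⟩ := S.mon_w hm hkl hu
  have e := hM.conj_w S hkl hu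
  rw [MulAut.conj_apply, mul_inv_cancel_right, h1, h2, h3, h4] at e
  rw [e]
  congr 1
  field_simp

theorem Mon.mul_x {g : Γ} {σ : Equiv.Perm (Fin m ⊕ Fin m)} {μ : Fin m ⊕ Fin m → K} (h : S.Mon g σ μ)
    {i j : Fin m ⊕ Fin m} (hij : i ≠ j) (c : K) :
    g * S.x i j c = S.x (σ i) (σ j) (μ i * (μ j)⁻¹ * c) * g := by
  rw [← h.2 i j hij c, MulAut.conj_apply, inv_mul_cancel_right]

theorem Mon.x_mul {g : Γ} {σ : Equiv.Perm (Fin m ⊕ Fin m)} {μ : Fin m ⊕ Fin m → K} (h : S.Mon g σ μ)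
    {i j : Fin m ⊕ Fin m} (hij : i ≠ j) (c : K) :
    ∃ c' : K, S.x i j c * g = g * S.x (σ⁻¹ i) (σ⁻¹ j) c' := by
  have e := (h.inv S).2 i j hij c
  refine ⟨(fun i => (μ (σ⁻¹ i))⁻¹) i * ((fun i => (μ (σ⁻¹ i))⁻¹) j)⁻¹ * c, ?_⟩
  rw [← e, MulAut.conj_apply, inv_inv, mul_assoc, mul_inv_cancel_left]

/-- `x_qp(s) = x_pq(s⁻¹) w_pq(-s⁻¹) x_pq(s⁻¹)`. -/
theorem x_neg_eq {p q : Fin m ⊕ Fin m} (hpq : p ≠ q) {s : K} (hs : s ≠ 0) :
    S.x q p s = S.x p q s⁻¹ * S.w p q (-s⁻¹) * S.x p q s⁻¹ := by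
  unfold w
  have e1 : -(-s⁻¹)⁻¹ = s := by rw [inv_neg, inv_inv, neg_neg]
  rw [e1]
  have e2 : S.x p q s⁻¹ * S.x p q (-s⁻¹) = 1 := by
    rw [S.add p q hpq, add_neg_cancel, S.x_zero hpq]
  have e3 : S.x p q (-s⁻¹) * S.x p q s⁻¹ = 1 := by
    rw [S.add p q hpq, neg_add_cancel, S.x_zero hpq]
  calc S.x q p s = (S.x p q s⁻¹ * S.x p q (-s⁻¹)) * S.x q p s * (S.x p q (-s⁻¹) * S.x p q s⁻¹) := by
        rw [e2, e3, one_mul, mul_one]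
    _ = _ := by simp only [mul_assoc]

end CD

end Cfsg.Agent.Helper7.Cd
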