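import Mathlib
import Cfsg.Agent.Helper7.SlE
import Cfsg.Agent.Helper7.CdG

set_option autoImplicit false
set_option linter.unusedSectionVars false
set_option linter.unusedVariables false

/-!
# The subgroup generated by the positive root elements of a group with the Steinberg relations of
type `C`: the product of the parts of the roots `e_i + e_j` and `e_i - e_j`
-/

namespace Cfsg.Agent.Helper7.Cd

open Cfsg.Agent.Helper7.Sl

variable {m : ℕ} {K : Type*} [Field K] {Γ : Type*} [Group Γ] (S : CD m K Γ)

/-- the order of the indices: `1 < 2 < ... < m < m̄ < ... < 2̄ < 1̄`. -/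
def rk : Fin m ⊕ Fin m → ℕ
  | Sum.inl i => i.val
  | Sum.inr i => 2 * m - 1 - i.val

theorem rk_inl (i : Fin m) : rk (Sum.inl i : Fin m ⊕ Fin m) = i.val := rfl

theorem rk_inr (i : Fin m) : rk (Sum.inr i : Fin m ⊕ Fin m) = 2 * m - 1 - i.val := rfl

theorem rk_injective : Function.Injective (rk (m := m)) := by
  intro a b h
  rcases a with i | i <;> rcases b with j | j <;> simp only [rk_inl, rk_inr] at h
  · exact congrArg Sum.inl (Fin.ext h)
  · have := i.isLt; have := j.isLt; omega
  · have := i.isLt; have := j.isLt; omega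
  · have := i.isLt; have := j.isLt
    exact congrArg Sum.inr (Fin.ext (by omega))

theorem rk_swap (a : Fin m ⊕ Fin m) : rk a.swap = 2 * m - 1 - rk a := by
  rcases a with i | i
  · rfl
  · have := i.isLt
    simp only [Sum.swap_inr, rk_inl, rk_inr]
    omega

theorem rk_lt (a : Fin m ⊕ Fin m) : rk a < 2 * m := by
  rcases a with i | i
  · have := i.isLt
    simp only [rk_inl]
    omega
  · have := i.isLt
    simp only [rk_inr]
    omega

namespace CD

/-- the subgroup generated by the root elements of a set of roots. -/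
def XR (R : Fin m ⊕ Fin m → Fin m ⊕ Fin m → Prop) : Subgroup Γ :=
  Subgroup.closure {g | ∃ (a b : Fin m ⊕ Fin m) (t : K), a ≠ b ∧ R a b ∧ g = S.x a b t}

theorem x_mem_XR {R : Fin m ⊕ Fin m → Fin m ⊕ Fin m → Prop} {a b : Fin m ⊕ Fin m} (hab : a ≠ b)
    (h : R a b) (t : K) : S.x a b t ∈ S.XR R :=
  Subgroup.subset_closure ⟨a, b, t, hab, h, rfl⟩

theorem XR_mono {R R' : Fin m ⊕ Fin m → Fin m ⊕ Fin m → Prop} (h : ∀ a b, R a b → R' a b) :
    S.XR R ≤ S.XR R' := by
  apply Subgroup.closure_mono
  rintro g ⟨a, b, t, hab, hR, rfl⟩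
  exact ⟨a, b, t, hab, h a b hR, rfl⟩

/-- induction by multiplication on the left with root elements. -/
theorem XR_induction_left {R : Fin m ⊕ Fin m → Fin m ⊕ Fin m → Prop} {P : Γ → Prop} (h1 : P 1)
    (hmul : ∀ (a b : Fin m ⊕ Fin m) (t : K) (g : Γ), a ≠ b → R a b → g ∈ S.XR R → P g →
      P (S.x a b t * g)) {g : Γ} (hg : g ∈ S.XR R) : P g := by
  unfold XR at hg
  induction hg using Subgroup.closure_induction_left with
  | one => exact h1
  | mul_left a ha b hb ih =>
    obtain ⟨i, j, t, hij, hR, rfl⟩ := ha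
    exact hmul i j t b hij hR hb ih
  | inv_mul_cancel a ha b hb ih =>
    obtain ⟨i, j, t, hij, hR, rfl⟩ := ha
    rw [S.x_inv hij]
    exact hmul i j (-t) b hij hR hb ih

/-- induction by multiplication on the right with root elements. -/
theorem XR_induction_right {R : Fin m ⊕ Fin m → Fin m ⊕ Fin m → Prop} {P : Γ → Prop} (h1 : P 1)
    (hmul : ∀ (a b : Fin m ⊕ Fin m) (t : K) (g : Γ), a ≠ b → R a b → g ∈ S.XR R → P g →
      P (g * S.x a b t)) {g : Γ} (hg : g ∈ S.XR R) : P g := by
  unfold XR at hg
  induction hg using Subgroup.closure_induction_right with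
  | one => exact h1
  | mul_right a ha b hb ih =>
    obtain ⟨i, j, t, hij, hR, rfl⟩ := hb
    exact hmul i j t a hij hR ha ih
  | mul_inv_cancel a ha b hb ih =>
    obtain ⟨i, j, t, hij, hR, rfl⟩ := hb
    rw [S.x_inv hij]
    exact hmul i j (-t) a hij hR ha ih

/-- the root elements of the roots `e_i - e_j` satisfy the Steinberg relations of type `A`. -/
def toSD : SD m K Γ where
  x i j t := S.x (Sum.inl i) (Sum.inl j) t
  add i j hij t u := S.add _ _ (fun e => hij (Sum.inl.inj e)) t u
  comm i j k l hij hkl hil hjk t u :=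
    S.comm _ _ _ _ (fun e => hij (Sum.inl.inj e)) (fun e => hkl (Sum.inl.inj e))
      (fun e => hjk (Sum.inl.inj e)) (fun e => hil (Sum.inl.inj e)) (by simp) (by simp) t u
  comm3 i j l hij hjl hil t u :=
    S.c1 _ _ _ (fun e => hij (Sum.inl.inj e)) (by simp) (fun e => hjl (Sum.inl.inj e)) (by simp)
      (fun e => hil (Sum.inl.inj e)) (by simp) t u

theorem toSD_x (i j : Fin m) (t : K) : S.toSD.x i j t = S.x (Sum.inl i) (Sum.inl j) t := rfl

/-- the subgroup generated by the positive root elements. -/
def Ut : Subgroup Γ := S.XR (fun a b => rk a < rk b)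

/-- the subgroup generated by the root elements of the roots `e_i + e_j`. -/
def Vt : Subgroup Γ := S.XR (fun a b => a.isLeft = true ∧ b.isRight = true)

theorem xV_mem (i j : Fin m) (t : K) : S.x (Sum.inl i) (Sum.inr j) t ∈ S.Vt :=
  S.x_mem_XR (by simp) ⟨rfl, rfl⟩ t

theorem Vt_le_Ut : S.Vt ≤ S.Ut := by
  apply S.XR_mono
  intro a b ⟨ha, hb⟩
  rcases a with i | i
  · rcases b with j | j
    · simp at hb
    · have := i.isLt
      have := j.isLt
      simp only [rk_inl, rk_inr]
      omega
  · simp at ha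

theorem UtA_le_Ut : S.toSD.Ut ≤ S.Ut := by
  unfold SD.Ut SD.XR
  rw [Subgroup.closure_le]
  rintro _ ⟨i, j, t, hij, hlt, rfl⟩
  exact S.x_mem_XR (fun e => hij (Sum.inl.inj e)) (by simp only [rk_inl]; exact hlt) t

/-- the root elements of the roots `e_i + e_j` commute. -/
theorem Vt_comm {u v : Γ} (hu : u ∈ S.Vt) (hv : v ∈ S.Vt) : u * v = v * u := by
  have key : ∀ (a b : Fin m ⊕ Fin m) (t : K), a ≠ b → a.isLeft = true ∧ b.isRight = true →
      ∀ v ∈ S.Vt, S.x a b t * v = v * S.x a b t := by
    intro a b t hab ⟨ha, hb⟩ v hv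
    refine S.XR_induction_left (P := fun v => S.x a b t * v = v * S.x a b t) ?_ ?_ hv
    · rw [mul_one, one_mul]
    · rintro c d s g hcd ⟨hc, hd⟩ hg ih
      rcases a with i | i
      · rcases b with j | j
        · simp at hb
        · rcases c with k | k
          · rcases d with l | l
            · simp at hd
            · rw [← mul_assoc, S.comm _ _ _ _ hab hcd (by simp) (by simp) (by simp) (by simp), mul_assoc,
                ih, mul_assoc]
          · simp at hc
      · simp at ha
  refine S.XR_induction_left (P := fun u => u * v = v * u) ?_ ?_ hu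
  · rw [mul_one, one_mul]
  · rintro a b t g hab hR hg ih
    rw [mul_assoc, ih, ← mul_assoc, key a b t hab hR v hv, mul_assoc]

/-- the root elements of the roots `e_i - e_j` normalize the group of the roots `e_i + e_j`. -/
theorem Vt_conj {i j : Fin m} (hij : i ≠ j) (t : K) {v : Γ} (hv : v ∈ S.Vt) :
    MulAut.conj (S.x (Sum.inl i) (Sum.inl j) t) v ∈ S.Vt := by
  have hab : (Sum.inl i : Fin m ⊕ Fin m) ≠ Sum.inl j := fun e => hij (Sum.inl.inj e)
  have hab' : (Sum.inl i : Fin m ⊕ Fin m) ≠ (Sum.inl j : Fin m ⊕ Fin m).swap := by simp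
  refine S.XR_induction_left (P := fun v => MulAut.conj (S.x (Sum.inl i) (Sum.inl j) t) v ∈ S.Vt)
    ?_ ?_ hv
  · rw [map_one]
    exact one_mem _
  · rintro c d s g hcd ⟨hc, hd⟩ hg ih
    rw [map_mul]
    refine mul_mem ?_ ih
    rcases c with k | k
    swap
    · simp at hc
    rcases d with l | l
    · simp at hd
    by_cases hjk : j = k
    · subst hjk
      by_cases hjl : j = l
      · subst hjl
        have := S.cj3 hab hab' t s
        rw [Sum.swap_inl] at this
        rw [this]
        exact mul_mem (mul_mem (S.xV_mem _ _ _) (S.xV_mem _ _ _)) (S.xV_mem _ _ _)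
      · by_cases hil : i = l
        · subst hil
          have := S.cj2 hab hab' t s
          rw [Sum.swap_inl] at this
          rw [this]
          exact mul_mem (S.xV_mem _ _ _) (S.xV_mem _ _ _)
        · rw [S.cj1 hab hab' (by simp) (by simpa using hjl) (by simp) (by simpa using hil)]
          exact mul_mem (S.xV_mem _ _ _) (S.xV_mem _ _ _)
    · by_cases hjl : j = l
      · subst hjl
        have hkj : (Sum.inl k : Fin m ⊕ Fin m) ≠ Sum.inl j := fun e => hjk (Sum.inl.inj e).symm
        have e := S.sym' hkj (by simp) s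
        simp only [Sum.swap_inl] at e
        rw [e]
        by_cases hik : i = k
        · subst hik
          have := S.cj2 hab hab' t (ep K (Sum.inl i : Fin m ⊕ Fin m) * ep K (Sum.inl j : Fin m ⊕ Fin m) * s)
          rw [Sum.swap_inl] at this
          rw [this]
          exact mul_mem (S.xV_mem _ _ _) (S.xV_mem _ _ _)
        · rw [S.cj1 hab hab' (by simp) (by simpa using hjk) (by simp) (by simpa using hik)]
          exact mul_mem (S.xV_mem _ _ _) (S.xV_mem _ _ _)
      · rw [S.cj_comm hab hcd (by simpa using hjk) (by simp) (by simpa using hjl) (by simp)]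
        exact S.xV_mem _ _ _

/-- the normal form of the elements of the positive part. -/
theorem Ut_eq_mul {g : Γ} (hg : g ∈ S.Ut) : ∃ v ∈ S.Vt, ∃ a ∈ S.toSD.Ut, g = v * a := by
  refine S.XR_induction_left (P := fun g => ∃ v ∈ S.Vt, ∃ a ∈ S.toSD.Ut, g = v * a) ?_ ?_ hg
  · exact ⟨1, one_mem _, 1, one_mem _, (mul_one 1).symm⟩
  · rintro c d s g hcd hlt hg ⟨v, hv, a, ha, rfl⟩
    have key : ∀ (i j : Fin m), i < j → ∀ s : K,
        ∃ v' ∈ S.Vt, ∃ a' ∈ S.toSD.Ut, S.x (Sum.inl i) (Sum.inl j) s * (v * a) = v' * a' := by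
      intro i j hij s
      refine ⟨MulAut.conj (S.x (Sum.inl i) (Sum.inl j) s) v, S.Vt_conj (ne_of_lt hij) s hv,
        S.x (Sum.inl i) (Sum.inl j) s * a, mul_mem (S.toSD.x_mem_XR (ne_of_lt hij) hij s) ha, ?_⟩
      rw [MulAut.conj_apply]
      group
    rcases c with i | i
    · rcases d with j | j
      · simp only [rk_inl] at hlt
        exact key i j (Fin.lt_def.mpr hlt) s
      · exact ⟨S.x (Sum.inl i) (Sum.inr j) s * v, mul_mem (S.xV_mem _ _ _) hv, a, ha, by rw [mul_assoc]⟩
    · rcases d with j | j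
      · have := i.isLt
        have := j.isLt
        simp only [rk_inl, rk_inr] at hlt
        omega
      · have h1 := i.isLt
        have h2 := j.isLt
        simp only [rk_inr] at hlt
        have hji : j < i := Fin.lt_def.mpr (by omega)
        have e := S.sym (Sum.inr i) (Sum.inr j) hcd (by simp) s
        rw [Sum.swap_inr, Sum.swap_inr] at e
        rw [e]
        exact key j i hji _

end CD

end Cfsg.Agent.Helper7.Cd
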