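import Mathlib
import Cfsg.Agent.Helper7.CdH

set_option autoImplicit false
set_option linter.unusedSectionVars false
set_option linter.unusedVariables false

/-!
# The matrices of the root elements of the symplectic group, and the injectivity of a homomorphism to
the matrices on the subgroup of the positive root elements
-/

namespace Cfsg.Agent.Helper7.Cd

open Cfsg.Agent.Helper7.Sl Matrix

variable {m : ℕ} {K : Type*} [Field K] {Γ : Type*} [Group Γ] (S : CD m K Γ)

/-- the matrices of the root elements. -/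
def Xm (a b : Fin m ⊕ Fin m) (t : K) : Matrix (Fin m ⊕ Fin m) (Fin m ⊕ Fin m) K :=
  1 + Matrix.single a b t +
    (if b = a.swap then 0 else Matrix.single b.swap a.swap (-(ep K a * ep K b) * t))

theorem Xm_mul_apply (a b : Fin m ⊕ Fin m) (t : K) (M : Matrix (Fin m ⊕ Fin m) (Fin m ⊕ Fin m) K)
    (r c : Fin m ⊕ Fin m) :
    (Xm a b t * M) r c = M r c + (if r = a then t * M b c else 0) +
      (if b = a.swap then 0 else if r = b.swap then -(ep K a * ep K b) * t * M a.swap c else 0) := by
  unfold Xm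
  rw [add_mul, add_mul, one_mul, Matrix.add_apply, Matrix.add_apply]
  congr 1
  · congr 1
    by_cases h : r = a
    · subst h
      rw [if_pos rfl, Matrix.single_mul_apply_same]
    · rw [if_neg h, Matrix.single_mul_apply_of_ne _ _ _ _ _ h]
  · by_cases hb : b = a.swap
    · rw [if_pos hb, if_pos hb, Matrix.zero_mul, Matrix.zero_apply]
    · rw [if_neg hb, if_neg hb]
      by_cases h : r = b.swap
      · subst h
        rw [if_pos rfl, Matrix.single_mul_apply_same]
      · rw [if_neg h, Matrix.single_mul_apply_of_ne _ _ _ _ _ h]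

theorem mul_Xm_apply (a b : Fin m ⊕ Fin m) (t : K) (M : Matrix (Fin m ⊕ Fin m) (Fin m ⊕ Fin m) K)
    (r c : Fin m ⊕ Fin m) :
    (M * Xm a b t) r c = M r c + (if c = b then M r a * t else 0) +
      (if b = a.swap then 0 else if c = a.swap then M r b.swap * (-(ep K a * ep K b) * t) else 0) := by
  unfold Xm
  rw [mul_add, mul_add, mul_one, Matrix.add_apply, Matrix.add_apply]
  congr 1
  · congr 1
    by_cases h : c = b
    · subst h
      rw [if_pos rfl, Matrix.mul_single_apply_same]
    · rw [if_neg h, Matrix.mul_single_apply_of_ne _ _ _ _ _ h]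
  · by_cases hb : b = a.swap
    · rw [if_pos hb, if_pos hb, Matrix.mul_zero, Matrix.zero_apply]
    · rw [if_neg hb, if_neg hb]
      by_cases h : c = a.swap
      · subst h
        rw [if_pos rfl, Matrix.mul_single_apply_same]
      · rw [if_neg h, Matrix.mul_single_apply_of_ne _ _ _ _ _ h]

namespace CD

section phi

variable (φ : Γ →* Matrix (Fin m ⊕ Fin m) (Fin m ⊕ Fin m) K)
  (hφ : ∀ a b, a ≠ b → ∀ t, φ (S.x a b t) = Xm a b t)

include hφ in
/-- the matrices of the positive part are upper unitriangular. -/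
theorem Ut_shape {g : Γ} (hg : g ∈ S.Ut) :
    (∀ a : Fin m ⊕ Fin m, φ g a a = 1) ∧ ∀ a c : Fin m ⊕ Fin m, rk c < rk a → φ g a c = 0 := by
  refine S.XR_induction_left (P := fun g => (∀ a : Fin m ⊕ Fin m, φ g a a = 1) ∧
    ∀ a c : Fin m ⊕ Fin m, rk c < rk a → φ g a c = 0) ?_ ?_ hg
  · rw [map_one]
    refine ⟨fun a => Matrix.one_apply_eq a, fun a c hca => Matrix.one_apply_ne ?_⟩
    intro e
    rw [e] at hca
    exact lt_irrefl _ hca
  · rintro i j t g hij hlt hg ⟨h1, h2⟩
    have hlt' : rk j.swap < rk i.swap := by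
      rw [rk_swap, rk_swap]
      have := rk_lt j
      omega
    rw [map_mul, hφ i j hij]
    refine ⟨fun a => ?_, fun a c hca => ?_⟩
    · rw [Xm_mul_apply, h1]
      have e1 : (if a = i then t * φ g j a else 0) = 0 := by
        by_cases hai : a = i
        · rw [if_pos hai, h2 j a (by rw [hai]; exact hlt), mul_zero]
        · rw [if_neg hai]
      have e2 : (if j = i.swap then (0 : K) else if a = j.swap then
          -(ep K i * ep K j) * t * φ g i.swap a else 0) = 0 := by
        by_cases hj : j = i.swap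
        · rw [if_pos hj]
        · rw [if_neg hj]
          by_cases haj : a = j.swap
          · rw [if_pos haj, h2 i.swap a (by rw [haj]; exact hlt'), mul_zero]
          · rw [if_neg haj]
      rw [e1, e2, add_zero, add_zero]
    · rw [Xm_mul_apply, h2 a c hca]
      have e1 : (if a = i then t * φ g j c else 0) = 0 := by
        by_cases hai : a = i
        · rw [if_pos hai, h2 j c (by rw [hai] at hca; exact hca.trans hlt), mul_zero]
        · rw [if_neg hai]
      have e2 : (if j = i.swap then (0 : K) else if a = j.swap then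
          -(ep K i * ep K j) * t * φ g i.swap c else 0) = 0 := by
        by_cases hj : j = i.swap
        · rw [if_pos hj]
        · rw [if_neg hj]
          by_cases haj : a = j.swap
          · rw [if_pos haj, h2 i.swap c (by rw [haj] at hca; exact hca.trans hlt'), mul_zero]
          · rw [if_neg haj]
      rw [e1, e2, add_zero, add_zero]

/-- the subgroup generated by the root elements `x_{i j̄}(t)` with `(i, j)` in `T`. -/
def VT (T : Finset (Fin m × Fin m)) : Subgroup Γ :=
  S.XR (fun a b => ∃ i j, a = Sum.inl i ∧ b = Sum.inr j ∧ (i, j) ∈ T)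

theorem VT_le_Vt (T : Finset (Fin m × Fin m)) : S.VT T ≤ S.Vt := by
  apply S.XR_mono
  rintro a b ⟨i, j, rfl, rfl, _⟩
  exact ⟨rfl, rfl⟩

theorem Vt_le_VT : S.Vt ≤ S.VT Finset.univ := by
  apply S.XR_mono
  rintro a b ⟨ha, hb⟩
  rcases a with i | i
  · rcases b with j | j
    · simp at hb
    · exact ⟨i, j, rfl, rfl, Finset.mem_univ _⟩
  · simp at ha

theorem VT_mono {T T' : Finset (Fin m × Fin m)} (h : T ⊆ T') : S.VT T ≤ S.VT T' := by
  apply S.XR_mono
  rintro a b ⟨i, j, rfl, rfl, hT⟩
  exact ⟨i, j, rfl, rfl, h hT⟩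

theorem VT_step {T : Finset (Fin m × Fin m)} {i j : Fin m} {g : Γ}
    (hg : g ∈ S.VT (insert (i, j) T)) :
    ∃ (t : K) (b : Γ), b ∈ S.VT T ∧ g = S.x (Sum.inl i) (Sum.inr j) t * b := by
  have h0 : (Sum.inl i : Fin m ⊕ Fin m) ≠ Sum.inr j := by simp
  refine S.XR_induction_left (P := fun g => ∃ (t : K) (b : Γ), b ∈ S.VT T ∧
    g = S.x (Sum.inl i) (Sum.inr j) t * b) ?_ ?_ hg
  · exact ⟨0, 1, one_mem _, by rw [S.x_zero h0, one_mul]⟩
  · rintro a b s g hab ⟨k, l, rfl, rfl, hT⟩ hg ⟨t, b, hb, rfl⟩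
    rw [Finset.mem_insert] at hT
    rcases hT with hT | hT
    · obtain ⟨rfl, rfl⟩ := Prod.mk.inj hT
      exact ⟨s + t, b, hb, by rw [← mul_assoc, S.add _ _ h0]⟩
    · refine ⟨t, S.x (Sum.inl k) (Sum.inr l) s * b, mul_mem (S.x_mem_XR hab ⟨k, l, rfl, rfl, hT⟩ s) hb, ?_⟩
      rw [← mul_assoc, S.Vt_comm (S.xV_mem k l s) (S.xV_mem i j t), mul_assoc]

include hφ in
theorem VT_shape {T : Finset (Fin m × Fin m)} {b : Γ} (hb : b ∈ S.VT T) :
    (∀ k l : Fin m, φ b (Sum.inr k) (Sum.inr l) = (1 : Matrix (Fin m) (Fin m) K) k l) ∧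
    (∀ k l : Fin m, φ b (Sum.inl k) (Sum.inl l) = (1 : Matrix (Fin m) (Fin m) K) k l) ∧
    (∀ k l : Fin m, φ b (Sum.inr k) (Sum.inl l) = 0) ∧
    ∀ k l : Fin m, (k, l) ∉ T → (l, k) ∉ T → φ b (Sum.inl k) (Sum.inr l) = 0 := by
  refine S.XR_induction_left (P := fun b =>
    (∀ k l : Fin m, φ b (Sum.inr k) (Sum.inr l) = (1 : Matrix (Fin m) (Fin m) K) k l) ∧
    (∀ k l : Fin m, φ b (Sum.inl k) (Sum.inl l) = (1 : Matrix (Fin m) (Fin m) K) k l) ∧
    (∀ k l : Fin m, φ b (Sum.inr k) (Sum.inl l) = 0) ∧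
    ∀ k l : Fin m, (k, l) ∉ T → (l, k) ∉ T → φ b (Sum.inl k) (Sum.inr l) = 0) ?_ ?_ hb
  · rw [map_one]
    refine ⟨fun k l => ?_, fun k l => ?_, fun k l => ?_, fun k l _ _ => ?_⟩
    · by_cases h : k = l
      · rw [h, Matrix.one_apply_eq, Matrix.one_apply_eq]
      · rw [Matrix.one_apply_ne h, Matrix.one_apply_ne (fun e => h (Sum.inr.inj e))]
    · by_cases h : k = l
      · rw [h, Matrix.one_apply_eq, Matrix.one_apply_eq]
      · rw [Matrix.one_apply_ne h, Matrix.one_apply_ne (fun e => h (Sum.inl.inj e))]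
    · exact Matrix.one_apply_ne (by simp)
    · exact Matrix.one_apply_ne (by simp)
  · rintro a b s g hab ⟨i, j, rfl, rfl, hT⟩ hg ⟨h1, h2, h3, h4⟩
    rw [map_mul, hφ _ _ hab]
    refine ⟨fun k l => ?_, fun k l => ?_, fun k l => ?_, fun k l hkl hlk => ?_⟩
    · rw [Xm_mul_apply, if_neg (by simp), h1]
      by_cases hj : (Sum.inr j : Fin m ⊕ Fin m) = (Sum.inl i : Fin m ⊕ Fin m).swap
      · rw [if_pos hj, add_zero, add_zero]
      · rw [if_neg hj, if_neg (by simp), add_zero, add_zero]
    · rw [Xm_mul_apply, h2, Sum.swap_inl, h3, h3, mul_zero, mul_zero]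
      simp
    · rw [Xm_mul_apply, if_neg (by simp), h3]
      by_cases hj : (Sum.inr j : Fin m ⊕ Fin m) = (Sum.inl i : Fin m ⊕ Fin m).swap
      · rw [if_pos hj, add_zero, add_zero]
      · rw [if_neg hj, if_neg (by simp), add_zero, add_zero]
    · rw [Xm_mul_apply, h4 k l hkl hlk]
      have hki : ¬ (k = i ∧ l = j) := by
        rintro ⟨rfl, rfl⟩
        exact hkl hT
      have hkj : ¬ (k = j ∧ l = i) := by
        rintro ⟨rfl, rfl⟩
        exact hlk hT
      have e1 : (if (Sum.inl k : Fin m ⊕ Fin m) = Sum.inl i then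
          s * φ g (Sum.inr j) (Sum.inr l) else 0) = 0 := by
        by_cases hk : k = i
        · subst hk
          have hlj : j ≠ l := fun e => hki ⟨rfl, e.symm⟩
          rw [if_pos rfl, h1, Matrix.one_apply_ne hlj, mul_zero]
        · rw [if_neg (fun e => hk (Sum.inl.inj e))]
      have e2 : (if (Sum.inr j : Fin m ⊕ Fin m) = (Sum.inl i : Fin m ⊕ Fin m).swap then (0 : K)
          else if (Sum.inl k : Fin m ⊕ Fin m) = (Sum.inr j : Fin m ⊕ Fin m).swap then
            -(ep K (Sum.inl i : Fin m ⊕ Fin m) * ep K (Sum.inr j : Fin m ⊕ Fin m)) * s *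
              φ g (Sum.inl i : Fin m ⊕ Fin m).swap (Sum.inr l) else 0) = 0 := by
        by_cases hj : (Sum.inr j : Fin m ⊕ Fin m) = (Sum.inl i : Fin m ⊕ Fin m).swap
        · rw [if_pos hj]
        · rw [if_neg hj]
          by_cases hk : k = j
          · subst hk
            have hli : i ≠ l := fun e => hkj ⟨rfl, e.symm⟩
            rw [Sum.swap_inr, if_pos rfl, Sum.swap_inl, h1, Matrix.one_apply_ne hli, mul_zero]
          · rw [Sum.swap_inr, if_neg (fun e => hk (Sum.inl.inj e))]
      rw [e1, e2, add_zero, add_zero]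

include hφ in
theorem VT_inj : ∀ (T : Finset (Fin m × Fin m)), ∀ g ∈ S.VT T, φ g = 1 → g = 1 := by
  intro T
  induction T using Finset.induction_on with
  | empty =>
    intro g hg _
    refine S.XR_induction_left (P := fun y => y = 1) rfl ?_ hg
    rintro a b s g hab ⟨i, j, _, _, hT⟩ _ _
    simp at hT
  | insert p T hp ih =>
    intro g hg hφg
    obtain ⟨i, j⟩ := p
    by_cases hji : (j, i) ∈ T
    · -- the root is already there
      apply ih g _ hφg
      have hle : S.VT (insert (i, j) T) ≤ S.VT T := by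
        unfold VT XR
        rw [Subgroup.closure_le]
        rintro _ ⟨a, b, t, hab, ⟨k, l, rfl, rfl, hT⟩, rfl⟩
        rw [Finset.mem_insert] at hT
        rcases hT with hT | hT
        · obtain ⟨rfl, rfl⟩ := Prod.mk.inj hT
          have hkl : k ≠ l := by
            rintro rfl
            exact hp hji
          have e := S.sym' (a := Sum.inl k) (b := Sum.inl l) (fun e => hkl (Sum.inl.inj e)) (by simp) t
          rw [Sum.swap_inl, Sum.swap_inl] at e
          rw [e]
          exact Subgroup.subset_closure ⟨_, _, _, by simp, ⟨l, k, rfl, rfl, hji⟩, rfl⟩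
        · exact Subgroup.subset_closure ⟨_, _, t, hab, ⟨k, l, rfl, rfl, hT⟩, rfl⟩
      exact hle hg
    · obtain ⟨t, b, hb, rfl⟩ := S.VT_step hg
      obtain ⟨h1, h2, h3, h4⟩ := S.VT_shape φ hφ hb
      have h0 : (Sum.inl i : Fin m ⊕ Fin m) ≠ Sum.inr j := by simp
      have e := congrFun (congrFun hφg (Sum.inl i)) (Sum.inr j)
      rw [map_mul, hφ _ _ h0, Xm_mul_apply, if_pos rfl, h4 i j hp hji, h1, Matrix.one_apply_eq, mul_one,
        zero_add, Matrix.one_apply_ne h0] at e
      have ht : t = 0 := by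
        by_cases hj : (Sum.inr j : Fin m ⊕ Fin m) = (Sum.inl i : Fin m ⊕ Fin m).swap
        · rw [if_pos hj, add_zero] at e
          exact e
        · rw [if_neg hj] at e
          by_cases hij : (Sum.inl i : Fin m ⊕ Fin m) = (Sum.inr j : Fin m ⊕ Fin m).swap
          · exfalso
            apply hj
            rw [hij, Sum.swap_swap]
          · rw [if_neg hij, add_zero] at e
            exact e
      rw [ht, S.x_zero h0, one_mul] at hφg ⊢
      exact ih b hb hφg

include hφ in
/-- the homomorphism to the matrices is injective on the group of the roots `e_i + e_j`. -/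
theorem Vt_inj {g : Γ} (hg : g ∈ S.Vt) (h : φ g = 1) : g = 1 :=
  S.VT_inj φ hφ Finset.univ g (S.Vt_le_VT hg) h

end phi

end CD

end Cfsg.Agent.Helper7.Cd
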