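import Mathlib
import Cfsg.Agent.Helper7.CdI

set_option autoImplicit false
set_option linter.unusedSectionVars false
set_option linter.unusedVariables false

/-!
# A homomorphism to the matrices is injective on the subgroup of the positive root elements
-/

namespace Cfsg.Agent.Helper7.Cd

open Cfsg.Agent.Helper7.Sl Matrix

variable {m : ℕ} {K : Type*} [Field K] {Γ : Type*} [Group Γ] (S : CD m K Γ)

namespace CD

/-- the subgroup generated by the root elements of the roots `e_i - e_j`. -/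
def GA : Subgroup Γ := S.toSD.XR (fun _ _ => True)

theorem xA_mem_GA {i j : Fin m} (hij : i ≠ j) (t : K) : S.x (Sum.inl i) (Sum.inl j) t ∈ S.GA :=
  S.toSD.x_mem_XR hij trivial t

/-- the Steinberg relations of type `A` in the subgroup of the roots `e_i - e_j`. -/
def sdA : SD m K ↥S.GA where
  x i j t := if h : i ≠ j then ⟨S.x (Sum.inl i) (Sum.inl j) t, S.xA_mem_GA h t⟩ else 1
  add := by
    intro i j hij t u
    rw [dif_pos hij, dif_pos hij, dif_pos hij]
    apply Subtype.ext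
    exact S.toSD.add i j hij t u
  comm := by
    intro i j k l hij hkl hil hjk t u
    rw [dif_pos hij, dif_pos hkl]
    apply Subtype.ext
    exact S.toSD.comm i j k l hij hkl hil hjk t u
  comm3 := by
    intro i j l hij hjl hil t u
    rw [dif_pos hij, dif_pos hjl, dif_pos hil]
    apply Subtype.ext
    exact S.toSD.comm3 i j l hij hjl hil t u

theorem sdA_x {i j : Fin m} (hij : i ≠ j) (t : K) :
    ((S.sdA.x i j t : ↥S.GA) : Γ) = S.x (Sum.inl i) (Sum.inl j) t := by
  change ((if h : i ≠ j then (⟨S.x (Sum.inl i) (Sum.inl j) t, S.xA_mem_GA h t⟩ : ↥S.GA) else 1 : ↥S.GA) : Γ) = _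
  rw [dif_pos hij]

/-- the elements of the positive part for the roots `e_i - e_j` come from the subgroup. -/
theorem exists_sdA_Ut {a : Γ} (ha : a ∈ S.toSD.Ut) : ∃ a' ∈ S.sdA.Ut, (a' : Γ) = a := by
  refine S.toSD.XR_induction_left (P := fun a => ∃ a' ∈ S.sdA.Ut, (a' : Γ) = a) ?_ ?_ ha
  · exact ⟨1, one_mem _, rfl⟩
  · rintro i j t g hij hlt hg ⟨g', hg', rfl⟩
    refine ⟨S.sdA.x i j t * g', mul_mem (S.sdA.x_mem_XR hij hlt t) hg', ?_⟩
    rw [Subgroup.coe_mul, S.sdA_x hij]
    rfl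

section phi

variable (φ : Γ →* Matrix (Fin m ⊕ Fin m) (Fin m ⊕ Fin m) K)
  (hφ : ∀ a b, a ≠ b → ∀ t, φ (S.x a b t) = Xm a b t)

include hφ in
/-- the matrices of the elements of the subgroup of the roots `e_i - e_j` are block diagonal. -/
theorem GA_shape {g : Γ} (hg : g ∈ S.GA) :
    (∀ k l : Fin m, φ g (Sum.inr k) (Sum.inl l) = 0) ∧ ∀ k l : Fin m, φ g (Sum.inl k) (Sum.inr l) = 0 := by
  refine S.toSD.XR_induction_left (P := fun g => (∀ k l : Fin m, φ g (Sum.inr k) (Sum.inl l) = 0) ∧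
    ∀ k l : Fin m, φ g (Sum.inl k) (Sum.inr l) = 0) ?_ ?_ hg
  · rw [map_one]
    exact ⟨fun k l => Matrix.one_apply_ne (by simp), fun k l => Matrix.one_apply_ne (by simp)⟩
  · rintro i j t g hij _ hg ⟨h1, h2⟩
    have hab : (Sum.inl i : Fin m ⊕ Fin m) ≠ Sum.inl j := fun e => hij (Sum.inl.inj e)
    rw [S.toSD_x, map_mul, hφ _ _ hab]
    refine ⟨fun k l => ?_, fun k l => ?_⟩
    · rw [Xm_mul_apply]
      simp [h1, h2]
    · rw [Xm_mul_apply]
      simp [h1, h2]

/-- the upper left block, as a homomorphism on the subgroup of the roots `e_i - e_j`. -/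
def phiA : ↥S.GA →* Matrix (Fin m) (Fin m) K where
  toFun g := Matrix.of (fun i j => φ g.1 (Sum.inl i) (Sum.inl j))
  map_one' := by
    ext i j
    change φ ((1 : ↥S.GA) : Γ) (Sum.inl i) (Sum.inl j) = _
    rw [Subgroup.coe_one, map_one]
    by_cases h : i = j
    · rw [h, Matrix.one_apply_eq, Matrix.one_apply_eq]
    · rw [Matrix.one_apply_ne h, Matrix.one_apply_ne (fun e => h (Sum.inl.inj e))]
  map_mul' := by
    intro g h
    ext i j
    change φ ((g * h : ↥S.GA) : Γ) (Sum.inl i) (Sum.inl j) = _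
    rw [Subgroup.coe_mul, map_mul, Matrix.mul_apply, Fintype.sum_sum_type, Matrix.mul_apply]
    have e : ∑ k : Fin m, φ g.1 (Sum.inl i) (Sum.inr k) * φ h.1 (Sum.inr k) (Sum.inl j) = 0 := by
      apply Finset.sum_eq_zero
      intro k _
      rw [(S.GA_shape φ hφ h.2).1, mul_zero]
    rw [e, add_zero]
    rfl

theorem phiA_apply (g : ↥S.GA) (i j : Fin m) : S.phiA φ hφ g i j = φ g.1 (Sum.inl i) (Sum.inl j) := rfl

theorem phiA_x {i j : Fin m} (hij : i ≠ j) (t : K) :
    S.phiA φ hφ (S.sdA.x i j t) = Matrix.transvection i j t := by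
  have hab : (Sum.inl i : Fin m ⊕ Fin m) ≠ Sum.inl j := fun e => hij (Sum.inl.inj e)
  ext k l
  rw [phiA_apply, S.sdA_x hij, hφ _ _ hab]
  unfold Xm Matrix.transvection
  rw [if_neg (by simp)]
  simp only [Matrix.add_apply, Matrix.single_apply, Matrix.one_apply, Sum.swap_inl, Sum.inl.injEq,
    reduceCtorEq, false_and, if_false, add_zero]

include hφ in
/-- **the homomorphism to the matrices is injective on the positive part.** -/
theorem Ut_inj {g : Γ} (hg : g ∈ S.Ut) (h : φ g = 1) : g = 1 := by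
  obtain ⟨v, hv, a, ha, rfl⟩ := S.Ut_eq_mul hg
  obtain ⟨a', ha', rfl⟩ := S.exists_sdA_Ut ha
  obtain ⟨_, h2, _, _⟩ := S.VT_shape φ hφ (S.Vt_le_VT hv)
  have h3 := (S.GA_shape φ hφ a'.2).1
  have e1 : S.phiA φ hφ a' = 1 := by
    ext k l
    have e := congrFun (congrFun h (Sum.inl k)) (Sum.inl l)
    rw [map_mul, Matrix.mul_apply, Fintype.sum_sum_type] at e
    have e2 : ∑ k' : Fin m, φ v (Sum.inl k) (Sum.inr k') * φ a'.1 (Sum.inr k') (Sum.inl l) = 0 := by
      apply Finset.sum_eq_zero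
      intro k' _
      rw [h3, mul_zero]
    have e3 : ∑ k' : Fin m, φ v (Sum.inl k) (Sum.inl k') * φ a'.1 (Sum.inl k') (Sum.inl l) =
        φ a'.1 (Sum.inl k) (Sum.inl l) := by
      rw [Finset.sum_eq_single k]
      · rw [h2, Matrix.one_apply_eq, one_mul]
      · intro k' _ hk'
        rw [h2, Matrix.one_apply_ne hk'.symm, zero_mul]
      · intro hk
        exact absurd (Finset.mem_univ k) hk
    rw [e2, e3, add_zero] at e
    rw [phiA_apply, e]
    by_cases hkl : k = l
    · rw [hkl, Matrix.one_apply_eq, Matrix.one_apply_eq]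
    · rw [Matrix.one_apply_ne hkl, Matrix.one_apply_ne (fun e => hkl (Sum.inl.inj e))]
  have e4 : a' = 1 := S.sdA.Ut_inj (S.phiA φ hφ) (fun i j hij t => S.phiA_x φ hφ hij t) ha' e1
  rw [e4, Subgroup.coe_one, mul_one] at h ⊢
  exact S.Vt_inj φ hφ hv h

end phi

end CD

end Cfsg.Agent.Helper7.Cd
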