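import Mathlib
import Cfsg.Agent.Helper7.CdJ

set_option autoImplicit false
set_option linter.unusedSectionVars false
set_option linter.unusedVariables false

/-!
# The Bruhat decomposition of a group with the Steinberg relations of type `C`
-/

namespace Cfsg.Agent.Helper7.Cd

open Cfsg.Agent.Helper7.Sl

variable {m : ℕ} {K : Type*} [Field K] {Γ : Type*} [Group Γ] (S : CD m K Γ)

/-- the index of an element of `Fin m ⊕ Fin m`. -/
def idx : Fin m ⊕ Fin m → Fin m := Sum.elim id id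

theorem idx_swap (a : Fin m ⊕ Fin m) : idx a.swap = idx a := by
  rcases a with i | i <;> rfl

theorem eq_of_idx {a : Fin m ⊕ Fin m} {k : Fin m} (h : idx a = k) : a = Sum.inl k ∨ a = Sum.inr k := by
  rcases a with i | i
  · left
    exact congrArg Sum.inl h
  · right
    exact congrArg Sum.inr h

/-- the permutation exchanging `a` and `ā` for the indices in `T`. -/
def sgT (T : Finset (Fin m)) : Equiv.Perm (Fin m ⊕ Fin m) :=
  Function.Involutive.toPerm (fun a => if idx a ∈ T then a.swap else a) (by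
    intro a
    by_cases h : idx a ∈ T
    · simp only [if_pos h, idx_swap, Sum.swap_swap]
    · simp only [if_neg h])

theorem sgT_apply (T : Finset (Fin m)) (a : Fin m ⊕ Fin m) :
    sgT T a = if idx a ∈ T then a.swap else a := rfl

theorem sgT_inv (T : Finset (Fin m)) : (sgT T)⁻¹ = sgT T := by
  apply Equiv.ext
  intro a
  rw [Equiv.Perm.inv_def, Equiv.symm_apply_eq]
  by_cases h : idx a ∈ T
  · rw [sgT_apply T a, if_pos h, sgT_apply, idx_swap, if_pos h, Sum.swap_swap]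
  · rw [sgT_apply T a, if_neg h, sgT_apply, if_neg h]

theorem sgT_empty : sgT (∅ : Finset (Fin m)) = 1 := by
  apply Equiv.ext
  intro a
  rw [sgT_apply, if_neg (Finset.notMem_empty _), Equiv.Perm.one_apply]

theorem sgT_insert {T : Finset (Fin m)} {k : Fin m} (hk : k ∉ T) :
    sgL (Sum.inl k) * sgT T = sgT (insert k T) := by
  apply Equiv.ext
  intro a
  rw [Equiv.Perm.mul_apply, sgT_apply, sgT_apply]
  by_cases hak : idx a = k
  · have h1 : idx a ∉ T := by rw [hak]; exact hk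
    rw [if_neg h1, if_pos (by rw [hak]; exact Finset.mem_insert_self _ _)]
    rcases eq_of_idx hak with rfl | rfl
    · exact sgL_a
    · exact sgL_a' (a := Sum.inl k)
  · have hiff : idx a ∈ insert k T ↔ idx a ∈ T := by
      rw [Finset.mem_insert]
      exact ⟨fun h => h.resolve_left hak, Or.inr⟩
    have hout : ∀ b : Fin m ⊕ Fin m, idx b = idx a → sgL (Sum.inl k) b = b := by
      intro b hb
      apply sgL_out
      · intro e
        apply hak
        rw [← hb, e]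
        rfl
      · intro e
        apply hak
        rw [← hb, e]
        rfl
    by_cases h : idx a ∈ T
    · rw [if_pos h, if_pos (hiff.mpr h)]
      exact hout _ (idx_swap a)
    · rw [if_neg h, if_neg (fun h' => h (hiff.mp h'))]
      exact hout _ rfl

namespace CD

/-- the subgroup generated by the elements `w_pq(u)` of the simple roots. -/
def Ws : Subgroup Γ :=
  Subgroup.closure {g | ∃ (p q : Fin m ⊕ Fin m) (u : K), u ≠ 0 ∧
    ((∃ i j : Fin m, p = Sum.inl i ∧ q = Sum.inl j ∧ j.val = i.val + 1) ∨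
      (∃ i : Fin m, p = Sum.inl i ∧ q = Sum.inr i ∧ i.val + 1 = m)) ∧ g = S.w p q u}

theorem Ws_le_Wt : S.Ws ≤ S.Wt := by
  unfold Ws Wt
  apply Subgroup.closure_mono
  rintro _ ⟨p, q, u, hu, hpq, rfl⟩
  refine ⟨p, q, u, ?_, hu, rfl⟩
  rcases hpq with ⟨i, j, rfl, rfl, hij⟩ | ⟨i, rfl, rfl, _⟩
  · intro e
    have := congrArg Fin.val (Sum.inl.inj e)
    omega
  · simp

theorem ws_mem_Ws {i j : Fin m} (hij : j.val = i.val + 1) {u : K} (hu : u ≠ 0) :
    S.w (Sum.inl i) (Sum.inl j) u ∈ S.Ws :=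
  Subgroup.subset_closure ⟨_, _, u, hu, Or.inl ⟨i, j, rfl, rfl, hij⟩, rfl⟩

theorem wl_mem_Ws' {i : Fin m} (hi : i.val + 1 = m) {u : K} (hu : u ≠ 0) :
    S.w (Sum.inl i) (Sum.inr i) u ∈ S.Ws :=
  Subgroup.subset_closure ⟨_, _, u, hu, Or.inr ⟨i, rfl, rfl, hi⟩, rfl⟩

/-- the positive root elements other than those of the root `(p, q)`. -/
def Up (p q : Fin m ⊕ Fin m) : Subgroup Γ :=
  S.XR (fun a b => rk a < rk b ∧ ¬ (a = p ∧ b = q) ∧ ¬ (a = q.swap ∧ b = p.swap))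

theorem Up_le_Ut (p q : Fin m ⊕ Fin m) : S.Up p q ≤ S.Ut := S.XR_mono (fun a b h => h.1)

/-- what is needed of the pairs of indices of the simple roots. -/
structure Simp (p q : Fin m ⊕ Fin m) : Prop where
  ne : p ≠ q
  lt : rk p < rk q
  mem : ∀ v : K, v ≠ 0 → S.w p q v ∈ S.Ws
  split : ∀ g ∈ S.Ut, ∃ u₁ ∈ S.Up p q, ∃ t : K, g = u₁ * S.x p q t
  conj : ∀ v : K, v ≠ 0 → ∀ u₁ ∈ S.Up p q, MulAut.conj (S.w p q v) u₁ ∈ S.Ut

/-- the pairs of indices of the simple roots have the properties needed. -/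
structure AllSimp : Prop where
  short : ∀ i j : Fin m, j.val = i.val + 1 → S.Simp (Sum.inl i) (Sum.inl j)
  long : ∀ i : Fin m, i.val + 1 = m → S.Simp (Sum.inl i) (Sum.inr i)

/-- the set of the products `u w u'`. -/
def Br : Set Γ := {g | ∃ u ∈ S.Ut, ∃ w ∈ S.Ws, ∃ u' ∈ S.Ut, g = u * w * u'}

theorem one_mem_Br : (1 : Γ) ∈ S.Br :=
  ⟨1, one_mem _, 1, one_mem _, 1, one_mem _, by rw [mul_one, mul_one]⟩

theorem Br_ut_mul {a g : Γ} (ha : a ∈ S.Ut) (hg : g ∈ S.Br) : a * g ∈ S.Br := by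
  obtain ⟨u, hu, w, hw, u', hu', rfl⟩ := hg
  exact ⟨a * u, mul_mem ha hu, w, hw, u', hu', by simp only [mul_assoc]⟩

theorem Br_w_mul (hm : 2 ≤ m) {p q : Fin m ⊕ Fin m} (hs : S.Simp p q) {v : K} (hv : v ≠ 0) {g : Γ}
    (hg : g ∈ S.Br) : S.w p q v * g ∈ S.Br := by
  have hne := hs.ne
  obtain ⟨u, hu, wn, hwn, u', hu', rfl⟩ := hg
  obtain ⟨u₁, hu₁, t, rfl⟩ := hs.split u hu
  obtain ⟨σ, a, hM⟩ := S.exists_mon_of_mem_Wt hm (S.Ws_le_Wt hwn)
  have hw : S.w p q v ∈ S.Ws := hs.mem v hv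
  have hu₂ := hs.conj v hv u₁ hu₁
  have e0 : S.w p q v * u₁ = MulAut.conj (S.w p q v) u₁ * S.w p q v := by
    rw [MulAut.conj_apply, inv_mul_cancel_right]
  have hσne : σ⁻¹ p ≠ σ⁻¹ q := fun e => hne (σ⁻¹.injective e)
  have hrkne : rk (σ⁻¹ p) ≠ rk (σ⁻¹ q) := fun e => hσne (rk_injective e)
  rcases lt_or_gt_of_ne hrkne with hcase | hcase
  · -- the root stays positive
    obtain ⟨c', e1⟩ := hM.x_mul S hne t
    refine ⟨MulAut.conj (S.w p q v) u₁, hu₂, S.w p q v * wn, mul_mem hw hwn,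
      S.x (σ⁻¹ p) (σ⁻¹ q) c' * u', mul_mem (S.x_mem_XR hσne hcase _) hu', ?_⟩
    calc S.w p q v * (u₁ * S.x p q t * wn * u')
        = (S.w p q v * u₁) * (S.x p q t * wn) * u' := by simp only [mul_assoc]
      _ = _ := by rw [e0, e1]; simp only [mul_assoc]
  · by_cases ht : t = 0
    · subst ht
      refine ⟨MulAut.conj (S.w p q v) u₁, hu₂, S.w p q v * wn, mul_mem hw hwn, u', hu', ?_⟩
      rw [S.x_zero hne, mul_one]
      calc S.w p q v * (u₁ * wn * u') = (S.w p q v * u₁) * wn * u' := by simp only [mul_assoc]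
        _ = _ := by rw [e0]; simp only [mul_assoc]
    · obtain ⟨σw, μw, hMw, h1, h2, h3, h4⟩ := S.mon_w hm hne hv
      have e1 : S.w p q v * S.x p q t = S.x q p (-v⁻¹ * v⁻¹ * t) * S.w p q v := by
        have := hMw.mul_x S hne t
        rw [h1, h2, h3, h4] at this
        exact this
      have hs' : -v⁻¹ * v⁻¹ * t ≠ 0 :=
        mul_ne_zero (mul_ne_zero (neg_ne_zero.mpr (inv_ne_zero hv)) (inv_ne_zero hv)) ht
      obtain ⟨s, hsdef⟩ : ∃ s : K, s = -v⁻¹ * v⁻¹ * t := ⟨_, rfl⟩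
      rw [← hsdef] at e1 hs'
      have e2 := S.x_neg_eq hne hs'
      have hM₁ : S.Mon (S.w p q v * wn) (σw * σ) _ := hMw.mul S hM
      obtain ⟨c', e3⟩ := hM₁.x_mul S hne s⁻¹
      have hσw1 : σw⁻¹ p = q := by
        rw [Equiv.Perm.inv_def, Equiv.symm_apply_eq, h2]
      have hσw2 : σw⁻¹ q = p := by
        rw [Equiv.Perm.inv_def, Equiv.symm_apply_eq, h1]
      have e4 : (σw * σ)⁻¹ p = σ⁻¹ q := by
        rw [mul_inv_rev, Equiv.Perm.mul_apply, hσw1]
      have e5 : (σw * σ)⁻¹ q = σ⁻¹ p := by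
        rw [mul_inv_rev, Equiv.Perm.mul_apply, hσw2]
      rw [e4, e5] at e3
      refine ⟨MulAut.conj (S.w p q v) u₁ * S.x p q s⁻¹,
        mul_mem hu₂ (S.x_mem_XR hne hs.lt _),
        S.w p q (-s⁻¹) * (S.w p q v * wn),
        mul_mem (hs.mem _ (neg_ne_zero.mpr (inv_ne_zero hs'))) (mul_mem hw hwn),
        S.x (σ⁻¹ q) (σ⁻¹ p) c' * u', mul_mem (S.x_mem_XR hσne.symm hcase _) hu', ?_⟩
      calc S.w p q v * (u₁ * S.x p q t * wn * u')
          = (S.w p q v * u₁) * (S.w p q v)⁻¹ * (S.w p q v * S.x p q t) * wn * u' := by group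
        _ = MulAut.conj (S.w p q v) u₁ * S.x p q s⁻¹ * S.w p q (-s⁻¹) *
              (S.x p q s⁻¹ * (S.w p q v * wn)) * u' := by
            rw [e0, e1, e2]; group
        _ = _ := by rw [e3]; simp only [mul_assoc]

/-- the elements whose left multiplication preserves the set of the products `u w u'`. -/
def BrStab : Subgroup Γ where
  carrier := {a | (∀ g ∈ S.Br, a * g ∈ S.Br) ∧ ∀ g ∈ S.Br, a⁻¹ * g ∈ S.Br}
  one_mem' := by
    refine ⟨fun g hg => ?_, fun g hg => ?_⟩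
    · rw [one_mul]; exact hg
    · rw [inv_one, one_mul]; exact hg
  mul_mem' := by
    rintro a b ⟨ha1, ha2⟩ ⟨hb1, hb2⟩
    refine ⟨fun g hg => ?_, fun g hg => ?_⟩
    · rw [mul_assoc]; exact ha1 _ (hb1 _ hg)
    · rw [mul_inv_rev, mul_assoc]; exact hb2 _ (ha2 _ hg)
  inv_mem' := by
    rintro a ⟨ha1, ha2⟩
    refine ⟨ha2, fun g hg => ?_⟩
    rw [inv_inv]; exact ha1 g hg

theorem Ut_le_BrStab : S.Ut ≤ S.BrStab := by
  intro a ha
  exact ⟨fun g hg => S.Br_ut_mul ha hg, fun g hg => S.Br_ut_mul (inv_mem ha) hg⟩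

theorem w_mem_BrStab (hm : 2 ≤ m) {p q : Fin m ⊕ Fin m} (hs : S.Simp p q) {v : K} (hv : v ≠ 0) :
    S.w p q v ∈ S.BrStab := by
  refine ⟨fun g hg => S.Br_w_mul hm hs hv hg, fun g hg => ?_⟩
  rw [S.w_inv hs.ne]
  exact S.Br_w_mul hm hs (neg_ne_zero.mpr hv) hg

/-- the elements `w_{k k̄}(v)` preserve the set of the products `u w u'`. -/
theorem wl_mem_BrStab (hm : 2 ≤ m) (hA : S.AllSimp) :
    ∀ (d : ℕ) (k : Fin m), k.val + d + 1 = m → ∀ v : K, v ≠ 0 →
      S.w (Sum.inl k) (Sum.inr k) v ∈ S.BrStab := by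
  intro d
  induction d with
  | zero =>
    intro k hk v hv
    exact S.w_mem_BrStab hm (hA.long k hk) hv
  | succ d ih =>
    intro k hk v hv
    have hk' : k.val + 1 < m := by omega
    have h1 := ih ⟨k.val + 1, hk'⟩ (by simp only; omega) v hv
    have hs := hA.short k ⟨k.val + 1, hk'⟩ rfl
    have hw := S.w_mem_BrStab hm hs (one_ne_zero (α := K))
    have hab : (Sum.inl k : Fin m ⊕ Fin m) ≠ Sum.inl ⟨k.val + 1, hk'⟩ := hs.ne
    have hab' : (Sum.inl k : Fin m ⊕ Fin m) ≠ (Sum.inl ⟨k.val + 1, hk'⟩ : Fin m ⊕ Fin m).swap := by simp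
    have e := (S.mon_w_short hab hab' (one_ne_zero (α := K))).conj_w S
      (k := Sum.inl ⟨k.val + 1, hk'⟩) (l := Sum.inr ⟨k.val + 1, hk'⟩) (by simp) hv
    have e1 := sgS_b hab hab'
    have e2 := sgS_b' hab hab'
    rw [Sum.swap_inl] at e2
    rw [Sum.swap_inl] at e2
    rw [e1, e2, muS_b hab] at e
    have e3 := muS_b' (K := K) hab hab' 1
    rw [Sum.swap_inl] at e3
    rw [e3, MulAut.conj_apply] at e
    have e4 : (1 : K) * (ep K (Sum.inl k : Fin m ⊕ Fin m) *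
        ep K (Sum.inl ⟨k.val + 1, hk'⟩ : Fin m ⊕ Fin m) * 1⁻¹)⁻¹ * v = v := by
      simp [ep]
    rw [e4] at e
    rw [← e]
    exact mul_mem (mul_mem hw h1) (inv_mem hw)

/-- an element exchanging all the indices with their opposites preserves the set of the products. -/
theorem exists_mon_sgT (hm : 2 ≤ m) (hA : S.AllSimp) (T : Finset (Fin m)) :
    ∃ g ∈ S.BrStab, ∃ μ : Fin m ⊕ Fin m → K, S.Mon g (sgT T) μ := by
  induction T using Finset.induction_on with
  | empty =>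
    refine ⟨1, one_mem _, fun _ => 1, ?_⟩
    rw [sgT_empty]
    exact S.mon_one
  | insert k T hk ih =>
    obtain ⟨g, hg, μ, hM⟩ := ih
    have hk' : k.val + (m - 1 - k.val) + 1 = m := by have := k.isLt; omega
    have h1 := S.wl_mem_BrStab hm hA (m - 1 - k.val) k hk' 1 one_ne_zero
    have h2 := (S.mon_w_long hm (a := Sum.inl k) (one_ne_zero (α := K))).mul S hM
    rw [sgT_insert hk] at h2
    exact ⟨_, mul_mem h1 hg, _, h2⟩

/-- **the Bruhat decomposition.** -/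
theorem bruhat (hm : 2 ≤ m) (hA : S.AllSimp)
    (hgen : Subgroup.closure {g | ∃ (a b : Fin m ⊕ Fin m) (t : K), a ≠ b ∧ g = S.x a b t} = ⊤) (g : Γ) :
    g ∈ S.Br := by
  have h1 : S.BrStab = ⊤ := by
    rw [eq_top_iff, ← hgen, Subgroup.closure_le]
    rintro _ ⟨a, b, t, hab, rfl⟩
    have hrk : rk a ≠ rk b := fun e => hab (rk_injective e)
    rcases lt_or_gt_of_ne hrk with h | h
    · exact S.Ut_le_BrStab (S.x_mem_XR hab h t)
    · obtain ⟨n₀, hn₀, μ, hM⟩ := S.exists_mon_sgT hm hA Finset.univ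
      obtain ⟨c', e⟩ := hM.x_mul S hab t
      rw [sgT_inv, sgT_apply, sgT_apply, if_pos (Finset.mem_univ _), if_pos (Finset.mem_univ _)] at e
      have e' : S.x a b t = n₀ * S.x a.swap b.swap c' * n₀⁻¹ := by
        rw [← e, mul_inv_cancel_right]
      rw [SetLike.mem_coe, e']
      refine mul_mem (mul_mem hn₀ (S.Ut_le_BrStab (S.x_mem_XR (swap_ne_swap hab) ?_ _))) (inv_mem hn₀)
      rw [rk_swap, rk_swap]
      have := rk_lt a
      omega
  have h2 : g ∈ S.BrStab := by rw [h1]; exact Subgroup.mem_top g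
  have := h2.1 1 S.one_mem_Br
  rwa [mul_one] at this

end CD

end Cfsg.Agent.Helper7.Cd
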