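import Mathlib
import Cfsg.Agent.Helper7.CdK

set_option autoImplicit false
set_option linter.unusedSectionVars false
set_option linter.unusedVariables false

/-!
# The simple roots of type `C` have the properties needed for the Bruhat decomposition
-/

namespace Cfsg.Agent.Helper7.Cd

open Cfsg.Agent.Helper7.Sl

variable {m : ℕ} {K : Type*} [Field K] {Γ : Type*} [Group Γ] (S : CD m K Γ)

/-- the ranks of the images under the permutation of a short simple root. -/
theorem rk_sgS_simple {i j : Fin m} (hij : j.val = i.val + 1) (c : Fin m ⊕ Fin m) :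
    rk (sgS (Sum.inl i) (Sum.inl j) c) =
      if rk c = i.val then i.val + 1 else if rk c = i.val + 1 then i.val
      else if rk c = 2 * m - 1 - i.val then 2 * m - 2 - i.val
      else if rk c = 2 * m - 2 - i.val then 2 * m - 1 - i.val else rk c := by
  have hi := i.isLt
  have hj := j.isLt
  have hne : i ≠ j := fun e => by rw [e] at hij; omega
  have hab : (Sum.inl i : Fin m ⊕ Fin m) ≠ Sum.inl j := fun e => hne (Sum.inl.inj e)
  have hab' : (Sum.inl i : Fin m ⊕ Fin m) ≠ (Sum.inl j : Fin m ⊕ Fin m).swap := by simp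
  rcases idx_cases4 (Sum.inl i) (Sum.inl j) c with rfl | rfl | rfl | rfl | ⟨h1, h2, h3, h4⟩
  · rw [sgS_a hab hab', rk_inl, rk_inl, if_pos rfl, hij]
  · rw [sgS_b hab hab', rk_inl, rk_inl, if_neg (by omega), if_pos hij]
  · rw [sgS_a' hab hab', Sum.swap_inl, Sum.swap_inl, rk_inr, rk_inr, if_neg (by omega),
      if_neg (by omega), if_pos rfl]
    omega
  · rw [sgS_b' hab hab', Sum.swap_inl, Sum.swap_inl, rk_inr, rk_inr, if_neg (by omega),
      if_neg (by omega), if_neg (by omega), if_pos (by omega)]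
  · rw [sgS_out h1 h2 h3 h4]
    have e1 : rk c ≠ i.val := fun e => h1 (rk_injective (by rw [e, rk_inl]))
    have e2 : rk c ≠ i.val + 1 := fun e => h2 (rk_injective (by rw [e, rk_inl, hij]))
    have e3 : rk c ≠ 2 * m - 1 - i.val := fun e => h3 (rk_injective (by rw [e, Sum.swap_inl, rk_inr]))
    have e4 : rk c ≠ 2 * m - 2 - i.val := fun e => h4 (rk_injective (by
      rw [e, Sum.swap_inl, rk_inr]; omega))
    rw [if_neg e1, if_neg e2, if_neg e3, if_neg e4]

/-- the ranks of the images under the permutation of the long simple root. -/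
theorem rk_sgL_simple {i : Fin m} (hi : i.val + 1 = m) (c : Fin m ⊕ Fin m) :
    rk (sgL (Sum.inl i) c) = if rk c = m - 1 then m else if rk c = m then m - 1 else rk c := by
  rcases idx_cases2 (Sum.inl i) c with rfl | rfl | ⟨h1, h2⟩
  · rw [sgL_a, Sum.swap_inl, rk_inr, rk_inl, if_pos (by omega)]
    omega
  · rw [sgL_a', Sum.swap_inl, rk_inr, rk_inl, if_neg (by omega), if_pos (by omega)]
    omega
  · rw [sgL_out h1 h2]
    have e1 : rk c ≠ m - 1 := fun e => h1 (rk_injective (by rw [e, rk_inl]; omega))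
    have e2 : rk c ≠ m := fun e => h2 (rk_injective (by rw [e, Sum.swap_inl, rk_inr]; omega))
    rw [if_neg e1, if_neg e2]

namespace CD

theorem Vt_le_Up_short (i j : Fin m) : S.Vt ≤ S.Up (Sum.inl i) (Sum.inl j) := by
  apply S.XR_mono
  rintro a b ⟨ha, hb⟩
  rcases a with k | k
  · rcases b with l | l
    · simp at hb
    · refine ⟨?_, by simp, by simp⟩
      have := k.isLt
      have := l.isLt
      simp only [rk_inl, rk_inr]
      omega
  · simp at ha

theorem UpA_le_Up_short (i j : Fin m) : S.toSD.Up i j ≤ S.Up (Sum.inl i) (Sum.inl j) := by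
  unfold SD.Up SD.XR
  rw [Subgroup.closure_le]
  rintro _ ⟨k, l, t, hkl, ⟨hlt, hne⟩, rfl⟩
  refine S.x_mem_XR (fun e => hkl (Sum.inl.inj e)) ⟨by simp only [rk_inl]; exact hlt, ?_, by simp⟩ t
  rintro ⟨e1, e2⟩
  exact hne ⟨Sum.inl.inj e1, Sum.inl.inj e2⟩

/-- the short simple roots. -/
theorem simp_short {i j : Fin m} (hij : j.val = i.val + 1) : S.Simp (Sum.inl i) (Sum.inl j) := by
  have hi := i.isLt
  have hj := j.isLt
  have hne : i ≠ j := fun e => by rw [e] at hij; omega
  have hab : (Sum.inl i : Fin m ⊕ Fin m) ≠ Sum.inl j := fun e => hne (Sum.inl.inj e)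
  have hab' : (Sum.inl i : Fin m ⊕ Fin m) ≠ (Sum.inl j : Fin m ⊕ Fin m).swap := by simp
  refine ⟨hab, by simp only [rk_inl]; omega, fun v hv => S.ws_mem_Ws hij hv, ?_, ?_⟩
  · intro g hg
    obtain ⟨v, hv, a, ha, rfl⟩ := S.Ut_eq_mul hg
    obtain ⟨u₁, t, hu₁, rfl⟩ := S.toSD.Ut_split hij ha
    exact ⟨v * u₁, mul_mem (S.Vt_le_Up_short i j hv) (S.UpA_le_Up_short i j hu₁), t, by
      rw [mul_assoc]; rfl⟩
  · intro v hv u₁ hu₁
    refine S.XR_induction_left (P := fun u₁ => MulAut.conj (S.w (Sum.inl i) (Sum.inl j) v) u₁ ∈ S.Ut)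
      ?_ ?_ hu₁
    · rw [map_one]
      exact one_mem _
    · rintro c d s g hcd ⟨hlt, hn1, hn2⟩ hg ih
      rw [map_mul, S.w_conj_short hab hab' hv hcd]
      refine mul_mem (S.x_mem_XR (fun e => hcd ((sgS _ _).injective e)) ?_ _) ih
      rw [rk_sgS_simple hij, rk_sgS_simple hij]
      have hc := rk_lt c
      have hd := rk_lt d
      have hn1' : ¬ (rk c = i.val ∧ rk d = i.val + 1) := by
        rintro ⟨e1, e2⟩
        exact hn1 ⟨rk_injective (by rw [e1, rk_inl]), rk_injective (by rw [e2, rk_inl, hij])⟩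
      have hn2' : ¬ (rk c = 2 * m - 2 - i.val ∧ rk d = 2 * m - 1 - i.val) := by
        rintro ⟨e1, e2⟩
        refine hn2 ⟨rk_injective ?_, rk_injective ?_⟩
        · rw [e1, Sum.swap_inl, rk_inr]; omega
        · rw [e2, Sum.swap_inl, rk_inr]
      split_ifs <;> omega

theorem VT_le_Up_long (i : Fin m) :
    S.VT (Finset.univ.erase (i, i)) ≤ S.Up (Sum.inl i) (Sum.inr i) := by
  apply S.XR_mono
  rintro a b ⟨k, l, rfl, rfl, hT⟩
  rw [Finset.mem_erase] at hT
  have hkl : ¬ (k = i ∧ l = i) := by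
    rintro ⟨rfl, rfl⟩
    exact hT.1 rfl
  refine ⟨?_, ?_, ?_⟩
  · have := k.isLt
    have := l.isLt
    simp only [rk_inl, rk_inr]
    omega
  · rintro ⟨e1, e2⟩
    exact hkl ⟨Sum.inl.inj e1, Sum.inr.inj e2⟩
  · rintro ⟨e1, e2⟩
    rw [Sum.swap_inr] at e1
    rw [Sum.swap_inl] at e2
    exact hkl ⟨Sum.inl.inj e1, Sum.inr.inj e2⟩

/-- the long simple root. -/
theorem simp_long {i : Fin m} (hi : i.val + 1 = m) : S.Simp (Sum.inl i) (Sum.inr i) := by
  have hpq : (Sum.inl i : Fin m ⊕ Fin m) ≠ Sum.inr i := by simp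
  refine ⟨hpq, by simp only [rk_inl, rk_inr]; omega, fun v hv => S.wl_mem_Ws' hi hv, ?_, ?_⟩
  · intro g hg
    obtain ⟨v, hv, a, ha, rfl⟩ := S.Ut_eq_mul hg
    have hv' : v ∈ S.VT (insert (i, i) (Finset.univ.erase (i, i))) := by
      rw [Finset.insert_erase (Finset.mem_univ _)]
      exact S.Vt_le_VT hv
    obtain ⟨t, b, hb, rfl⟩ := S.VT_step hv'
    have hconj : MulAut.conj (S.x (Sum.inl i) (Sum.inr i) t) a ∈ S.Up (Sum.inl i) (Sum.inr i) := by
      refine S.toSD.XR_induction_left (P := fun a => MulAut.conj (S.x (Sum.inl i) (Sum.inr i) t) a ∈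
        S.Up (Sum.inl i) (Sum.inr i)) ?_ ?_ ha
      · rw [map_one]
        exact one_mem _
      · rintro k l s g hkl hlt hg ih
        rw [map_mul]
        refine mul_mem ?_ ih
        have hkl' : (Sum.inl k : Fin m ⊕ Fin m) ≠ Sum.inl l := fun e => hkl (Sum.inl.inj e)
        have hmemA : S.x (Sum.inl k) (Sum.inl l) s ∈ S.Up (Sum.inl i) (Sum.inr i) :=
          S.x_mem_XR hkl' ⟨by simp only [rk_inl]; exact hlt, by simp, by simp⟩ s
        rw [S.toSD_x]
        by_cases hli : l = i
        · subst hli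
          have hk := k.isLt
          have hl := l.isLt
          have hkl2 : k.val < l.val := hlt
          have e := S.cj3' (a := Sum.inl k) (b := Sum.inl l) hkl' (by simp) s t
          simp only [Sum.swap_inl] at e
          rw [e]
          refine mul_mem (mul_mem (S.x_mem_XR (by simp) ⟨?_, ?_, ?_⟩ _)
            (S.x_mem_XR (by simp) ⟨?_, ?_, ?_⟩ _)) hmemA
          · simp only [rk_inl, rk_inr]; omega
          · rintro ⟨e1, _⟩
            exact hkl (Sum.inl.inj e1)
          · rintro ⟨e1, _⟩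
            rw [Sum.swap_inr] at e1
            exact hkl (Sum.inl.inj e1)
          · simp only [rk_inl, rk_inr]; omega
          · rintro ⟨e1, _⟩
            exact hkl (Sum.inl.inj e1)
          · rintro ⟨e1, _⟩
            rw [Sum.swap_inr] at e1
            exact hkl (Sum.inl.inj e1)
        · rw [S.cj_comm hpq hkl' (by simp) (fun e => hli (Sum.inl.inj e).symm)
            (by simp only [Sum.swap_inl]; exact fun e => hli (Sum.inr.inj e).symm) (by simp)]
          exact hmemA
    refine ⟨b * MulAut.conj (S.x (Sum.inl i) (Sum.inr i) t) a,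
      mul_mem (S.VT_le_Up_long i hb) hconj, t, ?_⟩
    rw [S.Vt_comm (S.xV_mem i i t) (S.VT_le_Vt _ hb), MulAut.conj_apply]
    group
  · intro v hv u₁ hu₁
    have hm2 : 2 ≤ m ∨ m < 2 := le_or_gt 2 m
    refine S.XR_induction_left (P := fun u₁ => MulAut.conj (S.w (Sum.inl i) (Sum.inr i) v) u₁ ∈ S.Ut)
      ?_ ?_ hu₁
    · rw [map_one]
      exact one_mem _
    · rintro c d s g hcd ⟨hlt, hn1, hn2⟩ hg ih
      rw [map_mul]
      refine mul_mem ?_ ih
      rcases hm2 with hm2 | hm2
      · have e := (S.mon_w_long hm2 (a := Sum.inl i) hv).2 c d hcd s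
        rw [Sum.swap_inl] at e
        rw [e]
        refine S.x_mem_XR (fun e => hcd ((sgL _).injective e)) ?_ _
        rw [rk_sgL_simple hi, rk_sgL_simple hi]
        have hc := rk_lt c
        have hd := rk_lt d
        have hn1' : ¬ (rk c = m - 1 ∧ rk d = m) := by
          rintro ⟨e1, e2⟩
          refine hn1 ⟨rk_injective ?_, rk_injective ?_⟩
          · rw [e1, rk_inl]; omega
          · rw [e2, rk_inr]; omega
        split_ifs <;> omega
      · -- `m = 1`: no other positive root
        exfalso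
        have hc := rk_lt c
        have hd := rk_lt d
        apply hn1
        refine ⟨rk_injective ?_, rk_injective ?_⟩
        · rw [rk_inl]; omega
        · rw [rk_inr]; omega

theorem allSimp : S.AllSimp := ⟨fun i j hij => S.simp_short hij, fun i hi => S.simp_long hi⟩

end CD

end Cfsg.Agent.Helper7.Cd
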