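import Mathlib
import Cfsg.Agent.Helper7.CdL

set_option autoImplicit false
set_option linter.unusedSectionVars false
set_option linter.unusedVariables false

/-!
# The kernel of the homomorphism to the matrices is central and lies in the monomial subgroup
-/

namespace Cfsg.Agent.Helper7.Cd

open Cfsg.Agent.Helper7.Sl Matrix

variable {m : ℕ} {K : Type*} [Field K] {Γ : Type*} [Group Γ] (S : CD m K Γ)

theorem Xm_apply_self {a b : Fin m ⊕ Fin m} (hab : a ≠ b) (t : K) : Xm a b t a b = t := by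
  unfold Xm
  rw [Matrix.add_apply, Matrix.add_apply, Matrix.one_apply_ne hab, Matrix.single_apply_same, zero_add]
  by_cases h : b = a.swap
  · rw [if_pos h, Matrix.zero_apply, add_zero]
  · rw [if_neg h, Matrix.single_apply_of_ne, add_zero]
    rintro ⟨e1, e2⟩
    exact h e2.symm

namespace CD

/-- an element commuting with the root elements is central. -/
theorem central_of_commute_x
    (hgen : Subgroup.closure {g | ∃ (a b : Fin m ⊕ Fin m) (t : K), a ≠ b ∧ g = S.x a b t} = ⊤) {c : Γ}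
    (h : ∀ a b, a ≠ b → ∀ t : K, S.x a b t * c = c * S.x a b t) (g : Γ) : g * c = c * g := by
  have h1 : Subgroup.closure {g | ∃ (a b : Fin m ⊕ Fin m) (t : K), a ≠ b ∧ g = S.x a b t} ≤
      Subgroup.centralizer {c} := by
    rw [Subgroup.closure_le]
    rintro _ ⟨i, j, t, hij, rfl⟩
    rw [SetLike.mem_coe, Subgroup.mem_centralizer_iff]
    intro d hd
    rw [Set.mem_singleton_iff] at hd
    rw [hd]
    exact (h i j hij t).symm
  have h2 : g ∈ Subgroup.centralizer {c} := h1 (by rw [hgen]; exact Subgroup.mem_top g)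
  rw [Subgroup.mem_centralizer_iff] at h2
  exact (h2 c rfl).symm

/-- a monomial element with trivial coefficients and permutation is central. -/
theorem Mon.central
    (hgen : Subgroup.closure {g | ∃ (a b : Fin m ⊕ Fin m) (t : K), a ≠ b ∧ g = S.x a b t} = ⊤) {w : Γ}
    {σ : Equiv.Perm (Fin m ⊕ Fin m)} {μ : Fin m ⊕ Fin m → K} (hM : S.Mon w σ μ) (hσ : ∀ i, σ i = i)
    (hμ : ∀ i j, i ≠ j → μ i * (μ j)⁻¹ = 1) (g : Γ) : g * w = w * g := by
  apply S.central_of_commute_x hgen
  intro i j hij t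
  have e := hM.mul_x S hij t
  rw [hσ i, hσ j, hμ i j hij, one_mul] at e
  exact e.symm

section phi

variable (φ : Γ →* Matrix (Fin m ⊕ Fin m) (Fin m ⊕ Fin m) K)
  (hφ : ∀ a b, a ≠ b → ∀ t, φ (S.x a b t) = Xm a b t)

include hφ in
theorem mon_ker
    (hgen : Subgroup.closure {g | ∃ (a b : Fin m ⊕ Fin m) (t : K), a ≠ b ∧ g = S.x a b t} = ⊤) {w : Γ}
    {σ : Equiv.Perm (Fin m ⊕ Fin m)} {μ : Fin m ⊕ Fin m → K} (hM : S.Mon w σ μ) {v : Γ} (hv : v ∈ S.Ut)
    (hw : φ w = φ v) : (∀ g, g * w = w * g) ∧ φ w = 1 ∧ ∀ i, σ i = i := by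
  obtain ⟨hb1, hb2⟩ := S.Ut_shape φ hφ hv
  rw [← hw] at hb1 hb2
  have hrel : ∀ i j, i ≠ j → φ w * Xm i j 1 = Xm (σ i) (σ j) (μ i * (μ j)⁻¹ * 1) * φ w := by
    intro i j hij
    have e := hM.mul_x S hij 1
    have hσ : σ i ≠ σ j := fun e => hij (σ.injective e)
    have e2 := congrArg φ e
    rw [map_mul, map_mul, hφ i j hij, hφ _ _ hσ] at e2
    exact e2
  -- the relations for the long roots
  have hlong : ∀ (a r : Fin m ⊕ Fin m), φ w r a.swap + φ w r a =
      φ w r a.swap + if r = σ a then μ a * (μ a.swap)⁻¹ * 1 * φ w (σ a).swap a.swap else 0 := by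
    intro a r
    have e := congrFun (congrFun (hrel a a.swap (ne_swap a)) r) a.swap
    rw [mul_Xm_apply, Xm_mul_apply, if_pos rfl, if_pos rfl, hM.1.bar, if_pos rfl, mul_one, add_zero,
      add_zero] at e
    exact e
  have hσ : ∀ i, σ i = i := by
    intro a
    have e := hlong a a
    rw [hb1 a] at e
    by_contra hne
    rw [if_neg (fun h => hne h.symm), add_zero] at e
    have : (1 : K) = 0 := by linear_combination e
    exact one_ne_zero this
  have hoff : ∀ r a : Fin m ⊕ Fin m, r ≠ a → φ w r a = 0 := by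
    intro r a hra
    have e := hlong a r
    rw [hσ a, if_neg hra, add_zero] at e
    linear_combination e
  have hw1 : φ w = 1 := by
    ext r a
    by_cases hra : r = a
    · rw [hra, hb1 a, Matrix.one_apply_eq]
    · rw [Matrix.one_apply_ne hra, hoff r a hra]
  have hcoef : ∀ i j, i ≠ j → μ i * (μ j)⁻¹ = 1 := by
    intro i j hij
    have e := congrFun (congrFun (hrel i j hij) i) j
    rw [hw1, mul_one, Matrix.one_mul, hσ i, hσ j, Xm_apply_self hij, Xm_apply_self hij] at e
    rw [mul_one] at e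
    exact e.symm
  exact ⟨hM.central S hgen hσ hcoef, hw1, hσ⟩

include hφ in
/-- **the kernel of the homomorphism to the matrices is central and contained in the monomial subgroup of the simple roots.** -/
theorem ker_central (hm : 2 ≤ m)
    (hgen : Subgroup.closure {g | ∃ (a b : Fin m ⊕ Fin m) (t : K), a ≠ b ∧ g = S.x a b t} = ⊤) {c : Γ}
    (hc : φ c = 1) : c ∈ S.Ws ∧ ∀ g, g * c = c * g := by
  obtain ⟨u, hu, wn, hwn, u', hu', rfl⟩ := S.bruhat hm S.allSimp hgen c
  obtain ⟨σ, a, hM⟩ := S.exists_mon_of_mem_Wt hm (S.Ws_le_Wt hwn)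
  have hv : u⁻¹ * u'⁻¹ ∈ S.Ut := mul_mem (inv_mem hu) (inv_mem hu')
  have hw : φ wn = φ (u⁻¹ * u'⁻¹) := by
    have e : wn = u⁻¹ * (u * wn * u') * u'⁻¹ := by group
    rw [e, map_mul, map_mul, hc, mul_one, ← map_mul]
  obtain ⟨hcen, hw1, _⟩ := S.mon_ker φ hφ hgen hM hv hw
  have e1 : u * wn * u' = wn * (u * u') := by
    rw [hcen u, mul_assoc]
  have e2 : φ (u * u') = 1 := by
    rw [e1, map_mul, hw1, one_mul] at hc
    exact hc
  have e3 := S.Ut_inj φ hφ (mul_mem hu hu') e2
  rw [e1, e3, mul_one]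
  exact ⟨hwn, hcen⟩

end phi

end CD

end Cfsg.Agent.Helper7.Cd
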