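import Mathlib
import Cfsg.Agent.Helper7.CdN

set_option autoImplicit false
set_option linter.unusedSectionVars false
set_option linter.unusedVariables false

/-!
# The elements `h_pq(t)` act diagonally, and over a finite field they are multiplicative in `t`
-/

namespace Cfsg.Agent.Helper7.Cd

open Matrix

variable {m : ℕ} {K : Type*} [Field K] {Γ : Type*} [Group Γ] (S : CD m K Γ)

/-- the coefficients of `h_aā(t)`. -/
def muHL (a : Fin m ⊕ Fin m) (t : K) (c : Fin m ⊕ Fin m) : K :=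
  if c = a then t else if c = a.swap then t⁻¹ else 1

/-- the coefficients of `h_ab(t)`, for a short root. -/
def muHS (a b : Fin m ⊕ Fin m) (t : K) (c : Fin m ⊕ Fin m) : K :=
  if c = a then t else if c = b then t⁻¹ else if c = a.swap then t⁻¹ else if c = b.swap then t else 1

/-- the coefficients of `h_pq(t)`. -/
def muH (p q : Fin m ⊕ Fin m) (t : K) : Fin m ⊕ Fin m → K :=
  if q = p.swap then muHL p t else muHS p q t

theorem muH_mul (p q : Fin m ⊕ Fin m) (t u : K) (c : Fin m ⊕ Fin m) :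
    muH p q t c * muH p q u c = muH p q (t * u) c := by
  unfold muH
  by_cases h : q = p.swap
  · rw [if_pos h, if_pos h, if_pos h]
    unfold muHL
    split_ifs
    · rfl
    · rw [mul_inv]
    · rw [mul_one]
  · rw [if_neg h, if_neg h, if_neg h]
    unfold muHS
    split_ifs
    · rfl
    · rw [mul_inv]
    · rw [mul_inv]
    · rfl
    · rw [mul_one]

theorem muH_ne_zero (p q : Fin m ⊕ Fin m) {t : K} (ht : t ≠ 0) (c : Fin m ⊕ Fin m) :
    muH p q t c ≠ 0 := by
  unfold muH
  by_cases h : q = p.swap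
  · rw [if_pos h]
    unfold muHL
    split_ifs
    · exact ht
    · exact inv_ne_zero ht
    · exact one_ne_zero
  · rw [if_neg h]
    unfold muHS
    split_ifs
    · exact ht
    · exact inv_ne_zero ht
    · exact inv_ne_zero ht
    · exact ht
    · exact one_ne_zero

theorem sgS_mul_self {a b : Fin m ⊕ Fin m} (hab : a ≠ b) (hab' : a ≠ b.swap) : sgS a b * sgS a b = 1 := by
  apply Equiv.ext
  intro c
  rw [Equiv.Perm.mul_apply, Equiv.Perm.one_apply]
  rcases idx_cases4 a b c with rfl | rfl | rfl | rfl | ⟨h1, h2, h3, h4⟩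
  · rw [sgS_a hab hab', sgS_b hab hab']
  · rw [sgS_b hab hab', sgS_a hab hab']
  · rw [sgS_a' hab hab', sgS_b' hab hab']
  · rw [sgS_b' hab hab', sgS_a' hab hab']
  · rw [sgS_out h1 h2 h3 h4, sgS_out h1 h2 h3 h4]

namespace CD

theorem mon_h_long (hm : 2 ≤ m) {a : Fin m ⊕ Fin m} {t : K} (ht : t ≠ 0) :
    S.Mon (S.h a a.swap t) 1 (muHL a t) := by
  have hm1 : (-1 : K) ≠ 0 := neg_ne_zero.mpr one_ne_zero
  have h1 := (S.mon_w_long hm (a := a) ht).mul S (S.mon_w_long hm (a := a) hm1)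
  refine h1.congr S (Equiv.swap_mul_self a a.swap) ?_
  intro c
  unfold muHL
  rcases idx_cases2 a c with rfl | rfl | ⟨h3, h4⟩
  · rw [sgL_a, muL_a', muL_a, if_pos rfl]
    rw [inv_neg, inv_one, neg_neg, mul_one]
  · rw [sgL_a', muL_a, muL_a', if_neg (swap_ne a), if_pos rfl]
    ring
  · rw [sgL_out h3 h4, muL_out h3 h4, muL_out h3 h4, if_neg h3, if_neg h4, mul_one]

theorem mon_h_short {a b : Fin m ⊕ Fin m} (hab : a ≠ b) (hab' : a ≠ b.swap) {t : K} (ht : t ≠ 0) :
    S.Mon (S.h a b t) 1 (muHS a b t) := by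
  have hba' : b ≠ a.swap := fun e => hab' (by rw [e, Sum.swap_swap])
  have hm1 : (-1 : K) ≠ 0 := neg_ne_zero.mpr one_ne_zero
  have h1 := (S.mon_w_short hab hab' ht).mul S (S.mon_w_short hab hab' hm1)
  refine h1.congr S (sgS_mul_self hab hab') ?_
  intro c
  have hδ := ep_mul_sq (K := K) a b
  unfold muHS
  rcases idx_cases4 a b c with rfl | rfl | rfl | rfl | ⟨h3, h4, h5, h6⟩
  · rw [sgS_a hab hab', muS_b hab, muS_a, if_pos rfl]
    rw [inv_neg, inv_one, neg_neg, mul_one]
  · rw [sgS_b hab hab', muS_a, muS_b hab, if_neg hab.symm, if_pos rfl]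
    ring
  · rw [sgS_a' hab hab', muS_b' hab hab', muS_a' hab', if_neg (swap_ne a),
      if_neg (fun e => hab' (by rw [← e, Sum.swap_swap])), if_pos rfl]
    linear_combination t⁻¹ * hδ
  · rw [sgS_b' hab hab', muS_a' hab', muS_b' hab hab', if_neg (fun e => hab' e.symm),
      if_neg (swap_ne b), if_neg (swap_ne_swap hab.symm), if_pos rfl]
    rw [inv_neg, inv_one]
    linear_combination t * hδ
  · rw [sgS_out h3 h4 h5 h6, muS_out h3 h4 h5 h6, muS_out h3 h4 h5 h6, if_neg h3, if_neg h4, if_neg h5,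
      if_neg h6, mul_one]

/-- the elements `h_pq(t)` act diagonally. -/
theorem mon_h (hm : 2 ≤ m) {p q : Fin m ⊕ Fin m} (hpq : p ≠ q) {t : K} (ht : t ≠ 0) :
    S.Mon (S.h p q t) 1 (muH p q t) := by
  unfold muH
  by_cases h : q = p.swap
  · rw [if_pos h]
    subst h
    exact S.mon_h_long hm ht
  · rw [if_neg h]
    exact S.mon_h_short hpq (fun e => h (by rw [e, Sum.swap_swap])) ht

/-- the symbols. -/
def smb (p q : Fin m ⊕ Fin m) (t u : K) : Γ := S.h p q t * S.h p q u * (S.h p q (t * u))⁻¹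

theorem hb_mul_eq (p q : Fin m ⊕ Fin m) (t u : K) :
    S.h p q t * S.h p q u = S.smb p q t u * S.h p q (t * u) := by
  unfold smb; group

/-- the symbols are central. -/
theorem smb_central (hm : 2 ≤ m)
    (hgen : Subgroup.closure {g | ∃ (a b : Fin m ⊕ Fin m) (t : K), a ≠ b ∧ g = S.x a b t} = ⊤)
    {p q : Fin m ⊕ Fin m} (hpq : p ≠ q) {t u : K} (ht : t ≠ 0) (hu : u ≠ 0) (g : Γ) :
    g * S.smb p q t u = S.smb p q t u * g := by
  have hM := ((S.mon_h hm hpq ht).mul S (S.mon_h hm hpq hu)).mul S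
    ((S.mon_h hm hpq (mul_ne_zero ht hu)).inv S)
  unfold smb
  refine hM.central S hgen (fun i => by simp) ?_ g
  intro i j hij
  have key : ∀ i : Fin m ⊕ Fin m, muH p q t i * muH p q u i * (muH p q (t * u) i)⁻¹ = 1 := by
    intro i
    rw [muH_mul, mul_inv_cancel₀ (muH_ne_zero p q (mul_ne_zero ht hu) i)]
  simp only [Equiv.Perm.one_apply, inv_one]
  rw [key i, key j, inv_one, mul_one]

/-- **over a finite field the elements `h_pq(t)` are multiplicative in `t`.** -/
theorem h_mul_of_finite [Finite K] (hm : 2 ≤ m)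
    (hgen : Subgroup.closure {g | ∃ (a b : Fin m ⊕ Fin m) (t : K), a ≠ b ∧ g = S.x a b t} = ⊤)
    {p q : Fin m ⊕ Fin m} (hpq : p ≠ q) {t u : K} (ht : t ≠ 0) (hu : u ≠ 0) :
    S.h p q t * S.h p q u = S.h p q (t * u) := by
  classical
  cases nonempty_fintype K
  have hcen : ∀ {a b : K}, a ≠ 0 → b ≠ 0 → ∀ g : Γ, g * S.smb p q a b = S.smb p q a b * g := by
    intro a b ha hb g
    exact S.smb_central hm hgen hpq ha hb g
  -- a generator of the multiplicative group
  obtain ⟨v, hv⟩ := IsCyclic.exists_generator (α := Kˣ)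
  have hv0 : (v : K) ≠ 0 := Units.ne_zero v
  have hpow : ∀ a : K, a ≠ 0 → ∃ k : ℕ, a = (v : K) ^ k := by
    intro a ha
    have h1 : Units.mk0 a ha ∈ Submonoid.powers v :=
      (isOfFinOrder_of_finite v).mem_powers_iff_mem_zpowers.mpr (hv _)
    obtain ⟨k, hk⟩ := h1
    refine ⟨k, ?_⟩
    have := congrArg Units.val hk
    rw [Units.val_pow_eq_pow_val, Units.val_mk0] at this
    exact this.symm
  -- `h(v^k)` is a central multiple of `h(v)^k`
  have hP : ∀ k : ℕ, ∃ z : Γ, (∀ g : Γ, g * z = z * g) ∧ S.h p q ((v : K) ^ k) = z * S.h p q v ^ k := by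
    intro k
    induction k with
    | zero =>
      refine ⟨1, fun g => by rw [mul_one, one_mul], ?_⟩
      rw [pow_zero, pow_zero, S.h_one hpq, one_mul]
    | succ k ih =>
      obtain ⟨z, hz, e⟩ := ih
      have e1 := S.hb_mul_eq p q (v : K) ((v : K) ^ k)
      refine ⟨(S.smb p q (v : K) ((v : K) ^ k))⁻¹ * z, fun g => ?_, ?_⟩
      · have hc := hcen hv0 (pow_ne_zero k hv0) g
        have hc' : g * (S.smb p q (v : K) ((v : K) ^ k))⁻¹ = (S.smb p q (v : K) ((v : K) ^ k))⁻¹ * g := by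
          rw [eq_inv_mul_iff_mul_eq, ← mul_assoc, ← hc, mul_assoc, mul_inv_cancel, mul_one]
        rw [← mul_assoc, hc', mul_assoc, hz g, mul_assoc]
      · rw [pow_succ', ← inv_mul_eq_iff_eq_mul.mpr e1, e, pow_succ', ← mul_assoc, ← mul_assoc,
          mul_assoc _ (S.h p q (v : K)) z, hz (S.h p q (v : K))]
        simp only [mul_assoc]
  -- all `h(t)` commute
  have hQ : ∀ {a b : K}, a ≠ 0 → b ≠ 0 → S.h p q a * S.h p q b = S.h p q b * S.h p q a := by
    intro a b ha hb
    obtain ⟨k, rfl⟩ := hpow a ha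
    obtain ⟨j, rfl⟩ := hpow b hb
    obtain ⟨z, hz, e⟩ := hP k
    obtain ⟨z', hz', e'⟩ := hP j
    rw [e, e']
    have h1 : z * S.h p q ↑v ^ k * (z' * S.h p q ↑v ^ j) = (z * z') * (S.h p q ↑v ^ k * S.h p q ↑v ^ j) := by
      rw [mul_assoc z, ← mul_assoc (S.h p q ↑v ^ k), hz' (S.h p q ↑v ^ k)]; simp only [mul_assoc]
    have h2 : z' * S.h p q ↑v ^ j * (z * S.h p q ↑v ^ k) = (z' * z) * (S.h p q ↑v ^ j * S.h p q ↑v ^ k) := by
      rw [mul_assoc z', ← mul_assoc (S.h p q ↑v ^ j), hz (S.h p q ↑v ^ j)]; simp only [mul_assoc]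
    rw [h1, h2, hz' z, ← pow_add, ← pow_add, add_comm]
  -- `h(t² u) = h(u) h(t²)`
  have hF1 : ∀ {a b : K}, a ≠ 0 → b ≠ 0 → S.h p q (a ^ 2 * b) = S.h p q b * S.h p q (a ^ 2) := by
    intro a b ha hb
    have e := S.hb_conj_hb' hm hpq ha b
    rw [hQ ha hb, mul_inv_cancel_right] at e
    rw [e, inv_mul_cancel_right]
  have hS : ∀ {a b : K}, a ≠ 0 → b ≠ 0 → S.smb p q a b = S.smb p q b a := by
    intro a b ha hb
    unfold smb
    rw [hQ ha hb, mul_comm a b]
  have hA : ∀ {a b c : K}, a ≠ 0 → b ≠ 0 → c ≠ 0 → S.smb p q a (c ^ 2 * b) = S.smb p q a b := by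
    intro a b c ha hb hc
    unfold smb
    have e1 : a * (c ^ 2 * b) = c ^ 2 * (a * b) := by ring
    rw [e1, hF1 hc hb, hF1 hc (mul_ne_zero ha hb)]
    group
  have hA' : ∀ {a b c : K}, a ≠ 0 → b ≠ 0 → c ≠ 0 → S.smb p q (c ^ 2 * a) b = S.smb p q a b := by
    intro a b c ha hb hc
    rw [hS (mul_ne_zero (pow_ne_zero 2 hc) ha) hb, hA hb ha hc, hS hb ha]
  have hone : ∀ {a : K}, a ≠ 0 → S.smb p q a 1 = 1 := by
    intro a ha
    unfold smb
    rw [S.h_one hpq, mul_one, mul_one, mul_inv_cancel]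
  -- the classes modulo squares
  have hcls : ∀ a : K, a ≠ 0 → ∃ c : K, c ≠ 0 ∧ (a = c ^ 2 ∨ a = c ^ 2 * v) := by
    intro a ha
    obtain ⟨k, rfl⟩ := hpow a ha
    rcases Nat.even_or_odd' k with ⟨j, rfl | rfl⟩
    · exact ⟨(v : K) ^ j, pow_ne_zero j hv0, Or.inl (by rw [← pow_mul, mul_comm])⟩
    · exact ⟨(v : K) ^ j, pow_ne_zero j hv0, Or.inr (by rw [← pow_mul, pow_succ, mul_comm j 2])⟩
  -- the symbol of the generator
  have hvv : S.smb p q (v : K) (v : K) = 1 := by
    by_cases hsq : IsSquare (v : K)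
    · obtain ⟨d, hd⟩ := hsq
      have hd0 : d ≠ 0 := by
        intro h; rw [h, mul_zero] at hd; exact hv0 hd
      have : (v : K) = d ^ 2 * 1 := by rw [hd]; ring
      nth_rewrite 2 [this]
      rw [hA hv0 one_ne_zero hd0, hone hv0]
    · have hchar : ringChar K ≠ 2 := fun h => hsq (FiniteField.isSquare_of_char_two h _)
      have hodd := FiniteField.odd_card_of_char_ne_two hchar
      obtain ⟨a, b, hab⟩ := FiniteField.exists_root_sum_quadratic
        (f := (Polynomial.X : Polynomial K) ^ 2)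
        (g := (Polynomial.X : Polynomial K) ^ 2 - Polynomial.C ((v : K)⁻¹))
        (Polynomial.degree_X_pow 2) (Polynomial.degree_X_pow_sub_C (by decide) _) hodd
      simp only [Polynomial.eval_pow, Polynomial.eval_X, Polynomial.eval_sub, Polynomial.eval_C] at hab
      have hab' : a ^ 2 + b ^ 2 = (v : K)⁻¹ := by linear_combination hab
      have ha0 : a ≠ 0 := by
        intro h
        apply hsq
        refine ⟨b⁻¹, ?_⟩
        rw [h] at hab'
        have hb0 : b ≠ 0 := by
          intro hb; rw [hb] at hab'; simp at hab'; exact hv0 hab'.symm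
        field_simp
        have : (v : K) * b ^ 2 = 1 := by
          have := hab'
          field_simp at this
          linear_combination this
        linear_combination this
      have hb0 : b ≠ 0 := by
        intro h
        apply hsq
        refine ⟨a⁻¹, ?_⟩
        rw [h] at hab'
        field_simp
        have : (v : K) * a ^ 2 = 1 := by
          have := hab'
          field_simp at this
          linear_combination this
        linear_combination this
      -- `s = (a² v)⁻¹`, `1 - s⁻¹ = b² v`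
      have hσ : a ^ 2 * (v : K) + b ^ 2 * (v : K) = 1 := by
        have := hab'
        field_simp at this
        linear_combination this
      have hs0 : (a ^ 2 * (v : K))⁻¹ ≠ 0 := inv_ne_zero (mul_ne_zero (pow_ne_zero 2 ha0) hv0)
      have hτ0 : b ^ 2 * (v : K) ≠ 0 := mul_ne_zero (pow_ne_zero 2 hb0) hv0
      have hne1 : (a ^ 2 * (v : K))⁻¹ ≠ 0 := hs0
      have key := S.hb_of_add_eq_one hm hpq hs0
        (u := 1 - (a ^ 2 * (v : K))⁻¹) ?_ (by ring)
      · -- `h(-u) = h(-u/t) h(t)` with `-u/t = b² v`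
        have hs1 : a ^ 2 * (v : K) * (a ^ 2 * (v : K))⁻¹ = 1 :=
          mul_inv_cancel₀ (mul_ne_zero (pow_ne_zero 2 ha0) hv0)
        have e2 : -(1 - (a ^ 2 * (v : K))⁻¹) = b ^ 2 * (v : K) * (a ^ 2 * (v : K))⁻¹ := by
          linear_combination hs1 - (a ^ 2 * (v : K))⁻¹ * hσ
        have e1 : -(1 - (a ^ 2 * (v : K))⁻¹) / (a ^ 2 * (v : K))⁻¹ = b ^ 2 * (v : K) := by
          rw [div_eq_iff hs0]; exact e2
        rw [e1, e2] at key
        have e3 : S.smb p q (b ^ 2 * (v : K)) (a ^ 2 * (v : K))⁻¹ = 1 := by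
          unfold smb
          rw [← key, mul_inv_cancel]
        have e4 : (a ^ 2 * (v : K))⁻¹ = (a⁻¹ * (v : K)⁻¹) ^ 2 * (v : K) := by
          field_simp
        rw [e4, hA (mul_ne_zero (pow_ne_zero 2 hb0) hv0) hv0
          (mul_ne_zero (inv_ne_zero ha0) (inv_ne_zero hv0)), hA' hv0 hv0 hb0] at e3
        exact e3
      · -- `u ≠ 0`
        intro h
        have : (a ^ 2 * (v : K))⁻¹ = 1 := by linear_combination -h
        have h2 : a ^ 2 * (v : K) = 1 := by
          rw [inv_eq_one] at this; exact this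
        have : b ^ 2 * (v : K) = 0 := by linear_combination hσ - h2
        exact hτ0 this
  -- conclusion
  have hfinal : S.smb p q t u = 1 := by
    obtain ⟨c, hc, hct⟩ := hcls t ht
    obtain ⟨e, he, heu⟩ := hcls u hu
    rcases heu with rfl | rfl
    · have : e ^ 2 = e ^ 2 * 1 := by ring
      rw [this, hA ht one_ne_zero he, hone ht]
    · rcases hct with rfl | rfl
      · have : c ^ 2 = c ^ 2 * 1 := by ring
        rw [this, hA' one_ne_zero (mul_ne_zero (pow_ne_zero 2 he) hv0) hc,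
          hS one_ne_zero (mul_ne_zero (pow_ne_zero 2 he) hv0),
          hone (mul_ne_zero (pow_ne_zero 2 he) hv0)]
      · rw [hA (mul_ne_zero (pow_ne_zero 2 hc) hv0) hv0 he, hA' hv0 hv0 hc, hvv]
  rw [S.hb_mul_eq, hfinal, one_mul]


end CD

end Cfsg.Agent.Helper7.Cd
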