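import Mathlib
import Cfsg.Agent.Helper7.CdO

set_option autoImplicit false
set_option linter.unusedSectionVars false
set_option linter.unusedVariables false

/-!
# The subgroup generated by the elements `h_kl(u)`, and the injectivity of the homomorphism to the
matrices on it
-/

namespace Cfsg.Agent.Helper7.Cd

open Matrix

variable {m : ℕ} {K : Type*} [Field K] {Γ : Type*} [Group Γ] (S : CD m K Γ)

namespace CD

/-- the subgroup generated by the elements `h_kl(u)`. -/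
def Ht : Subgroup Γ :=
  Subgroup.closure {g | ∃ (k l : Fin m ⊕ Fin m) (u : K), k ≠ l ∧ u ≠ 0 ∧ g = S.h k l u}

theorem h_mem_Ht {k l : Fin m ⊕ Fin m} (hkl : k ≠ l) {u : K} (hu : u ≠ 0) : S.h k l u ∈ S.Ht :=
  Subgroup.subset_closure ⟨k, l, u, hkl, hu, rfl⟩

theorem Ht_le_Wt : S.Ht ≤ S.Wt := by
  unfold Ht
  rw [Subgroup.closure_le]
  rintro _ ⟨k, l, u, hkl, hu, rfl⟩
  exact mul_mem (S.w_mem_Wt hkl hu) (S.w_mem_Wt hkl (neg_ne_zero.mpr one_ne_zero))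

theorem exists_mon_of_mem_Ht (hm : 2 ≤ m) {g : Γ} (hg : g ∈ S.Ht) :
    ∃ μ : Fin m ⊕ Fin m → K, S.Mon g 1 μ := by
  unfold Ht at hg
  induction hg using Subgroup.closure_induction with
  | mem g hg =>
    obtain ⟨k, l, u, hkl, hu, rfl⟩ := hg
    exact ⟨_, S.mon_h hm hkl hu⟩
  | one => exact ⟨_, S.mon_one⟩
  | mul a b _ _ iha ihb =>
    obtain ⟨c, h⟩ := iha
    obtain ⟨c', h'⟩ := ihb
    exact ⟨_, (h.mul S h').congr S (one_mul 1) (fun _ => rfl)⟩
  | inv a _ ih =>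
    obtain ⟨c, h⟩ := ih
    exact ⟨_, (h.inv S).congr S inv_one (fun _ => rfl)⟩

theorem Ht_conj_mem (hm : 2 ≤ m) {g : Γ} (hg : g ∈ S.Wt) {h : Γ} (hh : h ∈ S.Ht) :
    g * h * g⁻¹ ∈ S.Ht := by
  obtain ⟨σ, a, hM⟩ := S.exists_mon_of_mem_Wt hm hg
  have h1 : S.Ht ≤ S.Ht.comap (MulAut.conj g).toMonoidHom := by
    unfold Ht
    rw [Subgroup.closure_le]
    rintro _ ⟨k, l, u, hkl, hu, rfl⟩
    rw [SetLike.mem_coe, Subgroup.mem_comap]
    change MulAut.conj g (S.h k l u) ∈ _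
    rw [hM.conj_h S hkl hu]
    have hσ : σ k ≠ σ l := fun e => hkl (σ.injective e)
    have hc : a k * (a l)⁻¹ ≠ 0 := mul_ne_zero (hM.1.ne k) (inv_ne_zero (hM.1.ne l))
    exact mul_mem (S.h_mem_Ht hσ (mul_ne_zero hc hu)) (inv_mem (S.h_mem_Ht hσ hc))
  have h2 := h1 hh
  rw [Subgroup.mem_comap] at h2
  exact h2

section relC

variable (hm : 2 ≤ m)
  (hC : ∀ p q : Fin m ⊕ Fin m, p ≠ q → ∀ t u : K, t ≠ 0 → u ≠ 0 →
    S.h p q t * S.h p q u = S.h p q (t * u))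

include hC in
theorem h_inv {p q : Fin m ⊕ Fin m} (hpq : p ≠ q) {t : K} (ht : t ≠ 0) :
    (S.h p q t)⁻¹ = S.h p q t⁻¹ := by
  apply inv_eq_of_mul_eq_one_right
  rw [hC p q hpq t t⁻¹ ht (inv_ne_zero ht), mul_inv_cancel₀ ht, S.h_one hpq]

include hC in
theorem h_comm_same {p q : Fin m ⊕ Fin m} (hpq : p ≠ q) {t u : K} (ht : t ≠ 0) (hu : u ≠ 0) :
    S.h p q t * S.h p q u = S.h p q u * S.h p q t := by
  rw [hC p q hpq t u ht hu, hC p q hpq u t hu ht, mul_comm]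

include hC in
/-- `h(c t) h(c)⁻¹ = h(t)`. -/
theorem h_mul_inv {p q : Fin m ⊕ Fin m} (hpq : p ≠ q) {c t : K} (hc : c ≠ 0) (ht : t ≠ 0) :
    S.h p q (c * t) * (S.h p q c)⁻¹ = S.h p q t := by
  rw [← hC p q hpq c t hc ht, S.h_comm_same hC hpq hc ht, mul_inv_cancel_right]

include hm hC in
/-- the elements `h_pq(t)` commute with each other. -/
theorem h_comm {p q k l : Fin m ⊕ Fin m} (hpq : p ≠ q) (hkl : k ≠ l) {t u : K} (ht : t ≠ 0)
    (hu : u ≠ 0) : S.h p q t * S.h k l u = S.h k l u * S.h p q t := by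
  have e := (S.mon_h hm hpq ht).conj_h S hkl hu
  rw [Equiv.Perm.one_apply, Equiv.Perm.one_apply, MulAut.conj_apply] at e
  have hc : muH p q t k * (muH p q t l)⁻¹ ≠ 0 :=
    mul_ne_zero (muH_ne_zero p q ht k) (inv_ne_zero (muH_ne_zero p q ht l))
  rw [S.h_mul_inv hC hkl hc hu] at e
  calc S.h p q t * S.h k l u = (S.h p q t * S.h k l u * (S.h p q t)⁻¹) * S.h p q t := by group
    _ = _ := by rw [e]

include hm hC in
/-- `h_lk(t) = h_kl(t)⁻¹`. -/
theorem h_swap {k l : Fin m ⊕ Fin m} (hkl : k ≠ l) {t : K} (ht : t ≠ 0) :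
    S.h l k t = (S.h k l t)⁻¹ := by
  have hm1 : (-1 : K) ≠ 0 := neg_ne_zero.mpr one_ne_zero
  have e1 : S.w l k t = S.w k l (-t⁻¹) := S.w_swap hm hkl ht
  have e2 : S.w l k (-1) = S.w k l 1 := by
    rw [S.w_swap hm hkl hm1, inv_neg, inv_one, neg_neg]
  have e3 : S.w k l (-t⁻¹) = S.h k l (-t⁻¹) * S.w k l 1 := S.w_eq_h_mul hkl _
  have e4 : S.w k l 1 * S.w k l 1 = (S.h k l (-1))⁻¹ := by
    unfold CD.h
    rw [_root_.mul_inv_rev, S.w_inv hkl, neg_neg]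
  have e5 : S.h k l (-t⁻¹) = S.h k l t⁻¹ * S.h k l (-1) := by
    rw [hC k l hkl _ _ (inv_ne_zero ht) hm1, mul_neg, mul_one]
  have e6 : S.h l k t = S.w l k t * S.w l k (-1) := rfl
  rw [e6, e1, e2, e3, mul_assoc, e4, e5, mul_inv_cancel_right, S.h_inv hC hkl ht]

include hm hC in
/-- `h_ab(t) = h_bb̄(t)⁻¹ h_aā(t)`, for a short root. -/
theorem h_short_eq {a b : Fin m ⊕ Fin m} (hab : a ≠ b) (hab' : a ≠ b.swap) {t : K} (ht : t ≠ 0) :
    S.h a b t = (S.h b b.swap t)⁻¹ * S.h a a.swap t := by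
  have hba' : b ≠ a.swap := fun e => hab' (by rw [e, Sum.swap_swap])
  -- the conjugate of `h_bb̄(t)` by `w_ab(1)`
  have e1 := (S.mon_w_short hab hab' (one_ne_zero (α := K))).conj_h S (ne_swap b) ht
  rw [sgS_b hab hab', sgS_b' hab hab', muS_b hab, muS_b' hab hab', MulAut.conj_apply] at e1
  have hc : (1 : K) * (ep K a * ep K b * 1⁻¹)⁻¹ ≠ 0 :=
    mul_ne_zero one_ne_zero (inv_ne_zero (mul_ne_zero (mul_ne_zero (ep_ne_zero a) (ep_ne_zero b))
      (inv_ne_zero one_ne_zero)))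
  rw [S.h_mul_inv hC (ne_swap a) hc ht] at e1
  -- the conjugate of `w_ab(1)` by the inverse of `h_bb̄(t)`
  have hM := (S.mon_h_long hm (a := b) ht).inv S
  have e3 := hM.conj_w S hab (one_ne_zero (α := K))
  rw [inv_one, Equiv.Perm.one_apply, Equiv.Perm.one_apply, MulAut.conj_apply, inv_inv] at e3
  have hc2 : (muHL b t a)⁻¹ * ((muHL b t b)⁻¹)⁻¹ * 1 = t := by
    unfold muHL
    rw [if_neg hab, if_neg hab', if_pos rfl]
    simp
  rw [hc2] at e3
  have e4 : S.w a b 1 * S.h b b.swap t * (S.w a b 1)⁻¹ =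
      S.h b b.swap t * ((S.h b b.swap t)⁻¹ * S.w a b 1 * S.h b b.swap t) * (S.w a b 1)⁻¹ := by group
  rw [e4, e3, S.w_inv hab, mul_assoc] at e1
  have e5 : S.w a b t * S.w a b (-1) = S.h a b t := rfl
  rw [e5] at e1
  rw [← e1, inv_mul_cancel_left]

end relC

theorem w_mem_XR2 {k l : Fin m ⊕ Fin m} (hkl : k ≠ l) (t : K) :
    S.w k l t ∈ S.XR (fun i j => (i = k ∧ j = l) ∨ (i = l ∧ j = k)) := by
  unfold w
  exact mul_mem (mul_mem (S.x_mem_XR hkl (Or.inl ⟨rfl, rfl⟩) _) (S.x_mem_XR hkl.symm (Or.inr ⟨rfl, rfl⟩) _))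
    (S.x_mem_XR hkl (Or.inl ⟨rfl, rfl⟩) _)

theorem h_mem_XR2 {k l : Fin m ⊕ Fin m} (hkl : k ≠ l) (t : K) :
    S.h k l t ∈ S.XR (fun i j => (i = k ∧ j = l) ∨ (i = l ∧ j = k)) := by
  unfold CD.h
  exact mul_mem (S.w_mem_XR2 hkl _) (S.w_mem_XR2 hkl _)

section phi

variable (φ : Γ →* Matrix (Fin m ⊕ Fin m) (Fin m ⊕ Fin m) K)
  (hφ : ∀ a b, a ≠ b → ∀ t, φ (S.x a b t) = Xm a b t)

include hφ in
theorem phi_row_long {a : Fin m ⊕ Fin m} {g : Γ}
    (hg : g ∈ S.XR (fun i j => (i = a ∧ j = a.swap) ∨ (i = a.swap ∧ j = a))) {r : Fin m ⊕ Fin m}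
    (hra : r ≠ a) (hra' : r ≠ a.swap) (c : Fin m ⊕ Fin m) :
    φ g r c = (1 : Matrix (Fin m ⊕ Fin m) (Fin m ⊕ Fin m) K) r c := by
  refine S.XR_induction_left (P := fun g => φ g r c =
    (1 : Matrix (Fin m ⊕ Fin m) (Fin m ⊕ Fin m) K) r c) ?_ ?_ hg
  · rw [map_one]
  · rintro i j t g hij hR hg ih
    have hri : r ≠ i := by
      rcases hR with ⟨rfl, _⟩ | ⟨rfl, _⟩
      · exact hra
      · exact hra'
    have hji : j = i.swap := by
      rcases hR with ⟨rfl, rfl⟩ | ⟨rfl, rfl⟩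
      · rfl
      · rw [Sum.swap_swap]
    rw [map_mul, hφ i j hij, Xm_mul_apply, if_neg hri, if_pos hji, add_zero, add_zero, ih]

include hφ in
theorem Mon.phi_diag {g : Γ} {μ : Fin m ⊕ Fin m → K} (hM : S.Mon g 1 μ) :
    (∀ r c : Fin m ⊕ Fin m, r ≠ c → φ g r c = 0) ∧
      ∀ c d : Fin m ⊕ Fin m, c ≠ d → φ g c c = μ c * (μ d)⁻¹ * φ g d d := by
  have hrel : ∀ i j, i ≠ j → φ g * Xm i j 1 = Xm i j (μ i * (μ j)⁻¹ * 1) * φ g := by
    intro i j hij
    have e := hM.mul_x S hij 1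
    have e2 := congrArg φ e
    rw [map_mul, map_mul, hφ i j hij, Equiv.Perm.one_apply, Equiv.Perm.one_apply, hφ _ _ hij] at e2
    exact e2
  constructor
  · intro r c hrc
    have e := congrFun (congrFun (hrel c c.swap (ne_swap c)) r) c.swap
    rw [mul_Xm_apply, Xm_mul_apply, if_pos rfl, if_pos rfl, if_neg hrc, if_pos rfl, add_zero, add_zero,
      add_zero, mul_one] at e
    linear_combination e
  · intro c d hcd
    have e := congrFun (congrFun (hrel c d hcd) c) d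
    rw [mul_Xm_apply, Xm_mul_apply, if_pos rfl, if_pos rfl, mul_one, mul_one] at e
    by_cases hd : d = c.swap
    · rw [if_pos hd, if_pos hd, add_zero, add_zero] at e
      linear_combination e
    · have hc : c ≠ d.swap := fun e' => hd (by rw [e', Sum.swap_swap])
      rw [if_neg hd, if_neg hd, if_neg hd, if_neg hc, add_zero, add_zero] at e
      linear_combination e

include hφ in
/-- the matrix of `h_aā(t)`. -/
theorem phi_h_long (hm : 2 ≤ m) {a : Fin m ⊕ Fin m} {t : K} (ht : t ≠ 0) :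
    φ (S.h a a.swap t) = Matrix.diagonal (muHL a t) := by
  obtain ⟨b, hab, hab'⟩ := exists_other hm a
  have hba' : b ≠ a.swap := fun e => hab' (by rw [e, Sum.swap_swap])
  obtain ⟨h1, h2⟩ := (S.mon_h_long hm (a := a) ht).phi_diag S φ hφ
  have hb : φ (S.h a a.swap t) b b = 1 := by
    rw [S.phi_row_long φ hφ (S.h_mem_XR2 (ne_swap a) t) hab.symm hba', Matrix.one_apply_eq]
  have hAb : muHL a t b = 1 := by
    unfold muHL
    rw [if_neg hab.symm, if_neg hba']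
  ext r i
  by_cases hri : r = i
  · subst hri
    rw [Matrix.diagonal_apply_eq]
    by_cases hrb : r = b
    · rw [hrb, hb, hAb]
    · rw [h2 r b hrb, hb, hAb, inv_one, mul_one, mul_one]
  · rw [Matrix.diagonal_apply_ne _ hri, h1 r i hri]

end phi

/-- the subgroup generated by the `h_kk̄(t)` with `k` before the `r`-th index. -/
def HL (r : ℕ) : Subgroup Γ :=
  Subgroup.closure {g | ∃ (k : Fin m) (t : K), k.val < r ∧ t ≠ 0 ∧ g = S.h (Sum.inl k) (Sum.inr k) t}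

theorem h_mem_HL {k : Fin m} {r : ℕ} (hkr : k.val < r) {t : K} (ht : t ≠ 0) :
    S.h (Sum.inl k) (Sum.inr k) t ∈ S.HL r :=
  Subgroup.subset_closure ⟨k, t, hkr, ht, rfl⟩

section relC

variable (hm : 2 ≤ m)
  (hC : ∀ p q : Fin m ⊕ Fin m, p ≠ q → ∀ t u : K, t ≠ 0 → u ≠ 0 →
    S.h p q t * S.h p q u = S.h p q (t * u))

include hC in
theorem HL_induction_left {r : ℕ} {P : Γ → Prop} (h1 : P 1)
    (hmul : ∀ (k : Fin m) (t : K) (g : Γ), k.val < r → t ≠ 0 → g ∈ S.HL r → P g →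
      P (S.h (Sum.inl k) (Sum.inr k) t * g)) {g : Γ} (hg : g ∈ S.HL r) : P g := by
  unfold HL at hg
  induction hg using Subgroup.closure_induction_left with
  | one => exact h1
  | mul_left a ha b hb ih =>
    obtain ⟨k, t, hkr, ht, rfl⟩ := ha
    exact hmul k t b hkr ht hb ih
  | inv_mul_cancel a ha b hb ih =>
    obtain ⟨k, t, hkr, ht, rfl⟩ := ha
    rw [S.h_inv hC (by simp) ht]
    exact hmul k t⁻¹ b hkr (inv_ne_zero ht) hb ih

include hm hC in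
theorem hlong_mem_HL (a : Fin m ⊕ Fin m) {t : K} (ht : t ≠ 0) : S.h a a.swap t ∈ S.HL m := by
  rcases a with k | k
  · exact S.h_mem_HL k.isLt ht
  · have e := S.h_swap hm hC (k := Sum.inl k) (l := Sum.inr k) (by simp) ht
    rw [Sum.swap_inr, e]
    exact inv_mem (S.h_mem_HL k.isLt ht)

include hm hC in
theorem Ht_le_HL : S.Ht ≤ S.HL m := by
  unfold Ht
  rw [Subgroup.closure_le]
  rintro _ ⟨k, l, t, hkl, ht, rfl⟩
  by_cases h : l = k.swap
  · subst h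
    exact S.hlong_mem_HL hm hC k ht
  · have hkl' : k ≠ l.swap := fun e => h (by rw [e, Sum.swap_swap])
    rw [S.h_short_eq hm hC hkl hkl' ht]
    exact mul_mem (inv_mem (S.hlong_mem_HL hm hC l ht)) (S.hlong_mem_HL hm hC k ht)

include hm hC in
theorem HL_step {r : ℕ} (hrn : r < m) {g : Γ} (hg : g ∈ S.HL (r + 1)) :
    ∃ (t : K) (b : Γ), t ≠ 0 ∧ b ∈ S.HL r ∧ g = S.h (Sum.inl ⟨r, hrn⟩) (Sum.inr ⟨r, hrn⟩) t * b := by
  have h0 : (Sum.inl (⟨r, hrn⟩ : Fin m) : Fin m ⊕ Fin m) ≠ Sum.inr ⟨r, hrn⟩ := by simp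
  refine S.HL_induction_left hC (P := fun g => ∃ (t : K) (b : Γ), t ≠ 0 ∧ b ∈ S.HL r ∧
    g = S.h (Sum.inl ⟨r, hrn⟩) (Sum.inr ⟨r, hrn⟩) t * b) ?_ ?_ hg
  · exact ⟨1, 1, one_ne_zero, one_mem _, by rw [S.h_one h0, one_mul]⟩
  · rintro k s g hkr hs hg ⟨t, b, ht, hb, rfl⟩
    by_cases h : k.val = r
    · have : k = ⟨r, hrn⟩ := Fin.ext h
      subst this
      exact ⟨s * t, b, mul_ne_zero hs ht, hb, by rw [← mul_assoc, hC _ _ h0 s t hs ht]⟩
    · refine ⟨t, S.h (Sum.inl k) (Sum.inr k) s * b, ht, mul_mem (S.h_mem_HL (by omega) hs) hb, ?_⟩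
      rw [← mul_assoc, S.h_comm hm hC (by simp) h0 hs ht, mul_assoc]

section phi

variable (φ : Γ →* Matrix (Fin m ⊕ Fin m) (Fin m ⊕ Fin m) K)
  (hφ : ∀ a b, a ≠ b → ∀ t, φ (S.x a b t) = Xm a b t)

include hm hC hφ in
theorem HL_shape {r : ℕ} {b : Γ} (hb : b ∈ S.HL r) :
    ∀ k : Fin m, r ≤ k.val → φ b (Sum.inl k) (Sum.inl k) = 1 := by
  refine S.HL_induction_left hC (P := fun b => ∀ k : Fin m, r ≤ k.val →
    φ b (Sum.inl k) (Sum.inl k) = 1) ?_ ?_ hb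
  · intro k _
    rw [map_one, Matrix.one_apply_eq]
  · rintro k s g hkr hs hg ih k' hk'
    have e := S.phi_h_long φ hφ hm (a := Sum.inl k) hs
    rw [Sum.swap_inl] at e
    rw [map_mul, e, Matrix.diagonal_mul, ih k' hk', mul_one]
    unfold muHL
    have : k' ≠ k := by
      intro e
      rw [e] at hk'
      omega
    rw [if_neg (fun e => this (Sum.inl.inj e)), if_neg (by simp)]

include hm hC hφ in
theorem HL_inj : ∀ (r : ℕ), r ≤ m → ∀ g ∈ S.HL r, φ g = 1 → g = 1 := by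
  intro r
  induction r with
  | zero =>
    intro _ g hg _
    refine S.HL_induction_left hC (P := fun g => g = 1) rfl ?_ hg
    rintro k s g hkr hs hg ih
    omega
  | succ r ih =>
    intro hr g hg hφg
    have hrn : r < m := by omega
    obtain ⟨t, b, ht, hb, rfl⟩ := S.HL_step hm hC hrn hg
    have h0 : (Sum.inl (⟨r, hrn⟩ : Fin m) : Fin m ⊕ Fin m) ≠ Sum.inr ⟨r, hrn⟩ := by simp
    have h1 := S.HL_shape hm hC φ hφ hb ⟨r, hrn⟩ (le_refl _)
    have e := congrFun (congrFun hφg (Sum.inl ⟨r, hrn⟩)) (Sum.inl ⟨r, hrn⟩)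
    have e' := S.phi_h_long φ hφ hm (a := Sum.inl ⟨r, hrn⟩) ht
    rw [Sum.swap_inl] at e'
    rw [map_mul, e', Matrix.diagonal_mul, h1, mul_one, Matrix.one_apply_eq] at e
    unfold muHL at e
    rw [if_pos rfl] at e
    rw [e, S.h_one h0, one_mul] at hφg ⊢
    exact ih (by omega) b hb hφg

include hm hC hφ in
/-- the homomorphism to the matrices is injective on `H̃`. -/
theorem Ht_inj {g : Γ} (hg : g ∈ S.Ht) (h : φ g = 1) : g = 1 :=
  S.HL_inj hm hC φ hφ m (le_refl _) g (S.Ht_le_HL hm hC hg) h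

end phi

end relC

end CD

end Cfsg.Agent.Helper7.Cd
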