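import Mathlib
import Cfsg.Agent.Helper7.CdP

set_option autoImplicit false
set_option linter.unusedSectionVars false
set_option linter.unusedVariables false

/-!
# Representatives of the reflections of the simple roots and of the roots `2 e_k`, and the relations
between them modulo `H̃`
-/

namespace Cfsg.Agent.Helper7.Cd

open Matrix

variable {K : Type*} [Field K] {Γ : Type*} [Group Γ]

theorem sgS_inl {m : ℕ} (i j : Fin m) :
    sgS (Sum.inl i : Fin m ⊕ Fin m) (Sum.inl j) = Equiv.sumCongr (Equiv.swap i j) (Equiv.swap i j) := by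
  apply Equiv.ext
  intro c
  unfold sgS
  rw [Equiv.Perm.mul_apply, Sum.swap_inl, Sum.swap_inl]
  rcases c with k | k
  · have e1 : Equiv.swap (Sum.inr i : Fin m ⊕ Fin m) (Sum.inr j) (Sum.inl k) = Sum.inl k :=
      Equiv.swap_apply_of_ne_of_ne (by simp) (by simp)
    rw [e1, Equiv.sumCongr_apply, Sum.map_inl]
    exact (Sum.inl_injective (α := Fin m) (β := Fin m)).swap_apply i j k
  · have e1 : Equiv.swap (Sum.inr i : Fin m ⊕ Fin m) (Sum.inr j) (Sum.inr k) =
        Sum.inr (Equiv.swap i j k) := (Sum.inr_injective (α := Fin m) (β := Fin m)).swap_apply i j k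
    rw [e1, Equiv.swap_apply_of_ne_of_ne (by simp) (by simp), Equiv.sumCongr_apply, Sum.map_inr]

namespace CD

section general

variable {m : ℕ} (S : CD m K Γ)

/-- a subgroup containing the elements `w_pq(v)` of the simple roots contains the `w_kk̄(v)`. -/
theorem wl_mem_of (G₀ : Subgroup Γ)
    (h1 : ∀ i j : Fin m, j.val = i.val + 1 → ∀ v : K, v ≠ 0 → S.w (Sum.inl i) (Sum.inl j) v ∈ G₀)
    (h2 : ∀ i : Fin m, i.val + 1 = m → ∀ v : K, v ≠ 0 → S.w (Sum.inl i) (Sum.inr i) v ∈ G₀) :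
    ∀ (d : ℕ) (k : Fin m), k.val + d + 1 = m → ∀ v : K, v ≠ 0 →
      S.w (Sum.inl k) (Sum.inr k) v ∈ G₀ := by
  intro d
  induction d with
  | zero =>
    intro k hk v hv
    exact h2 k hk v hv
  | succ d ih =>
    intro k hk v hv
    have hk' : k.val + 1 < m := by omega
    have h1' := ih ⟨k.val + 1, hk'⟩ (by simp only; omega) v hv
    have hw := h1 k ⟨k.val + 1, hk'⟩ rfl 1 one_ne_zero
    have hab : (Sum.inl k : Fin m ⊕ Fin m) ≠ Sum.inl ⟨k.val + 1, hk'⟩ := by
      intro e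
      have := congrArg Fin.val (Sum.inl.inj e)
      simp at this
    have hab' : (Sum.inl k : Fin m ⊕ Fin m) ≠ (Sum.inl ⟨k.val + 1, hk'⟩ : Fin m ⊕ Fin m).swap := by simp
    have e := (S.mon_w_short hab hab' (one_ne_zero (α := K))).conj_w S
      (k := Sum.inl ⟨k.val + 1, hk'⟩) (l := Sum.inr ⟨k.val + 1, hk'⟩) (by simp) hv
    have e1 := sgS_b hab hab'
    have e2 := sgS_b' hab hab'
    rw [Sum.swap_inl] at e2
    rw [Sum.swap_inl] at e2
    rw [e1, e2, muS_b hab] at e
    have e3 := muS_b' (K := K) hab hab' 1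
    rw [Sum.swap_inl] at e3
    rw [e3, MulAut.conj_apply] at e
    have e4 : (1 : K) * (ep K (Sum.inl k : Fin m ⊕ Fin m) *
        ep K (Sum.inl ⟨k.val + 1, hk'⟩ : Fin m ⊕ Fin m) * 1⁻¹)⁻¹ * v = v := by
      simp [ep]
    rw [e4] at e
    rw [← e]
    exact mul_mem (mul_mem hw h1') (inv_mem hw)

theorem wl_mem_Ws (k : Fin m) {v : K} (hv : v ≠ 0) : S.w (Sum.inl k) (Sum.inr k) v ∈ S.Ws := by
  have hk' : k.val + (m - 1 - k.val) + 1 = m := by have := k.isLt; omega
  exact S.wl_mem_of S.Ws (fun i j hij v hv => S.ws_mem_Ws hij hv) (fun i hi v hv => S.wl_mem_Ws' hi hv)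
    (m - 1 - k.val) k hk' v hv

/-- the subgroup of the monomial subgroup of the simple roots corresponding to `H̃`. -/
def HtW : Subgroup S.Ws := S.Ht.subgroupOf S.Ws

theorem HtW_normal (hm : 2 ≤ m) : (S.HtW).Normal := by
  constructor
  intro h hh g
  unfold HtW at hh ⊢
  rw [Subgroup.mem_subgroupOf] at hh ⊢
  have := S.Ht_conj_mem hm (S.Ws_le_Wt g.2) hh
  simpa using this

/-- representatives of the reflections of the roots `2 e_k`. -/
def lw (k : Fin m) : Γ := S.w (Sum.inl k) (Sum.inr k) 1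

theorem lw_mem_Ws (k : Fin m) : S.lw k ∈ S.Ws := S.wl_mem_Ws k one_ne_zero

theorem lw_mul_self_mem (k : Fin m) : S.lw k * S.lw k ∈ S.Ht := by
  have hne : (Sum.inl k : Fin m ⊕ Fin m) ≠ Sum.inr k := by simp
  have e : S.lw k * S.lw k = (S.h (Sum.inl k) (Sum.inr k) (-1))⁻¹ := by
    unfold lw CD.h
    rw [_root_.mul_inv_rev, S.w_inv hne, neg_neg]
  rw [e]
  exact inv_mem (S.h_mem_Ht hne (neg_ne_zero.mpr one_ne_zero))

theorem lw_comm (hm : 2 ≤ m) {k l : Fin m} (hkl : k ≠ l) : S.lw k * S.lw l = S.lw l * S.lw k := by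
  have e := (S.mon_w_long hm (a := Sum.inl k) (one_ne_zero (α := K))).conj_w S
    (k := Sum.inl l) (l := Sum.inr l) (by simp) (one_ne_zero (α := K))
  have h1 : (Sum.inl l : Fin m ⊕ Fin m) ≠ Sum.inl k := fun e => hkl (Sum.inl.inj e).symm
  have h2 : (Sum.inl l : Fin m ⊕ Fin m) ≠ (Sum.inl k : Fin m ⊕ Fin m).swap := by simp
  have h3 : (Sum.inr l : Fin m ⊕ Fin m) ≠ Sum.inl k := by simp
  have h4 : (Sum.inr l : Fin m ⊕ Fin m) ≠ (Sum.inl k : Fin m ⊕ Fin m).swap := by
    rw [Sum.swap_inl]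
    exact fun e => hkl (Sum.inr.inj e).symm
  rw [sgL_out h1 h2, sgL_out h3 h4, muL_out h1 h2, muL_out h3 h4, inv_one, mul_one, mul_one,
    MulAut.conj_apply, Sum.swap_inl] at e
  unfold lw
  calc S.w (Sum.inl k) (Sum.inr k) 1 * S.w (Sum.inl l) (Sum.inr l) 1
      = (S.w (Sum.inl k) (Sum.inr k) 1 * S.w (Sum.inl l) (Sum.inr l) 1 *
          (S.w (Sum.inl k) (Sum.inr k) 1)⁻¹) * S.w (Sum.inl k) (Sum.inr k) 1 := by group
    _ = _ := by rw [e]

end general

section cox

variable {n : ℕ} (S : CD (n + 1) K Γ)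

/-- representatives of the reflections of the short simple roots. -/
def sw (i : Fin n) : Γ := S.w (Sum.inl i.castSucc) (Sum.inl i.succ) 1

theorem castSucc_ne_succ (i : Fin n) :
    (Sum.inl i.castSucc : Fin (n + 1) ⊕ Fin (n + 1)) ≠ Sum.inl i.succ := by
  intro e
  have := congrArg Fin.val (Sum.inl.inj e)
  simp at this

theorem castSucc_ne_succ' (i : Fin n) :
    (Sum.inl i.castSucc : Fin (n + 1) ⊕ Fin (n + 1)) ≠ (Sum.inl i.succ : Fin (n + 1) ⊕ Fin (n + 1)).swap := by
  simp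

theorem sw_mem_Ws (i : Fin n) : S.sw i ∈ S.Ws :=
  S.ws_mem_Ws (by simp) one_ne_zero

theorem sw_mul_self_mem (i : Fin n) : S.sw i * S.sw i ∈ S.Ht := by
  have hne := castSucc_ne_succ i
  have e : S.sw i * S.sw i = (S.h (Sum.inl i.castSucc) (Sum.inl i.succ) (-1))⁻¹ := by
    unfold sw CD.h
    rw [_root_.mul_inv_rev, S.w_inv hne, neg_neg]
  rw [e]
  exact inv_mem (S.h_mem_Ht hne (neg_ne_zero.mpr one_ne_zero))

/-- the action of a representative of a short simple reflection on the `w_kl(u)` of the roots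
`e_k - e_l`. -/
theorem sw_conj_w (i : Fin n) {v : K} (hv : v ≠ 0) {k l : Fin (n + 1)} (hkl : k ≠ l) {u : K} (hu : u ≠ 0) :
    MulAut.conj (S.w (Sum.inl i.castSucc) (Sum.inl i.succ) v) (S.w (Sum.inl k) (Sum.inl l) u) =
      S.w (Sum.inl (Equiv.swap i.castSucc i.succ k)) (Sum.inl (Equiv.swap i.castSucc i.succ l))
        (muS (Sum.inl i.castSucc) (Sum.inl i.succ) v (Sum.inl k) *
          (muS (Sum.inl i.castSucc) (Sum.inl i.succ) v (Sum.inl l))⁻¹ * u) := by
  have e := (S.mon_w_short (castSucc_ne_succ i) (castSucc_ne_succ' i) hv).conj_w S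
    (k := Sum.inl k) (l := Sum.inl l) (fun e => hkl (Sum.inl.inj e)) hu
  rw [sgS_inl, Equiv.sumCongr_apply, Equiv.sumCongr_apply, Sum.map_inl, Sum.map_inl] at e
  exact e

theorem muS_inl_out (i : Fin n) (v : K) {k : Fin (n + 1)} (h1 : k ≠ i.castSucc) (h2 : k ≠ i.succ) :
    muS (Sum.inl i.castSucc : Fin (n + 1) ⊕ Fin (n + 1)) (Sum.inl i.succ) v (Sum.inl k) = 1 :=
  muS_out (fun e => h1 (Sum.inl.inj e)) (fun e => h2 (Sum.inl.inj e)) (by simp) (by simp) v

theorem sw_comm {i j : Fin n} (hij : i.val + 2 ≤ j.val) : S.sw i * S.sw j = S.sw j * S.sw i := by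
  have h1 : j.castSucc ≠ i.castSucc := fun e => by
    have := congrArg Fin.val e; simp at this; omega
  have h2 : j.castSucc ≠ i.succ := fun e => by
    have := congrArg Fin.val e; simp at this; omega
  have h3 : j.succ ≠ i.castSucc := fun e => by
    have := congrArg Fin.val e; simp at this; omega
  have h4 : j.succ ≠ i.succ := fun e => by
    have := congrArg Fin.val e; simp at this; omega
  have hj : j.castSucc ≠ j.succ := fun e => by
    have := congrArg Fin.val e; simp at this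
  have e := S.sw_conj_w i (one_ne_zero (α := K)) hj (one_ne_zero (α := K))
  rw [Equiv.swap_apply_of_ne_of_ne h1 h2, Equiv.swap_apply_of_ne_of_ne h3 h4, muS_inl_out i 1 h1 h2,
    muS_inl_out i 1 h3 h4, inv_one, mul_one, mul_one, MulAut.conj_apply] at e
  unfold sw
  calc S.w (Sum.inl i.castSucc) (Sum.inl i.succ) 1 * S.w (Sum.inl j.castSucc) (Sum.inl j.succ) 1
      = (S.w (Sum.inl i.castSucc) (Sum.inl i.succ) 1 * S.w (Sum.inl j.castSucc) (Sum.inl j.succ) 1 *
          (S.w (Sum.inl i.castSucc) (Sum.inl i.succ) 1)⁻¹) *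
          S.w (Sum.inl i.castSucc) (Sum.inl i.succ) 1 := by group
    _ = _ := by rw [e]

theorem sw_braid {i j : Fin n} (hij : j.val = i.val + 1) :
    S.sw i * S.sw j * S.sw i = S.sw j * S.sw i * S.sw j := by
  have hm1 : (-1 : K) ≠ 0 := neg_ne_zero.mpr one_ne_zero
  have hjc : j.castSucc = i.succ := Fin.ext (by simp [hij])
  have hi : i.castSucc ≠ i.succ := fun e => by
    have := congrArg Fin.val e; simp at this
  have hj : j.castSucc ≠ j.succ := fun e => by
    have := congrArg Fin.val e; simp at this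
  have h3 : j.succ ≠ i.castSucc := fun e => by
    have := congrArg Fin.val e; simp at this; omega
  have h4 : j.succ ≠ i.succ := fun e => by
    have := congrArg Fin.val e; simp at this; omega
  have h5 : i.castSucc ≠ j.succ := h3.symm
  have h6 : i.castSucc ≠ j.castSucc := by rw [hjc]; exact hi
  -- `s_i s_j s_i⁻¹ = w_{i,j+1}(1)`
  have e1 := S.sw_conj_w i (one_ne_zero (α := K)) hj (one_ne_zero (α := K))
  rw [hjc, Equiv.swap_apply_right, Equiv.swap_apply_of_ne_of_ne h3 h4, muS_b (castSucc_ne_succ i),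
    muS_inl_out i 1 h3 h4, inv_one, mul_one, mul_one, MulAut.conj_apply] at e1
  -- `s_j⁻¹ s_i s_j = w_{i,j+1}(1)`
  have e2 := S.sw_conj_w j hm1 hi (one_ne_zero (α := K))
  rw [← hjc, Equiv.swap_apply_of_ne_of_ne h6 h5, Equiv.swap_apply_left, muS_inl_out j (-1) h6 h5,
    muS_a] at e2
  have hc : (1 : K) * (-(-1 : K)⁻¹)⁻¹ * 1 = 1 := by norm_num
  rw [hc, MulAut.conj_apply] at e2
  have hjne : (Sum.inl j.castSucc : Fin (n + 1) ⊕ Fin (n + 1)) ≠ Sum.inl j.succ := castSucc_ne_succ j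
  have e3 : S.sw i * S.sw j * (S.sw i)⁻¹ = (S.sw j)⁻¹ * S.sw i * S.sw j := by
    unfold sw
    rw [hjc] at hjne ⊢
    rw [e1]
    rw [hjc] at e2
    rw [← e2, S.w_inv hjne, S.w_inv hjne, neg_neg]
  symm
  calc S.sw j * S.sw i * S.sw j = S.sw j * (S.sw i * S.sw j * (S.sw i)⁻¹) * S.sw i := by group
    _ = S.sw j * ((S.sw j)⁻¹ * S.sw i * S.sw j) * S.sw i := by rw [e3]
    _ = S.sw i * S.sw j * S.sw i := by group

/-- the action of a representative of a short simple reflection on those of the roots `2 e_k`. -/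
theorem sw_conj_lw (i : Fin n) (k : Fin (n + 1)) :
    S.sw i * S.lw k * (S.sw i)⁻¹ = S.lw (Equiv.swap i.castSucc i.succ k) := by
  have hab := castSucc_ne_succ (n := n) i
  have hab' := castSucc_ne_succ' (n := n) i
  have e := (S.mon_w_short hab hab' (one_ne_zero (α := K))).conj_w S
    (k := Sum.inl k) (l := Sum.inr k) (by simp) (one_ne_zero (α := K))
  rw [sgS_inl, Equiv.sumCongr_apply, Equiv.sumCongr_apply, Sum.map_inl, Sum.map_inr,
    MulAut.conj_apply] at e
  unfold sw lw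
  rw [e]
  congr 1
  by_cases h1 : k = i.castSucc
  · subst h1
    rw [muS_a]
    have := muS_a' (K := K) hab' 1
    rw [Sum.swap_inl] at this
    rw [this]
    simp [ep]
  · by_cases h2 : k = i.succ
    · subst h2
      rw [muS_b hab]
      have := muS_b' (K := K) hab hab' 1
      rw [Sum.swap_inl] at this
      rw [this]
      simp [ep]
    · rw [muS_inl_out i 1 h1 h2, muS_out (a := (Sum.inl i.castSucc : Fin (n + 1) ⊕ Fin (n + 1)))
        (b := Sum.inl i.succ) (c := Sum.inr k) (by simp) (by simp)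
        (by rw [Sum.swap_inl]; exact fun e => h1 (Sum.inr.inj e))
        (by rw [Sum.swap_inl]; exact fun e => h2 (Sum.inr.inj e)), inv_one, mul_one, mul_one]

end cox

end CD

end Cfsg.Agent.Helper7.Cd
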