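import Mathlib
import Cfsg.Agent.S2530
import Cfsg.Agent.Helper7.SlI
import Cfsg.Agent.Helper7.CdQ

set_option autoImplicit false
set_option linter.unusedSectionVars false
set_option linter.unusedVariables false

/-!
# The elements of the monomial subgroup of the simple roots acting trivially lie in `H̃`
-/

namespace Cfsg.Agent.Helper7.Cd

open Matrix Cfsg.Agent.Helper7.Sl

variable {K : Type*} [Field K] {Γ : Type*} [Group Γ]

/-- the product of the permutations exchanging `k` and `k̄`, for `k` in a list. -/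
def sgList {m : ℕ} (L : List (Fin m)) : Equiv.Perm (Fin m ⊕ Fin m) :=
  (L.map (fun k => sgL (Sum.inl k : Fin m ⊕ Fin m))).prod

theorem sgList_nil {m : ℕ} : sgList ([] : List (Fin m)) = 1 := rfl

theorem sgList_cons {m : ℕ} (k : Fin m) (L : List (Fin m)) :
    sgList (k :: L) = sgL (Sum.inl k) * sgList L := by
  unfold sgList
  rw [List.map_cons, List.prod_cons]

theorem sgList_apply_inl {m : ℕ} {L : List (Fin m)} (hL : L.Nodup) (j : Fin m) :
    sgList L (Sum.inl j) = if j ∈ L then Sum.inr j else Sum.inl j := by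
  induction L with
  | nil => simp [sgList_nil]
  | cons k L ih =>
    rw [List.nodup_cons] at hL
    rw [sgList_cons, Equiv.Perm.mul_apply, ih hL.2]
    by_cases hjk : j = k
    · subst hjk
      rw [if_neg hL.1, if_pos List.mem_cons_self]
      exact sgL_a
    · have hiff : j ∈ k :: L ↔ j ∈ L := by
        rw [List.mem_cons]
        exact ⟨fun h => h.resolve_left hjk, Or.inr⟩
      by_cases hj : j ∈ L
      · rw [if_pos hj, if_pos (hiff.mpr hj)]
        exact sgL_out (by simp) (by rw [Sum.swap_inl]; exact fun e => hjk (Sum.inr.inj e))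
      · rw [if_neg hj, if_neg (fun h => hj (hiff.mp h))]
        exact sgL_out (fun e => hjk (Sum.inl.inj e)) (by simp)

namespace CD

section cox

variable {n : ℕ} (S : CD (n + 1) K Γ) [hN : (S.HtW).Normal]

/-- the class of an element of the monomial subgroup of the simple roots modulo `H̃`. -/
def cl (g : Γ) (hg : g ∈ S.Ws) : S.Ws ⧸ S.HtW := QuotientGroup.mk ⟨g, hg⟩

theorem cl_mul {a b : Γ} (ha : a ∈ S.Ws) (hb : b ∈ S.Ws) :
    S.cl (a * b) (mul_mem ha hb) = S.cl a ha * S.cl b hb := rfl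

theorem cl_inv {a : Γ} (ha : a ∈ S.Ws) : S.cl a⁻¹ (inv_mem ha) = (S.cl a ha)⁻¹ := rfl

theorem cl_congr {a b : Γ} (hab : a = b) (ha : a ∈ S.Ws) : S.cl a ha = S.cl b (hab ▸ ha) := by
  subst hab
  rfl

theorem cl_eq_one_iff {g : Γ} (hg : g ∈ S.Ws) : S.cl g hg = 1 ↔ g ∈ S.Ht := by
  unfold cl
  rw [QuotientGroup.eq_one_iff]
  unfold HtW
  rw [Subgroup.mem_subgroupOf]

/-- the classes of the short simple reflections. -/
def fq (i : Fin n) : S.Ws ⧸ S.HtW := S.cl (S.sw i) (S.sw_mem_Ws i)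

/-- the classes of the reflections of the roots `2 e_k`. -/
def tq (k : Fin (n + 1)) : S.Ws ⧸ S.HtW := S.cl (S.lw k) (S.lw_mem_Ws k)

theorem fq_mul_self (i : Fin n) : S.fq i * S.fq i = 1 := by
  unfold fq
  rw [← S.cl_mul]
  exact (S.cl_eq_one_iff _).mpr (S.sw_mul_self_mem i)

theorem tq_mul_self (k : Fin (n + 1)) : S.tq k * S.tq k = 1 := by
  unfold tq
  rw [← S.cl_mul]
  exact (S.cl_eq_one_iff _).mpr (S.lw_mul_self_mem k)

theorem tq_comm (hm : 2 ≤ n + 1) (k l : Fin (n + 1)) : S.tq k * S.tq l = S.tq l * S.tq k := by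
  by_cases hkl : k = l
  · rw [hkl]
  · unfold tq
    rw [← S.cl_mul, ← S.cl_mul]
    exact S.cl_congr (S.lw_comm hm hkl) _

theorem fq_mul_tq (i : Fin n) (k : Fin (n + 1)) :
    S.fq i * S.tq k = S.tq (Equiv.swap i.castSucc i.succ k) * S.fq i := by
  have e := S.sw_conj_lw i k
  have e' : S.sw i * S.lw k = S.lw (Equiv.swap i.castSucc i.succ k) * S.sw i := by
    rw [← e]
    group
  unfold fq tq
  rw [← S.cl_mul, ← S.cl_mul]
  exact S.cl_congr e' _

theorem fq_liftable : (CoxeterMatrix.A n).IsLiftable S.fq := by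
  intro i j
  rw [Cfsg.Agent.S2530.A_apply]
  by_cases hij : i = j
  · subst hij
    rw [if_pos rfl, pow_one, S.fq_mul_self]
  · rw [if_neg hij]
    have hne : i.val ≠ j.val := fun h => hij (Fin.ext h)
    by_cases hadj : (j : ℕ) + 1 = i ∨ (i : ℕ) + 1 = j
    · rw [if_pos hadj]
      rcases hadj with h | h
      · apply pow_three_eq_one_of (S.fq_mul_self i) (S.fq_mul_self j)
        unfold fq
        rw [← S.cl_mul, ← S.cl_mul, ← S.cl_mul, ← S.cl_mul]
        exact S.cl_congr (S.sw_braid (i := j) (j := i) h.symm).symm _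
      · apply pow_three_eq_one_of (S.fq_mul_self i) (S.fq_mul_self j)
        unfold fq
        rw [← S.cl_mul, ← S.cl_mul, ← S.cl_mul, ← S.cl_mul]
        exact S.cl_congr (S.sw_braid (i := i) (j := j) h.symm) _
    · rw [if_neg hadj]
      push Not at hadj
      apply pow_two_eq_one_of (S.fq_mul_self i) (S.fq_mul_self j)
      unfold fq
      rw [← S.cl_mul, ← S.cl_mul]
      rcases lt_or_gt_of_ne hne with h | h
      · exact S.cl_congr (S.sw_comm (by omega)) _
      · exact S.cl_congr (S.sw_comm (by omega)).symm _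

/-- the homomorphism from the Coxeter group of type `A` to the quotient. -/
noncomputable def psi : Cfsg.Agent.S2530.W n →* S.Ws ⧸ S.HtW :=
  (Cfsg.Agent.S2530.cs n).lift ⟨S.fq, S.fq_liftable⟩

theorem psi_simple (i : Fin n) : S.psi ((Cfsg.Agent.S2530.cs n).simple i) = S.fq i :=
  (Cfsg.Agent.S2530.cs n).lift_apply_simple S.fq_liftable i

/-- the product of the classes of the reflections of the roots `2 e_k`, for `k` in a list. -/
def tl (L : List (Fin (n + 1))) : S.Ws ⧸ S.HtW := (L.map S.tq).prod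

theorem tl_nil : S.tl [] = 1 := rfl

theorem tl_cons (k : Fin (n + 1)) (L : List (Fin (n + 1))) : S.tl (k :: L) = S.tq k * S.tl L := by
  unfold tl
  rw [List.map_cons, List.prod_cons]

theorem fq_mul_tl (i : Fin n) (L : List (Fin (n + 1))) :
    S.fq i * S.tl L = S.tl (L.map (Equiv.swap i.castSucc i.succ)) * S.fq i := by
  induction L with
  | nil => rw [List.map_nil, S.tl_nil, mul_one, one_mul]
  | cons k L ih =>
    rw [List.map_cons, S.tl_cons, S.tl_cons, ← mul_assoc, S.fq_mul_tq, mul_assoc, ih, mul_assoc]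

theorem tl_erase (hm : 2 ≤ n + 1) {k : Fin (n + 1)} {L : List (Fin (n + 1))} (hk : k ∈ L) :
    S.tq k * S.tl L = S.tl (L.erase k) := by
  induction L with
  | nil => simp at hk
  | cons k' L ih =>
    by_cases hkk : k' = k
    · subst hkk
      rw [List.erase_cons_head, S.tl_cons, ← mul_assoc, S.tq_mul_self, one_mul]
    · have hk' : k ∈ L := by
        rw [List.mem_cons] at hk
        exact hk.resolve_left (fun e => hkk e.symm)
      rw [List.erase_cons_tail (by simpa using hkk), S.tl_cons, S.tl_cons, ← mul_assoc,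
        S.tq_comm hm k k', mul_assoc, ih hk']

theorem exists_nodup (hm : 2 ≤ n + 1) (L : List (Fin (n + 1))) :
    ∃ L' : List (Fin (n + 1)), L'.Nodup ∧ S.tl L' = S.tl L := by
  induction L with
  | nil => exact ⟨[], List.nodup_nil, rfl⟩
  | cons k L ih =>
    obtain ⟨L', hL', e⟩ := ih
    by_cases hk : k ∈ L'
    · exact ⟨L'.erase k, hL'.erase k, by rw [S.tl_cons, ← e, S.tl_erase hm hk]⟩
    · exact ⟨k :: L', List.nodup_cons.mpr ⟨hk, hL'⟩, by rw [S.tl_cons, S.tl_cons, e]⟩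

/-- the classes are products of classes of reflections of the roots `2 e_k` and of an element of the
image of the Coxeter group. -/
theorem exists_tl_psi {g : Γ} (hg : g ∈ S.Ws) :
    ∃ (L : List (Fin (n + 1))) (c : Cfsg.Agent.S2530.W n), S.cl g hg = S.tl L * S.psi c := by
  have key : ∀ (p q : Fin (n + 1) ⊕ Fin (n + 1)) (u : K), u ≠ 0 →
      ((∃ i j : Fin (n + 1), p = Sum.inl i ∧ q = Sum.inl j ∧ j.val = i.val + 1) ∨
        (∃ i : Fin (n + 1), p = Sum.inl i ∧ q = Sum.inr i ∧ i.val + 1 = n + 1)) →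
      ∀ (b : Γ) (hb : b ∈ S.Ws) (g' : Γ), g' = S.w p q u * b → ∀ (hwb : g' ∈ S.Ws),
        (∃ (L : List (Fin (n + 1))) (c : Cfsg.Agent.S2530.W n), S.cl b hb = S.tl L * S.psi c) →
        ∃ (L : List (Fin (n + 1))) (c : Cfsg.Agent.S2530.W n),
          S.cl g' hwb = S.tl L * S.psi c := by
    intro p q u hu hpq b hb g' hg' hwb ⟨L, c, e⟩
    subst hg'
    have hpq' : p ≠ q := by
      rcases hpq with ⟨i, j, rfl, rfl, hij⟩ | ⟨i, rfl, rfl, _⟩
      · intro e
        have := congrArg Fin.val (Sum.inl.inj e)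
        omega
      · simp
    have hw : S.w p q u ∈ S.Ws := Subgroup.subset_closure ⟨p, q, u, hu, hpq, rfl⟩
    have hw1 : S.w p q 1 ∈ S.Ws := Subgroup.subset_closure ⟨p, q, 1, one_ne_zero, hpq, rfl⟩
    have hwm1 : S.w p q (-1) ∈ S.Ws :=
      Subgroup.subset_closure ⟨p, q, -1, neg_ne_zero.mpr one_ne_zero, hpq, rfl⟩
    have hh : S.h p q u ∈ S.Ws := mul_mem hw hwm1
    have e1 : S.cl (S.w p q u * b) hwb = S.cl (S.w p q 1) hw1 * S.cl b hb := by
      have e2 : S.w p q u * b = S.h p q u * (S.w p q 1 * b) := by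
        rw [← mul_assoc, ← S.w_eq_h_mul hpq']
      rw [S.cl_congr e2, S.cl_mul hh (mul_mem hw1 hb), S.cl_mul hw1 hb,
        (S.cl_eq_one_iff hh).mpr (S.h_mem_Ht hpq' hu), one_mul]
    rw [e1, e]
    rcases hpq with ⟨i, j, rfl, rfl, hij⟩ | ⟨i, rfl, rfl, _⟩
    · have hi : i.val < n := by have := j.isLt; omega
      have e3 : i = (⟨i.val, hi⟩ : Fin n).castSucc := Fin.ext rfl
      have e4 : j = (⟨i.val, hi⟩ : Fin n).succ := Fin.ext (by simp [hij])
      have e5 : S.cl (S.w (Sum.inl i) (Sum.inl j) 1) hw1 = S.fq ⟨i.val, hi⟩ := by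
        unfold fq
        apply S.cl_congr
        unfold sw
        rw [← e3, ← e4]
      rw [e5, ← mul_assoc, S.fq_mul_tl, mul_assoc, ← S.psi_simple, ← map_mul]
      exact ⟨_, _, rfl⟩
    · have e5 : S.cl (S.w (Sum.inl i) (Sum.inr i) 1) hw1 = S.tq i := rfl
      rw [e5, ← mul_assoc, ← S.tl_cons]
      exact ⟨_, _, rfl⟩
  unfold Ws at hg
  induction hg using Subgroup.closure_induction_left with
  | one =>
    refine ⟨[], 1, ?_⟩
    rw [S.tl_nil, map_one, mul_one]
    rfl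
  | mul_left a ha b hb ih =>
    obtain ⟨p, q, u, hu, hpq, rfl⟩ := ha
    exact key p q u hu hpq b hb _ rfl _ ih
  | inv_mul_cancel a ha b hb ih =>
    obtain ⟨p, q, u, hu, hpq, rfl⟩ := ha
    have hpq' : p ≠ q := by
      rcases hpq with ⟨i, j, rfl, rfl, hij⟩ | ⟨i, rfl, rfl, _⟩
      · intro e
        have := congrArg Fin.val (Sum.inl.inj e)
        omega
      · simp
    have e0 : (S.w p q u)⁻¹ * b = S.w p q (-u) * b := by rw [S.w_inv hpq']
    exact key p q (-u) (neg_ne_zero.mpr hu) hpq b hb _ e0 _ ih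

/-- the elements whose class is in the image of the Coxeter group act through its permutations. -/
theorem psi_mon (hm : 2 ≤ n + 1) (c : Cfsg.Agent.S2530.W n) :
    ∀ (g : Γ) (hg : g ∈ S.Ws), S.cl g hg = S.psi c →
      ∃ μ : Fin (n + 1) ⊕ Fin (n + 1) → K, S.Mon g
        (Equiv.sumCongr (Cfsg.Agent.S2530.toPerm n c) (Cfsg.Agent.S2530.toPerm n c)) μ := by
  refine (Cfsg.Agent.S2530.cs n).simple_induction_left (p := fun c => ∀ (g : Γ) (hg : g ∈ S.Ws),
    S.cl g hg = S.psi c → ∃ μ : Fin (n + 1) ⊕ Fin (n + 1) → K, S.Mon g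
        (Equiv.sumCongr (Cfsg.Agent.S2530.toPerm n c) (Cfsg.Agent.S2530.toPerm n c)) μ) c ?_ ?_
  · intro g hg h
    rw [map_one] at h
    have := (S.cl_eq_one_iff hg).mp h
    rw [map_one]
    obtain ⟨μ, hM⟩ := S.exists_mon_of_mem_Ht hm this
    refine ⟨μ, hM.congr S ?_ (fun _ => rfl)⟩
    apply Equiv.ext
    intro a
    rcases a with k | k <;> rfl
  · intro c i ih g hg h
    have hg' : (S.sw i)⁻¹ * g ∈ S.Ws := mul_mem (inv_mem (S.sw_mem_Ws i)) hg
    have h' : S.cl ((S.sw i)⁻¹ * g) hg' = S.psi c := by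
      rw [S.cl_mul (inv_mem (S.sw_mem_Ws i)) hg, S.cl_inv (S.sw_mem_Ws i), h, map_mul, S.psi_simple]
      unfold fq
      rw [inv_mul_cancel_left]
    obtain ⟨a, hM⟩ := ih _ hg' h'
    have hM2 := (S.mon_w_short (castSucc_ne_succ i) (castSucc_ne_succ' i) (one_ne_zero (α := K))).mul S hM
    have e : S.w (Sum.inl i.castSucc) (Sum.inl i.succ) 1 * ((S.sw i)⁻¹ * g) = g := by
      unfold sw
      rw [mul_inv_cancel_left]
    rw [e] at hM2
    rw [map_mul, Cfsg.Agent.S2530.toPerm_simple]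
    refine ⟨_, hM2.congr S ?_ (fun _ => rfl)⟩
    rw [sgS_inl]
    apply Equiv.ext
    intro a
    rcases a with k | k <;> rfl

theorem tl_mon (hm : 2 ≤ n + 1) (c : Cfsg.Agent.S2530.W n) :
    ∀ (L : List (Fin (n + 1))) (g : Γ) (hg : g ∈ S.Ws), S.cl g hg = S.tl L * S.psi c →
      ∃ μ : Fin (n + 1) ⊕ Fin (n + 1) → K, S.Mon g (sgList L *
        Equiv.sumCongr (Cfsg.Agent.S2530.toPerm n c) (Cfsg.Agent.S2530.toPerm n c)) μ := by
  intro L
  induction L with
  | nil =>
    intro g hg h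
    rw [S.tl_nil, one_mul] at h
    obtain ⟨μ, hM⟩ := S.psi_mon hm c g hg h
    exact ⟨μ, by rw [sgList_nil, one_mul]; exact hM⟩
  | cons k L ih =>
    intro g hg h
    have hg' : (S.lw k)⁻¹ * g ∈ S.Ws := mul_mem (inv_mem (S.lw_mem_Ws k)) hg
    have h' : S.cl ((S.lw k)⁻¹ * g) hg' = S.tl L * S.psi c := by
      rw [S.cl_mul (inv_mem (S.lw_mem_Ws k)) hg, S.cl_inv (S.lw_mem_Ws k), h, S.tl_cons]
      unfold tq
      rw [mul_assoc, inv_mul_cancel_left]
    obtain ⟨μ, hM⟩ := ih _ hg' h'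
    have hM2 := (S.mon_w_long hm (a := Sum.inl k) (one_ne_zero (α := K))).mul S hM
    have e : S.w (Sum.inl k) (Sum.inl k : Fin (n + 1) ⊕ Fin (n + 1)).swap 1 * ((S.lw k)⁻¹ * g) = g := by
      unfold lw
      rw [Sum.swap_inl, mul_inv_cancel_left]
    rw [e] at hM2
    exact ⟨_, hM2.congr S (by rw [sgList_cons, mul_assoc]) (fun _ => rfl)⟩

/-- **an element of the monomial subgroup of the simple roots lies in `H̃` or acts through a
non-trivial permutation.** -/
theorem exists_cox (hm : 2 ≤ n + 1) {g : Γ} (hg : g ∈ S.Ws) :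
    ∃ (σ : Equiv.Perm (Fin (n + 1) ⊕ Fin (n + 1))) (μ : Fin (n + 1) ⊕ Fin (n + 1) → K),
      S.Mon g σ μ ∧ (σ = 1 → g ∈ S.Ht) := by
  obtain ⟨L₀, c, e₀⟩ := S.exists_tl_psi hg
  obtain ⟨L, hL, eL⟩ := S.exists_nodup hm L₀
  rw [← eL] at e₀
  obtain ⟨μ, hM⟩ := S.tl_mon hm c L g hg e₀
  refine ⟨_, μ, hM, ?_⟩
  intro hσ
  have key : ∀ j : Fin (n + 1), Cfsg.Agent.S2530.toPerm n c j = j ∧ j ∉ L := by
    intro j
    have e1 := congrArg (fun σ : Equiv.Perm (Fin (n + 1) ⊕ Fin (n + 1)) => σ (Sum.inl j)) hσ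
    simp only [Equiv.Perm.mul_apply, Equiv.sumCongr_apply, Sum.map_inl, Equiv.Perm.one_apply] at e1
    rw [sgList_apply_inl hL] at e1
    by_cases hj : Cfsg.Agent.S2530.toPerm n c j ∈ L
    · rw [if_pos hj] at e1
      simp at e1
    · rw [if_neg hj] at e1
      have := Sum.inl.inj e1
      rw [this] at hj
      exact ⟨this, hj⟩
  have hc1 : c = 1 := by
    apply (Cfsg.Agent.S2530.toPerm_bijective n).1
    rw [map_one]
    apply Equiv.ext
    intro j
    rw [(key j).1, Equiv.Perm.one_apply]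
  have hL1 : L = [] := by
    apply List.eq_nil_iff_forall_not_mem.mpr
    intro j
    exact (key j).2
  rw [hc1, hL1, map_one, S.tl_nil, mul_one] at e₀
  exact (S.cl_eq_one_iff hg).mp e₀

end cox

end CD

end Cfsg.Agent.Helper7.Cd
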