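import Mathlib
import Cfsg.Agent.Helper7.CdR

set_option autoImplicit false
set_option linter.unusedSectionVars false
set_option linter.unusedVariables false

/-!
# Over a finite field a homomorphism to the matrices is injective, and groups with the Steinberg
relations of type `C` lying over the symplectic group give sections
-/

namespace Cfsg.Agent.Helper7.Cd

open Matrix

variable {m : ℕ} {K : Type*} [Field K] {Γ : Type*} [Group Γ] (S : CD m K Γ)

namespace CD

section main

variable (φ : Γ →* Matrix (Fin m ⊕ Fin m) (Fin m ⊕ Fin m) K)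
  (hφ : ∀ a b, a ≠ b → ∀ t, φ (S.x a b t) = Xm a b t)

include hφ in
/-- **over a finite field the homomorphism to the matrices is injective.** -/
theorem ker_trivial [Finite K] (hm : 2 ≤ m)
    (hgen : Subgroup.closure {g | ∃ (a b : Fin m ⊕ Fin m) (t : K), a ≠ b ∧ g = S.x a b t} = ⊤) {c : Γ}
    (hc : φ c = 1) : c = 1 := by
  obtain ⟨n, rfl⟩ : ∃ n, m = n + 1 := ⟨m - 1, by omega⟩
  have hC : ∀ p q : Fin (n + 1) ⊕ Fin (n + 1), p ≠ q → ∀ t u : K, t ≠ 0 → u ≠ 0 →
      S.h p q t * S.h p q u = S.h p q (t * u) :=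
    fun p q hpq t u ht hu => S.h_mul_of_finite hm hgen hpq ht hu
  obtain ⟨hcW, hcen⟩ := S.ker_central φ hφ hm hgen hc
  haveI := S.HtW_normal hm
  obtain ⟨σ, a, hM, hσ⟩ := S.exists_cox hm hcW
  have h1 : φ c = φ 1 := by rw [hc, map_one]
  obtain ⟨_, _, hσ1⟩ := S.mon_ker φ hφ hgen hM (one_mem _) h1
  have hσ2 : σ = 1 := Equiv.ext hσ1
  exact S.Ht_inj hm hC φ hφ (hσ hσ2) hc

end main

/-- the subgroup generated by the root elements. -/
def E0 : Subgroup Γ :=
  Subgroup.closure {g | ∃ (a b : Fin m ⊕ Fin m) (t : K), a ≠ b ∧ g = S.x a b t}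

theorem x_mem_E0 {a b : Fin m ⊕ Fin m} (hab : a ≠ b) (t : K) : S.x a b t ∈ S.E0 :=
  Subgroup.subset_closure ⟨a, b, t, hab, rfl⟩

/-- the Steinberg relations in the subgroup generated by the root elements. -/
def restr : CD m K ↥S.E0 where
  x a b t := if h : a ≠ b then ⟨S.x a b t, S.x_mem_E0 h t⟩ else 1
  add := by
    intro a b hab t u
    rw [dif_pos hab, dif_pos hab, dif_pos hab]
    apply Subtype.ext
    exact S.add a b hab t u
  sym := by
    intro a b hab hab' t
    rw [dif_pos hab, dif_pos (swap_ne_swap hab.symm)]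
    apply Subtype.ext
    exact S.sym a b hab hab' t
  comm := by
    intro a b c d hab hcd hbc had hbd hac t u
    rw [dif_pos hab, dif_pos hcd]
    apply Subtype.ext
    exact S.comm a b c d hab hcd hbc had hbd hac t u
  c1 := by
    intro a b c hab hab' hbc hbc' hac hac' t u
    rw [dif_pos hab, dif_pos hbc, dif_pos hac]
    apply Subtype.ext
    exact S.c1 a b c hab hab' hbc hbc' hac hac' t u
  c2 := by
    intro a b hab hab' t u
    have hba' : b ≠ a.swap := fun e => hab' (by rw [e, Sum.swap_swap])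
    rw [dif_pos hab, dif_pos hba', dif_pos (ne_swap a)]
    apply Subtype.ext
    exact S.c2 a b hab hab' t u
  c3 := by
    intro a b hab hab' t u
    rw [dif_pos hab, dif_pos (ne_swap b), dif_pos hab', dif_pos (ne_swap a)]
    apply Subtype.ext
    exact S.c3 a b hab hab' t u

theorem restr_x {a b : Fin m ⊕ Fin m} (hab : a ≠ b) (t : K) :
    ((S.restr.x a b t : ↥S.E0) : Γ) = S.x a b t := by
  change ((if h : a ≠ b then (⟨S.x a b t, S.x_mem_E0 h t⟩ : ↥S.E0) else 1 : ↥S.E0) : Γ) = _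
  rw [dif_pos hab]

theorem restr_gen :
    Subgroup.closure {g | ∃ (a b : Fin m ⊕ Fin m) (t : K), a ≠ b ∧ g = S.restr.x a b t} = ⊤ := by
  rw [eq_top_iff]
  rintro ⟨g, hg⟩ _
  unfold E0 at hg
  induction hg using Subgroup.closure_induction with
  | mem g hg =>
    obtain ⟨a, b, t, hab, rfl⟩ := hg
    apply Subgroup.subset_closure
    refine ⟨a, b, t, hab, ?_⟩
    apply Subtype.ext
    exact (S.restr_x hab t).symm
  | one => exact one_mem _
  | mul a b ha hb iha ihb =>
    have : (⟨a * b, mul_mem ha hb⟩ : ↥S.E0) = ⟨a, ha⟩ * ⟨b, hb⟩ := rfl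
    rw [this]
    exact mul_mem (iha (Subgroup.mem_top _)) (ihb (Subgroup.mem_top _))
  | inv a ha ih =>
    have : (⟨a⁻¹, inv_mem ha⟩ : ↥S.E0) = (⟨a, ha⟩ : ↥S.E0)⁻¹ := rfl
    rw [this]
    exact inv_mem (ih (Subgroup.mem_top _))

/-- **a group with the Steinberg relations of type `C` lying over a group of matrices generated by the
matrices of the root elements gives a section** (finite field, `m ≥ 2`). -/
theorem exists_section [Finite K] (hm : 2 ≤ m) {G : Type*} [Group G] (ψ : Γ →* G)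
    (ι : G →* Matrix (Fin m ⊕ Fin m) (Fin m ⊕ Fin m) K) (hι : Function.Injective ι)
    (hψ : ∀ a b, a ≠ b → ∀ t, ι (ψ (S.x a b t)) = Xm a b t)
    (hgenG : Subgroup.closure {g : G | ∃ (a b : Fin m ⊕ Fin m) (t : K), a ≠ b ∧ g = ψ (S.x a b t)} = ⊤) :
    ∃ τ : G →* Γ, ψ.comp τ = MonoidHom.id G := by
  let ψ₀ : ↥S.E0 →* G := ψ.comp S.E0.subtype
  have hφ : ∀ a b, a ≠ b → ∀ t, (ι.comp ψ₀) (S.restr.x a b t) = Xm a b t := by
    intro a b hab t
    change ι (ψ ((S.restr.x a b t : ↥S.E0) : Γ)) = _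
    rw [S.restr_x hab, hψ a b hab]
  have hinj : Function.Injective ψ₀ := by
    rw [injective_iff_map_eq_one]
    intro g hg
    apply S.restr.ker_trivial (ι.comp ψ₀) hφ hm S.restr_gen
    rw [MonoidHom.comp_apply, hg, map_one]
  have hsurj : Function.Surjective ψ₀ := by
    rw [← MonoidHom.range_eq_top, eq_top_iff, ← hgenG, Subgroup.closure_le]
    rintro _ ⟨a, b, t, hab, rfl⟩
    exact ⟨⟨S.x a b t, S.x_mem_E0 hab t⟩, rfl⟩
  let e := MulEquiv.ofBijective ψ₀ ⟨hinj, hsurj⟩
  refine ⟨S.E0.subtype.comp e.symm.toMonoidHom, ?_⟩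
  apply MonoidHom.ext
  intro g
  change ψ₀ (e.symm g) = g
  exact e.apply_symm_apply g

end CD

end Cfsg.Agent.Helper7.Cd
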