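import Mathlib
import Cfsg.Agent.Helper7.CdI

set_option autoImplicit false
set_option linter.unusedSectionVars false
set_option linter.unusedVariables false
set_option linter.unusedSimpArgs false
set_option linter.unusedTactic false
set_option linter.unreachableTactic false

/-!
# The relations between the matrices of the root elements of the symplectic group
-/

namespace Cfsg.Agent.Helper7.Cd

open Matrix

variable {m : ℕ} {K : Type*} [Field K]

theorem ne_of_rk {p q : Fin m ⊕ Fin m} (h : rk p ≠ rk q) : p ≠ q := fun e => h (by rw [e])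

theorem rk_ne_of_ne {p q : Fin m ⊕ Fin m} (h : p ≠ q) : rk p ≠ rk q := fun e => h (rk_injective e)

theorem single_atoms : ∃ E : Fin m ⊕ Fin m → Fin m ⊕ Fin m → Matrix (Fin m ⊕ Fin m) (Fin m ⊕ Fin m) K,
    ∀ r c x, Matrix.single r c x = x • E r c :=
  ⟨fun r c => Matrix.single r c 1, by intro r c x; rw [Matrix.smul_single, smul_eq_mul, mul_one]⟩

theorem Xm_long (a : Fin m ⊕ Fin m) (t : K) : Xm a a.swap t = 1 + Matrix.single a a.swap t := by
  unfold Xm
  rw [if_pos rfl, add_zero]

theorem Xm_short {a b : Fin m ⊕ Fin m} (h : b ≠ a.swap) (t : K) :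
    Xm a b t = 1 + Matrix.single a b t + Matrix.single b.swap a.swap (-(ep K a * ep K b) * t) := by
  unfold Xm
  rw [if_neg h]

theorem Xm_add {a b : Fin m ⊕ Fin m} (hab : a ≠ b) (t u : K) :
    Xm a b t * Xm a b u = Xm a b (t + u) := by
  have ra := rk_lt a
  have rb := rk_lt b
  have h1 := rk_ne_of_ne hab
  by_cases hb : b = a.swap
  · subst hb
    rw [Xm_long, Xm_long, Xm_long]
    simp only [mul_add, add_mul, mul_one, one_mul]
    simp (disch := (apply ne_of_rk; (try simp only [rk_swap]); omega)) only [Matrix.single_mul_single_same,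
      Matrix.single_mul_single_of_ne, zero_mul, mul_zero, add_zero, zero_add]
    obtain ⟨E, hE⟩ := single_atoms (m := m) (K := K)
    simp only [hE]
    module
  · have h2 := rk_ne_of_ne hb
    simp only [rk_swap] at h2
    rw [Xm_short hb, Xm_short hb, Xm_short hb]
    simp only [mul_add, add_mul, mul_one, one_mul]
    simp (disch := (apply ne_of_rk; (try simp only [rk_swap]); omega)) only [Matrix.single_mul_single_same,
      Matrix.single_mul_single_of_ne, zero_mul, mul_zero, add_zero, zero_add]
    obtain ⟨E, hE⟩ := single_atoms (m := m) (K := K)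
    simp only [hE]
    module

theorem Xm_sym {a b : Fin m ⊕ Fin m} (hab : a ≠ b) (hab' : a ≠ b.swap) (t : K) :
    Xm a b t = Xm b.swap a.swap (-(ep K a * ep K b) * t) := by
  have hb : b ≠ a.swap := fun e => hab' (by rw [e, Sum.swap_swap])
  have hb2 : a.swap ≠ b.swap.swap := by rw [Sum.swap_swap]; exact fun e => hb e.symm
  rw [Xm_short hb, Xm_short hb2]
  simp only [Sum.swap_swap, ep_swap]
  obtain ⟨E, hE⟩ := single_atoms (m := m) (K := K)
  simp only [hE]
  rcases ep_cases (K := K) a with ea | ea <;> rcases ep_cases (K := K) b with eb | eb <;>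
    rw [ea, eb] <;> module

theorem Xm_comm {a b c d : Fin m ⊕ Fin m} (hab : a ≠ b) (hcd : c ≠ d) (hbc : b ≠ c) (had : a ≠ d)
    (hbd : b ≠ d.swap) (hac : a.swap ≠ c) (t u : K) :
    Xm a b t * Xm c d u = Xm c d u * Xm a b t := by
  have ra := rk_lt a
  have rb := rk_lt b
  have rc := rk_lt c
  have rd := rk_lt d
  have h1 := rk_ne_of_ne hab
  have h2 := rk_ne_of_ne hcd
  have h3 := rk_ne_of_ne hbc
  have h4 := rk_ne_of_ne had
  have h5 := rk_ne_of_ne hbd
  have h6 := rk_ne_of_ne hac
  simp only [rk_swap] at h5 h6
  by_cases hb : b = a.swap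
  · subst hb
    simp only [rk_swap] at h1 h3 h5
    by_cases hd : d = c.swap
    · subst hd
      simp only [rk_swap] at h2 h4 h5
      rw [Xm_long, Xm_long]
      simp only [mul_add, add_mul, mul_one, one_mul]
      simp (disch := (apply ne_of_rk; (try simp only [rk_swap]); omega)) only [Sum.swap_swap,
        Matrix.single_mul_single_same, Matrix.single_mul_single_of_ne, zero_mul, mul_zero, add_zero, zero_add]
      obtain ⟨E, hE⟩ := single_atoms (m := m) (K := K)
      simp only [hE]
      module
    · have h7 := rk_ne_of_ne hd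
      simp only [rk_swap] at h7
      rw [Xm_long, Xm_short hd]
      simp only [mul_add, add_mul, mul_one, one_mul]
      simp (disch := (apply ne_of_rk; (try simp only [rk_swap]); omega)) only [Sum.swap_swap,
        Matrix.single_mul_single_same, Matrix.single_mul_single_of_ne, zero_mul, mul_zero, add_zero, zero_add]
      obtain ⟨E, hE⟩ := single_atoms (m := m) (K := K)
      simp only [hE]
      module
  · have h8 := rk_ne_of_ne hb
    simp only [rk_swap] at h8
    by_cases hd : d = c.swap
    · subst hd
      simp only [rk_swap] at h2 h4 h5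
      rw [Xm_short hb, Xm_long]
      simp only [mul_add, add_mul, mul_one, one_mul]
      simp (disch := (apply ne_of_rk; (try simp only [rk_swap]); omega)) only [Sum.swap_swap,
        Matrix.single_mul_single_same, Matrix.single_mul_single_of_ne, zero_mul, mul_zero, add_zero, zero_add]
      obtain ⟨E, hE⟩ := single_atoms (m := m) (K := K)
      simp only [hE]
      module
    · have h7 := rk_ne_of_ne hd
      simp only [rk_swap] at h7
      rw [Xm_short hb, Xm_short hd]
      simp only [mul_add, add_mul, mul_one, one_mul]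
      simp (disch := (apply ne_of_rk; (try simp only [rk_swap]); omega)) only [Sum.swap_swap,
        Matrix.single_mul_single_same, Matrix.single_mul_single_of_ne, zero_mul, mul_zero, add_zero, zero_add]
      obtain ⟨E, hE⟩ := single_atoms (m := m) (K := K)
      simp only [hE]
      module

theorem Xm_c1 {a b c : Fin m ⊕ Fin m} (hab : a ≠ b) (hab' : a ≠ b.swap) (hbc : b ≠ c)
    (hbc' : b ≠ c.swap) (hac : a ≠ c) (hac' : a ≠ c.swap) (t u : K) :
    Xm a b t * Xm b c u = Xm a c (t * u) * Xm b c u * Xm a b t := by
  have ra := rk_lt a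
  have rb := rk_lt b
  have rc := rk_lt c
  have h1 := rk_ne_of_ne hab
  have h2 := rk_ne_of_ne hab'
  have h3 := rk_ne_of_ne hbc
  have h4 := rk_ne_of_ne hbc'
  have h5 := rk_ne_of_ne hac
  have h6 := rk_ne_of_ne hac'
  simp only [rk_swap] at h2 h4 h6
  rw [Xm_short (a := a) (b := b) (ne_of_rk (by simp only [rk_swap]; omega)),
    Xm_short (a := b) (b := c) (ne_of_rk (by simp only [rk_swap]; omega)),
    Xm_short (a := a) (b := c) (ne_of_rk (by simp only [rk_swap]; omega))]
  simp only [mul_add, add_mul, mul_one, one_mul]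
  simp (disch := (apply ne_of_rk; (try simp only [rk_swap]); omega)) only [Matrix.single_mul_single_same,
    Matrix.single_mul_single_of_ne, zero_mul, mul_zero, add_zero, zero_add]
  obtain ⟨E, hE⟩ := single_atoms (m := m) (K := K)
  simp only [hE]
  rcases ep_cases (K := K) a with ea | ea <;> rcases ep_cases (K := K) b with eb | eb <;>
    rcases ep_cases (K := K) c with ec | ec <;> rw [ea, eb, ec] <;> module

theorem Xm_c2 {a b : Fin m ⊕ Fin m} (hab : a ≠ b) (hab' : a ≠ b.swap) (t u : K) :
    Xm a b t * Xm b a.swap u = Xm a a.swap (2 * t * u) * Xm b a.swap u * Xm a b t := by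
  have ra := rk_lt a
  have rb := rk_lt b
  have h1 := rk_ne_of_ne hab
  have h2 := rk_ne_of_ne hab'
  simp only [rk_swap] at h2
  rw [Xm_short (a := a) (b := b) (ne_of_rk (by simp only [rk_swap]; omega)),
    Xm_short (a := b) (b := a.swap) (ne_of_rk (by simp only [rk_swap]; omega)), Xm_long]
  simp only [mul_add, add_mul, mul_one, one_mul]
  simp (disch := (apply ne_of_rk; (try simp only [rk_swap]); omega)) only [Sum.swap_swap, ep_swap,
    Matrix.single_mul_single_same, Matrix.single_mul_single_of_ne, zero_mul, mul_zero, add_zero, zero_add]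
  obtain ⟨E, hE⟩ := single_atoms (m := m) (K := K)
  simp only [hE]
  rcases ep_cases (K := K) a with ea | ea <;> rcases ep_cases (K := K) b with eb | eb <;>
    rw [ea, eb] <;> module

theorem Xm_c3 {a b : Fin m ⊕ Fin m} (hab : a ≠ b) (hab' : a ≠ b.swap) (t u : K) :
    Xm a b t * Xm b b.swap u =
      Xm a b.swap (t * u) * Xm a a.swap (ep K a * ep K b * t * t * u) * Xm b b.swap u * Xm a b t := by
  have ra := rk_lt a
  have rb := rk_lt b
  have h1 := rk_ne_of_ne hab
  have h2 := rk_ne_of_ne hab'
  simp only [rk_swap] at h2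
  rw [Xm_short (a := a) (b := b) (ne_of_rk (by simp only [rk_swap]; omega)),
    Xm_short (a := a) (b := b.swap) (ne_of_rk (by simp only [rk_swap]; omega)), Xm_long, Xm_long]
  simp only [mul_add, add_mul, mul_one, one_mul]
  simp (disch := (apply ne_of_rk; (try simp only [rk_swap]); omega)) only [Sum.swap_swap, ep_swap,
    Matrix.single_mul_single_same, Matrix.single_mul_single_of_ne, zero_mul, mul_zero, add_zero, zero_add]
  obtain ⟨E, hE⟩ := single_atoms (m := m) (K := K)
  simp only [hE]
  rcases ep_cases (K := K) a with ea | ea <;> rcases ep_cases (K := K) b with eb | eb <;>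
    rw [ea, eb] <;> module

end Cfsg.Agent.Helper7.Cd
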