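import Mathlib
import Cfsg.Agent.Helper7.CdT

set_option autoImplicit false
set_option linter.unusedSectionVars false
set_option linter.unusedVariables false
set_option linter.unusedSimpArgs false
set_option linter.unusedTactic false
set_option linter.unreachableTactic false

/-!
# The symplectic group with its root elements satisfies the Steinberg relations of type `C`
-/

namespace Cfsg.Agent.Helper7.Cd

open Matrix

variable {m : ℕ} {K : Type*} [Field K]

theorem J_apply (r k : Fin m ⊕ Fin m) :
    J (Fin m) K r k = if k = r.swap then -(ep K r) else 0 := by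
  rcases r with i | i <;> rcases k with j | j
  · simp [J]
  · by_cases h : i = j
    · subst h
      simp [J, ep]
    · have h' : j ≠ i := fun e => h e.symm
      simp [J, ep, h, h']
  · by_cases h : i = j
    · subst h
      simp [J, ep]
    · have h' : j ≠ i := fun e => h e.symm
      simp [J, ep, h, h']
  · simp [J]

theorem single_mul_J (a b : Fin m ⊕ Fin m) (t : K) :
    Matrix.single a b t * J (Fin m) K = Matrix.single a b.swap (-(ep K b) * t) := by
  ext r k
  by_cases hr : r = a
  · subst hr
    rw [Matrix.single_mul_apply_same, J_apply]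
    by_cases hk : k = b.swap
    · subst hk
      rw [if_pos rfl, Matrix.single_apply_same]
      ring
    · rw [if_neg hk, mul_zero, Matrix.single_apply_of_ne]
      rintro ⟨_, e⟩
      exact hk e.symm
  · rw [Matrix.single_mul_apply_of_ne _ _ _ _ _ hr, Matrix.single_apply_of_ne]
    rintro ⟨e, _⟩
    exact hr e.symm

theorem J_mul_single (a b : Fin m ⊕ Fin m) (t : K) :
    J (Fin m) K * Matrix.single a b t = Matrix.single a.swap b (ep K a * t) := by
  ext r k
  by_cases hk : k = b
  · subst hk
    rw [Matrix.mul_single_apply_same, J_apply]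
    by_cases hr : r = a.swap
    · subst hr
      rw [Sum.swap_swap, if_pos rfl, Matrix.single_apply_same, ep_swap]
      ring
    · rw [if_neg (fun e => hr (by rw [e, Sum.swap_swap])), zero_mul, Matrix.single_apply_of_ne]
      rintro ⟨e, _⟩
      exact hr e.symm
  · rw [Matrix.mul_single_apply_of_ne _ _ _ _ _ hk, Matrix.single_apply_of_ne]
    rintro ⟨_, e⟩
    exact hk e.symm

theorem Xm_mem {a b : Fin m ⊕ Fin m} (hab : a ≠ b) (t : K) : Xm a b t ∈ symplecticGroup (Fin m) K := by
  rw [SymplecticGroup.mem_iff]
  have ra := rk_lt a
  have rb := rk_lt b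
  have h1 := rk_ne_of_ne hab
  by_cases hb : b = a.swap
  · subst hb
    rw [Xm_long]
    simp only [Matrix.transpose_add, Matrix.transpose_one, Matrix.transpose_single, mul_add, add_mul,
      mul_one, one_mul, single_mul_J, J_mul_single]
    simp (disch := (apply ne_of_rk; (try simp only [rk_swap]); omega)) only [Sum.swap_swap, ep_swap,
      Matrix.single_mul_single_same, Matrix.single_mul_single_of_ne, zero_mul, mul_zero, add_zero, zero_add]
    obtain ⟨E, hE⟩ := single_atoms (m := m) (K := K)
    simp only [hE]
    module
  · have h2 := rk_ne_of_ne hb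
    simp only [rk_swap] at h2
    rw [Xm_short hb]
    simp only [Matrix.transpose_add, Matrix.transpose_one, Matrix.transpose_single, mul_add, add_mul,
      mul_one, one_mul, single_mul_J, J_mul_single]
    simp (disch := (apply ne_of_rk; (try simp only [rk_swap]); omega)) only [Sum.swap_swap, ep_swap,
      Matrix.single_mul_single_same, Matrix.single_mul_single_of_ne, zero_mul, mul_zero, add_zero, zero_add]
    obtain ⟨E, hE⟩ := single_atoms (m := m) (K := K)
    simp only [hE]
    rcases ep_cases (K := K) a with ea | ea <;> rcases ep_cases (K := K) b with eb | eb <;>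
      rw [ea, eb] <;> module

/-- the root elements of the symplectic group, for all pairs of indices. -/
def spX (a b : Fin m ⊕ Fin m) (t : K) : symplecticGroup (Fin m) K :=
  if h : a ≠ b then ⟨Xm a b t, Xm_mem h t⟩ else 1

theorem spX_of {a b : Fin m ⊕ Fin m} (h : a ≠ b) (t : K) :
    spX a b t = (⟨Xm a b t, Xm_mem h t⟩ : symplecticGroup (Fin m) K) := dif_pos h

theorem spX_coe {a b : Fin m ⊕ Fin m} (h : a ≠ b) (t : K) :
    ((spX a b t : symplecticGroup (Fin m) K) : Matrix (Fin m ⊕ Fin m) (Fin m ⊕ Fin m) K) = Xm a b t := by
  rw [spX_of h]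

theorem spX_add {a b : Fin m ⊕ Fin m} (hab : a ≠ b) (t u : K) :
    spX (K := K) a b t * spX a b u = spX a b (t + u) := by
  apply Subtype.ext
  change (spX a b t).1 * (spX a b u).1 = (spX a b (t + u)).1
  rw [spX_coe hab, spX_coe hab, spX_coe hab, Xm_add hab]

/-- the symplectic group with its root elements satisfies the Steinberg relations of type `C`. -/
def spCD (m : ℕ) (K : Type*) [Field K] : CD m K (symplecticGroup (Fin m) K) where
  x := spX
  add := fun a b hab t u => spX_add hab t u
  sym := by
    intro a b hab hab' t
    apply Subtype.ext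
    rw [spX_coe hab, spX_coe (swap_ne_swap hab.symm), Xm_sym hab hab']
  comm := by
    intro a b c d hab hcd hbc had hbd hac t u
    apply Subtype.ext
    change (spX a b t).1 * (spX c d u).1 = (spX c d u).1 * (spX a b t).1
    rw [spX_coe hab, spX_coe hcd, Xm_comm hab hcd hbc had hbd hac]
  c1 := by
    intro a b c hab hab' hbc hbc' hac hac' t u
    have key : spX (K := K) a b t * spX b c u = spX a c (t * u) * spX b c u * spX a b t := by
      apply Subtype.ext
      change (spX a b t).1 * (spX b c u).1 = (spX a c (t * u)).1 * (spX b c u).1 * (spX a b t).1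
      rw [spX_coe hab, spX_coe hbc, spX_coe hac, Xm_c1 hab hab' hbc hbc' hac hac']
    rw [key]
    group
  c2 := by
    intro a b hab hab' t u
    have hba' : b ≠ a.swap := fun e => hab' (by rw [e, Sum.swap_swap])
    have key : spX (K := K) a b t * spX b a.swap u =
        spX a a.swap (2 * t * u) * spX b a.swap u * spX a b t := by
      apply Subtype.ext
      change (spX a b t).1 * (spX b a.swap u).1 =
        (spX a a.swap (2 * t * u)).1 * (spX b a.swap u).1 * (spX a b t).1
      rw [spX_coe hab, spX_coe hba', spX_coe (ne_swap a), Xm_c2 hab hab']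
    rw [key]
    group
  c3 := by
    intro a b hab hab' t u
    have key : spX (K := K) a b t * spX b b.swap u =
        spX a b.swap (t * u) * spX a a.swap (ep K a * ep K b * t * t * u) * spX b b.swap u *
          spX a b t := by
      apply Subtype.ext
      change (spX a b t).1 * (spX b b.swap u).1 =
        (spX a b.swap (t * u)).1 * (spX a a.swap (ep K a * ep K b * t * t * u)).1 *
          (spX b b.swap u).1 * (spX a b t).1
      rw [spX_coe hab, spX_coe (ne_swap b), spX_coe hab', spX_coe (ne_swap a), Xm_c3 hab hab']
    rw [key]
    group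

theorem spCD_x (a b : Fin m ⊕ Fin m) (t : K) : (spCD m K).x a b t = spX a b t := rfl

end Cfsg.Agent.Helper7.Cd
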