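import Mathlib
import Cfsg.Agent.Helper7.SympGeneration
import Cfsg.Agent.Helper7.SympPerfect
import Cfsg.Agent.Helper7.CdU

set_option autoImplicit false
set_option linter.unusedSectionVars false
set_option linter.unusedVariables false

/-!
# The symplectic group is generated by its root elements
-/

namespace Cfsg.Agent.Helper7.Cd

open Matrix Cfsg Cfsg.Agent.Helper7.Symp

variable {m : ℕ} {K : Type*} [Field K]

theorem Xm_mulVec (a b : Fin m ⊕ Fin m) (t : K) (w : Fin m ⊕ Fin m → K) (r : Fin m ⊕ Fin m) :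
    (Xm a b t *ᵥ w) r = w r + (if r = a then t * w b else 0) +
      (if b = a.swap then 0 else if r = b.swap then -(ep K a * ep K b) * t * w a.swap else 0) := by
  unfold Xm
  rw [Matrix.add_mulVec, Matrix.add_mulVec, Matrix.one_mulVec, Pi.add_apply, Pi.add_apply,
    Matrix.single_mulVec_eq]
  congr 1
  · congr 1
    rw [Pi.smul_apply, Pi.single_apply, smul_eq_mul]
    by_cases h : r = a
    · rw [if_pos h, if_pos h, mul_one]
    · rw [if_neg h, if_neg h, mul_zero]
  · by_cases hb : b = a.swap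
    · rw [if_pos hb, if_pos hb, Matrix.zero_mulVec, Pi.zero_apply]
    · rw [if_neg hb, if_neg hb, Matrix.single_mulVec_eq, Pi.smul_apply, Pi.single_apply, smul_eq_mul]
      by_cases h : r = b.swap
      · rw [if_pos h, if_pos h, mul_one]
      · rw [if_neg h, if_neg h, mul_zero]

theorem J_mulVec_single (a : Fin m ⊕ Fin m) :
    J (Fin m) K *ᵥ (Pi.single a (1 : K)) = ep K a • Pi.single a.swap (1 : K) := by
  ext r
  rw [Matrix.mulVec_single_one, Matrix.col_apply, J_apply, Pi.smul_apply, Pi.single_apply, smul_eq_mul]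
  by_cases h : r = a.swap
  · subst h
    rw [Sum.swap_swap, if_pos rfl, if_pos rfl, ep_swap, neg_neg, mul_one]
  · rw [if_neg (fun e => h (by rw [e, Sum.swap_swap])), if_neg h, mul_zero]

/-- the transvections of the vectors of the standard basis are root elements. -/
theorem T_single (a : Fin m ⊕ Fin m) (c : K) :
    T (Pi.single a (1 : K)) c = spX a a.swap (ep K a * c) := by
  apply ext_mulVec
  intro x
  rw [T_mulVec, spX_coe (ne_swap a)]
  ext r
  rw [Xm_mulVec, if_pos rfl, add_zero, Pi.add_apply, Pi.smul_apply, Pi.single_apply, smul_eq_mul]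
  unfold sympForm
  rw [J_mulVec_single, dotProduct_smul, dotProduct_single_one, smul_eq_mul]
  by_cases h : r = a
  · rw [if_pos h, if_pos h]
    ring
  · rw [if_neg h, if_neg h, mul_zero]

/-- the subgroup generated by the root elements. -/
def RX (m : ℕ) (K : Type*) [Field K] : Subgroup (symplecticGroup (Fin m) K) :=
  Subgroup.closure {g | ∃ (a b : Fin m ⊕ Fin m) (t : K), a ≠ b ∧ g = spX a b t}

theorem spX_mem_RX {a b : Fin m ⊕ Fin m} (hab : a ≠ b) (t : K) : spX a b t ∈ RX m K :=
  Subgroup.subset_closure ⟨a, b, t, hab, rfl⟩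

/-- clearing the coordinates of a vector other than `b` and `b̄`. -/
theorem exists_clear (w : Fin m ⊕ Fin m → K) {b : Fin m ⊕ Fin m} (hb : w b ≠ 0)
    (T : Finset (Fin m ⊕ Fin m)) (hT : ∀ c ∈ T, c ≠ b ∧ c ≠ b.swap) :
    ∃ g ∈ RX m K, ((g : Matrix (Fin m ⊕ Fin m) (Fin m ⊕ Fin m) K) *ᵥ w) b = w b ∧
      (∀ c ∈ T, ((g : Matrix (Fin m ⊕ Fin m) (Fin m ⊕ Fin m) K) *ᵥ w) c = 0) ∧
      ∀ c, c ∉ T → c ≠ b.swap → ((g : Matrix (Fin m ⊕ Fin m) (Fin m ⊕ Fin m) K) *ᵥ w) c = w c := by
  induction T using Finset.induction_on with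
  | empty =>
    refine ⟨1, one_mem _, ?_, ?_, ?_⟩
    · rw [coe_one_mulVec]
    · intro c hc
      simp at hc
    · intro c _ _
      rw [coe_one_mulVec]
  | insert c₀ T hc₀ ih =>
    obtain ⟨g, hg, h1, h2, h3⟩ := ih (fun c hc => hT c (Finset.mem_insert_of_mem hc))
    obtain ⟨hcb, hcb'⟩ := hT c₀ (Finset.mem_insert_self _ _)
    obtain ⟨v, hv⟩ : ∃ v, v = (g : Matrix (Fin m ⊕ Fin m) (Fin m ⊕ Fin m) K) *ᵥ w := ⟨_, rfl⟩
    rw [← hv] at h1 h2 h3
    refine ⟨spX c₀ b (-(v c₀) / w b) * g, mul_mem (spX_mem_RX hcb _) hg, ?_, ?_, ?_⟩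
    · rw [coe_mul_mulVec, ← hv, spX_coe hcb, Xm_mulVec, if_neg hcb.symm, add_zero, h1]
      by_cases hbc : b = c₀.swap
      · rw [if_pos hbc, add_zero]
      · rw [if_neg hbc, if_neg (ne_swap b), add_zero]
    · intro c hc
      rw [coe_mul_mulVec, ← hv, spX_coe hcb, Xm_mulVec]
      rw [Finset.mem_insert] at hc
      rcases hc with rfl | hc
      · have e2 : ∀ y : K, (if b = c.swap then (0 : K) else if c = b.swap then y else 0) = 0 := by
          intro y
          by_cases hbc : b = c.swap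
          · rw [if_pos hbc]
          · rw [if_neg hbc, if_neg hcb']
        rw [if_pos rfl, h1, e2, add_zero]
        field_simp
        ring
      · have hcc : c ≠ c₀ := by
          rintro rfl
          exact hc₀ hc
        rw [h2 c hc, if_neg hcc, add_zero, zero_add]
        by_cases hbc : b = c₀.swap
        · rw [if_pos hbc]
        · rw [if_neg hbc, if_neg (hT c (Finset.mem_insert_of_mem hc)).2]
    · intro c hc hcb2
      rw [Finset.mem_insert] at hc
      push Not at hc
      rw [coe_mul_mulVec, ← hv, spX_coe hcb, Xm_mulVec, if_neg hc.1, add_zero, h3 c hc.2 hcb2]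
      by_cases hbc : b = c₀.swap
      · rw [if_pos hbc, add_zero]
      · rw [if_neg hbc, if_neg hcb2, add_zero]

/-- every vector is carried to a multiple of a vector of the standard basis by a product of root
elements. -/
theorem exists_to_basis {w : Fin m ⊕ Fin m → K} (hw : w ≠ 0) :
    ∃ g ∈ RX m K, ∃ (a : Fin m ⊕ Fin m) (s : K),
      (g : Matrix (Fin m ⊕ Fin m) (Fin m ⊕ Fin m) K) *ᵥ w = s • Pi.single a (1 : K) := by
  classical
  · obtain ⟨b, hb⟩ : ∃ b, w b ≠ 0 := by
      by_contra hcon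
      push Not at hcon
      exact hw (funext hcon)
    obtain ⟨g, hg, h1, h2, h3⟩ := exists_clear w hb
      (Finset.univ.filter (fun c => c ≠ b ∧ c ≠ b.swap)) (fun c hc => (Finset.mem_filter.mp hc).2)
    obtain ⟨v, hv⟩ : ∃ v, v = (g : Matrix (Fin m ⊕ Fin m) (Fin m ⊕ Fin m) K) *ᵥ w := ⟨_, rfl⟩
    rw [← hv] at h1 h2 h3
    have hb' : b.swap ≠ b := swap_ne b
    refine ⟨spX b.swap b (-(v b.swap) / w b) * g, mul_mem (spX_mem_RX hb' _) hg, b, w b, ?_⟩
    ext r
    rw [coe_mul_mulVec, ← hv, spX_coe hb', Xm_mulVec, Sum.swap_swap, if_pos rfl, add_zero,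
      Pi.smul_apply, Pi.single_apply, smul_eq_mul]
    by_cases hrb : r = b
    · subst hrb
      rw [if_neg (ne_swap r), add_zero, if_pos rfl, mul_one, h1]
    · rw [if_neg hrb, mul_zero]
      by_cases hrb' : r = b.swap
      · subst hrb'
        rw [if_pos rfl, h1]
        field_simp
        ring
      · rw [if_neg hrb', add_zero]
        exact h2 r (Finset.mem_filter.mpr ⟨Finset.mem_univ _, hrb, hrb'⟩)

/-- the symplectic transvections are products of root elements. -/
theorem T_mem_RX (w : Fin m ⊕ Fin m → K) (c : K) : T w c ∈ RX m K := by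
  by_cases hw : w = 0
  · rw [hw, T_zero_left]
    exact one_mem _
  · obtain ⟨g, hg, a, s, e⟩ := exists_to_basis hw
    have h1 := conj_T g w c
    rw [e, T_smul, T_single] at h1
    have h2 : T w c = g⁻¹ * spX a a.swap (ep K a * (s * s * c)) * g := by
      rw [← h1]
      group
    rw [h2]
    exact mul_mem (mul_mem (inv_mem hg) (spX_mem_RX (ne_swap a) _)) hg

/-- **the symplectic group is generated by its root elements.** -/
theorem RX_eq_top (m : ℕ) (K : Type*) [Field K] : RX m K = ⊤ := by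
  rw [eq_top_iff, ← transvectionSubgroup_eq_top m K]
  unfold transvectionSubgroup
  rw [Subgroup.closure_le]
  rintro A ⟨w, c, hA⟩
  have : A = T w c := Subtype.ext hA
  rw [SetLike.mem_coe, this]
  exact T_mem_RX w c

end Cfsg.Agent.Helper7.Cd
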