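import Mathlib
import Cfsg.Agent.Helper7.CdS
import Cfsg.Agent.Helper7.CdV

set_option autoImplicit false
set_option linter.unusedSectionVars false
set_option linter.unusedVariables false

/-!
# Groups with the Steinberg relations of type `C` lying over the symplectic group give sections
-/

namespace Cfsg.Agent.Helper7.Cd

open Matrix

variable {m : ℕ} {K : Type*} [Field K]

/-- **a group with the Steinberg relations of type `C` lying over `Sp_{2m}(K)` (`m ≥ 2`, finite field)
gives a section.** -/
theorem CD.sp_section [Finite K] (hm : 2 ≤ m) {E : Type*} [Group E] (S : CD m K E)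
    (ψ : E →* symplecticGroup (Fin m) K)
    (hψ : ∀ a b, a ≠ b → ∀ t, ψ (S.x a b t) = spX a b t) :
    ∃ τ : symplecticGroup (Fin m) K →* E, ψ.comp τ = MonoidHom.id _ := by
  refine S.exists_section hm ψ (symplecticGroup (Fin m) K).subtype Subtype.val_injective ?_ ?_
  · intro a b hab t
    rw [hψ a b hab]
    exact spX_coe hab t
  · have h := RX_eq_top m K
    unfold RX at h
    rw [← h]
    congr 1
    ext g
    constructor
    · rintro ⟨a, b, t, hab, rfl⟩
      exact ⟨a, b, t, hab, hψ a b hab t⟩
    · rintro ⟨a, b, t, hab, rfl⟩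
      exact ⟨a, b, t, hab, (hψ a b hab t).symm⟩

end Cfsg.Agent.Helper7.Cd
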