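import Mathlib
import Cfsg.Agent.Helper7.SlP
import Cfsg.Agent.Helper7.CdO

set_option autoImplicit false
set_option linter.unusedSectionVars false
set_option linter.unusedVariables false

/-!
# Central extensions: commuting lifts, and the comparison of families of lifts
-/

namespace Cfsg.Agent.Helper7.Cd

open Cfsg.Agent.Helper7.Sc Cfsg.Agent.Helper7.Sl

section cext

variable {E Γ : Type*} [Group E] [Group Γ] (C : CExt E Γ)

theorem lc_one_right (d : Γ) : C.LC d 1 :=
  (C.LCen d).one_mem.symm C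

theorem lc_one_left (d : Γ) : C.LC 1 d := (C.LCen d).one_mem

theorem lc_mul_left {a b d : Γ} (ha : C.LC a d) (hb : C.LC b d) : C.LC (a * b) d :=
  (C.LCen d).mul_mem ha hb

theorem lc_mul_right {a b d : Γ} (ha : C.LC d a) (hb : C.LC d b) : C.LC d (a * b) :=
  (lc_mul_left C (ha.symm C) (hb.symm C)).symm C

theorem lc_inv_left {a d : Γ} (ha : C.LC a d) : C.LC a⁻¹ d := (C.LCen d).inv_mem ha

theorem lc_inv_right {a d : Γ} (ha : C.LC d a) : C.LC d a⁻¹ := (lc_inv_left C (ha.symm C)).symm C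

/-- cancelling a factor on the right. -/
theorem lc_cancel_right {a b d : Γ} (h : C.LC d (a * b)) (hb : C.LC d b) : C.LC d a := by
  have := lc_mul_right C h (lc_inv_right C hb)
  rwa [mul_inv_cancel_right] at this

/-- cancelling a factor on the left. -/
theorem lc_cancel_left {a b d : Γ} (h : C.LC d (a * b)) (ha : C.LC d a) : C.LC d b := by
  have := lc_mul_right C (lc_inv_right C ha) h
  rwa [inv_mul_cancel_left] at this

/-- the commuting of lifts is invariant under conjugation. -/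
theorem lc_conj {d d' : Γ} (h : C.LC d d') (g : Γ) : C.LC (g * d * g⁻¹) (g * d' * g⁻¹) := by
  rw [C.LC_iff, ← C.kap_cm, (C.LC_iff d d').mp h, map_one]

theorem kap_eq_of_mul {a b : Γ} {x : E} (ha : C.kap a x = x) (hb : C.kap b x = x) :
    C.kap (a * b) x = x := by
  rw [C.kap_mul, hb, ha]

/-- if `d` commutes with `B`, and the lifts of `[d, A]` commute with those of `B` and of `[A, B]`, then the
lifts of `d` commute with those of `[A, B]`. -/
theorem lc_of_cm_gen {d A B e : Γ} (h2 : d * B = B * d) (he : d * A * d⁻¹ = e * A) (h3 : C.LC e B)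
    (h4 : C.LC e (A * B * A⁻¹ * B⁻¹)) : C.LC d (A * B * A⁻¹ * B⁻¹) := by
  rw [C.LC_iff]
  have hl : C.ψ (C.cm A B) = A * B * A⁻¹ * B⁻¹ := C.ψ_cm A B
  rw [C.cm_eq_kap hl, C.kap_cm]
  have e2 : d * B * d⁻¹ = B := by rw [h2]; group
  rw [he, e2, cm_mul_left, h4.kap_eq C hl, (C.LC_iff e B).mp h3, mul_one, mul_inv_cancel]

/-- the commutator of lifts, when the lifts of the first factor commute with those of the commutator of the
second factor. -/
theorem cm_mul_left_of_lc {a b c : Γ} (h : C.LC a (b * c * b⁻¹ * c⁻¹)) :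
    C.cm (a * b) c = C.cm b c * C.cm a c := by
  rw [cm_mul_left, h.kap_eq C (C.ψ_cm b c)]

theorem cm_mul_right_of_lc {a b c : Γ} (h : C.LC b (a * c * a⁻¹ * c⁻¹)) :
    C.cm a (b * c) = C.cm a b * C.cm a c := by
  rw [C.cm_mul_right, h.kap_eq C (C.ψ_cm a c)]

theorem cm_one_left (d : Γ) : C.cm 1 d = 1 := by
  rw [C.cm_eq (map_one C.ψ) (C.ψ_lf d)]
  group

theorem cm_one_right (d : Γ) : C.cm d 1 = 1 := by
  rw [C.cm_eq (C.ψ_lf d) (map_one C.ψ)]
  group

/-- **two additive families of lifts of the same elements that are scaled in the same way by a conjugation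
coincide.** -/
theorem eq_of_scale {K : Type*} [Field K] {L R : K → E} (hψ : ∀ t, C.ψ (L t) = C.ψ (R t))
    (hL : ∀ t t', L (t + t') = L t * L t') (hR : ∀ t t', R (t + t') = R t * R t') {c : K} (hc : c ≠ 1)
    (g : Γ) (hLg : ∀ t, C.kap g (L t) = L (c * t)) (hRg : ∀ t, C.kap g (R t) = R (c * t)) (t : K) :
    L t = R t := by
  have hz : ∀ t, C.ψ (L t * (R t)⁻¹) = 1 := by
    intro t
    rw [map_mul, map_inv, hψ, mul_inv_cancel]
  have hcen : ∀ t (x : E), L t * (R t)⁻¹ * x = x * (L t * (R t)⁻¹) := fun t x => C.ker_comm (hz t) x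
  have hadd : ∀ t t', L (t + t') * (R (t + t'))⁻¹ = L t * (R t)⁻¹ * (L t' * (R t')⁻¹) := by
    intro t t'
    calc L (t + t') * (R (t + t'))⁻¹ = L t * (L t' * (R t')⁻¹) * (R t)⁻¹ := by
          rw [hL, hR]; group
      _ = L t' * (R t')⁻¹ * L t * (R t)⁻¹ := by rw [← hcen t' (L t)]
      _ = L t' * (R t')⁻¹ * (L t * (R t)⁻¹) := by group
      _ = _ := by rw [hcen t' (L t * (R t)⁻¹)]
  have hs : ∀ t, L (c * t) * (R (c * t))⁻¹ = L t * (R t)⁻¹ := by
    intro t
    have h1 := C.kap_ker (hz t) g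
    rw [map_mul, map_inv, hLg, hRg] at h1
    exact h1
  have := trivial_of_scale (fun t => L t * (R t)⁻¹) hadd hc hs t
  exact mul_inv_eq_one.mp this

/-- a variant: the quotient of the two families is additive. -/
theorem eq_of_scale' {K : Type*} [Field K] {L R : K → E}
    (hadd : ∀ t t', L (t + t') * (R (t + t'))⁻¹ = L t * (R t)⁻¹ * (L t' * (R t')⁻¹)) {c : K}
    (hc : c ≠ 1) (hs : ∀ t, L (c * t) * (R (c * t))⁻¹ = L t * (R t)⁻¹) (t : K) : L t = R t := by
  have := trivial_of_scale (fun t => L t * (R t)⁻¹) hadd hc hs t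
  exact mul_inv_eq_one.mp this

end cext

end Cfsg.Agent.Helper7.Cd
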