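import Mathlib
import Cfsg.Agent.Helper7.CeA

set_option autoImplicit false
set_option linter.unusedSectionVars false
set_option linter.unusedVariables false

/-!
# Central extensions of a group with the Steinberg relations of type `C`: commuting lifts

The lifts of commuting root elements commute, once this is known for some pairs of roots.
-/

namespace Cfsg.Agent.Helper7.Cd

open Cfsg.Agent.Helper7.Sc Cfsg.Agent.Helper7.Sl

variable {m : ℕ} {K : Type*} [Field K] {G E : Type*} [Group G] [Group E] (Sg : CD m K G)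
  (C : CExt E G)

/-- lifts of commuting root elements commute. -/
def LCc : Prop :=
  ∀ a b c d : Fin m ⊕ Fin m, a ≠ b → c ≠ d → b ≠ c → a ≠ d → b ≠ d.swap → a.swap ≠ c → ∀ t u : K,
    C.LC (Sg.x a b t) (Sg.x c d u)

/-- the index `e` is outside the support of the root `(c, d)`. -/
def Out (e c d : Fin m ⊕ Fin m) : Prop := e ≠ c ∧ e ≠ c.swap ∧ e ≠ d ∧ e ≠ d.swap

/-- conjugation of a commutator of lifts of root elements by a lift of a monomial element. -/
theorem kap_cmx {g : G} {σ : Equiv.Perm (Fin m ⊕ Fin m)} {μ : Fin m ⊕ Fin m → K} (hM : Sg.Mon g σ μ)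
    {a b c d : Fin m ⊕ Fin m} (hab : a ≠ b) (hcd : c ≠ d) (t u : K) :
    C.kap g (C.cm (Sg.x a b t) (Sg.x c d u)) =
      C.cm (Sg.x (σ a) (σ b) (μ a * (μ b)⁻¹ * t)) (Sg.x (σ c) (σ d) (μ c * (μ d)⁻¹ * u)) := by
  rw [C.kap_cm, ← MulAut.conj_apply, ← MulAut.conj_apply, hM.2 a b hab, hM.2 c d hcd]

theorem cmx_add_left' {a b : Fin m ⊕ Fin m} (hab : a ≠ b) {d : G}
    (hd : ∀ t, Sg.x a b t * d = d * Sg.x a b t) (t t' : K) :
    C.cm (Sg.x a b (t + t')) d = C.cm (Sg.x a b t) d * C.cm (Sg.x a b t') d := by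
  rw [← Sg.add a b hab t t', cm_mul_left, kap_cm_of_comm C (hd t')]
  exact cm_central C (hd t') _

/-- a diagonal element scaling the first root element and fixing the second forces the lifts to commute. -/
theorem lc_tor {g : G} {μ : Fin m ⊕ Fin m → K} (hM : Sg.Mon g 1 μ) {a b c d : Fin m ⊕ Fin m}
    (hab : a ≠ b) (hcd : c ≠ d)
    (hcomm : ∀ t u : K, Sg.x a b t * Sg.x c d u = Sg.x c d u * Sg.x a b t)
    (h1 : μ a * (μ b)⁻¹ ≠ 1) (h2 : μ c * (μ d)⁻¹ = 1) (t u : K) :
    C.LC (Sg.x a b t) (Sg.x c d u) := by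
  rw [C.LC_iff]
  refine trivial_of_scale (fun t => C.cm (Sg.x a b t) (Sg.x c d u))
    (fun t t' => cmx_add_left' Sg C hab (fun t => hcomm t u) t t') h1 ?_ t
  intro t
  have h := kap_cmx Sg C hM hab hcd t u
  rw [kap_cm_of_comm C (hcomm t u), Equiv.Perm.one_apply, Equiv.Perm.one_apply, Equiv.Perm.one_apply,
    Equiv.Perm.one_apply, h2, one_mul] at h
  exact h.symm

/-- the lifts of a long root element commute with each other, when they commute with the lifts of the
short root elements at `45°`. -/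
theorem lc_long_same (hm : 2 ≤ m)
    (h4 : ∀ a b : Fin m ⊕ Fin m, a ≠ b → a ≠ b.swap → ∀ t u : K,
      C.LC (Sg.x a a.swap t) (Sg.x a b u)) (a : Fin m ⊕ Fin m) (t u : K) :
    C.LC (Sg.x a a.swap t) (Sg.x a a.swap u) := by
  obtain ⟨b, hab, hab'⟩ := CD.exists_other hm a
  have hba' : b ≠ a.swap := fun e => hab' (by rw [e, Sum.swap_swap])
  have h3 := Sg.c3 a b hab hab' 1 (ep K a * ep K b * u)
  have e1 : ep K a * ep K b * 1 * 1 * (ep K a * ep K b * u) = u := by
    have := ep_mul_sq (K := K) a b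
    linear_combination u * this
  rw [e1, one_mul] at h3
  have hc1 : Sg.x a a.swap t * Sg.x a b 1 = Sg.x a b 1 * Sg.x a a.swap t :=
    (Sg.comm_short_long hab hab' 1 t).symm
  have hc2 : Sg.x a a.swap t * Sg.x b b.swap (ep K a * ep K b * u) =
      Sg.x b b.swap (ep K a * ep K b * u) * Sg.x a a.swap t :=
    Sg.comm a a.swap b b.swap (ne_swap a) (ne_swap b) hba'.symm hab' (by rw [Sum.swap_swap]; exact hba'.symm)
      (swap_ne_of_ne_swap hab') _ _
  have h5 := lc_of_comm_cm' C hc1 hc2 h3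
  have hab2 : a ≠ b.swap.swap := by rw [Sum.swap_swap]; exact hab
  exact lc_cancel_left C h5 (h4 a b.swap hab' hab2 t _)

/-- the lifts of a short root element commute with each other, when the lifts of the long root elements
commute with those of the short root elements at `45°` and with those of the other long root elements. -/
theorem lc_short_same (hm : 2 ≤ m)
    (h4 : ∀ a b : Fin m ⊕ Fin m, a ≠ b → a ≠ b.swap → ∀ t u : K,
      C.LC (Sg.x a a.swap t) (Sg.x a b u))
    (h7 : ∀ a b : Fin m ⊕ Fin m, a ≠ b → a ≠ b.swap → ∀ t u : K,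
      C.LC (Sg.x a a.swap t) (Sg.x b b.swap u))
    {a b : Fin m ⊕ Fin m} (hab : a ≠ b) (hab' : a ≠ b.swap) (t u : K) :
    C.LC (Sg.x a b t) (Sg.x a b u) := by
  have h6 := lc_long_same Sg C hm h4
  have hba' : b ≠ a.swap := fun e => hab' (by rw [e, Sum.swap_swap])
  have hb'a : b.swap ≠ a := fun e => hab' e.symm
  have hb'a' : b.swap ≠ a.swap := swap_ne_swap hab.symm
  -- the conjugates of the long root elements
  have hcj : ∀ s : K, Sg.x b.swap a 1 * Sg.x a a.swap s * (Sg.x b.swap a 1)⁻¹ =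
      Sg.x b.swap a.swap s * Sg.x b.swap b (ep K b.swap * ep K a * s) * Sg.x a a.swap s := by
    intro s
    have h := Sg.cj3 hb'a hb'a' 1 s
    rw [MulAut.conj_apply, one_mul, mul_one, mul_one, Sum.swap_swap] at h
    exact h
  -- the short root element in the other form
  have hsym : ∀ s : K, Sg.x b.swap a.swap s = Sg.x a b (-(ep K a * ep K b) * s) := by
    intro s
    rw [Sg.sym a b hab hab']
    congr 1
    have := ep_mul_sq (K := K) a b
    linear_combination -s * this
  have hA_D : ∀ s s' : K, C.LC (Sg.x a a.swap s) (Sg.x b.swap a.swap s') := by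
    intro s s'
    rw [hsym]
    exact h4 a b hab hab' s _
  have hB_A : ∀ s s' : K, C.LC (Sg.x b.swap b s) (Sg.x b.swap a.swap s') := by
    intro s s'
    have := h4 b.swap a.swap hb'a' (by rw [Sum.swap_swap]; exact hb'a) s s'
    rwa [Sum.swap_swap] at this
  have hB_D : ∀ s s' : K, C.LC (Sg.x b.swap b s) (Sg.x a a.swap s') := by
    intro s s'
    have := h7 b.swap a hb'a hb'a' s s'
    rwa [Sum.swap_swap] at this
  have hB_B : ∀ s s' : K, C.LC (Sg.x b.swap b s) (Sg.x b.swap b s') := by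
    intro s s'
    have := h6 b.swap s s'
    rwa [Sum.swap_swap] at this
  -- back to the root `(a, b)`
  have e : ∀ s : K, Sg.x a b s = Sg.x b.swap a.swap (-(ep K a * ep K b) * s) := fun s => Sg.sym a b hab hab' s
  rw [e t, e u]
  have hgen : ∀ s s' : K, C.LC (Sg.x b.swap a.swap s) (Sg.x b.swap a.swap s') := by
    intro s s'
    have h6' := lc_conj C (h6 a s s') (Sg.x b.swap a 1)
    rw [hcj, hcj] at h6'
    have hBY' : C.LC (Sg.x b.swap b (ep K b.swap * ep K a * s))
        (Sg.x b.swap a.swap s' * Sg.x b.swap b (ep K b.swap * ep K a * s') * Sg.x a a.swap s') :=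
      lc_mul_right C (lc_mul_right C (hB_A _ _) (hB_B _ _)) (hB_D _ _)
    have hDY' : C.LC (Sg.x a a.swap s)
        (Sg.x b.swap a.swap s' * Sg.x b.swap b (ep K b.swap * ep K a * s') * Sg.x a a.swap s') :=
      lc_mul_right C (lc_mul_right C (hA_D _ _) ((hB_D _ _).symm C)) (h6 a _ _)
    have h1' := (lc_cancel_right C (lc_cancel_right C (h6'.symm C) (hDY'.symm C)) (hBY'.symm C)).symm C
    exact lc_cancel_right C (lc_cancel_right C h1' ((hA_D _ _).symm C)) ((hB_A _ _).symm C)
  exact hgen _ _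

end Cfsg.Agent.Helper7.Cd
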