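import Mathlib
import Cfsg.Agent.Helper7.CeB

set_option autoImplicit false
set_option linter.unusedSectionVars false
set_option linter.unusedVariables false

/-!
# Central extensions of a group with the Steinberg relations of type `C`: the assembly

The lifts of all commuting root elements commute, once this is known for three kinds of pairs; and chosen
lifts of the root elements with the right commutators give the Steinberg relations in the extension.
-/

namespace Cfsg.Agent.Helper7.Cd

open Cfsg.Agent.Helper7.Sc Cfsg.Agent.Helper7.Sl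

variable {m : ℕ} {K : Type*} [Field K] {G E : Type*} [Group G] [Group E] (Sg : CD m K G)
  (C : CExt E G)

/-- two commuting roots of which the first is short and has both indices in the support of the second are
equal. -/
theorem same_root_of_not_out {a b c d : Fin m ⊕ Fin m} (hbc : b ≠ c) (had : a ≠ d) (hbd : b ≠ d.swap)
    (hac : a.swap ≠ c) (hab' : a ≠ b.swap) (h1 : ¬ Out a c d) (h2 : ¬ Out b c d) :
    (c = a ∧ d = b) ∨ (c = b.swap ∧ d = a.swap) := by
  have ha : a = c ∨ a = d.swap := by
    by_contra hcon
    push Not at hcon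
    exact h1 ⟨hcon.1, ne_swap_of_swap_ne hac, had, hcon.2⟩
  have hb : b = c.swap ∨ b = d := by
    by_contra hcon
    push Not at hcon
    exact h2 ⟨hbc, hcon.1, hcon.2, hbd⟩
  rcases ha with ha | ha <;> rcases hb with hb | hb
  · exfalso
    apply hab'
    rw [hb, Sum.swap_swap]
    exact ha
  · exact Or.inl ⟨ha.symm, hb.symm⟩
  · right
    constructor
    · rw [hb, Sum.swap_swap]
    · rw [ha, Sum.swap_swap]
  · exfalso
    apply hab'
    rw [hb]
    exact ha

/-- the lifts of a long root element and of a short root element at `45°` commute, once this holds when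
the first root is short with an index outside the support of the second. -/
theorem lc_long_short_of
    (hS : ∀ a b c d : Fin m ⊕ Fin m, a ≠ b → c ≠ d → b ≠ c → a ≠ d → b ≠ d.swap → a.swap ≠ c →
      a ≠ b.swap → (Out a c d ∨ Out b c d) → ∀ t u : K, C.LC (Sg.x a b t) (Sg.x c d u))
    (a b : Fin m ⊕ Fin m) (hab : a ≠ b) (hab' : a ≠ b.swap) (t u : K) :
    C.LC (Sg.x a a.swap t) (Sg.x a b u) := by
  have hba' : b ≠ a.swap := fun e => hab' (by rw [e, Sum.swap_swap])
  exact (hS a b a a.swap hab (ne_swap a) hab.symm (ne_swap a) (by rw [Sum.swap_swap]; exact hab.symm)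
    (swap_ne a) hab' (Or.inr ⟨hab.symm, hba', hba', by rw [Sum.swap_swap]; exact hab.symm⟩) u t).symm C

/-- **the lifts of commuting root elements commute**, once this holds when the first root is short with an
index outside the support of the second, for two long roots, and for a short root and itself. -/
theorem lcc_of (hm : 2 ≤ m)
    (hS : ∀ a b c d : Fin m ⊕ Fin m, a ≠ b → c ≠ d → b ≠ c → a ≠ d → b ≠ d.swap → a.swap ≠ c →
      a ≠ b.swap → (Out a c d ∨ Out b c d) → ∀ t u : K, C.LC (Sg.x a b t) (Sg.x c d u))
    (h7 : ∀ a b : Fin m ⊕ Fin m, a ≠ b → a ≠ b.swap → ∀ t u : K,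
      C.LC (Sg.x a a.swap t) (Sg.x b b.swap u))
    (h1 : ∀ a b : Fin m ⊕ Fin m, a ≠ b → a ≠ b.swap → ∀ t u : K, C.LC (Sg.x a b t) (Sg.x a b u)) :
    LCc Sg C := by
  have h4 := lc_long_short_of Sg C hS
  intro a b c d hab hcd hbc had hbd hac t u
  by_cases hab' : a = b.swap
  · -- the first root is long
    have hb : b = a.swap := by rw [hab', Sum.swap_swap]
    subst hb
    by_cases hcd' : c = d.swap
    · have hd : d = c.swap := by rw [hcd', Sum.swap_swap]
      subst hd
      by_cases hca : c = a
      · subst hca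
        exact lc_long_same Sg C hm h4 c t u
      · exact h7 a c (fun e => hca e.symm) had t u
    · -- the second root is short
      have hda : d ≠ a := fun e => had e.symm
      have hca' : c ≠ a.swap := fun e => hbc e.symm
      have hda' : d ≠ a.swap.swap := by rw [Sum.swap_swap]; exact hda
      have hout : Out c a a.swap ∨ Out d a a.swap := by
        by_cases hca : c = a
        · right
          have hd'a : d ≠ a.swap := by
            intro e
            apply hcd'
            rw [e, Sum.swap_swap]
            exact hca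
          exact ⟨hda, hd'a, hd'a, hda'⟩
        · left
          exact ⟨hca, hca', hca', by rw [Sum.swap_swap]; exact hca⟩
      refine (hS c d a a.swap hcd hab hda hca' ?_ ?_ hcd' hout u t).symm C
      · rw [Sum.swap_swap]; exact hda
      · intro e
        exact hca' (by rw [← e, Sum.swap_swap])
  · by_cases ho1 : Out a c d
    · exact hS a b c d hab hcd hbc had hbd hac hab' (Or.inl ho1) t u
    by_cases ho2 : Out b c d
    · exact hS a b c d hab hcd hbc had hbd hac hab' (Or.inr ho2) t u
    rcases same_root_of_not_out hbc had hbd hac hab' ho1 ho2 with ⟨rfl, rfl⟩ | ⟨rfl, rfl⟩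
    · exact h1 c d hab hab' t u
    · rw [Sg.sym a b hab hab' t]
      exact h1 b.swap a.swap hcd (by rw [Sum.swap_swap]; exact fun e => hab' e.symm) _ _

/-- **chosen lifts of the root elements with the right commutators give the Steinberg relations in the
extension.** -/
theorem exists_CD_of (yS : Fin m ⊕ Fin m → Fin m ⊕ Fin m → K → E) (yL : Fin m ⊕ Fin m → K → E)
    (hL : LCc Sg C)
    (hψS : ∀ a b, a ≠ b → a ≠ b.swap → ∀ t, C.ψ (yS a b t) = Sg.x a b t)
    (hψL : ∀ a t, C.ψ (yL a t) = Sg.x a a.swap t)
    (haddS : ∀ a b, a ≠ b → a ≠ b.swap → ∀ t u, yS a b t * yS a b u = yS a b (t + u))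
    (haddL : ∀ a t u, yL a t * yL a u = yL a (t + u))
    (hsym : ∀ a b, a ≠ b → a ≠ b.swap → ∀ t, yS a b t = yS b.swap a.swap (-(ep K a * ep K b) * t))
    (hc1 : ∀ a b c, a ≠ b → a ≠ b.swap → b ≠ c → b ≠ c.swap → a ≠ c → a ≠ c.swap → ∀ t u,
      C.cm (Sg.x a b t) (Sg.x b c u) = yS a c (t * u))
    (hc2 : ∀ a b, a ≠ b → a ≠ b.swap → ∀ t u,
      C.cm (Sg.x a b t) (Sg.x b a.swap u) = yL a (2 * t * u))
    (hc3 : ∀ a b, a ≠ b → a ≠ b.swap → ∀ t u, C.cm (Sg.x a b t) (Sg.x b b.swap u) =
      yS a b.swap (t * u) * yL a (ep K a * ep K b * t * t * u)) :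
    ∃ SE : CD m K E, ∀ a b, a ≠ b → ∀ t, C.ψ (SE.x a b t) = Sg.x a b t := by
  classical
  have hψ : ∀ a b : Fin m ⊕ Fin m, a ≠ b → ∀ t : K,
      C.ψ (if b = a.swap then yL a t else yS a b t) = Sg.x a b t := by
    intro a b hab t
    by_cases h : b = a.swap
    · rw [if_pos h, hψL, h]
    · rw [if_neg h]
      exact hψS a b hab (fun e => h (by rw [e, Sum.swap_swap])) t
  have hsw : ∀ {a b : Fin m ⊕ Fin m}, a ≠ b.swap → b ≠ a.swap := fun h e => h (by rw [e, Sum.swap_swap])
  refine ⟨⟨fun a b t => if b = a.swap then yL a t else yS a b t, ?_, ?_, ?_, ?_, ?_, ?_⟩, hψ⟩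
  · intro a b hab t u
    by_cases h : b = a.swap
    · simp only [if_pos h]
      exact haddL a t u
    · simp only [if_neg h]
      exact haddS a b hab (fun e => h (by rw [e, Sum.swap_swap])) t u
  · intro a b hab hab' t
    have h1 : ¬ (b = a.swap) := hsw hab'
    have h2 : ¬ (a.swap = b.swap.swap) := by rw [Sum.swap_swap]; exact fun e => h1 e.symm
    simp only [if_neg h1, if_neg h2]
    exact hsym a b hab hab' t
  · intro a b c d hab hcd hbc had hbd hac t u
    exact hL a b c d hab hcd hbc had hbd hac t u _ _ (hψ a b hab t) (hψ c d hcd u)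
  · intro a b c hab hab' hbc hbc' hac hac' t u
    have e := C.cm_eq (hψ a b hab t) (hψ b c hbc u)
    rw [hc1 a b c hab hab' hbc hbc' hac hac'] at e
    change _ = (if c = a.swap then yL a (t * u) else yS a c (t * u))
    rw [if_neg (hsw hac')]
    exact e.symm
  · intro a b hab hab' t u
    have hba' : b ≠ a.swap := hsw hab'
    have e := C.cm_eq (hψ a b hab t) (hψ b a.swap hba' u)
    rw [hc2 a b hab hab'] at e
    change _ = (if a.swap = a.swap then yL a (2 * t * u) else yS a a.swap (2 * t * u))
    rw [if_pos rfl]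
    exact e.symm
  · intro a b hab hab' t u
    have e := C.cm_eq (hψ a b hab t) (hψ b b.swap (ne_swap b) u)
    rw [hc3 a b hab hab'] at e
    simp only [if_true, if_neg (swap_ne_swap hab.symm)] at e ⊢
    exact e.symm

end Cfsg.Agent.Helper7.Cd
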