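import Mathlib
import Cfsg.Agent.Helper7.CeC

set_option autoImplicit false
set_option linter.unusedSectionVars false
set_option linter.unusedVariables false

/-!
# Central extensions of a group with the Steinberg relations of type `C`: the lifts given by the torus

The commutators of lifts of the diagonal elements `h_aā(v)` with lifts of the root elements: canonical lifts
of the root elements.  The short root elements.
-/

namespace Cfsg.Agent.Helper7.Cd

open Cfsg.Agent.Helper7.Sc Cfsg.Agent.Helper7.Sl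

variable {m : ℕ} {K : Type*} [Field K] {G E : Type*} [Group G] [Group E] (Sg : CD m K G)
  (C : CExt E G)

theorem muHL_self (a : Fin m ⊕ Fin m) (v : K) : muHL a v a = v := by
  unfold muHL
  rw [if_pos rfl]

theorem muHL_swap (a : Fin m ⊕ Fin m) (v : K) : muHL a v a.swap = v⁻¹ := by
  unfold muHL
  rw [if_neg (swap_ne a), if_pos rfl]

theorem muHL_out {a c : Fin m ⊕ Fin m} (h1 : c ≠ a) (h2 : c ≠ a.swap) (v : K) : muHL a v c = 1 := by
  unfold muHL
  rw [if_neg h1, if_neg h2]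

theorem muHL_swap' (a : Fin m ⊕ Fin m) (v : K) : muHL a.swap v a = v⁻¹ := by
  have := muHL_swap a.swap v
  rwa [Sum.swap_swap] at this

/-- two diagonal elements commute up to a central element. -/
theorem mon_diag_comm
    (hgen : Subgroup.closure {g | ∃ (a b : Fin m ⊕ Fin m) (t : K), a ≠ b ∧ g = Sg.x a b t} = ⊤)
    {g d : G} {μ μ' : Fin m ⊕ Fin m → K} (hM : Sg.Mon g 1 μ) (hM' : Sg.Mon d 1 μ') :
    ∃ z : G, z ∈ Subgroup.center G ∧ g * d * g⁻¹ = d * z := by
  refine ⟨d⁻¹ * g * (d * g⁻¹), ?_, by group⟩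
  have hA := ((hM'.inv Sg).mul Sg hM).mul Sg (hM'.mul Sg (hM.inv Sg))
  rw [Subgroup.mem_center_iff]
  intro x
  refine hA.central Sg hgen ?_ ?_ x
  · intro i
    simp
  · intro i j hij
    have h1 := hM.1.ne i
    have h2 := hM.1.ne j
    have h3 := hM'.1.ne i
    have h4 := hM'.1.ne j
    simp only [inv_one, Equiv.Perm.one_apply, mul_one, one_mul]
    field_simp

/-- the commutator of lifts with a conjugate of a diagonal element. -/
theorem cm_conj_diag
    (hgen : Subgroup.closure {g | ∃ (a b : Fin m ⊕ Fin m) (t : K), a ≠ b ∧ g = Sg.x a b t} = ⊤)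
    {g d : G} {μ μ' : Fin m ⊕ Fin m → K} (hM : Sg.Mon g 1 μ) (hM' : Sg.Mon d 1 μ') (y : G) :
    C.cm (g * d * g⁻¹) y = C.cm d y := by
  obtain ⟨z, hz, e⟩ := mon_diag_comm Sg hgen hM hM'
  rw [e, C.cm_mul_central hz]

section tor

variable (hm : 2 ≤ m)
  (hgen : Subgroup.closure {g | ∃ (a b : Fin m ⊕ Fin m) (t : K), a ≠ b ∧ g = Sg.x a b t} = ⊤)
  {v : K} (hv0 : v ≠ 0) (hv1 : v ≠ 1) (hL : LCc Sg C)

/-- the canonical lifts of the short root elements. -/
noncomputable def yTS (v : K) (a b : Fin m ⊕ Fin m) (t : K) : E :=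
  C.cm (Sg.h a a.swap v) (Sg.x a b (t / (v - 1)))

include hm hv0 hv1 in
theorem ψ_yTS {a b : Fin m ⊕ Fin m} (hab : a ≠ b) (hab' : a ≠ b.swap) (t : K) :
    C.ψ (yTS Sg C v a b t) = Sg.x a b t := by
  have hba' : b ≠ a.swap := fun e => hab' (by rw [e, Sum.swap_swap])
  unfold yTS
  rw [C.ψ_cm, ← MulAut.conj_apply, (Sg.mon_h_long hm hv0).2 a b hab, Equiv.Perm.one_apply,
    Equiv.Perm.one_apply, muHL_self, muHL_out hab.symm hba', inv_one, mul_one, Sg.x_inv hab, Sg.add a b hab]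
  congr 1
  have : v - 1 ≠ 0 := sub_ne_zero.mpr hv1
  field_simp
  ring

include hm hgen in
/-- the canonical lifts are scaled by the diagonal elements. -/
theorem kap_yTS {g : G} {μ : Fin m ⊕ Fin m → K} (hM : Sg.Mon g 1 μ) {a b : Fin m ⊕ Fin m} (hab : a ≠ b)
    (hv0 : v ≠ 0) (t : K) : C.kap g (yTS Sg C v a b t) = yTS Sg C v a b (μ a * (μ b)⁻¹ * t) := by
  unfold yTS
  rw [C.kap_cm, cm_conj_diag Sg C hgen hM (Sg.mon_h_long hm hv0), ← MulAut.conj_apply, hM.2 a b hab,
    Equiv.Perm.one_apply, Equiv.Perm.one_apply, mul_div_assoc]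

include hm hv0 hv1 hL in
theorem add_yTS {a b : Fin m ⊕ Fin m} (hab : a ≠ b) (hab' : a ≠ b.swap) (t u : K) :
    yTS Sg C v a b t * yTS Sg C v a b u = yTS Sg C v a b (t + u) := by
  have h1 : C.kap (Sg.x a b (t / (v - 1))) (yTS Sg C v a b u) = yTS Sg C v a b u :=
    (hL a b a b hab hab hab.symm hab (fun e => swap_ne b e.symm) (swap_ne a) _ u).kap_eq C
      (ψ_yTS Sg C hm hv0 hv1 hab hab' u)
  unfold yTS at h1 ⊢
  rw [add_div, ← Sg.add a b hab, C.cm_mul_right, h1]

include hm hgen hv0 hv1 hL in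
/-- the symmetry of the canonical lifts. -/
theorem sym_yTS {a b : Fin m ⊕ Fin m} (hab : a ≠ b) (hab' : a ≠ b.swap) (t : K) :
    yTS Sg C v a b t = yTS Sg C v b.swap a.swap (-(ep K a * ep K b) * t) := by
  have hba' : b ≠ a.swap := fun e => hab' (by rw [e, Sum.swap_swap])
  have hb'a' : b.swap ≠ a.swap := swap_ne_swap hab.symm
  have hb'a : b.swap ≠ a.swap.swap := by rw [Sum.swap_swap]; exact fun e => hab' e.symm
  refine eq_of_scale C (L := fun t => yTS Sg C v a b t)
    (R := fun t => yTS Sg C v b.swap a.swap (-(ep K a * ep K b) * t)) ?_ ?_ ?_ hv1 (Sg.h a a.swap v) ?_ ?_ t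
  · intro t
    rw [ψ_yTS Sg C hm hv0 hv1 hab hab', ψ_yTS Sg C hm hv0 hv1 hb'a' hb'a]
    exact Sg.sym a b hab hab' t
  · intro t t'
    exact (add_yTS Sg C hm hv0 hv1 hL hab hab' t t').symm
  · intro t t'
    change yTS Sg C v b.swap a.swap (-(ep K a * ep K b) * (t + t')) = _
    rw [mul_add]
    exact (add_yTS Sg C hm hv0 hv1 hL hb'a' hb'a _ _).symm
  · intro t
    change C.kap _ (yTS Sg C v a b t) = yTS Sg C v a b (v * t)
    rw [kap_yTS Sg C hm hgen (Sg.mon_h_long hm hv0) hab hv0, muHL_self, muHL_out hab.symm hba', inv_one,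
      mul_one]
  · intro t
    change C.kap _ (yTS Sg C v b.swap a.swap (-(ep K a * ep K b) * t)) =
      yTS Sg C v b.swap a.swap (-(ep K a * ep K b) * (v * t))
    rw [kap_yTS Sg C hm hgen (Sg.mon_h_long hm hv0) hb'a' hv0, muHL_swap,
      muHL_out (fun e => hab' e.symm) hb'a', inv_inv, one_mul]
    congr 1
    ring

include hm hgen hv0 hv1 hL in
/-- the commutators of the lifts of the short root elements at `120°`. -/
theorem c1_yTS {a b c : Fin m ⊕ Fin m} (hab : a ≠ b) (hab' : a ≠ b.swap) (hbc : b ≠ c)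
    (hbc' : b ≠ c.swap) (hac : a ≠ c) (hac' : a ≠ c.swap) (t u : K) :
    C.cm (Sg.x a b t) (Sg.x b c u) = yTS Sg C v a c (t * u) := by
  have hba' : b ≠ a.swap := fun e => hab' (by rw [e, Sum.swap_swap])
  have hca' : c ≠ a.swap := fun e => hac' (by rw [e, Sum.swap_swap])
  have hψL : ∀ t : K, C.ψ (C.cm (Sg.x a b t) (Sg.x b c u)) = Sg.x a c (t * u) := by
    intro t
    rw [C.ψ_cm, Sg.c1 a b c hab hab' hbc hbc' hac hac']
  refine eq_of_scale C (L := fun t => C.cm (Sg.x a b t) (Sg.x b c u))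
    (R := fun t => yTS Sg C v a c (t * u)) ?_ ?_ ?_ hv1 (Sg.h a a.swap v) ?_ ?_ t
  · intro t
    rw [hψL, ψ_yTS Sg C hm hv0 hv1 hac hac']
  · intro t t'
    change C.cm (Sg.x a b (t + t')) (Sg.x b c u) = _
    rw [← Sg.add a b hab, cm_mul_left_of_lc]
    · exact hL a c a c hac hac hac.symm hac (fun e => swap_ne c e.symm) (swap_ne a) _ _ _ _ (hψL t')
        (hψL t)
    · rw [Sg.c1 a b c hab hab' hbc hbc' hac hac']
      exact hL a b a c hab hac (fun e => hab e.symm) hac hbc' (swap_ne a) _ _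
  · intro t t'
    change yTS Sg C v a c ((t + t') * u) = _
    rw [add_mul]
    exact (add_yTS Sg C hm hv0 hv1 hL hac hac' _ _).symm
  · intro t
    change C.kap _ (C.cm (Sg.x a b t) (Sg.x b c u)) = C.cm (Sg.x a b (v * t)) (Sg.x b c u)
    rw [kap_cmx Sg C (Sg.mon_h_long hm hv0) hab hbc, Equiv.Perm.one_apply, Equiv.Perm.one_apply,
      Equiv.Perm.one_apply, muHL_self, muHL_out hab.symm hba', muHL_out hac.symm hca', inv_one, mul_one,
      mul_one, one_mul]
  · intro t
    change C.kap _ (yTS Sg C v a c (t * u)) = yTS Sg C v a c (v * t * u)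
    rw [kap_yTS Sg C hm hgen (Sg.mon_h_long hm hv0) hac hv0, muHL_self, muHL_out hac.symm hca', inv_one,
      mul_one, mul_assoc]

end tor

end Cfsg.Agent.Helper7.Cd
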