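import Mathlib
import Cfsg.Agent.Helper7.CeD

set_option autoImplicit false
set_option linter.unusedSectionVars false
set_option linter.unusedVariables false

/-!
# Central extensions of a group with the Steinberg relations of type `C`: commuting lifts by the torus
-/

namespace Cfsg.Agent.Helper7.Cd

open Cfsg.Agent.Helper7.Sc Cfsg.Agent.Helper7.Sl

variable {m : ℕ} {K : Type*} [Field K] {G E : Type*} [Group G] [Group E] (Sg : CD m K G)
  (C : CExt E G)

/-- the lifts of a short root element commute with those of a commuting root element whose support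
misses one of its indices, when there is `v ≠ 0, 1`. -/
theorem lc_tor_short (hm : 2 ≤ m) {v : K} (hv0 : v ≠ 0) (hv1 : v ≠ 1) (a b c d : Fin m ⊕ Fin m)
    (hab : a ≠ b) (hcd : c ≠ d) (hbc : b ≠ c) (had : a ≠ d) (hbd : b ≠ d.swap) (hac : a.swap ≠ c)
    (hab' : a ≠ b.swap) (hout : Out a c d ∨ Out b c d) (t u : K) :
    C.LC (Sg.x a b t) (Sg.x c d u) := by
  have hba' : b ≠ a.swap := fun e => hab' (by rw [e, Sum.swap_swap])
  have hsw : ∀ {p q : Fin m ⊕ Fin m}, p ≠ q.swap → q ≠ p.swap := fun h e => h (by rw [e, Sum.swap_swap])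
  have hcomm : ∀ t u : K, Sg.x a b t * Sg.x c d u = Sg.x c d u * Sg.x a b t :=
    fun t u => Sg.comm a b c d hab hcd hbc had hbd hac t u
  rcases hout with ⟨h1, h2, h3, h4⟩ | ⟨h1, h2, h3, h4⟩
  · refine lc_tor Sg C (Sg.mon_h_long hm (a := a) hv0) hab hcd hcomm ?_ ?_ t u
    · rw [muHL_self, muHL_out hab.symm hba', inv_one, mul_one]
      exact hv1
    · rw [muHL_out h1.symm (hsw h2), muHL_out h3.symm (hsw h4), inv_one, mul_one]
  · refine lc_tor Sg C (Sg.mon_h_long hm (a := b) hv0) hab hcd hcomm ?_ ?_ t u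
    · rw [muHL_self, muHL_out hab hab', one_mul]
      intro e
      apply hv1
      rw [← inv_inv v, e, inv_one]
    · rw [muHL_out h1.symm (hsw h2), muHL_out h3.symm (hsw h4), inv_one, mul_one]

/-- the lifts of two long root elements commute, when there is `v ≠ 0` with `v² ≠ 1`. -/
theorem lc_tor_long (hm : 2 ≤ m) {v : K} (hv0 : v ≠ 0) (hv2 : v * v ≠ 1) (a b : Fin m ⊕ Fin m)
    (hab : a ≠ b) (hab' : a ≠ b.swap) (t u : K) : C.LC (Sg.x a a.swap t) (Sg.x b b.swap u) := by
  have hba' : b ≠ a.swap := fun e => hab' (by rw [e, Sum.swap_swap])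
  have hcomm : ∀ t u : K, Sg.x a a.swap t * Sg.x b b.swap u = Sg.x b b.swap u * Sg.x a a.swap t :=
    fun t u => Sg.comm a a.swap b b.swap (ne_swap a) (ne_swap b) hba'.symm hab'
      (by rw [Sum.swap_swap]; exact hba'.symm) (fun e => hba' e.symm) t u
  refine lc_tor Sg C (Sg.mon_h_long hm (a := a) hv0) (ne_swap a) (ne_swap b) hcomm ?_ ?_ t u
  · rw [muHL_self, muHL_swap, inv_inv]
    exact hv2
  · rw [muHL_out hab.symm hba', muHL_out (fun e => hab' e.symm) (swap_ne_swap hab.symm), inv_one, mul_one]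

/-- **the lifts of commuting root elements commute, when there is `v ≠ 0` with `v² ≠ 1`.** -/
theorem lcc_tor (hm : 2 ≤ m) {v : K} (hv0 : v ≠ 0) (hv2 : v * v ≠ 1) : LCc Sg C := by
  have hv1 : v ≠ 1 := by
    intro e
    apply hv2
    rw [e, mul_one]
  have hS := lc_tor_short Sg C hm hv0 hv1
  have h7 := lc_tor_long Sg C hm hv0 hv2
  exact lcc_of Sg C hm hS h7 (fun a b hab hab' t u =>
    lc_short_same Sg C hm (lc_long_short_of Sg C hS) h7 hab hab' t u)

end Cfsg.Agent.Helper7.Cd
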