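import Mathlib
import Cfsg.Agent.Helper7.CeE

set_option autoImplicit false
set_option linter.unusedSectionVars false
set_option linter.unusedVariables false

/-!
# Central extensions of a group with the Steinberg relations of type `C`: fields with an element `v ≠ 0`,
`v² ≠ 1`

The canonical lifts of the long root elements given by the torus, and the Steinberg relations in the extension.
-/

namespace Cfsg.Agent.Helper7.Cd

open Cfsg.Agent.Helper7.Sc Cfsg.Agent.Helper7.Sl

variable {m : ℕ} {K : Type*} [Field K] {G E : Type*} [Group G] [Group E] (Sg : CD m K G)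
  (C : CExt E G)

section tor

variable (hm : 2 ≤ m)
  (hgen : Subgroup.closure {g | ∃ (a b : Fin m ⊕ Fin m) (t : K), a ≠ b ∧ g = Sg.x a b t} = ⊤)
  {v : K} (hv0 : v ≠ 0) (hv2 : v * v ≠ 1) (hL : LCc Sg C)

/-- the canonical lifts of the long root elements. -/
noncomputable def yTL (v : K) (a : Fin m ⊕ Fin m) (t : K) : E :=
  C.cm (Sg.h a a.swap v) (Sg.x a a.swap (t / (v * v - 1)))

include hm hv0 hv2 in
theorem ψ_yTL (a : Fin m ⊕ Fin m) (t : K) : C.ψ (yTL Sg C v a t) = Sg.x a a.swap t := by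
  unfold yTL
  rw [C.ψ_cm, ← MulAut.conj_apply, (Sg.mon_h_long hm hv0).2 a a.swap (ne_swap a), Equiv.Perm.one_apply,
    Equiv.Perm.one_apply, muHL_self, muHL_swap, inv_inv, Sg.x_inv (ne_swap a), Sg.add a a.swap (ne_swap a)]
  congr 1
  have h : v * v - 1 ≠ 0 := sub_ne_zero.mpr hv2
  have e : v * v * (t / (v * v - 1)) + -(t / (v * v - 1)) = (v * v - 1) * (t / (v * v - 1)) := by ring
  rw [e, mul_div_cancel₀ _ h]

include hm hgen in
theorem kap_yTL {g : G} {μ : Fin m ⊕ Fin m → K} (hM : Sg.Mon g 1 μ) (a : Fin m ⊕ Fin m)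
    (hv0 : v ≠ 0) (t : K) : C.kap g (yTL Sg C v a t) = yTL Sg C v a (μ a * (μ a.swap)⁻¹ * t) := by
  unfold yTL
  rw [C.kap_cm, cm_conj_diag Sg C hgen hM (Sg.mon_h_long hm hv0), ← MulAut.conj_apply,
    hM.2 a a.swap (ne_swap a), Equiv.Perm.one_apply, Equiv.Perm.one_apply, mul_div_assoc]

include hm hv0 hv2 hL in
theorem add_yTL (a : Fin m ⊕ Fin m) (t u : K) :
    yTL Sg C v a t * yTL Sg C v a u = yTL Sg C v a (t + u) := by
  have h1 : C.kap (Sg.x a a.swap (t / (v * v - 1))) (yTL Sg C v a u) = yTL Sg C v a u :=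
    (hL a a.swap a a.swap (ne_swap a) (ne_swap a) (swap_ne a) (ne_swap a)
      (by rw [Sum.swap_swap]; exact swap_ne a) (swap_ne a) _ u).kap_eq C (ψ_yTL Sg C hm hv0 hv2 a u)
  unfold yTL at h1 ⊢
  rw [add_div, ← Sg.add a a.swap (ne_swap a), C.cm_mul_right, h1]

include hm hv0 in
/-- the product of two diagonal elements. -/
theorem mon_dd2 (a b : Fin m ⊕ Fin m) :
    Sg.Mon (Sg.h a a.swap v * Sg.h b b.swap v) 1 (fun c => muHL a v c * muHL b v c) :=
  ((Sg.mon_h_long hm (a := a) hv0).mul Sg (Sg.mon_h_long hm (a := b) hv0)).congr Sg (mul_one 1)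
    (fun c => rfl)

include hm hgen hv0 hv2 hL in
/-- the commutators of the lifts of the short root elements at `90°`. -/
theorem c2_tor {a b : Fin m ⊕ Fin m} (hab : a ≠ b) (hab' : a ≠ b.swap) (t u : K) :
    C.cm (Sg.x a b t) (Sg.x b a.swap u) = yTL Sg C v a (2 * t * u) := by
  have hba' : b ≠ a.swap := fun e => hab' (by rw [e, Sum.swap_swap])
  have hv1 : v ≠ 1 := by
    intro e
    apply hv2
    rw [e, mul_one]
  have hψL : ∀ u : K, C.ψ (C.cm (Sg.x a b t) (Sg.x b a.swap u)) = Sg.x a a.swap (2 * t * u) := by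
    intro u
    rw [C.ψ_cm, Sg.c2 a b hab hab']
  have hM := mon_dd2 Sg hm hv0 a b
  have e1 : muHL a v a * muHL b v a = v := by rw [muHL_self, muHL_out hab hab', mul_one]
  have e2 : muHL a v b * muHL b v b = v := by rw [muHL_self, muHL_out hab.symm hba', one_mul]
  have e3 : muHL a v a.swap * muHL b v a.swap = v⁻¹ := by
    rw [muHL_swap, muHL_out (fun e => hba' e.symm) (swap_ne_swap hab), mul_one]
  refine eq_of_scale C (L := fun u => C.cm (Sg.x a b t) (Sg.x b a.swap u))
    (R := fun u => yTL Sg C v a (2 * t * u)) ?_ ?_ ?_ hv2 (Sg.h a a.swap v * Sg.h b b.swap v) ?_ ?_ u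
  · intro u
    rw [hψL, ψ_yTL Sg C hm hv0 hv2]
  · intro u u'
    change C.cm (Sg.x a b t) (Sg.x b a.swap (u + u')) = _
    rw [← Sg.add b a.swap hba', cm_mul_right_of_lc]
    rw [Sg.c2 a b hab hab']
    exact hL b a.swap a a.swap hba' (ne_swap a) (swap_ne a) hba'
      (by rw [Sum.swap_swap]; exact swap_ne a) (fun e => hab' e.symm) _ _
  · intro u u'
    change yTL Sg C v a (2 * t * (u + u')) = _
    rw [mul_add]
    exact (add_yTL Sg C hm hv0 hv2 hL a _ _).symm
  · intro u
    change C.kap _ (C.cm (Sg.x a b t) (Sg.x b a.swap u)) = C.cm (Sg.x a b t) (Sg.x b a.swap (v * v * u))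
    rw [kap_cmx Sg C hM hab hba']
    simp only [Equiv.Perm.one_apply, e1, e2, e3, inv_inv]
    rw [mul_inv_cancel₀ hv0, one_mul]
  · intro u
    change C.kap _ (yTL Sg C v a (2 * t * u)) = yTL Sg C v a (2 * t * (v * v * u))
    rw [kap_yTL Sg C hm hgen hM a hv0]
    simp only [e1, e3, inv_inv]
    congr 1
    ring

include hm hgen hv0 hv2 hL in
/-- the commutators of the lifts of a short and a long root element at `135°`. -/
theorem c3_tor {a b : Fin m ⊕ Fin m} (hab : a ≠ b) (hab' : a ≠ b.swap) (t u : K) :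
    C.cm (Sg.x a b t) (Sg.x b b.swap u) =
      yTS Sg C v a b.swap (t * u) * yTL Sg C v a (ep K a * ep K b * t * t * u) := by
  have hba' : b ≠ a.swap := fun e => hab' (by rw [e, Sum.swap_swap])
  have hab'' : a ≠ b.swap.swap := by rw [Sum.swap_swap]; exact hab
  have hv1 : v ≠ 1 := by
    intro e
    apply hv2
    rw [e, mul_one]
  have hψL : ∀ u : K, C.ψ (C.cm (Sg.x a b t) (Sg.x b b.swap u)) =
      Sg.x a b.swap (t * u) * Sg.x a a.swap (ep K a * ep K b * t * t * u) := by
    intro u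
    rw [C.ψ_cm, Sg.c3 a b hab hab']
  have hM := mon_dd2 Sg hm hv0 a b
  have e1 : muHL a v a * muHL b v a = v := by rw [muHL_self, muHL_out hab hab', mul_one]
  have e2 : muHL a v b * muHL b v b = v := by rw [muHL_self, muHL_out hab.symm hba', one_mul]
  have e3 : muHL a v a.swap * muHL b v a.swap = v⁻¹ := by
    rw [muHL_swap, muHL_out (fun e => hba' e.symm) (swap_ne_swap hab), mul_one]
  have e4 : muHL a v b.swap * muHL b v b.swap = v⁻¹ := by
    rw [muHL_swap, muHL_out (fun e => hab' e.symm) (swap_ne_swap hab.symm), one_mul]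
  -- the commuting of the two factors
  have hcomm : ∀ s s' : K, yTS Sg C v a b.swap s * yTL Sg C v a s' =
      yTL Sg C v a s' * yTS Sg C v a b.swap s := by
    intro s s'
    exact hL a b.swap a a.swap hab' (ne_swap a) (fun e => hab' e.symm) (ne_swap a)
      (by rw [Sum.swap_swap]; exact fun e => hab' e.symm) (swap_ne a) s s' _ _
      (ψ_yTS Sg C hm hv0 hv1 hab' hab'' s) (ψ_yTL Sg C hm hv0 hv2 a s')
  refine eq_of_scale C (L := fun u => C.cm (Sg.x a b t) (Sg.x b b.swap u))
    (R := fun u => yTS Sg C v a b.swap (t * u) * yTL Sg C v a (ep K a * ep K b * t * t * u))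
    ?_ ?_ ?_ hv2 (Sg.h a a.swap v * Sg.h b b.swap v) ?_ ?_ u
  · intro u
    rw [hψL, map_mul, ψ_yTS Sg C hm hv0 hv1 hab' hab'', ψ_yTL Sg C hm hv0 hv2]
  · intro u u'
    change C.cm (Sg.x a b t) (Sg.x b b.swap (u + u')) = _
    rw [← Sg.add b b.swap (ne_swap b), cm_mul_right_of_lc]
    rw [Sg.c3 a b hab hab']
    refine lc_mul_right C ?_ ?_
    · exact hL b b.swap a b.swap (ne_swap b) hab' (fun e => hab' e.symm) (ne_swap b)
        (by rw [Sum.swap_swap]; exact swap_ne b) (fun e => hab' e.symm) _ _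
    · exact hL b b.swap a a.swap (ne_swap b) (ne_swap a) (fun e => hab' e.symm) hba'
        (by rw [Sum.swap_swap]; exact fun e => hab' e.symm) (fun e => hab' e.symm) _ _
  · intro u u'
    change yTS Sg C v a b.swap (t * (u + u')) * yTL Sg C v a (ep K a * ep K b * t * t * (u + u')) = _
    rw [mul_add, mul_add, ← add_yTS Sg C hm hv0 hv1 hL hab' hab'', ← add_yTL Sg C hm hv0 hv2 hL]
    calc yTS Sg C v a b.swap (t * u) * yTS Sg C v a b.swap (t * u') *
          (yTL Sg C v a (ep K a * ep K b * t * t * u) * yTL Sg C v a (ep K a * ep K b * t * t * u'))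
        = yTS Sg C v a b.swap (t * u) * (yTS Sg C v a b.swap (t * u') *
          yTL Sg C v a (ep K a * ep K b * t * t * u)) * yTL Sg C v a (ep K a * ep K b * t * t * u') := by
          group
      _ = yTS Sg C v a b.swap (t * u) * (yTL Sg C v a (ep K a * ep K b * t * t * u) *
          yTS Sg C v a b.swap (t * u')) * yTL Sg C v a (ep K a * ep K b * t * t * u') := by rw [hcomm]
      _ = _ := by group
  · intro u
    change C.kap _ (C.cm (Sg.x a b t) (Sg.x b b.swap u)) = C.cm (Sg.x a b t) (Sg.x b b.swap (v * v * u))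
    rw [kap_cmx Sg C hM hab (ne_swap b)]
    simp only [Equiv.Perm.one_apply, e1, e2, e4, inv_inv]
    rw [mul_inv_cancel₀ hv0, one_mul]
  · intro u
    change C.kap _ (yTS Sg C v a b.swap (t * u) * yTL Sg C v a (ep K a * ep K b * t * t * u)) =
      yTS Sg C v a b.swap (t * (v * v * u)) * yTL Sg C v a (ep K a * ep K b * t * t * (v * v * u))
    rw [map_mul, kap_yTS Sg C hm hgen hM hab' hv0, kap_yTL Sg C hm hgen hM a hv0]
    simp only [e1, e3, e4, inv_inv]
    congr 2 <;> ring

include hm hgen hv0 hv2 in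
/-- **a central extension of a group with the Steinberg relations of type `C` carries these relations, when
there is `v ≠ 0` with `v² ≠ 1`.** -/
theorem exists_CD_tor : ∃ SE : CD m K E, ∀ a b, a ≠ b → ∀ t, C.ψ (SE.x a b t) = Sg.x a b t := by
  have hv1 : v ≠ 1 := by
    intro e
    apply hv2
    rw [e, mul_one]
  have hL : LCc Sg C := lcc_tor Sg C hm hv0 hv2
  exact exists_CD_of Sg C (yTS Sg C v) (yTL Sg C v) hL
    (fun a b hab hab' t => ψ_yTS Sg C hm hv0 hv1 hab hab' t)
    (fun a t => ψ_yTL Sg C hm hv0 hv2 a t)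
    (fun a b hab hab' t u => add_yTS Sg C hm hv0 hv1 hL hab hab' t u)
    (fun a t u => add_yTL Sg C hm hv0 hv2 hL a t u)
    (fun a b hab hab' t => sym_yTS Sg C hm hgen hv0 hv1 hL hab hab' t)
    (fun a b c hab hab' hbc hbc' hac hac' t u => c1_yTS Sg C hm hgen hv0 hv1 hL hab hab' hbc hbc' hac hac' t u)
    (fun a b hab hab' t u => c2_tor Sg C hm hgen hv0 hv2 hL hab hab' t u)
    (fun a b hab hab' t u => c3_tor Sg C hm hgen hv0 hv2 hL hab hab' t u)

end tor

end Cfsg.Agent.Helper7.Cd
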