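import Mathlib
import Cfsg.Agent.Helper7.CeF

set_option autoImplicit false
set_option linter.unusedSectionVars false
set_option linter.unusedVariables false

/-!
# Central extensions of a group with the Steinberg relations of type `C`: commuting lifts over the field
with three elements
-/

namespace Cfsg.Agent.Helper7.Cd

open Cfsg.Agent.Helper7.Sc Cfsg.Agent.Helper7.Sl

variable {m : ℕ} {K : Type*} [Field K] {G E : Type*} [Group G] [Group E] (Sg : CD m K G)
  (C : CExt E G)

/-- the lifts of two long root elements commute, in odd characteristic, when the lifts of a long root element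
commute with those of the short root elements at `45°` and the lifts of a short root element commute with each
other. -/
theorem lc_long_long_odd (hm : 2 ≤ m) (h2 : (2 : K) ≠ 0)
    (h4 : ∀ a b : Fin m ⊕ Fin m, a ≠ b → a ≠ b.swap → ∀ t u : K,
      C.LC (Sg.x a a.swap t) (Sg.x a b u))
    (h1 : ∀ a b : Fin m ⊕ Fin m, a ≠ b → a ≠ b.swap → ∀ t u : K, C.LC (Sg.x a b t) (Sg.x a b u))
    (a b : Fin m ⊕ Fin m) (hab : a ≠ b) (hab' : a ≠ b.swap) (t u : K) :
    C.LC (Sg.x a a.swap t) (Sg.x b b.swap u) := by
  have hba' : b ≠ a.swap := fun e => hab' (by rw [e, Sum.swap_swap])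
  have hab'' : a ≠ b.swap.swap := by rw [Sum.swap_swap]; exact hab
  have hba'' : b ≠ a.swap.swap := by rw [Sum.swap_swap]; exact hab.symm
  have hc2 := Sg.c2 b a hab.symm hba' 1 (u / 2)
  have e1 : 2 * 1 * (u / 2) = u := by field_simp
  rw [e1] at hc2
  have hcomm : Sg.x a a.swap t * Sg.x a b.swap (u / 2) = Sg.x a b.swap (u / 2) * Sg.x a a.swap t :=
    (Sg.comm_short_long hab' hab'' (u / 2) t).symm
  have hcj := Sg.cj3' hab.symm hba' 1 t
  rw [MulAut.conj_apply] at hcj
  -- the short root element in the other form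
  have hsym : ∀ s : K, Sg.x a b.swap s = Sg.x b a.swap (ep K a * ep K b * s) := fun s => Sg.sym' hab hab' s
  have hA1 : ∀ s s' : K, C.LC (Sg.x b b.swap s) (Sg.x a b.swap s') := by
    intro s s'
    rw [hsym]
    exact h4 b a.swap hba' hba'' s _
  have hA2 : ∀ s s' : K, C.LC (Sg.x b a.swap s) (Sg.x a b.swap s') := by
    intro s s'
    rw [hsym]
    exact h1 b a.swap hba' hba'' s _
  have h6 := lc_long_same Sg C hm h4
  have hfin := lc_of_cm_gen C hcomm hcj (lc_mul_left C (hA1 _ _) (hA2 _ _))
    (by
      rw [hc2]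
      exact lc_mul_left C (h6 b _ _) ((h4 b a.swap hba' hba'' _ _).symm C))
  rw [hc2] at hfin
  exact hfin

/-- over the field with three elements the lifts of a root element commute with each other. -/
theorem lc_same_three (hK : ∀ t u : K, t = 0 ∨ u = 0 ∨ u = t ∨ u = -t) {a b : Fin m ⊕ Fin m}
    (hab : a ≠ b) (t u : K) : C.LC (Sg.x a b t) (Sg.x a b u) := by
  have hself : C.LC (Sg.x a b t) (Sg.x a b t) := by
    rw [C.LC_iff, C.cm_self]
  rcases hK t u with rfl | rfl | rfl | rfl
  · rw [Sg.x_zero hab]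
    exact lc_one_left C _
  · rw [Sg.x_zero hab]
    exact lc_one_right C _
  · exact hself
  · rw [← Sg.x_inv hab]
    exact lc_inv_right C hself

/-- **the lifts of commuting root elements commute, over the field with three elements.** -/
theorem lcc_three (hm : 2 ≤ m) (h3 : (3 : K) = 0)
    (hK : ∀ t u : K, t = 0 ∨ u = 0 ∨ u = t ∨ u = -t) : LCc Sg C := by
  have h2 : (2 : K) ≠ 0 := by
    intro e
    have : (1 : K) = 0 := by linear_combination h3 - e
    exact one_ne_zero this
  have hv0 : (-1 : K) ≠ 0 := neg_ne_zero.mpr one_ne_zero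
  have hv1 : (-1 : K) ≠ 1 := by
    intro e
    apply h2
    linear_combination -e
  have hS := lc_tor_short Sg C hm hv0 hv1
  have h1 : ∀ a b : Fin m ⊕ Fin m, a ≠ b → a ≠ b.swap → ∀ t u : K, C.LC (Sg.x a b t) (Sg.x a b u) :=
    fun a b hab _ t u => lc_same_three Sg C hK hab t u
  exact lcc_of Sg C hm hS (lc_long_long_odd Sg C hm h2 (lc_long_short_of Sg C hS) h1) h1

end Cfsg.Agent.Helper7.Cd
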