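import Mathlib
import Cfsg.Agent.Helper7.CeG

set_option autoImplicit false
set_option linter.unusedSectionVars false
set_option linter.unusedVariables false

/-!
# Central extensions of a group with the Steinberg relations of type `C`: the commutators of lifts of the
short root elements at `90°`
-/

namespace Cfsg.Agent.Helper7.Cd

open Cfsg.Agent.Helper7.Sc Cfsg.Agent.Helper7.Sl

variable {m : ℕ} {K : Type*} [Field K] {G E : Type*} [Group G] [Group E] (Sg : CD m K G)
  (C : CExt E G)

/-- the commutator of lifts of `x_ab(t)` and `x_bā(u)`. -/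
noncomputable def G2 (a b : Fin m ⊕ Fin m) (t u : K) : E := C.cm (Sg.x a b t) (Sg.x b a.swap u)

section basic

variable (hL : LCc Sg C) {a b : Fin m ⊕ Fin m} (hab : a ≠ b) (hab' : a ≠ b.swap)

include hab hab' in
theorem ψ_G2 (t u : K) : C.ψ (G2 Sg C a b t u) = Sg.x a a.swap (2 * t * u) := by
  unfold G2
  rw [C.ψ_cm, Sg.c2 a b hab hab']

include hL hab hab' in
theorem G2_add_left (t t' u : K) : G2 Sg C a b (t + t') u = G2 Sg C a b t u * G2 Sg C a b t' u := by
  have hba' : b ≠ a.swap := fun e => hab' (by rw [e, Sum.swap_swap])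
  have h1 : G2 Sg C a b (t + t') u = G2 Sg C a b t' u * G2 Sg C a b t u := by
    unfold G2
    rw [← Sg.add a b hab, cm_mul_left_of_lc]
    rw [Sg.c2 a b hab hab']
    exact hL a b a a.swap hab (ne_swap a) hab.symm (ne_swap a) (by rw [Sum.swap_swap]; exact hab.symm)
      (swap_ne a) _ _
  rw [h1]
  exact hL a a.swap a a.swap (ne_swap a) (ne_swap a) (swap_ne a) (ne_swap a)
    (by rw [Sum.swap_swap]; exact swap_ne a) (swap_ne a) _ _ _ _ (ψ_G2 Sg C hab hab' t' u)
    (ψ_G2 Sg C hab hab' t u)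

include hL hab hab' in
theorem G2_add_right (t u u' : K) : G2 Sg C a b t (u + u') = G2 Sg C a b t u * G2 Sg C a b t u' := by
  have hba' : b ≠ a.swap := fun e => hab' (by rw [e, Sum.swap_swap])
  unfold G2
  rw [← Sg.add b a.swap hba', cm_mul_right_of_lc]
  rw [Sg.c2 a b hab hab']
  exact hL b a.swap a a.swap hba' (ne_swap a) (swap_ne a) hba'
    (by rw [Sum.swap_swap]; exact swap_ne a) (fun e => hab' e.symm) _ _

include hab in
theorem G2_zero_left (u : K) : G2 Sg C a b 0 u = 1 := by
  unfold G2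
  rw [Sg.x_zero hab, cm_one_left]

include hab' in
theorem G2_zero_right (t : K) : G2 Sg C a b t 0 = 1 := by
  have hba' : b ≠ a.swap := fun e => hab' (by rw [e, Sum.swap_swap])
  unfold G2
  rw [Sg.x_zero hba', cm_one_right]

include hL hab hab' in
theorem G2_neg_left (t u : K) : G2 Sg C a b (-t) u = (G2 Sg C a b t u)⁻¹ := by
  have h := G2_add_left Sg C hL hab hab' t (-t) u
  rw [add_neg_cancel, G2_zero_left Sg C hab] at h
  exact (inv_eq_of_mul_eq_one_right h.symm).symm

include hL hab hab' in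
theorem G2_neg_right (t u : K) : G2 Sg C a b t (-u) = (G2 Sg C a b t u)⁻¹ := by
  have h := G2_add_right Sg C hL hab hab' t u (-u)
  rw [add_neg_cancel, G2_zero_right Sg C hab'] at h
  exact (inv_eq_of_mul_eq_one_right h.symm).symm

include hL hab hab' in
/-- the other form of the commutator. -/
theorem G2_swap (t u : K) : G2 Sg C a b.swap t u = G2 Sg C a b u t := by
  have e1 : Sg.x a b.swap t = Sg.x b a.swap (ep K a * ep K b * t) := Sg.sym' hab hab' t
  have e2 : Sg.x b.swap a.swap u = Sg.x a b (-(ep K a * ep K b) * u) := by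
    rw [Sg.sym a b hab hab']
    congr 1
    have := ep_mul_sq (K := K) a b
    linear_combination -u * this
  have e3 : G2 Sg C a b.swap t u =
      (G2 Sg C a b (-(ep K a * ep K b) * u) (ep K a * ep K b * t))⁻¹ := by
    unfold G2
    rw [e1, e2, C.cm_inv]
  rw [e3]
  rcases ep_cases (K := K) a with ha | ha <;> rcases ep_cases (K := K) b with hb | hb <;>
    rw [ha, hb]
  · rw [mul_one, one_mul, neg_one_mul, G2_neg_left Sg C hL hab hab', inv_inv]
  · rw [one_mul, neg_neg, one_mul, neg_one_mul, G2_neg_right Sg C hL hab hab', inv_inv]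
  · rw [mul_one, neg_neg, one_mul, neg_one_mul, G2_neg_right Sg C hL hab hab', inv_inv]
  · rw [neg_mul_neg, one_mul, one_mul, neg_one_mul, G2_neg_left Sg C hL hab hab', inv_inv]

include hL hab hab' in
/-- the commutator does not depend on the second index, for an index outside. -/
theorem G2_weyl {b' : Fin m ⊕ Fin m} (hbb' : b ≠ b') (hbb'' : b ≠ b'.swap) (hab₁ : a ≠ b')
    (hab₁' : a ≠ b'.swap) (t u : K) : G2 Sg C a b t u = G2 Sg C a b' t u := by
  have hba' : b ≠ a.swap := fun e => hab' (by rw [e, Sum.swap_swap])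
  have hb'a' : b' ≠ a.swap := fun e => hab₁' (by rw [e, Sum.swap_swap])
  have h1 : (1 : K) ≠ 0 := one_ne_zero
  have hM := Sg.mon_w_short hbb' hbb'' h1
  -- the conjugation fixes the lifts of `x_aā`
  have hfix : C.kap (Sg.w b b' 1) (G2 Sg C a b t u) = G2 Sg C a b t u := by
    have hA : ∀ s : K, C.kap (Sg.x b b' s) (G2 Sg C a b t u) = G2 Sg C a b t u := fun s =>
      (hL b b' a a.swap hbb' (ne_swap a) hab₁.symm hba' (by rw [Sum.swap_swap]; exact hab₁.symm)
        (fun e => hab' e.symm) s _).kap_eq C (ψ_G2 Sg C hab hab' t u)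
    have hB : ∀ s : K, C.kap (Sg.x b' b s) (G2 Sg C a b t u) = G2 Sg C a b t u := fun s =>
      (hL b' b a a.swap hbb'.symm (ne_swap a) hab.symm hb'a' (by rw [Sum.swap_swap]; exact hab.symm)
        (fun e => hab₁' e.symm) s _).kap_eq C (ψ_G2 Sg C hab hab' t u)
    unfold CD.w
    exact kap_eq_of_mul C (kap_eq_of_mul C (hA _) (hB _)) (hA _)
  have hk := kap_cmx Sg C hM hab hba' t u
  have s1 : sgS b b' a = a := sgS_out hab hab₁ hab' hab₁'
  have s2 : sgS b b' b = b' := sgS_a hbb' hbb''
  have s3 : sgS b b' a.swap = a.swap :=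
    sgS_out (fun e => hba' e.symm) (fun e => hb'a' e.symm) (swap_ne_swap hab) (swap_ne_swap hab₁)
  have m1 : muS b b' (1 : K) a = 1 := muS_out hab hab₁ hab' hab₁' 1
  have m2 : muS b b' (1 : K) b = -1 := by rw [muS_a, inv_one]
  have m3 : muS b b' (1 : K) a.swap = 1 :=
    muS_out (fun e => hba' e.symm) (fun e => hb'a' e.symm) (swap_ne_swap hab) (swap_ne_swap hab₁) 1
  rw [s1, s2, s3, m1, m2, m3, inv_neg, inv_one, one_mul, mul_one, neg_one_mul, neg_one_mul] at hk
  change C.kap (Sg.w b b' 1) (G2 Sg C a b t u) = G2 Sg C a b' (-t) (-u) at hk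
  rw [hfix, G2_neg_left Sg C hL hab₁ hab₁', G2_neg_right Sg C hL hab₁ hab₁', inv_inv] at hk
  exact hk

end basic

end Cfsg.Agent.Helper7.Cd
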