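import Mathlib
import Cfsg.Agent.Helper7.CeH

set_option autoImplicit false
set_option linter.unusedSectionVars false
set_option linter.unusedVariables false

/-!
# Central extensions of a group with the Steinberg relations of type `C`: the commutators of lifts of a short
and a long root element

The quotient of the commutator of lifts of `x_ab(t)`, `x_bb̄(u)` by the product of lifts of `x_ab̄(tu)` and
`x_aā(± t² u)` is additive in `t`.
-/

namespace Cfsg.Agent.Helper7.Cd

open Cfsg.Agent.Helper7.Sc Cfsg.Agent.Helper7.Sl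

theorem rearr5 {M : Type*} [Group M] {P Q R S T : M} (hRS : R * S = S * R) (hQS : Q * S = S * Q)
    (hPS : P * S = S * P) (hPQ : P * Q = Q * P) (hRT : R * T = T * R) (hPT : P * T = T * P) :
    P * Q * R * (S * T) = S * Q * (T * P * R) := by
  calc P * Q * R * (S * T) = P * Q * (R * S) * T := by group
    _ = P * Q * (S * R) * T := by rw [hRS]
    _ = P * (Q * S) * R * T := by group
    _ = P * (S * Q) * R * T := by rw [hQS]
    _ = (P * S) * Q * R * T := by group
    _ = (S * P) * Q * R * T := by rw [hPS]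
    _ = S * (P * Q) * R * T := by group
    _ = S * (Q * P) * R * T := by rw [hPQ]
    _ = S * Q * P * (R * T) := by group
    _ = S * Q * P * (T * R) := by rw [hRT]
    _ = S * Q * (P * T) * R := by group
    _ = S * Q * (T * P) * R := by rw [hPT]
    _ = _ := by group

variable {m : ℕ} {K : Type*} [Field K] {G E : Type*} [Group G] [Group E] (Sg : CD m K G)
  (C : CExt E G)

/-- the quotient of the commutator of lifts of `x_ab(t)`, `x_bb̄(u)` by the product of given lifts of
`x_ab̄(tu)` and `x_aā(± t² u)` is additive in `t`. -/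
theorem c3_quot_add (hL : LCc Sg C) {a b : Fin m ⊕ Fin m} (hab : a ≠ b) (hab' : a ≠ b.swap) (u : K)
    (S T : K → E) (hψS : ∀ s, C.ψ (S s) = Sg.x a b.swap s) (hψT : ∀ s, C.ψ (T s) = Sg.x a a.swap s)
    (hSadd : ∀ s s', S s * S s' = S (s + s')) (hTadd : ∀ s s', T s * T s' = T (s + s'))
    (hc2 : ∀ t s, G2 Sg C a b t s = T (2 * t * s)) (t t' : K) :
    C.cm (Sg.x a b (t + t')) (Sg.x b b.swap u) *
        (S ((t + t') * u) * T (ep K a * ep K b * (t + t') * (t + t') * u))⁻¹ =
      C.cm (Sg.x a b t) (Sg.x b b.swap u) * (S (t * u) * T (ep K a * ep K b * t * t * u))⁻¹ *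
        (C.cm (Sg.x a b t') (Sg.x b b.swap u) *
          (S (t' * u) * T (ep K a * ep K b * t' * t' * u))⁻¹) := by
  have hba' : b ≠ a.swap := fun e => hab' (by rw [e, Sum.swap_swap])
  have hab'' : a ≠ b.swap.swap := by rw [Sum.swap_swap]; exact hab
  -- the commuting of the lifts
  have hSS : ∀ s s' : K, S s * S s' = S s' * S s := fun s s' =>
    hL a b.swap a b.swap hab' hab' (fun e => hab' e.symm) hab'
      (by rw [Sum.swap_swap]; exact swap_ne b) (swap_ne a) s s' _ _ (hψS s) (hψS s')
  have hST : ∀ s s' : K, S s * T s' = T s' * S s := fun s s' =>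
    hL a b.swap a a.swap hab' (ne_swap a) (fun e => hab' e.symm) (ne_swap a)
      (by rw [Sum.swap_swap]; exact fun e => hab' e.symm) (swap_ne a) s s' _ _ (hψS s) (hψT s')
  have hTT : ∀ s s' : K, T s * T s' = T s' * T s := fun s s' =>
    hL a a.swap a a.swap (ne_swap a) (ne_swap a) (swap_ne a) (ne_swap a)
      (by rw [Sum.swap_swap]; exact swap_ne a) (swap_ne a) s s' _ _ (hψT s) (hψT s')
  -- the central quotients
  have hz : ∀ t : K, C.ψ (C.cm (Sg.x a b t) (Sg.x b b.swap u) *
      (S (t * u) * T (ep K a * ep K b * t * t * u))⁻¹) = 1 := by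
    intro t
    rw [map_mul, map_inv, map_mul, C.ψ_cm, Sg.c3 a b hab hab', hψS, hψT, mul_inv_cancel]
  have hcen : ∀ (t : K) (x : E), C.cm (Sg.x a b t) (Sg.x b b.swap u) *
      (S (t * u) * T (ep K a * ep K b * t * t * u))⁻¹ * x =
      x * (C.cm (Sg.x a b t) (Sg.x b b.swap u) *
        (S (t * u) * T (ep K a * ep K b * t * t * u))⁻¹) := fun t x => C.ker_comm (hz t) x
  -- conjugation of the lifts by a lift of `x_ab(t)`
  have hkS : ∀ t s : K, C.kap (Sg.x a b t) (S s) = T (2 * t * (ep K a * ep K b * s)) * S s := by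
    intro t s
    have h := C.cm_eq_kap (d := Sg.x a b t) (hψS s)
    have e : C.cm (Sg.x a b t) (Sg.x a b.swap s) = T (2 * t * (ep K a * ep K b * s)) := by
      rw [Sg.sym' hab hab' s]
      exact hc2 t _
    rw [e] at h
    rw [h]
    group
  have hkT : ∀ t s : K, C.kap (Sg.x a b t) (T s) = T s := fun t s =>
    (hL a b a a.swap hab (ne_swap a) hab.symm (ne_swap a) (by rw [Sum.swap_swap]; exact hab.symm)
      (swap_ne a) t s).kap_eq C (hψT s)
  -- abbreviations
  obtain ⟨z, hzdef⟩ : ∃ z : E, z = C.cm (Sg.x a b t) (Sg.x b b.swap u) *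
      (S (t * u) * T (ep K a * ep K b * t * t * u))⁻¹ := ⟨_, rfl⟩
  obtain ⟨z', hz'def⟩ : ∃ z' : E, z' = C.cm (Sg.x a b t') (Sg.x b b.swap u) *
      (S (t' * u) * T (ep K a * ep K b * t' * t' * u))⁻¹ := ⟨_, rfl⟩
  have hzc : ∀ x : E, z * x = x * z := by rw [hzdef]; exact hcen t
  have hz'c : ∀ x : E, z' * x = x * z' := by rw [hz'def]; exact hcen t'
  have hLt : C.cm (Sg.x a b t) (Sg.x b b.swap u) = z * (S (t * u) * T (ep K a * ep K b * t * t * u)) := by
    rw [hzdef]; group
  have hLt' : C.cm (Sg.x a b t') (Sg.x b b.swap u) =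
      z' * (S (t' * u) * T (ep K a * ep K b * t' * t' * u)) := by
    rw [hz'def]; group
  have hz'ψ : C.ψ z' = 1 := by rw [hz'def]; exact hz t'
  have e1 : C.cm (Sg.x a b (t + t')) (Sg.x b b.swap u) =
      C.kap (Sg.x a b t) (C.cm (Sg.x a b t') (Sg.x b b.swap u)) * C.cm (Sg.x a b t) (Sg.x b b.swap u) := by
    rw [← Sg.add a b hab, cm_mul_left]
  have e3 : C.kap (Sg.x a b t) (C.cm (Sg.x a b t') (Sg.x b b.swap u)) =
      z' * (T (2 * t * (ep K a * ep K b * (t' * u))) * S (t' * u) * T (ep K a * ep K b * t' * t' * u)) := by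
    rw [hLt', map_mul, C.kap_ker hz'ψ, map_mul, hkS, hkT]
  have e4 : S ((t + t') * u) * T (ep K a * ep K b * (t + t') * (t + t') * u) =
      S (t * u) * S (t' * u) * (T (ep K a * ep K b * t * t * u) *
        T (2 * t * (ep K a * ep K b * (t' * u))) * T (ep K a * ep K b * t' * t' * u)) := by
    rw [hSadd, hTadd, hTadd]
    congr 2 <;> ring
  rw [← hzdef, ← hz'def, e1, e3, e4, hLt]
  have e5 : z' * (T (2 * t * (ep K a * ep K b * (t' * u))) * S (t' * u) *
        T (ep K a * ep K b * t' * t' * u)) * (z * (S (t * u) * T (ep K a * ep K b * t * t * u))) =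
      z * z' * (S (t * u) * S (t' * u) * (T (ep K a * ep K b * t * t * u) *
        T (2 * t * (ep K a * ep K b * (t' * u))) * T (ep K a * ep K b * t' * t' * u))) := by
    have r := rearr5 (P := T (2 * t * (ep K a * ep K b * (t' * u)))) (Q := S (t' * u))
      (R := T (ep K a * ep K b * t' * t' * u)) (S := S (t * u)) (T := T (ep K a * ep K b * t * t * u))
      ((hST _ _).symm) (hSS _ _) ((hST _ _).symm) ((hST _ _).symm) (hTT _ _) (hTT _ _)
    calc z' * (T (2 * t * (ep K a * ep K b * (t' * u))) * S (t' * u) *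
          T (ep K a * ep K b * t' * t' * u)) * (z * (S (t * u) * T (ep K a * ep K b * t * t * u)))
        = z' * ((T (2 * t * (ep K a * ep K b * (t' * u))) * S (t' * u) *
          T (ep K a * ep K b * t' * t' * u)) * z) * (S (t * u) * T (ep K a * ep K b * t * t * u)) := by
          group
      _ = z' * (z * (T (2 * t * (ep K a * ep K b * (t' * u))) * S (t' * u) *
          T (ep K a * ep K b * t' * t' * u))) * (S (t * u) * T (ep K a * ep K b * t * t * u)) := by
          rw [hzc]
      _ = (z' * z) * (T (2 * t * (ep K a * ep K b * (t' * u))) * S (t' * u) *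
          T (ep K a * ep K b * t' * t' * u) * (S (t * u) * T (ep K a * ep K b * t * t * u))) := by
          group
      _ = _ := by rw [r, hz'c z]
  rw [e5]
  group

end Cfsg.Agent.Helper7.Cd
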