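import Mathlib
import Cfsg.Agent.Helper7.CeI

set_option autoImplicit false
set_option linter.unusedSectionVars false
set_option linter.unusedVariables false

/-!
# Central extensions of a group with the Steinberg relations of type `C` over the field with three elements
-/

namespace Cfsg.Agent.Helper7.Cd

open Cfsg.Agent.Helper7.Sc Cfsg.Agent.Helper7.Sl

variable {m : ℕ} {K : Type*} [Field K] {G E : Type*} [Group G] [Group E] (Sg : CD m K G)
  (C : CExt E G)

/-- a chosen index other than `a` and `ā`. -/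
noncomputable def bo (hm : 2 ≤ m) (a : Fin m ⊕ Fin m) : Fin m ⊕ Fin m :=
  Classical.choose (CD.exists_other hm a)

theorem bo_ne (hm : 2 ≤ m) (a : Fin m ⊕ Fin m) : a ≠ bo hm a :=
  (Classical.choose_spec (CD.exists_other hm a)).1

theorem bo_ne' (hm : 2 ≤ m) (a : Fin m ⊕ Fin m) : a ≠ (bo hm a).swap :=
  (Classical.choose_spec (CD.exists_other hm a)).2

/-- the lifts of the long root elements, over the field with three elements. -/
noncomputable def yQL (hm : 2 ≤ m) (a : Fin m ⊕ Fin m) (t : K) : E := G2 Sg C a (bo hm a) (-t) 1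

section three

variable (hm : 2 ≤ m)
  (hgen : Subgroup.closure {g | ∃ (a b : Fin m ⊕ Fin m) (t : K), a ≠ b ∧ g = Sg.x a b t} = ⊤)
  (h3 : (3 : K) = 0) (hK : ∀ t u : K, t = 0 ∨ u = 0 ∨ u = t ∨ u = -t) (hL : LCc Sg C)

include hK in
theorem three_cases (u : K) : u = 0 ∨ u = 1 ∨ u = -1 := by
  rcases hK 1 u with h | h | h | h
  · exact absurd h one_ne_zero
  · exact Or.inl h
  · exact Or.inr (Or.inl h)
  · exact Or.inr (Or.inr h)

include hK hL in
/-- the commutator depends on the product only. -/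
theorem G2_prod {a b : Fin m ⊕ Fin m} (hab : a ≠ b) (hab' : a ≠ b.swap) (t u : K) :
    G2 Sg C a b t u = G2 Sg C a b (t * u) 1 := by
  rcases three_cases hK u with rfl | rfl | rfl
  · rw [mul_zero, G2_zero_right Sg C hab', G2_zero_left Sg C hab]
  · rw [mul_one]
  · rw [mul_neg, mul_one, G2_neg_right Sg C hL hab hab', G2_neg_left Sg C hL hab hab']

include hK hL in
/-- the commutator does not depend on the second index. -/
theorem G2_indep {a b b' : Fin m ⊕ Fin m} (hab : a ≠ b) (hab' : a ≠ b.swap) (hab₁ : a ≠ b')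
    (hab₁' : a ≠ b'.swap) (s : K) : G2 Sg C a b s 1 = G2 Sg C a b' s 1 := by
  by_cases h1 : b = b'
  · rw [h1]
  by_cases h2 : b = b'.swap
  · have e : b' = b.swap := by rw [h2, Sum.swap_swap]
    rw [e, G2_swap Sg C hL hab hab', G2_prod Sg C hK hL hab hab' 1 s, one_mul]
  exact G2_weyl Sg C hL hab hab' h1 h2 hab₁ hab₁' s 1

include h3 in
theorem ψ_yQL (a : Fin m ⊕ Fin m) (t : K) : C.ψ (yQL Sg C hm a t) = Sg.x a a.swap t := by
  unfold yQL
  rw [ψ_G2 Sg C (bo_ne hm a) (bo_ne' hm a)]
  congr 1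
  linear_combination (-t) * h3

include hL in
theorem add_yQL (a : Fin m ⊕ Fin m) (t u : K) :
    yQL Sg C hm a t * yQL Sg C hm a u = yQL Sg C hm a (t + u) := by
  unfold yQL
  rw [neg_add, G2_add_left Sg C hL (bo_ne hm a) (bo_ne' hm a)]

include h3 hK hL in
/-- the commutators of the lifts of the short root elements at `90°`. -/
theorem c2_three {a b : Fin m ⊕ Fin m} (hab : a ≠ b) (hab' : a ≠ b.swap) (t u : K) :
    G2 Sg C a b t u = yQL Sg C hm a (2 * t * u) := by
  unfold yQL
  rw [G2_prod Sg C hK hL hab hab', G2_indep Sg C hK hL hab hab' (bo_ne hm a) (bo_ne' hm a)]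
  congr 1
  linear_combination (t * u) * h3

include hK hL in
/-- the lifts of the long root elements are fixed by the diagonal elements. -/
theorem kap_yQL (a : Fin m ⊕ Fin m) (s : K) :
    C.kap (Sg.h a a.swap (-1)) (yQL Sg C hm a s) = yQL Sg C hm a s := by
  have hv0 : (-1 : K) ≠ 0 := neg_ne_zero.mpr one_ne_zero
  have hb := bo_ne hm a
  have hb' := bo_ne' hm a
  have hba' : bo hm a ≠ a.swap := fun e => hb' (by rw [e, Sum.swap_swap])
  unfold yQL G2
  rw [kap_cmx Sg C (Sg.mon_h_long hm (a := a) hv0) hb hba', Equiv.Perm.one_apply, Equiv.Perm.one_apply,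
    Equiv.Perm.one_apply, muHL_self, muHL_out hb.symm hba', muHL_swap, inv_one, inv_inv, mul_one, mul_one,
    one_mul, neg_one_mul, neg_neg]
  change G2 Sg C a (bo hm a) s (-1) = G2 Sg C a (bo hm a) (-s) 1
  rw [G2_prod Sg C hK hL hb hb', mul_neg, mul_one]

include hm hgen h3 hK hL in
/-- the commutators of the lifts of a short and a long root element at `135°`. -/
theorem c3_three {a b : Fin m ⊕ Fin m} (hab : a ≠ b) (hab' : a ≠ b.swap) (t u : K) :
    C.cm (Sg.x a b t) (Sg.x b b.swap u) =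
      yTS Sg C (-1) a b.swap (t * u) * yQL Sg C hm a (ep K a * ep K b * t * t * u) := by
  have hba' : b ≠ a.swap := fun e => hab' (by rw [e, Sum.swap_swap])
  have hab'' : a ≠ b.swap.swap := by rw [Sum.swap_swap]; exact hab
  have h2 : (2 : K) ≠ 0 := by
    intro e
    have : (1 : K) = 0 := by linear_combination h3 - e
    exact one_ne_zero this
  have hv0 : (-1 : K) ≠ 0 := neg_ne_zero.mpr one_ne_zero
  have hv1 : (-1 : K) ≠ 1 := by
    intro e
    apply h2
    linear_combination -e
  have hM := Sg.mon_h_long hm (a := a) hv0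
  refine eq_of_scale' (L := fun t => C.cm (Sg.x a b t) (Sg.x b b.swap u))
    (R := fun t => yTS Sg C (-1) a b.swap (t * u) * yQL Sg C hm a (ep K a * ep K b * t * t * u))
    ?_ hv1 ?_ t
  · intro t t'
    exact c3_quot_add Sg C hL hab hab' u (yTS Sg C (-1) a b.swap) (yQL Sg C hm a)
      (fun s => ψ_yTS Sg C hm hv0 hv1 hab' hab'' s) (fun s => ψ_yQL Sg C hm h3 a s)
      (fun s s' => add_yTS Sg C hm hv0 hv1 hL hab' hab'' s s') (fun s s' => add_yQL Sg C hm hL a s s')
      (fun t s => c2_three Sg C hm h3 hK hL hab hab' t s) t t'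
  · intro t
    have hz : C.ψ (C.cm (Sg.x a b t) (Sg.x b b.swap u) *
        (yTS Sg C (-1) a b.swap (t * u) * yQL Sg C hm a (ep K a * ep K b * t * t * u))⁻¹) = 1 := by
      rw [map_mul, map_inv, map_mul, C.ψ_cm, Sg.c3 a b hab hab', ψ_yTS Sg C hm hv0 hv1 hab' hab'',
        ψ_yQL Sg C hm h3, mul_inv_cancel]
    have h1 := C.kap_ker hz (Sg.h a a.swap (-1))
    rw [map_mul, map_inv, map_mul, kap_cmx Sg C hM hab (ne_swap b), kap_yTS Sg C hm hgen hM hab' hv0,
      kap_yQL Sg C hm hK hL, Equiv.Perm.one_apply, Equiv.Perm.one_apply, Equiv.Perm.one_apply, muHL_self,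
      muHL_out hab.symm hba', muHL_out (fun e => hab' e.symm) (swap_ne_swap hab.symm), inv_one, mul_one,
      mul_one, one_mul] at h1
    change C.cm (Sg.x a b (-1 * t)) (Sg.x b b.swap u) * (yTS Sg C (-1) a b.swap (-1 * t * u) *
      yQL Sg C hm a (ep K a * ep K b * (-1 * t) * (-1 * t) * u))⁻¹ = _
    have e1 : ep K a * ep K b * (-1 * t) * (-1 * t) * u = ep K a * ep K b * t * t * u := by ring
    have e2 : -1 * t * u = -1 * (t * u) := by ring
    rw [e1, e2]
    exact h1

include hm hgen h3 hK in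
/-- **a central extension of a group with the Steinberg relations of type `C` over the field with three
elements carries these relations.** -/
theorem exists_CD_three : ∃ SE : CD m K E, ∀ a b, a ≠ b → ∀ t, C.ψ (SE.x a b t) = Sg.x a b t := by
  have h2 : (2 : K) ≠ 0 := by
    intro e
    have : (1 : K) = 0 := by linear_combination h3 - e
    exact one_ne_zero this
  have hv0 : (-1 : K) ≠ 0 := neg_ne_zero.mpr one_ne_zero
  have hv1 : (-1 : K) ≠ 1 := by
    intro e
    apply h2
    linear_combination -e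
  have hL : LCc Sg C := lcc_three Sg C hm h3 hK
  exact exists_CD_of Sg C (yTS Sg C (-1)) (yQL Sg C hm) hL
    (fun a b hab hab' t => ψ_yTS Sg C hm hv0 hv1 hab hab' t)
    (fun a t => ψ_yQL Sg C hm h3 a t)
    (fun a b hab hab' t u => add_yTS Sg C hm hv0 hv1 hL hab hab' t u)
    (fun a t u => add_yQL Sg C hm hL a t u)
    (fun a b hab hab' t => sym_yTS Sg C hm hgen hv0 hv1 hL hab hab' t)
    (fun a b c hab hab' hbc hbc' hac hac' t u => c1_yTS Sg C hm hgen hv0 hv1 hL hab hab' hbc hbc' hac hac' t u)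
    (fun a b hab hab' t u => c2_three Sg C hm h3 hK hL hab hab' t u)
    (fun a b hab hab' t u => c3_three Sg C hm hgen h3 hK hL hab hab' t u)

end three

end Cfsg.Agent.Helper7.Cd
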