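import Mathlib
import Cfsg.Agent.Helper7.CeC

set_option autoImplicit false
set_option linter.unusedSectionVars false
set_option linter.unusedVariables false

/-!
# Central extensions of a group with the Steinberg relations of type `C`: commuting lifts, rank at least four
-/

namespace Cfsg.Agent.Helper7.Cd

open Cfsg.Agent.Helper7.Sc Cfsg.Agent.Helper7.Sl

variable {m : ℕ} {K : Type*} [Field K] {G E : Type*} [Group G] [Group E] (Sg : CD m K G)
  (C : CExt E G)

/-- the underlying index. -/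
def nm : Fin m ⊕ Fin m → Fin m := Sum.elim id id

theorem nm_swap (a : Fin m ⊕ Fin m) : nm a.swap = nm a := by
  cases a <;> rfl

theorem out_of_nm {e a b : Fin m ⊕ Fin m} (h1 : nm e ≠ nm a) (h2 : nm e ≠ nm b) : Out e a b := by
  refine ⟨?_, ?_, ?_, ?_⟩
  · rintro rfl; exact h1 rfl
  · rintro rfl; exact h1 (nm_swap a)
  · rintro rfl; exact h2 rfl
  · rintro rfl; exact h2 (nm_swap b)

theorem nm_of_not_out {c a b : Fin m ⊕ Fin m} (h : ¬ Out c a b) : nm c = nm a ∨ nm c = nm b := by
  by_contra hcon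
  push Not at hcon
  exact h (out_of_nm hcon.1 hcon.2)

/-- an index with underlying index outside three given ones. -/
theorem exists_free (hm4 : 4 ≤ m) (i j k : Fin m) :
    ∃ e : Fin m ⊕ Fin m, nm e ≠ i ∧ nm e ≠ j ∧ nm e ≠ k := by
  obtain ⟨h, h1, h2, h3⟩ := exists_fourth hm4 i j k
  exact ⟨Sum.inl h, h1, h2, h3⟩

/-- with a free index, the lifts of a short root element commute with the lifts of a commuting root
element. -/
theorem lc_of_free {a b c d e : Fin m ⊕ Fin m} (hab : a ≠ b) (hab' : a ≠ b.swap) (hcd : c ≠ d)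
    (hbc : b ≠ c) (had : a ≠ d) (hbd : b ≠ d.swap) (hac : a.swap ≠ c) (he1 : Out e a b)
    (he2 : Out e c d) (t u : K) : C.LC (Sg.x c d u) (Sg.x a b t) := by
  obtain ⟨hea, hea', heb, heb'⟩ := he1
  obtain ⟨hec, hec', hed, hed'⟩ := he2
  have hae' : a ≠ e.swap := fun h => hea' (by rw [h, Sum.swap_swap])
  have h3 := Sg.c1 a e b hea.symm hae' heb heb' hab hab' t 1
  rw [mul_one] at h3
  have h1 : Sg.x c d u * Sg.x a e t = Sg.x a e t * Sg.x c d u :=
    Sg.comm c d a e hcd hea.symm had.symm hec.symm (fun h => hed' (by rw [h, Sum.swap_swap]))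
      (fun h => hac (by rw [← h, Sum.swap_swap])) u t
  have h2 : Sg.x c d u * Sg.x e b 1 = Sg.x e b 1 * Sg.x c d u :=
    Sg.comm c d e b hcd heb hed.symm hbc.symm (fun h => hbd (by rw [h, Sum.swap_swap]))
      (fun h => hec' h.symm) u 1
  exact lc_of_comm_cm' C h1 h2 h3

/-- the lifts of two short root elements with disjoint supports commute. -/
theorem lc_disjoint {a b c d : Fin m ⊕ Fin m} (hab : a ≠ b) (hab' : a ≠ b.swap) (hcd : c ≠ d)
    (hcd' : c ≠ d.swap) (hc : Out c a b) (hd : Out d a b) (t u : K) :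
    C.LC (Sg.x a b t) (Sg.x c d u) := by
  obtain ⟨hca, hca', hcb, hcb'⟩ := hc
  obtain ⟨hda, hda', hdb, hdb'⟩ := hd
  have hdc' : d ≠ c.swap := fun h => hcd' (by rw [h, Sum.swap_swap])
  have hbc' : b ≠ c.swap := fun h => hcb' (by rw [h, Sum.swap_swap])
  have had' : a ≠ d.swap := fun h => hda' (by rw [h, Sum.swap_swap])
  have hbd' : b ≠ d.swap := fun h => hdb' (by rw [h, Sum.swap_swap])
  have hcd'' : c ≠ d.swap.swap := by rw [Sum.swap_swap]; exact hcd
  -- the long root element
  have h5 : ∀ s : K, C.LC (Sg.x a b t) (Sg.x c c.swap s) := by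
    intro s
    have hac' : a ≠ c.swap := fun h => hca' (by rw [h, Sum.swap_swap])
    refine (lc_of_free Sg C hab hab' (ne_swap c) hcb.symm hac'
      (by rw [Sum.swap_swap]; exact hcb.symm) (fun h => hca' h.symm)
      ⟨hda, hda', hdb, hdb'⟩ ⟨hcd.symm, hdc', hdc', by rw [Sum.swap_swap]; exact hcd.symm⟩ t s).symm C
  have h3 := Sg.c3 c d.swap hcd' hcd'' 1 u
  rw [Sum.swap_swap, one_mul] at h3
  have h1 : Sg.x a b t * Sg.x c d.swap 1 = Sg.x c d.swap 1 * Sg.x a b t :=
    Sg.comm a b c d.swap hab hcd' hcb.symm had' (by rw [Sum.swap_swap]; exact hdb.symm)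
      (fun h => hca' h.symm) t 1
  have h2 : Sg.x a b t * Sg.x d.swap d u = Sg.x d.swap d u * Sg.x a b t :=
    Sg.comm a b d.swap d hab (swap_ne d) hbd' hda.symm hbd' (swap_ne_swap hda.symm) t u
  have h4 := lc_of_comm_cm' C h1 h2 h3
  exact lc_cancel_right C h4 (h5 _)

/-- **the lifts of commuting root elements commute, when there are at least four indices.** -/
theorem lcc_free (hm4 : 4 ≤ m) : LCc Sg C := by
  have hm : 2 ≤ m := by omega
  have hS : ∀ a b c d : Fin m ⊕ Fin m, a ≠ b → c ≠ d → b ≠ c → a ≠ d → b ≠ d.swap → a.swap ≠ c →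
      a ≠ b.swap → (Out a c d ∨ Out b c d) → ∀ t u : K, C.LC (Sg.x a b t) (Sg.x c d u) := by
    intro a b c d hab hcd hbc had hbd hac hab' _ t u
    by_cases hcd' : c = d.swap
    · obtain ⟨e, h1, h2, h3⟩ := exists_free hm4 (nm a) (nm b) (nm c)
      have h4 : nm e ≠ nm d := by
        rw [hcd', nm_swap] at h3
        exact h3
      exact (lc_of_free Sg C hab hab' hcd hbc had hbd hac (out_of_nm h1 h2) (out_of_nm h3 h4) t u).symm C
    by_cases hc : Out c a b
    · by_cases hd : Out d a b
      · exact lc_disjoint Sg C hab hab' hcd hcd' hc hd t u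
      · obtain ⟨e, h1, h2, h3⟩ := exists_free hm4 (nm a) (nm b) (nm c)
        have h4 : nm e ≠ nm d := by
          rcases nm_of_not_out hd with h | h <;> rw [h]
          · exact h1
          · exact h2
        exact (lc_of_free Sg C hab hab' hcd hbc had hbd hac (out_of_nm h1 h2) (out_of_nm h3 h4) t u).symm C
    · obtain ⟨e, h1, h2, h4⟩ := exists_free hm4 (nm a) (nm b) (nm d)
      have h3 : nm e ≠ nm c := by
        rcases nm_of_not_out hc with h | h <;> rw [h]
        · exact h1
        · exact h2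
      exact (lc_of_free Sg C hab hab' hcd hbc had hbd hac (out_of_nm h1 h2) (out_of_nm h3 h4) t u).symm C
  have h4 := lc_long_short_of Sg C hS
  -- two long roots
  have h7 : ∀ a b : Fin m ⊕ Fin m, a ≠ b → a ≠ b.swap → ∀ t u : K,
      C.LC (Sg.x a a.swap t) (Sg.x b b.swap u) := by
    intro a b hab hab' t u
    have hba' : b ≠ a.swap := fun h => hab' (by rw [h, Sum.swap_swap])
    obtain ⟨c, h1, h2, _⟩ := exists_free hm4 (nm a) (nm b) (nm b)
    obtain ⟨hca, hca', hcb, hcb'⟩ := out_of_nm (e := c) h1 h2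
    have hbc' : b ≠ c.swap := fun h => hcb' (by rw [h, Sum.swap_swap])
    have hac' : a ≠ c.swap := fun h => hca' (by rw [h, Sum.swap_swap])
    have h3 := Sg.c3 b c hcb.symm hbc' 1 (ep K b * ep K c * u)
    have e1 : ep K b * ep K c * 1 * 1 * (ep K b * ep K c * u) = u := by
      have := ep_mul_sq (K := K) b c
      linear_combination u * this
    rw [e1, one_mul] at h3
    have hc1 : Sg.x a a.swap t * Sg.x b c 1 = Sg.x b c 1 * Sg.x a a.swap t :=
      Sg.comm a a.swap b c (ne_swap a) hcb.symm hba'.symm hca.symm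
        (swap_ne_swap hca.symm) (fun h => hba' h.symm) t 1
    have hc2 : Sg.x a a.swap t * Sg.x c c.swap (ep K b * ep K c * u) =
        Sg.x c c.swap (ep K b * ep K c * u) * Sg.x a a.swap t :=
      Sg.comm a a.swap c c.swap (ne_swap a) (ne_swap c) (fun h => hca' h.symm) hac'
        (by rw [Sum.swap_swap]; exact fun h => hca' h.symm) (fun h => hca' h.symm) t _
    have h5 := lc_of_comm_cm' C hc1 hc2 h3
    refine lc_cancel_left C h5 ?_
    have hbc'' : b ≠ c.swap.swap := by rw [Sum.swap_swap]; exact hcb.symm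
    exact (hS b c.swap a a.swap hbc' (ne_swap a) (fun h => hac' h.symm) hba'
      (by rw [Sum.swap_swap]; exact fun h => hac' h.symm) (fun h => hab' h.symm) hbc''
      (Or.inl ⟨hab.symm, hba', hba', by rw [Sum.swap_swap]; exact hab.symm⟩) _ t).symm C
  exact lcc_of Sg C hm hS h7 (fun a b hab hab' t u => lc_short_same Sg C hm h4 h7 hab hab' t u)

end Cfsg.Agent.Helper7.Cd
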