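import Mathlib
import Cfsg.Agent.Helper7.CeK

set_option autoImplicit false
set_option linter.unusedSectionVars false
set_option linter.unusedVariables false

/-!
# Central extensions of a group with the Steinberg relations of type `C`: characteristic two, the lifts of
the short root elements given by commutators
-/

namespace Cfsg.Agent.Helper7.Cd

open Cfsg.Agent.Helper7.Sc Cfsg.Agent.Helper7.Sl

variable {m : ℕ} {K : Type*} [Field K] {G E : Type*} [Group G] [Group E] (Sg : CD m K G)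
  (C : CExt E G)

theorem neg_eq_two (h2 : (2 : K) = 0) (t : K) : -t = t := by linear_combination (-t) * h2

theorem ep_two (h2 : (2 : K) = 0) (a : Fin m ⊕ Fin m) : ep K a = 1 := by
  rcases ep_cases (K := K) a with h | h
  · exact h
  · rw [h, neg_eq_two h2]

theorem muS_two (h2 : (2 : K) = 0) (p q c : Fin m ⊕ Fin m) : muS p q (1 : K) c = 1 := by
  unfold muS
  split_ifs <;> simp [ep_two h2, neg_eq_two h2]

theorem muL_two (h2 : (2 : K) = 0) (p c : Fin m ⊕ Fin m) : muL p (1 : K) c = 1 := by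
  unfold muL
  split_ifs <;> simp [neg_eq_two h2]

/-- conjugation of a commutator of lifts of root elements by a lift of a monomial element with trivial
coefficients. -/
theorem kap_cmx_one {g : G} {σ : Equiv.Perm (Fin m ⊕ Fin m)} {μ : Fin m ⊕ Fin m → K}
    (hM : Sg.Mon g σ μ) (hμ : ∀ c, μ c = 1) {a b c d : Fin m ⊕ Fin m} (hab : a ≠ b) (hcd : c ≠ d)
    (t u : K) :
    C.kap g (C.cm (Sg.x a b t) (Sg.x c d u)) = C.cm (Sg.x (σ a) (σ b) t) (Sg.x (σ c) (σ d) u) := by
  rw [kap_cmx Sg C hM hab hcd, hμ, hμ, hμ, hμ, inv_one, mul_one, one_mul, one_mul]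

/-- conjugation by a lift of `w_pq(v)` fixes the lifts of the elements whose lifts commute with the lifts of
`x_pq`, `x_qp`. -/
theorem kap_w_fix {p q : Fin m ⊕ Fin m} {y : E} {r : G} (hψ : C.ψ y = r)
    (h1 : ∀ s : K, C.LC (Sg.x p q s) r) (h2 : ∀ s : K, C.LC (Sg.x q p s) r) (v : K) :
    C.kap (Sg.w p q v) y = y := by
  unfold CD.w
  exact kap_eq_of_mul C (kap_eq_of_mul C ((h1 _).kap_eq C hψ) ((h2 _).kap_eq C hψ)) ((h1 _).kap_eq C hψ)

/-- the commutator of lifts of `x_ab(t)` and `x_bc(u)`. -/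
noncomputable def F1 (a b c : Fin m ⊕ Fin m) (t u : K) : E := C.cm (Sg.x a b t) (Sg.x b c u)

section basic

variable (hL : LCc Sg C) {a b c : Fin m ⊕ Fin m} (hab : a ≠ b) (hab' : a ≠ b.swap) (hbc : b ≠ c)
  (hbc' : b ≠ c.swap) (hac : a ≠ c) (hac' : a ≠ c.swap)

include hab hab' hbc hbc' hac hac' in
theorem ψ_F1 (t u : K) : C.ψ (F1 Sg C a b c t u) = Sg.x a c (t * u) := by
  unfold F1
  rw [C.ψ_cm, Sg.c1 a b c hab hab' hbc hbc' hac hac']

include hL hab hab' hbc hbc' hac hac' in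
theorem F1_add_left (t t' u : K) :
    F1 Sg C a b c (t + t') u = F1 Sg C a b c t u * F1 Sg C a b c t' u := by
  have h1 : F1 Sg C a b c (t + t') u = F1 Sg C a b c t' u * F1 Sg C a b c t u := by
    unfold F1
    rw [← Sg.add a b hab, cm_mul_left_of_lc]
    rw [Sg.c1 a b c hab hab' hbc hbc' hac hac']
    exact hL a b a c hab hac (fun e => hab e.symm) hac hbc' (swap_ne a) _ _
  rw [h1]
  exact hL a c a c hac hac hac.symm hac (fun e => swap_ne c e.symm) (swap_ne a) _ _ _ _
    (ψ_F1 Sg C hab hab' hbc hbc' hac hac' t' u) (ψ_F1 Sg C hab hab' hbc hbc' hac hac' t u)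

include hab in
theorem F1_zero_left (u : K) : F1 Sg C a b c 0 u = 1 := by
  unfold F1
  rw [Sg.x_zero hab, cm_one_left]

include hbc in
theorem F1_zero_right (t : K) : F1 Sg C a b c t 0 = 1 := by
  unfold F1
  rw [Sg.x_zero hbc, cm_one_right]

include hL hab hab' hbc hbc' hac hac' in
/-- the commutator does not depend on the middle index, in characteristic two: another index. -/
theorem F1_weyl_short (h2 : (2 : K) = 0) {e : Fin m ⊕ Fin m} (hae : a ≠ e) (hae' : a ≠ e.swap)
    (hec : e ≠ c) (hec' : e ≠ c.swap) (hbe : b ≠ e) (hbe' : b ≠ e.swap) (t u : K) :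
    F1 Sg C a b c t u = F1 Sg C a e c t u := by
  have hcb' : c ≠ b.swap := fun h => hbc' (by rw [h, Sum.swap_swap])
  have hce' : c ≠ e.swap := fun h => hec' (by rw [h, Sum.swap_swap])
  have hM := Sg.mon_w_short hbe hbe' (one_ne_zero (α := K))
  have hk := kap_cmx_one Sg C hM (muS_two h2 b e) hab hbc t u
  rw [sgS_out hab hae hab' hae', sgS_a hbe hbe', sgS_out hbc.symm hec.symm hcb' hce'] at hk
  have hfix : C.kap (Sg.w b e 1) (F1 Sg C a b c t u) = F1 Sg C a b c t u := by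
    refine kap_w_fix Sg C (ψ_F1 Sg C hab hab' hbc hbc' hac hac' t u) ?_ ?_ 1
    · intro s
      exact hL b e a c hbe hac hae.symm hbc hec' (fun h => hab' h.symm) _ _
    · intro s
      exact hL e b a c hbe.symm hac hab.symm hec hbc' (fun h => hae' h.symm) _ _
  unfold F1 at hfix ⊢
  rw [← hfix, hk]

include hL hab hab' hbc hbc' hac hac' in
/-- the commutator does not depend on the middle index, in characteristic two: the opposite index. -/
theorem F1_weyl_long (hm : 2 ≤ m) (h2 : (2 : K) = 0) (t u : K) :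
    F1 Sg C a b c t u = F1 Sg C a b.swap c t u := by
  have hcb' : c ≠ b.swap := fun h => hbc' (by rw [h, Sum.swap_swap])
  have hM := Sg.mon_w_long hm (a := b) (one_ne_zero (α := K))
  have hk := kap_cmx_one Sg C hM (muL_two h2 b) hab hbc t u
  rw [sgL_out hab hab', sgL_a, sgL_out hbc.symm hcb'] at hk
  have hfix : C.kap (Sg.w b b.swap 1) (F1 Sg C a b c t u) = F1 Sg C a b c t u := by
    refine kap_w_fix Sg C (ψ_F1 Sg C hab hab' hbc hbc' hac hac' t u) ?_ ?_ 1
    · intro s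
      exact hL b b.swap a c (ne_swap b) hac (fun h => hab' h.symm) hbc (swap_ne_swap hbc)
        (fun h => hab' h.symm) _ _
    · intro s
      exact hL b.swap b a c (swap_ne b) hac hab.symm (fun h => hcb' h.symm) hbc'
        (by rw [Sum.swap_swap]; exact hab.symm) _ _
  unfold F1 at hfix ⊢
  rw [← hfix, hk]

end basic

section two

variable (hm4 : 4 ≤ m) (h2 : (2 : K) = 0) (hK2 : ∀ t : K, t = 0 ∨ t = 1) (hL : LCc Sg C)

include hm4 h2 hL in
/-- the commutator does not depend on the middle index, in characteristic two. -/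
theorem F1_indep {a b c e : Fin m ⊕ Fin m} (hab : a ≠ b) (hab' : a ≠ b.swap) (hbc : b ≠ c)
    (hbc' : b ≠ c.swap) (hac : a ≠ c) (hac' : a ≠ c.swap) (hae : a ≠ e) (hae' : a ≠ e.swap)
    (hec : e ≠ c) (hec' : e ≠ c.swap) (t u : K) : F1 Sg C a b c t u = F1 Sg C a e c t u := by
  by_cases h1 : b = e
  · rw [h1]
  by_cases h3 : b = e.swap
  · have e1 : e = b.swap := by rw [h3, Sum.swap_swap]
    rw [e1]
    exact F1_weyl_long Sg C hL hab hab' hbc hbc' hac hac' (by omega) h2 t u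
  exact F1_weyl_short Sg C hL hab hab' hbc hbc' hac hac' h2 hae hae' hec hec' h1 h3 t u

include hK2 in
/-- over the field with two elements the commutator depends on the product only. -/
theorem F1_prod {a b c : Fin m ⊕ Fin m} (hab : a ≠ b) (hbc : b ≠ c) (t u : K) :
    F1 Sg C a b c t u = F1 Sg C a b c (t * u) 1 := by
  rcases hK2 u with rfl | rfl
  · rw [mul_zero, F1_zero_right Sg C hbc, F1_zero_left Sg C hab]
  · rw [mul_one]

/-- a chosen index outside the support of `(a, c)`. -/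
noncomputable def fr (hm4 : 4 ≤ m) (a c : Fin m ⊕ Fin m) : Fin m ⊕ Fin m :=
  Classical.choose (exists_free hm4 (nm a) (nm c) (nm c))

theorem fr_out (hm4 : 4 ≤ m) (a c : Fin m ⊕ Fin m) : Out (fr hm4 a c) a c :=
  out_of_nm (Classical.choose_spec (exists_free hm4 (nm a) (nm c) (nm c))).1
    (Classical.choose_spec (exists_free hm4 (nm a) (nm c) (nm c))).2.1

/-- the lifts of the short root elements, given by commutators. -/
noncomputable def yFS (hm4 : 4 ≤ m) (a c : Fin m ⊕ Fin m) (t : K) : E := F1 Sg C a (fr hm4 a c) c t 1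

theorem ψ_yFS {a c : Fin m ⊕ Fin m} (hac : a ≠ c) (hac' : a ≠ c.swap) (t : K) :
    C.ψ (yFS Sg C hm4 a c t) = Sg.x a c t := by
  obtain ⟨h1, h2, h3, h4⟩ := fr_out hm4 a c
  unfold yFS
  rw [ψ_F1 Sg C h1.symm (swap_ne_of_ne_swap h2).symm h3 h4 hac hac', mul_one]

include hL in
theorem add_yFS {a c : Fin m ⊕ Fin m} (hac : a ≠ c) (hac' : a ≠ c.swap) (t u : K) :
    yFS Sg C hm4 a c t * yFS Sg C hm4 a c u = yFS Sg C hm4 a c (t + u) := by
  obtain ⟨h1, h2, h3, h4⟩ := fr_out hm4 a c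
  unfold yFS
  rw [F1_add_left Sg C hL h1.symm (swap_ne_of_ne_swap h2).symm h3 h4 hac hac']

theorem yFS_zero {a c : Fin m ⊕ Fin m} (t : K) : yFS Sg C hm4 a c 0 = 1 := by
  obtain ⟨h1, h2, h3, h4⟩ := fr_out hm4 a c
  unfold yFS
  exact F1_zero_left Sg C h1.symm 1

include h2 hL in
theorem yFS_inv {a c : Fin m ⊕ Fin m} (hac : a ≠ c) (hac' : a ≠ c.swap) (t : K) :
    (yFS Sg C hm4 a c t)⁻¹ = yFS Sg C hm4 a c t := by
  apply inv_eq_of_mul_eq_one_right
  rw [add_yFS Sg C hm4 hL hac hac']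
  have : t + t = 0 := by linear_combination t * h2
  rw [this]
  exact yFS_zero Sg C hm4 t

include h2 hK2 hL in
/-- the commutators of the lifts of the short root elements at `120°`. -/
theorem c1_two {a b c : Fin m ⊕ Fin m} (hab : a ≠ b) (hab' : a ≠ b.swap) (hbc : b ≠ c)
    (hbc' : b ≠ c.swap) (hac : a ≠ c) (hac' : a ≠ c.swap) (t u : K) :
    C.cm (Sg.x a b t) (Sg.x b c u) = yFS Sg C hm4 a c (t * u) := by
  obtain ⟨h1, h3, h4, h5⟩ := fr_out hm4 a c
  change F1 Sg C a b c t u = _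
  unfold yFS
  rw [F1_prod Sg C hK2 hab hbc, F1_indep Sg C hm4 h2 hL hab hab' hbc hbc' hac hac' h1.symm
    (swap_ne_of_ne_swap h3).symm h4 h5]

include h2 hK2 hL in
/-- the symmetry of the lifts. -/
theorem sym_two {a b : Fin m ⊕ Fin m} (hab : a ≠ b) (hab' : a ≠ b.swap) (t : K) :
    yFS Sg C hm4 a b t = yFS Sg C hm4 b.swap a.swap (-(ep K a * ep K b) * t) := by
  obtain ⟨h1, h3, h4, h5⟩ := fr_out hm4 a b
  obtain ⟨e, he⟩ : ∃ e, e = fr hm4 a b := ⟨_, rfl⟩
  rw [← he] at h1 h3 h4 h5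
  have hae' : a ≠ e.swap := (swap_ne_of_ne_swap h3).symm
  have hba' : b ≠ a.swap := fun h => hab' (by rw [h, Sum.swap_swap])
  have hb'a' : b.swap ≠ a.swap := swap_ne_swap hab.symm
  have hb'a : b.swap ≠ a.swap.swap := by rw [Sum.swap_swap]; exact fun h => hab' h.symm
  have e0 : -(ep K a * ep K b) * t = t := by
    rw [ep_two h2, ep_two h2, mul_one, neg_one_mul, neg_eq_two h2]
  have e1 : Sg.x a e t = Sg.x e.swap a.swap t := by
    rw [Sg.sym a e h1.symm hae', ep_two h2, ep_two h2, mul_one, neg_one_mul, neg_eq_two h2]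
  have e2 : Sg.x e b 1 = Sg.x b.swap e.swap 1 := by
    rw [Sg.sym e b h4 h5, ep_two h2, ep_two h2, mul_one, mul_one, neg_eq_two h2]
  have e3 : yFS Sg C hm4 a b t = (C.cm (Sg.x b.swap e.swap 1) (Sg.x e.swap a.swap t))⁻¹ := by
    unfold yFS F1
    rw [← he, e1, e2, C.cm_inv]
  rw [e3, e0, c1_two Sg C hm4 h2 hK2 hL (swap_ne_swap h4.symm)
    (by rw [Sum.swap_swap]; exact fun h => h5 h.symm) (swap_ne_swap h1)
    (by rw [Sum.swap_swap]; exact fun h => h3 (by rw [← h, Sum.swap_swap])) hb'a' hb'a, one_mul,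
    yFS_inv Sg C hm4 h2 hL hb'a' hb'a]

end two

end Cfsg.Agent.Helper7.Cd
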