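import Mathlib
import Cfsg.Agent.Helper7.CeL
import Cfsg.Agent.Helper7.CeJ

set_option autoImplicit false
set_option linter.unusedSectionVars false
set_option linter.unusedVariables false

/-!
# Central extensions of a group with the Steinberg relations of type `C` over the field with two elements,
rank at least four
-/

namespace Cfsg.Agent.Helper7.Cd

open Cfsg.Agent.Helper7.Sc Cfsg.Agent.Helper7.Sl

variable {m : ℕ} {K : Type*} [Field K] {G E : Type*} [Group G] [Group E] (Sg : CD m K G)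
  (C : CExt E G)

/-- the commutator of lifts of `x_ab(t)` and `x_bb̄(u)`. -/
noncomputable def F3 (a b : Fin m ⊕ Fin m) (t u : K) : E := C.cm (Sg.x a b t) (Sg.x b b.swap u)

section basic

variable (hL : LCc Sg C) {a b : Fin m ⊕ Fin m} (hab : a ≠ b) (hab' : a ≠ b.swap)

include hab hab' in
theorem ψ_F3 (t u : K) : C.ψ (F3 Sg C a b t u) =
    Sg.x a b.swap (t * u) * Sg.x a a.swap (ep K a * ep K b * t * t * u) := by
  unfold F3
  rw [C.ψ_cm, Sg.c3 a b hab hab']

include hL hab hab' in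
theorem F3_add_right (t u u' : K) : F3 Sg C a b t (u + u') = F3 Sg C a b t u * F3 Sg C a b t u' := by
  have hba' : b ≠ a.swap := fun e => hab' (by rw [e, Sum.swap_swap])
  unfold F3
  rw [← Sg.add b b.swap (ne_swap b), cm_mul_right_of_lc]
  rw [Sg.c3 a b hab hab']
  refine lc_mul_right C ?_ ?_
  · exact hL b b.swap a b.swap (ne_swap b) hab' (fun e => hab' e.symm) (ne_swap b)
      (by rw [Sum.swap_swap]; exact swap_ne b) (fun e => hab' e.symm) _ _
  · exact hL b b.swap a a.swap (ne_swap b) (ne_swap a) (fun e => hab' e.symm) hba'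
      (by rw [Sum.swap_swap]; exact fun e => hab' e.symm) (fun e => hab' e.symm) _ _

include hab in
theorem F3_zero_left (u : K) : F3 Sg C a b 0 u = 1 := by
  unfold F3
  rw [Sg.x_zero hab, cm_one_left]

theorem F3_zero_right (t : K) : F3 Sg C a b t 0 = 1 := by
  unfold F3
  rw [Sg.x_zero (ne_swap b), cm_one_right]

include hL hab hab' in
/-- the lifts of the elements `x_ab(t)` and `x_ab̄(u)` commute, in characteristic two, when `x_ab(t)` has a
lift of order two. -/
theorem lc_p8_of (h2 : (2 : K) = 0) (t : K) (Y : E) (hY : C.ψ Y = Sg.x a b t) (hYY : Y * Y = 1)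
    (u : K) : C.LC (Sg.x a b t) (Sg.x a b.swap (t * u)) := by
  have hba' : b ≠ a.swap := fun e => hab' (by rw [e, Sum.swap_swap])
  obtain ⟨L, hLdef⟩ : ∃ L, L = F3 Sg C a b t u := ⟨_, rfl⟩
  obtain ⟨X, hXdef⟩ : ∃ X, X = C.lf (Sg.x b b.swap u) := ⟨_, rfl⟩
  have hX : C.ψ X = Sg.x b b.swap u := by rw [hXdef, C.ψ_lf]
  have hLψ : C.ψ L = Sg.x a b.swap (t * u) * Sg.x a a.swap (ep K a * ep K b * t * t * u) := by
    rw [hLdef, ψ_F3 Sg C hab hab']
  -- `L` commutes with `X`
  have hLX : L * X = X * L := by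
    refine lc_mul_left C ?_ ?_ L X hLψ hX
    · exact hL a b.swap b b.swap hab' (ne_swap b) (swap_ne b) hab'
        (by rw [Sum.swap_swap]; exact swap_ne b) (fun e => hba' e.symm) _ _
    · exact hL a a.swap b b.swap (ne_swap a) (ne_swap b) (fun e => hba' e.symm) hab'
        (by rw [Sum.swap_swap]; exact fun e => hba' e.symm) (fun e => hba' e.symm) _ _
  -- the conjugate of `X`
  have hkX : C.kap (Sg.x a b t) X = L * X := by
    have h := C.cm_eq_kap (d := Sg.x a b t) hX
    rw [hLdef]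
    unfold F3
    rw [h]
    group
  have hXX : C.ψ (X * X) = 1 := by
    rw [map_mul, hX, Sg.add b b.swap (ne_swap b)]
    have : u + u = 0 := by linear_combination u * h2
    rw [this, Sg.x_zero (ne_swap b)]
  have hLL : L * L = 1 := by
    have h1 := C.kap_ker hXX (Sg.x a b t)
    rw [map_mul, hkX] at h1
    have h3 : L * X * (L * X) = L * L * (X * X) := by
      calc L * X * (L * X) = L * (X * L) * X := by group
        _ = L * (L * X) * X := by rw [hLX]
        _ = _ := by group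
    rw [h3] at h1
    exact mul_eq_right.mp h1
  -- the conjugate of `Y`
  have hkY : C.kap (Sg.x b b.swap u) Y = L⁻¹ * Y := by
    have h := C.cm_eq_kap (d := Sg.x b b.swap u) hY
    have e : L⁻¹ = C.cm (Sg.x b b.swap u) (Sg.x a b t) := by
      rw [hLdef]
      unfold F3
      rw [C.cm_inv]
    rw [e, h]
    group
  have hLinv : L⁻¹ = L := inv_eq_of_mul_eq_one_right hLL
  have hYinv : Y⁻¹ = Y := inv_eq_of_mul_eq_one_right hYY
  have h4 : L * Y * (L * Y) = 1 := by
    have h1 : C.kap (Sg.x b b.swap u) (Y * Y) = 1 := by rw [hYY, map_one]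
    rw [map_mul, hkY, hLinv] at h1
    exact h1
  have hYL : Y * L = L * Y := by
    have h5 : (L * Y)⁻¹ = L * Y := inv_eq_of_mul_eq_one_right h4
    rw [mul_inv_rev, hLinv, hYinv] at h5
    exact h5
  have h6 : C.LC (Sg.x a b t)
      (Sg.x a b.swap (t * u) * Sg.x a a.swap (ep K a * ep K b * t * t * u)) := by
    rw [C.LC_iff, C.cm_eq hY hLψ, hYL]
    group
  exact lc_cancel_right C h6 (hL a b a a.swap hab (ne_swap a) hab.symm (ne_swap a)
    (by rw [Sum.swap_swap]; exact hab.symm) (swap_ne a) _ _)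

end basic

theorem two_le_of_four {n : ℕ} (h : 4 ≤ n) : 2 ≤ n := by omega

/-- the quotient of the commutator of lifts of `x_ab(1)`, `x_bb̄(u)` by the lift of `x_ab̄(u)`. -/
noncomputable def Q3 (hm4 : 4 ≤ m) (a b : Fin m ⊕ Fin m) (u : K) : E :=
  F3 Sg C a b 1 u * (yFS Sg C hm4 a b.swap u)⁻¹

/-- the lifts of the long root elements. -/
noncomputable def yFL (hm4 : 4 ≤ m) (a : Fin m ⊕ Fin m) (u : K) : E :=
  Q3 Sg C hm4 a (bo (two_le_of_four hm4) a) u

section two

variable (hm4 : 4 ≤ m) (h2 : (2 : K) = 0) (hK2 : ∀ t : K, t = 0 ∨ t = 1) (hL : LCc Sg C)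

include h2 in
theorem ψ_Q3 {a b : Fin m ⊕ Fin m} (hab : a ≠ b) (hab' : a ≠ b.swap) (u : K) :
    C.ψ (Q3 Sg C hm4 a b u) = Sg.x a a.swap u := by
  have hab'' : a ≠ b.swap.swap := by rw [Sum.swap_swap]; exact hab
  have e : ep K a * ep K b * 1 * 1 * u = u := by
    rw [ep_two h2, ep_two h2]
    ring
  unfold Q3
  rw [map_mul, map_inv, ψ_F3 Sg C hab hab', ψ_yFS Sg C hm4 hab' hab'', e, one_mul,
    Sg.comm_short_long hab' hab'' u u, mul_inv_cancel_right]

include h2 hK2 hL in
/-- the quotient does not depend on the second index: another index. -/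
theorem Q3_weyl_short {a b b' : Fin m ⊕ Fin m} (hab : a ≠ b) (hab' : a ≠ b.swap) (hab₁ : a ≠ b')
    (hab₁' : a ≠ b'.swap) (hbb' : b ≠ b') (hbb'' : b ≠ b'.swap) (u : K) :
    Q3 Sg C hm4 a b u = Q3 Sg C hm4 a b' u := by
  have hba' : b ≠ a.swap := fun e => hab' (by rw [e, Sum.swap_swap])
  have hb'a' : b' ≠ a.swap := fun e => hab₁' (by rw [e, Sum.swap_swap])
  have hb'b' : b' ≠ b.swap := fun e => hbb'' (by rw [e, Sum.swap_swap])
  have hab'' : a ≠ b.swap.swap := by rw [Sum.swap_swap]; exact hab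
  have hab₁'' : a ≠ b'.swap.swap := by rw [Sum.swap_swap]; exact hab₁
  have hM := Sg.mon_w_short hbb' hbb'' (one_ne_zero (α := K))
  have s1 : sgS b b' a = a := sgS_out hab hab₁ hab' hab₁'
  have s2 : sgS b b' b = b' := sgS_a hbb' hbb''
  have s3 : sgS b b' b.swap = b'.swap := sgS_a' hbb' hbb''
  have s4 : sgS b b' b' = b := sgS_b hbb' hbb''
  have hfix : C.kap (Sg.w b b' 1) (Q3 Sg C hm4 a b u) = Q3 Sg C hm4 a b u := by
    refine kap_w_fix Sg C (ψ_Q3 Sg C hm4 h2 hab hab' u) ?_ ?_ 1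
    · intro s
      exact hL b b' a a.swap hbb' (ne_swap a) hab₁.symm hba' (by rw [Sum.swap_swap]; exact hab₁.symm)
        (fun e => hab' e.symm) _ _
    · intro s
      exact hL b' b a a.swap hbb'.symm (ne_swap a) hab.symm hb'a' (by rw [Sum.swap_swap]; exact hab.symm)
        (fun e => hab₁' e.symm) _ _
  have hk1 : C.kap (Sg.w b b' 1) (F3 Sg C a b 1 u) = F3 Sg C a b' 1 u := by
    unfold F3
    rw [kap_cmx_one Sg C hM (muS_two h2 b b') hab (ne_swap b), s1, s2, s3]
  have hk2 : C.kap (Sg.w b b' 1) (yFS Sg C hm4 a b.swap u) = yFS Sg C hm4 a b'.swap u := by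
    have e1 := c1_two Sg C hm4 h2 hK2 hL hab₁ hab₁' hb'b' (by rw [Sum.swap_swap]; exact hbb'.symm) hab'
      hab'' u 1
    have e2 := c1_two Sg C hm4 h2 hK2 hL hab hab' hbb'' (by rw [Sum.swap_swap]; exact hbb') hab₁'
      hab₁'' u 1
    rw [mul_one] at e1 e2
    rw [← e1, kap_cmx_one Sg C hM (muS_two h2 b b') hab₁ hb'b', s1, s4, s3, e2]
  rw [← hfix]
  unfold Q3
  rw [map_mul, map_inv, hk1, hk2]

include h2 hK2 hL in
/-- the quotient does not depend on the second index: the opposite index. -/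
theorem Q3_weyl_long {a b : Fin m ⊕ Fin m} (hab : a ≠ b) (hab' : a ≠ b.swap) (u : K) :
    Q3 Sg C hm4 a b u = Q3 Sg C hm4 a b.swap u := by
  have hm : 2 ≤ m := by omega
  have hba' : b ≠ a.swap := fun e => hab' (by rw [e, Sum.swap_swap])
  have hab'' : a ≠ b.swap.swap := by rw [Sum.swap_swap]; exact hab
  have hM := Sg.mon_w_long hm (a := b) (one_ne_zero (α := K))
  obtain ⟨e, he1, he2, _⟩ := exists_free hm4 (nm a) (nm b) (nm b)
  obtain ⟨hea, hea', heb, heb'⟩ := out_of_nm (e := e) he1 he2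
  have hae' : a ≠ e.swap := (swap_ne_of_ne_swap hea').symm
  have s1 : sgL b a = a := sgL_out hab hab'
  have s2 : sgL b b = b.swap := sgL_a
  have s3 : sgL b b.swap = b := sgL_a'
  have s4 : sgL b e = e := sgL_out heb heb'
  have hfix : C.kap (Sg.w b b.swap 1) (Q3 Sg C hm4 a b u) = Q3 Sg C hm4 a b u := by
    refine kap_w_fix Sg C (ψ_Q3 Sg C hm4 h2 hab hab' u) ?_ ?_ 1
    · intro s
      exact hL b b.swap a a.swap (ne_swap b) (ne_swap a) (fun e => hab' e.symm) hba'
        (by rw [Sum.swap_swap]; exact fun e => hab' e.symm) (fun e => hab' e.symm) _ _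
    · intro s
      exact hL b.swap b a a.swap (swap_ne b) (ne_swap a) hab.symm (swap_ne_swap hab.symm)
        (by rw [Sum.swap_swap]; exact hab.symm) (by rw [Sum.swap_swap]; exact hab.symm) _ _
  have hk1 : C.kap (Sg.w b b.swap 1) (F3 Sg C a b 1 u) = F3 Sg C a b.swap 1 u := by
    unfold F3
    rw [kap_cmx_one Sg C hM (muL_two h2 b) hab (ne_swap b), s1, s2, s3, Sum.swap_swap]
  have hk2 : C.kap (Sg.w b b.swap 1) (yFS Sg C hm4 a b.swap u) = yFS Sg C hm4 a b.swap.swap u := by
    have e1 := c1_two Sg C hm4 h2 hK2 hL hea.symm hae' heb' (by rw [Sum.swap_swap]; exact heb) hab'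
      hab'' u 1
    have e2 := c1_two Sg C hm4 h2 hK2 hL hea.symm hae' heb heb' hab hab' u 1
    rw [mul_one] at e1 e2
    rw [← e1, kap_cmx_one Sg C hM (muL_two h2 b) hea.symm heb', s1, s4, s3, e2, Sum.swap_swap]
  rw [← hfix]
  unfold Q3
  rw [map_mul, map_inv, hk1, hk2]

include h2 hK2 hL in
/-- the quotient does not depend on the second index. -/
theorem Q3_indep {a b b' : Fin m ⊕ Fin m} (hab : a ≠ b) (hab' : a ≠ b.swap) (hab₁ : a ≠ b')
    (hab₁' : a ≠ b'.swap) (u : K) : Q3 Sg C hm4 a b u = Q3 Sg C hm4 a b' u := by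
  by_cases h1 : b = b'
  · rw [h1]
  by_cases h3 : b = b'.swap
  · have e : b' = b.swap := by rw [h3, Sum.swap_swap]
    rw [e]
    exact Q3_weyl_long Sg C hm4 h2 hK2 hL hab hab' u
  exact Q3_weyl_short Sg C hm4 h2 hK2 hL hab hab' hab₁ hab₁' h1 h3 u

include h2 in
theorem ψ_yFL (a : Fin m ⊕ Fin m) (u : K) : C.ψ (yFL Sg C hm4 a u) = Sg.x a a.swap u :=
  ψ_Q3 Sg C hm4 h2 (bo_ne _ a) (bo_ne' _ a) u

include h2 hL in
theorem add_Q3 {a b : Fin m ⊕ Fin m} (hab : a ≠ b) (hab' : a ≠ b.swap) (u u' : K) :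
    Q3 Sg C hm4 a b u * Q3 Sg C hm4 a b u' = Q3 Sg C hm4 a b (u + u') := by
  have hab'' : a ≠ b.swap.swap := by rw [Sum.swap_swap]; exact hab
  -- the lift of the long root element commutes with the lift of the short one
  have hc : Q3 Sg C hm4 a b u' * (yFS Sg C hm4 a b.swap u)⁻¹ =
      (yFS Sg C hm4 a b.swap u)⁻¹ * Q3 Sg C hm4 a b u' := by
    have h := hL a b.swap a a.swap hab' (ne_swap a) (fun e => hab' e.symm) (ne_swap a)
      (by rw [Sum.swap_swap]; exact fun e => hab' e.symm) (swap_ne a) u u' _ _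
      (ψ_yFS Sg C hm4 hab' hab'' u) (ψ_Q3 Sg C hm4 h2 hab hab' u')
    calc Q3 Sg C hm4 a b u' * (yFS Sg C hm4 a b.swap u)⁻¹
        = (yFS Sg C hm4 a b.swap u)⁻¹ * (yFS Sg C hm4 a b.swap u * Q3 Sg C hm4 a b u') *
          (yFS Sg C hm4 a b.swap u)⁻¹ := by group
      _ = _ := by rw [h]; group
  have e1 : Q3 Sg C hm4 a b (u + u') = F3 Sg C a b 1 u * Q3 Sg C hm4 a b u' *
      (yFS Sg C hm4 a b.swap u)⁻¹ := by
    unfold Q3
    rw [F3_add_right Sg C hL hab hab', ← add_yFS Sg C hm4 hL hab' hab'']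
    group
  rw [e1, mul_assoc, hc]
  unfold Q3
  group

include h2 hK2 hL in
/-- the commutators of the lifts of a short and a long root element at `135°`. -/
theorem c3_two {a b : Fin m ⊕ Fin m} (hab : a ≠ b) (hab' : a ≠ b.swap) (t u : K) :
    C.cm (Sg.x a b t) (Sg.x b b.swap u) =
      yFS Sg C hm4 a b.swap (t * u) * yFL Sg C hm4 a (ep K a * ep K b * t * t * u) := by
  have hab'' : a ≠ b.swap.swap := by rw [Sum.swap_swap]; exact hab
  change F3 Sg C a b t u = _
  rcases hK2 t with rfl | rfl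
  · rw [F3_zero_left Sg C hab]
    simp only [zero_mul, mul_zero]
    rw [yFS_zero Sg C hm4 u]
    unfold yFL Q3
    rw [F3_zero_right, yFS_zero Sg C hm4 u, inv_one, mul_one, mul_one]
  · have e : ep K a * ep K b * 1 * 1 * u = u := by
      rw [ep_two h2, ep_two h2]
      ring
    rw [e, one_mul]
    unfold yFL
    rw [Q3_indep Sg C hm4 h2 hK2 hL (bo_ne _ a) (bo_ne' _ a) hab hab']
    unfold Q3
    have h := hL a b.swap a b.swap hab' hab' (fun e => hab' e.symm) hab'
      (by rw [Sum.swap_swap]; exact swap_ne b) (swap_ne a) u u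
    have h4 := hL a b.swap a a.swap hab' (ne_swap a) (fun e => hab' e.symm) (ne_swap a)
      (by rw [Sum.swap_swap]; exact fun e => hab' e.symm) (swap_ne a) u
      u
    have hc := lc_mul_right C h h4 _ _ (ψ_yFS Sg C hm4 hab' hab'' u)
      (by rw [ψ_F3 Sg C hab hab', one_mul, e])
    rw [← mul_assoc, hc, mul_inv_cancel_right]

include h2 hK2 hL in
/-- the commutators of the lifts of the short root elements at `90°`. -/
theorem c2_two {a b : Fin m ⊕ Fin m} (hab : a ≠ b) (hab' : a ≠ b.swap) (t u : K) :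
    C.cm (Sg.x a b t) (Sg.x b a.swap u) = yFL Sg C hm4 a (2 * t * u) := by
  have hab'' : a ≠ b.swap.swap := by rw [Sum.swap_swap]; exact hab
  have e0 : yFL Sg C hm4 a (2 * t * u) = 1 := by
    rw [h2, zero_mul, zero_mul]
    unfold yFL Q3
    rw [F3_zero_right, yFS_zero Sg C hm4 u, inv_one, mul_one]
  rw [e0, ← C.LC_iff]
  have e1 : Sg.x b a.swap u = Sg.x a b.swap u := by
    rw [Sg.sym' hab hab', ep_two h2, ep_two h2, mul_one, one_mul]
  rw [e1]
  rcases hK2 t with rfl | rfl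
  · rw [Sg.x_zero hab]
    exact lc_one_left C _
  · have hYY : yFS Sg C hm4 a b 1 * yFS Sg C hm4 a b 1 = 1 := by
      rw [add_yFS Sg C hm4 hL hab hab']
      have : (1 : K) + 1 = 0 := by linear_combination h2
      rw [this]
      exact yFS_zero Sg C hm4 u
    have h := lc_p8_of Sg C hL hab hab' h2 1 _ (ψ_yFS Sg C hm4 hab hab' 1) hYY u
    rwa [one_mul] at h

include hm4 h2 hK2 in
/-- **a central extension of a group with the Steinberg relations of type `C` over the field with two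
elements, with at least four indices, carries these relations.** -/
theorem exists_CD_two : ∃ SE : CD m K E, ∀ a b, a ≠ b → ∀ t, C.ψ (SE.x a b t) = Sg.x a b t := by
  have hL : LCc Sg C := lcc_free Sg C hm4
  exact exists_CD_of Sg C (yFS Sg C hm4) (yFL Sg C hm4) hL
    (fun a b hab hab' t => ψ_yFS Sg C hm4 hab hab' t)
    (fun a t => ψ_yFL Sg C hm4 h2 a t)
    (fun a b hab hab' t u => add_yFS Sg C hm4 hL hab hab' t u)
    (fun a t u => add_Q3 Sg C hm4 h2 hL (bo_ne _ a) (bo_ne' _ a) t u)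
    (fun a b hab hab' t => sym_two Sg C hm4 h2 hK2 hL hab hab' t)
    (fun a b c hab hab' hbc hbc' hac hac' t u => c1_two Sg C hm4 h2 hK2 hL hab hab' hbc hbc' hac hac' t u)
    (fun a b hab hab' t u => c2_two Sg C hm4 h2 hK2 hL hab hab' t u)
    (fun a b hab hab' t u => c3_two Sg C hm4 h2 hK2 hL hab hab' t u)

end two

end Cfsg.Agent.Helper7.Cd
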