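import Mathlib
import Cfsg.Agent.Helper7.CeM
import Cfsg.Agent.Helper7.CdW
import Cfsg.Agent.Helper7.SlR
import Cfsg.Agent.S0246
import Cfsg.Agent.S0269

set_option autoImplicit false
set_option linter.unusedSectionVars false
set_option linter.unusedVariables false

/-!
# Central extensions of `Sp_{2m}(q)` split, and the Schur multiplier of `PSp_{2m}(q)`
-/

namespace Cfsg.Agent.Helper7.Cd

open Matrix Cfsg.Agent.Helper7.Sc Cfsg.Agent.Helper7.Sl

universe u

theorem card_two_facts {K : Type*} [Field K] [Fintype K] (hK : Fintype.card K = 2) :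
    (2 : K) = 0 ∧ ∀ t : K, t = 0 ∨ t = 1 := by
  classical
  refine ⟨?_, ?_⟩
  · have := Nat.cast_card_eq_zero K
    rw [hK] at this
    exact_mod_cast this
  · intro t
    by_contra hcon
    push Not at hcon
    have h3 : ({0, 1, t} : Finset K).card = 3 := by
      rw [Finset.card_insert_of_notMem, Finset.card_insert_of_notMem, Finset.card_singleton]
      · rw [Finset.mem_singleton]
        exact fun e => hcon.2 e.symm
      · rw [Finset.mem_insert, Finset.mem_singleton]
        rintro (e | e)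
        · exact zero_ne_one e
        · exact hcon.1 e.symm
    have := Finset.card_le_univ ({0, 1, t} : Finset K)
    omega

/-- **every central extension of `Sp_{2m}(q)` splits**, for `m ≥ 2` and apart from `Sp_4(2)`, `Sp_6(2)`. -/
theorem sp_split {K : Type*} [Field K] [Fintype K] {m : ℕ} (hm : 2 ≤ m)
    (h2 : m = 2 → 3 ≤ Fintype.card K) (hexc : ¬ (m = 3 ∧ Fintype.card K = 2))
    {E : Type*} [Group E] (ψ : E →* symplecticGroup (Fin m) K) (hs : Function.Surjective ψ)
    (hc : ψ.ker ≤ Subgroup.center E) :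
    ∃ τ : symplecticGroup (Fin m) K →* E, ψ.comp τ = MonoidHom.id _ := by
  have hq2 : 2 ≤ Fintype.card K := Fintype.one_lt_card
  have hperf : commutator (symplecticGroup (Fin m) K) = ⊤ := by
    apply Cfsg.Agent.S0269.result
    by_cases h3 : 3 ≤ m
    · exact Or.inl h3
    · have hm2 : m = 2 := by omega
      exact Or.inr (Or.inl ⟨hm2, h2 hm2⟩)
  let C : CExt E (symplecticGroup (Fin m) K) := ⟨ψ, hs, hc, hperf⟩
  have hgen : Subgroup.closure {g | ∃ (a b : Fin m ⊕ Fin m) (t : K), a ≠ b ∧ g = (spCD m K).x a b t} = ⊤ :=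
    RX_eq_top m K
  have hex : ∃ SE : CD m K E, ∀ a b, a ≠ b → ∀ t, C.ψ (SE.x a b t) = (spCD m K).x a b t := by
    by_cases hq4 : 4 ≤ Fintype.card K
    · obtain ⟨v, hv0, hv2⟩ := Cfsg.Agent.S0269.exists_sq_ne_one hq4
      exact exists_CD_tor (spCD m K) C hm hgen hv0 hv2
    by_cases hq3 : Fintype.card K = 3
    · obtain ⟨h3, hK⟩ := card_three_facts hq3
      exact exists_CD_three (spCD m K) C hm hgen h3 hK
    · have hq : Fintype.card K = 2 := by omega
      obtain ⟨h2', hK2⟩ := card_two_facts hq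
      have hm4 : 4 ≤ m := by
        by_contra hcon
        have h23 : m = 2 ∨ m = 3 := by omega
        rcases h23 with h | h
        · have := h2 h
          omega
        · exact hexc ⟨h, hq⟩
      exact exists_CD_two (spCD m K) C hm4 h2' hK2
  obtain ⟨SE, hSE⟩ := hex
  exact SE.sp_section hm ψ (fun a b hab t => hSE a b hab t)

/-- the centre of `Sp_{2m}(q)` is cyclic of order `gcd(2, q - 1)`. -/
theorem center_sp {F : Type*} [Field F] [Fintype F] (m : ℕ) (hm : 1 ≤ m) :
    Nonempty (Multiplicative (ZMod (Nat.gcd 2 (Fintype.card F - 1))) ≃*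
      Subgroup.center (symplecticGroup (Fin m) F)) := by
  have hcard : Nat.card (Subgroup.center (symplecticGroup (Fin m) F)) =
      Nat.gcd 2 (Fintype.card F - 1) := Cfsg.Agent.S0246.result rfl m hm
  have hq2 : 2 ≤ Fintype.card F := Fintype.one_lt_card
  have hdvd : Nat.gcd 2 (Fintype.card F - 1) ∣ 2 := Nat.gcd_dvd_left _ _
  have hpos : 0 < Nat.gcd 2 (Fintype.card F - 1) := Nat.gcd_pos_of_pos_left _ (by norm_num)
  have hle : Nat.gcd 2 (Fintype.card F - 1) ≤ 2 := Nat.le_of_dvd (by norm_num) hdvd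
  have hcyc : IsCyclic (Subgroup.center (symplecticGroup (Fin m) F)) := by
    have h12 : Nat.gcd 2 (Fintype.card F - 1) = 1 ∨ Nat.gcd 2 (Fintype.card F - 1) = 2 := by omega
    rcases h12 with h | h
    · rw [h] at hcard
      haveI : Subsingleton (Subgroup.center (symplecticGroup (Fin m) F)) :=
        (Nat.card_eq_one_iff_unique.mp hcard).1
      exact isCyclic_of_subsingleton
    · rw [h] at hcard
      haveI : Fact (Nat.Prime 2) := ⟨Nat.prime_two⟩
      exact isCyclic_of_prime_card hcard
  have e1 := zmodCyclicMulEquiv hcyc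
  rw [hcard] at e1
  exact ⟨e1⟩

/-- **the Schur multiplier of `PSp_{2m}(q)`.** -/
theorem schur_psp {F : Type u} [Field F] [Fintype F] {q : ℕ} (hF : Fintype.card F = q) (m : ℕ)
    (hm : 2 ≤ m) (h2 : m = 2 → 3 ≤ q) (hexc : ¬ (m = 3 ∧ q = 2)) :
    Cfsg.HasCyclicSchurMultiplier (Cfsg.PSp m F) (Nat.gcd 2 (q - 1)) := by
  subst hF
  have hperf : commutator (symplecticGroup (Fin m) F) = ⊤ := by
    apply Cfsg.Agent.S0269.result
    by_cases h3 : 3 ≤ m
    · exact Or.inl h3
    · have hm2 : m = 2 := by omega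
      exact Or.inr (Or.inl ⟨hm2, h2 hm2⟩)
  let θ : symplecticGroup (Fin m) F →* Cfsg.PSp m F :=
    QuotientGroup.mk' (Subgroup.center (symplecticGroup (Fin m) F))
  have hθs : Function.Surjective θ := QuotientGroup.mk'_surjective _
  have hker : θ.ker = Subgroup.center (symplecticGroup (Fin m) F) := QuotientGroup.ker_mk' _
  have hθc : θ.ker ≤ Subgroup.center (symplecticGroup (Fin m) F) := le_of_eq hker
  obtain ⟨e0⟩ := center_sp (F := F) m (by omega)
  have e : Multiplicative (ZMod (Nat.gcd 2 (Fintype.card F - 1))) ≃* θ.ker :=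
    e0.trans (MulEquiv.subgroupCongr hker.symm)
  refine schur_of_universal_fin θ hθs hθc hperf ?_ e
  intro Γ _ _ σ hσs hσc
  refine exists_lift_central σ hσs hσc θ ?_
  intro P ψ hψs hψc
  exact sp_split hm h2 hexc ψ hψs hψc

end Cfsg.Agent.Helper7.Cd
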