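import Mathlib
import Cfsg.Agent.Helper7.ChevGen
import Cfsg.Agent.Helper7.ChevTw11
import Cfsg.Agent.Helper7.ChevPerfect
import Cfsg.Prelude.Def_ChevAutomorphisms

set_option autoImplicit false
set_option linter.unusedSectionVars false
set_option linter.unusedVariables false

/-!
A Chevalley group is generated by the root elements of the fundamental roots and of their negatives; consequences
for its automorphisms.
-/

namespace Cfsg.Agent.Helper7.Chev

open Cfsg Cfsg.Lie Matrix

variable {D : ChevalleyDatum} {F : Type*} [Field F]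

/-- The root elements of the fundamental roots and of their negatives, as elements of the group. -/
def simpleGen (D : ChevalleyDatum) (F : Type*) [Field F] : Set ↥(D.group F) :=
  {g | ∃ (i : ℕ) (t : F), i < D.rank ∧
    ((((g : GL D.Idx F) : Matrix D.Idx D.Idx F) = D.x F (D.simple i) t) ∨
      (((g : GL D.Idx F) : Matrix D.Idx D.Idx F) = D.x F (D.neg (D.simple i)) t))}

section gen

variable (hG : Good2 D) (hT : T0 D) (h9 : (tabOf D).T9)

include hG hT h9 in
/-- The group is generated by the root elements of the fundamental roots and of their negatives. -/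
theorem closure_simpleGen : Subgroup.closure (simpleGen D F) = ⊤ := by
  have hG1 := hG.toGood1
  rw [eq_top_iff]
  have hmem : ∀ (r : ℕ) (hr : r < D.nroots) (t : F),
      (∃ i < D.rank, r = D.simple i ∨ r = D.neg (D.simple i)) →
      xGL hG1 hr t ∈ (Subgroup.closure (simpleGen D F)).map (D.group F).subtype := by
    rintro r hr t ⟨i, hi, h⟩
    refine ⟨⟨xGL hG1 hr t, xGL_mem_group hG hr t⟩, Subgroup.subset_closure ⟨i, t, hi, ?_⟩, rfl⟩
    rcases h with rfl | rfl
    · left; exact xGL_coe hG1 hr t
    · right; exact xGL_coe hG1 hr t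
  have hall := xGL_mem_of_simple (K := F) hG hT h9
    ((Subgroup.closure (simpleGen D F)).map (D.group F).subtype)
    (fun i hi t => ⟨hmem _ _ t ⟨i, hi, Or.inl rfl⟩, hmem _ _ t ⟨i, hi, Or.inr rfl⟩⟩)
  have hle : D.group F ≤ (Subgroup.closure (simpleGen D F)).map (D.group F).subtype :=
    group_le_of_inM hG (fun q hq => ⟨hq, fun t => hall q hq t⟩)
  intro x _
  obtain ⟨y, hy, e⟩ := hle x.2
  have : y = x := Subtype.ext e
  rw [← this]
  exact hy

include hG hT h9 in
/-- Two automorphisms that agree on the root elements of the fundamental roots and of their negatives are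
equal. -/
theorem mulEquiv_ext_simpleGen {φ ψ : ↥(D.group F) ≃* ↥(D.group F)}
    (h : ∀ g ∈ simpleGen D F, φ g = ψ g) : φ = ψ := by
  have key : φ.toMonoidHom = ψ.toMonoidHom :=
    MonoidHom.eq_of_eqOn_dense (closure_simpleGen (F := F) hG hT h9) h
  apply MulEquiv.ext
  intro g
  exact DFunLike.congr_fun key g

end gen

end Cfsg.Agent.Helper7.Chev
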