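import Mathlib
import Cfsg.Agent.Helper7.ChevSimpleGen
import Cfsg.Agent.Helper7.ChevGood2
import Cfsg.Agent.Helper7.ChevT9

set_option autoImplicit false
set_option linter.unusedSectionVars false
set_option linter.unusedVariables false

/-!
Field automorphisms and graph automorphisms of a Chevalley group commute.
-/

namespace Cfsg.Agent.Helper7.Chev

open Cfsg Cfsg.Lie Matrix

variable {D : ChevalleyDatum} {F : Type*} [Field F]

/-- A field automorphism and a graph automorphism commute. -/
theorem fieldAut_graphAut_comm (hG : Good2 D) (hT : T0 D) (h9 : (tabOf D).T9)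
    (f g : ↥(D.group F) ≃* ↥(D.group F))
    (hf : D.IsFieldAut f) (hg : D.IsGraphAut g) (y : ↥(D.group F)) : f (g y) = g (f y) := by
  have hG1 := hG.toGood1
  obtain ⟨σ, hσ⟩ := hf
  obtain ⟨π, hπ, hg⟩ := hg
  have key : g.trans f = f.trans g := by
    apply mulEquiv_ext_simpleGen (F := F) hG hT h9
    rintro x ⟨i, t, hi, hx | hx⟩
    · have hs : D.simple i < D.nroots := hG1.simple_lt hi
      have hs' : D.simple (π ⟨i, hi⟩) < D.nroots := hG1.simple_lt (π ⟨i, hi⟩).2
      have h1 := (hg x ⟨i, hi⟩ t).1 hx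
      have h2 := hσ (g x) _ _ hs' h1
      have h3 := hσ x _ _ hs hx
      have h4 := (hg (f x) ⟨i, hi⟩ (σ t)).1 h3
      apply Subtype.ext
      apply Units.ext
      show ((f (g x) : GL D.Idx F) : Matrix D.Idx D.Idx F) = ((g (f x) : GL D.Idx F) : Matrix D.Idx D.Idx F)
      rw [h2, h4, map_pow]
    · have hs : D.simple i < D.nroots := hG1.simple_lt hi
      have hn : D.neg (D.simple i) < D.nroots := hG1.neg_lt hs
      have hs' : D.simple (π ⟨i, hi⟩) < D.nroots := hG1.simple_lt (π ⟨i, hi⟩).2
      have hn' : D.neg (D.simple (π ⟨i, hi⟩)) < D.nroots := hG1.neg_lt hs'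
      have h1 := (hg x ⟨i, hi⟩ t).2 hx
      have h2 := hσ (g x) _ _ hn' h1
      have h3 := hσ x _ _ hn hx
      have h4 := (hg (f x) ⟨i, hi⟩ (σ t)).2 h3
      apply Subtype.ext
      apply Units.ext
      show ((f (g x) : GL D.Idx F) : Matrix D.Idx D.Idx F) = ((g (f x) : GL D.Idx F) : Matrix D.Idx D.Idx F)
      rw [h2, h4, map_pow]
  exact DFunLike.congr_fun key y

/-- A field automorphism and a graph automorphism commute, for the seven tabulated data. -/
theorem chev_S2160 (D : ChevalleyDatum)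
    (hD : D ∈ [chevG2, chevB2, chevD4, chevF4, chevE6, chevE7, chevE8])
    (f g : ↥(D.group F) ≃* ↥(D.group F))
    (hf : D.IsFieldAut f) (hg : D.IsGraphAut g) (y : ↥(D.group F)) : f (g y) = g (f y) :=
  fieldAut_graphAut_comm (good2_of_mem D hD) (T0_of_mem D hD) (T9_of_mem D hD) f g hf hg y

end Cfsg.Agent.Helper7.Chev
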