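import Mathlib
import Cfsg.Agent.Helper7.ChevGraphRoot

set_option autoImplicit false
set_option linter.unusedSectionVars false
set_option linter.unusedVariables false

/-!
A graph automorphism of `D₄(F)` or `E₆(F)` sends every root element `x_r(t)` to `x_{π r}(± t)`: the table facts
identifying the permutation of the roots, and the statement.
-/

namespace Cfsg.Agent.Helper7.Chev

open Cfsg Cfsg.Lie Matrix

set_option maxRecDepth 1000000 in
set_option maxHeartbeats 0 in
theorem permRootL_D4id : ∀ r < chevD4.nroots, permRootL chevD4 [0, 1, 2, 3] r = r := by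
  decide +kernel

set_option maxRecDepth 1000000 in
set_option maxHeartbeats 0 in
theorem permRootL_D4a : ∀ r < chevD4.nroots, permRootL chevD4 [2, 1, 3, 0] r = tabN t18s_D4a r := by
  decide +kernel

set_option maxRecDepth 1000000 in
set_option maxHeartbeats 0 in
theorem permRootL_D4b : ∀ r < chevD4.nroots, permRootL chevD4 [3, 1, 0, 2] r = tabN t18s_D4b r := by
  decide +kernel

set_option maxRecDepth 1000000 in
set_option maxHeartbeats 0 in
theorem permRootL_D4c : ∀ r < chevD4.nroots, permRootL chevD4 [2, 1, 0, 3] r = tabN t18s_D4c r := by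
  decide +kernel

set_option maxRecDepth 1000000 in
set_option maxHeartbeats 0 in
theorem permRootL_D4d : ∀ r < chevD4.nroots, permRootL chevD4 [3, 1, 2, 0] r = tabN t18s_D4d r := by
  decide +kernel

set_option maxRecDepth 1000000 in
set_option maxHeartbeats 0 in
theorem permRootL_D4e : ∀ r < chevD4.nroots, permRootL chevD4 [0, 1, 3, 2] r = tabN t18s_D4e r := by
  decide +kernel

set_option maxRecDepth 1000000 in
set_option maxHeartbeats 0 in
theorem permRootL_E6id : ∀ r < chevE6.nroots, permRootL chevE6 [0, 1, 2, 3, 4, 5] r = r := by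
  decide +kernel

set_option maxRecDepth 1000000 in
set_option maxHeartbeats 0 in
theorem permRootL_E6 : ∀ r < chevE6.nroots, permRootL chevE6 [5, 1, 4, 3, 2, 0] r = tabN t18s_E6 r := by
  decide +kernel

theorem getD_id4 : ∀ i : Fin chevD4.rank, [0, 1, 2, 3].getD i.val 0 = i.val := by decide

theorem getD_id6 : ∀ i : Fin chevE6.rank, [0, 1, 2, 3, 4, 5].getD i.val 0 = i.val := by decide

variable {F : Type*} [Field F]

/-- The statement S2161. -/
theorem chev_S2161 (D : ChevalleyDatum) (hD : D ∈ [chevD4, chevE6])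
    (π : Equiv.Perm (Fin D.rank)) (hπ : D.IsDiagramSymmetry π) (φ : ↥(D.group F) ≃* ↥(D.group F))
    (hφ : ∀ (g : ↥(D.group F)) (i : Fin D.rank) (t : F),
      (((g : GL D.Idx F) : Matrix D.Idx D.Idx F) = D.x F (D.simple i) t →
        ((φ g : GL D.Idx F) : Matrix D.Idx D.Idx F) = D.x F (D.simple (π i)) t) ∧
      (((g : GL D.Idx F) : Matrix D.Idx D.Idx F) = D.x F (D.neg (D.simple i)) t →
        ((φ g : GL D.Idx F) : Matrix D.Idx D.Idx F) = D.x F (D.neg (D.simple (π i))) t))
    (r : ℕ) (hr : r < D.nroots) :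
    ∃ ε : F, (ε = 1 ∨ ε = -1) ∧ ∀ (g : ↥(D.group F)) (t : F),
      ((g : GL D.Idx F) : Matrix D.Idx D.Idx F) = D.x F r t →
        ((φ g : GL D.Idx F) : Matrix D.Idx D.Idx F) = D.x F (D.permRoot π r) (ε * t) := by
  have hD' : D = chevD4 ∨ D = chevE6 := by simpa using hD
  rcases hD' with rfl | rfl
  · rcases diagSym_D4_all π hπ with h | h | h | h | h | h
    · rw [permRoot_eq_permRootL chevD4 π _ h r, permRootL_D4id r hr]
      exact graph_root_sign good2_D4 T0_D4 T9_D4 T18_D4id π
        (fun i => by rw [h i, getD_id4 i]) φ hφ r hr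
    · rw [permRoot_eq_permRootL chevD4 π _ h r, permRootL_D4a r hr]
      exact graph_root_sign good2_D4 T0_D4 T9_D4 T18_D4a π h φ hφ r hr
    · rw [permRoot_eq_permRootL chevD4 π _ h r, permRootL_D4b r hr]
      exact graph_root_sign good2_D4 T0_D4 T9_D4 T18_D4b π h φ hφ r hr
    · rw [permRoot_eq_permRootL chevD4 π _ h r, permRootL_D4c r hr]
      exact graph_root_sign good2_D4 T0_D4 T9_D4 T18_D4c π h φ hφ r hr
    · rw [permRoot_eq_permRootL chevD4 π _ h r, permRootL_D4d r hr]
      exact graph_root_sign good2_D4 T0_D4 T9_D4 T18_D4d π h φ hφ r hr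
    · rw [permRoot_eq_permRootL chevD4 π _ h r, permRootL_D4e r hr]
      exact graph_root_sign good2_D4 T0_D4 T9_D4 T18_D4e π h φ hφ r hr
  · rcases diagSym_E6 π hπ with h | h
    · rw [permRoot_eq_permRootL chevE6 π _ h r, permRootL_E6id r hr]
      exact graph_root_sign good2_E6 T0_E6 T9_E6 T18_E6id π
        (fun i => by rw [h i, getD_id6 i]) φ hφ r hr
    · rw [permRoot_eq_permRootL chevE6 π _ h r, permRootL_E6 r hr]
      exact graph_root_sign good2_E6 T0_E6 T9_E6 T18_E6 π h φ hφ r hr

end Cfsg.Agent.Helper7.Chev
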