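import Mathlib
import Cfsg.Agent.Helper7.F4CentA

set_option autoImplicit false
set_option linter.unusedSectionVars false
set_option linter.unusedVariables false
set_option maxHeartbeats 4000000
set_option linter.unusedSimpArgs false

/-!
`²F₄(q)`: the Bruhat cells meeting the centralizers of the two standard involutions `x_{44}(1) x_{47}(1)` and
`x_{39}(1) x_{45}(1)` (partly generated text).
-/

namespace Cfsg.Agent.Helper7.Chev

open Cfsg Cfsg.Lie Matrix
open scoped Pointwise

section mult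

variable {K : Type*} [Field K] [CharP K 2] (f : K →+* K) (hf2 : ∀ t, f (f t) = t ^ 2)

include hf2 in
/-- Left multiplication by the central-type elements of the fourth and sixth root groups. -/
theorem lm46 (a b p1 v2 w2 p3 v4 w4 p5 v6 w6 p7 v8 w8 : K) :
    tY4 f 0 a * (tY6 f 0 b * tw8 f p1 v2 w2 p3 v4 w4 p5 v6 w6 p7 v8 w8) =
      tw8 f (p1) (v2) (w2) (p3) (v4) (a + b * p1 + w4) (p5) (v6) (b + w6) (p7) (v8) (w8) := by
  have h2 := two_eq_zero' (K := K)
  apply eq_of_mul_fw24
  simp only [tw8, tY1, tY2, tY3, tY4, tY5, tY6, tY7, tY8, mul_assoc]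
  conv_lhs => rw [fl30_24, fl28_24, fl25_24, fl27_24, fl32_24, fl37_24, fl46_24, fl40_24, fl31_24, fl35_24, fl45_24, fl39_24, fl47_24, fl44_24, fl41_24, fl29_24, fl43_24, fl38_24, fl42_24, fl36_24, fl26_24, fl34_24, fl24_24, fl33_24, fl46_24, fl40_24, fl31_24, fl35_24, fl47_24, fl44_24, fl41_24, fl29_24]
  conv_rhs => rw [fl30_24, fl28_24, fl25_24, fl27_24, fl32_24, fl37_24, fl46_24, fl40_24, fl31_24, fl35_24, fl45_24, fl39_24, fl47_24, fl44_24, fl41_24, fl29_24, fl43_24, fl38_24, fl42_24, fl36_24, fl26_24, fl34_24, fl24_24, fl33_24]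
  apply fw24_congr
  · (try simp only [map_add, map_mul, map_zero, map_pow, hf2]) <;>
      linear_combination (0) * h2
  · (try simp only [map_add, map_mul, map_zero, map_pow, hf2]) <;>
      linear_combination (0) * h2
  · (try simp only [map_add, map_mul, map_zero, map_pow, hf2]) <;>
      linear_combination (0) * h2
  · (try simp only [map_add, map_mul, map_zero, map_pow, hf2]) <;>
      linear_combination (0) * h2
  · (try simp only [map_add, map_mul, map_zero, map_pow, hf2]) <;>
      linear_combination (0) * h2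
  · (try simp only [map_add, map_mul, map_zero, map_pow, hf2]) <;>
      linear_combination (0) * h2
  · (try simp only [map_add, map_mul, map_zero, map_pow, hf2]) <;>
      linear_combination (0) * h2
  · (try simp only [map_add, map_mul, map_zero, map_pow, hf2]) <;>
      linear_combination (0) * h2
  · (try simp only [map_add, map_mul, map_zero, map_pow, hf2]) <;>
      linear_combination (0) * h2
  · (try simp only [map_add, map_mul, map_zero, map_pow, hf2]) <;>
      linear_combination (0) * h2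
  · (try simp only [map_add, map_mul, map_zero, map_pow, hf2]) <;>
      linear_combination (0) * h2
  · (try simp only [map_add, map_mul, map_zero, map_pow, hf2]) <;>
      linear_combination (0) * h2
  · (try simp only [map_add, map_mul, map_zero, map_pow, hf2]) <;>
      linear_combination (0) * h2
  · (try simp only [map_add, map_mul, map_zero, map_pow, hf2]) <;>
      linear_combination (0) * h2
  · (try simp only [map_add, map_mul, map_zero, map_pow, hf2]) <;>
      linear_combination (0) * h2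
  · (try simp only [map_add, map_mul, map_zero, map_pow, hf2]) <;>
      linear_combination (0) * h2
  · (try simp only [map_add, map_mul, map_zero, map_pow, hf2]) <;>
      linear_combination (0) * h2
  · (try simp only [map_add, map_mul, map_zero, map_pow, hf2]) <;>
      linear_combination (0) * h2
  · (try simp only [map_add, map_mul, map_zero, map_pow, hf2]) <;>
      linear_combination (0) * h2
  · (try simp only [map_add, map_mul, map_zero, map_pow, hf2]) <;>
      linear_combination (0) * h2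
  · (try simp only [map_add, map_mul, map_zero, map_pow, hf2]) <;>
      linear_combination (0) * h2
  · (try simp only [map_add, map_mul, map_zero, map_pow, hf2]) <;>
      linear_combination (0) * h2
  · (try simp only [map_add, map_mul, map_zero, map_pow, hf2]) <;>
      linear_combination (0) * h2
  · (try simp only [map_add, map_mul, map_zero, map_pow, hf2]) <;>
      linear_combination (0) * h2

end mult

section sq

variable {K : Type*} [Field K] [CharP K 2]

theorem list_ge39_of_fst {L : List (Fin 48 × K)} (h : ∀ r ∈ L.map Prod.fst, 39 ≤ r.val) :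
    ∀ p ∈ L, 39 ≤ p.1.val := fun p hp => h p.1 (List.mem_map_of_mem hp)

/-- A product of commuting root elements is an involution, in characteristic two. -/
theorem fxProd_sq (L : List (Fin 48 × K)) (hL : ∀ p ∈ L, 39 ≤ p.1.val) : fxProd L * fxProd L = 1 := by
  induction L with
  | nil => rw [fxProd_nil, mul_one]
  | cons p L ih =>
    have hL' : ∀ q ∈ L, 39 ≤ q.1.val := fun q hq => hL q (List.mem_cons_of_mem _ hq)
    rw [fxProd_cons, mul_assoc, ← mul_assoc (fxProd L), ← fx_comm_fxProd (hL p List.mem_cons_self) p.2 L hL',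
      mul_assoc, ih hL', mul_one, fx_sq2]

end sq

section tables

set_option maxRecDepth 1000000 in
theorem f4_cent_tab4 : ∀ w ∈ f4Wl, w = [] ∨ w = [2, 1, 2, 1] ∨ fastF4.reflWord w 44 < 44 ∨
    fastF4.reflWord w 47 < 44 := by
  decide +kernel

set_option maxRecDepth 1000000 in
theorem f4_cent_tab5 : ∀ w ∈ f4Wl, w = [] ∨ w = [0, 3] ∨ fastF4.reflWord w 39 < 39 ∨
    fastF4.reflWord w 45 < 39 := by
  decide +kernel

end tables

section cells

variable {K : Type*} [Field K] [Fintype K] [CharP K 2] {m : ℕ}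

/-- The conjugates of `x_{39}(1) x_{45}(1)` under `U¹`. -/
theorem conj_y5_form (hK : Fintype.card K = 2 ^ (2 * m + 1)) {u : GL chevF4.Idx K}
    (hu : u ∈ chevF4.posUnipotent K ⊓ twistedF4 K (2 ^ m)) :
    ∃ a b : K, u * tY5 (f4Th K (m + 1)) 1 * u⁻¹ =
      fxProd [(44, a), (47, f4Th K (m + 1) a), (40, b), (46, f4Th K (m + 1) b), (39, 1), (45, 1)] := by
  have hm := pow_card_two hK
  have hf2 := f4Ph_f4Ph (K := K) hm
  obtain ⟨p1, v2, w2, p3, v4, w4, p5, v6, w6, p7, v8, w8, rfl⟩ := exists_tw8 hK hu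
  set φ := f4Th K (m + 1) with hφ
  refine ⟨v2 + p1 * v8, v8, ?_⟩
  set t := tw8 φ p1 v2 w2 p3 v4 w4 p5 v6 w6 p7 v8 w8 with ht
  set c : GL chevF4.Idx K := fxProd [(44, v2 + p1 * v8), (47, φ (v2 + p1 * v8)), (40, v8), (46, φ v8)] with hc
  have hc' : c = tY4 φ 0 (v2 + p1 * v8) * tY6 φ 0 v8 := by
    rw [hc]
    unfold fxProd tY4 tY6
    simp only [List.map_cons, List.map_nil, List.prod_cons, List.prod_nil, map_zero, fx_zero, one_mul,
      mul_zero, zero_add, mul_one, mul_assoc]
  have h1 := cj5 φ hf2 1 p1 v2 w2 p3 v4 w4 p5 v6 w6 p7 v8 w8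
  have h2 := lm46 φ hf2 (v2 + p1 * v8) v8 p1 v2 w2 p3 v4 w4 p5 v6 w6 p7 v8 w8
  have h3 : tw8 φ p1 v2 w2 p3 v4 (1 * v2 + w4) p5 v6 (1 * v8 + w6) p7 v8 w8 = c * t := by
    rw [hc', mul_assoc, ht, h2]
    apply tw8_congr <;> first | rfl | (linear_combination (-(p1 * v8)) * two_eq_zero' (K := K)) | ring
  rw [h3] at h1
  have hcc : c * c = 1 := fxProd_sq _ (list_ge39_of_fst (by
    simp only [List.map_cons, List.map_nil]
    decide))
  have h4 : t * tY5 φ 1 * t⁻¹ = c * tY5 φ 1 := by
    calc t * tY5 φ 1 * t⁻¹ = c * c * (t * tY5 φ 1 * t⁻¹) := by rw [hcc, one_mul]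
      _ = c * (c * t * tY5 φ 1) * t⁻¹ := by group
      _ = c * (tY5 φ 1 * t) * t⁻¹ := by rw [h1]
      _ = c * tY5 φ 1 := by group
  rw [h4, hc]
  unfold fxProd tY5
  simp only [List.map_cons, List.map_nil, List.prod_cons, List.prod_nil, map_one, mul_one, mul_assoc]

/-- The normal form of an element of the centralizer of an element `x` of `U_{≥ k}`. -/
theorem cell_of_cent (hK : Fintype.card K = 2 ^ (2 * m + 1)) {x : GL chevF4.Idx K} {k : ℕ} (hk : 24 ≤ k)
    (hxk : x ∈ Uge chevF4 K k) {g : GL chevF4.Idx K} (hgG : g ∈ twistedF4 K (2 ^ m))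
    (hc : g * x * g⁻¹ = x) :
    ∃ w ∈ f4Wl, ∃ u ∈ chevF4.posUnipotent K ⊓ twistedF4 K (2 ^ m),
      ∃ h ∈ chevF4.diagonalSubgroup K ⊓ twistedF4 K (2 ^ m),
      ∃ u' ∈ chevF4.posUnipotent K ⊓ twistedF4 K (2 ^ m),
        g = u * h * nWordGL good3_F4.toGood2 w * u' ∧
        nWordGL good3_F4.toGood2 w * (u' * x * u'⁻¹) * (nWordGL good3_F4.toGood2 w)⁻¹ ∈ Uge chevF4 K k := by
  have hm := pow_card_two hK
  obtain ⟨w, hwW, u, hu, h, hh, u', hu', e⟩ :=
    exists_normal_form_fix good3_F4.toGood2 T0_F4 good3_F4.t3 good3_F4.t4 T5_F4 T6_F4 T8_F4 T9_F4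
      (f4Tau_rootAut hm) (twistedF4_le_fixSub hm) (f4_posFix_le hm) (f4_fWList hm) hgG
  have hu'U : u' ∈ chevF4.posUnipotent K ⊓ twistedF4 K (2 ^ m) := by
    rw [(f4_posUnipotent_inf hm).1]
    have := (mem_fM good3_F4.toGood2).mp hu'
    exact ⟨this.1, this.2.1⟩
  refine ⟨w, hwW, u, hu, h, hh, u', hu'U, e, ?_⟩
  set b : GL chevF4.Idx K := u * h with hb
  have hbB : b ∈ chevF4.borelSubgroup K :=
    mul_mem ((le_sup_left : chevF4.posUnipotent K ≤ chevF4.borelSubgroup K) hu.1)
      ((le_sup_right : chevF4.diagonalSubgroup K ≤ chevF4.borelSubgroup K) hh.1)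
  set n : GL chevF4.Idx K := nWordGL good3_F4.toGood2 w with hn
  have hmain : n * (u' * x * u'⁻¹) * n⁻¹ = b⁻¹ * x * b := by
    have e' : g = b * n * u' := e
    conv_rhs => rw [← hc, e']
    group
  rw [hmain]
  have := (Subgroup.mem_set_normalizer_iff.mp
    (f4_B_le_normalizer_Uge (K := K) (k := k) hk (inv_mem hbB)) x).mp hxk
  rwa [inv_inv] at this

/-- The centralizer of `x_{39}(1) x_{45}(1)` lies in two Bruhat cells. -/
theorem cent_y5_cell (hK : Fintype.card K = 2 ^ (2 * m + 1)) {g : GL chevF4.Idx K}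
    (hgG : g ∈ twistedF4 K (2 ^ m))
    (hc : g * tY5 (f4Th K (m + 1)) 1 * g⁻¹ = tY5 (f4Th K (m + 1)) 1) :
    ∃ w, (w = [] ∨ w = [0, 3]) ∧ ∃ b ∈ chevF4.borelSubgroup K ⊓ twistedF4 K (2 ^ m),
      ∃ b' ∈ chevF4.borelSubgroup K ⊓ twistedF4 K (2 ^ m), g = b * nWordGL good3_F4.toGood2 w * b' := by
  have hx : tY5 (f4Th K (m + 1)) (1 : K) ∈ Uge chevF4 K 39 := by
    unfold tY5
    exact mul_mem (fx_mem_Uge 39 (by decide) _) (fx_mem_Uge 45 (by decide) _)
  obtain ⟨w, hwW, u, hu, h, hh, u', hu', e, hmem⟩ := cell_of_cent hK (by norm_num) hx hgG hc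
  have hw : ∀ i ∈ w, i < chevF4.rank := f4Wl_lt w hwW
  obtain ⟨a, b, hab⟩ := conj_y5_form hK hu'
  rw [hab] at hmem
  have key := conj_peel hw (by norm_num) _ (list_ge39_of_fst (by
      simp only [List.map_cons, List.map_nil]
      decide)) (by
      simp only [List.map_cons, List.map_nil]
      decide) hmem
  have k39 := key (39, 1) (by simp)
  have k45 := key (45, 1) (by simp)
  have h39 : 39 ≤ fastF4.reflWord w 39 := by
    rcases k39 with h0 | h0
    · exact absurd h0 one_ne_zero
    · exact h0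
  have h45 : 39 ≤ fastF4.reflWord w 45 := by
    rcases k45 with h0 | h0
    · exact absurd h0 one_ne_zero
    · exact h0
  have hww : w = [] ∨ w = [0, 3] := by
    rcases f4_cent_tab5 w hwW with h0 | h0 | h0 | h0
    · exact Or.inl h0
    · exact Or.inr h0
    · omega
    · omega
  refine ⟨w, hww, u * h, ⟨?_, mul_mem hu.2 hh.2⟩, u', ⟨?_, hu'.2⟩, e⟩
  · exact mul_mem ((le_sup_left : chevF4.posUnipotent K ≤ chevF4.borelSubgroup K) hu.1)
      ((le_sup_right : chevF4.diagonalSubgroup K ≤ chevF4.borelSubgroup K) hh.1)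
  · exact (le_sup_left : chevF4.posUnipotent K ≤ chevF4.borelSubgroup K) hu'.1

/-- The centralizer of `x_{44}(1) x_{47}(1)` lies in two Bruhat cells. -/
theorem cent_z4_cell (hK : Fintype.card K = 2 ^ (2 * m + 1)) {g : GL chevF4.Idx K}
    (hgG : g ∈ twistedF4 K (2 ^ m))
    (hc : g * tY4 (f4Th K (m + 1)) 0 1 * g⁻¹ = tY4 (f4Th K (m + 1)) 0 1) :
    ∃ w, (w = [] ∨ w = [2, 1, 2, 1]) ∧ ∃ b ∈ chevF4.borelSubgroup K ⊓ twistedF4 K (2 ^ m),
      ∃ b' ∈ chevF4.borelSubgroup K ⊓ twistedF4 K (2 ^ m), g = b * nWordGL good3_F4.toGood2 w * b' := by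
  have hz' : tY4 (f4Th K (m + 1)) 0 (1 : K) = fxProd [(44, 1), (47, 1)] := by
    unfold tY4 fxProd
    simp only [List.map_cons, List.map_nil, List.prod_cons, List.prod_nil, map_zero, map_one, zero_mul,
      zero_add, fx_zero, one_mul, mul_one]
  have hx : tY4 (f4Th K (m + 1)) 0 (1 : K) ∈ Uge chevF4 K 44 := by
    rw [hz']
    apply fxProd_mem
    intro p hp
    simp only [List.mem_cons, List.not_mem_nil, or_false] at hp
    rcases hp with rfl | rfl
    · exact fx_mem_Uge 44 (by decide) _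
    · exact fx_mem_Uge 47 (by decide) _
  obtain ⟨w, hwW, u, hu, h, hh, u', hu', e, hmem⟩ := cell_of_cent hK (by norm_num) hx hgG hc
  have hw : ∀ i ∈ w, i < chevF4.rank := f4Wl_lt w hwW
  have hcen : u' * tY4 (f4Th K (m + 1)) 0 1 * u'⁻¹ = tY4 (f4Th K (m + 1)) 0 1 := by
    rw [← tY4_central hK hu' 1]
    group
  rw [hcen, hz'] at hmem
  have key := conj_peel hw (by norm_num) _ (list_ge39_of_fst (by
      simp only [List.map_cons, List.map_nil]
      decide)) (by
      simp only [List.map_cons, List.map_nil]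
      decide) hmem
  have k44 := key (44, 1) (by simp)
  have k47 := key (47, 1) (by simp)
  have h44 : 44 ≤ fastF4.reflWord w 44 := by
    rcases k44 with h0 | h0
    · exact absurd h0 one_ne_zero
    · exact h0
  have h47 : 44 ≤ fastF4.reflWord w 47 := by
    rcases k47 with h0 | h0
    · exact absurd h0 one_ne_zero
    · exact h0
  have hww : w = [] ∨ w = [2, 1, 2, 1] := by
    rcases f4_cent_tab4 w hwW with h0 | h0 | h0 | h0
    · exact Or.inl h0
    · exact Or.inr h0
    · omega
    · omega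
  refine ⟨w, hww, u * h, ⟨?_, mul_mem hu.2 hh.2⟩, u', ⟨?_, hu'.2⟩, e⟩
  · exact mul_mem ((le_sup_left : chevF4.posUnipotent K ≤ chevF4.borelSubgroup K) hu.1)
      ((le_sup_right : chevF4.diagonalSubgroup K ≤ chevF4.borelSubgroup K) hh.1)
  · exact (le_sup_left : chevF4.posUnipotent K ≤ chevF4.borelSubgroup K) hu'.1

end cells

end Cfsg.Agent.Helper7.Chev
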