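import Mathlib
import Cfsg.Agent.Helper7.F4CentB

set_option autoImplicit false
set_option linter.unusedSectionVars false
set_option linter.unusedVariables false
set_option maxHeartbeats 4000000
set_option linter.unusedSimpArgs false

/-!
The normal form of the elements of `U` in type `F₄` in characteristic two, and the conjugates of
`x_{39}(a) x_{45}(b)` under `U` (generated text).
-/

namespace Cfsg.Agent.Helper7.Chev

open Cfsg Cfsg.Lie Matrix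
open scoped Pointwise

variable {K : Type*} [Field K] [CharP K 2]

theorem fw24_mul (t24 t25 t26 t27 t28 t29 t30 t31 t32 t33 t34 t35 t36 t37 t38 t39 t40 t41 t42 t43 t44 t45 t46 t47 : K) (X : GL chevF4.Idx K) :
    fw24 t24 t25 t26 t27 t28 t29 t30 t31 t32 t33 t34 t35 t36 t37 t38 t39 t40 t41 t42 t43 t44 t45 t46 t47 * X =
      fx K 24 t24 * (fx K 25 t25 * (fx K 26 t26 * (fx K 27 t27 * (fx K 28 t28 * (fx K 29 t29 * (fx K 30 t30 * (fx K 31 t31 * (fx K 32 t32 * (fx K 33 t33 * (fx K 34 t34 * (fx K 35 t35 * (fx K 36 t36 * (fx K 37 t37 * (fx K 38 t38 * (fx K 39 t39 * (fx K 40 t40 * (fx K 41 t41 * (fx K 42 t42 * (fx K 43 t43 * (fx K 44 t44 * (fx K 45 t45 * (fx K 46 t46 * (fx K 47 t47 * (X)))))))))))))))))))))))) := by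
  unfold fw24 fw25 fw26 fw27 fw28 fw29 fw30 fw31 fw32 fw33 fw34 fw35 fw36 fw37 fw38 fw39 fw40 fw41 fw42 fw43 fw44 fw45 fw46 fw47
  simp only [mul_assoc]

/-- Every element of `U` has a normal form. -/
theorem exists_fw24 {u : GL chevF4.Idx K} (hu : u ∈ chevF4.posUnipotent K) :
    ∃ t24 t25 t26 t27 t28 t29 t30 t31 t32 t33 t34 t35 t36 t37 t38 t39 t40 t41 t42 t43 t44 t45 t46 t47 : K, u = fw24 t24 t25 t26 t27 t28 t29 t30 t31 t32 t33 t34 t35 t36 t37 t38 t39 t40 t41 t42 t43 t44 t45 t46 t47 := by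
  unfold ChevalleyDatum.posUnipotent at hu
  induction hu using Subgroup.closure_induction_left with
  | one => exact ⟨0, 0, 0, 0, 0, 0, 0, 0, 0, 0, 0, 0, 0, 0, 0, 0, 0, 0, 0, 0, 0, 0, 0, 0, fw24_zero.symm⟩
  | mul_left x hx y hy ih =>
    obtain ⟨r, s, hr, hxr⟩ := hx
    obtain ⟨t24, t25, t26, t27, t28, t29, t30, t31, t32, t33, t34, t35, t36, t37, t38, t39, t40, t41, t42, t43, t44, t45, t46, t47, rfl⟩ := ih
    obtain ⟨h24, h48⟩ := (f4_isPosRoot r).mp hr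
    have hx' : x = fx K ⟨r, h48⟩ s := eq_xGL good3_F4.toGood1 h48 hxr
    rw [hx']
    interval_cases r
    · exact ⟨_, _, _, _, _, _, _, _, _, _, _, _, _, _, _, _, _, _, _, _, _, _, _, _, fl24_24 s t24 t25 t26 t27 t28 t29 t30 t31 t32 t33 t34 t35 t36 t37 t38 t39 t40 t41 t42 t43 t44 t45 t46 t47⟩
    · exact ⟨_, _, _, _, _, _, _, _, _, _, _, _, _, _, _, _, _, _, _, _, _, _, _, _, fl25_24 s t24 t25 t26 t27 t28 t29 t30 t31 t32 t33 t34 t35 t36 t37 t38 t39 t40 t41 t42 t43 t44 t45 t46 t47⟩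
    · exact ⟨_, _, _, _, _, _, _, _, _, _, _, _, _, _, _, _, _, _, _, _, _, _, _, _, fl26_24 s t24 t25 t26 t27 t28 t29 t30 t31 t32 t33 t34 t35 t36 t37 t38 t39 t40 t41 t42 t43 t44 t45 t46 t47⟩
    · exact ⟨_, _, _, _, _, _, _, _, _, _, _, _, _, _, _, _, _, _, _, _, _, _, _, _, fl27_24 s t24 t25 t26 t27 t28 t29 t30 t31 t32 t33 t34 t35 t36 t37 t38 t39 t40 t41 t42 t43 t44 t45 t46 t47⟩
    · exact ⟨_, _, _, _, _, _, _, _, _, _, _, _, _, _, _, _, _, _, _, _, _, _, _, _, fl28_24 s t24 t25 t26 t27 t28 t29 t30 t31 t32 t33 t34 t35 t36 t37 t38 t39 t40 t41 t42 t43 t44 t45 t46 t47⟩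
    · exact ⟨_, _, _, _, _, _, _, _, _, _, _, _, _, _, _, _, _, _, _, _, _, _, _, _, fl29_24 s t24 t25 t26 t27 t28 t29 t30 t31 t32 t33 t34 t35 t36 t37 t38 t39 t40 t41 t42 t43 t44 t45 t46 t47⟩
    · exact ⟨_, _, _, _, _, _, _, _, _, _, _, _, _, _, _, _, _, _, _, _, _, _, _, _, fl30_24 s t24 t25 t26 t27 t28 t29 t30 t31 t32 t33 t34 t35 t36 t37 t38 t39 t40 t41 t42 t43 t44 t45 t46 t47⟩
    · exact ⟨_, _, _, _, _, _, _, _, _, _, _, _, _, _, _, _, _, _, _, _, _, _, _, _, fl31_24 s t24 t25 t26 t27 t28 t29 t30 t31 t32 t33 t34 t35 t36 t37 t38 t39 t40 t41 t42 t43 t44 t45 t46 t47⟩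
    · exact ⟨_, _, _, _, _, _, _, _, _, _, _, _, _, _, _, _, _, _, _, _, _, _, _, _, fl32_24 s t24 t25 t26 t27 t28 t29 t30 t31 t32 t33 t34 t35 t36 t37 t38 t39 t40 t41 t42 t43 t44 t45 t46 t47⟩
    · exact ⟨_, _, _, _, _, _, _, _, _, _, _, _, _, _, _, _, _, _, _, _, _, _, _, _, fl33_24 s t24 t25 t26 t27 t28 t29 t30 t31 t32 t33 t34 t35 t36 t37 t38 t39 t40 t41 t42 t43 t44 t45 t46 t47⟩
    · exact ⟨_, _, _, _, _, _, _, _, _, _, _, _, _, _, _, _, _, _, _, _, _, _, _, _, fl34_24 s t24 t25 t26 t27 t28 t29 t30 t31 t32 t33 t34 t35 t36 t37 t38 t39 t40 t41 t42 t43 t44 t45 t46 t47⟩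
    · exact ⟨_, _, _, _, _, _, _, _, _, _, _, _, _, _, _, _, _, _, _, _, _, _, _, _, fl35_24 s t24 t25 t26 t27 t28 t29 t30 t31 t32 t33 t34 t35 t36 t37 t38 t39 t40 t41 t42 t43 t44 t45 t46 t47⟩
    · exact ⟨_, _, _, _, _, _, _, _, _, _, _, _, _, _, _, _, _, _, _, _, _, _, _, _, fl36_24 s t24 t25 t26 t27 t28 t29 t30 t31 t32 t33 t34 t35 t36 t37 t38 t39 t40 t41 t42 t43 t44 t45 t46 t47⟩
    · exact ⟨_, _, _, _, _, _, _, _, _, _, _, _, _, _, _, _, _, _, _, _, _, _, _, _, fl37_24 s t24 t25 t26 t27 t28 t29 t30 t31 t32 t33 t34 t35 t36 t37 t38 t39 t40 t41 t42 t43 t44 t45 t46 t47⟩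
    · exact ⟨_, _, _, _, _, _, _, _, _, _, _, _, _, _, _, _, _, _, _, _, _, _, _, _, fl38_24 s t24 t25 t26 t27 t28 t29 t30 t31 t32 t33 t34 t35 t36 t37 t38 t39 t40 t41 t42 t43 t44 t45 t46 t47⟩
    · exact ⟨_, _, _, _, _, _, _, _, _, _, _, _, _, _, _, _, _, _, _, _, _, _, _, _, fl39_24 s t24 t25 t26 t27 t28 t29 t30 t31 t32 t33 t34 t35 t36 t37 t38 t39 t40 t41 t42 t43 t44 t45 t46 t47⟩
    · exact ⟨_, _, _, _, _, _, _, _, _, _, _, _, _, _, _, _, _, _, _, _, _, _, _, _, fl40_24 s t24 t25 t26 t27 t28 t29 t30 t31 t32 t33 t34 t35 t36 t37 t38 t39 t40 t41 t42 t43 t44 t45 t46 t47⟩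
    · exact ⟨_, _, _, _, _, _, _, _, _, _, _, _, _, _, _, _, _, _, _, _, _, _, _, _, fl41_24 s t24 t25 t26 t27 t28 t29 t30 t31 t32 t33 t34 t35 t36 t37 t38 t39 t40 t41 t42 t43 t44 t45 t46 t47⟩
    · exact ⟨_, _, _, _, _, _, _, _, _, _, _, _, _, _, _, _, _, _, _, _, _, _, _, _, fl42_24 s t24 t25 t26 t27 t28 t29 t30 t31 t32 t33 t34 t35 t36 t37 t38 t39 t40 t41 t42 t43 t44 t45 t46 t47⟩
    · exact ⟨_, _, _, _, _, _, _, _, _, _, _, _, _, _, _, _, _, _, _, _, _, _, _, _, fl43_24 s t24 t25 t26 t27 t28 t29 t30 t31 t32 t33 t34 t35 t36 t37 t38 t39 t40 t41 t42 t43 t44 t45 t46 t47⟩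
    · exact ⟨_, _, _, _, _, _, _, _, _, _, _, _, _, _, _, _, _, _, _, _, _, _, _, _, fl44_24 s t24 t25 t26 t27 t28 t29 t30 t31 t32 t33 t34 t35 t36 t37 t38 t39 t40 t41 t42 t43 t44 t45 t46 t47⟩
    · exact ⟨_, _, _, _, _, _, _, _, _, _, _, _, _, _, _, _, _, _, _, _, _, _, _, _, fl45_24 s t24 t25 t26 t27 t28 t29 t30 t31 t32 t33 t34 t35 t36 t37 t38 t39 t40 t41 t42 t43 t44 t45 t46 t47⟩
    · exact ⟨_, _, _, _, _, _, _, _, _, _, _, _, _, _, _, _, _, _, _, _, _, _, _, _, fl46_24 s t24 t25 t26 t27 t28 t29 t30 t31 t32 t33 t34 t35 t36 t37 t38 t39 t40 t41 t42 t43 t44 t45 t46 t47⟩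
    · exact ⟨_, _, _, _, _, _, _, _, _, _, _, _, _, _, _, _, _, _, _, _, _, _, _, _, fl47_24 s t24 t25 t26 t27 t28 t29 t30 t31 t32 t33 t34 t35 t36 t37 t38 t39 t40 t41 t42 t43 t44 t45 t46 t47⟩
  | inv_mul_cancel x hx y hy ih =>
    obtain ⟨r, s, hr, hxr⟩ := hx
    obtain ⟨t24, t25, t26, t27, t28, t29, t30, t31, t32, t33, t34, t35, t36, t37, t38, t39, t40, t41, t42, t43, t44, t45, t46, t47, rfl⟩ := ih
    obtain ⟨h24, h48⟩ := (f4_isPosRoot r).mp hr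
    have hx' : x = fx K ⟨r, h48⟩ s := eq_xGL good3_F4.toGood1 h48 hxr
    rw [hx', fx_inv']
    interval_cases r
    · exact ⟨_, _, _, _, _, _, _, _, _, _, _, _, _, _, _, _, _, _, _, _, _, _, _, _, fl24_24 s t24 t25 t26 t27 t28 t29 t30 t31 t32 t33 t34 t35 t36 t37 t38 t39 t40 t41 t42 t43 t44 t45 t46 t47⟩
    · exact ⟨_, _, _, _, _, _, _, _, _, _, _, _, _, _, _, _, _, _, _, _, _, _, _, _, fl25_24 s t24 t25 t26 t27 t28 t29 t30 t31 t32 t33 t34 t35 t36 t37 t38 t39 t40 t41 t42 t43 t44 t45 t46 t47⟩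
    · exact ⟨_, _, _, _, _, _, _, _, _, _, _, _, _, _, _, _, _, _, _, _, _, _, _, _, fl26_24 s t24 t25 t26 t27 t28 t29 t30 t31 t32 t33 t34 t35 t36 t37 t38 t39 t40 t41 t42 t43 t44 t45 t46 t47⟩
    · exact ⟨_, _, _, _, _, _, _, _, _, _, _, _, _, _, _, _, _, _, _, _, _, _, _, _, fl27_24 s t24 t25 t26 t27 t28 t29 t30 t31 t32 t33 t34 t35 t36 t37 t38 t39 t40 t41 t42 t43 t44 t45 t46 t47⟩
    · exact ⟨_, _, _, _, _, _, _, _, _, _, _, _, _, _, _, _, _, _, _, _, _, _, _, _, fl28_24 s t24 t25 t26 t27 t28 t29 t30 t31 t32 t33 t34 t35 t36 t37 t38 t39 t40 t41 t42 t43 t44 t45 t46 t47⟩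
    · exact ⟨_, _, _, _, _, _, _, _, _, _, _, _, _, _, _, _, _, _, _, _, _, _, _, _, fl29_24 s t24 t25 t26 t27 t28 t29 t30 t31 t32 t33 t34 t35 t36 t37 t38 t39 t40 t41 t42 t43 t44 t45 t46 t47⟩
    · exact ⟨_, _, _, _, _, _, _, _, _, _, _, _, _, _, _, _, _, _, _, _, _, _, _, _, fl30_24 s t24 t25 t26 t27 t28 t29 t30 t31 t32 t33 t34 t35 t36 t37 t38 t39 t40 t41 t42 t43 t44 t45 t46 t47⟩
    · exact ⟨_, _, _, _, _, _, _, _, _, _, _, _, _, _, _, _, _, _, _, _, _, _, _, _, fl31_24 s t24 t25 t26 t27 t28 t29 t30 t31 t32 t33 t34 t35 t36 t37 t38 t39 t40 t41 t42 t43 t44 t45 t46 t47⟩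
    · exact ⟨_, _, _, _, _, _, _, _, _, _, _, _, _, _, _, _, _, _, _, _, _, _, _, _, fl32_24 s t24 t25 t26 t27 t28 t29 t30 t31 t32 t33 t34 t35 t36 t37 t38 t39 t40 t41 t42 t43 t44 t45 t46 t47⟩
    · exact ⟨_, _, _, _, _, _, _, _, _, _, _, _, _, _, _, _, _, _, _, _, _, _, _, _, fl33_24 s t24 t25 t26 t27 t28 t29 t30 t31 t32 t33 t34 t35 t36 t37 t38 t39 t40 t41 t42 t43 t44 t45 t46 t47⟩
    · exact ⟨_, _, _, _, _, _, _, _, _, _, _, _, _, _, _, _, _, _, _, _, _, _, _, _, fl34_24 s t24 t25 t26 t27 t28 t29 t30 t31 t32 t33 t34 t35 t36 t37 t38 t39 t40 t41 t42 t43 t44 t45 t46 t47⟩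
    · exact ⟨_, _, _, _, _, _, _, _, _, _, _, _, _, _, _, _, _, _, _, _, _, _, _, _, fl35_24 s t24 t25 t26 t27 t28 t29 t30 t31 t32 t33 t34 t35 t36 t37 t38 t39 t40 t41 t42 t43 t44 t45 t46 t47⟩
    · exact ⟨_, _, _, _, _, _, _, _, _, _, _, _, _, _, _, _, _, _, _, _, _, _, _, _, fl36_24 s t24 t25 t26 t27 t28 t29 t30 t31 t32 t33 t34 t35 t36 t37 t38 t39 t40 t41 t42 t43 t44 t45 t46 t47⟩
    · exact ⟨_, _, _, _, _, _, _, _, _, _, _, _, _, _, _, _, _, _, _, _, _, _, _, _, fl37_24 s t24 t25 t26 t27 t28 t29 t30 t31 t32 t33 t34 t35 t36 t37 t38 t39 t40 t41 t42 t43 t44 t45 t46 t47⟩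
    · exact ⟨_, _, _, _, _, _, _, _, _, _, _, _, _, _, _, _, _, _, _, _, _, _, _, _, fl38_24 s t24 t25 t26 t27 t28 t29 t30 t31 t32 t33 t34 t35 t36 t37 t38 t39 t40 t41 t42 t43 t44 t45 t46 t47⟩
    · exact ⟨_, _, _, _, _, _, _, _, _, _, _, _, _, _, _, _, _, _, _, _, _, _, _, _, fl39_24 s t24 t25 t26 t27 t28 t29 t30 t31 t32 t33 t34 t35 t36 t37 t38 t39 t40 t41 t42 t43 t44 t45 t46 t47⟩
    · exact ⟨_, _, _, _, _, _, _, _, _, _, _, _, _, _, _, _, _, _, _, _, _, _, _, _, fl40_24 s t24 t25 t26 t27 t28 t29 t30 t31 t32 t33 t34 t35 t36 t37 t38 t39 t40 t41 t42 t43 t44 t45 t46 t47⟩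
    · exact ⟨_, _, _, _, _, _, _, _, _, _, _, _, _, _, _, _, _, _, _, _, _, _, _, _, fl41_24 s t24 t25 t26 t27 t28 t29 t30 t31 t32 t33 t34 t35 t36 t37 t38 t39 t40 t41 t42 t43 t44 t45 t46 t47⟩
    · exact ⟨_, _, _, _, _, _, _, _, _, _, _, _, _, _, _, _, _, _, _, _, _, _, _, _, fl42_24 s t24 t25 t26 t27 t28 t29 t30 t31 t32 t33 t34 t35 t36 t37 t38 t39 t40 t41 t42 t43 t44 t45 t46 t47⟩
    · exact ⟨_, _, _, _, _, _, _, _, _, _, _, _, _, _, _, _, _, _, _, _, _, _, _, _, fl43_24 s t24 t25 t26 t27 t28 t29 t30 t31 t32 t33 t34 t35 t36 t37 t38 t39 t40 t41 t42 t43 t44 t45 t46 t47⟩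
    · exact ⟨_, _, _, _, _, _, _, _, _, _, _, _, _, _, _, _, _, _, _, _, _, _, _, _, fl44_24 s t24 t25 t26 t27 t28 t29 t30 t31 t32 t33 t34 t35 t36 t37 t38 t39 t40 t41 t42 t43 t44 t45 t46 t47⟩
    · exact ⟨_, _, _, _, _, _, _, _, _, _, _, _, _, _, _, _, _, _, _, _, _, _, _, _, fl45_24 s t24 t25 t26 t27 t28 t29 t30 t31 t32 t33 t34 t35 t36 t37 t38 t39 t40 t41 t42 t43 t44 t45 t46 t47⟩
    · exact ⟨_, _, _, _, _, _, _, _, _, _, _, _, _, _, _, _, _, _, _, _, _, _, _, _, fl46_24 s t24 t25 t26 t27 t28 t29 t30 t31 t32 t33 t34 t35 t36 t37 t38 t39 t40 t41 t42 t43 t44 t45 t46 t47⟩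
    · exact ⟨_, _, _, _, _, _, _, _, _, _, _, _, _, _, _, _, _, _, _, _, _, _, _, _, fl47_24 s t24 t25 t26 t27 t28 t29 t30 t31 t32 t33 t34 t35 t36 t37 t38 t39 t40 t41 t42 t43 t44 t45 t46 t47⟩

theorem fw24_sparse (a A B b C D : K) :
    fw24 0 0 0 0 0 0 0 0 0 0 0 0 0 0 0 a A 0 0 0 B b C D =
      fxProd [(39, a), (40, A), (44, B), (45, b), (46, C), (47, D)] := by
  unfold fw24 fw25 fw26 fw27 fw28 fw29 fw30 fw31 fw32 fw33 fw34 fw35 fw36 fw37 fw38 fw39 fw40 fw41 fw42 fw43 fw44 fw45 fw46 fw47 fxProd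
  simp only [fx_zero, one_mul, mul_one, List.map_cons, List.map_nil, List.prod_cons, List.prod_nil]

/-- The conjugates of `x_{39}(a) x_{45}(b)` under `U`. -/
theorem cjv (a b t24 t25 t26 t27 t28 t29 t30 t31 t32 t33 t34 t35 t36 t37 t38 t39 t40 t41 t42 t43 t44 t45 t46 t47 : K) :
    fw24 t24 t25 t26 t27 t28 t29 t30 t31 t32 t33 t34 t35 t36 t37 t38 t39 t40 t41 t42 t43 t44 t45 t46 t47 * (fx K 39 a * fx K 45 b) =
      fw24 (0) (0) (0) (0) (0) (0) (0) (0) (0) (0) (0) (0) (0) (0) (0) (a) (a * t27) (0) (0) (0) (a * t34) (b) (b * t25) (b * t24 * t25 + b * t26) *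
        fw24 t24 t25 t26 t27 t28 t29 t30 t31 t32 t33 t34 t35 t36 t37 t38 t39 t40 t41 t42 t43 t44 t45 t46 t47 := by
  have h2 := two_eq_zero' (K := K)
  apply eq_of_mul_fw24
  conv_lhs => rw [mul_assoc, mul_assoc, fw24_mul]
  conv_rhs => rw [mul_assoc, fw24_mul, fw24_mul]
  conv_lhs => rw [fl45_24, fl39_24, fl47_24, fl46_24, fl45_24, fl44_24, fl43_24, fl42_24, fl41_24, fl40_24, fl39_24, fl38_24, fl37_24, fl36_24, fl35_24, fl34_24, fl33_24, fl32_24, fl31_24, fl30_24, fl29_24, fl28_24, fl27_24, fl26_24, fl25_24, fl24_24]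
  conv_rhs => rw [fl47_24, fl46_24, fl45_24, fl44_24, fl43_24, fl42_24, fl41_24, fl40_24, fl39_24, fl38_24, fl37_24, fl36_24, fl35_24, fl34_24, fl33_24, fl32_24, fl31_24, fl30_24, fl29_24, fl28_24, fl27_24, fl26_24, fl25_24, fl24_24, fl47_24, fl46_24, fl45_24, fl44_24, fl43_24, fl42_24, fl41_24, fl40_24, fl39_24, fl38_24, fl37_24, fl36_24, fl35_24, fl34_24, fl33_24, fl32_24, fl31_24, fl30_24, fl29_24, fl28_24, fl27_24, fl26_24, fl25_24, fl24_24]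
  apply fw24_congr
  · linear_combination (0) * h2
  · linear_combination (0) * h2
  · linear_combination (0) * h2
  · linear_combination (0) * h2
  · linear_combination (0) * h2
  · linear_combination (0) * h2
  · linear_combination (0) * h2
  · linear_combination (0) * h2
  · linear_combination (0) * h2
  · linear_combination (0) * h2
  · linear_combination (0) * h2
  · linear_combination (0) * h2
  · linear_combination (0) * h2
  · linear_combination (0) * h2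
  · linear_combination (0) * h2
  · linear_combination (0) * h2
  · linear_combination ((-1) * a * t27) * h2
  · linear_combination (0) * h2
  · linear_combination (0) * h2
  · linear_combination (0) * h2
  · linear_combination ((-1) * a * t27 * t33 + (-1) * a * t34) * h2
  · linear_combination (0) * h2
  · linear_combination ((-1) * b * t25) * h2
  · linear_combination ((-1) * b * t24 * t25 + (-1) * b * t26) * h2

end Cfsg.Agent.Helper7.Chev
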