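import Mathlib
import Cfsg.Agent.Helper7.F4CentE
import Cfsg.Agent.Helper7.ChevRootCent
import Cfsg.Agent.Helper7.ChevCount

set_option autoImplicit false
set_option linter.unusedSectionVars false
set_option linter.unusedVariables false
set_option maxHeartbeats 1000000

/-!
Tools for the centralisers of the involutions `x_{47}(1) x_{44}(1)` and `x_{39}(1) x_{45}(1)` of the Chevalley
group of type `F₄` in characteristic two: tables over the Weyl group, commutation of root elements, groups
generated by root elements.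
-/

namespace Cfsg.Agent.Helper7.Chev

open Cfsg Cfsg.Lie Matrix
open scoped Pointwise

section tables

set_option maxRecDepth 1000000 in
theorem f4_cent_tab6 : ∀ σ ∈ wL_F4, 44 ≤ fastF4.reflWord σ 44 → 44 ≤ fastF4.reflWord σ 47 →
    44 ≤ fastF4.reflWord (1 :: σ) 47 → 44 ≤ fastF4.reflWord (1 :: 2 :: σ) 47 → ∀ i ∈ σ, i = 1 ∨ i = 2 := by
  decide +kernel

set_option maxRecDepth 1000000 in
theorem f4_cent_tab7 : ∀ σ ∈ wL_F4, 39 ≤ fastF4.reflWord σ 39 → 39 ≤ fastF4.reflWord σ 45 →
    39 ≤ fastF4.reflWord (0 :: σ) 39 → 39 ≤ fastF4.reflWord (0 :: σ) 45 → ∀ i ∈ σ, i = 0 ∨ i = 3 := by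
  decide +kernel

set_option maxRecDepth 1000000 in
theorem f4_cent_tab8 : ∀ σ ∈ wL_F4, (∀ i ∈ σ, i = 0 ∨ i = 3) → ∀ r < 48, 24 ≤ r →
    fastF4.reflWord σ r < 24 → r = 33 ∨ r = 24 := by
  decide +kernel

/-- A test for the commutation of two root elements in characteristic two. -/
def f4CommOK (r s : Fin 48) : Bool :=
  decide (r = s) ||
  (decide (s.val ≠ r.val) && decide (s.val ≠ 47 - r.val) &&
    (match fastF4.commTerms r.val s.val with
      | [] => true
      | [(q, c, 1, 1)] => decide (q < 48) && (decide (c = 2) || decide (c = -2))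
      | _ => false))

theorem f4_comm_tab1 : ∀ s : Fin 48, (24 ≤ s.val ∨ s.val = 20 ∨ s.val = 22) →
    f4CommOK 47 s = true ∧ f4CommOK 44 s = true := by
  decide +kernel

theorem f4_comm_tab2 : ∀ s : Fin 48, ((24 ≤ s.val ∧ s.val ∉ [27, 25, 34, 26]) ∨ s.val = 14 ∨ s.val = 23) →
    f4CommOK 39 s = true ∧ f4CommOK 45 s = true := by
  decide +kernel

end tables

section comm

variable {K : Type*} [Field K] [CharP K 2]

theorem fx_comm_of_ok {r s : Fin 48} (h : f4CommOK r s = true) (t u : K) :
    fx K s u * fx K r t = fx K r t * fx K s u := by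
  unfold f4CommOK at h
  rw [Bool.or_eq_true] at h
  rcases h with h | h
  · have e : r = s := of_decide_eq_true h
    subst e
    rw [fx_add, fx_add, add_comm]
  · simp only [Bool.and_eq_true, decide_eq_true_eq] at h
    obtain ⟨⟨hsr, hsn⟩, hm⟩ := h
    have hsn' : s.val ≠ chevF4.neg r.val := by rw [f4_neg_fin]; exact hsn
    split at hm
    · rename_i heq
      exact fx_swap_nil hsr hsn' (by rw [f4_commTerms_fast]; exact heq) t u
    · rename_i q c heq
      simp only [Bool.and_eq_true, Bool.or_eq_true, decide_eq_true_eq] at hm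
      obtain ⟨hq, hc⟩ := hm
      have := fx_swap_single (q := ⟨q, hq⟩) hsr hsn' (by rw [f4_commTerms_fast]; exact heq) t u
      rw [this, cast_even_char2 hc, zero_mul, zero_mul, fx_zero, mul_one]
    · exact absurd hm (by simp)

end comm

section gens

variable {D : ChevalleyDatum} {F : Type*} [Field F]

theorem rootGen_or (P Q : ℕ → Prop) :
    rootGen D F (fun s => P s ∨ Q s) = rootGen D F P ∪ rootGen D F Q := by
  ext x
  constructor
  · rintro ⟨s, t, hs | hs, hx⟩
    · exact Or.inl ⟨s, t, hs, hx⟩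
    · exact Or.inr ⟨s, t, hs, hx⟩
  · rintro (⟨s, t, hs, hx⟩ | ⟨s, t, hs, hx⟩)
    · exact ⟨s, t, Or.inl hs, hx⟩
    · exact ⟨s, t, Or.inr hs, hx⟩

theorem closure_rootGen_or (P Q : ℕ → Prop) :
    Subgroup.closure (rootGen D F (fun s => P s ∨ Q s)) =
      Subgroup.closure (rootGen D F P) ⊔ Subgroup.closure (rootGen D F Q) := by
  rw [rootGen_or, Subgroup.closure_union]

theorem rootSubgroup_eq_closure (r : ℕ) :
    D.rootSubgroup F r = Subgroup.closure (rootGen D F (fun s => s = r)) := by
  unfold ChevalleyDatum.rootSubgroup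
  congr 1
  ext x
  constructor
  · rintro ⟨t, hx⟩
    exact ⟨r, t, rfl, hx⟩
  · rintro ⟨s, t, rfl, hx⟩
    exact ⟨t, hx⟩

theorem closure_rootGen_mono {P Q : ℕ → Prop} (h : ∀ s, P s → Q s) :
    Subgroup.closure (rootGen D F P) ≤ Subgroup.closure (rootGen D F Q) := by
  apply Subgroup.closure_mono
  rintro x ⟨s, t, hs, hx⟩
  exact ⟨s, t, h s hs, hx⟩

theorem minusGen_closure_le_pos (w : List ℕ) :
    Subgroup.closure (minusGen D F w) ≤ D.posUnipotent F := by
  apply Subgroup.closure_mono
  rintro x ⟨r, t, hr, _, hx⟩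
  exact ⟨r, t, hr, hx⟩

variable (hG : Good2 D)

include hG in
theorem closure_rootGen_le_group {P : ℕ → Prop} (hP : ∀ s, P s → s < D.nroots) :
    Subgroup.closure (rootGen D F P) ≤ D.group F := by
  rw [Subgroup.closure_le]
  rintro x ⟨s, t, hs, hx⟩
  rw [eq_xGL hG.toGood1 (hP s hs) hx]
  exact xGL_mem_group hG (hP s hs) t

/-- The elements `n_w` of words in fundamental reflections whose root elements belong to a set of generators. -/
theorem nWordGL_mem_rootGen {P : ℕ → Prop} {w : List ℕ}
    (hw : ∀ i ∈ w, i < D.rank ∧ P (D.simple i) ∧ P (D.neg (D.simple i))) :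
    (nWordGL hG w : GL D.Idx F) ∈ Subgroup.closure (rootGen D F P) := by
  induction w with
  | nil => rw [nWordGL_nil]; exact one_mem _
  | cons i w ih =>
    obtain ⟨hi, hp, hn⟩ := hw i List.mem_cons_self
    rw [nWordGL_cons hG hi]
    refine mul_mem ?_ (ih fun j hj => hw j (List.mem_cons_of_mem _ hj))
    apply wordMat_mem_closure hG.toGood1 _ (D.nWord (D.simple i) (1 : F)) _ (nGL_coe hG.toGood1 _)
    intro p hp'
    unfold ChevalleyDatum.nWord at hp'
    simp only [List.mem_cons, List.not_mem_nil, or_false] at hp'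
    rcases hp' with rfl | rfl | rfl
    · exact hp
    · exact hn
    · exact hp

include hG in
/-- A torus element whose parameters are trivial outside a list of fundamental roots whose root elements
belong to a set of generators. -/
theorem tGL_mem_rootGen {P : ℕ → Prop} (c : Fin D.rank → Fˣ) (L : List ℕ)
    (hL : ∀ i ∈ L, i < D.rank ∧ P (D.simple i) ∧ P (D.neg (D.simple i)))
    (hent : tEntry D (List.range D.rank) (extc D.rank c) = tEntry D L (extc D.rank c)) :
    (tGL c : GL D.Idx F) ∈ Subgroup.closure (rootGen D F P) := by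
  have hG1 := hG.toGood1
  have hLlt : ∀ i ∈ L, i < D.rank := fun i hi => (hL i hi).1
  have hprod : (tGL c : GL D.Idx F) = (L.map (hS hG1 (extu D.rank c))).prod := by
    apply Units.ext
    rw [tGL_coe, prod_hS_coe hG1 _ _ hLlt]
    unfold tMat
    congr 1
    have hfun : (fun i => ((extu D.rank c i : Fˣ) : F)) = extc D.rank c := by
      funext i; exact extu_coe c i
    rw [hfun, hent]
  rw [hprod]
  apply Subgroup.list_prod_mem
  intro x hx
  rw [List.mem_map] at hx
  obtain ⟨i, hi, rfl⟩ := hx
  obtain ⟨hilt, hp, hn⟩ := hL i hi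
  apply wordMat_mem_closure hG1 _ (D.hWord (D.simple i) ((extu D.rank c i : Fˣ) : F)) _
    (hS_coe hG1 _ hilt)
  intro p hp'
  unfold ChevalleyDatum.hWord ChevalleyDatum.nWord at hp'
  simp only [List.mem_append, List.mem_cons, List.not_mem_nil, or_false] at hp'
  rcases hp' with (rfl | rfl | rfl) | (rfl | rfl | rfl)
  · exact hp
  · exact hn
  · exact hp
  · exact hp
  · exact hn
  · exact hp

end gens

end Cfsg.Agent.Helper7.Chev
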