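import Mathlib
import Cfsg.Agent.Helper7.F4CentF

set_option autoImplicit false
set_option linter.unusedSectionVars false
set_option linter.unusedVariables false
set_option maxHeartbeats 1000000

/-!
The centralisers of the involutions `x_{47}(1) x_{44}(1)` and `x_{39}(1) x_{45}(1)` of the Chevalley group of type
`F₄` in characteristic two.
-/

namespace Cfsg.Agent.Helper7.Chev

open Cfsg Cfsg.Lie Matrix
open scoped Pointwise

variable {K : Type*} [Field K] [CharP K 2]

/-- The normal form of an element centralising `x`. -/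
theorem f4_cent_cell {x g : GL chevF4.Idx K} (hgG : g ∈ chevF4.group K) (hc : g * x * g⁻¹ = x) :
    ∃ σ ∈ wL_F4, ∃ u ∈ chevF4.posUnipotent K, ∃ h ∈ chevF4.diagonalSubgroup K,
      ∃ u' ∈ Subgroup.closure (minusGen chevF4 K σ),
        g = u * h * nWordGL good3_F4.toGood2 σ * u' ∧
        nWordGL good3_F4.toGood2 σ * (u' * x * u'⁻¹) * (nWordGL good3_F4.toGood2 σ)⁻¹ =
          (u * h)⁻¹ * x * (u * h) := by
  obtain ⟨σ, hσ, b, hb, u', hu', e⟩ := exists_normal_form good3_F4.toGood2 T0_F4 good3_F4.t3 good3_F4.t4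
    T5_F4 T6_F4 T8_F4 T9_F4 wList_F4 hgG
  obtain ⟨u, hu, h, hh, rfl⟩ := borel_decomp good3_F4.toGood2 hb
  refine ⟨σ, hσ, u, hu, h, hh, u', hu', e, ?_⟩
  conv_rhs => rw [← hc, e]
  group

/-- The conjugates under `N` of a group generated by root subgroups. -/
theorem conj_rootList_mem_Uge {w : List ℕ} (hw : ∀ i ∈ w, i < chevF4.rank) {S : List ℕ} {k : ℕ}
    (hS : ∀ s ∈ S, s < 48 ∧ k ≤ fastF4.reflWord w s) {x : GL chevF4.Idx K}
    (hx : x ∈ Subgroup.closure (rootGen chevF4 K (fun s => s ∈ S))) :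
    nWordGL good3_F4.toGood2 w * x * (nWordGL good3_F4.toGood2 w)⁻¹ ∈ Uge chevF4 K k := by
  induction hx using Subgroup.closure_induction with
  | mem y hy =>
    obtain ⟨s, t, hs, hy⟩ := hy
    obtain ⟨hlt, hk⟩ := hS s hs
    have e : y = fx K ⟨s, hlt⟩ t := eq_xGL good3_F4.toGood1 hlt hy
    rw [e, conj_fx_img hw]
    exact fx_mem_Uge _ (by rw [f4Img_val hw]; exact hk) _
  | one =>
    rw [mul_one, mul_inv_cancel]
    exact one_mem _
  | mul a b _ _ ha hb =>
    rw [conj_mul2]
    exact mul_mem ha hb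
  | inv a _ ha =>
    have e : nWordGL good3_F4.toGood2 w * a⁻¹ * (nWordGL good3_F4.toGood2 w)⁻¹ =
        (nWordGL good3_F4.toGood2 w * a * (nWordGL good3_F4.toGood2 w)⁻¹)⁻¹ := by group
    rw [e]
    exact inv_mem ha

/-- Conjugation of a root element by a torus element. -/
theorem tGL_mul_fx (c : Fin chevF4.rank → Kˣ) (r : Fin 48) (t : K) :
    tGL c * fx K r t = fx K r (((List.range chevF4.rank).map
      (fun i => extc chevF4.rank c i ^ chevF4.cartan i r.val)).prod * t) * tGL c := by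
  apply Units.ext
  rw [Units.val_mul, Units.val_mul, tGL_coe, fx_coe, fx_coe]
  exact tMat_mul_x good3_F4.toGood2 _ (fun i _ => extc_ne_zero c i) r.2 t

theorem f4_range_rank : List.range chevF4.rank = [0, 1, 2, 3] := by decide

theorem f4_cartan_vals :
    (chevF4.cartan 0 44 = 1 ∧ chevF4.cartan 1 44 = 0 ∧ chevF4.cartan 2 44 = 0 ∧ chevF4.cartan 3 44 = 0) ∧
    (chevF4.cartan 0 47 = 0 ∧ chevF4.cartan 1 47 = 0 ∧ chevF4.cartan 2 47 = 0 ∧ chevF4.cartan 3 47 = 1) ∧
    (chevF4.cartan 0 39 = 0 ∧ chevF4.cartan 1 39 = -1 ∧ chevF4.cartan 2 39 = 1 ∧ chevF4.cartan 3 39 = 0) ∧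
    (chevF4.cartan 0 45 = 0 ∧ chevF4.cartan 1 45 = 2 ∧ chevF4.cartan 2 45 = -1 ∧ chevF4.cartan 3 45 = 0) := by
  decide +kernel

theorem tGL_mul_fx44 (c : Fin chevF4.rank → Kˣ) (t : K) :
    tGL c * fx K 44 t = fx K 44 (extc chevF4.rank c 0 * t) * tGL c := by
  obtain ⟨⟨h0, h1, h2, h3⟩, -⟩ := f4_cartan_vals
  rw [tGL_mul_fx]
  change _ = fx K 44 _ * _
  congr 2
  simp only [f4_range_rank, List.map_cons, List.map_nil, List.prod_cons, List.prod_nil]
  change _ ^ chevF4.cartan 0 44 * (_ ^ chevF4.cartan 1 44 * (_ ^ chevF4.cartan 2 44 * (_ ^ chevF4.cartan 3 44 * 1))) * t = _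
  rw [h0, h1, h2, h3]
  simp only [zpow_one, zpow_zero, mul_one]

theorem tGL_mul_fx47 (c : Fin chevF4.rank → Kˣ) (t : K) :
    tGL c * fx K 47 t = fx K 47 (extc chevF4.rank c 3 * t) * tGL c := by
  obtain ⟨-, ⟨h0, h1, h2, h3⟩, -⟩ := f4_cartan_vals
  rw [tGL_mul_fx]
  congr 2
  simp only [f4_range_rank, List.map_cons, List.map_nil, List.prod_cons, List.prod_nil]
  change _ ^ chevF4.cartan 0 47 * (_ ^ chevF4.cartan 1 47 * (_ ^ chevF4.cartan 2 47 * (_ ^ chevF4.cartan 3 47 * 1))) * t = _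
  rw [h0, h1, h2, h3]
  simp only [zpow_one, zpow_zero, mul_one, one_mul]

theorem tGL_mul_fx39 (c : Fin chevF4.rank → Kˣ) (t : K) :
    tGL c * fx K 39 t = fx K 39 ((extc chevF4.rank c 1)⁻¹ * extc chevF4.rank c 2 * t) * tGL c := by
  obtain ⟨-, -, ⟨h0, h1, h2, h3⟩, -⟩ := f4_cartan_vals
  rw [tGL_mul_fx]
  congr 2
  simp only [f4_range_rank, List.map_cons, List.map_nil, List.prod_cons, List.prod_nil]
  change _ ^ chevF4.cartan 0 39 * (_ ^ chevF4.cartan 1 39 * (_ ^ chevF4.cartan 2 39 * (_ ^ chevF4.cartan 3 39 * 1))) * t = _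
  rw [h0, h1, h2, h3]
  simp only [zpow_one, zpow_zero, mul_one, one_mul, _root_.zpow_neg]

theorem tGL_mul_fx45 (c : Fin chevF4.rank → Kˣ) (t : K) :
    tGL c * fx K 45 t = fx K 45 ((extc chevF4.rank c 1) ^ 2 * (extc chevF4.rank c 2)⁻¹ * t) * tGL c := by
  obtain ⟨-, -, -, ⟨h0, h1, h2, h3⟩⟩ := f4_cartan_vals
  rw [tGL_mul_fx]
  congr 2
  simp only [f4_range_rank, List.map_cons, List.map_nil, List.prod_cons, List.prod_nil]
  change _ ^ chevF4.cartan 0 45 * (_ ^ chevF4.cartan 1 45 * (_ ^ chevF4.cartan 2 45 * (_ ^ chevF4.cartan 3 45 * 1))) * t = _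
  rw [h0, h1, h2, h3]
  simp only [zpow_zero, mul_one, one_mul, _root_.zpow_neg, zpow_one]
  rw [show (2 : ℤ) = ((2 : ℕ) : ℤ) from rfl, zpow_natCast]

/-! ### The involution `x_{47}(1) x_{44}(1)` -/

/-- The roots whose root subgroups generate the centraliser of `x_{47}(1) x_{44}(1)`. -/
def f4P1 (s : ℕ) : Prop := chevF4.IsPosRoot s ∨ s = 20 ∨ s = 22

theorem f4P1_lt (s : ℕ) (h : f4P1 s) : s < chevF4.nroots := by
  rcases h with h | rfl | rfl
  · exact h.1
  · decide
  · decide

theorem f4P1_fin (s : Fin 48) : f4P1 s.val ↔ (24 ≤ s.val ∨ s.val = 20 ∨ s.val = 22) := by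
  unfold f4P1
  rw [f4_isPosRoot]
  constructor
  · rintro (h | h | h)
    · exact Or.inl h.1
    · exact Or.inr (Or.inl h)
    · exact Or.inr (Or.inr h)
  · rintro (h | h | h)
    · exact Or.inl ⟨h, s.2⟩
    · exact Or.inr (Or.inl h)
    · exact Or.inr (Or.inr h)

theorem fx_sparse4447 (a b : K) :
    fx K 47 a * fx K 44 b = fw24 0 0 0 0 0 0 0 0 0 0 0 0 0 0 0 0 0 0 0 0 b 0 0 a := by
  rw [fw24_sparse, fx_comm_ge39 (by decide) (by decide)]
  unfold fxProd
  simp only [fx_zero, one_mul, mul_one, List.map_cons, List.map_nil, List.prod_cons, List.prod_nil]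

theorem f4P1_le_centralizer :
    Subgroup.closure (rootGen chevF4 K f4P1) ≤ Subgroup.centralizer {fx K 47 1 * fx K 44 1} := by
  rw [Subgroup.closure_le]
  rintro x ⟨s, t, hs, hx⟩
  have hlt := f4P1_lt s hs
  have e : x = fx K ⟨s, hlt⟩ t := eq_xGL good3_F4.toGood1 hlt hx
  obtain ⟨h47, h44⟩ := f4_comm_tab1 ⟨s, hlt⟩ ((f4P1_fin ⟨s, hlt⟩).mp hs)
  rw [SetLike.mem_coe, Subgroup.mem_centralizer_iff]
  intro y hy
  rw [Set.mem_singleton_iff] at hy
  rw [hy, e, mul_assoc, ← fx_comm_of_ok h44, ← mul_assoc, ← fx_comm_of_ok h47, mul_assoc]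

/-- The centraliser of `x_{47}(1) x_{44}(1)`. -/
theorem f4_cent_4744 :
    chevF4.group K ⊓ Subgroup.centralizer {fx K 47 1 * fx K 44 1} =
      Subgroup.closure (rootGen chevF4 K f4P1) := by
  apply le_antisymm
  · intro g hg
    obtain ⟨hgG, hgC⟩ := Subgroup.mem_inf.mp hg
    set w : GL chevF4.Idx K := fx K 47 1 * fx K 44 1 with hw
    set Mg := Subgroup.closure (rootGen chevF4 K f4P1) with hMg
    have hMgC : Mg ≤ Subgroup.centralizer {w} := f4P1_le_centralizer
    have hcomm : ∀ m ∈ Subgroup.centralizer {w}, m * w = w * m := by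
      intro m hm
      exact ((Subgroup.mem_centralizer_iff.mp hm) w (Set.mem_singleton w)).symm
    have hUMg : chevF4.posUnipotent K ≤ Mg :=
      closure_rootGen_mono fun s hs => Or.inl hs
    have hc : g * w * g⁻¹ = w := by rw [hcomm g hgC]; group
    obtain ⟨σ, hσ, u, hu, h, hh, u', hu', e, hconj⟩ := f4_cent_cell hgG hc
    have hσlt := (wList_F4.ok σ hσ).1
    have hu'U : u' ∈ chevF4.posUnipotent K := minusGen_closure_le_pos σ hu'
    have e1 : u' * w * u'⁻¹ = w := by rw [hcomm u' (hMgC (hUMg hu'U))]; group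
    have e2 : (u * h)⁻¹ * w * (u * h) = h⁻¹ * w * h := by
      have := hcomm u (hMgC (hUMg hu))
      calc (u * h)⁻¹ * w * (u * h) = h⁻¹ * (u⁻¹ * (w * u)) * h := by group
        _ = h⁻¹ * (u⁻¹ * (u * w)) * h := by rw [this]
        _ = h⁻¹ * w * h := by group
    rw [e1, e2] at hconj
    set n : GL chevF4.Idx K := nWordGL good3_F4.toGood2 σ with hn
    -- the conjugate of `w` under the torus
    have hwV : w ∈ Subgroup.closure (rootGen chevF4 K (fun s => s ∈ [47, 44])) :=
      mul_mem (Subgroup.subset_closure ⟨47, 1, by simp, fx_coe 47 1⟩)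
        (Subgroup.subset_closure ⟨44, 1, by simp, fx_coe 44 1⟩)
    have hzV : h⁻¹ * w * h ∈ Subgroup.closure (rootGen chevF4 K (fun s => s ∈ [47, 44])) := by
      have hnm := diagonalSubgroup_le_normalizer (F := K) good3_F4.toGood2 (P := fun s => s ∈ [47, 44])
        (by intro r hr; simp only [List.mem_cons, List.not_mem_nil, or_false] at hr; rcases hr with rfl | rfl <;> decide)
        (inv_mem hh)
      have := (Subgroup.mem_set_normalizer_iff.mp hnm w).mp hwV
      rwa [inv_inv] at this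
    have hwL : w = fxProd [(47, 1), (44, 1)] := by
      rw [hw]
      unfold fxProd
      simp only [List.map_cons, List.map_nil, List.prod_cons, List.prod_nil, mul_one]
    have hL39 : ∀ p ∈ [((47 : Fin 48), (1 : K)), (44, 1)], 39 ≤ p.1.val := list_ge39_of_fst (by
      simp only [List.map_cons, List.map_nil]
      decide)
    have hLnd : ([((47 : Fin 48), (1 : K)), (44, 1)].map Prod.fst).Nodup := by
      simp only [List.map_cons, List.map_nil]
      decide
    -- the three conjugates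
    have hm0 : n * fxProd [(47, 1), (44, 1)] * n⁻¹ ∈ Uge chevF4 K 44 := by
      rw [← hwL, hconj]
      have := conj_rootList_mem_Uge (K := K) (w := []) (by simp) (S := [47, 44]) (k := 44) (by decide) hzV
      rwa [nWordGL_nil, one_mul, inv_one, mul_one] at this
    have hm1 : nWordGL good3_F4.toGood2 (1 :: σ) * fxProd [(47, 1), (44, 1)] *
        (nWordGL good3_F4.toGood2 (1 :: σ))⁻¹ ∈ Uge chevF4 K 44 := by
      have e3 : (nWordGL good3_F4.toGood2 (1 :: σ) : GL chevF4.Idx K) =
          nWordGL good3_F4.toGood2 [1] * n := nWordGL_append good3_F4.toGood2 [1] σ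
      have e4 : nWordGL good3_F4.toGood2 (1 :: σ) * w * (nWordGL good3_F4.toGood2 (1 :: σ))⁻¹ =
          nWordGL good3_F4.toGood2 [1] * (n * w * n⁻¹) * (nWordGL good3_F4.toGood2 [1])⁻¹ := by
        rw [e3]; group
      rw [← hwL, e4, hconj]
      exact conj_rootList_mem_Uge (K := K) (w := [1]) (by decide) (S := [47, 44]) (k := 44) (by decide) hzV
    have hm2 : nWordGL good3_F4.toGood2 (1 :: 2 :: σ) * fxProd [(47, 1), (44, 1)] *
        (nWordGL good3_F4.toGood2 (1 :: 2 :: σ))⁻¹ ∈ Uge chevF4 K 44 := by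
      have e3 : (nWordGL good3_F4.toGood2 (1 :: 2 :: σ) : GL chevF4.Idx K) =
          nWordGL good3_F4.toGood2 [1, 2] * n := nWordGL_append good3_F4.toGood2 [1, 2] σ
      have e4 : nWordGL good3_F4.toGood2 (1 :: 2 :: σ) * w * (nWordGL good3_F4.toGood2 (1 :: 2 :: σ))⁻¹ =
          nWordGL good3_F4.toGood2 [1, 2] * (n * w * n⁻¹) * (nWordGL good3_F4.toGood2 [1, 2])⁻¹ := by
        rw [e3]; group
      rw [← hwL, e4, hconj]
      exact conj_rootList_mem_Uge (K := K) (w := [1, 2]) (by decide) (S := [47, 44]) (k := 44) (by decide) hzV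
    have hlt1 : ∀ i ∈ 1 :: σ, i < chevF4.rank := by
      intro i hi
      rcases List.mem_cons.mp hi with rfl | hi
      · decide
      · exact hσlt i hi
    have hlt2 : ∀ i ∈ 1 :: 2 :: σ, i < chevF4.rank := by
      intro i hi
      rcases List.mem_cons.mp hi with rfl | hi
      · decide
      · rcases List.mem_cons.mp hi with rfl | hi
        · decide
        · exact hσlt i hi
    have key0 := conj_peel hσlt (k := 44) (by norm_num) _ hL39 hLnd hm0
    have key1 := conj_peel hlt1 (k := 44) (by norm_num) _ hL39 hLnd hm1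
    have key2 := conj_peel hlt2 (k := 44) (by norm_num) _ hL39 hLnd hm2
    have k47 := (key0 (47, 1) (by simp)).resolve_left one_ne_zero
    have k44 := (key0 (44, 1) (by simp)).resolve_left one_ne_zero
    have k47' := (key1 (47, 1) (by simp)).resolve_left one_ne_zero
    have k47'' := (key2 (47, 1) (by simp)).resolve_left one_ne_zero
    have hlet := f4_cent_tab6 σ hσ k44 k47 k47' k47''
    -- `n` belongs to the group
    have hnMg : n ∈ Mg := by
      apply nWordGL_mem_rootGen
      intro i hi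
      refine ⟨hσlt i hi, ?_⟩
      rcases hlet i hi with rfl | rfl
      · exact ⟨Or.inl ((f4_isPosRoot _).mpr (by decide)), Or.inr (Or.inl (by decide))⟩
      · exact ⟨Or.inl ((f4_isPosRoot _).mpr (by decide)), Or.inr (Or.inr (by decide))⟩
    -- the factor in the torus
    have hhC : h ∈ Subgroup.centralizer {w} := by
      have : h = u⁻¹ * g * u'⁻¹ * n⁻¹ := by rw [e]; group
      rw [this]
      exact mul_mem (mul_mem (mul_mem (inv_mem (hMgC (hUMg hu))) hgC) (inv_mem (hMgC (hUMg hu'U))))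
        (inv_mem (hMgC hnMg))
    have hhw := hcomm h hhC
    rw [e]
    refine mul_mem (mul_mem (mul_mem (hUMg hu) ?_) hnMg) (hUMg hu'U)
    rw [← torusHom_range good3_F4.toGood1] at hh
    obtain ⟨c, rfl⟩ := hh
    rw [torusHom_apply] at hhw ⊢
    have e5 : fx K 47 (extc chevF4.rank c 3 * 1) * fx K 44 (extc chevF4.rank c 0 * 1) = fx K 47 1 * fx K 44 1 := by
      have : tGL c * w = fx K 47 (extc chevF4.rank c 3 * 1) * fx K 44 (extc chevF4.rank c 0 * 1) * tGL c := by
        rw [hw, ← mul_assoc, tGL_mul_fx47, mul_assoc, tGL_mul_fx44, mul_assoc]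
      rw [hhw] at this
      exact (mul_right_cancel this).symm
    rw [fx_sparse4447, fx_sparse4447] at e5
    obtain ⟨-, -, -, -, -, -, -, -, -, -, -, -, -, -, -, -, -, -, -, -, h44, -, -, h47⟩ := fw24_inj e5
    rw [mul_one] at h44 h47
    apply tGL_mem_rootGen good3_F4.toGood2 c [1, 2]
    · intro i hi
      simp only [List.mem_cons, List.not_mem_nil, or_false] at hi
      rcases hi with rfl | rfl
      · exact ⟨by decide, Or.inl ((f4_isPosRoot _).mpr (by decide)), Or.inr (Or.inl (by decide))⟩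
      · exact ⟨by decide, Or.inl ((f4_isPosRoot _).mpr (by decide)), Or.inr (Or.inr (by decide))⟩
    · funext v
      rcases v with j | s
      · rfl
      · simp only [tEntry, Sum.elim_inr, f4_range_rank, List.map_cons, List.map_nil, List.prod_cons,
          List.prod_nil, h44, h47, _root_.one_zpow, one_mul, mul_one]
  · intro g hg
    exact Subgroup.mem_inf.mpr ⟨closure_rootGen_le_group good3_F4.toGood2 f4P1_lt hg, f4P1_le_centralizer hg⟩

/-! ### The involution `x_{39}(1) x_{45}(1)` -/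

/-- Normal forms whose coefficients at the roots `27`, `25`, `34`, `26` vanish. -/
theorem fw24_mem_sub {H : Subgroup (GL chevF4.Idx K)}
    (hmem : ∀ (r : Fin 48), 24 ≤ r.val → r.val ∉ [27, 25, 34, 26] → ∀ a : K, fx K r a ∈ H)
    (t24 t28 t29 t30 t31 t32 t33 t35 t36 t37 t38 t39 t40 t41 t42 t43 t44 t45 t46 t47 : K) :
    fw24 t24 0 0 0 t28 t29 t30 t31 t32 t33 0 t35 t36 t37 t38 t39 t40 t41 t42 t43 t44 t45 t46 t47 ∈ H := by
  unfold fw24 fw25 fw26 fw27 fw28 fw29 fw30 fw31 fw32 fw33 fw34 fw35 fw36 fw37 fw38 fw39 fw40 fw41 fw42 fw43 fw44 fw45 fw46 fw47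
  exact mul_mem (hmem 24 (by decide) (by decide) _) (mul_mem (by rw [fx_zero]; exact one_mem _) (mul_mem (by rw [fx_zero]; exact one_mem _) (mul_mem (by rw [fx_zero]; exact one_mem _) (mul_mem (hmem 28 (by decide) (by decide) _) (mul_mem (hmem 29 (by decide) (by decide) _) (mul_mem (hmem 30 (by decide) (by decide) _) (mul_mem (hmem 31 (by decide) (by decide) _) (mul_mem (hmem 32 (by decide) (by decide) _) (mul_mem (hmem 33 (by decide) (by decide) _) (mul_mem (by rw [fx_zero]; exact one_mem _) (mul_mem (hmem 35 (by decide) (by decide) _) (mul_mem (hmem 36 (by decide) (by decide) _) (mul_mem (hmem 37 (by decide) (by decide) _) (mul_mem (hmem 38 (by decide) (by decide) _) (mul_mem (hmem 39 (by decide) (by decide) _) (mul_mem (hmem 40 (by decide) (by decide) _) (mul_mem (hmem 41 (by decide) (by decide) _) (mul_mem (hmem 42 (by decide) (by decide) _) (mul_mem (hmem 43 (by decide) (by decide) _) (mul_mem (hmem 44 (by decide) (by decide) _) (mul_mem (hmem 45 (by decide)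 (by decide) _) (mul_mem (hmem 46 (by decide) (by decide) _) ((hmem 47 (by decide) (by decide) _))))))))))))))))))))))))

/-- The roots whose root subgroups generate the centraliser of `x_{39}(1) x_{45}(1)`. -/
def f4P2 (s : ℕ) : Prop := (chevF4.IsPosRoot s ∧ s ∉ [27, 25, 34, 26]) ∨ s = 14 ∨ s = 23

theorem f4P2_lt (s : ℕ) (h : f4P2 s) : s < chevF4.nroots := by
  rcases h with h | rfl | rfl
  · exact h.1.1
  · decide
  · decide

theorem f4P2_fin (s : Fin 48) :
    f4P2 s.val ↔ ((24 ≤ s.val ∧ s.val ∉ [27, 25, 34, 26]) ∨ s.val = 14 ∨ s.val = 23) := by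
  unfold f4P2
  rw [f4_isPosRoot]
  constructor
  · rintro (h | h | h)
    · exact Or.inl ⟨h.1.1, h.2⟩
    · exact Or.inr (Or.inl h)
    · exact Or.inr (Or.inr h)
  · rintro (h | h | h)
    · exact Or.inl ⟨⟨h.1, s.2⟩, h.2⟩
    · exact Or.inr (Or.inl h)
    · exact Or.inr (Or.inr h)

theorem fx_sparse3945 (a b : K) :
    fx K 39 a * fx K 45 b = fw24 0 0 0 0 0 0 0 0 0 0 0 0 0 0 0 a 0 0 0 0 0 b 0 0 := by
  rw [fw24_sparse]
  unfold fxProd
  simp only [fx_zero, one_mul, mul_one, List.map_cons, List.map_nil, List.prod_cons, List.prod_nil]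

theorem f4P2_le_centralizer :
    Subgroup.closure (rootGen chevF4 K f4P2) ≤ Subgroup.centralizer {fx K 39 1 * fx K 45 1} := by
  rw [Subgroup.closure_le]
  rintro x ⟨s, t, hs, hx⟩
  have hlt := f4P2_lt s hs
  have e : x = fx K ⟨s, hlt⟩ t := eq_xGL good3_F4.toGood1 hlt hx
  obtain ⟨h39, h45⟩ := f4_comm_tab2 ⟨s, hlt⟩ ((f4P2_fin ⟨s, hlt⟩).mp hs)
  rw [SetLike.mem_coe, Subgroup.mem_centralizer_iff]
  intro y hy
  rw [Set.mem_singleton_iff] at hy
  rw [hy, e, mul_assoc, ← fx_comm_of_ok h45, ← mul_assoc, ← fx_comm_of_ok h39, mul_assoc]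

/-- The conjugates of `x_{39}(a) x_{45}(b)` under `U`. -/
theorem conj_v_form {u : GL chevF4.Idx K} (hu : u ∈ chevF4.posUnipotent K) (a b : K) :
    ∃ A B C D : K, u * (fx K 39 a * fx K 45 b) * u⁻¹ =
      fxProd [(39, a), (40, A), (44, B), (45, b), (46, C), (47, D)] := by
  obtain ⟨t24, t25, t26, t27, t28, t29, t30, t31, t32, t33, t34, t35, t36, t37, t38, t39, t40, t41, t42, t43,
    t44, t45, t46, t47, rfl⟩ := exists_fw24 hu
  refine ⟨a * t27, a * t34, b * t25, b * t24 * t25 + b * t26, ?_⟩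
  rw [cjv, fw24_sparse]
  group

/-- The centraliser of `x_{39}(1) x_{45}(1)`. -/
theorem f4_cent_3945 :
    chevF4.group K ⊓ Subgroup.centralizer {fx K 39 1 * fx K 45 1} =
      Subgroup.closure (rootGen chevF4 K f4P2) := by
  apply le_antisymm
  · intro g hg
    obtain ⟨hgG, hgC⟩ := Subgroup.mem_inf.mp hg
    set v : GL chevF4.Idx K := fx K 39 1 * fx K 45 1 with hv
    set Mg := Subgroup.closure (rootGen chevF4 K f4P2) with hMg
    have hMgC : Mg ≤ Subgroup.centralizer {v} := f4P2_le_centralizer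
    have hcomm : ∀ m ∈ Subgroup.centralizer {v}, m * v = v * m := by
      intro m hm
      exact ((Subgroup.mem_centralizer_iff.mp hm) v (Set.mem_singleton v)).symm
    have hc : g * v * g⁻¹ = v := by rw [hcomm g hgC]; group
    obtain ⟨σ, hσ, u, hu, h, hh, u', hu', e, hconj⟩ := f4_cent_cell hgG hc
    have hσlt := (wList_F4.ok σ hσ).1
    have hu'U : u' ∈ chevF4.posUnipotent K := minusGen_closure_le_pos σ hu'
    obtain ⟨A, B, C, D, hY⟩ := conj_v_form hu'U (1 : K) 1
    rw [← hv] at hY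
    obtain ⟨A', B', C', D', hY'⟩ := conj_v_form (inv_mem hu) (1 : K) 1
    rw [← hv] at hY'
    have e2 : (u * h)⁻¹ * v * (u * h) = h⁻¹ * (u⁻¹ * v * u⁻¹⁻¹) * h := by group
    rw [hY, e2, hY'] at hconj
    set n : GL chevF4.Idx K := nWordGL good3_F4.toGood2 σ with hn
    have hyV : fxProd [(39, 1), (40, A'), (44, B'), (45, 1), (46, C'), (47, D')] ∈
        Subgroup.closure (rootGen chevF4 K (fun s => s ∈ [39, 40, 44, 45, 46, 47])) := by
      apply fxProd_mem
      intro p hp
      simp only [List.mem_cons, List.not_mem_nil, or_false] at hp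
      rcases hp with rfl | rfl | rfl | rfl | rfl | rfl <;>
        exact Subgroup.subset_closure ⟨_, _, by simp, fx_coe _ _⟩
    have hzV : h⁻¹ * fxProd [(39, 1), (40, A'), (44, B'), (45, 1), (46, C'), (47, D')] * h ∈
        Subgroup.closure (rootGen chevF4 K (fun s => s ∈ [39, 40, 44, 45, 46, 47])) := by
      have hnm := diagonalSubgroup_le_normalizer (F := K) good3_F4.toGood2
        (P := fun s => s ∈ [39, 40, 44, 45, 46, 47])
        (by
          intro r hr
          simp only [List.mem_cons, List.not_mem_nil, or_false] at hr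
          rcases hr with rfl | rfl | rfl | rfl | rfl | rfl <;> decide)
        (inv_mem hh)
      have := (Subgroup.mem_set_normalizer_iff.mp hnm _).mp hyV
      rwa [inv_inv] at this
    have hL39 : ∀ p ∈ [((39 : Fin 48), (1 : K)), (40, A), (44, B), (45, 1), (46, C), (47, D)], 39 ≤ p.1.val :=
      list_ge39_of_fst (by
        simp only [List.map_cons, List.map_nil]
        decide)
    have hLnd : ([((39 : Fin 48), (1 : K)), (40, A), (44, B), (45, 1), (46, C), (47, D)].map Prod.fst).Nodup := by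
      simp only [List.map_cons, List.map_nil]
      decide
    have hm0 : n * fxProd [(39, 1), (40, A), (44, B), (45, 1), (46, C), (47, D)] * n⁻¹ ∈ Uge chevF4 K 39 := by
      rw [hconj]
      have := conj_rootList_mem_Uge (K := K) (w := []) (by simp) (S := [39, 40, 44, 45, 46, 47]) (k := 39)
        (by decide) hzV
      rwa [nWordGL_nil, one_mul, inv_one, mul_one] at this
    have hm1 : nWordGL good3_F4.toGood2 (0 :: σ) * fxProd [(39, 1), (40, A), (44, B), (45, 1), (46, C), (47, D)] *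
        (nWordGL good3_F4.toGood2 (0 :: σ))⁻¹ ∈ Uge chevF4 K 39 := by
      have e3 : (nWordGL good3_F4.toGood2 (0 :: σ) : GL chevF4.Idx K) =
          nWordGL good3_F4.toGood2 [0] * n := nWordGL_append good3_F4.toGood2 [0] σ
      have e4 : ∀ y : GL chevF4.Idx K,
          nWordGL good3_F4.toGood2 (0 :: σ) * y * (nWordGL good3_F4.toGood2 (0 :: σ))⁻¹ =
          nWordGL good3_F4.toGood2 [0] * (n * y * n⁻¹) * (nWordGL good3_F4.toGood2 [0])⁻¹ := by
        intro y
        rw [e3]; group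
      rw [e4, hconj]
      exact conj_rootList_mem_Uge (K := K) (w := [0]) (by decide) (S := [39, 40, 44, 45, 46, 47]) (k := 39)
        (by decide) hzV
    have hlt1 : ∀ i ∈ 0 :: σ, i < chevF4.rank := by
      intro i hi
      rcases List.mem_cons.mp hi with rfl | hi
      · decide
      · exact hσlt i hi
    have key0 := conj_peel hσlt (k := 39) (by norm_num) _ hL39 hLnd hm0
    have key1 := conj_peel hlt1 (k := 39) (by norm_num) _ hL39 hLnd hm1
    have k39 := (key0 (39, 1) (by simp)).resolve_left one_ne_zero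
    have k45 := (key0 (45, 1) (by simp)).resolve_left one_ne_zero
    have k39' := (key1 (39, 1) (by simp)).resolve_left one_ne_zero
    have k45' := (key1 (45, 1) (by simp)).resolve_left one_ne_zero
    have hlet := f4_cent_tab7 σ hσ k39 k45 k39' k45'
    have hnMg : n ∈ Mg := by
      apply nWordGL_mem_rootGen
      intro i hi
      refine ⟨hσlt i hi, ?_⟩
      rcases hlet i hi with rfl | rfl
      · exact ⟨Or.inl ⟨(f4_isPosRoot _).mpr (by decide), by decide⟩, Or.inr (Or.inl (by decide))⟩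
      · exact ⟨Or.inl ⟨(f4_isPosRoot _).mpr (by decide), by decide⟩, Or.inr (Or.inr (by decide))⟩
    have hu'Mg : u' ∈ Mg := by
      have hle : Subgroup.closure (minusGen chevF4 K σ) ≤ Mg := by
        apply Subgroup.closure_mono
        rintro x ⟨r, t, hr, hneg, hx⟩
        refine ⟨r, t, ?_, hx⟩
        obtain ⟨h24, h48⟩ := (f4_isPosRoot r).mp hr
        rw [tab_F4] at hneg
        have hneg' : fastF4.reflWord σ r < 24 := hneg
        rcases f4_cent_tab8 σ hσ hlet r h48 h24 hneg' with rfl | rfl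
        · exact Or.inl ⟨hr, by decide⟩
        · exact Or.inl ⟨hr, by decide⟩
      exact hle hu'
    have hbC : u * h ∈ Subgroup.centralizer {v} := by
      have : u * h = g * u'⁻¹ * n⁻¹ := by rw [e]; group
      rw [this]
      exact mul_mem (mul_mem hgC (inv_mem (hMgC hu'Mg))) (inv_mem (hMgC hnMg))
    have hbv := hcomm _ hbC
    rw [e]
    refine mul_mem (mul_mem ?_ hnMg) hu'Mg
    rw [← torusHom_range good3_F4.toGood1] at hh
    obtain ⟨c, rfl⟩ := hh
    rw [torusHom_apply] at hbv ⊢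
    obtain ⟨t24, t25, t26, t27, t28, t29, t30, t31, t32, t33, t34, t35, t36, t37, t38, t39, t40, t41, t42, t43, t44, t45, t46, t47, rfl⟩ := exists_fw24 hu
    have hx1 : extc chevF4.rank c 1 ≠ 0 := extc_ne_zero c 1
    have hx2 : extc chevF4.rank c 2 ≠ 0 := extc_ne_zero c 2
    have e5 : tGL c * v = fx K 39 ((extc chevF4.rank c 1)⁻¹ * extc chevF4.rank c 2 * 1) *
        fx K 45 ((extc chevF4.rank c 1) ^ 2 * (extc chevF4.rank c 2)⁻¹ * 1) * tGL c := by
      rw [hv, ← mul_assoc, tGL_mul_fx39, mul_assoc (fx K 39 _), tGL_mul_fx45, ← mul_assoc]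
    have e6 : fw24 t24 t25 t26 t27 t28 t29 t30 t31 t32 t33 t34 t35 t36 t37 t38 t39 t40 t41 t42 t43 t44 t45 t46 t47 * tGL c * v =
        fw24 t24 t25 t26 t27 t28 t29 t30 t31 t32 t33 t34 t35 t36 t37 t38 t39 t40 t41 t42 t43 t44 t45 t46 t47 * (fx K 39 ((extc chevF4.rank c 1)⁻¹ * extc chevF4.rank c 2 * 1) *
          fx K 45 ((extc chevF4.rank c 1) ^ 2 * (extc chevF4.rank c 2)⁻¹ * 1)) * tGL c := by
      rw [mul_assoc, e5]
      group
    rw [e6, cjv, mul_assoc] at hbv
    have e7 := mul_right_cancel hbv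
    rw [hv, fx_sparse3945] at e7
    obtain ⟨-, -, -, -, -, -, -, -, -, -, -, -, -, -, -, h39, h40, -, -, -, h44, h45, h46, h47⟩ := fw24_inj e7
    rw [h39] at h40 h44
    rw [h45] at h46 h47
    rw [one_mul] at h40 h44 h46
    subst h40 h44 h46
    rw [one_mul, mul_zero, zero_add, one_mul] at h47
    subst h47
    have hc12 : extc chevF4.rank c 2 = extc chevF4.rank c 1 := by
      calc extc chevF4.rank c 2
          = extc chevF4.rank c 1 * ((extc chevF4.rank c 1)⁻¹ * extc chevF4.rank c 2 * 1) := by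
            field_simp
        _ = extc chevF4.rank c 1 := by rw [h39, mul_one]
    have hc1 : extc chevF4.rank c 1 = 1 := by
      rw [hc12] at h45
      calc extc chevF4.rank c 1
          = (extc chevF4.rank c 1) ^ 2 * (extc chevF4.rank c 1)⁻¹ * 1 := by field_simp
        _ = 1 := h45
    have hc2 : extc chevF4.rank c 2 = 1 := by rw [hc12, hc1]
    refine mul_mem ?_ ?_
    · apply fw24_mem_sub
      intro r hr hn a
      exact Subgroup.subset_closure ⟨r.val, a, Or.inl ⟨(f4_isPosRoot _).mpr ⟨hr, r.2⟩, hn⟩, fx_coe r a⟩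
    · apply tGL_mem_rootGen good3_F4.toGood2 c [0, 3]
      · intro i hi
        simp only [List.mem_cons, List.not_mem_nil, or_false] at hi
        rcases hi with rfl | rfl
        · exact ⟨by decide, Or.inl ⟨(f4_isPosRoot _).mpr (by decide), by decide⟩, Or.inr (Or.inl (by decide))⟩
        · exact ⟨by decide, Or.inl ⟨(f4_isPosRoot _).mpr (by decide), by decide⟩, Or.inr (Or.inr (by decide))⟩
      · funext x
        rcases x with j | s
        · rfl
        · simp only [tEntry, Sum.elim_inr, f4_range_rank, List.map_cons, List.map_nil, List.prod_cons,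
            List.prod_nil, hc1, hc2, _root_.one_zpow, one_mul, mul_one]
  · intro g hg
    exact Subgroup.mem_inf.mpr ⟨closure_rootGen_le_group good3_F4.toGood2 f4P2_lt hg, f4P2_le_centralizer hg⟩

/-! ### The generated groups in the terms of the root subgroups -/

omit [CharP K 2] in
theorem f4P1_closure_eq :
    Subgroup.closure (rootGen chevF4 K f4P1) =
      chevF4.posUnipotent K ⊔ chevF4.rootSubgroup K 20 ⊔ chevF4.rootSubgroup K 22 := by
  change Subgroup.closure (rootGen chevF4 K (fun s => chevF4.IsPosRoot s ∨ (s = 20 ∨ s = 22))) = _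
  rw [closure_rootGen_or, closure_rootGen_or, ← rootSubgroup_eq_closure, ← rootSubgroup_eq_closure,
    ← sup_assoc]
  rfl

omit [CharP K 2] in
theorem rootSubgroup_le_closure_rootGen {P : ℕ → Prop} {r : ℕ} (hr : P r) :
    chevF4.rootSubgroup K r ≤ Subgroup.closure (rootGen chevF4 K P) := by
  unfold ChevalleyDatum.rootSubgroup
  apply Subgroup.closure_mono
  rintro x ⟨t, hx⟩
  exact ⟨r, t, hr, hx⟩

omit [CharP K 2] in
theorem f4P2_closure_eq :
    Subgroup.closure (rootGen chevF4 K f4P2) =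
      chevF4.rootSubgroup K 33 ⊔ chevF4.rootSubgroup K 14 ⊔ chevF4.rootSubgroup K 24 ⊔
        chevF4.rootSubgroup K 23 ⊔
        Subgroup.closure {g : GL chevF4.Idx K | ∃ (r : ℕ) (c : K), chevF4.IsPosRoot r ∧
          r ∉ [27, 25, 34, 26] ∧ (g : Matrix chevF4.Idx chevF4.Idx K) = chevF4.x K r c} := by
  apply le_antisymm
  · rw [Subgroup.closure_le]
    rintro x ⟨s, t, hs, hx⟩
    rcases hs with ⟨hp, hn⟩ | rfl | rfl
    · exact (le_sup_right : Subgroup.closure _ ≤ _) (Subgroup.subset_closure ⟨s, t, hp, hn, hx⟩)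
    · have : x ∈ chevF4.rootSubgroup K 14 := Subgroup.subset_closure ⟨t, hx⟩
      exact (le_sup_of_le_left (le_sup_of_le_left (le_sup_of_le_left le_sup_right)) :
        chevF4.rootSubgroup K 14 ≤ _) this
    · have : x ∈ chevF4.rootSubgroup K 23 := Subgroup.subset_closure ⟨t, hx⟩
      exact (le_sup_of_le_left le_sup_right : chevF4.rootSubgroup K 23 ≤ _) this
  · refine sup_le (sup_le (sup_le (sup_le ?_ ?_) ?_) ?_) ?_
    · exact rootSubgroup_le_closure_rootGen (Or.inl ⟨(f4_isPosRoot _).mpr (by decide), by decide⟩)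
    · exact rootSubgroup_le_closure_rootGen (Or.inr (Or.inl rfl))
    · exact rootSubgroup_le_closure_rootGen (Or.inl ⟨(f4_isPosRoot _).mpr (by decide), by decide⟩)
    · exact rootSubgroup_le_closure_rootGen (Or.inr (Or.inr rfl))
    · apply Subgroup.closure_mono
      rintro x ⟨r, c, hp, hn, hx⟩
      exact ⟨r, c, Or.inl ⟨hp, hn⟩, hx⟩

end Cfsg.Agent.Helper7.Chev
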