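import Mathlib
import Cfsg.Agent.Helper7.F4CentG

set_option autoImplicit false
set_option linter.unusedSectionVars false
set_option linter.unusedVariables false
set_option maxHeartbeats 1000000

/-!
Bruhat cells in normal form: the cell of a product `b n_v b'`, of an inverse and of a conjugate by a fundamental
reflection; a conjugate of a given element in a cell of maximal length.
-/

namespace Cfsg.Agent.Helper7.Chev

open Cfsg Cfsg.Lie Matrix DoubleCoset
open scoped Pointwise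

variable {D : ChevalleyDatum} {F : Type*} [Field F]

/-- The element lies in the Bruhat cell of the word, in normal form. -/
def InCell (hG : Good2 D) (F : Type*) [Field F] (g : GL D.Idx F) (w : List ℕ) : Prop :=
  ∃ b ∈ D.borelSubgroup F, ∃ u ∈ Subgroup.closure (minusGen D F w), g = b * nWordGL hG w * u

section cells

variable (hG : Good2 D) (hT : T0 D) (h3 : (tabOf D).T3) (h4 : (tabOf D).T4 60) (h5 : (tabOf D).T5)
  (h6 : (tabOf D).T6) (h8 : (tabOf D).T8) (h9 : (tabOf D).T9)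
  {W : List (List ℕ)} (hW : WList D W)

include hG hT h3 h4 h5 h6 h8 h9 hW in
theorem inCell_exists {g : GL D.Idx F} (hg : g ∈ D.group F) : ∃ w ∈ W, InCell hG F g w := by
  obtain ⟨w, hw, b, hb, u, hu, e⟩ := exists_normal_form hG hT h3 h4 h5 h6 h8 h9 hW hg
  exact ⟨w, hw, b, hb, u, hu, e⟩

include hG hT h3 h4 h5 h6 h8 h9 hW in
theorem inCell_unique {g : GL D.Idx F} {w w' : List ℕ} (hw : w ∈ W) (hw' : w' ∈ W)
    (h : InCell hG F g w) (h' : InCell hG F g w') : w = w' := by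
  obtain ⟨b, hb, u, hu, e⟩ := h
  obtain ⟨b', hb', u', hu', e'⟩ := h'
  exact (normal_form_unique hG hT h3 h4 h5 h6 h8 h9 hW hw hw' hb hb' hu hu' (e.symm.trans e')).1

include hG hT h3 h4 h5 h6 h8 h9 hW in
/-- The cell of `b₁ n_v b₂`. -/
theorem inCell_of_mem {g b₁ b₂ : GL D.Idx F} {v : List ℕ} (hv : ∀ i ∈ v, i < D.rank)
    (hb₁ : b₁ ∈ D.borelSubgroup F) (hb₂ : b₂ ∈ D.borelSubgroup F) (e : g = b₁ * nWordGL hG v * b₂) :
    ∃ w ∈ W, (∀ r < D.nroots, (tabOf D).reflWord w r = (tabOf D).reflWord v r) ∧ InCell hG F g w := by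
  have hHB : D.diagonalSubgroup F ≤ D.borelSubgroup F := le_sup_right
  obtain ⟨w, hwW, h₀, hh₀, e₀⟩ := exists_rep_word (F := F) hG hT h6 h8 hW v hv
  obtain ⟨hw, hpp⟩ := hW.ok w hwW
  have hnN : (nWordGL hG w : GL D.Idx F) ∈ D.monomialSubgroup F := nWordGL_mem hG w
  have hnNorm := monomialSubgroup_le_normalizer hG hnN
  have hmul := Subgroup.coe_mul_of_left_le_normalizer_right (D.diagonalSubgroup F)
    (D.posUnipotent F) (diagonalSubgroup_le_normalizer_pos hG)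
  obtain ⟨h₂, hh₂, u₂, hu₂, e₂⟩ : b₂ ∈ (D.diagonalSubgroup F : Set (GL D.Idx F)) *
      (D.posUnipotent F : Set (GL D.Idx F)) := by
    rw [← hmul, sup_comm]; exact hb₂
  obtain ⟨b, hb, u', hu', e₃⟩ :=
    nWordGL_mul_mem (F := F) hG hT h3 h4 h5 h6 w.length w rfl hw hpp u₂ hu₂
  refine ⟨w, hwW, ?_, b₁ * h₀ * (nWordGL hG w * h₂ * (nWordGL hG w)⁻¹) * b, ?_, u', hu', ?_⟩
  · have e₄ : (nWordGL hG v : GL D.Idx F) =
        nWordGL hG w * ((nWordGL hG w)⁻¹ * h₀ * nWordGL hG w) := by rw [e₀]; group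
    exact reflWord_eq_of_nWordGL_eq hG hT h8 hw hv (conj_mem_diagonal' hnNorm hh₀) e₄
  · exact mul_mem (mul_mem (mul_mem hb₁ (hHB hh₀)) (hHB (conj_mem_diagonal hnNorm hh₂))) hb
  · rw [e, ← e₂, e₀]
    calc b₁ * (h₀ * nWordGL hG w) * (h₂ * u₂)
        = b₁ * h₀ * (nWordGL hG w * h₂ * (nWordGL hG w)⁻¹) * (nWordGL hG w * u₂) := by group
      _ = b₁ * h₀ * (nWordGL hG w * h₂ * (nWordGL hG w)⁻¹) * (b * nWordGL hG w * u') := by rw [e₃]
      _ = _ := by group

include hG hT h3 h4 h5 h6 h8 h9 hW in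
/-- The cell of the inverse. -/
theorem inCell_inv {g : GL D.Idx F} {w : List ℕ} (hwW : w ∈ W) (h : InCell hG F g w) :
    ∃ w' ∈ W, (∀ r < D.nroots, (tabOf D).reflWord w' r = (tabOf D).reflWord w.reverse r) ∧
      InCell hG F g⁻¹ w' := by
  have hHB : D.diagonalSubgroup F ≤ D.borelSubgroup F := le_sup_right
  have hUB : D.posUnipotent F ≤ D.borelSubgroup F := le_sup_left
  obtain ⟨b, hb, u, hu, e⟩ := h
  have hw := (hW.ok w hwW).1
  have hrev : ∀ i ∈ w.reverse, i < D.rank := fun i hi => hw i (List.mem_reverse.mp hi)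
  have hh₀ := nWordGL_reverse_mul_mem (F := F) hG hw
  set h₀ : GL D.Idx F := nWordGL hG w.reverse * nWordGL hG w with hh₀def
  have e₁ : g⁻¹ = (u⁻¹ * h₀⁻¹) * nWordGL hG w.reverse * b⁻¹ := by
    rw [e, hh₀def]; group
  exact inCell_of_mem hG hT h3 h4 h5 h6 h8 h9 hW hrev
    (mul_mem (inv_mem (hUB (minusGen_closure_le_pos w hu))) (inv_mem (hHB hh₀))) (inv_mem hb) e₁

include hG hT h3 h4 h5 h6 h8 h9 hW in
/-- The cell of the conjugate by a fundamental reflection, when the length goes up by two. -/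
theorem inCell_conj_simple {g : GL D.Idx F} {w : List ℕ} (hwW : w ∈ W) (h : InCell hG F g w) {i : ℕ}
    (hi : i < D.rank) (hpos1 : D.nroots / 2 ≤ (tabOf D).reflWord w.reverse (D.simple i))
    (hpos2 : D.nroots / 2 ≤ (tabOf D).reflWord (i :: w) (D.simple i)) :
    ∃ w' ∈ W, (∀ r < D.nroots, (tabOf D).reflWord w' r = (tabOf D).reflWord (i :: w ++ [i]) r) ∧
      InCell hG F (nGL hG.toGood1 (hG.toGood1.simple_lt hi) * g *
        (nGL hG.toGood1 (hG.toGood1.simple_lt hi))⁻¹) w' := by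
  have hG1 := hG.toGood1
  have hp := hG1.simple_lt hi
  have hHB : D.diagonalSubgroup F ≤ D.borelSubgroup F := le_sup_right
  have hUB : D.posUnipotent F ≤ D.borelSubgroup F := le_sup_left
  obtain ⟨b, hb, u, hu, e⟩ := h
  have hw := (hW.ok w hwW).1
  set ni : GL D.Idx F := nGL hG1 hp with hni
  have hiw : ∀ j ∈ i :: w, j < D.rank := by
    intro j hj
    rcases List.mem_cons.mp hj with rfl | hj
    · exact hi
    · exact hw j hj
  have hiwrev : ∀ j ∈ (i :: w).reverse, j < D.rank := fun j hj => hiw j (List.mem_reverse.mp hj)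
  have hiwi : ∀ j ∈ i :: w ++ [i], j < D.rank := by
    intro j hj
    rcases List.mem_append.mp hj with hj | hj
    · exact hiw j hj
    · rw [List.mem_singleton] at hj; rw [hj]; exact hi
  -- first step
  have s1 := mul_mem_doubleCoset_of_pos (F := F) hG hT h3 h4 h5 h6 hi (one_mem _) hw hpos1 hb
  rw [one_mul] at s1
  obtain ⟨b₁, hb₁, b₂, hb₂, e₁⟩ := mem_doubleCoset.mp s1
  -- second step, on the inverse
  have hh' := nWordGL_reverse_mul_mem (F := F) hG hiw
  set h' : GL D.Idx F := nWordGL hG (i :: w).reverse * nWordGL hG (i :: w) with hh'def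
  have einv : (nWordGL hG (i :: w) : GL D.Idx F)⁻¹ = h'⁻¹ * nWordGL hG (i :: w).reverse := by
    rw [hh'def]; group
  have hpos2' : D.nroots / 2 ≤ (tabOf D).reflWord ((i :: w).reverse).reverse (D.simple i) := by
    rw [List.reverse_reverse]; exact hpos2
  have hb₃ : (b₂ * u)⁻¹ ∈ D.borelSubgroup F :=
    inv_mem (mul_mem hb₂ (hUB (minusGen_closure_le_pos w hu)))
  have s2 := mul_mem_doubleCoset_of_pos (F := F) hG hT h3 h4 h5 h6 hi (inv_mem hh') hiwrev hpos2' hb₃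
  obtain ⟨b₄, hb₄, b₅, hb₅, e₂⟩ := mem_doubleCoset.mp s2
  have hsq := nGL_sq_mem (F := F) hG hp
  rw [← hni] at hsq
  have ecell : ni * g * ni⁻¹ =
      (b₁ * b₅⁻¹) * nWordGL hG (i :: w ++ [i]) * ((ni * ni)⁻¹ * b₄⁻¹) := by
    have ex : nWordGL hG (i :: w) * (b₂ * u) * ni⁻¹ =
        b₅⁻¹ * nWordGL hG (i :: w) * ni⁻¹ * b₄⁻¹ := by
      have e3 : (nWordGL hG (i :: w) * (b₂ * u) * ni⁻¹)⁻¹ =
          ni * (b₂ * u)⁻¹ * (h'⁻¹ * nWordGL hG (i :: w).reverse) := by
        rw [← einv]; group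
      have e4 : nWordGL hG (i :: w) * (b₂ * u) * ni⁻¹ =
          (b₄ * (ni * (h'⁻¹ * nWordGL hG (i :: w).reverse)) * b₅)⁻¹ := by
        rw [← e₂, ← e3, inv_inv]
      rw [e4, ← einv]; group
    have e5 : (nWordGL hG (i :: w ++ [i]) : GL D.Idx F) = nWordGL hG (i :: w) * ni := by
      rw [nWordGL_append, nWordGL_cons hG hi [], nWordGL_nil, mul_one]
    have e6 : ni * b * nWordGL hG w = b₁ * nWordGL hG (i :: w) * b₂ := by
      rw [e₁, nWordGL_cons hG hi]
    calc ni * g * ni⁻¹ = (ni * b * nWordGL hG w) * u * ni⁻¹ := by rw [e]; group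
      _ = b₁ * (nWordGL hG (i :: w) * (b₂ * u) * ni⁻¹) := by rw [e6]; group
      _ = b₁ * (b₅⁻¹ * nWordGL hG (i :: w) * ni⁻¹ * b₄⁻¹) := by rw [ex]
      _ = _ := by rw [e5]; group
  exact inCell_of_mem hG hT h3 h4 h5 h6 h8 h9 hW hiwi (mul_mem hb₁ (inv_mem hb₅))
    (mul_mem (inv_mem (hHB hsq)) (inv_mem hb₄)) ecell

end cells

end Cfsg.Agent.Helper7.Chev
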