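import Mathlib
import Cfsg.Agent.Helper7.ChevInvA
import Cfsg.Agent.Helper7.F4ClsA
import Cfsg.Agent.Helper7.ChevPoincare

set_option autoImplicit false
set_option linter.unusedSectionVars false
set_option linter.unusedVariables false
set_option maxHeartbeats 1000000

/-!
A conjugate of an involution of a Chevalley group lying in a Bruhat cell of maximal length lies in the cell of a
special involution of the Weyl group: one mapping each fundamental root to itself or to a negative root.
-/

namespace Cfsg.Agent.Helper7.Chev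

open Cfsg Cfsg.Lie Matrix DoubleCoset
open scoped Pointwise

variable {D : ChevalleyDatum}

theorem mem_negSet {w : List ℕ} {r : ℕ} : r ∈ negSet D w ↔
    r < D.nroots ∧ D.nroots / 2 ≤ r ∧ (tabOf D).reflWord w r < D.nroots / 2 := by
  unfold negSet
  rw [Finset.mem_filter, Finset.mem_range]

theorem nMinus_le (w : List ℕ) : nMinus D w ≤ D.nroots := by
  rw [nMinus_eq_card]
  unfold negSet
  calc _ ≤ (Finset.range D.nroots).card := Finset.card_filter_le _ _
    _ = D.nroots := Finset.card_range _

theorem nMinus_congr {w w' : List ℕ} (h : SameAct D w w') : nMinus D w = nMinus D w' := by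
  rw [nMinus_eq_card, nMinus_eq_card]
  congr 1
  ext r
  rw [mem_negSet, mem_negSet]
  constructor
  · rintro ⟨h1, h2, h3⟩
    exact ⟨h1, h2, by rw [← h r h1]; exact h3⟩
  · rintro ⟨h1, h2, h3⟩
    exact ⟨h1, h2, by rw [h r h1]; exact h3⟩

section length

variable (hG : Good2 D) (hT : T0 D) (h6 : (tabOf D).T6)

include hG hT h6 in
/-- A fundamental reflection maps the negative roots other than the negative of its root to negative roots. -/
theorem refl_neg_of_neg {i : ℕ} (hi : i < D.rank) {q : ℕ} (hq : q < D.nroots) (hneg : q < D.nroots / 2)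
    (hne : q ≠ D.neg (D.simple i)) : (tabOf D).refl (D.simple i) q < D.nroots / 2 := by
  have hG1 := hG.toGood1
  have hnq := hG1.neg_lt hq
  have h1 : D.nroots / 2 ≤ D.neg q := neg_pos_of_neg hG hT hq hneg
  have hne' : D.neg q ≠ D.simple i := by
    intro h
    apply hne
    rw [← h, hG1.neg_neg hq]
  have := (h6 i hi (D.neg q) hnq h1 hne').1
  change D.nroots / 2 ≤ (tabOf D).refl (D.simple i) (D.neg q) at this
  rw [hG.refl_neg hi hq] at this
  have h2 := neg_neg_of_pos hG hT (hG1.neg_lt (hG.refl_lt hi hq)) this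
  rwa [hG1.neg_neg (hG.refl_lt hi hq)] at h2

include hG hT h6 in
/-- Conjugating by a fundamental reflection an involution of the Weyl group mapping the fundamental root to another
positive root makes the length go up. -/
theorem nMinus_conj_lt {w : List ℕ} (hw : ∀ j ∈ w, j < D.rank) (hinv : SameAct D w.reverse w) {i : ℕ}
    (hi : i < D.rank) (hpos : D.nroots / 2 ≤ (tabOf D).reflWord w (D.simple i))
    (hne : (tabOf D).reflWord w (D.simple i) ≠ D.simple i) :
    nMinus D w < nMinus D (i :: w ++ [i]) := by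
  have hG1 := hG.toGood1
  have hp := hG1.simple_lt hi
  have hppos := simple_pos hG1 hT hi
  set a := D.simple i with ha
  set s : ℕ → ℕ := (tabOf D).refl a with hs
  have hss : ∀ r < D.nroots, s (s r) = r := fun r hr => hG.refl_refl hi hr
  have hslt : ∀ r < D.nroots, s r < D.nroots := fun r hr => hG.refl_lt hi hr
  have hww : ∀ r < D.nroots, (tabOf D).reflWord w ((tabOf D).reflWord w r) = r := by
    intro r hr
    have := reflWord_reverse_cancel hG hw hr
    rwa [hinv r hr] at this
  have hwlt : ∀ r < D.nroots, (tabOf D).reflWord w r < D.nroots := fun r hr => reflWord_lt hG hw hr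
  have hact : ∀ r, (tabOf D).reflWord (i :: w ++ [i]) r = s ((tabOf D).reflWord w (s r)) := by
    intro r
    rw [List.cons_append, reflWord_cons, reflWord_append]
    rfl
  -- the image of the set under the reflection, together with the fundamental root
  have hsub : insert a ((negSet D w).image s) ⊆ negSet D (i :: w ++ [i]) := by
    intro r hr
    rw [Finset.mem_insert] at hr
    rcases hr with rfl | hr
    · rw [mem_negSet]
      refine ⟨hp, hppos, ?_⟩
      rw [hact]
      have e1 : s a = D.neg a := refl_self a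
      rw [e1, reflWord_neg hG hw hp]
      have hwa := hwlt a hp
      have e2 : s (D.neg ((tabOf D).reflWord w a)) = D.neg (s ((tabOf D).reflWord w a)) :=
        hG.refl_neg hi hwa
      rw [e2]
      have := (h6 i hi _ hwa hpos hne).1
      exact neg_neg_of_pos hG hT (hslt _ hwa) this
    · obtain ⟨r₀, hr₀, rfl⟩ := Finset.mem_image.mp hr
      obtain ⟨h1, h2, h3⟩ := mem_negSet.mp hr₀
      have hr₀a : r₀ ≠ a := by
        intro h
        rw [h] at h3
        omega
      rw [mem_negSet]
      refine ⟨hslt _ h1, (h6 i hi r₀ h1 h2 hr₀a).1, ?_⟩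
      rw [hact, hss r₀ h1]
      apply refl_neg_of_neg hG hT h6 hi (hwlt r₀ h1) h3
      intro h
      have e : r₀ = D.neg ((tabOf D).reflWord w a) := by
        rw [← hww r₀ h1, h, reflWord_neg hG hw hp]
      have := neg_neg_of_pos hG hT (hwlt a hp) hpos
      omega
  have hnot : a ∉ (negSet D w).image s := by
    intro h
    obtain ⟨r₀, hr₀, e⟩ := Finset.mem_image.mp h
    obtain ⟨h1, h2, h3⟩ := mem_negSet.mp hr₀
    have : r₀ = D.neg a := by
      rw [← hss r₀ h1, e]
      exact refl_self a
    have := neg_neg_of_pos hG hT hp hppos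
    omega
  have hinj : Set.InjOn s (negSet D w : Set ℕ) := by
    intro r hr r' hr' e
    have h1 := (mem_negSet.mp hr).1
    have h1' := (mem_negSet.mp hr').1
    rw [← hss r h1, e, hss r' h1']
  rw [nMinus_eq_card, nMinus_eq_card]
  calc (negSet D w).card = ((negSet D w).image s).card := (Finset.card_image_of_injOn hinj).symm
    _ < (insert a ((negSet D w).image s)).card := by
      rw [Finset.card_insert_of_notMem hnot]; omega
    _ ≤ _ := Finset.card_le_card hsub

end length

section maxcell

variable {F : Type*} [Field F]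
variable (hG : Good2 D) (hT : T0 D) (h3 : (tabOf D).T3) (h4 : (tabOf D).T4 60) (h5 : (tabOf D).T5)
  (h6 : (tabOf D).T6) (h8 : (tabOf D).T8) (h9 : (tabOf D).T9)
  {W : List (List ℕ)} (hW : WList D W)

include hG hT h3 h4 h5 h6 h8 h9 hW in
/-- A conjugate in a cell of maximal length. -/
theorem exists_max_cell {t : GL D.Idx F} (ht : t ∈ D.group F) :
    ∃ g ∈ D.group F, ∃ w ∈ W, InCell hG F (g * t * g⁻¹) w ∧
      ∀ g' ∈ D.group F, ∀ w' ∈ W, InCell hG F (g' * t * g'⁻¹) w' → nMinus D w' ≤ nMinus D w := by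
  set S : Set ℕ := {k | ∃ g ∈ D.group F, ∃ w ∈ W, InCell hG F (g * t * g⁻¹) w ∧ nMinus D w = k} with hS
  have hne : S.Nonempty := by
    obtain ⟨w, hw, hc⟩ := inCell_exists (F := F) hG hT h3 h4 h5 h6 h8 h9 hW (g := 1 * t * 1⁻¹)
      (by simpa using ht)
    exact ⟨nMinus D w, 1, one_mem _, w, hw, hc, rfl⟩
  have hbdd : BddAbove S := by
    refine ⟨D.nroots, ?_⟩
    rintro k ⟨g, _, w, _, _, rfl⟩
    exact nMinus_le w
  obtain ⟨g, hg, w, hw, hc, hk⟩ := Nat.sSup_mem hne hbdd
  refine ⟨g, hg, w, hw, hc, ?_⟩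
  intro g' hg' w' hw' hc'
  rw [hk]
  exact le_csSup hbdd ⟨g', hg', w', hw', hc', rfl⟩

include hG hT h3 h4 h5 h6 h8 h9 hW in
/-- The cell of maximal length of the conjugates of an involution is that of a special involution of the Weyl
group. -/
theorem special_of_max {t g : GL D.Idx F} (ht : t ∈ D.group F) (ht2 : t * t = 1)
    (hg : g ∈ D.group F) {w : List ℕ} (hw : w ∈ W) (hc : InCell hG F (g * t * g⁻¹) w)
    (hmax : ∀ g' ∈ D.group F, ∀ w' ∈ W, InCell hG F (g' * t * g'⁻¹) w' → nMinus D w' ≤ nMinus D w) :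
    SameAct D w.reverse w ∧
      ∀ i < D.rank, (tabOf D).reflWord w (D.simple i) < D.nroots / 2 ∨
        (tabOf D).reflWord w (D.simple i) = D.simple i := by
  have hG1 := hG.toGood1
  have hwlt := (hW.ok w hw).1
  have hinv : (g * t * g⁻¹)⁻¹ = g * t * g⁻¹ := by
    have : t⁻¹ = t := inv_eq_of_mul_eq_one_left ht2
    calc (g * t * g⁻¹)⁻¹ = g * t⁻¹ * g⁻¹ := by group
      _ = _ := by rw [this]
  have h1 : SameAct D w.reverse w := by
    obtain ⟨w', hw', hrefl, hc'⟩ := inCell_inv (F := F) hG hT h3 h4 h5 h6 h8 h9 hW hw hc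
    rw [hinv] at hc'
    have := inCell_unique (F := F) hG hT h3 h4 h5 h6 h8 h9 hW hw hw' hc hc'
    subst this
    intro r hr
    exact (hrefl r hr).symm
  refine ⟨h1, ?_⟩
  intro i hi
  by_contra hcon
  rw [not_or, not_lt] at hcon
  obtain ⟨hpos, hne⟩ := hcon
  have hp := hG1.simple_lt hi
  have hpos2 : D.nroots / 2 ≤ (tabOf D).reflWord (i :: w) (D.simple i) := by
    rw [reflWord_cons]
    exact (h6 i hi _ (reflWord_lt hG hwlt hp) hpos hne).1
  obtain ⟨w'', hw'', hrefl, hc''⟩ := inCell_conj_simple (F := F) hG hT h3 h4 h5 h6 h8 h9 hW hw hc hi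
    (by rw [h1 _ hp]; exact hpos) hpos2
  set ni : GL D.Idx F := nGL hG1 hp with hni
  have hniG : ni ∈ D.group F := monomialSubgroup_le_group hG1 (nGL_mem_monomial hG hp)
  have e : ni * (g * t * g⁻¹) * ni⁻¹ = (ni * g) * t * (ni * g)⁻¹ := by group
  rw [e] at hc''
  have hle := hmax (ni * g) (mul_mem hniG hg) w'' hw'' hc''
  have hcong : nMinus D w'' = nMinus D (i :: w ++ [i]) := nMinus_congr hrefl
  have hlt := nMinus_conj_lt hG hT h6 hwlt h1 hi hpos hne
  omega

end maxcell

end Cfsg.Agent.Helper7.Chev
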