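import Mathlib
import Cfsg.Agent.Helper7.ChevInvB

set_option autoImplicit false
set_option linter.unusedSectionVars false
set_option linter.unusedVariables false
set_option maxHeartbeats 1000000

/-!
The special involutions of the Weyl group, through the images of the fundamental roots: a search over the tuples of
roots compatible with the pairing, and the determination of a word by the images of the fundamental roots.
-/

namespace Cfsg.Agent.Helper7.Chev

open Cfsg Cfsg.Lie Matrix

namespace Tab

variable (T : Tab)

/-- The test for the image of the next fundamental root, given the images of the previous ones. -/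
def tupGuard (t : List ℕ) (r : ℕ) : Bool :=
  (decide (r = T.simple t.length) || decide (r < T.n / 2)) &&
  (List.range t.length).all fun j =>
    decide (T.pairing (t.getD j 0) r = T.pairing (T.simple j) (T.simple t.length)) &&
    decide (T.pairing r (t.getD j 0) = T.pairing (T.simple t.length) (T.simple j)) &&
    decide (T.pairing (t.getD j 0) (T.simple t.length) = T.pairing (T.simple j) r) &&
    decide (T.pairing (T.simple t.length) (t.getD j 0) = T.pairing r (T.simple j))

/-- The extensions of a tuple by one root. -/
def tupExt (t : List ℕ) : List (List ℕ) :=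
  ((List.range T.n).filter (T.tupGuard t)).map fun r => t ++ [r]

/-- The tuples of length `k` passing the tests. -/
def tupSearch : ℕ → List (List ℕ)
  | 0 => [[]]
  | k + 1 => (tupSearch k).flatMap T.tupExt

end Tab

variable {D : ChevalleyDatum}

section generic

variable (hG : Good2 D) (hT : T0 D) (h6 : (tabOf D).T6) (h8 : (tabOf D).T8)

include hG in
/-- The pairing is invariant under the Weyl group. -/
theorem pairing_reflWord {w : List ℕ} (hw : ∀ i ∈ w, i < D.rank) {r s : ℕ} (hr : r < D.nroots)
    (hs : s < D.nroots) :
    (tabOf D).pairing ((tabOf D).reflWord w r) ((tabOf D).reflWord w s) = (tabOf D).pairing r s := by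
  induction w with
  | nil => rfl
  | cons i w ih =>
    have hi : i < D.rank := hw i List.mem_cons_self
    have hw' : ∀ j ∈ w, j < D.rank := fun j hj => hw j (List.mem_cons_of_mem _ hj)
    rw [reflWord_cons, reflWord_cons, pairing_refl hG hi (reflWord_lt hG hw' hr) (reflWord_lt hG hw' hs)]
    exact ih hw'

include hG hT h6 h8 in
/-- A word mapping the fundamental roots to positive roots acts trivially. -/
theorem sameAct_nil_of_simple_pos {u : List ℕ} (hu : ∀ i ∈ u, i < D.rank)
    (h : ∀ i < D.rank, D.nroots / 2 ≤ (tabOf D).reflWord u (D.simple i)) : SameAct D u [] := by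
  have hG1 := hG.toGood1
  obtain ⟨w, hw, hpp, hsame⟩ := exists_reduced hG hT h6 h8 _ u rfl hu
  rcases List.eq_nil_or_concat w with rfl | ⟨w₁, k, rfl⟩
  · exact hsame.symm
  · exfalso
    rw [List.concat_eq_append] at hw hpp hsame
    have hk : k < D.rank := hw k (by simp)
    have hw₁ : ∀ i ∈ w₁, i < D.rank := fun i hi => hw i (by simp [hi])
    have hp := hG1.simple_lt hk
    have hpos := hpp w₁ k [] (by simp)
    have e : (tabOf D).reflWord (w₁ ++ [k]) (D.simple k) = D.neg ((tabOf D).reflWord w₁ (D.simple k)) := by
      rw [reflWord_append, reflWord_cons]
      change (tabOf D).reflWord w₁ ((tabOf D).refl (D.simple k) (D.simple k)) = _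
      rw [refl_self, reflWord_neg hG hw₁ hp]
    have hlt := neg_neg_of_pos hG hT (reflWord_lt hG hw₁ hp) hpos
    have := h k hk
    rw [← hsame _ hp, e] at this
    omega

include hG hT h6 h8 in
/-- A word is determined by the images of the fundamental roots. -/
theorem sameAct_of_tuple {w X : List ℕ} (hw : ∀ i ∈ w, i < D.rank) (hX : ∀ i ∈ X, i < D.rank)
    (h : ∀ i < D.rank, (tabOf D).reflWord X ((tabOf D).reflWord w (D.simple i)) = D.simple i) :
    SameAct D w X.reverse := by
  have hG1 := hG.toGood1
  have hu : ∀ i ∈ X ++ w, i < D.rank := by
    intro i hi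
    rcases List.mem_append.mp hi with h | h
    · exact hX i h
    · exact hw i h
  have htriv : SameAct D (X ++ w) [] := by
    apply sameAct_nil_of_simple_pos hG hT h6 h8 hu
    intro i hi
    rw [reflWord_append, h i hi]
    exact simple_pos hG1 hT hi
  intro r hr
  have h1 := htriv r hr
  rw [reflWord_append] at h1
  change _ = r at h1
  have hXr : ∀ i ∈ X.reverse, i < D.rank := fun i hi => hX i (List.mem_reverse.mp hi)
  have h2 := reflWord_reverse_cancel hG hXr (reflWord_lt hG hw hr)
  rw [List.reverse_reverse, h1] at h2
  exact h2.symm

include hG in
/-- The tuple of the images of the fundamental roots under a special involution passes the tests. -/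
theorem tuple_mem_search {w : List ℕ} (hw : ∀ i ∈ w, i < D.rank) (hinv : SameAct D w.reverse w)
    (hspec : ∀ i < D.rank, (tabOf D).reflWord w (D.simple i) < D.nroots / 2 ∨
      (tabOf D).reflWord w (D.simple i) = D.simple i) :
    ∀ k ≤ D.rank, ((List.range k).map fun i => (tabOf D).reflWord w (D.simple i)) ∈ (tabOf D).tupSearch k := by
  have hG1 := hG.toGood1
  have hww : ∀ r < D.nroots, (tabOf D).reflWord w ((tabOf D).reflWord w r) = r := by
    intro r hr
    have := reflWord_reverse_cancel hG hw hr
    rwa [hinv r hr] at this
  intro k
  induction k with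
  | zero => intro _; simp [Tab.tupSearch]
  | succ k ih =>
    intro hk
    have hk' : k < D.rank := hk
    have hpk := hG1.simple_lt hk'
    rw [Tab.tupSearch, List.mem_flatMap]
    refine ⟨_, ih (by omega), ?_⟩
    unfold Tab.tupExt
    rw [List.mem_map]
    refine ⟨(tabOf D).reflWord w (D.simple k), ?_, ?_⟩
    · rw [List.mem_filter]
      refine ⟨List.mem_range.mpr (reflWord_lt hG hw hpk), ?_⟩
      unfold Tab.tupGuard
      rw [Bool.and_eq_true, List.length_map, List.length_range]
      constructor
      · rcases hspec k hk' with h | h
        · simp only [Bool.or_eq_true, decide_eq_true_eq]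
          exact Or.inr h
        · simp only [Bool.or_eq_true, decide_eq_true_eq]
          exact Or.inl h
      · rw [List.all_eq_true]
        intro j hj
        have hjk : j < k := List.mem_range.mp hj
        have hj' : j < D.rank := by omega
        have hpj := hG1.simple_lt hj'
        have eget : ((List.range k).map fun i => (tabOf D).reflWord w (D.simple i)).getD j 0 =
            (tabOf D).reflWord w (D.simple j) := by
          rw [List.getD_eq_getElem _ _ (by simp [hjk])]
          simp
        rw [eget]
        simp only [Bool.and_eq_true, decide_eq_true_eq]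
        refine ⟨⟨⟨?_, ?_⟩, ?_⟩, ?_⟩
        · exact pairing_reflWord hG hw hpj hpk
        · exact pairing_reflWord hG hw hpk hpj
        · have := pairing_reflWord hG hw (reflWord_lt hG hw hpj) hpk
          rw [hww _ hpj] at this
          exact this.symm
        · have := pairing_reflWord hG hw hpk (reflWord_lt hG hw hpj)
          rw [hww _ hpj] at this
          exact this.symm
    · rw [List.range_succ, List.map_append]
      simp

end generic

end Cfsg.Agent.Helper7.Chev
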