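import Mathlib
import Cfsg.Agent.Helper7.F4ClsA

set_option autoImplicit false
set_option linter.unusedSectionVars false
set_option linter.unusedVariables false
set_option maxHeartbeats 1000000

/-!
Type `F₄`: a conjugate of an involution in a Bruhat cell of maximal length lies in the cell of a special
involution of the Weyl group.
-/

namespace Cfsg.Agent.Helper7.Chev

open Cfsg Cfsg.Lie Matrix DoubleCoset
open scoped Pointwise

/-- The number of positive roots made negative by the word. -/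
def f4nM (w : List ℕ) : ℕ :=
  ((List.range' 24 24).filter (fun r => decide (fastF4.reflWord w r < 24))).length

theorem f4nM_congr {w w' : List ℕ} (h : ∀ r < 48, fastF4.reflWord w r = fastF4.reflWord w' r) :
    f4nM w = f4nM w' := by
  unfold f4nM
  congr 1
  apply List.filter_congr
  intro r hr
  have : r < 48 := by
    have := List.mem_range'.mp hr
    omega
  rw [h r this]

theorem f4nM_le (w : List ℕ) : f4nM w ≤ 24 := by
  unfold f4nM
  calc _ ≤ (List.range' 24 24).length := List.length_filter_le _ _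
    _ = 24 := by simp

/-- The fundamental roots of `F₄`. -/
def f4Simple (i : ℕ) : ℕ := [33, 27, 25, 24].getD i 0

theorem f4Simple_eq : ∀ i < 4, chevF4.simple i = f4Simple i := by decide

set_option maxRecDepth 1000000 in
/-- Conjugating by a fundamental reflection an involution of the Weyl group mapping the fundamental root to another
positive root makes the length go up. -/
theorem f4_cls_tab1 : ∀ w ∈ wL_F4, ∀ i < 4,
    fastF4.reflWord w.reverse (f4Simple i) = fastF4.reflWord w (f4Simple i) →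
    24 ≤ fastF4.reflWord w (f4Simple i) → fastF4.reflWord w (f4Simple i) ≠ f4Simple i →
    24 ≤ fastF4.reflWord (i :: w) (f4Simple i) ∧ f4nM w < f4nM (i :: w ++ [i]) := by
  decide +kernel

variable {K : Type*} [Field K]

/-- Cells of the Chevalley group of type `F₄`. -/
abbrev F4Cell (K : Type*) [Field K] (g : GL chevF4.Idx K) (w : List ℕ) : Prop :=
  InCell good3_F4.toGood2 K g w

theorem f4_cell_exists {g : GL chevF4.Idx K} (hg : g ∈ chevF4.group K) : ∃ w ∈ wL_F4, F4Cell K g w :=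
  inCell_exists good3_F4.toGood2 T0_F4 good3_F4.t3 good3_F4.t4 T5_F4 T6_F4 T8_F4 T9_F4 wList_F4 hg

theorem f4_cell_unique {g : GL chevF4.Idx K} {w w' : List ℕ} (hw : w ∈ wL_F4) (hw' : w' ∈ wL_F4)
    (h : F4Cell K g w) (h' : F4Cell K g w') : w = w' :=
  inCell_unique good3_F4.toGood2 T0_F4 good3_F4.t3 good3_F4.t4 T5_F4 T6_F4 T8_F4 T9_F4 wList_F4 hw hw' h h'

/-- A conjugate in a cell of maximal length. -/
theorem f4_exists_max_cell {t : GL chevF4.Idx K} (ht : t ∈ chevF4.group K) :
    ∃ g ∈ chevF4.group K, ∃ w ∈ wL_F4, F4Cell K (g * t * g⁻¹) w ∧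
      ∀ g' ∈ chevF4.group K, ∀ w' ∈ wL_F4, F4Cell K (g' * t * g'⁻¹) w' → f4nM w' ≤ f4nM w := by
  set S : Set ℕ := {k | ∃ g ∈ chevF4.group K, ∃ w ∈ wL_F4, F4Cell K (g * t * g⁻¹) w ∧ f4nM w = k} with hS
  have hne : S.Nonempty := by
    obtain ⟨w, hw, hc⟩ := f4_cell_exists (K := K) (g := 1 * t * 1⁻¹) (by simpa using ht)
    exact ⟨f4nM w, 1, one_mem _, w, hw, hc, rfl⟩
  have hbdd : BddAbove S := by
    refine ⟨24, ?_⟩
    rintro k ⟨g, _, w, _, _, rfl⟩
    exact f4nM_le w
  obtain ⟨g, hg, w, hw, hc, hk⟩ := Nat.sSup_mem hne hbdd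
  refine ⟨g, hg, w, hw, hc, ?_⟩
  intro g' hg' w' hw' hc'
  rw [hk]
  exact le_csSup hbdd ⟨g', hg', w', hw', hc', rfl⟩

/-- The cell of maximal length of the conjugates of an involution is that of a special involution of the Weyl
group. -/
theorem f4_special_of_max {t g : GL chevF4.Idx K} (ht : t ∈ chevF4.group K) (ht2 : t * t = 1)
    (hg : g ∈ chevF4.group K) {w : List ℕ} (hw : w ∈ wL_F4) (hc : F4Cell K (g * t * g⁻¹) w)
    (hmax : ∀ g' ∈ chevF4.group K, ∀ w' ∈ wL_F4, F4Cell K (g' * t * g'⁻¹) w' → f4nM w' ≤ f4nM w) :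
    (∀ r < 48, fastF4.reflWord w.reverse r = fastF4.reflWord w r) ∧
      ∀ i < 4, fastF4.reflWord w (f4Simple i) < 24 ∨ fastF4.reflWord w (f4Simple i) = f4Simple i := by
  have hG2 := good3_F4.toGood2
  have hinv : (g * t * g⁻¹)⁻¹ = g * t * g⁻¹ := by
    have : t⁻¹ = t := inv_eq_of_mul_eq_one_left ht2
    calc (g * t * g⁻¹)⁻¹ = g * t⁻¹ * g⁻¹ := by group
      _ = _ := by rw [this]
  have h1 : ∀ r < 48, fastF4.reflWord w.reverse r = fastF4.reflWord w r := by
    obtain ⟨w', hw', hrefl, hc'⟩ := inCell_inv good3_F4.toGood2 T0_F4 good3_F4.t3 good3_F4.t4 T5_F4 T6_F4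
      T8_F4 T9_F4 wList_F4 hw hc
    rw [hinv] at hc'
    have := f4_cell_unique hw hw' hc hc'
    subst this
    intro r hr
    have := hrefl r hr
    rw [tab_F4] at this
    exact this.symm
  refine ⟨h1, ?_⟩
  intro i hi
  by_contra hcon
  rw [not_or, not_lt] at hcon
  obtain ⟨hpos, hne⟩ := hcon
  have hsl : f4Simple i < 48 := by
    have : ∀ j < 4, f4Simple j < 48 := by decide
    exact this i hi
  obtain ⟨hpos2, hlen⟩ := f4_cls_tab1 w hw i hi (h1 _ hsl) hpos hne
  have hir : i < chevF4.rank := hi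
  obtain ⟨w'', hw'', hrefl, hc''⟩ := inCell_conj_simple good3_F4.toGood2 T0_F4 good3_F4.t3 good3_F4.t4 T5_F4
    T6_F4 T8_F4 T9_F4 wList_F4 hw hc hir
    (by rw [tab_F4, f4Simple_eq i hi, h1 _ hsl]; exact hpos) (by rw [tab_F4, f4Simple_eq i hi]; exact hpos2)
  set ni : GL chevF4.Idx K := nGL good3_F4.toGood1 (good3_F4.toGood1.simple_lt hir) with hni
  have hniG : ni ∈ chevF4.group K :=
    monomialSubgroup_le_group good3_F4.toGood1 (nGL_mem_monomial hG2 _)
  have e : ni * (g * t * g⁻¹) * ni⁻¹ = (ni * g) * t * (ni * g)⁻¹ := by group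
  rw [e] at hc''
  have hle := hmax (ni * g) (mul_mem hniG hg) w'' hw'' hc''
  have hcong : f4nM w'' = f4nM (i :: w ++ [i]) := by
    apply f4nM_congr
    intro r hr
    have := hrefl r hr
    rwa [tab_F4] at this
  omega

end Cfsg.Agent.Helper7.Chev
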