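import Mathlib
import Cfsg.Agent.Helper7.F4ClsB

set_option autoImplicit false
set_option linter.unusedSectionVars false
set_option linter.unusedVariables false
set_option maxHeartbeats 1000000

/-!
Type `F₄`, characteristic two: the special involutions of the Weyl group, and the shape `x h n_w` of a conjugate of
an involution lying in the cell of a special involution `w`, where `x` is a product of root elements of roots fixed
by `w`.
-/

namespace Cfsg.Agent.Helper7.Chev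

open Cfsg Cfsg.Lie Matrix DoubleCoset
open scoped Pointwise

/-- The special involutions of the Weyl group of type `F₄`: they map every fundamental root to itself or to a
negative root. -/
def f4Spec : List (List ℕ) :=
  [[],
   [0, 1, 2, 1, 0, 3, 2, 1, 0, 2, 1, 3, 2, 1, 0],
   [3, 2, 1, 0, 2, 1, 2, 3, 2, 1, 0, 2, 1, 2, 3],
   [0, 1, 2, 1, 0, 3, 2, 1, 0, 2, 1, 2, 3, 2, 1, 0, 2, 1, 2, 3],
   [0, 1, 2, 1, 0, 2, 1, 2, 3, 2, 1, 0, 2, 1, 2, 3, 2, 1, 0, 2, 1, 2],
   [1, 0, 2, 1, 0, 2, 1, 2, 3, 2, 1, 0, 2, 1, 2, 3, 2, 1, 0, 2, 1, 2],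
   [1, 0, 2, 1, 0, 2, 1, 3, 2, 1, 0, 2, 1, 2, 3, 2, 1, 0, 2, 1, 2, 3],
   [0, 1, 0, 2, 1, 0, 2, 1, 2, 3, 2, 1, 0, 2, 1, 2, 3, 2, 1, 0, 2, 1, 2],
   [0, 1, 0, 2, 1, 0, 2, 1, 3, 2, 1, 0, 2, 1, 2, 3, 2, 1, 0, 2, 1, 2, 3],
   [0, 1, 2, 1, 0, 2, 1, 2, 3, 2, 1, 0, 2, 1, 2, 3, 2, 1, 0, 2, 1, 2, 3],
   [1, 0, 2, 1, 0, 2, 1, 2, 3, 2, 1, 0, 2, 1, 2, 3, 2, 1, 0, 2, 1, 2, 3],
   [0, 1, 0, 2, 1, 0, 2, 1, 2, 3, 2, 1, 0, 2, 1, 2, 3, 2, 1, 0, 2, 1, 2, 3]]

/-- The positive roots mapped to positive roots by the word. -/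
def f4PsiP (w : List ℕ) (r : ℕ) : Bool :=
  decide (24 ≤ r) && decide (r < 48) && decide (24 ≤ fastF4.reflWord w r)

section tables

set_option maxRecDepth 1000000 in
theorem f4_cls_tab2 : ∀ w ∈ wL_F4,
    (∀ i < 4, fastF4.reflWord w (f4Simple i) < 24 ∨ fastF4.reflWord w (f4Simple i) = f4Simple i) →
    (∀ r < 48, fastF4.reflWord w.reverse r = fastF4.reflWord w r) → w ∈ f4Spec := by
  decide +kernel

theorem f4Spec_sub : ∀ w ∈ f4Spec, w ∈ wL_F4 := by decide +kernel

theorem f4_cls_tab3a : ∀ w ∈ f4Spec, ∀ r < 48, f4PsiP w r = true → fastF4.reflWord w r = r := by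
  decide +kernel

set_option synthInstance.maxSize 2000 in
set_option synthInstance.maxHeartbeats 200000 in
theorem f4_cls_tab3b : ∀ w ∈ f4Spec, ∀ r < 48, ∀ s < 48, 24 ≤ r → 24 ≤ s → s ≠ r →
    fastF4.reflWord w s < 24 →
    (fastF4.commTerms r s).all (fun c => decide (24 ≤ c.1) && decide (c.1 < 48) &&
      decide (fastF4.reflWord w c.1 < 24)) = true := by
  decide +kernel

theorem f4_cls_tab3c : ∀ w ∈ f4Spec, ∀ k < 48, f4PsiP w k = true →
    (∃ i < 4, f4Simple i = k) ∨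
    ∃ i < 4, fastF4.reflWord w (f4Simple i) = f4Simple i ∧ 24 ≤ fastF4.reflWord [i] k ∧
      fastF4.reflWord [i] k < k ∧ f4Simple i < k := by
  decide +kernel

theorem f4_cls_tab3d : ∀ w ∈ f4Spec, ∀ i < 4, fastF4.reflWord w (f4Simple i) = f4Simple i →
    ∀ r < 48, fastF4.reflWord (i :: w ++ [i]) r = fastF4.reflWord w r := by
  decide +kernel

theorem f4_cls_tab3e : ∀ w ∈ f4Spec, ∀ i < 4, fastF4.reflWord w (f4Simple i) = f4Simple i →
    f4nM w < f4nM (i :: w) := by
  decide +kernel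

theorem f4_cls_tab3g : ∀ w ∈ f4Spec, ∀ i < 4, fastF4.reflWord w (f4Simple i) = f4Simple i →
    ∀ r < 48, f4PsiP w r = true → r ≠ f4Simple i → f4PsiP w (fastF4.reflWord [i] r) = true := by
  decide +kernel

theorem f4_cls_tab3h : ∀ w ∈ f4Spec, ∀ r < 48, fastF4.reflWord w.reverse r = fastF4.reflWord w r := by
  decide +kernel

theorem f4_cls_tab3i : ∀ i < 4, fastF4.reflWord [i] (f4Simple i) < 24 ∧ 24 ≤ f4Simple i ∧ f4Simple i < 48 := by
  decide +kernel

end tables

variable {K : Type*} [Field K] [CharP K 2]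

theorem f4Spec_lt {w : List ℕ} (hw : w ∈ f4Spec) : ∀ i ∈ w, i < chevF4.rank :=
  (wList_F4.ok w (f4Spec_sub w hw)).1

/-- `U_w⁻` is normalised by the root elements of the positive roots. -/
theorem f4_minus_normal {w : List ℕ} (hw : w ∈ f4Spec) (r : Fin 48) (hr : 24 ≤ r.val) (t : K) :
    fx K r t ∈ Subgroup.normalizer (Subgroup.closure (minusGen chevF4 K w) : Set (GL chevF4.Idx K)) := by
  have hG := good3_F4.toGood2
  have hG1 := good3_F4.toGood1
  have key : ∀ (t : K) (x : GL chevF4.Idx K), x ∈ minusGen chevF4 K w →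
      (fx K r t)⁻¹ * x * fx K r t ∈ Subgroup.closure (minusGen chevF4 K w) := by
    rintro t x ⟨s, u, hspos, hsneg, hx⟩
    obtain ⟨hs24, hs48⟩ := (f4_isPosRoot s).mp hspos
    rw [eq_xGL hG1 hs48 hx]
    by_cases hsr : s = r.val
    · have e : xGL hG1 hs48 u = fx K r u := by
        unfold fx
        exact xGL_congr hG hsr _ _ _
      rw [e, fx_inv, fx_add, fx_add]
      have : -t + u + t = u := by ring
      rw [this, ← e]
      exact Subgroup.subset_closure ⟨s, u, hspos, hsneg, xGL_coe hG1 hs48 u⟩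
    · have hsn : s ≠ chevF4.neg r.val := by
        rw [f4_neg_fin]; omega
      have hc := comm_all (F := K) hG good3_F4.t3 good3_F4.t4 r.2 hs48 hsr hsn t u
      have htab := f4_cls_tab3b w hw r.val r.2 s hs48 hr hs24 hsr (by rw [← tab_F4]; exact hsneg)
      have hwd : ∀ q ∈ chevF4.commWord K r.val s t u, chevF4.IsPosRoot q.1 ∧
          (tabOf chevF4).reflWord w q.1 < chevF4.nroots / 2 := by
        intro q hq
        unfold ChevalleyDatum.commWord at hq
        rw [List.mem_map] at hq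
        obtain ⟨c, hc', rfl⟩ := hq
        rw [f4_commTerms_fast] at hc'
        rw [List.all_eq_true] at htab
        have := htab c hc'
        simp only [Bool.and_eq_true, decide_eq_true_eq] at this
        refine ⟨(f4_isPosRoot _).mpr ⟨this.1.1, this.1.2⟩, ?_⟩
        rw [tab_F4]
        exact this.2
      have e : (fx K r t)⁻¹ * xGL hG1 hs48 u * fx K r t =
          xGL hG1 hs48 u * ((chevF4.commWord K r.val s t u).map (xGL' hG1)).prod := by
        rw [mul_assoc, inv_mul_eq_iff_eq_mul]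
        apply Units.ext
        simp only [Units.val_mul, fx_coe, wordGL_coe]
        rw [xGL_coe hG1 hs48 u, hc, mul_assoc]
      rw [e]
      apply mul_mem
      · exact Subgroup.subset_closure ⟨s, u, hspos, hsneg, xGL_coe hG1 hs48 u⟩
      · apply Subgroup.list_prod_mem
        intro y hy
        rw [List.mem_map] at hy
        obtain ⟨q, hq, rfl⟩ := hy
        obtain ⟨q1, q2⟩ := hwd q hq
        exact Subgroup.subset_closure ⟨q.1, q.2, q1, q2, xGL'_coe hG1 q⟩
  apply mem_normalizer_closure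
  · intro x hx
    have := key (-t) x hx
    rwa [← fx_inv, inv_inv] at this
  · intro x hx
    exact key t x hx

/-- `U_w⁻` is normalised by `U`. -/
theorem f4_pos_le_normalizer_minus {w : List ℕ} (hw : w ∈ f4Spec) :
    chevF4.posUnipotent K ≤
      Subgroup.normalizer (Subgroup.closure (minusGen chevF4 K w) : Set (GL chevF4.Idx K)) := by
  unfold ChevalleyDatum.posUnipotent
  rw [Subgroup.closure_le]
  rintro x ⟨r, t, hr, hx⟩
  obtain ⟨h24, h48⟩ := (f4_isPosRoot r).mp hr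
  have e : x = fx K ⟨r, h48⟩ t := eq_xGL good3_F4.toGood1 h48 hx
  rw [e]
  exact f4_minus_normal hw ⟨r, h48⟩ h24 t

/-- A product of root elements of positive roots is the product of the factors whose roots stay positive under `w`
times an element of `U_w⁻`. -/
theorem f4_split {w : List ℕ} (hw : w ∈ f4Spec) (L : List (Fin 48 × K)) (hL : ∀ p ∈ L, 24 ≤ p.1.val) :
    ∃ v ∈ Subgroup.closure (minusGen chevF4 K w),
      fxProd L = fxProd (L.filter fun p => f4PsiP w p.1.val) * v := by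
  induction L with
  | nil => exact ⟨1, one_mem _, by simp [fxProd_nil]⟩
  | cons p L ih =>
    obtain ⟨v, hv, e⟩ := ih fun q hq => hL q (List.mem_cons_of_mem _ hq)
    have hp := hL p List.mem_cons_self
    by_cases hP : f4PsiP w p.1.val = true
    · refine ⟨v, hv, ?_⟩
      rw [List.filter_cons_of_pos (p := fun p : Fin 48 × K => f4PsiP w p.1.val) hP, fxProd_cons, fxProd_cons,
        e, mul_assoc]
    · set F := fxProd (L.filter fun p => f4PsiP w p.1.val) with hF
      have hFU : F ∈ chevF4.posUnipotent K := by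
        apply fxProd_mem
        intro q hq
        exact fx_mem_pos (hL q (List.mem_cons_of_mem _ (List.mem_filter.mp hq).1)) _
      have hgen : fx K p.1 p.2 ∈ Subgroup.closure (minusGen chevF4 K w) := by
        apply Subgroup.subset_closure
        refine ⟨p.1.val, p.2, (f4_isPosRoot _).mpr ⟨hp, p.1.2⟩, ?_, fx_coe p.1 p.2⟩
        rw [tab_F4]
        have : ¬ (24 ≤ fastF4.reflWord w p.1.val) := by
          intro h
          apply hP
          simp [f4PsiP, hp, p.1.2, h]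
        show fastF4.reflWord w p.1.val < 24
        omega
      have hconj : F⁻¹ * fx K p.1 p.2 * F ∈ Subgroup.closure (minusGen chevF4 K w) := by
        have hn := f4_pos_le_normalizer_minus (K := K) hw (inv_mem hFU)
        have := (Subgroup.mem_set_normalizer_iff.mp hn (fx K p.1 p.2)).mp hgen
        rwa [inv_inv] at this
      refine ⟨F⁻¹ * fx K p.1 p.2 * F * v, mul_mem hconj hv, ?_⟩
      rw [List.filter_cons_of_neg (p := fun p : Fin 48 × K => f4PsiP w p.1.val) hP, fxProd_cons, e, ← hF]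
      group

/-- Lists of root elements whose nonzero entries have roots fixed by `w`. -/
def F4Good (w : List ℕ) (L : List (Fin 48 × K)) : Prop :=
  (L.map Prod.fst).Nodup ∧ ∀ p ∈ L, p.2 = 0 ∨ f4PsiP w p.1.val = true

/-- `n_w` commutes with the products of root elements of roots fixed by `w`. -/
theorem f4_nw_comm {w : List ℕ} (hw : w ∈ f4Spec) {L : List (Fin 48 × K)}
    (hL : ∀ p ∈ L, p.2 = 0 ∨ f4PsiP w p.1.val = true) :
    nWordGL good3_F4.toGood2 w * fxProd L * (nWordGL good3_F4.toGood2 w)⁻¹ = fxProd L := by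
  have hwlt := f4Spec_lt hw
  rw [conj_fxProd hwlt]
  induction L with
  | nil => rfl
  | cons p L ih =>
    rw [List.map_cons, fxProd_cons, fxProd_cons, ih fun q hq => hL q (List.mem_cons_of_mem _ hq)]
    congr 1
    rcases hL p List.mem_cons_self with h0 | hP
    · rw [h0, fx_zero, fx_zero]
    · have : f4Img w p.1 = p.1 := by
        apply Fin.ext
        rw [f4Img_val hwlt]
        exact f4_cls_tab3a w hw p.1.val p.1.2 hP
      rw [this]

theorem fw24_eq_fxProd (t24 t25 t26 t27 t28 t29 t30 t31 t32 t33 t34 t35 t36 t37 t38 t39 t40 t41 t42 t43 t44 t45 t46 t47 : K) :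
    fw24 t24 t25 t26 t27 t28 t29 t30 t31 t32 t33 t34 t35 t36 t37 t38 t39 t40 t41 t42 t43 t44 t45 t46 t47 =
      fxProd [(24, t24), (25, t25), (26, t26), (27, t27), (28, t28), (29, t29), (30, t30), (31, t31),
        (32, t32), (33, t33), (34, t34), (35, t35), (36, t36), (37, t37), (38, t38), (39, t39), (40, t40),
        (41, t41), (42, t42), (43, t43), (44, t44), (45, t45), (46, t46), (47, t47)] := by
  unfold fw24 fw25 fw26 fw27 fw28 fw29 fw30 fw31 fw32 fw33 fw34 fw35 fw36 fw37 fw38 fw39 fw40 fw41 fw42 fw43 fw44 fw45 fw46 fw47 fxProd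
  simp only [List.map_cons, List.map_nil, List.prod_cons, List.prod_nil, mul_one]

/-- Every element of `U` is a product of root elements of distinct positive roots. -/
theorem exists_fxProd_of_mem_pos {u : GL chevF4.Idx K} (hu : u ∈ chevF4.posUnipotent K) :
    ∃ L : List (Fin 48 × K), (L.map Prod.fst).Nodup ∧ (∀ p ∈ L, 24 ≤ p.1.val) ∧ u = fxProd L := by
  obtain ⟨t24, t25, t26, t27, t28, t29, t30, t31, t32, t33, t34, t35, t36, t37, t38, t39, t40, t41, t42, t43, t44, t45, t46, t47, rfl⟩ := exists_fw24 hu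
  refine ⟨_, ?_, ?_, fw24_eq_fxProd _ _ _ _ _ _ _ _ _ _ _ _ _ _ _ _ _ _ _ _ _ _ _ _⟩
  · simp only [List.map_cons, List.map_nil]
    decide
  · intro p hp
    simp only [List.mem_cons, List.not_mem_nil, or_false] at hp
    rcases hp with rfl | rfl | rfl | rfl | rfl | rfl | rfl | rfl | rfl | rfl | rfl | rfl | rfl | rfl | rfl | rfl | rfl | rfl | rfl | rfl | rfl | rfl | rfl | rfl <;> simp

/-- The inverse of `n_w`, for a special involution `w`. -/
theorem f4_nw_inv {w : List ℕ} (hw : w ∈ f4Spec) :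
    ∃ z ∈ chevF4.diagonalSubgroup K,
      (nWordGL good3_F4.toGood2 w : GL chevF4.Idx K)⁻¹ = z * nWordGL good3_F4.toGood2 w := by
  have hwlt := f4Spec_lt hw
  have hrev : ∀ i ∈ w.reverse, i < chevF4.rank := fun i hi => hwlt i (List.mem_reverse.mp hi)
  have h0 := nWordGL_reverse_mul_mem (F := K) good3_F4.toGood2 hwlt
  obtain ⟨h₁, hh₁, e₁⟩ := nWordGL_eq_of_reflWord_eq (F := K) good3_F4.toGood2 T0_F4 T6_F4 T8_F4 hrev hwlt
    (by intro r hr; rw [tab_F4]; exact f4_cls_tab3h w hw r hr)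
  refine ⟨(nWordGL good3_F4.toGood2 w.reverse * nWordGL good3_F4.toGood2 w)⁻¹ * h₁,
    mul_mem (inv_mem h0) hh₁, ?_⟩
  rw [e₁]
  group

/-- A conjugate of an involution in the cell of a special involution `w` of the form `x h n_w`, where `x` is a
product of root elements of roots fixed by `w`. -/
theorem f4_cell_shape {t : GL chevF4.Idx K} (ht : t ∈ chevF4.group K) (ht2 : t * t = 1) {w : List ℕ}
    (hw : w ∈ f4Spec) (hc : F4Cell K t w) :
    ∃ g ∈ chevF4.group K, ∃ (L : List (Fin 48 × K)) (h : GL chevF4.Idx K), F4Good w L ∧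
      h ∈ chevF4.diagonalSubgroup K ∧ g * t * g⁻¹ = fxProd L * h * nWordGL good3_F4.toGood2 w := by
  have hG := good3_F4.toGood2
  have hHB : chevF4.diagonalSubgroup K ≤ chevF4.borelSubgroup K := le_sup_right
  have hUB : chevF4.posUnipotent K ≤ chevF4.borelSubgroup K := le_sup_left
  have hwW := f4Spec_sub w hw
  have hwlt := f4Spec_lt hw
  obtain ⟨b, hb, um, hum, e⟩ := hc
  have humU : um ∈ chevF4.posUnipotent K := minusGen_closure_le_pos w hum
  set n : GL chevF4.Idx K := nWordGL hG w with hn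
  have hnN : n ∈ chevF4.monomialSubgroup K := nWordGL_mem hG w
  have hnNorm := monomialSubgroup_le_normalizer hG hnN
  obtain ⟨u₂, hu₂, h₂, hh₂, eb⟩ := borel_decomp hG (mul_mem (hUB humU) hb)
  obtain ⟨L0, hnd0, hpos0, eu⟩ := exists_fxProd_of_mem_pos hu₂
  obtain ⟨v, hv, esplit⟩ := f4_split (K := K) hw L0 hpos0
  set Lp := L0.filter fun p => f4PsiP w p.1.val with hLp
  have hgood : F4Good w Lp := by
    refine ⟨(List.filter_sublist.map Prod.fst).nodup hnd0, ?_⟩
    intro p hp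
    exact Or.inr (List.mem_filter.mp hp).2
  set Fp := fxProd Lp with hFp
  have hFpU : Fp ∈ chevF4.posUnipotent K := by
    apply fxProd_mem
    intro q hq
    exact fx_mem_pos (hpos0 q (List.mem_filter.mp hq).1) _
  have hcomm : n * Fp * n⁻¹ = Fp := f4_nw_comm hw hgood.2
  have hcomm' : n⁻¹ * Fp⁻¹ * n = Fp⁻¹ := by
    have : n * Fp⁻¹ * n⁻¹ = Fp⁻¹ := by
      calc n * Fp⁻¹ * n⁻¹ = (n * Fp * n⁻¹)⁻¹ := by group
        _ = _ := by rw [hcomm]
    calc n⁻¹ * Fp⁻¹ * n = n⁻¹ * (n * Fp⁻¹ * n⁻¹) * n := by rw [this]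
      _ = _ := by group
  -- the conjugate
  set t₂ := um * t * um⁻¹ with ht₂
  have et₂ : t₂ = (Fp * v * h₂) * n * 1 := by
    calc t₂ = (um * b) * n := by rw [ht₂, e]; group
      _ = (u₂ * h₂) * n := by rw [eb]
      _ = _ := by rw [eu, esplit]; group
  have ht₂inv : t₂⁻¹ = t₂ := by
    have : t⁻¹ = t := inv_eq_of_mul_eq_one_left ht2
    calc t₂⁻¹ = um * t⁻¹ * um⁻¹ := by rw [ht₂]; group
      _ = _ := by rw [this]
  obtain ⟨z, hz, ez⟩ := f4_nw_inv (K := K) hw
  rw [← hn] at ez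
  have et₂' : t₂ = (z * (n * h₂⁻¹ * n⁻¹) * Fp⁻¹) * n * (Fp * v⁻¹ * Fp⁻¹) := by
    have e1 : t₂⁻¹ = n⁻¹ * h₂⁻¹ * v⁻¹ * Fp⁻¹ := by rw [et₂]; group
    have e2 : (z * (n * h₂⁻¹ * n⁻¹) * Fp⁻¹) * n * (Fp * v⁻¹ * Fp⁻¹) =
        (z * n) * h₂⁻¹ * (n⁻¹ * Fp⁻¹ * n) * Fp * v⁻¹ * Fp⁻¹ := by group
    rw [← ht₂inv, e1, e2, hcomm', ← ez]; group
  have hb1 : Fp * v * h₂ ∈ chevF4.borelSubgroup K :=
    mul_mem (mul_mem (hUB hFpU) (hUB (minusGen_closure_le_pos w hv))) (hHB hh₂)
  have hb2 : z * (n * h₂⁻¹ * n⁻¹) * Fp⁻¹ ∈ chevF4.borelSubgroup K :=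
    mul_mem (mul_mem (hHB hz) (hHB (conj_mem_diagonal hnNorm (inv_mem hh₂)))) (inv_mem (hUB hFpU))
  have hv2 : Fp * v⁻¹ * Fp⁻¹ ∈ Subgroup.closure (minusGen chevF4 K w) := by
    have hn' := f4_pos_le_normalizer_minus (K := K) hw hFpU
    exact (Subgroup.mem_set_normalizer_iff.mp hn' v⁻¹).mp (inv_mem hv)
  have huniq := normal_form_unique hG T0_F4 good3_F4.t3 good3_F4.t4 T5_F4 T6_F4 T8_F4 T9_F4 wList_F4 hwW hwW
    hb1 hb2 (one_mem _) hv2 (et₂.symm.trans et₂')
  have hv1 : v = 1 := by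
    have := huniq.2.2
    have e3 : v⁻¹ = Fp⁻¹ * (Fp * v⁻¹ * Fp⁻¹) * Fp := by group
    rw [← this] at e3
    have : v⁻¹ = 1 := by rw [e3]; group
    exact inv_eq_one.mp this
  refine ⟨um, posUnipotent_le_group humU, Lp, h₂, hgood, hh₂, ?_⟩
  rw [← ht₂, et₂, hv1, mul_one, mul_one]

end Cfsg.Agent.Helper7.Chev
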