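import Mathlib
import Cfsg.Agent.Helper7.F4ClsC

set_option autoImplicit false
set_option linter.unusedSectionVars false
set_option linter.unusedVariables false
set_option maxHeartbeats 1000000

/-!
Type `F₄`, characteristic two: every involution is conjugate to an involution of `N` lying over a special
involution of the Weyl group.
-/

namespace Cfsg.Agent.Helper7.Chev

open Cfsg Cfsg.Lie Matrix DoubleCoset
open scoped Pointwise

variable {K : Type*} [Field K] [CharP K 2]

/-- Removing the trivial factors of a product of root elements. -/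
theorem fxProd_filter_nz [DecidableEq K] (L : List (Fin 48 × K)) :
    fxProd (L.filter fun p => decide (p.2 ≠ 0)) = fxProd L := by
  induction L with
  | nil => rfl
  | cons p L ih =>
    by_cases hp : p.2 = 0
    · rw [List.filter_cons_of_neg (by simpa using hp), fxProd_cons, ih, hp, fx_zero, one_mul]
    · rw [List.filter_cons_of_pos (by simpa using hp), fxProd_cons, fxProd_cons, ih]

theorem f4_nGL_eq_nWordGL {i : ℕ} (hi : i < chevF4.rank) :
    (nGL good3_F4.toGood1 (good3_F4.toGood1.simple_lt hi) : GL chevF4.Idx K) =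
      nWordGL good3_F4.toGood2 [i] := by
  rw [nWordGL_cons good3_F4.toGood2 hi, nWordGL_nil, mul_one]

/-- Conjugating `n_w` by a fundamental reflection fixed by `w`. -/
theorem f4_conj_nw {w : List ℕ} (hw : w ∈ f4Spec) {i : ℕ} (hi : i < 4)
    (hfix : fastF4.reflWord w (f4Simple i) = f4Simple i) :
    ∃ h' ∈ chevF4.diagonalSubgroup K,
      nGL good3_F4.toGood1 (good3_F4.toGood1.simple_lt (i := i) hi) * nWordGL good3_F4.toGood2 w *
        (nGL good3_F4.toGood1 (good3_F4.toGood1.simple_lt (i := i) hi))⁻¹ =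
          h' * nWordGL good3_F4.toGood2 w := by
  have hG := good3_F4.toGood2
  have hG1 := good3_F4.toGood1
  have hir : i < chevF4.rank := hi
  have hwlt := f4Spec_lt hw
  set ni : GL chevF4.Idx K := nGL hG1 (hG1.simple_lt hir) with hni
  set n : GL chevF4.Idx K := nWordGL hG w with hn
  have hnN : n ∈ chevF4.monomialSubgroup K := nWordGL_mem hG w
  have hnNorm := monomialSubgroup_le_normalizer hG hnN
  have hsq : ni * ni ∈ chevF4.diagonalSubgroup K := nGL_sq_mem hG _
  have hiwi : ∀ j ∈ i :: w ++ [i], j < chevF4.rank := by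
    intro j hj
    rcases List.mem_append.mp hj with hj | hj
    · rcases List.mem_cons.mp hj with rfl | hj
      · exact hir
      · exact hwlt j hj
    · rw [List.mem_singleton] at hj; rw [hj]; exact hir
  obtain ⟨h₀, hh₀, e₀⟩ := nWordGL_eq_of_reflWord_eq (F := K) hG T0_F4 T6_F4 T8_F4 hiwi hwlt
    (by intro r hr; rw [tab_F4]; exact f4_cls_tab3d w hw i hi hfix r hr)
  have e₁ : (nWordGL hG (i :: w ++ [i]) : GL chevF4.Idx K) = ni * n * ni := by
    rw [nWordGL_append, nWordGL_cons hG hir, nWordGL_cons hG hir [], nWordGL_nil, mul_one]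
  refine ⟨h₀ * (n * (ni * ni)⁻¹ * n⁻¹), mul_mem hh₀ (conj_mem_diagonal hnNorm (inv_mem hsq)), ?_⟩
  calc ni * n * ni⁻¹ = (ni * n * ni) * (ni * ni)⁻¹ := by group
    _ = h₀ * n * (ni * ni)⁻¹ := by rw [← e₁, e₀]
    _ = _ := by group

/-- Conjugating an element `x h n_w` by a fundamental reflection fixed by `w`, when no factor of `x` belongs to the
fundamental root. -/
theorem f4_move [DecidableEq K] {w : List ℕ} (hw : w ∈ f4Spec) {i : ℕ} (hi : i < 4)
    (hfix : fastF4.reflWord w (f4Simple i) = f4Simple i) {L : List (Fin 48 × K)} {h : GL chevF4.Idx K}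
    (hgood : F4Good w L) (hh : h ∈ chevF4.diagonalSubgroup K)
    (hgt : ∀ p ∈ L, p.2 = 0 ∨ f4Simple i < p.1.val) :
    ∃ h' ∈ chevF4.diagonalSubgroup K,
      F4Good w ((L.filter fun p => decide (p.2 ≠ 0)).map fun p => (f4Img [i] p.1, p.2)) ∧
      nGL good3_F4.toGood1 (good3_F4.toGood1.simple_lt (i := i) hi) *
        (fxProd L * h * nWordGL good3_F4.toGood2 w) *
        (nGL good3_F4.toGood1 (good3_F4.toGood1.simple_lt (i := i) hi))⁻¹ =
      fxProd ((L.filter fun p => decide (p.2 ≠ 0)).map fun p => (f4Img [i] p.1, p.2)) * h' *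
        nWordGL good3_F4.toGood2 w := by
  have hG := good3_F4.toGood2
  have hG1 := good3_F4.toGood1
  have hir : i < chevF4.rank := hi
  have hil : ∀ j ∈ [i], j < chevF4.rank := by
    intro j hj; rw [List.mem_singleton] at hj; rw [hj]; exact hir
  set ni : GL chevF4.Idx K := nGL hG1 (hG1.simple_lt hir) with hni
  set n : GL chevF4.Idx K := nWordGL hG w with hn
  have hniN : ni ∈ chevF4.monomialSubgroup K := nGL_mem_monomial hG _
  have hniNorm := monomialSubgroup_le_normalizer hG hniN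
  obtain ⟨h₁, hh₁, e₁⟩ := f4_conj_nw (K := K) hw hi hfix
  rw [← hni, ← hn] at e₁
  refine ⟨(ni * h * ni⁻¹) * h₁, mul_mem (conj_mem_diagonal hniNorm hh) hh₁, ?_, ?_⟩
  · constructor
    · rw [List.map_map]
      have : (Prod.fst ∘ fun p : Fin 48 × K => (f4Img [i] p.1, p.2)) = f4Img [i] ∘ Prod.fst := by
        funext p; rfl
      rw [this, ← List.map_map]
      exact ((List.filter_sublist.map Prod.fst).nodup hgood.1).map (f4Img_injective hil)
    · intro q hq
      obtain ⟨p, hp, rfl⟩ := List.mem_map.mp hq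
      obtain ⟨hpL, hp0⟩ := List.mem_filter.mp hp
      have hp0' : p.2 ≠ 0 := by simpa using hp0
      right
      show f4PsiP w (f4Img [i] p.1).val = true
      rw [f4Img_val hil]
      have hP := (hgood.2 p hpL).resolve_left hp0'
      have hlt := (hgt p hpL).resolve_left hp0'
      exact f4_cls_tab3g w hw i hi hfix p.1.val p.1.2 hP (by omega)
  · have e₂ : ni * fxProd L * ni⁻¹ =
        fxProd ((L.filter fun p => decide (p.2 ≠ 0)).map fun p => (f4Img [i] p.1, p.2)) := by
      rw [← fxProd_filter_nz L, hni, f4_nGL_eq_nWordGL hir, conj_fxProd hil]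
    calc ni * (fxProd L * h * n) * ni⁻¹
        = (ni * fxProd L * ni⁻¹) * (ni * h * ni⁻¹) * (ni * n * ni⁻¹) := by group
      _ = _ := by rw [e₂, e₁]; group

/-- A factor at a fundamental root fixed by `w` contradicts the maximality of the cell. -/
theorem f4_simple_contra {t : GL chevF4.Idx K} {w : List ℕ} (hw : w ∈ f4Spec)
    (hmax : ∀ g' ∈ chevF4.group K, ∀ w' ∈ wL_F4, F4Cell K (g' * t * g'⁻¹) w' → f4nM w' ≤ f4nM w)
    {i : ℕ} (hi : i < 4) {L : List (Fin 48 × K)} {h : GL chevF4.Idx K}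
    (hgood : F4Good w L) (hh : h ∈ chevF4.diagonalSubgroup K)
    (hconj : ∃ g ∈ chevF4.group K, g * t * g⁻¹ = fxProd L * h * nWordGL good3_F4.toGood2 w)
    {p : Fin 48 × K} (hp : p ∈ L) (hpi : p.1.val = f4Simple i) (hp0 : p.2 ≠ 0) : False := by
  have hG := good3_F4.toGood2
  have hG1 := good3_F4.toGood1
  have hir : i < chevF4.rank := hi
  have hHB : chevF4.diagonalSubgroup K ≤ chevF4.borelSubgroup K := le_sup_right
  have hUB : chevF4.posUnipotent K ≤ chevF4.borelSubgroup K := le_sup_left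
  have hwW := f4Spec_sub w hw
  have hwlt := f4Spec_lt hw
  have hil : ∀ j ∈ [i], j < chevF4.rank := by
    intro j hj; rw [List.mem_singleton] at hj; rw [hj]; exact hir
  have hPp := (hgood.2 p hp).resolve_left hp0
  have hfix : fastF4.reflWord w (f4Simple i) = f4Simple i := by
    have := f4_cls_tab3a w hw p.1.val p.1.2 hPp
    rwa [hpi] at this
  obtain ⟨hneg, hs24, hs48⟩ := f4_cls_tab3i i hi
  set ni : GL chevF4.Idx K := nGL hG1 (hG1.simple_lt hir) with hni
  set n : GL chevF4.Idx K := nWordGL hG w with hn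
  have hniN : ni ∈ chevF4.monomialSubgroup K := nGL_mem_monomial hG _
  have hniNorm := monomialSubgroup_le_normalizer hG hniN
  have hniG : ni ∈ chevF4.group K := monomialSubgroup_le_group hG1 hniN
  -- the decomposition of the product
  obtain ⟨L1, L2, rfl⟩ := List.append_of_mem hp
  have hnd' : p.1 ∉ (L1 ++ L2).map Prod.fst := by
    have hnd := hgood.1
    rw [List.map_append, List.map_cons] at hnd
    have := List.nodup_middle.mp hnd
    rw [List.map_append]
    exact (List.nodup_cons.mp this).1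
  set Up := Subgroup.closure (upGen chevF4 K (chevF4.simple i)) with hUp
  have hother : ∀ q ∈ L1 ++ L2, fx K q.1 q.2 ∈ Up := by
    intro q hq
    have hqL : q ∈ L1 ++ p :: L2 := by
      rcases List.mem_append.mp hq with h | h
      · exact List.mem_append_left _ h
      · exact List.mem_append_right _ (List.mem_cons_of_mem _ h)
    rcases hgood.2 q hqL with h0 | hP
    · rw [h0, fx_zero]; exact one_mem _
    · have hq24 : 24 ≤ q.1.val := by
        simp only [f4PsiP, Bool.and_eq_true, decide_eq_true_eq] at hP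
        exact hP.1.1
      apply Subgroup.subset_closure
      refine ⟨q.1.val, q.2, (f4_isPosRoot _).mpr ⟨hq24, q.1.2⟩, ?_, fx_coe q.1 q.2⟩
      intro heq
      apply hnd'
      have e : q.1 = p.1 := Fin.ext (by rw [heq, f4Simple_eq i hi, hpi])
      rw [← e]
      exact List.mem_map_of_mem hq
  have hA : fxProd L1 ∈ Up := fxProd_mem L1 fun q hq => hother q (List.mem_append_left _ hq)
  have hB : fxProd L2 ∈ Up := fxProd_mem L2 fun q hq => hother q (List.mem_append_right _ hq)
  have hUpU : Up ≤ chevF4.posUnipotent K := by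
    rw [← up_sup_rootSubgroup hG T0_F4 T5_F4 hir]; exact le_sup_left
  have hnorm := nGL_mem_normalizer_up (F := K) hG T0_F4 T6_F4 hir
  rw [← hni, ← hUp] at hnorm
  have hA' : ni * fxProd L1 * ni⁻¹ ∈ chevF4.borelSubgroup K :=
    hUB (hUpU ((Subgroup.mem_set_normalizer_iff.mp hnorm _).mp hA))
  have hB' : ni * fxProd L2 * ni⁻¹ ∈ chevF4.borelSubgroup K :=
    hUB (hUpU ((Subgroup.mem_set_normalizer_iff.mp hnorm _).mp hB))
  -- the rank one part
  obtain ⟨P, hP⟩ := exists_subgroup_borel_union hG T0_F4 good3_F4.t3 good3_F4.t4 T5_F4 T6_F4 hir ni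
    (nGL_coe hG1 _)
  have hniP : ni ∈ P := by
    change ni ∈ (P : Set (GL chevF4.Idx K))
    rw [hP]
    exact Or.inr (mem_doubleCoset_self _ _ _)
  have hxP : fx K p.1 p.2 ∈ P := by
    change fx K p.1 p.2 ∈ (P : Set (GL chevF4.Idx K))
    rw [hP]
    exact Or.inl (hUB (fx_mem_pos (by rw [hpi]; exact hs24) _))
  have hyP : ni * fx K p.1 p.2 * ni⁻¹ ∈ (P : Set (GL chevF4.Idx K)) :=
    mul_mem (mul_mem hniP hxP) (inv_mem hniP)
  have hy : ni * fx K p.1 p.2 * ni⁻¹ = fx K (f4Img [i] p.1) p.2 := by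
    rw [hni, f4_nGL_eq_nWordGL hir, conj_fx_img hil]
  have hyneg : (f4Img [i] p.1).val < 24 := by
    rw [f4Img_val hil, hpi]; exact hneg
  have hynB : ni * fx K p.1 p.2 * ni⁻¹ ∉ chevF4.borelSubgroup K := by
    intro hmem
    have h2 : ni * fx K p.1 p.2 * ni⁻¹ ∈ chevF4.borelSubgroup K ⊓ chevF4.negUnipotent K := by
      refine ⟨hmem, ?_⟩
      rw [hy]
      exact fx_mem_neg hyneg _
    rw [borel_inf_negUnipotent hG T0_F4, Subgroup.mem_bot, hy] at h2
    exact xGL_ne_one hG T0_F4 T8_F4 (f4Img [i] p.1).2 hp0 h2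
  rw [hP] at hyP
  rcases hyP with hyB | hyD
  · exact hynB hyB
  obtain ⟨b₄, hb₄, b₅, hb₅, ey⟩ := mem_doubleCoset.mp hyD
  -- the conjugate of `n_w`
  obtain ⟨h₁, hh₁, e₁⟩ := f4_conj_nw (K := K) hw hi hfix
  rw [← hni, ← hn] at e₁
  -- the cell of the conjugate
  obtain ⟨g, hg, egt⟩ := hconj
  have hpos1 : chevF4.nroots / 2 ≤ (tabOf chevF4).reflWord w.reverse (chevF4.simple i) := by
    rw [tab_F4, f4Simple_eq i hi, f4_cls_tab3h w hw _ hs48, hfix]
    exact hs24
  have hb₃ : b₅ * (ni * fxProd L2 * ni⁻¹) * (ni * h * ni⁻¹) * h₁ ∈ chevF4.borelSubgroup K :=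
    mul_mem (mul_mem (mul_mem hb₅ hB') (hHB (conj_mem_diagonal hniNorm hh))) (hHB hh₁)
  have s1 := mul_mem_doubleCoset_of_pos (F := K) hG T0_F4 good3_F4.t3 good3_F4.t4 T5_F4 T6_F4 hir
    (one_mem _) hwlt hpos1 hb₃
  rw [one_mul, ← hni, ← hn] at s1
  obtain ⟨b₆, hb₆, b₇, hb₇, e₆⟩ := mem_doubleCoset.mp s1
  have hiw : ∀ j ∈ i :: w, j < chevF4.rank := by
    intro j hj
    rcases List.mem_cons.mp hj with rfl | hj
    · exact hir
    · exact hwlt j hj
  have ecell : (ni * g) * t * (ni * g)⁻¹ =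
      ((ni * fxProd L1 * ni⁻¹) * b₄ * b₆) * nWordGL hG (i :: w) * b₇ := by
    have e7 : (ni * g) * t * (ni * g)⁻¹ = ni * (g * t * g⁻¹) * ni⁻¹ := by group
    rw [e7, egt, fxProd_append, fxProd_cons, nWordGL_cons hG hir, ← hni, ← hn]
    calc ni * (fxProd L1 * (fx K p.1 p.2 * fxProd L2) * h * n) * ni⁻¹
        = (ni * fxProd L1 * ni⁻¹) * (ni * fx K p.1 p.2 * ni⁻¹) * (ni * fxProd L2 * ni⁻¹) *
            (ni * h * ni⁻¹) * (ni * n * ni⁻¹) := by group
      _ = (ni * fxProd L1 * ni⁻¹) * b₄ *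
            (ni * (b₅ * (ni * fxProd L2 * ni⁻¹) * (ni * h * ni⁻¹) * h₁) * n) := by
          rw [ey, e₁]; group
      _ = _ := by rw [e₆]; group
  obtain ⟨w₁, hw₁, hrefl, hc₁⟩ := inCell_of_mem hG T0_F4 good3_F4.t3 good3_F4.t4 T5_F4 T6_F4 T8_F4 T9_F4
    wList_F4 hiw (mul_mem (mul_mem hA' hb₄) hb₆) hb₇ ecell
  have hle := hmax (ni * g) (mul_mem hniG hg) w₁ hw₁ hc₁
  have hcong : f4nM w₁ = f4nM (i :: w) := by
    apply f4nM_congr
    intro r hr
    have := hrefl r hr
    rwa [tab_F4] at this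
  have hlt := f4_cls_tab3e w hw i hi hfix
  omega

/-- The descent: the factors of `x` in a conjugate `x h n_w` in a cell of maximal length are trivial. -/
theorem f4_descent {t : GL chevF4.Idx K} {w : List ℕ} (hw : w ∈ f4Spec)
    (hmax : ∀ g' ∈ chevF4.group K, ∀ w' ∈ wL_F4, F4Cell K (g' * t * g'⁻¹) w' → f4nM w' ≤ f4nM w) :
    ∀ k, 24 ≤ k → k ≤ 48 → ∀ (L : List (Fin 48 × K)) (h : GL chevF4.Idx K), F4Good w L →
      h ∈ chevF4.diagonalSubgroup K →
      (∃ g ∈ chevF4.group K, g * t * g⁻¹ = fxProd L * h * nWordGL good3_F4.toGood2 w) →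
      ∀ p ∈ L, p.2 = 0 ∨ k ≤ p.1.val := by
  classical
  have hG := good3_F4.toGood2
  have hG1 := good3_F4.toGood1
  intro k hk
  induction k, hk using Nat.le_induction with
  | base =>
    intro _ L h hgood hh hconj p hp
    rcases hgood.2 p hp with h0 | hP
    · exact Or.inl h0
    · right
      simp only [f4PsiP, Bool.and_eq_true, decide_eq_true_eq] at hP
      exact hP.1.1
  | succ k hk ih =>
    intro hk48 L h hgood hh hconj p hp
    have ihk := ih (by omega)
    by_cases hp0 : p.2 = 0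
    · exact Or.inl hp0
    right
    have hkp := (ihk L h hgood hh hconj p hp).resolve_left hp0
    by_contra hlt
    have hpk : p.1.val = k := by omega
    have hPp := (hgood.2 p hp).resolve_left hp0
    rcases f4_cls_tab3c w hw p.1.val p.1.2 hPp with ⟨i, hi, his⟩ | ⟨i, hi, hfix, hpos, hlow, hsk⟩
    · exact f4_simple_contra hw hmax hi hgood hh hconj hp his.symm hp0
    · have hir : i < chevF4.rank := hi
      have hil : ∀ j ∈ [i], j < chevF4.rank := by
        intro j hj; rw [List.mem_singleton] at hj; rw [hj]; exact hir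
      have hgt : ∀ q ∈ L, q.2 = 0 ∨ f4Simple i < q.1.val := by
        intro q hq
        rcases ihk L h hgood hh hconj q hq with h0 | hge
        · exact Or.inl h0
        · right; omega
      obtain ⟨h', hh', hgood', emove⟩ := f4_move (K := K) hw hi hfix hgood hh hgt
      obtain ⟨g, hg, egt⟩ := hconj
      set ni : GL chevF4.Idx K := nGL hG1 (hG1.simple_lt hir) with hni
      have hniG : ni ∈ chevF4.group K := monomialSubgroup_le_group hG1 (nGL_mem_monomial hG _)
      have hconj' : ∃ g' ∈ chevF4.group K, g' * t * g'⁻¹ =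
          fxProd ((L.filter fun p => decide (p.2 ≠ 0)).map fun p => (f4Img [i] p.1, p.2)) * h' *
            nWordGL hG w := by
        refine ⟨ni * g, mul_mem hniG hg, ?_⟩
        rw [← emove, ← egt]
        group
      have hmem : (f4Img [i] p.1, p.2) ∈
          (L.filter fun p => decide (p.2 ≠ 0)).map fun p => (f4Img [i] p.1, p.2) :=
        List.mem_map_of_mem (List.mem_filter.mpr ⟨hp, by simpa using hp0⟩)
      have := (ihk _ h' hgood' hh' hconj' _ hmem).resolve_left hp0
      have hval : (f4Img [i] p.1).val = fastF4.reflWord [i] p.1.val := f4Img_val hil p.1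
      simp only [hval] at this
      omega

/-- Every involution is conjugate to an involution of `N` lying over a special involution of the Weyl group. -/
theorem f4_inv_conj_N {t : GL chevF4.Idx K} (ht : t ∈ chevF4.group K) (ht2 : t * t = 1) :
    ∃ g ∈ chevF4.group K, ∃ w ∈ f4Spec, ∃ h ∈ chevF4.diagonalSubgroup K,
      g * t * g⁻¹ = h * nWordGL good3_F4.toGood2 w := by
  obtain ⟨g₀, hg₀, w, hwW, hc, hmax⟩ := f4_exists_max_cell ht
  obtain ⟨hinv, hspec⟩ := f4_special_of_max ht ht2 hg₀ hwW hc hmax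
  have hw : w ∈ f4Spec := f4_cls_tab2 w hwW hspec hinv
  set t₁ := g₀ * t * g₀⁻¹ with ht₁
  have ht₁G : t₁ ∈ chevF4.group K := mul_mem (mul_mem hg₀ ht) (inv_mem hg₀)
  have ht₁2 : t₁ * t₁ = 1 := by
    calc t₁ * t₁ = g₀ * (t * t) * g₀⁻¹ := by rw [ht₁]; group
      _ = 1 := by rw [ht2]; group
  obtain ⟨g₁, hg₁, L, h, hgood, hh, e⟩ := f4_cell_shape ht₁G ht₁2 hw hc
  have hconj : ∃ g ∈ chevF4.group K, g * t * g⁻¹ = fxProd L * h * nWordGL good3_F4.toGood2 w := by
    refine ⟨g₁ * g₀, mul_mem hg₁ hg₀, ?_⟩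
    rw [← e, ht₁]; group
  have hzero := f4_descent hw hmax 48 (by norm_num) le_rfl L h hgood hh hconj
  have hone : fxProd L = 1 := by
    have : ∀ (M : List (Fin 48 × K)), (∀ p ∈ M, p.2 = 0) → fxProd M = 1 := by
      intro M hM
      induction M with
      | nil => rfl
      | cons q M ih =>
        rw [fxProd_cons, hM q List.mem_cons_self, fx_zero, one_mul]
        exact ih fun p hp => hM p (List.mem_cons_of_mem _ hp)
    apply this
    intro p hp
    rcases hzero p hp with h0 | h48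
    · exact h0
    · have := p.1.2; omega
  obtain ⟨g, hg, egt⟩ := hconj
  exact ⟨g, hg, w, hw, h, hh, by rw [egt, hone, one_mul]⟩

end Cfsg.Agent.Helper7.Chev
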