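import Mathlib
import Cfsg.Agent.Helper7.F4ClsD

set_option autoImplicit false
set_option linter.unusedSectionVars false
set_option linter.unusedVariables false
set_option maxHeartbeats 1000000

/-!
Type `F₄`, characteristic two: an involution of `N` lying over a product of reflections in pairwise orthogonal roots
is conjugate to the product of the root elements `x_r(1)` of these roots.
-/

namespace Cfsg.Agent.Helper7.Chev

open Cfsg Cfsg.Lie Matrix DoubleCoset
open scoped Pointwise

section sl2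

variable {D : ChevalleyDatum} {F : Type*} [Field F] [CharP F 2]

theorem antiSL_sq_char2 : (antiSL : Matrix.SpecialLinearGroup (Fin 2) F) * antiSL = 1 := by
  have h2 : (2 : F) = 0 := CharTwo.two_eq_zero
  have hneg : (-1 : F) = 1 := by linear_combination (-1 : F) * h2
  ext a b
  rw [Matrix.SpecialLinearGroup.coe_mul, Matrix.SpecialLinearGroup.coe_one]
  have e : ((antiSL : Matrix.SpecialLinearGroup (Fin 2) F) : Matrix (Fin 2) (Fin 2) F) =
      !![0, 1; -1, 0] := rfl
  rw [e]
  fin_cases a <;> fin_cases b <;> simp [Matrix.mul_apply, Fin.sum_univ_two, hneg]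

theorem lower_upper_char2 :
    (lowerSL 1 : Matrix.SpecialLinearGroup (Fin 2) F) * upperSL 1 = antiSL * lowerSL 1 := by
  have h2 : (2 : F) = 0 := CharTwo.two_eq_zero
  have hneg : (-1 : F) = 1 := by linear_combination (-1 : F) * h2
  have h11 : (1 : F) + 1 = 0 := by linear_combination h2
  ext a b
  rw [Matrix.SpecialLinearGroup.coe_mul, Matrix.SpecialLinearGroup.coe_mul]
  have e : ((antiSL : Matrix.SpecialLinearGroup (Fin 2) F) : Matrix (Fin 2) (Fin 2) F) =
      !![0, 1; -1, 0] := rfl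
  have e1 : ((lowerSL 1 : Matrix.SpecialLinearGroup (Fin 2) F) : Matrix (Fin 2) (Fin 2) F) =
      !![1, 0; 1, 1] := rfl
  have e2 : ((upperSL 1 : Matrix.SpecialLinearGroup (Fin 2) F) : Matrix (Fin 2) (Fin 2) F) =
      !![1, 1; 0, 1] := rfl
  rw [e, e1, e2]
  fin_cases a <;> fin_cases b <;> simp [Matrix.mul_apply, Fin.sum_univ_two, hneg, h11]

variable (hG : Good1 D) {r : ℕ} (hr : r < D.nroots)

theorem nGL_sq_char2 : (nGL hG hr : GL D.Idx F) * nGL hG hr = 1 := by
  unfold nGL
  rw [← map_mul, antiSL_sq_char2, map_one]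

theorem nGL_conj_char2 :
    xGL hG (hG.neg_lt hr) (1 : F) * xGL hG hr 1 = nGL hG hr * xGL hG (hG.neg_lt hr) 1 := by
  unfold nGL
  rw [← phiHom_lower' hG hr, ← phiHom_upper' hG hr, ← map_mul, ← map_mul, lower_upper_char2]

end sl2

variable {K : Type*} [Field K] [CharP K 2]

/-- In characteristic two the elements `n_w` of reversed words are inverse to each other. -/
theorem f4_nWordGL_reverse (w : List ℕ) (hw : ∀ i ∈ w, i < chevF4.rank) :
    (nWordGL good3_F4.toGood2 w.reverse : GL chevF4.Idx K) = (nWordGL good3_F4.toGood2 w)⁻¹ := by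
  have hG := good3_F4.toGood2
  induction w with
  | nil => simp [nWordGL_nil]
  | cons i w ih =>
    have hi : i < chevF4.rank := hw i List.mem_cons_self
    have hw' : ∀ j ∈ w, j < chevF4.rank := fun j hj => hw j (List.mem_cons_of_mem _ hj)
    rw [List.reverse_cons, nWordGL_append, ih hw', nWordGL_cons hG hi w, nWordGL_cons hG hi [], nWordGL_nil,
      mul_one, _root_.mul_inv_rev]
    congr 1
    exact (inv_eq_of_mul_eq_one_left (nGL_sq_char2 good3_F4.toGood1 _)).symm

/-- The fundamental roots and their negatives. -/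
def f4SimpleFin (i : ℕ) : Fin 48 := ([33, 27, 25, 24] : List (Fin 48)).getD i 0

def f4NegFin (i : ℕ) : Fin 48 := ([14, 20, 22, 23] : List (Fin 48)).getD i 0

theorem f4SimpleFin_val : ∀ i < 4, (f4SimpleFin i).val = chevF4.simple i ∧
    (f4NegFin i).val = chevF4.neg (chevF4.simple i) := by decide

/-- The root of a pair `(v, i)`: the image of the `i`-th fundamental root under `v`. -/
def f4DP (d : List ℕ × ℕ) : Fin 48 := f4Img d.1 (f4SimpleFin d.2)

def f4DQ (d : List ℕ × ℕ) : Fin 48 := f4Img d.1 (f4NegFin d.2)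

/-- The word of the reflection in the root of a pair. -/
def f4DWord (d : List ℕ × ℕ) : List ℕ := d.1 ++ [d.2] ++ d.1.reverse

def f4Big (D : List (List ℕ × ℕ)) : List ℕ := D.flatMap f4DWord

def f4DValid (d : List ℕ × ℕ) : Prop := (∀ i ∈ d.1, i < 4) ∧ d.2 < 4

instance (d : List ℕ × ℕ) : Decidable (f4DValid d) := by unfold f4DValid; infer_instance

/-- The root elements of two pairs commute. -/
def f4PairOK (d d' : List ℕ × ℕ) : Bool :=
  f4CommOK (f4DP d) (f4DP d') && f4CommOK (f4DP d) (f4DQ d') && f4CommOK (f4DQ d) (f4DP d') &&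
    f4CommOK (f4DQ d) (f4DQ d')

/-- The element of `N` of the reflection in the root of a pair is the conjugate of `x_r(1)` by `x_{-r}(1)`. -/
theorem f4_nWordGL_DWord {d : List ℕ × ℕ} (hd : f4DValid d) :
    (nWordGL good3_F4.toGood2 (f4DWord d) : GL chevF4.Idx K) =
      fx K (f4DQ d) 1 * fx K (f4DP d) 1 * (fx K (f4DQ d) 1)⁻¹ := by
  have hG := good3_F4.toGood2
  have hG1 := good3_F4.toGood1
  obtain ⟨hv, hi⟩ := hd
  have hir : d.2 < chevF4.rank := hi
  have hvr : ∀ j ∈ d.1, j < chevF4.rank := hv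
  obtain ⟨e1, e2⟩ := f4SimpleFin_val d.2 hi
  have hp := hG1.simple_lt hir
  have hx1 : fx K (f4SimpleFin d.2) 1 = xGL hG1 hp 1 := by
    unfold fx
    exact xGL_congr hG e1 _ _ _
  have hx2 : fx K (f4NegFin d.2) 1 = xGL hG1 (hG1.neg_lt hp) 1 := by
    unfold fx
    exact xGL_congr hG e2 _ _ _
  have hni : (nGL hG1 hp : GL chevF4.Idx K) =
      fx K (f4NegFin d.2) 1 * fx K (f4SimpleFin d.2) 1 * (fx K (f4NegFin d.2) 1)⁻¹ := by
    rw [hx1, hx2, nGL_conj_char2 hG1 hp]; group
  unfold f4DWord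
  rw [nWordGL_append, nWordGL_append, f4_nWordGL_reverse d.1 hvr, nWordGL_cons hG hir [], nWordGL_nil,
    mul_one, hni]
  unfold f4DP f4DQ
  rw [← conj_fx_img hvr, ← conj_fx_img hvr]
  group

/-- The product of the elements of `N` of the reflections in pairwise orthogonal roots. -/
theorem f4_nWordGL_Big (D : List (List ℕ × ℕ)) (hD : ∀ d ∈ D, f4DValid d)
    (hpw : D.Pairwise fun d d' => f4PairOK d d' = true) :
    (nWordGL good3_F4.toGood2 (f4Big D) : GL chevF4.Idx K) =
      fxProd (D.map fun d => (f4DQ d, (1 : K))) * fxProd (D.map fun d => (f4DP d, (1 : K))) *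
        (fxProd (D.map fun d => (f4DQ d, (1 : K))))⁻¹ := by
  induction D with
  | nil => simp [f4Big, nWordGL_nil, fxProd_nil]
  | cons d D ih =>
    have hd := hD d List.mem_cons_self
    have hD' : ∀ e ∈ D, f4DValid e := fun e he => hD e (List.mem_cons_of_mem _ he)
    obtain ⟨hpd, hpw'⟩ := List.pairwise_cons.mp hpw
    have e0 : f4Big (d :: D) = f4DWord d ++ f4Big D := by
      unfold f4Big; rw [List.flatMap_cons]
    rw [e0, nWordGL_append, ih hD' hpw', f4_nWordGL_DWord hd, List.map_cons, List.map_cons, fxProd_cons,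
      fxProd_cons]
    -- commutations
    have hc : ∀ (a : Fin 48), (∀ e ∈ D, f4CommOK a (f4DP e) = true ∧ f4CommOK a (f4DQ e) = true) →
        ∀ (t : K), fx K a t * fxProd (D.map fun d => (f4DQ d, (1 : K))) =
            fxProd (D.map fun d => (f4DQ d, (1 : K))) * fx K a t ∧
          fx K a t * fxProd (D.map fun d => (f4DP d, (1 : K))) =
            fxProd (D.map fun d => (f4DP d, (1 : K))) * fx K a t := by
      intro a ha t
      have key : ∀ (M : List (Fin 48 × K)), (∀ q ∈ M, f4CommOK a q.1 = true) →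
          fx K a t * fxProd M = fxProd M * fx K a t := by
        intro M hM
        induction M with
        | nil => simp [fxProd_nil]
        | cons q M ihM =>
          rw [fxProd_cons, ← mul_assoc, ← fx_comm_of_ok (hM q List.mem_cons_self) t q.2, mul_assoc,
            ihM fun q' hq' => hM q' (List.mem_cons_of_mem _ hq'), mul_assoc]
      constructor
      · apply key
        intro q hq
        obtain ⟨e, he, rfl⟩ := List.mem_map.mp hq
        exact (ha e he).2
      · apply key
        intro q hq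
        obtain ⟨e, he, rfl⟩ := List.mem_map.mp hq
        exact (ha e he).1
    have hP : ∀ e ∈ D, f4CommOK (f4DP d) (f4DP e) = true ∧ f4CommOK (f4DP d) (f4DQ e) = true := by
      intro e he
      have := hpd e he
      unfold f4PairOK at this
      simp only [Bool.and_eq_true] at this
      exact ⟨this.1.1.1, this.1.1.2⟩
    have hQ : ∀ e ∈ D, f4CommOK (f4DQ d) (f4DP e) = true ∧ f4CommOK (f4DQ d) (f4DQ e) = true := by
      intro e he
      have := hpd e he
      unfold f4PairOK at this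
      simp only [Bool.and_eq_true] at this
      exact ⟨this.1.2, this.2⟩
    obtain ⟨cPQ, cPP⟩ := hc (f4DP d) hP 1
    obtain ⟨cQQ, cQP⟩ := hc (f4DQ d) hQ 1
    set Y := fxProd (D.map fun d => (f4DQ d, (1 : K))) with hY
    set X := fxProd (D.map fun d => (f4DP d, (1 : K))) with hX
    set p := fx K (f4DP d) 1 with hp
    set q := fx K (f4DQ d) 1 with hq
    have cQQ' : q⁻¹ * Y = Y * q⁻¹ := by
      calc q⁻¹ * Y = q⁻¹ * (Y * q) * q⁻¹ := by group
        _ = q⁻¹ * (q * Y) * q⁻¹ := by rw [cQQ]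
        _ = _ := by group
    have cQP' : q⁻¹ * X = X * q⁻¹ := by
      calc q⁻¹ * X = q⁻¹ * (X * q) * q⁻¹ := by group
        _ = q⁻¹ * (q * X) * q⁻¹ := by rw [cQP]
        _ = _ := by group
    have cQQ'' : q⁻¹ * Y⁻¹ = Y⁻¹ * q⁻¹ := by
      calc q⁻¹ * Y⁻¹ = Y⁻¹ * (Y * q⁻¹) * Y⁻¹ := by group
        _ = Y⁻¹ * (q⁻¹ * Y) * Y⁻¹ := by rw [cQQ']
        _ = _ := by group
    calc q * p * q⁻¹ * (Y * X * Y⁻¹)
        = q * p * (q⁻¹ * Y) * X * Y⁻¹ := by group
      _ = q * p * (Y * q⁻¹) * X * Y⁻¹ := by rw [cQQ']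
      _ = q * (p * Y) * (q⁻¹ * X) * Y⁻¹ := by group
      _ = q * (Y * p) * (X * q⁻¹) * Y⁻¹ := by rw [cPQ, cQP']
      _ = q * Y * (p * X) * (q⁻¹ * Y⁻¹) := by group
      _ = q * Y * (p * X) * (Y⁻¹ * q⁻¹) := by rw [cQQ'']
      _ = _ := by group

/-- Square roots in the torus, which has odd exponent. -/
theorem f4_torus_odd [Fintype K] {k : GL chevF4.Idx K} (hk : k ∈ chevF4.diagonalSubgroup K) :
    ∃ N : ℕ, Odd N ∧ k ^ N = 1 := by
  classical
  rw [← torusHom_range good3_F4.toGood1] at hk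
  obtain ⟨c, rfl⟩ := hk
  obtain ⟨n, _, hcard⟩ := FiniteField.card K 2
  refine ⟨Fintype.card K - 1, ?_, ?_⟩
  · rw [hcard]
    have : 2 ≤ 2 ^ (n : ℕ) := by
      calc 2 = 2 ^ 1 := by norm_num
        _ ≤ 2 ^ (n : ℕ) := Nat.pow_le_pow_right (by norm_num) n.2
    have hev : Even (2 ^ (n : ℕ)) := (Nat.even_pow' (by exact n.ne_zero)).mpr even_two
    exact Nat.Even.sub_odd (by omega) hev odd_one
  · rw [← map_pow]
    have : c ^ (Fintype.card K - 1) = 1 := by
      funext i
      rw [Pi.pow_apply, Pi.one_apply, ← Fintype.card_units]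
      exact pow_card_eq_one
    rw [this, map_one]

/-- Two involutions in the same coset of the torus in `N` are conjugate under the torus. -/
theorem f4_torus_conj [Fintype K] {k m : GL chevF4.Idx K} (hk : k ∈ chevF4.diagonalSubgroup K)
    (hm : m * m = 1) (hkm : (k * m) * (k * m) = 1) :
    ∃ j ∈ chevF4.diagonalSubgroup K, j * m * j⁻¹ = k * m := by
  obtain ⟨N, hN, hkN⟩ := f4_torus_odd hk
  obtain ⟨a, rfl⟩ := hN
  have hminv : m⁻¹ = m := inv_eq_of_mul_eq_one_left hm
  have hconj : m * k * m⁻¹ = k⁻¹ := by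
    have : k * (m * k * m) = 1 := by
      calc k * (m * k * m) = (k * m) * (k * m) := by group
        _ = 1 := hkm
    rw [hminv]
    exact (inv_eq_of_mul_eq_one_right this).symm
  have hpow : ∀ e : ℕ, m * k ^ e * m⁻¹ = (k ^ e)⁻¹ := by
    intro e
    induction e with
    | zero => simp
    | succ e ih =>
      calc m * k ^ (e + 1) * m⁻¹ = (m * k ^ e * m⁻¹) * (m * k * m⁻¹) := by rw [pow_succ]; group
        _ = (k ^ e)⁻¹ * k⁻¹ := by rw [ih, hconj]
        _ = (k ^ (e + 1))⁻¹ := by
          rw [pow_succ, _root_.mul_inv_rev]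
          have : Commute (k ^ e)⁻¹ k⁻¹ := ((Commute.refl k).pow_left e).inv_inv
          exact this.eq
  refine ⟨k ^ (a + 1), Subgroup.pow_mem _ hk _, ?_⟩
  have hsq : k ^ (a + 1) * k ^ (a + 1) = k := by
    rw [← pow_add]
    have : a + 1 + (a + 1) = (2 * a + 1) + 1 := by ring
    rw [this, pow_succ, hkN, one_mul]
  calc k ^ (a + 1) * m * (k ^ (a + 1))⁻¹
      = k ^ (a + 1) * (m * k ^ (a + 1) * m⁻¹)⁻¹ * m := by group
    _ = k ^ (a + 1) * k ^ (a + 1) * m := by rw [hpow, inv_inv]
    _ = k * m := by rw [hsq]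

/-- An involution of `N` lying over the product of the reflections in pairwise orthogonal roots is conjugate to
the product of the root elements `x_r(1)`. -/
theorem f4_inv_N_conj [Fintype K] {w : List ℕ} (hw : ∀ i ∈ w, i < chevF4.rank)
    (D : List (List ℕ × ℕ)) (hD : ∀ d ∈ D, f4DValid d)
    (hpw : D.Pairwise fun d d' => f4PairOK d d' = true)
    (hPP : D.Pairwise fun d d' => f4CommOK (f4DP d) (f4DP d') = true)
    (hrefl : ∀ r < 48, fastF4.reflWord (f4Big D) r = fastF4.reflWord w r)
    {h : GL chevF4.Idx K} (hh : h ∈ chevF4.diagonalSubgroup K)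
    (hinv : (h * nWordGL good3_F4.toGood2 w) * (h * nWordGL good3_F4.toGood2 w) = 1) :
    ∃ g ∈ chevF4.group K, g * (h * nWordGL good3_F4.toGood2 w) * g⁻¹ =
      fxProd (D.map fun d => (f4DP d, (1 : K))) := by
  have hG := good3_F4.toGood2
  have hG1 := good3_F4.toGood1
  set X := fxProd (D.map fun d => (f4DP d, (1 : K))) with hX
  set Y := fxProd (D.map fun d => (f4DQ d, (1 : K))) with hY
  have hbig : ∀ i ∈ f4Big D, i < chevF4.rank := by
    intro i hi
    unfold f4Big at hi
    obtain ⟨d, hd, hi⟩ := List.mem_flatMap.mp hi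
    obtain ⟨hv, hd2⟩ := hD d hd
    unfold f4DWord at hi
    rcases List.mem_append.mp hi with hi | hi
    · rcases List.mem_append.mp hi with hi | hi
      · exact hv i hi
      · rw [List.mem_singleton] at hi; rw [hi]; exact hd2
    · exact hv i (List.mem_reverse.mp hi)
  have eN : (nWordGL hG (f4Big D) : GL chevF4.Idx K) = Y * X * Y⁻¹ := f4_nWordGL_Big D hD hpw
  -- `X` is an involution
  have hXX : X * X = 1 := by
    have key : ∀ (M : List (Fin 48 × K)), (M.Pairwise fun q q' => f4CommOK q.1 q'.1 = true) →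
        fxProd M * fxProd M = 1 := by
      intro M hM
      induction M with
      | nil => simp [fxProd_nil]
      | cons q M ihM =>
        obtain ⟨hq, hM'⟩ := List.pairwise_cons.mp hM
        have hc : fx K q.1 q.2 * fxProd M = fxProd M * fx K q.1 q.2 := by
          clear ihM hM hM'
          induction M with
          | nil => simp [fxProd_nil]
          | cons q' M ih2 =>
            rw [fxProd_cons, ← mul_assoc, ← fx_comm_of_ok (hq q' List.mem_cons_self) q.2 q'.2, mul_assoc,
              ih2 fun q'' hq'' => hq q'' (List.mem_cons_of_mem _ hq''), mul_assoc]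
        rw [fxProd_cons]
        calc fx K q.1 q.2 * fxProd M * (fx K q.1 q.2 * fxProd M)
            = fx K q.1 q.2 * (fxProd M * fx K q.1 q.2) * fxProd M := by group
          _ = fx K q.1 q.2 * (fx K q.1 q.2 * fxProd M) * fxProd M := by rw [hc]
          _ = (fx K q.1 q.2 * fx K q.1 q.2) * (fxProd M * fxProd M) := by group
          _ = 1 := by rw [fx_sq2, ihM hM', mul_one]
    apply key
    rw [List.pairwise_map]
    exact hPP
  set ñ : GL chevF4.Idx K := nWordGL hG (f4Big D) with hñ
  have hññ : ñ * ñ = 1 := by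
    rw [eN]
    calc Y * X * Y⁻¹ * (Y * X * Y⁻¹) = Y * (X * X) * Y⁻¹ := by group
      _ = 1 := by rw [hXX]; group
  obtain ⟨h₀, hh₀, e₀⟩ := nWordGL_eq_of_reflWord_eq (F := K) hG T0_F4 T6_F4 T8_F4 hbig hw
    (by intro r hr; rw [tab_F4]; exact hrefl r hr)
  rw [← hñ] at e₀
  -- `h n_w = k ñ`
  have ek : h * nWordGL hG w = (h * h₀⁻¹) * ñ := by rw [e₀]; group
  have hk : h * h₀⁻¹ ∈ chevF4.diagonalSubgroup K := mul_mem hh (inv_mem hh₀)
  rw [ek] at hinv
  obtain ⟨j, hj, ej⟩ := f4_torus_conj hk hññ hinv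
  have hYG : Y ∈ chevF4.group K := by
    apply fxProd_mem
    intro q hq
    exact fx_mem_group _ _
  refine ⟨(j * Y)⁻¹, inv_mem (mul_mem (diagonalSubgroup_le_group hG1 hj) hYG), ?_⟩
  rw [ek, ← ej, eN]
  group

end Cfsg.Agent.Helper7.Chev
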