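import Mathlib
import Cfsg.Agent.Helper7.ChevInvC
import Cfsg.Agent.Helper7.F4ClsE

set_option autoImplicit false
set_option linter.unusedSectionVars false
set_option linter.unusedVariables false
set_option maxHeartbeats 1000000

/-!
Root elements with natural number indices and their products, for any datum: conjugation by the elements of `N` in
characteristic two, commutation, transport of cells along words with the same action.
-/

namespace Cfsg.Agent.Helper7.Chev

open Cfsg Cfsg.Lie Matrix DoubleCoset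
open scoped Pointwise

/-- The table facts used throughout, in one bundle. -/
structure Ctx (D : ChevalleyDatum) : Prop where
  g3 : Good3 D
  t0 : T0 D
  t5 : (tabOf D).T5
  t6 : (tabOf D).T6
  t7 : (tabOf D).T7
  t8 : (tabOf D).T8
  t9 : (tabOf D).T9

variable {D : ChevalleyDatum} {K : Type*} [Field K]

/-- The root element `x_r(t)`, the identity when `r` is out of range. -/
noncomputable def ux (C : Ctx D) (K : Type*) [Field K] (r : ℕ) (t : K) : GL D.Idx K :=
  xGL' C.g3.toGood1 (r, t)

/-- The product of the root elements of a list. -/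
noncomputable def uw (C : Ctx D) (L : List (ℕ × K)) : GL D.Idx K :=
  (L.map fun p => ux C K p.1 p.2).prod

section basic

variable (C : Ctx D)

theorem ux_coe (r : ℕ) (t : K) : ((ux C K r t : GL D.Idx K) : Matrix D.Idx D.Idx K) = D.x K r t :=
  xGL'_coe _ _

theorem ux_of_lt {r : ℕ} (hr : r < D.nroots) (t : K) : ux C K r t = xGL C.g3.toGood1 hr t := by
  unfold ux xGL'
  rw [dif_pos hr]

theorem ux_of_ge {r : ℕ} (hr : ¬ r < D.nroots) (t : K) : ux C K r t = 1 := by
  unfold ux xGL'
  rw [dif_neg hr]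

theorem ux_zero (r : ℕ) : ux C K r (0 : K) = 1 := by
  by_cases hr : r < D.nroots
  · rw [ux_of_lt C hr]; exact xGL_zero _ _
  · exact ux_of_ge C hr _

theorem ux_add (r : ℕ) (a b : K) : ux C K r a * ux C K r b = ux C K r (a + b) := by
  by_cases hr : r < D.nroots
  · rw [ux_of_lt C hr, ux_of_lt C hr, ux_of_lt C hr]; exact xGL_mul _ _ _ _
  · rw [ux_of_ge C hr, ux_of_ge C hr, ux_of_ge C hr, one_mul]

theorem ux_inv (r : ℕ) (a : K) : (ux C K r a)⁻¹ = ux C K r (-a) := by
  by_cases hr : r < D.nroots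
  · rw [ux_of_lt C hr, ux_of_lt C hr]; exact xGL_inv _ _ _
  · rw [ux_of_ge C hr, ux_of_ge C hr, inv_one]

theorem ux_mem_group (r : ℕ) (a : K) : ux C K r a ∈ D.group K := xGL'_mem_group _ _

theorem ux_mem_pos {r : ℕ} (hr : r < D.nroots) (hpos : D.nroots / 2 ≤ r) (a : K) :
    ux C K r a ∈ D.posUnipotent K :=
  Subgroup.subset_closure ⟨r, a, (isPosRoot_iff C.t0 hr).mpr hpos, ux_coe C r a⟩

theorem ux_mem_neg {r : ℕ} (hr : r < D.nroots) (hneg : r < D.nroots / 2) (a : K) :
    ux C K r a ∈ D.negUnipotent K :=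
  Subgroup.subset_closure ⟨r, a, (isNegRoot_iff C.t0 hr).mpr hneg, ux_coe C r a⟩

theorem eq_ux {g : GL D.Idx K} {r : ℕ} (hr : r < D.nroots) {t : K}
    (hg : (g : Matrix D.Idx D.Idx K) = D.x K r t) : g = ux C K r t := by
  rw [ux_of_lt C hr]
  exact eq_xGL C.g3.toGood1 hr hg

theorem ux_ne_one {r : ℕ} (hr : r < D.nroots) {t : K} (ht : t ≠ 0) : ux C K r t ≠ 1 := by
  rw [ux_of_lt C hr]
  exact xGL_ne_one C.g3.toGood2 C.t0 C.t8 hr ht

theorem uw_nil : uw C ([] : List (ℕ × K)) = 1 := rfl

theorem uw_cons (p : ℕ × K) (L : List (ℕ × K)) : uw C (p :: L) = ux C K p.1 p.2 * uw C L := by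
  unfold uw
  rw [List.map_cons, List.prod_cons]

theorem uw_append (L L' : List (ℕ × K)) : uw C (L ++ L') = uw C L * uw C L' := by
  unfold uw
  rw [List.map_append, List.prod_append]

theorem uw_mem {H : Subgroup (GL D.Idx K)} (L : List (ℕ × K)) (h : ∀ p ∈ L, ux C K p.1 p.2 ∈ H) :
    uw C L ∈ H := by
  induction L with
  | nil => exact one_mem _
  | cons p L ih =>
    rw [uw_cons]
    exact mul_mem (h p List.mem_cons_self) (ih fun q hq => h q (List.mem_cons_of_mem _ hq))

theorem uw_coe (L : List (ℕ × K)) : ((uw C L : GL D.Idx K) : Matrix D.Idx D.Idx K) = D.wordMat K L :=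
  wordGL_coe _ _

/-- Root elements whose roots have no commutator terms commute. -/
theorem ux_commute_of_nil {r s : ℕ} (hr : r < D.nroots) (hs : s < D.nroots) (hsr : s ≠ r)
    (hsn : s ≠ D.neg r) (h : (tabOf D).commTerms r s = []) (t u : K) :
    Commute (ux C K r t) (ux C K s u) := by
  rw [ux_of_lt C hr, ux_of_lt C hs]
  exact xGL_commute_of_terms_nil C.g3.toGood2 C.g3.t3 C.g3.t4 hr hs hsr hsn h t u

theorem ux_commute_self (r : ℕ) (t u : K) : Commute (ux C K r t) (ux C K r u) := by
  unfold Commute SemiconjBy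
  rw [ux_add, ux_add, add_comm]

/-- Removing the trivial factors of a product of root elements. -/
theorem uw_filter_nz [DecidableEq K] (L : List (ℕ × K)) :
    uw C (L.filter fun p => decide (p.2 ≠ 0)) = uw C L := by
  induction L with
  | nil => rfl
  | cons p L ih =>
    by_cases hp : p.2 = 0
    · rw [List.filter_cons_of_neg (by simpa using hp), uw_cons, ih, hp, ux_zero, one_mul]
    · rw [List.filter_cons_of_pos (by simpa using hp), uw_cons, uw_cons, ih]

theorem uw_eq_one_of_zero (L : List (ℕ × K)) (h : ∀ p ∈ L, p.2 = 0) : uw C L = 1 := by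
  induction L with
  | nil => rfl
  | cons q M ih =>
    rw [uw_cons, h q List.mem_cons_self, ux_zero, one_mul]
    exact ih fun p hp => h p (List.mem_cons_of_mem _ hp)

end basic

section char2

variable (C : Ctx D) [CharP K 2]

theorem ux_sq (r : ℕ) (a : K) : ux C K r a * ux C K r a = 1 := by
  rw [ux_add, CharTwo.add_self_eq_zero, ux_zero]

theorem ux_inv' (r : ℕ) (a : K) : (ux C K r a)⁻¹ = ux C K r a :=
  inv_eq_of_mul_eq_one_left (ux_sq C r a)

/-- Conjugation of a root element by the element of `N` of a word, in characteristic two. -/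
theorem conj_ux {w : List ℕ} (hw : ∀ i ∈ w, i < D.rank) {r : ℕ} (hr : r < D.nroots) (a : K) :
    nWordGL C.g3.toGood2 w * ux C K r a * (nWordGL C.g3.toGood2 w)⁻¹ =
      ux C K ((tabOf D).reflWord w r) a := by
  have hG := C.g3.toGood2
  have h2 : (2 : K) = 0 := CharTwo.two_eq_zero
  have hr' := reflWord_lt hG hw hr
  rw [ux_of_lt C hr, ux_of_lt C hr', nWordGL_conj (F := K) hG hw hr a]
  have hη := etaWord_cast_mul_self (F := K) hG hw hr
  have hη1 : (((tabOf D).etaWord w r : ℤ) : K) = 1 := by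
    set η : K := (((tabOf D).etaWord w r : ℤ) : K)
    have : (η - 1) * (η - 1) = 0 := by linear_combination hη + (1 - η) * h2
    have := mul_self_eq_zero.mp this
    exact sub_eq_zero.mp this
  rw [hη1, one_mul]

theorem conj_mul_mul {G : Type*} [Group G] (n a b : G) :
    n * (a * b) * n⁻¹ = n * a * n⁻¹ * (n * b * n⁻¹) := by group

theorem conj_uw {w : List ℕ} (hw : ∀ i ∈ w, i < D.rank) (L : List (ℕ × K)) (hL : ∀ p ∈ L, p.1 < D.nroots) :
    nWordGL C.g3.toGood2 w * uw C L * (nWordGL C.g3.toGood2 w)⁻¹ =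
      uw C (L.map fun p => ((tabOf D).reflWord w p.1, p.2)) := by
  induction L with
  | nil => rw [uw_nil, List.map_nil, uw_nil]; group
  | cons p L ih =>
    rw [List.map_cons, uw_cons, uw_cons, conj_mul_mul, ih fun q hq => hL q (List.mem_cons_of_mem _ hq),
      conj_ux C hw (hL p List.mem_cons_self)]

/-- In characteristic two the elements `n_w` of reversed words are inverse to each other. -/
theorem nWordGL_reverse_char2 (w : List ℕ) (hw : ∀ i ∈ w, i < D.rank) :
    (nWordGL C.g3.toGood2 w.reverse : GL D.Idx K) = (nWordGL C.g3.toGood2 w)⁻¹ := by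
  have hG := C.g3.toGood2
  induction w with
  | nil => simp [nWordGL_nil]
  | cons i w ih =>
    have hi : i < D.rank := hw i List.mem_cons_self
    have hw' : ∀ j ∈ w, j < D.rank := fun j hj => hw j (List.mem_cons_of_mem _ hj)
    rw [List.reverse_cons, nWordGL_append, ih hw', nWordGL_cons hG hi w, nWordGL_cons hG hi [], nWordGL_nil,
      mul_one, _root_.mul_inv_rev]
    congr 1
    exact (inv_eq_of_mul_eq_one_left (nGL_sq_char2 C.g3.toGood1 _)).symm

theorem nGL_eq_nWordGL {i : ℕ} (hi : i < D.rank) :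
    (nGL C.g3.toGood1 (C.g3.toGood1.simple_lt hi) : GL D.Idx K) = nWordGL C.g3.toGood2 [i] := by
  rw [nWordGL_cons C.g3.toGood2 hi, nWordGL_nil, mul_one]

end char2

section cells

variable (C : Ctx D)

theorem minusGen_congr {w v : List ℕ} (h : SameAct D w v) : minusGen D K w = minusGen D K v := by
  ext x
  constructor
  · rintro ⟨r, t, hr, hneg, hx⟩
    exact ⟨r, t, hr, by rw [← h r hr.1]; exact hneg, hx⟩
  · rintro ⟨r, t, hr, hneg, hx⟩
    exact ⟨r, t, hr, by rw [h r hr.1]; exact hneg, hx⟩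

/-- Cells depend only on the action of the word. -/
theorem inCell_of_sameAct {g : GL D.Idx K} {w v : List ℕ} (hw : ∀ i ∈ w, i < D.rank)
    (hv : ∀ i ∈ v, i < D.rank) (h : SameAct D w v) (hc : InCell C.g3.toGood2 K g w) :
    InCell C.g3.toGood2 K g v := by
  obtain ⟨b, hb, u, hu, e⟩ := hc
  obtain ⟨h₀, hh₀, e₀⟩ := nWordGL_eq_of_reflWord_eq (F := K) C.g3.toGood2 C.t0 C.t6 C.t8 hw hv h
  refine ⟨b * h₀, mul_mem hb (Subgroup.mem_sup_right hh₀), u, ?_, ?_⟩
  · rw [← minusGen_congr h]; exact hu
  · rw [e, e₀]; group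

/-- Uniqueness of the normal form for a fixed word. -/
theorem normal_form_unique_word {v : List ℕ} (hv : ∀ i ∈ v, i < D.rank) {b b' u u' : GL D.Idx K}
    (hb : b ∈ D.borelSubgroup K) (hb' : b' ∈ D.borelSubgroup K)
    (hu : u ∈ Subgroup.closure (minusGen D K v)) (hu' : u' ∈ Subgroup.closure (minusGen D K v))
    (e : b * nWordGL C.g3.toGood2 v * u = b' * nWordGL C.g3.toGood2 v * u') : b = b' ∧ u = u' := by
  have hG := C.g3.toGood2
  have hsub : Subgroup.closure (minusGen D K v) ≤ Subgroup.closure (minusGen' D K (nWordGL hG v)) := by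
    apply Subgroup.closure_mono
    have := minusGen_subset (F := K) hG C.t0 hv (one_mem (D.diagonalSubgroup K))
    rwa [one_mul] at this
  have key := (bruhat_normal_form (F := K) hG C.t0 C.g3.t3 C.g3.t4 C.t5 C.t6 C.t8 C.t9).2 b b' (nWordGL hG v)
    (nWordGL hG v) u u' hb hb' (nWordGL_mem hG v) (nWordGL_mem hG v) (hsub hu) (hsub hu') e
  exact key.2 rfl

end cells

end Cfsg.Agent.Helper7.Chev
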