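import Mathlib
import Cfsg.Agent.Helper7.ChevInvD

set_option autoImplicit false
set_option linter.unusedSectionVars false
set_option linter.unusedVariables false
set_option maxHeartbeats 1000000

/-!
Characteristic two, any datum: the shape `x h n_v` of a conjugate of an involution lying in the cell of a special
involution `v` of the Weyl group, where `x` is a product of root elements of roots fixed by `v`. The facts on `v` are
decidable table facts.
-/

namespace Cfsg.Agent.Helper7.Chev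

open Cfsg Cfsg.Lie Matrix DoubleCoset
open scoped Pointwise

namespace Tab

variable (T : Tab)

/-- The positive roots mapped to positive roots by the word. -/
def psiP (w : List ℕ) (r : ℕ) : Bool :=
  decide (T.n / 2 ≤ r) && decide (r < T.n) && decide (T.n / 2 ≤ T.reflWord w r)

/-- The number of positive roots made negative by the word. -/
def nM (w : List ℕ) : ℕ :=
  ((List.range' (T.n / 2) (T.n - T.n / 2)).filter (fun r => decide (T.reflWord w r < T.n / 2))).length

/-- The table facts on a special involution of the Weyl group. -/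
def SpecOK (w : List ℕ) : Prop :=
  (∀ i ∈ w, i < T.l) ∧
  (∀ r < T.n, T.psiP w r = true → T.reflWord w r = r) ∧
  (∀ r < T.n, ∀ s < T.n, T.n / 2 ≤ r → T.n / 2 ≤ s → s ≠ r → T.reflWord w s < T.n / 2 →
    (T.commTerms r s).all (fun c => decide (T.n / 2 ≤ c.1) && decide (c.1 < T.n) &&
      decide (T.reflWord w c.1 < T.n / 2)) = true) ∧
  (∀ k < T.n, T.psiP w k = true → (∃ i < T.l, T.simple i = k) ∨
    ∃ i < T.l, T.reflWord w (T.simple i) = T.simple i ∧ T.n / 2 ≤ T.reflWord [i] k ∧
      T.reflWord [i] k < k ∧ T.simple i < k) ∧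
  (∀ i < T.l, T.reflWord w (T.simple i) = T.simple i →
    ∀ r < T.n, T.reflWord (i :: w ++ [i]) r = T.reflWord w r) ∧
  (∀ i < T.l, T.reflWord w (T.simple i) = T.simple i → T.nM w < T.nM (i :: w)) ∧
  (∀ i < T.l, T.reflWord w (T.simple i) = T.simple i → ∀ r < T.n, T.psiP w r = true → r ≠ T.simple i →
    T.psiP w (T.reflWord [i] r) = true) ∧
  (∀ r < T.n, T.reflWord w.reverse r = T.reflWord w r)

set_option synthInstance.maxSize 4000 in
set_option synthInstance.maxHeartbeats 400000 in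
instance (w : List ℕ) : Decidable (T.SpecOK w) := by unfold SpecOK; infer_instance

end Tab

variable {D : ChevalleyDatum} {K : Type*} [Field K]

theorem nMinus_eq_nM (w : List ℕ) : nMinus D w = (tabOf D).nM w := rfl

theorem psiP_iff {w : List ℕ} {r : ℕ} : (tabOf D).psiP w r = true ↔
    (D.nroots / 2 ≤ r ∧ r < D.nroots) ∧ D.nroots / 2 ≤ (tabOf D).reflWord w r := by
  unfold Tab.psiP
  simp only [Bool.and_eq_true, decide_eq_true_eq]
  rfl

section shape

variable (C : Ctx D) [CharP K 2]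

/-- `U_v⁻` is normalised by the root elements of the positive roots. -/
theorem minus_normal {v : List ℕ} (hS : (tabOf D).SpecOK v) {r : ℕ} (hr : r < D.nroots)
    (hpos : D.nroots / 2 ≤ r) (t : K) :
    ux C K r t ∈ Subgroup.normalizer (Subgroup.closure (minusGen D K v) : Set (GL D.Idx K)) := by
  have hG := C.g3.toGood2
  have hG1 := C.g3.toGood1
  obtain ⟨hval, ha, hb, hc, hd, he, hg, hh⟩ := hS
  have key : ∀ (t : K) (x : GL D.Idx K), x ∈ minusGen D K v →
      (ux C K r t)⁻¹ * x * ux C K r t ∈ Subgroup.closure (minusGen D K v) := by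
    rintro t x ⟨s, u, hspos, hsneg, hx⟩
    have hs := hspos.1
    have hs2 := (isPosRoot_iff C.t0 hs).mp hspos
    rw [eq_ux C hs hx]
    by_cases hsr : s = r
    · subst hsr
      rw [ux_inv, ux_add, ux_add]
      have : -t + u + t = u := by ring
      rw [this]
      exact Subgroup.subset_closure ⟨s, u, hspos, hsneg, ux_coe C s u⟩
    · have hsn : s ≠ D.neg r := by
        intro h
        have := neg_neg_of_pos hG C.t0 hr hpos
        omega
      have hcm := comm_all (F := K) hG C.g3.t3 C.g3.t4 hr hs hsr hsn t u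
      have htab := hb r hr s hs hpos hs2 hsr hsneg
      have hwd : ∀ q ∈ D.commWord K r s t u, D.IsPosRoot q.1 ∧
          (tabOf D).reflWord v q.1 < D.nroots / 2 := by
        intro q hq
        unfold ChevalleyDatum.commWord at hq
        rw [List.mem_map] at hq
        obtain ⟨c, hc', rfl⟩ := hq
        rw [← commTerms_eq] at hc'
        rw [List.all_eq_true] at htab
        have := htab c hc'
        simp only [Bool.and_eq_true, decide_eq_true_eq] at this
        exact ⟨(isPosRoot_iff C.t0 this.1.2).mpr this.1.1, this.2⟩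
      have e : (ux C K r t)⁻¹ * ux C K s u * ux C K r t =
          ux C K s u * uw C (D.commWord K r s t u) := by
        rw [mul_assoc, inv_mul_eq_iff_eq_mul]
        apply Units.ext
        simp only [Units.val_mul, ux_coe, uw_coe]
        rw [hcm, mul_assoc]
      rw [e]
      apply mul_mem
      · exact Subgroup.subset_closure ⟨s, u, hspos, hsneg, ux_coe C s u⟩
      · apply uw_mem
        intro q hq
        obtain ⟨q1, q2⟩ := hwd q hq
        exact Subgroup.subset_closure ⟨q.1, q.2, q1, q2, ux_coe C q.1 q.2⟩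
  apply mem_normalizer_closure
  · intro x hx
    have := key (-t) x hx
    rwa [← ux_inv, inv_inv] at this
  · intro x hx
    exact key t x hx

include C in
/-- `U_v⁻` is normalised by `U`. -/
theorem pos_le_normalizer_minus {v : List ℕ} (hS : (tabOf D).SpecOK v) :
    D.posUnipotent K ≤ Subgroup.normalizer (Subgroup.closure (minusGen D K v) : Set (GL D.Idx K)) := by
  unfold ChevalleyDatum.posUnipotent
  rw [Subgroup.closure_le]
  rintro x ⟨r, t, hr, hx⟩
  rw [eq_ux C hr.1 hx]
  exact minus_normal C hS hr.1 ((isPosRoot_iff C.t0 hr.1).mp hr) t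

/-- A product of root elements of positive roots is the product of the factors whose roots stay positive under `v`
times an element of `U_v⁻`. -/
theorem split_minus {v : List ℕ} (hS : (tabOf D).SpecOK v) (L : List (ℕ × K))
    (hL : ∀ p ∈ L, D.nroots / 2 ≤ p.1 ∧ p.1 < D.nroots) :
    ∃ m ∈ Subgroup.closure (minusGen D K v),
      uw C L = uw C (L.filter fun p => (tabOf D).psiP v p.1) * m := by
  induction L with
  | nil => exact ⟨1, one_mem _, by simp [uw_nil]⟩
  | cons p L ih =>
    obtain ⟨m, hm, e⟩ := ih fun q hq => hL q (List.mem_cons_of_mem _ hq)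
    obtain ⟨hp1, hp2⟩ := hL p List.mem_cons_self
    by_cases hP : (tabOf D).psiP v p.1 = true
    · refine ⟨m, hm, ?_⟩
      rw [List.filter_cons_of_pos (p := fun p : ℕ × K => (tabOf D).psiP v p.1) hP, uw_cons, uw_cons,
        e, mul_assoc]
    · set F := uw C (L.filter fun p => (tabOf D).psiP v p.1) with hF
      have hFU : F ∈ D.posUnipotent K := by
        apply uw_mem
        intro q hq
        obtain ⟨hq1, hq2⟩ := hL q (List.mem_cons_of_mem _ (List.mem_filter.mp hq).1)
        exact ux_mem_pos C hq2 hq1 _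
      have hgen : ux C K p.1 p.2 ∈ Subgroup.closure (minusGen D K v) := by
        apply Subgroup.subset_closure
        refine ⟨p.1, p.2, (isPosRoot_iff C.t0 hp2).mpr hp1, ?_, ux_coe C p.1 p.2⟩
        by_contra hcon
        apply hP
        rw [psiP_iff]
        exact ⟨⟨hp1, hp2⟩, by omega⟩
      have hconj : F⁻¹ * ux C K p.1 p.2 * F ∈ Subgroup.closure (minusGen D K v) := by
        have hn := pos_le_normalizer_minus (K := K) C hS (inv_mem hFU)
        have := (Subgroup.mem_set_normalizer_iff.mp hn (ux C K p.1 p.2)).mp hgen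
        rwa [inv_inv] at this
      refine ⟨F⁻¹ * ux C K p.1 p.2 * F * m, mul_mem hconj hm, ?_⟩
      rw [List.filter_cons_of_neg (p := fun p : ℕ × K => (tabOf D).psiP v p.1) hP, uw_cons, e, ← hF]
      group

/-- Lists of root elements whose nonzero entries have roots fixed by `v`. -/
def GoodL (D : ChevalleyDatum) (v : List ℕ) (L : List (ℕ × K)) : Prop :=
  (L.map Prod.fst).Nodup ∧ ∀ p ∈ L, p.1 < D.nroots ∧ (p.2 = 0 ∨ (tabOf D).psiP v p.1 = true)

/-- `n_v` commutes with the products of root elements of roots fixed by `v`. -/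
theorem nw_comm {v : List ℕ} (hS : (tabOf D).SpecOK v) {L : List (ℕ × K)}
    (hL : ∀ p ∈ L, p.1 < D.nroots ∧ (p.2 = 0 ∨ (tabOf D).psiP v p.1 = true)) :
    nWordGL C.g3.toGood2 v * uw C L * (nWordGL C.g3.toGood2 v)⁻¹ = uw C L := by
  obtain ⟨hval, ha, hb, hc, hd, he, hg, hh⟩ := hS
  have hvlt : ∀ i ∈ v, i < D.rank := hval
  rw [conj_uw C hvlt L fun p hp => (hL p hp).1]
  induction L with
  | nil => rfl
  | cons p L ih =>
    rw [List.map_cons, uw_cons, uw_cons, ih fun q hq => hL q (List.mem_cons_of_mem _ hq)]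
    congr 1
    obtain ⟨hp, h0 | hP⟩ := hL p List.mem_cons_self
    · rw [h0, ux_zero, ux_zero]
    · rw [ha p.1 hp hP]

/-- Every element of `U` is a product of root elements of distinct positive roots. -/
theorem exists_uw_of_mem_pos {u : GL D.Idx K} (hu : u ∈ D.posUnipotent K) :
    ∃ L : List (ℕ × K), (L.map Prod.fst).Nodup ∧ (∀ p ∈ L, D.nroots / 2 ≤ p.1 ∧ p.1 < D.nroots) ∧
      u = uw C L := by
  obtain ⟨t, -, e⟩ := posUnipotent_word C.g3.toGood2 C.t0 C.g3.t3 C.g3.t4 C.t7 hu
  refine ⟨D.posRoots.map fun r => (r, t r), ?_, ?_, ?_⟩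
  · rw [List.map_map]
    have : (Prod.fst ∘ fun r => (r, t r)) = id := by funext r; rfl
    rw [this, List.map_id, posRoots_eq C.t0]
    exact List.nodup_range'
  · intro p hp
    obtain ⟨r, hr, rfl⟩ := List.mem_map.mp hp
    rw [posRoots_eq C.t0, List.mem_range'_1] at hr
    have := Nat.div_le_self D.nroots 2
    exact ⟨hr.1, by omega⟩
  · apply Units.ext
    rw [e, uw_coe]

/-- The inverse of `n_v`, for a special involution `v`. -/
theorem nw_inv {v : List ℕ} (hS : (tabOf D).SpecOK v) :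
    ∃ z ∈ D.diagonalSubgroup K,
      (nWordGL C.g3.toGood2 v : GL D.Idx K)⁻¹ = z * nWordGL C.g3.toGood2 v := by
  obtain ⟨hval, ha, hb, hc, hd, he, hg, hh⟩ := hS
  have hvlt : ∀ i ∈ v, i < D.rank := hval
  have hrev : ∀ i ∈ v.reverse, i < D.rank := fun i hi => hvlt i (List.mem_reverse.mp hi)
  obtain ⟨h₁, hh₁, e₁⟩ := nWordGL_eq_of_reflWord_eq (F := K) C.g3.toGood2 C.t0 C.t6 C.t8 hrev hvlt hh
  refine ⟨h₁, hh₁, ?_⟩
  rw [← nWordGL_reverse_char2 C v hvlt, e₁]

/-- A conjugate of an involution in the cell of a special involution `v` of the form `x h n_v`, where `x` is a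
product of root elements of roots fixed by `v`. -/
theorem cell_shape {t : GL D.Idx K} (ht : t ∈ D.group K) (ht2 : t * t = 1) {v : List ℕ}
    (hS : (tabOf D).SpecOK v) (hc : InCell C.g3.toGood2 K t v) :
    ∃ g ∈ D.group K, ∃ (L : List (ℕ × K)) (h : GL D.Idx K), GoodL D v L ∧
      h ∈ D.diagonalSubgroup K ∧ g * t * g⁻¹ = uw C L * h * nWordGL C.g3.toGood2 v := by
  have hG := C.g3.toGood2
  have hHB : D.diagonalSubgroup K ≤ D.borelSubgroup K := le_sup_right
  have hUB : D.posUnipotent K ≤ D.borelSubgroup K := le_sup_left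
  have hvlt : ∀ i ∈ v, i < D.rank := hS.1
  obtain ⟨b, hb, um, hum, e⟩ := hc
  have humU : um ∈ D.posUnipotent K := minusGen_closure_le_pos v hum
  set n : GL D.Idx K := nWordGL hG v with hn
  have hnN : n ∈ D.monomialSubgroup K := nWordGL_mem hG v
  have hnNorm := monomialSubgroup_le_normalizer hG hnN
  obtain ⟨u₂, hu₂, h₂, hh₂, eb⟩ := borel_decomp hG (mul_mem (hUB humU) hb)
  obtain ⟨L0, hnd0, hpos0, eu⟩ := exists_uw_of_mem_pos C hu₂
  obtain ⟨m, hm, esplit⟩ := split_minus (K := K) C hS L0 hpos0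
  set Lp := L0.filter fun p => (tabOf D).psiP v p.1 with hLp
  have hgood : GoodL D v Lp := by
    refine ⟨(List.filter_sublist.map Prod.fst).nodup hnd0, ?_⟩
    intro p hp
    exact ⟨(hpos0 p (List.mem_filter.mp hp).1).2, Or.inr (List.mem_filter.mp hp).2⟩
  set Fp := uw C Lp with hFp
  have hFpU : Fp ∈ D.posUnipotent K := by
    apply uw_mem
    intro q hq
    obtain ⟨hq1, hq2⟩ := hpos0 q (List.mem_filter.mp hq).1
    exact ux_mem_pos C hq2 hq1 _
  have hcomm : n * Fp * n⁻¹ = Fp := nw_comm C hS hgood.2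
  have hcomm' : n⁻¹ * Fp⁻¹ * n = Fp⁻¹ := by
    have : n * Fp⁻¹ * n⁻¹ = Fp⁻¹ := by
      calc n * Fp⁻¹ * n⁻¹ = (n * Fp * n⁻¹)⁻¹ := by group
        _ = _ := by rw [hcomm]
    calc n⁻¹ * Fp⁻¹ * n = n⁻¹ * (n * Fp⁻¹ * n⁻¹) * n := by rw [this]
      _ = _ := by group
  -- the conjugate
  set t₂ := um * t * um⁻¹ with ht₂
  have et₂ : t₂ = (Fp * m * h₂) * n * 1 := by
    calc t₂ = (um * b) * n := by rw [ht₂, e]; group
      _ = (u₂ * h₂) * n := by rw [eb]
      _ = _ := by rw [eu, esplit]; group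
  have ht₂inv : t₂⁻¹ = t₂ := by
    have : t⁻¹ = t := inv_eq_of_mul_eq_one_left ht2
    calc t₂⁻¹ = um * t⁻¹ * um⁻¹ := by rw [ht₂]; group
      _ = _ := by rw [this]
  obtain ⟨z, hz, ez⟩ := nw_inv (K := K) C hS
  rw [← hn] at ez
  have et₂' : t₂ = (z * (n * h₂⁻¹ * n⁻¹) * Fp⁻¹) * n * (Fp * m⁻¹ * Fp⁻¹) := by
    have e1 : t₂⁻¹ = n⁻¹ * h₂⁻¹ * m⁻¹ * Fp⁻¹ := by rw [et₂]; group
    have e2 : (z * (n * h₂⁻¹ * n⁻¹) * Fp⁻¹) * n * (Fp * m⁻¹ * Fp⁻¹) =
        (z * n) * h₂⁻¹ * (n⁻¹ * Fp⁻¹ * n) * Fp * m⁻¹ * Fp⁻¹ := by group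
    rw [← ht₂inv, e1, e2, hcomm', ← ez]; group
  have hb1 : Fp * m * h₂ ∈ D.borelSubgroup K :=
    mul_mem (mul_mem (hUB hFpU) (hUB (minusGen_closure_le_pos v hm))) (hHB hh₂)
  have hb2 : z * (n * h₂⁻¹ * n⁻¹) * Fp⁻¹ ∈ D.borelSubgroup K :=
    mul_mem (mul_mem (hHB hz) (hHB (conj_mem_diagonal hnNorm (inv_mem hh₂)))) (inv_mem (hUB hFpU))
  have hm2 : Fp * m⁻¹ * Fp⁻¹ ∈ Subgroup.closure (minusGen D K v) := by
    have hn' := pos_le_normalizer_minus (K := K) C hS hFpU
    exact (Subgroup.mem_set_normalizer_iff.mp hn' m⁻¹).mp (inv_mem hm)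
  have huniq := normal_form_unique_word C hvlt hb1 hb2 (one_mem _) hm2 (et₂.symm.trans et₂')
  have hm1 : m = 1 := by
    have := huniq.2
    have e3 : m⁻¹ = Fp⁻¹ * (Fp * m⁻¹ * Fp⁻¹) * Fp := by group
    rw [← this] at e3
    have : m⁻¹ = 1 := by rw [e3]; group
    exact inv_eq_one.mp this
  refine ⟨um, posUnipotent_le_group humU, Lp, h₂, hgood, hh₂, ?_⟩
  rw [← ht₂, et₂, hm1, mul_one, mul_one]

end shape

end Cfsg.Agent.Helper7.Chev
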