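import Mathlib
import Cfsg.Agent.Helper7.ChevInvE

set_option autoImplicit false
set_option linter.unusedSectionVars false
set_option linter.unusedVariables false
set_option maxHeartbeats 1000000

/-!
Characteristic two, any datum: every involution is conjugate to an involution of `N` lying over a special involution
of the Weyl group, given a list of special involutions with their table facts.
-/

namespace Cfsg.Agent.Helper7.Chev

open Cfsg Cfsg.Lie Matrix DoubleCoset
open scoped Pointwise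

variable {D : ChevalleyDatum} {K : Type*} [Field K] [CharP K 2]

section descent

variable (C : Ctx D)

theorem reflWord_single (i r : ℕ) : (tabOf D).reflWord [i] r = (tabOf D).refl (D.simple i) r := rfl

theorem valid_single {i : ℕ} (hi : i < D.rank) : ∀ j ∈ [i], j < D.rank := by
  intro j hj
  rw [List.mem_singleton] at hj
  rw [hj]
  exact hi

/-- Conjugating `n_v` by a fundamental reflection fixed by `v`. -/
theorem conj_nw {v : List ℕ} (hS : (tabOf D).SpecOK v) {i : ℕ} (hi : i < D.rank)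
    (hfix : (tabOf D).reflWord v (D.simple i) = D.simple i) :
    ∃ h' ∈ D.diagonalSubgroup K,
      nGL C.g3.toGood1 (C.g3.toGood1.simple_lt hi) * nWordGL C.g3.toGood2 v *
        (nGL C.g3.toGood1 (C.g3.toGood1.simple_lt hi))⁻¹ = h' * nWordGL C.g3.toGood2 v := by
  have hG := C.g3.toGood2
  have hG1 := C.g3.toGood1
  obtain ⟨hval, ha, hb, hc, hd, he, hg, hh⟩ := hS
  have hvlt : ∀ j ∈ v, j < D.rank := hval
  set ni : GL D.Idx K := nGL hG1 (hG1.simple_lt hi) with hni
  set n : GL D.Idx K := nWordGL hG v with hn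
  have hnN : n ∈ D.monomialSubgroup K := nWordGL_mem hG v
  have hnNorm := monomialSubgroup_le_normalizer hG hnN
  have hsq : ni * ni ∈ D.diagonalSubgroup K := nGL_sq_mem hG _
  have hiwi : ∀ j ∈ i :: v ++ [i], j < D.rank := by
    intro j hj
    rcases List.mem_append.mp hj with hj | hj
    · rcases List.mem_cons.mp hj with rfl | hj
      · exact hi
      · exact hvlt j hj
    · rw [List.mem_singleton] at hj; rw [hj]; exact hi
  obtain ⟨h₀, hh₀, e₀⟩ := nWordGL_eq_of_reflWord_eq (F := K) hG C.t0 C.t6 C.t8 hiwi hvlt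
    (hd i hi hfix)
  have e₁ : (nWordGL hG (i :: v ++ [i]) : GL D.Idx K) = ni * n * ni := by
    rw [nWordGL_append, nWordGL_cons hG hi, nWordGL_cons hG hi [], nWordGL_nil, mul_one]
  refine ⟨h₀ * (n * (ni * ni)⁻¹ * n⁻¹), mul_mem hh₀ (conj_mem_diagonal hnNorm (inv_mem hsq)), ?_⟩
  calc ni * n * ni⁻¹ = (ni * n * ni) * (ni * ni)⁻¹ := by group
    _ = h₀ * n * (ni * ni)⁻¹ := by rw [← e₁, e₀]
    _ = _ := by group

/-- Conjugating an element `x h n_v` by a fundamental reflection fixed by `v`, when no factor of `x` belongs to the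
fundamental root. -/
theorem move_simple [DecidableEq K] {v : List ℕ} (hS : (tabOf D).SpecOK v) {i : ℕ} (hi : i < D.rank)
    (hfix : (tabOf D).reflWord v (D.simple i) = D.simple i) {L : List (ℕ × K)} {h : GL D.Idx K}
    (hgood : GoodL D v L) (hh : h ∈ D.diagonalSubgroup K)
    (hgt : ∀ p ∈ L, p.2 = 0 ∨ D.simple i < p.1) :
    ∃ h' ∈ D.diagonalSubgroup K,
      GoodL D v ((L.filter fun p => decide (p.2 ≠ 0)).map fun p => ((tabOf D).reflWord [i] p.1, p.2)) ∧
      nGL C.g3.toGood1 (C.g3.toGood1.simple_lt hi) * (uw C L * h * nWordGL C.g3.toGood2 v) *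
        (nGL C.g3.toGood1 (C.g3.toGood1.simple_lt hi))⁻¹ =
      uw C ((L.filter fun p => decide (p.2 ≠ 0)).map fun p => ((tabOf D).reflWord [i] p.1, p.2)) * h' *
        nWordGL C.g3.toGood2 v := by
  have hG := C.g3.toGood2
  have hG1 := C.g3.toGood1
  have hil := valid_single hi
  set ni : GL D.Idx K := nGL hG1 (hG1.simple_lt hi) with hni
  set n : GL D.Idx K := nWordGL hG v with hn
  have hniN : ni ∈ D.monomialSubgroup K := nGL_mem_monomial hG _
  have hniNorm := monomialSubgroup_le_normalizer hG hniN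
  obtain ⟨h₁, hh₁, e₁⟩ := conj_nw (K := K) C hS hi hfix
  rw [← hni, ← hn] at e₁
  obtain ⟨hval, ha, hb, hc, hd, he, hg, hhrev⟩ := hS
  refine ⟨(ni * h * ni⁻¹) * h₁, mul_mem (conj_mem_diagonal hniNorm hh) hh₁, ?_, ?_⟩
  · constructor
    · rw [List.map_map]
      have : (Prod.fst ∘ fun p : ℕ × K => ((tabOf D).reflWord [i] p.1, p.2)) =
          (tabOf D).reflWord [i] ∘ Prod.fst := by
        funext p; rfl
      rw [this, ← List.map_map]
      have hnd := (List.filter_sublist (l := L) (p := fun p => decide (p.2 ≠ 0))).map Prod.fst |>.nodup hgood.1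
      apply List.Nodup.map_on _ hnd
      intro a ha' b hb' hab
      obtain ⟨p, hp, rfl⟩ := List.mem_map.mp ha'
      obtain ⟨q, hq, rfl⟩ := List.mem_map.mp hb'
      exact reflWord_injective hG hil (hgood.2 p (List.mem_filter.mp hp).1).1
        (hgood.2 q (List.mem_filter.mp hq).1).1 hab
    · intro q hq
      obtain ⟨p, hp, rfl⟩ := List.mem_map.mp hq
      obtain ⟨hpL, hp0⟩ := List.mem_filter.mp hp
      have hp0' : p.2 ≠ 0 := by simpa using hp0
      obtain ⟨hplt, hpP⟩ := hgood.2 p hpL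
      refine ⟨reflWord_lt hG hil hplt, Or.inr ?_⟩
      have hP := hpP.resolve_left hp0'
      have hlt := (hgt p hpL).resolve_left hp0'
      exact hg i hi hfix p.1 hplt hP (by change p.1 ≠ D.simple i; omega)
  · have e₂ : ni * uw C L * ni⁻¹ =
        uw C ((L.filter fun p => decide (p.2 ≠ 0)).map fun p => ((tabOf D).reflWord [i] p.1, p.2)) := by
      rw [← uw_filter_nz C L, hni, nGL_eq_nWordGL C hi, conj_uw C hil]
      intro p hp
      exact (hgood.2 p (List.mem_filter.mp hp).1).1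
    calc ni * (uw C L * h * n) * ni⁻¹
        = (ni * uw C L * ni⁻¹) * (ni * h * ni⁻¹) * (ni * n * ni⁻¹) := by group
      _ = _ := by rw [e₂, e₁]; group

variable {W : List (List ℕ)} (hW : WList D W)

include hW in
/-- A factor at a fundamental root fixed by `v` contradicts the maximality of the cell. -/
theorem simple_contra {t : GL D.Idx K} {v : List ℕ} (hS : (tabOf D).SpecOK v)
    (hmax : ∀ g' ∈ D.group K, ∀ w' ∈ W, InCell C.g3.toGood2 K (g' * t * g'⁻¹) w' →
      nMinus D w' ≤ nMinus D v)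
    {i : ℕ} (hi : i < D.rank) {L : List (ℕ × K)} {h : GL D.Idx K}
    (hgood : GoodL D v L) (hh : h ∈ D.diagonalSubgroup K)
    (hconj : ∃ g ∈ D.group K, g * t * g⁻¹ = uw C L * h * nWordGL C.g3.toGood2 v)
    {p : ℕ × K} (hp : p ∈ L) (hpi : p.1 = D.simple i) (hp0 : p.2 ≠ 0) : False := by
  have hG := C.g3.toGood2
  have hG1 := C.g3.toGood1
  have hHB : D.diagonalSubgroup K ≤ D.borelSubgroup K := le_sup_right
  have hUB : D.posUnipotent K ≤ D.borelSubgroup K := le_sup_left
  have hS' := hS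
  obtain ⟨hval, ha, hb, hc, hd, he, hg, hhrev⟩ := hS
  have hvlt : ∀ j ∈ v, j < D.rank := hval
  have hil := valid_single hi
  obtain ⟨hplt, hpP⟩ := hgood.2 p hp
  have hPp := hpP.resolve_left hp0
  have hfix : (tabOf D).reflWord v (D.simple i) = D.simple i := by
    have := ha p.1 hplt hPp
    rwa [hpi] at this
  have hslt := hG1.simple_lt hi
  have hs24 := simple_pos hG1 C.t0 hi
  have hneg : (tabOf D).reflWord [i] (D.simple i) < D.nroots / 2 := by
    have e : (tabOf D).reflWord [i] (D.simple i) = D.neg (D.simple i) := by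
      rw [reflWord_single]
      unfold Tab.refl
      rw [if_pos rfl]
      rfl
    rw [e]
    exact neg_neg_of_pos hG C.t0 hslt hs24
  set ni : GL D.Idx K := nGL hG1 (hG1.simple_lt hi) with hni
  set n : GL D.Idx K := nWordGL hG v with hn
  have hniN : ni ∈ D.monomialSubgroup K := nGL_mem_monomial hG _
  have hniNorm := monomialSubgroup_le_normalizer hG hniN
  have hniG : ni ∈ D.group K := monomialSubgroup_le_group hG1 hniN
  -- the decomposition of the product
  obtain ⟨L1, L2, rfl⟩ := List.append_of_mem hp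
  have hnd' : p.1 ∉ (L1 ++ L2).map Prod.fst := by
    have hnd := hgood.1
    rw [List.map_append, List.map_cons] at hnd
    have := List.nodup_middle.mp hnd
    rw [List.map_append]
    exact (List.nodup_cons.mp this).1
  set Up := Subgroup.closure (upGen D K (D.simple i)) with hUp
  have hother : ∀ q ∈ L1 ++ L2, ux C K q.1 q.2 ∈ Up := by
    intro q hq
    have hqL : q ∈ L1 ++ p :: L2 := by
      rcases List.mem_append.mp hq with h | h
      · exact List.mem_append_left _ h
      · exact List.mem_append_right _ (List.mem_cons_of_mem _ h)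
    obtain ⟨hqlt, h0 | hP⟩ := hgood.2 q hqL
    · rw [h0, ux_zero]; exact one_mem _
    · have hq24 : D.nroots / 2 ≤ q.1 := (psiP_iff.mp hP).1.1
      apply Subgroup.subset_closure
      refine ⟨q.1, q.2, (isPosRoot_iff C.t0 hqlt).mpr hq24, ?_, ux_coe C q.1 q.2⟩
      intro heq
      apply hnd'
      rw [hpi, ← heq]
      exact List.mem_map_of_mem hq
  have hA : uw C L1 ∈ Up := uw_mem C L1 fun q hq => hother q (List.mem_append_left _ hq)
  have hB : uw C L2 ∈ Up := uw_mem C L2 fun q hq => hother q (List.mem_append_right _ hq)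
  have hUpU : Up ≤ D.posUnipotent K := by
    rw [← up_sup_rootSubgroup hG C.t0 C.t5 hi]; exact le_sup_left
  have hnorm := nGL_mem_normalizer_up (F := K) hG C.t0 C.t6 hi
  rw [← hni, ← hUp] at hnorm
  have hA' : ni * uw C L1 * ni⁻¹ ∈ D.borelSubgroup K :=
    hUB (hUpU ((Subgroup.mem_set_normalizer_iff.mp hnorm _).mp hA))
  have hB' : ni * uw C L2 * ni⁻¹ ∈ D.borelSubgroup K :=
    hUB (hUpU ((Subgroup.mem_set_normalizer_iff.mp hnorm _).mp hB))
  -- the rank one part
  obtain ⟨P, hP⟩ := exists_subgroup_borel_union hG C.t0 C.g3.t3 C.g3.t4 C.t5 C.t6 hi ni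
    (nGL_coe hG1 _)
  have hniP : ni ∈ P := by
    change ni ∈ (P : Set (GL D.Idx K))
    rw [hP]
    exact Or.inr (mem_doubleCoset_self _ _ _)
  have hxP : ux C K p.1 p.2 ∈ P := by
    change ux C K p.1 p.2 ∈ (P : Set (GL D.Idx K))
    rw [hP]
    exact Or.inl (hUB (ux_mem_pos C hplt (by rw [hpi]; exact hs24) _))
  have hyP : ni * ux C K p.1 p.2 * ni⁻¹ ∈ (P : Set (GL D.Idx K)) :=
    mul_mem (mul_mem hniP hxP) (inv_mem hniP)
  have hy : ni * ux C K p.1 p.2 * ni⁻¹ = ux C K ((tabOf D).reflWord [i] p.1) p.2 := by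
    rw [hni, nGL_eq_nWordGL C hi, conj_ux C hil hplt]
  have hylt : (tabOf D).reflWord [i] p.1 < D.nroots := reflWord_lt hG hil hplt
  have hyneg : (tabOf D).reflWord [i] p.1 < D.nroots / 2 := by
    rw [hpi]; exact hneg
  have hynB : ni * ux C K p.1 p.2 * ni⁻¹ ∉ D.borelSubgroup K := by
    intro hmem
    have h2 : ni * ux C K p.1 p.2 * ni⁻¹ ∈ D.borelSubgroup K ⊓ D.negUnipotent K := by
      refine ⟨hmem, ?_⟩
      rw [hy]
      exact ux_mem_neg C hylt hyneg _
    rw [borel_inf_negUnipotent hG C.t0, Subgroup.mem_bot, hy] at h2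
    exact ux_ne_one C hylt hp0 h2
  rw [hP] at hyP
  rcases hyP with hyB | hyD
  · exact hynB hyB
  obtain ⟨b₄, hb₄, b₅, hb₅, ey⟩ := mem_doubleCoset.mp hyD
  -- the conjugate of `n_v`
  obtain ⟨h₁, hh₁, e₁⟩ := conj_nw (K := K) C hS' hi hfix
  rw [← hni, ← hn] at e₁
  -- the cell of the conjugate
  obtain ⟨g, hg', egt⟩ := hconj
  have hpos1 : D.nroots / 2 ≤ (tabOf D).reflWord v.reverse (D.simple i) := by
    rw [hhrev _ hslt, hfix]
    exact hs24
  have hb₃ : b₅ * (ni * uw C L2 * ni⁻¹) * (ni * h * ni⁻¹) * h₁ ∈ D.borelSubgroup K :=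
    mul_mem (mul_mem (mul_mem hb₅ hB') (hHB (conj_mem_diagonal hniNorm hh))) (hHB hh₁)
  have s1 := mul_mem_doubleCoset_of_pos (F := K) hG C.t0 C.g3.t3 C.g3.t4 C.t5 C.t6 hi
    (one_mem _) hvlt hpos1 hb₃
  rw [one_mul, ← hni, ← hn] at s1
  obtain ⟨b₆, hb₆, b₇, hb₇, e₆⟩ := mem_doubleCoset.mp s1
  have hiv : ∀ j ∈ i :: v, j < D.rank := by
    intro j hj
    rcases List.mem_cons.mp hj with rfl | hj
    · exact hi
    · exact hvlt j hj
  have ecell : (ni * g) * t * (ni * g)⁻¹ =
      ((ni * uw C L1 * ni⁻¹) * b₄ * b₆) * nWordGL hG (i :: v) * b₇ := by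
    have e7 : (ni * g) * t * (ni * g)⁻¹ = ni * (g * t * g⁻¹) * ni⁻¹ := by group
    rw [e7, egt, uw_append, uw_cons, nWordGL_cons hG hi, ← hni, ← hn]
    calc ni * (uw C L1 * (ux C K p.1 p.2 * uw C L2) * h * n) * ni⁻¹
        = (ni * uw C L1 * ni⁻¹) * (ni * ux C K p.1 p.2 * ni⁻¹) * (ni * uw C L2 * ni⁻¹) *
            (ni * h * ni⁻¹) * (ni * n * ni⁻¹) := by group
      _ = (ni * uw C L1 * ni⁻¹) * b₄ *
            (ni * (b₅ * (ni * uw C L2 * ni⁻¹) * (ni * h * ni⁻¹) * h₁) * n) := by
          rw [ey, e₁]; group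
      _ = _ := by rw [e₆]; group
  obtain ⟨w₁, hw₁, hrefl, hc₁⟩ := inCell_of_mem hG C.t0 C.g3.t3 C.g3.t4 C.t5 C.t6 C.t8 C.t9
    hW hiv (mul_mem (mul_mem hA' hb₄) hb₆) hb₇ ecell
  have hle := hmax (ni * g) (mul_mem hniG hg') w₁ hw₁ hc₁
  have hcong : nMinus D w₁ = nMinus D (i :: v) := nMinus_congr hrefl
  have hlt := he i hi hfix
  rw [← nMinus_eq_nM, ← nMinus_eq_nM] at hlt
  omega

include hW in
/-- The descent: the factors of `x` in a conjugate `x h n_v` in a cell of maximal length are trivial. -/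
theorem descent_zero {t : GL D.Idx K} {v : List ℕ} (hS : (tabOf D).SpecOK v)
    (hmax : ∀ g' ∈ D.group K, ∀ w' ∈ W, InCell C.g3.toGood2 K (g' * t * g'⁻¹) w' →
      nMinus D w' ≤ nMinus D v) :
    ∀ k, D.nroots / 2 ≤ k → k ≤ D.nroots → ∀ (L : List (ℕ × K)) (h : GL D.Idx K), GoodL D v L →
      h ∈ D.diagonalSubgroup K →
      (∃ g ∈ D.group K, g * t * g⁻¹ = uw C L * h * nWordGL C.g3.toGood2 v) →
      ∀ p ∈ L, p.2 = 0 ∨ k ≤ p.1 := by
  classical
  have hG := C.g3.toGood2
  have hG1 := C.g3.toGood1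
  intro k hk
  induction k, hk using Nat.le_induction with
  | base =>
    intro _ L h hgood hh hconj p hp
    obtain ⟨hplt, h0 | hP⟩ := hgood.2 p hp
    · exact Or.inl h0
    · exact Or.inr (psiP_iff.mp hP).1.1
  | succ k hk ih =>
    intro hk48 L h hgood hh hconj p hp
    have ihk := ih (by omega)
    by_cases hp0 : p.2 = 0
    · exact Or.inl hp0
    right
    have hkp := (ihk L h hgood hh hconj p hp).resolve_left hp0
    by_contra hlt
    have hpk : p.1 = k := by omega
    obtain ⟨hplt, hpP⟩ := hgood.2 p hp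
    have hPp := hpP.resolve_left hp0
    rcases hS.2.2.2.1 p.1 hplt hPp with ⟨i, hi, his⟩ | ⟨i, hi, hfix, hpos, hlow, hsk⟩
    · exact simple_contra C hW hS hmax hi hgood hh hconj hp his.symm hp0
    · have hir : i < D.rank := hi
      have hil := valid_single hir
      have hgt : ∀ q ∈ L, q.2 = 0 ∨ D.simple i < q.1 := by
        intro q hq
        rcases ihk L h hgood hh hconj q hq with h0 | hge
        · exact Or.inl h0
        · right
          have : D.simple i < p.1 := hsk
          omega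
      obtain ⟨h', hh', hgood', emove⟩ := move_simple (K := K) C hS hir hfix hgood hh hgt
      obtain ⟨g, hg, egt⟩ := hconj
      set ni : GL D.Idx K := nGL hG1 (hG1.simple_lt hir) with hni
      have hniG : ni ∈ D.group K := monomialSubgroup_le_group hG1 (nGL_mem_monomial hG _)
      have hconj' : ∃ g' ∈ D.group K, g' * t * g'⁻¹ =
          uw C ((L.filter fun p => decide (p.2 ≠ 0)).map fun p => ((tabOf D).reflWord [i] p.1, p.2)) * h' *
            nWordGL hG v := by
        refine ⟨ni * g, mul_mem hniG hg, ?_⟩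
        rw [← emove, ← egt]
        group
      have hmem : ((tabOf D).reflWord [i] p.1, p.2) ∈
          (L.filter fun p => decide (p.2 ≠ 0)).map fun p => ((tabOf D).reflWord [i] p.1, p.2) :=
        List.mem_map_of_mem (List.mem_filter.mpr ⟨hp, by simpa using hp0⟩)
      have := (ihk _ h' hgood' hh' hconj' _ hmem).resolve_left hp0
      simp only at this
      omega

end descent

section main

variable (C : Ctx D) {W : List (List ℕ)} (hW : WList D W)

include hW in
/-- Every involution is conjugate to an involution of `N` lying over a special involution of the Weyl group. -/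
theorem inv_conj_N (Spec : List (List ℕ)) (hSpec : ∀ v ∈ Spec, (tabOf D).SpecOK v)
    (hclass : ∀ w : List ℕ, (∀ i ∈ w, i < D.rank) → SameAct D w.reverse w →
      (∀ i < D.rank, (tabOf D).reflWord w (D.simple i) < D.nroots / 2 ∨
        (tabOf D).reflWord w (D.simple i) = D.simple i) → ∃ v ∈ Spec, SameAct D w v)
    {t : GL D.Idx K} (ht : t ∈ D.group K) (ht2 : t * t = 1) :
    ∃ g ∈ D.group K, ∃ v ∈ Spec, ∃ h ∈ D.diagonalSubgroup K,
      g * t * g⁻¹ = h * nWordGL C.g3.toGood2 v := by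
  have hG := C.g3.toGood2
  obtain ⟨g₀, hg₀, w, hwW, hc, hmax⟩ := exists_max_cell (F := K) hG C.t0 C.g3.t3 C.g3.t4 C.t5 C.t6 C.t8 C.t9
    hW ht
  obtain ⟨hinv, hspec⟩ := special_of_max (F := K) hG C.t0 C.g3.t3 C.g3.t4 C.t5 C.t6 C.t8 C.t9 hW ht ht2
    hg₀ hwW hc hmax
  have hwlt := (hW.ok w hwW).1
  obtain ⟨v, hv, hwv⟩ := hclass w hwlt hinv hspec
  have hS := hSpec v hv
  have hvlt : ∀ i ∈ v, i < D.rank := hS.1
  have hcv : InCell hG K (g₀ * t * g₀⁻¹) v := inCell_of_sameAct C hwlt hvlt hwv hc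
  have hmax' : ∀ g' ∈ D.group K, ∀ w' ∈ W, InCell hG K (g' * t * g'⁻¹) w' → nMinus D w' ≤ nMinus D v := by
    intro g' hg' w' hw' hc'
    rw [← nMinus_congr hwv]
    exact hmax g' hg' w' hw' hc'
  set t₁ := g₀ * t * g₀⁻¹ with ht₁
  have ht₁G : t₁ ∈ D.group K := mul_mem (mul_mem hg₀ ht) (inv_mem hg₀)
  have ht₁2 : t₁ * t₁ = 1 := by
    calc t₁ * t₁ = g₀ * (t * t) * g₀⁻¹ := by rw [ht₁]; group
      _ = 1 := by rw [ht2]; group
  obtain ⟨g₁, hg₁, L, h, hgood, hh, e⟩ := cell_shape C ht₁G ht₁2 hS hcv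
  have hconj : ∃ g ∈ D.group K, g * t * g⁻¹ = uw C L * h * nWordGL hG v := by
    refine ⟨g₁ * g₀, mul_mem hg₁ hg₀, ?_⟩
    rw [← e, ht₁]; group
  have hzero := descent_zero C hW hS hmax' D.nroots (Nat.div_le_self _ _) le_rfl L h hgood hh hconj
  have hone : uw C L = 1 := by
    apply uw_eq_one_of_zero
    intro p hp
    rcases hzero p hp with h0 | h48
    · exact h0
    · have := (hgood.2 p hp).1; omega
  obtain ⟨g, hg, egt⟩ := hconj
  exact ⟨g, hg, v, hv, h, hh, by rw [egt, hone, one_mul]⟩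

end main

end Cfsg.Agent.Helper7.Chev
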