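import Mathlib
import Cfsg.Agent.Helper7.ChevInvF

set_option autoImplicit false
set_option linter.unusedSectionVars false
set_option linter.unusedVariables false
set_option maxHeartbeats 1000000

/-!
Characteristic two, any datum: an involution of `N` lying over a product of reflections in pairwise orthogonal roots
is conjugate to the product of the root elements `x_r(1)` of these roots.
-/

namespace Cfsg.Agent.Helper7.Chev

open Cfsg Cfsg.Lie Matrix DoubleCoset
open scoped Pointwise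

/-- The word of the reflection in the root of a pair `(v, i)`, the image of the `i`-th fundamental root under `v`. -/
def dWord (d : List ℕ × ℕ) : List ℕ := d.1 ++ [d.2] ++ d.1.reverse

/-- The product of the reflections of a list of pairs. -/
def dBig (Ds : List (List ℕ × ℕ)) : List ℕ := Ds.flatMap dWord

namespace Tab

variable (T : Tab)

/-- The root of a pair `(v, i)`. -/
def dP (d : List ℕ × ℕ) : ℕ := T.reflWord d.1 (T.simple d.2)

/-- The negative of the root of a pair. -/
def dQ (d : List ℕ × ℕ) : ℕ := T.reflWord d.1 (T.neg (T.simple d.2))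

/-- A test for the commutation of two root elements. -/
def commOK (r s : ℕ) : Bool :=
  decide (r < T.n) && decide (s < T.n) &&
    (decide (r = s) || (decide (s ≠ r) && decide (s ≠ T.neg r) && (T.commTerms r s).isEmpty))

/-- The root elements of two pairs commute. -/
def pairOK (d d' : List ℕ × ℕ) : Bool :=
  T.commOK (T.dP d) (T.dP d') && T.commOK (T.dP d) (T.dQ d') && T.commOK (T.dQ d) (T.dP d') &&
    T.commOK (T.dQ d) (T.dQ d')

/-- The table facts on a list of pairs giving orthogonal roots whose reflections multiply to the word. -/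
def DataOK (w : List ℕ) (Ds : List (List ℕ × ℕ)) : Prop :=
  (∀ d ∈ Ds, (∀ i ∈ d.1, i < T.l) ∧ d.2 < T.l) ∧
  (Ds.Pairwise fun d d' => T.pairOK d d' = true) ∧
  (Ds.Pairwise fun d d' => T.commOK (T.dP d) (T.dP d') = true) ∧
  (∀ r < T.n, T.reflWord (dBig Ds) r = T.reflWord w r)

instance (w : List ℕ) (Ds : List (List ℕ × ℕ)) : Decidable (T.DataOK w Ds) := by
  unfold DataOK; infer_instance

end Tab

variable {D : ChevalleyDatum} {K : Type*} [Field K]

section comm

variable (C : Ctx D)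

theorem ux_comm_of_ok {r s : ℕ} (h : (tabOf D).commOK r s = true) (t u : K) :
    ux C K r t * ux C K s u = ux C K s u * ux C K r t := by
  unfold Tab.commOK at h
  simp only [Bool.and_eq_true, Bool.or_eq_true, decide_eq_true_eq, List.isEmpty_iff] at h
  obtain ⟨⟨hr, hs⟩, h⟩ := h
  rcases h with h | ⟨⟨hsr, hsn⟩, hnil⟩
  · subst h
    exact (ux_commute_self C r t u).eq
  · exact (ux_commute_of_nil C hr hs hsr hsn hnil t u).eq

theorem ux_comm_uw {a : ℕ} (t : K) (M : List (ℕ × K)) (hM : ∀ q ∈ M, (tabOf D).commOK a q.1 = true) :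
    ux C K a t * uw C M = uw C M * ux C K a t := by
  induction M with
  | nil => simp [uw_nil]
  | cons q M ihM =>
    rw [uw_cons, ← mul_assoc, ux_comm_of_ok C (hM q List.mem_cons_self) t q.2, mul_assoc,
      ihM fun q' hq' => hM q' (List.mem_cons_of_mem _ hq'), mul_assoc]

end comm

section main

variable (C : Ctx D) [CharP K 2]

/-- The element of `N` of the reflection in the root of a pair is the conjugate of `x_r(1)` by `x_{-r}(1)`. -/
theorem nWordGL_dWord {d : List ℕ × ℕ} (hd : (∀ i ∈ d.1, i < D.rank) ∧ d.2 < D.rank) :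
    (nWordGL C.g3.toGood2 (dWord d) : GL D.Idx K) =
      ux C K ((tabOf D).dQ d) 1 * ux C K ((tabOf D).dP d) 1 * (ux C K ((tabOf D).dQ d) 1)⁻¹ := by
  have hG := C.g3.toGood2
  have hG1 := C.g3.toGood1
  obtain ⟨hv, hi⟩ := hd
  have hp := hG1.simple_lt hi
  have hni : (nGL hG1 hp : GL D.Idx K) =
      ux C K (D.neg (D.simple d.2)) 1 * ux C K (D.simple d.2) 1 * (ux C K (D.neg (D.simple d.2)) 1)⁻¹ := by
    rw [ux_of_lt C hp, ux_of_lt C (hG1.neg_lt hp), nGL_conj_char2 hG1 hp]; group
  unfold dWord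
  rw [nWordGL_append, nWordGL_append, nWordGL_reverse_char2 C d.1 hv, nWordGL_cons hG hi [], nWordGL_nil,
    mul_one, hni]
  have eP : (tabOf D).dP d = (tabOf D).reflWord d.1 (D.simple d.2) := rfl
  have eQ : (tabOf D).dQ d = (tabOf D).reflWord d.1 (D.neg (D.simple d.2)) := rfl
  rw [eP, eQ, ← conj_ux C hv (hG1.neg_lt hp), ← conj_ux C hv hp]
  group

/-- The product of the elements of `N` of the reflections in pairwise orthogonal roots. -/
theorem nWordGL_dBig (Ds : List (List ℕ × ℕ)) (hD : ∀ d ∈ Ds, (∀ i ∈ d.1, i < D.rank) ∧ d.2 < D.rank)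
    (hpw : Ds.Pairwise fun d d' => (tabOf D).pairOK d d' = true) :
    (nWordGL C.g3.toGood2 (dBig Ds) : GL D.Idx K) =
      uw C (Ds.map fun d => ((tabOf D).dQ d, (1 : K))) * uw C (Ds.map fun d => ((tabOf D).dP d, (1 : K))) *
        (uw C (Ds.map fun d => ((tabOf D).dQ d, (1 : K))))⁻¹ := by
  induction Ds with
  | nil => simp [dBig, nWordGL_nil, uw_nil]
  | cons d Ds ih =>
    have hd := hD d List.mem_cons_self
    have hD' : ∀ e ∈ Ds, (∀ i ∈ e.1, i < D.rank) ∧ e.2 < D.rank :=
      fun e he => hD e (List.mem_cons_of_mem _ he)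
    obtain ⟨hpd, hpw'⟩ := List.pairwise_cons.mp hpw
    have e0 : dBig (d :: Ds) = dWord d ++ dBig Ds := by
      unfold dBig; rw [List.flatMap_cons]
    rw [e0, nWordGL_append, ih hD' hpw', nWordGL_dWord C hd, List.map_cons, List.map_cons, uw_cons,
      uw_cons]
    -- commutations
    have hc : ∀ (a : ℕ), (∀ e ∈ Ds, (tabOf D).commOK a ((tabOf D).dP e) = true ∧
        (tabOf D).commOK a ((tabOf D).dQ e) = true) →
        ∀ (t : K), ux C K a t * uw C (Ds.map fun d => ((tabOf D).dQ d, (1 : K))) =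
            uw C (Ds.map fun d => ((tabOf D).dQ d, (1 : K))) * ux C K a t ∧
          ux C K a t * uw C (Ds.map fun d => ((tabOf D).dP d, (1 : K))) =
            uw C (Ds.map fun d => ((tabOf D).dP d, (1 : K))) * ux C K a t := by
      intro a ha t
      constructor
      · apply ux_comm_uw
        intro q hq
        obtain ⟨e, he, rfl⟩ := List.mem_map.mp hq
        exact (ha e he).2
      · apply ux_comm_uw
        intro q hq
        obtain ⟨e, he, rfl⟩ := List.mem_map.mp hq
        exact (ha e he).1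
    have hP : ∀ e ∈ Ds, (tabOf D).commOK ((tabOf D).dP d) ((tabOf D).dP e) = true ∧
        (tabOf D).commOK ((tabOf D).dP d) ((tabOf D).dQ e) = true := by
      intro e he
      have := hpd e he
      unfold Tab.pairOK at this
      simp only [Bool.and_eq_true] at this
      exact ⟨this.1.1.1, this.1.1.2⟩
    have hQ : ∀ e ∈ Ds, (tabOf D).commOK ((tabOf D).dQ d) ((tabOf D).dP e) = true ∧
        (tabOf D).commOK ((tabOf D).dQ d) ((tabOf D).dQ e) = true := by
      intro e he
      have := hpd e he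
      unfold Tab.pairOK at this
      simp only [Bool.and_eq_true] at this
      exact ⟨this.1.2, this.2⟩
    obtain ⟨cPQ, cPP⟩ := hc ((tabOf D).dP d) hP 1
    obtain ⟨cQQ, cQP⟩ := hc ((tabOf D).dQ d) hQ 1
    set Y := uw C (Ds.map fun d => ((tabOf D).dQ d, (1 : K))) with hY
    set X := uw C (Ds.map fun d => ((tabOf D).dP d, (1 : K))) with hX
    set p := ux C K ((tabOf D).dP d) 1 with hp
    set q := ux C K ((tabOf D).dQ d) 1 with hq
    have cQQ' : q⁻¹ * Y = Y * q⁻¹ := by
      calc q⁻¹ * Y = q⁻¹ * (Y * q) * q⁻¹ := by group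
        _ = q⁻¹ * (q * Y) * q⁻¹ := by rw [cQQ]
        _ = _ := by group
    have cQP' : q⁻¹ * X = X * q⁻¹ := by
      calc q⁻¹ * X = q⁻¹ * (X * q) * q⁻¹ := by group
        _ = q⁻¹ * (q * X) * q⁻¹ := by rw [cQP]
        _ = _ := by group
    have cQQ'' : q⁻¹ * Y⁻¹ = Y⁻¹ * q⁻¹ := by
      calc q⁻¹ * Y⁻¹ = Y⁻¹ * (Y * q⁻¹) * Y⁻¹ := by group
        _ = Y⁻¹ * (q⁻¹ * Y) * Y⁻¹ := by rw [cQQ']
        _ = _ := by group
    calc q * p * q⁻¹ * (Y * X * Y⁻¹)
        = q * p * (q⁻¹ * Y) * X * Y⁻¹ := by group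
      _ = q * p * (Y * q⁻¹) * X * Y⁻¹ := by rw [cQQ']
      _ = q * (p * Y) * (q⁻¹ * X) * Y⁻¹ := by group
      _ = q * (Y * p) * (X * q⁻¹) * Y⁻¹ := by rw [cPQ, cQP']
      _ = q * Y * (p * X) * (q⁻¹ * Y⁻¹) := by group
      _ = q * Y * (p * X) * (Y⁻¹ * q⁻¹) := by rw [cQQ'']
      _ = _ := by group

include C in
/-- The torus has odd exponent. -/
theorem torus_odd [Fintype K] {k : GL D.Idx K} (hk : k ∈ D.diagonalSubgroup K) :
    ∃ N : ℕ, Odd N ∧ k ^ N = 1 := by
  classical
  rw [← torusHom_range C.g3.toGood1] at hk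
  obtain ⟨c, rfl⟩ := hk
  obtain ⟨n, _, hcard⟩ := FiniteField.card K 2
  refine ⟨Fintype.card K - 1, ?_, ?_⟩
  · rw [hcard]
    have : 2 ≤ 2 ^ (n : ℕ) := by
      calc 2 = 2 ^ 1 := by norm_num
        _ ≤ 2 ^ (n : ℕ) := Nat.pow_le_pow_right (by norm_num) n.2
    have hev : Even (2 ^ (n : ℕ)) := (Nat.even_pow' (by exact n.ne_zero)).mpr even_two
    exact Nat.Even.sub_odd (by omega) hev odd_one
  · rw [← map_pow]
    have : c ^ (Fintype.card K - 1) = 1 := by
      funext i
      rw [Pi.pow_apply, Pi.one_apply, ← Fintype.card_units]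
      exact pow_card_eq_one
    rw [this, map_one]

include C in
/-- Two involutions in the same coset of the torus in `N` are conjugate under the torus. -/
theorem torus_conj_inv [Fintype K] {k m : GL D.Idx K} (hk : k ∈ D.diagonalSubgroup K)
    (hm : m * m = 1) (hkm : (k * m) * (k * m) = 1) :
    ∃ j ∈ D.diagonalSubgroup K, j * m * j⁻¹ = k * m := by
  obtain ⟨N, hN, hkN⟩ := torus_odd C hk
  obtain ⟨a, rfl⟩ := hN
  have hminv : m⁻¹ = m := inv_eq_of_mul_eq_one_left hm
  have hconj : m * k * m⁻¹ = k⁻¹ := by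
    have : k * (m * k * m) = 1 := by
      calc k * (m * k * m) = (k * m) * (k * m) := by group
        _ = 1 := hkm
    rw [hminv]
    exact (inv_eq_of_mul_eq_one_right this).symm
  have hpow : ∀ e : ℕ, m * k ^ e * m⁻¹ = (k ^ e)⁻¹ := by
    intro e
    induction e with
    | zero => simp
    | succ e ih =>
      calc m * k ^ (e + 1) * m⁻¹ = (m * k ^ e * m⁻¹) * (m * k * m⁻¹) := by rw [pow_succ]; group
        _ = (k ^ e)⁻¹ * k⁻¹ := by rw [ih, hconj]
        _ = (k ^ (e + 1))⁻¹ := by
          rw [pow_succ, _root_.mul_inv_rev]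
          have : Commute (k ^ e)⁻¹ k⁻¹ := ((Commute.refl k).pow_left e).inv_inv
          exact this.eq
  refine ⟨k ^ (a + 1), Subgroup.pow_mem _ hk _, ?_⟩
  have hsq : k ^ (a + 1) * k ^ (a + 1) = k := by
    rw [← pow_add]
    have : a + 1 + (a + 1) = (2 * a + 1) + 1 := by ring
    rw [this, pow_succ, hkN, one_mul]
  calc k ^ (a + 1) * m * (k ^ (a + 1))⁻¹
      = k ^ (a + 1) * (m * k ^ (a + 1) * m⁻¹)⁻¹ * m := by group
    _ = k ^ (a + 1) * k ^ (a + 1) * m := by rw [hpow, inv_inv]
    _ = k * m := by rw [hsq]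

/-- A product of pairwise commuting root elements is an involution. -/
theorem uw_sq_of_comm (M : List (ℕ × K)) (hM : M.Pairwise fun q q' => (tabOf D).commOK q.1 q'.1 = true) :
    uw C M * uw C M = 1 := by
  induction M with
  | nil => simp [uw_nil]
  | cons q M ihM =>
    obtain ⟨hq, hM'⟩ := List.pairwise_cons.mp hM
    have hc : ux C K q.1 q.2 * uw C M = uw C M * ux C K q.1 q.2 := ux_comm_uw C q.2 M hq
    rw [uw_cons]
    calc ux C K q.1 q.2 * uw C M * (ux C K q.1 q.2 * uw C M)
        = ux C K q.1 q.2 * (uw C M * ux C K q.1 q.2) * uw C M := by group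
      _ = ux C K q.1 q.2 * (ux C K q.1 q.2 * uw C M) * uw C M := by rw [hc]
      _ = (ux C K q.1 q.2 * ux C K q.1 q.2) * (uw C M * uw C M) := by group
      _ = 1 := by rw [ux_sq, ihM hM', mul_one]

/-- An involution of `N` lying over the product of the reflections in pairwise orthogonal roots is conjugate to
the product of the root elements `x_r(1)`. -/
theorem inv_N_conj [Fintype K] {w : List ℕ} (Ds : List (List ℕ × ℕ)) (hD : (tabOf D).DataOK w Ds)
    (hw : ∀ i ∈ w, i < D.rank)
    {h : GL D.Idx K} (hh : h ∈ D.diagonalSubgroup K)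
    (hinv : (h * nWordGL C.g3.toGood2 w) * (h * nWordGL C.g3.toGood2 w) = 1) :
    ∃ g ∈ D.group K, g * (h * nWordGL C.g3.toGood2 w) * g⁻¹ =
      uw C (Ds.map fun d => ((tabOf D).dP d, (1 : K))) := by
  have hG := C.g3.toGood2
  have hG1 := C.g3.toGood1
  obtain ⟨hval, hpw, hPP, hrefl⟩ := hD
  have hval' : ∀ d ∈ Ds, (∀ i ∈ d.1, i < D.rank) ∧ d.2 < D.rank := hval
  set X := uw C (Ds.map fun d => ((tabOf D).dP d, (1 : K))) with hX
  set Y := uw C (Ds.map fun d => ((tabOf D).dQ d, (1 : K))) with hY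
  have hbig : ∀ i ∈ dBig Ds, i < D.rank := by
    intro i hi
    unfold dBig at hi
    obtain ⟨d, hd, hi⟩ := List.mem_flatMap.mp hi
    obtain ⟨hv, hd2⟩ := hval' d hd
    unfold dWord at hi
    rcases List.mem_append.mp hi with hi | hi
    · rcases List.mem_append.mp hi with hi | hi
      · exact hv i hi
      · rw [List.mem_singleton] at hi; rw [hi]; exact hd2
    · exact hv i (List.mem_reverse.mp hi)
  have eN : (nWordGL hG (dBig Ds) : GL D.Idx K) = Y * X * Y⁻¹ := nWordGL_dBig C Ds hval' hpw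
  have hXX : X * X = 1 := by
    apply uw_sq_of_comm
    rw [List.pairwise_map]
    exact hPP
  set ñ : GL D.Idx K := nWordGL hG (dBig Ds) with hñ
  have hññ : ñ * ñ = 1 := by
    rw [eN]
    calc Y * X * Y⁻¹ * (Y * X * Y⁻¹) = Y * (X * X) * Y⁻¹ := by group
      _ = 1 := by rw [hXX]; group
  obtain ⟨h₀, hh₀, e₀⟩ := nWordGL_eq_of_reflWord_eq (F := K) hG C.t0 C.t6 C.t8 hbig hw hrefl
  rw [← hñ] at e₀
  have ek : h * nWordGL hG w = (h * h₀⁻¹) * ñ := by rw [e₀]; group
  have hk : h * h₀⁻¹ ∈ D.diagonalSubgroup K := mul_mem hh (inv_mem hh₀)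
  rw [ek] at hinv
  obtain ⟨j, hj, ej⟩ := torus_conj_inv C hk hññ hinv
  have hYG : Y ∈ D.group K := by
    apply uw_mem
    intro q hq
    exact ux_mem_group C _ _
  refine ⟨(j * Y)⁻¹, inv_mem (mul_mem (diagonalSubgroup_le_group hG1 hj) hYG), ?_⟩
  rw [ek, ← ej, eN]
  group

end main

end Cfsg.Agent.Helper7.Chev
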