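import Mathlib
import Cfsg.Agent.Helper7.ChevInvG

set_option autoImplicit false
set_option linter.unusedSectionVars false
set_option linter.unusedVariables false
set_option maxHeartbeats 1000000

/-!
Characteristic two, any datum: a verified collection procedure for words in the root elements `x_r(1)`, and conjugacy
of such words under root elements and under `N`.
-/

namespace Cfsg.Agent.Helper7.Chev

open Cfsg Cfsg.Lie Matrix DoubleCoset
open scoped Pointwise

namespace Tab

variable (T : Tab)

/-- The two roots can be swapped by the commutator formula, all of whose coefficients are odd. -/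
def swapOK (s r : ℕ) : Bool :=
  decide (s < T.n) && decide (r < T.n) && decide (s ≠ r) && decide (s ≠ T.neg r) &&
    (T.commTerms r s).all (fun c => decide (c.2.1 % 2 = 1))

/-- One rewriting step at position `k` of a word in the root elements `x_r(1)`, in characteristic two: two equal
adjacent letters cancel, two different ones are swapped with the commutator terms inserted. -/
def swapAt : ℕ → List ℕ → List ℕ
  | _, [] => []
  | _, [a] => [a]
  | 0, s :: r :: L =>
      if s = r then L
      else if T.swapOK s r then r :: s :: ((T.commTerms r s).map Prod.fst ++ L)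
      else s :: r :: L
  | k + 1, a :: b :: L => a :: swapAt k (b :: L)

/-- The position of the first descent of a word. -/
def firstDesc : List ℕ → Option ℕ
  | [] => none
  | [_] => none
  | a :: b :: L => if b ≤ a then some 0 else (firstDesc (b :: L)).map (· + 1)

/-- Collection with fuel. -/
def norm : ℕ → List ℕ → List ℕ
  | 0, L => L
  | f + 1, L =>
    match firstDesc L with
    | none => L
    | some k => norm f (T.swapAt k L)

end Tab

variable {D : ChevalleyDatum} {K : Type*} [Field K]

/-- The product of the root elements `x_r(1)` over a list of roots. -/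
noncomputable def uw1 (C : Ctx D) (K : Type*) [Field K] (R : List ℕ) : GL D.Idx K :=
  uw C (R.map fun r => (r, (1 : K)))

section collect

variable (C : Ctx D)

theorem uw1_nil : uw1 C K [] = 1 := rfl

theorem uw1_cons (r : ℕ) (R : List ℕ) : uw1 C K (r :: R) = ux C K r 1 * uw1 C K R := by
  unfold uw1
  rw [List.map_cons, uw_cons]

theorem uw1_append (R R' : List ℕ) : uw1 C K (R ++ R') = uw1 C K R * uw1 C K R' := by
  unfold uw1
  rw [List.map_append, uw_append]

theorem uw1_mem_group (R : List ℕ) : uw1 C K R ∈ D.group K := by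
  apply uw_mem
  intro p hp
  exact ux_mem_group C _ _

variable [CharP K 2]

theorem cast_odd_emod_char2 {c : ℤ} (h : c % 2 = 1) : ((c : ℤ) : K) = 1 := by
  have h2 : (2 : K) = 0 := CharTwo.two_eq_zero
  have e : c = 2 * (c / 2) + 1 := by omega
  rw [e]
  push_cast
  rw [h2, zero_mul, zero_add]

theorem neg_one_pow_char2 (i : ℕ) : ((-1 : K)) ^ i = 1 := by
  have : (-1 : K) = 1 := by
    have h2 : (2 : K) = 0 := CharTwo.two_eq_zero
    linear_combination (-1 : K) * h2
  rw [this, one_pow]

/-- The swap of two adjacent root elements. -/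
theorem ux_swap {s r : ℕ} (h : (tabOf D).swapOK s r = true) :
    ux C K s 1 * ux C K r 1 =
      ux C K r 1 * ux C K s 1 * uw1 C K (((tabOf D).commTerms r s).map Prod.fst) := by
  unfold Tab.swapOK at h
  simp only [Bool.and_eq_true, decide_eq_true_eq, List.all_eq_true] at h
  obtain ⟨⟨⟨⟨hs, hr⟩, hsr⟩, hsn⟩, hodd⟩ := h
  have hcm := comm_all (F := K) C.g3.toGood2 C.g3.t3 C.g3.t4 hr hs hsr hsn (1 : K) 1
  have e1 : D.commWord K r s (1 : K) 1 = (((tabOf D).commTerms r s).map Prod.fst).map fun q => (q, (1 : K)) := by
    unfold ChevalleyDatum.commWord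
    rw [← commTerms_eq, List.map_map]
    apply List.map_congr_left
    intro c hc
    simp only [Function.comp]
    rw [cast_odd_emod_char2 (hodd c hc), neg_one_pow_char2, one_pow, one_mul, one_mul]
  apply Units.ext
  simp only [Units.val_mul, ux_coe]
  rw [hcm, e1]
  unfold uw1
  rw [uw_coe]

theorem swapAt_nil (k : ℕ) : (tabOf D).swapAt k [] = [] := by
  cases k <;> rfl

theorem swapAt_single (k a : ℕ) : (tabOf D).swapAt k [a] = [a] := by
  cases k <;> rfl

/-- A rewriting step does not change the element. -/
theorem uw1_swapAt (k : ℕ) (L : List ℕ) : uw1 C K ((tabOf D).swapAt k L) = uw1 C K L := by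
  induction k generalizing L with
  | zero =>
    match L with
    | [] => rfl
    | [a] => rfl
    | s :: r :: L =>
      unfold Tab.swapAt
      split_ifs with h1 h2
      · subst h1
        rw [uw1_cons, uw1_cons, ← mul_assoc, ux_sq, one_mul]
      · rw [uw1_cons, uw1_cons, uw1_append, uw1_cons, uw1_cons, ← mul_assoc, ← mul_assoc, ← mul_assoc,
          ← ux_swap C h2]
      · rfl
  | succ k ih =>
    match L with
    | [] => rfl
    | [a] => rfl
    | a :: b :: L =>
      unfold Tab.swapAt
      rw [uw1_cons, ih, uw1_cons C a]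

/-- Collection does not change the element. -/
theorem uw1_norm (f : ℕ) (L : List ℕ) : uw1 C K ((tabOf D).norm f L) = uw1 C K L := by
  induction f generalizing L with
  | zero => rfl
  | succ f ih =>
    unfold Tab.norm
    split
    · rfl
    · rw [ih, uw1_swapAt]

theorem uw1_eq_of_norm {L L' : List ℕ} (f : ℕ) (h : (tabOf D).norm f L = (tabOf D).norm f L') :
    uw1 C K L = uw1 C K L' := by
  rw [← uw1_norm C f L, h, uw1_norm]

end collect

section conj

variable (C : Ctx D)

/-- Conjugacy in the Chevalley group. -/
def GConj (D : ChevalleyDatum) {K : Type*} [Field K] (X Y : GL D.Idx K) : Prop :=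
  ∃ g ∈ D.group K, g * X * g⁻¹ = Y

theorem GConj.refl (X : GL D.Idx K) : GConj D X X := ⟨1, one_mem _, by group⟩

theorem GConj.trans {X Y Z : GL D.Idx K} (h1 : GConj D X Y) (h2 : GConj D Y Z) : GConj D X Z := by
  obtain ⟨g, hg, e⟩ := h1
  obtain ⟨g', hg', e'⟩ := h2
  refine ⟨g' * g, mul_mem hg' hg, ?_⟩
  rw [← e', ← e]
  group

theorem GConj.symm {X Y : GL D.Idx K} (h : GConj D X Y) : GConj D Y X := by
  obtain ⟨g, hg, e⟩ := h
  refine ⟨g⁻¹, inv_mem hg, ?_⟩
  rw [← e]
  group

variable [CharP K 2]

/-- Conjugation by a root element `x_s(1)`, checked by collection. -/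
theorem gconj_x (s : ℕ) {L L' : List ℕ} (f : ℕ)
    (h : (tabOf D).norm f (s :: L ++ [s]) = (tabOf D).norm f L') :
    GConj D (uw1 C K L) (uw1 C K L') := by
  refine ⟨ux C K s 1, ux_mem_group C _ _, ?_⟩
  rw [ux_inv' C, ← uw1_eq_of_norm C f h, List.cons_append, uw1_cons, uw1_append, uw1_cons, uw1_nil,
    mul_one, mul_assoc]

/-- Conjugation by the element of `N` of a word. -/
theorem gconj_n {w : List ℕ} (hw : ∀ i ∈ w, i < D.rank) (R R' : List ℕ) (hR : ∀ r ∈ R, r < D.nroots)
    (h : R.map ((tabOf D).reflWord w) = R') : GConj D (uw1 C K R) (uw1 C K R') := by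
  refine ⟨nWordGL C.g3.toGood2 w,
    monomialSubgroup_le_group C.g3.toGood1 (nWordGL_mem C.g3.toGood2 w), ?_⟩
  unfold uw1
  rw [conj_uw C hw, ← h, List.map_map, List.map_map]
  · rfl
  · intro p hp
    obtain ⟨r, hr, rfl⟩ := List.mem_map.mp hp
    exact hR r hr

end conj

end Cfsg.Agent.Helper7.Chev
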