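import Mathlib
import Cfsg.Agent.Helper7.ChevInvH

set_option autoImplicit false
set_option linter.unusedSectionVars false
set_option linter.unusedVariables false
set_option maxHeartbeats 1000000

/-!
Ordered products of root elements over the positive roots with a coefficient function: uniqueness of the
coefficients, products of commuting root elements in any order, and the transport of the coefficients under
conjugation by an element of `N` (characteristic two).
-/

namespace Cfsg.Agent.Helper7.Chev

open Cfsg Cfsg.Lie Matrix DoubleCoset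
open scoped Pointwise

variable {D : ChevalleyDatum} {K : Type*} [Field K]

/-- The list of the positive roots. -/
def posL (D : ChevalleyDatum) : List ℕ := List.range' (D.nroots / 2) (D.nroots - D.nroots / 2)

theorem mem_posL {r : ℕ} : r ∈ posL D ↔ D.nroots / 2 ≤ r ∧ r < D.nroots := by
  unfold posL
  rw [List.mem_range'_1]
  have := Nat.div_le_self D.nroots 2
  constructor
  · rintro ⟨h1, h2⟩; exact ⟨h1, by omega⟩
  · rintro ⟨h1, h2⟩; exact ⟨h1, by omega⟩

theorem posL_nodup : (posL D).Nodup := List.nodup_range'

/-- The ordered product over the positive roots with the given coefficients. -/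
noncomputable def ow (C : Ctx D) (t : ℕ → K) : GL D.Idx K :=
  uw C ((posL D).map fun r => (r, t r))

section lists

variable (C : Ctx D)

theorem commute_conj {G : Type*} [Group G] (n : G) {a b : G} (h : Commute a b) :
    Commute (n * a * n⁻¹) (n * b * n⁻¹) := by
  unfold Commute SemiconjBy at h ⊢
  calc n * a * n⁻¹ * (n * b * n⁻¹) = n * (a * b) * n⁻¹ := by group
    _ = n * (b * a) * n⁻¹ := by rw [h]
    _ = _ := by group

theorem uw_map_eq (M : List ℕ) (t : ℕ → K) :
    uw C (M.map fun r => (r, t r)) = (M.map fun r => ux C K r (t r)).prod := by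
  unfold uw
  rw [List.map_map]
  rfl

/-- The product of two products of commuting families over the same list. -/
theorem prod_map_mul_comm {G : Type*} [Group G] (M : List ℕ) (f g : ℕ → G)
    (h : ∀ a ∈ M, ∀ b ∈ M, Commute (g a) (f b)) :
    (M.map f).prod * (M.map g).prod = (M.map fun a => f a * g a).prod := by
  induction M with
  | nil => simp
  | cons a M ih =>
    rw [List.map_cons, List.map_cons, List.map_cons, List.prod_cons, List.prod_cons, List.prod_cons]
    have hc : Commute (g a) (M.map f).prod := by
      apply Commute.list_prod_right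
      intro x hx
      obtain ⟨b, hb, rfl⟩ := List.mem_map.mp hx
      exact h a List.mem_cons_self b (List.mem_cons_of_mem _ hb)
    rw [← ih fun x hx y hy => h x (List.mem_cons_of_mem _ hx) y (List.mem_cons_of_mem _ hy)]
    calc f a * (M.map f).prod * (g a * (M.map g).prod)
        = f a * ((M.map f).prod * g a) * (M.map g).prod := by group
      _ = f a * (g a * (M.map f).prod) * (M.map g).prod := by rw [hc.eq]
      _ = _ := by group

theorem ow_add (t t' : ℕ → K) (h : ∀ r s, Commute (ux C K r (t' r)) (ux C K s (t s))) :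
    ow C t * ow C t' = ow C (t + t') := by
  unfold ow
  rw [uw_map_eq, uw_map_eq, uw_map_eq, prod_map_mul_comm _ _ _ fun a _ b _ => h a b]
  congr 1
  apply List.map_congr_left
  intro r _
  rw [ux_add, Pi.add_apply]

theorem ow_zero : ow C (0 : ℕ → K) = 1 := by
  unfold ow
  apply uw_eq_one_of_zero
  intro p hp
  obtain ⟨r, _, rfl⟩ := List.mem_map.mp hp
  rfl

theorem ow_mem_pos (t : ℕ → K) : ow C t ∈ D.posUnipotent K := by
  unfold ow
  apply uw_mem
  intro p hp
  obtain ⟨r, hr, rfl⟩ := List.mem_map.mp hp
  obtain ⟨h1, h2⟩ := mem_posL.mp hr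
  exact ux_mem_pos C h2 h1 _

/-- Uniqueness of the coefficients. -/
theorem ow_inj {t t' : ℕ → K} (h : ow C t = ow C t') {r : ℕ} (hr : r ∈ posL D) : t r = t' r := by
  have hle := Nat.div_le_self D.nroots 2
  have e : D.wordMat K ((posL D).map fun r => (r, t r)) = D.wordMat K ((posL D).map fun r => (r, t' r)) := by
    rw [← uw_coe C, ← uw_coe C]
    exact congrArg _ h
  exact word_unique C.g3.toGood2 C.t0 C.t8 (D.nroots - D.nroots / 2) (D.nroots / 2) (by omega) le_rfl t t' e r
    hr

theorem single_prod (M : List ℕ) (hM : M.Nodup) (r : ℕ) (a : K) :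
    (M.map fun s => ux C K s ((Pi.single r a : ℕ → K) s)).prod = if r ∈ M then ux C K r a else 1 := by
  induction M with
  | nil => simp
  | cons s M ih =>
    obtain ⟨hs, hM'⟩ := List.nodup_cons.mp hM
    rw [List.map_cons, List.prod_cons, ih hM']
    by_cases hsr : s = r
    · subst hsr
      rw [Pi.single_eq_same, if_neg hs, mul_one, if_pos List.mem_cons_self]
    · rw [Pi.single_eq_of_ne hsr, ux_zero, one_mul]
      by_cases hr : r ∈ M
      · rw [if_pos hr, if_pos (List.mem_cons_of_mem _ hr)]
      · rw [if_neg hr, if_neg]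
        intro h
        rcases List.mem_cons.mp h with h | h
        · exact hsr h.symm
        · exact hr h

theorem ow_single {r : ℕ} (hr : r ∈ posL D) (a : K) : ow C (Pi.single r a) = ux C K r a := by
  unfold ow
  rw [uw_map_eq, single_prod C _ posL_nodup, if_pos hr]

/-- The coefficient function of a list of root elements. -/
def coefL (L : List (ℕ × K)) : ℕ → K := L.foldr (fun p c => Pi.single p.1 p.2 + c) 0

theorem coefL_nil : coefL ([] : List (ℕ × K)) = 0 := rfl

theorem coefL_cons (p : ℕ × K) (L : List (ℕ × K)) : coefL (p :: L) = Pi.single p.1 p.2 + coefL L := rfl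

theorem commute_coefL {g : GL D.Idx K} (L : List (ℕ × K)) (h : ∀ q ∈ L, Commute g (ux C K q.1 q.2)) (r : ℕ) :
    Commute g (ux C K r (coefL L r)) := by
  induction L with
  | nil => rw [coefL_nil, Pi.zero_apply, ux_zero]; exact Commute.one_right g
  | cons q L ih =>
    rw [coefL_cons, Pi.add_apply, ← ux_add]
    apply Commute.mul_right
    · by_cases hqr : q.1 = r
      · subst hqr
        rw [Pi.single_eq_same]
        exact h q List.mem_cons_self
      · rw [Pi.single_eq_of_ne' hqr, ux_zero]
        exact Commute.one_right g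
    · exact ih fun q' hq' => h q' (List.mem_cons_of_mem _ hq')

/-- A product of pairwise commuting root elements of positive roots, as an ordered product. -/
theorem uw_eq_ow (L : List (ℕ × K)) (hL : ∀ p ∈ L, p.2 = 0 ∨ p.1 ∈ posL D)
    (hc : L.Pairwise fun p q => Commute (ux C K p.1 p.2) (ux C K q.1 q.2)) :
    uw C L = ow C (coefL L) := by
  induction L with
  | nil => rw [uw_nil, coefL_nil, ow_zero]
  | cons p L ih =>
    obtain ⟨hp, hc'⟩ := List.pairwise_cons.mp hc
    rw [uw_cons, ih (fun q hq => hL q (List.mem_cons_of_mem _ hq)) hc', coefL_cons]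
    have e : ux C K p.1 p.2 = ow C (Pi.single p.1 p.2) := by
      rcases hL p List.mem_cons_self with h0 | hpos
      · rw [h0, ux_zero, Pi.single_zero, ow_zero]
      · rw [ow_single C hpos]
    rw [e]
    apply ow_add
    intro r s
    by_cases hs : s = p.1
    · subst hs
      rw [Pi.single_eq_same]
      exact (commute_coefL C L hp r).symm
    · rw [Pi.single_eq_of_ne hs, ux_zero]
      exact Commute.one_right _

theorem coefL_map_of_not_mem (M : List ℕ) (σ : ℕ → ℕ) (t : ℕ → K) {s : ℕ} (hs : s ∉ M.map σ) :
    coefL (M.map fun r => (σ r, t r)) s = 0 := by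
  induction M with
  | nil => rfl
  | cons a M ih =>
    rw [List.map_cons, List.mem_cons, not_or] at hs
    rw [List.map_cons, coefL_cons, Pi.add_apply, ih hs.2, add_zero, Pi.single_eq_of_ne hs.1]

theorem coefL_map_of_inj (M : List ℕ) (hM : M.Nodup) (σ : ℕ → ℕ)
    (hσ : ∀ a ∈ M, ∀ b ∈ M, σ a = σ b → a = b) (t : ℕ → K) {r : ℕ} (hr : r ∈ M) :
    coefL (M.map fun r => (σ r, t r)) (σ r) = t r := by
  induction M with
  | nil => simp at hr
  | cons a M ih =>
    obtain ⟨ha, hM'⟩ := List.nodup_cons.mp hM
    rw [List.map_cons, coefL_cons, Pi.add_apply]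
    rcases List.mem_cons.mp hr with rfl | hr'
    · rw [Pi.single_eq_same, coefL_map_of_not_mem, add_zero]
      intro h
      obtain ⟨b, hb, e⟩ := List.mem_map.mp h
      have := hσ b (List.mem_cons_of_mem _ hb) r List.mem_cons_self e
      rw [this] at hb
      exact ha hb
    · have hne : σ r ≠ σ a := by
        intro e
        have := hσ r (List.mem_cons_of_mem _ hr') a List.mem_cons_self e
        rw [this] at hr'
        exact ha hr'
      rw [Pi.single_eq_of_ne hne, zero_add]
      exact ih hM' (fun x hx y hy => hσ x (List.mem_cons_of_mem _ hx) y (List.mem_cons_of_mem _ hy)) hr'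

/-- A product of pairwise commuting root elements, split along a predicate. -/
theorem uw_split (P : ℕ × K → Bool) (L : List (ℕ × K))
    (hc : L.Pairwise fun p q => Commute (ux C K p.1 p.2) (ux C K q.1 q.2)) :
    uw C L = uw C (L.filter P) * uw C (L.filter fun p => !P p) := by
  induction L with
  | nil => simp [uw_nil]
  | cons p L ih =>
    obtain ⟨hp, hc'⟩ := List.pairwise_cons.mp hc
    rw [uw_cons, ih hc']
    by_cases h : P p = true
    · rw [List.filter_cons_of_pos h, List.filter_cons_of_neg (by simp [h]), uw_cons, mul_assoc]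
    · have h' : P p = false := by simpa using h
      rw [List.filter_cons_of_neg (by simp [h']), List.filter_cons_of_pos (by simp [h']), uw_cons]
      have hcm : Commute (ux C K p.1 p.2) (uw C (L.filter P)) := by
        unfold uw
        apply Commute.list_prod_right
        intro x hx
        obtain ⟨q, hq, rfl⟩ := List.mem_map.mp hx
        exact hp q (List.mem_filter.mp hq).1
      rw [← mul_assoc, hcm.eq, mul_assoc]

/-- Dropping the entries outside a set of roots amounts to putting their coefficients to zero. -/
theorem uw_filter_map (Q : ℕ → Bool) (M : List ℕ) (t : ℕ → K) :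
    uw C ((M.filter Q).map fun r => (r, t r)) = uw C (M.map fun r => (r, if Q r then t r else 0)) := by
  induction M with
  | nil => rfl
  | cons a M ih =>
    by_cases h : Q a = true
    · rw [List.filter_cons_of_pos h, List.map_cons, List.map_cons, uw_cons, uw_cons, ih, if_pos h]
    · rw [List.filter_cons_of_neg h, List.map_cons, uw_cons, ih, if_neg h, ux_zero, one_mul]

end lists

section transport

variable (C : Ctx D) [CharP K 2]

/-- The transport of the coefficients under conjugation by an element of `N`. -/
theorem ow_transport {σ : List ℕ} (hσ : ∀ i ∈ σ, i < D.rank) {ta tb : ℕ → K}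
    (hcomm : ∀ r s, Commute (ux C K r (ta r)) (ux C K s (ta s)))
    (e : nWordGL C.g3.toGood2 σ * ow C ta * (nWordGL C.g3.toGood2 σ)⁻¹ = ow C tb)
    {r₀ : ℕ} (hr₀ : r₀ ∈ posL D) (h0 : ta r₀ ≠ 0) :
    (tabOf D).reflWord σ r₀ ∈ posL D ∧ tb ((tabOf D).reflWord σ r₀) = ta r₀ := by
  classical
  have hG := C.g3.toGood2
  set n : GL D.Idx K := nWordGL hG σ with hn
  set s : ℕ → ℕ := (tabOf D).reflWord σ with hs
  have hMlt : ∀ r ∈ posL D, r < D.nroots := fun r hr => (mem_posL.mp hr).2
  set L' : List (ℕ × K) := (posL D).map fun r => (s r, ta r) with hL'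
  -- the conjugate as a product
  have e1 : n * ow C ta * n⁻¹ = uw C L' := by
    unfold ow
    rw [hn, conj_uw C hσ]
    · rw [List.map_map]
      rfl
    · intro p hp
      obtain ⟨r, hr, rfl⟩ := List.mem_map.mp hp
      exact hMlt r hr
  have hcL' : L'.Pairwise fun p q => Commute (ux C K p.1 p.2) (ux C K q.1 q.2) := by
    rw [hL', List.pairwise_map]
    apply List.Pairwise.imp_of_mem (R := fun _ _ => True)
    · intro a b ha hb _
      show Commute (ux C K (s a) (ta a)) (ux C K (s b) (ta b))
      rw [hs, ← conj_ux C hσ (hMlt a ha), ← conj_ux C hσ (hMlt b hb)]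
      exact commute_conj _ (hcomm a b)
    · exact List.pairwise_of_forall (l := posL D) (fun _ _ => trivial)
  -- the negative part is trivial
  set P : ℕ × K → Bool := fun p => decide (p.1 < D.nroots / 2) with hP
  have hsplit := uw_split C P L' hcL'
  have hslt : ∀ r ∈ posL D, s r < D.nroots := fun r hr => reflWord_lt hG hσ (hMlt r hr)
  have hnegmem : uw C (L'.filter P) ∈ D.negUnipotent K := by
    apply uw_mem
    intro p hp
    obtain ⟨hpL, hpP⟩ := List.mem_filter.mp hp
    obtain ⟨r, hr, rfl⟩ := List.mem_map.mp hpL
    simp only [hP, decide_eq_true_eq] at hpP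
    exact ux_mem_neg C (hslt r hr) hpP _
  have hposmem : uw C (L'.filter fun p => !P p) ∈ D.posUnipotent K := by
    apply uw_mem
    intro p hp
    obtain ⟨hpL, hpP⟩ := List.mem_filter.mp hp
    obtain ⟨r, hr, rfl⟩ := List.mem_map.mp hpL
    simp only [hP, Bool.not_eq_true', decide_eq_false_iff_not, not_lt] at hpP
    exact ux_mem_pos C (hslt r hr) hpP _
  have hneg1 : uw C (L'.filter P) = 1 := by
    have h1 : uw C (L'.filter P) = ow C tb * (uw C (L'.filter fun p => !P p))⁻¹ := by
      rw [← e, e1, hsplit]; group
    have h2 : uw C (L'.filter P) ∈ D.borelSubgroup K ⊓ D.negUnipotent K := by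
      refine ⟨?_, hnegmem⟩
      rw [h1]
      exact Subgroup.mem_sup_left (mul_mem (ow_mem_pos C tb) (inv_mem hposmem))
    rw [borel_inf_negUnipotent hG C.t0, Subgroup.mem_bot] at h2
    exact h2
  -- the roots with nonzero coefficients are mapped to positive roots
  set Q : ℕ → Bool := fun r => decide (s r < D.nroots / 2) with hQ
  have hfil : L'.filter P = ((posL D).filter Q).map fun r => (s r, ta r) := by
    rw [hL', List.filter_map]
    rfl
  have hback : uw C (((posL D).filter Q).map fun r => (r, ta r)) = 1 := by
    have h3 : n * uw C (((posL D).filter Q).map fun r => (r, ta r)) * n⁻¹ = 1 := by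
      rw [hn, conj_uw C hσ, List.map_map, ← hneg1, hfil]
      · rfl
      · intro p hp
        obtain ⟨r, hr, rfl⟩ := List.mem_map.mp hp
        exact hMlt r (List.mem_filter.mp hr).1
    calc uw C (((posL D).filter Q).map fun r => (r, ta r))
        = n⁻¹ * (n * uw C (((posL D).filter Q).map fun r => (r, ta r)) * n⁻¹) * n := by group
      _ = 1 := by rw [h3]; group
  have hQ0 : ∀ r ∈ posL D, ta r ≠ 0 → D.nroots / 2 ≤ s r := by
    intro r hr hne
    rw [uw_filter_map C Q] at hback
    have h4 : ow C (fun r => if Q r then ta r else 0) = ow C (0 : ℕ → K) := by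
      rw [ow_zero]
      exact hback
    have h5 := ow_inj C h4 hr
    simp only [Pi.zero_apply] at h5
    by_contra hlt
    rw [not_le] at hlt
    have : Q r = true := by simp only [hQ, decide_eq_true_eq]; exact hlt
    rw [if_pos this] at h5
    exact hne h5
  have hpos₀ := hQ0 r₀ hr₀ h0
  have hs₀ : s r₀ ∈ posL D := mem_posL.mpr ⟨hpos₀, hslt r₀ hr₀⟩
  refine ⟨hs₀, ?_⟩
  -- the positive part
  have hposeq : uw C (L'.filter fun p => !P p) = ow C tb := by
    rw [← e, e1, hsplit, hneg1, one_mul]
  have hfil2 : (L'.filter fun p => !P p) = ((posL D).filter fun r => !Q r).map fun r => (s r, ta r) := by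
    rw [hL', List.filter_map]
    rfl
  have hconv := uw_eq_ow C (L'.filter fun p => !P p) (by
    intro p hp
    obtain ⟨hpL, hpP⟩ := List.mem_filter.mp hp
    obtain ⟨r, hr, rfl⟩ := List.mem_map.mp hpL
    simp only [hP, Bool.not_eq_true', decide_eq_false_iff_not, not_lt] at hpP
    exact Or.inr (mem_posL.mpr ⟨hpP, hslt r hr⟩)) (hcL'.sublist List.filter_sublist)
  rw [hposeq] at hconv
  have h6 := ow_inj C hconv hs₀
  rw [h6, hfil2]
  apply coefL_map_of_inj _ (posL_nodup.sublist List.filter_sublist)
  · intro a ha b hb hab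
    exact reflWord_injective hG hσ (hMlt a (List.mem_filter.mp ha).1) (hMlt b (List.mem_filter.mp hb).1) hab
  · rw [List.mem_filter]
    refine ⟨hr₀, ?_⟩
    simp only [hQ, Bool.not_eq_true', decide_eq_false_iff_not, not_lt]
    exact hpos₀

end transport

end Cfsg.Agent.Helper7.Chev
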