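import Mathlib
import Cfsg.Agent.Helper7.ChevInvI

set_option autoImplicit false
set_option linter.unusedSectionVars false
set_option linter.unusedVariables false
set_option maxHeartbeats 1000000

/-!
Characteristic two, any datum: products of root elements `x_r(1)` over roots `R` lying in an abelian set `Ψ` of positive
roots, whose commutators with `U` lie in the group of a normal subset `Ψ'` of `Ψ` disjoint from `R`. If such a product
for `(Ψ_b, Ψ_b', R_b)` is conjugate to one for `(Ψ_a, Ψ_a', R_a)`, an element of the Weyl group maps `R_b` into `Ψ_a`.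
-/

namespace Cfsg.Agent.Helper7.Chev

open Cfsg Cfsg.Lie Matrix DoubleCoset
open scoped Pointwise

namespace Tab

variable (T : Tab)

/-- The table facts on an abelian set `Ψ` of positive roots, a subset `Ψ'` normalised by the positive roots and a
list `R` of roots of `Ψ` outside `Ψ'` whose commutators with the positive roots lie in `Ψ'`. -/
def IdealOK (Ψ Ψ' R : List ℕ) : Prop :=
  (∀ r ∈ Ψ, T.n / 2 ≤ r ∧ r < T.n) ∧
  (∀ r ∈ Ψ, ∀ s ∈ Ψ, T.commOK r s = true) ∧
  (∀ r ∈ Ψ', r ∈ Ψ) ∧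
  (∀ r ∈ R, r ∈ Ψ ∧ r ∉ Ψ') ∧
  (∀ r ∈ Ψ' ++ R, ∀ s < T.n, T.n / 2 ≤ s → s ≠ r →
    (T.commTerms s r).all (fun c => decide (c.1 ∈ Ψ')) = true) ∧
  R.Nodup

set_option synthInstance.maxSize 4000 in
set_option synthInstance.maxHeartbeats 400000 in
instance (Ψ Ψ' R : List ℕ) : Decidable (T.IdealOK Ψ Ψ' R) := by unfold IdealOK; infer_instance

end Tab

variable {D : ChevalleyDatum} {K : Type*} [Field K]

/-- The subgroup generated by the root subgroups of a list of roots. -/
def UP (C : Ctx D) (K : Type*) [Field K] (Ψ : List ℕ) : Subgroup (GL D.Idx K) :=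
  Subgroup.closure {g | ∃ r ∈ Ψ, ∃ t : K, g = ux C K r t}

section abelian

variable (C : Ctx D)

theorem ux_mem_UP {Ψ : List ℕ} {r : ℕ} (hr : r ∈ Ψ) (t : K) : ux C K r t ∈ UP C K Ψ :=
  Subgroup.subset_closure ⟨r, hr, t, rfl⟩

/-- The elements of the group of an abelian set of positive roots are ordered products. -/
theorem mem_UP_ow {Ψ : List ℕ} (hpos : ∀ r ∈ Ψ, r ∈ posL D)
    (hcomm : ∀ r ∈ Ψ, ∀ s ∈ Ψ, (tabOf D).commOK r s = true) {m : GL D.Idx K} (hm : m ∈ UP C K Ψ) :
    ∃ t : ℕ → K, (∀ r, r ∉ Ψ → t r = 0) ∧ m = ow C t := by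
  have hcm : ∀ t t' : ℕ → K, (∀ r, r ∉ Ψ → t r = 0) → (∀ r, r ∉ Ψ → t' r = 0) →
      ∀ r s, Commute (ux C K r (t' r)) (ux C K s (t s)) := by
    intro t t' ht ht' r s
    by_cases hr : r ∈ Ψ
    · by_cases hs : s ∈ Ψ
      · exact ux_comm_of_ok C (hcomm r hr s hs) _ _
      · rw [ht s hs, ux_zero]; exact Commute.one_right _
    · rw [ht' r hr, ux_zero]; exact Commute.one_left _
  unfold UP at hm
  induction hm using Subgroup.closure_induction with
  | mem x hx =>
    obtain ⟨r, hr, t, rfl⟩ := hx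
    refine ⟨Pi.single r t, ?_, (ow_single C (hpos r hr) t).symm⟩
    intro s hs
    rw [Pi.single_eq_of_ne]
    rintro rfl
    exact hs hr
  | one => exact ⟨0, fun _ _ => rfl, (ow_zero C).symm⟩
  | mul a b _ _ ha hb =>
    obtain ⟨t, ht, rfl⟩ := ha
    obtain ⟨t', ht', rfl⟩ := hb
    refine ⟨t + t', ?_, ow_add C t t' (hcm t t' ht ht')⟩
    intro r hr
    rw [Pi.add_apply, ht r hr, ht' r hr, add_zero]
  | inv a _ ha =>
    obtain ⟨t, ht, rfl⟩ := ha
    refine ⟨-t, ?_, ?_⟩
    · intro r hr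
      rw [Pi.neg_apply, ht r hr, neg_zero]
    · have hneg : ∀ r, r ∉ Ψ → (-t) r = 0 := by
        intro r hr
        rw [Pi.neg_apply, ht r hr, neg_zero]
      have := ow_add C t (-t) (hcm t (-t) ht hneg)
      rw [add_neg_cancel, ow_zero] at this
      exact inv_eq_of_mul_eq_one_right this

/-- Conjugating a root element by a root element of a positive root. -/
theorem conj_ux_pos {r s : ℕ} (hr : r < D.nroots) (hs : s < D.nroots) (hrs : r ≠ s) (hrn : r ≠ D.neg s)
    (c t : K) :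
    (ux C K s c)⁻¹ * ux C K r t * ux C K s c = ux C K r t * uw C (D.commWord K s r c t) := by
  have hcm := comm_all (F := K) C.g3.toGood2 C.g3.t3 C.g3.t4 hs hr hrs hrn c t
  rw [mul_assoc, inv_mul_eq_iff_eq_mul]
  apply Units.ext
  simp only [Units.val_mul, ux_coe, uw_coe]
  rw [hcm, mul_assoc]

/-- The group of a set of roots closed under commutators with the positive roots is normalised by `U`. -/
theorem pos_le_normalizer_UP {Ψ' : List ℕ} (hpos : ∀ r ∈ Ψ', r ∈ posL D)
    (hcl : ∀ r ∈ Ψ', ∀ s < D.nroots, D.nroots / 2 ≤ s → s ≠ r →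
      ((tabOf D).commTerms s r).all (fun c => decide (c.1 ∈ Ψ')) = true) :
    D.posUnipotent K ≤ Subgroup.normalizer (UP C K Ψ' : Set (GL D.Idx K)) := by
  have hG := C.g3.toGood2
  have key : ∀ (s : ℕ), s < D.nroots → D.nroots / 2 ≤ s → ∀ (c : K) (x : GL D.Idx K),
      x ∈ {g | ∃ r ∈ Ψ', ∃ t : K, g = ux C K r t} → (ux C K s c)⁻¹ * x * ux C K s c ∈ UP C K Ψ' := by
    rintro s hs hspos c x ⟨r, hr, t, rfl⟩
    obtain ⟨hr1, hr2⟩ := mem_posL.mp (hpos r hr)
    by_cases hsr : s = r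
    · subst hsr
      rw [ux_inv, ux_add, ux_add]
      have : -c + t + c = t := by ring
      rw [this]
      exact ux_mem_UP C hr t
    · have hrn : r ≠ D.neg s := by
        have := neg_neg_of_pos hG C.t0 hs hspos
        omega
      rw [conj_ux_pos C hr2 hs (Ne.symm hsr) hrn]
      apply mul_mem (ux_mem_UP C hr t)
      apply uw_mem
      intro q hq
      unfold ChevalleyDatum.commWord at hq
      obtain ⟨c', hc', rfl⟩ := List.mem_map.mp hq
      rw [← commTerms_eq] at hc'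
      have := hcl r hr s hs hspos hsr
      rw [List.all_eq_true] at this
      exact ux_mem_UP C (of_decide_eq_true (this c' hc')) _
  unfold ChevalleyDatum.posUnipotent
  rw [Subgroup.closure_le]
  rintro x ⟨s, c, hs, hx⟩
  rw [eq_ux C hs.1 hx]
  have hspos := (isPosRoot_iff C.t0 hs.1).mp hs
  unfold UP
  apply mem_normalizer_closure
  · intro y hy
    have := key s hs.1 hspos (-c) y hy
    rwa [← ux_inv, inv_inv] at this
  · intro y hy
    exact key s hs.1 hspos c y hy

/-- The commutators of `U` with an element stay in a subgroup normalised by `U`. -/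
theorem comm_mem_of_gen {G : Type*} [Group G] {S : Set G} {N : Subgroup G}
    (hN : Subgroup.closure S ≤ Subgroup.normalizer (N : Set G)) (hinv : ∀ x ∈ S, x⁻¹ ∈ S) {y : G}
    (hgen : ∀ x ∈ S, x * y * x⁻¹ * y⁻¹ ∈ N) {u : G} (hu : u ∈ Subgroup.closure S) :
    u * y * u⁻¹ * y⁻¹ ∈ N := by
  induction hu using Subgroup.closure_induction with
  | mem x hx => exact hgen x hx
  | one => simp
  | mul a b ha hb iha ihb =>
    have hna := hN ha
    have e : a * b * y * (a * b)⁻¹ * y⁻¹ = a * (b * y * b⁻¹ * y⁻¹) * a⁻¹ * (a * y * a⁻¹ * y⁻¹) := by group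
    rw [e]
    exact mul_mem ((Subgroup.mem_set_normalizer_iff.mp hna _).mp ihb) iha
  | inv a ha iha =>
    have hna := hN (inv_mem ha)
    have e : a⁻¹ * y * a⁻¹⁻¹ * y⁻¹ = a⁻¹ * (a * y * a⁻¹ * y⁻¹)⁻¹ * a⁻¹⁻¹ := by group
    rw [e]
    exact (Subgroup.mem_set_normalizer_iff.mp hna _).mp (inv_mem iha)

theorem posUnipotent_eq_closure_ux :
    D.posUnipotent K = Subgroup.closure {g | ∃ s, s ∈ posL D ∧ ∃ c : K, g = ux C K s c} := by
  unfold ChevalleyDatum.posUnipotent
  congr 1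
  ext g
  constructor
  · rintro ⟨r, t, hr, hg⟩
    exact ⟨r, mem_posL.mpr ⟨(isPosRoot_iff C.t0 hr.1).mp hr, hr.1⟩, t, eq_ux C hr.1 hg⟩
  · rintro ⟨s, hs, c, rfl⟩
    obtain ⟨h1, h2⟩ := mem_posL.mp hs
    exact ⟨s, c, (isPosRoot_iff C.t0 h2).mpr h1, ux_coe C s c⟩

/-- The commutators of `U` with a product of root elements whose commutators with the positive roots lie in a set
`Ψ'` closed under commutators with the positive roots. -/
theorem comm_uw_mem_UP {Ψ' R : List ℕ} (hpos : ∀ r ∈ Ψ' ++ R, r ∈ posL D)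
    (hcl : ∀ r ∈ Ψ' ++ R, ∀ s < D.nroots, D.nroots / 2 ≤ s → s ≠ r →
      ((tabOf D).commTerms s r).all (fun c => decide (c.1 ∈ Ψ')) = true)
    (L : List (ℕ × K)) (hL : ∀ p ∈ L, p.1 ∈ R) {u : GL D.Idx K} (hu : u ∈ D.posUnipotent K) :
    u * uw C L * u⁻¹ * (uw C L)⁻¹ ∈ UP C K Ψ' := by
  have hG := C.g3.toGood2
  have hnorm := pos_le_normalizer_UP (K := K) C (fun r hr => hpos r (List.mem_append_left _ hr))
    (fun r hr => hcl r (List.mem_append_left _ hr))
  induction L with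
  | nil => simp [uw_nil]
  | cons p L ih =>
    have hpR := hL p List.mem_cons_self
    obtain ⟨hp1, hp2⟩ := mem_posL.mp (hpos p.1 (List.mem_append_right _ hpR))
    have hxU : ux C K p.1 p.2 ∈ D.posUnipotent K := ux_mem_pos C hp2 hp1 _
    have h1 : u * ux C K p.1 p.2 * u⁻¹ * (ux C K p.1 p.2)⁻¹ ∈ UP C K Ψ' := by
      rw [posUnipotent_eq_closure_ux C] at hu hnorm
      apply comm_mem_of_gen hnorm _ _ hu
      · rintro x ⟨s, hs, c, rfl⟩
        exact ⟨s, hs, -c, ux_inv C s c⟩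
      · rintro x ⟨s, hs, c, rfl⟩
        obtain ⟨hs1, hs2⟩ := mem_posL.mp hs
        by_cases hsr : s = p.1
        · rw [hsr]
          have := (ux_commute_self C p.1 c p.2).eq
          have e : ux C K p.1 c * ux C K p.1 p.2 * (ux C K p.1 c)⁻¹ * (ux C K p.1 p.2)⁻¹ = 1 := by
            rw [this]; group
          rw [e]
          exact one_mem _
        · have hrn : p.1 ≠ D.neg s := by
            have := neg_neg_of_pos hG C.t0 hs2 hs1
            omega
          have hc := conj_ux_pos C hp2 hs2 (Ne.symm hsr) hrn (-c) p.2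
          rw [← ux_inv, inv_inv] at hc
          rw [hc]
          have hW : uw C (D.commWord K s p.1 (-c) p.2) ∈ UP C K Ψ' := by
            apply uw_mem
            intro q hq
            unfold ChevalleyDatum.commWord at hq
            obtain ⟨c', hc', rfl⟩ := List.mem_map.mp hq
            rw [← commTerms_eq] at hc'
            have := hcl p.1 (List.mem_append_right _ hpR) s hs2 hs1 hsr
            rw [List.all_eq_true] at this
            exact ux_mem_UP C (of_decide_eq_true (this c' hc')) _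
          have hnx := pos_le_normalizer_UP (K := K) C (fun r hr => hpos r (List.mem_append_left _ hr))
            (fun r hr => hcl r (List.mem_append_left _ hr)) hxU
          exact (Subgroup.mem_set_normalizer_iff.mp hnx _).mp hW
    have h2 := ih fun q hq => hL q (List.mem_cons_of_mem _ hq)
    have hnx := hnorm hxU
    rw [uw_cons]
    have e : u * (ux C K p.1 p.2 * uw C L) * u⁻¹ * (ux C K p.1 p.2 * uw C L)⁻¹ =
        (u * ux C K p.1 p.2 * u⁻¹ * (ux C K p.1 p.2)⁻¹) *
          (ux C K p.1 p.2 * (u * uw C L * u⁻¹ * (uw C L)⁻¹) * (ux C K p.1 p.2)⁻¹) := by group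
    rw [e]
    exact mul_mem h1 ((Subgroup.mem_set_normalizer_iff.mp hnx _).mp h2)

/-- Conjugation of a product of root elements by an element of `H`. -/
theorem diag_conj_uw {h : GL D.Idx K} (hh : h ∈ D.diagonalSubgroup K) :
    ∃ χ : ℕ → K, (∀ r, χ r ≠ 0) ∧ ∀ L : List (ℕ × K), (∀ p ∈ L, p.1 < D.nroots) →
      h * uw C L * h⁻¹ = uw C (L.map fun p => (p.1, χ p.1 * p.2)) := by
  classical
  have hex : ∀ r : ℕ, ∃ χ : K, χ ≠ 0 ∧ (r < D.nroots → ∀ t : K, h * ux C K r t * h⁻¹ = ux C K r (χ * t)) := by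
    intro r
    by_cases hr : r < D.nroots
    · obtain ⟨χ, hχ, e⟩ := diagonal_conj_xGL_lin C.g3.toGood2 hh hr
      refine ⟨χ, hχ, fun _ t => ?_⟩
      rw [ux_of_lt C hr, ux_of_lt C hr]
      exact e t
    · exact ⟨1, one_ne_zero, fun h' => absurd h' hr⟩
  choose χ hχ hconj using hex
  refine ⟨χ, hχ, ?_⟩
  intro L hL
  induction L with
  | nil => rw [uw_nil, List.map_nil, uw_nil]; group
  | cons p L ih =>
    rw [List.map_cons, uw_cons, uw_cons, conj_mul_mul, ih fun q hq => hL q (List.mem_cons_of_mem _ hq),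
      hconj p.1 (hL p List.mem_cons_self)]

end abelian

section form

variable (C : Ctx D)

/-- The conjugates under `B` of a product of root elements `x_r(1)`, `r ∈ R`, are ordered products over `Ψ` with
nonzero coefficients at `R`. -/
theorem borel_conj_form {Ψ Ψ' R : List ℕ} (hI : (tabOf D).IdealOK Ψ Ψ' R) {b : GL D.Idx K}
    (hb : b ∈ D.borelSubgroup K) :
    ∃ t : ℕ → K, b * uw1 C K R * b⁻¹ = ow C t ∧ (∀ r, r ∉ Ψ → t r = 0) ∧ ∀ r ∈ R, t r ≠ 0 := by
  obtain ⟨hΨpos, hΨcomm, hsub, hR, hcl, hnd⟩ := hI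
  have hΨpos' : ∀ r ∈ Ψ, r ∈ posL D := fun r hr => mem_posL.mpr (hΨpos r hr)
  have hpos2 : ∀ r ∈ Ψ' ++ R, r ∈ posL D := by
    intro r hr
    rcases List.mem_append.mp hr with h | h
    · exact hΨpos' r (hsub r h)
    · exact hΨpos' r (hR r h).1
  obtain ⟨u, hu, h, hh, rfl⟩ := borel_decomp C.g3.toGood2 hb
  obtain ⟨χ, hχ, hconj⟩ := diag_conj_uw (K := K) C hh
  set LR : List (ℕ × K) := R.map fun r => (r, χ r * 1) with hLR
  have e1 : h * uw1 C K R * h⁻¹ = uw C LR := by
    unfold uw1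
    rw [hconj, List.map_map]
    · rfl
    · intro p hp
      obtain ⟨r, hr, rfl⟩ := List.mem_map.mp hp
      exact (mem_posL.mp (hΨpos' r (hR r hr).1)).2
  have hLRR : ∀ p ∈ LR, p.1 ∈ R := by
    intro p hp
    obtain ⟨r, hr, rfl⟩ := List.mem_map.mp hp
    exact hr
  have hm := comm_uw_mem_UP (K := K) C hpos2 hcl LR hLRR hu
  obtain ⟨tm, htm, em⟩ := mem_UP_ow C (fun r hr => hΨpos' r (hsub r hr))
    (fun r hr s hs => hΨcomm r (hsub r hr) s (hsub s hs)) hm
  have hLRc : LR.Pairwise fun p q => Commute (ux C K p.1 p.2) (ux C K q.1 q.2) := by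
    apply List.Pairwise.imp_of_mem (R := fun _ _ => True)
    · intro p q hp hq _
      exact ux_comm_of_ok C (hΨcomm p.1 (hR p.1 (hLRR p hp)).1 q.1 (hR q.1 (hLRR q hq)).1) _ _
    · exact List.pairwise_of_forall (fun _ _ => trivial)
  have e2 : uw C LR = ow C (coefL LR) := uw_eq_ow C LR
    (fun p hp => Or.inr (hΨpos' p.1 (hR p.1 (hLRR p hp)).1)) hLRc
  have hcoef0 : ∀ r, r ∉ R → coefL LR r = 0 := by
    intro r hr
    have := coefL_map_of_not_mem R id (fun r => χ r * (1 : K)) (s := r) (by simpa using hr)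
    exact this
  have hcoef1 : ∀ r ∈ R, coefL LR r = χ r * 1 := by
    intro r hr
    exact coefL_map_of_inj R hnd id (fun a _ b _ h => h) (fun r => χ r * (1 : K)) hr
  refine ⟨tm + coefL LR, ?_, ?_, ?_⟩
  · have e3 : (u * h) * uw1 C K R * (u * h)⁻¹ =
        (u * uw C LR * u⁻¹ * (uw C LR)⁻¹) * uw C LR := by
      rw [← e1]; group
    rw [e3, em, e2]
    apply ow_add
    intro r s
    by_cases hr : r ∈ R
    · by_cases hs : s ∈ Ψ'
      · exact ux_comm_of_ok C (hΨcomm r (hR r hr).1 s (hsub s hs)) _ _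
      · rw [htm s hs, ux_zero]; exact Commute.one_right _
    · rw [hcoef0 r hr, ux_zero]; exact Commute.one_left _
  · intro r hr
    have h1 : r ∉ Ψ' := fun h' => hr (hsub r h')
    have h2 : r ∉ R := fun h' => hr (hR r h').1
    rw [Pi.add_apply, htm r h1, hcoef0 r h2, add_zero]
  · intro r hr
    rw [Pi.add_apply, htm r (hR r hr).2, hcoef1 r hr, zero_add, mul_one]
    exact hχ r

end form

section main

variable (C : Ctx D) [CharP K 2]

/-- If the product of the `x_r(1)`, `r ∈ R_b`, is conjugate to the product of the `x_r(1)`, `r ∈ R_a`, an element of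
the Weyl group maps `R_b` into `Ψ_a`. -/
theorem conj_weyl_into {Ψa Ψa' Ra Ψb Ψb' Rb : List ℕ} (hA : (tabOf D).IdealOK Ψa Ψa' Ra)
    (hB : (tabOf D).IdealOK Ψb Ψb' Rb) (hc : GConj D (uw1 C K Rb) (uw1 C K Ra)) :
    ∃ σ : List ℕ, (∀ i ∈ σ, i < D.rank) ∧ ∀ r ∈ Rb, (tabOf D).reflWord σ r ∈ Ψa := by
  have hG := C.g3.toGood2
  have hUB : D.posUnipotent K ≤ D.borelSubgroup K := le_sup_left
  have hHB : D.diagonalSubgroup K ≤ D.borelSubgroup K := le_sup_right
  obtain ⟨W, hW⟩ := exists_wList hG C.t0 C.t6 C.t8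
  obtain ⟨g, hg, e⟩ := hc
  obtain ⟨σ, hσ, b, hb, u', hu', eg⟩ := exists_normal_form (F := K) hG C.t0 C.g3.t3 C.g3.t4
    C.t5 C.t6 C.t8 C.t9 hW hg
  have hσlt := (hW.ok σ hσ).1
  have hu'U : u' ∈ D.posUnipotent K := minusGen_closure_le_pos σ hu'
  obtain ⟨tb, etb, htb0, htb1⟩ := borel_conj_form (K := K) C hB (hUB hu'U)
  obtain ⟨ta, eta, hta0, hta1⟩ := borel_conj_form (K := K) C hA (inv_mem hb)
  have hcell : nWordGL hG σ * ow C tb * (nWordGL hG σ)⁻¹ = ow C ta := by
    rw [← etb, ← eta, ← e, eg]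
    group
  obtain ⟨hΨpos, hΨcomm, hsub, hR, hcl, hnd⟩ := hB
  have hcomm : ∀ r s, Commute (ux C K r (tb r)) (ux C K s (tb s)) := by
    intro r s
    by_cases hr : r ∈ Ψb
    · by_cases hs : s ∈ Ψb
      · exact ux_comm_of_ok C (hΨcomm r hr s hs) _ _
      · rw [htb0 s hs, ux_zero]; exact Commute.one_right _
    · rw [htb0 r hr, ux_zero]; exact Commute.one_left _
  refine ⟨σ, hσlt, ?_⟩
  intro r hr
  have hrpos : r ∈ posL D := mem_posL.mpr (hΨpos r (hR r hr).1)
  obtain ⟨h1, h2⟩ := ow_transport C hσlt hcomm hcell hrpos (htb1 r hr)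
  by_contra hcon
  exact htb1 r hr (by rw [← h2, hta0 _ hcon])

end main

end Cfsg.Agent.Helper7.Chev
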