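import Mathlib
import Cfsg.Agent.Helper7.ChevInvJ

set_option autoImplicit false
set_option linter.unusedSectionVars false
set_option linter.unusedVariables false
set_option maxHeartbeats 1000000

/-!
Any datum: packed tables of the fundamental reflections and of the pairing, for quick evaluation of the table facts on
the special involutions of the Weyl group, on their decompositions into reflections, and of the search for the special
involutions.
-/

namespace Cfsg.Agent.Helper7.Chev

open Cfsg Cfsg.Lie Matrix

namespace Tab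

variable (T : Tab)

/-- The image of `r` under the `i`-th fundamental reflection, read off a packed table of bytes. -/
def fRefl (code i r : ℕ) : ℕ := fld code 8 (T.n * i + r)

/-- The image of a root under a word, by the packed table. -/
def fWord (code : ℕ) (w : List ℕ) (r : ℕ) : ℕ := w.foldr (fun i s => T.fRefl code i s) r

/-- The packed table agrees with the fundamental reflections. -/
def ReflCodeOK (code : ℕ) : Prop := ∀ i < T.l, ∀ r < T.n, T.refl (T.simple i) r = T.fRefl code i r

instance (code : ℕ) : Decidable (T.ReflCodeOK code) := by unfold ReflCodeOK; infer_instance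

/-- The pairing plus eight, read off a packed table of half bytes. -/
def fPair (pc r s : ℕ) : ℕ := fld pc 4 (T.n * r + s)

/-- The packed table agrees with the pairing. -/
def PairCodeOK (pc : ℕ) : Prop := ∀ r < T.n, ∀ s < T.n, T.pairing r s = ((T.fPair pc r s : ℕ) : ℤ) - 8

instance (pc : ℕ) : Decidable (T.PairCodeOK pc) := by unfold PairCodeOK; infer_instance

/-- A byte of a packed table. -/
def lk8 (code i : ℕ) : ℕ := Nat.mod (Nat.shiftRight code (Nat.mul 8 i)) 256

/-- A half byte of a packed table. -/
def lk4 (code i : ℕ) : ℕ := Nat.mod (Nat.shiftRight code (Nat.mul 4 i)) 16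

theorem lk8_eq_fld (code i : ℕ) : lk8 code i = fld code 8 i := rfl

theorem lk4_eq_fld (code i : ℕ) : lk4 code i = fld code 4 i := rfl

/-- The entry of a packed square table of bytes. -/
def sumAt (n sumc r s : ℕ) : ℕ := lk8 sumc (Nat.add (Nat.mul n r) s)

/-- The packed table of the sums of two positive roots agrees with the commutator formula: the entry is `255` if
there are no terms, and the root of the only term otherwise. -/
def SumCodeOK (sumc : ℕ) : Prop :=
  ∀ r < T.n, ∀ s < T.n, T.n / 2 ≤ r → T.n / 2 ≤ s →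
    (T.commTerms r s).map Prod.fst = if sumAt T.n sumc r s = 255 then [] else [sumAt T.n sumc r s]

instance (sumc : ℕ) : Decidable (T.SumCodeOK sumc) := by unfold SumCodeOK; infer_instance

/-- The test that the positive roots made negative by the action `ac` are closed under adding positive roots. -/
def specB (n sumc ac : ℕ) : Bool :=
  allLtB (Nat.div n 2) fun r' => allLtB (Nat.div n 2) fun s' =>
    Nat.beq s' r' || (Nat.ble (Nat.div n 2) (lk8 ac (Nat.add (Nat.div n 2) s')) ||
      (Nat.beq (sumAt n sumc (Nat.add (Nat.div n 2) r') (Nat.add (Nat.div n 2) s')) 255 ||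
        (Nat.ble (Nat.div n 2) (sumAt n sumc (Nat.add (Nat.div n 2) r') (Nat.add (Nat.div n 2) s')) &&
          (Nat.blt (sumAt n sumc (Nat.add (Nat.div n 2) r') (Nat.add (Nat.div n 2) s')) n &&
            Nat.blt (lk8 ac (sumAt n sumc (Nat.add (Nat.div n 2) r') (Nat.add (Nat.div n 2) s')))
              (Nat.div n 2)))))

/-- The table facts on a special involution of the Weyl group, in terms of the packed table of the reflections, of the
packed table of the sums and of a packed table `ac` of the action of the word. -/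
def SpecOK2 (code sumc : ℕ) (w : List ℕ) (ac : ℕ) : Prop :=
  (∀ i ∈ w, i < T.l) ∧
  (∀ r < T.n, T.fWord code w r = fld ac 8 r) ∧
  (∀ r < T.n, fld ac 8 r < T.n ∧ fld ac 8 (fld ac 8 r) = r) ∧
  (∀ r < T.n, T.n / 2 ≤ r → T.n / 2 ≤ fld ac 8 r → fld ac 8 r = r) ∧
  (2 * (T.n / 2) = T.n ∧ specB T.n sumc ac = true) ∧
  (∀ k < T.n, T.n / 2 ≤ k → T.n / 2 ≤ fld ac 8 k → (∃ i < T.l, T.simple i = k) ∨
    ∃ i < T.l, fld ac 8 (T.simple i) = T.simple i ∧ T.n / 2 ≤ T.fRefl code i k ∧
      T.fRefl code i k < k ∧ T.simple i < k) ∧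
  (∀ i < T.l, fld ac 8 (T.simple i) = T.simple i →
    ∀ r < T.n, T.fRefl code i (fld ac 8 (T.fRefl code i r)) = fld ac 8 r) ∧
  (∀ i < T.l, fld ac 8 (T.simple i) = T.simple i →
    ((List.range' (T.n / 2) (T.n - T.n / 2)).filter (fun r => decide (fld ac 8 r < T.n / 2))).length <
    ((List.range' (T.n / 2) (T.n - T.n / 2)).filter
      (fun r => decide (T.fRefl code i (fld ac 8 r) < T.n / 2))).length) ∧
  (∀ i < T.l, fld ac 8 (T.simple i) = T.simple i → ∀ r < T.n, T.n / 2 ≤ r → T.n / 2 ≤ fld ac 8 r →
    r ≠ T.simple i → T.n / 2 ≤ T.fRefl code i r ∧ T.n / 2 ≤ fld ac 8 (T.fRefl code i r))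

set_option synthInstance.maxSize 4000 in
set_option synthInstance.maxHeartbeats 400000 in
instance (code sumc : ℕ) (w : List ℕ) (ac : ℕ) : Decidable (T.SpecOK2 code sumc w ac) := by
  unfold SpecOK2; infer_instance

/-- The table facts on a decomposition into reflections, with the equality of the actions in terms of the packed
table. -/
def DataOK2 (code : ℕ) (w : List ℕ) (Ds : List (List ℕ × ℕ)) : Prop :=
  (∀ i ∈ w, i < T.l) ∧
  (∀ d ∈ Ds, (∀ i ∈ d.1, i < T.l) ∧ d.2 < T.l) ∧
  (Ds.Pairwise fun d d' => T.pairOK d d' = true) ∧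
  (Ds.Pairwise fun d d' => T.commOK (T.dP d) (T.dP d') = true) ∧
  (∀ i < T.l, T.fWord code (dBig Ds) (T.simple i) = T.fWord code w (T.simple i))

instance (code : ℕ) (w : List ℕ) (Ds : List (List ℕ × ℕ)) : Decidable (T.DataOK2 code w Ds) := by
  unfold DataOK2; infer_instance

end Tab

variable {D : ChevalleyDatum}

section generic

variable (hG : Good2 D)

include hG in
/-- The action of a word by the packed table. -/
theorem reflWord_eq_fWord {code : ℕ} (hc : (tabOf D).ReflCodeOK code) {w : List ℕ}
    (hw : ∀ i ∈ w, i < D.rank) {r : ℕ} (hr : r < D.nroots) :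
    (tabOf D).reflWord w r = (tabOf D).fWord code w r := by
  induction w with
  | nil => rfl
  | cons i w ih =>
    have hi : i < D.rank := hw i List.mem_cons_self
    have hw' : ∀ j ∈ w, j < D.rank := fun j hj => hw j (List.mem_cons_of_mem _ hj)
    rw [reflWord_cons]
    change _ = (tabOf D).fRefl code i ((tabOf D).fWord code w r)
    rw [← ih hw']
    exact hc i hi _ (reflWord_lt hG hw' hr)

include hG in
theorem refl_eq_fRefl {code : ℕ} (hc : (tabOf D).ReflCodeOK code) {i : ℕ} (hi : i < D.rank) {r : ℕ}
    (hr : r < D.nroots) : (tabOf D).reflWord [i] r = (tabOf D).fRefl code i r :=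
  hc i hi r hr

include hG in
/-- The table facts on a special involution follow from their form in terms of the packed tables. -/
theorem specOK_of_fast {code sumc : ℕ} (hc : (tabOf D).ReflCodeOK code) (hsum : (tabOf D).SumCodeOK sumc)
    {w : List ℕ} {ac : ℕ} (h : (tabOf D).SpecOK2 code sumc w ac) : (tabOf D).SpecOK w := by
  obtain ⟨hw, hact, hinv, ha, hb, hcc, hd, he, hg⟩ := h
  have hw' : ∀ i ∈ w, i < D.rank := hw
  have hA : ∀ r < D.nroots, (tabOf D).reflWord w r = fld ac 8 r := fun r hr => by
    rw [reflWord_eq_fWord hG hc hw' hr]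
    exact hact r hr
  have hAlt : ∀ r < D.nroots, fld ac 8 r < D.nroots := fun r hr => (hinv r hr).1
  have hR : ∀ i < D.rank, ∀ r < D.nroots, (tabOf D).reflWord [i] r = (tabOf D).fRefl code i r :=
    fun i hi r hr => hc i hi r hr
  have hRlt : ∀ i < D.rank, ∀ r < D.nroots, (tabOf D).fRefl code i r < D.nroots := fun i hi r hr => by
    rw [← hR i hi r hr]
    exact reflWord_lt hG (by simpa using hi) hr
  have hfix : ∀ i < D.rank, (tabOf D).reflWord w (D.simple i) = D.simple i →
      fld ac 8 ((tabOf D).simple i) = (tabOf D).simple i := fun i hi h => by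
    exact (hA _ (hG.toGood1.simple_lt hi)).symm.trans h
  refine ⟨hw, ?_, ?_, ?_, ?_, ?_, ?_, ?_⟩
  · intro r hr hP
    rw [psiP_iff] at hP
    rw [hA r hr] at hP ⊢
    exact ha r hr hP.1.1 hP.2
  · intro r hr s hs hr2 hs2 hsr hneg
    rw [hA s hs] at hneg
    obtain ⟨heven, hB⟩ := hb
    have heven' : 2 * (D.nroots / 2) = D.nroots := heven
    have hr2' : D.nroots / 2 ≤ r := hr2
    have hs2' : D.nroots / 2 ≤ s := hs2
    have hr' : r < D.nroots := hr
    have hs' : s < D.nroots := hs
    unfold Tab.specB at hB
    rw [allLtB_iff] at hB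
    have h1 := hB (r - D.nroots / 2) (by change r - D.nroots / 2 < D.nroots / 2; omega)
    rw [allLtB_iff] at h1
    have h2 := h1 (s - D.nroots / 2) (by change s - D.nroots / 2 < D.nroots / 2; omega)
    have er : Nat.add (Nat.div (tabOf D).n 2) (r - D.nroots / 2) = r := by
      change D.nroots / 2 + (r - D.nroots / 2) = r
      omega
    have es : Nat.add (Nat.div (tabOf D).n 2) (s - D.nroots / 2) = s := by
      change D.nroots / 2 + (s - D.nroots / 2) = s
      omega
    rw [er, es] at h2
    simp only [Bool.or_eq_true, Bool.and_eq_true, Nat.beq_eq, Nat.ble_eq, Nat.blt_eq] at h2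
    have hsm := hsum r hr s hs hr2 hs2
    rw [List.all_eq_true]
    intro c hc'
    have hcm : c.1 ∈ ((tabOf D).commTerms r s).map Prod.fst := List.mem_map.mpr ⟨c, hc', rfl⟩
    rw [hsm] at hcm
    split_ifs at hcm with h255
    · exact absurd hcm (by simp)
    · rw [List.mem_singleton] at hcm
      rcases h2 with h2 | h2 | h2 | ⟨h3, h4, h5⟩
      · exfalso; omega
      · exfalso
        rw [Tab.lk8_eq_fld] at h2
        change D.nroots / 2 ≤ _ at h2
        change _ < D.nroots / 2 at hneg
        omega
      · exact absurd h2 h255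
      · rw [← hcm] at h3 h4 h5
        simp only [Bool.and_eq_true, decide_eq_true_eq]
        refine ⟨⟨h3, h4⟩, ?_⟩
        rw [hA c.1 h4, ← Tab.lk8_eq_fld]
        exact h5
  · intro k hk hP
    rw [psiP_iff] at hP
    rw [hA k hk] at hP
    rcases hcc k hk hP.1.1 hP.2 with h1 | ⟨i, hi, h1, h2, h3, h4⟩
    · exact Or.inl h1
    · refine Or.inr ⟨i, hi, ?_, ?_, ?_, h4⟩
      · exact (hA _ (hG.toGood1.simple_lt hi)).trans h1
      · rw [hR i hi k hk]
        exact h2
      · rw [hR i hi k hk]
        exact h3
  · intro i hi hfx r hr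
    have hi' : i < D.rank := hi
    have h1 := hd i hi (hfix i hi' hfx) r hr
    have e1 : (tabOf D).reflWord (i :: w ++ [i]) r =
        (tabOf D).reflWord [i] ((tabOf D).reflWord w ((tabOf D).reflWord [i] r)) := by
      rw [List.cons_append, reflWord_cons, reflWord_append]
      rfl
    rw [e1, hR i hi' r hr, hA _ (hRlt i hi' r hr), hR i hi' _ (hAlt _ (hRlt i hi' r hr)), hA r hr]
    exact h1
  · intro i hi hfx
    have hi' : i < D.rank := hi
    have h1 := he i hi (hfix i hi' hfx)
    unfold Tab.nM
    have hmem : ∀ r ∈ List.range' ((tabOf D).n / 2) ((tabOf D).n - (tabOf D).n / 2), r < D.nroots := by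
      intro r hr
      rw [List.mem_range'_1] at hr
      have : (tabOf D).n = D.nroots := rfl
      omega
    have e1 : (List.range' ((tabOf D).n / 2) ((tabOf D).n - (tabOf D).n / 2)).filter
        (fun r => decide ((tabOf D).reflWord w r < (tabOf D).n / 2)) =
        (List.range' ((tabOf D).n / 2) ((tabOf D).n - (tabOf D).n / 2)).filter
        (fun r => decide (fld ac 8 r < (tabOf D).n / 2)) := by
      apply List.filter_congr
      intro r hr
      rw [hA r (hmem r hr)]
    have e2 : (List.range' ((tabOf D).n / 2) ((tabOf D).n - (tabOf D).n / 2)).filter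
        (fun r => decide ((tabOf D).reflWord (i :: w) r < (tabOf D).n / 2)) =
        (List.range' ((tabOf D).n / 2) ((tabOf D).n - (tabOf D).n / 2)).filter
        (fun r => decide ((tabOf D).fRefl code i (fld ac 8 r) < (tabOf D).n / 2)) := by
      apply List.filter_congr
      intro r hr
      have hr' := hmem r hr
      have : (tabOf D).reflWord (i :: w) r = (tabOf D).fRefl code i (fld ac 8 r) := by
        rw [reflWord_cons, hA r hr']
        exact hc i hi _ (hAlt r hr')
      rw [this]
    rw [e1, e2]
    exact h1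
  · intro i hi hfx r hr hP hne
    have hi' : i < D.rank := hi
    rw [psiP_iff] at hP
    rw [hA r hr] at hP
    have h1 := hg i hi (hfix i hi' hfx) r hr hP.1.1 hP.2 hne
    rw [psiP_iff, hR i hi' r hr, hA _ (hRlt i hi' r hr)]
    exact ⟨⟨h1.1, hRlt i hi' r hr⟩, h1.2⟩
  · intro r hr
    have h1 := reflWord_reverse_cancel hG hw' hr
    have h2 : (tabOf D).reflWord w.reverse r < D.nroots :=
      reflWord_lt hG (fun i hi => hw' i (List.mem_reverse.mp hi)) hr
    rw [hA _ h2] at h1
    have h3 := (hinv _ h2).2
    rw [h1] at h3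
    rw [hA r hr]
    exact h3.symm

variable (hT : T0 D) (h6 : (tabOf D).T6) (h8 : (tabOf D).T8)

include hG hT h6 h8 in
/-- Two words with the same images of the fundamental roots act in the same way. -/
theorem sameAct_of_simple {a b : List ℕ} (ha : ∀ i ∈ a, i < D.rank) (hb : ∀ i ∈ b, i < D.rank)
    (h : ∀ i < D.rank, (tabOf D).reflWord a (D.simple i) = (tabOf D).reflWord b (D.simple i)) :
    SameAct D a b := by
  have hbr : ∀ i ∈ b.reverse, i < D.rank := fun i hi => hb i (List.mem_reverse.mp hi)
  have key : ∀ i < D.rank, (tabOf D).reflWord b.reverse ((tabOf D).reflWord a (D.simple i)) = D.simple i := by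
    intro i hi
    rw [h i hi]
    have := reflWord_reverse_cancel hG hbr (hG.toGood1.simple_lt hi)
    rwa [List.reverse_reverse] at this
  have := sameAct_of_tuple hG hT h6 h8 ha hbr key
  rwa [List.reverse_reverse] at this

include hG hT h6 h8 in
/-- The table facts on a decomposition into reflections follow from their form in terms of the packed table. -/
theorem dataOK_of_fast {code : ℕ} (hc : (tabOf D).ReflCodeOK code) {w : List ℕ} {Ds : List (List ℕ × ℕ)}
    (h : (tabOf D).DataOK2 code w Ds) : (tabOf D).DataOK w Ds := by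
  obtain ⟨hw, h1, h2, h3, h4⟩ := h
  refine ⟨h1, h2, h3, ?_⟩
  have hbig : ∀ i ∈ dBig Ds, i < D.rank := by
    intro i hi
    unfold dBig at hi
    rw [List.mem_flatMap] at hi
    obtain ⟨d, hd, hid⟩ := hi
    obtain ⟨hd1, hd2⟩ := h1 d hd
    unfold dWord at hid
    simp only [List.mem_append, List.mem_singleton, List.mem_reverse] at hid
    rcases hid with (h | h) | h
    · exact hd1 i h
    · rw [h]; exact hd2
    · exact hd1 i h
  apply sameAct_of_simple hG hT h6 h8 hbig hw
  intro i hi
  have hs := hG.toGood1.simple_lt hi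
  rw [reflWord_eq_fWord hG hc hbig hs, reflWord_eq_fWord hG hc hw hs]
  exact h4 i hi


end generic

section moves

variable {K : Type*} [Field K] (C : Ctx D) [CharP K 2]

/-- Conjugation by the element of `N` of a word, with the images read off the packed table, up to collection. -/
theorem gconj_n_fast {code : ℕ} (hc : (tabOf D).ReflCodeOK code) {w : List ℕ} (hw : ∀ i ∈ w, i < D.rank)
    (R R' : List ℕ) (hR : ∀ r ∈ R, r < D.nroots) (f : ℕ)
    (h : (tabOf D).norm f (R.map ((tabOf D).fWord code w)) = (tabOf D).norm f R') :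
    GConj D (uw1 C K R) (uw1 C K R') := by
  have h1 := gconj_n (K := K) C hw R _ hR rfl
  have e : R.map ((tabOf D).reflWord w) = R.map ((tabOf D).fWord code w) := by
    apply List.map_congr_left
    intro r hr
    exact reflWord_eq_fWord C.g3.toGood2 hc hw (hR r hr)
  rw [e, uw1_eq_of_norm C f h] at h1
  exact h1

namespace Tab

/-- A move `(R, w, R')`: the word `w` maps the list `R` of roots to `R'`, up to collection. -/
def MoveOK (T : Tab) (code f : ℕ) (e : List ℕ × List ℕ × List ℕ) : Prop :=
  (∀ i ∈ e.2.1, i < T.l) ∧ (∀ r ∈ e.1, r < T.n) ∧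
    T.norm f (e.1.map (T.fWord code e.2.1)) = T.norm f e.2.2

instance (T : Tab) (code f : ℕ) (e : List ℕ × List ℕ × List ℕ) : Decidable (T.MoveOK code f e) := by
  unfold MoveOK; infer_instance

/-- A conjugation step `(L, s, L')`: conjugation by `x_s(1)` takes the word `L` to `L'`, up to collection. -/
def StepOK (T : Tab) (f : ℕ) (e : List ℕ × ℕ × List ℕ) : Prop :=
  T.norm f (e.2.1 :: e.1 ++ [e.2.1]) = T.norm f e.2.2

instance (T : Tab) (f : ℕ) (e : List ℕ × ℕ × List ℕ) : Decidable (T.StepOK f e) := by
  unfold StepOK; infer_instance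

end Tab

theorem gconj_of_moveOK {code : ℕ} (hc : (tabOf D).ReflCodeOK code) {f : ℕ} {e : List ℕ × List ℕ × List ℕ}
    (h : (tabOf D).MoveOK code f e) : GConj D (uw1 C K e.1) (uw1 C K e.2.2) :=
  gconj_n_fast C hc h.1 e.1 e.2.2 h.2.1 f h.2.2

theorem gconj_of_stepOK {f : ℕ} {e : List ℕ × ℕ × List ℕ} (h : (tabOf D).StepOK f e) :
    GConj D (uw1 C K e.1) (uw1 C K e.2.2) :=
  gconj_x C e.2.1 f h

end moves

end Cfsg.Agent.Helper7.Chev
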