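import Mathlib
import Cfsg.Agent.Helper7.ChevInvK

set_option autoImplicit false
set_option linter.unusedSectionVars false
set_option linter.unusedVariables false
set_option maxHeartbeats 1000000

/-!
Any datum: the search for the special involutions of the Weyl group through the tuples of images of the fundamental
roots, in a form that evaluates quickly: tuples packed into numerals, loops by primitive recursion, packed table of the
pairing.
-/

namespace Cfsg.Agent.Helper7.Chev

open Cfsg Cfsg.Lie Matrix

/-- The numeral with the bytes of a list. -/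
def packL : List ℕ → ℕ
  | [] => 0
  | a :: L => a + 256 * packL L

theorem lk8_packL (L : List ℕ) (hL : ∀ a ∈ L, a < 256) (j : ℕ) : Tab.lk8 (packL L) j = L.getD j 0 := by
  induction L generalizing j with
  | nil =>
    change (0 >>> (8 * j)) % 256 = 0
    rw [Nat.zero_shiftRight]
  | cons a L ih =>
    have ha : a < 256 := hL a List.mem_cons_self
    have hL' : ∀ b ∈ L, b < 256 := fun b hb => hL b (List.mem_cons_of_mem _ hb)
    cases j with
    | zero =>
      change ((a + 256 * packL L) >>> (8 * 0)) % 256 = a
      rw [Nat.mul_zero, Nat.shiftRight_zero, Nat.add_mul_mod_self_left, Nat.mod_eq_of_lt ha]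
    | succ j =>
      change ((a + 256 * packL L) >>> (8 * (j + 1))) % 256 = (a :: L).getD (j + 1) 0
      have e : 8 * (j + 1) = 8 + 8 * j := by ring
      rw [e, Nat.shiftRight_add, Nat.shiftRight_eq_div_pow (a + 256 * packL L) 8]
      have e2 : (a + 256 * packL L) / 2 ^ 8 = packL L := by
        norm_num
        omega
      rw [e2]
      have := ih hL' j
      change (packL L >>> (8 * j)) % 256 = L.getD j 0 at this
      rw [this]
      simp

theorem packL_append_singleton (L : List ℕ) (r : ℕ) :
    packL (L ++ [r]) = Nat.add (packL L) (Nat.shiftLeft r (Nat.mul 8 L.length)) := by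
  induction L with
  | nil =>
    change r + 256 * 0 = 0 + r <<< (8 * 0)
    simp
  | cons a L ih =>
    change a + 256 * packL (L ++ [r]) = (a + 256 * packL L) + r <<< (8 * (L.length + 1))
    rw [ih]
    change a + 256 * (packL L + r <<< (8 * L.length)) = _
    have e : 8 * (L.length + 1) = 8 * L.length + 8 := by ring
    rw [e, Nat.shiftLeft_add, Nat.shiftLeft_eq _ 8]
    ring

/-- A loop by primitive recursion. -/
def foldFrom {α : Type} (lo d : ℕ) (f : ℕ → α → α) (a : α) : α := Nat.rec a (fun i ih => f (Nat.add lo i) ih) d

theorem foldFrom_zero {α : Type} (lo : ℕ) (f : ℕ → α → α) (a : α) : foldFrom lo 0 f a = a := rfl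

theorem foldFrom_succ {α : Type} (lo d : ℕ) (f : ℕ → α → α) (a : α) :
    foldFrom lo (d + 1) f a = f (lo + d) (foldFrom lo d f a) := rfl

theorem foldFrom_add {α : Type} (lo d e : ℕ) (f : ℕ → α → α) (a : α) :
    foldFrom lo (d + e) f a = foldFrom (lo + d) e f (foldFrom lo d f a) := by
  induction e with
  | zero => rfl
  | succ e ih =>
    rw [← Nat.add_assoc, foldFrom_succ, ih, foldFrom_succ, Nat.add_assoc]

theorem foldFrom_split {α : Type} (lo d e m lo' : ℕ) (f : ℕ → α → α) (a : α) (hm : m = d + e)
    (hlo : lo' = lo + d) : foldFrom lo m f a = foldFrom lo' e f (foldFrom lo d f a) := by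
  subst hm hlo
  exact foldFrom_add lo d e f a

namespace Tab

/-- The entry of the packed table of the pairing. -/
def pk (pc n r s : ℕ) : ℕ := lk4 pc (Nat.add (Nat.mul n r) s)

/-- The test of a root `r` as the image of the `k`-th fundamental root against the image of the `j`-th one. -/
def guardJ (pc n sc k t r j : ℕ) : Bool :=
  Nat.beq (pk pc n (lk8 t j) r) (pk pc n (lk8 sc j) (lk8 sc k)) &&
  (Nat.beq (pk pc n r (lk8 t j)) (pk pc n (lk8 sc k) (lk8 sc j)) &&
  (Nat.beq (pk pc n (lk8 t j) (lk8 sc k)) (pk pc n (lk8 sc j) r) &&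
  Nat.beq (pk pc n (lk8 sc k) (lk8 t j)) (pk pc n r (lk8 sc j))))

/-- The test of a root `r` as the image of the `k`-th fundamental root, given the packed tuple `t` of the images of
the previous ones. -/
def guardN (pc n sc k t r : ℕ) : Bool := allLtB k (guardJ pc n sc k t r)

/-- The completions of the packed tuple `t` of length `k`, put in front of the list `acc`: the next root runs through
the negative roots and the `k`-th fundamental root. -/
def dfsN (pc n sc : ℕ) : ℕ → ℕ → ℕ → List ℕ → List ℕ
  | 0, _, t, acc => t :: acc
  | f + 1, k, t, acc =>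
    cond (guardN pc n sc k t (lk8 sc k))
      (dfsN pc n sc f (k + 1) (Nat.add t (Nat.shiftLeft (lk8 sc k) (Nat.mul 8 k)))
        (foldFrom 0 (Nat.div n 2) (fun r ih => cond (guardN pc n sc k t r)
          (dfsN pc n sc f (k + 1) (Nat.add t (Nat.shiftLeft r (Nat.mul 8 k))) ih) ih) acc))
      (foldFrom 0 (Nat.div n 2) (fun r ih => cond (guardN pc n sc k t r)
          (dfsN pc n sc f (k + 1) (Nat.add t (Nat.shiftLeft r (Nat.mul 8 k))) ih) ih) acc)

/-- One step of the loop of the search. -/
def dfsStep (pc n sc f k t : ℕ) : ℕ → List ℕ → List ℕ := fun r ih => cond (guardN pc n sc k t r)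
  (dfsN pc n sc f (k + 1) (Nat.add t (Nat.shiftLeft r (Nat.mul 8 k))) ih) ih

theorem dfsN_succ (pc n sc f k t : ℕ) (acc : List ℕ) :
    dfsN pc n sc (f + 1) k t acc = cond (guardN pc n sc k t (lk8 sc k))
      (dfsN pc n sc f (k + 1) (Nat.add t (Nat.shiftLeft (lk8 sc k) (Nat.mul 8 k)))
        (foldFrom 0 (Nat.div n 2) (dfsStep pc n sc f k t) acc))
      (foldFrom 0 (Nat.div n 2) (dfsStep pc n sc f k t) acc) := rfl

theorem mem_dfsN_of_mem_acc (pc n sc : ℕ) : ∀ (f k t : ℕ) (acc : List ℕ) (x : ℕ), x ∈ acc →
    x ∈ dfsN pc n sc f k t acc := by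
  intro f
  induction f with
  | zero =>
    intro k t acc x hx
    exact List.mem_cons_of_mem _ hx
  | succ f ih =>
    intro k t acc x hx
    rw [dfsN_succ]
    have hloop : ∀ lo d, x ∈ foldFrom lo d (dfsStep pc n sc f k t) acc := by
      intro lo d
      induction d with
      | zero => exact hx
      | succ d ihd =>
        rw [foldFrom_succ]
        unfold dfsStep
        cases guardN pc n sc k t (lo + d) with
        | true => exact ih _ _ _ x ihd
        | false => exact ihd
    cases guardN pc n sc k t (lk8 sc k) with
    | true => exact ih _ _ _ x (hloop _ _)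
    | false => exact hloop _ _

theorem mem_foldFrom_of_guard (pc n sc f k t : ℕ) (x r : ℕ) (hg : guardN pc n sc k t r = true)
    (hx : ∀ acc, x ∈ dfsN pc n sc f (k + 1) (Nat.add t (Nat.shiftLeft r (Nat.mul 8 k))) acc) :
    ∀ (d : ℕ) (acc : List ℕ), r < d → x ∈ foldFrom 0 d (dfsStep pc n sc f k t) acc := by
  intro d acc
  induction d with
  | zero => intro h; omega
  | succ d ihd =>
    intro hr
    rw [foldFrom_succ, Nat.zero_add]
    by_cases hrd : r = d
    · subst hrd
      unfold dfsStep
      rw [hg]
      exact hx _
    · have := ihd (by omega)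
      unfold dfsStep
      cases guardN pc n sc k t d with
      | true => exact mem_dfsN_of_mem_acc pc n sc _ _ _ _ x this
      | false => exact this

end Tab

variable {D : ChevalleyDatum}

section generic

variable (hG : Good2 D) (hT : T0 D) (h6 : (tabOf D).T6) (h8 : (tabOf D).T8)

include hG in
/-- The packed tuple of the images of the fundamental roots under a special involution is found by the search. -/
theorem tuple_mem_dfsN (hn : D.nroots ≤ 256) {pc : ℕ} (hpc : (tabOf D).PairCodeOK pc) {sc : ℕ}
    (hsc : ∀ j < D.rank, Tab.lk8 sc j = D.simple j) {w : List ℕ} (hw : ∀ i ∈ w, i < D.rank)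
    (hinv : SameAct D w.reverse w)
    (hspec : ∀ i < D.rank, (tabOf D).reflWord w (D.simple i) < D.nroots / 2 ∨
      (tabOf D).reflWord w (D.simple i) = D.simple i) :
    ∀ (f k : ℕ) (acc : List ℕ), k + f = D.rank →
      packL ((List.range D.rank).map fun i => (tabOf D).reflWord w (D.simple i)) ∈
        Tab.dfsN pc D.nroots sc f k
          (packL ((List.range k).map fun i => (tabOf D).reflWord w (D.simple i))) acc := by
  have hG1 := hG.toGood1
  have hww : ∀ r < D.nroots, (tabOf D).reflWord w ((tabOf D).reflWord w r) = r := by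
    intro r hr
    have := reflWord_reverse_cancel hG hw hr
    rwa [hinv r hr] at this
  have hP : ∀ a b c d, a < D.nroots → b < D.nroots → c < D.nroots → d < D.nroots →
      (tabOf D).pairing a b = (tabOf D).pairing c d →
      Nat.beq (Tab.pk pc D.nroots a b) (Tab.pk pc D.nroots c d) = true := by
    intro a b c d ha hb hc hd h
    have h1 := hpc a ha b hb
    have h2 := hpc c hc d hd
    rw [h1, h2] at h
    rw [Nat.beq_eq]
    change (tabOf D).fPair pc a b = (tabOf D).fPair pc c d
    omega
  intro f
  induction f with
  | zero =>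
    intro k acc hk
    have : k = D.rank := by omega
    subst this
    exact List.mem_cons_self
  | succ f ih =>
    intro k acc hk
    have hk' : k < D.rank := by omega
    have hpk := hG1.simple_lt hk'
    have hwk := reflWord_lt hG hw hpk
    set F : ℕ → ℕ := fun i => (tabOf D).reflWord w (D.simple i) with hF
    have hlt : ∀ a ∈ (List.range k).map F, a < 256 := by
      intro a ha
      obtain ⟨i, hi, rfl⟩ := List.mem_map.mp ha
      have hi' : i < D.rank := by
        have := List.mem_range.mp hi
        omega
      have := reflWord_lt hG hw (hG1.simple_lt hi')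
      change F i < D.nroots at this
      omega
    -- the test
    have hguard : Tab.guardN pc D.nroots sc k (packL ((List.range k).map F)) (F k) = true := by
      unfold Tab.guardN
      rw [allLtB_iff]
      intro m hmk
      have hm' : m < D.rank := by omega
      have hpm := hG1.simple_lt hm'
      have hwm := reflWord_lt hG hw hpm
      have eget : Tab.lk8 (packL ((List.range k).map F)) m = F m := by
        rw [lk8_packL _ hlt, List.getD_eq_getElem _ _ (by simp [hmk])]
        simp
      unfold Tab.guardJ
      rw [eget, hsc m hm', hsc k hk']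
      rw [Bool.and_eq_true, Bool.and_eq_true, Bool.and_eq_true]
      refine ⟨?_, ?_, ?_, ?_⟩
      · exact hP _ _ _ _ hwm hwk hpm hpk (pairing_reflWord hG hw hpm hpk)
      · exact hP _ _ _ _ hwk hwm hpk hpm (pairing_reflWord hG hw hpk hpm)
      · apply hP _ _ _ _ hwm hpk hpm hwk
        have := pairing_reflWord hG hw hwm hpk
        rw [hww _ hpm] at this
        exact this.symm
      · apply hP _ _ _ _ hpk hwm hwk hpm
        have := pairing_reflWord hG hw hpk hwm
        rw [hww _ hpm] at this
        exact this.symm
    have hnext : ∀ acc', packL ((List.range D.rank).map F) ∈ Tab.dfsN pc D.nroots sc f (k + 1)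
        (Nat.add (packL ((List.range k).map F)) (Nat.shiftLeft (F k) (Nat.mul 8 k))) acc' := by
      intro acc'
      have := ih (k + 1) acc' (by omega)
      rw [List.range_succ, List.map_append, List.map_cons, List.map_nil, packL_append_singleton,
        List.length_map, List.length_range] at this
      exact this
    rw [Tab.dfsN_succ]
    rcases hspec k hk' with hneg | hfix
    · have hloop := Tab.mem_foldFrom_of_guard pc D.nroots sc f k _ _ (F k) hguard hnext
        (Nat.div D.nroots 2) acc hneg
      cases Tab.guardN pc D.nroots sc k (packL ((List.range k).map F)) (Tab.lk8 sc k) with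
      | true => exact Tab.mem_dfsN_of_mem_acc pc D.nroots sc _ _ _ _ _ hloop
      | false => exact hloop
    · have hfix' : F k = Tab.lk8 sc k := by
        rw [hsc k hk']
        exact hfix
      rw [← hfix', hguard]
      exact hnext _

include hG hT h6 h8 in
/-- The special involutions of the Weyl group are those found by the search, each given with a word. -/
theorem special_class_of_dfsN (hn : D.nroots ≤ 256) {pc : ℕ} (hpc : (tabOf D).PairCodeOK pc) {sc : ℕ}
    (hsc : ∀ j < (tabOf D).l, Tab.lk8 sc j = (tabOf D).simple j) (Tup : List (ℕ × List ℕ))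
    (hsearch : Tab.dfsN pc (tabOf D).n sc (tabOf D).l 0 0 [] = Tup.map Prod.fst)
    (htup : ∀ e ∈ Tup, (∀ i ∈ e.2, i < (tabOf D).l) ∧
      ∀ i < (tabOf D).l, (tabOf D).reflWord e.2.reverse (Tab.lk8 e.1 i) = (tabOf D).simple i)
    {w : List ℕ} (hw : ∀ i ∈ w, i < D.rank) (hinv : SameAct D w.reverse w)
    (hspec : ∀ i < D.rank, (tabOf D).reflWord w (D.simple i) < D.nroots / 2 ∨
      (tabOf D).reflWord w (D.simple i) = D.simple i) :
    ∃ e ∈ Tup, SameAct D w e.2 := by
  have hG1 := hG.toGood1
  have hmem := tuple_mem_dfsN hG hn hpc hsc hw hinv hspec D.rank 0 [] (by omega)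
  have hsearch' : Tab.dfsN pc D.nroots sc D.rank 0 0 [] = Tup.map Prod.fst := hsearch
  rw [List.range_zero, List.map_nil] at hmem
  change _ ∈ Tab.dfsN pc D.nroots sc D.rank 0 0 [] at hmem
  rw [hsearch', List.mem_map] at hmem
  obtain ⟨e, he, heq⟩ := hmem
  obtain ⟨hX, hXact⟩ := htup e he
  refine ⟨e, he, ?_⟩
  have hXr : ∀ i ∈ e.2.reverse, i < D.rank := fun i hi => hX i (List.mem_reverse.mp hi)
  have hlt : ∀ a ∈ (List.range D.rank).map (fun i => (tabOf D).reflWord w (D.simple i)), a < 256 := by
    intro a ha
    obtain ⟨i, hi, rfl⟩ := List.mem_map.mp ha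
    have := reflWord_lt hG hw (hG1.simple_lt (List.mem_range.mp hi))
    omega
  have hkey : ∀ i < D.rank, (tabOf D).reflWord e.2.reverse ((tabOf D).reflWord w (D.simple i)) =
      D.simple i := by
    intro i hi
    have hget : Tab.lk8 e.1 i = (tabOf D).reflWord w (D.simple i) := by
      rw [heq, lk8_packL _ hlt, List.getD_eq_getElem _ _ (by simp [hi])]
      simp
    rw [← hget]
    exact hXact i hi
  have := sameAct_of_tuple hG hT h6 h8 hw hXr hkey
  rwa [List.reverse_reverse] at this

end generic

end Cfsg.Agent.Helper7.Chev
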