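import Mathlib
import Cfsg.Agent.Helper7.ChevInvK

set_option autoImplicit false
set_option linter.unusedSectionVars false
set_option linter.unusedVariables false
set_option maxHeartbeats 1000000

/-!
Characteristic two, any datum: every involution is conjugate to a product of root elements `x_r(1)` over one of the
lists of pairwise orthogonal roots attached to the special involutions of the Weyl group; and paths of conjugations of
such products by root elements and by elements of `N`, checked by collection.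
-/

namespace Cfsg.Agent.Helper7.Chev

open Cfsg Cfsg.Lie Matrix DoubleCoset
open scoped Pointwise

variable {D : ChevalleyDatum} {K : Type*} [Field K]

section roots

variable (C : Ctx D) [CharP K 2]

/-- Every involution is conjugate to the product of the root elements `x_r(1)` over the list of roots of one of the
special involutions of the Weyl group, given as a list of triples: word, decomposition into reflections, roots. -/
theorem inv_conj_roots [Fintype K] (Spec : List (List ℕ × List (List ℕ × ℕ) × List ℕ))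
    (hSpec : ∀ e ∈ Spec, (tabOf D).SpecOK e.1)
    (hData : ∀ e ∈ Spec, (tabOf D).DataOK e.1 e.2.1 ∧ e.2.1.map (tabOf D).dP = e.2.2)
    (hclass : ∀ w : List ℕ, (∀ i ∈ w, i < D.rank) → SameAct D w.reverse w →
      (∀ i < D.rank, (tabOf D).reflWord w (D.simple i) < D.nroots / 2 ∨
        (tabOf D).reflWord w (D.simple i) = D.simple i) → ∃ e ∈ Spec, SameAct D w e.1)
    {t : GL D.Idx K} (ht : t ∈ D.group K) (ht2 : t * t = 1) (ht1 : t ≠ 1) :
    ∃ e ∈ Spec, e.2.2 ≠ [] ∧ GConj D t (uw1 C K e.2.2) := by
  obtain ⟨W, hW⟩ := exists_wList C.g3.toGood2 C.t0 C.t6 C.t8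
  have hSpec' : ∀ v ∈ Spec.map Prod.fst, (tabOf D).SpecOK v := by
    intro v hv
    obtain ⟨e, he, rfl⟩ := List.mem_map.mp hv
    exact hSpec e he
  have hclass' : ∀ w : List ℕ, (∀ i ∈ w, i < D.rank) → SameAct D w.reverse w →
      (∀ i < D.rank, (tabOf D).reflWord w (D.simple i) < D.nroots / 2 ∨
        (tabOf D).reflWord w (D.simple i) = D.simple i) → ∃ v ∈ Spec.map Prod.fst, SameAct D w v := by
    intro w hw hinv hspec
    obtain ⟨e, he, hs⟩ := hclass w hw hinv hspec
    exact ⟨e.1, List.mem_map.mpr ⟨e, he, rfl⟩, hs⟩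
  obtain ⟨g, hg, v, hv, h, hh, e⟩ := inv_conj_N (K := K) C hW (Spec.map Prod.fst) hSpec' hclass' ht ht2
  obtain ⟨s, hs, rfl⟩ := List.mem_map.mp hv
  have hinv : (h * nWordGL C.g3.toGood2 s.1) * (h * nWordGL C.g3.toGood2 s.1) = 1 := by
    rw [← e]
    calc g * t * g⁻¹ * (g * t * g⁻¹) = g * (t * t) * g⁻¹ := by group
      _ = 1 := by rw [ht2]; group
  obtain ⟨hdata, hroots⟩ := hData s hs
  have hvr : ∀ i ∈ s.1, i < D.rank := (hSpec s hs).1
  obtain ⟨g', hg', e'⟩ := inv_N_conj C s.2.1 hdata hvr hh hinv
  have hconj : GConj D t (uw1 C K s.2.2) := by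
    refine ⟨g' * g, mul_mem hg' hg, ?_⟩
    unfold uw1
    rw [← hroots, List.map_map]
    have hcomp : ((fun r : ℕ => (r, (1 : K))) ∘ (tabOf D).dP) =
        fun d => ((tabOf D).dP d, (1 : K)) := rfl
    rw [hcomp, ← e', ← e]
    group
  refine ⟨s, hs, ?_, hconj⟩
  intro hnil
  rw [hnil] at hconj
  obtain ⟨g₁, hg₁, e₁⟩ := hconj
  apply ht1
  rw [uw1_nil] at e₁
  calc t = g₁⁻¹ * (g₁ * t * g₁⁻¹) * g₁ := by group
    _ = 1 := by rw [e₁]; group

end roots

namespace Tab

/-- One operation on a word in the root elements `x_r(1)`: conjugation by `x_s(1)`, or by the element of `N` of a word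
of the Weyl group; the result is given up to collection. -/
def OpOK (T : Tab) (code f : ℕ) (L : List ℕ) (op : ℕ ⊕ List ℕ) (L' : List ℕ) : Prop :=
  match op with
  | Sum.inl s => T.norm f (s :: L ++ [s]) = T.norm f L'
  | Sum.inr w => (∀ i ∈ w, i < T.l) ∧ (∀ r ∈ L, r < T.n) ∧ T.norm f (L.map (T.fWord code w)) = T.norm f L'

instance (T : Tab) (code f : ℕ) (L : List ℕ) (op : ℕ ⊕ List ℕ) (L' : List ℕ) :
    Decidable (T.OpOK code f L op L') := by
  unfold OpOK
  cases op with
  | inl s => exact inferInstanceAs (Decidable (_ = _))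
  | inr w => exact inferInstanceAs (Decidable (_ ∧ _ ∧ _))

/-- A path of operations, each with its result. -/
def PathOK (T : Tab) (code f : ℕ) : List ℕ → List ((ℕ ⊕ List ℕ) × List ℕ) → Prop
  | _, [] => True
  | L, p :: rest => T.OpOK code f L p.1 p.2 ∧ PathOK T code f p.2 rest

/-- The end of a path. -/
def pathEnd : List ℕ → List ((ℕ ⊕ List ℕ) × List ℕ) → List ℕ
  | L, [] => L
  | _, p :: rest => pathEnd p.2 rest

/-- The decision procedure for the paths. -/
def decPathOK (T : Tab) (code f : ℕ) : ∀ (L : List ℕ) (path : List ((ℕ ⊕ List ℕ) × List ℕ)),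
    Decidable (T.PathOK code f L path)
  | _, [] => isTrue trivial
  | L, p :: rest =>
    match (inferInstance : Decidable (T.OpOK code f L p.1 p.2)), decPathOK T code f p.2 rest with
    | isTrue h1, isTrue h2 => isTrue ⟨h1, h2⟩
    | isFalse h1, _ => isFalse fun h => h1 h.1
    | _, isFalse h2 => isFalse fun h => h2 h.2

instance (T : Tab) (code f : ℕ) (L : List ℕ) (path : List ((ℕ ⊕ List ℕ) × List ℕ)) :
    Decidable (T.PathOK code f L path) := decPathOK T code f L path

end Tab

section paths

variable (C : Ctx D) [CharP K 2]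

theorem gconj_of_opOK {code : ℕ} (hc : (tabOf D).ReflCodeOK code) {f : ℕ} {L : List ℕ} {op : ℕ ⊕ List ℕ}
    {L' : List ℕ} (h : (tabOf D).OpOK code f L op L') : GConj D (uw1 C K L) (uw1 C K L') := by
  cases op with
  | inl s => exact gconj_x C s f h
  | inr w =>
    obtain ⟨h1, h2, h3⟩ := h
    exact gconj_n_fast C hc h1 L L' h2 f h3

/-- The two ends of a path are conjugate. -/
theorem gconj_of_pathOK {code : ℕ} (hc : (tabOf D).ReflCodeOK code) {f : ℕ} :
    ∀ (path : List ((ℕ ⊕ List ℕ) × List ℕ)) (L : List ℕ), (tabOf D).PathOK code f L path →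
      GConj D (uw1 C K L) (uw1 C K (Tab.pathEnd L path)) := by
  intro path
  induction path with
  | nil => intro L _; exact GConj.refl _
  | cons p rest ih =>
    intro L h
    obtain ⟨h1, h2⟩ := h
    exact (gconj_of_opOK C hc h1).trans (ih p.2 h2)

end paths

end Cfsg.Agent.Helper7.Chev
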