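import Mathlib
import Cfsg.Agent.Helper7.ChevInvM

set_option autoImplicit false
set_option linter.unusedSectionVars false
set_option linter.unusedVariables false
set_option maxHeartbeats 1000000

/-!
Characteristic two, any datum: products of root elements `x_r(1)` over lists of roots as in the table facts on abelian
sets of roots are involutions; and the count of the classes of involutions from a list of representatives.
-/

namespace Cfsg.Agent.Helper7.Chev

open Cfsg Cfsg.Lie Matrix DoubleCoset
open scoped Pointwise

/-- The number of classes of involutions of a group, given a list of pairwise non-conjugate involutions meeting every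
class of involutions. -/
theorem ncard_involution_classes {G : Type*} [Group G] (ys : List G) (h2 : ∀ y ∈ ys, orderOf y = 2)
    (hall : ∀ g : G, orderOf g = 2 → ∃ y ∈ ys, IsConj g y)
    (hpair : ys.Pairwise fun a b => ¬ IsConj a b) :
    (ConjClasses.mk '' {g : G | orderOf g = 2}).ncard = ys.length := by
  classical
  have hset : ConjClasses.mk '' {g : G | orderOf g = 2} = ((ys.map ConjClasses.mk).toFinset : Set (ConjClasses G)) := by
    ext x
    simp only [Set.mem_image, Set.mem_setOf_eq, Finset.mem_coe, List.mem_toFinset, List.mem_map]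
    constructor
    · rintro ⟨g, hg, rfl⟩
      obtain ⟨y, hy, hc⟩ := hall g hg
      exact ⟨y, hy, (ConjClasses.mk_eq_mk_iff_isConj.mpr hc).symm⟩
    · rintro ⟨y, hy, rfl⟩
      exact ⟨y, h2 y hy, rfl⟩
  have hnd : (ys.map ConjClasses.mk).Nodup := by
    unfold List.Nodup
    rw [List.pairwise_map]
    apply hpair.imp
    intro a b hab h
    exact hab (ConjClasses.mk_eq_mk_iff_isConj.mp h)
  rw [hset, Set.ncard_coe_finset, List.toFinset_card_of_nodup hnd, List.length_map]

variable {D : ChevalleyDatum} {K : Type*} [Field K]

section order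

variable (C : Ctx D) [CharP K 2]

/-- A product of root elements `x_r(1)` over roots as in the table facts is an involution. -/
theorem uw1_order_two_of_ideal {Ψ Ψ' R : List ℕ} (hI : (tabOf D).IdealOK Ψ Ψ' R) (hR : R ≠ []) :
    orderOf (uw1 C K R) = 2 := by
  have hI' := hI
  obtain ⟨hΨpos, hΨcomm, hsub, hRm, hcl, hnd⟩ := hI
  haveI : Fact (Nat.Prime 2) := ⟨Nat.prime_two⟩
  apply orderOf_eq_prime
  · rw [pow_two]
    unfold uw1
    apply uw_sq_of_comm
    rw [List.pairwise_map]
    apply List.Pairwise.imp_of_mem (R := fun _ _ => True)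
    · intro a b ha hb _
      exact hΨcomm a (hRm a ha).1 b (hRm b hb).1
    · exact List.pairwise_of_forall (fun _ _ => trivial)
  · intro h1
    obtain ⟨t, et, ht0, ht1⟩ := borel_conj_form (K := K) C hI' (one_mem _)
    rw [one_mul, inv_one, mul_one, h1, ← ow_zero C] at et
    obtain ⟨r, hr⟩ := List.exists_mem_of_ne_nil R hR
    have hrpos : r ∈ posL D := mem_posL.mpr (hΨpos r (hRm r hr).1)
    have := ow_inj C et hrpos
    exact ht1 r hr this.symm

/-- The number of classes of involutions of the Chevalley group, given a list of lists of roots whose products of root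
elements `x_r(1)` are pairwise non-conjugate involutions meeting every class of involutions. -/
theorem involution_class_count (Reps : List (List ℕ)) (hord : ∀ R ∈ Reps, orderOf (uw1 C K R) = 2)
    (hall : ∀ t ∈ D.group K, t * t = 1 → t ≠ 1 → ∃ R ∈ Reps, GConj D t (uw1 C K R))
    (hpair : Reps.Pairwise fun R R' => ¬ GConj D (uw1 C K R) (uw1 C K R')) :
    (ConjClasses.mk '' {g : ↥(D.group K) | orderOf g = 2}).ncard = Reps.length := by
  have hconj : ∀ a b : ↥(D.group K), IsConj a b ↔ GConj D (a : GL D.Idx K) (b : GL D.Idx K) := by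
    intro a b
    rw [isConj_iff]
    constructor
    · rintro ⟨c, hc⟩
      refine ⟨c, c.2, ?_⟩
      have := congrArg Subtype.val hc
      simpa using this
    · rintro ⟨g, hg, e⟩
      refine ⟨⟨g, hg⟩, ?_⟩
      apply Subtype.ext
      simpa using e
  have := ncard_involution_classes (G := ↥(D.group K))
    (Reps.map fun R => (⟨uw1 C K R, uw1_mem_group C R⟩ : ↥(D.group K))) ?_ ?_ ?_
  · rw [this, List.length_map]
  · intro y hy
    obtain ⟨R, hR, rfl⟩ := List.mem_map.mp hy
    rw [← Subgroup.orderOf_coe]
    exact hord R hR
  · intro g hg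
    have hg' : orderOf (g : GL D.Idx K) = 2 := by rw [Subgroup.orderOf_coe]; exact hg
    have hgg : (g : GL D.Idx K) * g = 1 := by
      rw [← pow_two, ← hg']
      exact pow_orderOf_eq_one _
    have hg1 : (g : GL D.Idx K) ≠ 1 := by
      intro h
      rw [h, orderOf_one] at hg'
      omega
    obtain ⟨R, hR, hc⟩ := hall g g.2 hgg hg1
    refine ⟨⟨uw1 C K R, uw1_mem_group C R⟩, List.mem_map.mpr ⟨R, hR, rfl⟩, ?_⟩
    rw [hconj]
    exact hc
  · rw [List.pairwise_map]
    apply hpair.imp
    intro R R' h hc
    rw [hconj] at hc
    exact h hc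

end order

end Cfsg.Agent.Helper7.Chev
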