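import Mathlib
import Cfsg.Agent.Helper7.ChevInvL

set_option autoImplicit false
set_option linter.unusedSectionVars false
set_option linter.unusedVariables false
set_option maxHeartbeats 1000000

/-!
Any datum: the search for the special involutions of the Weyl group, in a form where the arguments of the table
look-ups are evaluated first, so that equal look-ups are evaluated once; and the words of the tuples found checked by the
packed table of the fundamental reflections.
-/

namespace Cfsg.Agent.Helper7.Chev

open Cfsg Cfsg.Lie Matrix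

/-- Application of a function to a natural number, evaluating the number first. -/
def appS {α : Type} (f : ℕ → α) (x : ℕ) : α := Nat.rec (f Nat.zero) (fun m _ => f (Nat.succ m)) x

theorem appS_eq {α : Type} (f : ℕ → α) (x : ℕ) : appS f x = f x := by
  cases x <;> rfl

namespace Tab

/-- The test of a root `r` as the image of the `k`-th fundamental root `sk` against the image `tj` of the `j`-th
fundamental root `sj`. -/
def guardV (pc n r sj sk tj : ℕ) : Bool :=
  Nat.beq (pk pc n tj r) (pk pc n sj sk) &&
  (Nat.beq (pk pc n r tj) (pk pc n sk sj) &&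
  (Nat.beq (pk pc n tj sk) (pk pc n sj r) &&
  Nat.beq (pk pc n sk tj) (pk pc n r sj)))

/-- The test against the image of the `j`-th fundamental root, with the table entries evaluated first. -/
def guardJ2 (pc n sc k t r j : ℕ) : Bool :=
  appS (fun tj => appS (fun sj => appS (fun sk => guardV pc n r sj sk tj) (lk8 sc k)) (lk8 sc j)) (lk8 t j)

/-- The test of a root as the image of the `k`-th fundamental root, with the root evaluated first. -/
def guardN2 (pc n sc k t r : ℕ) : Bool := appS (fun r' => allLtB k (guardJ2 pc n sc k t r')) r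

theorem guardJ2_eq (pc n sc k t r j : ℕ) : guardJ2 pc n sc k t r j = guardJ pc n sc k t r j := by
  unfold guardJ2
  rw [appS_eq, appS_eq, appS_eq]
  rfl

theorem guardN2_eq (pc n sc k t r : ℕ) : guardN2 pc n sc k t r = guardN pc n sc k t r := by
  unfold guardN2 guardN
  rw [appS_eq]
  congr 1
  funext j
  exact guardJ2_eq pc n sc k t r j

/-- The completions of the packed tuple `t` of length `k`, put in front of the list `acc`, with the packed tuples
evaluated first. -/
def dfsN2 (pc n sc : ℕ) : ℕ → ℕ → ℕ → List ℕ → List ℕ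
  | 0, _, t, acc => t :: acc
  | f + 1, k, t, acc =>
    cond (guardN2 pc n sc k t (lk8 sc k))
      (appS (fun t' => dfsN2 pc n sc f (k + 1) t'
        (foldFrom 0 (Nat.div n 2) (fun r ih => cond (guardN2 pc n sc k t r)
          (appS (fun t'' => dfsN2 pc n sc f (k + 1) t'' ih) (Nat.add t (Nat.shiftLeft r (Nat.mul 8 k)))) ih) acc))
        (Nat.add t (Nat.shiftLeft (lk8 sc k) (Nat.mul 8 k))))
      (foldFrom 0 (Nat.div n 2) (fun r ih => cond (guardN2 pc n sc k t r)
          (appS (fun t'' => dfsN2 pc n sc f (k + 1) t'' ih) (Nat.add t (Nat.shiftLeft r (Nat.mul 8 k)))) ih) acc)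

/-- One step of the loop of the search. -/
def dfsStep2 (pc n sc f k t : ℕ) : ℕ → List ℕ → List ℕ := fun r ih => cond (guardN2 pc n sc k t r)
  (appS (fun t'' => dfsN2 pc n sc f (k + 1) t'' ih) (Nat.add t (Nat.shiftLeft r (Nat.mul 8 k)))) ih

theorem dfsN2_succ (pc n sc f k t : ℕ) (acc : List ℕ) :
    dfsN2 pc n sc (f + 1) k t acc = cond (guardN2 pc n sc k t (lk8 sc k))
      (appS (fun t' => dfsN2 pc n sc f (k + 1) t' (foldFrom 0 (Nat.div n 2) (dfsStep2 pc n sc f k t) acc))
        (Nat.add t (Nat.shiftLeft (lk8 sc k) (Nat.mul 8 k))))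
      (foldFrom 0 (Nat.div n 2) (dfsStep2 pc n sc f k t) acc) := rfl

theorem dfsN2_eq (pc n sc : ℕ) : ∀ (f k t : ℕ) (acc : List ℕ),
    dfsN2 pc n sc f k t acc = dfsN pc n sc f k t acc := by
  intro f
  induction f with
  | zero => intro k t acc; rfl
  | succ f ih =>
    intro k t acc
    rw [dfsN2_succ, dfsN_succ, guardN2_eq, appS_eq]
    have hstep : dfsStep2 pc n sc f k t = dfsStep pc n sc f k t := by
      funext r a
      unfold dfsStep2 dfsStep
      rw [guardN2_eq, appS_eq, ih]
    rw [hstep, ih]

end Tab

variable {D : ChevalleyDatum}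

section generic

variable (hG : Good2 D) (hT : T0 D) (h6 : (tabOf D).T6) (h8 : (tabOf D).T8)

include hG hT h6 h8 in
/-- The special involutions of the Weyl group are those found by the search, each given with a word checked by the
packed table of the fundamental reflections. -/
theorem special_class_of_dfsN2 (hn : D.nroots ≤ 256) {pc : ℕ} (hpc : (tabOf D).PairCodeOK pc) {sc : ℕ}
    (hsc : ∀ j < (tabOf D).l, Tab.lk8 sc j = (tabOf D).simple j) {code : ℕ}
    (hc : (tabOf D).ReflCodeOK code) (Tup : List (ℕ × List ℕ))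
    (hsearch : Tab.dfsN2 pc (tabOf D).n sc (tabOf D).l 0 0 [] = Tup.map Prod.fst)
    (htup : ∀ e ∈ Tup, (∀ i ∈ e.2, i < (tabOf D).l) ∧
      ∀ i < (tabOf D).l, Tab.lk8 e.1 i < (tabOf D).n ∧
        (tabOf D).fWord code e.2.reverse (Tab.lk8 e.1 i) = (tabOf D).simple i)
    {w : List ℕ} (hw : ∀ i ∈ w, i < D.rank) (hinv : SameAct D w.reverse w)
    (hspec : ∀ i < D.rank, (tabOf D).reflWord w (D.simple i) < D.nroots / 2 ∨
      (tabOf D).reflWord w (D.simple i) = D.simple i) :
    ∃ e ∈ Tup, SameAct D w e.2 := by
  apply special_class_of_dfsN hG hT h6 h8 hn hpc hsc Tup _ _ hw hinv hspec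
  · rw [← Tab.dfsN2_eq]
    exact hsearch
  · intro e he
    obtain ⟨h1, h2⟩ := htup e he
    refine ⟨h1, ?_⟩
    intro i hi
    obtain ⟨h3, h4⟩ := h2 i hi
    have h1r : ∀ j ∈ e.2.reverse, j < D.rank := fun j hj => h1 j (List.mem_reverse.mp hj)
    rw [reflWord_eq_fWord hG hc h1r h3]
    exact h4

end generic

end Cfsg.Agent.Helper7.Chev
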