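import Mathlib
import Cfsg.Agent.Helper7.ChevOutA
import Cfsg.Agent.Helper7.FieldAutCard
import Cfsg.Agent.Helper7.ChevSimpleGen

set_option autoImplicit false
set_option linter.unusedSectionVars false
set_option linter.unusedVariables false
set_option linter.style.haveILetI false

/-!
The outer automorphism group of a Chevalley group over a finite field, part B: the automorphisms stabilising
`U`, `V` and the root subgroups of the fundamental roots are the products of a diagonal and a field automorphism.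
-/

namespace Cfsg.Agent.Helper7.Chev

open Cfsg Cfsg.Lie Matrix

variable {D : ChevalleyDatum} {F : Type*} [Field F]

/-- The group of the automorphisms stabilising `U`, `V` and the root subgroups of the fundamental roots. -/
def fixNodes (D : ChevalleyDatum) (F : Type*) [Field F] : Subgroup (MulAut ↥(D.group F)) where
  carrier := {θ | θ ∈ stabUV D F ∧ ∀ i < D.rank,
    MapsOnto θ (D.rootSubgroup F (D.simple i)) (D.rootSubgroup F (D.simple i))}
  mul_mem' := by
    rintro a b ⟨ha1, ha2⟩ ⟨hb1, hb2⟩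
    exact ⟨mul_mem ha1 hb1, fun i hi => (hb2 i hi).trans (ha2 i hi)⟩
  one_mem' := ⟨one_mem _, fun i hi x => Iff.rfl⟩
  inv_mem' := by
    rintro a ⟨ha1, ha2⟩
    exact ⟨inv_mem ha1, fun i hi => (ha2 i hi).symm⟩

theorem fixNodes_le_stabUV : fixNodes D F ≤ stabUV D F := fun θ h => h.1

section general

variable (hG : Good2 D) (hT : T0 D) (h8 : (tabOf D).T8)

theorem xGL_mem_rootSubgroup {r : ℕ} (hr : r < D.nroots) (t : F) :
    xGL hG.toGood1 hr t ∈ D.rootSubgroup F r :=
  Subgroup.subset_closure ⟨t, xGL_coe hG.toGood1 hr t⟩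

/-- An automorphism in normal form maps the root subgroup of a fundamental root onto the root subgroup of its
image. -/
theorem normalAut_mapsOnto {θ : ↥(D.group F) ≃* ↥(D.group F)} {ρ : ℕ → ℕ} {c : ℕ → Fˣ}
    {τ : ℕ → F ≃+* F} (h : NormalAut hG θ ρ c τ) {i : ℕ} (hi : i < D.rank) :
    MapsOnto θ (D.rootSubgroup F (D.simple i)) (D.rootSubgroup F (D.simple (ρ i))) := by
  have hG1 := hG.toGood1
  obtain ⟨hj, hu, -, -⟩ := h i hi
  have hp := hG1.simple_lt hi
  have hq := hG1.simple_lt hj
  intro x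
  constructor
  · intro hx
    obtain ⟨t, ht⟩ := mem_rootSubgroup hG1 hp hx
    have hx' : x = phiG hG hp (upperSL t) := Subtype.ext ht
    rw [hx', hu, phiG_upper]
    exact xGL_mem_rootSubgroup hG hq _
  · intro hx
    obtain ⟨u, hu'⟩ := mem_rootSubgroup hG1 hq hx
    set t : F := (τ i).symm (((c i)⁻¹ : Fˣ) * u) with ht
    have e1 : (c i : F) * τ i t = u := by
      rw [ht, RingEquiv.apply_symm_apply, ← mul_assoc, ← Units.val_mul, mul_inv_cancel, Units.val_one,
        one_mul]
    have hx' : θ x = θ (phiG hG hp (upperSL t)) := by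
      rw [hu, e1]
      exact Subtype.ext hu'
    rw [θ.injective hx', phiG_upper]
    exact xGL_mem_rootSubgroup hG hp _

include hT h8 in
/-- Distinct fundamental roots have distinct root subgroups. -/
theorem simple_eq_of_xGL_mem {i j : ℕ} (hi : i < D.rank) (hj : j < D.rank) {c : F} (hc : c ≠ 0)
    (h : xGL hG.toGood1 (hG.toGood1.simple_lt hi) c ∈ D.rootSubgroup F (D.simple j)) : i = j := by
  have hG1 := hG.toGood1
  have hp := hG1.simple_lt hi
  have hq := hG1.simple_lt hj
  have hpp := simple_pos hG1 hT hi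
  have hqp := simple_pos hG1 hT hj
  obtain ⟨u, hu⟩ := mem_rootSubgroup hG1 hq h
  have hmem : ∀ {a b : ℕ} (ha : a < D.nroots) (hb : b < D.nroots) (hab : a < b) (v : F),
      xGL hG1 hb v ∈ Uge D F (a + 1) := by
    intro a b ha hb hab v
    exact Subgroup.subset_closure ⟨b, v, hab, hb, xGL_coe hG1 hb v⟩
  rcases lt_trichotomy (D.simple i) (D.simple j) with hlt | heq | hgt
  · exfalso
    have h1 : xGL hG1 hp c ∈ Uge D F (D.simple i + 1) := by
      rw [hu]
      exact hmem hp hq hlt u
    exact hc (eq_zero_of_xGL_mem_Uge hG hT h8 hpp hp h1)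
  · by_contra hij
    have h1 := hG1.cr_simple hi hi
    have h2 := hG1.cr_simple hj hi
    rw [heq, h2, if_pos rfl, if_neg hij] at h1
    exact zero_ne_one h1
  · exfalso
    have h1 : xGL hG1 hq u ∈ Uge D F (D.simple j + 1) := by
      rw [← hu]
      exact hmem hq hp hgt c
    have hu0 := eq_zero_of_xGL_mem_Uge hG hT h8 hqp hq h1
    rw [hu0, xGL_zero] at hu
    exact xGL_ne_one hG hT h8 hp hc hu

end general

/-! ### Automorphisms acting on each root element through the parameter -/

/-- The automorphism `θ` maps `x_r(t)` to `x_r(f_r(t))`. -/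
def RootAction (θ : ↥(D.group F) ≃* ↥(D.group F)) (f : ℕ → F ≃ F) : Prop :=
  ∀ (x : ↥(D.group F)) (r : ℕ) (t : F), r < D.nroots →
    ((x : GL D.Idx F) : Matrix D.Idx D.Idx F) = D.x F r t →
      ((θ x : GL D.Idx F) : Matrix D.Idx D.Idx F) = D.x F r (f r t)

section rootAction

variable (hG : Good2 D)

include hG in
theorem RootAction.symm {θ : ↥(D.group F) ≃* ↥(D.group F)} {f : ℕ → F ≃ F} (h : RootAction θ f) :
    RootAction θ.symm (fun r => (f r).symm) := by
  intro x r t hr hx
  have hG1 := hG.toGood1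
  set y : ↥(D.group F) := ⟨xGL hG1 hr ((f r).symm t), xGL_mem_group hG hr _⟩ with hy
  have h1 := h y r ((f r).symm t) hr (xGL_coe hG1 hr _)
  rw [Equiv.apply_symm_apply] at h1
  have h2 : θ y = x := by
    apply Subtype.ext
    apply Units.ext
    rw [h1, hx]
  rw [← h2, MulEquiv.symm_apply_apply]
  exact xGL_coe hG1 hr _

include hG in
theorem RootAction.mem_closure {θ : ↥(D.group F) ≃* ↥(D.group F)} {f : ℕ → F ≃ F}
    (h : RootAction θ f) (P : ℕ → Prop) (hP : ∀ r, P r → r < D.nroots) {y : GL D.Idx F}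
    (hy : y ∈ Subgroup.closure (rootGen D F P)) :
    ∃ hyG : y ∈ D.group F,
      ((θ ⟨y, hyG⟩ : ↥(D.group F)) : GL D.Idx F) ∈ Subgroup.closure (rootGen D F P) := by
  have hG1 := hG.toGood1
  induction hy using Subgroup.closure_induction with
  | mem x hx =>
    obtain ⟨r, t, hPr, hx⟩ := hx
    have hr := hP r hPr
    have hxG : x ∈ D.group F := by
      rw [eq_xGL hG1 hr hx]
      exact xGL_mem_group hG hr t
    exact ⟨hxG, Subgroup.subset_closure ⟨r, _, hPr, h ⟨x, hxG⟩ r t hr hx⟩⟩
  | one =>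
    refine ⟨one_mem _, ?_⟩
    have : (⟨1, one_mem _⟩ : ↥(D.group F)) = 1 := rfl
    rw [this, map_one]
    exact one_mem _
  | mul a b _ _ ha hb =>
    obtain ⟨haG, ha'⟩ := ha
    obtain ⟨hbG, hb'⟩ := hb
    refine ⟨mul_mem haG hbG, ?_⟩
    have : (⟨a * b, mul_mem haG hbG⟩ : ↥(D.group F)) = ⟨a, haG⟩ * ⟨b, hbG⟩ := rfl
    rw [this, map_mul]
    exact mul_mem ha' hb'
  | inv a _ ha =>
    obtain ⟨haG, ha'⟩ := ha
    refine ⟨inv_mem haG, ?_⟩
    have : (⟨a⁻¹, inv_mem haG⟩ : ↥(D.group F)) = (⟨a, haG⟩ : ↥(D.group F))⁻¹ := rfl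
    rw [this, map_inv]
    exact inv_mem ha'

include hG in
theorem RootAction.mapsOnto_closure {θ : ↥(D.group F) ≃* ↥(D.group F)} {f : ℕ → F ≃ F}
    (h : RootAction θ f) (P : ℕ → Prop) (hP : ∀ r, P r → r < D.nroots) :
    MapsOnto θ (Subgroup.closure (rootGen D F P)) (Subgroup.closure (rootGen D F P)) := by
  intro x
  constructor
  · intro hx
    obtain ⟨_, h1⟩ := h.mem_closure hG P hP hx
    exact h1
  · intro hx
    obtain ⟨_, h1⟩ := (h.symm hG).mem_closure hG P hP hx
    have : (⟨((θ x : ↥(D.group F)) : GL D.Idx F), by assumption⟩ : ↥(D.group F)) = θ x := rfl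
    rw [this, MulEquiv.symm_apply_apply] at h1
    exact h1

include hG in
theorem RootAction.mapsOnto_rootSubgroup {θ : ↥(D.group F) ≃* ↥(D.group F)} {f : ℕ → F ≃ F}
    (h : RootAction θ f) {r : ℕ} (hr : r < D.nroots) :
    MapsOnto θ (D.rootSubgroup F r) (D.rootSubgroup F r) := by
  have hG1 := hG.toGood1
  have key : ∀ (φ : ↥(D.group F) ≃* ↥(D.group F)) (g : ℕ → F ≃ F), RootAction φ g →
      ∀ x : ↥(D.group F), (x : GL D.Idx F) ∈ D.rootSubgroup F r →
        ((φ x : ↥(D.group F)) : GL D.Idx F) ∈ D.rootSubgroup F r := by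
    intro φ g hφ x hx
    obtain ⟨t, ht⟩ := mem_rootSubgroup hG1 hr hx
    have h1 := hφ x r t hr (by rw [ht, xGL_coe])
    exact Subgroup.subset_closure ⟨_, h1⟩
  intro x
  constructor
  · exact key θ f h x
  · intro hx
    have := key θ.symm _ (h.symm hG) (θ x) hx
    rwa [MulEquiv.symm_apply_apply] at this

include hG in
/-- An automorphism acting on each root element through the parameter stabilises `U`, `V` and the root
subgroups of the fundamental roots. -/
theorem RootAction.mem_fixNodes {θ : ↥(D.group F) ≃* ↥(D.group F)} {f : ℕ → F ≃ F}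
    (h : RootAction θ f) : θ ∈ fixNodes D F :=
  ⟨⟨h.mapsOnto_closure hG D.IsPosRoot (fun r hr => hr.1),
    h.mapsOnto_closure hG D.IsNegRoot (fun r hr => hr.1)⟩,
    fun i hi => h.mapsOnto_rootSubgroup hG (hG.toGood1.simple_lt hi)⟩

end rootAction

/-! ### Products of a diagonal and a field automorphism -/

section dfAut

variable (hD : D ∈ [chevG2, chevB2, chevD4, chevF4, chevE6, chevE7, chevE8])

/-- The product of a diagonal and a field automorphism. -/
noncomputable def dfAut (χ : ℕ → Fˣ) (hχ : D.IsRootCharacter χ) (σ : F ≃+* F) :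
    MulAut ↥(D.group F) :=
  (diagAut (F := F) hD χ hχ : MulAut ↥(D.group F)) * Cfsg.Agent.Helper7.chevFieldAut D σ

theorem dfAut_rootAction (χ : ℕ → Fˣ) (hχ : D.IsRootCharacter χ) (σ : F ≃+* F) :
    RootAction (dfAut hD χ hχ σ)
      (fun r => σ.toEquiv.trans (Equiv.mulLeft₀ (χ r : F) (χ r).ne_zero)) := by
  intro x r t hr hx
  have hG := good2_of_mem D hD
  have h1 : x = phiG hG hr (upperSL t) := eq_phiG_upper hG hr hx
  show ((diagAut hD χ hχ (Cfsg.Agent.Helper7.chevFieldAut D σ x) : ↥(D.group F)) : GL D.Idx F).val = _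
  rw [h1, chevFieldAut_phiG_upper, diagAut_phiG_upper, phiG_upper_mat]
  rfl

theorem dfAut_mem_fixNodes (χ : ℕ → Fˣ) (hχ : D.IsRootCharacter χ) (σ : F ≃+* F) :
    dfAut hD χ hχ σ ∈ fixNodes D F :=
  (dfAut_rootAction hD χ hχ σ).mem_fixNodes (good2_of_mem D hD)

theorem dfAut_upper (χ : ℕ → Fˣ) (hχ : D.IsRootCharacter χ) (σ : F ≃+* F) {r : ℕ}
    (hr : r < D.nroots) (t : F) :
    dfAut hD χ hχ σ (phiG (good2_of_mem D hD) hr (upperSL t)) =
      phiG (good2_of_mem D hD) hr (upperSL ((χ r : F) * σ t)) := by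
  show diagAut hD χ hχ (Cfsg.Agent.Helper7.chevFieldAut D σ _) = _
  rw [chevFieldAut_phiG_upper, diagAut_phiG_upper]

theorem dfAut_lower (χ : ℕ → Fˣ) (hχ : D.IsRootCharacter χ) (σ : F ≃+* F) {r : ℕ}
    (hr : r < D.nroots) (t : F) :
    dfAut hD χ hχ σ (phiG (good2_of_mem D hD) hr (lowerSL t)) =
      phiG (good2_of_mem D hD) hr (lowerSL ((((χ r)⁻¹ : Fˣ) : F) * σ t)) := by
  show diagAut hD χ hχ (Cfsg.Agent.Helper7.chevFieldAut D σ _) = _
  rw [chevFieldAut_phiG_lower, diagAut_phiG_lower]

end dfAut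

/-! ### The automorphisms stabilising the root subgroups of the fundamental roots -/

section fix

variable [Fintype F] (D : ChevalleyDatum)
  (hD : D ∈ [chevG2, chevB2, chevD4, chevF4, chevE6, chevE7, chevE8])

include hD in
theorem rank_pos_of_mem : 0 < D.rank :=
  chev_cases (p := fun D => 0 < D.rank) D hD (by decide) (by decide) (by decide) (by decide)
    (by decide) (by decide) (by decide)

include hD in
/-- In the normal form of an automorphism stabilising the root subgroups of the fundamental roots, the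
permutation of the nodes is trivial. -/
theorem normalAut_fix_nodes {θ : ↥(D.group F) ≃* ↥(D.group F)} {ρ : ℕ → ℕ} {c : ℕ → Fˣ}
    {τ : ℕ → F ≃+* F} (hN : NormalAut (good3_of_mem D hD).toGood2 θ ρ c τ) {i : ℕ} (hi : i < D.rank)
    (hfix : MapsOnto θ (D.rootSubgroup F (D.simple i)) (D.rootSubgroup F (D.simple i))) :
    ρ i = i := by
  have hG := (good3_of_mem D hD).toGood2
  have hG1 := hG.toGood1
  have hT := T0_of_mem D hD
  have h8 := T8_of_mem D hD
  obtain ⟨hj, hu, -, -⟩ := hN i hi
  have hp := hG1.simple_lt hi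
  have h1 := (hfix (phiG hG hp (upperSL 1))).mp (by
    rw [phiG_upper]; exact xGL_mem_rootSubgroup hG hp 1)
  rw [hu, phiG_upper] at h1
  have hc : (c i : F) * τ i 1 ≠ 0 := by
    rw [map_one, mul_one]
    exact (c i).ne_zero
  exact simple_eq_of_xGL_mem hG hT h8 hj hi hc h1

include hD in
/-- An automorphism stabilising `U`, `V` and the root subgroups of the fundamental roots is the product of a
diagonal and a field automorphism. -/
theorem exists_dfAut_of_mem_fixNodes {θ : MulAut ↥(D.group F)} (hθ : θ ∈ fixNodes D F)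
    {W : List (List ℤ)} {N : ℤ} (h40 : (tabOf D).T40 W N) :
    ∃ (a : ℕ → Fˣ) (σ : F ≃+* F),
      θ = dfAut hD (rootChar D W N a) (isRootCharacter_rootChar (good2_of_mem D hD) h40 a) σ := by
  have hG := (good3_of_mem D hD).toGood2
  have hG1 := hG.toGood1
  have hT := T0_of_mem D hD
  have h9 := T9_of_mem D hD
  obtain ⟨⟨hU, hV⟩, hfix⟩ := hθ
  obtain ⟨ρ, c, τ, hN, hND⟩ := exists_normalData D hD hU hV
  have hρ : ∀ i, i < D.rank → ρ i = i := fun i hi => normalAut_fix_nodes D hD hN hi (hfix i hi)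
  obtain ⟨π, σ, hsym, hπσ⟩ := endgame_of_mem D hD hND
  have hτ : ∀ i, i < D.rank → ∀ t, τ i t = σ t := by
    intro i hi t
    have h1 := (hπσ ⟨i, hi⟩).2 t
    have h2 : ((π ⟨i, hi⟩ : Fin D.rank) : ℕ) = i := by rw [(hπσ ⟨i, hi⟩).1]; exact hρ i hi
    rw [h2] at h1
    change τ i t = σ t ^ D.graphExp (ringChar F) i i at h1
    rw [graphExp_self, pow_one] at h1
    exact h1
  refine ⟨c, σ, ?_⟩
  apply mulEquiv_ext_simpleGen hG hT h9
  rintro g ⟨i, t, hi, hg | hg⟩
  · obtain ⟨hj, hu, -, -⟩ := hN i hi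
    have hp := hG1.simple_lt hi
    have hg' : g = phiG hG hp (upperSL t) := eq_phiG_upper hG hp hg
    apply Subtype.ext
    apply Units.ext
    rw [hg', hu, dfAut_upper, phiG_upper_mat, phiG_upper_mat, rootChar_simple h40 c hi, hτ i hi,
      hρ i hi]
  · obtain ⟨hj, -, hl, -⟩ := hN i hi
    have hp := hG1.simple_lt hi
    have hg' : g = phiG hG hp (lowerSL t) := eq_phiG_lower hG hp hg
    apply Subtype.ext
    apply Units.ext
    rw [hg', hl, dfAut_lower, phiG_lower_mat, phiG_lower_mat, rootChar_simple h40 c hi, hτ i hi,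
      hρ i hi]

/-- The extension by `1` of a family of units indexed by the nodes. -/
def extU {l : ℕ} (a : Fin l → Fˣ) : ℕ → Fˣ := fun k => if h : k < l then a ⟨k, h⟩ else 1

theorem rootChar_extU (W : List (List ℤ)) (N : ℤ) (a : ℕ → Fˣ) :
    rootChar D W N (extU (fun i : Fin D.rank => a i)) = rootChar D W N a := by
  funext s
  unfold rootChar
  apply Finset.prod_congr rfl
  intro k hk
  have hk' := Finset.mem_range.mp hk
  unfold extU
  rw [dif_pos hk']

include hD in
/-- The number of automorphisms stabilising `U`, `V` and the root subgroups of the fundamental roots. -/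
theorem card_fixNodes (p f : ℕ) [Fact p.Prime] [CharP F p] (hF : Fintype.card F = p ^ f) :
    Nat.card ↥(fixNodes D F) = (Fintype.card F - 1) ^ D.rank * f := by
  classical
  have hG := good2_of_mem D hD
  have hG1 := hG.toGood1
  have hT := T0_of_mem D hD
  have h8 := T8_of_mem D hD
  obtain ⟨W, N, h40⟩ := T40_of_mem D hD
  have hcard : Nat.card ((Fin D.rank → Fˣ) × (F ≃+* F)) = (Fintype.card F - 1) ^ D.rank * f := by
    rw [Nat.card_prod, Nat.card_fun, Nat.card_fin, Nat.card_units, Nat.card_eq_fintype_card,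
      FieldAutCard.card_ringAut p f hF]
  rw [← hcard]
  symm
  apply Nat.card_congr
  refine Equiv.ofBijective
    (fun q : (Fin D.rank → Fˣ) × (F ≃+* F) =>
      (⟨dfAut hD (rootChar D W N (extU q.1)) (isRootCharacter_rootChar hG h40 _) q.2,
        dfAut_mem_fixNodes hD _ _ _⟩ : ↥(fixNodes D F))) ⟨?_, ?_⟩
  · rintro ⟨a, σ⟩ ⟨a', σ'⟩ heq
    have heq' : dfAut hD (rootChar D W N (extU a)) (isRootCharacter_rootChar hG h40 _) σ =
        dfAut hD (rootChar D W N (extU a')) (isRootCharacter_rootChar hG h40 _) σ' :=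
      congrArg Subtype.val heq
    have key : ∀ (i : Fin D.rank) (t : F), (a i : F) * σ t = (a' i : F) * σ' t := by
      intro i t
      have hp := hG1.simple_lt i.2
      have h1 := DFunLike.congr_fun heq' (phiG hG hp (upperSL t))
      rw [dfAut_upper, dfAut_upper, rootChar_simple h40 _ i.2, rootChar_simple h40 _ i.2] at h1
      have h2 := congrArg Subtype.val h1
      rw [phiG_upper, phiG_upper] at h2
      have h3 := xGL_injective hG hT h8 hp h2
      unfold extU at h3
      rwa [dif_pos i.2, dif_pos i.2] at h3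
    have ha : a = a' := by
      funext i
      have := key i 1
      rw [map_one, map_one, mul_one, mul_one] at this
      exact Units.ext this
    have hσ : σ = σ' := by
      ext t
      have := key ⟨0, rank_pos_of_mem D hD⟩ t
      rw [ha] at this
      exact mul_left_cancel₀ (Units.ne_zero _) this
    rw [ha, hσ]
  · rintro ⟨θ, hθ⟩
    obtain ⟨a, σ, rfl⟩ := exists_dfAut_of_mem_fixNodes D hD hθ h40
    refine ⟨(fun i : Fin D.rank => a i, σ), ?_⟩
    apply Subtype.ext
    show dfAut hD (rootChar D W N (extU (fun i : Fin D.rank => a i))) _ σ = _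
    congr 1
    exact rootChar_extU D W N a

end fix

end Cfsg.Agent.Helper7.Chev
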