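import Mathlib
import Cfsg.Agent.Helper7.ChevOutB
import Cfsg.Agent.Helper7.ChevT17

set_option autoImplicit false
set_option linter.unusedSectionVars false
set_option linter.unusedVariables false
set_option linter.style.haveILetI false

/-!
The outer automorphism group of a Chevalley group over a finite field, part C: the index of the group of the
automorphisms stabilising the root subgroups of the fundamental roots, and the orders of the outer automorphism
groups of `E₈(q)` and `E₇(q)`.
-/

namespace Cfsg.Agent.Helper7.Chev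

open Cfsg Cfsg.Lie Matrix

variable {D : ChevalleyDatum} {F : Type*} [Field F]

section general

variable (hG : Good2 D) (hT : T0 D) (h8 : (tabOf D).T8)

theorem mem_fixNodes_of_normalAut {θ : ↥(D.group F) ≃* ↥(D.group F)} {ρ : ℕ → ℕ} {c : ℕ → Fˣ}
    {τ : ℕ → F ≃+* F} (hθ : θ ∈ stabUV D F) (hN : NormalAut hG θ ρ c τ)
    (hρ : ∀ i, i < D.rank → ρ i = i) : θ ∈ fixNodes D F :=
  ⟨hθ, fun i hi => by
    have := normalAut_mapsOnto hG hN hi
    rwa [hρ i hi] at this⟩

include hG hT h8 in
/-- The image of the root subgroup of a fundamental root is the root subgroup of only one fundamental root. -/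
theorem mapsOnto_unique {θ : ↥(D.group F) ≃* ↥(D.group F)} {i j k : ℕ} (hi : i < D.rank)
    (hj : j < D.rank) (hk : k < D.rank)
    (h1 : MapsOnto θ (D.rootSubgroup F (D.simple i)) (D.rootSubgroup F (D.simple j)))
    (h2 : MapsOnto θ (D.rootSubgroup F (D.simple i)) (D.rootSubgroup F (D.simple k))) : j = k := by
  have hG1 := hG.toGood1
  have hp := hG1.simple_lt hi
  have hq := hG1.simple_lt hj
  set x : ↥(D.group F) := phiG hG hp (upperSL 1) with hx
  have hxm : (x : GL D.Idx F) ∈ D.rootSubgroup F (D.simple i) := by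
    rw [hx, phiG_upper]; exact xGL_mem_rootSubgroup hG hp 1
  have h3 := (h1 x).mp hxm
  have h4 := (h2 x).mp hxm
  obtain ⟨u, hu⟩ := mem_rootSubgroup hG1 hq h3
  have hu0 : u ≠ 0 := by
    intro h0
    rw [h0, xGL_zero] at hu
    have : θ x = 1 := Subtype.ext hu
    have hx1 : x = 1 := by
      rw [← map_one θ] at this
      exact θ.injective this
    have := congrArg Subtype.val hx1
    rw [hx, phiG_upper] at this
    exact xGL_ne_one hG hT h8 hp one_ne_zero this
  rw [hu] at h4
  exact simple_eq_of_xGL_mem hG hT h8 hj hk hu0 h4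

include hG hT h8 in
/-- If the automorphisms stabilising `U` and `V` permute the root subgroups of the fundamental roots either
trivially or as an involution `π₀` does, and the latter happens, then those permuting them trivially form a
subgroup of index two. -/
theorem card_stabUV_eq_two_mul {γ : MulAut ↥(D.group F)} (hγ : γ ∈ stabUV D F) (π₀ : ℕ → ℕ)
    (hγπ : ∀ i, i < D.rank →
      MapsOnto γ (D.rootSubgroup F (D.simple i)) (D.rootSubgroup F (D.simple (π₀ i))))
    (hπ₀ : ∀ i, i < D.rank → π₀ i < D.rank) (hinv : ∀ i, i < D.rank → π₀ (π₀ i) = i)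
    (hne : ∃ i, i < D.rank ∧ π₀ i ≠ i)
    (hall : ∀ θ : MulAut ↥(D.group F), θ ∈ stabUV D F → θ ∈ fixNodes D F ∨ ∀ i, i < D.rank →
      MapsOnto θ (D.rootSubgroup F (D.simple i)) (D.rootSubgroup F (D.simple (π₀ i)))) :
    Nat.card ↥(stabUV D F) = 2 * Nat.card ↥(fixNodes D F) := by
  have hidx : ((fixNodes D F).subgroupOf (stabUV D F)).index = 2 := by
    rw [Subgroup.index_eq_two_iff]
    refine ⟨⟨γ, hγ⟩, fun b => ?_⟩
    obtain ⟨i₀, hi₀, hne₀⟩ := hne
    by_cases hb : b.1 ∈ fixNodes D F
    · right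
      refine ⟨Subgroup.mem_subgroupOf.mpr hb, fun hbγ => ?_⟩
      have hbγ' : b.1 * γ ∈ fixNodes D F := Subgroup.mem_subgroupOf.mp hbγ
      have h1 : MapsOnto (b.1 * γ) (D.rootSubgroup F (D.simple i₀))
          (D.rootSubgroup F (D.simple (π₀ i₀))) :=
        (hγπ i₀ hi₀).trans (hb.2 (π₀ i₀) (hπ₀ i₀ hi₀))
      exact hne₀ (mapsOnto_unique hG hT h8 hi₀ (hπ₀ i₀ hi₀) hi₀ h1 (hbγ'.2 i₀ hi₀))
    · left
      refine ⟨?_, fun hb' => hb (Subgroup.mem_subgroupOf.mp hb')⟩
      rw [Subgroup.mem_subgroupOf]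
      have hb2 := (hall b.1 b.2).resolve_left hb
      refine ⟨mul_mem b.2 hγ, fun i hi => ?_⟩
      have h1 := (hγπ i hi).trans (hb2 (π₀ i) (hπ₀ i hi))
      rwa [hinv i hi] at h1
  have h1 := Subgroup.card_mul_index ((fixNodes D F).subgroupOf (stabUV D F))
  rw [hidx, Nat.card_congr (Subgroup.subgroupOfEquivOfLe fixNodes_le_stabUV).toEquiv] at h1
  rw [← h1, mul_comm]

end general

end Cfsg.Agent.Helper7.Chev
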