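import Mathlib
import Cfsg.Agent.Helper7.ChevOutC

set_option autoImplicit false
set_option linter.unusedSectionVars false
set_option linter.unusedVariables false
set_option linter.style.haveILetI false

/-!
The orders of the outer automorphism groups of `E₈(q)` and `E₇(q)`.
-/

namespace Cfsg.Agent.Helper7.Chev

open Cfsg Cfsg.Lie Matrix

variable {F : Type*} [Field F]

/-- Two nodes of the diagram of type `E₈` are joined. -/
def adjE8 (x y : Fin 8) : Prop := chevE8.cartan x (chevE8.simple y) ≠ 0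

instance (x y : Fin 8) : Decidable (adjE8 x y) := by unfold adjE8; infer_instance

set_option maxRecDepth 1000000 in
set_option maxHeartbeats 0 in
set_option synthInstance.maxSize 100000 in
set_option synthInstance.maxHeartbeats 0 in
/-- The diagram of type `E₈` has no symmetry. -/
theorem nodes_E8 : ∀ a3 : Fin 8, ∀ a1 : Fin 8, adjE8 a3 a1 → a1 ≠ a3 →
    ∀ a2 : Fin 8, adjE8 a3 a2 → a2 ≠ a3 → a2 ≠ a1 →
    ∀ a4 : Fin 8, adjE8 a3 a4 → a4 ≠ a3 → a4 ≠ a1 → a4 ≠ a2 →
    ∀ a0 : Fin 8, adjE8 a2 a0 → a0 ≠ a2 → a0 ≠ a3 →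
    ∀ a5 : Fin 8, adjE8 a4 a5 → a5 ≠ a4 → a5 ≠ a3 →
    ∀ a6 : Fin 8, adjE8 a5 a6 → a6 ≠ a5 → a6 ≠ a4 →
    ∀ a7 : Fin 8, adjE8 a6 a7 → a7 ≠ a6 → a7 ≠ a5 →
    a0 = 0 ∧ a1 = 1 ∧ a2 = 2 ∧ a3 = 3 ∧ a4 = 4 ∧ a5 = 5 ∧ a6 = 6 ∧ a7 = 7 := by
  decide +kernel

/-- Two nodes of the diagram of type `E₇` are joined. -/
def adjE7 (x y : Fin 7) : Prop := chevE7.cartan x (chevE7.simple y) ≠ 0

instance (x y : Fin 7) : Decidable (adjE7 x y) := by unfold adjE7; infer_instance

set_option maxRecDepth 1000000 in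
set_option maxHeartbeats 0 in
set_option synthInstance.maxSize 100000 in
set_option synthInstance.maxHeartbeats 0 in
/-- The diagram of type `E₇` has no symmetry. -/
theorem nodes_E7 : ∀ a3 : Fin 7, ∀ a1 : Fin 7, adjE7 a3 a1 → a1 ≠ a3 →
    ∀ a2 : Fin 7, adjE7 a3 a2 → a2 ≠ a3 → a2 ≠ a1 →
    ∀ a4 : Fin 7, adjE7 a3 a4 → a4 ≠ a3 → a4 ≠ a1 → a4 ≠ a2 →
    ∀ a0 : Fin 7, adjE7 a2 a0 → a0 ≠ a2 → a0 ≠ a3 →
    ∀ a5 : Fin 7, adjE7 a4 a5 → a5 ≠ a4 → a5 ≠ a3 →
    ∀ a6 : Fin 7, adjE7 a5 a6 → a6 ≠ a5 → a6 ≠ a4 →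
    a0 = 0 ∧ a1 = 1 ∧ a2 = 2 ∧ a3 = 3 ∧ a4 = 4 ∧ a5 = 5 ∧ a6 = 6 := by
  decide +kernel

set_option maxRecDepth 1000000 in
theorem normalData_E8_trivial {ρ : ℕ → ℕ} {τ : ℕ → F ≃+* F} (h : NormalData chevE8 F ρ τ) :
    ∀ i, i < chevE8.rank → ρ i = i := by
  have hr : chevE8.rank = 8 := rfl
  set a : ℕ → Fin 8 := fun i => if hi : i < 8 then ⟨ρ i, h.lt i hi⟩ else 0 with ha
  have hval : ∀ i (hi : i < 8), ((a i : Fin 8) : ℕ) = ρ i := by
    intro i hi
    rw [ha]
    simp only [dif_pos hi]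
  have hadj : ∀ i j, i < 8 → j < 8 → i ≠ j → chevE8.cartan i (chevE8.simple j) ≠ 0 →
      adjE8 (a i) (a j) := by
    intro i j hi hj hij hc
    unfold adjE8
    rw [hval i hi, hval j hj]
    exact fun h0 => hc ((h.adj i j hi hj hij).mpr h0)
  have hne : ∀ i j, i < 8 → j < 8 → i ≠ j → a i ≠ a j := by
    intro i j hi hj hij heq
    have := congrArg Fin.val heq
    rw [hval i hi, hval j hj] at this
    exact hij (h.inj i j hi hj this)
  obtain ⟨e0, e1, e2, e3, e4, e5, e6, e7⟩ := nodes_E8 (a 3) (a 1)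
    (hadj 3 1 (by omega) (by omega) (by omega) (by decide)) (hne 1 3 (by omega) (by omega) (by omega))
    (a 2) (hadj 3 2 (by omega) (by omega) (by omega) (by decide))
    (hne 2 3 (by omega) (by omega) (by omega)) (hne 2 1 (by omega) (by omega) (by omega))
    (a 4) (hadj 3 4 (by omega) (by omega) (by omega) (by decide))
    (hne 4 3 (by omega) (by omega) (by omega)) (hne 4 1 (by omega) (by omega) (by omega))
    (hne 4 2 (by omega) (by omega) (by omega))
    (a 0) (hadj 2 0 (by omega) (by omega) (by omega) (by decide))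
    (hne 0 2 (by omega) (by omega) (by omega)) (hne 0 3 (by omega) (by omega) (by omega))
    (a 5) (hadj 4 5 (by omega) (by omega) (by omega) (by decide))
    (hne 5 4 (by omega) (by omega) (by omega)) (hne 5 3 (by omega) (by omega) (by omega))
    (a 6) (hadj 5 6 (by omega) (by omega) (by omega) (by decide))
    (hne 6 5 (by omega) (by omega) (by omega)) (hne 6 4 (by omega) (by omega) (by omega))
    (a 7) (hadj 6 7 (by omega) (by omega) (by omega) (by decide))
    (hne 7 6 (by omega) (by omega) (by omega)) (hne 7 5 (by omega) (by omega) (by omega))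
  intro i hi
  rw [hr] at hi
  rw [← hval i hi]
  interval_cases i
  · rw [e0]; rfl
  · rw [e1]; rfl
  · rw [e2]; rfl
  · rw [e3]; rfl
  · rw [e4]; rfl
  · rw [e5]; rfl
  · rw [e6]; rfl
  · rw [e7]; rfl

set_option maxRecDepth 1000000 in
theorem normalData_E7_trivial {ρ : ℕ → ℕ} {τ : ℕ → F ≃+* F} (h : NormalData chevE7 F ρ τ) :
    ∀ i, i < chevE7.rank → ρ i = i := by
  have hr : chevE7.rank = 7 := rfl
  set a : ℕ → Fin 7 := fun i => if hi : i < 7 then ⟨ρ i, h.lt i hi⟩ else 0 with ha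
  have hval : ∀ i (hi : i < 7), ((a i : Fin 7) : ℕ) = ρ i := by
    intro i hi
    rw [ha]
    simp only [dif_pos hi]
  have hadj : ∀ i j, i < 7 → j < 7 → i ≠ j → chevE7.cartan i (chevE7.simple j) ≠ 0 →
      adjE7 (a i) (a j) := by
    intro i j hi hj hij hc
    unfold adjE7
    rw [hval i hi, hval j hj]
    exact fun h0 => hc ((h.adj i j hi hj hij).mpr h0)
  have hne : ∀ i j, i < 7 → j < 7 → i ≠ j → a i ≠ a j := by
    intro i j hi hj hij heq
    have := congrArg Fin.val heq
    rw [hval i hi, hval j hj] at this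
    exact hij (h.inj i j hi hj this)
  obtain ⟨e0, e1, e2, e3, e4, e5, e6⟩ := nodes_E7 (a 3) (a 1)
    (hadj 3 1 (by omega) (by omega) (by omega) (by decide)) (hne 1 3 (by omega) (by omega) (by omega))
    (a 2) (hadj 3 2 (by omega) (by omega) (by omega) (by decide))
    (hne 2 3 (by omega) (by omega) (by omega)) (hne 2 1 (by omega) (by omega) (by omega))
    (a 4) (hadj 3 4 (by omega) (by omega) (by omega) (by decide))
    (hne 4 3 (by omega) (by omega) (by omega)) (hne 4 1 (by omega) (by omega) (by omega))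
    (hne 4 2 (by omega) (by omega) (by omega))
    (a 0) (hadj 2 0 (by omega) (by omega) (by omega) (by decide))
    (hne 0 2 (by omega) (by omega) (by omega)) (hne 0 3 (by omega) (by omega) (by omega))
    (a 5) (hadj 4 5 (by omega) (by omega) (by omega) (by decide))
    (hne 5 4 (by omega) (by omega) (by omega)) (hne 5 3 (by omega) (by omega) (by omega))
    (a 6) (hadj 5 6 (by omega) (by omega) (by omega) (by decide))
    (hne 6 5 (by omega) (by omega) (by omega)) (hne 6 4 (by omega) (by omega) (by omega))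
  intro i hi
  rw [hr] at hi
  rw [← hval i hi]
  interval_cases i
  · rw [e0]; rfl
  · rw [e1]; rfl
  · rw [e2]; rfl
  · rw [e3]; rfl
  · rw [e4]; rfl
  · rw [e5]; rfl
  · rw [e6]; rfl

section main

variable [Fintype F]

/-- If the permutation of the nodes is always trivial, all the automorphisms stabilising `U` and `V` stabilise
the root subgroups of the fundamental roots. -/
theorem stabUV_eq_fixNodes (D : ChevalleyDatum)
    (hD : D ∈ [chevG2, chevB2, chevD4, chevF4, chevE6, chevE7, chevE8])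
    (htriv : ∀ {ρ : ℕ → ℕ} {τ : ℕ → F ≃+* F}, NormalData D F ρ τ → ∀ i, i < D.rank → ρ i = i) :
    stabUV D F = fixNodes D F := by
  apply le_antisymm _ fixNodes_le_stabUV
  intro θ hθ
  obtain ⟨ρ, c, τ, hN, hND⟩ := exists_normalData D hD hθ.1 hθ.2
  exact mem_fixNodes_of_normalAut _ hθ hN (htriv hND)

theorem card_pos_sub_one_pow (n : ℕ) : 0 < (Fintype.card F - 1) ^ n := by
  apply Nat.pow_pos
  have := Fintype.one_lt_card (α := F)
  omega

/-- The statement of S2125. -/
theorem chev_S2125 (p f : ℕ) [Fact p.Prime] [CharP F p] (hF : Fintype.card F = p ^ f) :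
    Nat.card (Cfsg.Out ↥(chevE8.group F)) = f := by
  have hD : chevE8 ∈ [chevG2, chevB2, chevD4, chevF4, chevE6, chevE7, chevE8] := by simp
  have h1 := card_out_mul (F := F) chevE8 hD
  rw [stabUV_eq_fixNodes chevE8 hD (fun h => normalData_E8_trivial h),
    card_fixNodes chevE8 hD p f hF] at h1
  have h2 := card_diagonal_mul (F := F) good3_E8.toGood2.toGood1 T17_E8
  have h3 : ((List.range chevE8.rank).map fun i => (Fintype.card F - 1).gcd (t17d_E8 i)).prod = 1 := by
    have : List.range chevE8.rank = [0, 1, 2, 3, 4, 5, 6, 7] := by decide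
    rw [this]
    simp [t17d_E8]
  rw [h3, one_mul] at h2
  rw [h2, mul_comm] at h1
  exact Nat.eq_of_mul_eq_mul_left (card_pos_sub_one_pow _) h1

/-- The statement of S2124. -/
theorem chev_S2124 (p f : ℕ) [Fact p.Prime] [CharP F p] (hF : Fintype.card F = p ^ f) :
    Nat.card (Cfsg.Out ↥(chevE7.group F)) = Nat.gcd 2 (p ^ f - 1) * f := by
  have hD : chevE7 ∈ [chevG2, chevB2, chevD4, chevF4, chevE6, chevE7, chevE8] := by simp
  have h1 := card_out_mul (F := F) chevE7 hD
  rw [stabUV_eq_fixNodes chevE7 hD (fun h => normalData_E7_trivial h),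
    card_fixNodes chevE7 hD p f hF] at h1
  have h2 := card_diagonal_mul (F := F) good3_E7.toGood2.toGood1 T17_E7
  have h3 : ((List.range chevE7.rank).map fun i => (Fintype.card F - 1).gcd (t17d_E7 i)).prod =
      Nat.gcd 2 (p ^ f - 1) := by
    have : List.range chevE7.rank = [0, 1, 2, 3, 4, 5, 6] := by decide
    rw [this, hF]
    simp [t17d_E7, Nat.gcd_comm]
  rw [h3] at h2
  have hpos : 0 < Nat.card (chevE7.diagonalSubgroup F) := Nat.card_pos
  have h4 : Nat.card (Cfsg.Out ↥(chevE7.group F)) * Nat.card (chevE7.diagonalSubgroup F) =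
      Nat.gcd 2 (p ^ f - 1) * f * Nat.card (chevE7.diagonalSubgroup F) := by
    rw [h1, ← h2]
    ring
  exact Nat.eq_of_mul_eq_mul_right hpos h4

end main

end Cfsg.Agent.Helper7.Chev
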