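import Mathlib
import Cfsg.Agent.Helper7.ChevOutC

set_option autoImplicit false
set_option linter.unusedSectionVars false
set_option linter.unusedVariables false
set_option linter.style.haveILetI false

/-!
The outer automorphism group of a Chevalley group over a finite field, part E: automorphisms permuting the root
subgroups as a permutation of the roots preserving the positive roots does.
-/

namespace Cfsg.Agent.Helper7.Chev

open Cfsg Cfsg.Lie Matrix

variable {D : ChevalleyDatum} {F : Type*} [Field F]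

/-- The automorphism `θ` maps `x_r(t)` to `x_{σ r}(f_r(t))`. -/
def RootPermAction (θ : ↥(D.group F) ≃* ↥(D.group F)) (σ : ℕ → ℕ) (f : ℕ → F → F) : Prop :=
  ∀ (x : ↥(D.group F)) (r : ℕ) (t : F), r < D.nroots →
    ((x : GL D.Idx F) : Matrix D.Idx D.Idx F) = D.x F r t →
      ((θ x : GL D.Idx F) : Matrix D.Idx D.Idx F) = D.x F (σ r) (f r t)

/-- An automorphism mapping the part of a finite subgroup `K` in the group into `K` maps it onto `K`. -/
theorem mapsOnto_of_forall_mem [Finite F] {θ : ↥(D.group F) ≃* ↥(D.group F)}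
    {K : Subgroup (GL D.Idx F)}
    (h : ∀ x : ↥(D.group F), (x : GL D.Idx F) ∈ K → ((θ x : ↥(D.group F)) : GL D.Idx F) ∈ K) :
    MapsOnto θ K K := by
  classical
  haveI : Fintype F := Fintype.ofFinite F
  intro x
  refine ⟨h x, fun hx => ?_⟩
  set g : {y : ↥(D.group F) // (y : GL D.Idx F) ∈ K} → {y : ↥(D.group F) // (y : GL D.Idx F) ∈ K} :=
    fun y => ⟨θ y.1, h y.1 y.2⟩ with hg
  have hinj : Function.Injective g := by
    intro a b hab
    have : θ a.1 = θ b.1 := congrArg Subtype.val hab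
    exact Subtype.ext (θ.injective this)
  have hsurj : Function.Surjective g := Finite.injective_iff_surjective.mp hinj
  obtain ⟨y, hy⟩ := hsurj ⟨θ x, hx⟩
  have : θ y.1 = θ x := congrArg Subtype.val hy
  rw [← θ.injective this]
  exact y.2

section perm

variable (hG : Good2 D) {θ : ↥(D.group F) ≃* ↥(D.group F)} {σ : ℕ → ℕ} {f : ℕ → F → F}
  (h : RootPermAction θ σ f)

include hG h in
theorem RootPermAction.mem_closure (P : ℕ → Prop) (hP : ∀ r, P r → r < D.nroots)
    (hσ : ∀ r, P r → P (σ r)) {y : GL D.Idx F} (hy : y ∈ Subgroup.closure (rootGen D F P)) :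
    ∃ hyG : y ∈ D.group F,
      ((θ ⟨y, hyG⟩ : ↥(D.group F)) : GL D.Idx F) ∈ Subgroup.closure (rootGen D F P) := by
  have hG1 := hG.toGood1
  induction hy using Subgroup.closure_induction with
  | mem x hx =>
    obtain ⟨r, t, hPr, hx⟩ := hx
    have hr := hP r hPr
    have hxG : x ∈ D.group F := by
      rw [eq_xGL hG1 hr hx]
      exact xGL_mem_group hG hr t
    exact ⟨hxG, Subgroup.subset_closure ⟨σ r, _, hσ r hPr, h ⟨x, hxG⟩ r t hr hx⟩⟩
  | one =>
    refine ⟨one_mem _, ?_⟩
    have : (⟨1, one_mem _⟩ : ↥(D.group F)) = 1 := rfl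
    rw [this, map_one]
    exact one_mem _
  | mul a b _ _ ha hb =>
    obtain ⟨haG, ha'⟩ := ha
    obtain ⟨hbG, hb'⟩ := hb
    refine ⟨mul_mem haG hbG, ?_⟩
    have : (⟨a * b, mul_mem haG hbG⟩ : ↥(D.group F)) = ⟨a, haG⟩ * ⟨b, hbG⟩ := rfl
    rw [this, map_mul]
    exact mul_mem ha' hb'
  | inv a _ ha =>
    obtain ⟨haG, ha'⟩ := ha
    refine ⟨inv_mem haG, ?_⟩
    have : (⟨a⁻¹, inv_mem haG⟩ : ↥(D.group F)) = (⟨a, haG⟩ : ↥(D.group F))⁻¹ := rfl
    rw [this, map_inv]
    exact inv_mem ha'

include hG h in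
/-- An automorphism permuting the root subgroups as a permutation preserving the positive roots and the
negative roots does stabilises `U` and `V`. -/
theorem RootPermAction.mem_stabUV [Finite F] (hT : T0 D)
    (hpos : ∀ r, r < D.nroots → D.nroots / 2 ≤ r → σ r < D.nroots ∧ D.nroots / 2 ≤ σ r)
    (hneg : ∀ r, r < D.nroots → r < D.nroots / 2 → σ r < D.nroots / 2) :
    θ ∈ stabUV D F := by
  constructor
  · apply mapsOnto_of_forall_mem
    intro x hx
    obtain ⟨_, h1⟩ := h.mem_closure hG D.IsPosRoot (fun r hr => hr.1) (fun r hr => by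
      have h2 := hpos r hr.1 ((isPosRoot_iff hT hr.1).mp hr)
      exact (isPosRoot_iff hT h2.1).mpr h2.2) hx
    exact h1
  · apply mapsOnto_of_forall_mem
    intro x hx
    obtain ⟨_, h1⟩ := h.mem_closure hG D.IsNegRoot (fun r hr => hr.1) (fun r hr => by
      have h2 := hneg r hr.1 ((isNegRoot_iff hT hr.1).mp hr)
      have h3 : σ r < D.nroots := lt_of_lt_of_le h2 (Nat.div_le_self _ _)
      exact (isNegRoot_iff hT h3).mpr h2) hx
    exact h1

include hG h in
theorem RootPermAction.mapsOnto_rootSubgroup {r : ℕ} (hr : r < D.nroots) (hσr : σ r < D.nroots)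
    (hf : Function.Surjective (f r)) :
    MapsOnto θ (D.rootSubgroup F r) (D.rootSubgroup F (σ r)) := by
  have hG1 := hG.toGood1
  intro x
  constructor
  · intro hx
    obtain ⟨t, ht⟩ := mem_rootSubgroup hG1 hr hx
    have h1 := h x r t hr (by rw [ht, xGL_coe])
    exact Subgroup.subset_closure ⟨_, h1⟩
  · intro hx
    obtain ⟨u, hu⟩ := mem_rootSubgroup hG1 hσr hx
    obtain ⟨t, ht⟩ := hf u
    set y : ↥(D.group F) := ⟨xGL hG1 hr t, xGL_mem_group hG hr t⟩ with hy
    have h1 := h y r t hr (xGL_coe hG1 hr t)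
    have h2 : θ y = θ x := by
      apply Subtype.ext
      apply Units.ext
      rw [h1, hu, xGL_coe, ht]
    rw [← θ.injective h2]
    exact xGL_mem_rootSubgroup hG hr t

end perm

end Cfsg.Agent.Helper7.Chev
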