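import Mathlib
import Cfsg.Agent.Helper7.ChevOutD
import Cfsg.Agent.Helper7.ChevOutE
import Cfsg.Agent.Helper7.ChevGraphRoot

set_option autoImplicit false
set_option linter.unusedSectionVars false
set_option linter.unusedVariables false
set_option linter.style.haveILetI false

/-!
The order of the outer automorphism group of `E₆(q)`.
-/

namespace Cfsg.Agent.Helper7.Chev

open Cfsg Cfsg.Lie Matrix

variable {F : Type*} [Field F]

/-- Two nodes of the diagram of type `E₆` are joined. -/
def adjE6 (x y : Fin 6) : Prop := chevE6.cartan x (chevE6.simple y) ≠ 0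

instance (x y : Fin 6) : Decidable (adjE6 x y) := by unfold adjE6; infer_instance

set_option maxRecDepth 1000000 in
set_option maxHeartbeats 0 in
set_option synthInstance.maxSize 100000 in
set_option synthInstance.maxHeartbeats 0 in
/-- The diagram of type `E₆` has only one non-trivial symmetry. -/
theorem nodes_E6 : ∀ a3 : Fin 6, ∀ a1 : Fin 6, adjE6 a3 a1 → a1 ≠ a3 →
    ∀ a2 : Fin 6, adjE6 a3 a2 → a2 ≠ a3 → a2 ≠ a1 →
    ∀ a4 : Fin 6, adjE6 a3 a4 → a4 ≠ a3 → a4 ≠ a1 → a4 ≠ a2 →
    ∀ a0 : Fin 6, adjE6 a2 a0 → a0 ≠ a2 → a0 ≠ a3 →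
    ∀ a5 : Fin 6, adjE6 a4 a5 → a5 ≠ a4 → a5 ≠ a3 →
    (a0 = 0 ∧ a1 = 1 ∧ a2 = 2 ∧ a3 = 3 ∧ a4 = 4 ∧ a5 = 5) ∨
    (a0 = 5 ∧ a1 = 1 ∧ a2 = 4 ∧ a3 = 3 ∧ a4 = 2 ∧ a5 = 0) := by
  decide +kernel

/-- The non-trivial symmetry of the diagram of type `E₆`. -/
def flipE6 : ℕ → ℕ := fun i => [5, 1, 4, 3, 2, 0].getD i 0

set_option maxRecDepth 1000000 in
theorem normalData_E6_cases {ρ : ℕ → ℕ} {τ : ℕ → F ≃+* F} (h : NormalData chevE6 F ρ τ) :
    (∀ i, i < chevE6.rank → ρ i = i) ∨ (∀ i, i < chevE6.rank → ρ i = flipE6 i) := by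
  have hr : chevE6.rank = 6 := rfl
  set a : ℕ → Fin 6 := fun i => if hi : i < 6 then ⟨ρ i, h.lt i hi⟩ else 0 with ha
  have hval : ∀ i (hi : i < 6), ((a i : Fin 6) : ℕ) = ρ i := by
    intro i hi
    rw [ha]
    simp only [dif_pos hi]
  have hadj : ∀ i j, i < 6 → j < 6 → i ≠ j → chevE6.cartan i (chevE6.simple j) ≠ 0 →
      adjE6 (a i) (a j) := by
    intro i j hi hj hij hc
    unfold adjE6
    rw [hval i hi, hval j hj]
    exact fun h0 => hc ((h.adj i j hi hj hij).mpr h0)
  have hne : ∀ i j, i < 6 → j < 6 → i ≠ j → a i ≠ a j := by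
    intro i j hi hj hij heq
    have := congrArg Fin.val heq
    rw [hval i hi, hval j hj] at this
    exact hij (h.inj i j hi hj this)
  have key := nodes_E6 (a 3) (a 1)
    (hadj 3 1 (by omega) (by omega) (by omega) (by decide)) (hne 1 3 (by omega) (by omega) (by omega))
    (a 2) (hadj 3 2 (by omega) (by omega) (by omega) (by decide))
    (hne 2 3 (by omega) (by omega) (by omega)) (hne 2 1 (by omega) (by omega) (by omega))
    (a 4) (hadj 3 4 (by omega) (by omega) (by omega) (by decide))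
    (hne 4 3 (by omega) (by omega) (by omega)) (hne 4 1 (by omega) (by omega) (by omega))
    (hne 4 2 (by omega) (by omega) (by omega))
    (a 0) (hadj 2 0 (by omega) (by omega) (by omega) (by decide))
    (hne 0 2 (by omega) (by omega) (by omega)) (hne 0 3 (by omega) (by omega) (by omega))
    (a 5) (hadj 4 5 (by omega) (by omega) (by omega) (by decide))
    (hne 5 4 (by omega) (by omega) (by omega)) (hne 5 3 (by omega) (by omega) (by omega))
  rcases key with ⟨e0, e1, e2, e3, e4, e5⟩ | ⟨e0, e1, e2, e3, e4, e5⟩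
  · left
    intro i hi
    rw [hr] at hi
    rw [← hval i hi]
    interval_cases i
    · rw [e0]; rfl
    · rw [e1]; rfl
    · rw [e2]; rfl
    · rw [e3]; rfl
    · rw [e4]; rfl
    · rw [e5]; rfl
  · right
    intro i hi
    rw [hr] at hi
    rw [← hval i hi]
    interval_cases i
    · rw [e0]; rfl
    · rw [e1]; rfl
    · rw [e2]; rfl
    · rw [e3]; rfl
    · rw [e4]; rfl
    · rw [e5]; rfl

set_option maxRecDepth 1000000 in
theorem t18s_E6_pos : ∀ r, r < chevE6.nroots →
    (chevE6.nroots / 2 ≤ r → tabN t18s_E6 r < chevE6.nroots ∧ chevE6.nroots / 2 ≤ tabN t18s_E6 r) ∧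
    (r < chevE6.nroots / 2 → tabN t18s_E6 r < chevE6.nroots / 2) := by
  decide

/-- The graph automorphism of `E₆(F)` permutes the root subgroups. -/
theorem graphAut_E6_rootPermAction :
    RootPermAction (graphAut (F := F) good1_E6 T18_E6) (tabN t18s_E6)
      (fun r t => ((tabI t18e_E6 r : ℤ) : F) * t) := by
  intro x r t hr hx
  rw [graphAut_coe]
  exact graphGL_conj_x good1_E6 T18_E6 hr hx

section main

variable [Fintype F]

theorem graphAut_E6_mem_stabUV : (graphAut (F := F) good1_E6 T18_E6 : MulAut _) ∈ stabUV chevE6 F :=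
  (graphAut_E6_rootPermAction (F := F)).mem_stabUV good3_E6.toGood2 T0_E6
    (fun r hr hp => (t18s_E6_pos r hr).1 hp) (fun r hr hn => (t18s_E6_pos r hr).2 hn)

theorem graphAut_E6_mapsOnto (i : ℕ) (hi : i < chevE6.rank) :
    MapsOnto (graphAut (F := F) good1_E6 T18_E6) (chevE6.rootSubgroup F (chevE6.simple i))
      (chevE6.rootSubgroup F (chevE6.simple (flipE6 i))) := by
  have hs := good1_E6.simple_lt hi
  have h1 := (graphAut_E6_rootPermAction (F := F)).mapsOnto_rootSubgroup good3_E6.toGood2 hs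
    (T18_E6.sigma _ hs).1 (by
      intro u
      refine ⟨((tabI t18e_E6 (chevE6.simple i) : ℤ) : F) * u, ?_⟩
      show ((tabI t18e_E6 (chevE6.simple i) : ℤ) : F) * (((tabI t18e_E6 (chevE6.simple i) : ℤ) : F) * u) = u
      rcases (T18_E6.eps _ hs).1 with h | h <;> rw [h] <;> simp)
  rw [(T18_E6.simple i hi).1] at h1
  exact h1

/-- The statement of S2123. -/
theorem chev_S2123 (p f : ℕ) [Fact p.Prime] [CharP F p] (hF : Fintype.card F = p ^ f) :
    Nat.card (Cfsg.Out ↥(chevE6.group F)) = 2 * Nat.gcd 3 (p ^ f - 1) * f := by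
  have hD : chevE6 ∈ [chevG2, chevB2, chevD4, chevF4, chevE6, chevE7, chevE8] := by simp
  have hG := good3_E6.toGood2
  have h1 := card_out_mul (F := F) chevE6 hD
  have h5 : Nat.card ↥(stabUV chevE6 F) = 2 * Nat.card ↥(fixNodes chevE6 F) := by
    apply card_stabUV_eq_two_mul hG T0_E6 T8_E6 graphAut_E6_mem_stabUV flipE6 graphAut_E6_mapsOnto
    · intro i hi
      have hi' : i < 6 := hi
      interval_cases i <;> decide
    · intro i hi
      have hi' : i < 6 := hi
      interval_cases i <;> rfl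
    · exact ⟨0, by decide, by decide⟩
    · intro θ hθ
      obtain ⟨ρ, c, τ, hN, hND⟩ := exists_normalData chevE6 hD hθ.1 hθ.2
      rcases normalData_E6_cases hND with hid | hfl
      · left
        exact mem_fixNodes_of_normalAut _ hθ hN hid
      · right
        intro i hi
        have := normalAut_mapsOnto _ hN hi
        rwa [hfl i hi] at this
  rw [h5, card_fixNodes chevE6 hD p f hF] at h1
  have h2 := card_diagonal_mul (F := F) good3_E6.toGood2.toGood1 T17_E6
  have h3 : ((List.range chevE6.rank).map fun i => (Fintype.card F - 1).gcd (t17d_E6 i)).prod =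
      Nat.gcd 3 (p ^ f - 1) := by
    have : List.range chevE6.rank = [0, 1, 2, 3, 4, 5] := by decide
    rw [this, hF]
    simp [t17d_E6, Nat.gcd_comm]
  rw [h3] at h2
  have hpos : 0 < Nat.card (chevE6.diagonalSubgroup F) := Nat.card_pos
  have h4 : Nat.card (Cfsg.Out ↥(chevE6.group F)) * Nat.card (chevE6.diagonalSubgroup F) =
      2 * Nat.gcd 3 (p ^ f - 1) * f * Nat.card (chevE6.diagonalSubgroup F) := by
    rw [h1, ← h2]
    ring
  exact Nat.eq_of_mul_eq_mul_right hpos h4

end main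

end Cfsg.Agent.Helper7.Chev
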