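import Mathlib
import Cfsg.Agent.Helper7.ChevOutD
import Cfsg.Agent.Helper7.ChevOutE
import Cfsg.Agent.Helper7.ChevIso7

set_option autoImplicit false
set_option linter.unusedSectionVars false
set_option linter.unusedVariables false
set_option linter.style.haveILetI false

/-!
The orders of the outer automorphism groups of `F₄(q)` and `G₂(q)`.
-/

namespace Cfsg.Agent.Helper7.Chev

open Cfsg Cfsg.Lie Matrix

variable {F : Type*} [Field F]

section relations

variable {D : ChevalleyDatum} {ρ : ℕ → ℕ} {τ : ℕ → F ≃+* F} (h : NormalData D F ρ τ)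

include h in
/-- Cartan integers `-1` and `-2`: the characteristic is two. -/
theorem NormalData.two_eq_zero {i j : ℕ} (hi : i < D.rank) (hj : j < D.rank)
    (h1 : D.cartan i (D.simple j) = -1) (h2 : D.cartan (ρ i) (D.simple (ρ j)) = -2) :
    (2 : F) = 0 := by
  have hp : ∀ t, τ j t = (τ i t) ^ 2 := fun t =>
    h.pow_of_neg hi hj h1 (n := 2) (by rw [h2]; rfl) t two_ne_zero
  have e := hp ((τ i).symm 1 + (τ i).symm 1)
  rw [map_add, map_add, hp, RingEquiv.apply_symm_apply] at e
  linear_combination -e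

include h in
/-- Cartan integers `-1` and `-3`: the characteristic is three, or the field has two elements. -/
theorem NormalData.three_eq_zero {i j : ℕ} (hi : i < D.rank) (hj : j < D.rank)
    (h1 : D.cartan i (D.simple j) = -1) (h2 : D.cartan (ρ i) (D.simple (ρ j)) = -3)
    {a : F} (ha0 : a ≠ 0) (ha1 : a + 1 ≠ 0) : (3 : F) = 0 := by
  have hp : ∀ t, τ j t = (τ i t) ^ 3 := fun t =>
    h.pow_of_neg hi hj h1 (n := 3) (by rw [h2]; rfl) t three_ne_zero
  have e := hp ((τ i).symm a + (τ i).symm 1)
  rw [map_add, map_add, hp, hp, RingEquiv.apply_symm_apply, RingEquiv.apply_symm_apply] at e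
  have h3 : (3 : F) * (a * (a + 1)) = 0 := by linear_combination -e
  rcases mul_eq_zero.mp h3 with h4 | h4
  · exact h4
  · rcases mul_eq_zero.mp h4 with h5 | h5
    · exact absurd h5 ha0
    · exact absurd h5 ha1

end relations

/-! ### Type `F₄` -/

/-- Two nodes of the diagram of type `F₄` are joined. -/
def adjF4 (x y : Fin 4) : Prop := chevF4.cartan x (chevF4.simple y) ≠ 0

instance (x y : Fin 4) : Decidable (adjF4 x y) := by unfold adjF4; infer_instance

set_option maxRecDepth 1000000 in
set_option maxHeartbeats 0 in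
set_option synthInstance.maxSize 100000 in
set_option synthInstance.maxHeartbeats 0 in
/-- The diagram of type `F₄` has only one non-trivial symmetry, up to the number of bonds. -/
theorem nodes_F4 : ∀ a1 : Fin 4, ∀ a0 : Fin 4, adjF4 a1 a0 → a0 ≠ a1 →
    ∀ a2 : Fin 4, adjF4 a1 a2 → a2 ≠ a1 → a2 ≠ a0 →
    ∀ a3 : Fin 4, adjF4 a2 a3 → a3 ≠ a2 → a3 ≠ a1 → a3 ≠ a0 →
    (a0 = 0 ∧ a1 = 1 ∧ a2 = 2 ∧ a3 = 3) ∨ (a0 = 3 ∧ a1 = 2 ∧ a2 = 1 ∧ a3 = 0) := by
  decide +kernel

/-- The non-trivial symmetry of the diagram of type `F₄`. -/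
def flipF4 : ℕ → ℕ := fun i => [3, 2, 1, 0].getD i 0

set_option maxRecDepth 1000000 in
theorem normalData_F4_cases {ρ : ℕ → ℕ} {τ : ℕ → F ≃+* F} (h : NormalData chevF4 F ρ τ) :
    (∀ i, i < chevF4.rank → ρ i = i) ∨ (∀ i, i < chevF4.rank → ρ i = flipF4 i) := by
  have hr : chevF4.rank = 4 := rfl
  set a : ℕ → Fin 4 := fun i => if hi : i < 4 then ⟨ρ i, h.lt i hi⟩ else 0 with ha
  have hval : ∀ i (hi : i < 4), ((a i : Fin 4) : ℕ) = ρ i := by
    intro i hi
    rw [ha]
    simp only [dif_pos hi]
  have hadj : ∀ i j, i < 4 → j < 4 → i ≠ j → chevF4.cartan i (chevF4.simple j) ≠ 0 →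
      adjF4 (a i) (a j) := by
    intro i j hi hj hij hc
    unfold adjF4
    rw [hval i hi, hval j hj]
    exact fun h0 => hc ((h.adj i j hi hj hij).mpr h0)
  have hne : ∀ i j, i < 4 → j < 4 → i ≠ j → a i ≠ a j := by
    intro i j hi hj hij heq
    have := congrArg Fin.val heq
    rw [hval i hi, hval j hj] at this
    exact hij (h.inj i j hi hj this)
  have key := nodes_F4 (a 1) (a 0)
    (hadj 1 0 (by omega) (by omega) (by omega) (by decide)) (hne 0 1 (by omega) (by omega) (by omega))
    (a 2) (hadj 1 2 (by omega) (by omega) (by omega) (by decide))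
    (hne 2 1 (by omega) (by omega) (by omega)) (hne 2 0 (by omega) (by omega) (by omega))
    (a 3) (hadj 2 3 (by omega) (by omega) (by omega) (by decide))
    (hne 3 2 (by omega) (by omega) (by omega)) (hne 3 1 (by omega) (by omega) (by omega))
    (hne 3 0 (by omega) (by omega) (by omega))
  rcases key with ⟨e0, e1, e2, e3⟩ | ⟨e0, e1, e2, e3⟩
  · left
    intro i hi
    rw [hr] at hi
    rw [← hval i hi]
    interval_cases i
    · rw [e0]; rfl
    · rw [e1]; rfl
    · rw [e2]; rfl
    · rw [e3]; rfl
  · right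
    intro i hi
    rw [hr] at hi
    rw [← hval i hi]
    interval_cases i
    · rw [e0]; rfl
    · rw [e1]; rfl
    · rw [e2]; rfl
    · rw [e3]; rfl

/-- In odd characteristic the permutation of the nodes is trivial. -/
theorem normalData_F4_trivial (h2 : (2 : F) ≠ 0) {ρ : ℕ → ℕ} {τ : ℕ → F ≃+* F}
    (h : NormalData chevF4 F ρ τ) : ∀ i, i < chevF4.rank → ρ i = i := by
  rcases normalData_F4_cases h with hid | hfl
  · exact hid
  · exfalso
    apply h2
    have c21 : chevF4.cartan 2 (chevF4.simple 1) = -1 := by decide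
    have c12 : chevF4.cartan 1 (chevF4.simple 2) = -2 := by decide
    have hr1 : (1 : ℕ) < chevF4.rank := by decide
    have hr2 : (2 : ℕ) < chevF4.rank := by decide
    apply h.two_eq_zero hr2 hr1 c21
    rw [hfl 2 hr2, hfl 1 hr1]
    exact c12

set_option maxRecDepth 1000000 in
theorem isoRho_F4_pos : ∀ r, r < chevF4.nroots →
    (chevF4.nroots / 2 ≤ r → isoRho_F4 r < chevF4.nroots ∧ chevF4.nroots / 2 ≤ isoRho_F4 r) ∧
    (r < chevF4.nroots / 2 → isoRho_F4 r < chevF4.nroots / 2) := by
  decide

set_option maxRecDepth 1000000 in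
theorem isoRho_F4_simple : ∀ i, i < chevF4.rank →
    isoRho_F4 (chevF4.simple i) = chevF4.simple (flipF4 i) ∧ isoRho_F4 (chevF4.simple i) < chevF4.nroots := by
  decide

section charTwo

variable [CharP F 2] (hperf : ∀ x : F, ∃ y : F, y ^ 2 = x)

theorem isoF4_rootPermAction :
    RootPermAction (isoF4 hperf) isoRho_F4 (fun r t => t ^ (if isoSR_F4 r then 2 else 1)) := by
  intro x r t hr hx
  exact isoF4_apply_x hperf hr hx

include hperf in
theorem isoF4_surj (r : ℕ) : Function.Surjective (fun t : F => t ^ (if isoSR_F4 r then 2 else 1)) := by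
  intro u
  by_cases hs : isoSR_F4 r = true
  · obtain ⟨y, hy⟩ := hperf u
    exact ⟨y, by simp only [hs, if_true]; exact hy⟩
  · exact ⟨u, by simp only [hs]; simp⟩

end charTwo

section main

variable [Fintype F]

/-- The statement of S2122. -/
theorem chev_S2122 (p f : ℕ) [Fact p.Prime] [CharP F p] (hF : Fintype.card F = p ^ f) :
    Nat.card (Cfsg.Out ↥(chevF4.group F)) = Nat.gcd 2 p * f := by
  have hD : chevF4 ∈ [chevG2, chevB2, chevD4, chevF4, chevE6, chevE7, chevE8] := by simp
  have hG := good3_F4.toGood2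
  have h1 := card_out_mul (F := F) chevF4 hD
  have h2 := card_diagonal_mul (F := F) good3_F4.toGood2.toGood1 T17_F4
  have h3 : ((List.range chevF4.rank).map fun i => (Fintype.card F - 1).gcd (t17d_F4 i)).prod = 1 := by
    have : List.range chevF4.rank = [0, 1, 2, 3] := by decide
    rw [this]
    simp [t17d_F4]
  rw [h3, one_mul] at h2
  by_cases hp2 : p = 2
  · subst hp2
    have hperf : ∀ x : F, ∃ y : F, y ^ 2 = x := by
      intro x
      obtain ⟨r, hr⟩ := FiniteField.isSquare_of_char_two (ringChar.eq F 2) x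
      exact ⟨r, by rw [hr]; ring⟩
    have h5 : Nat.card ↥(stabUV chevF4 F) = 2 * Nat.card ↥(fixNodes chevF4 F) := by
      apply card_stabUV_eq_two_mul hG T0_F4 T8_F4
        ((isoF4_rootPermAction hperf).mem_stabUV hG T0_F4
          (fun r hr hp => (isoRho_F4_pos r hr).1 hp) (fun r hr hn => (isoRho_F4_pos r hr).2 hn)) flipF4
      · intro i hi
        have hs := good3_F4.toGood2.toGood1.simple_lt hi
        have h6 := (isoF4_rootPermAction hperf).mapsOnto_rootSubgroup hG hs
          (isoRho_F4_simple i hi).2 (isoF4_surj hperf _)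
        rw [(isoRho_F4_simple i hi).1] at h6
        exact h6
      · intro i hi
        have hi' : i < 4 := hi
        interval_cases i <;> decide
      · intro i hi
        have hi' : i < 4 := hi
        interval_cases i <;> rfl
      · exact ⟨0, by decide, by decide⟩
      · intro θ hθ
        obtain ⟨ρ, c, τ, hN, hND⟩ := exists_normalData chevF4 hD hθ.1 hθ.2
        rcases normalData_F4_cases hND with hid | hfl
        · left
          exact mem_fixNodes_of_normalAut _ hθ hN hid
        · right
          intro i hi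
          have := normalAut_mapsOnto _ hN hi
          rwa [hfl i hi] at this
    rw [h5, card_fixNodes chevF4 hD 2 f hF, h2] at h1
    have h7 : Nat.card (Cfsg.Out ↥(chevF4.group F)) * (Fintype.card F - 1) ^ chevF4.rank =
        2 * f * (Fintype.card F - 1) ^ chevF4.rank := by
      rw [h1]; ring
    have := Nat.eq_of_mul_eq_mul_right (card_pos_sub_one_pow _) h7
    rw [this]
    rfl
  · have hchar : (2 : F) ≠ 0 := by
      intro h0
      have hc : ((2 : ℕ) : F) = 0 := by exact_mod_cast h0
      have := (CharP.cast_eq_zero_iff F p 2).mp hc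
      exact hp2 ((Nat.prime_dvd_prime_iff_eq (Fact.out : p.Prime) Nat.prime_two).mp this)
    rw [stabUV_eq_fixNodes chevF4 hD (fun h => normalData_F4_trivial hchar h),
      card_fixNodes chevF4 hD p f hF, h2] at h1
    have h7 : Nat.card (Cfsg.Out ↥(chevF4.group F)) * (Fintype.card F - 1) ^ chevF4.rank =
        f * (Fintype.card F - 1) ^ chevF4.rank := by
      rw [h1]; ring
    have h8 := Nat.eq_of_mul_eq_mul_right (card_pos_sub_one_pow _) h7
    have hgcd : Nat.gcd 2 p = 1 :=
      (Nat.coprime_primes Nat.prime_two (Fact.out : p.Prime)).mpr (Ne.symm hp2)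
    rw [h8, hgcd, one_mul]

end main

end Cfsg.Agent.Helper7.Chev
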