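import Mathlib
import Cfsg.Agent.Helper7.ChevOutG

set_option autoImplicit false
set_option linter.unusedSectionVars false
set_option linter.unusedVariables false
set_option linter.style.haveILetI false

/-!
The order of the outer automorphism group of `G₂(q)`.
-/

namespace Cfsg.Agent.Helper7.Chev

open Cfsg Cfsg.Lie Matrix

variable {F : Type*} [Field F]

/-- The non-trivial symmetry of the diagram of type `G₂`. -/
def flipG2 : ℕ → ℕ := fun i => [1, 0].getD i 0

theorem normalData_G2_cases {ρ : ℕ → ℕ} {τ : ℕ → F ≃+* F} (h : NormalData chevG2 F ρ τ) :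
    (∀ i, i < chevG2.rank → ρ i = i) ∨ (∀ i, i < chevG2.rank → ρ i = flipG2 i) := by
  have hr : chevG2.rank = 2 := rfl
  have h0 : ρ 0 < 2 := h.lt 0 (by decide)
  have h1 : ρ 1 < 2 := h.lt 1 (by decide)
  have hne : ρ 0 ≠ ρ 1 := fun e => absurd (h.inj 0 1 (by decide) (by decide) e) (by decide)
  have hc : (ρ 0 = 0 ∧ ρ 1 = 1) ∨ (ρ 0 = 1 ∧ ρ 1 = 0) := by omega
  rcases hc with ⟨e0, e1⟩ | ⟨e0, e1⟩
  · left
    intro i hi
    rw [hr] at hi
    interval_cases i
    · exact e0
    · exact e1
  · right
    intro i hi
    rw [hr] at hi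
    interval_cases i
    · exact e0
    · exact e1

/-- Outside characteristic three (and over a field with at least three elements) the
permutation of the nodes is trivial. -/
theorem normalData_G2_trivial (h3 : (3 : F) ≠ 0) {a : F} (ha0 : a ≠ 0) (ha1 : a + 1 ≠ 0)
    {ρ : ℕ → ℕ} {τ : ℕ → F ≃+* F}
    (h : NormalData chevG2 F ρ τ) : ∀ i, i < chevG2.rank → ρ i = i := by
  rcases normalData_G2_cases h with hid | hfl
  · exact hid
  · exfalso
    apply h3
    have c10 : chevG2.cartan 1 (chevG2.simple 0) = -1 := by decide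
    have c01 : chevG2.cartan 0 (chevG2.simple 1) = -3 := by decide
    have hr0 : (0 : ℕ) < chevG2.rank := by decide
    have hr1 : (1 : ℕ) < chevG2.rank := by decide
    apply h.three_eq_zero hr1 hr0 c10 _ ha0 ha1
    rw [hfl 1 hr1, hfl 0 hr0]
    exact c01

set_option maxRecDepth 1000000 in
theorem isoRho_G2_pos : ∀ r, r < chevG2.nroots →
    (chevG2.nroots / 2 ≤ r → isoRho_G2 r < chevG2.nroots ∧ chevG2.nroots / 2 ≤ isoRho_G2 r) ∧
    (r < chevG2.nroots / 2 → isoRho_G2 r < chevG2.nroots / 2) := by
  decide

set_option maxRecDepth 1000000 in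
theorem isoRho_G2_simple : ∀ i, i < chevG2.rank →
    isoRho_G2 (chevG2.simple i) = chevG2.simple (flipG2 i) ∧ isoRho_G2 (chevG2.simple i) < chevG2.nroots := by
  decide

section charThree

variable [CharP F 3] (hperf : ∀ x : F, ∃ y : F, y ^ 3 = x)

theorem isoG2_rootPermAction :
    RootPermAction (isoG2 hperf) isoRho_G2 (fun r t => t ^ (if isoSR_G2 r then 3 else 1)) := by
  intro x r t hr hx
  exact isoG2_apply_x hperf hr hx

include hperf in
theorem isoG2_surj (r : ℕ) : Function.Surjective (fun t : F => t ^ (if isoSR_G2 r then 3 else 1)) := by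
  intro u
  by_cases hs : isoSR_G2 r = true
  · obtain ⟨y, hy⟩ := hperf u
    exact ⟨y, by simp only [hs, if_true]; exact hy⟩
  · exact ⟨u, by simp only [hs]; simp⟩

end charThree

section main

variable [Fintype F]

/-- The statement of S2121. -/
theorem chev_S2121 (p f : ℕ) [Fact p.Prime] [CharP F p] (hF : Fintype.card F = p ^ f)
    (hq : 3 ≤ p ^ f) :
    Nat.card (Cfsg.Out ↥(chevG2.group F)) = (if p = 3 then 2 * f else f) := by
  classical
  have hD : chevG2 ∈ [chevG2, chevB2, chevD4, chevF4, chevE6, chevE7, chevE8] := by simp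
  have hG := good3_G2.toGood2
  have h1 := card_out_mul (F := F) chevG2 hD
  have h2 := card_diagonal_mul (F := F) good3_G2.toGood2.toGood1 T17_G2
  have h3 : ((List.range chevG2.rank).map fun i => (Fintype.card F - 1).gcd (t17d_G2 i)).prod = 1 := by
    have : List.range chevG2.rank = [0, 1] := by decide
    rw [this]
    simp [t17d_G2]
  rw [h3, one_mul] at h2
  by_cases hp3 : p = 3
  · subst hp3
    rw [if_pos rfl]
    have hperf : ∀ x : F, ∃ y : F, y ^ 3 = x := by
      intro x
      have hsurj : Function.Surjective (frobenius F 3) :=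
        (Finite.injective_iff_surjective).mp (frobenius_inj F 3)
      obtain ⟨y, hy⟩ := hsurj x
      exact ⟨y, by rw [← hy]; rfl⟩
    have h5 : Nat.card ↥(stabUV chevG2 F) = 2 * Nat.card ↥(fixNodes chevG2 F) := by
      apply card_stabUV_eq_two_mul hG T0_G2 T8_G2
        ((isoG2_rootPermAction hperf).mem_stabUV hG T0_G2
          (fun r hr hp => (isoRho_G2_pos r hr).1 hp) (fun r hr hn => (isoRho_G2_pos r hr).2 hn)) flipG2
      · intro i hi
        have hs := good3_G2.toGood2.toGood1.simple_lt hi
        have h6 := (isoG2_rootPermAction hperf).mapsOnto_rootSubgroup hG hs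
          (isoRho_G2_simple i hi).2 (isoG2_surj hperf _)
        rw [(isoRho_G2_simple i hi).1] at h6
        exact h6
      · intro i hi
        have hi' : i < 2 := hi
        interval_cases i <;> decide
      · intro i hi
        have hi' : i < 2 := hi
        interval_cases i <;> rfl
      · exact ⟨0, by decide, by decide⟩
      · intro θ hθ
        obtain ⟨ρ, c, τ, hN, hND⟩ := exists_normalData chevG2 hD hθ.1 hθ.2
        rcases normalData_G2_cases hND with hid | hfl
        · left
          exact mem_fixNodes_of_normalAut _ hθ hN hid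
        · right
          intro i hi
          have := normalAut_mapsOnto _ hN hi
          rwa [hfl i hi] at this
    rw [h5, card_fixNodes chevG2 hD 3 f hF, h2] at h1
    have h7 : Nat.card (Cfsg.Out ↥(chevG2.group F)) * (Fintype.card F - 1) ^ chevG2.rank =
        2 * f * (Fintype.card F - 1) ^ chevG2.rank := by
      rw [h1]; ring
    exact Nat.eq_of_mul_eq_mul_right (card_pos_sub_one_pow _) h7
  · rw [if_neg hp3]
    have hchar : (3 : F) ≠ 0 := by
      intro h0
      have hc : ((3 : ℕ) : F) = 0 := by exact_mod_cast h0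
      have := (CharP.cast_eq_zero_iff F p 3).mp hc
      exact hp3 ((Nat.prime_dvd_prime_iff_eq (Fact.out : p.Prime) Nat.prime_three).mp this)
    -- an element outside `{0, -1}`
    have hcard : 2 < Fintype.card F := by rw [hF]; omega
    obtain ⟨a, ha⟩ : ∃ a : F, a ∉ ({0, -1} : Finset F) := by
      by_contra hcon
      push Not at hcon
      have hle : Fintype.card F ≤ ({0, -1} : Finset F).card := by
        rw [← Finset.card_univ]
        exact Finset.card_le_card (fun x _ => hcon x)
      have : ({0, -1} : Finset F).card ≤ 2 := Finset.card_le_two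
      omega
    have ha0 : a ≠ 0 := fun h0 => ha (by rw [h0]; simp)
    have ha1 : a + 1 ≠ 0 := fun h0 => ha (by
      have : a = -1 := by linear_combination h0
      rw [this]; simp)
    rw [stabUV_eq_fixNodes chevG2 hD (fun h => normalData_G2_trivial hchar ha0 ha1 h),
      card_fixNodes chevG2 hD p f hF, h2] at h1
    have h7 : Nat.card (Cfsg.Out ↥(chevG2.group F)) * (Fintype.card F - 1) ^ chevG2.rank =
        f * (Fintype.card F - 1) ^ chevG2.rank := by
      rw [h1]; ring
    exact Nat.eq_of_mul_eq_mul_right (card_pos_sub_one_pow _) h7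

end main

end Cfsg.Agent.Helper7.Chev
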