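import Mathlib
import Cfsg.Agent.Helper7.ChevOutH
import Cfsg.Agent.Helper7.ChevOutF

set_option autoImplicit false
set_option linter.unusedSectionVars false
set_option linter.unusedVariables false
set_option linter.style.haveILetI false

/-!
The structure of the outer automorphism group of a Chevalley group, part I: the groups generated by the
diagonal and by the field automorphisms.
-/

namespace Cfsg.Agent.Helper7.Chev

open Cfsg Cfsg.Lie Matrix

variable {F : Type*} [Field F]

/-- The automorphism group of a finite field is cyclic. -/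
theorem isCyclic_ringAut [Finite F] : IsCyclic (F ≃+* F) := by
  classical
  obtain ⟨p, hp⟩ := CharP.exists F
  haveI := hp
  haveI : Fact p.Prime := ⟨CharP.char_is_prime F p⟩
  let _ := ZMod.algebra F p
  let f : (F ≃ₐ[ZMod p] F) →* (F ≃+* F) :=
    { toFun := fun σ => σ.toRingEquiv
      map_one' := rfl
      map_mul' := fun _ _ => rfl }
  have hf : Function.Surjective f := by
    intro σ
    refine ⟨AlgEquiv.ofRingEquiv (f := σ) (fun x =>
        RingHom.congr_fun (Subsingleton.elim ((σ : F →+* F).comp (algebraMap (ZMod p) F))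
          (algebraMap (ZMod p) F)) x), ?_⟩
    ext x
    rfl
  exact isCyclic_of_surjective f hf

/-- The group generated by the diagonal automorphisms. -/
def diagCl (D : ChevalleyDatum) (F : Type*) [Field F] : Subgroup (MulAut ↥(D.group F)) :=
  Subgroup.closure {φ : MulAut ↥(D.group F) | D.IsDiagonalAut φ}

/-- The group generated by the field automorphisms. -/
def fieldCl (D : ChevalleyDatum) (F : Type*) [Field F] : Subgroup (MulAut ↥(D.group F)) :=
  Subgroup.closure {φ : MulAut ↥(D.group F) | D.IsFieldAut φ}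

section generic

variable (D : ChevalleyDatum)
  (hD : D ∈ [chevG2, chevB2, chevD4, chevF4, chevE6, chevE7, chevE8])

include hD in
theorem eq_diagAut_of_isDiagonalAut {φ : MulAut ↥(D.group F)} (h : D.IsDiagonalAut φ) :
    ∃ (χ : ℕ → Fˣ) (hχ : D.IsRootCharacter χ), φ = diagAut hD χ hχ := by
  obtain ⟨χ, hχ, h⟩ := h
  refine ⟨χ, hχ, MulEquiv.ext fun g => Subtype.ext (Units.ext ?_)⟩
  rw [h g, diagAut_coe, Units.val_mul, Units.val_mul, charDiagGL_coe, charDiagGL_inv_coe]

theorem diagAut_rootAction (χ : ℕ → Fˣ) (hχ : D.IsRootCharacter χ) :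
    RootAction (diagAut (F := F) hD χ hχ) (fun r => Equiv.mulLeft₀ (χ r : F) (χ r).ne_zero) := by
  intro x r t hr hx
  have hG := good2_of_mem D hD
  have h1 : x = phiG hG hr (upperSL t) := eq_phiG_upper hG hr hx
  rw [h1, diagAut_phiG_upper, phiG_upper_mat]
  rfl

theorem diagAut_mem_fixNodes (χ : ℕ → Fˣ) (hχ : D.IsRootCharacter χ) :
    (diagAut (F := F) hD χ hχ : MulAut ↥(D.group F)) ∈ fixNodes D F :=
  (diagAut_rootAction D hD χ hχ).mem_fixNodes (good2_of_mem D hD)

include hD in
theorem chevFieldAut_mem_fixNodes (σ : F ≃+* F) :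
    (Cfsg.Agent.Helper7.chevFieldAut D σ : MulAut ↥(D.group F)) ∈ fixNodes D F := by
  have h : RootAction (Cfsg.Agent.Helper7.chevFieldAut D σ) (fun _ => σ.toEquiv) := by
    obtain ⟨σ', h⟩ := isFieldAut_chevFieldAut (D := D) σ
    intro x r t hr hx
    have hG := good2_of_mem D hD
    have h1 : x = phiG hG hr (upperSL t) := eq_phiG_upper hG hr hx
    rw [h1, chevFieldAut_phiG_upper, phiG_upper_mat]
    rfl
  exact h.mem_fixNodes (good2_of_mem D hD)

include hD in
theorem diagCl_le_fixNodes : diagCl D F ≤ fixNodes D F := by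
  unfold diagCl
  rw [Subgroup.closure_le]
  intro φ hφ
  obtain ⟨χ, hχ, rfl⟩ := eq_diagAut_of_isDiagonalAut D hD hφ
  exact diagAut_mem_fixNodes D hD χ hχ

include hD in
theorem fieldCl_le_fixNodes : fieldCl D F ≤ fixNodes D F := by
  unfold fieldCl
  rw [Subgroup.closure_le]
  intro φ hφ
  obtain ⟨σ, hσ⟩ := hφ
  rw [eq_chevFieldAut hσ]
  exact chevFieldAut_mem_fixNodes D hD σ

include hD in
theorem fixNodes_eq_sup [Fintype F] : fixNodes D F = diagCl D F ⊔ fieldCl D F := by
  apply le_antisymm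
  · intro θ hθ
    obtain ⟨W, N, h40⟩ := T40_of_mem D hD
    obtain ⟨a, σ, rfl⟩ := exists_dfAut_of_mem_fixNodes D hD hθ h40
    unfold dfAut
    exact Subgroup.mul_mem_sup (Subgroup.subset_closure (isDiagonalAut_diagAut hD _ _))
      (Subgroup.subset_closure (isFieldAut_chevFieldAut σ))
  · exact sup_le (diagCl_le_fixNodes D hD) (fieldCl_le_fixNodes D hD)

theorem fieldCl_eq_range : fieldCl D F = (chevFieldAutHom D F).range := by
  unfold fieldCl
  apply le_antisymm
  · rw [Subgroup.closure_le]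
    intro φ hφ
    obtain ⟨σ, hσ⟩ := hφ
    exact ⟨σ, (eq_chevFieldAut hσ).symm⟩
  · rintro _ ⟨σ, rfl⟩
    exact Subgroup.subset_closure (isFieldAut_chevFieldAut σ)

/-- The image of the group of the field automorphisms under a homomorphism is cyclic. -/
theorem isCyclic_map_fieldCl [Finite F] {A : Type*} [Group A] (f : MulAut ↥(D.group F) →* A) :
    IsCyclic ↥((fieldCl D F).map f) := by
  haveI := isCyclic_ringAut (F := F)
  rw [fieldCl_eq_range, ← MonoidHom.range_comp]
  exact isCyclic_of_surjective (f.comp (chevFieldAutHom D F)).rangeRestrict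
    (MonoidHom.rangeRestrict_surjective _)

theorem charDiagGL_comm (χ₁ χ₂ : ℕ → Fˣ) :
    charDiagGL (F := F) D χ₁ * charDiagGL D χ₂ = charDiagGL D χ₂ * charDiagGL D χ₁ := by
  apply Units.ext
  rw [Units.val_mul, Units.val_mul, charDiagGL_coe, charDiagGL_coe]
  unfold ChevalleyDatum.charDiag
  rw [Matrix.diagonal_mul_diagonal, Matrix.diagonal_mul_diagonal]
  congr 1
  funext i
  exact mul_comm _ _

include hD in
/-- The image of the group of the diagonal automorphisms under a homomorphism is commutative. -/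
theorem isMulCommutative_map_diagCl {A : Type*} [Group A] (f : MulAut ↥(D.group F) →* A) :
    IsMulCommutative ↥((diagCl D F).map f) := by
  haveI : IsMulCommutative ↥(diagCl D F) := by
    unfold diagCl
    apply Subgroup.isMulCommutative_closure
    intro x hx y hy
    obtain ⟨χ₁, hχ₁, rfl⟩ := eq_diagAut_of_isDiagonalAut D hD hx
    obtain ⟨χ₂, hχ₂, rfl⟩ := eq_diagAut_of_isDiagonalAut D hD hy
    apply MulEquiv.ext
    intro g
    apply Subtype.ext
    show charDiagGL D χ₁ * (charDiagGL D χ₂ * g * (charDiagGL D χ₂)⁻¹) * (charDiagGL D χ₁)⁻¹ =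
      charDiagGL D χ₂ * (charDiagGL D χ₁ * g * (charDiagGL D χ₁)⁻¹) * (charDiagGL D χ₂)⁻¹
    have h := charDiagGL_comm (F := F) D χ₁ χ₂
    have h' : (charDiagGL (F := F) D χ₂)⁻¹ * (charDiagGL D χ₁)⁻¹ =
        (charDiagGL D χ₁)⁻¹ * (charDiagGL D χ₂)⁻¹ := by
      rw [← _root_.mul_inv_rev, ← _root_.mul_inv_rev, h]
    calc charDiagGL D χ₁ * (charDiagGL D χ₂ * g * (charDiagGL D χ₂)⁻¹) * (charDiagGL D χ₁)⁻¹
        = (charDiagGL D χ₁ * charDiagGL D χ₂) * g *
            ((charDiagGL D χ₂)⁻¹ * (charDiagGL D χ₁)⁻¹) := by group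
      _ = (charDiagGL D χ₂ * charDiagGL D χ₁) * g *
            ((charDiagGL D χ₁)⁻¹ * (charDiagGL D χ₂)⁻¹) := by rw [h, h']
      _ = _ := by group
  infer_instance

end generic

section normalizing

variable [Fintype F] (D : ChevalleyDatum)
  (hD : D ∈ [chevG2, chevB2, chevD4, chevF4, chevE6, chevE7, chevE8])

include hD in
/-- The conjugate of a diagonal automorphism by an automorphism stabilising `U` and `V` is a diagonal
automorphism. -/
theorem conj_diagAut_of_mem_stabUV {θ : MulAut ↥(D.group F)} (hθ : θ ∈ stabUV D F) (χ : ℕ → Fˣ)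
    (hχ : D.IsRootCharacter χ) :
    ∃ (χ' : ℕ → Fˣ) (hχ' : D.IsRootCharacter χ'),
      θ * diagAut hD χ hχ * θ⁻¹ = diagAut hD χ' hχ' := by
  have hG := (good3_of_mem D hD).toGood2
  have hG1 := hG.toGood1
  have hT := T0_of_mem D hD
  have h9 := T9_of_mem D hD
  obtain ⟨ρ, c, τ, hN, hND⟩ := exists_normalData D hD hθ.1 hθ.2
  obtain ⟨π, hπ⟩ := hND.exists_perm
  obtain ⟨W, N, h40⟩ := T40_of_mem D hD
  set a : ℕ → Fˣ := fun j => if h : j < D.rank then
      Units.map ((τ (π.symm ⟨j, h⟩).val : F ≃+* F) : F →* F) (χ (D.simple (π.symm ⟨j, h⟩).val))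
    else 1 with ha
  have haρ : ∀ i (hi : i < D.rank), ((a (ρ i) : Fˣ) : F) = τ i (χ (D.simple i) : F) := by
    intro i hi
    have hj := hND.lt i hi
    have h1 : π.symm ⟨ρ i, hj⟩ = ⟨i, hi⟩ := by
      rw [Equiv.symm_apply_eq]
      exact Fin.ext (hπ ⟨i, hi⟩).symm
    simp only [ha, dif_pos hj, h1]
    rfl
  refine ⟨rootChar D W N a, isRootCharacter_rootChar hG h40 a, ?_⟩
  rw [mul_inv_eq_iff_eq_mul]
  apply mulEquiv_ext_simpleGen hG hT h9
  rintro g ⟨i, t, hi, hg | hg⟩
  · obtain ⟨hj, hu, -, -⟩ := hN i hi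
    have hp := hG1.simple_lt hi
    have hg' : g = phiG hG hp (upperSL t) := eq_phiG_upper hG hp hg
    rw [hg', MulAut.mul_apply, MulAut.mul_apply, diagAut_phiG_upper, hu, hu, diagAut_phiG_upper,
      rootChar_simple h40 a hj, haρ i hi, map_mul]
    congr 2
    ring
  · obtain ⟨hj, -, hl, -⟩ := hN i hi
    have hp := hG1.simple_lt hi
    have hg' : g = phiG hG hp (lowerSL t) := eq_phiG_lower hG hp hg
    rw [hg', MulAut.mul_apply, MulAut.mul_apply, diagAut_phiG_lower, hl, hl, diagAut_phiG_lower,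
      rootChar_simple h40 a hj]
    simp only [Units.val_inv_eq_inv_val]
    rw [haρ i hi, map_mul, map_inv₀]
    congr 2
    ring

include hD in
/-- The group generated by the diagonal automorphisms is normalised by the automorphisms stabilising `U`
and `V`. -/
theorem conj_mem_diagCl {θ : MulAut ↥(D.group F)} (hθ : θ ∈ stabUV D F) {d : MulAut ↥(D.group F)}
    (hd : d ∈ diagCl D F) : θ * d * θ⁻¹ ∈ diagCl D F := by
  unfold diagCl at hd ⊢
  induction hd using Subgroup.closure_induction with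
  | mem x hx =>
    obtain ⟨χ, hχ, rfl⟩ := eq_diagAut_of_isDiagonalAut D hD hx
    obtain ⟨χ', hχ', h⟩ := conj_diagAut_of_mem_stabUV D hD hθ χ hχ
    rw [h]
    exact Subgroup.subset_closure (isDiagonalAut_diagAut hD χ' hχ')
  | one =>
    rw [mul_one, mul_inv_cancel]
    exact one_mem _
  | mul x y _ _ hx hy =>
    have : θ * (x * y) * θ⁻¹ = (θ * x * θ⁻¹) * (θ * y * θ⁻¹) := by group
    rw [this]
    exact mul_mem hx hy
  | inv x _ hx =>
    have : θ * x⁻¹ * θ⁻¹ = (θ * x * θ⁻¹)⁻¹ := by group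
    rw [this]
    exact inv_mem hx

include hD in
/-- The group of the automorphisms stabilising the root subgroups of the fundamental roots is normalised by
the automorphisms stabilising `U` and `V`. -/
theorem conj_mem_fixNodes {θ : MulAut ↥(D.group F)} (hθ : θ ∈ stabUV D F) {n : MulAut ↥(D.group F)}
    (hn : n ∈ fixNodes D F) : θ * n * θ⁻¹ ∈ fixNodes D F := by
  have hG := (good3_of_mem D hD).toGood2
  obtain ⟨ρ, c, τ, hN, hND⟩ := exists_normalData D hD hθ.1 hθ.2
  obtain ⟨π, hπ⟩ := hND.exists_perm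
  refine ⟨mul_mem (mul_mem hθ hn.1) (inv_mem hθ), fun j hj => ?_⟩
  have h1 : ρ (π.symm ⟨j, hj⟩).val = j := by
    rw [← hπ, Equiv.apply_symm_apply]
  have hi := (π.symm ⟨j, hj⟩).2
  have h2 := normalAut_mapsOnto hG hN hi
  rw [h1] at h2
  exact (h2.symm.trans (hn.2 _ hi)).trans h2

end normalizing

section out

variable [Fintype F] (D : ChevalleyDatum)
  (hD : D ∈ [chevG2, chevB2, chevD4, chevF4, chevE6, chevE7, chevE8])

include hD in
/-- Every outer automorphism is the class of an automorphism stabilising `U` and `V`. -/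
theorem exists_mem_stabUV_mk (g : Cfsg.Out ↥(D.group F)) :
    ∃ s ∈ stabUV D F, QuotientGroup.mk' (Cfsg.Inn ↥(D.group F)) s = g := by
  obtain ⟨a, rfl⟩ := QuotientGroup.mk'_surjective (Cfsg.Inn ↥(D.group F)) g
  have ha : a ∈ stabUV D F ⊔ Cfsg.Inn ↥(D.group F) := by
    rw [stabUV_sup_inn D hD]
    exact Subgroup.mem_top a
  have ha' : a ∈ ((stabUV D F ⊔ Cfsg.Inn ↥(D.group F) : Subgroup _) : Set (MulAut ↥(D.group F))) := ha
  rw [Subgroup.mul_normal] at ha'
  obtain ⟨s, hs, ι, hι, rfl⟩ := Set.mem_mul.mp ha'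
  refine ⟨s, hs, ?_⟩
  have h1 : QuotientGroup.mk' (Cfsg.Inn ↥(D.group F)) ι = 1 := (QuotientGroup.eq_one_iff ι).mpr hι
  rw [map_mul, h1, mul_one]

theorem rootSubgroup_eq_closure_rootGen (r : ℕ) :
    D.rootSubgroup F r = Subgroup.closure (rootGen D F (fun s => s = r)) := by
  unfold ChevalleyDatum.rootSubgroup rootGen
  congr 1
  ext g
  constructor
  · rintro ⟨t, h⟩
    exact ⟨r, t, rfl, h⟩
  · rintro ⟨_, t, rfl, h⟩
    exact ⟨t, h⟩

include hD in
/-- The inner automorphisms of the elements of `H` stabilise the root subgroups. -/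
theorem conj_diagonal_mem_fixNodes {y : ↥(D.group F)}
    (hy : (y : GL D.Idx F) ∈ D.diagonalSubgroup F) : MulAut.conj y ∈ fixNodes D F := by
  have hG := (good3_of_mem D hD).toGood2
  refine ⟨(conj_mem_stabUV_iff D hD y).mpr hy, fun i hi => ?_⟩
  apply mapsOnto_conj_of_mem_normalizer
  rw [rootSubgroup_eq_closure_rootGen]
  exact diagonalSubgroup_le_normalizer hG (P := fun s => s = D.simple i)
    (fun r hr => by rw [hr]; exact hG.toGood1.simple_lt hi) hy

include hD in
/-- An automorphism stabilising `U` and `V` whose class lies in the image of the group of the automorphisms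
stabilising the root subgroups of the fundamental roots stabilises these root subgroups. -/
theorem mem_fixNodes_of_mk_mem {s : MulAut ↥(D.group F)} (hs : s ∈ stabUV D F)
    (h : QuotientGroup.mk' (Cfsg.Inn ↥(D.group F)) s ∈
      (fixNodes D F).map (QuotientGroup.mk' (Cfsg.Inn ↥(D.group F)))) : s ∈ fixNodes D F := by
  obtain ⟨n, hn, hns⟩ := h
  have h1 : n⁻¹ * s ∈ Cfsg.Inn ↥(D.group F) := QuotientGroup.eq.mp hns
  obtain ⟨y, hy⟩ := h1
  have h2 : MulAut.conj y ∈ stabUV D F := by
    rw [hy]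
    exact mul_mem (inv_mem hn.1) hs
  have h3 := conj_diagonal_mem_fixNodes D hD ((conj_mem_stabUV_iff D hD y).mp h2)
  have h4 : s = n * MulAut.conj y := by rw [hy]; group
  rw [h4]
  exact mul_mem hn h3

include hD in
theorem map_diagCl_normal :
    ((diagCl D F).map (QuotientGroup.mk' (Cfsg.Inn ↥(D.group F)))).Normal := by
  constructor
  rintro _ ⟨d, hd, rfl⟩ g
  obtain ⟨s, hs, rfl⟩ := exists_mem_stabUV_mk D hD g
  rw [← map_inv, ← map_mul, ← map_mul]
  exact Subgroup.mem_map_of_mem _ (conj_mem_diagCl D hD hs hd)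

include hD in
theorem map_fixNodes_normal :
    ((fixNodes D F).map (QuotientGroup.mk' (Cfsg.Inn ↥(D.group F)))).Normal := by
  constructor
  rintro _ ⟨d, hd, rfl⟩ g
  obtain ⟨s, hs, rfl⟩ := exists_mem_stabUV_mk D hD g
  rw [← map_inv, ← map_mul, ← map_mul]
  exact Subgroup.mem_map_of_mem _ (conj_mem_fixNodes D hD hs hd)

include hD in
theorem index_map_fixNodes :
    ((fixNodes D F).map (QuotientGroup.mk' (Cfsg.Inn ↥(D.group F)))).index =
      ((fixNodes D F).subgroupOf (stabUV D F)).index := by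
  set f : ↥(stabUV D F) →* Cfsg.Out ↥(D.group F) :=
    (QuotientGroup.mk' (Cfsg.Inn ↥(D.group F))).comp (stabUV D F).subtype with hf
  have hsurj : Function.Surjective f := by
    intro g
    obtain ⟨s, hs, rfl⟩ := exists_mem_stabUV_mk D hD g
    exact ⟨⟨s, hs⟩, rfl⟩
  rw [← Subgroup.index_comap_of_surjective _ hsurj]
  congr 1
  ext ⟨s, hs⟩
  rw [Subgroup.mem_comap, Subgroup.mem_subgroupOf]
  constructor
  · intro h
    exact mem_fixNodes_of_mk_mem D hD hs h
  · intro h
    exact Subgroup.mem_map_of_mem _ h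

end out

end Cfsg.Agent.Helper7.Chev
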