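import Mathlib
import Cfsg.Agent.Helper7.ChevOutI
import Cfsg.Agent.Helper7.ChevT18b

set_option autoImplicit false
set_option linter.unusedSectionVars false
set_option linter.unusedVariables false
set_option linter.style.haveILetI false

/-!
The structure of the outer automorphism group of a Chevalley group, part J: the index of the group generated by
the diagonal and the field automorphisms.
-/

namespace Cfsg.Agent.Helper7.Chev

open Cfsg Cfsg.Lie Matrix

variable {F : Type*} [Field F]

section index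

variable {D : ChevalleyDatum}

/-- If the automorphisms stabilising `U` and `V` permute the root subgroups of the fundamental roots either
trivially or as an involution `π₀` does, then those permuting them trivially form a subgroup of index one or
two. -/
theorem index_fixNodes_one_or_two (π₀ : ℕ → ℕ)
    (hπ₀ : ∀ i, i < D.rank → π₀ i < D.rank) (hinv : ∀ i, i < D.rank → π₀ (π₀ i) = i)
    (hall : ∀ θ : MulAut ↥(D.group F), θ ∈ stabUV D F → θ ∈ fixNodes D F ∨ ∀ i, i < D.rank →
      MapsOnto θ (D.rootSubgroup F (D.simple i)) (D.rootSubgroup F (D.simple (π₀ i)))) :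
    ((fixNodes D F).subgroupOf (stabUV D F)).index = 1 ∨
      ((fixNodes D F).subgroupOf (stabUV D F)).index = 2 := by
  by_cases h : stabUV D F ≤ fixNodes D F
  · left
    rw [Subgroup.index_eq_one, Subgroup.subgroupOf_eq_top]
    exact h
  · right
    obtain ⟨γ, hγ, hγN⟩ := SetLike.not_le_iff_exists.mp h
    have hγπ := (hall γ hγ).resolve_left hγN
    rw [Subgroup.index_eq_two_iff]
    refine ⟨⟨γ, hγ⟩, fun b => ?_⟩
    by_cases hb : b.1 ∈ fixNodes D F
    · right
      refine ⟨Subgroup.mem_subgroupOf.mpr hb, fun hbγ => ?_⟩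
      have hbγ' : b.1 * γ ∈ fixNodes D F := Subgroup.mem_subgroupOf.mp hbγ
      apply hγN
      have : γ = b.1⁻¹ * (b.1 * γ) := by group
      rw [this]
      exact mul_mem (inv_mem hb) hbγ'
    · left
      refine ⟨?_, fun hb' => hb (Subgroup.mem_subgroupOf.mp hb')⟩
      rw [Subgroup.mem_subgroupOf]
      have hb2 := (hall b.1 b.2).resolve_left hb
      refine ⟨mul_mem b.2 hγ, fun i hi => ?_⟩
      have h1 := (hγπ i hi).trans (hb2 (π₀ i) (hπ₀ i hi))
      rwa [hinv i hi] at h1

end index

section cases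

variable [Fintype F]

/-- From the possible permutations of the nodes to the possible permutations of the root subgroups. -/
theorem hall_of_cases (D : ChevalleyDatum)
    (hD : D ∈ [chevG2, chevB2, chevD4, chevF4, chevE6, chevE7, chevE8]) (π₀ : ℕ → ℕ)
    (hc : ∀ {ρ : ℕ → ℕ} {τ : ℕ → F ≃+* F}, NormalData D F ρ τ →
      (∀ i, i < D.rank → ρ i = i) ∨ (∀ i, i < D.rank → ρ i = π₀ i)) :
    ∀ θ : MulAut ↥(D.group F), θ ∈ stabUV D F → θ ∈ fixNodes D F ∨ ∀ i, i < D.rank →
      MapsOnto θ (D.rootSubgroup F (D.simple i)) (D.rootSubgroup F (D.simple (π₀ i))) := by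
  intro θ hθ
  obtain ⟨ρ, c, τ, hN, hND⟩ := exists_normalData D hD hθ.1 hθ.2
  rcases hc hND with hid | hfl
  · left
    exact mem_fixNodes_of_normalAut _ hθ hN hid
  · right
    intro i hi
    have := normalAut_mapsOnto _ hN hi
    rwa [hfl i hi] at this

theorem normalData_B2_cases {ρ : ℕ → ℕ} {τ : ℕ → F ≃+* F} (h : NormalData chevB2 F ρ τ) :
    (∀ i, i < chevB2.rank → ρ i = i) ∨ (∀ i, i < chevB2.rank → ρ i = flipG2 i) := by
  have hr : chevB2.rank = 2 := rfl
  have h0 : ρ 0 < 2 := h.lt 0 (by decide)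
  have h1 : ρ 1 < 2 := h.lt 1 (by decide)
  have hne : ρ 0 ≠ ρ 1 := fun e => absurd (h.inj 0 1 (by decide) (by decide) e) (by decide)
  have hc : (ρ 0 = 0 ∧ ρ 1 = 1) ∨ (ρ 0 = 1 ∧ ρ 1 = 0) := by omega
  rcases hc with ⟨e0, e1⟩ | ⟨e0, e1⟩
  · left
    intro i hi
    rw [hr] at hi
    interval_cases i
    · exact e0
    · exact e1
  · right
    intro i hi
    rw [hr] at hi
    interval_cases i
    · exact e0
    · exact e1

/-- The index of the group of the automorphisms stabilising the root subgroups of the fundamental roots, for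
the types other than `D₄`. -/
theorem index_fixNodes_of_ne_D4 (D : ChevalleyDatum)
    (hD : D ∈ [chevG2, chevB2, chevF4, chevE6, chevE7, chevE8]) :
    ((fixNodes D F).subgroupOf (stabUV D F)).index = 1 ∨
      ((fixNodes D F).subgroupOf (stabUV D F)).index = 2 := by
  simp only [List.mem_cons, List.not_mem_nil, or_false] at hD
  rcases hD with rfl | rfl | rfl | rfl | rfl | rfl
  · apply index_fixNodes_one_or_two flipG2
    · intro i hi
      have hi' : i < 2 := hi
      interval_cases i <;> decide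
    · intro i hi
      have hi' : i < 2 := hi
      interval_cases i <;> rfl
    · exact hall_of_cases chevG2 (by simp) flipG2 normalData_G2_cases
  · apply index_fixNodes_one_or_two flipG2
    · intro i hi
      have hi' : i < 2 := hi
      interval_cases i <;> decide
    · intro i hi
      have hi' : i < 2 := hi
      interval_cases i <;> rfl
    · exact hall_of_cases chevB2 (by simp) flipG2 normalData_B2_cases
  · apply index_fixNodes_one_or_two flipF4
    · intro i hi
      have hi' : i < 4 := hi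
      interval_cases i <;> decide
    · intro i hi
      have hi' : i < 4 := hi
      interval_cases i <;> rfl
    · exact hall_of_cases chevF4 (by simp) flipF4 normalData_F4_cases
  · apply index_fixNodes_one_or_two flipE6
    · intro i hi
      have hi' : i < 6 := hi
      interval_cases i <;> decide
    · intro i hi
      have hi' : i < 6 := hi
      interval_cases i <;> rfl
    · exact hall_of_cases chevE6 (by simp) flipE6 normalData_E6_cases
  · left
    rw [Subgroup.index_eq_one, Subgroup.subgroupOf_eq_top,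
      stabUV_eq_fixNodes chevE7 (by simp) (fun h => normalData_E7_trivial h)]
  · left
    rw [Subgroup.index_eq_one, Subgroup.subgroupOf_eq_top,
      stabUV_eq_fixNodes chevE8 (by simp) (fun h => normalData_E8_trivial h)]

end cases

/-! ### Graph automorphisms from the table facts -/

section graph

variable {D : ChevalleyDatum} (hG : Good2 D) {ρ ρ' σ σ' : ℕ → ℕ} {ε : ℕ → ℤ}
  (hT18 : T18 D ρ ρ' σ σ' ε)

theorem graphAut_rootPermAction :
    RootPermAction (graphAut (F := F) hG.toGood1 hT18) σ (fun r t => ((ε r : ℤ) : F) * t) := by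
  intro x r t hr hx
  rw [graphAut_coe]
  exact graphGL_conj_x hG.toGood1 hT18 hr hx

theorem graphAut_mem_stabUV [Finite F] (hT : T0 D)
    (hpos : ∀ r, r < D.nroots →
      (D.nroots / 2 ≤ r → σ r < D.nroots ∧ D.nroots / 2 ≤ σ r) ∧
      (r < D.nroots / 2 → σ r < D.nroots / 2)) :
    (graphAut (F := F) hG.toGood1 hT18 : MulAut ↥(D.group F)) ∈ stabUV D F :=
  (graphAut_rootPermAction (F := F) hG hT18).mem_stabUV hG hT
    (fun r hr hp => (hpos r hr).1 hp) (fun r hr hn => (hpos r hr).2 hn)

theorem graphAut_mapsOnto (i : ℕ) (hi : i < D.rank) :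
    MapsOnto (graphAut (F := F) hG.toGood1 hT18) (D.rootSubgroup F (D.simple i))
      (D.rootSubgroup F (D.simple (ρ i))) := by
  have hs := hG.toGood1.simple_lt hi
  have h1 := (graphAut_rootPermAction (F := F) hG hT18).mapsOnto_rootSubgroup hG hs
    (hT18.sigma _ hs).1 (by
      intro u
      refine ⟨((ε (D.simple i) : ℤ) : F) * u, ?_⟩
      show ((ε (D.simple i) : ℤ) : F) * (((ε (D.simple i) : ℤ) : F) * u) = u
      rcases (hT18.eps _ hs).1 with h | h <;> rw [h] <;> simp)
  rw [(hT18.simple i hi).1] at h1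
  exact h1

end graph

/-! ### Type `D₄` -/

/-- The six symmetries of the diagram of type `D₄`. -/
def d4perm (k : ℕ) : ℕ → ℕ := fun i =>
  ([[0, 1, 2, 3], [2, 1, 3, 0], [3, 1, 0, 2], [2, 1, 0, 3], [3, 1, 2, 0], [0, 1, 3, 2]].getD k
    []).getD i 0

set_option maxRecDepth 1000000 in
theorem t18s_D4a_pos : ∀ r, r < chevD4.nroots →
    (chevD4.nroots / 2 ≤ r → tabN t18s_D4a r < chevD4.nroots ∧ chevD4.nroots / 2 ≤ tabN t18s_D4a r) ∧
    (r < chevD4.nroots / 2 → tabN t18s_D4a r < chevD4.nroots / 2) := by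
  decide

set_option maxRecDepth 1000000 in
theorem t18s_D4b_pos : ∀ r, r < chevD4.nroots →
    (chevD4.nroots / 2 ≤ r → tabN t18s_D4b r < chevD4.nroots ∧ chevD4.nroots / 2 ≤ tabN t18s_D4b r) ∧
    (r < chevD4.nroots / 2 → tabN t18s_D4b r < chevD4.nroots / 2) := by
  decide

set_option maxRecDepth 1000000 in
theorem t18s_D4c_pos : ∀ r, r < chevD4.nroots →
    (chevD4.nroots / 2 ≤ r → tabN t18s_D4c r < chevD4.nroots ∧ chevD4.nroots / 2 ≤ tabN t18s_D4c r) ∧
    (r < chevD4.nroots / 2 → tabN t18s_D4c r < chevD4.nroots / 2) := by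
  decide

set_option maxRecDepth 1000000 in
theorem t18s_D4d_pos : ∀ r, r < chevD4.nroots →
    (chevD4.nroots / 2 ≤ r → tabN t18s_D4d r < chevD4.nroots ∧ chevD4.nroots / 2 ≤ tabN t18s_D4d r) ∧
    (r < chevD4.nroots / 2 → tabN t18s_D4d r < chevD4.nroots / 2) := by
  decide

set_option maxRecDepth 1000000 in
theorem t18s_D4e_pos : ∀ r, r < chevD4.nroots →
    (chevD4.nroots / 2 ≤ r → tabN t18s_D4e r < chevD4.nroots ∧ chevD4.nroots / 2 ≤ tabN t18s_D4e r) ∧
    (r < chevD4.nroots / 2 → tabN t18s_D4e r < chevD4.nroots / 2) := by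
  decide

/-- Every symmetry of the diagram of type `D₄` comes from an automorphism stabilising `U` and `V`. -/
theorem exists_d4aut [Fintype F] (k : ℕ) (hk : k < 6) :
    ∃ γ : MulAut ↥(chevD4.group F), γ ∈ stabUV chevD4 F ∧ ∀ i, i < chevD4.rank →
      MapsOnto γ (chevD4.rootSubgroup F (chevD4.simple i))
        (chevD4.rootSubgroup F (chevD4.simple (d4perm k i))) := by
  interval_cases k
  · refine ⟨1, one_mem _, fun i hi => ?_⟩
    have hi' : i < 4 := hi
    have : d4perm 0 i = i := by interval_cases i <;> rfl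
    rw [this]
    exact fun x => Iff.rfl
  · exact ⟨graphAut good1_D4 T18_D4a, graphAut_mem_stabUV good2_D4 T18_D4a T0_D4 t18s_D4a_pos,
      fun i hi => graphAut_mapsOnto good2_D4 T18_D4a i hi⟩
  · exact ⟨graphAut good1_D4 T18_D4b, graphAut_mem_stabUV good2_D4 T18_D4b T0_D4 t18s_D4b_pos,
      fun i hi => graphAut_mapsOnto good2_D4 T18_D4b i hi⟩
  · exact ⟨graphAut good1_D4 T18_D4c, graphAut_mem_stabUV good2_D4 T18_D4c T0_D4 t18s_D4c_pos,
      fun i hi => graphAut_mapsOnto good2_D4 T18_D4c i hi⟩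
  · exact ⟨graphAut good1_D4 T18_D4d, graphAut_mem_stabUV good2_D4 T18_D4d T0_D4 t18s_D4d_pos,
      fun i hi => graphAut_mapsOnto good2_D4 T18_D4d i hi⟩
  · exact ⟨graphAut good1_D4 T18_D4e, graphAut_mem_stabUV good2_D4 T18_D4e T0_D4 t18s_D4e_pos,
      fun i hi => graphAut_mapsOnto good2_D4 T18_D4e i hi⟩

/-- Two nodes of the diagram of type `D₄` are joined. -/
def adjD4 (x y : Fin 4) : Prop := chevD4.cartan x (chevD4.simple y) ≠ 0

instance (x y : Fin 4) : Decidable (adjD4 x y) := by unfold adjD4; infer_instance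

set_option maxRecDepth 1000000 in
set_option maxHeartbeats 0 in
set_option synthInstance.maxSize 100000 in
set_option synthInstance.maxHeartbeats 0 in
/-- The diagram of type `D₄` has six symmetries. -/
theorem nodes_D4 : ∀ a1 : Fin 4, ∀ a0 : Fin 4, adjD4 a1 a0 → a0 ≠ a1 →
    ∀ a2 : Fin 4, adjD4 a1 a2 → a2 ≠ a1 → a2 ≠ a0 →
    ∀ a3 : Fin 4, adjD4 a1 a3 → a3 ≠ a1 → a3 ≠ a0 → a3 ≠ a2 →
    ∃ k : Fin 6, a0.val = d4perm k 0 ∧ a1.val = d4perm k 1 ∧ a2.val = d4perm k 2 ∧
      a3.val = d4perm k 3 := by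
  decide +kernel

theorem d4perm_inj : ∀ k l : Fin 6, (∀ i : Fin 4, d4perm k i = d4perm l i) → k = l := by
  decide

set_option maxRecDepth 1000000 in
theorem normalData_D4_cases {ρ : ℕ → ℕ} {τ : ℕ → F ≃+* F} (h : NormalData chevD4 F ρ τ) :
    ∃ k : Fin 6, ∀ i, i < chevD4.rank → ρ i = d4perm k i := by
  have hr : chevD4.rank = 4 := rfl
  set a : ℕ → Fin 4 := fun i => if hi : i < 4 then ⟨ρ i, h.lt i hi⟩ else 0 with ha
  have hval : ∀ i (hi : i < 4), ((a i : Fin 4) : ℕ) = ρ i := by
    intro i hi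
    rw [ha]
    simp only [dif_pos hi]
  have hadj : ∀ i j, i < 4 → j < 4 → i ≠ j → chevD4.cartan i (chevD4.simple j) ≠ 0 →
      adjD4 (a i) (a j) := by
    intro i j hi hj hij hc
    unfold adjD4
    rw [hval i hi, hval j hj]
    exact fun h0 => hc ((h.adj i j hi hj hij).mpr h0)
  have hne : ∀ i j, i < 4 → j < 4 → i ≠ j → a i ≠ a j := by
    intro i j hi hj hij heq
    have := congrArg Fin.val heq
    rw [hval i hi, hval j hj] at this
    exact hij (h.inj i j hi hj this)
  obtain ⟨k, e0, e1, e2, e3⟩ := nodes_D4 (a 1) (a 0)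
    (hadj 1 0 (by omega) (by omega) (by omega) (by decide)) (hne 0 1 (by omega) (by omega) (by omega))
    (a 2) (hadj 1 2 (by omega) (by omega) (by omega) (by decide))
    (hne 2 1 (by omega) (by omega) (by omega)) (hne 2 0 (by omega) (by omega) (by omega))
    (a 3) (hadj 1 3 (by omega) (by omega) (by omega) (by decide))
    (hne 3 1 (by omega) (by omega) (by omega)) (hne 3 0 (by omega) (by omega) (by omega))
    (hne 3 2 (by omega) (by omega) (by omega))
  refine ⟨k, fun i hi => ?_⟩
  rw [hr] at hi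
  rw [← hval i hi]
  interval_cases i
  · exact e0
  · exact e1
  · exact e2
  · exact e3

section d4

variable [Fintype F]

/-- For the type `D₄`, the index is six. -/
theorem index_fixNodes_D4 :
    ((fixNodes chevD4 F).subgroupOf (stabUV chevD4 F)).index = 6 := by
  classical
  have hG := good3_D4.toGood2
  choose γ hγS hγM using fun k : Fin 6 => exists_d4aut (F := F) k.val k.isLt
  have hlt : ∀ (k : Fin 6) i, i < chevD4.rank → d4perm k i < chevD4.rank := by decide
  set Φ : Fin 6 → ↥(stabUV chevD4 F) ⧸ (fixNodes chevD4 F).subgroupOf (stabUV chevD4 F) :=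
    fun k => QuotientGroup.mk ⟨γ k, hγS k⟩ with hΦ
  have hinj : Function.Injective Φ := by
    intro k l hkl
    have h1 : (⟨γ k, hγS k⟩ : ↥(stabUV chevD4 F))⁻¹ * ⟨γ l, hγS l⟩ ∈
        (fixNodes chevD4 F).subgroupOf (stabUV chevD4 F) := QuotientGroup.eq.mp hkl
    have h2 : (γ k)⁻¹ * γ l ∈ fixNodes chevD4 F := Subgroup.mem_subgroupOf.mp h1
    apply d4perm_inj
    intro i
    have hi : i.val < chevD4.rank := i.2
    have h4 : MapsOnto (γ k * ((γ k)⁻¹ * γ l)) (chevD4.rootSubgroup F (chevD4.simple i))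
        (chevD4.rootSubgroup F (chevD4.simple (d4perm k i))) := (h2.2 i hi).trans (hγM k i hi)
    have h5 : γ k * ((γ k)⁻¹ * γ l) = γ l := by group
    rw [h5] at h4
    exact mapsOnto_unique hG T0_D4 T8_D4 hi (hlt k i hi) (hlt l i hi) h4 (hγM l i hi)
  have hsurj : Function.Surjective Φ := by
    intro q
    induction q using QuotientGroup.induction_on with
    | H s =>
      obtain ⟨ρ, c, τ, hN, hND⟩ := exists_normalData chevD4 (by simp) s.2.1 s.2.2
      obtain ⟨k, hρ⟩ := normalData_D4_cases hND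
      refine ⟨k, ?_⟩
      apply QuotientGroup.eq.mpr
      rw [Subgroup.mem_subgroupOf]
      refine ⟨mul_mem (inv_mem (hγS k)) s.2, fun i hi => ?_⟩
      have h1 := normalAut_mapsOnto hG hN hi
      rw [hρ i hi] at h1
      exact h1.trans (hγM k i hi).symm
  have h6 := Nat.card_eq_of_bijective Φ ⟨hinj, hsurj⟩
  rw [Subgroup.index_eq_card, ← h6, Nat.card_fin]

/-- For the type `D₄`, two automorphisms stabilising `U` and `V` whose commutator does not stabilise the root
subgroups of the fundamental roots. -/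
theorem exists_commutator_not_mem_D4 :
    ∃ a b : MulAut ↥(chevD4.group F), a ∈ stabUV chevD4 F ∧ b ∈ stabUV chevD4 F ∧
      a * b * a⁻¹ * b⁻¹ ∉ fixNodes chevD4 F := by
  have hG := good3_D4.toGood2
  obtain ⟨a, haS, haM⟩ := exists_d4aut (F := F) 1 (by decide)
  obtain ⟨b, hbS, hbM⟩ := exists_d4aut (F := F) 3 (by decide)
  refine ⟨a, b, haS, hbS, fun hmem => ?_⟩
  have hr0 : (0 : ℕ) < chevD4.rank := by decide
  have hr2 : (2 : ℕ) < chevD4.rank := by decide
  have hr3 : (3 : ℕ) < chevD4.rank := by decide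
  have ha0 : MapsOnto a (chevD4.rootSubgroup F (chevD4.simple 0))
      (chevD4.rootSubgroup F (chevD4.simple 2)) := haM 0 hr0
  have ha2 : MapsOnto a (chevD4.rootSubgroup F (chevD4.simple 2))
      (chevD4.rootSubgroup F (chevD4.simple 3)) := haM 2 hr2
  have hb0 : MapsOnto b (chevD4.rootSubgroup F (chevD4.simple 0))
      (chevD4.rootSubgroup F (chevD4.simple 2)) := hbM 0 hr0
  have hb2 : MapsOnto b (chevD4.rootSubgroup F (chevD4.simple 2))
      (chevD4.rootSubgroup F (chevD4.simple 0)) := hbM 2 hr2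
  have h1 : MapsOnto (a * b * a⁻¹ * b⁻¹) (chevD4.rootSubgroup F (chevD4.simple 0))
      (chevD4.rootSubgroup F (chevD4.simple 3)) :=
    ((hb2.symm.trans ha0.symm).trans hb0).trans ha2
  have h2 := mapsOnto_unique hG T0_D4 T8_D4 hr0 hr3 hr0 h1 (hmem.2 0 hr0)
  exact absurd h2 (by decide)

end d4

end Cfsg.Agent.Helper7.Chev
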