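import Mathlib
import Cfsg.Agent.Helper7.ChevOutJ

set_option autoImplicit false
set_option linter.unusedSectionVars false
set_option linter.unusedVariables false
set_option linter.style.haveILetI false

/-!
The structure of the outer automorphism group of a Chevalley group, part K: the statement.
-/

namespace Cfsg.Agent.Helper7.Chev

open Cfsg Cfsg.Lie Matrix

open scoped commutatorElement

variable {F : Type*} [Field F]

/-- The statement of S2159. -/
theorem chev_S2159 [Finite F] (D : ChevalleyDatum)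
    (hD : D ∈ [chevG2, chevB2, chevD4, chevF4, chevE6, chevE7, chevE8])
    (Dbar Fbar : Subgroup (Cfsg.Out ↥(D.group F)))
    (hDbar : Dbar = (Subgroup.closure {φ : MulAut ↥(D.group F) | D.IsDiagonalAut φ}).map
      (QuotientGroup.mk' (Cfsg.Inn ↥(D.group F))))
    (hFbar : Fbar = (Subgroup.closure {φ : MulAut ↥(D.group F) | D.IsFieldAut φ}).map
      (QuotientGroup.mk' (Cfsg.Inn ↥(D.group F)))) :
    Dbar.Normal ∧ IsMulCommutative ↥Dbar ∧ IsCyclic ↥Fbar ∧ (Dbar ⊔ Fbar).Normal ∧
      ((Dbar ⊔ Fbar).index = 1 ∨ (Dbar ⊔ Fbar).index = 2 ∨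
        ((Dbar ⊔ Fbar).index = 6 ∧ ¬ commutator (Cfsg.Out ↥(D.group F)) ≤ Dbar ⊔ Fbar)) := by
  haveI : Fintype F := Fintype.ofFinite F
  have hDbar' : Dbar = (diagCl D F).map (QuotientGroup.mk' (Cfsg.Inn ↥(D.group F))) := hDbar
  have hFbar' : Fbar = (fieldCl D F).map (QuotientGroup.mk' (Cfsg.Inn ↥(D.group F))) := hFbar
  have hsup : Dbar ⊔ Fbar = (fixNodes D F).map (QuotientGroup.mk' (Cfsg.Inn ↥(D.group F))) := by
    rw [hDbar', hFbar', ← Subgroup.map_sup, ← fixNodes_eq_sup D hD]
  refine ⟨?_, ?_, ?_, ?_, ?_⟩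
  · rw [hDbar']
    exact map_diagCl_normal D hD
  · rw [hDbar']
    exact isMulCommutative_map_diagCl D hD _
  · rw [hFbar']
    exact isCyclic_map_fieldCl D _
  · rw [hsup]
    exact map_fixNodes_normal D hD
  · rw [hsup, index_map_fixNodes D hD]
    by_cases h4 : D = chevD4
    · subst h4
      right; right
      refine ⟨index_fixNodes_D4, fun hle => ?_⟩
      obtain ⟨a, b, ha, hb, hab⟩ := exists_commutator_not_mem_D4 (F := F)
      apply hab
      apply mem_fixNodes_of_mk_mem chevD4 hD
        (mul_mem (mul_mem (mul_mem ha hb) (inv_mem ha)) (inv_mem hb))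
      apply hle
      have h1 : QuotientGroup.mk' (Cfsg.Inn ↥(chevD4.group F)) (a * b * a⁻¹ * b⁻¹) =
          ⁅QuotientGroup.mk' (Cfsg.Inn ↥(chevD4.group F)) a,
            QuotientGroup.mk' (Cfsg.Inn ↥(chevD4.group F)) b⁆ := by
        rw [commutatorElement_def, map_mul, map_mul, map_mul, map_inv, map_inv]
      rw [h1, commutator_def]
      exact Subgroup.commutator_mem_commutator (Subgroup.mem_top _) (Subgroup.mem_top _)
    · have hD' : D ∈ [chevG2, chevB2, chevF4, chevE6, chevE7, chevE8] := by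
        simp only [List.mem_cons, List.not_mem_nil, or_false] at hD ⊢
        tauto
      rcases index_fixNodes_of_ne_D4 (F := F) D hD' with h | h
      · left; exact h
      · right; left; exact h

end Cfsg.Agent.Helper7.Chev
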