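import Mathlib
import Cfsg.Agent.Helper7.ChevSE6

set_option autoImplicit false
set_option maxRecDepth 1000000
set_option maxHeartbeats 4000000

/-! Step 0 of the chain of parabolic subgroups of the Weyl group of type E6. -/

namespace Cfsg.Agent.Helper7.Chev

open Cfsg Cfsg.Lie

def sS_E6_0 : ℕ := 0xffffffffff0000
def sU_E6_0 : List (List ℕ) := [[], [0], [2, 0], [3, 2, 0], [1, 3, 2, 0], [4, 3, 2, 0], [4, 1, 3, 2, 0], [5, 4, 3, 2, 0], [3, 4, 1, 3, 2, 0], [5, 4, 1, 3, 2, 0], [2, 3, 4, 1, 3, 2, 0], [5, 3, 4, 1, 3, 2, 0], [0, 2, 3, 4, 1, 3, 2, 0], [5, 2, 3, 4, 1, 3, 2, 0], [4, 5, 3, 4, 1, 3, 2, 0], [5, 0, 2, 3, 4, 1, 3, 2, 0], [4, 5, 2, 3, 4, 1, 3, 2, 0], [4, 5, 0, 2, 3, 4, 1, 3, 2, 0], [3, 4, 5, 2, 3, 4, 1, 3, 2, 0], [3, 4, 5, 0, 2, 3, 4, 1, 3, 2, 0], [1, 3, 4, 5, 2, 3, 4, 1, 3, 2, 0], [1, 3, 4, 5, 0, 2, 3, 4, 1, 3, 2, 0], [2,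 3, 4, 5, 0, 2, 3, 4, 1, 3, 2, 0], [2, 1, 3, 4, 5, 0, 2, 3, 4, 1, 3, 2, 0], [3, 2, 1, 3, 4, 5, 0, 2, 3, 4, 1, 3, 2, 0], [4, 3, 2, 1, 3, 4, 5, 0, 2, 3, 4, 1, 3, 2, 0], [5, 4, 3, 2, 1, 3, 4, 5, 0, 2, 3, 4, 1, 3, 2, 0]]
def sN_E6_0 : List (List ℕ) := [[2, 3, 5, 7, 9, 11], [0, 3, 4, 7, 9, 11], [5, 3, 2, 6, 9, 11], [5, 8, 7, 4, 10, 11], [5, 6, 7, 3, 12, 11], [5, 12, 7, 9, 6, 14], [5, 10, 7, 16, 8, 18], [5, 18, 7, 9, 11, 10], [5, 9, 20, 12, 3, 22], [5, 14, 7, 22, 11, 12], [24, 9, 16, 7, 3, 26], [5, 9, 26, 18, 28, 16], [20, 9, 5, 7, 3, 30], [30, 9, 22, 7, 32, 20], [5, 9, 32, 11, 22, 3], [26, 9, 5, 7, 34, 24], [34, 9, 28, 36, 26, 3], [32, 9, 5, 38, 30, 3], [38, 40, 11, 32, 7, 3], [36, 42, 44, 34, 7, 3], [42, 36, 11, 9, 7, 3], [40, 38, 46, 9, 7, 3], [11, 46, 38, 5, 7, 3], [11, 44, 42, 48, 7, 3], [11, 5, 9, 46, 50, 3], [11, 5, 9, 7,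 48, 52], [11, 5, 9, 7, 3, 50]]
def sC_E6_0 : List ℕ := [1, 1, 1, 1, 2, 2, 2, 2, 3, 2, 2, 2, 2, 1, 1, 1, 1]
def sK_E6_0 : List ℕ := [39741989465656, 39741990448655, 39742057491982, 39754925616909, 39789285353226, 41949653905420, 41984013641737, 40850142277899, 45278270334215, 40884502014216, 49676249801988, 44178758706694, 66168923235588, 48576738174467, 43079263855621, 65069411608067, 47477243323394, 63969916756994, 46381976396801, 62874649830401, 46347616855040, 62840290550784, 61788022842369, 61757958595584, 61753713894400, 61753697117696, 61753697117440]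

theorem sCert_E6_0 : StepCert chevE6 wR_E6 sS_E6_0 sJ_E6_0 sJ_E6_1 sU_E6_0 sN_E6_0 sK_E6_0 := by decide +kernel

theorem sCount_E6_0 : sU_E6_0.map (nMinusF chevE6 wR_E6) = (List.range 17).flatMap (fun k => List.replicate (sC_E6_0.getD k 0) k) := by decide +kernel

end Cfsg.Agent.Helper7.Chev
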