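import Mathlib
import Cfsg.Agent.Helper7.ChevSE6

set_option autoImplicit false
set_option maxRecDepth 1000000
set_option maxHeartbeats 4000000

/-! Step 1 of the chain of parabolic subgroups of the Weyl group of type E6. -/

namespace Cfsg.Agent.Helper7.Chev

open Cfsg Cfsg.Lie

def sS_E6_1 : ℕ := 0x2ddda5bbb40000
def sU_E6_1 : List (List ℕ) := [[], [5], [4, 5], [3, 4, 5], [1, 3, 4, 5], [2, 3, 4, 5], [2, 1, 3, 4, 5], [3, 2, 1, 3, 4, 5], [4, 3, 2, 1, 3, 4, 5], [5, 4, 3, 2, 1, 3, 4, 5]]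
def sN_E6_1 : List (List ℕ) := [[3, 5, 7, 9, 2], [3, 5, 7, 4, 0], [3, 5, 6, 2, 9], [8, 10, 4, 7, 9], [6, 12, 3, 7, 9], [12, 6, 5, 7, 9], [10, 8, 14, 7, 9], [5, 3, 12, 16, 9], [5, 3, 7, 14, 18], [5, 3, 7, 9, 16]]
def sC_E6_1 : List ℕ := [1, 1, 1, 1, 2, 1, 1, 1, 1]
def sK_E6_1 : List ℕ := [39741989465656, 38646772805176, 36439176392248, 33140591243064, 24344498677560, 28742544470585, 21045963598649, 18846990608954, 17756052138555, 17751757171260]

theorem sCert_E6_1 : StepCert chevE6 wR_E6 sS_E6_1 sJ_E6_1 sJ_E6_2 sU_E6_1 sN_E6_1 sK_E6_1 := by decide +kernel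

theorem sCount_E6_1 : sU_E6_1.map (nMinusF chevE6 wR_E6) = (List.range 9).flatMap (fun k => List.replicate (sC_E6_1.getD k 0) k) := by decide +kernel

end Cfsg.Agent.Helper7.Chev
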