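import Mathlib
import Cfsg.Agent.Helper7.ChevSE6

set_option autoImplicit false
set_option maxRecDepth 1000000
set_option maxHeartbeats 4000000

/-! Step 2 of the chain of parabolic subgroups of the Weyl group of type E6. -/

namespace Cfsg.Agent.Helper7.Chev

open Cfsg Cfsg.Lie

def sS_E6_2 : ℕ := 0x1da5b8000000
def sU_E6_2 : List (List ℕ) := [[], [1], [3, 1], [2, 3, 1], [4, 3, 1], [4, 2, 3, 1], [3, 4, 2, 3, 1], [1, 3, 4, 2, 3, 1]]
def sN_E6_2 : List (List ℕ) := [[2, 5, 7, 9], [0, 5, 4, 9], [7, 6, 2, 8], [7, 4, 5, 10], [7, 10, 9, 4], [7, 8, 12, 6], [14, 9, 10, 5], [12, 9, 7, 5]]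
def sC_E6_2 : List ℕ := [1, 1, 1, 2, 1, 1, 1]
def sK_E6_2 : List ℕ := [39741989465656, 39742123678008, 39754991867960, 39772171474233, 41949720221496, 41966899827769, 45261156323898, 54057115128381]

theorem sCert_E6_2 : StepCert chevE6 wR_E6 sS_E6_2 sJ_E6_2 sJ_E6_3 sU_E6_2 sN_E6_2 sK_E6_2 := by decide +kernel

theorem sCount_E6_2 : sU_E6_2.map (nMinusF chevE6 wR_E6) = (List.range 7).flatMap (fun k => List.replicate (sC_E6_2.getD k 0) k) := by decide +kernel

end Cfsg.Agent.Helper7.Chev
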