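import Mathlib
import Cfsg.Agent.Helper7.ChevSE6

set_option autoImplicit false
set_option maxRecDepth 1000000
set_option maxHeartbeats 4000000

/-! Step 3 of the chain of parabolic subgroups of the Weyl group of type E6. -/

namespace Cfsg.Agent.Helper7.Chev

open Cfsg Cfsg.Lie

def sS_E6_3 : ℕ := 0x1a580000000
def sU_E6_3 : List (List ℕ) := [[], [2], [3, 2], [4, 3, 2]]
def sN_E6_3 : List (List ℕ) := [[2, 7, 9], [0, 4, 9], [7, 2, 6], [7, 9, 4]]
def sC_E6_3 : List ℕ := [1, 1, 1, 1]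
def sK_E6_3 : List ℕ := [39741989465656, 39742055722553, 39754923781946, 41949652004923]

theorem sCert_E6_3 : StepCert chevE6 wR_E6 sS_E6_3 sJ_E6_3 sJ_E6_4 sU_E6_3 sN_E6_3 sK_E6_3 := by decide +kernel

theorem sCount_E6_3 : sU_E6_3.map (nMinusF chevE6 wR_E6) = (List.range 4).flatMap (fun k => List.replicate (sC_E6_3.getD k 0) k) := by decide +kernel

end Cfsg.Agent.Helper7.Chev
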