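import Mathlib
import Cfsg.Agent.Helper7.ChevSE6

set_option autoImplicit false
set_option maxRecDepth 1000000
set_option maxHeartbeats 4000000

/-! Step 4 of the chain of parabolic subgroups of the Weyl group of type E6. -/

namespace Cfsg.Agent.Helper7.Chev

open Cfsg Cfsg.Lie

def sS_E6_4 : ℕ := 0x2400000000
def sU_E6_4 : List (List ℕ) := [[], [3], [4, 3]]
def sN_E6_4 : List (List ℕ) := [[2, 9], [0, 4], [9, 2]]
def sC_E6_4 : List ℕ := [1, 1, 1]
def sK_E6_4 : List ℕ := [39741989465656, 39754756992824, 41949468569656]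

theorem sCert_E6_4 : StepCert chevE6 wR_E6 sS_E6_4 sJ_E6_4 sJ_E6_5 sU_E6_4 sN_E6_4 sK_E6_4 := by decide +kernel

theorem sCount_E6_4 : sU_E6_4.map (nMinusF chevE6 wR_E6) = (List.range 3).flatMap (fun k => List.replicate (sC_E6_4.getD k 0) k) := by decide +kernel

end Cfsg.Agent.Helper7.Chev
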