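import Mathlib
import Cfsg.Agent.Helper7.ChevSE6

set_option autoImplicit false
set_option maxRecDepth 1000000
set_option maxHeartbeats 4000000

/-! Step 5 of the chain of parabolic subgroups of the Weyl group of type E6. -/

namespace Cfsg.Agent.Helper7.Chev

open Cfsg Cfsg.Lie

def sS_E6_5 : ℕ := 0x0
def sU_E6_5 : List (List ℕ) := [[], [4]]
def sN_E6_5 : List (List ℕ) := [[2], [0]]
def sC_E6_5 : List ℕ := [1, 1]
def sK_E6_5 : List ℕ := [39741989465656, 41928144596536]

theorem sCert_E6_5 : StepCert chevE6 wR_E6 sS_E6_5 sJ_E6_5 sJ_E6_6 sU_E6_5 sN_E6_5 sK_E6_5 := by decide +kernel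

theorem sCount_E6_5 : sU_E6_5.map (nMinusF chevE6 wR_E6) = (List.range 2).flatMap (fun k => List.replicate (sC_E6_5.getD k 0) k) := by decide +kernel

end Cfsg.Agent.Helper7.Chev
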