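import Mathlib
import Cfsg.Agent.Helper7.ChevSE7

set_option autoImplicit false
set_option maxRecDepth 1000000
set_option maxHeartbeats 4000000

/-! Step 1 of the chain of parabolic subgroups of the Weyl group of type E7. -/

namespace Cfsg.Agent.Helper7.Chev

open Cfsg Cfsg.Lie

def sS_E7_1 : ℕ := 0x5bbdeed2ddef76800000000
def sU_E7_1 : List (List ℕ) := [[], [0], [2, 0], [3, 2, 0], [1, 3, 2, 0], [4, 3, 2, 0], [4, 1, 3, 2, 0], [5, 4, 3, 2, 0], [3, 4, 1, 3, 2, 0], [5, 4, 1, 3, 2, 0], [2, 3, 4, 1, 3, 2, 0], [5, 3, 4, 1, 3, 2, 0], [0, 2, 3, 4, 1, 3, 2, 0], [5, 2, 3, 4, 1, 3, 2, 0], [4, 5, 3, 4, 1, 3, 2, 0], [5, 0, 2, 3, 4, 1, 3, 2, 0], [4, 5, 2, 3, 4, 1, 3, 2, 0], [4, 5, 0, 2, 3, 4, 1, 3, 2, 0], [3, 4, 5, 2, 3, 4, 1, 3, 2, 0], [3, 4, 5, 0, 2, 3, 4, 1, 3, 2, 0], [1, 3, 4, 5, 2, 3, 4, 1, 3, 2, 0], [1, 3, 4, 5, 0, 2, 3, 4, 1, 3, 2, 0], [2, 3,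 4, 5, 0, 2, 3, 4, 1, 3, 2, 0], [2, 1, 3, 4, 5, 0, 2, 3, 4, 1, 3, 2, 0], [3, 2, 1, 3, 4, 5, 0, 2, 3, 4, 1, 3, 2, 0], [4, 3, 2, 1, 3, 4, 5, 0, 2, 3, 4, 1, 3, 2, 0], [5, 4, 3, 2, 1, 3, 4, 5, 0, 2, 3, 4, 1, 3, 2, 0]]
def sN_E7_1 : List (List ℕ) := [[2, 3, 5, 7, 9, 11], [0, 3, 4, 7, 9, 11], [5, 3, 2, 6, 9, 11], [5, 8, 7, 4, 10, 11], [5, 6, 7, 3, 12, 11], [5, 12, 7, 9, 6, 14], [5, 10, 7, 16, 8, 18], [5, 18, 7, 9, 11, 10], [5, 9, 20, 12, 3, 22], [5, 14, 7, 22, 11, 12], [24, 9, 16, 7, 3, 26], [5, 9, 26, 18, 28, 16], [20, 9, 5, 7, 3, 30], [30, 9, 22, 7, 32, 20], [5, 9, 32, 11, 22, 3], [26, 9, 5, 7, 34, 24], [34, 9, 28, 36, 26, 3], [32, 9, 5, 38, 30, 3], [38, 40, 11, 32, 7, 3], [36, 42, 44, 34, 7, 3], [42, 36, 11, 9, 7, 3], [40, 38, 46, 9, 7, 3], [11, 46, 38, 5, 7, 3], [11, 44, 42, 48, 7, 3], [11, 5, 9, 46, 50, 3], [11, 5, 9, 7, 48, 52], [11, 5,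 9, 7, 3, 50]]
def sC_E7_1 : List ℕ := [1, 1, 1, 1, 2, 2, 2, 2, 3, 2, 2, 2, 2, 1, 1, 1, 1]
def sK_E7_1 : List ℕ := [17803576907222621, 17803576908598816, 17803576992419359, 17803594155511582, 17803637105181978, 17806888395427869, 17806931345098265, 18368738837221660, 17811325113418262, 18368781786892056, 17816822587736592, 18373175555212053, 17839912330543632, 18378673029530383, 19216500990492691, 18401762772337423, 19221998464811021, 19245088207618061, 20346803087949834, 20369892830756874, 23161509905645574, 23184599648780294, 21776185382223882, 24309421518569478, 25153842220777478, 25716792157422342, 25998267134132742]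

theorem sCert_E7_1 : StepCert chevE7 wR_E7 sS_E7_1 sJ_E7_1 sJ_E7_2 sU_E7_1 sN_E7_1 sK_E7_1 := by decide +kernel

theorem sCount_E7_1 : sU_E7_1.map (nMinusF chevE7 wR_E7) = (List.range 17).flatMap (fun k => List.replicate (sC_E7_1.getD k 0) k) := by decide +kernel

end Cfsg.Agent.Helper7.Chev
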