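import Mathlib
import Cfsg.Agent.Helper7.ChevSE7

set_option autoImplicit false
set_option maxRecDepth 1000000
set_option maxHeartbeats 4000000

/-! Step 2 of the chain of parabolic subgroups of the Weyl group of type E7. -/

namespace Cfsg.Agent.Helper7.Chev

open Cfsg Cfsg.Lie

def sS_E7_2 : ℕ := 0x99ce64099ce64000000000
def sU_E7_2 : List (List ℕ) := [[], [5], [4, 5], [3, 4, 5], [1, 3, 4, 5], [2, 3, 4, 5], [2, 1, 3, 4, 5], [3, 2, 1, 3, 4, 5], [4, 3, 2, 1, 3, 4, 5], [5, 4, 3, 2, 1, 3, 4, 5]]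
def sN_E7_2 : List (List ℕ) := [[3, 5, 7, 9, 2], [3, 5, 7, 4, 0], [3, 5, 6, 2, 9], [8, 10, 4, 7, 9], [6, 12, 3, 7, 9], [12, 6, 5, 7, 9], [10, 8, 14, 7, 9], [5, 3, 12, 16, 9], [5, 3, 7, 14, 18], [5, 3, 7, 9, 16]]
def sC_E7_2 : List ℕ := [1, 1, 1, 1, 2, 1, 1, 1, 1]
def sK_E7_2 : List ℕ := [17803576907222621, 18363232620727901, 19204346147851869, 20325847941140317, 23129602592556381, 21727725266228062, 24251104452627038, 25092230914918751, 25652994713209184, 25934465394952545]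

theorem sCert_E7_2 : StepCert chevE7 wR_E7 sS_E7_2 sJ_E7_2 sJ_E7_3 sU_E7_2 sN_E7_2 sK_E7_2 := by decide +kernel

theorem sCount_E7_2 : sU_E7_2.map (nMinusF chevE7 wR_E7) = (List.range 9).flatMap (fun k => List.replicate (sC_E7_2.getD k 0) k) := by decide +kernel

end Cfsg.Agent.Helper7.Chev
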