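import Mathlib
import Cfsg.Agent.Helper7.ChevSE7

set_option autoImplicit false
set_option maxRecDepth 1000000
set_option maxHeartbeats 4000000

/-! Step 3 of the chain of parabolic subgroups of the Weyl group of type E7. -/

namespace Cfsg.Agent.Helper7.Chev

open Cfsg Cfsg.Lie

def sS_E7_3 : ℕ := 0xe64099c000000000000
def sU_E7_3 : List (List ℕ) := [[], [1], [3, 1], [2, 3, 1], [4, 3, 1], [4, 2, 3, 1], [3, 4, 2, 3, 1], [1, 3, 4, 2, 3, 1]]
def sN_E7_3 : List (List ℕ) := [[2, 5, 7, 9], [0, 5, 4, 9], [7, 6, 2, 8], [7, 4, 5, 10], [7, 10, 9, 4], [7, 8, 12, 6], [14, 9, 10, 5], [12, 9, 7, 5]]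
def sC_E7_3 : List ℕ := [1, 1, 1, 2, 1, 1, 1]
def sK_E7_3 : List ℕ := [17803576907222621, 17803577074986845, 17803594238144093, 17803615712651870, 17806888478125405, 17806909952633182, 17811303720691295, 17822298669196899]

theorem sCert_E7_3 : StepCert chevE7 wR_E7 sS_E7_3 sJ_E7_3 sJ_E7_4 sU_E7_3 sN_E7_3 sK_E7_3 := by decide +kernel

theorem sCount_E7_3 : sU_E7_3.map (nMinusF chevE7 wR_E7) = (List.range 7).flatMap (fun k => List.replicate (sC_E7_3.getD k 0) k) := by decide +kernel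

end Cfsg.Agent.Helper7.Chev
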