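import Mathlib
import Cfsg.Agent.Helper7.ChevSE7

set_option autoImplicit false
set_option maxRecDepth 1000000
set_option maxHeartbeats 4000000

/-! Step 4 of the chain of parabolic subgroups of the Weyl group of type E7. -/

namespace Cfsg.Agent.Helper7.Chev

open Cfsg Cfsg.Lie

def sS_E7_4 : ℕ := 0x640980000000000000
def sU_E7_4 : List (List ℕ) := [[], [2], [3, 2], [4, 3, 2]]
def sN_E7_4 : List (List ℕ) := [[2, 7, 9], [0, 4, 9], [7, 2, 6], [7, 9, 4]]
def sC_E7_4 : List ℕ := [1, 1, 1, 1]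
def sK_E7_4 : List ℕ := [17803576907222621, 17803576989732446, 17803594152759135, 17806888392609888]

theorem sCert_E7_4 : StepCert chevE7 wR_E7 sS_E7_4 sJ_E7_4 sJ_E7_5 sU_E7_4 sN_E7_4 sK_E7_4 := by decide +kernel

theorem sCount_E7_4 : sU_E7_4.map (nMinusF chevE7 wR_E7) = (List.range 4).flatMap (fun k => List.replicate (sC_E7_4.getD k 0) k) := by decide +kernel

end Cfsg.Agent.Helper7.Chev
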