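import Mathlib
import Cfsg.Agent.Helper7.ChevSE7

set_option autoImplicit false
set_option maxRecDepth 1000000
set_option maxHeartbeats 4000000

/-! Step 5 of the chain of parabolic subgroups of the Weyl group of type E7. -/

namespace Cfsg.Agent.Helper7.Chev

open Cfsg Cfsg.Lie

def sS_E7_5 : ℕ := 0x40800000000000000
def sU_E7_5 : List (List ℕ) := [[], [3], [4, 3]]
def sN_E7_5 : List (List ℕ) := [[2, 9], [0, 4], [9, 2]]
def sC_E7_5 : List ℕ := [1, 1, 1]
def sK_E7_5 : List ℕ := [17803576907222621, 17803593869053789, 17806888092258397]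

theorem sCert_E7_5 : StepCert chevE7 wR_E7 sS_E7_5 sJ_E7_5 sJ_E7_6 sU_E7_5 sN_E7_5 sK_E7_5 := by decide +kernel

theorem sCount_E7_5 : sU_E7_5.map (nMinusF chevE7 wR_E7) = (List.range 3).flatMap (fun k => List.replicate (sC_E7_5.getD k 0) k) := by decide +kernel

end Cfsg.Agent.Helper7.Chev
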