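import Mathlib
import Cfsg.Agent.Helper7.ChevSE7

set_option autoImplicit false
set_option maxRecDepth 1000000
set_option maxHeartbeats 4000000

/-! Step 6 of the chain of parabolic subgroups of the Weyl group of type E7. -/

namespace Cfsg.Agent.Helper7.Chev

open Cfsg Cfsg.Lie

def sS_E7_6 : ℕ := 0x0
def sU_E7_6 : List (List ℕ) := [[], [4]]
def sN_E7_6 : List (List ℕ) := [[2], [0]]
def sC_E7_6 : List ℕ := [1, 1]
def sK_E7_6 : List ℕ := [17803576907222621, 17806845394112093]

theorem sCert_E7_6 : StepCert chevE7 wR_E7 sS_E7_6 sJ_E7_6 sJ_E7_7 sU_E7_6 sN_E7_6 sK_E7_6 := by decide +kernel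

theorem sCount_E7_6 : sU_E7_6.map (nMinusF chevE7 wR_E7) = (List.range 2).flatMap (fun k => List.replicate (sC_E7_6.getD k 0) k) := by decide +kernel

end Cfsg.Agent.Helper7.Chev
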