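import Mathlib
import Cfsg.Agent.Helper7.ChevSE8

set_option autoImplicit false
set_option maxRecDepth 1000000
set_option maxHeartbeats 4000000

/-! Step 2 of the chain of parabolic subgroups of the Weyl group of type E8. -/

namespace Cfsg.Agent.Helper7.Chev

open Cfsg Cfsg.Lie

def sS_E8_2 : ℕ := 0x1339e79cc81339e79cc800000000000000000000
def sU_E8_2 : List (List ℕ) := [[], [0], [2, 0], [3, 2, 0], [1, 3, 2, 0], [4, 3, 2, 0], [4, 1, 3, 2, 0], [5, 4, 3, 2, 0], [3, 4, 1, 3, 2, 0], [5, 4, 1, 3, 2, 0], [2, 3, 4, 1, 3, 2, 0], [5, 3, 4, 1, 3, 2, 0], [0, 2, 3, 4, 1, 3, 2, 0], [5, 2, 3, 4, 1, 3, 2, 0], [4, 5, 3, 4, 1, 3, 2, 0], [5, 0, 2, 3, 4, 1, 3, 2, 0], [4, 5, 2, 3, 4, 1, 3, 2, 0], [4, 5, 0, 2, 3, 4, 1, 3, 2, 0], [3, 4, 5, 2, 3, 4, 1, 3, 2, 0], [3, 4, 5, 0, 2, 3, 4, 1, 3, 2, 0], [1, 3, 4, 5, 2, 3, 4, 1, 3, 2, 0], [1, 3, 4, 5, 0, 2, 3, 4, 1, 3, 2, 0],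 [2, 3, 4, 5, 0, 2, 3, 4, 1, 3, 2, 0], [2, 1, 3, 4, 5, 0, 2, 3, 4, 1, 3, 2, 0], [3, 2, 1, 3, 4, 5, 0, 2, 3, 4, 1, 3, 2, 0], [4, 3, 2, 1, 3, 4, 5, 0, 2, 3, 4, 1, 3, 2, 0], [5, 4, 3, 2, 1, 3, 4, 5, 0, 2, 3, 4, 1, 3, 2, 0]]
def sN_E8_2 : List (List ℕ) := [[2, 3, 5, 7, 9, 11], [0, 3, 4, 7, 9, 11], [5, 3, 2, 6, 9, 11], [5, 8, 7, 4, 10, 11], [5, 6, 7, 3, 12, 11], [5, 12, 7, 9, 6, 14], [5, 10, 7, 16, 8, 18], [5, 18, 7, 9, 11, 10], [5, 9, 20, 12, 3, 22], [5, 14, 7, 22, 11, 12], [24, 9, 16, 7, 3, 26], [5, 9, 26, 18, 28, 16], [20, 9, 5, 7, 3, 30], [30, 9, 22, 7, 32, 20], [5, 9, 32, 11, 22, 3], [26, 9, 5, 7, 34, 24], [34, 9, 28, 36, 26, 3], [32, 9, 5, 38, 30, 3], [38, 40, 11, 32, 7, 3], [36, 42, 44, 34, 7, 3], [42, 36, 11, 9, 7, 3], [40, 38, 46, 9, 7, 3], [11, 46, 38, 5, 7, 3], [11, 44, 42, 48, 7, 3], [11, 5, 9, 46, 50, 3], [11, 5, 9, 7, 48, 52], [11, 5, 9,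 7, 3, 50]]
def sC_E8_2 : List ℕ := [1, 1, 1, 1, 2, 2, 2, 2, 3, 2, 2, 2, 2, 1, 1, 1, 1]
def sK_E8_2 : List ℕ := [8681105540019359138, 8681105540021194061, 8681105540121791820, 8681105561579851339, 8681105613119455814, 8681109955331395402, 8681110006870999877, 8681953280749899849, 8681115500150947393, 8681953332289504324, 8681122097120116279, 8681958825569451840, 8681152883443858999, 8681965422538620726, 8683083625981442877, 8681996208862363446, 8683090222950611763, 8683121009274354483, 8684496502533684013, 8684527288857426733, 8687874150714932003, 8687904937039067939, 8686215060680506157, 8689311238180469539, 8690437133876165411, 8691281558789521187, 8691844508742942243]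

theorem sCert_E8_2 : StepCert chevE8 wR_E8 sS_E8_2 sJ_E8_2 sJ_E8_3 sU_E8_2 sN_E8_2 sK_E8_2 := by decide +kernel

theorem sCount_E8_2 : sU_E8_2.map (nMinusF chevE8 wR_E8) = (List.range 17).flatMap (fun k => List.replicate (sC_E8_2.getD k 0) k) := by decide +kernel

end Cfsg.Agent.Helper7.Chev
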