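import Mathlib
import Cfsg.Agent.Helper7.ChevSE8

set_option autoImplicit false
set_option maxRecDepth 1000000
set_option maxHeartbeats 4000000

/-! Step 3 of the chain of parabolic subgroups of the Weyl group of type E8. -/

namespace Cfsg.Agent.Helper7.Chev

open Cfsg Cfsg.Lie

def sS_E8_3 : ℕ := 0x118e38c400231c7188000000000000000000000
def sU_E8_3 : List (List ℕ) := [[], [5], [4, 5], [3, 4, 5], [1, 3, 4, 5], [2, 3, 4, 5], [2, 1, 3, 4, 5], [3, 2, 1, 3, 4, 5], [4, 3, 2, 1, 3, 4, 5], [5, 4, 3, 2, 1, 3, 4, 5]]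
def sN_E8_3 : List (List ℕ) := [[3, 5, 7, 9, 2], [3, 5, 7, 4, 0], [3, 5, 6, 2, 9], [8, 10, 4, 7, 9], [6, 12, 3, 7, 9], [12, 6, 5, 7, 9], [10, 8, 14, 7, 9], [5, 3, 12, 16, 9], [5, 3, 7, 14, 18], [5, 3, 7, 9, 16]]
def sC_E8_3 : List ℕ := [1, 1, 1, 1, 2, 1, 1, 1, 1]
def sK_E8_3 : List ℕ := [8681105540019359138, 8681942272663063970, 8683063757360303522, 8684465634601897634, 8687830140183610018, 8686147887392002979, 8689232017508698275, 8690353519452850084, 8691194663011190693, 8691757608669644710]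

theorem sCert_E8_3 : StepCert chevE8 wR_E8 sS_E8_3 sJ_E8_3 sJ_E8_4 sU_E8_3 sN_E8_3 sK_E8_3 := by decide +kernel

theorem sCount_E8_3 : sU_E8_3.map (nMinusF chevE8 wR_E8) = (List.range 9).flatMap (fun k => List.replicate (sC_E8_3.getD k 0) k) := by decide +kernel

end Cfsg.Agent.Helper7.Chev
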