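import Mathlib
import Cfsg.Agent.Helper7.ChevSE8

set_option autoImplicit false
set_option maxRecDepth 1000000
set_option maxHeartbeats 4000000

/-! Step 4 of the chain of parabolic subgroups of the Weyl group of type E8. -/

namespace Cfsg.Agent.Helper7.Chev

open Cfsg Cfsg.Lie

def sS_E8_4 : ℕ := 0x38c400231c0000000000000000000000000
def sU_E8_4 : List (List ℕ) := [[], [1], [3, 1], [2, 3, 1], [4, 3, 1], [4, 2, 3, 1], [3, 4, 2, 3, 1], [1, 3, 4, 2, 3, 1]]
def sN_E8_4 : List (List ℕ) := [[2, 5, 7, 9], [0, 5, 4, 9], [7, 6, 2, 8], [7, 4, 5, 10], [7, 10, 9, 4], [7, 8, 12, 6], [14, 9, 10, 5], [12, 9, 7, 5]]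
def sC_E8_4 : List ℕ := [1, 1, 1, 2, 1, 1, 1]
def sK_E8_4 : List ℕ := [8681105540019359138, 8681105540220674722, 8681105561678799266, 8681105587448208547, 8681109955430408354, 8681109981199817635, 8681115474479437732, 8681128668417644457]

theorem sCert_E8_4 : StepCert chevE8 wR_E8 sS_E8_4 sJ_E8_4 sJ_E8_5 sU_E8_4 sN_E8_4 sK_E8_4 := by decide +kernel

theorem sCount_E8_4 : sU_E8_4.map (nMinusF chevE8 wR_E8) = (List.range 7).flatMap (fun k => List.replicate (sC_E8_4.getD k 0) k) := by decide +kernel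

end Cfsg.Agent.Helper7.Chev
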