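import Mathlib
import Cfsg.Agent.Helper7.ChevSE8

set_option autoImplicit false
set_option maxRecDepth 1000000
set_option maxHeartbeats 4000000

/-! Step 5 of the chain of parabolic subgroups of the Weyl group of type E8. -/

namespace Cfsg.Agent.Helper7.Chev

open Cfsg Cfsg.Lie

def sS_E8_5 : ℕ := 0xc40023000000000000000000000000000
def sU_E8_5 : List (List ℕ) := [[], [2], [3, 2], [4, 3, 2]]
def sN_E8_5 : List (List ℕ) := [[2, 7, 9], [0, 4, 9], [7, 2, 6], [7, 9, 4]]
def sC_E8_5 : List ℕ := [1, 1, 1, 1]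
def sK_E8_5 : List ℕ := [8681105540019359138, 8681105540117990819, 8681105561575984804, 8681109955327463333]

theorem sCert_E8_5 : StepCert chevE8 wR_E8 sS_E8_5 sJ_E8_5 sJ_E8_6 sU_E8_5 sN_E8_5 sK_E8_5 := by decide +kernel

theorem sCount_E8_5 : sU_E8_5.map (nMinusF chevE8 wR_E8) = (List.range 4).flatMap (fun k => List.replicate (sC_E8_5.getD k 0) k) := by decide +kernel

end Cfsg.Agent.Helper7.Chev
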