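import Mathlib
import Cfsg.Agent.Helper7.ChevSE8

set_option autoImplicit false
set_option maxRecDepth 1000000
set_option maxHeartbeats 4000000

/-! Step 6 of the chain of parabolic subgroups of the Weyl group of type E8. -/

namespace Cfsg.Agent.Helper7.Chev

open Cfsg Cfsg.Lie

def sS_E8_6 : ℕ := 0x40020000000000000000000000000000
def sU_E8_6 : List (List ℕ) := [[], [3], [4, 3]]
def sN_E8_6 : List (List ℕ) := [[2, 9], [0, 4], [9, 2]]
def sC_E8_6 : List ℕ := [1, 1, 1]
def sK_E8_6 : List ℕ := [8681105540019359138, 8681105561141939874, 8681109954876772258]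

theorem sCert_E8_6 : StepCert chevE8 wR_E8 sS_E8_6 sJ_E8_6 sJ_E8_7 sU_E8_6 sN_E8_6 sK_E8_6 := by decide +kernel

theorem sCount_E8_6 : sU_E8_6.map (nMinusF chevE8 wR_E8) = (List.range 3).flatMap (fun k => List.replicate (sC_E8_6.getD k 0) k) := by decide +kernel

end Cfsg.Agent.Helper7.Chev
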