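import Mathlib
import Cfsg.Agent.Helper7.ChevSE8

set_option autoImplicit false
set_option maxRecDepth 1000000
set_option maxHeartbeats 4000000

/-! Step 7 of the chain of parabolic subgroups of the Weyl group of type E8. -/

namespace Cfsg.Agent.Helper7.Chev

open Cfsg Cfsg.Lie

def sS_E8_7 : ℕ := 0x0
def sU_E8_7 : List (List ℕ) := [[], [4]]
def sN_E8_7 : List (List ℕ) := [[2], [0]]
def sC_E8_7 : List ℕ := [1, 1]
def sK_E8_7 : List ℕ := [8681105540019359138, 8681109882248072610]

theorem sCert_E8_7 : StepCert chevE8 wR_E8 sS_E8_7 sJ_E8_7 sJ_E8_8 sU_E8_7 sN_E8_7 sK_E8_7 := by decide +kernel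

theorem sCount_E8_7 : sU_E8_7.map (nMinusF chevE8 wR_E8) = (List.range 2).flatMap (fun k => List.replicate (sC_E8_7.getD k 0) k) := by decide +kernel

end Cfsg.Agent.Helper7.Chev
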