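import Mathlib
import Cfsg.Agent.Helper7.ChevSub2
import Cfsg.Agent.Helper7.ChevGood3
import Cfsg.Agent.Helper7.ChevT0
import Cfsg.Agent.Helper7.ChevT5
import Cfsg.Agent.Helper7.ChevT6
import Cfsg.Agent.Helper7.ChevT7
import Cfsg.Agent.Helper7.ChevT9
import Cfsg.Agent.Helper7.ChevW0All

set_option autoImplicit false
set_option linter.unusedSectionVars false
set_option linter.unusedVariables false

/-!
The statement S2214: centralizer and normalizer of a subfield subgroup of a Chevalley group over an algebraically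
closed field.
-/

namespace Cfsg.Agent.Helper7.Chev

open Cfsg Cfsg.Lie Matrix

section main

variable {D : ChevalleyDatum} {F : Type*} [Field F]
  (hG : Good2 D) (hT : T0 D) (h3 : (tabOf D).T3) (h4 : (tabOf D).T4 60) (h5 : (tabOf D).T5)
  (h6 : (tabOf D).T6) (h7 : (tabOf D).T7) (h8 : (tabOf D).T8) (h9 : (tabOf D).T9)
  {w0 : List ℕ} (hw0 : (tabOf D).W0ok w0) (σ : F ≃+* F)

include hG hT h3 h4 h5 h6 h7 h8 h9 hw0 in
/-- Centralizer and normalizer of a group of fixed points containing the root elements with fixed parameters. -/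
theorem subfield_centralizer_normalizer {Kg : Subgroup (GL D.Idx F)} (hKG : Kg ≤ D.group F)
    (hLK : fixL D σ ≤ Kg) (hKfix : ∀ x ∈ Kg, (x : Matrix D.Idx D.Idx F).map σ = x) :
    D.group F ⊓ Subgroup.centralizer (Kg : Set (GL D.Idx F)) = ⊥ ∧
    ∀ g : GL D.Idx F, g ∈ D.group F → (g ∈ Subgroup.normalizer (Kg : Set (GL D.Idx F)) ↔
      (g : Matrix D.Idx D.Idx F).map σ = g) := by
  have hG1 := hG.toGood1
  have hcent : ∀ c : GL D.Idx F, c ∈ D.group F → (∀ x ∈ Kg, x * c = c * x) → c = 1 := by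
    intro c hc hcomm
    apply eq_one_of_commute_roots hG hT h3 h4 h5 h6 h8 h9 hw0 hc
    intro r hr
    exact (hcomm _ (hLK (xGL_mem_fixL hG σ hr (map_one σ)))).symm
  constructor
  · rw [eq_bot_iff]
    rintro g ⟨hgG, hgC⟩
    rw [Subgroup.mem_bot]
    exact hcent g hgG (fun x hx => Subgroup.mem_centralizer_iff.mp hgC x hx)
  · intro g hg
    constructor
    · intro hgN
      set g' := glMap (D := D) (σ : F →+* F) g with hg'
      have hg'G : g' ∈ D.group F := map_group_le (σ : F →+* F) ⟨g, hg, rfl⟩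
      have hKfix' : ∀ x ∈ Kg, glMap (D := D) (σ : F →+* F) x = x := fun x hx =>
        Units.ext (by rw [glMap_coe]; exact hKfix x hx)
      have hc : g⁻¹ * g' = 1 := by
        apply hcent _ (mul_mem (inv_mem hg) hg'G)
        intro x hx
        have h1 : g * x * g⁻¹ ∈ Kg := (Subgroup.mem_set_normalizer_iff.mp hgN x).mp hx
        have h2 := hKfix' _ h1
        rw [map_mul, map_mul, map_inv, hKfix' x hx] at h2
        -- `g' x g'⁻¹ = g x g⁻¹`
        calc x * (g⁻¹ * g') = g⁻¹ * (g * x * g⁻¹) * g' := by group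
          _ = g⁻¹ * (g' * x * g'⁻¹) * g' := by rw [← h2]
          _ = g⁻¹ * g' * x := by group
      have : g' = g := by
        have := congrArg (fun z => g * z) hc
        simpa using this
      have h3' := congrArg (fun z : GL D.Idx F => (z : Matrix D.Idx D.Idx F)) this
      simpa [hg', glMap_coe] using h3'
    · intro hfix
      rw [Subgroup.mem_set_normalizer_iff]
      intro x
      constructor
      · intro hx
        exact fixed_conj_mem hG hT h3 h4 h5 h6 h7 h8 h9 σ hKG hLK hKfix hg hfix hx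
      · intro hx
        have hginv : ((g⁻¹ : GL D.Idx F) : Matrix D.Idx D.Idx F).map σ = (g⁻¹ : GL D.Idx F) := by
          have e1 : glMap (D := D) (σ : F →+* F) g = g := Units.ext (by rw [glMap_coe]; exact hfix)
          have e2 : glMap (D := D) (σ : F →+* F) g⁻¹ = g⁻¹ := by rw [map_inv, e1]
          have := congrArg Units.val e2
          rw [glMap_coe] at this
          exact this
        have := fixed_conj_mem hG hT h3 h4 h5 h6 h7 h8 h9 σ hKG hLK hKfix (inv_mem hg) hginv hx
        have e : g⁻¹ * (g * x * g⁻¹) * g⁻¹⁻¹ = x := by group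
        rwa [e] at this

end main

/-- The statement of S2214. -/
theorem chev_S2214 {k : Type*} [Field k] [IsAlgClosed k] (p : ℕ) [Fact p.Prime] [CharP k p]
    (D : ChevalleyDatum) (hD : D ∈ [chevG2, chevB2, chevD4, chevF4, chevE6, chevE7, chevE8])
    (a : ℕ) (ha : 1 ≤ a) (K : Subgroup (GL D.Idx k)) (hKG : K ≤ D.group k)
    (hLK : Subgroup.closure {g : GL D.Idx k | ∃ (s : ℕ) (t : k), t ^ (p ^ a) = t ∧
      (g : Matrix D.Idx D.Idx k) = D.x k s t} ≤ K)
    (hKfix : ∀ g ∈ K, ∀ i j : D.Idx, ((g : Matrix D.Idx D.Idx k) i j) ^ (p ^ a) =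
      (g : Matrix D.Idx D.Idx k) i j) :
    D.group k ⊓ Subgroup.centralizer (K : Set (GL D.Idx k)) = ⊥ ∧
    ∀ g : GL D.Idx k, g ∈ D.group k → (g ∈ Subgroup.normalizer (K : Set (GL D.Idx k)) ↔
      ∀ i j : D.Idx, ((g : Matrix D.Idx D.Idx k) i j) ^ (p ^ a) = (g : Matrix D.Idx D.Idx k) i j) := by
  have hG := good3_of_mem D hD
  have hT := T0_of_mem D hD
  have h5 := T5_of_mem D hD
  have h6 := T6_of_mem D hD
  have h7 := T7_of_mem D hD
  have h8 := T8_of_mem D hD
  have h9 := T9_of_mem D hD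
  obtain ⟨w0, hw0⟩ := exists_W0ok D hD
  set σ : k ≃+* k := iterateFrobeniusEquiv k p a with hσ
  have hσa : ∀ c : k, σ c = c ^ (p ^ a) := fun c => iterateFrobeniusEquiv_def k p a c
  have hmap : ∀ g : GL D.Idx k, ((g : Matrix D.Idx D.Idx k).map σ = g ↔
      ∀ i j : D.Idx, ((g : Matrix D.Idx D.Idx k) i j) ^ (p ^ a) = (g : Matrix D.Idx D.Idx k) i j) := by
    intro g
    constructor
    · intro h i j
      have := congrFun (congrFun h i) j
      rw [Matrix.map_apply, hσa] at this
      exact this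
    · intro h
      ext i j
      rw [Matrix.map_apply, hσa]
      exact h i j
  have hL : fixL D σ ≤ K := by
    refine le_trans ?_ hLK
    unfold fixL
    apply Subgroup.closure_mono
    rintro g ⟨s, t, ht, hg⟩
    exact ⟨s, t, by rw [← hσa]; exact ht, hg⟩
  have hKfix' : ∀ x ∈ K, (x : Matrix D.Idx D.Idx k).map σ = x := fun x hx => (hmap x).mpr (hKfix x hx)
  obtain ⟨h1, h2⟩ := subfield_centralizer_normalizer hG.toGood2 hT hG.t3 hG.t4 h5 h6 h7 h8 h9 hw0 σ
    hKG hL hKfix'
  exact ⟨h1, fun g hg => (h2 g hg).trans (hmap g)⟩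

end Cfsg.Agent.Helper7.Chev
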