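import Mathlib
import Cfsg.Agent.Helper7.ChevInvF
import Cfsg.Agent.Helper7.ChevTwFix1

set_option autoImplicit false
set_option linter.unusedSectionVars false
set_option linter.unusedVariables false
set_option maxHeartbeats 1000000

/-!
Twisted groups, involutions: the fixed points of the twisting automorphism in the Chevalley group, their Bruhat cells
in the ambient group, and the cell of maximal length of the conjugates of an involution under the fixed points.
-/

namespace Cfsg.Agent.Helper7.Chev

open Cfsg Cfsg.Lie Matrix DoubleCoset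
open scoped Pointwise

variable {D : ChevalleyDatum}

section length

variable (hG : Good2 D) (hT : T0 D) (h6 : (tabOf D).T6)

include hG hT h6 in
/-- Multiplying on the left by a fundamental reflection whose root is sent to a positive root by the inverse makes
the length go up. -/
theorem nMinus_cons_lt {w : List ℕ} (hw : ∀ j ∈ w, j < D.rank) {i : ℕ} (hi : i < D.rank)
    (hpos : D.nroots / 2 ≤ (tabOf D).reflWord w.reverse (D.simple i)) :
    nMinus D w < nMinus D (i :: w) := by
  have hG1 := hG.toGood1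
  have hp := hG1.simple_lt hi
  have hppos := simple_pos hG1 hT hi
  have hrev : ∀ j ∈ w.reverse, j < D.rank := fun j hj => hw j (List.mem_reverse.mp hj)
  set a := D.simple i with ha
  set r₀ := (tabOf D).reflWord w.reverse a with hr₀
  have hr₀lt : r₀ < D.nroots := reflWord_lt hG hrev hp
  have hwr₀ : (tabOf D).reflWord w r₀ = a := reflWord_reverse_cancel hG hw hp
  have hact : ∀ r, (tabOf D).reflWord (i :: w) r = (tabOf D).refl a ((tabOf D).reflWord w r) := by
    intro r
    rw [reflWord_cons]
  have hsub : insert r₀ (negSet D w) ⊆ negSet D (i :: w) := by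
    intro r hr
    rw [Finset.mem_insert] at hr
    rcases hr with rfl | hr
    · rw [mem_negSet]
      refine ⟨hr₀lt, hpos, ?_⟩
      rw [hact, hwr₀]
      have e1 : (tabOf D).refl a a = D.neg a := refl_self a
      rw [e1]
      exact neg_neg_of_pos hG hT hp hppos
    · obtain ⟨h1, h2, h3⟩ := mem_negSet.mp hr
      rw [mem_negSet]
      refine ⟨h1, h2, ?_⟩
      rw [hact]
      apply refl_neg_of_neg hG hT h6 hi (reflWord_lt hG hw h1) h3
      intro h
      have e : r = D.neg r₀ := by
        have h' := reflWord_reverse_cancel hG hrev h1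
        rw [List.reverse_reverse] at h'
        rw [← h', h, reflWord_neg hG hrev hp]
      have := neg_neg_of_pos hG hT hr₀lt hpos
      omega
  have hnot : r₀ ∉ negSet D w := by
    intro h
    obtain ⟨_, _, h3⟩ := mem_negSet.mp h
    rw [hwr₀] at h3
    omega
  rw [nMinus_eq_card, nMinus_eq_card]
  calc (negSet D w).card < (insert r₀ (negSet D w)).card := by
        rw [Finset.card_insert_of_notMem hnot]; omega
    _ ≤ _ := Finset.card_le_card hsub

end length

section ortho

variable (hG : Good2 D) (hT : T0 D) (h6 : (tabOf D).T6)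

include hG in
/-- The reflections of a list of fundamental roots orthogonal to a fundamental root fix it. -/
theorem reflWord_ortho_fix {X : List ℕ} (hX : ∀ j ∈ X, j < D.rank) {i : ℕ}
    (horth : ∀ j ∈ X, (tabOf D).refl (D.simple j) (D.simple i) = D.simple i) :
    (tabOf D).reflWord X (D.simple i) = D.simple i := by
  induction X with
  | nil => rfl
  | cons j X ih =>
    rw [reflWord_cons, ih (fun k hk => hX k (List.mem_cons_of_mem _ hk))
      (fun k hk => horth k (List.mem_cons_of_mem _ hk))]
    exact horth j List.mem_cons_self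

include hG hT h6 in
/-- The reflections of a list of pairwise orthogonal fundamental roots map a positive root outside the list to such a
root. -/
theorem reflWord_ortho_pos {cw : List ℕ} (hcw : ∀ i ∈ cw, i < D.rank)
    (horth : ∀ i ∈ cw, ∀ j ∈ cw, i ≠ j → (tabOf D).refl (D.simple i) (D.simple j) = D.simple j)
    {X : List ℕ} (hX : ∀ j ∈ X, j ∈ cw) {β : ℕ} (hβ : β < D.nroots) (hpos : D.nroots / 2 ≤ β)
    (hne : ∀ j ∈ cw, β ≠ D.simple j) :
    (tabOf D).reflWord X β < D.nroots ∧ D.nroots / 2 ≤ (tabOf D).reflWord X β ∧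
      ∀ j ∈ cw, (tabOf D).reflWord X β ≠ D.simple j := by
  induction X with
  | nil => exact ⟨hβ, hpos, hne⟩
  | cons j X ih =>
    obtain ⟨h1, h2, h3⟩ := ih fun k hk => hX k (List.mem_cons_of_mem _ hk)
    have hjc : j ∈ cw := hX j List.mem_cons_self
    have hj : j < D.rank := hcw j hjc
    rw [reflWord_cons]
    set γ := (tabOf D).reflWord X β with hγ
    have h6' := h6 j hj γ h1 h2 (h3 j hjc)
    refine ⟨hG.refl_lt hj h1, h6'.1, ?_⟩
    intro k hk hcon
    by_cases hkj : k = j
    · subst hkj
      exact h6'.2 hcon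
    · have e : γ = D.simple k := by
        have := hG.refl_refl hj h1
        change (tabOf D).refl (D.simple j) ((tabOf D).refl (D.simple j) γ) = γ at this
        rw [← this]
        change (tabOf D).refl (D.simple j) ((tabOf D).refl (D.simple j) γ) = D.simple k
        rw [hcon]
        exact horth j hjc k hk (fun h => hkj h.symm)
      exact h3 k hk e

end ortho

section cells

variable {F : Type*} [Field F]
variable (hG : Good2 D) (hT : T0 D) (h3 : (tabOf D).T3) (h4 : (tabOf D).T4 60) (h5 : (tabOf D).T5)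
  (h6 : (tabOf D).T6) (h8 : (tabOf D).T8) (h9 : (tabOf D).T9)
  {W : List (List ℕ)} (hW : WList D W)

include hG hT h3 h4 h5 h6 h8 h9 hW in
/-- The cell of an element equal to its inverse is that of an involution of the Weyl group. -/
theorem sameAct_reverse_of_inv {g : GL D.Idx F} (hg : g⁻¹ = g) {w : List ℕ} (hw : w ∈ W)
    (hc : InCell hG F g w) : SameAct D w.reverse w := by
  obtain ⟨w', hw', hrefl, hc'⟩ := inCell_inv (F := F) hG hT h3 h4 h5 h6 h8 h9 hW hw hc
  rw [hg] at hc'
  have := inCell_unique (F := F) hG hT h3 h4 h5 h6 h8 h9 hW hw hw' hc hc'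
  subst this
  intro r hr
  exact (hrefl r hr).symm

include hG hT h3 h4 h5 h6 h8 h9 hW in
/-- A conjugate under a subgroup in a cell of maximal length. -/
theorem exists_max_cell_sub (G₀ : Subgroup (GL D.Idx F)) (hG₀ : G₀ ≤ D.group F) {t : GL D.Idx F}
    (ht : t ∈ G₀) :
    ∃ g ∈ G₀, ∃ w ∈ W, InCell hG F (g * t * g⁻¹) w ∧
      ∀ g' ∈ G₀, ∀ w' ∈ W, InCell hG F (g' * t * g'⁻¹) w' → nMinus D w' ≤ nMinus D w := by
  set S : Set ℕ := {k | ∃ g ∈ G₀, ∃ w ∈ W, InCell hG F (g * t * g⁻¹) w ∧ nMinus D w = k} with hS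
  have hne : S.Nonempty := by
    obtain ⟨w, hw, hc⟩ := inCell_exists (F := F) hG hT h3 h4 h5 h6 h8 h9 hW (g := 1 * t * 1⁻¹)
      (by simpa using hG₀ ht)
    exact ⟨nMinus D w, 1, one_mem _, w, hw, hc, rfl⟩
  have hbdd : BddAbove S := by
    refine ⟨D.nroots, ?_⟩
    rintro k ⟨g, _, w, _, _, rfl⟩
    exact nMinus_le w
  obtain ⟨g, hg, w, hw, hc, hk⟩ := Nat.sSup_mem hne hbdd
  refine ⟨g, hg, w, hw, hc, ?_⟩
  intro g' hg' w' hw' hc'
  rw [hk]
  exact le_csSup hbdd ⟨g', hg', w', hw', hc', rfl⟩

include hG hT h3 h4 h5 h6 h8 h9 hW in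
/-- Conjugating an element equal to its inverse by the reflections of a list of pairwise orthogonal fundamental roots,
all sent to positive roots outside the list: the length of the cell goes up. -/
theorem inCell_conj_ortho {cw : List ℕ} (hcw : ∀ i ∈ cw, i < D.rank)
    (horth : ∀ i ∈ cw, ∀ j ∈ cw, i ≠ j → (tabOf D).refl (D.simple i) (D.simple j) = D.simple j)
    {g : GL D.Idx F} (hg : g⁻¹ = g) {w : List ℕ} (hw : w ∈ W) (hc : InCell hG F g w)
    (hout : ∀ i ∈ cw, D.nroots / 2 ≤ (tabOf D).reflWord w (D.simple i) ∧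
      ∀ j ∈ cw, (tabOf D).reflWord w (D.simple i) ≠ D.simple j) :
    ∀ X : List ℕ, X.Nodup → (∀ j ∈ X, j ∈ cw) →
      ∃ w' ∈ W, InCell hG F (nWordGL hG X * g * (nWordGL hG X)⁻¹) w' ∧
        SameAct D w' (X ++ w ++ X.reverse) ∧ nMinus D w + X.length ≤ nMinus D w' := by
  have hG1 := hG.toGood1
  have hwlt := (hW.ok w hw).1
  intro X
  induction X with
  | nil =>
    intro _ _
    refine ⟨w, hw, ?_, ?_, by simp⟩
    · rw [nWordGL_nil]; simpa using hc
    · simpa using SameAct.refl w
  | cons i X ih =>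
    intro hnd hX
    obtain ⟨hiX, hnd'⟩ := List.nodup_cons.mp hnd
    have hX' : ∀ j ∈ X, j ∈ cw := fun j hj => hX j (List.mem_cons_of_mem _ hj)
    have hXlt : ∀ j ∈ X, j < D.rank := fun j hj => hcw j (hX' j hj)
    have hXrlt : ∀ j ∈ X.reverse, j < D.rank := fun j hj => hXlt j (List.mem_reverse.mp hj)
    obtain ⟨w₁, hw₁, hc₁, hs₁, hn₁⟩ := ih hnd' hX'
    have hic : i ∈ cw := hX i List.mem_cons_self
    have hi : i < D.rank := hcw i hic
    have hp := hG1.simple_lt hi
    have hw₁lt := (hW.ok w₁ hw₁).1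
    set g₁ := nWordGL hG X * g * (nWordGL hG X)⁻¹ with hg₁
    have hg₁inv : g₁⁻¹ = g₁ := by
      calc g₁⁻¹ = nWordGL hG X * g⁻¹ * (nWordGL hG X)⁻¹ := by rw [hg₁]; group
        _ = g₁ := by rw [hg]
    have h1 : SameAct D w₁.reverse w₁ :=
      sameAct_reverse_of_inv hG hT h3 h4 h5 h6 h8 h9 hW hg₁inv hw₁ hc₁
    -- the image of the root under `w₁`
    have hfix : (tabOf D).reflWord X.reverse (D.simple i) = D.simple i := by
      apply reflWord_ortho_fix hG hXrlt
      intro j hj
      have hjX := List.mem_reverse.mp hj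
      exact horth j (hX' j hjX) i hic (fun h => hiX (h ▸ hjX))
    obtain ⟨hβpos, hβne⟩ := hout i hic
    have hβlt : (tabOf D).reflWord w (D.simple i) < D.nroots := reflWord_lt hG hwlt hp
    obtain ⟨hγlt, hγpos, hγne⟩ := reflWord_ortho_pos hG hT h6 hcw horth hX' hβlt hβpos hβne
    have hw₁i : (tabOf D).reflWord w₁ (D.simple i) =
        (tabOf D).reflWord X ((tabOf D).reflWord w (D.simple i)) := by
      rw [hs₁ _ hp, reflWord_append, reflWord_append, hfix]
    have hpos1 : D.nroots / 2 ≤ (tabOf D).reflWord w₁.reverse (D.simple i) := by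
      rw [h1 _ hp, hw₁i]; exact hγpos
    have hne1 : (tabOf D).reflWord w₁ (D.simple i) ≠ D.simple i := by
      rw [hw₁i]; exact hγne i hic
    have hpos1' : D.nroots / 2 ≤ (tabOf D).reflWord w₁ (D.simple i) := by
      rw [hw₁i]; exact hγpos
    have hpos2 : D.nroots / 2 ≤ (tabOf D).reflWord (i :: w₁) (D.simple i) := by
      rw [reflWord_cons]
      exact (h6 i hi _ (reflWord_lt hG hw₁lt hp) hpos1' hne1).1
    obtain ⟨w', hw', hrefl, hc'⟩ := inCell_conj_simple (F := F) hG hT h3 h4 h5 h6 h8 h9 hW hw₁ hc₁ hi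
      hpos1 hpos2
    refine ⟨w', hw', ?_, ?_, ?_⟩
    · have e : nWordGL hG (i :: X) * g * (nWordGL hG (i :: X))⁻¹ =
          nGL hG1 hp * g₁ * (nGL hG1 hp)⁻¹ := by
        rw [nWordGL_cons hG hi, hg₁]; group
      rw [e]; exact hc'
    · have hs2 : SameAct D (i :: w₁ ++ [i]) (i :: (X ++ w ++ X.reverse) ++ [i]) := by
        have := (hs₁.append_right hG (c := [i]) (by
          intro j hj; rw [List.mem_singleton] at hj; rw [hj]; exact hi)).append_left [i]
        simpa using this
      have e : i :: (X ++ w ++ X.reverse) ++ [i] = (i :: X) ++ w ++ (i :: X).reverse := by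
        simp
      rw [← e]
      exact SameAct.trans hrefl hs2
    · have hlt := nMinus_conj_lt hG hT h6 hw₁lt h1 hi hpos1' hne1
      have hcong : nMinus D w' = nMinus D (i :: w₁ ++ [i]) := nMinus_congr hrefl
      simp only [List.length_cons]
      omega

end cells

end Cfsg.Agent.Helper7.Chev
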