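import Mathlib
import Cfsg.Agent.Helper7.ChevTwInvA

set_option autoImplicit false
set_option linter.unusedSectionVars false
set_option linter.unusedVariables false
set_option maxHeartbeats 1000000

/-!
Twisted groups, involutions: the cell of maximal length of the conjugates of an involution under the fixed points of
the twisting automorphism is that of an involution of the Weyl group commuting with the permutation of the roots and
mapping each class of fundamental roots to itself or to negative roots.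
-/

namespace Cfsg.Agent.Helper7.Chev

open Cfsg Cfsg.Lie Matrix DoubleCoset
open scoped Pointwise

variable {D : ChevalleyDatum} {K : Type*} [Field K]

section fixed

variable (hG : Good2 D) (hT : T0 D) (h3 : (tabOf D).T3) (h4 : (tabOf D).T4 60) (h5 : (tabOf D).T5)
  (h6 : (tabOf D).T6) (h8 : (tabOf D).T8) (h9 : (tabOf D).T9)
  {ρ ρ' σ σ' : ℕ → ℕ} {ε : ℕ → ℤ} (h18 : T18 D ρ ρ' σ σ' ε) {cls : List (ℕ × ℕ)}
  (h19 : T19 D ρ σ cls) (f : K ≃+* K)

/-- The fixed points of the twisting automorphism in the Chevalley group. -/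
noncomputable def twG (h18 : T18 D ρ ρ' σ σ' ε) (f : K ≃+* K) : Subgroup (GL D.Idx K) := twFix h18 f ⊓ D.group K

theorem mem_twG {g : GL D.Idx K} : g ∈ twG h18 f ↔ twAut h18 f g = g ∧ g ∈ D.group K := Iff.rfl

theorem twG_le_group : twG h18 f ≤ D.group K := inf_le_right

include h3 h4 h19 in
/-- The element of `N` of a word in the classes is a fixed point. -/
theorem nWordGL_flatMap_mem_twG {L : List (ℕ × ℕ)} (hL : ∀ c ∈ L, c ∈ cls) :
    (nWordGL hG (L.flatMap (clsWord ρ)) : GL D.Idx K) ∈ twG h18 f := by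
  refine ⟨?_, monomialSubgroup_le_group hG.toGood1 (nWordGL_mem hG _)⟩
  exact twGroup_le_twFix hG h3 h4 h18 h19 f (nWordGL_flatMap_mem hG h3 h4 h19 f hL)

include h3 h4 h19 in
/-- The element of `N` of a class is a fixed point. -/
theorem nWordGL_clsWord_mem_twG {c : ℕ × ℕ} (hc : c ∈ cls) :
    (nWordGL hG (clsWord ρ c) : GL D.Idx K) ∈ twG h18 f := by
  have := nWordGL_flatMap_mem_twG hG h3 h4 h18 h19 f (L := [c]) (by simpa using hc)
  simpa using this

include hT h3 h4 h5 h6 h8 h9 h19 in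
/-- The factors of the normal form of a fixed point in the cell of a word. -/
theorem inCell_fixed (hperm : ((List.range D.rank).map ρ).Perm (List.range D.rank))
    {t : GL D.Idx K} (ht : t ∈ twG h18 f) {w : List ℕ} (hw : ∀ i ∈ w, i < D.rank)
    (hc : InCell hG K t w) :
    ∃ b ∈ D.borelSubgroup K, ∃ u ∈ Subgroup.closure (minusGen D K w), t = b * nWordGL hG w * u ∧
      u ∈ twG h18 f ∧ twAut h18 f (b * nWordGL hG w) = b * nWordGL hG w ∧
      ∀ s < D.nroots, (tabOf D).reflWord w.reverse (σ s) = σ ((tabOf D).reflWord w.reverse s) := by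
  have hG1 := hG.toGood1
  have hHN : D.diagonalSubgroup K ≤ D.monomialSubgroup K := le_sup_left
  obtain ⟨b, hb, u, hu, e⟩ := hc
  obtain ⟨u₁, hu₁, h, hh, rfl⟩ := borel_decomp hG hb
  have hn : h * nWordGL hG w ∈ D.monomialSubgroup K := mul_mem (hHN hh) (nWordGL_mem hG w)
  have hu' : u ∈ Subgroup.closure (minusGen' D K (h * nWordGL hG w)) :=
    Subgroup.closure_mono (minusGen_subset hG hT hw hh) hu
  have e' : t = u₁ * (h * nWordGL hG w) * u := by rw [e]; group
  obtain ⟨f1, f2, f3⟩ := twAut_bruhat_fixed hG hT h3 h4 h5 h6 h8 h9 h18 h19 f hperm hu₁ hn hu' e' ht.1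
  refine ⟨u₁ * h, hb, u, hu, e, ⟨f3, posUnipotent_le_group (minusGen_closure_le_pos w hu)⟩, ?_, ?_⟩
  · have e2 : u₁ * h * nWordGL hG w = u₁ * (h * nWordGL hG w) := by group
    rw [e2, map_mul, f1, f2]
  · intro s hs
    exact reflWord_sigma_of_fixed hG hT h8 h18 f hh hw f2 hs

end fixed

section special

variable (hG : Good2 D) (hT : T0 D) (h3 : (tabOf D).T3) (h4 : (tabOf D).T4 60) (h5 : (tabOf D).T5)
  (h6 : (tabOf D).T6) (h8 : (tabOf D).T8) (h9 : (tabOf D).T9)
  {ρ ρ' σ σ' : ℕ → ℕ} {ε : ℕ → ℤ} (h18 : T18 D ρ ρ' σ σ' ε) {cls : List (ℕ × ℕ)}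
  (h19 : T19 D ρ σ cls) (f : K ≃+* K)
  {W : List (List ℕ)} (hW : WList D W)

include h19 in
theorem clsWord_nodup {c : ℕ × ℕ} (hc : c ∈ cls) : (clsWord ρ c).Nodup := by
  unfold clsWord
  apply List.Nodup.map_on _ List.nodup_range
  intro j hj k hk hjk
  by_contra hne
  have := (h19.ortho c hc j (List.mem_range.mp hj) k (List.mem_range.mp hk) hne).1.ne1
  apply this
  unfold clsRoot
  rw [hjk]

include h19 in
theorem clsWord_ortho {c : ℕ × ℕ} (hc : c ∈ cls) :
    ∀ i ∈ clsWord ρ c, ∀ j ∈ clsWord ρ c, i ≠ j →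
      (tabOf D).refl (D.simple i) (D.simple j) = D.simple j := by
  intro i hi j hj hij
  unfold clsWord at hi hj
  obtain ⟨a, ha, rfl⟩ := List.mem_map.mp hi
  obtain ⟨b, hb, rfl⟩ := List.mem_map.mp hj
  have hab : a ≠ b := fun h => hij (by rw [h])
  exact (h19.ortho c hc a (List.mem_range.mp ha) b (List.mem_range.mp hb) hab).2

include hG hT h3 h4 h5 h6 h8 h9 h18 h19 hW in
/-- The cell of maximal length of the conjugates of an involution under the fixed points. -/
theorem special_of_max_tw (hperm : ((List.range D.rank).map ρ).Perm (List.range D.rank))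
    {t g : GL D.Idx K} (ht : t ∈ twG h18 f) (ht2 : t * t = 1)
    (hg : g ∈ twG h18 f) {w : List ℕ} (hw : w ∈ W) (hc : InCell hG K (g * t * g⁻¹) w)
    (hmax : ∀ g' ∈ twG h18 f, ∀ w' ∈ W, InCell hG K (g' * t * g'⁻¹) w' → nMinus D w' ≤ nMinus D w) :
    SameAct D w.reverse w ∧
      (∀ s < D.nroots, (tabOf D).reflWord w (σ s) = σ ((tabOf D).reflWord w s)) ∧
      ∀ c ∈ cls, (tabOf D).reflWord w (clsRoot D ρ c.1 0) < D.nroots / 2 ∨
        ∃ k < c.2, (tabOf D).reflWord w (clsRoot D ρ c.1 0) = clsRoot D ρ c.1 k := by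
  have hG1 := hG.toGood1
  have hwlt := (hW.ok w hw).1
  set t₁ := g * t * g⁻¹ with ht₁
  have ht₁G : t₁ ∈ twG h18 f := mul_mem (mul_mem hg ht) (inv_mem hg)
  have hinv : t₁⁻¹ = t₁ := by
    have : t⁻¹ = t := inv_eq_of_mul_eq_one_left ht2
    calc t₁⁻¹ = g * t⁻¹ * g⁻¹ := by rw [ht₁]; group
      _ = _ := by rw [this]
  have h1 : SameAct D w.reverse w := sameAct_reverse_of_inv hG hT h3 h4 h5 h6 h8 h9 hW hinv hw hc
  obtain ⟨b, hb, u, hu, e, huG, hbn, hσ⟩ := inCell_fixed hG hT h3 h4 h5 h6 h8 h9 h18 h19 f hperm ht₁G hwlt hc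
  have hσw : ∀ s < D.nroots, (tabOf D).reflWord w (σ s) = σ ((tabOf D).reflWord w s) := by
    intro s hs
    rw [← h1 _ (h18.sigma s hs).1, ← h1 _ hs]
    exact hσ s hs
  refine ⟨h1, hσw, ?_⟩
  intro c hc'
  by_contra hcon
  rw [not_or, not_lt] at hcon
  obtain ⟨hpos0, hne0⟩ := hcon
  simp only [not_exists, not_and] at hne0
  obtain ⟨hm, horb, hlt⟩ := h19.orbit c hc'
  -- the images of all the roots of the class are positive and outside the class
  have hall : ∀ j < c.2, D.nroots / 2 ≤ (tabOf D).reflWord w (clsRoot D ρ c.1 j) ∧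
      ∀ k < c.2, (tabOf D).reflWord w (clsRoot D ρ c.1 j) ≠ clsRoot D ρ c.1 k := by
    intro j
    induction j with
    | zero => intro _; exact ⟨hpos0, hne0⟩
    | succ j ih =>
      intro hj
      have hj' : j < c.2 := by omega
      obtain ⟨ihpos, ihne⟩ := ih hj'
      have hrj : clsRoot D ρ c.1 j < D.nroots := hG1.simple_lt (hlt j hj')
      have hwj : (tabOf D).reflWord w (clsRoot D ρ c.1 j) < D.nroots := reflWord_lt hG hwlt hrj
      have e1 : (tabOf D).reflWord w (clsRoot D ρ c.1 (j + 1)) =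
          σ ((tabOf D).reflWord w (clsRoot D ρ c.1 j)) := by
        rw [← sigma_clsRoot h18 (hlt j hj'), hσw _ hrj]
      rw [e1]
      refine ⟨h19.sigma_pos _ hwj ihpos, ?_⟩
      intro k hk hcon
      -- `clsRoot k` is the image under `σ` of a root of the class
      have hex : ∃ k' < c.2, clsRoot D ρ c.1 k = σ (clsRoot D ρ c.1 k') := by
        cases k with
        | zero =>
          refine ⟨c.2 - 1, by omega, ?_⟩
          rw [sigma_clsRoot h18 (hlt (c.2 - 1) (by omega))]
          unfold clsRoot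
          have : c.2 - 1 + 1 = c.2 := by omega
          rw [this, horb]
          rfl
        | succ k' =>
          exact ⟨k', by omega, (sigma_clsRoot h18 (hlt k' (by omega))).symm⟩
      obtain ⟨k', hk', ek⟩ := hex
      rw [ek] at hcon
      have hinj : (tabOf D).reflWord w (clsRoot D ρ c.1 j) = clsRoot D ρ c.1 k' := by
        have h1' := (h18.sigma _ hwj).2.2.1
        have h2' := (h18.sigma _ (hG1.simple_lt (hlt k' hk'))).2.2.1
        rw [← h1', hcon]
        exact h2'
      exact ihne k' hk' hinj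
  have hcw := clsWord_lt h19 hc'
  have hout : ∀ i ∈ clsWord ρ c, D.nroots / 2 ≤ (tabOf D).reflWord w (D.simple i) ∧
      ∀ j ∈ clsWord ρ c, (tabOf D).reflWord w (D.simple i) ≠ D.simple j := by
    intro i hi
    unfold clsWord at hi
    obtain ⟨a, ha, rfl⟩ := List.mem_map.mp hi
    obtain ⟨hp, hn⟩ := hall a (List.mem_range.mp ha)
    refine ⟨hp, ?_⟩
    intro j hj
    unfold clsWord at hj
    obtain ⟨b', hb', rfl⟩ := List.mem_map.mp hj
    exact hn b' (List.mem_range.mp hb')
  obtain ⟨w', hw', hc'', _, hlen⟩ := inCell_conj_ortho (F := K) hG hT h3 h4 h5 h6 h8 h9 hW hcw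
    (clsWord_ortho h19 hc') hinv hw hc hout (clsWord ρ c) (clsWord_nodup h19 hc') (fun j hj => hj)
  set nc : GL D.Idx K := nWordGL hG (clsWord ρ c) with hnc
  have hncG : nc ∈ twG h18 f := nWordGL_clsWord_mem_twG hG h3 h4 h18 h19 f hc'
  have e2 : nc * t₁ * nc⁻¹ = (nc * g) * t * (nc * g)⁻¹ := by rw [ht₁]; group
  rw [e2] at hc''
  have hle := hmax (nc * g) (mul_mem hncG hg) w' hw' hc''
  have hlen' : (clsWord ρ c).length = c.2 := by unfold clsWord; simp
  omega

end special

end Cfsg.Agent.Helper7.Chev
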