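import Mathlib
import Cfsg.Agent.Helper7.ChevInvC

set_option autoImplicit false
set_option linter.unusedSectionVars false
set_option linter.unusedVariables false
set_option maxHeartbeats 1000000

/-!
A search over the tuples of images of the fundamental roots under an involution of the Weyl group, with a general
test on the image of each fundamental root given the previous images.
-/

namespace Cfsg.Agent.Helper7.Chev

open Cfsg Cfsg.Lie Matrix

namespace Tab

variable (T : Tab)

/-- The test for the image of the next fundamental root, given the images of the previous ones. -/
def tupGuardG (al : List ℕ → ℕ → Bool) (t : List ℕ) (r : ℕ) : Bool :=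
  al t r &&
  (List.range t.length).all fun j =>
    decide (T.pairing (t.getD j 0) r = T.pairing (T.simple j) (T.simple t.length)) &&
    decide (T.pairing r (t.getD j 0) = T.pairing (T.simple t.length) (T.simple j)) &&
    decide (T.pairing (t.getD j 0) (T.simple t.length) = T.pairing (T.simple j) r) &&
    decide (T.pairing (T.simple t.length) (t.getD j 0) = T.pairing r (T.simple j))

/-- The extensions of a tuple by one root. -/
def tupExtG (al : List ℕ → ℕ → Bool) (t : List ℕ) : List (List ℕ) :=
  ((List.range T.n).filter (T.tupGuardG al t)).map fun r => t ++ [r]

/-- The tuples of length `k` passing the tests. -/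
def tupSearchG (al : List ℕ → ℕ → Bool) : ℕ → List (List ℕ)
  | 0 => [[]]
  | k + 1 => (tupSearchG al k).flatMap (T.tupExtG al)

end Tab

variable {D : ChevalleyDatum}

section generic

variable (hG : Good2 D)

include hG in
/-- The tuple of the images of the fundamental roots under an involution passes the tests, as soon as each image
passes the general test. -/
theorem tuple_mem_searchG (al : List ℕ → ℕ → Bool) {w : List ℕ} (hw : ∀ i ∈ w, i < D.rank)
    (hinv : SameAct D w.reverse w)
    (hal : ∀ k < D.rank, al ((List.range k).map fun i => (tabOf D).reflWord w (D.simple i))
      ((tabOf D).reflWord w (D.simple k)) = true) :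
    ∀ k ≤ D.rank,
      ((List.range k).map fun i => (tabOf D).reflWord w (D.simple i)) ∈ (tabOf D).tupSearchG al k := by
  have hG1 := hG.toGood1
  have hww : ∀ r < D.nroots, (tabOf D).reflWord w ((tabOf D).reflWord w r) = r := by
    intro r hr
    have := reflWord_reverse_cancel hG hw hr
    rwa [hinv r hr] at this
  intro k
  induction k with
  | zero => intro _; simp [Tab.tupSearchG]
  | succ k ih =>
    intro hk
    have hk' : k < D.rank := hk
    have hpk := hG1.simple_lt hk'
    rw [Tab.tupSearchG, List.mem_flatMap]
    refine ⟨_, ih (by omega), ?_⟩
    unfold Tab.tupExtG
    rw [List.mem_map]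
    refine ⟨(tabOf D).reflWord w (D.simple k), ?_, ?_⟩
    · rw [List.mem_filter]
      refine ⟨List.mem_range.mpr (reflWord_lt hG hw hpk), ?_⟩
      unfold Tab.tupGuardG
      rw [Bool.and_eq_true, List.length_map, List.length_range]
      constructor
      · exact hal k hk'
      · rw [List.all_eq_true]
        intro j hj
        have hjk : j < k := List.mem_range.mp hj
        have hj' : j < D.rank := by omega
        have hpj := hG1.simple_lt hj'
        have eget : ((List.range k).map fun i => (tabOf D).reflWord w (D.simple i)).getD j 0 =
            (tabOf D).reflWord w (D.simple j) := by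
          rw [List.getD_eq_getElem _ _ (by simp [hjk])]
          simp
        rw [eget]
        simp only [Bool.and_eq_true, decide_eq_true_eq]
        refine ⟨⟨⟨?_, ?_⟩, ?_⟩, ?_⟩
        · exact pairing_reflWord hG hw hpj hpk
        · exact pairing_reflWord hG hw hpk hpj
        · have := pairing_reflWord hG hw (reflWord_lt hG hw hpj) hpk
          rw [hww _ hpj] at this
          exact this.symm
        · have := pairing_reflWord hG hw hpk (reflWord_lt hG hw hpj)
          rw [hww _ hpj] at this
          exact this.symm
    · rw [List.range_succ, List.map_append]
      simp

end generic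

end Cfsg.Agent.Helper7.Chev
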