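import Mathlib
import Cfsg.Agent.Helper7.ChevTwInvD

set_option autoImplicit false
set_option linter.unusedSectionVars false
set_option linter.unusedVariables false
set_option maxHeartbeats 1000000

/-!
Twisted groups in characteristic two: the descent. A conjugate `x h n_v` of an involution under the fixed points of
the twisting automorphism, in a cell of maximal length, has `x = 1`.
-/

namespace Cfsg.Agent.Helper7.Chev

open Cfsg Cfsg.Lie Matrix DoubleCoset
open scoped Pointwise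

variable {D : ChevalleyDatum} {K : Type*} [Field K]

section rankone

variable (C : Ctx D) [CharP K 2]

/-- A nontrivial root element of the negative of a fundamental root lies in the double coset of the reflection. -/
theorem ux_neg_simple_mem {j : ℕ} (hj : j < D.rank) {a : K} (ha : a ≠ 0) :
    ∃ b₄ ∈ D.borelSubgroup K, ∃ b₅ ∈ D.borelSubgroup K,
      ux C K (D.neg (D.simple j)) a =
        b₄ * nGL C.g3.toGood1 (C.g3.toGood1.simple_lt hj) * b₅ := by
  have hG := C.g3.toGood2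
  have hG1 := C.g3.toGood1
  have hUB : D.posUnipotent K ≤ D.borelSubgroup K := le_sup_left
  have hslt := hG1.simple_lt hj
  have hs24 := simple_pos hG1 C.t0 hj
  have hil := valid_single hj
  set ni : GL D.Idx K := nGL hG1 hslt with hni
  obtain ⟨P, hP⟩ := exists_subgroup_borel_union hG C.t0 C.g3.t3 C.g3.t4 C.t5 C.t6 hj ni
    (nGL_coe hG1 _)
  have hniP : ni ∈ P := by
    change ni ∈ (P : Set (GL D.Idx K))
    rw [hP]
    exact Or.inr (mem_doubleCoset_self _ _ _)
  have hxP : ux C K (D.simple j) a ∈ P := by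
    change ux C K (D.simple j) a ∈ (P : Set (GL D.Idx K))
    rw [hP]
    exact Or.inl (hUB (ux_mem_pos C hslt hs24 _))
  have hyP : ni * ux C K (D.simple j) a * ni⁻¹ ∈ (P : Set (GL D.Idx K)) :=
    mul_mem (mul_mem hniP hxP) (inv_mem hniP)
  have hy : ni * ux C K (D.simple j) a * ni⁻¹ = ux C K (D.neg (D.simple j)) a := by
    rw [hni, nGL_eq_nWordGL C hj, conj_ux C hil hslt]
    congr 1
    rw [reflWord_single]
    exact refl_self _
  have hnlt := hG1.neg_lt hslt
  have hnneg : D.neg (D.simple j) < D.nroots / 2 := neg_neg_of_pos hG C.t0 hslt hs24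
  have hynB : ux C K (D.neg (D.simple j)) a ∉ D.borelSubgroup K := by
    intro hmem
    have h2 : ux C K (D.neg (D.simple j)) a ∈ D.borelSubgroup K ⊓ D.negUnipotent K :=
      ⟨hmem, ux_mem_neg C hnlt hnneg _⟩
    rw [borel_inf_negUnipotent hG C.t0, Subgroup.mem_bot] at h2
    exact ux_ne_one C hnlt ha h2
  rw [hP, hy] at hyP
  rcases hyP with hyB | hyD
  · exact absurd hyB hynB
  · obtain ⟨b₄, hb₄, b₅, hb₅, ey⟩ := mem_doubleCoset.mp hyD
    exact ⟨b₄, hb₄, b₅, hb₅, ey⟩

end rankone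

section cls

variable (C : Ctx D) [CharP K 2]

include C in
/-- The reflections of a list of pairwise orthogonal fundamental roots map each of them to its negative. -/
theorem reflWord_ortho_self {cw : List ℕ} (hcw : ∀ i ∈ cw, i < D.rank) (hnd : cw.Nodup)
    (horth : ∀ i ∈ cw, ∀ j ∈ cw, i ≠ j → (tabOf D).refl (D.simple i) (D.simple j) = D.simple j)
    {j : ℕ} (hj : j ∈ cw) : (tabOf D).reflWord cw (D.simple j) = D.neg (D.simple j) := by
  have hG := C.g3.toGood2
  have hG1 := C.g3.toGood1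
  induction cw with
  | nil => exact absurd hj (by simp)
  | cons i cw ih =>
    obtain ⟨hicw, hnd'⟩ := List.nodup_cons.mp hnd
    have hcw' : ∀ k ∈ cw, k < D.rank := fun k hk => hcw k (List.mem_cons_of_mem _ hk)
    have horth' : ∀ a ∈ cw, ∀ b ∈ cw, a ≠ b → (tabOf D).refl (D.simple a) (D.simple b) = D.simple b :=
      fun a ha b hb hab => horth a (List.mem_cons_of_mem _ ha) b (List.mem_cons_of_mem _ hb) hab
    rw [reflWord_cons]
    rcases List.mem_cons.mp hj with rfl | hj'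
    · have hfix : (tabOf D).reflWord cw (D.simple j) = D.simple j := by
        apply reflWord_ortho_fix hG hcw'
        intro k hk
        exact horth k (List.mem_cons_of_mem _ hk) j List.mem_cons_self (fun h => hicw (h ▸ hk))
      rw [hfix]
      exact refl_self _
    · rw [ih hcw' hnd' horth' hj']
      have hij : i ≠ j := fun h => hicw (h ▸ hj')
      have hi := hcw i List.mem_cons_self
      have hjlt := hG1.simple_lt (hcw' j hj')
      have := hG.refl_neg hi hjlt
      change (tabOf D).refl (D.simple i) (D.neg (D.simple j)) = _ at this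
      rw [this]
      congr 1
      exact horth i List.mem_cons_self j (List.mem_cons_of_mem _ hj') hij

include C in
/-- The positivity needed to multiply a cell on the left by a reflection of the class. -/
theorem cls_pos_rev {v : List ℕ} (hv : ∀ i ∈ v, i < D.rank)
    (hrev : ∀ r < D.nroots, (tabOf D).reflWord v.reverse r = (tabOf D).reflWord v r)
    {cw : List ℕ} (hcw : ∀ i ∈ cw, i < D.rank)
    (horth : ∀ i ∈ cw, ∀ j ∈ cw, i ≠ j → (tabOf D).refl (D.simple i) (D.simple j) = D.simple j)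
    (hfixc : ∀ i ∈ cw, D.nroots / 2 ≤ (tabOf D).reflWord v (D.simple i))
    {X : List ℕ} (hX : ∀ j ∈ X, j ∈ cw) {j : ℕ} (hj : j ∈ cw) (hjX : j ∉ X) :
    D.nroots / 2 ≤ (tabOf D).reflWord (X ++ v).reverse (D.simple j) := by
  have hG := C.g3.toGood2
  have hG1 := C.g3.toGood1
  rw [List.reverse_append, reflWord_append]
  have hXr : ∀ k ∈ X.reverse, k < D.rank := fun k hk => hcw k (hX k (List.mem_reverse.mp hk))
  have hfix : (tabOf D).reflWord X.reverse (D.simple j) = D.simple j := by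
    apply reflWord_ortho_fix hG hXr
    intro k hk
    have hkX := List.mem_reverse.mp hk
    exact horth k (hX k hkX) j hj (fun h => hjX (h ▸ hkX))
  rw [hfix, hrev _ (hG1.simple_lt (hcw j hj))]
  exact hfixc j hj

include C in
/-- The length of the product of reflections of the class and of `v`. -/
theorem nMinus_cls_append {v : List ℕ} (hv : ∀ i ∈ v, i < D.rank)
    (hrev : ∀ r < D.nroots, (tabOf D).reflWord v.reverse r = (tabOf D).reflWord v r)
    {cw : List ℕ} (hcw : ∀ i ∈ cw, i < D.rank)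
    (horth : ∀ i ∈ cw, ∀ j ∈ cw, i ≠ j → (tabOf D).refl (D.simple i) (D.simple j) = D.simple j)
    (hfixc : ∀ i ∈ cw, D.nroots / 2 ≤ (tabOf D).reflWord v (D.simple i)) :
    ∀ X : List ℕ, X.Nodup → (∀ j ∈ X, j ∈ cw) → nMinus D v + X.length ≤ nMinus D (X ++ v) := by
  have hG := C.g3.toGood2
  intro X
  induction X with
  | nil => intro _ _; simp
  | cons j X ih =>
    intro hnd hX
    obtain ⟨hjX, hnd'⟩ := List.nodup_cons.mp hnd
    have hX' : ∀ k ∈ X, k ∈ cw := fun k hk => hX k (List.mem_cons_of_mem _ hk)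
    have hjc := hX j List.mem_cons_self
    have hXv : ∀ k ∈ X ++ v, k < D.rank := by
      intro k hk
      rcases List.mem_append.mp hk with h | h
      · exact hcw k (hX' k h)
      · exact hv k h
    have hpos := cls_pos_rev C hv hrev hcw horth hfixc hX' hjc hjX
    have hlt := nMinus_cons_lt hG C.t0 C.t6 hXv (hcw j hjc) hpos
    have := ih hnd' hX'
    rw [List.cons_append, List.length_cons]
    omega

/-- The cell of the conjugate, under the reflections of a class fixed by `v`, of a product of root elements of positive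
roots times an element of `B n_v`: it is that of the product of `v` and of the reflections of the roots of the class
with nontrivial factors. -/
theorem cls_conj_cell {v : List ℕ} (hv : ∀ i ∈ v, i < D.rank)
    (hrev : ∀ r < D.nroots, (tabOf D).reflWord v.reverse r = (tabOf D).reflWord v r)
    {cw : List ℕ} (hcw : ∀ i ∈ cw, i < D.rank) (hnd : cw.Nodup)
    (horth : ∀ i ∈ cw, ∀ j ∈ cw, i ≠ j → (tabOf D).refl (D.simple i) (D.simple j) = D.simple j)
    (hfixc : ∀ i ∈ cw, D.nroots / 2 ≤ (tabOf D).reflWord v (D.simple i))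
    {b₀ : GL D.Idx K} (hb₀ : b₀ ∈ D.borelSubgroup K) :
    ∀ L : List (ℕ × K), (L.map Prod.fst).Nodup →
      (∀ p ∈ L, p.1 < D.nroots ∧ (p.2 = 0 ∨ D.nroots / 2 ≤ p.1)) →
      ∃ X : List ℕ, X.Nodup ∧ (∀ j ∈ X, j ∈ cw ∧ D.simple j ∈ L.map Prod.fst) ∧
        (∀ p ∈ L, p.2 ≠ 0 → (∃ j ∈ cw, p.1 = D.simple j) → X ≠ []) ∧
        ∃ b₁ ∈ D.borelSubgroup K, ∃ b₂ ∈ D.borelSubgroup K,
          nWordGL C.g3.toGood2 cw * uw C L * (nWordGL C.g3.toGood2 cw)⁻¹ *
            (b₀ * nWordGL C.g3.toGood2 v) = b₁ * nWordGL C.g3.toGood2 (X ++ v) * b₂ := by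
  have hG := C.g3.toGood2
  have hG1 := C.g3.toGood1
  have hUB : D.posUnipotent K ≤ D.borelSubgroup K := le_sup_left
  set nc : GL D.Idx K := nWordGL hG cw with hnc
  intro L
  induction L with
  | nil =>
    intro _ _
    refine ⟨[], List.nodup_nil, by simp, by simp, b₀, hb₀, 1, one_mem _, ?_⟩
    rw [uw_nil]; simp
  | cons p L ih =>
    intro hndL hL
    rw [List.map_cons, List.nodup_cons] at hndL
    obtain ⟨hpL, hndL'⟩ := hndL
    have hL' : ∀ q ∈ L, q.1 < D.nroots ∧ (q.2 = 0 ∨ D.nroots / 2 ≤ q.1) :=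
      fun q hq => hL q (List.mem_cons_of_mem _ hq)
    obtain ⟨X, hXnd, hXmem, hXne, b₁, hb₁, b₂, hb₂, e⟩ := ih hndL' hL'
    obtain ⟨hplt, hp0⟩ := hL p List.mem_cons_self
    have hXcw : ∀ j ∈ X, j ∈ cw := fun j hj => (hXmem j hj).1
    have hXv : ∀ k ∈ X ++ v, k < D.rank := by
      intro k hk
      rcases List.mem_append.mp hk with h | h
      · exact hcw k (hXcw k h)
      · exact hv k h
    have esplit : nc * uw C (p :: L) * nc⁻¹ * (b₀ * nWordGL hG v) =
        (nc * ux C K p.1 p.2 * nc⁻¹) * (b₁ * nWordGL hG (X ++ v) * b₂) := by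
      rw [← e, uw_cons]; group
    have hy : nc * ux C K p.1 p.2 * nc⁻¹ = ux C K ((tabOf D).reflWord cw p.1) p.2 :=
      conj_ux C hcw hplt _
    -- the properties of `X` pass to the longer list
    have hXmem' : ∀ j ∈ X, j ∈ cw ∧ D.simple j ∈ (p :: L).map Prod.fst := by
      intro j hj
      exact ⟨(hXmem j hj).1, by rw [List.map_cons]; exact List.mem_cons_of_mem _ (hXmem j hj).2⟩
    by_cases hcase : p.2 ≠ 0 ∧ ∃ j ∈ cw, p.1 = D.simple j
    · obtain ⟨hp2, j, hjc, hpj⟩ := hcase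
      have hj := hcw j hjc
      have hjX : j ∉ X := by
        intro h
        apply hpL
        rw [hpj]
        exact (hXmem j h).2
      obtain ⟨b₄, hb₄, b₅, hb₅, ey⟩ := ux_neg_simple_mem (K := K) C hj hp2
      have hy' : nc * ux C K p.1 p.2 * nc⁻¹ =
          b₄ * nGL hG1 (hG1.simple_lt hj) * b₅ := by
        rw [hy, hpj, reflWord_ortho_self C hcw hnd horth hjc, ey]
      have hpos := cls_pos_rev C hv hrev hcw horth hfixc hXcw hjc hjX
      have s1 := mul_mem_doubleCoset_of_pos (F := K) hG C.t0 C.g3.t3 C.g3.t4 C.t5 C.t6 hj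
        (one_mem _) hXv hpos (mul_mem hb₅ hb₁)
      rw [one_mul] at s1
      obtain ⟨b₆, hb₆, b₇, hb₇, e₆⟩ := mem_doubleCoset.mp s1
      refine ⟨j :: X, List.nodup_cons.mpr ⟨hjX, hXnd⟩, ?_, ?_, b₄ * b₆, mul_mem hb₄ hb₆, b₇ * b₂,
        mul_mem hb₇ hb₂, ?_⟩
      · intro k hk
        rcases List.mem_cons.mp hk with rfl | hk
        · exact ⟨hjc, by rw [List.map_cons, ← hpj]; exact List.mem_cons_self⟩
        · exact hXmem' k hk
      · intro _ _ _ _
        exact List.cons_ne_nil _ _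
      · rw [esplit, hy', List.cons_append, nWordGL_cons hG hj]
        calc b₄ * nGL hG1 (hG1.simple_lt hj) * b₅ * (b₁ * nWordGL hG (X ++ v) * b₂)
            = b₄ * (nGL hG1 (hG1.simple_lt hj) * (b₅ * b₁) * nWordGL hG (X ++ v)) * b₂ := by group
          _ = b₄ * (b₆ * (nGL hG1 (hG1.simple_lt hj) * nWordGL hG (X ++ v)) * b₇) * b₂ := by rw [e₆]
          _ = _ := by group
    · have hyB : nc * ux C K p.1 p.2 * nc⁻¹ ∈ D.borelSubgroup K := by
        rw [hy]
        by_cases hp2 : p.2 = 0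
        · rw [hp2, ux_zero]; exact one_mem _
        · have hppos := hp0.resolve_left hp2
          have hne : ∀ j ∈ cw, p.1 ≠ D.simple j := by
            intro j hj h
            exact hcase ⟨hp2, j, hj, h⟩
          obtain ⟨h1, h2, _⟩ := reflWord_ortho_pos hG C.t0 C.t6 hcw horth (X := cw)
            (fun j hj => hj) hplt hppos hne
          exact hUB (ux_mem_pos C h1 h2 _)
      refine ⟨X, hXnd, hXmem', ?_, (nc * ux C K p.1 p.2 * nc⁻¹) * b₁, mul_mem hyB hb₁, b₂, hb₂, ?_⟩
      · intro q hq hq2 hqc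
        rcases List.mem_cons.mp hq with rfl | hq'
        · exact absurd ⟨hq2, hqc⟩ hcase
        · exact hXne q hq' hq2 hqc
      · rw [esplit]; group

end cls

section descent

variable (C : Ctx D) [CharP K 2]
  {ρ ρ' σ σ' : ℕ → ℕ} {ε : ℕ → ℤ} (h18 : T18 D ρ ρ' σ σ' ε) {cls : List (ℕ × ℕ)}
  (h19 : T19 D ρ σ cls) (f : K ≃+* K) {rk : ℕ → ℕ}

theorem clsFix_iff {v : List ℕ} {c : ℕ × ℕ} : (tabOf D).clsFix ρ v c = true ↔
    ∀ i ∈ clsWord ρ c, (tabOf D).psiP v (D.simple i) = true := by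
  unfold Tab.clsFix
  rw [List.all_eq_true]
  rfl

include h19 in
/-- Conjugating `n_v` by the reflections of a class fixed by `v`. -/
theorem conj_nw_tw {v : List ℕ} (hS : (tabOf D).SpecTw ρ cls rk v) {c : ℕ × ℕ} (hc : c ∈ cls)
    (hfix : (tabOf D).clsFix ρ v c = true) :
    ∃ h' ∈ D.diagonalSubgroup K,
      nWordGL C.g3.toGood2 (clsWord ρ c) * nWordGL C.g3.toGood2 v *
        (nWordGL C.g3.toGood2 (clsWord ρ c) : GL D.Idx K)⁻¹ = h' * nWordGL C.g3.toGood2 v := by
  have hG := C.g3.toGood2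
  obtain ⟨⟨hval, hb, hh⟩, hlow, hd, hg⟩ := hS
  have hvlt : ∀ j ∈ v, j < D.rank := hval
  have hcw := clsWord_lt h19 hc
  have hall : ∀ j ∈ clsWord ρ c ++ v ++ (clsWord ρ c).reverse, j < D.rank := by
    intro j hj
    rcases List.mem_append.mp hj with hj | hj
    · rcases List.mem_append.mp hj with hj | hj
      · exact hcw j hj
      · exact hvlt j hj
    · exact hcw j (List.mem_reverse.mp hj)
  obtain ⟨h₀, hh₀, e₀⟩ := nWordGL_eq_of_reflWord_eq (F := K) hG C.t0 C.t6 C.t8 hall hvlt (hd c hc hfix)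
  refine ⟨h₀, hh₀, ?_⟩
  rw [← e₀, nWordGL_append, nWordGL_append, nWordGL_reverse_char2 C _ hcw]

include h19 in
/-- Conjugating an element `x h n_v` by the reflections of a class fixed by `v`, when no factor of `x` belongs to a
root of the class. -/
theorem move_cls [DecidableEq K] {v : List ℕ} (hS : (tabOf D).SpecTw ρ cls rk v) {c : ℕ × ℕ} (hc : c ∈ cls)
    (hfix : (tabOf D).clsFix ρ v c = true) {L : List (ℕ × K)} {h : GL D.Idx K}
    (hgood : GoodL D v L) (hh : h ∈ D.diagonalSubgroup K)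
    (hgt : ∀ p ∈ L, p.2 = 0 ∨ ∀ i ∈ clsWord ρ c, p.1 ≠ D.simple i) :
    ∃ h' ∈ D.diagonalSubgroup K,
      GoodL D v ((L.filter fun p => decide (p.2 ≠ 0)).map
        fun p => ((tabOf D).reflWord (clsWord ρ c) p.1, p.2)) ∧
      nWordGL C.g3.toGood2 (clsWord ρ c) * (uw C L * h * nWordGL C.g3.toGood2 v) *
        (nWordGL C.g3.toGood2 (clsWord ρ c) : GL D.Idx K)⁻¹ =
      uw C ((L.filter fun p => decide (p.2 ≠ 0)).map
        fun p => ((tabOf D).reflWord (clsWord ρ c) p.1, p.2)) * h' * nWordGL C.g3.toGood2 v := by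
  have hG := C.g3.toGood2
  have hG1 := C.g3.toGood1
  have hcw := clsWord_lt h19 hc
  set nc : GL D.Idx K := nWordGL hG (clsWord ρ c) with hnc
  set n : GL D.Idx K := nWordGL hG v with hn
  have hncN : nc ∈ D.monomialSubgroup K := nWordGL_mem hG _
  have hncNorm := monomialSubgroup_le_normalizer hG hncN
  obtain ⟨h₁, hh₁, e₁⟩ := conj_nw_tw (K := K) C h19 hS hc hfix
  rw [← hnc, ← hn] at e₁
  obtain ⟨⟨hval, hb, hhrev⟩, hlow, hd, hg⟩ := hS
  refine ⟨(nc * h * nc⁻¹) * h₁, mul_mem (conj_mem_diagonal hncNorm hh) hh₁, ?_, ?_⟩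
  · constructor
    · rw [List.map_map]
      have : (Prod.fst ∘ fun p : ℕ × K => ((tabOf D).reflWord (clsWord ρ c) p.1, p.2)) =
          (tabOf D).reflWord (clsWord ρ c) ∘ Prod.fst := by
        funext p; rfl
      rw [this, ← List.map_map]
      have hnd := (List.filter_sublist (l := L) (p := fun p => decide (p.2 ≠ 0))).map Prod.fst |>.nodup hgood.1
      apply List.Nodup.map_on _ hnd
      intro a ha' b hb' hab
      obtain ⟨p, hp, rfl⟩ := List.mem_map.mp ha'
      obtain ⟨q, hq, rfl⟩ := List.mem_map.mp hb'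
      exact reflWord_injective hG hcw (hgood.2 p (List.mem_filter.mp hp).1).1
        (hgood.2 q (List.mem_filter.mp hq).1).1 hab
    · intro q hq
      obtain ⟨p, hp, rfl⟩ := List.mem_map.mp hq
      obtain ⟨hpL, hp0⟩ := List.mem_filter.mp hp
      have hp0' : p.2 ≠ 0 := by simpa using hp0
      obtain ⟨hplt, hpP⟩ := hgood.2 p hpL
      refine ⟨reflWord_lt hG hcw hplt, Or.inr ?_⟩
      have hP := hpP.resolve_left hp0'
      have hne := (hgt p hpL).resolve_left hp0'
      exact hg c hc hfix p.1 hplt hP hne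
  · have e₂ : nc * uw C L * nc⁻¹ =
        uw C ((L.filter fun p => decide (p.2 ≠ 0)).map
          fun p => ((tabOf D).reflWord (clsWord ρ c) p.1, p.2)) := by
      rw [← uw_filter_nz C L, hnc, conj_uw C hcw]
      intro p hp
      exact (hgood.2 p (List.mem_filter.mp hp).1).1
    calc nc * (uw C L * h * n) * nc⁻¹
        = (nc * uw C L * nc⁻¹) * (nc * h * nc⁻¹) * (nc * n * nc⁻¹) := by group
      _ = _ := by rw [e₂, e₁]; group

variable {W : List (List ℕ)} (hW : WList D W)

include h19 hW in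
/-- A factor at a root of a class fixed by `v` contradicts the maximality of the cell. -/
theorem simple_contra_tw {t : GL D.Idx K} {v : List ℕ} (hS : (tabOf D).SpecTw ρ cls rk v)
    (hmax : ∀ g' ∈ twG h18 f, ∀ w' ∈ W, InCell C.g3.toGood2 K (g' * t * g'⁻¹) w' →
      nMinus D w' ≤ nMinus D v)
    {c : ℕ × ℕ} (hc : c ∈ cls) (hfix : (tabOf D).clsFix ρ v c = true)
    {L : List (ℕ × K)} {h : GL D.Idx K}
    (hgood : GoodL D v L) (hh : h ∈ D.diagonalSubgroup K)
    (hconj : ∃ g ∈ twG h18 f, g * t * g⁻¹ = uw C L * h * nWordGL C.g3.toGood2 v)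
    {p : ℕ × K} (hp : p ∈ L) {i : ℕ} (hi : i ∈ clsWord ρ c) (hpi : p.1 = D.simple i) (hp0 : p.2 ≠ 0) :
    False := by
  have hG := C.g3.toGood2
  have hG1 := C.g3.toGood1
  have hHB : D.diagonalSubgroup K ≤ D.borelSubgroup K := le_sup_right
  have hcw := clsWord_lt h19 hc
  set nc : GL D.Idx K := nWordGL hG (clsWord ρ c) with hnc
  set n : GL D.Idx K := nWordGL hG v with hn
  have hncN : nc ∈ D.monomialSubgroup K := nWordGL_mem hG _
  have hncNorm := monomialSubgroup_le_normalizer hG hncN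
  obtain ⟨h₁, hh₁, e₁⟩ := conj_nw_tw (K := K) C h19 hS hc hfix
  rw [← hnc, ← hn] at e₁
  obtain ⟨⟨hval, hb, hhrev⟩, hlow, hd, hg⟩ := hS
  have hvlt : ∀ j ∈ v, j < D.rank := hval
  have hfixc : ∀ j ∈ clsWord ρ c, D.nroots / 2 ≤ (tabOf D).reflWord v (D.simple j) := by
    intro j hj
    exact (psiP_iff.mp (clsFix_iff.mp hfix j hj)).2
  have hb₀ : (nc * h * nc⁻¹) * h₁ ∈ D.borelSubgroup K :=
    hHB (mul_mem (conj_mem_diagonal hncNorm hh) hh₁)
  have hL : ∀ q ∈ L, q.1 < D.nroots ∧ (q.2 = 0 ∨ D.nroots / 2 ≤ q.1) := by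
    intro q hq
    obtain ⟨h1, h2⟩ := hgood.2 q hq
    refine ⟨h1, ?_⟩
    rcases h2 with h0 | hP
    · exact Or.inl h0
    · exact Or.inr (psiP_iff.mp hP).1.1
  obtain ⟨X, hXnd, hXmem, hXne, b₁, hb₁, b₂, hb₂, e⟩ := cls_conj_cell (K := K) C hvlt hhrev hcw
    (clsWord_nodup h19 hc) (clsWord_ortho h19 hc) hfixc hb₀ L hgood.1 hL
  rw [← hnc, ← hn] at e
  have hXcw : ∀ j ∈ X, j ∈ clsWord ρ c := fun j hj => (hXmem j hj).1
  have hXnil : X ≠ [] := hXne p hp hp0 ⟨i, hi, hpi⟩
  have hXv : ∀ k ∈ X ++ v, k < D.rank := by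
    intro k hk
    rcases List.mem_append.mp hk with h | h
    · exact hcw k (hXcw k h)
    · exact hvlt k h
  obtain ⟨g, hg', egt⟩ := hconj
  have hncG : nc ∈ twG h18 f := nWordGL_clsWord_mem_twG hG C.g3.t3 C.g3.t4 h18 h19 f hc
  have ecell : (nc * g) * t * (nc * g)⁻¹ = b₁ * nWordGL hG (X ++ v) * b₂ := by
    have e7 : (nc * g) * t * (nc * g)⁻¹ = nc * (g * t * g⁻¹) * nc⁻¹ := by group
    rw [e7, egt, ← e]
    calc nc * (uw C L * h * n) * nc⁻¹
        = nc * uw C L * nc⁻¹ * ((nc * h * nc⁻¹) * (nc * n * nc⁻¹)) := by group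
      _ = _ := by rw [e₁]; group
  obtain ⟨w₁, hw₁, hrefl, hc₁⟩ := inCell_of_mem hG C.t0 C.g3.t3 C.g3.t4 C.t5 C.t6 C.t8 C.t9
    hW hXv hb₁ hb₂ ecell
  have hle := hmax (nc * g) (mul_mem hncG hg') w₁ hw₁ hc₁
  have hcong : nMinus D w₁ = nMinus D (X ++ v) := nMinus_congr hrefl
  have hlen := nMinus_cls_append C hvlt hhrev hcw (clsWord_ortho h19 hc) hfixc X hXnd hXcw
  have hpos : 0 < X.length := List.length_pos_iff.mpr hXnil
  omega

include h19 hW in
/-- The descent: the factors of `x` in a conjugate `x h n_v` in a cell of maximal length are trivial. -/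
theorem descent_zero_tw {t : GL D.Idx K} {v : List ℕ} (hS : (tabOf D).SpecTw ρ cls rk v)
    (hmax : ∀ g' ∈ twG h18 f, ∀ w' ∈ W, InCell C.g3.toGood2 K (g' * t * g'⁻¹) w' →
      nMinus D w' ≤ nMinus D v) :
    ∀ m : ℕ, ∀ (L : List (ℕ × K)) (h : GL D.Idx K), GoodL D v L →
      h ∈ D.diagonalSubgroup K →
      (∃ g ∈ twG h18 f, g * t * g⁻¹ = uw C L * h * nWordGL C.g3.toGood2 v) →
      ∀ p ∈ L, p.2 = 0 ∨ m ≤ rk p.1 := by
  classical
  have hG := C.g3.toGood2
  have hG1 := C.g3.toGood1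
  intro m
  induction m with
  | zero =>
    intro L h _ _ _ p _
    exact Or.inr (Nat.zero_le _)
  | succ m ih =>
    intro L h hgood hh hconj p hp
    by_cases hp0 : p.2 = 0
    · exact Or.inl hp0
    right
    have hmp := (ih L h hgood hh hconj p hp).resolve_left hp0
    by_contra hlt
    have hpm : rk p.1 = m := by omega
    obtain ⟨hplt, hpP⟩ := hgood.2 p hp
    have hPp := hpP.resolve_left hp0
    rcases hS.2.1 p.1 hplt hPp with ⟨c, hc, hfix, i, hi, his⟩ | ⟨c, hc, hfix, hpos, hlow, hsk⟩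
    · exact simple_contra_tw C h18 h19 f hW hS hmax hc hfix hgood hh hconj hp hi his.symm hp0
    · have hgt : ∀ q ∈ L, q.2 = 0 ∨ ∀ i ∈ clsWord ρ c, q.1 ≠ D.simple i := by
        intro q hq
        rcases ih L h hgood hh hconj q hq with h0 | hge
        · exact Or.inl h0
        · right
          intro i hi hqi
          have := hsk i hi
          change rk (D.simple i) < rk p.1 at this
          rw [← hqi] at this
          omega
      obtain ⟨h', hh', hgood', emove⟩ := move_cls (K := K) C h19 hS hc hfix hgood hh hgt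
      obtain ⟨g, hg, egt⟩ := hconj
      set nc : GL D.Idx K := nWordGL hG (clsWord ρ c) with hnc
      have hncG : nc ∈ twG h18 f := nWordGL_clsWord_mem_twG hG C.g3.t3 C.g3.t4 h18 h19 f hc
      have hconj' : ∃ g' ∈ twG h18 f, g' * t * g'⁻¹ =
          uw C ((L.filter fun p => decide (p.2 ≠ 0)).map
            fun p => ((tabOf D).reflWord (clsWord ρ c) p.1, p.2)) * h' * nWordGL hG v := by
        refine ⟨nc * g, mul_mem hncG hg, ?_⟩
        rw [← emove, ← egt]
        group
      have hmem : ((tabOf D).reflWord (clsWord ρ c) p.1, p.2) ∈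
          (L.filter fun p => decide (p.2 ≠ 0)).map
            fun p => ((tabOf D).reflWord (clsWord ρ c) p.1, p.2) :=
        List.mem_map_of_mem (List.mem_filter.mpr ⟨hp, by simpa using hp0⟩)
      have := (ih _ h' hgood' hh' hconj' _ hmem).resolve_left hp0
      simp only at this
      omega

end descent

section main

variable (C : Ctx D) [CharP K 2]
  {ρ ρ' σ σ' : ℕ → ℕ} {ε : ℕ → ℤ} (h18 : T18 D ρ ρ' σ σ' ε) {cls : List (ℕ × ℕ)}
  (h19 : T19 D ρ σ cls) (f : K ≃+* K) {rk : ℕ → ℕ}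

include h19 in
/-- Every involution fixed by the twisting automorphism is conjugate, under the fixed points, to an involution of `N`
lying over a special involution of the Weyl group. -/
theorem inv_conj_N_tw (hperm : ((List.range D.rank).map ρ).Perm (List.range D.rank))
    (Spec : List (List ℕ)) (hSpec : ∀ v ∈ Spec, (tabOf D).SpecTw ρ cls rk v)
    (hclass : ∀ w : List ℕ, (∀ i ∈ w, i < D.rank) → SameAct D w.reverse w →
      (∀ s < D.nroots, (tabOf D).reflWord w (σ s) = σ ((tabOf D).reflWord w s)) →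
      (∀ c ∈ cls, (tabOf D).reflWord w (clsRoot D ρ c.1 0) < D.nroots / 2 ∨
        ∃ k < c.2, (tabOf D).reflWord w (clsRoot D ρ c.1 0) = clsRoot D ρ c.1 k) →
      ∃ v ∈ Spec, SameAct D w v)
    {t : GL D.Idx K} (ht : t ∈ twG h18 f) (ht2 : t * t = 1) :
    ∃ g ∈ twG h18 f, ∃ v ∈ Spec, ∃ h ∈ D.diagonalSubgroup K,
      g * t * g⁻¹ = h * nWordGL C.g3.toGood2 v := by
  have hG := C.g3.toGood2
  obtain ⟨W, hW⟩ := exists_wList hG C.t0 C.t6 C.t8
  obtain ⟨g₀, hg₀, w, hwW, hc, hmax⟩ := exists_max_cell_sub (F := K) hG C.t0 C.g3.t3 C.g3.t4 C.t5 C.t6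
    C.t8 C.t9 hW (twG h18 f) (twG_le_group h18 f) ht
  obtain ⟨hinv, hσ, hspec⟩ := special_of_max_tw hG C.t0 C.g3.t3 C.g3.t4 C.t5 C.t6 C.t8 C.t9 h18 h19 f hW
    hperm ht ht2 hg₀ hwW hc hmax
  have hwlt := (hW.ok w hwW).1
  obtain ⟨v, hv, hwv⟩ := hclass w hwlt hinv hσ hspec
  have hS := hSpec v hv
  have hvlt : ∀ i ∈ v, i < D.rank := hS.1.1
  have hcv : InCell hG K (g₀ * t * g₀⁻¹) v := inCell_of_sameAct C hwlt hvlt hwv hc
  have hmax' : ∀ g' ∈ twG h18 f, ∀ w' ∈ W, InCell hG K (g' * t * g'⁻¹) w' →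
      nMinus D w' ≤ nMinus D v := by
    intro g' hg' w' hw' hc'
    rw [← nMinus_congr hwv]
    exact hmax g' hg' w' hw' hc'
  set t₁ := g₀ * t * g₀⁻¹ with ht₁
  have ht₁G : t₁ ∈ twG h18 f := mul_mem (mul_mem hg₀ ht) (inv_mem hg₀)
  have ht₁2 : t₁ * t₁ = 1 := by
    calc t₁ * t₁ = g₀ * (t * t) * g₀⁻¹ := by rw [ht₁]; group
      _ = 1 := by rw [ht2]; group
  obtain ⟨g₁, hg₁, L, h, hgood, hh, e⟩ := cell_shape_tw C h18 h19 f hperm ht₁G ht₁2 hS.1 hcv
  have hconj : ∃ g ∈ twG h18 f, g * t * g⁻¹ = uw C L * h * nWordGL hG v := by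
    refine ⟨g₁ * g₀, mul_mem hg₁ hg₀, ?_⟩
    rw [← e, ht₁]; group
  have hone : uw C L = 1 := by
    apply uw_eq_one_of_zero
    intro p hp
    rcases descent_zero_tw C h18 h19 f hW hS hmax' (rk p.1 + 1) L h hgood hh hconj p hp with h0 | h48
    · exact h0
    · omega
  obtain ⟨g, hg, egt⟩ := hconj
  exact ⟨g, hg, v, hv, h, hh, by rw [egt, hone, one_mul]⟩

end main

end Cfsg.Agent.Helper7.Chev
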