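import Mathlib
import Cfsg.Agent.Helper7.ChevTwInvE
import Cfsg.Agent.Helper7.ChevInvM

set_option autoImplicit false
set_option linter.unusedSectionVars false
set_option linter.unusedVariables false
set_option maxHeartbeats 1000000

/-!
Twisted groups in characteristic two: conjugacy under the fixed points of the twisting automorphism. An involution of
`N` lying over a product of reflections in pairwise orthogonal roots permuted by the twist is conjugate to the product
of the root elements `x_r(1)` of these roots; paths of conjugations of such products by fixed products of root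
elements and by elements of `N` of words in the classes; a conjugation by an element with a parameter of trace one.
-/

namespace Cfsg.Agent.Helper7.Chev

open Cfsg Cfsg.Lie Matrix DoubleCoset
open scoped Pointwise

variable {D : ChevalleyDatum} {K : Type*} [Field K]

section tconj

variable {ρ ρ' σ σ' : ℕ → ℕ} {ε : ℕ → ℤ} (h18 : T18 D ρ ρ' σ σ' ε) (f : K ≃+* K)

/-- Conjugacy under the fixed points of the twisting automorphism in the Chevalley group. -/
def TConj (h18 : T18 D ρ ρ' σ σ' ε) (f : K ≃+* K) (X Y : GL D.Idx K) : Prop :=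
  ∃ g ∈ twG h18 f, g * X * g⁻¹ = Y

theorem TConj.refl (X : GL D.Idx K) : TConj h18 f X X := ⟨1, one_mem _, by group⟩

theorem TConj.trans {X Y Z : GL D.Idx K} (h1 : TConj h18 f X Y) (h2 : TConj h18 f Y Z) :
    TConj h18 f X Z := by
  obtain ⟨g, hg, e⟩ := h1
  obtain ⟨g', hg', e'⟩ := h2
  refine ⟨g' * g, mul_mem hg' hg, ?_⟩
  rw [← e', ← e]
  group

theorem TConj.symm {X Y : GL D.Idx K} (h : TConj h18 f X Y) : TConj h18 f Y X := by
  obtain ⟨g, hg, e⟩ := h
  refine ⟨g⁻¹, inv_mem hg, ?_⟩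
  rw [← e]
  group

theorem TConj.gconj {X Y : GL D.Idx K} (h : TConj h18 f X Y) : GConj D X Y := by
  obtain ⟨g, hg, e⟩ := h
  exact ⟨g, hg.2, e⟩

end tconj

section fixedwords

variable (C : Ctx D) [CharP K 2]
  {ρ ρ' σ σ' : ℕ → ℕ} {ε : ℕ → ℤ} (h18 : T18 D ρ ρ' σ σ' ε) (f : K ≃+* K)

/-- The image of a root element under the twisting automorphism, in characteristic two. -/
theorem twAut_ux {r : ℕ} (hr : r < D.nroots) (t : K) :
    twAut h18 f (ux C K r t) = ux C K (σ r) (f t) := by
  have hG1 := C.g3.toGood1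
  rw [ux_of_lt C hr, ux_of_lt C (h18.sigma r hr).1, twAut_xGL hG1 h18 f hr]
  congr 1
  have hε : ((ε r : ℤ) : K) = 1 := by
    rcases (h18.eps r hr).1 with h | h
    · rw [h]; simp
    · rw [h]
      have h2 : (2 : K) = 0 := CharTwo.two_eq_zero
      push_cast
      linear_combination (-1 : K) * h2
  rw [hε, one_mul]

/-- The image of a product of root elements `x_r(1)` under the twisting automorphism. -/
theorem twAut_uw1 (R : List ℕ) (hR : ∀ r ∈ R, r < D.nroots) :
    twAut h18 f (uw1 C K R) = uw1 C K (R.map σ) := by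
  induction R with
  | nil => rw [List.map_nil, uw1_nil, map_one]
  | cons r R ih =>
    rw [List.map_cons, uw1_cons, uw1_cons, map_mul, ih fun s hs => hR s (List.mem_cons_of_mem _ hs),
      twAut_ux C h18 f (hR r List.mem_cons_self), map_one]

/-- A product of root elements `x_r(1)` over a list of roots stable under the permutation of the roots, up to
collection, is a fixed point. -/
theorem uw1_mem_twG {R : List ℕ} (hR : ∀ r ∈ R, r < D.nroots) (fuel : ℕ)
    (h : (tabOf D).norm fuel (R.map σ) = (tabOf D).norm fuel R) : uw1 C K R ∈ twG h18 f := by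
  refine (mem_twG h18 f).mpr ⟨?_, uw1_mem_group C R⟩
  rw [twAut_uw1 C h18 f R hR]
  exact uw1_eq_of_norm C fuel h

/-- The inverse of a product of root elements `x_r(1)`. -/
theorem uw1_inv (R : List ℕ) : (uw1 C K R)⁻¹ = uw1 C K R.reverse := by
  induction R with
  | nil => simp [uw1_nil]
  | cons r R ih =>
    rw [List.reverse_cons, uw1_append, uw1_cons, uw1_cons, uw1_nil, mul_one, _root_.mul_inv_rev, ih,
      ux_inv' C]

end fixedwords

section npart

variable (C : Ctx D) [CharP K 2]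
  {ρ ρ' σ σ' : ℕ → ℕ} {ε : ℕ → ℤ} (h18 : T18 D ρ ρ' σ σ' ε) (f : K ≃+* K)

include C in
/-- Two involutions in the same coset of the torus in `N` are conjugate under a power of their quotient. -/
theorem torus_conj_inv_pow [Fintype K] {k m : GL D.Idx K} (hk : k ∈ D.diagonalSubgroup K)
    (hm : m * m = 1) (hkm : (k * m) * (k * m) = 1) :
    ∃ e : ℕ, k ^ e * m * (k ^ e)⁻¹ = k * m := by
  obtain ⟨N, hN, hkN⟩ := torus_odd C hk
  obtain ⟨a, rfl⟩ := hN
  have hminv : m⁻¹ = m := inv_eq_of_mul_eq_one_left hm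
  have hconj : m * k * m⁻¹ = k⁻¹ := by
    have : k * (m * k * m) = 1 := by
      calc k * (m * k * m) = (k * m) * (k * m) := by group
        _ = 1 := hkm
    rw [hminv]
    exact (inv_eq_of_mul_eq_one_right this).symm
  have hpow : ∀ e : ℕ, m * k ^ e * m⁻¹ = (k ^ e)⁻¹ := by
    intro e
    induction e with
    | zero => simp
    | succ e ih =>
      calc m * k ^ (e + 1) * m⁻¹ = (m * k ^ e * m⁻¹) * (m * k * m⁻¹) := by rw [pow_succ]; group
        _ = (k ^ e)⁻¹ * k⁻¹ := by rw [ih, hconj]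
        _ = (k ^ (e + 1))⁻¹ := by
          rw [pow_succ, _root_.mul_inv_rev]
          have : Commute (k ^ e)⁻¹ k⁻¹ := ((Commute.refl k).pow_left e).inv_inv
          exact this.eq
  refine ⟨a + 1, ?_⟩
  have hsq : k ^ (a + 1) * k ^ (a + 1) = k := by
    rw [← pow_add]
    have : a + 1 + (a + 1) = (2 * a + 1) + 1 := by ring
    rw [this, pow_succ, hkN, one_mul]
  calc k ^ (a + 1) * m * (k ^ (a + 1))⁻¹
      = k ^ (a + 1) * (m * k ^ (a + 1) * m⁻¹)⁻¹ * m := by group
    _ = k ^ (a + 1) * k ^ (a + 1) * m := by rw [hpow, inv_inv]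
    _ = k * m := by rw [hsq]

/-- A fixed involution of `N` lying over the product of the reflections in pairwise orthogonal roots permuted by the
twist is conjugate, under the fixed points, to the product of the root elements `x_r(1)`. -/
theorem inv_N_conj_tw [Fintype K] {w : List ℕ} (Ds : List (List ℕ × ℕ)) (hD : (tabOf D).DataOK w Ds)
    (hw : ∀ i ∈ w, i < D.rank) (fuel : ℕ)
    (hP : (tabOf D).norm fuel ((Ds.map (tabOf D).dP).map σ) = (tabOf D).norm fuel (Ds.map (tabOf D).dP))
    (hQ : (tabOf D).norm fuel ((Ds.map (tabOf D).dQ).map σ) = (tabOf D).norm fuel (Ds.map (tabOf D).dQ))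
    (hPlt : ∀ r ∈ Ds.map (tabOf D).dP, r < D.nroots) (hQlt : ∀ r ∈ Ds.map (tabOf D).dQ, r < D.nroots)
    {h : GL D.Idx K} (hh : h ∈ D.diagonalSubgroup K)
    (hfix : h * nWordGL C.g3.toGood2 w ∈ twG h18 f)
    (hinv : (h * nWordGL C.g3.toGood2 w) * (h * nWordGL C.g3.toGood2 w) = 1) :
    TConj h18 f (h * nWordGL C.g3.toGood2 w) (uw1 C K (Ds.map (tabOf D).dP)) := by
  have hG := C.g3.toGood2
  have hG1 := C.g3.toGood1
  obtain ⟨hval, hpw, hPP, hrefl⟩ := hD
  have hval' : ∀ d ∈ Ds, (∀ i ∈ d.1, i < D.rank) ∧ d.2 < D.rank := hval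
  have eX : uw C (Ds.map fun d => ((tabOf D).dP d, (1 : K))) = uw1 C K (Ds.map (tabOf D).dP) := by
    unfold uw1; rw [List.map_map]; rfl
  have eY : uw C (Ds.map fun d => ((tabOf D).dQ d, (1 : K))) = uw1 C K (Ds.map (tabOf D).dQ) := by
    unfold uw1; rw [List.map_map]; rfl
  set X := uw1 C K (Ds.map (tabOf D).dP) with hX
  set Y := uw1 C K (Ds.map (tabOf D).dQ) with hY
  have hXG : X ∈ twG h18 f := uw1_mem_twG C h18 f hPlt fuel hP
  have hYG : Y ∈ twG h18 f := uw1_mem_twG C h18 f hQlt fuel hQ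
  have hbig : ∀ i ∈ dBig Ds, i < D.rank := by
    intro i hi
    unfold dBig at hi
    obtain ⟨d, hd, hi⟩ := List.mem_flatMap.mp hi
    obtain ⟨hv, hd2⟩ := hval' d hd
    unfold dWord at hi
    rcases List.mem_append.mp hi with hi | hi
    · rcases List.mem_append.mp hi with hi | hi
      · exact hv i hi
      · rw [List.mem_singleton] at hi; rw [hi]; exact hd2
    · exact hv i (List.mem_reverse.mp hi)
  have eN : (nWordGL hG (dBig Ds) : GL D.Idx K) = Y * X * Y⁻¹ := by
    rw [nWordGL_dBig C Ds hval' hpw, eX, eY]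
  have hXX : X * X = 1 := by
    rw [← eX]
    apply uw_sq_of_comm
    rw [List.pairwise_map]
    exact hPP
  set ñ : GL D.Idx K := nWordGL hG (dBig Ds) with hñ
  have hñG : ñ ∈ twG h18 f := by
    rw [eN]
    exact mul_mem (mul_mem hYG hXG) (inv_mem hYG)
  have hññ : ñ * ñ = 1 := by
    rw [eN]
    calc Y * X * Y⁻¹ * (Y * X * Y⁻¹) = Y * (X * X) * Y⁻¹ := by group
      _ = 1 := by rw [hXX]; group
  obtain ⟨h₀, hh₀, e₀⟩ := nWordGL_eq_of_reflWord_eq (F := K) hG C.t0 C.t6 C.t8 hbig hw hrefl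
  rw [← hñ] at e₀
  have ek : h * nWordGL hG w = (h * h₀⁻¹) * ñ := by rw [e₀]; group
  have hk : h * h₀⁻¹ ∈ D.diagonalSubgroup K := mul_mem hh (inv_mem hh₀)
  have hkG : h * h₀⁻¹ ∈ twG h18 f := by
    have : h * h₀⁻¹ = (h * nWordGL hG w) * ñ⁻¹ := by rw [ek]; group
    rw [this]
    exact mul_mem hfix (inv_mem hñG)
  rw [ek] at hinv
  obtain ⟨e, ej⟩ := torus_conj_inv_pow C hk hññ hinv
  refine ⟨((h * h₀⁻¹) ^ e * Y)⁻¹, inv_mem (mul_mem (Subgroup.pow_mem _ hkG e) hYG), ?_⟩
  rw [ek, ← ej, eN]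
  group

end npart

section moves

variable (C : Ctx D) [CharP K 2]
  {ρ ρ' σ σ' : ℕ → ℕ} {ε : ℕ → ℤ} (h18 : T18 D ρ ρ' σ σ' ε) {cls : List (ℕ × ℕ)}
  (h19 : T19 D ρ σ cls) (f : K ≃+* K)

/-- Conjugation by a fixed product of root elements `x_s(1)`, checked by collection. -/
theorem tconj_x {S : List ℕ} (hS : ∀ r ∈ S, r < D.nroots) {L L' : List ℕ} (fuel : ℕ)
    (hσ : (tabOf D).norm fuel (S.map σ) = (tabOf D).norm fuel S)
    (h : (tabOf D).norm fuel (S ++ L ++ S.reverse) = (tabOf D).norm fuel L') :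
    TConj h18 f (uw1 C K L) (uw1 C K L') := by
  refine ⟨uw1 C K S, uw1_mem_twG C h18 f hS fuel hσ, ?_⟩
  rw [uw1_inv C, ← uw1_eq_of_norm C fuel h, uw1_append, uw1_append]

include h19 in
/-- Conjugation by the element of `N` of a word in the classes. -/
theorem tconj_n {Lc : List (ℕ × ℕ)} (hLc : ∀ c ∈ Lc, c ∈ cls) (R R' : List ℕ)
    (hR : ∀ r ∈ R, r < D.nroots) (fuel : ℕ)
    (h : (tabOf D).norm fuel (R.map ((tabOf D).reflWord (Lc.flatMap (clsWord ρ)))) =
      (tabOf D).norm fuel R') :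
    TConj h18 f (uw1 C K R) (uw1 C K R') := by
  have hw := flatMap_clsWord_lt h19 hLc
  refine ⟨nWordGL C.g3.toGood2 (Lc.flatMap (clsWord ρ)),
    nWordGL_flatMap_mem_twG C.g3.toGood2 C.g3.t3 C.g3.t4 h18 h19 f hLc, ?_⟩
  rw [← uw1_eq_of_norm C fuel h]
  unfold uw1
  rw [conj_uw C hw, List.map_map, List.map_map]
  · rfl
  · intro p hp
    obtain ⟨r, hr, rfl⟩ := List.mem_map.mp hp
    exact hR r hr

end moves

namespace Tab

/-- One operation on a word in the root elements `x_r(1)`: conjugation by a product of root elements `x_s(1)` over a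
list stable under the permutation `σ` of the roots, or by the element of `N` of a word in the classes; the result is
given up to collection. -/
def OpTw (T : Tab) (ρ σ : ℕ → ℕ) (cls : List (ℕ × ℕ)) (fuel : ℕ) (L : List ℕ)
    (op : List ℕ ⊕ List (ℕ × ℕ)) (L' : List ℕ) : Prop :=
  match op with
  | Sum.inl S => (∀ r ∈ S, r < T.n) ∧ T.norm fuel (S.map σ) = T.norm fuel S ∧
      T.norm fuel (S ++ L ++ S.reverse) = T.norm fuel L'
  | Sum.inr Lc => (∀ c ∈ Lc, c ∈ cls) ∧ (∀ r ∈ L, r < T.n) ∧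
      T.norm fuel (L.map (T.reflWord (Lc.flatMap (clsWord ρ)))) = T.norm fuel L'

instance (T : Tab) (ρ σ : ℕ → ℕ) (cls : List (ℕ × ℕ)) (fuel : ℕ) (L : List ℕ)
    (op : List ℕ ⊕ List (ℕ × ℕ)) (L' : List ℕ) : Decidable (T.OpTw ρ σ cls fuel L op L') := by
  unfold OpTw
  cases op with
  | inl S => exact inferInstanceAs (Decidable (_ ∧ _ ∧ _))
  | inr Lc => exact inferInstanceAs (Decidable (_ ∧ _ ∧ _))

/-- A path of operations, each with its result. -/
def PathTw (T : Tab) (ρ σ : ℕ → ℕ) (cls : List (ℕ × ℕ)) (fuel : ℕ) :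
    List ℕ → List ((List ℕ ⊕ List (ℕ × ℕ)) × List ℕ) → Prop
  | _, [] => True
  | L, p :: rest => T.OpTw ρ σ cls fuel L p.1 p.2 ∧ PathTw T ρ σ cls fuel p.2 rest

/-- The end of a path. -/
def pathEndTw : List ℕ → List ((List ℕ ⊕ List (ℕ × ℕ)) × List ℕ) → List ℕ
  | L, [] => L
  | _, p :: rest => pathEndTw p.2 rest

/-- The decision procedure for the paths. -/
def decPathTw (T : Tab) (ρ σ : ℕ → ℕ) (cls : List (ℕ × ℕ)) (fuel : ℕ) :
    ∀ (L : List ℕ) (path : List ((List ℕ ⊕ List (ℕ × ℕ)) × List ℕ)),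
      Decidable (T.PathTw ρ σ cls fuel L path)
  | _, [] => isTrue trivial
  | L, p :: rest =>
    match (inferInstance : Decidable (T.OpTw ρ σ cls fuel L p.1 p.2)),
      decPathTw T ρ σ cls fuel p.2 rest with
    | isTrue h1, isTrue h2 => isTrue ⟨h1, h2⟩
    | isFalse h1, _ => isFalse fun h => h1 h.1
    | _, isFalse h2 => isFalse fun h => h2 h.2

instance (T : Tab) (ρ σ : ℕ → ℕ) (cls : List (ℕ × ℕ)) (fuel : ℕ) (L : List ℕ)
    (path : List ((List ℕ ⊕ List (ℕ × ℕ)) × List ℕ)) : Decidable (T.PathTw ρ σ cls fuel L path) :=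
  decPathTw T ρ σ cls fuel L path

end Tab

section paths

variable (C : Ctx D) [CharP K 2]
  {ρ ρ' σ σ' : ℕ → ℕ} {ε : ℕ → ℤ} (h18 : T18 D ρ ρ' σ σ' ε) {cls : List (ℕ × ℕ)}
  (h19 : T19 D ρ σ cls) (f : K ≃+* K)

include h19 in
theorem tconj_of_opTw {fuel : ℕ} {L : List ℕ} {op : List ℕ ⊕ List (ℕ × ℕ)} {L' : List ℕ}
    (h : (tabOf D).OpTw ρ σ cls fuel L op L') : TConj h18 f (uw1 C K L) (uw1 C K L') := by
  cases op with
  | inl S =>
    obtain ⟨h1, h2, h3⟩ := h
    exact tconj_x C h18 f h1 fuel h2 h3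
  | inr Lc =>
    obtain ⟨h1, h2, h3⟩ := h
    exact tconj_n C h18 h19 f h1 L L' h2 fuel h3

include h19 in
/-- The two ends of a path are conjugate under the fixed points. -/
theorem tconj_of_pathTw {fuel : ℕ} :
    ∀ (path : List ((List ℕ ⊕ List (ℕ × ℕ)) × List ℕ)) (L : List ℕ),
      (tabOf D).PathTw ρ σ cls fuel L path →
      TConj h18 f (uw1 C K L) (uw1 C K (Tab.pathEndTw L path)) := by
  intro path
  induction path with
  | nil => intro L _; exact TConj.refl h18 f _
  | cons p rest ih =>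
    intro L h
    obtain ⟨h1, h2⟩ := h
    exact (tconj_of_opTw C h18 h19 f h1).trans h18 f (ih p.2 h2)

end paths

section trace

variable (C : Ctx D) [CharP K 2]
  {ρ ρ' σ σ' : ℕ → ℕ} {ε : ℕ → ℤ} (h18 : T18 D ρ ρ' σ σ' ε) (f : K ≃+* K)

theorem trace_calc {G : Type*} [Group G] (A A' R R' Tu Tu' : G) (h1 : A * R = R * A)
    (h2 : A' * R' = R' * A') (h3 : A * R' = R' * A * Tu) (h4 : A' * R = R * A' * Tu')
    (c1 : Tu' * R' = R' * Tu') (c2 : Tu * A' = A' * Tu) (c3 : Tu * A = A * Tu) (c4 : Tu' * A = A * Tu')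
    (c5 : Tu' * A' = A' * Tu') :
    A * A' * (R * R') * (A * A')⁻¹ = R * R' * (Tu * Tu') := by
  have e : A * A' * (R * R') = R * R' * (Tu * Tu') * (A * A') := by
    calc A * A' * (R * R') = A * (A' * R) * R' := by group
      _ = A * (R * A' * Tu') * R' := by rw [h4]
      _ = (A * R) * A' * (Tu' * R') := by group
      _ = (R * A) * A' * (R' * Tu') := by rw [h1, c1]
      _ = R * A * (A' * R') * Tu' := by group
      _ = R * A * (R' * A') * Tu' := by rw [h2]
      _ = R * (A * R') * A' * Tu' := by group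
      _ = R * (R' * A * Tu) * A' * Tu' := by rw [h3]
      _ = R * R' * A * (Tu * A') * Tu' := by group
      _ = R * R' * A * (A' * Tu) * Tu' := by rw [c2]
      _ = R * R' * A * A' * (Tu * Tu') := by group
      _ = R * R' * (Tu * Tu') * (A * A') := by
        have e1 : (Tu * Tu') * (A * A') = (A * A') * (Tu * Tu') := by
          calc (Tu * Tu') * (A * A') = Tu * (Tu' * A) * A' := by group
            _ = Tu * (A * Tu') * A' := by rw [c4]
            _ = (Tu * A) * (Tu' * A') := by group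
            _ = (A * Tu) * (A' * Tu') := by rw [c3, c5]
            _ = A * (Tu * A') * Tu' := by group
            _ = A * (A' * Tu) * Tu' := by rw [c2]
            _ = _ := by group
        calc R * R' * A * A' * (Tu * Tu') = R * R' * ((A * A') * (Tu * Tu')) := by group
          _ = R * R' * ((Tu * Tu') * (A * A')) := by rw [e1]
          _ = _ := by group
  rw [e]; group

/-- The swap of two root elements whose commutator has a single term, of odd coefficient and of exponents one, in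
characteristic two. -/
theorem ux_swap_single {r s t : ℕ} (hr : r < D.nroots) (hs : s < D.nroots) (hsr : s ≠ r)
    (hsn : s ≠ D.neg r)
    (hterm : ((tabOf D).commTerms r s).map (fun c => (c.1, c.2.1 % 2, c.2.2)) = [(t, 1, 1, 1)])
    (a b : K) : ux C K s b * ux C K r a = ux C K r a * ux C K s b * ux C K t (a * b) := by
  have hcm := comm_all (F := K) C.g3.toGood2 C.g3.t3 C.g3.t4 hr hs hsr hsn a b
  have e1 : D.commWord K r s a b = [(t, a * b)] := by
    unfold ChevalleyDatum.commWord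
    rw [← commTerms_eq]
    cases hct : (tabOf D).commTerms r s with
    | nil => rw [hct] at hterm; simp at hterm
    | cons c rest =>
      rw [hct] at hterm
      rw [List.map_cons, List.cons.injEq] at hterm
      obtain ⟨h1, h2⟩ := hterm
      have hrest : rest = [] := by
        cases rest with
        | nil => rfl
        | cons _ _ => simp at h2
      subst hrest
      simp only [Prod.mk.injEq] at h1
      obtain ⟨hc1, hc2, hc34⟩ := h1
      have hc3 : c.2.2.1 = 1 := by rw [hc34]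
      have hc4 : c.2.2.2 = 1 := by rw [hc34]
      rw [List.map_cons, List.map_nil, hc1, hc3, hc4, cast_odd_emod_char2 hc2]
      have hneg : (-a : K) = a := by
        have h2' : (2 : K) = 0 := CharTwo.two_eq_zero
        linear_combination (-a) * h2'
      rw [hneg]
      simp
  apply Units.ext
  simp only [Units.val_mul, ux_coe]
  rw [hcm, e1]
  unfold ChevalleyDatum.wordMat
  simp

/-- A conjugation by an element `x_a(u) x_{a'}(u')` with `u + u' = 1`: it multiplies `x_r(1) x_{r'}(1)` by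
`x_t(1)`. -/
theorem trace_conj {a a' r r' t : ℕ} (ha : a < D.nroots) (ha' : a' < D.nroots) (hr : r < D.nroots)
    (hr' : r' < D.nroots) (hσa : σ a = a') (hσa' : σ a' = a)
    (caa' : (tabOf D).commOK a a' = true) (car : (tabOf D).commOK a r = true)
    (ca'r' : (tabOf D).commOK a' r' = true)
    (cta : (tabOf D).commOK t a = true) (cta' : (tabOf D).commOK t a' = true)
    (ctr' : (tabOf D).commOK t r' = true)
    (h3n : a ≠ r' ∧ a ≠ D.neg r') (h4n : a' ≠ r ∧ a' ≠ D.neg r)
    (h3 : ((tabOf D).commTerms r' a).map (fun c => (c.1, c.2.1 % 2, c.2.2)) = [(t, 1, 1, 1)])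
    (h4 : ((tabOf D).commTerms r a').map (fun c => (c.1, c.2.1 % 2, c.2.2)) = [(t, 1, 1, 1)])
    {u : K} (hff : f (f u) = u) (hu : u + f u = 1) :
    TConj h18 f (uw1 C K [r, r']) (uw1 C K [r, r', t]) := by
  set A := ux C K a u with hA
  set A' := ux C K a' (f u) with hA'
  have hAA' : A * A' = A' * A := ux_comm_of_ok C caa' _ _
  have hg : A * A' ∈ twG h18 f := by
    refine (mem_twG h18 f).mpr ⟨?_, mul_mem (ux_mem_group C _ _) (ux_mem_group C _ _)⟩
    rw [map_mul, hA, hA', twAut_ux C h18 f ha, twAut_ux C h18 f ha', hσa, hσa', hff]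
    exact (hAA').symm
  refine ⟨A * A', hg, ?_⟩
  have e1 : uw1 C K [r, r'] = ux C K r 1 * ux C K r' 1 := by
    rw [uw1_cons, uw1_cons, uw1_nil, mul_one]
  have e2 : uw1 C K [r, r', t] = ux C K r 1 * ux C K r' 1 * (ux C K t u * ux C K t (f u)) := by
    rw [uw1_cons, uw1_cons, uw1_cons, uw1_nil, mul_one, ux_add, hu, mul_assoc]
  rw [e1, e2]
  apply trace_calc
  · exact ux_comm_of_ok C car _ _
  · exact ux_comm_of_ok C ca'r' _ _
  · have := ux_swap_single C hr' ha h3n.1 h3n.2 h3 (1 : K) u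
    rw [one_mul] at this
    exact this
  · have := ux_swap_single C hr ha' h4n.1 h4n.2 h4 (1 : K) (f u)
    rw [one_mul] at this
    exact this
  · exact ux_comm_of_ok C ctr' _ _
  · exact ux_comm_of_ok C cta' _ _
  · exact ux_comm_of_ok C cta _ _
  · exact ux_comm_of_ok C cta _ _
  · exact ux_comm_of_ok C cta' _ _

end trace

end Cfsg.Agent.Helper7.Chev
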