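import Mathlib
import Cfsg.Agent.Helper7.ChevWB2c0

set_option autoImplicit false
set_option maxRecDepth 1000000
set_option maxHeartbeats 4000000

/-! The certificate for the Weyl group of type B2. -/

namespace Cfsg.Agent.Helper7.Chev

open Cfsg Cfsg.Lie

theorem wClosed_B2 : closedF chevB2 wR_B2 wL_B2 wN_B2 = true := by
  apply closedF_of_chunks chevB2 wR_B2 wL_B2 wN_B2 192 1
  · intro j hj
    interval_cases j
    · exact wClosed_B2_0
  · decide +kernel

theorem wCert_B2 : WCert chevB2 wR_B2 wL_B2 wN_B2 wK_B2 :=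
  ⟨wRefl_B2, rfl, by decide +kernel, wOk_B2, wClosed_B2, wKeys_B2, wNodup_B2⟩

end Cfsg.Agent.Helper7.Chev
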