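import Cfsg.Agent.Helper7.CoxGen

set_option autoImplicit false

/-! The centre of a finite Coxeter group from a faithful integral reflection representation. -/

namespace Cfsg.Agent.Helper7.CoxEnum

variable {n : ℕ}

theorem mul_Smat_apply (A : Nat → Nat → Int) (X : Matrix (Fin n) (Fin n) ℤ) (j r col : Fin n) :
    (X * Smat A j) r col = X r col - X r j * A j col := by
  rw [Matrix.mul_apply_eq_vecMul, vecMul_Smat]

theorem Smat_mul_apply (A : Nat → Nat → Int) (X : Matrix (Fin n) (Fin n) ℤ) (j r col : Fin n) :
    (Smat A j * X) r col = X r col - (if r = j then ∑ k : Fin n, A j k * X k col else 0) := by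
  rw [Matrix.mul_apply]
  simp only [Smat, sub_mul, Finset.sum_sub_distrib, ite_mul, one_mul, zero_mul,
    Finset.sum_ite_eq, Finset.mem_univ, if_true]
  congr 1
  split_ifs with h
  · rfl
  · simp

/-- A matrix commuting with all the reflections of a connected diagram is scalar. -/
theorem scalar_of_commute (A : Nat → Nat → Int) (hdiag : ∀ j : Fin n, A j j = 2)
    (par : Fin n → Fin n) (z0 : Fin n) (hpar : ∀ j : Fin n, par j = j ∨ A j (par j) ≠ 0)
    (hroot : ∀ j : Fin n, par^[n] j = z0)
    (X : Matrix (Fin n) (Fin n) ℤ) (hX : ∀ j, X * Smat A j = Smat A j * X) :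
    X = X z0 z0 • (1 : Matrix (Fin n) (Fin n) ℤ) := by
  have hoff : ∀ r j : Fin n, r ≠ j → X r j = 0 := by
    intro r j hrj
    have h := congrFun (congrFun (hX j) r) j
    rw [mul_Smat_apply, Smat_mul_apply, if_neg hrj, hdiag, sub_zero] at h
    have h2 : X r j * 2 = 0 := by linarith
    have : (2 : ℤ) ≠ 0 := by norm_num
    exact (mul_eq_zero.1 h2).resolve_right this
  have hadj : ∀ j col : Fin n, A j col ≠ 0 → X j j = X col col := by
    intro j col hA
    have h := congrFun (congrFun (hX j) j) col
    rw [mul_Smat_apply, Smat_mul_apply, if_pos rfl] at h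
    have hs : ∑ k : Fin n, A j k * X k col = A j col * X col col := by
      rw [Finset.sum_eq_single col]
      · intro k _ hk
        rw [hoff k col hk, mul_zero]
      · intro h0
        exact absurd (Finset.mem_univ col) h0
    rw [hs] at h
    have h2 : A j col * (X j j - X col col) = 0 := by linarith
    have := (mul_eq_zero.1 h2).resolve_left hA
    linarith
  have hstep : ∀ j : Fin n, X j j = X (par j) (par j) := by
    intro j
    rcases hpar j with h | h
    · rw [h]
    · exact hadj j (par j) h
  have hiter : ∀ (k : ℕ) (j : Fin n), X j j = X (par^[k] j) (par^[k] j) := by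
    intro k
    induction k with
    | zero => intro j; rfl
    | succ k ih =>
      intro j
      rw [Function.iterate_succ_apply, hstep j]
      exact ih (par j)
  ext r col
  rw [Matrix.smul_apply, Matrix.one_apply, smul_eq_mul]
  by_cases hrc : r = col
  · rw [if_pos hrc, mul_one, ← hrc, hiter n r, hroot]
  · rw [if_neg hrc, mul_zero]
    exact hoff r col hrc

section center

variable (M : CoxeterMatrix (Fin n)) (A : Nat → Nat → Int)
  (f : M.Group →* Matrix (Fin n) (Fin n) ℤ) (hinj : Function.Injective f)
  (hf : ∀ j, f (M.simple j) = Smat A j)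

include hinj hf

/-- A central element maps to `±1`. -/
theorem map_center (hdiag : ∀ j : Fin n, A j j = 2)
    (par : Fin n → Fin n) (z0 : Fin n) (hpar : ∀ j : Fin n, par j = j ∨ A j (par j) ≠ 0)
    (hroot : ∀ j : Fin n, par^[n] j = z0) (z : M.Group) (hz : z ∈ Subgroup.center M.Group) :
    f z = 1 ∨ f z = -1 := by
  have hcomm : ∀ (y : M.Group) (hy : y ∈ Subgroup.center M.Group) (j : Fin n),
      f y * Smat A j = Smat A j * f y := by
    intro y hy j
    rw [← hf j, ← map_mul, ← map_mul]
    congr 1
    exact (Subgroup.mem_center_iff.1 hy (M.simple j)).symm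
  have h1 := scalar_of_commute A hdiag par z0 hpar hroot (f z) (hcomm z hz)
  have h2 := scalar_of_commute A hdiag par z0 hpar hroot (f z⁻¹)
    (hcomm z⁻¹ ((Subgroup.center M.Group).inv_mem hz))
  have h3 : f z * f z⁻¹ = 1 := by rw [← map_mul, mul_inv_cancel, map_one]
  have h4 : f z z0 z0 * f z⁻¹ z0 z0 = 1 := by
    have h5 : (f z z0 z0 • (1 : Matrix (Fin n) (Fin n) ℤ)) * (f z⁻¹ z0 z0 • 1) = 1 := by
      rw [← h1, ← h2, h3]
    have := congrFun (congrFun h5 z0) z0
    rw [Matrix.smul_mul, Matrix.mul_smul, Matrix.one_mul, Matrix.smul_apply, Matrix.smul_apply,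
      Matrix.one_apply_eq, smul_eq_mul, smul_eq_mul, mul_one] at this
    exact this
  rcases Int.eq_one_or_neg_one_of_mul_eq_one h4 with h | h
  · left
    rw [h1, h, one_smul]
  · right
    rw [h1, h]
    simp

/-- The centre has order two, generated by a power of the Coxeter element. -/
theorem center_two (hdiag : ∀ j : Fin n, A j j = 2)
    (par : Fin n → Fin n) (z0 : Fin n) (hpar : ∀ j : Fin n, par j = j ∨ A j (par j) ≠ 0)
    (hroot : ∀ j : Fin n, par^[n] j = z0) (k : ℕ) (hk : coxMat n A ^ k = -1)
    (hne : (1 : Matrix (Fin n) (Fin n) ℤ) ≠ -1) :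
    Nat.card (Subgroup.center M.Group) = 2 ∧
      Subgroup.center M.Group ≤ Subgroup.zpowers ((List.finRange n).map M.simple).prod := by
  have hfc : f (coxElt M ^ k) = -1 := by
    rw [map_pow, map_coxElt M A f hf, hk]
  have hcen : coxElt M ^ k ∈ Subgroup.center M.Group := by
    rw [Subgroup.mem_center_iff]
    intro y
    apply hinj
    rw [map_mul, map_mul, hfc]
    simp
  have hne1 : coxElt M ^ k ≠ 1 := by
    intro h
    rw [h, map_one] at hfc
    exact hne hfc
  have hsq : (coxElt M ^ k) ^ 2 = 1 := by
    apply hinj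
    rw [map_pow, hfc, map_one]
    simp
  have heq : Subgroup.center M.Group = Subgroup.zpowers (coxElt M ^ k) := by
    apply le_antisymm
    · intro z hz
      rcases map_center M A f hinj hf hdiag par z0 hpar hroot z hz with h | h
      · have : z = 1 := hinj (by rw [h, map_one])
        rw [this]
        exact Subgroup.one_mem _
      · have : z = coxElt M ^ k := hinj (by rw [h, hfc])
        rw [this]
        exact Subgroup.mem_zpowers _
    · rw [Subgroup.zpowers_le]
      exact hcen
  constructor
  · rw [heq, Nat.card_zpowers]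
    exact orderOf_eq_prime hsq hne1
  · rw [heq, Subgroup.zpowers_le]
    exact Subgroup.pow_mem _ (Subgroup.mem_zpowers _) k


/-- An invariant finite set of vectors, as lists. -/
def setOk (n : ℕ) (A : Nat → Nat → Int) (V : List (List Int)) : Prop :=
  ∀ l ∈ V, ∀ j : Fin n,
    (List.ofFn fun col : Fin n => l.getD col 0 - l.getD j 0 * A j col) ∈ V

instance (n : ℕ) (A : Nat → Nat → Int) (V : List (List Int)) : Decidable (setOk n A V) := by
  unfold setOk
  infer_instance

omit hinj in
theorem vecMul_mem (V : List (List Int)) (hV : setOk n A V) (w : M.Group) :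
    ∀ v : Fin n → ℤ, List.ofFn v ∈ V → List.ofFn (Matrix.vecMul v (f w)) ∈ V := by
  obtain ⟨ω, rfl⟩ := M.toCoxeterSystem.wordProd_surjective w
  induction ω with
  | nil =>
    intro v hv
    rw [CoxeterSystem.wordProd_nil, map_one, Matrix.vecMul_one]
    exact hv
  | cons j ω ih =>
    intro v hv
    rw [CoxeterSystem.wordProd_cons, map_mul, ← Matrix.vecMul_vecMul]
    apply ih
    have h1 : M.toCoxeterSystem.simple j = M.simple j := rfl
    rw [h1, hf j]
    have h2 := hV _ hv j
    have h3 : (fun col : Fin n => (List.ofFn v).getD col 0 - (List.ofFn v).getD j 0 * A j col) =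
        Matrix.vecMul v (Smat A j) := by
      funext col
      rw [vecMul_Smat]
      have e : ∀ c : Fin n, (List.ofFn v).getD c 0 = v c := by
        intro c
        rw [List.getD_eq_getElem _ _ (by rw [List.length_ofFn]; exact c.2), List.getElem_ofFn]
      rw [e, e]
    rw [h3] at h2
    exact h2

/-- The centre is trivial when `-1` is not in the group. -/
theorem center_one (hdiag : ∀ j : Fin n, A j j = 2)
    (par : Fin n → Fin n) (z0 : Fin n) (hpar : ∀ j : Fin n, par j = j ∨ A j (par j) ≠ 0)
    (hroot : ∀ j : Fin n, par^[n] j = z0) (V : List (List Int)) (hV : setOk n A V)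
    (v₀ : Fin n → ℤ) (hv₀ : List.ofFn v₀ ∈ V) (hneg : List.ofFn (fun i => - v₀ i) ∉ V) :
    Nat.card (Subgroup.center M.Group) = 1 ∧
      Subgroup.center M.Group ≤ Subgroup.zpowers ((List.finRange n).map M.simple).prod := by
  have heq : Subgroup.center M.Group = ⊥ := by
    rw [eq_bot_iff]
    intro z hz
    rw [Subgroup.mem_bot]
    rcases map_center M A f hinj hf hdiag par z0 hpar hroot z hz with h | h
    · exact hinj (by rw [h, map_one])
    · exfalso
      apply hneg
      have := vecMul_mem M A f hf V hV z v₀ hv₀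
      rw [h] at this
      have e : Matrix.vecMul v₀ (-1 : Matrix (Fin n) (Fin n) ℤ) = fun i => - v₀ i := by
        rw [Matrix.vecMul_neg, Matrix.vecMul_one]
        rfl
      rw [e] at this
      exact this
  rw [heq]
  exact ⟨Subgroup.card_bot, bot_le⟩

end center

end Cfsg.Agent.Helper7.CoxEnum
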