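import Cfsg.Agent.Helper7.CoxEnum

set_option autoImplicit false
set_option maxRecDepth 100000

/-! Certificate of the order of the Coxeter group of type E7 (generated). -/

namespace Cfsg.Agent.Helper7.CoxE7

open Cfsg.Agent.Helper7.CoxEnum

/-- The Coxeter matrix as a table. -/
def mL : List (List Nat) := [[1, 2, 3, 2, 2, 2, 2], [2, 1, 2, 3, 2, 2, 2], [3, 2, 1, 3, 2, 2, 2], [2, 3, 3, 1, 3, 2, 2], [2, 2, 2, 3, 1, 3, 2], [2, 2, 2, 2, 3, 1, 3], [2, 2, 2, 2, 2, 3, 1]]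
/-- The Coxeter matrix as a function. -/
def m (a b : Nat) : Nat := (mL.getD a []).getD b 0
/-- The Cartan matrix as a table. -/
def AL : List (List Int) := [[2, 0, -1, 0, 0, 0, 0], [0, 2, 0, -1, 0, 0, 0], [-1, 0, 2, -1, 0, 0, 0], [0, -1, -1, 2, -1, 0, 0], [0, 0, 0, -1, 2, -1, 0], [0, 0, 0, 0, -1, 2, -1], [0, 0, 0, 0, 0, -1, 2]]
/-- The Cartan matrix as a function. -/
def A (a b : Nat) : Int := (AL.getD a []).getD b 0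

/-- Level 1. -/
def L1 : Level where
  k := 1
  reps := [[], [0]]
  tab := [[1], [0]]
  rk := [[0], [1]]
  js := [[0], [1]]
  par := [0, 0]
  pj := [0, 0]
  vecs := [[1, 0, 0, 0, 0, 0, 0], [-1, 0, 1, 0, 0, 0, 0]]

theorem L1_ok : levelOk 7 m A L1 = true := by decide +kernel

/-- Level 2. -/
def L2 : Level where
  k := 2
  reps := [[], [1]]
  tab := [[0, 1], [1, 0]]
  rk := [[2, 0], [3, 1]]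
  js := [[2, 0], [4, 1]]
  par := [0, 0]
  pj := [0, 1]
  vecs := [[0, 1, 0, 0, 0, 0, 0], [0, -1, 0, 1, 0, 0, 0]]

theorem L2_ok : levelOk 7 m A L2 = true := by decide +kernel

/-- Level 3. -/
def L3 : Level where
  k := 3
  reps := [[], [2], [2, 0]]
  tab := [[0, 0, 1], [2, 1, 0], [1, 2, 2]]
  rk := [[4, 5, 0], [2, 6, 1], [3, 7, 8]]
  js := [[2, 2, 0], [0, 5, 1], [1, 3, 3]]
  par := [0, 0, 1]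
  pj := [0, 2, 0]
  vecs := [[0, 0, 1, 0, 0, 0, 0], [1, 0, -1, 1, 0, 0, 0], [-1, 0, 0, 1, 0, 0, 0]]

theorem L3_ok : levelOk 7 m A L3 = true := by decide +kernel

/-- Level 4. -/
def L4 : Level where
  k := 4
  reps := [[], [3], [3, 1], [3, 2], [3, 1, 2], [3, 2, 0], [3, 1, 2, 0], [3, 1, 2, 3], [3, 1, 2, 0, 3], [3, 1, 2, 0, 3, 2]]
  tab := [[0, 0, 0, 1], [1, 2, 3, 0], [2, 1, 4, 2], [5, 4, 1, 3], [6, 3, 2, 7], [3, 6, 5, 5], [4, 5, 6, 8], [8, 7, 7, 4], [7, 8, 9, 6], [9, 9, 8, 9]]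
  rk := [[18, 19, 20, 0], [21, 2, 4, 1], [22, 3, 6, 23], [8, 24, 5, 26], [10, 25, 7, 12], [9, 27, 29, 30], [11, 28, 31, 14], [32, 34, 35, 13], [33, 36, 16, 15], [37, 38, 17, 39]]
  js := [[2, 2, 2, 0], [6, 0, 0, 1], [4, 1, 0, 4], [0, 5, 1, 5], [0, 1, 1, 0], [1, 3, 3, 3], [1, 1, 3, 0], [6, 6, 6, 1], [1, 3, 0, 1], [5, 5, 1, 5]]
  par := [0, 0, 1, 1, 2, 3, 4, 4, 6, 8]
  pj := [0, 3, 1, 2, 2, 0, 0, 3, 3, 2]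
  vecs := [[0, 0, 0, 1, 0, 0, 0], [0, 1, 1, -1, 1, 0, 0], [0, -1, 1, 0, 1, 0, 0], [1, 1, -1, 0, 1, 0, 0], [1, -1, -1, 1, 1, 0, 0], [-1, 1, 0, 0, 1, 0, 0], [-1, -1, 0, 1, 1, 0, 0], [1, 0, 0, -1, 2, 0, 0], [-1, 0, 1, -1, 2, 0, 0], [0, 0, -1, 0, 2, 0, 0]]

theorem L4_ok : levelOk 7 m A L4 = true := by decide +kernel

/-- Level 5. -/
def L5 : Level where
  k := 5
  reps := [[], [4], [4, 3], [4, 3, 1], [4, 3, 2], [4, 3, 1, 2], [4, 3, 2, 0], [4, 3, 1, 2, 0], [4, 3, 1, 2, 3], [4, 3, 1, 2, 0, 3], [4, 3, 1, 2, 3, 4], [4, 3, 1, 2, 0, 3, 2], [4, 3, 1, 2, 0, 3, 4], [4, 3, 1, 2, 0, 3, 2, 4], [4, 3, 1, 2, 0, 3, 2, 4, 3], [4, 3, 1, 2, 0, 3, 2, 4, 3, 1]]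
  tab := [[0, 0, 0, 0, 1], [1, 1, 1, 2, 0], [2, 3, 4, 1, 2], [3, 2, 5, 3, 3], [6, 5, 2, 4, 4], [7, 4, 3, 8, 5], [4, 7, 6, 6, 6], [5, 6, 7, 9, 7], [9, 8, 8, 5, 10], [8, 9, 11, 7, 12], [12, 10, 10, 10, 8], [11, 11, 9, 11, 13], [10, 12, 13, 12, 9], [13, 13, 12, 14, 11], [14, 15, 14, 13, 14], [15, 14, 15, 15, 15]]
  rk := [[30, 31, 32, 33, 0], [34, 35, 36, 2, 1], [37, 4, 6, 3, 38], [39, 5, 8, 40, 41], [10, 42, 7, 44, 45], [12, 43, 9, 14, 46], [11, 47, 49, 50, 51], [13, 48, 52, 16, 53], [54, 56, 57, 15, 18], [55, 58, 20, 17, 22], [59, 61, 62, 63, 19], [64, 65, 21, 66, 24], [60, 67, 68, 70, 23], [71, 72, 69, 26, 25], [73, 28, 74, 27, 75], [76, 29, 77, 78, 79]]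
  js := [[2, 2, 2, 2, 0], [7, 7, 7, 0, 1], [6, 0, 0, 1, 6], [4, 1, 0, 4, 4], [0, 5, 1, 5, 5], [0, 1, 1, 0, 4], [1, 3, 3, 3, 3], [1, 1, 3, 0, 3], [6, 6, 6, 1, 0], [1, 3, 0, 1, 0], [7, 7, 7, 7, 1], [5, 5, 1, 5, 0], [1, 3, 7, 3, 1], [5, 5, 1, 0, 1], [6, 0, 6, 1, 6], [4, 1, 4, 4, 4]]
  par := [0, 0, 1, 2, 2, 3, 4, 5, 5, 7, 8, 9, 9, 11, 13, 14]
  pj := [0, 4, 3, 1, 2, 2, 0, 0, 3, 3, 4, 2, 4, 4, 3, 1]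
  vecs := [[0, 0, 0, 0, 1, 0, 0], [0, 0, 0, 1, -1, 1, 0], [0, 1, 1, -1, 0, 1, 0], [0, -1, 1, 0, 0, 1, 0], [1, 1, -1, 0, 0, 1, 0], [1, -1, -1, 1, 0, 1, 0], [-1, 1, 0, 0, 0, 1, 0], [-1, -1, 0, 1, 0, 1, 0], [1, 0, 0, -1, 1, 1, 0], [-1, 0, 1, -1, 1, 1, 0], [1, 0, 0, 0, -1, 2, 0], [0, 0, -1, 0, 1, 1, 0], [-1, 0, 1, 0, -1, 2, 0], [0, 0, -1, 1, -1, 2, 0], [0, 1, 0, -1, 0, 2, 0], [0, -1, 0, 0, 0, 2, 0]]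

theorem L5_ok : levelOk 7 m A L5 = true := by decide +kernel

/-- Level 6. -/
def L6 : Level where
  k := 6
  reps := [[], [5], [5, 4], [5, 4, 3], [5, 4, 3, 1], [5, 4, 3, 2], [5, 4, 3, 1, 2], [5, 4, 3, 2, 0], [5, 4, 3, 1, 2, 0], [5, 4, 3, 1, 2, 3], [5, 4, 3, 1, 2, 0, 3], [5, 4, 3, 1, 2, 3, 4], [5, 4, 3, 1, 2, 0, 3, 2], [5, 4, 3, 1, 2, 0, 3, 4], [5, 4, 3, 1, 2, 3, 4, 5], [5, 4, 3, 1, 2, 0, 3, 2, 4], [5, 4, 3, 1, 2, 0, 3, 4, 5], [5, 4, 3, 1, 2, 0, 3, 2, 4, 3], [5, 4, 3, 1, 2, 0, 3, 2, 4, 5], [5, 4, 3, 1, 2, 0, 3, 2, 4, 3, 1], [5, 4, 3, 1, 2, 0, 3, 2, 4, 3, 5], [5, 4, 3, 1, 2, 0, 3, 2, 4, 3, 1, 5], [5, 4, 3, 1, 2, 0, 3, 2, 4, 3, 5, 4], [5, 4, 3, 1, 2, 0, 3, 2, 4, 3, 1, 5, 4], [5, 4, 3, 1, 2, 0, 3, 2, 4, 3, 1, 5, 4, 3], [5, 4, 3, 1, 2, 0, 3, 2, 4, 3, 1, 5, 4,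 3, 2], [5, 4, 3, 1, 2, 0, 3, 2, 4, 3, 1, 5, 4, 3, 2, 0]]
  tab := [[0, 0, 0, 0, 0, 1], [1, 1, 1, 1, 2, 0], [2, 2, 2, 3, 1, 2], [3, 4, 5, 2, 3, 3], [4, 3, 6, 4, 4, 4], [7, 6, 3, 5, 5, 5], [8, 5, 4, 9, 6, 6], [5, 8, 7, 7, 7, 7], [6, 7, 8, 10, 8, 8], [10, 9, 9, 6, 11, 9], [9, 10, 12, 8, 13, 10], [13, 11, 11, 11, 9, 14], [12, 12, 10, 12, 15, 12], [11, 13, 15, 13, 10, 16], [16, 14, 14, 14, 14, 11], [15, 15, 13, 17, 12, 18], [14, 16, 18, 16, 16, 13], [17, 19, 17, 15, 17, 20], [18, 18, 16, 20, 18, 15], [19, 17, 19, 19, 19, 21], [20, 21, 20, 18, 22, 17], [21, 20, 21, 21, 23, 19], [22, 23, 22, 22, 20, 22], [23, 22, 23, 24, 21, 23], [24, 24, 25, 23, 24, 24], [26, 25, 24, 25, 25, 25], [25, 26, 26, 26, 26, 26]]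
  rk := [[52, 53, 54, 55, 56, 0], [57, 58, 59, 60, 2, 1], [61, 62, 63, 4, 3, 64], [65, 6, 8, 5, 66, 67], [68, 7, 10, 69, 70, 71], [12, 72, 9, 74, 75, 76], [14, 73, 11, 16, 77, 78], [13, 79, 81, 82, 83, 84], [15, 80, 85, 18, 86, 87], [88, 90, 91, 17, 20, 92], [89, 93, 22, 19, 24, 94], [95, 97, 98, 99, 21, 26], [100, 101, 23, 102, 28, 103], [96, 104, 105, 107, 25, 30], [108, 110, 111, 112, 113, 27], [114, 115, 106, 32, 29, 34], [109, 116, 117, 119, 120, 31], [121, 36, 122, 33, 123, 38], [124, 125, 118, 126, 128, 35], [129, 37, 130, 131, 132, 40], [133, 134, 136, 127, 42, 39], [137, 135, 138, 139, 44, 41], [140, 141, 143, 144, 43, 145], [146, 142, 147, 46, 45, 148], [149, 150, 48, 47, 151, 152], [50, 153, 49, 154, 155, 156], [51, 157, 158, 159, 160, 161]]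
  js := [[2, 2, 2, 2, 2, 0], [8, 8, 8, 8, 0, 1], [7, 7, 7, 0, 1, 7], [6, 0, 0, 1, 6, 6], [4, 1, 0, 4, 4, 4], [0, 5, 1, 5, 5, 5], [0, 1, 1, 0, 4, 4], [1, 3, 3, 3, 3, 3], [1, 1, 3, 0, 3, 3], [6, 6, 6, 1, 0, 6], [1, 3, 0, 1, 0, 3], [7, 7, 7, 7, 1, 0], [5, 5, 1, 5, 0, 5], [1, 3, 7, 3, 1, 0], [8, 8, 8, 8, 8, 1], [5, 5, 1, 0, 1, 0], [1, 3, 8, 3, 3, 1], [6, 0, 6, 1, 6, 0], [5, 5, 1, 8, 5, 1], [4, 1, 4, 4, 4, 0], [6, 8, 6, 1, 0, 1], [4, 1, 4, 4, 0, 1], [7, 7, 7, 7, 1, 7], [4, 1, 4, 0, 1, 4], [6, 6, 0, 1, 6, 6], [0, 5, 1, 5, 5, 5], [1, 3, 3, 3, 3, 3]]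
  par := [0, 0, 1, 2, 3, 3, 4, 5, 6, 6, 8, 9, 10, 10, 11, 12, 13, 15, 15, 17, 17, 19, 20, 21, 23, 24, 25]
  pj := [0, 5, 4, 3, 1, 2, 2, 0, 0, 3, 3, 4, 2, 4, 5, 4, 5, 3, 5, 1, 5, 5, 4, 4, 3, 2, 0]
  vecs := [[0, 0, 0, 0, 0, 1, 0], [0, 0, 0, 0, 1, -1, 1], [0, 0, 0, 1, -1, 0, 1], [0, 1, 1, -1, 0, 0, 1], [0, -1, 1, 0, 0, 0, 1], [1, 1, -1, 0, 0, 0, 1], [1, -1, -1, 1, 0, 0, 1], [-1, 1, 0, 0, 0, 0, 1], [-1, -1, 0, 1, 0, 0, 1], [1, 0, 0, -1, 1, 0, 1], [-1, 0, 1, -1, 1, 0, 1], [1, 0, 0, 0, -1, 1, 1], [0, 0, -1, 0, 1, 0, 1], [-1, 0, 1, 0, -1, 1, 1], [1, 0, 0, 0, 0, -1, 2], [0, 0, -1, 1, -1, 1, 1], [-1, 0, 1, 0, 0, -1, 2], [0, 1, 0, -1, 0, 1, 1], [0, 0, -1, 1, 0, -1, 2], [0, -1, 0, 0, 0, 1, 1], [0, 1, 0, -1, 1, -1, 2], [0, -1, 0, 0, 1, -1, 2], [0, 1, 0, 0, -1, 0, 2],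 [0, -1, 0, 1, -1, 0, 2], [0, 0, 1, -1, 0, 0, 2], [1, 0, -1, 0, 0, 0, 2], [-1, 0, 0, 0, 0, 0, 2]]

theorem L6_ok : levelOk 7 m A L6 = true := by decide +kernel

/-- Level 7. -/
def L7 : Level where
  k := 7
  reps := [[], [6], [6, 5], [6, 5, 4], [6, 5, 4, 3], [6, 5, 4, 3, 1], [6, 5, 4, 3, 2], [6, 5, 4, 3, 1, 2], [6, 5, 4, 3, 2, 0], [6, 5, 4, 3, 1, 2, 0], [6, 5, 4, 3, 1, 2, 3], [6, 5, 4, 3, 1, 2, 0, 3], [6, 5, 4, 3, 1, 2, 3, 4], [6, 5, 4, 3, 1, 2, 0, 3, 2], [6, 5, 4, 3, 1, 2, 0, 3, 4], [6, 5, 4, 3, 1, 2, 3, 4, 5], [6, 5, 4, 3, 1, 2, 0, 3, 2, 4], [6, 5, 4, 3, 1, 2, 0, 3, 4, 5], [6, 5, 4, 3, 1, 2, 3, 4, 5, 6], [6, 5, 4, 3, 1, 2, 0, 3, 2, 4, 3], [6, 5, 4, 3, 1, 2, 0, 3, 2, 4, 5], [6, 5, 4, 3, 1, 2, 0, 3, 4, 5, 6], [6, 5, 4, 3, 1, 2, 0, 3, 2, 4, 3, 1], [6, 5, 4,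 3, 1, 2, 0, 3, 2, 4, 3, 5], [6, 5, 4, 3, 1, 2, 0, 3, 2, 4, 5, 6], [6, 5, 4, 3, 1, 2, 0, 3, 2, 4, 3, 1, 5], [6, 5, 4, 3, 1, 2, 0, 3, 2, 4, 3, 5, 4], [6, 5, 4, 3, 1, 2, 0, 3, 2, 4, 3, 5, 6], [6, 5, 4, 3, 1, 2, 0, 3, 2, 4, 3, 1, 5, 4], [6, 5, 4, 3, 1, 2, 0, 3, 2, 4, 3, 1, 5, 6], [6, 5, 4, 3, 1, 2, 0, 3, 2, 4, 3, 5, 4, 6], [6, 5, 4, 3, 1, 2, 0, 3, 2, 4, 3, 1, 5, 4, 3], [6, 5, 4, 3, 1, 2, 0, 3, 2, 4, 3, 1, 5, 4, 6], [6, 5, 4, 3, 1, 2, 0, 3, 2, 4, 3, 5, 4, 6, 5], [6, 5, 4, 3, 1, 2, 0, 3, 2, 4, 3, 1, 5, 4, 3, 2], [6, 5, 4, 3, 1, 2, 0, 3, 2, 4, 3, 1, 5, 4, 3, 6], [6, 5, 4, 3, 1, 2, 0, 3, 2, 4, 3, 1, 5, 4, 6, 5], [6, 5, 4, 3, 1, 2, 0, 3, 2, 4, 3, 1, 5, 4, 3, 2, 0], [6, 5, 4, 3, 1, 2, 0, 3, 2, 4, 3, 1, 5, 4, 3, 2, 6], [6, 5, 4, 3, 1, 2, 0, 3, 2, 4, 3, 1, 5, 4, 3, 6,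 5], [6, 5, 4, 3, 1, 2, 0, 3, 2, 4, 3, 1, 5, 4, 3, 2, 0, 6], [6, 5, 4, 3, 1, 2, 0, 3, 2, 4, 3, 1, 5, 4, 3, 2, 6, 5], [6, 5, 4, 3, 1, 2, 0, 3, 2, 4, 3, 1, 5, 4, 3, 6, 5, 4], [6, 5, 4, 3, 1, 2, 0, 3, 2, 4, 3, 1, 5, 4, 3, 2, 0, 6, 5], [6, 5, 4, 3, 1, 2, 0, 3, 2, 4, 3, 1, 5, 4, 3, 2, 6, 5, 4], [6, 5, 4, 3, 1, 2, 0, 3, 2, 4, 3, 1, 5, 4, 3, 2, 0, 6, 5, 4], [6, 5, 4, 3, 1, 2, 0, 3, 2, 4, 3, 1, 5, 4, 3, 2, 6, 5, 4, 3], [6, 5, 4, 3, 1, 2, 0, 3, 2, 4, 3, 1, 5, 4, 3, 2, 0, 6, 5, 4, 3], [6, 5, 4, 3, 1, 2, 0, 3, 2, 4, 3, 1, 5, 4, 3, 2, 6, 5, 4, 3, 1], [6, 5, 4, 3, 1, 2, 0, 3, 2, 4, 3, 1, 5, 4, 3, 2, 0, 6, 5, 4, 3, 1], [6, 5, 4, 3, 1, 2, 0, 3, 2, 4, 3, 1, 5, 4, 3, 2, 0, 6, 5, 4, 3, 2], [6, 5, 4, 3, 1, 2, 0, 3, 2, 4, 3, 1, 5, 4, 3, 2, 0, 6, 5, 4, 3, 1, 2], [6, 5, 4, 3, 1,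 2, 0, 3, 2, 4, 3, 1, 5, 4, 3, 2, 0, 6, 5, 4, 3, 1, 2, 3], [6, 5, 4, 3, 1, 2, 0, 3, 2, 4, 3, 1, 5, 4, 3, 2, 0, 6, 5, 4, 3, 1, 2, 3, 4], [6, 5, 4, 3, 1, 2, 0, 3, 2, 4, 3, 1, 5, 4, 3, 2, 0, 6, 5, 4, 3, 1, 2, 3, 4, 5], [6, 5, 4, 3, 1, 2, 0, 3, 2, 4, 3, 1, 5, 4, 3, 2, 0, 6, 5, 4, 3, 1, 2, 3, 4, 5, 6]]
  tab := [[0, 0, 0, 0, 0, 0, 1], [1, 1, 1, 1, 1, 2, 0], [2, 2, 2, 2, 3, 1, 2], [3, 3, 3, 4, 2, 3, 3], [4, 5, 6, 3, 4, 4, 4], [5, 4, 7, 5, 5, 5, 5], [8, 7, 4, 6, 6, 6, 6], [9, 6, 5, 10, 7, 7, 7], [6, 9, 8, 8, 8, 8, 8], [7, 8, 9, 11, 9, 9, 9], [11, 10, 10, 7, 12, 10, 10], [10, 11, 13, 9, 14, 11, 11], [14, 12, 12, 12, 10, 15, 12], [13, 13, 11, 13, 16, 13, 13], [12, 14, 16, 14, 11, 17, 14], [17, 15, 15, 15, 15, 12, 18], [16, 16, 14, 19, 13, 20, 16], [15, 17, 20, 17, 17,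 14, 21], [21, 18, 18, 18, 18, 18, 15], [19, 22, 19, 16, 19, 23, 19], [20, 20, 17, 23, 20, 16, 24], [18, 21, 24, 21, 21, 21, 17], [22, 19, 22, 22, 22, 25, 22], [23, 25, 23, 20, 26, 19, 27], [24, 24, 21, 27, 24, 24, 20], [25, 23, 25, 25, 28, 22, 29], [26, 28, 26, 26, 23, 26, 30], [27, 29, 27, 24, 30, 27, 23], [28, 26, 28, 31, 25, 28, 32], [29, 27, 29, 29, 32, 29, 25], [30, 32, 30, 30, 27, 33, 26], [31, 31, 34, 28, 31, 31, 35], [32, 30, 32, 35, 29, 36, 28], [33, 36, 33, 33, 33, 30, 33], [37, 34, 31, 34, 34, 34, 38], [35, 35, 38, 32, 35, 39, 31], [36, 33, 36, 39, 36, 32, 36], [34, 37, 37, 37, 37, 37, 40], [40, 38, 35, 38, 38, 41, 34], [39, 39, 41, 36, 42, 35, 39], [38, 40, 40, 40, 40, 43, 37], [43, 41, 39, 41, 44, 38, 41], [42, 42, 44, 42, 39, 42, 42], [41, 43,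 43, 43, 45, 40, 43], [45, 44, 42, 46, 41, 44, 44], [44, 45, 45, 47, 43, 45, 45], [47, 48, 46, 44, 46, 46, 46], [46, 49, 50, 45, 47, 47, 47], [49, 46, 48, 48, 48, 48, 48], [48, 47, 51, 49, 49, 49, 49], [50, 51, 47, 50, 50, 50, 50], [51, 50, 49, 52, 51, 51, 51], [52, 52, 52, 51, 53, 52, 52], [53, 53, 53, 53, 52, 54, 53], [54, 54, 54, 54, 54, 53, 55], [55, 55, 55, 55, 55, 55, 54]]
  rk := [[110, 111, 112, 113, 114, 115, 0], [116, 117, 118, 119, 120, 2, 1], [121, 122, 123, 124, 4, 3, 125], [126, 127, 128, 6, 5, 129, 130], [131, 8, 10, 7, 132, 133, 134], [135, 9, 12, 136, 137, 138, 139], [14, 140, 11, 142, 143, 144, 145], [16, 141, 13, 18, 146, 147, 148], [15, 149, 151, 152, 153, 154, 155], [17, 150, 156, 20, 157, 158, 159], [160, 162, 163, 19, 22, 164, 165], [161,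 166, 24, 21, 26, 167, 168], [169, 171, 172, 173, 23, 28, 174], [175, 176, 25, 177, 30, 178, 179], [170, 180, 181, 183, 27, 32, 184], [185, 187, 188, 189, 190, 29, 34], [191, 192, 182, 36, 31, 38, 193], [186, 194, 195, 197, 198, 33, 40], [199, 201, 202, 203, 204, 205, 35], [206, 42, 207, 37, 208, 44, 209], [210, 211, 196, 212, 214, 39, 46], [200, 215, 216, 218, 219, 220, 41], [221, 43, 222, 223, 224, 48, 225], [226, 227, 229, 213, 50, 45, 52], [230, 231, 217, 232, 234, 235, 47], [236, 228, 237, 238, 54, 49, 56], [239, 240, 242, 243, 51, 244, 58], [245, 246, 248, 233, 249, 251, 53], [252, 241, 253, 60, 55, 254, 62], [255, 247, 256, 257, 258, 260, 57], [261, 262, 264, 265, 250, 64, 59], [266, 267, 66, 61, 268, 269, 68], [270, 263, 271, 272, 259, 70, 63], [274,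 275, 277, 278, 279, 65, 280], [72, 281, 67, 282, 283, 284, 74], [285, 286, 287, 273, 289, 76, 69], [290, 276, 291, 292, 294, 71, 295], [73, 296, 297, 298, 299, 300, 78], [301, 303, 288, 304, 305, 80, 75], [306, 307, 308, 293, 82, 77, 310], [302, 311, 312, 313, 314, 84, 79], [315, 317, 309, 318, 86, 81, 319], [320, 321, 322, 324, 83, 325, 326], [316, 327, 328, 329, 88, 85, 330], [331, 333, 323, 90, 87, 334, 335], [332, 336, 337, 92, 89, 338, 339], [340, 94, 342, 91, 343, 344, 345], [341, 96, 98, 93, 346, 347, 348], [349, 95, 351, 352, 353, 354, 355], [350, 97, 100, 356, 357, 358, 359], [360, 361, 99, 363, 364, 365, 366], [367, 362, 101, 102, 368, 369, 370], [371, 372, 373, 103, 104, 374, 375], [376, 377, 378, 379, 105, 106, 380], [381, 382, 383, 384, 385, 107,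 108], [386, 387, 388, 389, 390, 391, 109]]
  js := [[2, 2, 2, 2, 2, 2, 0], [9, 9, 9, 9, 9, 0, 1], [8, 8, 8, 8, 0, 1, 8], [7, 7, 7, 0, 1, 7, 7], [6, 0, 0, 1, 6, 6, 6], [4, 1, 0, 4, 4, 4, 4], [0, 5, 1, 5, 5, 5, 5], [0, 1, 1, 0, 4, 4, 4], [1, 3, 3, 3, 3, 3, 3], [1, 1, 3, 0, 3, 3, 3], [6, 6, 6, 1, 0, 6, 6], [1, 3, 0, 1, 0, 3, 3], [7, 7, 7, 7, 1, 0, 7], [5, 5, 1, 5, 0, 5, 5], [1, 3, 7, 3, 1, 0, 3], [8, 8, 8, 8, 8, 1, 0], [5, 5, 1, 0, 1, 0, 5], [1, 3, 8, 3, 3, 1, 0], [9, 9, 9, 9, 9, 9, 1], [6, 0, 6, 1, 6, 0, 6], [5, 5, 1, 8, 5, 1, 0], [1, 3, 9, 3, 3, 3, 1], [4, 1, 4, 4, 4, 0, 4], [6, 8, 6, 1, 0, 1, 0], [5, 5, 1, 9, 5, 5, 1], [4, 1, 4, 4, 0, 1, 0], [7, 7, 7, 7, 1, 7, 0], [6, 9, 6, 1, 9, 6, 1], [4, 1, 4, 0, 1, 4, 0], [4, 1, 4, 4, 9, 4, 1], [7, 7, 7, 7, 1, 0, 1], [6,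 6, 0, 1, 6, 6, 0], [4, 1, 4, 9, 1, 0, 1], [8, 8, 8, 8, 8, 1, 8], [0, 5, 1, 5, 5, 5, 0], [6, 6, 9, 1, 6, 0, 1], [4, 1, 4, 8, 4, 1, 4], [1, 3, 3, 3, 3, 3, 0], [9, 5, 1, 5, 5, 0, 1], [6, 6, 8, 1, 0, 1, 6], [1, 3, 3, 3, 3, 0, 1], [8, 5, 1, 5, 0, 1, 5], [7, 7, 7, 7, 1, 7, 7], [1, 3, 3, 3, 0, 1, 3], [7, 5, 1, 0, 1, 5, 5], [1, 3, 3, 0, 1, 3, 3], [6, 0, 6, 1, 6, 6, 6], [1, 0, 0, 1, 3, 3, 3], [4, 1, 4, 4, 4, 4, 4], [1, 1, 0, 3, 3, 3, 3], [5, 5, 1, 5, 5, 5, 5], [4, 1, 1, 0, 4, 4, 4], [6, 6, 6, 1, 0, 6, 6], [7, 7, 7, 7, 1, 0, 7], [8, 8, 8, 8, 8, 1, 0], [9, 9, 9, 9, 9, 9, 1]]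
  par := [0, 0, 1, 2, 3, 4, 4, 5, 6, 7, 7, 9, 10, 11, 11, 12, 13, 14, 15, 16, 16, 17, 19, 19, 20, 22, 23, 23, 25, 25, 26, 28, 28, 30, 31, 31, 32, 34, 34, 35, 37, 38, 39, 40, 41, 43, 44, 45, 46, 47, 47, 49, 51, 52, 53, 54]
  pj := [0, 6, 5, 4, 3, 1, 2, 2, 0, 0, 3, 3, 4, 2, 4, 5, 4, 5, 6, 3, 5, 6, 1, 5, 6, 5, 4, 6, 4, 6, 6, 3, 6, 5, 2, 6, 5, 0, 6, 5, 6, 5, 4, 5, 4, 4, 3, 3, 1, 1, 2, 2, 3, 4, 5, 6]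
  vecs := [[0, 0, 0, 0, 0, 0, 1], [0, 0, 0, 0, 0, 1, -1], [0, 0, 0, 0, 1, -1, 0], [0, 0, 0, 1, -1, 0, 0], [0, 1, 1, -1, 0, 0, 0], [0, -1, 1, 0, 0, 0, 0], [1, 1, -1, 0, 0, 0, 0], [1, -1, -1, 1, 0, 0, 0], [-1, 1, 0, 0, 0, 0, 0], [-1, -1, 0, 1, 0, 0, 0], [1, 0, 0, -1, 1, 0, 0], [-1, 0, 1, -1, 1, 0, 0], [1, 0, 0, 0, -1, 1, 0], [0, 0, -1, 0, 1, 0, 0], [-1, 0, 1, 0, -1, 1, 0], [1, 0, 0, 0, 0, -1, 1], [0, 0, -1, 1, -1, 1, 0], [-1, 0, 1, 0, 0, -1, 1], [1, 0, 0, 0, 0, 0, -1], [0, 1, 0, -1, 0, 1, 0], [0, 0, -1, 1, 0, -1, 1], [-1, 0, 1, 0, 0, 0, -1], [0, -1, 0, 0, 0, 1, 0], [0, 1, 0, -1, 1, -1, 1], [0, 0, -1, 1, 0, 0, -1], [0, -1, 0, 0, 1, -1, 1], [0, 1, 0, 0, -1, 0, 1], [0, 1, 0, -1, 1, 0, -1], [0, -1, 0, 1, -1, 0, 1], [0, -1, 0, 0, 1, 0, -1], [0, 1, 0, 0, -1, 1, -1],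 [0, 0, 1, -1, 0, 0, 1], [0, -1, 0, 1, -1, 1, -1], [0, 1, 0, 0, 0, -1, 0], [1, 0, -1, 0, 0, 0, 1], [0, 0, 1, -1, 0, 1, -1], [0, -1, 0, 1, 0, -1, 0], [-1, 0, 0, 0, 0, 0, 1], [1, 0, -1, 0, 0, 1, -1], [0, 0, 1, -1, 1, -1, 0], [-1, 0, 0, 0, 0, 1, -1], [1, 0, -1, 0, 1, -1, 0], [0, 0, 1, 0, -1, 0, 0], [-1, 0, 0, 0, 1, -1, 0], [1, 0, -1, 1, -1, 0, 0], [-1, 0, 0, 1, -1, 0, 0], [1, 1, 0, -1, 0, 0, 0], [-1, 1, 1, -1, 0, 0, 0], [1, -1, 0, 0, 0, 0, 0], [-1, -1, 1, 0, 0, 0, 0], [0, 1, -1, 0, 0, 0, 0], [0, -1, -1, 1, 0, 0, 0], [0, 0, 0, -1, 1, 0, 0], [0, 0, 0, 0, -1, 1, 0], [0, 0, 0, 0, 0, -1, 1], [0, 0, 0, 0, 0, 0, -1]]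

theorem L7_ok : levelOk 7 m A L7 = true := by decide +kernel

/-- A row of the comparison of the Coxeter matrix with its table. -/
def hmRow (i : Fin 7) : Prop := ∀ j : Fin 7, CoxeterMatrix.E₇ i j = m i j

instance : DecidablePred hmRow := fun i => by unfold hmRow; infer_instance

theorem hm : ∀ i j : Fin 7, CoxeterMatrix.E₇ i j = m i j := by
  have h : ∀ i, hmRow i := by decide
  exact h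

theorem hA : ∀ i j : Fin 7, (Smat A i * Smat A j) ^ m i j = 1 := by decide +kernel

theorem prod_c : ([L1, L2, L3, L4, L5, L6, L7].map Level.c).prod = 2903040 := by decide +kernel

/-- The order of the group, and a faithful representation. -/
theorem main : Nat.card (CoxeterMatrix.E₇).Group = 2903040 ∧
    ∃ f : (CoxeterMatrix.E₇).Group →* Matrix (Fin 7) (Fin 7) ℤ, Function.Injective f ∧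
      ∀ j, f ((CoxeterMatrix.E₇).simple j) = Smat A j := by
  have h := coxeter_card (CoxeterMatrix.E₇) m A [L1, L2, L3, L4, L5, L6, L7] hm hA ⟨rfl, L1_ok, rfl, L2_ok, rfl, L3_ok, rfl, L4_ok, rfl, L5_ok, rfl, L6_ok, rfl, L7_ok, trivial⟩ rfl
  rw [prod_c] at h
  exact h

end Cfsg.Agent.Helper7.CoxE7
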