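import Cfsg.Agent.Helper7.CoxEnum

set_option autoImplicit false

/-! The order of a Coxeter element from a faithful representation. -/

namespace Cfsg.Agent.Helper7.CoxEnum

/-- The matrix of the Coxeter element. -/
def coxMat (n : ℕ) (A : Nat → Nat → Int) : Matrix (Fin n) (Fin n) ℤ :=
  ((List.finRange n).map (Smat A)).prod

theorem orderOf_coxeter_element {n : ℕ} (M : CoxeterMatrix (Fin n)) (A : Nat → Nat → Int)
    (hmain : ∃ f : M.Group →* Matrix (Fin n) (Fin n) ℤ, Function.Injective f ∧
      ∀ j, f (M.simple j) = Smat A j)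
    (h : ℕ) (hpos : 0 < h)
    (hC : coxMat n A ^ h = 1 ∧ ∀ q < h, 0 < q → coxMat n A ^ q ≠ 1) :
    orderOf ((List.finRange n).map M.simple).prod = h := by
  obtain ⟨f, hinj, hf⟩ := hmain
  rw [← orderOf_injective f hinj]
  have e : f ((List.finRange n).map M.simple).prod = coxMat n A := by
    rw [map_list_prod, List.map_map, coxMat]
    congr 1
    apply List.map_congr_left
    intro j _
    exact hf j
  rw [e, orderOf_eq_iff hpos]
  exact hC

end Cfsg.Agent.Helper7.CoxEnum
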