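import Mathlib

set_option autoImplicit false
set_option linter.unusedSectionVars false

/-!
A kernel-checkable certificate for the order of a group generated by involutions `s_0, …, s_{n-1}`
subject to braid relations: for each `k` a coset table of `P_k = ⟨s_0, …, s_{k-1}⟩` modulo `P_{k-1}`,
with a justification of each entry by a relator scan, and an integral reflection representation
in which the cosets are told apart by the orbit of a weight fixed by `P_{k-1}`.
-/

namespace Cfsg.Agent.Helper7.CoxEnum

/-- The data of one level of the enumeration. -/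
structure Level where
  /-- the number of generators of the level -/
  k : Nat
  /-- the words of the coset representatives -/
  reps : List (List Nat)
  /-- the coset table -/
  tab : List (List Nat)
  /-- the ranks of the entries -/
  rk : List (List Nat)
  /-- the justifications of the entries -/
  js : List (List Nat)
  /-- the parents of the cosets -/
  par : List Nat
  /-- the generators leading from the parents -/
  pj : List Nat
  /-- the orbit of the weight -/
  vecs : List (List Int)

namespace Level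

variable (L : Level)

/-- The number of cosets. -/
def c : Nat := L.reps.length
/-- The word of a coset. -/
def rep (i : Nat) : List Nat := L.reps.getD i []
/-- The entry of the coset table. -/
def t (i j : Nat) : Nat := (L.tab.getD i []).getD j 0
/-- The rank of an entry. -/
def r (i j : Nat) : Nat := (L.rk.getD i []).getD j 0
/-- The justification of an entry. -/
def jc (i j : Nat) : Nat := (L.js.getD i []).getD j 0
/-- The parent of a coset. -/
def p (i : Nat) : Nat := L.par.getD i 0
/-- The generator from the parent. -/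
def g (i : Nat) : Nat := L.pj.getD i 0
/-- The vector of a coset. -/
def vec (i col : Nat) : Int := (L.vecs.getD i []).getD col 0

end Level

/-- The alternating word of given length starting with `a`. -/
def altW (a b : Nat) : Nat → List Nat
  | 0 => []
  | q + 1 => a :: altW b a q

/-- Tracing a word through the table, using only entries of rank below the bound. -/
def trace (L : Level) (bound : Nat) : Nat → List Nat → Option Nat
  | a, [] => some a
  | a, l :: w => if L.r a l < bound ∧ a < L.c ∧ l < L.k then trace L bound (L.t a l) w else none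

/-- The check of the justification of an entry. -/
def edgeOk (m : Nat → Nat → Nat) (L : Level) (i j : Nat) : Bool :=
  if L.jc i j = 0 then decide (L.rep (L.t i j) = L.rep i ++ [j])
  else if L.jc i j = 1 then decide (L.t (L.t i j) j = i ∧ L.r (L.t i j) j < L.r i j)
  else if L.jc i j = 2 then decide (i = 0 ∧ L.t i j = 0 ∧ j + 1 < L.k)
  else decide (L.jc i j - 3 < L.k ∧ L.jc i j - 3 ≠ j ∧ 1 ≤ m j (L.jc i j - 3) ∧
    trace L (L.r i j) i (altW (L.jc i j - 3) j (2 * m j (L.jc i j - 3) - 1)) = some (L.t i j))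

/-- The action of a reflection on a vector. -/
def vm (A : Nat → Nat → Int) (v : Nat → Int) (j col : Nat) : Int := v col - v j * A j col

/-- The check of a level. -/
def levelOk (n : Nat) (m : Nat → Nat → Nat) (A : Nat → Nat → Int) (L : Level) : Bool :=
  decide (1 ≤ L.k ∧ L.k ≤ n) && (decide (L.rep 0 = []) && (decide (1 ≤ L.c) &&
  ((List.range L.c).all (fun i => (List.range L.k).all (fun j =>
    decide (L.t i j < L.c) && edgeOk m L i j)) &&
  ((List.range L.c).all (fun i => (L.rep i).all (fun l => decide (l < L.k))) &&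
  ((List.range L.c).all (fun i => decide (i = 0) ||
    (decide (L.p i < i ∧ L.g i < L.k ∧ L.rep i = L.rep (L.p i) ++ [L.g i]) &&
      (List.range n).all (fun col => decide (L.vec i col = vm A (L.vec (L.p i)) (L.g i) col)))) &&
  ((List.range (L.k - 1)).all (fun j => (List.range n).all (fun col =>
    decide (vm A (L.vec 0) j col = L.vec 0 col))) &&
  (List.range L.c).all (fun i => (List.range L.c).all (fun i' => decide (i = i') ||
    (List.range n).any (fun col => decide (L.vec i col ≠ L.vec i' col))))))))))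

theorem levelOk_iff (n : Nat) (m : Nat → Nat → Nat) (A : Nat → Nat → Int) (L : Level) :
    levelOk n m A L = true ↔
    (1 ≤ L.k ∧ L.k ≤ n) ∧ L.rep 0 = [] ∧ 1 ≤ L.c ∧
    (∀ i < L.c, ∀ j < L.k, L.t i j < L.c ∧ edgeOk m L i j = true) ∧
    (∀ i < L.c, ∀ l ∈ L.rep i, l < L.k) ∧
    (∀ i < L.c, i = 0 ∨ ((L.p i < i ∧ L.g i < L.k ∧ L.rep i = L.rep (L.p i) ++ [L.g i]) ∧
      ∀ col < n, L.vec i col = vm A (L.vec (L.p i)) (L.g i) col)) ∧
    (∀ j < L.k - 1, ∀ col < n, vm A (L.vec 0) j col = L.vec 0 col) ∧
    (∀ i < L.c, ∀ i' < L.c, i = i' ∨ ∃ col < n, L.vec i col ≠ L.vec i' col) := by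
  simp only [levelOk, Bool.and_eq_true, Bool.or_eq_true, List.all_eq_true, List.any_eq_true,
    List.mem_range, decide_eq_true_eq]

section group

variable {W : Type*} [Group W] {n : ℕ} (s : Fin n → W)

/-- The generator with a given number (the identity beyond the range). -/
def sN (l : Nat) : W := if h : l < n then s ⟨l, h⟩ else 1

/-- The product of a word. -/
def prodN (w : List Nat) : W := (w.map (sN s)).prod

theorem prodN_nil : prodN s [] = 1 := rfl

theorem prodN_cons (l : Nat) (w : List Nat) : prodN s (l :: w) = sN s l * prodN s w := by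
  simp [prodN]

theorem prodN_append (w w' : List Nat) : prodN s (w ++ w') = prodN s w * prodN s w' := by
  simp [prodN]

theorem prodN_singleton (l : Nat) : prodN s [l] = sN s l := by
  simp [prodN]

/-- The subgroup generated by the first `k` generators. -/
def P (k : Nat) : Subgroup W := Subgroup.closure {x | ∃ l, l < k ∧ x = sN s l}

theorem sN_mem_P {l k : Nat} (h : l < k) : sN s l ∈ P s k :=
  Subgroup.subset_closure ⟨l, h, rfl⟩

theorem P_mono {k k' : Nat} (h : k ≤ k') : P s k ≤ P s k' := by
  apply Subgroup.closure_mono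
  rintro x ⟨l, hl, rfl⟩
  exact ⟨l, lt_of_lt_of_le hl h, rfl⟩

theorem P_zero : P s 0 = ⊥ := by
  rw [P, Subgroup.closure_eq_bot_iff]
  rintro x ⟨l, hl, _⟩
  exact absurd hl (Nat.not_lt_zero l)

theorem prodN_mem_P {k : Nat} : ∀ w : List Nat, (∀ l ∈ w, l < k) → prodN s w ∈ P s k := by
  intro w
  induction w with
  | nil => intro _; exact Subgroup.one_mem _
  | cons l w ih =>
    intro h
    rw [prodN_cons]
    exact Subgroup.mul_mem _ (sN_mem_P s (h l List.mem_cons_self))
      (ih (fun x hx => h x (List.mem_cons_of_mem _ hx)))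

variable (hs2 : ∀ i, s i * s i = 1)
include hs2

theorem sN_mul_self (l : Nat) : sN s l * sN s l = 1 := by
  unfold sN
  split_ifs with h
  · exact hs2 _
  · exact one_mul 1

theorem sN_inv (l : Nat) : (sN s l)⁻¹ = sN s l :=
  inv_eq_of_mul_eq_one_right (sN_mul_self s hs2 l)

omit hs2 in
theorem prodN_altW_odd (a b : Nat) (q : Nat) :
    prodN s (altW a b (2 * q + 1)) = (sN s a * sN s b) ^ q * sN s a := by
  induction q with
  | zero => simp [altW, prodN]
  | succ q ih =>
    have : 2 * (q + 1) + 1 = (2 * q + 1) + 1 + 1 := by ring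
    rw [this, altW, altW, prodN_cons, prodN_cons, ih, pow_succ']
    simp only [mul_assoc]

variable (m : Nat → Nat → Nat) (hm : ∀ a b : Nat, a < n → b < n → (sN s a * sN s b) ^ m a b = 1)
include hm

/-- The braid relation in the form used by the relator scans. -/
theorem prodN_altW_braid {j jp : Nat} (hj : j < n) (hjp : jp < n) (h1 : 1 ≤ m j jp) :
    prodN s (altW jp j (2 * m j jp - 1)) = sN s j := by
  obtain ⟨q, hq⟩ : ∃ q, m j jp = q + 1 := ⟨m j jp - 1, by omega⟩
  have e : 2 * m j jp - 1 = 2 * q + 1 := by omega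
  rw [e, prodN_altW_odd s]
  have h := hm j jp hj hjp
  rw [hq, pow_succ] at h
  -- (x y)^q * (x y) = 1 with x = s j, y = s jp; want (y x)^q * y = x
  set x := sN s j with hx
  set y := sN s jp with hy
  have hxx : x * x = 1 := sN_mul_self s hs2 j
  have hyy : y * y = 1 := sN_mul_self s hs2 jp
  have h2 : (x * y) ^ q = y * x := by
    have : (x * y) ^ q = (x * y)⁻¹ := eq_inv_of_mul_eq_one_left h
    rw [this, mul_inv_rev, inv_eq_of_mul_eq_one_right hxx, inv_eq_of_mul_eq_one_right hyy]
  have h3 : ∀ t : Nat, (y * x) ^ t * y = y * (x * y) ^ t := by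
    intro t
    induction t with
    | zero => simp
    | succ t ih => rw [pow_succ', mul_assoc, ih, pow_succ']; simp only [mul_assoc]
  rw [h3, h2, ← mul_assoc, hyy, one_mul]

end group

section sound

variable {W : Type*} [Group W] {n : ℕ} (s : Fin n → W) (L : Level)

/-- An entry of the table holds in the group, up to the subgroup below. -/
def Valid (i j : Nat) : Prop :=
  ∃ p ∈ P s (L.k - 1), prodN s (L.rep i) * sN s j = p * prodN s (L.rep (L.t i j))

theorem trace_sound (bound : Nat)
    (hv : ∀ a l, a < L.c → l < L.k → L.r a l < bound → Valid s L a l)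
    (ht : ∀ i < L.c, ∀ j < L.k, L.t i j < L.c) :
    ∀ (w : List Nat) (a b : Nat), a < L.c → trace L bound a w = some b →
      b < L.c ∧ ∃ p ∈ P s (L.k - 1), prodN s (L.rep a) * prodN s w = p * prodN s (L.rep b)
  | [], a, b, ha, h => by
      simp only [trace, Option.some.injEq] at h
      subst h
      exact ⟨ha, 1, Subgroup.one_mem _, by rw [prodN_nil, mul_one, one_mul]⟩
  | l :: w, a, b, ha, h => by
      rw [trace] at h
      split_ifs at h with hc
      obtain ⟨hr, _, hl⟩ := hc
      obtain ⟨hb, p, hp, e⟩ := trace_sound bound hv ht w (L.t a l) b (ht a ha l hl) h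
      obtain ⟨p', hp', e'⟩ := hv a l ha hl hr
      refine ⟨hb, p' * p, Subgroup.mul_mem _ hp' hp, ?_⟩
      rw [prodN_cons, ← mul_assoc, e', mul_assoc, e, mul_assoc]

variable (hs2 : ∀ i, s i * s i = 1)
  (m : Nat → Nat → Nat) (hm : ∀ a b : Nat, a < n → b < n → (sN s a * sN s b) ^ m a b = 1)
  (A : Nat → Nat → Int) (hL : levelOk n m A L = true)
include hs2 hm hL

theorem valid_of_rank :
    ∀ N i j, i < L.c → j < L.k → L.r i j < N → Valid s L i j := by
  obtain ⟨⟨hk1, hkn⟩, hrep0, hc1, hedge, hlet, hpar, hfix, hdist⟩ := (levelOk_iff n m A L).1 hL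
  intro N
  induction N with
  | zero => intro i j _ _ h; exact absurd h (Nat.not_lt_zero _)
  | succ N ih =>
    intro i j hi hj hr
    have hE := (hedge i hi j hj).2
    have hti := (hedge i hi j hj).1
    unfold edgeOk at hE
    split_ifs at hE with h0 h1 h2
    · -- tree
      have e := of_decide_eq_true hE
      exact ⟨1, Subgroup.one_mem _, by rw [e, prodN_append, prodN_singleton, one_mul]⟩
    · -- rev
      obtain ⟨e1, e2⟩ := of_decide_eq_true hE
      obtain ⟨p, hp, e⟩ := ih (L.t i j) j hti hj (by omega)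
      rw [e1] at e
      refine ⟨p⁻¹, Subgroup.inv_mem _ hp, ?_⟩
      have : prodN s (L.rep i) = p⁻¹ * (prodN s (L.rep (L.t i j)) * sN s j) := by
        rw [e, inv_mul_cancel_left]
      rw [this, mul_assoc, mul_assoc, sN_mul_self s hs2, mul_one]
    · -- sub
      obtain ⟨e1, e2, e3⟩ := of_decide_eq_true hE
      subst e1
      rw [Valid, e2, hrep0, prodN_nil]
      exact ⟨sN s j, sN_mem_P s (by omega), by rw [one_mul, mul_one]⟩
    · -- scan
      obtain ⟨e1, e2, e3, e4⟩ := of_decide_eq_true hE
      obtain ⟨hb, p, hp, e⟩ := trace_sound s L (L.r i j)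
        (fun a l ha hl h => ih a l ha hl (by omega)) (fun i hi j hj => (hedge i hi j hj).1)
        _ i _ hi e4
      refine ⟨p, hp, ?_⟩
      rw [← e, prodN_altW_braid s hs2 m hm (by omega) (by omega) e3]

theorem valid (i j : Nat) (hi : i < L.c) (hj : j < L.k) : Valid s L i j :=
  valid_of_rank s L hs2 m hm A hL (L.r i j + 1) i j hi hj (Nat.lt_succ_self _)

/-- Every element of the subgroup of the level is in a coset of the table. -/
theorem exists_rep (x : W) (hx : x ∈ P s L.k) :
    ∃ p ∈ P s (L.k - 1), ∃ i < L.c, x = p * prodN s (L.rep i) := by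
  obtain ⟨⟨hk1, hkn⟩, hrep0, hc1, hedge, hlet, hpar, hfix, hdist⟩ := (levelOk_iff n m A L).1 hL
  have step : ∀ x : W, (∃ p ∈ P s (L.k - 1), ∃ i < L.c, x = p * prodN s (L.rep i)) →
      ∀ j < L.k, ∃ p ∈ P s (L.k - 1), ∃ i < L.c, x * sN s j = p * prodN s (L.rep i) := by
    rintro x ⟨p, hp, i, hi, rfl⟩ j hj
    obtain ⟨p', hp', e⟩ := valid s L hs2 m hm A hL i j hi hj
    exact ⟨p * p', Subgroup.mul_mem _ hp hp', L.t i j, (hedge i hi j hj).1, by
      rw [mul_assoc, e, mul_assoc]⟩
  unfold P at hx
  induction hx using Subgroup.closure_induction_right with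
  | one => exact ⟨1, Subgroup.one_mem _, 0, hc1, by rw [hrep0, prodN_nil, mul_one]⟩
  | mul_right x hx y hy ih =>
    obtain ⟨l, hl, rfl⟩ := hy
    exact step x ih l hl
  | mul_inv_cancel x hx y hy ih =>
    obtain ⟨l, hl, rfl⟩ := hy
    rw [sN_inv s hs2]
    exact step x ih l hl

end sound

section rep

/-- The matrix of a reflection in the contragredient representation. -/
def Smat {n : ℕ} (A : Nat → Nat → Int) (j : Fin n) : Matrix (Fin n) (Fin n) ℤ :=
  fun r col => (if r = col then 1 else 0) - (if r = j then A j col else 0)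

theorem vecMul_Smat {n : ℕ} (A : Nat → Nat → Int) (v : Fin n → ℤ) (j col : Fin n) :
    (Matrix.vecMul v (Smat A j)) col = v col - v j * A j col := by
  simp only [Matrix.vecMul, dotProduct, Smat, mul_sub, Finset.sum_sub_distrib, mul_ite, mul_one,
    mul_zero, Finset.sum_ite_eq', Finset.mem_univ, if_true]

/-- The vector of a coset. -/
def vecF (n : ℕ) (L : Level) (i : Nat) : Fin n → ℤ := fun col => L.vec i col

variable {W : Type*} [Group W] {n : ℕ} (s : Fin n → W) (L : Level)
  (hs2 : ∀ i, s i * s i = 1)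
  (m : Nat → Nat → Nat) (hm : ∀ a b : Nat, a < n → b < n → (sN s a * sN s b) ^ m a b = 1)
  (A : Nat → Nat → Int) (hL : levelOk n m A L = true)
  (f : W →* Matrix (Fin n) (Fin n) ℤ) (hf : ∀ j, f (s j) = Smat A j)

include hL hf in
theorem vecMul_sN (i : Nat) (j : Nat) (hj : j < n) :
    Matrix.vecMul (vecF n L i) (f (sN s j)) = fun col : Fin n => vm A (L.vec i) j col := by
  funext col
  have : sN s j = s ⟨j, hj⟩ := by simp [sN, hj]
  rw [this, hf, vecMul_Smat]
  rfl

include hL hf in
/-- The subgroup below fixes the vector of the trivial coset. -/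
theorem fix_of_mem (p : W) (hp : p ∈ P s (L.k - 1)) :
    Matrix.vecMul (vecF n L 0) (f p) = vecF n L 0 := by
  obtain ⟨⟨hk1, hkn⟩, hrep0, hc1, hedge, hlet, hpar, hfix, hdist⟩ := (levelOk_iff n m A L).1 hL
  unfold P at hp
  induction hp using Subgroup.closure_induction with
  | mem x hx =>
    obtain ⟨l, hl, rfl⟩ := hx
    rw [vecMul_sN s L m A hL f hf 0 l (by omega)]
    funext col
    exact hfix l hl col col.2
  | one => rw [map_one, Matrix.vecMul_one]
  | mul x y _ _ hx hy => rw [map_mul, ← Matrix.vecMul_vecMul, hx, hy]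
  | inv x _ hx =>
    have h1 : f x * f x⁻¹ = 1 := by rw [← map_mul, mul_inv_cancel, map_one]
    calc Matrix.vecMul (vecF n L 0) (f x⁻¹)
        = Matrix.vecMul (Matrix.vecMul (vecF n L 0) (f x)) (f x⁻¹) := by rw [hx]
      _ = vecF n L 0 := by rw [Matrix.vecMul_vecMul, h1, Matrix.vecMul_one]

include hL hf in
/-- The representative of a coset moves the vector of the trivial coset to that of the coset. -/
theorem vecMul_rep : ∀ i, i < L.c →
    Matrix.vecMul (vecF n L 0) (f (prodN s (L.rep i))) = vecF n L i := by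
  obtain ⟨⟨hk1, hkn⟩, hrep0, hc1, hedge, hlet, hpar, hfix, hdist⟩ := (levelOk_iff n m A L).1 hL
  intro i
  induction i using Nat.strong_induction_on with
  | _ i ih =>
    intro hi
    rcases hpar i hi with rfl | ⟨⟨h1, h2, h3⟩, h4⟩
    · rw [hrep0, prodN_nil, map_one, Matrix.vecMul_one]
    · rw [h3, prodN_append, prodN_singleton, map_mul, ← Matrix.vecMul_vecMul,
        ih (L.p i) h1 (by omega), vecMul_sN s L m A hL f hf (L.p i) (L.g i) (by omega)]
      funext col
      exact (h4 col col.2).symm

include hs2 hm hL hf in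
/-- The cosets of the table are distinct. -/
theorem rep_inj (p p' : W) (hp : p ∈ P s (L.k - 1)) (hp' : p' ∈ P s (L.k - 1)) (i i' : Nat)
    (hi : i < L.c) (hi' : i' < L.c)
    (h : p * prodN s (L.rep i) = p' * prodN s (L.rep i')) : i = i' ∧ p = p' := by
  obtain ⟨⟨hk1, hkn⟩, hrep0, hc1, hedge, hlet, hpar, hfix, hdist⟩ := (levelOk_iff n m A L).1 hL
  have key : ∀ (q : W) (_ : q ∈ P s (L.k - 1)) (a : Nat) (_ : a < L.c),
      Matrix.vecMul (vecF n L 0) (f (q * prodN s (L.rep a))) = vecF n L a := by
    intro q hq a ha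
    rw [map_mul, ← Matrix.vecMul_vecMul, fix_of_mem s L m A hL f hf q hq,
      vecMul_rep s L m A hL f hf a ha]
  have e : vecF n L i = vecF n L i' := by
    rw [← key p hp i hi, ← key p' hp' i' hi', h]
  have hii : i = i' := by
    rcases hdist i hi i' hi' with h | ⟨col, hcol, hne⟩
    · exact h
    · exact absurd (congrFun e ⟨col, hcol⟩) hne
  subst hii
  exact ⟨rfl, mul_right_cancel h⟩

include hs2 hm hL hf in
/-- The order of the subgroup of the level. -/
theorem card_P : Nat.card (P s L.k) = Nat.card (P s (L.k - 1)) * L.c := by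
  obtain ⟨⟨hk1, hkn⟩, hrep0, hc1, hedge, hlet, hpar, hfix, hdist⟩ := (levelOk_iff n m A L).1 hL
  have hle : P s (L.k - 1) ≤ P s L.k := P_mono s (by omega)
  let φ : P s (L.k - 1) × Fin L.c → P s L.k := fun x =>
    ⟨x.1.1 * prodN s (L.rep x.2.1), Subgroup.mul_mem _ (hle x.1.2)
      (prodN_mem_P s _ (hlet x.2.1 x.2.2))⟩
  have hφ : Function.Bijective φ := by
    constructor
    · rintro ⟨⟨p, hp⟩, ⟨i, hi⟩⟩ ⟨⟨p', hp'⟩, ⟨i', hi'⟩⟩ h
      have h' : p * prodN s (L.rep i) = p' * prodN s (L.rep i') := congrArg Subtype.val h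
      obtain ⟨e1, e2⟩ := rep_inj s L hs2 m hm A hL f hf p p' hp hp' i i' hi hi' h'
      subst e1 e2
      rfl
    · rintro ⟨x, hx⟩
      obtain ⟨p, hp, i, hi, rfl⟩ := exists_rep s L hs2 m hm A hL x hx
      exact ⟨⟨⟨p, hp⟩, ⟨i, hi⟩⟩, rfl⟩
  rw [← Nat.card_congr (Equiv.ofBijective φ hφ), Nat.card_prod, Nat.card_eq_fintype_card (α := Fin L.c),
    Fintype.card_fin]

include hs2 hm hL hf in
/-- The kernel of the representation descends. -/
theorem ker_step (x : W) (hx : x ∈ P s L.k) (hfx : f x = 1) : x ∈ P s (L.k - 1) := by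
  obtain ⟨⟨hk1, hkn⟩, hrep0, hc1, hedge, hlet, hpar, hfix, hdist⟩ := (levelOk_iff n m A L).1 hL
  obtain ⟨p, hp, i, hi, rfl⟩ := exists_rep s L hs2 m hm A hL x hx
  have e : vecF n L i = vecF n L 0 := by
    have h1 : Matrix.vecMul (vecF n L 0) (f (p * prodN s (L.rep i))) = vecF n L i := by
      rw [map_mul, ← Matrix.vecMul_vecMul, fix_of_mem s L m A hL f hf p hp,
        vecMul_rep s L m A hL f hf i hi]
    rw [← h1, hfx, Matrix.vecMul_one]
  have hi0 : i = 0 := by
    rcases hdist i hi 0 hc1 with h | ⟨col, hcol, hne⟩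
    · exact h
    · exact absurd (congrFun e ⟨col, hcol⟩) hne
  subst hi0
  rw [hrep0, prodN_nil, mul_one]
  exact hp

end rep

section chain

/-- The check of a chain of levels. -/
def levelsOk (n : Nat) (m : Nat → Nat → Nat) (A : Nat → Nat → Int) : Nat → List Level → Prop
  | _, [] => True
  | k, L :: Ls => L.k = k + 1 ∧ levelOk n m A L = true ∧ levelsOk n m A (k + 1) Ls

variable {W : Type*} [Group W] {n : ℕ} (s : Fin n → W)
  (hs2 : ∀ i, s i * s i = 1)
  (m : Nat → Nat → Nat) (hm : ∀ a b : Nat, a < n → b < n → (sN s a * sN s b) ^ m a b = 1)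
  (A : Nat → Nat → Int)
  (f : W →* Matrix (Fin n) (Fin n) ℤ) (hf : ∀ j, f (s j) = Smat A j)
include hs2 hm hf

theorem chain_card : ∀ (Ls : List Level) (k : Nat), levelsOk n m A k Ls →
    Nat.card (P s (k + Ls.length)) = Nat.card (P s k) * (Ls.map Level.c).prod
  | [], k, _ => by simp
  | L :: Ls, k, h => by
    obtain ⟨hk, hL, hrest⟩ := h
    have ih := chain_card Ls (k + 1) hrest
    have h1 := card_P s L hs2 m hm A hL f hf
    rw [hk, Nat.add_sub_cancel] at h1
    have e : k + (L :: Ls).length = k + 1 + Ls.length := by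
      rw [List.length_cons]; omega
    rw [e, ih, h1, List.map_cons, List.prod_cons, mul_assoc]

theorem chain_ker : ∀ (Ls : List Level) (k : Nat), levelsOk n m A k Ls →
    ∀ x ∈ P s (k + Ls.length), f x = 1 → x ∈ P s k
  | [], k, _ => by intro x hx _; simpa using hx
  | L :: Ls, k, h => by
    obtain ⟨hk, hL, hrest⟩ := h
    intro x hx hfx
    have e : k + (L :: Ls).length = k + 1 + Ls.length := by
      rw [List.length_cons]; omega
    rw [e] at hx
    have h1 := chain_ker Ls (k + 1) hrest x hx hfx
    have h2 := ker_step s L hs2 m hm A hL f hf x (by rw [hk]; exact h1) hfx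
    rwa [hk, Nat.add_sub_cancel] at h2

end chain

section coxeter

variable {n : ℕ} (M : CoxeterMatrix (Fin n)) (m : Nat → Nat → Nat) (A : Nat → Nat → Int)
  (Ls : List Level)

theorem P_top : P M.simple n = ⊤ := by
  have h := M.toCoxeterSystem.subgroup_closure_range_simple
  rw [CoxeterMatrix.toCoxeterSystem_simple] at h
  rw [← h, P]
  congr 1
  ext x
  constructor
  · rintro ⟨l, hl, rfl⟩
    exact ⟨⟨l, hl⟩, by simp [sN, hl]⟩
  · rintro ⟨j, rfl⟩
    exact ⟨j.1, j.2, by simp [sN]⟩

/-- The order of a Coxeter group from a checked chain of levels, with a faithful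
representation. -/
theorem coxeter_card (hm : ∀ i j : Fin n, M i j = m i j)
    (hA : ∀ i j : Fin n, (Smat A i * Smat A j) ^ m i j = 1)
    (hLs : levelsOk n m A 0 Ls) (hlen : Ls.length = n) :
    Nat.card M.Group = (Ls.map Level.c).prod ∧
    ∃ f : M.Group →* Matrix (Fin n) (Fin n) ℤ, Function.Injective f ∧
      ∀ j, f (M.simple j) = Smat A j := by
  have hsimple : M.toCoxeterSystem.simple = M.simple := CoxeterMatrix.toCoxeterSystem_simple M
  have hs2 : ∀ i, M.simple i * M.simple i = 1 := by
    intro i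
    rw [← hsimple]
    exact M.toCoxeterSystem.simple_mul_simple_self i
  have hm' : ∀ a b : Nat, a < n → b < n → (sN M.simple a * sN M.simple b) ^ m a b = 1 := by
    intro a b ha hb
    have e1 : sN M.simple a = M.simple ⟨a, ha⟩ := by simp [sN, ha]
    have e2 : sN M.simple b = M.simple ⟨b, hb⟩ := by simp [sN, hb]
    rw [e1, e2, ← hsimple]
    have := M.toCoxeterSystem.simple_mul_simple_pow ⟨a, ha⟩ ⟨b, hb⟩
    rw [hm] at this
    exact this
  have hlift : M.IsLiftable (Smat (n := n) A) := by
    intro i j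
    rw [hm]
    exact hA i j
  let f : M.Group →* Matrix (Fin n) (Fin n) ℤ := M.toCoxeterSystem.lift ⟨Smat A, hlift⟩
  have hf : ∀ j, f (M.simple j) = Smat A j := by
    intro j
    rw [← hsimple]
    exact M.toCoxeterSystem.lift_apply_simple hlift j
  have hcard := chain_card M.simple hs2 m hm' A f hf Ls 0 hLs
  have hker := chain_ker M.simple hs2 m hm' A f hf Ls 0 hLs
  rw [Nat.zero_add, hlen, P_top] at hcard hker
  rw [P_zero] at hcard hker
  refine ⟨?_, f, ?_, hf⟩
  · rw [← Subgroup.card_top (G := M.Group), hcard, Subgroup.card_bot, one_mul]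
  · rw [injective_iff_map_eq_one]
    intro x hx
    exact (Subgroup.mem_bot).1 (hker x (Subgroup.mem_top x) hx)

end coxeter

end Cfsg.Agent.Helper7.CoxEnum
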