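import Cfsg.Agent.Helper7.CoxElt

set_option autoImplicit false

/-! Generation of a finite Coxeter group by the Coxeter element and a few simple reflections,
checked in a faithful integral representation. -/

namespace Cfsg.Agent.Helper7.CoxEnum

variable {n : ℕ}

/-- The Coxeter element. -/
def coxElt (M : CoxeterMatrix (Fin n)) : M.Group := ((List.finRange n).map M.simple).prod

/-- Letters: `none` is the Coxeter element, `some i` the `i`-th simple reflection. -/
def letW (M : CoxeterMatrix (Fin n)) : Option (Fin n) → M.Group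
  | none => coxElt M
  | some i => M.simple i

/-- The matrices of the letters. -/
def letM (A : Nat → Nat → Int) : Option (Fin n) → Matrix (Fin n) (Fin n) ℤ
  | none => coxMat n A
  | some i => Smat A i

/-- Evaluation of a word of syllables in the group. -/
def evalW (M : CoxeterMatrix (Fin n)) (w : List (Option (Fin n) × ℕ)) : M.Group :=
  (w.map fun p => letW M p.1 ^ p.2).prod

/-- Evaluation of a word of syllables in matrices. -/
def evalM (A : Nat → Nat → Int) (w : List (Option (Fin n) × ℕ)) : Matrix (Fin n) (Fin n) ℤ :=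
  (w.map fun p => letM A p.1 ^ p.2).prod

theorem map_coxElt (M : CoxeterMatrix (Fin n)) (A : Nat → Nat → Int)
    (f : M.Group →* Matrix (Fin n) (Fin n) ℤ) (hf : ∀ j, f (M.simple j) = Smat A j) :
    f (coxElt M) = coxMat n A := by
  rw [coxElt, map_list_prod, List.map_map, coxMat]
  congr 1
  apply List.map_congr_left
  intro j _
  exact hf j

theorem map_evalW (M : CoxeterMatrix (Fin n)) (A : Nat → Nat → Int)
    (f : M.Group →* Matrix (Fin n) (Fin n) ℤ) (hf : ∀ j, f (M.simple j) = Smat A j)
    (w : List (Option (Fin n) × ℕ)) : f (evalW M w) = evalM A w := by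
  rw [evalW, map_list_prod, List.map_map, evalM]
  congr 1
  apply List.map_congr_left
  intro p _
  rw [Function.comp_apply, map_pow]
  congr 1
  cases p.1 with
  | none => exact map_coxElt M A f hf
  | some i => exact hf i

/-- All letters of the word are the Coxeter element or simple reflections from `Tl`. -/
def wordOk (Tl : List (Fin n)) (w : List (Option (Fin n) × ℕ)) : Prop :=
  ∀ p ∈ w, p.1 = none ∨ ∃ i ∈ Tl, p.1 = some i

instance (Tl : List (Fin n)) (w : List (Option (Fin n) × ℕ)) : Decidable (wordOk Tl w) := by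
  unfold wordOk
  infer_instance

theorem evalW_mem (M : CoxeterMatrix (Fin n)) (H : Subgroup M.Group) (hc : coxElt M ∈ H)
    (Tl : List (Fin n)) (hT : ∀ i ∈ Tl, M.simple i ∈ H) (w : List (Option (Fin n) × ℕ))
    (hw : wordOk Tl w) : evalW M w ∈ H := by
  unfold evalW
  apply Subgroup.list_prod_mem
  intro x hx
  obtain ⟨p, hp, rfl⟩ := List.mem_map.1 hx
  apply Subgroup.pow_mem
  rcases hw p hp with h | ⟨i, hi, h⟩
  · rw [h]
    exact hc
  · rw [h]
    exact hT i hi

/-- The generation criterion. -/
theorem closure_eq_top_of_words (M : CoxeterMatrix (Fin n)) (A : Nat → Nat → Int)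
    (hmain : ∃ f : M.Group →* Matrix (Fin n) (Fin n) ℤ, Function.Injective f ∧
      ∀ j, f (M.simple j) = Smat A j)
    (H : Subgroup M.Group) (hc : coxElt M ∈ H)
    (Tl : List (Fin n)) (hT : ∀ i ∈ Tl, M.simple i ∈ H)
    (words : List (List (Option (Fin n) × ℕ)))
    (hok : ∀ j : Fin n, wordOk Tl (words.getD j []) ∧ evalM A (words.getD j []) = Smat A j) :
    H = ⊤ := by
  obtain ⟨f, hinj, hf⟩ := hmain
  rw [eq_top_iff, ← M.toCoxeterSystem.subgroup_closure_range_simple, Subgroup.closure_le]
  rintro _ ⟨j, rfl⟩
  have h1 : M.toCoxeterSystem.simple j = evalW M (words.getD j []) := by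
    apply hinj
    rw [map_evalW M A f hf, (hok j).2]
    exact hf j
  rw [SetLike.mem_coe, h1]
  exact evalW_mem M H hc Tl hT _ (hok j).1

end Cfsg.Agent.Helper7.CoxEnum
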