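import Mathlib

set_option autoImplicit false

/-!
# Cyclic TI Sylow subgroups, part A: polynomial identities in characteristic `p`

For an endomorphism `A` of a vector space over a field of characteristic `p` we write `t = A - 1`.
* `(A - 1)^(p^k) = A^(p^k) - 1`,
* `∑_{i < p^k} A^i = (A - 1)^(p^k - 1)`,
* for `p ∤ a`, `(A^a - 1)^(p-1)` and `(A - 1)^(p-1)` agree on the kernel of `(A - 1)^p`.
-/

namespace Cfsg.Agent.Helper7.CycTI

open Polynomial

section poly

variable {F : Type*} [Field F] (p : ℕ) [Fact p.Prime] [CharP F p]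

theorem cycti_poly_sub_one_pow (k : ℕ) :
    ((X : F[X]) - 1) ^ (p ^ k) = X ^ (p ^ k) - 1 := by
  rw [sub_pow_char_pow, one_pow]

theorem cycti_poly_geom (k : ℕ) :
    ∑ i ∈ Finset.range (p ^ k), (X : F[X]) ^ i = (X - 1) ^ (p ^ k - 1) := by
  have hp : 1 ≤ p ^ k := Nat.one_le_pow _ _ (Fact.out : p.Prime).pos
  have h1 : ((X : F[X]) - 1) * ∑ i ∈ Finset.range (p ^ k), (X : F[X]) ^ i =
      (X - 1) * (X - 1) ^ (p ^ k - 1) := by
    rw [mul_geom_sum, ← pow_succ', Nat.sub_add_cancel hp, cycti_poly_sub_one_pow]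
  have h2 : (X : F[X]) - 1 ≠ 0 := by
    have := X_sub_C_ne_zero (1 : F)
    simpa using this
  exact mul_left_cancel₀ h2 h1

theorem cycti_natCast_pow (a : ℕ) (ha : ¬ p ∣ a) : ((a : F)) ^ (p - 1) = 1 := by
  have h1 : (a : ZMod p) ≠ 0 := by
    rwa [Ne, ZMod.natCast_eq_zero_iff]
  have h2 := ZMod.pow_card_sub_one_eq_one h1
  have := congrArg (ZMod.castHom (dvd_refl p) F) h2
  simpa using this

theorem cycti_poly_fermat (a : ℕ) (ha : ¬ p ∣ a) :
    ∃ R : F[X], ((X : F[X]) ^ a - 1) ^ (p - 1) = (X - 1) ^ (p - 1) + R * (X - 1) ^ p := by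
  have hp : 1 ≤ p := (Fact.out : p.Prime).pos
  set S : F[X] := ∑ i ∈ Finset.range a, X ^ i with hS
  have h1 : (X : F[X]) ^ a - 1 = (X - 1) * S := (mul_geom_sum _ _).symm
  have h2 : (X - C (1 : F)) ∣ S ^ (p - 1) - 1 := by
    rw [dvd_iff_isRoot, IsRoot.def]
    simp [hS, eval_geom_sum, cycti_natCast_pow p a ha]
  obtain ⟨R, hR⟩ := h2
  refine ⟨R, ?_⟩
  have h3 : S ^ (p - 1) = 1 + (X - 1) * R := by
    have : S ^ (p - 1) = (S ^ (p - 1) - 1) + 1 := by ring
    rw [this, hR]
    simp only [map_one]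
    ring
  have h4 : ((X : F[X]) - 1) ^ p = (X - 1) ^ (p - 1) * (X - 1) := by
    rw [← pow_succ, Nat.sub_add_cancel hp]
  rw [h1, mul_pow, h3, h4]
  ring

end poly

section endo

variable {F : Type*} [Field F] (p : ℕ) [Fact p.Prime] [CharP F p]
  {V : Type*} [AddCommGroup V] [Module F V] (A : Module.End F V)

theorem cycti_end_sub_one_pow (k : ℕ) : (A - 1) ^ (p ^ k) = A ^ (p ^ k) - 1 := by
  have := congrArg (aeval A) (cycti_poly_sub_one_pow (F := F) p k)
  simpa using this

theorem cycti_end_geom (k : ℕ) :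
    ∑ i ∈ Finset.range (p ^ k), A ^ i = (A - 1) ^ (p ^ k - 1) := by
  have := congrArg (aeval A) (cycti_poly_geom (F := F) p k)
  simpa using this

theorem cycti_end_fermat (a : ℕ) (ha : ¬ p ∣ a) (w : V) (hw : ((A - 1) ^ p) w = 0) :
    ((A ^ a - 1) ^ (p - 1)) w = ((A - 1) ^ (p - 1)) w := by
  obtain ⟨R, hR⟩ := cycti_poly_fermat (F := F) p a ha
  have := congrArg (aeval A) hR
  simp only [map_sub, map_pow, aeval_X, map_one, map_add, map_mul] at this
  rw [this, LinearMap.add_apply, Module.End.mul_apply, hw, map_zero, add_zero]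

/-- if the kernels of the powers of a nilpotent endomorphism stabilise at `m`, then `t^m = 0`. -/
theorem cycti_pow_eq_zero_of_ker (t : Module.End F V) (m : ℕ) (hnil : IsNilpotent t)
    (h : ∀ w, (t ^ (m + 1)) w = 0 → (t ^ m) w = 0) : t ^ m = 0 := by
  have key : ∀ k : ℕ, ∀ w, (t ^ (m + k)) w = 0 → (t ^ m) w = 0 := by
    intro k
    induction k with
    | zero => intro w hw; simpa using hw
    | succ k ih =>
      intro w hw
      apply ih
      have e : m + (k + 1) = (m + 1) + k := by ring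
      rw [e, pow_add, Module.End.mul_apply] at hw
      have := h _ hw
      rwa [← Module.End.mul_apply, ← pow_add] at this
  obtain ⟨N, hN⟩ := hnil
  ext w
  refine key N w ?_
  rw [pow_add, hN, mul_zero]
  rfl

/-- a nilpotent endomorphism of a finite-dimensional space vanishes at the power `finrank`. -/
theorem cycti_pow_eq_zero_of_finrank_le [FiniteDimensional F V] (t : Module.End F V)
    (hnil : IsNilpotent t) {m : ℕ} (hm : Module.finrank F V ≤ m) : t ^ m = 0 := by
  obtain ⟨N, hN⟩ := hnil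
  have h1 := Module.End.ker_pow_le_ker_pow_finrank t N
  rw [hN] at h1
  have h2 : t ^ Module.finrank F V = 0 := by
    ext w
    have : w ∈ LinearMap.ker (t ^ Module.finrank F V) := h1 (by simp)
    simpa using this
  obtain ⟨j, rfl⟩ := Nat.exists_eq_add_of_le hm
  rw [pow_add, h2, zero_mul]

/-- a nilpotent endomorphism of a nonzero space has a nonzero vector in its kernel. -/
theorem cycti_exists_ker_ne_zero [Nontrivial V] (t : Module.End F V) (hnil : IsNilpotent t) :
    ∃ w : V, w ≠ 0 ∧ t w = 0 := by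
  by_contra hcon
  push Not at hcon
  have hinj : ∀ k : ℕ, ∀ w, (t ^ k) w = 0 → w = 0 := by
    intro k
    induction k with
    | zero => intro w hw; simpa using hw
    | succ k ih =>
      intro w hw
      rw [pow_succ', Module.End.mul_apply] at hw
      by_contra hne
      exact hcon _ (fun h0 => hne (ih w h0)) hw
  obtain ⟨N, hN⟩ := hnil
  obtain ⟨v, hv⟩ := exists_ne (0 : V)
  exact hv (hinj N v (by rw [hN]; rfl))

end endo

end Cfsg.Agent.Helper7.CycTI
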