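import Cfsg.Agent.D1.PrB
import Cfsg.Agent.Helper7.CycTIa

set_option autoImplicit false

/-!
# Cyclic TI Sylow subgroups, part B: group-level lemmas

* the TI hypothesis gives the hypothesis of `d1_ti_mackey` for the normalizer of `P`;
* conjugates of a generator of `P` by elements of the normalizer;
* conjugation of powers of `ρ x - 1`;
* traces from `1` to a cyclic subgroup evaluated on a fixed vector.
-/

namespace Cfsg.Agent.Helper7.CycTI

open Cfsg.Agent.BP Cfsg.Agent.D1 Representation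

set_option linter.unusedSectionVars false

section group

variable {G : Type*} [Group G] [Finite G] (p : ℕ) [Fact p.Prime]

/-- an element of order `p` of the normalizer of a Sylow `p`-subgroup lies in it. -/
theorem cycti_mem_of_orderOf (P : Sylow p G) {u : G}
    (hu : u ∈ Subgroup.normalizer ((P : Subgroup G) : Set G)) (ho : orderOf u = p) :
    u ∈ (P : Subgroup G) := by
  have hU : IsPGroup p (Subgroup.zpowers u) :=
    IsPGroup.of_card (n := 1) (by rw [Nat.card_zpowers, ho, pow_one])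
  have h1 : Subgroup.zpowers u ⊓ Subgroup.normalizer ((P : Subgroup G) : Set G) =
      Subgroup.zpowers u ⊓ (P : Subgroup G) := hU.inf_normalizer_sylow P
  have h2 : u ∈ Subgroup.zpowers u ⊓ Subgroup.normalizer ((P : Subgroup G) : Set G) :=
    Subgroup.mem_inf.2 ⟨Subgroup.mem_zpowers u, hu⟩
  rw [h1] at h2
  exact (Subgroup.mem_inf.1 h2).2

/-- the TI hypothesis makes `N ∩ gNg⁻¹` a `p'`-group for `g ∉ N`. -/
theorem cycti_ti_not_dvd (P : Sylow p G)
    (hTI : ∀ Q : Sylow p G, Q ≠ P → (P : Subgroup G) ⊓ (Q : Subgroup G) = ⊥) (g : G)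
    (hg : g ∉ Subgroup.normalizer ((P : Subgroup G) : Set G)) :
    ¬ p ∣ Nat.card ↥(Subgroup.normalizer ((P : Subgroup G) : Set G) ⊓
      (Subgroup.normalizer ((P : Subgroup G) : Set G)).map (MulAut.conj g).toMonoidHom) := by
  intro hdiv
  obtain ⟨h, hh⟩ := exists_prime_orderOf_dvd_card' p hdiv
  have hu : orderOf (h : G) = p := by rw [Subgroup.orderOf_coe, hh]
  obtain ⟨h1, h2⟩ := Subgroup.mem_inf.1 h.2
  rw [bp_mem_map_conj] at h2
  have hP1 : (h : G) ∈ (P : Subgroup G) := cycti_mem_of_orderOf p P h1 hu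
  have hv : orderOf (g⁻¹ * (h : G) * g) = p := by
    have := (MulAut.conj g⁻¹).orderOf_eq (h : G)
    rw [MulAut.conj_apply, inv_inv] at this
    rw [this, hu]
  have hP2 : g⁻¹ * (h : G) * g ∈ (P : Subgroup G) := cycti_mem_of_orderOf p P h2 hv
  have hne : g • P ≠ P := fun e => hg (Sylow.smul_eq_iff_mem_normalizer.1 e)
  have hP3 : (h : G) ∈ ((g • P : Sylow p G) : Subgroup G) := by
    rw [Sylow.coe_subgroup_smul, Subgroup.mem_pointwise_smul_iff_inv_smul_mem]
    simpa [MulAut.smul_def, MulAut.conj_inv_apply] using hP2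
  have h0 : (h : G) ∈ (P : Subgroup G) ⊓ ((g • P : Sylow p G) : Subgroup G) :=
    Subgroup.mem_inf.2 ⟨hP1, hP3⟩
  rw [hTI _ hne, Subgroup.mem_bot] at h0
  rw [h0, orderOf_one] at hu
  exact (Fact.out : p.Prime).one_lt.ne hu

/-- conjugates of a generator of `P` by elements of the normalizer are powers prime to `p`. -/
theorem cycti_conj_gen (P : Subgroup G) {x : G} (hxP : x ∈ P)
    (hgen : ∀ y ∈ P, y ∈ Subgroup.zpowers x) {n : ℕ} (hn : 1 ≤ n) (hord : orderOf x = p ^ n)
    {g : G} (hg : g ∈ Subgroup.normalizer (P : Set G)) :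
    ∃ a : ℕ, ¬ p ∣ a ∧ g * x * g⁻¹ = x ^ a := by
  have hp := (Fact.out : p.Prime)
  have h1 : g * x * g⁻¹ ∈ P := (Subgroup.mem_normalizer_iff.1 hg x).1 hxP
  have h2 := hgen _ h1
  rw [← mem_powers_iff_mem_zpowers] at h2
  obtain ⟨a, ha⟩ := h2
  simp only at ha
  refine ⟨a, ?_, ha.symm⟩
  intro hpa
  obtain ⟨b, rfl⟩ := hpa
  have h3 : (g * x * g⁻¹) ^ (p ^ (n - 1)) = 1 := by
    rw [← ha, ← pow_mul]
    have : p * b * p ^ (n - 1) = p ^ n * b := by
      obtain ⟨m, rfl⟩ := Nat.exists_eq_add_of_le hn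
      rw [Nat.add_sub_cancel_left, pow_add, pow_one]
      ring
    rw [this, pow_mul, ← hord, pow_orderOf_eq_one, one_pow]
  have h4 : orderOf (g * x * g⁻¹) = p ^ n := by
    have := (MulAut.conj g).orderOf_eq x
    rw [MulAut.conj_apply] at this
    rw [this, hord]
  have h5 := orderOf_dvd_of_pow_eq_one h3
  rw [h4] at h5
  have h6 := (Nat.pow_dvd_pow_iff_le_right hp.one_lt).1 h5
  omega

end group

section rep

variable {k : Type*} [Field k] {G : Type*} [Group G] [Finite G]
  {V : Type*} [AddCommGroup V] [Module k V] (ρ : Representation k G V)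

theorem cycti_linHom_one (g : G) : linHom ρ ρ g (1 : Module.End k V) = 1 := by
  rw [linHom_apply]
  ext v
  simp only [LinearMap.coe_comp, Function.comp_apply, Module.End.one_apply]
  rw [← Module.End.mul_apply, ← map_mul, mul_inv_cancel, map_one, Module.End.one_apply]

theorem cycti_linHom_rho (g x : G) : linHom ρ ρ g (ρ x) = ρ (g * x * g⁻¹) := by
  rw [linHom_apply, map_mul, map_mul]
  rfl

theorem cycti_linHom_pow (g : G) (f : Module.End k V) (j : ℕ) :
    linHom ρ ρ g (f ^ j) = (linHom ρ ρ g f) ^ j := by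
  induction j with
  | zero => simpa using cycti_linHom_one ρ g
  | succ j ih =>
    rw [pow_succ, pow_succ, ← ih]
    exact d1_linHom_comp (ρ := ρ) (σ := ρ) (θ := ρ) g f (f ^ j)

/-- conjugating `(ρ x - 1)^j` by `g` with `g x g⁻¹ = x^a`. -/
theorem cycti_linHom_sub_one_pow {g x : G} {a : ℕ} (hga : g * x * g⁻¹ = x ^ a) (j : ℕ) :
    linHom ρ ρ g ((ρ x - 1) ^ j) = ((ρ x) ^ a - 1) ^ j := by
  rw [cycti_linHom_pow, map_sub, cycti_linHom_one, cycti_linHom_rho, hga, map_pow]

theorem cycti_isHom_pow {H : Subgroup G} {f : Module.End k V} (hf : d1_IsHom ρ ρ H f) (j : ℕ) :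
    d1_IsHom ρ ρ H (f ^ j) := by
  induction j with
  | zero => exact d1_isHom_id H
  | succ j ih => rw [pow_succ]; exact hf.comp ih

/-- powers of `ρ x - 1` commute with a subgroup whose elements commute with `x`. -/
theorem cycti_isHom_sub_one_pow (H : Subgroup G) {x : G} (hx : ∀ h ∈ H, x * h = h * x)
    (j : ℕ) : d1_IsHom ρ ρ H ((ρ x - 1) ^ j) :=
  cycti_isHom_pow ρ ((d1_isHom_rho H hx).sub (d1_isHom_id H)) j

/-- the elements of a cyclic subgroup. -/
theorem cycti_sum_zpowers {M : Type*} [AddCommMonoid M] (y : G) (f : G → M) :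
    ∑ h ∈ d1_elems (Subgroup.zpowers y), f h = ∑ i ∈ Finset.range (orderOf y), f (y ^ i) := by
  classical
  have h1 : d1_elems (Subgroup.zpowers y) = (Finset.range (orderOf y)).image (y ^ ·) := by
    ext h
    rw [d1_mem_elems, mem_zpowers_iff_mem_range_orderOf]
  rw [h1, Finset.sum_image]
  intro a ha b hb e
  exact pow_injOn_Iio_orderOf (by simpa using ha) (by simpa using hb) e

/-- a trace from `1` to the cyclic group generated by `y`, evaluated at a vector fixed by `y`. -/
theorem cycti_tr1_zpowers_apply (y : G) (b : Module.End k V) (w : V) (hw : ρ y w = w) :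
    d1_tr1 ρ ρ (Subgroup.zpowers y) b w =
      (∑ i ∈ Finset.range (orderOf y), (ρ y) ^ i) (b w) := by
  have hfix : ∀ i : ℕ, ρ (y ^ i)⁻¹ w = w := by
    intro i
    have h1 : ρ (y ^ i) w = w := by
      induction i with
      | zero => simp
      | succ i ih => rw [pow_succ, map_mul, Module.End.mul_apply, hw, ih]
    conv_lhs => rw [← h1]
    rw [← Module.End.mul_apply, ← map_mul, inv_mul_cancel, map_one, Module.End.one_apply]
  unfold d1_tr1 d1_trT
  rw [cycti_sum_zpowers]
  simp only [LinearMap.sum_apply, linHom_apply, LinearMap.coe_comp, Function.comp_apply]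
  refine Finset.sum_congr rfl (fun i _ => ?_)
  rw [hfix i, map_pow]

end rep

end Cfsg.Agent.Helper7.CycTI
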