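import Cfsg.Agent.Helper7.CycTIb

set_option autoImplicit false

/-!
# Cyclic TI Sylow subgroups, part C: the dimension bound

`G` a finite group with a cyclic Sylow `p`-subgroup `P = ⟨x⟩` of order `p^n`, `n ≥ 2`, which is a
TI set.  Every faithful irreducible representation of `G` over a field of characteristic `p` has
dimension at least `p^n - (p - 1)`.

Proof.  `t = ρ x - 1`, `N = N_G(P)`, `Θ = Tr_P^N (t^(p-1))`, `c = Tr_N^G Θ`.  By TI-Mackey `c - Θ` is
`N`-projective, hence `⟨x^p⟩`-projective.  If `dim V ≤ p^n - p` then `t^(p^n - p) = 0`, and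
every `⟨x^p⟩`-projective map kills `ker t^p`.  On `ker t^p`, `Θ = [N:P] t^(p-1)`.  By Schur `c` is
`0` or bijective; both cases are contradictory.
-/

namespace Cfsg.Agent.Helper7.CycTI

open Cfsg.Agent.BP Cfsg.Agent.D1 Representation

theorem cycti_main {G : Type*} [Group G] [Finite G] (p : ℕ) [Fact p.Prime] (P : Sylow p G)
    {x : G} (hxP : x ∈ (P : Subgroup G)) (hgen : ∀ y ∈ (P : Subgroup G), y ∈ Subgroup.zpowers x)
    (n : ℕ) (hn : 2 ≤ n) (hord : orderOf x = p ^ n)
    (hTI : ∀ Q : Sylow p G, Q ≠ P → (P : Subgroup G) ⊓ (Q : Subgroup G) = ⊥)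
    {F : Type*} [Field F] [CharP F p] {V : Type*} [AddCommGroup V] [Module F V]
    [FiniteDimensional F V] (ρ : Representation F G V) (hfaith : Function.Injective ρ)
    (hirr : ρ.IsIrreducible) : p ^ n - (p - 1) ≤ Module.finrank F V := by
  classical
  have hp := (Fact.out : p.Prime)
  by_contra hcon
  rw [not_le] at hcon
  obtain ⟨n', rfl⟩ : ∃ n', n = n' + 1 := ⟨n - 1, by omega⟩
  have hn' : 1 ≤ n' := by omega
  set q := p ^ (n' + 1) with hq
  have hqm : q = p * p ^ n' := by rw [hq, pow_succ, mul_comm]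
  have hm1 : 1 ≤ p ^ n' := Nat.one_le_pow _ _ hp.pos
  have hpq : p ≤ q := by rw [hqm]; exact Nat.le_mul_of_pos_right p hm1
  have hdim : Module.finrank F V ≤ q - p := by have := hp.one_lt; omega
  set N : Subgroup G := Subgroup.normalizer ((P : Subgroup G) : Set G) with hN
  have hPN : (P : Subgroup G) ≤ N := Subgroup.le_normalizer
  set X : Module.End F V := ρ x with hX
  set t : Module.End F V := X - 1 with ht
  -- `t` is nilpotent
  have htq : t ^ q = 0 := by
    rw [ht, hq, cycti_end_sub_one_pow p X (n' + 1), hX, ← map_pow, ← hq, ← hord, pow_orderOf_eq_one,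
      map_one, sub_self]
  have hnil : IsNilpotent t := ⟨q, htq⟩
  have htqp : t ^ (q - p) = 0 := cycti_pow_eq_zero_of_finrank_le t hnil hdim
  have htp : t ^ p = X ^ p - 1 := by
    have := cycti_end_sub_one_pow p X 1
    rwa [pow_one] at this
  -- `V` is nontrivial
  have : Nontrivial V := by
    by_contra hV
    rw [not_nontrivial_iff_subsingleton] at hV
    have h1 : ρ x = ρ 1 := by
      ext v
      exact Subsingleton.elim _ _
    have h2 := hfaith h1
    rw [h2, orderOf_one] at hord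
    have := Nat.one_lt_pow (n := n' + 1) (by omega) hp.one_lt
    omega
  -- the subgroup generated by `x^p`
  set y : G := x ^ p with hy
  have hyord : orderOf y = p ^ n' := by
    rw [hy, orderOf_pow, hord, hqm]
    have : Nat.gcd (p * p ^ n') p = p := Nat.gcd_eq_right (dvd_mul_right p _)
    rw [this, Nat.mul_div_cancel_left _ hp.pos]
  have hQN : Subgroup.zpowers y ≤ N :=
    ((Subgroup.zpowers_le).2 ((P : Subgroup G).pow_mem hxP p)).trans hPN
  have hρy : ρ y = X ^ p := by rw [hy, map_pow]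
  -- (A1) an `N`-projective endomorphism kills `ker t^p`
  have hA1 : ∀ D : Module.End F V, d1_IsPr ρ ρ N D → ∀ w, (t ^ p) w = 0 → D w = 0 := by
    intro D hD w hw
    obtain ⟨b', hb'⟩ := hD.mono hQN
    have hyw : ρ y w = w := by
      have h1 : (X ^ p) w = (t ^ p) w + w := by rw [htp]; simp
      rw [hρy, h1, hw, zero_add]
    rw [hb', cycti_tr1_zpowers_apply ρ y b' w hyw, hyord, cycti_end_geom p (ρ y) n', hρy, ← htp,
      ← pow_mul]
    have : p * (p ^ n' - 1) = q - p := by rw [hqm, Nat.mul_sub, mul_one]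
    rw [this, htqp]
    rfl
  -- the TI hypothesis in the form needed by `d1_ti_mackey`
  have hTI' : ∀ g : G, g ∉ N →
      (Nat.card ↥(N ⊓ N.map (MulAut.conj g).toMonoidHom) : F) ≠ 0 := by
    intro g hg h0
    rw [CharP.cast_eq_zero_iff F p] at h0
    exact cycti_ti_not_dvd p P hTI g hg h0
  -- `Θ`
  set T₀ := bp_transv (P : Subgroup G) N with hT₀def
  have hT₀ : bp_IsLT T₀ (P : Subgroup G) N := bp_transv_isLT hPN
  have hcomm : ∀ h ∈ (P : Subgroup G), x * h = h * x := by
    intro h hh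
    obtain ⟨j, rfl⟩ := Subgroup.mem_zpowers_iff.1 (hgen h hh)
    exact ((Commute.refl x).zpow_right j).eq
  have hfixP : d1_IsHom ρ ρ (P : Subgroup G) (t ^ (p - 1)) :=
    cycti_isHom_sub_one_pow ρ (P : Subgroup G) hcomm (p - 1)
  set Θ : Module.End F V := d1_trT (linHom ρ ρ) T₀ (t ^ (p - 1)) with hΘ
  have hΘN : d1_IsHom ρ ρ N Θ := d1_trT_isFix hT₀ hfixP
  have hΘK : ∀ w, (t ^ p) w = 0 → Θ w = (T₀.card : F) • (t ^ (p - 1)) w := by
    intro w hw
    have hterm : ∀ g ∈ T₀, (linHom ρ ρ g (t ^ (p - 1))) w = (t ^ (p - 1)) w := by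
      intro g hg
      obtain ⟨a, ha, hga⟩ := cycti_conj_gen p (P : Subgroup G) hxP hgen (by omega) hord
        (hT₀.mem g hg)
      rw [ht, hX, cycti_linHom_sub_one_pow ρ hga (p - 1)]
      exact cycti_end_fermat p (ρ x) a ha w hw
    rw [hΘ]
    unfold d1_trT
    rw [LinearMap.sum_apply, Finset.sum_congr rfl hterm, Finset.sum_const,
      Nat.cast_smul_eq_nsmul]
  have hcard : (T₀.card : F) ≠ 0 := by
    intro h0
    rw [hT₀.card_eq_relIndex, CharP.cast_eq_zero_iff F p] at h0
    exact P.not_dvd_index (h0.trans (Subgroup.relIndex_dvd_index_of_le hPN))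
  -- `c`
  set T := bp_transv N (⊤ : Subgroup G) with hTdef
  have hT : bp_IsLT T N ⊤ := bp_transv_isLT le_top
  set c : Module.End F V := d1_trT (linHom ρ ρ) T Θ with hc
  have hcG : d1_IsHom ρ ρ ⊤ c := d1_trT_isFix hT hΘN
  have hD : d1_IsPr ρ ρ N (c - Θ) := d1_ti_mackey hTI' hΘN hT
  have hcΘ : ∀ w, (t ^ p) w = 0 → c w = Θ w := by
    intro w hw
    have := hA1 _ hD w hw
    rwa [LinearMap.sub_apply, sub_eq_zero] at this
  have hpp : p - 1 + 1 = p := Nat.sub_add_cancel hp.pos
  -- Schur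
  let cI : IntertwiningMap ρ ρ :=
    ⟨c, fun g => d1_isHom_iff.1 hcG g (Subgroup.mem_top g)⟩
  have := hirr
  rcases Representation.IsIrreducible.bijective_or_eq_zero cI with hbij | hzero
  · -- `c` bijective
    obtain ⟨w, hw0, htw⟩ := cycti_exists_ker_ne_zero t hnil
    have hwK1 : (t ^ (p - 1)) w = 0 := by
      obtain ⟨j, hj⟩ : ∃ j, p - 1 = j + 1 := ⟨p - 2, by have := hp.two_le; omega⟩
      rw [hj, pow_succ, Module.End.mul_apply, htw, map_zero]
    have hwK : (t ^ p) w = 0 := by
      rw [← hpp, pow_succ', Module.End.mul_apply, hwK1, map_zero]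
    have hcw : c w = 0 := by rw [hcΘ w hwK, hΘK w hwK, hwK1, smul_zero]
    have : cI w = cI 0 := by
      rw [map_zero]
      exact hcw
    exact hw0 (hbij.injective this)
  · -- `c = 0`
    have hc0 : c = 0 := by
      have := congrArg IntertwiningMap.toLinearMap hzero
      simpa using this
    have h1 : t ^ (p - 1) = 0 := by
      refine cycti_pow_eq_zero_of_ker t (p - 1) hnil (fun w hw => ?_)
      rw [hpp] at hw
      have h2 : Θ w = 0 := by rw [← hcΘ w hw, hc0]; rfl
      rw [hΘK w hw] at h2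
      exact (smul_eq_zero.1 h2).resolve_left hcard
    have h3 : t ^ (p ^ n') = 0 := by
      have hle : p - 1 ≤ p ^ n' := by
        have : p ^ 1 ≤ p ^ n' := Nat.pow_le_pow_right hp.pos hn'
        rw [pow_one] at this
        omega
      obtain ⟨j, hj⟩ := Nat.exists_eq_add_of_le hle
      rw [hj, pow_add, h1, zero_mul]
    rw [ht, cycti_end_sub_one_pow p X n', sub_eq_zero, hX, ← map_pow] at h3
    have h4 : x ^ (p ^ n') = 1 := hfaith (h3.trans (map_one ρ).symm)
    have h5 := orderOf_dvd_of_pow_eq_one h4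
    rw [hord] at h5
    have h6 := (Nat.pow_dvd_pow_iff_le_right hp.one_lt).1 h5
    omega

end Cfsg.Agent.Helper7.CycTI
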