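import Mathlib
import Cfsg.Agent.Helper7.D4InvD
import Cfsg.Agent.Helper7.ChevTwU5
import Cfsg.Agent.Helper7.ChevTwO5

set_option autoImplicit false
set_option linter.unusedSectionVars false
set_option linter.unusedVariables false

/-!
The group `U¹ = U ∩ ³D₄(q)` in characteristic two: its elements are the normal forms.
-/

namespace Cfsg.Agent.Helper7.Chev

open Cfsg Cfsg.Lie Matrix
open scoped Pointwise

variable {K : Type*} [Field K]

/-- The twisted group of type `³D₄` of the field automorphism `f`. -/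
abbrev G1D4 (f : K ≃+* K) : Subgroup (GL chevD4.Idx K) := twGroup good2_D4 T3_D4 T4_D4 T19_D4 f

theorem iter3_of_pow {f : K ≃+* K} (hf3 : ∀ t, (((f : K →+* K)) ^ 3) t = t) (t : K) :
    f (f (f t)) = t := by
  have := hf3 t
  simpa [pow_succ] using this

theorem xd_commute {r s : Fin 24} (h : (r, s) ∈ d4NilPairs) (t u : K) :
    Commute (xd r t) (xd s u) := (xd_comm_of_mem h t u).symm

section char2

variable [CharP K 2] (f : K ≃+* K)

/-- The twisting automorphism on a root element, in characteristic two. -/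
theorem twAut_xd (r r' : Fin 24) (hσ : tabN t18s_D4a r.val = r'.val) (t : K) :
    twAut T18_D4a f (xd r t) = xd r' (f t) := by
  unfold xd
  rw [twAut_xGL d4G1 T18_D4a f]
  have hε := (T18_D4a.eps r.val (d4_lt r.val r.isLt)).1
  have e : (((tabI t18e_D4a r.val : ℤ) : K)) * f t = f t := by
    rcases hε with h | h
    · rw [h]; push_cast; ring
    · rw [h]; push_cast; rw [neg_one_mul, neg_eq_F]
  rw [e]
  exact xGL_congr good2_D4 hσ _ _ _

variable (hf3 : ∀ t, f (f (f t)) = t)

include hf3 in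
theorem twAut_tA (a : K) : twAut T18_D4a f (tA f a) = tA f a := by
  unfold tA
  rw [map_mul, map_mul, twAut_xd f 18 13 rfl, twAut_xd f 13 12 rfl, twAut_xd f 12 18 rfl, hf3]
  rw [← mul_assoc]
  exact (Commute.mul_left (xd_commute (K := K) (r := 13) (s := 18) (by decide) _ _)
    (xd_commute (K := K) (r := 12) (s := 18) (by decide) _ _)).eq

include hf3 in
theorem twAut_tC (a : K) : twAut T18_D4a f (tC f a) = tC f a := by
  unfold tC
  rw [map_mul, map_mul, twAut_xd f 19 16 rfl, twAut_xd f 16 15 rfl, twAut_xd f 15 19 rfl, hf3]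
  rw [← mul_assoc]
  exact (Commute.mul_left (xd_commute (K := K) (r := 16) (s := 19) (by decide) _ _)
    (xd_commute (K := K) (r := 15) (s := 19) (by decide) _ _)).eq

include hf3 in
theorem twAut_tD (a : K) : twAut T18_D4a f (tD f a) = tD f a := by
  unfold tD
  rw [map_mul, map_mul, twAut_xd f 21 17 rfl, twAut_xd f 17 20 rfl, twAut_xd f 20 21 rfl, hf3]
  rw [← mul_assoc]
  exact (Commute.mul_left (xd_commute (K := K) (r := 17) (s := 21) (by decide) _ _)
    (xd_commute (K := K) (r := 20) (s := 21) (by decide) _ _)).eq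

theorem twAut_tB {b : K} (hb : f b = b) : twAut T18_D4a f (tB b) = tB b := by
  unfold tB
  rw [twAut_xd f 14 14 rfl, hb]

theorem twAut_tE {b : K} (hb : f b = b) : twAut T18_D4a f (tE b) = tE b := by
  unfold tE
  rw [twAut_xd f 22 22 rfl, hb]

theorem twAut_tG {b : K} (hb : f b = b) : twAut T18_D4a f (tG b) = tG b := by
  unfold tG
  rw [twAut_xd f 23 23 rfl, hb]

include hf3 in
theorem twAut_tw {b a c d e g : K} (hb : f b = b) (he : f e = e) (hg : f g = g) :
    twAut T18_D4a f (tw f b a c d e g) = tw f b a c d e g := by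
  unfold tw
  simp only [map_mul, twAut_tA f hf3, twAut_tC f hf3, twAut_tD f hf3, twAut_tB f hb, twAut_tE f he,
    twAut_tG f hg]

/-- `U ∩ G¹` is the group of the fixed points of the twisting automorphism in `U`. -/
theorem U_inf_G1D4 : chevD4.posUnipotent K ⊓ G1D4 f = chevD4.posUnipotent K ⊓ twFix T18_D4a f :=
  (posUnipotent_inf_twGroup good2_D4 T0_D4 T3_D4 T4_D4 T5_D4 T6_D4 T7_D4 T8_D4 T18_D4a T19_D4 T20_D4 f
    w0clsD4_mem (prefixPos_of_tab PPcls_D4) W0cls_D4).2

include hf3 in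
/-- The normal forms lie in `U ∩ G¹`. -/
theorem tw_mem_U1 {b a c d e g : K} (hb : f b = b) (he : f e = e) (hg : f g = g) :
    tw f b a c d e g ∈ chevD4.posUnipotent K ⊓ G1D4 f := by
  rw [U_inf_G1D4]
  exact ⟨tw_mem_U f hf3 b a c d e g, twAut_tw f hf3 hb he hg⟩

end char2

section count

variable [Fintype K] [CharP K 2] {q : ℕ} (hq : IsPrimePow q) (hK : Fintype.card K = q ^ 3)
  (f : K ≃+* K) (hf : ∀ t, f t = t ^ q) (hf3 : ∀ t, (((f : K →+* K)) ^ 3) t = t)

include hq hK hf hf3 in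
/-- `|U ∩ G¹| = q ^ 12`. -/
theorem card_U1D4 : Nat.card ↥(chevD4.posUnipotent K ⊓ G1D4 f) = q ^ 12 := by
  rw [card_posUnipotent_inf_twGroup good2_D4 T0_D4 T3_D4 T4_D4 T5_D4 T6_D4 T7_D4 T8_D4
    T18_D4a T19_D4 T20_D4 f w0clsD4_mem (prefixPos_of_tab PPcls_D4) W0cls_D4]
  have h1 : Nat.card {t : K // Adm f 1 t} = q := card_adm_one hq.two_le (by norm_num) hK hf
  have h3 : Nat.card {t : K // Adm f 3 t} = q ^ 3 := by rw [card_adm_full hf3, hK]
  simp only [w0clsD4, List.map_cons, List.map_nil, List.prod_cons, List.prod_nil, h1, h3]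
  ring

include hq hK hf hf3 in
/-- Every element of `U ∩ G¹` is a normal form. -/
theorem exists_tw {u : GL chevD4.Idx K} (hu : u ∈ chevD4.posUnipotent K ⊓ G1D4 f) :
    ∃ b a c d e g : K, f b = b ∧ f e = e ∧ f g = g ∧ u = tw f b a c d e g := by
  have hf3' := iter3_of_pow hf3
  let Fq := {t : K // Adm f 1 t}
  have hFq : ∀ t : Fq, f t.1 = t.1 := fun t => (adm_one_iff f t.1).mp t.2
  let φ : Fq × K × K × K × Fq × Fq → ↥(chevD4.posUnipotent K ⊓ G1D4 f) := fun p =>
    ⟨tw f p.1.1 p.2.1 p.2.2.1 p.2.2.2.1 p.2.2.2.2.1.1 p.2.2.2.2.2.1,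
      tw_mem_U1 f hf3' (hFq p.1) (hFq p.2.2.2.2.1) (hFq p.2.2.2.2.2)⟩
  have hinj : Function.Injective φ := by
    rintro ⟨b, a, c, d, e, g⟩ ⟨b', a', c', d', e', g'⟩ h
    have h' := congrArg Subtype.val h
    obtain ⟨h1, h2, h3, h4, h5, h6⟩ := tw_inj f hf3' h'
    simp only at h1 h2 h3 h4 h5 h6
    have hb : b = b' := Subtype.ext h1
    have he : e = e' := Subtype.ext h5
    have hg : g = g' := Subtype.ext h6
    subst hb h2 h3 h4 he hg
    rfl
  have h1 : Nat.card Fq = q := card_adm_one hq.two_le (by norm_num) hK hf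
  have hcard : Nat.card (Fq × K × K × K × Fq × Fq) = q ^ 12 := by
    simp only [Nat.card_prod, h1, Nat.card_eq_fintype_card (α := K), hK]
    ring
  have hbij := hinj.bijective_of_nat_card_le
    (by rw [hcard, card_U1D4 hq hK f hf hf3])
  obtain ⟨⟨b, a, c, d, e, g⟩, hp⟩ := hbij.2 ⟨u, hu⟩
  refine ⟨b.1, a, c, d, e.1, g.1, hFq b, hFq e, hFq g, ?_⟩
  have := congrArg Subtype.val hp
  exact this.symm

end count

end Cfsg.Agent.Helper7.Chev
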