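import Mathlib
import Cfsg.Agent.Helper7.D4InvE
import Cfsg.Agent.Helper7.ChevTwO1

set_option autoImplicit false
set_option linter.unusedSectionVars false
set_option linter.unusedVariables false

/-!
Conjugacy in `³D₄(q)`, `q` even: conjugation by twisted root elements, by the two fundamental reflections and by the
torus.
-/

namespace Cfsg.Agent.Helper7.Chev

open Cfsg Cfsg.Lie Matrix
open scoped Pointwise

variable {K : Type*} [Field K]

/-- Conjugacy in the twisted group. -/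
def ConjD (f : K ≃+* K) (g g' : GL chevD4.Idx K) : Prop := ∃ h ∈ G1D4 f, h * g * h⁻¹ = g'

theorem ConjD.refl (f : K ≃+* K) (g : GL chevD4.Idx K) : ConjD f g g := ⟨1, one_mem _, by group⟩

theorem ConjD.trans {f : K ≃+* K} {g₁ g₂ g₃ : GL chevD4.Idx K} (h₁ : ConjD f g₁ g₂)
    (h₂ : ConjD f g₂ g₃) : ConjD f g₁ g₃ := by
  obtain ⟨h, hh, e⟩ := h₁
  obtain ⟨k, hk, e'⟩ := h₂
  refine ⟨k * h, mul_mem hk hh, ?_⟩
  rw [← e', ← e]
  group

theorem ConjD.symm {f : K ≃+* K} {g₁ g₂ : GL chevD4.Idx K} (h₁ : ConjD f g₁ g₂) : ConjD f g₂ g₁ := by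
  obtain ⟨h, hh, e⟩ := h₁
  refine ⟨h⁻¹, inv_mem hh, ?_⟩
  rw [← e]
  group

theorem ConjD.of_eq {f : K ≃+* K} {g₁ g₂ : GL chevD4.Idx K} (h : g₁ = g₂) : ConjD f g₁ g₂ :=
  h ▸ ConjD.refl f g₁

set_option maxRecDepth 1000000 in
theorem d4_refl_tab_fast :
    (fastD4.reflWord [1] 18 = 19 ∧ fastD4.reflWord [1] 13 = 16 ∧ fastD4.reflWord [1] 12 = 15 ∧
      fastD4.reflWord [1] 19 = 18 ∧ fastD4.reflWord [1] 16 = 13 ∧ fastD4.reflWord [1] 15 = 12 ∧
      fastD4.reflWord [1] 21 = 21 ∧ fastD4.reflWord [1] 17 = 17 ∧ fastD4.reflWord [1] 20 = 20 ∧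
      fastD4.reflWord [1] 22 = 23 ∧ fastD4.reflWord [1] 23 = 22) ∧
    (fastD4.reflWord [0, 2, 3] 14 = 22 ∧ fastD4.reflWord [0, 2, 3] 22 = 14 ∧
      fastD4.reflWord [0, 2, 3] 19 = 17 ∧ fastD4.reflWord [0, 2, 3] 16 = 20 ∧
      fastD4.reflWord [0, 2, 3] 15 = 21 ∧ fastD4.reflWord [0, 2, 3] 21 = 15 ∧
      fastD4.reflWord [0, 2, 3] 17 = 19 ∧ fastD4.reflWord [0, 2, 3] 20 = 16 ∧
      fastD4.reflWord [0, 2, 3] 23 = 23) := by decide +kernel

theorem d4_refl_tab :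
    ((tabOf chevD4).reflWord [1] 18 = 19 ∧ (tabOf chevD4).reflWord [1] 13 = 16 ∧
      (tabOf chevD4).reflWord [1] 12 = 15 ∧
      (tabOf chevD4).reflWord [1] 19 = 18 ∧ (tabOf chevD4).reflWord [1] 16 = 13 ∧
      (tabOf chevD4).reflWord [1] 15 = 12 ∧
      (tabOf chevD4).reflWord [1] 21 = 21 ∧ (tabOf chevD4).reflWord [1] 17 = 17 ∧
      (tabOf chevD4).reflWord [1] 20 = 20 ∧
      (tabOf chevD4).reflWord [1] 22 = 23 ∧ (tabOf chevD4).reflWord [1] 23 = 22) ∧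
    ((tabOf chevD4).reflWord [0, 2, 3] 14 = 22 ∧ (tabOf chevD4).reflWord [0, 2, 3] 22 = 14 ∧
      (tabOf chevD4).reflWord [0, 2, 3] 19 = 17 ∧ (tabOf chevD4).reflWord [0, 2, 3] 16 = 20 ∧
      (tabOf chevD4).reflWord [0, 2, 3] 15 = 21 ∧ (tabOf chevD4).reflWord [0, 2, 3] 21 = 15 ∧
      (tabOf chevD4).reflWord [0, 2, 3] 17 = 19 ∧ (tabOf chevD4).reflWord [0, 2, 3] 20 = 16 ∧
      (tabOf chevD4).reflWord [0, 2, 3] 23 = 23) :=
  tab_D4 ▸ d4_refl_tab_fast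

theorem d4_wB_lt : ∀ i ∈ [1], i < chevD4.rank := by decide
theorem d4_wA_lt : ∀ i ∈ [0, 2, 3], i < chevD4.rank := by decide

/-- The elements of `N` of the two fundamental reflections of the twisted group. -/
noncomputable def nB : GL chevD4.Idx K := nWordGL good2_D4 [1]
noncomputable def nA : GL chevD4.Idx K := nWordGL good2_D4 [0, 2, 3]

theorem nB_mem (f : K ≃+* K) : (nB : GL chevD4.Idx K) ∈ G1D4 f :=
  nclsWord_mem_twGroup good2_D4 T3_D4 T4_D4 T19_D4 f (c := (1, 1)) (by decide)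

theorem nA_mem (f : K ≃+* K) : (nA : GL chevD4.Idx K) ∈ G1D4 f :=
  nclsWord_mem_twGroup good2_D4 T3_D4 T4_D4 T19_D4 f (c := (0, 3)) (by decide)

section char2

variable [CharP K 2]

/-- Conjugation of a root element by the element of `N` of a word, in characteristic two. -/
theorem conj_xd {w : List ℕ} (hw : ∀ i ∈ w, i < chevD4.rank) (s r : Fin 24)
    (h : (tabOf chevD4).reflWord w s.val = r.val) (a : K) :
    nWordGL good2_D4 w * xd s a * (nWordGL good2_D4 w)⁻¹ = xd r a := by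
  have h2 := two_eq_zero_F (F := K)
  have := nWordGL_conj (F := K) good2_D4 hw (d4_lt s.val s.isLt) a
  unfold xd
  rw [this]
  have hη := etaWord_cast_mul_self (F := K) good2_D4 hw (d4_lt s.val s.isLt)
  have hη1 : (((tabOf chevD4).etaWord w s.val : ℤ) : K) = 1 := by
    set η : K := (((tabOf chevD4).etaWord w s.val : ℤ) : K)
    have : (η - 1) * (η - 1) = 0 := by linear_combination hη + (1 - η) * h2
    have := mul_self_eq_zero.mp this
    exact sub_eq_zero.mp this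
  rw [hη1, one_mul]
  exact xGL_congr good2_D4 h _ _ _

variable (f : K ≃+* K) (hf3 : ∀ t, f (f (f t)) = t)

theorem nB_tA (a : K) : nB * tA f a * nB⁻¹ = tC f a := by
  have c := fun (s r : Fin 24) h (a : K) => conj_xd (K := K) d4_wB_lt s r h a
  unfold tA tC nB
  rw [← c 18 19 d4_refl_tab.1.1 a, ← c 13 16 d4_refl_tab.1.2.1 (f a), ← c 12 15 d4_refl_tab.1.2.2.1 (f (f a))]
  group

theorem nB_tC (a : K) : nB * tC f a * nB⁻¹ = tA f a := by
  have c := fun (s r : Fin 24) h (a : K) => conj_xd (K := K) d4_wB_lt s r h a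
  unfold tA tC nB
  rw [← c 19 18 d4_refl_tab.1.2.2.2.1 a, ← c 16 13 d4_refl_tab.1.2.2.2.2.1 (f a),
    ← c 15 12 d4_refl_tab.1.2.2.2.2.2.1 (f (f a))]
  group

theorem nB_tD (a : K) : nB * tD f a * nB⁻¹ = tD f a := by
  have c := fun (s r : Fin 24) h (a : K) => conj_xd (K := K) d4_wB_lt s r h a
  unfold tD nB
  conv_rhs => rw [← c 21 21 d4_refl_tab.1.2.2.2.2.2.2.1 a, ← c 17 17 d4_refl_tab.1.2.2.2.2.2.2.2.1 (f a),
    ← c 20 20 d4_refl_tab.1.2.2.2.2.2.2.2.2.1 (f (f a))]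
  group

theorem nB_tE (a : K) : nB * tE a * nB⁻¹ = tG a := by
  unfold tE tG nB
  exact conj_xd d4_wB_lt 22 23 d4_refl_tab.1.2.2.2.2.2.2.2.2.2.1 a

theorem nB_tG (a : K) : nB * tG a * nB⁻¹ = tE a := by
  unfold tE tG nB
  exact conj_xd d4_wB_lt 23 22 d4_refl_tab.1.2.2.2.2.2.2.2.2.2.2 a

theorem nA_tB (a : K) : nA * tB a * nA⁻¹ = tE a := by
  unfold tE tB nA
  exact conj_xd d4_wA_lt 14 22 d4_refl_tab.2.1 a

theorem nA_tE (a : K) : nA * tE a * nA⁻¹ = tB a := by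
  unfold tE tB nA
  exact conj_xd d4_wA_lt 22 14 d4_refl_tab.2.2.1 a

theorem nA_tG (a : K) : nA * tG a * nA⁻¹ = tG a := by
  unfold tG nA
  exact conj_xd d4_wA_lt 23 23 d4_refl_tab.2.2.2.2.2.2.2.2.2 a

include hf3 in
/-- `n_a` maps `x_{a+b}(c)` to `x_{2a+b}(c'')`. -/
theorem nA_tC (a : K) : nA * tC f a * nA⁻¹ = tD f (f (f a)) := by
  have c := fun (s r : Fin 24) h (a : K) => conj_xd (K := K) d4_wA_lt s r h a
  have e : nA * tC f a * nA⁻¹ = xd 17 a * (xd 20 (f a) * xd 21 (f (f a))) := by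
    unfold tC nA
    rw [← c 19 17 d4_refl_tab.2.2.2.1 a, ← c 16 20 d4_refl_tab.2.2.2.2.1 (f a),
      ← c 15 21 d4_refl_tab.2.2.2.2.2.1 (f (f a))]
    group
  rw [e]
  unfold tD
  rw [hf3, ← mul_assoc]
  exact ((xd_commute (K := K) (r := 17) (s := 21) (by decide) _ _).mul_left
    (xd_commute (K := K) (r := 20) (s := 21) (by decide) _ _)).eq

include hf3 in
/-- `n_a` maps `x_{2a+b}(d)` to `x_{a+b}(d')`. -/
theorem nA_tD (a : K) : nA * tD f a * nA⁻¹ = tC f (f a) := by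
  have c := fun (s r : Fin 24) h (a : K) => conj_xd (K := K) d4_wA_lt s r h a
  have e : nA * tD f a * nA⁻¹ = xd 15 a * (xd 19 (f a) * xd 16 (f (f a))) := by
    unfold tD nA
    rw [← c 21 15 d4_refl_tab.2.2.2.2.2.2.1 a, ← c 17 19 d4_refl_tab.2.2.2.2.2.2.2.1 (f a),
      ← c 20 16 d4_refl_tab.2.2.2.2.2.2.2.2.1 (f (f a))]
    group
  rw [e]
  unfold tC
  rw [hf3, ← mul_assoc (xd 19 (f a))]
  exact ((xd_commute (K := K) (r := 15) (s := 19) (by decide) _ _).mul_right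
    (xd_commute (K := K) (r := 15) (s := 16) (by decide) _ _)).eq

/-! ### The torus -/

theorem tA_eq_clsHom (a : K) :
    tA f a = clsHom good2_D4 T3_D4 T4_D4 T19_D4 f (c := (0, 3)) (by decide) (upperSL a) := by
  apply Units.ext
  rw [clsHom_upper_coe, upWord_three, clsRoot_D4_00, clsRoot_D4_01, clsRoot_D4_02]
  unfold tA
  simp only [wordMat_cons, wordMat_nil, Units.val_mul, xd_coe, mul_one]
  rfl

theorem tB_eq_clsHom (a : K) :
    tB a = clsHom good2_D4 T3_D4 T4_D4 T19_D4 f (c := (1, 1)) (by decide) (upperSL a) := by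
  apply Units.ext
  rw [clsHom_upper_coe, upWord_one, clsRoot_D4_10]
  unfold tB
  simp only [wordMat_cons, wordMat_nil, xd_coe, mul_one]
  rfl

theorem diagSL_conj_upperSL {c : K} (hc : c ≠ 0) (t : K) :
    diagSL c hc * upperSL t * (diagSL c hc)⁻¹ = upperSL (c * c * t) := by
  rw [mul_inv_eq_iff_eq_mul]
  apply Subtype.ext
  rw [Matrix.SpecialLinearGroup.coe_mul, Matrix.SpecialLinearGroup.coe_mul]
  change !![c, 0; 0, c⁻¹] * !![1, t; 0, 1] = !![1, c * c * t; 0, 1] * !![c, 0; 0, c⁻¹]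
  ext i j
  fin_cases i <;> fin_cases j <;> simp [Matrix.mul_apply, Fin.sum_univ_two]
  field_simp

/-- Scaling of `x_a(t)` by the torus. -/
theorem conjD_tA_scale {c : K} (hc : c ≠ 0) (t : K) (hf3' : ∀ t, (((f : K →+* K)) ^ 3) t = t) :
    ConjD f (tA f t) (tA f (c * c * t)) := by
  refine ⟨clsHom good2_D4 T3_D4 T4_D4 T19_D4 f (c := (0, 3)) (by decide) (diagSL c hc),
    diag_mem_twGroup good2_D4 T3_D4 T4_D4 T19_D4 f (c := (0, 3)) (by decide) hc (hf3' c), ?_⟩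
  rw [tA_eq_clsHom, tA_eq_clsHom, ← map_inv, ← map_mul, ← map_mul, diagSL_conj_upperSL]

/-- Scaling of `x_b(t)` by the torus. -/
theorem conjD_tB_scale {c : K} (hc : c ≠ 0) (hfc : f c = c) (t : K) :
    ConjD f (tB t) (tB (c * c * t)) := by
  refine ⟨clsHom good2_D4 T3_D4 T4_D4 T19_D4 f (c := (1, 1)) (by decide) (diagSL c hc),
    diag_mem_twGroup good2_D4 T3_D4 T4_D4 T19_D4 f (c := (1, 1)) (by decide) hc
      ((adm_one_iff f c).mpr hfc), ?_⟩
  rw [tB_eq_clsHom f, tB_eq_clsHom f, ← map_inv, ← map_mul, ← map_mul, diagSL_conj_upperSL]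

end char2

end Cfsg.Agent.Helper7.Chev
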