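import Mathlib
import Cfsg.Agent.Helper7.D4InvF

set_option autoImplicit false
set_option linter.unusedSectionVars false
set_option linter.unusedVariables false

/-!
Involutions of `U¹` in `³D₄(q)`, `q` even: preliminaries.
-/

namespace Cfsg.Agent.Helper7.Chev

open Cfsg Cfsg.Lie Matrix
open scoped Pointwise

variable {K : Type*} [Field K]

/-- Conjugate to one of the two standard involutions `x_b(1)`, `x_a(1)`. -/
def IsStdD (f : K ≃+* K) (g : GL chevD4.Idx K) : Prop := ConjD f g (tB 1) ∨ ConjD f g (tA f 1)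

theorem IsStdD.of_conj {f : K ≃+* K} {g g' : GL chevD4.Idx K} (h : ConjD f g g') (h' : IsStdD f g') :
    IsStdD f g := by
  rcases h' with h' | h'
  · exact Or.inl (h.trans h')
  · exact Or.inr (h.trans h')

/-- An involution of the twisted group. -/
def IsInvD (f : K ≃+* K) (x : GL chevD4.Idx K) : Prop := x ∈ G1D4 f ∧ x * x = 1 ∧ x ≠ 1

theorem IsInvD.of_conj {f : K ≃+* K} {x y : GL chevD4.Idx K} (h : ConjD f x y) (hx : IsInvD f x) :
    IsInvD f y := by
  obtain ⟨k, hk, rfl⟩ := h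
  obtain ⟨h1, h2, h3⟩ := hx
  refine ⟨mul_mem (mul_mem hk h1) (inv_mem hk), ?_, ?_⟩
  · calc k * x * k⁻¹ * (k * x * k⁻¹) = k * (x * x) * k⁻¹ := by group
      _ = 1 := by rw [h2]; group
  · intro h
    apply h3
    calc x = k⁻¹ * (k * x * k⁻¹) * k := by group
      _ = 1 := by rw [h]; group

theorem inv3_of_commute {G : Type*} [Group G] {a b c : G} (hab : Commute a b) (hac : Commute a c)
    (hbc : Commute b c) (ha : a * a = 1) (hb : b * b = 1) (hc : c * c = 1) :
    (a * (b * c)) * (a * (b * c)) = 1 := by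
  have h1 : Commute a (b * c) := hab.mul_right hac
  calc a * (b * c) * (a * (b * c)) = a * a * (b * c * (b * c)) := by
        rw [mul_assoc, ← mul_assoc (b * c), ← h1.eq]; group
    _ = b * c * (b * c) := by rw [ha, one_mul]
    _ = b * b * (c * c) := by
        rw [mul_assoc, ← mul_assoc c, ← hbc.eq]; group
    _ = 1 := by rw [hb, hc, mul_one]

section char2

variable [CharP K 2] (f : K ≃+* K)

theorem tA_sq (a : K) : tA f a * tA f a = 1 := by
  unfold tA
  exact inv3_of_commute (xd_commute (K := K) (r := 13) (s := 18) (by decide) _ _).symm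
    (xd_commute (K := K) (r := 12) (s := 18) (by decide) _ _).symm
    (xd_commute (K := K) (r := 12) (s := 13) (by decide) _ _).symm (xd_sq2 _ _) (xd_sq2 _ _) (xd_sq2 _ _)

theorem tC_sq (a : K) : tC f a * tC f a = 1 := by
  unfold tC
  exact inv3_of_commute (xd_commute (K := K) (r := 16) (s := 19) (by decide) _ _).symm
    (xd_commute (K := K) (r := 15) (s := 19) (by decide) _ _).symm
    (xd_commute (K := K) (r := 15) (s := 16) (by decide) _ _).symm (xd_sq2 _ _) (xd_sq2 _ _) (xd_sq2 _ _)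

theorem tD_sq (a : K) : tD f a * tD f a = 1 := by
  unfold tD
  exact inv3_of_commute (xd_commute (K := K) (r := 17) (s := 21) (by decide) _ _).symm
    (xd_commute (K := K) (r := 20) (s := 21) (by decide) _ _).symm
    (xd_commute (K := K) (r := 17) (s := 20) (by decide) _ _) (xd_sq2 _ _) (xd_sq2 _ _) (xd_sq2 _ _)

theorem tB_sq (a : K) : tB a * tB a = 1 := xd_sq2 _ _
theorem tE_sq (a : K) : tE a * tE a = 1 := xd_sq2 _ _
theorem tG_sq (a : K) : tG a * tG a = 1 := xd_sq2 _ _

theorem inv_eq_self_of_sq {G : Type*} [Group G] {a : G} (h : a * a = 1) : a⁻¹ = a :=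
  inv_eq_of_mul_eq_one_left h

variable (hf3 : ∀ t, f (f (f t)) = t)

theorem tA_eq_tw (a : K) : tA f a = tw f 0 a 0 0 0 0 := by
  unfold tw tB tC tD tE tG
  simp only [map_zero, xd_zero, mul_one, one_mul]

theorem tB_eq_tw (a : K) : tB a = tw f a 0 0 0 0 0 := by
  unfold tw tA tC tD tE tG
  simp only [map_zero, xd_zero, mul_one]

theorem tC_eq_tw (a : K) : tC f a = tw f 0 0 a 0 0 0 := by
  unfold tw tA tB tD tE tG
  simp only [map_zero, xd_zero, mul_one, one_mul]

theorem tD_eq_tw (a : K) : tD f a = tw f 0 0 0 a 0 0 := by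
  unfold tw tA tB tC tE tG
  simp only [map_zero, xd_zero, mul_one, one_mul]

theorem tE_eq_tw (a : K) : tE a = tw f 0 0 0 0 a 0 := by
  unfold tw tA tB tC tD tG
  simp only [map_zero, xd_zero, mul_one, one_mul]

theorem tG_eq_tw (a : K) : tG a = tw f 0 0 0 0 0 a := by
  unfold tw tA tB tC tD tE
  simp only [map_zero, xd_zero, mul_one, one_mul]

include hf3 in
theorem tA_mem (a : K) : tA f a ∈ G1D4 f := by
  rw [tA_eq_tw]
  exact (tw_mem_U1 f hf3 (map_zero f) (map_zero f) (map_zero f)).2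

include hf3 in
theorem tC_mem (a : K) : tC f a ∈ G1D4 f := by
  rw [tC_eq_tw]
  exact (tw_mem_U1 f hf3 (map_zero f) (map_zero f) (map_zero f)).2

include hf3 in
theorem tD_mem (a : K) : tD f a ∈ G1D4 f := by
  rw [tD_eq_tw]
  exact (tw_mem_U1 f hf3 (map_zero f) (map_zero f) (map_zero f)).2

include hf3 in
theorem tB_mem {a : K} (ha : f a = a) : tB a ∈ G1D4 f := by
  rw [tB_eq_tw f]
  exact (tw_mem_U1 f hf3 ha (map_zero f) (map_zero f)).2

include hf3 in
theorem tE_mem {a : K} (ha : f a = a) : tE a ∈ G1D4 f := by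
  rw [tE_eq_tw f]
  exact (tw_mem_U1 f hf3 (map_zero f) ha (map_zero f)).2

include hf3 in
theorem tG_mem {a : K} (ha : f a = a) : tG a ∈ G1D4 f := by
  rw [tG_eq_tw f]
  exact (tw_mem_U1 f hf3 (map_zero f) (map_zero f) ha).2

include hf3 in
/-- The twisting automorphism on a normal form with arbitrary parameters. -/
theorem twAut_tw' (b a c d e g : K) :
    twAut T18_D4a f (tw f b a c d e g) = tw f (f b) a c d (f e) (f g) := by
  unfold tw
  simp only [map_mul, twAut_tA f hf3, twAut_tC f hf3, twAut_tD f hf3]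
  unfold tB tE tG
  rw [twAut_xd f 14 14 rfl, twAut_xd f 22 22 rfl, twAut_xd f 23 23 rfl]

include hf3 in
/-- The long root parameters of a normal form in the twisted group are fixed by the field automorphism. -/
theorem fixed_of_mem {b a c d e g : K} (h : tw f b a c d e g ∈ G1D4 f) :
    f b = b ∧ f e = e ∧ f g = g := by
  have h1 := twGroup_le_twFix good2_D4 T3_D4 T4_D4 T18_D4a T19_D4 f h
  rw [mem_twFix, twAut_tw' f hf3] at h1
  obtain ⟨h1, -, -, -, h5, h6⟩ := tw_inj f hf3 h1
  exact ⟨h1, h5, h6⟩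

include hf3 in
/-- The conditions for a normal form to be an involution. -/
theorem invD_cond {b a c d e g : K} (h : IsInvD f (tw f b a c d e g)) :
    (f b = b ∧ f e = e ∧ f g = g) ∧ a * b = 0 ∧ a * f a * b + a * f c + f a * c = 0 ∧
      a * f a * f (f a) * b + a * f a * f (f c) + a * f (f a) * f c + a * f d + f a * f (f a) * c +
        f a * f (f d) + f (f a) * d = 0 ∧
      a * f a * f (f a) * b ^ 2 + a * f c * f (f c) + f a * c * f (f c) + f (f a) * c * f c + b * e +
        c * f d + f c * f (f d) + f (f c) * d = 0 := by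
  obtain ⟨hm, hsq, -⟩ := h
  obtain ⟨hb, he, hg⟩ := fixed_of_mem f hf3 hm
  rw [tw_sq f hf3 b a c d e g hb he hg, ← tw_zero f] at hsq
  obtain ⟨-, -, h3, h4, h5, h6⟩ := tw_inj f hf3 hsq
  exact ⟨⟨hb, he, hg⟩, h3, h4, h5, h6⟩

include hf3 in
theorem conjD_tA (s : K) (x : GL chevD4.Idx K) : ConjD f x (tA f s * x * tA f s) :=
  ⟨tA f s, tA_mem f hf3 s, by rw [inv_eq_self_of_sq (tA_sq f s)]⟩

include hf3 in
theorem conjD_tC (s : K) (x : GL chevD4.Idx K) : ConjD f x (tC f s * x * tC f s) :=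
  ⟨tC f s, tC_mem f hf3 s, by rw [inv_eq_self_of_sq (tC_sq f s)]⟩

include hf3 in
theorem conjD_tD (s : K) (x : GL chevD4.Idx K) : ConjD f x (tD f s * x * tD f s) :=
  ⟨tD f s, tD_mem f hf3 s, by rw [inv_eq_self_of_sq (tD_sq f s)]⟩

include hf3 in
theorem conjD_tB {s : K} (hs : f s = s) (x : GL chevD4.Idx K) : ConjD f x (tB s * x * tB s) :=
  ⟨tB s, tB_mem f hf3 hs, by rw [inv_eq_self_of_sq (tB_sq s)]⟩

include hf3 in
theorem conjD_tE {s : K} (hs : f s = s) (x : GL chevD4.Idx K) : ConjD f x (tE s * x * tE s) :=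
  ⟨tE s, tE_mem f hf3 hs, by rw [inv_eq_self_of_sq (tE_sq s)]⟩

theorem conjD_nA (x : GL chevD4.Idx K) : ConjD f x (nA * x * nA⁻¹) := ⟨nA, nA_mem f, rfl⟩

theorem conjD_nB (x : GL chevD4.Idx K) : ConjD f x (nB * x * nB⁻¹) := ⟨nB, nB_mem f, rfl⟩

end char2

end Cfsg.Agent.Helper7.Chev
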