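import Mathlib
import Cfsg.Agent.Helper7.D4InvG

set_option autoImplicit false
set_option linter.unusedSectionVars false
set_option linter.unusedVariables false

/-!
Involutions of `U¹` in `³D₄(q)`, `q` even: every involution in normal form is conjugate to
`x_b(1)` or `x_a(1)`.
-/

namespace Cfsg.Agent.Helper7.Chev

open Cfsg Cfsg.Lie Matrix
open scoped Pointwise

variable {K : Type*} [Field K] [CharP K 2]

theorem d4_add_self (x : K) : x + x = 0 := by
  have h2 := two_eq_zero_F (F := K)
  linear_combination x * h2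

theorem d4_sq_inj {x y : K} (h : x * x = y * y) : x = y := by
  have h2 := two_eq_zero_F (F := K)
  have : (x - y) * (x - y) = 0 := by linear_combination h - (x * y - y * y) * h2
  have := mul_self_eq_zero.mp this
  exact sub_eq_zero.mp this

theorem d4_exists_sq [Finite K] (x : K) : ∃ s : K, s * s = x := by
  have : ringChar K = 2 := (ringChar.eq K 2)
  obtain ⟨s, hs⟩ := FiniteField.isSquare_of_char_two this x
  exact ⟨s, hs.symm⟩

variable (f : K ≃+* K)

theorem d4_fixed_of_sq {c : K} (h : f (c * c) = c * c) : f c = c := by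
  rw [map_mul] at h
  exact d4_sq_inj h

section fin

variable [Finite K] (hf3' : ∀ t, (((f : K →+* K)) ^ 3) t = t)

include hf3' in
theorem stdA {a : K} (ha : a ≠ 0) : IsStdD f (tA f a) := by
  obtain ⟨c, hc⟩ := d4_exists_sq (a⁻¹)
  have hc0 : c ≠ 0 := by
    rintro rfl
    rw [mul_zero] at hc
    exact inv_ne_zero ha hc.symm
  have h := conjD_tA_scale f hc0 a hf3'
  rw [hc, inv_mul_cancel₀ ha] at h
  exact Or.inr h

include hf3' in
theorem stdB {b : K} (hb : b ≠ 0) (hfb : f b = b) : IsStdD f (tB b) := by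
  obtain ⟨c, hc⟩ := d4_exists_sq (b⁻¹)
  have hc0 : c ≠ 0 := by
    rintro rfl
    rw [mul_zero] at hc
    exact inv_ne_zero hb hc.symm
  have hfc : f c = c := by
    apply d4_fixed_of_sq
    rw [hc, map_inv₀, hfb]
  have h := conjD_tB_scale f hc0 hfc b
  rw [hc, inv_mul_cancel₀ hb] at h
  exact Or.inl h

include hf3' in
theorem stdE {b : K} (hb : b ≠ 0) (hfb : f b = b) : IsStdD f (tE b) := by
  refine IsStdD.of_conj (conjD_nA f (tE b)) ?_
  rw [nA_tE]
  exact stdB f hf3' hb hfb

include hf3' in
theorem stdG {b : K} (hb : b ≠ 0) (hfb : f b = b) : IsStdD f (tG b) := by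
  refine IsStdD.of_conj (conjD_nB f (tG b)) ?_
  rw [nB_tG]
  exact stdE f hf3' hb hfb

include hf3' in
theorem stdC {a : K} (ha : a ≠ 0) : IsStdD f (tC f a) := by
  refine IsStdD.of_conj (conjD_nB f (tC f a)) ?_
  rw [nB_tC]
  exact stdA f hf3' ha

include hf3' in
theorem stdD {a : K} (ha : a ≠ 0) : IsStdD f (tD f a) := by
  refine IsStdD.of_conj (conjD_nA f (tD f a)) ?_
  rw [nA_tD f (iter3_of_pow hf3')]
  exact stdC f hf3' ((map_ne_zero f).mpr ha)

theorem tw_congr {b a c d e g b' a' c' d' e' g' : K} (hb : b = b') (ha : a = a') (hc : c = c')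
    (hd : d = d') (he : e = e') (hg : g = g') : tw f b a c d e g = tw f b' a' c' d' e' g' := by
  subst hb ha hc hd he hg
  rfl

theorem tA_zero : tA f 0 = 1 := by
  unfold tA; simp only [map_zero, xd_zero, mul_one]

theorem tC_zero : tC f 0 = 1 := by
  unfold tC; simp only [map_zero, xd_zero, mul_one]

theorem tD_zero : tD f 0 = 1 := by
  unfold tD; simp only [map_zero, xd_zero, mul_one]

theorem tB_zero : tB (0 : K) = 1 := xd_zero _
theorem tE_zero : tE (0 : K) = 1 := xd_zero _
theorem tG_zero : tG (0 : K) = 1 := xd_zero _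

section ex

variable (hf3 : ∀ t, f (f (f t)) = t)

include hf3 in
theorem cjA_ex (s b a c d e g : K) (hb : f b = b) (he : f e = e) (hg : f g = g) :
    ∃ d' e' g', tA f s * tw f b a c d e g * tA f s = tw f b a (b * s + c) d' e' g' :=
  ⟨_, _, _, cjA f hf3 s b a c d e g hb he hg⟩

include hf3 in
theorem cjB_ex (r b a c d e g : K) (hb : f b = b) (he : f e = e) (hg : f g = g) (hr : f r = r) :
    ∃ d' e' g', tB r * tw f b a c d e g * tB r = tw f b a (a * r + c) d' e' g' :=
  ⟨_, _, _, cjB f hf3 r b a c d e g hb he hg hr⟩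

include hf3 in
theorem cjC_ex (s b a c d e g : K) (hb : f b = b) (he : f e = e) (hg : f g = g) :
    ∃ e' g', tC f s * tw f b a c d e g * tC f s = tw f b a c (a * f s + f a * s + d) e' g' :=
  ⟨_, _, cjC f hf3 s b a c d e g hb he hg⟩

end ex

include hf3' in
/-- Killing the `3a+b` coordinate when `a ≠ 0`, `c = 0`. -/
theorem kill_e {a e g : K} (ha : a ≠ 0) (he : f e = e) (hg : f g = g) :
    ConjD f (tw f 0 a 0 0 e g) (tw f 0 a 0 0 0 g) := by
  have hf3 := iter3_of_pow hf3'
  have h2 := two_eq_zero_F (F := K)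
  have h0 := map_zero f
  have hffa : f (f a) ≠ 0 := (map_ne_zero f).mpr ((map_ne_zero f).mpr ha)
  have hs : f (f a) * (e / f (f a)) = e := mul_div_cancel₀ _ hffa
  generalize e / f (f a) = s at hs
  have hs1 : a * f s = e := by
    have := congrArg f hs
    simpa only [map_mul, hf3, he] using this
  have hs2 : f a * f (f s) = e := by
    have := congrArg f hs1
    simpa only [map_mul, hf3, he] using this
  have e2 : tD f s * tw f 0 a 0 0 e g * tD f s = tw f 0 a 0 0 0 g := by
    rw [cjD f hf3 _ _ _ _ _ _ _ h0 he hg]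
    apply tw_congr f rfl rfl rfl rfl
    · linear_combination hs + hs1 + hs2 + (2 * e) * h2
    · simp only [map_zero]; ring
  rw [← e2]
  exact conjD_tD f hf3 s _

include hf3' in
/-- Case `x_a(a) x_{3a+2b}(g)`, `a ≠ 0`. -/
theorem std_AG {a g : K} (ha : a ≠ 0) (hg : f g = g) : IsStdD f (tw f 0 a 0 0 0 g) := by
  have hf3 := iter3_of_pow hf3'
  have h2 := two_eq_zero_F (F := K)
  have h0 := map_zero f
  have hN0 : a * f a * f (f a) ≠ 0 :=
    mul_ne_zero (mul_ne_zero ha ((map_ne_zero f).mpr ha))
      ((map_ne_zero f).mpr ((map_ne_zero f).mpr ha))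
  have hfN : f (a * f a * f (f a)) = a * f a * f (f a) := by
    simp only [map_mul, hf3]; ring
  obtain ⟨l, hl⟩ := d4_exists_sq (g / (a * f a * f (f a)))
  have hfl : f l = l := by
    apply d4_fixed_of_sq; rw [hl, map_div₀, hg, hfN]
  have hlN : l * l * (a * f a * f (f a)) = g := by rw [hl]; exact div_mul_cancel₀ _ hN0
  -- step 1
  have e1 : tC f (l * a) * tw f 0 a 0 0 0 g * tC f (l * a) =
      tw f 0 a 0 0 (l * (a * f a * f (f a))) 0 := by
    rw [cjC f hf3 _ _ _ _ _ _ _ h0 h0 hg]
    apply tw_congr f rfl rfl rfl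
    · simp only [map_mul, hfl]
      linear_combination (l * a * f a) * h2
    · simp only [map_mul, hfl]
      linear_combination (l * a * f a * f (f a)) * h2
    · simp only [map_mul, map_zero, hfl]
      linear_combination (2 * g) * h2 + 3 * hlN
  refine IsStdD.of_conj (conjD_tC f hf3 (l * a) _) ?_
  rw [e1]
  have hfe : f (l * (a * f a * f (f a))) = l * (a * f a * f (f a)) := by
    rw [map_mul, hfl, hfN]
  refine IsStdD.of_conj (kill_e f hf3' ha hfe h0) ?_
  rw [← tA_eq_tw]
  exact stdA f hf3' ha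

include hf3' in
/-- Case `x_a(a) x_{3a+b}(e) x_{3a+2b}(g)`, `a ≠ 0`. -/
theorem std_AEG {a e g : K} (ha : a ≠ 0) (he : f e = e) (hg : f g = g) :
    IsStdD f (tw f 0 a 0 0 e g) :=
  IsStdD.of_conj (kill_e f hf3' ha he hg) (std_AG f hf3' ha hg)

include hf3' in
/-- Case `b = c = 0`, `a ≠ 0`. -/
theorem std_B1' {a d e g : K} (ha : a ≠ 0) (h : IsInvD f (tw f 0 a 0 d e g)) :
    IsStdD f (tw f 0 a 0 d e g) := by
  have hf3 := iter3_of_pow hf3'
  have h0 := map_zero f
  obtain ⟨⟨-, he, hg⟩, -, -, h3, -⟩ := invD_cond f hf3 h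
  simp only [map_zero, mul_zero, zero_add, add_zero] at h3
  have hfa : f a ≠ 0 := (map_ne_zero f).mpr ha
  have hffa : f (f a) ≠ 0 := (map_ne_zero f).mpr hfa
  have hs : f a * f (f a) * (a * f d / (f a * f (f a))) = a * f d :=
    mul_div_cancel₀ _ (mul_ne_zero hfa hffa)
  generalize a * f d / (f a * f (f a)) = s at hs
  have hs1 : f (f a) * a * f s = f a * f (f d) := by
    have := congrArg f hs
    simpa only [map_mul, hf3] using this
  have hd : a * f s + f a * s + d = 0 := by
    apply mul_left_cancel₀ hffa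
    linear_combination hs1 + hs + h3
  obtain ⟨e', g', hE⟩ := cjC_ex f hf3 s 0 a 0 d e g h0 he hg
  rw [hd] at hE
  have hc := conjD_tC f hf3 s (tw f 0 a 0 d e g)
  rw [hE] at hc
  have hi := IsInvD.of_conj hc h
  obtain ⟨⟨-, he', hg'⟩, -⟩ := invD_cond f hf3 hi
  exact IsStdD.of_conj hc (std_AEG f hf3' ha he' hg')

include hf3' in
/-- Case `b = 0`, `a ≠ 0`. -/
theorem std_B1 {a c d e g : K} (ha : a ≠ 0) (h : IsInvD f (tw f 0 a c d e g)) :
    IsStdD f (tw f 0 a c d e g) := by
  have hf3 := iter3_of_pow hf3'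
  have h2 := two_eq_zero_F (F := K)
  have h0 := map_zero f
  obtain ⟨⟨-, he, hg⟩, -, h3, -⟩ := invD_cond f hf3 h
  simp only [mul_zero, zero_add] at h3
  have hfa : f a ≠ 0 := (map_ne_zero f).mpr ha
  have hr : a * (c / a) = c := mul_div_cancel₀ _ ha
  generalize c / a = r at hr
  have hfr : f r = r := by
    have h4 : f a * f r = f c := by rw [← map_mul, hr]
    apply mul_left_cancel₀ (mul_ne_zero ha hfa)
    linear_combination a * h4 + h3 - (f a) * hr - (f a * c) * h2
  have hc0 : a * r + c = 0 := by rw [hr]; exact d4_add_self c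
  obtain ⟨d', e', g', hE⟩ := cjB_ex f hf3 r 0 a c d e g h0 he hg hfr
  rw [hc0] at hE
  have hc := conjD_tB f hf3 hfr (tw f 0 a c d e g)
  rw [hE] at hc
  exact IsStdD.of_conj hc (std_B1' f hf3' ha (IsInvD.of_conj hc h))

theorem tw_BD (b d : K) : tw f b 0 0 d 0 0 = tD f d * tB b := by
  unfold tw
  rw [tA_zero, tC_zero, tE_zero, tG_zero, one_mul, one_mul, mul_one, mul_one]
  unfold tB tD
  have c1 := xd_commute (K := K) (r := 14) (s := 21) (by decide) b d
  have c2 := xd_commute (K := K) (r := 14) (s := 17) (by decide) b (f d)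
  have c3 := xd_commute (K := K) (r := 14) (s := 20) (by decide) b (f (f d))
  exact ((c1.mul_right (c2.mul_right c3))).eq

theorem tw_CE (c e : K) : tw f 0 0 c 0 e 0 = tC f c * tE e := by
  unfold tw
  rw [tA_zero, tB_zero, tD_zero, tG_zero, one_mul, one_mul, one_mul, mul_one]

theorem tw_AG (a g : K) : tw f 0 a 0 0 0 g = tA f a * tG g := by
  unfold tw
  rw [tC_zero, tB_zero, tD_zero, tE_zero, one_mul, one_mul, one_mul, one_mul]

include hf3' in
/-- Case `b ≠ 0`, `a = c = 0`. -/
theorem std_A' {b d e g : K} (hb : b ≠ 0) (h : IsInvD f (tw f b 0 0 d e g)) :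
    IsStdD f (tw f b 0 0 d e g) := by
  have hf3 := iter3_of_pow hf3'
  have h2 := two_eq_zero_F (F := K)
  have h0 := map_zero f
  obtain ⟨⟨hfb, he, hg⟩, -, -, -, h4⟩ := invD_cond f hf3 h
  simp only [map_zero, mul_zero, zero_mul, zero_add, add_zero] at h4
  have he0 : e = 0 := by
    rcases mul_eq_zero.mp h4 with h | h
    · exact absurd h hb
    · exact h
  subst he0
  by_cases hd : d = 0
  · subst hd
    have hr : b * (g / b) = g := mul_div_cancel₀ _ hb
    have hfr : f (g / b) = g / b := by rw [map_div₀, hg, hfb]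
    generalize g / b = r at hr hfr
    have e1 : tE r * tw f b 0 0 0 0 g * tE r = tw f b 0 0 0 0 0 := by
      rw [cjE f hf3 _ _ _ _ _ _ _ hfb h0 hg hfr]
      apply tw_congr f rfl rfl rfl rfl rfl
      rw [hr]; exact d4_add_self g
    refine IsStdD.of_conj (conjD_tE f hf3 hfr _) ?_
    rw [e1, ← tB_eq_tw]
    exact stdB f hf3' hb hfb
  · have hfd : f d ≠ 0 := (map_ne_zero f).mpr hd
    have hs : f d * (g / f d) = g := mul_div_cancel₀ _ hfd
    generalize g / f d = s at hs
    have hs1 : f (f d) * f s = g := by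
      have := congrArg f hs
      simpa only [map_mul, hf3, hg] using this
    have hs2 : d * f (f s) = g := by
      have := congrArg f hs1
      simpa only [map_mul, hf3, hg] using this
    have e1 : tC f s * tw f b 0 0 d 0 g * tC f s = tw f b 0 0 d 0 0 := by
      rw [cjC f hf3 _ _ _ _ _ _ _ hfb h0 hg]
      apply tw_congr f rfl rfl rfl
      · simp only [map_zero]; ring
      · simp only [map_zero]; ring
      · simp only [map_zero]
        linear_combination hs + hs1 + hs2 + (2 * g) * h2
    refine IsStdD.of_conj (conjD_tC f hf3 s _) ?_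
    rw [e1, tw_BD]
    refine IsStdD.of_conj (conjD_nA f _) ?_
    have e2 : nA * (tD f d * tB b) * nA⁻¹ = tw f 0 0 (f d) 0 b 0 := by
      rw [tw_CE, ← nA_tD f hf3, ← nA_tB]
      group
    rw [e2]
    refine IsStdD.of_conj (conjD_nB f _) ?_
    have e3 : nB * tw f 0 0 (f d) 0 b 0 * nB⁻¹ = tw f 0 (f d) 0 0 0 b := by
      rw [tw_CE, tw_AG, ← nB_tC, ← nB_tE]
      group
    rw [e3]
    exact std_AG f hf3' hfd hfb

include hf3' in
/-- Case `b ≠ 0`. -/
theorem std_A {b a c d e g : K} (hb : b ≠ 0) (h : IsInvD f (tw f b a c d e g)) :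
    IsStdD f (tw f b a c d e g) := by
  have hf3 := iter3_of_pow hf3'
  obtain ⟨⟨hfb, he, hg⟩, h1, -⟩ := invD_cond f hf3 h
  have ha0 : a = 0 := by
    rcases mul_eq_zero.mp h1 with h | h
    · exact h
    · exact absurd h hb
  subst ha0
  have hs : b * (c / b) = c := mul_div_cancel₀ _ hb
  generalize c / b = s at hs
  have hc0 : b * s + c = 0 := by rw [hs]; exact d4_add_self c
  obtain ⟨d', e', g', hE⟩ := cjA_ex f hf3 s b 0 c d e g hfb he hg
  rw [hc0] at hE
  have hc := conjD_tA f hf3 s (tw f b 0 c d e g)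
  rw [hE] at hc
  exact IsStdD.of_conj hc (std_A' f hf3' hb (IsInvD.of_conj hc h))

theorem tw_CDEG (c d e g : K) : tw f 0 0 c d e g = tC f c * (tD f d * (tE e * tG g)) := by
  unfold tw
  rw [tA_zero, tB_zero, one_mul, one_mul]

theorem tw_ADEG (a d e g : K) : tw f 0 a 0 d e g = tA f a * (tD f d * (tE e * tG g)) := by
  unfold tw
  rw [tC_zero, tB_zero, one_mul, one_mul]

include hf3' in
/-- Case `a = b = 0`. -/
theorem std_B2 {c d e g : K} (h : IsInvD f (tw f 0 0 c d e g)) :
    IsStdD f (tw f 0 0 c d e g) := by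
  have hf3 := iter3_of_pow hf3'
  have h2 := two_eq_zero_F (F := K)
  have h0 := map_zero f
  obtain ⟨⟨-, he, hg⟩, -⟩ := invD_cond f hf3 h
  by_cases hc : c = 0
  · subst hc
    by_cases hd : d = 0
    · subst hd
      by_cases he0 : e = 0
      · subst he0
        have hg0 : g ≠ 0 := by
          rintro rfl
          exact h.2.2 (tw_zero f)
        rw [← tG_eq_tw]
        exact stdG f hf3' hg0 hg
      · have hr : e * (g / e) = g := mul_div_cancel₀ _ he0
        have hfr : f (g / e) = g / e := by rw [map_div₀, hg, he]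
        generalize g / e = r at hr hfr
        have e1 : tB r * tw f 0 0 0 0 e g * tB r = tw f 0 0 0 0 e 0 := by
          rw [cjB f hf3 _ _ _ _ _ _ _ h0 he hg hfr]
          apply tw_congr f rfl rfl
          · ring
          · simp only [map_zero]; ring
          · simp only [map_zero]; ring
          · simp only [map_zero]
            linear_combination hr + g * h2
        refine IsStdD.of_conj (conjD_tB f hf3 hfr _) ?_
        rw [e1, ← tE_eq_tw]
        exact stdE f hf3' he0 he
    · have hfd : f d ≠ 0 := (map_ne_zero f).mpr hd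
      -- kill e
      have hs : f d * (e / f d) = e := mul_div_cancel₀ _ hfd
      generalize e / f d = s at hs
      have hs1 : f (f d) * f s = e := by
        have := congrArg f hs
        simpa only [map_mul, hf3, he] using this
      have hs2 : d * f (f s) = e := by
        have := congrArg f hs1
        simpa only [map_mul, hf3, he] using this
      have e1 : tA f s * tw f 0 0 0 d e g * tA f s = tw f 0 0 0 d 0 g := by
        rw [cjA f hf3 _ _ _ _ _ _ _ h0 he hg]
        apply tw_congr f rfl rfl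
        · ring
        · simp only [map_zero]; ring
        · simp only [map_zero]
          linear_combination hs + hs1 + hs2 + (2 * e) * h2
        · simp only [map_zero]; ring
      refine IsStdD.of_conj (conjD_tA f hf3 s _) ?_
      rw [e1]
      -- kill g
      have ht : f d * (g / f d) = g := mul_div_cancel₀ _ hfd
      generalize g / f d = t at ht
      have ht1 : f (f d) * f t = g := by
        have := congrArg f ht
        simpa only [map_mul, hf3, hg] using this
      have ht2 : d * f (f t) = g := by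
        have := congrArg f ht1
        simpa only [map_mul, hf3, hg] using this
      have e2 : tC f t * tw f 0 0 0 d 0 g * tC f t = tw f 0 0 0 d 0 0 := by
        rw [cjC f hf3 _ _ _ _ _ _ _ h0 h0 hg]
        apply tw_congr f rfl rfl rfl
        · simp only [map_zero]; ring
        · simp only [map_zero]; ring
        · simp only [map_zero]
          linear_combination ht + ht1 + ht2 + (2 * g) * h2
      refine IsStdD.of_conj (conjD_tC f hf3 t _) ?_
      rw [e2, ← tD_eq_tw]
      exact stdD f hf3' hd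
  · have e1 : nB * tw f 0 0 c d e g * nB⁻¹ = tw f 0 c 0 d g e := by
      rw [tw_CDEG, tw_ADEG]
      have hcm : Commute (tG e) (tE g) := by
        unfold tG tE
        exact (xd_commute (K := K) (r := 22) (s := 23) (by decide) g e).symm
      have : nB * (tC f c * (tD f d * (tE e * tG g))) * nB⁻¹ =
          nB * tC f c * nB⁻¹ * (nB * tD f d * nB⁻¹ * (nB * tE e * nB⁻¹ * (nB * tG g * nB⁻¹))) := by
        group
      rw [this, nB_tC, nB_tD, nB_tE, nB_tG, hcm.eq]
    have hcj := conjD_nB f (tw f 0 0 c d e g)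
    rw [e1] at hcj
    exact IsStdD.of_conj hcj (std_B1 f hf3' hc (IsInvD.of_conj hcj h))

include hf3' in
/-- Every involution of `U¹` is conjugate to `x_b(1)` or `x_a(1)`. -/
theorem std_of_inv {b a c d e g : K} (h : IsInvD f (tw f b a c d e g)) :
    IsStdD f (tw f b a c d e g) := by
  by_cases hb : b = 0
  · subst hb
    by_cases ha : a = 0
    · subst ha
      exact std_B2 f hf3' h
    · exact std_B1 f hf3' ha h
  · exact std_A f hf3' hb h

end fin

end Cfsg.Agent.Helper7.Chev
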