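import Mathlib
import Cfsg.Agent.Helper7.D4InvH

set_option autoImplicit false
set_option linter.unusedSectionVars false
set_option linter.unusedVariables false

/-!
`³D₄(q)`, `q` even: every element of order two is conjugate to `x_b(1)` or `x_a(1)`.
-/

namespace Cfsg.Agent.Helper7.Chev

open Cfsg Cfsg.Lie Matrix
open scoped Pointwise

variable {K : Type*} [Field K]

/-- In characteristic two, `|K| = q ^ 3` forces `q` to be a power of two. -/
theorem d4_q_pow_two [Fintype K] [CharP K 2] {q : ℕ} (hK : Fintype.card K = q ^ 3) :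
    ∃ m, 1 ≤ m ∧ q = 2 ^ m := by
  haveI : Fact (Nat.Prime 2) := ⟨Nat.prime_two⟩
  obtain ⟨n, hn⟩ := FiniteField.card K 2
  have hqd : q ∣ 2 ^ (n : ℕ) := by
    rw [← hn.2, hK]
    exact dvd_pow_self q (by norm_num)
  obtain ⟨m, -, hm⟩ := (Nat.dvd_prime_pow Nat.prime_two).mp hqd
  refine ⟨m, ?_, hm⟩
  by_contra h
  have hm0 : m = 0 := by omega
  subst hm0
  rw [hm] at hK
  have := Fintype.one_lt_card (α := K)
  rw [hK] at this
  norm_num at this

section sylow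

variable [Fintype K] [CharP K 2] {q : ℕ} (hq : IsPrimePow q) (hK : Fintype.card K = q ^ 3)
  (f : K ≃+* K) (hf : ∀ t, f t = t ^ q) (hf3 : ∀ t, (((f : K →+* K)) ^ 3) t = t)
  (hG : Nat.card ↥(G1D4 f) = q ^ 12 * (q ^ 2 - 1) * (q ^ 6 - 1) * (q ^ 8 + q ^ 4 + 1))

include hq hK hf hf3 hG in
/-- Every element of order two is conjugate to an element of `U¹`. -/
theorem exists_conj_mem_U1 {x : GL chevD4.Idx K} (hx : x ∈ G1D4 f) (ho : orderOf x = 2) :
    ∃ h ∈ G1D4 f, h * x * h⁻¹ ∈ chevD4.posUnipotent K ⊓ G1D4 f := by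
  haveI : Fact (Nat.Prime 2) := ⟨Nat.prime_two⟩
  obtain ⟨m, hm1, hm⟩ := d4_q_pow_two hK
  set U1 : Subgroup ↥(G1D4 f) := (chevD4.posUnipotent K ⊓ G1D4 f).subgroupOf (G1D4 f) with hU1
  have hcU : Nat.card ↥U1 = q ^ 12 := by
    rw [← card_U1D4 hq hK f hf hf3]
    exact Nat.card_congr (Subgroup.subgroupOfEquivOfLe inf_le_right).toEquiv
  have hpU : IsPGroup 2 ↥U1 := by
    apply IsPGroup.of_card (n := m * 12)
    rw [hcU, hm, pow_mul]
  have hidx : ¬ 2 ∣ U1.index := by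
    have h1 := U1.card_mul_index
    rw [hcU, hG, mul_assoc, mul_assoc] at h1
    have hq0 : 0 < q ^ 12 := by rw [hm]; positivity
    have h2 := Nat.eq_of_mul_eq_mul_left hq0 h1
    rw [h2]
    have h2q : 2 ∣ q := by rw [hm]; exact dvd_pow_self 2 (by omega)
    have hq1 : 1 ≤ q := by rw [hm]; exact Nat.one_le_two_pow
    have e2 : 2 ∣ q ^ 2 := dvd_pow h2q (by norm_num)
    have e6 : 2 ∣ q ^ 6 := dvd_pow h2q (by norm_num)
    have e8 : 2 ∣ q ^ 8 := dvd_pow h2q (by norm_num)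
    have e4 : 2 ∣ q ^ 4 := dvd_pow h2q (by norm_num)
    have p2 : 1 ≤ q ^ 2 := Nat.one_le_pow _ _ hq1
    have p6 : 1 ≤ q ^ 6 := Nat.one_le_pow _ _ hq1
    intro hd
    rcases (Nat.Prime.dvd_mul Nat.prime_two).mp hd with h | h
    · omega
    · rcases (Nat.Prime.dvd_mul Nat.prime_two).mp h with h | h
      · omega
      · omega
  let P : Sylow 2 ↥(G1D4 f) := hpU.toSylow hidx
  let x' : ↥(G1D4 f) := ⟨x, hx⟩
  have ho' : orderOf x' = 2 := by
    rw [← ho]
    exact Subgroup.orderOf_mk x hx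
  have hp : IsPGroup 2 (Subgroup.zpowers x') := by
    apply IsPGroup.of_card (n := 1)
    rw [Nat.card_zpowers, ho', pow_one]
  obtain ⟨Q, hQ⟩ := hp.exists_le_sylow
  obtain ⟨h, hh⟩ := MulAction.exists_smul_eq ↥(G1D4 f) Q P
  refine ⟨h.1, h.2, ?_⟩
  have hgQ : x' ∈ (Q : Subgroup ↥(G1D4 f)) := hQ (Subgroup.mem_zpowers x')
  have : h * x' * h⁻¹ ∈ (P : Subgroup ↥(G1D4 f)) := by
    rw [← hh, Sylow.coe_subgroup_smul]
    have := Subgroup.smul_mem_pointwise_smul x' (MulAut.conj h) _ hgQ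
    rwa [MulAut.smul_def, MulAut.conj_apply] at this
  have hP : (P : Subgroup ↥(G1D4 f)) = U1 := rfl
  rw [hP, hU1, Subgroup.mem_subgroupOf] at this
  simpa using this

include hq hK hf hf3 hG in
/-- Every element of order two of `³D₄(q)` is conjugate to `x_b(1)` or `x_a(1)`. -/
theorem stdD_of_order_two {x : GL chevD4.Idx K} (hx : x ∈ G1D4 f) (ho : orderOf x = 2) :
    IsStdD f x := by
  obtain ⟨h, hh, hU⟩ := exists_conj_mem_U1 hq hK f hf hf3 hG hx ho
  obtain ⟨b, a, c, d, e, g, -, -, -, hu⟩ := exists_tw hq hK f hf hf3 hU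
  have hc : ConjD f x (tw f b a c d e g) := ⟨h, hh, hu⟩
  refine IsStdD.of_conj hc ?_
  have hx2 : x * x = 1 := by
    have := pow_orderOf_eq_one x
    rwa [ho, sq] at this
  have hx1 : x ≠ 1 := by
    rintro rfl
    rw [orderOf_one] at ho
    omega
  exact std_of_inv f hf3 (IsInvD.of_conj hc ⟨hx, hx2, hx1⟩)

end sylow

end Cfsg.Agent.Helper7.Chev
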