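import Mathlib
import Cfsg.Agent.Helper7.D4InvI
import Cfsg.Agent.Helper7.ChevCharPA
import Cfsg.Agent.Helper7.ChevTwWD4All
import Cfsg.Agent.Helper7.ChevTwO3

set_option autoImplicit false
set_option linter.unusedSectionVars false
set_option linter.unusedVariables false

/-!
`³D₄(q)`, `q` even: the long root element `x_b(1)` and the short root element `x_a(1)` are not conjugate.
-/

namespace Cfsg.Agent.Helper7.Chev

open Cfsg Cfsg.Lie Matrix
open scoped Pointwise

variable {K : Type*} [Field K]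

set_option maxRecDepth 1000000 in
theorem d4_w23_fast : ∀ w ∈ twF_D4, fastD4.reflWord w 23 ∈ [0, 1, 9, 14, 22, 23] := by
  decide +kernel

theorem d4_w23 : ∀ w ∈ twF_D4, (tabOf chevD4).reflWord w 23 ∈ [0, 1, 9, 14, 22, 23] :=
  tab_D4 ▸ d4_w23_fast

/-- `B` normalises every term of the filtration of `U`. -/
theorem d4_B_le_normalizer_Uge {m : ℕ} (hm : 12 ≤ m) :
    chevD4.borelSubgroup K ≤ Subgroup.normalizer (Uge chevD4 K m : Set (GL chevD4.Idx K)) := by
  refine sup_le ?_ (diagonalSubgroup_le_normalizer_Uge good2_D4 m)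
  rw [posUnipotent_eq_Uge T0_D4]
  exact Uge_le_normalizer_Uge good2_D4 T0_D4 T3_D4 T4_D4 T26_D4 (le_refl _) hm

theorem d4_Uge_le_U {k : ℕ} (hk : 12 ≤ k) : Uge chevD4 K k ≤ chevD4.posUnipotent K := by
  rw [posUnipotent_eq_Uge T0_D4]
  exact Uge_anti hk

theorem xd_neg_mem (r : Fin 24) (hr : r.val < 12) (a : K) : xd r a ∈ chevD4.negUnipotent K :=
  Subgroup.subset_closure ⟨r.val, a, (isNegRoot_iff T0_D4 (d4_lt r.val r.isLt)).mpr hr, xd_coe r a⟩

/-- A negative root element lying in `U` is trivial. -/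
theorem xd_neg_eq_one (r : Fin 24) (hr : r.val < 12) {a : K} (h : xd r a ∈ chevD4.posUnipotent K) :
    xd r a = 1 := by
  have : xd r a ∈ chevD4.borelSubgroup K ⊓ chevD4.negUnipotent K :=
    ⟨(le_sup_left : chevD4.posUnipotent K ≤ chevD4.borelSubgroup K) h, xd_neg_mem r hr a⟩
  rw [borel_inf_negUnipotent good2_D4 T0_D4, Subgroup.mem_bot] at this
  exact this

theorem xd_ne_one (r : Fin 24) {a : K} (ha : a ≠ 0) : xd r a ≠ 1 :=
  xGL_ne_one good2_D4 T0_D4 T8_D4 (d4_lt r.val r.isLt) ha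

/-- The highest root elements are central in `U`. -/
theorem xd23_central {u : GL chevD4.Idx K} (hu : u ∈ chevD4.posUnipotent K) (s : K) :
    Commute u (xd 23 s) := by
  unfold ChevalleyDatum.posUnipotent at hu
  induction hu using Subgroup.closure_induction with
  | mem x hx =>
    obtain ⟨k, t, hkpos, hx⟩ := hx
    have hk : k < 24 := hkpos.1
    have hk1 : 12 ≤ k := (isPosRoot_iff T0_D4 hkpos.1).mp hkpos
    rw [eq_xGL d4G1 hkpos.1 hx]
    change Commute (xd ⟨k, hk⟩ t) (xd 23 s)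
    by_cases h23 : k = 23
    · subst h23
      change Commute (xd 23 t) (xd 23 s)
      unfold Commute SemiconjBy
      rw [xd_mul, xd_mul, add_comm]
    · have hall : ∀ r : Fin 24, 12 ≤ r.val → r.val ≠ 23 → (r, (23 : Fin 24)) ∈ d4NilPairs := by
        decide
      exact xd_commute (hall ⟨k, hk⟩ hk1 h23) t s
  | one => exact Commute.one_left _
  | mul a b _ _ ha hb => exact ha.mul_left hb
  | inv a _ ha => exact ha.inv_left

section char2

variable [CharP K 2] (f : K ≃+* K)

/-- The long root element `x_{3a+2b}(1)` and the short root element `x_{2a+b}(1)` are not conjugate. -/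
theorem not_conjD_G_D : ¬ ConjD f (tG (1 : K)) (tD f 1) := by
  rintro ⟨g, hgG, hconj⟩
  have hW := twWList_of_cert good2_D4 T19_D4 twCert_D4
  obtain ⟨L, hLW, b, hb, u', hu', e⟩ :=
    exists_normal_form_tw good2_D4 T0_D4 T3_D4 T4_D4 T5_D4 T6_D4 T7_D4 T8_D4 T9_D4 T18_D4a T19_D4
      T20_D4 f hW hgG
  have hL := (hW.ok L hLW).1
  set w : List ℕ := L.flatMap (clsWord (fun i => [2, 1, 3, 0].getD i 0)) with hwdef
  have hw : ∀ i ∈ w, i < chevD4.rank := flatMap_clsWord_lt T19_D4 hL
  have hwF : w ∈ twF_D4 := by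
    rw [← twFlat_D4]
    exact List.mem_map.mpr ⟨L, hLW, rfl⟩
  have hu'U : u' ∈ chevD4.posUnipotent K := ((mem_twM good2_D4 T18_D4a f).mp hu').1
  have hbB : b ∈ chevD4.borelSubgroup K := twB_le_borel good2_D4 T3_D4 T4_D4 T19_D4 f hb
  set T : GL chevD4.Idx K := tD f 1 with hT
  set z : GL chevD4.Idx K := xd 23 1 with hz
  set n : GL chevD4.Idx K := nWordGL good2_D4 w with hn
  have hcz : u' * z = z * u' := (xd23_central hu'U 1).eq
  have hmain : n * z * n⁻¹ = b⁻¹ * T * b := by
    have hconj' : g * z * g⁻¹ = T := hconj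
    rw [← hconj', e]
    calc n * z * n⁻¹ = n * (z * u') * u'⁻¹ * n⁻¹ := by group
      _ = n * (u' * z) * u'⁻¹ * n⁻¹ := by rw [hcz]
      _ = _ := by group
  have hT' : T = xd 21 1 * (xd 17 1 * xd 20 1) := by
    rw [hT]; unfold tD; rw [map_one, map_one]
  have hTU : T ∈ Uge chevD4 K 17 := by
    rw [hT']
    exact mul_mem (xd_mem_Uge 21 (by decide) _)
      (mul_mem (xd_mem_Uge 17 (by decide) _) (xd_mem_Uge 20 (by decide) _))
  have hv : b⁻¹ * T * b ∈ Uge chevD4 K 17 := by
    have := (Subgroup.mem_set_normalizer_iff.mp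
      (d4_B_le_normalizer_Uge (K := K) (m := 17) (by norm_num) (inv_mem hbB)) _).mp hTU
    rwa [inv_inv] at this
  have hT18 : T ∉ Uge chevD4 K 18 := by
    intro h
    have h17 : xd 17 (1 : K) = (xd 21 1)⁻¹ * T * (xd 20 1)⁻¹ := by rw [hT']; group
    have : xd 17 (1 : K) ∈ Uge chevD4 K 18 := by
      rw [h17]
      exact mul_mem (mul_mem (inv_mem (xd_mem_Uge 21 (by decide) _)) h)
        (inv_mem (xd_mem_Uge 20 (by decide) _))
    exact one_ne_zero (xd_eq_zero_of_mem_Uge 17 (by decide) this)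
  have hlist := d4_w23 w hwF
  have hs24 : (tabOf chevD4).reflWord w 23 < 24 := by
    simp only [List.mem_cons, List.not_mem_nil, or_false] at hlist
    omega
  have hcx := conj_xd (K := K) hw 23 ⟨_, hs24⟩ rfl 1
  rw [← hz, ← hn, hmain] at hcx
  rw [hcx] at hv
  simp only [List.mem_cons, List.not_mem_nil, or_false] at hlist
  have hneg : ∀ hlt : (tabOf chevD4).reflWord w 23 < 12, False := by
    intro hlt
    have := xd_neg_eq_one ⟨_, hs24⟩ hlt (d4_Uge_le_U (by norm_num) hv)
    exact xd_ne_one _ one_ne_zero this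
  rcases hlist with h | h | h | h | h | h
  · exact hneg (by omega)
  · exact hneg (by omega)
  · exact hneg (by omega)
  · -- root 14
    have h14 : xd ⟨_, hs24⟩ (1 : K) = xd 14 1 := by congr 1; exact Fin.ext h
    rw [h14] at hv
    exact one_ne_zero (xd_eq_zero_of_mem_Uge 14 (by decide) (Uge_anti (by norm_num) hv))
  · -- root 22
    have h22 : xd ⟨_, hs24⟩ (1 : K) = xd 22 1 := by congr 1; exact Fin.ext h
    apply hT18
    have h18 : b⁻¹ * T * b ∈ Uge chevD4 K 18 := by
      rw [hcx, h22]; exact xd_mem_Uge 22 (by decide) _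
    have := (Subgroup.mem_set_normalizer_iff.mp
      (d4_B_le_normalizer_Uge (K := K) (m := 18) (by norm_num) (inv_mem hbB)) T).mpr
    rw [inv_inv] at this
    exact this h18
  · -- root 23
    have h23 : xd ⟨_, hs24⟩ (1 : K) = xd 23 1 := by congr 1; exact Fin.ext h
    apply hT18
    have h18 : b⁻¹ * T * b ∈ Uge chevD4 K 18 := by
      rw [hcx, h23]; exact xd_mem_Uge 23 (by decide) _
    have := (Subgroup.mem_set_normalizer_iff.mp
      (d4_B_le_normalizer_Uge (K := K) (m := 18) (by norm_num) (inv_mem hbB)) T).mpr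
    rw [inv_inv] at this
    exact this h18

variable (hf3 : ∀ t, f (f (f t)) = t)

include hf3 in
/-- The long root element `x_b(1)` and the short root element `x_a(1)` are not conjugate. -/
theorem not_conjD_B_A : ¬ ConjD f (tB (1 : K)) (tA f 1) := by
  intro h
  apply not_conjD_G_D f
  -- `x_b(1) ~ x_{3a+b}(1) ~ x_{3a+2b}(1)`
  have h1 : ConjD f (tB (1 : K)) (tG 1) := by
    have e1 := conjD_nA f (tB (1 : K))
    rw [nA_tB] at e1
    have e2 := conjD_nB f (tE (1 : K))
    rw [nB_tE] at e2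
    exact e1.trans e2
  -- `x_a(1) ~ x_{a+b}(1) ~ x_{2a+b}(1)`
  have h2 : ConjD f (tA f (1 : K)) (tD f 1) := by
    have e1 := conjD_nB f (tA f (1 : K))
    rw [nB_tA] at e1
    have e2 := conjD_nA f (tC f (1 : K))
    rw [nA_tC f hf3, map_one, map_one] at e2
    exact e1.trans e2
  exact (h1.symm.trans h).trans h2

end char2

end Cfsg.Agent.Helper7.Chev
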