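import Mathlib
import Cfsg.Agent.Helper7.D4InvJ

set_option autoImplicit false
set_option linter.unusedSectionVars false
set_option linter.unusedVariables false

/-!
`³D₄(q)`, `q` even, has exactly two classes of involutions.
-/

namespace Cfsg.Agent.Helper7.Chev

open Cfsg Cfsg.Lie Matrix
open scoped Pointwise

variable {K : Type*} [Field K]

section main

variable [Fintype K] [CharP K 2] {q : ℕ} (hq : IsPrimePow q) (hK : Fintype.card K = q ^ 3)
  (f : K ≃+* K) (hf : ∀ t, f t = t ^ q) (hf3 : ∀ t, (((f : K →+* K)) ^ 3) t = t)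
  (hG : Nat.card ↥(G1D4 f) = q ^ 12 * (q ^ 2 - 1) * (q ^ 6 - 1) * (q ^ 8 + q ^ 4 + 1))

theorem conjD_iff_isConj {x y : GL chevD4.Idx K} (hx : x ∈ G1D4 f) (hy : y ∈ G1D4 f) :
    ConjD f x y ↔ IsConj (⟨x, hx⟩ : ↥(G1D4 f)) ⟨y, hy⟩ := by
  rw [isConj_iff]
  constructor
  · rintro ⟨h, hh, e⟩
    exact ⟨⟨h, hh⟩, Subtype.ext e⟩
  · rintro ⟨⟨h, hh⟩, e⟩
    exact ⟨h, hh, congrArg Subtype.val e⟩

include hq hK hf hf3 hG in
/-- The twisted group has exactly two classes of elements of order two. -/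
theorem d4_inv_classes_aux :
    (ConjClasses.mk '' {g : ↥(G1D4 f) | orderOf g = 2}).ncard = 2 := by
  have hf3i := iter3_of_pow hf3
  have hBm : tB (1 : K) ∈ G1D4 f := tB_mem f hf3i (map_one f)
  have hAm : tA f (1 : K) ∈ G1D4 f := tA_mem f hf3i 1
  set yB : ↥(G1D4 f) := ⟨tB 1, hBm⟩ with hyB
  set yA : ↥(G1D4 f) := ⟨tA f 1, hAm⟩ with hyA
  have hoB : orderOf yB = 2 := by
    rw [← Subgroup.orderOf_coe]
    apply orderOf_eq_prime
    · rw [sq]; exact tB_sq 1
    · exact xd_ne_one 14 one_ne_zero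
  have hoA : orderOf yA = 2 := by
    rw [← Subgroup.orderOf_coe]
    apply orderOf_eq_prime
    · rw [sq]; exact tA_sq f 1
    · intro h
      change tA f 1 = 1 at h
      rw [tA_eq_tw f, ← tw_zero f] at h
      exact one_ne_zero (tw_inj f hf3i h).2.1
  have hne : ConjClasses.mk yB ≠ ConjClasses.mk yA := by
    intro h
    rw [ConjClasses.mk_eq_mk_iff_isConj] at h
    exact not_conjD_B_A f hf3i ((conjD_iff_isConj f hBm hAm).mpr h)
  have hset : ConjClasses.mk '' {g : ↥(G1D4 f) | orderOf g = 2} =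
      {ConjClasses.mk yB, ConjClasses.mk yA} := by
    ext c
    constructor
    · rintro ⟨g, hg, rfl⟩
      have ho : orderOf (g : GL chevD4.Idx K) = 2 := by
        rw [Subgroup.orderOf_coe]; exact hg
      rcases stdD_of_order_two hq hK f hf hf3 hG g.2 ho with h | h
      · left
        rw [ConjClasses.mk_eq_mk_iff_isConj]
        exact (conjD_iff_isConj f g.2 hBm).mp h
      · right
        rw [Set.mem_singleton_iff, ConjClasses.mk_eq_mk_iff_isConj]
        exact (conjD_iff_isConj f g.2 hAm).mp h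
    · rintro (rfl | rfl)
      · exact ⟨yB, hoB, rfl⟩
      · exact ⟨yA, hoA, rfl⟩
  rw [hset, Set.ncard_pair hne]

include hq hK hf hf3 hG in
theorem d4_inv_classes (H : Subgroup (GL chevD4.Idx K)) (hH : H = G1D4 f) :
    (ConjClasses.mk '' {g : ↥H | orderOf g = 2}).ncard = 2 := by
  subst hH
  exact d4_inv_classes_aux hq hK f hf hf3 hG

end main

/-- `³D₄(q)`, `q` even, has exactly two classes of elements of order two. -/
theorem twistedD4_inv_classes [Fintype K] [CharP K 2] (q : ℕ) (hK : Fintype.card K = q ^ 3) :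
    (ConjClasses.mk '' {g : ↥(twistedD4 K q) | orderOf g = 2}).ncard = 2 := by
  obtain ⟨m, hm1, hm⟩ := d4_q_pow_two hK
  have hq : IsPrimePow q := ⟨2, m, Nat.prime_two.prime, by omega, hm.symm⟩
  obtain ⟨f, hf, hf3, e⟩ := twistedD4_eq hq hK
  have hG : Nat.card ↥(G1D4 f) = q ^ 12 * (q ^ 2 - 1) * (q ^ 6 - 1) * (q ^ 8 + q ^ 4 + 1) := by
    have := twD4_card hq hK
    rw [e] at this
    exact this
  exact d4_inv_classes hq hK f hf hf3 hG _ e

end Cfsg.Agent.Helper7.Chev
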