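import Mathlib
import Cfsg.Agent.Helper7.D4OJ
import Cfsg.Agent.Helper7.B2OK
import Cfsg.Agent.S1077
import Cfsg.Agent.S1054

set_option autoImplicit false
set_option maxHeartbeats 800000

/-!
`D₄(F) ≅ PΩ₈⁺(F)`.
-/

namespace Cfsg.Agent.Helper7.D4O

open Cfsg Cfsg.Lie Matrix

variable {F : Type*} [Field F]

theorem pair_cover : ∀ i ∈ allIdx, ∀ j ∈ allIdx, i ≠ j → i ≠ bar j →
    ∃ r : Fin 24, (rI r = i ∧ rJ r = j) ∨ (rI r = j ∧ rJ r = i) := by decide

theorem yG_eq_TG {r : ℕ} (hr : r < 24) (t : F) : yG r t = TG (rI r) (rJ r) t := by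
  apply Units.ext
  rw [yG_coe, yM_of_lt hr, TG_coe (rI_ne_bar_rJ hr)]

theorem E8_eq_EO : E8 F = EO 4 F := by
  apply le_antisymm
  · unfold E8
    rw [Subgroup.closure_le]
    rintro _ ⟨r, t, hr, rfl⟩
    rw [yG_eq_TG hr]
    exact TG_mem_EO (rI_ne_rJ hr) (rI_ne_bar_rJ hr) t
  · unfold EO
    rw [Subgroup.closure_le]
    rintro _ ⟨i, j, t, h1, h2, rfl⟩
    obtain ⟨r, hr | hr⟩ := pair_cover i (mem_allIdx i) j (mem_allIdx j) h1 h2
    · have : TG i j t = yG r t := by
        rw [yG_eq_TG r.2, hr.1, hr.2]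
      rw [this]
      exact yG_mem_E8 _ _
    · have : TG i j t = yG r (-t) := by
        rw [yG_eq_TG r.2, hr.1, hr.2]
        apply Units.ext
        have h3 : j ≠ bar i := fun h => h2 (by rw [h, bar_bar])
        rw [TG_coe h2, TG_coe h3, ← T_swap]
      rw [this]
      exact yG_mem_E8 _ _

/-- The inclusion of the commutator subgroup of the isometry group into the general linear group. -/
noncomputable def omegaIncl8 : ↥(Omega F (quadFormPlus 4 F)) →* GL (Idx 4) F :=
  (GO 4 F).subtype.comp (Omega F (quadFormPlus 4 F)).subtype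

theorem omegaIncl8_injective : Function.Injective (omegaIncl8 (F := F)) := by
  intro x y h
  apply Subtype.ext
  apply Subtype.ext
  exact h

theorem omegaIncl8_range : (omegaIncl8 (F := F)).range = EO 4 F := by
  apply le_antisymm
  · rintro g ⟨x, rfl⟩
    have hx : (x : ↥(GO 4 F)) ∈ commutator ↥(GO 4 F) := x.2
    have := commutator_le_EN (n := 4) (F := F) (by norm_num) hx
    exact mem_EN.mp this
  · unfold EO
    rw [Subgroup.closure_le]
    rintro g ⟨i, j, t, h1, h2, rfl⟩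
    obtain ⟨x, hx, y, hy, e⟩ := TG_eq_commutator (n := 4) (F := F) (by norm_num) h1 h2 t
    have hmem := Subgroup.commutator_mem_commutator (H₁ := (⊤ : Subgroup ↥(GO 4 F))) (H₂ := ⊤)
      (Subgroup.mem_top (⟨x, EO_le_GO hx⟩ : ↥(GO 4 F)))
      (Subgroup.mem_top (⟨y, EO_le_GO hy⟩ : ↥(GO 4 F)))
    rw [← commutator_def] at hmem
    refine ⟨⟨_, hmem⟩, ?_⟩
    rw [e]
    rfl

/-- The commutator subgroup of the isometry group is isomorphic to the group generated by the root
elements. -/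
noncomputable def omegaEquivEO : ↥(Omega F (quadFormPlus 4 F)) ≃* ↥(EO 4 F) :=
  (MulEquiv.ofBijective (omegaIncl8 (F := F)).rangeRestrict
    ⟨MonoidHom.rangeRestrict_injective_iff.mpr omegaIncl8_injective,
      MonoidHom.rangeRestrict_surjective _⟩).trans (MulEquiv.subgroupCongr omegaIncl8_range)

theorem stToGL_range' : (stToGL (F := F)).range = EO 4 F := by
  rw [stToGL_range, E8_eq_EO]

/-- The homomorphism from the presented group onto the group generated by the root elements. -/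
noncomputable def stToEO : chevD4.SteinbergGroup F →* ↥(EO 4 F) :=
  (MulEquiv.subgroupCongr (stToGL_range' (F := F))).toMonoidHom.comp (stToGL (F := F)).rangeRestrict

theorem stToEO_surjective : Function.Surjective (stToEO (F := F)) := by
  unfold stToEO
  exact (MulEquiv.subgroupCongr (stToGL_range' (F := F))).surjective.comp
    (MonoidHom.rangeRestrict_surjective _)

theorem EO_not_comm : ∃ x y : ↥(EO 4 F), x * y ≠ y * x := by
  have a1 : (Sum.inl 0 : Idx 4) ≠ Sum.inl 1 := by decide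
  have a2 : (Sum.inl 0 : Idx 4) ≠ bar (Sum.inl 1) := by decide
  have b1 : (Sum.inr 0 : Idx 4) ≠ Sum.inl 2 := by decide
  have b2 : (Sum.inr 0 : Idx 4) ≠ bar (Sum.inl 2) := by decide
  refine ⟨⟨TG (Sum.inl 0) (Sum.inl 1) 1, TG_mem_EO a1 a2 1⟩,
    ⟨TG (Sum.inr 0) (Sum.inl 2) 1, TG_mem_EO b1 b2 1⟩, ?_⟩
  intro h
  have h1 := congrArg (fun z : ↥(EO 4 F) => ((z : GL (Idx 4) F) : Matrix (Idx 4) (Idx 4) F) *ᵥ
    (bv (Sum.inr 2) : Idx 4 → F)) h
  simp only [Subgroup.coe_mul, Units.val_mul, TG_coe a2, TG_coe b2, ← Matrix.mulVec_mulVec] at h1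
  have h2 := congrFun h1 (Sum.inl 1)
  rw [T_mulVec, T_mulVec, T_mulVec, T_mulVec, T_mulVec, T_mulVec] at h2
  simp [bv_apply, bar] at h2

/-- `D₄(F) ≅ PΩ₈⁺(F)`. -/
theorem d4_equiv_pomega :
    Nonempty (↥(chevD4.group F) ≃* POmega F (quadFormPlus 4 F)) := by
  obtain ⟨θ, hθs, hθk, -⟩ := Cfsg.Agent.S1077.result (K := F) chevD4 (by simp)
  have : IsSimpleGroup ↥(chevD4.group F) := (Cfsg.Agent.S1054.result (F := F) chevD4 (by simp)).1
  obtain ⟨e⟩ := Cfsg.Agent.Helper7.B2O.nonempty_equiv_quot_center θ hθs hθk (stToEO (F := F))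
    stToEO_surjective EO_not_comm
  exact ⟨e.trans (Cfsg.Agent.Helper7.B2O.quotCenterCongr (omegaEquivEO (F := F)).symm)⟩

end Cfsg.Agent.Helper7.D4O
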