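import Cfsg.Agent.Helper7.DcpA

/-!
# Reduction of decomposition stabilisers to the standard block-monomial form
-/

set_option autoImplicit false

namespace Cfsg.Agent.Helper7.Dcp

open Matrix Cfsg.Geo

variable {F : Type*} [Field F] {n : ℕ}

section iso

variable {ι' : Type} [Fintype ι'] [DecidableEq ι'] (B : Module.Basis ι' F (Fin n → F))

/-- The matrix of `g` in the basis `B`, as a group isomorphism `GL (Fin n) F ≃* GL ι' F`. -/
noncomputable def basisIso : GL (Fin n) F ≃* GL ι' F :=
  Units.mapEquiv ((Matrix.toLinAlgEquiv'.trans (LinearMap.toMatrixAlgEquiv B)).toMulEquiv)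

theorem basisIso_apply (g : GL (Fin n) F) (k l : ι') :
    ((basisIso B g : GL ι' F) : Matrix ι' ι' F) k l = B.repr ((g : Matrix (Fin n) (Fin n) F) *ᵥ B l) k := by
  change (LinearMap.toMatrixAlgEquiv B (Matrix.toLinAlgEquiv' (g : Matrix (Fin n) (Fin n) F))) k l = _
  rw [LinearMap.toMatrixAlgEquiv_apply, Matrix.toLinAlgEquiv'_apply]

theorem basisIso_det (g : GL (Fin n) F) :
    ((basisIso B g : GL ι' F) : Matrix ι' ι' F).det = (g : Matrix (Fin n) (Fin n) F).det := by
  change (LinearMap.toMatrixAlgEquiv B (Matrix.toLinAlgEquiv' (g : Matrix (Fin n) (Fin n) F))).det = _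
  have : LinearMap.toMatrixAlgEquiv B (Matrix.toLinAlgEquiv' (g : Matrix (Fin n) (Fin n) F)) =
      LinearMap.toMatrix B B (Matrix.toLin' (g : Matrix (Fin n) (Fin n) F)) := rfl
  rw [this, LinearMap.det_toMatrix, LinearMap.det_toLin']

theorem mem_specialLinear_iff {ι : Type} [Fintype ι] [DecidableEq ι] (g : GL ι F) :
    g ∈ specialLinear ι F ↔ (g : Matrix ι ι F).det = 1 := by
  unfold specialLinear
  rw [MonoidHom.mem_ker]
  constructor
  · intro h
    have := congrArg Units.val h
    simpa using this
  · intro h
    apply Units.ext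
    simpa using h

theorem basisIso_mem_specialLinear (g : GL (Fin n) F) :
    basisIso B g ∈ specialLinear ι' F ↔ g ∈ specialLinear (Fin n) F := by
  rw [mem_specialLinear_iff, mem_specialLinear_iff, basisIso_det]

theorem map_specialLinear :
    (specialLinear (Fin n) F).map (basisIso B).toMonoidHom = specialLinear ι' F := by
  ext x
  constructor
  · rintro ⟨g, hg, rfl⟩
    exact (basisIso_mem_specialLinear B g).mpr hg
  · intro hx
    refine ⟨(basisIso B).symm x, ?_, by simp⟩
    have h := (basisIso_mem_specialLinear B ((basisIso B).symm x)).mp (by simpa using hx)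
    exact h

end iso

/-- Transport of `IsMaximalIn` along a group isomorphism. -/
theorem isMaximalIn_map {G G' : Type*} [Group G] [Group G'] (φ : G ≃* G') (K H : Subgroup G)
    (h : IsMaximalIn (K.map φ.toMonoidHom) (H.map φ.toMonoidHom)) : IsMaximalIn K H := by
  obtain ⟨h1, h2⟩ := h
  have hinj : Function.Injective φ.toMonoidHom := φ.injective
  refine ⟨?_, ?_⟩
  · exact (Subgroup.map_lt_map_iff_of_injective hinj).mp h1
  · intro M hHM hMK
    rcases h2 (M.map φ.toMonoidHom) (Subgroup.map_mono hHM) (Subgroup.map_mono hMK) with h | h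
    · left; exact Subgroup.map_injective hinj h
    · right; exact Subgroup.map_injective hinj h

end Cfsg.Agent.Helper7.Dcp
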