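import Mathlib
import Cfsg.Agent.Helper7.ChevInvC
import Cfsg.Agent.Helper7.ChevGood3
import Cfsg.Agent.Helper7.ChevT6
import Cfsg.Agent.Helper7.ChevT7

set_option autoImplicit false
set_option linter.unusedSectionVars false
set_option linter.unusedVariables false
set_option maxHeartbeats 1000000
set_option maxRecDepth 1000000

/-!
Type `E₆`: the special involutions of the Weyl group (generated tables).
-/

namespace Cfsg.Agent.Helper7.Chev

open Cfsg Cfsg.Lie Matrix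

/-- The tuples of images of the fundamental roots passing the tests, each with a word mapping it back to the
fundamental roots, or to their negatives (flagged). -/
def e6Tup : List (List ℕ × List ℕ × Bool) :=
  [([4, 46, 42, 39, 37, 16], [1, 2, 3, 1, 2, 3, 4, 3, 1, 2, 3, 4], true),
   ([14, 25, 42, 27, 37, 33], [2, 4], true),
   ([14, 25, 42, 28, 33, 36], [2, 5], true),
   ([14, 25, 42, 28, 34, 35], [2], true),
   ([14, 46, 42, 20, 37, 33], [1, 2, 4], true),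
   ([14, 46, 42, 21, 33, 36], [1, 2, 5], true),
   ([14, 46, 42, 21, 34, 35], [1, 2], true),
   ([15, 24, 28, 39, 30, 36], [3, 5], true),
   ([15, 24, 28, 39, 31, 35], [3], true),
   ([15, 25, 29, 31, 37, 33], [4], true),
   ([15, 25, 29, 32, 33, 36], [5], true),
   ([15, 25, 29, 32, 34, 35], [], true),
   ([15, 46, 29, 23, 37, 33], [1, 4], true),
   ([15, 46, 29, 24, 33, 36], [1, 5], true),
   ([15, 46, 29, 24, 34, 35], [1], true),
   ([26, 18, 42, 39, 37, 12], [0, 1, 2, 3, 1, 2, 0, 4, 3, 1, 2, 0, 3, 4, 5, 4, 3, 1, 2, 0, 3, 2, 4, 3, 1, 5, 4, 3, 2, 0], false),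
   ([35, 24, 31, 39, 28, 15], [0, 1, 2, 0, 3, 1, 2, 0, 3, 4, 3, 1, 2, 0, 3, 2, 4, 3, 1, 5, 4, 3, 1, 2, 0, 3, 2, 4, 3, 1, 5, 4, 3, 2, 0], false),
   ([35, 25, 34, 32, 29, 15], [0, 1, 2, 0, 3, 1, 2, 0, 3, 2, 4, 3, 1, 2, 0, 3, 2, 4, 3, 1, 5, 4, 3, 1, 2, 0, 3, 2, 4, 3, 1, 5, 4, 3, 2, 0], false),
   ([35, 46, 34, 24, 29, 15], [0, 2, 0, 3, 1, 2, 0, 3, 2, 4, 3, 1, 2, 0, 3, 2, 4, 3, 1, 5, 4, 3, 1, 2, 0, 3, 2, 4, 3, 1, 5, 4, 3, 2, 0], false),
   ([56, 1, 42, 39, 37, 36], [1, 3, 2, 0, 4, 3, 1, 2, 3, 4, 5, 4, 3, 1, 2, 0, 3, 2, 4, 3, 1], false),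
   ([56, 24, 13, 39, 30, 36], [0, 3, 5], true),
   ([56, 24, 13, 39, 31, 35], [0, 3], true),
   ([56, 25, 14, 31, 37, 33], [0, 4], true),
   ([56, 25, 14, 32, 33, 36], [0, 5], true),
   ([56, 25, 14, 32, 34, 35], [0], true),
   ([56, 46, 14, 23, 37, 33], [0, 1, 4], true),
   ([56, 46, 14, 24, 33, 36], [0, 1, 5], true),
   ([56, 46, 14, 24, 34, 35], [0, 1], true),
   ([56, 46, 42, 39, 37, 36], [], false)]

/-- The fundamental roots of `E₆`. -/
def e6Simple (i : ℕ) : ℕ := [56, 46, 42, 39, 37, 36].getD i 0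

theorem e6Simple_eq : ∀ i < 6, chevE6.simple i = e6Simple i := by decide

theorem e6_search : fastE6.tupSearch 6 = e6Tup.map Prod.fst := by decide +kernel

theorem e6_tup_ok : ∀ e ∈ e6Tup, (∀ i ∈ e.2.1, i < 6) ∧
    ∀ i < 6, fastE6.reflWord e.2.1 (e.1.getD i 0) = if e.2.2 then 71 - e6Simple i else e6Simple i := by
  decide +kernel

/-- A word of the longest element. -/
def e6W0 : List ℕ := [0, 2, 3, 4, 5, 1, 3, 4, 2, 3, 0, 2, 1, 3, 4, 5, 1, 3, 4, 2, 3, 0, 2, 1, 3, 4, 2, 3, 0, 2, 1, 3, 0, 2, 1, 0]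

theorem e6_w0_tab : (∀ i ∈ e6W0, i < 6) ∧
    ∀ i < 6, fastE6.reflWord e6W0 (e6Simple i) = 71 - e6Simple ([5, 1, 4, 3, 2, 0].getD i 0) := by
  decide +kernel

/-- The special involutions. -/
def e6Spec : List (List ℕ) :=
  [[0, 2, 3, 4, 5, 1, 3, 4, 2, 3, 0, 2, 1, 3, 4, 5, 4, 3, 0, 2, 1, 3, 4, 0, 2, 1, 3, 2, 1, 0],
   [0, 2, 3, 4, 5, 1, 3, 4, 2, 3, 0, 2, 1, 3, 4, 5, 1, 3, 4, 2, 3, 0, 2, 1, 3, 4, 3, 0, 2, 1, 3, 0, 2, 1, 0],
   [0, 2, 3, 4, 5, 1, 3, 4, 2, 3, 0, 2, 1, 3, 4, 5, 1, 3, 4, 2, 3, 0, 2, 1, 3, 4, 2, 3, 0, 2, 1, 3, 0, 2, 1, 0],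
   [0, 2, 3, 4, 5, 1, 3, 4, 2, 3, 0, 2, 1, 3, 4, 5, 1, 3, 4, 2, 3, 0, 2, 1, 3, 4, 2, 3, 0, 2, 1, 3, 0, 2, 0],
   [1, 3, 4, 2, 3, 0, 2, 1, 3, 4, 5, 4, 3, 2, 1, 3, 4, 0, 2, 3, 1],
   []]

theorem e6_spec_tab : ∀ e ∈ e6Tup, e.2.2 = false → e.2.1.reverse ∈ e6Spec := by decide +kernel

theorem e6_neg_val {r : ℕ} (hr : r < 72) : chevE6.neg r = 71 - r := by
  have := (T8_E6.1 r hr).1
  exact this

/-- No word acts as `-1` on the fundamental roots. -/
theorem e6_no_neg_one {u : List ℕ} (hu : ∀ i ∈ u, i < chevE6.rank)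
    (h : ∀ i < 6, (tabOf chevE6).reflWord u (chevE6.simple i) = chevE6.neg (chevE6.simple i)) : False := by
  have hG := good3_E6.toGood2
  have hG1 := good3_E6.toGood1
  obtain ⟨hw0, htab⟩ := e6_w0_tab
  have hw0' : ∀ i ∈ e6W0, i < chevE6.rank := hw0
  have hv : ∀ i ∈ u ++ e6W0, i < chevE6.rank := by
    intro i hi
    rcases List.mem_append.mp hi with h | h
    · exact hu i h
    · exact hw0' i h
  have hτ : ∀ i < 6, ([5, 1, 4, 3, 2, 0] : List ℕ).getD i 0 < 6 := by decide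
  have hact : ∀ i < 6, (tabOf chevE6).reflWord (u ++ e6W0) (chevE6.simple i) =
      chevE6.simple (([5, 1, 4, 3, 2, 0] : List ℕ).getD i 0) := by
    intro i hi
    have hj := hτ i hi
    have hpj := hG1.simple_lt (show ([5, 1, 4, 3, 2, 0] : List ℕ).getD i 0 < chevE6.rank from hj)
    rw [reflWord_append]
    have e1 : (tabOf chevE6).reflWord e6W0 (chevE6.simple i) =
        chevE6.neg (chevE6.simple (([5, 1, 4, 3, 2, 0] : List ℕ).getD i 0)) := by
      rw [tab_E6, e6Simple_eq i hi, htab i hi, e6Simple_eq _ hj, e6_neg_val]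
      rw [← e6Simple_eq _ hj]
      exact hpj
    rw [e1, reflWord_neg hG hu hpj, h _ hj, hG1.neg_neg hpj]
  have htriv := sameAct_nil_of_simple_pos hG T0_E6 T6_E6 T8_E6 hv (by
    intro i hi
    rw [hact i hi]
    exact simple_pos hG1 T0_E6 (hτ i hi))
  have h0 := htriv (chevE6.simple 0) (hG1.simple_lt (by decide))
  rw [hact 0 (by decide)] at h0
  revert h0
  decide

/-- The special involutions of the Weyl group of type `E₆`. -/
theorem e6_special_class {w : List ℕ} (hw : ∀ i ∈ w, i < chevE6.rank) (hinv : SameAct chevE6 w.reverse w)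
    (hspec : ∀ i < chevE6.rank, (tabOf chevE6).reflWord w (chevE6.simple i) < chevE6.nroots / 2 ∨
      (tabOf chevE6).reflWord w (chevE6.simple i) = chevE6.simple i) :
    ∃ v ∈ e6Spec, SameAct chevE6 w v := by
  have hG := good3_E6.toGood2
  have hG1 := good3_E6.toGood1
  have hmem := tuple_mem_search hG hw hinv hspec 6 le_rfl
  rw [tab_E6, e6_search, List.mem_map] at hmem
  obtain ⟨e, he, heq⟩ := hmem
  obtain ⟨hX, hXact⟩ := e6_tup_ok e he
  have hX' : ∀ i ∈ e.2.1, i < chevE6.rank := hX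
  have hget : ∀ i < 6, e.1.getD i 0 = fastE6.reflWord w (chevE6.simple i) := by
    intro i hi
    rw [heq, List.getD_eq_getElem _ _ (by simp [hi])]
    simp
  by_cases hspur : e.2.2 = true
  · exfalso
    have hu : ∀ i ∈ e.2.1 ++ w, i < chevE6.rank := by
      intro i hi
      rcases List.mem_append.mp hi with h | h
      · exact hX' i h
      · exact hw i h
    apply e6_no_neg_one hu
    intro i hi
    have := hXact i hi
    rw [if_pos hspur, hget i hi] at this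
    rw [reflWord_append, tab_E6, this, e6Simple_eq i hi, e6_neg_val]
    have : ∀ j < 6, e6Simple j < 72 := by decide
    exact this i hi
  · have hspur' : e.2.2 = false := by simpa using hspur
    refine ⟨e.2.1.reverse, e6_spec_tab e he hspur', ?_⟩
    apply sameAct_of_tuple hG T0_E6 T6_E6 T8_E6 hw hX'
    intro i hi
    have hi' : i < 6 := hi
    have := hXact i hi'
    rw [if_neg hspur, hget i hi'] at this
    rw [tab_E6, this, e6Simple_eq i hi']

end Cfsg.Agent.Helper7.Chev
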