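import Mathlib
import Cfsg.Agent.Helper7.ChevInvH
import Cfsg.Agent.Helper7.E6ClsA

set_option autoImplicit false
set_option linter.unusedSectionVars false
set_option linter.unusedVariables false
set_option maxHeartbeats 1000000

/-!
Type `E₆`, characteristic two: every involution is conjugate to one of the three products of root elements
`x_{71}(1)`, `x_{68}(1) x_{66}(1)`, `x_{55}(1) x_{65}(1) x_{67}(1)`.
-/

namespace Cfsg.Agent.Helper7.Chev

open Cfsg Cfsg.Lie Matrix DoubleCoset
open scoped Pointwise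

/-- The table facts of type `E₆`. -/
theorem ctxE6 : Ctx chevE6 := ⟨good3_E6, T0_E6, T5_E6, T6_E6, T7_E6, T8_E6, T9_E6⟩

section tables

set_option maxRecDepth 1000000 in
theorem e6_spec_ok_fast : ∀ v ∈ e6Spec, fastE6.SpecOK v := by decide +kernel

theorem e6_spec_ok : ∀ v ∈ e6Spec, (tabOf chevE6).SpecOK v := tab_E6 ▸ e6_spec_ok_fast

/-- For each special involution of the Weyl group, orthogonal roots whose reflections multiply to it, each given
as the image of a fundamental root under a word. -/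
def e6Data : List (List (List ℕ × ℕ)) :=
  [[([5, 4, 3, 2], 0), ([1, 3, 4, 5, 2, 3, 4, 1, 3, 2], 0)],
   [([1, 3, 4, 5, 2, 3, 4, 1, 3, 2], 0), ([5, 4, 3, 2], 0), ([4, 3], 2)],
   [([], 3), ([4, 3], 2), ([5, 4, 3, 2], 0), ([1, 3, 4, 5, 2, 3, 4, 1, 3, 2], 0)],
   [([4, 5, 2, 3, 4, 1, 3, 2], 0), ([5, 3, 4, 1, 3, 2], 0), ([3, 4, 2, 3], 1)],
   [([1, 3, 4, 5, 2, 3, 4, 1, 3, 2], 0)],
   []]

/-- The roots of the products. -/
def e6DataRoots : List (List ℕ) :=
  [[60, 71], [71, 60, 44], [39, 44, 60, 71], [69, 65, 53], [71], []]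

set_option maxRecDepth 1000000 in
theorem e6_data_ok_fast : ∀ k < 6, fastE6.DataOK (e6Spec.getD k []) (e6Data.getD k []) ∧
    (e6Data.getD k []).map fastE6.dP = e6DataRoots.getD k [] := by
  decide +kernel

theorem e6_data_ok : ∀ k < 6, (tabOf chevE6).DataOK (e6Spec.getD k []) (e6Data.getD k []) ∧
    (e6Data.getD k []).map (tabOf chevE6).dP = e6DataRoots.getD k [] := tab_E6 ▸ e6_data_ok_fast

end tables

variable {K : Type*} [Field K] [CharP K 2]

/-- Every involution is conjugate to one of five products of commuting root elements. -/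
theorem e6_inv_conj_data [Fintype K] {t : GL chevE6.Idx K} (ht : t ∈ chevE6.group K) (ht2 : t * t = 1)
    (ht1 : t ≠ 1) :
    ∃ k < 5, GConj chevE6 t (uw1 ctxE6 K (e6DataRoots.getD k [])) := by
  obtain ⟨W, hW⟩ := exists_wList good3_E6.toGood2 T0_E6 T6_E6 T8_E6
  obtain ⟨g, hg, v, hv, h, hh, e⟩ := inv_conj_N (K := K) ctxE6 hW e6Spec e6_spec_ok
    (fun w hw hinv hspec => e6_special_class hw hinv hspec) ht ht2
  obtain ⟨k, hk, ek⟩ := List.getElem_of_mem hv
  have hk6 : k < 6 := hk
  have ev : v = e6Spec.getD k [] := by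
    rw [← ek, List.getD_eq_getElem _ _ hk]
  have hinv : (h * nWordGL ctxE6.g3.toGood2 v) * (h * nWordGL ctxE6.g3.toGood2 v) = 1 := by
    rw [← e]
    calc g * t * g⁻¹ * (g * t * g⁻¹) = g * (t * t) * g⁻¹ := by group
      _ = 1 := by rw [ht2]; group
  obtain ⟨hdata, hroots⟩ := e6_data_ok k hk6
  by_cases h5 : k = 5
  · -- the trivial element of the Weyl group: impossible
    exfalso
    subst h5
    have ev' : v = [] := by rw [ev]; rfl
    rw [ev', nWordGL_nil, mul_one] at e hinv
    obtain ⟨N, hN, hhN⟩ := torus_odd ctxE6 hh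
    obtain ⟨a, rfl⟩ := hN
    have h1 : h = 1 := by
      have : h ^ (2 * a + 1) = h := by
        rw [pow_succ, pow_mul, pow_two, hinv, one_pow, one_mul]
      rw [← this, hhN]
    rw [h1] at e
    apply ht1
    calc t = g⁻¹ * (g * t * g⁻¹) * g := by group
      _ = 1 := by rw [e]; group
  · have hvr : ∀ i ∈ v, i < chevE6.rank := (e6_spec_ok v hv).1
    rw [← ev] at hdata
    obtain ⟨g', hg', e'⟩ := inv_N_conj ctxE6 (e6Data.getD k []) hdata hvr hh hinv
    refine ⟨k, by omega, g' * g, mul_mem hg' hg, ?_⟩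
    unfold uw1
    rw [← hroots, List.map_map]
    have hcomp : ((fun r : ℕ => (r, (1 : K))) ∘ (tabOf chevE6).dP) =
        fun d => ((tabOf chevE6).dP d, (1 : K)) := rfl
    rw [hcomp, ← e', ← e]
    group

end Cfsg.Agent.Helper7.Chev
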