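import Mathlib
import Cfsg.Agent.Helper7.E6ClsB

set_option autoImplicit false
set_option linter.unusedSectionVars false
set_option linter.unusedVariables false
set_option maxHeartbeats 1000000

/-!
Type `E₆`, characteristic two: the fusion of the five products of root elements into three classes.
-/

namespace Cfsg.Agent.Helper7.Chev

open Cfsg Cfsg.Lie Matrix DoubleCoset
open scoped Pointwise

variable {K : Type*} [Field K] [CharP K 2]

theorem e6_fus_0 : GConj chevE6 (uw1 ctxE6 K [60, 71]) (uw1 ctxE6 K [68, 66]) :=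
  gconj_n ctxE6 (w := [2, 3, 1]) (by decide) [60, 71] [68, 66] (by decide)
    (by rw [tab_E6]; decide +kernel)

theorem e6_fus_1 : GConj chevE6 (uw1 ctxE6 K [71, 60, 44]) (uw1 ctxE6 K [55, 65, 67]) :=
  gconj_n ctxE6 (w := [0, 2, 3, 1, 0]) (by decide) [71, 60, 44] [55, 65, 67] (by decide)
    (by rw [tab_E6]; decide +kernel)

theorem e6_fus_3 : GConj chevE6 (uw1 ctxE6 K [69, 65, 53]) (uw1 ctxE6 K [55, 65, 67]) :=
  gconj_n ctxE6 (w := [0, 2, 0]) (by decide) [69, 65, 53] [55, 65, 67] (by decide)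
    (by rw [tab_E6]; decide +kernel)

theorem e6_fus_2 : GConj chevE6 (uw1 ctxE6 K [39, 44, 60, 71]) (uw1 ctxE6 K [55, 65, 67]) := by
  refine GConj.trans (gconj_x ctxE6 47 (L' := [39, 44, 53, 60, 65, 71]) 200
    (by rw [tab_E6]; decide +kernel)) ?_
  refine GConj.trans (gconj_x ctxE6 44 (L' := [39, 44, 53, 60, 65, 70, 71]) 200
    (by rw [tab_E6]; decide +kernel)) ?_
  refine GConj.trans (gconj_x ctxE6 51 (L' := [39, 44, 60, 65, 69, 70]) 200
    (by rw [tab_E6]; decide +kernel)) ?_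
  refine GConj.trans (gconj_x ctxE6 63 (L' := [39, 44, 60]) 200
    (by rw [tab_E6]; decide +kernel)) ?_
  exact gconj_n ctxE6 (w := [3, 4, 5, 2, 3, 4, 0, 2, 3, 0, 2, 1, 0]) (by decide) [39, 44, 60] [55, 65, 67]
    (by decide) (by rw [tab_E6]; decide +kernel)

/-- Every involution is conjugate to one of the three representatives. -/
theorem e6_inv_conj_rep [Fintype K] {t : GL chevE6.Idx K} (ht : t ∈ chevE6.group K) (ht2 : t * t = 1)
    (ht1 : t ≠ 1) :
    GConj chevE6 t (uw1 ctxE6 K [71]) ∨ GConj chevE6 t (uw1 ctxE6 K [68, 66]) ∨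
      GConj chevE6 t (uw1 ctxE6 K [55, 65, 67]) := by
  obtain ⟨k, hk, hc⟩ := e6_inv_conj_data ht ht2 ht1
  interval_cases k
  · exact Or.inr (Or.inl (hc.trans e6_fus_0))
  · exact Or.inr (Or.inr (hc.trans e6_fus_1))
  · exact Or.inr (Or.inr (hc.trans e6_fus_2))
  · exact Or.inr (Or.inr (hc.trans e6_fus_3))
  · exact Or.inl hc

end Cfsg.Agent.Helper7.Chev
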