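import Mathlib
import Cfsg.Agent.Helper7.ChevInvJ
import Cfsg.Agent.Helper7.E6ClsC

set_option autoImplicit false
set_option linter.unusedSectionVars false
set_option linter.unusedVariables false
set_option maxHeartbeats 1000000

/-!
Type `E₆`, characteristic two: the three representatives of the classes of involutions are pairwise not conjugate.
-/

namespace Cfsg.Agent.Helper7.Chev

open Cfsg Cfsg.Lie Matrix DoubleCoset
open scoped Pointwise

section tables

/-- The roots of height at least `8`. -/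
def e6Psi2 : List ℕ := [66, 68, 69, 70, 71]

/-- The roots of height at least `7`. -/
def e6Psi3 : List ℕ := [55, 65, 67, 66, 68, 69, 70, 71]

set_option maxRecDepth 1000000 in
theorem e6_ideal_fast : fastE6.IdealOK [71] [] [71] ∧ fastE6.IdealOK e6Psi2 [69, 70, 71] [68, 66] ∧
    fastE6.IdealOK e6Psi3 e6Psi2 [55, 65, 67] := by
  decide +kernel

theorem e6_ideal : (tabOf chevE6).IdealOK [71] [] [71] ∧ (tabOf chevE6).IdealOK e6Psi2 [69, 70, 71] [68, 66] ∧
    (tabOf chevE6).IdealOK e6Psi3 e6Psi2 [55, 65, 67] := tab_E6 ▸ e6_ideal_fast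

theorem e6_pair_fast : fastE6.pairing 55 65 = 0 ∧ fastE6.pairing 55 67 = 0 ∧ fastE6.pairing 65 67 = 0 ∧
    ∀ a ∈ e6Psi2, ∀ b ∈ e6Psi2, ∀ c ∈ e6Psi2,
      ¬ (fastE6.pairing a b = 0 ∧ fastE6.pairing a c = 0 ∧ fastE6.pairing b c = 0) := by
  decide +kernel

theorem e6_pair : (tabOf chevE6).pairing 55 65 = 0 ∧ (tabOf chevE6).pairing 55 67 = 0 ∧
    (tabOf chevE6).pairing 65 67 = 0 ∧
    ∀ a ∈ e6Psi2, ∀ b ∈ e6Psi2, ∀ c ∈ e6Psi2,
      ¬ ((tabOf chevE6).pairing a b = 0 ∧ (tabOf chevE6).pairing a c = 0 ∧ (tabOf chevE6).pairing b c = 0) :=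
  tab_E6 ▸ e6_pair_fast

end tables

variable {K : Type*} [Field K] [CharP K 2]

theorem e6_not_conj_21 (h : GConj chevE6 (uw1 ctxE6 K [68, 66]) (uw1 ctxE6 K [71])) : False := by
  obtain ⟨σ, hσ, hmap⟩ := conj_weyl_into (K := K) ctxE6 e6_ideal.1 e6_ideal.2.1 h
  have h1 := hmap 68 (by simp)
  have h2 := hmap 66 (by simp)
  rw [List.mem_singleton] at h1 h2
  have := reflWord_injective good3_E6.toGood2 hσ (r := 68) (s := 66) (by decide) (by decide) (h1.trans h2.symm)
  omega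

theorem e6_not_conj_31 (h : GConj chevE6 (uw1 ctxE6 K [55, 65, 67]) (uw1 ctxE6 K [71])) : False := by
  obtain ⟨σ, hσ, hmap⟩ := conj_weyl_into (K := K) ctxE6 e6_ideal.1 e6_ideal.2.2 h
  have h1 := hmap 55 (by simp)
  have h2 := hmap 65 (by simp)
  rw [List.mem_singleton] at h1 h2
  have := reflWord_injective good3_E6.toGood2 hσ (r := 55) (s := 65) (by decide) (by decide) (h1.trans h2.symm)
  omega

theorem e6_not_conj_32 (h : GConj chevE6 (uw1 ctxE6 K [55, 65, 67]) (uw1 ctxE6 K [68, 66])) : False := by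
  obtain ⟨σ, hσ, hmap⟩ := conj_weyl_into (K := K) ctxE6 e6_ideal.2.1 e6_ideal.2.2 h
  have h1 := hmap 55 (by simp)
  have h2 := hmap 65 (by simp)
  have h3 := hmap 67 (by simp)
  obtain ⟨p1, p2, p3, hno⟩ := e6_pair
  have hG := good3_E6.toGood2
  apply hno _ h1 _ h2 _ h3
  refine ⟨?_, ?_, ?_⟩
  · rw [pairing_reflWord hG hσ (by decide) (by decide)]; exact p1
  · rw [pairing_reflWord hG hσ (by decide) (by decide)]; exact p2
  · rw [pairing_reflWord hG hσ (by decide) (by decide)]; exact p3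

end Cfsg.Agent.Helper7.Chev
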