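import Mathlib
import Cfsg.Agent.Helper7.E6ClsD

set_option autoImplicit false
set_option linter.unusedSectionVars false
set_option linter.unusedVariables false
set_option maxHeartbeats 1000000

/-!
Type `E₆`, characteristic two: the three classes of involutions, in the form of the statement.
-/

namespace Cfsg.Agent.Helper7.Chev

open Cfsg Cfsg.Lie Matrix DoubleCoset
open scoped Pointwise

variable {K : Type*} [Field K] [CharP K 2]

theorem e6_rep1_coe : ((uw1 ctxE6 K [71] : GL chevE6.Idx K) : Matrix chevE6.Idx chevE6.Idx K) =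
    chevE6.x K 71 1 := by
  unfold uw1 uw
  simp only [List.map_cons, List.map_nil, List.prod_cons, List.prod_nil, mul_one, ux_coe]

theorem e6_rep2_coe : ((uw1 ctxE6 K [68, 66] : GL chevE6.Idx K) : Matrix chevE6.Idx chevE6.Idx K) =
    chevE6.x K 68 1 * chevE6.x K 66 1 := by
  unfold uw1 uw
  simp only [List.map_cons, List.map_nil, List.prod_cons, List.prod_nil, mul_one, Units.val_mul, ux_coe]

theorem e6_rep3_coe : ((uw1 ctxE6 K [55, 65, 67] : GL chevE6.Idx K) : Matrix chevE6.Idx chevE6.Idx K) =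
    chevE6.x K 55 1 * chevE6.x K 65 1 * chevE6.x K 67 1 := by
  unfold uw1 uw
  simp only [List.map_cons, List.map_nil, List.prod_cons, List.prod_nil, mul_one, Units.val_mul, ux_coe,
    mul_assoc]

/-- The invertible matrices equal to one of the three products. -/
theorem e6_rep_cases {y : GL chevE6.Idx K}
    (hy : (y : Matrix chevE6.Idx chevE6.Idx K) ∈ [chevE6.x K 71 1, chevE6.x K 68 1 * chevE6.x K 66 1,
      chevE6.x K 55 1 * chevE6.x K 65 1 * chevE6.x K 67 1]) :
    y = uw1 ctxE6 K [71] ∨ y = uw1 ctxE6 K [68, 66] ∨ y = uw1 ctxE6 K [55, 65, 67] := by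
  simp only [List.mem_cons, List.not_mem_nil, or_false] at hy
  rcases hy with h | h | h
  · exact Or.inl (Units.ext (by rw [h, e6_rep1_coe]))
  · exact Or.inr (Or.inl (Units.ext (by rw [h, e6_rep2_coe])))
  · exact Or.inr (Or.inr (Units.ext (by rw [h, e6_rep3_coe])))

/-- A product of root elements `x_r(1)` over roots as in the table facts is an involution. -/
theorem uw1_order_two {Ψ Ψ' R : List ℕ} (hI : (tabOf chevE6).IdealOK Ψ Ψ' R) (hR : R ≠ []) :
    orderOf (uw1 ctxE6 K R) = 2 := by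
  have hI' := hI
  obtain ⟨hΨpos, hΨcomm, hsub, hRm, hcl, hnd⟩ := hI
  haveI : Fact (Nat.Prime 2) := ⟨Nat.prime_two⟩
  apply orderOf_eq_prime
  · rw [pow_two]
    unfold uw1
    apply uw_sq_of_comm
    rw [List.pairwise_map]
    apply List.Pairwise.imp_of_mem (R := fun _ _ => True)
    · intro a b ha hb _
      exact hΨcomm a (hRm a ha).1 b (hRm b hb).1
    · exact List.pairwise_of_forall (fun _ _ => trivial)
  · intro h1
    obtain ⟨t, et, ht0, ht1⟩ := borel_conj_form (K := K) ctxE6 hI' (one_mem _)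
    rw [one_mul, inv_one, mul_one, h1, ← ow_zero ctxE6] at et
    obtain ⟨r, hr⟩ := List.exists_mem_of_ne_nil R hR
    have hrpos : r ∈ posL chevE6 := mem_posL.mpr (hΨpos r (hRm r hr).1)
    have := ow_inj ctxE6 et hrpos
    exact ht1 r hr this.symm

variable [Fintype K]

/-- The classes of involutions of the Chevalley group of type `E₆` in characteristic two. -/
theorem e6_involution_classes :
    (∀ y : GL chevE6.Idx K, (y : Matrix chevE6.Idx chevE6.Idx K) ∈
      [chevE6.x K 71 1, chevE6.x K 68 1 * chevE6.x K 66 1,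
        chevE6.x K 55 1 * chevE6.x K 65 1 * chevE6.x K 67 1] → y ∈ chevE6.group K ∧ orderOf y = 2) ∧
    (∀ g ∈ chevE6.group K, orderOf g = 2 → ∃ y ∈ chevE6.group K,
      (y : Matrix chevE6.Idx chevE6.Idx K) ∈ [chevE6.x K 71 1, chevE6.x K 68 1 * chevE6.x K 66 1,
        chevE6.x K 55 1 * chevE6.x K 65 1 * chevE6.x K 67 1] ∧ ∃ h ∈ chevE6.group K, h * g * h⁻¹ = y) ∧
    (∀ y₁ ∈ chevE6.group K, ∀ y₂ ∈ chevE6.group K,
      (y₁ : Matrix chevE6.Idx chevE6.Idx K) ∈ [chevE6.x K 71 1, chevE6.x K 68 1 * chevE6.x K 66 1,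
        chevE6.x K 55 1 * chevE6.x K 65 1 * chevE6.x K 67 1] →
      (y₂ : Matrix chevE6.Idx chevE6.Idx K) ∈ [chevE6.x K 71 1, chevE6.x K 68 1 * chevE6.x K 66 1,
        chevE6.x K 55 1 * chevE6.x K 65 1 * chevE6.x K 67 1] →
      (∃ h ∈ chevE6.group K, h * y₁ * h⁻¹ = y₂) →
        (y₁ : Matrix chevE6.Idx chevE6.Idx K) = (y₂ : Matrix chevE6.Idx chevE6.Idx K)) := by
  refine ⟨?_, ?_, ?_⟩
  · intro y hy
    rcases e6_rep_cases hy with rfl | rfl | rfl
    · exact ⟨uw1_mem_group ctxE6 _, uw1_order_two e6_ideal.1 (by simp)⟩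
    · exact ⟨uw1_mem_group ctxE6 _, uw1_order_two e6_ideal.2.1 (by simp)⟩
    · exact ⟨uw1_mem_group ctxE6 _, uw1_order_two e6_ideal.2.2 (by simp)⟩
  · intro g hg hg2
    have hgg : g * g = 1 := by
      rw [← pow_two, ← hg2]
      exact pow_orderOf_eq_one g
    have hg1 : g ≠ 1 := by
      intro h
      rw [h, orderOf_one] at hg2
      omega
    rcases e6_inv_conj_rep hg hgg hg1 with h | h | h
    · exact ⟨_, uw1_mem_group ctxE6 _, by rw [e6_rep1_coe]; simp, h⟩
    · exact ⟨_, uw1_mem_group ctxE6 _, by rw [e6_rep2_coe]; simp, h⟩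
    · exact ⟨_, uw1_mem_group ctxE6 _, by rw [e6_rep3_coe]; simp, h⟩
  · intro y₁ _ y₂ _ h1 h2 hc
    have hc' : GConj chevE6 y₁ y₂ := hc
    rcases e6_rep_cases h1 with rfl | rfl | rfl <;> rcases e6_rep_cases h2 with rfl | rfl | rfl
    · rfl
    · exact (e6_not_conj_21 hc'.symm).elim
    · exact (e6_not_conj_31 hc'.symm).elim
    · exact (e6_not_conj_21 hc').elim
    · rfl
    · exact (e6_not_conj_32 hc'.symm).elim
    · exact (e6_not_conj_31 hc').elim
    · exact (e6_not_conj_32 hc').elim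
    · rfl

end Cfsg.Agent.Helper7.Chev
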