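import Mathlib
import Cfsg.Agent.Helper7.E7ClsB

set_option autoImplicit false
set_option linter.unusedSectionVars false
set_option linter.unusedVariables false
set_option maxHeartbeats 1000000
set_option maxRecDepth 1000000

/-!
Type `E7`, characteristic two: the fusion of the products of root elements attached to the special involutions of the
Weyl group into the classes of the representatives, by paths of conjugations (generated tables).
-/

namespace Cfsg.Agent.Helper7.Chev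

open Cfsg Cfsg.Lie Matrix DoubleCoset
open scoped Pointwise

/-- The representatives of the classes of involutions. -/
def e7Reps : List (List ℕ) := [[125], [118, 121], [114, 116, 119], [92, 107, 111], [92, 107, 111, 112]]

/-- Paths of conjugations from the lists of roots of special involutions to representatives. -/
def e7Paths_0 : List (List ℕ × List ((ℕ ⊕ List ℕ) × List ℕ)) :=
  [([125],
    []),
   ([125, 92],
    [(Sum.inr [1, 3, 2, 0], [118, 121])]),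
   ([125, 92, 63],
    [(Sum.inr [2, 3, 0, 2, 1, 3, 4, 5, 1, 3, 2, 0], [92, 107, 111])]),
   ([125, 92, 87, 78],
    [(Sum.inr [6, 3, 0, 2, 1, 3, 4, 5, 4, 0, 2, 3, 2, 0], [92, 107, 111, 112])]),
   ([125, 92, 87, 78, 63],
    [(Sum.inr [], [63, 78, 87, 92, 125]),
     (Sum.inl 98, [63, 78, 87, 92, 102, 116, 120, 125]),
     (Sum.inl 78, [63, 78, 87, 92, 102, 116, 125]),
     (Sum.inl 101, [63, 78, 87, 92, 116, 119, 120]),
     (Sum.inl 115, [63, 78, 87, 92]),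
     (Sum.inr [6, 4, 2, 3, 0, 2, 1, 3, 4, 5, 4, 0, 2, 3, 2, 0], [92, 107, 111, 112])]),
   ([125, 90, 89, 78, 68],
    [(Sum.inr [], [68, 78, 89, 90, 125]),
     (Sum.inl 98, [68, 78, 89, 90, 102, 118, 122, 125]),
     (Sum.inl 78, [68, 78, 89, 90, 102, 118, 125]),
     (Sum.inl 99, [68, 78, 89, 90, 118, 119, 122]),
     (Sum.inl 115, [68, 78, 89, 90]),
     (Sum.inr [6, 4, 5, 3, 2, 1, 3, 4, 0, 2, 1, 3, 2, 0], [92, 107, 111, 112])]),
   ([125, 92, 87, 78, 66],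
    [(Sum.inr [], [66, 78, 87, 92, 125]),
     (Sum.inl 96, [66, 78, 87, 92, 100, 118, 122, 125]),
     (Sum.inl 78, [66, 78, 87, 92, 100, 118, 125]),
     (Sum.inl 99, [66, 78, 87, 92, 118, 121, 122]),
     (Sum.inl 117, [66, 78, 87, 92]),
     (Sum.inr [4, 5, 6, 3, 2, 1, 3, 4, 5, 4, 0, 2, 1, 3, 2, 0], [92, 107, 111, 112])]),
   ([125, 92, 87, 78, 66, 63],
    [(Sum.inr [], [63, 66, 78, 87, 92, 125]),
     (Sum.inl 65, [63, 66, 68, 78, 87, 89, 92, 125]),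
     (Sum.inl 66, [63, 66, 68, 78, 87, 89, 91, 92, 125]),
     (Sum.inl 67, [63, 66, 78, 87, 89, 90, 91, 125]),
     (Sum.inl 88, [63, 66, 78, 87, 125]),
     (Sum.inl 98, [63, 66, 78, 87, 102, 116, 120, 125]),
     (Sum.inl 78, [63, 66, 78, 87, 102, 116, 125]),
     (Sum.inl 101, [63, 66, 78, 87, 116, 119, 120]),
     (Sum.inl 115, [63, 66, 78, 87]),
     (Sum.inr [4, 5, 6, 5, 4, 2, 3, 0, 2, 1, 3, 4, 5, 0, 2, 3, 2, 0], [92, 107, 111, 112])]),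
   ([125, 92, 87],
    [(Sum.inr [1, 3, 4, 5, 1, 3, 2, 0], [114, 116, 119])]),
   ([125, 92, 87, 63],
    [(Sum.inr [2, 3, 0, 2, 1, 3, 4, 5, 0, 2, 1, 3, 2, 0], [92, 107, 111, 112])])]

theorem e7_paths_fast_0 : ∀ e ∈ e7Paths_0, fastE7.PathOK e7ReflCode 400 e.1 e.2 ∧
    Tab.pathEnd e.1 e.2 ∈ e7Reps := by
  decide +kernel

/-- Paths of conjugations from the lists of roots of special involutions to representatives. -/
def e7Paths_1 : List (List ℕ × List ((ℕ ⊕ List ℕ) × List ℕ)) :=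
  [([125, 90, 89, 68],
    [(Sum.inr [3, 0, 2, 1, 3, 4, 0, 2, 1, 3, 2, 0], [92, 107, 111, 112])]),
   ([125, 92, 87, 66],
    [(Sum.inr [6, 3, 0, 2, 1, 3, 4, 5, 0, 2, 1, 3, 2, 0], [92, 107, 111, 112])]),
   ([125, 92, 87, 66, 63],
    [(Sum.inr [], [63, 66, 87, 92, 125]),
     (Sum.inl 65, [63, 66, 68, 87, 89, 92, 125]),
     (Sum.inl 66, [63, 66, 68, 87, 89, 91, 92, 125]),
     (Sum.inl 67, [63, 66, 87, 89, 90, 91, 125]),
     (Sum.inl 88, [63, 66, 87, 125]),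
     (Sum.inr [6, 4, 2, 3, 0, 2, 1, 3, 4, 5, 0, 2, 1, 3, 2, 0], [92, 107, 111, 112])]),
   ([125, 90, 83, 82, 77],
    [(Sum.inr [], [77, 82, 83, 90, 125]),
     (Sum.inl 98, [77, 82, 83, 90, 111, 118, 124, 125]),
     (Sum.inl 83, [77, 82, 83, 90, 111, 118, 125]),
     (Sum.inl 99, [77, 82, 83, 90, 118, 119, 124]),
     (Sum.inl 106, [77, 82, 83, 90]),
     (Sum.inr [6, 4, 5, 3, 2, 1, 3, 4, 1, 3, 2, 0], [92, 107, 111, 112])]),
   ([125, 92, 83, 80, 75],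
    [(Sum.inr [], [75, 80, 83, 92, 125]),
     (Sum.inl 96, [75, 80, 83, 92, 109, 118, 124, 125]),
     (Sum.inl 83, [75, 80, 83, 92, 109, 118, 125]),
     (Sum.inl 99, [75, 80, 83, 92, 118, 121, 124]),
     (Sum.inl 108, [75, 80, 83, 92]),
     (Sum.inr [4, 5, 6, 3, 2, 1, 3, 4, 5, 4, 1, 3, 2, 0], [92, 107, 111, 112])]),
   ([125, 92, 83, 80, 75, 63],
    [(Sum.inr [], [63, 75, 80, 83, 92, 125]),
     (Sum.inl 65, [63, 75, 77, 80, 82, 83, 92, 125]),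
     (Sum.inl 75, [63, 75, 77, 80, 82, 83, 91, 92, 125]),
     (Sum.inl 76, [63, 75, 80, 82, 83, 90, 91, 125]),
     (Sum.inl 81, [63, 75, 80, 83, 125]),
     (Sum.inl 98, [63, 75, 80, 83, 107, 111, 120, 125]),
     (Sum.inl 80, [63, 75, 80, 83, 107, 111, 125]),
     (Sum.inl 106, [63, 75, 80, 83, 111, 119, 120]),
     (Sum.inl 110, [63, 75, 80, 83]),
     (Sum.inr [4, 5, 6, 5, 4, 2, 3, 0, 2, 1, 3, 4, 5, 3, 2, 0], [92, 107, 111, 112])]),
   ([125, 92, 87, 78, 73],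
    [(Sum.inr [], [73, 78, 87, 92, 125]),
     (Sum.inl 94, [73, 78, 87, 92, 109, 114, 124, 125]),
     (Sum.inl 87, [73, 78, 87, 92, 109, 114, 125]),
     (Sum.inl 103, [73, 78, 87, 92, 114, 123, 124]),
     (Sum.inl 108, [73, 78, 87, 92]),
     (Sum.inr [4, 5, 6, 3, 2, 1, 3, 4, 5, 1, 3, 4, 2, 3, 2, 0], [92, 107, 111, 112])]),
   ([125, 92, 87, 78, 73, 63],
    [(Sum.inr [], [63, 73, 78, 87, 92, 125]),
     (Sum.inl 72, [63, 73, 77, 78, 82, 87, 92, 125]),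
     (Sum.inl 73, [63, 73, 77, 78, 82, 86, 87, 92, 125]),
     (Sum.inl 76, [63, 73, 78, 82, 85, 86, 87, 125]),
     (Sum.inl 81, [63, 73, 78, 87, 125]),
     (Sum.inl 98, [63, 73, 78, 87, 102, 116, 120, 125]),
     (Sum.inl 78, [63, 73, 78, 87, 102, 116, 125]),
     (Sum.inl 101, [63, 73, 78, 87, 116, 119, 120]),
     (Sum.inl 115, [63, 73, 78, 87]),
     (Sum.inr [4, 5, 6, 5, 4, 2, 3, 0, 2, 1, 3, 4, 5, 3, 4, 2, 3, 0], [92, 107, 111, 112])]),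
   ([125, 90, 89, 78, 73, 68],
    [(Sum.inr [], [68, 73, 78, 89, 90, 125]),
     (Sum.inl 72, [68, 73, 77, 78, 82, 89, 90, 125]),
     (Sum.inl 73, [68, 73, 77, 78, 82, 86, 89, 90, 125]),
     (Sum.inl 74, [68, 73, 78, 82, 83, 86, 90, 125]),
     (Sum.inl 79, [68, 73, 78, 90, 125]),
     (Sum.inl 98, [68, 73, 78, 90, 102, 118, 122, 125]),
     (Sum.inl 78, [68, 73, 78, 90, 102, 118, 125]),
     (Sum.inl 99, [68, 73, 78, 90, 118, 119, 122]),
     (Sum.inl 115, [68, 73, 78, 90]),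
     (Sum.inr [4, 5, 6, 2, 3, 4, 5, 1, 3, 4, 3, 0, 2, 1, 3, 0], [92, 107, 111, 112])]),
   ([125, 92, 87, 78, 73, 66],
    [(Sum.inr [], [66, 73, 78, 87, 92, 125]),
     (Sum.inl 70, [66, 73, 75, 78, 80, 87, 92, 125]),
     (Sum.inl 73, [66, 73, 75, 78, 80, 84, 87, 92, 125]),
     (Sum.inl 74, [66, 73, 78, 80, 83, 84, 92, 125]),
     (Sum.inl 79, [66, 73, 78, 92, 125]),
     (Sum.inl 96, [66, 73, 78, 92, 100, 118, 122, 125]),
     (Sum.inl 78, [66, 73, 78, 92, 100, 118, 125]),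
     (Sum.inl 99, [66, 73, 78, 92, 118, 121, 122]),
     (Sum.inl 117, [66, 73, 78, 92]),
     (Sum.inr [4, 5, 6, 3, 2, 1, 3, 4, 5, 1, 3, 4, 3, 0, 2, 1, 3, 0], [92, 107, 111, 112])])]

theorem e7_paths_fast_1 : ∀ e ∈ e7Paths_1, fastE7.PathOK e7ReflCode 400 e.1 e.2 ∧
    Tab.pathEnd e.1 e.2 ∈ e7Reps := by
  decide +kernel

/-- Paths of conjugations from the lists of roots of special involutions to representatives. -/
def e7Paths_2 : List (List ℕ × List ((ℕ ⊕ List ℕ) × List ℕ)) :=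
  [([125, 92, 87, 78, 73, 66, 63],
    [(Sum.inr [], [63, 66, 73, 78, 87, 92, 125]),
     (Sum.inl 105, [63, 66, 73, 78, 87, 92, 107, 111, 113, 125]),
     (Sum.inl 66, [63, 66, 73, 78, 87, 92, 107, 111, 125]),
     (Sum.inl 106, [63, 66, 73, 78, 87, 92, 111, 112, 113]),
     (Sum.inl 110, [63, 66, 73, 78, 87, 92]),
     (Sum.inl 65, [63, 66, 68, 73, 78, 87, 89, 92]),
     (Sum.inl 66, [63, 66, 68, 73, 78, 87, 89, 91, 92]),
     (Sum.inl 67, [63, 66, 73, 78, 87, 89, 90, 91]),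
     (Sum.inl 88, [63, 66, 73, 78, 87]),
     (Sum.inl 70, [63, 66, 73, 75, 78, 80, 87]),
     (Sum.inl 73, [63, 66, 73, 75, 78, 80, 84, 87]),
     (Sum.inl 74, [63, 66, 73, 78, 80, 83, 84]),
     (Sum.inl 79, [63, 66, 73, 78]),
     (Sum.inr [4, 5, 6, 5, 4, 2, 3, 0, 2, 1, 3, 4, 5, 3, 4, 0, 2, 1, 3, 0], [92, 107, 111, 112])]),
   ([125, 92, 87, 73],
    [(Sum.inr [], [73, 87, 92, 125]),
     (Sum.inl 94, [73, 87, 92, 109, 114, 124, 125]),
     (Sum.inl 87, [73, 87, 92, 109, 114, 125]),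
     (Sum.inl 103, [73, 87, 92, 114, 123, 124]),
     (Sum.inl 108, [73, 87, 92]),
     (Sum.inr [2, 3, 4, 5, 6, 5, 4, 3, 2, 1, 3, 4, 5, 2, 3, 4, 3, 2, 1, 3, 2, 0], [114, 116, 119])]),
   ([125, 92, 87, 73, 63],
    [(Sum.inr [], [63, 73, 87, 92, 125]),
     (Sum.inl 94, [63, 73, 87, 92, 109, 114, 124, 125]),
     (Sum.inl 87, [63, 73, 87, 92, 109, 114, 125]),
     (Sum.inl 103, [63, 73, 87, 92, 114, 123, 124]),
     (Sum.inl 108, [63, 73, 87, 92]),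
     (Sum.inr [6, 5, 4, 3, 2, 1, 3, 4, 5, 4, 3, 2, 1, 3, 2, 0], [92, 107, 111, 112])]),
   ([125, 90, 89, 73, 68],
    [(Sum.inr [], [68, 73, 89, 90, 125]),
     (Sum.inl 94, [68, 73, 89, 90, 111, 112, 124, 125]),
     (Sum.inl 89, [68, 73, 89, 90, 111, 112, 125]),
     (Sum.inl 105, [68, 73, 89, 90, 112, 123, 124]),
     (Sum.inl 106, [68, 73, 89, 90]),
     (Sum.inr [6, 4, 5, 3, 2, 1, 3, 4, 3, 2, 1, 3, 2, 0], [92, 107, 111, 112])]),
   ([125, 92, 87, 73, 66],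
    [(Sum.inr [], [66, 73, 87, 92, 125]),
     (Sum.inl 94, [66, 73, 87, 92, 109, 114, 124, 125]),
     (Sum.inl 87, [66, 73, 87, 92, 109, 114, 125]),
     (Sum.inl 103, [66, 73, 87, 92, 114, 123, 124]),
     (Sum.inl 108, [66, 73, 87, 92]),
     (Sum.inr [4, 5, 6, 3, 2, 1, 3, 4, 5, 4, 3, 2, 1, 3, 2, 0], [92, 107, 111, 112])]),
   ([125, 92, 87, 73, 66, 63],
    [(Sum.inr [], [63, 66, 73, 87, 92, 125]),
     (Sum.inl 105, [63, 66, 73, 87, 92, 107, 111, 113, 125]),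
     (Sum.inl 66, [63, 66, 73, 87, 92, 107, 111, 125]),
     (Sum.inl 106, [63, 66, 73, 87, 92, 111, 112, 113]),
     (Sum.inl 110, [63, 66, 73, 87, 92]),
     (Sum.inl 65, [63, 66, 68, 73, 87, 89, 92]),
     (Sum.inl 66, [63, 66, 68, 73, 87, 89, 91, 92]),
     (Sum.inl 67, [63, 66, 73, 87, 89, 90, 91]),
     (Sum.inl 88, [63, 66, 73, 87]),
     (Sum.inr [4, 5, 6, 5, 4, 2, 3, 0, 2, 1, 3, 4, 5, 3, 2, 1, 3, 0], [92, 107, 111, 112])]),
   ([119, 118, 111, 82],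
    [(Sum.inr [3, 0, 2, 1, 3, 4, 0, 2], [92, 107, 111, 112])]),
   ([121, 118, 109, 80],
    [(Sum.inr [6, 3, 0, 2, 1, 3, 4, 5, 0, 2], [92, 107, 111, 112])]),
   ([121, 118, 109, 80, 63],
    [(Sum.inr [], [63, 80, 109, 118, 121]),
     (Sum.inl 65, [63, 80, 82, 109, 111, 118, 121]),
     (Sum.inl 80, [63, 80, 82, 109, 111, 118, 120, 121]),
     (Sum.inl 81, [63, 80, 109, 111, 118, 119, 120]),
     (Sum.inl 110, [63, 80, 109, 118]),
     (Sum.inr [6, 4, 2, 3, 0, 2, 1, 3, 4, 5, 0, 2], [92, 107, 111, 112])]),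
   ([123, 114, 109, 78],
    [(Sum.inr [6, 3, 0, 2, 1, 3, 4, 5, 4, 0, 2, 3], [92, 107, 111, 112])])]

theorem e7_paths_fast_2 : ∀ e ∈ e7Paths_2, fastE7.PathOK e7ReflCode 400 e.1 e.2 ∧
    Tab.pathEnd e.1 e.2 ∈ e7Reps := by
  decide +kernel

/-- Paths of conjugations from the lists of roots of special involutions to representatives. -/
def e7Paths_3 : List (List ℕ × List ((ℕ ⊕ List ℕ) × List ℕ)) :=
  [([123, 114, 109, 78, 63],
    [(Sum.inr [], [63, 78, 109, 114, 123]),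
     (Sum.inl 72, [63, 78, 82, 109, 114, 116, 123]),
     (Sum.inl 78, [63, 78, 82, 109, 114, 116, 120, 123]),
     (Sum.inl 81, [63, 78, 109, 114, 116, 119, 120]),
     (Sum.inl 115, [63, 78, 109, 114]),
     (Sum.inr [6, 4, 2, 3, 0, 2, 1, 3, 4, 5, 4, 0, 2, 3], [92, 107, 111, 112])]),
   ([123, 112, 111, 78, 68],
    [(Sum.inr [], [68, 78, 111, 112, 123]),
     (Sum.inl 72, [68, 78, 82, 111, 112, 118, 123]),
     (Sum.inl 78, [68, 78, 82, 111, 112, 118, 122, 123]),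
     (Sum.inl 79, [68, 78, 111, 112, 118, 119, 122]),
     (Sum.inl 115, [68, 78, 111, 112]),
     (Sum.inr [6, 4, 5, 3, 2, 1, 3, 4, 0, 2, 1, 3], [92, 107, 111, 112])]),
   ([123, 114, 109, 78, 66],
    [(Sum.inr [], [66, 78, 109, 114, 123]),
     (Sum.inl 70, [66, 78, 80, 109, 114, 118, 123]),
     (Sum.inl 78, [66, 78, 80, 109, 114, 118, 122, 123]),
     (Sum.inl 79, [66, 78, 109, 114, 118, 121, 122]),
     (Sum.inl 117, [66, 78, 109, 114]),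
     (Sum.inr [4, 5, 6, 3, 2, 1, 3, 4, 5, 4, 0, 2, 1, 3], [92, 107, 111, 112])]),
   ([123, 114, 109, 78, 66, 63],
    [(Sum.inr [], [63, 66, 78, 109, 114, 123]),
     (Sum.inl 65, [63, 66, 68, 78, 109, 111, 114, 123]),
     (Sum.inl 66, [63, 66, 68, 78, 109, 111, 113, 114, 123]),
     (Sum.inl 67, [63, 66, 78, 109, 111, 112, 113, 123]),
     (Sum.inl 110, [63, 66, 78, 109, 123]),
     (Sum.inl 72, [63, 66, 78, 82, 109, 116, 123]),
     (Sum.inl 78, [63, 66, 78, 82, 109, 116, 120, 123]),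
     (Sum.inl 81, [63, 66, 78, 109, 116, 119, 120]),
     (Sum.inl 115, [63, 66, 78, 109]),
     (Sum.inr [4, 5, 6, 5, 4, 2, 3, 0, 2, 1, 3, 4, 5, 0, 2, 3], [92, 107, 111, 112])]),
   ([123, 114, 109],
    [(Sum.inr [1, 3, 4, 5, 1, 3], [114, 116, 119])]),
   ([123, 114, 109, 63],
    [(Sum.inr [2, 3, 0, 2, 1, 3, 4, 5, 0, 2, 1, 3], [92, 107, 111, 112])]),
   ([123, 112, 111, 68],
    [(Sum.inr [3, 0, 2, 1, 3, 4, 0, 2, 1, 3], [92, 107, 111, 112])]),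
   ([123, 114, 109, 66],
    [(Sum.inr [6, 3, 0, 2, 1, 3, 4, 5, 0, 2, 1, 3], [92, 107, 111, 112])]),
   ([123, 114, 109, 66, 63],
    [(Sum.inr [], [63, 66, 109, 114, 123]),
     (Sum.inl 65, [63, 66, 68, 109, 111, 114, 123]),
     (Sum.inl 66, [63, 66, 68, 109, 111, 113, 114, 123]),
     (Sum.inl 67, [63, 66, 109, 111, 112, 113, 123]),
     (Sum.inl 110, [63, 66, 109, 123]),
     (Sum.inr [6, 4, 2, 3, 0, 2, 1, 3, 4, 5, 0, 2, 1, 3], [92, 107, 111, 112])])]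

theorem e7_paths_fast_3 : ∀ e ∈ e7Paths_3, fastE7.PathOK e7ReflCode 400 e.1 e.2 ∧
    Tab.pathEnd e.1 e.2 ∈ e7Reps := by
  decide +kernel

/-- All the paths. -/
def e7Paths : List (List ℕ × List ((ℕ ⊕ List ℕ) × List ℕ)) :=
  e7Paths_0 ++ e7Paths_1 ++ e7Paths_2 ++ e7Paths_3

theorem e7_paths_fast : ∀ e ∈ e7Paths, fastE7.PathOK e7ReflCode 400 e.1 e.2 ∧
    Tab.pathEnd e.1 e.2 ∈ e7Reps := by
  intro e he
  unfold e7Paths at he
  simp only [List.mem_append] at he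
  rcases he with (((he | he) | he) | he)
  · exact e7_paths_fast_0 e he
  · exact e7_paths_fast_1 e he
  · exact e7_paths_fast_2 e he
  · exact e7_paths_fast_3 e he

theorem e7_paths_ok : ∀ e ∈ e7Paths, (tabOf chevE7).PathOK e7ReflCode 400 e.1 e.2 ∧
    Tab.pathEnd e.1 e.2 ∈ e7Reps := tab_E7 ▸ e7_paths_fast

theorem e7_spec_path : ∀ e ∈ e7Spec, e.2.2 ≠ [] → ∃ p ∈ e7Paths, p.1 = e.2.2 := by decide +kernel

variable {K : Type*} [Field K] [CharP K 2]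

/-- Every involution is conjugate to one of the representatives. -/
theorem e7_inv_conj_rep [Fintype K] {t : GL chevE7.Idx K} (ht : t ∈ chevE7.group K) (ht2 : t * t = 1)
    (ht1 : t ≠ 1) : ∃ R ∈ e7Reps, GConj chevE7 t (uw1 ctxE7 K R) := by
  obtain ⟨e, he, hne, hc⟩ := e7_inv_conj_roots ht ht2 ht1
  obtain ⟨p, hp, ep⟩ := e7_spec_path e he hne
  obtain ⟨hpath, hend⟩ := e7_paths_ok p hp
  refine ⟨_, hend, hc.trans ?_⟩
  rw [← ep]
  exact gconj_of_pathOK ctxE7 e7_refl_code p.2 p.1 hpath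

end Cfsg.Agent.Helper7.Chev
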