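import Mathlib
import Cfsg.Agent.Helper7.ChevInvN
import Cfsg.Agent.Helper7.E7ClsC

set_option autoImplicit false
set_option linter.unusedSectionVars false
set_option linter.unusedVariables false
set_option maxHeartbeats 1000000

/-!
Type `E₇`, characteristic two: the five representatives of the classes of involutions are pairwise not conjugate.
-/

namespace Cfsg.Agent.Helper7.Chev

open Cfsg Cfsg.Lie Matrix DoubleCoset
open scoped Pointwise

section tables

/-- The roots of height at least `13`. -/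
def e7Psi2 : List ℕ := [118, 121, 122, 123, 124, 125]

/-- The roots of height at least `11`. -/
def e7Psi3 : List ℕ := [114, 116, 117, 118, 119, 120, 121, 122, 123, 124, 125]

/-- The roots above one of the roots `92`, `107`, `111`. -/
def e7Psi4 : List ℕ := [92, 107, 108, 111, 113, 114, 116, 117, 118, 120, 121, 122, 123, 124, 125]

/-- The roots of height at least `9`. -/
def e7Psi5 : List ℕ := [92, 107, 108, 111, 112, 113, 114, 115, 116, 117, 118, 119, 120, 121, 122, 123, 124, 125]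

set_option maxRecDepth 1000000 in
theorem e7_ideal_fast : fastE7.IdealOK [125] [] [125] ∧
    fastE7.IdealOK e7Psi2 [122, 123, 124, 125] [118, 121] ∧
    fastE7.IdealOK e7Psi3 [117, 118, 120, 121, 122, 123, 124, 125] [114, 116, 119] ∧
    fastE7.IdealOK e7Psi4 [108, 113, 114, 116, 117, 118, 120, 121, 122, 123, 124, 125] [92, 107, 111] ∧
    fastE7.IdealOK e7Psi5 [108, 113, 114, 115, 116, 117, 118, 119, 120, 121, 122, 123, 124, 125]
      [92, 107, 111, 112] := by
  decide +kernel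

theorem e7_ideal : (tabOf chevE7).IdealOK [125] [] [125] ∧
    (tabOf chevE7).IdealOK e7Psi2 [122, 123, 124, 125] [118, 121] ∧
    (tabOf chevE7).IdealOK e7Psi3 [117, 118, 120, 121, 122, 123, 124, 125] [114, 116, 119] ∧
    (tabOf chevE7).IdealOK e7Psi4 [108, 113, 114, 116, 117, 118, 120, 121, 122, 123, 124, 125] [92, 107, 111] ∧
    (tabOf chevE7).IdealOK e7Psi5 [108, 113, 114, 115, 116, 117, 118, 119, 120, 121, 122, 123, 124, 125]
      [92, 107, 111, 112] := tab_E7 ▸ e7_ideal_fast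

/-- Orthogonality of the roots of the representatives. -/
theorem e7_orth_fast : fastE7.pairing 114 116 = 0 ∧ fastE7.pairing 114 119 = 0 ∧ fastE7.pairing 116 119 = 0 ∧
    fastE7.pairing 92 107 = 0 ∧ fastE7.pairing 92 111 = 0 ∧ fastE7.pairing 107 111 = 0 ∧
    fastE7.pairing 92 112 = 0 ∧ fastE7.pairing 107 112 = 0 ∧ fastE7.pairing 111 112 = 0 := by
  decide +kernel

theorem e7_orth : (tabOf chevE7).pairing 114 116 = 0 ∧ (tabOf chevE7).pairing 114 119 = 0 ∧
    (tabOf chevE7).pairing 116 119 = 0 ∧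
    (tabOf chevE7).pairing 92 107 = 0 ∧ (tabOf chevE7).pairing 92 111 = 0 ∧ (tabOf chevE7).pairing 107 111 = 0 ∧
    (tabOf chevE7).pairing 92 112 = 0 ∧ (tabOf chevE7).pairing 107 112 = 0 ∧
    (tabOf chevE7).pairing 111 112 = 0 := tab_E7 ▸ e7_orth_fast

/-- There are no three pairwise orthogonal roots of height at least `13`. -/
theorem e7_no3_fast : ∀ a ∈ e7Psi2, ∀ b ∈ e7Psi2, fastE7.pairing a b = 0 → ∀ c ∈ e7Psi2,
    ¬ (fastE7.pairing a c = 0 ∧ fastE7.pairing b c = 0) := by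
  decide +kernel

theorem e7_no3 : ∀ a ∈ e7Psi2, ∀ b ∈ e7Psi2, (tabOf chevE7).pairing a b = 0 → ∀ c ∈ e7Psi2,
    ¬ ((tabOf chevE7).pairing a c = 0 ∧ (tabOf chevE7).pairing b c = 0) := tab_E7 ▸ e7_no3_fast

/-- Three pairwise orthogonal roots of height at least `11` have pairing `1` with the root `124`. -/
theorem e7_triple_fast : ∀ a ∈ e7Psi3, ∀ b ∈ e7Psi3, fastE7.pairing a b = 0 → ∀ c ∈ e7Psi3,
    fastE7.pairing a c = 0 → fastE7.pairing b c = 0 →
    fastE7.pairing 124 a = 1 ∧ fastE7.pairing 124 b = 1 ∧ fastE7.pairing 124 c = 1 := by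
  decide +kernel

theorem e7_triple : ∀ a ∈ e7Psi3, ∀ b ∈ e7Psi3, (tabOf chevE7).pairing a b = 0 → ∀ c ∈ e7Psi3,
    (tabOf chevE7).pairing a c = 0 → (tabOf chevE7).pairing b c = 0 →
    (tabOf chevE7).pairing 124 a = 1 ∧ (tabOf chevE7).pairing 124 b = 1 ∧ (tabOf chevE7).pairing 124 c = 1 :=
  tab_E7 ▸ e7_triple_fast

/-- No root has pairing `1` with the three roots `92`, `107`, `111`. -/
theorem e7_noplane_fast : ∀ m < 126, ¬ (fastE7.pairing m 92 = 1 ∧ fastE7.pairing m 107 = 1 ∧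
    fastE7.pairing m 111 = 1) := by
  decide +kernel

theorem e7_noplane : ∀ m < 126, ¬ ((tabOf chevE7).pairing m 92 = 1 ∧ (tabOf chevE7).pairing m 107 = 1 ∧
    (tabOf chevE7).pairing m 111 = 1) := tab_E7 ▸ e7_noplane_fast

/-- There are no four pairwise orthogonal roots above one of the roots `92`, `107`, `111`. -/
theorem e7_no4_fast : ∀ a ∈ e7Psi4, ∀ b ∈ e7Psi4, fastE7.pairing a b = 0 → ∀ c ∈ e7Psi4,
    fastE7.pairing a c = 0 → fastE7.pairing b c = 0 → ∀ d ∈ e7Psi4,
    ¬ (fastE7.pairing a d = 0 ∧ fastE7.pairing b d = 0 ∧ fastE7.pairing c d = 0) := by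
  decide +kernel

theorem e7_no4 : ∀ a ∈ e7Psi4, ∀ b ∈ e7Psi4, (tabOf chevE7).pairing a b = 0 → ∀ c ∈ e7Psi4,
    (tabOf chevE7).pairing a c = 0 → (tabOf chevE7).pairing b c = 0 → ∀ d ∈ e7Psi4,
    ¬ ((tabOf chevE7).pairing a d = 0 ∧ (tabOf chevE7).pairing b d = 0 ∧ (tabOf chevE7).pairing c d = 0) :=
  tab_E7 ▸ e7_no4_fast

end tables

variable {K : Type*} [Field K] [CharP K 2]

/-- Two different roots are not both mapped to the highest root. -/
theorem e7_not_into_1 {Ψb Ψb' Rb : List ℕ} (hB : (tabOf chevE7).IdealOK Ψb Ψb' Rb) {r s : ℕ} (hr : r ∈ Rb)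
    (hs : s ∈ Rb) (hrs : r ≠ s) (h : GConj chevE7 (uw1 ctxE7 K Rb) (uw1 ctxE7 K [125])) : False := by
  obtain ⟨σ, hσ, hmap⟩ := conj_weyl_into (K := K) ctxE7 e7_ideal.1 hB h
  have h1 := hmap r hr
  have h2 := hmap s hs
  rw [List.mem_singleton] at h1 h2
  have hrn : r < chevE7.nroots := (hB.1 r (hB.2.2.2.1 r hr).1).2
  have hsn : s < chevE7.nroots := (hB.1 s (hB.2.2.2.1 s hs).1).2
  exact hrs (reflWord_injective good3_E7.toGood2 hσ hrn hsn (h1.trans h2.symm))

/-- Three pairwise orthogonal roots are not mapped to roots of height at least `13`. -/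
theorem e7_not_into_2 {Ψb Ψb' Rb : List ℕ} (hB : (tabOf chevE7).IdealOK Ψb Ψb' Rb) {r s t : ℕ} (hr : r ∈ Rb)
    (hs : s ∈ Rb) (ht : t ∈ Rb) (hrs : (tabOf chevE7).pairing r s = 0) (hrt : (tabOf chevE7).pairing r t = 0)
    (hst : (tabOf chevE7).pairing s t = 0)
    (h : GConj chevE7 (uw1 ctxE7 K Rb) (uw1 ctxE7 K [118, 121])) : False := by
  obtain ⟨σ, hσ, hmap⟩ := conj_weyl_into (K := K) ctxE7 e7_ideal.2.1 hB h
  have hG := good3_E7.toGood2
  have hrn : r < chevE7.nroots := (hB.1 r (hB.2.2.2.1 r hr).1).2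
  have hsn : s < chevE7.nroots := (hB.1 s (hB.2.2.2.1 s hs).1).2
  have htn : t < chevE7.nroots := (hB.1 t (hB.2.2.2.1 t ht).1).2
  have hab : (tabOf chevE7).pairing ((tabOf chevE7).reflWord σ r) ((tabOf chevE7).reflWord σ s) = 0 := by
    rw [pairing_reflWord hG hσ hrn hsn]; exact hrs
  have hac : (tabOf chevE7).pairing ((tabOf chevE7).reflWord σ r) ((tabOf chevE7).reflWord σ t) = 0 := by
    rw [pairing_reflWord hG hσ hrn htn]; exact hrt
  have hbc : (tabOf chevE7).pairing ((tabOf chevE7).reflWord σ s) ((tabOf chevE7).reflWord σ t) = 0 := by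
    rw [pairing_reflWord hG hσ hsn htn]; exact hst
  exact e7_no3 _ (hmap r hr) _ (hmap s hs) hab _ (hmap t ht) ⟨hac, hbc⟩

/-- The three roots `92`, `107`, `111` are not mapped to roots of height at least `11`. -/
theorem e7_not_into_3 {Ψb Ψb' Rb : List ℕ} (hB : (tabOf chevE7).IdealOK Ψb Ψb' Rb) (hr : 92 ∈ Rb)
    (hs : 107 ∈ Rb) (ht : 111 ∈ Rb)
    (h : GConj chevE7 (uw1 ctxE7 K Rb) (uw1 ctxE7 K [114, 116, 119])) : False := by
  obtain ⟨σ, hσ, hmap⟩ := conj_weyl_into (K := K) ctxE7 e7_ideal.2.2.1 hB h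
  have hG := good3_E7.toGood2
  obtain ⟨-, -, -, p1, p2, p3, -, -, -⟩ := e7_orth
  have h92 : (92 : ℕ) < chevE7.nroots := by decide
  have h107 : (107 : ℕ) < chevE7.nroots := by decide
  have h111 : (111 : ℕ) < chevE7.nroots := by decide
  have h124 : (124 : ℕ) < chevE7.nroots := by decide
  have key := e7_triple _ (hmap 92 hr) _ (hmap 107 hs)
    (by rw [pairing_reflWord hG hσ h92 h107]; exact p1) _ (hmap 111 ht)
    (by rw [pairing_reflWord hG hσ h92 h111]; exact p2)
    (by rw [pairing_reflWord hG hσ h107 h111]; exact p3)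
  have hσr : ∀ i ∈ σ.reverse, i < chevE7.rank := fun i hi => hσ i (List.mem_reverse.mp hi)
  have hm : (tabOf chevE7).reflWord σ.reverse 124 < chevE7.nroots := reflWord_lt hG hσr h124
  have hcancel := reflWord_reverse_cancel hG hσ h124
  have tr : ∀ r < chevE7.nroots, (tabOf chevE7).pairing ((tabOf chevE7).reflWord σ.reverse 124) r =
      (tabOf chevE7).pairing 124 ((tabOf chevE7).reflWord σ r) := by
    intro r hr
    rw [← pairing_reflWord hG hσ hm hr, hcancel]
  apply e7_noplane _ hm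
  rw [tr 92 h92, tr 107 h107, tr 111 h111]
  exact key

/-- Four pairwise orthogonal roots are not mapped to roots above one of the roots `92`, `107`, `111`. -/
theorem e7_not_54 (h : GConj chevE7 (uw1 ctxE7 K [92, 107, 111, 112]) (uw1 ctxE7 K [92, 107, 111])) :
    False := by
  obtain ⟨σ, hσ, hmap⟩ := conj_weyl_into (K := K) ctxE7 e7_ideal.2.2.2.1 e7_ideal.2.2.2.2 h
  have hG := good3_E7.toGood2
  obtain ⟨-, -, -, p1, p2, p3, p4, p5, p6⟩ := e7_orth
  have h92 : (92 : ℕ) < chevE7.nroots := by decide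
  have h107 : (107 : ℕ) < chevE7.nroots := by decide
  have h111 : (111 : ℕ) < chevE7.nroots := by decide
  have h112 : (112 : ℕ) < chevE7.nroots := by decide
  refine e7_no4 _ (hmap 92 (by simp)) _ (hmap 107 (by simp))
    (by rw [pairing_reflWord hG hσ h92 h107]; exact p1) _ (hmap 111 (by simp))
    (by rw [pairing_reflWord hG hσ h92 h111]; exact p2)
    (by rw [pairing_reflWord hG hσ h107 h111]; exact p3) _ (hmap 112 (by simp)) ⟨?_, ?_, ?_⟩
  · rw [pairing_reflWord hG hσ h92 h112]; exact p4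
  · rw [pairing_reflWord hG hσ h107 h112]; exact p5
  · rw [pairing_reflWord hG hσ h111 h112]; exact p6

/-- The five representatives are pairwise not conjugate. -/
theorem e7_reps_pairwise : e7Reps.Pairwise fun R R' =>
    ¬ GConj chevE7 (uw1 ctxE7 K R) (uw1 ctxE7 K R') := by
  obtain ⟨i1, i2, i3, i4, i5⟩ := e7_ideal
  obtain ⟨q1, q2, q3, p1, p2, p3, p4, p5, p6⟩ := e7_orth
  unfold e7Reps
  simp only [List.pairwise_cons, List.mem_cons, List.not_mem_nil, or_false, forall_eq_or_imp, forall_eq,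
    List.Pairwise.nil, and_true, IsEmpty.forall_iff, implies_true]
  refine ⟨⟨?_, ?_, ?_, ?_⟩, ⟨?_, ?_, ?_⟩, ⟨?_, ?_⟩, ?_⟩
  · exact fun h => e7_not_into_1 i2 (r := 118) (s := 121) (by simp) (by simp) (by decide) h.symm
  · exact fun h => e7_not_into_1 i3 (r := 114) (s := 116) (by simp) (by simp) (by decide) h.symm
  · exact fun h => e7_not_into_1 i4 (r := 92) (s := 107) (by simp) (by simp) (by decide) h.symm
  · exact fun h => e7_not_into_1 i5 (r := 92) (s := 107) (by simp) (by simp) (by decide) h.symm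
  · exact fun h => e7_not_into_2 i3 (r := 114) (s := 116) (t := 119) (by simp) (by simp) (by simp) q1 q2 q3 h.symm
  · exact fun h => e7_not_into_2 i4 (r := 92) (s := 107) (t := 111) (by simp) (by simp) (by simp) p1 p2 p3 h.symm
  · exact fun h => e7_not_into_2 i5 (r := 92) (s := 107) (t := 111) (by simp) (by simp) (by simp) p1 p2 p3 h.symm
  · exact fun h => e7_not_into_3 i4 (by simp) (by simp) (by simp) h.symm
  · exact fun h => e7_not_into_3 i5 (by simp) (by simp) (by simp) h.symm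
  · exact fun h => e7_not_54 h.symm

end Cfsg.Agent.Helper7.Chev
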