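import Mathlib
import Cfsg.Agent.Helper7.E7ClsD

set_option autoImplicit false
set_option linter.unusedSectionVars false
set_option linter.unusedVariables false
set_option maxHeartbeats 1000000

/-!
Type `E₇`, characteristic two: the five classes of involutions.
-/

namespace Cfsg.Agent.Helper7.Chev

open Cfsg Cfsg.Lie Matrix DoubleCoset
open scoped Pointwise

variable {K : Type*} [Field K] [CharP K 2] [Fintype K]

/-- The Chevalley group of type `E₇` over a finite field of characteristic two has five classes of involutions. -/
theorem e7_involution_class_count :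
    (ConjClasses.mk '' {g : ↥(chevE7.group K) | orderOf g = 2}).ncard = 5 := by
  have h := involution_class_count (K := K) ctxE7 e7Reps ?_ ?_ e7_reps_pairwise
  · rw [h]
    rfl
  · intro R hR
    obtain ⟨i1, i2, i3, i4, i5⟩ := e7_ideal
    unfold e7Reps at hR
    simp only [List.mem_cons, List.not_mem_nil, or_false] at hR
    rcases hR with rfl | rfl | rfl | rfl | rfl
    · exact uw1_order_two_of_ideal ctxE7 i1 (by simp)
    · exact uw1_order_two_of_ideal ctxE7 i2 (by simp)
    · exact uw1_order_two_of_ideal ctxE7 i3 (by simp)
    · exact uw1_order_two_of_ideal ctxE7 i4 (by simp)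
    · exact uw1_order_two_of_ideal ctxE7 i5 (by simp)
  · intro t ht ht2 ht1
    exact e7_inv_conj_rep ht ht2 ht1

end Cfsg.Agent.Helper7.Chev
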