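import Mathlib
import Cfsg.Agent.Helper7.E8ClsA
import Cfsg.Agent.Helper7.E8ClsS0
import Cfsg.Agent.Helper7.E8ClsS1

set_option autoImplicit false
set_option linter.unusedSectionVars false
set_option linter.unusedVariables false
set_option maxHeartbeats 1000000
set_option maxRecDepth 1000000

/-!
Type `E8`, characteristic two: every involution of the group is conjugate to the product of the root elements `x_r(1)`
over the list of pairwise orthogonal roots of one of the special involutions of the Weyl group.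
-/

namespace Cfsg.Agent.Helper7.Chev

open Cfsg Cfsg.Lie Matrix DoubleCoset
open scoped Pointwise

/-- All the special involutions. -/
def e8SD : List (List ℕ × ℕ × List (List ℕ × ℕ) × List ℕ) :=
  e8SD_0 ++ e8SD_1 ++ e8SD_2 ++ e8SD_3 ++ e8SD_4 ++ e8SD_5 ++ e8SD_6 ++ e8SD_7

theorem e8_spec_fast : ∀ e ∈ e8SD, fastE8.SpecOK2 e8ReflCode e8SumCode e.1 e.2.1 := by
  intro e he
  unfold e8SD at he
  simp only [List.mem_append] at he
  rcases he with (((((((he | he) | he) | he) | he) | he) | he) | he)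
  · exact e8_spec_fast_0 e he
  · exact e8_spec_fast_1 e he
  · exact e8_spec_fast_2 e he
  · exact e8_spec_fast_3 e he
  · exact e8_spec_fast_4 e he
  · exact e8_spec_fast_5 e he
  · exact e8_spec_fast_6 e he
  · exact e8_spec_fast_7 e he

theorem e8_data_fast : ∀ e ∈ e8SD, fastE8.DataOK2 e8ReflCode e.1 e.2.2.1 ∧
    e.2.2.1.map fastE8.dP = e.2.2.2 := by
  intro e he
  unfold e8SD at he
  simp only [List.mem_append] at he
  rcases he with (((((((he | he) | he) | he) | he) | he) | he) | he)
  · exact e8_data_fast_0 e he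
  · exact e8_data_fast_1 e he
  · exact e8_data_fast_2 e he
  · exact e8_data_fast_3 e he
  · exact e8_data_fast_4 e he
  · exact e8_data_fast_5 e he
  · exact e8_data_fast_6 e he
  · exact e8_data_fast_7 e he

theorem e8_spec_ok2 : ∀ e ∈ e8SD, (tabOf chevE8).SpecOK2 e8ReflCode e8SumCode e.1 e.2.1 := tab_E8 ▸ e8_spec_fast

theorem e8_data_ok2 : ∀ e ∈ e8SD, (tabOf chevE8).DataOK2 e8ReflCode e.1 e.2.2.1 ∧
    e.2.2.1.map (tabOf chevE8).dP = e.2.2.2 := tab_E8 ▸ e8_data_fast

/-- The special involutions: word, decomposition into reflections, roots. -/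
def e8Spec : List (List ℕ × List (List ℕ × ℕ) × List ℕ) := e8SD.map fun e => (e.1, e.2.2.1, e.2.2.2)

theorem e8_tup_spec : ∀ e ∈ e8Tup, ∃ s ∈ e8Spec, s.1 = e.2 := by decide +kernel

variable {K : Type*} [Field K] [CharP K 2]

/-- Every involution is conjugate to the product of the root elements `x_r(1)` over the roots of one of the special
involutions of the Weyl group. -/
theorem e8_inv_conj_roots [Fintype K] {t : GL chevE8.Idx K} (ht : t ∈ chevE8.group K) (ht2 : t * t = 1)
    (ht1 : t ≠ 1) : ∃ e ∈ e8Spec, e.2.2 ≠ [] ∧ GConj chevE8 t (uw1 ctxE8 K e.2.2) := by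
  have hG := good3_E8.toGood2
  apply inv_conj_roots ctxE8 e8Spec _ _ _ ht ht2 ht1
  · intro e he
    obtain ⟨s, hs, rfl⟩ := List.mem_map.mp he
    exact specOK_of_fast hG e8_refl_code e8_sum_code (e8_spec_ok2 s hs)
  · intro e he
    obtain ⟨s, hs, rfl⟩ := List.mem_map.mp he
    obtain ⟨h1, h2⟩ := e8_data_ok2 s hs
    exact ⟨dataOK_of_fast hG T0_E8 T6_E8 T8_E8 e8_refl_code h1, h2⟩
  · intro w hw hinv hspec
    obtain ⟨e, he, hs⟩ := e8_special_class hw hinv hspec
    obtain ⟨s, hs', es⟩ := e8_tup_spec e he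
    exact ⟨s, hs', es ▸ hs⟩

end Cfsg.Agent.Helper7.Chev
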