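import Mathlib
import Cfsg.Agent.Helper7.E8ClsB

set_option autoImplicit false
set_option linter.unusedSectionVars false
set_option linter.unusedVariables false
set_option maxHeartbeats 1000000
set_option maxRecDepth 1000000

/-!
Type `E8`, characteristic two: the fusion of the products of root elements attached to the special involutions of the
Weyl group into the classes of the representatives, by paths of conjugations (generated tables).
-/

namespace Cfsg.Agent.Helper7.Chev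

open Cfsg Cfsg.Lie Matrix DoubleCoset
open scoped Pointwise

/-- The representatives of the classes of involutions. -/
def e8Reps : List (List ℕ) := [[239], [232, 233], [228, 222, 218], [226, 220, 213, 216]]

/-- Paths of conjugations from the lists of roots of special involutions to representatives. -/
def e8Paths_0 : List (List ℕ × List ((ℕ ⊕ List ℕ) × List ℕ)) :=
  [([239, 226],
    [(Sum.inr [1, 3, 4, 5, 6, 7], [232, 233])]),
   ([239, 226, 159],
    [(Sum.inr [2, 3, 0, 2, 1, 3, 4, 5, 6, 7, 1, 3, 2, 0], [228, 222, 218])]),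
   ([237, 228, 161],
    [(Sum.inr [2, 3, 0, 2, 1, 3, 4, 5, 1, 3, 2, 0], [228, 222, 218])]),
   ([239, 226, 159, 121],
    [(Sum.inr [], [121, 159, 226, 239]),
     (Sum.inl 122, [121, 159, 161, 226, 228, 239]),
     (Sum.inl 159, [121, 159, 161, 226, 228, 238, 239]),
     (Sum.inl 160, [121, 159, 226, 228, 237, 238]),
     (Sum.inl 227, [121, 159, 226]),
     (Sum.inr [6, 5, 4, 3, 2, 1, 3, 4, 5, 6, 0, 2, 3, 4, 5, 1, 3, 4, 2, 3, 0, 2, 1, 3, 4, 5, 6, 7, 2, 3, 0, 2, 1, 3, 4, 5, 1, 3, 2, 0], [228, 222, 218])]),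
   ([239, 226, 159, 152, 141],
    [(Sum.inr [], [141, 152, 159, 226, 239]),
     (Sum.inl 173, [141, 152, 159, 206, 213, 225, 226, 239]),
     (Sum.inl 152, [141, 152, 159, 206, 213, 226, 239]),
     (Sum.inl 196, [141, 152, 159, 213, 224, 225, 226]),
     (Sum.inl 203, [141, 152, 159, 226]),
     (Sum.inr [1, 3, 4, 5, 6, 2, 3, 4, 5, 1, 3, 4, 2, 3, 0, 2, 1, 3, 4, 5, 6, 7, 6, 0, 2, 3, 4, 5, 4, 0, 2, 3, 2, 0], [226, 220, 213, 216])]),
   ([237, 228, 161, 152, 141],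
    [(Sum.inr [], [141, 152, 161, 228, 237]),
     (Sum.inl 171, [141, 152, 161, 204, 213, 225, 228, 237]),
     (Sum.inl 152, [141, 152, 161, 204, 213, 228, 237]),
     (Sum.inl 194, [141, 152, 161, 213, 224, 225, 228]),
     (Sum.inl 203, [141, 152, 161, 228]),
     (Sum.inr [1, 3, 4, 5, 6, 7, 5, 4, 3, 2, 1, 3, 4, 5, 6, 1, 3, 4, 2, 3, 0, 2, 1, 3, 4, 5, 4, 0, 2, 3, 2, 0], [226, 220, 213, 216])]),
   ([239, 226, 159, 152, 141, 121],
    [(Sum.inr [], [121, 141, 152, 159, 226, 239]),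
     (Sum.inl 167, [121, 141, 152, 159, 172, 195, 205, 226, 239]),
     (Sum.inl 141, [121, 141, 152, 159, 172, 195, 226, 239]),
     (Sum.inl 171, [121, 141, 152, 159, 195, 204, 205, 239]),
     (Sum.inl 194, [121, 141, 152, 159, 239]),
     (Sum.inl 173, [121, 141, 152, 159, 206, 213, 225, 239]),
     (Sum.inl 152, [121, 141, 152, 159, 206, 213, 239]),
     (Sum.inl 196, [121, 141, 152, 159, 213, 224, 225]),
     (Sum.inl 203, [121, 141, 152, 159]),
     (Sum.inr [1, 3, 4, 5, 6, 2, 3, 4, 5, 1, 3, 4, 2, 3, 0, 2, 1, 3, 4, 5, 6, 7, 6, 1, 3, 4, 2, 3, 0, 2, 1, 3, 4, 5, 4, 0, 2, 3, 2, 0], [226, 220, 213, 216])]),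
   ([235, 230, 161, 156, 141],
    [(Sum.inr [], [141, 156, 161, 230, 235]),
     (Sum.inl 169, [141, 156, 161, 204, 209, 225, 230, 235]),
     (Sum.inl 156, [141, 156, 161, 204, 209, 230, 235]),
     (Sum.inl 194, [141, 156, 161, 209, 224, 225, 230]),
     (Sum.inl 199, [141, 156, 161, 230]),
     (Sum.inr [1, 3, 4, 5, 6, 7, 5, 4, 3, 2, 1, 3, 4, 5, 6, 1, 3, 4, 5, 3, 2, 1, 3, 4, 0, 2, 1, 3, 2, 0], [226, 220, 213, 216])])]

theorem e8_paths_fast_0 : ∀ e ∈ e8Paths_0, fastE8.PathOK e8ReflCode 400 e.1 e.2 ∧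
    Tab.pathEnd e.1 e.2 ∈ e8Reps := by
  decide +kernel

/-- Paths of conjugations from the lists of roots of special involutions to representatives. -/
def e8Paths_1 : List (List ℕ × List ((ℕ ⊕ List ℕ) × List ℕ)) :=
  [([239, 226, 156, 154, 141, 128],
    [(Sum.inr [], [128, 141, 154, 156, 226, 239]),
     (Sum.inl 167, [128, 141, 154, 156, 172, 200, 210, 226, 239]),
     (Sum.inl 141, [128, 141, 154, 156, 172, 200, 226, 239]),
     (Sum.inl 169, [128, 141, 154, 156, 200, 204, 210, 239]),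
     (Sum.inl 194, [128, 141, 154, 156, 239]),
     (Sum.inl 173, [128, 141, 154, 156, 209, 211, 225, 239]),
     (Sum.inl 154, [128, 141, 154, 156, 209, 211, 239]),
     (Sum.inl 199, [128, 141, 154, 156, 211, 224, 225]),
     (Sum.inl 201, [128, 141, 154, 156]),
     (Sum.inr [1, 3, 4, 5, 6, 2, 3, 4, 5, 1, 3, 4, 2, 3, 0, 2, 1, 3, 4, 5, 6, 7, 6, 1, 3, 4, 5, 3, 2, 1, 3, 4, 0, 2, 1, 3, 2, 0], [226, 220, 213, 216])]),
   ([239, 226, 159, 152, 141, 126],
    [(Sum.inr [], [126, 141, 152, 159, 226, 239]),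
     (Sum.inl 165, [126, 141, 152, 159, 170, 200, 210, 226, 239]),
     (Sum.inl 141, [126, 141, 152, 159, 170, 200, 226, 239]),
     (Sum.inl 169, [126, 141, 152, 159, 200, 207, 210, 239]),
     (Sum.inl 197, [126, 141, 152, 159, 239]),
     (Sum.inl 173, [126, 141, 152, 159, 206, 213, 225, 239]),
     (Sum.inl 152, [126, 141, 152, 159, 206, 213, 239]),
     (Sum.inl 196, [126, 141, 152, 159, 213, 224, 225]),
     (Sum.inl 203, [126, 141, 152, 159]),
     (Sum.inr [1, 3, 4, 5, 6, 2, 3, 4, 5, 1, 3, 4, 2, 3, 0, 2, 1, 3, 4, 5, 6, 7, 1, 3, 4, 5, 6, 3, 2, 1, 3, 4, 5, 4, 0, 2, 1, 3, 2, 0], [226, 220, 213, 216])]),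
   ([237, 228, 161, 152, 141, 126],
    [(Sum.inr [], [126, 141, 152, 161, 228, 237]),
     (Sum.inl 165, [126, 141, 152, 161, 170, 202, 212, 228, 237]),
     (Sum.inl 141, [126, 141, 152, 161, 170, 202, 228, 237]),
     (Sum.inl 169, [126, 141, 152, 161, 202, 209, 212, 237]),
     (Sum.inl 199, [126, 141, 152, 161, 237]),
     (Sum.inl 171, [126, 141, 152, 161, 204, 213, 225, 237]),
     (Sum.inl 152, [126, 141, 152, 161, 204, 213, 237]),
     (Sum.inl 194, [126, 141, 152, 161, 213, 224, 225]),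
     (Sum.inl 203, [126, 141, 152, 161]),
     (Sum.inr [1, 3, 4, 2, 3, 0, 2, 1, 3, 4, 5, 6, 7, 4, 2, 3, 0, 2, 1, 3, 4, 5, 6, 4, 3, 0, 2, 1, 3, 4, 5, 4, 0, 2, 1, 3, 2, 0], [226, 220, 213, 216])]),
   ([239, 226, 159, 152, 141, 126, 121],
    [(Sum.inr [], [121, 126, 141, 152, 159, 226, 239]),
     (Sum.inl 199, [121, 126, 141, 152, 159, 202, 209, 212, 226, 239]),
     (Sum.inl 126, [121, 126, 141, 152, 159, 202, 209, 226, 239]),
     (Sum.inl 201, [121, 126, 141, 152, 159, 209, 211, 212, 226]),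
     (Sum.inl 208, [121, 126, 141, 152, 159, 226]),
     (Sum.inl 124, [121, 126, 128, 141, 152, 154, 159, 226]),
     (Sum.inl 126, [121, 126, 128, 141, 152, 154, 157, 159, 226]),
     (Sum.inl 127, [121, 126, 141, 152, 154, 156, 157, 226]),
     (Sum.inl 153, [121, 126, 141, 152, 226]),
     (Sum.inl 167, [121, 126, 141, 152, 172, 195, 205, 226]),
     (Sum.inl 141, [121, 126, 141, 152, 172, 195, 226]),
     (Sum.inl 171, [121, 126, 141, 152, 195, 204, 205]),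
     (Sum.inl 194, [121, 126, 141, 152]),
     (Sum.inr [1, 3, 4, 5, 6, 2, 3, 4, 5, 1, 3, 4, 2, 3, 0, 2, 1, 3, 4, 5, 6, 7, 1, 3, 4, 5, 6, 5, 4, 2, 3, 0, 2, 1, 3, 4, 5, 0, 2, 3, 2, 0], [226, 220, 213, 216])]),
   ([239, 226, 159, 152],
    [(Sum.inr [3, 4, 2, 3, 0, 2, 1, 3, 4, 5, 6, 7, 1, 3, 4, 5, 1, 3, 2, 0], [226, 220, 213, 216])]),
   ([237, 228, 161, 152],
    [(Sum.inr [0, 2, 3, 4, 5, 6, 2, 3, 0, 2, 1, 3, 4, 5, 1, 3, 2, 0], [226, 220, 213, 216])]),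
   ([239, 226, 159, 152, 121],
    [(Sum.inr [], [121, 152, 159, 226, 239]),
     (Sum.inl 122, [121, 152, 159, 161, 226, 228, 239]),
     (Sum.inl 159, [121, 152, 159, 161, 226, 228, 238, 239]),
     (Sum.inl 160, [121, 152, 159, 226, 228, 237, 238]),
     (Sum.inl 227, [121, 152, 159, 226]),
     (Sum.inr [1, 3, 4, 5, 6, 2, 3, 4, 5, 1, 3, 4, 2, 3, 0, 2, 1, 3, 4, 5, 6, 7, 2, 3, 0, 2, 1, 3, 4, 5, 1, 3, 2, 0], [226, 220, 213, 216])]),
   ([235, 230, 161, 156],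
    [(Sum.inr [0, 2, 3, 4, 5, 6, 0, 2, 3, 4, 0, 2, 1, 3, 2, 0], [226, 220, 213, 216])])]

theorem e8_paths_fast_1 : ∀ e ∈ e8Paths_1, fastE8.PathOK e8ReflCode 400 e.1 e.2 ∧
    Tab.pathEnd e.1 e.2 ∈ e8Reps := by
  decide +kernel

/-- Paths of conjugations from the lists of roots of special involutions to representatives. -/
def e8Paths_2 : List (List ℕ × List ((ℕ ⊕ List ℕ) × List ℕ)) :=
  [([239, 226, 156, 154, 128],
    [(Sum.inr [], [128, 154, 156, 226, 239]),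
     (Sum.inl 129, [128, 154, 156, 161, 226, 230, 239]),
     (Sum.inl 154, [128, 154, 156, 161, 226, 230, 238, 239]),
     (Sum.inl 155, [128, 154, 156, 226, 230, 235, 238]),
     (Sum.inl 227, [128, 154, 156, 226]),
     (Sum.inr [1, 3, 4, 5, 6, 2, 3, 4, 5, 1, 3, 4, 2, 3, 0, 2, 1, 3, 4, 5, 6, 7, 0, 2, 3, 4, 0, 2, 1, 3, 2, 0], [226, 220, 213, 216])]),
   ([239, 226, 159, 152, 126],
    [(Sum.inr [], [126, 152, 159, 226, 239]),
     (Sum.inl 129, [126, 152, 158, 159, 226, 230, 239]),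
     (Sum.inl 152, [126, 152, 158, 159, 226, 230, 236, 239]),
     (Sum.inl 155, [126, 152, 159, 226, 230, 235, 236]),
     (Sum.inl 229, [126, 152, 159, 226]),
     (Sum.inr [1, 3, 4, 5, 6, 2, 3, 4, 5, 1, 3, 4, 2, 3, 0, 2, 1, 3, 4, 5, 6, 7, 6, 0, 2, 3, 4, 5, 0, 2, 1, 3, 2, 0], [226, 220, 213, 216])]),
   ([237, 228, 161, 152, 126],
    [(Sum.inr [], [126, 152, 161, 228, 237]),
     (Sum.inl 127, [126, 152, 156, 161, 228, 230, 237]),
     (Sum.inl 152, [126, 152, 156, 161, 228, 230, 236, 237]),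
     (Sum.inl 153, [126, 152, 161, 228, 230, 235, 236]),
     (Sum.inl 229, [126, 152, 161, 228]),
     (Sum.inr [1, 3, 4, 5, 6, 7, 5, 4, 3, 2, 1, 3, 4, 5, 6, 1, 3, 4, 2, 3, 0, 2, 1, 3, 4, 5, 0, 2, 1, 3, 2, 0], [226, 220, 213, 216])]),
   ([239, 226, 159, 152, 126, 121],
    [(Sum.inr [], [121, 126, 152, 159, 226, 239]),
     (Sum.inl 124, [121, 126, 128, 152, 154, 159, 226, 239]),
     (Sum.inl 126, [121, 126, 128, 152, 154, 157, 159, 226, 239]),
     (Sum.inl 127, [121, 126, 152, 154, 156, 157, 226, 239]),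
     (Sum.inl 153, [121, 126, 152, 226, 239]),
     (Sum.inl 129, [121, 126, 152, 158, 226, 230, 239]),
     (Sum.inl 152, [121, 126, 152, 158, 226, 230, 236, 239]),
     (Sum.inl 155, [121, 126, 152, 226, 230, 235, 236]),
     (Sum.inl 229, [121, 126, 152, 226]),
     (Sum.inr [1, 3, 4, 5, 6, 2, 3, 4, 5, 1, 3, 4, 2, 3, 0, 2, 1, 3, 4, 5, 6, 7, 6, 1, 3, 4, 2, 3, 0, 2, 1, 3, 4, 5, 0, 2, 1, 3, 2, 0], [226, 220, 213, 216])]),
   ([233, 232, 161, 156, 147],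
    [(Sum.inr [], [147, 156, 161, 232, 233]),
     (Sum.inl 169, [147, 156, 161, 204, 209, 225, 232, 233]),
     (Sum.inl 156, [147, 156, 161, 204, 209, 232, 233]),
     (Sum.inl 178, [147, 156, 161, 209, 218, 225, 232]),
     (Sum.inl 183, [147, 156, 161, 232]),
     (Sum.inr [1, 3, 4, 5, 6, 7, 5, 4, 3, 2, 1, 3, 4, 5, 6, 1, 3, 4, 5, 3, 2, 1, 3, 4, 1, 3, 2, 0], [226, 220, 213, 216])]),
   ([239, 226, 156, 147, 145, 139],
    [(Sum.inr [], [139, 145, 147, 156, 226, 239]),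
     (Sum.inl 140, [139, 145, 147, 156, 161, 226, 232, 239]),
     (Sum.inl 145, [139, 145, 147, 156, 161, 226, 232, 238, 239]),
     (Sum.inl 146, [139, 145, 147, 156, 226, 232, 233, 238]),
     (Sum.inl 227, [139, 145, 147, 156, 226]),
     (Sum.inl 167, [139, 145, 147, 156, 186, 200, 219, 226]),
     (Sum.inl 147, [139, 145, 147, 156, 186, 200, 226]),
     (Sum.inl 169, [139, 145, 147, 156, 200, 204, 219]),
     (Sum.inl 178, [139, 145, 147, 156]),
     (Sum.inr [1, 3, 4, 5, 6, 2, 3, 4, 5, 1, 3, 4, 2, 3, 0, 2, 1, 3, 4, 5, 6, 7, 6, 1, 3, 4, 5, 3, 2, 1, 3, 4, 1, 3, 2, 0], [226, 220, 213, 216])]),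
   ([239, 226, 159, 147, 143, 137],
    [(Sum.inr [], [137, 143, 147, 159, 226, 239]),
     (Sum.inl 140, [137, 143, 147, 158, 159, 226, 232, 239]),
     (Sum.inl 143, [137, 143, 147, 158, 159, 226, 232, 236, 239]),
     (Sum.inl 146, [137, 143, 147, 159, 226, 232, 233, 236]),
     (Sum.inl 229, [137, 143, 147, 159, 226]),
     (Sum.inl 165, [137, 143, 147, 159, 184, 200, 219, 226]),
     (Sum.inl 147, [137, 143, 147, 159, 184, 200, 226]),
     (Sum.inl 169, [137, 143, 147, 159, 200, 207, 219]),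
     (Sum.inl 181, [137, 143, 147, 159]),
     (Sum.inr [1, 3, 4, 5, 6, 2, 3, 4, 5, 1, 3, 4, 2, 3, 0, 2, 1, 3, 4, 5, 6, 7, 1, 3, 4, 5, 6, 3, 2, 1, 3, 4, 5, 4, 1, 3, 2, 0], [226, 220, 213, 216])]),
   ([237, 228, 161, 147, 143, 137],
    [(Sum.inr [], [137, 143, 147, 161, 228, 237]),
     (Sum.inl 138, [137, 143, 147, 156, 161, 228, 232, 237]),
     (Sum.inl 143, [137, 143, 147, 156, 161, 228, 232, 236, 237]),
     (Sum.inl 144, [137, 143, 147, 161, 228, 232, 233, 236]),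
     (Sum.inl 229, [137, 143, 147, 161, 228]),
     (Sum.inl 165, [137, 143, 147, 161, 184, 202, 221, 228]),
     (Sum.inl 147, [137, 143, 147, 161, 184, 202, 228]),
     (Sum.inl 169, [137, 143, 147, 161, 202, 209, 221]),
     (Sum.inl 183, [137, 143, 147, 161]),
     (Sum.inr [1, 3, 4, 2, 3, 0, 2, 1, 3, 4, 5, 6, 7, 4, 2, 3, 0, 2, 1, 3, 4, 5, 6, 4, 3, 0, 2, 1, 3, 4, 5, 4, 1, 3, 2, 0], [226, 220, 213, 216])])]

theorem e8_paths_fast_2 : ∀ e ∈ e8Paths_2, fastE8.PathOK e8ReflCode 400 e.1 e.2 ∧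
    Tab.pathEnd e.1 e.2 ∈ e8Reps := by
  decide +kernel

/-- Paths of conjugations from the lists of roots of special involutions to representatives. -/
def e8Paths_3 : List (List ℕ × List ((ℕ ⊕ List ℕ) × List ℕ)) :=
  [([239, 226, 159, 147, 143, 137, 121],
    [(Sum.inr [], [121, 137, 143, 147, 159, 226, 239]),
     (Sum.inl 124, [121, 137, 139, 143, 145, 147, 159, 226, 239]),
     (Sum.inl 137, [121, 137, 139, 143, 145, 147, 157, 159, 226, 239]),
     (Sum.inl 138, [121, 137, 143, 145, 147, 156, 157, 226, 239]),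
     (Sum.inl 144, [121, 137, 143, 147, 226, 239]),
     (Sum.inl 183, [121, 137, 143, 147, 202, 209, 221, 226, 239]),
     (Sum.inl 137, [121, 137, 143, 147, 202, 209, 226, 239]),
     (Sum.inl 201, [121, 137, 143, 147, 209, 220, 221, 226]),
     (Sum.inl 208, [121, 137, 143, 147, 226]),
     (Sum.inl 167, [121, 137, 143, 147, 179, 186, 205, 226]),
     (Sum.inl 143, [121, 137, 143, 147, 179, 186, 226]),
     (Sum.inl 178, [121, 137, 143, 147, 186, 204, 205]),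
     (Sum.inl 185, [121, 137, 143, 147]),
     (Sum.inr [1, 3, 4, 5, 6, 2, 3, 4, 5, 1, 3, 4, 2, 3, 0, 2, 1, 3, 4, 5, 6, 7, 1, 3, 4, 5, 6, 5, 4, 2, 3, 0, 2, 1, 3, 4, 5, 3, 2, 0], [226, 220, 213, 216])]),
   ([239, 226, 159, 152, 141, 135],
    [(Sum.inr [], [135, 141, 152, 159, 226, 239]),
     (Sum.inl 140, [135, 141, 151, 152, 159, 226, 232, 239]),
     (Sum.inl 141, [135, 141, 151, 152, 159, 226, 232, 234, 239]),
     (Sum.inl 146, [135, 141, 152, 159, 226, 232, 233, 234]),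
     (Sum.inl 231, [135, 141, 152, 159, 226]),
     (Sum.inl 163, [135, 141, 152, 159, 184, 191, 219, 226]),
     (Sum.inl 152, [135, 141, 152, 159, 184, 191, 226]),
     (Sum.inl 174, [135, 141, 152, 159, 191, 214, 219]),
     (Sum.inl 181, [135, 141, 152, 159]),
     (Sum.inr [1, 3, 4, 5, 6, 2, 3, 4, 5, 1, 3, 4, 2, 3, 0, 2, 1, 3, 4, 5, 6, 7, 1, 3, 4, 5, 6, 3, 2, 1, 3, 4, 5, 1, 3, 4, 2, 3, 2, 0], [226, 220, 213, 216])]),
   ([237, 228, 161, 152, 141, 135],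
    [(Sum.inr [], [135, 141, 152, 161, 228, 237]),
     (Sum.inl 138, [135, 141, 149, 152, 161, 228, 232, 237]),
     (Sum.inl 141, [135, 141, 149, 152, 161, 228, 232, 234, 237]),
     (Sum.inl 144, [135, 141, 152, 161, 228, 232, 233, 234]),
     (Sum.inl 231, [135, 141, 152, 161, 228]),
     (Sum.inl 163, [135, 141, 152, 161, 184, 193, 221, 228]),
     (Sum.inl 152, [135, 141, 152, 161, 184, 193, 228]),
     (Sum.inl 174, [135, 141, 152, 161, 193, 216, 221]),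
     (Sum.inl 183, [135, 141, 152, 161]),
     (Sum.inr [1, 3, 4, 2, 3, 0, 2, 1, 3, 4, 5, 6, 7, 4, 2, 3, 0, 2, 1, 3, 4, 5, 6, 4, 3, 0, 2, 1, 3, 4, 5, 1, 3, 4, 2, 3, 2, 0], [226, 220, 213, 216])]),
   ([239, 226, 159, 152, 141, 135, 121],
    [(Sum.inr [], [121, 135, 141, 152, 159, 226, 239]),
     (Sum.inl 133, [121, 135, 139, 141, 145, 152, 159, 226, 239]),
     (Sum.inl 135, [121, 135, 139, 141, 145, 150, 152, 159, 226, 239]),
     (Sum.inl 138, [121, 135, 141, 145, 149, 150, 152, 226, 239]),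
     (Sum.inl 144, [121, 135, 141, 152, 226, 239]),
     (Sum.inl 183, [121, 135, 141, 152, 193, 216, 221, 226, 239]),
     (Sum.inl 135, [121, 135, 141, 152, 193, 216, 226, 239]),
     (Sum.inl 192, [121, 135, 141, 152, 216, 220, 221, 226]),
     (Sum.inl 215, [121, 135, 141, 152, 226]),
     (Sum.inl 167, [121, 135, 141, 152, 172, 195, 205, 226]),
     (Sum.inl 141, [121, 135, 141, 152, 172, 195, 226]),
     (Sum.inl 171, [121, 135, 141, 152, 195, 204, 205]),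
     (Sum.inl 194, [121, 135, 141, 152]),
     (Sum.inr [1, 3, 4, 5, 6, 2, 3, 4, 5, 1, 3, 4, 2, 3, 0, 2, 1, 3, 4, 5, 6, 7, 1, 3, 4, 5, 6, 5, 4, 2, 3, 0, 2, 1, 3, 4, 5, 3, 4, 2, 3, 0], [226, 220, 213, 216])]),
   ([235, 230, 161, 156, 141, 135],
    [(Sum.inr [], [135, 141, 156, 161, 230, 235]),
     (Sum.inl 136, [135, 141, 147, 156, 161, 230, 232, 235]),
     (Sum.inl 141, [135, 141, 147, 156, 161, 230, 232, 234, 235]),
     (Sum.inl 142, [135, 141, 156, 161, 230, 232, 233, 234]),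
     (Sum.inl 231, [135, 141, 156, 161, 230]),
     (Sum.inl 163, [135, 141, 156, 161, 188, 193, 223, 230]),
     (Sum.inl 156, [135, 141, 156, 161, 188, 193, 230]),
     (Sum.inl 178, [135, 141, 156, 161, 193, 218, 223]),
     (Sum.inl 183, [135, 141, 156, 161]),
     (Sum.inr [1, 3, 4, 2, 3, 0, 2, 1, 3, 4, 5, 6, 7, 4, 2, 3, 0, 2, 1, 3, 4, 5, 6, 0, 2, 3, 4, 5, 1, 3, 4, 2, 1, 3, 2, 0], [226, 220, 213, 216])]),
   ([239, 226, 156, 154, 141, 135, 128],
    [(Sum.inr [], [128, 135, 141, 154, 156, 226, 239]),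
     (Sum.inl 133, [128, 135, 139, 141, 145, 154, 156, 226, 239]),
     (Sum.inl 135, [128, 135, 139, 141, 145, 150, 154, 156, 226, 239]),
     (Sum.inl 136, [128, 135, 141, 145, 147, 150, 156, 226, 239]),
     (Sum.inl 142, [128, 135, 141, 156, 226, 239]),
     (Sum.inl 183, [128, 135, 141, 156, 193, 218, 223, 226, 239]),
     (Sum.inl 135, [128, 135, 141, 156, 193, 218, 226, 239]),
     (Sum.inl 187, [128, 135, 141, 156, 218, 220, 223, 226]),
     (Sum.inl 215, [128, 135, 141, 156, 226]),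
     (Sum.inl 167, [128, 135, 141, 156, 172, 200, 210, 226]),
     (Sum.inl 141, [128, 135, 141, 156, 172, 200, 226]),
     (Sum.inl 169, [128, 135, 141, 156, 200, 204, 210]),
     (Sum.inl 194, [128, 135, 141, 156]),
     (Sum.inr [1, 3, 4, 5, 6, 2, 3, 4, 5, 1, 3, 4, 2, 3, 0, 2, 1, 3, 4, 5, 6, 7, 1, 3, 4, 5, 6, 2, 3, 4, 5, 1, 3, 4, 3, 0, 2, 1, 3, 0], [226, 220, 213, 216])]),
   ([239, 226, 159, 152, 141, 135, 126],
    [(Sum.inr [], [126, 135, 141, 152, 159, 226, 239]),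
     (Sum.inl 131, [126, 135, 137, 141, 143, 152, 159, 226, 239]),
     (Sum.inl 135, [126, 135, 137, 141, 143, 148, 152, 159, 226, 239]),
     (Sum.inl 136, [126, 135, 141, 143, 147, 148, 159, 226, 239]),
     (Sum.inl 142, [126, 135, 141, 159, 226, 239]),
     (Sum.inl 180, [126, 135, 141, 159, 190, 218, 223, 226, 239]),
     (Sum.inl 135, [126, 135, 141, 159, 190, 218, 226, 239]),
     (Sum.inl 187, [126, 135, 141, 159, 218, 222, 223, 226]),
     (Sum.inl 217, [126, 135, 141, 159, 226]),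
     (Sum.inl 165, [126, 135, 141, 159, 170, 200, 210, 226]),
     (Sum.inl 141, [126, 135, 141, 159, 170, 200, 226]),
     (Sum.inl 169, [126, 135, 141, 159, 200, 207, 210]),
     (Sum.inl 197, [126, 135, 141, 159]),
     (Sum.inr [1, 3, 4, 5, 6, 2, 3, 4, 5, 1, 3, 4, 2, 3, 0, 2, 1, 3, 4, 5, 6, 7, 1, 3, 4, 5, 6, 3, 2, 1, 3, 4, 5, 1, 3, 4, 3, 0, 2, 1, 3, 0], [226, 220, 213, 216])]),
   ([237, 228, 161, 152, 141, 135, 126],
    [(Sum.inr [], [126, 135, 141, 152, 161, 228, 237]),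
     (Sum.inl 131, [126, 135, 137, 141, 143, 152, 161, 228, 237]),
     (Sum.inl 135, [126, 135, 137, 141, 143, 148, 152, 161, 228, 237]),
     (Sum.inl 136, [126, 135, 141, 143, 147, 148, 161, 228, 237]),
     (Sum.inl 142, [126, 135, 141, 161, 228, 237]),
     (Sum.inl 178, [126, 135, 141, 161, 188, 218, 223, 228, 237]),
     (Sum.inl 135, [126, 135, 141, 161, 188, 218, 228, 237]),
     (Sum.inl 185, [126, 135, 141, 161, 218, 222, 223, 228]),
     (Sum.inl 217, [126, 135, 141, 161, 228]),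
     (Sum.inl 165, [126, 135, 141, 161, 170, 202, 212, 228]),
     (Sum.inl 141, [126, 135, 141, 161, 170, 202, 228]),
     (Sum.inl 169, [126, 135, 141, 161, 202, 209, 212]),
     (Sum.inl 199, [126, 135, 141, 161]),
     (Sum.inr [1, 3, 4, 2, 3, 0, 2, 1, 3, 4, 5, 6, 7, 4, 2, 3, 0, 2, 1, 3, 4, 5, 6, 4, 3, 0, 2, 1, 3, 4, 5, 1, 3, 4, 3, 0, 2, 1, 3, 0], [226, 220, 213, 216])])]

theorem e8_paths_fast_3 : ∀ e ∈ e8Paths_3, fastE8.PathOK e8ReflCode 400 e.1 e.2 ∧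
    Tab.pathEnd e.1 e.2 ∈ e8Reps := by
  decide +kernel

/-- Paths of conjugations from the lists of roots of special involutions to representatives. -/
def e8Paths_4 : List (List ℕ × List ((ℕ ⊕ List ℕ) × List ℕ)) :=
  [([239, 226, 159, 152, 141, 135, 126, 121],
    [(Sum.inr [], [121, 126, 135, 141, 152, 159, 226, 239]),
     (Sum.inl 176, [121, 126, 135, 141, 152, 159, 179, 186, 189, 226, 239]),
     (Sum.inl 126, [121, 126, 135, 141, 152, 159, 179, 186, 226, 239]),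
     (Sum.inl 178, [121, 126, 135, 141, 152, 159, 186, 188, 189, 239]),
     (Sum.inl 185, [121, 126, 135, 141, 152, 159, 239]),
     (Sum.inl 199, [121, 126, 135, 141, 152, 159, 202, 209, 212, 239]),
     (Sum.inl 126, [121, 126, 135, 141, 152, 159, 202, 209, 239]),
     (Sum.inl 201, [121, 126, 135, 141, 152, 159, 209, 211, 212]),
     (Sum.inl 208, [121, 126, 135, 141, 152, 159]),
     (Sum.inl 124, [121, 126, 128, 135, 141, 152, 154, 159]),
     (Sum.inl 126, [121, 126, 128, 135, 141, 152, 154, 157, 159]),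
     (Sum.inl 127, [121, 126, 135, 141, 152, 154, 156, 157]),
     (Sum.inl 153, [121, 126, 135, 141, 152]),
     (Sum.inl 131, [121, 126, 135, 137, 141, 143, 152]),
     (Sum.inl 135, [121, 126, 135, 137, 141, 143, 148, 152]),
     (Sum.inl 136, [121, 126, 135, 141, 143, 147, 148]),
     (Sum.inl 142, [121, 126, 135, 141]),
     (Sum.inr [1, 3, 4, 5, 6, 2, 3, 4, 5, 1, 3, 4, 2, 3, 0, 2, 1, 3, 4, 5, 6, 7, 1, 3, 4, 5, 6, 5, 4, 2, 3, 0, 2, 1, 3, 4, 5, 3, 4, 0, 2, 1, 3, 0], [226, 220, 213, 216])]),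
   ([239, 226, 159, 152, 135],
    [(Sum.inr [], [135, 152, 159, 226, 239]),
     (Sum.inl 163, [135, 152, 159, 184, 191, 219, 226, 239]),
     (Sum.inl 152, [135, 152, 159, 184, 191, 226, 239]),
     (Sum.inl 174, [135, 152, 159, 191, 214, 219, 239]),
     (Sum.inl 181, [135, 152, 159, 239]),
     (Sum.inr [3, 4, 2, 3, 0, 2, 1, 3, 4, 5, 6, 7, 2, 3, 4, 5, 6, 5, 4, 3, 2, 1, 3, 4, 5, 2, 3, 4, 3, 2, 1, 3, 2, 0], [226, 220, 213, 216])]),
   ([237, 228, 161, 152, 135],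
    [(Sum.inr [], [135, 152, 161, 228, 237]),
     (Sum.inl 163, [135, 152, 161, 184, 193, 221, 228, 237]),
     (Sum.inl 152, [135, 152, 161, 184, 193, 228, 237]),
     (Sum.inl 174, [135, 152, 161, 193, 216, 221, 237]),
     (Sum.inl 183, [135, 152, 161, 237]),
     (Sum.inr [1, 3, 4, 5, 6, 7, 5, 4, 3, 2, 1, 3, 4, 5, 6, 5, 4, 3, 2, 1, 3, 4, 5, 2, 3, 4, 3, 2, 1, 3, 2, 0], [226, 220, 213, 216])]),
   ([239, 226, 159, 152, 135, 121],
    [(Sum.inr [], [121, 135, 152, 159, 226, 239]),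
     (Sum.inl 183, [121, 135, 152, 159, 193, 216, 221, 226, 239]),
     (Sum.inl 135, [121, 135, 152, 159, 193, 216, 226, 239]),
     (Sum.inl 192, [121, 135, 152, 159, 216, 220, 221, 226]),
     (Sum.inl 215, [121, 135, 152, 159, 226]),
     (Sum.inl 163, [121, 135, 152, 159, 184, 191, 219, 226]),
     (Sum.inl 152, [121, 135, 152, 159, 184, 191, 226]),
     (Sum.inl 174, [121, 135, 152, 159, 191, 214, 219]),
     (Sum.inl 181, [121, 135, 152, 159]),
     (Sum.inr [1, 3, 4, 5, 6, 2, 3, 4, 5, 1, 3, 4, 2, 3, 0, 2, 1, 3, 4, 5, 6, 7, 6, 5, 4, 3, 2, 1, 3, 4, 5, 2, 3, 4, 3, 2, 1, 3, 2, 0], [226, 220, 213, 216])]),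
   ([235, 230, 161, 156, 135],
    [(Sum.inr [], [135, 156, 161, 230, 235]),
     (Sum.inl 163, [135, 156, 161, 188, 193, 223, 230, 235]),
     (Sum.inl 156, [135, 156, 161, 188, 193, 230, 235]),
     (Sum.inl 178, [135, 156, 161, 193, 218, 223, 235]),
     (Sum.inl 183, [135, 156, 161, 235]),
     (Sum.inr [1, 3, 4, 5, 6, 7, 5, 4, 3, 2, 1, 3, 4, 5, 6, 1, 3, 4, 5, 3, 2, 1, 3, 4, 3, 2, 1, 3, 2, 0], [226, 220, 213, 216])]),
   ([239, 226, 156, 154, 135, 128],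
    [(Sum.inr [], [128, 135, 154, 156, 226, 239]),
     (Sum.inl 183, [128, 135, 154, 156, 193, 218, 223, 226, 239]),
     (Sum.inl 135, [128, 135, 154, 156, 193, 218, 226, 239]),
     (Sum.inl 187, [128, 135, 154, 156, 218, 220, 223, 226]),
     (Sum.inl 215, [128, 135, 154, 156, 226]),
     (Sum.inl 163, [128, 135, 154, 156, 186, 188, 219, 226]),
     (Sum.inl 154, [128, 135, 154, 156, 186, 188, 226]),
     (Sum.inl 176, [128, 135, 154, 156, 188, 214, 219]),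
     (Sum.inl 178, [128, 135, 154, 156]),
     (Sum.inr [1, 3, 4, 5, 6, 2, 3, 4, 5, 1, 3, 4, 2, 3, 0, 2, 1, 3, 4, 5, 6, 7, 6, 1, 3, 4, 5, 3, 2, 1, 3, 4, 3, 2, 1, 3, 2, 0], [226, 220, 213, 216])]),
   ([239, 226, 159, 152, 135, 126],
    [(Sum.inr [], [126, 135, 152, 159, 226, 239]),
     (Sum.inl 180, [126, 135, 152, 159, 190, 218, 223, 226, 239]),
     (Sum.inl 135, [126, 135, 152, 159, 190, 218, 226, 239]),
     (Sum.inl 187, [126, 135, 152, 159, 218, 222, 223, 226]),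
     (Sum.inl 217, [126, 135, 152, 159, 226]),
     (Sum.inl 163, [126, 135, 152, 159, 184, 191, 219, 226]),
     (Sum.inl 152, [126, 135, 152, 159, 184, 191, 226]),
     (Sum.inl 174, [126, 135, 152, 159, 191, 214, 219]),
     (Sum.inl 181, [126, 135, 152, 159]),
     (Sum.inr [1, 3, 4, 5, 6, 2, 3, 4, 5, 1, 3, 4, 2, 3, 0, 2, 1, 3, 4, 5, 6, 7, 1, 3, 4, 5, 6, 3, 2, 1, 3, 4, 5, 4, 3, 2, 1, 3, 2, 0], [226, 220, 213, 216])]),
   ([237, 228, 161, 152, 135, 126],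
    [(Sum.inr [], [126, 135, 152, 161, 228, 237]),
     (Sum.inl 178, [126, 135, 152, 161, 188, 218, 223, 228, 237]),
     (Sum.inl 135, [126, 135, 152, 161, 188, 218, 228, 237]),
     (Sum.inl 185, [126, 135, 152, 161, 218, 222, 223, 228]),
     (Sum.inl 217, [126, 135, 152, 161, 228]),
     (Sum.inl 163, [126, 135, 152, 161, 184, 193, 221, 228]),
     (Sum.inl 152, [126, 135, 152, 161, 184, 193, 228]),
     (Sum.inl 174, [126, 135, 152, 161, 193, 216, 221]),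
     (Sum.inl 183, [126, 135, 152, 161]),
     (Sum.inr [1, 3, 4, 2, 3, 0, 2, 1, 3, 4, 5, 6, 7, 4, 2, 3, 0, 2, 1, 3, 4, 5, 6, 4, 3, 0, 2, 1, 3, 4, 5, 4, 3, 2, 1, 3, 2, 0], [226, 220, 213, 216])])]

theorem e8_paths_fast_4 : ∀ e ∈ e8Paths_4, fastE8.PathOK e8ReflCode 400 e.1 e.2 ∧
    Tab.pathEnd e.1 e.2 ∈ e8Reps := by
  decide +kernel

/-- Paths of conjugations from the lists of roots of special involutions to representatives. -/
def e8Paths_5 : List (List ℕ × List ((ℕ ⊕ List ℕ) × List ℕ)) :=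
  [([239, 226, 159, 152, 135, 126, 121],
    [(Sum.inr [], [121, 126, 135, 152, 159, 226, 239]),
     (Sum.inl 176, [121, 126, 135, 152, 159, 179, 186, 189, 226, 239]),
     (Sum.inl 126, [121, 126, 135, 152, 159, 179, 186, 226, 239]),
     (Sum.inl 178, [121, 126, 135, 152, 159, 186, 188, 189, 239]),
     (Sum.inl 185, [121, 126, 135, 152, 159, 239]),
     (Sum.inl 124, [121, 126, 128, 135, 152, 154, 159, 239]),
     (Sum.inl 126, [121, 126, 128, 135, 152, 154, 157, 159, 239]),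
     (Sum.inl 127, [121, 126, 135, 152, 154, 156, 157, 239]),
     (Sum.inl 153, [121, 126, 135, 152, 239]),
     (Sum.inl 183, [121, 126, 135, 152, 193, 216, 221, 239]),
     (Sum.inl 135, [121, 126, 135, 152, 193, 216, 239]),
     (Sum.inl 192, [121, 126, 135, 152, 216, 220, 221]),
     (Sum.inl 215, [121, 126, 135, 152]),
     (Sum.inr [1, 3, 4, 5, 6, 2, 3, 4, 5, 1, 3, 4, 2, 3, 0, 2, 1, 3, 4, 5, 6, 7, 1, 3, 4, 5, 6, 5, 4, 2, 3, 0, 2, 1, 3, 4, 5, 3, 2, 1, 3, 0], [226, 220, 213, 216])]),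
   ([232, 218, 209, 204],
    [(Sum.inr [0, 2, 3, 4, 5, 6, 0, 2, 3, 4, 0, 2], [226, 220, 213, 216])]),
   ([239, 204, 200, 186, 145],
    [(Sum.inr [], [145, 186, 200, 204, 239]),
     (Sum.inl 146, [145, 186, 200, 204, 209, 218, 238, 239]),
     (Sum.inl 186, [145, 186, 200, 204, 209, 218, 239]),
     (Sum.inl 187, [145, 186, 200, 204, 218, 232, 238]),
     (Sum.inl 201, [145, 186, 200, 204]),
     (Sum.inr [1, 3, 4, 5, 6, 2, 3, 4, 5, 1, 3, 4, 2, 3, 0, 2, 1, 3, 4, 5, 6, 7, 0, 2, 3, 4, 0, 2], [226, 220, 213, 216])]),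
   ([239, 207, 200, 184, 143],
    [(Sum.inr [], [143, 184, 200, 207, 239]),
     (Sum.inl 146, [143, 184, 200, 206, 207, 218, 236, 239]),
     (Sum.inl 184, [143, 184, 200, 206, 207, 218, 239]),
     (Sum.inl 187, [143, 184, 200, 207, 218, 232, 236]),
     (Sum.inl 203, [143, 184, 200, 207]),
     (Sum.inr [1, 3, 4, 5, 6, 2, 3, 4, 5, 1, 3, 4, 2, 3, 0, 2, 1, 3, 4, 5, 6, 7, 6, 0, 2, 3, 4, 5, 0, 2], [226, 220, 213, 216])]),
   ([237, 209, 202, 184, 143],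
    [(Sum.inr [], [143, 184, 202, 209, 237]),
     (Sum.inl 144, [143, 184, 202, 204, 209, 218, 236, 237]),
     (Sum.inl 184, [143, 184, 202, 204, 209, 218, 237]),
     (Sum.inl 185, [143, 184, 202, 209, 218, 232, 236]),
     (Sum.inl 203, [143, 184, 202, 209]),
     (Sum.inr [1, 3, 4, 5, 6, 7, 5, 4, 3, 2, 1, 3, 4, 5, 6, 1, 3, 4, 2, 3, 0, 2, 1, 3, 4, 5, 0, 2], [226, 220, 213, 216])]),
   ([239, 207, 200, 184, 143, 121],
    [(Sum.inr [], [121, 143, 184, 200, 207, 239]),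
     (Sum.inl 124, [121, 143, 145, 184, 186, 200, 207, 239]),
     (Sum.inl 143, [121, 143, 145, 184, 186, 200, 205, 207, 239]),
     (Sum.inl 144, [121, 143, 184, 186, 200, 204, 205, 239]),
     (Sum.inl 185, [121, 143, 184, 200, 239]),
     (Sum.inl 146, [121, 143, 184, 200, 206, 218, 236, 239]),
     (Sum.inl 184, [121, 143, 184, 200, 206, 218, 239]),
     (Sum.inl 187, [121, 143, 184, 200, 218, 232, 236]),
     (Sum.inl 203, [121, 143, 184, 200]),
     (Sum.inr [1, 3, 4, 5, 6, 2, 3, 4, 5, 1, 3, 4, 2, 3, 0, 2, 1, 3, 4, 5, 6, 7, 6, 1, 3, 4, 2, 3, 0, 2, 1, 3, 4, 5, 0, 2], [226, 220, 213, 216])]),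
   ([239, 214, 191, 184, 141],
    [(Sum.inr [], [141, 184, 191, 214, 239]),
     (Sum.inl 146, [141, 184, 191, 206, 213, 214, 234, 239]),
     (Sum.inl 184, [141, 184, 191, 206, 213, 214, 239]),
     (Sum.inl 196, [141, 184, 191, 213, 214, 232, 234]),
     (Sum.inl 203, [141, 184, 191, 214]),
     (Sum.inr [1, 3, 4, 5, 6, 2, 3, 4, 5, 1, 3, 4, 2, 3, 0, 2, 1, 3, 4, 5, 6, 7, 6, 0, 2, 3, 4, 5, 4, 0, 2, 3], [226, 220, 213, 216])]),
   ([237, 216, 193, 184, 141],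
    [(Sum.inr [], [141, 184, 193, 216, 237]),
     (Sum.inl 144, [141, 184, 193, 204, 213, 216, 234, 237]),
     (Sum.inl 184, [141, 184, 193, 204, 213, 216, 237]),
     (Sum.inl 194, [141, 184, 193, 213, 216, 232, 234]),
     (Sum.inl 203, [141, 184, 193, 216]),
     (Sum.inr [1, 3, 4, 5, 6, 7, 5, 4, 3, 2, 1, 3, 4, 5, 6, 1, 3, 4, 2, 3, 0, 2, 1, 3, 4, 5, 4, 0, 2, 3], [226, 220, 213, 216])])]

theorem e8_paths_fast_5 : ∀ e ∈ e8Paths_5, fastE8.PathOK e8ReflCode 400 e.1 e.2 ∧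
    Tab.pathEnd e.1 e.2 ∈ e8Reps := by
  decide +kernel

/-- Paths of conjugations from the lists of roots of special involutions to representatives. -/
def e8Paths_6 : List (List ℕ × List ((ℕ ⊕ List ℕ) × List ℕ)) :=
  [([239, 214, 191, 184, 141, 121],
    [(Sum.inr [], [121, 141, 184, 191, 214, 239]),
     (Sum.inl 133, [121, 141, 145, 184, 191, 195, 214, 239]),
     (Sum.inl 141, [121, 141, 145, 184, 191, 195, 205, 214, 239]),
     (Sum.inl 144, [121, 141, 184, 191, 195, 204, 205, 239]),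
     (Sum.inl 194, [121, 141, 184, 191, 239]),
     (Sum.inl 146, [121, 141, 184, 191, 206, 213, 234, 239]),
     (Sum.inl 184, [121, 141, 184, 191, 206, 213, 239]),
     (Sum.inl 196, [121, 141, 184, 191, 213, 232, 234]),
     (Sum.inl 203, [121, 141, 184, 191]),
     (Sum.inr [1, 3, 4, 5, 6, 2, 3, 4, 5, 1, 3, 4, 2, 3, 0, 2, 1, 3, 4, 5, 6, 7, 6, 1, 3, 4, 2, 3, 0, 2, 1, 3, 4, 5, 4, 0, 2, 3], [226, 220, 213, 216])]),
   ([235, 218, 193, 188, 141],
    [(Sum.inr [], [141, 188, 193, 218, 235]),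
     (Sum.inl 142, [141, 188, 193, 204, 209, 218, 234, 235]),
     (Sum.inl 188, [141, 188, 193, 204, 209, 218, 235]),
     (Sum.inl 194, [141, 188, 193, 209, 218, 232, 234]),
     (Sum.inl 199, [141, 188, 193, 218]),
     (Sum.inr [1, 3, 4, 5, 6, 7, 5, 4, 3, 2, 1, 3, 4, 5, 6, 1, 3, 4, 5, 3, 2, 1, 3, 4, 0, 2, 1, 3], [226, 220, 213, 216])]),
   ([239, 214, 188, 186, 141, 128],
    [(Sum.inr [], [128, 141, 186, 188, 214, 239]),
     (Sum.inl 133, [128, 141, 145, 186, 188, 200, 214, 239]),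
     (Sum.inl 141, [128, 141, 145, 186, 188, 200, 210, 214, 239]),
     (Sum.inl 142, [128, 141, 186, 188, 200, 204, 210, 239]),
     (Sum.inl 194, [128, 141, 186, 188, 239]),
     (Sum.inl 146, [128, 141, 186, 188, 209, 211, 234, 239]),
     (Sum.inl 186, [128, 141, 186, 188, 209, 211, 239]),
     (Sum.inl 199, [128, 141, 186, 188, 211, 232, 234]),
     (Sum.inl 201, [128, 141, 186, 188]),
     (Sum.inr [1, 3, 4, 5, 6, 2, 3, 4, 5, 1, 3, 4, 2, 3, 0, 2, 1, 3, 4, 5, 6, 7, 6, 1, 3, 4, 5, 3, 2, 1, 3, 4, 0, 2, 1, 3], [226, 220, 213, 216])]),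
   ([239, 214, 191, 184, 141, 126],
    [(Sum.inr [], [126, 141, 184, 191, 214, 239]),
     (Sum.inl 131, [126, 141, 143, 184, 191, 200, 214, 239]),
     (Sum.inl 141, [126, 141, 143, 184, 191, 200, 210, 214, 239]),
     (Sum.inl 142, [126, 141, 184, 191, 200, 207, 210, 239]),
     (Sum.inl 197, [126, 141, 184, 191, 239]),
     (Sum.inl 146, [126, 141, 184, 191, 206, 213, 234, 239]),
     (Sum.inl 184, [126, 141, 184, 191, 206, 213, 239]),
     (Sum.inl 196, [126, 141, 184, 191, 213, 232, 234]),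
     (Sum.inl 203, [126, 141, 184, 191]),
     (Sum.inr [1, 3, 4, 5, 6, 2, 3, 4, 5, 1, 3, 4, 2, 3, 0, 2, 1, 3, 4, 5, 6, 7, 1, 3, 4, 5, 6, 3, 2, 1, 3, 4, 5, 4, 0, 2, 1, 3], [226, 220, 213, 216])]),
   ([237, 216, 193, 184, 141, 126],
    [(Sum.inr [], [126, 141, 184, 193, 216, 237]),
     (Sum.inl 131, [126, 141, 143, 184, 193, 202, 216, 237]),
     (Sum.inl 141, [126, 141, 143, 184, 193, 202, 212, 216, 237]),
     (Sum.inl 142, [126, 141, 184, 193, 202, 209, 212, 237]),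
     (Sum.inl 199, [126, 141, 184, 193, 237]),
     (Sum.inl 144, [126, 141, 184, 193, 204, 213, 234, 237]),
     (Sum.inl 184, [126, 141, 184, 193, 204, 213, 237]),
     (Sum.inl 194, [126, 141, 184, 193, 213, 232, 234]),
     (Sum.inl 203, [126, 141, 184, 193]),
     (Sum.inr [1, 3, 4, 2, 3, 0, 2, 1, 3, 4, 5, 6, 7, 4, 2, 3, 0, 2, 1, 3, 4, 5, 6, 4, 3, 0, 2, 1, 3, 4, 5, 4, 0, 2, 1, 3], [226, 220, 213, 216])]),
   ([239, 214, 191, 184, 141, 126, 121],
    [(Sum.inr [], [121, 126, 141, 184, 191, 214, 239]),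
     (Sum.inl 199, [121, 126, 141, 184, 191, 202, 209, 212, 214, 239]),
     (Sum.inl 126, [121, 126, 141, 184, 191, 202, 209, 214, 239]),
     (Sum.inl 201, [121, 126, 141, 184, 191, 209, 211, 212, 214]),
     (Sum.inl 208, [121, 126, 141, 184, 191, 214]),
     (Sum.inl 124, [121, 126, 128, 141, 184, 186, 191, 214]),
     (Sum.inl 126, [121, 126, 128, 141, 184, 186, 189, 191, 214]),
     (Sum.inl 127, [121, 126, 141, 184, 186, 188, 189, 214]),
     (Sum.inl 185, [121, 126, 141, 184, 214]),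
     (Sum.inl 133, [121, 126, 141, 145, 184, 195, 214]),
     (Sum.inl 141, [121, 126, 141, 145, 184, 195, 205, 214]),
     (Sum.inl 144, [121, 126, 141, 184, 195, 204, 205]),
     (Sum.inl 194, [121, 126, 141, 184]),
     (Sum.inr [1, 3, 4, 5, 6, 2, 3, 4, 5, 1, 3, 4, 2, 3, 0, 2, 1, 3, 4, 5, 6, 7, 1, 3, 4, 5, 6, 5, 4, 2, 3, 0, 2, 1, 3, 4, 5, 0, 2, 3], [226, 220, 213, 216])]),
   ([239, 214, 191, 184],
    [(Sum.inr [3, 4, 2, 3, 0, 2, 1, 3, 4, 5, 6, 7, 1, 3, 4, 5, 1, 3], [226, 220, 213, 216])]),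
   ([237, 216, 193, 184],
    [(Sum.inr [0, 2, 3, 4, 5, 6, 2, 3, 0, 2, 1, 3, 4, 5, 1, 3], [226, 220, 213, 216])])]

theorem e8_paths_fast_6 : ∀ e ∈ e8Paths_6, fastE8.PathOK e8ReflCode 400 e.1 e.2 ∧
    Tab.pathEnd e.1 e.2 ∈ e8Reps := by
  decide +kernel

/-- Paths of conjugations from the lists of roots of special involutions to representatives. -/
def e8Paths_7 : List (List ℕ × List ((ℕ ⊕ List ℕ) × List ℕ)) :=
  [([239, 214, 191, 184, 121],
    [(Sum.inr [], [121, 184, 191, 214, 239]),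
     (Sum.inl 122, [121, 184, 191, 193, 214, 216, 239]),
     (Sum.inl 191, [121, 184, 191, 193, 214, 216, 238, 239]),
     (Sum.inl 192, [121, 184, 191, 214, 216, 237, 238]),
     (Sum.inl 215, [121, 184, 191, 214]),
     (Sum.inr [1, 3, 4, 5, 6, 2, 3, 4, 5, 1, 3, 4, 2, 3, 0, 2, 1, 3, 4, 5, 6, 7, 2, 3, 0, 2, 1, 3, 4, 5, 1, 3], [226, 220, 213, 216])]),
   ([235, 218, 193, 188],
    [(Sum.inr [0, 2, 3, 4, 5, 6, 0, 2, 3, 4, 0, 2, 1, 3], [226, 220, 213, 216])]),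
   ([239, 214, 188, 186, 128],
    [(Sum.inr [], [128, 186, 188, 214, 239]),
     (Sum.inl 129, [128, 186, 188, 193, 214, 218, 239]),
     (Sum.inl 186, [128, 186, 188, 193, 214, 218, 238, 239]),
     (Sum.inl 187, [128, 186, 188, 214, 218, 235, 238]),
     (Sum.inl 215, [128, 186, 188, 214]),
     (Sum.inr [1, 3, 4, 5, 6, 2, 3, 4, 5, 1, 3, 4, 2, 3, 0, 2, 1, 3, 4, 5, 6, 7, 0, 2, 3, 4, 0, 2, 1, 3], [226, 220, 213, 216])]),
   ([239, 214, 191, 184, 126],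
    [(Sum.inr [], [126, 184, 191, 214, 239]),
     (Sum.inl 129, [126, 184, 190, 191, 214, 218, 239]),
     (Sum.inl 184, [126, 184, 190, 191, 214, 218, 236, 239]),
     (Sum.inl 187, [126, 184, 191, 214, 218, 235, 236]),
     (Sum.inl 217, [126, 184, 191, 214]),
     (Sum.inr [1, 3, 4, 5, 6, 2, 3, 4, 5, 1, 3, 4, 2, 3, 0, 2, 1, 3, 4, 5, 6, 7, 6, 0, 2, 3, 4, 5, 0, 2, 1, 3], [226, 220, 213, 216])]),
   ([237, 216, 193, 184, 126],
    [(Sum.inr [], [126, 184, 193, 216, 237]),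
     (Sum.inl 127, [126, 184, 188, 193, 216, 218, 237]),
     (Sum.inl 184, [126, 184, 188, 193, 216, 218, 236, 237]),
     (Sum.inl 185, [126, 184, 193, 216, 218, 235, 236]),
     (Sum.inl 217, [126, 184, 193, 216]),
     (Sum.inr [1, 3, 4, 5, 6, 7, 5, 4, 3, 2, 1, 3, 4, 5, 6, 1, 3, 4, 2, 3, 0, 2, 1, 3, 4, 5, 0, 2, 1, 3], [226, 220, 213, 216])]),
   ([239, 214, 191, 184, 126, 121],
    [(Sum.inr [], [121, 126, 184, 191, 214, 239]),
     (Sum.inl 124, [121, 126, 128, 184, 186, 191, 214, 239]),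
     (Sum.inl 126, [121, 126, 128, 184, 186, 189, 191, 214, 239]),
     (Sum.inl 127, [121, 126, 184, 186, 188, 189, 214, 239]),
     (Sum.inl 185, [121, 126, 184, 214, 239]),
     (Sum.inl 129, [121, 126, 184, 190, 214, 218, 239]),
     (Sum.inl 184, [121, 126, 184, 190, 214, 218, 236, 239]),
     (Sum.inl 187, [121, 126, 184, 214, 218, 235, 236]),
     (Sum.inl 217, [121, 126, 184, 214]),
     (Sum.inr [1, 3, 4, 5, 6, 2, 3, 4, 5, 1, 3, 4, 2, 3, 0, 2, 1, 3, 4, 5, 6, 7, 6, 1, 3, 4, 2, 3, 0, 2, 1, 3, 4, 5, 0, 2, 1, 3], [226, 220, 213, 216])]),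
   ([239],
    [])]

theorem e8_paths_fast_7 : ∀ e ∈ e8Paths_7, fastE8.PathOK e8ReflCode 400 e.1 e.2 ∧
    Tab.pathEnd e.1 e.2 ∈ e8Reps := by
  decide +kernel

/-- All the paths. -/
def e8Paths : List (List ℕ × List ((ℕ ⊕ List ℕ) × List ℕ)) :=
  e8Paths_0 ++ e8Paths_1 ++ e8Paths_2 ++ e8Paths_3 ++ e8Paths_4 ++ e8Paths_5 ++ e8Paths_6 ++ e8Paths_7

theorem e8_paths_fast : ∀ e ∈ e8Paths, fastE8.PathOK e8ReflCode 400 e.1 e.2 ∧
    Tab.pathEnd e.1 e.2 ∈ e8Reps := by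
  intro e he
  unfold e8Paths at he
  simp only [List.mem_append] at he
  rcases he with (((((((he | he) | he) | he) | he) | he) | he) | he)
  · exact e8_paths_fast_0 e he
  · exact e8_paths_fast_1 e he
  · exact e8_paths_fast_2 e he
  · exact e8_paths_fast_3 e he
  · exact e8_paths_fast_4 e he
  · exact e8_paths_fast_5 e he
  · exact e8_paths_fast_6 e he
  · exact e8_paths_fast_7 e he

theorem e8_paths_ok : ∀ e ∈ e8Paths, (tabOf chevE8).PathOK e8ReflCode 400 e.1 e.2 ∧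
    Tab.pathEnd e.1 e.2 ∈ e8Reps := tab_E8 ▸ e8_paths_fast

theorem e8_spec_path : ∀ e ∈ e8Spec, e.2.2 ≠ [] → ∃ p ∈ e8Paths, p.1 = e.2.2 := by decide +kernel

variable {K : Type*} [Field K] [CharP K 2]

/-- Every involution is conjugate to one of the representatives. -/
theorem e8_inv_conj_rep [Fintype K] {t : GL chevE8.Idx K} (ht : t ∈ chevE8.group K) (ht2 : t * t = 1)
    (ht1 : t ≠ 1) : ∃ R ∈ e8Reps, GConj chevE8 t (uw1 ctxE8 K R) := by
  obtain ⟨e, he, hne, hc⟩ := e8_inv_conj_roots ht ht2 ht1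
  obtain ⟨p, hp, ep⟩ := e8_spec_path e he hne
  obtain ⟨hpath, hend⟩ := e8_paths_ok p hp
  refine ⟨_, hend, hc.trans ?_⟩
  rw [← ep]
  exact gconj_of_pathOK ctxE8 e8_refl_code p.2 p.1 hpath

end Cfsg.Agent.Helper7.Chev
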