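import Mathlib
import Cfsg.Agent.Helper7.ChevInvN
import Cfsg.Agent.Helper7.E8ClsC

set_option autoImplicit false
set_option linter.unusedSectionVars false
set_option linter.unusedVariables false
set_option maxHeartbeats 1000000

/-!
Type `E₈`, characteristic two: the four representatives of the classes of involutions are pairwise not conjugate.
-/

namespace Cfsg.Agent.Helper7.Chev

open Cfsg Cfsg.Lie Matrix DoubleCoset
open scoped Pointwise

section tables

/-- The roots of height at least `23`. -/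
def e8Psi2 : List ℕ := [232, 233, 234, 235, 236, 237, 238, 239]

/-- The roots of height at least `19`. -/
def e8Psi3 : List ℕ := [218, 222, 223, 224, 225, 228, 229, 230, 231, 232, 233, 234, 235, 236, 237, 238, 239]

/-- The roots of height at least `17`. -/
def e8Psi4 : List ℕ := [213, 216, 217, 218, 220, 221, 222, 223, 224, 225, 226, 227, 228, 229, 230, 231, 232, 233,
  234, 235, 236, 237, 238, 239]

set_option maxRecDepth 1000000 in
theorem e8_ideal_fast_1 : fastE8.IdealOK [239] [] [239] ∧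
    fastE8.IdealOK e8Psi2 [234, 235, 236, 237, 238, 239] [232, 233] := by
  decide +kernel

set_option maxRecDepth 1000000 in
theorem e8_ideal_fast_3 : fastE8.IdealOK e8Psi3
    [223, 224, 225, 229, 230, 231, 232, 233, 234, 235, 236, 237, 238, 239] [228, 222, 218] := by
  decide +kernel

set_option maxRecDepth 1000000 in
theorem e8_ideal_fast_4 : fastE8.IdealOK e8Psi4
    [217, 218, 221, 222, 223, 224, 225, 227, 228, 229, 230, 231, 232, 233, 234, 235, 236, 237, 238, 239]
    [226, 220, 213, 216] := by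
  decide +kernel

theorem e8_ideal : (tabOf chevE8).IdealOK [239] [] [239] ∧
    (tabOf chevE8).IdealOK e8Psi2 [234, 235, 236, 237, 238, 239] [232, 233] ∧
    (tabOf chevE8).IdealOK e8Psi3
      [223, 224, 225, 229, 230, 231, 232, 233, 234, 235, 236, 237, 238, 239] [228, 222, 218] ∧
    (tabOf chevE8).IdealOK e8Psi4
      [217, 218, 221, 222, 223, 224, 225, 227, 228, 229, 230, 231, 232, 233, 234, 235, 236, 237, 238, 239]
      [226, 220, 213, 216] := by
  rw [tab_E8]
  exact ⟨e8_ideal_fast_1.1, e8_ideal_fast_1.2, e8_ideal_fast_3, e8_ideal_fast_4⟩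

/-- Orthogonality of the roots of the representatives. -/
theorem e8_orth_fast : fastE8.pairing 228 222 = 0 ∧ fastE8.pairing 228 218 = 0 ∧ fastE8.pairing 222 218 = 0 ∧
    fastE8.pairing 226 220 = 0 ∧ fastE8.pairing 226 213 = 0 ∧ fastE8.pairing 220 213 = 0 ∧
    fastE8.pairing 226 216 = 0 ∧ fastE8.pairing 220 216 = 0 ∧ fastE8.pairing 213 216 = 0 := by
  decide +kernel

theorem e8_orth : (tabOf chevE8).pairing 228 222 = 0 ∧ (tabOf chevE8).pairing 228 218 = 0 ∧
    (tabOf chevE8).pairing 222 218 = 0 ∧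
    (tabOf chevE8).pairing 226 220 = 0 ∧ (tabOf chevE8).pairing 226 213 = 0 ∧ (tabOf chevE8).pairing 220 213 = 0 ∧
    (tabOf chevE8).pairing 226 216 = 0 ∧ (tabOf chevE8).pairing 220 216 = 0 ∧
    (tabOf chevE8).pairing 213 216 = 0 := tab_E8 ▸ e8_orth_fast

/-- There are no three pairwise orthogonal roots of height at least `23`. -/
theorem e8_no3_fast : ∀ a ∈ e8Psi2, ∀ b ∈ e8Psi2, fastE8.pairing a b = 0 → ∀ c ∈ e8Psi2,
    ¬ (fastE8.pairing a c = 0 ∧ fastE8.pairing b c = 0) := by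
  decide +kernel

theorem e8_no3 : ∀ a ∈ e8Psi2, ∀ b ∈ e8Psi2, (tabOf chevE8).pairing a b = 0 → ∀ c ∈ e8Psi2,
    ¬ ((tabOf chevE8).pairing a c = 0 ∧ (tabOf chevE8).pairing b c = 0) := tab_E8 ▸ e8_no3_fast

/-- There are no four pairwise orthogonal roots of height at least `19`. -/
theorem e8_no4_fast : ∀ a ∈ e8Psi3, ∀ b ∈ e8Psi3, fastE8.pairing a b = 0 → ∀ c ∈ e8Psi3,
    fastE8.pairing a c = 0 → fastE8.pairing b c = 0 → ∀ d ∈ e8Psi3,
    ¬ (fastE8.pairing a d = 0 ∧ fastE8.pairing b d = 0 ∧ fastE8.pairing c d = 0) := by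
  decide +kernel

theorem e8_no4 : ∀ a ∈ e8Psi3, ∀ b ∈ e8Psi3, (tabOf chevE8).pairing a b = 0 → ∀ c ∈ e8Psi3,
    (tabOf chevE8).pairing a c = 0 → (tabOf chevE8).pairing b c = 0 → ∀ d ∈ e8Psi3,
    ¬ ((tabOf chevE8).pairing a d = 0 ∧ (tabOf chevE8).pairing b d = 0 ∧ (tabOf chevE8).pairing c d = 0) :=
  tab_E8 ▸ e8_no4_fast

end tables

variable {K : Type*} [Field K] [CharP K 2]

/-- Two different roots are not both mapped to the highest root. -/
theorem e8_not_into_1 {Ψb Ψb' Rb : List ℕ} (hB : (tabOf chevE8).IdealOK Ψb Ψb' Rb) {r s : ℕ} (hr : r ∈ Rb)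
    (hs : s ∈ Rb) (hrs : r ≠ s) (h : GConj chevE8 (uw1 ctxE8 K Rb) (uw1 ctxE8 K [239])) : False := by
  obtain ⟨σ, hσ, hmap⟩ := conj_weyl_into (K := K) ctxE8 e8_ideal.1 hB h
  have h1 := hmap r hr
  have h2 := hmap s hs
  rw [List.mem_singleton] at h1 h2
  have hrn : r < chevE8.nroots := (hB.1 r (hB.2.2.2.1 r hr).1).2
  have hsn : s < chevE8.nroots := (hB.1 s (hB.2.2.2.1 s hs).1).2
  exact hrs (reflWord_injective good3_E8.toGood2 hσ hrn hsn (h1.trans h2.symm))

/-- Three pairwise orthogonal roots are not mapped to roots of height at least `23`. -/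
theorem e8_not_into_2 {Ψb Ψb' Rb : List ℕ} (hB : (tabOf chevE8).IdealOK Ψb Ψb' Rb) {r s t : ℕ} (hr : r ∈ Rb)
    (hs : s ∈ Rb) (ht : t ∈ Rb) (hrs : (tabOf chevE8).pairing r s = 0) (hrt : (tabOf chevE8).pairing r t = 0)
    (hst : (tabOf chevE8).pairing s t = 0)
    (h : GConj chevE8 (uw1 ctxE8 K Rb) (uw1 ctxE8 K [232, 233])) : False := by
  obtain ⟨σ, hσ, hmap⟩ := conj_weyl_into (K := K) ctxE8 e8_ideal.2.1 hB h
  have hG := good3_E8.toGood2
  have hrn : r < chevE8.nroots := (hB.1 r (hB.2.2.2.1 r hr).1).2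
  have hsn : s < chevE8.nroots := (hB.1 s (hB.2.2.2.1 s hs).1).2
  have htn : t < chevE8.nroots := (hB.1 t (hB.2.2.2.1 t ht).1).2
  have hab : (tabOf chevE8).pairing ((tabOf chevE8).reflWord σ r) ((tabOf chevE8).reflWord σ s) = 0 := by
    rw [pairing_reflWord hG hσ hrn hsn]; exact hrs
  have hac : (tabOf chevE8).pairing ((tabOf chevE8).reflWord σ r) ((tabOf chevE8).reflWord σ t) = 0 := by
    rw [pairing_reflWord hG hσ hrn htn]; exact hrt
  have hbc : (tabOf chevE8).pairing ((tabOf chevE8).reflWord σ s) ((tabOf chevE8).reflWord σ t) = 0 := by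
    rw [pairing_reflWord hG hσ hsn htn]; exact hst
  exact e8_no3 _ (hmap r hr) _ (hmap s hs) hab _ (hmap t ht) ⟨hac, hbc⟩

/-- Four pairwise orthogonal roots are not mapped to roots of height at least `19`. -/
theorem e8_not_43 (h : GConj chevE8 (uw1 ctxE8 K [226, 220, 213, 216]) (uw1 ctxE8 K [228, 222, 218])) :
    False := by
  obtain ⟨σ, hσ, hmap⟩ := conj_weyl_into (K := K) ctxE8 e8_ideal.2.2.1 e8_ideal.2.2.2 h
  have hG := good3_E8.toGood2
  obtain ⟨-, -, -, p1, p2, p3, p4, p5, p6⟩ := e8_orth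
  have h226 : (226 : ℕ) < chevE8.nroots := by decide
  have h220 : (220 : ℕ) < chevE8.nroots := by decide
  have h213 : (213 : ℕ) < chevE8.nroots := by decide
  have h216 : (216 : ℕ) < chevE8.nroots := by decide
  refine e8_no4 _ (hmap 226 (by simp)) _ (hmap 220 (by simp))
    (by rw [pairing_reflWord hG hσ h226 h220]; exact p1) _ (hmap 213 (by simp))
    (by rw [pairing_reflWord hG hσ h226 h213]; exact p2)
    (by rw [pairing_reflWord hG hσ h220 h213]; exact p3) _ (hmap 216 (by simp)) ⟨?_, ?_, ?_⟩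
  · rw [pairing_reflWord hG hσ h226 h216]; exact p4
  · rw [pairing_reflWord hG hσ h220 h216]; exact p5
  · rw [pairing_reflWord hG hσ h213 h216]; exact p6

/-- The four representatives are pairwise not conjugate. -/
theorem e8_reps_pairwise : e8Reps.Pairwise fun R R' =>
    ¬ GConj chevE8 (uw1 ctxE8 K R) (uw1 ctxE8 K R') := by
  obtain ⟨i1, i2, i3, i4⟩ := e8_ideal
  obtain ⟨q1, q2, q3, p1, p2, p3, p4, p5, p6⟩ := e8_orth
  unfold e8Reps
  simp only [List.pairwise_cons, List.mem_cons, List.not_mem_nil, or_false, forall_eq_or_imp, forall_eq,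
    List.Pairwise.nil, and_true, IsEmpty.forall_iff, implies_true]
  refine ⟨⟨?_, ?_, ?_⟩, ⟨?_, ?_⟩, ?_⟩
  · exact fun h => e8_not_into_1 i2 (r := 232) (s := 233) (by simp) (by simp) (by decide) h.symm
  · exact fun h => e8_not_into_1 i3 (r := 228) (s := 222) (by simp) (by simp) (by decide) h.symm
  · exact fun h => e8_not_into_1 i4 (r := 226) (s := 220) (by simp) (by simp) (by decide) h.symm
  · exact fun h => e8_not_into_2 i3 (r := 228) (s := 222) (t := 218) (by simp) (by simp) (by simp) q1 q2 q3 h.symm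
  · exact fun h => e8_not_into_2 i4 (r := 226) (s := 220) (t := 213) (by simp) (by simp) (by simp) p1 p2 p3 h.symm
  · exact fun h => e8_not_43 h.symm

end Cfsg.Agent.Helper7.Chev
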