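import Mathlib
import Cfsg.Agent.Helper7.E8ClsD

set_option autoImplicit false
set_option linter.unusedSectionVars false
set_option linter.unusedVariables false
set_option maxHeartbeats 1000000

/-!
Type `E₈`, characteristic two: the four classes of involutions, in the form of the statement.
-/

namespace Cfsg.Agent.Helper7.Chev

open Cfsg Cfsg.Lie Matrix DoubleCoset
open scoped Pointwise

variable {K : Type*} [Field K] [CharP K 2]

theorem e8_rep1_coe : ((uw1 ctxE8 K [239] : GL chevE8.Idx K) : Matrix chevE8.Idx chevE8.Idx K) =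
    chevE8.x K 239 1 := by
  unfold uw1 uw
  simp only [List.map_cons, List.map_nil, List.prod_cons, List.prod_nil, mul_one, ux_coe]

theorem e8_rep2_coe : ((uw1 ctxE8 K [232, 233] : GL chevE8.Idx K) : Matrix chevE8.Idx chevE8.Idx K) =
    chevE8.x K 232 1 * chevE8.x K 233 1 := by
  unfold uw1 uw
  simp only [List.map_cons, List.map_nil, List.prod_cons, List.prod_nil, mul_one, Units.val_mul, ux_coe]

theorem e8_rep3_coe : ((uw1 ctxE8 K [228, 222, 218] : GL chevE8.Idx K) : Matrix chevE8.Idx chevE8.Idx K) =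
    chevE8.x K 228 1 * chevE8.x K 222 1 * chevE8.x K 218 1 := by
  unfold uw1 uw
  simp only [List.map_cons, List.map_nil, List.prod_cons, List.prod_nil, mul_one, Units.val_mul, ux_coe,
    mul_assoc]

theorem e8_rep4_coe : ((uw1 ctxE8 K [226, 220, 213, 216] : GL chevE8.Idx K) :
    Matrix chevE8.Idx chevE8.Idx K) =
    chevE8.x K 226 1 * chevE8.x K 220 1 * chevE8.x K 213 1 * chevE8.x K 216 1 := by
  unfold uw1 uw
  simp only [List.map_cons, List.map_nil, List.prod_cons, List.prod_nil, mul_one, Units.val_mul, ux_coe,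
    mul_assoc]

/-- The invertible matrices equal to one of the four products. -/
theorem e8_rep_cases {y : GL chevE8.Idx K}
    (hy : (y : Matrix chevE8.Idx chevE8.Idx K) ∈ [chevE8.x K 239 1, chevE8.x K 232 1 * chevE8.x K 233 1,
      chevE8.x K 228 1 * chevE8.x K 222 1 * chevE8.x K 218 1,
      chevE8.x K 226 1 * chevE8.x K 220 1 * chevE8.x K 213 1 * chevE8.x K 216 1]) :
    y = uw1 ctxE8 K [239] ∨ y = uw1 ctxE8 K [232, 233] ∨ y = uw1 ctxE8 K [228, 222, 218] ∨
      y = uw1 ctxE8 K [226, 220, 213, 216] := by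
  simp only [List.mem_cons, List.not_mem_nil, or_false] at hy
  rcases hy with h | h | h | h
  · exact Or.inl (Units.ext (by rw [h, e8_rep1_coe]))
  · exact Or.inr (Or.inl (Units.ext (by rw [h, e8_rep2_coe])))
  · exact Or.inr (Or.inr (Or.inl (Units.ext (by rw [h, e8_rep3_coe]))))
  · exact Or.inr (Or.inr (Or.inr (Units.ext (by rw [h, e8_rep4_coe]))))

variable [Fintype K]

/-- The classes of involutions of the Chevalley group of type `E₈` in characteristic two. -/
theorem e8_involution_classes :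
    (∀ y : GL chevE8.Idx K, (y : Matrix chevE8.Idx chevE8.Idx K) ∈
      [chevE8.x K 239 1, chevE8.x K 232 1 * chevE8.x K 233 1,
        chevE8.x K 228 1 * chevE8.x K 222 1 * chevE8.x K 218 1,
        chevE8.x K 226 1 * chevE8.x K 220 1 * chevE8.x K 213 1 * chevE8.x K 216 1] →
        y ∈ chevE8.group K ∧ orderOf y = 2) ∧
    (∀ g ∈ chevE8.group K, orderOf g = 2 → ∃ y ∈ chevE8.group K,
      (y : Matrix chevE8.Idx chevE8.Idx K) ∈ [chevE8.x K 239 1, chevE8.x K 232 1 * chevE8.x K 233 1,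
        chevE8.x K 228 1 * chevE8.x K 222 1 * chevE8.x K 218 1,
        chevE8.x K 226 1 * chevE8.x K 220 1 * chevE8.x K 213 1 * chevE8.x K 216 1] ∧
        ∃ h ∈ chevE8.group K, h * g * h⁻¹ = y) ∧
    (∀ y₁ ∈ chevE8.group K, ∀ y₂ ∈ chevE8.group K,
      (y₁ : Matrix chevE8.Idx chevE8.Idx K) ∈ [chevE8.x K 239 1, chevE8.x K 232 1 * chevE8.x K 233 1,
        chevE8.x K 228 1 * chevE8.x K 222 1 * chevE8.x K 218 1,
        chevE8.x K 226 1 * chevE8.x K 220 1 * chevE8.x K 213 1 * chevE8.x K 216 1] →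
      (y₂ : Matrix chevE8.Idx chevE8.Idx K) ∈ [chevE8.x K 239 1, chevE8.x K 232 1 * chevE8.x K 233 1,
        chevE8.x K 228 1 * chevE8.x K 222 1 * chevE8.x K 218 1,
        chevE8.x K 226 1 * chevE8.x K 220 1 * chevE8.x K 213 1 * chevE8.x K 216 1] →
      (∃ h ∈ chevE8.group K, h * y₁ * h⁻¹ = y₂) →
        (y₁ : Matrix chevE8.Idx chevE8.Idx K) = (y₂ : Matrix chevE8.Idx chevE8.Idx K)) := by
  obtain ⟨i1, i2, i3, i4⟩ := e8_ideal
  have hpw := e8_reps_pairwise (K := K)
  unfold e8Reps at hpw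
  simp only [List.pairwise_cons, List.mem_cons, List.not_mem_nil, or_false, forall_eq_or_imp, forall_eq,
    List.Pairwise.nil, and_true, IsEmpty.forall_iff, implies_true] at hpw
  obtain ⟨⟨n12, n13, n14⟩, ⟨n23, n24⟩, n34⟩ := hpw
  refine ⟨?_, ?_, ?_⟩
  · intro y hy
    rcases e8_rep_cases hy with rfl | rfl | rfl | rfl
    · exact ⟨uw1_mem_group ctxE8 _, uw1_order_two_of_ideal ctxE8 i1 (by simp)⟩
    · exact ⟨uw1_mem_group ctxE8 _, uw1_order_two_of_ideal ctxE8 i2 (by simp)⟩
    · exact ⟨uw1_mem_group ctxE8 _, uw1_order_two_of_ideal ctxE8 i3 (by simp)⟩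
    · exact ⟨uw1_mem_group ctxE8 _, uw1_order_two_of_ideal ctxE8 i4 (by simp)⟩
  · intro g hg hg2
    have hgg : g * g = 1 := by
      rw [← pow_two, ← hg2]
      exact pow_orderOf_eq_one g
    have hg1 : g ≠ 1 := by
      intro h
      rw [h, orderOf_one] at hg2
      omega
    obtain ⟨R, hR, hc⟩ := e8_inv_conj_rep hg hgg hg1
    unfold e8Reps at hR
    simp only [List.mem_cons, List.not_mem_nil, or_false] at hR
    rcases hR with rfl | rfl | rfl | rfl
    · exact ⟨_, uw1_mem_group ctxE8 _, by rw [e8_rep1_coe]; simp, hc⟩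
    · exact ⟨_, uw1_mem_group ctxE8 _, by rw [e8_rep2_coe]; simp, hc⟩
    · exact ⟨_, uw1_mem_group ctxE8 _, by rw [e8_rep3_coe]; simp, hc⟩
    · exact ⟨_, uw1_mem_group ctxE8 _, by rw [e8_rep4_coe]; simp, hc⟩
  · intro y₁ _ y₂ _ h1 h2 hc
    have hc' : GConj chevE8 y₁ y₂ := hc
    rcases e8_rep_cases h1 with rfl | rfl | rfl | rfl <;> rcases e8_rep_cases h2 with rfl | rfl | rfl | rfl
    · rfl
    · exact (n12 hc').elim
    · exact (n13 hc').elim
    · exact (n14 hc').elim
    · exact (n12 hc'.symm).elim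
    · rfl
    · exact (n23 hc').elim
    · exact (n24 hc').elim
    · exact (n13 hc'.symm).elim
    · exact (n23 hc'.symm).elim
    · rfl
    · exact (n34 hc').elim
    · exact (n14 hc'.symm).elim
    · exact (n24 hc'.symm).elim
    · exact (n34 hc'.symm).elim
    · rfl

end Cfsg.Agent.Helper7.Chev
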