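import Mathlib
import Cfsg.Agent.Helper7.Ex27B

set_option autoImplicit false

/-! # Normal form of the elements of `R0 = ⟨Xg, Yg⟩ ≅ 3^{1+2}`: `r = ω^a Y^t X^u` (helper9's stub U23-D1) -/

namespace Cfsg.Agent.Helper7.Ex27

open Matrix Cfsg.Agent.Helper7.Singer

variable {F : Type*} [Field F]

theorem sgω_cube (ω : F) (hω : ω ^ 2 + ω + 1 = 0) : sg (ωu ω hω) ^ 3 = 1 := by
  rw [sg_pow]
  have h : (ωu ω hω) ^ 3 = 1 := by
    apply Units.ext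
    rw [Units.val_pow_eq_pow_val, ωu_val, omega_cube ω hω, Units.val_one]
  rw [h, sg, map_one]

/-- `X Y^t = ω^t Y^t X`. -/
theorem Xg_mul_Yg_pow (ω : F) (hω : ω ^ 2 + ω + 1 = 0) (t : ℕ) :
    Xg ω hω * Yg ^ t = sg (ωu ω hω) ^ t * (Yg ^ t * Xg ω hω) := by
  induction t with
  | zero => simp
  | succ t ih =>
    calc Xg ω hω * Yg ^ (t + 1) = (Xg ω hω * Yg ^ t) * Yg := by rw [pow_succ, mul_assoc]
      _ = sg (ωu ω hω) ^ t * (Yg ^ t * (Xg ω hω * Yg)) := by rw [ih]; simp only [mul_assoc]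
      _ = sg (ωu ω hω) ^ t * (Yg ^ t * (sg (ωu ω hω) * (Yg * Xg ω hω))) := by rw [Xg_mul_Yg]
      _ = sg (ωu ω hω) ^ t * (sg (ωu ω hω) * (Yg ^ t * (Yg * Xg ω hω))) := by
          rw [← mul_assoc (Yg ^ t) (sg (ωu ω hω)), ← sg_comm, mul_assoc]
      _ = sg (ωu ω hω) ^ (t + 1) * (Yg ^ (t + 1) * Xg ω hω) := by
          rw [pow_succ (sg (ωu ω hω)), pow_succ Yg]
          simp only [mul_assoc]

theorem sg_pow_comm (c : Fˣ) (k : ℕ) (g : GL (Fin 3) F) : sg c ^ k * g = g * sg c ^ k := by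
  rw [sg_pow]
  exact sg_comm _ g

/-- `X^u Y^t = ω^{ut} Y^t X^u`. -/
theorem Xg_pow_mul_Yg_pow (ω : F) (hω : ω ^ 2 + ω + 1 = 0) (u t : ℕ) :
    Xg ω hω ^ u * Yg ^ t = sg (ωu ω hω) ^ (u * t) * (Yg ^ t * Xg ω hω ^ u) := by
  induction u with
  | zero => simp
  | succ u ih =>
    calc Xg ω hω ^ (u + 1) * Yg ^ t = Xg ω hω ^ u * (Xg ω hω * Yg ^ t) := by rw [pow_succ, mul_assoc]
      _ = Xg ω hω ^ u * (sg (ωu ω hω) ^ t * (Yg ^ t * Xg ω hω)) := by rw [Xg_mul_Yg_pow]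
      _ = sg (ωu ω hω) ^ t * ((Xg ω hω ^ u * Yg ^ t) * Xg ω hω) := by
          rw [← mul_assoc (Xg ω hω ^ u), ← sg_pow_comm, mul_assoc, mul_assoc]
      _ = sg (ωu ω hω) ^ t * ((sg (ωu ω hω) ^ (u * t) * (Yg ^ t * Xg ω hω ^ u)) * Xg ω hω) := by rw [ih]
      _ = sg (ωu ω hω) ^ ((u + 1) * t) * (Yg ^ t * Xg ω hω ^ (u + 1)) := by
          rw [pow_succ (Xg ω hω), show (u + 1) * t = t + u * t by ring, pow_add]
          simp only [mul_assoc]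

/-- The set of normal forms is a subgroup. -/
def nfSub (ω : F) (hω : ω ^ 2 + ω + 1 = 0) : Subgroup (GL (Fin 3) F) where
  carrier := {r | ∃ a t u : ℕ, r = sg (ωu ω hω) ^ a * Yg ^ t * Xg ω hω ^ u}
  one_mem' := ⟨0, 0, 0, by simp⟩
  mul_mem' := by
    rintro r r' ⟨a, t, u, rfl⟩ ⟨a', t', u', rfl⟩
    refine ⟨a + a' + u * t', t + t', u + u', ?_⟩
    calc sg (ωu ω hω) ^ a * Yg ^ t * Xg ω hω ^ u * (sg (ωu ω hω) ^ a' * Yg ^ t' * Xg ω hω ^ u')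
        = sg (ωu ω hω) ^ a * Yg ^ t * (sg (ωu ω hω) ^ a' * (Xg ω hω ^ u * Yg ^ t')) * Xg ω hω ^ u' := by
          rw [sg_pow_comm (ωu ω hω) a' (Xg ω hω ^ u * Yg ^ t'), mul_assoc (Xg ω hω ^ u) (Yg ^ t'),
            ← sg_pow_comm (ωu ω hω) a' (Yg ^ t')]
          simp only [mul_assoc]
      _ = sg (ωu ω hω) ^ a * Yg ^ t * (sg (ωu ω hω) ^ a' * (sg (ωu ω hω) ^ (u * t') *
            (Yg ^ t' * Xg ω hω ^ u))) * Xg ω hω ^ u' := by rw [Xg_pow_mul_Yg_pow]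
      _ = sg (ωu ω hω) ^ a * (sg (ωu ω hω) ^ a' * sg (ωu ω hω) ^ (u * t')) * (Yg ^ t * Yg ^ t') *
            (Xg ω hω ^ u * Xg ω hω ^ u') := by
          rw [← mul_assoc (sg (ωu ω hω) ^ a'), ← pow_add, mul_assoc (sg (ωu ω hω) ^ a) (Yg ^ t),
            ← mul_assoc (Yg ^ t) (sg (ωu ω hω) ^ (a' + u * t')), ← sg_pow_comm (ωu ω hω) (a' + u * t') (Yg ^ t)]
          simp only [mul_assoc]
      _ = sg (ωu ω hω) ^ (a + a' + u * t') * Yg ^ (t + t') * Xg ω hω ^ (u + u') := by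
          rw [← pow_add, ← pow_add, ← pow_add, ← pow_add, add_assoc]
  inv_mem' := by
    rintro r ⟨a, t, u, rfl⟩
    refine ⟨2 * a + 2 * u * (2 * t), 2 * t, 2 * u, ?_⟩
    have hX : (Xg ω hω ^ u)⁻¹ = Xg ω hω ^ (2 * u) := by
      rw [inv_eq_iff_mul_eq_one, ← pow_add, show u + 2 * u = 3 * u by ring, pow_mul, Xg_cube, one_pow]
    have hY : ((Yg : GL (Fin 3) F) ^ t)⁻¹ = Yg ^ (2 * t) := by
      rw [inv_eq_iff_mul_eq_one, ← pow_add, show t + 2 * t = 3 * t by ring, pow_mul, Yg_cube, one_pow]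
    have hZ : (sg (ωu ω hω) ^ a)⁻¹ = sg (ωu ω hω) ^ (2 * a) := by
      rw [inv_eq_iff_mul_eq_one, ← pow_add, show a + 2 * a = 3 * a by ring, pow_mul, sgω_cube, one_pow]
    calc (sg (ωu ω hω) ^ a * Yg ^ t * Xg ω hω ^ u)⁻¹
        = Xg ω hω ^ (2 * u) * Yg ^ (2 * t) * sg (ωu ω hω) ^ (2 * a) := by
          rw [_root_.mul_inv_rev, _root_.mul_inv_rev, hX, hY, hZ, mul_assoc]
      _ = sg (ωu ω hω) ^ (2 * u * (2 * t)) * (Yg ^ (2 * t) * Xg ω hω ^ (2 * u)) * sg (ωu ω hω) ^ (2 * a) := by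
          rw [Xg_pow_mul_Yg_pow]
      _ = sg (ωu ω hω) ^ (2 * a) * (sg (ωu ω hω) ^ (2 * u * (2 * t)) * (Yg ^ (2 * t) * Xg ω hω ^ (2 * u))) := by
          rw [sg_pow_comm (ωu ω hω) (2 * a)]
      _ = sg (ωu ω hω) ^ (2 * a + 2 * u * (2 * t)) * Yg ^ (2 * t) * Xg ω hω ^ (2 * u) := by
          rw [pow_add]
          simp only [mul_assoc]

/-- **U23-D1**: normal form of the elements of `R0 = ⟨Xg, Yg⟩` (any field). -/
theorem R0_normal_form (ω : F) (hω : ω ^ 2 + ω + 1 = 0) (r : GL (Fin 3) F) (hr : r ∈ R0 ω hω) :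
    ∃ a t u : ℕ, r = sg (ωu ω hω) ^ a * Yg ^ t * Xg ω hω ^ u := by
  have hle : R0 ω hω ≤ nfSub ω hω := by
    unfold R0
    rw [Subgroup.closure_le]
    rintro x hx
    rcases hx with rfl | hx
    · exact ⟨0, 0, 1, by simp⟩
    · rw [Set.mem_singleton_iff] at hx
      subst hx
      exact ⟨0, 1, 0, by simp⟩
  exact hle hr

end Cfsg.Agent.Helper7.Ex27
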