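import Mathlib
import Cfsg.Agent.Helper7.ExSpB

set_option autoImplicit false
set_option linter.unusedSectionVars false
set_option linter.unusedVariables false

/-!
# Normalisers of extraspecial groups: the bound `3n/4`, and the two-translate argument
-/

namespace Cfsg.Agent.Helper7.ExSp

open Module Matrix Cfsg.Agent.Helper7.LOrd

variable {F : Type*} [Field F] {n : ℕ} {R : Subgroup (GL (Fin n) F)} {r : ℕ}

/-- `g` normalises `H`. -/
def Nrm (R : Subgroup (GL (Fin n) F)) (g : GL (Fin n) F) : Prop :=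
  ∀ u, u ∈ HH R ↔ g * u * g⁻¹ ∈ HH R

theorem Nrm.conj_mem {g : GL (Fin n) F} (hg : Nrm R g) {u : GL (Fin n) F} (hu : u ∈ HH R) :
    g⁻¹ * u * g ∈ HH R := by
  rw [hg]
  have : g * (g⁻¹ * u * g) * g⁻¹ = u := by
    simp only [mul_assoc, mul_inv_cancel, mul_one, mul_inv_cancel_left]
  rwa [this]

theorem Nrm.conj_mem' {g : GL (Fin n) F} (hg : Nrm R g) {u : GL (Fin n) F} (hu : u ∈ HH R) :
    g * u * g⁻¹ ∈ HH R := (hg u).mp hu

theorem Nrm.pow {g : GL (Fin n) F} (hg : Nrm R g) (k : ℕ) : Nrm R (g ^ k) := by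
  induction k with
  | zero =>
    intro u
    simp
  | succ k ih =>
    intro u
    rw [ih u, hg (g ^ k * u * (g ^ k)⁻¹)]
    have : g * (g ^ k * u * (g ^ k)⁻¹) * g⁻¹ = g ^ (k + 1) * u * (g ^ (k + 1))⁻¹ := by
      rw [pow_succ', _root_.mul_inv_rev]
      simp only [mul_assoc]
    rw [this]

theorem eig_zero_eq_bot (g : GL (Fin n) F) : Module.End.eigenspace (act g) 0 = ⊥ := by
  rw [eq_bot_iff]
  intro v hv
  rw [Module.End.mem_eigenspace_iff, zero_smul] at hv
  rw [Submodule.mem_bot]
  by_contra hv0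
  exact act_ne_zero g hv0 hv

/-- the case where `g` centralises `R` modulo scalars. -/
theorem ES.two_mul_le_of_central (hE : ES R r) {g : GL (Fin n) F} (hns : g ∉ Cfsg.Geo.scalars (Fin n) F)
    (hA : ∀ x ∈ R, g⁻¹ * x * g * x⁻¹ ∈ Cfsg.Geo.scalars (Fin n) F) (c : F) :
    2 * finrank F ↥(Module.End.eigenspace (act g) c) ≤ n := by
  by_cases hc : c = 0
  · rw [hc, eig_zero_eq_bot, finrank_bot]
    omega
  -- for each x, QC μ g x
  have hq : ∀ x ∈ R, ∃ μ : Fˣ, QC μ g x := by
    intro x hx
    obtain ⟨μ, hμ⟩ := (mem_scalars_iff_sc _).mp (hA x hx)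
    refine ⟨μ⁻¹, ?_⟩
    -- g⁻¹ x g x⁻¹ = μ  ⟹ x g = μ g x
    have h1 : x * g = sc μ * (g * x) := by
      have h2 := congrArg (fun t => g * (t * x)) hμ
      simp only [mul_assoc, inv_mul_cancel, mul_one, mul_inv_cancel_left] at h2
      rw [h2, sc_left_comm]
    exact (show QC μ x g from h1).symm
  by_cases hall : ∀ x ∈ R, QC 1 g x
  · -- W is R-invariant
    have hinv : ∀ x ∈ R, (Module.End.eigenspace (act g) c).map (act x) ≤ Module.End.eigenspace (act g) c := by
      intro x hx
      have := map_eig_le (hall x hx) c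
      rwa [Units.val_one, one_mul] at this
    rcases hE.irr _ hinv with h | h
    · rw [h, finrank_bot]
      omega
    · exfalso
      apply hns
      rw [mem_scalars_iff_sc]
      refine ⟨Units.mk0 c hc, ?_⟩
      apply act_inj
      rw [act_sc]
      apply LinearMap.ext
      intro v
      have hv : v ∈ Module.End.eigenspace (act g) c := by rw [h]; trivial
      rw [Module.End.mem_eigenspace_iff] at hv
      rw [hv]
      rfl
  · push Not at hall
    obtain ⟨x, hx, hx1⟩ := hall
    obtain ⟨μ, hμ⟩ := hq x hx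
    have hμ1 : μ ≠ 1 := by
      intro h
      rw [h] at hμ
      exact hx1 hμ
    have h1 := finrank_eig_le hμ c
    have hinj : Function.Injective (fun b : Bool => if b then c else (μ : F) * c) := by
      intro b b' h
      have hne : (μ : F) * c ≠ c := by
        intro h'
        have : ((μ : F) - 1) * c = 0 := by rw [sub_mul, h', one_mul, sub_self]
        rcases mul_eq_zero.mp this with h2 | h2
        · exact hμ1 (Units.ext (by rw [Units.val_one]; exact sub_eq_zero.mp h2))
        · exact hc h2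
      cases b <;> cases b' <;> simp_all
    have h2 := sum_finrank_inf_eig_le (act g) ⊤ _ hinj
    rw [finrank_top, finrank_pi] at h2
    rw [Fintype.sum_bool] at h2
    have e1 : (⊤ : Submodule F (Fin n → F)) ⊓ Module.End.eigenspace (act g) (if true = true then c else (μ : F) * c) =
        Module.End.eigenspace (act g) c := by rw [top_inf_eq, if_pos rfl]
    have e2 : (⊤ : Submodule F (Fin n → F)) ⊓ Module.End.eigenspace (act g) (if false = true then c else (μ : F) * c) =
        Module.End.eigenspace (act g) ((μ : F) * c) := by rw [top_inf_eq, if_neg (by simp)]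
    rw [e1, e2] at h2
    omega

/-- two translates of an eigenspace. -/
theorem inf_map_le_fix {g : GL (Fin n) F} {c : F} (hc : c ≠ 0) (x : GL (Fin n) F) :
    Module.End.eigenspace (act g) c ⊓ (Module.End.eigenspace (act g) c).map (act x) ≤
      Module.End.eigenspace (act (g⁻¹ * x * g * x⁻¹)) 1 := by
  rintro v ⟨hv, w, hw, rfl⟩
  rw [SetLike.mem_coe, Module.End.mem_eigenspace_iff] at hv hw
  rw [Module.End.mem_eigenspace_iff, one_smul, act_mul_apply, act_inv_apply, act_mul_apply, act_mul_apply, hw,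
    map_smul, map_smul]
  -- c • g⁻¹ (x w) = x w, from g (x w) = c • x w
  have h1 : act g⁻¹ (act g (act x w)) = act g⁻¹ (c • act x w) := by rw [hv]
  rw [act_inv_apply, map_smul] at h1
  exact h1.symm

theorem finrank_map_act (x : GL (Fin n) F) (W : Submodule F (Fin n → F)) :
    finrank F ↥(W.map (act x)) = finrank F ↥W := by
  have h2 : W.map (act x) = W.map (actE x : (Fin n → F) →ₗ[F] (Fin n → F)) := rfl
  rw [h2, LinearEquiv.finrank_map_eq]

theorem two_mul_le_add_inf (W W' : Submodule F (Fin n → F)) (h : finrank F ↥W' = finrank F ↥W) :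
    2 * finrank F ↥W ≤ n + finrank F ↥(W ⊓ W') := by
  have h1 := Submodule.finrank_sup_add_finrank_inf_eq W W'
  have h2 : finrank F ↥(W ⊔ W') ≤ n := by
    have := Submodule.finrank_le (W ⊔ W')
    rwa [finrank_pi] at this
  omega

/-- **the bound `3n/4`.** -/
theorem ES.four_mul_le (hE : ES R r) {g : GL (Fin n) F} (hg : Nrm R g)
    (hns : g ∉ Cfsg.Geo.scalars (Fin n) F) (c : F) :
    4 * finrank F ↥(Module.End.eigenspace (act g) c) ≤ 3 * n := by
  by_cases hA : ∀ x ∈ R, g⁻¹ * x * g * x⁻¹ ∈ Cfsg.Geo.scalars (Fin n) F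
  · have := hE.two_mul_le_of_central hns hA c
    omega
  · push Not at hA
    obtain ⟨x, hx, hxns⟩ := hA
    by_cases hc : c = 0
    · rw [hc, eig_zero_eq_bot, finrank_bot]
      omega
    have hy : g⁻¹ * x * g * x⁻¹ ∈ HH R :=
      (HH R).mul_mem (hg.conj_mem (mem_HH_of_mem hx)) ((HH R).inv_mem (mem_HH_of_mem hx))
    have h1 := hE.r_mul_finrank_eig_le hy hxns 1
    have h2 := two_mul_le_add_inf (Module.End.eigenspace (act g) c)
      ((Module.End.eigenspace (act g) c).map (act x)) (finrank_map_act x _)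
    have h3 := Submodule.finrank_mono (inf_map_le_fix (g := g) hc x)
    have hr2 := hE.rp.two_le
    set d := finrank F ↥(Module.End.eigenspace (act g) c)
    set e := finrank F ↥(Module.End.eigenspace (act (g⁻¹ * x * g * x⁻¹)) 1)
    have h4 : 2 * d ≤ n + e := le_trans h2 (by omega)
    -- r e ≤ n, 2 d ≤ n + e ⟹ 4 d ≤ 3 n
    have h5 : 2 * e ≤ n := by nlinarith
    omega

end Cfsg.Agent.Helper7.ExSp
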