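import Mathlib
import Cfsg.Agent.Helper7.ExSpC

set_option autoImplicit false
set_option linter.unusedSectionVars false
set_option linter.unusedVariables false

/-!
# Normalisers of extraspecial groups: elements of odd prime order different from `r`
-/

namespace Cfsg.Agent.Helper7.ExSp

open Module Matrix Cfsg.Agent.Helper7.LOrd

variable {F : Type*} [Field F] {n : ℕ} {R : Subgroup (GL (Fin n) F)} {r : ℕ}

/-- `g^{-i} x g^i`. -/
def conjp (g : GL (Fin n) F) (i : ℕ) (x : GL (Fin n) F) : GL (Fin n) F := (g ^ i)⁻¹ * x * g ^ i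

theorem conjp_zero (g x : GL (Fin n) F) : conjp g 0 x = x := by
  unfold conjp
  simp

theorem conjp_one (g x : GL (Fin n) F) : conjp g 1 x = g⁻¹ * x * g := by
  unfold conjp
  simp

theorem conjp_add (g x : GL (Fin n) F) (i k : ℕ) : conjp g (i + k) x = (g ^ i)⁻¹ * conjp g k x * g ^ i := by
  unfold conjp
  rw [add_comm i k, pow_add, _root_.mul_inv_rev]
  simp only [mul_assoc]

theorem conjp_of_pow_eq_one {g : GL (Fin n) F} {m : ℕ} (hg : g ^ m = 1) (x : GL (Fin n) F) : conjp g m x = x := by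
  unfold conjp
  rw [hg]
  simp

theorem conjp_mem {g : GL (Fin n) F} (hg : Nrm R g) (i : ℕ) {x : GL (Fin n) F} (hx : x ∈ HH R) :
    conjp g i x ∈ HH R := (hg.pow i).conj_mem hx

theorem eig_pow_apply {g : GL (Fin n) F} {c : F} {w : Fin n → F}
    (hw : w ∈ Module.End.eigenspace (act g) c) (i : ℕ) : act (g ^ i) w = c ^ i • w := by
  rw [Module.End.mem_eigenspace_iff] at hw
  induction i with
  | zero => simp [act_one]
  | succ i ih => rw [pow_succ, act_mul_apply, hw, map_smul, ih, smul_smul, pow_succ, mul_comm]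

theorem eig_pow_inv_apply {g : GL (Fin n) F} {c : F} (hc : c ≠ 0) {w : Fin n → F}
    (hw : w ∈ Module.End.eigenspace (act g) c) (i : ℕ) : act (g ^ i)⁻¹ w = (c ^ i)⁻¹ • w := by
  have h1 : act (g ^ i)⁻¹ (act (g ^ i) w) = act (g ^ i)⁻¹ (c ^ i • w) := by rw [eig_pow_apply hw]
  rw [act_inv_apply, map_smul] at h1
  have h2 : (c ^ i)⁻¹ • w = (c ^ i)⁻¹ • (c ^ i • (act (g ^ i)⁻¹) w) := by rw [← h1]
  rw [smul_smul, inv_mul_cancel₀ (pow_ne_zero i hc), one_smul] at h2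
  exact h2.symm

/-- if the eigenspace is larger than half, all the `g^{-i} x g^i x⁻¹` have a common fixed vector. -/
theorem exists_common_fix {g : GL (Fin n) F} {c : F}
    (hd : n < 2 * finrank F ↥(Module.End.eigenspace (act g) c)) (x : GL (Fin n) F) :
    ∃ v₀ : Fin n → F, v₀ ≠ 0 ∧ ∀ i : ℕ, act (conjp g i x * x⁻¹) v₀ = v₀ := by
  have hc : c ≠ 0 := by
    intro h
    rw [h, eig_zero_eq_bot, finrank_bot] at hd
    omega
  have h1 := two_mul_le_add_inf (Module.End.eigenspace (act g) c)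
    ((Module.End.eigenspace (act g) c).map (act x⁻¹)) (finrank_map_act x⁻¹ _)
  have h2 : 0 < finrank F ↥(Module.End.eigenspace (act g) c ⊓ (Module.End.eigenspace (act g) c).map (act x⁻¹)) := by
    omega
  rw [Module.finrank_pos_iff_exists_ne_zero] at h2
  obtain ⟨⟨w, hw1, w', hw', hww'⟩, hw0⟩ := h2
  have hw0' : w ≠ 0 := fun h => hw0 (Subtype.ext h)
  have hxw : act x w = w' := by rw [← hww', act_apply_inv]
  refine ⟨act x w, act_ne_zero x hw0', ?_⟩
  intro i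
  unfold conjp
  rw [act_mul_apply, act_inv_apply, act_mul_apply, act_mul_apply, eig_pow_apply hw1, map_smul, map_smul, hxw,
    eig_pow_inv_apply hc hw', smul_smul, mul_inv_cancel₀ (pow_ne_zero i hc), one_smul]

/-- the elements `g^{-i} x g^i x⁻¹` then commute pairwise. -/
theorem ES.commute_conjp (hE : ES R r) {g : GL (Fin n) F} (hg : Nrm R g) {c : F}
    (hd : n < 2 * finrank F ↥(Module.End.eigenspace (act g) c)) {x : GL (Fin n) F} (hx : x ∈ HH R) (i j : ℕ) :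
    (conjp g i x * x⁻¹) * (conjp g j x * x⁻¹) = (conjp g j x * x⁻¹) * (conjp g i x * x⁻¹) := by
  obtain ⟨v₀, hv₀, hfix⟩ := exists_common_fix hd x
  exact hE.commute_of_fix ((HH R).mul_mem (conjp_mem hg i hx) ((HH R).inv_mem hx))
    ((HH R).mul_mem (conjp_mem hg j hx) ((HH R).inv_mem hx)) hv₀ (hfix i) (hfix j)

/-- the pairing `x ↦ B(x, g^{-k} x g^k)` is multiplicative in `k`. -/
theorem ES.exists_phi (hE : ES R r) {g : GL (Fin n) F} (hg : Nrm R g) {c : F}
    (hd : n < 2 * finrank F ↥(Module.End.eigenspace (act g) c)) {x : GL (Fin n) F} (hx : x ∈ HH R) :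
    ∃ ζ : Fˣ, ζ ^ r = 1 ∧ ∀ k : ℕ, QC (ζ ^ k) x (conjp g k x) := by
  have hφ : ∀ k : ℕ, ∃ ζ : Fˣ, ζ ^ r = 1 ∧ QC ζ x (conjp g k x) := fun k => hE.commH hx (conjp_mem hg k hx)
  choose φ hφr hφq using hφ
  have hadd : ∀ i k : ℕ, φ (i + k) = φ k * φ i := by
    intro i k
    -- QC (φ k) (x_i) (x_{i+k})
    have h1 : QC (φ k) (conjp g i x) (conjp g (i + k) x) := by
      rw [conjp_add]
      exact (hφq k).conj (g ^ i)
    have h2 : QC (φ i) (conjp g i x) x⁻¹ := by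
      have := (hφq i).symm.inv_right
      rwa [inv_inv] at this
    have h3 : QC (φ k * φ i) (conjp g i x) (conjp g (i + k) x * x⁻¹) := h1.mul_right h2
    have h4 : QC (φ (i + k))⁻¹ x⁻¹ (conjp g (i + k) x) := (hφq (i + k)).inv_left
    have h5 : QC ((φ (i + k))⁻¹ * 1) x⁻¹ (conjp g (i + k) x * x⁻¹) := h4.mul_right (QC.self x⁻¹)
    have h6 := h3.mul_left h5
    have h7 := QC.of_commute (hE.commute_conjp hg hd hx i (i + k))
    have h8 := QC.unique hE.pos h6 h7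
    rw [mul_one] at h8
    exact (mul_inv_eq_one.mp h8).symm
  have h0 : φ 0 = 1 := by
    have h1 := hφq 0
    rw [conjp_zero] at h1
    exact QC.unique hE.pos h1 (QC.self x)
  have hpow : ∀ k : ℕ, φ k = φ 1 ^ k := by
    intro k
    induction k with
    | zero => rw [h0, pow_zero]
    | succ k ih => rw [hadd k 1, ih, pow_succ']
  refine ⟨φ 1, hφr 1, fun k => ?_⟩
  rw [← hpow]
  exact hφq k

/-- for `g` of order prime to `r`: `x` commutes with `g⁻¹ x g`. -/
theorem ES.qc_conj_self (hE : ES R r) {g : GL (Fin n) F} (hg : Nrm R g) {ϖ : ℕ} (hgϖ : g ^ ϖ = 1)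
    (hcop : Nat.Coprime ϖ r) {c : F}
    (hd : n < 2 * finrank F ↥(Module.End.eigenspace (act g) c)) {x : GL (Fin n) F} (hx : x ∈ HH R) :
    QC 1 x (g⁻¹ * x * g) := by
  obtain ⟨ζ, hζr, hζ⟩ := hE.exists_phi hg hd hx
  have h1 := hζ ϖ
  rw [conjp_of_pow_eq_one hgϖ] at h1
  have h2 : ζ ^ ϖ = 1 := QC.unique hE.pos h1 (QC.self x)
  have h3 : ζ = 1 := by
    have hd1 : orderOf ζ ∣ ϖ := orderOf_dvd_of_pow_eq_one h2
    have hd2 : orderOf ζ ∣ r := orderOf_dvd_of_pow_eq_one hζr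
    have := Nat.eq_one_of_dvd_coprimes hcop hd1 hd2
    exact orderOf_eq_one_iff.mp this
  have h4 := hζ 1
  rwa [conjp_one, h3, pow_one] at h4

/-- polarisation: `g²` centralises `R` modulo scalars. -/
theorem ES.central_sq (hE : ES R r) {g : GL (Fin n) F} (hg : Nrm R g)
    (hself : ∀ x ∈ R, QC 1 x (g⁻¹ * x * g)) :
    ∀ y ∈ R, (g ^ 2)⁻¹ * y * g ^ 2 * y⁻¹ ∈ Cfsg.Geo.scalars (Fin n) F := by
  intro y hy
  have hyH := mem_HH_of_mem (R := R) hy
  have ht : (g⁻¹ * y * g) * (g * y * g⁻¹)⁻¹ ∈ Cfsg.Geo.scalars (Fin n) F := by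
    apply hE.cent
    intro x hx
    have hxH := mem_HH_of_mem (R := R) hx
    obtain ⟨α, -, hα⟩ := hE.commH hxH (hg.conj_mem hyH)
    obtain ⟨β, -, hβ⟩ := hE.commH hyH (hg.conj_mem hxH)
    have h1 : QC (1 * α) x ((g⁻¹ * x * g) * (g⁻¹ * y * g)) := (hself x hx).mul_right hα
    have h2 : QC (β * 1) y ((g⁻¹ * x * g) * (g⁻¹ * y * g)) := hβ.mul_right (hself y hy)
    have h3 := h1.mul_left h2
    have h4 := hself (x * y) (R.mul_mem hx hy)
    have e1 : g⁻¹ * (x * y) * g = (g⁻¹ * x * g) * (g⁻¹ * y * g) := by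
      simp only [mul_assoc, mul_inv_cancel_left]
    rw [e1] at h4
    have h5 := QC.unique hE.pos h3 h4
    rw [one_mul, mul_one] at h5
    have h6 := hβ.conj g⁻¹
    rw [inv_inv] at h6
    have e2 : g * (g⁻¹ * x * g) * g⁻¹ = x := by
      simp only [mul_assoc, mul_inv_cancel_left, mul_inv_cancel, mul_one]
    rw [e2] at h6
    have h7 : QC β x (g * y * g⁻¹)⁻¹ := by
      have := h6.symm.inv_right
      rwa [inv_inv] at this
    have h8 := hα.mul_right h7
    rw [h5] at h8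
    exact h8.commute.symm
  obtain ⟨σ, hσ⟩ := (mem_scalars_iff_sc _).mp ht
  have e3 : (g ^ 2)⁻¹ * y * g ^ 2 * y⁻¹ = g⁻¹ * ((g⁻¹ * y * g) * (g * y * g⁻¹)⁻¹) * g := by
    rw [pow_two, _root_.mul_inv_rev, _root_.mul_inv_rev, _root_.mul_inv_rev, inv_inv]
    simp only [mul_assoc, inv_mul_cancel, mul_one]
  rw [e3, hσ, ← sc_comm, mul_assoc, inv_mul_cancel, mul_one]
  exact sc_mem σ

theorem central_pow {h : GL (Fin n) F}
    (hK : ∀ y ∈ R, h⁻¹ * y * h * y⁻¹ ∈ Cfsg.Geo.scalars (Fin n) F) (k : ℕ) :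
    ∀ y ∈ R, (h ^ k)⁻¹ * y * h ^ k * y⁻¹ ∈ Cfsg.Geo.scalars (Fin n) F := by
  induction k with
  | zero =>
    intro y _
    simp only [pow_zero, inv_one, one_mul, mul_one, mul_inv_cancel]
    exact (Cfsg.Geo.scalars (Fin n) F).one_mem
  | succ k ih =>
    intro y hy
    obtain ⟨σ, hσ⟩ := (mem_scalars_iff_sc _).mp (ih y hy)
    have h1 : (h ^ k)⁻¹ * y * h ^ k = sc σ * y := by
      rw [← hσ]
      simp only [mul_assoc, inv_mul_cancel, mul_one]
    have e : (h ^ (k + 1))⁻¹ * y * h ^ (k + 1) * y⁻¹ = h⁻¹ * ((h ^ k)⁻¹ * y * h ^ k) * h * y⁻¹ := by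
      rw [pow_succ, _root_.mul_inv_rev]
      simp only [mul_assoc]
    rw [e, h1]
    have e2 : h⁻¹ * (sc σ * y) * h * y⁻¹ = sc σ * (h⁻¹ * y * h * y⁻¹) := by
      rw [sc_left_comm]
      simp only [mul_assoc]
    rw [e2]
    exact (Cfsg.Geo.scalars (Fin n) F).mul_mem (sc_mem σ) (hK y hy)

/-- **elements of odd prime order different from `r`: the bound `n/2`.** -/
theorem ES.two_mul_le_of_coprime (hE : ES R r) {g : GL (Fin n) F} (hg : Nrm R g)
    (hns : g ∉ Cfsg.Geo.scalars (Fin n) F) {ϖ : ℕ} (hgϖ : g ^ ϖ = 1) (hodd : Odd ϖ)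
    (hcop : Nat.Coprime ϖ r) (c : F) :
    2 * finrank F ↥(Module.End.eigenspace (act g) c) ≤ n := by
  by_contra hcon
  rw [not_le] at hcon
  have hself : ∀ x ∈ R, QC 1 x (g⁻¹ * x * g) := fun x hx =>
    hE.qc_conj_self hg hgϖ hcop hcon (mem_HH_of_mem hx)
  have hK2 := hE.central_sq hg hself
  obtain ⟨m, hm⟩ := hodd
  have hK := central_pow hK2 (m + 1)
  have e : (g ^ 2) ^ (m + 1) = g := by
    rw [← pow_mul]
    have : 2 * (m + 1) = ϖ + 1 := by omega
    rw [this, pow_succ, hgϖ, one_mul]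
  rw [e] at hK
  have := hE.two_mul_le_of_central hns hK c
  omega

end Cfsg.Agent.Helper7.ExSp
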