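import Mathlib
import Cfsg.Agent.Helper7.ExSpD

set_option autoImplicit false
set_option linter.unusedSectionVars false
set_option linter.unusedVariables false

/-!
# Normalisers of extraspecial groups: joint eigenspaces of `g` and a commuting commutator `a = [g, x]`
-/

namespace Cfsg.Agent.Helper7.ExSp

open Module Matrix Cfsg.Agent.Helper7.LOrd

variable {F : Type*} [Field F] {n : ℕ} {R : Subgroup (GL (Fin n) F)} {r : ℕ}

/-- the joint eigenspace. -/
noncomputable def JJ (g a : GL (Fin n) F) (γ η : F) : Submodule F (Fin n → F) :=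
  Module.End.eigenspace (act g) γ ⊓ Module.End.eigenspace (act a) η

theorem mem_JJ {g a : GL (Fin n) F} {γ η : F} {v : Fin n → F} :
    v ∈ JJ g a γ η ↔ act g v = γ • v ∧ act a v = η • v := by
  unfold JJ
  rw [Submodule.mem_inf, Module.End.mem_eigenspace_iff, Module.End.mem_eigenspace_iff]

/-- the shift of joint eigenspaces by `x`. -/
theorem finrank_JJ_shift {g a x : GL (Fin n) F} {ζ₁ : Fˣ} (hR1 : g * a * x = x * g) (hR2 : QC ζ₁ a x)
    (γ η : Fˣ) :
    finrank F ↥(JJ g a (γ : F) (η : F)) = finrank F ↥(JJ g a ((γ * η : Fˣ) : F) ((ζ₁⁻¹ * η : Fˣ) : F)) := by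
  have hR2' : a * x⁻¹ = sc ζ₁⁻¹ * (x⁻¹ * a) := hR2.inv_right
  have hR1' : g * x⁻¹ = x⁻¹ * g * a := by
    have h := congrArg (fun t => x⁻¹ * t * x⁻¹) hR1
    simp only [mul_assoc, mul_inv_cancel, mul_one, inv_mul_cancel_left] at h
    rw [← h]
    simp only [mul_assoc]
  apply le_antisymm
  · have h1 : (JJ g a (γ : F) (η : F)).map (act x⁻¹) ≤ JJ g a ((γ * η : Fˣ) : F) ((ζ₁⁻¹ * η : Fˣ) : F) := by
      rintro - ⟨v, hv, rfl⟩
      rw [SetLike.mem_coe, mem_JJ] at hv
      rw [mem_JJ]
      constructor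
      · rw [← act_mul_apply, hR1', act_mul_apply, act_mul_apply, hv.2, map_smul, hv.1, smul_smul, map_smul,
          Units.val_mul, mul_comm]
      · rw [← act_mul_apply, hR2', act_mul_apply, act_sc_apply, act_mul_apply, hv.2, map_smul, smul_smul,
          Units.val_mul]
    have h2 := Submodule.finrank_mono h1
    rwa [finrank_map_act] at h2
  · have h1 : (JJ g a ((γ * η : Fˣ) : F) ((ζ₁⁻¹ * η : Fˣ) : F)).map (act x) ≤ JJ g a (γ : F) (η : F) := by
      rintro - ⟨v, hv, rfl⟩
      rw [SetLike.mem_coe, mem_JJ] at hv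
      rw [mem_JJ]
      have ha : act a (act x v) = (η : F) • act x v := by
        rw [← act_mul_apply, hR2, act_mul_apply, act_sc_apply, act_mul_apply, hv.2, map_smul, smul_smul,
          ← Units.val_mul, ← mul_assoc, mul_inv_cancel, one_mul]
      refine ⟨?_, ha⟩
      have h3 : act (g * a * x) v = act (x * g) v := by rw [hR1]
      rw [act_mul_apply, act_mul_apply, ha, map_smul, act_mul_apply, hv.1, map_smul, Units.val_mul] at h3
      -- η • g (x v) = (γ η) • x v
      have h4 : (η : F)⁻¹ • ((η : F) • act g (act x v)) = (η : F)⁻¹ • (((γ : F) * (η : F)) • act x v) := by rw [h3]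
      rw [smul_smul, smul_smul, inv_mul_cancel₀ η.ne_zero, one_smul, mul_comm (γ : F), ← mul_assoc,
        inv_mul_cancel₀ η.ne_zero, one_mul] at h4
      exact h4
    have h2 := Submodule.finrank_mono h1
    rwa [finrank_map_act] at h2

variable {g a x : GL (Fin n) F}

/-- decomposition of an eigenspace of `g` along the eigenspaces of `a`. -/
theorem finrank_eig_eq_sum_JJ (hr : r.Prime) (har : a ^ r = 1) (hga : g * a = a * g) {ξ : Fˣ} (hξ : ξ ^ r = 1)
    (hξ1 : ξ ≠ 1) (c : F) :
    finrank F ↥(Module.End.eigenspace (act g) c) = ∑ k : Fin r, finrank F ↥(JJ g a c ((ξ ^ (k : ℕ) : Fˣ) : F)) := by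
  have hT : act a ^ r = 1 := by rw [← act_pow, har, act_one]
  have hξ' : (ξ : F) ^ r = 1 := by rw [← Units.val_pow_eq_pow_val, hξ, Units.val_one]
  have hξ1' : (ξ : F) ≠ 1 := fun h => hξ1 (Units.ext h)
  have hW : ∀ w ∈ Module.End.eigenspace (act g) c, act a w ∈ Module.End.eigenspace (act g) c := by
    intro w hw
    rw [Module.End.mem_eigenspace_iff] at hw ⊢
    rw [← act_mul_apply, hga, act_mul_apply, hw, map_smul]
  have := finrank_eq_sum_inf_eig hr hT hξ' hξ1' _ hW
  rw [this]
  apply Finset.sum_congr rfl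
  intro k _
  unfold JJ
  rw [Units.val_pow_eq_pow_val]

/-- joint eigenspaces for distinct eigenvalues of `g` inside an eigenspace of `a`. -/
theorem sum_finrank_JJ_le (g a : GL (Fin n) F) (η : F) {ι : Type*} [Fintype ι] (e : ι → F)
    (he : Function.Injective e) :
    ∑ k, finrank F ↥(JJ g a (e k) η) ≤ finrank F ↥(Module.End.eigenspace (act a) η) := by
  have := sum_finrank_inf_eig_le (act g) (Module.End.eigenspace (act a) η) e he
  refine le_trans (le_of_eq ?_) this
  apply Finset.sum_congr rfl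
  intro k _
  unfold JJ
  rw [inf_comm]

/-- **the commuting sub-case:** `x` commutes with `a`. -/
theorem ES.bound_commuting (hE : ES R r) (har : a ^ r = 1) (hga : g * a = a * g) (haH : a ∈ HH R)
    (hans : a ∉ Cfsg.Geo.scalars (Fin n) F) (hR1 : g * a * x = x * g) (hR2 : QC 1 a x) (c : F) :
    r ^ 2 * finrank F ↥(Module.End.eigenspace (act g) c) ≤ (2 * r - 1) * n := by
  have hr := hE.rp
  by_cases hc : c = 0
  · rw [hc, eig_zero_eq_bot, finrank_bot, mul_zero]
    exact Nat.zero_le _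
  obtain ⟨y, hy, ξ, hξ, hξ1, -⟩ := hE.exists_partner haH hans
  have hξ' : (ξ : F) ^ r = 1 := by rw [← Units.val_pow_eq_pow_val, hξ, Units.val_one]
  have hξ1' : (ξ : F) ≠ 1 := fun h => hξ1 (Units.ext h)
  have hd := finrank_eig_eq_sum_JJ hr har hga hξ hξ1 c
  -- the bound for `η ≠ 1`
  have hne : ∀ k : Fin r, (k : ℕ) ≠ 0 →
      r * finrank F ↥(JJ g a c ((ξ ^ (k : ℕ) : Fˣ) : F)) ≤
        finrank F ↥(Module.End.eigenspace (act a) ((ξ ^ (k : ℕ) : Fˣ) : F)) := by
    intro k hk
    set η : Fˣ := ξ ^ (k : ℕ) with hη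
    have hηr : (η : F) ^ r = 1 := by
      rw [← Units.val_pow_eq_pow_val, hη, ← pow_mul, mul_comm, pow_mul, hξ, one_pow, Units.val_one]
    have hη1 : (η : F) ≠ 1 := by
      intro h
      have h1 : (ξ : F) ^ (k : ℕ) = (ξ : F) ^ 0 := by
        rw [pow_zero, ← h, hη, Units.val_pow_eq_pow_val]
      exact hk ((pow_root_eq_iff hr hξ' hξ1' k.2 hr.pos).mp h1)
    have hshift : ∀ i : ℕ, finrank F ↥(JJ g a c (η : F)) =
        finrank F ↥(JJ g a (((Units.mk0 c hc) * η ^ i : Fˣ) : F) (η : F)) := by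
      intro i
      induction i with
      | zero => rw [pow_zero, mul_one, Units.val_mk0]
      | succ i ih =>
        rw [ih, finrank_JJ_shift hR1 hR2 (Units.mk0 c hc * η ^ i) η, inv_one, one_mul, mul_assoc, ← pow_succ]
    have hinj : Function.Injective (fun i : Fin r => (((Units.mk0 c hc) * η ^ (i : ℕ) : Fˣ) : F)) := by
      intro i j h
      have h1 : (η : F) ^ (i : ℕ) = (η : F) ^ (j : ℕ) := by
        have h2 : c * (η : F) ^ (i : ℕ) = c * (η : F) ^ (j : ℕ) := by
          simpa [Units.val_mul, Units.val_pow_eq_pow_val] using h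
        exact mul_left_cancel₀ hc h2
      exact pow_root_injective hr hηr hη1 h1
    have h1 := sum_finrank_JJ_le g a (η : F) _ hinj
    have h2 : ∑ i : Fin r, finrank F ↥(JJ g a (((Units.mk0 c hc) * η ^ (i : ℕ) : Fˣ) : F) (η : F)) =
        ∑ i : Fin r, finrank F ↥(JJ g a c (η : F)) :=
      Finset.sum_congr rfl (fun i _ => (hshift (i : ℕ)).symm)
    rw [h2, Finset.sum_const, Finset.card_univ, Fintype.card_fin, smul_eq_mul] at h1
    exact h1
  -- total
  have hinj0 : Function.Injective (fun k : Fin r => (((ξ ^ (k : ℕ) : Fˣ)) : F)) := by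
    intro i j h
    have : (ξ : F) ^ (i : ℕ) = (ξ : F) ^ (j : ℕ) := by
      simpa [Units.val_pow_eq_pow_val] using h
    exact pow_root_injective hr hξ' hξ1' this
  have htot := sum_finrank_inf_eig_le (act a) ⊤ _ hinj0
  rw [finrank_top, finrank_pi] at htot
  have htot' : ∑ k : Fin r, finrank F ↥(Module.End.eigenspace (act a) ((ξ ^ (k : ℕ) : Fˣ) : F)) ≤ n := by
    refine le_trans (le_of_eq ?_) htot
    apply Finset.sum_congr rfl
    intro k _
    rw [top_inf_eq]
  have he1 := hE.r_mul_finrank_eig_le haH hans 1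
  set e₁ := finrank F ↥(Module.End.eigenspace (act a) 1) with he₁
  have hterm : ∀ k : Fin r, r * finrank F ↥(JJ g a c ((ξ ^ (k : ℕ) : Fˣ) : F)) ≤
      finrank F ↥(Module.End.eigenspace (act a) ((ξ ^ (k : ℕ) : Fˣ) : F)) +
        (if k = ⟨0, hr.pos⟩ then (r - 1) * e₁ else 0) := by
    intro k
    by_cases hk : (k : ℕ) = 0
    · have hk' : k = ⟨0, hr.pos⟩ := Fin.ext hk
      rw [if_pos hk', hk, pow_zero, Units.val_one]
      have : finrank F ↥(JJ g a c 1) ≤ e₁ := Submodule.finrank_mono inf_le_right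
      have h2 : r * finrank F ↥(JJ g a c 1) ≤ r * e₁ := Nat.mul_le_mul_left r this
      have h3 : r * e₁ = e₁ + (r - 1) * e₁ := by
        have := hr.pos
        obtain ⟨m, rfl⟩ : ∃ m, r = m + 1 := ⟨r - 1, by omega⟩
        simp only [Nat.add_sub_cancel]
        ring
      omega
    · have hk' : k ≠ ⟨0, hr.pos⟩ := fun h => hk (by rw [h])
      rw [if_neg hk', add_zero]
      exact hne k hk
  have hsum := Finset.sum_le_sum (fun k _ => hterm k) (s := Finset.univ)
  rw [← Finset.mul_sum, ← hd, Finset.sum_add_distrib, Finset.sum_ite_eq' Finset.univ, if_pos (Finset.mem_univ _)] at hsum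
  -- r d ≤ n + (r-1) e₁,  r e₁ ≤ n
  set d := finrank F ↥(Module.End.eigenspace (act g) c)
  have h4 : r * d ≤ n + (r - 1) * e₁ := le_trans hsum (by omega)
  have h5 : r * (r * d) ≤ r * (n + (r - 1) * e₁) := Nat.mul_le_mul_left r h4
  have h6 : r * ((r - 1) * e₁) ≤ (r - 1) * n := by
    calc r * ((r - 1) * e₁) = (r - 1) * (r * e₁) := by ring
      _ ≤ (r - 1) * n := Nat.mul_le_mul_left _ he1
  have h7 : (2 * r - 1) * n = r * n + (r - 1) * n := by
    have := hr.pos
    obtain ⟨m, rfl⟩ : ∃ m, r = m + 1 := ⟨r - 1, by omega⟩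
    have e : 2 * (m + 1) - 1 = (m + 1) + m := by omega
    rw [e]
    simp only [Nat.add_sub_cancel]
    ring
  rw [h7, pow_two, mul_assoc]
  calc r * (r * d) ≤ r * (n + (r - 1) * e₁) := h5
    _ = r * n + r * ((r - 1) * e₁) := by ring
    _ ≤ r * n + (r - 1) * n := by omega

end Cfsg.Agent.Helper7.ExSp
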