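import Mathlib
import Cfsg.Agent.Helper7.ExSpE

set_option autoImplicit false
set_option linter.unusedSectionVars false
set_option linter.unusedVariables false

/-!
# Normalisers of extraspecial groups: the non-commuting sub-case
-/

namespace Cfsg.Agent.Helper7.ExSp

open Module Matrix Cfsg.Agent.Helper7.LOrd

/-- triangular numbers. -/
def tri : ℕ → ℕ
  | 0 => 0
  | (j + 1) => tri j + (j + 1)

theorem tri_zero : tri 0 = 0 := rfl

theorem tri_succ (j : ℕ) : tri (j + 1) = tri j + (j + 1) := rfl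

theorem two_mul_tri (j : ℕ) : 2 * tri j = j * (j + 1) := by
  induction j with
  | zero => simp [tri]
  | succ j ih =>
    unfold tri
    rw [mul_add, ih]
    ring

theorem tri_modEq {r : ℕ} (hr : r.Prime) (hodd : Odd r) {j j' : ℕ} (hj : j < r) (hj' : j' < r)
    (h : tri j ≡ tri j' [MOD r]) : j = j' ∨ j + j' + 1 = r := by
  wlog hle : j' ≤ j generalizing j j'
  · rcases this hj' hj h.symm (by omega) with h1 | h1
    · exact Or.inl h1.symm
    · exact Or.inr (by omega)
  obtain ⟨δ, rfl⟩ := Nat.exists_eq_add_of_le hle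
  have h1 : 2 * tri (j' + δ) = 2 * tri j' + δ * (2 * j' + δ + 1) := by
    rw [two_mul_tri, two_mul_tri]
    ring
  have hle' : tri j' ≤ tri (j' + δ) := by
    have : 0 ≤ δ * (2 * j' + δ + 1) := Nat.zero_le _
    omega
  have h2 : r ∣ tri (j' + δ) - tri j' := (Nat.modEq_iff_dvd' hle').mp h.symm
  have h3 : r ∣ δ * (2 * j' + δ + 1) := by
    have : δ * (2 * j' + δ + 1) = 2 * (tri (j' + δ) - tri j') := by omega
    rw [this]
    exact Dvd.dvd.mul_left h2 2
  rcases (Nat.Prime.dvd_mul hr).mp h3 with h4 | h4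
  · left
    have : δ = 0 := by
      by_contra h0
      have := Nat.le_of_dvd (Nat.pos_of_ne_zero h0) h4
      omega
    omega
  · right
    obtain ⟨t, ht⟩ := h4
    have ht1 : t = 1 := by
      rcases Nat.lt_or_ge t 1 with h5 | h5
      · have : t = 0 := by omega
        rw [this] at ht
        omega
      · rcases Nat.lt_or_ge t 2 with h6 | h6
        · omega
        · have : r * 2 ≤ r * t := Nat.mul_le_mul_left r h6
          omega
    rw [ht1, mul_one] at ht
    omega

variable {F : Type*} [Field F] {n : ℕ} {R : Subgroup (GL (Fin n) F)} {r : ℕ} {g a x : GL (Fin n) F}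

/-- sums over a finite set of distinct eigenvalues of `g`. -/
theorem sum_finset_finrank_JJ_le [DecidableEq F] (g a : GL (Fin n) F) (η : F) (S : Finset F) :
    ∑ b ∈ S, finrank F ↥(JJ g a b η) ≤ finrank F ↥(Module.End.eigenspace (act a) η) := by
  have := sum_finrank_JJ_le g a η (fun b : ↥S => (b : F)) Subtype.val_injective
  rwa [Finset.sum_coe_sort S (fun b => finrank F ↥(JJ g a b η))] at this

/-- **the non-commuting sub-case:** `a x = ζ₁ x a` with `ζ₁ ≠ 1`, `r` odd. -/
theorem ES.bound_noncommuting (hE : ES R r) (hodd : Odd r) (har : a ^ r = 1) (hga : g * a = a * g)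
    (haH : a ∈ HH R) (hans : a ∉ Cfsg.Geo.scalars (Fin n) F) (hR1 : g * a * x = x * g) {ζ₁ : Fˣ}
    (hζ₁ : ζ₁ ^ r = 1) (hζ₁1 : ζ₁ ≠ 1) (hR2 : QC ζ₁ a x) (c : F) :
    r * finrank F ↥(Module.End.eigenspace (act g) c) ≤ 2 * n := by
  classical
  have hr := hE.rp
  by_cases hc : c = 0
  · rw [hc, eig_zero_eq_bot, finrank_bot, mul_zero]
    exact Nat.zero_le _
  have hd := finrank_eig_eq_sum_JJ hr har hga hζ₁ hζ₁1 c
  have hord : orderOf ζ₁ = r := by
    have hd' : orderOf ζ₁ ∣ r := orderOf_dvd_of_pow_eq_one hζ₁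
    rcases (Nat.dvd_prime hr).mp hd' with h3 | h3
    · exact absurd (orderOf_eq_one_iff.mp h3) hζ₁1
    · exact h3
  -- reduce to eigenvalue `1` of `a`
  have hshift : ∀ (j : ℕ) (γ : Fˣ), finrank F ↥(JJ g a (γ : F) ((ζ₁ ^ j : Fˣ) : F)) =
      finrank F ↥(JJ g a ((γ * ζ₁ ^ tri j : Fˣ) : F) 1) := by
    intro j
    induction j with
    | zero =>
      intro γ
      rw [tri_zero, pow_zero, mul_one, Units.val_one]
    | succ j ih =>
      intro γ
      rw [finrank_JJ_shift hR1 hR2 γ (ζ₁ ^ (j + 1))]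
      have e1 : ζ₁⁻¹ * ζ₁ ^ (j + 1) = ζ₁ ^ j := by
        rw [pow_succ', ← mul_assoc, inv_mul_cancel, one_mul]
      rw [e1, ih]
      have e2 : γ * ζ₁ ^ (j + 1) * ζ₁ ^ tri j = γ * ζ₁ ^ tri (j + 1) := by
        rw [mul_assoc, ← pow_add, tri_succ, add_comm]
      rw [e2]
  set cu : Fˣ := Units.mk0 c hc with hcu
  have hd2 : finrank F ↥(Module.End.eigenspace (act g) c) =
      ∑ k : Fin r, finrank F ↥(JJ g a ((cu * ζ₁ ^ tri (k : ℕ) : Fˣ) : F) 1) := by
    rw [hd]
    apply Finset.sum_congr rfl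
    intro k _
    have := hshift (k : ℕ) cu
    rw [hcu, Units.val_mk0] at this
    exact this
  -- fibres
  set φ : Fin r → F := fun k => ((cu * ζ₁ ^ tri (k : ℕ) : Fˣ) : F) with hφ
  have hd3 : finrank F ↥(Module.End.eigenspace (act g) c) =
      ∑ b ∈ Finset.univ.image φ, (Finset.univ.filter (fun k => φ k = b)).card • finrank F ↥(JJ g a b 1) := by
    rw [hd2]
    exact Finset.sum_comp (fun b => finrank F ↥(JJ g a b 1)) φ
  have hfib : ∀ b ∈ Finset.univ.image φ, (Finset.univ.filter (fun k => φ k = b)).card ≤ 2 := by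
    intro b hb
    obtain ⟨k₀, -, rfl⟩ := Finset.mem_image.mp hb
    have hk₀ := k₀.2
    have hsub : Finset.univ.filter (fun k => φ k = φ k₀) ⊆ {k₀, ⟨r - 1 - (k₀ : ℕ), by omega⟩} := by
      intro k hk
      rw [Finset.mem_filter] at hk
      have h1 : cu * ζ₁ ^ tri (k : ℕ) = cu * ζ₁ ^ tri (k₀ : ℕ) := Units.ext hk.2
      have h2 : ζ₁ ^ tri (k : ℕ) = ζ₁ ^ tri (k₀ : ℕ) := mul_left_cancel h1
      have h3 : tri (k : ℕ) ≡ tri (k₀ : ℕ) [MOD r] := by
        have := pow_eq_pow_iff_modEq.mp h2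
        rwa [hord] at this
      rw [Finset.mem_insert, Finset.mem_singleton]
      rcases tri_modEq hr hodd k.2 k₀.2 h3 with h4 | h4
      · exact Or.inl (Fin.ext h4)
      · right
        apply Fin.ext
        show (k : ℕ) = r - 1 - (k₀ : ℕ)
        omega
    exact le_trans (Finset.card_le_card hsub) Finset.card_le_two
  have he1 := hE.r_mul_finrank_eig_le haH hans 1
  have h5 : finrank F ↥(Module.End.eigenspace (act g) c) ≤ 2 * finrank F ↥(Module.End.eigenspace (act a) 1) := by
    rw [hd3]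
    calc ∑ b ∈ Finset.univ.image φ, (Finset.univ.filter (fun k => φ k = b)).card • finrank F ↥(JJ g a b 1)
        ≤ ∑ b ∈ Finset.univ.image φ, 2 * finrank F ↥(JJ g a b 1) := by
          apply Finset.sum_le_sum
          intro b hb
          rw [smul_eq_mul]
          exact Nat.mul_le_mul_right _ (hfib b hb)
      _ = 2 * ∑ b ∈ Finset.univ.image φ, finrank F ↥(JJ g a b 1) := by rw [Finset.mul_sum]
      _ ≤ 2 * finrank F ↥(Module.End.eigenspace (act a) 1) :=
          Nat.mul_le_mul_left 2 (sum_finset_finrank_JJ_le g a 1 _)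
  calc r * finrank F ↥(Module.End.eigenspace (act g) c)
      ≤ r * (2 * finrank F ↥(Module.End.eigenspace (act a) 1)) := Nat.mul_le_mul_left r h5
    _ = 2 * (r * finrank F ↥(Module.End.eigenspace (act a) 1)) := by ring
    _ ≤ 2 * n := Nat.mul_le_mul_left 2 he1

end Cfsg.Agent.Helper7.ExSp
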