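import Mathlib
import Cfsg.Agent.Helper7.ExSpF

set_option autoImplicit false
set_option linter.unusedSectionVars false
set_option linter.unusedVariables false

/-!
# Normalisers of extraspecial groups: elements of order `r`
-/

namespace Cfsg.Agent.Helper7.ExSp

open Module Matrix Cfsg.Agent.Helper7.LOrd

/-- in a commutative group of exponent `r` (an odd prime), `κ - 1` is nilpotent for an endomorphism `κ` of
order dividing `r`. -/
theorem nilp_abstract {M : Type*} [CommGroup M] {r : ℕ} (hr : r.Prime) (hodd : Odd r) (hexp : ∀ m : M, m ^ r = 1)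
    (κ : M →* M) (hκ : ∀ m, κ^[r] m = m) (m : M) : (fun u => κ u / u)^[r] m = 1 := by
  let f : AddMonoid.End (Additive M) := MonoidHom.toAdditive κ
  have hfr : f ^ r = 1 := by
    ext a
    rw [AddMonoid.End.coe_pow]
    have : ∀ k : ℕ, (⇑f)^[k] a = Additive.ofMul (κ^[k] a.toMul) := by
      intro k
      induction k generalizing a with
      | zero => rfl
      | succ k ih =>
        rw [Function.iterate_succ_apply, Function.iterate_succ_apply, ih]
        rfl
    rw [this, hκ]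
    rfl
  have hr0 : (r : AddMonoid.End (Additive M)) = 0 := by
    ext a
    rw [AddMonoid.End.natCast_apply]
    show Additive.ofMul (a.toMul ^ r) = 0
    rw [hexp]
    rfl
  obtain ⟨s, hs⟩ := (Commute.neg_one_right f).exists_add_pow_prime_eq hr
  rw [hfr, hodd.neg_one_pow, hr0] at hs
  have hD : (f + -1) ^ r = 0 := by
    rw [hs]
    simp
  have h1 : ((f + -1) ^ r) (Additive.ofMul m) = 0 := by rw [hD]; rfl
  rw [AddMonoid.End.coe_pow] at h1
  have : ∀ (k : ℕ) (a : Additive M), (⇑(f + -1))^[k] a = Additive.ofMul ((fun u => κ u / u)^[k] a.toMul) := by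
    intro k
    induction k with
    | zero => intro a; rfl
    | succ k ih =>
      intro a
      rw [Function.iterate_succ_apply, Function.iterate_succ_apply, ih]
      have e : Additive.toMul ((f + -1) a) = κ (Additive.toMul a) / Additive.toMul a := by
        rw [div_eq_mul_inv]
        rfl
      rw [e]
  rw [this] at h1
  exact h1

variable {F : Type*} [Field F] {n : ℕ} {R : Subgroup (GL (Fin n) F)} {r : ℕ}

/-- if the eigenspace is larger than half: a common fixed vector in the eigenspace. -/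
theorem exists_fix_in_eig {g : GL (Fin n) F} {c : F}
    (hd : n < 2 * finrank F ↥(Module.End.eigenspace (act g) c)) (x : GL (Fin n) F) :
    ∃ v₀ ∈ Module.End.eigenspace (act g) c, v₀ ≠ 0 ∧ act (g⁻¹ * x * g * x⁻¹) v₀ = v₀ := by
  have hc : c ≠ 0 := by
    intro h
    rw [h, eig_zero_eq_bot, finrank_bot] at hd
    omega
  have h1 := two_mul_le_add_inf (Module.End.eigenspace (act g) c)
    ((Module.End.eigenspace (act g) c).map (act x⁻¹)) (finrank_map_act x⁻¹ _)
  have h2 : 0 < finrank F ↥(Module.End.eigenspace (act g) c ⊓ (Module.End.eigenspace (act g) c).map (act x⁻¹)) := by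
    omega
  rw [Module.finrank_pos_iff_exists_ne_zero] at h2
  obtain ⟨⟨w, hw1, w', hw', hww'⟩, hw0⟩ := h2
  have hw0' : w ≠ 0 := fun h => hw0 (Subtype.ext h)
  have hxw : act x w = w' := by rw [← hww', act_apply_inv]
  refine ⟨act x w, by rw [hxw]; exact hw', act_ne_zero x hw0', ?_⟩
  have h3 := eig_pow_apply hw1 1
  have h4 := eig_pow_inv_apply hc hw' 1
  rw [pow_one] at h3 h4
  rw [act_mul_apply, act_inv_apply, act_mul_apply, act_mul_apply, h3, map_smul, map_smul, hxw, h4, pow_one,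
    smul_smul, mul_inv_cancel₀ hc, one_smul]

/-- the stabiliser in `H` of a vector. -/
def Stb (R : Subgroup (GL (Fin n) F)) (v₀ : Fin n → F) : Subgroup (GL (Fin n) F) where
  carrier := {u | u ∈ HH R ∧ act u v₀ = v₀}
  mul_mem' := by
    rintro u v ⟨hu, hu'⟩ ⟨hv, hv'⟩
    exact ⟨(HH R).mul_mem hu hv, by rw [act_mul_apply, hv', hu']⟩
  one_mem' := ⟨(HH R).one_mem, by rw [act_one]; rfl⟩
  inv_mem' := by
    rintro u ⟨hu, hu'⟩
    refine ⟨(HH R).inv_mem hu, ?_⟩
    have := act_inv_apply u v₀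
    rwa [hu'] at this

theorem mem_Stb {v₀ : Fin n → F} {u : GL (Fin n) F} : u ∈ Stb R v₀ ↔ u ∈ HH R ∧ act u v₀ = v₀ := Iff.rfl

theorem conj_mem_Stb {g : GL (Fin n) F} (hg : Nrm R g) {c : F} (hc : c ≠ 0) {v₀ : Fin n → F}
    (hv₀ : v₀ ∈ Module.End.eigenspace (act g) c) {u : GL (Fin n) F} (hu : u ∈ Stb R v₀) :
    g⁻¹ * u * g ∈ Stb R v₀ := by
  refine ⟨hg.conj_mem hu.1, ?_⟩
  have h3 := eig_pow_apply hv₀ 1
  have h4 := eig_pow_inv_apply hc hv₀ 1
  rw [pow_one] at h3 h4
  rw [act_mul_apply, act_mul_apply, h3, map_smul, hu.2, map_smul, h4, pow_one, smul_smul, mul_inv_cancel₀ hc,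
    one_smul]

/-- **for `g` of order `r` with a large eigenspace: a commutator `b = [g, w]` commuting with `g`.** -/
theorem ES.exists_situation (hE : ES R r) (hodd : Odd r) {g : GL (Fin n) F} (hg : Nrm R g) (hgr : g ^ r = 1)
    (hns : g ∉ Cfsg.Geo.scalars (Fin n) F) {c : F}
    (hd : n < 2 * finrank F ↥(Module.End.eigenspace (act g) c)) :
    ∃ b w : GL (Fin n) F, w ∈ HH R ∧ b ∈ HH R ∧ b ∉ Cfsg.Geo.scalars (Fin n) F ∧ b ^ r = 1 ∧ g * b = b * g ∧
      g * b * w = w * g := by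
  have hr := hE.rp
  have hc : c ≠ 0 := by
    intro h
    rw [h, eig_zero_eq_bot, finrank_bot] at hd
    omega
  -- not central
  have hA : ¬ ∀ x ∈ R, g⁻¹ * x * g * x⁻¹ ∈ Cfsg.Geo.scalars (Fin n) F := by
    intro hA
    have := hE.two_mul_le_of_central hns hA c
    omega
  push Not at hA
  obtain ⟨x, hx, hxns⟩ := hA
  obtain ⟨v₀, hv₀W, hv₀, hfix⟩ := exists_fix_in_eig hd x
  have hxH := mem_HH_of_mem (R := R) hx
  have ha₁H : g⁻¹ * x * g * x⁻¹ ∈ HH R := (HH R).mul_mem (hg.conj_mem hxH) ((HH R).inv_mem hxH)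
  have ha₁S : g⁻¹ * x * g * x⁻¹ ∈ Stb R v₀ := ⟨ha₁H, hfix⟩
  -- the commutative group `S`
  letI instC : CommGroup ↥(Stb R v₀) :=
    { (inferInstance : Group ↥(Stb R v₀)) with
      mul_comm := fun u v => Subtype.ext (hE.commute_of_fix u.2.1 v.2.1 hv₀ u.2.2 v.2.2) }
  let κ : ↥(Stb R v₀) →* ↥(Stb R v₀) :=
    { toFun := fun u => ⟨g⁻¹ * (u : GL (Fin n) F) * g, conj_mem_Stb hg hc hv₀W u.2⟩
      map_one' := by
        apply Subtype.ext
        simp
      map_mul' := by
        intro u v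
        apply Subtype.ext
        simp only [Subgroup.coe_mul, mul_assoc, mul_inv_cancel_left] }
  have hκval : ∀ u : ↥(Stb R v₀), ((κ u : ↥(Stb R v₀)) : GL (Fin n) F) = g⁻¹ * (u : GL (Fin n) F) * g := fun u => rfl
  have hexp : ∀ u : ↥(Stb R v₀), u ^ r = 1 := by
    intro u
    apply Subtype.ext
    rw [Subgroup.coe_pow, Subgroup.coe_one]
    exact hE.pow_r_eq_one_of_fix u.2.1 hv₀ u.2.2
  have hκit : ∀ (k : ℕ) (u : ↥(Stb R v₀)), ((κ^[k] u : ↥(Stb R v₀)) : GL (Fin n) F) = conjp g k u := by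
    intro k
    induction k with
    | zero =>
      intro u
      rw [Function.iterate_zero, id, conjp_zero]
    | succ k ih =>
      intro u
      rw [Function.iterate_succ_apply', hκval, ih, add_comm, conjp_add, pow_one]
  have hκr : ∀ u : ↥(Stb R v₀), κ^[r] u = u := by
    intro u
    apply Subtype.ext
    rw [hκit, conjp_of_pow_eq_one hgr]
  set D : ↥(Stb R v₀) → ↥(Stb R v₀) := fun u => κ u / u with hD
  have hnil := nilp_abstract hr hodd hexp κ hκr
  set m : ↥(Stb R v₀) := ⟨g⁻¹ * x * g * x⁻¹, ha₁S⟩ with hm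
  have hm1 : m ≠ 1 := by
    intro h
    apply hxns
    have : g⁻¹ * x * g * x⁻¹ = 1 := congrArg Subtype.val h
    rw [this]
    exact (Cfsg.Geo.scalars (Fin n) F).one_mem
  have hex : ∃ k : ℕ, D^[k + 1] m = 1 := ⟨r - 1, by
    have : r - 1 + 1 = r := Nat.sub_add_cancel hr.pos
    rw [this]
    exact hnil m⟩
  classical
  set k₀ := Nat.find hex with hk₀
  have hk₀1 : D^[k₀ + 1] m = 1 := Nat.find_spec hex
  have hk₀ne : D^[k₀] m ≠ 1 := by
    rcases Nat.eq_zero_or_pos k₀ with h0 | h0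
    · rw [h0]
      exact hm1
    · obtain ⟨k', hk'⟩ : ∃ k', k₀ = k' + 1 := ⟨k₀ - 1, by omega⟩
      have := Nat.find_min hex (m := k') (by omega)
      rwa [← hk'] at this
  set b : ↥(Stb R v₀) := D^[k₀] m with hb
  have hDb : κ b / b = 1 := by
    have : D^[k₀ + 1] m = D (D^[k₀] m) := Function.iterate_succ_apply' D k₀ m
    rw [this] at hk₀1
    exact hk₀1
  have hκb : g⁻¹ * (b : GL (Fin n) F) * g = (b : GL (Fin n) F) := by
    have h1 : κ b = b := div_eq_one.mp hDb
    have := congrArg Subtype.val h1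
    rwa [hκval] at this
  -- the element `w`
  have hw : ∃ w : GL (Fin n) F, w ∈ HH R ∧ (b : GL (Fin n) F) = g⁻¹ * w * g * w⁻¹ := by
    rcases Nat.eq_zero_or_pos k₀ with h0 | h0
    · refine ⟨x, hxH, ?_⟩
      rw [hb, h0]
      rfl
    · obtain ⟨k', hk'⟩ : ∃ k', k₀ = k' + 1 := ⟨k₀ - 1, by omega⟩
      refine ⟨((D^[k'] m : ↥(Stb R v₀)) : GL (Fin n) F), (D^[k'] m).2.1, ?_⟩
      rw [hb, hk', Function.iterate_succ_apply' D k' m]
      show ((κ (D^[k'] m) / (D^[k'] m) : ↥(Stb R v₀)) : GL (Fin n) F) = _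
      rw [div_eq_mul_inv, Subgroup.coe_mul, Subgroup.coe_inv, hκval]
  obtain ⟨w, hwH, hbw⟩ := hw
  refine ⟨(b : GL (Fin n) F), w, hwH, b.2.1, ?_, ?_, ?_, ?_⟩
  · intro hsc
    apply hk₀ne
    apply Subtype.ext
    rw [Subgroup.coe_one]
    exact scalar_eq_one_of_fix hsc hv₀ b.2.2
  · have := hexp b
    have h2 := congrArg Subtype.val this
    rwa [Subgroup.coe_pow, Subgroup.coe_one] at h2
  · have h1 := congrArg (fun t => g * t) hκb
    simp only [mul_assoc, mul_inv_cancel_left] at h1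
    exact h1.symm
  · rw [hbw]
    simp only [mul_assoc, mul_inv_cancel_left, inv_mul_cancel, mul_one]

end Cfsg.Agent.Helper7.ExSp
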