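import Mathlib
import Cfsg.Agent.Helper7.ExSpG

set_option autoImplicit false
set_option linter.unusedSectionVars false
set_option linter.unusedVariables false

/-!
# Normalisers of extraspecial groups: the eigenspace bounds
-/

namespace Cfsg.Agent.Helper7.ExSp

open Module Matrix Cfsg.Agent.Helper7.LOrd

variable {F : Type*} [Field F] {n : ℕ} {R : Subgroup (GL (Fin n) F)} {r : ℕ}

/-- elements of order `r` (odd). -/
theorem ES.bound_order_r (hE : ES R r) (hodd : Odd r) {g : GL (Fin n) F} (hg : Nrm R g) (hgr : g ^ r = 1)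
    (hns : g ∉ Cfsg.Geo.scalars (Fin n) F) {c : F}
    (hd : n < 2 * finrank F ↥(Module.End.eigenspace (act g) c)) :
    r ^ 2 * finrank F ↥(Module.End.eigenspace (act g) c) ≤ (2 * r - 1) * n ∨
      r * finrank F ↥(Module.End.eigenspace (act g) c) ≤ 2 * n := by
  obtain ⟨b, w, hwH, hbH, hbns, hbr, hgb, hR1⟩ := hE.exists_situation hodd hg hgr hns hd
  obtain ⟨ζ₁, hζ₁, hq⟩ := hE.commH hbH hwH
  by_cases h1 : ζ₁ = 1
  · left
    rw [h1] at hq
    exact hE.bound_commuting hbr hgb hbH hbns hR1 hq c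
  · right
    exact hE.bound_noncommuting hodd hbr hgb hbH hbns hR1 hζ₁ h1 hq c

theorem det_sc (ζ : Fˣ) : ((sc ζ : GL (Fin n) F) : Matrix (Fin n) (Fin n) F).det = (ζ : F) ^ n := by
  rw [sc_val, Matrix.det_smul, Matrix.det_one, mul_one, Fintype.card_fin]

/-- `r` divides `n`. -/
theorem ES.r_dvd (hE : ES R r) : r ∣ n := by
  obtain ⟨x, hx, y, hy, hxy⟩ := hE.nonab
  obtain ⟨ζ, hζ, hq⟩ := hE.comm x hx y hy
  have hζ1 : ζ ≠ 1 := by
    intro h
    rw [h] at hq
    exact hxy hq.commute
  have h1 : ((x * y : GL (Fin n) F) : Matrix (Fin n) (Fin n) F).det =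
      ((sc ζ * (y * x) : GL (Fin n) F) : Matrix (Fin n) (Fin n) F).det := by rw [hq]
  rw [Units.val_mul, Units.val_mul, Units.val_mul, Matrix.det_mul, Matrix.det_mul, Matrix.det_mul, det_sc] at h1
  have hx0 : (x : Matrix (Fin n) (Fin n) F).det ≠ 0 := by
    have := Matrix.GeneralLinearGroup.det x
    exact (Matrix.isUnits_det_units x).ne_zero
  have hy0 : (y : Matrix (Fin n) (Fin n) F).det ≠ 0 := (Matrix.isUnits_det_units y).ne_zero
  have h2 : (ζ : F) ^ n = 1 := by
    have h3 : (ζ : F) ^ n * ((x : Matrix (Fin n) (Fin n) F).det * (y : Matrix (Fin n) (Fin n) F).det) =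
        1 * ((x : Matrix (Fin n) (Fin n) F).det * (y : Matrix (Fin n) (Fin n) F).det) := by
      rw [one_mul]
      rw [mul_comm (x : Matrix (Fin n) (Fin n) F).det] at h1 ⊢
      exact h1.symm
    exact mul_right_cancel₀ (mul_ne_zero hx0 hy0) h3
  have h4 : ζ ^ n = 1 := Units.ext (by rw [Units.val_pow_eq_pow_val, h2, Units.val_one])
  have hord : orderOf ζ = r := by
    have hd' : orderOf ζ ∣ r := orderOf_dvd_of_pow_eq_one hζ
    rcases (Nat.dvd_prime hE.rp).mp hd' with h3 | h3
    · exact absurd (orderOf_eq_one_iff.mp h3) hζ1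
    · exact h3
  rw [← hord]
  exact orderOf_dvd_of_pow_eq_one h4

/-- **the four bounds.** -/
theorem ES.bounds (hE : ES R r) {g : GL (Fin n) F} (hg : Nrm R g) (hns : g ∉ Cfsg.Geo.scalars (Fin n) F)
    {ϖ : ℕ} (hϖ : ϖ.Prime) (hgϖ : g ^ ϖ = 1) (c : F) :
    (ϖ = 2 → 4 * finrank F ↥(Module.End.eigenspace (act g) c) ≤ 3 * n) ∧
    (ϖ = 3 → 3 * finrank F ↥(Module.End.eigenspace (act g) c) ≤ 2 * n) ∧
    (3 < ϖ → 2 * finrank F ↥(Module.End.eigenspace (act g) c) ≤ n) ∧
    (ϖ = 3 → ¬ 3 ∣ n → 2 * finrank F ↥(Module.End.eigenspace (act g) c) ≤ n) := by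
  have hr := hE.rp
  set d := finrank F ↥(Module.End.eigenspace (act g) c) with hdd
  have hoddϖ : ϖ ≠ 2 → Odd ϖ := fun h => hϖ.odd_of_ne_two h
  -- odd ϖ ≠ r gives n/2
  have hcase1 : ϖ ≠ 2 → ϖ ≠ r → 2 * d ≤ n := by
    intro h2 hne
    have hcop : Nat.Coprime ϖ r := (Nat.coprime_primes hϖ hr).mpr hne
    exact hE.two_mul_le_of_coprime hg hns hgϖ (hoddϖ h2) hcop c
  refine ⟨fun _ => hE.four_mul_le hg hns c, ?_, ?_, ?_⟩
  · intro h3
    by_cases hne : ϖ = r
    · by_cases hd : n < 2 * d
      · have hodd : Odd r := by rw [← hne]; exact hoddϖ (by omega)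
        rw [hne] at hgϖ
        have hr3 : r = 3 := by omega
        rcases hE.bound_order_r hodd hg hgϖ hns hd with h | h
        · rw [hr3] at h
          norm_num at h
          omega
        · rw [hr3] at h
          exact h
      · omega
    · have := hcase1 (by omega) hne
      omega
  · intro h3
    by_cases hne : ϖ = r
    · by_contra hcon
      have hd : n < 2 * d := by omega
      have hodd : Odd r := by rw [← hne]; exact hoddϖ (by omega)
      rw [hne] at hgϖ
      have hr5 : 4 ≤ r := by omega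
      rcases hE.bound_order_r hodd hg hgϖ hns hd with h | h
      · -- r² d ≤ (2r-1) n < (2r-1) 2d
        have h1 : (2 * r - 1) * n < (2 * r - 1) * (2 * d) := by
          apply Nat.mul_lt_mul_of_pos_left hd
          omega
        have h2 : r ^ 2 * d < (2 * r - 1) * (2 * d) := lt_of_le_of_lt h h1
        have hdpos : 0 < d := by omega
        have h3' : r ^ 2 < (2 * r - 1) * 2 := by
          by_contra h4
          rw [not_lt] at h4
          have : (2 * r - 1) * 2 * d ≤ r ^ 2 * d := Nat.mul_le_mul_right d h4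
          have e : (2 * r - 1) * (2 * d) = (2 * r - 1) * 2 * d := by ring
          omega
        have h5 : 4 * r ≤ r ^ 2 := by nlinarith
        omega
      · have h1 : r * d ≤ 2 * n := h
        have h2 : 4 * d ≤ r * d := Nat.mul_le_mul_right d hr5
        omega
    · exact hcase1 (by omega) hne
  · intro h3 hn3
    have hne : ϖ ≠ r := by
      intro h
      apply hn3
      rw [← h3, h]
      exact hE.r_dvd
    exact hcase1 (by omega) hne

end Cfsg.Agent.Helper7.ExSp
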