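import Mathlib
import Cfsg.Agent.Helper7.ExSpH

set_option autoImplicit false
set_option linter.unusedSectionVars false
set_option linter.unusedVariables false

/-!
# Normalisers of extraspecial groups: from the hypotheses to the derived data
-/

namespace Cfsg.Agent.Helper7.ExSp

open Module Matrix Cfsg.Agent.Helper7.LOrd
open scoped commutatorElement

variable {F : Type*} [Field F] {n : ℕ} {R : Subgroup (GL (Fin n) F)} {r : ℕ}

theorem scalar_of_central (hn : 0 < n)
    (hirr2 : ∀ M : Matrix (Fin n) (Fin n) F, (∀ s ∈ Cfsg.Geo.matrixSet R, M * s = s * M) →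
      ∃ c : F, M = c • (1 : Matrix (Fin n) (Fin n) F))
    (u : GL (Fin n) F) (hu : ∀ x ∈ R, u * x = x * u) : u ∈ Cfsg.Geo.scalars (Fin n) F := by
  obtain ⟨c, hc⟩ := hirr2 (u : Matrix (Fin n) (Fin n) F) (by
    rintro s ⟨x, hx, rfl⟩
    have := congrArg Units.val (hu x hx)
    rwa [Units.val_mul, Units.val_mul] at this)
  have hc0 : c ≠ 0 := by
    intro h
    rw [h, zero_smul] at hc
    have h1 : (u : Matrix (Fin n) (Fin n) F) * ((u⁻¹ : GL (Fin n) F) : Matrix (Fin n) (Fin n) F) = 1 := by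
      rw [← Units.val_mul, mul_inv_cancel, Units.val_one]
    rw [hc, Matrix.zero_mul] at h1
    have h2 := congrFun (congrFun h1 ⟨0, hn⟩) ⟨0, hn⟩
    simp at h2
  rw [Cfsg.Geo.mem_scalars_iff]
  exact ⟨Units.mk0 c hc0, hc⟩

theorem ES.of_hyps (hr : r.Prime) (hZ : Nat.card (Subgroup.center R) = r)
    (hext : commutator R = Subgroup.center R)
    (hirr : Cfsg.Geo.ActsAbsolutelyIrreducibly (Cfsg.Geo.matrixSet R)) : ES R r := by
  have hn : 0 < n := by
    by_contra h
    have h0 : n = 0 := by omega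
    subst h0
    haveI : Subsingleton (GL (Fin 0) F) := ⟨fun a b => Units.ext (Subsingleton.elim _ _)⟩
    haveI : Subsingleton ↥R := ⟨fun a b => Subtype.ext (Subsingleton.elim _ _)⟩
    haveI : Subsingleton ↥(Subgroup.center ↥R) := ⟨fun a b => Subtype.ext (Subsingleton.elim _ _)⟩
    rw [Nat.card_of_subsingleton (1 : ↥(Subgroup.center ↥R))] at hZ
    rw [← hZ] at hr
    exact Nat.not_prime_one hr
  have hcent := scalar_of_central (R := R) hn hirr.2
  refine ⟨hr, hn, ?_, hcent, ?_, ?_⟩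
  · intro x hx y hy
    have hz : ⁅(⟨x, hx⟩ : ↥R), (⟨y, hy⟩ : ↥R)⁆ ∈ Subgroup.center ↥R := by
      rw [← hext, commutator_def]
      exact Subgroup.commutator_mem_commutator (Subgroup.mem_top _) (Subgroup.mem_top _)
    have hzv : ((⁅(⟨x, hx⟩ : ↥R), (⟨y, hy⟩ : ↥R)⁆ : ↥R) : GL (Fin n) F) = x * y * x⁻¹ * y⁻¹ := by
      rw [commutatorElement_def]
      rfl
    have hzc : ∀ w ∈ R, (x * y * x⁻¹ * y⁻¹) * w = w * (x * y * x⁻¹ * y⁻¹) := by
      intro w hw
      have := (Subgroup.mem_center_iff.mp hz) ⟨w, hw⟩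
      have h2 := congrArg Subtype.val this
      rw [Subgroup.coe_mul, Subgroup.coe_mul, hzv] at h2
      exact h2.symm
    obtain ⟨ζ, hζ⟩ := (mem_scalars_iff_sc _).mp (hcent _ hzc)
    have hpow : (⟨_, hz⟩ : ↥(Subgroup.center ↥R)) ^ r = 1 := by
      rw [← hZ]
      exact pow_card_eq_one'
    have hpow' : (x * y * x⁻¹ * y⁻¹) ^ r = 1 := by
      have h2 := congrArg (fun t : ↥(Subgroup.center ↥R) => ((t : ↥R) : GL (Fin n) F)) hpow
      simp only [Subgroup.coe_pow, Subgroup.coe_one] at h2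
      rw [hzv] at h2
      exact h2
    refine ⟨ζ, ?_, ?_⟩
    · apply sc_injective hn
      rw [map_pow, ← hζ, hpow', map_one]
    · unfold QC
      rw [← hζ]
      simp only [mul_assoc, inv_mul_cancel, mul_one, inv_mul_cancel_left]
  · intro W hW
    apply hirr.1 W
    rintro s ⟨x, hx, rfl⟩
    exact hW x hx
  · by_contra hcon
    push Not at hcon
    have hbot : commutator ↥R = ⊥ := by
      rw [commutator_def, eq_bot_iff, Subgroup.commutator_le]
      intro a _ b _
      rw [Subgroup.mem_bot, commutatorElement_eq_one_iff_mul_comm]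
      apply Subtype.ext
      exact hcon a a.2 b b.2
    rw [hext] at hbot
    rw [hbot, Subgroup.card_bot] at hZ
    rw [← hZ] at hr
    exact Nat.not_prime_one hr

end Cfsg.Agent.Helper7.ExSp
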