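import Mathlib

set_option autoImplicit false
set_option linter.unusedSectionVars false

/-! Extension-field normalisers (helper7): unipotent elements attached to square-zero
endomorphisms, commutator formula, transvections over the big and the small field. -/

namespace Cfsg.Agent.Helper7.ExtF

open Module

/-- the commutator of two unipotent elements `1 + A`, `1 + B` with `A² = B² = 0`. -/
theorem comm_formula {R : Type*} [Ring R] (A B : R) (hA : A * A = 0) (hB : B * B = 0) :
    (1 + A) * (1 + B) * (1 - A) * (1 - B) =
      1 + A * B - B * A + B * A * B - A * B * A + A * B * A * B := by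
  have e1 : (1 + A) * (1 + B) * (1 - A) * (1 - B) =
      1 + A * B - B * A + B * A * B - A * B * A + A * B * A * B
        - B * B - A * (B * B) - A * A + A * A * B := by
    noncomm_ring
  rw [e1, hA, hB]
  simp

variable {F : Type*} [Field F] {V : Type*} [AddCommGroup V] [Module F V]

/-- the unipotent element `1 + A` attached to a square-zero endomorphism. -/
def uni (A : Module.End F V) (hA : A * A = 0) : V ≃ₗ[F] V :=
  LinearEquiv.ofLinear (1 + A) (1 - A)
    (by
      have : (1 + A) * (1 - A) = 1 - A * A := by noncomm_ring
      rw [← Module.End.mul_eq_comp, this, hA, sub_zero]; rfl)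
    (by
      have : (1 - A) * (1 + A) = 1 - A * A := by noncomm_ring
      rw [← Module.End.mul_eq_comp, this, hA, sub_zero]; rfl)

@[simp] theorem uni_apply (A : Module.End F V) (hA : A * A = 0) (v : V) :
    uni A hA v = v + A v := rfl

theorem uni_toLinearMap (A : Module.End F V) (hA : A * A = 0) :
    ((uni A hA : V ≃ₗ[F] V) : V →ₗ[F] V) = 1 + A := rfl

theorem neg_sq {A : Module.End F V} (hA : A * A = 0) : (-A) * (-A) = 0 := by
  rw [neg_mul_neg, hA]

theorem uni_inv (A : Module.End F V) (hA : A * A = 0) :
    (uni A hA)⁻¹ = uni (-A) (neg_sq hA) := by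
  apply inv_eq_of_mul_eq_one_right
  apply LinearEquiv.ext
  intro v
  have h : A (A v) = 0 := by
    have := LinearMap.congr_fun hA v
    simpa using this
  simp [LinearEquiv.mul_apply, h]

theorem uni_inv_apply (A : Module.End F V) (hA : A * A = 0) (v : V) :
    (uni A hA)⁻¹ v = v - A v := by
  rw [uni_inv]; simp [sub_eq_add_neg]

theorem uni_zero : uni (0 : Module.End F V) (by simp) = 1 := by
  apply LinearEquiv.ext; intro v; simp

theorem uni_mul_uni {A B : Module.End F V} (hA : A * A = 0) (hB : B * B = 0)
    (hAB : A * B = 0) (hBA : B * A = 0) :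
    uni A hA * uni B hB = uni (A + B) (by
      rw [mul_add, add_mul, add_mul, hA, hB, hAB, hBA]; simp) := by
  apply LinearEquiv.ext; intro v
  have h : A (B v) = 0 := by
    have := LinearMap.congr_fun hAB v
    simpa using this
  simp [LinearEquiv.mul_apply, h]
  abel

/-- the map of automorphisms to endomorphisms is injective and multiplicative. -/
theorem toLin_mul (g h : V ≃ₗ[F] V) :
    ((g * h : V ≃ₗ[F] V) : V →ₗ[F] V) = (g : V →ₗ[F] V) * (h : V →ₗ[F] V) := rfl

/-- the commutator of two unipotent elements. -/
theorem uni_comm {A B C : Module.End F V} (hA : A * A = 0) (hB : B * B = 0) (hC : C * C = 0)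
    (h : A * B - B * A + B * A * B - A * B * A + A * B * A * B = C) :
    uni A hA * uni B hB * (uni A hA)⁻¹ * (uni B hB)⁻¹ = uni C hC := by
  apply LinearEquiv.toLinearMap_injective
  rw [toLin_mul, toLin_mul, toLin_mul, uni_inv, uni_inv, uni_toLinearMap, uni_toLinearMap,
    uni_toLinearMap, uni_toLinearMap, uni_toLinearMap, ← sub_eq_add_neg, ← sub_eq_add_neg,
    comm_formula A B hA hB, ← h]
  abel

end Cfsg.Agent.Helper7.ExtF
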