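import Cfsg.Agent.Helper7.ExtFA

set_option autoImplicit false
set_option linter.unusedSectionVars false

/-! Extension-field normalisers (helper7): transvections over the big field `K` and over the small
field `F`; functionals over `K`; transitivity of the group generated by `K`-transvections. -/

namespace Cfsg.Agent.Helper7.ExtF

open Module

variable {F : Type*} [Field F] {V : Type*} [AddCommGroup V] [Module F V]
  {K : Type*} [Field K] [Algebra F K] [Module K V] [IsScalarTower F K V]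

/-- the `F`-endomorphism `v ↦ ψ v • a` attached to a `K`-functional and a vector. -/
def kA (ψ : V →ₗ[K] K) (a : V) : Module.End F V :=
  ((LinearMap.toSpanSingleton K V a).comp ψ).restrictScalars F

@[simp] theorem kA_apply (ψ : V →ₗ[K] K) (a v : V) : kA (F := F) ψ a v = ψ v • a := rfl

theorem kA_sq {ψ : V →ₗ[K] K} {a : V} (h : ψ a = 0) : kA (F := F) ψ a * kA ψ a = 0 := by
  apply LinearMap.ext; intro v
  simp [h]

/-- the `K`-transvection `v ↦ v + ψ v • a`, as an `F`-linear automorphism. -/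
def ktv (ψ : V →ₗ[K] K) (a : V) (h : ψ a = 0) : V ≃ₗ[F] V := uni (kA ψ a) (kA_sq h)

@[simp] theorem ktv_apply (ψ : V →ₗ[K] K) (a : V) (h : ψ a = 0) (v : V) :
    ktv (F := F) ψ a h v = v + ψ v • a := rfl

theorem ktv_smul (ψ : V →ₗ[K] K) (a : V) (h : ψ a = 0) (c : K) (v : V) :
    ktv (F := F) ψ a h (c • v) = c • ktv (F := F) ψ a h v := by
  simp [smul_add, mul_smul]

theorem ktv_inv_apply (ψ : V →ₗ[K] K) (a : V) (h : ψ a = 0) (v : V) :
    (ktv (F := F) ψ a h)⁻¹ v = v - ψ v • a := by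
  rw [ktv, uni_inv_apply]; rfl

theorem ktv_inv_smul (ψ : V →ₗ[K] K) (a : V) (h : ψ a = 0) (c : K) (v : V) :
    (ktv (F := F) ψ a h)⁻¹ (c • v) = c • (ktv (F := F) ψ a h)⁻¹ v := by
  simp [ktv_inv_apply, smul_sub, mul_smul]

/-- the `F`-endomorphism `v ↦ φ v • v₀` attached to an `F`-functional and a vector. -/
def fA (φ : Module.Dual F V) (v₀ : V) : Module.End F V := φ.smulRight v₀

@[simp] theorem fA_apply (φ : Module.Dual F V) (v₀ v : V) : fA φ v₀ v = φ v • v₀ := rfl

theorem fA_sq {φ : Module.Dual F V} {v₀ : V} (h : φ v₀ = 0) : fA φ v₀ * fA φ v₀ = 0 := by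
  apply LinearMap.ext; intro v
  simp [h]

/-- the `F`-transvection `v ↦ v + φ v • v₀`. -/
def ftv (φ : Module.Dual F V) (v₀ : V) (h : φ v₀ = 0) : V ≃ₗ[F] V := uni (fA φ v₀) (fA_sq h)

@[simp] theorem ftv_apply (φ : Module.Dual F V) (v₀ : V) (h : φ v₀ = 0) (v : V) :
    ftv φ v₀ h v = v + φ v • v₀ := rfl

/-- an automorphism whose endomorphism is `1 + φ ⊗ v₀` is the transvection. -/
theorem eq_ftv_of_toLin {g : V ≃ₗ[F] V} {φ : Module.Dual F V} {v₀ : V} (h : φ v₀ = 0)
    (hg : ∀ v, g v = v + φ v • v₀) : g = ftv φ v₀ h := by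
  apply LinearEquiv.ext; intro v; rw [hg]; rfl

section functionals

/-- a `K`-functional vanishing on a subspace with value one at a vector outside. -/
theorem exists_kfunc (S : Submodule K V) {u : V} (hu : u ∉ S) :
    ∃ ψ : V →ₗ[K] K, (∀ s ∈ S, ψ s = 0) ∧ ψ u = 1 := by
  obtain ⟨f, hf, hS⟩ := Submodule.exists_dual_map_eq_bot_of_notMem hu inferInstance
  refine ⟨(f u)⁻¹ • f, fun s hs => ?_, ?_⟩
  · have : f s ∈ S.map f := Submodule.mem_map_of_mem hs
    rw [hS, Submodule.mem_bot] at this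
    simp [this]
  · simp [hf]

/-- `K`-independence of two vectors, in the form used below. -/
def KInd (a b : V) : Prop := a ≠ 0 ∧ b ∉ Submodule.span K {a}

theorem KInd.symm {a b : V} (h : KInd (K := K) a b) : KInd (K := K) b a := by
  refine ⟨fun hb => h.2 (by rw [hb]; exact Submodule.zero_mem _), fun ha => ?_⟩
  obtain ⟨c, hc⟩ := Submodule.mem_span_singleton.mp ha
  have hc0 : c ≠ 0 := by
    rintro rfl
    rw [zero_smul] at hc
    exact h.1 hc.symm
  apply h.2
  rw [Submodule.mem_span_singleton]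
  refine ⟨c⁻¹, ?_⟩
  rw [← hc, smul_smul, inv_mul_cancel₀ hc0, one_smul]

/-- a `K`-functional with prescribed values at two independent vectors. -/
theorem exists_kfunc_two {a b : V} (h : KInd (K := K) a b) (x y : K) :
    ∃ ψ : V →ₗ[K] K, ψ a = x ∧ ψ b = y := by
  obtain ⟨ψ₁, h1, h1'⟩ := exists_kfunc (Submodule.span K {a}) h.2
  obtain ⟨ψ₂, h2, h2'⟩ := exists_kfunc (Submodule.span K {b}) h.symm.2
  refine ⟨y • ψ₁ + x • ψ₂, ?_, ?_⟩
  · simp [h1 a (Submodule.mem_span_singleton_self a), h2']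
  · simp [h2 b (Submodule.mem_span_singleton_self b), h1']

end functionals

end Cfsg.Agent.Helper7.ExtF
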