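import Cfsg.Agent.Helper7.ExtFB

set_option autoImplicit false
set_option linter.unusedSectionVars false

/-! Extension-field normalisers (helper7): transitivity of the `K`-transvections, semilinearity of
maps preserving `K`-lines, and an element of an overgroup fixing a vector and moving its `K`-line. -/

namespace Cfsg.Agent.Helper7.ExtF

open Module

variable {F : Type*} [Field F] {V : Type*} [AddCommGroup V] [Module F V]
  {K : Type*} [Field K] [Algebra F K] [Module K V] [IsScalarTower F K V]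

/-- `K`-linearity of an `F`-linear automorphism. -/
def KLin (K : Type*) [Field K] [Module K V] (n : V ≃ₗ[F] V) : Prop :=
  ∀ (c : K) (v : V), n (c • v) = c • n v

theorem KLin.mul {n n' : V ≃ₗ[F] V} (h : KLin K n) (h' : KLin K n') : KLin K (n * n') := by
  intro c v
  rw [LinearEquiv.mul_apply, h' c v, h c, LinearEquiv.mul_apply]

theorem KLin.inv {n : V ≃ₗ[F] V} (h : KLin K n) : KLin K n⁻¹ := by
  intro c v
  apply n.injective
  rw [h c]
  have e1 : n (n⁻¹ (c • v)) = c • v := by
    rw [← LinearEquiv.mul_apply, mul_inv_cancel]; rfl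
  have e2 : n (n⁻¹ v) = v := by
    rw [← LinearEquiv.mul_apply, mul_inv_cancel]; rfl
  rw [e1, e2]

theorem klin_ktv (ψ : V →ₗ[K] K) (a : V) (h : ψ a = 0) : KLin K (ktv (F := F) ψ a h) :=
  fun c v => ktv_smul ψ a h c v

theorem exists_notMem_span (h2 : 2 ≤ finrank K V) (a : V) :
    ∃ c : V, c ∉ Submodule.span K {a} := by
  by_contra hcon
  push Not at hcon
  have htop : Submodule.span K {a} = ⊤ := by
    rw [eq_top_iff]; intro x _; exact hcon x
  have hfd : FiniteDimensional K V := Module.finite_of_finrank_pos (by omega)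
  have h1 : finrank K (Submodule.span K {a}) ≤ 1 := by
    have := finrank_span_le_card (R := K) ({a} : Set V)
    simpa using this
  rw [htop, finrank_top] at h1
  omega

/-- the `K`-transvections act transitively on the non-zero vectors. -/
theorem exists_klin_map (M : Subgroup (V ≃ₗ[F] V))
    (hM : ∀ (ψ : V →ₗ[K] K) (a : V) (h : ψ a = 0), ktv ψ a h ∈ M)
    (h2 : 2 ≤ finrank K V) {a b : V} (ha : a ≠ 0) (hb : b ≠ 0) :
    ∃ n ∈ M, KLin K n ∧ n a = b := by
  have key : ∀ a b : V, KInd (K := K) a b → ∃ n ∈ M, KLin K n ∧ n a = b := by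
    intro a b hab
    obtain ⟨ψ, h1, h2'⟩ := exists_kfunc_two hab 1 1
    have h0 : ψ (b - a) = 0 := by rw [map_sub, h1, h2', sub_self]
    refine ⟨ktv ψ (b - a) h0, hM _ _ _, klin_ktv _ _ _, ?_⟩
    rw [ktv_apply, h1, one_smul]; abel
  by_cases hba : b ∈ Submodule.span K {a}
  · obtain ⟨c, hc⟩ := exists_notMem_span (K := K) h2 a
    have hac : KInd (K := K) a c := ⟨ha, hc⟩
    have hbc : KInd (K := K) b c := by
      refine ⟨hb, fun hcb => hc ?_⟩
      have : Submodule.span K {b} ≤ Submodule.span K {a} := by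
        rw [Submodule.span_singleton_le_iff_mem]; exact hba
      exact this hcb
    obtain ⟨n₁, hn₁, hk₁, e₁⟩ := key a c hac
    obtain ⟨n₂, hn₂, hk₂, e₂⟩ := key c b hbc.symm
    refine ⟨n₂ * n₁, M.mul_mem hn₂ hn₁, hk₂.mul hk₁, ?_⟩
    rw [LinearEquiv.mul_apply, e₁, e₂]
  · exact key a b ⟨ha, hba⟩

/-- semilinearity over `K` of an `F`-linear automorphism. -/
def IsSemi (K : Type*) [Field K] [Module K V] (g : V ≃ₗ[F] V) : Prop :=
  ∀ c : K, ∃ c' : K, ∀ v, g (c • v) = c' • g v

/-- an `F`-linear automorphism which, with its inverse, maps `K`-lines into `K`-lines is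
semilinear. -/
theorem isSemi_of_lines (h2 : 2 ≤ finrank K V) (g : V ≃ₗ[F] V)
    (hg : ∀ a : V, ∀ c : K, ∃ c' : K, g (c • a) = c' • g a)
    (hg' : ∀ a : V, ∀ c : K, ∃ c' : K, g⁻¹ (c • a) = c' • g⁻¹ a) : IsSemi K g := by
  intro c
  choose μ hμ using fun a => hg a c
  have ginv : ∀ v, g⁻¹ (g v) = v := fun v => by
    rw [← LinearEquiv.mul_apply, inv_mul_cancel]; rfl
  -- independent vectors have the same multiplier
  have hind : ∀ v w : V, KInd (K := K) v w → μ v = μ w := by
    intro v w hvw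
    have hgv : g v ≠ 0 := fun h => hvw.1 (by simpa using h)
    have hgw : ∀ l : K, g w ≠ l • g v := by
      intro l h
      obtain ⟨l', hl'⟩ := hg' (g v) l
      apply hvw.2
      rw [Submodule.mem_span_singleton]
      refine ⟨l', ?_⟩
      rw [← ginv v, ← hl', ← h, ginv]
    have e1 : g (c • (v + w)) = μ v • g v + μ w • g w := by
      rw [smul_add, map_add, hμ v, hμ w]
    have e2 : g (c • (v + w)) = μ (v + w) • g v + μ (v + w) • g w := by
      rw [hμ (v + w), map_add, smul_add]
    have e3 : (μ (v + w) - μ v) • g v + (μ (v + w) - μ w) • g w = 0 := by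
      rw [sub_smul, sub_smul]
      have := e2.symm.trans e1
      rw [← sub_eq_zero] at this
      rw [← this]; abel
    have hb : μ (v + w) - μ w = 0 := by
      by_contra hne
      apply hgw (-(μ (v + w) - μ w)⁻¹ * (μ (v + w) - μ v))
      have : (μ (v + w) - μ w) • g w = -((μ (v + w) - μ v) • g v) := by
        rw [eq_neg_iff_add_eq_zero, add_comm]; exact e3
      rw [mul_smul, neg_smul, ← smul_neg, ← this, smul_smul, inv_mul_cancel₀ hne, one_smul]
    have ha' : μ (v + w) - μ v = 0 := by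
      rw [hb, zero_smul, add_zero] at e3
      rcases smul_eq_zero.mp e3 with h | h
      · exact h
      · exact absurd h hgv
    rw [sub_eq_zero] at hb ha'
    rw [← ha', hb]
  obtain ⟨v₀, hv₀⟩ := exists_notMem_span (K := K) h2 (0 : V)
  have hv₀0 : v₀ ≠ 0 := fun h => hv₀ (by rw [h]; exact Submodule.zero_mem _)
  refine ⟨μ v₀, fun v => ?_⟩
  by_cases hv : v = 0
  · rw [hv]; simp
  rw [hμ v]
  congr 1
  by_cases hvv : v₀ ∈ Submodule.span K {v}
  · obtain ⟨u, hu⟩ := exists_notMem_span (K := K) h2 v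
    have h1 : KInd (K := K) v u := ⟨hv, hu⟩
    have h2' : KInd (K := K) v₀ u := by
      refine ⟨hv₀0, fun huv => hu ?_⟩
      have : Submodule.span K {v₀} ≤ Submodule.span K {v} := by
        rw [Submodule.span_singleton_le_iff_mem]; exact hvv
      exact this huv
    rw [hind v u h1, hind v₀ u h2']
  · exact hind v v₀ ⟨hv, hvv⟩

/-- an overgroup of the `K`-transvections containing a non-semilinear element contains an element
fixing a non-zero vector and moving its `K`-line. -/
theorem exists_fix_move (M : Subgroup (V ≃ₗ[F] V))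
    (hM : ∀ (ψ : V →ₗ[K] K) (a : V) (h : ψ a = 0), ktv ψ a h ∈ M)
    (h2 : 2 ≤ finrank K V) (hne : ∃ g ∈ M, ¬ IsSemi K g) :
    ∃ h ∈ M, ∃ a : V, a ≠ 0 ∧ h a = a ∧ ∃ c : K, ∀ c' : K, h (c • a) ≠ c' • a := by
  by_contra hcon
  push Not at hcon
  obtain ⟨g, hgM, hg⟩ := hne
  apply hg
  have hall : ∀ g ∈ M, ∀ a : V, ∀ c : K, ∃ c' : K, g (c • a) = c' • g a := by
    intro g hgM a c
    by_cases ha : a = 0
    · exact ⟨0, by rw [ha]; simp⟩
    have hb : g a ≠ 0 := fun h => ha (by simpa using h)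
    obtain ⟨n, hnM, hnK, hn⟩ := exists_klin_map M hM h2 hb ha
    obtain ⟨c', hc'⟩ := hcon (n * g) (M.mul_mem hnM hgM) a ha
      (by rw [LinearEquiv.mul_apply, hn]) c
    refine ⟨c', ?_⟩
    rw [LinearEquiv.mul_apply] at hc'
    apply n.injective
    rw [hc', hnK c', hn]
  exact isSemi_of_lines h2 g (hall g hgM) (hall g⁻¹ (M.inv_mem hgM))

end Cfsg.Agent.Helper7.ExtF
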