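import Cfsg.Agent.Helper7.ExtFC

set_option autoImplicit false
set_option linter.unusedSectionVars false

/-! Extension-field normalisers (helper7): in a proper overgroup, some image of a `K`-line meets the
line in a subspace of codimension one (maximal-intersection argument; uses that the degree is
prime). -/

namespace Cfsg.Agent.Helper7.ExtF

open Module

variable {F : Type*} [Field F] {V : Type*} [AddCommGroup V] [Module F V]
  {K : Type*} [Field K] [Algebra F K] [Module K V] [IsScalarTower F K V]

/-- the `K`-line of a vector, as an `F`-subspace. -/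
def kline (F : Type*) [Field F] [Module F V] (K : Type*) [Field K] [Algebra F K] [Module K V]
    [IsScalarTower F K V] (a : V) : Submodule F V :=
  (Submodule.span K {a}).restrictScalars F

theorem mem_kline {a x : V} : x ∈ kline F K a ↔ ∃ c : K, c • a = x := by
  rw [kline, Submodule.restrictScalars_mem, Submodule.mem_span_singleton]

theorem self_mem_kline (a : V) : a ∈ kline F K a := mem_kline.mpr ⟨1, one_smul _ _⟩

theorem smul_mem_kline (c : K) (a : V) : c • a ∈ kline F K a := mem_kline.mpr ⟨c, rfl⟩

theorem finrank_kline {a : V} (ha : a ≠ 0) : finrank F (kline F K a) = finrank F K := by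
  have e1 : K ≃ₗ[F] ↥(Submodule.span K {a}) :=
    (LinearEquiv.toSpanNonzeroSingleton K V a ha).restrictScalars F
  have e2 : ↥(kline F K a) ≃ₗ[F] ↥(Submodule.span K {a}) :=
    (Submodule.restrictScalarsEquiv F K V (Submodule.span K {a})).restrictScalars F
  exact (e2.trans e1.symm).finrank_eq

/-- the image of a subspace under an automorphism. -/
def img (g : V ≃ₗ[F] V) (p : Submodule F V) : Submodule F V := p.map (g : V →ₗ[F] V)

theorem mem_img {g : V ≃ₗ[F] V} {p : Submodule F V} {x : V} : x ∈ img g p ↔ ∃ y ∈ p, g y = x := by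
  rw [img, Submodule.mem_map]; rfl

theorem apply_mem_img {g : V ≃ₗ[F] V} {p : Submodule F V} {y : V} (hy : y ∈ p) : g y ∈ img g p :=
  mem_img.mpr ⟨y, hy, rfl⟩

theorem img_mul (g h : V ≃ₗ[F] V) (p : Submodule F V) : img (g * h) p = img g (img h p) := by
  ext x
  simp only [mem_img]
  constructor
  · rintro ⟨y, hy, rfl⟩; exact ⟨h y, ⟨y, hy, rfl⟩, rfl⟩
  · rintro ⟨z, ⟨y, hy, rfl⟩, rfl⟩; exact ⟨y, hy, rfl⟩

theorem img_one (p : Submodule F V) : img (1 : V ≃ₗ[F] V) p = p := by
  ext x; simp only [mem_img]
  constructor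
  · rintro ⟨y, hy, rfl⟩; exact hy
  · intro hx; exact ⟨x, hx, rfl⟩

theorem finrank_img (g : V ≃ₗ[F] V) (p : Submodule F V) : finrank F (img g p) = finrank F p :=
  LinearEquiv.finrank_map_eq g p

theorem img_inf (g : V ≃ₗ[F] V) (p q : Submodule F V) : img g (p ⊓ q) = img g p ⊓ img g q :=
  Submodule.map_inf _ g.injective

theorem img_mono (g : V ≃ₗ[F] V) {p q : Submodule F V} (h : p ≤ q) : img g p ≤ img g q :=
  Submodule.map_mono h

theorem img_inv_img (g : V ≃ₗ[F] V) (p : Submodule F V) : img g⁻¹ (img g p) = p := by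
  rw [← img_mul, inv_mul_cancel, img_one]

section

variable [FiniteDimensional F V]

/-- two subspaces of the same dimension, one inside the other, are equal. -/
theorem eq_of_le_of_finrank {p q : Submodule F V} (h : p ≤ q) (hd : finrank F q ≤ finrank F p) :
    p = q := Submodule.eq_of_le_of_finrank_le h hd

variable (M : Subgroup (V ≃ₗ[F] V))
  (hM : ∀ (ψ : V →ₗ[K] K) (a : V) (h : ψ a = 0), ktv ψ a h ∈ M)

include hM

/-- the key property of a pair with maximal intersection. -/
theorem max_prop {a : V} {g : V ≃ₗ[F] V} (hg : g ∈ M)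
    (hmax : ∀ g' ∈ M, img g' (kline F K a) ≠ kline F K a →
      finrank F ↥(kline F K a ⊓ img g' (kline F K a)) ≤
        finrank F ↥(kline F K a ⊓ img g (kline F K a)))
    (ψ : V →ₗ[K] K) (hψ : ψ a = 0) {w : V} (hw : w ∈ img g (kline F K a))
    (hwL : w ∉ kline F K a) (hwψ : ψ w • a ∈ img g (kline F K a)) :
    ∀ w' ∈ img g (kline F K a), ψ w' • a ∈ img g (kline F K a) := by
  set L := kline F K a with hL
  set W := img g L with hW
  set z := ktv (F := F) ψ a hψ with hz
  have hzM : z ∈ M := hM ψ a hψ
  -- `z` fixes `L` pointwise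
  have hzL : ∀ x ∈ L, z x = x := by
    intro x hx
    obtain ⟨c, rfl⟩ := mem_kline.mp hx
    rw [hz, ktv_apply, map_smul, hψ, smul_zero, zero_smul, add_zero]
  have hzw : z w = w + ψ w • a := rfl
  have hzwW : z w ∈ W := by rw [hzw]; exact W.add_mem hw hwψ
  have hzwL : z w ∉ L := by
    intro h
    apply hwL
    have : w = z w - ψ w • a := by rw [hzw]; abel
    rw [this]
    exact L.sub_mem h (smul_mem_kline _ _)
  -- the intersection `W ⊓ zW` is bigger than `L ⊓ W`
  have hlt : L ⊓ W < W ⊓ img z W := by
    refine lt_of_le_of_ne ?_ ?_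
    · intro x hx
      refine ⟨hx.2, ?_⟩
      rw [← hzL x hx.1]
      exact apply_mem_img hx.2
    · intro heq
      have : z w ∈ L ⊓ W := by
        rw [heq]; exact ⟨hzwW, apply_mem_img hw⟩
      exact hzwL this.1
  have hfin : finrank F ↥(L ⊓ W) < finrank F ↥(W ⊓ img z W) :=
    Submodule.finrank_lt_finrank_of_lt hlt
  -- transport by `g⁻¹`
  set g' := g⁻¹ * z * g with hg'
  have hg'M : g' ∈ M := M.mul_mem (M.mul_mem (M.inv_mem hg) hzM) hg
  have himg : img g (L ⊓ img g' L) = W ⊓ img z W := by
    rw [img_inf, hg', img_mul, img_mul, ← hW]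
    congr 1
    rw [← img_mul, mul_inv_cancel, img_one]
  have hfin' : finrank F ↥(L ⊓ img g' L) = finrank F ↥(W ⊓ img z W) := by
    rw [← himg, finrank_img]
  have hg'L : img g' L = L := by
    by_contra hne
    have := hmax g' hg'M hne
    omega
  have hzW : img z W = W := by
    have : img g (img g' L) = img g L := by rw [hg'L]
    rw [hg', img_mul, img_mul, ← hW, ← img_mul, mul_inv_cancel, img_one] at this
    exact this
  intro w' hw'
  have h1 : z w' ∈ W := by rw [← hzW]; exact apply_mem_img hw'
  have : ψ w' • a = z w' - w' := by rw [hz, ktv_apply]; abel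
  rw [this]
  exact W.sub_mem h1 hw'

end

end Cfsg.Agent.Helper7.ExtF
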