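import Cfsg.Agent.Helper7.ExtFD

set_option autoImplicit false
set_option linter.unusedSectionVars false

/-! Extension-field normalisers (helper7): a pair (`K`-line, image of the `K`-line) meeting in
codimension one. -/

namespace Cfsg.Agent.Helper7.ExtF

open Module

variable {F : Type*} [Field F] {V : Type*} [AddCommGroup V] [Module F V]
  {K : Type*} [Field K] [Algebra F K] [Module K V] [IsScalarTower F K V]
  [FiniteDimensional F V]

theorem notMem_span_of_notMem_kline {a w : V} (h : w ∉ kline F K a) :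
    w ∉ Submodule.span K {a} := fun h' => h (by rw [kline, Submodule.restrictScalars_mem]; exact h')

/-- the stabiliser (by multiplication) of an `F`-subspace of `K`, as a subalgebra. -/
def stabAlg (Da : Submodule F K) : Subalgebra F K where
  carrier := {x | ∀ κ ∈ Da, x * κ ∈ Da}
  mul_mem' := by
    intro x y hx hy κ hκ
    rw [mul_assoc]; exact hx _ (hy _ hκ)
  add_mem' := by
    intro x y hx hy κ hκ
    rw [add_mul]; exact Da.add_mem (hx _ hκ) (hy _ hκ)
  algebraMap_mem' := by
    intro c κ hκ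
    rw [← Algebra.smul_def]; exact Da.smul_mem c hκ

theorem mem_stabAlg {Da : Submodule F K} {x : K} : x ∈ stabAlg Da ↔ ∀ κ ∈ Da, x * κ ∈ Da :=
  Iff.rfl

theorem exists_codim_one (M : Subgroup (V ≃ₗ[F] V))
    (hM : ∀ (ψ : V →ₗ[K] K) (a : V) (h : ψ a = 0), ktv ψ a h ∈ M)
    (h2 : 2 ≤ finrank K V) (hr : (finrank F K).Prime) (hne : ∃ g ∈ M, ¬ IsSemi K g) :
    ∃ a : V, a ≠ 0 ∧ ∃ g ∈ M, img g (kline F K a) ≠ kline F K a ∧
      finrank F ↥(kline F K a ⊓ img g (kline F K a)) + 1 = finrank F K := by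
  classical
  obtain ⟨h, hhM, a, ha, hfix, c, hc⟩ := exists_fix_move M hM h2 hne
  refine ⟨a, ha, ?_⟩
  set L := kline F K a with hL
  have hLr : finrank F ↥L = finrank F K := finrank_kline ha
  have hhL : img h L ≠ L := by
    intro heq
    have : h (c • a) ∈ L := by rw [← heq]; exact apply_mem_img (smul_mem_kline c a)
    obtain ⟨c', hc'⟩ := mem_kline.mp this
    exact hc c' hc'.symm
  have haI : a ∈ L ⊓ img h L := ⟨self_mem_kline a, by
    have := apply_mem_img (g := h) (self_mem_kline (F := F) (K := K) a)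
    rwa [hfix] at this⟩
  have hle : ∀ g : V ≃ₗ[F] V, finrank F ↥(L ⊓ img g L) ≤ finrank F K := fun g => by
    rw [← hLr]; exact Submodule.finrank_mono inf_le_left
  set P : ℕ → Prop := fun n => ∃ g ∈ M, img g L ≠ L ∧ finrank F ↥(L ⊓ img g L) = n with hP
  have hP0 : P (finrank F ↥(L ⊓ img h L)) := ⟨h, hhM, hhL, rfl⟩
  have hPd : P (Nat.findGreatest P (finrank F K)) := Nat.findGreatest_spec (hle h) hP0
  have hd0 : finrank F ↥(L ⊓ img h L) ≤ Nat.findGreatest P (finrank F K) :=
    Nat.le_findGreatest (hle h) hP0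
  obtain ⟨g, hgM, hgL, hgd⟩ := hPd
  refine ⟨g, hgM, hgL, ?_⟩
  have hmax : ∀ g' ∈ M, img g' L ≠ L →
      finrank F ↥(L ⊓ img g' L) ≤ finrank F ↥(L ⊓ img g L) := by
    intro g' hg' hne'
    rw [hgd]
    exact Nat.le_findGreatest (hle g') ⟨g', hg', hne', rfl⟩
  set W := img g L with hW
  set D := L ⊓ W with hD
  have hWr : finrank F ↥W = finrank F K := by rw [hW, finrank_img, hLr]
  have hd1 : 1 ≤ finrank F ↥D := by
    have h1 : 1 ≤ finrank F ↥(L ⊓ img h L) := by
      rw [Nat.succ_le_iff, finrank_pos_iff_exists_ne_zero]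
      exact ⟨⟨a, haI⟩, fun h0 => ha (congrArg Subtype.val h0)⟩
    omega
  have hDL : D < L := by
    refine lt_of_le_of_ne inf_le_left fun heq => hgL ?_
    have hLW : L ≤ W := by rw [← heq]; exact inf_le_right
    exact (eq_of_le_of_finrank hLW (by rw [hWr, hLr])).symm
  have hDW : D < W := by
    refine lt_of_le_of_ne inf_le_right fun heq => hgL ?_
    have hWL : W ≤ L := by rw [← heq]; exact inf_le_left
    exact eq_of_le_of_finrank hWL (by rw [hWr, hLr])
  have hdr : finrank F ↥D < finrank F K := by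
    rw [← hLr]; exact Submodule.finrank_lt_finrank_of_lt hDL
  by_contra hcon
  have hd2 : finrank F ↥D + 2 ≤ finrank F K := by omega
  -- two vectors of `W` independent modulo `D`
  obtain ⟨w, hwW, hwD⟩ := SetLike.exists_of_lt hDW
  have hwL : w ∉ L := fun h' => hwD ⟨h', hwW⟩
  have hD'W : D ⊔ Submodule.span F {w} < W := by
    refine lt_of_le_of_ne (sup_le inf_le_right ?_) fun heq => ?_
    · rw [Submodule.span_singleton_le_iff_mem]; exact hwW
    · have h1 : finrank F ↥(D ⊔ Submodule.span F {w}) ≤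
          finrank F ↥D + finrank F ↥(Submodule.span F {w}) :=
        Submodule.finrank_add_le_finrank_add_finrank _ _
      have h2' : finrank F ↥(Submodule.span F {w}) ≤ 1 := by
        have := finrank_span_le_card (R := F) ({w} : Set V)
        simpa using this
      rw [heq, hWr] at h1
      omega
  obtain ⟨w', hw'W, hw'D⟩ := SetLike.exists_of_lt hD'W
  have hindep : ∀ c : F, w' - c • w ∉ L := by
    intro c hcL
    apply hw'D
    have h1 : w' - c • w ∈ D := ⟨hcL, W.sub_mem hw'W (W.smul_mem c hwW)⟩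
    have : w' = (w' - c • w) + c • w := by abel
    rw [this]
    exact Submodule.add_mem _ (Submodule.mem_sup_left h1)
      (Submodule.mem_sup_right (Submodule.smul_mem _ c (Submodule.mem_span_singleton_self w)))
  -- the subspace `Da` of `K`
  set Da : Submodule F K := W.comap ((LinearMap.toSpanSingleton K V a).restrictScalars F) with hDa
  have hmemDa : ∀ κ : K, κ ∈ Da ↔ κ • a ∈ W := fun κ => by
    rw [hDa, Submodule.mem_comap]; rfl
  obtain ⟨κ', hκ'⟩ : ∃ κ' : K, κ' ∉ Da := by
    by_contra hall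
    push Not at hall
    apply hgL
    have hLW : L ≤ W := by
      intro x hx
      obtain ⟨c, rfl⟩ := mem_kline.mp hx
      exact (hmemDa c).mp (hall c)
    exact (eq_of_le_of_finrank hLW (by rw [hWr, hLr])).symm
  obtain ⟨κ₀, hκ₀, hκ₀0⟩ : ∃ κ₀ : K, κ₀ ∈ Da ∧ κ₀ ≠ 0 := by
    have : 0 < finrank F ↥D := by omega
    rw [finrank_pos_iff_exists_ne_zero] at this
    obtain ⟨⟨x, hx⟩, hx0⟩ := this
    obtain ⟨c, rfl⟩ := mem_kline.mp hx.1
    refine ⟨c, (hmemDa c).mpr hx.2, fun h0 => hx0 ?_⟩
    apply Subtype.ext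
    simp [h0]
  have haw : KInd (K := K) a w := ⟨ha, notMem_span_of_notMem_kline hwL⟩
  have hprop := max_prop M hM hgM hmax
  by_cases hcase : w' ∈ Submodule.span K {a, w}
  · obtain ⟨μ, l, hμl⟩ := Submodule.mem_span_pair.mp hcase
    have hl : l ∉ Set.range (algebraMap F K) := by
      rintro ⟨c, rfl⟩
      apply hindep c
      have : w' - c • w = μ • a := by
        rw [← hμl, algebraMap_smul]; abel
      rw [this]; exact smul_mem_kline μ a
    have hlE : l ∈ stabAlg Da := by
      intro κ hκ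
      obtain ⟨ψ, hψa, hψw⟩ := exists_kfunc_two haw 0 κ
      have := hprop ψ hψa hwW hwL (by rw [hψw]; exact (hmemDa κ).mp hκ) w' hw'W
      rw [← hμl, map_add, map_smul, map_smul, hψa, hψw, smul_zero, zero_add, smul_eq_mul] at this
      exact (hmemDa _).mpr this
    have hsimple := Subalgebra.isSimpleOrder_of_finrank_prime F K hr
    rcases hsimple.eq_bot_or_eq_top (stabAlg Da) with hbot | htop
    · rw [hbot, Algebra.mem_bot] at hlE
      exact hl hlE
    · apply hκ'
      have h1 : κ' * κ₀⁻¹ ∈ stabAlg Da := by rw [htop]; exact Algebra.mem_top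
      have := h1 κ₀ hκ₀
      rwa [mul_assoc, inv_mul_cancel₀ hκ₀0, mul_one] at this
  · obtain ⟨ψ, hψS, hψw'⟩ := exists_kfunc (Submodule.span K {a, w}) hcase
    have hψa : (κ' • ψ) a = 0 := by
      rw [LinearMap.smul_apply, hψS a (Submodule.subset_span (by simp)), smul_zero]
    have hψw : (κ' • ψ) w = 0 := by
      rw [LinearMap.smul_apply, hψS w (Submodule.subset_span (by simp)), smul_zero]
    have := hprop (κ' • ψ) hψa hwW hwL (by rw [hψw, zero_smul]; exact W.zero_mem) w' hw'W
    rw [LinearMap.smul_apply, hψw', smul_eq_mul, mul_one] at this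
    exact hκ' ((hmemDa κ').mpr this)

end Cfsg.Agent.Helper7.ExtF
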