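import Cfsg.Agent.Helper7.ExtFE

set_option autoImplicit false
set_option linter.unusedSectionVars false

/-! Extension-field normalisers (helper7): the configuration of a `K`-line `L` and an image `W` of
it meeting in codimension one; products of the nilpotent parts of the root elements. -/

namespace Cfsg.Agent.Helper7.ExtF

open Module

variable {F : Type*} [Field F] {V : Type*} [AddCommGroup V] [Module F V]
  {K : Type*} [Field K] [Algebra F K] [Module K V] [IsScalarTower F K V]

/-- pointwise form of the commutator formula. -/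
theorem uni_comm_apply {A B : Module.End F V} (hA : A * A = 0) (hB : B * B = 0) (v : V) :
    (uni A hA * uni B hB * (uni A hA)⁻¹ * (uni B hB)⁻¹) v =
      v + (A (B v) - B (A v) + B (A (B v)) - A (B (A v)) + A (B (A (B v)))) := by
  have h : ((uni A hA * uni B hB * (uni A hA)⁻¹ * (uni B hB)⁻¹ : V ≃ₗ[F] V) : V →ₗ[F] V) =
      1 + A * B - B * A + B * A * B - A * B * A + A * B * A * B := by
    rw [toLin_mul, toLin_mul, toLin_mul, uni_inv, uni_inv, uni_toLinearMap, uni_toLinearMap,
      uni_toLinearMap, uni_toLinearMap, ← sub_eq_add_neg, ← sub_eq_add_neg,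
      comm_formula A B hA hB]
  have h' := LinearMap.congr_fun h v
  rw [LinearEquiv.coe_coe] at h'
  rw [h']
  simp only [LinearMap.add_apply, LinearMap.sub_apply, Module.End.mul_apply, Module.End.one_apply]
  abel

/-- conjugate of an endomorphism by an automorphism. -/
def conjEnd (g : V ≃ₗ[F] V) (A : Module.End F V) : Module.End F V :=
  (g : V →ₗ[F] V) * A * ((g⁻¹ : V ≃ₗ[F] V) : V →ₗ[F] V)

theorem conjEnd_apply (g : V ≃ₗ[F] V) (A : Module.End F V) (v : V) :
    conjEnd g A v = g (A (g⁻¹ v)) := rfl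

theorem inv_apply_self (g : V ≃ₗ[F] V) (v : V) : g⁻¹ (g v) = v := by
  rw [← LinearEquiv.mul_apply, inv_mul_cancel]; rfl

theorem apply_inv_self (g : V ≃ₗ[F] V) (v : V) : g (g⁻¹ v) = v := by
  rw [← LinearEquiv.mul_apply, mul_inv_cancel]; rfl

theorem conjEnd_sq {g : V ≃ₗ[F] V} {A : Module.End F V} (hA : A * A = 0) :
    conjEnd g A * conjEnd g A = 0 := by
  apply LinearMap.ext; intro v
  have h : A (A (g⁻¹ v)) = 0 := by
    have := LinearMap.congr_fun hA (g⁻¹ v); simpa using this
  simp only [Module.End.mul_apply, conjEnd_apply, inv_apply_self, h, map_zero,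
    LinearMap.zero_apply]

theorem uni_conjEnd (g : V ≃ₗ[F] V) {A : Module.End F V} (hA : A * A = 0) :
    uni (conjEnd g A) (conjEnd_sq hA) = g * uni A hA * g⁻¹ := by
  apply LinearEquiv.ext; intro v
  rw [uni_apply, conjEnd_apply, LinearEquiv.mul_apply, LinearEquiv.mul_apply, uni_apply, map_add,
    apply_inv_self]

variable [FiniteDimensional F V]

/-- a subspace of codimension one in another: decomposition along a vector outside. -/
theorem codim_one_decomp {D W : Submodule F V} (hDW : D ≤ W)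
    (hfin : finrank F ↥W ≤ finrank F ↥D + 1) {w : V} (hw : w ∈ W) (hwD : w ∉ D) :
    ∀ x ∈ W, ∃ c : F, x - c • w ∈ D := by
  have hlt : D < D ⊔ Submodule.span F {w} := by
    refine lt_of_le_of_ne le_sup_left fun heq => hwD ?_
    rw [heq]
    exact Submodule.mem_sup_right (Submodule.mem_span_singleton_self w)
  have hle : D ⊔ Submodule.span F {w} ≤ W :=
    sup_le hDW (by rw [Submodule.span_singleton_le_iff_mem]; exact hw)
  have h1 := Submodule.finrank_lt_finrank_of_lt hlt
  have heq : D ⊔ Submodule.span F {w} = W := eq_of_le_of_finrank hle (by omega)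
  intro x hx
  rw [← heq, Submodule.mem_sup] at hx
  obtain ⟨d, hd, y, hy, rfl⟩ := hx
  obtain ⟨c, rfl⟩ := Submodule.mem_span_singleton.mp hy
  exact ⟨c, by rw [add_sub_cancel_right]; exact hd⟩

/-- the configuration: a `K`-line `L = K a`, its image `W` under `g`, vectors `e ∈ L ∖ W`,
`w ∈ W ∖ L` generating `L`, `W` modulo `L ⊓ W`, and functionals `ω`, `η` detecting them. -/
structure Cfg (K : Type*) [Field K] [Algebra F K] [Module K V] [IsScalarTower F K V]
    (a : V) (g : V ≃ₗ[F] V) (e w : V) (ω η : Module.Dual F V) : Prop where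
  ha : a ≠ 0
  hw : w ∈ img g (kline F K a)
  hwL : w ∉ kline F K a
  hW : ∀ x ∈ img g (kline F K a), ∃ c : F, x - c • w ∈ kline F K a
  he : e ∈ kline F K a
  heW : e ∉ img g (kline F K a)
  hL : ∀ x ∈ kline F K a, ∃ c : F, x - c • e ∈ img g (kline F K a)
  hωL : ∀ x ∈ kline F K a, ω x = 0
  hωw : ω w = 1
  hηW : ∀ x ∈ img g (kline F K a), η x = 0
  hηe : η e = 1

theorem exists_cfg {a : V} (ha : a ≠ 0) {g : V ≃ₗ[F] V}
    (hgL : img g (kline F K a) ≠ kline F K a)
    (hfin : finrank F ↥(kline F K a ⊓ img g (kline F K a)) + 1 = finrank F K) :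
    ∃ (e w : V) (ω η : Module.Dual F V), Cfg K a g e w ω η := by
  set L := kline F K a with hL
  set W := img g L with hW
  have hLr : finrank F ↥L = finrank F K := finrank_kline ha
  have hWr : finrank F ↥W = finrank F K := by rw [hW, finrank_img, hLr]
  have hDL : L ⊓ W < L := by
    refine lt_of_le_of_ne inf_le_left fun heq => hgL ?_
    have hLW : L ≤ W := by rw [← heq]; exact inf_le_right
    exact (eq_of_le_of_finrank hLW (by rw [hWr, hLr])).symm
  have hDW : L ⊓ W < W := by
    refine lt_of_le_of_ne inf_le_right fun heq => hgL ?_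
    have hWL : W ≤ L := by rw [← heq]; exact inf_le_left
    exact eq_of_le_of_finrank hWL (by rw [hWr, hLr])
  obtain ⟨w, hwW, hwD⟩ := SetLike.exists_of_lt hDW
  obtain ⟨e, heL, heD⟩ := SetLike.exists_of_lt hDL
  have hwL : w ∉ L := fun h => hwD ⟨h, hwW⟩
  have heW : e ∉ W := fun h => heD ⟨heL, h⟩
  obtain ⟨ω, hω1, hω2⟩ := exists_kfunc (K := F) L hwL
  obtain ⟨η, hη1, hη2⟩ := exists_kfunc (K := F) W heW
  refine ⟨e, w, ω, η, ha, hwW, hwL, ?_, heL, heW, ?_, hω1, hω2, hη1, hη2⟩
  · intro x hx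
    obtain ⟨c, hc⟩ := codim_one_decomp (inf_le_right : L ⊓ W ≤ W) (by omega) hwW hwD x hx
    exact ⟨c, hc.1⟩
  · intro x hx
    obtain ⟨c, hc⟩ := codim_one_decomp (inf_le_left : L ⊓ W ≤ L) (by omega) heL heD x hx
    exact ⟨c, hc.2⟩

namespace Cfg

variable {a : V} {g : V ≃ₗ[F] V} {e w : V} {ω η : Module.Dual F V} (c : Cfg K a g e w ω η)

include c

/-- elements of `W` in terms of `w`. -/
theorem sub_mem_W {x : V} (hx : x ∈ img g (kline F K a)) :
    x - ω x • w ∈ kline F K a ∧ x - ω x • w ∈ img g (kline F K a) := by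
  obtain ⟨k, hk⟩ := c.hW x hx
  have : ω x = k := by
    have h := c.hωL _ hk
    rw [map_sub, map_smul, c.hωw, smul_eq_mul, mul_one, sub_eq_zero] at h
    exact h
  rw [this]
  exact ⟨hk, Submodule.sub_mem _ hx (Submodule.smul_mem _ k c.hw)⟩

/-- elements of `L` in terms of `e`. -/
theorem sub_mem_L {x : V} (hx : x ∈ kline F K a) :
    x - η x • e ∈ img g (kline F K a) ∧ x - η x • e ∈ kline F K a := by
  obtain ⟨k, hk⟩ := c.hL x hx
  have : η x = k := by
    have h := c.hηW _ hk
    rw [map_sub, map_smul, c.hηe, smul_eq_mul, mul_one, sub_eq_zero] at h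
    exact h
  rw [this]
  exact ⟨hk, Submodule.sub_mem _ hx (Submodule.smul_mem _ k c.he)⟩

/-- `A ∘ B` for `A` killing `L` and `B` with image in `W`. -/
theorem AB_apply {A B : Module.End F V} (hAL : ∀ x ∈ kline F K a, A x = 0)
    (hBim : ∀ v, B v ∈ img g (kline F K a)) (v : V) : A (B v) = ω (B v) • A w := by
  have h := (c.sub_mem_W (hBim v)).1
  have := hAL _ h
  rw [map_sub, map_smul, sub_eq_zero] at this
  exact this

/-- `B ∘ A` for `B` killing `W` and `A` with image in `L`. -/
theorem BA_apply {A B : Module.End F V} (hBW : ∀ x ∈ img g (kline F K a), B x = 0)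
    (hAim : ∀ v, A v ∈ kline F K a) (v : V) : B (A v) = η (A v) • B e := by
  have h := (c.sub_mem_L (hAim v)).1
  have := hBW _ h
  rw [map_sub, map_smul, sub_eq_zero] at this
  exact this

end Cfg

/-- the nilpotent part of a `K`-transvection centred at `a` kills the `K`-line of `a`. -/
theorem kA_kills {ψ : V →ₗ[K] K} {a : V} (h : ψ a = 0) :
    ∀ x ∈ kline F K a, kA (F := F) ψ a x = 0 := by
  intro x hx
  obtain ⟨k, rfl⟩ := mem_kline.mp hx
  rw [kA_apply, map_smul, h, smul_zero, zero_smul]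

theorem kA_mem (ψ : V →ₗ[K] K) (a : V) (v : V) : kA (F := F) ψ a v ∈ kline F K a :=
  smul_mem_kline _ _

theorem conj_kA_kills {ψ : V →ₗ[K] K} {a : V} (h : ψ a = 0) (g : V ≃ₗ[F] V) :
    ∀ x ∈ img g (kline F K a), conjEnd g (kA (F := F) ψ a) x = 0 := by
  intro x hx
  obtain ⟨y, hy, rfl⟩ := mem_img.mp hx
  rw [conjEnd_apply, inv_apply_self, kA_kills h y hy, map_zero]

theorem conj_kA_mem (ψ : V →ₗ[K] K) (a : V) (g : V ≃ₗ[F] V) (v : V) :
    conjEnd g (kA (F := F) ψ a) v ∈ img g (kline F K a) := by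
  rw [conjEnd_apply]; exact apply_mem_img (kA_mem _ _ _)

end Cfsg.Agent.Helper7.ExtF
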