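import Cfsg.Agent.Helper7.ExtFF

set_option autoImplicit false
set_option linter.unusedSectionVars false

/-! Extension-field normalisers (helper7): from the codimension-one configuration to a transvection
over the small field: the case of `K`-dimension at least three, and the case of at least three
scalars. -/

namespace Cfsg.Agent.Helper7.ExtF

open Module

variable {F : Type*} [Field F] {V : Type*} [AddCommGroup V] [Module F V]
  {K : Type*} [Field K] [Algebra F K] [Module K V] [IsScalarTower F K V]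

/-- the subgroup contains a non-trivial transvection over the small field. -/
def HasTv (M : Subgroup (V ≃ₗ[F] V)) : Prop :=
  ∃ (φ : Module.Dual F V) (v₀ : V) (h : φ v₀ = 0), φ ≠ 0 ∧ v₀ ≠ 0 ∧ ftv φ v₀ h ∈ M

theorem exists_notMem_span_pair (h3 : 3 ≤ finrank K V) (a w : V) :
    ∃ u : V, u ∉ Submodule.span K {a, w} := by
  by_contra hcon
  push Not at hcon
  have htop : Submodule.span K {a, w} = ⊤ := by
    rw [eq_top_iff]; intro x _; exact hcon x
  have hfd : FiniteDimensional K V := Module.finite_of_finrank_pos (by omega)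
  have h1 : finrank K (Submodule.span K {a, w}) ≤ 2 := by
    classical
    have := finrank_span_le_card (R := K) ({a, w} : Set V)
    refine this.trans ?_
    rw [Set.toFinset_card]
    have : Fintype.card ↥({a, w} : Set V) ≤ 2 := by
      rw [← Set.toFinset_card]
      simp only [Set.toFinset_insert, Set.toFinset_singleton]
      exact Finset.card_le_two
    exact this
  rw [htop, finrank_top] at h1
  omega

variable [FiniteDimensional F V]

variable (M : Subgroup (V ≃ₗ[F] V))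
  (hM : ∀ (ψ : V →ₗ[K] K) (a : V) (h : ψ a = 0), ktv ψ a h ∈ M)

namespace Cfg

variable {a : V} {g : V ≃ₗ[F] V} {e w : V} {ω η : Module.Dual F V} (c : Cfg K a g e w ω η)

include c

theorem inv_e_notMem : g⁻¹ e ∉ Submodule.span K {a} := by
  intro h
  obtain ⟨k, hk⟩ := Submodule.mem_span_singleton.mp h
  apply c.heW
  have : e = g (k • a) := by rw [hk, apply_inv_self]
  rw [this]
  exact apply_mem_img (smul_mem_kline k a)

/-- the commutator of a root element centred at `a` stabilising `W` and a conjugate root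
element. -/
theorem comm_cfg (ψ χ : V →ₗ[K] K) (hψ : ψ a = 0) (hχ : χ a = 0)
    (hAw : ψ w • a ∈ img g (kline F K a)) (v : V) :
    (ktv (F := F) ψ a hψ * (g * ktv (F := F) χ a hχ * g⁻¹) * (ktv (F := F) ψ a hψ)⁻¹ *
        (g * ktv (F := F) χ a hχ * g⁻¹)⁻¹) v =
      v + (ω (conjEnd g (kA (F := F) χ a) v) • (ψ w • a)
        - η (kA (F := F) ψ a v) • conjEnd g (kA (F := F) χ a) e
        - η (kA (F := F) ψ a v) • ω (conjEnd g (kA (F := F) χ a) e) • (ψ w • a)) := by
  set A := kA (F := F) ψ a with hA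
  set B := conjEnd g (kA (F := F) χ a) with hB
  have hA2 : A * A = 0 := kA_sq hψ
  have hB2 : B * B = 0 := conjEnd_sq (kA_sq hχ)
  have e1 : ktv (F := F) ψ a hψ = uni A hA2 := rfl
  have e2 : g * ktv (F := F) χ a hχ * g⁻¹ = uni B hB2 := (uni_conjEnd g (kA_sq hχ)).symm
  rw [e1, e2, uni_comm_apply hA2 hB2 v]
  have hAL := kA_kills (F := F) hψ
  have hAim := kA_mem (F := F) ψ a
  have hBW := conj_kA_kills (F := F) hχ g
  have hBim := conj_kA_mem (F := F) χ a g
  have hAw' : A w = ψ w • a := rfl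
  have hAB : ∀ v, A (B v) = ω (B v) • A w := c.AB_apply hAL hBim
  have hBA : ∀ v, B (A v) = η (A v) • B e := c.BA_apply hBW hAim
  have hBAw : B (A w) = 0 := hBW _ (by rw [hAw']; exact hAw)
  rw [hAB v, hBA v, map_smul, hBAw, smul_zero, map_zero, map_smul, hAB e, hAw']
  abel

end Cfg

include hM

/-- `K`-dimension at least three: a transvection over `F`. -/
theorem hasTv_of_three {a : V} {g : V ≃ₗ[F] V} {e w : V} {ω η : Module.Dual F V}
    (c : Cfg K a g e w ω η) (hg : g ∈ M) (h3 : 3 ≤ finrank K V) : HasTv M := by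
  obtain ⟨u, hu⟩ := exists_notMem_span_pair (K := K) h3 a w
  obtain ⟨ψ, hψS, hψu⟩ := exists_kfunc (Submodule.span K {a, w}) hu
  have hψa : ψ a = 0 := hψS a (Submodule.subset_span (by simp))
  have hψw : ψ w = 0 := hψS w (Submodule.subset_span (by simp))
  obtain ⟨ce, hce⟩ := mem_kline.mp c.he
  have hind : KInd (K := K) a (g⁻¹ e) := ⟨c.ha, c.inv_e_notMem⟩
  obtain ⟨χ, hχa, hχe⟩ := exists_kfunc_two hind 0 1
  have hBe : conjEnd g (kA (F := F) χ a) e = g a := by
    rw [conjEnd_apply, kA_apply, hχe, one_smul]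
  set t := ktv (F := F) ψ a hψa * (g * ktv (F := F) χ a hχa * g⁻¹) *
    (ktv (F := F) ψ a hψa)⁻¹ * (g * ktv (F := F) χ a hχa * g⁻¹)⁻¹ with ht
  have hyM : g * ktv (F := F) χ a hχa * g⁻¹ ∈ M :=
    M.mul_mem (M.mul_mem hg (hM _ _ _)) (M.inv_mem hg)
  have htM : t ∈ M :=
    M.mul_mem (M.mul_mem (M.mul_mem (hM _ _ _) hyM) (M.inv_mem (hM _ _ _))) (M.inv_mem hyM)
  set φ : Module.Dual F V := -(η ∘ₗ kA (F := F) ψ a) with hφ
  have htv : ∀ v, t v = v + φ v • g a := by
    intro v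
    rw [ht, c.comm_cfg ψ χ hψa hχa (by rw [hψw, zero_smul]; exact Submodule.zero_mem _) v,
      hBe, hψw, hφ]
    simp only [zero_smul, smul_zero, sub_zero, LinearMap.neg_apply, LinearMap.comp_apply, neg_smul]
    abel
  have hga : g a ≠ 0 := fun h => c.ha (by simpa using h)
  have hφga : φ (g a) = 0 := by
    have h1 : kA (F := F) ψ a (g a) = 0 := by
      have hBim := conj_kA_mem (F := F) χ a g
      have := c.AB_apply (kA_kills (F := F) hψa) hBim e
      rw [hBe] at this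
      rw [this, kA_apply ψ a w, hψw, zero_smul, smul_zero]
    rw [hφ, LinearMap.neg_apply, LinearMap.comp_apply, h1, map_zero, neg_zero]
  have hφ0 : φ ≠ 0 := by
    intro h0
    have h1 : φ (ce • u) = -1 := by
      have h2 : kA (F := F) ψ a (ce • u) = e := by
        rw [kA_apply, ψ.map_smul, hψu, smul_eq_mul, mul_one, hce]
      rw [hφ, LinearMap.neg_apply, LinearMap.comp_apply, h2, c.hηe]
    rw [h0, LinearMap.zero_apply] at h1
    exact one_ne_zero (neg_eq_zero.mp h1.symm)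
  refine ⟨φ, g a, hφga, hφ0, hga, ?_⟩
  rw [← eq_ftv_of_toLin hφga htv]
  exact htM

/-- at least three scalars: a transvection over `F`. -/
theorem hasTv_of_scalar {a : V} {g : V ≃ₗ[F] V} {e w : V} {ω η : Module.Dual F V}
    (c : Cfg K a g e w ω η) (hg : g ∈ M)
    (hD : ∃ δ ∈ kline F K a ⊓ img g (kline F K a), δ ≠ 0)
    {l : F} (hl0 : l ≠ 0) (hl1 : l ≠ 1) : HasTv M := by
  obtain ⟨δ, hδ, hδ0⟩ := hD
  obtain ⟨κ, hκ⟩ := mem_kline.mp hδ.1
  have hκ0 : κ ≠ 0 := by
    rintro rfl; rw [zero_smul] at hκ; exact hδ0 hκ.symm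
  have haw : KInd (K := K) a w := ⟨c.ha, notMem_span_of_notMem_kline c.hwL⟩
  obtain ⟨ψ, hψa, hψw⟩ := exists_kfunc_two haw 0 κ
  obtain ⟨y₀, hy₀, hgy₀⟩ := mem_img.mp c.hw
  obtain ⟨cw, hcw⟩ := mem_kline.mp hy₀
  obtain ⟨ce, hce⟩ := mem_kline.mp c.he
  have hind : KInd (K := K) a (g⁻¹ e) := ⟨c.ha, c.inv_e_notMem⟩
  obtain ⟨χ, hχa, hχe⟩ := exists_kfunc_two hind 0 cw
  have hBe : conjEnd g (kA (F := F) χ a) e = w := by
    rw [conjEnd_apply, kA_apply, hχe, hcw, hgy₀]
  -- scaled functionals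
  set l' : K := algebraMap F K l with hl'
  have hψa' : (l' • ψ) a = 0 := by rw [LinearMap.smul_apply, hψa, smul_zero]
  have hχa' : (l' • χ) a = 0 := by rw [LinearMap.smul_apply, hχa, smul_zero]
  have hkA : ∀ (ξ : V →ₗ[K] K) (v : V), kA (F := F) (l' • ξ) a v = l • kA (F := F) ξ a v := by
    intro ξ v
    rw [kA_apply, kA_apply, LinearMap.smul_apply, smul_eq_mul, mul_smul, hl', algebraMap_smul]
  have hcB : ∀ v, conjEnd g (kA (F := F) (l' • χ) a) v = l • conjEnd g (kA (F := F) χ a) v := by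
    intro v
    rw [conjEnd_apply, conjEnd_apply, hkA, map_smul]
  have hδW : ψ w • a ∈ img g (kline F K a) := by rw [hψw, hκ]; exact hδ.2
  have hδW' : (l' • ψ) w • a ∈ img g (kline F K a) := by
    have : (l' • ψ) w • a = l • (ψ w • a) := hkA ψ w
    rw [this]; exact Submodule.smul_mem _ l hδW
  set y₁ := g * ktv (F := F) χ a hχa * g⁻¹ with hy₁
  set y₂ := g * ktv (F := F) (l' • χ) a hχa' * g⁻¹ with hy₂
  set t₁ := ktv (F := F) (l' • ψ) a hψa' * y₁ * (ktv (F := F) (l' • ψ) a hψa')⁻¹ * y₁⁻¹ with ht₁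
  set t₂ := ktv (F := F) ψ a hψa * y₂ * (ktv (F := F) ψ a hψa)⁻¹ * y₂⁻¹ with ht₂
  have hy₁M : y₁ ∈ M := M.mul_mem (M.mul_mem hg (hM _ _ _)) (M.inv_mem hg)
  have hy₂M : y₂ ∈ M := M.mul_mem (M.mul_mem hg (hM _ _ _)) (M.inv_mem hg)
  have ht₁M : t₁ ∈ M :=
    M.mul_mem (M.mul_mem (M.mul_mem (hM _ _ _) hy₁M) (M.inv_mem (hM _ _ _))) (M.inv_mem hy₁M)
  have ht₂M : t₂ ∈ M :=
    M.mul_mem (M.mul_mem (M.mul_mem (hM _ _ _) hy₂M) (M.inv_mem (hM _ _ _))) (M.inv_mem hy₂M)
  set A₁ := kA (F := F) ψ a with hA₁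
  set B := conjEnd g (kA (F := F) χ a) with hB
  have hψwa : ψ w • a = δ := by rw [hψw, hκ]
  have hlw : (l' • ψ) w • a = l • δ := by
    have : (l' • ψ) w • a = l • (ψ w • a) := hkA ψ w
    rw [this, hψwa]
  have ht₁v : ∀ v, t₁ v = v + (l • ω (B v) • δ - l • η (A₁ v) • w - (l * l) • η (A₁ v) • δ) := by
    intro v
    rw [ht₁, hy₁, c.comm_cfg (l' • ψ) χ hψa' hχa hδW' v, hBe, c.hωw, hkA ψ v, hlw, map_smul]
    module
  have ht₂v : ∀ v, t₂ v = v + (l • ω (B v) • δ - l • η (A₁ v) • w - l • η (A₁ v) • δ) := by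
    intro v
    rw [ht₂, hy₂, c.comm_cfg ψ (l' • χ) hψa hχa' hδW v, hcB v, hcB e, hBe, map_smul, map_smul,
      c.hωw, hψwa]
    module
  have hA₁δ : A₁ δ = 0 := kA_kills (F := F) hψa δ hδ.1
  have hBδ : B δ = 0 := conj_kA_kills (F := F) hχa g δ hδ.2
  set φ : Module.Dual F V := (-(l * l - l)) • (η ∘ₗ A₁) with hφ
  have hφδ : φ δ = 0 := by
    rw [hφ, LinearMap.smul_apply, LinearMap.comp_apply, hA₁δ, map_zero, smul_zero]
  have ht₂δ : t₂ δ = δ := by
    rw [ht₂v, hA₁δ, hBδ]; simp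
  have htv : ∀ v, (t₂⁻¹ * t₁) v = v + φ v • δ := by
    intro v
    rw [LinearEquiv.mul_apply]
    have : t₁ v = t₂ (v + φ v • δ) := by
      rw [map_add, map_smul, ht₂δ, ht₁v, ht₂v, hφ]
      simp only [LinearMap.smul_apply, LinearMap.comp_apply, smul_eq_mul, neg_mul, neg_smul,
        sub_smul, mul_smul]
      abel
    rw [this, inv_apply_self]
  have hφ0 : φ ≠ 0 := by
    intro h0
    have h1 : φ ((ce * κ⁻¹) • w) = -(l * l - l) := by
      have h2 : A₁ ((ce * κ⁻¹) • w) = e := by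
        rw [hA₁, kA_apply, ψ.map_smul, hψw, smul_eq_mul, mul_assoc, inv_mul_cancel₀ hκ0, mul_one,
          hce]
      rw [hφ, LinearMap.smul_apply, LinearMap.comp_apply, h2, c.hηe, smul_eq_mul, mul_one]
    rw [h0, LinearMap.zero_apply] at h1
    have h2 : l * (l - 1) = 0 := by
      have := neg_eq_zero.mp h1.symm
      rw [← this]; ring
    rcases mul_eq_zero.mp h2 with h | h
    · exact hl0 h
    · exact hl1 (sub_eq_zero.mp h)
  refine ⟨φ, δ, hφδ, hφ0, hδ0, ?_⟩
  rw [← eq_ftv_of_toLin hφδ htv]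
  exact M.mul_mem (M.inv_mem ht₂M) ht₁M

end Cfsg.Agent.Helper7.ExtF
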