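import Cfsg.Agent.Helper7.ExtFG

set_option autoImplicit false
set_option linter.unusedSectionVars false

/-! Extension-field normalisers (helper7): dilations over the large field, their determinants over
the small field, and the recognition of a transvection from a spanning set. -/

namespace Cfsg.Agent.Helper7.ExtF

open Module

variable {F : Type*} [Field F] {V : Type*} [AddCommGroup V] [Module F V]
  {K : Type*} [Field K] [Algebra F K] [Module K V] [IsScalarTower F K V]

theorem kdil_aux (ψ : V →ₗ[K] K) (z : V) (h : 1 + ψ z ≠ 0) (x : V) :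
    (x - ((1 + ψ z)⁻¹ * ψ x) • z) + ψ (x - ((1 + ψ z)⁻¹ * ψ x) • z) • z = x := by
  have hc : (1 + ψ z)⁻¹ * (1 + ψ z) = 1 := inv_mul_cancel₀ h
  set c := (1 + ψ z)⁻¹ with hcdef
  have key : -(c * ψ x) + (ψ x - c * ψ x * ψ z) = 0 := by linear_combination (-ψ x) * hc
  rw [map_sub, map_smul, smul_eq_mul, sub_eq_add_neg, add_assoc, ← neg_smul, ← add_smul, key,
    zero_smul, add_zero]

theorem kdil_aux' (ψ : V →ₗ[K] K) (z : V) (h : 1 + ψ z ≠ 0) (x : V) :
    (x + ψ x • z) - ((1 + ψ z)⁻¹ * ψ (x + ψ x • z)) • z = x := by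
  have hc : (1 + ψ z)⁻¹ * (1 + ψ z) = 1 := inv_mul_cancel₀ h
  set c := (1 + ψ z)⁻¹ with hcdef
  have key : ψ x - c * (ψ x + ψ x * ψ z) = 0 := by linear_combination (-ψ x) * hc
  rw [map_add, map_smul, smul_eq_mul, add_sub_assoc, ← sub_smul, key, zero_smul, add_zero]

/-- the dilation `x ↦ x + ψ x • z` over the large field, as an automorphism over the small one. -/
def kdil (ψ : V →ₗ[K] K) (z : V) (h : 1 + ψ z ≠ 0) : V ≃ₗ[F] V :=
  LinearEquiv.ofLinear (1 + kA ψ z) (1 - kA ((1 + ψ z)⁻¹ • ψ) z)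
    (by
      ext x
      simp only [LinearMap.comp_apply, LinearMap.add_apply, LinearMap.sub_apply,
        Module.End.one_apply, kA_apply, LinearMap.smul_apply, smul_eq_mul, LinearMap.id_apply]
      exact kdil_aux ψ z h x)
    (by
      ext x
      simp only [LinearMap.comp_apply, LinearMap.add_apply, LinearMap.sub_apply,
        Module.End.one_apply, kA_apply, LinearMap.smul_apply, smul_eq_mul, LinearMap.id_apply]
      exact kdil_aux' ψ z h x)

@[simp] theorem kdil_apply (ψ : V →ₗ[K] K) (z : V) (h : 1 + ψ z ≠ 0) (v : V) :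
    kdil (F := F) ψ z h v = v + ψ v • z := rfl

theorem kdil_smul (ψ : V →ₗ[K] K) (z : V) (h : 1 + ψ z ≠ 0) (c : K) (v : V) :
    kdil (F := F) ψ z h (c • v) = c • kdil (F := F) ψ z h v := by
  rw [kdil_apply, kdil_apply, map_smul, smul_add, smul_eq_mul, mul_smul]

theorem klin_kdil (ψ : V →ₗ[K] K) (z : V) (h : 1 + ψ z ≠ 0) : KLin K (kdil (F := F) ψ z h) :=
  fun c v => kdil_smul ψ z h c v

theorem KLin.isSemi {n : V ≃ₗ[F] V} (h : KLin K n) : IsSemi K n := fun c => ⟨c, fun v => h c v⟩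

theorem ktv_eq_kdil (ψ : V →ₗ[K] K) (a : V) (h : ψ a = 0) :
    ktv (F := F) ψ a h = kdil ψ a (by rw [h, add_zero]; exact one_ne_zero) := by
  ext v; rfl

theorem kdil_toLinearMap (ψ : V →ₗ[K] K) (z : V) (h : 1 + ψ z ≠ 0) :
    ((kdil (F := F) ψ z h : V ≃ₗ[F] V) : V →ₗ[F] V) =
      (LinearMap.transvection ψ z).restrictScalars F := by
  ext v; rfl

/-- the determinant over the small field of a dilation is a norm. -/
theorem det_kdil [FiniteDimensional F V] (ψ : V →ₗ[K] K) (z : V) (h : 1 + ψ z ≠ 0) :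
    LinearMap.det ((kdil (F := F) ψ z h : V ≃ₗ[F] V) : V →ₗ[F] V) =
      Algebra.norm F (1 + ψ z) := by
  haveI : Module.Finite K V := Module.Finite.of_restrictScalars_finite F K V
  rw [kdil_toLinearMap, LinearMap.det_restrictScalars, LinearMap.transvection.det]

theorem det_ktv [FiniteDimensional F V] (ψ : V →ₗ[K] K) (a : V) (h : ψ a = 0) :
    LinearMap.det ((ktv (F := F) ψ a h : V ≃ₗ[F] V) : V →ₗ[F] V) = 1 := by
  rw [ktv_eq_kdil, det_kdil, h, add_zero, map_one]

/-- recognition of a transvection: the displacement lies on a fixed line. -/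
theorem hasTv_of_line (M : Subgroup (V ≃ₗ[F] V)) {t : V ≃ₗ[F] V} (htM : t ∈ M) {v₀ : V}
    (hv₀ : v₀ ≠ 0) (ht : ∀ v, ∃ c : F, t v = v + c • v₀) (hfix : t v₀ = v₀) (hne : t ≠ 1) :
    HasTv M := by
  have hnot : v₀ ∉ (⊥ : Submodule F V) := by simpa using hv₀
  obtain ⟨ω', -, hω'⟩ := exists_kfunc (K := F) (⊥ : Submodule F V) hnot
  set φ : Module.Dual F V := ω' ∘ₗ ((t : V →ₗ[F] V) - 1) with hφ
  have hφv : ∀ v, t v = v + φ v • v₀ := by
    intro v
    obtain ⟨c, hc⟩ := ht v
    have : φ v = c := by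
      rw [hφ, LinearMap.comp_apply, LinearMap.sub_apply, LinearEquiv.coe_coe, hc,
        Module.End.one_apply, add_sub_cancel_left, map_smul, hω', smul_eq_mul, mul_one]
    rw [this, hc]
  have hφ0 : φ v₀ = 0 := by
    rw [hφ, LinearMap.comp_apply, LinearMap.sub_apply, LinearEquiv.coe_coe, hfix,
      Module.End.one_apply, sub_self, map_zero]
  refine ⟨φ, v₀, hφ0, ?_, hv₀, ?_⟩
  · intro h0
    apply hne
    ext v
    rw [hφv v, h0, LinearMap.zero_apply, zero_smul, add_zero]; rfl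
  · rw [← eq_ftv_of_toLin hφ0 hφv]; exact htM

/-- the displacement condition may be checked on a spanning set. -/
theorem line_of_span {t : V ≃ₗ[F] V} {v₀ : V} {S : Set V} (hS : Submodule.span F S = ⊤)
    (h : ∀ s ∈ S, ∃ c : F, t s = s + c • v₀) : ∀ v, ∃ c : F, t v = v + c • v₀ := by
  intro v
  have hv : v ∈ Submodule.span F S := by rw [hS]; trivial
  induction hv using Submodule.span_induction with
  | mem x hx => exact h x hx
  | zero => exact ⟨0, by simp⟩
  | add x y _ _ hx hy =>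
    obtain ⟨c, hc⟩ := hx
    obtain ⟨d, hd⟩ := hy
    exact ⟨c + d, by rw [map_add, hc, hd, add_smul]; abel⟩
  | smul r x _ hx =>
    obtain ⟨c, hc⟩ := hx
    exact ⟨r * c, by rw [map_smul, hc, smul_add, mul_smul]⟩

end Cfsg.Agent.Helper7.ExtF
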