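import Cfsg.Agent.Helper7.ExtFH

set_option autoImplicit false
set_option linter.unusedSectionVars false

/-! Extension-field normalisers (helper7): a transvection over the small field when the two
`K`-lines of the configuration meet in a space of dimension at least two and all dilations over the
large field are available. -/

namespace Cfsg.Agent.Helper7.ExtF

open Module

variable {F : Type*} [Field F] {V : Type*} [AddCommGroup V] [Module F V]
  {K : Type*} [Field K] [Algebra F K] [Module K V] [IsScalarTower F K V]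

theorem eq_uni_of_apply {u : V ≃ₗ[F] V} {N : Module.End F V} (hN : N * N = 0)
    (h : ∀ v, u v = v + N v) : u = uni N hN := by
  ext v; rw [h v]; rfl

variable [FiniteDimensional F V]

/-- the case of an intersection of dimension at least two. -/
theorem hasTv_of_two (M : Subgroup (V ≃ₗ[F] V))
    (hdil : ∀ (ψ : V →ₗ[K] K) (z : V) (h : 1 + ψ z ≠ 0), kdil ψ z h ∈ M)
    {a : V} {g : V ≃ₗ[F] V} {e w : V} {ω η : Module.Dual F V}
    (c : Cfg K a g e w ω η) (hg : g ∈ M) {δ₁ δ₂ : V}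
    (h₁ : δ₁ ∈ kline F K a ⊓ img g (kline F K a)) (h₂ : δ₂ ∈ kline F K a ⊓ img g (kline F K a))
    (hδ₁ : δ₁ ≠ 0) (hind : δ₂ ∉ Submodule.span F {δ₁}) : HasTv M := by
  have hM : ∀ (ψ : V →ₗ[K] K) (a : V) (h : ψ a = 0), ktv ψ a h ∈ M := by
    intro ψ a h; rw [ktv_eq_kdil]; exact hdil _ _ _
  have hD : ∀ x y : F, x • δ₁ - y • δ₂ ∈ kline F K a ⊓ img g (kline F K a) := fun x y =>
    Submodule.sub_mem _ (Submodule.smul_mem _ x h₁) (Submodule.smul_mem _ y h₂)
  obtain ⟨κ₁, hκ₁⟩ := mem_kline.mp h₁.1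
  have hκ₁0 : κ₁ ≠ 0 := by
    rintro rfl; rw [zero_smul] at hκ₁; exact hδ₁ hκ₁.symm
  have haw : KInd (K := K) a w := ⟨c.ha, notMem_span_of_notMem_kline c.hwL⟩
  obtain ⟨ψ, hψa, hψw⟩ := exists_kfunc_two haw 0 κ₁
  obtain ⟨ψw, hψwa, hψww⟩ := exists_kfunc_two haw 0 1
  obtain ⟨y₀, hy₀, hgy₀⟩ := mem_img.mp h₂.2
  obtain ⟨c₂, hc₂⟩ := mem_kline.mp hy₀
  have hδ₂0 : δ₂ ≠ 0 := fun h => hind (by rw [h]; exact Submodule.zero_mem _)
  have hc₂0 : c₂ ≠ 0 := by
    rintro rfl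
    rw [zero_smul] at hc₂
    rw [← hc₂, map_zero] at hgy₀
    exact hδ₂0 hgy₀.symm
  have hind' : KInd (K := K) a (g⁻¹ e) := ⟨c.ha, c.inv_e_notMem⟩
  obtain ⟨χ, hχa, hχe⟩ := exists_kfunc_two hind' 0 c₂
  obtain ⟨ce, hce⟩ := mem_kline.mp c.he
  have hce0 : ce ≠ 0 := by
    rintro rfl
    rw [zero_smul] at hce
    exact c.heW (by rw [← hce]; exact Submodule.zero_mem _)
  obtain ⟨w₀, hw₀, hgw₀⟩ := mem_img.mp c.hw
  obtain ⟨cw, hcw⟩ := mem_kline.mp hw₀
  set A := kA (F := F) ψ a with hA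
  set B := conjEnd g (kA (F := F) χ a) with hB
  have hBe : B e = δ₂ := by
    rw [hB, conjEnd_apply, kA_apply, hχe, hc₂, hgy₀]
  have hAL := kA_kills (F := F) hψa
  have hBW := conj_kA_kills (F := F) hχa g
  -- the dilation
  set μ : K := ce * κ₁⁻¹ with hμ
  have hμ0 : μ ≠ 0 := mul_ne_zero hce0 (inv_ne_zero hκ₁0)
  have hs0 : 1 + ((μ - 1) • ψw) w ≠ 0 := by
    rw [LinearMap.smul_apply, hψww, smul_eq_mul, mul_one, add_sub_cancel]; exact hμ0
  set s := kdil (F := F) ((μ - 1) • ψw) w hs0 with hs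
  have hsM : s ∈ M := hdil _ _ _
  have hsL : ∀ x ∈ kline F K a, s x = x := by
    intro x hx
    obtain ⟨k, rfl⟩ := mem_kline.mp hx
    rw [hs, kdil_apply, LinearMap.smul_apply, map_smul, hψwa, smul_zero, smul_zero, zero_smul,
      add_zero]
  have hsw : s w = μ • w := by
    rw [hs, kdil_apply, LinearMap.smul_apply, hψww, smul_eq_mul, mul_one, sub_smul, one_smul]
    abel
  have hsL' : ∀ x ∈ kline F K a, s⁻¹ x = x := by
    intro x hx
    have := hsL x hx
    conv_lhs => rw [← this]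
    exact inv_apply_self s x
  -- the first commutator
  have hAw : ψ w • a ∈ img g (kline F K a) := by rw [hψw, hκ₁]; exact h₁.2
  set u := ktv (F := F) ψ a hψa * (g * ktv (F := F) χ a hχa * g⁻¹) *
    (ktv (F := F) ψ a hψa)⁻¹ * (g * ktv (F := F) χ a hχa * g⁻¹)⁻¹ with hu
  have hyM : g * ktv (F := F) χ a hχa * g⁻¹ ∈ M :=
    M.mul_mem (M.mul_mem hg (hM _ _ _)) (M.inv_mem hg)
  have huM : u ∈ M :=
    M.mul_mem (M.mul_mem (M.mul_mem (hM _ _ _) hyM) (M.inv_mem (hM _ _ _))) (M.inv_mem hyM)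
  set N : Module.End F V := fA (ω ∘ₗ B) δ₁ - fA (η ∘ₗ A) δ₂ with hN
  have hNv : ∀ v, N v = ω (B v) • δ₁ - η (A v) • δ₂ := fun v => rfl
  have huv : ∀ v, u v = v + N v := by
    intro v
    rw [hu, c.comm_cfg ψ χ hψa hχa hAw v, hNv, hψw, hκ₁, hBe, c.hωL δ₂ h₂.1, zero_smul, smul_zero,
      sub_zero]
  have hND : ∀ v, N v ∈ kline F K a ⊓ img g (kline F K a) := fun v => by rw [hNv]; exact hD _ _
  have hNkill : ∀ d ∈ kline F K a ⊓ img g (kline F K a), N d = 0 := by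
    intro d hd
    rw [hNv, hBW d hd.2, hAL d hd.1, map_zero, map_zero, zero_smul, zero_smul, sub_zero]
  have hN2 : N * N = 0 := by
    ext v
    rw [Module.End.mul_apply, hNkill _ (hND v), LinearMap.zero_apply]
  have hu' : u = uni N hN2 := eq_uni_of_apply hN2 huv
  -- the conjugate root element
  have hB2 : kA (F := F) χ a * kA (F := F) χ a = 0 := kA_sq hχa
  set B' := conjEnd (s * g) (kA (F := F) χ a) with hB'
  have hB'2 : B' * B' = 0 := conjEnd_sq hB2
  have hB'v : ∀ v, B' v = s (B (s⁻¹ v)) := by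
    intro v
    rw [hB', hB, conjEnd_apply, conjEnd_apply, mul_inv_rev, LinearEquiv.mul_apply,
      LinearEquiv.mul_apply]
  have hB'kill : ∀ d ∈ kline F K a ⊓ img g (kline F K a), B' d = 0 := by
    intro d hd
    rw [hB'v, hsL' d hd.1, hBW d hd.2, map_zero]
  set t := (s * g) * ktv (F := F) χ a hχa * (s * g)⁻¹ with ht
  have htM : t ∈ M :=
    M.mul_mem (M.mul_mem (M.mul_mem hsM hg) (hM _ _ _)) (M.inv_mem (M.mul_mem hsM hg))
  have ht' : t = uni B' hB'2 := (uni_conjEnd (s * g) hB2).symm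
  set v₀ := N (μ • w) with hv₀
  have hv₀D : v₀ ∈ kline F K a ⊓ img g (kline F K a) := hND _
  have hAμw : A (μ • w) = e := by
    rw [hA, kA_apply, ψ.map_smul, hψw, smul_eq_mul, hμ, mul_assoc, inv_mul_cancel₀ hκ₁0, mul_one,
      hce]
  have hv₀' : v₀ = ω (B (μ • w)) • δ₁ - δ₂ := by
    rw [hv₀, hNv, hAμw, c.hηe, one_smul]
  have hv₀0 : v₀ ≠ 0 := by
    intro h0
    rw [hv₀', sub_eq_zero] at h0
    exact hind (by rw [← h0]; exact Submodule.smul_mem _ _ (Submodule.mem_span_singleton_self _))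
  have hNB' : ∀ v, N (B' v) = ω (B (s⁻¹ v)) • v₀ := by
    intro v
    have hx := c.sub_mem_W (conj_kA_mem (F := F) χ a g (s⁻¹ v))
    set x := B (s⁻¹ v) with hxdef
    have hxd : x = (x - ω x • w) + ω x • w := by abel
    rw [hB'v, ← hxdef, hxd, map_add, map_add, hsL _ hx.1, hNkill _ hx, zero_add, map_smul,
      map_smul, hsw, ← hxd]
  set tu := t * u * t⁻¹ * u⁻¹ with htu
  have htuM : tu ∈ M := M.mul_mem (M.mul_mem (M.mul_mem htM huM) (M.inv_mem htM)) (M.inv_mem huM)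
  have htuv : ∀ v, tu v = v + (-ω (B (s⁻¹ v))) • v₀ := by
    intro v
    rw [htu, ht', hu', uni_comm_apply hB'2 hN2 v, hB'kill _ (hND v), map_zero, map_zero,
      hB'kill _ (hND (B' v)), hNB', neg_smul]
    abel
  refine hasTv_of_line M htuM hv₀0 (fun v => ⟨_, htuv v⟩) ?_ ?_
  · rw [htuv, hsL' _ hv₀D.1, hBW _ hv₀D.2, map_zero, neg_zero, zero_smul, add_zero]
  · intro h1
    set v' := g ((cw * c₂⁻¹) • g⁻¹ e) with hv'
    have hBv' : B v' = w := by
      rw [hB, conjEnd_apply, hv', inv_apply_self, kA_apply, χ.map_smul, hχe, smul_eq_mul,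
        mul_assoc, inv_mul_cancel₀ hc₂0, mul_one, hcw, hgw₀]
    have := htuv (s v')
    rw [h1, inv_apply_self, hBv', c.hωw, neg_smul, one_smul] at this
    have h2 : v₀ = 0 := by
      have h3 : (1 : V ≃ₗ[F] V) (s v') = s v' := rfl
      rw [h3] at this
      have h4 : s v' + -v₀ = s v' + 0 := by rw [add_zero]; exact this.symm
      exact neg_eq_zero.mp (add_left_cancel h4)
    exact hv₀0 h2

end Cfsg.Agent.Helper7.ExtF
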