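import Cfsg.Agent.Helper7.ExtFI

set_option autoImplicit false
set_option linter.unusedSectionVars false
set_option linter.unusedSimpArgs false

/-! Extension-field normalisers (helper7): preliminaries for the smallest case (two scalars, a
quadratic extension, dimension two over it): spanning pairs, the field with four elements, the
involution fixing a subline pointwise, and a word identity in characteristic two. -/

namespace Cfsg.Agent.Helper7.ExtF

open Module

/-- in a space of dimension two, two independent vectors span. -/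
theorem span_pair_of_finrank_two {E : Type*} [Field E] {U : Type*} [AddCommGroup U] [Module E U]
    (h : finrank E U = 2) {x y : U} (hx : x ≠ 0) (hy : y ∉ Submodule.span E {x}) :
    ∀ z : U, ∃ a b : E, a • x + b • y = z := by
  haveI : FiniteDimensional E U := Module.finite_of_finrank_pos (by omega)
  have hli : LinearIndependent E ![x, y] := by
    rw [LinearIndependent.pair_iff]
    intro s t hst
    have ht : t = 0 := by
      by_contra ht
      apply hy
      have : y = (-(t⁻¹ * s)) • x := by
        have h1 : t • y = -(s • x) := by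
          rw [eq_neg_iff_add_eq_zero, add_comm]; exact hst
        calc y = t⁻¹ • (t • y) := by rw [smul_smul, inv_mul_cancel₀ ht, one_smul]
          _ = (-(t⁻¹ * s)) • x := by rw [h1, smul_neg, smul_smul, neg_smul]
      rw [this]
      exact Submodule.smul_mem _ _ (Submodule.mem_span_singleton_self x)
    refine ⟨?_, ht⟩
    rw [ht, zero_smul, add_zero] at hst
    exact (smul_eq_zero.mp hst).resolve_right hx
  have htop := hli.span_eq_top_of_card_eq_finrank' (by rw [h]; rfl)
  intro z
  have hz : z ∈ Submodule.span E (Set.range ![x, y]) := by rw [htop]; trivial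
  have hr : Set.range ![x, y] = {x, y} := by
    ext u
    simp only [Set.mem_range, Set.mem_insert_iff, Set.mem_singleton_iff]
    constructor
    · rintro ⟨i, rfl⟩
      fin_cases i
      · left; rfl
      · right; rfl
    · rintro (rfl | rfl)
      · exact ⟨0, rfl⟩
      · exact ⟨1, rfl⟩
  rw [hr] at hz
  exact Submodule.mem_span_pair.mp hz

variable {F : Type*} [Field F] {V : Type*} [AddCommGroup V] [Module F V]
  {K : Type*} [Field K] [Algebra F K] [Module K V] [IsScalarTower F K V]

theorem one_add_one_of_two (hF : ∀ x : F, x = 0 ∨ x = 1) : (1 : F) + 1 = 0 := by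
  rcases hF (1 + 1) with h | h
  · exact h
  · exact absurd (add_eq_left.mp h) one_ne_zero

theorem mul_self_of_two (hF : ∀ x : F, x = 0 ∨ x = 1) (x : F) : x * x = x := by
  rcases hF x with rfl | rfl <;> simp

theorem add_self_of_two (hF : ∀ x : F, x = 0 ∨ x = 1) (v : V) : v + v = 0 := by
  rw [← one_smul F v, ← add_smul, one_add_one_of_two hF, zero_smul]

theorem one_add_one_large (hF : ∀ x : F, x = 0 ∨ x = 1) : (1 : K) + 1 = 0 := by
  have := congrArg (algebraMap F K) (one_add_one_of_two hF)
  simpa using this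

/-- the quadratic extension of the field with two elements. -/
theorem sq_eq_add_one (hF : ∀ x : F, x = 0 ∨ x = 1) (hr : finrank F K = 2) {ε : K}
    (hε : ∀ x : F, ε ≠ algebraMap F K x) :
    ε * ε = ε + 1 ∧ ∀ k : K, ∃ x y : F, x • (1 : K) + y • ε = k := by
  have h2K : (1 : K) + 1 = 0 := one_add_one_large hF
  have hε0 : ε ≠ 0 := by simpa using hε 0
  have hε1 : ε ≠ 1 := by simpa using hε 1
  have hspan : ε ∉ Submodule.span F {(1 : K)} := by
    intro h
    obtain ⟨x, hx⟩ := Submodule.mem_span_singleton.mp h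
    exact hε x (by rw [← hx, Algebra.smul_def, mul_one])
  have hdec := span_pair_of_finrank_two hr (one_ne_zero : (1 : K) ≠ 0) hspan
  refine ⟨?_, hdec⟩
  obtain ⟨x, y, hxy⟩ := hdec (ε * ε)
  rcases hF x with rfl | rfl <;> rcases hF y with rfl | rfl
  · rw [zero_smul, zero_smul, zero_add] at hxy
    exact absurd (mul_self_eq_zero.mp hxy.symm) hε0
  · rw [zero_smul, one_smul, zero_add] at hxy
    have : ε * (ε - 1) = 0 := by rw [mul_sub, mul_one, ← hxy, sub_self]
    rcases mul_eq_zero.mp this with h | h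
    · exact absurd h hε0
    · exact absurd (sub_eq_zero.mp h) hε1
  · rw [zero_smul, one_smul, add_zero] at hxy
    have : (ε + 1) * (ε + 1) = 0 := by linear_combination (-1 : K) * hxy + (ε + 1) * h2K
    have h1 : ε + 1 = 0 := mul_self_eq_zero.mp this
    have h3 : ε = 1 := by linear_combination h1 - h2K
    exact absurd h3 hε1
  · rw [one_smul, one_smul] at hxy
    rw [← hxy, add_comm]

/-- the additive map underlying the involution which fixes a subline pointwise. -/
def baerLin (hF : ∀ x : F, x = 0 ∨ x = 1) (ψδ ψw : V →ₗ[K] K) (δ w : V) : V →ₗ[F] V where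
  toFun v := (ψδ v * ψδ v) • δ + (ψw v * ψw v) • w
  map_add' x y := by
    have h2K : (1 : K) + 1 = 0 := one_add_one_large hF
    have e1 : ∀ a b : K, (a + b) * (a + b) = a * a + b * b := fun a b => by
      linear_combination (a * b) * h2K
    rw [map_add, map_add, e1, e1, add_smul, add_smul]
    abel
  map_smul' r x := by
    have e1 : ∀ k : K, (r • k) * (r • k) = r • (k * k) := fun k => by
      rw [smul_mul_smul_comm, mul_self_of_two hF]
    rw [LinearMap.map_smul_of_tower, LinearMap.map_smul_of_tower, e1, e1, RingHom.id_apply,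
      smul_add, smul_assoc, smul_assoc]

@[simp] theorem baerLin_apply (hF : ∀ x : F, x = 0 ∨ x = 1) (ψδ ψw : V →ₗ[K] K) (δ w v : V) :
    baerLin hF ψδ ψw δ w v = (ψδ v * ψδ v) • δ + (ψw v * ψw v) • w := rfl

/-- a word identity in characteristic two. -/
theorem word_lemma (h2 : ∀ v : V, v + v = 0) (Y n n' : V ≃ₗ[F] V) (a₁ a₂ a₃ a₄ : V)
    (hY1 : Y a₁ = a₁) (hY2 : Y a₂ = a₂ + a₃) (hY3 : Y a₃ = a₃) (hY4 : Y a₄ = a₁ + a₃ + a₄)
    (hn1 : n a₁ = a₁ + a₂ + a₃) (hn2 : n a₂ = a₁ + a₄) (hn3 : n a₃ = a₄) (hn4 : n a₄ = a₃ + a₄)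
    (hp1 : n' a₁ = a₂) (hp2 : n' a₂ = a₁ + a₂) (hp3 : n' a₃ = a₂ + a₄)
    (hp4 : n' a₄ = a₁ + a₂ + a₃ + a₄) :
    (Y * n * Y * n') a₁ = a₁ ∧ (Y * n * Y * n') a₂ = a₂ ∧ (Y * n * Y * n') a₃ = a₃ + a₂ ∧
      (Y * n * Y * n') a₄ = a₄ := by
  have h2' : ∀ x y : V, x + (x + y) = y := fun x y => by rw [← add_assoc, h2, zero_add]
  refine ⟨?_, ?_, ?_, ?_⟩
  · simp only [LinearEquiv.mul_apply, hp1, hp2, hp3, hp4, map_add, hY1, hY2, hY3, hY4, hn1, hn2,
      hn3, hn4]
    simp only [add_assoc, add_left_comm, add_comm, h2, h2', add_zero, zero_add]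
  · simp only [LinearEquiv.mul_apply, hp1, hp2, hp3, hp4, map_add, hY1, hY2, hY3, hY4, hn1, hn2,
      hn3, hn4]
    simp only [add_assoc, add_left_comm, add_comm, h2, h2', add_zero, zero_add]
  · simp only [LinearEquiv.mul_apply, hp1, hp2, hp3, hp4, map_add, hY1, hY2, hY3, hY4, hn1, hn2,
      hn3, hn4]
    simp only [add_assoc, add_left_comm, add_comm, h2, h2', add_zero, zero_add]
  · simp only [LinearEquiv.mul_apply, hp1, hp2, hp3, hp4, map_add, hY1, hY2, hY3, hY4, hn1, hn2,
      hn3, hn4]
    simp only [add_assoc, add_left_comm, add_comm, h2, h2', add_zero, zero_add]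

end Cfsg.Agent.Helper7.ExtF
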