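import Cfsg.Agent.Helper7.ExtFJ

set_option autoImplicit false
set_option linter.unusedSectionVars false
set_option linter.unusedSimpArgs false
set_option maxHeartbeats 1600000

/-! Extension-field normalisers (helper7): a transvection over the field with two elements in the
smallest case (quadratic extension, dimension two over it). -/

namespace Cfsg.Agent.Helper7.ExtF

open Module

variable {F : Type*} [Field F] {V : Type*} [AddCommGroup V] [Module F V]
  {K : Type*} [Field K] [Algebra F K] [Module K V] [IsScalarTower F K V]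
  [FiniteDimensional F V]

/-- the smallest case. -/
theorem hasTv_of_four (M : Subgroup (V ≃ₗ[F] V))
    (hF : ∀ x : F, x = 0 ∨ x = 1) (hr : finrank F K = 2) (hm : finrank K V = 2)
    (hsemi : ∀ s : V ≃ₗ[F] V, IsSemi K s → s ∈ M)
    {a : V} {g : V ≃ₗ[F] V} {e w : V} {ω η : Module.Dual F V}
    (c : Cfg K a g e w ω η) (hg : g ∈ M) {δ : V}
    (hδ : δ ∈ kline F K a ⊓ img g (kline F K a)) (hδ0 : δ ≠ 0) : HasTv M := by
  have h2F : (1 : F) + 1 = 0 := one_add_one_of_two hF
  have hVV : ∀ v : V, v + v = 0 := add_self_of_two hF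
  have hneg : ∀ v : V, -v = v := fun v => neg_eq_of_add_eq_zero_left (hVV v)
  have h2K : (1 : K) + 1 = 0 := one_add_one_large hF
  -- the line in terms of δ
  obtain ⟨κ, hκ⟩ := mem_kline.mp hδ.1
  have hκ0 : κ ≠ 0 := by
    rintro rfl; rw [zero_smul] at hκ; exact hδ0 hκ.symm
  have haδ : a = κ⁻¹ • δ := by rw [← hκ, smul_smul, inv_mul_cancel₀ hκ0, one_smul]
  have hLδ : ∀ x ∈ kline F K a, ∃ k : K, k • δ = x := by
    intro x hx
    obtain ⟨k', rfl⟩ := mem_kline.mp hx
    exact ⟨k' * κ⁻¹, by rw [haδ, smul_smul]⟩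
  have hδL : ∀ k : K, k • δ ∈ kline F K a := fun k => by
    rw [← hκ, smul_smul]; exact smul_mem_kline _ _
  obtain ⟨ε, hε⟩ := hLδ e c.he
  have hεF : ∀ x : F, ε ≠ algebraMap F K x := by
    intro x h
    apply c.heW
    rw [← hε, h, algebraMap_smul]
    exact Submodule.smul_mem _ _ hδ.2
  have hε0 : ε ≠ 0 := by simpa using hεF 0
  have hε1 : ε ≠ 1 := by simpa using hεF 1
  obtain ⟨hεε, hKdec⟩ := sq_eq_add_one hF hr hεF
  have hεε' : ε * (1 + ε) = 1 := by linear_combination hεε + ε * h2K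
  -- the structure of `V` over `K`
  have hwδ : w ∉ Submodule.span K {δ} := by
    intro h
    obtain ⟨k, hk⟩ := Submodule.mem_span_singleton.mp h
    exact c.hwL (by rw [← hk]; exact hδL k)
  have hind : KInd (K := K) δ w := ⟨hδ0, hwδ⟩
  have hVdec := span_pair_of_finrank_two hm hδ0 hwδ
  obtain ⟨ψδ, hψδδ, hψδw⟩ := exists_kfunc_two hind 1 0
  obtain ⟨ψw, hψwδ, hψww⟩ := exists_kfunc_two hind 0 1
  have hVdec' : ∀ v : V, v = ψδ v • δ + ψw v • w := by
    intro v
    obtain ⟨k₁, k₂, rfl⟩ := hVdec v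
    simp only [map_add, map_smul, hψδδ, hψδw, hψwδ, hψww, smul_eq_mul, mul_one, mul_zero,
      add_zero, zero_add]
  have hker : ∀ v, ψw v = 0 → v ∈ kline F K a := by
    intro v hv
    rw [hVdec' v, hv, zero_smul, add_zero]
    exact hδL _
  -- the spanning set
  have hS : Submodule.span F ({δ, ε • δ, w, ε • w} : Set V) = ⊤ := by
    rw [eq_top_iff]
    intro v _
    obtain ⟨k₁, k₂, rfl⟩ := hVdec v
    obtain ⟨x₁, y₁, rfl⟩ := hKdec k₁
    obtain ⟨x₂, y₂, rfl⟩ := hKdec k₂
    have h1 : δ ∈ Submodule.span F ({δ, ε • δ, w, ε • w} : Set V) :=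
      Submodule.subset_span (by simp)
    have h2 : ε • δ ∈ Submodule.span F ({δ, ε • δ, w, ε • w} : Set V) :=
      Submodule.subset_span (by simp)
    have h3 : w ∈ Submodule.span F ({δ, ε • δ, w, ε • w} : Set V) :=
      Submodule.subset_span (by simp)
    have h4 : ε • w ∈ Submodule.span F ({δ, ε • δ, w, ε • w} : Set V) :=
      Submodule.subset_span (by simp)
    have e1 : (x₁ • (1 : K) + y₁ • ε) • δ + (x₂ • (1 : K) + y₂ • ε) • w =
        x₁ • δ + y₁ • ε • δ + (x₂ • w + y₂ • ε • w) := by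
      simp only [add_smul, smul_assoc, one_smul]
    rw [e1]
    exact Submodule.add_mem _
      (Submodule.add_mem _ (Submodule.smul_mem _ _ h1) (Submodule.smul_mem _ _ h2))
      (Submodule.add_mem _ (Submodule.smul_mem _ _ h3) (Submodule.smul_mem _ _ h4))
  -- the image line
  have hWdec : ∀ x ∈ img g (kline F K a), ∃ p q : F, x = p • δ + q • w := by
    intro x hx
    obtain ⟨q, hq⟩ := c.hW x hx
    have hqW : x - q • w ∈ img g (kline F K a) :=
      Submodule.sub_mem _ hx (Submodule.smul_mem _ q c.hw)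
    obtain ⟨k, hk⟩ := hLδ _ hq
    obtain ⟨p, y, hpy⟩ := hKdec k
    have hy : y = 0 := by
      by_contra hy
      have hy1 : y = 1 := (hF y).resolve_left hy
      apply c.heW
      have : e = (x - q • w) - p • δ := by
        rw [← hk, ← hpy, hy1, ← hε]
        simp only [add_smul, smul_assoc, one_smul]
        abel
      rw [this]
      exact Submodule.sub_mem _ hqW (Submodule.smul_mem _ p hδ.2)
    refine ⟨p, q, ?_⟩
    have : x = k • δ + q • w := by rw [hk]; abel
    rw [this, ← hpy, hy]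
    simp only [add_smul, smul_assoc, one_smul, zero_smul, add_zero]
  have hWψ : ∀ x ∈ img g (kline F K a), ∃ q : F, ψw x = algebraMap F K q := by
    intro x hx
    obtain ⟨p, q, rfl⟩ := hWdec x hx
    refine ⟨q, ?_⟩
    rw [map_add, LinearMap.map_smul_of_tower, LinearMap.map_smul_of_tower, hψwδ, hψww, smul_zero,
      zero_add, Algebra.smul_def, mul_one]
  have hεwW : ∀ k : K, k • δ + ε • w ∉ img g (kline F K a) := by
    intro k h
    obtain ⟨q, hq⟩ := hWψ _ h
    rw [map_add, map_smul, map_smul, hψwδ, hψww, smul_eq_mul, smul_eq_mul, mul_zero, mul_one,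
      zero_add] at hq
    exact hεF q hq
  have hεδW : ε • δ ∉ img g (kline F K a) := by rw [hε]; exact c.heW
  have hw0 : w ≠ 0 := fun h => c.hwL (by rw [h]; exact Submodule.zero_mem _)
  have hwδ0 : w + δ ≠ 0 := by
    intro h
    apply hwδ
    have : w = (-1 : K) • δ := by rw [neg_smul, one_smul]; exact eq_neg_of_add_eq_zero_left h
    rw [this]
    exact Submodule.smul_mem _ _ (Submodule.mem_span_singleton_self δ)
  -- conjugates of the root group
  have hψwa : ψw a = 0 := by rw [haδ, map_smul, hψwδ, smul_zero]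
  have hkψ : ∀ k : K, (k • ψw) a = 0 := fun k => by rw [LinearMap.smul_apply, hψwa, smul_zero]
  have hYv : ∀ (k : K) (v : V), conjEnd g (kA (F := F) (k • ψw) a) v =
      g ((k * ψw (g⁻¹ v)) • a) := fun k v => rfl
  have hYW : ∀ (k : K), ∀ x ∈ img g (kline F K a), conjEnd g (kA (F := F) (k • ψw) a) x = 0 :=
    fun k => conj_kA_kills (F := F) (hkψ k) g
  have hYim : ∀ (k : K) (v : V), conjEnd g (kA (F := F) (k • ψw) a) v ∈ img g (kline F K a) :=
    fun k => conj_kA_mem (F := F) (k • ψw) a g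
  have hYadd : ∀ (k k' : K) (v : V), conjEnd g (kA (F := F) ((k + k') • ψw) a) v =
      conjEnd g (kA (F := F) (k • ψw) a) v + conjEnd g (kA (F := F) (k' • ψw) a) v := by
    intro k k' v
    rw [hYv, hYv, hYv, add_mul, add_smul, map_add]
  have hYsurj : ∀ u, u ∉ img g (kline F K a) → ∀ w' ∈ img g (kline F K a),
      ∃ k : K, conjEnd g (kA (F := F) (k • ψw) a) u = w' := by
    intro u hu w' hw'
    obtain ⟨l, hl, hgl⟩ := mem_img.mp hw'
    obtain ⟨c', hc'⟩ := mem_kline.mp hl
    have hne : ψw (g⁻¹ u) ≠ 0 := by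
      intro h0
      apply hu
      have := hker _ h0
      rw [← apply_inv_self g u]
      exact apply_mem_img this
    refine ⟨c' * (ψw (g⁻¹ u))⁻¹, ?_⟩
    rw [hYv, mul_assoc, inv_mul_cancel₀ hne, mul_one, hc', hgl]
  have hYinj : ∀ (k : K) (u : V), conjEnd g (kA (F := F) (k • ψw) a) u = 0 →
      k = 0 ∨ u ∈ img g (kline F K a) := by
    intro k u h
    rw [hYv] at h
    have h1 : (k * ψw (g⁻¹ u)) • a = 0 := by
      have := congrArg (fun z => g⁻¹ z) h
      simpa [inv_apply_self] using this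
    rcases smul_eq_zero.mp h1 with h2 | h2
    · rcases mul_eq_zero.mp h2 with h3 | h3
      · exact Or.inl h3
      · right
        have := hker _ h3
        rw [← apply_inv_self g u]
        exact apply_mem_img this
    · exact absurd h2 c.ha
  have hktvM : ∀ (ψ : V →ₗ[K] K) (b : V) (h : ψ b = 0), ktv (F := F) ψ b h ∈ M :=
    fun ψ b h => hsemi _ (klin_ktv ψ b h).isSemi
  have hkdilM : ∀ (ψ : V →ₗ[K] K) (z : V) (h : 1 + ψ z ≠ 0), kdil (F := F) ψ z h ∈ M :=
    fun ψ z h => hsemi _ (klin_kdil ψ z h).isSemi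
  have hyM : ∀ k : K, g * ktv (F := F) (k • ψw) a (hkψ k) * g⁻¹ ∈ M := fun k =>
    M.mul_mem (M.mul_mem hg (hktvM _ _ _)) (M.inv_mem hg)
  have hyv : ∀ (k : K) (v : V), (g * ktv (F := F) (k • ψw) a (hkψ k) * g⁻¹) v =
      v + conjEnd g (kA (F := F) (k • ψw) a) v := by
    intro k v
    have := uni_conjEnd g (kA_sq (F := F) (hkψ k))
    have e1 : g * ktv (F := F) (k • ψw) a (hkψ k) * g⁻¹ =
        uni (conjEnd g (kA (F := F) (k • ψw) a)) (conjEnd_sq (kA_sq (F := F) (hkψ k))) :=
      this.symm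
    rw [e1, uni_apply]
  -- the involution fixing the image line pointwise
  have hBinj : Function.Injective (baerLin hF ψδ ψw δ w) := by
    rw [injective_iff_map_eq_zero]
    intro v hv
    rw [baerLin_apply] at hv
    have h1 := congrArg ψδ hv
    have h2 := congrArg ψw hv
    simp only [map_add, map_smul, hψδδ, hψδw, hψwδ, hψww, smul_eq_mul, mul_one, mul_zero,
      add_zero, zero_add, map_zero] at h1 h2
    rw [hVdec' v, mul_self_eq_zero.mp h1, mul_self_eq_zero.mp h2, zero_smul, zero_smul, add_zero]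
  set Φ : V ≃ₗ[F] V := LinearEquiv.ofInjectiveEndo (baerLin hF ψδ ψw δ w) hBinj with hΦ
  have hΦv : ∀ v, Φ v = (ψδ v * ψδ v) • δ + (ψw v * ψw v) • w := fun v => by
    rw [hΦ, LinearEquiv.coe_ofInjectiveEndo, baerLin_apply]
  have hΦsemi : IsSemi K Φ := by
    intro k
    refine ⟨k * k, fun v => ?_⟩
    rw [hΦv, hΦv, map_smul, map_smul, smul_eq_mul, smul_eq_mul, mul_mul_mul_comm,
      mul_mul_mul_comm k (ψw v), smul_add, smul_smul, smul_smul]
  have hΦM : Φ ∈ M := hsemi _ hΦsemi
  have hΦδ : Φ δ = δ := by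
    rw [hΦv, hψδδ, hψwδ, mul_one, mul_zero, one_smul, zero_smul, add_zero]
  have hΦw : Φ w = w := by
    rw [hΦv, hψδw, hψww, mul_one, mul_zero, one_smul, zero_smul, zero_add]
  have hΦεδ : Φ (ε • δ) = ε • δ + δ := by
    rw [hΦv, map_smul, map_smul, hψδδ, hψwδ, smul_eq_mul, smul_eq_mul, mul_one, mul_zero, mul_zero,
      zero_smul, add_zero, hεε, add_smul, one_smul]
  have hΦεw : Φ (ε • w) = ε • w + w := by
    rw [hΦv, map_smul, map_smul, hψδw, hψww, smul_eq_mul, smul_eq_mul, mul_one, mul_zero, mul_zero,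
      zero_smul, zero_add, hεε, add_smul, one_smul]
  have hΦW : ∀ x ∈ img g (kline F K a), Φ x = x := by
    intro x hx
    obtain ⟨p, q, rfl⟩ := hWdec x hx
    rw [map_add, map_smul, map_smul, hΦδ, hΦw]
  -- the pencil
  obtain ⟨k₀, hk₀⟩ := hYsurj (ε • δ) hεδW δ hδ.2
  set T := (g * ktv (F := F) (k₀ • ψw) a (hkψ k₀) * g⁻¹) * Φ with hT
  have hTM : T ∈ M := M.mul_mem (hyM k₀) hΦM
  have hTv : ∀ v, T v = Φ v + conjEnd g (kA (F := F) (k₀ • ψw) a) (Φ v) := fun v => by
    rw [hT, LinearEquiv.mul_apply, hyv]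
  set v₀ := w + conjEnd g (kA (F := F) (k₀ • ψw) a) (ε • w) with hv₀
  have hv₀W : v₀ ∈ img g (kline F K a) := Submodule.add_mem _ c.hw (hYim _ _)
  by_cases hv₀0 : v₀ ≠ 0
  · -- a transvection
    have hTW : ∀ x ∈ img g (kline F K a), T x = x := by
      intro x hx
      rw [hTv, hΦW x hx, hYW k₀ x hx, add_zero]
    have hline : ∀ s ∈ ({δ, ε • δ, w, ε • w} : Set V), ∃ c : F, T s = s + c • v₀ := by
      intro s hs
      simp only [Set.mem_insert_iff, Set.mem_singleton_iff] at hs
      rcases hs with rfl | rfl | rfl | rfl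
      · exact ⟨0, by rw [hTW _ hδ.2, zero_smul, add_zero]⟩
      · refine ⟨0, ?_⟩
        rw [hTv, hΦεδ, map_add, hk₀, hYW k₀ δ hδ.2, add_zero, zero_smul, add_zero, add_assoc, hVV,
          add_zero]
      · exact ⟨0, by rw [hTW _ c.hw, zero_smul, add_zero]⟩
      · refine ⟨1, ?_⟩
        rw [hTv, hΦεw, map_add, hYW k₀ w c.hw, add_zero, one_smul, hv₀]
        abel
    refine hasTv_of_line M hTM hv₀0 (line_of_span hS hline) (hTW _ hv₀W) ?_
    intro h1
    have h2 : T (ε • w) = ε • w + v₀ := by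
      rw [hTv, hΦεw, map_add, hYW k₀ w c.hw, add_zero, hv₀]
      abel
    rw [h1] at h2
    have h3 : (1 : V ≃ₗ[F] V) (ε • w) = ε • w := rfl
    rw [h3] at h2
    have h4 : ε • w + 0 = ε • w + v₀ := by rw [add_zero]; exact h2
    exact hv₀0 (add_left_cancel h4).symm
  · -- the second case: an explicit word
    push Not at hv₀0
    have hk₀w : conjEnd g (kA (F := F) (k₀ • ψw) a) (ε • w) = w := by
      have := eq_neg_of_add_eq_zero_right hv₀0
      rw [hneg] at this
      exact this
    obtain ⟨k₁, hk₁⟩ := hYsurj (ε • δ) hεδW w c.hw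
    obtain ⟨p, q, hpq⟩ := hWdec _ (hYim k₁ (ε • w))
    have hk₁0 : k₁ ≠ 0 := by
      rintro rfl
      rw [hYv, zero_mul, zero_smul, map_zero] at hk₁
      exact hw0 hk₁.symm
    have hk₁₀0 : k₁ + k₀ ≠ 0 := by
      intro h
      have := hYadd k₁ k₀ (ε • δ)
      rw [h, hk₁, hk₀, hYv, zero_mul, zero_smul, map_zero] at this
      exact hwδ0 this.symm
    have hdiff : ε • w - ε • δ ∉ img g (kline F K a) := by
      have : ε • w - ε • δ = (-ε) • δ + ε • w := by rw [neg_smul]; abel
      rw [this]; exact hεwW _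
    have hb : conjEnd g (kA (F := F) (k₁ • ψw) a) (ε • w) = δ + w := by
      rw [hpq]
      rcases hF p with rfl | rfl <;> rcases hF q with rfl | rfl
      · exfalso
        rw [zero_smul, zero_smul, add_zero] at hpq
        rcases hYinj _ _ hpq with h | h
        · exact hk₁0 h
        · have := hεwW 0; rw [zero_smul, zero_add] at this; exact this h
      · exfalso
        rw [zero_smul, one_smul, zero_add] at hpq
        have h0 : conjEnd g (kA (F := F) (k₁ • ψw) a) (ε • w - ε • δ) = 0 := by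
          rw [map_sub, hpq, hk₁, sub_self]
        rcases hYinj _ _ h0 with h | h
        · exact hk₁0 h
        · exact hdiff h
      · exfalso
        rw [zero_smul, one_smul, add_zero] at hpq
        have h0 : conjEnd g (kA (F := F) ((k₁ + k₀) • ψw) a) (ε • w - ε • δ) = 0 := by
          rw [map_sub, hYadd, hYadd, hpq, hk₁, hk₀w, hk₀]
          abel
        rcases hYinj _ _ h0 with h | h
        · exact hk₁₀0 h
        · exact hdiff h
      · rw [one_smul, one_smul]
    -- the three elements of the word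
    set Yb := g * ktv (F := F) (k₁ • ψw) a (hkψ k₁) * g⁻¹ with hYb
    have hYbM : Yb ∈ M := hyM k₁
    have hY1 : Yb δ = δ := by rw [hYb, hyv, hYW k₁ δ hδ.2, add_zero]
    have hY2 : Yb (ε • δ) = ε • δ + w := by rw [hYb, hyv, hk₁]
    have hY3 : Yb w = w := by rw [hYb, hyv, hYW k₁ w c.hw, add_zero]
    have hY4 : Yb (ε • w) = δ + w + ε • w := by rw [hYb, hyv, hb]; abel
    have hd1 : 1 + ((ε - 1) • ψw) w ≠ 0 := by
      rw [LinearMap.smul_apply, hψww, smul_eq_mul, mul_one, add_sub_cancel]; exact hε0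
    have hd2 : 1 + (ε • ψδ) δ ≠ 0 := by
      rw [LinearMap.smul_apply, hψδδ, smul_eq_mul, mul_one]
      intro h
      apply hε1
      linear_combination h - h2K
    have hd3 : (ε • ψδ) w = 0 := by rw [LinearMap.smul_apply, hψδw, smul_zero]
    have hd5 : 1 + ((ε - 1) • ψδ) δ ≠ 0 := by
      rw [LinearMap.smul_apply, hψδδ, smul_eq_mul, mul_one, add_sub_cancel]; exact hε0
    set n := ktv (F := F) (ε • ψδ) w hd3 * kdil (F := F) (ε • ψδ) δ hd2 *
      kdil (F := F) ((ε - 1) • ψw) w hd1 with hn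
    set n' := kdil (F := F) ((ε - 1) • ψδ) δ hd5 * kdil (F := F) ((ε - 1) • ψw) w hd1 *
      ktv (F := F) ψw δ hψwδ with hn'
    have hnM : n ∈ M := M.mul_mem (M.mul_mem (hktvM _ _ _) (hkdilM _ _ _)) (hkdilM _ _ _)
    have hn'M : n' ∈ M := M.mul_mem (M.mul_mem (hkdilM _ _ _) (hkdilM _ _ _)) (hktvM _ _ _)
    have hnK : KLin K n := ((klin_ktv _ _ _).mul (klin_kdil _ _ _)).mul (klin_kdil _ _ _)
    have hn'K : KLin K n' := ((klin_kdil _ _ _).mul (klin_kdil _ _ _)).mul (klin_ktv _ _ _)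
    have hn1 : n δ = δ + ε • δ + w := by
      rw [hn, LinearEquiv.mul_apply, LinearEquiv.mul_apply, kdil_apply, kdil_apply, ktv_apply]
      simp only [LinearMap.smul_apply, map_add, map_smul, hψδδ, hψδw, hψwδ, hψww, smul_eq_mul,
        mul_one, mul_zero, zero_smul, add_zero]
      have hεε'' : ε + ε * ε = 1 := by linear_combination hεε + ε * h2K
      rw [hεε'', one_smul]
    have hn3 : n w = ε • w := by
      rw [hn, LinearEquiv.mul_apply, LinearEquiv.mul_apply, kdil_apply, kdil_apply, ktv_apply]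
      simp only [LinearMap.smul_apply, map_add, map_smul, hψδδ, hψδw, hψwδ, hψww, smul_eq_mul,
        mul_one, mul_zero, zero_smul, add_zero, zero_add]
      rw [sub_smul, one_smul]; abel
    have hn2 : n (ε • δ) = δ + ε • w := by
      rw [hnK, hn1, smul_add, smul_add, smul_smul, hεε, add_smul, one_smul]
      have := hVV (ε • δ)
      calc ε • δ + (ε • δ + δ) + ε • w = (ε • δ + ε • δ) + δ + ε • w := by abel
        _ = δ + ε • w := by rw [this, zero_add]
    have hn4 : n (ε • w) = w + ε • w := by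
      rw [hnK, hn3, smul_smul, hεε, add_smul, one_smul, add_comm]
    have hp1 : n' δ = ε • δ := by
      rw [hn', LinearEquiv.mul_apply, LinearEquiv.mul_apply, kdil_apply, kdil_apply, ktv_apply]
      simp only [LinearMap.smul_apply, map_add, map_smul, hψδδ, hψδw, hψwδ, hψww, smul_eq_mul,
        mul_one, mul_zero, zero_smul, add_zero, zero_add]
      rw [sub_smul, one_smul]; abel
    have hp3 : n' w = ε • δ + ε • w := by
      rw [hn', LinearEquiv.mul_apply, LinearEquiv.mul_apply, kdil_apply, kdil_apply, ktv_apply]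
      simp only [LinearMap.smul_apply, map_add, map_smul, hψδδ, hψδw, hψwδ, hψww, smul_eq_mul,
        mul_one, mul_zero, zero_smul, add_zero, zero_add, one_smul]
      rw [sub_smul, sub_smul, one_smul, one_smul]; abel
    have hp2 : n' (ε • δ) = δ + ε • δ := by
      rw [hn'K, hp1, smul_smul, hεε, add_smul, one_smul, add_comm]
    have hp4 : n' (ε • w) = δ + ε • δ + w + ε • w := by
      rw [hn'K, hp3, smul_add, smul_smul, smul_smul, hεε, add_smul, add_smul, one_smul, one_smul]
      abel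
    obtain ⟨ht1, ht2, ht3, ht4⟩ := word_lemma hVV Yb n n' δ (ε • δ) w (ε • w) hY1 hY2 hY3 hY4
      hn1 hn2 hn3 hn4 hp1 hp2 hp3 hp4
    set t := Yb * n * Yb * n' with ht
    have htM : t ∈ M := M.mul_mem (M.mul_mem (M.mul_mem hYbM hnM) hYbM) hn'M
    have hεδ0 : ε • δ ≠ 0 := smul_ne_zero hε0 hδ0
    have hline : ∀ s ∈ ({δ, ε • δ, w, ε • w} : Set V), ∃ c : F, t s = s + c • (ε • δ) := by
      intro s hs
      simp only [Set.mem_insert_iff, Set.mem_singleton_iff] at hs
      rcases hs with rfl | rfl | rfl | rfl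
      · exact ⟨0, by rw [ht1, zero_smul, add_zero]⟩
      · exact ⟨0, by rw [ht2, zero_smul, add_zero]⟩
      · exact ⟨1, by rw [ht3, one_smul]⟩
      · exact ⟨0, by rw [ht4, zero_smul, add_zero]⟩
    refine hasTv_of_line M htM hεδ0 (line_of_span hS hline) ht2 ?_
    intro h1
    rw [h1] at ht3
    have h3 : (1 : V ≃ₗ[F] V) w = w := rfl
    rw [h3] at ht3
    have h4 : w + 0 = w + ε • δ := by rw [add_zero]; exact ht3
    exact hεδ0 (add_left_cancel h4).symm

end Cfsg.Agent.Helper7.ExtF
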