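import Cfsg.Agent.Helper7.ExtFK

set_option autoImplicit false
set_option linter.unusedSectionVars false
set_option linter.unusedSimpArgs false

/-! Extension-field normalisers (helper7): the duality between functionals over the two fields, and
the additive span of the elements of norm one in a finite field. -/

namespace Cfsg.Agent.Helper7.ExtF

open Module

variable {F : Type*} [Field F] {V : Type*} [AddCommGroup V] [Module F V]
  {K : Type*} [Field K] [Algebra F K] [Module K V] [IsScalarTower F K V]

/-- every functional over the small field is a fixed non-zero functional of the large field after a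
functional over the large field. -/
theorem exists_dual_lift [FiniteDimensional F V] [FiniteDimensional F K] {f₀ : K →ₗ[F] F}
    (hf₀ : f₀ ≠ 0) (φ : Module.Dual F V) : ∃ χ : V →ₗ[K] K, ∀ v, φ v = f₀ (χ v) := by
  haveI : Module.Finite K V := Module.Finite.of_restrictScalars_finite F K V
  haveI : Module.Finite F (V →ₗ[K] K) := Module.Finite.trans K _
  let Θ : (V →ₗ[K] K) →ₗ[F] Module.Dual F V :=
    { toFun := fun χ => f₀ ∘ₗ (χ.restrictScalars F)
      map_add' := fun χ χ' => by ext v; simp
      map_smul' := fun c χ => by ext v; simp }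
  have hΘ : ∀ (χ : V →ₗ[K] K) (v : V), Θ χ v = f₀ (χ v) := fun χ v => rfl
  have hinj : Function.Injective Θ := by
    rw [injective_iff_map_eq_zero]
    intro χ hχ
    by_contra hne
    obtain ⟨v, hv⟩ : ∃ v, χ v ≠ 0 := by
      by_contra h
      push Not at h
      exact hne (LinearMap.ext h)
    apply hf₀
    ext k
    have h1 := LinearMap.congr_fun hχ ((k * (χ v)⁻¹) • v)
    rw [hΘ, map_smul, smul_eq_mul, mul_assoc, inv_mul_cancel₀ hv, mul_one] at h1
    exact h1
  have hdim : finrank F (V →ₗ[K] K) = finrank F (Module.Dual F V) := by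
    rw [Subspace.dual_finrank_eq, ← Module.finrank_mul_finrank F K (V →ₗ[K] K),
      ← Module.finrank_mul_finrank F K V]
    congr 1
    exact Subspace.dual_finrank_eq
  obtain ⟨χ, hχ⟩ := (LinearMap.injective_iff_surjective_of_finrank_eq_finrank hdim).mp hinj φ
  exact ⟨χ, fun v => by rw [← hχ]; rfl⟩

/-- in a finite field, an additive subgroup which contains one and is stable under multiplication
by the elements of norm one is everything. -/
theorem mem_of_norm_stable [Finite K] (hr : 2 ≤ finrank F K) (S : AddSubgroup K)
    (h1 : (1 : K) ∈ S) (hS : ∀ ν : K, Algebra.norm F ν = 1 → ∀ s ∈ S, ν * s ∈ S) :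
    ∀ k : K, k ∈ S := by
  classical
  set R := Subring.closure {ν : K | Algebra.norm F ν = 1} with hR
  have hRS : ∀ x ∈ R, ∀ s ∈ S, x * s ∈ S := by
    intro x hx
    induction hx using Subring.closure_induction with
    | mem x hx => exact hS x hx
    | zero => intro s _; rw [zero_mul]; exact S.zero_mem
    | one => intro s hs; rw [one_mul]; exact hs
    | add x y _ _ hx hy => intro s hs; rw [add_mul]; exact S.add_mem (hx s hs) (hy s hs)
    | neg x _ hx => intro s hs; rw [neg_mul]; exact S.neg_mem (hx s hs)
    | mul x y _ _ hx hy => intro s hs; rw [mul_assoc]; exact hx _ (hy s hs)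
  suffices htop : R = ⊤ by
    intro k
    have hk : k ∈ R := by rw [htop]; trivial
    have := hRS k hk 1 h1
    rwa [mul_one] at this
  by_contra hne
  obtain ⟨x, hx⟩ : ∃ x : K, x ∉ R := by
    by_contra h
    push Not at h
    exact hne (eq_top_iff.mpr fun y _ => h y)
  haveI : Finite F := Finite.of_injective (algebraMap F K) (algebraMap F K).injective
  haveI : FiniteDimensional F K := Module.finite_of_finrank_pos (by omega)
  -- inverses
  have hinv : ∀ y ∈ R, y⁻¹ ∈ R := by
    intro y hy
    by_cases hy0 : y = 0
    · rw [hy0, inv_zero]; exact R.zero_mem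
    · have hu : (Units.mk0 y hy0) ^ Nat.card Kˣ = 1 := pow_card_eq_one'
      have hpos : 0 < Nat.card Kˣ := Nat.card_pos
      have h2 : y⁻¹ = y ^ (Nat.card Kˣ - 1) := by
        have h3 : y ^ Nat.card Kˣ = 1 := by
          have := congrArg Units.val hu
          rw [Units.val_pow_eq_pow_val, Units.val_mk0, Units.val_one] at this
          exact this
        have h4 : y * y ^ (Nat.card Kˣ - 1) = 1 := by
          rw [← pow_succ', Nat.sub_add_cancel hpos, h3]
        exact inv_eq_of_mul_eq_one_right h4
      rw [h2]
      exact R.pow_mem hy _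
  -- the square of the order of the subring is at most the order of the field
  have hinj : Function.Injective (fun p : ↥R × ↥R => (p.1 : K) + (p.2 : K) * x) := by
    rintro ⟨a, b⟩ ⟨a', b'⟩ h
    simp only at h
    have hb : b = b' := by
      by_contra hb
      have hb' : (b : K) - b' ≠ 0 := sub_ne_zero.mpr (fun h' => hb (Subtype.ext h'))
      have hxe : x = ((a' : K) - a) * ((b : K) - b')⁻¹ := by
        field_simp
        linear_combination h
      apply hx
      rw [hxe]
      exact R.mul_mem (R.sub_mem a'.2 a.2) (hinv _ (R.sub_mem b.2 b'.2))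
    subst hb
    have ha : (a : K) = a' := add_right_cancel h
    rw [Subtype.ext ha]
  have hcard1 : Nat.card ↥R * Nat.card ↥R ≤ Nat.card K := by
    rw [← Nat.card_prod]
    exact Nat.card_le_card_of_injective _ hinj
  -- the number of elements of norm one
  set N := (Units.map (Algebra.norm F : K →* F)).ker with hN
  have hsurj := FiniteField.unitsMap_norm_surjective F K
  have hNcard : Nat.card ↥N * Nat.card Fˣ = Nat.card Kˣ := by
    have h := Subgroup.card_mul_index N
    rw [hN, Subgroup.index_ker, MonoidHom.range_eq_top.mpr hsurj, Subgroup.card_top] at h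
    exact h
  have hNmem : ∀ ν : ↥N, (((ν : Kˣ) : K)) ∈ R := by
    intro ν
    apply Subring.subset_closure
    have h' := congrArg Units.val ((MonoidHom.mem_ker).mp ν.2)
    rw [Units.coe_map, Units.val_one] at h'
    exact h'
  have hinj2 : Function.Injective (fun o : Option ↥N => (match o with
      | none => (⟨0, R.zero_mem⟩ : ↥R)
      | some ν => ⟨((ν : Kˣ) : K), hNmem ν⟩)) := by
    intro o o' h
    rcases o with _ | ν <;> rcases o' with _ | ν'
    · rfl
    · exfalso
      have := congrArg Subtype.val h
      simp only at this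
      exact (Units.ne_zero (ν' : Kˣ)) this.symm
    · exfalso
      have := congrArg Subtype.val h
      simp only at this
      exact (Units.ne_zero (ν : Kˣ)) this
    · have := congrArg Subtype.val h
      simp only at this
      rw [Subtype.ext (Units.ext this)]
  have hcard2 : Nat.card ↥N + 1 ≤ Nat.card ↥R := by
    rw [← Finite.card_option]
    exact Nat.card_le_card_of_injective _ hinj2
  -- arithmetic
  have hK : Nat.card K = Nat.card F ^ finrank F K := Module.natCard_eq_pow_finrank
  have hq : 2 ≤ Nat.card F := Finite.one_lt_card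
  rw [Nat.card_units, Nat.card_units] at hNcard
  have key : ∀ (q u ρ kk r : ℕ), 2 ≤ q → 2 ≤ r → kk = q ^ r → u * (q - 1) = kk - 1 → 1 ≤ kk →
      ρ * ρ ≤ kk → u + 1 ≤ ρ → False := by
    intro q u ρ kk r hq hr hK hN hpos h1 h2
    have hqr : q ^ 2 ≤ q ^ r := Nat.pow_le_pow_right (by omega) hr
    have e1 : u * (q - 1) + 1 = kk := by omega
    obtain ⟨q', rfl⟩ : ∃ q', q = q' + 1 := ⟨q - 1, by omega⟩
    simp only [Nat.add_sub_cancel] at e1
    have e2 : (u + 1) * (u + 1) ≤ u * q' + 1 := by
      calc (u + 1) * (u + 1) ≤ ρ * ρ := Nat.mul_le_mul h2 h2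
        _ ≤ kk := h1
        _ = u * q' + 1 := e1.symm
    have e3 : (q' + 1) ^ 2 ≤ u * q' + 1 := by rw [e1, hK]; exact hqr
    nlinarith
  exact key _ _ _ _ _ hq hr hK hNcard Nat.card_pos hcard1 hcard2

end Cfsg.Agent.Helper7.ExtF
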