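import Cfsg.Agent.Helper7.ExtFL

set_option autoImplicit false
set_option linter.unusedSectionVars false
set_option linter.unusedSimpArgs false

/-! Extension-field normalisers (helper7): from one transvection over the small field to all of
them. -/

namespace Cfsg.Agent.Helper7.ExtF

open Module

variable {F : Type*} [Field F] {V : Type*} [AddCommGroup V] [Module F V]
  {K : Type*} [Field K] [Algebra F K] [Module K V] [IsScalarTower F K V]

theorem conj_ftv_apply (g : V ≃ₗ[F] V) (φ : Module.Dual F V) (v : V) (h : φ v = 0) (x : V) :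
    (g * ftv φ v h * g⁻¹) x = x + (φ ∘ₗ ((g⁻¹ : V ≃ₗ[F] V) : V →ₗ[F] V)) x • g v := by
  rw [LinearEquiv.mul_apply, LinearEquiv.mul_apply, ftv_apply, map_add, map_smul, apply_inv_self]
  rfl

/-- membership of a transvection with prescribed centre. -/
def InX (M : Subgroup (V ≃ₗ[F] V)) (v : V) (φ : Module.Dual F V) : Prop :=
  ∃ h : φ v = 0, ftv φ v h ∈ M

namespace InX

variable {M : Subgroup (V ≃ₗ[F] V)} {v : V} {φ φ' : Module.Dual F V}

theorem zero (M : Subgroup (V ≃ₗ[F] V)) (v : V) : InX M v 0 := by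
  refine ⟨LinearMap.zero_apply v, ?_⟩
  have : ftv (0 : Module.Dual F V) v (LinearMap.zero_apply v) = 1 := by
    symm
    apply eq_ftv_of_toLin
    intro x
    rw [LinearMap.zero_apply, zero_smul, add_zero]; rfl
  rw [this]; exact M.one_mem

theorem add (h : InX M v φ) (h' : InX M v φ') : InX M v (φ + φ') := by
  obtain ⟨h0, hM⟩ := h
  obtain ⟨h0', hM'⟩ := h'
  have h0'' : (φ + φ') v = 0 := by rw [LinearMap.add_apply, h0, h0', add_zero]
  refine ⟨h0'', ?_⟩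
  have : ftv φ v h0 * ftv φ' v h0' = ftv (φ + φ') v h0'' := by
    apply eq_ftv_of_toLin
    intro x
    rw [LinearEquiv.mul_apply, ftv_apply, ftv_apply, map_add, map_smul, h0, smul_zero, add_zero,
      LinearMap.add_apply, add_smul]
    abel
  rw [← this]; exact M.mul_mem hM hM'

theorem neg (h : InX M v φ) : InX M v (-φ) := by
  obtain ⟨h0, hM⟩ := h
  have h0' : (-φ) v = 0 := by rw [LinearMap.neg_apply, h0, neg_zero]
  refine ⟨h0', ?_⟩
  have : (ftv φ v h0)⁻¹ = ftv (-φ) v h0' := by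
    apply eq_ftv_of_toLin
    intro x
    have : (ftv φ v h0)⁻¹ x = x - φ x • v := uni_inv_apply _ _ x
    rw [this, LinearMap.neg_apply, neg_smul, sub_eq_add_neg]
  rw [← this]; exact M.inv_mem hM

theorem sub (h : InX M v φ) (h' : InX M v φ') : InX M v (φ - φ') := by
  rw [sub_eq_add_neg]; exact h.add h'.neg

theorem conj (h : InX M v φ) {g : V ≃ₗ[F] V} (hg : g ∈ M) :
    InX M (g v) (φ ∘ₗ ((g⁻¹ : V ≃ₗ[F] V) : V →ₗ[F] V)) := by
  obtain ⟨h0, hM⟩ := h
  have h0' : (φ ∘ₗ ((g⁻¹ : V ≃ₗ[F] V) : V →ₗ[F] V)) (g v) = 0 := by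
    rw [LinearMap.comp_apply, LinearEquiv.coe_coe, inv_apply_self]; exact h0
  refine ⟨h0', ?_⟩
  rw [← eq_ftv_of_toLin h0' (conj_ftv_apply g φ v h0)]
  exact M.mul_mem (M.mul_mem hg hM) (M.inv_mem hg)

theorem mem (h : InX M v φ) (h0 : φ v = 0) : ftv φ v h0 ∈ M := h.2

end InX

variable [FiniteDimensional F V]

variable (M : Subgroup (V ≃ₗ[F] V))
  (hktv : ∀ (ψ : V →ₗ[K] K) (a : V) (h : ψ a = 0), ktv ψ a h ∈ M)

include hktv

/-- conjugation by a transvection over the large field which fixes the centre. -/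
theorem inX_conj_ktv {v₀ : V} {φ₀ : Module.Dual F V} (h : InX M v₀ φ₀) (χ : V →ₗ[K] K) (u : V)
    (hχu : χ u = 0) (hχv : χ v₀ = 0) : InX M v₀ (φ₀ ∘ₗ kA (F := F) χ u) := by
  have h1 := h.conj (hktv χ u hχu)
  have e1 : ktv (F := F) χ u hχu v₀ = v₀ := by rw [ktv_apply, hχv, zero_smul, add_zero]
  have e2 : φ₀ ∘ₗ (((ktv (F := F) χ u hχu)⁻¹ : V ≃ₗ[F] V) : V →ₗ[F] V) =
      φ₀ - φ₀ ∘ₗ kA (F := F) χ u := by
    ext x
    rw [LinearMap.comp_apply, LinearEquiv.coe_coe, ktv_inv_apply, map_sub, LinearMap.sub_apply,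
      LinearMap.comp_apply, kA_apply]
  rw [e1, e2] at h1
  have := h.sub h1
  rwa [sub_sub_cancel] at this

/-- first case: the functional does not vanish on the `K`-line of the centre. -/
theorem full_of_nonzero [FiniteDimensional F K] {v₀ : V} {φ₀ : Module.Dual F V}
    (h : InX M v₀ φ₀) (hne : ∃ k : K, φ₀ (k • v₀) ≠ 0) :
    ∀ φ : Module.Dual F V, (∀ k : K, φ (k • v₀) = 0) → InX M v₀ φ := by
  set f : K →ₗ[F] F := φ₀ ∘ₗ ((LinearMap.toSpanSingleton K V v₀).restrictScalars F) with hf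
  have hfk : ∀ k : K, f k = φ₀ (k • v₀) := fun k => rfl
  have hf0 : f ≠ 0 := by
    obtain ⟨k, hk⟩ := hne
    intro h0
    apply hk
    rw [← hfk, h0, LinearMap.zero_apply]
  intro φ hφ
  obtain ⟨χ, hχ⟩ := exists_dual_lift hf0 φ
  have hχv : χ v₀ = 0 := by
    by_contra hne'
    apply hf0
    ext k
    have := hφ (k * (χ v₀)⁻¹)
    rw [hχ, map_smul, smul_eq_mul, mul_assoc, inv_mul_cancel₀ hne', mul_one] at this
    exact this
  have h1 := inX_conj_ktv M hktv h χ v₀ hχv hχv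
  have e : φ₀ ∘ₗ kA (F := F) χ v₀ = φ := by
    ext x
    rw [LinearMap.comp_apply, kA_apply, hχ, hfk]
  rwa [e] at h1

/-- second case: the functional vanishes on the `K`-line of the centre. -/
theorem full_of_zero [Finite K] (hr : 2 ≤ finrank F K)
    (hdil : ∀ (ψ : V →ₗ[K] K) (z : V) (h : 1 + ψ z ≠ 0), Algebra.norm F (1 + ψ z) = 1 →
      kdil ψ z h ∈ M)
    {v₀ : V} {φ₀ : Module.Dual F V} (h : InX M v₀ φ₀) (hφ₀ : φ₀ ≠ 0)
    (hzero : ∀ k : K, φ₀ (k • v₀) = 0) :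
    ∀ φ : Module.Dual F V, (∀ k : K, φ (k • v₀) = 0) → InX M v₀ φ := by
  haveI : FiniteDimensional F K := Module.finite_of_finrank_pos (by omega)
  have hnot : (1 : K) ∉ (⊥ : Submodule F K) := by simp
  obtain ⟨f₀, -, hf₀1⟩ := exists_kfunc (K := F) (V := K) (⊥ : Submodule F K) hnot
  have hf₀ : f₀ ≠ 0 := by
    intro h0; rw [h0, LinearMap.zero_apply] at hf₀1; exact zero_ne_one hf₀1
  have hkill : ∀ (φ : Module.Dual F V) (χ : V →ₗ[K] K), (∀ v, φ v = f₀ (χ v)) →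
      (∀ k : K, φ (k • v₀) = 0) → χ v₀ = 0 := by
    intro φ χ hχ hφ
    by_contra hne'
    apply hf₀
    ext k
    have := hφ (k * (χ v₀)⁻¹)
    rw [hχ, map_smul, smul_eq_mul, mul_assoc, inv_mul_cancel₀ hne', mul_one] at this
    exact this
  obtain ⟨χ₀, hχ₀⟩ := exists_dual_lift hf₀ φ₀
  have hχ₀v : χ₀ v₀ = 0 := hkill φ₀ χ₀ hχ₀ hzero
  have hχ₀ne : ∃ x, χ₀ x ≠ 0 := by
    by_contra hcon
    push Not at hcon
    apply hφ₀
    ext x
    rw [hχ₀, hcon, map_zero, LinearMap.zero_apply]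
  obtain ⟨x₀, hx₀⟩ := hχ₀ne
  set u := (χ₀ x₀)⁻¹ • x₀ with hu
  have hχ₀u : χ₀ u = 1 := by rw [hu, map_smul, smul_eq_mul, inv_mul_cancel₀ hx₀]
  -- the family of functionals
  set Ψ : K → Module.Dual F V := fun k => f₀ ∘ₗ ((k • χ₀).restrictScalars F) with hΨ
  have hΨv : ∀ k x, Ψ k x = f₀ (k * χ₀ x) := fun k x => rfl
  have hΨadd : ∀ k k', Ψ (k + k') = Ψ k + Ψ k' := by
    intro k k'; ext x
    rw [LinearMap.add_apply, hΨv, hΨv, hΨv, add_mul, map_add]
  have hΨneg : ∀ k, Ψ (-k) = -Ψ k := by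
    intro k; ext x
    rw [LinearMap.neg_apply, hΨv, hΨv, neg_mul, map_neg]
  have hΨ0 : Ψ 0 = 0 := by
    ext x; rw [hΨv, zero_mul, map_zero, LinearMap.zero_apply]
  have hΨ1 : Ψ 1 = φ₀ := by
    ext x; rw [hΨv, one_mul, hχ₀]
  let S : AddSubgroup K :=
    { carrier := {k | InX M v₀ (Ψ k)}
      add_mem' := fun {a b} ha hb => by
        simp only [Set.mem_setOf_eq] at ha hb ⊢
        rw [hΨadd]; exact ha.add hb
      zero_mem' := by
        simp only [Set.mem_setOf_eq]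
        rw [hΨ0]; exact InX.zero M v₀
      neg_mem' := fun {a} ha => by
        simp only [Set.mem_setOf_eq] at ha ⊢
        rw [hΨneg]; exact ha.neg }
  have hS1 : (1 : K) ∈ S := by
    change InX M v₀ (Ψ 1)
    rw [hΨ1]; exact h
  have hSU : ∀ ν : K, Algebra.norm F ν = 1 → ∀ s ∈ S, ν * s ∈ S := by
    intro ν hν s hs
    change InX M v₀ (Ψ (ν * s))
    have hs' : InX M v₀ (Ψ s) := hs
    have hν0 : ν ≠ 0 := by
      rintro rfl
      rw [Algebra.norm_zero] at hν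
      exact zero_ne_one hν
    have hd0 : 1 + ((ν⁻¹ - 1) • χ₀) u = ν⁻¹ := by
      rw [LinearMap.smul_apply, hχ₀u, smul_eq_mul, mul_one, add_sub_cancel]
    have hd : 1 + ((ν⁻¹ - 1) • χ₀) u ≠ 0 := by rw [hd0]; exact inv_ne_zero hν0
    have hdn : Algebra.norm F (1 + ((ν⁻¹ - 1) • χ₀) u) = 1 := by
      rw [hd0]
      have h3 : Algebra.norm F ν⁻¹ * Algebra.norm F ν = 1 := by
        rw [← map_mul, inv_mul_cancel₀ hν0, map_one]
      rw [hν, mul_one] at h3
      exact h3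
    have htM := hdil _ _ hd hdn
    set t := kdil (F := F) ((ν⁻¹ - 1) • χ₀) u hd with ht
    have h1 := hs'.conj htM
    have e1 : t v₀ = v₀ := by
      rw [ht, kdil_apply, LinearMap.smul_apply, hχ₀v, smul_zero, zero_smul, add_zero]
    have e3 : ∀ y, χ₀ (t y) = ν⁻¹ * χ₀ y := by
      intro y
      rw [ht, kdil_apply, map_add, map_smul, hχ₀u, LinearMap.smul_apply, smul_eq_mul, smul_eq_mul,
        mul_one]
      ring
    have e4 : ∀ x, χ₀ (t⁻¹ x) = ν * χ₀ x := by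
      intro x
      have := e3 (t⁻¹ x)
      rw [apply_inv_self] at this
      rw [this, ← mul_assoc, mul_inv_cancel₀ hν0, one_mul]
    have e2 : Ψ s ∘ₗ ((t⁻¹ : V ≃ₗ[F] V) : V →ₗ[F] V) = Ψ (ν * s) := by
      ext x
      rw [LinearMap.comp_apply, LinearEquiv.coe_coe, hΨv, hΨv, e4]
      congr 1; ring
    rwa [e1, e2] at h1
  have hSall := mem_of_norm_stable (F := F) hr S hS1 hSU
  -- functionals killing the centre and the complement vector
  have hstep : ∀ χ : V →ₗ[K] K, χ v₀ = 0 → χ u = 0 →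
      InX M v₀ (f₀ ∘ₗ (χ.restrictScalars F)) := by
    intro χ hχv hχu
    have h1 := inX_conj_ktv M hktv h χ u hχu hχv
    have e : φ₀ ∘ₗ kA (F := F) χ u = f₀ ∘ₗ (χ.restrictScalars F) := by
      ext x
      rw [LinearMap.comp_apply, kA_apply, hχ₀, map_smul, hχ₀u, smul_eq_mul, mul_one]
      rfl
    rwa [e] at h1
  intro φ hφ
  obtain ⟨χ, hχ⟩ := exists_dual_lift hf₀ φ
  have hχv : χ v₀ = 0 := hkill φ χ hχ hφ
  have h1 := hstep (χ - χ u • χ₀)
    (by rw [LinearMap.sub_apply, LinearMap.smul_apply, hχv, hχ₀v, smul_zero, sub_zero])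
    (by rw [LinearMap.sub_apply, LinearMap.smul_apply, hχ₀u, smul_eq_mul, mul_one, sub_self])
  have h2 : InX M v₀ (Ψ (χ u)) := hSall (χ u)
  have e : f₀ ∘ₗ ((χ - χ u • χ₀).restrictScalars F) + Ψ (χ u) = φ := by
    ext x
    rw [LinearMap.add_apply, hΨv, hχ, LinearMap.comp_apply, ← map_add]
    congr 1
    change (χ - χ u • χ₀) x + χ u * χ₀ x = χ x
    rw [LinearMap.sub_apply, LinearMap.smul_apply, smul_eq_mul, sub_add_cancel]
  rw [← e]; exact h1.add h2

/-- transport of fullness along the transitive action. -/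
theorem full_trans (h2 : 2 ≤ finrank K V) {v₀ : V} (hv₀ : v₀ ≠ 0)
    (hfull : ∀ φ : Module.Dual F V, (∀ k : K, φ (k • v₀) = 0) → InX M v₀ φ) {v : V} (hv : v ≠ 0) :
    ∀ φ : Module.Dual F V, (∀ k : K, φ (k • v) = 0) → InX M v φ := by
  intro φ hφ
  obtain ⟨n, hnM, hnK, hnv⟩ := exists_klin_map M hktv h2 hv₀ hv
  have h1 : InX M v₀ (φ ∘ₗ (n : V →ₗ[F] V)) := by
    apply hfull
    intro k
    rw [LinearMap.comp_apply, LinearEquiv.coe_coe, hnK, hnv]
    exact hφ k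
  have h3 := h1.conj hnM
  have e : (φ ∘ₗ (n : V →ₗ[F] V)) ∘ₗ ((n⁻¹ : V ≃ₗ[F] V) : V →ₗ[F] V) = φ := by
    ext x
    rw [LinearMap.comp_apply, LinearMap.comp_apply, LinearEquiv.coe_coe, LinearEquiv.coe_coe,
      apply_inv_self]
  rwa [e, hnv] at h3

/-- from fullness at every centre to all transvections. -/
theorem all_of_full (h2 : 2 ≤ finrank K V)
    (hfull : ∀ v : V, v ≠ 0 → ∀ φ : Module.Dual F V, (∀ k : K, φ (k • v) = 0) → InX M v φ)
    (φ : Module.Dual F V) (v : V) (h : φ v = 0) : ftv φ v h ∈ M := by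
  by_cases hv : v = 0
  · subst hv
    have : ftv φ 0 h = 1 := by
      symm
      apply eq_ftv_of_toLin
      intro x
      rw [smul_zero, add_zero]; rfl
    rw [this]; exact M.one_mem
  obtain ⟨v', hv'⟩ := exists_notMem_span (K := K) h2 v
  have hind : KInd (K := K) v v' := ⟨hv, hv'⟩
  obtain ⟨ψ, hψv, hψv'⟩ := exists_kfunc_two hind 1 0
  set φ₂ : Module.Dual F V := φ ∘ₗ kA (F := F) ψ v with hφ₂
  have hφ₂x : ∀ x, φ₂ x = φ (ψ x • v) := fun x => rfl
  have hφ₂v : φ₂ v = 0 := by rw [hφ₂x, hψv, one_smul, h]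
  have hφ₂v' : ∀ k : K, φ₂ (k • v') = 0 := by
    intro k; rw [hφ₂x, ψ.map_smul, hψv', smul_zero, zero_smul, map_zero]
  -- the part killing the line of `v`
  have h1 : InX M v (φ - φ₂) := by
    apply hfull v hv
    intro k
    rw [LinearMap.sub_apply, hφ₂x, ψ.map_smul, hψv, smul_eq_mul, mul_one, sub_self]
  -- the other part, by a commutator
  have hv'0 : v' ≠ 0 := fun h0 => hv' (by rw [h0]; exact Submodule.zero_mem _)
  have h3 : InX M v' φ₂ := hfull v' hv'0 φ₂ hφ₂v'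
  have hv'L : v' ∉ kline F K v := fun hmem => hv' (by
    obtain ⟨k, hk⟩ := mem_kline.mp hmem
    rw [← hk]; exact Submodule.smul_mem _ _ (Submodule.mem_span_singleton_self v))
  obtain ⟨φ₁, hφ₁L, hφ₁v'⟩ := exists_kfunc (K := F) (kline F K v) hv'L
  have h4 : InX M v φ₁ := hfull v hv φ₁ (fun k => hφ₁L _ (smul_mem_kline k v))
  obtain ⟨h40, h4M⟩ := h4
  obtain ⟨h30, h3M⟩ := h3
  have hcomm : ftv φ₁ v h40 * ftv φ₂ v' h30 * (ftv φ₁ v h40)⁻¹ * (ftv φ₂ v' h30)⁻¹ =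
      ftv φ₂ v hφ₂v := by
    apply eq_ftv_of_toLin
    intro x
    have := uni_comm_apply (fA_sq h40) (fA_sq h30) x
    have e : ftv φ₁ v h40 = uni (fA φ₁ v) (fA_sq h40) := rfl
    have e' : ftv φ₂ v' h30 = uni (fA φ₂ v') (fA_sq h30) := rfl
    rw [e, e', this]
    simp only [fA_apply, map_smul, map_add, h40, h30, hφ₂v, hφ₁v', smul_eq_mul, mul_zero,
      mul_one, zero_smul, smul_zero, sub_zero, add_zero, zero_mul, map_zero, one_smul]
  have h5 : InX M v φ₂ := ⟨hφ₂v, by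
    rw [← hcomm]
    exact M.mul_mem (M.mul_mem (M.mul_mem h4M h3M) (M.inv_mem h4M)) (M.inv_mem h3M)⟩
  have h6 := h1.add h5
  rw [sub_add_cancel] at h6
  exact h6.mem h

end Cfsg.Agent.Helper7.ExtF
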