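import Cfsg.Agent.Helper7.ExtFM

set_option autoImplicit false
set_option linter.unusedSectionVars false
set_option linter.unusedSimpArgs false

/-! Extension-field normalisers (helper7): the main statement for vector spaces: a group of
automorphisms over the small field which contains all semilinear maps of determinant one and some
map which is not semilinear contains every transvection. -/

namespace Cfsg.Agent.Helper7.ExtF

open Module

variable {F : Type*} [Field F] {V : Type*} [AddCommGroup V] [Module F V]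
  {K : Type*} [Field K] [Algebra F K] [Module K V] [IsScalarTower F K V]
  [FiniteDimensional F V]

theorem exists_ne_zero_of_finrank {D : Submodule F V} (h : 1 ≤ finrank F ↥D) :
    ∃ δ ∈ D, δ ≠ 0 := by
  obtain ⟨x, hx⟩ := (Module.finrank_pos_iff_exists_ne_zero (R := F) (M := ↥D)).mp (by omega)
  exact ⟨x, x.2, fun h0 => hx (Subtype.ext h0)⟩

theorem exists_pair_of_finrank {D : Submodule F V} (h : 2 ≤ finrank F ↥D) :
    ∃ δ₁ ∈ D, ∃ δ₂ ∈ D, δ₁ ≠ 0 ∧ δ₂ ∉ Submodule.span F {δ₁} := by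
  obtain ⟨x, hx⟩ := (Module.finrank_pos_iff_exists_ne_zero (R := F) (M := ↥D)).mp (by omega)
  obtain ⟨y, hy⟩ := exists_linearIndependent_pair_of_one_lt_finrank (R := F) (by omega) hx
  refine ⟨x, x.2, y, y.2, fun h0 => hx (Subtype.ext h0), fun hmem => ?_⟩
  obtain ⟨c, hc⟩ := Submodule.mem_span_singleton.mp hmem
  rw [LinearIndependent.pair_iff] at hy
  have h1 : c • x + (-1 : F) • y = 0 := by
    apply Subtype.ext
    rw [Submodule.coe_add, Submodule.coe_smul, Submodule.coe_smul, hc, neg_smul, one_smul,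
      Submodule.coe_zero, add_neg_cancel]
  have := (hy c (-1) h1).2
  exact one_ne_zero (neg_eq_zero.mp this)

/-- the main statement. -/
theorem all_tv [Finite K] (hrp : (finrank F K).Prime) (h2 : 2 ≤ finrank K V)
    (M : Subgroup (V ≃ₗ[F] V))
    (hM : ∀ s : V ≃ₗ[F] V, IsSemi K s → LinearMap.det (s : V →ₗ[F] V) = 1 → s ∈ M)
    (hne : ∃ g ∈ M, ¬ IsSemi K g) :
    ∀ (φ : Module.Dual F V) (v : V) (h : φ v = 0), ftv φ v h ∈ M := by
  have hr2 : 2 ≤ finrank F K := hrp.two_le
  have hktv : ∀ (ψ : V →ₗ[K] K) (a : V) (h : ψ a = 0), ktv (F := F) ψ a h ∈ M :=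
    fun ψ a h => hM _ (klin_ktv ψ a h).isSemi (det_ktv ψ a h)
  have hdil : ∀ (ψ : V →ₗ[K] K) (z : V) (h : 1 + ψ z ≠ 0), Algebra.norm F (1 + ψ z) = 1 →
      kdil (F := F) ψ z h ∈ M :=
    fun ψ z h hn => hM _ (klin_kdil ψ z h).isSemi (by rw [det_kdil, hn])
  obtain ⟨a, ha, g, hg, hgL, hfin⟩ := exists_codim_one M hktv h2 hrp hne
  obtain ⟨e, w, ω, η, c⟩ := exists_cfg (K := K) ha hgL hfin
  have hTv : HasTv M := by
    by_cases hF : ∃ l : F, l ≠ 0 ∧ l ≠ 1
    · obtain ⟨l, hl0, hl1⟩ := hF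
      exact hasTv_of_scalar M hktv c hg (exists_ne_zero_of_finrank (by omega)) hl0 hl1
    · push Not at hF
      have hF' : ∀ x : F, x = 0 ∨ x = 1 := fun x => by
        by_cases hx : x = 0
        · exact Or.inl hx
        · exact Or.inr (hF x hx)
      by_cases h3 : 3 ≤ finrank K V
      · exact hasTv_of_three M hktv c hg h3
      · have hm : finrank K V = 2 := by omega
        have hdet : ∀ s : V ≃ₗ[F] V, LinearMap.det (s : V →ₗ[F] V) = 1 := fun s =>
          (hF' _).resolve_left (LinearEquiv.isUnit_det' s).ne_zero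
        have hsemi : ∀ s : V ≃ₗ[F] V, IsSemi K s → s ∈ M := fun s hs => hM s hs (hdet s)
        by_cases hr : finrank F K = 2
        · obtain ⟨δ, hδ, hδ0⟩ := exists_ne_zero_of_finrank
            (D := kline F K a ⊓ img g (kline F K a)) (by omega)
          exact hasTv_of_four M hF' hr hm hsemi c hg hδ hδ0
        · obtain ⟨δ₁, h₁, δ₂, h₂, hδ₁, hind⟩ := exists_pair_of_finrank
            (D := kline F K a ⊓ img g (kline F K a)) (by omega)
          exact hasTv_of_two M (fun ψ z h => hsemi _ (klin_kdil ψ z h).isSemi) c hg h₁ h₂ hδ₁ hind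
  obtain ⟨φ₀, v₀, h0, hφ₀, hv₀, hmem⟩ := hTv
  have hX : InX M v₀ φ₀ := ⟨h0, hmem⟩
  haveI : FiniteDimensional F K := Module.finite_of_finrank_pos (by omega)
  have hfull₀ : ∀ φ : Module.Dual F V, (∀ k : K, φ (k • v₀) = 0) → InX M v₀ φ := by
    by_cases hne' : ∃ k : K, φ₀ (k • v₀) ≠ 0
    · exact full_of_nonzero M hktv hX hne'
    · push Not at hne'
      exact full_of_zero M hktv hr2 hdil hX hφ₀ hne'
  have hfull : ∀ v : V, v ≠ 0 → ∀ φ : Module.Dual F V, (∀ k : K, φ (k • v) = 0) → InX M v φ :=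
    fun v hv => full_trans M hktv h2 hv₀ hfull₀ hv
  exact all_of_full M hktv h2 hfull

end Cfsg.Agent.Helper7.ExtF
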