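import Cfsg.Agent.Helper7.ExtFN

set_option autoImplicit false
set_option linter.unusedSectionVars false
set_option linter.unusedVariables false

/-! Symplectic extension-field normalisers (helper7): an alternating form over the small field `F`
for which the big field `K` is self-adjoint is a functional of `K` after an alternating form over
`K`. -/

namespace Cfsg.Agent.Helper7.ExtS

open Module Cfsg.Agent.Helper7.ExtF

variable {F : Type*} [Field F] {V : Type*} [AddCommGroup V] [Module F V]
  {K : Type*} [Field K] [Algebra F K] [Module K V] [IsScalarTower F K V]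

/-- a non-degenerate alternating form over `F` for which the multiplications by the elements of `K`
are self-adjoint and alternating. -/
structure SForm (K : Type*) [Field K] [Module K V] (f : V → V → F) : Prop where
  add_left : ∀ x y z, f (x + y) z = f x z + f y z
  smul_left : ∀ (c : F) x y, f (c • x) y = c * f x y
  swap : ∀ x y, f x y = - f y x
  nondeg : ∀ x, x ≠ 0 → ∃ y, f x y ≠ 0
  sa : ∀ (k : K) x y, f (k • x) y = f x (k • y)
  kalt : ∀ (k : K) x, f (k • x) x = 0

namespace SForm

variable {f : V → V → F} (hf : SForm K f)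

include hf

theorem add_right (x y z : V) : f x (y + z) = f x y + f x z := by
  rw [hf.swap, hf.add_left, hf.swap y, hf.swap z]; ring

theorem smul_right (c : F) (x y : V) : f x (c • y) = c * f x y := by
  rw [hf.swap, hf.smul_left, hf.swap y]; ring

theorem self (x : V) : f x x = 0 := by
  have := hf.kalt 1 x
  rwa [one_smul] at this

theorem zero_left (y : V) : f 0 y = 0 := by
  have := hf.smul_left 0 0 y
  rwa [zero_smul, zero_mul] at this

theorem zero_right (x : V) : f x 0 = 0 := by
  rw [hf.swap, hf.zero_left, neg_zero]

theorem neg_left (x y : V) : f (-x) y = - f x y := by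
  have := hf.smul_left (-1) x y
  rwa [neg_one_smul, neg_one_mul] at this

theorem neg_right (x y : V) : f x (-y) = - f x y := by
  rw [hf.swap x (-y), hf.neg_left, hf.swap y x]; ring

theorem sub_left (x y z : V) : f (x - y) z = f x z - f y z := by
  rw [sub_eq_add_neg, hf.add_left, hf.neg_left]; ring

theorem sub_right (x y z : V) : f x (y - z) = f x y - f x z := by
  rw [sub_eq_add_neg, hf.add_right, hf.neg_right]; ring

/-- `K`-lines are totally isotropic. -/
theorem smul_smul (k k' : K) (x : V) : f (k • x) (k' • x) = 0 := by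
  rw [← hf.sa, ← mul_smul]; exact hf.kalt _ x

/-- the functional `x ↦ f x y`. -/
def fR (y : V) : Module.Dual F V where
  toFun x := f x y
  map_add' x x' := hf.add_left x x' y
  map_smul' c x := by rw [hf.smul_left]; rfl

@[simp] theorem fR_apply (y x : V) : hf.fR y x = f x y := rfl

end SForm

section chi

variable [FiniteDimensional F V] [FiniteDimensional F K]
variable {f : V → V → F} (hf : SForm K f) {ω : K →ₗ[F] F} (hω : ω ≠ 0)

/-- the functional over `K` lifting `x ↦ f x y`. -/
noncomputable def chi (y : V) : V →ₗ[K] K := Classical.choose (exists_dual_lift hω (hf.fR y))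

theorem chi_spec (y x : V) : ω (chi hf hω y x) = f x y :=
  ((Classical.choose_spec (exists_dual_lift hω (hf.fR y))) x).symm

omit [FiniteDimensional F V] [FiniteDimensional F K] in
include hω in
/-- an element of `K` all of whose multiples are killed by `ω` is zero. -/
theorem eq_zero_of_omega {c : K} (h : ∀ k : K, ω (k * c) = 0) : c = 0 := by
  by_contra hc
  apply hω
  ext k
  have := h (k * c⁻¹)
  rwa [mul_assoc, inv_mul_cancel₀ hc, mul_one] at this

/-- the form over `K`. -/
noncomputable def B (x y : V) : K := chi hf hω y x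

theorem omega_B (x y : V) : ω (B hf hω x y) = f x y := chi_spec hf hω y x

theorem B_add_left (x x' y : V) : B hf hω (x + x') y = B hf hω x y + B hf hω x' y :=
  map_add _ _ _

theorem B_smul_left (k : K) (x y : V) : B hf hω (k • x) y = k * B hf hω x y := by
  unfold B; rw [map_smul, smul_eq_mul]

theorem omega_mul_B (k : K) (x y : V) : ω (k * B hf hω x y) = f (k • x) y := by
  rw [← B_smul_left, omega_B]

theorem B_eq_of (x y : V) (c : K) (h : ∀ k : K, f (k • x) y = ω (k * c)) : B hf hω x y = c := by
  rw [← sub_eq_zero]
  apply eq_zero_of_omega hω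
  intro k
  rw [mul_sub, map_sub, omega_mul_B, h, sub_self]

theorem B_add_right (x y y' : V) : B hf hω x (y + y') = B hf hω x y + B hf hω x y' := by
  apply B_eq_of
  intro k
  rw [hf.add_right, mul_add, map_add, omega_mul_B, omega_mul_B]

theorem B_smul_right (k : K) (x y : V) : B hf hω x (k • y) = k * B hf hω x y := by
  apply B_eq_of
  intro k'
  rw [← hf.sa, ← mul_smul, ← mul_assoc, omega_mul_B, mul_comm k k']

theorem B_self (x : V) : B hf hω x x = 0 := by
  apply B_eq_of
  intro k
  rw [mul_zero, map_zero]; exact hf.kalt k x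

theorem B_zero_left (y : V) : B hf hω 0 y = 0 := map_zero _

theorem B_zero_right (x : V) : B hf hω x 0 = 0 := by
  have := B_smul_right hf hω 0 x 0
  rwa [zero_smul, zero_mul] at this

theorem B_swap (x y : V) : B hf hω x y = - B hf hω y x := by
  have h := B_self hf hω (x + y)
  rw [B_add_left, B_add_right, B_add_right, B_self, B_self, zero_add, add_zero] at h
  exact eq_neg_of_add_eq_zero_left h

theorem B_neg_left (x y : V) : B hf hω (-x) y = - B hf hω x y := map_neg _ _

theorem B_neg_right (x y : V) : B hf hω x (-y) = - B hf hω x y := by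
  rw [B_swap hf hω x (-y), B_neg_left, B_swap hf hω y x]; ring

theorem B_sub_left (x x' y : V) : B hf hω (x - x') y = B hf hω x y - B hf hω x' y :=
  map_sub _ _ _

theorem B_sub_right (x y y' : V) : B hf hω x (y - y') = B hf hω x y - B hf hω x y' := by
  rw [sub_eq_add_neg, B_add_right, B_neg_right]; ring

theorem B_smul_smul (k k' : K) (x : V) : B hf hω (k • x) (k' • x) = 0 := by
  rw [B_smul_left, B_smul_right, B_self, mul_zero, mul_zero]

theorem B_ne_zero_of_f {x y : V} (h : f x y ≠ 0) : B hf hω x y ≠ 0 := by
  intro h0
  apply h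
  rw [← omega_B hf hω, h0, map_zero]

theorem B_nondeg {x : V} (hx : x ≠ 0) : ∃ y, B hf hω x y ≠ 0 := by
  obtain ⟨y, hy⟩ := hf.nondeg x hx
  exact ⟨y, B_ne_zero_of_f hf hω hy⟩

/-- if `B x y ≠ 0` then some `K`-multiple of `x` is not `f`-perpendicular to `y`. -/
theorem exists_f_ne_zero {x y : V} (h : B hf hω x y ≠ 0) : ∃ k : K, f (k • x) y ≠ 0 := by
  by_contra hcon
  push Not at hcon
  apply h
  apply eq_zero_of_omega hω
  intro k
  rw [omega_mul_B]; exact hcon k

theorem f_eq_zero_of_B {x y : V} (h : B hf hω x y = 0) : f x y = 0 := by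
  rw [← omega_B hf hω, h, map_zero]

omit [FiniteDimensional F V] [FiniteDimensional F K] in
include hω in
theorem exists_omega_mul_ne {c : K} (hc : c ≠ 0) : ∃ κ : K, ω (κ * c) ≠ 0 := by
  by_contra hcon
  push Not at hcon
  exact hc (eq_zero_of_omega hω hcon)

end chi

end Cfsg.Agent.Helper7.ExtS
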