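import Cfsg.Agent.Helper7.ExtSA

set_option autoImplicit false
set_option linter.unusedSectionVars false
set_option linter.unusedVariables false

/-! Symplectic extension-field normalisers (helper7): the symplectic transvections over the big
field, their transitivity on the non-zero vectors, and an element of an overgroup fixing a vector
and moving its `K`-line. -/

namespace Cfsg.Agent.Helper7.ExtS

open Module Cfsg.Agent.Helper7.ExtF

variable {F : Type*} [Field F] {V : Type*} [AddCommGroup V] [Module F V]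
  {K : Type*} [Field K] [Algebra F K] [Module K V] [IsScalarTower F K V]

/-- isometries of a form. -/
def Isom (f : V → V → F) (g : V ≃ₗ[F] V) : Prop := ∀ x y, f (g x) (g y) = f x y

theorem Isom.one (f : V → V → F) : Isom f (1 : V ≃ₗ[F] V) := fun _ _ => rfl

theorem Isom.mul {f : V → V → F} {g h : V ≃ₗ[F] V} (hg : Isom f g) (hh : Isom f h) :
    Isom f (g * h) := fun x y => by
  rw [LinearEquiv.mul_apply, LinearEquiv.mul_apply, hg, hh]

theorem Isom.inv {f : V → V → F} {g : V ≃ₗ[F] V} (hg : Isom f g) : Isom f g⁻¹ := fun x y => by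
  have := hg (g⁻¹ x) (g⁻¹ y)
  rw [apply_inv_self, apply_inv_self] at this
  exact this.symm

variable [FiniteDimensional F V] [FiniteDimensional F K]
variable {f : V → V → F} (hf : SForm K f) {ω : K →ₗ[F] F} (hω : ω ≠ 0)

theorem smul_chi_self (a : V) (κ : K) : (κ • chi hf hω a) a = 0 := by
  rw [LinearMap.smul_apply]
  have : chi hf hω a a = 0 := B_self hf hω a
  rw [this, smul_zero]

/-- the symplectic transvection over `K` with centre `a` and parameter `κ`. -/
noncomputable def T (a : V) (κ : K) : V ≃ₗ[F] V :=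
  ktv (κ • chi hf hω a) a (smul_chi_self hf hω a κ)

theorem T_apply (a : V) (κ : K) (x : V) :
    T hf hω a κ x = x + (κ * B hf hω x a) • a := rfl

theorem klin_T (a : V) (κ : K) : KLin K (T hf hω a κ) := klin_ktv _ _ _

theorem T_inv_apply (a : V) (κ : K) (x : V) :
    (T hf hω a κ)⁻¹ x = x - (κ * B hf hω x a) • a := by
  unfold T; rw [ktv_inv_apply]; rfl

theorem isom_T (a : V) (κ : K) : Isom f (T hf hω a κ) := by
  intro x y
  rw [T_apply, T_apply, hf.add_left, hf.add_right, hf.add_right, hf.smul_smul, add_zero]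
  have h1 : f x ((κ * B hf hω y a) • a) = ω (κ * B hf hω y a * B hf hω x a) := by
    rw [← hf.sa, omega_mul_B]
  have h2 : f ((κ * B hf hω x a) • a) y = - ω (κ * B hf hω x a * B hf hω y a) := by
    rw [hf.swap, ← hf.sa, omega_mul_B]
  rw [h1, h2]
  have : κ * B hf hω y a * B hf hω x a = κ * B hf hω x a * B hf hω y a := by ring
  rw [this]; ring

theorem T_fix {a x : V} (κ : K) (h : B hf hω x a = 0) : T hf hω a κ x = x := by
  rw [T_apply, h, mul_zero, zero_smul, add_zero]

/-- a vector not perpendicular to two given non-zero vectors. -/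
theorem exists_nonperp_both {x y : V} (hx : x ≠ 0) (hy : y ≠ 0) :
    ∃ c : V, B hf hω x c ≠ 0 ∧ B hf hω y c ≠ 0 := by
  obtain ⟨u, hu⟩ := B_nondeg hf hω hx
  obtain ⟨v, hv⟩ := B_nondeg hf hω hy
  by_cases h1 : B hf hω y u = 0
  · by_cases h2 : B hf hω x v = 0
    · refine ⟨u + v, ?_, ?_⟩
      · rw [B_add_right, h2, add_zero]; exact hu
      · rw [B_add_right, h1, zero_add]; exact hv
    · exact ⟨v, h2, hv⟩
  · exact ⟨u, hu, h1⟩

/-- a transvection mapping `a` to `b` when they are not perpendicular. -/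
theorem T_map {a b : V} (h : B hf hω a b ≠ 0) :
    T hf hω (a - b) (B hf hω a b)⁻¹ a = b := by
  rw [T_apply, B_sub_right, B_self, zero_sub, mul_neg, inv_mul_cancel₀ h, neg_smul, one_smul]
  abel

variable (M : Subgroup (V ≃ₗ[F] V)) (hT : ∀ (a : V) (κ : K), T hf hω a κ ∈ M)

include hT

/-- the symplectic transvections over `K` are transitive on the non-zero vectors. -/
theorem exists_map {a b : V} (ha : a ≠ 0) (hb : b ≠ 0) :
    ∃ n ∈ M, KLin K n ∧ Isom f n ∧ n a = b := by
  obtain ⟨c, hac, hbc⟩ := exists_nonperp_both hf hω ha hb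
  have hcb : B hf hω c b ≠ 0 := by rw [B_swap]; exact neg_ne_zero.mpr hbc
  refine ⟨T hf hω (c - b) (B hf hω c b)⁻¹ * T hf hω (a - c) (B hf hω a c)⁻¹,
    M.mul_mem (hT _ _) (hT _ _), (klin_T hf hω _ _).mul (klin_T hf hω _ _),
    (isom_T hf hω _ _).mul (isom_T hf hω _ _), ?_⟩
  rw [LinearEquiv.mul_apply, T_map hf hω hac, T_map hf hω hcb]

/-- an overgroup containing a non-semilinear element contains an element
fixing a non-zero vector and moving its `K`-line. -/
theorem exists_fix_move (h2 : 2 ≤ finrank K V) (hne : ∃ g ∈ M, ¬ IsSemi K g) :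
    ∃ h ∈ M, ∃ a : V, a ≠ 0 ∧ h a = a ∧ ∃ c : K, ∀ c' : K, h (c • a) ≠ c' • a := by
  by_contra hcon
  push Not at hcon
  obtain ⟨g, hgM, hg⟩ := hne
  apply hg
  have hall : ∀ g ∈ M, ∀ a : V, ∀ c : K, ∃ c' : K, g (c • a) = c' • g a := by
    intro g hgM a c
    by_cases ha : a = 0
    · exact ⟨0, by rw [ha]; simp⟩
    have hb : g a ≠ 0 := fun h => ha (by simpa using h)
    obtain ⟨n, hnM, hnK, -, hn⟩ := exists_map hf hω M hT hb ha
    obtain ⟨c', hc'⟩ := hcon (n * g) (M.mul_mem hnM hgM) a ha
      (by rw [LinearEquiv.mul_apply, hn]) c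
    refine ⟨c', ?_⟩
    rw [LinearEquiv.mul_apply] at hc'
    apply n.injective
    rw [hc', hnK c', hn]
  exact isSemi_of_lines h2 g (hall g hgM) (hall g⁻¹ (M.inv_mem hgM))

end Cfsg.Agent.Helper7.ExtS
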