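import Cfsg.Agent.Helper7.ExtSB

set_option autoImplicit false
set_option linter.unusedSectionVars false
set_option linter.unusedVariables false

/-! Symplectic extension-field normalisers (helper7): a pair (`K`-line, image of it under an element
of the overgroup) with intersection of codimension one, the two not being perpendicular. -/

namespace Cfsg.Agent.Helper7.ExtS

open Module Cfsg.Agent.Helper7.ExtF

variable {F : Type*} [Field F] {V : Type*} [AddCommGroup V] [Module F V]
  {K : Type*} [Field K] [Algebra F K] [Module K V] [IsScalarTower F K V]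

variable [FiniteDimensional F V] [FiniteDimensional F K]
variable {f : V → V → F} (hf : SForm K f) {ω : K →ₗ[F] F} (hω : ω ≠ 0)

/-- a vector outside the `K`-line of `a` is separated from `a` by the perpendicular space. -/
theorem exists_perp_nonperp {a w : V} (ha : a ≠ 0) (hw : w ∉ kline F K a) :
    ∃ b : V, B hf hω a b = 0 ∧ B hf hω w b ≠ 0 := by
  by_contra hcon
  push Not at hcon
  obtain ⟨y₀, hy₀⟩ := B_nondeg hf hω ha
  apply hw
  set l : K := B hf hω w y₀ / B hf hω a y₀ with hl
  have hall : ∀ v, B hf hω (w - l • a) v = 0 := by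
    intro v
    set v' := v - (B hf hω a v / B hf hω a y₀) • y₀ with hv'
    have h1 : B hf hω a v' = 0 := by
      rw [hv', B_sub_right, B_smul_right, div_mul_cancel₀ _ hy₀, sub_self]
    have h2 := hcon v' h1
    rw [hv', B_sub_right, B_smul_right, sub_eq_zero] at h2
    rw [B_sub_left, B_smul_left, h2, hl]
    field_simp
    ring
  have h0 : w - l • a = 0 := by
    by_contra hne
    obtain ⟨y, hy⟩ := B_nondeg hf hω hne
    exact hy (hall y)
  rw [sub_eq_zero] at h0
  rw [h0]
  exact smul_mem_kline l a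

variable (M : Subgroup (V ≃ₗ[F] V)) (hT : ∀ (a : V) (κ : K), T hf hω a κ ∈ M)

/-- the key property of a pair with maximal intersection. -/
theorem max_prop {a : V} {g : V ≃ₗ[F] V} (hg : g ∈ M)
    (hmax : ∀ g' ∈ M, img g' (kline F K a) ≠ kline F K a →
      finrank F ↥(kline F K a ⊓ img g' (kline F K a)) ≤
        finrank F ↥(kline F K a ⊓ img g (kline F K a)))
    {z : V ≃ₗ[F] V} (hzM : z ∈ M) (hzL : ∀ x ∈ kline F K a, z x = x)
    {w : V} (hw : w ∈ img g (kline F K a))
    (hwL : w ∉ kline F K a) (hzw : z w ∈ img g (kline F K a)) :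
    img z (img g (kline F K a)) = img g (kline F K a) := by
  set L := kline F K a with hL
  set W := img g L with hW
  have hzwL : z w ∉ L := by
    intro h
    apply hwL
    have h1 : z (z w) = z w := hzL _ h
    exact (z.injective h1) ▸ h
  have hlt : L ⊓ W < W ⊓ img z W := by
    refine lt_of_le_of_ne ?_ ?_
    · intro x hx
      refine ⟨hx.2, ?_⟩
      rw [← hzL x hx.1]
      exact apply_mem_img hx.2
    · intro heq
      have : z w ∈ L ⊓ W := by
        rw [heq]; exact ⟨hzw, apply_mem_img hw⟩
      exact hzwL this.1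
  have hfin : finrank F ↥(L ⊓ W) < finrank F ↥(W ⊓ img z W) :=
    Submodule.finrank_lt_finrank_of_lt hlt
  set g' := g⁻¹ * z * g with hg'
  have hg'M : g' ∈ M := M.mul_mem (M.mul_mem (M.inv_mem hg) hzM) hg
  have himg : img g (L ⊓ img g' L) = W ⊓ img z W := by
    rw [img_inf, hg', img_mul, img_mul, ← hW]
    congr 1
    rw [← img_mul, mul_inv_cancel, img_one]
  have hfin' : finrank F ↥(L ⊓ img g' L) = finrank F ↥(W ⊓ img z W) := by
    rw [← himg, finrank_img]
  have hg'L : img g' L = L := by
    by_contra hne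
    have := hmax g' hg'M hne
    omega
  have : img g (img g' L) = img g L := by rw [hg'L]
  rw [hg', img_mul, img_mul, ← hW, ← img_mul, mul_inv_cancel, img_one] at this
  exact this

include hT

/-- for a maximal pair which is not perpendicular, the part of `W` perpendicular to `L` is in
`L`. -/
theorem perp_mem_of_max {a : V} (ha : a ≠ 0) {g : V ≃ₗ[F] V} (hg : g ∈ M)
    (hgL : img g (kline F K a) ≠ kline F K a)
    (hmax : ∀ g' ∈ M, img g' (kline F K a) ≠ kline F K a →
      finrank F ↥(kline F K a ⊓ img g' (kline F K a)) ≤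
        finrank F ↥(kline F K a ⊓ img g (kline F K a)))
    {w₁ : V} (hw₁ : w₁ ∈ img g (kline F K a)) (hb : B hf hω w₁ a ≠ 0) :
    ∀ w ∈ img g (kline F K a), B hf hω w a = 0 → w ∈ kline F K a := by
  intro w₀ hw₀ hw₀a
  by_contra hw₀L
  apply hgL
  set L := kline F K a with hL
  set W := img g L with hW
  have hLr : finrank F ↥L = finrank F K := finrank_kline ha
  have hWr : finrank F ↥W = finrank F K := by rw [hW, finrank_img, hLr]
  have hfixL : ∀ (κ : K), ∀ x ∈ L, T hf hω a κ x = x := by
    intro κ x hx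
    obtain ⟨c, rfl⟩ := mem_kline.mp hx
    apply T_fix
    rw [B_smul_left, B_self, mul_zero]
  have hLW : L ≤ W := by
    intro x hx
    obtain ⟨c, rfl⟩ := mem_kline.mp hx
    set κ := c / B hf hω w₁ a with hκ
    have hz : img (T hf hω a κ) W = W := max_prop M hg hmax (hT a κ) (hfixL κ) hw₀ hw₀L
      (by rw [T_fix hf hω κ hw₀a]; exact hw₀)
    have h1 : T hf hω a κ w₁ ∈ W := by rw [← hz]; exact apply_mem_img hw₁
    rw [T_apply, hκ, div_mul_cancel₀ _ hb] at h1
    have : c • a = (w₁ + c • a) - w₁ := by abel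
    rw [this]
    exact W.sub_mem h1 hw₁
  exact (eq_of_le_of_finrank hLW (by rw [hWr, hLr])).symm

/-- a maximal pair which is not perpendicular has intersection of codimension one. -/
theorem codim_one_of_max (hr : (finrank F K).Prime) {a : V} (ha : a ≠ 0) {g : V ≃ₗ[F] V}
    (hg : g ∈ M) (hgL : img g (kline F K a) ≠ kline F K a)
    (hd1 : 1 ≤ finrank F ↥(kline F K a ⊓ img g (kline F K a)))
    (hmax : ∀ g' ∈ M, img g' (kline F K a) ≠ kline F K a →
      finrank F ↥(kline F K a ⊓ img g' (kline F K a)) ≤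
        finrank F ↥(kline F K a ⊓ img g (kline F K a)))
    {w₁ : V} (hw₁ : w₁ ∈ img g (kline F K a)) (hb : B hf hω w₁ a ≠ 0) :
    finrank F ↥(kline F K a ⊓ img g (kline F K a)) + 1 = finrank F K := by
  have hperp := perp_mem_of_max hf hω M hT ha hg hgL hmax hw₁ hb
  set L := kline F K a with hL
  set W := img g L with hW
  set D := L ⊓ W with hD
  have hLr : finrank F ↥L = finrank F K := finrank_kline ha
  have hWr : finrank F ↥W = finrank F K := by rw [hW, finrank_img, hLr]
  have hDL : D < L := by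
    refine lt_of_le_of_ne inf_le_left fun heq => hgL ?_
    have hLW : L ≤ W := by rw [← heq]; exact inf_le_right
    exact (eq_of_le_of_finrank hLW (by rw [hWr, hLr])).symm
  have hdr : finrank F ↥D < finrank F K := by
    rw [← hLr]; exact Submodule.finrank_lt_finrank_of_lt hDL
  have hfixL : ∀ (κ : K), ∀ x ∈ L, T hf hω a κ x = x := by
    intro κ x hx
    obtain ⟨c, rfl⟩ := mem_kline.mp hx
    apply T_fix
    rw [B_smul_left, B_self, mul_zero]
  have hw₁L : w₁ ∉ L := by
    intro h
    obtain ⟨c, hc⟩ := mem_kline.mp h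
    apply hb
    rw [← hc, B_smul_left, B_self, mul_zero]
  -- the subspace `Da` of `K`
  set Da : Submodule F K := W.comap ((LinearMap.toSpanSingleton K V a).restrictScalars F) with hDa
  have hmemDa : ∀ κ : K, κ ∈ Da ↔ κ • a ∈ W := fun κ => by
    rw [hDa, Submodule.mem_comap]; rfl
  obtain ⟨κ', hκ'⟩ : ∃ κ' : K, κ' ∉ Da := by
    by_contra hall
    push Not at hall
    apply hgL
    have hLW : L ≤ W := by
      intro x hx
      obtain ⟨c, rfl⟩ := mem_kline.mp hx
      exact (hmemDa c).mp (hall c)
    exact (eq_of_le_of_finrank hLW (by rw [hWr, hLr])).symm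
  obtain ⟨κ₀, hκ₀, hκ₀0⟩ : ∃ κ₀ : K, κ₀ ∈ Da ∧ κ₀ ≠ 0 := by
    have : 0 < finrank F ↥D := by omega
    rw [finrank_pos_iff_exists_ne_zero] at this
    obtain ⟨⟨x, hx⟩, hx0⟩ := this
    obtain ⟨c, rfl⟩ := mem_kline.mp hx.1
    refine ⟨c, (hmemDa c).mpr hx.2, fun h0 => hx0 ?_⟩
    apply Subtype.ext
    simp [h0]
  set b := B hf hω w₁ a with hbdef
  -- the ratios lie in the stabiliser of `Da`
  have hstab : ∀ w' ∈ W, b⁻¹ * B hf hω w' a ∈ stabAlg Da := by
    intro w' hw' d hd
    set κ := d * b⁻¹ with hκ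
    have hzw₁ : T hf hω a κ w₁ ∈ W := by
      rw [T_apply, hκ, ← hbdef, mul_assoc, inv_mul_cancel₀ hb, mul_one]
      exact W.add_mem hw₁ ((hmemDa d).mp hd)
    have hz : img (T hf hω a κ) W = W := max_prop M hg hmax (hT a κ) (hfixL κ) hw₁ hw₁L hzw₁
    have h1 : T hf hω a κ w' ∈ W := by rw [← hz]; exact apply_mem_img hw'
    rw [T_apply] at h1
    have h2 : (κ * B hf hω w' a) • a ∈ W := by
      have : (κ * B hf hω w' a) • a = (w' + (κ * B hf hω w' a) • a) - w' := by abel
      rw [this]; exact W.sub_mem h1 hw'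
    rw [hmemDa]
    have : b⁻¹ * B hf hω w' a * d = κ * B hf hω w' a := by rw [hκ]; ring
    rw [this]; exact h2
  have hsimple := Subalgebra.isSimpleOrder_of_finrank_prime F K hr
  have hbot : stabAlg Da = ⊥ := by
    rcases hsimple.eq_bot_or_eq_top (stabAlg Da) with hbot | htop
    · exact hbot
    · exfalso
      apply hκ'
      have h1 : κ' * κ₀⁻¹ ∈ stabAlg Da := by rw [htop]; exact Algebra.mem_top
      have := h1 κ₀ hκ₀
      rwa [mul_assoc, inv_mul_cancel₀ hκ₀0, mul_one] at this
  -- `W` is spanned by `D` and `w₁`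
  have hWle : W ≤ D ⊔ Submodule.span F {w₁} := by
    intro w' hw'
    have h1 := hstab w' hw'
    rw [hbot, Algebra.mem_bot] at h1
    obtain ⟨c, hc⟩ := h1
    have hBw' : B hf hω w' a = algebraMap F K c * b := by
      rw [hc]; field_simp
    have h2 : w' - c • w₁ ∈ D := by
      have hW' : w' - c • w₁ ∈ W := W.sub_mem hw' (W.smul_mem c hw₁)
      refine ⟨hperp _ hW' ?_, hW'⟩
      rw [B_sub_left, ← algebraMap_smul K c w₁, B_smul_left, hBw', ← hbdef, sub_self]
    have : w' = (w' - c • w₁) + c • w₁ := by abel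
    rw [this]
    exact Submodule.add_mem _ (Submodule.mem_sup_left h2)
      (Submodule.mem_sup_right (Submodule.smul_mem _ c (Submodule.mem_span_singleton_self w₁)))
  have h3 : finrank F ↥W ≤ finrank F ↥D + 1 := by
    have h1 : finrank F ↥(D ⊔ Submodule.span F {w₁}) ≤
        finrank F ↥D + finrank F ↥(Submodule.span F {w₁}) :=
      Submodule.finrank_add_le_finrank_add_finrank _ _
    have h2' : finrank F ↥(Submodule.span F {w₁}) ≤ 1 := by
      have := finrank_span_le_card (R := F) ({w₁} : Set V)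
      simpa using this
    have h4 := Submodule.finrank_mono hWle
    omega
  omega

end Cfsg.Agent.Helper7.ExtS
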