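import Cfsg.Agent.Helper7.ExtSC

set_option autoImplicit false
set_option linter.unusedSectionVars false
set_option linter.unusedVariables false

/-! Symplectic extension-field normalisers (helper7): existence of a non-perpendicular pair with
intersection of codimension one. -/

namespace Cfsg.Agent.Helper7.ExtS

open Module Cfsg.Agent.Helper7.ExtF

variable {F : Type*} [Field F] {V : Type*} [AddCommGroup V] [Module F V]
  {K : Type*} [Field K] [Algebra F K] [Module K V] [IsScalarTower F K V]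

variable [FiniteDimensional F V] [FiniteDimensional F K]
variable {f : V → V → F} (hf : SForm K f) {ω : K →ₗ[F] F} (hω : ω ≠ 0)

variable (M : Subgroup (V ≃ₗ[F] V)) (hT : ∀ (a : V) (κ : K), T hf hω a κ ∈ M)
  (hMf : ∀ g ∈ M, Isom f g)

include hf hMf in
/-- the image of a `K`-line under an isometry is totally isotropic. -/
theorem img_isotropic {a : V} {g : V ≃ₗ[F] V} (hg : g ∈ M) :
    ∀ x ∈ img g (kline F K a), ∀ y ∈ img g (kline F K a), f x y = 0 := by
  intro x hx y hy
  obtain ⟨x', hx', rfl⟩ := mem_img.mp hx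
  obtain ⟨y', hy', rfl⟩ := mem_img.mp hy
  obtain ⟨c, rfl⟩ := mem_kline.mp hx'
  obtain ⟨c', rfl⟩ := mem_kline.mp hy'
  rw [hMf g hg, hf.smul_smul]

include hT hMf

/-- from a perpendicular pair to a non-perpendicular pair with intersection at least as big. -/
theorem nonperp_of_perp {a : V} (ha : a ≠ 0) {g : V ≃ₗ[F] V} (hg : g ∈ M)
    (hgL : img g (kline F K a) ≠ kline F K a)
    (hperp : ∀ w ∈ img g (kline F K a), B hf hω w a = 0) :
    ∃ g' ∈ M, img g' (kline F K a) ≠ kline F K a ∧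
      finrank F ↥(kline F K a ⊓ img g (kline F K a)) ≤
        finrank F ↥(kline F K a ⊓ img g' (kline F K a)) ∧
      ∃ w' ∈ img g' (kline F K a), B hf hω w' a ≠ 0 := by
  set L := kline F K a with hL
  set W := img g L with hW
  have hLr : finrank F ↥L = finrank F K := finrank_kline ha
  have hWr : finrank F ↥W = finrank F K := by rw [hW, finrank_img, hLr]
  have hDW : L ⊓ W < W := by
    refine lt_of_le_of_ne inf_le_right fun heq => hgL ?_
    have hWL : W ≤ L := by rw [← heq]; exact inf_le_left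
    exact eq_of_le_of_finrank hWL (by rw [hWr, hLr])
  obtain ⟨w, hwW, hwD⟩ := SetLike.exists_of_lt hDW
  have hwL : w ∉ L := fun h' => hwD ⟨h', hwW⟩
  obtain ⟨b', hab', hwb'⟩ := exists_perp_nonperp hf hω ha hwL
  have hc2 : B hf hω w b' * B hf hω w b' ≠ 0 := mul_ne_zero hwb' hwb'
  obtain ⟨κ, hκ⟩ := exists_omega_mul_ne hω hc2
  set n := T hf hω b' κ with hn
  have hnM : n ∈ M := hT b' κ
  have hnL : ∀ x ∈ L, n x = x := by
    intro x hx
    obtain ⟨c, rfl⟩ := mem_kline.mp hx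
    apply T_fix
    rw [B_smul_left, hab', mul_zero]
  have hfw : f w (n w) ≠ 0 := by
    rw [hn, T_apply, hf.add_right, hf.self, zero_add, ← hf.sa, ← omega_mul_B hf hω, mul_assoc]
    exact hκ
  have hWiso := img_isotropic hf M hMf (a := a) hg
  have hnwW : n w ∉ W := fun h => hfw (hWiso w hwW _ h)
  set g' := g⁻¹ * n * g with hg'
  have hg'M : g' ∈ M := M.mul_mem (M.mul_mem (M.inv_mem hg) hnM) hg
  have himg : img g (L ⊓ img g' L) = W ⊓ img n W := by
    rw [img_inf, hg', img_mul, img_mul, ← hW]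
    congr 1
    rw [← img_mul, mul_inv_cancel, img_one]
  refine ⟨g', hg'M, ?_, ?_, ?_⟩
  · intro heq
    have : img g (img g' L) = img g L := by rw [heq]
    rw [hg', img_mul, img_mul, ← hW, ← img_mul, mul_inv_cancel, img_one] at this
    apply hnwW
    rw [← this]
    exact apply_mem_img hwW
  · have h1 : finrank F ↥(L ⊓ img g' L) = finrank F ↥(W ⊓ img n W) := by
      rw [← himg, finrank_img]
    rw [h1]
    apply Submodule.finrank_mono
    intro x hx
    refine ⟨hx.2, ?_⟩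
    rw [← hnL x hx.1]
    exact apply_mem_img hx.2
  · obtain ⟨l₁, hl₁, hgl₁⟩ := mem_img.mp hwW
    refine ⟨g' l₁, apply_mem_img hl₁, ?_⟩
    have h1 : g' l₁ = g⁻¹ (n w) := by
      rw [hg', LinearEquiv.mul_apply, LinearEquiv.mul_apply, hgl₁]
    have h2 : f l₁ (g' l₁) ≠ 0 := by
      have h3 : l₁ = g⁻¹ w := by rw [← hgl₁, inv_apply_self]
      rw [h1, h3, (hMf g hg).inv]
      exact hfw
    obtain ⟨c₁, rfl⟩ := mem_kline.mp hl₁
    have h4 := B_ne_zero_of_f hf hω h2
    rw [B_smul_left] at h4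
    rw [B_swap]
    exact neg_ne_zero.mpr (right_ne_zero_of_mul h4)

/-- a non-perpendicular pair with intersection of codimension one. -/
theorem exists_good_pair (hr : (finrank F K).Prime) (h2 : 2 ≤ finrank K V)
    (hne : ∃ g ∈ M, ¬ IsSemi K g) :
    ∃ a : V, a ≠ 0 ∧ ∃ g ∈ M, img g (kline F K a) ≠ kline F K a ∧
      finrank F ↥(kline F K a ⊓ img g (kline F K a)) + 1 = finrank F K ∧
      (∀ w ∈ img g (kline F K a), B hf hω w a = 0 → w ∈ kline F K a) := by
  classical
  obtain ⟨h, hhM, a, ha, hfix, c, hc⟩ := exists_fix_move hf hω M hT h2 hne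
  refine ⟨a, ha, ?_⟩
  set L := kline F K a with hL
  have hLr : finrank F ↥L = finrank F K := finrank_kline ha
  have hhL : img h L ≠ L := by
    intro heq
    have : h (c • a) ∈ L := by rw [← heq]; exact apply_mem_img (smul_mem_kline c a)
    obtain ⟨c', hc'⟩ := mem_kline.mp this
    exact hc c' hc'.symm
  have haI : a ∈ L ⊓ img h L := ⟨self_mem_kline a, by
    have := apply_mem_img (g := h) (self_mem_kline (F := F) (K := K) a)
    rwa [hfix] at this⟩
  have hle : ∀ g : V ≃ₗ[F] V, finrank F ↥(L ⊓ img g L) ≤ finrank F K := fun g => by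
    rw [← hLr]; exact Submodule.finrank_mono inf_le_left
  set P : ℕ → Prop := fun n => ∃ g ∈ M, img g L ≠ L ∧ finrank F ↥(L ⊓ img g L) = n with hP
  have hP0 : P (finrank F ↥(L ⊓ img h L)) := ⟨h, hhM, hhL, rfl⟩
  have hPd : P (Nat.findGreatest P (finrank F K)) := Nat.findGreatest_spec (hle h) hP0
  have hd0 : finrank F ↥(L ⊓ img h L) ≤ Nat.findGreatest P (finrank F K) :=
    Nat.le_findGreatest (hle h) hP0
  have hd1 : 1 ≤ Nat.findGreatest P (finrank F K) := by
    have h1 : 1 ≤ finrank F ↥(L ⊓ img h L) := by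
      rw [Nat.succ_le_iff, finrank_pos_iff_exists_ne_zero]
      exact ⟨⟨a, haI⟩, fun h0 => ha (congrArg Subtype.val h0)⟩
    omega
  obtain ⟨g, hgM, hgL, hgd⟩ := hPd
  -- a maximal pair which is not perpendicular
  obtain ⟨g₁, hg₁M, hg₁L, hg₁d, w₁, hw₁, hb⟩ : ∃ g₁ ∈ M, img g₁ L ≠ L ∧
      finrank F ↥(L ⊓ img g₁ L) = Nat.findGreatest P (finrank F K) ∧
      ∃ w₁ ∈ img g₁ L, B hf hω w₁ a ≠ 0 := by
    by_cases hperp : ∀ w ∈ img g L, B hf hω w a = 0
    · obtain ⟨g', hg'M, hg'L, hg'd, w', hw', hb'⟩ :=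
        nonperp_of_perp hf hω M hT hMf ha hgM hgL hperp
      refine ⟨g', hg'M, hg'L, ?_, w', hw', hb'⟩
      have h1 : finrank F ↥(L ⊓ img g' L) ≤ Nat.findGreatest P (finrank F K) :=
        Nat.le_findGreatest (hle g') ⟨g', hg'M, hg'L, rfl⟩
      have hg'd' : finrank F ↥(L ⊓ img g L) ≤ finrank F ↥(L ⊓ img g' L) := hg'd
      rw [hgd] at hg'd'
      omega
    · push Not at hperp
      obtain ⟨w₁, hw₁, hb⟩ := hperp
      exact ⟨g, hgM, hgL, hgd, w₁, hw₁, hb⟩
  have hmax : ∀ g' ∈ M, img g' L ≠ L →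
      finrank F ↥(L ⊓ img g' L) ≤ finrank F ↥(L ⊓ img g₁ L) := by
    intro g' hg' hne'
    rw [hg₁d]
    exact Nat.le_findGreatest (hle g') ⟨g', hg', hne', rfl⟩
  refine ⟨g₁, hg₁M, hg₁L, ?_, ?_⟩
  · exact codim_one_of_max hf hω M hT hr ha hg₁M hg₁L (by rw [hg₁d]; exact hd1) hmax hw₁ hb
  · exact perp_mem_of_max hf hω M hT ha hg₁M hg₁L hmax hw₁ hb

end Cfsg.Agent.Helper7.ExtS
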