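import Cfsg.Agent.Helper7.ExtSD

set_option autoImplicit false
set_option linter.unusedSectionVars false
set_option linter.unusedVariables false

/-! Symplectic extension-field normalisers (helper7): from the codimension-one configuration to a
transvection over the small field, when the small field has at least three elements. -/

namespace Cfsg.Agent.Helper7.ExtS

open Module Cfsg.Agent.Helper7.ExtF

variable {F : Type*} [Field F] {V : Type*} [AddCommGroup V] [Module F V]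
  {K : Type*} [Field K] [Algebra F K] [Module K V] [IsScalarTower F K V]

variable [FiniteDimensional F V]

/-- at least three scalars: a transvection over `F`, from root elements with functionals in a
family stable under scalars. -/
theorem hasTv_of_scalar (M : Subgroup (V ≃ₗ[F] V)) {a : V} (G : Set (V →ₗ[K] K))
    (hG : ∀ ξ ∈ G, ∀ h : ξ a = 0, ktv (F := F) ξ a h ∈ M)
    (hGs : ∀ (l : K) (ξ : V →ₗ[K] K), ξ ∈ G → l • ξ ∈ G)
    {g : V ≃ₗ[F] V} {e w : V} {ω η : Module.Dual F V}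
    (c : Cfg K a g e w ω η) (hg : g ∈ M)
    {δ : V} (hδ : δ ∈ kline F K a ⊓ img g (kline F K a)) (hδ0 : δ ≠ 0)
    {ψ : V →ₗ[K] K} (hψG : ψ ∈ G) (hψa : ψ a = 0) (hψw : ψ w • a = δ)
    {χ : V →ₗ[K] K} (hχG : χ ∈ G) (hχa : χ a = 0) (hχe : g (χ (g⁻¹ e) • a) = w)
    {l : F} (hl0 : l ≠ 0) (hl1 : l ≠ 1) : HasTv M := by
  obtain ⟨ce, hce⟩ := mem_kline.mp c.he
  have hκ0 : ψ w ≠ 0 := by
    intro h0; rw [h0, zero_smul] at hψw; exact hδ0 hψw.symm
  have hBe : conjEnd g (kA (F := F) χ a) e = w := by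
    rw [conjEnd_apply, kA_apply, hχe]
  -- scaled functionals
  set l' : K := algebraMap F K l with hl'
  have hψa' : (l' • ψ) a = 0 := by rw [LinearMap.smul_apply, hψa, smul_zero]
  have hχa' : (l' • χ) a = 0 := by rw [LinearMap.smul_apply, hχa, smul_zero]
  have hkA : ∀ (ξ : V →ₗ[K] K) (v : V), kA (F := F) (l' • ξ) a v = l • kA (F := F) ξ a v := by
    intro ξ v
    rw [kA_apply, kA_apply, LinearMap.smul_apply, smul_eq_mul, mul_smul, hl', algebraMap_smul]
  have hcB : ∀ v, conjEnd g (kA (F := F) (l' • χ) a) v = l • conjEnd g (kA (F := F) χ a) v := by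
    intro v
    rw [conjEnd_apply, conjEnd_apply, hkA, map_smul]
  have hδW : ψ w • a ∈ img g (kline F K a) := by rw [hψw]; exact hδ.2
  have hδW' : (l' • ψ) w • a ∈ img g (kline F K a) := by
    have : (l' • ψ) w • a = l • (ψ w • a) := hkA ψ w
    rw [this]; exact Submodule.smul_mem _ l hδW
  set y₁ := g * ktv (F := F) χ a hχa * g⁻¹ with hy₁
  set y₂ := g * ktv (F := F) (l' • χ) a hχa' * g⁻¹ with hy₂
  set t₁ := ktv (F := F) (l' • ψ) a hψa' * y₁ * (ktv (F := F) (l' • ψ) a hψa')⁻¹ * y₁⁻¹ with ht₁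
  set t₂ := ktv (F := F) ψ a hψa * y₂ * (ktv (F := F) ψ a hψa)⁻¹ * y₂⁻¹ with ht₂
  have hy₁M : y₁ ∈ M := M.mul_mem (M.mul_mem hg (hG _ hχG _)) (M.inv_mem hg)
  have hy₂M : y₂ ∈ M := M.mul_mem (M.mul_mem hg (hG _ (hGs _ _ hχG) _)) (M.inv_mem hg)
  have ht₁M : t₁ ∈ M :=
    M.mul_mem (M.mul_mem (M.mul_mem (hG _ (hGs _ _ hψG) _) hy₁M)
      (M.inv_mem (hG _ (hGs _ _ hψG) _))) (M.inv_mem hy₁M)
  have ht₂M : t₂ ∈ M :=
    M.mul_mem (M.mul_mem (M.mul_mem (hG _ hψG _) hy₂M) (M.inv_mem (hG _ hψG _))) (M.inv_mem hy₂M)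
  set A₁ := kA (F := F) ψ a with hA₁
  set B := conjEnd g (kA (F := F) χ a) with hB
  have hlw : (l' • ψ) w • a = l • δ := by
    have : (l' • ψ) w • a = l • (ψ w • a) := hkA ψ w
    rw [this, hψw]
  have ht₁v : ∀ v, t₁ v = v + (l • ω (B v) • δ - l • η (A₁ v) • w - (l * l) • η (A₁ v) • δ) := by
    intro v
    rw [ht₁, hy₁, c.comm_cfg (l' • ψ) χ hψa' hχa hδW' v, hBe, c.hωw, hkA ψ v, hlw, map_smul]
    module
  have ht₂v : ∀ v, t₂ v = v + (l • ω (B v) • δ - l • η (A₁ v) • w - l • η (A₁ v) • δ) := by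
    intro v
    rw [ht₂, hy₂, c.comm_cfg ψ (l' • χ) hψa hχa' hδW v, hcB v, hcB e, hBe, map_smul, map_smul,
      c.hωw, hψw]
    module
  have hA₁δ : A₁ δ = 0 := kA_kills (F := F) hψa δ hδ.1
  have hBδ : B δ = 0 := conj_kA_kills (F := F) hχa g δ hδ.2
  set φ : Module.Dual F V := (-(l * l - l)) • (η ∘ₗ A₁) with hφ
  have hφδ : φ δ = 0 := by
    rw [hφ, LinearMap.smul_apply, LinearMap.comp_apply, hA₁δ, map_zero, smul_zero]
  have ht₂δ : t₂ δ = δ := by
    rw [ht₂v, hA₁δ, hBδ]; simp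
  have htv : ∀ v, (t₂⁻¹ * t₁) v = v + φ v • δ := by
    intro v
    rw [LinearEquiv.mul_apply]
    have : t₁ v = t₂ (v + φ v • δ) := by
      rw [map_add, map_smul, ht₂δ, ht₁v, ht₂v, hφ]
      simp only [LinearMap.smul_apply, LinearMap.comp_apply, smul_eq_mul, neg_mul, neg_smul,
        sub_smul, mul_smul]
      abel
    rw [this, inv_apply_self]
  have hφ0 : φ ≠ 0 := by
    intro h0
    have h1 : φ ((ce * (ψ w)⁻¹) • w) = -(l * l - l) := by
      have h2 : A₁ ((ce * (ψ w)⁻¹) • w) = e := by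
        rw [hA₁, kA_apply, ψ.map_smul, smul_eq_mul, mul_assoc, inv_mul_cancel₀ hκ0, mul_one,
          hce]
      rw [hφ, LinearMap.smul_apply, LinearMap.comp_apply, h2, c.hηe, smul_eq_mul, mul_one]
    rw [h0, LinearMap.zero_apply] at h1
    have h2 : l * (l - 1) = 0 := by
      have := neg_eq_zero.mp h1.symm
      rw [← this]; ring
    rcases mul_eq_zero.mp h2 with h | h
    · exact hl0 h
    · exact hl1 (sub_eq_zero.mp h)
  refine ⟨φ, δ, hφδ, hφ0, hδ0, ?_⟩
  rw [← eq_ftv_of_toLin hφδ htv]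
  exact M.mul_mem (M.inv_mem ht₂M) ht₁M

end Cfsg.Agent.Helper7.ExtS
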