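import Cfsg.Agent.Helper7.ExtSE

set_option autoImplicit false
set_option linter.unusedSectionVars false
set_option linter.unusedVariables false

/-! Symplectic extension-field normalisers (helper7): the configuration of a good pair, and a
transvection over the small field when it has at least three elements. -/

namespace Cfsg.Agent.Helper7.ExtS

open Module Cfsg.Agent.Helper7.ExtF

variable {F : Type*} [Field F] {V : Type*} [AddCommGroup V] [Module F V]
  {K : Type*} [Field K] [Algebra F K] [Module K V] [IsScalarTower F K V]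

variable [FiniteDimensional F V] [FiniteDimensional F K]
variable {f : V → V → F} (hf : SForm K f) {ω₀ : K →ₗ[F] F} (hω : ω₀ ≠ 0)

variable (M : Subgroup (V ≃ₗ[F] V)) (hT : ∀ (a : V) (κ : K), T hf hω a κ ∈ M)
  (hMf : ∀ g ∈ M, Isom f g)

/-- the family of functionals of the symplectic transvections centred at `a`. -/
def fam (a : V) : Set (V →ₗ[K] K) := {ξ | ∃ κ : K, ξ = κ • chi hf hω a}

theorem fam_smul (a : V) (l : K) (ξ : V →ₗ[K] K) (h : ξ ∈ fam hf hω a) :
    l • ξ ∈ fam hf hω a := by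
  obtain ⟨κ, rfl⟩ := h
  exact ⟨l * κ, by rw [smul_smul]⟩

theorem smul_chi_mem (a : V) (κ : K) : κ • chi hf hω a ∈ fam hf hω a := ⟨κ, rfl⟩

include hT in
theorem fam_mem (a : V) : ∀ ξ ∈ fam hf hω a, ∀ h : ξ a = 0, ktv (F := F) ξ a h ∈ M := by
  intro ξ hξ h
  obtain ⟨κ, rfl⟩ := hξ
  exact hT a κ

include hMf in
/-- facts on the configuration of a good pair. -/
theorem cfg_facts {a : V} {g : V ≃ₗ[F] V} {e w : V} {ω η : Module.Dual F V}
    (c : Cfg K a g e w ω η) (hg : g ∈ M)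
    (hperp : ∀ w ∈ img g (kline F K a), B hf hω w a = 0 → w ∈ kline F K a) :
    B hf hω w a ≠ 0 ∧ f e w ≠ 0 ∧ B hf hω (g⁻¹ e) a ≠ 0 := by
  have hBw : B hf hω w a ≠ 0 := fun h => c.hwL (hperp w c.hw h)
  have hWiso := img_isotropic hf M hMf (a := a) hg
  have hfew : f e w ≠ 0 := by
    have h1 : B hf hω a w ≠ 0 := by rw [B_swap]; exact neg_ne_zero.mpr hBw
    obtain ⟨k, hk⟩ := exists_f_ne_zero hf hω h1
    obtain ⟨c', hc'⟩ := c.hL (k • a) (smul_mem_kline k a)
    intro h0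
    apply hk
    have : k • a = (k • a - c' • e) + c' • e := by abel
    rw [this, hf.add_left, hf.smul_left, h0, mul_zero, add_zero]
    exact hWiso _ hc' _ c.hw
  refine ⟨hBw, hfew, ?_⟩
  intro h0
  apply hfew
  obtain ⟨y₀, hy₀, hgy₀⟩ := mem_img.mp c.hw
  obtain ⟨cw, rfl⟩ := mem_kline.mp hy₀
  have h1 : f e w = f (g⁻¹ e) (cw • a) := by
    have := (hMf g hg).inv e w
    rw [← this, ← hgy₀, inv_apply_self]
  rw [h1, ← hf.sa, ← omega_mul_B hf hω, h0, mul_zero, map_zero]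

include hT hMf in
/-- a good pair gives a transvection over `F`, if `F` has at least three elements. -/
theorem hasTv_of_pair_scalar (hr2 : 2 ≤ finrank F K) {a : V} (ha : a ≠ 0) {g : V ≃ₗ[F] V}
    (hg : g ∈ M) (hgL : img g (kline F K a) ≠ kline F K a)
    (hfin : finrank F ↥(kline F K a ⊓ img g (kline F K a)) + 1 = finrank F K)
    (hperp : ∀ w ∈ img g (kline F K a), B hf hω w a = 0 → w ∈ kline F K a)
    {l : F} (hl0 : l ≠ 0) (hl1 : l ≠ 1) : HasTv M := by
  obtain ⟨e, w, ω, η, c⟩ := exists_cfg ha hgL hfin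
  obtain ⟨hBw, hfew, hBe⟩ := cfg_facts hf hω M hMf c hg hperp
  obtain ⟨δ, hδ, hδ0⟩ := exists_ne_zero_of_finrank
    (D := kline F K a ⊓ img g (kline F K a)) (by omega)
  obtain ⟨κ, hκ⟩ := mem_kline.mp hδ.1
  obtain ⟨y₀, hy₀, hgy₀⟩ := mem_img.mp c.hw
  obtain ⟨cw, hcw⟩ := mem_kline.mp hy₀
  refine hasTv_of_scalar M (fam hf hω a) (fam_mem hf hω M hT a) (fam_smul hf hω a) c hg hδ hδ0
    (ψ := (κ / B hf hω w a) • chi hf hω a) (smul_chi_mem hf hω a _) (smul_chi_self hf hω a _) ?_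
    (χ := (cw / B hf hω (g⁻¹ e) a) • chi hf hω a) (smul_chi_mem hf hω a _)
    (smul_chi_self hf hω a _) ?_ hl0 hl1
  · rw [LinearMap.smul_apply, smul_eq_mul]
    have : chi hf hω a w = B hf hω w a := rfl
    rw [this, div_mul_cancel₀ _ hBw, hκ]
  · rw [LinearMap.smul_apply, smul_eq_mul]
    have : chi hf hω a (g⁻¹ e) = B hf hω (g⁻¹ e) a := rfl
    rw [this, div_mul_cancel₀ _ hBe, hcw, hgy₀]

end Cfsg.Agent.Helper7.ExtS
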