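import Cfsg.Agent.Helper7.ExtSF

set_option autoImplicit false
set_option linter.unusedSectionVars false
set_option linter.unusedVariables false

/-! Symplectic extension-field normalisers (helper7): symplectic transvections over the small field;
over the field with two elements, the equivalence relation "the product of the transvections
centred at `x` and `y` lies in the overgroup". -/

namespace Cfsg.Agent.Helper7.ExtS

open Module Cfsg.Agent.Helper7.ExtF

variable {F : Type*} [Field F] {V : Type*} [AddCommGroup V] [Module F V]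
  {K : Type*} [Field K] [Algebra F K] [Module K V] [IsScalarTower F K V]

variable {f : V → V → F} (hf : SForm K f)

theorem smul_fR_self (v : V) (c : F) : (c • hf.fR v) v = 0 := by
  rw [LinearMap.smul_apply, hf.fR_apply, hf.self, smul_zero]

/-- the symplectic transvection over `F` with centre `v` and parameter `c`. -/
def stv (v : V) (c : F) : V ≃ₗ[F] V := ftv (c • hf.fR v) v (smul_fR_self hf v c)

theorem stv_apply (v : V) (c : F) (x : V) : stv hf v c x = x + (c * f x v) • v := rfl

theorem stv_zero (c : F) : stv hf (0 : V) c = 1 := by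
  ext x
  rw [stv_apply, smul_zero, add_zero]; rfl

theorem isom_stv (v : V) (c : F) : Isom f (stv hf v c) := by
  intro x y
  rw [stv_apply, stv_apply, hf.add_left, hf.add_right, hf.add_right, hf.smul_left, hf.smul_left,
    hf.smul_right, hf.smul_right, hf.self, hf.swap v y]
  ring

theorem conj_stv {m : V ≃ₗ[F] V} (hm : Isom f m) (v : V) (c : F) :
    m * stv hf v c * m⁻¹ = stv hf (m v) c := by
  ext x
  rw [LinearEquiv.mul_apply, LinearEquiv.mul_apply, stv_apply, stv_apply, map_add, map_smul,
    apply_inv_self]
  congr 3
  have := hm (m⁻¹ x) v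
  rw [apply_inv_self] at this
  exact this.symm

theorem stv_add (v : V) (c d : F) : stv hf v c * stv hf v d = stv hf v (c + d) := by
  ext x
  rw [LinearEquiv.mul_apply, stv_apply, stv_apply, stv_apply, hf.add_left, hf.smul_left, hf.self]
  module

theorem stv_smul (v : V) (c l : F) : stv hf (l • v) c = stv hf v (l * l * c) := by
  ext x
  rw [stv_apply, stv_apply, hf.smul_right]
  module

section two

variable (hF : ∀ x : F, x = 0 ∨ x = 1)

include hF in
theorem neg_eq_of_two (x : F) : -x = x := by
  have h := one_add_one_of_two hF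
  have : x + x = 0 := by
    have : x + x = (1 + 1) * x := by ring
    rw [this, h, zero_mul]
  exact neg_eq_of_add_eq_zero_left this

include hF in
theorem eq_one_of_two {x : F} (h : x ≠ 0) : x = 1 := (hF x).resolve_left h

include hF in
theorem stv_one_sq (v : V) : stv hf v 1 * stv hf v 1 = 1 := by
  rw [stv_add, one_add_one_of_two hF]
  ext x
  rw [stv_apply, zero_mul, zero_smul, add_zero]; rfl

include hF in
theorem stv_one_inv (v : V) : (stv hf v 1)⁻¹ = stv hf v 1 :=
  inv_eq_of_mul_eq_one_left (stv_one_sq hf hF v)

/-- the relation: the product of the two transvections is in `M`. -/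
def Rel (M : Subgroup (V ≃ₗ[F] V)) (x y : V) : Prop := stv hf x 1 * stv hf y 1 ∈ M

variable (M : Subgroup (V ≃ₗ[F] V))

include hF in
theorem Rel.refl (x : V) : Rel hf M x x := by
  unfold Rel; rw [stv_one_sq hf hF]; exact M.one_mem

include hF in
theorem Rel.symm {x y : V} (h : Rel hf M x y) : Rel hf M y x := by
  unfold Rel at h ⊢
  have := M.inv_mem h
  rwa [mul_inv_rev, stv_one_inv hf hF, stv_one_inv hf hF] at this

include hF in
theorem Rel.trans {x y z : V} (h : Rel hf M x y) (h' : Rel hf M y z) : Rel hf M x z := by
  unfold Rel at h h' ⊢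
  have := M.mul_mem h h'
  have e : stv hf x 1 * stv hf y 1 * (stv hf y 1 * stv hf z 1) = stv hf x 1 * stv hf z 1 := by
    rw [mul_assoc, ← mul_assoc (stv hf y 1), stv_one_sq hf hF, one_mul]
  rwa [e] at this

theorem Rel.conj {x y : V} (h : Rel hf M x y) {m : V ≃ₗ[F] V} (hm : m ∈ M) (hmf : Isom f m) :
    Rel hf M (m x) (m y) := by
  unfold Rel at h ⊢
  have := M.mul_mem (M.mul_mem hm h) (M.inv_mem hm)
  have e : m * (stv hf x 1 * stv hf y 1) * m⁻¹ = stv hf (m x) 1 * stv hf (m y) 1 := by
    rw [← conj_stv hf hmf, ← conj_stv hf hmf]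
    group
  rwa [e] at this

end two

end Cfsg.Agent.Helper7.ExtS
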