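import Cfsg.Agent.Helper7.ExtSG

set_option autoImplicit false
set_option linter.unusedSectionVars false
set_option linter.unusedVariables false

/-! Symplectic extension-field normalisers (helper7): over the field with two elements, the
commutator of a root element and a conjugate root element in the codimension-one configuration is
a product of two transvections. -/

namespace Cfsg.Agent.Helper7.ExtS

open Module Cfsg.Agent.Helper7.ExtF

variable {F : Type*} [Field F] {V : Type*} [AddCommGroup V] [Module F V]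
  {K : Type*} [Field K] [Algebra F K] [Module K V] [IsScalarTower F K V]

variable [FiniteDimensional F V] [FiniteDimensional F K]
variable {f : V → V → F} (hf : SForm K f) {ω₀ : K →ₗ[F] F} (hω : ω₀ ≠ 0)

/-- the nilpotent part of a symplectic transvection over `K` is skew for `f`. -/
theorem f_kA_left (a : V) (κ : K) (x y : V) :
    f (kA (F := F) (κ • chi hf hω a) a x) y = - f x (kA (F := F) (κ • chi hf hω a) a y) := by
  have e : ∀ z, kA (F := F) (κ • chi hf hω a) a z = (κ * B hf hω z a) • a := fun z => rfl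
  rw [e, e, hf.swap, ← hf.sa, ← hf.sa, ← omega_mul_B hf hω, ← omega_mul_B hf hω]
  congr 2
  ring

omit [FiniteDimensional F V] [FiniteDimensional F K] in
/-- conjugation by an isometry preserves skewness. -/
theorem f_conj_left {g : V ≃ₗ[F] V} (hg : Isom f g) {A : Module.End F V}
    (hA : ∀ x y, f (A x) y = - f x (A y)) (x y : V) :
    f (conjEnd g A x) y = - f x (conjEnd g A y) := by
  rw [conjEnd_apply, conjEnd_apply]
  have h1 : f (g (A (g⁻¹ x))) y = f (A (g⁻¹ x)) (g⁻¹ y) := by
    have := hg (A (g⁻¹ x)) (g⁻¹ y)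
    rw [apply_inv_self] at this
    exact this
  have h2 : f x (g (A (g⁻¹ y))) = f (g⁻¹ x) (A (g⁻¹ y)) := by
    have := hg (g⁻¹ x) (A (g⁻¹ y))
    rw [apply_inv_self] at this
    exact this
  rw [h1, h2, hA]

variable (M : Subgroup (V ≃ₗ[F] V)) (hT : ∀ (a : V) (κ : K), T hf hω a κ ∈ M)
  (hMf : ∀ g ∈ M, Isom f g)

section cfg

variable {a : V} {g : V ≃ₗ[F] V} {e w : V} {ω η : Module.Dual F V} (c : Cfg K a g e w ω η)

include hf c in
theorem omega_formula {x : V} (hx : x ∈ img g (kline F K a)) : f x e = ω x * f w e := by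
  have h1 := (c.sub_mem_W hx).1
  obtain ⟨k, hk⟩ := mem_kline.mp h1
  obtain ⟨k', hk'⟩ := mem_kline.mp c.he
  have h2 : f (x - ω x • w) e = 0 := by rw [← hk, ← hk', hf.smul_smul]
  rw [hf.sub_left, hf.smul_left, sub_eq_zero] at h2
  exact h2

include hf c hMf in
theorem eta_formula (hg : g ∈ M) {x : V} (hx : x ∈ kline F K a) : f x w = η x * f e w := by
  have h1 := (c.sub_mem_L hx).1
  have h2 : f (x - η x • e) w = 0 := img_isotropic hf M hMf (a := a) hg _ h1 _ c.hw
  rw [hf.sub_left, hf.smul_left, sub_eq_zero] at h2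
  exact h2

end cfg

include hT hMf in
/-- over the field with two elements: the elements of `W` outside `L` are all related. -/
theorem rel_of_cfg (hF : ∀ x : F, x = 0 ∨ x = 1) {a : V} {g : V ≃ₗ[F] V} {e w : V}
    {ω η : Module.Dual F V} (c : Cfg K a g e w ω η) (hg : g ∈ M)
    (hperp : ∀ w ∈ img g (kline F K a), B hf hω w a = 0 → w ∈ kline F K a) :
    ∀ x ∈ img g (kline F K a), x ∉ kline F K a → Rel hf M x w := by
  intro x hxW hxL
  obtain ⟨hBw, hfew, hBe⟩ := cfg_facts hf hω M hMf c hg hperp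
  have hWiso := img_isotropic hf M hMf (a := a) hg
  have h2F : (2 : F) = 0 := by rw [← one_add_one_eq_two]; exact one_add_one_of_two hF
  have hsub := c.sub_mem_W hxW
  have hωx : ω x = 1 := by
    rcases hF (ω x) with h0 | h1
    · exfalso; apply hxL
      have := hsub.1
      rwa [h0, zero_smul, sub_zero] at this
    · exact h1
  rw [hωx, one_smul] at hsub
  set δ := x - w with hδdef
  have hx : x = w + δ := by rw [hδdef]; abel
  by_cases hδ0 : δ = 0
  · rw [hx, hδ0, add_zero]; exact Rel.refl hf hF M w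
  obtain ⟨κ, hκ⟩ := mem_kline.mp hsub.1
  obtain ⟨y₀, hy₀, hgy₀⟩ := mem_img.mp c.hw
  obtain ⟨cw, hcw⟩ := mem_kline.mp hy₀
  set ψ := (κ / B hf hω w a) • chi hf hω a with hψ
  set χ := (cw / B hf hω (g⁻¹ e) a) • chi hf hω a with hχ
  have hψa : ψ a = 0 := smul_chi_self hf hω a _
  have hχa : χ a = 0 := smul_chi_self hf hω a _
  have hψw : ψ w • a = δ := by
    rw [hψ, LinearMap.smul_apply, smul_eq_mul]
    have : chi hf hω a w = B hf hω w a := rfl
    rw [this, div_mul_cancel₀ _ hBw, hκ]
  have hχe : g (χ (g⁻¹ e) • a) = w := by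
    rw [hχ, LinearMap.smul_apply, smul_eq_mul]
    have : chi hf hω a (g⁻¹ e) = B hf hω (g⁻¹ e) a := rfl
    rw [this, div_mul_cancel₀ _ hBe, hcw, hgy₀]
  have hBe' : conjEnd g (kA (F := F) χ a) e = w := by
    rw [conjEnd_apply, kA_apply, hχe]
  have hAw : kA (F := F) ψ a w = δ := hψw
  set y := g * ktv (F := F) χ a hχa * g⁻¹ with hy
  set t := ktv (F := F) ψ a hψa * y * (ktv (F := F) ψ a hψa)⁻¹ * y⁻¹ with ht
  have hyM : y ∈ M := M.mul_mem (M.mul_mem hg (hT a _)) (M.inv_mem hg)
  have htM : t ∈ M :=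
    M.mul_mem (M.mul_mem (M.mul_mem (hT a _) hyM) (M.inv_mem (hT a _))) (M.inv_mem hyM)
  have hδW : ψ w • a ∈ img g (kline F K a) := by rw [hψw]; exact hsub.2
  have hfew1 : f e w = 1 := eq_one_of_two hF hfew
  have hfwe1 : f w e = 1 := by rw [hf.swap, hfew1, neg_eq_of_two hF]
  have hωB : ∀ v, ω (conjEnd g (kA (F := F) χ a) v) = f v w := by
    intro v
    have h1 := omega_formula hf c (conj_kA_mem (F := F) χ a g v)
    rw [hfwe1, mul_one] at h1
    rw [← h1, f_conj_left (hMf g hg) (f_kA_left hf hω a _) v e, hBe', neg_eq_of_two hF]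
  have hηA : ∀ v, η (kA (F := F) ψ a v) = f v δ := by
    intro v
    have h1 := eta_formula hf M hMf c hg (kA_mem (F := F) ψ a v)
    rw [hfew1, mul_one] at h1
    rw [← h1, f_kA_left hf hω a _ v w, hAw, neg_eq_of_two hF]
  have hfwδ : f w δ = 0 := hWiso w c.hw δ hsub.2
  have key : t = stv hf x 1 * stv hf w 1 := by
    ext v
    rw [ht, hy, c.comm_cfg ψ χ hψa hχa hδW v, hBe', c.hωw, hωB, hηA, hψw, LinearEquiv.mul_apply,
      stv_apply, stv_apply, hx]
    simp only [hf.add_left, hf.add_right, hf.smul_left, hf.self, hfwδ, one_mul, mul_zero,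
      add_zero]
    have : v + (f v w • δ - f v δ • w - f v δ • (1 : F) • δ) =
        (v + f v w • w + (f v w + f v δ) • (w + δ)) -
          (2 : F) • (f v w • w + f v δ • w + f v δ • δ) := by module
    rw [this, h2F, zero_smul, sub_zero]
  unfold Rel
  rw [← key]
  exact htM

end Cfsg.Agent.Helper7.ExtS
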