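import Cfsg.Agent.Helper7.ExtSH

set_option autoImplicit false
set_option linter.unusedSectionVars false
set_option linter.unusedVariables false

/-! Symplectic extension-field normalisers (helper7): over the field with two elements, all
non-zero vectors are related. -/

namespace Cfsg.Agent.Helper7.ExtS

open Module Cfsg.Agent.Helper7.ExtF

variable {F : Type*} [Field F] {V : Type*} [AddCommGroup V] [Module F V]
  {K : Type*} [Field K] [Algebra F K] [Module K V] [IsScalarTower F K V]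

variable [FiniteDimensional F V] [FiniteDimensional F K]
variable {f : V → V → F} (hf : SForm K f) {ω₀ : K →ₗ[F] F} (hω : ω₀ ≠ 0)

/-- `K`-linear isometries of `f` preserve the form over `K`. -/
theorem B_map {n : V ≃ₗ[F] V} (hk : KLin K n) (hi : Isom f n) (x y : V) :
    B hf hω (n x) (n y) = B hf hω x y := by
  apply B_eq_of
  intro k
  rw [← hk k x, hi, omega_mul_B]

variable (M : Subgroup (V ≃ₗ[F] V)) (hT : ∀ (a : V) (κ : K), T hf hω a κ ∈ M)
  (hMf : ∀ g ∈ M, Isom f g) (hF : ∀ x : F, x = 0 ∨ x = 1)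

section cfg

variable {a : V} {g : V ≃ₗ[F] V} {e w : V} {ω η : Module.Dual F V} (c : Cfg K a g e w ω η)
  (hg : g ∈ M)
  (hperp : ∀ w ∈ img g (kline F K a), B hf hω w a = 0 → w ∈ kline F K a)

include hT hMf hF c hg hperp

/-- the elements of `L` outside `g⁻¹ L` are all related. -/
theorem rel_L {x y : V} (hx : x ∈ kline F K a) (hy : y ∈ kline F K a)
    (hx' : x ∉ img g⁻¹ (kline F K a)) (hy' : y ∉ img g⁻¹ (kline F K a)) : Rel hf M x y := by
  have key : ∀ z ∈ kline F K a, z ∉ img g⁻¹ (kline F K a) → Rel hf M (g z) w := by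
    intro z hz hz'
    apply rel_of_cfg hf hω M hT hMf hF c hg hperp (g z) (apply_mem_img hz)
    intro h
    apply hz'
    have := apply_mem_img (g := g⁻¹) h
    rwa [inv_apply_self] at this
  have h1 := (key x hx hx').trans hf hF M ((key y hy hy').symm hf hF M)
  have h2 := h1.conj hf M (M.inv_mem hg) (hMf g hg).inv
  rwa [inv_apply_self, inv_apply_self] at h2

/-- the same after multiplication by a non-zero scalar of `K`. -/
theorem rel_L_smul {k : K} (hk : k ≠ 0) {x y : V} (hx : x ∈ kline F K a) (hy : y ∈ kline F K a)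
    (hx' : k⁻¹ • x ∉ img g⁻¹ (kline F K a)) (hy' : k⁻¹ • y ∉ img g⁻¹ (kline F K a)) :
    Rel hf M x y := by
  have hka : k • a ≠ 0 := smul_ne_zero hk c.ha
  obtain ⟨n, hnM, hnK, hnI, hna⟩ := exists_map hf hω M hT c.ha hka
  have hmem : ∀ z ∈ kline F K a, k⁻¹ • z ∈ kline F K a := by
    intro z hz
    obtain ⟨ξ, rfl⟩ := mem_kline.mp hz
    rw [smul_smul]; exact smul_mem_kline _ _
  have hn : ∀ z ∈ kline F K a, n (k⁻¹ • z) = z := by
    intro z hz
    obtain ⟨ξ, rfl⟩ := mem_kline.mp hz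
    rw [hnK, hnK, hna, smul_smul, smul_smul]
    congr 1
    field_simp
  have h1 := rel_L hf hω M hT hMf hF c hg hperp (hmem x hx) (hmem y hy) hx' hy'
  have h2 := h1.conj hf M hnM hnI
  rwa [hn x hx, hn y hy] at h2

/-- all non-zero elements of `L` are related to a fixed element of `L` outside `g⁻¹ L`. -/
theorem rel_L_all {e' : V} (he' : e' ∈ kline F K a) (he'' : e' ∉ img g⁻¹ (kline F K a))
    {x : V} (hx : x ∈ kline F K a) (hx0 : x ≠ 0) : Rel hf M x e' := by
  set L' := img g⁻¹ (kline F K a) with hL'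
  obtain ⟨ξ, hξ⟩ := mem_kline.mp hx
  obtain ⟨ε, hε⟩ := mem_kline.mp he'
  have hξ0 : ξ ≠ 0 := by
    rintro rfl; rw [zero_smul] at hξ; exact hx0 hξ.symm
  have hε0 : ε ≠ 0 := by
    rintro rfl; rw [zero_smul] at hε; exact he'' (by rw [← hε]; exact L'.zero_mem)
  set k₁ := ξ * ε⁻¹ with hk₁
  have hk₁0 : k₁ ≠ 0 := mul_ne_zero hξ0 (inv_ne_zero hε0)
  have hk₁x : k₁⁻¹ • x = e' := by
    rw [← hξ, ← hε, smul_smul]
    congr 1
    rw [hk₁]; field_simp
  by_cases hxL' : x ∈ L'
  · by_cases hke : k₁⁻¹ • e' ∈ L'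
    · -- third case
      have hz : x + e' ∈ kline F K a := Submodule.add_mem _ hx he'
      have hz' : x + e' ∉ L' := by
        intro h
        apply he''
        have : e' = (x + e') - x := by abel
        rw [this]; exact L'.sub_mem h hxL'
      have hkz : k₁⁻¹ • (x + e') ∉ L' := by
        intro h
        apply he''
        rw [smul_add, hk₁x] at h
        have : e' = (e' + k₁⁻¹ • e') - k₁⁻¹ • e' := by abel
        rw [this]; exact L'.sub_mem h hke
      have h1 : Rel hf M x (x + e') :=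
        rel_L_smul hf hω M hT hMf hF c hg hperp hk₁0 hx hz (by rw [hk₁x]; exact he'') hkz
      have h2 : Rel hf M (x + e') e' := rel_L hf hω M hT hMf hF c hg hperp hz he' hz' he''
      exact h1.trans hf hF M h2
    · exact rel_L_smul hf hω M hT hMf hF c hg hperp hk₁0 hx he' (by rw [hk₁x]; exact he'') hke
  · exact rel_L hf hω M hT hMf hF c hg hperp hx he' hxL' he''

/-- any two non-zero elements of `L` are related. -/
theorem rel_L_pair {x y : V} (hx : x ∈ kline F K a) (hx0 : x ≠ 0) (hy : y ∈ kline F K a)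
    (hy0 : y ≠ 0) : Rel hf M x y := by
  obtain ⟨y₀, hy₀, hgy₀⟩ := mem_img.mp c.hw
  have he' : g⁻¹ w ∈ kline F K a := by rw [← hgy₀, inv_apply_self]; exact hy₀
  have he'' : g⁻¹ w ∉ img g⁻¹ (kline F K a) := by
    intro h
    obtain ⟨l, hl, hgl⟩ := mem_img.mp h
    have : l = w := by
      have := congrArg g hgl
      rwa [apply_inv_self, apply_inv_self] at this
    exact c.hwL (this ▸ hl)
  exact (rel_L_all hf hω M hT hMf hF c hg hperp he' he'' hx hx0).trans hf hF M
    ((rel_L_all hf hω M hT hMf hF c hg hperp he' he'' hy hy0).symm hf hF M)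

/-- a non-zero vector is related to its non-zero `K`-multiples. -/
theorem rel_smul {x : V} (hx : x ≠ 0) {k : K} (hk : k ≠ 0) : Rel hf M (k • x) x := by
  obtain ⟨n, hnM, hnK, hnI, hna⟩ := exists_map hf hω M hT c.ha hx
  have h1 : Rel hf M (k • a) a :=
    rel_L_pair hf hω M hT hMf hF c hg hperp (smul_mem_kline k a) (smul_ne_zero hk c.ha)
      (self_mem_kline a) c.ha
  have h2 := h1.conj hf M hnM hnI
  rwa [hnK, hna] at h2

/-- any two non-zero elements of `W` are related. -/
theorem rel_W_pair {x y : V} (hx : x ∈ img g (kline F K a)) (hx0 : x ≠ 0)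
    (hy : y ∈ img g (kline F K a)) (hy0 : y ≠ 0) : Rel hf M x y := by
  obtain ⟨x', hx', rfl⟩ := mem_img.mp hx
  obtain ⟨y', hy', rfl⟩ := mem_img.mp hy
  have hx'0 : x' ≠ 0 := by rintro rfl; exact hx0 (map_zero _)
  have hy'0 : y' ≠ 0 := by rintro rfl; exact hy0 (map_zero _)
  exact (rel_L_pair hf hω M hT hMf hF c hg hperp hx' hx'0 hy' hy'0).conj hf M hg (hMf g hg)

end cfg

section spread

include hT hMf hF

/-- one step: moving the second vector by a transvection fixing the first. -/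
theorem rel_step {a₀ w y : V} (hrel : Rel hf M a₀ w) (hB : B hf hω w a₀ = B hf hω y a₀)
    (hne : B hf hω w y ≠ 0) : Rel hf M a₀ y := by
  set n := T hf hω (w - y) (B hf hω w y)⁻¹ with hn
  have hnM : n ∈ M := hT _ _
  have h1 : n w = y := T_map hf hω hne
  have h2 : n a₀ = a₀ := by
    apply T_fix
    rw [B_sub_right, B_swap hf hω a₀ w, B_swap hf hω a₀ y, hB, sub_self]
  have h3 := hrel.conj hf M hnM (isom_T hf hω _ _)
  rwa [h1, h2] at h3

/-- all vectors with the same product with `a₀` as `w` are related to `a₀`. -/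
theorem rel_of_B_eq {a₀ w : V} (hrel : Rel hf M a₀ w) (hβ : B hf hω w a₀ ≠ 0) {y : V}
    (hy : B hf hω y a₀ = B hf hω w a₀) : Rel hf M a₀ y := by
  by_cases hwy : B hf hω w y = 0
  · have h1 : Rel hf M a₀ (w + a₀) := by
      apply rel_step hf hω M hT hMf hF hrel
      · rw [B_add_left, B_self, add_zero]
      · rw [B_add_right, B_self, zero_add]; exact hβ
    apply rel_step hf hω M hT hMf hF h1
    · rw [B_add_left, B_self, add_zero, hy]
    · rw [B_add_left, hwy, zero_add, B_swap, hy]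
      exact neg_ne_zero.mpr hβ
  · exact rel_step hf hω M hT hMf hF hrel hy.symm hwy

end spread

section final

variable {a : V} {g : V ≃ₗ[F] V} {e w : V} {ω η : Module.Dual F V} (c : Cfg K a g e w ω η)
  (hg : g ∈ M)
  (hperp : ∀ w ∈ img g (kline F K a), B hf hω w a = 0 → w ∈ kline F K a)

include hT hMf hF c hg hperp

/-- all pairs of non-zero vectors are related. -/
theorem rel_all (hr2 : 2 ≤ finrank F K)
    (hfin : finrank F ↥(kline F K a ⊓ img g (kline F K a)) + 1 = finrank F K)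
    {x y : V} (hx : x ≠ 0) (hy : y ≠ 0) : Rel hf M x y := by
  obtain ⟨hBw, hfew, hBe⟩ := cfg_facts hf hω M hMf c hg hperp
  obtain ⟨δ, hδ, hδ0⟩ := exists_ne_zero_of_finrank
    (D := kline F K a ⊓ img g (kline F K a)) (by omega)
  obtain ⟨κ, hκ⟩ := mem_kline.mp hδ.1
  have hκ0 : κ ≠ 0 := by rintro rfl; rw [zero_smul] at hκ; exact hδ0 hκ.symm
  have hw0 : w ≠ 0 := by
    rintro rfl; exact c.hwL (Submodule.zero_mem _)
  have hβ : B hf hω w δ ≠ 0 := by
    rw [← hκ, B_smul_right]; exact mul_ne_zero hκ0 hBw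
  have h0 : Rel hf M δ w := rel_W_pair hf hω M hT hMf hF c hg hperp hδ.2 hδ0 c.hw hw0
  -- vectors not perpendicular to `δ`
  have h1 : ∀ y, B hf hω y δ ≠ 0 → Rel hf M δ y := by
    intro y hyδ
    have hy0 : y ≠ 0 := by rintro rfl; exact hyδ (B_zero_left hf hω δ)
    set k := B hf hω w δ / B hf hω y δ with hk
    have hk0 : k ≠ 0 := div_ne_zero hβ hyδ
    have h2 : Rel hf M δ (k • y) := by
      apply rel_of_B_eq hf hω M hT hMf hF h0 hβ
      rw [B_smul_left, hk, div_mul_cancel₀ _ hyδ]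
    exact h2.trans hf hF M (rel_smul hf hω M hT hMf hF c hg hperp hy0 hk0)
  -- any centre
  have h2 : ∀ x y, x ≠ 0 → B hf hω y x ≠ 0 → Rel hf M x y := by
    intro x y hx hyx
    obtain ⟨n, hnM, hnK, hnI, hnδ⟩ := exists_map hf hω M hT hδ0 hx
    have h3 : B hf hω (n⁻¹ y) δ ≠ 0 := by
      rw [← B_map hf hω hnK hnI, apply_inv_self, hnδ]; exact hyx
    have h4 := (h1 _ h3).conj hf M hnM hnI
    rwa [hnδ, apply_inv_self] at h4
  obtain ⟨z, hxz, hyz⟩ := exists_nonperp_both hf hω hx hy
  have hzx : B hf hω z x ≠ 0 := by rw [B_swap]; exact neg_ne_zero.mpr hxz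
  have hzy : B hf hω z y ≠ 0 := by rw [B_swap]; exact neg_ne_zero.mpr hyz
  exact (h2 x z hx hzx).trans hf hF M ((h2 y z hy hzy).symm hf hF M)

end final

end Cfsg.Agent.Helper7.ExtS
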