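import Cfsg.Agent.Helper7.ExtSI

set_option autoImplicit false
set_option linter.unusedSectionVars false
set_option linter.unusedVariables false
set_option linter.unusedSimpArgs false

/-! Symplectic extension-field normalisers (helper7): over the field with two elements, the product
of the seven transvections centred at the non-zero vectors of a totally isotropic space of
dimension three is the identity; hence a transvection in the overgroup. -/

namespace Cfsg.Agent.Helper7.ExtS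

open Module Cfsg.Agent.Helper7.ExtF

variable {F : Type*} [Field F] {V : Type*} [AddCommGroup V] [Module F V]
  {K : Type*} [Field K] [Algebra F K] [Module K V] [IsScalarTower F K V]

variable {f : V → V → F} (hf : SForm K f)

theorem seven (h2F : (2 : F) = 0) {u₁ u₂ u₃ : V} (h12 : f u₁ u₂ = 0) (h13 : f u₁ u₃ = 0)
    (h23 : f u₂ u₃ = 0) :
    stv hf u₁ 1 * stv hf u₂ 1 * (stv hf u₃ 1 * stv hf (u₁ + u₂) 1) *
      (stv hf (u₁ + u₃) 1 * stv hf (u₂ + u₃) 1) * stv hf (u₁ + u₂ + u₃) 1 = 1 := by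
  have h21 : f u₂ u₁ = 0 := by rw [hf.swap, h12, neg_zero]
  have h31 : f u₃ u₁ = 0 := by rw [hf.swap, h13, neg_zero]
  have h32 : f u₃ u₂ = 0 := by rw [hf.swap, h23, neg_zero]
  ext v
  simp only [LinearEquiv.mul_apply, stv_apply, hf.add_left, hf.add_right, hf.smul_left, hf.self,
    h12, h13, h23, h21, h31, h32, one_mul, mul_zero, add_zero, zero_add]
  show _ = v
  have : v + (f v u₁ + f v u₂ + f v u₃) • (u₁ + u₂ + u₃) + (f v u₂ + f v u₃) • (u₂ + u₃) +
      (f v u₁ + f v u₃) • (u₁ + u₃) + (f v u₁ + f v u₂) • (u₁ + u₂) + f v u₃ • u₃ + f v u₂ • u₂ +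
      f v u₁ • u₁ = v + (2 : F) • ((2 * f v u₁ + f v u₂ + f v u₃) • u₁ +
        (f v u₁ + 2 * f v u₂ + f v u₃) • u₂ + (f v u₁ + f v u₂ + 2 * f v u₃) • u₃) := by module
  rw [this, h2F, zero_smul, add_zero]

variable [FiniteDimensional F V] [FiniteDimensional F K]
variable {ω₀ : K →ₗ[F] F} (hω : ω₀ ≠ 0)

/-- the space perpendicular to a `K`-line is big. -/
theorem finrank_perp_ge (a : V) :
    finrank F V ≤ finrank F (LinearMap.ker ((chi hf hω a).restrictScalars F)) + finrank F K := by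
  have h1 := LinearMap.finrank_range_add_finrank_ker ((chi hf hω a).restrictScalars F)
  have h2 : finrank F (LinearMap.range ((chi hf hω a).restrictScalars F)) ≤ finrank F K :=
    Submodule.finrank_le _
  omega

variable (M : Subgroup (V ≃ₗ[F] V)) (hT : ∀ (a : V) (κ : K), T hf hω a κ ∈ M)
  (hMf : ∀ g ∈ M, Isom f g) (hF : ∀ x : F, x = 0 ∨ x = 1)

include hT hMf hF in
/-- over the field with two elements, a good pair gives a transvection. -/
theorem exists_stv_two (hr2 : 2 ≤ finrank F K) (hdim : finrank F K + 3 ≤ finrank F V)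
    {a : V} {g : V ≃ₗ[F] V} {e w : V} {ω η : Module.Dual F V} (c : Cfg K a g e w ω η)
    (hg : g ∈ M)
    (hperp : ∀ w ∈ img g (kline F K a), B hf hω w a = 0 → w ∈ kline F K a)
    (hfin : finrank F ↥(kline F K a ⊓ img g (kline F K a)) + 1 = finrank F K) :
    ∃ v : V, v ≠ 0 ∧ stv hf v 1 ∈ M := by
  have h2F : (2 : F) = 0 := by rw [← one_add_one_eq_two]; exact one_add_one_of_two hF
  have hLr : finrank F ↥(kline F K a) = finrank F K := finrank_kline c.ha
  obtain ⟨u₁, hu₁, u₂, hu₂, hu₁0, hu₂s⟩ := exists_pair_of_finrank (D := kline F K a) (by omega)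
  set P := LinearMap.ker ((chi hf hω a).restrictScalars F) with hP
  have hPr : 3 ≤ finrank F ↥P := by
    have : finrank F V ≤ finrank F ↥P + finrank F K := finrank_perp_ge hf hω a
    omega
  obtain ⟨u₃, hu₃P, hu₃s⟩ : ∃ u₃ ∈ P, u₃ ∉ Submodule.span F {u₁, u₂} := by
    by_contra hcon
    push Not at hcon
    have hle : P ≤ Submodule.span F {u₁, u₂} := fun x hx => hcon x hx
    have h1 := Submodule.finrank_mono hle
    have h2 : finrank F ↥(Submodule.span F {u₁, u₂}) ≤ 2 := by
      classical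
      have := finrank_span_le_card (R := F) ({u₁, u₂} : Set V)
      refine this.trans ?_
      rw [Set.toFinset_card]
      have : Fintype.card ↥({u₁, u₂} : Set V) ≤ 2 := by
        rw [← Set.toFinset_card]
        simp only [Set.toFinset_insert, Set.toFinset_singleton]
        exact Finset.card_le_two
      exact this
    omega
  have hBu₃ : B hf hω u₃ a = 0 := by
    have := LinearMap.mem_ker.mp hu₃P
    exact this
  obtain ⟨k₁, rfl⟩ := mem_kline.mp hu₁
  obtain ⟨k₂, rfl⟩ := mem_kline.mp hu₂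
  have h12 : f (k₁ • a) (k₂ • a) = 0 := hf.smul_smul _ _ _
  have h31 : f u₃ (k₁ • a) = 0 := by
    rw [← hf.sa, ← omega_mul_B hf hω, hBu₃, mul_zero, map_zero]
  have h32 : f u₃ (k₂ • a) = 0 := by
    rw [← hf.sa, ← omega_mul_B hf hω, hBu₃, mul_zero, map_zero]
  have h13 : f (k₁ • a) u₃ = 0 := by rw [hf.swap, h31, neg_zero]
  have h23 : f (k₂ • a) u₃ = 0 := by rw [hf.swap, h32, neg_zero]
  -- non-vanishing
  have hS1 : k₁ • a ∈ Submodule.span F {k₁ • a, k₂ • a} := Submodule.subset_span (by simp)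
  have hS2 : k₂ • a ∈ Submodule.span F {k₁ • a, k₂ • a} := Submodule.subset_span (by simp)
  have hu₂0 : k₂ • a ≠ 0 := by
    intro h0; apply hu₂s; rw [h0]; exact Submodule.zero_mem _
  have hu₁₂ : k₁ • a + k₂ • a ≠ 0 := by
    intro h0
    apply hu₂s
    have : k₂ • a = -(k₁ • a) := (neg_eq_of_add_eq_zero_right h0).symm
    rw [this]
    exact Submodule.neg_mem _ (Submodule.mem_span_singleton_self _)
  have hu₃0 : u₃ ≠ 0 := by
    intro h0; apply hu₃s; rw [h0]; exact Submodule.zero_mem _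
  have hu₁₃ : k₁ • a + u₃ ≠ 0 := by
    intro h0
    apply hu₃s
    have : u₃ = -(k₁ • a) := (neg_eq_of_add_eq_zero_right h0).symm
    rw [this]; exact Submodule.neg_mem _ hS1
  have hu₂₃ : k₂ • a + u₃ ≠ 0 := by
    intro h0
    apply hu₃s
    have : u₃ = -(k₂ • a) := (neg_eq_of_add_eq_zero_right h0).symm
    rw [this]; exact Submodule.neg_mem _ hS2
  have hu₁₂₃ : k₁ • a + k₂ • a + u₃ ≠ 0 := by
    intro h0
    apply hu₃s
    have : u₃ = -(k₁ • a + k₂ • a) := (neg_eq_of_add_eq_zero_right h0).symm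
    rw [this]; exact Submodule.neg_mem _ (Submodule.add_mem _ hS1 hS2)
  have hrel : ∀ {x y : V}, x ≠ 0 → y ≠ 0 → Rel hf M x y := fun hx hy =>
    rel_all hf hω M hT hMf hF c hg hperp hr2 hfin hx hy
  have r1 : stv hf (k₁ • a) 1 * stv hf (k₂ • a) 1 ∈ M := hrel hu₁0 hu₂0
  have r2 : stv hf u₃ 1 * stv hf (k₁ • a + k₂ • a) 1 ∈ M := hrel hu₃0 hu₁₂
  have r3 : stv hf (k₁ • a + u₃) 1 * stv hf (k₂ • a + u₃) 1 ∈ M := hrel hu₁₃ hu₂₃
  refine ⟨k₁ • a + k₂ • a + u₃, hu₁₂₃, ?_⟩
  have h7 := seven hf h2F h12 h13 h23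
  have := eq_inv_of_mul_eq_one_right h7
  rw [this]
  exact M.inv_mem (M.mul_mem (M.mul_mem r1 r2) r3)

end Cfsg.Agent.Helper7.ExtS
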