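import Cfsg.Agent.Helper7.ExtSJ

set_option autoImplicit false
set_option linter.unusedSectionVars false
set_option linter.unusedVariables false
set_option linter.unusedSimpArgs false

/-! Symplectic extension-field normalisers (helper7): an overgroup of the symplectic group over the
big field, inside the symplectic group over the small field and containing a non-semilinear
element, contains all the symplectic transvections over the small field. -/

namespace Cfsg.Agent.Helper7.ExtS

open Module Cfsg.Agent.Helper7.ExtF Polynomial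

/-- in a finite field every element is a sum of two squares. -/
theorem exists_sq_add_sq {F : Type*} [Field F] [Finite F] (x : F) :
    ∃ a b : F, a * a + b * b = x := by
  classical
  haveI := Fintype.ofFinite F
  by_cases hodd : Fintype.card F % 2 = 1
  · let p : F[X] := X ^ 2
    let q : F[X] := X ^ 2 - C x
    obtain ⟨a, b, hab⟩ : ∃ a b, p.eval a + q.eval b = 0 :=
      FiniteField.exists_root_sum_quadratic (degree_X_pow 2)
        (degree_X_pow_sub_C (by decide) _) hodd
    refine ⟨a, b, ?_⟩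
    rw [← sub_eq_zero]
    simp only [p, q, eval_C, eval_X, eval_pow, eval_sub] at hab
    rw [← hab]; ring
  · have h0 : Fintype.card F % 2 = 0 := by omega
    have hch : ringChar F = 2 := FiniteField.even_card_iff_char_two.mpr h0
    obtain ⟨a, ha⟩ := FiniteField.isSquare_of_char_two hch x
    exact ⟨a, 0, by rw [ha]; ring⟩

variable {F : Type*} [Field F] {V : Type*} [AddCommGroup V] [Module F V]
  {K : Type*} [Field K] [Algebra F K] [Module K V] [IsScalarTower F K V]

variable {f : V → V → F} (hf : SForm K f)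

variable (M : Subgroup (V ≃ₗ[F] V)) (hMf : ∀ g ∈ M, Isom f g)

include hMf in
/-- a transvection in a group of isometries is a symplectic transvection. -/
theorem stv_of_hasTv (h : HasTv M) : ∃ v : V, v ≠ 0 ∧ ∃ c : F, c ≠ 0 ∧ stv hf v c ∈ M := by
  obtain ⟨φ, v₀, hφv, hφ0, hv₀, htM⟩ := h
  have hiso := hMf _ htM
  have key : ∀ x y, φ y * f x v₀ = φ x * f y v₀ := by
    intro x y
    have := hiso x y
    rw [ftv_apply, ftv_apply, hf.add_left, hf.add_right, hf.add_right, hf.smul_left,
      hf.smul_left, hf.smul_right, hf.smul_right, hf.self, hf.swap v₀ y] at this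
    linear_combination this
  obtain ⟨y₀, hy₀⟩ : ∃ y₀, φ y₀ ≠ 0 := by
    by_contra hcon
    push Not at hcon
    exact hφ0 (LinearMap.ext hcon)
  set c' := f y₀ v₀ / φ y₀ with hc'
  have hfx : ∀ x, f x v₀ = φ x * c' := by
    intro x
    have := key x y₀
    rw [hc']; field_simp; linear_combination this
  have hc'0 : c' ≠ 0 := by
    intro h0
    obtain ⟨y, hy⟩ := hf.nondeg v₀ hv₀
    apply hy
    rw [hf.swap, hfx, h0, mul_zero, neg_zero]
  refine ⟨v₀, hv₀, c'⁻¹, inv_ne_zero hc'0, ?_⟩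
  have : stv hf v₀ c'⁻¹ = ftv φ v₀ hφv := by
    ext x
    rw [stv_apply, ftv_apply, hfx, mul_comm (φ x), ← mul_assoc, inv_mul_cancel₀ hc'0, one_mul]
  rw [this]; exact htM

variable [FiniteDimensional F V] [FiniteDimensional F K]
variable {ω₀ : K →ₗ[F] F} (hω : ω₀ ≠ 0)
variable (hT : ∀ (a : V) (κ : K), T hf hω a κ ∈ M)

include hT in
/-- one symplectic transvection gives all of them. -/
theorem all_stv_of_one [Finite F] {v₁ : V} (hv₁ : v₁ ≠ 0) {c₁ : F} (hc₁ : c₁ ≠ 0)
    (h1 : stv hf v₁ c₁ ∈ M) : ∀ (v : V) (c : F), stv hf v c ∈ M := by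
  have hall : ∀ v : V, stv hf v c₁ ∈ M := by
    intro v
    by_cases hv : v = 0
    · rw [hv, stv_zero]; exact M.one_mem
    obtain ⟨n, hnM, -, hnI, hnv⟩ := exists_map hf hω M hT hv₁ hv
    have := M.mul_mem (M.mul_mem hnM h1) (M.inv_mem hnM)
    rwa [conj_stv hf hnI, hnv] at this
  intro v c
  obtain ⟨s, t, hst⟩ := exists_sq_add_sq (c / c₁)
  have e : c = s * s * c₁ + t * t * c₁ := by
    have : c = (c / c₁) * c₁ := by field_simp
    rw [this, ← hst]; ring
  rw [e, ← stv_add, ← stv_smul, ← stv_smul]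
  exact M.mul_mem (hall _) (hall _)

include hMf in
/-- the main abstract statement. -/
theorem all_stv [Finite F] (hrp : (finrank F K).Prime) (h2 : 2 ≤ finrank K V)
    (hdim : finrank F K + 3 ≤ finrank F V)
    (hM : ∀ s : V ≃ₗ[F] V, KLin K s → Isom f s → s ∈ M)
    (hne : ∃ g ∈ M, ¬ IsSemi K g) :
    ∀ (v : V) (c : F), stv hf v c ∈ M := by
  have hnot : (1 : K) ∉ (⊥ : Submodule F K) := by simp
  obtain ⟨ω₁, -, hω₁1⟩ := exists_kfunc (K := F) (V := K) (⊥ : Submodule F K) hnot
  have hω₁ : ω₁ ≠ 0 := by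
    intro h0; rw [h0, LinearMap.zero_apply] at hω₁1; exact zero_ne_one hω₁1
  have hT : ∀ (a : V) (κ : K), T hf hω₁ a κ ∈ M := fun a κ =>
    hM _ (klin_T hf hω₁ a κ) (isom_T hf hω₁ a κ)
  have hr2 := hrp.two_le
  obtain ⟨a, ha, g, hg, hgL, hfin, hperp⟩ := exists_good_pair hf hω₁ M hT hMf hrp h2 hne
  obtain ⟨v₁, hv₁, c₁, hc₁, h1⟩ : ∃ v : V, v ≠ 0 ∧ ∃ c : F, c ≠ 0 ∧ stv hf v c ∈ M := by
    by_cases hF : ∀ x : F, x = 0 ∨ x = 1
    · obtain ⟨e, w, ω, η, c⟩ := exists_cfg ha hgL hfin
      obtain ⟨v, hv, hvM⟩ := exists_stv_two hf hω₁ M hT hMf hF hr2 hdim c hg hperp hfin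
      exact ⟨v, hv, 1, one_ne_zero, hvM⟩
    · push Not at hF
      obtain ⟨l, hl0, hl1⟩ := hF
      exact stv_of_hasTv hf M hMf
        (hasTv_of_pair_scalar hf hω₁ M hT hMf hr2 ha hg hgL hfin hperp hl0 hl1)
  exact all_stv_of_one hf M hω₁ hT hv₁ hc₁ h1

end Cfsg.Agent.Helper7.ExtS
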