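import Cfsg.Agent.Helper7.ExtSK
import Cfsg.Agent.Helper7.FExB

set_option autoImplicit false
set_option linter.unusedSectionVars false
set_option linter.unusedSimpArgs false
set_option linter.unusedVariables false

/-! Symplectic extension-field normalisers (helper7): the transfer to matrices over an arbitrary
finite index type. -/

namespace Cfsg.Agent.Helper7.ExtS

open Module Matrix Cfsg.Agent.Helper7.ExtF

variable {F : Type*} [Field F] {ι : Type} [Fintype ι] [DecidableEq ι]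

/-- the general linear group as the group of automorphisms of the natural module. -/
noncomputable def thetaI : GL ι F ≃* ((ι → F) ≃ₗ[F] (ι → F)) :=
  Matrix.GeneralLinearGroup.toLin.trans
    (LinearMap.GeneralLinearGroup.generalLinearEquiv F (ι → F))

theorem thetaI_apply (g : GL ι F) (v : ι → F) :
    thetaI g v = (g : Matrix ι ι F) *ᵥ v := rfl

/-- semilinearity in terms of matrices. -/
def MSemiI (K : Subalgebra F (Matrix ι ι F)) (g : GL ι F) : Prop :=
  ∀ c ∈ K, ∃ c' ∈ K, (g : Matrix ι ι F) * c = c' * (g : Matrix ι ι F)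

theorem mem_normalizer_of_msemiI [Finite F] (K : Subalgebra F (Matrix ι ι F))
    (g : GL ι F) (h : MSemiI K g) : g ∈ Cfsg.Geo.subalgebraNormalizer K := by
  have hfwd : ∀ k ∈ K, (g : Matrix ι ι F) * k * ((g⁻¹ : GL ι F) : Matrix ι ι F) ∈ K := by
    intro k hk
    obtain ⟨c', hc', hcc'⟩ := h k hk
    rw [hcc', mul_assoc, FEx.val_mul_inv, mul_one]
    exact hc'
  haveI : Finite (Matrix ι ι F) := inferInstanceAs (Finite (ι → ι → F))
  haveI : Finite ↥K := Subtype.finite
  let f : ↥K → ↥K := fun k => ⟨_, hfwd k.1 k.2⟩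
  have e : ∀ x : Matrix ι ι F,
      ((g⁻¹ : GL ι F) : Matrix ι ι F) *
        ((g : Matrix ι ι F) * x * ((g⁻¹ : GL ι F) : Matrix ι ι F)) * (g : Matrix ι ι F) = x := by
    intro x
    calc _ = (((g⁻¹ : GL ι F) : Matrix ι ι F) * (g : Matrix ι ι F)) * x *
          (((g⁻¹ : GL ι F) : Matrix ι ι F) * (g : Matrix ι ι F)) := by simp only [mul_assoc]
      _ = x := by rw [FEx.val_inv_mul, one_mul, mul_one]
  have hfinj : Function.Injective f := by
    intro k k' hkk'
    have h1 : (g : Matrix ι ι F) * k.1 * ((g⁻¹ : GL ι F) : Matrix ι ι F) =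
        (g : Matrix ι ι F) * k'.1 * ((g⁻¹ : GL ι F) : Matrix ι ι F) := congrArg Subtype.val hkk'
    have h2 : ((g⁻¹ : GL ι F) : Matrix ι ι F) *
        ((g : Matrix ι ι F) * k.1 * ((g⁻¹ : GL ι F) : Matrix ι ι F)) * (g : Matrix ι ι F) =
        ((g⁻¹ : GL ι F) : Matrix ι ι F) *
        ((g : Matrix ι ι F) * k'.1 * ((g⁻¹ : GL ι F) : Matrix ι ι F)) * (g : Matrix ι ι F) := by
      rw [h1]
    rw [e, e] at h2
    exact Subtype.ext h2
  have hfsurj : Function.Surjective f := Finite.injective_iff_surjective.mp hfinj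
  intro k
  refine ⟨hfwd k, fun hk => ?_⟩
  obtain ⟨c, hc⟩ := hfsurj ⟨_, hk⟩
  have h1 : (g : Matrix ι ι F) * c.1 * ((g⁻¹ : GL ι F) : Matrix ι ι F) =
      (g : Matrix ι ι F) * k * ((g⁻¹ : GL ι F) : Matrix ι ι F) := congrArg Subtype.val hc
  have h2 : ((g⁻¹ : GL ι F) : Matrix ι ι F) *
      ((g : Matrix ι ι F) * c.1 * ((g⁻¹ : GL ι F) : Matrix ι ι F)) * (g : Matrix ι ι F) =
      ((g⁻¹ : GL ι F) : Matrix ι ι F) *
      ((g : Matrix ι ι F) * k * ((g⁻¹ : GL ι F) : Matrix ι ι F)) * (g : Matrix ι ι F) := by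
    rw [h1]
  rw [e, e] at h2
  rw [← h2]; exact c.2

theorem msemiI_of_isSemi [Nonempty ι] {r : ℕ} (K : Subalgebra F (Matrix ι ι F))
    (hK : Cfsg.Geo.IsFieldSubalgebra r K) (g : GL ι F)
    (h : letI := FEx.fieldOfSub K hK
      letI := FEx.modOfSub K
      IsSemi ↥K (thetaI g)) : MSemiI K g := by
  letI := FEx.fieldOfSub K hK
  letI := FEx.modOfSub K
  intro c hc
  obtain ⟨c', hc'⟩ := h ⟨c, hc⟩
  refine ⟨c'.1, c'.2, ?_⟩
  apply Matrix.toLin'.injective
  refine LinearMap.ext fun v => ?_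
  have := hc' v
  rw [Matrix.toLin'_apply, Matrix.toLin'_apply, ← Matrix.mulVec_mulVec, ← Matrix.mulVec_mulVec]
  exact this

end Cfsg.Agent.Helper7.ExtS
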