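import Cfsg.Agent.Helper7.ExtSL
import Cfsg.Agent.Helper7.SympGeneration
import Cfsg.Agent.S5645

set_option autoImplicit false
set_option linter.unusedSectionVars false
set_option linter.unusedSimpArgs false
set_option linter.unusedVariables false

/-! Symplectic extension-field normalisers (helper7): the normaliser in the symplectic group of a
self-adjoint extension field of prime degree is a maximal subgroup. -/

namespace Cfsg.Agent.Helper7.ExtS

open Module Matrix Cfsg Cfsg.Agent.Helper7.ExtF Cfsg.Agent.Helper7.Symp Cfsg.Agent.S5645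

variable {F : Type*} [Field F] {m : ℕ}

theorem towerOfSmul {V : Type*} {K : Type*} [AddCommGroup V] [Module F V] [Field K]
    [Algebra F K] [Module K V] (key : ∀ (a : F) (k : K) (v : V), (a • k) • v = a • (k • v)) :
    IsScalarTower F K V := ⟨key⟩

theorem toGL_val (A : Matrix.symplecticGroup (Fin m) F) :
    ((toGL m F A : GL (Fin m ⊕ Fin m) F) : Matrix (Fin m ⊕ Fin m) (Fin m ⊕ Fin m) F) =
      (A : Matrix (Fin m ⊕ Fin m) (Fin m ⊕ Fin m) F) := rfl

theorem mem_spGL_iff (g : GL (Fin m ⊕ Fin m) F) :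
    g ∈ Cfsg.spGL m F ↔ ∀ u v, sympForm m F ((g : Matrix (Fin m ⊕ Fin m) (Fin m ⊕ Fin m) F) *ᵥ u)
      ((g : Matrix (Fin m ⊕ Fin m) (Fin m ⊕ Fin m) F) *ᵥ v) = sympForm m F u v := Iff.rfl

/-- a symplectic transvection does not normalise the field. -/
theorem exists_sp_notMem {r : ℕ} (hr : r.Prime) (hm : 1 ≤ m)
    (K : Subalgebra F (Matrix (Fin m ⊕ Fin m) (Fin m ⊕ Fin m) F))
    (hK : Cfsg.Geo.IsFieldSubalgebra r K)
    (halt : ∀ k ∈ K, ∀ v : (Fin m ⊕ Fin m → F), Cfsg.sympForm m F (Matrix.mulVec k v) v = 0) :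
    ∃ g ∈ Cfsg.spGL m F, g ∉ Cfsg.Geo.subalgebraNormalizer K := by
  classical
  set v : Fin m ⊕ Fin m → F := Pi.single (Sum.inl ⟨0, hm⟩) 1 with hv
  have hv0 : v ≠ 0 := by
    intro h
    have := congrFun h (Sum.inl ⟨0, hm⟩)
    rw [hv, Pi.single_eq_same, Pi.zero_apply] at this
    exact one_ne_zero this
  refine ⟨toGL m F (Symp.T v 1), toGL_mem _, ?_⟩
  intro hN
  obtain ⟨κ, hκK, hκ⟩ := FEx.exists_nonscalar hr.two_le K hK
  set g := toGL m F (Symp.T v 1) with hg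
  have htv : ∀ x, (g : Matrix (Fin m ⊕ Fin m) (Fin m ⊕ Fin m) F) *ᵥ x =
      x + (1 * sympForm m F x v) • v := fun x => by
    rw [hg, toGL_val]; exact Symp.T_mulVec v 1 x
  have hκ' : (g : Matrix (Fin m ⊕ Fin m) (Fin m ⊕ Fin m) F) * κ *
      ((g⁻¹ : GL (Fin m ⊕ Fin m) F) : Matrix (Fin m ⊕ Fin m) (Fin m ⊕ Fin m) F) ∈ K :=
    (hN κ).mp hκK
  set κ' := (g : Matrix (Fin m ⊕ Fin m) (Fin m ⊕ Fin m) F) * κ *
      ((g⁻¹ : GL (Fin m ⊕ Fin m) F) : Matrix (Fin m ⊕ Fin m) (Fin m ⊕ Fin m) F) with hκ'def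
  have hcomm : (g : Matrix (Fin m ⊕ Fin m) (Fin m ⊕ Fin m) F) * κ =
      κ' * (g : Matrix (Fin m ⊕ Fin m) (Fin m ⊕ Fin m) F) := by
    rw [hκ'def, mul_assoc, FEx.val_inv_mul, mul_one]
  have hvec : ∀ x, (g : Matrix (Fin m ⊕ Fin m) (Fin m ⊕ Fin m) F) *ᵥ (κ *ᵥ x) =
      κ' *ᵥ ((g : Matrix (Fin m ⊕ Fin m) (Fin m ⊕ Fin m) F) *ᵥ x) := by
    intro x
    rw [Matrix.mulVec_mulVec, Matrix.mulVec_mulVec, hcomm]
  -- `κ = κ'`
  have h1 := hvec v
  rw [htv, htv, halt κ hκK v, sympForm_self, mul_zero, zero_smul, add_zero, add_zero] at h1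
  have hκκ' : κ = κ' := by
    by_contra hne
    have h2 : (κ - κ') *ᵥ v = 0 := by rw [Matrix.sub_mulVec, h1, sub_self]
    exact hv0 (FEx.mulVec_eq_zero hK (K.sub_mem hκK hκ') (sub_ne_zero.mpr hne) h2)
  rw [← hκκ'] at hvec
  obtain ⟨x, hx⟩ := exists_sympForm_ne_zero hv0
  have hxv : sympForm m F x v ≠ 0 := by
    rw [sympForm_swap]; exact neg_ne_zero.mpr hx
  have h3 := hvec x
  rw [htv, htv, Matrix.mulVec_add, Matrix.mulVec_smul, add_right_inj, one_mul, one_mul] at h3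
  -- `κ v` is a multiple of `v`
  set c := sympForm m F (κ *ᵥ x) v / sympForm m F x v with hc
  have h4 : κ *ᵥ v = c • v := by
    rw [hc, div_eq_inv_mul, mul_smul, h3, smul_smul, inv_mul_cancel₀ hxv, one_smul]
  have h5 : (κ - c • (1 : Matrix (Fin m ⊕ Fin m) (Fin m ⊕ Fin m) F)) *ᵥ v = 0 := by
    rw [Matrix.sub_mulVec, h4, Matrix.smul_mulVec, Matrix.one_mulVec, sub_self]
  exact hv0 (FEx.mulVec_eq_zero hK (K.sub_mem hκK (K.smul_mem K.one_mem c))
    (sub_ne_zero.mpr (hκ c)) h5)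

/-- the main statement for matrices. -/
theorem sp_le_of_not_le [Finite F] {r : ℕ} (hm : 7 ≤ m) (hr : r.Prime)
    (K : Subalgebra F (Matrix (Fin m ⊕ Fin m) (Fin m ⊕ Fin m) F))
    (hK : Cfsg.Geo.IsFieldSubalgebra r K)
    (hsa : Cfsg.Geo.IsSelfAdjointFor (Cfsg.sympForm m F) K)
    (halt : ∀ k ∈ K, ∀ v : (Fin m ⊕ Fin m → F), Cfsg.sympForm m F (Matrix.mulVec k v) v = 0)
    (M : Subgroup (GL (Fin m ⊕ Fin m) F))
    (hNM : Cfsg.Geo.subalgebraNormalizer K ⊓ Cfsg.spGL m F ≤ M) (hMS : M ≤ Cfsg.spGL m F)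
    (hMN : ¬ M ≤ Cfsg.Geo.subalgebraNormalizer K) : Cfsg.spGL m F ≤ M := by
  have hr2 := hr.two_le
  haveI : Nonempty (Fin m ⊕ Fin m) := ⟨Sum.inl ⟨0, by omega⟩⟩
  letI := FEx.fieldOfSub K hK
  letI := FEx.modOfSub K
  have key : ∀ (a : F) (k : K) (v : Fin m ⊕ Fin m → F), (a • k) • v = a • (k • v) :=
    fun a k v => FEx.smul_assoc' K a k v
  haveI := towerOfSmul (F := F) (K := ↥K) (V := Fin m ⊕ Fin m → F) key
  haveI : Finite (Matrix (Fin m ⊕ Fin m) (Fin m ⊕ Fin m) F) :=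
    inferInstanceAs (Finite ((Fin m ⊕ Fin m) → (Fin m ⊕ Fin m) → F))
  haveI : Finite ↥K := Subtype.finite
  haveI : FiniteDimensional F ↥K := FEx.finrank_pos_of hr.pos hK
  have hrK : finrank F ↥K = r := hK.finrank_eq
  have hmul := FEx.finrank_mul hr.pos K hK
  have hcard : Fintype.card (Fin m ⊕ Fin m) = m + m := by
    rw [Fintype.card_sum, Fintype.card_fin]
  rw [hcard] at hmul
  have hV : finrank F (Fin m ⊕ Fin m → F) = m + m := by
    rw [Module.finrank_fintype_fun_eq_card, hcard]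
  have h2 : 2 ≤ finrank ↥K (Fin m ⊕ Fin m → F) := by
    by_contra hlt
    push Not at hlt
    have h1 : finrank ↥K (Fin m ⊕ Fin m → F) = 0 ∨ finrank ↥K (Fin m ⊕ Fin m → F) = 1 := by omega
    rcases h1 with h1 | h1
    · rw [h1] at hmul; omega
    · rw [h1, mul_one] at hmul
      have h2m : m + m = 2 * m := by ring
      rw [h2m] at hmul
      have hdvd : 2 ∣ r := ⟨m, hmul⟩
      have := (Nat.prime_dvd_prime_iff_eq Nat.prime_two hr).mp hdvd
      omega
  have hdim : finrank F ↥K + 3 ≤ finrank F (Fin m ⊕ Fin m → F) := by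
    rw [hrK, hV]
    have : r * 2 ≤ r * finrank ↥K (Fin m ⊕ Fin m → F) := Nat.mul_le_mul_left r h2
    omega
  have hf : SForm ↥K (sympForm m F) :=
    { add_left := sympForm_add_left
      smul_left := sympForm_smul_left
      swap := sympForm_swap
      nondeg := fun x hx => exists_sympForm_ne_zero hx
      sa := fun k x y => hsa k.1 k.2 x y
      kalt := fun k x => halt k.1 k.2 x }
  set M' : Subgroup ((Fin m ⊕ Fin m → F) ≃ₗ[F] (Fin m ⊕ Fin m → F)) :=
    M.comap (thetaI (F := F) (ι := Fin m ⊕ Fin m)).symm.toMonoidHom with hM'def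
  have hmemM' : ∀ s, s ∈ M' ↔ thetaI.symm s ∈ M := fun s => Iff.rfl
  have hθ : ∀ s : (Fin m ⊕ Fin m → F) ≃ₗ[F] (Fin m ⊕ Fin m → F), thetaI (thetaI.symm s) = s :=
    fun s => MulEquiv.apply_symm_apply _ _
  have hMf : ∀ s ∈ M', Isom (sympForm m F) s := by
    intro s hs x y
    have h1 := hMS ((hmemM' s).mp hs)
    rw [mem_spGL_iff] at h1
    have h2 := h1 x y
    rw [← thetaI_apply, ← thetaI_apply, hθ] at h2
    exact h2
  have hM' : ∀ s : (Fin m ⊕ Fin m → F) ≃ₗ[F] (Fin m ⊕ Fin m → F), KLin ↥K s →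
      Isom (sympForm m F) s → s ∈ M' := by
    intro s hs hiso
    rw [hmemM']
    apply hNM
    refine Subgroup.mem_inf.mpr
      ⟨mem_normalizer_of_msemiI K _ (msemiI_of_isSemi K hK _ (by rw [hθ]; exact hs.isSemi)), ?_⟩
    rw [mem_spGL_iff]
    intro x y
    rw [← thetaI_apply, ← thetaI_apply, hθ]
    exact hiso x y
  have hne' : ∃ g ∈ M', ¬ IsSemi ↥K g := by
    obtain ⟨g, hgM, hgN⟩ := SetLike.not_le_iff_exists.mp hMN
    refine ⟨thetaI g, ?_, ?_⟩
    · rw [hmemM', MulEquiv.symm_apply_apply]; exact hgM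
    · intro hs
      exact hgN (mem_normalizer_of_msemiI K g (msemiI_of_isSemi K hK g hs))
  have hall := all_stv hf M' hMf (by rw [hrK]; exact hr) h2 hdim hM' hne'
  -- the generation by transvections
  have hcl : transvectionSubgroup m F ≤ M.comap (toGL m F) := by
    unfold transvectionSubgroup
    rw [Subgroup.closure_le]
    rintro A ⟨w, c, hA⟩
    rw [SetLike.mem_coe, Subgroup.mem_comap]
    have e : thetaI (toGL m F A) = stv hf w c := by
      ext1 x
      rw [thetaI_apply, toGL_val, hA, sympTransvection_mulVec, stv_apply]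
    have h3 := hall w c
    rw [← e, hmemM', MulEquiv.symm_apply_apply] at h3
    exact h3
  rw [transvectionSubgroup_eq_top] at hcl
  intro g hg
  obtain ⟨A, rfl⟩ := exists_toGL_eq hg
  exact hcl (Subgroup.mem_top A)

end Cfsg.Agent.Helper7.ExtS
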