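import Cfsg.Agent.Helper7.ExtSM

set_option autoImplicit false
set_option linter.unusedSectionVars false
set_option linter.unusedVariables false

/-! Unitary subgroups of symplectic groups (helper7): an alternating form `f` over `F` together with
an anti-self-adjoint endomorphism `ε` with `ε² = d`, `d` a non-square (the quadratic extension
`F[ε]` acts on `V`, and `f` is the trace of a skew-hermitian form).  Basic identities. -/

namespace Cfsg.Agent.Helper7.ExtU

open Module Cfsg.Agent.Helper7.ExtF Cfsg.Agent.Helper7.ExtS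

variable {F : Type*} [Field F] {V : Type*} [AddCommGroup V] [Module F V]

/-- the data of a quadratic extension acting on `V`, anti-self-adjoint for `f`. -/
structure UData (f : V → V → F) (ε : V →ₗ[F] V) (d : F) : Prop where
  sq : ∀ x, ε (ε x) = d • x
  adj : ∀ x y, f (ε x) y = - f x (ε y)
  nonsq : ∀ s : F, s * s ≠ d
  two : (2 : F) ≠ 0

variable {f : V → V → F} (hf : SForm F f) {ε : V →ₗ[F] V} {d : F} (hu : UData f ε d)

/-- the symmetric form `f (ε x) y`. -/
def Bs (f : V → V → F) (ε : V →ₗ[F] V) (x y : V) : F := f (ε x) y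

/-- the quadratic form `f (ε x) x`. -/
def qf (f : V → V → F) (ε : V →ₗ[F] V) (x : V) : F := f (ε x) x

/-- the action of the element `a + b ε` of the quadratic extension. -/
def ks (ε : V →ₗ[F] V) (a b : F) (x : V) : V := a • x + b • ε x

namespace UData

include hu

theorem d_ne_zero : d ≠ 0 := by
  intro h
  exact hu.nonsq 0 (by rw [h, mul_zero])

theorem eps_inj {x : V} (h : ε x = 0) : x = 0 := by
  have := hu.sq x
  rw [h, map_zero] at this
  exact (smul_eq_zero.mp this.symm).resolve_left hu.d_ne_zero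

theorem norm_ne_zero {a b : F} (h : ¬ (a = 0 ∧ b = 0)) : a * a - d * (b * b) ≠ 0 := by
  intro h0
  by_cases hb : b = 0
  · rw [hb, mul_zero, mul_zero, sub_zero] at h0
    exact h ⟨mul_self_eq_zero.mp h0, hb⟩
  · apply hu.nonsq (a / b)
    field_simp
    linear_combination h0

end UData

include hf hu

theorem Bs_symm (x y : V) : Bs f ε x y = Bs f ε y x := by
  unfold Bs
  rw [hu.adj, hf.swap x]; ring

theorem Bs_add_left (x y z : V) : Bs f ε (x + y) z = Bs f ε x z + Bs f ε y z := by
  unfold Bs; rw [map_add, hf.add_left]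

theorem Bs_add_right (x y z : V) : Bs f ε x (y + z) = Bs f ε x y + Bs f ε x z := by
  unfold Bs; rw [hf.add_right]

theorem Bs_smul_left (c : F) (x y : V) : Bs f ε (c • x) y = c * Bs f ε x y := by
  unfold Bs; rw [map_smul, hf.smul_left]

theorem Bs_smul_right (c : F) (x y : V) : Bs f ε x (c • y) = c * Bs f ε x y := by
  unfold Bs; rw [hf.smul_right]

theorem f_eps_eps (x y : V) : f (ε x) (ε y) = - d * f x y := by
  rw [hu.adj, hu.sq, hf.smul_right]; ring

theorem Bs_eps_left (x y : V) : Bs f ε (ε x) y = d * f x y := by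
  unfold Bs; rw [hu.sq, hf.smul_left]

theorem Bs_eps_right (x y : V) : Bs f ε x (ε y) = - d * f x y := by
  unfold Bs; exact f_eps_eps hf hu x y

theorem f_eps_right (x y : V) : f x (ε y) = - Bs f ε x y := by
  unfold Bs; rw [hu.adj]; ring

theorem f_self_eps (x : V) : f x (ε x) = - qf f ε x := by
  unfold qf; rw [hu.adj]; ring

omit hf hu in
theorem qf_eq (x : V) : qf f ε x = Bs f ε x x := rfl

theorem qf_eps (x : V) : qf f ε (ε x) = - d * qf f ε x := by
  unfold qf
  rw [hu.sq, hf.smul_left, f_self_eps hf hu]; unfold qf; ring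

theorem qf_add (x y : V) : qf f ε (x + y) = qf f ε x + 2 * Bs f ε x y + qf f ε y := by
  rw [qf_eq, Bs_add_left hf hu, Bs_add_right hf hu, Bs_add_right hf hu, Bs_symm hf hu y x,
    ← qf_eq, ← qf_eq]; ring

theorem qf_smul (c : F) (x : V) : qf f ε (c • x) = c * c * qf f ε x := by
  rw [qf_eq, Bs_smul_left hf hu, Bs_smul_right hf hu, ← qf_eq]; ring

theorem qf_neg (x : V) : qf f ε (-x) = qf f ε x := by
  have := qf_smul hf hu (-1) x
  rwa [neg_one_smul, neg_mul_neg, one_mul, one_mul] at this

theorem qf_zero : qf f ε (0 : V) = 0 := by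
  unfold qf; rw [hf.zero_right]

theorem qf_sub (x y : V) : qf f ε (x - y) = qf f ε x - 2 * Bs f ε x y + qf f ε y := by
  rw [sub_eq_add_neg, qf_add hf hu, qf_neg hf hu]
  have : Bs f ε x (-y) = - Bs f ε x y := by
    have := Bs_smul_right hf hu (-1) x y
    rwa [neg_one_smul, neg_one_mul] at this
  rw [this]; ring

omit hf hu in
theorem ks_apply (a b : F) (x : V) : ks ε a b x = a • x + b • ε x := rfl

omit hf in
theorem eps_ks (a b : F) (x : V) : ε (ks ε a b x) = ks ε a b (ε x) := by
  rw [ks_apply, ks_apply, map_add, map_smul, map_smul]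

omit hf in
theorem ks_ks (a b a' b' : F) (x : V) :
    ks ε a b (ks ε a' b' x) = ks ε (a * a' + d * (b * b')) (a * b' + b * a') x := by
  rw [ks_apply, eps_ks hu, ks_apply, ks_apply, ks_apply, hu.sq]
  module

omit hf hu in
theorem ks_add (a b : F) (x y : V) : ks ε a b (x + y) = ks ε a b x + ks ε a b y := by
  rw [ks_apply, ks_apply, ks_apply, map_add]; module

omit hf hu in
theorem ks_smul (a b c : F) (x : V) : ks ε a b (c • x) = c • ks ε a b x := by
  rw [ks_apply, ks_apply, map_smul]; module

omit hf hu in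
theorem ks_sub_coeff (a b a' b' : F) (x : V) :
    ks ε a b x - ks ε a' b' x = ks ε (a - a') (b - b') x := by
  rw [ks_apply, ks_apply, ks_apply]; module

omit hf hu in
theorem ks_add_coeff (a b a' b' : F) (x : V) :
    ks ε a b x + ks ε a' b' x = ks ε (a + a') (b + b') x := by
  rw [ks_apply, ks_apply, ks_apply]; module

omit hf hu in
theorem ks_one_zero (x : V) : ks ε 1 0 x = x := by
  rw [ks_apply]; module

omit hf hu in
theorem ks_zero_one (x : V) : ks ε 0 1 x = ε x := by
  rw [ks_apply]; module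

omit hf hu in
theorem ks_zero_zero (x : V) : ks ε 0 0 x = 0 := by
  rw [ks_apply]; module

omit hf hu in
theorem ks_zero (a b : F) : ks ε a b (0 : V) = 0 := by
  rw [ks_apply, map_zero]; module

theorem f_ks_left (a b : F) (x y : V) : f (ks ε a b x) y = a * f x y + b * Bs f ε x y := by
  rw [ks_apply, hf.add_left, hf.smul_left, hf.smul_left]; rfl

theorem f_ks_right (a b : F) (x y : V) : f x (ks ε a b y) = a * f x y - b * Bs f ε x y := by
  rw [ks_apply, hf.add_right, hf.smul_right, hf.smul_right, f_eps_right hf hu]; ring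

theorem Bs_ks_left (a b : F) (x y : V) :
    Bs f ε (ks ε a b x) y = a * Bs f ε x y + b * d * f x y := by
  rw [ks_apply, Bs_add_left hf hu, Bs_smul_left hf hu, Bs_smul_left hf hu, Bs_eps_left hf hu]; ring

theorem Bs_ks_right (a b : F) (x y : V) :
    Bs f ε x (ks ε a b y) = a * Bs f ε x y - b * d * f x y := by
  rw [ks_apply, Bs_add_right hf hu, Bs_smul_right hf hu, Bs_smul_right hf hu,
    Bs_eps_right hf hu]; ring

theorem qf_ks (a b : F) (x : V) : qf f ε (ks ε a b x) = (a * a - d * (b * b)) * qf f ε x := by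
  rw [qf_eq, Bs_ks_left hf hu, Bs_ks_right hf hu, f_ks_right hf hu, hf.self, ← qf_eq]; ring

/-- `x` and `ε x` are linearly independent. -/
theorem ks_eq_zero {a b : F} {x : V} (hx : x ≠ 0) (h : ks ε a b x = 0) : a = 0 ∧ b = 0 := by
  by_contra hab
  have h1 : ks ε a (-b) (ks ε a b x) = 0 := by rw [h, ks_zero]
  rw [ks_ks hu] at h1
  have h2 : a * b + -b * a = 0 := by ring
  have h3 : a * a + d * (-b * b) = a * a - d * (b * b) := by ring
  rw [h2, h3, ks_apply, zero_smul, add_zero] at h1
  rcases smul_eq_zero.mp h1 with h4 | h4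
  · exact hu.norm_ne_zero hab h4
  · exact hx h4

theorem ks_inj {a b a' b' : F} {x : V} (hx : x ≠ 0) (h : ks ε a b x = ks ε a' b' x) :
    a = a' ∧ b = b' := by
  have h1 : ks ε (a - a') (b - b') x = 0 := by rw [← ks_sub_coeff, h, sub_self]
  obtain ⟨h2, h3⟩ := ks_eq_zero hf hu hx h1
  exact ⟨sub_eq_zero.mp h2, sub_eq_zero.mp h3⟩

theorem ne_zero_of_qf {x : V} (h : qf f ε x ≠ 0) : x ≠ 0 := by
  intro h0; rw [h0, qf_zero hf hu] at h; exact h rfl

end Cfsg.Agent.Helper7.ExtU
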