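import Cfsg.Agent.Helper7.ExtUA

set_option autoImplicit false
set_option linter.unusedSectionVars false
set_option linter.unusedVariables false

/-! Unitary subgroups of symplectic groups (helper7): perpendicular spaces, existence of
non-isotropic vectors, surjectivity of the norm. -/

namespace Cfsg.Agent.Helper7.ExtU

open Module Polynomial Cfsg.Agent.Helper7.ExtF Cfsg.Agent.Helper7.ExtS

variable {F : Type*} [Field F] {V : Type*} [AddCommGroup V] [Module F V]

variable {f : V → V → F} (hf : SForm F f) {ε : V →ₗ[F] V} {d : F} (hu : UData f ε d)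

/-- the form as a bilinear form of Mathlib. -/
def Bf : LinearMap.BilinForm F V :=
  LinearMap.mk₂ F f hf.add_left hf.smul_left hf.add_right hf.smul_right

theorem Bf_apply (x y : V) : Bf hf x y = f x y := rfl

theorem Bf_nondeg : (Bf hf).Nondegenerate := by
  constructor
  · intro x hx
    by_contra h0
    obtain ⟨y, hy⟩ := hf.nondeg x h0
    exact hy (hx y)
  · intro y hy
    by_contra h0
    obtain ⟨x, hx⟩ := hf.nondeg y h0
    apply hx
    rw [hf.swap]
    have := hy x
    rw [Bf_apply] at this
    rw [this, neg_zero]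

include hf in
/-- a totally isotropic subspace has at most half the dimension. -/
theorem finrank_le_of_isotropic [FiniteDimensional F V] (W : Submodule F V)
    (h : ∀ x ∈ W, ∀ y ∈ W, f x y = 0) : 2 * finrank F W ≤ finrank F V := by
  have hle : W ≤ (Bf hf).orthogonal W := by
    intro y hy
    rw [LinearMap.BilinForm.mem_orthogonal_iff]
    intro x hx
    exact h x hx y hy
  have h1 := Submodule.finrank_mono hle
  rw [LinearMap.BilinForm.finrank_orthogonal (Bf_nondeg hf)] at h1
  have h2 : finrank F W ≤ finrank F V := Submodule.finrank_le W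
  omega

include hf hu in
/-- an `ε`-stable subspace of more than half the dimension contains a non-isotropic vector. -/
theorem exists_qf_ne_zero [FiniteDimensional F V] (W : Submodule F V) (hW : ∀ y ∈ W, ε y ∈ W)
    (hdim : finrank F V < 2 * finrank F W) : ∃ y ∈ W, qf f ε y ≠ 0 := by
  by_contra hcon
  push Not at hcon
  have hB : ∀ x ∈ W, ∀ y ∈ W, Bs f ε x y = 0 := by
    intro x hx y hy
    have h1 := qf_add hf hu x y
    rw [hcon _ (W.add_mem hx hy), hcon x hx, hcon y hy, zero_add, add_zero] at h1
    rcases mul_eq_zero.mp h1.symm with h2 | h2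
    · exact absurd h2 hu.two
    · exact h2
  have hfz : ∀ x ∈ W, ∀ y ∈ W, f x y = 0 := by
    intro x hx y hy
    have h1 := Bs_eps_right hf hu x y
    rw [hB x hx _ (hW y hy)] at h1
    rcases mul_eq_zero.mp h1.symm with h2 | h2
    · exact absurd (neg_eq_zero.mp h2) hu.d_ne_zero
    · exact h2
  have := finrank_le_of_isotropic hf W hfz
  omega

/-- the space perpendicular to the `F[ε]`-lines of `x` and `y`. -/
def kperp (x y : V) : Submodule F V :=
  (Bf hf).orthogonal (Submodule.span F {x, ε x, y, ε y})

include hu in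
theorem mem_kperp {x y z : V} :
    z ∈ kperp (ε := ε) hf x y ↔ f z x = 0 ∧ f z (ε x) = 0 ∧ f z y = 0 ∧ f z (ε y) = 0 := by
  unfold kperp
  rw [LinearMap.BilinForm.mem_orthogonal_iff]
  constructor
  · intro h
    have h1 := h x (Submodule.subset_span (by simp))
    have h2 := h (ε x) (Submodule.subset_span (by simp))
    have h3 := h y (Submodule.subset_span (by simp))
    have h4 := h (ε y) (Submodule.subset_span (by simp))
    rw [Bf_apply, hf.swap] at h1 h2 h3 h4
    exact ⟨neg_eq_zero.mp h1, neg_eq_zero.mp h2, neg_eq_zero.mp h3, neg_eq_zero.mp h4⟩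
  · rintro ⟨h1, h2, h3, h4⟩ n hn
    induction hn using Submodule.span_induction with
    | mem u hu' =>
      simp only [Set.mem_insert_iff, Set.mem_singleton_iff] at hu'
      rw [Bf_apply, hf.swap]
      rcases hu' with rfl | rfl | rfl | rfl
      · rw [h1, neg_zero]
      · rw [h2, neg_zero]
      · rw [h3, neg_zero]
      · rw [h4, neg_zero]
    | zero => rw [map_zero, LinearMap.zero_apply]
    | add u v _ _ hu' hv' => rw [map_add, LinearMap.add_apply, hu', hv', add_zero]
    | smul c u _ hu' => rw [map_smul, LinearMap.smul_apply, hu', smul_zero]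

include hu in
theorem eps_mem_kperp {x y z : V} (hz : z ∈ kperp (ε := ε) hf x y) :
    ε z ∈ kperp (ε := ε) hf x y := by
  rw [mem_kperp hf hu] at hz ⊢
  obtain ⟨h1, h2, h3, h4⟩ := hz
  refine ⟨?_, ?_, ?_, ?_⟩
  · rw [hu.adj, h2, neg_zero]
  · rw [f_eps_eps hf hu, h1, mul_zero]
  · rw [hu.adj, h4, neg_zero]
  · rw [f_eps_eps hf hu, h3, mul_zero]

theorem finrank_kperp [FiniteDimensional F V] (x y : V) :
    finrank F V ≤ finrank F (kperp (ε := ε) hf x y) + 4 := by
  unfold kperp
  rw [LinearMap.BilinForm.finrank_orthogonal (Bf_nondeg hf)]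
  have h1 : finrank F (Submodule.span F ({x, ε x, y, ε y} : Set V)) ≤ 4 := by
    classical
    have h2 : ({x, ε x, y, ε y} : Set V) = ((({x, ε x, y, ε y} : Finset V)) : Set V) := by
      simp
    rw [h2]
    refine (finrank_span_finset_le_card _).trans ?_
    refine (Finset.card_insert_le _ _).trans ?_
    refine Nat.succ_le_succ ((Finset.card_insert_le _ _).trans ?_)
    refine Nat.succ_le_succ ((Finset.card_insert_le _ _).trans ?_)
    simp
  omega

include hu in
/-- non-isotropic vectors perpendicular to two given lines. -/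
theorem exists_perp_qf_ne_zero [FiniteDimensional F V] (hdim : 9 ≤ finrank F V) (x y : V) :
    ∃ z ∈ kperp (ε := ε) hf x y, qf f ε z ≠ 0 := by
  apply exists_qf_ne_zero hf hu _ (fun z hz => eps_mem_kperp hf hu hz)
  have := finrank_kperp (ε := ε) hf x y
  omega

include hu in
/-- the norm of the quadratic extension is surjective. -/
theorem exists_norm_eq [Finite F] (c : F) : ∃ a b : F, a * a - d * (b * b) = c := by
  classical
  have := Fintype.ofFinite F
  have hodd : Fintype.card F % 2 = 1 := by
    by_contra h
    have h0 : Fintype.card F % 2 = 0 := by omega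
    have hch : ringChar F = 2 := FiniteField.even_card_iff_char_two.mpr h0
    have : CharP F 2 := by rw [← hch]; exact ringChar.charP F
    exact hu.two (CharTwo.two_eq_zero)
  let p : F[X] := X ^ 2
  let q : F[X] := C (-d) * X ^ 2 - C c
  have hq : q.degree = 2 := by
    have h1 : (C (-d) * X ^ 2 : F[X]).degree = 2 := by
      rw [degree_C_mul_X_pow 2 (neg_ne_zero.mpr hu.d_ne_zero)]; rfl
    have h2 : (C c : F[X]).degree < (C (-d) * X ^ 2 : F[X]).degree := by
      rw [h1]
      exact lt_of_le_of_lt degree_C_le (by decide)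
    rw [degree_sub_eq_left_of_degree_lt h2, h1]
  obtain ⟨a, b, hab⟩ : ∃ a b, p.eval a + q.eval b = 0 :=
    FiniteField.exists_root_sum_quadratic (degree_X_pow 2) hq hodd
  refine ⟨a, b, ?_⟩
  simp only [p, q, eval_C, eval_X, eval_pow, eval_sub, eval_mul] at hab
  linear_combination hab

include hu in
/-- vectors perpendicular to two given lines with a prescribed value of the quadratic form. -/
theorem exists_perp_qf_eq [Finite F] [FiniteDimensional F V] (hdim : 9 ≤ finrank F V) (x y : V)
    (c : F) : ∃ z ∈ kperp (ε := ε) hf x y, qf f ε z = c := by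
  obtain ⟨z₀, hz₀, hq⟩ := exists_perp_qf_ne_zero hf hu hdim x y
  obtain ⟨a, b, hab⟩ := exists_norm_eq hu (c / qf f ε z₀)
  refine ⟨ks ε a b z₀, ?_, ?_⟩
  · rw [ks_apply]
    exact Submodule.add_mem _ (Submodule.smul_mem _ _ hz₀)
      (Submodule.smul_mem _ _ (eps_mem_kperp hf hu hz₀))
  · rw [qf_ks hf hu, hab]
    field_simp

/-- a polynomial of degree two does not vanish identically. -/
theorem exists_quadratic_ne_zero (h2 : (2 : F) ≠ 0) {a : F} (ha : a ≠ 0) (b c : F) :
    ∃ s : F, a * (s * s) + b * s + c ≠ 0 := by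
  by_contra hcon
  push Not at hcon
  have h0 := hcon 0
  have h1 := hcon 1
  have h3 := hcon (-1)
  apply ha
  have : 2 * a = 0 := by linear_combination h1 + h3 - 2 * h0
  rcases mul_eq_zero.mp this with h | h
  · exact absurd h h2
  · exact h

end Cfsg.Agent.Helper7.ExtU
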