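import Cfsg.Agent.Helper7.ExtUB

set_option autoImplicit false
set_option linter.unusedSectionVars false
set_option linter.unusedVariables false

/-! Unitary subgroups of symplectic groups (helper7): isometries of the form
`y ↦ y + φ y • u + ψ y • v`: the involution of a hyperbolic plane, the quasi-reflections of the
unitary group, and the elements of the Heisenberg group of a vector. -/

namespace Cfsg.Agent.Helper7.ExtU

open Module Cfsg.Agent.Helper7.ExtF Cfsg.Agent.Helper7.ExtS

variable {F : Type*} [Field F] {V : Type*} [AddCommGroup V] [Module F V]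

variable {f : V → V → F} (hf : SForm F f) {ε : V →ₗ[F] V} {d : F} (hu : UData f ε d)

/-- the endomorphism `y ↦ y + φ y • u + ψ y • v`. -/
def lin2 (φ ψ : Module.Dual F V) (u v : V) : V →ₗ[F] V :=
  LinearMap.id + φ.smulRight u + ψ.smulRight v

theorem lin2_apply (φ ψ : Module.Dual F V) (u v y : V) :
    lin2 φ ψ u v y = y + φ y • u + ψ y • v := rfl

include hf in
theorem f_lin2 (φ ψ : Module.Dual F V) (u v y z : V) :
    f (lin2 φ ψ u v y) (lin2 φ ψ u v z) =
      f y z + φ z * f y u + ψ z * f y v + φ y * f u z + ψ y * f v z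
        + (φ y * ψ z - ψ y * φ z) * f u v := by
  rw [lin2_apply, lin2_apply]
  simp only [hf.add_left, hf.add_right, hf.smul_left, hf.smul_right, hf.self]
  rw [hf.swap v u]
  ring

/-- an isometric endomorphism as an automorphism. -/
noncomputable def mkIso [FiniteDimensional F V] (A : V →ₗ[F] V)
    (hA : ∀ x y, f (A x) (A y) = f x y) : V ≃ₗ[F] V :=
  LinearEquiv.ofInjectiveEndo A (by
    rw [injective_iff_map_eq_zero]
    intro x hx
    by_contra h0
    obtain ⟨y, hy⟩ := hf.nondeg x h0
    apply hy
    rw [← hA, hx, hf.zero_left])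

theorem mkIso_apply [FiniteDimensional F V] (A : V →ₗ[F] V)
    (hA : ∀ x y, f (A x) (A y) = f x y) (x : V) : mkIso hf A hA x = A x := rfl

theorem isom_mkIso [FiniteDimensional F V] (A : V →ₗ[F] V)
    (hA : ∀ x y, f (A x) (A y) = f x y) : Isom f (mkIso hf A hA) := fun x y => hA x y

section iota

variable [FiniteDimensional F V]

/-- the involution which is `-1` on the hyperbolic plane of `w, p` and `1` on its perpendicular. -/
noncomputable def iota (w p : V) (h : f w p = 1) : V ≃ₗ[F] V :=
  mkIso hf (lin2 ((-2 : F) • hf.fR p) ((2 : F) • hf.fR w) w p) (by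
    intro y z
    rw [f_lin2 hf]
    simp only [LinearMap.smul_apply, SForm.fR_apply, smul_eq_mul]
    rw [hf.swap p z, hf.swap w z, h]
    ring)

theorem iota_apply (w p : V) (h : f w p = 1) (y : V) :
    iota hf w p h y = y + (-2 * f y p) • w + (2 * f y w) • p := rfl

theorem isom_iota (w p : V) (h : f w p = 1) : Isom f (iota hf w p h) := isom_mkIso hf _ _

/-- conjugation of the involution by an isometry. -/
theorem conj_iota {m : V ≃ₗ[F] V} (hm : Isom f m) (w p : V) (h : f w p = 1) :
    m * iota hf w p h * m⁻¹ = iota hf (m w) (m p) (by rw [hm, h]) := by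
  ext y
  rw [LinearEquiv.mul_apply, LinearEquiv.mul_apply, iota_apply, iota_apply]
  have e1 : f (m⁻¹ y) p = f y (m p) := by
    rw [← hm (m⁻¹ y) p, apply_inv_self]
  have e2 : f (m⁻¹ y) w = f y (m w) := by
    rw [← hm (m⁻¹ y) w, apply_inv_self]
  rw [e1, e2, map_add, map_add, map_smul, map_smul, apply_inv_self]

/-- the involution depends only on the plane. -/
theorem iota_congr (w p : V) (h : f w p = 1) (a b c e : F) (hdet : a * e - b * c = 1) :
    iota hf (a • w + b • p) (c • w + e • p)
      (by
        simp only [hf.add_left, hf.add_right, hf.smul_left, hf.smul_right, hf.self]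
        rw [hf.swap p w, h]
        linear_combination hdet) = iota hf w p h := by
  ext y
  rw [iota_apply, iota_apply]
  simp only [hf.add_right, hf.smul_right]
  have h1 : a * e = 1 + b * c := by linear_combination hdet
  have key : (-2 * (c * f y w + e * f y p)) • (a • w + b • p)
      + (2 * (a * f y w + b * f y p)) • (c • w + e • p)
      = (-2 * f y p * (a * e - b * c)) • w + (2 * f y w * (a * e - b * c)) • p := by
    module
  rw [add_assoc, key, hdet, mul_one, mul_one, ← add_assoc]

end iota

section heis

variable [FiniteDimensional F V]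

/-- the element `y ↦ y + f y r • w + f y w • r + c f y w • w` of the Heisenberg group of `w`. -/
noncomputable def heis (w r : V) (c : F) (h : f r w = 0) : V ≃ₗ[F] V :=
  mkIso hf (lin2 (hf.fR r + c • hf.fR w) (hf.fR w) w r) (by
    intro y z
    rw [f_lin2 hf]
    simp only [LinearMap.add_apply, LinearMap.smul_apply, SForm.fR_apply, smul_eq_mul]
    rw [hf.swap w z, hf.swap r z, hf.swap w r, h]
    ring)

theorem heis_apply (w r : V) (c : F) (h : f r w = 0) (y : V) :
    heis hf w r c h y = y + (f y r + c * f y w) • w + f y w • r := rfl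

theorem isom_heis (w r : V) (c : F) (h : f r w = 0) : Isom f (heis hf w r c h) :=
  isom_mkIso hf _ _

theorem heis_zero (w : V) (c : F) :
    heis hf w 0 c (hf.zero_left w) = stv hf w c := by
  ext y
  rw [heis_apply, stv_apply, hf.zero_right, zero_add, smul_zero, add_zero]

theorem heis_mul (w r r' : V) (c c' : F) (h : f r w = 0) (h' : f r' w = 0) :
    heis hf w r c h * heis hf w r' c' h' =
      heis hf w (r + r') (c + c' + f r' r) (by rw [hf.add_left, h, h', add_zero]) := by
  ext y
  rw [LinearEquiv.mul_apply, heis_apply, heis_apply, heis_apply]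
  simp only [hf.add_left, hf.add_right, hf.smul_left, hf.self, h, h']
  rw [hf.swap w r, h]
  module

theorem conj_heis {m : V ≃ₗ[F] V} (hm : Isom f m) (w r : V) (c : F) (h : f r w = 0) :
    m * heis hf w r c h * m⁻¹ = heis hf (m w) (m r) c (by rw [hm, h]) := by
  ext y
  rw [LinearEquiv.mul_apply, LinearEquiv.mul_apply, heis_apply, heis_apply]
  have e1 : f (m⁻¹ y) r = f y (m r) := by
    rw [← hm (m⁻¹ y) r, apply_inv_self]
  have e2 : f (m⁻¹ y) w = f y (m w) := by
    rw [← hm (m⁻¹ y) w, apply_inv_self]
  rw [e1, e2, map_add, map_add, map_smul, map_smul, apply_inv_self]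

theorem heis_inv (w r : V) (c : F) (h : f r w = 0) :
    (heis hf w r c h)⁻¹ = heis hf w (-r) (-c) (by rw [hf.neg_left, h, neg_zero]) := by
  rw [inv_eq_iff_mul_eq_one, heis_mul]
  ext y
  rw [heis_apply]
  simp only [add_neg_cancel, hf.neg_left, hf.self, hf.zero_right, neg_zero, add_zero, zero_mul,
    zero_smul, smul_zero, LinearEquiv.coe_one, id_eq]

/-- the commutator of two elements of the Heisenberg group. -/
theorem heis_comm (w r r' : V) (c c' : F) (h : f r w = 0) (h' : f r' w = 0) :
    heis hf w r c h * heis hf w r' c' h' * (heis hf w r c h)⁻¹ * (heis hf w r' c' h')⁻¹ =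
      stv hf w (2 * f r' r) := by
  have e : heis hf w r c h * heis hf w r' c' h' =
      stv hf w (2 * f r' r) * (heis hf w r' c' h' * heis hf w r c h) := by
    rw [heis_mul, heis_mul, ← heis_zero, heis_mul]
    ext y
    rw [heis_apply, heis_apply]
    simp only [zero_add, hf.zero_left, hf.zero_right, add_zero]
    rw [hf.swap r r', add_comm r' r]
    have : c + c' + f r' r = 2 * f r' r + (c' + c + -f r' r) := by ring
    rw [this]
  rw [e]
  group

/-- the product of two involutions with a common vector. -/
theorem iota_mul_iota (w p₁ p₂ : V) (h₁ : f w p₁ = 1) (h₂ : f w p₂ = 1) :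
    iota hf w p₁ h₁ * iota hf w p₂ h₂ =
      heis hf w ((2 : F) • (p₂ - p₁)) (-4 * f p₂ p₁)
        (by rw [hf.smul_left, hf.sub_left, hf.swap p₂, hf.swap p₁, h₁, h₂]; ring) := by
  ext y
  rw [LinearEquiv.mul_apply, iota_apply, iota_apply, heis_apply]
  simp only [hf.add_left, hf.add_right, hf.smul_left, hf.smul_right, hf.sub_right, hf.self, h₁]
  rw [hf.swap p₂ w, h₂]
  module

end heis

end Cfsg.Agent.Helper7.ExtU
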