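import Cfsg.Agent.Helper7.ExtUC

set_option autoImplicit false
set_option linter.unusedSectionVars false
set_option linter.unusedVariables false

/-! Unitary subgroups of symplectic groups (helper7): the quasi-reflections of the unitary group
and the involutions of the hyperbolic `F[ε]`-lines. -/

namespace Cfsg.Agent.Helper7.ExtU

open Module Cfsg.Agent.Helper7.ExtF Cfsg.Agent.Helper7.ExtS

variable {F : Type*} [Field F] {V : Type*} [AddCommGroup V] [Module F V]

variable {f : V → V → F} (hf : SForm F f) {ε : V →ₗ[F] V} {d : F} (hu : UData f ε d)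

variable [FiniteDimensional F V]

/-- the functional `y ↦ f (ε y) x`. -/
def bR (ε : V →ₗ[F] V) (x : V) : Module.Dual F V := (hf.fR x).comp ε

theorem bR_apply (x y : V) : bR hf ε x y = Bs f ε y x := rfl

/-- the quasi-reflection: multiplication by `μ₀ + μ₁ ε` (of norm one) on the line of the
non-isotropic vector `x`, the identity on the perpendicular space. -/
noncomputable def refl (x : V) (μ₀ μ₁ : F) (hq : qf f ε x ≠ 0)
    (hμ : μ₀ * μ₀ - d * (μ₁ * μ₁) = 1) : V ≃ₗ[F] V :=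
  mkIso hf (lin2 ((qf f ε x)⁻¹ • ((μ₀ - 1) • bR hf ε x + (d * μ₁) • hf.fR x))
    ((qf f ε x)⁻¹ • ((μ₀ - 1) • hf.fR x + μ₁ • bR hf ε x)) x (ε x)) (by
    intro y z
    rw [f_lin2 hf]
    simp only [LinearMap.add_apply, LinearMap.smul_apply, SForm.fR_apply, smul_eq_mul, bR_apply]
    rw [f_eps_right hf hu y x, hf.swap x z, f_self_eps hf hu x]
    have h1 : f (ε x) z = Bs f ε z x := by rw [Bs_symm hf hu]; rfl
    rw [h1]
    field_simp
    linear_combination (f y x * Bs f ε z x - Bs f ε y x * f z x) * hμ)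

theorem refl_apply (x : V) (μ₀ μ₁ : F) (hq : qf f ε x ≠ 0)
    (hμ : μ₀ * μ₀ - d * (μ₁ * μ₁) = 1) (y : V) :
    refl hf hu x μ₀ μ₁ hq hμ y =
      y + ((qf f ε x)⁻¹ * ((μ₀ - 1) * Bs f ε y x + d * μ₁ * f y x)) • x
        + ((qf f ε x)⁻¹ * ((μ₀ - 1) * f y x + μ₁ * Bs f ε y x)) • ε x := rfl

theorem isom_refl (x : V) (μ₀ μ₁ : F) (hq : qf f ε x ≠ 0)
    (hμ : μ₀ * μ₀ - d * (μ₁ * μ₁) = 1) : Isom f (refl hf hu x μ₀ μ₁ hq hμ) :=
  isom_mkIso hf _ _

theorem refl_eps (x : V) (μ₀ μ₁ : F) (hq : qf f ε x ≠ 0)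
    (hμ : μ₀ * μ₀ - d * (μ₁ * μ₁) = 1) (y : V) :
    refl hf hu x μ₀ μ₁ hq hμ (ε y) = ε (refl hf hu x μ₀ μ₁ hq hμ y) := by
  rw [refl_apply, refl_apply, map_add, map_add, map_smul, map_smul, hu.sq,
    Bs_eps_left hf hu]
  have h1 : f (ε y) x = Bs f ε y x := rfl
  rw [h1]
  module

/-- the quasi-reflection fixes the vectors perpendicular to the line. -/
theorem refl_fix (x : V) (μ₀ μ₁ : F) (hq : qf f ε x ≠ 0)
    (hμ : μ₀ * μ₀ - d * (μ₁ * μ₁) = 1) {y : V} (h1 : f y x = 0) (h2 : f y (ε x) = 0) :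
    refl hf hu x μ₀ μ₁ hq hμ y = y := by
  have h3 : Bs f ε y x = 0 := by
    have := f_eps_right hf hu y x
    rw [h2] at this
    exact neg_eq_zero.mp this.symm
  rw [refl_apply, h1, h3]
  simp

/-- the quasi-reflection multiplies the vectors of the line. -/
theorem refl_ks (x : V) (μ₀ μ₁ : F) (hq : qf f ε x ≠ 0)
    (hμ : μ₀ * μ₀ - d * (μ₁ * μ₁) = 1) (a b : F) :
    refl hf hu x μ₀ μ₁ hq hμ (ks ε a b x) = ks ε μ₀ μ₁ (ks ε a b x) := by
  rw [refl_apply, f_ks_left hf hu, Bs_ks_left hf hu, hf.self, ← qf_eq, ks_ks hu]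
  rw [ks_apply, ks_apply]
  have e1 : (qf f ε x)⁻¹ * ((μ₀ - 1) * (a * qf f ε x + b * d * 0) + d * μ₁ * (a * 0 + b * qf f ε x))
      = (μ₀ - 1) * a + d * μ₁ * b := by
    field_simp; ring
  have e2 : (qf f ε x)⁻¹ * ((μ₀ - 1) * (a * 0 + b * qf f ε x) + μ₁ * (a * qf f ε x + b * d * 0))
      = (μ₀ - 1) * b + μ₁ * a := by
    field_simp; ring
  rw [e1, e2]
  module

/-- the involution of the hyperbolic line of a non-isotropic vector. -/
noncomputable def iotaK (x : V) (hq : qf f ε x ≠ 0) : V ≃ₗ[F] V :=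
  iota hf x ((-(qf f ε x)⁻¹) • ε x) (by
    rw [hf.smul_right, f_self_eps hf hu]
    field_simp)

theorem iotaK_def (x : V) (hq : qf f ε x ≠ 0) :
    iotaK hf hu x hq = iota hf x ((-(qf f ε x)⁻¹) • ε x) (by
      rw [hf.smul_right, f_self_eps hf hu]
      field_simp) := rfl

theorem isom_iotaK (x : V) (hq : qf f ε x ≠ 0) : Isom f (iotaK hf hu x hq) := isom_iota hf _ _ _

theorem iotaK_eps (x : V) (hq : qf f ε x ≠ 0) (y : V) :
    iotaK hf hu x hq (ε y) = ε (iotaK hf hu x hq y) := by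
  rw [iotaK_def, iota_apply, iota_apply, map_add, map_add, map_smul, map_smul, map_smul, hu.sq]
  simp only [hf.smul_right]
  rw [f_eps_eps hf hu, f_eps_right hf hu y x]
  have h1 : f (ε y) x = Bs f ε y x := rfl
  rw [h1]
  module

/-- the involution fixes the vectors perpendicular to the line. -/
theorem iotaK_fix (x : V) (hq : qf f ε x ≠ 0) {y : V} (h1 : f y x = 0) (h2 : f y (ε x) = 0) :
    iotaK hf hu x hq y = y := by
  rw [iotaK_def, iota_apply, hf.smul_right, h1, h2]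
  simp

/-- the involution is `-1` on the line. -/
theorem iotaK_ks (x : V) (hq : qf f ε x ≠ 0) (a b : F) :
    iotaK hf hu x hq (ks ε a b x) = - ks ε a b x := by
  have h1 : f (ks ε a b x) (ε x) = - a * qf f ε x := by
    rw [f_eps_right hf hu, Bs_ks_left hf hu, hf.self, ← qf_eq]; ring
  have h2 : f (ks ε a b x) x = b * qf f ε x := by
    rw [f_ks_left hf hu, hf.self, ← qf_eq]; ring
  rw [iotaK_def, iota_apply, hf.smul_right, h1, h2, ks_apply]
  have e1 : -2 * (-(qf f ε x)⁻¹ * (-a * qf f ε x)) = -2 * a := by field_simp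
  have e2 : (2 * (b * qf f ε x)) • (-(qf f ε x)⁻¹ • ε x) = (-2 * b) • ε x := by
    rw [smul_smul]; congr 1; field_simp
  rw [e1, e2]
  module

end Cfsg.Agent.Helper7.ExtU
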