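import Cfsg.Agent.Helper7.ExtUD

set_option autoImplicit false
set_option linter.unusedSectionVars false
set_option linter.unusedVariables false

/-! Unitary subgroups of symplectic groups (helper7): an additive subgroup of the field containing
the second coordinates of all the elements of norm one is the whole field. -/

namespace Cfsg.Agent.Helper7.ExtU

open Module Cfsg.Agent.Helper7.ExtF Cfsg.Agent.Helper7.ExtS

variable {F : Type*} [Field F]

/-- the parametrisation of the elements of norm one. -/
theorem norm_param {d : F} (hns : ∀ s : F, s * s ≠ d) (t : F) :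
    1 - d * (t * t) ≠ 0 ∧
    ((1 + d * (t * t)) / (1 - d * (t * t))) * ((1 + d * (t * t)) / (1 - d * (t * t)))
      - d * ((2 * t / (1 - d * (t * t))) * (2 * t / (1 - d * (t * t)))) = 1 := by
  have h1 : 1 - d * (t * t) ≠ 0 := by
    intro h
    have ht : t ≠ 0 := by
      intro h0; rw [h0] at h; simp at h
    apply hns (1 / t)
    field_simp
    linear_combination h
  refine ⟨h1, ?_⟩
  have e : ∀ a b D : F, D ≠ 0 →
      (a / D) * (a / D) - d * ((b / D) * (b / D)) = (a * a - d * (b * b)) / (D * D) := by
    intro a b D hD; field_simp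
  rw [e _ _ _ h1]
  have h3 : (1 + d * (t * t)) * (1 + d * (t * t)) - d * (2 * t * (2 * t))
      = (1 - d * (t * t)) * (1 - d * (t * t)) := by ring
  rw [h3, div_self (mul_ne_zero h1 h1)]

theorem addSubgroup_eq_top_of_norm_one [Finite F] {d : F} (hns : ∀ s : F, s * s ≠ d)
    (h2 : (2 : F) ≠ 0) (C : AddSubgroup F) (k : F) (hk : k ≠ 0)
    (h : ∀ μ₀ μ₁ : F, μ₀ * μ₀ - d * (μ₁ * μ₁) = 1 → k * μ₁ ∈ C) : C = ⊤ := by
  classical
  have := Fintype.ofFinite F
  have hd : d ≠ 0 := by
    intro h0; exact hns 0 (by rw [h0, mul_zero])
  let g : F → F := fun t => k * (2 * t / (1 - d * (t * t)))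
  have hgC : ∀ t, g t ∈ C := fun t => h _ _ (norm_param hns t).2
  -- fibres of `g` have at most two elements
  have hfib : ∀ a ∈ (Finset.univ : Finset F).image g,
      ((Finset.univ : Finset F).filter (fun t => g t = a)).card ≤ 2 := by
    intro a ha
    obtain ⟨t₀, -, rfl⟩ := Finset.mem_image.mp ha
    have hsub : (Finset.univ : Finset F).filter (fun t => g t = g t₀) ⊆ {t₀, -(d * t₀)⁻¹} := by
      intro s hs
      rw [Finset.mem_filter] at hs
      have hs' : g s = g t₀ := hs.2
      have n1 := (norm_param hns s).1
      have n2 := (norm_param hns t₀).1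
      simp only [g] at hs'
      have h3 : 2 * s / (1 - d * (s * s)) = 2 * t₀ / (1 - d * (t₀ * t₀)) :=
        mul_left_cancel₀ hk hs'
      rw [div_eq_div_iff n1 n2] at h3
      have h4 : (s - t₀) * (1 + d * t₀ * s) = 0 := by
        have : 2 * ((s - t₀) * (1 + d * t₀ * s)) = 0 := by linear_combination h3
        rcases mul_eq_zero.mp this with h | h
        · exact absurd h h2
        · exact h
      rw [Finset.mem_insert, Finset.mem_singleton]
      rcases mul_eq_zero.mp h4 with h5 | h5
      · left; exact sub_eq_zero.mp h5
      · right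
        have ht₀ : t₀ ≠ 0 := by
          intro h0; rw [h0] at h5; simp at h5
        field_simp
        linear_combination h5
    exact (Finset.card_le_card hsub).trans Finset.card_le_two
  have hcard := Finset.card_le_mul_card_image (Finset.univ : Finset F) 2 hfib
  rw [Finset.card_univ] at hcard
  -- the image lies in `C`
  have hSC : ((Finset.univ : Finset F).image g).card ≤ Nat.card C := by
    rw [Nat.card_eq_fintype_card]
    rw [← Fintype.card_coe ((Finset.univ : Finset F).image g)]
    apply Fintype.card_le_of_injective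
      (fun x : ((Finset.univ : Finset F).image g) => (⟨x.1, by
        obtain ⟨t, -, ht⟩ := Finset.mem_image.mp x.2
        rw [← ht]; exact hgC t⟩ : C))
    intro x y hxy
    exact Subtype.ext (by simpa using congrArg Subtype.val hxy)
  have hdvd : Nat.card C ∣ Nat.card F := AddSubgroup.card_addSubgroup_dvd_card C
  rw [Nat.card_eq_fintype_card (α := F)] at hdvd
  obtain ⟨j, hj⟩ := hdvd
  have hodd : Fintype.card F % 2 = 1 := by
    by_contra hne
    have h0 : Fintype.card F % 2 = 0 := by omega
    have hch : ringChar F = 2 := FiniteField.even_card_iff_char_two.mpr h0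
    have : CharP F 2 := by rw [← hch]; exact ringChar.charP F
    exact h2 (CharTwo.two_eq_zero)
  have hCpos : 0 < Nat.card C := Nat.card_pos
  have hj1 : j = 1 := by
    by_contra hne
    have hj0 : j ≠ 0 := by
      intro h0; rw [h0, mul_zero] at hj; omega
    have hj2 : j ≠ 2 := by
      intro h0; rw [h0] at hj; omega
    have hj3 : 3 ≤ j := by omega
    have : Nat.card C * 3 ≤ Nat.card C * j := Nat.mul_le_mul_left _ hj3
    omega
  rw [hj1, mul_one] at hj
  apply AddSubgroup.eq_top_of_card_eq
  rw [Nat.card_eq_fintype_card (α := F)]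
  exact hj.symm

end Cfsg.Agent.Helper7.ExtU
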