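import Cfsg.Agent.Helper7.ExtUE

set_option autoImplicit false
set_option linter.unusedSectionVars false
set_option linter.unusedVariables false

/-! Unitary subgroups of symplectic groups (helper7): an overgroup of the unitary group containing
the involution of a hyperbolic plane which is not a line over the quadratic extension contains the
transvections centred at the non-isotropic vectors of the plane. -/

namespace Cfsg.Agent.Helper7.ExtU

open Module Cfsg.Agent.Helper7.ExtF Cfsg.Agent.Helper7.ExtS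

variable {F : Type*} [Field F] {V : Type*} [AddCommGroup V] [Module F V]

variable {f : V → V → F} (hf : SForm F f) {ε : V →ₗ[F] V} {d : F} (hu : UData f ε d)

theorem stv_param_zero (w : V) : stv hf w 0 = 1 := by
  ext x
  rw [stv_apply, zero_mul, zero_smul, add_zero]; rfl

theorem stv_inv (w : V) (c : F) : (stv hf w c)⁻¹ = stv hf w (-c) := by
  rw [inv_eq_iff_mul_eq_one, stv_add, add_neg_cancel, stv_param_zero]

/-- the parameters of the transvections centred at `w` in `M`. -/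
def stvSub (M : Subgroup (V ≃ₗ[F] V)) (w : V) : AddSubgroup F where
  carrier := {c | stv hf w c ∈ M}
  zero_mem' := by
    change stv hf w 0 ∈ M
    rw [stv_param_zero]; exact M.one_mem
  add_mem' {a b} ha hb := by
    change stv hf w (a + b) ∈ M
    rw [← stv_add]; exact M.mul_mem ha hb
  neg_mem' {a} ha := by
    change stv hf w (-a) ∈ M
    rw [← stv_inv]; exact M.inv_mem ha

theorem mem_stvSub (M : Subgroup (V ≃ₗ[F] V)) (w : V) (c : F) :
    c ∈ stvSub hf M w ↔ stv hf w c ∈ M := Iff.rfl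

variable [FiniteDimensional F V]

theorem Bf_refl : (Bf hf).IsRefl := by
  intro x y h
  rw [Bf_apply] at h ⊢
  rw [hf.swap, h, neg_zero]

include hu in
/-- a vector outside the line of `w` is separated from it by the perpendicular space. -/
theorem exists_perp_f_ne_zero {w r : V} (hr : ∀ a b : F, r ≠ ks ε a b w) :
    ∃ v ∈ kperp (ε := ε) hf w w, f r v ≠ 0 := by
  by_contra hcon
  push Not at hcon
  have h1 : r ∈ (Bf hf).orthogonal (kperp (ε := ε) hf w w) := by
    rw [LinearMap.BilinForm.mem_orthogonal_iff]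
    intro n hn
    rw [Bf_apply, hf.swap, hcon n hn, neg_zero]
  unfold kperp at h1
  rw [LinearMap.BilinForm.orthogonal_orthogonal (Bf_nondeg hf) (Bf_refl hf)] at h1
  have h2 : ({w, ε w, w, ε w} : Set V) = {w, ε w} := by
    ext z; simp only [Set.mem_insert_iff, Set.mem_singleton_iff]; tauto
  rw [h2, Submodule.mem_span_pair] at h1
  obtain ⟨a, b, hab⟩ := h1
  exact hr a b hab.symm

include hu in
/-- the same with a non-isotropic vector. -/
theorem exists_perp_qf_f_ne_zero (hdim : 9 ≤ finrank F V) {w r : V}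
    (hr : ∀ a b : F, r ≠ ks ε a b w) :
    ∃ y ∈ kperp (ε := ε) hf w w, qf f ε y ≠ 0 ∧ f r y ≠ 0 := by
  obtain ⟨v, hv, hrv⟩ := exists_perp_f_ne_zero hf hu hr
  obtain ⟨y₀, hy₀, hq₀⟩ := exists_perp_qf_ne_zero hf hu hdim w w
  by_cases h0 : f r y₀ = 0
  · obtain ⟨s, hs⟩ := exists_quadratic_ne_zero hu.two hq₀ (2 * Bs f ε v y₀) (qf f ε v)
    refine ⟨v + s • y₀, Submodule.add_mem _ hv (Submodule.smul_mem _ _ hy₀), ?_, ?_⟩
    · rw [qf_add hf hu, qf_smul hf hu, Bs_smul_right hf hu]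
      intro h; apply hs; linear_combination h
    · rw [hf.add_right, hf.smul_right, h0, mul_zero, add_zero]; exact hrv
  · exact ⟨y₀, hy₀, hq₀, h0⟩

theorem heis_eq_of_eq {w w' r r' : V} {c c' : F} (hw : w = w') (hr : r = r') (hc : c = c')
    (h : f r w = 0) (h' : f r' w' = 0) : heis hf w r c h = heis hf w' r' c' h' := by
  subst hw hr hc; rfl

variable (M : Subgroup (V ≃ₗ[F] V)) (hMf : ∀ g ∈ M, Isom f g)
  (hM : ∀ s : V ≃ₗ[F] V, Isom f s → (∀ x, s (ε x) = ε (s x)) → s ∈ M)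

include hu hMf hM in
/-- the main lemma on involutions. -/
theorem all_stv_of_iota [Finite F] (hdim : 9 ≤ finrank F V) {w p₁ : V} (h₁ : f w p₁ = 1)
    (hι : iota hf w p₁ h₁ ∈ M) (hq : qf f ε w ≠ 0) (hp : ∀ a b : F, p₁ ≠ ks ε a b w) :
    ∀ c : F, stv hf w c ∈ M := by
  have hιK : iotaK hf hu w hq ∈ M := hM _ (isom_iotaK hf hu w hq) (iotaK_eps hf hu w hq)
  set p₂ : V := (-(qf f ε w)⁻¹) • ε w with hp₂
  have h₂ : f w p₂ = 1 := by
    rw [hp₂, hf.smul_right, f_self_eps hf hu]; field_simp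
  set r : V := (2 : F) • (p₂ - p₁) with hr
  have hrw : f r w = 0 := by
    rw [hr, hf.smul_left, hf.sub_left, hf.swap p₂, hf.swap p₁, h₁, h₂]; ring
  have hσ : heis hf w r (-4 * f p₂ p₁) hrw ∈ M := by
    have h3 := M.mul_mem hι hιK
    rw [iotaK_def, iota_mul_iota] at h3
    exact h3
  -- the set of the `r` with an element of the Heisenberg group in `M`
  let A : V → Prop := fun r => ∃ (h : f r w = 0) (c : F), heis hf w r c h ∈ M
  have hA_r : A r := ⟨hrw, _, hσ⟩
  have hA_add : ∀ r r', A r → A r' → A (r + r') := by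
    rintro r r' ⟨h, c, hc⟩ ⟨h', c', hc'⟩
    have := M.mul_mem hc hc'
    rw [heis_mul] at this
    exact ⟨_, _, this⟩
  have hA_neg : ∀ r, A r → A (-r) := by
    rintro r ⟨h, c, hc⟩
    have := M.inv_mem hc
    rw [heis_inv] at this
    exact ⟨_, _, this⟩
  have hA_conj : ∀ n : V ≃ₗ[F] V, n ∈ M → n w = w → ∀ r, A r → A (n r) := by
    rintro n hn hnw r ⟨h, c, hc⟩
    have h3 := M.mul_mem (M.mul_mem hn hc) (M.inv_mem hn)
    rw [conj_heis hf (hMf n hn)] at h3
    have h4 : f (n r) w = 0 := by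
      have := hMf n hn r w
      rw [hnw] at this
      rw [this, h]
    rw [heis_eq_of_eq hf hnw rfl rfl _ h4] at h3
    exact ⟨h4, c, h3⟩
  have hA_comm : ∀ r r', A r → A r' → stv hf w (2 * f r' r) ∈ M := by
    rintro r r' ⟨h, c, hc⟩ ⟨h', c', hc'⟩
    rw [← heis_comm hf w r r' c c' h h']
    exact M.mul_mem (M.mul_mem (M.mul_mem hc hc') (M.inv_mem hc)) (M.inv_mem hc')
  -- `r` is not in the line of `w`
  have hrK : ∀ a b : F, r ≠ ks ε a b w := by
    intro a b hab
    apply hp (-(a / 2)) (-(qf f ε w)⁻¹ - b / 2)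
    have h3 : p₁ = p₂ - (2 : F)⁻¹ • r := by
      rw [hr, smul_smul, inv_mul_cancel₀ hu.two, one_smul]; abel
    rw [h3, hab, hp₂, ks_apply, ks_apply]
    module
  obtain ⟨y, hy, hqy, hry⟩ := exists_perp_qf_f_ne_zero hf hu hdim hrK
  obtain ⟨hy1, hy2, -, -⟩ := (mem_kperp hf hu).mp hy
  have hwy1 : f w y = 0 := by rw [hf.swap, hy1, neg_zero]
  have hwy2 : f w (ε y) = 0 := by
    have := hu.adj w y
    rw [hf.swap, hy2, neg_zero] at this
    rw [← neg_eq_zero, ← this]
  -- the vector `x'`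
  have hιy : iotaK hf hu y hqy ∈ M := hM _ (isom_iotaK hf hu y hqy) (iotaK_eps hf hu y hqy)
  have hιyw : iotaK hf hu y hqy w = w := iotaK_fix hf hu y hqy hwy1 hwy2
  have hAx : A (r + -(iotaK hf hu y hqy r)) :=
    hA_add _ _ hA_r (hA_neg _ (hA_conj _ hιy hιyw r hA_r))
  set a : F := 2 * f r ((-(qf f ε y)⁻¹) • ε y) with ha
  set b : F := 2 * f r y * (qf f ε y)⁻¹ with hb
  have hx' : r + -(iotaK hf hu y hqy r) = ks ε a b y := by
    rw [iotaK_def, iota_apply, ks_apply, ha, hb]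
    module
  rw [hx'] at hAx
  have hb0 : b ≠ 0 := by
    rw [hb]
    exact mul_ne_zero (mul_ne_zero hu.two hry) (inv_ne_zero hqy)
  have hqx : qf f ε (ks ε a b y) ≠ 0 := by
    rw [qf_ks hf hu]
    exact mul_ne_zero (hu.norm_ne_zero (fun h => hb0 h.2)) hqy
  -- all the parameters
  have hall : stvSub hf M w = ⊤ := by
    apply addSubgroup_eq_top_of_norm_one hu.nonsq hu.two (stvSub hf M w)
      (2 * qf f ε (ks ε a b y)) (mul_ne_zero hu.two hqx)
    intro μ₀ μ₁ hμ
    rw [mem_stvSub]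
    have hn : refl hf hu y μ₀ μ₁ hqy hμ ∈ M :=
      hM _ (isom_refl hf hu y μ₀ μ₁ hqy hμ) (refl_eps hf hu y μ₀ μ₁ hqy hμ)
    have hnw : refl hf hu y μ₀ μ₁ hqy hμ w = w := refl_fix hf hu y μ₀ μ₁ hqy hμ hwy1 hwy2
    have h3 := hA_conj _ hn hnw _ hAx
    rw [refl_ks] at h3
    have h4 := hA_comm _ _ hAx h3
    have h5 : f (ks ε μ₀ μ₁ (ks ε a b y)) (ks ε a b y) = μ₁ * qf f ε (ks ε a b y) := by
      rw [f_ks_left hf hu, hf.self, ← qf_eq]; ring
    rw [h5] at h4
    have h6 : 2 * (μ₁ * qf f ε (ks ε a b y)) = 2 * qf f ε (ks ε a b y) * μ₁ := by ring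
    rw [h6] at h4
    exact h4
  intro c
  rw [← mem_stvSub, hall]
  trivial

end Cfsg.Agent.Helper7.ExtU
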