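import Cfsg.Agent.Helper7.ExtUF

set_option autoImplicit false
set_option linter.unusedSectionVars false
set_option linter.unusedVariables false

/-! Unitary subgroups of symplectic groups (helper7): two different quadratic extensions acting on
`V`, both anti-self-adjoint; an overgroup of both unitary groups contains the transvections centred
at some non-isotropic vector, provided a hyperbolic line of the first is not a line of the second. -/

namespace Cfsg.Agent.Helper7.ExtU

open Module Cfsg.Agent.Helper7.ExtF Cfsg.Agent.Helper7.ExtS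

variable {F : Type*} [Field F] {V : Type*} [AddCommGroup V] [Module F V]

variable {f : V → V → F} (hf : SForm F f) {ε : V →ₗ[F] V} {d : F} (hu : UData f ε d)

variable [FiniteDimensional F V]

theorem iotaK_apply (x : V) (hq : qf f ε x ≠ 0) (y : V) :
    iotaK hf hu x hq y =
      y - (2 * (qf f ε x)⁻¹) • (Bs f ε y x • x + f y x • ε x) := by
  rw [iotaK_def, iota_apply, hf.smul_right, f_eps_right hf hu]
  module

/-- the involution depends only on the line. -/
theorem iotaK_ks_eq (x : V) (hq : qf f ε x ≠ 0) (a b : F) (hq' : qf f ε (ks ε a b x) ≠ 0) :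
    iotaK hf hu (ks ε a b x) hq' = iotaK hf hu x hq := by
  ext y
  rw [iotaK_apply, iotaK_apply, qf_ks hf hu, Bs_ks_right hf hu, f_ks_right hf hu, eps_ks hu,
    ks_apply, ks_apply, hu.sq]
  have hN : a * a - d * (b * b) ≠ 0 := by
    intro h
    rw [qf_ks hf hu, h, zero_mul] at hq'
    exact hq' rfl
  have e : (2 * ((a * a - d * (b * b)) * qf f ε x)⁻¹) •
      ((a * Bs f ε y x - b * d * f y x) • (a • x + b • ε x)
        + (a * f y x - b * Bs f ε y x) • (a • ε x + b • d • x))
      = (2 * (qf f ε x)⁻¹) • (Bs f ε y x • x + f y x • ε x) := by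
    have e1 : (a * Bs f ε y x - b * d * f y x) • (a • x + b • ε x)
        + (a * f y x - b * Bs f ε y x) • (a • ε x + b • d • x)
        = (a * a - d * (b * b)) • (Bs f ε y x • x + f y x • ε x) := by
      module
    rw [e1, smul_smul]
    congr 1
    have hN' : a ^ 2 - d * b ^ 2 ≠ 0 := by rw [pow_two, pow_two]; exact hN
    field_simp
  rw [e]

end Cfsg.Agent.Helper7.ExtU

namespace Cfsg.Agent.Helper7.ExtU

open Module Cfsg.Agent.Helper7.ExtF Cfsg.Agent.Helper7.ExtS

variable {F : Type*} [Field F] {V : Type*} [AddCommGroup V] [Module F V]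

variable {f : V → V → F} (hf : SForm F f) {ε : V →ₗ[F] V} {d : F} (hu : UData f ε d)
  {ε' : V →ₗ[F] V} (hu' : UData f ε' d)

variable [FiniteDimensional F V]

variable (M : Subgroup (V ≃ₗ[F] V)) (hMf : ∀ g ∈ M, Isom f g)
  (hM : ∀ s : V ≃ₗ[F] V, Isom f s → (∀ x, s (ε x) = ε (s x)) → s ∈ M)
  (hM' : ∀ s : V ≃ₗ[F] V, Isom f s → (∀ x, s (ε' x) = ε' (s x)) → s ∈ M)

include hu hu' hMf hM hM' in
/-- first case: the line of `v` contains a vector which is not isotropic for the second form. -/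
theorem stv_of_line_case1 [Finite F] (hdim : 9 ≤ finrank F V) {v : V} (hqv : qf f ε v ≠ 0)
    (hv : ∀ a b : F, ε' v ≠ ks ε a b v) {a b : F} (hw : qf f ε' (ks ε a b v) ≠ 0) :
    ∀ c : F, stv hf (ks ε a b v) c ∈ M := by
  set w : V := ks ε a b v with hwdef
  have hw0 : w ≠ 0 := ne_zero_of_qf hf hu' hw
  have hab : ¬ (a = 0 ∧ b = 0) := by
    rintro ⟨ha, hb⟩
    apply hw0
    rw [hwdef, ha, hb, ks_zero_zero]
  have hN : a * a - d * (b * b) ≠ 0 := hu.norm_ne_zero hab
  have hqw : qf f ε w ≠ 0 := by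
    rw [hwdef, qf_ks hf hu]; exact mul_ne_zero hN hqv
  have hι : iotaK hf hu w hqw ∈ M := hM _ (isom_iotaK hf hu w hqw) (iotaK_eps hf hu w hqw)
  rw [iotaK_def] at hι
  refine all_stv_of_iota hf hu' M hMf hM' hdim _ hι hw ?_
  intro α β hαβ
  -- `ε' w` lies in the line of `w`
  set kl : Submodule F V := Submodule.span F {w, ε w} with hkl
  have hmem : ∀ z, z ∈ kl ↔ ∃ s t : F, s • w + t • ε w = z := fun z => Submodule.mem_span_pair
  have hβ : β ≠ 0 := by
    intro h0
    rw [h0, ks_apply, zero_smul, add_zero] at hαβ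
    have h1 : ks ε α ((qf f ε w)⁻¹) w = 0 := by
      rw [ks_apply, ← hαβ]; module
    exact inv_ne_zero hqw (ks_eq_zero hf hu hw0 h1).2
  have h1 : ε' w ∈ kl := by
    rw [hmem]
    refine ⟨-(α / β), -((qf f ε w)⁻¹ / β), ?_⟩
    rw [ks_apply] at hαβ
    have : ε' w = β⁻¹ • (-(qf f ε w)⁻¹ • ε w - α • w) := by
      rw [hαβ]
      rw [add_sub_cancel_left, smul_smul, inv_mul_cancel₀ hβ, one_smul]
    rw [this]
    module
  have h2 : ε' (ε w) ∈ kl := by
    have h3 : ε w = (-(qf f ε w)) • (α • w + β • ε' w) := by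
      rw [← ks_apply, ← hαβ, smul_smul]
      have : -qf f ε w * -(qf f ε w)⁻¹ = 1 := by field_simp
      rw [this, one_smul]
    rw [h3, map_smul, map_add, map_smul, map_smul, hu'.sq]
    refine kl.smul_mem _ (kl.add_mem (kl.smul_mem _ h1) (kl.smul_mem _ (kl.smul_mem _ ?_)))
    exact Submodule.subset_span (by simp)
  have hstab : kl ≤ kl.comap ε' := by
    rw [hkl, Submodule.span_le]
    intro z hz
    simp only [Set.mem_insert_iff, Set.mem_singleton_iff] at hz
    rcases hz with rfl | rfl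
    · exact h1
    · exact h2
  have hvkl : v ∈ kl := by
    rw [hmem]
    refine ⟨a / (a * a - d * (b * b)), -(b / (a * a - d * (b * b))), ?_⟩
    rw [← ks_apply, hwdef, ks_ks hu]
    have e1 : a / (a * a - d * (b * b)) * a + d * (-(b / (a * a - d * (b * b))) * b) = 1 := by
      have : a / (a * a - d * (b * b)) * a + d * (-(b / (a * a - d * (b * b))) * b) =
          (a * a - d * (b * b)) / (a * a - d * (b * b)) := by ring
      rw [this, div_self hN]
    have e2 : a / (a * a - d * (b * b)) * b + -(b / (a * a - d * (b * b))) * a = 0 := by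
      ring
    rw [e1, e2, ks_one_zero]
  obtain ⟨s, t, hst⟩ := (hmem _).mp (hstab hvkl)
  apply hv (s * a + d * (t * b)) (s * b + t * a)
  rw [← hst, ← ks_apply, hwdef, ks_ks hu]

include hu hu' hMf hM hM' in
/-- second case: the second form vanishes on the line of `v`. -/
theorem stv_of_line_case2 [Finite F] (hdim : 9 ≤ finrank F V) {v : V} (hqv : qf f ε v ≠ 0)
    (hq'v : qf f ε' v = 0) (hB' : Bs f ε' v (ε v) = 0) :
    ∃ w : V, qf f ε' w ≠ 0 ∧ ∀ c : F, stv hf w c ∈ M := by
  obtain ⟨u, hu1, hqu⟩ := exists_perp_qf_ne_zero hf hu' hdim v (ε v)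
  obtain ⟨e1, e2, e3, e4⟩ := (mem_kperp hf hu').mp hu1
  have hv0 : v ≠ 0 := ne_zero_of_qf hf hu hqv
  have hB'vu : Bs f ε' v u = 0 := by
    change f (ε' v) u = 0
    rw [hf.swap, e2, neg_zero]
  have hq₁ : qf f ε' (v + u) ≠ 0 := by
    rw [qf_add hf hu', hq'v, hB'vu]; simpa using hqu
  have hι : iotaK hf hu v hqv ∈ M := hM _ (isom_iotaK hf hu v hqv) (iotaK_eps hf hu v hqv)
  have hι' : iotaK hf hu' (v + u) hq₁ ∈ M :=
    hM' _ (isom_iotaK hf hu' _ hq₁) (iotaK_eps hf hu' _ hq₁)
  have hconj := M.mul_mem (M.mul_mem hι hι') (M.inv_mem hι)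
  rw [iotaK_def hf hu' , conj_iota hf (isom_iotaK hf hu v hqv)] at hconj
  -- the images
  have hιv : iotaK hf hu v hqv v = -v := by
    have := iotaK_ks hf hu v hqv 1 0
    rwa [ks_one_zero] at this
  have hιu : iotaK hf hu v hqv u = u := iotaK_fix hf hu v hqv e1 e3
  have h5 : f (ε' (v + u)) v = 0 := by
    rw [map_add, hf.add_left]
    have : f (ε' v) v = 0 := hq'v
    rw [this, hu'.adj, e2]; ring
  have h6 : f (ε' (v + u)) (ε v) = 0 := by
    rw [map_add, hf.add_left]
    have : f (ε' v) (ε v) = 0 := hB'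
    rw [this, hu'.adj, e4]; ring
  have hιp : iotaK hf hu v hqv ((-(qf f ε' (v + u))⁻¹) • ε' (v + u)) =
      (-(qf f ε' (v + u))⁻¹) • ε' (v + u) := by
    rw [map_smul, iotaK_fix hf hu v hqv h5 h6]
  have hw : iotaK hf hu v hqv (v + u) = -v + u := by
    rw [map_add, hιv, hιu]
  have hfw : f (-v + u) ((-(qf f ε' (v + u))⁻¹) • ε' (v + u)) = 1 := by
    rw [← hw, ← hιp, isom_iotaK hf hu v hqv, hf.smul_right, f_self_eps hf hu']
    field_simp
  have hmem : iota hf (-v + u) ((-(qf f ε' (v + u))⁻¹) • ε' (v + u)) hfw ∈ M := by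
    have e : ∀ (w₁ w₂ p₁ p₂ : V) (h₁ : f w₁ p₁ = 1) (h₂ : f w₂ p₂ = 1), w₁ = w₂ → p₁ = p₂ →
        iota hf w₁ p₁ h₁ = iota hf w₂ p₂ h₂ := by
      intro w₁ w₂ p₁ p₂ h₁ h₂ e₁ e₂; subst e₁ e₂; rfl
    rw [← e _ _ _ _ _ hfw hw hιp]
    exact hconj
  have hqw : qf f ε' (-v + u) ≠ 0 := by
    rw [qf_add hf hu', qf_neg hf hu', hq'v]
    have : Bs f ε' (-v) u = 0 := by
      have := Bs_smul_left hf hu' (-1) v u
      rw [neg_one_smul, hB'vu, mul_zero] at this
      exact this
    rw [this]; simpa using hqu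
  refine ⟨-v + u, hqw, all_stv_of_iota hf hu' M hMf hM' hdim hfw hmem hqw ?_⟩
  intro α β hαβ
  rw [ks_apply] at hαβ
  set c : F := -(qf f ε' (v + u))⁻¹ with hc
  have hc0 : c ≠ 0 := neg_ne_zero.mpr (inv_ne_zero hq₁)
  -- pairings with `u` and `ε' u`
  have p1 : f (ε' v) u = 0 := hB'vu
  have p2 : f (ε' u) u = qf f ε' u := rfl
  have p3 : f v u = 0 := by rw [hf.swap, e1, neg_zero]
  have p4 : f (ε' v) (ε' u) = 0 := by rw [f_eps_eps hf hu', p3, mul_zero]
  have p5 : f v (ε' u) = 0 := by
    have := hu'.adj v u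
    rw [p1] at this
    rw [← neg_eq_zero, ← this]
  have p6 : f u (ε' u) = - qf f ε' u := f_self_eps hf hu' u
  have p7 : f (ε' u) (ε' u) = 0 := hf.self _
  have k1 := congrArg (fun z => f z u) hαβ
  have k2 := congrArg (fun z => f z (ε' u)) hαβ
  simp only [map_add, map_neg, hf.add_left, hf.smul_left, hf.neg_left, p1, p2, p3, p4, p5, p6, p7,
    hf.self] at k1 k2
  have hβ : β = c := by
    have : (β - c) * qf f ε' u = 0 := by linear_combination -k1
    rcases mul_eq_zero.mp this with h | h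
    · exact sub_eq_zero.mp h
    · exact absurd h hqu
  have hα : α = 0 := by
    have : α * qf f ε' u = 0 := by linear_combination k2
    rcases mul_eq_zero.mp this with h | h
    · exact h
    · exact absurd h hqu
  rw [hα, hβ, zero_smul, zero_add, map_add, map_add, map_neg] at hαβ
  have h7 : (2 * c) • ε' v = 0 := by
    have : c • (ε' v + ε' u) - c • (-ε' v + ε' u) = 0 := by rw [← hαβ, sub_self]
    rw [← this]; module
  rcases smul_eq_zero.mp h7 with h | h
  · exact (mul_ne_zero hu.two hc0) h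
  · exact hv0 (hu'.eps_inj h)

include hu hu' hMf hM hM' in
/-- if a hyperbolic line of the first extension is not stable under the second, the overgroup
contains the transvections centred at a vector which is not isotropic for the second form. -/
theorem exists_stv_of_line [Finite F] (hdim : 9 ≤ finrank F V) {v : V} (hqv : qf f ε v ≠ 0)
    (hv : ∀ a b : F, ε' v ≠ ks ε a b v) :
    ∃ w : V, qf f ε' w ≠ 0 ∧ ∀ c : F, stv hf w c ∈ M := by
  by_cases h : ∃ a b : F, qf f ε' (ks ε a b v) ≠ 0
  · obtain ⟨a, b, hab⟩ := h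
    exact ⟨_, hab, stv_of_line_case1 hf hu hu' M hMf hM hM' hdim hqv hv hab⟩
  · push Not at h
    have h1 : qf f ε' v = 0 := by
      have := h 1 0
      rwa [ks_one_zero] at this
    have h2 : qf f ε' (ε v) = 0 := by
      have := h 0 1
      rwa [ks_zero_one] at this
    have h3 : qf f ε' (v + ε v) = 0 := by
      have := h 1 1
      rw [ks_apply, one_smul, one_smul] at this
      exact this
    have h4 : Bs f ε' v (ε v) = 0 := by
      rw [qf_add hf hu', h1, h2] at h3
      have : 2 * Bs f ε' v (ε v) = 0 := by linear_combination h3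
      rcases mul_eq_zero.mp this with h | h
      · exact absurd h hu.two
      · exact h
    exact stv_of_line_case2 hf hu hu' M hMf hM hM' hdim hqv h1 h4

end Cfsg.Agent.Helper7.ExtU
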