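import Cfsg.Agent.Helper7.ExtUG

set_option autoImplicit false
set_option linter.unusedSectionVars false
set_option linter.unusedVariables false

/-! Unitary subgroups of symplectic groups (helper7): a second structure `ε'` which stabilises
every non-isotropic line of the first structure `ε` is `ε` or `-ε`. -/

namespace Cfsg.Agent.Helper7.ExtU

open Module Cfsg.Agent.Helper7.ExtF Cfsg.Agent.Helper7.ExtS

variable {F : Type*} [Field F] {V : Type*} [AddCommGroup V] [Module F V]

variable {f : V → V → F} (hf : SForm F f) {ε : V →ₗ[F] V} {d : F} (hu : UData f ε d)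
  {ε' : V →ₗ[F] V} (hu' : UData f ε' d)

include hf hu in
/-- two orthogonal non-isotropic vectors with non-isotropic sum carry the same coefficients. -/
theorem same_coeff_of_perp (hX : ∀ v, qf f ε v ≠ 0 → ∃ a b : F, ε' v = ks ε a b v) {a b : F}
    {x y : V} (hx : ε' x = ks ε a b x) (hqx : qf f ε x ≠ 0) (hqy : qf f ε y ≠ 0)
    (h1 : f x y = 0) (h2 : f (ε x) y = 0) (hsum : qf f ε x + qf f ε y ≠ 0) :
    ε' y = ks ε a b y := by
  obtain ⟨a', b', hy⟩ := hX y hqy
  have hB : Bs f ε x y = 0 := h2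
  have hqxy : qf f ε (x + y) ≠ 0 := by
    rw [qf_add hf hu, hB, mul_zero, add_zero]; exact hsum
  obtain ⟨a'', b'', hxy⟩ := hX (x + y) hqxy
  rw [map_add, ks_add, hx, hy] at hxy
  have key : ks ε (a - a'') (b - b'') x = ks ε (a'' - a') (b'' - b') y := by
    rw [← ks_sub_coeff, ← ks_sub_coeff]
    rw [sub_eq_sub_iff_add_eq_add, hxy]; abel
  have hy0 : y ≠ 0 := ne_zero_of_qf hf hu hqy
  -- pair with `x`
  have e1 := congrArg (fun z => Bs f ε x z) key
  simp only [Bs_ks_right hf hu, hB, h1, hf.self, mul_zero, sub_zero] at e1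
  have e2 := congrArg (fun z => f x z) key
  simp only [f_ks_right hf hu, hB, h1, hf.self, mul_zero, sub_zero, zero_sub] at e2
  have hα : a - a'' = 0 := by
    rcases mul_eq_zero.mp e1 with h | h
    · exact h
    · exact absurd h hqx
  have hβ : b - b'' = 0 := by
    have : (b - b'') * Bs f ε x x = 0 := by
      have := neg_eq_zero.mp e2
      exact this
    rcases mul_eq_zero.mp this with h | h
    · exact h
    · exact absurd h hqx
  rw [hα, hβ, ks_zero_zero] at key
  obtain ⟨hγ, hδ⟩ := ks_eq_zero hf hu hy0 key.symm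
  have ea : a' = a := by
    have h3 : a = a'' := sub_eq_zero.mp hα
    have h4 : a'' = a' := sub_eq_zero.mp hγ
    rw [h3, h4]
  have eb : b' = b := by
    have h3 : b = b'' := sub_eq_zero.mp hβ
    have h4 : b'' = b' := sub_eq_zero.mp hδ
    rw [h3, h4]
  rw [hy, ea, eb]

variable [FiniteDimensional F V]

include hf hu in
/-- the same without the condition on the sum. -/
theorem same_coeff_of_perp' [Finite F] (hdim : 9 ≤ finrank F V)
    (hX : ∀ v, qf f ε v ≠ 0 → ∃ a b : F, ε' v = ks ε a b v) {a b : F}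
    {x y : V} (hx : ε' x = ks ε a b x) (hqx : qf f ε x ≠ 0) (hqy : qf f ε y ≠ 0)
    (h1 : f x y = 0) (h2 : f (ε x) y = 0) : ε' y = ks ε a b y := by
  by_cases hsum : qf f ε x + qf f ε y ≠ 0
  · exact same_coeff_of_perp hf hu hX hx hqx hqy h1 h2 hsum
  · push Not at hsum
    obtain ⟨z, hz, hqz⟩ := exists_perp_qf_eq hf hu hdim x y (qf f ε x)
    obtain ⟨z1, z2, z3, z4⟩ := (mem_kperp hf hu).mp hz
    have hxz : f x z = 0 := by rw [hf.swap, z1, neg_zero]
    have hexz : f (ε x) z = 0 := by rw [hf.swap, z2, neg_zero]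
    have h22 : qf f ε x + qf f ε x ≠ 0 := by
      rw [← two_mul]; exact mul_ne_zero hu.two hqx
    have hzS : ε' z = ks ε a b z :=
      same_coeff_of_perp hf hu hX hx hqx (by rw [hqz]; exact hqx) hxz hexz (by rw [hqz]; exact h22)
    have hxzS : ε' (x + z) = ks ε a b (x + z) := by
      rw [map_add, ks_add, hx, hzS]
    have hBxz : Bs f ε x z = 0 := hexz
    have hqxz : qf f ε (x + z) = qf f ε x + qf f ε x := by
      rw [qf_add hf hu, hBxz, hqz]; ring
    have hezy : f (ε z) y = 0 := by rw [hu.adj, z4, neg_zero]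
    refine same_coeff_of_perp hf hu hX hxzS (by rw [hqxz]; exact h22) hqy ?_ ?_ ?_
    · rw [hf.add_left, h1, z3, add_zero]
    · rw [map_add, hf.add_left, h2, hezy, add_zero]
    · rw [hqxz]
      have : qf f ε y = - qf f ε x := eq_neg_of_add_eq_zero_right hsum
      rw [this]
      have : qf f ε x + qf f ε x + -qf f ε x = qf f ε x := by ring
      rw [this]; exact hqx

include hf hu in
/-- all non-isotropic vectors carry the same coefficients. -/
theorem same_coeff [Finite F] (hdim : 9 ≤ finrank F V)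
    (hX : ∀ v, qf f ε v ≠ 0 → ∃ a b : F, ε' v = ks ε a b v) {a b : F}
    {x y : V} (hx : ε' x = ks ε a b x) (hqx : qf f ε x ≠ 0) (hqy : qf f ε y ≠ 0) :
    ε' y = ks ε a b y := by
  obtain ⟨z, hz, hqz⟩ := exists_perp_qf_ne_zero hf hu hdim x y
  obtain ⟨z1, z2, z3, z4⟩ := (mem_kperp hf hu).mp hz
  have hxz : f x z = 0 := by rw [hf.swap, z1, neg_zero]
  have hexz : f (ε x) z = 0 := by rw [hf.swap, z2, neg_zero]
  have hzS : ε' z = ks ε a b z := same_coeff_of_perp' hf hu hdim hX hx hqx hqz hxz hexz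
  have hezy : f (ε z) y = 0 := by rw [hu.adj, z4, neg_zero]
  exact same_coeff_of_perp' hf hu hdim hX hzS hqz hqy z3 hezy

include hf hu in
/-- the second structure acts on the whole space through fixed coefficients. -/
theorem exists_coeff [Finite F] (hdim : 9 ≤ finrank F V)
    (hX : ∀ v, qf f ε v ≠ 0 → ∃ a b : F, ε' v = ks ε a b v) :
    ∃ (x₀ : V) (a b : F), x₀ ≠ 0 ∧ ∀ v, ε' v = ks ε a b v := by
  obtain ⟨x₀, -, hq0⟩ := exists_perp_qf_ne_zero hf hu hdim (0 : V) 0
  obtain ⟨a, b, h0⟩ := hX x₀ hq0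
  refine ⟨x₀, a, b, ne_zero_of_qf hf hu hq0, fun v => ?_⟩
  by_cases hqv : qf f ε v ≠ 0
  · exact same_coeff hf hu hdim hX h0 hq0 hqv
  · obtain ⟨s, hs⟩ := exists_quadratic_ne_zero hu.two hq0 (2 * Bs f ε v x₀) (qf f ε v)
    have hq1 : qf f ε (v + s • x₀) ≠ 0 := by
      rw [qf_add hf hu, Bs_smul_right hf hu, qf_smul hf hu]
      intro h
      apply hs
      linear_combination h
    have h1 := same_coeff hf hu hdim hX h0 hq0 hq1
    rw [map_add, map_smul, ks_add, ks_smul, h0] at h1
    exact add_right_cancel h1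

include hf hu hu' in
/-- **Claim X.** A second structure stabilising all non-isotropic lines is `±` the first. -/
theorem eq_or_eq_neg_of_forall [Finite F] (hdim : 9 ≤ finrank F V)
    (hX : ∀ v, qf f ε v ≠ 0 → ∃ a b : F, ε' v = ks ε a b v) :
    (∀ x, ε' x = ε x) ∨ (∀ x, ε' x = - ε x) := by
  obtain ⟨x₀, a, b, hx0, hall⟩ := exists_coeff hf hu hdim hX
  have hsq := hu'.sq x₀
  rw [hall x₀, hall (ks ε a b x₀), ks_ks hu] at hsq
  have hd : d • x₀ = ks ε d 0 x₀ := by rw [ks_apply, zero_smul, add_zero]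
  rw [hd] at hsq
  obtain ⟨e1, e2⟩ := ks_inj hf hu hx0 hsq
  have hab : a * b = 0 := by
    have : 2 * (a * b) = 0 := by linear_combination e2
    rcases mul_eq_zero.mp this with h | h
    · exact absurd h hu.two
    · exact h
  have ha : a = 0 := by
    rcases mul_eq_zero.mp hab with h | h
    · exact h
    · exfalso
      rw [h, mul_zero, mul_zero, add_zero] at e1
      exact hu.nonsq a e1
  have hb : b * b = 1 := by
    rw [ha, mul_zero, zero_add] at e1
    have : d * (b * b) = d * 1 := by rw [mul_one]; exact e1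
    exact mul_left_cancel₀ hu.d_ne_zero this
  rcases mul_self_eq_one_iff.mp hb with h | h
  · left
    intro x
    rw [hall x, ha, h, ks_zero_one]
  · right
    intro x
    rw [hall x, ha, h, ks_apply, zero_smul, zero_add, neg_one_smul]

end Cfsg.Agent.Helper7.ExtU
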