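import Cfsg.Agent.Helper7.ExtUH

set_option autoImplicit false
set_option linter.unusedSectionVars false
set_option linter.unusedVariables false

/-! Unitary subgroups of symplectic groups (helper7): an overgroup of the unitary group which
contains all the transvections centred at one non-isotropic vector contains all transvections. -/

namespace Cfsg.Agent.Helper7.ExtU

open Module Cfsg.Agent.Helper7.ExtF Cfsg.Agent.Helper7.ExtS

variable {F : Type*} [Field F] {V : Type*} [AddCommGroup V] [Module F V]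

variable {f : V → V → F} (hf : SForm F f) {ε : V →ₗ[F] V} {d : F} (hu : UData f ε d)

variable [FiniteDimensional F V]

theorem iota_eq_of_eq {w₁ w₂ p₁ p₂ : V} (h₁ : f w₁ p₁ = 1) (h₂ : f w₂ p₂ = 1) (e₁ : w₁ = w₂)
    (e₂ : p₁ = p₂) : iota hf w₁ p₁ h₁ = iota hf w₂ p₂ h₂ := by
  subst e₁ e₂; rfl

variable (M : Subgroup (V ≃ₗ[F] V)) (hMf : ∀ g ∈ M, Isom f g)
  (hM : ∀ s : V ≃ₗ[F] V, Isom f s → (∀ x, s (ε x) = ε (s x)) → s ∈ M)

include hu hMf hM in
/-- propagation along an edge: `v` non-isotropic, `f v w = 0`, `B v w ≠ 0`. -/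
theorem good_of_edge [Finite F] (hdim : 9 ≤ finrank F V) {v w : V} (hqv : qf f ε v ≠ 0)
    (hfvw : f v w = 0) (hB : Bs f ε v w ≠ 0) (hw : ∀ c : F, stv hf w c ∈ M) :
    ∀ c : F, stv hf v c ∈ M := by
  by_cases hK : ∃ γ δ : F, w = ks ε γ δ v
  · obtain ⟨γ, δ, hwv⟩ := hK
    have h1 : f v w = -δ * qf f ε v := by
      rw [hwv, f_ks_right hf hu, hf.self, mul_zero, zero_sub, neg_mul]; rfl
    have hδ : δ = 0 := by
      rw [hfvw] at h1
      rcases mul_eq_zero.mp h1.symm with h | h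
      · exact neg_eq_zero.mp h
      · exact absurd h hqv
    rw [hδ, ks_apply, zero_smul, add_zero] at hwv
    have hγ : γ ≠ 0 := by
      rintro rfl
      rw [zero_smul] at hwv
      apply hB
      rw [hwv]
      exact hf.zero_right _
    intro c
    have := hw (γ⁻¹ * γ⁻¹ * c)
    rw [hwv, stv_smul] at this
    have e : γ * γ * (γ⁻¹ * γ⁻¹ * c) = c := by field_simp
    rwa [e] at this
  · push Not at hK
    set p : V := (-(qf f ε v)⁻¹) • ε v with hp
    have hvp : f v p = 1 := by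
      rw [hp, hf.smul_right, f_self_eps hf hu]; field_simp
    have hι : iotaK hf hu v hqv ∈ M := hM _ (isom_iotaK hf hu v hqv) (iotaK_eps hf hu v hqv)
    have hconj := M.mul_mem (M.mul_mem (hw 1) hι) (M.inv_mem (hw 1))
    rw [iotaK_def hf hu, conj_iota hf (isom_stv hf w 1)] at hconj
    set φ : F := f p w with hφ
    have hφ' : φ = -(qf f ε v)⁻¹ * Bs f ε v w := by
      rw [hφ, hp, hf.smul_left]; rfl
    have hφ0 : φ ≠ 0 := by
      rw [hφ']
      exact mul_ne_zero (neg_ne_zero.mpr (inv_ne_zero hqv)) hB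
    have htv : stv hf w 1 v = v := by
      rw [stv_apply, hfvw, mul_zero, zero_smul, add_zero]
    have htp : stv hf w 1 p = p + φ • w := by
      rw [stv_apply, one_mul]
    have h₁ : f v (p + φ • w) = 1 := by
      rw [hf.add_right, hvp, hf.smul_right, hfvw, mul_zero, add_zero]
    have hmem : iota hf v (p + φ • w) h₁ ∈ M := by
      rw [← iota_eq_of_eq hf _ h₁ htv htp]
      exact hconj
    refine all_stv_of_iota hf hu M hMf hM hdim h₁ hmem hqv ?_
    intro α β hαβ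
    rw [ks_apply] at hαβ
    have h2 : φ • w = α • v + (β + (qf f ε v)⁻¹) • ε v := by
      rw [← eq_sub_iff_add_eq'] at hαβ
      rw [hαβ, hp]
      module
    have h3 : w = ks ε (φ⁻¹ * α) (φ⁻¹ * (β + (qf f ε v)⁻¹)) v := by
      have : w = φ⁻¹ • (φ • w) := by rw [smul_smul, inv_mul_cancel₀ hφ0, one_smul]
      rw [this, h2, ks_apply]
      module
    exact hK _ _ h3

include hu hMf hM in
/-- two perpendicular non-isotropic vectors with non-isotropic sum. -/
theorem good_add [Finite F] (hdim : 9 ≤ finrank F V) {w z : V} (hqw : qf f ε w ≠ 0)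
    (hqz : qf f ε z ≠ 0) (h1 : f z w = 0) (h2 : f z (ε w) = 0)
    (hsum : qf f ε w + qf f ε z ≠ 0) (hw : ∀ c : F, stv hf w c ∈ M) :
    (∀ c : F, stv hf (w + z) c ∈ M) ∧ ∀ c : F, stv hf z c ∈ M := by
  have hBwz : Bs f ε w z = 0 := by
    change f (ε w) z = 0
    rw [hf.swap, h2, neg_zero]
  have hBzw : Bs f ε z w = 0 := by rw [Bs_symm hf hu]; exact hBwz
  have hqv : qf f ε (w + z) ≠ 0 := by
    rw [qf_add hf hu, hBwz, mul_zero, add_zero]; exact hsum
  have hv : ∀ c : F, stv hf (w + z) c ∈ M := by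
    refine good_of_edge hf hu M hMf hM hdim hqv ?_ ?_ hw
    · rw [hf.add_left, hf.self, h1, add_zero]
    · rw [Bs_add_left hf hu, hBzw, add_zero]; exact hqw
  refine ⟨hv, good_of_edge hf hu M hMf hM hdim hqz ?_ ?_ hv⟩
  · rw [hf.add_right, h1, hf.self, add_zero]
  · rw [Bs_add_right hf hu, hBzw, zero_add]; exact hqz

include hu hMf hM in
theorem good_chain [Finite F] (hdim : 9 ≤ finrank F V) {w u : V} (hqw : qf f ε w ≠ 0)
    (hqu : qf f ε u ≠ 0) (hsum : qf f ε w + qf f ε u ≠ 0) (hw : ∀ c : F, stv hf w c ∈ M) :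
    ∀ c : F, stv hf u c ∈ M := by
  obtain ⟨z, hz, hqz⟩ := exists_perp_qf_eq hf hu hdim w u (qf f ε w)
  obtain ⟨z1, z2, z3, z4⟩ := (mem_kperp hf hu).mp hz
  have h22 : qf f ε w + qf f ε w ≠ 0 := by
    rw [← two_mul]; exact mul_ne_zero hu.two hqw
  have hqz' : qf f ε z ≠ 0 := by rw [hqz]; exact hqw
  have hzG : ∀ c : F, stv hf z c ∈ M :=
    (good_add hf hu M hMf hM hdim hqw hqz' z1 z2 (by rw [hqz]; exact h22) hw).2
  refine (good_add hf hu M hMf hM hdim hqz' hqu ?_ ?_ (by rw [hqz]; exact hsum) hzG).2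
  · rw [hf.swap, z3, neg_zero]
  · rw [hf.swap, hu.adj, z4]; ring

include hu hMf hM in
/-- all non-isotropic centres. -/
theorem good_of_qf_ne_zero [Finite F] (hdim : 9 ≤ finrank F V) {w u : V} (hqw : qf f ε w ≠ 0)
    (hqu : qf f ε u ≠ 0) (hw : ∀ c : F, stv hf w c ∈ M) : ∀ c : F, stv hf u c ∈ M := by
  by_cases hsum : qf f ε w + qf f ε u ≠ 0
  · exact good_chain hf hu M hMf hM hdim hqw hqu hsum hw
  · push Not at hsum
    obtain ⟨z, hz, hqz⟩ := exists_perp_qf_eq hf hu hdim w u (qf f ε w)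
    obtain ⟨z1, z2, z3, z4⟩ := (mem_kperp hf hu).mp hz
    have h22 : qf f ε w + qf f ε w ≠ 0 := by
      rw [← two_mul]; exact mul_ne_zero hu.two hqw
    have hqz' : qf f ε z ≠ 0 := by rw [hqz]; exact hqw
    have hG : ∀ c : F, stv hf (w + z) c ∈ M :=
      (good_add hf hu M hMf hM hdim hqw hqz' z1 z2 (by rw [hqz]; exact h22) hw).1
    have hBwz : Bs f ε w z = 0 := by
      change f (ε w) z = 0
      rw [hf.swap, z2, neg_zero]
    have hq' : qf f ε (w + z) = qf f ε w + qf f ε w := by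
      rw [qf_add hf hu, hBwz, hqz]; ring
    refine good_chain hf hu M hMf hM hdim (by rw [hq']; exact h22) hqu ?_ hG
    rw [hq']
    have : qf f ε u = - qf f ε w := eq_neg_of_add_eq_zero_right hsum
    rw [this]
    have : qf f ε w + qf f ε w + -qf f ε w = qf f ε w := by ring
    rw [this]; exact hqw

omit [FiniteDimensional F V] in
/-- an element avoiding two given values. -/
theorem exists_ne_ne (h2 : (2 : F) ≠ 0) (s₁ s₂ : F) : ∃ c : F, c ≠ s₁ ∧ c ≠ s₂ := by
  obtain ⟨c, hc⟩ := exists_quadratic_ne_zero h2 (one_ne_zero (α := F)) (-(s₁ + s₂)) (s₁ * s₂)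
  refine ⟨c, ?_, ?_⟩
  · rintro rfl
    apply hc; ring
  · rintro rfl
    apply hc; ring

include hu hMf hM in
/-- all centres. -/
theorem good_all [Finite F] (hdim : 9 ≤ finrank F V) {w : V} (hqw : qf f ε w ≠ 0)
    (hw : ∀ c : F, stv hf w c ∈ M) (a : V) : ∀ c : F, stv hf a c ∈ M := by
  by_cases ha : a = 0
  · intro c
    rw [ha, stv_zero]; exact M.one_mem
  by_cases hqa : qf f ε a ≠ 0
  · exact good_of_qf_ne_zero hf hu M hMf hM hdim hqw hqa hw
  push Not at hqa
  obtain ⟨v₀, hv₀⟩ := hf.nondeg a ha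
  obtain ⟨k, hk1, hk2⟩ := exists_ne_ne hu.two (-(qf f ε v₀)) (-(qf f ε v₀) + 2 * Bs f ε a v₀)
  obtain ⟨y, hy, hqy⟩ := exists_perp_qf_eq hf hu hdim a v₀ k
  obtain ⟨y1, y2, y3, y4⟩ := (mem_kperp hf hu).mp hy
  have hBvy : Bs f ε v₀ y = 0 := by
    change f (ε v₀) y = 0
    rw [hf.swap, y4, neg_zero]
  have hBay : Bs f ε a y = 0 := by
    change f (ε a) y = 0
    rw [hf.swap, y2, neg_zero]
  have hq1 : qf f ε (v₀ + y) ≠ 0 := by
    rw [qf_add hf hu, hBvy, hqy, mul_zero, add_zero]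
    intro h
    exact hk1 (eq_neg_of_add_eq_zero_right h)
  have hq2 : qf f ε (a - (v₀ + y)) ≠ 0 := by
    rw [qf_sub hf hu, hqa, Bs_add_right hf hu, hBay, qf_add hf hu, hBvy, hqy]
    intro h
    apply hk2
    linear_combination h
  have hG1 := good_of_qf_ne_zero hf hu M hMf hM hdim hqw hq1 hw
  have hG2 := good_of_qf_ne_zero hf hu M hMf hM hdim hqw hq2 hw
  have hφ : f a (v₀ + y) = f a v₀ := by
    rw [hf.add_right, hf.swap a y, y1, neg_zero, add_zero]
  have hφ0 : f a (v₀ + y) ≠ 0 := by rw [hφ]; exact hv₀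
  have hm : stv hf (v₀ + y) (f a (v₀ + y))⁻¹ (a - (v₀ + y)) = a := by
    rw [stv_apply, hf.sub_left, hf.self, sub_zero, inv_mul_cancel₀ hφ0, one_smul, sub_add_cancel]
  intro c
  have := M.mul_mem (M.mul_mem (hG1 (f a (v₀ + y))⁻¹) (hG2 c)) (M.inv_mem (hG1 (f a (v₀ + y))⁻¹))
  rwa [conj_stv hf (isom_stv hf _ _), hm] at this

variable {ε' : V →ₗ[F] V} (hu' : UData f ε' d)
  (hM' : ∀ s : V ≃ₗ[F] V, Isom f s → (∀ x, s (ε' x) = ε' (s x)) → s ∈ M)

include hu hu' hMf hM hM' in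
/-- **Main theorem (abstract form).** A group of isometries containing the unitary groups of two
structures which differ by more than a sign contains all symplectic transvections. -/
theorem all_stv_of_two [Finite F] (hdim : 9 ≤ finrank F V)
    (hne : ¬ ((∀ x, ε' x = ε x) ∨ (∀ x, ε' x = - ε x))) (a : V) (c : F) : stv hf a c ∈ M := by
  have h1 : ∃ v, qf f ε v ≠ 0 ∧ ∀ a b : F, ε' v ≠ ks ε a b v := by
    by_contra hcon
    push Not at hcon
    exact hne (eq_or_eq_neg_of_forall hf hu hu' hdim hcon)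
  obtain ⟨v, hqv, hv⟩ := h1
  obtain ⟨w, hqw, hw⟩ := exists_stv_of_line hf hu hu' M hMf hM hM' hdim hqv hv
  exact good_all hf hu' M hMf hM' hdim hqw hw a c

end Cfsg.Agent.Helper7.ExtU
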