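import Cfsg.Agent.Helper7.ExtUI

set_option autoImplicit false
set_option linter.unusedSectionVars false
set_option linter.unusedSimpArgs false
set_option linter.unusedVariables false

/-! Unitary subgroups of symplectic groups (helper7): the matrix form.  A quadratic extension field
inside the matrix algebra which is closed under adjoints but not self-adjoint for the standard
alternating form is `F[E]` with `E` anti-self-adjoint, `E² = d` a non-square. -/

namespace Cfsg.Agent.Helper7.ExtU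

open Module Matrix Cfsg Cfsg.Agent.Helper7.ExtF Cfsg.Agent.Helper7.ExtS Cfsg.Agent.Helper7.Symp
  Cfsg.Agent.S5645

variable {F : Type*} [Field F] {m : ℕ}

/-- the standard alternating form over the ground field. -/
theorem sform_symp : SForm F (sympForm m F) :=
  { add_left := sympForm_add_left
    smul_left := sympForm_smul_left
    swap := sympForm_swap
    nondeg := fun x hx => exists_sympForm_ne_zero hx
    sa := fun k x y => by rw [sympForm_smul_left, sympForm_smul_right]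
    kalt := fun k x => by rw [sympForm_smul_left, sympForm_self, mul_zero] }

theorem matrix_eq_of_mulVec {A B : Matrix (Fin m ⊕ Fin m) (Fin m ⊕ Fin m) F}
    (h : ∀ x, A *ᵥ x = B *ᵥ x) : A = B := by
  apply Matrix.toLin'.injective
  apply LinearMap.ext
  intro x
  rw [Matrix.toLin'_apply, Matrix.toLin'_apply, h x]

/-- a matrix which is self-adjoint and anti-self-adjoint vanishes. -/
theorem eq_zero_of_self_anti (h2 : (2 : F) ≠ 0) {A : Matrix (Fin m ⊕ Fin m) (Fin m ⊕ Fin m) F}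
    (hs : ∀ u v, sympForm m F (A *ᵥ u) v = sympForm m F u (A *ᵥ v))
    (ha : ∀ u v, sympForm m F (A *ᵥ u) v = - sympForm m F u (A *ᵥ v)) : A = 0 := by
  apply matrix_eq_of_mulVec
  intro u
  rw [Matrix.zero_mulVec]
  by_contra hne
  obtain ⟨y, hy⟩ := exists_sympForm_ne_zero hne
  apply hy
  have h1 := hs u y
  have h3 := ha u y
  have : 2 * sympForm m F (A *ᵥ u) y = 0 := by linear_combination h1 + h3
  rcases mul_eq_zero.mp this with h | h
  · exact absurd h h2
  · exact h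

/-- the anti-self-adjoint generator. -/
theorem exists_anti (K : Subalgebra F (Matrix (Fin m ⊕ Fin m) (Fin m ⊕ Fin m) F))
    (hac : Cfsg.Geo.IsAdjointClosedFor (Cfsg.sympForm m F) K)
    (hnsa : ¬ Cfsg.Geo.IsSelfAdjointFor (Cfsg.sympForm m F) K) :
    ∃ E ∈ K, E ≠ 0 ∧ ∀ u v, sympForm m F (E *ᵥ u) v = - sympForm m F u (E *ᵥ v) := by
  unfold Cfsg.Geo.IsSelfAdjointFor at hnsa
  push Not at hnsa
  obtain ⟨k, hk, u₀, v₀, huv⟩ := hnsa
  obtain ⟨k', hk', hadj⟩ := hac k hk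
  have hadj' : ∀ u v, sympForm m F (k' *ᵥ u) v = sympForm m F u (k *ᵥ v) := by
    intro u v
    rw [sympForm_swap, ← hadj v u, sympForm_swap (k *ᵥ v) u, neg_neg]
  refine ⟨k - k', K.sub_mem hk hk', ?_, ?_⟩
  · intro h
    have hkk : k = k' := sub_eq_zero.mp h
    apply huv
    rw [hadj u₀ v₀, ← hkk]
  · intro u v
    rw [Matrix.sub_mulVec, Matrix.sub_mulVec, sympForm_sub_left, sympForm_sub_right, hadj, hadj']
    ring

/-- a non-zero anti-self-adjoint matrix is not a scalar. -/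
theorem anti_ne_smul_one (h2 : (2 : F) ≠ 0) (hm : 1 ≤ m)
    {E : Matrix (Fin m ⊕ Fin m) (Fin m ⊕ Fin m) F} (hE0 : E ≠ 0)
    (ha : ∀ u v, sympForm m F (E *ᵥ u) v = - sympForm m F u (E *ᵥ v)) (a : F) :
    E ≠ a • (1 : Matrix (Fin m ⊕ Fin m) (Fin m ⊕ Fin m) F) := by
  intro h
  apply hE0
  refine eq_zero_of_self_anti h2 ?_ ha
  intro u v
  rw [h, Matrix.smul_mulVec, Matrix.one_mulVec, Matrix.smul_mulVec, Matrix.one_mulVec,
    sympForm_smul_left, sympForm_smul_right]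

/-- a field of degree two is spanned by `1` and any non-scalar element. -/
theorem exists_coeffs (hm : 1 ≤ m) {K : Subalgebra F (Matrix (Fin m ⊕ Fin m) (Fin m ⊕ Fin m) F)}
    (hK : Cfsg.Geo.IsFieldSubalgebra 2 K) {E : Matrix (Fin m ⊕ Fin m) (Fin m ⊕ Fin m) F}
    (hE : E ∈ K) (hEs : ∀ a : F, E ≠ a • (1 : Matrix (Fin m ⊕ Fin m) (Fin m ⊕ Fin m) F))
    {k : Matrix (Fin m ⊕ Fin m) (Fin m ⊕ Fin m) F} (hk : k ∈ K) :
    ∃ a b : F, k = a • (1 : Matrix (Fin m ⊕ Fin m) (Fin m ⊕ Fin m) F) + b • E := by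
  haveI : FiniteDimensional F ↥K := FEx.finrank_pos_of (by norm_num) hK
  haveI : Nonempty (Fin m ⊕ Fin m) := ⟨Sum.inl ⟨0, hm⟩⟩
  have hone : (1 : Matrix (Fin m ⊕ Fin m) (Fin m ⊕ Fin m) F) ≠ 0 := one_ne_zero
  let v : Fin 3 → ↥K := ![⟨1, K.one_mem⟩, ⟨E, hE⟩, ⟨k, hk⟩]
  have hnli : ¬ LinearIndependent F v := by
    intro hli
    have := hli.fintype_card_le_finrank
    rw [hK.finrank_eq, Fintype.card_fin] at this
    omega
  rw [Fintype.not_linearIndependent_iff] at hnli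
  obtain ⟨g, hg, hne⟩ := hnli
  rw [Fin.sum_univ_three] at hg
  have hg' : g 0 • (1 : Matrix (Fin m ⊕ Fin m) (Fin m ⊕ Fin m) F) + g 1 • E + g 2 • k = 0 := by
    have := congrArg Subtype.val hg
    simpa [v] using this
  by_cases h2 : g 2 = 0
  · exfalso
    rw [h2, zero_smul, add_zero] at hg'
    by_cases h1 : g 1 = 0
    · rw [h1, zero_smul, add_zero] at hg'
      have h0 : g 0 = 0 := (smul_eq_zero.mp hg').resolve_right hone
      obtain ⟨i, hi⟩ := hne
      fin_cases i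
      · exact hi h0
      · exact hi h1
      · exact hi h2
    · apply hEs (-(g 0) / g 1)
      have : g 1 • E = -(g 0) • (1 : Matrix (Fin m ⊕ Fin m) (Fin m ⊕ Fin m) F) := by
        rw [neg_smul]
        exact eq_neg_of_add_eq_zero_right hg'
      have h3 : E = (g 1)⁻¹ • (g 1 • E) := by rw [smul_smul, inv_mul_cancel₀ h1, one_smul]
      rw [h3, this, smul_smul]
      congr 1
      field_simp
  · refine ⟨-(g 0) / g 2, -(g 1) / g 2, ?_⟩
    have : g 2 • k = -(g 0) • (1 : Matrix (Fin m ⊕ Fin m) (Fin m ⊕ Fin m) F) + -(g 1) • E := by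
      rw [neg_smul, neg_smul, ← neg_add]
      exact eq_neg_of_add_eq_zero_right hg'
    have h3 : k = (g 2)⁻¹ • (g 2 • k) := by rw [smul_smul, inv_mul_cancel₀ h2, one_smul]
    rw [h3, this, smul_add, smul_smul, smul_smul]
    congr 2 <;> field_simp

/-- the square of the generator is a scalar. -/
theorem exists_sq_eq (h2 : (2 : F) ≠ 0) (hm : 1 ≤ m)
    {K : Subalgebra F (Matrix (Fin m ⊕ Fin m) (Fin m ⊕ Fin m) F)}
    (hK : Cfsg.Geo.IsFieldSubalgebra 2 K) {E : Matrix (Fin m ⊕ Fin m) (Fin m ⊕ Fin m) F}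
    (hE : E ∈ K) (hE0 : E ≠ 0)
    (ha : ∀ u v, sympForm m F (E *ᵥ u) v = - sympForm m F u (E *ᵥ v)) :
    ∃ d : F, E * E = d • (1 : Matrix (Fin m ⊕ Fin m) (Fin m ⊕ Fin m) F) := by
  obtain ⟨a, b, hab⟩ := exists_coeffs hm hK hE (anti_ne_smul_one h2 hm hE0 ha) (K.mul_mem hE hE)
  refine ⟨a, ?_⟩
  have hbE : b • E = 0 := by
    refine eq_zero_of_self_anti h2 ?_ ?_
    · intro u v
      have e : b • E = E * E - a • (1 : Matrix (Fin m ⊕ Fin m) (Fin m ⊕ Fin m) F) := by
        rw [hab, add_sub_cancel_left]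
      rw [e, Matrix.sub_mulVec, Matrix.sub_mulVec, sympForm_sub_left, sympForm_sub_right,
        Matrix.smul_mulVec, Matrix.one_mulVec, Matrix.smul_mulVec, Matrix.one_mulVec,
        sympForm_smul_left, sympForm_smul_right, ← Matrix.mulVec_mulVec, ← Matrix.mulVec_mulVec,
        ha, ha u (E *ᵥ v), neg_neg]
    · intro u v
      rw [Matrix.smul_mulVec, Matrix.smul_mulVec, sympForm_smul_left, sympForm_smul_right, ha]
      ring
  rw [hab, hbE, add_zero]

/-- the square of the generator is not a square of the ground field. -/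
theorem sq_ne (h2 : (2 : F) ≠ 0) (hm : 1 ≤ m)
    {K : Subalgebra F (Matrix (Fin m ⊕ Fin m) (Fin m ⊕ Fin m) F)}
    (hK : Cfsg.Geo.IsFieldSubalgebra 2 K) {E : Matrix (Fin m ⊕ Fin m) (Fin m ⊕ Fin m) F}
    (hE : E ∈ K) (hE0 : E ≠ 0)
    (ha : ∀ u v, sympForm m F (E *ᵥ u) v = - sympForm m F u (E *ᵥ v)) {d : F}
    (hd : E * E = d • (1 : Matrix (Fin m ⊕ Fin m) (Fin m ⊕ Fin m) F)) (s : F) : s * s ≠ d := by
  intro hs
  have hEs := anti_ne_smul_one h2 hm hE0 ha
  have hprod : (E - s • (1 : Matrix (Fin m ⊕ Fin m) (Fin m ⊕ Fin m) F)) *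
      (E + s • (1 : Matrix (Fin m ⊕ Fin m) (Fin m ⊕ Fin m) F)) = 0 := by
    rw [sub_mul, mul_add, mul_add, hd, Matrix.mul_smul, Matrix.smul_mul, Matrix.smul_mul,
      Matrix.mul_smul, mul_one, one_mul, one_mul, smul_smul, hs]
    abel
  have hmem1 : E - s • (1 : Matrix (Fin m ⊕ Fin m) (Fin m ⊕ Fin m) F) ∈ K :=
    K.sub_mem hE (K.smul_mem K.one_mem s)
  have hne1 : E - s • (1 : Matrix (Fin m ⊕ Fin m) (Fin m ⊕ Fin m) F) ≠ 0 :=
    sub_ne_zero.mpr (hEs s)
  have h0 : E + s • (1 : Matrix (Fin m ⊕ Fin m) (Fin m ⊕ Fin m) F) = 0 := by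
    apply matrix_eq_of_mulVec
    intro x
    rw [Matrix.zero_mulVec]
    apply FEx.mulVec_eq_zero hK hmem1 hne1
    rw [Matrix.mulVec_mulVec, hprod, Matrix.zero_mulVec]
  apply hEs (-s)
  rw [neg_smul]
  exact eq_neg_of_add_eq_zero_left h0

end Cfsg.Agent.Helper7.ExtU
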