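import Cfsg.Agent.Helper7.ExtUJ

set_option autoImplicit false
set_option linter.unusedSectionVars false
set_option linter.unusedSimpArgs false
set_option linter.unusedVariables false

/-! Unitary subgroups of symplectic groups (helper7): the normaliser in the symplectic group of a
quadratic extension field which is closed under adjoints and not self-adjoint is maximal. -/

namespace Cfsg.Agent.Helper7.ExtU

open Module Matrix Cfsg Cfsg.Agent.Helper7.ExtF Cfsg.Agent.Helper7.ExtS Cfsg.Agent.Helper7.Symp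
  Cfsg.Agent.S5645

variable {F : Type*} [Field F] {m : ℕ}

/-- an invertible matrix which commutes with the generator up to a scalar normalises the field. -/
theorem mem_normalizer_of_comm [Finite F] (hm : 1 ≤ m)
    {K : Subalgebra F (Matrix (Fin m ⊕ Fin m) (Fin m ⊕ Fin m) F)}
    (hK : Cfsg.Geo.IsFieldSubalgebra 2 K) {E : Matrix (Fin m ⊕ Fin m) (Fin m ⊕ Fin m) F}
    (hE : E ∈ K) (hEs : ∀ a : F, E ≠ a • (1 : Matrix (Fin m ⊕ Fin m) (Fin m ⊕ Fin m) F))
    (g : GL (Fin m ⊕ Fin m) F) (σ : F)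
    (hσ : (g : Matrix (Fin m ⊕ Fin m) (Fin m ⊕ Fin m) F) * E =
      σ • (E * (g : Matrix (Fin m ⊕ Fin m) (Fin m ⊕ Fin m) F))) :
    g ∈ Cfsg.Geo.subalgebraNormalizer K := by
  apply mem_normalizer_of_msemiI K g
  intro c hc
  obtain ⟨a, b, rfl⟩ := exists_coeffs hm hK hE hEs hc
  refine ⟨a • (1 : Matrix (Fin m ⊕ Fin m) (Fin m ⊕ Fin m) F) + (b * σ) • E,
    K.add_mem (K.smul_mem K.one_mem a) (K.smul_mem hE _), ?_⟩
  rw [mul_add, add_mul, Matrix.mul_smul, Matrix.mul_smul, Matrix.smul_mul, Matrix.smul_mul,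
    mul_one, one_mul, hσ, smul_smul]

/-- some symplectic transvection does not normalise the field. -/
theorem exists_usp_notMem [Finite F] (hm : 7 ≤ m) (h2 : (2 : F) ≠ 0)
    (K : Subalgebra F (Matrix (Fin m ⊕ Fin m) (Fin m ⊕ Fin m) F))
    (hK : Cfsg.Geo.IsFieldSubalgebra 2 K)
    (hac : Cfsg.Geo.IsAdjointClosedFor (Cfsg.sympForm m F) K)
    (hnsa : ¬ Cfsg.Geo.IsSelfAdjointFor (Cfsg.sympForm m F) K) :
    ∃ g ∈ Cfsg.spGL m F, g ∉ Cfsg.Geo.subalgebraNormalizer K := by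
  classical
  have hm1 : 1 ≤ m := by omega
  obtain ⟨E, hEK, hE0, hanti⟩ := exists_anti K hac hnsa
  obtain ⟨d, hd⟩ := exists_sq_eq h2 hm1 hK hEK hE0 hanti
  have hns := sq_ne h2 hm1 hK hEK hE0 hanti hd
  have hf : SForm F (sympForm m F) := sform_symp
  have hu : UData (sympForm m F) (Matrix.toLin' E) d :=
    ⟨fun x => by
        rw [Matrix.toLin'_apply, Matrix.toLin'_apply, Matrix.mulVec_mulVec, hd, Matrix.smul_mulVec,
          Matrix.one_mulVec],
      fun x y => by rw [Matrix.toLin'_apply, Matrix.toLin'_apply]; exact hanti x y, hns, h2⟩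
  have hcard : Fintype.card (Fin m ⊕ Fin m) = m + m := by
    rw [Fintype.card_sum, Fintype.card_fin]
  have hV : finrank F (Fin m ⊕ Fin m → F) = m + m := by
    rw [Module.finrank_fintype_fun_eq_card, hcard]
  have hdim : 9 ≤ finrank F (Fin m ⊕ Fin m → F) := by rw [hV]; omega
  obtain ⟨v, -, hqv⟩ := exists_perp_qf_ne_zero hf hu hdim (0 : Fin m ⊕ Fin m → F) 0
  have hv0 : v ≠ 0 := ne_zero_of_qf hf hu hqv
  refine ⟨toGL m F (Symp.T v 1), toGL_mem _, ?_⟩
  intro hN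
  set g := toGL m F (Symp.T v 1) with hg
  have htv : ∀ x, (g : Matrix (Fin m ⊕ Fin m) (Fin m ⊕ Fin m) F) *ᵥ x =
      x + (1 * sympForm m F x v) • v := fun x => by
    rw [hg, toGL_val]; exact Symp.T_mulVec v 1 x
  have hrank : 2 * ((g : Matrix (Fin m ⊕ Fin m) (Fin m ⊕ Fin m) F) - 1).rank <
      Fintype.card (Fin m ⊕ Fin m) := by
    have h1 : ((g : Matrix (Fin m ⊕ Fin m) (Fin m ⊕ Fin m) F) - 1).rank ≤ 1 := by
      have : (g : Matrix (Fin m ⊕ Fin m) (Fin m ⊕ Fin m) F) - 1 =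
          Matrix.vecMulVec v (J (Fin m) F *ᵥ v) := by
        rw [hg, toGL_val]
        change Cfsg.sympTransvection m v 1 - 1 = _
        unfold Cfsg.sympTransvection
        rw [one_smul, add_sub_cancel_left]
      rw [this]
      exact Matrix.rank_vecMulVec_le _ _
    rw [hcard]
    omega
  have hcomm := FEx.commute_of_rank_lt hK g hN hrank E hEK
  have h1 : (g : Matrix (Fin m ⊕ Fin m) (Fin m ⊕ Fin m) F) *ᵥ (E *ᵥ v) =
      E *ᵥ ((g : Matrix (Fin m ⊕ Fin m) (Fin m ⊕ Fin m) F) *ᵥ v) := by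
    rw [Matrix.mulVec_mulVec, Matrix.mulVec_mulVec, hcomm]
  rw [htv, htv, sympForm_self, mul_zero, zero_smul, add_zero, one_mul] at h1
  have h3 : sympForm m F (E *ᵥ v) v • v = 0 := by
    have := h1
    rwa [add_eq_left] at this
  rcases smul_eq_zero.mp h3 with h | h
  · apply hqv
    change sympForm m F (Matrix.toLin' E v) v = 0
    rw [Matrix.toLin'_apply]
    exact h
  · exact hv0 h

/-- the main statement for matrices. -/
theorem usp_le_of_not_le [Finite F] (hm : 7 ≤ m) (h2 : (2 : F) ≠ 0)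
    (K : Subalgebra F (Matrix (Fin m ⊕ Fin m) (Fin m ⊕ Fin m) F))
    (hK : Cfsg.Geo.IsFieldSubalgebra 2 K)
    (hac : Cfsg.Geo.IsAdjointClosedFor (Cfsg.sympForm m F) K)
    (hnsa : ¬ Cfsg.Geo.IsSelfAdjointFor (Cfsg.sympForm m F) K)
    (M : Subgroup (GL (Fin m ⊕ Fin m) F))
    (hNM : Cfsg.Geo.subalgebraNormalizer K ⊓ Cfsg.spGL m F ≤ M) (hMS : M ≤ Cfsg.spGL m F)
    (hMN : ¬ M ≤ Cfsg.Geo.subalgebraNormalizer K) : Cfsg.spGL m F ≤ M := by
  classical
  have hm1 : 1 ≤ m := by omega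
  obtain ⟨E, hEK, hE0, hanti⟩ := exists_anti K hac hnsa
  have hEs := anti_ne_smul_one h2 hm1 hE0 hanti
  obtain ⟨d, hd⟩ := exists_sq_eq h2 hm1 hK hEK hE0 hanti
  have hns := sq_ne h2 hm1 hK hEK hE0 hanti hd
  have hf : SForm F (sympForm m F) := sform_symp
  have hu : UData (sympForm m F) (Matrix.toLin' E) d :=
    ⟨fun x => by
        rw [Matrix.toLin'_apply, Matrix.toLin'_apply, Matrix.mulVec_mulVec, hd, Matrix.smul_mulVec,
          Matrix.one_mulVec],
      fun x y => by rw [Matrix.toLin'_apply, Matrix.toLin'_apply]; exact hanti x y, hns, h2⟩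
  have hcard : Fintype.card (Fin m ⊕ Fin m) = m + m := by
    rw [Fintype.card_sum, Fintype.card_fin]
  have hV : finrank F (Fin m ⊕ Fin m → F) = m + m := by
    rw [Module.finrank_fintype_fun_eq_card, hcard]
  have hdim : 9 ≤ finrank F (Fin m ⊕ Fin m → F) := by rw [hV]; omega
  -- the membership test
  have hmemM : ∀ x : GL (Fin m ⊕ Fin m) F, x ∈ Cfsg.spGL m F →
      (x : Matrix (Fin m ⊕ Fin m) (Fin m ⊕ Fin m) F) * E =
        E * (x : Matrix (Fin m ⊕ Fin m) (Fin m ⊕ Fin m) F) → x ∈ M := by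
    intro x hx hc
    apply hNM
    exact ⟨mem_normalizer_of_comm hm1 hK hEK hEs x 1 (by rw [one_smul]; exact hc), hx⟩
  obtain ⟨g, hgM, hgN⟩ := SetLike.not_le_iff_exists.mp hMN
  have hgS : g ∈ Cfsg.spGL m F := hMS hgM
  have hsp := (mem_spGL_iff g).mp hgS
  obtain ⟨gi, hgi⟩ : ∃ gi : Matrix (Fin m ⊕ Fin m) (Fin m ⊕ Fin m) F,
      gi = ((g⁻¹ : GL (Fin m ⊕ Fin m) F) : Matrix (Fin m ⊕ Fin m) (Fin m ⊕ Fin m) F) := ⟨_, rfl⟩
  have hgig : gi * (g : Matrix (Fin m ⊕ Fin m) (Fin m ⊕ Fin m) F) = 1 := by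
    rw [hgi]; exact FEx.val_inv_mul g
  have hggi : (g : Matrix (Fin m ⊕ Fin m) (Fin m ⊕ Fin m) F) * gi = 1 := by
    rw [hgi]; exact FEx.val_mul_inv g
  obtain ⟨E', hE'⟩ : ∃ E' : Matrix (Fin m ⊕ Fin m) (Fin m ⊕ Fin m) F,
      E' = (g : Matrix (Fin m ⊕ Fin m) (Fin m ⊕ Fin m) F) * E * gi := ⟨_, rfl⟩
  have e1 : (g : Matrix (Fin m ⊕ Fin m) (Fin m ⊕ Fin m) F) * E =
      E' * (g : Matrix (Fin m ⊕ Fin m) (Fin m ⊕ Fin m) F) := by
    rw [hE', mul_assoc, hgig, mul_one]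
  have e2 : gi * E' = E * gi := by
    rw [hE', ← mul_assoc, ← mul_assoc, hgig, one_mul]
  have hE'sq : E' * E' = d • (1 : Matrix (Fin m ⊕ Fin m) (Fin m ⊕ Fin m) F) := by
    calc E' * E' = (g : Matrix (Fin m ⊕ Fin m) (Fin m ⊕ Fin m) F) * E * (gi * E') := by
          rw [hE']; simp only [mul_assoc]
      _ = (g : Matrix (Fin m ⊕ Fin m) (Fin m ⊕ Fin m) F) * (E * E) * gi := by
          rw [e2]; simp only [mul_assoc]
      _ = d • (1 : Matrix (Fin m ⊕ Fin m) (Fin m ⊕ Fin m) F) := by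
          rw [hd, Matrix.mul_smul, mul_one, Matrix.smul_mul, hggi]
  have hgx : ∀ z, (g : Matrix (Fin m ⊕ Fin m) (Fin m ⊕ Fin m) F) *ᵥ (gi *ᵥ z) = z := by
    intro z
    rw [Matrix.mulVec_mulVec, hggi, Matrix.one_mulVec]
  have hE'v : ∀ z, E' *ᵥ z =
      (g : Matrix (Fin m ⊕ Fin m) (Fin m ⊕ Fin m) F) *ᵥ (E *ᵥ (gi *ᵥ z)) := by
    intro z
    rw [Matrix.mulVec_mulVec, Matrix.mulVec_mulVec, hE', mul_assoc]
  have hanti' : ∀ x y, sympForm m F (E' *ᵥ x) y = - sympForm m F x (E' *ᵥ y) := by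
    intro x y
    calc sympForm m F (E' *ᵥ x) y
        = sympForm m F ((g : Matrix (Fin m ⊕ Fin m) (Fin m ⊕ Fin m) F) *ᵥ (E *ᵥ (gi *ᵥ x)))
            ((g : Matrix (Fin m ⊕ Fin m) (Fin m ⊕ Fin m) F) *ᵥ (gi *ᵥ y)) := by
          rw [hE'v, hgx]
      _ = sympForm m F (E *ᵥ (gi *ᵥ x)) (gi *ᵥ y) := hsp _ _
      _ = - sympForm m F (gi *ᵥ x) (E *ᵥ (gi *ᵥ y)) := hanti _ _
      _ = - sympForm m F ((g : Matrix (Fin m ⊕ Fin m) (Fin m ⊕ Fin m) F) *ᵥ (gi *ᵥ x))
            ((g : Matrix (Fin m ⊕ Fin m) (Fin m ⊕ Fin m) F) *ᵥ (E *ᵥ (gi *ᵥ y))) := by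
          rw [hsp]
      _ = - sympForm m F x (E' *ᵥ y) := by rw [hgx, hE'v]
  have hu' : UData (sympForm m F) (Matrix.toLin' E') d :=
    ⟨fun x => by
        rw [Matrix.toLin'_apply, Matrix.toLin'_apply, Matrix.mulVec_mulVec, hE'sq,
          Matrix.smul_mulVec, Matrix.one_mulVec],
      fun x y => by rw [Matrix.toLin'_apply, Matrix.toLin'_apply]; exact hanti' x y, hns, h2⟩
  set M' : Subgroup ((Fin m ⊕ Fin m → F) ≃ₗ[F] (Fin m ⊕ Fin m → F)) :=
    M.comap (thetaI (F := F) (ι := Fin m ⊕ Fin m)).symm.toMonoidHom with hM'def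
  have hmemM' : ∀ s, s ∈ M' ↔ thetaI.symm s ∈ M := fun s => Iff.rfl
  have hθ : ∀ s : (Fin m ⊕ Fin m → F) ≃ₗ[F] (Fin m ⊕ Fin m → F), thetaI (thetaI.symm s) = s :=
    fun s => MulEquiv.apply_symm_apply _ _
  have hMf : ∀ s ∈ M', Isom (sympForm m F) s := by
    intro s hs x y
    have h1 := hMS ((hmemM' s).mp hs)
    rw [mem_spGL_iff] at h1
    have h2 := h1 x y
    rw [← thetaI_apply, ← thetaI_apply, hθ] at h2
    exact h2
  -- an isometry gives a symplectic matrix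
  have hSsp : ∀ s : (Fin m ⊕ Fin m → F) ≃ₗ[F] (Fin m ⊕ Fin m → F), Isom (sympForm m F) s →
      thetaI.symm s ∈ Cfsg.spGL m F := by
    intro s hiso
    rw [mem_spGL_iff]
    intro x y
    rw [← thetaI_apply, ← thetaI_apply, hθ]
    exact hiso x y
  -- commutation of linear maps gives commutation of matrices
  have hScomm : ∀ (s : (Fin m ⊕ Fin m → F) ≃ₗ[F] (Fin m ⊕ Fin m → F))
      (A : Matrix (Fin m ⊕ Fin m) (Fin m ⊕ Fin m) F),
      (∀ x, s (Matrix.toLin' A x) = Matrix.toLin' A (s x)) →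
      ((thetaI.symm s : GL (Fin m ⊕ Fin m) F) : Matrix (Fin m ⊕ Fin m) (Fin m ⊕ Fin m) F) * A =
        A * ((thetaI.symm s : GL (Fin m ⊕ Fin m) F) :
          Matrix (Fin m ⊕ Fin m) (Fin m ⊕ Fin m) F) := by
    intro s A hc
    apply matrix_eq_of_mulVec
    intro x
    rw [← Matrix.mulVec_mulVec, ← Matrix.mulVec_mulVec, ← thetaI_apply, ← thetaI_apply, hθ]
    have := hc x
    rw [Matrix.toLin'_apply, Matrix.toLin'_apply] at this
    exact this
  have hM : ∀ s : (Fin m ⊕ Fin m → F) ≃ₗ[F] (Fin m ⊕ Fin m → F), Isom (sympForm m F) s →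
      (∀ x, s (Matrix.toLin' E x) = Matrix.toLin' E (s x)) → s ∈ M' := by
    intro s hiso hc
    rw [hmemM']
    exact hmemM _ (hSsp s hiso) (hScomm s E hc)
  have hM'' : ∀ s : (Fin m ⊕ Fin m → F) ≃ₗ[F] (Fin m ⊕ Fin m → F), Isom (sympForm m F) s →
      (∀ x, s (Matrix.toLin' E' x) = Matrix.toLin' E' (s x)) → s ∈ M' := by
    intro s hiso hc
    rw [hmemM']
    obtain ⟨S, hS⟩ : ∃ S : GL (Fin m ⊕ Fin m) F, S = thetaI.symm s := ⟨_, rfl⟩
    rw [← hS]
    have hSs : S ∈ Cfsg.spGL m F := by rw [hS]; exact hSsp s hiso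
    have hSc : (S : Matrix (Fin m ⊕ Fin m) (Fin m ⊕ Fin m) F) * E' =
        E' * (S : Matrix (Fin m ⊕ Fin m) (Fin m ⊕ Fin m) F) := by
      rw [hS]; exact hScomm s E' hc
    have h1 : g⁻¹ * S * g ∈ M := by
      refine hmemM _ (Subgroup.mul_mem _ (Subgroup.mul_mem _ (Subgroup.inv_mem _ hgS) hSs) hgS) ?_
      rw [Units.val_mul, Units.val_mul, ← hgi]
      calc gi * (S : Matrix (Fin m ⊕ Fin m) (Fin m ⊕ Fin m) F) *
            (g : Matrix (Fin m ⊕ Fin m) (Fin m ⊕ Fin m) F) * E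
          = gi * (S : Matrix (Fin m ⊕ Fin m) (Fin m ⊕ Fin m) F) *
            ((g : Matrix (Fin m ⊕ Fin m) (Fin m ⊕ Fin m) F) * E) := by simp only [mul_assoc]
        _ = gi * ((S : Matrix (Fin m ⊕ Fin m) (Fin m ⊕ Fin m) F) * E') *
            (g : Matrix (Fin m ⊕ Fin m) (Fin m ⊕ Fin m) F) := by
            rw [e1]; simp only [mul_assoc]
        _ = (gi * E') * (S : Matrix (Fin m ⊕ Fin m) (Fin m ⊕ Fin m) F) *
            (g : Matrix (Fin m ⊕ Fin m) (Fin m ⊕ Fin m) F) := by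
            rw [hSc]; simp only [mul_assoc]
        _ = E * (gi * (S : Matrix (Fin m ⊕ Fin m) (Fin m ⊕ Fin m) F) *
            (g : Matrix (Fin m ⊕ Fin m) (Fin m ⊕ Fin m) F)) := by
            rw [e2]; simp only [mul_assoc]
    have h3 : S = g * (g⁻¹ * S * g) * g⁻¹ := by group
    rw [h3]
    exact M.mul_mem (M.mul_mem hgM h1) (M.inv_mem hgM)
  have hne : ¬ ((∀ x, Matrix.toLin' E' x = Matrix.toLin' E x) ∨
      (∀ x, Matrix.toLin' E' x = - Matrix.toLin' E x)) := by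
    rintro (h | h)
    · have hEE : E' = E := matrix_eq_of_mulVec (fun x => by
        have := h x
        rwa [Matrix.toLin'_apply, Matrix.toLin'_apply] at this)
      apply hgN
      exact mem_normalizer_of_comm hm1 hK hEK hEs g 1 (by rw [one_smul, e1, hEE])
    · have hEE : E' = -E := matrix_eq_of_mulVec (fun x => by
        have := h x
        rw [Matrix.toLin'_apply, Matrix.toLin'_apply] at this
        rw [this, Matrix.neg_mulVec])
      apply hgN
      exact mem_normalizer_of_comm hm1 hK hEK hEs g (-1) (by rw [e1, hEE, neg_mul, neg_one_smul])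
  have hall := all_stv_of_two hf hu M' hMf hM hu' hM'' hdim hne
  -- the generation by transvections
  have hcl : transvectionSubgroup m F ≤ M.comap (toGL m F) := by
    unfold transvectionSubgroup
    rw [Subgroup.closure_le]
    rintro A ⟨w, c, hA⟩
    rw [SetLike.mem_coe, Subgroup.mem_comap]
    have e : thetaI (toGL m F A) = stv hf w c := by
      ext1 x
      rw [thetaI_apply, toGL_val, hA, sympTransvection_mulVec, stv_apply]
    have h3 := hall w c
    rw [← e, hmemM', MulEquiv.symm_apply_apply] at h3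
    exact h3
  rw [transvectionSubgroup_eq_top] at hcl
  intro x hx
  obtain ⟨A, rfl⟩ := exists_toGL_eq hx
  exact hcl (Subgroup.mem_top A)

end Cfsg.Agent.Helper7.ExtU
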