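import Mathlib
import Cfsg.Agent.Helper7.F4AutE

set_option autoImplicit false
set_option linter.unusedSectionVars false
set_option linter.unusedVariables false
set_option linter.style.haveILetI false

/-!
Automorphisms of the large Ree groups `²F₄(q)`, part F: every automorphism is the product of an inner and a field
automorphism; the order of the outer automorphism group.
-/

namespace Cfsg.Agent.Helper7.Chev

open Cfsg Cfsg.Lie Matrix

section field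

variable {K : Type*} [Field K] [CharP K 2] {m : ℕ}

theorem f4FieldAut_xaS (σ : K ≃+* K) (t : K) : f4FieldAut K m σ (xaS m t) = xaS m (σ t) := by
  apply Subtype.ext
  rw [f4FieldAut_coe, xaS_coe, xaS_coe, glMap_xP]

theorem f4FieldAut_yaS (σ : K ≃+* K) (t : K) : f4FieldAut K m σ (yaS m t) = yaS m (σ t) := by
  apply Subtype.ext
  rw [f4FieldAut_coe, yaS_coe, yaS_coe, glMap_xP]

theorem f4FieldAut_f4Nw (σ : K ≃+* K) :
    f4FieldAut K m σ (⟨f4Nw K, f4Nw_mem_twisted⟩ : ↥(twistedF4 K (2 ^ m))) = ⟨f4Nw K, f4Nw_mem_twisted⟩ := by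
  apply Subtype.ext
  rw [f4FieldAut_coe]
  exact glMap_nWordGL (σ : K →+* K) good3_F4.toGood2 _

theorem ringAut_apply_inv_apply (σ : K ≃+* K) (t : K) : σ ((σ⁻¹ : K ≃+* K) t) = t := by
  rw [← RingAut.mul_apply, mul_inv_cancel, RingAut.one_apply]

/-- The identities for the element of the torus cancelling the action on the second class. -/
theorem f4_torus_identities (hm : ∀ t : K, t ^ 2 ^ (2 * m + 1) = t) {l s : K} (hl : l ≠ 0)
    (hs : s = (l ^ 3 * f4Th K m l ^ 4)⁻¹) :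
    (f4Th K m (s ^ 2) ^ 2)⁻¹ * (s ^ 2) ^ 2 * s⁻¹ * l = 1 ∧
      s⁻¹ * (f4Th K m s)⁻¹ * s ^ 2 * (l * f4Th K m l) = 1 := by
  obtain ⟨a, ha⟩ : ∃ a : K, a = f4Th K m l := ⟨_, rfl⟩
  have ha0 : a ≠ 0 := by rw [ha]; exact (map_ne_zero _).mpr hl
  have hb : f4Th K m a ^ 2 = l := by rw [ha]; exact f4Th_f4Th_sq hm l
  have hθs : f4Th K m s = (a ^ 3 * l ^ 2)⁻¹ := by
    rw [hs, map_inv₀, map_mul, map_pow, map_pow, ← ha]
    congr 2
    calc f4Th K m a ^ 4 = (f4Th K m a ^ 2) ^ 2 := by ring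
      _ = l ^ 2 := by rw [hb]
  have hθl : f4Th K m l = a := ha.symm
  rw [map_pow, hθs, hs, hθl]
  constructor
  · field_simp
  · field_simp

end field

section finite

variable {K : Type*} [Field K] [Fintype K] [CharP K 2] {m : ℕ}

/-- Every automorphism of the large Ree group is the product of an inner and a field automorphism. -/
theorem f4_exists_inner_field (hK : Fintype.card K = 2 ^ (2 * m + 1)) (hs : ∃ s : Kˣ, s ≠ 1)
    (θ : ↥(twistedF4 K (2 ^ m)) ≃* ↥(twistedF4 K (2 ^ m))) :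
    ∃ (g : ↥(twistedF4 K (2 ^ m))) (σ : K ≃+* K), θ = MulAut.conj g * f4FieldAut K m σ := by
  have hm := pow_card_two hK
  obtain ⟨x, hS⟩ := f4_exists_stab hK θ
  obtain ⟨θ₀, hθ₀⟩ : ∃ θ₀ : MulAut ↥(twistedF4 K (2 ^ m)), θ₀ = MulAut.conj x * θ := ⟨_, rfl⟩
  have hS₀ : F4Stab θ₀ := by rw [hθ₀]; exact hS
  obtain ⟨c, σ, hxa, hya⟩ := hS₀.rank_one_a hm hs
  -- the element of the torus of the first class
  obtain ⟨d, hd⟩ := f4_perfect hm ((c⁻¹ : Kˣ) : K)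
  have hd0 : d ≠ 0 := by
    rintro rfl
    rw [zero_pow (by norm_num)] at hd
    exact (c⁻¹).ne_zero hd.symm
  obtain ⟨du, hdu⟩ : ∃ du : Kˣ, (du : K) = d := ⟨Units.mk0 d hd0, rfl⟩
  rw [← hdu] at hd
  obtain ⟨ha, hha⟩ : ∃ ha : ↥(twistedF4 K (2 ^ m)), ha = f4PhiS K m (diagSL (du : K) du.ne_zero) :=
    ⟨_, rfl⟩
  obtain ⟨θ₁, hθ₁⟩ : ∃ θ₁ : MulAut ↥(twistedF4 K (2 ^ m)),
      θ₁ = MulAut.conj ha * θ₀ * (f4FieldAut K m σ)⁻¹ := ⟨_, rfl⟩
  have hS₁ : F4Stab θ₁ := by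
    rw [hθ₁]
    refine ((f4Stab_conj_diag ?_).mul hS₀).mul ?_
    · rw [hha]
      exact f4PhiS_diag_mem du
    · rw [← map_inv]
      exact f4Stab_fieldAut σ⁻¹
  have hcd : (du : K) * (du : K) * (c : K) = 1 := by
    rw [← pow_two, hd, Units.val_inv_eq_inv_val, inv_mul_cancel₀ c.ne_zero]
  have hx₁ : ∀ t : K, θ₁ (xaS m t) = xaS m t := by
    intro t
    rw [hθ₁, MulAut.mul_apply, MulAut.mul_apply, ← map_inv, f4FieldAut_xaS, hxa, MulAut.conj_apply,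
      hha, f4PhiS_diag_conj_xaS, ringAut_apply_inv_apply, ← mul_assoc, hcd, one_mul]
  have hy₁ : ∀ t : K, θ₁ (yaS m t) = yaS m t := by
    intro t
    rw [hθ₁, MulAut.mul_apply, MulAut.mul_apply, ← map_inv, f4FieldAut_yaS, hya, MulAut.conj_apply,
      hha, f4PhiS_diag_conj_yaS, ringAut_apply_inv_apply, ← mul_assoc]
    have : (du : K)⁻¹ * (du : K)⁻¹ * ((c⁻¹ : Kˣ) : K) = 1 := by
      rw [Units.val_inv_eq_inv_val, ← mul_inv, ← mul_inv, hcd, inv_one]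
    rw [this, one_mul]
  -- the second class
  obtain ⟨l, hl0, hl⟩ := hS₁.class_b hm hs hx₁ hy₁
  have hs0 : (l ^ 3 * f4Th K m l ^ 4)⁻¹ ≠ 0 :=
    inv_ne_zero (mul_ne_zero (pow_ne_zero 3 hl0) (pow_ne_zero 4 ((map_ne_zero _).mpr hl0)))
  obtain ⟨s, hsdef⟩ : ∃ s : Kˣ, (s : K) = (l ^ 3 * f4Th K m l ^ 4)⁻¹ := ⟨Units.mk0 _ hs0, rfl⟩
  obtain ⟨I1, I2⟩ := f4_torus_identities hm hl0 hsdef
  obtain ⟨θ₂, hθ₂⟩ : ∃ θ₂ : MulAut ↥(twistedF4 K (2 ^ m)),
      θ₂ = MulAut.conj (ghS4 hm (s, s ^ 2)) * θ₁ := ⟨_, rfl⟩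
  have hS₂ : F4Stab θ₂ := by
    rw [hθ₂]
    exact (f4Stab_conj_diag (gh4_mem_diagonal _)).mul hS₁
  have hx₂ : ∀ t : K, θ₂ (xaS m t) = xaS m t := by
    intro t
    rw [hθ₂, MulAut.mul_apply, hx₁, MulAut.conj_apply, ghS4_conj_xaS, Units.val_pow_eq_pow_val,
      inv_mul_cancel₀ (pow_ne_zero 2 s.ne_zero), one_mul]
  have hxb₂ : ∀ t v : K, θ₂ (xbS m t v) = xbS m t v := by
    intro t v
    rw [hθ₂, MulAut.mul_apply, hl, MulAut.conj_apply, ghS4_conj_xbS, Units.val_pow_eq_pow_val]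
    congr 1
    · rw [← mul_assoc, I1, one_mul]
    · rw [← mul_assoc, I2, one_mul]
  have hone := hS₂.eq_one hm hs hx₂ hxb₂
  have hθ₂1 : θ₂ = 1 := MulEquiv.ext hone
  refine ⟨x⁻¹ * ha⁻¹ * (ghS4 hm (s, s ^ 2))⁻¹, σ, ?_⟩
  rw [map_mul, map_mul, map_inv, map_inv, map_inv]
  have e : θ = (MulAut.conj x)⁻¹ * (MulAut.conj ha)⁻¹ * (MulAut.conj (ghS4 hm (s, s ^ 2)))⁻¹ *
      (MulAut.conj (ghS4 hm (s, s ^ 2)) * (MulAut.conj ha * (MulAut.conj x * θ) *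
        (f4FieldAut K m σ)⁻¹)) * f4FieldAut K m σ := by group
  rw [← hθ₀, ← hθ₁, ← hθ₂, hθ₂1, mul_one] at e
  exact e

/-- A field automorphism that is inner is trivial. -/
theorem f4_fieldAut_eq_conj (hm : ∀ t : K, t ^ 2 ^ (2 * m + 1) = t) {σ : K ≃+* K}
    {g : ↥(twistedF4 K (2 ^ m))} (e : f4FieldAut K m σ = MulAut.conj g) : σ = 1 := by
  have hStab : F4Stab (MulAut.conj g) := e ▸ f4Stab_fieldAut σ
  -- `g` lies in `B`
  have hU1 : SMapsOnto (MulAut.conj g) (chevF4.posUnipotent K ⊓ twistedF4 K (2 ^ m))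
      (chevF4.posUnipotent K ⊓ twistedF4 K (2 ^ m)) := by
    intro y
    rw [Subgroup.mem_inf, Subgroup.mem_inf]
    exact ⟨fun h => ⟨(hStab.1 y).mp h.1, (MulAut.conj g y).2⟩, fun h => ⟨(hStab.1 y).mpr h.1, y.2⟩⟩
  have hgN := mem_normalizer_of_sMapsOnto_conj inf_le_right hU1
  have hgB : (g : GL chevF4.Idx K) ∈ chevF4.borelSubgroup K ⊓ twistedF4 K (2 ^ m) :=
    fix_normalizer_le good3_F4.toGood2 T0_F4 good3_F4.t3 good3_F4.t4 T5_F4 T6_F4 T8_F4 T9_F4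
      (f4Tau_rootAut hm) (twistedF4_le_fixSub hm) (f4_posFix_le hm) (f4_fWList hm) (f4_fbnData hm)
      (Subgroup.mem_inf.mpr ⟨hgN, g.2⟩)
  -- `g` commutes with the representative of the longest element
  have hnw : g * (⟨f4Nw K, f4Nw_mem_twisted⟩ : ↥(twistedF4 K (2 ^ m))) * g⁻¹ = ⟨f4Nw K, f4Nw_mem_twisted⟩ := by
    rw [← MulAut.conj_apply, ← e, f4FieldAut_f4Nw]
  have hnw' : f4Nw K * (g : GL chevF4.Idx K) * (f4Nw K)⁻¹ = (g : GL chevF4.Idx K) := by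
    have h1 : (g : GL chevF4.Idx K) * f4Nw K * (g : GL chevF4.Idx K)⁻¹ = f4Nw K :=
      congrArg Subtype.val hnw
    calc f4Nw K * (g : GL chevF4.Idx K) * (f4Nw K)⁻¹
        = ((g : GL chevF4.Idx K) * f4Nw K * (g : GL chevF4.Idx K)⁻¹) * (g : GL chevF4.Idx K) *
          (f4Nw K)⁻¹ := by rw [h1]
      _ = (g : GL chevF4.Idx K) * (f4Nw K * (g : GL chevF4.Idx K)⁻¹ * (g : GL chevF4.Idx K) *
          (f4Nw K)⁻¹) := by group
      _ = (g : GL chevF4.Idx K) := by group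
  have hgH : (g : GL chevF4.Idx K) ∈ chevF4.diagonalSubgroup K :=
    f4_borel_conj_mem_diagonal hgB.1 (by rw [hnw']; exact hgB.1)
  have hgR : (g : GL chevF4.Idx K) ∈ (gh4 K m).range := by
    rw [← f4H_eq_range hm]
    exact Subgroup.mem_inf.mpr ⟨hgH, g.2⟩
  obtain ⟨⟨s, u⟩, hsu⟩ := hgR
  have hg : g = ghS4 hm (s, u) := Subtype.ext hsu.symm
  have key : ∀ t : K, σ t = (u : K)⁻¹ * (s : K) ^ 2 * t := by
    intro t
    have h1 : f4FieldAut K m σ (xaS m t) = MulAut.conj g (xaS m t) := by rw [e]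
    rw [f4FieldAut_xaS, MulAut.conj_apply, hg, ghS4_conj_xaS] at h1
    exact xaS_injective h1
  have h1 := key 1
  rw [map_one, mul_one] at h1
  apply RingEquiv.ext
  intro t
  rw [key t, ← h1, one_mul]
  rfl

/-- The order of the outer automorphism group of the large Ree group. -/
theorem f4_card_out (hK : Fintype.card K = 2 ^ (2 * m + 1)) (hs : ∃ s : Kˣ, s ≠ 1) :
    Nat.card (Cfsg.Out ↥(twistedF4 K (2 ^ m))) = 2 * m + 1 := by
  haveI : Fact (Nat.Prime 2) := ⟨Nat.prime_two⟩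
  have hm := pow_card_two hK
  set Φ : (K ≃+* K) →* Cfsg.Out ↥(twistedF4 K (2 ^ m)) :=
    (QuotientGroup.mk' (Cfsg.Inn ↥(twistedF4 K (2 ^ m)))).comp (f4FieldAut K m) with hΦ
  have hinj : Function.Injective Φ := by
    rw [injective_iff_map_eq_one]
    intro σ hσ
    have h1 : f4FieldAut K m σ ∈ Cfsg.Inn ↥(twistedF4 K (2 ^ m)) := (QuotientGroup.eq_one_iff _).mp hσ
    obtain ⟨g, hg⟩ := h1
    exact f4_fieldAut_eq_conj hm hg.symm
  have hsurj : Function.Surjective Φ := by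
    intro x
    obtain ⟨θ, rfl⟩ := QuotientGroup.mk'_surjective (Cfsg.Inn ↥(twistedF4 K (2 ^ m))) x
    obtain ⟨g, σ, e⟩ := f4_exists_inner_field hK hs θ
    refine ⟨σ, ?_⟩
    rw [e, map_mul]
    have h1 : QuotientGroup.mk' (Cfsg.Inn ↥(twistedF4 K (2 ^ m))) (MulAut.conj g) = 1 :=
      (QuotientGroup.eq_one_iff _).mpr ⟨g, rfl⟩
    rw [h1, one_mul]
    rfl
  rw [← Nat.card_eq_of_bijective Φ ⟨hinj, hsurj⟩]
  exact Cfsg.Agent.Helper7.FieldAutCard.card_ringAut 2 (2 * m + 1) hK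

end finite

/-- The statement of S2128. -/
theorem f4_S2128 {K : Type*} [Field K] [Fintype K] {m : ℕ} (hm : 1 ≤ m)
    (hK : Fintype.card K = 2 ^ (2 * m + 1)) :
    Nat.card (Cfsg.Out ↥(Cfsg.Lie.twistedF4 K (2 ^ m))) = 2 * m + 1 := by
  haveI := charP_two_of_card (by omega) hK
  apply f4_card_out hK
  apply exists_unit_ne_one
  rw [hK]
  calc 2 < 2 ^ 3 := by norm_num
    _ ≤ 2 ^ (2 * m + 1) := Nat.pow_le_pow_right (by norm_num) (by omega)

end Cfsg.Agent.Helper7.Chev
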