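import Cfsg.Agent.Helper7.F4Mat

set_option autoImplicit false

/-!
Batches of three by three matrices over the field with four elements, one for every index below
`2 ^ 18`, stored bit-sliced in natural numbers: an operation on big natural numbers does the
operation on all matrices at once.
-/

namespace Cfsg.Agent.Helper7.F4Mat

open F4

namespace F4

/-- The element with given bits. -/
def ofBits : Bool → Bool → F4
  | false, false => z
  | true, false => o
  | false, true => w
  | true, true => v

/-- The low bit. -/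
def lo : F4 → Bool
  | z => false | o => true | w => false | v => true

/-- The high bit. -/
def hi : F4 → Bool
  | z => false | o => false | w => true | v => true

theorem ofBits_lo_hi (a : F4) : ofBits a.lo a.hi = a := by cases a <;> rfl

end F4

/-- A batch of field elements. -/
structure P4 where
  /-- the low bits -/
  lo : Nat
  /-- the high bits -/
  hi : Nat

namespace P4

/-- The element at an index. -/
def get (p : P4) (m : Nat) : F4 := F4.ofBits (p.lo.testBit m) (p.hi.testBit m)

/-- Addition. -/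
def add (p q : P4) : P4 := ⟨p.lo ^^^ q.lo, p.hi ^^^ q.hi⟩

/-- Multiplication. -/
def mul (p q : P4) : P4 :=
  ⟨(p.lo &&& q.lo) ^^^ (p.hi &&& q.hi), ((p.lo &&& q.hi) ^^^ (p.hi &&& q.lo)) ^^^ (p.hi &&& q.hi)⟩

theorem get_add (p q : P4) (m : Nat) : (p.add q).get m = p.get m + q.get m := by
  simp only [get, add, Nat.testBit_xor]
  cases p.lo.testBit m <;> cases p.hi.testBit m <;> cases q.lo.testBit m <;>
    cases q.hi.testBit m <;> rfl

theorem get_mul (p q : P4) (m : Nat) : (p.mul q).get m = p.get m * q.get m := by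
  simp only [get, mul, Nat.testBit_xor, Nat.testBit_and]
  cases p.lo.testBit m <;> cases p.hi.testBit m <;> cases q.lo.testBit m <;>
    cases q.hi.testBit m <;> rfl

end P4

/-- The mask of all indices below `N`. -/
def ones (N : Nat) : Nat := 2 ^ N - 1

theorem testBit_ones {N m : Nat} (h : m < N) : (ones N).testBit m = true := by
  simp [ones, h]

/-- The mask of the indices where the element is zero. -/
def zeroMask (N : Nat) (p : P4) : Nat := ones N ^^^ (p.lo ||| p.hi)

theorem zero_aux : ∀ a b : Bool, (true ^^ (a || b)) = decide (F4.ofBits a b = 0) := by decide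

theorem eq_aux : ∀ a b c d : Bool,
    (true ^^ ((a ^^ c) || (b ^^ d))) = decide (F4.ofBits a b = F4.ofBits c d) := by decide

theorem one_aux : ∀ a b : Bool, (a && (true ^^ b)) = decide (F4.ofBits a b = 1) := by decide

theorem testBit_zeroMask {N m : Nat} (h : m < N) (p : P4) :
    (zeroMask N p).testBit m = decide (p.get m = 0) := by
  simp only [zeroMask, Nat.testBit_xor, Nat.testBit_or, testBit_ones h, P4.get]
  exact zero_aux _ _

/-- The mask of the indices where the elements are equal. -/
def eqMask (N : Nat) (p q : P4) : Nat := ones N ^^^ ((p.lo ^^^ q.lo) ||| (p.hi ^^^ q.hi))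

theorem testBit_eqMask {N m : Nat} (h : m < N) (p q : P4) :
    (eqMask N p q).testBit m = decide (p.get m = q.get m) := by
  simp only [eqMask, Nat.testBit_xor, Nat.testBit_or, testBit_ones h, P4.get]
  exact eq_aux _ _ _ _

/-- The mask of the indices where the element is one. -/
def oneMask (N : Nat) (p : P4) : Nat := p.lo &&& (ones N ^^^ p.hi)

theorem testBit_oneMask {N m : Nat} (h : m < N) (p : P4) :
    (oneMask N p).testBit m = decide (p.get m = 1) := by
  simp only [oneMask, Nat.testBit_xor, Nat.testBit_and, testBit_ones h, P4.get]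
  exact one_aux _ _

/-- A batch of matrices. -/
structure PM9 where
  /-- entry -/
  a : P4
  /-- entry -/
  b : P4
  /-- entry -/
  c : P4
  /-- entry -/
  d : P4
  /-- entry -/
  e : P4
  /-- entry -/
  f : P4
  /-- entry -/
  g : P4
  /-- entry -/
  h : P4
  /-- entry -/
  i : P4

namespace PM9

/-- The matrix at an index. -/
def get (X : PM9) (m : Nat) : M9 :=
  ⟨X.a.get m, X.b.get m, X.c.get m, X.d.get m, X.e.get m, X.f.get m, X.g.get m, X.h.get m,
    X.i.get m⟩

/-- The product. -/
def mul (x y : PM9) : PM9 :=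
  ⟨((x.a.mul y.a).add (x.b.mul y.d)).add (x.c.mul y.g),
   ((x.a.mul y.b).add (x.b.mul y.e)).add (x.c.mul y.h),
   ((x.a.mul y.c).add (x.b.mul y.f)).add (x.c.mul y.i),
   ((x.d.mul y.a).add (x.e.mul y.d)).add (x.f.mul y.g),
   ((x.d.mul y.b).add (x.e.mul y.e)).add (x.f.mul y.h),
   ((x.d.mul y.c).add (x.e.mul y.f)).add (x.f.mul y.i),
   ((x.g.mul y.a).add (x.h.mul y.d)).add (x.i.mul y.g),
   ((x.g.mul y.b).add (x.h.mul y.e)).add (x.i.mul y.h),
   ((x.g.mul y.c).add (x.h.mul y.f)).add (x.i.mul y.i)⟩

theorem get_mul (x y : PM9) (m : Nat) : (x.mul y).get m = (x.get m).mul (y.get m) := by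
  simp only [get, mul, M9.mul, P4.get_add, P4.get_mul]

/-- The determinant. -/
def det (x : PM9) : P4 :=
  ((x.a.mul ((x.e.mul x.i).add (x.f.mul x.h))).add (x.b.mul ((x.d.mul x.i).add (x.f.mul x.g)))).add
    (x.c.mul ((x.d.mul x.h).add (x.e.mul x.g)))

theorem get_det (x : PM9) (m : Nat) : (x.det).get m = (x.get m).det := by
  simp only [get, det, M9.det, P4.get_add, P4.get_mul]

/-- The mask of the indices where the matrix is scalar. -/
def scalMask (N : Nat) (x : PM9) : Nat :=
  zeroMask N x.b &&& (zeroMask N x.c &&& (zeroMask N x.d &&& (zeroMask N x.f &&&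
    (zeroMask N x.g &&& (zeroMask N x.h &&& (eqMask N x.a x.e &&& eqMask N x.e x.i))))))

theorem testBit_scalMask {N m : Nat} (h : m < N) (x : PM9) :
    (scalMask N x).testBit m = (x.get m).isScal := by
  simp only [scalMask, Nat.testBit_and, testBit_zeroMask h, testBit_eqMask h, M9.isScal, get]
  rw [Bool.eq_iff_iff]
  simp only [Bool.and_eq_true, decide_eq_true_eq]
  exact decide_eq_true_iff.symm

/-- The mask of the indices where the matrices are equal. -/
def eqMaskM (N : Nat) (x y : PM9) : Nat :=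
  eqMask N x.a y.a &&& (eqMask N x.b y.b &&& (eqMask N x.c y.c &&& (eqMask N x.d y.d &&&
    (eqMask N x.e y.e &&& (eqMask N x.f y.f &&& (eqMask N x.g y.g &&& (eqMask N x.h y.h &&&
      eqMask N x.i y.i)))))))

theorem testBit_eqMaskM {N m : Nat} (h : m < N) (x y : PM9) :
    (eqMaskM N x y).testBit m = decide (x.get m = y.get m) := by
  simp only [eqMaskM, Nat.testBit_and, testBit_eqMask h, get, M9.mk.injEq]
  rw [Bool.eq_iff_iff]
  simp only [Bool.and_eq_true, decide_eq_true_eq]

end PM9

/-- The numbers below `2 ^ (k + 1 + j)` with the bit `k` set, as a mask. -/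
def pl (k : Nat) : Nat → Nat
  | 0 => (2 ^ (2 ^ k) - 1) <<< (2 ^ k)
  | j + 1 => pl k j ||| (pl k j <<< (2 ^ (k + 1 + j)))

theorem testBit_of_lt_two_pow_succ {k m : Nat} (h : m < 2 ^ (k + 1)) :
    m.testBit k = decide (2 ^ k ≤ m) := by
  rw [Nat.testBit_eq_decide_div_mod_eq]
  have hpos : 0 < 2 ^ k := Nat.two_pow_pos k
  have h2 : m / 2 ^ k < 2 := by
    rw [Nat.div_lt_iff_lt_mul hpos]
    rw [pow_succ] at h
    omega
  by_cases hm : 2 ^ k ≤ m
  · have : 1 ≤ m / 2 ^ k := (Nat.one_le_div_iff hpos).2 hm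
    have e : m / 2 ^ k = 1 := by omega
    simp [e, hm]
  · have e : m / 2 ^ k = 0 := Nat.div_eq_of_lt (by omega)
    simp [e, hm]

theorem testBit_pl (k j m : Nat) :
    (pl k j).testBit m = (decide (m < 2 ^ (k + 1 + j)) && m.testBit k) := by
  induction j generalizing m with
  | zero =>
    rw [pl, Nat.testBit_shiftLeft, Nat.testBit_two_pow_sub_one]
    by_cases h1 : m < 2 ^ (k + 1)
    · rw [testBit_of_lt_two_pow_succ h1]
      rw [pow_succ] at h1
      by_cases h2 : 2 ^ k ≤ m
      · have : m - 2 ^ k < 2 ^ k := by omega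
        simp [h2, this, pow_succ, h1]
      · simp [h2]
    · have h1' := h1
      rw [pow_succ] at h1
      have : ¬ (m - 2 ^ k < 2 ^ k) := by omega
      simp [this, h1']
  | succ j ih =>
    rw [pl, Nat.testBit_or, Nat.testBit_shiftLeft, ih, ih]
    have e : 2 ^ (k + 1 + (j + 1)) = 2 * 2 ^ (k + 1 + j) := by
      rw [← Nat.add_assoc, pow_succ]; ring
    by_cases h1 : m < 2 ^ (k + 1 + j)
    · have h2 : m < 2 ^ (k + 1 + (j + 1)) := by rw [e]; omega
      have h3 : ¬ (2 ^ (k + 1 + j) ≤ m) := by omega
      simp [h1, h2, h3]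
    · have h3 : 2 ^ (k + 1 + j) ≤ m := by omega
      have hbit : (m - 2 ^ (k + 1 + j)).testBit k = m.testBit k := by
        have := Nat.testBit_two_pow_add_gt (i := k + 1 + j) (j := k) (by omega)
          (m - 2 ^ (k + 1 + j))
        rw [← this]
        congr 1
        omega
      have h4 : (m - 2 ^ (k + 1 + j) < 2 ^ (k + 1 + j)) ↔ m < 2 ^ (k + 1 + (j + 1)) := by
        rw [e]; omega
      simp only [h1, h3, decide_false, decide_true, Bool.false_and, Bool.false_or,
        Bool.true_and, hbit, h4]

/-- The numbers below `2 ^ 18` with the bit `k` set, as a mask. -/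
def plane (k : Nat) : Nat := pl k (17 - k)

theorem testBit_plane {k m : Nat} (hk : k < 18) (hm : m < 2 ^ 18) :
    (plane k).testBit m = m.testBit k := by
  rw [plane, testBit_pl]
  have : k + 1 + (17 - k) = 18 := by omega
  rw [this, decide_eq_true hm, Bool.true_and]

/-- The batch of all matrices. -/
def X0 : PM9 :=
  ⟨⟨plane 0, plane 1⟩, ⟨plane 2, plane 3⟩, ⟨plane 4, plane 5⟩, ⟨plane 6, plane 7⟩,
   ⟨plane 8, plane 9⟩, ⟨plane 10, plane 11⟩, ⟨plane 12, plane 13⟩, ⟨plane 14, plane 15⟩,
   ⟨plane 16, plane 17⟩⟩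

/-- The bits of a matrix. -/
def M9.bits (x : M9) : Fin 18 → Bool :=
  ![x.a.lo, x.a.hi, x.b.lo, x.b.hi, x.c.lo, x.c.hi, x.d.lo, x.d.hi, x.e.lo, x.e.hi,
    x.f.lo, x.f.hi, x.g.lo, x.g.hi, x.h.lo, x.h.hi, x.i.lo, x.i.hi]

/-- The index of a matrix. -/
def M9.code (x : M9) : Nat := Nat.ofBits (M9.bits x)

theorem M9.code_lt (x : M9) : M9.code x < 2 ^ 18 := Nat.ofBits_lt_two_pow _

theorem X0_get_code (x : M9) : X0.get (M9.code x) = x := by
  have hm := M9.code_lt x
  have hb : ∀ k (hk : k < 18), (M9.code x).testBit k = M9.bits x ⟨k, hk⟩ := fun k hk =>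
    Nat.testBit_ofBits_lt _ k hk
  obtain ⟨a, b, c, d, e, f, g, h, i⟩ := x
  simp only [PM9.get, X0, P4.get, M9.mk.injEq]
  refine ⟨?_, ?_, ?_, ?_, ?_, ?_, ?_, ?_, ?_⟩
  · rw [testBit_plane (by norm_num) hm, testBit_plane (by norm_num) hm, hb 0 (by norm_num),
      hb 1 (by norm_num)]
    exact F4.ofBits_lo_hi a
  · rw [testBit_plane (by norm_num) hm, testBit_plane (by norm_num) hm, hb 2 (by norm_num),
      hb 3 (by norm_num)]
    exact F4.ofBits_lo_hi b
  · rw [testBit_plane (by norm_num) hm, testBit_plane (by norm_num) hm, hb 4 (by norm_num),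
      hb 5 (by norm_num)]
    exact F4.ofBits_lo_hi c
  · rw [testBit_plane (by norm_num) hm, testBit_plane (by norm_num) hm, hb 6 (by norm_num),
      hb 7 (by norm_num)]
    exact F4.ofBits_lo_hi d
  · rw [testBit_plane (by norm_num) hm, testBit_plane (by norm_num) hm, hb 8 (by norm_num),
      hb 9 (by norm_num)]
    exact F4.ofBits_lo_hi e
  · rw [testBit_plane (by norm_num) hm, testBit_plane (by norm_num) hm, hb 10 (by norm_num),
      hb 11 (by norm_num)]
    exact F4.ofBits_lo_hi f
  · rw [testBit_plane (by norm_num) hm, testBit_plane (by norm_num) hm, hb 12 (by norm_num),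
      hb 13 (by norm_num)]
    exact F4.ofBits_lo_hi g
  · rw [testBit_plane (by norm_num) hm, testBit_plane (by norm_num) hm, hb 14 (by norm_num),
      hb 15 (by norm_num)]
    exact F4.ofBits_lo_hi h
  · rw [testBit_plane (by norm_num) hm, testBit_plane (by norm_num) hm, hb 16 (by norm_num),
      hb 17 (by norm_num)]
    exact F4.ofBits_lo_hi i

/-- A property holds for all matrices if the mask of its failures in the batch of all matrices
vanishes. -/
theorem forall_of_mask (bad : Nat) (P : M9 → Prop)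
    (hbad : ∀ m < 2 ^ 18, bad.testBit m = false → P (X0.get m)) (h0 : bad = 0) : ∀ x, P x := by
  intro x
  have := hbad (M9.code x) (M9.code_lt x) (by rw [h0]; exact Nat.zero_testBit _)
  rwa [X0_get_code] at this

end Cfsg.Agent.Helper7.F4Mat
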