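import Mathlib
import Cfsg.Agent.Helper7.ChevTwF5
import Cfsg.Agent.Helper7.BNRankOne

set_option autoImplicit false
set_option linter.unusedSectionVars false
set_option linter.unusedVariables false
set_option maxHeartbeats 1000000

/-!
The minimal parabolic subgroups `B¹ ∪ B¹ n_c B¹` of a subgroup `G¹` of the fixed points of an automorphism permuting
the root subgroups, and their orders.
-/

namespace Cfsg.Agent.Helper7.Chev

open Cfsg Cfsg.Lie Matrix DoubleCoset
open scoped Pointwise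

variable {D : ChevalleyDatum} {K : Type*} [Field K]

section main

variable (hG : Good2 D) (hT : T0 D) (h3 : (tabOf D).T3) (h4 : (tabOf D).T4 60) (h5 : (tabOf D).T5)
  (h6 : (tabOf D).T6) (h8 : (tabOf D).T8) (h9 : (tabOf D).T9)
  {τ : ↥(D.group K) ≃* ↥(D.group K)} {ρ : ℕ → ℕ} {f : ℕ → K →+* K}
  (hτ : RootAut D K τ ρ f) {G1 : Subgroup (GL D.Idx K)}
  (hle : G1 ≤ fixSub τ) (hU : D.posUnipotent K ⊓ fixSub τ ≤ G1)
  {Wl : List (List ℕ)} (hW : FWList hG (fixSub τ) G1 Wl)
  {cls : List (FCls hG K (fixSub τ) G1)} (hD : FBNData hG Wl cls)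
  (c : FCls hG K (fixSub τ) G1)

include hG hT h3 h4 h5 h6 h8 h9 hτ hle hU hW hD in
/-- The minimal parabolic subgroup `B¹ ∪ B¹ n_c B¹` and its order. -/
theorem exists_parabolic_fix [Finite K] (hc : c ∈ cls) (hcw : c.word ∈ Wl) (hnil : [] ∈ Wl) :
    ∃ M : Subgroup (GL D.Idx K), M ≤ G1 ∧
      (∀ x : GL D.Idx K, x ∈ M ↔ (x ∈ D.borelSubgroup K ⊓ G1 ∨
        ∃ b ∈ D.borelSubgroup K ⊓ G1, ∃ b' ∈ D.borelSubgroup K ⊓ G1, x = b * nWordGL hG c.word * b')) ∧
      Nat.card ↥M = Nat.card ↥(D.posUnipotent K ⊓ G1) * Nat.card ↥(D.diagonalSubgroup K ⊓ G1) *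
        (1 + Nat.card ↥c.X) := by
  have hG1 := hG.toGood1
  obtain ⟨P, hPB, hPN, hPS⟩ :=
    exists_bnPair_fix hG hT h3 h4 h5 h6 h8 h9 hτ hle hU hW hD
  have hBNH := borel_inf_monomial (F := K) hG hT h6 h8 h9
  have memB : ∀ x : ↥G1, x ∈ P.B ↔ (x : GL D.Idx K) ∈ D.borelSubgroup K ⊓ G1 := by
    intro x
    rw [hPB, Subgroup.mem_subgroupOf]
  have memN : ∀ x : ↥G1, x ∈ P.N ↔ (x : GL D.Idx K) ∈ D.monomialSubgroup K ⊓ G1 := by
    intro x
    rw [hPN, Subgroup.mem_subgroupOf]
  set s : ↥G1 := ⟨nWordGL hG c.word, c.n_G1⟩ with hs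
  have hsS : s ∈ P.S := by
    rw [hPS]
    exact ⟨c, hc, rfl⟩
  have hsN : s ∈ P.N := P.subset hsS
  set M : Subgroup (GL D.Idx K) := (P.parabolic {s}).map G1.subtype with hM
  have hMG : M ≤ G1 := by
    rintro x ⟨y, _, rfl⟩
    exact y.2
  have hmemM : ∀ x : GL D.Idx K, x ∈ M ↔ (x ∈ D.borelSubgroup K ⊓ G1 ∨
      ∃ b ∈ D.borelSubgroup K ⊓ G1, ∃ b' ∈ D.borelSubgroup K ⊓ G1, x = b * nWordGL hG c.word * b') := by
    intro x
    constructor
    · rintro ⟨y, hy, rfl⟩
      rcases (BN.mem_parabolic_singleton P hsS y).mp hy with h | h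
      · exact Or.inl ((memB y).mp h)
      · right
        obtain ⟨b, hb, b', hb', e⟩ := (BN.mem_C P).mp h
        refine ⟨b, (memB b).mp hb, b', (memB b').mp hb', ?_⟩
        have := congrArg (fun z : ↥G1 => (z : GL D.Idx K)) e
        exact this
    · rintro (h | ⟨b, hb, b', hb', rfl⟩)
      · refine ⟨⟨x, h.2⟩, ?_, rfl⟩
        exact (BN.mem_parabolic_singleton P hsS _).mpr (Or.inl ((memB _).mpr h))
      · refine ⟨⟨b, hb.2⟩ * s * ⟨b', hb'.2⟩, ?_, rfl⟩
        refine (BN.mem_parabolic_singleton P hsS _).mpr (Or.inr ?_)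
        exact (BN.mem_C P).mpr ⟨⟨b, hb.2⟩, (memB _).mpr hb, ⟨b', hb'.2⟩, (memB _).mpr hb', rfl⟩
  have hBM : D.borelSubgroup K ⊓ G1 ≤ M := fun x hx => (hmemM x).mpr (Or.inl hx)
  have hsM : (nWordGL hG c.word : GL D.Idx K) ∈ M := by
    refine (hmemM _).mpr (Or.inr ⟨1, one_mem _, 1, one_mem _, ?_⟩)
    rw [one_mul, mul_one]
  have hleM : M ≤ fixSub τ := le_trans hMG hle
  have hUM : D.posUnipotent K ⊓ fixSub τ ≤ M := by
    intro x hx
    exact hBM ⟨(le_sup_left : D.posUnipotent K ≤ D.borelSubgroup K) hx.1, hU hx⟩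
  have hcne : c.word ≠ [] := by
    intro h0
    apply BN.S_not_mem_B P hsS
    rw [memB]
    show (nWordGL hG c.word : GL D.Idx K) ∈ _
    rw [h0, nWordGL_nil]
    exact one_mem _
  have hsub : ∀ w ∈ [[], c.word], w ∈ Wl := by
    intro w hw
    simp only [List.mem_cons, List.not_mem_nil, or_false] at hw
    rcases hw with rfl | rfl
    · exact hnil
    · exact hcw
  -- the words whose element of `N` lies in `M`
  have lemA : ∀ w ∈ Wl, (nWordGL hG w : GL D.Idx K) ∈ M → w = [] ∨ w = c.word := by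
    intro w hw hwM
    have hwl := hW.lt w hw
    have hnwG : (nWordGL hG w : GL D.Idx K) ∈ G1 := hW.mem w hw
    set y : ↥G1 := ⟨nWordGL hG w, hnwG⟩ with hy
    have hyP : y ∈ P.parabolic {s} := by
      obtain ⟨y', hy', e⟩ := hwM
      have : y' = y := Subtype.ext e
      rwa [this] at hy'
    have hyN : y ∈ P.N := (memN y).mpr ⟨nWordGL_mem hG w, hnwG⟩
    rcases (BN.mem_parabolic_singleton P hsS y).mp hyP with h | h
    · left
      have hB := ((memB y).mp h).1
      have hH : (nWordGL hG w : GL D.Idx K) ∈ D.diagonalSubgroup K := by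
        rw [← hBNH]
        exact Subgroup.mem_inf.mpr ⟨hB, nWordGL_mem hG w⟩
      have key := reflWord_eq_of_nWordGL_eq hG hT h8 (a := []) (b := w) (by simp) hwl hH
        (by rw [nWordGL_nil, one_mul])
      exact (hW.inj [] hnil w hw key).symm
    · right
      have h1 : y ∈ BN.CW P (BN.proj P ⟨y, hyN⟩) := by
        rw [BN.CW_proj]
        exact BN.self_mem_C P _
      have h2 : y ∈ BN.CW P (BN.proj P ⟨s, hsN⟩) := by
        rw [BN.CW_proj]
        exact h
      have h3' := BN.eq_of_mem_CW P h1 h2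
      have h4' := (BN.proj_eq_iff P).mp h3'
      have h5' : (nWordGL hG w : GL D.Idx K)⁻¹ * nWordGL hG c.word ∈ D.borelSubgroup K :=
        ((memB _).mp h4').1
      have hH : (nWordGL hG w : GL D.Idx K)⁻¹ * nWordGL hG c.word ∈ D.diagonalSubgroup K := by
        have h6' : (nWordGL hG w : GL D.Idx K)⁻¹ * nWordGL hG c.word ∈ D.monomialSubgroup K :=
          mul_mem (inv_mem (nWordGL_mem hG w)) (nWordGL_mem hG c.word)
        rw [← hBNH]
        exact Subgroup.mem_inf.mpr ⟨h5', h6'⟩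
      have key := reflWord_eq_of_nWordGL_eq hG hT h8 (a := w) (b := c.word) hwl c.word_lt hH
        (by group)
      exact hW.inj w hw c.word hcw key
  have hWM : FWList hG (fixSub τ) M [[], c.word] :=
    { nodup := by
        rw [List.nodup_cons]
        refine ⟨?_, List.nodup_singleton _⟩
        rw [List.mem_singleton]
        exact fun h => hcne h.symm
      lt := fun w hw => hW.lt w (hsub w hw)
      mem := by
        intro w hw
        simp only [List.mem_cons, List.not_mem_nil, or_false] at hw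
        rcases hw with rfl | rfl
        · rw [nWordGL_nil]; exact one_mem _
        · exact hsM
      rep := by
        intro n hn
        obtain ⟨w, hw, h, hh, e⟩ := hW.rep n ⟨hn.1, hMG hn.2⟩
        have hhM : h ∈ M := hBM ⟨(le_sup_right : D.diagonalSubgroup K ≤ D.borelSubgroup K) hh.1, hh.2⟩
        have hnw : (nWordGL hG w : GL D.Idx K) ∈ M := by
          have : (nWordGL hG w : GL D.Idx K) = h⁻¹ * n := by rw [e]; group
          rw [this]
          exact mul_mem (inv_mem hhM) hn.2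
        refine ⟨w, ?_, h, ⟨hh.1, hhM⟩, e⟩
        rcases lemA w hw hnw with rfl | rfl
        · exact List.mem_cons_self
        · exact List.mem_cons_of_mem _ List.mem_cons_self
      inj := fun w hw w' hw' => hW.inj w (hsub w hw) w' (hsub w' hw')
      minus := fun w hw => hW.minus w (hsub w hw) }
  refine ⟨M, hMG, hmemM, ?_⟩
  rw [card_fix hG hT h3 h4 h5 h6 h8 h9 hτ hleM hUM hWM]
  have e1 : D.posUnipotent K ⊓ M = D.posUnipotent K ⊓ G1 := by
    apply le_antisymm (inf_le_inf_left _ hMG)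
    intro x hx
    exact ⟨hx.1, hBM ⟨(le_sup_left : D.posUnipotent K ≤ D.borelSubgroup K) hx.1, hx.2⟩⟩
  have e2 : D.diagonalSubgroup K ⊓ M = D.diagonalSubgroup K ⊓ G1 := by
    apply le_antisymm (inf_le_inf_left _ hMG)
    intro x hx
    exact ⟨hx.1, hBM ⟨(le_sup_right : D.diagonalSubgroup K ≤ D.borelSubgroup K) hx.1, hx.2⟩⟩
  rw [e1, e2]
  congr 1
  have hpp : FClsPos hG [c] := by
    refine ⟨?_, trivial⟩
    intro r hr
    have hpos := c.P_pos r hr
    rw [List.reverse_nil, List.flatMap_nil]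
    show D.nroots / 2 ≤ r
    exact (isPosRoot_iff hT hpos.1).mp hpos
  have hcard := (fM_main hG hT h8 [c] hpp).2.2
  have hword : ([c].reverse.flatMap FCls.word) = c.word := by
    simp
  rw [hword] at hcard
  simp only [List.map_cons, List.map_nil, List.sum_cons, List.sum_nil, add_zero]
  rw [fM_nil hG hT, hcard]
  simp

end main

end Cfsg.Agent.Helper7.Chev
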