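import Mathlib
import Cfsg.Agent.Helper7.F4InvL

set_option autoImplicit false
set_option linter.unusedSectionVars false
set_option linter.unusedVariables false
set_option maxHeartbeats 1000000

/-!
`²F₄(q)` has exactly two classes of involutions.
-/

namespace Cfsg.Agent.Helper7.Chev

open Cfsg Cfsg.Lie Matrix
open scoped Pointwise

variable {K : Type*} [Field K] [CharP K 2] {m : ℕ}

local notation "φ" => f4Th K (m + 1)

section basic

variable (hm : ∀ t : K, t ^ 2 ^ (2 * m + 1) = t)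

include hm in
theorem tw8_sq_Y1 (p : K) : tY1 φ p * tY1 φ p = 1 := by
  rw [← tw8_Y1, tw8_sq _ (f4Ph_f4Ph hm), ← tw8_zero φ]
  apply tw8_congr <;> (try simp only [map_zero]) <;> ring

include hm in
theorem tw8_sq_Z8 (w : K) : tY8 φ 0 w * tY8 φ 0 w = 1 := by
  rw [← tw8_Y8, tw8_sq _ (f4Ph_f4Ph hm), ← tw8_zero φ]
  apply tw8_congr <;> (try simp only [map_zero]) <;> ring

include hm in
theorem tY1_ne_one {p : K} (hp : p ≠ 0) : tY1 φ p ≠ 1 := by
  intro h
  rw [← tw8_Y1, ← tw8_zero φ] at h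
  exact hp (tw8_inj _ (f4Ph_f4Ph hm) h).1

include hm in
theorem tZ8_ne_one {w : K} (hw : w ≠ 0) : tY8 φ 0 w ≠ 1 := by
  intro h
  rw [← tw8_Y8, ← tw8_zero φ] at h
  exact hw (tw8_inj _ (f4Ph_f4Ph hm) h).2.2.2.2.2.2.2.2.2.2.2

/-- `x_{44}(w) x_{47}(w')` is conjugate to `x_S(0, w)`. -/
theorem conjF_Z4_Z8 (w : K) : ConjF m (tY4 φ 0 w) (tY8 φ 0 w) := by
  have e1 := conjF_nA (m := m) (tY4 φ 0 w)
  rw [nA_tY4] at e1
  have e2 := conjF_nB (m := m) (tY6 φ 0 w)
  rw [nB_tY6] at e2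
  have e3 := conjF_nA (m := m) (tY2 φ 0 w)
  rw [nA_tY2] at e3
  exact (e1.trans e2).trans e3

end basic

section main

variable [Fintype K]

theorem conjF_iff_isConj {x y : GL chevF4.Idx K} (hx : x ∈ twistedF4 K (2 ^ m))
    (hy : y ∈ twistedF4 K (2 ^ m)) :
    ConjF m x y ↔ IsConj (⟨x, hx⟩ : ↥(twistedF4 K (2 ^ m))) ⟨y, hy⟩ := by
  rw [isConj_iff]
  constructor
  · rintro ⟨h, hh, e⟩
    exact ⟨⟨h, hh⟩, Subtype.ext e⟩
  · rintro ⟨⟨h, hh⟩, e⟩
    exact ⟨h, hh, congrArg Subtype.val e⟩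

/-- The two standard involutions are not conjugate. -/
theorem not_conjF_Z8_Y1 (hK : Fintype.card K = 2 ^ (2 * m + 1)) :
    ¬ ConjF m (tY8 φ 0 (1 : K)) (tY1 φ 1) := fun h =>
  not_conjF_Z4_Y1 hK ((conjF_Z4_Z8 1).trans h)

/-- The twisted group of type `F₄` has exactly two classes of elements of order two. -/
theorem f4_inv_classes (hK : Fintype.card K = 2 ^ (2 * m + 1)) :
    (ConjClasses.mk '' {g : ↥(twistedF4 K (2 ^ m)) | orderOf g = 2}).ncard = 2 := by
  have hm := pow_card_two hK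
  have hPm : tY1 φ (1 : K) ∈ twistedF4 K (2 ^ m) := tY1_mem hm 1
  have hZm : tY8 φ 0 (1 : K) ∈ twistedF4 K (2 ^ m) := tY8_mem hm 0 1
  set yP : ↥(twistedF4 K (2 ^ m)) := ⟨tY1 φ 1, hPm⟩ with hyP
  set yZ : ↥(twistedF4 K (2 ^ m)) := ⟨tY8 φ 0 1, hZm⟩ with hyZ
  have hoP : orderOf yP = 2 := by
    rw [← Subgroup.orderOf_coe]
    apply orderOf_eq_prime
    · rw [sq]; exact tw8_sq_Y1 hm 1
    · exact tY1_ne_one hm one_ne_zero
  have hoZ : orderOf yZ = 2 := by
    rw [← Subgroup.orderOf_coe]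
    apply orderOf_eq_prime
    · rw [sq]; exact tw8_sq_Z8 hm 1
    · exact tZ8_ne_one hm one_ne_zero
  have hne : ConjClasses.mk yP ≠ ConjClasses.mk yZ := by
    intro h
    rw [ConjClasses.mk_eq_mk_iff_isConj] at h
    exact not_conjF_Z8_Y1 hK ((conjF_iff_isConj hPm hZm).mpr h).symm
  have hset : ConjClasses.mk '' {g : ↥(twistedF4 K (2 ^ m)) | orderOf g = 2} =
      {ConjClasses.mk yP, ConjClasses.mk yZ} := by
    ext c
    constructor
    · rintro ⟨g, hg, rfl⟩
      have ho : orderOf (g : GL chevF4.Idx K) = 2 := by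
        rw [Subgroup.orderOf_coe]; exact hg
      rcases stdF_of_order_two hK g.2 ho with h | h
      · left
        rw [ConjClasses.mk_eq_mk_iff_isConj]
        exact (conjF_iff_isConj g.2 hPm).mp h
      · right
        rw [Set.mem_singleton_iff, ConjClasses.mk_eq_mk_iff_isConj]
        exact (conjF_iff_isConj g.2 hZm).mp h
    · rintro (rfl | rfl)
      · exact ⟨yP, hoP, rfl⟩
      · exact ⟨yZ, hoZ, rfl⟩
  rw [hset, Set.ncard_pair hne]

end main

/-- `²F₄(q)` has exactly two classes of elements of order two. -/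
theorem twistedF4_inv_classes {K : Type*} [Field K] [Fintype K] (m : ℕ)
    (hK : Fintype.card K = 2 ^ (2 * m + 1)) :
    (ConjClasses.mk '' {g : ↥(twistedF4 K (2 ^ m)) | orderOf g = 2}).ncard = 2 := by
  haveI := charP_two_of_card (by omega) hK
  exact f4_inv_classes hK

end Cfsg.Agent.Helper7.Chev
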