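import Mathlib
import Cfsg.Agent.Helper7.F4CentB
import Cfsg.Agent.Helper7.F4CentC
import Cfsg.Agent.Helper7.F4InvM

set_option autoImplicit false
set_option linter.unusedSectionVars false
set_option linter.unusedVariables false
set_option maxHeartbeats 1000000

/-!
`²F₄(q)`: the centralizer of an involution lies in a conjugate of a minimal parabolic subgroup, of order
`q¹² (q - 1)² (q + 1)` or `q¹² (q - 1)² (q² + 1)`.
-/

namespace Cfsg.Agent.Helper7.Chev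

open Cfsg Cfsg.Lie Matrix
open scoped Pointwise

section arith

theorem f4_par_dvd (q : ℕ) (hq : 1 ≤ q) :
    q ^ 12 * (q - 1) ^ 2 * (1 + q) ∣ (q * (q ^ 4 - 1)) ^ 15 ∧
      q ^ 12 * (q - 1) ^ 2 * (1 + q * q) ∣ (q * (q ^ 4 - 1)) ^ 15 := by
  obtain ⟨p, rfl⟩ : ∃ p, q = p + 1 := ⟨q - 1, by omega⟩
  have e1 : p + 1 - 1 = p := Nat.add_sub_cancel p 1
  have e2 : (p + 1) ^ 4 - 1 = p * (p + 2) * ((p + 1) ^ 2 + 1) := by
    have : (p + 1) ^ 4 = p * (p + 2) * ((p + 1) ^ 2 + 1) + 1 := by ring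
    rw [this, Nat.add_sub_cancel]
  rw [e1, e2]
  set N := (p + 1) * (p * (p + 2) * ((p + 1) ^ 2 + 1)) with hN
  have d1 : (p + 1) ∣ N := Dvd.intro _ rfl
  have d2 : p ∣ N := ⟨(p + 1) * ((p + 2) * ((p + 1) ^ 2 + 1)), by rw [hN]; ring⟩
  have d3 : 1 + (p + 1) ∣ N := ⟨(p + 1) * (p * ((p + 1) ^ 2 + 1)), by rw [hN]; ring⟩
  have d4 : 1 + (p + 1) * (p + 1) ∣ N := ⟨(p + 1) * (p * (p + 2)), by rw [hN]; ring⟩
  have s : N ^ 15 = N ^ 12 * N ^ 2 * N := by ring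
  rw [s]
  exact ⟨mul_dvd_mul (mul_dvd_mul (pow_dvd_pow_of_dvd d1 12) (pow_dvd_pow_of_dvd d2 2)) d3,
    mul_dvd_mul (mul_dvd_mul (pow_dvd_pow_of_dvd d1 12) (pow_dvd_pow_of_dvd d2 2)) d4⟩

end arith

section main

variable {K : Type*} [Field K] [Fintype K] [CharP K 2] {m : ℕ}

/-- The two minimal parabolic subgroups and their orders. -/
theorem f4_exists_parabolic (hK : Fintype.card K = 2 ^ (2 * m + 1)) (w : List ℕ)
    (hw : w = [0, 3] ∨ w = [2, 1, 2, 1]) :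
    ∃ M : Subgroup (GL chevF4.Idx K), M ≤ twistedF4 K (2 ^ m) ∧
      (∀ x : GL chevF4.Idx K, x ∈ M ↔ (x ∈ chevF4.borelSubgroup K ⊓ twistedF4 K (2 ^ m) ∨
        ∃ b ∈ chevF4.borelSubgroup K ⊓ twistedF4 K (2 ^ m),
          ∃ b' ∈ chevF4.borelSubgroup K ⊓ twistedF4 K (2 ^ m),
            x = b * nWordGL good3_F4.toGood2 w * b')) ∧
      Nat.card ↥M ∣ (2 ^ (2 * m + 1) * ((2 ^ (2 * m + 1)) ^ 4 - 1)) ^ 15 := by
  have hm := pow_card_two hK
  have hq : 1 ≤ 2 ^ (2 * m + 1) := Nat.one_le_two_pow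
  rcases hw with rfl | rfl
  · obtain ⟨M, hMG, hmem, hcard⟩ :=
      exists_parabolic_fix good3_F4.toGood2 T0_F4 good3_F4.t3 good3_F4.t4 T5_F4 T6_F4 T8_F4 T9_F4
        (f4Tau_rootAut hm) (twistedF4_le_fixSub hm) (f4_posFix_le hm) (f4_fWList hm) (f4_fbnData hm)
        (f4Cls1 hm) (by unfold f4ClsList; exact List.mem_cons_self) (by rw [f4Cls1_word]; decide)
        (by decide)
    refine ⟨M, hMG, hmem, ?_⟩
    rw [hcard, f4_card_U hK, f4_card_H hK, f4Cls1_X, card_XJ1_fix hm, Nat.card_eq_fintype_card, hK]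
    exact (f4_par_dvd _ hq).1
  · obtain ⟨M, hMG, hmem, hcard⟩ :=
      exists_parabolic_fix good3_F4.toGood2 T0_F4 good3_F4.t3 good3_F4.t4 T5_F4 T6_F4 T8_F4 T9_F4
        (f4Tau_rootAut hm) (twistedF4_le_fixSub hm) (f4_posFix_le hm) (f4_fWList hm) (f4_fbnData hm)
        (f4Cls2 hm) (by unfold f4ClsList; exact List.mem_cons_of_mem _ List.mem_cons_self)
        (by rw [f4Cls2_word]; decide) (by decide)
    refine ⟨M, hMG, hmem, ?_⟩
    rw [hcard, f4_card_U hK, f4_card_H hK, f4Cls2_X, card_XJ2_fix hm, Nat.card_eq_fintype_card, hK]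
    exact (f4_par_dvd _ hq).2

/-- An element of one of the two Bruhat cells of a minimal parabolic subgroup has order dividing a power of
`q (q⁴ - 1)`. -/
theorem orderOf_dvd_of_cell (hK : Fintype.card K = 2 ^ (2 * m + 1)) {w w0 : List ℕ}
    (hw0 : w0 = [0, 3] ∨ w0 = [2, 1, 2, 1]) (hw : w = [] ∨ w = w0) {g b b' : GL chevF4.Idx K}
    (hb : b ∈ chevF4.borelSubgroup K ⊓ twistedF4 K (2 ^ m))
    (hb' : b' ∈ chevF4.borelSubgroup K ⊓ twistedF4 K (2 ^ m))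
    (e : g = b * nWordGL good3_F4.toGood2 w * b') :
    orderOf g ∣ (2 ^ (2 * m + 1) * ((2 ^ (2 * m + 1)) ^ 4 - 1)) ^ 15 := by
  obtain ⟨M, hMG, hmem, hcard⟩ := f4_exists_parabolic hK w0 hw0
  have hgM : g ∈ M := by
    rw [hmem]
    rcases hw with rfl | rfl
    · left
      rw [e, nWordGL_nil, mul_one]
      exact mul_mem hb hb'
    · right
      exact ⟨b, hb, b', hb', e⟩
  have h1 : orderOf (⟨g, hgM⟩ : ↥M) = orderOf g := Subgroup.orderOf_mk g hgM
  rw [← h1]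
  exact dvd_trans (orderOf_dvd_natCard _) hcard

/-- The order of an element commuting with an involution. -/
theorem f4_cent_orderOf (hK : Fintype.card K = 2 ^ (2 * m + 1)) {a b : GL chevF4.Idx K}
    (haG : a ∈ twistedF4 K (2 ^ m)) (hbG : b ∈ twistedF4 K (2 ^ m)) (ha : orderOf a = 2)
    (hab : a * b = b * a) :
    orderOf b ∣ (2 ^ (2 * m + 1) * ((2 ^ (2 * m + 1)) ^ 4 - 1)) ^ 15 := by
  have hm := pow_card_two hK
  set φ := f4Th K (m + 1) with hφ
  have hstd := stdF_of_order_two hK haG ha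
  -- reduce to a representative
  have key : ∀ x : GL chevF4.Idx K, ConjF m a x →
      (∀ g ∈ twistedF4 K (2 ^ m), g * x * g⁻¹ = x →
        orderOf g ∣ (2 ^ (2 * m + 1) * ((2 ^ (2 * m + 1)) ^ 4 - 1)) ^ 15) →
      orderOf b ∣ (2 ^ (2 * m + 1) * ((2 ^ (2 * m + 1)) ^ 4 - 1)) ^ 15 := by
    rintro x ⟨h, hh, rfl⟩ hx
    have h1 : orderOf (h * b * h⁻¹) = orderOf b := by
      have := orderOf_injective (MulAut.conj h).toMonoidHom (MulAut.conj h).injective b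
      simpa using this
    rw [← h1]
    apply hx _ (mul_mem (mul_mem hh hbG) (inv_mem hh))
    calc h * b * h⁻¹ * (h * a * h⁻¹) * (h * b * h⁻¹)⁻¹ = h * (b * a) * b⁻¹ * h⁻¹ := by group
      _ = h * (a * b) * b⁻¹ * h⁻¹ := by rw [hab]
      _ = h * a * h⁻¹ := by group
  rcases hstd with h1 | h8
  · -- the class of `x_P(1)`
    have c1 := conjF_nB (m := m) (tY1 φ (1 : K))
    rw [nB_tY1] at c1
    have c2 := conjF_nA (m := m) (tY7 φ (1 : K))
    rw [nA_tY7] at c2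
    have c3 := conjF_nB (m := m) (tY3 φ (1 : K))
    rw [nB_tY3] at c3
    apply key (tY5 φ 1) (h1.trans (c1.trans (c2.trans c3)))
    intro g hg hc
    obtain ⟨w, hw, β, hβ, β', hβ', e⟩ := cent_y5_cell hK hg hc
    exact orderOf_dvd_of_cell hK (Or.inl rfl) hw hβ hβ' e
  · -- the class of `x_S(0, 1)`
    apply key (tY4 φ 0 1) (h8.trans (conjF_Z4_Z8 (m := m) (1 : K)).symm)
    intro g hg hc
    obtain ⟨w, hw, β, hβ, β', hβ', e⟩ := cent_z4_cell hK hg hc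
    exact orderOf_dvd_of_cell hK (Or.inr rfl) hw hβ hβ' e

end main

/-- The statement of S2369. -/
theorem f4_S2369 {K : Type*} [Field K] [Fintype K] (m : ℕ) (hK : Fintype.card K = 2 ^ (2 * m + 1))
    (a b : ↥(twistedF4 K (2 ^ m))) (ha : orderOf a = 2) (hab : Commute a b) :
    (orderOf b).primeFactors ⊆ (2 ^ (2 * m + 1) * ((2 ^ (2 * m + 1)) ^ 4 - 1)).primeFactors := by
  haveI := charP_two_of_card (by omega) hK
  have ha' : orderOf (a : GL chevF4.Idx K) = 2 := by rw [Subgroup.orderOf_coe]; exact ha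
  have hab' : (a : GL chevF4.Idx K) * b = b * a := by
    have := congrArg (fun z : ↥(twistedF4 K (2 ^ m)) => (z : GL chevF4.Idx K)) hab.eq
    exact this
  have h1 := f4_cent_orderOf hK a.2 b.2 ha' hab'
  rw [Subgroup.orderOf_coe] at h1
  have hq : 1 ≤ 2 ^ (2 * m + 1) := Nat.one_le_two_pow
  have hne : (2 ^ (2 * m + 1) * ((2 ^ (2 * m + 1)) ^ 4 - 1)) ^ 15 ≠ 0 := by
    apply pow_ne_zero
    apply Nat.mul_ne_zero (by positivity)
    have : 2 ≤ 2 ^ (2 * m + 1) := by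
      calc 2 = 2 ^ 1 := by norm_num
        _ ≤ 2 ^ (2 * m + 1) := Nat.pow_le_pow_right (by norm_num) (by omega)
    have h16 : 2 ^ 4 ≤ (2 ^ (2 * m + 1)) ^ 4 := Nat.pow_le_pow_left this 4
    omega
  have h2 := Nat.primeFactors_mono h1 hne
  rwa [Nat.primeFactors_pow _ (by norm_num)] at h2

end Cfsg.Agent.Helper7.Chev
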