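import Cfsg.Agent.Helper7.F4Batch

set_option autoImplicit false

/-! Decoding of indices of matrices, and masks of lists of indices. -/

namespace Cfsg.Agent.Helper7.F4Mat

/-- The matrix with a given index. -/
def M9.ofCode (m : Nat) : M9 :=
  ⟨F4.ofBits (m.testBit 0) (m.testBit 1), F4.ofBits (m.testBit 2) (m.testBit 3),
   F4.ofBits (m.testBit 4) (m.testBit 5), F4.ofBits (m.testBit 6) (m.testBit 7),
   F4.ofBits (m.testBit 8) (m.testBit 9), F4.ofBits (m.testBit 10) (m.testBit 11),
   F4.ofBits (m.testBit 12) (m.testBit 13), F4.ofBits (m.testBit 14) (m.testBit 15),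
   F4.ofBits (m.testBit 16) (m.testBit 17)⟩

theorem X0_get {m : Nat} (hm : m < 2 ^ 18) : X0.get m = M9.ofCode m := by
  simp only [PM9.get, X0, P4.get, M9.ofCode]
  rw [testBit_plane (by norm_num) hm, testBit_plane (by norm_num) hm,
    testBit_plane (by norm_num) hm, testBit_plane (by norm_num) hm,
    testBit_plane (by norm_num) hm, testBit_plane (by norm_num) hm,
    testBit_plane (by norm_num) hm, testBit_plane (by norm_num) hm,
    testBit_plane (by norm_num) hm, testBit_plane (by norm_num) hm,
    testBit_plane (by norm_num) hm, testBit_plane (by norm_num) hm,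
    testBit_plane (by norm_num) hm, testBit_plane (by norm_num) hm,
    testBit_plane (by norm_num) hm, testBit_plane (by norm_num) hm,
    testBit_plane (by norm_num) hm, testBit_plane (by norm_num) hm]

theorem M9.ofCode_code (x : M9) : M9.ofCode (M9.code x) = x := by
  rw [← X0_get (M9.code_lt x), X0_get_code]

/-- The mask of a list of indices (with attached data). -/
def certMask {α : Type} : List (Nat × α) → Nat
  | [] => 0
  | p :: L => (2 ^ p.1) ||| certMask L

theorem testBit_certMask {α : Type} (m : Nat) : ∀ (L : List (Nat × α)),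
    (certMask L).testBit m = true → ∃ p ∈ L, p.1 = m
  | [], h => by simp [certMask] at h
  | p :: L, h => by
    rw [certMask, Nat.testBit_or, Bool.or_eq_true, Nat.testBit_two_pow, decide_eq_true_eq] at h
    rcases h with h | h
    · exact ⟨p, List.mem_cons_self, h⟩
    · obtain ⟨q, hq, hqm⟩ := testBit_certMask m L h
      exact ⟨q, List.mem_cons_of_mem _ hq, hqm⟩

end Cfsg.Agent.Helper7.F4Mat
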