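import Mathlib
import Cfsg.Agent.Helper7.F4ClsE

set_option autoImplicit false
set_option linter.unusedSectionVars false
set_option linter.unusedVariables false
set_option maxHeartbeats 1000000

/-!
Type `F₄`, characteristic two: every involution is conjugate to a product of root elements `x_r(1)` of
pairwise orthogonal roots, taken from a list of eleven products.
-/

namespace Cfsg.Agent.Helper7.Chev

open Cfsg Cfsg.Lie Matrix DoubleCoset
open scoped Pointwise

/-- For each special involution of the Weyl group, orthogonal roots whose reflections multiply to it, each given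
as the image of a fundamental root under a word. -/
def f4Data : List (List (List ℕ × ℕ)) :=
  [[],
   [([0, 1, 2, 3, 1, 2, 1], 0)],
   [([3, 2, 1, 2, 3, 0, 1], 2)],
   [([3, 2], 1), ([0, 1, 2, 3, 1, 2, 1], 0)],
   [([2, 3, 1], 2), ([0, 1, 2, 3, 1, 2, 1], 0)],
   [([2, 3, 1, 2, 1], 0), ([1, 2, 3, 0, 1], 2)],
   [([1, 2, 1], 0), ([3, 2, 1, 2, 3, 0, 1], 2)],
   [([2, 3, 1], 2), ([2, 3, 0, 1], 2), ([1, 2, 3, 0, 1], 2)],
   [([1], 2), ([0, 1], 2), ([3, 2, 1, 2, 3, 0, 1], 2)],
   [([2], 1), ([3, 2], 1), ([0, 1, 2, 3, 1, 2, 1], 0)],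
   [([1, 2, 1], 0), ([3, 1, 2, 1], 0), ([2, 3, 1, 2, 1], 0)],
   [([2, 3, 1], 2), ([1, 2, 1], 0), ([3, 1, 2, 1], 0), ([2, 3, 0, 1], 2)]]

/-- The roots of the products. -/
def f4DataRoots : List (List (Fin 48)) :=
  [[], [44], [47], [29, 44], [32, 44], [39, 45], [37, 47], [32, 43, 45], [30, 41, 47], [28, 29, 44],
    [37, 38, 39], [32, 37, 38, 43]]

set_option maxRecDepth 1000000 in
theorem f4Data_ok : ∀ k < 12,
    (∀ d ∈ f4Data.getD k [], f4DValid d) ∧
    ((f4Data.getD k []).Pairwise fun d d' => f4PairOK d d' = true) ∧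
    ((f4Data.getD k []).Pairwise fun d d' => f4CommOK (f4DP d) (f4DP d') = true) ∧
    (∀ r < 48, fastF4.reflWord (f4Big (f4Data.getD k [])) r = fastF4.reflWord (f4Spec.getD k []) r) ∧
    (f4Data.getD k []).map f4DP = f4DataRoots.getD k [] := by
  decide +kernel

variable {K : Type*} [Field K] [CharP K 2]

/-- Every involution is conjugate to one of eleven products of commuting root elements. -/
theorem f4_inv_conj_data [Fintype K] {t : GL chevF4.Idx K} (ht : t ∈ chevF4.group K) (ht2 : t * t = 1)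
    (ht1 : t ≠ 1) :
    ∃ g ∈ chevF4.group K, ∃ k, 1 ≤ k ∧ k < 12 ∧
      g * t * g⁻¹ = fxProd ((f4DataRoots.getD k []).map fun r => (r, (1 : K))) := by
  obtain ⟨g, hg, w, hw, h, hh, e⟩ := f4_inv_conj_N ht ht2
  obtain ⟨k, hk, ek⟩ := List.getElem_of_mem hw
  have hk12 : k < 12 := hk
  have ew : w = f4Spec.getD k [] := by
    rw [← ek, List.getD_eq_getElem _ _ hk]
  have hinv : (h * nWordGL good3_F4.toGood2 w) * (h * nWordGL good3_F4.toGood2 w) = 1 := by
    rw [← e]
    calc g * t * g⁻¹ * (g * t * g⁻¹) = g * (t * t) * g⁻¹ := by group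
      _ = 1 := by rw [ht2]; group
  obtain ⟨hval, hpw, hPP, hrefl, hroots⟩ := f4Data_ok k hk12
  rcases Nat.eq_zero_or_pos k with h0 | hpos
  · -- the trivial element of the Weyl group: impossible
    exfalso
    subst h0
    have ew' : w = [] := by rw [ew]; rfl
    rw [ew', nWordGL_nil, mul_one] at e hinv
    obtain ⟨N, hN, hhN⟩ := f4_torus_odd hh
    obtain ⟨a, rfl⟩ := hN
    have h1 : h = 1 := by
      have : h ^ (2 * a + 1) = h := by
        rw [pow_succ, pow_mul, pow_two, hinv, one_pow, one_mul]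
      rw [← this, hhN]
    rw [h1] at e
    apply ht1
    calc t = g⁻¹ * (g * t * g⁻¹) * g := by group
      _ = 1 := by rw [e]; group
  · have hwr : ∀ i ∈ w, i < chevF4.rank := (wList_F4.ok w (f4Spec_sub w hw)).1
    rw [← ew] at hrefl
    obtain ⟨g', hg', e'⟩ := f4_inv_N_conj hwr (f4Data.getD k []) hval hpw hPP hrefl hh hinv
    refine ⟨g' * g, mul_mem hg' hg, k, hpos, hk12, ?_⟩
    rw [← hroots, List.map_map]
    have hcomp : ((fun r : Fin 48 => (r, (1 : K))) ∘ f4DP) = fun d => (f4DP d, (1 : K)) := rfl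
    rw [hcomp, ← e', ← e]
    group

end Cfsg.Agent.Helper7.Chev
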