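import Mathlib
import Cfsg.Agent.Helper7.F4ClsF

set_option autoImplicit false
set_option linter.unusedSectionVars false
set_option linter.unusedVariables false
set_option maxHeartbeats 4000000
set_option linter.unusedSimpArgs false

/-!
Type `F₄`, characteristic two: the fusion of the eleven products of root elements into four classes
(generated text).
-/

namespace Cfsg.Agent.Helper7.Chev

open Cfsg Cfsg.Lie Matrix DoubleCoset
open scoped Pointwise

variable {K : Type*} [Field K] [CharP K 2]

/-- The product of the root elements `x_r(1)` over a list of roots. -/
noncomputable def f4One (R : List (Fin 48)) : GL chevF4.Idx K := fxProd (R.map fun r => (r, (1 : K)))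

/-- Conjugacy in the Chevalley group. -/
def F4Conj (X Y : GL chevF4.Idx K) : Prop := ∃ g ∈ chevF4.group K, g * X * g⁻¹ = Y

theorem F4Conj.refl (X : GL chevF4.Idx K) : F4Conj X X := ⟨1, one_mem _, by group⟩

theorem F4Conj.trans {X Y Z : GL chevF4.Idx K} (h1 : F4Conj X Y) (h2 : F4Conj Y Z) : F4Conj X Z := by
  obtain ⟨g, hg, e⟩ := h1
  obtain ⟨g', hg', e'⟩ := h2
  refine ⟨g' * g, mul_mem hg' hg, ?_⟩
  rw [← e', ← e]
  group

theorem f4Conj_x (s : Fin 48) {X Y : GL chevF4.Idx K} (h : fx K s 1 * X * fx K s 1 = Y) : F4Conj X Y := by
  refine ⟨fx K s 1, fx_mem_group _ _, ?_⟩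
  rw [inv_eq_of_mul_eq_one_left (fx_sq2 s (1 : K))]
  exact h

theorem f4Conj_n {w : List ℕ} (hw : ∀ i ∈ w, i < chevF4.rank) (R R' : List (Fin 48))
    (h : R.map (f4Img w) = R') : F4Conj (f4One (K := K) R) (f4One R') := by
  refine ⟨nWordGL good3_F4.toGood2 w,
    monomialSubgroup_le_group good3_F4.toGood1 (nWordGL_mem good3_F4.toGood2 w), ?_⟩
  unfold f4One
  rw [conj_fxProd hw, ← h, List.map_map, List.map_map]
  rfl

theorem f4_fus_x0 : fx K 41 1 * f4One (K := K) [29, 44] * fx K 41 1 = f4One [29, 47] := by
  have h2 := two_eq_zero' (K := K)
  apply eq_of_mul_fw24
  simp only [f4One, fxProd, List.map_cons, List.map_nil, List.prod_cons, List.prod_nil, mul_one, mul_assoc]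
  conv_lhs => rw [fl41_24, fl44_24, fl29_24, fl41_24]
  conv_rhs => rw [fl47_24, fl29_24]
  apply fw24_congr
  · linear_combination (0) * h2
  · linear_combination (0) * h2
  · linear_combination (0) * h2
  · linear_combination (0) * h2
  · linear_combination (0) * h2
  · linear_combination (0) * h2
  · linear_combination (0) * h2
  · linear_combination (0) * h2
  · linear_combination (0) * h2
  · linear_combination (0) * h2
  · linear_combination (0) * h2
  · linear_combination (0) * h2
  · linear_combination (0) * h2
  · linear_combination (0) * h2
  · linear_combination (0) * h2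
  · linear_combination (0) * h2
  · linear_combination (0) * h2
  · linear_combination (1) * h2
  · linear_combination (0) * h2
  · linear_combination (0) * h2
  · linear_combination (1) * h2
  · linear_combination (0) * h2
  · linear_combination (0) * h2
  · linear_combination (0) * h2

theorem f4_fus_r0 : f4One (K := K) [44, 47] = f4One [47, 44] := by
  simp only [f4One, fxProd, List.map_cons, List.map_nil, List.prod_cons, List.prod_nil, mul_one]
  exact fx_comm_of_ok (r := 47) (s := 44) (by decide) 1 1

theorem f4_fus_r1 : f4One (K := K) [45, 39] = f4One [39, 45] := by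
  simp only [f4One, fxProd, List.map_cons, List.map_nil, List.prod_cons, List.prod_nil, mul_one]
  exact fx_comm_of_ok (r := 39) (s := 45) (by decide) 1 1

theorem f4_fus_x1 : fx K 27 1 * f4One (K := K) [32, 43, 45] * fx K 27 1 = f4One [32, 43, 44] := by
  have h2 := two_eq_zero' (K := K)
  apply eq_of_mul_fw24
  simp only [f4One, fxProd, List.map_cons, List.map_nil, List.prod_cons, List.prod_nil, mul_one, mul_assoc]
  conv_lhs => rw [fl27_24, fl45_24, fl43_24, fl32_24, fl27_24]
  conv_rhs => rw [fl44_24, fl43_24, fl32_24]
  apply fw24_congr
  · linear_combination (0) * h2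
  · linear_combination (0) * h2
  · linear_combination (0) * h2
  · linear_combination (1) * h2
  · linear_combination (0) * h2
  · linear_combination (0) * h2
  · linear_combination (0) * h2
  · linear_combination (0) * h2
  · linear_combination (0) * h2
  · linear_combination (0) * h2
  · linear_combination (0) * h2
  · linear_combination (0) * h2
  · linear_combination (0) * h2
  · linear_combination (0) * h2
  · linear_combination (0) * h2
  · linear_combination (0) * h2
  · linear_combination (0) * h2
  · linear_combination (0) * h2
  · linear_combination (0) * h2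
  · linear_combination (0) * h2
  · linear_combination (0) * h2
  · linear_combination (1) * h2
  · linear_combination (0) * h2
  · linear_combination (0) * h2

theorem f4_fus_x2 : fx K 33 1 * f4One (K := K) [32, 43, 44] * fx K 33 1 = f4One [32, 39, 44] := by
  have h2 := two_eq_zero' (K := K)
  apply eq_of_mul_fw24
  simp only [f4One, fxProd, List.map_cons, List.map_nil, List.prod_cons, List.prod_nil, mul_one, mul_assoc]
  conv_lhs => rw [fl33_24, fl44_24, fl43_24, fl32_24, fl33_24]
  conv_rhs => rw [fl44_24, fl39_24, fl32_24]
  apply fw24_congr
  · linear_combination (0) * h2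
  · linear_combination (0) * h2
  · linear_combination (0) * h2
  · linear_combination (0) * h2
  · linear_combination (0) * h2
  · linear_combination (0) * h2
  · linear_combination (0) * h2
  · linear_combination (0) * h2
  · linear_combination (0) * h2
  · linear_combination (1) * h2
  · linear_combination (0) * h2
  · linear_combination (0) * h2
  · linear_combination (0) * h2
  · linear_combination (0) * h2
  · linear_combination (0) * h2
  · linear_combination (0) * h2
  · linear_combination (0) * h2
  · linear_combination (0) * h2
  · linear_combination (0) * h2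
  · linear_combination (1) * h2
  · linear_combination (0) * h2
  · linear_combination (0) * h2
  · linear_combination (0) * h2
  · linear_combination (0) * h2

theorem f4_fus_x3 : fx K 27 1 * f4One (K := K) [45, 40, 39] * fx K 27 1 = f4One [39, 45] := by
  have h2 := two_eq_zero' (K := K)
  apply eq_of_mul_fw24
  simp only [f4One, fxProd, List.map_cons, List.map_nil, List.prod_cons, List.prod_nil, mul_one, mul_assoc]
  conv_lhs => rw [fl27_24, fl39_24, fl40_24, fl45_24, fl27_24]
  conv_rhs => rw [fl45_24, fl39_24]
  apply fw24_congr
  · linear_combination (0) * h2
  · linear_combination (0) * h2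
  · linear_combination (0) * h2
  · linear_combination (1) * h2
  · linear_combination (0) * h2
  · linear_combination (0) * h2
  · linear_combination (0) * h2
  · linear_combination (0) * h2
  · linear_combination (0) * h2
  · linear_combination (0) * h2
  · linear_combination (0) * h2
  · linear_combination (0) * h2
  · linear_combination (0) * h2
  · linear_combination (0) * h2
  · linear_combination (0) * h2
  · linear_combination (0) * h2
  · linear_combination (1) * h2
  · linear_combination (0) * h2
  · linear_combination (0) * h2
  · linear_combination (0) * h2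
  · linear_combination (0) * h2
  · linear_combination (0) * h2
  · linear_combination (0) * h2
  · linear_combination (0) * h2

theorem f4_fus_x4 : fx K 29 1 * f4One (K := K) [30, 41, 47] * fx K 29 1 = f4One [30, 41, 44] := by
  have h2 := two_eq_zero' (K := K)
  apply eq_of_mul_fw24
  simp only [f4One, fxProd, List.map_cons, List.map_nil, List.prod_cons, List.prod_nil, mul_one, mul_assoc]
  conv_lhs => rw [fl29_24, fl47_24, fl41_24, fl30_24, fl29_24]
  conv_rhs => rw [fl44_24, fl41_24, fl30_24]
  apply fw24_congr
  · linear_combination (0) * h2
  · linear_combination (0) * h2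
  · linear_combination (0) * h2
  · linear_combination (0) * h2
  · linear_combination (0) * h2
  · linear_combination (1) * h2
  · linear_combination (0) * h2
  · linear_combination (0) * h2
  · linear_combination (0) * h2
  · linear_combination (0) * h2
  · linear_combination (0) * h2
  · linear_combination (0) * h2
  · linear_combination (0) * h2
  · linear_combination (0) * h2
  · linear_combination (0) * h2
  · linear_combination (0) * h2
  · linear_combination (0) * h2
  · linear_combination (0) * h2
  · linear_combination (0) * h2
  · linear_combination (0) * h2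
  · linear_combination (0) * h2
  · linear_combination (0) * h2
  · linear_combination (0) * h2
  · linear_combination (1) * h2

theorem f4_fus_x5 : fx K 33 1 * f4One (K := K) [30, 41, 44] * fx K 33 1 = f4One [30, 37, 44] := by
  have h2 := two_eq_zero' (K := K)
  apply eq_of_mul_fw24
  simp only [f4One, fxProd, List.map_cons, List.map_nil, List.prod_cons, List.prod_nil, mul_one, mul_assoc]
  conv_lhs => rw [fl33_24, fl44_24, fl41_24, fl30_24, fl33_24]
  conv_rhs => rw [fl44_24, fl37_24, fl30_24]
  apply fw24_congr
  · linear_combination (0) * h2
  · linear_combination (0) * h2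
  · linear_combination (0) * h2
  · linear_combination (0) * h2
  · linear_combination (0) * h2
  · linear_combination (0) * h2
  · linear_combination (0) * h2
  · linear_combination (0) * h2
  · linear_combination (0) * h2
  · linear_combination (1) * h2
  · linear_combination (0) * h2
  · linear_combination (0) * h2
  · linear_combination (0) * h2
  · linear_combination (0) * h2
  · linear_combination (0) * h2
  · linear_combination (0) * h2
  · linear_combination (0) * h2
  · linear_combination (1) * h2
  · linear_combination (0) * h2
  · linear_combination (0) * h2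
  · linear_combination (0) * h2
  · linear_combination (0) * h2
  · linear_combination (0) * h2
  · linear_combination (0) * h2

theorem f4_fus_x6 : fx K 41 1 * f4One (K := K) [28, 29, 44] * fx K 41 1 = f4One [28, 29, 47] := by
  have h2 := two_eq_zero' (K := K)
  apply eq_of_mul_fw24
  simp only [f4One, fxProd, List.map_cons, List.map_nil, List.prod_cons, List.prod_nil, mul_one, mul_assoc]
  conv_lhs => rw [fl41_24, fl44_24, fl29_24, fl28_24, fl41_24]
  conv_rhs => rw [fl47_24, fl29_24, fl28_24]
  apply fw24_congr
  · linear_combination (0) * h2
  · linear_combination (0) * h2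
  · linear_combination (0) * h2
  · linear_combination (0) * h2
  · linear_combination (0) * h2
  · linear_combination (0) * h2
  · linear_combination (0) * h2
  · linear_combination (0) * h2
  · linear_combination (0) * h2
  · linear_combination (0) * h2
  · linear_combination (0) * h2
  · linear_combination (0) * h2
  · linear_combination (0) * h2
  · linear_combination (0) * h2
  · linear_combination (0) * h2
  · linear_combination (0) * h2
  · linear_combination (0) * h2
  · linear_combination (1) * h2
  · linear_combination (0) * h2
  · linear_combination (0) * h2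
  · linear_combination (1) * h2
  · linear_combination (0) * h2
  · linear_combination (0) * h2
  · linear_combination (0) * h2

theorem f4_fus_x7 : fx K 24 1 * f4One (K := K) [28, 29, 47] * fx K 24 1 = f4One [28, 32, 47] := by
  have h2 := two_eq_zero' (K := K)
  apply eq_of_mul_fw24
  simp only [f4One, fxProd, List.map_cons, List.map_nil, List.prod_cons, List.prod_nil, mul_one, mul_assoc]
  conv_lhs => rw [fl24_24, fl47_24, fl29_24, fl28_24, fl24_24]
  conv_rhs => rw [fl47_24, fl32_24, fl28_24]
  apply fw24_congr
  · linear_combination (1) * h2
  · linear_combination (0) * h2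
  · linear_combination (0) * h2
  · linear_combination (0) * h2
  · linear_combination (0) * h2
  · linear_combination (1) * h2
  · linear_combination (0) * h2
  · linear_combination (0) * h2
  · linear_combination (0) * h2
  · linear_combination (0) * h2
  · linear_combination (0) * h2
  · linear_combination (0) * h2
  · linear_combination (0) * h2
  · linear_combination (0) * h2
  · linear_combination (0) * h2
  · linear_combination (0) * h2
  · linear_combination (0) * h2
  · linear_combination (0) * h2
  · linear_combination (0) * h2
  · linear_combination (0) * h2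
  · linear_combination (0) * h2
  · linear_combination (0) * h2
  · linear_combination (0) * h2
  · linear_combination (0) * h2

theorem f4_fus_x8 : fx K 25 1 * f4One (K := K) [39, 46, 45] * fx K 25 1 = f4One [39, 45] := by
  have h2 := two_eq_zero' (K := K)
  apply eq_of_mul_fw24
  simp only [f4One, fxProd, List.map_cons, List.map_nil, List.prod_cons, List.prod_nil, mul_one, mul_assoc]
  conv_lhs => rw [fl25_24, fl45_24, fl46_24, fl39_24, fl25_24]
  conv_rhs => rw [fl45_24, fl39_24]
  apply fw24_congr
  · linear_combination (0) * h2
  · linear_combination (1) * h2
  · linear_combination (0) * h2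
  · linear_combination (0) * h2
  · linear_combination (0) * h2
  · linear_combination (0) * h2
  · linear_combination (0) * h2
  · linear_combination (0) * h2
  · linear_combination (0) * h2
  · linear_combination (0) * h2
  · linear_combination (0) * h2
  · linear_combination (0) * h2
  · linear_combination (0) * h2
  · linear_combination (0) * h2
  · linear_combination (0) * h2
  · linear_combination (0) * h2
  · linear_combination (0) * h2
  · linear_combination (0) * h2
  · linear_combination (0) * h2
  · linear_combination (0) * h2
  · linear_combination (0) * h2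
  · linear_combination (0) * h2
  · linear_combination (1) * h2
  · linear_combination (0) * h2

theorem f4_fus_x9 : fx K 25 1 * f4One (K := K) [37, 38, 39] * fx K 25 1 = f4One [37, 38, 47] := by
  have h2 := two_eq_zero' (K := K)
  apply eq_of_mul_fw24
  simp only [f4One, fxProd, List.map_cons, List.map_nil, List.prod_cons, List.prod_nil, mul_one, mul_assoc]
  conv_lhs => rw [fl25_24, fl39_24, fl38_24, fl37_24, fl25_24]
  conv_rhs => rw [fl47_24, fl38_24, fl37_24]
  apply fw24_congr
  · linear_combination (0) * h2
  · linear_combination (1) * h2
  · linear_combination (0) * h2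
  · linear_combination (0) * h2
  · linear_combination (0) * h2
  · linear_combination (0) * h2
  · linear_combination (0) * h2
  · linear_combination (0) * h2
  · linear_combination (0) * h2
  · linear_combination (0) * h2
  · linear_combination (0) * h2
  · linear_combination (0) * h2
  · linear_combination (0) * h2
  · linear_combination (0) * h2
  · linear_combination (0) * h2
  · linear_combination (1) * h2
  · linear_combination (0) * h2
  · linear_combination (0) * h2
  · linear_combination (0) * h2
  · linear_combination (0) * h2
  · linear_combination (0) * h2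
  · linear_combination (0) * h2
  · linear_combination (0) * h2
  · linear_combination (0) * h2

theorem f4_fus_x10 : fx K 24 1 * f4One (K := K) [37, 38, 47] * fx K 24 1 = f4One [37, 45, 47] := by
  have h2 := two_eq_zero' (K := K)
  apply eq_of_mul_fw24
  simp only [f4One, fxProd, List.map_cons, List.map_nil, List.prod_cons, List.prod_nil, mul_one, mul_assoc]
  conv_lhs => rw [fl24_24, fl47_24, fl38_24, fl37_24, fl24_24]
  conv_rhs => rw [fl47_24, fl45_24, fl37_24]
  apply fw24_congr
  · linear_combination (1) * h2
  · linear_combination (0) * h2
  · linear_combination (0) * h2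
  · linear_combination (0) * h2
  · linear_combination (0) * h2
  · linear_combination (0) * h2
  · linear_combination (0) * h2
  · linear_combination (0) * h2
  · linear_combination (0) * h2
  · linear_combination (0) * h2
  · linear_combination (0) * h2
  · linear_combination (0) * h2
  · linear_combination (0) * h2
  · linear_combination (0) * h2
  · linear_combination (1) * h2
  · linear_combination (0) * h2
  · linear_combination (0) * h2
  · linear_combination (0) * h2
  · linear_combination (0) * h2
  · linear_combination (0) * h2
  · linear_combination (0) * h2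
  · linear_combination (0) * h2
  · linear_combination (0) * h2
  · linear_combination (0) * h2

theorem f4_fus_x11 : fx K 24 1 * f4One (K := K) [32, 37, 38, 43] * fx K 24 1 = f4One [32, 37, 43, 45] := by
  have h2 := two_eq_zero' (K := K)
  apply eq_of_mul_fw24
  simp only [f4One, fxProd, List.map_cons, List.map_nil, List.prod_cons, List.prod_nil, mul_one, mul_assoc]
  conv_lhs => rw [fl24_24, fl43_24, fl38_24, fl37_24, fl32_24, fl24_24]
  conv_rhs => rw [fl45_24, fl43_24, fl37_24, fl32_24]
  apply fw24_congr
  · linear_combination (1) * h2
  · linear_combination (0) * h2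
  · linear_combination (0) * h2
  · linear_combination (0) * h2
  · linear_combination (0) * h2
  · linear_combination (0) * h2
  · linear_combination (0) * h2
  · linear_combination (0) * h2
  · linear_combination (0) * h2
  · linear_combination (0) * h2
  · linear_combination (0) * h2
  · linear_combination (0) * h2
  · linear_combination (0) * h2
  · linear_combination (0) * h2
  · linear_combination (1) * h2
  · linear_combination (0) * h2
  · linear_combination (0) * h2
  · linear_combination (0) * h2
  · linear_combination (0) * h2
  · linear_combination (0) * h2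
  · linear_combination (0) * h2
  · linear_combination (0) * h2
  · linear_combination (0) * h2
  · linear_combination (0) * h2

theorem f4_fus_x12 : fx K 25 1 * f4One (K := K) [32, 37, 43, 45] * fx K 25 1 = f4One [32, 37, 43, 45, 46] := by
  have h2 := two_eq_zero' (K := K)
  apply eq_of_mul_fw24
  simp only [f4One, fxProd, List.map_cons, List.map_nil, List.prod_cons, List.prod_nil, mul_one, mul_assoc]
  conv_lhs => rw [fl25_24, fl45_24, fl43_24, fl37_24, fl32_24, fl25_24]
  conv_rhs => rw [fl46_24, fl45_24, fl43_24, fl37_24, fl32_24]
  apply fw24_congr
  · linear_combination (0) * h2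
  · linear_combination (1) * h2
  · linear_combination (0) * h2
  · linear_combination (0) * h2
  · linear_combination (0) * h2
  · linear_combination (0) * h2
  · linear_combination (0) * h2
  · linear_combination (0) * h2
  · linear_combination (0) * h2
  · linear_combination (0) * h2
  · linear_combination (0) * h2
  · linear_combination (0) * h2
  · linear_combination (0) * h2
  · linear_combination (0) * h2
  · linear_combination (0) * h2
  · linear_combination (0) * h2
  · linear_combination (0) * h2
  · linear_combination (0) * h2
  · linear_combination (0) * h2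
  · linear_combination (0) * h2
  · linear_combination (0) * h2
  · linear_combination (0) * h2
  · linear_combination (0) * h2
  · linear_combination (0) * h2

theorem f4_fus_x13 : fx K 27 1 * f4One (K := K) [32, 37, 43, 45, 46] * fx K 27 1 = f4One [32, 37, 43, 44, 46] := by
  have h2 := two_eq_zero' (K := K)
  apply eq_of_mul_fw24
  simp only [f4One, fxProd, List.map_cons, List.map_nil, List.prod_cons, List.prod_nil, mul_one, mul_assoc]
  conv_lhs => rw [fl27_24, fl46_24, fl45_24, fl43_24, fl37_24, fl32_24, fl27_24]
  conv_rhs => rw [fl46_24, fl44_24, fl43_24, fl37_24, fl32_24]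
  apply fw24_congr
  · linear_combination (0) * h2
  · linear_combination (0) * h2
  · linear_combination (0) * h2
  · linear_combination (1) * h2
  · linear_combination (0) * h2
  · linear_combination (0) * h2
  · linear_combination (0) * h2
  · linear_combination (0) * h2
  · linear_combination (0) * h2
  · linear_combination (0) * h2
  · linear_combination (0) * h2
  · linear_combination (0) * h2
  · linear_combination (0) * h2
  · linear_combination (0) * h2
  · linear_combination (0) * h2
  · linear_combination (0) * h2
  · linear_combination (0) * h2
  · linear_combination (0) * h2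
  · linear_combination (0) * h2
  · linear_combination (0) * h2
  · linear_combination (0) * h2
  · linear_combination (1) * h2
  · linear_combination (0) * h2
  · linear_combination (0) * h2

theorem f4_fus_x14 : fx K 26 1 * f4One (K := K) [32, 37, 43, 44, 46] * fx K 26 1 = f4One [32, 37, 39, 43, 44] := by
  have h2 := two_eq_zero' (K := K)
  apply eq_of_mul_fw24
  simp only [f4One, fxProd, List.map_cons, List.map_nil, List.prod_cons, List.prod_nil, mul_one, mul_assoc]
  conv_lhs => rw [fl26_24, fl46_24, fl44_24, fl43_24, fl37_24, fl32_24, fl26_24]
  conv_rhs => rw [fl44_24, fl43_24, fl39_24, fl37_24, fl32_24]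
  apply fw24_congr
  · linear_combination (0) * h2
  · linear_combination (0) * h2
  · linear_combination (1) * h2
  · linear_combination (0) * h2
  · linear_combination (0) * h2
  · linear_combination (0) * h2
  · linear_combination (0) * h2
  · linear_combination (0) * h2
  · linear_combination (0) * h2
  · linear_combination (0) * h2
  · linear_combination (0) * h2
  · linear_combination (0) * h2
  · linear_combination (0) * h2
  · linear_combination (0) * h2
  · linear_combination (0) * h2
  · linear_combination (0) * h2
  · linear_combination (0) * h2
  · linear_combination (0) * h2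
  · linear_combination (0) * h2
  · linear_combination (0) * h2
  · linear_combination (0) * h2
  · linear_combination (0) * h2
  · linear_combination (1) * h2
  · linear_combination (0) * h2

theorem f4_fus_x15 : fx K 33 1 * f4One (K := K) [32, 37, 39, 43, 44] * fx K 33 1 = f4One [32, 37, 44] := by
  have h2 := two_eq_zero' (K := K)
  apply eq_of_mul_fw24
  simp only [f4One, fxProd, List.map_cons, List.map_nil, List.prod_cons, List.prod_nil, mul_one, mul_assoc]
  conv_lhs => rw [fl33_24, fl44_24, fl43_24, fl39_24, fl37_24, fl32_24, fl33_24]
  conv_rhs => rw [fl44_24, fl37_24, fl32_24]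
  apply fw24_congr
  · linear_combination (0) * h2
  · linear_combination (0) * h2
  · linear_combination (0) * h2
  · linear_combination (0) * h2
  · linear_combination (0) * h2
  · linear_combination (0) * h2
  · linear_combination (0) * h2
  · linear_combination (0) * h2
  · linear_combination (0) * h2
  · linear_combination (1) * h2
  · linear_combination (0) * h2
  · linear_combination (0) * h2
  · linear_combination (0) * h2
  · linear_combination (0) * h2
  · linear_combination (0) * h2
  · linear_combination (1) * h2
  · linear_combination (0) * h2
  · linear_combination (0) * h2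
  · linear_combination (0) * h2
  · linear_combination (1) * h2
  · linear_combination (0) * h2
  · linear_combination (0) * h2
  · linear_combination (0) * h2
  · linear_combination (0) * h2

theorem f4_fus_x16 : fx K 36 1 * f4One (K := K) [32, 37, 44] * fx K 36 1 = f4One [32, 37] := by
  have h2 := two_eq_zero' (K := K)
  apply eq_of_mul_fw24
  simp only [f4One, fxProd, List.map_cons, List.map_nil, List.prod_cons, List.prod_nil, mul_one, mul_assoc]
  conv_lhs => rw [fl36_24, fl44_24, fl37_24, fl32_24, fl36_24]
  conv_rhs => rw [fl37_24, fl32_24]
  apply fw24_congr
  · linear_combination (0) * h2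
  · linear_combination (0) * h2
  · linear_combination (0) * h2
  · linear_combination (0) * h2
  · linear_combination (0) * h2
  · linear_combination (0) * h2
  · linear_combination (0) * h2
  · linear_combination (0) * h2
  · linear_combination (0) * h2
  · linear_combination (0) * h2
  · linear_combination (0) * h2
  · linear_combination (0) * h2
  · linear_combination (1) * h2
  · linear_combination (0) * h2
  · linear_combination (0) * h2
  · linear_combination (0) * h2
  · linear_combination (0) * h2
  · linear_combination (0) * h2
  · linear_combination (0) * h2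
  · linear_combination (0) * h2
  · linear_combination (1) * h2
  · linear_combination (0) * h2
  · linear_combination (0) * h2
  · linear_combination (0) * h2

theorem f4_fus_1 : F4Conj (f4One (K := K) [44]) (f4One [44]) := by
  exact F4Conj.refl _

theorem f4_fus_2 : F4Conj (f4One (K := K) [47]) (f4One [47]) := by
  exact F4Conj.refl _

theorem f4_fus_3 : F4Conj (f4One (K := K) [29, 44]) (f4One [47, 44]) := by
  refine F4Conj.trans (f4Conj_x 41 f4_fus_x0) ?_
  refine F4Conj.trans (f4Conj_n (w := [0, 1, 2, 1, 0]) (by decide) [29, 47] [44, 47] (by decide)) ?_
  rw [f4_fus_r0]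
  exact F4Conj.refl _

theorem f4_fus_4 : F4Conj (f4One (K := K) [32, 44]) (f4One [39, 45]) := by
  refine F4Conj.trans (f4Conj_n (w := [1, 0]) (by decide) [32, 44] [45, 39] (by decide)) ?_
  rw [f4_fus_r1]
  exact F4Conj.refl _

theorem f4_fus_5 : F4Conj (f4One (K := K) [39, 45]) (f4One [39, 45]) := by
  exact F4Conj.refl _

theorem f4_fus_6 : F4Conj (f4One (K := K) [37, 47]) (f4One [39, 45]) := by
  refine F4Conj.trans (f4Conj_n (w := [2, 3]) (by decide) [37, 47] [39, 45] (by decide)) ?_
  exact F4Conj.refl _

theorem f4_fus_7 : F4Conj (f4One (K := K) [32, 43, 45]) (f4One [39, 45]) := by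
  refine F4Conj.trans (f4Conj_x 27 f4_fus_x1) ?_
  refine F4Conj.trans (f4Conj_x 33 f4_fus_x2) ?_
  refine F4Conj.trans (f4Conj_n (w := [1, 0]) (by decide) [32, 39, 44] [45, 40, 39] (by decide)) ?_
  refine F4Conj.trans (f4Conj_x 27 f4_fus_x3) ?_
  exact F4Conj.refl _

theorem f4_fus_8 : F4Conj (f4One (K := K) [30, 41, 47]) (f4One [39, 45]) := by
  refine F4Conj.trans (f4Conj_x 29 f4_fus_x4) ?_
  refine F4Conj.trans (f4Conj_x 33 f4_fus_x5) ?_
  refine F4Conj.trans (f4Conj_n (w := [1, 2, 3, 0]) (by decide) [30, 37, 44] [45, 40, 39] (by decide)) ?_
  refine F4Conj.trans (f4Conj_x 27 f4_fus_x3) ?_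
  exact F4Conj.refl _

theorem f4_fus_9 : F4Conj (f4One (K := K) [28, 29, 44]) (f4One [39, 45]) := by
  refine F4Conj.trans (f4Conj_x 41 f4_fus_x6) ?_
  refine F4Conj.trans (f4Conj_x 24 f4_fus_x7) ?_
  refine F4Conj.trans (f4Conj_n (w := [2, 3, 1, 0]) (by decide) [28, 32, 47] [39, 46, 45] (by decide)) ?_
  refine F4Conj.trans (f4Conj_x 25 f4_fus_x8) ?_
  exact F4Conj.refl _

theorem f4_fus_10 : F4Conj (f4One (K := K) [37, 38, 39]) (f4One [39, 45]) := by
  refine F4Conj.trans (f4Conj_x 25 f4_fus_x9) ?_
  refine F4Conj.trans (f4Conj_x 24 f4_fus_x10) ?_
  refine F4Conj.trans (f4Conj_n (w := [2, 3]) (by decide) [37, 45, 47] [39, 46, 45] (by decide)) ?_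
  refine F4Conj.trans (f4Conj_x 25 f4_fus_x8) ?_
  exact F4Conj.refl _

theorem f4_fus_11 : F4Conj (f4One (K := K) [32, 37, 38, 43]) (f4One [39, 45]) := by
  refine F4Conj.trans (f4Conj_x 24 f4_fus_x11) ?_
  refine F4Conj.trans (f4Conj_x 25 f4_fus_x12) ?_
  refine F4Conj.trans (f4Conj_x 27 f4_fus_x13) ?_
  refine F4Conj.trans (f4Conj_x 26 f4_fus_x14) ?_
  refine F4Conj.trans (f4Conj_x 33 f4_fus_x15) ?_
  refine F4Conj.trans (f4Conj_x 36 f4_fus_x16) ?_
  refine F4Conj.trans (f4Conj_n (w := [2, 1, 2, 3, 1, 0]) (by decide) [32, 37] [45, 39] (by decide)) ?_
  rw [f4_fus_r1]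
  exact F4Conj.refl _

end Cfsg.Agent.Helper7.Chev
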