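import Mathlib
import Cfsg.Agent.Helper7.F4ClsG
import Cfsg.Agent.Helper7.F4CentG

set_option autoImplicit false
set_option linter.unusedSectionVars false
set_option linter.unusedVariables false
set_option maxHeartbeats 1000000

/-!
Type `F₄`, characteristic two: the four representatives of the classes of involutions are pairwise not conjugate.
-/

namespace Cfsg.Agent.Helper7.Chev

open Cfsg Cfsg.Lie Matrix DoubleCoset
open scoped Pointwise

section tables

theorem f4_cls_tab4a : ∀ σ ∈ wL_F4, 44 ≤ fastF4.reflWord σ 44 → fastF4.reflWord σ 44 = 44 := by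
  decide +kernel

theorem f4_cls_tab4b : ∀ σ ∈ wL_F4, 44 ≤ fastF4.reflWord σ 47 →
    fastF4.reflWord σ 47 = 45 ∨ fastF4.reflWord σ 47 = 46 ∨ fastF4.reflWord σ 47 = 47 := by
  decide +kernel

theorem f4_cls_tab4c : ∀ σ ∈ wL_F4, ¬ (44 ≤ fastF4.reflWord σ 39 ∧ 44 ≤ fastF4.reflWord σ 45) := by
  decide +kernel

end tables

variable {K : Type*} [Field K] [CharP K 2]

/-- The normal form of an element conjugating `x` to `y`. -/
theorem f4_conj_cell {x y g : GL chevF4.Idx K} (hgG : g ∈ chevF4.group K) (hc : g * x * g⁻¹ = y) :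
    ∃ σ ∈ wL_F4, ∃ u ∈ chevF4.posUnipotent K, ∃ h ∈ chevF4.diagonalSubgroup K,
      ∃ u' ∈ chevF4.posUnipotent K,
        nWordGL good3_F4.toGood2 σ * (u' * x * u'⁻¹) * (nWordGL good3_F4.toGood2 σ)⁻¹ =
          (u * h)⁻¹ * y * (u * h) := by
  obtain ⟨σ, hσ, b, hb, u', hu', e⟩ := exists_normal_form good3_F4.toGood2 T0_F4 good3_F4.t3 good3_F4.t4
    T5_F4 T6_F4 T8_F4 T9_F4 wList_F4 hgG
  obtain ⟨u, hu, h, hh, rfl⟩ := borel_decomp good3_F4.toGood2 hb
  refine ⟨σ, hσ, u, hu, h, hh, u', minusGen_closure_le_pos σ hu', ?_⟩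
  conv_rhs => rw [← hc, e]
  group

/-- The elements `x_{47}(a) x_{44}(b)` are central in `U`. -/
theorem f4_pos_comm_4744 {u : GL chevF4.Idx K} (hu : u ∈ chevF4.posUnipotent K) (a b : K) :
    u * (fx K 47 a * fx K 44 b) = fx K 47 a * fx K 44 b * u := by
  have hle : chevF4.posUnipotent K ≤ Subgroup.centralizer {fx K 47 a * fx K 44 b} := by
    unfold ChevalleyDatum.posUnipotent
    rw [Subgroup.closure_le]
    rintro g ⟨r, t, hr, hg⟩
    obtain ⟨h24, h48⟩ := (f4_isPosRoot r).mp hr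
    have e : g = fx K ⟨r, h48⟩ t := eq_xGL good3_F4.toGood1 h48 hg
    obtain ⟨h47, h44⟩ := f4_comm_tab1 ⟨r, h48⟩ (Or.inl h24)
    rw [SetLike.mem_coe, Subgroup.mem_centralizer_iff]
    intro y hy
    rw [Set.mem_singleton_iff] at hy
    rw [hy, e, mul_assoc, ← fx_comm_of_ok h44, ← mul_assoc, ← fx_comm_of_ok h47, mul_assoc]
  exact ((Subgroup.mem_centralizer_iff.mp (hle hu)) _ (Set.mem_singleton _)).symm

/-- The conjugates of `x_{47}(a) x_{44}(b)` under the torus. -/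
theorem f4_torus_conj_4744 {h : GL chevF4.Idx K} (hh : h ∈ chevF4.diagonalSubgroup K) :
    ∃ c d : K, c ≠ 0 ∧ d ≠ 0 ∧ ∀ a b : K,
      h * (fx K 47 a * fx K 44 b) * h⁻¹ = fx K 47 (c * a) * fx K 44 (d * b) := by
  rw [← torusHom_range good3_F4.toGood1] at hh
  obtain ⟨c, rfl⟩ := hh
  rw [torusHom_apply]
  refine ⟨extc chevF4.rank c 3, extc chevF4.rank c 0, extc_ne_zero c 3, extc_ne_zero c 0, ?_⟩
  intro a b
  rw [← mul_assoc, tGL_mul_fx47, mul_assoc (fx K 47 _), tGL_mul_fx44]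
  group

theorem f4_4744_eq_fxProd (a b : K) : fx K 47 a * fx K 44 b = fxProd [(47, a), (44, b)] := by
  unfold fxProd
  simp only [List.map_cons, List.map_nil, List.prod_cons, List.prod_nil, mul_one]

/-- The conjugates of `x_{47}(a) x_{44}(b)` under `N` of the same shape. -/
theorem f4_weyl_4744 {σ : List ℕ} (hσ : σ ∈ wL_F4) {a b a' b' : K}
    (e : nWordGL good3_F4.toGood2 σ * (fx K 47 a * fx K 44 b) * (nWordGL good3_F4.toGood2 σ)⁻¹ =
      fx K 47 a' * fx K 44 b') :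
    (a = 0 ↔ a' = 0) ∧ (b = 0 ↔ b' = 0) := by
  have hσlt := (wList_F4.ok σ hσ).1
  have hL39 : ∀ p ∈ [((47 : Fin 48), a), (44, b)], 39 ≤ p.1.val := list_ge39_of_fst (by
    simp only [List.map_cons, List.map_nil]
    decide)
  have hLnd : ([((47 : Fin 48), a), (44, b)].map Prod.fst).Nodup := by
    simp only [List.map_cons, List.map_nil]
    decide
  have hmem : nWordGL good3_F4.toGood2 σ * fxProd [(47, a), (44, b)] * (nWordGL good3_F4.toGood2 σ)⁻¹ ∈
      Uge chevF4 K 44 := by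
    rw [← f4_4744_eq_fxProd, e]
    exact mul_mem (fx_mem_Uge 47 (by decide) _) (fx_mem_Uge 44 (by decide) _)
  have key := conj_peel hσlt (k := 44) (by norm_num) _ hL39 hLnd hmem
  have k47 := key (47, a) (by simp)
  have k44 := key (44, b) (by simp)
  simp only at k47 k44
  rw [f4_4744_eq_fxProd, conj_fxProd hσlt] at e
  simp only [List.map_cons, List.map_nil] at e
  have hQ : fx K (f4Img σ 44) b = fx K 44 b := by
    rcases k44 with h | h
    · rw [h, fx_zero, fx_zero]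
    · have : f4Img σ 44 = 44 := Fin.ext (by rw [f4Img_val hσlt]; exact f4_cls_tab4a σ hσ h)
      rw [this]
  have hP : ∃ P' : Fin 48, (P' = 45 ∨ P' = 46 ∨ P' = 47) ∧ fx K (f4Img σ 47) a = fx K P' a := by
    rcases k47 with h | h
    · exact ⟨47, Or.inr (Or.inr rfl), by rw [h, fx_zero, fx_zero]⟩
    · refine ⟨f4Img σ 47, ?_, rfl⟩
      rcases f4_cls_tab4b σ hσ h with h | h | h
      · exact Or.inl (Fin.ext (by rw [f4Img_val hσlt]; exact h))
      · exact Or.inr (Or.inl (Fin.ext (by rw [f4Img_val hσlt]; exact h)))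
      · exact Or.inr (Or.inr (Fin.ext (by rw [f4Img_val hσlt]; exact h)))
  obtain ⟨P', hP', eP⟩ := hP
  unfold fxProd at e
  simp only [List.map_cons, List.map_nil, List.prod_cons, List.prod_nil, mul_one] at e
  rw [hQ, eP] at e
  rcases hP' with rfl | rfl | rfl
  · have e1 : fx K 45 a * fx K 44 b = fw24 0 0 0 0 0 0 0 0 0 0 0 0 0 0 0 0 0 0 0 0 b a 0 0 := by
      rw [fw24_sparse, fx_comm_ge39 (by decide) (by decide)]
      unfold fxProd
      simp only [fx_zero, one_mul, mul_one, List.map_cons, List.map_nil, List.prod_cons, List.prod_nil]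
    rw [e1, fx_sparse4447] at e
    obtain ⟨-, -, -, -, -, -, -, -, -, -, -, -, -, -, -, -, -, -, -, -, h44, h45, -, h47⟩ := fw24_inj e
    subst h44
    subst h45
    exact ⟨⟨fun _ => h47.symm, fun _ => rfl⟩, Iff.rfl⟩
  · have e1 : fx K 46 a * fx K 44 b = fw24 0 0 0 0 0 0 0 0 0 0 0 0 0 0 0 0 0 0 0 0 b 0 a 0 := by
      rw [fw24_sparse, fx_comm_ge39 (by decide) (by decide)]
      unfold fxProd
      simp only [fx_zero, one_mul, mul_one, List.map_cons, List.map_nil, List.prod_cons, List.prod_nil]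
    rw [e1, fx_sparse4447] at e
    obtain ⟨-, -, -, -, -, -, -, -, -, -, -, -, -, -, -, -, -, -, -, -, h44, -, h46, h47⟩ := fw24_inj e
    subst h44
    subst h46
    exact ⟨⟨fun _ => h47.symm, fun _ => rfl⟩, Iff.rfl⟩
  · rw [fx_sparse4447, fx_sparse4447] at e
    obtain ⟨-, -, -, -, -, -, -, -, -, -, -, -, -, -, -, -, -, -, -, -, h44, -, -, h47⟩ := fw24_inj e
    subst h44
    subst h47
    exact ⟨Iff.rfl, Iff.rfl⟩

/-- Conjugate elements `x_{47}(a) x_{44}(b)` have the same shape. -/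
theorem f4_conj_4744 {g : GL chevF4.Idx K} (hg : g ∈ chevF4.group K) {a b a' b' : K}
    (e : g * (fx K 47 a * fx K 44 b) * g⁻¹ = fx K 47 a' * fx K 44 b') :
    (a = 0 ↔ a' = 0) ∧ (b = 0 ↔ b' = 0) := by
  obtain ⟨σ, hσ, u, hu, h, hh, u', hu', hc⟩ := f4_conj_cell hg e
  have e1 : u' * (fx K 47 a * fx K 44 b) * u'⁻¹ = fx K 47 a * fx K 44 b := by
    rw [f4_pos_comm_4744 hu']; group
  obtain ⟨c, d, hc0, hd0, hcd⟩ := f4_torus_conj_4744 (inv_mem hh)
  have e2 : (u * h)⁻¹ * (fx K 47 a' * fx K 44 b') * (u * h) = fx K 47 (c * a') * fx K 44 (d * b') := by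
    rw [← hcd a' b', inv_inv]
    calc (u * h)⁻¹ * (fx K 47 a' * fx K 44 b') * (u * h)
        = h⁻¹ * (u⁻¹ * (fx K 47 a' * fx K 44 b' * u)) * h := by group
      _ = h⁻¹ * (u⁻¹ * (u * (fx K 47 a' * fx K 44 b'))) * h := by rw [f4_pos_comm_4744 hu]
      _ = _ := by group
  rw [e1, e2] at hc
  obtain ⟨h1, h2⟩ := f4_weyl_4744 hσ hc
  refine ⟨h1.trans ?_, h2.trans ?_⟩
  · rw [mul_eq_zero]
    exact ⟨fun h => h.resolve_left hc0, Or.inr⟩
  · rw [mul_eq_zero]
    exact ⟨fun h => h.resolve_left hd0, Or.inr⟩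

/-- The involution `x_{39}(1) x_{45}(1)` is not conjugate to any `x_{47}(a) x_{44}(b)`. -/
theorem f4_not_conj_3945 {g : GL chevF4.Idx K} (hg : g ∈ chevF4.group K) {a b : K}
    (e : g * (fx K 39 1 * fx K 45 1) * g⁻¹ = fx K 47 a * fx K 44 b) : False := by
  obtain ⟨σ, hσ, u, hu, h, hh, u', hu', hc⟩ := f4_conj_cell hg e
  have hσlt := (wList_F4.ok σ hσ).1
  obtain ⟨c, d, hc0, hd0, hcd⟩ := f4_torus_conj_4744 (K := K) (inv_mem hh)
  have e2 : (u * h)⁻¹ * (fx K 47 a * fx K 44 b) * (u * h) = fx K 47 (c * a) * fx K 44 (d * b) := by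
    rw [← hcd a b, inv_inv]
    calc (u * h)⁻¹ * (fx K 47 a * fx K 44 b) * (u * h)
        = h⁻¹ * (u⁻¹ * (fx K 47 a * fx K 44 b * u)) * h := by group
      _ = h⁻¹ * (u⁻¹ * (u * (fx K 47 a * fx K 44 b))) * h := by rw [f4_pos_comm_4744 hu]
      _ = _ := by group
  obtain ⟨A, B, C, D, e1⟩ := conj_v_form hu' (1 : K) 1
  rw [e1, e2] at hc
  have hL39 : ∀ p ∈ [((39 : Fin 48), (1 : K)), (40, A), (44, B), (45, 1), (46, C), (47, D)], 39 ≤ p.1.val :=
    list_ge39_of_fst (by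
      simp only [List.map_cons, List.map_nil]
      decide)
  have hLnd : ([((39 : Fin 48), (1 : K)), (40, A), (44, B), (45, 1), (46, C), (47, D)].map Prod.fst).Nodup := by
    simp only [List.map_cons, List.map_nil]
    decide
  have hmem : nWordGL good3_F4.toGood2 σ * fxProd [(39, 1), (40, A), (44, B), (45, 1), (46, C), (47, D)] *
      (nWordGL good3_F4.toGood2 σ)⁻¹ ∈ Uge chevF4 K 44 := by
    rw [hc]
    exact mul_mem (fx_mem_Uge 47 (by decide) _) (fx_mem_Uge 44 (by decide) _)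
  have key := conj_peel hσlt (k := 44) (by norm_num) _ hL39 hLnd hmem
  have k39 := (key (39, 1) (by simp)).resolve_left one_ne_zero
  have k45 := (key (45, 1) (by simp)).resolve_left one_ne_zero
  exact f4_cls_tab4c σ hσ ⟨k39, k45⟩

end Cfsg.Agent.Helper7.Chev
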