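import Mathlib
import Cfsg.Agent.Helper7.F4ClsH

set_option autoImplicit false
set_option linter.unusedSectionVars false
set_option linter.unusedVariables false
set_option maxHeartbeats 1000000

/-!
Type `F₄`, characteristic two: the four classes of involutions.
-/

namespace Cfsg.Agent.Helper7.Chev

open Cfsg Cfsg.Lie Matrix DoubleCoset
open scoped Pointwise

variable {K : Type*} [Field K] [CharP K 2]

theorem f4One_one (r : Fin 48) : f4One (K := K) [r] = fx K r 1 := by
  unfold f4One fxProd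
  simp only [List.map_cons, List.map_nil, List.prod_cons, List.prod_nil, mul_one]

theorem f4One_two (r s : Fin 48) : f4One (K := K) [r, s] = fx K r 1 * fx K s 1 := by
  unfold f4One fxProd
  simp only [List.map_cons, List.map_nil, List.prod_cons, List.prod_nil, mul_one]

/-- Every involution is conjugate to one of the four representatives. -/
theorem f4_inv_conj_rep [Fintype K] {t : GL chevF4.Idx K} (ht : t ∈ chevF4.group K) (ht2 : t * t = 1)
    (ht1 : t ≠ 1) :
    F4Conj t (fx K 47 1) ∨ F4Conj t (fx K 44 1) ∨ F4Conj t (fx K 47 1 * fx K 44 1) ∨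
      F4Conj t (fx K 39 1 * fx K 45 1) := by
  obtain ⟨g, hg, k, hk1, hk12, e⟩ := f4_inv_conj_data ht ht2 ht1
  have h0 : F4Conj t (f4One (f4DataRoots.getD k [])) := ⟨g, hg, e⟩
  have c0 : ∀ {R : List (Fin 48)}, F4Conj (f4One (K := K) R) (f4One [47]) → F4Conj (f4One (K := K) R) (fx K 47 1) := by
    intro R h; rwa [f4One_one] at h
  have c1 : ∀ {R : List (Fin 48)}, F4Conj (f4One (K := K) R) (f4One [44]) → F4Conj (f4One (K := K) R) (fx K 44 1) := by
    intro R h; rwa [f4One_one] at h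
  have c2 : ∀ {R : List (Fin 48)}, F4Conj (f4One (K := K) R) (f4One [47, 44]) →
      F4Conj (f4One (K := K) R) (fx K 47 1 * fx K 44 1) := by
    intro R h; rwa [f4One_two] at h
  have c3 : ∀ {R : List (Fin 48)}, F4Conj (f4One (K := K) R) (f4One [39, 45]) →
      F4Conj (f4One (K := K) R) (fx K 39 1 * fx K 45 1) := by
    intro R h; rwa [f4One_two] at h
  interval_cases k
  · exact Or.inr (Or.inl (h0.trans (c1 f4_fus_1)))
  · exact Or.inl (h0.trans (c0 f4_fus_2))
  · exact Or.inr (Or.inr (Or.inl (h0.trans (c2 f4_fus_3))))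
  · exact Or.inr (Or.inr (Or.inr (h0.trans (c3 f4_fus_4))))
  · exact Or.inr (Or.inr (Or.inr (h0.trans (c3 f4_fus_5))))
  · exact Or.inr (Or.inr (Or.inr (h0.trans (c3 f4_fus_6))))
  · exact Or.inr (Or.inr (Or.inr (h0.trans (c3 f4_fus_7))))
  · exact Or.inr (Or.inr (Or.inr (h0.trans (c3 f4_fus_8))))
  · exact Or.inr (Or.inr (Or.inr (h0.trans (c3 f4_fus_9))))
  · exact Or.inr (Or.inr (Or.inr (h0.trans (c3 f4_fus_10))))
  · exact Or.inr (Or.inr (Or.inr (h0.trans (c3 f4_fus_11))))

theorem f4_4744_ne_one {a b : K} (h : a ≠ 0 ∨ b ≠ 0) : fx K 47 a * fx K 44 b ≠ 1 := by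
  intro e
  rw [fx_sparse4447, ← fw24_zero] at e
  obtain ⟨-, -, -, -, -, -, -, -, -, -, -, -, -, -, -, -, -, -, -, -, h44, -, -, h47⟩ := fw24_inj e
  rcases h with h | h
  · exact h h47
  · exact h h44

theorem f4_3945_ne_one : fx K 39 (1 : K) * fx K 45 1 ≠ 1 := by
  intro e
  rw [fx_sparse3945, ← fw24_zero] at e
  obtain ⟨-, -, -, -, -, -, -, -, -, -, -, -, -, -, -, h39, -, -, -, -, -, -, -, -⟩ := fw24_inj e
  exact one_ne_zero h39

theorem f4_4744_sq (a b : K) : (fx K 47 a * fx K 44 b) * (fx K 47 a * fx K 44 b) = 1 := by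
  rw [f4_4744_eq_fxProd]
  apply fxProd_sq
  apply list_ge39_of_fst
  simp only [List.map_cons, List.map_nil]
  decide

theorem f4_3945_sq : (fx K 39 (1 : K) * fx K 45 1) * (fx K 39 1 * fx K 45 1) = 1 := by
  have e : fx K 39 (1 : K) * fx K 45 1 = fxProd [(39, 1), (45, 1)] := by
    unfold fxProd
    simp only [List.map_cons, List.map_nil, List.prod_cons, List.prod_nil, mul_one]
  rw [e]
  apply fxProd_sq
  apply list_ge39_of_fst
  simp only [List.map_cons, List.map_nil]
  decide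

theorem orderOf_two_of_sq {G : Type*} [Group G] {x : G} (h : x * x = 1) (h1 : x ≠ 1) : orderOf x = 2 := by
  apply orderOf_eq_prime
  · rw [pow_two, h]
  · exact h1

/-- The shapes of the four representatives. -/
theorem f4_rep_cases {y : GL chevF4.Idx K}
    (hy : ((y : GL chevF4.Idx K) : Matrix chevF4.Idx chevF4.Idx K) ∈
      [chevF4.x K 47 1, chevF4.x K 44 1, chevF4.x K 47 1 * chevF4.x K 44 1, chevF4.x K 39 1 * chevF4.x K 45 1]) :
    (∃ a b : K, (a = 0 ∨ a = 1) ∧ (b = 0 ∨ b = 1) ∧ (a ≠ 0 ∨ b ≠ 0) ∧ y = fx K 47 a * fx K 44 b) ∨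
      y = fx K 39 1 * fx K 45 1 := by
  simp only [List.mem_cons, List.not_mem_nil, or_false] at hy
  rcases hy with h | h | h | h
  · left
    refine ⟨1, 0, Or.inr rfl, Or.inl rfl, Or.inl one_ne_zero, ?_⟩
    apply Units.ext
    rw [h, fx_zero, mul_one, fx_coe]
    rfl
  · left
    refine ⟨0, 1, Or.inl rfl, Or.inr rfl, Or.inr one_ne_zero, ?_⟩
    apply Units.ext
    rw [h, fx_zero, one_mul, fx_coe]
    rfl
  · left
    refine ⟨1, 1, Or.inr rfl, Or.inr rfl, Or.inl one_ne_zero, ?_⟩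
    apply Units.ext
    rw [h, Units.val_mul, fx_coe, fx_coe]
    rfl
  · right
    apply Units.ext
    rw [h, Units.val_mul, fx_coe, fx_coe]
    rfl

/-- The representatives belong to the group and have order two. -/
theorem f4_rep_order {y : GL chevF4.Idx K}
    (hy : ((y : GL chevF4.Idx K) : Matrix chevF4.Idx chevF4.Idx K) ∈
      [chevF4.x K 47 1, chevF4.x K 44 1, chevF4.x K 47 1 * chevF4.x K 44 1, chevF4.x K 39 1 * chevF4.x K 45 1]) :
    y ∈ chevF4.group K ∧ orderOf y = 2 := by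
  rcases f4_rep_cases hy with ⟨a, b, -, -, hab, rfl⟩ | rfl
  · exact ⟨mul_mem (fx_mem_group _ _) (fx_mem_group _ _),
      orderOf_two_of_sq (f4_4744_sq a b) (f4_4744_ne_one hab)⟩
  · exact ⟨mul_mem (fx_mem_group _ _) (fx_mem_group _ _), orderOf_two_of_sq f4_3945_sq f4_3945_ne_one⟩

/-- Conjugate representatives are equal. -/
theorem f4_rep_unique {y₁ y₂ : GL chevF4.Idx K}
    (h1 : ((y₁ : GL chevF4.Idx K) : Matrix chevF4.Idx chevF4.Idx K) ∈
      [chevF4.x K 47 1, chevF4.x K 44 1, chevF4.x K 47 1 * chevF4.x K 44 1, chevF4.x K 39 1 * chevF4.x K 45 1])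
    (h2 : ((y₂ : GL chevF4.Idx K) : Matrix chevF4.Idx chevF4.Idx K) ∈
      [chevF4.x K 47 1, chevF4.x K 44 1, chevF4.x K 47 1 * chevF4.x K 44 1, chevF4.x K 39 1 * chevF4.x K 45 1])
    (hc : ∃ h ∈ chevF4.group K, h * y₁ * h⁻¹ = y₂) : y₁ = y₂ := by
  obtain ⟨h, hh, e⟩ := hc
  rcases f4_rep_cases h1 with ⟨a, b, ha, hb, -, rfl⟩ | rfl
  · rcases f4_rep_cases h2 with ⟨a', b', ha', hb', -, rfl⟩ | rfl
    · obtain ⟨i1, i2⟩ := f4_conj_4744 hh e
      have ea : a = a' := by
        rcases ha with rfl | rfl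
        · rcases ha' with rfl | rfl
          · rfl
          · exact (i1.mp rfl).symm
        · rcases ha' with rfl | rfl
          · exact i1.mpr rfl
          · rfl
      have eb : b = b' := by
        rcases hb with rfl | rfl
        · rcases hb' with rfl | rfl
          · rfl
          · exact (i2.mp rfl).symm
        · rcases hb' with rfl | rfl
          · exact i2.mpr rfl
          · rfl
      rw [ea, eb]
    · exfalso
      have e' : h⁻¹ * (fx K 39 1 * fx K 45 1) * h⁻¹⁻¹ = fx K 47 a * fx K 44 b := by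
        rw [← e]; group
      exact f4_not_conj_3945 (inv_mem hh) e'
  · rcases f4_rep_cases h2 with ⟨a', b', ha', hb', -, rfl⟩ | rfl
    · exact (f4_not_conj_3945 hh e).elim
    · rfl

end Cfsg.Agent.Helper7.Chev
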