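import Mathlib
import Cfsg.Agent.Helper7.F4InvM

set_option autoImplicit false
set_option linter.unusedSectionVars false
set_option linter.unusedVariables false
set_option maxHeartbeats 1000000

/-!
The Tits group has exactly two classes of involutions (given that it has index two in `²F₄(2)` and contains all
the involutions of `²F₄(2)`).
-/

namespace Cfsg.Agent.Helper7.Chev

open Cfsg Cfsg.Lie Matrix
open scoped Pointwise

/-- The classes of involutions of a normal subgroup of index two which contains all the involutions, when the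
group has two classes of involutions whose representatives commute with elements outside the subgroup. -/
theorem ncard_inv_classes_of_index_two {G : Type*} [Group G] (T : Subgroup G) (hidx : T.index = 2)
    (hinv : ∀ g : G, orderOf g = 2 → g ∈ T) (a b c c' : G) (ha : orderOf a = 2) (hb : orderOf b = 2)
    (hab : ¬ IsConj a b) (hall : ∀ g : G, orderOf g = 2 → IsConj g a ∨ IsConj g b)
    (hc : c ∉ T) (hca : c * a = a * c) (hc' : c' ∉ T) (hcb : c' * b = b * c') :
    (ConjClasses.mk '' {g : ↥T | orderOf g = 2}).ncard = 2 := by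
  have haT := hinv a ha
  have hbT := hinv b hb
  set a' : ↥T := ⟨a, haT⟩ with ha'
  set b' : ↥T := ⟨b, hbT⟩ with hb'
  have hoa : orderOf a' = 2 := by rw [← ha]; exact Subgroup.orderOf_mk a haT
  have hob : orderOf b' = 2 := by rw [← hb]; exact Subgroup.orderOf_mk b hbT
  have hne : ConjClasses.mk a' ≠ ConjClasses.mk b' := by
    intro h
    rw [ConjClasses.mk_eq_mk_iff_isConj, isConj_iff] at h
    obtain ⟨k, hk⟩ := h
    apply hab
    rw [isConj_iff]
    exact ⟨k.1, congrArg Subtype.val hk⟩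
  -- conjugacy in `G` to `a` (or `b`) gives conjugacy in `T`
  have key : ∀ (x : G) (d : G), d ∉ T → d * x = x * d → ∀ (g : ↥T), IsConj (g : G) x →
      ∀ hx : x ∈ T, IsConj g ⟨x, hx⟩ := by
    intro x d hd hdx g hg hx
    rw [isConj_iff] at hg ⊢
    obtain ⟨h, hh⟩ := hg
    by_cases hhT : h ∈ T
    · exact ⟨⟨h, hhT⟩, Subtype.ext hh⟩
    · have hdh : d * h ∈ T := (Subgroup.mul_mem_iff_of_index_two hidx).mpr
        ⟨fun h1 => absurd h1 hd, fun h1 => absurd h1 hhT⟩
      refine ⟨⟨d * h, hdh⟩, Subtype.ext ?_⟩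
      change d * h * (g : G) * (d * h)⁻¹ = x
      calc d * h * (g : G) * (d * h)⁻¹ = d * (h * (g : G) * h⁻¹) * d⁻¹ := by group
        _ = d * x * d⁻¹ := by rw [hh]
        _ = x := by rw [hdx]; group
  have hset : ConjClasses.mk '' {g : ↥T | orderOf g = 2} = {ConjClasses.mk a', ConjClasses.mk b'} := by
    ext cl
    constructor
    · rintro ⟨g, hg, rfl⟩
      have ho : orderOf (g : G) = 2 := by rw [Subgroup.orderOf_coe]; exact hg
      rcases hall g ho with h | h
      · left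
        rw [ConjClasses.mk_eq_mk_iff_isConj]
        exact key a c hc hca g h haT
      · right
        rw [Set.mem_singleton_iff, ConjClasses.mk_eq_mk_iff_isConj]
        exact key b c' hc' hcb g h hbT
    · rintro (rfl | rfl)
      · exact ⟨a', hoa, rfl⟩
      · exact ⟨b', hob, rfl⟩
  rw [hset, Set.ncard_pair hne]

section der

variable {K : Type*} [Field K] [CharP K 2] {m : ℕ} (hm : ∀ t : K, t ^ 2 ^ (2 * m + 1) = t)

include hm in
/-- If the positive generators lie in the derived subgroup, the twisted group is perfect. -/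
theorem f4_perfect_of_pos (hP : ∀ t : K, xP 33 24 m t ∈ f4Der K m)
    (hS : ∀ t u : K, (quadPos K).xS m t u ∈ f4Der K m) :
    commutator ↥(twistedF4 K (2 ^ m)) = ⊤ := by
  have hPn : ∀ t : K, xP 14 23 m t ∈ f4Der K m := by
    intro t
    rw [← f4Phi_lower, lowerSL_eq_conj, map_mul, map_mul, map_inv, f4Phi_anti, f4Phi_upper]
    exact f4Der_conj f4N1_mem_twisted (hP _)
  have hSn : ∀ t u : K, (quadNeg K).xS m t u ∈ f4Der K m := by
    intro t u
    obtain ⟨s', t', c', d', e⟩ :=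
      f4N2_conj_xQ_neg (f4Th K m t) t (f4Th K m t * t + u) (f4Th K (m + 1) u)
    have e' : f4N2 K * (quadNeg K).xS m t u * (f4N2 K)⁻¹ = (quadPos K).xQ s' t' c' d' := e
    have hmem : f4N2 K * (quadNeg K).xS m t u * (f4N2 K)⁻¹ ∈ twistedF4 K (2 ^ m) :=
      mul_mem (mul_mem f4N2_mem_twisted (xS_neg_mem_twisted t u)) (inv_mem f4N2_mem_twisted)
    obtain ⟨_, hfix⟩ := twistedF4_le_fixSub hm hmem
    rw [e'] at hfix
    have e3 := xQ_fixed hm hfix
    have e4 : (quadNeg K).xS m t u =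
        (f4N2 K)⁻¹ * ((quadPos K).xS m t' (f4Th K m d')) * ((f4N2 K)⁻¹)⁻¹ := by
      rw [← e3, ← e']
      group
    rw [e4]
    exact f4Der_conj (inv_mem f4N2_mem_twisted) (hS _ _)
  have hle : twistedF4 K (2 ^ m) ≤ f4Der K m := by
    conv_lhs => rw [twistedF4_eq]
    rw [Subgroup.closure_le]
    rintro g ((⟨t, rfl⟩ | ⟨t, rfl⟩) | (⟨t, u, rfl⟩ | ⟨t, u, rfl⟩))
    · exact hP t
    · exact hPn t
    · exact hS t u
    · exact hSn t u
  rw [eq_top_iff]
  intro x _
  obtain ⟨y, hy, hxy⟩ := hle x.2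
  have : y = x := Subtype.ext hxy
  rw [← this]
  exact hy

theorem mem_f4Der_iff {x : GL chevF4.Idx K} (hx : x ∈ twistedF4 K (2 ^ m)) :
    x ∈ f4Der K m ↔ (⟨x, hx⟩ : ↥(twistedF4 K (2 ^ m))) ∈ commutator ↥(twistedF4 K (2 ^ m)) := by
  constructor
  · rintro ⟨y, hy, hxy⟩
    have : y = ⟨x, hx⟩ := Subtype.ext hxy
    rw [← this]
    exact hy
  · intro h
    exact ⟨_, h, rfl⟩

local notation "φ" => f4Th K (m + 1)

include hm in
theorem tY2_comm_tY1 (s p : K) : tY2 φ s 0 * tY1 φ p = tY1 φ p * tY2 φ s 0 := by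
  have h := cj2v φ (f4Ph_f4Ph hm) s p 0 0 0 0 0 0 0 0 0 0 0
  rw [tw8_Y1] at h
  rw [h]
  congr 1
  rw [← tw8_Y1]
  apply tw8_congr <;> (try simp only [map_zero]) <;> ring

include hm in
theorem tY8_comm_tZ8 (s w : K) : tY8 φ s 0 * tY8 φ 0 w = tY8 φ 0 w * tY8 φ s 0 := by
  have h := cj8v φ (f4Ph_f4Ph hm) s 0 0 0 0 0 0 0 0 0 0 0 w
  rw [tw8_Y8] at h
  rw [h]
  congr 1
  rw [← tw8_Y8]
  apply tw8_congr <;> (try simp only [map_zero]) <;> ring

end der

section tits

/-- In `²F₄(2)`, the element `x_S(1, 0)` of order four does not lie in the derived subgroup, when this has index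
two and contains the involutions. -/
theorem xS10_not_mem_f4Der
    (hidx : (commutator ↥(twistedF4 (ZMod 2) (2 ^ 0))).index = 2)
    (hinv : ∀ g : ↥(twistedF4 (ZMod 2) (2 ^ 0)), orderOf g = 2 →
      g ∈ commutator ↥(twistedF4 (ZMod 2) (2 ^ 0))) :
    (quadPos (ZMod 2)).xS 0 1 0 ∉ f4Der (ZMod 2) 0 := by
  have hK : Fintype.card (ZMod 2) = 2 ^ (2 * 0 + 1) := by rw [ZMod.card]; norm_num
  have hm := pow_card_two hK
  intro hmem
  -- involutions lie in the derived subgroup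
  have hI : ∀ x : GL chevF4.Idx (ZMod 2), x ∈ twistedF4 (ZMod 2) (2 ^ 0) → x * x = 1 → x ≠ 1 →
      x ∈ f4Der (ZMod 2) 0 := by
    intro x hx hsq hne
    rw [mem_f4Der_iff hx]
    apply hinv
    apply orderOf_eq_prime
    · rw [sq]; exact Subtype.ext hsq
    · intro h; exact hne (congrArg Subtype.val h)
  have h01 : (quadPos (ZMod 2)).xS 0 0 1 ∈ f4Der (ZMod 2) 0 := by
    apply hI _ (xS_pos_mem_twisted _ _)
    · have e1 : (0 : ZMod 2) + 0 = 0 := add_zero 0
      have e2 : (1 : ZMod 2) + 1 + f4Th (ZMod 2) 0 0 * 0 = 0 := by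
        rw [mul_zero, add_zero]; exact add_self_char2 _
      rw [xS_mul hm, e1, e2, xS_zero hm]
    · intro h
      rw [← xS_zero hm] at h
      exact one_ne_zero (xS_injective h).2
  have hP1 : xP 33 24 0 (1 : ZMod 2) ∈ f4Der (ZMod 2) 0 := by
    apply hI _ (xP_pos_mem_twisted _)
    · rw [xP_mul, add_self_char2, xP_zero]
    · exact xP_ne_one
  have hP : ∀ t : ZMod 2, xP 33 24 0 t ∈ f4Der (ZMod 2) 0 := by
    intro t
    fin_cases t
    · change xP 33 24 0 (0 : ZMod 2) ∈ _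
      rw [xP_zero]; exact one_mem _
    · exact hP1
  have hS : ∀ t u : ZMod 2, (quadPos (ZMod 2)).xS 0 t u ∈ f4Der (ZMod 2) 0 := by
    intro t u
    fin_cases t <;> fin_cases u
    · change (quadPos (ZMod 2)).xS 0 (0 : ZMod 2) 0 ∈ _
      rw [xS_zero hm]; exact one_mem _
    · exact h01
    · exact hmem
    · have := mul_mem hmem h01
      rw [xS_mul hm, mul_zero, add_zero, add_zero, zero_add] at this
      exact this
  have htop := f4_perfect_of_pos hm hP hS
  rw [htop, Subgroup.index_top] at hidx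
  omega

/-- The Tits group has exactly two classes of elements of order two. -/
theorem tits_inv_classes_aux
    (hidx : (commutator ↥(twistedF4 (ZMod 2) (2 ^ 0))).index = 2)
    (hinv : ∀ g : ↥(twistedF4 (ZMod 2) (2 ^ 0)), orderOf g = 2 →
      g ∈ commutator ↥(twistedF4 (ZMod 2) (2 ^ 0))) :
    (ConjClasses.mk '' {g : ↥(commutator ↥(twistedF4 (ZMod 2) (2 ^ 0))) | orderOf g = 2}).ncard = 2 := by
  have hK : Fintype.card (ZMod 2) = 2 ^ (2 * 0 + 1) := by rw [ZMod.card]; norm_num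
  have hm := pow_card_two hK
  have hPm : tY1 (f4Th (ZMod 2) (0 + 1)) (1 : ZMod 2) ∈ twistedF4 (ZMod 2) (2 ^ 0) := tY1_mem hm 1
  have hZm : tY8 (f4Th (ZMod 2) (0 + 1)) 0 (1 : ZMod 2) ∈ twistedF4 (ZMod 2) (2 ^ 0) := tY8_mem hm 0 1
  have hC2m : tY2 (f4Th (ZMod 2) (0 + 1)) (1 : ZMod 2) 0 ∈ twistedF4 (ZMod 2) (2 ^ 0) := tY2_mem hm 1 0
  have hC8m : tY8 (f4Th (ZMod 2) (0 + 1)) (1 : ZMod 2) 0 ∈ twistedF4 (ZMod 2) (2 ^ 0) := tY8_mem hm 1 0
  have h8 : tY8 (f4Th (ZMod 2) (0 + 1)) (1 : ZMod 2) 0 ∉ f4Der (ZMod 2) 0 := by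
    rw [tY8_eq_xS hm, map_one]
    exact xS10_not_mem_f4Der hidx hinv
  have h2 : tY2 (f4Th (ZMod 2) (0 + 1)) (1 : ZMod 2) 0 ∉ f4Der (ZMod 2) 0 := by
    intro h
    apply h8
    rw [← nA_tY2]
    exact f4Der_conj nA_mem h
  refine ncard_inv_classes_of_index_two _ hidx hinv ⟨_, hPm⟩ ⟨_, hZm⟩ ⟨_, hC2m⟩ ⟨_, hC8m⟩ ?_ ?_ ?_ ?_ ?_ ?_
    ?_ ?_
  · rw [← Subgroup.orderOf_coe]
    apply orderOf_eq_prime
    · rw [sq]; exact tw8_sq_Y1 hm 1
    · exact tY1_ne_one hm one_ne_zero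
  · rw [← Subgroup.orderOf_coe]
    apply orderOf_eq_prime
    · rw [sq]; exact tw8_sq_Z8 hm 1
    · exact tZ8_ne_one hm one_ne_zero
  · intro h
    exact not_conjF_Z8_Y1 hK ((conjF_iff_isConj hPm hZm).mpr h).symm
  · intro g hg
    have ho : orderOf (g : GL chevF4.Idx (ZMod 2)) = 2 := by
      rw [Subgroup.orderOf_coe]; exact hg
    rcases stdF_of_order_two hK g.2 ho with h | h
    · exact Or.inl ((conjF_iff_isConj g.2 hPm).mp h)
    · exact Or.inr ((conjF_iff_isConj g.2 hZm).mp h)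
  · intro h
    exact h2 ((mem_f4Der_iff hC2m).mpr h)
  · exact Subtype.ext (tY2_comm_tY1 hm 1 1)
  · intro h
    exact h8 ((mem_f4Der_iff hC8m).mpr h)
  · exact Subtype.ext (tY8_comm_tZ8 hm 1 1)

end tits

end Cfsg.Agent.Helper7.Chev
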