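import Mathlib
import Cfsg.Agent.Helper7.UTyC

set_option autoImplicit false
set_option linter.unusedSectionVars false
set_option linter.unusedVariables false

/-!
Isometries of odd prime order commuting with an endomorphism `θ` killed by an irreducible polynomial: the abstract
contradictions.
-/

namespace Cfsg.Agent.Helper7.FEx

open Module Polynomial Cfsg.Agent.Helper7.POrd Cfsg.Agent.Helper7.SpOrd Cfsg.Agent.Helper7.UTy

section basic

variable {F : Type*} [Field F] {V : Type*} [AddCommGroup V] [Module F V]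

/-- no eigenvectors. -/
theorem eq_zero_of_eigen {θ : Module.End F V} {g : F[X]} (hirr : Irreducible g) (hdeg : 2 ≤ g.natDegree)
    (hgθ : aeval θ g = 0) {w : V} {α : F} (h : θ w = α • w) : w = 0 := by
  by_contra hw
  have h1 : aeval θ g w = g.eval α • w := by
    have : ∀ f : F[X], aeval θ f w = f.eval α • w := by
      intro f
      induction f using Polynomial.induction_on' with
      | add f₁ f₂ h₁ h₂ => rw [map_add, LinearMap.add_apply, h₁, h₂, eval_add, add_smul]
      | monomial n c =>
        rw [aeval_monomial, Module.End.mul_apply, Module.algebraMap_end_apply, eval_monomial]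
        have hp : ∀ n : ℕ, (θ ^ n) w = α ^ n • w := by
          intro n
          induction n with
          | zero => simp
          | succ n ih => rw [pow_succ', Module.End.mul_apply, ih, map_smul, h, smul_smul, pow_succ]
        rw [hp, smul_smul]
    exact this g
  rw [hgθ, LinearMap.zero_apply] at h1
  have h2 : g.eval α = 0 := by
    rcases smul_eq_zero.mp h1.symm with h' | h'
    · exact h'
    · exact absurd h' hw
  have h3 := Polynomial.degree_eq_one_of_irreducible_of_root hirr h2
  have h4 : g.natDegree = 1 := natDegree_eq_of_degree_eq_some h3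
  omega

theorem movS_invt_of_comm {T θ : Module.End F V} (hcomm : ∀ v, T (θ v) = θ (T v)) (r : ℕ) :
    movS r T ∈ Module.End.invtSubmodule θ := by
  rw [Module.End.mem_invtSubmodule]
  intro w hw
  rw [Submodule.mem_comap, mem_movS]
  rw [mem_movS] at hw
  have hδT : Commute θ T := by
    apply LinearMap.ext
    intro v
    exact (hcomm v).symm
  have hc : Commute θ (Phi r T) := by
    unfold Phi
    exact Commute.sum_right _ _ _ (fun t _ => hδT.pow_right t)
  have := congrArg (fun f : Module.End F V => f w) hc.eq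
  simp only [Module.End.mul_apply] at this
  rw [← this, hw, map_zero]

theorem range_invt_of_comm {N θ : Module.End F V} (hcomm : ∀ v, N (θ v) = θ (N v)) :
    LinearMap.range N ∈ Module.End.invtSubmodule θ := by
  rw [Module.End.mem_invtSubmodule]
  rintro _ ⟨v, rfl⟩
  rw [Submodule.mem_comap, ← hcomm]
  exact ⟨_, rfl⟩

end basic

variable {F : Type*} [Field F] [Fintype F] {V : Type*} [AddCommGroup V] [Module F V] [Finite V]
  {p : ℕ} [Fact p.Prime] [CharP F p] {r : ℕ} [Fact r.Prime]

/-- `i` odd: no commuting endomorphism all of whose invariant subspaces have even dimension. -/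
theorem not_commute_of_odd' (hr2 : r ≠ 2) (hrp : r ≠ p) {B : LinearMap.BilinForm F V} (hBalt : B.IsAlt)
    (hBnd : ND B ⊤) {δ : Module.End F V}
    (hev : ∀ E : Submodule F V, E ∈ Module.End.invtSubmodule δ → Even (finrank F ↥E))
    {T : Module.End F V} (hiso : ∀ u v, B (T u) (T v) = B u v) (hT : T ^ r = 1)
    (hcomm : ∀ v, T (δ v) = δ (T v))
    (hodd : Odd (orderOf ((Fintype.card F : ℕ) : ZMod r)))
    (hdim : finrank F ↥(movS r T) = 2 * orderOf ((Fintype.card F : ℕ) : ZMod r)) : False := by
  classical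
  haveI : FiniteDimensional F V := Module.Finite.of_finite
  set i := orderOf ((Fintype.card F : ℕ) : ZMod r) with hi
  have hipos : 0 < i := orderOf_q_pos hrp
  have hrF : (r : F) ≠ 0 := natCast_ne_zero_of_ne hrp
  have hB : B.IsRefl := hBalt.isRefl
  have hW : movS r T ∈ Module.End.invtSubmodule T := movS_invt r T
  have htop : (⊤ : Submodule F V) ∈ Module.End.invtSubmodule T := by
    rw [Module.End.mem_invtSubmodule]
    exact le_top
  have hWnd : ND B (movS r T) := by
    have := nd_inf_mov hB hiso hrF hT htop hBnd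
    rwa [top_inf_eq] at this
  have hfix : movS r T ⊓ fixS T = ⊥ := by
    rw [inf_comm]
    exact (disjoint_fix_mov hrF T).eq_bot
  have hne : movS r T ≠ ⊥ := by
    intro h
    rw [h, finrank_bot] at hdim
    omega
  obtain ⟨g, hgirr, hgdvd, hgdeg, v, hvW, hv0, hgv⟩ := exists_irred_vec hrp hT hW hfix hne
  set E := LinearMap.ker (aeval T g) with hE
  have hET : E ∈ Module.End.invtSubmodule T := ker_aeval_invt T g
  have hEδ : E ∈ Module.End.invtSubmodule δ := ker_aeval_invt_of_comm hcomm g
  have hEeven : Even (finrank F ↥E) := hev E hEδ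
  have hvE : v ∈ E := LinearMap.mem_ker.mpr hgv
  -- g(1) ≠ 0
  have hg1 : g.eval 1 ≠ 0 := by
    intro h0
    have hdvd : (X - C (1 : F)) ∣ g := dvd_iff_isRoot.mpr h0
    obtain ⟨c, hc⟩ := hdvd
    have hcu : IsUnit c := by
      rcases hgirr.isUnit_or_isUnit hc with h | h
      · exact absurd h (not_isUnit_X_sub_C 1)
      · exact h
    obtain ⟨c0, hc0, rfl⟩ := isUnit_iff.mp hcu
    have : aeval T g v = c0 • (T v - v) := by
      rw [hc, map_mul, aeval_C, map_sub, aeval_X, aeval_C, Module.End.mul_apply,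
        Module.algebraMap_end_apply, LinearMap.sub_apply, Module.algebraMap_end_apply, one_smul,
        map_smul, smul_sub]
    rw [this] at hgv
    have hTv : T v = v := by
      rcases smul_eq_zero.mp hgv with h | h
      · exact absurd h hc0.ne_zero
      · exact sub_eq_zero.mp h
    have : v ∈ movS r T ⊓ fixS T := ⟨hvW, mem_fixS.mpr hTv⟩
    rw [hfix] at this
    exact hv0 ((Submodule.mem_bot F).mp this)
  have hEfix : E ⊓ fixS T = ⊥ := by
    rw [eq_bot_iff]
    rintro x ⟨hxE, hxf⟩
    have h1 : aeval T g x = 0 := LinearMap.mem_ker.mp hxE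
    rw [aeval_apply_of_fixed (mem_fixS.mp hxf)] at h1
    rcases smul_eq_zero.mp h1 with h | h
    · exact absurd h hg1
    · exact (Submodule.mem_bot F).mpr h
  have hEW : E ≤ movS r T := by
    have := invt_decomp hrF hT hET
    rw [hEfix, bot_sup_eq] at this
    rw [this]
    exact inf_le_right
  have hidvd : i ∣ finrank F ↥E := orderOf_dvd_finrank hT hET hEfix
  have hEle : finrank F ↥E ≤ 2 * i := by
    rw [← hdim]
    exact Submodule.finrank_mono hEW
  have hEpos : 0 < finrank F ↥E := by
    rw [Module.finrank_pos_iff_exists_ne_zero]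
    exact ⟨⟨v, hvE⟩, fun h => hv0 (congrArg Subtype.val h)⟩
  have hEdim : finrank F ↥E = 2 * i := by
    obtain ⟨m, hm⟩ := hidvd
    have hm2 : m ≤ 2 := by
      by_contra hcon
      push Not at hcon
      have : i * 3 ≤ i * m := Nat.mul_le_mul_left i hcon
      omega
    have hm0 : 0 < m := by
      rcases Nat.eq_zero_or_pos m with h | h
      · rw [h, mul_zero] at hm
        omega
      · exact h
    have hm1 : m ≠ 1 := by
      intro h1
      rw [h1, mul_one] at hm
      rw [hm] at hEeven
      exact (Nat.not_even_iff_odd.mpr hodd) hEeven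
    have : m = 2 := by omega
    rw [hm, this, mul_comm]
  have hEeq : E = movS r T := Submodule.eq_of_le_of_finrank_eq hEW (by rw [hEdim, hdim])
  -- a vector with B u (T u) ≠ 0
  obtain ⟨u, huW, hu⟩ := exists_not_ti_vec hr2 hrp hBalt hiso hT hW hWnd hfix hne
  have hu0 : u ≠ 0 := by
    intro h
    rw [h, map_zero, LinearMap.zero_apply] at hu
    exact hu rfl
  have hgu : aeval T g u = 0 := by
    have : u ∈ E := by rw [hEeq]; exact huW
    exact LinearMap.mem_ker.mp this
  set M := cyc T u g.natDegree with hM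
  have hMinv : M ∈ Module.End.invtSubmodule T := cyc_invt T u g hgirr.ne_zero hgu
  have hMW : M ≤ movS r T := cyc_le hW huW _
  have hMfix : M ⊓ fixS T = ⊥ := by
    rw [eq_bot_iff, ← hfix]
    exact inf_le_inf_right _ hMW
  have huM : u ∈ M := by
    have := pow_mem_cyc T u (d := g.natDegree) (t := 0) (by rw [hgdeg]; exact hipos)
    simpa using this
  have hTuM : T u ∈ M := invt_apply hMinv huM
  have hMle : finrank F ↥M ≤ i := by
    exact (finrank_cyc_le T u g.natDegree).trans (le_of_eq hgdeg)
  have hMdvd : i ∣ finrank F ↥M := orderOf_dvd_finrank hT hMinv hMfix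
  have hMpos : 0 < finrank F ↥M := by
    rw [Module.finrank_pos_iff_exists_ne_zero]
    exact ⟨⟨u, huM⟩, fun h => hu0 (congrArg Subtype.val h)⟩
  have hMdim : finrank F ↥M = i := Nat.le_antisymm hMle (Nat.le_of_dvd hMpos hMdvd)
  rcases nd_or_ti hB hiso hT hMinv hMfix hMdim with hnd | hti
  · have := even_finrank_of_nd hBalt hnd
    rw [hMdim] at this
    exact (Nat.not_even_iff_odd.mpr hodd) this
  · have := hti hTuM
    rw [mem_perp] at this
    exact hu (this u huM)

/-- powers of `θ` under Frobenius, for `θ` killed by an irreducible polynomial of degree `2`. -/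
theorem pow_card_sq_eq' {θ : Module.End F V} {g : F[X]} (hirr : Irreducible g) (hdeg : g.natDegree = 2)
    (hgθ : aeval θ g = 0) : θ ^ (Fintype.card F ^ 2) = θ := by
  have h1 : g ∣ X ^ (Nat.card F) ^ 2 - X :=
    (hirr.natDegree_dvd_iff_dvd_X_pow_card_pow_sub_X (n := 2)).mp (by rw [hdeg])
  obtain ⟨c, hc⟩ := h1
  have h2 := congrArg (aeval θ) hc
  rw [map_mul, hgθ, zero_mul, map_sub, map_pow, aeval_X, Nat.card_eq_fintype_card] at h2
  exact sub_eq_zero.mp h2

theorem pow_card_sq_pow_eq' {θ : Module.End F V} {g : F[X]} (hirr : Irreducible g) (hdeg : g.natDegree = 2)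
    (hgθ : aeval θ g = 0) (m : ℕ) : θ ^ ((Fintype.card F ^ 2) ^ m) = θ := by
  induction m with
  | zero => simp
  | succ m ih => rw [pow_succ, pow_mul, ih, pow_card_sq_eq' hirr hdeg hgθ]

/-- a vector on which `θ ^ q = θ` vanishes. -/
theorem eq_zero_of_pow_card {θ : Module.End F V} {g : F[X]} (hirr : Irreducible g) (hdeg : g.natDegree = 2)
    (hgθ : aeval θ g = 0) {u : V} (hu : (θ ^ (Fintype.card F)) u = θ u) : u = 0 := by
  have h1 : ¬ g ∣ X ^ (Nat.card F) ^ 1 - X := by
    intro h
    have := (hirr.natDegree_dvd_iff_dvd_X_pow_card_pow_sub_X (n := 1)).mpr h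
    rw [hdeg] at this
    omega
  have hcop : IsCoprime g (X ^ (Nat.card F) ^ 1 - X) := (hirr.coprime_iff_not_dvd).mpr h1
  obtain ⟨s, t, hst⟩ := hcop
  have h2 := congrArg (fun f : F[X] => aeval θ f u) hst
  simp only [map_add, map_mul, hgθ, mul_zero, zero_add, map_one, Module.End.one_apply, map_sub, map_pow, aeval_X,
    pow_one, Nat.card_eq_fintype_card, Module.End.mul_apply, LinearMap.sub_apply, hu, sub_self, map_zero] at h2
  exact h2.symm

/-- `i ≡ 2 mod 4`: no commuting self-adjoint endomorphism killed by an irreducible quadratic polynomial. -/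
theorem not_commute_of_two_mod_four (hr2 : r ≠ 2) (hrp : r ≠ p)
    {B : LinearMap.BilinForm F V} (hBalt : B.IsAlt) (hBnd : ND B ⊤) {δ : Module.End F V}
    {gδ : F[X]} (hirr : Irreducible gδ) (hdeg : gδ.natDegree = 2) (hgδ : aeval δ gδ = 0)
    (hsa : ∀ u v, B (δ u) v = B u (δ v))
    {T : Module.End F V} (hiso : ∀ u v, B (T u) (T v) = B u v) (hT : T ^ r = 1)
    (hcomm : ∀ v, T (δ v) = δ (T v))
    (hev : Even (orderOf ((Fintype.card F : ℕ) : ZMod r)))
    (hhalf : Odd (orderOf ((Fintype.card F : ℕ) : ZMod r) / 2))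
    (hdim : finrank F ↥(movS r T) = orderOf ((Fintype.card F : ℕ) : ZMod r)) : False := by
  classical
  haveI : FiniteDimensional F V := Module.Finite.of_finite
  set i := orderOf ((Fintype.card F : ℕ) : ZMod r) with hi
  have hipos : 0 < i := orderOf_q_pos hrp
  have hrpos : 0 < r := (Fact.out : r.Prime).pos
  have hrF : (r : F) ≠ 0 := natCast_ne_zero_of_ne hrp
  have hB : B.IsRefl := hBalt.isRefl
  have hW : movS r T ∈ Module.End.invtSubmodule T := movS_invt r T
  have htop : (⊤ : Submodule F V) ∈ Module.End.invtSubmodule T := by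
    rw [Module.End.mem_invtSubmodule]
    exact le_top
  have hWnd : ND B (movS r T) := by
    have := nd_inf_mov hB hiso hrF hT htop hBnd
    rwa [top_inf_eq] at this
  have hfix : movS r T ⊓ fixS T = ⊥ := by
    rw [inf_comm]
    exact (disjoint_fix_mov hrF T).eq_bot
  have hne : movS r T ≠ ⊥ := by
    intro h
    rw [h, finrank_bot] at hdim
    omega
  have hδT : Commute δ T := commute_of_apply hcomm
  -- `δ` preserves `W`
  have hWδ : ∀ w ∈ movS r T, δ w ∈ movS r T := by
    intro w hw
    have := movS_invt_of_comm hcomm r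
    rw [Module.End.mem_invtSubmodule] at this
    exact this hw
  obtain ⟨g, hgirr, hgdvd, hgdeg, u, huW, hu0, hgu⟩ := exists_irred_vec hrp hT hW hfix hne
  -- the cyclic space of `u` is `W`
  set M := cyc T u g.natDegree with hM
  have hMinv : M ∈ Module.End.invtSubmodule T := cyc_invt T u g hgirr.ne_zero hgu
  have hMW : M ≤ movS r T := cyc_le hW huW _
  have huM : u ∈ M := by
    have := pow_mem_cyc T u (d := g.natDegree) (t := 0) (by rw [hgdeg]; exact hipos)
    simpa using this
  have hMeq : M = movS r T := by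
    rcases irred_of_finrank hT hfix hdim hMinv hMW with h | h
    · exfalso
      rw [h] at huM
      exact hu0 ((Submodule.mem_bot F).mp huM)
    · exact h
  -- `δ = a(T)` on `W`
  have hδu : δ u ∈ M := by rw [hMeq]; exact hWδ u huW
  obtain ⟨c, hc⟩ := mem_cyc_iff.mp hδu
  set a := polyOf c with ha
  have hδa : ∀ w ∈ movS r T, δ w = aeval T a w := by
    intro w hw
    rw [← hMeq] at hw
    obtain ⟨c', hc'⟩ := mem_cyc_iff.mp hw
    rw [hc', ← aeval_apply_comm hcomm, hc, ← Module.End.mul_apply, ← Module.End.mul_apply, ← map_mul,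
      ← map_mul, mul_comm]
  -- the adjoint
  have hWinv' : movS r T ∈ Module.End.invtSubmodule (T ^ (r - 1)) := by
    rw [Module.End.mem_invtSubmodule]
    intro w hw
    exact invt_pow_apply hW hw (r - 1)
  have hadj : ∀ w' ∈ movS r T, aeval (T ^ (r - 1)) a w' = δ w' := by
    intro w' hw'
    have hy : aeval (T ^ (r - 1)) a w' - δ w' ∈ movS r T :=
      (movS r T).sub_mem (invt_aeval_apply hWinv' a hw') (hWδ w' hw')
    have hzero : aeval (T ^ (r - 1)) a w' - δ w' = 0 := by
      by_contra hne0
      obtain ⟨v, hvW, hv⟩ := hWnd _ hy hne0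
      apply hv
      have h1 : B v (aeval (T ^ (r - 1)) a w' - δ w') = 0 := by
        rw [map_sub, ← adj_aeval hiso hrpos hT, ← hδa v hvW, hsa, sub_self]
      rw [← hBalt.neg_eq, h1, neg_zero]
    exact sub_eq_zero.mp hzero
  -- Frobenius
  have hQ : r ∣ Fintype.card F ^ (i / 2) + 1 := dvd_pow_half_add_one hrp hev
  have hTQ : T ^ (Fintype.card F ^ (i / 2)) = T ^ (r - 1) := pow_eq_inv_of_dvd hrpos hT hQ
  have hfrob : aeval (T ^ (r - 1)) a = (aeval T a) ^ (Fintype.card F ^ (i / 2)) := by
    rw [← hTQ, aeval_pow_card_pow]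
  have hpow : ∀ (n : ℕ) (w : V), w ∈ movS r T → ((aeval T a) ^ n) w = (δ ^ n) w ∧ (δ ^ n) w ∈ movS r T := by
    intro n
    induction n with
    | zero =>
      intro w hw
      simp only [pow_zero, Module.End.one_apply]
      exact ⟨trivial, hw⟩
    | succ n ih =>
      intro w hw
      obtain ⟨e1, e2⟩ := ih w hw
      rw [pow_succ', pow_succ', Module.End.mul_apply, Module.End.mul_apply, e1, ← hδa _ e2]
      exact ⟨rfl, hWδ _ e2⟩
  have hδQ : δ ^ (Fintype.card F ^ (i / 2)) = δ ^ (Fintype.card F) := by
    obtain ⟨m, hm⟩ := hhalf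
    rw [hm, pow_succ, pow_mul, pow_mul, pow_card_sq_pow_eq' hirr hdeg hgδ]
  have h2 : (δ ^ (Fintype.card F)) u = δ u := by
    have h1 := hadj u huW
    rw [hfrob, (hpow _ u huW).1, hδQ] at h1
    exact h1
  exact hu0 (eq_zero_of_pow_card hirr hdeg hgδ h2)

end Cfsg.Agent.Helper7.FEx
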