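import Mathlib
import Cfsg.Agent.Helper7.UTyE
import Cfsg.Agent.Helper7.SpOrdM
import Cfsg.Agent.Helper7.SpTIM
import Cfsg.Agent.S0270

set_option autoImplicit false
set_option linter.unusedSectionVars false
set_option linter.unusedVariables false

/-!
Subgroups of type `GU_d(q).2` of `Sp_{2d}(q)`, `q` odd: elements of odd prime order `r` which are conjugate to no
element of the normalizer of `K`.
-/

namespace Cfsg.Agent.Helper7.UTy

open Matrix Module Cfsg.Agent.Helper7.Symp Cfsg.Agent.Helper7.SpOrd Cfsg.Agent.Helper8.SpStab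
  Cfsg.Agent.Helper7.POrd Cfsg.Agent.Helper7.SpTI

variable {F : Type*} [Field F] [Fintype F] {p : ℕ} [Fact p.Prime] [CharP F p] {r : ℕ} [Fact r.Prime] {d : ℕ}

local notation "MM" => Matrix (Fin d ⊕ Fin d) (Fin d ⊕ Fin d) F
local notation "VV" => (Fin d ⊕ Fin d → F)

/-- the matrix data of a unitary-type structure. -/
structure MUS (d : ℕ) (δm : Matrix (Fin d ⊕ Fin d) (Fin d ⊕ Fin d) F) (z : F) : Prop where
  nsq : ¬ IsSquare z
  sq : δm * δm = z • (1 : Matrix (Fin d ⊕ Fin d) (Fin d ⊕ Fin d) F)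
  skew : ∀ u v : Fin d ⊕ Fin d → F,
    Cfsg.sympForm d F (δm *ᵥ u) v = - Cfsg.sympForm d F u (δm *ᵥ v)

theorem MUS.us {δm : MM} {z : F} (h : MUS d δm z) : US (sB d F) (Matrix.toLin' δm) z where
  alt := sB_isAlt d
  nd := sB_ND d
  sq := by
    intro v
    rw [Matrix.toLin'_apply, Matrix.toLin'_apply, mulVec_mulVec, h.sq, smul_mulVec, one_mulVec]
  skew := by
    intro u v
    rw [sB_apply, sB_apply, Matrix.toLin'_apply, Matrix.toLin'_apply]
    exact h.skew u v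
  nsq := h.nsq

theorem spGL_inv_mulVec {g : GL (Fin d ⊕ Fin d) F} (hg : g ∈ Cfsg.spGL d F) (u v : VV) :
    Cfsg.sympForm d F (((g⁻¹ : GL (Fin d ⊕ Fin d) F) : MM) *ᵥ u) v =
      Cfsg.sympForm d F u ((g : MM) *ᵥ v) := by
  have h1 : Cfsg.sympForm d F ((g : MM) *ᵥ (((g⁻¹ : GL (Fin d ⊕ Fin d) F) : MM) *ᵥ u)) ((g : MM) *ᵥ v) =
      Cfsg.sympForm d F (((g⁻¹ : GL (Fin d ⊕ Fin d) F) : MM) *ᵥ u) v :=
    hg (((g⁻¹ : GL (Fin d ⊕ Fin d) F) : MM) *ᵥ u) v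
  rw [mulVec_mulVec, ← Units.val_mul, mul_inv_cancel, Units.val_one, one_mulVec] at h1
  exact h1.symm

/-- transport of the matrix data by a symplectic matrix. -/
theorem MUS.conj {δm : MM} {z : F} (h : MUS d δm z) {g : GL (Fin d ⊕ Fin d) F} (hg : g ∈ Cfsg.spGL d F) :
    MUS d ((g : MM) * δm * ((g⁻¹ : GL (Fin d ⊕ Fin d) F) : MM)) z where
  nsq := h.nsq
  sq := by
    have h1' : ((g⁻¹ : GL (Fin d ⊕ Fin d) F) : MM) * (g : MM) = 1 := by
      rw [← Units.val_mul, inv_mul_cancel, Units.val_one]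
    have h1 : (g : MM) * ((g⁻¹ : GL (Fin d ⊕ Fin d) F) : MM) = 1 := by
      rw [← Units.val_mul, mul_inv_cancel, Units.val_one]
    calc (g : MM) * δm * ((g⁻¹ : GL (Fin d ⊕ Fin d) F) : MM) *
          ((g : MM) * δm * ((g⁻¹ : GL (Fin d ⊕ Fin d) F) : MM))
        = (g : MM) * δm * (((g⁻¹ : GL (Fin d ⊕ Fin d) F) : MM) * (g : MM)) * δm *
          ((g⁻¹ : GL (Fin d ⊕ Fin d) F) : MM) := by simp only [mul_assoc]
      _ = (g : MM) * (δm * δm) * ((g⁻¹ : GL (Fin d ⊕ Fin d) F) : MM) := by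
          rw [h1', mul_one]; simp only [mul_assoc]
      _ = z • (1 : MM) := by rw [h.sq, mul_smul_comm, mul_one, smul_mul_assoc, h1]
  skew := by
    intro u v
    have hgi : g⁻¹ ∈ Cfsg.spGL d F := Subgroup.inv_mem _ hg
    have e1 : ((g : MM) * δm * ((g⁻¹ : GL (Fin d ⊕ Fin d) F) : MM)) *ᵥ u =
        (g : MM) *ᵥ (δm *ᵥ (((g⁻¹ : GL (Fin d ⊕ Fin d) F) : MM) *ᵥ u)) := by
      rw [mulVec_mulVec, mulVec_mulVec]
    have e2 : ((g : MM) * δm * ((g⁻¹ : GL (Fin d ⊕ Fin d) F) : MM)) *ᵥ v =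
        (g : MM) *ᵥ (δm *ᵥ (((g⁻¹ : GL (Fin d ⊕ Fin d) F) : MM) *ᵥ v)) := by
      rw [mulVec_mulVec, mulVec_mulVec]
    have e3 : ∀ a b : VV, Cfsg.sympForm d F ((g : MM) *ᵥ a) b =
        Cfsg.sympForm d F a (((g⁻¹ : GL (Fin d ⊕ Fin d) F) : MM) *ᵥ b) := by
      intro a b
      have := spGL_inv_mulVec hgi a b
      rw [inv_inv] at this
      exact this
    rw [e1, e2, e3, h.skew, ← spGL_inv_mulVec hg]

theorem coe_toSpGLHom (x₀ : symplecticGroup (Fin d) F) :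
    (((Cfsg.Agent.S0270.toSpGLHom d F x₀ : ↥(Cfsg.spGL d F)) : GL (Fin d ⊕ Fin d) F) : MM) = (x₀ : MM) := rfl

/-- from a conjugate in the normalizer to a commuting structure, for elements of odd order. -/
theorem exists_commuting_of_conj_mem (h2 : (2 : F) ≠ 0) (hd : 1 ≤ d) {K : Subalgebra F MM} {δm : MM} {z : F}
    (hKG : KGen K δm z) (hM : MUS d δm z) {x g : GL (Fin d ⊕ Fin d) F} (hg : g ∈ Cfsg.spGL d F)
    {n : ℕ} (hn : Odd n) (hxn : x ^ n = 1)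
    (hmem : g⁻¹ * x * g ∈ Cfsg.Geo.subalgebraNormalizer K) :
    ∃ δ'm : MM, MUS d δ'm z ∧ (x : MM) * δ'm = δ'm * (x : MM) := by
  have : Nonempty (Fin d ⊕ Fin d) := ⟨Sum.inl ⟨0, hd⟩⟩
  set y : GL (Fin d ⊕ Fin d) F := g⁻¹ * x * g with hy
  have hyn : y ^ n = 1 := by
    rw [hy]
    have : g⁻¹ * x * g = g⁻¹ * x * g⁻¹⁻¹ := by rw [inv_inv]
    rw [this, conj_pow, hxn]
    group
  have hyinvn : (y⁻¹) ^ n = 1 := by rw [inv_pow, hyn, inv_one]
  have h1' : ((y⁻¹ : GL (Fin d ⊕ Fin d) F) : MM) * (y : MM) = 1 := by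
    rw [← Units.val_mul, inv_mul_cancel, Units.val_one]
  have h1 : (y : MM) * ((y⁻¹ : GL (Fin d ⊕ Fin d) F) : MM) = 1 := by
    rw [← Units.val_mul, mul_inv_cancel, Units.val_one]
  have hcomm : (y : MM) * δm * ((y⁻¹ : GL (Fin d ⊕ Fin d) F) : MM) = δm := by
    rcases (mem_normalizer_iff h2 hKG y).mp hmem with h | h
    · exact h
    · exfalso
      refine not_conj_neg_of_odd_pow h2 hKG.ne_zero (y : MM) ((y⁻¹ : GL (Fin d ⊕ Fin d) F) : MM) h1' hn ?_ ?_ h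
      · rw [← Units.val_pow_eq_pow_val, hyn, Units.val_one]
      · rw [← Units.val_pow_eq_pow_val, hyinvn, Units.val_one]
  have hcomm' : (y : MM) * δm = δm * (y : MM) := by
    calc (y : MM) * δm = (y : MM) * δm * (((y⁻¹ : GL (Fin d ⊕ Fin d) F) : MM) * (y : MM)) := by
          rw [h1', mul_one]
      _ = ((y : MM) * δm * ((y⁻¹ : GL (Fin d ⊕ Fin d) F) : MM)) * (y : MM) := by simp only [mul_assoc]
      _ = δm * (y : MM) := by rw [hcomm]
  refine ⟨(g : MM) * δm * ((g⁻¹ : GL (Fin d ⊕ Fin d) F) : MM), hM.conj hg, ?_⟩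
  have hg1' : ((g⁻¹ : GL (Fin d ⊕ Fin d) F) : MM) * (g : MM) = 1 := by
    rw [← Units.val_mul, inv_mul_cancel, Units.val_one]
  have hg1 : (g : MM) * ((g⁻¹ : GL (Fin d ⊕ Fin d) F) : MM) = 1 := by
    rw [← Units.val_mul, mul_inv_cancel, Units.val_one]
  have hyval : (y : MM) = ((g⁻¹ : GL (Fin d ⊕ Fin d) F) : MM) * (x : MM) * (g : MM) := by
    rw [hy, Units.val_mul, Units.val_mul]
  have hx : (x : MM) = (g : MM) * (y : MM) * ((g⁻¹ : GL (Fin d ⊕ Fin d) F) : MM) := by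
    rw [hyval]
    calc (x : MM) = ((g : MM) * ((g⁻¹ : GL (Fin d ⊕ Fin d) F) : MM)) * (x : MM) *
          ((g : MM) * ((g⁻¹ : GL (Fin d ⊕ Fin d) F) : MM)) := by rw [hg1, one_mul, mul_one]
      _ = _ := by simp only [mul_assoc]
  rw [hx]
  calc (g : MM) * (y : MM) * ((g⁻¹ : GL (Fin d ⊕ Fin d) F) : MM) *
        ((g : MM) * δm * ((g⁻¹ : GL (Fin d ⊕ Fin d) F) : MM))
      = (g : MM) * (y : MM) * (((g⁻¹ : GL (Fin d ⊕ Fin d) F) : MM) * (g : MM)) * δm *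
        ((g⁻¹ : GL (Fin d ⊕ Fin d) F) : MM) := by simp only [mul_assoc]
    _ = (g : MM) * ((y : MM) * δm) * ((g⁻¹ : GL (Fin d ⊕ Fin d) F) : MM) := by
        rw [hg1', mul_one]; simp only [mul_assoc]
    _ = (g : MM) * (δm * (y : MM)) * ((g⁻¹ : GL (Fin d ⊕ Fin d) F) : MM) := by rw [hcomm']
    _ = (g : MM) * δm * (((g⁻¹ : GL (Fin d ⊕ Fin d) F) : MM) * (g : MM)) * (y : MM) *
        ((g⁻¹ : GL (Fin d ⊕ Fin d) F) : MM) := by rw [hg1', mul_one]; simp only [mul_assoc]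
    _ = _ := by simp only [mul_assoc]

/-- `r` odd, `r ≠ p`: a derangement when `i` is odd with `i ≤ d`, or `4 ∣ i` with `i ≤ 2d`. -/
theorem not_forall_of_odd (hr2 : r ≠ 2) (hrp : r ≠ p) (hqodd : Odd (Fintype.card F)) (hd : 1 ≤ d)
    {K : Subalgebra F MM} {δm : MM} {z : F} (hKG : KGen K δm z) (hM : MUS d δm z)
    (hcase : (Odd (orderOf ((Fintype.card F : ℕ) : ZMod r)) ∧ orderOf ((Fintype.card F : ℕ) : ZMod r) ≤ d) ∨
      (4 ∣ orderOf ((Fintype.card F : ℕ) : ZMod r) ∧ orderOf ((Fintype.card F : ℕ) : ZMod r) ≤ 2 * d)) :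
    ¬ (∀ x ∈ Cfsg.spGL d F,
      (∃ z : F, ((x ^ r : GL (Fin d ⊕ Fin d) F) : MM) = z • (1 : MM)) →
      (∀ z : F, (x : MM) ≠ z • (1 : MM)) →
      ∃ g ∈ Cfsg.spGL d F, g⁻¹ * x * g ∈ Cfsg.Geo.subalgebraNormalizer K) := by
  intro hall
  have h2F : (2 : F) ≠ 0 := two_ne_zero_of_odd_card hqodd
  have hrodd : Odd r := (Fact.out : r.Prime).odd_of_ne_two hr2
  set i := orderOf ((Fintype.card F : ℕ) : ZMod r) with hi
  have hcle : cOf i * 1 ≤ 2 * d := by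
    rw [mul_one]
    unfold cOf
    rcases hcase with ⟨hodd, hle⟩ | ⟨h4, hle⟩
    · rw [if_neg (Nat.not_even_iff_odd.mpr hodd)]
      omega
    · have hev : Even i := by
        obtain ⟨m, hm⟩ := h4
        exact ⟨2 * m, by rw [hm]; ring⟩
      rw [if_pos hev]
      exact hle
  obtain ⟨x₀, hxr, hx1, hfix⟩ := exists_elt_blocks (F := F) hr2 hrp d 1 hcle
  rw [← hi] at hfix
  have hx1' : x₀ ≠ 1 := hx1 le_rfl
  have hns := not_scalar_of_pow hr2 hd hxr hx1'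
  set x : ↥(Cfsg.spGL d F) := Cfsg.Agent.S0270.toSpGLHom d F x₀ with hx
  have hxpow : (x : GL (Fin d ⊕ Fin d) F) ^ r = 1 := by
    have : x ^ r = 1 := by rw [hx, ← map_pow, hxr, map_one]
    have := congrArg (Subtype.val) this
    rw [Subgroup.coe_pow] at this
    exact this
  obtain ⟨g, hg, hmem⟩ := hall (x : GL (Fin d ⊕ Fin d) F) x.2
    ⟨1, by rw [hxpow, one_smul, Units.val_one]⟩ hns
  obtain ⟨δ'm, hM', hcomm⟩ := exists_commuting_of_conj_mem h2F hd hKG hM hg hrodd hxpow hmem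
  have hS := hM'.us
  have hT : (Matrix.toLin' (x₀ : MM) : Module.End F VV) ^ r = 1 := by
    rw [toLin'_pow_symp, hxr]
    exact Matrix.toLin'_one
  have hcomm2 : ∀ v, Matrix.toLin' (x₀ : MM) (Matrix.toLin' δ'm v) =
      Matrix.toLin' δ'm (Matrix.toLin' (x₀ : MM) v) := by
    intro v
    rw [Matrix.toLin'_apply, Matrix.toLin'_apply, Matrix.toLin'_apply, Matrix.toLin'_apply, mulVec_mulVec,
      mulVec_mulVec]
    have : (x₀ : MM) * δ'm = δ'm * (x₀ : MM) := hcomm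
    rw [this]
  have hrF : (r : F) ≠ 0 := natCast_ne_zero_of_ne hrp
  have hmov : finrank F ↥(movS r (Matrix.toLin' (x₀ : MM))) = cOf i := by
    have h1 := finrank_fix_add_mov hrF hT
    rw [finrank_std, hfix, mul_one] at h1
    rw [mul_one] at hcle
    omega
  rcases hcase with ⟨hodd, hle⟩ | ⟨h4, hle⟩
  · have hc : cOf i = 2 * i := by
      unfold cOf
      rw [if_neg (Nat.not_even_iff_odd.mpr hodd)]
    rw [hc] at hmov
    exact not_commute_of_odd hr2 hrp hS (sB_iso x₀) hT hcomm2 hodd hmov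
  · have hev : Even i := by
      obtain ⟨m, hm⟩ := h4
      exact ⟨2 * m, by rw [hm]; ring⟩
    have hc : cOf i = i := by
      unfold cOf
      rw [if_pos hev]
    rw [hc] at hmov
    exact not_commute_of_four hr2 hrp hqodd hS (sB_iso x₀) hT hcomm2 h4 hmov

end Cfsg.Agent.Helper7.UTy
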