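import Mathlib
import Cfsg.Agent.Helper7.UTyF

set_option autoImplicit false
set_option linter.unusedSectionVars false
set_option linter.unusedVariables false

/-!
Subgroups of type `GU_d(q).2` of `Sp_{2d}(q)`, `q` odd: the transvections are conjugate to no element of the
normalizer of `K`.
-/

namespace Cfsg.Agent.Helper7.UTy

open Matrix Module Cfsg.Agent.Helper7.Symp Cfsg.Agent.Helper7.SpOrd Cfsg.Agent.Helper8.SpStab
  Cfsg.Agent.Helper7.POrd

variable {F : Type*} [Field F] [Fintype F] {p : ℕ} [Fact p.Prime] [CharP F p] {d : ℕ}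

local notation "MM" => Matrix (Fin d ⊕ Fin d) (Fin d ⊕ Fin d) F
local notation "VV" => (Fin d ⊕ Fin d → F)

theorem T_pow_eq (w : VV) (c : F) (n : ℕ) : (T w c) ^ n = T w (n • c) := by
  induction n with
  | zero => rw [pow_zero, zero_smul, T_zero_right]
  | succ n ih => rw [pow_succ, ih, T_mul, succ_nsmul]

theorem T_pow_char (w : VV) (c : F) : (T w c) ^ p = 1 := by
  rw [T_pow_eq, nsmul_eq_mul, CharP.cast_eq_zero, zero_mul, T_zero_right]

theorem T_not_scalar {w : VV} (hw : w ≠ 0) (c : F) : ((T w 1 : symplecticGroup (Fin d) F) : MM) ≠ c • (1 : MM) := by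
  intro h
  have h1 : ∀ u : VV, u + (1 * Cfsg.sympForm d F u w) • w = c • u := by
    intro u
    rw [← T_mulVec, h, smul_mulVec, one_mulVec]
  have hc : c = 1 := by
    have := h1 w
    rw [sympForm_self, mul_zero, zero_smul, add_zero] at this
    have h3 : (c - 1) • w = 0 := by rw [sub_smul, one_smul, ← this, sub_self]
    rcases smul_eq_zero.mp h3 with h' | h'
    · exact sub_eq_zero.mp h'
    · exact absurd h' hw
  apply hw
  apply eq_zero_of_sympForm_left
  intro u
  have := h1 u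
  rw [hc, one_smul, one_mul] at this
  have h3 : Cfsg.sympForm d F u w • w = 0 := by
    have := add_left_cancel (a := u) (b := Cfsg.sympForm d F u w • w) (c := 0) (by rw [add_zero]; exact this)
    exact this
  rcases smul_eq_zero.mp h3 with h' | h'
  · rw [sympForm_swap, h', neg_zero]
  · exact absurd h' hw

/-- `r = p`: a transvection is a derangement. -/
theorem not_forall_of_char (hqodd : Odd (Fintype.card F)) (hd : 1 ≤ d)
    {K : Subalgebra F MM} {δm : MM} {z : F} (hKG : KGen K δm z) (hM : MUS d δm z) :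
    ¬ (∀ x ∈ Cfsg.spGL d F,
      (∃ z : F, ((x ^ p : GL (Fin d ⊕ Fin d) F) : MM) = z • (1 : MM)) →
      (∀ z : F, (x : MM) ≠ z • (1 : MM)) →
      ∃ g ∈ Cfsg.spGL d F, g⁻¹ * x * g ∈ Cfsg.Geo.subalgebraNormalizer K) := by
  intro hall
  have h2F : (2 : F) ≠ 0 := two_ne_zero_of_odd_card hqodd
  have hpodd : Odd p := by
    have hp : p.Prime := Fact.out
    apply hp.odd_of_ne_two
    rintro rfl
    have : ((Fintype.card F : ℕ) : F) = 0 := Nat.cast_card_eq_zero F
    obtain ⟨n, hn⟩ := hqodd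
    rw [hn, Nat.cast_add, Nat.cast_mul, Nat.cast_two, Nat.cast_one] at this
    have h20 : (2 : F) = 0 := by
      have := CharP.cast_eq_zero F 2
      exact_mod_cast this
    exact h2F h20
  set w : VV := Pi.single (Sum.inl ⟨0, hd⟩) 1 with hw
  have hw0 : w ≠ 0 := by
    intro h
    have := congrFun h (Sum.inl ⟨0, hd⟩)
    simp [hw] at this
  set x₀ : symplecticGroup (Fin d) F := T w 1 with hx₀
  have hxr : x₀ ^ p = 1 := T_pow_char w 1
  set x : ↥(Cfsg.spGL d F) := Cfsg.Agent.S0270.toSpGLHom d F x₀ with hx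
  have hxpow : (x : GL (Fin d ⊕ Fin d) F) ^ p = 1 := by
    have : x ^ p = 1 := by rw [hx, ← map_pow, hxr, map_one]
    have := congrArg (Subtype.val) this
    rw [Subgroup.coe_pow] at this
    exact this
  obtain ⟨g, hg, hmem⟩ := hall (x : GL (Fin d ⊕ Fin d) F) x.2
    ⟨1, by rw [hxpow, one_smul, Units.val_one]⟩ (T_not_scalar hw0)
  obtain ⟨δ'm, hM', hcomm⟩ := exists_commuting_of_conj_mem h2F hd hKG hM hg hpodd hxpow hmem
  have hcomm' : (x₀ : MM) * δ'm = δ'm * (x₀ : MM) := hcomm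
  obtain ⟨u, hu⟩ := exists_sympForm_ne_zero hw0
  have hu' : Cfsg.sympForm d F u w ≠ 0 := by
    rw [sympForm_swap]
    exact neg_ne_zero.mpr hu
  have h1 : (x₀ : MM) *ᵥ (δ'm *ᵥ u) = δ'm *ᵥ ((x₀ : MM) *ᵥ u) := by
    rw [mulVec_mulVec, mulVec_mulVec, hcomm']
  rw [hx₀, T_mulVec, T_mulVec, mulVec_add, mulVec_smul, one_mul, one_mul] at h1
  have h3 : Cfsg.sympForm d F (δ'm *ᵥ u) w • w = Cfsg.sympForm d F u w • (δ'm *ᵥ w) :=
    add_left_cancel h1
  set lam : F := (Cfsg.sympForm d F u w)⁻¹ * Cfsg.sympForm d F (δ'm *ᵥ u) w with hlam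
  have h4 : δ'm *ᵥ w = lam • w := by
    have := congrArg (fun y => (Cfsg.sympForm d F u w)⁻¹ • y) h3
    simp only [smul_smul, inv_mul_cancel₀ hu', one_smul] at this
    rw [hlam]
    exact this.symm
  have h5 : (δ'm * δ'm) *ᵥ w = (lam * lam) • w := by
    rw [← mulVec_mulVec, h4, mulVec_smul, h4, smul_smul]
  rw [hM'.sq, smul_mulVec, one_mulVec] at h5
  have h6 : (z - lam * lam) • w = 0 := by rw [sub_smul, h5, sub_self]
  apply hM'.nsq
  rcases smul_eq_zero.mp h6 with h' | h'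
  · exact ⟨lam, sub_eq_zero.mp h'⟩
  · exact absurd h' hw0

end Cfsg.Agent.Helper7.UTy
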