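import Mathlib
import Cfsg.Agent.Helper7.UTyG
import Cfsg.Agent.Helper7.FExB
import Cfsg.Agent.Helper7.FExC

set_option autoImplicit false
set_option linter.unusedSectionVars false
set_option linter.unusedVariables false

/-!
Subgroups of type `Sp_{2d/k}(q^k)` of `Sp_{2d}(q)`: the matrix data of a self-adjoint field structure, its transport
by symplectic matrices, and the passage from a conjugate in the normalizer to a commuting structure.
-/

namespace Cfsg.Agent.Helper7.FEx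

open Matrix Module Polynomial Cfsg.Agent.Helper7.Symp Cfsg.Agent.Helper7.SpOrd
  Cfsg.Agent.Helper7.POrd Cfsg.Agent.Helper7.SpTI Cfsg.Agent.Helper7.UTy

variable {F : Type*} [Field F] {d : ℕ}

local notation "MM" => Matrix (Fin d ⊕ Fin d) (Fin d ⊕ Fin d) F
local notation "VV" => (Fin d ⊕ Fin d → F)

/-- the matrix data of one element of a self-adjoint field structure of degree `k`. -/
structure MSS (d k : ℕ) (θm : Matrix (Fin d ⊕ Fin d) (Fin d ⊕ Fin d) F) (g : F[X]) : Prop where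
  irr : Irreducible g
  deg : g.natDegree = k
  root : aeval θm g = 0
  sa : ∀ u v : Fin d ⊕ Fin d → F, Cfsg.sympForm d F (θm *ᵥ u) v = Cfsg.sympForm d F u (θm *ᵥ v)
  iso : ∀ v : Fin d ⊕ Fin d → F, Cfsg.sympForm d F (θm *ᵥ v) v = 0

theorem aeval_conj {A A' : MM} (hAA' : A * A' = 1) (hA'A : A' * A = 1) (θ : MM) (f : F[X]) :
    aeval (A * θ * A') f = A * aeval θ f * A' := by
  have hp : ∀ n : ℕ, (A * θ * A') ^ n = A * θ ^ n * A' := by
    intro n
    induction n with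
    | zero => rw [pow_zero, pow_zero, mul_one, hAA']
    | succ n ih =>
      rw [pow_succ, ih, pow_succ]
      calc A * θ ^ n * A' * (A * θ * A') = A * θ ^ n * (A' * A) * θ * A' := by simp only [mul_assoc]
        _ = A * (θ ^ n * θ) * A' := by rw [hA'A, mul_one]; simp only [mul_assoc]
  induction f using Polynomial.induction_on' with
  | add f₁ f₂ h₁ h₂ => rw [map_add, map_add, h₁, h₂, mul_add, add_mul]
  | monomial n c =>
    rw [aeval_monomial, aeval_monomial, hp, Algebra.algebraMap_eq_smul_one, smul_mul_assoc, one_mul,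
      smul_mul_assoc, one_mul, mul_smul_comm, smul_mul_assoc]

theorem MSS.root_lin {k : ℕ} {θm : MM} {g : F[X]} (h : MSS d k θm g) :
    aeval (Matrix.toLin' θm : Module.End F VV) g = 0 := by
  have h1 := Polynomial.aeval_algHom_apply (Matrix.toLinAlgEquiv' : MM ≃ₐ[F] Module.End F VV).toAlgHom θm g
  rw [h.root, map_zero] at h1
  exact h1

theorem spGL_inv_left {g : GL (Fin d ⊕ Fin d) F} (hg : g ∈ Cfsg.spGL d F) (u v : VV) :
    Cfsg.sympForm d F (((g⁻¹ : GL (Fin d ⊕ Fin d) F) : MM) *ᵥ u) v =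
      Cfsg.sympForm d F u ((g : MM) *ᵥ v) := by
  have h1 : Cfsg.sympForm d F ((g : MM) *ᵥ (((g⁻¹ : GL (Fin d ⊕ Fin d) F) : MM) *ᵥ u)) ((g : MM) *ᵥ v) =
      Cfsg.sympForm d F (((g⁻¹ : GL (Fin d ⊕ Fin d) F) : MM) *ᵥ u) v :=
    hg (((g⁻¹ : GL (Fin d ⊕ Fin d) F) : MM) *ᵥ u) v
  rw [mulVec_mulVec, ← Units.val_mul, mul_inv_cancel, Units.val_one, one_mulVec] at h1
  exact h1.symm

theorem spGL_left {g : GL (Fin d ⊕ Fin d) F} (hg : g ∈ Cfsg.spGL d F) (u v : VV) :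
    Cfsg.sympForm d F ((g : MM) *ᵥ u) v =
      Cfsg.sympForm d F u (((g⁻¹ : GL (Fin d ⊕ Fin d) F) : MM) *ᵥ v) := by
  rw [sympForm_swap, ← spGL_inv_left hg, sympForm_swap, neg_neg]

/-- transport of the matrix data by a symplectic matrix. -/
theorem MSS.conj {k : ℕ} {θm : MM} {gp : F[X]} (h : MSS d k θm gp) {g : GL (Fin d ⊕ Fin d) F}
    (hg : g ∈ Cfsg.spGL d F) :
    MSS d k ((g : MM) * θm * ((g⁻¹ : GL (Fin d ⊕ Fin d) F) : MM)) gp where
  irr := h.irr
  deg := h.deg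
  root := by
    rw [aeval_conj (val_mul_inv g) (val_inv_mul g), h.root, mul_zero, zero_mul]
  sa := by
    intro u v
    rw [← mulVec_mulVec, ← mulVec_mulVec, ← mulVec_mulVec, ← mulVec_mulVec, spGL_left hg, h.sa,
      spGL_inv_left hg]
  iso := by
    intro v
    rw [← mulVec_mulVec, ← mulVec_mulVec, spGL_left hg]
    exact h.iso _

/-- the data extracted from the subalgebra. -/
theorem exists_MSS (hd : 1 ≤ d) {k : ℕ} (hk : k.Prime) (K : Subalgebra F MM)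
    (hK : Cfsg.Geo.IsFieldSubalgebra k K)
    (hKf : Cfsg.Geo.IsSelfAdjointFor (Cfsg.sympForm d F) K)
    (hKalt : ∀ a ∈ K, ∀ v : VV, Cfsg.sympForm d F (a *ᵥ v) v = 0) :
    ∃ (θm : MM) (gp : F[X]), θm ∈ K ∧ MSS d k θm gp := by
  haveI : Nonempty (Fin d ⊕ Fin d) := ⟨Sum.inl ⟨0, hd⟩⟩
  obtain ⟨θm, hθK, hθ⟩ := exists_nonscalar hk.two_le K hK
  obtain ⟨gp, hirr, hdeg, hroot⟩ := exists_irred hk K hK hθK hθ
  exact ⟨θm, gp, hθK, ⟨hirr, hdeg, hroot, hKf θm hθK, hKalt θm hθK⟩⟩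

/-- from a conjugate in the normalizer to a commuting structure. -/
theorem exists_commuting_of_conj_mem' [Finite F] (hd : 1 ≤ d) {k : ℕ} (hk : k.Prime) {K : Subalgebra F MM}
    (hK : Cfsg.Geo.IsFieldSubalgebra k K) {θm : MM} {gp : F[X]} (hθK : θm ∈ K) (hM : MSS d k θm gp)
    {x g : GL (Fin d ⊕ Fin d) F} (hg : g ∈ Cfsg.spGL d F)
    (hmem : g⁻¹ * x * g ∈ Cfsg.Geo.subalgebraNormalizer K)
    (hcent : (∃ r : ℕ, r.Prime ∧ r ≠ k ∧ x ^ r = 1) ∨
      2 * ((x : MM) - 1).rank < Fintype.card (Fin d ⊕ Fin d)) :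
    ∃ θ'm : MM, MSS d k θ'm gp ∧ (x : MM) * θ'm = θ'm * (x : MM) := by
  haveI : Nonempty (Fin d ⊕ Fin d) := ⟨Sum.inl ⟨0, hd⟩⟩
  set y : GL (Fin d ⊕ Fin d) F := g⁻¹ * x * g with hy
  have hg1' := val_inv_mul g
  have hg1 := val_mul_inv g
  have hyval : (y : MM) = ((g⁻¹ : GL (Fin d ⊕ Fin d) F) : MM) * (x : MM) * (g : MM) := by
    rw [hy, Units.val_mul, Units.val_mul]
  have hcomm' : (y : MM) * θm = θm * (y : MM) := by
    rcases hcent with ⟨r, hr, hrk, hxr⟩ | hrank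
    · have hyn : y ^ r = 1 := by
        rw [hy]
        have : g⁻¹ * x * g = g⁻¹ * x * g⁻¹⁻¹ := by rw [inv_inv]
        rw [this, conj_pow, hxr]
        group
      exact commute_of_pow_eq_one hk hr hrk hK y hmem hyn θm hθK
    · have hy1 : (y : MM) - 1 = ((g⁻¹ : GL (Fin d ⊕ Fin d) F) : MM) * ((x : MM) - 1) * (g : MM) := by
        rw [hyval, mul_sub, sub_mul, mul_one, hg1']
      have hle : ((y : MM) - 1).rank ≤ ((x : MM) - 1).rank := by
        rw [hy1]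
        exact (Matrix.rank_mul_le_left _ _).trans (Matrix.rank_mul_le_right _ _)
      exact commute_of_rank_lt hK y hmem (by omega) θm hθK
  refine ⟨(g : MM) * θm * ((g⁻¹ : GL (Fin d ⊕ Fin d) F) : MM), hM.conj hg, ?_⟩
  have hx : (x : MM) = (g : MM) * (y : MM) * ((g⁻¹ : GL (Fin d ⊕ Fin d) F) : MM) := by
    rw [hyval]
    calc (x : MM) = ((g : MM) * ((g⁻¹ : GL (Fin d ⊕ Fin d) F) : MM)) * (x : MM) *
          ((g : MM) * ((g⁻¹ : GL (Fin d ⊕ Fin d) F) : MM)) := by rw [hg1, one_mul, mul_one]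
      _ = _ := by simp only [mul_assoc]
  rw [hx]
  calc (g : MM) * (y : MM) * ((g⁻¹ : GL (Fin d ⊕ Fin d) F) : MM) *
        ((g : MM) * θm * ((g⁻¹ : GL (Fin d ⊕ Fin d) F) : MM))
      = (g : MM) * (y : MM) * (((g⁻¹ : GL (Fin d ⊕ Fin d) F) : MM) * (g : MM)) * θm *
        ((g⁻¹ : GL (Fin d ⊕ Fin d) F) : MM) := by simp only [mul_assoc]
    _ = (g : MM) * ((y : MM) * θm) * ((g⁻¹ : GL (Fin d ⊕ Fin d) F) : MM) := by
        rw [hg1', mul_one]; simp only [mul_assoc]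
    _ = (g : MM) * (θm * (y : MM)) * ((g⁻¹ : GL (Fin d ⊕ Fin d) F) : MM) := by rw [hcomm']
    _ = (g : MM) * θm * (((g⁻¹ : GL (Fin d ⊕ Fin d) F) : MM) * (g : MM)) * (y : MM) *
        ((g⁻¹ : GL (Fin d ⊕ Fin d) F) : MM) := by rw [hg1', mul_one]; simp only [mul_assoc]
    _ = _ := by simp only [mul_assoc]

/-- a nonzero vector is not an eigenvector. -/
theorem MSS.no_eigen {k : ℕ} (hk : 2 ≤ k) {θm : MM} {gp : F[X]} (h : MSS d k θm gp) {w : VV} {α : F}
    (hw : θm *ᵥ w = α • w) : w = 0 := by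
  have h1 : (Matrix.toLin' θm : Module.End F VV) w = α • w := by
    rw [Matrix.toLin'_apply]
    exact hw
  exact eq_zero_of_eigen h.irr (by rw [h.deg]; exact hk) h.root_lin h1

end Cfsg.Agent.Helper7.FEx
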