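import Mathlib
import Cfsg.Prelude.Def_GeometricClasses
import Cfsg.Agent.Helper7.TnA
import Cfsg.Agent.Helper7.POrdL

set_option autoImplicit false
set_option linter.unusedSectionVars false
set_option linter.unusedVariables false

/-!
# Elements of `GL_n` that are not conjugate into the stabilizer of a tensor decomposition
-/

namespace Cfsg.Agent.Helper7.Tn

open Matrix Module Cfsg.Agent.Helper7.POrd
open scoped Kronecker

variable {F : Type*} [Field F]

/-- a matrix of rank zero vanishes. -/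
theorem eq_zero_of_rank_eq_zero {ι : Type*} [Fintype ι] [DecidableEq ι] (M : Matrix ι ι F) (h : M.rank = 0) :
    M = 0 := by
  unfold Matrix.rank at h
  have h1 : LinearMap.range (Matrix.mulVecLin M) = ⊥ := Submodule.finrank_eq_zero.mp h
  have h2 : Matrix.mulVecLin M = 0 := LinearMap.range_eq_bot.mp h1
  ext i j
  have h3 : M *ᵥ (Pi.single j 1) = 0 := by
    have := LinearMap.congr_fun h2 (Pi.single j 1)
    exact this
  have h4 := congrFun h3 i
  rw [Matrix.mulVec_single_one, Matrix.col_apply] at h4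
  exact h4

/-- the data of a conjugate in the stabilizer of a tensor decomposition. -/
theorem kron_data_of_conj_mem {n a b : ℕ} (e : Fin n ≃ Fin a × Fin b) (P x g : GL (Fin n) F)
    (h : g⁻¹ * x * g ∈ Cfsg.Geo.tensorProductSubgroup a b e P) :
    ∃ (A : GL (Fin a) F) (B : GL (Fin b) F) (y : GL (Fin a × Fin b) F),
      (y : Matrix (Fin a × Fin b) (Fin a × Fin b) F) =
        (A : Matrix (Fin a) (Fin a) F) ⊗ₖ (B : Matrix (Fin b) (Fin b) F) ∧
      (∀ k : ℕ, x ^ k = 1 → y ^ k = 1) ∧
      ∀ c : F, ((x : Matrix (Fin n) (Fin n) F) - c • 1).rank =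
        ((y : Matrix (Fin a × Fin b) (Fin a × Fin b) F) - c • 1).rank := by
  unfold Cfsg.Geo.tensorProductSubgroup at h
  obtain ⟨t, ht, hteq⟩ := Subgroup.mem_map.mp h
  obtain ⟨y, hy, hyeq⟩ := Subgroup.mem_map.mp ht
  obtain ⟨A, B, hAB⟩ := hy
  refine ⟨A, B, y, hAB, ?_, ?_⟩
  · intro k hk
    have h1 : (g⁻¹ * x * g) ^ k = 1 := by
      rw [show g⁻¹ * x * g = g⁻¹ * x * g⁻¹⁻¹ by rw [inv_inv], conj_pow, hk, mul_one, mul_inv_cancel]
    rw [← hteq, ← map_pow, ← hyeq, ← map_pow] at h1
    have h2 : (MulAut.conj P).toMonoidHom ((Cfsg.Geo.glReindex e.symm).toMonoidHom (y ^ k)) =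
        (MulAut.conj P).toMonoidHom ((Cfsg.Geo.glReindex e.symm).toMonoidHom 1) := by
      rw [h1, map_one, map_one]
    have h3 := (MulAut.conj P).injective h2
    exact (Cfsg.Geo.glReindex e.symm).injective h3
  · intro c
    have hx : x = (g * P) * (Cfsg.Geo.glReindex e.symm y) * (g * P)⁻¹ := by
      have h1 : g⁻¹ * x * g = P * (Cfsg.Geo.glReindex e.symm y) * P⁻¹ := by
        rw [← hteq, ← hyeq]
        rfl
      calc x = g * (g⁻¹ * x * g) * g⁻¹ := by group
        _ = g * (P * (Cfsg.Geo.glReindex e.symm y) * P⁻¹) * g⁻¹ := by rw [h1]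
        _ = _ := by group
    have hR : ((Cfsg.Geo.glReindex e.symm y : GL (Fin n) F) : Matrix (Fin n) (Fin n) F) =
        (y : Matrix (Fin a × Fin b) (Fin a × Fin b) F).submatrix e e := by
      unfold Cfsg.Geo.glReindex
      rw [Units.coe_mapEquiv]
      show Matrix.reindexAlgEquiv F F e.symm _ = _
      rw [Matrix.coe_reindexAlgEquiv, Matrix.reindex_apply, Equiv.symm_symm]
    have hx' : (x : Matrix (Fin n) (Fin n) F) - c • 1 =
        ((g * P : GL (Fin n) F) : Matrix (Fin n) (Fin n) F) *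
          (((y : Matrix (Fin a × Fin b) (Fin a × Fin b) F) - c • 1).submatrix e e) *
          (((g * P)⁻¹ : GL (Fin n) F) : Matrix (Fin n) (Fin n) F) := by
      have h1 : ((y : Matrix (Fin a × Fin b) (Fin a × Fin b) F) - c • 1).submatrix e e =
          (y : Matrix (Fin a × Fin b) (Fin a × Fin b) F).submatrix e e - c • 1 := by
        ext i j
        simp only [Matrix.submatrix_apply, Matrix.sub_apply, Matrix.smul_apply, Matrix.one_apply,
          e.injective.eq_iff]
      rw [h1, Matrix.mul_sub, Matrix.sub_mul, Matrix.mul_smul, Matrix.smul_mul, Matrix.mul_one,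
        ← Units.val_mul, mul_inv_cancel, Units.val_one, ← hR]
      conv_lhs => rw [hx]
      rw [Units.val_mul, Units.val_mul]
    rw [hx', Matrix.rank_mul_eq_left_of_isUnit_det _ _ ((Matrix.isUnit_iff_isUnit_det _).mp (Units.isUnit _)),
      Matrix.rank_mul_eq_right_of_isUnit_det _ _ ((Matrix.isUnit_iff_isUnit_det _).mp (Units.isUnit _)),
      Matrix.rank_submatrix]

/-- **the rank criterion**: an element with a small rank defect and a rank defect not divisible by `a` is not
conjugate into the stabilizer of a tensor decomposition. -/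
theorem not_conj_mem_of_rank {n a b : ℕ} (e : Fin n ≃ Fin a × Fin b) (P x g : GL (Fin n) F) {c c' : F}
    (h1 : ((x : Matrix (Fin n) (Fin n) F) - c • 1).rank < b)
    (h2 : ¬ a ∣ ((x : Matrix (Fin n) (Fin n) F) - c' • 1).rank) :
    g⁻¹ * x * g ∉ Cfsg.Geo.tensorProductSubgroup a b e P := by
  intro h
  obtain ⟨A, B, y, hy, -, hrank⟩ := kron_data_of_conj_mem e P x g h
  by_cases hA : ∃ s : F, (A : Matrix (Fin a) (Fin a) F) = s • 1
  · obtain ⟨s, hs⟩ := hA
    apply h2
    rw [hrank, hy, hs, rank_scalar_kron_sub, Fintype.card_fin]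
    exact Dvd.intro _ rfl
  · push Not at hA
    have h3 := card_le_rank_of_not_scalar (A : Matrix (Fin a) (Fin a) F) (B : Matrix (Fin b) (Fin b) F) hA
      ((Matrix.isUnit_iff_isUnit_det _).mp (Units.isUnit _)) c
    rw [Fintype.card_fin, ← hy, ← hrank] at h3
    omega

variable [Fintype F] {p : ℕ} [Fact p.Prime] [CharP F p] {r : ℕ} [Fact r.Prime]

/-- the order of `q` modulo `r` divides the rank of `M - 1` when `M ^ r = 1`. -/
theorem order_dvd_rank_sub_one {ι : Type*} [Fintype ι] [DecidableEq ι] (hrp : r ≠ p) (M : Matrix ι ι F)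
    (hM : M ^ r = 1) : orderOf ((Fintype.card F : ℕ) : ZMod r) ∣ (M - 1).rank := by
  have hT : (Matrix.toLin' M : Module.End F (ι → F)) ^ r = 1 := by
    rw [← Matrix.toLin'_pow, hM, Matrix.toLin'_one]
    rfl
  have h1 := orderOf_dvd_finrank_movS hrp hT
  have h2 := finrank_fix_add_mov (natCast_ne_zero_of_ne (F := F) hrp) hT
  have h3 : (M - 1).rank = finrank F ↥(LinearMap.range ((Matrix.toLin' M : Module.End F (ι → F)) - 1)) := by
    unfold Matrix.rank
    have h0 : Matrix.mulVecLin (M - 1) = (Matrix.toLin' M : Module.End F (ι → F)) - 1 := by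
      apply LinearMap.ext
      intro v
      simp [Matrix.sub_mulVec]
    rw [h0]
  have h4 := LinearMap.finrank_range_add_finrank_ker ((Matrix.toLin' M : Module.End F (ι → F)) - 1)
  have h5 : finrank F ↥(fixS (Matrix.toLin' M : Module.End F (ι → F))) =
      finrank F ↥(LinearMap.ker ((Matrix.toLin' M : Module.End F (ι → F)) - 1)) := rfl
  have h6 : (M - 1).rank = finrank F ↥(movS r (Matrix.toLin' M : Module.End F (ι → F))) := by
    rw [h3]
    omega
  rw [h6]
  exact h1

/-- **the order criterion**: an element of order `r` moving a space of the smallest possible dimension is not conjugate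
into the stabilizer of a tensor decomposition. -/
theorem not_conj_mem_of_order {n a b : ℕ} (ha : 2 ≤ a) (hlt : a < b) (hrp : r ≠ p)
    (hi1 : orderOf ((Fintype.card F : ℕ) : ZMod r) ≠ 1)
    (e : Fin n ≃ Fin a × Fin b) (P x g : GL (Fin n) F) (hxr : x ^ r = 1)
    (hrank : ((x : Matrix (Fin n) (Fin n) F) - 1).rank = orderOf ((Fintype.card F : ℕ) : ZMod r)) :
    g⁻¹ * x * g ∉ Cfsg.Geo.tensorProductSubgroup a b e P := by
  intro h
  have hr : r.Prime := Fact.out
  have hipos := orderOf_q_pos (F := F) hrp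
  obtain ⟨A, B, y, hy, hpow, hrk⟩ := kron_data_of_conj_mem e P x g h
  have hyr : y ^ r = 1 := hpow r hxr
  have hyr' : ((A : Matrix (Fin a) (Fin a) F) ^ r) ⊗ₖ ((B : Matrix (Fin b) (Fin b) F) ^ r) = 1 := by
    rw [← kron_pow, ← hy, ← Units.val_pow_eq_pow_val, hyr]
    rfl
  have hrk1 := hrk 1
  simp only [one_smul] at hrk1
  rw [hrank] at hrk1
  have hne_a : Nonempty (Fin a) := ⟨⟨0, by omega⟩⟩
  have hne_b : Nonempty (Fin b) := ⟨⟨0, by omega⟩⟩
  by_cases hA : ∃ s : F, (A : Matrix (Fin a) (Fin a) F) = s • 1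
  · obtain ⟨s, hs⟩ := hA
    have h1 : (y : Matrix (Fin a × Fin b) (Fin a × Fin b) F) =
        (1 : Matrix (Fin a) (Fin a) F) ⊗ₖ (s • (B : Matrix (Fin b) (Fin b) F)) := by
      rw [hy, hs, Matrix.smul_kronecker, Matrix.kronecker_smul]
    have h2 : (s • (B : Matrix (Fin b) (Fin b) F)) ^ r = 1 := by
      apply eq_one_of_one_kron_eq_one (l := Fin a)
      have h3 := kron_pow (1 : Matrix (Fin a) (Fin a) F) (s • (B : Matrix (Fin b) (Fin b) F)) r
      rw [one_pow, ← h1, ← Units.val_pow_eq_pow_val, hyr] at h3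
      rw [← h3]
      rfl
    obtain ⟨k, hk⟩ := order_dvd_rank_sub_one hrp _ h2
    have h4 : ((y : Matrix (Fin a × Fin b) (Fin a × Fin b) F) - (1 : F) • 1).rank =
        a * (s • (B : Matrix (Fin b) (Fin b) F) - (1 : F) • 1).rank := by
      rw [hy, hs, rank_scalar_kron_sub, Fintype.card_fin]
    simp only [one_smul] at h4
    rw [h4, hk] at hrk1
    have h5 : a * k = 1 := by
      have h6 : orderOf ((Fintype.card F : ℕ) : ZMod r) * 1 = orderOf ((Fintype.card F : ℕ) : ZMod r) * (a * k) := by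
        rw [mul_one]
        conv_lhs => rw [hrk1]
        ring
      exact (Nat.eq_of_mul_eq_mul_left hipos h6).symm
    have h7 := Nat.eq_one_of_mul_eq_one_right h5
    omega
  · push Not at hA
    have h3 := card_le_rank_of_not_scalar (A : Matrix (Fin a) (Fin a) F) (B : Matrix (Fin b) (Fin b) F) hA
      ((Matrix.isUnit_iff_isUnit_det _).mp (Units.isUnit _)) 1
    simp only [one_smul] at h3
    rw [Fintype.card_fin, ← hy, ← hrk1] at h3
    obtain ⟨σ, hσ⟩ := scalar_of_kron_eq_one _ _ hyr'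
    have hnd : ¬ r ∣ Fintype.card F - 1 := by
      intro hd
      exact hi1 ((orderOf_eq_one_iff_dvd (r := r) Fintype.card_pos).mpr hd)
    obtain ⟨s₀, hs₀⟩ := exists_pow_eq_of_not_dvd (F := F) hr hnd σ
    have hσ0 : σ ≠ 0 := by
      rintro rfl
      rw [zero_smul] at hσ
      have h4 : IsUnit ((A : Matrix (Fin a) (Fin a) F) ^ r) := (Units.isUnit A).pow r
      rw [hσ] at h4
      exact not_isUnit_zero h4
    have hs₀0 : s₀ ≠ 0 := by
      rintro rfl
      rw [zero_pow hr.ne_zero] at hs₀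
      exact hσ0 hs₀.symm
    have h5 : (s₀⁻¹ • (A : Matrix (Fin a) (Fin a) F)) ^ r = 1 := by
      rw [smul_pow, hσ, smul_smul, inv_pow, hs₀, inv_mul_cancel₀ hσ0, one_smul]
    obtain ⟨k, hk⟩ := order_dvd_rank_sub_one hrp _ h5
    have h6 : (s₀⁻¹ • (A : Matrix (Fin a) (Fin a) F) - 1).rank ≤ a := by
      have := Matrix.rank_le_card_width (s₀⁻¹ • (A : Matrix (Fin a) (Fin a) F) - 1)
      rw [Fintype.card_fin] at this
      exact this
    have hk0 : k = 0 := by
      by_contra hk0
      have : orderOf ((Fintype.card F : ℕ) : ZMod r) ≤ orderOf ((Fintype.card F : ℕ) : ZMod r) * k :=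
        Nat.le_mul_of_pos_right _ (Nat.pos_of_ne_zero hk0)
      omega
    rw [hk0, mul_zero] at hk
    have h7 := eq_zero_of_rank_eq_zero _ hk
    apply hA s₀
    have h8 : s₀⁻¹ • (A : Matrix (Fin a) (Fin a) F) = 1 := sub_eq_zero.mp h7
    calc (A : Matrix (Fin a) (Fin a) F) = s₀ • (s₀⁻¹ • (A : Matrix (Fin a) (Fin a) F)) := by
          rw [smul_smul, mul_inv_cancel₀ hs₀0, one_smul]
      _ = s₀ • 1 := by rw [h8]

end Cfsg.Agent.Helper7.Tn
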