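import Mathlib
import Cfsg.Agent.Helper7.TnSpB

set_option autoImplicit false
set_option linter.unusedSectionVars false
set_option linter.unusedVariables false

/-!
# More rank lemmas for Kronecker products
-/

namespace Cfsg.Agent.Helper7.TnSp

open Matrix Module Cfsg.Agent.Helper7.Tn
open scoped Kronecker

variable {F : Type*} [Field F] {l m : Type*} [Fintype l] [Fintype m] [DecidableEq l] [DecidableEq m]

/-- swapping the factors of a Kronecker product. -/
theorem kron_swap (A : Matrix l l F) (B : Matrix m m F) :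
    (A ⊗ₖ B).submatrix (Equiv.prodComm m l) (Equiv.prodComm m l) = B ⊗ₖ A := by
  ext ⟨i, j⟩ ⟨i', j'⟩
  simp [Matrix.kroneckerMap_apply, mul_comm]

theorem rank_kron_swap (A : Matrix l l F) (B : Matrix m m F) (c : F) :
    (A ⊗ₖ B - c • 1).rank = (B ⊗ₖ A - c • 1).rank := by
  rw [← kron_swap A B]
  have h1 : (A ⊗ₖ B).submatrix (Equiv.prodComm m l) (Equiv.prodComm m l) - c • (1 : Matrix (m × l) (m × l) F) =
      (A ⊗ₖ B - c • 1).submatrix (Equiv.prodComm m l) (Equiv.prodComm m l) := by
    ext ⟨i, j⟩ ⟨i', j'⟩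
    simp [Matrix.one_apply, Prod.ext_iff, and_comm]
  rw [h1, Matrix.rank_submatrix]

/-- **non-scalar second factor**: the rank of `A ⊗ B - c` is at least the size of `A`. -/
theorem card_le_rank_of_not_scalar' (A : Matrix l l F) (B : Matrix m m F) (hB : ∀ z : F, B ≠ z • 1)
    (hA : IsUnit A.det) (c : F) : Fintype.card l ≤ (A ⊗ₖ B - c • 1).rank := by
  rw [rank_kron_swap]
  exact card_le_rank_of_not_scalar B A hB hA c

theorem rank_kron_one_sub (A : Matrix l l F) (c : F) :
    (A ⊗ₖ (1 : Matrix m m F) - c • 1).rank = Fintype.card m * (A - c • 1).rank := by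
  rw [rank_kron_swap]
  have := rank_scalar_kron_sub (l := m) (1 : F) A c
  rw [one_smul, one_smul] at this
  exact this

theorem rank_one_kron_sub (B : Matrix m m F) (c : F) :
    ((1 : Matrix l l F) ⊗ₖ B - c • 1).rank = Fintype.card l * (B - c • 1).rank := by
  have := rank_scalar_kron_sub (l := l) (1 : F) B c
  rw [one_smul, one_smul] at this
  exact this

/-- **a first factor with a cyclic vector of length three**: the rank of `A ⊗ B - c` is at least twice the size
of `B`. -/
theorem two_card_le_rank (A : Matrix l l F) (B : Matrix m m F) (v : l → F)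
    (hv : ∀ α β γ : F, α • v + β • (A *ᵥ v) + γ • (A *ᵥ (A *ᵥ v)) = 0 → α = 0 ∧ β = 0 ∧ γ = 0)
    (hB : IsUnit B.det) (c : F) : 2 * Fintype.card m ≤ (A ⊗ₖ B - c • 1).rank := by
  classical
  let ten : (l → F) → (m → F) →ₗ[F] (l × m → F) := fun v =>
    { toFun := fun w k => v k.1 * w k.2
      map_add' := by intro w w'; funext k; simp [mul_add]
      map_smul' := by intro t w; funext k; simp [mul_left_comm] }
  let φ : ((m → F) × (m → F)) →ₗ[F] (l × m → F) :=
    (Matrix.mulVecLin (A ⊗ₖ B - c • 1)).comp ((ten v).coprod (ten (A *ᵥ v)))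
  have hφ : ∀ w w', φ (w, w') = fun k : l × m =>
      ((A *ᵥ v) k.1 * (B *ᵥ w) k.2 - c * (v k.1 * w k.2)) +
        ((A *ᵥ (A *ᵥ v)) k.1 * (B *ᵥ w') k.2 - c * ((A *ᵥ v) k.1 * w' k.2)) := by
    intro w w'
    show (A ⊗ₖ B - c • 1) *ᵥ ((fun k : l × m => v k.1 * w k.2) + (fun k : l × m => (A *ᵥ v) k.1 * w' k.2)) = _
    rw [Matrix.mulVec_add, Matrix.sub_mulVec, Matrix.sub_mulVec, kron_mulVec_tensor, kron_mulVec_tensor,
      Matrix.smul_mulVec, Matrix.smul_mulVec, Matrix.one_mulVec, Matrix.one_mulVec]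
    rfl
  have hinjB := Matrix.mulVec_injective_iff_isUnit.mpr ((Matrix.isUnit_iff_isUnit_det B).mpr hB)
  have hinj : Function.Injective φ := by
    rw [← LinearMap.ker_eq_bot, LinearMap.ker_eq_bot']
    rintro ⟨w, w'⟩ hw
    rw [hφ] at hw
    have hrow : ∀ j, (-(c * w j)) = 0 ∧ ((B *ᵥ w) j - c * w' j) = 0 ∧ (B *ᵥ w') j = 0 := by
      intro j
      apply hv
      funext i
      have := congrFun hw (i, j)
      simp only [Pi.add_apply, Pi.smul_apply, smul_eq_mul, Pi.zero_apply] at this ⊢
      linear_combination this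
    have hw' : w' = 0 := by
      apply hinjB
      rw [Matrix.mulVec_zero]
      funext j
      exact (hrow j).2.2
    have hw0 : w = 0 := by
      apply hinjB
      rw [Matrix.mulVec_zero]
      funext j
      have := (hrow j).2.1
      rw [hw'] at this
      simpa using this
    rw [hw0, hw']
    rfl
  have hle : LinearMap.range φ ≤ LinearMap.range (Matrix.mulVecLin (A ⊗ₖ B - c • 1)) :=
    LinearMap.range_comp_le_range _ _
  have h1 := Submodule.finrank_mono hle
  rw [LinearMap.finrank_range_of_inj hinj, Module.finrank_prod, Module.finrank_fintype_fun_eq_card] at h1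
  unfold Matrix.rank
  omega

end Cfsg.Agent.Helper7.TnSp
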