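import Mathlib
import Cfsg.Agent.Helper7.TnSpC
import Cfsg.Agent.Helper7.SpOrdM
import Cfsg.Agent.Helper7.OrTSA

set_option autoImplicit false
set_option linter.unusedSectionVars false
set_option linter.unusedVariables false

/-!
# Isometries of odd prime order: the moved space, roots of scalars, cyclic vectors
-/

namespace Cfsg.Agent.Helper7.TnSp

open Matrix Module Polynomial Cfsg.Agent.Helper7.Tn Cfsg.Agent.Helper7.POrd Cfsg.Agent.Helper7.SpOrd
  Cfsg.Agent.Helper7.OrTS

section gen

variable {F : Type*} [Field F] {V : Type*} [AddCommGroup V] [Module F V]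

/-- a vector killed by an irreducible polynomial in `T` is killed by no nonzero polynomial of smaller degree. -/
theorem eq_zero_of_aeval_of_degree_lt {T : Module.End F V} {g : F[X]} (hg : Irreducible g) {v : V} (hv : v ≠ 0)
    (hgv : aeval T g v = 0) (h : F[X]) (hdeg : h.natDegree < g.natDegree) (hh : aeval T h v = 0) : h = 0 := by
  by_contra hne
  have hnd : ¬ g ∣ h := by
    intro hd
    exact hne (Polynomial.eq_zero_of_dvd_of_natDegree_lt hd hdeg)
  obtain ⟨s, t, hst⟩ := (Irreducible.coprime_iff_not_dvd hg).mpr hnd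
  apply hv
  have h1 : aeval T (s * g + t * h) v = v := by rw [hst, map_one, Module.End.one_apply]
  rw [map_add, map_mul, map_mul, LinearMap.add_apply, Module.End.mul_apply, Module.End.mul_apply, hgv, hh,
    map_zero, map_zero, add_zero] at h1
  exact h1.symm

/-- the first three iterates of such a vector are independent when the degree is at least three. -/
theorem indep_three_of_irred {T : Module.End F V} {g : F[X]} (hg : Irreducible g) (hdeg : 3 ≤ g.natDegree) {v : V}
    (hv : v ≠ 0) (hgv : aeval T g v = 0) (α β γ : F) (h : α • v + β • T v + γ • T (T v) = 0) :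
    α = 0 ∧ β = 0 ∧ γ = 0 := by
  have hh : aeval T (C α + C β * X + C γ * X ^ 2) v = 0 := by
    rw [map_add, map_add, map_mul, map_mul, aeval_C, aeval_C, aeval_C, aeval_X, map_pow, aeval_X]
    simp only [LinearMap.add_apply, Module.End.mul_apply, Module.algebraMap_end_apply, pow_two]
    exact h
  have hd : (C α + C β * X + C γ * X ^ 2 : F[X]).natDegree < g.natDegree := by
    have h1 : (C α + C β * X + C γ * X ^ 2 : F[X]).natDegree ≤ 2 := by
      have e : (C α + C β * X + C γ * X ^ 2 : F[X]) = C γ * X ^ 2 + C β * X + C α := by ring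
      rw [e]
      exact Polynomial.natDegree_quadratic_le
    omega
  have h0 := eq_zero_of_aeval_of_degree_lt hg hv hgv _ hd hh
  have c0 := congrArg (fun f : F[X] => f.coeff 0) h0
  have c1 := congrArg (fun f : F[X] => f.coeff 1) h0
  have c2 := congrArg (fun f : F[X] => f.coeff 2) h0
  simp at c0 c1 c2
  exact ⟨c0, c1, c2⟩

theorem sim_pow {κ : Type*} [Fintype κ] [DecidableEq κ] (f : (κ → F) → (κ → F) → F) (A : Matrix κ κ F) (ν : F)
    (h : ∀ u v, f (A *ᵥ u) (A *ᵥ v) = ν * f u v) (n : ℕ) (u v : κ → F) :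
    f ((A ^ n) *ᵥ u) ((A ^ n) *ᵥ v) = ν ^ n * f u v := by
  induction n generalizing u v with
  | zero => simp
  | succ n ih =>
    rw [pow_succ, ← Matrix.mulVec_mulVec, ← Matrix.mulVec_mulVec, ih, h, pow_succ, mul_assoc]

end gen

section fin

variable {F : Type*} [Field F] [Fintype F] {V : Type*} [AddCommGroup V] [Module F V] [Finite V]
  {p : ℕ} [Fact p.Prime] [CharP F p] {r : ℕ} [Fact r.Prime]

theorem coprime_card_units (hi1 : orderOf ((Fintype.card F : ℕ) : ZMod r) ≠ 1) :
    (Nat.card Fˣ).Coprime r := by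
  classical
  have hr : r.Prime := Fact.out
  rw [Nat.card_eq_fintype_card, Fintype.card_units, Nat.coprime_comm, hr.coprime_iff_not_dvd]
  intro h
  exact hi1 ((orderOf_eq_one_iff_dvd Fintype.card_pos).mpr h)

/-- `r`-th roots, when `r` does not divide `q - 1`. -/
theorem exists_pow_eq (hi1 : orderOf ((Fintype.card F : ℕ) : ZMod r) ≠ 1) {s : F} (hs : s ≠ 0) :
    ∃ κ : F, κ ≠ 0 ∧ κ ^ r = s := by
  obtain ⟨κ, hκ⟩ := (powCoprime (coprime_card_units (F := F) hi1)).surjective (Units.mk0 s hs)
  refine ⟨(κ : F), κ.ne_zero, ?_⟩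
  have := congrArg (fun u : Fˣ => (u : F)) hκ
  simpa using this

/-- no `r`-th roots of unity, when `r` does not divide `q - 1`. -/
theorem eq_one_of_pow_eq_one (hi1 : orderOf ((Fintype.card F : ℕ) : ZMod r) ≠ 1) {ν : F} (hν : ν ^ r = 1) :
    ν = 1 := by
  have hν0 : ν ≠ 0 := by
    intro h
    rw [h, zero_pow (Fact.out : r.Prime).ne_zero] at hν
    exact zero_ne_one hν
  have h1 : powCoprime (coprime_card_units (F := F) hi1) (Units.mk0 ν hν0) =
      powCoprime (coprime_card_units (F := F) hi1) 1 := by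
    apply Units.ext
    simp [hν]
  have := (powCoprime (coprime_card_units (F := F) hi1)).injective h1
  have := congrArg (fun u : Fˣ => (u : F)) this
  simpa using this

/-- the moved space of an isometry of odd prime order of a nondegenerate alternating space. -/
theorem cOf_dvd_mov_alt (hr2 : r ≠ 2) (hrp : r ≠ p) {B : LinearMap.BilinForm F V} (hB : B.IsAlt) (hND : ND B ⊤)
    {T : Module.End F V} (hiso : ∀ u v, B (T u) (T v) = B u v) (hT : T ^ r = 1) :
    cOf (orderOf ((Fintype.card F : ℕ) : ZMod r)) ∣ finrank F ↥(movS r T) := by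
  have hrF : (r : F) ≠ 0 := natCast_ne_zero_of_ne hrp
  have hmovnd : ND B (movS r T) := by
    have := nd_inf_mov hB.isRefl hiso hrF hT (Module.End.invtSubmodule.top_mem T) hND
    rwa [top_inf_eq] at this
  have hmovfix : movS r T ⊓ fixS T = ⊥ := by
    rw [inf_comm]
    exact (disjoint_fix_mov hrF T).eq_bot
  exact cOf_dvd_finrank hr2 hrp hB hiso hT _ _ rfl (movS_invt r T) hmovnd hmovfix

/-- the moved space of an isometry of odd prime order of a nondegenerate symmetric space. -/
theorem cOf_dvd_mov_symm (h2 : (2 : F) ≠ 0) (hr2 : r ≠ 2) (hrp : r ≠ p) {B : LinearMap.BilinForm F V}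
    (hB : B.IsSymm) (hND : ND B ⊤)
    {T : Module.End F V} (hiso : ∀ u v, B (T u) (T v) = B u v) (hT : T ^ r = 1) :
    cOf (orderOf ((Fintype.card F : ℕ) : ZMod r)) ∣ finrank F ↥(movS r T) := by
  have hrF : (r : F) ≠ 0 := natCast_ne_zero_of_ne hrp
  have hmovnd : ND B (movS r T) := by
    have := nd_inf_mov hB.isRefl hiso hrF hT (Module.End.invtSubmodule.top_mem T) hND
    rwa [top_inf_eq] at this
  have hmovfix : movS r T ⊓ fixS T = ⊥ := by
    rw [inf_comm]
    exact (disjoint_fix_mov hrF T).eq_bot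
  exact cOf_dvd_finrank_s h2 hr2 hrp hB hiso hT _ _ rfl (movS_invt r T) hmovnd hmovfix

/-- a nontrivial element of prime order `r` with `ord_r(q) ≥ 3` has a vector with three independent iterates. -/
theorem exists_indep_three (hrp : r ≠ p) (hi3 : 3 ≤ orderOf ((Fintype.card F : ℕ) : ZMod r))
    {T : Module.End F V} (hT : T ^ r = 1) (hT1 : T ≠ 1) :
    ∃ v : V, ∀ α β γ : F, α • v + β • T v + γ • T (T v) = 0 → α = 0 ∧ β = 0 ∧ γ = 0 := by
  have hrF : (r : F) ≠ 0 := natCast_ne_zero_of_ne hrp
  have hmovfix : movS r T ⊓ fixS T = ⊥ := by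
    rw [inf_comm]
    exact (disjoint_fix_mov hrF T).eq_bot
  have hne : movS r T ≠ ⊥ := by
    intro h
    apply hT1
    have hc := isCompl_fix_mov hrF hT
    rw [h] at hc
    have htop : fixS T = ⊤ := by
      have := hc.sup_eq_top
      rwa [sup_bot_eq] at this
    apply LinearMap.ext
    intro v
    have hv : v ∈ fixS T := by rw [htop]; trivial
    rw [Module.End.one_apply]
    exact mem_fixS.mp hv
  obtain ⟨g, hg, -, hdeg, v, -, hv0, hgv⟩ := exists_irred_vec hrp hT (movS_invt r T) hmovfix hne
  exact ⟨v, indep_three_of_irred hg (by omega) hv0 hgv⟩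

end fin

end Cfsg.Agent.Helper7.TnSp
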