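import Mathlib
import Cfsg.Agent.Helper7.TnSpD

set_option autoImplicit false
set_option linter.unusedSectionVars false
set_option linter.unusedVariables false

/-!
# A Kronecker product of similarities of odd prime order does not move a minimal block
-/

namespace Cfsg.Agent.Helper7.TnSp

open Matrix Module Polynomial Cfsg.Agent.Helper7.Tn Cfsg.Agent.Helper7.POrd Cfsg.Agent.Helper7.SpOrd
  Cfsg.Agent.Helper7.OrTS
open scoped Kronecker

section gen

variable {F : Type*} [Field F] {κ : Type*} [Fintype κ] [DecidableEq κ]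

theorem rank_sub_one_add_fix (M : Matrix κ κ F) :
    (M - 1).rank + finrank F ↥(fixS (Matrix.toLin' M)) = Fintype.card κ := by
  have h1 : Matrix.toLin' M - 1 = Matrix.toLin' (M - 1) := by rw [map_sub, Matrix.toLin'_one]; rfl
  unfold fixS Matrix.rank
  rw [h1, ← Matrix.toLin'_apply', LinearMap.finrank_range_add_finrank_ker, Module.finrank_fintype_fun_eq_card]

theorem toLin'_pow_mat (M : Matrix κ κ F) (n : ℕ) :
    (Matrix.toLin' M : Module.End F (κ → F)) ^ n = Matrix.toLin' (M ^ n) := by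
  induction n with
  | zero => rw [pow_zero, pow_zero, Matrix.toLin'_one]; rfl
  | succ n ih => rw [pow_succ, pow_succ, Matrix.toLin'_mul, ih]; rfl

theorem toLin'_eq_one_iff (M : Matrix κ κ F) : Matrix.toLin' M = (1 : Module.End F (κ → F)) ↔ M = 1 := by
  constructor
  · intro h
    apply Matrix.toLin'.injective
    rw [h, Matrix.toLin'_one]
    rfl
  · intro h
    rw [h, Matrix.toLin'_one]
    rfl

end gen

variable {F : Type*} [Field F] [Fintype F] {p : ℕ} [Fact p.Prime] [CharP F p] {r : ℕ} [Fact r.Prime]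

/-- the rank defect of an isometry of order `r` of an alternating space. -/
theorem cOf_dvd_rank_alt (hr2 : r ≠ 2) (hrp : r ≠ p) {a : ℕ} {f₁ : (Fin a → F) → (Fin a → F) → F}
    (hf₁ : Cfsg.Geo.IsSymplecticForm f₁) (A : Matrix (Fin a) (Fin a) F)
    (hiso : ∀ u v, f₁ (A *ᵥ u) (A *ᵥ v) = f₁ u v) (hA : A ^ r = 1) :
    cOf (orderOf ((Fintype.card F : ℕ) : ZMod r)) ∣ (A - 1).rank := by
  have hrF : (r : F) ≠ 0 := natCast_ne_zero_of_ne hrp
  have hT : (Matrix.toLin' A : Module.End F (Fin a → F)) ^ r = 1 := by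
    rw [toLin'_pow_mat, hA, Matrix.toLin'_one]; rfl
  have hAlt : (toBF f₁ hf₁.bilinear).IsAlt := fun v => hf₁.alternating v
  have hND : ND (toBF f₁ hf₁.bilinear) ⊤ := by
    intro u _ hu
    obtain ⟨-, x, hx⟩ := hf₁.nondegenerate u hu
    exact ⟨x, trivial, hx⟩
  have h1 := cOf_dvd_mov_alt hr2 hrp hAlt hND (T := Matrix.toLin' A)
    (fun u v => by rw [toBF_apply, toBF_apply, Matrix.toLin'_apply, Matrix.toLin'_apply]; exact hiso u v) hT
  have h2 := rank_sub_one_add_fix A
  have h3 := finrank_fix_add_mov hrF hT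
  rw [Module.finrank_fintype_fun_eq_card] at h3
  have h4 : (A - 1).rank = finrank F ↥(movS r (Matrix.toLin' A : Module.End F (Fin a → F))) := by omega
  rw [h4]
  exact h1

/-- the rank defect of an isometry of order `r` of a symmetric space. -/
theorem cOf_dvd_rank_symm (h2 : (2 : F) ≠ 0) (hr2 : r ≠ 2) (hrp : r ≠ p) {b : ℕ}
    {f₂ : (Fin b → F) → (Fin b → F) → F}
    (hf₂ : Cfsg.Geo.IsSymmetricForm f₂) (B : Matrix (Fin b) (Fin b) F)
    (hiso : ∀ u v, f₂ (B *ᵥ u) (B *ᵥ v) = f₂ u v) (hB : B ^ r = 1) :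
    cOf (orderOf ((Fintype.card F : ℕ) : ZMod r)) ∣ (B - 1).rank := by
  have hrF : (r : F) ≠ 0 := natCast_ne_zero_of_ne hrp
  have hT : (Matrix.toLin' B : Module.End F (Fin b → F)) ^ r = 1 := by
    rw [toLin'_pow_mat, hB, Matrix.toLin'_one]; rfl
  have hSymm : (toBF f₂ hf₂.bilinear).IsSymm := ⟨fun u v => hf₂.symm u v⟩
  have hND : ND (toBF f₂ hf₂.bilinear) ⊤ := by
    intro u _ hu
    obtain ⟨-, x, hx⟩ := hf₂.nondegenerate u hu
    exact ⟨x, trivial, hx⟩
  have h1 := cOf_dvd_mov_symm h2 hr2 hrp hSymm hND (T := Matrix.toLin' B)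
    (fun u v => by rw [toBF_apply, toBF_apply, Matrix.toLin'_apply, Matrix.toLin'_apply]; exact hiso u v) hT
  have h2' := rank_sub_one_add_fix B
  have h3 := finrank_fix_add_mov hrF hT
  rw [Module.finrank_fintype_fun_eq_card] at h3
  have h4 : (B - 1).rank = finrank F ↥(movS r (Matrix.toLin' B : Module.End F (Fin b → F))) := by omega
  rw [h4]
  exact h1

end Cfsg.Agent.Helper7.TnSp
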