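import Mathlib
import Cfsg.Agent.Helper7.TnSpE
import Cfsg.Agent.Helper7.TnB

set_option autoImplicit false
set_option linter.unusedSectionVars false
set_option linter.unusedVariables false

/-!
# A Kronecker product of similarities of odd prime order does not move a minimal block: the main lemma
-/

namespace Cfsg.Agent.Helper7.TnSp

open Matrix Module Polynomial Cfsg.Agent.Helper7.Tn Cfsg.Agent.Helper7.POrd Cfsg.Agent.Helper7.SpOrd
  Cfsg.Agent.Helper7.OrTS
open scoped Kronecker

variable {F : Type*} [Field F] [Fintype F] {p : ℕ} [Fact p.Prime] [CharP F p] {r : ℕ} [Fact r.Prime]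

/-- the isometric case. -/
theorem no_kron_iso (hr2 : r ≠ 2) (hrp : r ≠ p) (h2 : (2 : F) ≠ 0)
    (hi1 : orderOf ((Fintype.card F : ℕ) : ZMod r) ≠ 1) {a b : ℕ} (ha : 2 ≤ a) (hb : 3 ≤ b)
    {f₁ : (Fin a → F) → (Fin a → F) → F} {f₂ : (Fin b → F) → (Fin b → F) → F}
    (hf₁ : Cfsg.Geo.IsSymplecticForm f₁) (hf₂ : Cfsg.Geo.IsSymmetricForm f₂)
    (A : Matrix (Fin a) (Fin a) F) (B : Matrix (Fin b) (Fin b) F)
    (hisoA : ∀ u v, f₁ (A *ᵥ u) (A *ᵥ v) = f₁ u v) (hisoB : ∀ u v, f₂ (B *ᵥ u) (B *ᵥ v) = f₂ u v)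
    (hAr : A ^ r = 1) (hBr : B ^ r = 1)
    (hrank : (A ⊗ₖ B - (1 : F) • 1).rank = cOf (orderOf ((Fintype.card F : ℕ) : ZMod r))) : False := by
  have hr : r.Prime := Fact.out
  have hipos := orderOf_q_pos (F := F) hrp
  have hcpos := cOf_pos hipos
  have hdA := cOf_dvd_rank_alt hr2 hrp hf₁ A hisoA hAr
  have hdB := cOf_dvd_rank_symm h2 hr2 hrp hf₂ B hisoB hBr
  have hdetA : IsUnit A.det := by
    have : A.det ^ r = 1 := by rw [← Matrix.det_pow, hAr, Matrix.det_one]
    exact IsUnit.of_pow_eq_one this hr.ne_zero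
  have hdetB : IsUnit B.det := by
    have : B.det ^ r = 1 := by rw [← Matrix.det_pow, hBr, Matrix.det_one]
    exact IsUnit.of_pow_eq_one this hr.ne_zero
  have hscalA : (∃ z : F, A = z • 1) → A = 1 := by
    rintro ⟨z, hz⟩
    have h1 : z ^ r = 1 := by
      have h3 : (z ^ r) • (1 : Matrix (Fin a) (Fin a) F) = 1 := by
        have := hAr
        rw [hz, _root_.smul_pow, one_pow] at this
        exact this
      have h4 := congrFun (congrFun h3 ⟨0, by omega⟩) ⟨0, by omega⟩
      simpa using h4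
    rw [hz, eq_one_of_pow_eq_one hi1 h1, one_smul]
  have hscalB : (∃ z : F, B = z • 1) → B = 1 := by
    rintro ⟨z, hz⟩
    have h1 : z ^ r = 1 := by
      have h3 : (z ^ r) • (1 : Matrix (Fin b) (Fin b) F) = 1 := by
        have := hBr
        rw [hz, _root_.smul_pow, one_pow] at this
        exact this
      have h4 := congrFun (congrFun h3 ⟨0, by omega⟩) ⟨0, by omega⟩
      simpa using h4
    rw [hz, eq_one_of_pow_eq_one hi1 h1, one_smul]
  by_cases hA1 : A = 1
  · -- `A = 1`
    rw [hA1, rank_one_kron_sub, Fintype.card_fin, one_smul] at hrank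
    obtain ⟨t, ht⟩ := hdB
    rw [ht] at hrank
    have ht0 : t ≠ 0 := by
      rintro rfl
      rw [mul_zero, mul_zero] at hrank
      omega
    have : cOf (orderOf ((Fintype.card F : ℕ) : ZMod r)) * (a * t) =
        cOf (orderOf ((Fintype.card F : ℕ) : ZMod r)) * 1 := by
      rw [mul_one]
      calc _ = a * (cOf (orderOf ((Fintype.card F : ℕ) : ZMod r)) * t) := by ring
        _ = _ := hrank
    have h5 := Nat.eq_of_mul_eq_mul_left hcpos this
    have : 2 * 1 ≤ a * t := Nat.mul_le_mul ha (Nat.one_le_iff_ne_zero.mpr ht0)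
    omega
  have hAns : ∀ z : F, A ≠ z • 1 := fun z hz => hA1 (hscalA ⟨z, hz⟩)
  by_cases hB1 : B = 1
  · rw [hB1, rank_kron_one_sub, Fintype.card_fin, one_smul] at hrank
    obtain ⟨t, ht⟩ := hdA
    rw [ht] at hrank
    have ht0 : t ≠ 0 := by
      rintro rfl
      rw [mul_zero, mul_zero] at hrank
      omega
    have : cOf (orderOf ((Fintype.card F : ℕ) : ZMod r)) * (b * t) =
        cOf (orderOf ((Fintype.card F : ℕ) : ZMod r)) * 1 := by
      rw [mul_one]
      calc _ = b * (cOf (orderOf ((Fintype.card F : ℕ) : ZMod r)) * t) := by ring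
        _ = _ := hrank
    have h5 := Nat.eq_of_mul_eq_mul_left hcpos this
    have : 3 * 1 ≤ b * t := Nat.mul_le_mul hb (Nat.one_le_iff_ne_zero.mpr ht0)
    omega
  -- both factors are nontrivial
  have hBrank : (B - 1).rank ≠ 0 := by
    intro h0
    apply hB1
    have := eq_zero_of_rank_eq_zero _ h0
    exact sub_eq_zero.mp this
  have hcb : cOf (orderOf ((Fintype.card F : ℕ) : ZMod r)) ≤ b := by
    have h1 := Nat.le_of_dvd (Nat.pos_of_ne_zero hBrank) hdB
    have h3 := Matrix.rank_le_card_width (B - 1)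
    rw [Fintype.card_fin] at h3
    omega
  have hlow := card_le_rank_of_not_scalar A B hAns hdetB (1 : F)
  rw [Fintype.card_fin, hrank] at hlow
  by_cases hi3 : 3 ≤ orderOf ((Fintype.card F : ℕ) : ZMod r)
  · have hT : (Matrix.toLin' A : Module.End F (Fin a → F)) ^ r = 1 := by
      rw [toLin'_pow_mat, hAr, Matrix.toLin'_one]; rfl
    have hT1 : (Matrix.toLin' A : Module.End F (Fin a → F)) ≠ 1 := fun h => hA1 ((toLin'_eq_one_iff A).mp h)
    obtain ⟨v, hv⟩ := exists_indep_three hrp hi3 hT hT1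
    have h3 := two_card_le_rank A B v (fun α β γ h => hv α β γ (by
      rw [Matrix.toLin'_apply, Matrix.toLin'_apply]; exact h)) hdetB (1 : F)
    rw [Fintype.card_fin, hrank] at h3
    omega
  · have hi2 : orderOf ((Fintype.card F : ℕ) : ZMod r) = 2 := by omega
    rw [hi2] at hlow
    unfold cOf at hlow
    rw [if_pos (by decide)] at hlow
    omega

end Cfsg.Agent.Helper7.TnSp
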