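import Mathlib
import Cfsg.Agent.Helper7.TnSpF

set_option autoImplicit false
set_option linter.unusedSectionVars false
set_option linter.unusedVariables false

/-!
# Normalizing a Kronecker product of similarities of order `r` to a Kronecker product of isometries
-/

namespace Cfsg.Agent.Helper7.TnSp

open Matrix Module Polynomial Cfsg.Agent.Helper7.Tn Cfsg.Agent.Helper7.POrd Cfsg.Agent.Helper7.SpOrd
  Cfsg.Agent.Helper7.OrTS
open scoped Kronecker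

variable {F : Type*} [Field F] [Fintype F] {p : ℕ} [Fact p.Prime] [CharP F p] {r : ℕ} [Fact r.Prime]

theorem no_kron_sim (hr2 : r ≠ 2) (hrp : r ≠ p) (h2 : (2 : F) ≠ 0)
    (hi1 : orderOf ((Fintype.card F : ℕ) : ZMod r) ≠ 1) {a b : ℕ} (ha : 2 ≤ a) (hb : 3 ≤ b)
    {f₁ : (Fin a → F) → (Fin a → F) → F} {f₂ : (Fin b → F) → (Fin b → F) → F}
    (hf₁ : Cfsg.Geo.IsSymplecticForm f₁) (hf₂ : Cfsg.Geo.IsSymmetricForm f₂)
    (A : Matrix (Fin a) (Fin a) F) (B : Matrix (Fin b) (Fin b) F) {ν : F} (hν : ν ≠ 0)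
    (hsA : ∀ u v, f₁ (A *ᵥ u) (A *ᵥ v) = ν * f₁ u v) (hsB : ∀ u v, f₂ (B *ᵥ u) (B *ᵥ v) = ν⁻¹ * f₂ u v)
    (hpow : (A ⊗ₖ B) ^ r = 1)
    (hrank : (A ⊗ₖ B - (1 : F) • 1).rank = cOf (orderOf ((Fintype.card F : ℕ) : ZMod r))) : False := by
  have hr : r.Prime := Fact.out
  haveI : Nonempty (Fin a) := ⟨⟨0, by omega⟩⟩
  haveI : Nonempty (Fin b) := ⟨⟨0, by omega⟩⟩
  have h1 : (A ^ r) ⊗ₖ (B ^ r) = 1 := by rw [← kron_pow]; exact hpow
  obtain ⟨s, hs⟩ := scalar_of_kron_eq_one (A ^ r) (B ^ r) h1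
  have hone : (1 : Matrix (Fin a × Fin b) (Fin a × Fin b) F) ≠ 0 := one_ne_zero
  have hs0 : s ≠ 0 := by
    intro h
    rw [h, zero_smul] at hs
    rw [hs, Matrix.zero_kronecker] at h1
    exact hone h1.symm
  have hBr : B ^ r = s⁻¹ • 1 := by
    rw [hs, Matrix.smul_kronecker, ← Matrix.kronecker_smul] at h1
    have h3 := eq_one_of_one_kron_eq_one (l := Fin a) (s • B ^ r) h1
    rw [← h3, smul_smul, inv_mul_cancel₀ hs0, one_smul]
  obtain ⟨κ, hκ0, hκ⟩ := exists_pow_eq hi1 (inv_ne_zero hs0)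
  -- the normalized factors
  have hA' : (κ • A) ^ r = 1 := by
    rw [_root_.smul_pow, hκ, hs, smul_smul, inv_mul_cancel₀ hs0, one_smul]
  have hB' : (κ⁻¹ • B) ^ r = 1 := by
    rw [_root_.smul_pow, inv_pow, hκ, inv_inv, hBr, smul_smul, mul_inv_cancel₀ hs0, one_smul]
  have hkron : (κ • A) ⊗ₖ (κ⁻¹ • B) = A ⊗ₖ B := by
    rw [Matrix.smul_kronecker, Matrix.kronecker_smul, smul_smul, mul_inv_cancel₀ hκ0, one_smul]
  have hsA' : ∀ u v, f₁ ((κ • A) *ᵥ u) ((κ • A) *ᵥ v) = (κ ^ 2 * ν) * f₁ u v := by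
    intro u v
    rw [Matrix.smul_mulVec, Matrix.smul_mulVec, hf₁.bilinear.smul_left, hf₁.bilinear.smul_right, hsA]
    ring
  have hsB' : ∀ u v, f₂ ((κ⁻¹ • B) *ᵥ u) ((κ⁻¹ • B) *ᵥ v) = (κ ^ 2 * ν)⁻¹ * f₂ u v := by
    intro u v
    rw [Matrix.smul_mulVec, Matrix.smul_mulVec, hf₂.bilinear.smul_left, hf₂.bilinear.smul_right, hsB]
    field_simp
  -- the multiplier is one
  have hmul : κ ^ 2 * ν = 1 := by
    apply eq_one_of_pow_eq_one hi1
    have hv : (Pi.single (⟨0, by omega⟩ : Fin a) 1 : Fin a → F) ≠ 0 := by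
      intro h
      have := congrFun h ⟨0, by omega⟩
      simp at this
    obtain ⟨-, x, hx⟩ := hf₁.nondegenerate _ hv
    have h3 := sim_pow f₁ (κ • A) (κ ^ 2 * ν) hsA' r (Pi.single (⟨0, by omega⟩ : Fin a) 1) x
    rw [hA', Matrix.one_mulVec, Matrix.one_mulVec] at h3
    have h4 : ((κ ^ 2 * ν) ^ r - 1) * f₁ (Pi.single (⟨0, by omega⟩ : Fin a) 1) x = 0 := by
      linear_combination -h3
    rcases mul_eq_zero.mp h4 with h | h
    · exact sub_eq_zero.mp h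
    · exact absurd h hx
  rw [← hkron] at hrank
  exact no_kron_iso hr2 hrp h2 hi1 ha hb hf₁ hf₂ (κ • A) (κ⁻¹ • B)
    (fun u v => by rw [hsA' u v, hmul, one_mul])
    (fun u v => by rw [hsB' u v, hmul, inv_one, one_mul]) hA' hB' hrank

end Cfsg.Agent.Helper7.TnSp
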