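import Mathlib
import Cfsg.Prelude.Def_ClassicalGeometry
import Cfsg.Agent.Helper7.TnSpG
import Cfsg.Agent.Helper7.SympTransitive

set_option autoImplicit false
set_option linter.unusedSectionVars false
set_option linter.unusedVariables false

/-!
# Symplectic elements that are not conjugate into the stabilizer of a tensor decomposition `Sp ⊗ O`
-/

namespace Cfsg.Agent.Helper7.TnSp

open Matrix Module Polynomial Cfsg.Agent.Helper7.Tn Cfsg.Agent.Helper7.POrd Cfsg.Agent.Helper7.SpOrd
  Cfsg.Agent.Helper7.OrTS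
open scoped Kronecker

section gen

variable {F : Type*} [Field F] {ι : Type} [Fintype ι] [DecidableEq ι]

/-- **the rank criterion**, for a general index type. -/
theorem not_conj_mem_of_rank {a b : ℕ} (e : ι ≃ Fin a × Fin b) (P x g : GL ι F) {c c' : F}
    (h1 : ((x : Matrix ι ι F) - c • 1).rank < b) (h2 : ¬ a ∣ ((x : Matrix ι ι F) - c' • 1).rank) :
    g⁻¹ * x * g ∉ Cfsg.Geo.tensorProductSubgroup a b e P := by
  intro h
  obtain ⟨A, B, hint⟩ := kron_data_of_conj_mem e P x g h
  have hrank := rank_sub_eq_of_intertwine (coord e (g * P)) (x : Matrix ι ι F) _ hint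
  by_cases hA : ∃ s : F, (A : Matrix (Fin a) (Fin a) F) = s • 1
  · obtain ⟨s, hs⟩ := hA
    apply h2
    rw [hrank, hs, rank_scalar_kron_sub, Fintype.card_fin]
    exact Dvd.intro _ rfl
  · push Not at hA
    have h3 := card_le_rank_of_not_scalar (A : Matrix (Fin a) (Fin a) F) (B : Matrix (Fin b) (Fin b) F) hA
      ((Matrix.isUnit_iff_isUnit_det _).mp (Units.isUnit _)) c
    rw [Fintype.card_fin, ← hrank] at h3
    omega

end gen

section symp

variable {F : Type*} [Field F] {d : ℕ}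

theorem sympForm_expand (x y : Fin d ⊕ Fin d → F) :
    Cfsg.sympForm d F x y = ∑ i : Fin d, (x (.inr i) * y (.inl i) - x (.inl i) * y (.inr i)) := by
  unfold Cfsg.sympForm
  rw [dotProduct, Fintype.sum_sum_type]
  have h1 : ∀ i : Fin d, (J (Fin d) F *ᵥ y) (Sum.inl i) = - y (Sum.inr i) := by
    intro i
    simp [J, Matrix.mulVec, dotProduct, Fintype.sum_sum_type, Matrix.one_apply]
  have h2 : ∀ i : Fin d, (J (Fin d) F *ᵥ y) (Sum.inr i) = y (Sum.inl i) := by
    intro i
    simp [J, Matrix.mulVec, dotProduct, Fintype.sum_sum_type, Matrix.one_apply]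
  simp only [h1, h2]
  rw [← Finset.sum_add_distrib]
  apply Finset.sum_congr rfl
  intro i _
  ring

/-- the diagonal entries of the torus element `diag(λ, 1, …, 1; λ⁻¹, 1, …, 1)`. -/
def torusEntries (hd : 1 ≤ d) (lam : F) : Fin d ⊕ Fin d → F :=
  Sum.elim (fun i => if i = ⟨0, hd⟩ then lam else 1) (fun i => if i = ⟨0, hd⟩ then lam⁻¹ else 1)

theorem torusEntries_mul (hd : 1 ≤ d) {lam : F} (hl : lam ≠ 0) (i : Fin d) :
    torusEntries hd lam (.inl i) * torusEntries hd lam (.inr i) = 1 := by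
  unfold torusEntries
  simp only [Sum.elim_inl, Sum.elim_inr]
  split_ifs
  · exact mul_inv_cancel₀ hl
  · exact one_mul 1

theorem torusEntries_ne_zero (hd : 1 ≤ d) {lam : F} (hl : lam ≠ 0) (k : Fin d ⊕ Fin d) :
    torusEntries hd lam k ≠ 0 := by
  rcases k with i | i
  · exact left_ne_zero_of_mul_eq_one (torusEntries_mul hd hl i)
  · exact right_ne_zero_of_mul_eq_one (torusEntries_mul hd hl i)

/-- the torus element. -/
noncomputable def torusGL (hd : 1 ≤ d) {lam : F} (hl : lam ≠ 0) : GL (Fin d ⊕ Fin d) F :=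
  Matrix.GeneralLinearGroup.mkOfDetNeZero (Matrix.diagonal (torusEntries hd lam)) (by
    rw [Matrix.det_diagonal]
    exact Finset.prod_ne_zero_iff.mpr (fun k _ => torusEntries_ne_zero hd hl k))

theorem torusGL_val (hd : 1 ≤ d) {lam : F} (hl : lam ≠ 0) :
    ((torusGL hd hl : GL (Fin d ⊕ Fin d) F) : Matrix (Fin d ⊕ Fin d) (Fin d ⊕ Fin d) F) =
      Matrix.diagonal (torusEntries hd lam) := rfl

theorem torusGL_mem (hd : 1 ≤ d) {lam : F} (hl : lam ≠ 0) : torusGL hd hl ∈ Cfsg.spGL d F := by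
  show ∀ u v, Cfsg.sympForm d F
    (((torusGL hd hl : GL (Fin d ⊕ Fin d) F) : Matrix (Fin d ⊕ Fin d) (Fin d ⊕ Fin d) F) *ᵥ u)
    (((torusGL hd hl : GL (Fin d ⊕ Fin d) F) : Matrix (Fin d ⊕ Fin d) (Fin d ⊕ Fin d) F) *ᵥ v) =
    Cfsg.sympForm d F u v
  intro u v
  rw [torusGL_val, sympForm_expand, sympForm_expand]
  apply Finset.sum_congr rfl
  intro i _
  rw [Matrix.mulVec_diagonal, Matrix.mulVec_diagonal, Matrix.mulVec_diagonal, Matrix.mulVec_diagonal]
  have := torusEntries_mul hd hl i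
  linear_combination (u (.inr i) * v (.inl i) - u (.inl i) * v (.inr i)) * this

theorem torusGL_pow (hd : 1 ≤ d) {lam : F} (hl : lam ≠ 0) {r : ℕ} (hr : lam ^ r = 1) :
    ((torusGL hd hl ^ r : GL (Fin d ⊕ Fin d) F) : Matrix (Fin d ⊕ Fin d) (Fin d ⊕ Fin d) F) = (1 : F) • 1 := by
  rw [Units.val_pow_eq_pow_val, torusGL_val, Matrix.diagonal_pow, one_smul, ← Matrix.diagonal_one]
  congr 1
  funext k
  rcases k with i | i
  · simp only [Pi.pow_apply, Pi.one_apply, torusEntries, Sum.elim_inl]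
    split_ifs
    · exact hr
    · exact one_pow r
  · simp only [Pi.pow_apply, Pi.one_apply, torusEntries, Sum.elim_inr]
    split_ifs
    · rw [inv_pow, hr, inv_one]
    · exact one_pow r

theorem torusGL_not_scalar (hd : 2 ≤ d) {lam : F} (hl : lam ≠ 0) (hl1 : lam ≠ 1) (z : F) :
    ((torusGL (by omega : 1 ≤ d) hl : GL (Fin d ⊕ Fin d) F) : Matrix (Fin d ⊕ Fin d) (Fin d ⊕ Fin d) F) ≠
      z • 1 := by
  intro h
  rw [torusGL_val] at h
  have h0 := congrFun (congrFun h (.inl ⟨0, by omega⟩)) (.inl ⟨0, by omega⟩)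
  have h1 := congrFun (congrFun h (.inl ⟨1, by omega⟩)) (.inl ⟨1, by omega⟩)
  simp [torusEntries, Fin.ext_iff] at h0 h1
  exact hl1 (h0.trans h1.symm)

/-- the rank defects of the torus element. -/
theorem torusGL_rank_sub_one (hd : 1 ≤ d) {lam : F} (hl : lam ≠ 0) (hl1 : lam ≠ 1) :
    (((torusGL hd hl : GL (Fin d ⊕ Fin d) F) : Matrix (Fin d ⊕ Fin d) (Fin d ⊕ Fin d) F) - (1 : F) • 1).rank
      = 2 := by
  classical
  rw [torusGL_val, one_smul, ← Matrix.diagonal_one,
    show Matrix.diagonal (torusEntries hd lam) - Matrix.diagonal (fun _ => (1 : F)) =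
      Matrix.diagonal (torusEntries hd lam - 1) from
        (Matrix.diagonal_sub (torusEntries hd lam) (fun _ => (1 : F))), Matrix.rank_diagonal]
  have hl1' : lam⁻¹ ≠ 1 := fun h => hl1 (inv_eq_one.mp h)
  have : ∀ k : Fin d ⊕ Fin d, (torusEntries hd lam k - 1 ≠ 0) ↔
      k ∈ ({Sum.inl ⟨0, hd⟩, Sum.inr ⟨0, hd⟩} : Finset (Fin d ⊕ Fin d)) := by
    intro k
    rcases k with i | i
    · simp only [torusEntries, Sum.elim_inl, Finset.mem_insert, Finset.mem_singleton, Sum.inl.injEq, reduceCtorEq,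
        or_false]
      split_ifs with h
      · simp [sub_ne_zero, hl1, h]
      · simp [h]
    · simp only [torusEntries, Sum.elim_inr, Finset.mem_insert, Finset.mem_singleton, Sum.inr.injEq, reduceCtorEq,
        false_or]
      split_ifs with h
      · simp [sub_ne_zero, hl1', h]
      · simp [h]
  rw [Fintype.card_subtype]
  have h2 : (Finset.univ.filter fun k : Fin d ⊕ Fin d => (torusEntries hd lam - 1) k ≠ 0) =
      {Sum.inl ⟨0, hd⟩, Sum.inr ⟨0, hd⟩} := by
    ext k
    rw [Finset.mem_filter, Pi.sub_apply, Pi.one_apply, this]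
    simp
  rw [h2]
  rfl

theorem torusGL_rank_sub_self (hd : 1 ≤ d) {lam : F} (hl : lam ≠ 0) (hl1 : lam ≠ 1) (hl2 : lam * lam ≠ 1) :
    (((torusGL hd hl : GL (Fin d ⊕ Fin d) F) : Matrix (Fin d ⊕ Fin d) (Fin d ⊕ Fin d) F) - lam • 1).rank
      = 2 * d - 1 := by
  classical
  have hsm : lam • (1 : Matrix (Fin d ⊕ Fin d) (Fin d ⊕ Fin d) F) = Matrix.diagonal (fun _ => lam) := by
    rw [← Matrix.diagonal_one, ← Matrix.diagonal_smul]
    congr 1
    funext k
    simp
  rw [torusGL_val, hsm,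
    show Matrix.diagonal (torusEntries hd lam) - Matrix.diagonal (fun _ => lam) =
      Matrix.diagonal (torusEntries hd lam - fun _ => lam) from
        (Matrix.diagonal_sub (torusEntries hd lam) (fun _ => lam)),
    Matrix.rank_diagonal]
  have hl2' : lam⁻¹ ≠ lam := by
    intro h
    apply hl2
    nth_rewrite 1 [← h]
    exact inv_mul_cancel₀ hl
  rw [Fintype.card_subtype]
  have h2 : (Finset.univ.filter fun k : Fin d ⊕ Fin d => (torusEntries hd lam - (fun _ : Fin d ⊕ Fin d => lam)) k ≠ 0) =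
      Finset.univ.erase (Sum.inl ⟨0, hd⟩) := by
    ext k
    rw [Finset.mem_filter, Finset.mem_erase, Pi.sub_apply]
    rcases k with i | i
    · simp only [torusEntries, Sum.elim_inl, Finset.mem_univ, true_and, and_true, Sum.inl.injEq]
      split_ifs with h
      · simp [h]
      · simp [h, sub_ne_zero, Ne.symm hl1]
    · simp only [torusEntries, Sum.elim_inr, Finset.mem_univ, true_and, and_true, reduceCtorEq, ne_eq,
        not_false_eq_true, iff_true]
      split_ifs with h
      · exact sub_ne_zero.mpr hl2'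
      · exact sub_ne_zero.mpr (Ne.symm hl1)
  rw [h2, Finset.card_erase_of_mem (Finset.mem_univ _), Finset.card_univ, Fintype.card_sum, Fintype.card_fin]
  omega

end symp

end Cfsg.Agent.Helper7.TnSp
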