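import Mathlib
import Cfsg.Agent.Helper7.FExD
import Cfsg.Agent.Helper7.SpCPB
import Cfsg.Agent.Helper7.TnSpH

set_option autoImplicit false
set_option linter.unusedSectionVars false
set_option linter.unusedVariables false

/-!
Subgroups of type `Sp_{2d/k}(q^k)` of `Sp_{2d}(q)`: derangements of order `p`, of order `2` and of odd order.
-/

namespace Cfsg.Agent.Helper7.FEx

open Matrix Module Polynomial Cfsg.Agent.Helper7.Symp Cfsg.Agent.Helper7.SpOrd
  Cfsg.Agent.Helper7.POrd Cfsg.Agent.Helper7.SpTI Cfsg.Agent.Helper7.UTy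

variable {F : Type*} [Field F] [Fintype F] {p : ℕ} [Fact p.Prime] [CharP F p] {r : ℕ} [Fact r.Prime] {d : ℕ}

local notation "MM" => Matrix (Fin d ⊕ Fin d) (Fin d ⊕ Fin d) F
local notation "VV" => (Fin d ⊕ Fin d → F)

theorem rank_le_of_range_le (A : MM) (S : Finset VV)
    (h : ∀ u : VV, A *ᵥ u ∈ Submodule.span F (S : Set VV)) : A.rank ≤ S.card := by
  unfold Matrix.rank
  have h1 : LinearMap.range A.mulVecLin ≤ Submodule.span F (S : Set VV) := by
    rintro _ ⟨u, rfl⟩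
    rw [Matrix.mulVecLin_apply]
    exact h u
  exact (Submodule.finrank_mono h1).trans (finrank_span_finset_le_card S)

/-- `r = p`: a transvection is a derangement. -/
theorem not_forall_of_char' (hd : 2 ≤ d) {k : ℕ} (hk : k.Prime) {K : Subalgebra F MM}
    (hK : Cfsg.Geo.IsFieldSubalgebra k K) {θm : MM} {gp : F[X]} (hθK : θm ∈ K) (hM : MSS d k θm gp) :
    ¬ (∀ x ∈ Cfsg.spGL d F,
      (∃ z : F, ((x ^ p : GL (Fin d ⊕ Fin d) F) : MM) = z • (1 : MM)) →
      (∀ z : F, (x : MM) ≠ z • (1 : MM)) →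
      ∃ g ∈ Cfsg.spGL d F, g⁻¹ * x * g ∈ Cfsg.Geo.subalgebraNormalizer K) := by
  intro hall
  have hd1 : 1 ≤ d := by omega
  set w : VV := Pi.single (Sum.inl ⟨0, hd1⟩) 1 with hw
  have hw0 : w ≠ 0 := by
    intro h
    have := congrFun h (Sum.inl ⟨0, hd1⟩)
    simp [hw] at this
  set x₀ : symplecticGroup (Fin d) F := T w 1 with hx₀
  have hxr : x₀ ^ p = 1 := T_pow_char w 1
  set x : ↥(Cfsg.spGL d F) := Cfsg.Agent.S0270.toSpGLHom d F x₀ with hx
  have hxpow : (x : GL (Fin d ⊕ Fin d) F) ^ p = 1 := by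
    have : x ^ p = 1 := by rw [hx, ← map_pow, hxr, map_one]
    have := congrArg (Subtype.val) this
    rw [Subgroup.coe_pow] at this
    exact this
  obtain ⟨g, hg, hmem⟩ := hall (x : GL (Fin d ⊕ Fin d) F) x.2
    ⟨1, by rw [hxpow, one_smul, Units.val_one]⟩ (T_not_scalar hw0)
  have hrank : (((x : GL (Fin d ⊕ Fin d) F) : MM) - 1).rank ≤ 1 := by
    have := rank_le_of_range_le (((x : GL (Fin d ⊕ Fin d) F) : MM) - 1) {w} (by
      intro u
      have hxu : ((x : GL (Fin d ⊕ Fin d) F) : MM) *ᵥ u = u + (1 * Cfsg.sympForm d F u w) • w := T_mulVec w 1 u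
      rw [sub_mulVec, one_mulVec, hxu, add_sub_cancel_left]
      exact Submodule.smul_mem _ _ (Submodule.subset_span (by simp)))
    simpa using this
  have hcard : Fintype.card (Fin d ⊕ Fin d) = d + d := by
    rw [Fintype.card_sum, Fintype.card_fin]
  obtain ⟨θ'm, hM', hcomm⟩ := exists_commuting_of_conj_mem' hd1 hk hK hθK hM hg hmem
    (Or.inr (by rw [hcard]; omega))
  have hcomm' : (x₀ : MM) * θ'm = θ'm * (x₀ : MM) := hcomm
  obtain ⟨u, hu⟩ := exists_sympForm_ne_zero hw0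
  have hu' : Cfsg.sympForm d F u w ≠ 0 := by
    rw [sympForm_swap]
    exact neg_ne_zero.mpr hu
  have h1 : (x₀ : MM) *ᵥ (θ'm *ᵥ u) = θ'm *ᵥ ((x₀ : MM) *ᵥ u) := by
    rw [mulVec_mulVec, mulVec_mulVec, hcomm']
  rw [hx₀, T_mulVec, T_mulVec, mulVec_add, mulVec_smul, one_mul, one_mul] at h1
  have h3 : Cfsg.sympForm d F (θ'm *ᵥ u) w • w = Cfsg.sympForm d F u w • (θ'm *ᵥ w) :=
    add_left_cancel h1
  set lam : F := (Cfsg.sympForm d F u w)⁻¹ * Cfsg.sympForm d F (θ'm *ᵥ u) w with hlam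
  have h4 : θ'm *ᵥ w = lam • w := by
    have := congrArg (fun y => (Cfsg.sympForm d F u w)⁻¹ • y) h3
    simp only [smul_smul, inv_mul_cancel₀ hu', one_smul] at this
    rw [hlam]
    exact this.symm
  exact hw0 (hM'.no_eigen hk.two_le h4)

/-- the signs of the involution. -/
def sgn (hd1 : 1 ≤ d) (i : Fin d ⊕ Fin d) : F :=
  if i = Sum.inl ⟨0, hd1⟩ ∨ i = Sum.inr ⟨0, hd1⟩ then -1 else 1

theorem sgn_mul_self (hd1 : 1 ≤ d) (i : Fin d ⊕ Fin d) : sgn (F := F) hd1 i * sgn hd1 i = 1 := by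
  unfold sgn
  split_ifs <;> ring

theorem sgn_inl_eq_inr (hd1 : 1 ≤ d) (i : Fin d) : sgn (F := F) hd1 (Sum.inl i) = sgn hd1 (Sum.inr i) := by
  unfold sgn
  simp only [Sum.inl.injEq, Sum.inr.injEq, reduceCtorEq, or_false, false_or]

/-- the involution `-1` on a hyperbolic plane. -/
def invol (hd1 : 1 ≤ d) : GL (Fin d ⊕ Fin d) F :=
  ⟨Matrix.diagonal (sgn hd1), Matrix.diagonal (sgn hd1),
    by rw [Matrix.diagonal_mul_diagonal]; simp only [sgn_mul_self]; exact Matrix.diagonal_one,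
    by rw [Matrix.diagonal_mul_diagonal]; simp only [sgn_mul_self]; exact Matrix.diagonal_one⟩

theorem invol_val (hd1 : 1 ≤ d) : ((invol (F := F) hd1 : GL (Fin d ⊕ Fin d) F) : MM) = Matrix.diagonal (sgn hd1) :=
  rfl

theorem invol_mulVec (hd1 : 1 ≤ d) (u : VV) (i : Fin d ⊕ Fin d) :
    (((invol (F := F) hd1 : GL (Fin d ⊕ Fin d) F) : MM) *ᵥ u) i = sgn hd1 i * u i := by
  rw [invol_val, Matrix.mulVec_diagonal]

theorem invol_mem (hd1 : 1 ≤ d) : invol (F := F) hd1 ∈ Cfsg.spGL d F := by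
  intro u v
  show Cfsg.sympForm d F (((invol (F := F) hd1 : GL (Fin d ⊕ Fin d) F) : MM) *ᵥ u)
    (((invol (F := F) hd1 : GL (Fin d ⊕ Fin d) F) : MM) *ᵥ v) = Cfsg.sympForm d F u v
  rw [Cfsg.Agent.Helper7.TnSp.sympForm_expand, Cfsg.Agent.Helper7.TnSp.sympForm_expand]
  apply Finset.sum_congr rfl
  intro i _
  rw [invol_mulVec, invol_mulVec, invol_mulVec, invol_mulVec, sgn_inl_eq_inr]
  have := sgn_mul_self (F := F) hd1 (Sum.inr i)
  linear_combination (u (Sum.inr i) * v (Sum.inl i) - u (Sum.inl i) * v (Sum.inr i)) * this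

theorem invol_sq (hd1 : 1 ≤ d) : (invol (F := F) hd1) ^ 2 = 1 := by
  apply Units.ext
  rw [Units.val_pow_eq_pow_val, pow_two, invol_val, Matrix.diagonal_mul_diagonal, Units.val_one]
  simp only [sgn_mul_self]
  exact Matrix.diagonal_one

/-- `r = 2`, `q` odd, `d ≥ 3`: the involution `-1` on a hyperbolic plane is a derangement. -/
theorem not_forall_of_two (h2 : (2 : F) ≠ 0) (hd : 3 ≤ d) {k : ℕ} (hk : k.Prime) {K : Subalgebra F MM}
    (hK : Cfsg.Geo.IsFieldSubalgebra k K) {θm : MM} {gp : F[X]} (hθK : θm ∈ K) (hM : MSS d k θm gp) :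
    ¬ (∀ x ∈ Cfsg.spGL d F,
      (∃ z : F, ((x ^ 2 : GL (Fin d ⊕ Fin d) F) : MM) = z • (1 : MM)) →
      (∀ z : F, (x : MM) ≠ z • (1 : MM)) →
      ∃ g ∈ Cfsg.spGL d F, g⁻¹ * x * g ∈ Cfsg.Geo.subalgebraNormalizer K) := by
  intro hall
  have hd1 : 1 ≤ d := by omega
  set i0 : Fin d ⊕ Fin d := Sum.inl ⟨0, hd1⟩ with hi0
  set j0 : Fin d ⊕ Fin d := Sum.inr ⟨0, hd1⟩ with hj0
  set i1 : Fin d ⊕ Fin d := Sum.inl ⟨1, by omega⟩ with hi1
  set e : VV := Pi.single i0 1 with he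
  set f : VV := Pi.single j0 1 with hf
  set x : GL (Fin d ⊕ Fin d) F := invol hd1 with hx
  have hs0 : sgn (F := F) hd1 i0 = -1 := by
    unfold sgn
    rw [if_pos (Or.inl rfl)]
  have hs0' : sgn (F := F) hd1 j0 = -1 := by
    unfold sgn
    rw [if_pos (Or.inr rfl)]
  have hs1 : sgn (F := F) hd1 i1 = 1 := by
    unfold sgn
    rw [if_neg]
    rintro (h | h)
    · have h' := congrArg Fin.val (Sum.inl.inj h)
      simp at h'
    · exact Sum.inl_ne_inr h
  have hns : ∀ z : F, (x : MM) ≠ z • (1 : MM) := by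
    intro z hz
    have h0 := congrFun (congrFun hz i0) i0
    have h1 := congrFun (congrFun hz i1) i1
    rw [hx, invol_val, Matrix.diagonal_apply_eq, Matrix.smul_apply, Matrix.one_apply_eq, smul_eq_mul, mul_one] at h0 h1
    rw [hs0] at h0
    rw [hs1] at h1
    apply h2
    rw [← h0] at h1
    linear_combination h1
  obtain ⟨g, hg, hmem⟩ := hall x (invol_mem hd1)
    ⟨1, by rw [hx, invol_sq, one_smul, Units.val_one]⟩ hns
  have hxu : ∀ u : VV, ((x : MM) - 1) *ᵥ u = (-2 * u i0) • e + (-2 * u j0) • f := by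
    intro u
    funext i
    rw [sub_mulVec, one_mulVec, Pi.sub_apply, hx, invol_mulVec, Pi.add_apply, Pi.smul_apply, Pi.smul_apply, he, hf,
      Pi.single_apply, Pi.single_apply, smul_eq_mul, smul_eq_mul]
    by_cases hi : i = i0
    · rw [if_pos hi, if_neg (by rw [hi, hi0, hj0]; simp), hi, hs0]
      ring
    · by_cases hj : i = j0
      · rw [if_neg hi, if_pos hj, hj, hs0']
        ring
      · rw [if_neg hi, if_neg hj]
        have : sgn (F := F) hd1 i = 1 := by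
          unfold sgn
          rw [if_neg]
          push Not
          exact ⟨hi, hj⟩
        rw [this]
        ring
  have hrank : ((x : MM) - 1).rank ≤ 2 := by
    classical
    have := rank_le_of_range_le ((x : MM) - 1) {e, f} (by
      intro u
      rw [hxu]
      exact Submodule.add_mem _ (Submodule.smul_mem _ _ (Submodule.subset_span (by simp)))
        (Submodule.smul_mem _ _ (Submodule.subset_span (by simp))))
    exact this.trans (Finset.card_le_two)
  have hcard : Fintype.card (Fin d ⊕ Fin d) = d + d := by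
    rw [Fintype.card_sum, Fintype.card_fin]
  obtain ⟨θ'm, hM', hcomm⟩ := exists_commuting_of_conj_mem' hd1 hk hK hθK hM hg hmem
    (Or.inr (by rw [hcard]; omega))
  -- `θ' e` is an eigenvector of `x` for `-1`
  have hxe : (x : MM) *ᵥ e = -e := by
    funext i
    rw [hx, invol_mulVec, he, Pi.neg_apply, Pi.single_apply]
    by_cases hi : i = i0
    · rw [if_pos hi, hi, hs0]
      ring
    · rw [if_neg hi]
      ring
  have h1 : (x : MM) *ᵥ (θ'm *ᵥ e) = -(θ'm *ᵥ e) := by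
    rw [mulVec_mulVec, hcomm, ← mulVec_mulVec, hxe, mulVec_neg]
  have h3 : θ'm *ᵥ e = (θ'm *ᵥ e) i0 • e + (θ'm *ᵥ e) j0 • f := by
    have h4 := hxu (θ'm *ᵥ e)
    rw [sub_mulVec, one_mulVec, h1] at h4
    have h5 : (-2 : F) • (θ'm *ᵥ e) = (-2 : F) • ((θ'm *ᵥ e) i0 • e + (θ'm *ᵥ e) j0 • f) := by
      rw [smul_add, smul_smul, smul_smul, ← h4]
      module
    have h6 : (-2 : F) ≠ 0 := neg_ne_zero.mpr h2
    exact smul_right_injective VV h6 h5
  have hfe : Cfsg.sympForm d F f e = 1 := by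
    rw [hf, he, Cfsg.Agent.Helper7.SpCP.sympForm_single, hj0, hi0]
    simp [Matrix.J, Matrix.fromBlocks_apply₂₁]
  have h7 := hM'.iso e
  rw [h3, sympForm_add_left, sympForm_smul_left, sympForm_smul_left, sympForm_self, hfe, mul_zero, zero_add,
    mul_one] at h7
  rw [h7, zero_smul, add_zero] at h3
  have he0 : e = 0 := hM'.no_eigen hk.two_le h3
  have := congrFun he0 i0
  rw [he, Pi.single_eq_same, Pi.zero_apply] at this
  exact one_ne_zero this

end Cfsg.Agent.Helper7.FEx
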