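import Mathlib
import Cfsg.Agent.Helper7.FExE

set_option autoImplicit false
set_option linter.unusedSectionVars false
set_option linter.unusedVariables false

/-!
Subgroups of type `Sp_{2d/k}(q^k)` of `Sp_{2d}(q)`: derangements of odd prime order `r ≠ p`.
-/

namespace Cfsg.Agent.Helper7.FEx

open Matrix Module Polynomial Cfsg.Agent.Helper7.Symp Cfsg.Agent.Helper7.SpOrd
  Cfsg.Agent.Helper7.POrd Cfsg.Agent.Helper7.SpTI Cfsg.Agent.Helper7.UTy Cfsg.Agent.Helper8.SpStab

variable {F : Type*} [Field F] [Fintype F] {p : ℕ} [Fact p.Prime] [CharP F p] {r : ℕ} [Fact r.Prime] {d : ℕ}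

local notation "MM" => Matrix (Fin d ⊕ Fin d) (Fin d ⊕ Fin d) F
local notation "VV" => (Fin d ⊕ Fin d → F)

/-- rank and fixed space. -/
theorem rank_sub_one_add (A : MM) :
    (A - 1).rank + finrank F ↥(fixS (Matrix.toLin' A : Module.End F VV)) = 2 * d := by
  have h1 : (A - 1).rank = finrank F ↥(LinearMap.range ((Matrix.toLin' A : Module.End F VV) - 1)) := by
    unfold Matrix.rank
    have : (A - 1).mulVecLin = (Matrix.toLin' A : Module.End F VV) - 1 := by
      apply LinearMap.ext
      intro v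
      rw [Matrix.mulVecLin_apply, LinearMap.sub_apply, Matrix.toLin'_apply, Module.End.one_apply, sub_mulVec,
        one_mulVec]
    rw [this]
  rw [h1]
  unfold fixS
  rw [LinearMap.finrank_range_add_finrank_ker, finrank_std]

/-- `2 * cOf i ≤ r - 1`-type bound: the size of a minimal block. -/
theorem cOf_le_pred (hrp : r ≠ p) (hr2 : r ≠ 2) : cOf (orderOf ((Fintype.card F : ℕ) : ZMod r)) ≤ r - 1 := by
  have hr : r.Prime := Fact.out
  set i := orderOf ((Fintype.card F : ℕ) : ZMod r) with hi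
  have hdvd : i ∣ r - 1 := ZMod.orderOf_dvd_card_sub_one (card_natCast_ne_zero (F := F) hrp)
  have hrodd : Odd r := hr.odd_of_ne_two hr2
  have hpos : 0 < r - 1 := by have := hr.two_le; omega
  unfold cOf
  split_ifs with hev
  · exact Nat.le_of_dvd hpos hdvd
  · have hiodd : Odd i := Nat.not_even_iff_odd.mp hev
    have h2 : 2 ∣ r - 1 := by
      obtain ⟨m, hm⟩ := hrodd
      exact ⟨m, by omega⟩
    have hcop : Nat.Coprime 2 i := Nat.coprime_two_left.mpr hiodd
    exact Nat.le_of_dvd hpos (hcop.mul_dvd_of_dvd_of_dvd h2 hdvd)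

/-- `r` odd, `r ≠ p`: a derangement when `i ∣ 2 j` for some `j ≤ d` not divisible by `k`. -/
theorem not_forall_of_odd' (hr2 : r ≠ 2) (hrp : r ≠ p) (hd : 1 ≤ d) {k : ℕ} (hk : k.Prime)
    {K : Subalgebra F MM} (hK : Cfsg.Geo.IsFieldSubalgebra k K) {θm : MM} {gp : F[X]} (hθK : θm ∈ K)
    (hM : MSS d k θm gp) (j : ℕ) (hj1 : 1 ≤ j) (hjd : j ≤ d) (hkj : ¬ k ∣ j)
    (hij : orderOf ((Fintype.card F : ℕ) : ZMod r) ∣ 2 * j) :
    ¬ (∀ x ∈ Cfsg.spGL d F,
      (∃ z : F, ((x ^ r : GL (Fin d ⊕ Fin d) F) : MM) = z • (1 : MM)) →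
      (∀ z : F, (x : MM) ≠ z • (1 : MM)) →
      ∃ g ∈ Cfsg.spGL d F, g⁻¹ * x * g ∈ Cfsg.Geo.subalgebraNormalizer K) := by
  intro hall
  haveI : Nonempty (Fin d ⊕ Fin d) := ⟨Sum.inl ⟨0, hd⟩⟩
  have hr : r.Prime := Fact.out
  have hrodd : Odd r := hr.odd_of_ne_two hr2
  set i := orderOf ((Fintype.card F : ℕ) : ZMod r) with hi
  have hipos : 0 < i := orderOf_q_pos hrp
  -- `i` odd divides `j`
  have hij' : Odd i → i ∣ j := by
    intro hodd
    have hcop : Nat.Coprime i 2 := by
      rw [Nat.coprime_two_right]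
      exact hodd
    exact hcop.dvd_of_dvd_mul_left hij
  have hcle : cOf i * 1 ≤ 2 * d := by
    rw [mul_one]
    unfold cOf
    split_ifs with hev
    · have := Nat.le_of_dvd (by omega) hij
      omega
    · have := Nat.le_of_dvd (by omega) (hij' (Nat.not_even_iff_odd.mp hev))
      omega
  obtain ⟨x₀, hxr, hx1, hfix⟩ := exists_elt_blocks (F := F) hr2 hrp d 1 hcle
  rw [← hi] at hfix
  have hx1' : x₀ ≠ 1 := hx1 le_rfl
  have hns := not_scalar_of_pow hr2 hd hxr hx1'
  set x : ↥(Cfsg.spGL d F) := Cfsg.Agent.S0270.toSpGLHom d F x₀ with hx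
  have hxpow : (x : GL (Fin d ⊕ Fin d) F) ^ r = 1 := by
    have : x ^ r = 1 := by rw [hx, ← map_pow, hxr, map_one]
    have := congrArg (Subtype.val) this
    rw [Subgroup.coe_pow] at this
    exact this
  obtain ⟨g, hg, hmem⟩ := hall (x : GL (Fin d ⊕ Fin d) F) x.2
    ⟨1, by rw [hxpow, one_smul, Units.val_one]⟩ hns
  have hcard : Fintype.card (Fin d ⊕ Fin d) = d + d := by
    rw [Fintype.card_sum, Fintype.card_fin]
  have hrank : (((x : GL (Fin d ⊕ Fin d) F) : MM) - 1).rank = cOf i := by
    have h1 := rank_sub_one_add ((x₀ : MM))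
    rw [hfix, mul_one] at h1
    rw [mul_one] at hcle
    have : ((x : GL (Fin d ⊕ Fin d) F) : MM) = (x₀ : MM) := rfl
    rw [this]
    omega
  have hcent : (∃ r' : ℕ, r'.Prime ∧ r' ≠ k ∧ (x : GL (Fin d ⊕ Fin d) F) ^ r' = 1) ∨
      2 * (((x : GL (Fin d ⊕ Fin d) F) : MM) - 1).rank < Fintype.card (Fin d ⊕ Fin d) := by
    by_cases hrk : r = k
    · right
      rw [hrank, hcard]
      have h1 : cOf i ≤ r - 1 := cOf_le_pred hrp hr2
      have h2 : k ∣ d + d := by
        have := dvd_card hk.pos K hK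
        rwa [hcard] at this
      have h3 : k ∣ d := by
        have hcop : Nat.Coprime k 2 := by
          rw [Nat.coprime_two_right, ← hrk]
          exact hrodd
        have : k ∣ d * 2 := by rw [mul_two]; exact h2
        exact hcop.dvd_of_dvd_mul_right this
      have h4 : k ≤ d := Nat.le_of_dvd (by omega) h3
      have := hr.two_le
      omega
    · left
      exact ⟨r, hr, hrk, hxpow⟩
  obtain ⟨θ'm, hM', hcomm⟩ := exists_commuting_of_conj_mem' hd hk hK hθK hM hg hmem hcent
  have hT : (Matrix.toLin' (x₀ : MM) : Module.End F VV) ^ r = 1 := by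
    rw [toLin'_pow_symp, hxr]
    exact Matrix.toLin'_one
  have hcomm2 : ∀ v, Matrix.toLin' (x₀ : MM) (Matrix.toLin' θ'm v) =
      Matrix.toLin' θ'm (Matrix.toLin' (x₀ : MM) v) := by
    intro v
    rw [Matrix.toLin'_apply, Matrix.toLin'_apply, Matrix.toLin'_apply, Matrix.toLin'_apply, mulVec_mulVec,
      mulVec_mulVec]
    have : (x₀ : MM) * θ'm = θ'm * (x₀ : MM) := hcomm
    rw [this]
  have hrF : (r : F) ≠ 0 := natCast_ne_zero_of_ne hrp
  have hmov : finrank F ↥(movS r (Matrix.toLin' (x₀ : MM))) = cOf i := by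
    have h1 := finrank_fix_add_mov hrF hT
    rw [finrank_std, hfix, mul_one] at h1
    rw [mul_one] at hcle
    omega
  have hinv : ∀ E : Submodule F VV, E ∈ Module.End.invtSubmodule (Matrix.toLin' θ'm : Module.End F VV) →
      k ∣ finrank F ↥E := by
    intro E hE
    have := natDegree_dvd_finrank hM'.irr hM'.root_lin hE
    rwa [hM'.deg] at this
  have hkc : k ∣ cOf i := by
    have := hinv _ (movS_invt_of_comm hcomm2 r)
    rwa [hmov] at this
  have hsa : ∀ u v, sB d F (Matrix.toLin' θ'm u) v = sB d F u (Matrix.toLin' θ'm v) := by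
    intro u v
    rw [sB_apply, sB_apply, Matrix.toLin'_apply, Matrix.toLin'_apply]
    exact hM'.sa u v
  rcases hk.eq_two_or_odd' with hk2 | hkodd
  · -- `k = 2`, `j` odd
    subst hk2
    have hjodd : Odd j := by
      rw [← Nat.not_even_iff_odd]
      intro hev
      exact hkj (even_iff_two_dvd.mp hev)
    have hev' : ∀ E : Submodule F VV, E ∈ Module.End.invtSubmodule (Matrix.toLin' θ'm : Module.End F VV) →
        Even (finrank F ↥E) := fun E hE => even_iff_two_dvd.mpr (hinv E hE)
    by_cases hiev : Even i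
    · have hc : cOf i = i := by
        unfold cOf
        rw [if_pos hiev]
      rw [hc] at hmov
      have hhalf : Odd (i / 2) := by
        obtain ⟨m, hm⟩ := hiev
        have hm2 : i / 2 = m := by omega
        rw [hm2]
        have hmj : m ∣ j := by
          have : m * 2 ∣ j * 2 := by
            have : i = m * 2 := by omega
            rw [← this, mul_comm j 2]
            exact hij
          exact Nat.dvd_of_mul_dvd_mul_right (by norm_num) this
        exact Odd.of_dvd_nat hjodd hmj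
      exact not_commute_of_two_mod_four hr2 hrp (sB_isAlt d) (sB_ND d) hM'.irr hM'.deg hM'.root_lin hsa
        (sB_iso x₀) hT hcomm2 hiev hhalf hmov
    · have hiodd : Odd i := Nat.not_even_iff_odd.mp hiev
      have hc : cOf i = 2 * i := by
        unfold cOf
        rw [if_neg hiev]
      rw [hc] at hmov
      exact not_commute_of_odd' hr2 hrp (sB_isAlt d) (sB_ND d) hev' (sB_iso x₀) hT hcomm2 hiodd hmov
  · -- `k` odd
    have hcop : Nat.Coprime k 2 := by
      rw [Nat.coprime_two_right]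
      exact hkodd
    have hc2 : cOf i ∣ 2 * i := by
      unfold cOf
      split_ifs
      · exact Dvd.intro_left 2 rfl
      · exact dvd_rfl
    have h1 : k ∣ 2 * i := hkc.trans hc2
    have h2 : k ∣ i := by
      have : k ∣ i * 2 := by rwa [mul_comm] at h1
      exact hcop.dvd_of_dvd_mul_right this
    have h3 : k ∣ 2 * j := h2.trans hij
    have h4 : k ∣ j := by
      have : k ∣ j * 2 := by rwa [mul_comm] at h3
      exact hcop.dvd_of_dvd_mul_right this
    exact hkj h4

end Cfsg.Agent.Helper7.FEx
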