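import Mathlib

set_option autoImplicit false
set_option linter.unusedSectionVars false
set_option linter.unusedVariables false

/-!
Subgroups of type `Sp_{2d/k}(q^k)` of `Sp_{2d}(q)`: the arithmetic of the index.
-/

namespace Cfsg.Agent.Helper7.FEx

open Finset

/-- the factors with index divisible by `k`. -/
theorem prod_filter_dvd (q k m : ℕ) (hk : 0 < k) :
    ∏ j ∈ (range (k * m)).filter (fun j => k ∣ j + 1), (q ^ (2 * (j + 1)) - 1) =
      ∏ j ∈ range m, ((q ^ k) ^ (2 * (j + 1)) - 1) := by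
  symm
  refine Finset.prod_nbij' (fun j' => k * (j' + 1) - 1) (fun j => (j + 1) / k - 1) ?_ ?_ ?_ ?_ ?_
  · intro j' hj'
    rw [mem_range] at hj'
    have h1 : 1 ≤ k * (j' + 1) := Nat.mul_pos hk (by omega)
    have h2 : k * (j' + 1) ≤ k * m := Nat.mul_le_mul_left k (by omega)
    rw [mem_filter, mem_range]
    refine ⟨by omega, ?_⟩
    rw [Nat.sub_add_cancel h1]
    exact Dvd.intro _ rfl
  · intro j hj
    rw [mem_filter, mem_range] at hj
    obtain ⟨hj1, t, ht⟩ := hj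
    rw [mem_range, ht, Nat.mul_div_cancel_left _ hk]
    have ht0 : 0 < t := by
      rcases Nat.eq_zero_or_pos t with h | h
      · rw [h, mul_zero] at ht
        omega
      · exact h
    have : k * t ≤ k * m := by omega
    have : t ≤ m := Nat.le_of_mul_le_mul_left this hk
    omega
  · intro j' hj'
    have h1 : 1 ≤ k * (j' + 1) := Nat.mul_pos hk (by omega)
    show (k * (j' + 1) - 1 + 1) / k - 1 = j'
    rw [Nat.sub_add_cancel h1, Nat.mul_div_cancel_left _ hk]
    omega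
  · intro j hj
    rw [mem_filter, mem_range] at hj
    obtain ⟨hj1, t, ht⟩ := hj
    show k * ((j + 1) / k - 1 + 1) - 1 = j
    rw [ht, Nat.mul_div_cancel_left _ hk]
    have ht0 : 0 < t := by
      rcases Nat.eq_zero_or_pos t with h | h
      · rw [h, mul_zero] at ht
        omega
      · exact h
    rw [Nat.sub_add_cancel ht0, ← ht]
    omega
  · intro j' hj'
    have h1 : 1 ≤ k * (j' + 1) := Nat.mul_pos hk (by omega)
    show (q ^ k) ^ (2 * (j' + 1)) - 1 = q ^ (2 * (k * (j' + 1) - 1 + 1)) - 1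
    rw [Nat.sub_add_cancel h1, ← pow_mul]
    congr 2
    ring

/-- the primes dividing the index. -/
theorem exists_dvd_of_index {q k m d r : ℕ} (hr : r.Prime) (hrq : ¬ r ∣ q) (hq : 2 ≤ q) (hk : 0 < k)
    (hd : d = k * m) {C S I : ℕ}
    (hC : C = (q ^ k) ^ (m ^ 2) * ∏ j ∈ range m, ((q ^ k) ^ (2 * (j + 1)) - 1))
    (hS : S = q ^ (d ^ 2) * ∏ i ∈ range d, (q ^ (2 * (i + 1)) - 1))
    (hI : I * C = S) (hrI : r ∣ I) :
    ∃ j, 1 ≤ j ∧ j ≤ d ∧ ¬ k ∣ j ∧ r ∣ q ^ (2 * j) - 1 := by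
  subst hd
  set P := ∏ j ∈ range m, ((q ^ k) ^ (2 * (j + 1)) - 1) with hP
  set R := ∏ j ∈ (range (k * m)).filter (fun j => ¬ k ∣ j + 1), (q ^ (2 * (j + 1)) - 1) with hR
  have hsplit : ∏ i ∈ range (k * m), (q ^ (2 * (i + 1)) - 1) = P * R := by
    rw [← Finset.prod_filter_mul_prod_filter_not (range (k * m)) (fun j => k ∣ j + 1), prod_filter_dvd q k m hk]
  have hPpos : 0 < P := by
    apply Finset.prod_pos
    intro j _
    have h1 : 2 ≤ q ^ k := by
      calc 2 ≤ q := hq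
        _ = q ^ 1 := (pow_one q).symm
        _ ≤ q ^ k := Nat.pow_le_pow_right (by omega) hk
    have h2 : 2 ≤ (q ^ k) ^ (2 * (j + 1)) := by
      calc 2 ≤ q ^ k := h1
        _ = (q ^ k) ^ 1 := (pow_one _).symm
        _ ≤ (q ^ k) ^ (2 * (j + 1)) := Nat.pow_le_pow_right (by omega) (by omega)
    omega
  have hexp : (k * m) ^ 2 = k * m ^ 2 + (k * m ^ 2) * (k - 1) := by
    obtain ⟨k', rfl⟩ : ∃ k', k = k' + 1 := ⟨k - 1, by omega⟩
    rw [Nat.add_sub_cancel]
    ring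
  have hqpos : 0 < q ^ (k * m ^ 2) := Nat.pow_pos (by omega)
  rw [hS, hC, hsplit, hexp, pow_add, ← pow_mul] at hI
  have hI' : I = q ^ ((k * m ^ 2) * (k - 1)) * R := by
    have h1 : (q ^ (k * m ^ 2) * P) * I = (q ^ (k * m ^ 2) * P) * (q ^ ((k * m ^ 2) * (k - 1)) * R) := by
      rw [mul_comm _ I, hI]
      ring
    exact Nat.eq_of_mul_eq_mul_left (Nat.mul_pos hqpos hPpos) h1
  rw [hI'] at hrI
  have hrR : r ∣ R := by
    rcases (Nat.Prime.dvd_mul hr).mp hrI with h | h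
    · exact absurd (hr.dvd_of_dvd_pow h) hrq
    · exact h
  obtain ⟨j, hj, hdvd⟩ := (Prime.dvd_finsetProd_iff (Nat.Prime.prime hr) _).mp hrR
  rw [mem_filter, mem_range] at hj
  exact ⟨j + 1, by omega, by omega, hj.2, hdvd⟩

end Cfsg.Agent.Helper7.FEx
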