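import Mathlib
import Cfsg.Agent.Helper8.ReflMatrix
import Cfsg.Agent.Helper8.O2Count
set_option autoImplicit false

/-! Transport of matrix isometries along a linear isometry; uniqueness of an invariant quadratic
form with prescribed polar form for a fixed-point-free map. -/

namespace Cfsg.Agent.Helper7.QF2

open Module Matrix Cfsg.Agent.Helper8.ReflMatrix Cfsg.Agent.Helper8.O2

variable {F : Type*} [Field F] {ι κ : Type} [Fintype ι] [DecidableEq ι] [Fintype κ] [DecidableEq κ]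

/-- conjugation of linear automorphisms by a linear equivalence -/
def leCongr {V W : Type*} [AddCommGroup V] [Module F V] [AddCommGroup W] [Module F W]
    (φ : V ≃ₗ[F] W) : (V ≃ₗ[F] V) ≃* (W ≃ₗ[F] W) where
  toFun e := φ.symm.trans (e.trans φ)
  invFun e := φ.trans (e.trans φ.symm)
  left_inv e := by ext v; simp
  right_inv e := by ext v; simp
  map_mul' a b := by ext v; simp [LinearEquiv.mul_apply]

/-- conjugation of invertible matrices by a linear equivalence of the coordinate spaces -/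
noncomputable def glCongr (φ : (ι → F) ≃ₗ[F] (κ → F)) : GL ι F ≃* GL κ F :=
  glEquiv.trans ((leCongr φ).trans glEquiv.symm)

theorem glCongr_mulVec (φ : (ι → F) ≃ₗ[F] (κ → F)) (g : GL ι F) (w : κ → F) :
    ((glCongr φ g : GL κ F) : Matrix κ κ F) *ᵥ w = φ ((g : Matrix ι ι F) *ᵥ φ.symm w) := by
  rw [← glEquiv_apply]
  unfold glCongr
  rw [MulEquiv.trans_apply, MulEquiv.trans_apply, MulEquiv.apply_symm_apply]
  rfl

theorem glCongr_mulVec' (φ : (ι → F) ≃ₗ[F] (κ → F)) (g : GL ι F) (v : ι → F) :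
    ((glCongr φ g : GL κ F) : Matrix κ κ F) *ᵥ φ v = φ ((g : Matrix ι ι F) *ᵥ v) := by
  rw [glCongr_mulVec, LinearEquiv.symm_apply_apply]

theorem mem_isometryGroup_iff' (Q : (ι → F) → F) (g : GL ι F) :
    g ∈ Cfsg.isometryGroup F Q ↔ ∀ v, Q ((g : Matrix ι ι F) *ᵥ v) = Q v :=
  ⟨fun h v => h v v, fun h u _ => h u⟩

theorem glCongr_mem_iff {Q₁ : (ι → F) → F} {Q₂ : (κ → F) → F} (φ : (ι → F) ≃ₗ[F] (κ → F))
    (h : ∀ v, Q₂ (φ v) = Q₁ v) (g : GL ι F) :
    glCongr φ g ∈ Cfsg.isometryGroup F Q₂ ↔ g ∈ Cfsg.isometryGroup F Q₁ := by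
  rw [mem_isometryGroup_iff', mem_isometryGroup_iff']
  constructor
  · intro hg v
    have := hg (φ v)
    rwa [glCongr_mulVec', h, h] at this
  · intro hg w
    obtain ⟨v, rfl⟩ := φ.surjective w
    rw [glCongr_mulVec', h, h, hg]

theorem card_isometryGroup_congr [Finite F] {Q₁ : (ι → F) → F} {Q₂ : (κ → F) → F}
    (φ : (ι → F) ≃ₗ[F] (κ → F)) (h : ∀ v, Q₂ (φ v) = Q₁ v) :
    Nat.card (Cfsg.isometryGroup F Q₁) = Nat.card (Cfsg.isometryGroup F Q₂) :=
  Nat.card_congr ((glCongr φ).toEquiv.subtypeEquiv (fun g => (glCongr_mem_iff φ h g).symm))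

theorem rank_glCongr (φ : (ι → F) ≃ₗ[F] (κ → F)) (g : GL ι F) :
    (((glCongr φ g : GL κ F) : Matrix κ κ F) - 1).rank = ((g : Matrix ι ι F) - 1).rank := by
  unfold Matrix.rank
  have h1 : (((glCongr φ g : GL κ F) : Matrix κ κ F) - 1).mulVecLin
      = φ.toLinearMap ∘ₗ ((g : Matrix ι ι F) - 1).mulVecLin ∘ₗ φ.symm.toLinearMap := by
    apply LinearMap.ext
    intro w
    show (((glCongr φ g : GL κ F) : Matrix κ κ F) - 1) *ᵥ w
      = φ (((g : Matrix ι ι F) - 1) *ᵥ φ.symm w)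
    rw [Matrix.sub_mulVec, Matrix.sub_mulVec, Matrix.one_mulVec, Matrix.one_mulVec, map_sub,
      LinearEquiv.apply_symm_apply, glCongr_mulVec]
  rw [h1, LinearMap.range_comp, LinearMap.range_comp, LinearEquiv.range, Submodule.map_top]
  exact LinearEquiv.finrank_map_eq φ _

theorem polar_congr {Q₁ : (ι → F) → F} {Q₂ : (κ → F) → F} (φ : (ι → F) ≃ₗ[F] (κ → F))
    (h : ∀ v, Q₂ (φ v) = Q₁ v) (u v : ι → F) :
    QuadraticMap.polar Q₂ (φ u) (φ v) = QuadraticMap.polar Q₁ u v := by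
  unfold QuadraticMap.polar
  rw [← map_add, h, h, h]

/-- transport of an isometry, as an element of the isometry group -/
noncomputable def isoCongr {Q₁ : QuadraticForm F (ι → F)} {Q₂ : QuadraticForm F (κ → F)}
    (φ : (ι → F) ≃ₗ[F] (κ → F)) (h : ∀ v, Q₂ (φ v) = Q₁ v)
    (t : ↥(Cfsg.isometryGroup F ⇑Q₁)) : ↥(Cfsg.isometryGroup F ⇑Q₂) :=
  ⟨glCongr φ t.1, (glCongr_mem_iff φ h t.1).mpr t.2⟩

theorem rk_isoCongr {Q₁ : QuadraticForm F (ι → F)} {Q₂ : QuadraticForm F (κ → F)}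
    (φ : (ι → F) ≃ₗ[F] (κ → F)) (h : ∀ v, Q₂ (φ v) = Q₁ v)
    (t : ↥(Cfsg.isometryGroup F ⇑Q₁)) : rk Q₂ (isoCongr φ h t) = rk Q₁ t :=
  rank_glCongr φ t.1

theorem alt_isoCongr {Q₁ : QuadraticForm F (ι → F)} {Q₂ : QuadraticForm F (κ → F)}
    (φ : (ι → F) ≃ₗ[F] (κ → F)) (h : ∀ v, Q₂ (φ v) = Q₁ v)
    (t : ↥(Cfsg.isometryGroup F ⇑Q₁)) : IsAltType Q₂ (isoCongr φ h t) ↔ IsAltType Q₁ t := by
  constructor
  · intro ha v
    have := ha (φ v)
    change QuadraticMap.polar Q₂ (φ v) (((glCongr φ t.1 : GL κ F) : Matrix κ κ F) *ᵥ φ v) = 0 at this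
    rwa [glCongr_mulVec', polar_congr φ h] at this
  · intro ha w
    obtain ⟨v, rfl⟩ := φ.surjective w
    change QuadraticMap.polar Q₂ (φ v) (((glCongr φ t.1 : GL κ F) : Matrix κ κ F) *ᵥ φ v) = 0
    rw [glCongr_mulVec', polar_congr φ h]
    exact ha v

theorem isoCongr_sq {Q₁ : QuadraticForm F (ι → F)} {Q₂ : QuadraticForm F (κ → F)}
    (φ : (ι → F) ≃ₗ[F] (κ → F)) (h : ∀ v, Q₂ (φ v) = Q₁ v)
    (t : ↥(Cfsg.isometryGroup F ⇑Q₁)) (ht : t ^ 2 = 1) : (isoCongr φ h t) ^ 2 = 1 := by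
  apply Subtype.ext
  show (glCongr φ t.1) ^ 2 = 1
  rw [← map_pow]
  have : t.1 ^ 2 = 1 := congrArg Subtype.val ht
  rw [this, map_one]

/-- **uniqueness**: a fixed-point-free invertible map preserves at most one quadratic map with a
given polar form. -/
theorem eq_of_fpf (x : Matrix ι ι F) (hx : ∀ v, x *ᵥ v = v → v = 0) (Q₁ Q₂ : (ι → F) → F)
    (hpol : ∀ u v, QuadraticMap.polar Q₁ u v = QuadraticMap.polar Q₂ u v)
    (h0₁ : Q₁ 0 = 0) (h0₂ : Q₂ 0 = 0)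
    (h₁ : ∀ v, Q₁ (x *ᵥ v) = Q₁ v) (h₂ : ∀ v, Q₂ (x *ᵥ v) = Q₂ v) : Q₁ = Q₂ := by
  -- the difference is additive
  have hadd : ∀ u v, Q₁ (u + v) - Q₂ (u + v) = (Q₁ u - Q₂ u) + (Q₁ v - Q₂ v) := by
    intro u v
    have := hpol u v
    unfold QuadraticMap.polar at this
    linear_combination this
  let D : (ι → F) →+ F :=
    { toFun := fun v => Q₁ v - Q₂ v
      map_zero' := by show Q₁ 0 - Q₂ 0 = 0; rw [h0₁, h0₂, sub_zero]
      map_add' := hadd }
  have hD : ∀ v, D v = Q₁ v - Q₂ v := fun _ => rfl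
  have hDx : ∀ v, D (x *ᵥ v - v) = 0 := by
    intro v
    rw [map_sub, hD, hD, h₁, h₂, sub_self]
  have hinj : Function.Injective (x - 1).mulVecLin := by
    rw [← LinearMap.ker_eq_bot, LinearMap.ker_eq_bot']
    intro v hv
    rw [Matrix.mulVecLin_apply, Matrix.sub_mulVec, Matrix.one_mulVec, sub_eq_zero] at hv
    exact hx v hv
  have hsurj : Function.Surjective (x - 1).mulVecLin :=
    LinearMap.injective_iff_surjective.mp hinj
  funext w
  obtain ⟨v, hv⟩ := hsurj w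
  rw [Matrix.mulVecLin_apply, Matrix.sub_mulVec, Matrix.one_mulVec] at hv
  have := hDx v
  rw [hv, hD] at this
  exact sub_eq_zero.mp this

end Cfsg.Agent.Helper7.QF2
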