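import Mathlib
import Cfsg.Agent.Helper7.SpSubA
import Cfsg.Agent.Helper7.SpMaxA
import Cfsg.Agent.S5645

set_option autoImplicit false
set_option linter.unusedSectionVars false

/-! Subfield subgroups of the symplectic group, part B: rational vectors and the standard
alternating form; rational solvability of pairing conditions; the rational transvections and
their transitivity (helper7). -/

namespace Cfsg.Agent.Helper7.SpSub

open Matrix Cfsg Cfsg.Geo Cfsg.Agent.Helper7.Symp Cfsg.Agent.Helper7.SpMax Cfsg.Agent.S5645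

variable {F : Type*} [Field F] {m : ℕ} {F₀ : Subfield F}

local notation "V" => (Fin m ⊕ Fin m → F)
local notation "Sp" => Matrix.symplecticGroup (Fin m) F
local notation "MM" => Matrix (Fin m ⊕ Fin m) (Fin m ⊕ Fin m) F

theorem J_entry_mem (i j : Fin m ⊕ Fin m) : J (Fin m) F i j ∈ F₀ := by
  rcases i with i | i <;> rcases j with j | j
  · simp [Matrix.J]
  · simp only [Matrix.J, Matrix.fromBlocks_apply₁₂, Matrix.neg_apply]
    by_cases h : i = j
    · rw [h, Matrix.one_apply_eq]; exact F₀.neg_mem F₀.one_mem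
    · rw [Matrix.one_apply_ne h, neg_zero]; exact F₀.zero_mem
  · simp only [Matrix.J, Matrix.fromBlocks_apply₂₁]
    by_cases h : i = j
    · rw [h, Matrix.one_apply_eq]; exact F₀.one_mem
    · rw [Matrix.one_apply_ne h]; exact F₀.zero_mem
  · simp [Matrix.J]

theorem RatV.J {v : V} (hv : RatV F₀ v) : RatV F₀ (J (Fin m) F *ᵥ v) :=
  mulVec_ratV (fun i j => J_entry_mem i j) hv

/-- the form takes rational values on rational vectors. -/
theorem RatV.symp {v w : V} (hv : RatV F₀ v) (hw : RatV F₀ w) : sympForm m F v w ∈ F₀ := by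
  unfold sympForm
  exact hv.dot hw.J

/-- the vector pairing with which reads off a coordinate. -/
def dualv (k : Fin m ⊕ Fin m) : V := -(J (Fin m) F *ᵥ Pi.single k 1)

theorem sympForm_dualv (x : V) (k : Fin m ⊕ Fin m) : sympForm m F x (dualv k) = x k := by
  unfold sympForm dualv
  rw [mulVec_neg, J_mulVec_J_mulVec, neg_neg, dotProduct_single, mul_one]

theorem ratV_dualv (k : Fin m ⊕ Fin m) : RatV F₀ (dualv k : V) :=
  (RatV.single k F₀.one_mem).J.neg

theorem sympForm_zero_left (y : V) : sympForm m F 0 y = 0 := by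
  unfold sympForm
  rw [zero_dotProduct]

theorem sympForm_zero_right (x : V) : sympForm m F x 0 = 0 := by
  unfold sympForm
  rw [mulVec_zero, dotProduct_zero]

theorem sympForm_neg_left (x y : V) : sympForm m F (-x) y = -sympForm m F x y := by
  unfold sympForm
  rw [neg_dotProduct]

/-- a vector orthogonal to all rational vectors vanishes. -/
theorem eq_zero_of_perp_rat {y : V} (h : ∀ x : V, RatV F₀ x → sympForm m F x y = 0) : y = 0 := by
  funext k
  have h1 := h (dualv k) (ratV_dualv k)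
  rw [sympForm_swap, sympForm_dualv] at h1
  rw [Pi.zero_apply]
  exact neg_eq_zero.mp h1

/-- a non-zero vector pairs non-trivially with a rational vector. -/
theorem exists_rat_ne_zero {u : V} (hu : u ≠ 0) : ∃ y : V, RatV F₀ y ∧ sympForm m F u y ≠ 0 := by
  obtain ⟨k, hk⟩ : ∃ k, u k ≠ 0 := by
    by_contra h
    push Not at h
    exact hu (funext h)
  exact ⟨dualv k, ratV_dualv k, by rw [sympForm_dualv]; exact hk⟩

/-- Riesz representation with rationality. -/
theorem exists_riesz (φ : V →ₗ[F] F) (hφ : ∀ k, φ (Pi.single k 1) ∈ F₀) :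
    ∃ y : V, RatV F₀ y ∧ ∀ x : V, sympForm m F x y = φ x := by
  obtain ⟨c, hc⟩ : ∃ c : V, c = fun k => φ (Pi.single k 1) := ⟨_, rfl⟩
  have hcr : RatV F₀ c := by
    intro k
    rw [hc]
    exact hφ k
  refine ⟨-(J (Fin m) F *ᵥ c), hcr.J.neg, ?_⟩
  intro x
  unfold sympForm
  rw [mulVec_neg, J_mulVec_J_mulVec, neg_neg]
  have hx : x = ∑ k, x k • (Pi.single k 1 : V) := by
    funext j
    rw [Finset.sum_apply]
    simp [Pi.single_apply]
  conv_rhs => rw [hx]
  rw [map_sum]
  unfold dotProduct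
  apply Finset.sum_congr rfl
  intro k _
  rw [map_smul, hc, smul_eq_mul]

/-- the pairing matrix of a family of rational vectors. -/
noncomputable def pairMat {k : ℕ} (x : Fin k → V) (hx : ∀ i, RatV F₀ (x i)) :
    Matrix (Fin k) (Fin m ⊕ Fin m) F₀ :=
  fun i j => ⟨(J (Fin m) F *ᵥ x i) j, (hx i).J j⟩

theorem pairMat_mulVec {k : ℕ} (x : Fin k → V) (hx : ∀ i, RatV F₀ (x i))
    (z : Fin m ⊕ Fin m → F₀) (i : Fin k) :
    ((pairMat x hx *ᵥ z) i : F) = sympForm m F (fun j => (z j : F)) (x i) := by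
  show F₀.subtype (∑ j, pairMat x hx i j * z j) =
    ∑ j, (z j : F) * (J (Fin m) F *ᵥ x i) j
  rw [map_sum]
  apply Finset.sum_congr rfl
  intro j _
  rw [map_mul, mul_comm]
  rfl

/-- rational solvability of pairing conditions against an independent rational family. -/
theorem exists_rat_pairing {k : ℕ} (x : Fin k → V) (hx : ∀ i, RatV F₀ (x i))
    (hind : ∀ a : Fin k → F, (∀ i, a i ∈ F₀) → (∑ i, a i • x i) = 0 → ∀ i, a i = 0)
    (c : Fin k → F) (hc : ∀ i, c i ∈ F₀) :
    ∃ z : V, RatV F₀ z ∧ ∀ i, sympForm m F z (x i) = c i := by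
  have hsurj : LinearMap.range (pairMat x hx).mulVecLin = ⊤ := by
    by_contra hne
    obtain ⟨f, hf0, hf⟩ := Submodule.exists_le_ker_of_lt_top _ (lt_top_iff_ne_top.mpr hne)
    apply hf0
    obtain ⟨a, ha⟩ : ∃ a : Fin k → F, a = fun i => ((f (Pi.single i 1) : F₀) : F) := ⟨_, rfl⟩
    have haF : ∀ i, a i ∈ F₀ := by
      intro i
      rw [ha]
      exact (f (Pi.single i 1)).2
    have hsum : (∑ i, a i • x i) = 0 := by
      apply eq_zero_of_perp_rat (F₀ := F₀)
      intro y hy
      obtain ⟨z, hz⟩ : ∃ z : Fin m ⊕ Fin m → F₀, z = fun j => ⟨y j, hy j⟩ := ⟨_, rfl⟩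
      have h1 : f ((pairMat x hx).mulVecLin z) = 0 := by
        have : (pairMat x hx).mulVecLin z ∈ LinearMap.ker f := hf ⟨z, rfl⟩
        exact this
      rw [LinearMap.pi_apply_eq_sum_univ f] at h1
      simp only [smul_eq_mul] at h1
      have h2 := congrArg (F₀.subtype : F₀ → F) h1
      rw [map_sum] at h2
      have hy' : (fun j => ((z j : F₀) : F)) = y := by
        funext j
        rw [hz]
      have e : sympForm m F y (∑ i, a i • x i) = ∑ i, a i * sympForm m F y (x i) := by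
        unfold sympForm
        rw [mulVec_sum, dotProduct_sum]
        apply Finset.sum_congr rfl
        intro i _
        rw [mulVec_smul, dotProduct_smul, smul_eq_mul]
      rw [e]
      rw [map_zero] at h2
      rw [← h2]
      apply Finset.sum_congr rfl
      intro i _
      rw [map_mul]
      show a i * sympForm m F y (x i) = (((pairMat x hx *ᵥ z) i : F₀) : F) *
        ((f fun j => if i = j then 1 else 0 : F₀) : F)
      rw [pairMat_mulVec, hy', ha, mul_comm]
      have e2 : (fun j => if i = j then (1 : F₀) else 0) = Pi.single i 1 := by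
        funext j
        by_cases hij : i = j
        · rw [if_pos hij, hij, Pi.single_eq_same]
        · rw [if_neg hij, Pi.single_eq_of_ne (Ne.symm hij)]
      rw [e2]
    have ha0 := hind a haF hsum
    apply LinearMap.ext
    intro v
    rw [LinearMap.pi_apply_eq_sum_univ f, LinearMap.zero_apply]
    apply Finset.sum_eq_zero
    intro i _
    have h3 : f (Pi.single i 1) = 0 := by
      apply Subtype.ext
      have := ha0 i
      rw [ha] at this
      exact this
    have e : (fun j => if i = j then (1 : F₀) else 0) = Pi.single i 1 := by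
      funext j
      by_cases hij : i = j
      · rw [if_pos hij, hij, Pi.single_eq_same]
      · rw [if_neg hij, Pi.single_eq_of_ne (Ne.symm hij)]
    rw [e, h3, smul_zero]
  obtain ⟨c', hc'⟩ : ∃ c' : Fin k → F₀, c' = fun i => ⟨c i, hc i⟩ := ⟨_, rfl⟩
  have hmem : c' ∈ LinearMap.range (pairMat x hx).mulVecLin := by
    rw [hsurj]; exact Submodule.mem_top
  obtain ⟨z, hz⟩ := hmem
  refine ⟨fun j => (z j : F), fun j => (z j).2, ?_⟩
  intro i
  rw [← pairMat_mulVec x hx z i]
  have := congrFun hz i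
  rw [Matrix.mulVecLin_apply] at this
  rw [this, hc']

/-- a non-zero rational vector orthogonal to fewer than `2m` given rational vectors. -/
theorem exists_rat_kernel {k : ℕ} (hk : k < 2 * m) (x : Fin k → V) (hx : ∀ i, RatV F₀ (x i)) :
    ∃ z : V, RatV F₀ z ∧ z ≠ 0 ∧ ∀ i, sympForm m F z (x i) = 0 := by
  have hninj : ¬ Function.Injective (pairMat x hx).mulVecLin := by
    intro hinj
    have := LinearMap.finrank_le_finrank_of_injective hinj
    rw [Module.finrank_pi, Module.finrank_pi, Fintype.card_sum, Fintype.card_fin,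
      Fintype.card_fin] at this
    omega
  rw [← LinearMap.ker_eq_bot, Submodule.eq_bot_iff] at hninj
  push Not at hninj
  obtain ⟨z, hzk, hz0⟩ := hninj
  refine ⟨fun j => (z j : F), fun j => (z j).2, ?_, ?_⟩
  · intro h
    apply hz0
    funext j
    apply Subtype.ext
    exact congrFun h j
  · intro i
    rw [← pairMat_mulVec x hx z i]
    have : (pairMat x hx).mulVecLin z = 0 := hzk
    rw [Matrix.mulVecLin_apply] at this
    rw [this]
    rfl

/-- the subfield group inside the symplectic group. -/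
noncomputable def Hs (m : ℕ) {F : Type*} [Field F] (F₀ : Subfield F) :
    Subgroup (Matrix.symplecticGroup (Fin m) F) :=
  (Cfsg.Geo.subfieldSubgroup F₀ (1 : GL (Fin m ⊕ Fin m) F) ⊓ Cfsg.spGL m F).comap (toGL m F)

theorem toGL_coe (A : Sp) : ((toGL m F A : GL (Fin m ⊕ Fin m) F) : MM) = (A : MM) := rfl

theorem mem_Hs_iff (A : Sp) :
    A ∈ Hs m F₀ ↔ toGL m F A ∈ Cfsg.Geo.subfieldSubgroup F₀ (1 : GL (Fin m ⊕ Fin m) F) := by
  unfold Hs
  rw [Subgroup.mem_comap, Subgroup.mem_inf]
  exact ⟨fun h => h.1, fun h => ⟨h, toGL_mem A⟩⟩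

/-- a symplectic matrix preserving rationality lies in the subfield group. -/
theorem mem_Hs_of_rat {A : Sp} (h : ∀ w : V, RatV F₀ w → RatV F₀ ((A : MM) *ᵥ w)) :
    A ∈ Hs m F₀ := by
  rw [mem_Hs_iff]
  apply mem_subfield_one_of (μ := 1) one_ne_zero
  intro w hw
  rw [one_smul, toGL_coe]
  exact h w hw

theorem exists_of_mem_Hs {A : Sp} (h : A ∈ Hs m F₀) :
    ∃ μ : F, μ ≠ 0 ∧ ∀ w : V, RatV F₀ w → RatV F₀ (μ • ((A : MM) *ᵥ w)) := by
  rw [mem_Hs_iff] at h
  exact exists_of_mem_subfield_one h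

theorem exists_irr_Sp (hm : 1 ≤ m) {A : Sp} (h : A ∉ Hs m F₀) :
    ∃ v : V, RatV F₀ v ∧ v ≠ 0 ∧ ¬ PRatV F₀ ((A : MM) *ᵥ v) := by
  rw [mem_Hs_iff] at h
  have : Nonempty (Fin m ⊕ Fin m) := ⟨Sum.inl ⟨0, by omega⟩⟩
  exact exists_irr h

/-- rational transvections lie in the subfield group. -/
theorem T_mem_Hs {w : V} (hw : RatV F₀ w) {c : F} (hc : c ∈ F₀) : T w c ∈ Hs m F₀ := by
  apply mem_Hs_of_rat
  intro x hx
  rw [T_mulVec]
  exact hx.add (RatV.smul (F₀.mul_mem hc (hx.symp hw)) hw)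

theorem siegel_mem_Hs {a b : V} (ha : RatV F₀ a) (hb : RatV F₀ b) : siegel a b ∈ Hs m F₀ := by
  unfold siegel
  rw [prodT_cons, prodT_cons, prodT_cons, prodT_nil, mul_one]
  exact (Hs m F₀).mul_mem (T_mem_Hs (ha.add hb) F₀.one_mem)
    ((Hs m F₀).mul_mem (T_mem_Hs ha (F₀.neg_mem F₀.one_mem))
      (T_mem_Hs hb (F₀.neg_mem F₀.one_mem)))

/-- one rational transvection carries `u` to `u'` when they are not orthogonal. -/
theorem exists_Hs_of_ne_zero {u u' : V} (hu : RatV F₀ u) (hu' : RatV F₀ u')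
    (h : sympForm m F u u' ≠ 0) :
    ∃ g ∈ Hs m F₀, (g : MM) *ᵥ u = u' := by
  refine ⟨T (u - u') (sympForm m F u u')⁻¹, T_mem_Hs (hu.sub hu') (F₀.inv_mem (hu.symp hu')), ?_⟩
  rw [T_mulVec, sympForm_sub_right, sympForm_self, zero_sub, mul_neg, inv_mul_cancel₀ h, neg_smul,
    one_smul]
  abel

/-- the subfield group is transitive on the non-zero rational vectors. -/
theorem exists_Hs_mulVec_eq {u u' : V} (hu : RatV F₀ u) (hu0 : u ≠ 0) (hu' : RatV F₀ u')
    (hu'0 : u' ≠ 0) : ∃ g ∈ Hs m F₀, (g : MM) *ᵥ u = u' := by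
  by_cases h : sympForm m F u u' ≠ 0
  · exact exists_Hs_of_ne_zero hu hu' h
  · push Not at h
    obtain ⟨a, har, ha⟩ := exists_rat_ne_zero (F₀ := F₀) hu0
    obtain ⟨b, hbr, hb⟩ := exists_rat_ne_zero (F₀ := F₀) hu'0
    have hz : ∃ z, RatV F₀ z ∧ sympForm m F u z ≠ 0 ∧ sympForm m F z u' ≠ 0 := by
      by_cases h1 : sympForm m F u' a ≠ 0
      · refine ⟨a, har, ha, ?_⟩
        rw [sympForm_swap]; exact neg_ne_zero.mpr h1
      · push Not at h1
        by_cases h2 : sympForm m F u b ≠ 0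
        · refine ⟨b, hbr, h2, ?_⟩
          rw [sympForm_swap]; exact neg_ne_zero.mpr hb
        · push Not at h2
          refine ⟨a + b, har.add hbr, ?_, ?_⟩
          · rw [sympForm_add_right, h2, add_zero]; exact ha
          · rw [sympForm_swap, sympForm_add_right, h1, zero_add]; exact neg_ne_zero.mpr hb
    obtain ⟨z, hzr, hz1, hz2⟩ := hz
    obtain ⟨g₁, hg₁, e₁⟩ := exists_Hs_of_ne_zero hu hzr hz1
    obtain ⟨g₂, hg₂, e₂⟩ := exists_Hs_of_ne_zero hzr hu' hz2
    refine ⟨g₂ * g₁, (Hs m F₀).mul_mem hg₂ hg₁, ?_⟩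
    rw [coe_mul_mulVec, e₁, e₂]

/-- the parameters of the transvections with rational centre that lie in `M`. -/
def Cc (M : Subgroup Sp) (F₀ : Subfield F) : Set F := {c | ∀ v : V, RatV F₀ v → T v c ∈ M}

theorem Cc_of_one {M : Subgroup Sp} (hM : Hs m F₀ ≤ M) {e : V} (he : RatV F₀ e) (he0 : e ≠ 0)
    {c : F} (h : T e c ∈ M) : c ∈ Cc M F₀ := by
  intro v hv
  by_cases hv0 : v = 0
  · rw [hv0, T_zero_left]; exact M.one_mem
  obtain ⟨g, hg, hge⟩ := exists_Hs_mulVec_eq he he0 hv hv0
  rw [← hge, ← conj_T]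
  exact M.mul_mem (M.mul_mem (hM hg) h) (M.inv_mem (hM hg))

theorem rat_mem_Cc {M : Subgroup Sp} (hM : Hs m F₀ ≤ M) {c : F} (hc : c ∈ F₀) : c ∈ Cc M F₀ :=
  fun _ hv => hM (T_mem_Hs hv hc)

end Cfsg.Agent.Helper7.SpSub
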