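import Mathlib
import Cfsg.Agent.Helper7.SpSubB

set_option autoImplicit false
set_option linter.unusedSectionVars false

/-! Subfield subgroups of the symplectic group, part C: small families of rational vectors with
prescribed pairings, and the elements `T (z + κ e) s * T z (-s)` (helper7). -/

namespace Cfsg.Agent.Helper7.SpSub

open Matrix Cfsg Cfsg.Geo Cfsg.Agent.Helper7.Symp Cfsg.Agent.Helper7.SpMax Cfsg.Agent.S5645

variable {F : Type*} [Field F] {m : ℕ} {F₀ : Subfield F}

local notation "V" => (Fin m ⊕ Fin m → F)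
local notation "Sp" => Matrix.symplecticGroup (Fin m) F
local notation "MM" => Matrix (Fin m ⊕ Fin m) (Fin m ⊕ Fin m) F

/-- prescribed pairings with two independent rational vectors. -/
theorem pairing₂ {e w : V} (he : RatV F₀ e) (hw : RatV F₀ w)
    (hI : ∀ a b : F, a • e + b • w = 0 → a = 0 ∧ b = 0) {c₁ c₂ : F} (hc₁ : c₁ ∈ F₀)
    (hc₂ : c₂ ∈ F₀) :
    ∃ z : V, RatV F₀ z ∧ sympForm m F z e = c₁ ∧ sympForm m F z w = c₂ := by
  obtain ⟨z, hz, h⟩ := exists_rat_pairing (F₀ := F₀) ![e, w]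
    (by intro i; fin_cases i; exact he; exact hw)
    (by
      intro a _ hsum
      rw [Fin.sum_univ_two] at hsum
      obtain ⟨h0, h1⟩ := hI (a 0) (a 1) hsum
      intro i
      fin_cases i
      · exact h0
      · exact h1)
    ![c₁, c₂] (by intro i; fin_cases i; exact hc₁; exact hc₂)
  exact ⟨z, hz, h 0, h 1⟩

/-- prescribed pairings with three independent rational vectors. -/
theorem pairing₃ {e w x : V} (he : RatV F₀ e) (hw : RatV F₀ w) (hx : RatV F₀ x)
    (hI : ∀ a b c : F, a • e + b • w + c • x = 0 → a = 0 ∧ b = 0 ∧ c = 0) {c₁ c₂ c₃ : F}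
    (hc₁ : c₁ ∈ F₀) (hc₂ : c₂ ∈ F₀) (hc₃ : c₃ ∈ F₀) :
    ∃ z : V, RatV F₀ z ∧ sympForm m F z e = c₁ ∧ sympForm m F z w = c₂ ∧
      sympForm m F z x = c₃ := by
  obtain ⟨z, hz, h⟩ := exists_rat_pairing (F₀ := F₀) ![e, w, x]
    (by intro i; fin_cases i; exact he; exact hw; exact hx)
    (by
      intro a _ hsum
      rw [Fin.sum_univ_three] at hsum
      obtain ⟨h0, h1, h2⟩ := hI (a 0) (a 1) (a 2) hsum
      intro i
      fin_cases i
      · exact h0
      · exact h1
      · exact h2)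
    ![c₁, c₂, c₃] (by intro i; fin_cases i; exact hc₁; exact hc₂; exact hc₃)
  exact ⟨z, hz, h 0, h 1, h 2⟩

/-- a non-zero rational vector orthogonal to four given rational vectors. -/
theorem kernel₄ (hm : 3 ≤ m) {x₁ x₂ x₃ x₄ : V} (h₁ : RatV F₀ x₁) (h₂ : RatV F₀ x₂)
    (h₃ : RatV F₀ x₃) (h₄ : RatV F₀ x₄) :
    ∃ z : V, RatV F₀ z ∧ z ≠ 0 ∧ sympForm m F z x₁ = 0 ∧ sympForm m F z x₂ = 0 ∧
      sympForm m F z x₃ = 0 ∧ sympForm m F z x₄ = 0 := by
  obtain ⟨z, hz, hz0, h⟩ := exists_rat_kernel (F₀ := F₀) (k := 4) (by omega) ![x₁, x₂, x₃, x₄]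
    (by intro i; fin_cases i; exact h₁; exact h₂; exact h₃; exact h₄)
  exact ⟨z, hz, hz0, h 0, h 1, h 2, h 3⟩

/-- a rational vector pairing to one with a given non-zero rational vector. -/
theorem exists_rat_partner {e : V} (he : RatV F₀ e) (he0 : e ≠ 0) :
    ∃ f : V, RatV F₀ f ∧ sympForm m F f e = 1 := by
  obtain ⟨y, hy, hey⟩ := exists_rat_ne_zero (F₀ := F₀) he0
  refine ⟨(-(sympForm m F e y)⁻¹) • y, RatV.smul (F₀.neg_mem (F₀.inv_mem (he.symp hy))) hy, ?_⟩
  rw [sympForm_smul_left, sympForm_swap y e, neg_mul_neg, inv_mul_cancel₀ hey]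

/-- in characteristic two over a finite field, square roots of subfield elements lie in the
subfield. -/
theorem sq_not_mem_of_char_two [Finite F] (h2 : (2 : F) = 0) {κ : F} (hκ : κ ∉ F₀) :
    κ * κ ∉ F₀ := by
  intro hmem
  apply hκ
  have hinj : Function.Injective (fun x : F₀ => x * x) := by
    intro x y hxy
    have h1 : ((x : F) - y) * ((x : F) - y) = 0 := by
      have h3 : (x : F) * x = (y : F) * y := by
        have := congrArg (Subtype.val : F₀ → F) hxy
        exact this
      have : ((x : F) - y) * ((x : F) - y) = (x : F) * x + (y : F) * y - 2 * (x * y) := by ring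
      rw [this, h2, zero_mul, sub_zero, h3]
      have : (y : F) * y + y * y = 2 * (y * y) := by ring
      rw [this, h2, zero_mul]
    have h4 : (x : F) - y = 0 := by
      rcases mul_eq_zero.mp h1 with h | h <;> exact h
    apply Subtype.ext
    exact sub_eq_zero.mp h4
  haveI : Finite F₀ := Subtype.finite
  have hsurj := Finite.surjective_of_injective hinj
  obtain ⟨ν, hν⟩ := hsurj ⟨κ * κ, hmem⟩
  have hν' : (ν : F) * ν = κ * κ := congrArg (Subtype.val : F₀ → F) hν
  have h1 : (κ - ν) * (κ - ν) = 0 := by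
    have : (κ - ν) * (κ - (ν : F)) = κ * κ + (ν : F) * ν - 2 * (κ * ν) := by ring
    rw [this, h2, zero_mul, sub_zero, hν']
    have : κ * κ + κ * κ = 2 * (κ * κ) := by ring
    rw [this, h2, zero_mul]
  have h4 : κ - ν = 0 := by
    rcases mul_eq_zero.mp h1 with h | h <;> exact h
  rw [sub_eq_zero.mp h4]
  exact ν.2

/-- conjugating a Siegel element. -/
theorem conj_siegel (g : Sp) (a b : V) :
    g * siegel a b * g⁻¹ = siegel ((g : MM) *ᵥ a) ((g : MM) *ᵥ b) := by
  unfold siegel
  rw [prodT_cons, prodT_cons, prodT_cons, prodT_nil, prodT_cons, prodT_cons, prodT_cons,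
    prodT_nil, mul_one, mul_one, ← mulVec_add, ← conj_T, ← conj_T, ← conj_T]
  group

/-- the element `T (z + κ e) s * T z (-s)`. -/
noncomputable def Eel (e z : V) (κ s : F) : Sp := T (z + κ • e) s * T z (-s)

theorem Eel_mulVec {e z : V} (hze : sympForm m F z e = 0) (κ s : F) (v : V) :
    (Eel e z κ s : MM) *ᵥ v = v + (s * κ * sympForm m F v e) • z +
      (s * κ * sympForm m F v z) • e + (s * κ * κ * sympForm m F v e) • e := by
  unfold Eel
  rw [coe_mul_mulVec, T_mulVec, T_mulVec]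
  simp only [sympForm_add_left, sympForm_add_right, sympForm_smul_left, sympForm_smul_right,
    sympForm_self, hze, mul_zero, add_zero, zero_add]
  module

/-- passing from one such element to another. -/
theorem Eel_mem_of {M : Subgroup Sp} (hM : Hs m F₀ ≤ M) {e x z : V} {κ s : F} (hs : s ∈ F₀)
    (hxe : sympForm m F x e = 0) (hz : RatV F₀ z) (hze : sympForm m F z e = 0)
    (hzx : s * sympForm m F z x = 1) (hx : Eel e x κ s ∈ M) : Eel e z κ s ∈ M := by
  have h1 : (Eel e x κ s : MM) *ᵥ z = z + κ • e := by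
    rw [Eel_mulVec hxe, hze, mul_zero, zero_smul, mul_zero, zero_smul, add_zero, add_zero]
    have e1 : s * κ * sympForm m F z x = κ := by
      rw [mul_assoc, mul_comm κ, ← mul_assoc, hzx, one_mul]
    rw [e1]
  have h2 : T (z + κ • e) s ∈ M := by
    rw [← h1, ← conj_T]
    exact M.mul_mem (M.mul_mem hx (hM (T_mem_Hs hz hs))) (M.inv_mem hx)
  unfold Eel
  exact M.mul_mem h2 (hM (T_mem_Hs hz (F₀.neg_mem hs)))

/-- the product rule for these elements along orthogonal vectors. -/
theorem Eel_mul {e z₁ z₂ : V} (h1 : sympForm m F z₁ e = 0) (h2 : sympForm m F z₂ e = 0)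
    (h21 : sympForm m F z₂ z₁ = 0) (κ s : F) :
    Eel e z₁ κ s * Eel e z₂ κ s = Eel e (z₁ + z₂) κ s * T e (s * κ * κ) := by
  have h1' : sympForm m F e z₁ = 0 := by rw [sympForm_swap, h1, neg_zero]
  have h2' : sympForm m F e z₂ = 0 := by rw [sympForm_swap, h2, neg_zero]
  have h12 : sympForm m F (z₁ + z₂) e = 0 := by rw [sympForm_add_left, h1, h2, add_zero]
  apply ext_mulVec
  intro v
  rw [coe_mul_mulVec, coe_mul_mulVec, Eel_mulVec h2, Eel_mulVec h1, T_mulVec, Eel_mulVec h12]
  simp only [sympForm_add_left, sympForm_add_right, sympForm_smul_left, sympForm_smul_right,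
    sympForm_self, h1, h2, h21, h1', h2', mul_zero, add_zero, zero_add]
  module

end Cfsg.Agent.Helper7.SpSub
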