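import Mathlib
import Cfsg.Agent.Helper7.SpSubC

set_option autoImplicit false
set_option linter.unusedSectionVars false

/-! Subfield subgroups of the symplectic group, part D: a transvection whose centre is an
irrational point of a rational isotropic line, or is orthogonal to a rational vector, forces an
irrational parameter on a rational centre (helper7). -/

namespace Cfsg.Agent.Helper7.SpSub

open Matrix Cfsg Cfsg.Geo Cfsg.Agent.Helper7.Symp Cfsg.Agent.Helper7.SpMax Cfsg.Agent.S5645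

variable {F : Type*} [Field F] {m : ℕ} {F₀ : Subfield F}

local notation "V" => (Fin m ⊕ Fin m → F)
local notation "Sp" => Matrix.symplecticGroup (Fin m) F
local notation "MM" => Matrix (Fin m ⊕ Fin m) (Fin m ⊕ Fin m) F

/-- irrational point of a rational isotropic line, characteristic two. -/
theorem line_char_two [Finite F] (hm : 3 ≤ m) (h2 : (2 : F) = 0) {M : Subgroup Sp}
    (hM : Hs m F₀ ≤ M) {e w : V} (he : RatV F₀ e) (hw : RatV F₀ w)
    (hwe : sympForm m F w e = 0) (hI : ∀ a b : F, a • e + b • w = 0 → a = 0 ∧ b = 0)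
    {κ s : F} (hκ : κ ∉ F₀) (hs : s ∈ F₀) (hs0 : s ≠ 0) (hT : T (w + κ • e) s ∈ M) :
    ∃ c : F, c ∉ F₀ ∧ c ∈ Cc M F₀ := by
  have he0 : e ≠ 0 := by
    rintro rfl
    have := (hI 1 0 (by simp)).1
    exact one_ne_zero this
  have hw0 : w ≠ 0 := by
    rintro rfl
    have := (hI 0 1 (by simp)).2
    exact one_ne_zero this
  have hew : sympForm m F e w = 0 := by rw [sympForm_swap, hwe, neg_zero]
  obtain ⟨t, ht⟩ : ∃ t : F, t = s⁻¹ := ⟨_, rfl⟩
  have htF : t ∈ F₀ := by rw [ht]; exact F₀.inv_mem hs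
  have hst : s * t = 1 := by rw [ht, mul_inv_cancel₀ hs0]
  -- auxiliary rational vectors
  obtain ⟨f, hf, hfe, hfw⟩ := pairing₂ he hw hI F₀.one_mem F₀.zero_mem
  obtain ⟨x₁, hx₁, hx₁e, hx₁w⟩ := pairing₂ he hw hI F₀.zero_mem htF
  obtain ⟨a, ha, ha0, hae, haf, haw, hax⟩ := kernel₄ hm he hf hw hx₁
  have hI3 : ∀ p q r : F, p • e + q • w + r • a = 0 → p = 0 ∧ q = 0 ∧ r = 0 := by
    intro p q r h
    have h1 := congrArg (fun v => sympForm m F f v) h
    simp only [sympForm_add_right, sympForm_smul_right, hfe, hfw, sympForm_zero_right] at h1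
    rw [sympForm_swap f a, haf] at h1
    have hp : p = 0 := by linear_combination h1
    have h2' := congrArg (fun v => sympForm m F x₁ v) h
    simp only [sympForm_add_right, sympForm_smul_right, hx₁e, hx₁w, sympForm_zero_right] at h2'
    rw [sympForm_swap x₁ a, hax] at h2'
    have hq : q = 0 := by
      have : q * t = 0 := by linear_combination h2'
      have ht0 : t ≠ 0 := by rw [ht]; exact inv_ne_zero hs0
      exact (mul_eq_zero.mp this).resolve_right ht0
    rw [hp, hq, zero_smul, zero_smul, zero_add, zero_add] at h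
    have hr : r = 0 := (smul_eq_zero.mp h).resolve_right ha0
    exact ⟨hp, hq, hr⟩
  obtain ⟨b, hb, hbe, hbw, hba⟩ := pairing₃ he hw ha hI3 F₀.zero_mem F₀.zero_mem htF
  -- the elements
  have hEw : Eel e w κ s ∈ M := by
    unfold Eel
    exact M.mul_mem hT (hM (T_mem_Hs hw (F₀.neg_mem hs)))
  have hEx₁ : Eel e x₁ κ s ∈ M :=
    Eel_mem_of hM hs hwe hx₁ hx₁e (by rw [hx₁w, hst]) hEw
  have hxb_e : sympForm m F (x₁ - b) e = 0 := by rw [sympForm_sub_left, hx₁e, hbe, sub_zero]
  have hExb : Eel e (x₁ - b) κ s ∈ M :=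
    Eel_mem_of hM hs hwe (hx₁.sub hb) hxb_e
      (by rw [sympForm_sub_left, hx₁w, hbw, sub_zero, hst]) hEw
  have hEa : Eel e a κ s ∈ M :=
    Eel_mem_of hM hs hxb_e ha hae
      (by rw [sympForm_sub_right, hax, sympForm_swap a b, hba, zero_sub, neg_neg, hst]) hExb
  have hxa_e : sympForm m F (x₁ + a) e = 0 := by rw [sympForm_add_left, hx₁e, hae, add_zero]
  have hExa : Eel e (x₁ + a) κ s ∈ M :=
    Eel_mem_of hM hs hwe (hx₁.add ha) hxa_e
      (by rw [sympForm_add_left, hx₁w, haw, add_zero, hst]) hEw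
  have hprod := Eel_mul hx₁e hae hax κ s
  have hTe : T e (s * κ * κ) ∈ M := by
    have : T e (s * κ * κ) = (Eel e (x₁ + a) κ s)⁻¹ * (Eel e x₁ κ s * Eel e a κ s) := by
      rw [hprod]; group
    rw [this]
    exact M.mul_mem (M.inv_mem hExa) (M.mul_mem hEx₁ hEa)
  refine ⟨s * κ * κ, ?_, Cc_of_one hM he he0 hTe⟩
  intro hmem
  apply sq_not_mem_of_char_two h2 hκ (F₀ := F₀)
  have : κ * κ = s⁻¹ * (s * κ * κ) := by
    rw [mul_assoc s, ← mul_assoc, inv_mul_cancel₀ hs0, one_mul]
  rw [this]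
  exact F₀.mul_mem (F₀.inv_mem hs) hmem

/-- irrational point of a rational isotropic line, odd characteristic. -/
theorem line_odd (h2 : (2 : F) ≠ 0) {M : Subgroup Sp}
    (hM : Hs m F₀ ≤ M) {e w : V} (he : RatV F₀ e) (hw : RatV F₀ w)
    (hwe : sympForm m F w e = 0) (hI : ∀ a b : F, a • e + b • w = 0 → a = 0 ∧ b = 0)
    {κ s : F} (hκ : κ ∉ F₀) (hs : s ∈ F₀) (hs0 : s ≠ 0) (hT : T (w + κ • e) s ∈ M) :
    ∃ c : F, c ∉ F₀ ∧ c ∈ Cc M F₀ := by
  have he0 : e ≠ 0 := by
    rintro rfl
    have := (hI 1 0 (by simp)).1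
    exact one_ne_zero this
  have hew : sympForm m F e w = 0 := by rw [sympForm_swap, hwe, neg_zero]
  obtain ⟨y, hy, hye, hyw⟩ := pairing₂ he hw hI F₀.zero_mem F₀.one_mem
  have hey : sympForm m F e y = 0 := by rw [sympForm_swap, hye, neg_zero]
  have hwy : sympForm m F w y = -1 := by rw [sympForm_swap, hyw]
  have hEw : Eel e w κ s ∈ M := by
    unfold Eel
    exact M.mul_mem hT (hM (T_mem_Hs hw (F₀.neg_mem hs)))
  have hS : siegel e y ∈ M := hM (siegel_mem_Hs he hy)
  have hcomm : Eel e w κ s * siegel e y = T e (2 * s * κ) * (siegel e y * Eel e w κ s) := by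
    apply ext_mulVec
    intro v
    rw [coe_mul_mulVec, coe_mul_mulVec, coe_mul_mulVec, siegel_mulVec hey, Eel_mulVec hwe,
      Eel_mulVec hwe, siegel_mulVec hey, T_mulVec]
    simp only [sympForm_add_left, sympForm_add_right, sympForm_smul_left, sympForm_smul_right,
      sympForm_self, hye, hyw, hwe, hew, hey, hwy, mul_zero, add_zero, zero_add, mul_one]
    module
  have hTe : T e (2 * s * κ) ∈ M := by
    have : T e (2 * s * κ) = Eel e w κ s * siegel e y * (siegel e y * Eel e w κ s)⁻¹ := by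
      rw [hcomm]; group
    rw [this]
    exact M.mul_mem (M.mul_mem hEw hS) (M.inv_mem (M.mul_mem hS hEw))
  refine ⟨2 * s * κ, ?_, Cc_of_one hM he he0 hTe⟩
  intro hmem
  apply hκ
  have h2m : (2 : F) ∈ F₀ := by
    have : (2 : F) = 1 + 1 := by norm_num
    rw [this]; exact F₀.add_mem F₀.one_mem F₀.one_mem
  have h2s : 2 * s ≠ 0 := mul_ne_zero h2 hs0
  have : κ = (2 * s)⁻¹ * (2 * s * κ) := by
    rw [← mul_assoc, inv_mul_cancel₀ h2s, one_mul]
  rw [this]
  exact F₀.mul_mem (F₀.inv_mem (F₀.mul_mem h2m hs)) hmem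

/-- irrational point of a rational isotropic line. -/
theorem line_irr [Finite F] (hm : 3 ≤ m) {M : Subgroup Sp}
    (hM : Hs m F₀ ≤ M) {e w : V} (he : RatV F₀ e) (hw : RatV F₀ w)
    (hwe : sympForm m F w e = 0) (hI : ∀ a b : F, a • e + b • w = 0 → a = 0 ∧ b = 0)
    {κ s : F} (hκ : κ ∉ F₀) (hs : s ∈ F₀) (hs0 : s ≠ 0) (hT : T (w + κ • e) s ∈ M) :
    ∃ c : F, c ∉ F₀ ∧ c ∈ Cc M F₀ := by
  by_cases h2 : (2 : F) = 0
  · exact line_char_two hm h2 hM he hw hwe hI hκ hs hs0 hT
  · exact line_odd h2 hM he hw hwe hI hκ hs hs0 hT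

/-- a vector all of whose pairings with the rational vectors orthogonal to `e` are rational
is rational up to a multiple of `e`. -/
theorem rat_mod_of_pairings {e y : V} (he : RatV F₀ e) (he0 : e ≠ 0)
    (h : ∀ w : V, RatV F₀ w → sympForm m F w e = 0 → sympForm m F w y ∈ F₀) :
    ∃ (y₀ : V) (lam : F), RatV F₀ y₀ ∧ y = y₀ + lam • e := by
  obtain ⟨f, hf, hfe⟩ := exists_rat_partner he he0
  obtain ⟨φ, hφ⟩ : ∃ φ : V →ₗ[F] F, φ = sympFormL m F y - (sympForm m F f y) • sympFormL m F e :=
    ⟨_, rfl⟩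
  have hφx : ∀ x : V, φ x = sympForm m F (x - (sympForm m F x e) • f) y := by
    intro x
    rw [hφ, LinearMap.sub_apply, LinearMap.smul_apply, sympFormL_apply, sympFormL_apply,
      sympForm_sub_left, sympForm_smul_left, smul_eq_mul, mul_comm]
  obtain ⟨y₀, hy₀, hy₀x⟩ := exists_riesz (F₀ := F₀) φ (by
    intro k
    rw [hφx]
    have hr : RatV F₀ (Pi.single k 1 : V) := RatV.single k F₀.one_mem
    apply h _ (hr.sub (RatV.smul (hr.symp he) hf))
    rw [sympForm_sub_left, sympForm_smul_left, hfe, mul_one, sub_self])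
  refine ⟨y₀, sympForm m F f y, hy₀, ?_⟩
  have hz : y - (y₀ + (sympForm m F f y) • e) = 0 := by
    apply eq_zero_of_perp_rat (F₀ := F₀)
    intro x _
    rw [sympForm_sub_right, sympForm_add_right, hy₀x, hφx, sympForm_sub_left,
      sympForm_smul_left, sympForm_smul_right]
    ring
  exact sub_eq_zero.mp hz

/-- a Siegel element along a rational vector with irrational second parameter. -/
theorem siegel_nonrat [Finite F] (hm : 3 ≤ m) {M : Subgroup Sp} (hM : Hs m F₀ ≤ M)
    {e y : V} (he : RatV F₀ e) (he0 : e ≠ 0) (hey : sympForm m F e y = 0)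
    (hS : siegel e y ∈ M)
    (hy : ¬ ∃ (y₀ : V) (lam : F), RatV F₀ y₀ ∧ y = y₀ + lam • e) :
    ∃ c : F, c ∉ F₀ ∧ c ∈ Cc M F₀ := by
  have hex : ∃ w : V, RatV F₀ w ∧ sympForm m F w e = 0 ∧ sympForm m F w y ∉ F₀ := by
    by_contra hcon
    push Not at hcon
    exact hy (rat_mod_of_pairings he he0 hcon)
  obtain ⟨w, hw, hwe, hκ⟩ := hex
  have hI : ∀ a b : F, a • e + b • w = 0 → a = 0 ∧ b = 0 := by
    intro a b hab
    have hb : b = 0 := by
      by_contra hb
      apply hκ
      have h1 := congrArg (fun v => sympForm m F v y) hab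
      simp only [sympForm_add_left, sympForm_smul_left, hey, mul_zero, zero_add,
        sympForm_zero_left] at h1
      have : sympForm m F w y = 0 := (mul_eq_zero.mp h1).resolve_left hb
      rw [this]; exact F₀.zero_mem
    rw [hb, zero_smul, add_zero] at hab
    exact ⟨(smul_eq_zero.mp hab).resolve_right he0, hb⟩
  have h1 : (siegel e y : MM) *ᵥ w = w + (sympForm m F w y) • e := by
    rw [siegel_mulVec hey, hwe, zero_smul, zero_add]
  have hT : T (w + (sympForm m F w y) • e) 1 ∈ M := by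
    rw [← h1, ← conj_T]
    exact M.mul_mem (M.mul_mem hS (hM (T_mem_Hs hw F₀.one_mem))) (M.inv_mem hS)
  exact line_irr hm hM he hw hwe hI hκ F₀.one_mem one_ne_zero hT

/-- a transvection in `M` with irrational centre orthogonal to a rational vector. -/
theorem caseA [Finite F] (hm : 3 ≤ m) {M : Subgroup Sp} (hM : Hs m F₀ ≤ M)
    {u e : V} {a : F} (ha : a ≠ 0) (hT : T u a ∈ M) (hu : ¬ PRatV F₀ u)
    (he : RatV F₀ e) (he0 : e ≠ 0) (hue : sympForm m F u e = 0) :
    ∃ c : F, c ∉ F₀ ∧ c ∈ Cc M F₀ := by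
  have heu : sympForm m F e u = 0 := by rw [sympForm_swap, hue, neg_zero]
  have hTe : (T u a : MM) *ᵥ e = e := by
    rw [T_mulVec, heu, mul_zero, zero_smul, add_zero]
  by_cases hA1 : ∃ y' : V, RatV F₀ y' ∧ sympForm m F y' e = 0 ∧
      ¬ ∃ (y₀ : V) (lam : F), RatV F₀ y₀ ∧ (a * sympForm m F y' u) • u = y₀ + lam • e
  · obtain ⟨y', hy', hy'e, hno⟩ := hA1
    have hey' : sympForm m F e y' = 0 := by rw [sympForm_swap, hy'e, neg_zero]
    have hS : siegel e (y' + (a * sympForm m F y' u) • u) ∈ M := by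
      have h1 := conj_siegel (T u a) e y'
      rw [hTe, T_mulVec] at h1
      rw [← h1]
      exact M.mul_mem (M.mul_mem hT (hM (siegel_mem_Hs he hy'))) (M.inv_mem hT)
    apply siegel_nonrat hm hM he he0 _ hS
    · rintro ⟨y₀, lam, hy₀, hy⟩
      apply hno
      refine ⟨y₀ - y', lam, hy₀.sub hy', ?_⟩
      rw [← sub_eq_iff_eq_add'] at hy
      rw [← hy]
      abel
    · rw [sympForm_add_right, sympForm_smul_right, hey', heu, mul_zero, add_zero]
  · push Not at hA1
    have hmult : ∀ c : F, u = c • e → False := by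
      intro c hc
      apply hu
      by_cases hc0 : c = 0
      · rw [hc, hc0, zero_smul]; exact RatV.zero.pRatV
      · refine ⟨c⁻¹, inv_ne_zero hc0, ?_⟩
        rw [hc, smul_smul, inv_mul_cancel₀ hc0, one_smul]
        exact he
    -- a rational vector orthogonal to `e` and not to `u`
    have hex : ∃ y' : V, RatV F₀ y' ∧ sympForm m F y' e = 0 ∧ sympForm m F y' u ≠ 0 := by
      by_contra hcon
      push Not at hcon
      obtain ⟨f, hf, hfe⟩ := exists_rat_partner he he0
      apply hmult (sympForm m F f u)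
      have hz : u - (sympForm m F f u) • e = 0 := by
        apply eq_zero_of_perp_rat (F₀ := F₀)
        intro x hx
        have hxr : RatV F₀ (x - (sympForm m F x e) • f) := hx.sub (RatV.smul (hx.symp he) hf)
        have h1 := hcon _ hxr (by
          rw [sympForm_sub_left, sympForm_smul_left, hfe, mul_one, sub_self])
        rw [sympForm_sub_left, sympForm_smul_left] at h1
        rw [sympForm_sub_right, sympForm_smul_right]
        linear_combination h1
      exact sub_eq_zero.mp hz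
    obtain ⟨y', hy', hy'e, hy'u⟩ := hex
    obtain ⟨α, hα⟩ : ∃ α : F, α = a * sympForm m F y' u := ⟨_, rfl⟩
    have hα0 : α ≠ 0 := by rw [hα]; exact mul_ne_zero ha hy'u
    obtain ⟨v₀, lam, hv₀, hαu⟩ := hA1 y' hy' hy'e
    rw [← hα] at hαu
    have hv₀e : sympForm m F v₀ e = 0 := by
      have h1 := congrArg (fun v => sympForm m F v e) hαu
      simp only [sympForm_smul_left, sympForm_add_left, hue, mul_zero, sympForm_self,
        add_zero] at h1
      exact h1.symm
    have hlam : lam ∉ F₀ := by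
      intro hl
      apply hu
      refine ⟨α, hα0, ?_⟩
      rw [hαu]
      exact hv₀.add (RatV.smul hl he)
    have hI : ∀ p q : F, p • e + q • v₀ = 0 → p = 0 ∧ q = 0 := by
      intro p q hpq
      have hq : q = 0 := by
        by_contra hq
        apply hmult (α⁻¹ * (lam - q⁻¹ * p))
        have hv : v₀ = (-(q⁻¹ * p)) • e := by
          have h1 : q • v₀ = (-p) • e := by
            rw [neg_smul]
            exact eq_neg_of_add_eq_zero_right hpq
          have h2 := congrArg (fun v => q⁻¹ • v) h1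
          simp only [smul_smul, inv_mul_cancel₀ hq, one_smul] at h2
          rw [h2]
          congr 1
          ring
        have h3 : u = α⁻¹ • (α • u) := by rw [smul_smul, inv_mul_cancel₀ hα0, one_smul]
        rw [h3, hαu, hv, smul_add, smul_smul, smul_smul, ← add_smul]
        congr 1
        ring
      rw [hq, zero_smul, add_zero] at hpq
      exact ⟨(smul_eq_zero.mp hpq).resolve_right he0, hq⟩
    obtain ⟨y'', hy'', hy''e, hy''v⟩ := pairing₂ he hv₀ hI F₀.zero_mem F₀.one_mem
    have hy''u : sympForm m F y'' u = α⁻¹ := by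
      have h1 := congrArg (fun v => sympForm m F y'' v) hαu
      simp only [sympForm_smul_right, sympForm_add_right, hy''e, hy''v, mul_zero, add_zero] at h1
      apply eq_inv_of_mul_eq_one_left
      rw [mul_comm]
      exact h1
    obtain ⟨y₁, lam₁, hy₁, hy₁u⟩ := hA1 y'' hy'' hy''e
    obtain ⟨s, hs⟩ : ∃ s : F, s = α⁻¹ * α⁻¹ * a := ⟨_, rfl⟩
    have hsF : s ∈ F₀ := by
      have h1 := congrArg (fun v => sympForm m F y'' v) hy₁u
      simp only [sympForm_smul_right, sympForm_add_right, hy''e, mul_zero, add_zero, hy''u] at h1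
      have : s = sympForm m F y'' y₁ := by
        rw [← h1, hs]; ring
      rw [this]
      exact hy''.symp hy₁
    have hs0 : s ≠ 0 := by
      rw [hs]
      exact mul_ne_zero (mul_ne_zero (inv_ne_zero hα0) (inv_ne_zero hα0)) ha
    have hT' : T (v₀ + lam • e) s ∈ M := by
      have h3 : u = α⁻¹ • (v₀ + lam • e) := by
        rw [← hαu, smul_smul, inv_mul_cancel₀ hα0, one_smul]
      rw [hs, ← T_smul, ← h3]
      exact hT
    exact line_irr hm hM he hv₀ hv₀e hI hlam hsF hs0 hT'

end Cfsg.Agent.Helper7.SpSub
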