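import Mathlib
import Cfsg.Agent.Helper7.SpSubD
import Cfsg.Agent.Helper7.SubLG
import Cfsg.Agent.Lead.DicksonA

set_option autoImplicit false
set_option linter.unusedSectionVars false

/-! Subfield subgroups of the symplectic group, part E: the matrices induced on a plane (modulo
a fixed vector) by the elements of a subgroup (helper7). -/

namespace Cfsg.Agent.Helper7.SpSub

open Matrix Cfsg Cfsg.Geo Cfsg.Agent.Helper7.Symp Cfsg.Agent.Helper7.SpMax Cfsg.Agent.S5645
  Cfsg.Agent.Lead.DicksonA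
open scoped MatrixGroups

variable {F : Type*} [Field F] {m : ℕ} {F₀ : Subfield F}

local notation "V" => (Fin m ⊕ Fin m → F)
local notation "Sp" => Matrix.symplecticGroup (Fin m) F
local notation "MM" => Matrix (Fin m ⊕ Fin m) (Fin m ⊕ Fin m) F

/-- the pairs (element, induced matrix): the element fixes the vectors in `Fx` (among them
`z`), and acts on `w`, `u` through the matrix modulo `z`. -/
def relSp (w u z : V) (Fx : V → Prop) (hz : Fx z) : Submonoid (Sp × SL(2, F)) where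
  carrier := {x | (∀ y, Fx y → (x.1 : MM) *ᵥ y = y) ∧
    (∃ p : F, (x.1 : MM) *ᵥ w = x.2.1 0 0 • w + x.2.1 1 0 • u + p • z) ∧
    (∃ q : F, (x.1 : MM) *ᵥ u = x.2.1 0 1 • w + x.2.1 1 1 • u + q • z)}
  one_mem' := by
    refine ⟨fun y _ => ?_, ⟨0, ?_⟩, ⟨0, ?_⟩⟩
    · rw [Prod.fst_one, coe_one_mulVec]
    · rw [Prod.fst_one, coe_one_mulVec, Prod.snd_one, one_00, one_10, one_smul, zero_smul,
        zero_smul, add_zero, add_zero]
    · rw [Prod.fst_one, coe_one_mulVec, Prod.snd_one, one_01, one_11, one_smul, zero_smul,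
        zero_smul, zero_add, add_zero]
  mul_mem' := by
    rintro ⟨g, A⟩ ⟨h, C⟩ ⟨hg1, ⟨p, hg2⟩, ⟨q, hg3⟩⟩ ⟨hh1, ⟨p', hh2⟩, ⟨q', hh3⟩⟩
    have hgz : (g : MM) *ᵥ z = z := hg1 z hz
    simp only at hg2 hg3 hh2 hh3
    refine ⟨fun y hy => ?_, ⟨C.1 0 0 * p + C.1 1 0 * q + p', ?_⟩,
      ⟨C.1 0 1 * p + C.1 1 1 * q + q', ?_⟩⟩
    · show ((g * h : Sp) : MM) *ᵥ y = y
      rw [coe_mul_mulVec, hh1 y hy, hg1 y hy]
    · show ((g * h : Sp) : MM) *ᵥ w = (A * C).1 0 0 • w + (A * C).1 1 0 • u + _ • z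
      rw [coe_mul_mulVec, hh2, mulVec_add, mulVec_add, mulVec_smul, mulVec_smul, mulVec_smul,
        hg2, hg3, hgz, mul_00, mul_10]
      module
    · show ((g * h : Sp) : MM) *ᵥ u = (A * C).1 0 1 • w + (A * C).1 1 1 • u + _ • z
      rw [coe_mul_mulVec, hh3, mulVec_add, mulVec_add, mulVec_smul, mulVec_smul, mulVec_smul,
        hg2, hg3, hgz, mul_01, mul_11]
      module

/-- the induced matrices of the elements of `M`. -/
def indSp [Finite F] (M : Subgroup Sp) (w u z : V) (Fx : V → Prop) (hz : Fx z) :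
    Subgroup SL(2, F) where
  carrier := {A | ∃ g ∈ M, (g, A) ∈ relSp w u z Fx hz}
  one_mem' := ⟨1, M.one_mem, (relSp w u z Fx hz).one_mem⟩
  mul_mem' := by
    rintro A C ⟨g, hg, hgA⟩ ⟨g', hg', hgC⟩
    exact ⟨g * g', M.mul_mem hg hg', (relSp w u z Fx hz).mul_mem hgA hgC⟩
  inv_mem' := by
    rintro A ⟨g, hg, hgA⟩
    haveI : Finite SL(2, F) := Subtype.finite
    haveI : Finite Sp := Subtype.finite
    haveI : Finite (Sp × SL(2, F)) := inferInstance
    have h1 := Cfsg.Agent.Helper7.SubL.inv_mem_of_finite (relSp w u z Fx hz) hgA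
    rw [Prod.inv_mk] at h1
    exact ⟨g⁻¹, M.inv_mem hg, h1⟩

theorem mem_indSp [Finite F] (M : Subgroup Sp) (w u z : V) (Fx : V → Prop) (hz : Fx z)
    (A : SL(2, F)) :
    A ∈ indSp M w u z Fx hz ↔ ∃ g ∈ M, (∀ y, Fx y → (g : MM) *ᵥ y = y) ∧
      (∃ p : F, (g : MM) *ᵥ w = A.1 0 0 • w + A.1 1 0 • u + p • z) ∧
      (∃ q : F, (g : MM) *ᵥ u = A.1 0 1 • w + A.1 1 1 • u + q • z) := Iff.rfl

/-- a transvection with centre `μ w + ν z` induces an upper unitriangular matrix. -/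
theorem uu_mem_indSp [Finite F] {M : Subgroup Sp} {w u z : V} {Fx : V → Prop} (hz : Fx z)
    {w' : V} {μ ν c : F} (hw' : w' = μ • w + ν • z) (hwz : sympForm m F w z = 0)
    (hF : ∀ y, Fx y → sympForm m F y w' = 0) (hT : T w' c ∈ M) :
    uu (c * μ * sympForm m F u w') ∈ indSp M w u z Fx hz := by
  rw [mem_indSp]
  refine ⟨T w' c, hT, fun y hy => ?_, ⟨0, ?_⟩, ⟨c * ν * sympForm m F u w', ?_⟩⟩
  · rw [T_mulVec, hF y hy, mul_zero, zero_smul, add_zero]
  · have h1 : sympForm m F w w' = 0 := by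
      rw [hw', sympForm_add_right, sympForm_smul_right, sympForm_smul_right, sympForm_self, hwz,
        mul_zero, mul_zero, add_zero]
    rw [T_mulVec, h1, mul_zero, zero_smul, add_zero, uu_00, uu_10, one_smul, zero_smul, zero_smul,
      add_zero, add_zero]
  · rw [T_mulVec, uu_01, uu_11, one_smul]
    obtain ⟨b, hb⟩ : ∃ b : F, b = sympForm m F u w' := ⟨_, rfl⟩
    rw [← hb, hw']
    module

/-- a transvection with centre `u` induces a lower unitriangular matrix. -/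
theorem ll_mem_indSp [Finite F] {M : Subgroup Sp} {w u z : V} {Fx : V → Prop} (hz : Fx z)
    {a : F} (hF : ∀ y, Fx y → sympForm m F y u = 0) (hT : T u a ∈ M) :
    ll (a * sympForm m F w u) ∈ indSp M w u z Fx hz := by
  rw [mem_indSp]
  refine ⟨T u a, hT, fun y hy => ?_, ⟨0, ?_⟩, ⟨0, ?_⟩⟩
  · rw [T_mulVec, hF y hy, mul_zero, zero_smul, add_zero]
  · rw [T_mulVec, ll_00, ll_10, one_smul, zero_smul, add_zero]
  · rw [T_mulVec, sympForm_self, mul_zero, zero_smul, add_zero, ll_01, ll_11, one_smul, zero_smul,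
      zero_smul, zero_add, add_zero]

/-- an element fixing the orthogonal complement of a non-degenerate plane and inducing an
upper unitriangular matrix on it is a transvection. -/
theorem eq_T_of_uu {g : Sp} {w u : V} {x : F} (hβ : sympForm m F w u ≠ 0)
    (hfix : ∀ y, (sympForm m F y w = 0 ∧ sympForm m F y u = 0) → (g : MM) *ᵥ y = y)
    (hw : (g : MM) *ᵥ w = w) (hu : (g : MM) *ᵥ u = x • w + u) :
    g = T w (-x / sympForm m F w u) := by
  apply ext_mulVec
  intro v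
  obtain ⟨β, hβd⟩ : ∃ β : F, β = sympForm m F w u := ⟨_, rfl⟩
  rw [← hβd] at hβ ⊢
  obtain ⟨c₁, hc₁⟩ : ∃ c₁ : F, c₁ = sympForm m F v u / β := ⟨_, rfl⟩
  obtain ⟨c₂, hc₂⟩ : ∃ c₂ : F, c₂ = sympForm m F w v / β := ⟨_, rfl⟩
  obtain ⟨v', hv'⟩ : ∃ v' : V, v' = v - c₁ • w - c₂ • u := ⟨_, rfl⟩
  have huw : sympForm m F u w = -β := by rw [sympForm_swap, hβd]
  have hvw : sympForm m F v w = -sympForm m F w v := sympForm_swap v w
  have h1 : sympForm m F v' w = 0 := by
    rw [hv', sympForm_sub_left, sympForm_sub_left, sympForm_smul_left, sympForm_smul_left,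
      sympForm_self, huw, hc₂, hvw]
    field_simp
    ring
  have h2 : sympForm m F v' u = 0 := by
    rw [hv', sympForm_sub_left, sympForm_sub_left, sympForm_smul_left, sympForm_smul_left,
      sympForm_self, ← hβd, hc₁]
    field_simp
    ring
  have hv : v = c₁ • w + c₂ • u + v' := by rw [hv']; abel
  have hgv : (g : MM) *ᵥ v = c₁ • w + c₂ • (x • w + u) + v' := by
    conv_lhs => rw [hv]
    rw [mulVec_add, mulVec_add, mulVec_smul, mulVec_smul, hw, hu, hfix v' ⟨h1, h2⟩]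
  rw [hgv, T_mulVec, hvw]
  have e : -x / β * -sympForm m F w v = c₂ * x := by
    rw [hc₂]; field_simp
  rw [e]
  conv_rhs => rw [hv]
  module

end Cfsg.Agent.Helper7.SpSub
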