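import Mathlib
import Cfsg.Agent.Helper7.SpSubE
import Cfsg.Agent.Helper7.SubLF
import Cfsg.Agent.Helper7.SubLB

set_option autoImplicit false
set_option linter.unusedSectionVars false

/-! Subfield subgroups of the symplectic group, part F: characteristic two, a transvection in
`M` whose centre is orthogonal to no rational vector (helper7). -/

namespace Cfsg.Agent.Helper7.SpSub

open Matrix Cfsg Cfsg.Geo Cfsg.Agent.Helper7.Symp Cfsg.Agent.Helper7.SpMax Cfsg.Agent.S5645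
  Cfsg.Agent.Lead.DicksonA
open scoped MatrixGroups

variable {F : Type*} [Field F] {m : ℕ} {F₀ : Subfield F}

local notation "V" => (Fin m ⊕ Fin m → F)
local notation "Sp" => Matrix.symplecticGroup (Fin m) F
local notation "MM" => Matrix (Fin m ⊕ Fin m) (Fin m ⊕ Fin m) F

theorem sympForm_inl_inl (i j : Fin m) :
    sympForm m F (Pi.single (Sum.inl i) 1) (Pi.single (Sum.inl j) 1) = 0 := by
  rw [Cfsg.Agent.S0269.sympForm_single]
  simp [Matrix.J]

/-- a subgroup of `SL₂` in characteristic two containing all upper unitriangular matrices and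
one non-trivial lower one contains all lower ones. -/
theorem ll_mem_of_uu [Fintype F] (h2 : (2 : F) = 0) (X : Subgroup SL(2, F))
    (hu : ∀ x : F, uu x ∈ X) {b : F} (hb : b ≠ 0) (hl : ll b ∈ X) (y : F) : ll y ∈ X := by
  obtain ⟨k, hk⟩ := Cfsg.Agent.Helper7.SubL.exists_conj_char_two h2 (one_ne_zero (α := F)) hb
  have hg : (uu 1 * ll b) ^ k ∈ X := X.pow_mem (X.mul_mem (hu 1) hl) k
  have h1 := Cfsg.Agent.Helper7.SubL.conj_uu_of_conj one_ne_zero hk (y / b)
  have e : b * (y / b) / 1 = y := by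
    rw [div_one, mul_div_cancel₀ _ hb]
  rw [e] at h1
  rw [← h1]
  exact X.mul_mem (X.mul_mem hg (hu _)) (X.inv_mem hg)

/-- the totally generic case in characteristic two. -/
theorem caseB [Fintype F] (hm : 3 ≤ m) (h2 : (2 : F) = 0) {r : ℕ} (hr : r.Prime)
    (hcard : Fintype.card F = Nat.card F₀ ^ r) {M : Subgroup Sp} (hM : Hs m F₀ ≤ M)
    {u : V} {a : F} (ha : a ≠ 0) (hT : T u a ∈ M)
    (hB : ∀ e : V, RatV F₀ e → e ≠ 0 → sympForm m F e u ≠ 0) :
    ∃ c : F, c ∉ F₀ ∧ c ∈ Cc M F₀ := by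
  obtain ⟨i0, i1, i2, h01, h02, h12⟩ : ∃ i0 i1 i2 : Fin m, i0 ≠ i1 ∧ i0 ≠ i2 ∧ i1 ≠ i2 := by
    refine ⟨⟨0, by omega⟩, ⟨1, by omega⟩, ⟨2, by omega⟩, ?_, ?_, ?_⟩ <;>
      (intro h; have := congrArg Fin.val h; simp at this)
  obtain ⟨w, hwd⟩ : ∃ w : V, w = Pi.single (Sum.inl i0) 1 := ⟨_, rfl⟩
  obtain ⟨w', hw'd⟩ : ∃ w' : V, w' = Pi.single (Sum.inl i1) 1 := ⟨_, rfl⟩
  obtain ⟨w'', hw''d⟩ : ∃ w'' : V, w'' = Pi.single (Sum.inl i2) 1 := ⟨_, rfl⟩
  have hw : RatV F₀ w := by rw [hwd]; exact RatV.single _ F₀.one_mem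
  have hw' : RatV F₀ w' := by rw [hw'd]; exact RatV.single _ F₀.one_mem
  have hw'' : RatV F₀ w'' := by rw [hw''d]; exact RatV.single _ F₀.one_mem
  have hw0 : w ≠ 0 := by rw [hwd]; exact Cfsg.Agent.S0269.single_ne_zero' _
  have hww' : sympForm m F w w' = 0 := by rw [hwd, hw'd]; exact sympForm_inl_inl i0 i1
  have hw'w : sympForm m F w' w = 0 := by rw [hwd, hw'd]; exact sympForm_inl_inl i1 i0
  have hl01 : (Sum.inl i0 : Fin m ⊕ Fin m) ≠ Sum.inl i1 := fun h => h01 (Sum.inl.inj h)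
  have hl02 : (Sum.inl i0 : Fin m ⊕ Fin m) ≠ Sum.inl i2 := fun h => h02 (Sum.inl.inj h)
  have hl12 : (Sum.inl i1 : Fin m ⊕ Fin m) ≠ Sum.inl i2 := fun h => h12 (Sum.inl.inj h)
  -- independence of `w`, `w'`
  have hI : ∀ p q : F, p • w + q • w' = 0 → p = 0 ∧ q = 0 := by
    intro p q hpq
    have e0 := congrFun hpq (Sum.inl i0)
    have e1 := congrFun hpq (Sum.inl i1)
    rw [hwd, hw'd] at e0 e1
    simp only [Pi.add_apply, Pi.smul_apply, Pi.single_eq_same, Pi.single_eq_of_ne hl01,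
      Pi.single_eq_of_ne (Ne.symm hl01), smul_eq_mul, mul_one, mul_zero, add_zero, zero_add,
      Pi.zero_apply] at e0 e1
    exact ⟨e0, e1⟩
  obtain ⟨β, hβd⟩ : ∃ β : F, β = sympForm m F w u := ⟨_, rfl⟩
  obtain ⟨β', hβ'd⟩ : ∃ β' : F, β' = sympForm m F w' u := ⟨_, rfl⟩
  obtain ⟨β'', hβ''d⟩ : ∃ β'' : F, β'' = sympForm m F w'' u := ⟨_, rfl⟩
  have hβ : β ≠ 0 := by rw [hβd]; exact hB w hw hw0
  have hw'0 : w' ≠ 0 := by rw [hw'd]; exact Cfsg.Agent.S0269.single_ne_zero' _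
  have hβ' : β' ≠ 0 := by rw [hβ'd]; exact hB w' hw' hw'0
  have huw : sympForm m F u w = -β := by rw [sympForm_swap, hβd]
  have huw' : sympForm m F u w' = -β' := by rw [sympForm_swap, hβ'd]
  -- the ratio is irrational
  obtain ⟨μ, hμd⟩ : ∃ μ : F, μ = β' / β := ⟨_, rfl⟩
  have hμ : μ ∉ F₀ := by
    intro hmem
    have hr' : RatV F₀ (μ • w - w') := (RatV.smul hmem hw).sub hw'
    have hne : μ • w - w' ≠ 0 := by
      intro h
      have e1 := congrFun h (Sum.inl i1)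
      rw [hwd, hw'd] at e1
      simp only [Pi.sub_apply, Pi.smul_apply, Pi.single_eq_same,
        Pi.single_eq_of_ne (Ne.symm hl01), smul_eq_mul, mul_zero, zero_sub, Pi.zero_apply] at e1
      exact one_ne_zero (neg_eq_zero.mp e1)
    apply hB _ hr' hne
    rw [sympForm_sub_left, sympForm_smul_left, ← hβd, ← hβ'd, hμd, div_mul_cancel₀ _ hβ,
      sub_self]
  -- the fixed vector
  obtain ⟨z, hzd⟩ : ∃ z : V, z = β' • w - β • w' := ⟨_, rfl⟩
  have hzu : sympForm m F z u = 0 := by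
    rw [hzd, sympForm_sub_left, sympForm_smul_left, sympForm_smul_left, ← hβd, ← hβ'd]
    ring
  have hzw : sympForm m F z w = 0 := by
    rw [hzd, sympForm_sub_left, sympForm_smul_left, sympForm_smul_left, sympForm_self, hw'w,
      mul_zero, mul_zero, sub_zero]
  have hzw' : sympForm m F z w' = 0 := by
    rw [hzd, sympForm_sub_left, sympForm_smul_left, sympForm_smul_left, sympForm_self, hww',
      mul_zero, mul_zero, sub_zero]
  have hwz : sympForm m F w z = 0 := by rw [sympForm_swap, hzw, neg_zero]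
  have hw'eq : w' = μ • w + (-β⁻¹) • z := by
    rw [hzd, hμd]
    funext k
    simp only [Pi.add_apply, Pi.smul_apply, Pi.sub_apply, smul_eq_mul]
    field_simp
    ring
  have hweq : w = (1 : F) • w + (0 : F) • z := by rw [one_smul, zero_smul, add_zero]
  -- the induced group
  obtain ⟨X, hX⟩ : ∃ X : Subgroup SL(2, F), X = indSp M w u z (fun y => y = z) rfl := ⟨_, rfl⟩
  have hup1 : ∀ c : F, c ∈ F₀ → uu (-β * c) ∈ X := by
    intro c hc
    have h1 := uu_mem_indSp (M := M) (w := w) (u := u) (z := z) (Fx := fun y => y = z) rfl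
      hweq hwz (fun y hy => by rw [hy, hzw]) (hM (T_mem_Hs hw hc))
    rw [huw] at h1
    have e : c * 1 * -β = -β * c := by ring
    rw [e] at h1
    rw [hX]; exact h1
  have hup2 : uu (-β * (μ * μ)) ∈ X := by
    have h1 := uu_mem_indSp (M := M) (w := w) (u := u) (z := z) (Fx := fun y => y = z) rfl
      hw'eq hwz (fun y hy => by rw [hy, hzw']) (hM (T_mem_Hs hw' F₀.one_mem))
    rw [huw'] at h1
    have e : 1 * μ * -β' = -β * (μ * μ) := by
      rw [hμd]; field_simp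
    rw [e] at h1
    rw [hX]; exact h1
  have hlow : ll (a * β) ∈ X := by
    have h1 := ll_mem_indSp (M := M) (w := w) (u := u) (z := z) (Fx := fun y => y = z) rfl
      (fun y hy => by rw [hy, hzu]) hT
    rw [← hβd] at h1
    rw [hX]; exact h1
  have hnβ : -β ≠ 0 := neg_ne_zero.mpr hβ
  have haβ : a * β ≠ 0 := mul_ne_zero ha hβ
  have hXa : uu (-β) ∈ X := by
    have := hup1 1 F₀.one_mem
    rwa [mul_one] at this
  obtain ⟨E, hE⟩ : ∃ E : Subfield F,
      E = Cfsg.Agent.Helper7.SubL.lamField h2 X hnβ haβ hXa hlow := ⟨_, rfl⟩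
  have hF₀E : F₀ ≤ E := by
    intro c hc
    rw [hE, Cfsg.Agent.Helper7.SubL.mem_lamField]
    exact hup1 c hc
  have hμE : μ * μ ∈ E := by
    rw [hE, Cfsg.Agent.Helper7.SubL.mem_lamField]
    exact hup2
  have hEtop : E = ⊤ := by
    rcases Cfsg.Agent.Helper7.SubL.subfield_eq_or_top hr hcard hF₀E with h | h
    · exact absurd (h ▸ hμE) (sq_not_mem_of_char_two h2 hμ)
    · exact h
  have huall : ∀ x : F, uu x ∈ X := by
    intro x
    have h1 : -x / β ∈ E := by rw [hEtop]; exact Subfield.mem_top _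
    rw [hE, Cfsg.Agent.Helper7.SubL.mem_lamField] at h1
    have e : -β * (-x / β) = x := by field_simp
    rwa [e] at h1
  have hlall : ∀ y : F, ll y ∈ X := ll_mem_of_uu h2 X huall haβ hlow
  -- an element scaling `w` by an irrational factor
  obtain ⟨lam, hlamd⟩ : ∃ lam : F, lam = β'' / β := ⟨_, rfl⟩
  have hw''0 : w'' ≠ 0 := by rw [hw''d]; exact Cfsg.Agent.S0269.single_ne_zero' _
  have hβ'' : β'' ≠ 0 := by rw [hβ''d]; exact hB w'' hw'' hw''0
  have hlam0 : lam ≠ 0 := by rw [hlamd]; exact div_ne_zero hβ'' hβ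
  obtain ⟨A, hA⟩ : ∃ A : SL(2, F), A = ll (-lam⁻¹) * uu (lam - 1) * ll 1 := ⟨_, rfl⟩
  have hAX : A ∈ X := by
    rw [hA]
    exact X.mul_mem (X.mul_mem (hlall _) (huall _)) (hlall _)
  have hA00 : A.1 0 0 = lam := by
    rw [hA]
    simp only [mul_00, mul_01, mul_10, mul_11, uu_00, uu_01, uu_10, uu_11, ll_00, ll_01, ll_10,
      ll_11]
    ring
  have hA10 : A.1 1 0 = 0 := by
    rw [hA]
    simp only [mul_00, mul_01, mul_10, mul_11, uu_00, uu_01, uu_10, uu_11, ll_00, ll_01, ll_10,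
      ll_11]
    field_simp
    ring
  rw [hX, mem_indSp] at hAX
  obtain ⟨g, hgM, _, ⟨p, hgw⟩, _⟩ := hAX
  rw [hA00, hA10, zero_smul, add_zero] at hgw
  obtain ⟨x, hxd⟩ : ∃ x : V, x = (g : MM) *ᵥ w := ⟨_, rfl⟩
  have hxeq : x = (lam + p * β') • w + (-(p * β)) • w' := by
    rw [hxd, hgw, hzd]
    module
  have hTx : T x 1 ∈ M := by
    rw [hxd, ← conj_T]
    exact M.mul_mem (M.mul_mem hgM (hM (T_mem_Hs hw F₀.one_mem))) (M.inv_mem hgM)
  have hxw : sympForm m F x w = 0 := by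
    rw [hxeq, sympForm_add_left, sympForm_smul_left, sympForm_smul_left, sympForm_self, hw'w,
      mul_zero, mul_zero, add_zero]
  have hx0 : x ≠ 0 := by
    rw [hxd]
    intro h
    apply hw0
    apply mulVec_injective g
    show (g : MM) *ᵥ w = (g : MM) *ᵥ 0
    rw [h, mulVec_zero]
  -- the rational combination is impossible
  have hnot : ¬ RatV F₀ x := by
    intro hxr
    rw [hxeq] at hxr
    obtain ⟨hs₁, hs₂⟩ := coef_mem hw hw' hI hxr
    have hr' : RatV F₀ (w'' - (lam + p * β') • w - (-(p * β)) • w') :=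
      (hw''.sub (RatV.smul hs₁ hw)).sub (RatV.smul hs₂ hw')
    have hne : w'' - (lam + p * β') • w - (-(p * β)) • w' ≠ 0 := by
      intro h
      have e2 := congrFun h (Sum.inl i2)
      rw [hwd, hw'd, hw''d] at e2
      simp only [Pi.sub_apply, Pi.smul_apply, Pi.single_eq_same,
        Pi.single_eq_of_ne (Ne.symm hl02), Pi.single_eq_of_ne (Ne.symm hl12), smul_eq_mul,
        mul_zero, sub_zero, Pi.zero_apply] at e2
      exact one_ne_zero e2
    apply hB _ hr' hne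
    rw [sympForm_sub_left, sympForm_sub_left, sympForm_smul_left, sympForm_smul_left, ← hβd,
      ← hβ'd, ← hβ''d, hlamd]
    field_simp
    ring
  by_cases hxP : PRatV F₀ x
  · obtain ⟨ν, hν0, hνx⟩ := hxP
    have hνx0 : ν • x ≠ 0 := smul_ne_zero hν0 hx0
    have hTν : T (ν • x) (ν⁻¹ * ν⁻¹ * 1) ∈ M := by
      rw [← T_smul, smul_smul, inv_mul_cancel₀ hν0, one_smul]
      exact hTx
    refine ⟨ν⁻¹ * ν⁻¹ * 1, ?_, Cc_of_one hM hνx hνx0 hTν⟩
    intro hmem
    rw [mul_one] at hmem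
    have hνF : ν⁻¹ ∈ F₀ := by
      by_contra hcon
      exact sq_not_mem_of_char_two h2 hcon hmem
    apply hnot
    have := RatV.smul hνF hνx
    rwa [smul_smul, inv_mul_cancel₀ hν0, one_smul] at this
  · exact caseA hm hM one_ne_zero hTx hxP hw hw0 hxw

end Cfsg.Agent.Helper7.SpSub
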