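import Mathlib
import Cfsg.Agent.Helper7.SpSubF
import Cfsg.Agent.Helper7.SubLE
import Cfsg.Agent.Lead.DicksonP

set_option autoImplicit false
set_option linter.unusedSectionVars false

/-! Subfield subgroups of the symplectic group, part G: odd characteristic through Dickson's
lemma, and the existence of an irrational parameter on a rational centre (helper7). -/

namespace Cfsg.Agent.Helper7.SpSub

open Matrix Cfsg Cfsg.Geo Cfsg.Agent.Helper7.Symp Cfsg.Agent.Helper7.SpMax Cfsg.Agent.S5645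
  Cfsg.Agent.Lead.DicksonA Cfsg.Agent.Lead.DicksonJ
open scoped MatrixGroups

variable {F : Type*} [Field F] {m : ℕ} {F₀ : Subfield F}

local notation "V" => (Fin m ⊕ Fin m → F)
local notation "Sp" => Matrix.symplecticGroup (Fin m) F
local notation "MM" => Matrix (Fin m ⊕ Fin m) (Fin m ⊕ Fin m) F

/-- Dickson's lemma along the plane of two centres. -/
theorem dickson_sp [Fintype F] (h2 : (2 : F) ≠ 0) {M : Subgroup Sp} {w u : V} {c₁ c₂ : F}
    (hc₁ : c₁ ≠ 0) (hc₂ : c₂ ≠ 0) (hTw : T w c₁ ∈ M) (hTu : T u c₂ ∈ M)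
    (hβ : sympForm m F w u ≠ 0)
    (hne : ¬ (Nat.card (Subfield.closure
      ({-(c₁ * c₂ * sympForm m F w u * sympForm m F w u)} : Set F)) = 9 ∧
      (-(c₁ * c₂ * sympForm m F w u * sympForm m F w u)) ^ 2 = -1)) :
    T w (-(c₁ * c₁ * c₂ * sympForm m F w u * sympForm m F w u)) ∈ M := by
  obtain ⟨β, hβd⟩ : ∃ β : F, β = sympForm m F w u := ⟨_, rfl⟩
  rw [← hβd] at hβ hne ⊢
  obtain ⟨κ, hκ⟩ : ∃ κ : F, κ = -(c₁ * c₂ * β * β) := ⟨_, rfl⟩
  rw [← hκ] at hne
  have hκ0 : κ ≠ 0 := by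
    rw [hκ]
    exact neg_ne_zero.mpr (mul_ne_zero (mul_ne_zero (mul_ne_zero hc₁ hc₂) hβ) hβ)
  obtain ⟨ν, hν⟩ : ∃ ν : F, ν = -(c₁ * β)⁻¹ := ⟨_, rfl⟩
  have hν0 : ν ≠ 0 := by
    rw [hν]; exact neg_ne_zero.mpr (inv_ne_zero (mul_ne_zero hc₁ hβ))
  obtain ⟨u', hu'⟩ : ∃ u' : V, u' = ν • u := ⟨_, rfl⟩
  have hwu' : sympForm m F w u' = ν * β := by rw [hu', sympForm_smul_right, hβd]
  have hu'w : sympForm m F u' w = -(ν * β) := by rw [sympForm_swap, hwu']
  have hz : (fun y : V => sympForm m F y w = 0 ∧ sympForm m F y u' = 0) 0 :=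
    ⟨sympForm_zero_left _, sympForm_zero_left _⟩
  obtain ⟨X, hX⟩ : ∃ X : Subgroup SL(2, F), X = indSp M w u' 0
      (fun y => sympForm m F y w = 0 ∧ sympForm m F y u' = 0) hz := ⟨_, rfl⟩
  have hu1 : uu 1 ∈ X := by
    have h1 := uu_mem_indSp (M := M) (w := w) (u := u') (z := 0)
      (Fx := fun y => sympForm m F y w = 0 ∧ sympForm m F y u' = 0) hz
      (w' := w) (μ := 1) (ν := 0) (c := c₁) (by rw [one_smul, zero_smul, add_zero])
      (sympForm_zero_right _) (fun y hy => hy.1) hTw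
    rw [hu'w] at h1
    have e : c₁ * 1 * -(ν * β) = 1 := by
      rw [hν]; field_simp
    rw [e] at h1
    rw [hX]; exact h1
  have hTu' : T u' (ν⁻¹ * ν⁻¹ * c₂) ∈ M := by
    rw [hu', ← T_smul, smul_smul, inv_mul_cancel₀ hν0, one_smul]
    exact hTu
  have hl1 : ll κ ∈ X := by
    have h1 := ll_mem_indSp (M := M) (w := w) (u := u') (z := 0)
      (Fx := fun y => sympForm m F y w = 0 ∧ sympForm m F y u' = 0) hz
      (fun y hy => hy.2) hTu'
    rw [hwu'] at h1
    have e : ν⁻¹ * ν⁻¹ * c₂ * (ν * β) = κ := by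
      rw [hν, hκ]; field_simp
    rw [e] at h1
    rw [hX]; exact h1
  -- Dickson's lemma over the field generated by `κ`
  obtain ⟨E, hE⟩ : ∃ E : Subfield F, E = Subfield.closure ({κ} : Set F) := ⟨_, rfl⟩
  haveI : Fintype E := Fintype.ofFinite E
  have hκE : κ ∈ E := by rw [hE]; exact Subfield.subset_closure rfl
  have h2E : (2 : E) ≠ 0 := by
    intro h
    apply h2
    have := congrArg Subtype.val h
    exact this
  have hlam0 : (⟨κ, hκE⟩ : E) ≠ 0 := by
    intro h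
    exact hκ0 (congrArg Subtype.val h)
  have hgen : Subfield.closure ({(⟨κ, hκE⟩ : E)} : Set E) = ⊤ := by
    subst hE
    exact Cfsg.Agent.Helper7.SubL.closure_self_top κ
  have hneE : ¬ (Fintype.card E = 9 ∧ (⟨κ, hκE⟩ : E) ^ 2 = -1) := by
    rintro ⟨h9, hsq⟩
    apply hne
    rw [← hE]
    refine ⟨by rw [Nat.card_eq_fintype_card]; exact h9, ?_⟩
    have := congrArg Subtype.val hsq
    simpa using this
  have htop := Cfsg.Agent.Lead.DicksonP.partA h2E (⟨κ, hκE⟩ : E) hlam0 hgen hneE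
  have hmem : uu (⟨κ, hκE⟩ : E) ∈
      Subgroup.closure ({uu 1, ll (⟨κ, hκE⟩ : E)} : Set SL(2, E)) := by
    rw [htop]; exact Subgroup.mem_top _
  have hle : Subgroup.closure ({uu 1, ll (⟨κ, hκE⟩ : E)} : Set SL(2, E)) ≤
      X.comap (Matrix.SpecialLinearGroup.map E.subtype) := by
    rw [Subgroup.closure_le]
    rintro g (rfl | rfl)
    · show Matrix.SpecialLinearGroup.map E.subtype (uu 1) ∈ X
      rw [map_uu, map_one]
      exact hu1
    · show Matrix.SpecialLinearGroup.map E.subtype (ll ⟨κ, hκE⟩) ∈ X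
      rw [map_ll]
      exact hl1
  have h3 := hle hmem
  have h4 : uu κ ∈ X := by
    have : Matrix.SpecialLinearGroup.map E.subtype (uu ⟨κ, hκE⟩) ∈ X := h3
    rwa [map_uu] at this
  rw [hX, mem_indSp] at h4
  obtain ⟨g, hgM, hgfix, ⟨p, hgw⟩, ⟨q, hgu⟩⟩ := h4
  rw [uu_00, uu_10, one_smul, zero_smul, smul_zero, add_zero, add_zero] at hgw
  rw [uu_01, uu_11, one_smul, smul_zero, add_zero] at hgu
  have hwu'0 : sympForm m F w u' ≠ 0 := by rw [hwu']; exact mul_ne_zero hν0 hβ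
  have hg := eq_T_of_uu hwu'0 hgfix hgw hgu
  rw [hg] at hgM
  have e : -κ / sympForm m F w u' = -(c₁ * c₁ * c₂ * β * β) := by
    rw [hwu', hκ, hν]; field_simp
  rw [e] at hgM
  exact hgM

/-- in odd characteristic an irrational vector has an irrational squared pairing with some
rational vector. -/
theorem exists_sq_not_mem (h2 : (2 : F) ≠ 0) {u : V} (hu : ¬ PRatV F₀ u) :
    ∃ w : V, RatV F₀ w ∧ sympForm m F w u * sympForm m F w u ∉ F₀ := by
  by_contra hcon
  push Not at hcon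
  have hu0 : u ≠ 0 := ne_zero_of_not_pRatV hu
  obtain ⟨k, hk⟩ : ∃ k, u k ≠ 0 := by
    by_contra h
    push Not at h
    exact hu0 (funext h)
  obtain ⟨β₁, hβ₁⟩ : ∃ β₁ : F, β₁ = sympForm m F (dualv k) u := ⟨_, rfl⟩
  have hβ₁k : β₁ = -u k := by rw [hβ₁, sympForm_swap, sympForm_dualv]
  have hβ₁0 : β₁ ≠ 0 := by rw [hβ₁k]; exact neg_ne_zero.mpr hk
  have h2m : (2 : F) ∈ F₀ := by
    have : (2 : F) = 1 + 1 := by norm_num
    rw [this]; exact F₀.add_mem F₀.one_mem F₀.one_mem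
  have hprod : ∀ w : V, RatV F₀ w → sympForm m F w u * β₁ ∈ F₀ := by
    intro w hw
    have h1 := hcon (w + dualv k) (hw.add (ratV_dualv k))
    have h3 := hcon w hw
    have h4 := hcon (dualv k) (ratV_dualv k)
    rw [sympForm_add_left, ← hβ₁] at h1
    rw [← hβ₁] at h4
    have e : sympForm m F w u * β₁ = 2⁻¹ * ((sympForm m F w u + β₁) * (sympForm m F w u + β₁) -
        sympForm m F w u * sympForm m F w u - β₁ * β₁) := by
      field_simp
      ring
    rw [e]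
    exact F₀.mul_mem (F₀.inv_mem h2m) (F₀.sub_mem (F₀.sub_mem h1 h3) h4)
  have hsq : β₁ * β₁ ∈ F₀ := by
    have := hcon (dualv k) (ratV_dualv k)
    rwa [← hβ₁] at this
  apply hu
  refine ⟨β₁⁻¹, inv_ne_zero hβ₁0, ?_⟩
  intro j
  have h1 := hprod (dualv j) (ratV_dualv j)
  rw [sympForm_swap, sympForm_dualv] at h1
  have e : (β₁⁻¹ • u) j = -(-u j * β₁) * (β₁ * β₁)⁻¹ := by
    rw [Pi.smul_apply, smul_eq_mul]
    field_simp
  rw [e]
  exact F₀.mul_mem (F₀.neg_mem h1) (F₀.inv_mem hsq)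

/-- a rational vector orthogonal to `u` when the field is small. -/
theorem exists_rat_perp_of_card [Fintype F] (hm : 2 ≤ m)
    (hcard : Fintype.card F = Nat.card F₀ ^ 2) (u : V) :
    ∃ e : V, RatV F₀ e ∧ e ≠ 0 ∧ sympForm m F e u = 0 := by
  haveI : Fintype F₀ := Fintype.ofFinite F₀
  have h2 : 2 ≤ Fintype.card F₀ := by
    have : 1 < Fintype.card F₀ := Fintype.one_lt_card
    omega
  have hlt : Fintype.card F < Fintype.card (Fin m ⊕ Fin m → F₀) := by
    rw [hcard, Nat.card_eq_fintype_card, Fintype.card_fun, Fintype.card_sum, Fintype.card_fin]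
    exact Nat.pow_lt_pow_right (by omega) (by omega)
  obtain ⟨z₁, z₂, hne, heq⟩ := Fintype.exists_ne_map_eq_of_card_lt
    (fun z : Fin m ⊕ Fin m → F₀ => sympForm m F (fun j => (z j : F)) u) hlt
  refine ⟨fun j => ((z₁ j : F₀) : F) - ((z₂ j : F₀) : F), fun j => F₀.sub_mem (z₁ j).2 (z₂ j).2,
    ?_, ?_⟩
  · intro h
    apply hne
    funext j
    apply Subtype.ext
    have := congrFun h j
    exact sub_eq_zero.mp this
  · have e : (fun j => ((z₁ j : F₀) : F) - ((z₂ j : F₀) : F)) =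
        (fun j => ((z₁ j : F₀) : F)) - (fun j => ((z₂ j : F₀) : F)) := rfl
    rw [e, sympForm_sub_left]
    exact sub_eq_zero.mpr heq

end Cfsg.Agent.Helper7.SpSub
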