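import Mathlib
import Cfsg.Agent.Helper7.SpSubG

set_option autoImplicit false
set_option linter.unusedSectionVars false

/-! Subfield subgroups of the symplectic group, part H: an element outside the subfield group
forces an irrational parameter on a rational centre (helper7). -/

namespace Cfsg.Agent.Helper7.SpSub

open Matrix Cfsg Cfsg.Geo Cfsg.Agent.Helper7.Symp Cfsg.Agent.Helper7.SpMax Cfsg.Agent.S5645
  Cfsg.Agent.Lead.DicksonA
open scoped MatrixGroups

variable {F : Type*} [Field F] {m : ℕ} {F₀ : Subfield F}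

local notation "V" => (Fin m ⊕ Fin m → F)
local notation "Sp" => Matrix.symplecticGroup (Fin m) F
local notation "MM" => Matrix (Fin m ⊕ Fin m) (Fin m ⊕ Fin m) F

/-- a subfield all of whose non-zero elements square to one has at most three elements. -/
theorem card_le_three_of_sq (h : ∀ s : F, s ∈ F₀ → s ≠ 0 → s * s = 1) [Fintype F₀] :
    Fintype.card F₀ ≤ 3 := by
  classical
  have hsub : (Finset.univ : Finset F₀) ⊆ {0, 1, -1} := by
    intro s _
    by_cases hs0 : s = 0
    · rw [hs0]; simp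
    · have hs0' : (s : F) ≠ 0 := fun h0 => hs0 (Subtype.ext h0)
      have h1 := h s s.2 hs0'
      have h2 : ((s : F) - 1) * ((s : F) + 1) = 0 := by linear_combination h1
      rcases mul_eq_zero.mp h2 with h3 | h3
      · have : s = 1 := Subtype.ext (sub_eq_zero.mp h3)
        rw [this]; simp
      · have : s = -1 := Subtype.ext (by
          show (s : F) = -1
          linear_combination h3)
        rw [this]; simp
  calc Fintype.card F₀ = (Finset.univ : Finset F₀).card := rfl
    _ ≤ ({0, 1, -1} : Finset F₀).card := Finset.card_le_card hsub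
    _ ≤ 3 := Finset.card_le_three

/-- the degree is two when the subfield has at most three elements and the field contains a
subfield with nine elements. -/
theorem degree_two_of_nine [Fintype F] {r : ℕ} (hr : r.Prime)
    (hcard : Fintype.card F = Nat.card F₀ ^ r) (h3 : Nat.card F₀ ≤ 3) {E : Subfield F}
    (h9 : Nat.card E = 9) : r = 2 := by
  have h1 : Nat.card F = Nat.card E ^ Module.finrank E F := Module.natCard_eq_pow_finrank
  rw [Nat.card_eq_fintype_card, hcard, h9] at h1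
  have h2 : 1 < Nat.card F₀ := Finite.one_lt_card
  have hr0 : r ≠ 0 := hr.ne_zero
  have hcases : Nat.card F₀ = 2 ∨ Nat.card F₀ = 3 := by omega
  rcases hcases with h | h
  · exfalso
    rw [h] at h1
    have hd : 2 ∣ 9 ^ Module.finrank E F := by
      rw [← h1]; exact dvd_pow_self 2 hr0
    have := Nat.Prime.dvd_of_dvd_pow Nat.prime_two hd
    omega
  · rw [h] at h1
    have h4 : (9 : ℕ) ^ Module.finrank E F = 3 ^ (2 * Module.finrank E F) := by
      rw [pow_mul]; norm_num
    rw [h4] at h1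
    have h5 := Nat.pow_right_injective (show 2 ≤ 3 by norm_num) h1
    have h6 : 2 ∣ r := ⟨_, h5⟩
    exact ((Nat.prime_dvd_prime_iff_eq Nat.prime_two hr).mp h6).symm

/-- odd characteristic. -/
theorem irr_param_odd [Fintype F] (hm : 3 ≤ m) (h2 : (2 : F) ≠ 0) {r : ℕ} (hr : r.Prime)
    (hcard : Fintype.card F = Nat.card F₀ ^ r) {M : Subgroup Sp} (hM : Hs m F₀ ≤ M)
    {u : V} (hT : T u 1 ∈ M) (hu : ¬ PRatV F₀ u) :
    ∃ c : F, c ∉ F₀ ∧ c ∈ Cc M F₀ := by
  obtain ⟨w, hw, hβ2⟩ := exists_sq_not_mem h2 hu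
  obtain ⟨β, hβd⟩ : ∃ β : F, β = sympForm m F w u := ⟨_, rfl⟩
  rw [← hβd] at hβ2
  have hβ : β ≠ 0 := by
    rintro rfl
    rw [mul_zero] at hβ2
    exact hβ2 F₀.zero_mem
  have hw0 : w ≠ 0 := by
    rintro rfl
    rw [sympForm_zero_left] at hβd
    exact hβ hβd
  have key : ∀ s : F, s ∈ F₀ → s ≠ 0 →
      ¬ (Nat.card (Subfield.closure ({-(s * 1 * β * β)} : Set F)) = 9 ∧
        (-(s * 1 * β * β)) ^ 2 = -1) → ∃ c : F, c ∉ F₀ ∧ c ∈ Cc M F₀ := by
    intro s hs hs0 hne
    have h1 := dickson_sp h2 hs0 one_ne_zero (hM (T_mem_Hs hw hs)) hT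
      (by rw [← hβd]; exact hβ) (by rw [← hβd]; exact hne)
    rw [← hβd] at h1
    refine ⟨_, ?_, Cc_of_one hM hw hw0 h1⟩
    intro hmem
    apply hβ2
    have e : β * β = -(s * s)⁻¹ * -(s * s * 1 * β * β) := by
      field_simp
    rw [e]
    exact F₀.mul_mem (F₀.neg_mem (F₀.inv_mem (F₀.mul_mem hs hs))) hmem
  by_cases h1 : Nat.card (Subfield.closure ({-(1 * 1 * β * β)} : Set F)) = 9 ∧
      (-(1 * 1 * β * β)) ^ 2 = -1
  · obtain ⟨h9, hsq⟩ := h1
    by_cases h3 : ∃ s : F, s ∈ F₀ ∧ s ≠ 0 ∧ s * s ≠ 1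
    · obtain ⟨s, hs, hs0, hs1⟩ := h3
      apply key s hs hs0
      rintro ⟨_, hsq'⟩
      apply hs1
      have e : (-(s * 1 * β * β)) ^ 2 = s * s * (-(1 * 1 * β * β)) ^ 2 := by ring
      rw [e, hsq] at hsq'
      linear_combination -hsq'
    · push Not at h3
      haveI : Fintype F₀ := Fintype.ofFinite F₀
      have hc3 : Nat.card F₀ ≤ 3 := by
        rw [Nat.card_eq_fintype_card]
        exact card_le_three_of_sq h3
      have hr2 := degree_two_of_nine hr hcard hc3 h9
      rw [hr2] at hcard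
      obtain ⟨e, he, he0, heu⟩ := exists_rat_perp_of_card (by omega) hcard u
      have hue : sympForm m F u e = 0 := by rw [sympForm_swap, heu, neg_zero]
      exact caseA hm hM one_ne_zero hT hu he he0 hue
  · exact key 1 F₀.one_mem one_ne_zero h1

/-- characteristic two. -/
theorem irr_param_even [Fintype F] (hm : 3 ≤ m) (h2 : (2 : F) = 0) {r : ℕ} (hr : r.Prime)
    (hcard : Fintype.card F = Nat.card F₀ ^ r) {M : Subgroup Sp} (hM : Hs m F₀ ≤ M)
    {u : V} (hT : T u 1 ∈ M) (hu : ¬ PRatV F₀ u) :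
    ∃ c : F, c ∉ F₀ ∧ c ∈ Cc M F₀ := by
  by_cases hA : ∃ e : V, RatV F₀ e ∧ e ≠ 0 ∧ sympForm m F u e = 0
  · obtain ⟨e, he, he0, hue⟩ := hA
    exact caseA hm hM one_ne_zero hT hu he he0 hue
  · push Not at hA
    apply caseB hm h2 hr hcard hM one_ne_zero hT
    intro e he he0
    rw [sympForm_swap]
    exact neg_ne_zero.mpr (hA e he he0)

/-- an element of `M` outside the subfield group forces an irrational parameter. -/
theorem exists_irr_param [Fintype F] (hm : 3 ≤ m) {r : ℕ} (hr : r.Prime)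
    (hcard : Fintype.card F = Nat.card F₀ ^ r) {M : Subgroup Sp} (hM : Hs m F₀ ≤ M)
    {g : Sp} (hgM : g ∈ M) (hg : g ∉ Hs m F₀) :
    ∃ c : F, c ∉ F₀ ∧ c ∈ Cc M F₀ := by
  obtain ⟨v, hv, hv0, hgv⟩ := exists_irr_Sp (by omega) hg
  have hT : T ((g : MM) *ᵥ v) 1 ∈ M := by
    rw [← conj_T]
    exact M.mul_mem (M.mul_mem hgM (hM (T_mem_Hs hv F₀.one_mem))) (M.inv_mem hgM)
  by_cases h2 : (2 : F) = 0
  · exact irr_param_even hm h2 hr hcard hM hT hgv
  · exact irr_param_odd hm h2 hr hcard hM hT hgv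

end Cfsg.Agent.Helper7.SpSub
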