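import Mathlib
import Cfsg.Agent.Helper7.SpSubH

set_option autoImplicit false
set_option linter.unusedSectionVars false

/-! Subfield subgroups of the symplectic group, part I: the parameters of the rational-centre
transvections in `M` form a subfield (helper7). -/

namespace Cfsg.Agent.Helper7.SpSub

open Matrix Cfsg Cfsg.Geo Cfsg.Agent.Helper7.Symp Cfsg.Agent.Helper7.SpMax Cfsg.Agent.S5645
  Cfsg.Agent.Lead.DicksonA Cfsg.Agent.Lead.DicksonJ
open scoped MatrixGroups

variable {F : Type*} [Field F] {m : ℕ} {F₀ : Subfield F}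

local notation "V" => (Fin m ⊕ Fin m → F)
local notation "Sp" => Matrix.symplecticGroup (Fin m) F
local notation "MM" => Matrix (Fin m ⊕ Fin m) (Fin m ⊕ Fin m) F

/-- the standard basis vectors. -/
def eb (i : Fin m) : V := Pi.single (Sum.inl i) 1

def fb (i : Fin m) : V := Pi.single (Sum.inr i) 1

theorem dualv_inr (i : Fin m) : (dualv (Sum.inr i) : V) = eb i := by
  funext k
  unfold dualv eb
  rw [Pi.neg_apply, mulVec_single_one]
  rcases k with k | k
  · by_cases h : k = i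
    · subst h
      simp [Matrix.J]
    · have h' : (Sum.inl k : Fin m ⊕ Fin m) ≠ Sum.inl i := fun hh => h (Sum.inl.inj hh)
      simp [Matrix.J, Matrix.one_apply_ne h, Pi.single_eq_of_ne h']
  · simp [Matrix.J]

theorem dualv_inl (i : Fin m) : (dualv (Sum.inl i) : V) = -fb i := by
  funext k
  unfold dualv fb
  rw [Pi.neg_apply, Pi.neg_apply, mulVec_single_one]
  rcases k with k | k
  · simp [Matrix.J]
  · by_cases h : k = i
    · subst h
      simp [Matrix.J]
    · have h' : (Sum.inr k : Fin m ⊕ Fin m) ≠ Sum.inr i := fun hh => h (Sum.inr.inj hh)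
      simp [Matrix.J, Matrix.one_apply_ne h, Pi.single_eq_of_ne h']

theorem sympForm_eb (x : V) (i : Fin m) : sympForm m F x (eb i) = x (Sum.inr i) := by
  rw [← dualv_inr, sympForm_dualv]

theorem sympForm_fb (x : V) (i : Fin m) : sympForm m F x (fb i) = -x (Sum.inl i) := by
  have h : (fb i : V) = -dualv (Sum.inl i) := by rw [dualv_inl, neg_neg]
  rw [h, sympForm_neg_right, sympForm_dualv]

theorem ratV_eb (i : Fin m) : RatV F₀ (eb i : V) := RatV.single _ F₀.one_mem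

theorem ratV_fb (i : Fin m) : RatV F₀ (fb i : V) := RatV.single _ F₀.one_mem

theorem eb_ne_zero (i : Fin m) : (eb i : V) ≠ 0 := Cfsg.Agent.S0269.single_ne_zero' _

theorem fb_ne_zero (i : Fin m) : (fb i : V) ≠ 0 := Cfsg.Agent.S0269.single_ne_zero' _

section field

theorem Cc_add [Fintype F] (M : Subgroup Sp) {c d : F} (hc : c ∈ Cc M F₀) (hd : d ∈ Cc M F₀) :
    c + d ∈ Cc M F₀ := by
  intro v hv
  rw [← T_mul]
  exact M.mul_mem (hc v hv) (hd v hv)

theorem Cc_neg [Fintype F] (M : Subgroup Sp) {c : F} (hc : c ∈ Cc M F₀) : -c ∈ Cc M F₀ := by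
  intro v hv
  have h1 : T v (-c) = (T v c)⁻¹ := by
    apply eq_inv_of_mul_eq_one_left
    rw [T_mul, neg_add_cancel, T_zero_right]
  rw [h1]
  exact M.inv_mem (hc v hv)

/-- the subgroup of `SL₂` induced on the first hyperbolic plane. -/
def planeGroup [Fintype F] (hm : 1 ≤ m) (M : Subgroup Sp) : Subgroup SL(2, F) :=
  indSp M (eb ⟨0, by omega⟩) (fb ⟨0, by omega⟩) 0
    (fun y => sympForm m F y (eb ⟨0, by omega⟩) = 0 ∧ sympForm m F y (fb ⟨0, by omega⟩) = 0)
    ⟨sympForm_zero_left _, sympForm_zero_left _⟩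

theorem sympForm_fb_eb (i : Fin m) : sympForm m F (fb i : V) (eb i) = 1 := by
  rw [sympForm_eb]
  unfold fb
  rw [Pi.single_eq_same]

theorem sympForm_eb_fb (i : Fin m) : sympForm m F (eb i : V) (fb i) = -1 := by
  rw [sympForm_swap, sympForm_fb_eb]

theorem uu_mem_planeGroup [Fintype F] {M : Subgroup Sp} (hm : 1 ≤ m) (hM : Hs m F₀ ≤ M) (x : F) :
    uu x ∈ planeGroup hm M ↔ x ∈ Cc M F₀ := by
  constructor
  · intro h
    unfold planeGroup at h
    rw [mem_indSp] at h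
    obtain ⟨g, hgM, hgfix, ⟨p, hgw⟩, ⟨q, hgu⟩⟩ := h
    rw [uu_00, uu_10, one_smul, zero_smul, smul_zero, add_zero, add_zero] at hgw
    rw [uu_01, uu_11, one_smul, smul_zero, add_zero] at hgu
    have hβ : sympForm m F (eb ⟨0, by omega⟩ : V) (fb ⟨0, by omega⟩) ≠ 0 := by
      rw [sympForm_eb_fb]; exact neg_ne_zero.mpr one_ne_zero
    have hg := eq_T_of_uu hβ hgfix hgw hgu
    rw [sympForm_eb_fb] at hg
    have e : -x / -1 = x := by ring
    rw [e] at hg
    rw [hg] at hgM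
    exact Cc_of_one hM (ratV_eb _) (eb_ne_zero _) hgM
  · intro h
    have h1 := uu_mem_indSp (M := M) (w := eb ⟨0, by omega⟩) (u := fb ⟨0, by omega⟩) (z := 0)
      (Fx := fun y => sympForm m F y (eb ⟨0, by omega⟩) = 0 ∧
        sympForm m F y (fb ⟨0, by omega⟩) = 0)
      ⟨sympForm_zero_left _, sympForm_zero_left _⟩
      (w' := eb ⟨0, by omega⟩) (μ := 1) (ν := 0) (c := x)
      (by rw [one_smul, zero_smul, add_zero])
      (sympForm_zero_right _) (fun y hy => hy.1) (h _ (ratV_eb _))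
    rw [sympForm_fb_eb, mul_one, mul_one] at h1
    exact h1

theorem ll_mem_planeGroup [Fintype F] {M : Subgroup Sp} (hm : 1 ≤ m) {x : F} (h : x ∈ Cc M F₀) :
    ll x ∈ planeGroup hm M := by
  have h1 := ll_mem_indSp (M := M) (w := eb ⟨0, by omega⟩) (u := fb ⟨0, by omega⟩) (z := 0)
    (Fx := fun y => sympForm m F y (eb ⟨0, by omega⟩) = 0 ∧
      sympForm m F y (fb ⟨0, by omega⟩) = 0)
    ⟨sympForm_zero_left _, sympForm_zero_left _⟩ (a := -x)
    (fun y hy => hy.2) (Cc_neg M h _ (ratV_fb _))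
  rw [sympForm_eb_fb] at h1
  have e : -x * -1 = x := by ring
  rw [e] at h1
  exact h1

/-- closure under squares in odd characteristic. -/
theorem Cc_sq [Fintype F] {M : Subgroup Sp} (hm : 1 ≤ m) (h2 : (2 : F) ≠ 0) (hM : Hs m F₀ ≤ M) {c : F}
    (hc : c ∈ Cc M F₀) : c * c ∈ Cc M F₀ := by
  by_cases hc0 : c = 0
  · rw [hc0, mul_zero]; exact rat_mem_Cc hM F₀.zero_mem
  by_cases hexc : c ^ 2 = -1
  · have : c * c = -1 := by rw [← hexc]; ring
    rw [this]
    exact rat_mem_Cc hM (F₀.neg_mem F₀.one_mem)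
  rw [← uu_mem_planeGroup hm hM]
  obtain ⟨X, hX⟩ : ∃ X : Subgroup SL(2, F), X = planeGroup hm M := ⟨_, rfl⟩
  rw [← hX]
  have hu1 : uu 1 ∈ X := by
    rw [hX, uu_mem_planeGroup hm hM]; exact rat_mem_Cc hM F₀.one_mem
  have hl1 : ll c ∈ X := by rw [hX]; exact ll_mem_planeGroup hm hc
  obtain ⟨E, hE⟩ : ∃ E : Subfield F, E = Subfield.closure ({c} : Set F) := ⟨_, rfl⟩
  haveI : Fintype E := Fintype.ofFinite E
  have hcE : c ∈ E := by rw [hE]; exact Subfield.subset_closure rfl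
  have h2E : (2 : E) ≠ 0 := by
    intro h
    apply h2
    have := congrArg Subtype.val h
    exact this
  have hlam0 : (⟨c, hcE⟩ : E) ≠ 0 := by
    intro h
    exact hc0 (congrArg Subtype.val h)
  have hgen : Subfield.closure ({(⟨c, hcE⟩ : E)} : Set E) = ⊤ := by
    subst hE
    exact Cfsg.Agent.Helper7.SubL.closure_self_top c
  have hneE : ¬ (Fintype.card E = 9 ∧ (⟨c, hcE⟩ : E) ^ 2 = -1) := by
    rintro ⟨_, hsq⟩
    apply hexc
    have := congrArg Subtype.val hsq
    simpa using this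
  have htop := Cfsg.Agent.Lead.DicksonP.partA h2E (⟨c, hcE⟩ : E) hlam0 hgen hneE
  have hmem : uu ((⟨c, hcE⟩ : E) * ⟨c, hcE⟩) ∈
      Subgroup.closure ({uu 1, ll (⟨c, hcE⟩ : E)} : Set SL(2, E)) := by
    rw [htop]; exact Subgroup.mem_top _
  have hle : Subgroup.closure ({uu 1, ll (⟨c, hcE⟩ : E)} : Set SL(2, E)) ≤
      X.comap (Matrix.SpecialLinearGroup.map E.subtype) := by
    rw [Subgroup.closure_le]
    rintro g (rfl | rfl)
    · show Matrix.SpecialLinearGroup.map E.subtype (uu 1) ∈ X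
      rw [map_uu, map_one]
      exact hu1
    · show Matrix.SpecialLinearGroup.map E.subtype (ll ⟨c, hcE⟩) ∈ X
      rw [map_ll]
      exact hl1
  have h3 := hle hmem
  have : Matrix.SpecialLinearGroup.map E.subtype (uu ((⟨c, hcE⟩ : E) * ⟨c, hcE⟩)) ∈ X := h3
  rw [map_uu] at this
  exact this

/-- closure under products. -/
theorem Cc_mul [Fintype F] {M : Subgroup Sp} (hm : 1 ≤ m) (hM : Hs m F₀ ≤ M) {c d : F}
    (hc : c ∈ Cc M F₀) (hd : d ∈ Cc M F₀) : c * d ∈ Cc M F₀ := by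
  by_cases h2 : (2 : F) = 0
  · rw [← uu_mem_planeGroup hm hM]
    have h1 : uu (1 : F) ∈ planeGroup hm M := by
      rw [uu_mem_planeGroup hm hM]; exact rat_mem_Cc hM F₀.one_mem
    have hl1 : ll (1 : F) ∈ planeGroup hm M :=
      ll_mem_planeGroup hm (rat_mem_Cc hM F₀.one_mem)
    have huc : uu c ∈ planeGroup hm M := by rw [uu_mem_planeGroup hm hM]; exact hc
    have hud : uu d ∈ planeGroup hm M := by rw [uu_mem_planeGroup hm hM]; exact hd
    have := Cfsg.Agent.Helper7.SubL.ratio_closed h2 (planeGroup hm M) one_ne_zero one_ne_zero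
      h1 huc hud hl1
    rwa [div_one] at this
  · have h2m : (2 : F) ∈ F₀ := by
      have : (2 : F) = 1 + 1 := by norm_num
      rw [this]; exact F₀.add_mem F₀.one_mem F₀.one_mem
    have htwo : ∀ x y : F, x ∈ Cc M F₀ → y ∈ Cc M F₀ → 2 * (x * y) ∈ Cc M F₀ := by
      intro x y hx hy
      have h1 := Cc_sq hm h2 hM (Cc_add M hx hy)
      have h3 := Cc_sq hm h2 hM hx
      have h4 := Cc_sq hm h2 hM hy
      have e : 2 * (x * y) = (x + y) * (x + y) + -(x * x) + -(y * y) := by ring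
      rw [e]
      exact Cc_add M (Cc_add M h1 (Cc_neg M h3)) (Cc_neg M h4)
    have hscal : ∀ x s : F, x ∈ Cc M F₀ → s ∈ F₀ → x * s ∈ Cc M F₀ := by
      intro x s hx hs
      have h1 := htwo x (s * 2⁻¹) hx (rat_mem_Cc hM (F₀.mul_mem hs (F₀.inv_mem h2m)))
      have e : 2 * (x * (s * 2⁻¹)) = x * s := by field_simp
      rwa [e] at h1
    have h1 := hscal _ 2⁻¹ (htwo c d hc hd) (F₀.inv_mem h2m)
    have e : 2 * (c * d) * 2⁻¹ = c * d := by field_simp
    rwa [e] at h1

/-- the field of parameters. -/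
def CcField [Fintype F] {M : Subgroup Sp} (hm : 1 ≤ m) (hM : Hs m F₀ ≤ M) : Subfield F :=
  Cfsg.Agent.Helper7.SubL.subfieldOfSet (Cc M F₀) (rat_mem_Cc hM F₀.zero_mem)
    (rat_mem_Cc hM F₀.one_mem) (fun _ _ hc hd => Cc_add M hc hd) (fun _ hc => Cc_neg M hc)
    (fun _ _ hc hd => Cc_mul hm hM hc hd)

theorem mem_CcField [Fintype F] {M : Subgroup Sp} (hm : 1 ≤ m) (hM : Hs m F₀ ≤ M) (x : F) :
    x ∈ CcField hm hM ↔ x ∈ Cc M F₀ := Iff.rfl

end field

end Cfsg.Agent.Helper7.SpSub
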