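import Mathlib
import Cfsg.Agent.Helper7.SpSubI
import Cfsg.Agent.Helper7.SympGeneration

set_option autoImplicit false
set_option linter.unusedSectionVars false

/-! Subfield subgroups of the symplectic group, part J: all transvections with rational centre
generate the symplectic group; maximality for the identity change of basis (helper7). -/

namespace Cfsg.Agent.Helper7.SpSub

open Matrix Cfsg Cfsg.Geo Cfsg.Agent.Helper7.Symp Cfsg.Agent.Helper7.SpMax Cfsg.Agent.S5645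

variable {F : Type*} [Field F] {m : ℕ} {F₀ : Subfield F}

local notation "V" => (Fin m ⊕ Fin m → F)
local notation "Sp" => Matrix.symplecticGroup (Fin m) F
local notation "MM" => Matrix (Fin m ⊕ Fin m) (Fin m ⊕ Fin m) F

theorem T_eb_apply (i : Fin m) (c : F) (u : V) (k : Fin m ⊕ Fin m) :
    ((T (eb i) c : MM) *ᵥ u) k =
      u k + c * u (Sum.inr i) * (if k = Sum.inl i then 1 else 0) := by
  rw [T_mulVec, sympForm_eb, Pi.add_apply, Pi.smul_apply, smul_eq_mul]
  unfold eb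
  rw [Pi.single_apply]

theorem T_fb_apply (i : Fin m) (c : F) (u : V) (k : Fin m ⊕ Fin m) :
    ((T (fb i) c : MM) *ᵥ u) k =
      u k - c * u (Sum.inl i) * (if k = Sum.inr i then 1 else 0) := by
  rw [T_mulVec, sympForm_fb, Pi.add_apply, Pi.smul_apply, smul_eq_mul]
  unfold fb
  rw [Pi.single_apply]
  ring

/-- normalising one hyperbolic pair of coordinates, second coordinate non-zero. -/
theorem pair_fix_of_ne {M : Subgroup Sp}
    (hall : ∀ v : V, RatV F₀ v → ∀ c : F, T v c ∈ M) (i : Fin m) (u : V)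
    (hb : u (Sum.inr i) ≠ 0) :
    ∃ h ∈ M, ((h : MM) *ᵥ u) (Sum.inl i) ∈ F₀ ∧ ((h : MM) *ᵥ u) (Sum.inr i) ∈ F₀ ∧
      ∀ k, k ≠ Sum.inl i → k ≠ Sum.inr i → ((h : MM) *ᵥ u) k = u k := by
  have hne : (Sum.inr i : Fin m ⊕ Fin m) ≠ Sum.inl i := by simp
  have hne' : (Sum.inl i : Fin m ⊕ Fin m) ≠ Sum.inr i := by simp
  obtain ⟨a, ha⟩ : ∃ a : F, a = u (Sum.inl i) := ⟨_, rfl⟩
  obtain ⟨b, hbd⟩ : ∃ b : F, b = u (Sum.inr i) := ⟨_, rfl⟩
  rw [← hbd] at hb
  obtain ⟨u₁, hu₁⟩ : ∃ u₁ : V, u₁ = (T (eb i) ((1 - a) / b) : MM) *ᵥ u := ⟨_, rfl⟩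
  have h1l : u₁ (Sum.inl i) = 1 := by
    rw [hu₁, T_eb_apply, if_pos rfl, ← ha, ← hbd]
    field_simp
    ring
  have h1r : u₁ (Sum.inr i) = b := by
    rw [hu₁, T_eb_apply, if_neg hne, mul_zero, add_zero, hbd]
  have h1o : ∀ k, k ≠ Sum.inl i → u₁ k = u k := by
    intro k hk
    rw [hu₁, T_eb_apply, if_neg hk, mul_zero, add_zero]
  refine ⟨T (fb i) b * T (eb i) ((1 - a) / b),
    M.mul_mem (hall _ (ratV_fb i) _) (hall _ (ratV_eb i) _), ?_, ?_, ?_⟩
  · rw [coe_mul_mulVec, ← hu₁, T_fb_apply, if_neg hne', mul_zero, sub_zero, h1l]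
    exact F₀.one_mem
  · rw [coe_mul_mulVec, ← hu₁, T_fb_apply, if_pos rfl, h1l, h1r]
    have : b - b * 1 * 1 = 0 := by ring
    rw [this]
    exact F₀.zero_mem
  · intro k hk1 hk2
    rw [coe_mul_mulVec, ← hu₁, T_fb_apply, if_neg hk2, mul_zero, sub_zero, h1o k hk1]

/-- normalising one hyperbolic pair of coordinates. -/
theorem pair_fix {M : Subgroup Sp}
    (hall : ∀ v : V, RatV F₀ v → ∀ c : F, T v c ∈ M) (i : Fin m) (u : V) :
    ∃ h ∈ M, ((h : MM) *ᵥ u) (Sum.inl i) ∈ F₀ ∧ ((h : MM) *ᵥ u) (Sum.inr i) ∈ F₀ ∧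
      ∀ k, k ≠ Sum.inl i → k ≠ Sum.inr i → ((h : MM) *ᵥ u) k = u k := by
  have hne : (Sum.inr i : Fin m ⊕ Fin m) ≠ Sum.inl i := by simp
  have hne' : (Sum.inl i : Fin m ⊕ Fin m) ≠ Sum.inr i := by simp
  by_cases hb : u (Sum.inr i) ≠ 0
  · exact pair_fix_of_ne hall i u hb
  push Not at hb
  by_cases ha : u (Sum.inl i) = 0
  · refine ⟨1, M.one_mem, ?_, ?_, ?_⟩
    · rw [coe_one_mulVec, ha]; exact F₀.zero_mem
    · rw [coe_one_mulVec, hb]; exact F₀.zero_mem
    · intro k _ _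
      rw [coe_one_mulVec]
  · obtain ⟨u₀, hu₀⟩ : ∃ u₀ : V, u₀ = (T (fb i) (-(u (Sum.inl i))⁻¹) : MM) *ᵥ u := ⟨_, rfl⟩
    have h0r : u₀ (Sum.inr i) = 1 := by
      rw [hu₀, T_fb_apply, if_pos rfl, hb]
      field_simp
      ring
    have h0o : ∀ k, k ≠ Sum.inr i → u₀ k = u k := by
      intro k hk
      rw [hu₀, T_fb_apply, if_neg hk, mul_zero, sub_zero]
    obtain ⟨h, hhM, h1, h2, h3⟩ := pair_fix_of_ne hall i u₀ (by rw [h0r]; exact one_ne_zero)
    refine ⟨h * T (fb i) (-(u (Sum.inl i))⁻¹), M.mul_mem hhM (hall _ (ratV_fb i) _), ?_, ?_, ?_⟩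
    · rw [coe_mul_mulVec, ← hu₀]; exact h1
    · rw [coe_mul_mulVec, ← hu₀]; exact h2
    · intro k hk1 hk2
      rw [coe_mul_mulVec, ← hu₀, h3 k hk1 hk2, h0o k hk2]

/-- every vector is carried to a rational vector by an element of `M`. -/
theorem exists_rat_image {M : Subgroup Sp}
    (hall : ∀ v : V, RatV F₀ v → ∀ c : F, T v c ∈ M) :
    ∀ (S : Finset (Fin m)) (u : V),
      (∀ i, i ∉ S → u (Sum.inl i) ∈ F₀ ∧ u (Sum.inr i) ∈ F₀) →
      ∃ g ∈ M, RatV F₀ ((g : MM) *ᵥ u) := by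
  classical
  intro S
  induction S using Finset.induction_on with
  | empty =>
    intro u hu
    refine ⟨1, M.one_mem, ?_⟩
    rw [coe_one_mulVec]
    intro k
    rcases k with i | i
    · exact (hu i (Finset.notMem_empty i)).1
    · exact (hu i (Finset.notMem_empty i)).2
  | insert i S hiS ih =>
    intro u hu
    obtain ⟨h, hhM, h1, h2, h3⟩ := pair_fix hall i u
    obtain ⟨g, hgM, hg⟩ := ih ((h : MM) *ᵥ u) (by
      intro j hj
      by_cases hji : j = i
      · rw [hji]; exact ⟨h1, h2⟩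
      · have hj' : j ∉ insert i S := by
          rw [Finset.mem_insert]
          push Not
          exact ⟨hji, hj⟩
        have hne1 : (Sum.inl j : Fin m ⊕ Fin m) ≠ Sum.inl i := fun hh => hji (Sum.inl.inj hh)
        have hne2 : (Sum.inr j : Fin m ⊕ Fin m) ≠ Sum.inr i := fun hh => hji (Sum.inr.inj hh)
        rw [h3 _ hne1 (by simp), h3 _ (by simp) hne2]
        exact hu j hj')
    refine ⟨g * h, M.mul_mem hgM hhM, ?_⟩
    rw [coe_mul_mulVec]
    exact hg

/-- a subgroup containing all transvections with rational centre is everything. -/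
theorem top_of_all {M : Subgroup Sp}
    (hall : ∀ v : V, RatV F₀ v → ∀ c : F, T v c ∈ M) : M = ⊤ := by
  have hT : ∀ (u : V) (c : F), T u c ∈ M := by
    intro u c
    obtain ⟨g, hgM, hg⟩ := exists_rat_image hall Finset.univ u
      (fun i hi => absurd (Finset.mem_univ i) hi)
    have h1 := conj_T g⁻¹ ((g : MM) *ᵥ u) c
    rw [coe_inv_mulVec_eq g rfl] at h1
    rw [← h1]
    exact M.mul_mem (M.mul_mem (M.inv_mem hgM) (hall _ hg c)) (M.inv_mem (M.inv_mem hgM))
  rw [eq_top_iff, ← transvectionSubgroup_eq_top]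
  unfold transvectionSubgroup
  rw [Subgroup.closure_le]
  rintro A ⟨w, c, hA⟩
  have : A = T w c := Subtype.ext hA
  rw [this]
  exact hT w c

/-- the subfield group (for the identity change of basis) is maximal in the symplectic
group. -/
theorem maximal_one [Fintype F] (hm : 3 ≤ m) {r : ℕ} (hr : r.Prime)
    (hcard : Fintype.card F = Nat.card F₀ ^ r) :
    Cfsg.Geo.IsMaximalIn (Cfsg.spGL m F)
      (Cfsg.Geo.subfieldSubgroup F₀ (1 : GL (Fin m ⊕ Fin m) F) ⊓ Cfsg.spGL m F) := by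
  have hm1 : 1 ≤ m := by omega
  -- an element outside the subfield
  have hne : ∃ c : F, c ∉ F₀ := by
    by_contra hcon
    push Not at hcon
    have h1 : Nat.card F₀ = Fintype.card F := by
      rw [← Nat.card_eq_fintype_card]
      exact Nat.card_congr ⟨fun x => x.1, fun x => ⟨x, hcon x⟩, fun x => rfl, fun x => rfl⟩
    have h2 : 2 ≤ Fintype.card F := Fintype.one_lt_card
    rw [← h1] at hcard h2
    have h3 : Nat.card F₀ ^ 1 = Nat.card F₀ ^ r := by rw [pow_one]; exact hcard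
    have := Nat.pow_right_injective h2 h3
    exact hr.one_lt.ne this
  obtain ⟨c, hc⟩ := hne
  refine ⟨lt_of_le_of_ne inf_le_right ?_, ?_⟩
  · intro heq
    have h1 : toGL m F (T (eb ⟨0, by omega⟩) c) ∈ Cfsg.spGL m F := toGL_mem _
    rw [← heq] at h1
    have h2 : T (eb ⟨0, by omega⟩ : V) c ∈ Hs m F₀ := (mem_Hs_iff _).mpr h1.1
    obtain ⟨μ, hμ0, hμ⟩ := exists_of_mem_Hs h2
    have hA := hμ (eb ⟨0, by omega⟩) (ratV_eb _)
    have hB := hμ (fb ⟨0, by omega⟩) (ratV_fb _)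
    have hA0 := hA (Sum.inl ⟨0, by omega⟩)
    have hB0 := hB (Sum.inl ⟨0, by omega⟩)
    rw [Pi.smul_apply, T_eb_apply, if_pos rfl] at hA0 hB0
    have hne : (Sum.inr (⟨0, by omega⟩ : Fin m) : Fin m ⊕ Fin m) ≠ Sum.inl ⟨0, by omega⟩ := by
      simp
    unfold eb at hA0
    unfold fb at hB0
    rw [Pi.single_eq_same, Pi.single_eq_of_ne hne, mul_zero, zero_mul, add_zero, smul_eq_mul,
      mul_one] at hA0
    rw [Pi.single_eq_same, Pi.single_eq_of_ne hne.symm, mul_one, mul_one, zero_add,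
      smul_eq_mul] at hB0
    apply hc
    have := F₀.mul_mem hB0 (F₀.inv_mem hA0)
    rwa [mul_comm μ c, mul_assoc, mul_inv_cancel₀ hμ0, mul_one] at this
  · intro M' hHM hMK
    obtain ⟨M, hMd⟩ : ∃ M : Subgroup Sp, M = M'.comap (toGL m F) := ⟨_, rfl⟩
    have hM : Hs m F₀ ≤ M := by
      rw [hMd]
      unfold Hs
      exact Subgroup.comap_mono hHM
    by_cases hsub : M ≤ Hs m F₀
    · left
      apply le_antisymm _ hHM
      intro g hg
      obtain ⟨A, rfl⟩ := exists_toGL_eq (hMK hg)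
      have hA : A ∈ M := by rw [hMd]; exact hg
      exact ⟨(mem_Hs_iff A).mp (hsub hA), hMK hg⟩
    · right
      obtain ⟨g, hgM, hg⟩ := SetLike.not_le_iff_exists.1 hsub
      obtain ⟨c', hc', hc'M⟩ := exists_irr_param hm hr hcard hM hgM hg
      have hle : F₀ ≤ CcField hm1 hM := fun x hx => rat_mem_Cc hM hx
      have htop : CcField hm1 hM = ⊤ := by
        rcases Cfsg.Agent.Helper7.SubL.subfield_eq_or_top hr hcard hle with h | h
        · exfalso
          apply hc'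
          rw [← h]
          exact hc'M
        · exact h
      have hall : ∀ v : V, RatV F₀ v → ∀ c : F, T v c ∈ M := by
        intro v hv c
        have hx : c ∈ CcField hm1 hM := by rw [htop]; exact Subfield.mem_top c
        exact hx v hv
      have hMtop := top_of_all hall
      apply le_antisymm hMK
      intro g hg
      obtain ⟨A, rfl⟩ := exists_toGL_eq hg
      have hA : A ∈ M := by rw [hMtop]; exact Subgroup.mem_top A
      rw [hMd] at hA
      exact hA

end Cfsg.Agent.Helper7.SpSub
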