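import Mathlib
import Cfsg.Agent.Helper7.SpSubJ
import Cfsg.Agent.Helper7.SubLI
import Cfsg.Agent.Helper8.SpSSympIso
import Cfsg.Agent.S0270

set_option autoImplicit false
set_option linter.unusedSectionVars false

/-! Subfield subgroups of the symplectic group, part K: a form-rational change of basis may be
replaced by a similitude, and the general maximality statement (helper7). -/

namespace Cfsg.Agent.Helper7.SpSub

open Matrix Cfsg Cfsg.Geo Cfsg.Agent.Helper7.Symp Cfsg.Agent.Helper7.SpMax Cfsg.Agent.S5645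
  Module

variable {F : Type*} [Field F] {m : ℕ} {F₀ : Subfield F}

local notation "V" => (Fin m ⊕ Fin m → F)
local notation "MM" => Matrix (Fin m ⊕ Fin m) (Fin m ⊕ Fin m) F
local notation "II" => (Fin m ⊕ Fin m)

/-- the coordinatewise inclusion of rational vectors. -/
def upV (s : II → F₀) : V := fun j => (s j : F)

theorem upV_add (s t : II → F₀) : (upV (s + t) : V) = upV s + upV t := rfl

theorem upV_smul (a : F₀) (s : II → F₀) : (upV (a • s) : V) = (a : F) • upV s := rfl

theorem upV_ratV (s : II → F₀) : RatV F₀ (upV s : V) := fun j => (s j).2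

/-- the negated scaled form on the rational points of `P`, with values in the subfield. -/
noncomputable def ratForm (P : GL II F) (ζ : F)
    (hP : Cfsg.Geo.IsFormRationalStructure (Cfsg.sympForm m F) F₀ ζ P) :
    (II → F₀) →ₗ[F₀] (II → F₀) →ₗ[F₀] F₀ :=
  LinearMap.mk₂ F₀
    (fun s t => ⟨-(ζ * sympForm m F ((P : MM) *ᵥ upV s) ((P : MM) *ᵥ upV t)),
      F₀.neg_mem (hP _ _ (upV_ratV s) (upV_ratV t))⟩)
    (by
      intro s s' t
      apply Subtype.ext
      show -(ζ * sympForm m F ((P : MM) *ᵥ upV (s + s')) ((P : MM) *ᵥ upV t)) =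
        -(ζ * sympForm m F ((P : MM) *ᵥ upV s) ((P : MM) *ᵥ upV t)) +
        -(ζ * sympForm m F ((P : MM) *ᵥ upV s') ((P : MM) *ᵥ upV t))
      rw [upV_add, mulVec_add, sympForm_add_left]
      ring)
    (by
      intro a s t
      apply Subtype.ext
      show -(ζ * sympForm m F ((P : MM) *ᵥ upV (a • s)) ((P : MM) *ᵥ upV t)) =
        (a : F) * -(ζ * sympForm m F ((P : MM) *ᵥ upV s) ((P : MM) *ᵥ upV t))
      rw [upV_smul, mulVec_smul, sympForm_smul_left]
      ring)
    (by
      intro s t t'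
      apply Subtype.ext
      show -(ζ * sympForm m F ((P : MM) *ᵥ upV s) ((P : MM) *ᵥ upV (t + t'))) =
        -(ζ * sympForm m F ((P : MM) *ᵥ upV s) ((P : MM) *ᵥ upV t)) +
        -(ζ * sympForm m F ((P : MM) *ᵥ upV s) ((P : MM) *ᵥ upV t'))
      rw [upV_add, mulVec_add, sympForm_add_right]
      ring)
    (by
      intro a s t
      apply Subtype.ext
      show -(ζ * sympForm m F ((P : MM) *ᵥ upV s) ((P : MM) *ᵥ upV (a • t))) =
        (a : F) * -(ζ * sympForm m F ((P : MM) *ᵥ upV s) ((P : MM) *ᵥ upV t))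
      rw [upV_smul, mulVec_smul, sympForm_smul_right]
      ring)

theorem ratForm_apply (P : GL II F) (ζ : F)
    (hP : Cfsg.Geo.IsFormRationalStructure (Cfsg.sympForm m F) F₀ ζ P) (s t : II → F₀) :
    ((ratForm P ζ hP s t : F₀) : F) =
      -(ζ * sympForm m F ((P : MM) *ᵥ upV s) ((P : MM) *ᵥ upV t)) := rfl

theorem ratForm_alt (P : GL II F) (ζ : F)
    (hP : Cfsg.Geo.IsFormRationalStructure (Cfsg.sympForm m F) F₀ ζ P) :
    Cfsg.Agent.Helper8.SpS.Alt (ratForm P ζ hP) := by
  intro s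
  apply Subtype.ext
  rw [ratForm_apply, sympForm_self, mul_zero, neg_zero]
  rfl

theorem ratForm_nondeg (P : GL II F) {ζ : F} (hζ : ζ ≠ 0)
    (hP : Cfsg.Geo.IsFormRationalStructure (Cfsg.sympForm m F) F₀ ζ P) :
    Cfsg.Agent.Helper8.SpS.Nondeg (ratForm P ζ hP) := by
  intro s hs
  have h1 : ∀ k : II, sympForm m F ((P : MM) *ᵥ upV s) ((P : MM) *ᵥ Pi.single k 1) = 0 := by
    intro k
    have h2 := congrArg (Subtype.val : F₀ → F) (hs (Pi.single k 1))
    rw [ratForm_apply] at h2
    have h3 : (upV (Pi.single k (1 : F₀)) : V) = Pi.single k 1 := by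
      funext j
      unfold upV
      by_cases hj : j = k
      · rw [hj, Pi.single_eq_same, Pi.single_eq_same]; rfl
      · rw [Pi.single_eq_of_ne hj, Pi.single_eq_of_ne hj]; rfl
    rw [h3] at h2
    have h4 : ζ * sympForm m F ((P : MM) *ᵥ upV s) ((P : MM) *ᵥ Pi.single k 1) = 0 := by
      have : ((0 : F₀) : F) = 0 := rfl
      rw [this] at h2
      exact neg_eq_zero.mp h2
    exact (mul_eq_zero.mp h4).resolve_left hζ
  have h5 : ∀ y : V, sympForm m F ((P : MM) *ᵥ upV s) y = 0 := by
    intro y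
    obtain ⟨x, hx⟩ : ∃ x : V, x = ((P⁻¹ : GL II F) : MM) *ᵥ y := ⟨_, rfl⟩
    have hy : y = (P : MM) *ᵥ x := by
      rw [hx, mulVec_mulVec, ← Units.val_mul, mul_inv_cancel, Units.val_one, one_mulVec]
    have hxs : x = ∑ k, x k • (Pi.single k 1 : V) := by
      funext j
      rw [Finset.sum_apply]
      simp [Pi.single_apply]
    rw [hy, hxs, mulVec_sum]
    unfold sympForm
    rw [mulVec_sum, dotProduct_sum]
    apply Finset.sum_eq_zero
    intro k _
    rw [mulVec_smul, mulVec_smul, dotProduct_smul]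
    have := h1 k
    unfold sympForm at this
    rw [this, smul_zero]
  have h6 : (P : MM) *ᵥ upV s = 0 := by
    by_contra hne
    obtain ⟨y, hy⟩ := exists_sympForm_ne_zero hne
    exact hy (h5 y)
  have h7 : (upV s : V) = 0 := by
    have := Cfsg.Agent.Helper7.SLMax.gl_inv_mulVec P (upV s)
    rw [h6, mulVec_zero] at this
    exact this.symm
  funext j
  apply Subtype.ext
  exact congrFun h7 j

/-- a rational change of basis making `P` a similitude. -/
theorem exists_similitude (P : GL II F) {ζ : F} (hζ : ζ ≠ 0)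
    (hP : Cfsg.Geo.IsFormRationalStructure (Cfsg.sympForm m F) F₀ ζ P) :
    ∃ Q : GL II F₀, ∀ u v : V,
      ζ * sympForm m F
        (((P * Matrix.GeneralLinearGroup.map (F₀.subtype : F₀ →+* F) Q : GL II F) : MM) *ᵥ u)
        (((P * Matrix.GeneralLinearGroup.map (F₀.subtype : F₀ →+* F) Q : GL II F) : MM) *ᵥ v) =
        sympForm m F u v := by
  obtain ⟨k, b, hb⟩ := Cfsg.Agent.Helper8.SpS.exists_symp_basis (ratForm P ζ hP)
    (ratForm_alt P ζ hP) (ratForm_nondeg P hζ hP)
  have hk : m = k := by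
    have h1 := Module.finrank_eq_card_basis b
    rw [Module.finrank_pi, Fintype.card_sum, Fintype.card_fin, Fintype.card_sum,
      Fintype.card_fin] at h1
    omega
  subst hk
  obtain ⟨e, he⟩ : ∃ e : Basis II F₀ (II → F₀), e = Pi.basisFun F₀ II := ⟨_, rfl⟩
  obtain ⟨Q, hQ⟩ : ∃ Q : GL II F₀, (Q : Matrix II II F₀) = e.toMatrix b :=
    ⟨⟨e.toMatrix b, b.toMatrix e, Basis.toMatrix_mul_toMatrix_flip e b,
      Basis.toMatrix_mul_toMatrix_flip b e⟩, rfl⟩
  refine ⟨Q, ?_⟩
  obtain ⟨A, hA⟩ : ∃ A : GL II F,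
      A = P * Matrix.GeneralLinearGroup.map (F₀.subtype : F₀ →+* F) Q := ⟨_, rfl⟩
  rw [← hA]
  -- the images of the basis vectors
  have hcol : ∀ x : II, (A : MM) *ᵥ Pi.single x 1 = (P : MM) *ᵥ upV (b x) := by
    intro x
    rw [hA, Units.val_mul, ← mulVec_mulVec]
    congr 1
    funext j
    rw [mulVec_single_one]
    show (Matrix.GeneralLinearGroup.map (F₀.subtype : F₀ →+* F) Q : GL II F) j x = _
    rw [Matrix.GeneralLinearGroup.map_apply, hQ, Basis.toMatrix_apply, he]
    rfl
  have hgram : ∀ x y : II, ζ * sympForm m F ((A : MM) *ᵥ Pi.single x 1)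
      ((A : MM) *ᵥ Pi.single y 1) = J (Fin m) F x y := by
    intro x y
    rw [hcol, hcol]
    have h1 := congrArg (Subtype.val : F₀ → F) (hb x y)
    rw [ratForm_apply] at h1
    have h2 : ((Cfsg.Agent.Helper8.SpS.Jent x y : F₀) : F) = -J (Fin m) F x y := by
      rcases x with i | i <;> rcases y with j | j
      · simp [Cfsg.Agent.Helper8.SpS.Jent, Matrix.J]
      · by_cases hij : i = j
        · subst hij
          simp [Cfsg.Agent.Helper8.SpS.Jent, Matrix.J]
        · simp [Cfsg.Agent.Helper8.SpS.Jent, Matrix.J, hij, Matrix.one_apply_ne hij]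
      · by_cases hij : i = j
        · subst hij
          simp [Cfsg.Agent.Helper8.SpS.Jent, Matrix.J]
        · simp [Cfsg.Agent.Helper8.SpS.Jent, Matrix.J, hij, Matrix.one_apply_ne hij]
      · simp [Cfsg.Agent.Helper8.SpS.Jent, Matrix.J]
    rw [h2] at h1
    exact neg_injective h1
  have hmat : ζ • ((A : MM)ᵀ * J (Fin m) F * (A : MM)) = J (Fin m) F := by
    ext x y
    have h1 := hgram x y
    rw [Cfsg.Agent.S0270.sympForm_mulVec_eq, single_dotProduct, one_mul,
      mulVec_single_one] at h1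
    rw [Matrix.smul_apply, smul_eq_mul]
    exact h1
  intro u v
  rw [Cfsg.Agent.S0270.sympForm_mulVec_eq, ← smul_eq_mul, ← dotProduct_smul, ← smul_mulVec, hmat]
  rfl

end Cfsg.Agent.Helper7.SpSub
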