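import Mathlib
import Cfsg.Agent.Helper7.SpSubK

set_option autoImplicit false
set_option linter.unusedSectionVars false

/-! Subfield subgroups of the symplectic group, part L: the general maximality statement
(helper7). -/

namespace Cfsg.Agent.Helper7.SpSub

open Matrix Cfsg Cfsg.Geo Cfsg.Agent.Helper7.Symp Cfsg.Agent.Helper7.SpMax Cfsg.Agent.S5645
  Module

variable {F : Type*} [Field F] {m : ℕ} {F₀ : Subfield F}

local notation "V" => (Fin m ⊕ Fin m → F)
local notation "MM" => Matrix (Fin m ⊕ Fin m) (Fin m ⊕ Fin m) F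
local notation "II" => (Fin m ⊕ Fin m)

theorem mem_spGL_iff' (g : GL II F) :
    g ∈ Cfsg.spGL m F ↔ ∀ u v : V,
      sympForm m F ((g : MM) *ᵥ u) ((g : MM) *ᵥ v) = sympForm m F u v := Iff.rfl

/-- conjugation by a similitude preserves the symplectic group. -/
theorem spGL_map_conj (A : GL II F) {c : F} (hc : c ≠ 0)
    (hA : ∀ u v : V, c * sympForm m F ((A : MM) *ᵥ u) ((A : MM) *ᵥ v) = sympForm m F u v) :
    (Cfsg.spGL m F).map (MulAut.conj A).toMonoidHom = Cfsg.spGL m F := by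
  have hA' : ∀ u v : V, sympForm m F ((A : MM) *ᵥ u) ((A : MM) *ᵥ v) =
      c⁻¹ * sympForm m F u v := by
    intro u v
    rw [← hA u v, ← mul_assoc, inv_mul_cancel₀ hc, one_mul]
  have hAi : ∀ u v : V, sympForm m F (((A⁻¹ : GL II F) : MM) *ᵥ u)
      (((A⁻¹ : GL II F) : MM) *ᵥ v) = c * sympForm m F u v := by
    intro u v
    have h1 := hA (((A⁻¹ : GL II F) : MM) *ᵥ u) (((A⁻¹ : GL II F) : MM) *ᵥ v)
    rw [mulVec_mulVec, mulVec_mulVec, ← Units.val_mul, mul_inv_cancel, Units.val_one,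
      one_mulVec, one_mulVec] at h1
    exact h1.symm
  ext x
  rw [Subgroup.mem_map]
  constructor
  · rintro ⟨g, hg, rfl⟩
    rw [mem_spGL_iff'] at hg ⊢
    intro u v
    simp only [MulEquiv.coe_toMonoidHom, MulAut.conj_apply]
    rw [Units.val_mul, Units.val_mul, ← mulVec_mulVec, ← mulVec_mulVec, ← mulVec_mulVec,
      ← mulVec_mulVec, hA', hg, hAi, ← mul_assoc, inv_mul_cancel₀ hc, one_mul]
  · intro hx
    rw [mem_spGL_iff'] at hx
    refine ⟨A⁻¹ * x * A, ?_, ?_⟩
    · rw [mem_spGL_iff']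
      intro u v
      rw [Units.val_mul, Units.val_mul, ← mulVec_mulVec, ← mulVec_mulVec, ← mulVec_mulVec,
        ← mulVec_mulVec, hAi, hx, hA]
    · simp only [MulEquiv.coe_toMonoidHom, MulAut.conj_apply]
      group

/-- conjugating a subgroup by one of its elements. -/
theorem map_conj_of_mem {G : Type*} [Group G] (H : Subgroup G) {q : G} (hq : q ∈ H) :
    H.map (MulAut.conj q).toMonoidHom = H := by
  ext x
  rw [Subgroup.mem_map]
  constructor
  · rintro ⟨y, hy, rfl⟩
    simp only [MulEquiv.coe_toMonoidHom, MulAut.conj_apply]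
    exact H.mul_mem (H.mul_mem hq hy) (H.inv_mem hq)
  · intro hx
    refine ⟨q⁻¹ * x * q, H.mul_mem (H.mul_mem (H.inv_mem hq) hx) hq, ?_⟩
    simp only [MulEquiv.coe_toMonoidHom, MulAut.conj_apply]
    group

/-- a rational change of basis does not change the subfield group. -/
theorem subfieldSubgroup_mul_rat (P : GL II F) (Q : GL II F₀) :
    Cfsg.Geo.subfieldSubgroup F₀
      (P * Matrix.GeneralLinearGroup.map (F₀.subtype : F₀ →+* F) Q) =
      Cfsg.Geo.subfieldSubgroup F₀ P := by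
  unfold Cfsg.Geo.subfieldSubgroup
  have h1 : Matrix.GeneralLinearGroup.map (F₀.subtype : F₀ →+* F) Q ∈
      (Matrix.GeneralLinearGroup.map (F₀.subtype : F₀ →+* F)).range ⊔
        Cfsg.Geo.scalars II F :=
    Subgroup.mem_sup_left ⟨Q, rfl⟩
  have h2 := map_conj_of_mem _ h1
  conv_rhs => rw [← h2]
  rw [Subgroup.map_map]
  congr 1
  rw [map_mul]
  rfl

/-- the subfield group is the conjugate of the standard one. -/
theorem subfieldSubgroup_one_map (A : GL II F) :
    (Cfsg.Geo.subfieldSubgroup F₀ (1 : GL II F)).map (MulAut.conj A).toMonoidHom =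
      Cfsg.Geo.subfieldSubgroup F₀ A := by
  unfold Cfsg.Geo.subfieldSubgroup
  rw [map_one]
  have : ((1 : MulAut (GL II F)).toMonoidHom) = MonoidHom.id _ := rfl
  rw [this, Subgroup.map_id]

/-- the subfield group of a form-rational structure is maximal in the symplectic group. -/
theorem subfield_maximal_sp [Fintype F] (hm : 3 ≤ m) {r : ℕ} (hr : r.Prime)
    (hcard : Fintype.card F = Nat.card F₀ ^ r) (P : GL II F) {ζ : F} (hζ : ζ ≠ 0)
    (hP : Cfsg.Geo.IsFormRationalStructure (Cfsg.sympForm m F) F₀ ζ P) :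
    Cfsg.Geo.IsMaximalIn (Cfsg.spGL m F)
      (Cfsg.Geo.subfieldSubgroup F₀ P ⊓ Cfsg.spGL m F) := by
  obtain ⟨Q, hQ⟩ := exists_similitude P hζ hP
  obtain ⟨A, hA⟩ : ∃ A : GL II F,
      A = P * Matrix.GeneralLinearGroup.map (F₀.subtype : F₀ →+* F) Q := ⟨_, rfl⟩
  rw [← hA] at hQ
  have h1 := Cfsg.Agent.Helper7.SubL.isMaximalIn_map (MulAut.conj A)
    (maximal_one (F₀ := F₀) hm hr hcard)
  rw [Subgroup.map_inf _ _ _ (MulAut.conj A).injective, spGL_map_conj A hζ hQ,
    subfieldSubgroup_one_map, hA, subfieldSubgroup_mul_rat] at h1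
  exact h1

end Cfsg.Agent.Helper7.SpSub
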