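import Mathlib
import Cfsg.Agent.Helper7.QF2A
import Cfsg.Agent.Helper7.SpSubL
import Cfsg.Agent.Helper8.SpOrder
import Cfsg.Agent.Helper8.StdForms
import Cfsg.Agent.S0287
import Cfsg.Agent.S0288
import Cfsg.Agent.S5645
set_option autoImplicit false

/-! The index of an orthogonal group in the symplectic group in characteristic two. -/

namespace Cfsg.Agent.Helper7.QF2

open Module Matrix Cfsg Cfsg.Agent.Helper8.StdForms

variable {F : Type*} [Field F] {d : ℕ}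

local notation "PI" d => Fin d ⊕ Fin d

theorem polar_mulVec_of_sim (Q : ((PI d) → F) → F) (g : Matrix (PI d) (PI d) F) (c : F)
    (hc : ∀ v, Q (g *ᵥ v) = c * Q v) (u v : (PI d) → F) :
    QuadraticMap.polar Q (g *ᵥ u) (g *ᵥ v) = c * QuadraticMap.polar Q u v := by
  unfold QuadraticMap.polar
  rw [← Matrix.mulVec_add, hc, hc, hc]
  ring

/-- inside the symplectic group, similarities of `Q` are isometries -/
theorem inf_spGL_eq (hd : 1 ≤ d) (Q : ((PI d) → F) → F)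
    (hQf : ∀ u v, QuadraticMap.polar Q u v = Cfsg.sympForm d F u v) :
    Cfsg.Geo.quadSimilarityGroup Q ⊓ Cfsg.spGL d F = Cfsg.isometryGroup F Q := by
  ext g
  rw [Subgroup.mem_inf, mem_isometryGroup_iff']
  constructor
  · rintro ⟨⟨c, hc⟩, hsp⟩
    have h1 := polar_mulVec_of_sim Q _ _ hc
      (Cfsg.Agent.Helper7.SpSub.fb (⟨0, hd⟩ : Fin d)) (Cfsg.Agent.Helper7.SpSub.eb ⟨0, hd⟩)
    rw [hQf, hQf, (Cfsg.Agent.Helper7.SpSub.mem_spGL_iff' g).mp hsp,
      Cfsg.Agent.Helper7.SpSub.sympForm_fb_eb, mul_one] at h1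
    intro v
    rw [hc, ← h1, one_mul]
  · intro h
    refine ⟨⟨1, fun v => by rw [h, Units.val_one, one_mul]⟩, fun u v => ?_⟩
    show Cfsg.sympForm d F _ _ = Cfsg.sympForm d F u v
    rw [← hQf, ← hQf]
    have := polar_mulVec_of_sim Q (g : Matrix (PI d) (PI d) F) 1 (fun v => by rw [h, one_mul]) u v
    rw [one_mul] at this
    exact this

theorem isometryGroup_le_spGL (Q : ((PI d) → F) → F)
    (hQf : ∀ u v, QuadraticMap.polar Q u v = Cfsg.sympForm d F u v) :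
    Cfsg.isometryGroup F Q ≤ Cfsg.spGL d F := by
  intro g hg
  rw [mem_isometryGroup_iff'] at hg
  intro u v
  show Cfsg.sympForm d F _ _ = Cfsg.sympForm d F u v
  rw [← hQf, ← hQf]
  have := polar_mulVec_of_sim Q (g : Matrix (PI d) (PI d) F) 1 (fun v => by rw [hg, one_mul]) u v
  rw [one_mul] at this
  exact this

theorem isometryGroup_le_sim (Q : ((PI d) → F) → F) :
    Cfsg.isometryGroup F Q ≤ Cfsg.Geo.quadSimilarityGroup Q := by
  intro g hg
  rw [mem_isometryGroup_iff'] at hg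
  exact ⟨1, fun v => by rw [hg, Units.val_one, one_mul]⟩

theorem card_spGL [Fintype F] (m : ℕ) :
    Nat.card (Cfsg.spGL m F) =
      Fintype.card F ^ (m ^ 2) * ∏ i ∈ Finset.range m, (Fintype.card F ^ (2 * (i + 1)) - 1) := by
  rw [← Cfsg.Agent.Helper8.SpOrder.card_symp]
  symm
  apply Nat.card_congr
  refine Equiv.ofBijective (Cfsg.Agent.S0270.toSpGLHom m F) ⟨?_, Cfsg.Agent.S0270.toSpGLHom_surjective⟩
  intro A B h
  apply Subtype.ext
  have := congrArg (fun g : ↥(Cfsg.spGL m F) =>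
    ((g : Matrix.GeneralLinearGroup (Fin m ⊕ Fin m) F) : Matrix (Fin m ⊕ Fin m) (Fin m ⊕ Fin m) F)) h
  exact this

theorem card_mul_relIndex [Finite F] (hd : 1 ≤ d) (Q : ((PI d) → F) → F)
    (hQf : ∀ u v, QuadraticMap.polar Q u v = Cfsg.sympForm d F u v) :
    Nat.card (Cfsg.isometryGroup F Q) * (Cfsg.Geo.quadSimilarityGroup Q).relIndex (Cfsg.spGL d F)
      = Nat.card (Cfsg.spGL d F) := by
  rw [← Subgroup.inf_relIndex_right, inf_spGL_eq hd Q hQf]
  have := Subgroup.relIndex_mul_relIndex ⊥ (Cfsg.isometryGroup F Q) (Cfsg.spGL d F) bot_le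
    (isometryGroup_le_spGL Q hQf)
  rwa [Subgroup.relIndex_bot_left, Subgroup.relIndex_bot_left] at this

theorem arith_idx (s : ℤ) (q n idx P X : ℕ) (hq : 2 ≤ q) (hP : 0 < P)
    (hX : (X : ℤ) = (q : ℤ) ^ (n + 1) - s) (hX0 : 0 < X)
    (h : (2 * q ^ ((n + 1) * (n + 1 - 1)) * X * P) * idx
      = q ^ ((n + 1) ^ 2) * ∏ i ∈ Finset.range (n + 1), (q ^ (2 * (i + 1)) - 1))
    (hPdef : P = ∏ i ∈ Finset.range (n + 1 - 1), (q ^ (2 * (i + 1)) - 1)) (hs : s * s = 1) :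
    (idx : ℤ) * 2 = (q : ℤ) ^ (n + 1) * ((q : ℤ) ^ (n + 1) + s) := by
  rw [Nat.add_sub_cancel] at h hPdef
  rw [Finset.prod_range_succ, ← hPdef] at h
  have h1 : 1 ≤ q ^ (2 * (n + 1)) := Nat.one_le_pow _ _ (by omega)
  have hA : 0 < q ^ ((n + 1) * n) := Nat.pow_pos (by omega)
  have h2 : ((2 * q ^ ((n + 1) * n) * X * P) * idx : ℤ)
      = (q : ℤ) ^ ((n + 1) ^ 2) * (P * ((q : ℤ) ^ (2 * (n + 1)) - 1)) := by
    have := congrArg (fun t : ℕ => (t : ℤ)) h
    simp only [Nat.cast_mul, Nat.cast_pow, Nat.cast_ofNat] at this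
    rw [this, Nat.cast_sub h1]
    push_cast
    ring
  have h3 : ((q : ℤ) ^ ((n + 1) * n) * X * P) * ((idx : ℤ) * 2 - (q : ℤ) ^ (n + 1) * ((q : ℤ) ^ (n + 1) + s)) = 0 := by
    have e1 : (q : ℤ) ^ ((n + 1) ^ 2) = (q : ℤ) ^ ((n + 1) * n) * (q : ℤ) ^ (n + 1) := by
      rw [← pow_add]
      congr 1
      ring
    have e2 : (q : ℤ) ^ (2 * (n + 1)) = ((q : ℤ) ^ (n + 1)) ^ 2 := by
      rw [← pow_mul]
      congr 1
      ring
    rw [e1, e2] at h2
    rw [hX]
    rw [hX] at h2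
    have e3 : ((q : ℤ) ^ (n + 1)) ^ 2 - 1 = ((q : ℤ) ^ (n + 1) - s) * ((q : ℤ) ^ (n + 1) + s) := by
      linear_combination hs
    rw [e3] at h2
    linear_combination h2
  have h4 : ((q : ℤ) ^ ((n + 1) * n) * X * P) ≠ 0 := by
    have : 0 < q ^ ((n + 1) * n) * X * P := Nat.mul_pos (Nat.mul_pos hA hX0) hP
    exact_mod_cast this.ne'
  rcases mul_eq_zero.mp h3 with h5 | h5
  · exact absurd h5 h4
  · linarith

theorem prod_pos' (q n : ℕ) (hq : 2 ≤ q) : 0 < ∏ i ∈ Finset.range n, (q ^ (2 * (i + 1)) - 1) := by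
  apply Finset.prod_pos
  intro i _
  have : 2 ≤ q ^ (2 * (i + 1)) := by
    calc 2 ≤ q := hq
      _ = q ^ 1 := (pow_one q).symm
      _ ≤ q ^ (2 * (i + 1)) := Nat.pow_le_pow_right (by omega) (by omega)
  omega

theorem eq_two_of_dvd_card [Fintype F] [CharP F 2] (r : ℕ) [Fact r.Prime]
    (h : r ∣ Fintype.card F) : r = 2 := by
  obtain ⟨n, -, hn⟩ := FiniteField.card F 2
  rw [hn] at h
  have := (Fact.out : r.Prime).dvd_of_dvd_pow h
  exact (Nat.prime_dvd_prime_iff_eq Fact.out Nat.prime_two).mp this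

variable [Fintype F] [CharP F 2]

/-- plus type: the odd primes dividing the index divide `q^d + 1` -/
theorem dvd_of_plus (n : ℕ) (Q : ((PI (n + 1)) → F) → F)
    (hQf : ∀ u v, QuadraticMap.polar Q u v = Cfsg.sympForm (n + 1) F u v)
    (φ : ((PI (n + 1)) → F) ≃ₗ[F] ((PI (n + 1)) → F))
    (hφ : ∀ v, plusForm F (n + 1) (φ v) = Q v) (r : ℕ) [Fact r.Prime]
    (hr : r ∣ (Cfsg.Geo.quadSimilarityGroup Q).relIndex (Cfsg.spGL (n + 1) F)) (hr2 : r ≠ 2) :
    r ∣ Fintype.card F ^ (n + 1) + 1 := by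
  have hq : 2 ≤ Fintype.card F := Fintype.one_lt_card
  have h1 := card_mul_relIndex (F := F) (d := n + 1) (by omega) Q hQf
  rw [card_spGL, card_isometryGroup_congr φ (Q₂ := ⇑(plusForm F (n + 1))) hφ] at h1
  have h0 : (⇑(plusForm F (n + 1)) : ((PI (n + 1)) → F) → F) = Cfsg.quadFormPlus (n + 1) F :=
    funext (plusForm_apply F (n + 1))
  rw [h0, Cfsg.Agent.S0287.result (F := F) rfl (n + 1) (by omega)] at h1
  have hX1 : 1 ≤ Fintype.card F ^ (n + 1) := Nat.one_le_pow _ _ (by omega)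
  have hX2 : 2 ≤ Fintype.card F ^ (n + 1) := by
    calc 2 ≤ Fintype.card F := hq
      _ = Fintype.card F ^ 1 := (pow_one _).symm
      _ ≤ Fintype.card F ^ (n + 1) := Nat.pow_le_pow_right (by omega) (by omega)
  have h2 := arith_idx 1 (Fintype.card F) n _ _ (Fintype.card F ^ (n + 1) - 1) hq
    (prod_pos' _ _ hq) (by rw [Nat.cast_sub hX1]; push_cast; ring) (by omega) h1 rfl (by ring)
  have h3 : ((Cfsg.Geo.quadSimilarityGroup Q).relIndex (Cfsg.spGL (n + 1) F)) * 2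
      = Fintype.card F ^ (n + 1) * (Fintype.card F ^ (n + 1) + 1) := by
    exact_mod_cast h2
  have h4 : r ∣ Fintype.card F ^ (n + 1) * (Fintype.card F ^ (n + 1) + 1) := by
    rw [← h3]
    exact Dvd.dvd.mul_right hr 2
  rcases (Nat.Prime.dvd_mul Fact.out).mp h4 with h5 | h5
  · exact absurd (eq_two_of_dvd_card (F := F) r ((Fact.out : r.Prime).dvd_of_dvd_pow h5)) hr2
  · exact h5

/-- minus type: the odd primes dividing the index divide `q^d - 1` -/
theorem dvd_of_minus (n : ℕ) (Q : ((PI (n + 1)) → F) → F)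
    (hQf : ∀ u v, QuadraticMap.polar Q u v = Cfsg.sympForm (n + 1) F u v) (a b : F)
    (hab : ∀ z₁ z₂ : F, z₁ ^ 2 + a * z₁ * z₂ + b * z₂ ^ 2 = 0 → z₁ = 0 ∧ z₂ = 0)
    (φ : ((PI (n + 1)) → F) ≃ₗ[F] (((PI n) ⊕ Fin 2) → F))
    (hφ : ∀ v, minusForm F n a b (φ v) = Q v) (r : ℕ) [Fact r.Prime]
    (hr : r ∣ (Cfsg.Geo.quadSimilarityGroup Q).relIndex (Cfsg.spGL (n + 1) F)) (hr2 : r ≠ 2) :
    r ∣ Fintype.card F ^ (n + 1) - 1 := by
  have hq : 2 ≤ Fintype.card F := Fintype.one_lt_card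
  have h1 := card_mul_relIndex (F := F) (d := n + 1) (by omega) Q hQf
  rw [card_spGL, card_isometryGroup_congr φ (Q₂ := ⇑(minusForm F n a b)) hφ] at h1
  have h0 : (⇑(minusForm F n a b) : (((PI n) ⊕ Fin 2) → F) → F) = Cfsg.quadFormMinus n F a b :=
    funext (minusForm_apply F n a b)
  have h00 := Cfsg.Agent.S0288.result (F := F) rfl (n + 1) (by omega) a b hab
  rw [Nat.add_sub_cancel] at h00
  rw [h0, h00] at h1
  have hX2 : 2 ≤ Fintype.card F ^ (n + 1) := by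
    calc 2 ≤ Fintype.card F := hq
      _ = Fintype.card F ^ 1 := (pow_one _).symm
      _ ≤ Fintype.card F ^ (n + 1) := Nat.pow_le_pow_right (by omega) (by omega)
  have h2 := arith_idx (-1) (Fintype.card F) n _ _ (Fintype.card F ^ (n + 1) + 1) hq
    (prod_pos' _ _ hq) (by push_cast; ring) (by omega)
    (by rw [Nat.add_sub_cancel]; exact h1) (by rw [Nat.add_sub_cancel]) (by ring)
  have h3 : ((Cfsg.Geo.quadSimilarityGroup Q).relIndex (Cfsg.spGL (n + 1) F)) * 2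
      = Fintype.card F ^ (n + 1) * (Fintype.card F ^ (n + 1) - 1) := by
    zify
    rw [Nat.cast_sub (by omega)]
    push_cast
    rw [h2]
    ring
  have h4 : r ∣ Fintype.card F ^ (n + 1) * (Fintype.card F ^ (n + 1) - 1) := by
    rw [← h3]
    exact Dvd.dvd.mul_right hr 2
  rcases (Nat.Prime.dvd_mul Fact.out).mp h4 with h5 | h5
  · exact absurd (eq_two_of_dvd_card (F := F) r ((Fact.out : r.Prime).dvd_of_dvd_pow h5)) hr2
  · exact h5

end Cfsg.Agent.Helper7.QF2
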