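import Mathlib
import Cfsg.Agent.Helper7.UTyG
import Cfsg.Agent.Helper7.QF2B

set_option autoImplicit false
set_option linter.unusedSectionVars false
set_option linter.unusedVariables false

/-!
Subgroups of type `GU_d(q).2` of `Sp_{2d}(q)`, `q` odd: the arithmetic of the index.
-/

namespace Cfsg.Agent.Helper7.UTy

open Matrix Module Cfsg.Agent.Helper7.Symp Cfsg.Agent.Helper7.SpOrd Cfsg.Agent.Helper8.SpStab
  Cfsg.Agent.Helper7.POrd

section arith

/-- the factor of `|GU_d(q)|`. -/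
def fA (q j : ℕ) : ℕ := if Even j then q ^ (j + 1) + 1 else q ^ (j + 1) - 1

/-- the complementary factor. -/
def fB (q j : ℕ) : ℕ := if Even j then q ^ (j + 1) - 1 else q ^ (j + 1) + 1

theorem fA_mul_fB {q : ℕ} (hq : 1 ≤ q) (j : ℕ) : fA q j * fB q j = q ^ (2 * (j + 1)) - 1 := by
  have h1 : 1 ≤ q ^ (j + 1) := Nat.one_le_pow _ _ hq
  have h2 : q ^ (2 * (j + 1)) = q ^ (j + 1) * q ^ (j + 1) := by rw [two_mul, pow_add]
  rw [h2]
  unfold fA fB
  generalize q ^ (j + 1) = x at h1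
  obtain ⟨y, rfl⟩ : ∃ y, x = y + 1 := ⟨x - 1, by omega⟩
  split_ifs
  · have : (y + 1) * (y + 1) - 1 = (y + 1 + 1) * y := by
      have : (y + 1) * (y + 1) = (y + 1 + 1) * y + 1 := by ring
      omega
    rw [this, Nat.add_sub_cancel]
  · have : (y + 1) * (y + 1) - 1 = y * (y + 1 + 1) := by
      have : (y + 1) * (y + 1) = y * (y + 1 + 1) + 1 := by ring
      omega
    rw [this, Nat.add_sub_cancel]

theorem fA_pos {q : ℕ} (hq : 2 ≤ q) (j : ℕ) : 0 < fA q j := by
  unfold fA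
  have h1 : 2 ≤ q ^ (j + 1) := by
    calc 2 ≤ q := hq
      _ = q ^ 1 := (pow_one q).symm
      _ ≤ q ^ (j + 1) := Nat.pow_le_pow_right (by omega) (by omega)
  split_ifs <;> omega

theorem card_sp_split {q : ℕ} (hq : 1 ≤ q) (d : ℕ) :
    q ^ (d ^ 2) * ∏ i ∈ Finset.range d, (q ^ (2 * (i + 1)) - 1) =
      (∏ j ∈ Finset.range d, (q ^ j * fA q j)) * ∏ j ∈ Finset.range d, (q ^ (j + 1) * fB q j) := by
  induction d with
  | zero => simp
  | succ d ih =>
    rw [Finset.prod_range_succ, Finset.prod_range_succ, Finset.prod_range_succ]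
    have e : q ^ ((d + 1) ^ 2) = q ^ (d ^ 2) * (q ^ d * q ^ (d + 1)) := by
      rw [← pow_add, ← pow_add]
      congr 1
      ring
    rw [e, ← fA_mul_fB hq d]
    calc q ^ d ^ 2 * (q ^ d * q ^ (d + 1)) *
          ((∏ x ∈ Finset.range d, (q ^ (2 * (x + 1)) - 1)) * (fA q d * fB q d))
        = (q ^ d ^ 2 * ∏ x ∈ Finset.range d, (q ^ (2 * (x + 1)) - 1)) *
          ((q ^ d * fA q d) * (q ^ (d + 1) * fB q d)) := by ring
      _ = _ := by rw [ih]; ring

/-- the primes dividing the index. -/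
theorem exists_dvd_fB {q d r : ℕ} (hr : r.Prime) (hrq : ¬ r ∣ q) (hq : 2 ≤ q) {C S I : ℕ}
    (hC : C = ∏ j ∈ Finset.range d, (q ^ j * fA q j))
    (hS : S = q ^ (d ^ 2) * ∏ i ∈ Finset.range d, (q ^ (2 * (i + 1)) - 1))
    (hI : I * C = S) (hrI : r ∣ I) : ∃ j < d, r ∣ fB q j := by
  have hCpos : 0 < C := by
    rw [hC]
    apply Finset.prod_pos
    intro j _
    exact Nat.mul_pos (Nat.pow_pos (by omega)) (fA_pos hq j)
  rw [hS, card_sp_split (by omega) d, ← hC, mul_comm] at hI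
  have hI' : I = ∏ j ∈ Finset.range d, (q ^ (j + 1) * fB q j) := Nat.eq_of_mul_eq_mul_left hCpos hI
  rw [hI'] at hrI
  obtain ⟨j, hj, hdvd⟩ := (Prime.dvd_finsetProd_iff (Nat.Prime.prime hr) _).mp hrI
  refine ⟨j, Finset.mem_range.mp hj, ?_⟩
  rcases (Nat.Prime.dvd_mul hr).mp hdvd with h | h
  · exact absurd (hr.dvd_of_dvd_pow h) hrq
  · exact h

theorem four_dvd_of_dvd_two_mul {i n : ℕ} (hn : Even n) (h1 : i ∣ 2 * n) (h2 : ¬ i ∣ n) : 4 ∣ i := by
  by_contra h4
  rcases Nat.even_or_odd i with hev | hodd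
  · obtain ⟨w, hw⟩ := hev
    have hw' : i = 2 * w := by omega
    have hwodd : Odd w := by
      by_contra hwe
      rw [Nat.not_odd_iff_even] at hwe
      obtain ⟨v, hv⟩ := hwe
      apply h4
      exact ⟨v, by omega⟩
    have hwn : w ∣ n := by
      rw [hw'] at h1
      exact Nat.dvd_of_mul_dvd_mul_left (by norm_num) h1
    obtain ⟨m, hm⟩ := hn
    have h2n : 2 ∣ n := ⟨m, by omega⟩
    have hcop : Nat.Coprime 2 w := by
      rw [Nat.coprime_comm]
      exact Nat.Coprime.symm (Nat.coprime_two_left.mpr hwodd)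
    apply h2
    rw [hw']
    exact Nat.Coprime.mul_dvd_of_dvd_of_dvd hcop h2n hwn
  · apply h2
    have hcop : Nat.Coprime i 2 := Nat.coprime_two_right.mpr hodd
    exact Nat.Coprime.dvd_of_dvd_mul_left hcop h1

end arith

variable {F : Type*} [Field F] [Fintype F] {p : ℕ} [Fact p.Prime] [CharP F p] {r : ℕ} [Fact r.Prime] {d : ℕ}

/-- `i ∣ n` gives `r ∣ q^n - 1`. -/
theorem dvd_pow_sub_one_of_orderOf_dvd {n : ℕ} (h : orderOf ((Fintype.card F : ℕ) : ZMod r) ∣ n) :
    r ∣ Fintype.card F ^ n - 1 := by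
  have h1 : ((Fintype.card F : ℕ) : ZMod r) ^ n = 1 := orderOf_dvd_iff_pow_eq_one.mp h
  have hpos : 1 ≤ Fintype.card F ^ n := Nat.one_le_pow _ _ Fintype.card_pos
  rw [← ZMod.natCast_eq_zero_iff, Nat.cast_sub hpos, Nat.cast_pow, h1, Nat.cast_one, sub_self]

/-- from a complementary factor to the order of `q` modulo `r`. -/
theorem case_of_dvd_fB (hr2 : r ≠ 2) {j : ℕ} (hj : j < d) (h : r ∣ fB (Fintype.card F) j) :
    (Odd (orderOf ((Fintype.card F : ℕ) : ZMod r)) ∧ orderOf ((Fintype.card F : ℕ) : ZMod r) ≤ d) ∨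
      (4 ∣ orderOf ((Fintype.card F : ℕ) : ZMod r) ∧ orderOf ((Fintype.card F : ℕ) : ZMod r) ≤ 2 * d) := by
  have hr : r.Prime := Fact.out
  unfold fB at h
  split_ifs at h with hev
  · left
    have hdvd := orderOf_dvd_of_dvd_pow_sub_one h
    have hodd : Odd (j + 1) := Even.add_one hev
    refine ⟨?_, ?_⟩
    · exact Odd.of_dvd_nat hodd hdvd
    · exact le_trans (Nat.le_of_dvd (by omega) hdvd) (by omega)
  · right
    rw [Nat.not_even_iff_odd] at hev
    have hev1 : Even (j + 1) := Odd.add_one hev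
    have hpos : 1 ≤ Fintype.card F ^ (j + 1) := Nat.one_le_pow _ _ Fintype.card_pos
    have h2 : r ∣ Fintype.card F ^ (2 * (j + 1)) - 1 := by
      have e : Fintype.card F ^ (2 * (j + 1)) - 1 =
          (Fintype.card F ^ (j + 1) - 1) * (Fintype.card F ^ (j + 1) + 1) := by
        rw [two_mul, pow_add]
        generalize Fintype.card F ^ (j + 1) = x at hpos
        obtain ⟨y, rfl⟩ : ∃ y, x = y + 1 := ⟨x - 1, by omega⟩
        have : (y + 1) * (y + 1) = y * (y + 1 + 1) + 1 := by ring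
        rw [this]
        simp
      rw [e]
      exact Dvd.dvd.mul_left h _
    have hdvd := orderOf_dvd_of_dvd_pow_sub_one h2
    have hndvd : ¬ orderOf ((Fintype.card F : ℕ) : ZMod r) ∣ j + 1 := by
      intro hcon
      have h3 := dvd_pow_sub_one_of_orderOf_dvd (F := F) (r := r) hcon
      have h4 : r ∣ (Fintype.card F ^ (j + 1) + 1) - (Fintype.card F ^ (j + 1) - 1) := Nat.dvd_sub h h3
      have h5 : (Fintype.card F ^ (j + 1) + 1) - (Fintype.card F ^ (j + 1) - 1) = 2 := by omega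
      rw [h5] at h4
      exact hr2 ((Nat.prime_dvd_prime_iff_eq hr Nat.prime_two).mp h4)
    refine ⟨four_dvd_of_dvd_two_mul hev1 hdvd hndvd, ?_⟩
    exact le_trans (Nat.le_of_dvd (by omega) hdvd) (by omega)

end Cfsg.Agent.Helper7.UTy
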