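import Mathlib
import Cfsg.Agent.Helper7.UTyH

set_option autoImplicit false
set_option linter.unusedSectionVars false
set_option linter.unusedVariables false

/-!
Subgroups of type `GU_d(q).2` of `Sp_{2d}(q)`, `q` odd: the centralizer of the generator and the index.
-/

namespace Cfsg.Agent.Helper7.UTy

open Matrix Module Cfsg.Agent.Helper7.Symp Cfsg.Agent.Helper7.SpOrd Cfsg.Agent.Helper8.SpStab
  Cfsg.Agent.Helper7.POrd

section general

variable {F : Type*} [Field F] {ι : Type} [Fintype ι] [DecidableEq ι]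

/-- invertible matrices as linear equivalences. -/
noncomputable def eGL : GL ι F ≃* ((ι → F) ≃ₗ[F] (ι → F)) :=
  Matrix.GeneralLinearGroup.toLin.trans (LinearMap.GeneralLinearGroup.generalLinearEquiv F (ι → F))

theorem eGL_apply (g : GL ι F) (v : ι → F) : eGL g v = (g : Matrix ι ι F) *ᵥ v := by
  simp [eGL]

/-- the centralizer of a matrix in the general linear group. -/
def centG (δm : Matrix ι ι F) : Subgroup (GL ι F) where
  carrier := {g | (g : Matrix ι ι F) * δm = δm * (g : Matrix ι ι F)}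
  mul_mem' {a b} ha hb := by
    have ha' : (a : Matrix ι ι F) * δm = δm * (a : Matrix ι ι F) := ha
    have hb' : (b : Matrix ι ι F) * δm = δm * (b : Matrix ι ι F) := hb
    show ((a * b : GL ι F) : Matrix ι ι F) * δm = δm * ((a * b : GL ι F) : Matrix ι ι F)
    rw [Units.val_mul, mul_assoc, hb', ← mul_assoc, ha', mul_assoc]
  one_mem' := by
    show ((1 : GL ι F) : Matrix ι ι F) * δm = δm * ((1 : GL ι F) : Matrix ι ι F)
    rw [Units.val_one, one_mul, mul_one]
  inv_mem' {a} ha := by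
    have ha' : (a : Matrix ι ι F) * δm = δm * (a : Matrix ι ι F) := ha
    show ((a⁻¹ : GL ι F) : Matrix ι ι F) * δm = δm * ((a⁻¹ : GL ι F) : Matrix ι ι F)
    have h1' : ((a⁻¹ : GL ι F) : Matrix ι ι F) * (a : Matrix ι ι F) = 1 := by
      rw [← Units.val_mul, inv_mul_cancel, Units.val_one]
    have h1 : (a : Matrix ι ι F) * ((a⁻¹ : GL ι F) : Matrix ι ι F) = 1 := by
      rw [← Units.val_mul, mul_inv_cancel, Units.val_one]
    calc ((a⁻¹ : GL ι F) : Matrix ι ι F) * δm
        = ((a⁻¹ : GL ι F) : Matrix ι ι F) * δm * ((a : Matrix ι ι F) * ((a⁻¹ : GL ι F) : Matrix ι ι F)) := by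
          rw [h1, mul_one]
      _ = ((a⁻¹ : GL ι F) : Matrix ι ι F) * (δm * (a : Matrix ι ι F)) * ((a⁻¹ : GL ι F) : Matrix ι ι F) := by
          simp only [mul_assoc]
      _ = (((a⁻¹ : GL ι F) : Matrix ι ι F) * (a : Matrix ι ι F)) * δm * ((a⁻¹ : GL ι F) : Matrix ι ι F) := by
          rw [← ha']; simp only [mul_assoc]
      _ = δm * ((a⁻¹ : GL ι F) : Matrix ι ι F) := by rw [h1', one_mul]

theorem mem_centG {δm : Matrix ι ι F} {g : GL ι F} :
    g ∈ centG δm ↔ (g : Matrix ι ι F) * δm = δm * (g : Matrix ι ι F) := Iff.rfl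

theorem centG_le_normalizer [Nonempty ι] (h2 : (2 : F) ≠ 0) {K : Subalgebra F (Matrix ι ι F)}
    {δm : Matrix ι ι F} {z : F} (hKG : KGen K δm z) : centG δm ≤ Cfsg.Geo.subalgebraNormalizer K := by
  intro g hg
  rw [mem_centG] at hg
  rw [mem_normalizer_iff h2 hKG]
  left
  rw [hg, mul_assoc, ← Units.val_mul, mul_inv_cancel, Units.val_one, mul_one]

end general

variable {F : Type*} [Field F] [Fintype F] {d : ℕ}

local notation "MM" => Matrix (Fin d ⊕ Fin d) (Fin d ⊕ Fin d) F
local notation "VV" => (Fin d ⊕ Fin d → F)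

/-- the centralizer in the symplectic group as a set of linear equivalences. -/
theorem card_centG_inf (δm : MM) :
    Nat.card ↥(centG δm ⊓ Cfsg.spGL d F) =
      Nat.card {T : VV ≃ₗ[F] VV // (∀ u v, sB d F (T u) (T v) = sB d F u v) ∧
        ∀ v, T (Matrix.toLin' δm v) = Matrix.toLin' δm (T v)} := by
  apply Nat.card_congr
  refine Equiv.subtypeEquiv (eGL (F := F) (ι := Fin d ⊕ Fin d)).toEquiv ?_
  intro g
  show g ∈ centG δm ⊓ Cfsg.spGL d F ↔ _
  rw [Subgroup.mem_inf, mem_centG]
  constructor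
  · rintro ⟨hc, hs⟩
    refine ⟨?_, ?_⟩
    · intro u v
      show sB d F (eGL g u) (eGL g v) = sB d F u v
      rw [eGL_apply, eGL_apply, sB_apply, sB_apply]
      exact hs u v
    · intro v
      show eGL g (Matrix.toLin' δm v) = Matrix.toLin' δm (eGL g v)
      rw [eGL_apply, eGL_apply, Matrix.toLin'_apply, Matrix.toLin'_apply, mulVec_mulVec, mulVec_mulVec, hc]
  · rintro ⟨hi, hc⟩
    refine ⟨?_, ?_⟩
    · apply Matrix.toLin'.injective
      apply LinearMap.ext
      intro v
      have := hc v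
      change eGL g (Matrix.toLin' δm v) = Matrix.toLin' δm (eGL g v) at this
      rw [eGL_apply, eGL_apply, Matrix.toLin'_apply, Matrix.toLin'_apply, mulVec_mulVec, mulVec_mulVec] at this
      rw [Matrix.toLin'_apply, Matrix.toLin'_apply]
      exact this
    · intro u v
      have := hi u v
      change sB d F (eGL g u) (eGL g v) = sB d F u v at this
      rw [eGL_apply, eGL_apply, sB_apply, sB_apply] at this
      exact this

/-- the index of the normalizer divides the index of the centralizer. -/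
theorem exists_index_mul (h2 : (2 : F) ≠ 0) (hd : 1 ≤ d) {K : Subalgebra F MM} {δm : MM} {z : F}
    (hKG : KGen K δm z) {r : ℕ}
    (hr : r ∣ (Cfsg.Geo.subalgebraNormalizer K).relIndex (Cfsg.spGL d F)) :
    ∃ I : ℕ, r ∣ I ∧ I * Nat.card ↥(centG δm ⊓ Cfsg.spGL d F) = Nat.card ↥(Cfsg.spGL d F) := by
  have : Nonempty (Fin d ⊕ Fin d) := ⟨Sum.inl ⟨0, hd⟩⟩
  refine ⟨(centG δm).relIndex (Cfsg.spGL d F), ?_, ?_⟩
  · exact dvd_trans hr (Subgroup.relIndex_dvd_of_le_left _ (centG_le_normalizer h2 hKG))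
  · rw [← Subgroup.inf_relIndex_right]
    have := Subgroup.relIndex_mul_relIndex ⊥ (centG δm ⊓ Cfsg.spGL d F) (Cfsg.spGL d F) bot_le inf_le_right
    rw [Subgroup.relIndex_bot_left, Subgroup.relIndex_bot_left] at this
    rw [mul_comm]
    exact this

end Cfsg.Agent.Helper7.UTy
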