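import Mathlib
import Cfsg.Agent.Helper7.FExF
import Cfsg.Agent.Helper7.FExG
import Cfsg.Agent.Helper7.UTyI
import Cfsg.Agent.Helper7.POrdL
import Cfsg.Agent.Helper1.SSCent

set_option autoImplicit false
set_option linter.unusedSectionVars false
set_option linter.unusedVariables false

/-!
Subgroups of type `Sp_{2d/k}(q^k)` of `Sp_{2d}(q)`: the centralizer of the field, its order, and the primes dividing
the index of the normalizer.
-/

namespace Cfsg.Agent.Helper7.FEx

open Matrix Module Polynomial Cfsg.Agent.Helper7.Symp Cfsg.Agent.Helper7.SpOrd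
  Cfsg.Agent.Helper7.POrd Cfsg.Agent.Helper7.SpTI Cfsg.Agent.Helper7.UTy Cfsg.Agent.Helper8.SpStab

section general

variable {F : Type*} [Field F] {ι : Type} [Fintype ι] [DecidableEq ι]

/-- the centralizer of a subalgebra in the general linear group. -/
def centK (K : Subalgebra F (Matrix ι ι F)) : Subgroup (GL ι F) := ⨅ a : K, centG (a : Matrix ι ι F)

theorem mem_centK {K : Subalgebra F (Matrix ι ι F)} {g : GL ι F} :
    g ∈ centK K ↔ ∀ a ∈ K, (g : Matrix ι ι F) * a = a * (g : Matrix ι ι F) := by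
  unfold centK
  rw [Subgroup.mem_iInf]
  constructor
  · intro h a ha
    exact mem_centG.mp (h ⟨a, ha⟩)
  · intro h a
    exact mem_centG.mpr (h a a.2)

theorem centK_le_normalizer (K : Subalgebra F (Matrix ι ι F)) :
    centK K ≤ Cfsg.Geo.subalgebraNormalizer K := by
  intro g hg k
  rw [mem_centK] at hg
  constructor
  · intro hk
    rw [hg k hk, mul_assoc, val_mul_inv, mul_one]
    exact hk
  · intro h
    have h1 := hg _ h
    have h2 : (g : Matrix ι ι F) * k * ((g⁻¹ : GL ι F) : Matrix ι ι F) = k := by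
      calc (g : Matrix ι ι F) * k * ((g⁻¹ : GL ι F) : Matrix ι ι F)
          = ((g⁻¹ : GL ι F) : Matrix ι ι F) * (g : Matrix ι ι F) *
            ((g : Matrix ι ι F) * k * ((g⁻¹ : GL ι F) : Matrix ι ι F)) := by rw [val_inv_mul, one_mul]
        _ = ((g⁻¹ : GL ι F) : Matrix ι ι F) * ((g : Matrix ι ι F) *
            ((g : Matrix ι ι F) * k * ((g⁻¹ : GL ι F) : Matrix ι ι F))) := by rw [mul_assoc]
        _ = ((g⁻¹ : GL ι F) : Matrix ι ι F) * ((g : Matrix ι ι F) * k * ((g⁻¹ : GL ι F) : Matrix ι ι F) *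
            (g : Matrix ι ι F)) := by rw [h1]
        _ = (((g⁻¹ : GL ι F) : Matrix ι ι F) * (g : Matrix ι ι F)) * k *
            (((g⁻¹ : GL ι F) : Matrix ι ι F) * (g : Matrix ι ι F)) := by simp only [mul_assoc]
        _ = k := by rw [val_inv_mul, one_mul, mul_one]
    rw [h2] at h
    exact h

end general

variable {F : Type*} [Field F] [Fintype F] {d : ℕ}

local notation "MM" => Matrix (Fin d ⊕ Fin d) (Fin d ⊕ Fin d) F
local notation "VV" => (Fin d ⊕ Fin d → F)

/-- the centralizer in the symplectic group as a set of linear equivalences. -/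
theorem card_centK_inf (K : Subalgebra F MM) :
    Nat.card ↥(centK K ⊓ Cfsg.spGL d F) =
      Nat.card {T : VV ≃ₗ[F] VV // (∀ u v, sB d F (T u) (T v) = sB d F u v) ∧
        ∀ (a : K) (v : VV), T ((a : MM) *ᵥ v) = (a : MM) *ᵥ T v} := by
  apply Nat.card_congr
  refine Equiv.subtypeEquiv (eGL (F := F) (ι := Fin d ⊕ Fin d)).toEquiv ?_
  intro g
  show g ∈ centK K ⊓ Cfsg.spGL d F ↔ _
  rw [Subgroup.mem_inf, mem_centK]
  constructor
  · rintro ⟨hc, hs⟩
    refine ⟨?_, ?_⟩
    · intro u v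
      show sB d F (eGL g u) (eGL g v) = sB d F u v
      rw [eGL_apply, eGL_apply, sB_apply, sB_apply]
      exact hs u v
    · intro a v
      show eGL g ((a : MM) *ᵥ v) = (a : MM) *ᵥ (eGL g v)
      rw [eGL_apply, eGL_apply, mulVec_mulVec, mulVec_mulVec, hc a a.2]
  · rintro ⟨hi, hc⟩
    refine ⟨?_, ?_⟩
    · intro a ha
      apply Matrix.toLin'.injective
      apply LinearMap.ext
      intro v
      have := hc ⟨a, ha⟩ v
      change eGL g (a *ᵥ v) = a *ᵥ (eGL g v) at this
      rw [eGL_apply, eGL_apply, mulVec_mulVec, mulVec_mulVec] at this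
      rw [Matrix.toLin'_apply, Matrix.toLin'_apply]
      exact this
    · intro u v
      have := hi u v
      change sB d F (eGL g u) (eGL g v) = sB d F u v at this
      rw [eGL_apply, eGL_apply, sB_apply, sB_apply] at this
      exact this

/-- the order of the centralizer. -/
theorem card_centK (hd : 1 ≤ d) {k : ℕ} (hk : k.Prime) (K : Subalgebra F MM)
    (hK : Cfsg.Geo.IsFieldSubalgebra k K)
    (hKf : Cfsg.Geo.IsSelfAdjointFor (Cfsg.sympForm d F) K)
    (hKalt : ∀ a ∈ K, ∀ v : VV, Cfsg.sympForm d F (a *ᵥ v) v = 0) :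
    ∃ m : ℕ, d = k * m ∧ Nat.card ↥(centK K ⊓ Cfsg.spGL d F) =
      (Fintype.card F ^ k) ^ (m ^ 2) *
        ∏ j ∈ Finset.range m, ((Fintype.card F ^ k) ^ (2 * (j + 1)) - 1) := by
  haveI : Nonempty (Fin d ⊕ Fin d) := ⟨Sum.inl ⟨0, hd⟩⟩
  letI := fieldOfSub K hK
  letI := modOfSub K
  haveI := finrank_pos_of hk.pos hK
  letI : Fintype K := Fintype.ofFinite K
  have key : ∀ (a : F) (k' : K) (v : VV), (a • k') • v = a • (k' • v) := fun a k' v => smul_assoc' K a k' v
  have htower : IsScalarTower F K VV := ⟨key⟩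
  have hnd : ∀ u : VV, (∀ v, sB d F u v = 0) → u = 0 := fun u h => sB_nondeg u h
  have hsa : ∀ (a : K) (u v : VV), sB d F (a • u) v = sB d F u (a • v) := by
    intro a u v
    rw [sB_apply, sB_apply]
    exact hKf a a.2 u v
  have halt : ∀ (a : K) (v : VV), sB d F (a • v) v = 0 := by
    intro a v
    rw [sB_apply]
    exact hKalt a a.2 v
  obtain ⟨m, hm, hcard⟩ := @Cfsg.Agent.Helper1.SSCent.card_centralizer_SS F K VV _ _ _ _ _ _ htower _ _ _
    (sB d F) (sB_isAlt d) hnd hsa halt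
  have hcardK : Fintype.card K = Fintype.card F ^ k := by
    rw [Module.card_eq_pow_finrank (K := F) (V := K), hK.finrank_eq]
  have hfin := finrank_mul hk.pos K hK
  rw [Fintype.card_sum, Fintype.card_fin] at hfin
  refine ⟨m, ?_, ?_⟩
  · rw [hm] at hfin
    have h1 : 2 * (k * m) = 2 * d := by
      calc 2 * (k * m) = k * (2 * m) := by ring
        _ = d + d := hfin
        _ = 2 * d := by ring
    omega
  · rw [card_centK_inf, ← hcardK]
    exact hcard

theorem not_dvd_card_of_ne' {p : ℕ} [Fact p.Prime] [CharP F p] {r : ℕ} [Fact r.Prime] (hrp : r ≠ p) :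
    ¬ r ∣ Fintype.card F := by
  intro h
  obtain ⟨n, -, hn⟩ := FiniteField.card F p
  rw [hn] at h
  have hr : r.Prime := Fact.out
  have hp : p.Prime := Fact.out
  exact hrp ((Nat.prime_dvd_prime_iff_eq hr hp).mp (hr.dvd_of_dvd_pow h))

/-- the primes dividing the index of the normalizer. -/
theorem exists_j {p : ℕ} [Fact p.Prime] [CharP F p] {r : ℕ} [Fact r.Prime] (hrp : r ≠ p)
    (hd : 1 ≤ d) {k : ℕ} (hk : k.Prime) (K : Subalgebra F MM)
    (hK : Cfsg.Geo.IsFieldSubalgebra k K)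
    (hKf : Cfsg.Geo.IsSelfAdjointFor (Cfsg.sympForm d F) K)
    (hKalt : ∀ a ∈ K, ∀ v : VV, Cfsg.sympForm d F (a *ᵥ v) v = 0)
    (hΩ : r ∣ (Cfsg.Geo.subalgebraNormalizer K).relIndex (Cfsg.spGL d F)) :
    ∃ j, 1 ≤ j ∧ j ≤ d ∧ ¬ k ∣ j ∧ orderOf ((Fintype.card F : ℕ) : ZMod r) ∣ 2 * j := by
  have hr : r.Prime := Fact.out
  obtain ⟨m, hdm, hcard⟩ := card_centK hd hk K hK hKf hKalt
  have hrI : r ∣ (centK K).relIndex (Cfsg.spGL d F) :=
    dvd_trans hΩ (Subgroup.relIndex_dvd_of_le_left _ (centK_le_normalizer K))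
  have hI : (centK K).relIndex (Cfsg.spGL d F) * Nat.card ↥(centK K ⊓ Cfsg.spGL d F) =
      Nat.card ↥(Cfsg.spGL d F) := by
    rw [← Subgroup.inf_relIndex_right]
    have := Subgroup.relIndex_mul_relIndex ⊥ (centK K ⊓ Cfsg.spGL d F) (Cfsg.spGL d F) bot_le inf_le_right
    rw [Subgroup.relIndex_bot_left, Subgroup.relIndex_bot_left] at this
    rw [mul_comm]
    exact this
  have hq2 : 2 ≤ Fintype.card F := Fintype.one_lt_card
  obtain ⟨j, hj1, hjd, hkj, hdvd⟩ := exists_dvd_of_index (q := Fintype.card F) hr (not_dvd_card_of_ne' hrp) hq2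
    hk.pos hdm hcard (Cfsg.Agent.Helper7.QF2.card_spGL d) hI hrI
  exact ⟨j, hj1, hjd, hkj, orderOf_dvd_of_dvd_pow_sub_one hdvd⟩

end Cfsg.Agent.Helper7.FEx
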