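import Mathlib
import Cfsg.Agent.Helper7.UTyI

set_option autoImplicit false
set_option linter.unusedSectionVars false
set_option linter.unusedVariables false

/-!
Subgroups of type `GU_d(q).2` of `Sp_{2d}(q)`, `q` odd: the two directions, modulo the order of the unitary group
and the conjugacy of unitary-type structures.
-/

namespace Cfsg.Agent.Helper7.UTy

open Matrix Module Cfsg.Agent.Helper7.Symp Cfsg.Agent.Helper7.SpOrd Cfsg.Agent.Helper8.SpStab
  Cfsg.Agent.Helper7.POrd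

variable {F : Type*} [Field F] [Fintype F] {r : ℕ} [Fact r.Prime] {d : ℕ}

local notation "MM" => Matrix (Fin d ⊕ Fin d) (Fin d ⊕ Fin d) F
local notation "VV" => (Fin d ⊕ Fin d → F)

theorem not_dvd_card_of_ne {p : ℕ} [Fact p.Prime] [CharP F p] (hrp : r ≠ p) : ¬ r ∣ Fintype.card F := by
  intro h
  obtain ⟨n, -, hn⟩ := FiniteField.card F p
  rw [hn] at h
  have hr : r.Prime := Fact.out
  have hp : p.Prime := Fact.out
  exact hrp ((Nat.prime_dvd_prime_iff_eq hr hp).mp (hr.dvd_of_dvd_pow h))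

/-- the forward direction: if all elements of order `r` fix a point then `r = 2`. -/
theorem forward (p : ℕ) [Fact p.Prime] [CharP F p] (hqodd : Odd (Fintype.card F)) (hd : 1 ≤ d)
    {K : Subalgebra F MM} {δm : MM} {z : F} (hKG : KGen K δm z) (hM : MUS d δm z)
    (hcardC : Nat.card {T : VV ≃ₗ[F] VV // (∀ u v, sB d F (T u) (T v) = sB d F u v) ∧
        ∀ v, T (Matrix.toLin' δm v) = Matrix.toLin' δm (T v)} =
      ∏ j ∈ Finset.range d, (Fintype.card F ^ j * fA (Fintype.card F) j))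
    (hΩ : r ∣ (Cfsg.Geo.subalgebraNormalizer K).relIndex (Cfsg.spGL d F))
    (hall : ∀ x ∈ Cfsg.spGL d F,
      (∃ z : F, ((x ^ r : GL (Fin d ⊕ Fin d) F) : MM) = z • (1 : MM)) →
      (∀ z : F, (x : MM) ≠ z • (1 : MM)) →
      ∃ g ∈ Cfsg.spGL d F, g⁻¹ * x * g ∈ Cfsg.Geo.subalgebraNormalizer K) : r = 2 := by
  by_contra hr2
  have h2F : (2 : F) ≠ 0 := two_ne_zero_of_odd_card hqodd
  by_cases hrp : r = p
  · subst hrp
    exact not_forall_of_char hqodd hd hKG hM hall
  · have hr : r.Prime := Fact.out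
    obtain ⟨I, hrI, hI⟩ := exists_index_mul h2F hd hKG hΩ
    have hq2 : 2 ≤ Fintype.card F := Fintype.one_lt_card
    obtain ⟨j, hj, hjdvd⟩ := exists_dvd_fB (q := Fintype.card F) (d := d) hr (not_dvd_card_of_ne hrp) hq2
      ((card_centG_inf δm).trans hcardC) (Cfsg.Agent.Helper7.QF2.card_spGL d) hI hrI
    exact not_forall_of_odd hr2 hrp hqodd hd hKG hM (case_of_dvd_fB hr2 hj hjdvd) hall

/-- the backward direction: every involution (modulo scalars) fixes a point. -/
theorem backward (hqodd : Odd (Fintype.card F)) (hd : 1 ≤ d)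
    {K : Subalgebra F MM} {δm : MM} {z : F} (hKG : KGen K δm z)
    (hE : ∀ X : Module.End F VV, (∀ u v, sB d F (X u) (X v) = sB d F u v) →
      ((∀ v, X (X v) = v) ∨ (∀ v, X (X v) = -v)) →
      ∃ g : VV ≃ₗ[F] VV, (∀ u v, sB d F (g u) (g v) = sB d F u v) ∧
        ((∀ v, g (X (g.symm (Matrix.toLin' δm v))) = Matrix.toLin' δm (g (X (g.symm v)))) ∨
          (∀ v, g (X (g.symm (Matrix.toLin' δm v))) = - Matrix.toLin' δm (g (X (g.symm v))))))
    (x : GL (Fin d ⊕ Fin d) F) (hx : x ∈ Cfsg.spGL d F)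
    (hx2 : ∃ z : F, ((x ^ 2 : GL (Fin d ⊕ Fin d) F) : MM) = z • (1 : MM)) :
    ∃ g ∈ Cfsg.spGL d F, g⁻¹ * x * g ∈ Cfsg.Geo.subalgebraNormalizer K := by
  have : Nonempty (Fin d ⊕ Fin d) := ⟨Sum.inl ⟨0, hd⟩⟩
  have h2F : (2 : F) ≠ 0 := two_ne_zero_of_odd_card hqodd
  obtain ⟨c, hc⟩ := hx2
  set X : Module.End F VV := Matrix.toLin' (x : MM) with hX
  have hiso : ∀ u v, sB d F (X u) (X v) = sB d F u v := by
    intro u v
    rw [hX, Matrix.toLin'_apply, Matrix.toLin'_apply, sB_apply, sB_apply]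
    exact hx u v
  have hXsq : X ^ 2 = c • (1 : Module.End F VV) := by
    rw [hX, ← Matrix.toLin'_pow, ← Units.val_pow_eq_pow_val, hc, map_smul, Matrix.toLin'_one]
    rfl
  have hcc : c * c = 1 := scalar_sq_eq_one hd hiso hXsq
  have hc1 : c = 1 ∨ c = -1 := by
    have : (c - 1) * (c + 1) = 0 := by linear_combination hcc
    rcases mul_eq_zero.mp this with h' | h'
    · exact Or.inl (sub_eq_zero.mp h')
    · exact Or.inr (eq_neg_of_add_eq_zero_left h')
  have hXX : (∀ v, X (X v) = v) ∨ (∀ v, X (X v) = -v) := by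
    have key : ∀ v, X (X v) = c • v := by
      intro v
      have := congrArg (fun f : Module.End F VV => f v) hXsq
      simp only [pow_two, Module.End.mul_apply, LinearMap.smul_apply, Module.End.one_apply] at this
      exact this
    rcases hc1 with h | h
    · left
      intro v
      rw [key, h, one_smul]
    · right
      intro v
      rw [key, h, neg_smul, one_smul]
  obtain ⟨g, hgiso, hg⟩ := hE X hiso hXX
  -- the matrix of `g`
  set G : GL (Fin d ⊕ Fin d) F := (eGL (F := F) (ι := Fin d ⊕ Fin d)).symm g with hG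
  have hGv : ∀ v, (G : MM) *ᵥ v = g v := by
    intro v
    rw [← eGL_apply, hG, MulEquiv.apply_symm_apply]
  have hGiv : ∀ v, ((G⁻¹ : GL (Fin d ⊕ Fin d) F) : MM) *ᵥ v = g.symm v := by
    intro v
    apply g.injective
    rw [← hGv, mulVec_mulVec, ← Units.val_mul, mul_inv_cancel, Units.val_one, one_mulVec,
      LinearEquiv.apply_symm_apply]
  have hGsp : G ∈ Cfsg.spGL d F := by
    intro u v
    show Cfsg.sympForm d F ((G : MM) *ᵥ u) ((G : MM) *ᵥ v) = Cfsg.sympForm d F u v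
    rw [hGv, hGv, ← sB_apply, ← sB_apply]
    exact hgiso u v
  refine ⟨G⁻¹, Subgroup.inv_mem _ hGsp, ?_⟩
  rw [inv_inv, mem_normalizer_iff h2F hKG]
  -- the conjugate
  have hyv : ∀ v, ((G * x * G⁻¹ : GL (Fin d ⊕ Fin d) F) : MM) *ᵥ v = g (X (g.symm v)) := by
    intro v
    rw [Units.val_mul, Units.val_mul, ← mulVec_mulVec, ← mulVec_mulVec, hGiv, hGv, hX, Matrix.toLin'_apply]
  have h1' : (((G * x * G⁻¹)⁻¹ : GL (Fin d ⊕ Fin d) F) : MM) * ((G * x * G⁻¹ : GL (Fin d ⊕ Fin d) F) : MM) = 1 := by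
    rw [← Units.val_mul, inv_mul_cancel, Units.val_one]
  have h1 : ((G * x * G⁻¹ : GL (Fin d ⊕ Fin d) F) : MM) * (((G * x * G⁻¹)⁻¹ : GL (Fin d ⊕ Fin d) F) : MM) = 1 := by
    rw [← Units.val_mul, mul_inv_cancel, Units.val_one]
  rcases hg with hg | hg
  · left
    have hcomm : ((G * x * G⁻¹ : GL (Fin d ⊕ Fin d) F) : MM) * δm =
        δm * ((G * x * G⁻¹ : GL (Fin d ⊕ Fin d) F) : MM) := by
      apply Matrix.toLin'.injective
      apply LinearMap.ext
      intro v
      rw [Matrix.toLin'_apply, Matrix.toLin'_apply, ← mulVec_mulVec, ← mulVec_mulVec, hyv, hyv,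
        ← Matrix.toLin'_apply δm, ← Matrix.toLin'_apply δm]
      exact hg v
    rw [hcomm, mul_assoc, h1, mul_one]
  · right
    have hcomm : ((G * x * G⁻¹ : GL (Fin d ⊕ Fin d) F) : MM) * δm =
        -(δm * ((G * x * G⁻¹ : GL (Fin d ⊕ Fin d) F) : MM)) := by
      apply Matrix.toLin'.injective
      apply LinearMap.ext
      intro v
      rw [map_neg, LinearMap.neg_apply, Matrix.toLin'_apply, Matrix.toLin'_apply, ← mulVec_mulVec,
        ← mulVec_mulVec, hyv, hyv, ← Matrix.toLin'_apply δm, ← Matrix.toLin'_apply δm]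
      exact hg v
    rw [hcomm, neg_mul, mul_assoc, h1, mul_one]

end Cfsg.Agent.Helper7.UTy
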