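import Mathlib
import Cfsg.Agent.Helper7.FExH
import Cfsg.Agent.Helper7.UTyJ
import Cfsg.Agent.Helper9.SS4Conj

set_option autoImplicit false
set_option linter.unusedSectionVars false
set_option linter.unusedVariables false

/-!
Subgroups of type `Sp_2(q^2)` of `Sp_4(q)`, `q` odd: every involution (modulo scalars) fixes a point.
-/

namespace Cfsg.Agent.Helper7.FEx

open Matrix Module Polynomial Cfsg.Agent.Helper7.Symp Cfsg.Agent.Helper7.SpOrd
  Cfsg.Agent.Helper7.POrd Cfsg.Agent.Helper7.SpTI Cfsg.Agent.Helper7.UTy Cfsg.Agent.Helper8.SpStab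

section general

variable {F : Type*} [Field F] {ι : Type} [Fintype ι] [DecidableEq ι]

/-- a quadratic field subalgebra in odd characteristic is generated by a square root of a nonsquare. -/
theorem exists_KGen [Nonempty ι] (h2 : (2 : F) ≠ 0) (K : Subalgebra F (Matrix ι ι F))
    (hK : Cfsg.Geo.IsFieldSubalgebra 2 K) :
    ∃ (δm : Matrix ι ι F) (z : F), KGen K δm z := by
  obtain ⟨κ, hκK, hκ⟩ := knonscalar K hK
  obtain ⟨a₀, b₀, hab⟩ := kdecomp K hK κ hκK hκ (κ * κ) (K.mul_mem hκK hκK)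
  set c : F := b₀ / 2 with hc
  set δm : Matrix ι ι F := κ - c • (1 : Matrix ι ι F) with hδ
  set z : F := a₀ + c * c with hz
  have hδK : δm ∈ K := K.sub_mem hκK (K.smul_mem K.one_mem c)
  have hsq : δm * δm = z • (1 : Matrix ι ι F) := by
    have hb : b₀ = 2 * c := by rw [hc]; field_simp
    rw [hδ, sub_mul, mul_sub, mul_sub, hab, hb, smul_mul_assoc, one_mul, mul_smul_comm, mul_one, smul_mul_assoc,
      one_mul, smul_smul, hz]
    module
  have hns : ∀ a : F, δm ≠ a • (1 : Matrix ι ι F) := by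
    intro a h
    apply hκ (a + c)
    rw [add_smul, ← h, hδ, sub_add_cancel]
  refine ⟨δm, z, hδK, ?_, hsq, hns, ?_⟩
  · rintro ⟨s, hs⟩
    have h1 : (δm - s • (1 : Matrix ι ι F)) * (δm + s • (1 : Matrix ι ι F)) = 0 := by
      rw [sub_mul, mul_add, mul_add, hsq, hs, smul_mul_assoc, one_mul, mul_smul_comm, mul_one, smul_mul_assoc,
        one_mul, smul_smul]
      module
    rcases keq_zero_of_mul K hK (K.sub_mem hδK (K.smul_mem K.one_mem s))
        (K.add_mem hδK (K.smul_mem K.one_mem s)) h1 with h | h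
    · exact hns s (sub_eq_zero.mp h)
    · apply hns (-s)
      rw [neg_smul]
      exact eq_neg_of_add_eq_zero_left h
  · intro k hk
    obtain ⟨a, b, hab'⟩ := kdecomp K hK κ hκK hκ k hk
    refine ⟨a + b * c, b, ?_⟩
    rw [hab', hδ, smul_sub, smul_smul, add_smul]
    abel

end general

variable {F : Type*} [Field F] [Fintype F]

local notation "MM" => Matrix (Fin 2 ⊕ Fin 2) (Fin 2 ⊕ Fin 2) F
local notation "VV" => (Fin 2 ⊕ Fin 2 → F)

/-- the backward direction: in `Sp_4(q)`, `q` odd, every involution (modulo scalars) normalizes a conjugate of a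
self-adjoint quadratic field subalgebra. -/
theorem backward' (hqodd : Odd (Fintype.card F)) (K : Subalgebra F MM)
    (hK : Cfsg.Geo.IsFieldSubalgebra 2 K)
    (hKf : Cfsg.Geo.IsSelfAdjointFor (Cfsg.sympForm 2 F) K)
    (x : GL (Fin 2 ⊕ Fin 2) F) (hx : x ∈ Cfsg.spGL 2 F)
    (hx2 : ∃ z : F, ((x ^ 2 : GL (Fin 2 ⊕ Fin 2) F) : MM) = z • (1 : MM)) :
    ∃ g ∈ Cfsg.spGL 2 F, g⁻¹ * x * g ∈ Cfsg.Geo.subalgebraNormalizer K := by
  haveI : Nonempty (Fin 2 ⊕ Fin 2) := ⟨Sum.inl 0⟩
  have h2F : (2 : F) ≠ 0 := two_ne_zero_of_odd_card hqodd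
  obtain ⟨δm, z, hKG⟩ := exists_KGen h2F K hK
  refine backward hqodd (by norm_num) hKG ?_ x hx hx2
  intro X hiso hXX
  have hsq : ∀ v, (Matrix.toLin' δm : Module.End F VV) (Matrix.toLin' δm v) = z • v := by
    intro v
    rw [Matrix.toLin'_apply, Matrix.toLin'_apply, mulVec_mulVec, hKG.sq, smul_mulVec, one_mulVec]
  have hsa : ∀ u v, sB 2 F ((Matrix.toLin' δm : Module.End F VV) u) v =
      sB 2 F u ((Matrix.toLin' δm : Module.End F VV) v) := by
    intro u v
    rw [sB_apply, sB_apply, Matrix.toLin'_apply, Matrix.toLin'_apply]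
    exact hKf δm hKG.mem u v
  have h4 : finrank F VV = 4 := by
    rw [finrank_std]
  exact Cfsg.Agent.Helper9.SS4.exists_conj_SS4 hqodd (sB_isAlt 2) (sB_ND 2) h4 hKG.nsq hsq hsa hiso hXX

end Cfsg.Agent.Helper7.FEx
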