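import Mathlib
import Cfsg.Agent.Helper7.FExI

set_option autoImplicit false
set_option linter.unusedSectionVars false
set_option linter.unusedVariables false

/-!
Subgroups of type `Sp_{2d/k}(q^k)` of `Sp_{2d}(q)`: the elements of prime order `r` all fix a point iff
`r = 2`, `d = 2`, `k = 2` and `q` is odd.
-/

namespace Cfsg.Agent.Helper7.FEx

open Matrix Module Polynomial Cfsg.Agent.Helper7.Symp Cfsg.Agent.Helper7.SpOrd
  Cfsg.Agent.Helper7.POrd Cfsg.Agent.Helper7.SpTI Cfsg.Agent.Helper7.UTy Cfsg.Agent.Helper8.SpStab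

variable {F : Type*} [Field F] [Fintype F] {d : ℕ}

local notation "MM" => Matrix (Fin d ⊕ Fin d) (Fin d ⊕ Fin d) F
local notation "VV" => (Fin d ⊕ Fin d → F)

theorem main (p : ℕ) [Fact p.Prime] [CharP F p] (hd : 2 ≤ d) {k : ℕ} (hk : k.Prime)
    (K : Subalgebra F MM) (hK : Cfsg.Geo.IsFieldSubalgebra k K)
    (hKf : Cfsg.Geo.IsSelfAdjointFor (Cfsg.sympForm d F) K)
    (hKalt : ∀ a ∈ K, ∀ v : VV, Cfsg.sympForm d F (a *ᵥ v) v = 0)
    {r : ℕ} [Fact r.Prime]
    (hΩ : r ∣ (Cfsg.Geo.subalgebraNormalizer K).relIndex (Cfsg.spGL d F)) :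
    (∀ x ∈ Cfsg.spGL d F,
      (∃ z : F, ((x ^ r : GL (Fin d ⊕ Fin d) F) : MM) = z • (1 : MM)) →
      (∀ z : F, (x : MM) ≠ z • (1 : MM)) →
      ∃ g ∈ Cfsg.spGL d F, g⁻¹ * x * g ∈ Cfsg.Geo.subalgebraNormalizer K) ↔
    (r = 2 ∧ d = 2 ∧ k = 2 ∧ Odd (Fintype.card F)) := by
  have hd1 : 1 ≤ d := by omega
  have hp : p.Prime := Fact.out
  haveI : Nonempty (Fin d ⊕ Fin d) := ⟨Sum.inl ⟨0, hd1⟩⟩
  constructor
  · intro hall
    obtain ⟨θm, gp, hθK, hM⟩ := exists_MSS hd1 hk K hK hKf hKalt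
    by_cases hrp : r = p
    · subst hrp
      exact absurd hall (not_forall_of_char' hd hk hK hθK hM)
    by_cases hr2 : r = 2
    · subst hr2
      have hp2 : p ≠ 2 := fun h => hrp h.symm
      have hpodd : Odd p := hp.odd_of_ne_two hp2
      have hqodd : Odd (Fintype.card F) := by
        obtain ⟨n, -, hn⟩ := FiniteField.card F p
        rw [hn]
        exact hpodd.pow
      have h2F : (2 : F) ≠ 0 := two_ne_zero_of_odd_card hqodd
      by_cases hd3 : 3 ≤ d
      · exact absurd hall (not_forall_of_two h2F hd3 hk hK hθK hM)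
      · have hd2 : d = 2 := by omega
        refine ⟨rfl, hd2, ?_, hqodd⟩
        have h1 := dvd_card hk.pos K hK
        rw [Fintype.card_sum, Fintype.card_fin, hd2] at h1
        have h2 : k ∣ 2 ^ 2 := by norm_num at h1 ⊢; exact h1
        exact (Nat.prime_dvd_prime_iff_eq hk Nat.prime_two).mp (hk.dvd_of_dvd_pow h2)
    · obtain ⟨j, hj1, hjd, hkj, hij⟩ := exists_j hrp hd1 hk K hK hKf hKalt hΩ
      exact absurd hall (not_forall_of_odd' hr2 hrp hd1 hk hK hθK hM j hj1 hjd hkj hij)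
  · rintro ⟨rfl, rfl, rfl, hqodd⟩
    intro x hx hx2 _
    exact backward' hqodd K hK hKf x hx hx2

end Cfsg.Agent.Helper7.FEx
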