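import Mathlib
import Cfsg.Agent.Helper7.FHDefs
import Cfsg.Agent.Helper7.BNBruhat

/-!
# S1142 swarm, pieces G1 and G4 (helper7)
-/

set_option autoImplicit false

namespace Cfsg.Agent.Helper7.FH

open Cfsg.Agent.Helper7

variable {G : Type*} [Group G]

theorem h7_C_eq_dc (P : Cfsg.BNPair G) (g : G) : BN.C P g = dc P.B g := rfl

/-! ## Piece G1 -/

theorem bn_not_mem (P : Cfsg.BNPair G) {s : G} (hs : s ∈ P.S) : s ∉ P.B :=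
  BN.S_not_mem_B P hs

theorem bn_inv_eq (P : Cfsg.BNPair G) {s : G} (hs : s ∈ P.S) :
    ∃ h ∈ P.B ⊓ P.N, s⁻¹ = s * h :=
  ⟨(s * s)⁻¹, (P.B ⊓ P.N).inv_mem (BN.sq_mem_T P hs), BN.S_inv_eq⟩

theorem bn_normal (P : Cfsg.BNPair G) {n t : G} (hn : n ∈ P.N) (ht : t ∈ P.B ⊓ P.N) :
    n * t * n⁻¹ ∈ P.B ⊓ P.N ∧ n⁻¹ * t * n ∈ P.B ⊓ P.N :=
  ⟨BN.conj_mem_T P hn ht, BN.conj_mem_T' P hn ht⟩

/-- left axiom, also for `s⁻¹` -/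
theorem bn_left (P : Cfsg.BNPair G) {s n b : G} (hs : s ∈ P.S) (hn : n ∈ P.N) (hb : b ∈ P.B) :
    s * b * n ∈ dc P.B (s * n) ∪ dc P.B n ∧ s⁻¹ * b * n ∈ dc P.B (s * n) ∪ dc P.B n := by
  refine ⟨BN.T3_left P hs hn hb, ?_⟩
  -- s⁻¹ = (s*s)⁻¹ * s
  have h := BN.T3_left P hs hn hb
  have e : s⁻¹ * b * n = (s * s)⁻¹ * (s * b * n) := by group
  rw [e]
  have hB : (s * s)⁻¹ ∈ P.B := P.B.inv_mem (P.sq_mem s hs)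
  rcases h with h | h
  · exact Or.inl (BN.mul_mem_C_left P hB h)
  · exact Or.inr (BN.mul_mem_C_left P hB h)

/-- right axiom, also for `s⁻¹` -/
theorem bn_right (P : Cfsg.BNPair G) {s n b : G} (hs : s ∈ P.S) (hn : n ∈ P.N) (hb : b ∈ P.B) :
    n * b * s ∈ dc P.B (n * s) ∪ dc P.B n ∧ n * b * s⁻¹ ∈ dc P.B (n * s) ∪ dc P.B n := by
  refine ⟨BN.T3_right P hs hn hb, ?_⟩
  have h := BN.T3_right P hs hn hb
  have e : n * b * s⁻¹ = (n * b * s) * (s * s)⁻¹ := by group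
  rw [e]
  have hB : (s * s)⁻¹ ∈ P.B := P.B.inv_mem (P.sq_mem s hs)
  rcases h with h | h
  · exact Or.inl (BN.mul_mem_C_right P hB h)
  · exact Or.inr (BN.mul_mem_C_right P hB h)

theorem bn_sBs (P : Cfsg.BNPair G) {s b : G} (hs : s ∈ P.S) (hb : b ∈ P.B) :
    s * b * s ∈ (P.B : Set G) ∪ dc P.B s ∧ s⁻¹ * b * s ∈ (P.B : Set G) ∪ dc P.B s ∧
      s⁻¹ ∈ dc P.B s := by
  have hss : dc P.B (s * s) = (P.B : Set G) := BN.C_of_mem_B P (P.sq_mem s hs)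
  have h1 := bn_left P hs (P.subset hs) hb
  rw [hss] at h1
  exact ⟨h1.1, h1.2, BN.S_inv_mem_C P hs⟩

/-! ## Piece G4 -/

/-- Bruhat uniqueness for elements of `N` -/
theorem h7_bruhat_N (P : Cfsg.BNPair G) {n n' : G} (hn : n ∈ P.N) (hn' : n' ∈ P.N)
    (h : dc P.B n = dc P.B n') : n⁻¹ * n' ∈ P.B := by
  have h1 : BN.CW P (BN.proj P ⟨n, hn⟩) = BN.CW P (BN.proj P ⟨n', hn'⟩) := by
    rw [BN.CW_proj, BN.CW_proj]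
    exact h
  have h2 := BN.CW_injective P h1
  exact (BN.proj_eq_iff P).mp h2

theorem bn_bruhat (P : Cfsg.BNPair G) (s₁ s₂ : G) (m : ℕ) (hs₁ : s₁ ∈ P.S) (hs₂ : s₂ ∈ P.S)
    (hN : ∀ k, alt k s₁ s₂ ∈ P.N ∧ alt k s₂ s₁ ∈ P.N)
    (h11 : ∀ k l, k ≤ m → l ≤ m → (alt k s₁ s₂)⁻¹ * alt l s₁ s₂ ∈ P.B → k = l)
    (h22 : ∀ k l, k ≤ m → l ≤ m → (alt k s₂ s₁)⁻¹ * alt l s₂ s₁ ∈ P.B → k = l)
    (h12 : ∀ k l, k ≤ m → l ≤ m → (alt k s₁ s₂)⁻¹ * alt l s₂ s₁ ∈ P.B →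
      k = l ∧ (k = 0 ∨ k = m))
    (hmm : (alt m s₁ s₂)⁻¹ * alt m s₂ s₁ ∈ P.B) :
    (∀ k l, k ≤ m → l ≤ m → dc P.B (alt k s₁ s₂) = dc P.B (alt l s₁ s₂) → k = l) ∧
    (∀ k l, k ≤ m → l ≤ m → dc P.B (alt k s₂ s₁) = dc P.B (alt l s₂ s₁) → k = l) ∧
    (∀ k l, k ≤ m → l ≤ m → dc P.B (alt k s₁ s₂) = dc P.B (alt l s₂ s₁) →
      k = l ∧ (k = 0 ∨ k = m)) := by
  refine ⟨?_, ?_, ?_⟩
  · intro k l hk hl h
    exact h11 k l hk hl (h7_bruhat_N P (hN k).1 (hN l).1 h)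
  · intro k l hk hl h
    exact h22 k l hk hl (h7_bruhat_N P (hN k).2 (hN l).2 h)
  · intro k l hk hl h
    exact h12 k l hk hl (h7_bruhat_N P (hN k).1 (hN l).2 h)

end Cfsg.Agent.Helper7.FH
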