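import Mathlib
import Cfsg.Agent.Helper7.FHDefs
import Cfsg.Agent.Helper7.BNBruhat
import Cfsg.Agent.Helper8.Fh_G2

/-!
# S1142 swarm, piece G3 (helper7): the Weyl group of a rank 2 BN-pair is dihedral
-/

set_option autoImplicit false

namespace Cfsg.Agent.Helper7.FH

open Cfsg.Agent.Helper7

theorem h7_map_alt {M M' : Type*} [Monoid M] [Monoid M'] (f : M →* M') (k : ℕ) (x y : M) :
    f (alt k x y) = alt k (f x) (f y) := by
  induction k generalizing x y with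
  | zero => simp
  | succ k ih => rw [alt_succ, alt_succ, map_mul, ih]

variable {G : Type*} [Group G]

theorem bn_dihedral [Finite G] (P : Cfsg.BNPair G) (h2 : P.rank = 2) :
    ∃ (s₁ s₂ : G) (m : ℕ), s₁ ∈ P.S ∧ s₂ ∈ P.S ∧ s₁ ≠ s₂ ∧ 2 ≤ m ∧
      ((P.B ⊓ P.N).subgroupOf P.N).index = 2 * m ∧
      (∀ k, alt k s₁ s₂ ∈ P.N ∧ alt k s₂ s₁ ∈ P.N) ∧
      (∀ k l, k ≤ m → l ≤ m → (alt k s₁ s₂)⁻¹ * alt l s₁ s₂ ∈ P.B → k = l) ∧
      (∀ k l, k ≤ m → l ≤ m → (alt k s₂ s₁)⁻¹ * alt l s₂ s₁ ∈ P.B → k = l) ∧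
      (∀ k l, k ≤ m → l ≤ m → (alt k s₁ s₂)⁻¹ * alt l s₂ s₁ ∈ P.B → k = l ∧ (k = 0 ∨ k = m)) ∧
      (alt m s₁ s₂)⁻¹ * alt m s₂ s₁ ∈ P.B := by
  -- the two generators
  have hcard : Nat.card P.S = 2 := h2
  obtain ⟨x, y, hxy, huniv⟩ := Nat.card_eq_two_iff.mp hcard
  obtain ⟨s₁, hs₁⟩ := x
  obtain ⟨s₂, hs₂⟩ := y
  have hne : s₁ ≠ s₂ := fun h => hxy (Subtype.ext h)
  have hS : ∀ s ∈ P.S, s = s₁ ∨ s = s₂ := by
    intro s hs
    have : (⟨s, hs⟩ : P.S) ∈ (Set.univ : Set P.S) := Set.mem_univ _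
    rw [← huniv] at this
    rcases this with h | h
    · left; exact congrArg Subtype.val h
    · right; exact congrArg Subtype.val h
  let n₁ : P.N := ⟨s₁, P.subset hs₁⟩
  let n₂ : P.N := ⟨s₂, P.subset hs₂⟩
  let σ : BN.W P := BN.proj P n₁
  let τ : BN.W P := BN.proj P n₂
  have hσR : σ ∈ BN.RS P := BN.mem_Rset_of_mem P hs₁ (P.subset hs₁)
  have hτR : τ ∈ BN.RS P := BN.mem_Rset_of_mem P hs₂ (P.subset hs₂)
  have hσ : σ * σ = 1 := BN.invol_RS P σ hσR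
  have hτ : τ * τ = 1 := BN.invol_RS P τ hτR
  have hσ1 : σ ≠ 1 := fun h => BN.one_not_mem_RS P (h ▸ hσR)
  have hτ1 : τ ≠ 1 := fun h => BN.one_not_mem_RS P (h ▸ hτR)
  have hστ : σ ≠ τ := by
    intro h
    have := (BN.proj_eq_iff P).mp h
    exact hne (P.inj s₁ hs₁ s₂ hs₂ this)
  have hRS : BN.RS P = {σ, τ} := by
    ext w
    constructor
    · rintro ⟨n, hn, rfl⟩
      rcases hS n hn with h | h
      · left
        have : n = n₁ := Subtype.ext h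
        rw [this]
      · right
        have : n = n₂ := Subtype.ext h
        rw [this]
        rfl
    · rintro (h | h)
      · rw [h]; exact hσR
      · rw [Set.mem_singleton_iff] at h
        rw [h]; exact hτR
  have hgen : Subgroup.closure {σ, τ} = ⊤ := by
    rw [← hRS]; exact BN.closure_RS P
  haveI : Finite (BN.W P) := inferInstance
  obtain ⟨m, hm2, hcardW, h11, h22, h12, hmm⟩ :=
    two_invol_words σ τ hσ hτ hστ hσ1 hτ1 hgen
  have hcoe : ∀ k (u v : P.N), ((alt k u v : P.N) : G) = alt k (u : G) (v : G) := fun k u v =>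
    h7_map_alt P.N.subtype k u v
  have hproj : ∀ k (u v : P.N), BN.proj P (alt k u v) = alt k (BN.proj P u) (BN.proj P v) :=
    fun k u v => h7_map_alt (BN.proj P) k u v
  have hmem : ∀ k (u v : P.N), alt k (u : G) (v : G) ∈ P.N := fun k u v => by
    rw [← hcoe]; exact (alt k u v).2
  have key : ∀ k l (u v u' v' : P.N), (alt k (u : G) (v : G))⁻¹ * alt l (u' : G) (v' : G) ∈ P.B ↔
      alt k (BN.proj P u) (BN.proj P v) = alt l (BN.proj P u') (BN.proj P v') := by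
    intro k l u v u' v'
    rw [← hproj, ← hproj, BN.proj_eq_iff, hcoe, hcoe]
  refine ⟨s₁, s₂, m, hs₁, hs₂, hne, hm2, ?_, ?_, ?_, ?_, ?_, ?_⟩
  · rw [← hcardW]
    rfl
  · intro k
    exact ⟨hmem k n₁ n₂, hmem k n₂ n₁⟩
  · intro k l hk hl h
    exact h11 k l hk hl ((key k l n₁ n₂ n₁ n₂).mp h)
  · intro k l hk hl h
    exact h22 k l hk hl ((key k l n₂ n₁ n₂ n₁).mp h)
  · intro k l hk hl h
    exact h12 k l hk hl ((key k l n₁ n₂ n₂ n₁).mp h)
  · exact (key m m n₁ n₂ n₂ n₁).mpr hmm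

end Cfsg.Agent.Helper7.FH
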