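import Mathlib
import Cfsg.Agent.Helper7.FHDefs
import Cfsg.Agent.Helper7.Fh_G1

/-!
# S1142 swarm, piece G5 (helper7): products of increasing length are reduced
-/

set_option autoImplicit false

namespace Cfsg.Agent.Helper7.FH

open Cfsg.Agent.Helper7

theorem h7_alt_succ_right {M : Type*} [Monoid M] (k : ℕ) (x y : M) :
    alt (k + 1) y x = alt k y x * (if Even k then y else x) := by
  induction k generalizing x y with
  | zero => simp [alt]
  | succ k ih =>
    have e : alt (k + 1 + 1) y x = y * alt (k + 1) x y := alt_succ _ _ _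
    rw [e, ih y x, ← mul_assoc, ← alt_succ]
    congr 1
    by_cases h : Even k
    · have h' : ¬ Even (k + 1) := by
        rw [Nat.even_add_one]; exact not_not.mpr h
      rw [if_pos h, if_neg h']
    · have h' : Even (k + 1) := by
        rw [Nat.even_add_one]; exact h
      rw [if_neg h, if_pos h']

variable {G : Type*} [Group G]

theorem h7_dc_eq_of_mem_both (B : Subgroup G) {g g' z : G} (h : z ∈ dc B g) (h' : z ∈ dc B g') :
    dc B g = dc B g' := by
  exact (DoubleCoset.doubleCoset_eq_of_mem h).symm.trans (DoubleCoset.doubleCoset_eq_of_mem h')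

theorem h7_reduced_aux (P : Cfsg.BNPair G) (x y : G) (m : ℕ) (hx : x ∈ P.S) (hy : y ∈ P.S)
    (hN : ∀ k, alt k y x ∈ P.N)
    (hB : ∀ k, 0 < k → k < m → dc P.B (alt k x y) ≠ dc P.B (alt k y x)) :
    ∀ k, k < m → ∀ b ∈ P.B, x * b * alt k y x ∉ dc P.B (alt k y x) := by
  intro k
  induction k with
  | zero =>
    intro _ b hb h
    rw [alt_zero, mul_one] at h
    have h1 : dc P.B (1 : G) = (P.B : Set G) := BN.C_of_mem_B P P.B.one_mem
    rw [h1] at h
    have : x ∈ P.B := by
      have := P.B.mul_mem h (P.B.inv_mem hb)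
      simpa using this
    exact bn_not_mem P hx this
  | succ k ih =>
    intro hk b hb hmem
    have hk' : k < m := by omega
    set w' := alt k y x with hw'
    set s' : G := if Even k then y else x with hs'
    have hs'S : s' ∈ P.S := by
      rw [hs']; split_ifs
      · exact hy
      · exact hx
    have hw : alt (k + 1) y x = w' * s' := h7_alt_succ_right k x y
    have hw'N : w' ∈ P.N := hN k
    rw [hw] at hmem
    rw [mem_dc] at hmem
    obtain ⟨b₁, hb₁, b₂, hb₂, heq⟩ := hmem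
    -- x b w' = b₁ w' (s' b₂ s'⁻¹)
    have heq2 : x * b * w' = b₁ * (w' * (s' * b₂ * s'⁻¹)) := by
      have : x * b * w' = (x * b * (w' * s')) * s'⁻¹ := by group
      rw [this, heq]
      group
    -- s' b₂ s'⁻¹ ∈ B ∪ B s' B
    have hconj : s' * b₂ * s'⁻¹ ∈ (P.B : Set G) ∪ dc P.B s' := by
      have h1 := (bn_sBs P hs'S hb₂).1
      have e : s' * b₂ * s'⁻¹ = (s' * b₂ * s') * (s' * s')⁻¹ := by group
      have hB' : (s' * s')⁻¹ ∈ P.B := P.B.inv_mem (P.sq_mem s' hs'S)
      rw [e]
      rcases h1 with h1 | h1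
      · exact Or.inl (P.B.mul_mem h1 hB')
      · exact Or.inr (BN.mul_mem_C_right P hB' h1)
    -- hence x b w' ∈ dc w' ∪ dc (w' s')
    have hmem2 : x * b * w' ∈ dc P.B w' ∪ dc P.B (w' * s') := by
      rw [heq2]
      rcases hconj with h1 | h1
      · left
        exact BN.mul_mem_C_left P hb₁ (BN.mul_mem_C_right P h1 (BN.self_mem_C P w'))
      · rw [mem_dc] at h1
        obtain ⟨b₃, hb₃, b₄, hb₄, h1⟩ := h1
        rw [h1]
        have h2 := (bn_right P hs'S hw'N hb₃).1
        have e : b₁ * (w' * (b₃ * s' * b₄)) = b₁ * ((w' * b₃ * s') * b₄) := by group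
        rw [e]
        rcases h2 with h2 | h2
        · right
          exact BN.mul_mem_C_left P hb₁ (BN.mul_mem_C_right P hb₄ h2)
        · left
          exact BN.mul_mem_C_left P hb₁ (BN.mul_mem_C_right P hb₄ h2)
    have hnot := ih hk' b hb
    have hmem3 : x * b * w' ∈ dc P.B (w' * s') := by
      rcases hmem2 with h | h
      · exact absurd h hnot
      · exact h
    -- left axiom
    have hleft := (bn_left P hx hw'N hb).1
    have hmem4 : x * b * w' ∈ dc P.B (x * w') := by
      rcases hleft with h | h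
      · exact h
      · exact absurd h hnot
    have := h7_dc_eq_of_mem_both P.B hmem4 hmem3
    rw [← hw, hw', ← alt_succ] at this
    exact hB (k + 1) (by omega) hk this

theorem bn_reduced (P : Cfsg.BNPair G) (s₁ s₂ : G) (m : ℕ) (hs₁ : s₁ ∈ P.S) (hs₂ : s₂ ∈ P.S)
    (hN : ∀ k, alt k s₁ s₂ ∈ P.N ∧ alt k s₂ s₁ ∈ P.N)
    (hB12 : ∀ k l, k ≤ m → l ≤ m → dc P.B (alt k s₁ s₂) = dc P.B (alt l s₂ s₁) →
      k = l ∧ (k = 0 ∨ k = m)) :
    ∀ k, k < m → ∀ b ∈ P.B,
      s₁ * b * alt k s₂ s₁ ∉ dc P.B (alt k s₂ s₁) ∧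
      s₂ * b * alt k s₁ s₂ ∉ dc P.B (alt k s₁ s₂) := by
  intro k hk b hb
  constructor
  · apply h7_reduced_aux P s₁ s₂ m hs₁ hs₂ (fun k => (hN k).2) _ k hk b hb
    intro k h0 hkm h
    obtain ⟨-, h1 | h1⟩ := hB12 k k hkm.le hkm.le h <;> omega
  · apply h7_reduced_aux P s₂ s₁ m hs₂ hs₁ (fun k => (hN k).1) _ k hk b hb
    intro k h0 hkm h
    obtain ⟨-, h1 | h1⟩ := hB12 k k hkm.le hkm.le h.symm <;> omega

end Cfsg.Agent.Helper7.FH
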