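import Mathlib
import Cfsg.Agent.Helper7.FHDefs
import Cfsg.Agent.Helper7.Fh_G1
import Cfsg.Agent.Helper7.Fh_G3
import Cfsg.Agent.Helper7.Fh_G5
import Cfsg.Agent.Lead.Fh_G6
import Cfsg.Agent.Helper9.Fh_G7
import Cfsg.Agent.Helper3.Fh_G8

set_option autoImplicit false
set_option linter.unusedVariables false
set_option linter.unusedSectionVars false

namespace Cfsg.Agent.Helper7.FH

open Matrix Finset

variable {G : Type*} [Group G]

theorem h7_dc_eq_of_mul_mem (B : Subgroup G) {g g' : G} (h : g⁻¹ * g' ∈ B) : dc B g = dc B g' := by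
  symm
  apply DoubleCoset.doubleCoset_eq_of_mem
  rw [mem_dc]
  exact ⟨1, B.one_mem, g⁻¹ * g', h, by group⟩

/-- **Part I**: the matrix data of a rank 2 BN-pair -/
theorem h7_exists_FHData [Finite G] (P : Cfsg.BNPair G) (h2 : P.rank = 2)
    [Fintype (G ⧸ P.B)] [DecidableEq (G ⧸ P.B)] :
    ∃ D : FHData (G ⧸ P.B), ((P.B ⊓ P.N).subgroupOf P.N).index = 2 * D.m := by
  obtain ⟨s₁, s₂, m, hs₁, hs₂, hne, hm2, hidx, hN, h11, h22, h12, hmm⟩ := bn_dihedral P h2
  obtain ⟨hB11, hB22, hB12⟩ := bn_bruhat P s₁ s₂ m hs₁ hs₂ hN h11 h22 h12 hmm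
  have hred := bn_reduced P s₁ s₂ m hs₁ hs₂ hN hB12
  have hmul₁ : ∀ k, k < m → ∀ b ∈ P.B, s₁ * b * alt k s₂ s₁ ∈ dc P.B (s₁ * alt k s₂ s₁) := by
    intro k hk b hb
    rcases (bn_left P hs₁ (hN k).2 hb).1 with h | h
    · exact h
    · exact absurd h (hred k hk b hb).1
  have hmul₂ : ∀ k, k < m → ∀ b ∈ P.B, s₂ * b * alt k s₁ s₂ ∈ dc P.B (s₂ * alt k s₁ s₂) := by
    intro k hk b hb
    rcases (bn_left P hs₂ (hN k).1 hb).1 with h | h
    · exact h
    · exact absurd h (hred k hk b hb).2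
  -- parameters
  have hsBs₁ := fun b (hb : b ∈ P.B) => bn_sBs P hs₁ hb
  have hsBs₂ := fun b (hb : b ∈ P.B) => bn_sBs P hs₂ hb
  have hinv₁ : s₁⁻¹ ∈ dc P.B s₁ := (bn_sBs P hs₁ P.B.one_mem).2.2
  have hinv₂ : s₂⁻¹ ∈ dc P.B s₂ := (bn_sBs P hs₂ P.B.one_mem).2.2
  -- the words
  have key : ∀ k, k ≤ m →
      (alt k (relM P.B s₁) (relM P.B s₂) = relM P.B (alt k s₁ s₂) ∧
        qd P.B (alt k s₁ s₂) = qd P.B s₁ ^ ((k + 1) / 2) * qd P.B s₂ ^ (k / 2)) ∧
      (alt k (relM P.B s₂) (relM P.B s₁) = relM P.B (alt k s₂ s₁) ∧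
        qd P.B (alt k s₂ s₁) = qd P.B s₂ ^ ((k + 1) / 2) * qd P.B s₁ ^ (k / 2)) := by
    intro k
    induction k with
    | zero =>
      intro _
      have h1 : qd P.B (1 : G) = 1 := by
        have := relM_trace P.B (1 : G) 1
        rw [relM_one, Matrix.transpose_one, Matrix.one_mul, Matrix.trace_one, if_pos rfl] at this
        have hc : (Fintype.card (G ⧸ P.B) : ℝ) ≠ 0 := by
          have : 0 < Fintype.card (G ⧸ P.B) := Fintype.card_pos
          positivity
        have h3 : ((qd P.B (1 : G) : ℕ) : ℝ) = 1 := by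
          field_simp at this
          linarith
        exact_mod_cast h3
      simp [alt, relM_one, h1]
    | succ k ih =>
      intro hk
      obtain ⟨⟨ihA, ihqA⟩, ⟨ihB, ihqB⟩⟩ := ih (by omega)
      have hk' : k < m := by omega
      have e1 : (k + 1 + 1) / 2 = k / 2 + 1 := by omega
      refine ⟨⟨?_, ?_⟩, ⟨?_, ?_⟩⟩
      · rw [alt_succ, ihB, alt_succ]
        exact (relM_mul P.B s₁ (alt k s₂ s₁) (fun b hb => (hsBs₁ b hb).2.1)
          (fun b hb => hmul₁ k hk' b hb) (fun b hb => (hred k hk' b hb).1)).1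
      · rw [alt_succ, (relM_mul P.B s₁ (alt k s₂ s₁) (fun b hb => (hsBs₁ b hb).2.1)
          (fun b hb => hmul₁ k hk' b hb) (fun b hb => (hred k hk' b hb).1)).2, ihqB, e1]
        ring
      · rw [alt_succ, ihA, alt_succ]
        exact (relM_mul P.B s₂ (alt k s₁ s₂) (fun b hb => (hsBs₂ b hb).2.1)
          (fun b hb => hmul₂ k hk' b hb) (fun b hb => (hred k hk' b hb).2)).1
      · rw [alt_succ, (relM_mul P.B s₂ (alt k s₁ s₂) (fun b hb => (hsBs₂ b hb).2.1)
          (fun b hb => hmul₂ k hk' b hb) (fun b hb => (hred k hk' b hb).2)).2, ihqA, e1]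
        ring
  have hdcm : dc P.B (alt m s₁ s₂) = dc P.B (alt m s₂ s₁) := h7_dc_eq_of_mul_mem P.B hmm
  refine ⟨{
    a := qd P.B s₁
    b := qd P.B s₂
    m := m
    T₁ := relM P.B s₁
    T₂ := relM P.B s₂
    ha := qd_ge_two P.B s₁ (P.sq_mem s₁ hs₁) (P.conj_ne s₁ hs₁)
    hb := qd_ge_two P.B s₂ (P.sq_mem s₂ hs₂) (P.conj_ne s₂ hs₂)
    hm := hm2
    hF := ⟨QuotientGroup.mk 1⟩
    symm₁ := by
      rw [relM_transpose]
      exact (relM_congr P.B (DoubleCoset.doubleCoset_eq_of_mem hinv₁)).1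
    symm₂ := by
      rw [relM_transpose]
      exact (relM_congr P.B (DoubleCoset.doubleCoset_eq_of_mem hinv₂)).1
    sq₁ := relM_sq P.B s₁ (fun b hb => (hsBs₁ b hb).1) hinv₁ (bn_not_mem P hs₁)
    sq₂ := relM_sq P.B s₂ (fun b hb => (hsBs₂ b hb).1) hinv₂ (bn_not_mem P hs₂)
    braid := by
      rw [(key m le_rfl).1.1, (key m le_rfl).2.1]
      exact (relM_congr P.B hdcm).1
    gramAA := by
      intro k l hk hl
      rw [(key k hk).1.1, (key l hl).1.1, relM_trace]
      by_cases hkl : k = l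
      · subst hkl
        rw [if_pos rfl, if_pos rfl, (key k hk).1.2]
        push_cast
        ring
      · rw [if_neg hkl, if_neg]
        intro h
        exact hkl (hB11 k l hk hl h)
    gramBB := by
      intro k l hk hl
      rw [(key k hk).2.1, (key l hl).2.1, relM_trace]
      by_cases hkl : k = l
      · subst hkl
        rw [if_pos rfl, if_pos rfl, (key k hk).2.2]
        push_cast
        ring
      · rw [if_neg hkl, if_neg]
        intro h
        exact hkl (hB22 k l hk hl h)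
    gramAB := by
      intro k l hk1 hkm hl
      rw [(key k hkm.le).1.1, (key l hl).2.1, relM_trace, if_neg]
      intro h
      obtain ⟨-, h0 | h0⟩ := hB12 k l hkm.le hl h <;> omega }, hidx⟩

end Cfsg.Agent.Helper7.FH
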