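import Mathlib
import Cfsg.Agent.Helper7.FHDefs

/-!
# S1142 swarm, piece L0 (helper7): elementary facts on `p₁, p₂, C`
-/

set_option autoImplicit false

namespace Cfsg.Agent.Helper7.FH

open Matrix

theorem h7_proj_idem {F : Type*} [Fintype F] [DecidableEq F] (T : Matrix F F ℝ) (q : ℝ)
    (hq : q + 1 ≠ 0) (hsq : T * T = q • (1 : Matrix F F ℝ) + (q - 1) • T) :
    ((q + 1)⁻¹ • (1 + T)) * ((q + 1)⁻¹ • (1 + T)) = (q + 1)⁻¹ • (1 + T) := by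
  have h1 : (1 + T) * (1 + T) = (q + 1) • (1 + T) := by
    rw [mul_add, add_mul, add_mul, one_mul, mul_one, one_mul, hsq]
    module
  rw [smul_mul_smul_comm, h1, smul_smul]
  congr 1
  field_simp

variable {F : Type*} [Fintype F] [DecidableEq F] (D : FHData F)

theorem p_facts :
    D.p₁ * D.p₁ = D.p₁ ∧ D.p₂ * D.p₂ = D.p₂ ∧ D.p₁.transpose = D.p₁ ∧ D.p₂.transpose = D.p₂ ∧
    D.T₁ = ((D.a : ℝ) + 1) • D.p₁ - 1 ∧ D.T₂ = ((D.b : ℝ) + 1) • D.p₂ - 1 ∧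
    D.p₁ ∈ D.Alg ∧ D.p₂ ∈ D.Alg := by
  have ha : ((D.a : ℝ) + 1) ≠ 0 := by positivity
  have hb : ((D.b : ℝ) + 1) ≠ 0 := by positivity
  refine ⟨h7_proj_idem D.T₁ D.a ha D.sq₁, h7_proj_idem D.T₂ D.b hb D.sq₂, ?_, ?_, ?_, ?_, ?_, ?_⟩
  · unfold FHData.p₁
    rw [transpose_smul, transpose_add, transpose_one, D.symm₁]
  · unfold FHData.p₂
    rw [transpose_smul, transpose_add, transpose_one, D.symm₂]
  · unfold FHData.p₁
    rw [smul_smul, mul_inv_cancel₀ ha, one_smul]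
    abel
  · unfold FHData.p₂
    rw [smul_smul, mul_inv_cancel₀ hb, one_smul]
    abel
  · unfold FHData.p₁ FHData.Alg
    apply Subalgebra.smul_mem
    apply Subalgebra.add_mem _ (Subalgebra.one_mem _)
    exact Algebra.subset_adjoin (by simp)
  · unfold FHData.p₂ FHData.Alg
    apply Subalgebra.smul_mem
    apply Subalgebra.add_mem _ (Subalgebra.one_mem _)
    exact Algebra.subset_adjoin (by simp)

theorem C_facts :
    D.C = D.p₁ + D.p₂ - D.p₁ * D.p₂ - D.p₂ * D.p₁ ∧ D.C.transpose = D.C ∧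
    D.C * D.p₁ = D.p₁ * D.C ∧ D.C * D.p₂ = D.p₂ * D.C ∧
    D.C * D.T₁ = D.T₁ * D.C ∧ D.C * D.T₂ = D.T₂ * D.C ∧ D.C ∈ D.Alg ∧
    D.p₁ * D.C = D.p₁ - D.p₁ * D.p₂ * D.p₁ ∧ D.p₂ * D.C = D.p₂ - D.p₂ * D.p₁ * D.p₂ := by
  obtain ⟨h11, h22, ht1, ht2, hT1, hT2, hm1, hm2⟩ := p_facts D
  have hC : D.C = D.p₁ + D.p₂ - D.p₁ * D.p₂ - D.p₂ * D.p₁ := by
    unfold FHData.C
    rw [sub_mul, mul_sub, mul_sub, h11, h22]
    abel
  have hCp1 : D.C * D.p₁ = D.p₁ - D.p₁ * D.p₂ * D.p₁ := by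
    rw [hC, sub_mul, sub_mul, add_mul, h11, mul_assoc D.p₂ D.p₁ D.p₁, h11]
    abel
  have hp1C : D.p₁ * D.C = D.p₁ - D.p₁ * D.p₂ * D.p₁ := by
    rw [hC, mul_sub, mul_sub, mul_add, h11, ← mul_assoc D.p₁ D.p₁ D.p₂, h11, ← mul_assoc]
    abel
  have hCp2 : D.C * D.p₂ = D.p₂ - D.p₂ * D.p₁ * D.p₂ := by
    rw [hC, sub_mul, sub_mul, add_mul, h22, mul_assoc D.p₁ D.p₂ D.p₂, h22]
    abel
  have hp2C : D.p₂ * D.C = D.p₂ - D.p₂ * D.p₁ * D.p₂ := by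
    rw [hC, mul_sub, mul_sub, mul_add, h22, ← mul_assoc D.p₂ D.p₂ D.p₁, h22, ← mul_assoc]
    abel
  refine ⟨hC, ?_, by rw [hCp1, hp1C], by rw [hCp2, hp2C], ?_, ?_, ?_, hp1C, hp2C⟩
  · unfold FHData.C
    rw [transpose_mul, transpose_sub, ht1, ht2]
  · rw [hT1, mul_sub, sub_mul, mul_smul_comm, smul_mul_assoc, hCp1, hp1C, mul_one, one_mul]
  · rw [hT2, mul_sub, sub_mul, mul_smul_comm, smul_mul_assoc, hCp2, hp2C, mul_one, one_mul]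
  · rw [hC]
    exact Subalgebra.sub_mem _ (Subalgebra.sub_mem _ (Subalgebra.add_mem _ hm1 hm2)
      (Subalgebra.mul_mem _ hm1 hm2)) (Subalgebra.mul_mem _ hm2 hm1)

end Cfsg.Agent.Helper7.FH
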