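import Mathlib
import Cfsg.Agent.Helper7.FHDefs

/-!
# S1142 swarm, piece L10 (helper7): the trace trick
-/

set_option autoImplicit false

namespace Cfsg.Agent.Helper7.FH

open Matrix Finset

variable {F : Type*} [Fintype F] [DecidableEq F] (D : FHData F)

theorem h7_trace_mul_transpose_of_symm {E X : Matrix F F ℝ} (hE : E.transpose = E) :
    Matrix.trace (E * X.transpose) = Matrix.trace (E * X) := by
  have : E * X.transpose = (X * E).transpose := by
    rw [transpose_mul, hE]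
  rw [this, trace_transpose, trace_mul_comm]

theorem eig_trick {E : Matrix F F ℝ} {lam : ℝ} (h : D.Eig E lam) (d : ℕ) (hdpos : 0 < d)
    (hd : Matrix.trace E = 2 * d)
    (hchi : ∀ k, Matrix.trace (E * D.A k) = d * chi D.a D.b (D.t lam) k ∧
      Matrix.trace (E * D.B k) = d * chi D.b D.a (D.t lam) k)
    (hpars : Matrix.trace (E * E.transpose) =
      ∑ k ∈ Finset.range (D.m + 1), (Matrix.trace (E * (D.A k).transpose)) ^ 2 / (D.n * D.qA k) +
      ∑ k ∈ Finset.Ico 1 D.m, (Matrix.trace (E * (D.B k).transpose)) ^ 2 / (D.n * D.qB k)) :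
    (d : ℝ) * (∑ k ∈ Finset.range (D.m + 1), (chi D.a D.b (D.t lam) k) ^ 2 / D.qA k +
      ∑ k ∈ Finset.Ico 1 D.m, (chi D.b D.a (D.t lam) k) ^ 2 / D.qB k) = 2 * D.n := by
  have hn : 0 < D.n := by
    haveI := D.hF
    unfold FHData.n
    exact_mod_cast Fintype.card_pos
  have hdR : (0 : ℝ) < d := by exact_mod_cast hdpos
  rw [h.symm, h.idem, hd] at hpars
  have e1 : ∀ k, (Matrix.trace (E * (D.A k).transpose)) ^ 2 / (D.n * D.qA k) =
      (d : ℝ) ^ 2 / D.n * ((chi D.a D.b (D.t lam) k) ^ 2 / D.qA k) := by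
    intro k
    rw [h7_trace_mul_transpose_of_symm h.symm, (hchi k).1, mul_pow]
    rw [div_mul_div_comm]
  have e2 : ∀ k, (Matrix.trace (E * (D.B k).transpose)) ^ 2 / (D.n * D.qB k) =
      (d : ℝ) ^ 2 / D.n * ((chi D.b D.a (D.t lam) k) ^ 2 / D.qB k) := by
    intro k
    rw [h7_trace_mul_transpose_of_symm h.symm, (hchi k).2, mul_pow]
    rw [div_mul_div_comm]
  simp only [e1, e2] at hpars
  rw [← Finset.mul_sum, ← Finset.mul_sum, ← mul_add] at hpars
  set S := ∑ k ∈ Finset.range (D.m + 1), (chi D.a D.b (D.t lam) k) ^ 2 / D.qA k +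
      ∑ k ∈ Finset.Ico 1 D.m, (chi D.b D.a (D.t lam) k) ^ 2 / D.qB k with hS
  -- 2 d = d^2 / n * S
  have hn' : D.n ≠ 0 := ne_of_gt hn
  have hd' : (d : ℝ) ≠ 0 := ne_of_gt hdR
  field_simp at hpars
  -- hpars : 2 * n = d * S  (up to arrangement)
  nlinarith [hpars]

end Cfsg.Agent.Helper7.FH
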