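import Mathlib
import Cfsg.Agent.Helper7.FHDefs
import Cfsg.Agent.Helper7.Fh_L0
import Cfsg.Agent.Helper8.Fh_G2

/-!
# S1142 swarm, piece L5 (helper7): the braid relation on an eigenspace
-/

set_option autoImplicit false

namespace Cfsg.Agent.Helper7.FH

open Matrix Finset

theorem h7_useq_succ_succ (t c2 : ℝ) (k : ℕ) :
    useq t c2 (k + 2) = t * useq t c2 (k + 1) - c2 * useq t c2 k := by
  rw [useq]

section abstract

variable {A : Type*} [Ring A] [Algebra ℝ A]

theorem h7_pow_rec (E X : A) (t c2 : ℝ)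
    (hq : E * X * X = t • (E * X) - c2 • E) (k : ℕ) :
    E * X ^ (k + 1) = useq t c2 (k + 1) • (E * X) - (c2 * useq t c2 k) • E := by
  induction k with
  | zero => simp [useq]
  | succ k ih =>
    rw [pow_succ, ← mul_assoc, ih, sub_mul, smul_mul_assoc, smul_mul_assoc, hq,
      h7_useq_succ_succ]
    module

theorem h7_E_zero_of_Ep_Eq_zero (E p q : A) (lam : ℝ)
    (hC : E * (p * q + q * p) = E * p + E * q - (1 - lam) • E) (h1 : lam ≠ 1)
    (hp0 : E * p = 0) (hq0 : E * q = 0) : E = 0 := by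
  have e : E * (p * q + q * p) = 0 := by
    rw [mul_add, ← mul_assoc, ← mul_assoc, hp0, hq0, zero_mul, zero_mul, add_zero]
  rw [e, hp0, hq0, add_zero, zero_sub] at hC
  have h2 : (1 - lam) • E = 0 := by
    have := congrArg Neg.neg hC
    rw [neg_neg, neg_zero] at this
    exact this.symm
  rcases smul_eq_zero.mp h2 with h | h
  · exact absurd (by linarith) h1
  · exact h

theorem h7_E_zero_of_comm (E p q : A) (lam : ℝ) (hp : p * p = p) (hq : q * q = q)
    (h121 : E * p * q * p = lam • (E * p)) (h212 : E * q * p * q = lam • (E * q))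
    (hC : E * (p * q + q * p) = E * p + E * q - (1 - lam) • E) (h0 : lam ≠ 0) (h1 : lam ≠ 1)
    (hc : E * p * q = E * q * p) : E = 0 := by
  have e1 : E * p * q * p = E * p * q := by rw [hc, mul_assoc (E * q), hp]
  have e2 : lam • (E * p) = E * p * q := by rw [← h121, e1]
  have e3 : lam • (E * p * q) = E * p * q := by
    have := congrArg (· * q) e2
    simp only [smul_mul_assoc] at this
    rw [this, mul_assoc (E * p), hq]
  have e4 : E * p * q = 0 := by
    have : (lam - 1) • (E * p * q) = 0 := by rw [sub_smul, e3, one_smul, sub_self]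
    rcases smul_eq_zero.mp this with h | h
    · exact absurd (by linarith) h1
    · exact h
  have e5 : E * p = 0 := by
    rw [e4] at e2
    rcases smul_eq_zero.mp e2 with h | h
    · exact absurd h h0
    · exact h
  have e6 : E * q * p = 0 := by rw [← hc, e4]
  have e7 : E * q = 0 := by
    have : lam • (E * q) = 0 := by rw [← h212, e6, zero_mul]
    rcases smul_eq_zero.mp this with h | h
    · exact absurd h h0
    · exact h
  exact h7_E_zero_of_Ep_Eq_zero E p q lam hC h1 e5 e7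

theorem h7_E_zero_of_eq (E p q : A) (lam : ℝ) (hp : p * p = p) (hq : q * q = q)
    (h121 : E * p * q * p = lam • (E * p))
    (hC : E * (p * q + q * p) = E * p + E * q - (1 - lam) • E) (h1 : lam ≠ 1)
    (hc : E * p = E * q) : E = 0 := by
  have e1 : E * p * q = E * p := by rw [hc, mul_assoc, hq]
  have e2 : E * p * q * p = E * p := by rw [e1, mul_assoc, hp]
  have e3 : (lam - 1) • (E * p) = 0 := by
    rw [sub_smul, ← h121, e2, one_smul, sub_self]
  have e4 : E * p = 0 := by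
    rcases smul_eq_zero.mp e3 with h | h
    · exact absurd (by linarith) h1
    · exact h
  exact h7_E_zero_of_Ep_Eq_zero E p q lam hC h1 e4 (hc ▸ e4)

/-- `E (T₁T₂T₁ - T₂T₁T₂)` for `T₁ = α p - 1`, `T₂ = α q - 1` -/
theorem h7_triple (E p q : A) (lam al : ℝ) (hp : p * p = p) (hq : q * q = q)
    (h121 : E * p * q * p = lam • (E * p)) (h212 : E * q * p * q = lam • (E * q)) :
    E * ((al • p - 1) * (al • q - 1) * (al • p - 1)) -
      E * ((al • q - 1) * (al • p - 1) * (al • q - 1)) =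
      (al ^ 3 * lam - al ^ 2 + al) • (E * p - E * q) := by
  have x1 : E * ((al • p - 1) * (al • q - 1) * (al • p - 1)) =
      (al ^ 3) • (E * p * q * p) - (al ^ 2) • (E * p * q + E * q * p + E * (p * p))
        + al • (E * p + E * q + E * p) - E := by
    simp only [sub_mul, mul_sub, smul_mul_assoc, mul_smul_comm, mul_one, one_mul, smul_sub,
      smul_smul, ← mul_assoc, mul_add, smul_add]
    module
  have x2 : E * ((al • q - 1) * (al • p - 1) * (al • q - 1)) =
      (al ^ 3) • (E * q * p * q) - (al ^ 2) • (E * q * p + E * p * q + E * (q * q))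
        + al • (E * q + E * p + E * q) - E := by
    simp only [sub_mul, mul_sub, smul_mul_assoc, mul_smul_comm, mul_one, one_mul, smul_sub,
      smul_smul, ← mul_assoc, mul_add, smul_add]
    module
  rw [x1, x2, h121, h212, hp, hq]
  module

end abstract

variable {F : Type*} [Fintype F] [DecidableEq F] (D : FHData F)

theorem ab_of_odd (hodd : Odd D.m) : D.a = D.b := by
  obtain ⟨d', hd'⟩ := hodd
  have h1 := D.gramAA D.m D.m le_rfl le_rfl
  have h2 := D.gramBB D.m D.m le_rfl le_rfl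
  rw [if_pos rfl] at h1 h2
  rw [D.braid, h2] at h1
  have hn : (Fintype.card F : ℝ) ≠ 0 := by
    haveI := D.hF
    have : 0 < Fintype.card F := Fintype.card_pos
    positivity
  have h3 := mul_left_cancel₀ hn h1
  have e1 : (D.m + 1) / 2 = d' + 1 := by omega
  have e2 : D.m / 2 = d' := by omega
  rw [e1, e2] at h3
  have ha : (0 : ℝ) < D.a := by have := D.ha; positivity
  have hb : (0 : ℝ) < D.b := by have := D.hb; positivity
  -- b^(d'+1) a^d' = a^(d'+1) b^d'
  have h4 : (D.b : ℝ) * ((D.a : ℝ) ^ d' * (D.b : ℝ) ^ d') =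
      (D.a : ℝ) * ((D.a : ℝ) ^ d' * (D.b : ℝ) ^ d') := by
    rw [pow_succ, pow_succ] at h3
    linarith
  have h5 : ((D.a : ℝ) ^ d' * (D.b : ℝ) ^ d') ≠ 0 := by positivity
  have h6 := mul_right_cancel₀ h5 h4
  exact_mod_cast h6.symm

theorem eig_adm_op {E : Matrix F F ℝ} {lam : ℝ} (h : D.Eig E lam)
    (hab : Odd D.m → D.a = D.b)
    (h121 : E * D.p₁ * D.p₂ * D.p₁ = lam • (E * D.p₁))
    (h212 : E * D.p₂ * D.p₁ * D.p₂ = lam • (E * D.p₂))
    (hC : E * (D.p₁ * D.p₂ + D.p₂ * D.p₁) = E * D.p₁ + E * D.p₂ - (1 - lam) • E)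
    (hq1 : E * (D.T₁ * D.T₂) * (D.T₁ * D.T₂) =
      D.t lam • (E * (D.T₁ * D.T₂)) - ((D.a : ℝ) * D.b) • E)
    (hq2 : E * (D.T₂ * D.T₁) * (D.T₂ * D.T₁) =
      D.t lam • (E * (D.T₂ * D.T₁)) - ((D.a : ℝ) * D.b) • E) :
    (∀ d' : ℕ, D.m = 2 * d' → useq (D.t lam) ((D.a : ℝ) * D.b) d' = 0) ∧
    (∀ d' : ℕ, D.m = 2 * d' + 1 →
      useq (D.t lam) ((D.a : ℝ) * D.b) (d' + 1) + (D.a : ℝ) * useq (D.t lam) ((D.a : ℝ) * D.b) d' = 0) := by
  obtain ⟨h11, h22, -, -, hT1, hT2, -, -⟩ := p_facts D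
  have haR : ((D.a : ℝ) + 1) ≠ 0 := by positivity
  have hbR : ((D.b : ℝ) + 1) ≠ 0 := by positivity
  have hbraid := D.braid
  constructor
  · intro d' hm
    obtain ⟨k, rfl⟩ : ∃ k, d' = k + 1 := ⟨d' - 1, by have := D.hm; omega⟩
    rw [hm, h8_alt_even, h8_alt_even] at hbraid
    have r1 := h7_pow_rec E (D.T₁ * D.T₂) _ _ hq1 k
    have r2 := h7_pow_rec E (D.T₂ * D.T₁) _ _ hq2 k
    rw [hbraid, r2] at r1
    -- u • (E R' - E R) = 0
    have r3 : useq (D.t lam) ((D.a : ℝ) * D.b) (k + 1) • (E * (D.T₂ * D.T₁) - E * (D.T₁ * D.T₂)) = 0 := by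
      rw [smul_sub, sub_eq_zero]
      have := r1
      -- cancel the common term
      exact sub_left_injective this
    rcases smul_eq_zero.mp r3 with h0 | h0
    · exact h0
    · exfalso
      apply h.ne
      apply h7_E_zero_of_comm E D.p₁ D.p₂ lam h11 h22 h121 h212 hC h.lam0 h.lam1
      -- E p₁ p₂ = E p₂ p₁ from E R = E R'
      have e1 : E * (D.T₁ * D.T₂) = (((D.a : ℝ) + 1) * ((D.b : ℝ) + 1)) • (E * D.p₁ * D.p₂)
          - ((D.a : ℝ) + 1) • (E * D.p₁) - ((D.b : ℝ) + 1) • (E * D.p₂) + E := by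
        rw [hT1, hT2]
        simp only [sub_mul, mul_sub, smul_mul_assoc, mul_smul_comm, mul_one, one_mul, smul_sub,
          smul_smul, ← mul_assoc]
        module
      have e2 : E * (D.T₂ * D.T₁) = (((D.a : ℝ) + 1) * ((D.b : ℝ) + 1)) • (E * D.p₂ * D.p₁)
          - ((D.a : ℝ) + 1) • (E * D.p₁) - ((D.b : ℝ) + 1) • (E * D.p₂) + E := by
        rw [hT1, hT2]
        simp only [sub_mul, mul_sub, smul_mul_assoc, mul_smul_comm, mul_one, one_mul, smul_sub,
          smul_smul, ← mul_assoc]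
        module
      rw [e1, e2] at h0
      have e3 : (((D.a : ℝ) + 1) * ((D.b : ℝ) + 1)) • (E * D.p₂ * D.p₁ - E * D.p₁ * D.p₂) = 0 := by
        rw [← h0]; module
      rcases smul_eq_zero.mp e3 with h3 | h3
      · exact absurd h3 (mul_ne_zero haR hbR)
      · exact (sub_eq_zero.mp h3).symm
  · intro d' hm
    have habR : (D.b : ℝ) = D.a := by rw [hab ⟨d', hm⟩]
    obtain ⟨k, rfl⟩ : ∃ k, d' = k + 1 := ⟨d' - 1, by have := D.hm; omega⟩
    rw [hm, h8_alt_odd, h8_alt_odd] at hbraid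
    have r1 := h7_pow_rec E (D.T₁ * D.T₂) _ _ hq1 k
    have r2 := h7_pow_rec E (D.T₂ * D.T₁) _ _ hq2 k
    have r3 := congrArg (fun X => E * X) hbraid
    simp only [← mul_assoc] at r3
    rw [r1, r2] at r3
    simp only [sub_mul, smul_mul_assoc] at r3
    set u1 := useq (D.t lam) ((D.a : ℝ) * D.b) (k + 1) with hu1
    set u0 := useq (D.t lam) ((D.a : ℝ) * D.b) k with hu0
    simp only [← mul_assoc] at r3
    -- u1 • (E T₁T₂T₁ - E T₂T₁T₂) = (c2 u0) • (E T₁ - E T₂)
    have r4 : u1 • (E * D.T₁ * D.T₂ * D.T₁ - E * D.T₂ * D.T₁ * D.T₂) -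
        ((D.a : ℝ) * D.b * u0) • (E * D.T₁ - E * D.T₂) = 0 := by
      have e : u1 • (E * D.T₁ * D.T₂ * D.T₁ - E * D.T₂ * D.T₁ * D.T₂) -
          ((D.a : ℝ) * D.b * u0) • (E * D.T₁ - E * D.T₂) =
          (u1 • (E * D.T₁ * D.T₂ * D.T₁) - ((D.a : ℝ) * D.b * u0) • (E * D.T₁)) -
          (u1 • (E * D.T₂ * D.T₁ * D.T₂) - ((D.a : ℝ) * D.b * u0) • (E * D.T₂)) := by
        module
      rw [e, r3, sub_self]
    have hT2' : D.T₂ = ((D.a : ℝ) + 1) • D.p₂ - 1 := by rw [hT2, habR]
    have r5 : E * D.T₁ * D.T₂ * D.T₁ - E * D.T₂ * D.T₁ * D.T₂ =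
        (((D.a : ℝ) + 1) ^ 3 * lam - ((D.a : ℝ) + 1) ^ 2 + ((D.a : ℝ) + 1)) •
          (E * D.p₁ - E * D.p₂) := by
      have := h7_triple E D.p₁ D.p₂ lam ((D.a : ℝ) + 1) h11 h22 h121 h212
      rw [← hT1, ← hT2'] at this
      simp only [← mul_assoc] at this
      exact this
    have r6 : E * D.T₁ - E * D.T₂ = ((D.a : ℝ) + 1) • (E * D.p₁ - E * D.p₂) := by
      rw [hT1, hT2']
      simp only [mul_sub, mul_smul_comm, mul_one]
      module
    rw [r5, r6, smul_smul, smul_smul, ← sub_smul] at r4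
    rcases smul_eq_zero.mp r4 with h0 | h0
    · -- the scalar equation
      have ht : D.t lam = ((D.a : ℝ) + 1) ^ 2 * lam - 2 * D.a := by
        unfold FHData.t
        rw [habR]
        ring
      rw [h7_useq_succ_succ, ← hu1, ← hu0, ht]
      rw [habR] at h0
      have : ((D.a : ℝ) + 1) * ((((D.a : ℝ) + 1) ^ 2 * lam - 2 * D.a) * u1 - (D.a : ℝ) * D.b * u0
          + D.a * u1) = 0 := by
        rw [habR]
        linear_combination h0
      rcases mul_eq_zero.mp this with h3 | h3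
      · exact absurd h3 haR
      · exact h3
    · exfalso
      apply h.ne
      exact h7_E_zero_of_eq E D.p₁ D.p₂ lam h11 h22 h121 hC h.lam1 (sub_eq_zero.mp h0)

end Cfsg.Agent.Helper7.FH
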