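import Mathlib
import Cfsg.Agent.Helper7.FHDefs
import Cfsg.Agent.Helper7.Fh_L0
import Cfsg.Agent.Helper9.Fh_L1a
import Cfsg.Agent.Helper8.Fh_L2
import Cfsg.Agent.Helper4.Fh_L3
import Cfsg.Agent.Helper8.Fh_L4
import Cfsg.Agent.Helper7.Fh_L5
import Cfsg.Agent.Helper3.Fh_L8b
import Cfsg.Agent.Helper4.Fh_L9a
import Cfsg.Agent.Helper4.Fh_L9b
import Cfsg.Agent.Helper7.Fh_L10
import Cfsg.Agent.Helper5.Fh_L15
import Cfsg.Agent.Helper5.Fh_L16
import Cfsg.Agent.Helper9.Fh_L1b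
import Cfsg.Agent.Lead.Fh_L6
import Cfsg.Agent.Helper8.Fh_L7
import Cfsg.Agent.Helper4.Fh_L8a
import Cfsg.Agent.Helper6.Fh_L13
import Cfsg.Agent.Helper8.Fh_L14

set_option autoImplicit false
set_option linter.unusedVariables false
set_option linter.unusedSectionVars false

namespace Cfsg.Agent.Helper7.FH

open Matrix Finset

theorem h7_commute_aeval {A : Type*} [Ring A] [Algebra ℝ A] (x y : A) (h : Commute x y)
    (g : Polynomial ℝ) : Commute (Polynomial.aeval x g) y := by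
  induction g using Polynomial.induction_on' with
  | add p q hp hq => rw [map_add]; exact hp.add_left hq
  | monomial n a =>
    rw [Polynomial.aeval_monomial]
    exact (Algebra.commute_algebraMap_left a y).mul_left (h.pow_left n)

variable {F : Type*} [Fintype F] [DecidableEq F] (D : FHData F)

theorem spec_proj (M : Matrix F F ℝ) (hM : M.transpose = M) (μ : ℝ)
    (hμ : ∃ v : F → ℝ, v ≠ 0 ∧ M.mulVec v = μ • v) :
    ∃ g : Polynomial ℝ, (Polynomial.aeval M g) * (Polynomial.aeval M g) = Polynomial.aeval M g ∧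
      (Polynomial.aeval M g).transpose = Polynomial.aeval M g ∧ Polynomial.aeval M g ≠ 0 ∧
      M * Polynomial.aeval M g = μ • Polynomial.aeval M g :=
  spec_proj_of M hM (spec_annihilate M hM) μ hμ

theorem parseval (X : Matrix F F ℝ) (hX : X ∈ D.Alg) :
    Matrix.trace (X * X.transpose) =
      ∑ k ∈ Finset.range (D.m + 1), (Matrix.trace (X * (D.A k).transpose)) ^ 2 / (D.n * D.qA k) +
      ∑ k ∈ Finset.Ico 1 D.m, (Matrix.trace (X * (D.B k).transpose)) ^ 2 / (D.n * D.qB k) :=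
  parseval_of D (alg_le_span D) X hX

theorem aeval_C_ne_zero (g : Polynomial ℝ) (hg : g.Monic) (hdeg : 2 * g.natDegree ≤ D.m) :
    Polynomial.aeval D.C g ≠ 0 :=
  aeval_C_ne_zero_of D (C_pow_fil D) g hg hdeg

/-- an eigenvalue of `C` different from `0, 1` gives an `Eig` datum -/
theorem h7_exists_eig (μ : ℝ) (hμ : ∃ v : F → ℝ, v ≠ 0 ∧ D.C.mulVec v = μ • v) (h0 : μ ≠ 0)
    (h1 : μ ≠ 1) : ∃ E, D.Eig E (1 - μ) := by
  obtain ⟨hCe, hCs, hCp1, hCp2, hC1, hC2, hCm, -, -⟩ := C_facts D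
  obtain ⟨g, hid, hsy, hne, heig⟩ := spec_proj D.C hCs μ hμ
  refine ⟨Polynomial.aeval D.C g, ?_, hid, hsy, hne, ?_, ?_, ?_, ?_, ?_⟩
  · -- membership
    have : Polynomial.aeval D.C g = ((Polynomial.aeval (⟨D.C, hCm⟩ : D.Alg) g : D.Alg) :
        Matrix F F ℝ) := by
      rw [← Subalgebra.coe_val, ← Polynomial.aeval_algHom_apply]
      rfl
    rw [this]
    exact Subtype.property _
  · exact (h7_commute_aeval D.C D.T₁ hC1 g).eq
  · exact (h7_commute_aeval D.C D.T₂ hC2 g).eq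
  · rw [heig]; congr 1; ring
  · intro h; apply h1; linarith
  · intro h; apply h0; linarith

/-- everything we know on an eigenspace, packaged -/
theorem h7_eig_pack {E : Matrix F F ℝ} {lam : ℝ} (h : D.Eig E lam) :
    ∃ d : ℕ, 0 < d ∧
      (d : ℝ) * (∑ k ∈ Finset.range (D.m + 1), (chi D.a D.b (D.t lam) k) ^ 2 / D.qA k +
        ∑ k ∈ Finset.Ico 1 D.m, (chi D.b D.a (D.t lam) k) ^ 2 / D.qB k) = 2 * D.n ∧
      (∀ d' : ℕ, D.m = 2 * d' → useq (D.t lam) ((D.a : ℝ) * D.b) d' = 0) ∧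
      (∀ d' : ℕ, D.m = 2 * d' + 1 →
        useq (D.t lam) ((D.a : ℝ) * D.b) (d' + 1) +
          (D.a : ℝ) * useq (D.t lam) ((D.a : ℝ) * D.b) d' = 0) := by
  obtain ⟨h121, h212, hC, d, hdpos, hd1, hd2, hd, hd12⟩ := eig_traces D h
  obtain ⟨hq1, hq2⟩ := eig_quad D h h121 h212 hC
  have hchi := fun k => eig_chi D h d hd1 hd2 hd hd12 hq1 hq2 k
  have hpars := parseval D E h.mem
  have htr := eig_trick D h d hdpos hd hchi hpars
  obtain ⟨hev, hod⟩ := eig_adm_op D h (ab_of_odd D) h121 h212 hC hq1 hq2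
  exact ⟨d, hdpos, htr, hev, hod⟩

end Cfsg.Agent.Helper7.FH

namespace Cfsg.Agent.Helper7.FH

open Matrix Finset

variable {F : Type*} [Fintype F] [DecidableEq F] (D : FHData F)

/-- the value of `lam` corresponding to `t = 2y` -/
noncomputable def h7_lamOf (y : ℝ) : ℝ := ((D.a : ℝ) + D.b + 2 * y) / (((D.a : ℝ) + 1) * ((D.b : ℝ) + 1))

theorem h7_t_lamOf (y : ℝ) : D.t (h7_lamOf D y) = 2 * y := by
  have ha : ((D.a : ℝ) + 1) ≠ 0 := by positivity
  have hb : ((D.b : ℝ) + 1) ≠ 0 := by positivity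
  unfold FHData.t h7_lamOf
  field_simp
  ring

theorem h7_lam_of_t {lam y : ℝ} (h : D.t lam = 2 * y) : lam = h7_lamOf D y := by
  have ha : ((D.a : ℝ) + 1) ≠ 0 := by positivity
  have hb : ((D.b : ℝ) + 1) ≠ 0 := by positivity
  unfold FHData.t at h
  unfold h7_lamOf
  field_simp
  linarith

/-- general "all admissible values occur" principle -/
theorem h7_all_occur (S : Finset ℕ) (y : ℕ → ℝ) (j : ℕ) (hj : j ∈ S) (extra : Finset ℝ)
    (hdeg : 2 * (extra.card + (S.card - 1)) ≤ D.m)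
    (hspec : ∀ μ : ℝ, (∃ v : F → ℝ, v ≠ 0 ∧ D.C.mulVec v = μ • v) → μ ∉ extra →
      ∃ E, D.Eig E (1 - μ) ∧ ∃ i ∈ S, D.t (1 - μ) = 2 * y i) :
    ∃ E lam, D.Eig E lam ∧ D.t lam = 2 * y j := by
  by_contra hno
  have hno : ∀ E lam, D.Eig E lam → D.t lam ≠ 2 * y j := fun E lam hE ht => hno ⟨E, lam, hE, ht⟩
  obtain ⟨-, hCs, -⟩ := C_facts D
  let μ : ℕ → ℝ := fun i => 1 - h7_lamOf D (y i)
  let g : Polynomial ℝ := (∏ e ∈ extra, (Polynomial.X - Polynomial.C e)) *
    ∏ i ∈ S.erase j, (Polynomial.X - Polynomial.C (μ i))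
  have hmon1 : (∏ e ∈ extra, (Polynomial.X - Polynomial.C e) : Polynomial ℝ).Monic :=
    Polynomial.monic_prod_of_monic _ _ (fun e _ => Polynomial.monic_X_sub_C e)
  have hmon2 : (∏ i ∈ S.erase j, (Polynomial.X - Polynomial.C (μ i)) : Polynomial ℝ).Monic :=
    Polynomial.monic_prod_of_monic _ _ (fun e _ => Polynomial.monic_X_sub_C _)
  have hgm : g.Monic := hmon1.mul hmon2
  have hgd : g.natDegree = extra.card + (S.card - 1) := by
    rw [hmon1.natDegree_mul hmon2, Polynomial.natDegree_prod_of_monic _ _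
      (fun e _ => Polynomial.monic_X_sub_C e), Polynomial.natDegree_prod_of_monic _ _
      (fun e _ => Polynomial.monic_X_sub_C _)]
    simp [Finset.card_erase_of_mem hj]
  have hne := aeval_C_ne_zero D g hgm (by rw [hgd]; exact hdeg)
  apply hne
  apply spec_annihilate D.C hCs g
  intro ν hν
  by_cases hex : ν ∈ extra
  · rw [Polynomial.eval_mul, Polynomial.eval_prod]
    rw [Finset.prod_eq_zero hex (by simp), zero_mul]
  · obtain ⟨E, hE, i, hiS, hti⟩ := hspec ν hν hex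
    have hij : i ≠ j := by
      rintro rfl
      exact hno E (1 - ν) hE hti
    have hlam := h7_lam_of_t D hti
    have hνi : ν = μ i := by
      show ν = 1 - h7_lamOf D (y i)
      linarith
    rw [Polynomial.eval_mul, Polynomial.eval_prod, Polynomial.eval_prod]
    rw [Finset.prod_eq_zero (Finset.mem_erase.mpr ⟨hij, hiS⟩) (by simp [hνi]), mul_zero]

end Cfsg.Agent.Helper7.FH

namespace Cfsg.Agent.Helper7.FH

open Matrix Finset

variable {F : Type*} [Fintype F] [DecidableEq F] (D : FHData F)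

theorem h7_n_pos : 0 < D.n := by
  haveI := D.hF
  unfold FHData.n
  exact_mod_cast Fintype.card_pos

theorem h7_even (d' : ℕ) (hm : D.m = 2 * d') : d' = 1 ∨ d' = 2 ∨ d' = 3 ∨ d' = 4 := by
  have hd1 : 1 ≤ d' := by have := D.hm; omega
  have hapos : (0 : ℝ) < D.a := by have := D.ha; positivity
  have hbpos : (0 : ℝ) < D.b := by have := D.hb; positivity
  apply nt_even D.a D.b d' D.ha D.hb hd1
  intro j hj1 hjd
  set y : ℕ → ℝ := fun i => Real.sqrt ((D.a : ℝ) * D.b) * Real.cos (Real.pi * i / d') with hy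
  -- every admissible value occurs
  have hocc : ∃ E lam, D.Eig E lam ∧ D.t lam = 2 * y j := by
    apply h7_all_occur D (Finset.Ico 1 d') y j (by simp [hj1, hjd]) {0, 1}
    · have h2 : ({0, 1} : Finset ℝ).card = 2 := by
        rw [Finset.card_pair]; norm_num
      rw [h2]
      simp only [Nat.card_Ico]
      omega
    · intro μ hμ hex
      have h0 : μ ≠ 0 := by
        intro h; apply hex; simp [h]
      have h1 : μ ≠ 1 := by
        intro h; apply hex; simp [h]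
      obtain ⟨E, hE⟩ := h7_exists_eig D μ hμ h0 h1
      refine ⟨E, hE, ?_⟩
      obtain ⟨d, hdpos, htr, hev, hod⟩ := h7_eig_pack D hE
      obtain ⟨i, hi1, hid, hti⟩ := useq_zero_even ((D.a : ℝ) * D.b) (D.t (1 - μ))
        (by positivity) d' hd1 (hev d' hm)
      refine ⟨i, by simp [hi1, hid], ?_⟩
      rw [hti, hy]
      ring
  obtain ⟨E, lam, hE, ht⟩ := hocc
  obtain ⟨d, hdpos, htr, hev, hod⟩ := h7_eig_pack D hE
  have hsum := chi_sum_even (D.a : ℝ) D.b hapos hbpos d' j hj1 hjd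
  rw [ht, hm] at htr
  have hqA : ∀ k, D.qA k = (D.a : ℝ) ^ ((k + 1) / 2) * (D.b : ℝ) ^ (k / 2) := fun k => rfl
  have hqB : ∀ k, D.qB k = (D.b : ℝ) ^ ((k + 1) / 2) * (D.a : ℝ) ^ (k / 2) := fun k => rfl
  simp only [hqA, hqB] at htr
  rw [hsum] at htr
  -- solve for the expression
  refine ⟨2 * (Fintype.card F : ℚ) / (d * d'), ?_⟩
  have hden : ((D.a : ℝ) * D.b - (y j) ^ 2) ≠ 0 := by
    intro h0
    rw [h0] at htr
    simp at htr
    have := h7_n_pos D
    linarith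
  have hdR : (d : ℝ) ≠ 0 := by positivity
  have hd'R : (d' : ℝ) ≠ 0 := by positivity
  have hn : D.n = (Fintype.card F : ℝ) := rfl
  rw [hn] at htr
  push_cast
  have hyj : y j = Real.sqrt ((D.a : ℝ) * D.b) * Real.cos (Real.pi * j / d') := rfl
  rw [← hyj] at htr ⊢
  generalize y j = Y at htr hden ⊢
  generalize ((D.a : ℝ) + D.b + 2 * Y) = N1 at htr ⊢
  generalize ((D.a : ℝ) * D.b + 1 - 2 * Y) = N2 at htr ⊢
  generalize ((D.a : ℝ) * D.b - Y ^ 2) = Den at htr hden ⊢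
  rw [eq_div_iff (by positivity), ← htr]
  field_simp

end Cfsg.Agent.Helper7.FH

namespace Cfsg.Agent.Helper7.FH

open Matrix Finset

variable {F : Type*} [Fintype F] [DecidableEq F] (D : FHData F)

theorem h7_odd (d' : ℕ) (hm : D.m = 2 * d' + 1) : d' = 1 := by
  have hd1 : 1 ≤ d' := by have := D.hm; omega
  have hapos : (0 : ℝ) < D.a := by have := D.ha; positivity
  have hab : D.a = D.b := ab_of_odd D ⟨d', hm⟩
  have habR : (D.b : ℝ) = D.a := by rw [hab]
  apply nt_odd D.a d' D.ha hd1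
  intro j hj1 hjd
  set y : ℕ → ℝ := fun i => (D.a : ℝ) * Real.cos (2 * Real.pi * i / (2 * d' + 1)) with hy
  have hocc : ∃ E lam, D.Eig E lam ∧ D.t lam = 2 * y j := by
    apply h7_all_occur D (Finset.Icc 1 d') y j (by simp [hj1, hjd]) {0}
    · simp only [Finset.card_singleton, Nat.card_Icc]
      omega
    · intro μ hμ hex
      have h0 : μ ≠ 0 := by
        intro h; apply hex; simp [h]
      have h1 : μ ≠ 1 := by
        rintro rfl
        obtain ⟨v, hv, hCv⟩ := hμ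
        rw [one_smul] at hCv
        exact no_eig_one_of_odd D ⟨d', hm⟩ v hv hCv
      obtain ⟨E, hE⟩ := h7_exists_eig D μ hμ h0 h1
      refine ⟨E, hE, ?_⟩
      obtain ⟨d, hdpos, htr, hev, hod⟩ := h7_eig_pack D hE
      have hod' := hod d' hm
      rw [habR] at hod'
      obtain ⟨i, hi1, hid, hti⟩ := useq_zero_odd (D.a : ℝ) (D.t (1 - μ)) hapos d' hod'
      refine ⟨i, by simp [hi1, hid], ?_⟩
      rw [hti, hy]
      ring
  obtain ⟨E, lam, hE, ht⟩ := hocc
  obtain ⟨d, hdpos, htr, hev, hod⟩ := h7_eig_pack D hE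
  have hsum := chi_sum_odd (D.a : ℝ) hapos d' j hj1 hjd
  have ht' : D.t lam = 2 * (D.a : ℝ) * Real.cos (2 * Real.pi * j / (2 * d' + 1)) := by
    rw [ht, hy]; ring
  rw [ht', hm] at htr
  have hqA : ∀ k, D.qA k = (D.a : ℝ) ^ ((k + 1) / 2) * (D.a : ℝ) ^ (k / 2) := fun k => by
    unfold FHData.qA; rw [habR]
  have hqB : ∀ k, D.qB k = (D.a : ℝ) ^ ((k + 1) / 2) * (D.a : ℝ) ^ (k / 2) := fun k => by
    unfold FHData.qB; rw [habR]
  simp only [hqA, hqB, habR] at htr
  rw [hsum] at htr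
  refine ⟨2 * (Fintype.card F : ℚ) * D.a / (d * (2 * d' + 1)), ?_⟩
  have hn : D.n = (Fintype.card F : ℝ) := rfl
  rw [hn] at htr
  have hden : (1 - Real.cos (2 * Real.pi * j / (2 * d' + 1))) ≠ 0 := by
    intro h0
    rw [h0, mul_zero, div_zero, mul_zero] at htr
    have : (0 : ℝ) < (Fintype.card F : ℝ) := h7_n_pos D
    linarith
  push_cast
  generalize ((D.a : ℝ) ^ 2 + 1 - 2 * (D.a : ℝ) * Real.cos (2 * Real.pi * j / (2 * d' + 1))) = N1
    at htr ⊢
  generalize (1 - Real.cos (2 * Real.pi * j / (2 * d' + 1))) = Den at htr hden ⊢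
  have hdR : (d : ℝ) ≠ 0 := by positivity
  have haR : (D.a : ℝ) ≠ 0 := ne_of_gt hapos
  rw [eq_div_iff (by positivity)]
  have h2 : (2 * (Fintype.card F : ℝ)) * D.a = ((d : ℝ) * ((2 * d' + 1 : ℝ) * N1 / ((D.a : ℝ) * Den))) * D.a := by
    rw [htr]
  rw [h2]
  field_simp

/-- **Part II**: the conclusion of the Feit–Higman theorem for the matrix data -/
theorem h7_main_partII : D.m = 2 ∨ D.m = 3 ∨ D.m = 4 ∨ D.m = 6 ∨ D.m = 8 := by
  rcases Nat.even_or_odd' D.m with ⟨d', hd | hd⟩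
  · rcases h7_even D d' hd with h | h | h | h <;> omega
  · have := h7_odd D d' hd
    omega

end Cfsg.Agent.Helper7.FH
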