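import Mathlib

set_option autoImplicit false

namespace Cfsg.Agent.Helper1.Fo3

open Matrix

variable {V : Type*} [Fintype V] [DecidableEq V]

/-- (i) trace of the square of a real symmetric matrix -/
theorem herm_trace_sq {A : Matrix V V ℝ} (hA : A.IsHermitian) :
    (A * A).trace = ∑ i, (hA.eigenvalues i) ^ 2 := by
  have hU : (star (hA.eigenvectorUnitary : Matrix V V ℝ)) * (hA.eigenvectorUnitary : Matrix V V ℝ)
      = 1 := Unitary.coe_star_mul_self _
  have hspec := hA.spectral_theorem
  rw [Unitary.conjStarAlgAut_apply] at hspec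
  set U : Matrix V V ℝ := (hA.eigenvectorUnitary : Matrix V V ℝ) with hUdef
  set D : Matrix V V ℝ := diagonal (RCLike.ofReal ∘ hA.eigenvalues) with hD
  have hAA : A * A = U * (D * D) * star U := by
    conv_lhs => rw [hspec]
    calc U * D * star U * (U * D * star U) = U * D * (star U * U) * D * star U := by
          simp only [Matrix.mul_assoc]
      _ = U * (D * D) * star U := by rw [hU]; simp only [Matrix.mul_assoc, Matrix.mul_one]
  rw [hAA, Matrix.trace_mul_comm, ← Matrix.mul_assoc, hU, Matrix.one_mul, hD,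
    Matrix.diagonal_mul_diagonal, Matrix.trace_diagonal]
  apply Finset.sum_congr rfl
  intro i _
  simp [pow_two]

/-- (ii) every eigenvalue is a root of an annihilating cubic -/
theorem herm_eigenvalue_root {A : Matrix V V ℝ} (hA : A.IsHermitian) {a b c : ℝ}
    (h : A * A * A + a • (A * A) + b • A + c • (1 : Matrix V V ℝ) = 0) (i : V) :
    (hA.eigenvalues i) ^ 3 + a * (hA.eigenvalues i) ^ 2 + b * hA.eigenvalues i + c = 0 := by
  set v : V → ℝ := ⇑(hA.eigenvectorBasis i) with hv
  set l : ℝ := hA.eigenvalues i with hl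
  have hv0 : v ≠ 0 := by
    have := hA.eigenvectorBasis.orthonormal.ne_zero i
    intro h0
    apply this
    ext j
    have := congrFun h0 j
    simpa [hv] using this
  have h1 : A *ᵥ v = l • v := hA.mulVec_eigenvectorBasis i
  have h2 : (A * A) *ᵥ v = (l ^ 2) • v := by
    rw [← Matrix.mulVec_mulVec, h1, Matrix.mulVec_smul, h1, smul_smul, pow_two]
  have h3 : (A * A * A) *ᵥ v = (l ^ 3) • v := by
    rw [← Matrix.mulVec_mulVec, h1, Matrix.mulVec_smul, h2, smul_smul]
    congr 1; ring
  have h4 : (A * A * A + a • (A * A) + b • A + c • (1 : Matrix V V ℝ)) *ᵥ v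
      = (l ^ 3 + a * l ^ 2 + b * l + c) • v := by
    rw [Matrix.add_mulVec, Matrix.add_mulVec, Matrix.add_mulVec, Matrix.smul_mulVec,
      Matrix.smul_mulVec, Matrix.smul_mulVec, h1, h2, h3, Matrix.one_mulVec]
    simp only [smul_smul, ← add_smul]
  rw [h, Matrix.zero_mulVec] at h4
  rcases smul_eq_zero.mp h4.symm with h5 | h5
  · exact h5
  · exact absurd h5 hv0

omit [DecidableEq V] in
/-- (iii) counting: if all values of `f` lie in three pairwise distinct reals, sums of `f` and
`f ^ 2` are expressed by the multiplicities -/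
theorem herm_count3 (f : V → ℝ) {x0 x1 x2 : ℝ} (h01 : x0 ≠ x1) (h02 : x0 ≠ x2) (h12 : x1 ≠ x2)
    (hf : ∀ i, f i = x0 ∨ f i = x1 ∨ f i = x2) :
    ∃ m0 m1 m2 : ℕ, m0 + m1 + m2 = Fintype.card V ∧
      ∑ i, f i = (m0 : ℝ) * x0 + m1 * x1 + m2 * x2 ∧
      ∑ i, (f i) ^ 2 = (m0 : ℝ) * x0 ^ 2 + m1 * x1 ^ 2 + m2 * x2 ^ 2 := by
  classical
  refine ⟨(Finset.univ.filter fun i => f i = x0).card, (Finset.univ.filter fun i => f i = x1).card,
    (Finset.univ.filter fun i => f i = x2).card, ?_, ?_, ?_⟩
  · have key : ∀ i : V, (if f i = x0 then 1 else 0) + (if f i = x1 then 1 else 0)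
        + (if f i = x2 then 1 else 0) = (1 : ℕ) := by
      intro i
      rcases hf i with h | h | h
      · simp [h, h01, h02]
      · simp [h, h01.symm, h12]
      · simp [h, h02.symm, h12.symm]
    simp only [Finset.card_filter]
    rw [← Finset.sum_add_distrib, ← Finset.sum_add_distrib]
    simp [key]
  · have key : ∀ i : V, f i = (if f i = x0 then x0 else 0) + (if f i = x1 then x1 else 0)
        + (if f i = x2 then x2 else 0) := by
      intro i
      rcases hf i with h | h | h
      · simp [h, h01, h02]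
      · simp [h, h01.symm, h12]
      · simp [h, h02.symm, h12.symm]
    conv_lhs => rw [Finset.sum_congr rfl (fun i _ => key i)]
    rw [Finset.sum_add_distrib, Finset.sum_add_distrib]
    simp only [← Finset.sum_filter, Finset.sum_const, nsmul_eq_mul]
  · have key : ∀ i : V, (f i) ^ 2 = (if f i = x0 then x0 ^ 2 else 0)
        + (if f i = x1 then x1 ^ 2 else 0) + (if f i = x2 then x2 ^ 2 else 0) := by
      intro i
      rcases hf i with h | h | h
      · simp [h, h01, h02]
      · simp [h, h01.symm, h12]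
      · simp [h, h02.symm, h12.symm]
    conv_lhs => rw [Finset.sum_congr rfl (fun i _ => key i)]
    rw [Finset.sum_add_distrib, Finset.sum_add_distrib]
    simp only [← Finset.sum_filter, Finset.sum_const, nsmul_eq_mul]

end Cfsg.Agent.Helper1.Fo3
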