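import Mathlib
import Cfsg.Agent.Helper7.G2InvA

set_option autoImplicit false
set_option linter.unusedSectionVars false
set_option linter.unusedVariables false

/-!
Normal forms in the group `U` of `G₂` in characteristic two, and left multiplication by root elements.
-/

namespace Cfsg.Agent.Helper7.Chev

open Cfsg Cfsg.Lie Matrix
open scoped Pointwise

variable {F : Type*} [Field F]

/-- Partial normal forms. -/
noncomputable def u10 (e f : F) : GL chevG2.Idx F := xg 10 e * xg 11 f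
noncomputable def u9 (d e f : F) : GL chevG2.Idx F := xg 9 d * u10 e f
noncomputable def u8 (c d e f : F) : GL chevG2.Idx F := xg 8 c * u9 d e f
noncomputable def u7 (b c d e f : F) : GL chevG2.Idx F := xg 7 b * u8 c d e f
/-- The normal form `x₆(a) x₇(b) x₈(c) x₉(d) x₁₀(e) x₁₁(f)`. -/
noncomputable def ug (a b c d e f : F) : GL chevG2.Idx F := xg 6 a * u7 b c d e f

/-! ### level 10 -/

theorem l11_10 (s e f : F) : xg 11 s * u10 e f = u10 e (f + s) := by
  unfold u10
  rw [← mul_assoc, ← (c10_11 e s).eq, mul_assoc, xg_mul, add_comm]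

theorem l10_10 (s e f : F) : xg 10 s * u10 e f = u10 (e + s) f := by
  unfold u10
  rw [← mul_assoc, xg_mul, add_comm]

/-! ### level 9 -/

theorem l11_9 (s d e f : F) : xg 11 s * u9 d e f = u9 d e (f + s) := by
  unfold u9
  rw [← mul_assoc, ← (c9_11 d s).eq, mul_assoc, l11_10]

theorem l10_9 (s d e f : F) : xg 10 s * u9 d e f = u9 d (e + s) f := by
  unfold u9
  rw [← mul_assoc, ← (c9_10 d s).eq, mul_assoc, l10_10]

theorem l9_9 (s d e f : F) : xg 9 s * u9 d e f = u9 (d + s) e f := by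
  unfold u9
  rw [← mul_assoc, xg_mul, add_comm]

/-! ### level 8 -/

theorem l11_8 (s c d e f : F) : xg 11 s * u8 c d e f = u8 c d e (f + s) := by
  unfold u8
  rw [← mul_assoc, ← (c8_11 c s).eq, mul_assoc, l11_9]

theorem l10_8 (s c d e f : F) : xg 10 s * u8 c d e f = u8 c d (e + s) f := by
  unfold u8
  rw [← mul_assoc, ← (c8_10 c s).eq, mul_assoc, l10_9]

section char2

variable [CharP F 2]

theorem l9_8 (s c d e f : F) : xg 9 s * u8 c d e f = u8 c (d + s) e (f + c * s) := by
  unfold u8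
  rw [← mul_assoc, xg2_9_8, mul_assoc, mul_assoc, l11_9, l9_9]

theorem l8_8 (s c d e f : F) : xg 8 s * u8 c d e f = u8 (c + s) d e f := by
  unfold u8
  rw [← mul_assoc, xg_mul, add_comm]

/-! ### level 7 -/

theorem l11_7 (s b c d e f : F) : xg 11 s * u7 b c d e f = u7 b c d e (f + s) := by
  unfold u7
  rw [← mul_assoc, ← (c7_11 b s).eq, mul_assoc, l11_8]

theorem l10_7 (s b c d e f : F) : xg 10 s * u7 b c d e f = u7 b c d (e + s) f := by
  unfold u7
  rw [← mul_assoc, ← (c7_10 b s).eq, mul_assoc, l10_8]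

theorem l9_7 (s b c d e f : F) :
    xg 9 s * u7 b c d e f = u7 b c (d + s) (e + b * s) (f + c * s) := by
  unfold u7
  rw [← mul_assoc, xg2_9_7, mul_assoc, mul_assoc, l10_8, l9_8]

theorem l8_7 (s b c d e f : F) :
    xg 8 s * u7 b c d e f = u7 b (c + s) d (e + b ^ 2 * s) (f + b * s ^ 2) := by
  unfold u7
  rw [← mul_assoc, xg2_8_7, mul_assoc, mul_assoc, mul_assoc, l11_8, l10_8, l8_8]

theorem l7_7 (s b c d e f : F) : xg 7 s * u7 b c d e f = u7 (b + s) c d e f := by
  unfold u7
  rw [← mul_assoc, xg_mul, add_comm]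

/-! ### level 6 -/

theorem l11_6 (s a b c d e f : F) : xg 11 s * ug a b c d e f = ug a b c d e (f + s) := by
  unfold ug
  rw [← mul_assoc, ← (c6_11 a s).eq, mul_assoc, l11_7]

theorem l10_6 (s a b c d e f : F) :
    xg 10 s * ug a b c d e f = ug a b c d (e + s) (f + a * s) := by
  unfold ug
  rw [← mul_assoc, xg2_10_6, mul_assoc, mul_assoc, l11_7, l10_7]

theorem l9_6 (s a b c d e f : F) :
    xg 9 s * ug a b c d e f = ug a b c (d + s) (e + b * s) (f + c * s) := by
  unfold ug
  rw [← mul_assoc, ← (c6_9 a s).eq, mul_assoc, l9_7]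

theorem l8_6 (s a b c d e f : F) :
    xg 8 s * ug a b c d e f = ug a b (c + s) d (e + b ^ 2 * s) (f + b * s ^ 2) := by
  unfold ug
  rw [← mul_assoc, ← (c6_8 a s).eq, mul_assoc, l8_7]

theorem l7_6 (s a b c d e f : F) :
    xg 7 s * ug a b c d e f = ug a (b + s) (c + a * s) (d + a * s ^ 2)
      (e + a * s ^ 3 + b * (a * s ^ 2) + b ^ 2 * (a * s))
      (f + c * (a * s ^ 2) + b * (a * s) ^ 2) := by
  unfold ug
  rw [← mul_assoc, xg2_7_6, mul_assoc, mul_assoc, mul_assoc, mul_assoc, l10_7, l9_7, l8_7, l7_7]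

theorem l6_6 (s a b c d e f : F) : xg 6 s * ug a b c d e f = ug (a + s) b c d e f := by
  unfold ug
  rw [← mul_assoc, xg_mul, add_comm]

end char2

theorem ug_zero : ug (0 : F) 0 0 0 0 0 = 1 := by
  unfold ug u7 u8 u9 u10
  simp only [xg_zero, mul_one]

/-- A product with a normal form, unfolded for the left multiplication lemmas. -/
theorem ug_mul_eq (a b c d e f : F) (X : GL chevG2.Idx F) :
    ug a b c d e f * X = xg 6 a * (xg 7 b * (xg 8 c * (xg 9 d * (xg 10 e * (xg 11 f * X))))) := by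
  unfold ug u7 u8 u9 u10
  simp only [mul_assoc]

theorem xg6_eq (a : F) : xg 6 a = ug a 0 0 0 0 0 := by
  unfold ug u7 u8 u9 u10; simp only [xg_zero, mul_one]
theorem xg7_eq (a : F) : xg 7 a = ug 0 a 0 0 0 0 := by
  unfold ug u7 u8 u9 u10; simp only [xg_zero, mul_one, one_mul]
theorem xg8_eq (a : F) : xg 8 a = ug 0 0 a 0 0 0 := by
  unfold ug u7 u8 u9 u10; simp only [xg_zero, mul_one, one_mul]
theorem xg9_eq (a : F) : xg 9 a = ug 0 0 0 a 0 0 := by
  unfold ug u7 u8 u9 u10; simp only [xg_zero, mul_one, one_mul]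
theorem xg10_eq (a : F) : xg 10 a = ug 0 0 0 0 a 0 := by
  unfold ug u7 u8 u9 u10; simp only [xg_zero, mul_one, one_mul]
theorem xg11_eq (a : F) : xg 11 a = ug 0 0 0 0 0 a := by
  unfold ug u7 u8 u9 u10; simp only [xg_zero, mul_one, one_mul]

end Cfsg.Agent.Helper7.Chev
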