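import Mathlib
import Cfsg.Agent.Helper7.G2InvB

set_option autoImplicit false
set_option linter.unusedSectionVars false
set_option linter.unusedVariables false

/-!
Existence and uniqueness of the normal form in `U`, squares, and the involutions of `U` (type `G₂`, characteristic
two).
-/

namespace Cfsg.Agent.Helper7.Chev

open Cfsg Cfsg.Lie Matrix
open scoped Pointwise

variable {F : Type*} [Field F]

theorem u9_eq_vg (d e f : F) : u9 d e f = vg d e f := by
  unfold u9 u10 vg
  rw [mul_assoc]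

theorem u8_mem (c d e f : F) : u8 c d e f ∈ Uge chevG2 F 8 := by
  unfold u8
  rw [u9_eq_vg]
  exact mul_mem (xg_mem_Uge 8 (by decide) c) (Uge_anti (by decide) (vg_mem_Uge9 d e f))

theorem u7_mem (b c d e f : F) : u7 b c d e f ∈ Uge chevG2 F 7 := by
  unfold u7
  exact mul_mem (xg_mem_Uge 7 (by decide) b) (Uge_anti (by decide) (u8_mem c d e f))

theorem ug_mem_U (a b c d e f : F) : ug a b c d e f ∈ chevG2.posUnipotent F := by
  rw [posUnipotent_eq_Uge T0_G2]
  unfold ug
  exact mul_mem (xg_mem_Uge 6 (by decide) a) (Uge_anti (by decide) (u7_mem b c d e f))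

/-- Every element of `U` has a normal form. -/
theorem exists_ug {u : GL chevG2.Idx F} (hu : u ∈ chevG2.posUnipotent F) :
    ∃ a b c d e f : F, u = ug a b c d e f := by
  have hG2 := good3_G2.toGood2
  rw [posUnipotent_eq_Uge T0_G2] at hu
  obtain ⟨a, u7', hu7, rfl⟩ := Uge_decomp hG2 T0_G2 T3_G2 T4_G2 T7_G2 (k := 6) (by decide) (by decide) hu
  obtain ⟨b, u8', hu8, rfl⟩ :=
    Uge_decomp hG2 T0_G2 T3_G2 T4_G2 T7_G2 (k := 7) (by decide) (by decide) hu7
  obtain ⟨c, z, hz, rfl⟩ :=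
    Uge_decomp hG2 T0_G2 T3_G2 T4_G2 T7_G2 (k := 8) (by decide) (by decide) hu8
  obtain ⟨d, e, f, rfl⟩ := mem_Uge9' hz
  refine ⟨a, b, c, d, e, f, ?_⟩
  unfold ug u7 u8
  rw [u9_eq_vg]
  rfl

/-- Uniqueness of the normal form. -/
theorem ug_inj {a b c d e f a' b' c' d' e' f' : F}
    (h : ug a b c d e f = ug a' b' c' d' e' f') :
    a = a' ∧ b = b' ∧ c = c' ∧ d = d' ∧ e = e' ∧ f = f' := by
  have h0 : a = a' := by
    have e1 : xg 6 (a - a') = u7 b' c' d' e' f' * (u7 b c d e f)⁻¹ := by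
      unfold ug at h
      rw [sub_eq_add_neg, add_comm, ← xg_mul, ← xg_inv, eq_mul_inv_iff_mul_eq, mul_assoc, h]
      group
    have hm : xg 6 (a - a') ∈ Uge chevG2 F ((6 : Fin 12).val + 1) := by
      rw [e1]
      exact mul_mem (u7_mem _ _ _ _ _) (inv_mem (u7_mem _ _ _ _ _))
    exact sub_eq_zero.mp (xg_eq_zero_of_mem_Uge 6 (by decide) hm)
  subst h0
  have h' : u7 b c d e f = u7 b' c' d' e' f' := by
    unfold ug at h
    exact mul_left_cancel h
  have h1 : b = b' := by
    have e1 : xg 7 (b - b') = u8 c' d' e' f' * (u8 c d e f)⁻¹ := by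
      unfold u7 at h'
      rw [sub_eq_add_neg, add_comm, ← xg_mul, ← xg_inv, eq_mul_inv_iff_mul_eq, mul_assoc, h']
      group
    have hm : xg 7 (b - b') ∈ Uge chevG2 F ((7 : Fin 12).val + 1) := by
      rw [e1]
      exact mul_mem (u8_mem _ _ _ _) (inv_mem (u8_mem _ _ _ _))
    exact sub_eq_zero.mp (xg_eq_zero_of_mem_Uge 7 (by decide) hm)
  subst h1
  have h'' : u8 c d e f = u8 c' d' e' f' := by
    unfold u7 at h'
    exact mul_left_cancel h'
  have h2 : c = c' := by
    have e1 : xg 8 (c - c') = u9 d' e' f' * (u9 d e f)⁻¹ := by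
      unfold u8 at h''
      rw [sub_eq_add_neg, add_comm, ← xg_mul, ← xg_inv, eq_mul_inv_iff_mul_eq, mul_assoc, h'']
      group
    have hm : xg 8 (c - c') ∈ Uge chevG2 F ((8 : Fin 12).val + 1) := by
      rw [e1, u9_eq_vg, u9_eq_vg]
      exact mul_mem (vg_mem_Uge9 _ _ _) (inv_mem (vg_mem_Uge9 _ _ _))
    exact sub_eq_zero.mp (xg_eq_zero_of_mem_Uge 8 (by decide) hm)
  subst h2
  have h''' : vg d e f = vg d' e' f' := by
    unfold u8 at h''
    rw [u9_eq_vg, u9_eq_vg] at h''
    exact mul_left_cancel h''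
  obtain ⟨i1, i2, i3⟩ := vg_inj h'''
  exact ⟨rfl, rfl, rfl, i1, i2, i3⟩

section char2

variable [CharP F 2]

/-- The square of an element of `U`. -/
theorem ug_sq (a b c d e f : F) : ug a b c d e f * ug a b c d e f =
    ug 0 0 (a * b) (a * b ^ 2) (b * d + b ^ 2 * c + a * b ^ 3)
      (a * e + c * d + b * c ^ 2 + a ^ 2 * b ^ 3) := by
  have h2 := two_eq_zero_F (F := F)
  rw [ug_mul_eq, l11_6, l10_6, l9_6, l8_6, l7_6, l6_6]
  congr 1
  · linear_combination a * h2
  · linear_combination b * h2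
  · linear_combination c * h2
  · linear_combination d * h2
  · linear_combination (e + a * b ^ 3) * h2
  · linear_combination (f + a * c * b ^ 2) * h2

end char2

end Cfsg.Agent.Helper7.Chev
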