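import Mathlib
import Cfsg.Agent.Helper7.G2InvC

set_option autoImplicit false
set_option linter.unusedSectionVars false
set_option linter.unusedVariables false

/-!
Conjugation of the normal form in `U` by the positive root elements (type `G₂`, characteristic two).
-/

namespace Cfsg.Agent.Helper7.Chev

open Cfsg Cfsg.Lie Matrix
open scoped Pointwise

variable {F : Type*} [Field F] [CharP F 2]

theorem cj6 (s a b c d e f : F) : xg 6 s * ug a b c d e f * (xg 6 s)⁻¹ =
    ug a b (c + b * s) (d + b ^ 2 * s) (e + b ^ 3 * s) (f + e * s + b ^ 2 * c * s) := by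
  have h2 := two_eq_zero_F (F := F)
  rw [xg_inv2, l6_6, xg6_eq s, ug_mul_eq, l11_6, l10_6, l9_6, l8_6, l7_6, l6_6]
  congr 1
  · linear_combination s * h2
  all_goals ring

theorem cj7 (s a b c d e f : F) : xg 7 s * ug a b c d e f * (xg 7 s)⁻¹ =
    ug a b (c + a * s) (d + a * s ^ 2)
      (e + d * s + c * s ^ 2 + a * b * s ^ 2 + a * b ^ 2 * s + a * s ^ 3)
      (f + c ^ 2 * s + a * c * s ^ 2 + a ^ 2 * b * s ^ 2 + a ^ 2 * s ^ 3) := by
  have h2 := two_eq_zero_F (F := F)
  rw [xg_inv2, l7_6, xg7_eq s, ug_mul_eq, l11_6, l10_6, l9_6, l8_6, l7_6, l6_6]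
  congr 1
  · ring
  · linear_combination s * h2
  · ring
  · ring
  · linear_combination (a * s ^ 3) * h2
  · linear_combination (a * c * s ^ 2) * h2

theorem cj8 (s a b c d e f : F) : xg 8 s * ug a b c d e f * (xg 8 s)⁻¹ =
    ug a b c d (e + b ^ 2 * s) (f + d * s + b * s ^ 2) := by
  have h2 := two_eq_zero_F (F := F)
  rw [xg_inv2, l8_6, xg8_eq s, ug_mul_eq, l11_6, l10_6, l9_6, l8_6, l7_6, l6_6]
  congr 1
  · ring
  · ring
  · linear_combination s * h2
  all_goals ring

theorem cj9 (s a b c d e f : F) : xg 9 s * ug a b c d e f * (xg 9 s)⁻¹ =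
    ug a b c d (e + b * s) (f + c * s) := by
  have h2 := two_eq_zero_F (F := F)
  rw [xg_inv2, l9_6, xg9_eq s, ug_mul_eq, l11_6, l10_6, l9_6, l8_6, l7_6, l6_6]
  congr 1
  · ring
  · ring
  · ring
  · linear_combination s * h2
  all_goals ring

theorem cj10 (s a b c d e f : F) : xg 10 s * ug a b c d e f * (xg 10 s)⁻¹ =
    ug a b c d e (f + a * s) := by
  have h2 := two_eq_zero_F (F := F)
  rw [xg_inv2, l10_6, xg10_eq s, ug_mul_eq, l11_6, l10_6, l9_6, l8_6, l7_6, l6_6]
  congr 1
  · ring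
  · ring
  · ring
  · ring
  · linear_combination s * h2
  all_goals ring

end Cfsg.Agent.Helper7.Chev
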