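import Mathlib
import Cfsg.Agent.Helper7.G2InvD

set_option autoImplicit false
set_option linter.unusedSectionVars false
set_option linter.unusedVariables false

/-!
Conjugacy in the Chevalley group of type `G₂`: conjugation by root elements, by the two fundamental
reflections and by the torus.
-/

namespace Cfsg.Agent.Helper7.Chev

open Cfsg Cfsg.Lie Matrix
open scoped Pointwise

variable {F : Type*} [Field F]

/-- Conjugacy in the Chevalley group of type `G₂`. -/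
def ConjG (g g' : GL chevG2.Idx F) : Prop := ∃ h ∈ chevG2.group F, h * g * h⁻¹ = g'

theorem ConjG.refl (g : GL chevG2.Idx F) : ConjG g g := ⟨1, one_mem _, by group⟩

theorem ConjG.trans {g₁ g₂ g₃ : GL chevG2.Idx F} (h₁ : ConjG g₁ g₂) (h₂ : ConjG g₂ g₃) :
    ConjG g₁ g₃ := by
  obtain ⟨h, hh, e⟩ := h₁
  obtain ⟨k, hk, e'⟩ := h₂
  refine ⟨k * h, mul_mem hk hh, ?_⟩
  rw [← e', ← e]
  group

theorem ConjG.symm {g₁ g₂ : GL chevG2.Idx F} (h₁ : ConjG g₁ g₂) : ConjG g₂ g₁ := by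
  obtain ⟨h, hh, e⟩ := h₁
  refine ⟨h⁻¹, inv_mem hh, ?_⟩
  rw [← e]
  group

theorem ConjG.of_eq {g₁ g₂ : GL chevG2.Idx F} (h : g₁ = g₂) : ConjG g₁ g₂ := h ▸ ConjG.refl g₁

theorem xg_mem_group (r : Fin 12) (a : F) : xg r a ∈ chevG2.group F :=
  xGL_mem_group good3_G2.toGood2 (g2_lt r.val r.isLt) a

theorem conjG_xg (k : Fin 12) (s : F) (g : GL chevG2.Idx F) :
    ConjG g (xg k s * g * (xg k s)⁻¹) := ⟨xg k s, xg_mem_group k s, rfl⟩

theorem nWordGL_mem_group (w : List ℕ) :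
    (nWordGL good3_G2.toGood2 w : GL chevG2.Idx F) ∈ chevG2.group F :=
  monomialSubgroup_le_group g2G1 (nWordGL_mem good3_G2.toGood2 w)

set_option maxRecDepth 1000000 in
theorem g2_refl_tab_fast :
    (fastG2.reflWord [1] 7 = 8 ∧ fastG2.reflWord [1] 8 = 7 ∧ fastG2.reflWord [1] 9 = 9 ∧
      fastG2.reflWord [1] 10 = 11 ∧ fastG2.reflWord [1] 11 = 10) ∧
    (fastG2.reflWord [0] 6 = 10 ∧ fastG2.reflWord [0] 8 = 9 ∧ fastG2.reflWord [0] 9 = 8 ∧
      fastG2.reflWord [0] 10 = 6 ∧ fastG2.reflWord [0] 11 = 11) ∧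
    (fastG2.pairing 6 11 = 1 ∧ fastG2.pairing 7 9 = 1) := by decide +kernel

theorem g2_refl_tab :
    ((tabOf chevG2).reflWord [1] 7 = 8 ∧ (tabOf chevG2).reflWord [1] 8 = 7 ∧
      (tabOf chevG2).reflWord [1] 9 = 9 ∧
      (tabOf chevG2).reflWord [1] 10 = 11 ∧ (tabOf chevG2).reflWord [1] 11 = 10) ∧
    ((tabOf chevG2).reflWord [0] 6 = 10 ∧ (tabOf chevG2).reflWord [0] 8 = 9 ∧
      (tabOf chevG2).reflWord [0] 9 = 8 ∧
      (tabOf chevG2).reflWord [0] 10 = 6 ∧ (tabOf chevG2).reflWord [0] 11 = 11) ∧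
    ((tabOf chevG2).pairing 6 11 = 1 ∧ (tabOf chevG2).pairing 7 9 = 1) :=
  tab_G2 ▸ g2_refl_tab_fast

theorem g2_w0_lt : ∀ i ∈ [0], i < chevG2.rank := by decide
theorem g2_w1_lt : ∀ i ∈ [1], i < chevG2.rank := by decide

/-- Conjugation of a single root element by a fundamental reflection. -/
theorem conjG_refl_one {w : List ℕ} (hw : ∀ i ∈ w, i < chevG2.rank) (s r : Fin 12)
    (h : (tabOf chevG2).reflWord w s.val = r.val) :
    ∃ k : F, k ≠ 0 ∧ ∀ a : F, ConjG (xg s a) (xg r (k * a)) := by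
  obtain ⟨k, hk, e⟩ := conj_xg (F := F) hw s r h
  exact ⟨k, hk, fun a => ⟨_, nWordGL_mem_group w, e a⟩⟩

/-- Conjugation of a product of two root elements by a fundamental reflection. -/
theorem conjG_refl_two {w : List ℕ} (hw : ∀ i ∈ w, i < chevG2.rank) (s r s' r' : Fin 12)
    (h : (tabOf chevG2).reflWord w s.val = r.val) (h' : (tabOf chevG2).reflWord w s'.val = r'.val) :
    ∃ k k' : F, k ≠ 0 ∧ k' ≠ 0 ∧
      ∀ a a' : F, ConjG (xg s a * xg s' a') (xg r (k * a) * xg r' (k' * a')) := by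
  obtain ⟨k, hk, e⟩ := conj_xg (F := F) hw s r h
  obtain ⟨k', hk', e'⟩ := conj_xg (F := F) hw s' r' h'
  refine ⟨k, k', hk, hk', fun a a' => ⟨_, nWordGL_mem_group w, ?_⟩⟩
  rw [← e a, ← e' a']
  group

/-- Conjugation of a product of three root elements by a fundamental reflection. -/
theorem conjG_refl_three {w : List ℕ} (hw : ∀ i ∈ w, i < chevG2.rank) (s r s' r' s'' r'' : Fin 12)
    (h : (tabOf chevG2).reflWord w s.val = r.val) (h' : (tabOf chevG2).reflWord w s'.val = r'.val)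
    (h'' : (tabOf chevG2).reflWord w s''.val = r''.val) :
    ∃ k k' k'' : F, k ≠ 0 ∧ k' ≠ 0 ∧ k'' ≠ 0 ∧
      ∀ a a' a'' : F, ConjG (xg s a * xg s' a' * xg s'' a'')
        (xg r (k * a) * xg r' (k' * a') * xg r'' (k'' * a'')) := by
  obtain ⟨k, hk, e⟩ := conj_xg (F := F) hw s r h
  obtain ⟨k', hk', e'⟩ := conj_xg (F := F) hw s' r' h'
  obtain ⟨k'', hk'', e''⟩ := conj_xg (F := F) hw s'' r'' h''
  refine ⟨k, k', k'', hk, hk', hk'', fun a a' a'' => ⟨_, nWordGL_mem_group w, ?_⟩⟩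
  rw [← e a, ← e' a', ← e'' a'']
  group

/-- Conjugation of a root element by an element of the torus. -/
theorem conjG_torus (r s : Fin 12) (hp : (tabOf chevG2).pairing r.val s.val = 1) {c : F} (hc : c ≠ 0)
    (t : F) : ConjG (xg s t) (xg s (c * t)) := by
  have hG2 := good3_G2.toGood2
  refine ⟨hGL g2G1 (g2_lt r.val r.isLt) c hc,
    diagonalSubgroup_le_group g2G1 (hGL_mem_diagonal hG2 (g2_lt r.val r.isLt) c hc), ?_⟩
  rw [mul_inv_eq_iff_eq_mul]
  apply Units.ext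
  rw [Units.val_mul, Units.val_mul, hGL_coe, xg_coe, xg_coe,
    hMat_mul_x hG2 (g2_lt r.val r.isLt) hc (g2_lt s.val s.isLt) t, hp, zpow_one]

end Cfsg.Agent.Helper7.Chev
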