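import Mathlib
import Cfsg.Agent.Helper7.G2InvE

set_option autoImplicit false
set_option linter.unusedSectionVars false
set_option linter.unusedVariables false

/-!
The involutions of `U` in the Chevalley group of type `G₂` over a finite field of characteristic two are conjugate
to `x₁₁(1)` or to `x₉(1)`.
-/

namespace Cfsg.Agent.Helper7.Chev

open Cfsg Cfsg.Lie Matrix
open scoped Pointwise

variable {F : Type*} [Field F]

/-- Conjugate to one of the two standard involutions. -/
def IsStd (g : GL chevG2.Idx F) : Prop := ConjG g (xg 11 1) ∨ ConjG g (xg 9 1)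

theorem IsStd.of_conj {g g' : GL chevG2.Idx F} (h : ConjG g g') (h' : IsStd g') : IsStd g := by
  rcases h' with h' | h'
  · exact Or.inl (h.trans h')
  · exact Or.inr (h.trans h')

theorem std11 {f : F} (hf : f ≠ 0) : IsStd (xg 11 f) := by
  left
  have := conjG_torus (F := F) 6 11 g2_refl_tab.2.2.1 (inv_ne_zero hf) f
  rwa [inv_mul_cancel₀ hf] at this

theorem std9 {d : F} (hd : d ≠ 0) : IsStd (xg 9 d) := by
  right
  have := conjG_torus (F := F) 7 9 g2_refl_tab.2.2.2 (inv_ne_zero hd) d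
  rwa [inv_mul_cancel₀ hd] at this

theorem std10 {e : F} (he : e ≠ 0) : IsStd (xg 10 e) := by
  obtain ⟨k, hk, h⟩ := conjG_refl_one (F := F) g2_w1_lt 10 11 g2_refl_tab.1.2.2.2.1
  exact IsStd.of_conj (h e) (std11 (mul_ne_zero hk he))

theorem std6 {a : F} (ha : a ≠ 0) : IsStd (xg 6 a) := by
  obtain ⟨k, hk, h⟩ := conjG_refl_one (F := F) g2_w0_lt 6 10 g2_refl_tab.2.1.1
  exact IsStd.of_conj (h a) (std10 (mul_ne_zero hk ha))

theorem std8 {c : F} (hc : c ≠ 0) : IsStd (xg 8 c) := by
  obtain ⟨k, hk, h⟩ := conjG_refl_one (F := F) g2_w0_lt 8 9 g2_refl_tab.2.1.2.1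
  exact IsStd.of_conj (h c) (std9 (mul_ne_zero hk hc))

theorem std7 {b : F} (hb : b ≠ 0) : IsStd (xg 7 b) := by
  obtain ⟨k, hk, h⟩ := conjG_refl_one (F := F) g2_w1_lt 7 8 g2_refl_tab.1.1
  exact IsStd.of_conj (h b) (std8 (mul_ne_zero hk hb))

section char2

variable [CharP F 2]

theorem add_self_F (x : F) : x + x = 0 := by
  have h2 := two_eq_zero_F (F := F)
  linear_combination x * h2

variable [Finite F]

theorem exists_sq_F (x : F) : ∃ s : F, s ^ 2 = x := by
  have : ringChar F = 2 := (ringChar.eq F 2)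
  obtain ⟨s, hs⟩ := FiniteField.isSquare_of_char_two this x
  exact ⟨s, by rw [hs, sq]⟩

/-- Case A, final steps. -/
theorem stdA' {b : F} (hb : b ≠ 0) (e f : F) : IsStd (ug 0 b 0 0 e f) := by
  -- kill `e`
  have h1 := conjG_xg 9 (e / b) (ug 0 b 0 0 e f)
  rw [cj9] at h1
  have e1 : ug 0 b 0 0 (e + b * (e / b)) (f + 0 * (e / b)) = ug 0 b 0 0 0 f := by
    have : b * (e / b) = e := by field_simp
    rw [this, add_self_F, zero_mul, add_zero]
  rw [e1] at h1
  refine IsStd.of_conj h1 ?_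
  -- kill `f`
  obtain ⟨s, hs⟩ := exists_sq_F (f / b)
  have h2 := conjG_xg 8 s (ug 0 b 0 0 0 f)
  rw [cj8] at h2
  have e2 : ug 0 b 0 0 (0 + b ^ 2 * s) (f + 0 * s + b * s ^ 2) = ug 0 b 0 0 (b ^ 2 * s) 0 := by
    have : b * s ^ 2 = f := by rw [hs]; field_simp
    rw [this, zero_mul, add_zero, add_self_F, zero_add]
  rw [e2] at h2
  refine IsStd.of_conj h2 ?_
  have h3 := conjG_xg 9 (b * s) (ug 0 b 0 0 (b ^ 2 * s) 0)
  rw [cj9] at h3
  have e3 : ug 0 b 0 0 (b ^ 2 * s + b * (b * s)) (0 + 0 * (b * s)) = xg 7 b := by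
    have : b ^ 2 * s + b * (b * s) = 0 := by
      have := add_self_F (b ^ 2 * s)
      linear_combination this
    rw [this, zero_mul, add_zero, xg7_eq]
  rw [e3] at h3
  exact IsStd.of_conj h3 (std7 hb)

/-- Case A. -/
theorem stdA {b : F} (hb : b ≠ 0) (c e f : F) : IsStd (ug 0 b c (b * c) e f) := by
  have h1 := conjG_xg 6 (c / b) (ug 0 b c (b * c) e f)
  rw [cj6] at h1
  have hbs : b * (c / b) = c := by field_simp
  have e1 : ug 0 b (c + b * (c / b)) (b * c + b ^ 2 * (c / b)) (e + b ^ 3 * (c / b))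
      (f + e * (c / b) + b ^ 2 * c * (c / b)) = ug 0 b 0 0 (e + b ^ 3 * (c / b))
      (f + e * (c / b) + b ^ 2 * c * (c / b)) := by
    have i1 : c + b * (c / b) = 0 := by rw [hbs, add_self_F]
    have i2 : b * c + b ^ 2 * (c / b) = 0 := by
      have : b ^ 2 * (c / b) = b * c := by rw [sq, mul_assoc, hbs]
      rw [this, add_self_F]
    rw [i1, i2]
  rw [e1] at h1
  exact IsStd.of_conj h1 (stdA' hb _ _)

/-- Case B1. -/
theorem stdB1 {a : F} (ha : a ≠ 0) (c d e f : F) (h : a * e + c * d = 0) :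
    IsStd (ug a 0 c d e f) := by
  have h2 := two_eq_zero_F (F := F)
  set s := c / a with hs
  have has : a * s = c := by rw [hs]; field_simp
  have h1 := conjG_xg 7 s (ug a 0 c d e f)
  rw [cj7] at h1
  have he : e + d * s = 0 := by
    have : a * (e + d * s) = 0 := by
      linear_combination h + d * has
    rcases mul_eq_zero.mp this with h' | h'
    · exact absurd h' ha
    · exact h'
  have e1 : ug a 0 (c + a * s) (d + a * s ^ 2)
      (e + d * s + c * s ^ 2 + a * 0 * s ^ 2 + a * 0 ^ 2 * s + a * s ^ 3)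
      (f + c ^ 2 * s + a * c * s ^ 2 + a ^ 2 * 0 * s ^ 2 + a ^ 2 * s ^ 3) =
      ug a 0 0 (d + a * s ^ 2) 0 (f + c ^ 2 * s + a * c * s ^ 2 + a ^ 2 * s ^ 3) := by
    have i1 : c + a * s = 0 := by rw [has, add_self_F]
    have i2 : e + d * s + c * s ^ 2 + a * 0 * s ^ 2 + a * 0 ^ 2 * s + a * s ^ 3 = 0 := by
      have := add_self_F (c * s ^ 2)
      linear_combination he + this + s ^ 2 * has
    rw [i1, i2]
    congr 1
    ring
  rw [e1] at h1
  refine IsStd.of_conj h1 ?_
  set d' := d + a * s ^ 2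
  set f' := f + c ^ 2 * s + a * c * s ^ 2 + a ^ 2 * s ^ 3
  have h3 := conjG_xg 10 (f' / a) (ug a 0 0 d' 0 f')
  rw [cj10] at h3
  have e3 : ug a 0 0 d' 0 (f' + a * (f' / a)) = xg 6 a * xg 9 d' := by
    have : a * (f' / a) = f' := by field_simp
    rw [this, add_self_F]
    unfold ug u7 u8 u9 u10
    simp only [xg_zero, mul_one, one_mul]
  rw [e3] at h3
  refine IsStd.of_conj h3 ?_
  by_cases hd : d' = 0
  · rw [hd, xg_zero, mul_one]
    exact std6 ha
  · obtain ⟨k, k', hk, hk', hc⟩ := conjG_refl_two (F := F) g2_w0_lt 6 10 9 8 g2_refl_tab.2.1.1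
      g2_refl_tab.2.1.2.2.1
    refine IsStd.of_conj (hc a d') ?_
    obtain ⟨m, m', hm, hm', hc'⟩ := conjG_refl_two (F := F) g2_w1_lt 10 11 8 7 g2_refl_tab.1.2.2.2.1
      g2_refl_tab.1.2.1
    refine IsStd.of_conj (hc' (k * a) (k' * d')) ?_
    have e4 : xg 11 (m * (k * a)) * xg 7 (m' * (k' * d')) =
        ug 0 (m' * (k' * d')) 0 0 0 (m * (k * a)) := by
      rw [← (c7_11 (m' * (k' * d')) (m * (k * a))).eq]
      unfold ug u7 u8 u9 u10
      simp only [xg_zero, mul_one, one_mul]
    rw [e4]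
    exact stdA' (mul_ne_zero hm' (mul_ne_zero hk' hd)) _ _

/-- Case B2. -/
theorem stdB2 (c d e f : F) (h : c * d = 0) (hne : ug 0 0 c d e f ≠ 1) :
    IsStd (ug 0 0 c d e f) := by
  by_cases hc : c = 0
  · subst hc
    by_cases hd : d = 0
    · subst hd
      by_cases he : e = 0
      · subst he
        have hf : f ≠ 0 := by
          rintro rfl
          exact hne ug_zero
        rw [← xg11_eq]
        exact std11 hf
      · have h1 := conjG_xg 6 (f / e) (ug 0 0 0 0 e f)
        rw [cj6] at h1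
        have e1 : ug 0 0 (0 + 0 * (f / e)) (0 + 0 ^ 2 * (f / e)) (e + 0 ^ 3 * (f / e))
            (f + e * (f / e) + 0 ^ 2 * 0 * (f / e)) = xg 10 e := by
          have : e * (f / e) = f := by field_simp
          rw [this, add_self_F, xg10_eq]
          congr 1 <;> ring
        rw [e1] at h1
        exact IsStd.of_conj h1 (std10 he)
    · have h1 := conjG_xg 7 (e / d) (ug 0 0 0 d e f)
      rw [cj7] at h1
      have e1 : ug 0 0 (0 + 0 * (e / d)) (d + 0 * (e / d) ^ 2)
          (e + d * (e / d) + 0 * (e / d) ^ 2 + 0 * 0 * (e / d) ^ 2 + 0 * 0 ^ 2 * (e / d) +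
            0 * (e / d) ^ 3)
          (f + 0 ^ 2 * (e / d) + 0 * 0 * (e / d) ^ 2 + 0 ^ 2 * 0 * (e / d) ^ 2 +
            0 ^ 2 * (e / d) ^ 3) = ug 0 0 0 d 0 f := by
        have : d * (e / d) = e := by field_simp
        rw [this, add_self_F]
        congr 1 <;> ring
      rw [e1] at h1
      refine IsStd.of_conj h1 ?_
      have h3 := conjG_xg 8 (f / d) (ug 0 0 0 d 0 f)
      rw [cj8] at h3
      have e3 : ug 0 0 0 d (0 + 0 ^ 2 * (f / d)) (f + d * (f / d) + 0 * (f / d) ^ 2) = xg 9 d := by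
        have : d * (f / d) = f := by field_simp
        rw [this, add_self_F, xg9_eq]
        congr 1 <;> ring
      rw [e3] at h3
      exact IsStd.of_conj h3 (std9 hd)
  · have hd : d = 0 := by
      rcases mul_eq_zero.mp h with h' | h'
      · exact absurd h' hc
      · exact h'
    subst hd
    have e0 : ug 0 0 c 0 e f = xg 8 c * xg 10 e * xg 11 f := by
      unfold ug u7 u8 u9 u10
      simp only [xg_zero, mul_one, one_mul, mul_assoc]
    rw [e0]
    obtain ⟨k, k', k'', hk, hk', hk'', hcj⟩ := conjG_refl_three (F := F) g2_w1_lt 8 7 10 11 11 10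
      g2_refl_tab.1.2.1 g2_refl_tab.1.2.2.2.1 g2_refl_tab.1.2.2.2.2
    refine IsStd.of_conj (hcj c e f) ?_
    have e4 : xg 7 (k * c) * xg 11 (k' * e) * xg 10 (k'' * f) =
        ug 0 (k * c) 0 0 (k'' * f) (k' * e) := by
      rw [mul_assoc, ← (c10_11 (k'' * f) (k' * e)).eq]
      unfold ug u7 u8 u9 u10
      simp only [xg_zero, mul_one, one_mul]
    rw [e4]
    exact stdA' (mul_ne_zero hk hc) _ _

/-- Every involution of `U` is conjugate to `x₁₁(1)` or `x₉(1)`. -/
theorem std_of_invol {a b c d e f : F} (h1 : ug a b c d e f * ug a b c d e f = 1)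
    (hne : ug a b c d e f ≠ 1) : IsStd (ug a b c d e f) := by
  rw [ug_sq, ← ug_zero] at h1
  obtain ⟨-, -, hab, -, h3, h4⟩ := ug_inj h1
  by_cases hb : b = 0
  · subst hb
    have h4' : a * e + c * d = 0 := by linear_combination h4
    by_cases ha : a = 0
    · subst ha
      exact stdB2 c d e f (by linear_combination h4') hne
    · exact stdB1 ha c d e f h4'
  · have ha : a = 0 := by
      rcases mul_eq_zero.mp hab with h' | h'
      · exact h'
      · exact absurd h' hb
    subst ha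
    have hd : d = b * c := by
      have : b * (d + b * c) = 0 := by linear_combination h3
      rcases mul_eq_zero.mp this with h' | h'
      · exact absurd h' hb
      · have := add_self_F (b * c)
        linear_combination h' - this
    subst hd
    exact stdA hb c e f

end char2

end Cfsg.Agent.Helper7.Chev
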