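import Mathlib
import Cfsg.Agent.Helper7.G2InvF
import Cfsg.Agent.Helper7.ChevSylow

set_option autoImplicit false
set_option linter.unusedSectionVars false
set_option linter.unusedVariables false

/-!
The two classes of involutions of the Chevalley group of type `G₂` over a finite field of characteristic two.
-/

namespace Cfsg.Agent.Helper7.Chev

open Cfsg Cfsg.Lie Matrix
open scoped Pointwise

variable {F : Type*} [Field F]

theorem vg_eq_ug (d e f : F) : vg d e f = ug 0 0 0 d e f := by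
  unfold ug u7 u8
  rw [u9_eq_vg]
  simp only [xg_zero, one_mul]

/-- A root element of a root other than `2a+b` is not an element `x₉(c₀) x₁₀(c₁) x₁₁(c₂)` with `c₀ ≠ 0`. -/
theorem xg_ne_vg (r : Fin 12) (hr9 : r.val ≠ 9) {k c₀ c₁ c₂ : F} (hk : k ≠ 0) (hc₀ : c₀ ≠ 0) :
    xg r k ≠ vg c₀ c₁ c₂ := by
  intro h
  by_cases hlt : r.val < 6
  · have hU : xg r k ∈ chevG2.posUnipotent F := by
      rw [h]
      exact Uge_le_U 9 (by decide) (vg_mem_Uge9 _ _ _)
    have h1 := xg_neg_eq_one r hlt hU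
    exact xGL_ne_one good3_G2.toGood2 T0_G2 T8_G2 (g2_lt r.val r.isLt) hk h1
  · rw [vg_eq_ug] at h
    rcases r with ⟨m, hm⟩
    simp only at hr9 hlt
    interval_cases m
    all_goals first
      | omega
      | (have h' : ug k 0 0 0 0 0 = ug 0 0 0 c₀ c₁ c₂ := by rw [← xg6_eq]; exact h
         exact hk (ug_inj h').1)
      | (have h' : ug 0 k 0 0 0 0 = ug 0 0 0 c₀ c₁ c₂ := by rw [← xg7_eq]; exact h
         exact hk (ug_inj h').2.1)
      | (have h' : ug 0 0 k 0 0 0 = ug 0 0 0 c₀ c₁ c₂ := by rw [← xg8_eq]; exact h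
         exact hk (ug_inj h').2.2.1)
      | (have h' : ug 0 0 0 0 k 0 = ug 0 0 0 c₀ c₁ c₂ := by rw [← xg10_eq]; exact h
         exact hc₀ (ug_inj h').2.2.2.1.symm)
      | (have h' : ug 0 0 0 0 0 k = ug 0 0 0 c₀ c₁ c₂ := by rw [← xg11_eq]; exact h
         exact hc₀ (ug_inj h').2.2.2.1.symm)

set_option maxRecDepth 1000000 in
theorem g2_w11_fast : ∀ w ∈ wL_G2, fastG2.reflWord w 11 ≠ 9 ∧ fastG2.reflWord w 11 < 12 := by
  decide +kernel

theorem g2_w11 : ∀ w ∈ wL_G2, (tabOf chevG2).reflWord w 11 ≠ 9 ∧ (tabOf chevG2).reflWord w 11 < 12 :=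
  tab_G2 ▸ g2_w11_fast

theorem B_le_normalizer_Uge10 :
    chevG2.borelSubgroup F ≤ Subgroup.normalizer (Uge chevG2 F 10 : Set (GL chevG2.Idx F)) :=
  sup_le U_le_normalizer_Uge10 (H_le_normalizer_Uge 10)

/-- The highest root elements are central in `U`. -/
theorem xg11_central {u : GL chevG2.Idx F} (hu : u ∈ chevG2.posUnipotent F) (s : F) :
    Commute u (xg 11 s) := by
  obtain ⟨a, b, c, d, e, f, rfl⟩ := exists_ug hu
  unfold ug u7 u8 u9 u10
  exact (c6_11 a s).mul_left ((c7_11 b s).mul_left ((c8_11 c s).mul_left ((c9_11 d s).mul_left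
    ((c10_11 e s).mul_left (xg_self_comm 11 f s)))))

/-- The long root element `x₁₁(1)` and the short root element `x₉(1)` are not conjugate. -/
theorem not_conjG_11_9 : ¬ ConjG (xg 11 (1 : F)) (xg 9 1) := by
  rintro ⟨g, hgG, hconj⟩
  have hG2 := good3_G2.toGood2
  obtain ⟨w, hwW, b, hb, u', hu', e⟩ :=
    exists_normal_form hG2 T0_G2 T3_G2 T4_G2 T5_G2 T6_G2 T8_G2 T9_G2 wList_G2 hgG
  have hw := (wList_G2.ok w hwW).1
  have hu'U : u' ∈ chevG2.posUnipotent F := by
    have : Subgroup.closure (minusGen chevG2 F w) ≤ chevG2.posUnipotent F := by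
      apply Subgroup.closure_mono
      rintro x ⟨r, t, hr, _, hx⟩
      exact ⟨r, t, hr, hx⟩
    exact this hu'
  set T : GL chevG2.Idx F := xg 9 1 with hT
  set z : GL chevG2.Idx F := xg 11 1 with hz
  set n : GL chevG2.Idx F := nWordGL hG2 w with hn
  have hcz : u' * z = z * u' := (xg11_central hu'U 1).eq
  have hmain : n * z * n⁻¹ = b⁻¹ * T * b := by
    rw [← hconj, e]
    calc n * z * n⁻¹ = n * (z * u') * u'⁻¹ * n⁻¹ := by group
      _ = n * (u' * z) * u'⁻¹ * n⁻¹ := by rw [hcz]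
      _ = _ := by group
  have hTU9 : T ∈ Uge chevG2 F 9 := xg_mem_Uge 9 (by decide) 1
  have hv9 : b⁻¹ * T * b ∈ Uge chevG2 F 9 := by
    have := (Subgroup.mem_set_normalizer_iff.mp (B_le_normalizer_Uge9 (inv_mem hb)) _).mp hTU9
    rwa [inv_inv] at this
  obtain ⟨c₀, c₁, c₂, hy⟩ := mem_Uge9' hv9
  have hc₀ : c₀ ≠ 0 := by
    rintro rfl
    have h10 : b⁻¹ * T * b ∈ Uge chevG2 F 10 := by
      rw [hy]
      unfold vg
      rw [xg_zero, one_mul]
      exact mul_mem (xg_mem_Uge 10 (by decide) _) (xg_mem_Uge 11 (by decide) _)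
    have : T ∈ Uge chevG2 F 10 := by
      have := (Subgroup.mem_set_normalizer_iff.mp (B_le_normalizer_Uge10 (inv_mem hb)) T).mpr
      rw [inv_inv] at this
      exact this h10
    exact one_ne_zero (xg_eq_zero_of_mem_Uge 9 (by decide) this)
  obtain ⟨h9, hlt⟩ := g2_w11 w hwW
  obtain ⟨k, hk, hk'⟩ := conj_xg (F := F) hw 11 ⟨_, hlt⟩ rfl
  have := hk' 1
  rw [← hz, ← hn, hmain, hy, mul_one] at this
  exact xg_ne_vg ⟨_, hlt⟩ h9 hk hc₀ this.symm

section sylow

variable [Fintype F] [CharP F 2]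

/-- Every element of order two is conjugate to an element of `U`. -/
theorem exists_conj_mem_U {g : GL chevG2.Idx F} (hg : g ∈ chevG2.group F) (ho : orderOf g = 2) :
    ∃ h ∈ chevG2.group F, h * g * h⁻¹ ∈ chevG2.posUnipotent F := by
  haveI : Fact (Nat.Prime 2) := ⟨Nat.prime_two⟩
  obtain ⟨P, hP⟩ := chev_S2326 (F := F) 2 chevG2 (by simp)
  let g' : ↥(chevG2.group F) := ⟨g, hg⟩
  have ho' : orderOf g' = 2 := by
    rw [← ho]
    exact Subgroup.orderOf_mk g hg
  have hp : IsPGroup 2 (Subgroup.zpowers g') := by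
    apply IsPGroup.of_card (n := 1)
    rw [Nat.card_zpowers, ho', pow_one]
  obtain ⟨Q, hQ⟩ := hp.exists_le_sylow
  obtain ⟨h, hh⟩ := MulAction.exists_smul_eq ↥(chevG2.group F) Q P
  refine ⟨h.1, h.2, ?_⟩
  have hgQ : g' ∈ (Q : Subgroup ↥(chevG2.group F)) := hQ (Subgroup.mem_zpowers g')
  have : h * g' * h⁻¹ ∈ (P : Subgroup ↥(chevG2.group F)) := by
    rw [← hh, Sylow.coe_subgroup_smul]
    have := Subgroup.smul_mem_pointwise_smul g' (MulAut.conj h) _ hgQ
    rwa [MulAut.smul_def, MulAut.conj_apply] at this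
  rw [hP, Subgroup.mem_subgroupOf] at this
  simpa using this

/-- Every element of order two of `G₂(F)` is conjugate to `x₁₁(1)` or `x₉(1)`. -/
theorem std_of_order_two {g : GL chevG2.Idx F} (hg : g ∈ chevG2.group F) (ho : orderOf g = 2) :
    IsStd g := by
  obtain ⟨h, hh, hU⟩ := exists_conj_mem_U hg ho
  obtain ⟨a, b, c, d, e, f, hu⟩ := exists_ug hU
  have hc : ConjG g (ug a b c d e f) := ⟨h, hh, hu⟩
  refine IsStd.of_conj hc ?_
  have hg2 : g * g = 1 := by
    have := pow_orderOf_eq_one g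
    rwa [ho, sq] at this
  have hg1 : g ≠ 1 := by
    rintro rfl
    rw [orderOf_one] at ho
    omega
  apply std_of_invol
  · rw [← hu]
    calc h * g * h⁻¹ * (h * g * h⁻¹) = h * (g * g) * h⁻¹ := by group
      _ = 1 := by rw [hg2]; group
  · rw [← hu]
    intro h1
    apply hg1
    calc g = h⁻¹ * (h * g * h⁻¹) * h := by group
      _ = 1 := by rw [h1]; group

theorem xg_order_two (r : Fin 12) : orderOf (xg r (1 : F)) = 2 := by
  apply orderOf_eq_prime
  · rw [sq, xg_sq2]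
  · exact xGL_ne_one good3_G2.toGood2 T0_G2 T8_G2 (g2_lt r.val r.isLt) one_ne_zero

end sylow

end Cfsg.Agent.Helper7.Chev
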