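import Mathlib

set_option autoImplicit false

/-!
The Sylow `p`-subgroups of `GL_2(q)` in the defining characteristic.
-/

namespace Cfsg.Agent.Helper7.GL2

open Matrix

variable {F : Type*} [Field F]

theorem coe_mul_apply (g h : GL (Fin 2) F) (i j : Fin 2) :
    ((g * h : GL (Fin 2) F) : Matrix (Fin 2) (Fin 2) F) i j =
      (g : Matrix (Fin 2) (Fin 2) F) i 0 * (h : Matrix (Fin 2) (Fin 2) F) 0 j +
      (g : Matrix (Fin 2) (Fin 2) F) i 1 * (h : Matrix (Fin 2) (Fin 2) F) 1 j := by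
  rw [Units.val_mul, Matrix.mul_apply, Fin.sum_univ_two]

theorem det_eq (g : GL (Fin 2) F) :
    (g : Matrix (Fin 2) (Fin 2) F) 0 0 * (g : Matrix (Fin 2) (Fin 2) F) 1 1 -
      (g : Matrix (Fin 2) (Fin 2) F) 0 1 * (g : Matrix (Fin 2) (Fin 2) F) 1 0 ≠ 0 := by
  rw [← Matrix.det_fin_two]
  exact (Matrix.GeneralLinearGroup.det g).ne_zero

theorem ext' {g h : GL (Fin 2) F}
    (h00 : (g : Matrix (Fin 2) (Fin 2) F) 0 0 = (h : Matrix (Fin 2) (Fin 2) F) 0 0)
    (h01 : (g : Matrix (Fin 2) (Fin 2) F) 0 1 = (h : Matrix (Fin 2) (Fin 2) F) 0 1)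
    (h10 : (g : Matrix (Fin 2) (Fin 2) F) 1 0 = (h : Matrix (Fin 2) (Fin 2) F) 1 0)
    (h11 : (g : Matrix (Fin 2) (Fin 2) F) 1 1 = (h : Matrix (Fin 2) (Fin 2) F) 1 1) : g = h := by
  apply Units.ext
  ext i j
  fin_cases i <;> fin_cases j <;> assumption

/-- The Borel subgroup: upper triangular matrices. -/
def B (F : Type*) [Field F] : Subgroup (GL (Fin 2) F) where
  carrier := {g | (g : Matrix (Fin 2) (Fin 2) F) 1 0 = 0}
  mul_mem' := by
    intro g h hg hh
    rw [Set.mem_ofPred_eq] at hg hh ⊢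
    rw [coe_mul_apply, hg, hh, zero_mul, mul_zero, add_zero]
  one_mem' := by
    rw [Set.mem_ofPred_eq, Units.val_one, Matrix.one_apply_ne (by decide)]
  inv_mem' := by
    intro g hg
    rw [Set.mem_ofPred_eq] at hg ⊢
    have h1 : ((g * g⁻¹ : GL (Fin 2) F) : Matrix (Fin 2) (Fin 2) F) 1 0 = 0 := by
      rw [mul_inv_cancel, Units.val_one, Matrix.one_apply_ne (by decide)]
    rw [coe_mul_apply, hg, zero_mul, zero_add] at h1
    have hd := det_eq g
    rw [hg, mul_zero, sub_zero] at hd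
    have h11 : (g : Matrix (Fin 2) (Fin 2) F) 1 1 ≠ 0 := right_ne_zero_of_mul hd
    exact (mul_eq_zero.mp h1).resolve_left h11

theorem mem_B {g : GL (Fin 2) F} : g ∈ B F ↔ (g : Matrix (Fin 2) (Fin 2) F) 1 0 = 0 := Iff.rfl

/-- The upper unitriangular subgroup. -/
def U (F : Type*) [Field F] : Subgroup (GL (Fin 2) F) where
  carrier := {g | (g : Matrix (Fin 2) (Fin 2) F) 0 0 = 1 ∧ (g : Matrix (Fin 2) (Fin 2) F) 1 0 = 0 ∧
    (g : Matrix (Fin 2) (Fin 2) F) 1 1 = 1}
  mul_mem' := by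
    rintro g h ⟨g00, g10, g11⟩ ⟨h00, h10, h11⟩
    refine ⟨?_, ?_, ?_⟩
    · rw [coe_mul_apply, g00, h00, h10, mul_zero, add_zero, one_mul]
    · rw [coe_mul_apply, g10, h10, zero_mul, mul_zero, add_zero]
    · rw [coe_mul_apply, g10, g11, h11, zero_mul, zero_add, one_mul]
  one_mem' := by
    refine ⟨?_, ?_, ?_⟩
    · rw [Units.val_one, Matrix.one_apply_eq]
    · rw [Units.val_one, Matrix.one_apply_ne (by decide)]
    · rw [Units.val_one, Matrix.one_apply_eq]
  inv_mem' := by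
    rintro g ⟨g00, g10, g11⟩
    have h10 : ((g * g⁻¹ : GL (Fin 2) F) : Matrix (Fin 2) (Fin 2) F) 1 0 = 0 := by
      rw [mul_inv_cancel, Units.val_one, Matrix.one_apply_ne (by decide)]
    have h11 : ((g * g⁻¹ : GL (Fin 2) F) : Matrix (Fin 2) (Fin 2) F) 1 1 = 1 := by
      rw [mul_inv_cancel, Units.val_one, Matrix.one_apply_eq]
    have h00 : ((g * g⁻¹ : GL (Fin 2) F) : Matrix (Fin 2) (Fin 2) F) 0 0 = 1 := by
      rw [mul_inv_cancel, Units.val_one, Matrix.one_apply_eq]
    rw [coe_mul_apply, g10, g11, zero_mul, zero_add, one_mul] at h10 h11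
    rw [coe_mul_apply, g00, h10, mul_zero, add_zero, one_mul] at h00
    exact ⟨h00, h10, h11⟩

theorem mem_U {g : GL (Fin 2) F} : g ∈ U F ↔ (g : Matrix (Fin 2) (Fin 2) F) 0 0 = 1 ∧
    (g : Matrix (Fin 2) (Fin 2) F) 1 0 = 0 ∧ (g : Matrix (Fin 2) (Fin 2) F) 1 1 = 1 := Iff.rfl

theorem U_le_B : U F ≤ B F := fun _ hg => hg.2.1

/-- The matrix `[[a, b], [0, d]]` as an element of `GL_2`. -/
def tri (a d : Fˣ) (b : F) : GL (Fin 2) F :=
  Matrix.GeneralLinearGroup.mkOfDetNeZero !![(a : F), b; 0, (d : F)] (by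
    rw [Matrix.det_fin_two_of, mul_zero, sub_zero]
    exact mul_ne_zero a.ne_zero d.ne_zero)

theorem tri_apply (a d : Fˣ) (b : F) :
    (tri a d b : Matrix (Fin 2) (Fin 2) F) = !![(a : F), b; 0, (d : F)] := rfl

theorem tri_00 (a d : Fˣ) (b : F) : (tri a d b : Matrix (Fin 2) (Fin 2) F) 0 0 = a := rfl
theorem tri_01 (a d : Fˣ) (b : F) : (tri a d b : Matrix (Fin 2) (Fin 2) F) 0 1 = b := rfl
theorem tri_10 (a d : Fˣ) (b : F) : (tri a d b : Matrix (Fin 2) (Fin 2) F) 1 0 = 0 := rfl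
theorem tri_11 (a d : Fˣ) (b : F) : (tri a d b : Matrix (Fin 2) (Fin 2) F) 1 1 = d := rfl

theorem tri_mem_B (a d : Fˣ) (b : F) : tri a d b ∈ B F := tri_10 a d b

theorem tri_mem_U (b : F) : tri 1 1 b ∈ U F := ⟨by rw [tri_00]; rfl, tri_10 _ _ _, by rw [tri_11]; rfl⟩

theorem diag_ne_zero {g : GL (Fin 2) F} (hg : g ∈ B F) :
    (g : Matrix (Fin 2) (Fin 2) F) 0 0 ≠ 0 ∧ (g : Matrix (Fin 2) (Fin 2) F) 1 1 ≠ 0 := by
  have hd := det_eq g
  rw [mem_B.mp hg, mul_zero, sub_zero] at hd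
  exact ⟨left_ne_zero_of_mul hd, right_ne_zero_of_mul hd⟩

/-- `B` is in bijection with `Fˣ × Fˣ × F`. -/
noncomputable def equivB (F : Type*) [Field F] : B F ≃ Fˣ × Fˣ × F where
  toFun g := (Units.mk0 _ (diag_ne_zero g.2).1, Units.mk0 _ (diag_ne_zero g.2).2,
    (g.1 : Matrix (Fin 2) (Fin 2) F) 0 1)
  invFun t := ⟨tri t.1 t.2.1 t.2.2, tri_mem_B _ _ _⟩
  left_inv g := by
    apply Subtype.ext
    apply ext'
    · rfl
    · rfl
    · exact (mem_B.mp g.2).symm
    · rfl
  right_inv t := by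
    obtain ⟨a, d, b⟩ := t
    refine Prod.ext ?_ (Prod.ext ?_ ?_)
    · apply Units.ext; rfl
    · apply Units.ext; rfl
    · rfl

/-- `U` is in bijection with `F`. -/
noncomputable def equivU (F : Type*) [Field F] : U F ≃ F where
  toFun g := (g.1 : Matrix (Fin 2) (Fin 2) F) 0 1
  invFun b := ⟨tri 1 1 b, tri_mem_U b⟩
  left_inv g := by
    apply Subtype.ext
    apply ext'
    · exact (g.2.1).symm
    · rfl
    · exact (g.2.2.1).symm
    · exact (g.2.2.2).symm
  right_inv b := rfl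

/-- Conjugating `U` by an element of `B`. -/
theorem conj_mem_U {g u : GL (Fin 2) F} (hg : g ∈ B F) (hu : u ∈ U F) : g * u * g⁻¹ ∈ U F := by
  obtain ⟨u00, u10, u11⟩ := hu
  have hg10 := mem_B.mp hg
  obtain ⟨g00, g11⟩ := diag_ne_zero hg
  have hw : (g * u * g⁻¹) * g = g * u := by group
  have e00 := congrArg (fun x : GL (Fin 2) F => (x : Matrix (Fin 2) (Fin 2) F) 0 0) hw
  have e10 := congrArg (fun x : GL (Fin 2) F => (x : Matrix (Fin 2) (Fin 2) F) 1 0) hw
  have e11 := congrArg (fun x : GL (Fin 2) F => (x : Matrix (Fin 2) (Fin 2) F) 1 1) hw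
  beta_reduce at e00 e10 e11
  rw [coe_mul_apply _ g, coe_mul_apply g u] at e00 e10 e11
  rw [hg10, u00, u10, mul_zero, mul_zero, add_zero, add_zero, mul_one] at e00
  rw [hg10, u10, mul_zero, mul_zero, add_zero, zero_mul, add_zero] at e10
  have w10 : ((g * u * g⁻¹ : GL (Fin 2) F) : Matrix (Fin 2) (Fin 2) F) 1 0 = 0 :=
    (mul_eq_zero.mp e10).resolve_right g00
  rw [w10, zero_mul, zero_add, hg10, zero_mul, zero_add, u11, mul_one] at e11
  refine ⟨?_, w10, ?_⟩
  · exact mul_right_cancel₀ g00 (e00.trans (one_mul _).symm)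
  · exact mul_right_cancel₀ g11 (e11.trans (one_mul _).symm)

/-- If `k u' = u k` with `u, u' ∈ U` and `u' ≠ 1` then `k ∈ B`. -/
theorem mem_B_of_intertwine {k u u' : GL (Fin 2) F} (hu : u ∈ U F) (hu' : u' ∈ U F) (hne : u' ≠ 1)
    (h : k * u' = u * k) : k ∈ B F := by
  obtain ⟨u00, u10, u11⟩ := hu
  obtain ⟨u'00, u'10, u'11⟩ := hu'
  have hx : (u' : Matrix (Fin 2) (Fin 2) F) 0 1 ≠ 0 := by
    intro h0
    apply hne
    apply ext'
    · rw [u'00, Units.val_one, Matrix.one_apply_eq]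
    · rw [h0, Units.val_one, Matrix.one_apply_ne (by decide)]
    · rw [u'10, Units.val_one, Matrix.one_apply_ne (by decide)]
    · rw [u'11, Units.val_one, Matrix.one_apply_eq]
  have e11 := congrArg (fun x : GL (Fin 2) F => (x : Matrix (Fin 2) (Fin 2) F) 1 1) h
  beta_reduce at e11
  rw [coe_mul_apply, coe_mul_apply, u'11, u10, u11, zero_mul, zero_add, one_mul, mul_one,
    add_eq_right] at e11
  exact (mul_eq_zero.mp e11).resolve_right hx

theorem normalizer_U : Subgroup.normalizer ((U F : Subgroup (GL (Fin 2) F)) : Set (GL (Fin 2) F)) = B F := by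
  ext g
  rw [Subgroup.mem_normalizer_iff]
  constructor
  · intro h
    have h1 := (h (tri 1 1 1)).mp (tri_mem_U 1)
    have hne : (tri (1 : Fˣ) 1 (1 : F)) ≠ 1 := by
      intro h'
      have := congrArg (fun x : GL (Fin 2) F => (x : Matrix (Fin 2) (Fin 2) F) 0 1) h'
      beta_reduce at this
      rw [tri_01, Units.val_one, Matrix.one_apply_ne (by decide)] at this
      exact one_ne_zero this
    apply mem_B_of_intertwine h1 (tri_mem_U 1) hne
    group
  · intro hg u
    constructor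
    · intro hu
      exact conj_mem_U hg hu
    · intro hu
      have := conj_mem_U ((B F).inv_mem hg) hu
      have e : g⁻¹ * (g * u * g⁻¹) * g⁻¹⁻¹ = u := by group
      rwa [e] at this

/-- The centraliser of a non-trivial element of `U`. -/
theorem mem_centralizer_iff {u : GL (Fin 2) F} (hu : u ∈ U F) (hne : u ≠ 1) (g : GL (Fin 2) F) :
    g ∈ Subgroup.centralizer ({u} : Set (GL (Fin 2) F)) ↔
      (g : Matrix (Fin 2) (Fin 2) F) 1 0 = 0 ∧
        (g : Matrix (Fin 2) (Fin 2) F) 0 0 = (g : Matrix (Fin 2) (Fin 2) F) 1 1 := by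
  rw [Subgroup.mem_centralizer_iff]
  obtain ⟨u00, u10, u11⟩ := hu
  have hx : (u : Matrix (Fin 2) (Fin 2) F) 0 1 ≠ 0 := by
    intro h0
    apply hne
    apply ext'
    · rw [u00, Units.val_one, Matrix.one_apply_eq]
    · rw [h0, Units.val_one, Matrix.one_apply_ne (by decide)]
    · rw [u10, Units.val_one, Matrix.one_apply_ne (by decide)]
    · rw [u11, Units.val_one, Matrix.one_apply_eq]
  constructor
  · intro h
    have h' := h u (Set.mem_singleton u)
    have hg : g ∈ B F := mem_B_of_intertwine ⟨u00, u10, u11⟩ ⟨u00, u10, u11⟩ hne h'.symm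
    refine ⟨hg, ?_⟩
    have e01 := congrArg (fun x : GL (Fin 2) F => (x : Matrix (Fin 2) (Fin 2) F) 0 1) h'
    beta_reduce at e01
    rw [coe_mul_apply, coe_mul_apply, u00, u11, one_mul, mul_one] at e01
    have : (u : Matrix (Fin 2) (Fin 2) F) 0 1 * (g : Matrix (Fin 2) (Fin 2) F) 1 1 =
        (g : Matrix (Fin 2) (Fin 2) F) 0 0 * (u : Matrix (Fin 2) (Fin 2) F) 0 1 := by
      linear_combination e01
    rw [mul_comm] at this
    exact (mul_right_cancel₀ hx this).symm
  · rintro ⟨g10, g00⟩ v hv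
    rw [Set.mem_singleton_iff] at hv
    subst hv
    apply ext'
    · rw [coe_mul_apply, coe_mul_apply, u00, u10, g10]; ring
    · rw [coe_mul_apply, coe_mul_apply, u00, u11, g00]; ring
    · rw [coe_mul_apply, coe_mul_apply, u00, u10, u11, g10]; ring
    · rw [coe_mul_apply, coe_mul_apply, u10, u11, g10]; ring

/-- The centraliser of a non-trivial element of `U` is in bijection with `Fˣ × F`. -/
noncomputable def equivCentralizer {u : GL (Fin 2) F} (hu : u ∈ U F) (hne : u ≠ 1) :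
    Subgroup.centralizer ({u} : Set (GL (Fin 2) F)) ≃ Fˣ × F where
  toFun g := (Units.mk0 _ (diag_ne_zero (((mem_centralizer_iff hu hne g.1).mp g.2).1)).1,
    (g.1 : Matrix (Fin 2) (Fin 2) F) 0 1)
  invFun t := ⟨tri t.1 t.1 t.2, (mem_centralizer_iff hu hne _).mpr ⟨tri_10 _ _ _, rfl⟩⟩
  left_inv g := by
    apply Subtype.ext
    have h := (mem_centralizer_iff hu hne g.1).mp g.2
    apply ext'
    · rfl
    · rfl
    · exact h.1.symm
    · exact h.2
  right_inv t := by
    obtain ⟨a, b⟩ := t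
    refine Prod.ext ?_ rfl
    apply Units.ext; rfl


/-! ### Finite fields -/

section Finite

variable [Fintype F]

theorem card_U : Nat.card (U F) = Fintype.card F := by
  rw [Nat.card_congr (equivU F), Nat.card_eq_fintype_card]

theorem card_B : Nat.card (B F) = Fintype.card F * (Fintype.card F - 1) ^ 2 := by
  rw [Nat.card_congr (equivB F), Nat.card_prod, Nat.card_prod, Nat.card_units,
    Nat.card_eq_fintype_card]
  ring

theorem card_centralizer {u : GL (Fin 2) F} (hu : u ∈ U F) (hne : u ≠ 1) :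
    Nat.card (Subgroup.centralizer ({u} : Set (GL (Fin 2) F))) =
      Fintype.card F * (Fintype.card F - 1) := by
  rw [Nat.card_congr (equivCentralizer hu hne), Nat.card_prod, Nat.card_units,
    Nat.card_eq_fintype_card]
  ring

theorem card_GL2 : Nat.card (GL (Fin 2) F) =
    Fintype.card F * ((Fintype.card F - 1) * (Fintype.card F ^ 2 - 1)) := by
  rw [Matrix.card_GL_field, Fin.prod_univ_two]
  simp only [Fin.val_zero, Fin.val_one, pow_zero, pow_one]
  have h1 : 1 ≤ Fintype.card F := Fintype.card_pos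
  have h2 : Fintype.card F ^ 2 - Fintype.card F = Fintype.card F * (Fintype.card F - 1) := by
    rw [Nat.mul_sub, mul_one, sq]
  rw [h2]; ring

variable (p : ℕ) [Fact p.Prime] [CharP F p]

theorem exists_card_eq : ∃ k : ℕ, 1 ≤ k ∧ Fintype.card F = p ^ k := by
  obtain ⟨n, _, hn⟩ := FiniteField.card F p
  exact ⟨n, n.pos, hn⟩

theorem factorization_card_GL2 {k : ℕ} (hk : Fintype.card F = p ^ k) (hk1 : 1 ≤ k) :
    (Nat.card (GL (Fin 2) F)).factorization p = k := by
  have hp : p.Prime := Fact.out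
  have hq2 : 2 ≤ Fintype.card F := by
    rw [hk]
    calc 2 ≤ p := hp.two_le
      _ = p ^ 1 := (pow_one p).symm
      _ ≤ p ^ k := Nat.pow_le_pow_right hp.pos hk1
  have hpq : p ∣ Fintype.card F := by
    rw [hk]; exact dvd_pow_self p (by omega)
  have hnd1 : ¬ p ∣ (Fintype.card F - 1) := by
    intro h
    have : p ∣ Fintype.card F - (Fintype.card F - 1) := Nat.dvd_sub hpq h
    have e : Fintype.card F - (Fintype.card F - 1) = 1 := by omega
    rw [e] at this
    exact hp.one_lt.ne' (Nat.dvd_one.mp this)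
  have hnd2 : ¬ p ∣ (Fintype.card F ^ 2 - 1) := by
    intro h
    have hpq2 : p ∣ Fintype.card F ^ 2 := dvd_pow hpq (by norm_num)
    have h1 : 1 ≤ Fintype.card F ^ 2 := Nat.one_le_pow _ _ (by omega)
    have : p ∣ Fintype.card F ^ 2 - (Fintype.card F ^ 2 - 1) := Nat.dvd_sub hpq2 h
    have e : Fintype.card F ^ 2 - (Fintype.card F ^ 2 - 1) = 1 := by omega
    rw [e] at this
    exact hp.one_lt.ne' (Nat.dvd_one.mp this)
  have hnd : ¬ p ∣ (Fintype.card F - 1) * (Fintype.card F ^ 2 - 1) := by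
    intro h
    rcases (Nat.Prime.dvd_mul hp).mp h with h | h
    · exact hnd1 h
    · exact hnd2 h
  have hm0 : (Fintype.card F - 1) * (Fintype.card F ^ 2 - 1) ≠ 0 := by
    intro h0
    apply hnd
    rw [h0]; exact dvd_zero p
  rw [card_GL2, Nat.factorization_mul (by omega) hm0, Finsupp.add_apply,
    Nat.factorization_eq_zero_of_not_dvd hnd, add_zero, hk, Nat.Prime.factorization_pow hp,
    Finsupp.single_eq_same]

/-- `U` as a Sylow subgroup. -/
noncomputable def sylowU : Sylow p (GL (Fin 2) F) :=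
  Sylow.ofCard (U F) (by
    obtain ⟨k, hk1, hk⟩ := exists_card_eq (F := F) p
    rw [card_U, factorization_card_GL2 p hk hk1, hk])

theorem coe_sylowU : ((sylowU (F := F) p : Sylow p (GL (Fin 2) F)) : Subgroup (GL (Fin 2) F)) = U F :=
  Sylow.coe_ofCard _ _

/-- Every Sylow subgroup is a conjugate of `U`. -/
theorem exists_conj (P : Sylow p (GL (Fin 2) F)) :
    ∃ g : GL (Fin 2) F, ∀ x : GL (Fin 2) F, x ∈ P ↔ g⁻¹ * x * g ∈ U F := by
  obtain ⟨g, hg⟩ := MulAction.exists_smul_eq (GL (Fin 2) F) (sylowU (F := F) p) P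
  refine ⟨g, ?_⟩
  intro x
  rw [← hg]
  change x ∈ ((g • sylowU (F := F) p : Sylow p (GL (Fin 2) F)) : Subgroup (GL (Fin 2) F)) ↔ _
  rw [Sylow.smul_def, Sylow.pointwise_smul_def,
    Subgroup.mem_pointwise_smul_iff_inv_smul_mem, coe_sylowU, ← map_inv, MulAut.smul_def,
    MulAut.conj_apply, inv_inv]

theorem card_sylow : Nat.card (Sylow p (GL (Fin 2) F)) = Fintype.card F + 1 := by
  have h1 : Nat.card (Sylow p (GL (Fin 2) F)) = (Subgroup.normalizer
      (((sylowU (F := F) p : Sylow p (GL (Fin 2) F)) : Subgroup (GL (Fin 2) F)) :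
        Set (GL (Fin 2) F))).index := Sylow.card_eq_index_normalizer (sylowU (F := F) p)
  rw [coe_sylowU, normalizer_U] at h1
  have h2 := Subgroup.card_mul_index (B F)
  rw [card_B, card_GL2, ← h1] at h2
  have hq : 2 ≤ Fintype.card F := by
    obtain ⟨k, hk1, hk⟩ := exists_card_eq (F := F) p
    have hp : p.Prime := Fact.out
    rw [hk]
    calc 2 ≤ p := hp.two_le
      _ = p ^ 1 := (pow_one p).symm
      _ ≤ p ^ k := Nat.pow_le_pow_right hp.pos hk1
  have h3 : Fintype.card F ^ 2 - 1 = (Fintype.card F - 1) * (Fintype.card F + 1) := by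
    obtain ⟨r, hr⟩ : ∃ r, Fintype.card F = r + 1 := ⟨Fintype.card F - 1, by omega⟩
    rw [hr]
    have : (r + 1) ^ 2 - 1 = r * (r + 2) := by
      have : (r + 1) ^ 2 = r * (r + 2) + 1 := by ring
      omega
    rw [this, Nat.add_sub_cancel]
  rw [h3] at h2
  have hpos : 0 < Fintype.card F * (Fintype.card F - 1) ^ 2 := by
    apply Nat.mul_pos (by omega)
    apply Nat.pow_pos
    omega
  apply Nat.eq_of_mul_eq_mul_left hpos
  rw [h2]; ring

theorem card_normalizer (P : Sylow p (GL (Fin 2) F)) :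
    Nat.card (Subgroup.normalizer ((P : Subgroup (GL (Fin 2) F)) : Set (GL (Fin 2) F))) =
      Fintype.card F * (Fintype.card F - 1) ^ 2 := by
  have h1 : Nat.card (Sylow p (GL (Fin 2) F)) = (Subgroup.normalizer
      ((P : Subgroup (GL (Fin 2) F)) : Set (GL (Fin 2) F))).index :=
    Sylow.card_eq_index_normalizer P
  have h2 := Subgroup.card_mul_index
    (Subgroup.normalizer ((P : Subgroup (GL (Fin 2) F)) : Set (GL (Fin 2) F)))
  rw [← h1, card_sylow p] at h2
  have h3 := Subgroup.card_mul_index (B F)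
  have h4 : Nat.card (Sylow p (GL (Fin 2) F)) = (Subgroup.normalizer
      (((sylowU (F := F) p : Sylow p (GL (Fin 2) F)) : Subgroup (GL (Fin 2) F)) :
        Set (GL (Fin 2) F))).index := Sylow.card_eq_index_normalizer (sylowU (F := F) p)
  rw [coe_sylowU, normalizer_U, card_sylow p] at h4
  rw [← h4, card_B, ← h2] at h3
  exact (Nat.eq_of_mul_eq_mul_right (Nat.succ_pos _) h3).symm

end Finite

end Cfsg.Agent.Helper7.GL2
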