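import Mathlib
import Cfsg.Agent.Helper7.Transvections

set_option autoImplicit false

/-!
The derived subgroup of `GL_n(F)` is `SL_n(F)`.
-/

namespace Cfsg.Agent.Helper7.Transv

open Matrix Matrix.SpecialLinearGroup
open scoped commutatorElement MatrixGroups

variable {F : Type*} [Field F]

/-- The diagonal matrix `diag(a, 1)` in `GL_2(F)`. -/
noncomputable def dmat (a : F) (ha : a ≠ 0) : GL (Fin 2) F :=
  GeneralLinearGroup.mkOfDetNeZero !![a, 0; 0, 1] (by simp [Matrix.det_fin_two_of, ha])

theorem dmat_mul_transvection01 (a : F) (ha : a ≠ 0) (b : F) :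
    dmat a ha * toGL (SpecialLinearGroup.transvection (zero_ne_one : (0 : Fin 2) ≠ 1) b) =
      toGL (SpecialLinearGroup.transvection (zero_ne_one : (0 : Fin 2) ≠ 1) (a * b)) * dmat a ha := by
  apply Units.ext
  change (!![a, 0; 0, 1] : Matrix (Fin 2) (Fin 2) F) *
      (SpecialLinearGroup.transvection (zero_ne_one : (0 : Fin 2) ≠ 1) b).1 =
    (SpecialLinearGroup.transvection (zero_ne_one : (0 : Fin 2) ≠ 1) (a * b)).1 * !![a, 0; 0, 1]
  rw [transvection_coe, transvection_coe]
  ext i j
  fin_cases i <;> fin_cases j <;> simp [Matrix.mul_apply, Fin.sum_univ_two, Matrix.single_apply]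

theorem dmat_mul_transvection10 (a : F) (ha : a ≠ 0) (b : F) :
    dmat a ha * toGL (SpecialLinearGroup.transvection (one_ne_zero : (1 : Fin 2) ≠ 0) b) =
      toGL (SpecialLinearGroup.transvection (one_ne_zero : (1 : Fin 2) ≠ 0) (a⁻¹ * b)) * dmat a ha := by
  apply Units.ext
  change (!![a, 0; 0, 1] : Matrix (Fin 2) (Fin 2) F) *
      (SpecialLinearGroup.transvection (one_ne_zero : (1 : Fin 2) ≠ 0) b).1 =
    (SpecialLinearGroup.transvection (one_ne_zero : (1 : Fin 2) ≠ 0) (a⁻¹ * b)).1 * !![a, 0; 0, 1]
  rw [transvection_coe, transvection_coe]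
  ext i j
  fin_cases i <;> fin_cases j <;> simp [Matrix.mul_apply, Fin.sum_univ_two, Matrix.single_apply]
  field_simp

theorem toGL_transvection_mem_commutator_two {a : F} (ha : a ≠ 0) (ha1 : a ≠ 1) {i j : Fin 2}
    (h : i ≠ j) (c : F) :
    toGL (SpecialLinearGroup.transvection h c) ∈ commutator (GL (Fin 2) F) := by
  rw [commutator_eq_closure]
  apply Subgroup.subset_closure
  fin_cases i
  · obtain rfl : j = 1 := by fin_cases j <;> tauto
    have hne : a - 1 ≠ 0 := sub_ne_zero_of_ne ha1
    refine ⟨dmat a ha, toGL (SpecialLinearGroup.transvection zero_ne_one (c / (a - 1))), ?_⟩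
    rw [commutatorElement_def, dmat_mul_transvection01, mul_assoc, mul_assoc, ← mul_assoc (dmat a ha),
      mul_inv_cancel, one_mul, ← map_inv, ← map_mul, transvection_inv, ← transvection_add]
    congr 2
    field_simp
    ring
  · obtain rfl : j = 0 := by fin_cases j <;> tauto
    have hne : a⁻¹ - 1 ≠ 0 := by
      intro h0
      have : a⁻¹ = 1 := sub_eq_zero.mp h0
      exact ha1 (inv_eq_one.mp this)
    refine ⟨dmat a ha, toGL (SpecialLinearGroup.transvection one_ne_zero (c / (a⁻¹ - 1))), ?_⟩
    rw [commutatorElement_def, dmat_mul_transvection10, mul_assoc, mul_assoc, ← mul_assoc (dmat a ha),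
      mul_inv_cancel, one_mul, ← map_inv, ← map_mul, transvection_inv, ← transvection_add]
    congr 2
    field_simp
    ring

theorem toGL_transvection_mem_commutator {n : ℕ} (hn : 3 ≤ n) {i j : Fin n} (h : i ≠ j) (c : F) :
    toGL (SpecialLinearGroup.transvection h c) ∈ commutator (GL (Fin n) F) := by
  rw [commutator_eq_closure]
  apply Subgroup.subset_closure
  obtain ⟨A, B, hAB⟩ := transvection_mem_commutatorSet hn h c
  exact ⟨toGL A, toGL B, by rw [← map_commutatorElement, hAB]⟩

/-- `GL_n(F)' = SL_n(F)` except for `GL_2(2)`. -/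
theorem commutator_GL (n : ℕ) (h : n = 2 → ∃ a : F, a ≠ 0 ∧ a ≠ 1) :
    commutator (GL (Fin n) F) = (GeneralLinearGroup.det : GL (Fin n) F →* Fˣ).ker := by
  apply le_antisymm
  · exact Abelianization.commutator_subset_ker _
  · intro g hg
    rw [MonoidHom.mem_ker] at hg
    have hdet : (g : Matrix (Fin n) (Fin n) F).det = 1 := by
      have := congrArg Units.val hg
      simpa using this
    by_cases hn2 : 2 ≤ n
    · have : Nontrivial (Fin n) := Fin.nontrivial_iff_two_le.mpr hn2
      have hgM : g = toGL ⟨(g : Matrix (Fin n) (Fin n) F), hdet⟩ := Units.ext rfl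
      rw [hgM]
      refine transvection_induction (fun M => toGL M ∈ commutator (GL (Fin n) F)) ?_ ?_ _
      · intro i j hij a
        rcases Nat.lt_or_ge n 3 with h3 | h3
        · have hn : n = 2 := by omega
          subst hn
          obtain ⟨a', ha0, ha1⟩ := h rfl
          exact toGL_transvection_mem_commutator_two ha0 ha1 hij a
        · exact toGL_transvection_mem_commutator h3 hij a
      · intro A B hA hB
        rw [map_mul]
        exact Subgroup.mul_mem _ hA hB
    · -- n ≤ 1: g = 1
      have hg1 : g = 1 := by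
        apply Units.ext
        ext i j
        have hn1 : n ≤ 1 := by omega
        have hi : i = j := by
          apply Fin.ext
          have := i.2; have := j.2
          omega
        subst hi
        have hn' : n = 1 := by have := i.2; omega
        subst hn'
        rw [Matrix.det_unique] at hdet
        have hi0 : i = default := Subsingleton.elim _ _
        rw [hi0]
        simpa using hdet
      rw [hg1]
      exact Subgroup.one_mem _

end Cfsg.Agent.Helper7.Transv
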