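import Mathlib
import Cfsg.Agent.Helper7.SL2Tori

set_option autoImplicit false

/-!
Sylow subgroups of `GL_n(q)` for primes `p` such that `p` divides `q ^ i - 1` for only one `i ≤ n`:
they are cyclic (a Singer-type cyclic subgroup has index prime to `p`).
-/

namespace Cfsg.Agent.Helper7.GLCyc

open Matrix

section singer

variable (K : Type*) [Field K] [Fintype K] (p₀ : ℕ) [Fact p₀.Prime] [CharP K p₀] (d c : ℕ) [NeZero d]

/-- The product algebra `L × K^c`, `L` the extension of degree `d`. -/
abbrev Alg : Type _ := FiniteField.Extension K p₀ d × (Fin c → K)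

theorem finrank_Alg : Module.finrank K (Alg K p₀ d c) = d + c := by
  rw [Module.finrank_prod, FiniteField.finrank_extension, Module.finrank_fin_fun]

/-- A basis of the product algebra. -/
noncomputable def basisAlg : Module.Basis (Fin (d + c)) K (Alg K p₀ d c) :=
  Module.finBasisOfFinrankEq K _ (finrank_Alg K p₀ d c)

/-- The regular representation of the product algebra, as a monoid homomorphism. -/
noncomputable def regHom : Alg K p₀ d c →* Matrix (Fin (d + c)) (Fin (d + c)) K :=
  ((Algebra.leftMulMatrix (basisAlg K p₀ d c) :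
    Alg K p₀ d c →ₐ[K] Matrix (Fin (d + c)) (Fin (d + c)) K) :
    Alg K p₀ d c →* Matrix (Fin (d + c)) (Fin (d + c)) K)

theorem regHom_injective : Function.Injective (regHom K p₀ d c) :=
  Algebra.leftMulMatrix_injective (basisAlg K p₀ d c)

/-- The Singer-type cyclic subgroup, as a homomorphism. -/
noncomputable def singerHom : (FiniteField.Extension K p₀ d)ˣ →* GL (Fin (d + c)) K :=
  (Units.map (regHom K p₀ d c)).comp
    ((MulEquiv.prodUnits (M := FiniteField.Extension K p₀ d) (N := Fin c → K)).symm.toMonoidHom.comp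
      (MonoidHom.inl _ _))

theorem singerHom_injective : Function.Injective (singerHom K p₀ d c) := by
  unfold singerHom
  intro x y h
  have h1 := Units.map_injective (regHom_injective K p₀ d c) h
  have h2 := (MulEquiv.prodUnits (M := FiniteField.Extension K p₀ d) (N := Fin c → K)).symm.injective h1
  exact congrArg Prod.fst h2

instance isCyclic_singer : IsCyclic (singerHom K p₀ d c).range :=
  isCyclic_of_surjective (singerHom K p₀ d c).rangeRestrict
    (singerHom K p₀ d c).rangeRestrict_surjective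

theorem card_singer : Nat.card (singerHom K p₀ d c).range = Fintype.card K ^ d - 1 := by
  rw [Nat.card_congr (MonoidHom.ofInjective (singerHom_injective K p₀ d c)).symm.toEquiv,
    Nat.card_units, FiniteField.natCard_extension, Nat.card_eq_fintype_card]

theorem not_dvd_index_singer {p : ℕ} (hp : p.Prime) (hpq : ¬ p ∣ Fintype.card K)
    (h : ∀ i, 1 ≤ i → i ≤ d + c → i ≠ d → ¬ p ∣ Fintype.card K ^ i - 1) :
    ¬ p ∣ (singerHom K p₀ d c).range.index := by
  have hq1 : 1 < Fintype.card K := Fintype.one_lt_card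
  set q := Fintype.card K with hq
  have hd : 0 < d := Nat.pos_of_ne_zero (NeZero.ne d)
  have h5 := Subgroup.card_mul_index (singerHom K p₀ d c).range
  rw [card_singer, Matrix.card_GL_field (d + c), ← hq] at h5
  have hc : c < d + c := by omega
  rw [← Finset.mul_prod_erase Finset.univ _ (Finset.mem_univ (⟨c, hc⟩ : Fin (d + c)))] at h5
  have e1 : q ^ (d + c) - q ^ ((⟨c, hc⟩ : Fin (d + c)) : ℕ) = (q ^ d - 1) * q ^ c := by
    change q ^ (d + c) - q ^ c = _
    rw [Nat.sub_mul, one_mul, pow_add]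
  rw [e1, mul_assoc] at h5
  have hpos : 0 < q ^ d - 1 := by
    have : 1 < q ^ d := Nat.one_lt_pow (by omega) hq1
    omega
  have h6 := Nat.eq_of_mul_eq_mul_left hpos h5
  rw [h6]
  intro hdvd
  rcases (Nat.Prime.dvd_mul hp).mp hdvd with h1 | h1
  · exact hpq (hp.dvd_of_dvd_pow h1)
  · rw [Prime.dvd_finset_prod_iff (Nat.Prime.prime hp)] at h1
    obtain ⟨i, hi, hdi⟩ := h1
    rw [Finset.mem_erase] at hi
    have hic : (i : ℕ) ≠ c := fun hh => hi.1 (Fin.ext hh)
    have e2 : q ^ (d + c) - q ^ (i : ℕ) = q ^ (i : ℕ) * (q ^ (d + c - i) - 1) := by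
      rw [Nat.mul_sub, mul_one, ← pow_add]
      congr 2
      have := i.2
      omega
    rw [e2] at hdi
    rcases (Nat.Prime.dvd_mul hp).mp hdi with h2 | h2
    · exact hpq (hp.dvd_of_dvd_pow h2)
    · have := i.2
      exact h (d + c - i) (by omega) (by omega) (by omega) h2

include p₀ in
/-- All Sylow `p`-subgroups of `GL_{d+c}(K)` are cyclic. -/
theorem sylow_isCyclic {p : ℕ} [Fact p.Prime] (hpq : ¬ p ∣ Fintype.card K)
    (h : ∀ i, 1 ≤ i → i ≤ d + c → i ≠ d → ¬ p ∣ Fintype.card K ^ i - 1)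
    (P : Sylow p (GL (Fin (d + c)) K)) : IsCyclic (P : Subgroup (GL (Fin (d + c)) K)) := by
  have hF : Fact p₀.Prime := inferInstance
  have hC : CharP K p₀ := inferInstance
  exact Cfsg.Agent.Helper7.SL2.sylow_isCyclic_of_subgroup (singerHom K p₀ d c).range
    (not_dvd_index_singer K p₀ d c Fact.out hpq h) P

end singer

end Cfsg.Agent.Helper7.GLCyc

namespace Cfsg.Agent.Helper7.GLCyc

open Matrix

/-- A `p`-subgroup of a group embedded in `GL_n(K)` is cyclic when `p` divides `q ^ i - 1` for only one `i ≤ n`. -/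
theorem isCyclic_of_isPGroup {K : Type*} [Field K] [Fintype K] (p₀ : ℕ) [Fact p₀.Prime] [CharP K p₀]
    (d c : ℕ) (hd : d ≠ 0) {ι : Type*} [Fintype ι] [DecidableEq ι] (hι : Fintype.card ι = d + c)
    {p : ℕ} [Fact p.Prime] (hpq : ¬ p ∣ Fintype.card K)
    (h : ∀ i, 1 ≤ i → i ≤ d + c → i ≠ d → ¬ p ∣ Fintype.card K ^ i - 1)
    {G : Type*} [Group G] (ρ : G →* GL ι K) (hρ : Function.Injective ρ)
    (H : Subgroup G) (hH : IsPGroup p H) : IsCyclic H := by
  haveI : NeZero d := ⟨hd⟩
  let e : ι ≃ Fin (d + c) := Fintype.equivFinOfCardEq hι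
  let φ : GL ι K ≃* GL (Fin (d + c)) K := Units.mapEquiv (Matrix.reindexRingEquiv K e).toMulEquiv
  let ψ : G →* GL (Fin (d + c)) K := φ.toMonoidHom.comp ρ
  have hψ : Function.Injective ψ := φ.injective.comp hρ
  have hP : IsPGroup p (H.map ψ) := hH.map ψ
  obtain ⟨Q, hQ⟩ := hP.exists_le_sylow
  haveI : IsCyclic (Q : Subgroup (GL (Fin (d + c)) K)) := sylow_isCyclic K p₀ d c hpq h Q
  haveI : IsCyclic (H.map ψ) := Subgroup.isCyclic_of_le hQ
  let e2 : H ≃* H.map ψ := H.equivMapOfInjective ψ hψ
  exact isCyclic_of_surjective e2.symm e2.symm.surjective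

end Cfsg.Agent.Helper7.GLCyc
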