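import Mathlib
import Cfsg.Agent.Helper3.GlaubDefs

/-!
# S1301 / Theorem G, piece G-two (helper7): general lemmas
-/

set_option autoImplicit false

namespace Cfsg.Agent.Helper7.Glaub

open Cfsg.Agent.Helper2

section transfer

variable {C : Type*} [Group C]

open scoped IsMulCommutative in
/-- For a central subgroup `H` of finite index, `x ↦ x ^ H.index` is multiplicative. -/
theorem pow_index_mul (H : Subgroup C) [H.FiniteIndex] (hH : H ≤ Subgroup.center C) (x y : C) :
    (x * y) ^ H.index = x ^ H.index * y ^ H.index := by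
  have : IsMulCommutative H :=
    ⟨⟨fun a b => Subtype.ext (Subgroup.mem_center_iff.mp (hH b.2) a)⟩⟩
  have key : ∀ g : C, ∀ (k : ℕ) (g₀ : C), g₀⁻¹ * g ^ k * g₀ ∈ H → g₀⁻¹ * g ^ k * g₀ = g ^ k := by
    intro g k g₀ hk
    have hc := Subgroup.mem_center_iff.mp (hH hk) g₀
    calc g₀⁻¹ * g ^ k * g₀ = g₀ * (g₀⁻¹ * g ^ k * g₀) * g₀⁻¹ := by rw [hc]; group
      _ = g ^ k := by group
  have h1 := MonoidHom.transfer_eq_pow (MonoidHom.id H) x (key x)
  have h2 := MonoidHom.transfer_eq_pow (MonoidHom.id H) y (key y)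
  have h3 := MonoidHom.transfer_eq_pow (MonoidHom.id H) (x * y) (key (x * y))
  rw [map_mul, h1, h2] at h3
  have := congrArg (Subtype.val) h3
  simpa using this.symm

end transfer

end Cfsg.Agent.Helper7.Glaub

namespace Cfsg.Agent.Helper7.Glaub

open Cfsg.Agent.Helper2

/-- In a finite perfect group whose `p`-elements are all central, every `p`-element is trivial. -/
theorem isPElt_eq_one_of_perfect {R : Type*} [Group R] [Finite R] {p : ℕ} [hp : Fact p.Prime]
    (hperf : commutator R = ⊤) (hcent : ∀ x : R, IsPElt p x → x ∈ Subgroup.center R) :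
    ∀ x : R, IsPElt p x → x = 1 := by
  intro x hx
  obtain ⟨P⟩ : Nonempty (Sylow p R) := inferInstance
  have hPc : (P : Subgroup R) ≤ Subgroup.center R := by
    intro y hy
    apply hcent
    obtain ⟨k, hk⟩ := P.2 ⟨y, hy⟩
    exact ⟨k, by simpa using congrArg Subtype.val hk⟩
  have hdvd : (Subgroup.center R).index ∣ (P : Subgroup R).index := Subgroup.index_dvd_of_le hPc
  have hnd : ¬ p ∣ (Subgroup.center R).index := fun h => P.not_dvd_index (h.trans hdvd)
  have hker : (MonoidHom.transferCenterPow R).ker = ⊤ := by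
    rw [eq_top_iff, ← hperf, commutator_def, Subgroup.commutator_le]
    intro g₁ _ g₂ _
    rw [MonoidHom.mem_ker, map_commutatorElement, commutatorElement_eq_one_iff_mul_comm]
    exact Subtype.ext (Subgroup.mem_center_iff.mp (MonoidHom.transferCenterPow R g₁).2 _).symm
  have hx1 : x ^ (Subgroup.center R).index = 1 := by
    have : x ∈ (MonoidHom.transferCenterPow R).ker := by rw [hker]; trivial
    rw [MonoidHom.mem_ker] at this
    have := congrArg Subtype.val this
    simpa using this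
  exact hx.eq_one_of_coprime hx1 ((Nat.Prime.coprime_iff_not_dvd hp.out).2 hnd).symm

end Cfsg.Agent.Helper7.Glaub

namespace Cfsg.Agent.Helper7.Glaub

open Cfsg.Agent.Helper2

/-- A subgroup `C` with a central `2`-subgroup `Z` of odd index, normalized by `K`, and without
nontrivial `K`-invariant subgroups of odd order, equals `Z`. -/
theorem le_of_central_of_odd {G : Type*} [Group G] [Finite G] (K C Z : Subgroup G)
    (hZC : Z ≤ C) (hcent : C ≤ Subgroup.centralizer (Z : Set G))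
    (hidx : (Z.relIndex C).Coprime 2)
    (hodd : ∀ V : Subgroup G, V ≤ C → (∀ g ∈ K, ∀ x ∈ V, g * x * g⁻¹ ∈ V) →
      (Nat.card V).Coprime 2 → V = ⊥)
    (hKC : ∀ g ∈ K, ∀ x ∈ C, g * x * g⁻¹ ∈ C) : C ≤ Z := by
  classical
  set Z' : Subgroup ↥C := Z.subgroupOf C with hZ'
  have hZ'c : Z' ≤ Subgroup.center ↥C := by
    intro z hz
    rw [Subgroup.mem_center_iff]
    intro y
    apply Subtype.ext
    have := hcent y.2 (z : G) (Subgroup.mem_subgroupOf.mp hz)
    simpa using this.symm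
  have hZ'n : Z'.Normal := by
    constructor
    intro n hn g
    have := Subgroup.mem_center_iff.mp (hZ'c hn) g
    have h2 : g * n * g⁻¹ = n := by rw [this]; group
    rw [h2]; exact hn
  set m := Z'.index with hm
  have hmrel : m = Z.relIndex C := rfl
  let φ : ↥C →* ↥C :=
    { toFun := fun x => x ^ m
      map_one' := one_pow _
      map_mul' := fun x y => pow_index_mul Z' hZ'c x y }
  have hφ : ∀ x : ↥C, φ x = x ^ m := fun _ => rfl
  have hφmem : ∀ x : ↥C, φ x ∈ Z' := fun x => Z'.pow_index_mem x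
  -- kernel is trivial
  have hker : φ.ker = ⊥ := by
    have hV := hodd (φ.ker.map C.subtype) ?_ ?_ ?_
    · rw [Subgroup.map_eq_bot_iff_of_injective _ C.subtype_injective] at hV
      exact hV
    · rintro _ ⟨x, -, rfl⟩
      exact x.2
    · rintro g hg _ ⟨x, hx, rfl⟩
      refine ⟨⟨g * x * g⁻¹, hKC g hg x x.2⟩, ?_, rfl⟩
      rw [SetLike.mem_coe, MonoidHom.mem_ker, hφ] at hx
      rw [SetLike.mem_coe, MonoidHom.mem_ker, hφ]
      apply Subtype.ext
      have hx' : (x : G) ^ m = 1 := by simpa using congrArg Subtype.val hx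
      simp only [Subgroup.coe_pow, Subgroup.coe_one]
      rw [conj_pow, hx']; group
    · rw [Nat.coprime_comm, Nat.Prime.coprime_iff_not_dvd Nat.prime_two]
      intro h2
      have : Fact (Nat.Prime 2) := ⟨Nat.prime_two⟩
      obtain ⟨x, hx⟩ := exists_prime_orderOf_dvd_card' (G := ↥(φ.ker.map C.subtype)) 2 h2
      obtain ⟨y, hy, hyx⟩ := x.2
      rw [SetLike.mem_coe, MonoidHom.mem_ker, hφ] at hy
      have hy' : (x : G) ^ m = 1 := by
        rw [← hyx]
        simpa using congrArg Subtype.val hy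
      have hx2 : orderOf (x : G) = 2 := by rw [Subgroup.orderOf_coe]; exact hx
      have : 2 ∣ m := by rw [← hx2]; exact orderOf_dvd_of_pow_eq_one hy'
      rw [hmrel] at this
      have := Nat.Coprime.eq_one_of_dvd hidx.symm this
      omega
  have hinj : Function.Injective φ := (MonoidHom.ker_eq_bot_iff φ).mp hker
  have hcard : Nat.card ↥C ≤ Nat.card ↥Z' := by
    apply Nat.card_le_card_of_injective (fun x => (⟨φ x, hφmem x⟩ : ↥Z'))
    intro x y hxy
    apply hinj
    simpa using congrArg Subtype.val hxy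
  have htop : Z' = ⊤ := Subgroup.eq_top_of_le_card _ hcard
  intro x hx
  have : (⟨x, hx⟩ : ↥C) ∈ Z' := by rw [htop]; trivial
  exact Subgroup.mem_subgroupOf.mp this

end Cfsg.Agent.Helper7.Glaub

namespace Cfsg.Agent.Helper7.Glaub

open Cfsg.Agent.Helper2

/-- Barycenter argument: if `τ` centralizes `S ≤ K` and `[K, τ]` lies in an abelian `K`-invariant
subgroup `Z` whose exponent is prime to `|K : S|`, then `τ` acts on `K` like an element of `Z`. -/
theorem exists_central_twist {G : Type*} [Group G] [Finite G] (K S Z : Subgroup G) (τ : G)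
    (hSK : S ≤ K)
    (hZab : ∀ a ∈ Z, ∀ b ∈ Z, a * b = b * a)
    (hKZ : ∀ g ∈ K, ∀ z ∈ Z, g * z * g⁻¹ ∈ Z)
    (hτS : ∀ s ∈ S, s * τ = τ * s)
    (hτK : ∀ k ∈ K, k * τ * k⁻¹ * τ⁻¹ ∈ Z)
    (e : ℕ) (he : ∀ z ∈ Z, z ^ e = 1) (hcop : (S.relIndex K).Coprime e) :
    ∃ w ∈ Z, ∀ k ∈ K, k * (w * τ) * k⁻¹ = w * τ := by
  classical
  letI : CommGroup ↥Z :=
    { (inferInstance : Group ↥Z) with mul_comm := fun a b => Subtype.ext (hZab a a.2 b b.2) }
  set S' : Subgroup ↥K := S.subgroupOf K with hS'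
  haveI : Fintype (↥K ⧸ S') := Fintype.ofFinite _
  let z : ↥K → ↥Z := fun k => ⟨(k : G) * τ * (k : G)⁻¹ * τ⁻¹, hτK k k.2⟩
  have hz : ∀ k : ↥K, ((z k : ↥Z) : G) = (k : G) * τ * (k : G)⁻¹ * τ⁻¹ := fun _ => rfl
  -- `z` is constant on left cosets of `S'`
  have hzS : ∀ (k : ↥K) (s : ↥K), s ∈ S' → z (k * s) = z k := by
    intro k s hs
    apply Subtype.ext
    rw [hz, hz]
    have h1 : (s : G) * τ = τ * (s : G) := hτS _ (Subgroup.mem_subgroupOf.mp hs)
    have h2 : (s : G) * τ * (s : G)⁻¹ = τ := by rw [h1]; group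
    calc ((k * s : ↥K) : G) * τ * ((k * s : ↥K) : G)⁻¹ * τ⁻¹
        = (k : G) * ((s : G) * τ * (s : G)⁻¹) * (k : G)⁻¹ * τ⁻¹ := by
          simp only [Subgroup.coe_mul]; group
      _ = (k : G) * τ * (k : G)⁻¹ * τ⁻¹ := by rw [h2]
  -- conjugation by `g ∈ K` as an endomorphism of `Z`
  let cg : ↥K → (↥Z →* ↥Z) := fun g =>
    { toFun := fun y => ⟨(g : G) * (y : G) * (g : G)⁻¹, hKZ g g.2 y y.2⟩
      map_one' := by apply Subtype.ext; simp
      map_mul' := fun a b => by apply Subtype.ext; simp }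
  have hcg : ∀ (g : ↥K) (y : ↥Z), ((cg g y : ↥Z) : G) = (g : G) * (y : G) * (g : G)⁻¹ :=
    fun _ _ => rfl
  -- cocycle identity
  have hcoc : ∀ g k : ↥K, cg g (z k) = z (g * k) * (z g)⁻¹ := by
    intro g k
    apply Subtype.ext
    rw [hcg, Subgroup.coe_mul, Subgroup.coe_inv, hz, hz, hz]
    simp only [Subgroup.coe_mul]
    group
  set u : ↥Z := ∏ q : ↥K ⧸ S', z q.out with hu
  set m := Fintype.card (↥K ⧸ S') with hm
  have hmrel : m = S.relIndex K := by
    rw [hm, Subgroup.relIndex, Subgroup.index, Nat.card_eq_fintype_card]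
  have hout : ∀ (g : ↥K) (q : ↥K ⧸ S'), z (g * q.out) = z ((g • q).out) := by
    intro g q
    have h1 : ((g * q.out : ↥K) : ↥K ⧸ S') = g • q := by
      conv_rhs => rw [← QuotientGroup.out_eq' q]
      rfl
    obtain ⟨s, hs⟩ := QuotientGroup.mk_out_eq_mul S' (g * q.out)
    rw [← h1, hs, hzS _ _ s.2]
  have hconj : ∀ g : ↥K, cg g u = u * ((z g) ^ m)⁻¹ := by
    intro g
    rw [hu, map_prod]
    simp_rw [hcoc, hout]
    rw [Finset.prod_mul_distrib, Finset.prod_const, Finset.card_univ, ← hm, inv_pow]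
    congr 1
    exact Equiv.prod_comp (MulAction.toPerm g : Equiv.Perm (↥K ⧸ S')) (fun q => z q.out)
  -- Bezout
  set a : ℤ := Nat.gcdA m e with ha
  have hbez : (1 : ℤ) = m * a + e * Nat.gcdB m e := by
    have hcop' : Nat.gcd m e = 1 := by rw [hmrel]; exact hcop
    have := Nat.gcd_eq_gcd_ab m e
    rw [hcop'] at this
    simpa using this
  have hze : ∀ y : ↥Z, y ^ e = 1 := by
    intro y
    apply Subtype.ext
    simpa using he y y.2
  have hroot : ∀ y : ↥Z, y = (y ^ m) ^ a := by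
    intro y
    have h1 : y = y ^ ((m : ℤ) * a + e * Nat.gcdB m e) := by rw [← hbez, zpow_one]
    rw [zpow_add, zpow_mul, zpow_mul, zpow_natCast, zpow_natCast, hze y, one_zpow, mul_one] at h1
    exact h1
  refine ⟨((u ^ a : ↥Z) : G), (u ^ a).2, ?_⟩
  intro k hk
  set g : ↥K := ⟨k, hk⟩ with hg
  have hzg : z g = u ^ a * (cg g (u ^ a))⁻¹ := by
    have h1 : (z g) ^ m = u * (cg g u)⁻¹ := by
      rw [hconj g]; simp
    rw [hroot (z g), h1, mul_zpow, inv_zpow, map_zpow]
  have h2 := congrArg (Subtype.val) hzg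
  rw [hz, Subgroup.coe_mul, Subgroup.coe_inv, hcg] at h2
  have hk' : (g : G) = k := rfl
  rw [hk'] at h2
  have hcomm := hZab _ (u ^ a).2 _ (cg g (u ^ a)).2
  rw [hcg, hk'] at hcomm
  set w : G := ((u ^ a : ↥Z) : G) with hw
  have h3 : k * τ * k⁻¹ = w * (k * w * k⁻¹)⁻¹ * τ := by
    rw [← h2]; group
  calc k * (w * τ) * k⁻¹ = (k * w * k⁻¹) * (k * τ * k⁻¹) := by group
    _ = (k * w * k⁻¹) * (w * (k * w * k⁻¹)⁻¹ * τ) := by rw [h3]
    _ = ((k * w * k⁻¹) * w) * (k * w * k⁻¹)⁻¹ * τ := by group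
    _ = (w * (k * w * k⁻¹)) * (k * w * k⁻¹)⁻¹ * τ := by rw [hcomm]
    _ = w * τ := by group

end Cfsg.Agent.Helper7.Glaub
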