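import Mathlib
import Cfsg.Agent.Helper7.GlaubTwoA

/-!
# S1301 / Theorem G, piece G-two (helper7): transport of the hypothesis, step 5
-/

set_option autoImplicit false

namespace Cfsg.Agent.Helper7.Glaub

open Cfsg.Agent.Helper2 Cfsg.Agent.Helper3.Glaub

/-- Restriction of the hypothesis to a subgroup containing `K` and `L`. -/
theorem hyp_subgroupOf {G : Type*} [Group G] {K L S : Subgroup G} (h : Hyp K L S) (N : Subgroup G)
    (hKN : K ≤ N) (hLN : L ≤ N) : Hyp (K.subgroupOf N) (L.subgroupOf N) (S.subgroupOf N) where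
  norm := by
    intro x hx
    exact Subgroup.le_normalizer_comap N.subtype (h.norm (Subgroup.mem_subgroupOf.mp hx))
  perf := by
    apply Subgroup.map_injective N.subtype_injective
    rw [Subgroup.map_commutator, Subgroup.subgroupOf_map_subtype, inf_of_le_left hLN, h.perf]
  le := Subgroup.comap_mono h.le
  pgroup := h.pgroup.comap_subtype
  odd := by
    rw [Subgroup.relIndex_subgroupOf hKN]
    exact h.odd
  cent := by
    intro x hx y hy
    apply Subtype.ext
    exact h.cent (Subgroup.mem_subgroupOf.mp hx) (y : G) (Subgroup.mem_subgroupOf.mp hy)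

/-- Image of the hypothesis under a homomorphism whose kernel lies in `S`. -/
theorem hyp_map {G H : Type*} [Group G] [Group H] {K L S : Subgroup G} (h : Hyp K L S) (f : G →* H)
    (hker : f.ker ≤ S) : Hyp (K.map f) (L.map f) (S.map f) where
  norm := (Subgroup.map_mono h.norm).trans (Subgroup.le_normalizer_map f)
  perf := by rw [← Subgroup.map_commutator, h.perf]
  le := Subgroup.map_mono h.le
  pgroup := h.pgroup.map f
  odd := by
    rw [Subgroup.relIndex_map_map, sup_of_le_left hker, sup_of_le_left (hker.trans h.le)]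
    exact h.odd
  cent := by
    refine (Subgroup.map_mono h.cent).trans ?_
    rw [Subgroup.coe_map]
    exact Subgroup.map_centralizer_le_centralizer_image _ f

/-- A normal `p`-subgroup of `K` lies in every Sylow `p`-subgroup of `K` (relative form). -/
theorem normal_pgroup_le {G : Type*} [Group G] {p : ℕ} [Fact p.Prime] (K S Q : Subgroup G)
    (hSK : S ≤ K) (hS : IsPGroup p ↥S) (hidx : ¬ p ∣ S.relIndex K) (hQK : Q ≤ K)
    (hQn : K ≤ Subgroup.normalizer (Q : Set G)) (hQ : IsPGroup p ↥Q) : Q ≤ S := by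
  have hn : (Q.subgroupOf K).Normal := (Subgroup.normal_subgroupOf_iff_le_normalizer hQK).mpr hQn
  have hS' : IsPGroup p ↥(S.subgroupOf K) := hS.comap_subtype
  have hQ' : IsPGroup p ↥(Q.subgroupOf K) := hQ.comap_subtype
  have := hQ'.le_sylow_of_normal (hS'.toSylow hidx)
  intro x hx
  have h1 : (⟨x, hQK hx⟩ : ↥K) ∈ Q.subgroupOf K := Subgroup.mem_subgroupOf.mpr hx
  exact Subgroup.mem_subgroupOf.mp (this h1)

end Cfsg.Agent.Helper7.Glaub

namespace Cfsg.Agent.Helper7.Glaub

open Cfsg.Agent.Helper2 Cfsg.Agent.Helper3.Glaub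

/-- The centralizer of `K` is normalized by the normalizer of `K` (elementwise). -/
theorem conj_mem_centralizer {G : Type*} [Group G] (K : Subgroup G) {l x : G}
    (hl : l ∈ Subgroup.normalizer (K : Set G)) (hx : x ∈ Subgroup.centralizer (K : Set G)) :
    l * x * l⁻¹ ∈ Subgroup.centralizer (K : Set G) := by
  intro k hk
  have h1 : l⁻¹ * k * l ∈ K := by
    have := (Subgroup.mem_normalizer_iff.mp (Subgroup.inv_mem _ hl) k).mp hk
    simpa using this
  have h2 := hx _ h1
  calc k * (l * x * l⁻¹) = l * ((l⁻¹ * k * l) * x) * l⁻¹ := by group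
    _ = l * (x * (l⁻¹ * k * l)) * l⁻¹ := by rw [h2]
    _ = l * x * l⁻¹ * k := by group

/-- Step 5: if every `2`-element of the perfect group `L` acts on `K` like an element of `K`
centralized by `L`, then every `2`-element of `L` centralizes `K`. -/
theorem isPElt_mem_centralizer {G : Type*} [Group G] [Finite G] (K L : Subgroup G)
    (hnorm : L ≤ Subgroup.normalizer (K : Set G)) (hperf : ⁅L, L⁆ = L)
    (hw : ∀ τ ∈ L, IsPElt 2 τ → ∃ w ∈ K, (∀ l ∈ L, l * w = w * l) ∧
      w * τ ∈ Subgroup.centralizer (K : Set G)) :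
    ∀ τ ∈ L, IsPElt 2 τ → τ ∈ Subgroup.centralizer (K : Set G) := by
  classical
  have : Fact (Nat.Prime 2) := ⟨Nat.prime_two⟩
  set CK : Subgroup G := Subgroup.centralizer (K : Set G) with hCK
  -- commutators with 2-elements centralize K
  have hcomm : ∀ τ ∈ L, IsPElt 2 τ → ∀ l ∈ L, l * τ * l⁻¹ * τ⁻¹ ∈ CK := by
    intro τ hτ hτ2 l hl
    obtain ⟨w, hwK, hwL, hwτ⟩ := hw τ hτ hτ2
    have h1 : l * (w * τ) * l⁻¹ ∈ CK := conj_mem_centralizer K (hnorm hl) hwτ
    have h2 : l * (w * τ) * l⁻¹ = w * (l * τ * l⁻¹) := by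
      have := hwL l hl
      calc l * (w * τ) * l⁻¹ = (l * w) * τ * l⁻¹ := by group
        _ = (w * l) * τ * l⁻¹ := by rw [this]
        _ = w * (l * τ * l⁻¹) := by group
    rw [h2] at h1
    have h3 : w * (l * τ * l⁻¹) * (w * τ)⁻¹ ∈ CK := CK.mul_mem h1 (CK.inv_mem hwτ)
    have h4 : w⁻¹ * (w * (l * τ * l⁻¹) * (w * τ)⁻¹) * w⁻¹⁻¹ ∈ CK :=
      conj_mem_centralizer K (Subgroup.le_normalizer (K.inv_mem hwK)) h3
    have h5 : w⁻¹ * (w * (l * τ * l⁻¹) * (w * τ)⁻¹) * w⁻¹⁻¹ = l * τ * l⁻¹ * τ⁻¹ := by group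
    rwa [h5] at h4
  set D' : Subgroup ↥L := CK.subgroupOf L with hD'
  have hD'n : D'.Normal := by
    constructor
    intro x hx g
    rw [hD', Subgroup.mem_subgroupOf] at hx ⊢
    have := conj_mem_centralizer K (hnorm g.2) hx
    simpa using this
  set f : ↥L →* ↥L ⧸ D' := QuotientGroup.mk' D' with hf
  have hfsurj : Function.Surjective f := QuotientGroup.mk'_surjective D'
  -- perfectness
  have hLperf : commutator ↥L = ⊤ := by
    apply Subgroup.map_injective L.subtype_injective
    rw [commutator_subtype_le, hperf, ← MonoidHom.range_eq_map, Subgroup.range_subtype]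
  have hRperf : commutator (↥L ⧸ D') = ⊤ := by
    rw [commutator_def, ← Subgroup.map_top_of_surjective f hfsurj, ← Subgroup.map_commutator,
      ← commutator_def, hLperf]
  -- 2-elements are central
  have hcent : ∀ x : ↥L ⧸ D', IsPElt 2 x → x ∈ Subgroup.center (↥L ⧸ D') := by
    intro x hx
    have hx' : x ∈ (⊤ : Subgroup ↥L).map f := by
      rw [Subgroup.map_top_of_surjective f hfsurj]; trivial
    obtain ⟨t, -, ht2, rfl⟩ := exists_isPElt_lift f ⊤ hx' hx
    rw [Subgroup.mem_center_iff]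
    intro y
    obtain ⟨l, rfl⟩ := hfsurj y
    rw [← map_mul, ← map_mul, hf, QuotientGroup.mk'_apply, QuotientGroup.mk'_apply,
      QuotientGroup.eq, hD', Subgroup.mem_subgroupOf]
    have ht2' : IsPElt 2 ((t : G)⁻¹) := by
      obtain ⟨k, hk⟩ := ht2
      refine ⟨k, ?_⟩
      have : (t : G) ^ (2 ^ k) = 1 := by simpa using congrArg Subtype.val hk
      rw [inv_pow, this, inv_one]
    have := hcomm (t : G)⁻¹ (L.inv_mem t.2) ht2' (l : G)⁻¹ (L.inv_mem l.2)
    have h6 : ((l : G)⁻¹ * (t : G)⁻¹ * (l : G)⁻¹⁻¹ * (t : G)⁻¹⁻¹)⁻¹ =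
        (((l * t)⁻¹ * (t * l) : ↥L) : G) := by
      simp only [Subgroup.coe_mul, Subgroup.coe_inv]; group
    rw [← h6]
    exact CK.inv_mem this
  have hkill := isPElt_eq_one_of_perfect (p := 2) hRperf hcent
  intro τ hτ hτ2
  have h1 : IsPElt 2 (f ⟨τ, hτ⟩) := by
    obtain ⟨k, hk⟩ := hτ2
    exact ⟨k, by rw [← map_pow]; convert map_one f; exact Subtype.ext (by simpa using hk)⟩
  have h2 := hkill _ h1
  rw [hf, QuotientGroup.mk'_apply, QuotientGroup.eq_one_iff, hD', Subgroup.mem_subgroupOf] at h2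
  exact h2

end Cfsg.Agent.Helper7.Glaub
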