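import Mathlib
import Cfsg.Agent.Helper7.GlaubTwoB

/-!
# S1301 / Theorem G, piece G-two (helper7): the case `O_2(K) ≠ 1`
-/

set_option autoImplicit false

namespace Cfsg.Agent.Helper7.Glaub

open Cfsg.Agent.Helper1 Cfsg.Agent.Helper2 Cfsg.Agent.Helper3.Glaub

universe u

/-- `coreOf p C` has order prime to `p`. -/
theorem card_coreOf_coprime {X : Type*} [Group X] [Finite X] (p : ℕ) (C : Subgroup X) :
    (Nat.card (coreOf p C)).Coprime p := by
  unfold coreOf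
  rw [Subgroup.card_map_of_injective C.subtype_injective]
  exact card_pPrimeCore_coprime p

/-- `coreOf p C` is normal when `C` is. -/
theorem coreOf_normal {X : Type*} [Group X] (p : ℕ) (C : Subgroup X) [hC : C.Normal] :
    (coreOf p C).Normal := by
  apply normal_of_cj_le
  intro g
  rw [← coreOf_cj, cj_eq_of_normal C g]

/-- Steps 1-3 of the case `O_2(K) ≠ 1`: commutators of `2`-elements of `L` with `K` lie in
`Z(Q)`. -/
theorem two_case_comm (n : ℕ) (ih : Stmt.{u} n) {G : Type u} [Group G] [Finite G]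
    (K L S : Subgroup G) (hcard : Nat.card K ≤ n + 1) (h : Hyp K L S)
    (hodd : ∀ V : Subgroup G, V ≤ K → K ≤ Subgroup.normalizer (V : Set G) →
      (Nat.card V).Coprime 2 → V = ⊥)
    (Q : Subgroup G) (hQK : Q ≤ K)
    (hQn : Subgroup.normalizer (K : Set G) ≤ Subgroup.normalizer (Q : Set G))
    (hQS : Q ≤ S) (hQ : Q ≠ ⊥) :
    ∀ τ ∈ L, IsPElt 2 τ → ∀ k ∈ K,
      τ * k * τ⁻¹ * k⁻¹ ∈ Q ⊓ Subgroup.centralizer (Q : Set G) := by
  classical
  have : Fact (Nat.Prime 2) := ⟨Nat.prime_two⟩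
  set N : Subgroup G := Subgroup.normalizer (K : Set G) with hN
  have hKN : K ≤ N := Subgroup.le_normalizer
  have hLN : L ≤ N := h.norm
  have hQN : Q ≤ N := hQK.trans hKN
  have hLQ : ∀ l ∈ L, ∀ q ∈ Q, q * l = l * q := fun l hl q hq => h.cent hl q (hQS hq)
  haveI hQ'n : (Q.subgroupOf N).Normal :=
    (Subgroup.normal_subgroupOf_iff_le_normalizer hQN).mpr hQn
  set π : ↥N →* ↥N ⧸ Q.subgroupOf N := QuotientGroup.mk' (Q.subgroupOf N) with hπ
  have hπsurj : Function.Surjective π := QuotientGroup.mk'_surjective _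
  have hπker : π.ker = Q.subgroupOf N := QuotientGroup.ker_mk' _
  have hπone : ∀ x : ↥N, π x = 1 ↔ (x : G) ∈ Q := by
    intro x
    rw [← MonoidHom.mem_ker, hπker, Subgroup.mem_subgroupOf]
  have hH1 := hyp_subgroupOf h N hKN hLN
  have hH2 := hyp_map hH1 π (by rw [hπker]; exact Subgroup.comap_mono hQS)
  set Kb := (K.subgroupOf N).map π with hKb
  set Lb := (L.subgroupOf N).map π with hLb
  -- the image of `K` is smaller
  have hcardb : Nat.card Kb ≤ n := by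
    have hK' : Nat.card ↥(K.subgroupOf N) = Nat.card K := by
      rw [← Subgroup.card_map_of_injective N.subtype_injective, Subgroup.subgroupOf_map_subtype,
        inf_of_le_left hKN]
    haveI : Fintype ↥(K.subgroupOf N) := Fintype.ofFinite _
    haveI : Fintype ↥Kb := Fintype.ofFinite _
    have hlt : Fintype.card ↥Kb < Fintype.card ↥(K.subgroupOf N) := by
      apply Fintype.card_lt_of_surjective_not_injective (π.subgroupMap (K.subgroupOf N))
        (π.subgroupMap_surjective _)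
      intro hinj
      apply hQ
      rw [Subgroup.eq_bot_iff_forall]
      intro q hq
      have h1 : π.subgroupMap (K.subgroupOf N) ⟨⟨q, hQN hq⟩, Subgroup.mem_subgroupOf.mpr (hQK hq)⟩ =
          π.subgroupMap (K.subgroupOf N) 1 := by
        apply Subtype.ext
        rw [map_one]
        exact (hπone ⟨q, hQN hq⟩).mpr hq
      have h2 := hinj h1
      have h3 := congrArg (fun x : ↥(K.subgroupOf N) => ((x : ↥N) : G)) h2
      simpa using h3
    rw [← Nat.card_eq_fintype_card, ← Nat.card_eq_fintype_card, hK'] at hlt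
    omega
  have hC := ih (↥N ⧸ Q.subgroupOf N) Kb Lb _ hcardb hH2
  -- the odd core of the image
  set Ob := coreOf 2 Kb with hOb
  have hK'n : (K.subgroupOf N).Normal := by
    rw [hN]; exact Subgroup.normal_in_normalizer
  haveI hKbn : Kb.Normal := hK'n.map π hπsurj
  have hObn : Ob.Normal := coreOf_normal 2 Kb
  have hObK : Ob ≤ Kb := coreOf_le 2 Kb
  have hObodd : (Nat.card Ob).Coprime 2 := card_coreOf_coprime 2 Kb
  -- the subgroup `C`
  set K1 : Subgroup G := (Ob.comap π).map N.subtype with hK1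
  have hK1mem : ∀ x : G, x ∈ K1 ↔ ∃ hx : x ∈ N, π ⟨x, hx⟩ ∈ Ob := by
    intro x
    constructor
    · rintro ⟨y, hy, rfl⟩
      exact ⟨y.2, hy⟩
    · rintro ⟨hx, hy⟩
      exact ⟨⟨x, hx⟩, hy, rfl⟩
  set C : Subgroup G := K1 ⊓ Subgroup.centralizer (Q : Set G) with hCdef
  set Z : Subgroup G := Q ⊓ Subgroup.centralizer (Q : Set G) with hZdef
  have hQK1 : Q ≤ K1 := by
    intro q hq
    rw [hK1mem]
    refine ⟨hQN hq, ?_⟩
    rw [(hπone _).mpr hq]
    exact Ob.one_mem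
  have hK1K : K1 ≤ K := by
    intro x hx
    obtain ⟨hxN, hxO⟩ := (hK1mem x).mp hx
    obtain ⟨y, hy, hyx⟩ := hObK hxO
    have h1 : π (y⁻¹ * ⟨x, hxN⟩) = 1 := by rw [map_mul, map_inv, hyx, inv_mul_cancel]
    have h2 := (hπone _).mp h1
    have h3 : (y : G) ∈ K := Subgroup.mem_subgroupOf.mp hy
    have h4 : x = (y : G) * ((y⁻¹ * ⟨x, hxN⟩ : ↥N) : G) := by
      simp
    rw [h4]
    exact K.mul_mem h3 (hQK h2)
  have hZC : Z ≤ C := inf_le_inf_right _ hQK1
  have hCcent : C ≤ Subgroup.centralizer (Z : Set G) :=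
    inf_le_right.trans (Subgroup.centralizer_le (by
      intro x hx; exact hx.1))
  have hCK : C ≤ K := inf_le_left.trans hK1K
  have hKC : ∀ g ∈ K, ∀ x ∈ C, g * x * g⁻¹ ∈ C := by
    intro g hg x hx
    refine ⟨?_, ?_⟩
    · obtain ⟨hxN, hxO⟩ := (hK1mem x).mp hx.1
      refine (hK1mem _).mpr ⟨N.mul_mem (N.mul_mem (hKN hg) hxN) (N.inv_mem (hKN hg)), ?_⟩
      have : (⟨g * x * g⁻¹, N.mul_mem (N.mul_mem (hKN hg) hxN) (N.inv_mem (hKN hg))⟩ : ↥N) =
          ⟨g, hKN hg⟩ * ⟨x, hxN⟩ * ⟨g, hKN hg⟩⁻¹ := rfl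
      rw [this, map_mul, map_mul, map_inv]
      exact hObn.conj_mem _ hxO _
    · have hgQ : g ∈ Subgroup.normalizer (Q : Set G) := hQn (hKN hg)
      have := conj_mem_centralizer Q hgQ hx.2
      exact this
  have hidx : (Z.relIndex C).Coprime 2 := by
    let ψ : ↥C →* ↥N ⧸ Q.subgroupOf N := π.comp (Subgroup.inclusion (hCK.trans hKN))
    have hψker : ψ.ker = Z.subgroupOf C := by
      ext x
      rw [MonoidHom.mem_ker, Subgroup.mem_subgroupOf]
      change π _ = 1 ↔ _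
      rw [hπone]
      change (x : G) ∈ Q ↔ _
      constructor
      · intro hq
        exact ⟨hq, x.2.2⟩
      · intro hz
        exact hz.1
    have hrange : ψ.range ≤ Ob := by
      rintro _ ⟨x, rfl⟩
      obtain ⟨hxN, hxO⟩ := (hK1mem x).mp x.2.1
      exact hxO
    have h1 : Z.relIndex C = Nat.card ψ.range := by
      rw [Subgroup.relIndex, ← hψker, Subgroup.index_ker]
    rw [h1]
    exact Nat.Coprime.coprime_dvd_left (Subgroup.card_dvd_of_le hrange) hObodd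
  have hoddC : ∀ V : Subgroup G, V ≤ C → (∀ g ∈ K, ∀ x ∈ V, g * x * g⁻¹ ∈ V) →
      (Nat.card V).Coprime 2 → V = ⊥ := by
    intro V hVC hVK hVodd
    refine hodd V (hVC.trans hCK) ?_ hVodd
    intro g hg
    rw [Subgroup.mem_normalizer_iff]
    intro x
    constructor
    · exact hVK g hg x
    · intro hx
      have := hVK g⁻¹ (K.inv_mem hg) _ hx
      have h2 : g⁻¹ * (g * x * g⁻¹) * g⁻¹⁻¹ = x := by group
      rwa [h2] at this
  have hCZ : C ≤ Z := le_of_central_of_odd K C Z hZC hCcent hidx hoddC hKC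
  -- conclusion
  intro τ hτ hτ2 k hk
  apply hCZ
  refine ⟨?_, ?_⟩
  · have hτN : τ ∈ N := hLN hτ
    have hkN : k ∈ N := hKN hk
    refine (hK1mem _).mpr
      ⟨N.mul_mem (N.mul_mem (N.mul_mem hτN hkN) (N.inv_mem hτN)) (N.inv_mem hkN), ?_⟩
    have h1 : IsPElt 2 (π ⟨τ, hτN⟩) := by
      obtain ⟨j, hj⟩ := hτ2
      refine ⟨j, ?_⟩
      rw [← map_pow]
      convert map_one π
      exact Subtype.ext (by simpa using hj)
    have h2 : π ⟨τ, hτN⟩ ∈ Lb := ⟨⟨τ, hτN⟩, Subgroup.mem_subgroupOf.mpr hτ, rfl⟩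
    have h3 : π ⟨k, hkN⟩ ∈ Kb := ⟨⟨k, hkN⟩, Subgroup.mem_subgroupOf.mpr hk, rfl⟩
    have h4 := hC _ h2 h1 _ h3
    rw [← map_inv, ← map_inv, ← map_mul, ← map_mul, ← map_mul] at h4
    exact h4
  · intro q hq
    have h1 : k⁻¹ * q * k ∈ Q := by
      have := (Subgroup.mem_normalizer_iff.mp (Subgroup.inv_mem _ (hQn (hKN hk))) q).mp hq
      simpa using this
    have h2 := hLQ τ hτ _ h1
    have h3 := hLQ τ hτ q hq
    have h2' : (k⁻¹ * q * k) * τ⁻¹ = τ⁻¹ * (k⁻¹ * q * k) := by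
      calc (k⁻¹ * q * k) * τ⁻¹ = τ⁻¹ * (τ * (k⁻¹ * q * k)) * τ⁻¹ := by group
        _ = τ⁻¹ * ((k⁻¹ * q * k) * τ) * τ⁻¹ := by rw [h2]
        _ = τ⁻¹ * (k⁻¹ * q * k) := by group
    calc q * (τ * k * τ⁻¹ * k⁻¹) = (q * τ) * k * τ⁻¹ * k⁻¹ := by group
      _ = (τ * q) * k * τ⁻¹ * k⁻¹ := by rw [h3]
      _ = τ * k * ((k⁻¹ * q * k) * τ⁻¹) * k⁻¹ := by group
      _ = τ * k * (τ⁻¹ * (k⁻¹ * q * k)) * k⁻¹ := by rw [h2']
      _ = τ * k * τ⁻¹ * k⁻¹ * q := by group

end Cfsg.Agent.Helper7.Glaub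

namespace Cfsg.Agent.Helper7.Glaub

open Cfsg.Agent.Helper1 Cfsg.Agent.Helper2 Cfsg.Agent.Helper3.Glaub

universe u


/-- PIECE G-two: case `O(K) = 1`, `Q` a nontrivial `2`-subgroup of `K` normalized by `N_G(K)`
(e.g. `Q = O_2(K)`). -/
theorem two_case (n : ℕ) (ih : Stmt.{u} n) {G : Type u} [Group G] [Finite G] (K L S : Subgroup G)
    (hcard : Nat.card K ≤ n + 1) (h : Hyp K L S)
    (hodd : ∀ V : Subgroup G, V ≤ K → K ≤ Subgroup.normalizer (V : Set G) →
      (Nat.card V).Coprime 2 → V = ⊥)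
    (Q : Subgroup G) (hQK : Q ≤ K)
    (hQn : Subgroup.normalizer (K : Set G) ≤ Subgroup.normalizer (Q : Set G))
    (hQ2 : IsPGroup 2 ↥Q) (hQ : Q ≠ ⊥) : Concl K L := by
  classical
  have : Fact (Nat.Prime 2) := ⟨Nat.prime_two⟩
  have hKN : K ≤ Subgroup.normalizer (K : Set G) := Subgroup.le_normalizer
  have hQS : Q ≤ S := normal_pgroup_le K S Q h.le h.pgroup h.odd hQK (hKN.trans hQn) hQ2
  have hcomm := two_case_comm n ih K L S hcard h hodd Q hQK hQn hQS hQ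
  set Z : Subgroup G := Q ⊓ Subgroup.centralizer (Q : Set G) with hZ
  have hZab : ∀ a ∈ Z, ∀ b ∈ Z, a * b = b * a := fun a ha b hb => hb.2 a ha.1
  have hKZ : ∀ g ∈ K, ∀ z ∈ Z, g * z * g⁻¹ ∈ Z := by
    intro g hg z hz
    have hgQ : g ∈ Subgroup.normalizer (Q : Set G) := hQn (hKN hg)
    exact ⟨(Subgroup.mem_normalizer_iff.mp hgQ z).mp hz.1, conj_mem_centralizer Q hgQ hz.2⟩
  have he : ∀ z ∈ Z, z ^ Nat.card Q = 1 := by
    intro z hz
    have h1 : (⟨z, hz.1⟩ : ↥Q) ^ Nat.card ↥Q = 1 := pow_card_eq_one'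
    have h2 := congrArg Subtype.val h1
    rw [Subgroup.coe_pow, Subgroup.coe_one] at h2
    exact h2
  have hcop : (S.relIndex K).Coprime (Nat.card Q) := by
    obtain ⟨a, ha⟩ := IsPGroup.iff_card.mp hQ2
    rw [ha]
    exact Nat.Coprime.pow_right a ((Nat.Prime.coprime_iff_not_dvd Nat.prime_two).mpr h.odd).symm
  have hw : ∀ τ ∈ L, IsPElt 2 τ → ∃ w ∈ K, (∀ l ∈ L, l * w = w * l) ∧
      w * τ ∈ Subgroup.centralizer (K : Set G) := by
    intro τ hτ hτ2
    have hτS : ∀ s ∈ S, s * τ = τ * s := fun s hs => h.cent hτ s hs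
    have hτK : ∀ k ∈ K, k * τ * k⁻¹ * τ⁻¹ ∈ Z := by
      intro k hk
      have h1 := Z.inv_mem (hcomm τ hτ hτ2 k hk)
      have h2 : (τ * k * τ⁻¹ * k⁻¹)⁻¹ = k * τ * k⁻¹ * τ⁻¹ := by group
      rwa [h2] at h1
    obtain ⟨w, hwZ, hwk⟩ := exists_central_twist K S Z τ h.le hZab hKZ hτS hτK (Nat.card Q) he hcop
    refine ⟨w, hQK hwZ.1, ?_, ?_⟩
    · intro l hl
      exact (h.cent hl w (hQS hwZ.1)).symm
    · intro k hk
      have := hwk k hk
      calc k * (w * τ) = (k * (w * τ) * k⁻¹) * k := by group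
        _ = w * τ * k := by rw [this]
  have hfin := isPElt_mem_centralizer K L h.norm h.perf hw
  intro τ hτ hτ2 k hk
  have hc := hfin τ hτ hτ2 k hk
  have h1 : τ * k * τ⁻¹ * k⁻¹ = 1 := by rw [← hc]; group
  rw [h1]
  exact Subgroup.one_mem _

end Cfsg.Agent.Helper7.Glaub
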