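import Mathlib
import Cfsg.Agent.Helper3.GlaubMain
import Cfsg.Agent.Helper1.GlaubAsm
import Cfsg.Agent.Helper7.GlaubTwoC

/-!
# Theorem G (perfect form of Glauberman's corollary of the Z*-theorem): final assembly

Pieces: `main_case` (helper3), `odd_case` and the induction `stmt_all_of` (helper1),
`two_case` (helper7).
-/

set_option autoImplicit false

namespace Cfsg.Agent.Helper7.Glaub

open Cfsg.Agent.Helper2 Cfsg.Agent.Helper3.Glaub

universe u

/-- The induction: Theorem G for all `K` of order at most `n`. -/
theorem stmt_all : ∀ n : ℕ, Stmt.{u} n :=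
  Cfsg.Agent.Helper1.Glaub.stmt_all_of Cfsg.Agent.Helper3.Glaub.main_case two_case

/-- **Theorem G** (perfect form of Glauberman's corollary of the Z*-theorem): if the perfect
subgroup `L` normalizes `K` and centralizes a Sylow `2`-subgroup `S` of `K`, then every `2`-element
of `L` centralizes `K` modulo `O(K)`. -/
theorem glauberman_perfect {G : Type u} [Group G] [Finite G] (K L S : Subgroup G)
    (h : Hyp K L S) : Concl K L :=
  stmt_all (Nat.card K) G K L S le_rfl h

end Cfsg.Agent.Helper7.Glaub
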