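import Cfsg.Agent.Helper9.HH3.Four3
import Cfsg.Agent.Helper9.HH3.Maschke

/-!
# The "pairs lemma" for S4415 (piece P): general lemmas

A `q`-group acting on a finite `3`-module with no nonzero fixed vector: counting; conjugation and powers.
-/

set_option autoImplicit false

namespace Cfsg.Agent.Helper7.HH3

open Cfsg.Agent.Helper9.HH3

variable {S : Type*} [Group S] {E : Type*} [AddCommGroup E] [Module (ZMod 3) E]
variable {ρ : Representation (ZMod 3) S E}

/-- counting: a `q`-group acting on a finite invariant submodule with only `0` fixed. -/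
theorem card_modEq_one {q : ℕ} [hq : Fact q.Prime] (Y : Subgroup S) (hY : IsPGroup q ↥Y)
    (M : Submodule (ZMod 3) E) [Finite ↥M] (hinv : ∀ y ∈ Y, ∀ m ∈ M, ρ y m ∈ M)
    (hfix : ∀ m ∈ M, (∀ y ∈ Y, ρ y m = m) → m = 0) : Nat.card ↥M ≡ 1 [MOD q] := by
  classical
  letI : MulAction ↥Y ↥M :=
    { smul := fun y m => ⟨ρ (y : S) (m : E), hinv y y.2 m m.2⟩
      one_smul := by
        intro m
        apply Subtype.ext
        show ρ ((1 : ↥Y) : S) (m : E) = m
        rw [Subgroup.coe_one, rho_one_apply]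
      mul_smul := by
        intro x y m
        apply Subtype.ext
        show ρ ((x * y : ↥Y) : S) (m : E) = ρ (x : S) (ρ (y : S) (m : E))
        rw [Subgroup.coe_mul, rho_mul_apply] }
  have h1 := hY.card_modEq_card_fixedPoints (α := ↥M)
  have h2 : Nat.card (MulAction.fixedPoints ↥Y ↥M) = 1 := by
    rw [Nat.card_eq_one_iff_unique]
    refine ⟨⟨?_⟩, ⟨⟨0, ?_⟩⟩⟩
    · rintro ⟨a, ha⟩ ⟨a', ha'⟩
      apply Subtype.ext
      have e1 : (a : E) = 0 := by
        apply hfix a a.2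
        intro y hy
        have := ha ⟨y, hy⟩
        exact congrArg Subtype.val this
      have e2 : (a' : E) = 0 := by
        apply hfix a' a'.2
        intro y hy
        have := ha' ⟨y, hy⟩
        exact congrArg Subtype.val this
      apply Subtype.ext
      rw [e1, e2]
    · intro y
      apply Subtype.ext
      show ρ (y : S) ((0 : ↥M) : E) = ((0 : ↥M) : E)
      rw [Submodule.coe_zero, map_zero]
  rw [h2] at h1
  exact h1

/-- conjugation and powers. -/
theorem conj_pow_eq {g c : S} {k : ℕ} (h : g * c * g⁻¹ = c ^ k) (n : ℕ) :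
    g ^ n * c * (g ^ n)⁻¹ = c ^ (k ^ n) := by
  induction n with
  | zero => simp
  | succ n ih =>
    have h1 : g ^ (n + 1) * c * (g ^ (n + 1))⁻¹ = g * (g ^ n * c * (g ^ n)⁻¹) * g⁻¹ := by
      rw [pow_succ']
      group
    rw [h1, ih]
    have h2 : g * c ^ (k ^ n) * g⁻¹ = (g * c * g⁻¹) ^ (k ^ n) := by
      rw [conj_pow]
    rw [h2, h, ← pow_mul, pow_succ, mul_comm]

/-- in a subgroup of prime order every element is a power of a given nonidentity element. -/
theorem exists_pow_of_card_prime {ℓ : ℕ} (hℓ : ℓ.Prime) (Y : Subgroup S) (hY : Nat.card ↥Y = ℓ) {c : S}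
    (hc : c ∈ Y) (hc1 : c ≠ 1) {y : S} (hy : y ∈ Y) : ∃ k : ℕ, k < ℓ ∧ y = c ^ k := by
  haveI : Fact ℓ.Prime := ⟨hℓ⟩
  haveI : Finite ↥Y := Nat.finite_of_card_ne_zero (by rw [hY]; exact hℓ.ne_zero)
  have hc' : (⟨c, hc⟩ : ↥Y) ≠ 1 := by
    intro h
    exact hc1 (congrArg Subtype.val h)
  have htop := zpowers_eq_top_of_prime_card (G := ↥Y) hY hc'
  have hord : orderOf (⟨c, hc⟩ : ↥Y) = ℓ := by
    rw [← Nat.card_zpowers, htop, Nat.card_congr (Subgroup.topEquiv).toEquiv, hY]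
  have hmem : (⟨y, hy⟩ : ↥Y) ∈ Subgroup.zpowers (⟨c, hc⟩ : ↥Y) := by
    rw [htop]
    exact Subgroup.mem_top _
  have hfin : IsOfFinOrder (⟨c, hc⟩ : ↥Y) := isOfFinOrder_of_finite _
  rw [← mem_powers_iff_mem_zpowers, Submonoid.mem_powers_iff] at hmem
  obtain ⟨k, hk⟩ := hmem
  refine ⟨k % ℓ, Nat.mod_lt _ hℓ.pos, ?_⟩
  have h1 : (⟨c, hc⟩ : ↥Y) ^ (k % ℓ) = ⟨y, hy⟩ := by
    rw [← hord, pow_mod_orderOf, hk]
  have := congrArg Subtype.val h1
  rw [Subgroup.coe_pow] at this
  exact this.symm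

end Cfsg.Agent.Helper7.HH3
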