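import Cfsg.Agent.Helper7.HH3A

/-!
# The "pairs lemma" for S4415 (piece P): the subgroup `Y` and the bound on `[E, Y]`
-/

set_option autoImplicit false

namespace Cfsg.Agent.Helper7.HH3

open Cfsg.Agent.Helper9.HH3 Module

variable {S : Type*} [Group S] {E : Type*} [AddCommGroup E] [Module (ZMod 3) E]
variable {ρ : Representation (ZMod 3) S E}

/-- the subgroup generated by the three conjugates of `c` under `b`. -/
def Yb (b c : S) : Subgroup S := Subgroup.closure {c, b * c * b⁻¹, b * (b * c * b⁻¹) * b⁻¹}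

theorem c_mem_Yb (b c : S) : c ∈ Yb b c :=
  Subgroup.subset_closure (Set.mem_insert _ _)

theorem Yb_le {b c : S} {T : Subgroup S} (hbT : ∀ t ∈ T, b * t * b⁻¹ ∈ T) (hc : c ∈ T) : Yb b c ≤ T := by
  unfold Yb
  rw [Subgroup.closure_le]
  intro x hx
  rcases hx with rfl | rfl | rfl
  · exact hc
  · exact hbT _ hc
  · exact hbT _ (hbT _ hc)

theorem inv_eq_sq {b : S} (hb3 : b ^ 3 = 1) : b⁻¹ = b * b := by
  have : b * b * b = 1 := by rw [← hb3, pow_succ, pow_two]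
  exact inv_eq_of_mul_eq_one_left this

theorem Yb_conj {b c : S} (hb3 : b ^ 3 = 1) : ∀ y ∈ Yb b c, b * y * b⁻¹ ∈ Yb b c := by
  have hmap : (Yb b c).map (MulAut.conj b).toMonoidHom ≤ Yb b c := by
    unfold Yb
    rw [MonoidHom.map_closure, Subgroup.closure_le]
    rintro x ⟨y, hy, rfl⟩
    simp only [MulEquiv.coe_toMonoidHom, MulAut.conj_apply]
    rcases hy with rfl | rfl | rfl
    · exact Subgroup.subset_closure (Set.mem_insert_of_mem _ (Set.mem_insert _ _))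
    · exact Subgroup.subset_closure (Set.mem_insert_of_mem _ (Set.mem_insert_of_mem _ rfl))
    · have : b * (b * (b * c * b⁻¹) * b⁻¹) * b⁻¹ = c := by
        have e1 : b * b = b⁻¹ := (inv_eq_sq hb3).symm
        have e2 : b⁻¹ * b⁻¹ = b := by rw [← mul_inv_rev, e1, inv_inv]
        calc b * (b * (b * c * b⁻¹) * b⁻¹) * b⁻¹ = (b * b) * b * c * (b⁻¹ * (b⁻¹ * b⁻¹)) := by
              simp only [mul_assoc]
          _ = c := by rw [e1, e2]; simp
      rw [this]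
      exact Subgroup.subset_closure (Set.mem_insert _ _)
  intro y hy
  apply hmap
  exact ⟨y, hy, by simp⟩

theorem conj_inv_eq {b : S} (hb3 : b ^ 3 = 1) (y : S) : b⁻¹ * y * b = b * (b * y * b⁻¹) * b⁻¹ := by
  have e1 : b * b = b⁻¹ := (inv_eq_sq hb3).symm
  have e2 : b⁻¹ * b⁻¹ = b := by rw [← mul_inv_rev, e1, inv_inv]
  calc b⁻¹ * y * b = (b * b) * y * (b⁻¹ * b⁻¹) := by rw [e1, e2]
    _ = b * (b * y * b⁻¹) * b⁻¹ := by group

theorem Yb_conj_inv {b c : S} (hb3 : b ^ 3 = 1) : ∀ y ∈ Yb b c, b⁻¹ * y * b ∈ Yb b c := by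
  intro y hy
  have h1 := conj_inv_eq hb3 y
  rw [h1]
  exact Yb_conj hb3 _ (Yb_conj hb3 _ hy)

theorem conj_inv_mem {b : S} (hb3 : b ^ 3 = 1) {T : Subgroup S} (hbT : ∀ t ∈ T, b * t * b⁻¹ ∈ T) :
    ∀ t ∈ T, b⁻¹ * t * b ∈ T := by
  intro t ht
  have h1 := conj_inv_eq hb3 t
  rw [h1]
  exact hbT _ (hbT _ ht)

/-- `Y ≤ ⟨b, t⁻¹ b t⟩` for `c = b⁻¹ (t⁻¹ b t)`. -/
theorem Yb_le_closure (b t : S) :
    Yb b (b⁻¹ * (t⁻¹ * b * t)) ≤ Subgroup.closure {b, t⁻¹ * b * t} := by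
  have hb : b ∈ Subgroup.closure ({b, t⁻¹ * b * t} : Set S) :=
    Subgroup.subset_closure (Set.mem_insert _ _)
  have ha : t⁻¹ * b * t ∈ Subgroup.closure ({b, t⁻¹ * b * t} : Set S) :=
    Subgroup.subset_closure (Set.mem_insert_of_mem _ rfl)
  have hc : b⁻¹ * (t⁻¹ * b * t) ∈ Subgroup.closure ({b, t⁻¹ * b * t} : Set S) :=
    Subgroup.mul_mem _ (Subgroup.inv_mem _ hb) ha
  unfold Yb
  rw [Subgroup.closure_le]
  intro x hx
  rcases hx with rfl | rfl | rfl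
  · exact hc
  · exact Subgroup.mul_mem _ (Subgroup.mul_mem _ hb hc) (Subgroup.inv_mem _ hb)
  · exact Subgroup.mul_mem _ (Subgroup.mul_mem _ hb
      (Subgroup.mul_mem _ (Subgroup.mul_mem _ hb hc) (Subgroup.inv_mem _ hb))) (Subgroup.inv_mem _ hb)

variable [Finite E]

/-- the range of `b - 1` has dimension at most 2. -/
theorem finrank_range_nb_le {b : S} {v₀ : E} (hc : Cub ρ b v₀) :
    finrank (ZMod 3) ↥(LinearMap.range (nb ρ b)) ≤ 2 := by
  classical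
  have h1 : LinearMap.range (nb ρ b) ≤
      Submodule.span (ZMod 3) ({nb ρ b v₀, nb ρ b (nb ρ b v₀)} : Set E) := by
    rintro x ⟨y, rfl⟩
    obtain ⟨c, d, hcd⟩ := hc.rng y
    rw [hcd]
    apply Submodule.add_mem
    · exact Submodule.smul_mem _ _ (Submodule.subset_span (Set.mem_insert _ _))
    · exact Submodule.smul_mem _ _ (Submodule.subset_span (Set.mem_insert_of_mem _ rfl))
  have h2 : finrank (ZMod 3) ↥(Submodule.span (ZMod 3) ({nb ρ b v₀, nb ρ b (nb ρ b v₀)} : Set E)) ≤ 2 := by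
    have h3 := finrank_span_finset_le_card (R := ZMod 3)
      ({nb ρ b v₀, nb ρ b (nb ρ b v₀)} : Finset E)
    have h4 : (({nb ρ b v₀, nb ρ b (nb ρ b v₀)} : Finset E) : Set E) =
        ({nb ρ b v₀, nb ρ b (nb ρ b v₀)} : Set E) := by
      simp
    rw [h4] at h3
    exact h3.trans (Finset.card_le_two)
  exact (Submodule.finrank_mono h1).trans h2

/-- the bound `dim [E, Y] ≤ 4`. -/
theorem finrank_commE_Yb_le {b : S} {v₀ : E} (hc : Cub ρ b v₀) (t : S) :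
    finrank (ZMod 3) ↥(commE ρ (Yb b (b⁻¹ * (t⁻¹ * b * t)))) ≤ 4 := by
  classical
  set P := LinearMap.range (nb ρ b) with hP
  set W := P ⊔ P.map (ρ t⁻¹ : E →ₗ[ZMod 3] E) with hW
  have h1 : commE ρ (Yb b (b⁻¹ * (t⁻¹ * b * t))) ≤ W := by
    refine (commE_mono ρ (Yb_le_closure b t)).trans ?_
    apply commE_closure_le
    intro a ha v
    rcases ha with rfl | rfl
    · apply Submodule.mem_sup_left
      exact ⟨v, rfl⟩
    · apply Submodule.mem_sup_right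
      refine ⟨nb ρ b (ρ t v), ⟨ρ t v, rfl⟩, ?_⟩
      rw [nb_apply, map_sub, rho_inv_apply, rho_mul_apply, rho_mul_apply]
  have h2 : finrank (ZMod 3) ↥W ≤ 4 := by
    have h3 : finrank (ZMod 3) ↥W ≤ finrank (ZMod 3) ↥P +
        finrank (ZMod 3) ↥(P.map (ρ t⁻¹ : E →ₗ[ZMod 3] E)) :=
      Submodule.finrank_add_le_finrank_add_finrank P (P.map (ρ t⁻¹ : E →ₗ[ZMod 3] E))
    have h4 : finrank (ZMod 3) ↥P ≤ 2 := finrank_range_nb_le hc
    have h5 : finrank (ZMod 3) ↥(P.map (ρ t⁻¹ : E →ₗ[ZMod 3] E)) ≤ finrank (ZMod 3) ↥P :=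
      Submodule.finrank_map_le _ _
    omega
  exact (Submodule.finrank_mono h1).trans h2

/-- the arithmetic: `q ∣ 3 ^ d - 1`, `d ≤ 4`, `q` an odd prime. -/
theorem arith_cases {q d : ℕ} (hq : q.Prime) (hq2 : q ≠ 2) (hd : d ≤ 4) (h : 3 ^ d ≡ 1 [MOD q]) :
    d = 0 ∨ (q = 13 ∧ d = 3) ∨ (q = 5 ∧ d = 4) := by
  have hdvd : q ∣ 3 ^ d - 1 := (Nat.modEq_iff_dvd' (Nat.one_le_pow _ _ (by norm_num))).mp h.symm
  interval_cases d
  · left; rfl
  · exfalso
    have : q ∣ 2 := hdvd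
    exact hq2 ((Nat.prime_dvd_prime_iff_eq hq Nat.prime_two).mp this)
  · exfalso
    have : q ∣ 2 ^ 3 := hdvd
    exact hq2 ((Nat.prime_dvd_prime_iff_eq hq Nat.prime_two).mp (hq.dvd_of_dvd_pow this))
  · right; left
    have : q ∣ 2 * 13 := hdvd
    rcases (Nat.Prime.dvd_mul hq).mp this with h2 | h13
    · exact absurd ((Nat.prime_dvd_prime_iff_eq hq Nat.prime_two).mp h2) hq2
    · exact ⟨(Nat.prime_dvd_prime_iff_eq hq (by norm_num)).mp h13, rfl⟩
  · right; right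
    have : q ∣ 2 ^ 4 * 5 := hdvd
    rcases (Nat.Prime.dvd_mul hq).mp this with h2 | h5
    · exact absurd ((Nat.prime_dvd_prime_iff_eq hq Nat.prime_two).mp (hq.dvd_of_dvd_pow h2)) hq2
    · exact ⟨(Nat.prime_dvd_prime_iff_eq hq (by norm_num)).mp h5, rfl⟩

end Cfsg.Agent.Helper7.HH3
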