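import Cfsg.Agent.Helper7.HH3B

/-!
# The "pairs lemma" for S4415 (piece P): the core steps

`Y` a `b`-invariant `3'`-subgroup: if `b` does not centralize `Y` then `im (b-1) ≤ [E,Y]`;
the counting congruence; the final contradiction for `q = 13`.
-/

set_option autoImplicit false

namespace Cfsg.Agent.Helper7.HH3

open Cfsg.Agent.Helper9.HH3 Module

variable {S : Type*} [Group S] {E : Type*} [AddCommGroup E] [Module (ZMod 3) E]
variable {ρ : Representation (ZMod 3) S E}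

/-- if `ρ b x = x` then `ρ b⁻¹ x = x`. -/
theorem rho_inv_of_fixed {b : S} {x : E} (h : ρ b x = x) : ρ b⁻¹ x = x := by
  have := rho_inv_apply ρ b x
  rw [h] at this
  exact this

/-- steps (3b), (3c): if `b` does not centralize the `b`-invariant `3'`-group `Y`, then `b` is trivial on
`C_E(Y)` and so `im (b - 1) ≤ [E, Y]`. -/
theorem nb_mem_commE_of_not_central {b : S} {v₀ : E} (hc : Cub ρ b v₀) (Y : Subgroup S) [Finite ↥Y]
    (h3 : ¬ 3 ∣ Nat.card ↥Y) (hbY : ∀ y ∈ Y, b * y * b⁻¹ ∈ Y) (hbY' : ∀ y ∈ Y, b⁻¹ * y * b ∈ Y)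
    {y₀ : S} (hy₀ : y₀ ∈ Y) (hne : b * y₀ * b⁻¹ ≠ y₀) (x : E) : nb ρ b x ∈ commE ρ Y := by
  have hCM := isCompl_fixE_commE ρ Y h3
  have hC : ∀ v ∈ fixE ρ Y, ρ b v ∈ fixE ρ Y := fun v hv => map_mem_fixE ρ hbY' hv
  have hM : ∀ v ∈ commE ρ Y, ρ b v ∈ commE ρ Y := fun v hv => map_mem_commE ρ hbY hv
  rcases hc.triv_or_triv hCM hC hM with h1 | h1
  · exact Cub.nb_mem_of_triv hCM hM h1 x
  · exfalso
    apply hne
    have hg : b * y₀ * b⁻¹ * y₀⁻¹ ∈ Y := Y.mul_mem (hbY y₀ hy₀) (Y.inv_mem hy₀)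
    have hone : b * y₀ * b⁻¹ * y₀⁻¹ = 1 := by
      apply eq_one_of_trivial_on_commE ρ hc.faith Y h3 hg
      intro m hm
      have e1 : ρ y₀⁻¹ m ∈ commE ρ Y := commE_self_invariant ρ (Y.inv_mem hy₀) hm
      rw [rho_mul_apply, rho_mul_apply, rho_mul_apply, rho_inv_of_fixed (h1 _ e1),
        rho_apply_inv, h1 m hm]
    calc b * y₀ * b⁻¹ = (b * y₀ * b⁻¹ * y₀⁻¹) * y₀ := by group
      _ = y₀ := by rw [hone, one_mul]

/-- step (2): the counting congruence for `[E, Y]`. -/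
theorem card_commE_modEq_one [Finite E] {q : ℕ} [Fact q.Prime] (Y : Subgroup S) [Finite ↥Y]
    (hY : IsPGroup q ↥Y) (h3 : ¬ 3 ∣ Nat.card ↥Y) : Nat.card ↥(commE ρ Y) ≡ 1 [MOD q] := by
  apply card_modEq_one Y hY (commE ρ Y)
  · intro y hy m hm
    exact commE_self_invariant ρ hy hm
  · intro m hm hfix
    exact eq_zero_of_mem_fixE_of_mem_commE ρ Y h3 ((mem_fixE ρ).2 hfix) hm

/-- step (3a): if `b` commutes with `c = b⁻¹ (t⁻¹ b t)` and `c` has order prime to `3`, then `c = 1`. -/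
theorem eq_one_of_commute {b t : S} (hb3 : b ^ 3 = 1)
    (hcomm : b * (b⁻¹ * (t⁻¹ * b * t)) * b⁻¹ = b⁻¹ * (t⁻¹ * b * t))
    (hcop : (orderOf (b⁻¹ * (t⁻¹ * b * t))).Coprime 3) : b⁻¹ * (t⁻¹ * b * t) = 1 := by
  set c := b⁻¹ * (t⁻¹ * b * t) with hc
  have hcm : Commute b c := by
    have : b * c = c * b := by
      calc b * c = (b * c * b⁻¹) * b := by group
        _ = c * b := by rw [hcomm]
    exact this
  have ha : t⁻¹ * b * t = b * c := by rw [hc]; group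
  have ha3 : (t⁻¹ * b * t) ^ 3 = 1 := by
    have : (t⁻¹ * b * t) ^ 3 = t⁻¹ * b ^ 3 * t := by
      rw [pow_succ, pow_succ, pow_one, pow_succ, pow_succ, pow_one]; group
    rw [this, hb3]; group
  rw [ha, hcm.mul_pow, hb3, one_mul] at ha3
  have hdvd : orderOf c ∣ 3 := orderOf_dvd_of_pow_eq_one ha3
  have h1 : orderOf c = 1 := by
    have := Nat.Coprime.eq_one_of_dvd hcop hdvd
    exact this
  exact orderOf_eq_one_iff.1 h1

end Cfsg.Agent.Helper7.HH3
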