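import Cfsg.Agent.Helper7.HH3C

/-!
# The "pairs lemma" for S4415 (piece P): orders `5` and `13`
-/

set_option autoImplicit false

namespace Cfsg.Agent.Helper7.HH3

open Cfsg.Agent.Helper9.HH3 Module

variable {S : Type*} [Group S] {E : Type*} [AddCommGroup E] [Module (ZMod 3) E]
variable {ρ : Representation (ZMod 3) S E}

/-- a nontrivial `q`-group whose order divides a number not divisible by `q²` has order `q`. -/
theorem card_eq_prime_of_dvd {q M : ℕ} (hq : q.Prime) (Y : Subgroup S) [Finite ↥Y] (hY : IsPGroup q ↥Y)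
    (hdvd : Nat.card ↥Y ∣ M) (hM : ¬ q ^ 2 ∣ M) {c : S} (hc : c ∈ Y) (hc1 : c ≠ 1) :
    Nat.card ↥Y = q := by
  haveI : Fact q.Prime := ⟨hq⟩
  obtain ⟨n, hn⟩ := IsPGroup.iff_card.1 hY
  have hn2 : n < 2 := by
    by_contra h
    push Not at h
    apply hM
    refine dvd_trans ?_ hdvd
    rw [hn]
    exact pow_dvd_pow q h
  have hn0 : n ≠ 0 := by
    rintro rfl
    rw [pow_zero] at hn
    have hsub : Subsingleton ↥Y := (Nat.card_eq_one_iff_unique.1 hn).1
    have : (⟨c, hc⟩ : ↥Y) = 1 := Subsingleton.elim _ _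
    exact hc1 (congrArg Subtype.val this)
  have : n = 1 := by omega
  rw [hn, this, pow_one]

/-- an element of a subgroup of prime order `ℓ` has order `ℓ` if it is not `1`. -/
theorem orderOf_eq_of_card_prime {ℓ : ℕ} (hℓ : ℓ.Prime) (Y : Subgroup S) (hY : Nat.card ↥Y = ℓ) {c : S}
    (hc : c ∈ Y) (hc1 : c ≠ 1) : orderOf c = ℓ := by
  haveI : Fact ℓ.Prime := ⟨hℓ⟩
  haveI : Finite ↥Y := Nat.finite_of_card_ne_zero (by rw [hY]; exact hℓ.ne_zero)
  apply orderOf_eq_prime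
  · have h1 : (⟨c, hc⟩ : ↥Y) ^ ℓ = 1 := by
      rw [← hY]
      exact pow_card_eq_one'
    have := congrArg Subtype.val h1
    rw [Subgroup.coe_pow] at this
    exact this
  · exact hc1

/-- `b` of order `3` normalizing a group of order `5` centralizes it. -/
theorem conj_eq_of_card_five {b c : S} (hb3 : b ^ 3 = 1) (Y : Subgroup S) (hY : Nat.card ↥Y = 5)
    (hc : c ∈ Y) (hc1 : c ≠ 1) (hbc : b * c * b⁻¹ ∈ Y) : b * c * b⁻¹ = c := by
  obtain ⟨k, hk, hk'⟩ := exists_pow_of_card_prime (by norm_num) Y hY hc hc1 hbc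
  have h3 := conj_pow_eq hk' 3
  rw [hb3, inv_one, one_mul, mul_one] at h3
  have hord := orderOf_eq_of_card_prime (by norm_num) Y hY hc hc1
  have h4 : c ^ 1 = c ^ (k ^ 3) := by rw [pow_one]; exact h3
  rw [pow_eq_pow_iff_modEq, hord] at h4
  have hk1 : k = 1 := by
    interval_cases k <;> first | rfl | (exfalso; revert h4; decide)
  rw [hk', hk1, pow_one]

/-- an involution normalizing a group of order `13` centralizes or inverts it. -/
theorem conj_eq_or_inv_of_card_thirteen {z c : S} (hz : z * z = 1) (Y : Subgroup S)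
    (hY : Nat.card ↥Y = 13) (hc : c ∈ Y) (hc1 : c ≠ 1) (hzc : z * c * z⁻¹ ∈ Y) :
    z * c * z⁻¹ = c ∨ z * c * z⁻¹ = c⁻¹ := by
  obtain ⟨k, hk, hk'⟩ := exists_pow_of_card_prime (by norm_num) Y hY hc hc1 hzc
  have h3 := conj_pow_eq hk' 2
  have hz2 : z ^ 2 = 1 := by rw [pow_two]; exact hz
  rw [hz2, inv_one, one_mul, mul_one] at h3
  have hord := orderOf_eq_of_card_prime (by norm_num) Y hY hc hc1
  have h4 : c ^ 1 = c ^ (k ^ 2) := by rw [pow_one]; exact h3
  rw [pow_eq_pow_iff_modEq, hord] at h4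
  have hk1 : k = 1 ∨ k = 12 := by
    interval_cases k <;> first | (left; rfl) | (right; rfl) | (exfalso; revert h4; decide)
  rcases hk1 with hk1 | hk1
  · left
    rw [hk', hk1, pow_one]
  · right
    rw [hk', hk1]
    have h13 : c ^ 13 = 1 := by rw [← hord]; exact pow_orderOf_eq_one c
    apply eq_inv_of_mul_eq_one_left
    rw [← pow_succ]
    exact h13

/-- step (6): the final contradiction for `q = 13`. -/
theorem false_of_central_thirteen [Finite E] {b : S} {v₀ : E} (hc : Cub ρ b v₀) {z₁ z₂ z₃ : S}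
    (hf : FourCfg b z₁ z₂ z₃) (Y : Subgroup S) [Finite ↥Y] (hY : IsPGroup 13 ↥Y)
    (h3 : ¬ 3 ∣ Nat.card ↥Y) (hz : ∀ y ∈ Y, z₁ * y * z₁⁻¹ = y)
    (hnb : ∀ x, nb ρ b x ∈ commE ρ Y) (hd : finrank (ZMod 3) ↥(commE ρ Y) = 3) : False := by
  haveI : Fact (Nat.Prime 13) := ⟨by norm_num⟩
  obtain ⟨w, hw0, hw⟩ := hf.exists_w1 hc
  have hw1 : ρ z₁ w = w := hw.1
  have hbw := hf.isW1_b hw
  have hbw2 : ρ z₂ (ρ b w) = ρ b w := hbw.1
  have hbw3 : ρ z₃ (ρ b w) = -ρ b w := hbw.2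
  have hbw1 : ρ z₁ (ρ b w) = -ρ b w := by
    rw [← hf.rho23, hbw3, map_neg, hbw2]
  have hp : nb ρ b w ∈ commE ρ Y := hnb w
  have hzp : ρ z₁ (nb ρ b w) = -ρ b w - w := by
    rw [nb_apply, map_sub, hbw1, hw1]
  have hzinv : ∀ m ∈ commE ρ Y, ρ z₁ m ∈ commE ρ Y := by
    intro m hm
    apply map_mem_commE ρ _ hm
    intro y hy
    rw [hz y hy]
    exact hy
  have hwV : w ∈ commE ρ Y := by
    have h1 : nb ρ b w + ρ z₁ (nb ρ b w) ∈ commE ρ Y := (commE ρ Y).add_mem hp (hzinv _ hp)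
    have h2 : w = (nb ρ b w + ρ z₁ (nb ρ b w)) + (w + w + w) := by
      rw [hzp, nb_apply]
      abel
    rw [add_add_self_eq_zero, add_zero] at h2
    rw [h2]
    exact h1
  -- the fixed space of `z₁` on `V`
  set Vp : Submodule (ZMod 3) E := commE ρ Y ⊓ LinearMap.ker (nb ρ z₁) with hVp
  have hmemVp : ∀ m, m ∈ Vp ↔ m ∈ commE ρ Y ∧ ρ z₁ m = m := by
    intro m
    rw [hVp, Submodule.mem_inf, LinearMap.mem_ker, nb_apply, sub_eq_zero]
  have hcomm : ∀ y ∈ Y, z₁ * y = y * z₁ := by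
    intro y hy
    calc z₁ * y = (z₁ * y * z₁⁻¹) * z₁ := by group
      _ = y * z₁ := by rw [hz y hy]
  have hinv : ∀ y ∈ Y, ∀ m ∈ Vp, ρ y m ∈ Vp := by
    intro y hy m hm
    rw [hmemVp] at hm ⊢
    refine ⟨commE_self_invariant ρ hy hm.1, ?_⟩
    rw [← rho_mul_apply, hcomm y hy, rho_mul_apply, hm.2]
  have hfix : ∀ m ∈ Vp, (∀ y ∈ Y, ρ y m = m) → m = 0 := by
    intro m hm hfx
    exact eq_zero_of_mem_fixE_of_mem_commE ρ Y h3 ((mem_fixE ρ).2 hfx) ((hmemVp m).1 hm).1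
  have hcard := card_modEq_one Y hY Vp hinv hfix
  have hcard2 : Nat.card ↥Vp = 3 ^ finrank (ZMod 3) ↥Vp := by
    rw [Module.natCard_eq_pow_finrank (K := ZMod 3), Nat.card_zmod]
  have hle : finrank (ZMod 3) ↥Vp ≤ 3 := by
    have : finrank (ZMod 3) ↥Vp ≤ finrank (ZMod 3) ↥(commE ρ Y) :=
      Submodule.finrank_mono inf_le_left
    rw [hd] at this
    exact this
  have hpos : 0 < finrank (ZMod 3) ↥Vp := by
    rw [Module.finrank_pos_iff_exists_ne_zero]
    refine ⟨⟨w, (hmemVp w).2 ⟨hwV, hw1⟩⟩, ?_⟩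
    intro h
    exact hw0 (congrArg Subtype.val h)
  have he : finrank (ZMod 3) ↥Vp = 3 := by
    rw [hcard2] at hcard
    generalize finrank (ZMod 3) ↥Vp = e at hcard hle hpos
    interval_cases e
    · exfalso; revert hcard; decide
    · exfalso; revert hcard; decide
    · rfl
  have heq : Vp = commE ρ Y := by
    apply Submodule.eq_of_le_of_finrank_eq inf_le_left
    rw [he, hd]
  have hpp : nb ρ b w ∈ Vp := by rw [heq]; exact hp
  have h5 := ((hmemVp _).1 hpp).2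
  rw [hzp, nb_apply] at h5
  have h6 : ρ b w + ρ b w = 0 := by
    have : ρ b w + ρ b w = (ρ b w - w) - (-ρ b w - w) := by abel
    rw [this, h5, sub_self]
  have h7 : ρ b w = 0 := by
    have := add_add_self_eq_zero (ρ b w)
    rw [h6, zero_add] at this
    exact this
  apply hw0
  apply rho_injective_apply ρ b
  rw [h7, map_zero]

end Cfsg.Agent.Helper7.HH3
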