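import Cfsg.Agent.Helper7.HH3D

/-!
# The "pairs lemma" for S4415 (piece P): dimension bounds for `q = 13`
-/

set_option autoImplicit false

namespace Cfsg.Agent.Helper7.HH3

open Cfsg.Agent.Helper9.HH3 Module

variable {S : Type*} [Group S] {E : Type*} [AddCommGroup E] [Module (ZMod 3) E]
variable {ρ : Representation (ZMod 3) S E}

/-- a weight line has dimension at most `1`. -/
theorem finrank_W1_le [Finite E] {b : S} {v₀ : E} (hc : Cub ρ b v₀) {z₁ z₂ z₃ : S}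
    (hf : FourCfg b z₁ z₂ z₃) : finrank (ZMod 3) ↥(W1 ρ z₁ z₂) ≤ 1 := by
  obtain ⟨w, hw0, hw⟩ := hf.exists_w1 hc
  have hle : W1 ρ z₁ z₂ ≤ Submodule.span (ZMod 3) {w} := by
    intro x hx
    obtain ⟨α, rfl⟩ := hf.w1_span hc hw0 hw hx
    exact Submodule.smul_mem _ _ (Submodule.mem_span_singleton_self w)
  calc finrank (ZMod 3) ↥(W1 ρ z₁ z₂) ≤ finrank (ZMod 3) ↥(Submodule.span (ZMod 3) {w}) :=
        Submodule.finrank_mono hle
    _ = 1 := finrank_span_singleton hw0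

/-- the sum of the weight lines has dimension at most `3`. -/
theorem finrank_U_le [Finite E] {b : S} {v₀ : E} (hc : Cub ρ b v₀) {z₁ z₂ z₃ : S}
    (hf : FourCfg b z₁ z₂ z₃) : finrank (ZMod 3) ↥(hf.U ρ) ≤ 3 := by
  have h1 := finrank_W1_le hc hf
  have h2 := finrank_W1_le hc hf.shift
  have h3 := finrank_W1_le hc hf.shift.shift
  have e1 := Submodule.finrank_add_le_finrank_add_finrank (W1 ρ z₁ z₂ ⊔ W1 ρ z₂ z₃) (W1 ρ z₃ z₁)
  have e2 := Submodule.finrank_add_le_finrank_add_finrank (W1 ρ z₁ z₂) (W1 ρ z₂ z₃)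
  show finrank (ZMod 3) ↥(W1 ρ z₁ z₂ ⊔ W1 ρ z₂ z₃ ⊔ W1 ρ z₃ z₁) ≤ 3
  omega

/-- `z₁ - 1` maps into the sum of the weight lines. -/
theorem z1_sub_mem_U {b : S} {z₁ z₂ z₃ : S} (hf : FourCfg b z₁ z₂ z₃) (v : E) :
    ρ z₁ v - v ∈ hf.U ρ := by
  have h2 : v + ρ z₂ v - ρ z₃ v - ρ z₁ v ∈ hf.U ρ :=
    hf.W1'_le_U ((mem_W1 (ρ := ρ)).2 (hf.shift.isW1_proj v))
  have h3 : v + ρ z₃ v - ρ z₁ v - ρ z₂ v ∈ hf.U ρ :=
    hf.W1''_le_U ((mem_W1 (ρ := ρ)).2 (hf.shift.shift.isW1_proj v))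
  have e : ρ z₁ v - v = ((v + ρ z₂ v - ρ z₃ v - ρ z₁ v) + (v + ρ z₃ v - ρ z₁ v - ρ z₂ v)) +
      ((ρ z₁ v - v) + (ρ z₁ v - v) + (ρ z₁ v - v)) := by abel
  rw [add_add_self_eq_zero, add_zero] at e
  rw [e]
  exact (hf.U ρ).add_mem h2 h3

/-- `z₂ - 1` maps into the sum of the weight lines. -/
theorem z2_sub_mem_U {b : S} {z₁ z₂ z₃ : S} (hf : FourCfg b z₁ z₂ z₃) (v : E) :
    ρ z₂ v - v ∈ hf.U ρ := by
  have h1 : v + ρ z₁ v - ρ z₂ v - ρ z₃ v ∈ hf.U ρ :=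
    hf.W1_le_U ((mem_W1 (ρ := ρ)).2 (hf.isW1_proj v))
  have h3 : v + ρ z₃ v - ρ z₁ v - ρ z₂ v ∈ hf.U ρ :=
    hf.W1''_le_U ((mem_W1 (ρ := ρ)).2 (hf.shift.shift.isW1_proj v))
  have e : ρ z₂ v - v = ((v + ρ z₁ v - ρ z₂ v - ρ z₃ v) + (v + ρ z₃ v - ρ z₁ v - ρ z₂ v)) +
      ((ρ z₂ v - v) + (ρ z₂ v - v) + (ρ z₂ v - v)) := by abel
  rw [add_add_self_eq_zero, add_zero] at e
  rw [e]
  exact (hf.U ρ).add_mem h1 h3

/-- the commutator space of the four-group lies in the sum of the weight lines. -/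
theorem commE_four_le_U {b : S} {z₁ z₂ z₃ : S} (hf : FourCfg b z₁ z₂ z₃) :
    commE ρ (Subgroup.closure {z₁, z₂}) ≤ hf.U ρ := by
  apply commE_closure_le ρ
  intro a ha v
  rcases ha with rfl | ha
  · exact z1_sub_mem_U hf v
  · rw [Set.mem_singleton_iff] at ha
    rw [ha]
    exact z2_sub_mem_U hf v

/-- `p₁ = (b-1) v₀` and `p₂ = (b-1)² v₀` are linearly independent. -/
theorem linearIndependent_p {b : S} {v₀ : E} (hc : Cub ρ b v₀) :
    LinearIndependent (ZMod 3) ![nb ρ b v₀, nb ρ b (nb ρ b v₀)] := by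
  rw [LinearIndependent.pair_iff]
  intro s t hst
  have h1 := congrArg (nb ρ b) hst
  rw [map_add, map_smul, map_smul, hc.nb_p1, smul_zero, add_zero, map_zero] at h1
  have hs : s = 0 := by
    rcases smul_eq_zero.1 h1 with h | h
    · exact h
    · exact absurd h hc.top
  rw [hs, zero_smul, zero_add] at hst
  refine ⟨hs, ?_⟩
  rcases smul_eq_zero.1 hst with h | h
  · exact h
  · exact absurd h hc.top

/-- two subspaces of dimension at most `3` sharing two independent vectors span at most dimension `4`. -/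
theorem finrank_sup_le_four [Finite E] (U V : Submodule (ZMod 3) E)
    (hU : finrank (ZMod 3) ↥U ≤ 3) (hV : finrank (ZMod 3) ↥V ≤ 3) {p₁ p₂ : E}
    (hp : LinearIndependent (ZMod 3) ![p₁, p₂]) (h1U : p₁ ∈ U) (h2U : p₂ ∈ U) (h1V : p₁ ∈ V)
    (h2V : p₂ ∈ V) : finrank (ZMod 3) ↥(U ⊔ V) ≤ 4 := by
  have hspan : Submodule.span (ZMod 3) (Set.range ![p₁, p₂]) ≤ U ⊓ V := by
    rw [Submodule.span_le]
    rintro x ⟨i, rfl⟩
    fin_cases i
    · exact ⟨h1U, h1V⟩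
    · exact ⟨h2U, h2V⟩
  have h2 : 2 ≤ finrank (ZMod 3) ↥(U ⊓ V) := by
    calc 2 = finrank (ZMod 3) ↥(Submodule.span (ZMod 3) (Set.range ![p₁, p₂])) := by
          rw [finrank_span_eq_card hp]; rfl
      _ ≤ _ := Submodule.finrank_mono hspan
  have := Submodule.finrank_sup_add_finrank_inf_eq U V
  omega

end Cfsg.Agent.Helper7.HH3
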