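import Cfsg.Agent.Helper7.HH3E
import Cfsg.Agent.Helper1.HH3A

/-!
# The "pairs lemma" for S4415 (piece P): assembly
-/

set_option autoImplicit false

namespace Cfsg.Agent.Helper7.HH3

open Cfsg.Agent.Helper9.HH3 Module

variable {S : Type*} [Group S] {E : Type*} [AddCommGroup E] [Module (ZMod 3) E]
variable {ρ : Representation (ZMod 3) S E}

theorem card_commE_eq_pow [Finite E] (X : Subgroup S) :
    Nat.card ↥(commE ρ X) = 3 ^ finrank (ZMod 3) ↥(commE ρ X) := by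
  rw [Module.natCard_eq_pow_finrank (K := ZMod 3), Nat.card_zmod]

theorem not_three_dvd_of_le {N X : Subgroup S} [Finite ↥N] (hN : (Nat.card ↥N).Coprime 3)
    (hXN : X ≤ N) : ¬ 3 ∣ Nat.card ↥X := by
  intro h
  have h1 : 3 ∣ Nat.card ↥N := dvd_trans h (Subgroup.card_dvd_of_le hXN)
  have := Nat.Coprime.eq_one_of_dvd hN.symm h1
  omega

/-- an element centralizing `c` centralizes every power of `c`. -/
theorem conj_pow_eq_of_conj_eq {z c : S} (h : z * c * z⁻¹ = c) (k : ℕ) :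
    z * c ^ k * z⁻¹ = c ^ k := by
  rw [← conj_pow, h]

/-- steps (5), (6): the case `q = 13`, `d = 3` is impossible. -/
theorem false_of_thirteen [Finite S] [Group.IsSolvable S] [Finite E] {b : S} {v₀ : E}
    (hc : Cub ρ b v₀) {z₁ z₂ z₃ : S} (hf : FourCfg b z₁ z₂ z₃) (N : Subgroup S)
    (hN : (Nat.card ↥N).Coprime 3) (hz1 : z₁ ∈ N) (hz2 : z₂ ∈ N) (Y : Subgroup S) (hYN : Y ≤ N)
    (hY : IsPGroup 13 ↥Y) (hnb : ∀ x, nb ρ b x ∈ commE ρ Y)
    (hd : finrank (ZMod 3) ↥(commE ρ Y) = 3) {c : S} (hcY : c ∈ Y) (hc1 : c ≠ 1) : False := by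
  have h3Y : ¬ 3 ∣ Nat.card ↥Y := not_three_dvd_of_le hN hYN
  -- `|Y| = 13`
  have hcardV : Nat.card ↥(commE ρ Y) = 3 ^ 3 := by rw [card_commE_eq_pow, hd]
  have hL5 := Cfsg.Agent.Helper1.HH3.card_dvd_of_faithful_on ρ Y (commE ρ Y)
    (fun y hy m hm => commE_self_invariant ρ hy hm)
    (fun y hy h => eq_one_of_trivial_on_commE ρ hc.faith Y h3Y hy h) 3 hcardV
  have hprod3 : (∏ i ∈ Finset.range 3, (3 ^ 3 - 3 ^ i)) = 11232 := by decide
  rw [hprod3] at hL5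
  have hY13 : Nat.card ↥Y = 13 :=
    card_eq_prime_of_dvd (by norm_num) Y hY hL5 (by norm_num) hcY hc1
  -- the group `G₁`
  set G₁ : Subgroup S := Subgroup.closure {z₁, z₂} ⊔ Y with hG₁
  have hQG : Subgroup.closure {z₁, z₂} ≤ G₁ := le_sup_left
  have hYG : Y ≤ G₁ := le_sup_right
  have hz1G : z₁ ∈ G₁ := hQG (Subgroup.subset_closure (by simp))
  have hz2G : z₂ ∈ G₁ := hQG (Subgroup.subset_closure (by simp))
  have hz3G : z₃ ∈ G₁ := by rw [← hf.mul12]; exact G₁.mul_mem hz1G hz2G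
  have hGN : G₁ ≤ N := by
    apply sup_le _ hYN
    rw [Subgroup.closure_le]
    rintro x (rfl | hx)
    · exact hz1
    · rw [Set.mem_singleton_iff] at hx
      rw [hx]
      exact hz2
  have h3G : ¬ 3 ∣ Nat.card ↥G₁ := not_three_dvd_of_le hN hGN
  -- the dimension of `[E, G₁]`
  have hp1V : nb ρ b v₀ ∈ commE ρ Y := hnb v₀
  have hp2V : nb ρ b (nb ρ b v₀) ∈ commE ρ Y := hnb _
  have hp1U : nb ρ b v₀ ∈ hf.U ρ := hf.nb_mem_U hc v₀
  have hp2U : nb ρ b (nb ρ b v₀) ∈ hf.U ρ := hf.nb_mem_U hc _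
  have hdim : finrank (ZMod 3) ↥(commE ρ G₁) ≤ 4 := by
    have h1 : commE ρ G₁ ≤ hf.U ρ ⊔ commE ρ Y := by
      rw [hG₁, commE_sup]
      exact sup_le_sup_right (commE_four_le_U hf) _
    have h2 := finrank_sup_le_four (hf.U ρ) (commE ρ Y) (finrank_U_le hc hf) (le_of_eq hd)
      (linearIndependent_p hc) hp1U hp2U hp1V hp2V
    exact le_trans (Submodule.finrank_mono h1) h2
  -- the order of `G₁`
  have hL5G := Cfsg.Agent.Helper1.HH3.card_dvd_of_faithful_on ρ G₁ (commE ρ G₁)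
    (fun y hy m hm => commE_self_invariant ρ hy hm)
    (fun y hy h => eq_one_of_trivial_on_commE ρ hc.faith G₁ h3G hy h) _ (card_commE_eq_pow G₁)
  have hG1 : Nat.card ↥G₁ ∣ 24261120 := by
    refine dvd_trans hL5G ?_
    generalize finrank (ZMod 3) ↥(commE ρ G₁) = d₁ at hdim
    interval_cases d₁ <;> decide
  have hG2 : Nat.card ↥G₁ ∣ 2 ^ 9 * 5 * 13 := by
    have hcop : (Nat.card ↥G₁).Coprime (3 ^ 6) := by
      apply Nat.Coprime.pow_right
      rw [Nat.coprime_comm, Nat.Prime.coprime_iff_not_dvd (by norm_num)]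
      exact h3G
    apply Nat.Coprime.dvd_of_dvd_mul_left hcop
    have : 3 ^ 6 * (2 ^ 9 * 5 * 13) = 24261120 := by norm_num
    rw [this]
    exact hG1
  -- `Y` is normal in `G₁`
  have hYsub : Nat.card ↥(Y.subgroupOf G₁) = 13 := by
    rw [Nat.card_congr (Subgroup.subgroupOfEquivOfLe hYG).toEquiv, hY13]
  have hnormal : (Y.subgroupOf G₁).Normal :=
    Cfsg.Agent.Helper1.HH3.normal_of_card_thirteen (Y.subgroupOf G₁) hYsub hG2
  have hconj : ∀ z ∈ G₁, ∀ y ∈ Y, z * y * z⁻¹ ∈ Y := by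
    intro z hz y hy
    have := hnormal.conj_mem ⟨y, hYG hy⟩ (Subgroup.mem_subgroupOf.2 hy) ⟨z, hz⟩
    rw [Subgroup.mem_subgroupOf] at this
    exact this
  -- some involution centralizes `c`
  have hall : ∀ z, z * c * z⁻¹ = c → ∀ y ∈ Y, z * y * z⁻¹ = y := by
    intro z hz y hy
    obtain ⟨k, -, rfl⟩ := exists_pow_of_card_prime (by norm_num) Y hY13 hcY hc1 hy
    exact conj_pow_eq_of_conj_eq hz k
  rcases conj_eq_or_inv_of_card_thirteen hf.sq Y hY13 hcY hc1 (hconj z₁ hz1G c hcY) with h1 | h1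
  · exact false_of_central_thirteen hc hf Y hY h3Y (hall z₁ h1) hnb hd
  · rcases conj_eq_or_inv_of_card_thirteen hf.sq2 Y hY13 hcY hc1 (hconj z₂ hz2G c hcY) with h2 | h2
    · exact false_of_central_thirteen hc hf.shift Y hY h3Y (hall z₂ h2) hnb hd
    · have h3 : z₃ * c * z₃⁻¹ = c := by
        rw [← hf.mul12]
        calc z₁ * z₂ * c * (z₁ * z₂)⁻¹ = z₁ * (z₂ * c * z₂⁻¹) * z₁⁻¹ := by group
          _ = (z₁ * c * z₁⁻¹)⁻¹ := by rw [h2]; group
          _ = c := by rw [h1, inv_inv]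
      exact false_of_central_thirteen hc hf.shift.shift Y hY h3Y (hall z₃ h3) hnb hd

/-- **Piece P** (the pairs lemma): `b` centralizes every `b`-invariant `q`-subgroup of `N`, `q` odd. -/
theorem pairs {S E : Type*} [Group S] [Finite S] [Group.IsSolvable S] [AddCommGroup E]
    [Module (ZMod 3) E] [Finite E] {ρ : Representation (ZMod 3) S E} {b : S} {v₀ : E}
    (hc : Cub ρ b v₀) {z₁ z₂ z₃ : S} (hf : FourCfg b z₁ z₂ z₃) (N : Subgroup S)
    (hN : (Nat.card ↥N).Coprime 3) (hz1 : z₁ ∈ N) (hz2 : z₂ ∈ N) (q : ℕ) (hq : q.Prime)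
    (hq2 : q ≠ 2) (T : Subgroup S) (hTN : T ≤ N) (hT : IsPGroup q ↥T)
    (hbT : ∀ t ∈ T, b * t * b⁻¹ ∈ T) : ∀ t ∈ T, b * t * b⁻¹ = t := by
  intro t ht
  have : Fact q.Prime := ⟨hq⟩
  set c := b⁻¹ * (t⁻¹ * b * t) with hcdef
  suffices hc1 : c = 1 by
    have h1 : t⁻¹ * b * t = b := by
      calc t⁻¹ * b * t = b * c := by rw [hcdef]; group
        _ = b := by rw [hc1, mul_one]
    calc b * t * b⁻¹ = t * (t⁻¹ * b * t) * b⁻¹ := by group
      _ = t := by rw [h1]; group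
  by_contra hc1
  have hcT : c ∈ T := by
    have h1 : b⁻¹ * t⁻¹ * b ∈ T := conj_inv_mem hc.b3 hbT _ (T.inv_mem ht)
    have h2 : c = (b⁻¹ * t⁻¹ * b) * t := by rw [hcdef]; group
    rw [h2]
    exact T.mul_mem h1 ht
  have hYT : Yb b c ≤ T := Yb_le hbT hcT
  have hYN : Yb b c ≤ N := le_trans hYT hTN
  have hYq : IsPGroup q ↥(Yb b c) := hT.to_le hYT
  have h3Y : ¬ 3 ∣ Nat.card ↥(Yb b c) := not_three_dvd_of_le hN hYN
  have hcY : c ∈ Yb b c := c_mem_Yb b c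
  -- `b` does not centralize `c`
  have hne : b * c * b⁻¹ ≠ c := by
    intro h
    apply hc1
    apply eq_one_of_commute hc.b3 h
    have h1 : orderOf c ∣ Nat.card ↥N := by
      have := Subgroup.orderOf_dvd_natCard N (hTN hcT)
      exact this
    exact Nat.Coprime.coprime_dvd_left h1 hN
  have hnb : ∀ x, nb ρ b x ∈ commE ρ (Yb b c) :=
    nb_mem_commE_of_not_central hc (Yb b c) h3Y (Yb_conj hc.b3) (Yb_conj_inv hc.b3) hcY hne
  -- the counting
  have hmod := card_commE_modEq_one (ρ := ρ) (Yb b c) hYq h3Y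
  rw [card_commE_eq_pow] at hmod
  have hd4 : finrank (ZMod 3) ↥(commE ρ (Yb b c)) ≤ 4 := finrank_commE_Yb_le hc t
  rcases arith_cases hq hq2 hd4 hmod with h0 | ⟨hq13, hd3⟩ | ⟨hq5, hd4'⟩
  · -- `d = 0`
    have hbot : commE ρ (Yb b c) = ⊥ := Submodule.finrank_eq_zero.1 h0
    have := eq_bot_of_commE_eq_bot ρ hc.faith (Yb b c) hbot
    rw [this, Subgroup.mem_bot] at hcY
    exact hc1 hcY
  · -- `q = 13`
    subst hq13
    exact false_of_thirteen hc hf N hN hz1 hz2 (Yb b c) hYN hYq hnb hd3 hcY hc1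
  · -- `q = 5`
    subst hq5
    have hcardV : Nat.card ↥(commE ρ (Yb b c)) = 3 ^ 4 := by rw [card_commE_eq_pow, hd4']
    have hL5 := Cfsg.Agent.Helper1.HH3.card_dvd_of_faithful_on ρ (Yb b c) (commE ρ (Yb b c))
      (fun y hy m hm => commE_self_invariant ρ hy hm)
      (fun y hy h => eq_one_of_trivial_on_commE ρ hc.faith (Yb b c) h3Y hy h) 4 hcardV
    have hprod4 : (∏ i ∈ Finset.range 4, (3 ^ 4 - 3 ^ i)) = 24261120 := by decide
    rw [hprod4] at hL5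
    have hY5 : Nat.card ↥(Yb b c) = 5 :=
      card_eq_prime_of_dvd (by norm_num) (Yb b c) hYq hL5 (by norm_num) hcY hc1
    exact hne (conj_eq_of_card_five hc.b3 (Yb b c) hY5 hcY hc1 (Yb_conj hc.b3 c hcY))

end Cfsg.Agent.Helper7.HH3
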