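import Mathlib
import Cfsg.Agent.Helper7.InvolA
import Cfsg.Agent.Helper7.InvolB

set_option autoImplicit false

namespace Cfsg.Agent.Helper7.Invol

open Matrix

variable {F : Type*} [Field F] {n : ℕ}

/-- The subalgebra `{a + bX}` generated by a matrix with scalar square. -/
def sqSub (X : Matrix (Fin n) (Fin n) F) (z : F)
    (hX : X * X = z • (1 : Matrix (Fin n) (Fin n) F)) :
    Subalgebra F (Matrix (Fin n) (Fin n) F) where
  carrier := {M | ∃ a b : F, M = a • (1 : Matrix (Fin n) (Fin n) F) + b • X}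
  mul_mem' := by
    rintro _ _ ⟨a, b, rfl⟩ ⟨a', b', rfl⟩
    refine ⟨a * a' + b * b' * z, a * b' + b * a', ?_⟩
    simp only [add_mul, mul_add, Matrix.smul_mul, Matrix.mul_smul, Matrix.one_mul,
      Matrix.mul_one, hX, smul_smul, add_smul]
    module
  add_mem' := by
    rintro _ _ ⟨a, b, rfl⟩ ⟨a', b', rfl⟩
    refine ⟨a + a', b + b', ?_⟩
    simp only [add_smul]
    abel
  algebraMap_mem' := fun r => ⟨r, 0, by simp [Algebra.algebraMap_eq_smul_one]⟩

theorem mem_sqSub (X : Matrix (Fin n) (Fin n) F) (z : F)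
    (hX : X * X = z • (1 : Matrix (Fin n) (Fin n) F)) (M : Matrix (Fin n) (Fin n) F) :
    M ∈ sqSub X z hX ↔ ∃ a b : F, M = a • (1 : Matrix (Fin n) (Fin n) F) + b • X := Iff.rfl

theorem self_mem_sqSub (X : Matrix (Fin n) (Fin n) F) (z : F)
    (hX : X * X = z • (1 : Matrix (Fin n) (Fin n) F)) : X ∈ sqSub X z hX :=
  ⟨0, 1, by simp⟩

theorem smul_one_injective (hn : 0 < n) {s t : F}
    (h : s • (1 : Matrix (Fin n) (Fin n) F) = t • 1) : s = t := by
  have := congrFun (congrFun h ⟨0, hn⟩) ⟨0, hn⟩
  simpa using this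

theorem sqSub_indep (X : Matrix (Fin n) (Fin n) F) (z : F) (hn : 0 < n)
    (hX : X * X = z • (1 : Matrix (Fin n) (Fin n) F)) (hz : ¬ IsSquare z) (a b : F)
    (h : a • (1 : Matrix (Fin n) (Fin n) F) + b • X = 0) : a = 0 ∧ b = 0 := by
  by_cases hb : b = 0
  · subst hb
    rw [zero_smul, add_zero] at h
    refine ⟨?_, rfl⟩
    apply smul_one_injective hn
    rw [h, zero_smul]
  · exfalso
    apply hz
    have hXe : X = (-(b⁻¹ * a)) • (1 : Matrix (Fin n) (Fin n) F) := by
      have h1 : b • X = -(a • (1 : Matrix (Fin n) (Fin n) F)) := eq_neg_of_add_eq_zero_right h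
      have := congrArg (fun M => b⁻¹ • M) h1
      simp only [smul_smul, inv_mul_cancel₀ hb, one_smul, smul_neg] at this
      rw [this, neg_smul]
    refine ⟨b⁻¹ * a, ?_⟩
    apply smul_one_injective hn
    rw [← hX]
    nth_rewrite 1 [hXe]
    nth_rewrite 1 [hXe]
    simp [Matrix.smul_mul, Matrix.mul_smul, smul_smul]

theorem sqSub_isField (X : Matrix (Fin n) (Fin n) F) (z : F) (hn : 0 < n)
    (hX : X * X = z • (1 : Matrix (Fin n) (Fin n) F)) (hz : ¬ IsSquare z) :
    Cfsg.Geo.IsFieldSubalgebra 2 (sqSub X z hX) := by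
  refine ⟨?_, ?_, ?_⟩
  · rintro _ ⟨a, b, rfl⟩ _ ⟨a', b', rfl⟩
    simp only [add_mul, mul_add, Matrix.smul_mul, Matrix.mul_smul, Matrix.one_mul,
      Matrix.mul_one, smul_smul]
    rw [mul_comm a' a, mul_comm b' b, mul_comm a' b, mul_comm b' a]
    abel
  · rintro _ ⟨a, b, rfl⟩ hne
    have hN : a * a - b * b * z ≠ 0 := by
      intro h0
      by_cases hb : b = 0
      · subst hb
        have ha : a = 0 := by simpa using h0
        subst ha
        exact hne (by simp)
      · apply hz
        refine ⟨a * b⁻¹, ?_⟩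
        have : a * a = b * b * z := sub_eq_zero.1 h0
        field_simp
        linear_combination -this
    refine ⟨(a * a - b * b * z)⁻¹ • (a • (1 : Matrix (Fin n) (Fin n) F) + (-b) • X),
      ⟨(a * a - b * b * z)⁻¹ * a, (a * a - b * b * z)⁻¹ * (-b), ?_⟩, ?_⟩
    · rw [smul_add, smul_smul, smul_smul]
    · rw [Matrix.mul_smul]
      have : (a • (1 : Matrix (Fin n) (Fin n) F) + b • X) * (a • 1 + -b • X)
          = (a * a - b * b * z) • 1 := by
        simp only [add_mul, mul_add, Matrix.smul_mul, Matrix.mul_smul, Matrix.one_mul,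
          Matrix.mul_one, hX, smul_smul, sub_smul, neg_smul, mul_neg]
        module
      rw [this, smul_smul, inv_mul_cancel₀ hN, one_smul]
  · -- finrank
    let φ : (F × F) →ₗ[F] (sqSub X z hX) :=
      { toFun := fun p => ⟨p.1 • (1 : Matrix (Fin n) (Fin n) F) + p.2 • X, ⟨p.1, p.2, rfl⟩⟩
        map_add' := fun p q => by
          apply Subtype.ext
          simp only [Prod.fst_add, Prod.snd_add, add_smul, Subalgebra.coe_add]
          abel
        map_smul' := fun c p => by
          apply Subtype.ext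
          simp only [Prod.smul_fst, Prod.smul_snd, smul_eq_mul, RingHom.id_apply,
            Subalgebra.coe_smul, smul_add, smul_smul] }
    have hbij : Function.Bijective φ := by
      constructor
      · rw [← LinearMap.ker_eq_bot, LinearMap.ker_eq_bot']
        intro p hp
        have := congrArg Subtype.val hp
        have h2 := sqSub_indep X z hn hX hz p.1 p.2 (by simpa [φ] using this)
        exact Prod.ext h2.1 h2.2
      · rintro ⟨_, a, b, rfl⟩
        exact ⟨(a, b), rfl⟩
    have := (LinearEquiv.ofBijective φ hbij).finrank_eq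
    rw [← this, Module.finrank_prod, Module.finrank_self]

end Cfsg.Agent.Helper7.Invol
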