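import Mathlib
import Cfsg.Agent.Helper7.InvolD

set_option autoImplicit false

namespace Cfsg.Agent.Helper7.Invol

open Matrix

variable {F : Type*} [Field F] {n : ℕ}

/-- The companion block of `X² = z`. -/
def compBlock (z : F) : Matrix (Fin 2) (Fin 2) F := !![0, z; 1, 0]

/-- A matrix with `κ² = z` acts on a pair basis through the block diagonal companion matrix. -/
theorem actsVia_pair {m : ℕ} (κ : Matrix (Fin n) (Fin n) F) (z : F)
    (hκ : κ * κ = z • (1 : Matrix (Fin n) (Fin n) F))
    (b : Module.Basis (Fin 2 × Fin m) F (Fin n → F))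
    (hb : ∀ j, b (1, j) = κ *ᵥ b (0, j)) :
    ActsVia κ b (Matrix.blockDiagonal (fun _ : Fin m => compBlock z)) := by
  rintro ⟨i, j⟩
  rw [Fintype.sum_prod_type]
  simp only [Matrix.blockDiagonal_apply, Fin.sum_univ_two]
  have hsum : ∀ (f : Fin m → (Fin n → F)), (∑ x, if x = j then f x else 0) = f j := by
    intro f
    rw [Finset.sum_ite_eq' Finset.univ j]; simp
  have e0 : (∑ x : Fin m, (if x = j then compBlock z 0 i else 0) • b (0, x))
      = compBlock z 0 i • b (0, j) := by
    rw [← hsum (fun x => compBlock z 0 i • b (0, x))]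
    refine Finset.sum_congr rfl (fun x _ => ?_)
    split_ifs <;> simp
  have e1 : (∑ x : Fin m, (if x = j then compBlock z 1 i else 0) • b (1, x))
      = compBlock z 1 i • b (1, j) := by
    rw [← hsum (fun x => compBlock z 1 i • b (1, x))]
    refine Finset.sum_congr rfl (fun x _ => ?_)
    split_ifs <;> simp
  rw [e0, e1]
  fin_cases i
  · simp only [compBlock, Fin.zero_eta, Fin.isValue, Matrix.of_apply, Matrix.cons_val',
      Matrix.cons_val_zero, Matrix.cons_val_fin_one, Matrix.cons_val_one, zero_smul, one_smul,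
      zero_add]
    exact (hb j).symm
  · simp only [compBlock, Fin.mk_one, Fin.isValue, Matrix.of_apply, Matrix.cons_val',
      Matrix.cons_val_zero, Matrix.cons_val_fin_one, Matrix.cons_val_one, zero_smul, add_zero]
    rw [hb j, Matrix.mulVec_mulVec, hκ, Matrix.smul_mulVec, Matrix.one_mulVec]

/-- The centraliser of the block diagonal companion matrix has all norms as determinants. -/
theorem exists_central_block {m : ℕ} (hm : 0 < m) (z α β : F) :
    ∃ C : Matrix (Fin 2 × Fin m) (Fin 2 × Fin m) F,
      C * Matrix.blockDiagonal (fun _ : Fin m => compBlock z)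
        = Matrix.blockDiagonal (fun _ : Fin m => compBlock z) * C ∧
      C.det = α * α - z * β * β := by
  classical
  let j₀ : Fin m := ⟨0, hm⟩
  let B : Fin m → Matrix (Fin 2) (Fin 2) F := fun j => if j = j₀ then !![α, z * β; β, α] else 1
  refine ⟨Matrix.blockDiagonal B, ?_, ?_⟩
  · rw [← Matrix.blockDiagonal_mul, ← Matrix.blockDiagonal_mul]
    congr 1
    funext j
    simp only [B]
    split_ifs
    · simp only [compBlock]
      ext a b
      fin_cases a <;> fin_cases b <;> simp [Matrix.mul_apply, Fin.sum_univ_two, mul_comm]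
    · simp
  · rw [Matrix.det_blockDiagonal]
    simp only [B]
    rw [Finset.prod_eq_single j₀]
    · rw [if_pos rfl, Matrix.det_fin_two_of]
    · intro j _ hj
      rw [if_neg hj, Matrix.det_one]
    · intro h; exact absurd (Finset.mem_univ _) h

/-- Norm forms of finite fields of odd order represent every element. -/
theorem exists_norm_eq [Fintype F] (hodd : Fintype.card F % 2 = 1) (z : F) (hz : z ≠ 0) (δ : F) :
    ∃ α β : F, α * α - z * β * β = δ := by
  classical
  have hf : (Polynomial.X ^ 2 - Polynomial.C δ : Polynomial F).degree = 2 :=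
    Polynomial.degree_X_pow_sub_C (by norm_num) δ
  have hg : (Polynomial.C (-z) * Polynomial.X ^ 2 : Polynomial F).degree = 2 := by
    rw [Polynomial.degree_C_mul (neg_ne_zero.2 hz), Polynomial.degree_X_pow]
    rfl
  obtain ⟨a, b, hab⟩ := FiniteField.exists_root_sum_quadratic hf hg hodd
  refine ⟨a, b, ?_⟩
  simp only [Polynomial.eval_sub, Polynomial.eval_pow, Polynomial.eval_X, Polynomial.eval_C,
    Polynomial.eval_mul] at hab
  linear_combination hab

/-- Two matrices with the same non-square scalar square are conjugate under `SL_n`. -/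
theorem conj_typeII [Fintype F] (hodd : Fintype.card F % 2 = 1) (hn : 0 < n)
    (X Y : Matrix (Fin n) (Fin n) F) (z : F) (hz : ¬ IsSquare z)
    (hX : X * X = z • (1 : Matrix (Fin n) (Fin n) F))
    (hY : Y * Y = z • (1 : Matrix (Fin n) (Fin n) F)) :
    ∃ P : Matrix.SpecialLinearGroup (Fin n) F,
      X * (P : Matrix (Fin n) (Fin n) F) = (P : Matrix (Fin n) (Fin n) F) * Y := by
  classical
  have hns : ∀ (Z : Matrix (Fin n) (Fin n) F), Z * Z = z • 1 → ∀ a : F, Z ≠ a • 1 := by
    intro Z hZ a hZa
    apply hz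
    refine ⟨a, ?_⟩
    apply smul_one_injective hn
    rw [← hZ, hZa]
    simp [smul_smul]
  obtain ⟨m, b, hnm, hb⟩ := exists_pair_basis (sqSub X z hX) (sqSub_isField X z hn hX hz) hn X
    (self_mem_sqSub X z hX) (hns X hX)
  obtain ⟨m', b', hnm', hb'⟩ := exists_pair_basis (sqSub Y z hY) (sqSub_isField Y z hn hY hz) hn Y
    (self_mem_sqSub Y z hY) (hns Y hY)
  have hmm : m' = m := by omega
  subst hmm
  have hm : 0 < m' := by omega
  have hz0 : z ≠ 0 := fun h => hz (h ▸ ⟨0, by simp⟩)
  apply conj_of_actsVia X Y b b' _ (actsVia_pair X z hX b hb) (actsVia_pair Y z hY b' hb')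
  intro δ _
  obtain ⟨α, β, hαβ⟩ := exists_norm_eq hodd z hz0 δ
  obtain ⟨C, hC1, hC2⟩ := exists_central_block hm z α β
  exact ⟨C, hC1, hC2.trans hαβ⟩

end Cfsg.Agent.Helper7.Invol
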