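import Mathlib
import Cfsg.Agent.Helper7.InvolK

set_option autoImplicit false

namespace Cfsg.Agent.Helper7.Invol

open Matrix

variable {F : Type*} [Field F] {n : ℕ}

theorem forward_aux (hn : 3 ≤ n) (K : Subalgebra F (Matrix (Fin n) (Fin n) F))
    (hK : Cfsg.Geo.IsFieldSubalgebra 2 K)
    (hall : ∀ x : Matrix.SpecialLinearGroup (Fin n) F,
      (∃ z : F, ((x ^ 2 : Matrix.SpecialLinearGroup (Fin n) F) : Matrix (Fin n) (Fin n) F) =
        z • (1 : Matrix (Fin n) (Fin n) F)) →
      (∀ z : F, (x : Matrix (Fin n) (Fin n) F) ≠ z • (1 : Matrix (Fin n) (Fin n) F)) →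
      ∃ P : Matrix.SpecialLinearGroup (Fin n) F, P⁻¹ * x * P ∈
        ((Cfsg.Geo.subalgebraNormalizer K).comap (Matrix.SpecialLinearGroup.toGL :
          Matrix.SpecialLinearGroup (Fin n) F →* GL (Fin n) F)))
    (μ c : F) (i₀ j₀ : Fin n) (hμ : μ ≠ 0) (hc : c ≠ 0)
    (hdet : (μ • (1 + Matrix.single i₀ j₀ c) : Matrix (Fin n) (Fin n) F).det = 1) (z : F)
    (hsq : (μ • (1 + Matrix.single i₀ j₀ c) : Matrix (Fin n) (Fin n) F) *
      (μ • (1 + Matrix.single i₀ j₀ c)) = z • 1) : False := by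
  classical
  obtain ⟨x, hx⟩ : ∃ x : Matrix.SpecialLinearGroup (Fin n) F,
      (x : Matrix (Fin n) (Fin n) F) = μ • (1 + Matrix.single i₀ j₀ c) := ⟨⟨_, hdet⟩, rfl⟩
  have h1 : ∃ z : F, ((x ^ 2 : Matrix.SpecialLinearGroup (Fin n) F) :
      Matrix (Fin n) (Fin n) F) = z • (1 : Matrix (Fin n) (Fin n) F) := by
    refine ⟨z, ?_⟩
    rw [pow_two, Matrix.SpecialLinearGroup.coe_mul, hx]
    exact hsq
  have h2 : ∀ z' : F, (x : Matrix (Fin n) (Fin n) F) ≠ z' • (1 : Matrix (Fin n) (Fin n) F) := by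
    intro z' heq
    rw [hx] at heq
    obtain ⟨l, hl⟩ : ∃ l : Fin n, l ≠ i₀ := by
      by_cases h0 : i₀.val = 0
      · exact ⟨⟨1, by omega⟩, fun h => by rw [← h] at h0; simp at h0⟩
      · exact ⟨⟨0, by omega⟩, fun h => by rw [← h] at h0; simp at h0⟩
    have e1 := congrFun (congrFun heq l) l
    simp only [Matrix.smul_apply, Matrix.add_apply, Matrix.one_apply_eq, smul_eq_mul, mul_one] at e1
    rw [Matrix.single_apply, if_neg (fun h => hl h.1.symm), add_zero, mul_one] at e1
    have e2 := congrFun (congrFun heq i₀) j₀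
    simp only [Matrix.smul_apply, Matrix.add_apply, Matrix.single_apply_same, smul_eq_mul] at e2
    rw [← e1, mul_add, mul_comm μ ((1 : Matrix (Fin n) (Fin n) F) i₀ j₀)] at e2
    have : μ * c = 0 := by linear_combination e2
    rcases mul_eq_zero.1 this with h | h
    · exact hμ h
    · exact hc h
  obtain ⟨P, hP⟩ := hall x h1 h2
  exact rank_one_contra hn K hK x P μ c i₀ j₀ hμ hc hx hP

theorem one_add_single_sq (i₀ j₀ : Fin n) (c : F) :
    (1 + Matrix.single i₀ j₀ c : Matrix (Fin n) (Fin n) F) * (1 + Matrix.single i₀ j₀ c) =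
      1 + Matrix.single i₀ j₀ (c + c) + Matrix.single i₀ j₀ c * Matrix.single i₀ j₀ c := by
  rw [mul_add, add_mul, add_mul, Matrix.one_mul, Matrix.mul_one, Matrix.one_mul, Matrix.single_add]
  abel

theorem forward [Fintype F] (hn : 3 ≤ n) (K : Subalgebra F (Matrix (Fin n) (Fin n) F))
    (hK : Cfsg.Geo.IsFieldSubalgebra 2 K)
    (hall : ∀ x : Matrix.SpecialLinearGroup (Fin n) F,
      (∃ z : F, ((x ^ 2 : Matrix.SpecialLinearGroup (Fin n) F) : Matrix (Fin n) (Fin n) F) =
        z • (1 : Matrix (Fin n) (Fin n) F)) →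
      (∀ z : F, (x : Matrix (Fin n) (Fin n) F) ≠ z • (1 : Matrix (Fin n) (Fin n) F)) →
      ∃ P : Matrix.SpecialLinearGroup (Fin n) F, P⁻¹ * x * P ∈
        ((Cfsg.Geo.subalgebraNormalizer K).comap (Matrix.SpecialLinearGroup.toGL :
          Matrix.SpecialLinearGroup (Fin n) F →* GL (Fin n) F))) :
    (2 : F) ≠ 0 ∧ padicValNat 2 (Fintype.card F - 1) ≤ padicValNat 2 n := by
  classical
  have h2 : (2 : F) ≠ 0 := by
    intro h2
    have hij : (⟨0, by omega⟩ : Fin n) ≠ ⟨1, by omega⟩ := by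
      intro h; simpa using congrArg Fin.val h
    refine forward_aux hn K hK hall 1 1 ⟨0, by omega⟩ ⟨1, by omega⟩ one_ne_zero one_ne_zero ?_ 1 ?_
    · rw [one_smul]; exact Matrix.det_transvection_of_ne _ _ hij 1
    · rw [one_smul, one_smul, one_add_single_sq, Matrix.single_mul_single_of_ne _ _ _ _ hij.symm]
      have : (1 : F) + 1 = 0 := by linear_combination h2
      rw [this, Matrix.single_zero]; simp
  refine ⟨h2, ?_⟩
  by_contra hcon
  obtain ⟨μ, hμ⟩ := exists_pow_eq_neg_one h2 (by omega : n ≠ 0) hcon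
  have hμ0 : μ ≠ 0 := by
    intro h0
    rw [h0, zero_pow (by omega)] at hμ
    have : (1 : F) = 0 := by linear_combination hμ
    exact one_ne_zero this
  refine forward_aux hn K hK hall μ (-2) ⟨0, by omega⟩ ⟨0, by omega⟩ hμ0
    (neg_ne_zero.2 h2) ?_ (μ * μ) ?_
  · rw [Matrix.det_smul, Fintype.card_fin, hμ]
    have : (1 + Matrix.single (⟨0, by omega⟩ : Fin n) ⟨0, by omega⟩ (-2 : F) :
        Matrix (Fin n) (Fin n) F) =
        Matrix.diagonal (fun i => if i = (⟨0, by omega⟩ : Fin n) then (-1 : F) else 1) := by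
      ext i j
      by_cases hi : i = ⟨0, by omega⟩
      · subst hi
        by_cases hj : j = ⟨0, by omega⟩
        · subst hj; simp; norm_num
        · rw [Matrix.diagonal_apply_ne _ (Ne.symm hj), Matrix.add_apply,
            Matrix.one_apply_ne (Ne.symm hj),
            Matrix.single_apply, if_neg (fun h => hj h.2.symm)]; simp
      · by_cases hj : j = i
        · subst hj
          rw [Matrix.add_apply, Matrix.single_apply, if_neg (fun h => hi h.1.symm)]
          simp [hi]
        · rw [Matrix.diagonal_apply_ne _ (Ne.symm hj), Matrix.add_apply,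
            Matrix.one_apply_ne (Ne.symm hj),
            Matrix.single_apply, if_neg (fun h => hi h.1.symm)]; simp
    rw [this, Matrix.det_diagonal, Finset.prod_ite_eq' Finset.univ]
    simp
  · rw [Matrix.smul_mul, Matrix.mul_smul, smul_smul, one_add_single_sq,
      Matrix.single_mul_single_same, add_assoc, ← Matrix.single_add]
    have : (-2 : F) + -2 + -2 * -2 = 0 := by ring
    rw [this, Matrix.single_zero, add_zero]

end Cfsg.Agent.Helper7.Invol
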