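import Mathlib
import Cfsg.Agent.Helper7.InvolL
import Cfsg.Agent.Helper7.InvolE
import Cfsg.Agent.Helper7.InvolC

set_option autoImplicit false

namespace Cfsg.Agent.Helper7.Invol

open Matrix

variable {F : Type*} [Field F] {n : ℕ}

theorem backward_typeII [Fintype F] (h2 : (2 : F) ≠ 0) (hn : 0 < n)
    (K : Subalgebra F (Matrix (Fin n) (Fin n) F)) (hK : Cfsg.Geo.IsFieldSubalgebra 2 K)
    (x : Matrix.SpecialLinearGroup (Fin n) F) (z : F) (hz : ¬ IsSquare z)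
    (hx : (x : Matrix (Fin n) (Fin n) F) * (x : Matrix (Fin n) (Fin n) F) = z • 1) :
    ∃ P : Matrix.SpecialLinearGroup (Fin n) F, P⁻¹ * x * P ∈
      ((Cfsg.Geo.subalgebraNormalizer K).comap (Matrix.SpecialLinearGroup.toGL :
        Matrix.SpecialLinearGroup (Fin n) F →* GL (Fin n) F)) := by
  classical
  obtain ⟨κ, hκK, hκ2⟩ := exists_sqrt_of_nonsquare h2 hn K hK z hz
  have hodd : Fintype.card F % 2 = 1 := by
    have := two_eq_zero_iff_card (F := F)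
    by_contra h
    exact h2 (this.2 (by omega))
  obtain ⟨P, hP⟩ := conj_typeII hodd hn (x : Matrix (Fin n) (Fin n) F) κ z hz hx hκ2
  have hz0 : z ≠ 0 := fun h => hz (h ▸ ⟨0, by simp⟩)
  refine ⟨P, mem_comap_of K x P κ (z⁻¹ • κ) hP ?_ ?_ ?_ ?_⟩
  · rw [Matrix.mul_smul, hκ2, smul_smul, inv_mul_cancel₀ hz0, one_smul]
  · rw [Matrix.smul_mul, hκ2, smul_smul, inv_mul_cancel₀ hz0, one_smul]
  · intro k hk; exact K.mul_mem (K.mul_mem hκK hk) (K.smul_mem hκK _)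
  · intro k hk; exact K.mul_mem (K.mul_mem (K.smul_mem hκK _) hk) hκK

theorem mu_ne_zero_of_sq (hn : 0 < n) (x : Matrix.SpecialLinearGroup (Fin n) F) (z : F)
    (hx : (x : Matrix (Fin n) (Fin n) F) * (x : Matrix (Fin n) (Fin n) F) = z • 1) : z ≠ 0 := by
  intro h0
  have hdet := congrArg Matrix.det hx
  have hne : Nonempty (Fin n) := ⟨⟨0, hn⟩⟩
  rw [Matrix.det_mul, x.det_coe, h0, zero_smul, Matrix.det_zero] at hdet
  simp at hdet

/-- The final step for type I involutions. -/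
theorem typeI_finish (h2 : (2 : F) ≠ 0) (hn : 0 < n)
    (K : Subalgebra F (Matrix (Fin n) (Fin n) F)) (hK : Cfsg.Geo.IsFieldSubalgebra 2 K)
    (x : Matrix.SpecialLinearGroup (Fin n) F) (μ : F) (hμ : μ ≠ 0)
    (r s : ℕ) (hr0 : r ≠ 0) (b : Module.Basis (Fin r ⊕ Fin s) F (Fin n → F))
    (hXlam : ∀ i, (x : Matrix (Fin n) (Fin n) F) *ᵥ b i =
      (Sum.elim (fun _ : Fin r => -μ) (fun _ : Fin s => μ) i) • b i)
    (κ : Matrix (Fin n) (Fin n) F) (hκK : κ ∈ K)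
    (hκns : ∀ a : F, κ ≠ a • (1 : Matrix (Fin n) (Fin n) F))
    (m : ℕ) (b' : Module.Basis (Fin 2 × Fin m) F (Fin n → F))
    (ε : Fin 2 × Fin m → F) (hε : ∀ p, ε p = 1 ∨ ε p = -1)
    (hcomm : Dg b' ε * κ = κ * Dg b' ε ∨ Dg b' ε * κ = - (κ * Dg b' ε))
    (hcount : Nat.card {p : Fin 2 × Fin m // μ * ε p = -μ} = r) :
    ∃ P : Matrix.SpecialLinearGroup (Fin n) F, P⁻¹ * x * P ∈
      ((Cfsg.Geo.subalgebraNormalizer K).comap (Matrix.SpecialLinearGroup.toGL :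
        Matrix.SpecialLinearGroup (Fin n) F →* GL (Fin n) F)) := by
  classical
  have hμne : μ ≠ -μ := by
    intro h
    have : 2 * μ = 0 := by linear_combination h
    rcases mul_eq_zero.1 this with h' | h'
    · exact h2 h'
    · exact hμ h'
  have hDD : Dg b' ε * Dg b' ε = 1 := by
    rw [Dg_mul, ← Dg_one b']
    congr 1
    funext p
    rcases hε p with h | h <;> rw [h] <;> ring
  obtain ⟨Y, hY⟩ : ∃ Y, Y = μ • Dg b' ε := ⟨_, rfl⟩
  obtain ⟨Yi, hYi⟩ : ∃ Yi, Yi = μ⁻¹ • Dg b' ε := ⟨_, rfl⟩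
  have hYYi : Y * Yi = 1 := by
    rw [hY, hYi, Matrix.smul_mul, Matrix.mul_smul, smul_smul, hDD, mul_inv_cancel₀ hμ, one_smul]
  have hYiY : Yi * Y = 1 := by
    rw [hY, hYi, Matrix.smul_mul, Matrix.mul_smul, smul_smul, hDD, inv_mul_cancel₀ hμ, one_smul]
  have hYκ : Y * κ = κ * Y ∨ Y * κ = - (κ * Y) := by
    rcases hcomm with h | h
    · left; rw [hY, Matrix.smul_mul, Matrix.mul_smul, h]
    · right; rw [hY, Matrix.smul_mul, Matrix.mul_smul, h, smul_neg]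
  have hYiκ : Yi * κ = κ * Yi ∨ Yi * κ = - (κ * Yi) := by
    rcases hcomm with h | h
    · left; rw [hYi, Matrix.smul_mul, Matrix.mul_smul, h]
    · right; rw [hYi, Matrix.smul_mul, Matrix.mul_smul, h, smul_neg]
  have hYlam : ∀ p, Y *ᵥ b' p = (μ * ε p) • b' p := by
    intro p
    rw [hY, Matrix.smul_mulVec, Dg_mulVec, smul_smul]
  have hcard : Fintype.card (Fin r ⊕ Fin s) = Fintype.card (Fin 2 × Fin m) := by
    rw [card_of_basis b, card_of_basis b']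
  obtain ⟨σ, hσ⟩ := exists_equiv_two_valued
    (Sum.elim (fun _ : Fin r => -μ) (fun _ : Fin s => μ)) (fun p => μ * ε p) (-μ) μ
    (by rintro (i | j) <;> simp)
    (by
      intro p
      rcases hε p with h | h
      · right; rw [h, mul_one]
      · left; rw [h]; ring)
    (by rw [card_sum_fiber r s μ hμne, hcount]) hcard
  have : Nonempty (Fin r ⊕ Fin s) := ⟨Sum.inl ⟨0, Nat.pos_of_ne_zero hr0⟩⟩
  obtain ⟨P, hP⟩ := conj_of_diag (x : Matrix (Fin n) (Fin n) F) Y b b'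
    (Sum.elim (fun _ : Fin r => -μ) (fun _ : Fin s => μ)) (fun p => μ * ε p) hXlam hYlam σ hσ
  exact ⟨P, mem_comap_of K x P Y Yi hP hYYi hYiY
    (normalizes_of_comm hn K hK κ hκK hκns Y Yi hYYi hYκ)
    (normalizes_of_comm hn K hK κ hκK hκns Yi Y hYiY hYiκ)⟩

end Cfsg.Agent.Helper7.Invol
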