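import Mathlib
import Cfsg.Agent.Helper7.InvolM

set_option autoImplicit false

namespace Cfsg.Agent.Helper7.Invol

open Matrix

variable {F : Type*} [Field F] {n : ℕ}

theorem backward_typeI [Fintype F] (h2 : (2 : F) ≠ 0) (hn : 2 ≤ n)
    (K : Subalgebra F (Matrix (Fin n) (Fin n) F)) (hK : Cfsg.Geo.IsFieldSubalgebra 2 K)
    (hcond : n = 2 ∨ padicValNat 2 (Fintype.card F - 1) ≤ padicValNat 2 n)
    (x : Matrix.SpecialLinearGroup (Fin n) F) (μ : F)
    (hx : (x : Matrix (Fin n) (Fin n) F) * (x : Matrix (Fin n) (Fin n) F) = (μ * μ) • 1)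
    (hns : ∀ z : F, (x : Matrix (Fin n) (Fin n) F) ≠ z • (1 : Matrix (Fin n) (Fin n) F)) :
    ∃ P : Matrix.SpecialLinearGroup (Fin n) F, P⁻¹ * x * P ∈
      ((Cfsg.Geo.subalgebraNormalizer K).comap (Matrix.SpecialLinearGroup.toGL :
        Matrix.SpecialLinearGroup (Fin n) F →* GL (Fin n) F)) := by
  classical
  have hn0 : 0 < n := by omega
  have hμ : μ ≠ 0 := by
    intro h0
    exact mu_ne_zero_of_sq hn0 x (μ * μ) hx (by rw [h0, mul_zero])
  have hμne : μ ≠ -μ := by
    intro h
    have : 2 * μ = 0 := by linear_combination h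
    rcases mul_eq_zero.1 this with h' | h'
    · exact h2 h'
    · exact hμ h'
  obtain ⟨r, s, b, hbl, hbr⟩ := exists_diag_basis (x : Matrix (Fin n) (Fin n) F) μ hμ h2 hx
  have hrs : r + s = n := by
    have := card_of_basis b
    rwa [Fintype.card_sum, Fintype.card_fin, Fintype.card_fin] at this
  have hXlam : ∀ i, (x : Matrix (Fin n) (Fin n) F) *ᵥ b i =
      (Sum.elim (fun _ : Fin r => -μ) (fun _ : Fin s => μ) i) • b i := by
    rintro (i | j)
    · exact hbl i
    · exact hbr j
  have hr0 : r ≠ 0 := by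
    intro h0
    subst h0
    apply hns μ
    apply eq_of_mulVec_basis b
    rintro (i | j)
    · exact i.elim0
    · rw [hbr j, Matrix.smul_mulVec, Matrix.one_mulVec]
  have hs0 : s ≠ 0 := by
    intro h0
    subst h0
    apply hns (-μ)
    apply eq_of_mulVec_basis b
    rintro (i | j)
    · rw [hbl i, Matrix.smul_mulVec, Matrix.one_mulVec]
    · exact j.elim0
  have hdet : (-μ) ^ r * μ ^ s = 1 := by
    have := det_of_diag_basis (x : Matrix (Fin n) (Fin n) F) b _ hXlam
    rw [x.det_coe, Fintype.prod_sum_type] at this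
    simpa using this.symm
  obtain ⟨κ, hκK, D, -, hκ2, hκns⟩ := exists_sqrt_gen h2 hn0 K hK
  obtain ⟨m, b', hnm, hb'⟩ := exists_pair_basis K hK hn0 κ hκK hκns
  by_cases hn2 : n = 2
  · have hm1 : m = 1 := by omega
    have hr1 : r = 1 := by omega
    refine typeI_finish h2 hn0 K hK x μ hμ r s hr0 b hXlam κ hκK hκns m b'
      (fun p => if p.1 = 0 then (1 : F) else -1) ?_ ?_ ?_
    · intro p; by_cases hp : p.1 = 0 <;> simp [hp]
    · right
      exact Dg_anticomm_pair κ D hκ2 b' hb' _ (fun j => by simp)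
    · rw [card_prod_fiber_alt m μ hμne, hm1, hr1]
  · have hcond' : padicValNat 2 (Fintype.card F - 1) ≤ padicValNat 2 n := by
      rcases hcond with h | h
      · exact absurd h hn2
      · exact h
    have hreven : Even r := by
      by_contra hodd
      rw [Nat.not_even_iff_odd] at hodd
      rw [hodd.neg_pow] at hdet
      apply pow_ne_neg_one h2 hcond' (by omega) μ
      rw [← hrs, pow_add]
      linear_combination -hdet
    obtain ⟨r', hr'⟩ := hreven
    have hr'm : r' ≤ m := by omega
    refine typeI_finish h2 hn0 K hK x μ hμ r s hr0 b hXlam κ hκK hκns m b'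
      (fun p => if p.2.val < r' then (-1 : F) else 1) ?_ ?_ ?_
    · intro p; by_cases hp : p.2.val < r' <;> simp [hp]
    · left
      exact Dg_comm_pair κ D hκ2 b' hb' _ (fun j => rfl)
    · rw [card_prod_fiber_lt m r' hr'm μ hμne, hr']; ring

end Cfsg.Agent.Helper7.Invol
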