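import Mathlib
import Cfsg.Agent.Helper7.InvolN

set_option autoImplicit false

namespace Cfsg.Agent.Helper7.Invol

open Matrix

variable {F : Type*} [Field F] {n : ℕ}

theorem sq_sub_eq_zero (h2 : (2 : F) = 0) (X : Matrix (Fin n) (Fin n) F) (μ : F)
    (hX : X * X = (μ * μ) • (1 : Matrix (Fin n) (Fin n) F)) :
    (X - μ • 1) * (X - μ • 1) = 0 := by
  have h2μ : μ + μ = 0 := by linear_combination μ * h2
  have h2μ' : μ * μ + μ * μ = 0 := by linear_combination μ * μ * h2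
  calc (X - μ • 1) * (X - μ • 1) = X * X - (μ + μ) • X + (μ * μ) • 1 := by
        simp only [sub_mul, mul_sub, Matrix.smul_mul, Matrix.mul_smul, Matrix.one_mul,
          Matrix.mul_one, smul_smul, add_smul]
        abel
    _ = 0 := by rw [hX, h2μ, zero_smul, sub_zero, ← add_smul, h2μ', zero_smul]

theorem backward_char2 [Fintype F] (h2 : (2 : F) = 0) (hn : n = 2)
    (K : Subalgebra F (Matrix (Fin n) (Fin n) F)) (hK : Cfsg.Geo.IsFieldSubalgebra 2 K)
    (x : Matrix.SpecialLinearGroup (Fin n) F) (z : F)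
    (hx : (x : Matrix (Fin n) (Fin n) F) * (x : Matrix (Fin n) (Fin n) F) = z • 1)
    (hns : ∀ z : F, (x : Matrix (Fin n) (Fin n) F) ≠ z • (1 : Matrix (Fin n) (Fin n) F)) :
    ∃ P : Matrix.SpecialLinearGroup (Fin n) F, P⁻¹ * x * P ∈
      ((Cfsg.Geo.subalgebraNormalizer K).comap (Matrix.SpecialLinearGroup.toGL :
        Matrix.SpecialLinearGroup (Fin n) F →* GL (Fin n) F)) := by
  classical
  have hn0 : 0 < n := by omega
  have hchar : ringChar F = 2 :=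
    CharP.ringChar_of_prime_eq_zero Nat.prime_two (by exact_mod_cast h2)
  obtain ⟨μ, hμz⟩ := FiniteField.isSquare_of_char_two hchar z
  rw [hμz] at hx
  have hμ : μ ≠ 0 := by
    intro h0
    exact mu_ne_zero_of_sq hn0 x (μ * μ) hx (by rw [h0, mul_zero])
  obtain ⟨b, hb⟩ := exists_jordan_basis hn (x : Matrix (Fin n) (Fin n) F) μ
    (sq_sub_eq_zero h2 _ μ hx) (hns μ)
  obtain ⟨κ, hκK, hκns⟩ := exists_nonscalar K hK
  obtain ⟨d, t, hdt⟩ := exists_decomp K hK hn0 κ hκK hκns (κ * κ) (K.mul_mem hκK hκK)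
  have ht : t ≠ 0 := by
    intro ht0
    rw [ht0, zero_smul, add_zero] at hdt
    obtain ⟨δ, hδ⟩ := FiniteField.isSquare_of_char_two hchar d
    rw [hδ] at hdt
    have h0 := sq_sub_eq_zero h2 κ δ hdt
    have hmem : κ - δ • (1 : Matrix (Fin n) (Fin n) F) ∈ K :=
      K.sub_mem hκK (K.smul_mem K.one_mem _)
    rcases eq_zero_or_of_mul K hK _ _ hmem h0 with h | h
    · exact hκns δ (sub_eq_zero.1 h)
    · exact hκns δ (sub_eq_zero.1 h)
  obtain ⟨m, b', hnm, hb'⟩ := exists_pair_basis K hK hn0 κ hκK hκns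
  have hm1 : m = 1 := by omega
  subst hm1
  obtain ⟨c, hc⟩ : ∃ c, c = galC t b' := ⟨_, rfl⟩
  have hcc : c * c = 1 := by rw [hc]; exact galC_sq t b'
  have hcκ : c * κ = (t • (1 : Matrix (Fin n) (Fin n) F) - κ) * c := by
    rw [hc]; exact galC_conj t d κ hdt b' hb'
  obtain ⟨Y, hY⟩ : ∃ Y, Y = μ • c := ⟨_, rfl⟩
  obtain ⟨Yi, hYi⟩ : ∃ Yi, Yi = μ⁻¹ • c := ⟨_, rfl⟩
  have hYYi : Y * Yi = 1 := by
    rw [hY, hYi, Matrix.smul_mul, Matrix.mul_smul, smul_smul, hcc, mul_inv_cancel₀ hμ, one_smul]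
  have hYiY : Yi * Y = 1 := by
    rw [hY, hYi, Matrix.smul_mul, Matrix.mul_smul, smul_smul, hcc, inv_mul_cancel₀ hμ, one_smul]
  have hκ'K : t • (1 : Matrix (Fin n) (Fin n) F) - κ ∈ K :=
    K.sub_mem (K.smul_mem K.one_mem _) hκK
  have hYκ : Y * κ = (t • (1 : Matrix (Fin n) (Fin n) F) - κ) * Y := by
    rw [hY, Matrix.smul_mul, Matrix.mul_smul, hcκ]
  have hYiκ : Yi * κ = (t • (1 : Matrix (Fin n) (Fin n) F) - κ) * Yi := by
    rw [hYi, Matrix.smul_mul, Matrix.mul_smul, hcκ]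
  have hYY : Y * Y = (μ * μ) • (1 : Matrix (Fin n) (Fin n) F) := by
    rw [hY, Matrix.smul_mul, Matrix.mul_smul, smul_smul, hcc]
  have hYne : Y ≠ μ • (1 : Matrix (Fin n) (Fin n) F) := by
    intro hYe
    have hc1 : c = 1 := by
      have := congrArg (fun M => μ⁻¹ • M) (hY ▸ hYe)
      simpa [smul_smul, inv_mul_cancel₀ hμ] using this
    have h1 := galC_one t b'
    rw [← hc, hc1, Matrix.one_mulVec] at h1
    have h3 : t • b' (0, 0) = 0 := by
      have e : t • b' (0, 0) = b' (1, 0) + b' (1, 0) := (eq_sub_iff_add_eq.1 h1).symm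
      rw [e, ← two_smul F, h2, zero_smul]
    rcases smul_eq_zero.1 h3 with h | h
    · exact ht h
    · exact b'.ne_zero _ h
  obtain ⟨b'', hb''⟩ := exists_jordan_basis hn Y μ (sq_sub_eq_zero h2 _ μ hYY) hYne
  obtain ⟨P, hP⟩ := conj_of_actsVia (x : Matrix (Fin n) (Fin n) F) Y b b'' _ hb hb'' (by
    intro δ _
    obtain ⟨a, ha⟩ := FiniteField.isSquare_of_char_two hchar δ
    refine ⟨a • 1, by simp, ?_⟩
    rw [Matrix.det_smul, Matrix.det_one, Fintype.card_fin, ha]; ring)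
  exact ⟨P, mem_comap_of K x P Y Yi hP hYYi hYiY
    (normalizes_of_intertwine hn0 K hK κ hκK hκns Y Yi hYYi _ hκ'K hYκ)
    (normalizes_of_intertwine hn0 K hK κ hκK hκns Yi Y hYiY _ hκ'K hYiκ)⟩

end Cfsg.Agent.Helper7.Invol
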