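import Mathlib
import Cfsg.Agent.Helper7.InvolO

set_option autoImplicit false

namespace Cfsg.Agent.Helper7.Invol

open Matrix

variable {F : Type*} [Field F] {n : ℕ}

/-- Linear independence of a Jordan-type family. -/
theorem nilp_li {V : Type*} [AddCommGroup V] [Module F V] (T : V →ₗ[F] V) {s t : ℕ}
    (v w : Fin s → V) (u : Fin t → V) (hv : ∀ i, T (v i) = w i) (hw : ∀ i, T (w i) = 0)
    (hu : ∀ j, T (u j) = 0) (hwli : LinearIndependent F w) (huli : LinearIndependent F u)
    (hdis : ∀ x, x ∈ Submodule.span F (Set.range w) → x ∈ Submodule.span F (Set.range u) → x = 0)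
    (g : (Fin 2 × Fin s) ⊕ Fin t → V)
    (hg0 : ∀ i, g (Sum.inl (0, i)) = v i) (hg1 : ∀ i, g (Sum.inl (1, i)) = w i)
    (hg2 : ∀ j, g (Sum.inr j) = u j) : LinearIndependent F g := by
  classical
  rw [Fintype.linearIndependent_iff]
  intro c hc
  rw [Fintype.sum_sum_type, Fintype.sum_prod_type, Fin.sum_univ_two] at hc
  simp only [hg0, hg1, hg2] at hc
  have h1 : ∑ i, c (Sum.inl (0, i)) • w i = 0 := by
    have := congrArg T hc
    rw [map_add, map_add, map_sum, map_sum, map_sum, map_zero] at this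
    have e1 : ∀ i, T (c (Sum.inl (0, i)) • v i) = c (Sum.inl (0, i)) • w i := fun i => by
      rw [map_smul, hv]
    have e2 : ∀ i, T (c (Sum.inl (1, i)) • w i) = 0 := fun i => by
      rw [map_smul, hw, smul_zero]
    have e3 : ∀ j, T (c (Sum.inr j) • u j) = 0 := fun j => by
      rw [map_smul, hu, smul_zero]
    simp only [e1, e2, e3, Finset.sum_const_zero, add_zero] at this
    exact this
  have hc0 : ∀ i, c (Sum.inl (0, i)) = 0 :=
    Fintype.linearIndependent_iff.1 hwli (fun i => c (Sum.inl (0, i))) h1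
  simp only [hc0, zero_smul, Finset.sum_const_zero, zero_add] at hc
  have hrR : ∑ i, c (Sum.inl (1, i)) • w i ∈ Submodule.span F (Set.range w) :=
    Submodule.sum_mem _ (fun i _ => Submodule.smul_mem _ _ (Submodule.subset_span ⟨i, rfl⟩))
  have huU : ∑ j, c (Sum.inr j) • u j ∈ Submodule.span F (Set.range u) :=
    Submodule.sum_mem _ (fun j _ => Submodule.smul_mem _ _ (Submodule.subset_span ⟨j, rfl⟩))
  have hr0 : ∑ i, c (Sum.inl (1, i)) • w i = 0 := by
    apply hdis _ hrR
    have : ∑ i, c (Sum.inl (1, i)) • w i = -∑ j, c (Sum.inr j) • u j :=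
      eq_neg_of_add_eq_zero_left hc
    rw [this]
    exact Submodule.neg_mem _ huU
  have hu0 : ∑ j, c (Sum.inr j) • u j = 0 := by rw [hr0, zero_add] at hc; exact hc
  have hc1 : ∀ i, c (Sum.inl (1, i)) = 0 :=
    Fintype.linearIndependent_iff.1 hwli (fun i => c (Sum.inl (1, i))) hr0
  have hc2 : ∀ j, c (Sum.inr j) = 0 :=
    Fintype.linearIndependent_iff.1 huli (fun j => c (Sum.inr j)) hu0
  rintro ((⟨a, i⟩) | j)
  · fin_cases a
    · exact hc0 i
    · exact hc1 i
  · exact hc2 j

/-- A basis of the kernel adapted to the range, for an operator of square zero. -/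
theorem exists_ker_family {V : Type*} [AddCommGroup V] [Module F V] [FiniteDimensional F V]
    (T : V →ₗ[F] V) (hTT : ∀ v, T (T v) = 0) :
    ∃ (s t : ℕ) (w : Fin s → V) (u : Fin t → V),
      (∀ i, w i ∈ LinearMap.range T) ∧ (∀ j, T (u j) = 0) ∧
      LinearIndependent F w ∧ LinearIndependent F u ∧
      (∀ x, x ∈ Submodule.span F (Set.range w) → x ∈ Submodule.span F (Set.range u) → x = 0) ∧
      2 * s + t = Module.finrank F V := by
  classical
  have hRK : LinearMap.range T ≤ LinearMap.ker T := by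
    rintro _ ⟨v, rfl⟩
    exact hTT v
  obtain ⟨C, hC⟩ := Submodule.exists_isCompl (LinearMap.range T)
  obtain ⟨U, hU⟩ : ∃ U : Submodule F V, U = C ⊓ LinearMap.ker T := ⟨_, rfl⟩
  obtain ⟨s, hs⟩ : ∃ s, s = Module.finrank F (LinearMap.range T) := ⟨_, rfl⟩
  obtain ⟨t, ht⟩ : ∃ t, t = Module.finrank F U := ⟨_, rfl⟩
  obtain ⟨bR, -⟩ : ∃ _ : Module.Basis (Fin s) F (LinearMap.range T), True :=
    ⟨(Module.finBasis F _).reindex (finCongr hs.symm), trivial⟩
  obtain ⟨bU, -⟩ : ∃ _ : Module.Basis (Fin t) F U, True :=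
    ⟨(Module.finBasis F _).reindex (finCongr ht.symm), trivial⟩
  have hsup : LinearMap.range T ⊔ U = LinearMap.ker T := by
    rw [hU, ← sup_inf_assoc_of_le _ hRK, hC.sup_eq_top, top_inf_eq]
  have hinf : LinearMap.range T ⊓ U = ⊥ := by
    rw [hU, ← inf_assoc, hC.inf_eq_bot, bot_inf_eq]
  refine ⟨s, t, fun i => (bR i : V), fun j => (bU j : V), fun i => (bR i).2, ?_, ?_, ?_, ?_, ?_⟩
  · intro j
    have : (bU j : V) ∈ C ⊓ LinearMap.ker T := hU ▸ (bU j).2
    exact this.2
  · exact bR.linearIndependent.map' (LinearMap.range T).subtype (Submodule.ker_subtype _)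
  · exact bU.linearIndependent.map' U.subtype (Submodule.ker_subtype _)
  · intro x hx1 hx2
    have h1 : x ∈ LinearMap.range T := by
      refine (Submodule.span_le.2 ?_) hx1
      rintro _ ⟨i, rfl⟩
      exact (bR i).2
    have h2 : x ∈ U := by
      refine (Submodule.span_le.2 ?_) hx2
      rintro _ ⟨j, rfl⟩
      exact (bU j).2
    have : x ∈ LinearMap.range T ⊓ U := ⟨h1, h2⟩
    rw [hinf] at this
    exact (Submodule.mem_bot F).1 this
  · have h1 := LinearMap.finrank_range_add_finrank_ker T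
    have h2 := Submodule.finrank_sup_add_finrank_inf_eq (LinearMap.range T) U
    rw [hsup, hinf, finrank_bot] at h2
    omega

/-- Normal form of a matrix of square zero. -/
theorem exists_nilp_basis (N : Matrix (Fin n) (Fin n) F) (hN : N * N = 0) :
    ∃ (s t : ℕ) (b : Module.Basis ((Fin 2 × Fin s) ⊕ Fin t) F (Fin n → F)),
      (∀ i, N *ᵥ b (Sum.inl (0, i)) = b (Sum.inl (1, i))) ∧
      (∀ i, N *ᵥ b (Sum.inl (1, i)) = 0) ∧ (∀ j, N *ᵥ b (Sum.inr j) = 0) := by
  classical
  obtain ⟨T, hT⟩ : ∃ T : (Fin n → F) →ₗ[F] (Fin n → F), T = Matrix.toLin' N := ⟨_, rfl⟩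
  have hTv : ∀ v, T v = N *ᵥ v := fun v => by rw [hT, Matrix.toLin'_apply]
  have hTT : ∀ v, T (T v) = 0 := fun v => by
    rw [hTv, hTv, Matrix.mulVec_mulVec, hN, Matrix.zero_mulVec]
  obtain ⟨s, t, w, u, hwR, huK, hwli, huli, hdis, hdim⟩ := exists_ker_family T hTT
  have hv : ∀ i, ∃ v, T v = w i := fun i => hwR i
  choose v hv using hv
  have hw : ∀ i, T (w i) = 0 := fun i => by rw [← hv i, hTT]
  obtain ⟨g, hg⟩ : ∃ g : (Fin 2 × Fin s) ⊕ Fin t → (Fin n → F), g =
      Sum.elim (fun p => if p.1 = 0 then v p.2 else w p.2) u := ⟨_, rfl⟩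
  have hg0 : ∀ i, g (Sum.inl (0, i)) = v i := fun i => by rw [hg]; simp
  have hg1 : ∀ i, g (Sum.inl (1, i)) = w i := fun i => by rw [hg]; simp
  have hg2 : ∀ j, g (Sum.inr j) = u j := fun j => by rw [hg]; simp
  have hli := nilp_li T v w u hv hw huK hwli huli hdis g hg0 hg1 hg2
  have hcard : Fintype.card ((Fin 2 × Fin s) ⊕ Fin t) = Module.finrank F (Fin n → F) := by
    rw [Fintype.card_sum, Fintype.card_prod, Fintype.card_fin, Fintype.card_fin, Fintype.card_fin]
    exact hdim
  by_cases hne : Nonempty ((Fin 2 × Fin s) ⊕ Fin t)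
  · refine ⟨s, t, basisOfLinearIndependentOfCardEqFinrank hli hcard, ?_, ?_, ?_⟩
    · intro i
      rw [coe_basisOfLinearIndependentOfCardEqFinrank, hg0, hg1, ← hTv, hv]
    · intro i
      rw [coe_basisOfLinearIndependentOfCardEqFinrank, hg1, ← hTv, hw]
    · intro j
      rw [coe_basisOfLinearIndependentOfCardEqFinrank, hg2, ← hTv, huK]
  · rw [not_nonempty_iff] at hne
    have hn0 : Module.finrank F (Fin n → F) = 0 := by
      rw [← hcard]; exact Fintype.card_eq_zero
    have : Subsingleton (Fin n → F) := by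
      rw [Module.finrank_fin_fun] at hn0
      subst hn0
      infer_instance
    refine ⟨s, t, Module.Basis.empty _, ?_, ?_, ?_⟩
    · intro i; exact Subsingleton.elim _ _
    · intro i; exact Subsingleton.elim _ _
    · intro j; exact Subsingleton.elim _ _

end Cfsg.Agent.Helper7.Invol
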