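import Mathlib
import Cfsg.Agent.Helper7.InvolP

set_option autoImplicit false

namespace Cfsg.Agent.Helper7.Invol

open Matrix

variable {F : Type*} [Field F] {n : ℕ}

/-- Matrices acting in the same way on two bases are conjugate under `SL_n`, as soon as the
centraliser of the first has all determinants. -/
theorem conj_of_repr {ι : Type*} [Fintype ι] [DecidableEq ι]
    (X Y : Matrix (Fin n) (Fin n) F) (b b' : Module.Basis ι F (Fin n → F))
    (hact : ∀ p, b.repr (X *ᵥ b p) = b'.repr (Y *ᵥ b' p))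
    (hD : ∀ δ : F, δ ≠ 0 → ∃ D : Matrix (Fin n) (Fin n) F, D * X = X * D ∧ D.det = δ) :
    ∃ P : Matrix.SpecialLinearGroup (Fin n) F,
      X * (P : Matrix (Fin n) (Fin n) F) = (P : Matrix (Fin n) (Fin n) F) * Y := by
  classical
  obtain ⟨A, hA⟩ : ∃ A, A = LinearMap.toMatrix b b (Matrix.toLin' X) := ⟨_, rfl⟩
  have hXA : ActsVia X b A := (actsVia_iff X b A).2 hA.symm
  have hYA : ActsVia Y b' A := by
    rw [actsVia_iff]
    ext i j
    rw [hA, LinearMap.toMatrix_apply, LinearMap.toMatrix_apply, Matrix.toLin'_apply,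
      Matrix.toLin'_apply, hact]
  refine conj_of_actsVia X Y b b' A hXA hYA ?_
  intro δ hδ
  obtain ⟨D, hDX, hDd⟩ := hD δ hδ
  refine ⟨LinearMap.toMatrix b b (Matrix.toLin' D), ?_, ?_⟩
  · rw [hA, ← LinearMap.toMatrix_comp b b b, ← LinearMap.toMatrix_comp b b b, ← Matrix.toLin'_mul,
      ← Matrix.toLin'_mul, hDX]
  · rw [LinearMap.det_toMatrix, LinearMap.det_toLin', hDd]

/-- The diagonal scaling used for the centraliser of a Jordan-type matrix. -/
def nilpScale (s t : ℕ) (i₀ : Fin s) (a : F) : (Fin 2 × Fin s) ⊕ Fin t → F :=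
  Sum.elim (fun p => if p.2 = i₀ then a else 1) (fun _ => 1)

theorem prod_nilpScale (s t : ℕ) (i₀ : Fin s) (a : F) :
    ∏ p, nilpScale s t i₀ a p = a * a := by
  classical
  rw [Fintype.prod_sum_type, Fintype.prod_prod_type, Fin.prod_univ_two]
  simp only [nilpScale, Sum.elim_inl, Sum.elim_inr, Finset.prod_const_one, mul_one]
  rw [Finset.prod_ite_eq' Finset.univ i₀]
  simp

/-- Two matrices `μ + N` with `N² = 0` of the same rank are conjugate under `SL_n` (when every
element of the field is a square). -/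
theorem conj_nilp (hsq : ∀ δ : F, ∃ a : F, a * a = δ) (X Y : Matrix (Fin n) (Fin n) F) (μ : F)
    (s t : ℕ) (hs : 0 < s)
    (b b' : Module.Basis ((Fin 2 × Fin s) ⊕ Fin t) F (Fin n → F))
    (hX0 : ∀ i, X *ᵥ b (Sum.inl (0, i)) = μ • b (Sum.inl (0, i)) + b (Sum.inl (1, i)))
    (hX1 : ∀ i, X *ᵥ b (Sum.inl (1, i)) = μ • b (Sum.inl (1, i)))
    (hX2 : ∀ j, X *ᵥ b (Sum.inr j) = μ • b (Sum.inr j))
    (hY0 : ∀ i, Y *ᵥ b' (Sum.inl (0, i)) = μ • b' (Sum.inl (0, i)) + b' (Sum.inl (1, i)))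
    (hY1 : ∀ i, Y *ᵥ b' (Sum.inl (1, i)) = μ • b' (Sum.inl (1, i)))
    (hY2 : ∀ j, Y *ᵥ b' (Sum.inr j) = μ • b' (Sum.inr j)) :
    ∃ P : Matrix.SpecialLinearGroup (Fin n) F,
      X * (P : Matrix (Fin n) (Fin n) F) = (P : Matrix (Fin n) (Fin n) F) * Y := by
  classical
  apply conj_of_repr X Y b b'
  · rintro ((⟨a, i⟩) | j)
    · fin_cases a
      · simp only [Fin.zero_eta, Fin.isValue]
        rw [hX0, hY0]
        simp only [map_add, map_smul, Module.Basis.repr_self]
      · simp only [Fin.mk_one, Fin.isValue]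
        rw [hX1, hY1]
        simp only [map_smul, Module.Basis.repr_self]
    · rw [hX2, hY2]
      simp only [map_smul, Module.Basis.repr_self]
  · intro δ _
    obtain ⟨a, ha⟩ := hsq δ
    refine ⟨Dg b (nilpScale s t ⟨0, hs⟩ a), ?_, ?_⟩
    · apply eq_of_mulVec_basis b
      rintro ((⟨c, i⟩) | j)
      · fin_cases c
        · simp only [Fin.zero_eta, Fin.isValue]
          rw [← Matrix.mulVec_mulVec, ← Matrix.mulVec_mulVec, hX0, Dg_mulVec, Matrix.mulVec_add,
            Matrix.mulVec_smul, Matrix.mulVec_smul, Dg_mulVec, Dg_mulVec, hX0]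
          simp only [nilpScale, Sum.elim_inl]
          module
        · simp only [Fin.mk_one, Fin.isValue]
          rw [← Matrix.mulVec_mulVec, ← Matrix.mulVec_mulVec, hX1, Dg_mulVec,
            Matrix.mulVec_smul, Matrix.mulVec_smul, Dg_mulVec, hX1]
          module
      · rw [← Matrix.mulVec_mulVec, ← Matrix.mulVec_mulVec, hX2, Dg_mulVec,
          Matrix.mulVec_smul, Matrix.mulVec_smul, Dg_mulVec, hX2]
        module
    · rw [det_of_diag_basis _ b _ (Dg_mulVec b _), prod_nilpScale, ha]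

end Cfsg.Agent.Helper7.Invol
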