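import Mathlib
import Cfsg.Agent.Helper7.InvolQ
import Cfsg.Agent.Helper7.SLMaxB
import Cfsg.Agent.Helper8.SpSSympIso

set_option autoImplicit false

namespace Cfsg.Agent.Helper7.Invol

open Matrix Cfsg.Geo

variable {F : Type*} [Field F] {n : ℕ}

/-- The bilinear map attached to a bilinear form given as a function. -/
def formMap (f : (Fin n → F) → (Fin n → F) → F) (hf : IsBilinearForm f) :
    (Fin n → F) →ₗ[F] (Fin n → F) →ₗ[F] F :=
  LinearMap.mk₂ F f hf.add_left hf.smul_left hf.add_right hf.smul_right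

theorem formMap_apply (f : (Fin n → F) → (Fin n → F) → F) (hf : IsBilinearForm f)
    (u v : Fin n → F) : formMap f hf u v = f u v := rfl

/-- A symplectic basis of a symplectic form. -/
theorem exists_symp_basis_fn (f : (Fin n → F) → (Fin n → F) → F) (hf : IsSymplecticForm f) :
    ∃ (k : ℕ) (b : Module.Basis (Fin k ⊕ Fin k) F (Fin n → F)), n = 2 * k ∧
      ∀ x y, f (b x) (b y) = Cfsg.Agent.Helper8.SpS.Jent x y := by
  have hAlt : Cfsg.Agent.Helper8.SpS.Alt (formMap f hf.bilinear) := fun v => hf.alternating v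
  have hND : Cfsg.Agent.Helper8.SpS.Nondeg (formMap f hf.bilinear) := by
    intro u hu
    by_contra hu0
    obtain ⟨x, hx⟩ := (hf.nondegenerate u hu0).2
    exact hx (hu x)
  obtain ⟨k, b, hb⟩ := Cfsg.Agent.Helper8.SpS.exists_symp_basis (formMap f hf.bilinear) hAlt hND
  refine ⟨k, b, ?_, hb⟩
  have := card_of_basis b
  rw [Fintype.card_sum, Fintype.card_fin] at this
  omega

/-- A similitude identity can be checked on a basis. -/
theorem sim_of_basis {ι : Type*} [Fintype ι] [DecidableEq ι]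
    (f : (Fin n → F) → (Fin n → F) → F) (hf : IsBilinearForm f)
    (b : Module.Basis ι F (Fin n → F)) (Y : Matrix (Fin n) (Fin n) F) (c : F)
    (h : ∀ p q, f (Y *ᵥ b p) (Y *ᵥ b q) = c * f (b p) (b q)) :
    ∀ u v, f (Y *ᵥ u) (Y *ᵥ v) = c * f u v := by
  have h1 : (formMap f hf).compl₁₂ (Matrix.toLin' Y) (Matrix.toLin' Y) = c • formMap f hf := by
    apply LinearMap.ext_basis b b
    intro p q
    rw [LinearMap.compl₁₂_apply, LinearMap.smul_apply, LinearMap.smul_apply, formMap_apply,
      formMap_apply, Matrix.toLin'_apply, Matrix.toLin'_apply, smul_eq_mul]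
    exact h p q
  intro u v
  have := LinearMap.congr_fun (LinearMap.congr_fun h1 u) v
  rw [LinearMap.compl₁₂_apply, LinearMap.smul_apply, LinearMap.smul_apply, formMap_apply,
    formMap_apply, Matrix.toLin'_apply, Matrix.toLin'_apply, smul_eq_mul] at this
  exact this

/-- Vanishing of `f · w` can be checked on a basis. -/
theorem form_left_zero_of_basis {ι : Type*} [Fintype ι] [DecidableEq ι]
    (f : (Fin n → F) → (Fin n → F) → F) (hf : IsBilinearForm f)
    (b : Module.Basis ι F (Fin n → F)) (w : Fin n → F) (h : ∀ i, f (b i) w = 0) :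
    ∀ x, f x w = 0 := by
  have h1 : (formMap f hf).flip w = 0 := by
    apply b.ext
    intro i
    rw [LinearMap.flip_apply, formMap_apply, LinearMap.zero_apply]
    exact h i
  intro x
  have := LinearMap.congr_fun h1 x
  rw [LinearMap.flip_apply, formMap_apply, LinearMap.zero_apply] at this
  exact this

/-- The matrix of a conjugate. -/
theorem conj_val (x P : Matrix.SpecialLinearGroup (Fin n) F) (Y : Matrix (Fin n) (Fin n) F)
    (hXP : (x : Matrix (Fin n) (Fin n) F) * (P : Matrix (Fin n) (Fin n) F) =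
      (P : Matrix (Fin n) (Fin n) F) * Y) :
    ((Matrix.SpecialLinearGroup.toGL (P⁻¹ * x * P) : GL (Fin n) F) :
      Matrix (Fin n) (Fin n) F) = Y := by
  have hPiP : ((P⁻¹ : Matrix.SpecialLinearGroup (Fin n) F) : Matrix (Fin n) (Fin n) F) *
      (P : Matrix (Fin n) (Fin n) F) = 1 := by
    rw [← Matrix.SpecialLinearGroup.coe_mul, inv_mul_cancel, Matrix.SpecialLinearGroup.coe_one]
  change ((P⁻¹ * x * P : Matrix.SpecialLinearGroup (Fin n) F) : Matrix (Fin n) (Fin n) F) = Y
  rw [Matrix.SpecialLinearGroup.coe_mul, Matrix.SpecialLinearGroup.coe_mul, Matrix.mul_assoc,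
    hXP, ← Matrix.mul_assoc, hPiP, Matrix.one_mul]

/-- Membership of a conjugate in the preimage of the similarity group. -/
theorem mem_sim_comap_of (f : (Fin n → F) → (Fin n → F) → F)
    (x P : Matrix.SpecialLinearGroup (Fin n) F) (Y : Matrix (Fin n) (Fin n) F)
    (hXP : (x : Matrix (Fin n) (Fin n) F) * (P : Matrix (Fin n) (Fin n) F) =
      (P : Matrix (Fin n) (Fin n) F) * Y) (c : F) (hc : c ≠ 0)
    (hY : ∀ u v, f (Y *ᵥ u) (Y *ᵥ v) = c * f u v) :
    P⁻¹ * x * P ∈ (similarityGroup f).comap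
      (Matrix.SpecialLinearGroup.toGL : Matrix.SpecialLinearGroup (Fin n) F →* GL (Fin n) F) := by
  rw [Subgroup.mem_comap]
  refine ⟨Units.mk0 c hc, fun u v => ?_⟩
  rw [conj_val x P Y hXP]
  exact hY u v

end Cfsg.Agent.Helper7.Invol
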