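import Mathlib
import Cfsg.Agent.Helper7.InvolR

set_option autoImplicit false

namespace Cfsg.Agent.Helper7.Invol

open Matrix Cfsg.Geo

variable {F : Type*} [Field F] {n : ℕ}

/-- The matrix with prescribed values on a basis. -/
noncomputable def constrMat {ι : Type*} (b : Module.Basis ι F (Fin n → F))
    (g : ι → (Fin n → F)) : Matrix (Fin n) (Fin n) F :=
  LinearMap.toMatrix' (b.constr F g)

theorem constrMat_mulVec {ι : Type*} (b : Module.Basis ι F (Fin n → F))
    (g : ι → (Fin n → F)) (i : ι) : constrMat b g *ᵥ b i = g i := by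
  rw [constrMat, ← Matrix.toLin'_apply, Matrix.toLin'_toMatrix', Module.Basis.constr_basis]

/-- Extending an injection to a bijection from a sum. -/
theorem exists_equiv_extend {α β γ : Type*} [Fintype α] [Fintype β] [Fintype γ] [DecidableEq γ]
    (φ : α → γ) (hφ : Function.Injective φ)
    (hcard : Fintype.card α + Fintype.card β = Fintype.card γ) :
    ∃ E : α ⊕ β ≃ γ, ∀ a, E (Sum.inl a) = φ a := by
  classical
  have h1 : Fintype.card β = Fintype.card ↥(Set.range φ)ᶜ := by
    rw [Fintype.card_compl_set, Set.card_range_of_injective hφ]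
    omega
  refine ⟨(Equiv.sumCongr (Equiv.ofInjective φ hφ) (Fintype.equivOfCardEq h1)).trans
    (Equiv.Set.sumCompl (Set.range φ)), ?_⟩
  intro a
  simp

open Cfsg.Agent.Helper8.SpS in
theorem sim_typeII [Fintype F] (h2 : (2 : F) ≠ 0) (hn : 0 < n)
    (f : (Fin n → F) → (Fin n → F) → F) (hf : IsSymplecticForm f)
    (x : Matrix.SpecialLinearGroup (Fin n) F) (z : F) (hz : ¬ IsSquare z)
    (hx : (x : Matrix (Fin n) (Fin n) F) * (x : Matrix (Fin n) (Fin n) F) = z • 1) :
    ∃ P : Matrix.SpecialLinearGroup (Fin n) F, P⁻¹ * x * P ∈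
      ((similarityGroup f).comap (Matrix.SpecialLinearGroup.toGL :
        Matrix.SpecialLinearGroup (Fin n) F →* GL (Fin n) F)) := by
  classical
  obtain ⟨k, bs, -, hbs⟩ := exists_symp_basis_fn f hf
  obtain ⟨Y, hY⟩ : ∃ Y, Y = constrMat bs
      (Sum.elim (fun i => bs (Sum.inr i)) (fun i => z • bs (Sum.inl i))) := ⟨_, rfl⟩
  have hYl : ∀ i, Y *ᵥ bs (Sum.inl i) = bs (Sum.inr i) := fun i => by
    rw [hY, constrMat_mulVec]; rfl
  have hYr : ∀ i, Y *ᵥ bs (Sum.inr i) = z • bs (Sum.inl i) := fun i => by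
    rw [hY, constrMat_mulVec]; rfl
  have hYY : Y * Y = z • (1 : Matrix (Fin n) (Fin n) F) := by
    apply eq_of_mulVec_basis bs
    rintro (i | i)
    · rw [← Matrix.mulVec_mulVec, hYl, hYr, Matrix.smul_mulVec, Matrix.one_mulVec]
    · rw [← Matrix.mulVec_mulVec, hYr, Matrix.mulVec_smul, hYl, Matrix.smul_mulVec,
        Matrix.one_mulVec]
  have hodd : Fintype.card F % 2 = 1 := by
    have := two_eq_zero_iff_card (F := F)
    by_contra h
    exact h2 (this.2 (by omega))
  obtain ⟨P, hP⟩ := conj_typeII hodd hn (x : Matrix (Fin n) (Fin n) F) Y z hz hx hYY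
  have hz0 : z ≠ 0 := fun h => hz (h ▸ ⟨0, by simp⟩)
  refine ⟨P, mem_sim_comap_of f x P Y hP (-z) (neg_ne_zero.2 hz0) ?_⟩
  apply sim_of_basis f hf.bilinear bs
  rintro (i | i) (j | j)
  · rw [hYl, hYl, hbs, hbs]; simp [Jent]
  · rw [hYl, hYr, hf.bilinear.smul_right, hbs, hbs]
    by_cases hij : i = j <;> simp [Jent, hij]
  · rw [hYr, hYl, hf.bilinear.smul_left, hbs, hbs]
    by_cases hij : i = j <;> simp [Jent, hij]
  · rw [hYr, hYr, hf.bilinear.smul_left, hf.bilinear.smul_right, hbs, hbs]; simp [Jent]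

end Cfsg.Agent.Helper7.Invol
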