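import Mathlib
import Cfsg.Agent.Helper7.InvolS

set_option autoImplicit false

namespace Cfsg.Agent.Helper7.Invol

open Matrix Cfsg.Geo

variable {F : Type*} [Field F] {n : ℕ}

theorem card_sum_fiber_lt (k r' : ℕ) (hr : r' ≤ k) (μ : F) (hμ : μ ≠ -μ) :
    Nat.card {p : Fin k ⊕ Fin k // μ * (Sum.elim (fun i : Fin k => if i.val < r' then (-1 : F) else 1)
      (fun i : Fin k => if i.val < r' then (-1 : F) else 1) p) = -μ} = 2 * r' := by
  classical
  rw [Nat.card_eq_fintype_card, Fintype.card_subtype, Finset.card_filter,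
    Fintype.sum_sum_type]
  have h : ∀ j : Fin k, (μ * (if j.val < r' then (-1 : F) else 1) = -μ) ↔ j.val < r' := by
    intro j
    by_cases hj : j.val < r'
    · simp [hj]
    · simp [hj, hμ]
  simp only [Sum.elim_inl, Sum.elim_inr, h]
  rw [← Finset.card_filter]
  have := Fin.card_filter_val_lt (n := k) (m := r')
  rw [Nat.min_eq_right hr] at this
  rw [this]; ring

open Cfsg.Agent.Helper8.SpS in
theorem sim_typeI [Fintype F] (h2 : (2 : F) ≠ 0) (hn : 2 ≤ n)
    (f : (Fin n → F) → (Fin n → F) → F) (hf : IsSymplecticForm f)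
    (hcond : padicValNat 2 (Fintype.card F - 1) ≤ padicValNat 2 n)
    (x : Matrix.SpecialLinearGroup (Fin n) F) (μ : F)
    (hx : (x : Matrix (Fin n) (Fin n) F) * (x : Matrix (Fin n) (Fin n) F) = (μ * μ) • 1)
    (hns : ∀ z : F, (x : Matrix (Fin n) (Fin n) F) ≠ z • (1 : Matrix (Fin n) (Fin n) F)) :
    ∃ P : Matrix.SpecialLinearGroup (Fin n) F, P⁻¹ * x * P ∈
      ((similarityGroup f).comap (Matrix.SpecialLinearGroup.toGL :
        Matrix.SpecialLinearGroup (Fin n) F →* GL (Fin n) F)) := by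
  classical
  have hn0 : 0 < n := by omega
  have hμ : μ ≠ 0 := by
    intro h0
    exact mu_ne_zero_of_sq hn0 x (μ * μ) hx (by rw [h0, mul_zero])
  have hμne : μ ≠ -μ := by
    intro h
    have : 2 * μ = 0 := by linear_combination h
    rcases mul_eq_zero.1 this with h' | h'
    · exact h2 h'
    · exact hμ h'
  obtain ⟨r, s, b, hbl, hbr⟩ := exists_diag_basis (x : Matrix (Fin n) (Fin n) F) μ hμ h2 hx
  have hrs : r + s = n := by
    have := card_of_basis b
    rwa [Fintype.card_sum, Fintype.card_fin, Fintype.card_fin] at this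
  have hXlam : ∀ i, (x : Matrix (Fin n) (Fin n) F) *ᵥ b i =
      (Sum.elim (fun _ : Fin r => -μ) (fun _ : Fin s => μ) i) • b i := by
    rintro (i | j)
    · exact hbl i
    · exact hbr j
  have hr0 : r ≠ 0 := by
    intro h0
    subst h0
    apply hns μ
    apply eq_of_mulVec_basis b
    rintro (i | j)
    · exact i.elim0
    · rw [hbr j, Matrix.smul_mulVec, Matrix.one_mulVec]
  have hdet : (-μ) ^ r * μ ^ s = 1 := by
    have := det_of_diag_basis (x : Matrix (Fin n) (Fin n) F) b _ hXlam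
    rw [x.det_coe, Fintype.prod_sum_type] at this
    simpa using this.symm
  have hreven : Even r := by
    by_contra hodd
    rw [Nat.not_even_iff_odd] at hodd
    rw [hodd.neg_pow] at hdet
    apply pow_ne_neg_one h2 hcond (by omega) μ
    rw [← hrs, pow_add]
    linear_combination -hdet
  obtain ⟨r', hr'⟩ := hreven
  obtain ⟨k, bs, hnk, hbs⟩ := exists_symp_basis_fn f hf
  have hr'k : r' ≤ k := by omega
  obtain ⟨ε, hε⟩ : ∃ ε : Fin k ⊕ Fin k → F, ε =
      Sum.elim (fun i : Fin k => if i.val < r' then (-1 : F) else 1)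
        (fun i : Fin k => if i.val < r' then (-1 : F) else 1) := ⟨_, rfl⟩
  have hεl : ∀ i, ε (Sum.inl i) = if i.val < r' then (-1 : F) else 1 := fun i => by rw [hε]; rfl
  have hεr : ∀ i, ε (Sum.inr i) = if i.val < r' then (-1 : F) else 1 := fun i => by rw [hε]; rfl
  have hε1 : ∀ p, ε p = 1 ∨ ε p = -1 := by
    rintro (i | i)
    · rw [hεl]; by_cases h : i.val < r' <;> simp [h]
    · rw [hεr]; by_cases h : i.val < r' <;> simp [h]
  obtain ⟨Y, hY⟩ : ∃ Y, Y = μ • Dg bs ε := ⟨_, rfl⟩
  have hYlam : ∀ p, Y *ᵥ bs p = (μ * ε p) • bs p := by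
    intro p
    rw [hY, Matrix.smul_mulVec, Dg_mulVec, smul_smul]
  have hcard : Fintype.card (Fin r ⊕ Fin s) = Fintype.card (Fin k ⊕ Fin k) := by
    rw [card_of_basis b, card_of_basis bs]
  obtain ⟨σ, hσ⟩ := exists_equiv_two_valued
    (Sum.elim (fun _ : Fin r => -μ) (fun _ : Fin s => μ)) (fun p => μ * ε p) (-μ) μ
    (by rintro (i | j) <;> simp)
    (by
      intro p
      rcases hε1 p with h | h
      · right; rw [h, mul_one]
      · left; rw [h]; ring)
    (by
      rw [card_sum_fiber r s μ hμne, hε, card_sum_fiber_lt k r' hr'k μ hμne, hr']; ring) hcard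
  have : Nonempty (Fin r ⊕ Fin s) := ⟨Sum.inl ⟨0, Nat.pos_of_ne_zero hr0⟩⟩
  obtain ⟨P, hP⟩ := conj_of_diag (x : Matrix (Fin n) (Fin n) F) Y b bs
    (Sum.elim (fun _ : Fin r => -μ) (fun _ : Fin s => μ)) (fun p => μ * ε p) hXlam hYlam σ hσ
  refine ⟨P, mem_sim_comap_of f x P Y hP (μ * μ) (mul_ne_zero hμ hμ) ?_⟩
  apply sim_of_basis f hf.bilinear bs
  intro p q
  rw [hYlam, hYlam, hf.bilinear.smul_left, hf.bilinear.smul_right, hbs]
  rcases p with i | i <;> rcases q with j | j
  · simp [Jent]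
  · by_cases hij : i = j
    · subst hij
      rw [hεl, hεr]
      by_cases h : i.val < r' <;> simp [Jent, h] <;> ring
    · simp [Jent, hij]
  · by_cases hij : i = j
    · subst hij
      rw [hεl, hεr]
      by_cases h : i.val < r' <;> simp [Jent, h] <;> ring
    · simp [Jent, hij]
  · simp [Jent]

end Cfsg.Agent.Helper7.Invol
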