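import Mathlib
import Cfsg.Agent.Helper7.InvolT

set_option autoImplicit false

namespace Cfsg.Agent.Helper7.Invol

open Matrix Cfsg.Geo

variable {F : Type*} [Field F] {n : ℕ}

/-- The map `v ↦ ∑ i, f(v, ψ i) ψ i`. -/
noncomputable def isoMap (f : (Fin n → F) → (Fin n → F) → F) (hf : IsBilinearForm f) {s : ℕ}
    (ψ : Fin s → (Fin n → F)) : (Fin n → F) →ₗ[F] (Fin n → F) :=
  ∑ i, ((formMap f hf).flip (ψ i)).smulRight (ψ i)

theorem isoMap_apply (f : (Fin n → F) → (Fin n → F) → F) (hf : IsBilinearForm f) {s : ℕ}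
    (ψ : Fin s → (Fin n → F)) (v : Fin n → F) :
    isoMap f hf ψ v = ∑ i, f v (ψ i) • ψ i := by
  rw [isoMap, LinearMap.sum_apply]
  rfl

theorem form_sum_left (f : (Fin n → F) → (Fin n → F) → F) (hf : IsBilinearForm f) {s : ℕ}
    (c : Fin s → F) (ψ : Fin s → (Fin n → F)) (v : Fin n → F) :
    f (∑ i, c i • ψ i) v = ∑ i, c i * f (ψ i) v := by
  have := map_sum ((formMap f hf).flip v) (fun i => c i • ψ i) Finset.univ
  simp only [LinearMap.flip_apply, formMap_apply] at this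
  rw [this]
  exact Finset.sum_congr rfl (fun i _ => hf.smul_left _ _ _)

theorem form_sum_right (f : (Fin n → F) → (Fin n → F) → F) (hf : IsBilinearForm f) {s : ℕ}
    (c : Fin s → F) (ψ : Fin s → (Fin n → F)) (v : Fin n → F) :
    f v (∑ i, c i • ψ i) = ∑ i, c i * f v (ψ i) := by
  have := map_sum (formMap f hf v) (fun i => c i • ψ i) Finset.univ
  simp only [formMap_apply] at this
  rw [this]
  exact Finset.sum_congr rfl (fun i _ => hf.smul_right _ _ _)

/-- `μ + S` is a similitude when `S` is built from a totally isotropic family. -/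
theorem sim_isoMap (f : (Fin n → F) → (Fin n → F) → F) (hf : IsSymplecticForm f) {s : ℕ}
    (ψ : Fin s → (Fin n → F)) (hψ : ∀ i j, f (ψ i) (ψ j) = 0) (μ : F)
    (Y : Matrix (Fin n) (Fin n) F)
    (hY : ∀ v, Y *ᵥ v = μ • v + isoMap f hf.bilinear ψ v) :
    ∀ u v, f (Y *ᵥ u) (Y *ᵥ v) = (μ * μ) * f u v := by
  intro u v
  rw [hY, hY, isoMap_apply, isoMap_apply]
  have hA : f (μ • u) (μ • v) = μ * μ * f u v := by
    rw [hf.bilinear.smul_left, hf.bilinear.smul_right]; ring
  have hB : f (μ • u) (∑ j, f v (ψ j) • ψ j) = μ * ∑ j, f v (ψ j) * f u (ψ j) := by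
    rw [hf.bilinear.smul_left, form_sum_right f hf.bilinear]
  have hC : f (∑ i, f u (ψ i) • ψ i) (μ • v) = - (μ * ∑ j, f v (ψ j) * f u (ψ j)) := by
    rw [hf.bilinear.smul_right, form_sum_left f hf.bilinear, ← mul_neg, ← Finset.sum_neg_distrib]
    congr 1
    refine Finset.sum_congr rfl (fun i _ => ?_)
    rw [hf.skew (ψ i) v]; ring
  have hD : f (∑ i, f u (ψ i) • ψ i) (∑ j, f v (ψ j) • ψ j) = 0 := by
    rw [form_sum_left f hf.bilinear]
    refine Finset.sum_eq_zero (fun i _ => ?_)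
    rw [form_sum_right f hf.bilinear]
    rw [Finset.sum_eq_zero (fun j _ => by rw [hψ, mul_zero]), mul_zero]
  rw [hf.bilinear.add_left, hf.bilinear.add_right, hf.bilinear.add_right, hA, hB, hC, hD]
  ring

open Cfsg.Agent.Helper8.SpS in
theorem Jent_inr_of_ne {k : ℕ} (x : Fin k ⊕ Fin k) (l : Fin k) (h : x ≠ Sum.inl l) :
    (Jent x (Sum.inr l) : F) = 0 := by
  rcases x with i | i
  · have : i ≠ l := fun h' => h (by rw [h'])
    simp [Jent, this]
  · simp [Jent]

end Cfsg.Agent.Helper7.Invol
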