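import Mathlib
import Cfsg.Agent.Helper7.InvolU

set_option autoImplicit false

namespace Cfsg.Agent.Helper7.Invol

open Matrix Cfsg.Geo

variable {F : Type*} [Field F] {n : ℕ}

/-- Normal form data of a non-scalar matrix with `(X - μ)² = 0`. -/
theorem exists_nilp_data (X : Matrix (Fin n) (Fin n) F) (μ : F)
    (hX : (X - μ • 1) * (X - μ • 1) = 0) (hXne : X ≠ μ • 1) :
    ∃ (s t : ℕ) (b : Module.Basis ((Fin 2 × Fin s) ⊕ Fin t) F (Fin n → F)), 0 < s ∧
      2 * s + t = n ∧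
      (∀ i, X *ᵥ b (Sum.inl (0, i)) = μ • b (Sum.inl (0, i)) + b (Sum.inl (1, i))) ∧
      (∀ i, X *ᵥ b (Sum.inl (1, i)) = μ • b (Sum.inl (1, i))) ∧
      (∀ j, X *ᵥ b (Sum.inr j) = μ • b (Sum.inr j)) := by
  classical
  obtain ⟨s, t, b, h0, h1, h2⟩ := exists_nilp_basis (X - μ • 1) hX
  have hXv : ∀ v, X *ᵥ v = μ • v + (X - μ • 1) *ᵥ v := by
    intro v
    rw [Matrix.sub_mulVec, Matrix.smul_mulVec, Matrix.one_mulVec]; abel
  have hst : 2 * s + t = n := by
    have := card_of_basis b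
    rw [Fintype.card_sum, Fintype.card_prod, Fintype.card_fin, Fintype.card_fin,
      Fintype.card_fin] at this
    exact this
  refine ⟨s, t, b, ?_, hst, ?_, ?_, ?_⟩
  · by_contra hs
    have hs0 : s = 0 := by omega
    subst hs0
    apply hXne
    apply eq_of_mulVec_basis b
    rintro ((⟨a, i⟩) | j)
    · exact i.elim0
    · rw [hXv, h2, add_zero, Matrix.smul_mulVec, Matrix.one_mulVec]
  · intro i; rw [hXv, h0]
  · intro i; rw [hXv, h1, add_zero]
  · intro j; rw [hXv, h2, add_zero]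

open Cfsg.Agent.Helper8.SpS in
theorem sim_char2 [Fintype F] (h2 : (2 : F) = 0) (hn : 0 < n)
    (f : (Fin n → F) → (Fin n → F) → F) (hf : IsSymplecticForm f)
    (x : Matrix.SpecialLinearGroup (Fin n) F) (z : F)
    (hx : (x : Matrix (Fin n) (Fin n) F) * (x : Matrix (Fin n) (Fin n) F) = z • 1)
    (hns : ∀ z : F, (x : Matrix (Fin n) (Fin n) F) ≠ z • (1 : Matrix (Fin n) (Fin n) F)) :
    ∃ P : Matrix.SpecialLinearGroup (Fin n) F, P⁻¹ * x * P ∈
      ((similarityGroup f).comap (Matrix.SpecialLinearGroup.toGL :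
        Matrix.SpecialLinearGroup (Fin n) F →* GL (Fin n) F)) := by
  classical
  have hchar : ringChar F = 2 :=
    CharP.ringChar_of_prime_eq_zero Nat.prime_two (by exact_mod_cast h2)
  obtain ⟨μ, hμz⟩ := FiniteField.isSquare_of_char_two hchar z
  rw [hμz] at hx
  have hμ : μ ≠ 0 := by
    intro h0
    exact mu_ne_zero_of_sq hn x (μ * μ) hx (by rw [h0, mul_zero])
  obtain ⟨s, t, b, hs, hst, hX0, hX1, hX2⟩ := exists_nilp_data (x : Matrix (Fin n) (Fin n) F) μ
    (sq_sub_eq_zero h2 _ μ hx) (hns μ)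
  obtain ⟨k, bs, hnk, hbs⟩ := exists_symp_basis_fn f hf
  have hsk : s ≤ k := by omega
  -- the index bijection
  obtain ⟨φ, hφ⟩ : ∃ φ : Fin 2 × Fin s → Fin k ⊕ Fin k, φ = fun p =>
      if p.1 = 0 then Sum.inl (Fin.castLE hsk p.2) else Sum.inr (Fin.castLE hsk p.2) := ⟨_, rfl⟩
  have hφ0 : ∀ i, φ (0, i) = Sum.inl (Fin.castLE hsk i) := fun i => by rw [hφ]; simp
  have hφ1 : ∀ i, φ (1, i) = Sum.inr (Fin.castLE hsk i) := fun i => by rw [hφ]; simp
  have hφinj : Function.Injective φ := by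
    rintro ⟨a, i⟩ ⟨c, j⟩ h
    fin_cases a <;> fin_cases c
    · simp only [Fin.zero_eta, Fin.isValue] at h ⊢
      rw [hφ0, hφ0] at h
      have := Fin.castLE_injective hsk (Sum.inl_injective h)
      rw [this]
    · simp only [Fin.zero_eta, Fin.mk_one, Fin.isValue] at h
      rw [hφ0, hφ1] at h
      exact absurd h (by simp)
    · simp only [Fin.zero_eta, Fin.mk_one, Fin.isValue] at h
      rw [hφ0, hφ1] at h
      exact absurd h (by simp)
    · simp only [Fin.mk_one, Fin.isValue] at h ⊢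
      rw [hφ1, hφ1] at h
      have := Fin.castLE_injective hsk (Sum.inr_injective h)
      rw [this]
  obtain ⟨E, hE⟩ := exists_equiv_extend (β := Fin t) φ hφinj (by
    simp only [Fintype.card_prod, Fintype.card_sum, Fintype.card_fin]
    omega)
  obtain ⟨b', hb'⟩ : ∃ b' : Module.Basis ((Fin 2 × Fin s) ⊕ Fin t) F (Fin n → F),
      ∀ p, b' p = bs (E p) := ⟨bs.reindex E.symm, fun p => by simp⟩
  -- the totally isotropic family
  obtain ⟨ψ, hψ⟩ : ∃ ψ : Fin s → (Fin n → F), ψ = fun i => bs (Sum.inr (Fin.castLE hsk i)) :=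
    ⟨_, rfl⟩
  have hψψ : ∀ i j, f (ψ i) (ψ j) = 0 := fun i j => by
    rw [hψ]; simp only; rw [hbs]; rfl
  obtain ⟨Y, hY⟩ : ∃ Y : Matrix (Fin n) (Fin n) F,
      Y = μ • 1 + LinearMap.toMatrix' (isoMap f hf.bilinear ψ) := ⟨_, rfl⟩
  have hYv : ∀ v, Y *ᵥ v = μ • v + isoMap f hf.bilinear ψ v := by
    intro v
    rw [hY, Matrix.add_mulVec, Matrix.smul_mulVec, Matrix.one_mulVec, ← Matrix.toLin'_apply,
      Matrix.toLin'_toMatrix']
  have hiso0 : ∀ i, isoMap f hf.bilinear ψ (b' (Sum.inl (0, i))) = b' (Sum.inl (1, i)) := by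
    intro i
    rw [isoMap_apply, hb', hb', hE, hE, hφ0, hφ1, Finset.sum_eq_single i]
    · rw [hψ]; simp only; rw [hbs]; simp [Jent]
    · intro j _ hji
      rw [hψ]; simp only; rw [hbs]
      have : Fin.castLE hsk i ≠ Fin.castLE hsk j := fun h => hji (Fin.castLE_injective hsk h).symm
      simp [Jent, this]
    · intro h; exact absurd (Finset.mem_univ i) h
  have hiso1 : ∀ i, isoMap f hf.bilinear ψ (b' (Sum.inl (1, i))) = 0 := by
    intro i
    rw [isoMap_apply, hb', hE, hφ1]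
    refine Finset.sum_eq_zero (fun j _ => ?_)
    rw [hψ]; simp only; rw [hbs]; simp [Jent]
  have hiso2 : ∀ j, isoMap f hf.bilinear ψ (b' (Sum.inr j)) = 0 := by
    intro j
    rw [isoMap_apply, hb']
    refine Finset.sum_eq_zero (fun i _ => ?_)
    rw [hψ]; simp only; rw [hbs, Jent_inr_of_ne, zero_smul]
    intro h
    rw [← hφ0, ← hE] at h
    exact absurd (E.injective h) (by simp)
  obtain ⟨P, hP⟩ := conj_nilp (fun δ => by
      obtain ⟨a, ha⟩ := FiniteField.isSquare_of_char_two hchar δ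
      exact ⟨a, ha.symm⟩) (x : Matrix (Fin n) (Fin n) F) Y μ s t hs b b' hX0 hX1 hX2
    (fun i => by rw [hYv, hiso0]) (fun i => by rw [hYv, hiso1, add_zero])
    (fun j => by rw [hYv, hiso2, add_zero])
  exact ⟨P, mem_sim_comap_of f x P Y hP (μ * μ) (mul_ne_zero hμ hμ)
    (sim_isoMap f hf ψ hψψ μ Y hYv)⟩

end Cfsg.Agent.Helper7.Invol
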