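import Mathlib
import Cfsg.Agent.Helper7.InvolV

set_option autoImplicit false

namespace Cfsg.Agent.Helper7.Invol

open Matrix Cfsg.Geo

variable {F : Type*} [Field F] {n : ℕ}

/-- A nonzero vector orthogonal to a basis contradicts nondegeneracy. -/
theorem false_of_perp_basis {ι : Type*} [Fintype ι] [DecidableEq ι]
    (f : (Fin n → F) → (Fin n → F) → F) (hf : IsSymplecticForm f)
    (b : Module.Basis ι F (Fin n → F)) (w : Fin n → F) (hw : w ≠ 0)
    (h : ∀ i, f (b i) w = 0) : False := by
  obtain ⟨x, hx⟩ := (hf.nondegenerate w hw).1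
  exact hx (form_left_zero_of_basis f hf.bilinear b w h x)

/-- A scalar multiple of a reflection is not a similitude of a symplectic form in dimension
at least three. -/
theorem no_reflection_sim (h2 : (2 : F) ≠ 0) (hn : 3 ≤ n)
    (f : (Fin n → F) → (Fin n → F) → F) (hf : IsSymplecticForm f)
    (Y : Matrix (Fin n) (Fin n) F) (b : Module.Basis (Fin n) F (Fin n → F)) (μ : F) (hμ : μ ≠ 0)
    (i₀ : Fin n) (hY0 : Y *ᵥ b i₀ = (-μ) • b i₀) (hY1 : ∀ i, i ≠ i₀ → Y *ᵥ b i = μ • b i)
    (c : F) (hc : ∀ u v, f (Y *ᵥ u) (Y *ᵥ v) = c * f u v) : False := by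
  classical
  have hμμ : μ * μ ≠ 0 := mul_ne_zero hμ hμ
  by_cases hcμ : c = μ * μ
  · -- the (-1)-eigenvector is orthogonal to everything
    apply false_of_perp_basis f hf b (b i₀) (b.ne_zero i₀)
    intro i
    by_cases hi : i = i₀
    · rw [hi]; exact hf.alternating _
    · have := hc (b i) (b i₀)
      rw [hY1 i hi, hY0, hf.bilinear.smul_left, hf.bilinear.smul_right, hcμ] at this
      have h3 : (2 * (μ * μ)) * f (b i) (b i₀) = 0 := by linear_combination -this
      rcases mul_eq_zero.1 h3 with h | h
      · exact absurd h (mul_ne_zero h2 hμμ)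
      · exact h
  · -- the 1-eigenspace is totally isotropic
    have hiso : ∀ i j, i ≠ i₀ → j ≠ i₀ → f (b i) (b j) = 0 := by
      intro i j hi hj
      have := hc (b i) (b j)
      rw [hY1 i hi, hY1 j hj, hf.bilinear.smul_left, hf.bilinear.smul_right] at this
      have h3 : (c - μ * μ) * f (b i) (b j) = 0 := by linear_combination -this
      rcases mul_eq_zero.1 h3 with h | h
      · exact absurd (sub_eq_zero.1 h) hcμ
      · exact h
    obtain ⟨i₁, i₂, h1, h2', h12⟩ : ∃ i₁ i₂ : Fin n, i₁ ≠ i₀ ∧ i₂ ≠ i₀ ∧ i₁ ≠ i₂ := by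
      by_cases ha : i₀.val = 0
      · exact ⟨⟨1, by omega⟩, ⟨2, by omega⟩, fun h => by rw [← h] at ha; simp at ha,
          fun h => by rw [← h] at ha; simp at ha, fun h => by simpa using congrArg Fin.val h⟩
      · by_cases hb : i₀.val = 1
        · exact ⟨⟨0, by omega⟩, ⟨2, by omega⟩, fun h => by rw [← h] at hb; simp at hb,
            fun h => by rw [← h] at hb; simp at hb, fun h => by simpa using congrArg Fin.val h⟩
        · exact ⟨⟨0, by omega⟩, ⟨1, by omega⟩, fun h => by rw [← h] at ha; simp at ha,
            fun h => by rw [← h] at hb; simp at hb, fun h => by simpa using congrArg Fin.val h⟩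
    by_cases hα : f (b i₀) (b i₁) = 0
    · apply false_of_perp_basis f hf b (b i₁) (b.ne_zero i₁)
      intro i
      by_cases hi : i = i₀
      · rw [hi]; exact hα
      · exact hiso i i₁ hi h1
    · apply false_of_perp_basis f hf b
        (f (b i₀) (b i₂) • b i₁ - f (b i₀) (b i₁) • b i₂)
      · intro h0
        have := congrArg (fun v => b.repr v i₂) h0
        simp only [map_sub, map_smul, Module.Basis.repr_self, Finsupp.coe_sub, Finsupp.coe_smul,
          Pi.sub_apply, Pi.smul_apply, Finsupp.single_apply, if_neg h12, if_true, smul_eq_mul,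
          mul_zero, mul_one, zero_sub, map_zero, Finsupp.coe_zero, Pi.zero_apply,
          neg_eq_zero] at this
        exact hα this
      · intro i
        rw [SLMax.form_sub_right hf.bilinear, hf.bilinear.smul_right, hf.bilinear.smul_right]
        by_cases hi : i = i₀
        · rw [hi]; ring
        · rw [hiso i i₁ hi h1, hiso i i₂ hi h2']; ring

end Cfsg.Agent.Helper7.Invol
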