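import Mathlib
import Cfsg.Agent.Helper7.InvolW

set_option autoImplicit false

namespace Cfsg.Agent.Helper7.Invol

open Matrix Cfsg.Geo

variable {F : Type*} [Field F] {n : ℕ}

/-- A scalar multiple of a reflection in `SL_n`, when `-1` is an `n`-th power. -/
theorem exists_reflection_elt [Fintype F] (h2 : (2 : F) ≠ 0) (hn : 2 ≤ n)
    (hcon : ¬ padicValNat 2 (Fintype.card F - 1) ≤ padicValNat 2 n) :
    ∃ (x : Matrix.SpecialLinearGroup (Fin n) F) (μ : F) (i₀ : Fin n), μ ≠ 0 ∧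
      (x : Matrix (Fin n) (Fin n) F) =
        μ • Matrix.diagonal (fun i => if i = i₀ then (-1 : F) else 1) ∧
      (x : Matrix (Fin n) (Fin n) F) * (x : Matrix (Fin n) (Fin n) F) = (μ * μ) • 1 ∧
      ∀ z : F, (x : Matrix (Fin n) (Fin n) F) ≠ z • (1 : Matrix (Fin n) (Fin n) F) := by
  classical
  obtain ⟨μ, hμ⟩ := exists_pow_eq_neg_one h2 (by omega : n ≠ 0) hcon
  have hμ0 : μ ≠ 0 := by
    intro h0
    rw [h0, zero_pow (by omega)] at hμ
    have : (1 : F) = 0 := by linear_combination hμ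
    exact one_ne_zero this
  obtain ⟨i₀, hi₀⟩ : ∃ i₀ : Fin n, i₀ = ⟨0, by omega⟩ := ⟨_, rfl⟩
  obtain ⟨D, hD⟩ : ∃ D : Matrix (Fin n) (Fin n) F,
      D = Matrix.diagonal (fun i => if i = i₀ then (-1 : F) else 1) := ⟨_, rfl⟩
  have hdet : (μ • D).det = 1 := by
    rw [Matrix.det_smul, Fintype.card_fin, hμ, hD, Matrix.det_diagonal,
      Finset.prod_ite_eq' Finset.univ i₀]
    simp
  have hDD : D * D = 1 := by
    rw [hD, Matrix.diagonal_mul_diagonal, ← Matrix.diagonal_one]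
    congr 1
    funext i
    by_cases h : i = i₀ <;> simp [h]
  refine ⟨⟨μ • D, hdet⟩, μ, i₀, hμ0, by rw [← hD], ?_, ?_⟩
  · change (μ • D) * (μ • D) = _
    rw [Matrix.smul_mul, Matrix.mul_smul, smul_smul, hDD]
  · intro z hz
    change μ • D = z • 1 at hz
    have e0 := congrFun (congrFun hz i₀) i₀
    have e1 := congrFun (congrFun hz ⟨1, by omega⟩) ⟨1, by omega⟩
    have hne : (⟨1, by omega⟩ : Fin n) ≠ i₀ := by
      rw [hi₀]; intro h; simpa using congrArg Fin.val h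
    rw [hD] at e0 e1
    simp only [Matrix.smul_apply, Matrix.diagonal_apply_eq, Matrix.one_apply_eq, if_true,
      smul_eq_mul, mul_one, mul_neg, if_neg hne] at e0 e1
    have : 2 * μ = 0 := by linear_combination e1 - e0
    rcases mul_eq_zero.1 this with h | h
    · exact h2 h
    · exact hμ0 h

theorem sim_forward [Fintype F] (hn : 3 ≤ n)
    (f : (Fin n → F) → (Fin n → F) → F) (hf : IsSymplecticForm f)
    (hall : ∀ x : Matrix.SpecialLinearGroup (Fin n) F,
      (∃ z : F, ((x ^ 2 : Matrix.SpecialLinearGroup (Fin n) F) : Matrix (Fin n) (Fin n) F) =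
        z • (1 : Matrix (Fin n) (Fin n) F)) →
      (∀ z : F, (x : Matrix (Fin n) (Fin n) F) ≠ z • (1 : Matrix (Fin n) (Fin n) F)) →
      ∃ P : Matrix.SpecialLinearGroup (Fin n) F, P⁻¹ * x * P ∈
        ((similarityGroup f).comap (Matrix.SpecialLinearGroup.toGL :
          Matrix.SpecialLinearGroup (Fin n) F →* GL (Fin n) F))) :
    padicValNat 2 (Fintype.card F - 1) ≤ padicValNat 2 n := by
  classical
  by_contra hcon
  have h2 : (2 : F) ≠ 0 := by
    intro h2
    apply hcon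
    have hc := (two_eq_zero_iff_card (F := F)).1 h2
    have hpos := Fintype.card_pos (α := F)
    rw [padicValNat.eq_zero_of_not_dvd (by omega)]
    exact Nat.zero_le _
  obtain ⟨x, μ, i₀, hμ, hxD, hxx, hns⟩ := exists_reflection_elt h2 (by omega : 2 ≤ n) hcon
  obtain ⟨P, hP⟩ := hall x ⟨μ * μ, by
    rw [pow_two, Matrix.SpecialLinearGroup.coe_mul]; exact hxx⟩ hns
  rw [Subgroup.mem_comap] at hP
  obtain ⟨c, hc⟩ := hP
  have hPiP : ((P⁻¹ : Matrix.SpecialLinearGroup (Fin n) F) : Matrix (Fin n) (Fin n) F) *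
      (P : Matrix (Fin n) (Fin n) F) = 1 := by
    rw [← Matrix.SpecialLinearGroup.coe_mul, inv_mul_cancel, Matrix.SpecialLinearGroup.coe_one]
  have hPPi : (P : Matrix (Fin n) (Fin n) F) *
      ((P⁻¹ : Matrix.SpecialLinearGroup (Fin n) F) : Matrix (Fin n) (Fin n) F) = 1 := by
    rw [← Matrix.SpecialLinearGroup.coe_mul, mul_inv_cancel, Matrix.SpecialLinearGroup.coe_one]
  obtain ⟨Y, hY⟩ : ∃ Y : Matrix (Fin n) (Fin n) F,
      Y = ((P⁻¹ : Matrix.SpecialLinearGroup (Fin n) F) : Matrix (Fin n) (Fin n) F) *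
        (x : Matrix (Fin n) (Fin n) F) * (P : Matrix (Fin n) (Fin n) F) := ⟨_, rfl⟩
  have hgY : ((Matrix.SpecialLinearGroup.toGL (P⁻¹ * x * P) : GL (Fin n) F) :
      Matrix (Fin n) (Fin n) F) = Y := by
    rw [hY]
    change ((P⁻¹ * x * P : Matrix.SpecialLinearGroup (Fin n) F) : Matrix (Fin n) (Fin n) F) = _
    rw [Matrix.SpecialLinearGroup.coe_mul, Matrix.SpecialLinearGroup.coe_mul]
  rw [hgY] at hc
  obtain ⟨b, hb⟩ : ∃ b : Module.Basis (Fin n) F (Fin n → F), ∀ i, b i =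
      ((P⁻¹ : Matrix.SpecialLinearGroup (Fin n) F) : Matrix (Fin n) (Fin n) F) *ᵥ
        Pi.single i 1 := by
    refine ⟨(Pi.basisFun F (Fin n)).map (Matrix.SpecialLinearGroup.toLin' P⁻¹), fun i => ?_⟩
    rw [Module.Basis.map_apply, Pi.basisFun_apply, Matrix.SpecialLinearGroup.toLin'_apply,
      Matrix.toLin'_apply]
  have hYb : ∀ i, Y *ᵥ b i = (μ * (if i = i₀ then (-1 : F) else 1)) • b i := by
    intro i
    rw [hb, hY, Matrix.mulVec_mulVec, Matrix.mul_assoc, Matrix.mul_assoc, hPPi, Matrix.mul_one,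
      ← Matrix.mulVec_mulVec, hxD, Matrix.smul_mulVec, Matrix.diagonal_mulVec_single, mul_one,
      ← Matrix.mulVec_smul]
    congr 1
    ext l
    by_cases hl : l = i
    · subst hl; simp
    · simp [Pi.single_eq_of_ne hl]
  refine no_reflection_sim h2 hn f hf Y b μ hμ i₀ ?_ ?_ (c : F) hc
  · rw [hYb, if_pos rfl]; simp
  · intro i hi
    rw [hYb, if_neg hi, mul_one]

end Cfsg.Agent.Helper7.Invol
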