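import Mathlib
import Cfsg.Agent.Helper7.InvolX
import Cfsg.Agent.Helper7.SubFD

set_option autoImplicit false

namespace Cfsg.Agent.Helper7.Invol

open Matrix Cfsg.Geo

variable {F : Type*} [Field F] {n : ℕ}

/-- Membership of a conjugate in the preimage of the subfield group. -/
theorem mem_subfield_comap_of (F₀ : Subfield F)
    (x P : Matrix.SpecialLinearGroup (Fin n) F) (Y : Matrix (Fin n) (Fin n) F)
    (hXP : (x : Matrix (Fin n) (Fin n) F) * (P : Matrix (Fin n) (Fin n) F) =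
      (P : Matrix (Fin n) (Fin n) F) * Y) (μ : F) (hμ : μ ≠ 0)
    (M : Matrix (Fin n) (Fin n) F) (hY : Y = μ • M) (hM : ∀ i j, M i j ∈ F₀) :
    P⁻¹ * x * P ∈ (subfieldSubgroup F₀ 1).comap
      (Matrix.SpecialLinearGroup.toGL : Matrix.SpecialLinearGroup (Fin n) F →* GL (Fin n) F) := by
  rw [Subgroup.mem_comap]
  apply Cfsg.Agent.Helper7.SubF.mem_subfield_of (μ := μ⁻¹) (inv_ne_zero hμ)
  rintro w ⟨u, hu, rfl⟩
  rw [conj_val x P Y hXP, hY]
  refine ⟨M *ᵥ u, fun i => Cfsg.Agent.Helper7.SubF.mulVec_rat hM hu i, ?_⟩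
  simp only [Units.val_one, Matrix.one_mulVec, Matrix.smul_mulVec, smul_smul,
    inv_mul_cancel₀ hμ, one_smul]

/-- An element of the subfield group is a scalar multiple of a matrix over the subfield. -/
theorem exists_rat_of_mem_subfield (F₀ : Subfield F) (g : GL (Fin n) F)
    (hg : g ∈ subfieldSubgroup F₀ 1) :
    ∃ lam : F, lam ≠ 0 ∧ ∀ i j, (lam • (g : Matrix (Fin n) (Fin n) F)) i j ∈ F₀ := by
  classical
  obtain ⟨lam, hlam, h⟩ := Cfsg.Agent.Helper7.SubF.exists_of_mem_subfield hg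
  refine ⟨lam, hlam, fun i j => ?_⟩
  have hw : (Pi.single j 1 : Fin n → F) ∈
      Cfsg.Agent.Helper7.SubF.V0 F₀ ((1 : GL (Fin n) F) : Matrix (Fin n) (Fin n) F) := by
    refine ⟨Pi.single j 1, fun l => ?_, by rw [Units.val_one, Matrix.one_mulVec]⟩
    by_cases hl : l = j
    · subst hl; simp [F₀.one_mem]
    · rw [Pi.single_eq_of_ne hl]; exact F₀.zero_mem
  obtain ⟨u, hu, hu'⟩ := h _ hw
  simp only [Units.val_one, Matrix.one_mulVec] at hu'
  have := congrFun hu' i
  rw [Matrix.mulVec_single_one] at this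
  simp only [Pi.smul_apply, Matrix.col_apply, smul_eq_mul] at this
  rw [Matrix.smul_apply, smul_eq_mul, ← this]
  exact hu i

/-- Entries of a matrix from its values on a reindexed standard basis. -/
theorem entries_of_std {ι : Type*} (F₀ : Subfield F) (e : ι ≃ Fin n)
    (M : Matrix (Fin n) (Fin n) F)
    (h : ∀ p i, (M *ᵥ (Pi.single (e p) 1 : Fin n → F)) i ∈ F₀) : ∀ i j, M i j ∈ F₀ := by
  intro i j
  have := h (e.symm j) i
  rw [Equiv.apply_symm_apply, Matrix.mulVec_single_one] at this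
  exact this

theorem single_mem (F₀ : Subfield F) (j i : Fin n) : (Pi.single j 1 : Fin n → F) i ∈ F₀ := by
  by_cases hl : i = j
  · subst hl; simp [F₀.one_mem]
  · rw [Pi.single_eq_of_ne hl]; exact F₀.zero_mem

end Cfsg.Agent.Helper7.Invol
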