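import Mathlib
import Cfsg.Agent.Helper7.InvolY

set_option autoImplicit false

namespace Cfsg.Agent.Helper7.Invol

open Matrix Cfsg.Geo

variable {F : Type*} [Field F] {n : ℕ}

/-- The standard basis reindexed along a bijection. -/
theorem exists_std_basis {ι : Type*} [Fintype ι] [DecidableEq ι] (e : ι ≃ Fin n) :
    ∃ b₀ : Module.Basis ι F (Fin n → F), ∀ p, b₀ p = Pi.single (e p) 1 :=
  ⟨(Pi.basisFun F (Fin n)).reindex e.symm, fun p => by simp⟩

theorem subf_typeI (h2 : (2 : F) ≠ 0) (hn : 0 < n) (F₀ : Subfield F)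
    (x : Matrix.SpecialLinearGroup (Fin n) F) (μ : F)
    (hx : (x : Matrix (Fin n) (Fin n) F) * (x : Matrix (Fin n) (Fin n) F) = (μ * μ) • 1) :
    ∃ P : Matrix.SpecialLinearGroup (Fin n) F, P⁻¹ * x * P ∈
      ((subfieldSubgroup F₀ 1).comap (Matrix.SpecialLinearGroup.toGL :
        Matrix.SpecialLinearGroup (Fin n) F →* GL (Fin n) F)) := by
  classical
  have hμ : μ ≠ 0 := by
    intro h0
    exact mu_ne_zero_of_sq hn x (μ * μ) hx (by rw [h0, mul_zero])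
  obtain ⟨r, s, b, hbl, hbr⟩ := exists_diag_basis (x : Matrix (Fin n) (Fin n) F) μ hμ h2 hx
  have hrs : Fintype.card (Fin r ⊕ Fin s) = Fintype.card (Fin n) := by
    rw [card_of_basis b, Fintype.card_fin]
  obtain ⟨b₀, hb₀⟩ := exists_std_basis (F := F) (Fintype.equivOfCardEq hrs)
  obtain ⟨ε, hε⟩ : ∃ ε : Fin r ⊕ Fin s → F, ε = Sum.elim (fun _ => -1) (fun _ => 1) := ⟨_, rfl⟩
  have hXlam : ∀ i, (x : Matrix (Fin n) (Fin n) F) *ᵥ b i = (μ * ε i) • b i := by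
    rintro (i | j)
    · rw [hbl i, hε]; simp
    · rw [hbr j, hε]; simp
  have hYlam : ∀ p, (μ • Dg b₀ ε) *ᵥ b₀ p = (μ * ε p) • b₀ p := by
    intro p
    rw [Matrix.smul_mulVec, Dg_mulVec, smul_smul]
  have hne : Nonempty (Fin r ⊕ Fin s) := by
    rw [← Fintype.card_pos_iff, hrs, Fintype.card_fin]; exact hn
  obtain ⟨P, hP⟩ := conj_of_diag (x : Matrix (Fin n) (Fin n) F) (μ • Dg b₀ ε) b b₀
    (fun p => μ * ε p) (fun p => μ * ε p) hXlam hYlam (Equiv.refl _) (fun i => rfl)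
  refine ⟨P, mem_subfield_comap_of F₀ x P _ hP μ hμ (Dg b₀ ε) rfl ?_⟩
  apply entries_of_std F₀ (Fintype.equivOfCardEq hrs)
  intro p i
  rw [← hb₀, Dg_mulVec, hb₀, Pi.smul_apply, smul_eq_mul]
  refine F₀.mul_mem ?_ (single_mem F₀ _ _)
  rw [hε]
  rcases p with a | a
  · exact F₀.neg_mem F₀.one_mem
  · exact F₀.one_mem

theorem subf_char2 [Fintype F] (h2 : (2 : F) = 0) (hn : 0 < n) (F₀ : Subfield F)
    (x : Matrix.SpecialLinearGroup (Fin n) F) (z : F)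
    (hx : (x : Matrix (Fin n) (Fin n) F) * (x : Matrix (Fin n) (Fin n) F) = z • 1)
    (hns : ∀ z : F, (x : Matrix (Fin n) (Fin n) F) ≠ z • (1 : Matrix (Fin n) (Fin n) F)) :
    ∃ P : Matrix.SpecialLinearGroup (Fin n) F, P⁻¹ * x * P ∈
      ((subfieldSubgroup F₀ 1).comap (Matrix.SpecialLinearGroup.toGL :
        Matrix.SpecialLinearGroup (Fin n) F →* GL (Fin n) F)) := by
  classical
  have hchar : ringChar F = 2 :=
    CharP.ringChar_of_prime_eq_zero Nat.prime_two (by exact_mod_cast h2)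
  obtain ⟨μ, hμz⟩ := FiniteField.isSquare_of_char_two hchar z
  rw [hμz] at hx
  have hμ : μ ≠ 0 := by
    intro h0
    exact mu_ne_zero_of_sq hn x (μ * μ) hx (by rw [h0, mul_zero])
  obtain ⟨s, t, b, hs, hst, hX0, hX1, hX2⟩ := exists_nilp_data (x : Matrix (Fin n) (Fin n) F) μ
    (sq_sub_eq_zero h2 _ μ hx) (hns μ)
  have hcard : Fintype.card ((Fin 2 × Fin s) ⊕ Fin t) = Fintype.card (Fin n) := by
    rw [card_of_basis b, Fintype.card_fin]
  obtain ⟨b₀, hb₀⟩ := exists_std_basis (F := F) (Fintype.equivOfCardEq hcard)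
  -- the rescaled basis
  obtain ⟨w, hw⟩ : ∃ w : (Fin 2 × Fin s) ⊕ Fin t → Fˣ, w =
      Sum.elim (fun p => if p.1 = 0 then 1 else Units.mk0 μ hμ) (fun _ => 1) := ⟨_, rfl⟩
  obtain ⟨b', hb'⟩ : ∃ b' : Module.Basis ((Fin 2 × Fin s) ⊕ Fin t) F (Fin n → F),
      ∀ p, b' p = w p • b₀ p := ⟨b₀.unitsSMul w, fun p => Module.Basis.unitsSMul_apply p⟩
  have hb'0 : ∀ i, b' (Sum.inl (0, i)) = b₀ (Sum.inl (0, i)) := fun i => by
    rw [hb', hw]; simp
  have hb'1 : ∀ i, b' (Sum.inl (1, i)) = μ • b₀ (Sum.inl (1, i)) := fun i => by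
    rw [hb', hw]; simp [Units.smul_def]
  have hb'2 : ∀ j, b' (Sum.inr j) = b₀ (Sum.inr j) := fun j => by
    rw [hb', hw]; simp
  -- the rational matrix
  obtain ⟨M, hM⟩ : ∃ M, M = constrMat b₀ (Sum.elim
      (fun p => if p.1 = 0 then b₀ (Sum.inl (0, p.2)) + b₀ (Sum.inl (1, p.2))
        else b₀ (Sum.inl (1, p.2))) (fun j => b₀ (Sum.inr j))) := ⟨_, rfl⟩
  have hM0 : ∀ i, M *ᵥ b₀ (Sum.inl (0, i)) = b₀ (Sum.inl (0, i)) + b₀ (Sum.inl (1, i)) :=
    fun i => by rw [hM, constrMat_mulVec]; simp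
  have hM1 : ∀ i, M *ᵥ b₀ (Sum.inl (1, i)) = b₀ (Sum.inl (1, i)) :=
    fun i => by rw [hM, constrMat_mulVec]; simp
  have hM2 : ∀ j, M *ᵥ b₀ (Sum.inr j) = b₀ (Sum.inr j) :=
    fun j => by rw [hM, constrMat_mulVec]; simp
  obtain ⟨P, hP⟩ := conj_nilp (fun δ => by
      obtain ⟨a, ha⟩ := FiniteField.isSquare_of_char_two hchar δ
      exact ⟨a, ha.symm⟩) (x : Matrix (Fin n) (Fin n) F) (μ • M) μ s t hs b b' hX0 hX1 hX2
    (fun i => by
      rw [hb'0, hb'1, Matrix.smul_mulVec, hM0, smul_add])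
    (fun i => by
      rw [hb'1, Matrix.smul_mulVec, Matrix.mulVec_smul, hM1])
    (fun j => by
      rw [hb'2, Matrix.smul_mulVec, hM2])
  refine ⟨P, mem_subfield_comap_of F₀ x P _ hP μ hμ M rfl ?_⟩
  apply entries_of_std F₀ (Fintype.equivOfCardEq hcard)
  intro p i
  rw [← hb₀]
  rcases p with ⟨a, j⟩ | j
  · fin_cases a
    · simp only [Fin.zero_eta, Fin.isValue]
      rw [hM0, Pi.add_apply, hb₀, hb₀]
      exact F₀.add_mem (single_mem F₀ _ _) (single_mem F₀ _ _)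
    · simp only [Fin.mk_one, Fin.isValue]
      rw [hM1, hb₀]
      exact single_mem F₀ _ _
  · rw [hM2, hb₀]
    exact single_mem F₀ _ _

end Cfsg.Agent.Helper7.Invol
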