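import Mathlib
import Cfsg.Agent.Helper7.InvolZ

set_option autoImplicit false

namespace Cfsg.Agent.Helper7.Invol

open Matrix Cfsg.Geo

variable {F : Type*} [Field F] {n : ℕ}

/-- The determinant of a matrix whose square is a non-square scalar. -/
theorem det_typeII (hn : 0 < n) (X : Matrix (Fin n) (Fin n) F) (z : F) (hz : ¬ IsSquare z)
    (hX : X * X = z • (1 : Matrix (Fin n) (Fin n) F)) :
    ∃ m, n = 2 * m ∧ X.det = (-z) ^ m := by
  classical
  have hns : ∀ a : F, X ≠ a • 1 := by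
    intro a hXa
    apply hz
    refine ⟨a, ?_⟩
    apply smul_one_injective hn
    rw [← hX, hXa]
    simp [smul_smul]
  obtain ⟨m, b, hnm, hb⟩ := exists_pair_basis (sqSub X z hX) (sqSub_isField X z hn hX hz) hn X
    (self_mem_sqSub X z hX) hns
  have h := (actsVia_iff X b _).1 (actsVia_pair X z hX b hb)
  refine ⟨m, hnm, ?_⟩
  rw [← LinearMap.det_toLin', ← LinearMap.det_toMatrix b, h, Matrix.det_blockDiagonal]
  simp [compBlock, Matrix.det_fin_two_of]

theorem ringChar_ne_two_of [Fintype F] (h2 : (2 : F) ≠ 0) : ringChar F ≠ 2 := by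
  intro h
  apply h2
  have := ringChar.Nat.cast_ringChar (R := F)
  rw [h] at this
  exact_mod_cast this

theorem neg_nonsquare [Fintype F] (h4 : 4 ∣ Fintype.card F - 1) (z : F) (hz : ¬ IsSquare z) :
    ¬ IsSquare (-z) := by
  have hpos := Fintype.card_pos (α := F)
  have h1 : IsSquare (-1 : F) := by
    rw [FiniteField.isSquare_neg_one_iff]
    obtain ⟨c, hc⟩ := h4
    omega
  obtain ⟨i, hi⟩ := h1
  rintro ⟨s, hs⟩
  apply hz
  refine ⟨i * s, ?_⟩
  have : z = -(s * s) := by rw [← hs, neg_neg]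
  rw [this]
  linear_combination (s * s) * hi

/-- No matrix of determinant one squares to a non-square scalar when `(n)_2 ≤ (q-1)_2`. -/
theorem no_typeII [Fintype F] (h2 : (2 : F) ≠ 0) (hn : 0 < n) (h4 : 4 ∣ Fintype.card F - 1)
    (hcond : padicValNat 2 n ≤ padicValNat 2 (Fintype.card F - 1))
    (X : Matrix (Fin n) (Fin n) F) (z : F) (hz : ¬ IsSquare z)
    (hX : X * X = z • (1 : Matrix (Fin n) (Fin n) F)) (hdet : X.det = 1) : False := by
  classical
  have hF := ringChar_ne_two_of h2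
  obtain ⟨m, hnm, hdetm⟩ := det_typeII hn X z hz hX
  rw [hdet] at hdetm
  have hw := neg_nonsquare h4 z hz
  have hz0 : -z ≠ 0 := fun h => hw (h ▸ ⟨0, by simp⟩)
  have hE : (-z) ^ (Fintype.card F / 2) = -1 := by
    rcases FiniteField.pow_dichotomy hF hz0 with h | h
    · exact absurd ((FiniteField.isSquare_iff hF hz0).2 h) hw
    · exact h
  have hm0 : m ≠ 0 := by omega
  obtain ⟨j, m', hodd, hm⟩ := Nat.exists_eq_two_pow_mul_odd hm0
  have hm'0 : m' ≠ 0 := fun h0 => by rw [h0, mul_zero] at hm; exact hm0 hm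
  have ha : padicValNat 2 n = j + 1 := by
    have e : n = 2 ^ (j + 1) * m' := by rw [hnm, hm]; ring
    rw [e, padicValNat.mul (by positivity) hm'0, padicValNat.prime_pow,
      padicValNat.eq_zero_of_not_dvd (fun hd => by
        rcases hodd with ⟨t, rfl⟩; omega), add_zero]
  rw [ha] at hcond
  have hq1 : Fintype.card F - 1 ≠ 0 := by
    have := Fintype.one_lt_card (α := F)
    omega
  obtain ⟨c, hc⟩ := (padicValNat_dvd_iff_le hq1).2 hcond
  have hhalf : Fintype.card F / 2 = 2 ^ j * c := by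
    have hpos := Fintype.card_pos (α := F)
    have e : Fintype.card F = 2 * (2 ^ j * c) + 1 := by
      have : 2 ^ (j + 1) * c = 2 * (2 ^ j * c) := by ring
      omega
    omega
  have h1 : ((-z) ^ (Fintype.card F / 2)) ^ m' = 1 := by
    rw [hhalf, ← pow_mul]
    have e : 2 ^ j * c * m' = m * c := by rw [hm]; ring
    rw [e, pow_mul, ← hdetm, one_pow]
  rw [hE, hodd.neg_one_pow] at h1
  apply h2
  linear_combination -h1

/-- Elements of the subfield of index two are squares. -/
theorem isSquare_of_mem_subfield [Fintype F] (h2 : (2 : F) ≠ 0) (F₀ : Subfield F) (q₀ : ℕ)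
    (hF₀ : Nat.card ↥F₀ = q₀) (hq : Fintype.card F = q₀ ^ 2) (c : F) (hc : c ∈ F₀) :
    IsSquare c := by
  classical
  by_cases hc0 : c = 0
  · exact hc0 ▸ ⟨0, by simp⟩
  have hF := ringChar_ne_two_of h2
  rw [FiniteField.isSquare_iff hF hc0]
  have h1 := Cfsg.Agent.Helper7.SubF.pow_q_of_mem hF₀ hc
  have hq₀pos : 0 < q₀ := by
    rcases Nat.eq_zero_or_pos q₀ with h | h
    · rw [h] at hq; simp at hq
    · exact h
  have h2' : c ^ (q₀ - 1) = 1 := by
    have e : c ^ (q₀ - 1) * c = c := by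
      rw [← pow_succ, Nat.sub_add_cancel hq₀pos, h1]
    have := mul_right_cancel₀ hc0 (e.trans (one_mul c).symm)
    exact this
  have hodd : Fintype.card F % 2 = 1 := by
    have := two_eq_zero_iff_card (F := F)
    by_contra h
    exact h2 (this.2 (by omega))
  have hq₀odd : q₀ % 2 = 1 := by
    rw [hq, Nat.pow_mod] at hodd
    rcases Nat.mod_two_eq_zero_or_one q₀ with h | h
    · rw [h] at hodd; simp at hodd
    · exact h
  obtain ⟨l, hl⟩ : ∃ l, q₀ = 2 * l + 1 := ⟨q₀ / 2, by omega⟩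
  have hhalf : Fintype.card F / 2 = (q₀ - 1) * (l + 1) := by
    rw [hq, hl]
    have : (2 * l + 1) ^ 2 = 2 * ((2 * l + 1 - 1) * (l + 1)) + 1 := by
      have : 2 * l + 1 - 1 = 2 * l := by omega
      rw [this]; ring
    omega
  rw [hhalf, pow_mul, h2', one_pow]

end Cfsg.Agent.Helper7.Invol
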