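import Mathlib
import Cfsg.Agent.Helper7.InvolZA

set_option autoImplicit false

namespace Cfsg.Agent.Helper7.Invol

open Matrix Cfsg.Geo

variable {F : Type*} [Field F] {n : ℕ}

/-- A non-square whose `2^e`-th power is one, `2^e` the 2-part of `q - 1`. -/
theorem exists_nonsquare_two_power [Fintype F] (h2 : (2 : F) ≠ 0) :
    ∃ w : F, ¬ IsSquare w ∧ w ^ (2 ^ padicValNat 2 (Fintype.card F - 1)) = 1 := by
  classical
  have hF := ringChar_ne_two_of h2
  obtain ⟨w₀, hw₀⟩ := FiniteField.exists_nonsquare hF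
  have hw₀0 : w₀ ≠ 0 := fun h => hw₀ (h ▸ ⟨0, by simp⟩)
  have hq1 : Fintype.card F - 1 ≠ 0 := by
    have := Fintype.one_lt_card (α := F)
    omega
  obtain ⟨e, q', hodd, hqm⟩ := Nat.exists_eq_two_pow_mul_odd hq1
  have he : padicValNat 2 (Fintype.card F - 1) = e := by
    have hq'0 : q' ≠ 0 := fun h0 => by rw [h0, mul_zero] at hqm; exact hq1 hqm
    rw [hqm, padicValNat.mul (by positivity) hq'0, padicValNat.prime_pow,
      padicValNat.eq_zero_of_not_dvd (fun hd => by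
        rcases hodd with ⟨t, rfl⟩; omega), add_zero]
  rw [he]
  refine ⟨w₀ ^ q', ?_, ?_⟩
  · rintro ⟨s, hs⟩
    apply hw₀
    obtain ⟨l, hl⟩ := hodd
    refine ⟨s / w₀ ^ l, ?_⟩
    have hl0 : w₀ ^ l ≠ 0 := pow_ne_zero _ hw₀0
    rw [hl, pow_succ, pow_mul'] at hs
    field_simp
    linear_combination hs
  · rw [← pow_mul, mul_comm, ← hqm, FiniteField.pow_card_sub_one_eq_one w₀ hw₀0]

/-- An element of `SL_n` squaring to a non-square scalar, when `(q-1)_2 < (n)_2`. -/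
theorem exists_typeII_elt [Fintype F] (h2 : (2 : F) ≠ 0) (hn : 0 < n)
    (h4 : 4 ∣ Fintype.card F - 1)
    (hcond : ¬ padicValNat 2 n ≤ padicValNat 2 (Fintype.card F - 1)) :
    ∃ (x : Matrix.SpecialLinearGroup (Fin n) F) (z : F), ¬ IsSquare z ∧
      (x : Matrix (Fin n) (Fin n) F) * (x : Matrix (Fin n) (Fin n) F) = z • 1 := by
  classical
  obtain ⟨w, hw, hwe⟩ := exists_nonsquare_two_power h2
  obtain ⟨e, he⟩ : ∃ e, e = padicValNat 2 (Fintype.card F - 1) := ⟨_, rfl⟩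
  rw [← he] at hcond hwe
  rw [not_le] at hcond
  obtain ⟨c, hc⟩ := (padicValNat_dvd_iff_le (by omega : n ≠ 0)).2 (Nat.succ_le_of_lt hcond)
  obtain ⟨m, hm⟩ : ∃ m, m = 2 ^ e * c := ⟨_, rfl⟩
  have hnm : n = 2 * m := by rw [hc, hm, pow_succ]; ring
  have hz : ¬ IsSquare (-w) := neg_nonsquare h4 w hw
  have hcard : Fintype.card (Fin 2 × Fin m) = Fintype.card (Fin n) := by
    simp only [Fintype.card_prod, Fintype.card_fin]; omega
  obtain ⟨b₀, -⟩ := exists_std_basis (F := F) (Fintype.equivOfCardEq hcard)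
  obtain ⟨X, hX⟩ : ∃ X, X = constrMat b₀
      (fun p : Fin 2 × Fin m => if p.1 = 0 then b₀ (1, p.2) else (-w) • b₀ (0, p.2)) := ⟨_, rfl⟩
  have hX0 : ∀ j, X *ᵥ b₀ (0, j) = b₀ (1, j) := fun j => by rw [hX, constrMat_mulVec]; simp
  have hX1 : ∀ j, X *ᵥ b₀ (1, j) = (-w) • b₀ (0, j) := fun j => by
    rw [hX, constrMat_mulVec]; simp
  have hXX : X * X = (-w) • (1 : Matrix (Fin n) (Fin n) F) := by
    apply eq_of_mulVec_basis b₀
    rintro ⟨a, j⟩
    fin_cases a
    · simp only [Fin.zero_eta, Fin.isValue]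
      rw [← Matrix.mulVec_mulVec, hX0, hX1, Matrix.smul_mulVec, Matrix.one_mulVec]
    · simp only [Fin.mk_one, Fin.isValue]
      rw [← Matrix.mulVec_mulVec, hX1, Matrix.mulVec_smul, hX0, Matrix.smul_mulVec,
        Matrix.one_mulVec]
  obtain ⟨m', hnm', hdet⟩ := det_typeII hn X (-w) hz hXX
  have hmm : m' = m := by omega
  rw [hmm, neg_neg, hm, pow_mul, hwe, one_pow] at hdet
  exact ⟨⟨X, hdet⟩, -w, hz, hXX⟩

/-- Elements squaring to a non-square scalar are not conjugate into the subfield group of a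
subfield of index two. -/
theorem subf_no_typeII_conj [Fintype F] (h2 : (2 : F) ≠ 0) (hn : 0 < n) (F₀ : Subfield F)
    (q₀ : ℕ) (hF₀ : Nat.card ↥F₀ = q₀) (hq : Fintype.card F = q₀ ^ 2)
    (x : Matrix.SpecialLinearGroup (Fin n) F) (z : F) (hz : ¬ IsSquare z)
    (hx : (x : Matrix (Fin n) (Fin n) F) * (x : Matrix (Fin n) (Fin n) F) = z • 1)
    (P : Matrix.SpecialLinearGroup (Fin n) F)
    (hP : P⁻¹ * x * P ∈ ((subfieldSubgroup F₀ 1).comap (Matrix.SpecialLinearGroup.toGL :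
        Matrix.SpecialLinearGroup (Fin n) F →* GL (Fin n) F))) : False := by
  classical
  rw [Subgroup.mem_comap] at hP
  obtain ⟨lam, hlam, hrat⟩ := exists_rat_of_mem_subfield F₀ _ hP
  obtain ⟨Y, hY⟩ : ∃ Y : Matrix (Fin n) (Fin n) F,
      Y = ((Matrix.SpecialLinearGroup.toGL (P⁻¹ * x * P) : GL (Fin n) F) :
        Matrix (Fin n) (Fin n) F) := ⟨_, rfl⟩
  rw [← hY] at hrat
  have hYY : Y * Y = z • (1 : Matrix (Fin n) (Fin n) F) := by
    have hPiP : ((P⁻¹ : Matrix.SpecialLinearGroup (Fin n) F) : Matrix (Fin n) (Fin n) F) *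
        (P : Matrix (Fin n) (Fin n) F) = 1 := by
      rw [← Matrix.SpecialLinearGroup.coe_mul, inv_mul_cancel, Matrix.SpecialLinearGroup.coe_one]
    have hPPi : (P : Matrix (Fin n) (Fin n) F) *
        ((P⁻¹ : Matrix.SpecialLinearGroup (Fin n) F) : Matrix (Fin n) (Fin n) F) = 1 := by
      rw [← Matrix.SpecialLinearGroup.coe_mul, mul_inv_cancel, Matrix.SpecialLinearGroup.coe_one]
    have e : Y = ((P⁻¹ : Matrix.SpecialLinearGroup (Fin n) F) : Matrix (Fin n) (Fin n) F) *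
        (x : Matrix (Fin n) (Fin n) F) * (P : Matrix (Fin n) (Fin n) F) := by
      rw [hY]
      change ((P⁻¹ * x * P : Matrix.SpecialLinearGroup (Fin n) F) : Matrix (Fin n) (Fin n) F) = _
      rw [Matrix.SpecialLinearGroup.coe_mul, Matrix.SpecialLinearGroup.coe_mul]
    rw [e]
    calc _ = ((P⁻¹ : Matrix.SpecialLinearGroup (Fin n) F) : Matrix (Fin n) (Fin n) F) *
        ((x : Matrix (Fin n) (Fin n) F) * ((P : Matrix (Fin n) (Fin n) F) *
          ((P⁻¹ : Matrix.SpecialLinearGroup (Fin n) F) : Matrix (Fin n) (Fin n) F)) *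
            (x : Matrix (Fin n) (Fin n) F)) * (P : Matrix (Fin n) (Fin n) F) := by
          simp only [Matrix.mul_assoc]
      _ = _ := by
          rw [hPPi, Matrix.mul_one, hx, Matrix.mul_smul, Matrix.smul_mul, Matrix.mul_one, hPiP]
  -- the (0,0) entry of (lam Y)²
  have hent : (lam * lam * z) ∈ F₀ := by
    have h1 : ((lam • Y) * (lam • Y)) ⟨0, hn⟩ ⟨0, hn⟩ ∈ F₀ := by
      rw [Matrix.mul_apply]
      exact F₀.sum_mem (fun l _ => F₀.mul_mem (hrat _ _) (hrat _ _))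
    rw [Matrix.smul_mul, Matrix.mul_smul, smul_smul, hYY, smul_smul] at h1
    simpa using h1
  obtain ⟨s, hs⟩ := isSquare_of_mem_subfield h2 F₀ q₀ hF₀ hq _ hent
  apply hz
  refine ⟨s / lam, ?_⟩
  field_simp
  linear_combination hs

end Cfsg.Agent.Helper7.Invol
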