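import Mathlib
import Cfsg.Agent.Helper7.InvolZB
import Cfsg.Agent.Helper7.LinearCard

set_option autoImplicit false

namespace Cfsg.Agent.Helper7.Invol

open Matrix Cfsg.Geo

theorem geom_odd (y k : ℕ) (hy : Odd y) (hk : Odd k) : Odd (∑ l ∈ Finset.range k, y ^ l) := by
  rw [Finset.odd_sum_iff_odd_card_odd]
  have : (Finset.range k).filter (fun l => Odd (y ^ l)) = Finset.range k :=
    Finset.filter_true_of_mem (fun l _ => hy.pow)
  rw [this, Finset.card_range]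
  exact hk

theorem pow_sub_one_factor (y k : ℕ) (hy : 1 ≤ y) :
    y ^ k - 1 = (∑ l ∈ Finset.range k, y ^ l) * (y - 1) := by
  obtain ⟨x, rfl⟩ : ∃ x, y = x + 1 := ⟨y - 1, by omega⟩
  have := geom_sum_mul_add x k
  rw [Nat.add_sub_cancel]
  omega

theorem term_factor (q₀ k n i : ℕ) (hi : i < n) (hq₀ : 1 ≤ q₀) (hk : 1 ≤ k) :
    (q₀ ^ k) ^ n - (q₀ ^ k) ^ i =
      (q₀ ^ ((k - 1) * i) * ∑ l ∈ Finset.range k, (q₀ ^ (n - i)) ^ l) * (q₀ ^ n - q₀ ^ i) := by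
  obtain ⟨d, rfl⟩ : ∃ d, n = i + d := ⟨n - i, by omega⟩
  obtain ⟨k', rfl⟩ : ∃ k', k = k' + 1 := ⟨k - 1, by omega⟩
  have hy : 1 ≤ q₀ ^ d := Nat.one_le_pow _ _ hq₀
  have e1 : (q₀ ^ (k' + 1)) ^ (i + d) - (q₀ ^ (k' + 1)) ^ i =
      q₀ ^ ((k' + 1) * i) * ((q₀ ^ d) ^ (k' + 1) - 1) := by
    rw [Nat.mul_sub, mul_one]
    congr 1 <;> ring
  have e2 : q₀ ^ (i + d) - q₀ ^ i = q₀ ^ i * (q₀ ^ d - 1) := by
    rw [Nat.mul_sub, mul_one, pow_add]
  rw [e1, e2, pow_sub_one_factor _ _ hy, Nat.add_sub_cancel, Nat.add_sub_cancel_left]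
  generalize q₀ ^ d - 1 = t
  ring

theorem prod_factor (q₀ k n : ℕ) (hq₀ : Odd q₀) (hk : Odd k) :
    ∃ O, Odd O ∧ ∏ i : Fin n, ((q₀ ^ k) ^ n - (q₀ ^ k) ^ (i : ℕ)) =
      O * ∏ i : Fin n, (q₀ ^ n - q₀ ^ (i : ℕ)) := by
  have hq₀1 : 1 ≤ q₀ := by rcases hq₀ with ⟨t, rfl⟩; omega
  have hk1 : 1 ≤ k := by rcases hk with ⟨t, rfl⟩; omega
  refine ⟨∏ i : Fin n, (q₀ ^ ((k - 1) * (i : ℕ)) * ∑ l ∈ Finset.range k, (q₀ ^ (n - (i : ℕ))) ^ l),
    ?_, ?_⟩
  · apply Finset.prod_induction _ Odd (fun a b ha hb => ha.mul hb) odd_one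
    intro i _
    exact hq₀.pow.mul (geom_odd _ _ hq₀.pow hk)
  · rw [← Finset.prod_mul_distrib]
    exact Finset.prod_congr rfl (fun i _ => term_factor q₀ k n i i.2 hq₀1 hk1)

variable {F : Type*} [Field F] {n : ℕ}

theorem subf_index_odd [Fintype F] (h2 : (2 : F) ≠ 0) (hn : 0 < n) (F₀ : Subfield F)
    (q₀ k : ℕ) (hF₀ : Nat.card ↥F₀ = q₀) (hq : Fintype.card F = q₀ ^ k) (hk : Odd k) :
    ¬ 2 ∣ ((subfieldSubgroup F₀ 1).comap (Matrix.SpecialLinearGroup.toGL :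
        Matrix.SpecialLinearGroup (Fin n) F →* GL (Fin n) F)).index := by
  classical
  haveI : Fintype ↥F₀ := Fintype.ofFinite _
  haveI : Nonempty (Fin n) := ⟨⟨0, hn⟩⟩
  have hcard₀ : Fintype.card ↥F₀ = q₀ := by rw [← Nat.card_eq_fintype_card]; exact hF₀
  have hodd : Fintype.card F % 2 = 1 := by
    have := two_eq_zero_iff_card (F := F)
    by_contra h
    exact h2 (this.2 (by omega))
  have hq₀odd : Odd q₀ := by
    rw [hq] at hodd
    rw [Nat.odd_iff]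
    rcases Nat.mod_two_eq_zero_or_one q₀ with h | h
    · have hk1 : k ≠ 0 := by rcases hk with ⟨t, rfl⟩; omega
      rw [Nat.pow_mod, h, zero_pow hk1] at hodd
      simp at hodd
    · exact h
  have hq₀2 : 2 ≤ q₀ := by
    rw [← hcard₀]; exact Fintype.one_lt_card
  -- the order formulas
  have h1 := Cfsg.Agent.Helper7.card_units_mul_card_SL (n := Fin n) (F := F)
  rw [Matrix.card_GL_field, hq] at h1
  have h2' := Cfsg.Agent.Helper7.card_units_mul_card_SL (n := Fin n) (F := ↥F₀)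
  rw [Matrix.card_GL_field, hcard₀] at h2'
  obtain ⟨O, hO, hprod⟩ := prod_factor q₀ k n hq₀odd hk
  have hG := pow_sub_one_factor q₀ k (by omega)
  have hGodd := geom_odd q₀ k hq₀odd hk
  -- the subgroup of matrices over the subfield
  obtain ⟨H₀, hH₀⟩ : ∃ H₀ : Subgroup (Matrix.SpecialLinearGroup (Fin n) F),
      H₀ = (Matrix.SpecialLinearGroup.map (F₀.subtype : ↥F₀ →+* F)).range := ⟨_, rfl⟩
  have hinj : Function.Injective
      (Matrix.SpecialLinearGroup.map (n := Fin n) (F₀.subtype : ↥F₀ →+* F)) := by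
    intro A B hAB
    ext i j
    have := congrArg (fun M : Matrix.SpecialLinearGroup (Fin n) F =>
      (M : Matrix (Fin n) (Fin n) F) i j) hAB
    simpa using this
  have hcardH₀ : Nat.card H₀ = Nat.card (Matrix.SpecialLinearGroup (Fin n) ↥F₀) := by
    rw [hH₀]
    exact (Nat.card_congr (MonoidHom.ofInjective hinj).toEquiv).symm
  have hle : H₀ ≤ (subfieldSubgroup F₀ 1).comap (Matrix.SpecialLinearGroup.toGL :
      Matrix.SpecialLinearGroup (Fin n) F →* GL (Fin n) F) := by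
    rw [hH₀]
    rintro _ ⟨A, rfl⟩
    rw [Subgroup.mem_comap]
    apply Cfsg.Agent.Helper7.SubF.mem_subfield_of (μ := 1) one_ne_zero
    rintro w ⟨u, hu, rfl⟩
    refine ⟨_, fun i => Cfsg.Agent.Helper7.SubF.mulVec_rat (B := ((Matrix.SpecialLinearGroup.map
      (F₀.subtype : ↥F₀ →+* F) A : Matrix.SpecialLinearGroup (Fin n) F) :
        Matrix (Fin n) (Fin n) F)) (fun i j => ?_) hu i, ?_⟩
    · simp
    · simp only [Units.val_one, Matrix.one_mulVec, one_smul]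
      rfl
  have hidx := Subgroup.index_mul_card H₀
  rw [hcardH₀] at hidx
  have hdvd := Subgroup.index_dvd_of_le hle
  -- arithmetic
  obtain ⟨S, hS⟩ : ∃ S, S = Nat.card (Matrix.SpecialLinearGroup (Fin n) F) := ⟨_, rfl⟩
  obtain ⟨S₀, hS₀⟩ : ∃ S₀, S₀ = Nat.card (Matrix.SpecialLinearGroup (Fin n) ↥F₀) := ⟨_, rfl⟩
  rw [← hS] at h1 hidx
  rw [← hS₀] at h2' hidx
  have hS₀pos : 0 < (q₀ - 1) * S₀ := by
    apply Nat.mul_pos (by omega)
    rw [hS₀]; exact Nat.card_pos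
  have key : (∑ l ∈ Finset.range k, q₀ ^ l) * H₀.index * ((q₀ - 1) * S₀) =
      O * ((q₀ - 1) * S₀) := by
    calc (∑ l ∈ Finset.range k, q₀ ^ l) * H₀.index * ((q₀ - 1) * S₀)
        = ((∑ l ∈ Finset.range k, q₀ ^ l) * (q₀ - 1)) * (H₀.index * S₀) := by ring
      _ = (q₀ ^ k - 1) * S := by rw [← hG, hidx]
      _ = O * ∏ i : Fin n, (q₀ ^ n - q₀ ^ (i : ℕ)) := by rw [h1, hprod]
      _ = O * ((q₀ - 1) * S₀) := by rw [h2']
  have key2 := Nat.eq_of_mul_eq_mul_right hS₀pos key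
  have hoddidx : Odd H₀.index := by
    have : Odd ((∑ l ∈ Finset.range k, q₀ ^ l) * H₀.index) := key2 ▸ hO
    exact (Nat.odd_mul.1 this).2
  intro h2dvd
  have := Dvd.dvd.trans h2dvd hdvd
  rw [Nat.odd_iff] at hoddidx
  omega

end Cfsg.Agent.Helper7.Invol
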