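import Mathlib
import Cfsg.Agent.Helper7.InvolP

set_option autoImplicit false

namespace Cfsg.Agent.Helper7.Jord

open Cfsg.Agent.Helper7.Invol

variable {F : Type*} [Field F]

/-- Normal form of an operator of square zero on an abstract finite-dimensional space. -/
theorem exists_nilp_basis_lin {V : Type*} [AddCommGroup V] [Module F V] [FiniteDimensional F V]
    (T : V →ₗ[F] V) (hTT : ∀ v, T (T v) = 0) :
    ∃ (s t : ℕ) (b : Module.Basis ((Fin 2 × Fin s) ⊕ Fin t) F V),
      (∀ i, T (b (Sum.inl (0, i))) = b (Sum.inl (1, i))) ∧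
      (∀ i, T (b (Sum.inl (1, i))) = 0) ∧ (∀ j, T (b (Sum.inr j)) = 0) := by
  classical
  obtain ⟨s, t, w, u, hwR, huK, hwli, huli, hdis, hdim⟩ := exists_ker_family T hTT
  have hv : ∀ i, ∃ v, T v = w i := fun i => hwR i
  choose v hv using hv
  have hw : ∀ i, T (w i) = 0 := fun i => by rw [← hv i, hTT]
  obtain ⟨g, hg⟩ : ∃ g : (Fin 2 × Fin s) ⊕ Fin t → V, g =
      Sum.elim (fun p => if p.1 = 0 then v p.2 else w p.2) u := ⟨_, rfl⟩
  have hg0 : ∀ i, g (Sum.inl (0, i)) = v i := fun i => by rw [hg]; simp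
  have hg1 : ∀ i, g (Sum.inl (1, i)) = w i := fun i => by rw [hg]; simp
  have hg2 : ∀ j, g (Sum.inr j) = u j := fun j => by rw [hg]; simp
  have hli := nilp_li T v w u hv hw huK hwli huli hdis g hg0 hg1 hg2
  have hcard : Fintype.card ((Fin 2 × Fin s) ⊕ Fin t) = Module.finrank F V := by
    rw [Fintype.card_sum, Fintype.card_prod, Fintype.card_fin, Fintype.card_fin, Fintype.card_fin]
    exact hdim
  by_cases hne : Nonempty ((Fin 2 × Fin s) ⊕ Fin t)
  · refine ⟨s, t, basisOfLinearIndependentOfCardEqFinrank hli hcard, ?_, ?_, ?_⟩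
    · intro i
      rw [coe_basisOfLinearIndependentOfCardEqFinrank, hg0, hg1, hv]
    · intro i
      rw [coe_basisOfLinearIndependentOfCardEqFinrank, hg1, hw]
    · intro j
      rw [coe_basisOfLinearIndependentOfCardEqFinrank, hg2, huK]
  · rw [not_nonempty_iff] at hne
    have hn0 : Module.finrank F V = 0 := by
      rw [← hcard]; exact Fintype.card_eq_zero
    have : Subsingleton V := Module.finrank_zero_iff.1 hn0
    refine ⟨s, t, Module.Basis.empty _, ?_, ?_, ?_⟩
    · intro i; exact Subsingleton.elim _ _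
    · intro i; exact Subsingleton.elim _ _
    · intro j; exact Subsingleton.elim _ _

end Cfsg.Agent.Helper7.Jord
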