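import Mathlib
import Cfsg.Agent.Helper7.JordA

set_option autoImplicit false

namespace Cfsg.Agent.Helper7.Jord

variable {F : Type*} [Field F]

/-- The index type of a Jordan basis with blocks of sizes 3, 2 and 1. -/
abbrev J3 (a b c : ℕ) : Type := (Fin 3 × Fin a) ⊕ ((Fin 2 × Fin b) ⊕ Fin c)

/-- Linear independence of a Jordan-type family with blocks of sizes 3, 2, 1. -/
theorem nilp3_li {V : Type*} [AddCommGroup V] [Module F V] (T : V →ₗ[F] V) {s t c : ℕ}
    (e v' w' : Fin s → V) (f u' : Fin t → V) (g : Fin c → V)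
    (he : ∀ i, T (e i) = v' i) (hv' : ∀ i, T (v' i) = w' i) (hw' : ∀ i, T (w' i) = 0)
    (hf : ∀ j, T (f j) = u' j) (hu' : ∀ j, T (u' j) = 0) (hg : ∀ l, T (g l) = 0)
    (hR : ∀ (α β : Fin s → F) (γ : Fin t → F),
      ∑ i, α i • v' i + ∑ i, β i • w' i + ∑ j, γ j • u' j = 0 →
        (∀ i, α i = 0) ∧ (∀ i, β i = 0) ∧ (∀ j, γ j = 0))
    (hgli : LinearIndependent F g)
    (hdis : ∀ (β : Fin s → F) (γ : Fin t → F) (x : V),
      x = ∑ i, β i • w' i + ∑ j, γ j • u' j → x ∈ Submodule.span F (Set.range g) → x = 0)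
    (Φ : J3 s t c → V)
    (h0 : ∀ i, Φ (Sum.inl (0, i)) = e i) (h1 : ∀ i, Φ (Sum.inl (1, i)) = v' i)
    (h2 : ∀ i, Φ (Sum.inl (2, i)) = w' i)
    (h3 : ∀ j, Φ (Sum.inr (Sum.inl (0, j))) = f j)
    (h4 : ∀ j, Φ (Sum.inr (Sum.inl (1, j))) = u' j)
    (h5 : ∀ l, Φ (Sum.inr (Sum.inr l)) = g l) : LinearIndependent F Φ := by
  classical
  rw [Fintype.linearIndependent_iff]
  intro κ hκ
  rw [Fintype.sum_sum_type, Fintype.sum_sum_type, Fintype.sum_prod_type, Fintype.sum_prod_type,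
    Fin.sum_univ_three, Fin.sum_univ_two] at hκ
  simp only [h0, h1, h2, h3, h4, h5] at hκ
  -- apply T
  have hT := congrArg T hκ
  simp only [map_add, map_sum, map_smul, he, hv', hw', hf, hu', hg, smul_zero,
    Finset.sum_const_zero, add_zero, map_zero] at hT
  obtain ⟨hα, hβ, hγ⟩ := hR (fun i => κ (Sum.inl (0, i))) (fun i => κ (Sum.inl (1, i)))
    (fun j => κ (Sum.inr (Sum.inl (0, j)))) hT
  simp only [hα, hβ, hγ, zero_smul, Finset.sum_const_zero, zero_add] at hκ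
  -- the kernel part
  have hx : ∑ i, κ (Sum.inl (2, i)) • w' i + ∑ j, κ (Sum.inr (Sum.inl (1, j))) • u' j = 0 := by
    apply hdis (fun i => κ (Sum.inl (2, i))) (fun j => κ (Sum.inr (Sum.inl (1, j)))) _ rfl
    have : ∑ i, κ (Sum.inl (2, i)) • w' i + ∑ j, κ (Sum.inr (Sum.inl (1, j))) • u' j =
        -∑ l, κ (Sum.inr (Sum.inr l)) • g l := by
      rw [eq_neg_iff_add_eq_zero, add_assoc]
      exact hκ
    rw [this]
    exact Submodule.neg_mem _ (Submodule.sum_mem _ (fun l _ =>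
      Submodule.smul_mem _ _ (Submodule.subset_span ⟨l, rfl⟩)))
  obtain ⟨-, hβ', hγ'⟩ := hR (fun _ => 0) (fun i => κ (Sum.inl (2, i)))
    (fun j => κ (Sum.inr (Sum.inl (1, j)))) (by simpa using hx)
  have hgl : ∑ l, κ (Sum.inr (Sum.inr l)) • g l = 0 := by
    rw [← add_assoc, hx, zero_add] at hκ
    exact hκ
  have hδ := Fintype.linearIndependent_iff.1 hgli (fun l => κ (Sum.inr (Sum.inr l))) hgl
  rintro ((⟨k, i⟩) | ((⟨k, j⟩) | l))
  · fin_cases k
    · exact hα i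
    · exact hβ i
    · exact hβ' i
  · fin_cases k
    · exact hγ j
    · exact hγ' j
  · exact hδ l

end Cfsg.Agent.Helper7.Jord
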