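import Mathlib
import Cfsg.Agent.Helper7.JordB

set_option autoImplicit false

namespace Cfsg.Agent.Helper7.Jord

variable {F : Type*} [Field F]

/-- Normal form of an operator of cube zero on a finite-dimensional space. -/
theorem exists_nilp3_basis_lin {V : Type*} [AddCommGroup V] [Module F V] [FiniteDimensional F V]
    (T : V →ₗ[F] V) (hT3 : ∀ v, T (T (T v)) = 0) :
    ∃ (a b c : ℕ) (β : Module.Basis (J3 a b c) F V),
      (∀ i, T (β (Sum.inl (0, i))) = β (Sum.inl (1, i))) ∧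
      (∀ i, T (β (Sum.inl (1, i))) = β (Sum.inl (2, i))) ∧
      (∀ i, T (β (Sum.inl (2, i))) = 0) ∧
      (∀ j, T (β (Sum.inr (Sum.inl (0, j)))) = β (Sum.inr (Sum.inl (1, j)))) ∧
      (∀ j, T (β (Sum.inr (Sum.inl (1, j)))) = 0) ∧
      (∀ l, T (β (Sum.inr (Sum.inr l))) = 0) := by
  classical
  obtain ⟨R, hR⟩ : ∃ R : Submodule F V, R = LinearMap.range T := ⟨_, rfl⟩
  have hRinv : ∀ x ∈ R, T x ∈ R := fun x _ => by rw [hR]; exact LinearMap.mem_range_self T x
  obtain ⟨TR, hTR⟩ : ∃ TR : R →ₗ[F] R, ∀ y : R, ((TR y : R) : V) = T (y : V) :=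
    ⟨T.restrict hRinv, fun y => rfl⟩
  have hRmem : ∀ y : R, ∃ v, T v = (y : V) := by
    intro y
    have h2 : (y : V) ∈ LinearMap.range T := by rw [← hR]; exact y.2
    exact h2
  have hTRTR : ∀ y : R, TR (TR y) = 0 := by
    intro y
    apply Subtype.ext
    rw [hTR, hTR]
    obtain ⟨v, hv⟩ := hRmem y
    rw [← hv, hT3]
    rfl
  obtain ⟨s, t, bR, hb0, hb1, hb2⟩ := exists_nilp_basis_lin TR hTRTR
  obtain ⟨v', hv'⟩ : ∃ v' : Fin s → V, ∀ i, v' i = (bR (Sum.inl (0, i)) : V) := ⟨_, fun _ => rfl⟩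
  obtain ⟨w', hw'⟩ : ∃ w' : Fin s → V, ∀ i, w' i = (bR (Sum.inl (1, i)) : V) := ⟨_, fun _ => rfl⟩
  obtain ⟨u', hu'⟩ : ∃ u' : Fin t → V, ∀ j, u' j = (bR (Sum.inr j) : V) := ⟨_, fun _ => rfl⟩
  have hTv' : ∀ i, T (v' i) = w' i := fun i => by rw [hv', hw', ← hTR, hb0]
  have hTw' : ∀ i, T (w' i) = 0 := fun i => by rw [hw', ← hTR, hb1]; rfl
  have hTu' : ∀ j, T (u' j) = 0 := fun j => by rw [hu', ← hTR, hb2]; rfl
  have hex_e : ∀ i, ∃ e, T e = v' i := fun i => by
    rw [hv']
    exact hRmem _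
  choose e he using hex_e
  have hex_f : ∀ j, ∃ f, T f = u' j := fun j => by
    rw [hu']
    exact hRmem _
  choose f hf using hex_f
  -- independence in the range
  have hRli : ∀ (α β : Fin s → F) (γ : Fin t → F),
      ∑ i, α i • v' i + ∑ i, β i • w' i + ∑ j, γ j • u' j = 0 →
        (∀ i, α i = 0) ∧ (∀ i, β i = 0) ∧ (∀ j, γ j = 0) := by
    intro α β γ h
    have hli := bR.linearIndependent
    rw [Fintype.linearIndependent_iff] at hli
    have h' := hli (Sum.elim (fun p => if p.1 = 0 then α p.2 else β p.2) γ) (by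
      apply Subtype.ext
      rw [Fintype.sum_sum_type, Fintype.sum_prod_type, Fin.sum_univ_two]
      simp only [Sum.elim_inl, Sum.elim_inr, Fin.isValue, if_true, one_ne_zero, if_false]
      rw [Submodule.coe_add, Submodule.coe_add, Submodule.coe_sum, Submodule.coe_sum,
        Submodule.coe_sum]
      simp only [Submodule.coe_smul, ← hv', ← hw', ← hu']
      exact h)
    refine ⟨fun i => ?_, fun i => ?_, fun j => ?_⟩
    · simpa using h' (Sum.inl (0, i))
    · simpa using h' (Sum.inl (1, i))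
    · simpa using h' (Sum.inr j)
  -- the kernel
  obtain ⟨K₀, hK₀⟩ : ∃ K₀ : Submodule F V,
      K₀ = Submodule.span F (Set.range w' ∪ Set.range u') := ⟨_, rfl⟩
  have hK₀le : K₀ ≤ LinearMap.ker T := by
    rw [hK₀, Submodule.span_le]
    rintro x (⟨i, rfl⟩ | ⟨j, rfl⟩)
    · exact hTw' i
    · exact hTu' j
  obtain ⟨C, hC⟩ := Submodule.exists_isCompl K₀
  obtain ⟨U, hU⟩ : ∃ U : Submodule F V, U = C ⊓ LinearMap.ker T := ⟨_, rfl⟩
  have hsup : K₀ ⊔ U = LinearMap.ker T := by
    rw [hU, ← sup_inf_assoc_of_le _ hK₀le, hC.sup_eq_top, top_inf_eq]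
  have hinf : K₀ ⊓ U = ⊥ := by
    rw [hU, ← inf_assoc, hC.inf_eq_bot, bot_inf_eq]
  obtain ⟨c, hc⟩ : ∃ c, c = Module.finrank F U := ⟨_, rfl⟩
  obtain ⟨bU, -⟩ : ∃ _ : Module.Basis (Fin c) F U, True :=
    ⟨(Module.finBasis F _).reindex (finCongr hc.symm), trivial⟩
  obtain ⟨g, hg⟩ : ∃ g : Fin c → V, ∀ l, g l = (bU l : V) := ⟨_, fun _ => rfl⟩
  have hTg : ∀ l, T (g l) = 0 := fun l => by
    have : g l ∈ C ⊓ LinearMap.ker T := by rw [hg, ← hU]; exact (bU l).2
    exact this.2
  have hgli : LinearIndependent F g := by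
    have := bU.linearIndependent.map' U.subtype (Submodule.ker_subtype _)
    have e' : g = ⇑U.subtype ∘ ⇑bU := by
      funext l
      rw [hg]
      rfl
    rw [e']
    exact this
  have hgU : Submodule.span F (Set.range g) ≤ U := by
    rw [Submodule.span_le]
    rintro x ⟨l, rfl⟩
    rw [hg]
    exact (bU l).2
  have hdis : ∀ (β : Fin s → F) (γ : Fin t → F) (x : V),
      x = ∑ i, β i • w' i + ∑ j, γ j • u' j → x ∈ Submodule.span F (Set.range g) → x = 0 := by
    intro β γ x hx hxg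
    have h1 : x ∈ K₀ := by
      rw [hx, hK₀]
      refine Submodule.add_mem _ (Submodule.sum_mem _ (fun i _ => Submodule.smul_mem _ _
        (Submodule.subset_span (Or.inl ⟨i, rfl⟩)))) (Submodule.sum_mem _ (fun j _ =>
        Submodule.smul_mem _ _ (Submodule.subset_span (Or.inr ⟨j, rfl⟩))))
    have : x ∈ K₀ ⊓ U := ⟨h1, hgU hxg⟩
    rw [hinf] at this
    exact (Submodule.mem_bot F).1 this
  -- the family
  obtain ⟨Φ, hΦ⟩ : ∃ Φ : J3 s t c → V, Φ = Sum.elim
      (fun p => if p.1 = 0 then e p.2 else if p.1 = 1 then v' p.2 else w' p.2)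
      (Sum.elim (fun p => if p.1 = 0 then f p.2 else u' p.2) g) := ⟨_, rfl⟩
  have h0 : ∀ i, Φ (Sum.inl (0, i)) = e i := fun i => by rw [hΦ]; simp
  have h1 : ∀ i, Φ (Sum.inl (1, i)) = v' i := fun i => by rw [hΦ]; simp
  have h2 : ∀ i, Φ (Sum.inl (2, i)) = w' i := fun i => by rw [hΦ]; simp
  have h3 : ∀ j, Φ (Sum.inr (Sum.inl (0, j))) = f j := fun j => by rw [hΦ]; simp
  have h4 : ∀ j, Φ (Sum.inr (Sum.inl (1, j))) = u' j := fun j => by rw [hΦ]; simp
  have h5 : ∀ l, Φ (Sum.inr (Sum.inr l)) = g l := fun l => by rw [hΦ]; simp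
  have hli := nilp3_li T e v' w' f u' g he hTv' hTw' hf hTu' hTg hRli hgli hdis Φ h0 h1 h2 h3 h4 h5
  -- dimension count
  have hK₀fr : Module.finrank F K₀ = s + t := by
    have hli2 : LinearIndependent F (Sum.elim w' u') := by
      rw [Fintype.linearIndependent_iff]
      intro κ hκ
      rw [Fintype.sum_sum_type] at hκ
      simp only [Sum.elim_inl, Sum.elim_inr] at hκ
      obtain ⟨-, hβ, hγ⟩ := hRli (fun _ => 0) (fun i => κ (Sum.inl i)) (fun j => κ (Sum.inr j))
        (by simpa using hκ)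
      rintro (i | j)
      · exact hβ i
      · exact hγ j
    have := finrank_span_eq_card hli2
    rw [Set.Sum.elim_range, Fintype.card_sum, Fintype.card_fin, Fintype.card_fin] at this
    rw [hK₀]
    exact this
  have hcard : Fintype.card (J3 s t c) = Module.finrank F V := by
    rw [Fintype.card_sum, Fintype.card_sum, Fintype.card_prod, Fintype.card_prod, Fintype.card_fin,
      Fintype.card_fin, Fintype.card_fin, Fintype.card_fin, Fintype.card_fin]
    have e1 := LinearMap.finrank_range_add_finrank_ker T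
    have e2 := Submodule.finrank_sup_add_finrank_inf_eq K₀ U
    rw [hsup, hinf, finrank_bot, hK₀fr, ← hc] at e2
    have e3 := Module.finrank_eq_card_basis bR
    rw [Fintype.card_sum, Fintype.card_prod, Fintype.card_fin, Fintype.card_fin, Fintype.card_fin]
      at e3
    rw [← hR] at e1
    omega
  by_cases hne : Nonempty (J3 s t c)
  · refine ⟨s, t, c, basisOfLinearIndependentOfCardEqFinrank hli hcard, ?_, ?_, ?_, ?_, ?_, ?_⟩
    · intro i
      rw [coe_basisOfLinearIndependentOfCardEqFinrank, h0, h1, he]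
    · intro i
      rw [coe_basisOfLinearIndependentOfCardEqFinrank, h1, h2, hTv']
    · intro i
      rw [coe_basisOfLinearIndependentOfCardEqFinrank, h2, hTw']
    · intro j
      rw [coe_basisOfLinearIndependentOfCardEqFinrank, h3, h4, hf]
    · intro j
      rw [coe_basisOfLinearIndependentOfCardEqFinrank, h4, hTu']
    · intro l
      rw [coe_basisOfLinearIndependentOfCardEqFinrank, h5, hTg]
  · rw [not_nonempty_iff] at hne
    have hn0 : Module.finrank F V = 0 := by
      rw [← hcard]; exact Fintype.card_eq_zero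
    have : Subsingleton V := Module.finrank_zero_iff.1 hn0
    refine ⟨s, t, c, Module.Basis.empty _, ?_, ?_, ?_, ?_, ?_, ?_⟩ <;>
    · intro i; exact Subsingleton.elim _ _

end Cfsg.Agent.Helper7.Jord
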