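import Mathlib

set_option autoImplicit false

namespace Cfsg.Agent.Helper7.Jord

open Matrix

variable {F : Type*} [Field F] {n : ℕ}

/-- `β` is a Jordan basis of the nilpotent matrix `N` along the successor function `next`. -/
def IsJordanFor {ι : Type*} (next : ι → Option ι) (N : Matrix (Fin n) (Fin n) F)
    (β : Module.Basis ι F (Fin n → F)) : Prop :=
  ∀ p, N *ᵥ β p = (next p).elim 0 (fun p' => β p')

/-- The matrix acting on the basis `β'` through the successor function. -/
noncomputable def jordanMat {ι : Type*} (next : ι → Option ι)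
    (β' : Module.Basis ι F (Fin n → F)) : Matrix (Fin n) (Fin n) F :=
  LinearMap.toMatrix' (β'.constr F (fun p => (next p).elim 0 (fun p' => β' p')))

theorem isJordanFor_jordanMat {ι : Type*} (next : ι → Option ι)
    (β' : Module.Basis ι F (Fin n → F)) : IsJordanFor next (jordanMat next β') β' := by
  intro p
  rw [jordanMat, ← Matrix.toLin'_apply, Matrix.toLin'_toMatrix', Module.Basis.constr_basis]

/-- Rescaling a Jordan basis by a function constant along chains. -/
theorem IsJordanFor.unitsSMul {ι : Type*} {next : ι → Option ι} {N : Matrix (Fin n) (Fin n) F}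
    {β : Module.Basis ι F (Fin n → F)} (h : IsJordanFor next N β) (w : ι → Fˣ)
    (hw : ∀ p p', next p = some p' → w p' = w p) : IsJordanFor next N (β.unitsSMul w) := by
  intro p
  rw [Module.Basis.unitsSMul_apply, Units.smul_def, Matrix.mulVec_smul, h p]
  rcases hp : next p with _ | p'
  · simp
  · simp only [Option.elim_some]
    rw [Module.Basis.unitsSMul_apply, hw p p' hp, Units.smul_def]

/-- Two Jordan bases of the same shape intertwine the two nilpotent matrices. -/
theorem intertwine_of_jordan {ι : Type*} [Fintype ι] [DecidableEq ι] {next : ι → Option ι}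
    {N N' : Matrix (Fin n) (Fin n) F} {β β' : Module.Basis ι F (Fin n → F)}
    (h : IsJordanFor next N β) (h' : IsJordanFor next N' β') :
    ∃ G : Matrix (Fin n) (Fin n) F, N * G = G * N' ∧ G.det = β'.det β := by
  let g : (Fin n → F) ≃ₗ[F] (Fin n → F) := β'.equiv β (Equiv.refl ι)
  have hg : ∀ i, g (β' i) = β i := fun i => by simp [g]
  refine ⟨LinearMap.toMatrix' (g : (Fin n → F) →ₗ[F] (Fin n → F)), ?_, ?_⟩
  · have hGv : ∀ v, LinearMap.toMatrix' (g : (Fin n → F) →ₗ[F] (Fin n → F)) *ᵥ v = g v := by
      intro v
      rw [← Matrix.toLin'_apply, Matrix.toLin'_toMatrix']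
      rfl
    apply Matrix.toLin'.injective
    apply β'.ext
    intro p
    rw [Matrix.toLin'_mul, Matrix.toLin'_mul, LinearMap.comp_apply, LinearMap.comp_apply,
      Matrix.toLin'_apply, Matrix.toLin'_apply, Matrix.toLin'_apply, Matrix.toLin'_apply,
      hGv, hg, h p, h' p, hGv]
    rcases next p with _ | p'
    · simp
    · simp [hg]
  · rw [LinearMap.det_toMatrix']
    exact Module.Basis.det_basis β β'

/-- Conjugacy under the special linear group from Jordan bases with relative determinant 1. -/
theorem conj_of_jordan {ι : Type*} [Fintype ι] [DecidableEq ι] {next : ι → Option ι}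
    {N N' : Matrix (Fin n) (Fin n) F} {β β' : Module.Basis ι F (Fin n → F)}
    (h : IsJordanFor next N β) (h' : IsJordanFor next N' β') (hdet : β'.det β = 1) :
    ∃ P : Matrix.SpecialLinearGroup (Fin n) F,
      N * (P : Matrix (Fin n) (Fin n) F) = (P : Matrix (Fin n) (Fin n) F) * N' := by
  obtain ⟨G, hG, hGdet⟩ := intertwine_of_jordan h h'
  exact ⟨⟨G, by rw [hGdet, hdet]⟩, hG⟩

theorem det_unitsSMul_right {ι : Type*} [Fintype ι] [DecidableEq ι]
    (β β' : Module.Basis ι F (Fin n → F)) (w : ι → Fˣ) :
    β'.det (β.unitsSMul w) = (∏ i, (w i : F)) * β'.det β := by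
  have e : (β.unitsSMul w : ι → (Fin n → F)) = fun i => (w i : F) • β i := by
    funext i
    rw [Module.Basis.unitsSMul_apply, Units.smul_def]
  rw [e, (β'.det).map_smul_univ, smul_eq_mul]

theorem det_unitsSMul_left {ι : Type*} [Fintype ι] [DecidableEq ι]
    (β β' : Module.Basis ι F (Fin n → F)) (w' : ι → Fˣ) :
    (β'.unitsSMul w').det β = (∏ i, (w' i : F))⁻¹ * β'.det β := by
  rw [Module.Basis.det_unitsSMul]
  simp [Units.val_inv_eq_inv_val]

end Cfsg.Agent.Helper7.Jord
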