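import Mathlib
import Cfsg.Agent.Helper7.JordD
import Cfsg.Agent.Helper7.InvolZ

set_option autoImplicit false

namespace Cfsg.Agent.Helper7.Jord

open Matrix Cfsg.Geo Cfsg.Agent.Helper7.Invol

variable {F : Type*} [Field F] {n : ℕ}

/-- The Jordan matrix of a rescaled standard basis, the scalars taken in the subfield, has its
entries in the subfield. -/
theorem jordanMat_rational {ι : Type*} [Fintype ι] [DecidableEq ι] (F₀ : Subfield F)
    (next : ι → Option ι) (e : ι ≃ Fin n) (b₀ : Module.Basis ι F (Fin n → F))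
    (hb₀ : ∀ p, b₀ p = Pi.single (e p) 1) (w' : ι → Fˣ) (hw' : ∀ p, (w' p : F) ∈ F₀) :
    ∀ i j, jordanMat next (b₀.unitsSMul w') i j ∈ F₀ := by
  apply entries_of_std F₀ e
  intro p i
  have h1 : (Pi.single (e p) 1 : Fin n → F) = ((w' p)⁻¹ : Fˣ) • (b₀.unitsSMul w') p := by
    rw [Module.Basis.unitsSMul_apply, smul_smul, inv_mul_cancel, one_smul, hb₀]
  rw [h1, Units.smul_def, Matrix.mulVec_smul, isJordanFor_jordanMat next (b₀.unitsSMul w') p]
  rcases next p with _ | p'
  · simp only [Option.elim_none, smul_zero, Pi.zero_apply]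
    exact F₀.zero_mem
  · simp only [Option.elim_some]
    rw [Module.Basis.unitsSMul_apply, Units.smul_def, smul_smul, hb₀, Pi.smul_apply, smul_eq_mul]
    refine F₀.mul_mem (F₀.mul_mem ?_ (hw' p')) (single_mem F₀ _ _)
    rw [Units.val_inv_eq_inv_val]
    exact F₀.inv_mem (hw' p)

/-- Conjugating `μ(1 + N)` into the subfield group, given a Jordan basis of `N` and suitable
rescalings. -/
theorem subf_of_jordan {ι : Type*} [Fintype ι] [DecidableEq ι] (F₀ : Subfield F)
    (next : ι → Option ι) (x : Matrix.SpecialLinearGroup (Fin n) F) (μ : F) (hμ : μ ≠ 0)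
    (N : Matrix (Fin n) (Fin n) F) (hx : (x : Matrix (Fin n) (Fin n) F) = μ • (1 + N))
    (β : Module.Basis ι F (Fin n → F)) (hβ : IsJordanFor next N β)
    (e : ι ≃ Fin n) (b₀ : Module.Basis ι F (Fin n → F)) (hb₀ : ∀ p, b₀ p = Pi.single (e p) 1)
    (w w' : ι → Fˣ) (hw : ∀ p p', next p = some p' → w p' = w p)
    (hw' : ∀ p, (w' p : F) ∈ F₀)
    (hdet : (∏ i, (w' i : F))⁻¹ * ((∏ i, (w i : F)) * b₀.det β) = 1) :
    ∃ P : Matrix.SpecialLinearGroup (Fin n) F, P⁻¹ * x * P ∈
      ((subfieldSubgroup F₀ 1).comap (Matrix.SpecialLinearGroup.toGL :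
        Matrix.SpecialLinearGroup (Fin n) F →* GL (Fin n) F)) := by
  have hβ₂ := hβ.unitsSMul w hw
  have hβ' := isJordanFor_jordanMat next (b₀.unitsSMul w')
  have hd : (b₀.unitsSMul w').det (β.unitsSMul w) = 1 := by
    rw [det_unitsSMul_left, det_unitsSMul_right]
    exact hdet
  obtain ⟨P, hP⟩ := conj_of_jordan hβ₂ hβ' hd
  have hXP : (x : Matrix (Fin n) (Fin n) F) * (P : Matrix (Fin n) (Fin n) F) =
      (P : Matrix (Fin n) (Fin n) F) * (μ • (1 + jordanMat next (b₀.unitsSMul w'))) := by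
    rw [hx, Matrix.smul_mul, Matrix.mul_smul, add_mul, mul_add, Matrix.one_mul, Matrix.mul_one, hP]
  refine ⟨P, mem_subfield_comap_of F₀ x P _ hXP μ hμ _ rfl ?_⟩
  intro i j
  rw [Matrix.add_apply]
  refine F₀.add_mem ?_ (jordanMat_rational F₀ next e b₀ hb₀ w' hw' i j)
  rw [Matrix.one_apply]
  split_ifs
  · exact F₀.one_mem
  · exact F₀.zero_mem

end Cfsg.Agent.Helper7.Jord
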