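import Mathlib
import Cfsg.Agent.Helper7.JordC
import Cfsg.Agent.Helper7.JordE

set_option autoImplicit false

namespace Cfsg.Agent.Helper7.Jord

open Matrix Cfsg.Geo Cfsg.Agent.Helper7.Invol

variable {F : Type*} [Field F] {n : ℕ}

/-- The successor function on the index type of Jordan bases with blocks of sizes 3, 2, 1. -/
def next3 (a b c : ℕ) : J3 a b c → Option (J3 a b c)
  | Sum.inl (k, i) =>
      if k = 0 then some (Sum.inl (1, i)) else if k = 1 then some (Sum.inl (2, i)) else none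
  | Sum.inr (Sum.inl (k, j)) => if k = 0 then some (Sum.inr (Sum.inl (1, j))) else none
  | Sum.inr (Sum.inr _) => none

/-- Jordan basis of a matrix of cube zero. -/
theorem exists_jordan3 (N : Matrix (Fin n) (Fin n) F) (hN : N * N * N = 0) :
    ∃ (a b c : ℕ) (β : Module.Basis (J3 a b c) F (Fin n → F)),
      IsJordanFor (next3 a b c) N β := by
  obtain ⟨a, b, c, β, h0, h1, h2, h3, h4, h5⟩ := exists_nilp3_basis_lin (Matrix.toLin' N)
    (fun v => by
      rw [Matrix.toLin'_apply, Matrix.toLin'_apply, Matrix.toLin'_apply, Matrix.mulVec_mulVec,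
        Matrix.mulVec_mulVec, hN, Matrix.zero_mulVec])
  refine ⟨a, b, c, β, ?_⟩
  simp only [Matrix.toLin'_apply] at h0 h1 h2 h3 h4 h5
  rintro ((⟨k, i⟩) | ((⟨k, j⟩) | l))
  · fin_cases k
    · simpa [next3] using h0 i
    · simpa [next3] using h1 i
    · simpa [next3] using h2 i
  · fin_cases k
    · simpa [next3] using h3 j
    · simpa [next3] using h4 j
  · simpa [next3] using h5 l

/-- Scaling the chain of a block of size 3. -/
def scale3 (a b c : ℕ) (i₀ : Fin a) (u : Fˣ) : J3 a b c → Fˣ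
  | Sum.inl (_, i) => if i = i₀ then u else 1
  | Sum.inr _ => 1

/-- Scaling the chain of a block of size 2. -/
def scale2 (a b c : ℕ) (j₀ : Fin b) (u : Fˣ) : J3 a b c → Fˣ
  | Sum.inl _ => 1
  | Sum.inr (Sum.inl (_, j)) => if j = j₀ then u else 1
  | Sum.inr (Sum.inr _) => 1

/-- Scaling a single index. -/
def scale1 {ι : Type*} [DecidableEq ι] (p₀ : ι) (u : Fˣ) : ι → Fˣ :=
  fun p => if p = p₀ then u else 1

theorem scale3_next (a b c : ℕ) (i₀ : Fin a) (u : Fˣ) (p p' : J3 a b c)
    (h : next3 a b c p = some p') : scale3 a b c i₀ u p' = scale3 a b c i₀ u p := by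
  rcases p with (⟨k, i⟩) | ((⟨k, j⟩) | l)
  · fin_cases k <;> simp [next3] at h <;> subst h <;> rfl
  · fin_cases k <;> simp [next3] at h <;> subst h <;> rfl
  · simp [next3] at h

theorem scale2_next (a b c : ℕ) (j₀ : Fin b) (u : Fˣ) (p p' : J3 a b c)
    (h : next3 a b c p = some p') : scale2 a b c j₀ u p' = scale2 a b c j₀ u p := by
  rcases p with (⟨k, i⟩) | ((⟨k, j⟩) | l)
  · fin_cases k <;> simp [next3] at h <;> subst h <;> rfl
  · fin_cases k <;> simp [next3] at h <;> subst h <;> rfl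
  · simp [next3] at h

theorem scale1_next (a b c : ℕ) (l₀ : Fin c) (u : Fˣ) (p p' : J3 a b c)
    (h : next3 a b c p = some p') :
    scale1 (Sum.inr (Sum.inr l₀)) u p' = scale1 (Sum.inr (Sum.inr l₀) : J3 a b c) u p := by
  rcases p with (⟨k, i⟩) | ((⟨k, j⟩) | l)
  · fin_cases k <;> simp [next3] at h <;> subst h <;> simp [scale1]
  · fin_cases k <;> simp [next3] at h <;> subst h <;> simp [scale1]
  · simp [next3] at h

theorem prod_scale3 (a b c : ℕ) (i₀ : Fin a) (u : Fˣ) :
    ∏ p, ((scale3 a b c i₀ u p : Fˣ) : F) = (u : F) ^ 3 := by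
  rw [Fintype.prod_sum_type, Fintype.prod_prod_type]
  simp only [scale3]
  have e : ∀ y : Fin a, ((if y = i₀ then u else 1 : Fˣ) : F) = if y = i₀ then (u : F) else 1 := by
    intro y
    split_ifs <;> simp
  simp [e, Finset.prod_ite_eq']

theorem prod_scale2 (a b c : ℕ) (j₀ : Fin b) (u : Fˣ) :
    ∏ p, ((scale2 a b c j₀ u p : Fˣ) : F) = (u : F) ^ 2 := by
  rw [Fintype.prod_sum_type, Fintype.prod_sum_type]
  simp only [scale2, Units.val_one, Finset.prod_const_one, one_mul, mul_one]
  rw [Fintype.prod_prod_type]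
  have e : ∀ y : Fin b, ((if y = j₀ then u else 1 : Fˣ) : F) = if y = j₀ then (u : F) else 1 := by
    intro y
    split_ifs <;> simp
  simp [e, Finset.prod_ite_eq']

theorem prod_scale1 {ι : Type*} [Fintype ι] [DecidableEq ι] (p₀ : ι) (u : Fˣ) :
    ∏ p, ((scale1 p₀ u p : Fˣ) : F) = (u : F) := by
  simp only [scale1]
  rw [Finset.prod_eq_single p₀]
  · simp
  · intro p _ hp
    simp [hp]
  · intro h
    exact absurd (Finset.mem_univ _) h

end Cfsg.Agent.Helper7.Jord
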