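import Mathlib
import Cfsg.Agent.Helper7.JordF

set_option autoImplicit false

namespace Cfsg.Agent.Helper7.Jord

open Matrix Cfsg.Geo Cfsg.Agent.Helper7.Invol

variable {F : Type*} [Field F] {n : ℕ}

theorem sub_one_cube (h3 : (3 : F) = 0) (A : Matrix (Fin n) (Fin n) F) :
    (A - 1) * (A - 1) * (A - 1) = A ^ 3 - 1 := by
  have e : (A - 1) * (A - 1) * (A - 1) = A ^ 3 - (A ^ 2 + A ^ 2 + A ^ 2) + (A + A + A) - 1 := by
    noncomm_ring
  have e2 : ∀ B : Matrix (Fin n) (Fin n) F, B + B + B = 0 := by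
    intro B
    have : B + B + B = (3 : F) • B := by
      rw [show (3 : F) = 1 + 1 + 1 by norm_num, add_smul, add_smul, one_smul]
    rw [this, h3, zero_smul]
  rw [e, e2, e2, sub_zero, add_zero]

/-- In characteristic 3, elements with scalar cube are conjugate into the subfield group, provided
that in even dimension every non-zero scalar is the product of a scalar of the subfield and a
square. -/
theorem backward_char3 (F₀ : Subfield F) (h3 : (3 : F) = 0) (hn : 0 < n)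
    (hcube : ∀ z : F, ∃ μ : F, μ ^ 3 = z)
    (hcond : Odd n ∨ ∀ δ : F, δ ≠ 0 → ∃ δ₀ ∈ F₀, δ₀ ≠ 0 ∧ ∃ ε : F, ε ≠ 0 ∧ δ = δ₀ * ε ^ 2)
    (x : Matrix.SpecialLinearGroup (Fin n) F)
    (hx : ∃ z : F, ((x ^ 3 : Matrix.SpecialLinearGroup (Fin n) F) :
      Matrix (Fin n) (Fin n) F) = z • (1 : Matrix (Fin n) (Fin n) F)) :
    ∃ P : Matrix.SpecialLinearGroup (Fin n) F, P⁻¹ * x * P ∈
      ((subfieldSubgroup F₀ 1).comap (Matrix.SpecialLinearGroup.toGL :
        Matrix.SpecialLinearGroup (Fin n) F →* GL (Fin n) F)) := by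
  classical
  obtain ⟨z, hz⟩ := hx
  rw [Matrix.SpecialLinearGroup.coe_pow] at hz
  obtain ⟨μ, hμz⟩ := hcube z
  have hμ : μ ≠ 0 := by
    intro h0
    rw [h0, zero_pow (by norm_num)] at hμz
    rw [← hμz, zero_smul] at hz
    have h1 := congrArg Matrix.det hz
    rw [Matrix.det_pow, x.2, one_pow] at h1
    haveI : Nonempty (Fin n) := ⟨⟨0, hn⟩⟩
    rw [Matrix.det_zero] at h1
    exact one_ne_zero h1
  obtain ⟨N, hN⟩ : ∃ N : Matrix (Fin n) (Fin n) F,
      N = μ⁻¹ • (x : Matrix (Fin n) (Fin n) F) - 1 := ⟨_, rfl⟩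
  have hxN : (x : Matrix (Fin n) (Fin n) F) = μ • (1 + N) := by
    rw [hN, add_sub_cancel, smul_smul, mul_inv_cancel₀ hμ, one_smul]
  have hN3 : N * N * N = 0 := by
    rw [hN, sub_one_cube h3, smul_pow, hz, smul_smul, ← hμz, inv_pow,
      inv_mul_cancel₀ (pow_ne_zero 3 hμ), one_smul, sub_self]
  obtain ⟨a, b, c, β, hβ⟩ := exists_jordan3 N hN3
  have hcard : Fintype.card (J3 a b c) = Fintype.card (Fin n) := by
    rw [card_of_basis β, Fintype.card_fin]
  have hcard' : 3 * a + (2 * b + c) = n := by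
    have := hcard
    rw [Fintype.card_sum, Fintype.card_sum, Fintype.card_prod, Fintype.card_prod,
      Fintype.card_fin, Fintype.card_fin, Fintype.card_fin, Fintype.card_fin,
      Fintype.card_fin, Fintype.card_fin] at this
    exact this
  obtain ⟨b₀, hb₀⟩ := exists_std_basis (F := F) (Fintype.equivOfCardEq hcard)
  obtain ⟨δ, hδ⟩ : ∃ δ : F, δ = b₀.det β := ⟨_, rfl⟩
  have hδ0 : δ ≠ 0 := by
    rw [hδ]
    exact (b₀.isUnit_det β).ne_zero
  by_cases hc : 0 < c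
  · -- a block of size one
    refine subf_of_jordan F₀ (next3 a b c) x μ hμ N hxN β hβ (Fintype.equivOfCardEq hcard) b₀ hb₀
      (scale1 (Sum.inr (Sum.inr ⟨0, hc⟩)) (Units.mk0 δ⁻¹ (inv_ne_zero hδ0))) (fun _ => 1)
      (scale1_next a b c ⟨0, hc⟩ _) (fun _ => by simp) ?_
    rw [prod_scale1, ← hδ]
    simp [inv_mul_cancel₀ hδ0]
  by_cases ha : 0 < a
  · -- a block of size three
    obtain ⟨ε, hε⟩ := hcube δ⁻¹
    have hε0 : ε ≠ 0 := by
      intro h0
      rw [h0, zero_pow (by norm_num)] at hε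
      exact inv_ne_zero hδ0 hε.symm
    refine subf_of_jordan F₀ (next3 a b c) x μ hμ N hxN β hβ (Fintype.equivOfCardEq hcard) b₀ hb₀
      (scale3 a b c ⟨0, ha⟩ (Units.mk0 ε hε0)) (fun _ => 1)
      (scale3_next a b c ⟨0, ha⟩ _) (fun _ => by simp) ?_
    rw [prod_scale3, ← hδ]
    simp [hε, inv_mul_cancel₀ hδ0]
  -- only blocks of size two
  have hc0 : c = 0 := by omega
  have ha0 : a = 0 := by omega
  have hb : 0 < b := by omega
  have hcond' : ∀ δ : F, δ ≠ 0 → ∃ δ₀ ∈ F₀, δ₀ ≠ 0 ∧ ∃ ε : F, ε ≠ 0 ∧ δ = δ₀ * ε ^ 2 := by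
    rcases hcond with hodd | h
    · exfalso
      rcases hodd with ⟨t, ht⟩
      omega
    · exact h
  obtain ⟨δ₀, hδ₀, hδ₀0, ε, hε0, hδε⟩ := hcond' δ hδ0
  refine subf_of_jordan F₀ (next3 a b c) x μ hμ N hxN β hβ (Fintype.equivOfCardEq hcard) b₀ hb₀
    (scale2 a b c ⟨0, hb⟩ (Units.mk0 ε⁻¹ (inv_ne_zero hε0)))
    (scale1 (Sum.inr (Sum.inl (0, ⟨0, hb⟩))) (Units.mk0 δ₀ hδ₀0))
    (scale2_next a b c ⟨0, hb⟩ _) (fun p => ?_) ?_
  · simp only [scale1]
    split_ifs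
    · exact hδ₀
    · simp
  · rw [prod_scale2, prod_scale1, ← hδ, hδε]
    simp only [Units.val_mk0]
    field_simp

end Cfsg.Agent.Helper7.Jord
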