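import Mathlib
import Cfsg.Agent.Helper7.JordD

set_option autoImplicit false

namespace Cfsg.Agent.Helper7.Jord

open Matrix

variable {F : Type*} [Field F] {n : ℕ}

/-- The successor function for Jordan bases consisting of blocks of size 2 only. -/
def next2 (m : ℕ) : Fin m ⊕ Fin m → Option (Fin m ⊕ Fin m)
  | Sum.inl i => some (Sum.inr i)
  | Sum.inr _ => none

theorem jordan2_inl {m : ℕ} {N : Matrix (Fin n) (Fin n) F}
    {β : Module.Basis (Fin m ⊕ Fin m) F (Fin n → F)} (h : IsJordanFor (next2 m) N β) (i : Fin m) :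
    N *ᵥ β (Sum.inl i) = β (Sum.inr i) := by
  have := h (Sum.inl i)
  simpa [next2] using this

theorem jordan2_inr {m : ℕ} {N : Matrix (Fin n) (Fin n) F}
    {β : Module.Basis (Fin m ⊕ Fin m) F (Fin n → F)} (h : IsJordanFor (next2 m) N β) (i : Fin m) :
    N *ᵥ β (Sum.inr i) = 0 := by
  have := h (Sum.inr i)
  simpa [next2] using this

/-- Coordinates of `N v` in a Jordan basis with blocks of size 2. -/
theorem repr_mulVec_of_jordan2 {m : ℕ} {N : Matrix (Fin n) (Fin n) F}
    {β : Module.Basis (Fin m ⊕ Fin m) F (Fin n → F)} (h : IsJordanFor (next2 m) N β)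
    (v : Fin n → F) :
    (∀ i, β.repr (N *ᵥ v) (Sum.inl i) = 0) ∧
      (∀ i, β.repr (N *ᵥ v) (Sum.inr i) = β.repr v (Sum.inl i)) := by
  classical
  have hv : N *ᵥ v = ∑ i, β.repr v (Sum.inl i) • β (Sum.inr i) := by
    conv_lhs => rw [← β.sum_repr v]
    rw [Fintype.sum_sum_type, Matrix.mulVec_add, Matrix.mulVec_sum, Matrix.mulVec_sum]
    simp only [Matrix.mulVec_smul, jordan2_inl h, jordan2_inr h, smul_zero, Finset.sum_const_zero,
      add_zero]
  rw [hv]
  constructor
  · intro i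
    rw [map_sum, Finsupp.finset_sum_apply]
    simp
  · intro i
    rw [map_sum, Finsupp.finset_sum_apply]
    simp [Finsupp.single_apply]

/-- The relative determinant of two Jordan bases (blocks of size 2) of the same nilpotent matrix
is a square. -/
theorem sq_of_jordan2 {m : ℕ} {N : Matrix (Fin n) (Fin n) F}
    {β₁ β₂ : Module.Basis (Fin m ⊕ Fin m) F (Fin n → F)} (h₁ : IsJordanFor (next2 m) N β₁)
    (h₂ : IsJordanFor (next2 m) N β₂) : ∃ c : F, β₂.det β₁ = c * c := by
  classical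
  obtain ⟨A, hA⟩ : ∃ A : Matrix (Fin m) (Fin m) F,
      A = fun i j => β₂.repr (β₁ (Sum.inl j)) (Sum.inl i) := ⟨_, rfl⟩
  obtain ⟨C, hC⟩ : ∃ C : Matrix (Fin m) (Fin m) F,
      C = fun i j => β₂.repr (β₁ (Sum.inl j)) (Sum.inr i) := ⟨_, rfl⟩
  have hM : β₂.toMatrix β₁ = Matrix.fromBlocks A 0 C A := by
    ext p p'
    rw [Module.Basis.toMatrix_apply]
    rcases p' with j | j
    · rcases p with i | i
      · rw [Matrix.fromBlocks_apply₁₁, hA]
      · rw [Matrix.fromBlocks_apply₂₁, hC]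
    · rw [← jordan2_inl h₁ j]
      obtain ⟨e1, e2⟩ := repr_mulVec_of_jordan2 h₂ (β₁ (Sum.inl j))
      rcases p with i | i
      · rw [e1, Matrix.fromBlocks_apply₁₂]; rfl
      · rw [e2, Matrix.fromBlocks_apply₂₂, hA]
  refine ⟨A.det, ?_⟩
  rw [Module.Basis.det_apply, hM, Matrix.det_fromBlocks_zero₁₂]

end Cfsg.Agent.Helper7.Jord
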