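import Mathlib
import Cfsg.Agent.Helper7.JordH
import Cfsg.Agent.Helper7.InvolZ

set_option autoImplicit false

namespace Cfsg.Agent.Helper7.Jord

open Matrix Cfsg.Agent.Helper7.Invol

variable {F : Type*} [Field F] {n : ℕ}

/-- The image of a vector under a nilpotent matrix with a Jordan basis with blocks of size 2. -/
theorem mulVec_of_jordan2 {m : ℕ} {N : Matrix (Fin n) (Fin n) F}
    {β : Module.Basis (Fin m ⊕ Fin m) F (Fin n → F)} (h : IsJordanFor (next2 m) N β)
    (v : Fin n → F) : N *ᵥ v = ∑ i, β.repr v (Sum.inl i) • β (Sum.inr i) := by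
  classical
  conv_lhs => rw [← β.sum_repr v]
  rw [Fintype.sum_sum_type, Matrix.mulVec_add, Matrix.mulVec_sum, Matrix.mulVec_sum]
  simp only [Matrix.mulVec_smul, jordan2_inl h, jordan2_inr h, smul_zero, Finset.sum_const_zero,
    add_zero]

/-- The span of the columns is the span of the lower half of the Jordan basis. -/
theorem span_cols_of_jordan2 {m : ℕ} {N : Matrix (Fin n) (Fin n) F}
    {β : Module.Basis (Fin m ⊕ Fin m) F (Fin n → F)} (h : IsJordanFor (next2 m) N β) :
    Submodule.span F (Set.range (fun j : Fin n => N *ᵥ (Pi.single j 1 : Fin n → F))) =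
      Submodule.span F (Set.range (fun t : Fin m => β (Sum.inr t))) := by
  classical
  apply le_antisymm
  · rw [Submodule.span_le]
    rintro _ ⟨j, rfl⟩
    change N *ᵥ _ ∈ _
    rw [mulVec_of_jordan2 h]
    exact Submodule.sum_mem _ (fun i _ => Submodule.smul_mem _ _
      (Submodule.subset_span ⟨i, rfl⟩))
  · rw [Submodule.span_le]
    rintro _ ⟨t, rfl⟩
    change β (Sum.inr t) ∈ _
    rw [← jordan2_inl h t]
    have e : β (Sum.inl t) = ∑ j, β (Sum.inl t) j • (Pi.single j 1 : Fin n → F) := by
      funext l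
      simp [Finset.sum_apply, Pi.single_apply]
    rw [e, Matrix.mulVec_sum]
    refine Submodule.sum_mem _ (fun j _ => ?_)
    rw [Matrix.mulVec_smul]
    exact Submodule.smul_mem _ _ (Submodule.subset_span ⟨j, rfl⟩)

/-- A nilpotent matrix with entries in a subfield and a Jordan basis with blocks of size 2 has
such a Jordan basis with coordinates in the subfield. -/
theorem exists_rational_jordan2 (F₀ : Subfield F) {m : ℕ} {N : Matrix (Fin n) (Fin n) F}
    (hrat : ∀ i j, N i j ∈ F₀) (hN2 : N * N = 0)
    {β : Module.Basis (Fin m ⊕ Fin m) F (Fin n → F)} (h : IsJordanFor (next2 m) N β) :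
    ∃ β' : Module.Basis (Fin m ⊕ Fin m) F (Fin n → F), IsJordanFor (next2 m) N β' ∧
      ∀ p i, β' p i ∈ F₀ := by
  classical
  rcases Nat.eq_zero_or_pos m with hm | hm
  · subst hm
    exact ⟨β, h, fun p => by rcases p with t | t <;> exact t.elim0⟩
  haveI : Nonempty (Fin m ⊕ Fin m) := ⟨Sum.inl ⟨0, hm⟩⟩
  have hrank : Module.finrank F (Submodule.span F
      (Set.range (fun j : Fin n => N *ᵥ (Pi.single j 1 : Fin n → F)))) = m := by
    rw [span_cols_of_jordan2 h]
    have hli : LinearIndependent F (fun t : Fin m => β (Sum.inr t)) :=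
      β.linearIndependent.comp _ Sum.inr_injective
    rw [finrank_span_eq_card hli, Fintype.card_fin]
  have key := Submodule.exists_fun_fin_finrank_span_eq F
    (Set.range (fun j : Fin n => N *ᵥ (Pi.single j 1 : Fin n → F)))
  rw [hrank] at key
  obtain ⟨f, hfmem, -, hfli⟩ := key
  choose J hJ using hfmem
  have hJ' : ∀ t, N *ᵥ (Pi.single (J t) 1 : Fin n → F) = f t := hJ
  obtain ⟨g, hg⟩ : ∃ g : Fin m ⊕ Fin m → (Fin n → F),
      g = Sum.elim (fun t => (Pi.single (J t) 1 : Fin n → F)) f := ⟨_, rfl⟩
  have hNf : ∀ t, N *ᵥ f t = 0 := by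
    intro t
    rw [← hJ' t, Matrix.mulVec_mulVec, hN2, Matrix.zero_mulVec]
  have hfli' := Fintype.linearIndependent_iff.1 hfli
  have hgli : LinearIndependent F g := by
    rw [Fintype.linearIndependent_iff]
    intro c hc
    rw [Fintype.sum_sum_type] at hc
    simp only [hg, Sum.elim_inl, Sum.elim_inr] at hc
    have h1 : ∑ t, c (Sum.inl t) • f t = 0 := by
      have := congrArg (fun v => N *ᵥ v) hc
      simp only [Matrix.mulVec_add, Matrix.mulVec_sum, Matrix.mulVec_smul, hJ', hNf, smul_zero,
        Finset.sum_const_zero, add_zero, Matrix.mulVec_zero] at this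
      exact this
    have h2 := hfli' (fun t => c (Sum.inl t)) h1
    have h3 : ∑ t, c (Sum.inr t) • f t = 0 := by
      simpa [h2] using hc
    have h4 := hfli' (fun t => c (Sum.inr t)) h3
    rintro (t | t)
    · exact h2 t
    · exact h4 t
  have hcard : Fintype.card (Fin m ⊕ Fin m) = Module.finrank F (Fin n → F) :=
    (Module.finrank_eq_card_basis β).symm
  refine ⟨basisOfLinearIndependentOfCardEqFinrank hgli hcard, ?_, ?_⟩
  · intro p
    rw [coe_basisOfLinearIndependentOfCardEqFinrank]
    rcases p with t | t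
    · simp only [hg, next2, Sum.elim_inl, Option.elim_some, Sum.elim_inr]
      exact hJ' t
    · simp only [hg, next2, Sum.elim_inr, Option.elim_none]
      exact hNf t
  · intro p i
    rw [coe_basisOfLinearIndependentOfCardEqFinrank]
    rcases p with t | t
    · simp only [hg, Sum.elim_inl]
      exact single_mem F₀ _ _
    · simp only [hg, Sum.elim_inr]
      rw [← hJ' t, Matrix.mulVec_single_one]
      exact hrat _ _

/-- The determinant of a family with coordinates in the subfield, relative to a standard basis,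
lies in the subfield. -/
theorem det_std_mem {ι : Type*} [Fintype ι] [DecidableEq ι] (F₀ : Subfield F) (e : ι ≃ Fin n)
    (b₀ : Module.Basis ι F (Fin n → F)) (hb₀ : ∀ p, b₀ p = Pi.single (e p) 1)
    (v : ι → Fin n → F) (hv : ∀ p i, v p i ∈ F₀) : b₀.det v ∈ F₀ := by
  have hrepr : ∀ (u : Fin n → F) (p : ι), b₀.repr u p = u (e p) := by
    intro u p
    have e1 : u = ∑ p', u (e p') • b₀ p' := by
      funext l
      simp only [hb₀, Finset.sum_apply, Pi.smul_apply, Pi.single_apply, smul_eq_mul, mul_ite,
        mul_one, mul_zero]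
      rw [Finset.sum_eq_single (e.symm l)]
      · simp
      · intro p' _ hp'
        rw [if_neg]
        intro hl
        apply hp'
        rw [hl, Equiv.symm_apply_apply]
      · intro hl
        exact absurd (Finset.mem_univ _) hl
    conv_lhs => rw [e1]
    rw [map_sum, Finsupp.finsetSum_apply]
    simp [Finsupp.single_apply]
  rw [Module.Basis.det_apply, Matrix.det_apply]
  refine F₀.sum_mem (fun σ _ => ?_)
  rw [Units.smul_def, zsmul_eq_mul]
  refine F₀.mul_mem (F₀.intCast_mem _) (F₀.prod_mem (fun p _ => ?_))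
  rw [Module.Basis.toMatrix_apply, hrepr]
  exact hv _ _

end Cfsg.Agent.Helper7.Jord
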