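import Mathlib
import Cfsg.Agent.Helper7.JordI
import Cfsg.Agent.Helper7.JordG

set_option autoImplicit false

namespace Cfsg.Agent.Helper7.Jord

open Matrix Cfsg.Geo Cfsg.Agent.Helper7.Invol

variable {F : Type*} [Field F] {n : ℕ}

theorem one_add_cube (h3 : (3 : F) = 0) (N : Matrix (Fin n) (Fin n) F) (hN : N * N = 0) :
    (1 + N) * (1 + N) * (1 + N) = 1 := by
  have e : (1 + N) * (1 + N) * (1 + N) = 1 + (N + N + N) + (N * N + N * N + N * N) + N * N * N := by
    noncomm_ring
  have e2 : N + N + N = 0 := by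
    have : N + N + N = (3 : F) • N := by
      rw [show (3 : F) = 1 + 1 + 1 by norm_num, add_smul, add_smul, one_smul]
    rw [this, h3, zero_smul]
  rw [e, e2, hN, Matrix.zero_mul]
  simp

theorem cube_inj (h3 : (3 : F) = 0) (a b : F) (h : a ^ 3 = b ^ 3) : a = b := by
  have e : (a - b) ^ 3 = 0 := by
    linear_combination h + (-a ^ 2 * b + a * b ^ 2) * h3
  exact sub_eq_zero.1 (pow_eq_zero_iff (by norm_num) |>.1 e)

/-- An element whose cube lies in the subfield lies in the subfield. -/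
theorem mem_of_cube_mem [Fintype F] (h3 : (3 : F) = 0) (F₀ : Subfield F) (q₀ : ℕ)
    (hF₀ : Nat.card ↥F₀ = q₀) (hq₀ : 2 ≤ q₀) (lam : F) (h : lam ^ 3 ∈ F₀) : lam ∈ F₀ := by
  apply Cfsg.Agent.Helper7.SubF.mem_of_pow_q hF₀ hq₀
  apply cube_inj h3
  rw [← pow_mul, mul_comm, pow_mul]
  exact Cfsg.Agent.Helper7.SubF.pow_q_of_mem hF₀ h

theorem sq_zero_of_jordan2 {m : ℕ} {N : Matrix (Fin n) (Fin n) F}
    {β : Module.Basis (Fin m ⊕ Fin m) F (Fin n → F)} (h : IsJordanFor (next2 m) N β) :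
    N * N = 0 := by
  apply Matrix.toLin'.injective
  apply LinearMap.ext
  intro v
  rw [Matrix.toLin'_apply, ← Matrix.mulVec_mulVec, mulVec_of_jordan2 h v, Matrix.mulVec_sum]
  simp [Matrix.mulVec_smul, jordan2_inr h]

/-- Transporting a Jordan basis along an intertwining matrix of determinant 1. -/
theorem IsJordanFor.map_of_intertwine {ι : Type*} {next : ι → Option ι}
    {N N' : Matrix (Fin n) (Fin n) F} {β' : Module.Basis ι F (Fin n → F)}
    (h' : IsJordanFor next N' β') (P : Matrix.SpecialLinearGroup (Fin n) F)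
    (hconj : (P : Matrix (Fin n) (Fin n) F) * N' = N * (P : Matrix (Fin n) (Fin n) F)) :
    IsJordanFor next N (β'.map (Matrix.SpecialLinearGroup.toLin' P)) := by
  intro p
  rw [Module.Basis.map_apply, Matrix.SpecialLinearGroup.toLin'_apply, Matrix.toLin'_apply,
    Matrix.mulVec_mulVec, ← hconj, ← Matrix.mulVec_mulVec, h' p]
  rcases next p with _ | p'
  · simp
  · simp only [Option.elim_some]
    rw [Module.Basis.map_apply, Matrix.SpecialLinearGroup.toLin'_apply, Matrix.toLin'_apply]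

theorem det_map_sl {ι : Type*} [Fintype ι] [DecidableEq ι]
    (β β' : Module.Basis ι F (Fin n → F)) (P : Matrix.SpecialLinearGroup (Fin n) F) :
    β.det (β'.map (Matrix.SpecialLinearGroup.toLin' P)) = β.det β' := by
  have e : (β'.map (Matrix.SpecialLinearGroup.toLin' P) : ι → (Fin n → F)) =
      (Matrix.toLin' (P : Matrix (Fin n) (Fin n) F)) ∘ β' := by
    funext p
    rw [Module.Basis.map_apply, Matrix.SpecialLinearGroup.toLin'_apply]
    rfl
  rw [e, Module.Basis.det_comp, LinearMap.det_toLin', P.2, one_mul]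

/-- If a nilpotent matrix with the Jordan basis `w • b₀` is conjugate under the special linear
group to a matrix with entries in `F₀`, and the elements of `F₀` are squares, then the product of
`w` is a square. -/
theorem isSquare_of_rational_conj (F₀ : Subfield F) (hsq : ∀ c ∈ F₀, IsSquare c) {m : ℕ}
    (e : Fin m ⊕ Fin m ≃ Fin n) (b₀ : Module.Basis (Fin m ⊕ Fin m) F (Fin n → F))
    (hb₀ : ∀ p, b₀ p = Pi.single (e p) 1) (w : Fin m ⊕ Fin m → Fˣ)
    (N : Matrix (Fin n) (Fin n) F) (hN : IsJordanFor (next2 m) N (b₀.unitsSMul w))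
    (P : Matrix.SpecialLinearGroup (Fin n) F) (N' : Matrix (Fin n) (Fin n) F)
    (hrat : ∀ i j, N' i j ∈ F₀)
    (hconj : (P : Matrix (Fin n) (Fin n) F) * N' = N * (P : Matrix (Fin n) (Fin n) F)) :
    IsSquare (∏ p, (w p : F)) := by
  classical
  have hPiP : ((P⁻¹ : Matrix.SpecialLinearGroup (Fin n) F) : Matrix (Fin n) (Fin n) F) *
      (P : Matrix (Fin n) (Fin n) F) = 1 := by
    rw [← Matrix.SpecialLinearGroup.coe_mul, inv_mul_cancel, Matrix.SpecialLinearGroup.coe_one]
  have hPPi : (P : Matrix (Fin n) (Fin n) F) *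
      ((P⁻¹ : Matrix.SpecialLinearGroup (Fin n) F) : Matrix (Fin n) (Fin n) F) = 1 := by
    rw [← Matrix.SpecialLinearGroup.coe_mul, mul_inv_cancel, Matrix.SpecialLinearGroup.coe_one]
  have hconj' : ((P⁻¹ : Matrix.SpecialLinearGroup (Fin n) F) : Matrix (Fin n) (Fin n) F) * N =
      N' * ((P⁻¹ : Matrix.SpecialLinearGroup (Fin n) F) : Matrix (Fin n) (Fin n) F) := by
    calc _ = ((P⁻¹ : Matrix.SpecialLinearGroup (Fin n) F) : Matrix (Fin n) (Fin n) F) *
          (N * (P : Matrix (Fin n) (Fin n) F)) *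
          ((P⁻¹ : Matrix.SpecialLinearGroup (Fin n) F) : Matrix (Fin n) (Fin n) F) := by
          rw [Matrix.mul_assoc, Matrix.mul_assoc, hPPi, Matrix.mul_one]
      _ = _ := by
          rw [← hconj, ← Matrix.mul_assoc, hPiP, Matrix.one_mul]
  have hβ'' := hN.map_of_intertwine P⁻¹ hconj'
  have hN'2 : N' * N' = 0 := sq_zero_of_jordan2 hβ''
  obtain ⟨β', hβ', hβ'rat⟩ := exists_rational_jordan2 F₀ hrat hN'2 hβ''
  have hβ'P := hβ'.map_of_intertwine P hconj
  obtain ⟨c, hc⟩ := sq_of_jordan2 hβ'P hN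
  rw [det_map_sl, det_unitsSMul_left] at hc
  have hd := det_std_mem F₀ e b₀ hb₀ β' hβ'rat
  obtain ⟨s, hs⟩ := hsq _ hd
  have hunit : IsUnit ((b₀.unitsSMul w).det β') := Module.Basis.isUnit_det _ _
  rw [det_unitsSMul_left] at hunit
  have hc0 : c ≠ 0 := by
    rintro rfl
    rw [mul_zero] at hc
    rw [hc] at hunit
    exact not_isUnit_zero hunit
  have hw0 : (∏ p, (w p : F)) ≠ 0 := by
    rw [Finset.prod_ne_zero_iff]
    intro p _
    exact (w p).ne_zero
  refine ⟨s / c, ?_⟩
  rw [hs] at hc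
  field_simp
  field_simp at hc
  linear_combination -hc

end Cfsg.Agent.Helper7.Jord
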