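import Mathlib
import Cfsg.Agent.Helper7.JordJ
import Cfsg.Agent.Helper7.InvolZB

set_option autoImplicit false

namespace Cfsg.Agent.Helper7.Jord

open Matrix Cfsg.Geo Cfsg.Agent.Helper7.Invol

variable {F : Type*} [Field F] {n : ℕ}

/-- In even dimension over a field of characteristic 3 with a subfield of index 2, there is an
element of order 3 that is not conjugate into the subfield group. -/
theorem exists_bad_char3 [Fintype F] (h3 : (3 : F) = 0) (F₀ : Subfield F) (q₀ : ℕ)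
    (hF₀ : Nat.card ↥F₀ = q₀) (hq : Fintype.card F = q₀ ^ 2) {m : ℕ} (hm : 0 < m)
    (e : Fin m ⊕ Fin m ≃ Fin n) :
    ∃ x : Matrix.SpecialLinearGroup (Fin n) F,
      ((x ^ 3 : Matrix.SpecialLinearGroup (Fin n) F) : Matrix (Fin n) (Fin n) F) =
        (1 : F) • (1 : Matrix (Fin n) (Fin n) F) ∧
      (∀ z : F, (x : Matrix (Fin n) (Fin n) F) ≠ z • (1 : Matrix (Fin n) (Fin n) F)) ∧
      ∀ P : Matrix.SpecialLinearGroup (Fin n) F, ¬ (P⁻¹ * x * P ∈
        ((subfieldSubgroup F₀ 1).comap (Matrix.SpecialLinearGroup.toGL :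
          Matrix.SpecialLinearGroup (Fin n) F →* GL (Fin n) F))) := by
  classical
  have h2 : (2 : F) ≠ 0 := by
    intro h
    have : (1 : F) = 0 := by linear_combination h3 - h
    exact one_ne_zero this
  obtain ⟨ν, hν⟩ := FiniteField.exists_nonsquare (ringChar_ne_two_of h2)
  have hν0 : ν ≠ 0 := by
    rintro rfl
    exact hν ⟨0, by simp⟩
  have hq₀ : 2 ≤ q₀ := by
    have h1 := Fintype.one_lt_card (α := F)
    rw [hq] at h1
    rcases Nat.lt_or_ge q₀ 2 with h | h
    · interval_cases q₀ <;> simp at h1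
    · exact h
  have hsq : ∀ c ∈ F₀, IsSquare c := fun c hc => isSquare_of_mem_subfield h2 F₀ q₀ hF₀ hq c hc
  obtain ⟨b₀, hb₀⟩ := exists_std_basis (F := F) e
  obtain ⟨w, hw⟩ : ∃ w : Fin m ⊕ Fin m → Fˣ, w = scale1 (Sum.inl ⟨0, hm⟩) (Units.mk0 ν hν0) :=
    ⟨_, rfl⟩
  have hwprod : ∏ p, (w p : F) = ν := by
    rw [hw, prod_scale1]
    rfl
  obtain ⟨N, hNdef⟩ : ∃ N : Matrix (Fin n) (Fin n) F,
      N = jordanMat (next2 m) (b₀.unitsSMul w) := ⟨_, rfl⟩
  have hN : IsJordanFor (next2 m) N (b₀.unitsSMul w) := by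
    rw [hNdef]
    exact isJordanFor_jordanMat _ _
  have hN2 := sq_zero_of_jordan2 hN
  have hX3 := one_add_cube h3 N hN2
  have hdet : (1 + N).det = 1 := by
    apply cube_inj h3
    rw [one_pow, pow_succ, pow_two, ← Matrix.det_mul, ← Matrix.det_mul, hX3, Matrix.det_one]
  obtain ⟨x, hx⟩ : ∃ x : Matrix.SpecialLinearGroup (Fin n) F,
      (x : Matrix (Fin n) (Fin n) F) = 1 + N := ⟨⟨1 + N, hdet⟩, rfl⟩
  refine ⟨x, ?_, ?_, ?_⟩
  · rw [Matrix.SpecialLinearGroup.coe_pow, one_smul, hx, pow_succ, pow_two, hX3]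
  · intro z hz
    rw [hx] at hz
    have hNz : N = (z - 1) • (1 : Matrix (Fin n) (Fin n) F) := by
      rw [sub_smul, one_smul, ← hz]
      abel
    have h1 := jordan2_inl hN ⟨0, hm⟩
    have h2' := jordan2_inr hN ⟨0, hm⟩
    rw [hNz, Matrix.smul_mulVec, Matrix.one_mulVec] at h1 h2'
    have hne := (b₀.unitsSMul w).ne_zero (Sum.inr ⟨0, hm⟩)
    rcases smul_eq_zero.1 h2' with h0 | h0
    · rw [h0, zero_smul] at h1
      exact hne h1.symm
    · exact hne h0
  · intro P hP
    rw [Subgroup.mem_comap] at hP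
    obtain ⟨lam, hlam, hrat⟩ := exists_rat_of_mem_subfield F₀ _ hP
    obtain ⟨Y, hY⟩ : ∃ Y : Matrix (Fin n) (Fin n) F,
        Y = ((Matrix.SpecialLinearGroup.toGL (P⁻¹ * x * P) : GL (Fin n) F) :
          Matrix (Fin n) (Fin n) F) := ⟨_, rfl⟩
    rw [← hY] at hrat
    have hPiP : ((P⁻¹ : Matrix.SpecialLinearGroup (Fin n) F) : Matrix (Fin n) (Fin n) F) *
        (P : Matrix (Fin n) (Fin n) F) = 1 := by
      rw [← Matrix.SpecialLinearGroup.coe_mul, inv_mul_cancel, Matrix.SpecialLinearGroup.coe_one]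
    have hPPi : (P : Matrix (Fin n) (Fin n) F) *
        ((P⁻¹ : Matrix.SpecialLinearGroup (Fin n) F) : Matrix (Fin n) (Fin n) F) = 1 := by
      rw [← Matrix.SpecialLinearGroup.coe_mul, mul_inv_cancel, Matrix.SpecialLinearGroup.coe_one]
    obtain ⟨N', hN'⟩ : ∃ N' : Matrix (Fin n) (Fin n) F,
        N' = ((P⁻¹ : Matrix.SpecialLinearGroup (Fin n) F) : Matrix (Fin n) (Fin n) F) * N *
          (P : Matrix (Fin n) (Fin n) F) := ⟨_, rfl⟩
    have eY : Y = 1 + N' := by
      rw [hY, hN']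
      change ((P⁻¹ * x * P :
        Matrix.SpecialLinearGroup (Fin n) F) : Matrix (Fin n) (Fin n) F) = _
      rw [Matrix.SpecialLinearGroup.coe_mul, Matrix.SpecialLinearGroup.coe_mul, hx]
      rw [Matrix.mul_add, Matrix.add_mul, Matrix.mul_one, hPiP]
    have hconj : (P : Matrix (Fin n) (Fin n) F) * N' = N * (P : Matrix (Fin n) (Fin n) F) := by
      rw [hN', ← Matrix.mul_assoc, ← Matrix.mul_assoc, hPPi, Matrix.one_mul]
    have hN'2 : N' * N' = 0 := by
      calc N' * N' = ((P⁻¹ : Matrix.SpecialLinearGroup (Fin n) F) : Matrix (Fin n) (Fin n) F) *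
            (N * ((P : Matrix (Fin n) (Fin n) F) *
              ((P⁻¹ : Matrix.SpecialLinearGroup (Fin n) F) : Matrix (Fin n) (Fin n) F)) * N) *
            (P : Matrix (Fin n) (Fin n) F) := by
            rw [hN']
            simp only [Matrix.mul_assoc]
        _ = 0 := by
            rw [hPPi, Matrix.mul_one, hN2, Matrix.mul_zero, Matrix.zero_mul]
    have hY3 : Y * Y * Y = 1 := by
      rw [eY]
      exact one_add_cube h3 N' hN'2
    have i₁ : Fin n := e (Sum.inl ⟨0, hm⟩)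
    have hlam3 : lam ^ 3 ∈ F₀ := by
      have h1 : ((lam • Y) * (lam • Y) * (lam • Y)) i₁ i₁ ∈ F₀ := by
        rw [Matrix.mul_apply]
        refine F₀.sum_mem (fun l _ => F₀.mul_mem ?_ (hrat _ _))
        rw [Matrix.mul_apply]
        exact F₀.sum_mem (fun l' _ => F₀.mul_mem (hrat _ _) (hrat _ _))
      have e3 : (lam • Y) * (lam • Y) * (lam • Y) = (lam ^ 3) • (1 : Matrix (Fin n) (Fin n) F) := by
        simp only [Matrix.smul_mul, Matrix.mul_smul, smul_smul]
        rw [hY3]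
        congr 1
        ring
      rw [e3] at h1
      simpa using h1
    have hlamF₀ := mem_of_cube_mem h3 F₀ q₀ hF₀ hq₀ lam hlam3
    have hratN' : ∀ i j, N' i j ∈ F₀ := by
      intro i j
      have e1 : N' i j = lam⁻¹ * (lam • Y) i j - (1 : Matrix (Fin n) (Fin n) F) i j := by
        rw [eY, Matrix.smul_apply, Matrix.add_apply, smul_eq_mul]
        field_simp
        ring
      rw [e1]
      refine F₀.sub_mem (F₀.mul_mem (F₀.inv_mem hlamF₀) (hrat i j)) ?_
      rw [Matrix.one_apply]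
      split_ifs
      · exact F₀.one_mem
      · exact F₀.zero_mem
    have := isSquare_of_rational_conj F₀ hsq e b₀ hb₀ w N hN P N' hratN' hconj
    rw [hwprod] at this
    exact hν this

end Cfsg.Agent.Helper7.Jord
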