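import Mathlib
import Cfsg.Agent.Helper7.JordK
import Cfsg.Agent.Helper7.InvolZC

set_option autoImplicit false

namespace Cfsg.Agent.Helper7.Jord

open Matrix Cfsg.Geo Cfsg.Agent.Helper7.Invol

variable {F : Type*} [Field F] {n : ℕ}

theorem exists_cube_root_char3 [Finite F] (h3 : (3 : F) = 0) (z : F) : ∃ μ : F, μ ^ 3 = z := by
  have hinj : Function.Injective (fun a : F => a ^ 3) := fun a b h => cube_inj h3 a b h
  exact Finite.surjective_of_injective hinj z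

/-- For a subfield of odd index in a finite field of odd order, every non-zero element is the
product of an element of the subfield and a square. -/
theorem exists_decomp [Fintype F] (h2 : (2 : F) ≠ 0) (F₀ : Subfield F) (q₀ k : ℕ)
    (hF₀ : Nat.card ↥F₀ = q₀) (hq : Fintype.card F = q₀ ^ k) (hk : Odd k) (δ : F) (hδ : δ ≠ 0) :
    ∃ δ₀ ∈ F₀, δ₀ ≠ 0 ∧ ∃ ε : F, ε ≠ 0 ∧ δ = δ₀ * ε ^ 2 := by
  classical
  have hodd : Fintype.card F % 2 = 1 := by
    have := two_eq_zero_iff_card (F := F)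
    by_contra h
    exact h2 (this.2 (by omega))
  have hq₀odd : q₀ % 2 = 1 := by
    rw [hq, Nat.pow_mod] at hodd
    rcases Nat.mod_two_eq_zero_or_one q₀ with h | h
    · rw [h] at hodd
      have hk0 : k ≠ 0 := by rcases hk with ⟨t, rfl⟩; omega
      rw [zero_pow hk0] at hodd
      simp at hodd
    · exact h
  have hq₀2 : 2 ≤ q₀ := by
    have h1 := Fintype.one_lt_card (α := F)
    rw [hq] at h1
    rcases Nat.lt_or_ge q₀ 2 with h | h
    · have : q₀ = 1 := by omega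
      rw [this, one_pow] at h1
      omega
    · exact h
  obtain ⟨M, hM⟩ : ∃ M, M = ∑ l ∈ Finset.range k, q₀ ^ l := ⟨_, rfl⟩
  have hModd : Odd M := hM ▸ geom_odd q₀ k (Nat.odd_iff.2 hq₀odd) hk
  have hfac : q₀ ^ k - 1 = M * (q₀ - 1) := hM ▸ pow_sub_one_factor q₀ k (by omega)
  obtain ⟨t, ht⟩ := hModd
  have h1 : δ ^ (q₀ ^ k - 1) = 1 := by
    rw [← hq]
    exact FiniteField.pow_card_sub_one_eq_one δ hδ
  have hδ₀ : (δ ^ M) ^ q₀ = δ ^ M := by
    rw [← pow_mul]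
    have e : M * q₀ = (q₀ ^ k - 1) + M := by
      rw [hfac]
      obtain ⟨y, rfl⟩ : ∃ y, q₀ = y + 1 := ⟨q₀ - 1, by omega⟩
      rw [Nat.add_sub_cancel]
      ring
    rw [e, pow_add, h1, one_mul]
  refine ⟨δ ^ M, Cfsg.Agent.Helper7.SubF.mem_of_pow_q hF₀ hq₀2 hδ₀, pow_ne_zero _ hδ,
    (δ ^ t)⁻¹, inv_ne_zero (pow_ne_zero _ hδ), ?_⟩
  rw [ht, pow_succ, inv_pow, ← pow_mul, mul_comm t 2]
  have : δ ^ (2 * t) ≠ 0 := pow_ne_zero _ hδ
  field_simp

end Cfsg.Agent.Helper7.Jord
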