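import Mathlib
import Cfsg.Agent.Helper6.KuDefs

/-!
# S4607, piece K8: the structure theorem for the block `A ε` of a central idempotent `ε`

`h7_ku_structure_under_of` proves the statement of the stub `ku_structure_under` from the statement
of `ku_structure` (K7), which is passed as a hypothesis (for algebras in the universe of `A`).
The bridge is the quotient `A ⧸ A (1 - ε)`.
-/

set_option autoImplicit false

namespace Cfsg.Agent.Helper6.Ku

universe uF uA

section under

variable {F : Type uF} [Field F] {A : Type uA} [Ring A] [Algebra F A]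

/-- the ideal `A (1 - ε)` -/
def h7_I (ε : A) : Ideal A := Ideal.span {1 - ε}

theorem h7_mem_I {ε : A} (hε : IsIdempotentElem ε) (x : A) : x ∈ h7_I ε ↔ x * ε = 0 := by
  unfold h7_I
  rw [Ideal.mem_span_singleton']
  constructor
  · rintro ⟨a, rfl⟩
    rw [mul_assoc, sub_mul, one_mul, hε.eq, sub_self, mul_zero]
  · intro h
    exact ⟨x, by rw [mul_sub, mul_one, h, sub_zero]⟩

theorem h7_I_twoSided {ε : A} (hε : IsIdempotentElem ε) (hεc : ∀ x : A, ε * x = x * ε) :
    (h7_I ε).IsTwoSided := by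
  refine ⟨?_⟩
  intro a b ha
  rw [h7_mem_I hε] at ha ⊢
  rw [mul_assoc, ← hεc, ← mul_assoc, ha, zero_mul]

/-- K8 from K7 (passed as a hypothesis). -/
theorem h7_ku_structure_under_of [IsAlgClosed F] [FiniteDimensional F A]
    (K7 : ∀ (B : Type uA) [Ring B] [Algebra F B] [FiniteDimensional F B] [Nontrivial B]
      (lam : B →ₗ[F] F), IsSymForm F lam →
      (∀ e : B, IsIdempotentElem e → (∀ x : B, e * x = x * e) → e = 0 ∨ e = 1) →
      Module.finrank F (Subalgebra.center F B) ≤ 2 →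
      ∃ (n c : ℕ) (i : B), IsIdempotentElem i ∧ c ≤ 2 ∧ Module.finrank F B = n ^ 2 * c ∧
        Module.finrank F (leftIdeal F i) = n * c)
    (lam : A →ₗ[F] F) (hlam : IsSymForm F lam)
    (ε : A) (hε : IsIdempotentElem ε) (hεc : ∀ x : A, ε * x = x * ε) (hε0 : ε ≠ 0)
    (hprim : ∀ f : A, IsIdempotentElem f → (∀ x : A, f * x = x * f) → f * ε = f →
      f = 0 ∨ f = ε)
    (hZ : Module.finrank F (centerUnder F ε) ≤ 2) :
    ∃ (n c : ℕ) (i : A), IsIdempotentElem i ∧ i * ε = i ∧ c ≤ 2 ∧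
      Module.finrank F (leftIdeal F ε) = n ^ 2 * c ∧
      Module.finrank F (leftIdeal F i) = n * c := by
  have : (h7_I ε).IsTwoSided := h7_I_twoSided hε hεc
  let π : A →ₐ[F] (A ⧸ h7_I ε) := Ideal.Quotient.mkₐ F (h7_I ε)
  have hπ0 : ∀ x, π x = 0 ↔ x * ε = 0 := by
    intro x
    rw [← h7_mem_I hε]
    exact Ideal.Quotient.eq_zero_iff_mem
  have hπsurj : Function.Surjective π := Ideal.Quotient.mkₐ_surjective F _
  have hπε : π ε = 1 := by
    have h1 : π (1 - ε) = 0 := by
      rw [hπ0, sub_mul, one_mul, hε.eq, sub_self]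
    rw [map_sub, map_one, sub_eq_zero] at h1
    exact h1.symm
  have hπxε : ∀ x, π (x * ε) = π x := by
    intro x; rw [map_mul, hπε, mul_one]
  -- the linear isomorphism `A ε ≃ A ⧸ A(1-ε)`
  let ψ : leftIdeal F ε →ₗ[F] (A ⧸ h7_I ε) := π.toLinearMap.domRestrict (leftIdeal F ε)
  have hψ : ∀ x : leftIdeal F ε, ψ x = π x.1 := fun x => rfl
  have hψinj : Function.Injective ψ := by
    rw [injective_iff_map_eq_zero]
    intro x hx
    rw [hψ, hπ0] at hx
    obtain ⟨y, hy⟩ := (mem_leftIdeal F).1 x.2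
    apply Subtype.ext
    rw [Submodule.coe_zero, ← hy, ← hε.eq, ← mul_assoc, hy]
    exact hx
  have hψsurj : Function.Surjective ψ := by
    intro b
    obtain ⟨x, rfl⟩ := hπsurj b
    exact ⟨⟨x * ε, (mem_leftIdeal F).2 ⟨x, rfl⟩⟩, hπxε x⟩
  let Ψ : leftIdeal F ε ≃ₗ[F] (A ⧸ h7_I ε) := LinearEquiv.ofBijective ψ ⟨hψinj, hψsurj⟩
  let s : (A ⧸ h7_I ε) →ₗ[F] A := (leftIdeal F ε).subtype ∘ₗ Ψ.symm.toLinearMap
  have hs : ∀ b, s b = (Ψ.symm b).1 := fun b => rfl
  have hπs : ∀ b, π (s b) = b := by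
    intro b
    have h := Ψ.apply_symm_apply b
    rw [hs]
    exact h
  have hsπ : ∀ x, s (π x) = x * ε := by
    intro x
    have h : Ψ ⟨x * ε, (mem_leftIdeal F).2 ⟨x, rfl⟩⟩ = π x := hπxε x
    rw [hs, ← h, LinearEquiv.symm_apply_apply]
  have hsε : ∀ b, s b * ε = s b := by
    intro b
    obtain ⟨x, rfl⟩ := hπsurj b
    rw [hsπ, mul_assoc, hε.eq]
  have hεs : ∀ b, ε * s b = s b := by
    intro b; rw [hεc, hsε]
  have hsmul : ∀ b b', s (b * b') = s b * s b' := by
    intro b b'
    obtain ⟨x, rfl⟩ := hπsurj b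
    obtain ⟨x', rfl⟩ := hπsurj b'
    rw [← map_mul, hsπ, hsπ, hsπ, mul_assoc x ε, ← mul_assoc ε x', hεc x', mul_assoc x' ε,
      hε.eq, mul_assoc]
  have hsx : ∀ b (x : A), s b * x = s (b * π x) := by
    intro b x
    rw [hsmul, hsπ, ← hεc, ← mul_assoc, hsε]
  have hxs : ∀ b (x : A), x * s b = s (π x * b) := by
    intro b x
    rw [hsmul, hsπ, mul_assoc, hεs]
  have hsinj : Function.Injective s := by
    intro b b' h
    rw [← hπs b, ← hπs b', h]
  -- the transported form
  let lam' : (A ⧸ h7_I ε) →ₗ[F] F := lam ∘ₗ s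
  have hlam' : IsSymForm F lam' := by
    refine ⟨?_, ?_⟩
    · intro b b'
      change lam (s (b * b')) = lam (s (b' * b))
      rw [hsmul, hsmul, hlam.symm]
    · intro b hb
      have h0 : s b = 0 := by
        apply hlam.nondeg
        intro y
        rw [hsx]
        exact hb (π y)
      rw [← hπs b, h0, map_zero]
  have : Nontrivial (A ⧸ h7_I ε) := by
    refine ⟨⟨1, 0, ?_⟩⟩
    rw [← hπε]
    intro h
    rw [hπ0, hε.eq] at h
    exact hε0 h
  have hprim' : ∀ e : A ⧸ h7_I ε, IsIdempotentElem e → (∀ x : A ⧸ h7_I ε, e * x = x * e) →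
      e = 0 ∨ e = 1 := by
    intro e he hec
    have h1 : IsIdempotentElem (s e) := by
      unfold IsIdempotentElem
      rw [← hsmul, he.eq]
    have h2 : ∀ x : A, s e * x = x * s e := by
      intro x
      rw [hsx, hxs, hec]
    rcases hprim (s e) h1 h2 (hsε e) with h | h
    · left
      rw [← hπs e, h, map_zero]
    · right
      rw [← hπs e, h, hπε]
  have hZ' : Module.finrank F (Subalgebra.center F (A ⧸ h7_I ε)) ≤ 2 := by
    refine le_trans ?_ hZ
    let g : Subalgebra.center F (A ⧸ h7_I ε) →ₗ[F] centerUnder F ε :=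
      LinearMap.codRestrict (centerUnder F ε)
        (s ∘ₗ (Subalgebra.center F (A ⧸ h7_I ε)).val.toLinearMap) (by
          intro z
          refine (mem_centerUnder F).2 ⟨?_, hsε _⟩
          intro x
          change s z.1 * x = x * s z.1
          rw [hsx, hxs]
          congr 1
          exact ((Subalgebra.mem_center_iff.1 z.2) (π x)).symm)
    apply LinearMap.finrank_le_finrank_of_injective (f := g)
    intro z z' h
    apply Subtype.ext
    have h' : (g z : A) = (g z' : A) := by rw [h]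
    exact hsinj h'
  obtain ⟨n, c, i', hi', hc, h1, h2⟩ := K7 (A ⧸ h7_I ε) lam' hlam' hprim' hZ'
  refine ⟨n, c, s i', ?_, hsε i', hc, ?_, ?_⟩
  · unfold IsIdempotentElem
    rw [← hsmul, hi'.eq]
  · rw [← h1]
    exact Ψ.finrank_eq
  · rw [← h2]
    let φ : leftIdeal F (s i') →ₗ[F] (A ⧸ h7_I ε) :=
      π.toLinearMap.domRestrict (leftIdeal F (s i'))
    have hφ : ∀ x : leftIdeal F (s i'), φ x = π x.1 := fun x => rfl
    have hφinj : Function.Injective φ := by
      rw [injective_iff_map_eq_zero]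
      intro x hx
      rw [hφ, hπ0] at hx
      obtain ⟨y, hy⟩ := (mem_leftIdeal F).1 x.2
      apply Subtype.ext
      rw [Submodule.coe_zero, ← hy, ← hsε i', ← mul_assoc, hy]
      exact hx
    have hrange : LinearMap.range φ = leftIdeal F i' := by
      ext b
      rw [LinearMap.mem_range, mem_leftIdeal]
      constructor
      · rintro ⟨x, rfl⟩
        obtain ⟨y, hy⟩ := (mem_leftIdeal F).1 x.2
        refine ⟨π y, ?_⟩
        rw [hφ, ← hy, map_mul, hπs]
      · rintro ⟨b', rfl⟩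
        obtain ⟨y, rfl⟩ := hπsurj b'
        refine ⟨⟨y * s i', (mem_leftIdeal F).2 ⟨y, rfl⟩⟩, ?_⟩
        rw [hφ, map_mul, hπs]
    rw [← hrange]
    exact (LinearMap.finrank_range_of_inj hφinj).symm

end under

end Cfsg.Agent.Helper6.Ku
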