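import Mathlib
import Cfsg.Agent.Helper7.Chain

set_option autoImplicit false

/-!
Data for an explicit homomorphism from `SL_2(7)` onto `SL_3(2)` with kernel `±1`.
-/

namespace Cfsg.Agent.Helper7.L27

/-- Two by two matrices over `ZMod 7` as tuples. -/
abbrev T2 := ZMod 7 × ZMod 7 × ZMod 7 × ZMod 7

/-- Three by three matrices over `ZMod 2` as tuples. -/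
abbrev T3 := ZMod 2 × ZMod 2 × ZMod 2 × ZMod 2 × ZMod 2 × ZMod 2 × ZMod 2 × ZMod 2 × ZMod 2

set_option synthInstance.maxSize 4000 in
set_option synthInstance.maxHeartbeats 400000 in
instance decEqT3 : DecidableEq T3 := inferInstance

/-- The identity. -/
def one2 : T2 := (1, 0, 0, 1)
/-- Minus the identity. -/
def negone2 : T2 := (6, 0, 0, 6)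

/-- The product. -/
def mulT2 (x y : T2) : T2 :=
  (x.1 * y.1 + x.2.1 * y.2.2.1, x.1 * y.2.1 + x.2.1 * y.2.2.2,
   x.2.2.1 * y.1 + x.2.2.2 * y.2.2.1, x.2.2.1 * y.2.1 + x.2.2.2 * y.2.2.2)

/-- The determinant. -/
def detT2 (x : T2) : ZMod 7 := x.1 * x.2.2.2 - x.2.1 * x.2.2.1

/-- The identity. -/
def one3 : T3 := (1, 0, 0, 0, 1, 0, 0, 0, 1)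

/-- Entry access. -/
def e3 (x : T3) : Fin 3 → Fin 3 → ZMod 2 :=
  ![![x.1, x.2.1, x.2.2.1], ![x.2.2.2.1, x.2.2.2.2.1, x.2.2.2.2.2.1],
    ![x.2.2.2.2.2.2.1, x.2.2.2.2.2.2.2.1, x.2.2.2.2.2.2.2.2]]

/-- The product. -/
def mulT3 (x y : T3) : T3 :=
  (x.1 * y.1 + x.2.1 * y.2.2.2.1 + x.2.2.1 * y.2.2.2.2.2.2.1,
   x.1 * y.2.1 + x.2.1 * y.2.2.2.2.1 + x.2.2.1 * y.2.2.2.2.2.2.2.1,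
   x.1 * y.2.2.1 + x.2.1 * y.2.2.2.2.2.1 + x.2.2.1 * y.2.2.2.2.2.2.2.2,
   x.2.2.2.1 * y.1 + x.2.2.2.2.1 * y.2.2.2.1 + x.2.2.2.2.2.1 * y.2.2.2.2.2.2.1,
   x.2.2.2.1 * y.2.1 + x.2.2.2.2.1 * y.2.2.2.2.1 + x.2.2.2.2.2.1 * y.2.2.2.2.2.2.2.1,
   x.2.2.2.1 * y.2.2.1 + x.2.2.2.2.1 * y.2.2.2.2.2.1 + x.2.2.2.2.2.1 * y.2.2.2.2.2.2.2.2,
   x.2.2.2.2.2.2.1 * y.1 + x.2.2.2.2.2.2.2.1 * y.2.2.2.1 + x.2.2.2.2.2.2.2.2 * y.2.2.2.2.2.2.1,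
   x.2.2.2.2.2.2.1 * y.2.1 + x.2.2.2.2.2.2.2.1 * y.2.2.2.2.1 + x.2.2.2.2.2.2.2.2 * y.2.2.2.2.2.2.2.1,
   x.2.2.2.2.2.2.1 * y.2.2.1 + x.2.2.2.2.2.2.2.1 * y.2.2.2.2.2.1 + x.2.2.2.2.2.2.2.2 * y.2.2.2.2.2.2.2.2)

/-- The determinant. -/
def detT3 (x : T3) : ZMod 2 :=
  x.1 * x.2.2.2.2.1 * x.2.2.2.2.2.2.2.2 - x.1 * x.2.2.2.2.2.1 * x.2.2.2.2.2.2.2.1 - x.2.1 * x.2.2.2.1 * x.2.2.2.2.2.2.2.2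
    + x.2.1 * x.2.2.2.2.2.1 * x.2.2.2.2.2.2.1 + x.2.2.1 * x.2.2.2.1 * x.2.2.2.2.2.2.2.1 - x.2.2.1 * x.2.2.2.2.1 * x.2.2.2.2.2.2.1

/-- The first generator. -/
def gA : T2 := (1, 1, 0, 1)
/-- The second generator. -/
def gB : T2 := (1, 0, 1, 1)
/-- The image of the first generator. -/
def fA : T3 := (0, 0, 1, 0, 1, 1, 1, 1, 0)
/-- The image of the second generator. -/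
def fB : T3 := (0, 0, 1, 1, 0, 1, 0, 1, 0)

/-- Elements, their parents in a breadth first search (in reverse order), and their images. -/
def tab : List (T2 × T2 × T3) := [
  ((6, 0, 2, 6), (6, 1, 2, 4), (1, 1, 1, 1, 0, 0, 1, 1, 0)),
  ((6, 2, 0, 6), (4, 2, 1, 6), (1, 0, 1, 0, 0, 1, 1, 1, 1)),
  ((2, 3, 6, 6), (2, 1, 6, 0), (1, 1, 1, 0, 0, 1, 0, 1, 1)),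
  ((6, 4, 6, 3), (2, 4, 3, 3), (0, 1, 1, 0, 0, 1, 1, 1, 1)),
  ((2, 6, 3, 6), (2, 4, 3, 3), (1, 1, 1, 0, 0, 1, 1, 0, 1)),
  ((4, 5, 5, 3), (4, 1, 5, 5), (0, 1, 0, 1, 0, 0, 1, 1, 1)),
  ((5, 5, 6, 2), (5, 0, 6, 3), (1, 0, 0, 0, 1, 0, 0, 1, 1)),
  ((6, 6, 4, 3), (6, 0, 4, 6), (1, 1, 1, 1, 0, 0, 1, 0, 1)),
  ((3, 5, 2, 6), (3, 2, 2, 4), (0, 1, 1, 0, 0, 1, 1, 0, 0)),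
  ((6, 3, 6, 2), (3, 3, 4, 2), (1, 0, 1, 1, 1, 0, 1, 0, 0)),
  ((6, 0, 6, 6), (6, 0, 0, 6), (0, 0, 1, 1, 0, 1, 0, 1, 0)),
  ((2, 6, 5, 5), (2, 4, 5, 0), (1, 0, 1, 0, 1, 0, 0, 0, 1)),
  ((3, 4, 6, 6), (6, 4, 0, 6), (1, 0, 1, 1, 1, 0, 1, 1, 1)),
  ((3, 6, 4, 6), (4, 6, 5, 6), (0, 1, 1, 1, 0, 0, 0, 1, 0)),
  ((1, 6, 6, 2), (2, 6, 4, 2), (0, 0, 1, 1, 0, 0, 1, 1, 1)),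
  ((3, 1, 6, 0), (3, 5, 6, 1), (0, 1, 1, 0, 0, 1, 1, 0, 1)),
  ((6, 6, 0, 6), (0, 6, 1, 6), (0, 0, 1, 0, 1, 1, 1, 1, 0)),
  ((0, 1, 6, 3), (6, 1, 3, 3), (1, 0, 1, 0, 1, 0, 0, 1, 1)),
  ((6, 0, 3, 6), (6, 1, 3, 3), (0, 1, 1, 1, 1, 0, 1, 1, 1)),
  ((4, 1, 2, 6), (4, 4, 2, 4), (1, 0, 1, 0, 1, 1, 1, 1, 1)),
  ((6, 3, 0, 6), (3, 3, 1, 6), (0, 1, 1, 1, 0, 0, 1, 0, 1)),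
  ((3, 6, 1, 0), (3, 3, 1, 6), (1, 1, 1, 0, 1, 0, 0, 1, 1)),
  ((2, 6, 6, 1), (3, 6, 5, 1), (0, 1, 1, 1, 1, 1, 1, 1, 0)),
  ((3, 2, 5, 6), (3, 6, 5, 1), (1, 1, 1, 1, 0, 1, 1, 0, 0)),
  ((6, 1, 2, 4), (5, 1, 5, 4), (1, 0, 1, 1, 1, 1, 0, 0, 1)),
  ((5, 6, 5, 2), (5, 1, 5, 4), (0, 1, 1, 1, 0, 1, 0, 0, 1)),
  ((2, 5, 6, 5), (4, 5, 1, 5), (1, 0, 0, 1, 1, 0, 1, 0, 1)),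
  ((4, 2, 1, 6), (4, 5, 1, 5), (0, 1, 0, 1, 0, 0, 0, 1, 1)),
  ((3, 5, 5, 4), (5, 5, 1, 4), (1, 0, 0, 1, 1, 1, 0, 0, 1)),
  ((6, 2, 5, 3), (4, 2, 2, 3), (0, 0, 1, 1, 1, 0, 0, 1, 0)),
  ((6, 2, 1, 4), (6, 3, 1, 3), (1, 0, 0, 1, 1, 1, 1, 0, 1)),
  ((6, 5, 2, 3), (6, 6, 2, 1), (0, 0, 1, 1, 1, 0, 0, 1, 1)),
  ((6, 6, 3, 2), (0, 6, 1, 2), (1, 0, 1, 0, 1, 0, 1, 0, 0)),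
  ((0, 6, 1, 3), (0, 6, 1, 2), (0, 1, 1, 1, 1, 0, 0, 1, 0)),
  ((2, 1, 6, 0), (1, 1, 6, 0), (1, 0, 1, 1, 0, 0, 0, 1, 0)),
  ((1, 2, 6, 6), (1, 1, 6, 0), (0, 1, 1, 0, 1, 0, 1, 1, 0)),
  ((2, 3, 4, 3), (2, 1, 4, 6), (1, 1, 0, 0, 1, 1, 1, 1, 1)),
  ((4, 0, 6, 2), (4, 3, 6, 3), (0, 1, 1, 0, 0, 1, 1, 1, 0)),
  ((6, 1, 6, 0), (5, 1, 6, 0), (1, 0, 0, 0, 1, 1, 1, 1, 0)),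
  ((5, 6, 6, 6), (5, 1, 6, 0), (0, 1, 0, 1, 1, 1, 1, 0, 0)),
  ((3, 4, 0, 5), (3, 1, 0, 5), (1, 0, 0, 1, 0, 1, 0, 1, 1)),
  ((6, 5, 6, 4), (1, 5, 2, 4), (0, 1, 0, 1, 0, 0, 1, 0, 1)),
  ((1, 6, 2, 6), (1, 5, 2, 4), (1, 1, 0, 0, 1, 0, 0, 1, 1)),
  ((0, 1, 6, 2), (6, 1, 4, 2), (1, 1, 1, 0, 1, 1, 1, 0, 1)),
  ((5, 4, 2, 6), (5, 6, 2, 4), (1, 0, 0, 1, 0, 1, 0, 1, 0)),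
  ((4, 6, 0, 2), (4, 2, 0, 2), (1, 1, 1, 0, 1, 1, 0, 1, 0)),
  ((4, 0, 4, 2), (4, 3, 4, 5), (1, 0, 1, 1, 0, 0, 1, 1, 1)),
  ((0, 1, 6, 6), (6, 1, 0, 6), (1, 1, 0, 1, 0, 0, 0, 0, 1)),
  ((4, 6, 1, 0), (5, 6, 1, 0), (0, 1, 1, 0, 0, 1, 1, 0, 1)),
  ((0, 5, 4, 2), (0, 5, 4, 5), (1, 1, 0, 0, 0, 1, 1, 0, 1)),
  ((2, 4, 3, 3), (2, 2, 3, 0), (1, 0, 1, 1, 0, 0, 0, 1, 1)),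
  ((5, 5, 3, 6), (5, 0, 3, 3), (1, 0, 1, 1, 0, 0, 1, 1, 0)),
  ((6, 4, 4, 4), (6, 5, 4, 0), (0, 0, 1, 1, 1, 0, 1, 0, 0)),
  ((0, 6, 1, 4), (1, 6, 4, 4), (1, 0, 1, 0, 1, 0, 0, 1, 1)),
  ((3, 0, 4, 5), (3, 4, 4, 1), (1, 1, 0, 1, 0, 1, 0, 0, 1)),
  ((4, 1, 5, 5), (4, 4, 5, 0), (1, 1, 0, 1, 1, 1, 1, 0, 1)),
  ((5, 0, 6, 3), (5, 2, 6, 4), (1, 1, 1, 1, 1, 0, 0, 1, 0)),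
  ((4, 5, 6, 6), (6, 5, 0, 6), (1, 0, 0, 0, 1, 1, 1, 0, 1)),
  ((0, 6, 1, 0), (1, 6, 1, 0), (0, 0, 1, 1, 1, 1, 1, 0, 0)),
  ((0, 1, 6, 0), (0, 1, 6, 1), (0, 0, 1, 1, 1, 1, 1, 0, 0)),
  ((6, 0, 4, 6), (6, 0, 5, 6), (1, 0, 1, 1, 1, 1, 0, 1, 1)),
  ((6, 6, 5, 4), (6, 0, 5, 6), (0, 1, 1, 1, 0, 1, 1, 1, 1)),
  ((2, 4, 6, 2), (5, 4, 4, 2), (0, 1, 0, 1, 0, 1, 0, 0, 1)),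
  ((5, 2, 4, 6), (5, 4, 4, 2), (1, 1, 0, 0, 1, 1, 0, 0, 1)),
  ((2, 0, 4, 4), (2, 0, 0, 4), (0, 1, 1, 1, 1, 1, 0, 0, 1)),
  ((3, 6, 6, 3), (4, 6, 3, 3), (0, 0, 1, 1, 0, 1, 1, 1, 0)),
  ((4, 3, 3, 6), (4, 6, 3, 3), (0, 0, 1, 0, 1, 1, 1, 0, 0)),
  ((4, 1, 6, 0), (4, 4, 6, 1), (1, 1, 1, 0, 1, 0, 0, 1, 1)),
  ((4, 4, 4, 6), (0, 4, 5, 6), (1, 1, 1, 0, 0, 1, 1, 0, 0)),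
  ((3, 6, 0, 5), (3, 3, 0, 5), (0, 1, 0, 0, 0, 1, 1, 0, 0)),
  ((6, 2, 2, 2), (6, 3, 2, 0), (0, 1, 1, 1, 0, 1, 1, 0, 0)),
  ((3, 2, 2, 4), (3, 6, 2, 2), (0, 1, 0, 1, 0, 0, 1, 1, 1)),
  ((3, 3, 4, 2), (0, 3, 2, 2), (0, 1, 0, 1, 1, 1, 1, 1, 0)),
  ((4, 4, 0, 2), (4, 0, 0, 2), (1, 1, 0, 1, 0, 0, 1, 1, 1)),
  ((6, 5, 3, 5), (1, 5, 5, 5), (1, 1, 1, 0, 1, 1, 0, 0, 1)),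
  ((0, 1, 6, 4), (0, 1, 6, 5), (0, 1, 1, 1, 1, 0, 0, 1, 0)),
  ((6, 0, 0, 6), (6, 0, 1, 6), (1, 0, 0, 0, 1, 0, 0, 0, 1)),
  ((6, 6, 1, 0), (6, 0, 1, 6), (0, 1, 0, 1, 1, 0, 0, 0, 1)),
  ((1, 5, 6, 3), (3, 5, 3, 3), (1, 0, 0, 1, 1, 1, 1, 0, 1)),
  ((3, 1, 3, 6), (3, 5, 3, 3), (0, 1, 0, 1, 0, 1, 0, 1, 1)),
  ((2, 0, 6, 4), (2, 0, 2, 4), (0, 0, 1, 0, 1, 0, 1, 1, 1)),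
  ((2, 2, 2, 6), (2, 0, 2, 4), (0, 0, 1, 1, 1, 0, 1, 0, 1)),
  ((2, 4, 5, 0), (2, 2, 5, 2), (0, 1, 1, 1, 1, 0, 1, 0, 0)),
  ((4, 6, 6, 4), (4, 2, 6, 5), (1, 1, 0, 1, 1, 1, 1, 0, 0)),
  ((6, 4, 0, 6), (2, 4, 1, 6), (0, 1, 0, 1, 1, 1, 0, 1, 1)),
  ((2, 6, 1, 0), (2, 4, 1, 6), (1, 1, 0, 1, 0, 1, 1, 1, 1)),
  ((6, 2, 6, 1), (4, 2, 5, 1), (1, 1, 1, 0, 1, 0, 0, 0, 1)),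
  ((4, 6, 5, 6), (4, 2, 5, 1), (1, 0, 1, 1, 1, 0, 0, 0, 1)),
  ((6, 4, 2, 5), (2, 4, 4, 5), (1, 1, 0, 0, 1, 0, 1, 0, 1)),
  ((2, 6, 4, 2), (2, 4, 4, 5), (1, 0, 0, 1, 1, 0, 0, 1, 1)),
  ((2, 4, 0, 4), (2, 2, 0, 4), (1, 0, 0, 1, 1, 1, 1, 1, 0)),
  ((3, 5, 6, 1), (5, 5, 5, 1), (0, 1, 0, 1, 0, 0, 0, 1, 1)),
  ((5, 3, 5, 6), (5, 5, 5, 1), (1, 1, 0, 0, 1, 0, 1, 1, 1)),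
  ((6, 3, 5, 5), (6, 4, 5, 0), (1, 0, 0, 0, 0, 1, 1, 1, 0)),
  ((6, 6, 6, 5), (0, 6, 1, 5), (1, 1, 0, 1, 1, 1, 0, 1, 1)),
  ((0, 6, 1, 6), (0, 6, 1, 5), (1, 0, 0, 1, 0, 1, 1, 1, 1)),
  ((6, 1, 3, 3), (5, 1, 0, 3), (0, 1, 0, 0, 0, 1, 1, 0, 1)),
  ((5, 6, 0, 3), (5, 1, 0, 3), (1, 1, 0, 0, 0, 1, 0, 1, 1)),
  ((2, 5, 4, 0), (4, 5, 4, 0), (0, 1, 0, 1, 0, 1, 1, 0, 0)),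
  ((4, 2, 4, 4), (4, 5, 4, 0), (1, 1, 0, 0, 1, 1, 0, 1, 0)),
  ((4, 4, 2, 4), (0, 4, 5, 4), (0, 1, 1, 0, 1, 0, 1, 0, 1)),
  ((0, 4, 5, 2), (0, 4, 5, 4), (1, 1, 1, 1, 1, 0, 0, 1, 1)),
  ((3, 0, 6, 5), (3, 0, 1, 5), (1, 1, 1, 0, 1, 0, 1, 0, 0)),
  ((3, 3, 1, 6), (3, 0, 1, 5), (1, 0, 1, 1, 1, 0, 0, 1, 0)),
  ((6, 2, 4, 5), (6, 3, 4, 1), (0, 1, 0, 0, 1, 1, 1, 1, 0)),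
  ((2, 6, 0, 4), (3, 6, 3, 4), (0, 0, 1, 1, 0, 0, 0, 1, 0)),
  ((3, 6, 5, 1), (3, 3, 5, 3), (1, 0, 1, 0, 1, 1, 1, 1, 1)),
  ((5, 4, 0, 3), (1, 4, 4, 3), (0, 1, 0, 1, 1, 0, 1, 0, 1)),
  ((5, 1, 5, 4), (4, 1, 1, 4), (0, 1, 0, 0, 1, 1, 1, 0, 0)),
  ((4, 5, 1, 5), (4, 1, 1, 4), (1, 1, 0, 1, 1, 1, 0, 1, 0)),
  ((6, 3, 3, 4), (6, 4, 3, 1), (0, 0, 1, 1, 1, 1, 0, 1, 0)),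
  ((1, 6, 5, 3), (2, 6, 2, 3), (1, 0, 1, 1, 1, 1, 0, 0, 1)),
  ((5, 0, 4, 3), (5, 0, 1, 3), (0, 1, 0, 1, 0, 1, 1, 1, 0)),
  ((5, 5, 1, 4), (5, 0, 1, 3), (1, 1, 0, 0, 1, 1, 1, 0, 0)),
  ((4, 2, 2, 3), (4, 5, 2, 1), (1, 0, 0, 1, 1, 1, 0, 0, 1)),
  ((3, 4, 3, 2), (6, 4, 1, 2), (0, 1, 1, 1, 1, 1, 1, 0, 1)),
  ((6, 3, 1, 3), (6, 4, 1, 2), (1, 1, 1, 1, 0, 1, 0, 1, 1)),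
  ((6, 6, 2, 1), (0, 6, 1, 1), (1, 0, 0, 0, 0, 1, 0, 1, 0)),
  ((0, 6, 1, 2), (0, 6, 1, 1), (0, 1, 0, 0, 0, 1, 1, 1, 0)),
  ((1, 1, 6, 0), (1, 0, 6, 1), (0, 1, 0, 1, 1, 0, 0, 0, 1)),
  ((2, 1, 4, 6), (1, 1, 5, 6), (0, 0, 1, 0, 1, 0, 1, 0, 1)),
  ((1, 2, 5, 4), (1, 1, 5, 6), (0, 0, 1, 1, 1, 0, 0, 1, 1)),
  ((2, 3, 2, 0), (2, 1, 2, 5), (1, 0, 1, 1, 1, 1, 1, 1, 0)),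
  ((3, 2, 6, 2), (1, 2, 4, 2), (1, 1, 0, 1, 1, 1, 0, 1, 0)),
  ((1, 3, 4, 6), (1, 2, 4, 2), (1, 0, 0, 1, 0, 1, 1, 1, 0)),
  ((5, 3, 4, 4), (2, 3, 0, 4), (1, 0, 1, 1, 0, 0, 0, 1, 1)),
  ((5, 2, 3, 0), (3, 2, 3, 0), (0, 1, 0, 1, 0, 1, 1, 0, 0)),
  ((4, 3, 6, 3), (1, 3, 3, 3), (0, 1, 0, 1, 0, 0, 0, 0, 1)),
  ((1, 4, 3, 6), (1, 3, 3, 3), (1, 1, 0, 0, 1, 0, 0, 0, 1)),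
  ((5, 1, 6, 0), (5, 3, 6, 1), (1, 1, 0, 1, 0, 1, 1, 1, 1)),
  ((0, 5, 4, 6), (2, 5, 5, 6), (0, 1, 0, 1, 1, 0, 1, 1, 1)),
  ((0, 2, 3, 5), (5, 2, 5, 5), (1, 1, 0, 0, 0, 1, 1, 0, 1)),
  ((3, 1, 0, 5), (3, 5, 0, 5), (1, 1, 1, 0, 1, 1, 0, 1, 0)),
  ((0, 3, 2, 0), (4, 3, 2, 0), (1, 0, 0, 0, 1, 0, 1, 0, 1)),
  ((4, 0, 2, 2), (4, 3, 2, 0), (0, 1, 0, 1, 1, 0, 0, 1, 1)),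
  ((1, 5, 2, 4), (1, 4, 2, 2), (0, 0, 1, 1, 1, 0, 0, 1, 0)),
  ((6, 1, 4, 2), (5, 1, 2, 2), (0, 1, 1, 1, 0, 1, 0, 1, 0)),
  ((5, 6, 2, 4), (5, 1, 2, 2), (1, 1, 1, 0, 1, 1, 1, 1, 0)),
  ((2, 5, 2, 2), (4, 5, 0, 2), (1, 1, 1, 1, 0, 0, 0, 1, 0)),
  ((4, 2, 0, 2), (4, 5, 0, 2), (1, 0, 1, 0, 1, 0, 1, 1, 0)),
  ((0, 4, 5, 5), (0, 4, 5, 0), (0, 0, 1, 0, 1, 1, 1, 1, 1)),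
  ((3, 0, 3, 5), (3, 0, 5, 5), (1, 0, 1, 1, 0, 0, 1, 1, 1)),
  ((4, 3, 4, 5), (1, 3, 6, 5), (0, 1, 1, 1, 1, 1, 1, 0, 1)),
  ((1, 4, 6, 4), (1, 3, 6, 5), (1, 1, 1, 1, 0, 1, 0, 1, 1)),
  ((6, 1, 0, 6), (5, 1, 1, 6), (1, 1, 1, 1, 1, 0, 1, 0, 0)),
  ((5, 6, 1, 0), (5, 1, 1, 6), (1, 0, 1, 1, 0, 0, 0, 1, 0)),
  ((0, 5, 4, 5), (0, 5, 4, 1), (0, 0, 1, 1, 0, 0, 0, 1, 1)),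
  ((2, 2, 3, 0), (2, 0, 3, 4), (0, 1, 1, 1, 1, 1, 0, 1, 0)),
  ((2, 2, 6, 3), (0, 2, 3, 3), (1, 1, 0, 0, 1, 1, 1, 0, 0)),
  ((0, 2, 3, 6), (0, 2, 3, 3), (1, 0, 0, 1, 1, 1, 0, 1, 0)),
  ((5, 0, 3, 3), (5, 0, 0, 3), (0, 1, 1, 1, 1, 1, 0, 0, 1)),
  ((6, 5, 4, 0), (1, 5, 4, 0), (1, 0, 0, 0, 0, 1, 1, 1, 1)),
  ((1, 6, 4, 4), (1, 5, 4, 0), (0, 1, 0, 0, 0, 1, 1, 0, 1)),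
  ((3, 4, 4, 1), (3, 1, 4, 4), (0, 0, 1, 0, 1, 1, 1, 0, 0)),
  ((3, 3, 6, 4), (0, 3, 2, 4), (1, 0, 0, 0, 1, 1, 0, 0, 1)),
  ((0, 3, 2, 6), (0, 3, 2, 4), (0, 1, 0, 1, 1, 1, 0, 0, 1)),
  ((4, 4, 5, 0), (4, 0, 5, 2), (0, 0, 1, 1, 0, 1, 0, 1, 1)),
  ((5, 2, 6, 4), (5, 4, 6, 5), (1, 0, 1, 0, 0, 1, 1, 1, 0)),
  ((6, 5, 0, 6), (1, 5, 1, 6), (1, 1, 0, 1, 0, 1, 0, 1, 0)),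
  ((1, 6, 1, 0), (1, 5, 1, 6), (1, 0, 0, 0, 1, 1, 1, 1, 0)),
  ((0, 1, 6, 1), (6, 1, 5, 1), (1, 0, 0, 1, 0, 1, 1, 1, 1)),
  ((6, 0, 5, 6), (6, 1, 5, 1), (0, 1, 0, 0, 1, 1, 1, 0, 1)),
  ((4, 6, 2, 5), (5, 6, 4, 5), (0, 0, 1, 1, 0, 0, 1, 1, 0)),
  ((5, 4, 4, 2), (5, 6, 4, 5), (0, 0, 1, 0, 1, 0, 1, 0, 0)),
  ((2, 0, 0, 4), (2, 5, 0, 4), (1, 0, 1, 0, 1, 1, 1, 0, 0)),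
  ((6, 2, 3, 0), (4, 2, 3, 0), (1, 1, 0, 1, 0, 0, 0, 1, 1)),
  ((4, 6, 3, 3), (4, 2, 3, 0), (1, 0, 0, 0, 1, 0, 1, 1, 1)),
  ((4, 4, 6, 1), (0, 4, 5, 1), (1, 0, 1, 1, 1, 0, 0, 1, 0)),
  ((0, 4, 5, 6), (0, 4, 5, 1), (0, 1, 1, 1, 0, 0, 1, 1, 0)),
  ((3, 3, 0, 5), (3, 0, 0, 5), (1, 1, 0, 1, 0, 0, 1, 1, 1)),
  ((6, 3, 2, 0), (3, 3, 2, 0), (0, 1, 0, 0, 1, 1, 1, 1, 1)),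
  ((3, 6, 2, 2), (3, 3, 2, 0), (1, 1, 0, 1, 1, 1, 1, 0, 1)),
  ((0, 3, 2, 2), (4, 3, 0, 2), (0, 0, 1, 0, 1, 1, 1, 1, 1)),
  ((4, 0, 0, 2), (4, 3, 0, 2), (0, 0, 1, 1, 1, 1, 1, 0, 1)),
  ((5, 4, 5, 0), (1, 4, 5, 0), (1, 0, 1, 1, 1, 1, 1, 1, 0)),
  ((1, 5, 5, 5), (1, 4, 5, 0), (0, 1, 1, 1, 0, 1, 1, 0, 0)),
  ((0, 1, 6, 5), (6, 1, 1, 5), (0, 1, 0, 0, 0, 1, 1, 1, 0)),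
  ((6, 0, 1, 6), (6, 1, 1, 5), (1, 1, 0, 0, 0, 1, 1, 0, 0)),
  ((4, 6, 4, 1), (5, 6, 3, 1), (0, 1, 0, 1, 0, 1, 0, 1, 1)),
  ((5, 4, 3, 4), (5, 6, 3, 1), (1, 1, 0, 0, 1, 1, 1, 1, 1)),
  ((3, 5, 3, 3), (5, 5, 0, 3), (1, 1, 0, 0, 1, 1, 0, 1, 0)),
  ((5, 3, 0, 3), (5, 5, 0, 3), (1, 0, 0, 1, 1, 1, 1, 1, 0)),
  ((5, 5, 4, 0), (0, 5, 4, 0), (0, 1, 1, 1, 1, 1, 0, 1, 0)),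
  ((0, 5, 4, 4), (0, 5, 4, 0), (1, 1, 1, 1, 0, 1, 1, 1, 0)),
  ((2, 0, 2, 4), (2, 0, 5, 4), (1, 0, 0, 0, 0, 1, 0, 1, 1)),
  ((2, 2, 5, 2), (2, 0, 5, 4), (0, 1, 0, 0, 0, 1, 1, 1, 1)),
  ((4, 2, 6, 5), (2, 2, 1, 5), (0, 0, 1, 1, 0, 1, 1, 1, 1)),
  ((2, 4, 1, 6), (2, 2, 1, 5), (0, 0, 1, 0, 1, 1, 1, 0, 1)),
  ((4, 2, 5, 1), (2, 2, 4, 1), (0, 1, 1, 0, 0, 1, 1, 0, 0)),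
  ((2, 4, 4, 5), (2, 2, 4, 1), (1, 1, 1, 0, 0, 1, 0, 1, 0)),
  ((2, 2, 0, 4), (0, 2, 3, 4), (1, 1, 1, 1, 0, 1, 0, 0, 1)),
  ((0, 2, 3, 0), (0, 2, 3, 4), (1, 0, 1, 0, 1, 1, 0, 0, 1)),
  ((5, 5, 5, 1), (5, 0, 5, 3), (0, 0, 1, 1, 1, 0, 1, 0, 1)),
  ((5, 3, 2, 0), (5, 5, 2, 5), (0, 1, 1, 1, 1, 0, 1, 0, 0)),
  ((6, 4, 5, 0), (6, 5, 5, 2), (1, 1, 1, 1, 0, 0, 0, 0, 1)),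
  ((0, 6, 1, 5), (1, 6, 3, 5), (1, 1, 1, 0, 1, 1, 1, 0, 1)),
  ((5, 1, 0, 3), (4, 1, 4, 3), (0, 0, 1, 1, 0, 0, 0, 1, 0)),
  ((4, 5, 4, 0), (4, 1, 4, 3), (0, 0, 1, 0, 1, 0, 1, 1, 0)),
  ((0, 4, 5, 4), (3, 4, 1, 4), (1, 0, 1, 0, 0, 1, 0, 1, 0)),
  ((3, 0, 1, 5), (3, 4, 1, 4), (0, 1, 1, 0, 0, 1, 1, 1, 0)),
  ((6, 3, 4, 1), (3, 3, 3, 1), (1, 1, 0, 0, 1, 0, 0, 0, 1)),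
  ((3, 6, 3, 4), (3, 3, 3, 1), (1, 0, 0, 1, 1, 0, 0, 0, 1)),
  ((3, 3, 5, 3), (0, 3, 2, 3), (0, 1, 1, 0, 1, 0, 1, 0, 1)),
  ((0, 3, 2, 5), (0, 3, 2, 3), (1, 1, 1, 1, 1, 0, 0, 1, 1)),
  ((4, 4, 3, 5), (4, 0, 3, 2), (0, 1, 0, 1, 1, 1, 1, 1, 0)),
  ((1, 4, 4, 3), (4, 4, 1, 3), (0, 0, 1, 1, 1, 1, 0, 1, 0)),
  ((4, 1, 1, 4), (4, 4, 1, 3), (0, 0, 1, 1, 0, 1, 1, 1, 0)),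
  ((6, 4, 3, 1), (2, 4, 2, 1), (1, 0, 0, 1, 0, 1, 1, 1, 0)),
  ((2, 6, 2, 3), (2, 4, 2, 1), (0, 1, 0, 0, 1, 1, 1, 0, 0)),
  ((0, 2, 3, 2), (5, 2, 1, 2), (0, 0, 1, 1, 0, 0, 0, 1, 1)),
  ((5, 0, 1, 3), (5, 2, 1, 2), (0, 0, 1, 0, 1, 0, 1, 1, 1)),
  ((4, 5, 2, 1), (6, 5, 1, 1), (1, 1, 1, 1, 0, 1, 1, 0, 0)),
  ((6, 4, 1, 2), (6, 5, 1, 1), (1, 0, 1, 0, 1, 1, 0, 1, 0)),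
  ((0, 6, 1, 1), (1, 6, 0, 1), (1, 1, 0, 1, 0, 0, 0, 0, 1)),
  ((1, 0, 6, 1), (1, 0, 5, 1), (1, 1, 0, 0, 0, 1, 1, 0, 0)),
  ((1, 1, 5, 6), (1, 0, 5, 1), (1, 0, 0, 0, 0, 1, 0, 1, 0)),
  ((2, 1, 2, 5), (1, 1, 4, 5), (0, 1, 1, 1, 0, 1, 0, 0, 1)),
  ((1, 2, 4, 2), (1, 1, 4, 5), (1, 1, 1, 0, 1, 1, 0, 0, 1)),
  ((2, 3, 0, 4), (2, 1, 0, 4), (0, 1, 0, 1, 1, 0, 1, 0, 1)),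
  ((3, 2, 3, 0), (1, 2, 3, 0), (0, 0, 1, 0, 1, 0, 1, 1, 0)),
  ((1, 3, 3, 3), (1, 2, 3, 0), (0, 0, 1, 1, 1, 0, 1, 0, 0)),
  ((5, 3, 6, 1), (2, 3, 5, 1), (0, 0, 1, 0, 1, 1, 1, 0, 1)),
  ((2, 5, 5, 6), (2, 3, 5, 1), (0, 0, 1, 1, 1, 1, 0, 1, 1)),
  ((5, 2, 5, 5), (3, 2, 0, 5), (1, 1, 1, 1, 0, 0, 0, 1, 0)),
  ((3, 5, 0, 5), (3, 2, 0, 5), (1, 0, 1, 0, 1, 0, 1, 1, 0)),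
  ((4, 3, 2, 0), (1, 3, 2, 0), (1, 1, 0, 0, 0, 1, 0, 1, 0)),
  ((1, 4, 2, 2), (1, 3, 2, 0), (1, 0, 0, 0, 0, 1, 1, 1, 0)),
  ((5, 1, 2, 2), (4, 1, 0, 2), (1, 0, 1, 0, 1, 0, 0, 0, 1)),
  ((4, 5, 0, 2), (4, 1, 0, 2), (0, 1, 1, 1, 1, 0, 0, 0, 1)),
  ((0, 4, 5, 0), (3, 4, 5, 0), (1, 0, 0, 0, 1, 0, 1, 0, 1)),
  ((3, 0, 5, 5), (3, 4, 5, 0), (0, 1, 0, 1, 1, 0, 0, 1, 1)),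
  ((1, 3, 6, 5), (5, 3, 1, 5), (1, 0, 1, 0, 1, 1, 0, 1, 0)),
  ((5, 1, 1, 6), (5, 3, 1, 5), (0, 1, 1, 1, 1, 1, 1, 1, 0)),
  ((0, 5, 4, 1), (2, 5, 3, 1), (1, 0, 0, 1, 1, 1, 0, 1, 0)),
  ((2, 0, 3, 4), (2, 5, 3, 1), (0, 1, 0, 1, 0, 1, 1, 1, 0)),
  ((0, 2, 3, 3), (5, 2, 0, 3), (1, 1, 1, 1, 0, 1, 1, 1, 0)),
  ((5, 0, 0, 3), (5, 2, 0, 3), (1, 0, 1, 0, 1, 1, 1, 0, 0)),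
  ((1, 5, 4, 0), (3, 5, 4, 0), (1, 1, 0, 1, 0, 0, 0, 1, 1)),
  ((3, 1, 4, 4), (3, 5, 4, 0), (1, 0, 0, 0, 1, 0, 1, 1, 1)),
  ((0, 3, 2, 4), (4, 3, 5, 4), (1, 1, 0, 1, 0, 1, 1, 0, 0)),
  ((4, 0, 5, 2), (4, 3, 5, 4), (1, 0, 0, 0, 1, 1, 0, 1, 0)),
  ((5, 4, 6, 5), (1, 4, 1, 5), (0, 1, 1, 1, 0, 0, 0, 0, 1)),
  ((1, 5, 1, 6), (1, 4, 1, 5), (1, 1, 1, 0, 1, 0, 0, 0, 1)),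
  ((6, 1, 5, 1), (5, 1, 4, 1), (1, 1, 0, 0, 1, 0, 0, 1, 1)),
  ((5, 6, 4, 5), (5, 1, 4, 1), (1, 0, 0, 1, 1, 0, 1, 1, 1)),
  ((2, 5, 0, 4), (4, 5, 3, 4), (0, 1, 1, 0, 1, 0, 1, 1, 1)),
  ((4, 2, 3, 0), (4, 5, 3, 4), (1, 1, 1, 1, 1, 0, 1, 0, 1)),
  ((0, 4, 5, 1), (0, 4, 5, 3), (0, 1, 0, 1, 1, 1, 0, 0, 1)),
  ((3, 0, 0, 5), (3, 0, 2, 5), (0, 0, 1, 1, 1, 1, 1, 0, 1)),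
  ((3, 3, 2, 0), (3, 0, 2, 5), (0, 0, 1, 1, 0, 1, 0, 1, 1)),
  ((4, 3, 0, 2), (1, 3, 5, 2), (1, 0, 0, 1, 0, 1, 0, 1, 1)),
  ((1, 4, 5, 0), (1, 3, 5, 2), (0, 1, 0, 0, 1, 1, 1, 1, 1)),
  ((6, 1, 1, 5), (5, 1, 3, 5), (0, 0, 1, 1, 0, 0, 1, 1, 1)),
  ((5, 6, 3, 1), (5, 1, 3, 5), (0, 0, 1, 0, 1, 0, 1, 0, 1)),
  ((5, 5, 0, 3), (0, 5, 4, 3), (1, 1, 1, 1, 0, 1, 0, 0, 1)),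
  ((0, 5, 4, 0), (0, 5, 4, 3), (1, 0, 1, 0, 1, 1, 0, 0, 1)),
  ((2, 0, 5, 4), (2, 0, 1, 4), (1, 1, 0, 1, 0, 0, 1, 0, 1)),
  ((2, 2, 1, 5), (2, 0, 1, 4), (1, 0, 0, 0, 1, 0, 0, 1, 1)),
  ((2, 2, 4, 1), (0, 2, 3, 1), (1, 0, 1, 1, 0, 0, 1, 1, 0)),
  ((0, 2, 3, 4), (0, 2, 3, 1), (0, 1, 1, 0, 1, 0, 1, 0, 0)),
  ((5, 0, 5, 3), (5, 0, 2, 3), (1, 0, 0, 0, 0, 1, 0, 1, 1)),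
  ((5, 5, 2, 5), (5, 0, 2, 3), (0, 1, 0, 0, 0, 1, 1, 1, 1)),
  ((6, 5, 5, 2), (1, 5, 3, 2), (1, 0, 1, 1, 1, 1, 1, 0, 0)),
  ((1, 6, 3, 5), (1, 5, 3, 2), (0, 1, 1, 1, 0, 1, 0, 1, 0)),
  ((4, 1, 4, 3), (3, 1, 1, 3), (1, 0, 0, 1, 1, 0, 0, 0, 1)),
  ((3, 4, 1, 4), (3, 1, 1, 3), (0, 1, 0, 1, 0, 0, 0, 0, 1)),
  ((3, 3, 3, 1), (0, 3, 2, 1), (1, 1, 1, 0, 0, 1, 1, 0, 0)),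
  ((0, 3, 2, 3), (0, 3, 2, 1), (1, 0, 1, 0, 0, 1, 0, 1, 0)),
  ((4, 0, 3, 2), (4, 0, 1, 2), (1, 1, 0, 1, 0, 1, 0, 0, 1)),
  ((4, 4, 1, 3), (4, 0, 1, 2), (1, 0, 0, 0, 1, 1, 0, 0, 1)),
  ((2, 4, 2, 1), (5, 4, 1, 1), (1, 1, 0, 0, 1, 0, 1, 1, 1)),
  ((5, 2, 1, 2), (5, 4, 1, 1), (1, 0, 0, 1, 1, 0, 1, 0, 1)),
  ((6, 5, 1, 1), (1, 5, 0, 1), (0, 1, 1, 0, 1, 0, 1, 1, 0)),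
  ((1, 6, 0, 1), (1, 5, 0, 1), (1, 1, 1, 1, 1, 0, 1, 0, 0)),
  ((1, 0, 5, 1), (1, 0, 4, 1), (1, 1, 1, 1, 0, 0, 1, 1, 0)),
  ((1, 1, 4, 5), (1, 0, 4, 1), (1, 0, 1, 0, 1, 0, 1, 0, 0)),
  ((2, 1, 0, 4), (1, 1, 3, 4), (1, 1, 0, 0, 0, 1, 0, 1, 1)),
  ((1, 2, 3, 0), (1, 1, 3, 4), (1, 0, 0, 0, 0, 1, 1, 1, 1)),
  ((2, 3, 5, 1), (2, 1, 5, 3), (1, 0, 0, 1, 0, 1, 0, 1, 0)),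
  ((3, 2, 0, 5), (1, 2, 2, 5), (0, 1, 1, 1, 1, 0, 0, 0, 1)),
  ((1, 3, 2, 0), (1, 2, 2, 5), (1, 1, 1, 1, 0, 0, 0, 0, 1)),
  ((4, 1, 0, 2), (3, 1, 5, 2), (0, 1, 0, 0, 0, 1, 1, 0, 0)),
  ((3, 4, 5, 0), (3, 1, 5, 2), (1, 1, 0, 0, 0, 1, 0, 1, 0)),
  ((5, 3, 1, 5), (2, 3, 3, 5), (0, 1, 0, 1, 0, 1, 0, 0, 1)),
  ((2, 5, 3, 1), (2, 3, 3, 5), (1, 1, 0, 0, 1, 1, 0, 0, 1)),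
  ((5, 2, 0, 3), (3, 2, 4, 3), (0, 1, 1, 0, 1, 0, 1, 1, 1)),
  ((3, 5, 4, 0), (3, 2, 4, 3), (1, 1, 1, 1, 1, 0, 1, 0, 1)),
  ((4, 3, 5, 4), (1, 3, 1, 4), (1, 1, 1, 0, 1, 0, 1, 1, 0)),
  ((1, 4, 1, 5), (1, 3, 1, 4), (1, 0, 1, 1, 1, 0, 1, 0, 0)),
  ((5, 1, 4, 1), (4, 1, 3, 1), (1, 1, 1, 0, 0, 1, 1, 0, 1)),
  ((4, 5, 3, 4), (4, 1, 3, 1), (1, 0, 1, 0, 0, 1, 0, 1, 1)),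
  ((0, 4, 5, 3), (3, 4, 2, 3), (1, 1, 0, 1, 0, 1, 1, 0, 0)),
  ((3, 0, 2, 5), (3, 4, 2, 3), (1, 0, 0, 0, 1, 1, 0, 1, 0)),
  ((1, 3, 5, 2), (5, 3, 3, 2), (1, 1, 0, 0, 1, 0, 1, 0, 1)),
  ((5, 1, 3, 5), (5, 3, 3, 2), (1, 0, 0, 1, 1, 0, 0, 1, 1)),
  ((0, 5, 4, 3), (2, 5, 1, 3), (0, 1, 1, 0, 1, 0, 1, 0, 0)),
  ((2, 0, 1, 4), (2, 5, 1, 3), (1, 1, 1, 1, 1, 0, 0, 1, 0)),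
  ((0, 2, 3, 1), (5, 2, 2, 1), (0, 1, 0, 1, 1, 0, 1, 1, 1)),
  ((5, 0, 2, 3), (5, 2, 2, 1), (1, 1, 0, 1, 0, 0, 1, 0, 1)),
  ((1, 5, 3, 2), (3, 5, 1, 2), (0, 1, 0, 0, 1, 1, 1, 1, 0)),
  ((3, 1, 1, 3), (3, 5, 1, 2), (1, 1, 0, 1, 1, 1, 1, 0, 0)),
  ((0, 3, 2, 1), (4, 3, 1, 1), (0, 1, 1, 1, 0, 0, 1, 1, 0)),
  ((4, 0, 1, 2), (4, 3, 1, 1), (1, 1, 1, 0, 1, 0, 1, 0, 0)),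
  ((5, 4, 1, 1), (1, 4, 0, 1), (1, 1, 1, 0, 0, 1, 0, 1, 1)),
  ((1, 5, 0, 1), (1, 4, 0, 1), (1, 0, 1, 0, 0, 1, 1, 1, 1)),
  ((1, 0, 4, 1), (1, 0, 3, 1), (0, 1, 1, 1, 1, 0, 1, 1, 1)),
  ((1, 1, 3, 4), (1, 0, 3, 1), (1, 1, 1, 1, 0, 0, 1, 0, 1)),
  ((2, 1, 5, 3), (1, 1, 2, 3), (1, 1, 1, 0, 1, 1, 1, 1, 0)),
  ((1, 2, 2, 5), (1, 1, 2, 3), (1, 0, 1, 1, 1, 1, 1, 0, 0)),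
  ((3, 1, 5, 2), (2, 1, 3, 2), (0, 0, 1, 1, 0, 0, 1, 1, 0)),
  ((2, 3, 3, 5), (2, 1, 3, 2), (0, 0, 1, 0, 1, 0, 1, 0, 0)),
  ((3, 2, 4, 3), (1, 2, 1, 3), (1, 0, 1, 0, 0, 1, 0, 1, 1)),
  ((1, 3, 1, 4), (1, 2, 1, 3), (0, 1, 1, 0, 0, 1, 1, 1, 1)),
  ((4, 1, 3, 1), (3, 1, 2, 1), (0, 1, 1, 1, 0, 0, 0, 1, 0)),
  ((3, 4, 2, 3), (3, 1, 2, 1), (1, 1, 1, 0, 1, 0, 1, 1, 0)),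
  ((5, 3, 3, 2), (2, 3, 1, 2), (1, 1, 1, 0, 0, 1, 0, 1, 0)),
  ((2, 5, 1, 3), (2, 3, 1, 2), (1, 0, 1, 0, 0, 1, 1, 1, 0)),
  ((5, 2, 2, 1), (3, 2, 1, 1), (0, 0, 1, 1, 1, 1, 0, 1, 1)),
  ((3, 5, 1, 2), (3, 2, 1, 1), (0, 0, 1, 1, 0, 1, 1, 1, 1)),
  ((4, 3, 1, 1), (1, 3, 0, 1), (1, 0, 1, 1, 1, 0, 1, 1, 1)),
  ((1, 4, 0, 1), (1, 3, 0, 1), (0, 1, 1, 1, 0, 0, 1, 0, 1)),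
  ((1, 0, 3, 1), (1, 0, 2, 1), (1, 0, 1, 1, 1, 1, 0, 1, 1)),
  ((1, 1, 2, 3), (1, 0, 2, 1), (0, 1, 1, 1, 0, 1, 1, 1, 1)),
  ((2, 1, 3, 2), (1, 1, 1, 2), (1, 0, 0, 1, 1, 0, 1, 1, 1)),
  ((1, 2, 1, 3), (1, 1, 1, 2), (0, 1, 0, 1, 0, 0, 1, 0, 1)),
  ((3, 1, 2, 1), (2, 1, 1, 1), (1, 0, 1, 1, 1, 0, 0, 0, 1)),
  ((2, 3, 1, 2), (2, 1, 1, 1), (0, 1, 1, 1, 0, 0, 0, 0, 1)),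
  ((3, 2, 1, 1), (1, 2, 0, 1), (1, 0, 0, 0, 1, 1, 1, 0, 1)),
  ((1, 3, 0, 1), (1, 2, 0, 1), (0, 1, 0, 1, 1, 1, 0, 1, 1)),
  ((1, 0, 2, 1), (1, 0, 1, 1), (0, 1, 0, 0, 1, 1, 1, 0, 1)),
  ((1, 1, 1, 2), (1, 0, 1, 1), (1, 1, 0, 1, 1, 1, 0, 1, 1)),
  ((2, 1, 1, 1), (1, 1, 0, 1), (0, 1, 0, 1, 1, 1, 1, 0, 0)),
  ((1, 2, 0, 1), (1, 1, 0, 1), (1, 1, 0, 1, 0, 1, 0, 1, 0)),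
  ((1, 0, 1, 1), (1, 0, 0, 1), (0, 0, 1, 1, 0, 1, 0, 1, 0)),
  ((1, 1, 0, 1), (1, 0, 0, 1), (0, 0, 1, 0, 1, 1, 1, 1, 0)),
  ((1, 0, 0, 1), (1, 0, 0, 1), (1, 0, 0, 0, 1, 0, 0, 0, 1))]

/-- The elements. -/
def keys : List T2 := tab.map (fun e => e.1)

/-- The elements with their parents. -/
def W : List (T2 × T2) := tab.map (fun e => (e.1, e.2.1))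

/-- The table lookup. -/
def lookup (t : T2) : T3 :=
  match tab.find? (fun e => decide (e.1 = t)) with
  | some e => e.2.2
  | none => one3

end Cfsg.Agent.Helper7.L27
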