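import Mathlib
import Cfsg.Agent.Helper7.L27Defs

set_option autoImplicit false

namespace Cfsg.Agent.Helper7.L27

theorem W_ok : Chain.ok mulT2 one2 gA gB W = true := by
  decide +kernel

theorem lookup_one : lookup one2 = one3 := by
  decide +kernel

theorem lookup_negone : lookup negone2 = one3 := by
  decide +kernel

theorem tab_det : ∀ e ∈ tab, detT3 e.2.2 = 1 := by
  decide +kernel

theorem tab_ker : ∀ e ∈ tab, e.2.2 = one3 → (e.1 = one2 ∨ e.1 = negone2) := by
  decide +kernel

theorem complete : ∀ a b c d : ZMod 7, a * d - b * c = 1 → (a, b, c, d) ∈ keys := by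
  decide +kernel

end Cfsg.Agent.Helper7.L27
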