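import Mathlib
import Cfsg.Agent.Helper7.L27Defs

set_option autoImplicit false

namespace Cfsg.Agent.Helper7.L27

theorem hom_gen : ∀ e ∈ tab, lookup (mulT2 e.1 gA) = mulT3 e.2.2 fA ∧
    lookup (mulT2 e.1 gB) = mulT3 e.2.2 fB := by
  decide +kernel

end Cfsg.Agent.Helper7.L27
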