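import Mathlib
import Cfsg.Agent.Helper7.LOrdE

set_option autoImplicit false
set_option linter.unusedSectionVars false
set_option linter.unusedVariables false

/-!
A map of prime order permuting the lines of a decomposition into lines has a large fixed space.
-/

namespace Cfsg.Agent.Helper7.LOrd

open Module Polynomial Cfsg.Agent.Helper7.POrd

variable {F : Type*} [Field F] {V : Type*} [AddCommGroup V] [Module F V] [FiniteDimensional F V]
  {T : Module.End F V} {t r : ℕ} {D : Fin t → Submodule F V} {σ : Equiv.Perm (Fin t)}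

theorem lines_bound_aux (hr : r.Prime) (hr0 : (r : F) ≠ 0) (hind : iSupIndep D)
    (hDd : ∀ j, finrank F ↥(D j) = 1) (hT : T ^ r = 1) (hσ : ∀ j, (D j).map T = D (σ j))
    (heig : ∀ (v : V) (c : F), v ≠ 0 → T v = c • v → c = 1) :
    ∀ (N : ℕ) (S : Finset (Fin t)), S.card = N → (∀ j ∈ S, σ j ∈ S) →
      S.card ≤ r * finrank F ↥((⨆ j ∈ S, D j) ⊓ fixS T) := by
  classical
  intro N
  induction N using Nat.strong_induction_on with
  | _ N ih =>
    intro S hN hS
    rcases S.eq_empty_or_nonempty with rfl | ⟨j₀, hj₀⟩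
    · simp
    have hσr : (σ ^ r) j₀ = j₀ := perm_pow_eq hind Nat.one_pos hDd hT hσ j₀
    obtain ⟨O, hO⟩ : ∃ O : Finset (Fin t), O = (Finset.range r).image (fun k => (σ ^ k) j₀) := ⟨_, rfl⟩
    have hpowS : ∀ k, (σ ^ k) j₀ ∈ S := by
      intro k
      induction k with
      | zero => rw [pow_zero]; exact hj₀
      | succ k ihk =>
        rw [pow_succ', Equiv.Perm.mul_apply]
        exact hS _ ihk
    have hOS : O ⊆ S := by
      intro j hj
      rw [hO, Finset.mem_image] at hj
      obtain ⟨k, -, rfl⟩ := hj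
      exact hpowS k
    have hOcard : O.card ≤ r := by
      rw [hO]
      exact Finset.card_image_le.trans (by rw [Finset.card_range])
    have hpowO : ∀ m, (σ ^ m) j₀ ∈ O := by
      intro m
      rw [hO, Finset.mem_image]
      exact ⟨m % r, Finset.mem_range.mpr (Nat.mod_lt _ hr.pos), (perm_pow_mod σ hσr m).symm⟩
    have hj₀O : j₀ ∈ O := by
      have := hpowO 0
      rwa [pow_zero] at this
    have hS' : ∀ j ∈ S \ O, σ j ∈ S \ O := by
      intro j hj
      rw [Finset.mem_sdiff] at hj ⊢
      refine ⟨hS j hj.1, fun hσj => hj.2 ?_⟩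
      rw [hO, Finset.mem_image] at hσj
      obtain ⟨k, -, hk⟩ := hσj
      have h1 : σ ((σ ^ (k + (r - 1))) j₀) = σ j := by
        rw [← Equiv.Perm.mul_apply, ← pow_succ', ← hk]
        have e : k + (r - 1) + 1 = k + r := by have := hr.pos; omega
        rw [e, pow_add, Equiv.Perm.mul_apply, hσr]
      rw [← σ.injective h1]
      exact hpowO _
    have hcard := Finset.card_sdiff_add_card_eq_card hOS
    have hOpos : 0 < O.card := Finset.card_pos.mpr ⟨j₀, hj₀O⟩
    have hIH := ih (S \ O).card (by omega) (S \ O) rfl hS'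
    -- the orbit contributes a fixed vector
    have hO1 : 1 ≤ finrank F ↥((⨆ j ∈ O, D j) ⊓ fixS T) := by
      have hne : D j₀ ≠ ⊥ := by
        intro h
        have := hDd j₀
        rw [h, finrank_bot] at this
        omega
      obtain ⟨b, hb, hb0⟩ := Submodule.exists_mem_ne_zero_of_ne_bot hne
      have hmem : Phi r T b ∈ (⨆ j ∈ O, D j) ⊓ fixS T := by
        refine ⟨?_, Phi_mem_fixS hT b⟩
        unfold Phi
        rw [LinearMap.sum_apply]
        apply Submodule.sum_mem
        intro k _
        exact Submodule.mem_iSup_of_mem ((σ ^ k) j₀) (Submodule.mem_iSup_of_mem (hpowO k) (pow_apply_mem hσ hb k))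
      have hne0 : Phi r T b ≠ 0 := by
        by_cases hfix : σ j₀ = j₀
        · have hTb : T b ∈ D j₀ := by
            have h1 : T b ∈ (D j₀).map T := Submodule.mem_map_of_mem hb
            rwa [hσ, hfix] at h1
          have hspan := (finrank_eq_one_iff_of_nonzero' (⟨b, hb⟩ : ↥(D j₀))
            (fun h => hb0 (congrArg Subtype.val h))).mp (hDd j₀)
          obtain ⟨c, hc⟩ := hspan ⟨T b, hTb⟩
          have hc' : T b = c • b := (congrArg Subtype.val hc).symm
          have hc1 := heig b c hb0 hc'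
          rw [hc1, one_smul] at hc'
          rw [Phi_apply_of_fixed hc']
          exact smul_ne_zero hr0 hb0
        · intro h0
          exact hb0 (phi_inj_of_moved hr hind Nat.one_pos hDd hT hσ hfix hb h0)
      rw [Nat.one_le_iff_ne_zero]
      intro h0
      have := Submodule.finrank_eq_zero.mp h0
      rw [this] at hmem
      exact hne0 ((Submodule.mem_bot F).mp hmem)
    -- the two parts
    have hunion : (⨆ j ∈ S, D j) = (⨆ j ∈ O, D j) ⊔ (⨆ j ∈ S \ O, D j) := by
      conv_lhs => rw [← Finset.union_sdiff_of_subset hOS]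
      exact Finset.iSup_union
    have hdisj : Disjoint (⨆ j ∈ O, D j) (⨆ j ∈ S \ O, D j) := by
      have h := hind.disjoint_biSup_biSup (s := (O : Set (Fin t))) (t := ((S \ O : Finset (Fin t)) : Set (Fin t)))
        (by
          rw [Set.disjoint_left]
          intro j hj hj'
          have hj'' : j ∈ S \ O := hj'
          rw [Finset.mem_sdiff] at hj''
          exact hj''.2 hj)
      exact h
    have hadd : finrank F ↥((⨆ j ∈ O, D j) ⊓ fixS T) + finrank F ↥((⨆ j ∈ S \ O, D j) ⊓ fixS T) ≤
        finrank F ↥((⨆ j ∈ S, D j) ⊓ fixS T) := by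
      have h := Submodule.finrank_sup_add_finrank_inf_eq ((⨆ j ∈ O, D j) ⊓ fixS T) ((⨆ j ∈ S \ O, D j) ⊓ fixS T)
      have hbot : ((⨆ j ∈ O, D j) ⊓ fixS T) ⊓ ((⨆ j ∈ S \ O, D j) ⊓ fixS T) = ⊥ := by
        rw [eq_bot_iff, ← hdisj.eq_bot]
        exact inf_le_inf inf_le_left inf_le_left
      rw [hbot, finrank_bot, add_zero] at h
      rw [← h, hunion]
      apply Submodule.finrank_mono
      exact sup_le (inf_le_inf_right _ le_sup_left) (inf_le_inf_right _ le_sup_right)
    have h1 := Nat.mul_le_mul_left r hadd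
    rw [mul_add] at h1
    have h2 : r ≤ r * finrank F ↥((⨆ j ∈ O, D j) ⊓ fixS T) := Nat.le_mul_of_pos_right r hO1
    omega

/-- **the bound for lines.** -/
theorem lines_bound (hr : r.Prime) (hr0 : (r : F) ≠ 0) (hind : iSupIndep D)
    (hDd : ∀ j, finrank F ↥(D j) = 1) (hT : T ^ r = 1) (hσ : ∀ j, (D j).map T = D (σ j))
    (heig : ∀ (v : V) (c : F), v ≠ 0 → T v = c • v → c = 1) : t ≤ r * finrank F ↥(fixS T) := by
  have h := lines_bound_aux hr hr0 hind hDd hT hσ heig _ Finset.univ rfl (fun j _ => Finset.mem_univ _)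
  rw [Finset.card_univ, Fintype.card_fin] at h
  refine h.trans (Nat.mul_le_mul_left r ?_)
  exact Submodule.finrank_mono inf_le_right

end Cfsg.Agent.Helper7.LOrd
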