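import Mathlib
import Cfsg.Agent.Helper7.LOrdF

set_option autoImplicit false
set_option linter.unusedSectionVars false
set_option linter.unusedVariables false

/-!
Counting direct sum decompositions: their number is a multiple of `t!` and divides the order of the linear group.
-/

namespace Cfsg.Agent.Helper7.LOrd

open Module Polynomial Cfsg.Agent.Helper7.POrd

section general

variable {F : Type*} [Field F] {V : Type*} [AddCommGroup V] [Module F V]

/-- a direct sum decomposition into subspaces of dimension `a`. -/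
structure Dec (a : ℕ) {t : ℕ} (D : Fin t → Submodule F V) : Prop where
  dim : ∀ j, finrank F ↥(D j) = a
  indep : iSupIndep D
  top : (⨆ j, D j) = ⊤

variable {a t : ℕ} {D D' : Fin t → Submodule F V}

theorem Dec.comp (h : Dec a D) (σ : Equiv.Perm (Fin t)) : Dec a (D ∘ σ) :=
  ⟨fun j => h.dim (σ j), h.indep.comp σ.injective, by
    rw [← h.top]
    exact Equiv.iSup_comp (g := D) σ⟩

theorem Dec.injective (ha : 0 < a) (h : Dec a D) : Function.Injective D := by
  apply h.indep.injective
  intro j hj
  have := h.dim j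
  rw [hj, finrank_bot] at this
  omega

theorem Dec.map (h : Dec a D) (g : V ≃ₗ[F] V) : Dec a (fun j => (D j).map (g : V →ₗ[F] V)) := by
  refine ⟨fun j => ?_, ?_, ?_⟩
  · rw [← h.dim j]
    exact (LinearEquiv.finrank_map_eq g (D j))
  · exact LinearMap.iSupIndep_map (g : V →ₗ[F] V) g.injective h.indep
  · rw [← Submodule.map_iSup, h.top, Submodule.map_top]
    exact LinearMap.range_eq_top.mpr g.surjective

/-- **transitivity** of the linear group on decompositions. -/
theorem dec_exists_map [FiniteDimensional F V] (h : Dec a D) (h' : Dec a D') :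
    ∃ g : V ≃ₗ[F] V, ∀ j, (D j).map (g : V →ₗ[F] V) = D' j := by
  classical
  have hint := DirectSum.isInternal_submodule_of_iSupIndep_of_iSup_eq_top h.indep h.top
  have hint' := DirectSum.isInternal_submodule_of_iSupIndep_of_iSup_eq_top h'.indep h'.top
  let v : ∀ j, Module.Basis (Fin a) F ↥(D j) := fun j => Module.finBasisOfFinrankEq F _ (h.dim j)
  let v' : ∀ j, Module.Basis (Fin a) F ↥(D' j) := fun j => Module.finBasisOfFinrankEq F _ (h'.dim j)
  refine ⟨(hint.collectedBasis v).equiv (hint'.collectedBasis v') (Equiv.refl _), fun j => ?_⟩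
  apply Submodule.eq_of_le_of_finrank_eq
  · rintro _ ⟨x, hx, rfl⟩
    have h1 := congrArg Subtype.val ((v j).sum_repr ⟨x, hx⟩)
    rw [Submodule.coe_sum] at h1
    have h2 : x = ∑ s, ((v j).repr ⟨x, hx⟩ s) • (hint.collectedBasis v) ⟨j, s⟩ := by
      have h3 : ∑ i, ((((v j).repr ⟨x, hx⟩) i • (v j) i : ↥(D j)) : V) = x := h1
      conv_lhs => rw [← h3]
      apply Finset.sum_congr rfl
      intro s _
      rw [Submodule.coe_smul, DirectSum.IsInternal.collectedBasis_coe]
    rw [h2]
    show ((hint.collectedBasis v).equiv (hint'.collectedBasis v') (Equiv.refl _)) _ ∈ D' j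
    rw [map_sum]
    apply Submodule.sum_mem
    intro s _
    rw [map_smul, Module.Basis.equiv_apply]
    exact Submodule.smul_mem _ _ (hint'.collectedBasis_mem v' ⟨j, s⟩)
  · exact ((LinearEquiv.finrank_map_eq _ (D j)).trans (h.dim j)).trans (h'.dim j).symm

/-- a decomposition exists. -/
theorem exists_dec [FiniteDimensional F V] (hdim : finrank F V = a * t) :
    ∃ D : Fin t → Submodule F V, Dec a D := by
  obtain ⟨b⟩ : Nonempty (Module.Basis (Fin (a * t)) F V) := ⟨Module.finBasisOfFinrankEq F V hdim⟩
  obtain ⟨D, h1, h2, h3, -⟩ := decomp_of_family (κ := Fin t) (a := a) (t := t)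
    (fun x : Fin t × Fin a => b (finProdFinEquiv (x.2, x.1)))
    (by
      rw [← b.span_eq]
      apply Submodule.span_mono
      rintro _ ⟨i, rfl⟩
      refine ⟨((finProdFinEquiv.symm i).2, (finProdFinEquiv.symm i).1), ?_⟩
      show b (finProdFinEquiv ((finProdFinEquiv.symm i).1, (finProdFinEquiv.symm i).2)) = b i
      rw [Prod.mk.eta, Equiv.apply_symm_apply])
    (by rw [Fintype.card_fin, hdim, mul_comm]) (Equiv.refl _) LinearMap.id (fun _ _ h => h) 1
    (fun k s => Submodule.subset_span ⟨s, rfl⟩)
  exact ⟨D, h1, h2, h3⟩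

instance finite_linearEquiv [Finite V] : Finite (V ≃ₗ[F] V) :=
  Finite.of_injective (fun e : V ≃ₗ[F] V => (e : V → V)) DFunLike.coe_injective

instance decFinite [Finite V] (a t : ℕ) : Finite {D : Fin t → Submodule F V // Dec a D} :=
  Subtype.finite

/-- the symmetric group acts on the decompositions. -/
@[instance_reducible] noncomputable def decAction (a t : ℕ) :
    MulAction (Equiv.Perm (Fin t)) {D : Fin t → Submodule F V // Dec a D} where
  smul σ D := ⟨D.1 ∘ σ.symm, D.2.comp σ.symm⟩
  one_smul D := by
    apply Subtype.ext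
    rfl
  mul_smul σ τ D := by
    apply Subtype.ext
    funext j
    rfl

/-- **the number of ordered decompositions is a multiple of `t!`.** -/
theorem factorial_dvd_card_dec [Finite V] (ha : 0 < a) :
    t.factorial ∣ Nat.card {D : Fin t → Submodule F V // Dec a D} := by
  let _ := decAction (F := F) (V := V) a t
  have hfree : ∀ D : {D : Fin t → Submodule F V // Dec a D},
      MulAction.stabilizer (Equiv.Perm (Fin t)) D = ⊥ := by
    intro D
    rw [eq_bot_iff]
    intro σ hσ
    rw [Subgroup.mem_bot]
    rw [MulAction.mem_stabilizer_iff] at hσ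
    have h1 : D.1 ∘ σ.symm = D.1 := congrArg Subtype.val hσ
    apply Equiv.ext
    intro j
    have h2 := congrFun h1 (σ j)
    simp only [Function.comp_apply, Equiv.symm_apply_apply] at h2
    exact (D.2.injective ha h2).symm
  have e := MulAction.selfEquivOrbitsQuotientProd hfree
  rw [Nat.card_congr e, Nat.card_prod, Nat.card_perm, Nat.card_fin]
  exact Dvd.intro_left _ rfl

/-- the linear group acts on families of subspaces. -/
@[instance_reducible] noncomputable def mapAction (t : ℕ) :
    MulAction (V ≃ₗ[F] V) (Fin t → Submodule F V) where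
  smul g D := fun j => (D j).map (g : V →ₗ[F] V)
  one_smul D := by
    funext j
    show (D j).map ((1 : V ≃ₗ[F] V) : V →ₗ[F] V) = D j
    exact Submodule.map_id _
  mul_smul g g' D := by
    funext j
    show (D j).map ((g * g' : V ≃ₗ[F] V) : V →ₗ[F] V) = ((D j).map (g' : V →ₗ[F] V)).map (g : V →ₗ[F] V)
    rw [← Submodule.map_comp]
    rfl

/-- **the number of ordered decompositions divides the order of the linear group.** -/
theorem card_dec_dvd [Finite V] (hex : ∃ D : Fin t → Submodule F V, Dec a D) :
    Nat.card {D : Fin t → Submodule F V // Dec a D} ∣ Nat.card (V ≃ₗ[F] V) := by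
  classical
  have hfd : FiniteDimensional F V := Module.Finite.of_finite
  let _ := mapAction (F := F) (V := V) t
  have hsm : ∀ (g : V ≃ₗ[F] V) (D : Fin t → Submodule F V),
      g • D = fun j => (D j).map (g : V →ₗ[F] V) := fun g D => rfl
  obtain ⟨D₁, hD₁⟩ := hex
  have hset : ∀ D : Fin t → Submodule F V, Dec a D ↔ D ∈ MulAction.orbit (V ≃ₗ[F] V) D₁ := by
    intro D
    constructor
    · intro hD
      obtain ⟨g, hg⟩ := dec_exists_map hD₁ hD
      refine ⟨g, ?_⟩
      show g • D₁ = D
      rw [hsm]
      funext j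
      exact hg j
    · rintro ⟨g, rfl⟩
      show Dec a (g • D₁)
      rw [hsm]
      exact hD₁.map g
  rw [Nat.card_congr (Equiv.subtypeEquivRight hset)]
  rw [Nat.card_congr (MulAction.orbitEquivQuotientStabilizer (V ≃ₗ[F] V) D₁)]
  exact Dvd.intro _ (Subgroup.card_eq_card_quotient_mul_card_subgroup _).symm

end general

variable {F : Type*} [Field F] [Fintype F] {V : Type*} [AddCommGroup V] [Module F V] [Finite V]
  {p : ℕ} [Fact p.Prime] [CharP F p] {r : ℕ} [Fact r.Prime]

/-- a prime dividing the order of the linear group. -/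
theorem orderOf_le_of_dvd_card (hrp : r ≠ p) (h : r ∣ Nat.card (V ≃ₗ[F] V)) :
    orderOf ((Fintype.card F : ℕ) : ZMod r) ≤ finrank F V := by
  have hfd : FiniteDimensional F V := Module.Finite.of_finite
  have hr : r.Prime := Fact.out
  have hr0 : (r : F) ≠ 0 := natCast_ne_zero_of_ne hrp
  obtain ⟨g, hg⟩ := exists_prime_orderOf_dvd_card' r h
  have hgr : g ^ r = 1 := by rw [← hg]; exact pow_orderOf_eq_one g
  have hT : ((g : V →ₗ[F] V) : Module.End F V) ^ r = 1 := by
    have h1 := congrArg (LinearEquiv.automorphismGroup.toLinearMapMonoidHom (R := F) (M := V)) hgr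
    rw [map_pow, map_one] at h1
    exact h1
  have hne : movS r ((g : V →ₗ[F] V) : Module.End F V) ≠ ⊥ := by
    intro h0
    have h1 := (isCompl_fix_mov hr0 hT).sup_eq_top
    rw [h0, sup_bot_eq] at h1
    have h2 : g = 1 := by
      apply LinearEquiv.ext
      intro x
      have hx : x ∈ fixS ((g : V →ₗ[F] V) : Module.End F V) := by rw [h1]; exact Submodule.mem_top
      exact mem_fixS.mp hx
    rw [h2, orderOf_one] at hg
    exact hr.one_lt.ne hg
  obtain ⟨k, hk⟩ := orderOf_dvd_finrank_movS hrp hT
  have hpos : 0 < finrank F ↥(movS r ((g : V →ₗ[F] V) : Module.End F V)) := by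
    rw [Nat.pos_iff_ne_zero]
    intro h0
    exact hne (Submodule.finrank_eq_zero.mp h0)
  have hle := Submodule.finrank_le (movS r ((g : V →ₗ[F] V) : Module.End F V))
  rw [hk] at hpos hle
  have hk0 : 0 < k := Nat.pos_of_mul_pos_left hpos
  exact (Nat.le_mul_of_pos_right _ hk0).trans hle

end Cfsg.Agent.Helper7.LOrd
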