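import Mathlib
import Cfsg.Agent.Helper7.POrdI

set_option autoImplicit false
set_option linter.unusedSectionVars false
set_option linter.unusedVariables false

/-!
Model elements with a small fixed space, and pairs of invariant subspaces.
-/

namespace Cfsg.Agent.Helper7.POrd

open Module Polynomial

section
variable {F : Type*} [Field F]

/-- **transport**, with the intertwining equivalence. -/
theorem exists_SL_conj {n r : ℕ} {V' : Type*} [AddCommGroup V'] [Module F V'] [FiniteDimensional F V']
    (hn : finrank F V' = n) (T' : Module.End F V') (hdet : LinearMap.det T' = 1) (c : F)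
    (hT' : T' ^ r = algebraMap F _ c) (hns : ∀ z : F, T' ≠ algebraMap F _ z) :
    ∃ (x : Matrix.SpecialLinearGroup (Fin n) F) (e : (Fin n → F) ≃ₗ[F] V'),
      ((x ^ r : Matrix.SpecialLinearGroup (Fin n) F) : Matrix (Fin n) (Fin n) F) = c • 1 ∧
      (∀ z : F, (x : Matrix (Fin n) (Fin n) F) ≠ z • 1) ∧
      ∀ v : Fin n → F, e (Matrix.toLin' (x : Matrix (Fin n) (Fin n) F) v) = T' (e v) := by
  classical
  let b : Basis (Fin n) F V' := Module.finBasisOfFinrankEq F V' hn
  let M : Matrix (Fin n) (Fin n) F := LinearMap.toMatrix b b T'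
  have hM : M.det = 1 := by rw [LinearMap.det_toMatrix b, hdet]
  let e : (Fin n → F) ≃ₗ[F] V' := b.equivFun.symm
  have he : ∀ (S : Module.End F V') (v : Fin n → F), e (Matrix.toLin' (LinearMap.toMatrix b b S) v) = S (e v) := by
    intro S v
    have h1 := LinearMap.toMatrix_mulVec_repr b b S (e v)
    have h2 : (b.repr (e v) : Fin n → F) = v := by
      have := b.equivFun.apply_symm_apply v
      exact this
    rw [h2] at h1
    rw [Matrix.toLin'_apply, h1]
    exact b.equivFun.symm_apply_apply (S (e v))
  have hinj : ∀ (A B : Matrix (Fin n) (Fin n) F), (∀ v, e (Matrix.toLin' A v) = e (Matrix.toLin' B v)) → A = B := by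
    intro A B h
    apply Matrix.toLin'.injective
    apply LinearMap.ext
    intro v
    exact e.injective (h v)
  let x : Matrix.SpecialLinearGroup (Fin n) F := ⟨M, hM⟩
  refine ⟨x, e, ?_, ?_, ?_⟩
  · rw [Matrix.SpecialLinearGroup.coe_pow]
    show M ^ r = c • 1
    apply hinj
    intro v
    have h1 : M ^ r = LinearMap.toMatrix b b (T' ^ r) := by
      rw [LinearMap.toMatrix_pow]
    rw [h1, he, hT', toLin'_smul_one, Module.algebraMap_end_apply, Module.algebraMap_end_apply, map_smul]
  · intro z hz
    apply hns z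
    apply LinearMap.ext
    intro y
    obtain ⟨v, rfl⟩ := e.surjective y
    have h1 : (M : Matrix (Fin n) (Fin n) F) = z • 1 := hz
    rw [← he, show LinearMap.toMatrix b b T' = M from rfl, h1, toLin'_smul_one, Module.algebraMap_end_apply,
      Module.algebraMap_end_apply, map_smul]
  · intro v
    exact he T' v


/-- conjugate maps have fixed spaces of the same dimension. -/
theorem finrank_fixS_conj {V V' : Type*} [AddCommGroup V] [Module F V] [AddCommGroup V'] [Module F V']
    (e : V ≃ₗ[F] V') (T : Module.End F V) (T' : Module.End F V') (h : ∀ v, e (T v) = T' (e v)) :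
    finrank F ↥(fixS T) = finrank F ↥(fixS T') := by
  have hmap : (fixS T).map (e : V →ₗ[F] V') = fixS T' := by
    ext y
    constructor
    · rintro ⟨v, hv, rfl⟩
      rw [SetLike.mem_coe, mem_fixS] at hv
      rw [mem_fixS]
      show T' (e v) = e v
      rw [← h, hv]
    · intro hy
      rw [mem_fixS] at hy
      refine ⟨e.symm y, ?_, e.apply_symm_apply y⟩
      rw [SetLike.mem_coe, mem_fixS]
      apply e.injective
      rw [h, e.apply_symm_apply, hy]
  rw [← hmap]
  exact (LinearEquiv.finrank_map_eq e (fixS T)).symm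

end

variable {F : Type*} [Field F] [Fintype F] {p : ℕ} [Fact p.Prime] [CharP F p] {r : ℕ} [Fact r.Prime]

/-- **model, cyclotomic case**, with the dimension of the fixed space. -/
theorem exists_model_cyclo_fix (hrp : r ≠ p) (n : ℕ) (hi : orderOf ((Fintype.card F : ℕ) : ZMod r) ≠ 1)
    (hin : orderOf ((Fintype.card F : ℕ) : ZMod r) ≤ n) :
    ∃ x : Matrix.SpecialLinearGroup (Fin n) F,
      ((x ^ r : Matrix.SpecialLinearGroup (Fin n) F) : Matrix (Fin n) (Fin n) F) = (1 : F) • 1 ∧
      (∀ z : F, (x : Matrix (Fin n) (Fin n) F) ≠ z • 1) ∧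
      finrank F ↥(fixS (Matrix.toLin' (x : Matrix (Fin n) (Fin n) F))) ≤
        n % orderOf ((Fintype.card F : ℕ) : ZMod r) := by
  classical
  obtain ⟨g, hg, hgc, hgd⟩ := exists_irred_factor (F := F) hrp
  have hipos : 0 < orderOf ((Fintype.card F : ℕ) : ZMod r) := orderOf_q_pos hrp
  generalize hidef : orderOf ((Fintype.card F : ℕ) : ZMod r) = i at *
  haveI : Fact (Irreducible g) := ⟨hg⟩
  haveI : Module.Finite F (AdjoinRoot g) := finite_adjoinRoot hg.ne_zero
  haveI : Finite (AdjoinRoot g) := Module.finite_of_finite F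
  let K := AdjoinRoot g
  let ζ : K := AdjoinRoot.root g
  have hr0 : (r : F) ≠ 0 := natCast_ne_zero_of_ne hrp
  have hζr : ζ ^ r = 1 := by
    have h1 : g ∣ X ^ r - 1 := by
      rw [← cyclotomic_prime_mul_X_sub_one F r]
      exact Dvd.dvd.mul_right hgc _
    have h := AdjoinRoot.mk_eq_zero.mpr h1
    rw [map_sub, map_pow, AdjoinRoot.mk_X, map_one, sub_eq_zero] at h
    exact h
  have hζ1 : ζ ≠ 1 := by
    intro h
    have h2 := AdjoinRoot.mk_eq_zero.mpr hgc
    rw [cyclotomic_prime, map_sum] at h2
    simp only [map_pow, AdjoinRoot.mk_X] at h2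
    have h3 : ∑ t ∈ Finset.range r, (AdjoinRoot.root g) ^ t = (r : AdjoinRoot g) := by
      have : AdjoinRoot.root g = 1 := h
      rw [this]
      simp
    rw [h3] at h2
    have h4 : algebraMap F (AdjoinRoot g) (r : F) = 0 := by
      rw [map_natCast]
      exact h2
    exact hr0 ((map_eq_zero _).mp h4)
  -- the space
  let n' := n / i
  let k := n % i
  have hn' : 0 < n' := Nat.div_pos hin hipos
  have hk : k < i := Nat.mod_lt _ hipos
  let T' : Module.End F ((Fin n' → K) × (Fin k → F)) := LinearMap.prodMap (smulEnd (F := F) K n' ζ) LinearMap.id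
  have hTpow : ∀ (t : ℕ) (y : (Fin n' → K) × (Fin k → F)), (T' ^ t) y = (ζ ^ t • y.1, y.2) := by
    intro t
    induction t with
    | zero => intro y; simp
    | succ t ih =>
      intro y
      rw [pow_succ, Module.End.mul_apply, ih]
      show (ζ ^ t • (ζ • y.1), y.2) = _
      rw [smul_smul, pow_succ]
  have hT : T' ^ r = algebraMap F _ (1 : F) := by
    apply LinearMap.ext
    intro y
    rw [hTpow, hζr, one_smul, map_one, Module.End.one_apply]
  have hT1 : T' ^ r = 1 := by rw [hT, map_one]
  have hn : finrank F ((Fin n' → K) × (Fin k → F)) = n := by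
    rw [Module.finrank_prod, finrank_fin_fun_ext, finrank_adjoinRoot hg.ne_zero, hgd, Module.finrank_fin_fun]
    exact Nat.div_add_mod' n i
  have hdet : LinearMap.det T' = 1 := by
    apply eq_one_of_pow_eq_one (F := F) (Fact.out : r.Prime) (by rw [hidef]; exact hi)
    rw [← map_pow, hT1, map_one]
  have hfix : finrank F ↥(fixS T') ≤ k := by
    have hle : fixS T' ≤ LinearMap.ker (LinearMap.fst F (Fin n' → K) (Fin k → F)) := by
      intro y hy
      rw [mem_fixS] at hy
      rw [LinearMap.mem_ker, LinearMap.fst_apply]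
      have h1 : ζ • y.1 = y.1 := congrArg Prod.fst hy
      have h2 : (ζ - 1) • y.1 = 0 := by rw [sub_smul, one_smul, h1, sub_self]
      rcases smul_eq_zero.mp h2 with h | h
      · exact absurd (sub_eq_zero.mp h) hζ1
      · exact h
    have h1 := Submodule.finrank_mono hle
    rw [LinearMap.ker_fst, LinearMap.finrank_range_of_inj LinearMap.inr_injective, Module.finrank_fin_fun] at h1
    exact h1
  have hns : ∀ z : F, T' ≠ algebraMap F _ z := by
    intro z hz
    have h1 : T' (fun _ => 1, 0) = z • ((fun _ => 1, 0) : (Fin n' → K) × (Fin k → F)) := by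
      rw [hz, Module.algebraMap_end_apply]
    have h2 : ζ • (fun _ : Fin n' => (1 : K)) = z • (fun _ : Fin n' => (1 : K)) := congrArg Prod.fst h1
    have h3 := congrFun h2 ⟨0, hn'⟩
    rw [Pi.smul_apply, Pi.smul_apply, smul_eq_mul, mul_one, Algebra.smul_def, mul_one] at h3
    have h4 : z ^ r = 1 := by
      have : (algebraMap F K z) ^ r = 1 := by rw [← h3, hζr]
      rw [← map_pow] at this
      exact (algebraMap F K).injective (by rw [this, map_one])
    have h5 := eq_one_of_pow_eq_one (F := F) (Fact.out : r.Prime) (by rw [hidef]; exact hi) h4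
    rw [h5, map_one] at h3
    exact hζ1 h3
  obtain ⟨x, e, hx1, hx2, hx3⟩ := exists_SL_conj hn T' hdet 1 hT hns
  refine ⟨x, hx1, hx2, ?_⟩
  rw [finrank_fixS_conj e _ T' hx3]
  exact hfix


end Cfsg.Agent.Helper7.POrd
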