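import Mathlib
import Cfsg.Agent.Helper7.POrdA

set_option autoImplicit false
set_option linter.unusedSectionVars false
set_option linter.unusedVariables false

/-!
Counting the flags `U ≤ W` with given dimensions.
-/

namespace Cfsg.Agent.Helper7.POrd

open Module

/-- the falling product `(q^N - 1)(q^(N-1) - 1)...(q^(N-m+1) - 1)`. -/
def Dq (q N m : ℕ) : ℕ := ∏ i : Fin m, (q ^ (N - (i : ℕ)) - 1)

theorem Dq_eq_range (q N m : ℕ) : Dq q N m = ∏ t ∈ Finset.range m, (q ^ (N - t) - 1) := by
  unfold Dq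
  exact Fin.prod_univ_eq_prod_range (fun t => q ^ (N - t) - 1) m

theorem Dq_pos {q : ℕ} (hq : 2 ≤ q) {N m : ℕ} (hm : m ≤ N) : 0 < Dq q N m := by
  unfold Dq
  apply Finset.prod_pos
  intro i _
  have h1 : 1 ≤ N - (i : ℕ) := by have := i.2; omega
  have h2 : 2 ^ (N - (i : ℕ)) ≤ q ^ (N - (i : ℕ)) := Nat.pow_le_pow_left hq _
  have h3 : 2 ≤ 2 ^ (N - (i : ℕ)) := by
    calc 2 = 2 ^ 1 := (pow_one 2).symm
      _ ≤ 2 ^ (N - (i : ℕ)) := Nat.pow_le_pow_right (by norm_num) h1
  omega

theorem Dq_add (q N a b : ℕ) : Dq q N (a + b) = Dq q N a * Dq q (N - a) b := by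
  rw [Dq_eq_range, Dq_eq_range, Dq_eq_range, Finset.prod_range_add]
  congr 1
  apply Finset.prod_congr rfl
  intro t _
  rw [Nat.sub_sub]

theorem Dq_split (q : ℕ) {N k : ℕ} (hk : k ≤ N) : Dq q N N = Dq q N k * Dq q (N - k) (N - k) := by
  conv_lhs => rw [show N = k + (N - k) by omega]
  rw [Dq_add]
  congr 2 <;> omega

/-- a prime dividing a falling product divides one of the factors. -/
theorem exists_dvd_of_dvd_Dq {q N m r : ℕ} (hr : r.Prime) (h : r ∣ Dq q N m) : ∃ t < m, r ∣ q ^ (N - t) - 1 := by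
  unfold Dq at h
  rw [hr.prime.dvd_finsetProd_iff] at h
  obtain ⟨i, _, hi⟩ := h
  exact ⟨i, i.2, hi⟩

variable {F : Type*} [Field F] {V : Type*} [AddCommGroup V] [Module F V]

theorem card_sub_Dq [Fintype F] [Finite V] (m : ℕ) (hm : m ≤ finrank F V) :
    Nat.card (Sub F V m) * Dq (Fintype.card F) m m = Dq (Fintype.card F) (finrank F V) m :=
  card_sub_mul' m hm

/-- the symmetric form of the count. -/
theorem card_sub_Dq_symm [Fintype F] [Finite V] (m : ℕ) (hm : m ≤ finrank F V) :
    Nat.card (Sub F V (finrank F V - m)) * Dq (Fintype.card F) m m = Dq (Fintype.card F) (finrank F V) m := by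
  have hq : 2 ≤ Fintype.card F := Fintype.one_lt_card
  have h1 := card_sub_Dq (F := F) (V := V) (finrank F V - m) (Nat.sub_le _ _)
  have h2 := Dq_split (Fintype.card F) (Nat.sub_le (finrank F V) m)
  have h3 := Dq_split (Fintype.card F) hm
  rw [Nat.sub_sub_self hm] at h2
  have hpos : 0 < Dq (Fintype.card F) (finrank F V - m) (finrank F V - m) := Dq_pos hq le_rfl
  apply Nat.eq_of_mul_eq_mul_right hpos
  calc Nat.card (Sub F V (finrank F V - m)) * Dq (Fintype.card F) m m *
        Dq (Fintype.card F) (finrank F V - m) (finrank F V - m)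
      = (Nat.card (Sub F V (finrank F V - m)) * Dq (Fintype.card F) (finrank F V - m) (finrank F V - m)) *
        Dq (Fintype.card F) m m := by ring
    _ = Dq (Fintype.card F) (finrank F V) (finrank F V - m) * Dq (Fintype.card F) m m := by rw [h1]
    _ = Dq (Fintype.card F) (finrank F V) (finrank F V) := h2.symm
    _ = Dq (Fintype.card F) (finrank F V) m * Dq (Fintype.card F) (finrank F V - m) (finrank F V - m) := h3

/-- the type of flags `U ≤ W` with `dim U = m`, `dim W = k`. -/
abbrev Flag (F : Type*) [Field F] (V : Type*) [AddCommGroup V] [Module F V] (m k : ℕ) : Type _ :=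
  {P : Submodule F V × Submodule F V // P.1 ≤ P.2 ∧ finrank F ↥P.1 = m ∧ finrank F ↥P.2 = k}

/-- the larger member of a flag. -/
def flagTop (m k : ℕ) (P : Flag F V m k) : Sub F V k := ⟨P.1.2, P.2.2.2⟩

/-- the flags over `W` are the `m`-subspaces of `W`. -/
noncomputable def flagFibre [FiniteDimensional F V] (m k : ℕ) (W : Sub F V k) :
    {P : Flag F V m k // flagTop m k P = W} ≃ Sub F ↥W.1 m where
  toFun P := ⟨Submodule.comap W.1.subtype P.1.1.1, by
    have h1 : P.1.1.2 = W.1 := congrArg Subtype.val P.2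
    have h2 : P.1.1.1 ≤ W.1 := h1 ▸ P.1.2.1
    rw [LinearEquiv.finrank_eq (Submodule.comapSubtypeEquivOfLe h2)]
    exact P.1.2.2.1⟩
  invFun U := ⟨⟨(Submodule.map W.1.subtype U.1, W.1), Submodule.map_subtype_le _ _, by
      show finrank F ↥(Submodule.map W.1.subtype U.1) = m
      exact (Submodule.finrank_map_subtype_eq W.1 U.1).trans U.2, W.2⟩,
    by apply Subtype.ext; rfl⟩
  left_inv P := by
    have h1 : P.1.1.2 = W.1 := congrArg Subtype.val P.2
    have h2 : P.1.1.1 ≤ W.1 := h1 ▸ P.1.2.1
    apply Subtype.ext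
    apply Subtype.ext
    apply Prod.ext
    · show Submodule.map W.1.subtype (Submodule.comap W.1.subtype P.1.1.1) = P.1.1.1
      rw [Submodule.map_comap_subtype, inf_eq_right]
      exact h2
    · exact h1.symm
  right_inv U := by
    apply Subtype.ext
    show Submodule.comap W.1.subtype (Submodule.map W.1.subtype U.1) = U.1
    exact Submodule.comap_map_eq_of_injective W.1.injective_subtype U.1

/-- **the number of flags**, first form. -/
theorem card_flag_mul [Fintype F] [Finite V] (m k : ℕ) (hmk : m ≤ k) :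
    Nat.card (Flag F V m k) * Dq (Fintype.card F) m m = Nat.card (Sub F V k) * Dq (Fintype.card F) k m := by
  classical
  have hfd : FiniteDimensional F V := Module.Finite.of_finite
  letI : Fintype (Sub F V k) := Fintype.ofFinite _
  rw [Nat.card_congr (Equiv.sigmaFiberEquiv (flagTop (F := F) (V := V) m k)).symm, Nat.card_sigma,
    Finset.sum_mul]
  have h : ∀ W : Sub F V k, Nat.card {P : Flag F V m k // flagTop m k P = W} * Dq (Fintype.card F) m m =
      Dq (Fintype.card F) k m := by
    intro W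
    rw [Nat.card_congr (flagFibre m k W)]
    have := card_sub_Dq (F := F) (V := ↥W.1) m (by rw [W.2]; exact hmk)
    rw [W.2] at this
    exact this
  rw [Finset.sum_congr rfl (fun W _ => h W), Finset.sum_const, Finset.card_univ, smul_eq_mul,
    Nat.card_eq_fintype_card]

/-- **the number of flags** `U ≤ W` with `dim U = m`, `dim W = n - m`. -/
theorem card_flag_Dq [Fintype F] [Finite V] (m : ℕ) (hm : 2 * m ≤ finrank F V) :
    Nat.card (Flag F V m (finrank F V - m)) * (Dq (Fintype.card F) m m * Dq (Fintype.card F) m m) =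
      Dq (Fintype.card F) (finrank F V) (m + m) := by
  have h1 := card_flag_mul (F := F) (V := V) m (finrank F V - m) (by omega)
  have h2 := card_sub_Dq_symm (F := F) (V := V) m (by omega)
  rw [Dq_add, ← h2, ← mul_assoc, h1]
  ring

/-- a prime dividing the number of flags divides some `q^(n-t) - 1` with `t < 2m`. -/
theorem exists_dvd_of_dvd_card_flag [Fintype F] [Finite V] (m : ℕ) (hm : 2 * m ≤ finrank F V) {r : ℕ}
    (hr : r.Prime) (h : r ∣ Nat.card (Flag F V m (finrank F V - m))) :
    ∃ t < 2 * m, r ∣ Fintype.card F ^ (finrank F V - t) - 1 := by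
  have h1 : r ∣ Dq (Fintype.card F) (finrank F V) (m + m) := by
    rw [← card_flag_Dq m hm]
    exact Dvd.dvd.mul_right h _
  obtain ⟨t, ht, hdvd⟩ := exists_dvd_of_dvd_Dq hr h1
  exact ⟨t, by omega, hdvd⟩

end Cfsg.Agent.Helper7.POrd
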