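import Mathlib
import Cfsg.Agent.Helper7.POrdL
import Cfsg.Agent.Helper7.POrdM
import Cfsg.Agent.Helper7.POrdN

set_option autoImplicit false
set_option linter.unusedSectionVars false
set_option linter.unusedVariables false

/-!
Pairs `U ≤ W` of invariant subspaces.
-/

namespace Cfsg.Agent.Helper7.POrd

open Module Polynomial

theorem sub_mod_of_le {n m i : ℕ} (hmn : m ≤ n) (h : m % i ≤ n % i) : (n - m) % i = n % i - m % i := by
  rcases Nat.eq_zero_or_pos i with rfl | hi
  · simp
  have h1 := Nat.div_add_mod n i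
  have h2 := Nat.div_add_mod m i
  have h3 : m / i ≤ n / i := Nat.div_le_div_right hmn
  have h4 : i * (m / i) ≤ i * (n / i) := Nat.mul_le_mul_left i h3
  have h5 : n - m = (n % i - m % i) + i * (n / i - m / i) := by
    rw [Nat.mul_sub]
    omega
  rw [h5, Nat.add_mul_mod_self_left, Nat.mod_eq_of_lt]
  have := Nat.mod_lt n hi
  omega

theorem not_dvd_sub_of_lt_mod {n t i : ℕ} (hi : 0 < i) (ht : t < n % i) : ¬ i ∣ n - t := by
  intro h
  have h1 := Nat.div_add_mod n i
  have h2 := Nat.mod_lt n hi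
  have h5 : n - t = (n % i - t) + i * (n / i) := by omega
  have h6 : (n - t) % i = n % i - t := by
    rw [h5, Nat.add_mul_mod_self_left, Nat.mod_eq_of_lt (by omega)]
  rw [Nat.dvd_iff_mod_eq_zero, h6] at h
  omega

variable {F : Type*} [Field F] [Fintype F] {p : ℕ} [Fact p.Prime] [CharP F p] {r : ℕ} [Fact r.Prime]

/-- a prime dividing the number of flags is not the characteristic. -/
theorem ne_char_of_dvd_card_flag {n m : ℕ} (hmn : 2 * m < n)
    (h : r ∣ Nat.card {P : Submodule F (Fin n → F) × Submodule F (Fin n → F) //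
        P.1 ≤ P.2 ∧ finrank F ↥P.1 = m ∧ finrank F ↥P.2 = n - m}) : r ≠ p := by
  rintro rfl
  have hfr : finrank F (Fin n → F) = n := Module.finrank_fin_fun F
  have h' : r ∣ Nat.card (Flag F (Fin n → F) m (finrank F (Fin n → F) - m)) := by rw [hfr]; exact h
  obtain ⟨t, ht, hdvd⟩ := exists_dvd_of_dvd_card_flag (F := F) (V := Fin n → F) m (by rw [hfr]; omega)
    (Fact.out : r.Prime) h'
  rw [hfr] at hdvd
  have h1 : r ∣ Fintype.card F ^ (n - t) := Dvd.dvd.pow char_dvd_card (by omega)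
  have h2 : 1 ≤ Fintype.card F ^ (n - t) := Nat.one_le_pow _ _ Fintype.card_pos
  have h3 : r ∣ 1 := by
    have := (Nat.dvd_sub h1 hdvd)
    rwa [Nat.sub_sub_self h2] at this
  exact (Fact.out : r.Prime).one_lt.ne' (Nat.dvd_one.mp h3)

variable {V : Type*} [AddCommGroup V] [Module F V] [Finite V]

/-- the dimension of an invariant subspace modulo `i`, when the fixed space is small. -/
theorem finrank_mod_eq (hrp : r ≠ p) {T : Module.End F V} (hT : T ^ r = 1)
    (hfix : finrank F ↥(fixS T) < orderOf ((Fintype.card F : ℕ) : ZMod r)) {W : Submodule F V}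
    (hW : W ∈ Module.End.invtSubmodule T) :
    finrank F ↥W % orderOf ((Fintype.card F : ℕ) : ZMod r) = finrank F ↥(W ⊓ fixS T) := by
  have hfd : FiniteDimensional F V := Module.Finite.of_finite
  have hr0 : (r : F) ≠ 0 := natCast_ne_zero_of_ne hrp
  rw [finrank_invt_decomp hr0 hT hW]
  have h1 : orderOf ((Fintype.card F : ℕ) : ZMod r) ∣ finrank F ↥(W ⊓ movS r T) := by
    apply orderOf_dvd_finrank hT (Module.End.invtSubmodule.inf_mem hW (movS_invt r T))
    rw [eq_bot_iff, inf_assoc]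
    refine le_trans inf_le_right ?_
    rw [inf_comm]
    exact le_of_eq (disjoint_fix_mov hr0 T).eq_bot
  obtain ⟨b, hb⟩ := h1
  have h2 : finrank F ↥(W ⊓ fixS T) ≤ finrank F ↥(fixS T) := Submodule.finrank_mono inf_le_right
  rw [hb, Nat.add_mul_mod_self_left, Nat.mod_eq_of_lt (lt_of_le_of_lt h2 hfix)]

/-- the invariant subspace when `T^r = μ^r`, for an arbitrary space. -/
theorem exists_invt_of_power' (hrp : r ≠ p) {m : ℕ} (hmn : m ≤ finrank F V)
    (hmod : m % orderOf ((Fintype.card F : ℕ) : ZMod r) ≤ finrank F V % orderOf ((Fintype.card F : ℕ) : ZMod r))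
    (T : Module.End F V) {μ : F} (hμ : μ ≠ 0) (hT : T ^ r = algebraMap F _ (μ ^ r)) :
    ∃ W : Submodule F V, finrank F ↥W = m ∧ W ∈ Module.End.invtSubmodule T := by
  have hfd : FiniteDimensional F V := Module.Finite.of_finite
  have hipos : 0 < orderOf ((Fintype.card F : ℕ) : ZMod r) := orderOf_q_pos hrp
  obtain ⟨i, hi⟩ : ∃ i : ℕ, i = orderOf ((Fintype.card F : ℕ) : ZMod r) := ⟨_, rfl⟩
  rw [← hi] at hmod hipos
  obtain ⟨n, hn⟩ : ∃ n : ℕ, n = finrank F V := ⟨_, rfl⟩
  rw [← hn] at hmod hmn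
  have hr0 : (r : F) ≠ 0 := natCast_ne_zero_of_ne hrp
  have hT₁ : (μ⁻¹ • T) ^ r = 1 := by
    rw [_root_.smul_pow, hT, Algebra.algebraMap_eq_smul_one, smul_smul, ← mul_pow, inv_mul_cancel₀ hμ, one_pow,
      one_smul]
  obtain ⟨j, Wf, hj, -, hWf⟩ := exists_invt_family hrp hT₁
  rw [← hi] at hj
  simp only [← hi] at hWf
  have hsum := finrank_fix_add_mov hr0 hT₁
  rw [← hn, hj] at hsum
  have hinv : ∀ W : Submodule F V, W ∈ Module.End.invtSubmodule (μ⁻¹ • T) →
      W ∈ Module.End.invtSubmodule T := by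
    intro W hW
    rw [Module.End.mem_invtSubmodule] at hW ⊢
    intro w hw
    rw [Submodule.mem_comap]
    have h1 := hW hw
    rw [Submodule.mem_comap, LinearMap.smul_apply] at h1
    have h2 := Submodule.smul_mem W μ h1
    rwa [smul_smul, mul_inv_cancel₀ hμ, one_smul] at h2
  obtain ⟨d, hd⟩ : ∃ d : ℕ, d = finrank F ↥(fixS (μ⁻¹ • T)) := ⟨_, rfl⟩
  rw [← hd] at hsum
  simp only [← hd] at hWf
  have hib : i * min (m / i) j ≤ m :=
    le_trans (Nat.mul_le_mul_left i (min_le_left _ _)) (Nat.mul_div_le m i)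
  have ha : m - i * min (m / i) j ≤ d := by
    rcases le_total (m / i) j with h | h
    · rw [min_eq_left h]
      have h1 : m - i * (m / i) = m % i := by
        have := Nat.div_add_mod m i
        omega
      rw [h1]
      have h2 : n % i = d % i :=
        (congrArg (· % i) hsum.symm).trans (Nat.add_mul_mod_self_left d i j)
      rw [h2] at hmod
      exact le_trans hmod (Nat.mod_le _ _)
    · rw [min_eq_right h]
      omega
  obtain ⟨h1, h2⟩ := hWf (m - i * min (m / i) j) (min (m / i) j) ha (min_le_right _ _)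
  refine ⟨_, ?_, hinv _ h1⟩
  rw [h2]
  omega

/-- **the invariant flag when `T^r = μ^r`.** -/
theorem exists_flag_of_power (hrp : r ≠ p) {n m : ℕ} (hmn : 2 * m ≤ n)
    (hmod : 2 * (m % orderOf ((Fintype.card F : ℕ) : ZMod r)) ≤ n % orderOf ((Fintype.card F : ℕ) : ZMod r))
    (T : Module.End F (Fin n → F)) {μ : F} (hμ : μ ≠ 0) (hT : T ^ r = algebraMap F _ (μ ^ r)) :
    ∃ U W : Submodule F (Fin n → F), U ≤ W ∧ finrank F ↥U = m ∧ finrank F ↥W = n - m ∧
      U ∈ Module.End.invtSubmodule T ∧ W ∈ Module.End.invtSubmodule T := by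
  have hfr : finrank F (Fin n → F) = n := Module.finrank_fin_fun F
  have hsub := sub_mod_of_le (n := n) (m := m) (i := orderOf ((Fintype.card F : ℕ) : ZMod r)) (by omega)
    (by omega)
  obtain ⟨W, hWd, hWi⟩ := exists_invt_of_power' hrp (m := n - m) (by rw [hfr]; omega)
    (by rw [hfr, hsub]; omega) T hμ hT
  -- the restriction to `W`
  have hTW : (LinearMap.restrict T hWi) ^ r = algebraMap F _ (μ ^ r) := by
    apply LinearMap.ext
    intro w
    apply Subtype.ext
    rw [pow_restrict_apply, hT, Module.algebraMap_end_apply, Module.algebraMap_end_apply, Submodule.coe_smul]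
  obtain ⟨U', hU'd, hU'i⟩ := exists_invt_of_power' hrp (m := m) (by rw [hWd]; omega)
    (by rw [hWd, hsub]; omega) (LinearMap.restrict T hWi) hμ hTW
  refine ⟨U'.map W.subtype, W, Submodule.map_subtype_le _ _, ?_, hWd, ?_, hWi⟩
  · exact (Submodule.finrank_map_subtype_eq W U').trans hU'd
  · rw [Module.End.mem_invtSubmodule]
    rintro _ ⟨u, hu, rfl⟩
    rw [Submodule.mem_comap]
    refine ⟨LinearMap.restrict T hWi u, ?_, rfl⟩
    rw [Module.End.mem_invtSubmodule] at hU'i
    exact hU'i hu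

/-- **the invariant flag when `T^r = c` is not an `r`-th power.** -/
theorem exists_flag_of_nonpower {n m : ℕ} (hn : n ≠ 0) (hmn : 2 * m ≤ n) (T : Module.End F (Fin n → F))
    (hdetT : LinearMap.det T = 1) {c : F} (hc : ∀ b : F, b ^ r ≠ c) (hT : T ^ r = algebraMap F _ c)
    (hcond : r ∣ m ∨ (padicValNat r n ≤ padicValNat r (Fintype.card F - 1) ∧
      (r = 2 → Even n → Fintype.card F % 4 = 1))) :
    ∃ U W : Submodule F (Fin n → F), U ≤ W ∧ finrank F ↥U = m ∧ finrank F ↥W = n - m ∧
      U ∈ Module.End.invtSubmodule T ∧ W ∈ Module.End.invtSubmodule T := by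
  have hr : r.Prime := Fact.out
  have hirr : Irreducible (X ^ r - C c : F[X]) := X_pow_sub_C_irreducible_of_prime hr hc
  have hdeg : (X ^ r - C c : F[X]).natDegree = r := natDegree_X_pow_sub_C
  have hgT : aeval T (X ^ r - C c : F[X]) = 0 := by
    rw [map_sub, map_pow, aeval_X, aeval_C, hT, sub_self]
  obtain ⟨N, U, hN, hUm, hU⟩ := exists_chain_irred hirr hgT (Module.End.invtSubmodule.top_mem T)
  rw [finrank_top, Module.finrank_fin_fun, hdeg] at hN
  rcases hcond with ⟨b, rfl⟩ | ⟨hval, h2⟩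
  · have hb : b ≤ N := by
      have : r * b ≤ r * N := by omega
      exact Nat.le_of_mul_le_mul_left this hr.pos
    have hb2 : N - b ≤ N := Nat.sub_le _ _
    have hbb : b ≤ N - b := by
      have : r * (b + b) ≤ r * N := by rw [Nat.mul_add]; omega
      have := Nat.le_of_mul_le_mul_left this hr.pos
      omega
    obtain ⟨h1, -, h3⟩ := hU b hb
    obtain ⟨h4, -, h6⟩ := hU (N - b) hb2
    rw [hdeg] at h3 h6
    refine ⟨U b, U (N - b), hUm hbb, h3, ?_, h1, h4⟩
    rw [h6, hN, Nat.mul_sub]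
  · exfalso
    have hdet := det_of_pow_eq hr.pos hirr T hT
    rw [hdetT, Module.finrank_fin_fun] at hdet
    exact nonpower_contra hn ⟨N, hN⟩ hc hdet.symm hval h2

end Cfsg.Agent.Helper7.POrd
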