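import Mathlib
import Cfsg.Agent.Helper7.LOrdG
import Cfsg.Agent.Helper7.POrdN
import Cfsg.Agent.Helper7.POrdO

set_option autoImplicit false
set_option linter.unusedSectionVars false
set_option linter.unusedVariables false

/-!
Model elements of `SL_n(q)` of prime order with a fixed space of prescribed dimension.
-/

namespace Cfsg.Agent.Helper7.LOrd

open Module Polynomial Cfsg.Agent.Helper7.POrd

variable {F : Type*} [Field F] [Fintype F] {p : ℕ} [Fact p.Prime] [CharP F p] {r : ℕ} [Fact r.Prime]

/-- **model, cyclotomic case**, with the exact dimension of the fixed space. -/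
theorem exists_model_cyclo_dim (hrp : r ≠ p) (n : ℕ) (hi : orderOf ((Fintype.card F : ℕ) : ZMod r) ≠ 1)
    (m' : ℕ) (hm' : 0 < m') (hle : orderOf ((Fintype.card F : ℕ) : ZMod r) * m' ≤ n) :
    ∃ x : Matrix.SpecialLinearGroup (Fin n) F,
      ((x ^ r : Matrix.SpecialLinearGroup (Fin n) F) : Matrix (Fin n) (Fin n) F) = (1 : F) • 1 ∧
      (∀ z : F, (x : Matrix (Fin n) (Fin n) F) ≠ z • 1) ∧
      finrank F ↥(fixS (Matrix.toLin' (x : Matrix (Fin n) (Fin n) F))) =
        n - orderOf ((Fintype.card F : ℕ) : ZMod r) * m' := by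
  classical
  obtain ⟨g, hg, hgc, hgd⟩ := exists_irred_factor (F := F) hrp
  have hipos : 0 < orderOf ((Fintype.card F : ℕ) : ZMod r) := orderOf_q_pos hrp
  generalize hidef : orderOf ((Fintype.card F : ℕ) : ZMod r) = i at *
  haveI : Fact (Irreducible g) := ⟨hg⟩
  haveI : Module.Finite F (AdjoinRoot g) := finite_adjoinRoot hg.ne_zero
  haveI : Finite (AdjoinRoot g) := Module.finite_of_finite F
  let K := AdjoinRoot g
  let ζ : K := AdjoinRoot.root g
  have hr0 : (r : F) ≠ 0 := natCast_ne_zero_of_ne hrp
  have hζr : ζ ^ r = 1 := by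
    have h1 : g ∣ X ^ r - 1 := by
      rw [← cyclotomic_prime_mul_X_sub_one F r]
      exact Dvd.dvd.mul_right hgc _
    have h := AdjoinRoot.mk_eq_zero.mpr h1
    rw [map_sub, map_pow, AdjoinRoot.mk_X, map_one, sub_eq_zero] at h
    exact h
  have hζ1 : ζ ≠ 1 := by
    intro h
    have h2 := AdjoinRoot.mk_eq_zero.mpr hgc
    rw [cyclotomic_prime, map_sum] at h2
    simp only [map_pow, AdjoinRoot.mk_X] at h2
    have h3 : ∑ t ∈ Finset.range r, (AdjoinRoot.root g) ^ t = (r : AdjoinRoot g) := by
      have : AdjoinRoot.root g = 1 := h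
      rw [this]
      simp
    rw [h3] at h2
    have h4 : algebraMap F (AdjoinRoot g) (r : F) = 0 := by
      rw [map_natCast]
      exact h2
    exact hr0 ((map_eq_zero _).mp h4)
  -- the space
  let k := n - i * m'
  let T' : Module.End F ((Fin m' → K) × (Fin k → F)) := LinearMap.prodMap (smulEnd (F := F) K m' ζ) LinearMap.id
  have hTpow : ∀ (t : ℕ) (y : (Fin m' → K) × (Fin k → F)), (T' ^ t) y = (ζ ^ t • y.1, y.2) := by
    intro t
    induction t with
    | zero => intro y; simp
    | succ t ih =>
      intro y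
      rw [pow_succ, Module.End.mul_apply, ih]
      show (ζ ^ t • (ζ • y.1), y.2) = _
      rw [smul_smul, pow_succ]
  have hT : T' ^ r = algebraMap F _ (1 : F) := by
    apply LinearMap.ext
    intro y
    rw [hTpow, hζr, one_smul, map_one, Module.End.one_apply]
  have hT1 : T' ^ r = 1 := by rw [hT, map_one]
  have hn : finrank F ((Fin m' → K) × (Fin k → F)) = n := by
    rw [Module.finrank_prod, finrank_fin_fun_ext, finrank_adjoinRoot hg.ne_zero, hgd, Module.finrank_fin_fun]
    show m' * i + (n - i * m') = n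
    have : m' * i = i * m' := mul_comm _ _
    omega
  have hdet : LinearMap.det T' = 1 := by
    apply eq_one_of_pow_eq_one (F := F) (Fact.out : r.Prime) (by rw [hidef]; exact hi)
    rw [← map_pow, hT1, map_one]
  have hfix : finrank F ↥(fixS T') = k := by
    have heq : fixS T' = LinearMap.ker (LinearMap.fst F (Fin m' → K) (Fin k → F)) := by
      apply le_antisymm
      · intro y hy
        rw [mem_fixS] at hy
        rw [LinearMap.mem_ker, LinearMap.fst_apply]
        have h1 : ζ • y.1 = y.1 := congrArg Prod.fst hy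
        have h2 : (ζ - 1) • y.1 = 0 := by rw [sub_smul, one_smul, h1, sub_self]
        rcases smul_eq_zero.mp h2 with h | h
        · exact absurd (sub_eq_zero.mp h) hζ1
        · exact h
      · intro y hy
        rw [LinearMap.mem_ker, LinearMap.fst_apply] at hy
        rw [mem_fixS]
        have h1 := hTpow 1 y
        rw [pow_one, pow_one, hy, smul_zero] at h1
        rw [h1]
        exact Prod.ext hy.symm rfl
    rw [heq, LinearMap.ker_fst, LinearMap.finrank_range_of_inj LinearMap.inr_injective, Module.finrank_fin_fun]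
  have hns : ∀ z : F, T' ≠ algebraMap F _ z := by
    intro z hz
    have h1 : T' (fun _ => 1, 0) = z • ((fun _ => 1, 0) : (Fin m' → K) × (Fin k → F)) := by
      rw [hz, Module.algebraMap_end_apply]
    have h2 : ζ • (fun _ : Fin m' => (1 : K)) = z • (fun _ : Fin m' => (1 : K)) := congrArg Prod.fst h1
    have h3 := congrFun h2 ⟨0, hm'⟩
    rw [Pi.smul_apply, Pi.smul_apply, smul_eq_mul, mul_one, Algebra.smul_def, mul_one] at h3
    have h4 : z ^ r = 1 := by
      have : (algebraMap F K z) ^ r = 1 := by rw [← h3, hζr]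
      rw [← map_pow] at this
      exact (algebraMap F K).injective (by rw [this, map_one])
    have h5 := eq_one_of_pow_eq_one (F := F) (Fact.out : r.Prime) (by rw [hidef]; exact hi) h4
    rw [h5, map_one] at h3
    exact hζ1 h3
  obtain ⟨x, e, hx1, hx2, hx3⟩ := exists_SL_conj hn T' hdet 1 hT hns
  refine ⟨x, hx1, hx2, ?_⟩
  rw [finrank_fixS_conj e _ T' hx3]
  exact hfix

end Cfsg.Agent.Helper7.LOrd
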