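import Mathlib
import Cfsg.Agent.Helper7.LOrdH

set_option autoImplicit false
set_option linter.unusedSectionVars false
set_option linter.unusedVariables false

/-!
Elements of odd prime order of `SL_n(q)` and decompositions into subspaces of equal dimension: the two directions.
-/

namespace Cfsg.Agent.Helper7.LOrd

open Module Polynomial Cfsg.Agent.Helper7.POrd

section general

variable {F : Type*} [Field F] {V : Type*} [AddCommGroup V] [Module F V] [FiniteDimensional F V]

theorem map_eq_of_invt {T : Module.End F V} (hinj : Function.Injective T) {W : Submodule F V}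
    (hW : W ∈ Module.End.invtSubmodule T) : W.map T = W := by
  apply Submodule.eq_of_le_of_finrank_eq
  · rw [Submodule.map_le_iff_le_comap]
    exact (Module.End.mem_invtSubmodule T).mp hW
  · exact (LinearEquiv.finrank_eq (Submodule.equivMapOfInjective T hinj W)).symm

theorem invt_of_map_eq {T : Module.End F V} {W : Submodule F V} (h : W.map T = W) :
    W ∈ Module.End.invtSubmodule T := by
  rw [Module.End.mem_invtSubmodule, ← Submodule.map_le_iff_le_comap, h]

end general

variable {F : Type*} [Field F] [Fintype F] {p : ℕ} [Fact p.Prime] [CharP F p] {r : ℕ} [Fact r.Prime]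

section analysis

variable {V : Type*} [AddCommGroup V] [Module F V] [Finite V] {T : Module.End F V} {a t : ℕ}
  {D : Fin t → Submodule F V} {σ : Equiv.Perm (Fin t)}

/-- an element whose moved space is irreducible. -/
theorem block_of_single (hrp : r ≠ p) (hT : T ^ r = 1)
    (hmov : finrank F ↥(movS r T) = orderOf ((Fintype.card F : ℕ) : ZMod r)) (ha : 0 < a) (hD : Dec a D)
    (hσ : ∀ j, (D j).map T = D (σ j)) :
    (a = 1 ∧ orderOf ((Fintype.card F : ℕ) : ZMod r) = r - 1) ∨ orderOf ((Fintype.card F : ℕ) : ZMod r) ≤ a := by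
  have hfd : FiniteDimensional F V := Module.Finite.of_finite
  have hr : r.Prime := Fact.out
  have hr0 : (r : F) ≠ 0 := natCast_ne_zero_of_ne hrp
  have hcpos : 0 < orderOf ((Fintype.card F : ℕ) : ZMod r) := orderOf_q_pos hrp
  have hcdvd : orderOf ((Fintype.card F : ℕ) : ZMod r) ∣ r - 1 :=
    ZMod.orderOf_dvd_card_sub_one (card_natCast_ne_zero (F := F) hrp)
  have hdvd : ∀ W : Submodule F V, W ∈ Module.End.invtSubmodule T →
      orderOf ((Fintype.card F : ℕ) : ZMod r) ∣ finrank F ↥(W ⊓ movS r T) := by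
    intro W hW
    apply orderOf_dvd_finrank hT (Module.End.invtSubmodule.inf_mem hW (movS_invt r T))
    rw [eq_bot_iff, inf_assoc]
    refine le_trans inf_le_right ?_
    rw [inf_comm]
    exact le_of_eq (disjoint_fix_mov hr0 T).eq_bot
  generalize orderOf ((Fintype.card F : ℕ) : ZMod r) = c at *
  have hr1 : 0 < r - 1 := by have := hr.two_le; omega
  have hcle : c ≤ r - 1 := Nat.le_of_dvd hr1 hcdvd
  by_cases hmv : ∃ j₀, σ j₀ ≠ j₀
  · obtain ⟨j₀, hj₀⟩ := hmv
    obtain ⟨-, h2⟩ := moved_bounds hr hr0 hD.indep ha hD.dim hT hσ hj₀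
    rw [hmov] at h2
    left
    have h3 : a * (r - 1) ≤ r - 1 := h2.trans hcle
    have ha1 : a = 1 := by
      by_contra hne
      have h4 : 2 * (r - 1) ≤ a * (r - 1) := Nat.mul_le_mul_right _ (by omega)
      omega
    subst ha1
    rw [one_mul] at h2
    exact ⟨rfl, le_antisymm hcle h2⟩
  · push Not at hmv
    right
    have hinv : ∀ j, D j ∈ Module.End.invtSubmodule T := fun j => invt_of_map_eq (by rw [hσ, hmv])
    obtain ⟨-, h2⟩ := sum_fix_mov_eq hr0 hT hD.indep hD.top hinv
    rw [hmov] at h2
    have hex : ∃ j, 0 < finrank F ↥(D j ⊓ movS r T) := by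
      by_contra hno
      push Not at hno
      have : ∑ j, finrank F ↥(D j ⊓ movS r T) = 0 := Finset.sum_eq_zero (fun j _ => Nat.le_zero.mp (hno j))
      omega
    obtain ⟨j, hj⟩ := hex
    obtain ⟨k, hk⟩ := hdvd (D j) (hinv j)
    have h3 : finrank F ↥(D j ⊓ movS r T) ≤ a := by
      rw [← hD.dim j]
      exact Submodule.finrank_mono inf_le_left
    rw [hk] at hj h3
    have hk0 : 0 < k := Nat.pos_of_mul_pos_left hj
    exact (Nat.le_mul_of_pos_right c hk0).trans h3

/-- an element with a small fixed space, large blocks. -/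
theorem mod_of_small_fix (hrp : r ≠ p) (hT : T ^ r = 1)
    (hfix : finrank F ↥(fixS T) < orderOf ((Fintype.card F : ℕ) : ZMod r))
    (hca : orderOf ((Fintype.card F : ℕ) : ZMod r) ≤ a) (ha : 0 < a) (hD : Dec a D)
    (hσ : ∀ j, (D j).map T = D (σ j)) :
    t * (a % orderOf ((Fintype.card F : ℕ) : ZMod r)) = finrank F ↥(fixS T) := by
  have hfd : FiniteDimensional F V := Module.Finite.of_finite
  have hr : r.Prime := Fact.out
  have hr0 : (r : F) ≠ 0 := natCast_ne_zero_of_ne hrp
  have hmv : ∀ j, σ j = j := by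
    by_contra hno
    push Not at hno
    obtain ⟨j₀, hj₀⟩ := hno
    obtain ⟨h1, -⟩ := moved_bounds hr hr0 hD.indep ha hD.dim hT hσ hj₀
    omega
  have hinv : ∀ j, D j ∈ Module.End.invtSubmodule T := fun j => invt_of_map_eq (by rw [hσ, hmv])
  obtain ⟨h1, -⟩ := sum_fix_mov_eq hr0 hT hD.indep hD.top hinv
  rw [← h1]
  have h2 : ∀ j, finrank F ↥(D j ⊓ fixS T) = a % orderOf ((Fintype.card F : ℕ) : ZMod r) := by
    intro j
    rw [← finrank_mod_eq hrp hT hfix (hinv j), hD.dim j]
  rw [Finset.sum_congr rfl (fun j _ => h2 j), Finset.sum_const, Finset.card_univ, Fintype.card_fin, smul_eq_mul]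

/-- an element permuting lines. -/
theorem lines_of_all (hrp : r ≠ p) (hT : T ^ r = 1) (hi : orderOf ((Fintype.card F : ℕ) : ZMod r) ≠ 1)
    (hD : Dec 1 D) (hσ : ∀ j, (D j).map T = D (σ j)) : t ≤ r * finrank F ↥(fixS T) := by
  have hfd : FiniteDimensional F V := Module.Finite.of_finite
  have hr : r.Prime := Fact.out
  have hr0 : (r : F) ≠ 0 := natCast_ne_zero_of_ne hrp
  apply lines_bound hr hr0 hD.indep hD.dim hT hσ
  intro v c hv hTv
  apply eq_one_of_pow_eq_one (F := F) hr hi
  have h1 : ∀ k : ℕ, (T ^ k) v = c ^ k • v := by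
    intro k
    induction k with
    | zero => simp
    | succ k ih => rw [pow_succ', Module.End.mul_apply, ih, map_smul, hTv, smul_smul, pow_succ]
  have h2 := h1 r
  rw [hT, Module.End.one_apply] at h2
  have h3 : (c ^ r - 1) • v = 0 := by rw [sub_smul, one_smul, ← h2, sub_self]
  rcases smul_eq_zero.mp h3 with h | h
  · exact sub_eq_zero.mp h
  · exact absurd h hv

end analysis

end Cfsg.Agent.Helper7.LOrd
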