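import Mathlib
import Cfsg.Agent.Helper7.LOrdI

set_option autoImplicit false
set_option linter.unusedSectionVars false
set_option linter.unusedVariables false

/-!
Elements of odd prime order of `SL_n(q)` and decompositions into subspaces of equal dimension: assembly.
-/

namespace Cfsg.Agent.Helper7.LOrd

open Module Polynomial Cfsg.Agent.Helper7.POrd

variable {F : Type*} [Field F] [Fintype F] {p : ℕ} [Fact p.Prime] [CharP F p] {r : ℕ} [Fact r.Prime]

/-- **from all elements to the arithmetic condition.** -/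
theorem rhs_of_all (hrp : r ≠ p) {n a t : ℕ} (hat : n = a * t) (ha : 1 ≤ a)
    (hi : orderOf ((Fintype.card F : ℕ) : ZMod r) ≠ 1) (hcn : orderOf ((Fintype.card F : ℕ) : ZMod r) ≤ n)
    (hall : ∀ x : Matrix.SpecialLinearGroup (Fin n) F,
      ((x ^ r : Matrix.SpecialLinearGroup (Fin n) F) : Matrix (Fin n) (Fin n) F) = (1 : F) • 1 →
      (∀ z : F, (x : Matrix (Fin n) (Fin n) F) ≠ z • 1) →
      ∃ D : Fin t → Submodule F (Fin n → F), Dec a D ∧ ∃ σ : Equiv.Perm (Fin t),
        ∀ j, (D j).map (Matrix.toLin' (x : Matrix (Fin n) (Fin n) F)) = D (σ j)) :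
    (a = 1 ∧ 1 < orderOf ((Fintype.card F : ℕ) : ZMod r) ∧ orderOf ((Fintype.card F : ℕ) : ZMod r) = r - 1 ∧
        n ≤ (n % orderOf ((Fintype.card F : ℕ) : ZMod r)) * r) ∨
      (orderOf ((Fintype.card F : ℕ) : ZMod r) ≤ a ∧
        n % orderOf ((Fintype.card F : ℕ) : ZMod r) = t * (a % orderOf ((Fintype.card F : ℕ) : ZMod r))) := by
  have hr : r.Prime := Fact.out
  have hr0 : (r : F) ≠ 0 := natCast_ne_zero_of_ne hrp
  have hcpos : 0 < orderOf ((Fintype.card F : ℕ) : ZMod r) := orderOf_q_pos hrp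
  have hpow : ∀ x : Matrix.SpecialLinearGroup (Fin n) F,
      ((x ^ r : Matrix.SpecialLinearGroup (Fin n) F) : Matrix (Fin n) (Fin n) F) = (1 : F) • 1 →
      (Matrix.toLin' (x : Matrix (Fin n) (Fin n) F) : Module.End F (Fin n → F)) ^ r = 1 := by
    intro x hx
    rw [toLin'_pow_eq x hx, map_one]
  -- the second model
  obtain ⟨y₁, hy₁a, hy₁b, hy₁c⟩ := exists_model_cyclo_dim (F := F) hrp n hi
    (n / orderOf ((Fintype.card F : ℕ) : ZMod r)) (Nat.div_pos hcn hcpos) (Nat.mul_div_le n _)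
  have hfix₁ : finrank F ↥(fixS (Matrix.toLin' (y₁ : Matrix (Fin n) (Fin n) F) : Module.End F (Fin n → F))) =
      n % orderOf ((Fintype.card F : ℕ) : ZMod r) := by
    rw [hy₁c]
    have := Nat.div_add_mod n (orderOf ((Fintype.card F : ℕ) : ZMod r))
    omega
  obtain ⟨D₁, hD₁, σ₁, hσ₁⟩ := hall y₁ hy₁a hy₁b
  by_cases hca : orderOf ((Fintype.card F : ℕ) : ZMod r) ≤ a
  · right
    refine ⟨hca, ?_⟩
    have h := mod_of_small_fix hrp (hpow y₁ hy₁a) (by rw [hfix₁]; exact Nat.mod_lt _ hcpos) hca ha hD₁ hσ₁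
    rw [h, hfix₁]
  · left
    -- the first model
    obtain ⟨y₀, hy₀a, hy₀b, hy₀c⟩ := exists_model_cyclo_dim (F := F) hrp n hi 1 Nat.one_pos
      (by rw [mul_one]; exact hcn)
    obtain ⟨D₀, hD₀, σ₀, hσ₀⟩ := hall y₀ hy₀a hy₀b
    have hmov : finrank F ↥(movS r (Matrix.toLin' (y₀ : Matrix (Fin n) (Fin n) F) : Module.End F (Fin n → F))) =
        orderOf ((Fintype.card F : ℕ) : ZMod r) := by
      have h := finrank_fix_add_mov hr0 (hpow y₀ hy₀a)
      rw [hy₀c, Module.finrank_fin_fun, mul_one] at h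
      omega
    rcases block_of_single hrp (hpow y₀ hy₀a) hmov ha hD₀ hσ₀ with ⟨ha1, hcr⟩ | h
    · subst ha1
      refine ⟨rfl, by omega, hcr, ?_⟩
      have h := lines_of_all hrp (hpow y₁ hy₁a) hi hD₁ hσ₁
      rw [hfix₁] at h
      rw [hat, one_mul, mul_comm]
      rw [hat, one_mul] at h
      exact h
    · exact absurd h hca

theorem injective_of_pow_eq_scalar {V : Type*} [AddCommGroup V] [Module F V] {T : Module.End F V} {z : F}
    (hz0 : z ≠ 0) (hT : T ^ r = algebraMap F _ z) : Function.Injective T := by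
  have hr : r.Prime := Fact.out
  intro x y hxy
  have h1 : (T ^ r) x = (T ^ r) y := by
    have e : r = (r - 1) + 1 := (Nat.sub_add_cancel hr.pos).symm
    rw [e, pow_succ, Module.End.mul_apply, Module.End.mul_apply, hxy]
  rw [hT, Module.algebraMap_end_apply, Module.algebraMap_end_apply] at h1
  exact smul_right_injective V hz0 h1

/-- **from the arithmetic condition to all elements.** -/
theorem stab_of_rhs (hrp : r ≠ p) {n a t : ℕ} (hn : n ≠ 0) (hat : n = a * t) (ha : 1 ≤ a)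
    (hrhs : (a = 1 ∧ 1 < orderOf ((Fintype.card F : ℕ) : ZMod r) ∧
        orderOf ((Fintype.card F : ℕ) : ZMod r) = r - 1 ∧
        n ≤ (n % orderOf ((Fintype.card F : ℕ) : ZMod r)) * r) ∨
      (orderOf ((Fintype.card F : ℕ) : ZMod r) ≤ a ∧
        n % orderOf ((Fintype.card F : ℕ) : ZMod r) = t * (a % orderOf ((Fintype.card F : ℕ) : ZMod r))))
    (x : Matrix.SpecialLinearGroup (Fin n) F) {z : F}
    (hz : ((x ^ r : Matrix.SpecialLinearGroup (Fin n) F) : Matrix (Fin n) (Fin n) F) = z • 1) :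
    ∃ D : Fin t → Submodule F (Fin n → F), Dec a D ∧ ∃ σ : Equiv.Perm (Fin t),
      ∀ j, (D j).map (Matrix.toLin' (x : Matrix (Fin n) (Fin n) F)) = D (σ j) := by
  have hr : r.Prime := Fact.out
  have hr0 : (r : F) ≠ 0 := natCast_ne_zero_of_ne hrp
  have hcpos : 0 < orderOf ((Fintype.card F : ℕ) : ZMod r) := orderOf_q_pos hrp
  have hT₀ := toLin'_pow_eq x hz
  have hdim : finrank F (Fin n → F) = a * t := by rw [Module.finrank_fin_fun, hat]
  have hz0 : z ≠ 0 := by
    intro h0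
    have h1 : ((x ^ r : Matrix.SpecialLinearGroup (Fin n) F) : Matrix (Fin n) (Fin n) F).det = 1 := (x ^ r).2
    haveI : Nonempty (Fin n) := ⟨⟨0, Nat.pos_of_ne_zero hn⟩⟩
    rw [hz, h0, zero_smul, Matrix.det_zero] at h1
    exact zero_ne_one h1
  have hT₀inj := injective_of_pow_eq_scalar hz0 hT₀
  by_cases hpw : ∃ w : F, w ^ r = z
  · obtain ⟨w, rfl⟩ := hpw
    have hw : w ≠ 0 := by
      rintro rfl
      exact hz0 (zero_pow hr.ne_zero)
    have hT : (w⁻¹ • (Matrix.toLin' (x : Matrix (Fin n) (Fin n) F) : Module.End F (Fin n → F))) ^ r = 1 := by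
      rw [_root_.smul_pow, hT₀, Algebra.algebraMap_eq_smul_one, smul_smul, ← mul_pow, inv_mul_cancel₀ hw, one_pow,
        one_smul]
    have htr : ∀ W : Submodule F (Fin n → F),
        W.map (w⁻¹ • (Matrix.toLin' (x : Matrix (Fin n) (Fin n) F) : Module.End F (Fin n → F))) =
          W.map (Matrix.toLin' (x : Matrix (Fin n) (Fin n) F)) :=
      fun W => Submodule.map_smul _ W w⁻¹ (inv_ne_zero hw)
    rcases hrhs with ⟨ha1, hc1, hcr, hle⟩ | ⟨hca, hmod⟩
    · subst ha1
      have htn : t = n := by omega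
      subst htn
      obtain ⟨D, h1, h2, h3, σ, h4⟩ := exists_line_decomp hrp hT (Module.finrank_fin_fun F) hcr hle
      exact ⟨D, ⟨h1, h2, h3⟩, σ, fun j => by rw [← htr, h4]⟩
    · have hsum := finrank_fix_add_mov hr0 hT
      obtain ⟨m, hm⟩ := orderOf_dvd_finrank_movS hrp hT
      rw [hm, Module.finrank_fin_fun] at hsum
      have hmod' : t * (a % orderOf ((Fintype.card F : ℕ) : ZMod r)) ≤
          finrank F ↥(fixS (w⁻¹ • (Matrix.toLin' (x : Matrix (Fin n) (Fin n) F) : Module.End F (Fin n → F)))) := by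
        have h5 : n % orderOf ((Fintype.card F : ℕ) : ZMod r) =
            finrank F ↥(fixS (w⁻¹ • (Matrix.toLin' (x : Matrix (Fin n) (Fin n) F) : Module.End F (Fin n → F)))) %
              orderOf ((Fintype.card F : ℕ) : ZMod r) :=
          (congrArg (· % orderOf ((Fintype.card F : ℕ) : ZMod r)) hsum.symm).trans
            (Nat.add_mul_mod_self_left _ _ _)
        rw [← hmod, h5]
        exact Nat.mod_le _ _
      obtain ⟨D, h1, h2, h3, h4⟩ := exists_invt_decomp hrp hT hdim hmod'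
      refine ⟨D, ⟨h2, h3, h4⟩, 1, fun j => ?_⟩
      rw [← htr, map_eq_of_invt (injective_of_pow_eq_one hT) (h1 j)]
      rfl
  · push Not at hpw
    have hirr : Irreducible (X ^ r - C z : F[X]) := X_pow_sub_C_irreducible_of_prime hr hpw
    have hdeg : (X ^ r - C z : F[X]).natDegree = r := natDegree_X_pow_sub_C
    have hgT : aeval (Matrix.toLin' (x : Matrix (Fin n) (Fin n) F) : Module.End F (Fin n → F))
        (X ^ r - C z : F[X]) = 0 := by
      rw [map_sub, map_pow, aeval_X, aeval_C, hT₀, sub_self]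
    have hrn := natDegree_dvd_finrank hirr hgT (Module.End.invtSubmodule.top_mem _)
    rw [hdeg, finrank_top, hdim] at hrn
    rcases (Nat.Prime.dvd_mul hr).mp hrn with hra | hrt
    · obtain ⟨D, h1, h2, h3, h4⟩ := exists_decomp_nonpower_dvd hrp hpw hT₀ hdim hra
      refine ⟨D, ⟨h2, h3, h4⟩, 1, fun j => ?_⟩
      rw [map_eq_of_invt hT₀inj (h1 j)]
      rfl
    · obtain ⟨D, h1, h2, h3, σ, h4⟩ := exists_decomp_nonpower_rot hrp hpw hT₀ hdim hrt
      exact ⟨D, ⟨h1, h2, h3⟩, σ, h4⟩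

end Cfsg.Agent.Helper7.LOrd
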