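import Mathlib
import Cfsg.Prelude.Def_Sporadic
import Cfsg.Agent.Helper1.M11j
import Cfsg.Agent.Helper7.M11_Cent

/-!
# M11 cluster (helper7): C10, group side, in the architect's shape
(DUPLICATE of helper1's `Helper1/M11_C10g.lean`, kept under `h7_` names to avoid a clash;
on top of helper1's `M11j`: conjugate the order-10 element so that its square normalizes a given
Sylow 11-subgroup), plus `no_invert` and the bound `|C(u)| ≤ 720` for involutions.
-/

set_option autoImplicit false

namespace Cfsg.Agent.Helper2.M11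

open Subgroup
open scoped Pointwise

/-- the order of a centralizer is invariant under conjugation -/
theorem h7_card_centralizer_conj {G : Type*} [Group G] (g x : G) :
    Nat.card ↥(centralizer ({g * x * g⁻¹} : Set G)) = Nat.card ↥(centralizer ({x} : Set G)) := by
  refine Nat.card_congr
    { toFun := fun c => ⟨g⁻¹ * c * g, ?_⟩
      invFun := fun d => ⟨g * d * g⁻¹, ?_⟩
      left_inv := fun c => by apply Subtype.ext; simp only; group
      right_inv := fun d => by apply Subtype.ext; simp only; group }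
  · have hc := mem_centralizer_singleton_iff.mp c.2
    rw [mem_centralizer_singleton_iff]
    calc g⁻¹ * (c : G) * g * x = g⁻¹ * ((c : G) * (g * x * g⁻¹)) * g := by group
      _ = g⁻¹ * ((g * x * g⁻¹) * (c : G)) * g := by rw [hc]
      _ = x * (g⁻¹ * (c : G) * g) := by group
  · have hd := mem_centralizer_singleton_iff.mp d.2
    rw [mem_centralizer_singleton_iff]
    calc g * (d : G) * g⁻¹ * (g * x * g⁻¹) = g * ((d : G) * x) * g⁻¹ := by group
      _ = g * (x * (d : G)) * g⁻¹ := by rw [hd]
      _ = g * x * g⁻¹ * (g * (d : G) * g⁻¹) := by group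

/-- C10, group side (architect's shape). -/
theorem h7_exists_order10 {G : Type*} [Group G] [Finite G] (hG : Cfsg.IsM11 G) (P : Sylow 11 G)
    (h : ∃ Q : Sylow 5 G, centralizer ((Q : Subgroup G) : Set G) ≠ (Q : Subgroup G)) :
    ∃ z : G, orderOf z = 10 ∧ z ^ 2 ∈ normalizer ((P : Subgroup G) : Set G) ∧
      (∀ j ∈ ({1, 3, 7, 9} : Finset ℕ), Nat.card (centralizer ({z ^ j} : Set G)) = 10) := by
  have hp5 : Fact (Nat.Prime 5) := ⟨by norm_num⟩
  have hp11 : Fact (Nat.Prime 11) := ⟨by norm_num⟩
  obtain ⟨hs, hc⟩ := hG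
  obtain ⟨Q, hQ⟩ := h
  obtain ⟨z, hz10, hz2, hzC⟩ := exists_order_ten_of_centralizer_sylow5_ne hs hc Q hQ
  -- a Sylow 5-subgroup inside N(P)
  have hN55 := card_normalizer_sylow11 hs hc P
  obtain ⟨q1, hq1⟩ := exists_prime_orderOf_dvd_card'
    (G := ↥(normalizer ((P : Subgroup G) : Set G))) 5 (by rw [hN55]; norm_num)
  have hq1' : orderOf (q1 : G) = 5 := by rw [Subgroup.orderOf_coe]; exact hq1
  obtain ⟨Q1, hQ1⟩ := h1_exists_sylow5_eq_zpowers hc (q1 : G) hq1'
  have hQ1N : (Q1 : Subgroup G) ≤ normalizer ((P : Subgroup G) : Set G) := by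
    rw [hQ1, zpowers_le]; exact q1.2
  obtain ⟨g, hg⟩ := MulAction.exists_smul_eq G Q Q1
  refine ⟨g * z * g⁻¹, ?_, ?_, ?_⟩
  · have := (MulAut.conj g).orderOf_eq z
    rw [MulAut.conj_apply] at this
    rw [this, hz10]
  · rw [conj_pow]
    apply hQ1N
    rw [← hg]
    have hmem : MulAut.conj g • (z ^ 2) ∈ MulAut.conj g • (Q : Subgroup G) :=
      Subgroup.smul_mem_pointwise_smul _ _ _ hz2
    rw [MulAut.smul_def, MulAut.conj_apply] at hmem
    exact hmem
  · intro j hj
    rw [conj_pow, h7_card_centralizer_conj]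
    apply hzC
    simp only [Finset.mem_insert, Finset.mem_singleton] at hj
    rcases hj with rfl | rfl | rfl | rfl <;> decide

/-- no involution inverts an element of order 11 -/
theorem h7_no_invert {G : Type*} [Group G] [Finite G] (hG : Cfsg.IsM11 G) (s : G)
    (hs11 : orderOf s = 11) (g : G) (hg : orderOf g = 2) : g * s * g⁻¹ ≠ s⁻¹ :=
  not_inverts_eleven hG.1 hG.2 g s hg hs11

/-- the centralizer of an involution has order dividing 720 -/
theorem h7_card_centralizer_involution_dvd_720 {G : Type*} [Group G] [Finite G]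
    (hG : Cfsg.IsM11 G) (u : G) (hu : orderOf u = 2) :
    Nat.card ↥(centralizer ({u} : Set G)) ∣ 720 := by
  have hp11 : Fact (Nat.Prime 11) := ⟨by norm_num⟩
  obtain ⟨hs, hc⟩ := hG
  have hu1 : u ≠ 1 := by intro h; rw [h, orderOf_one] at hu; omega
  have h11 := h7_not_dvd_card_centralizer (p := 11) (by rw [hc]; norm_num)
    (by rw [hc]; norm_num) (fun P => centralizer_sylow11 hs hc P) u hu1 (by rw [hu]; norm_num)
  have hdvd : Nat.card ↥(centralizer ({u} : Set G)) ∣ 7920 := by
    rw [← hc]; exact Subgroup.card_subgroup_dvd_card _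
  have hcop : Nat.Coprime (Nat.card ↥(centralizer ({u} : Set G))) 11 :=
    (Nat.Coprime.symm ((Nat.Prime.coprime_iff_not_dvd (by norm_num)).mpr h11))
  have h7920 : (7920 : ℕ) = 720 * 11 := by norm_num
  rw [h7920] at hdvd
  exact hcop.dvd_of_dvd_mul_right hdvd

theorem h7_card_centralizer_involution_le_720 {G : Type*} [Group G] [Finite G]
    (hG : Cfsg.IsM11 G) (u : G) (hu : orderOf u = 2) :
    Nat.card ↥(centralizer ({u} : Set G)) ≤ 720 :=
  Nat.le_of_dvd (by norm_num) (h7_card_centralizer_involution_dvd_720 hG u hu)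

end Cfsg.Agent.Helper2.M11
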