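import Mathlib
import Cfsg.Prelude.Def_Sporadic
import Cfsg.Agent.Helper6.IrrBasis
import Cfsg.Agent.Helper7.M11_Table

/-!
# M11 cluster (helper7): the Case A table in raw form, with ONE enumeration shared by all
involutions (`caseA_raw`), and the conjugacy of all involutions.
-/

set_option autoImplicit false

namespace Cfsg.Agent.Helper2.M11

open scoped ComplexConjugate Pointwise
open Subgroup

universe u

variable {G : Type u} [Group G]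

/-- raw table, strong form: one enumeration for all involutions, all values at involutions -/
theorem h7_caseA_raw_strong [Fintype G] [Fintype (Cfsg.IrrCharacter G)] (hG : Cfsg.IsM11 G)
    (P : Sylow 11 G) (A : CaseA (P : Subgroup G))
    (hC5 : ∀ Q : Sylow 5 G, Subgroup.centralizer ((Q : Subgroup G) : Set G) = (Q : Subgroup G)) :
    ∃ (e : Fin 10 ≃ Cfsg.IrrCharacter G) (q : G),
      (∀ i, Cfsg.charDegree ((e i : Cfsg.IrrCharacter G) : G → ℂ) =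
        (![1, 10, 10, 10, 11, 16, 16, 44, 45, 55] : Fin 10 → ℕ) i) ∧
      e 0 = triv G ∧ e 1 = A.X₁ ∧ e 2 = A.X₂ ∧ e 3 = A.X₃ ∧ e 5 = A.Λ₀ ∧ e 6 = A.Λ₁ ∧
      e 8 = A.Y ∧ orderOf q = 5 ∧ IsConj q (q ^ 2) ∧
      (∀ i, ((e i : Cfsg.IrrCharacter G) : G → ℂ) q =
        (((![1, 0, 0, 0, 1, 1, 1, -1, 0, 0] : Fin 10 → ℤ) i : ℤ) : ℂ)) ∧
      ∀ w : G, orderOf w = 2 → ∃ a : Fin 10 → ℤ,
        (∀ i, ((e i : Cfsg.IrrCharacter G) : G → ℂ) w = (a i : ℂ)) ∧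
        a 0 = 1 ∧
        ((a 1 = 2 ∧ a 2 = -2 ∧ a 3 = -2) ∨ (a 1 = -2 ∧ a 2 = 2 ∧ a 3 = -2) ∨
          (a 1 = -2 ∧ a 2 = -2 ∧ a 3 = 2)) ∧
        a 4 = 3 ∧ a 5 = 0 ∧ a 6 = 0 ∧ a 7 = 4 ∧ a 8 = -3 ∧ a 9 = -1 ∧
        Nat.card (Subgroup.centralizer ({w} : Set G)) = 48 := by
  classical
  have hp5 : Fact (Nat.Prime 5) := ⟨by norm_num⟩
  obtain ⟨e, hdeg, he0, he1, he2, he3, he5, he6, he8⟩ := h7_caseA_enum hG A hC5
  obtain ⟨q0, hq0⟩ := exists_prime_orderOf_dvd_card' (G := G) 5 (by rw [hG.2]; norm_num)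
  have hqval := h7_qval hG hC5 e hdeg
  refine ⟨e, q0, hdeg, he0, he1, he2, he3, he5, he6, he8, hq0,
    (order5_facts hG hC5 q0 hq0).2, hqval q0 hq0, ?_⟩
  intro w hw
  obtain ⟨hY, hΛ₀, hΛ₁, hperm⟩ := h7_caseA_u hG P A hC5 w hw
  choose a ha using fun i => h7_involution_value (e i) w hw
  have ha' : ∀ i, ((e i : Cfsg.IrrCharacter G) : G → ℂ) w = (a i : ℂ) := fun i => (ha i).1
  have htriv : ∀ g : G, ((triv G : Cfsg.IrrCharacter G) : G → ℂ) g = 1 := fun g => rfl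
  have a0 : a 0 = 1 := by
    have h := ha' 0
    rw [he0, htriv] at h
    exact_mod_cast h.symm
  have a5 : a 5 = 0 := by
    have h := ha' 5
    rw [he5, hΛ₀] at h
    exact_mod_cast h.symm
  have a6 : a 6 = 0 := by
    have h := ha' 6
    rw [he6, hΛ₁] at h
    exact_mod_cast h.symm
  have a8 : a 8 = -3 := by
    have h := ha' 8
    rw [he8, hY] at h
    exact_mod_cast h.symm
  have h1 := ha' 1
  have h2 := ha' 2
  have h3 := ha' 3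
  rw [he1] at h1
  rw [he2] at h2
  rw [he3] at h3
  have hperm' : (a 1 = 2 ∧ a 2 = -2 ∧ a 3 = -2) ∨ (a 1 = -2 ∧ a 2 = 2 ∧ a 3 = -2) ∨
      (a 1 = -2 ∧ a 2 = -2 ∧ a 3 = 2) := by
    rcases hperm with ⟨p1, p2, p3⟩ | ⟨p1, p2, p3⟩ | ⟨p1, p2, p3⟩
    · left
      rw [p1] at h1; rw [p2] at h2; rw [p3] at h3
      exact ⟨by exact_mod_cast h1.symm, by exact_mod_cast h2.symm, by exact_mod_cast h3.symm⟩
    · right; left
      rw [p1] at h1; rw [p2] at h2; rw [p3] at h3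
      exact ⟨by exact_mod_cast h1.symm, by exact_mod_cast h2.symm, by exact_mod_cast h3.symm⟩
    · right; right
      rw [p1] at h1; rw [p2] at h2; rw [p3] at h3
      exact ⟨by exact_mod_cast h1.symm, by exact_mod_cast h2.symm, by exact_mod_cast h3.symm⟩
  have hw1 : w ≠ 1 := by
    intro h; rw [h, orderOf_one] at hw; omega
  have hwq : ¬ IsConj w q0 := by
    intro h
    obtain ⟨c, hc⟩ := h
    have : orderOf q0 = 2 := by rw [← hc.orderOf_eq]; exact hw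
    omega
  have hdvd := card_centralizer_involution_dvd_144 hG hC5 w hw
  have hs10 : a 1 + a 2 + a 3 = -2 := by
    rcases hperm' with ⟨p1, p2, p3⟩ | ⟨p1, p2, p3⟩ | ⟨p1, p2, p3⟩ <;> rw [p1, p2, p3] <;> norm_num
  have hq10 : a 1 ^ 2 + a 2 ^ 2 + a 3 ^ 2 = 12 := by
    rcases hperm' with ⟨p1, p2, p3⟩ | ⟨p1, p2, p3⟩ | ⟨p1, p2, p3⟩ <;> rw [p1, p2, p3] <;> norm_num
  obtain ⟨h48, a4, a7, a9⟩ := h7_table_u_values e hdeg q0 (hqval q0 hq0) w hw1 hwq a ha' a0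
    hs10 hq10 a5 a6 a8 hdvd
  exact ⟨a, ha', a0, hperm', a4, a5, a6, a7, a8, a9, h48⟩

/-- raw table in the shape requested by helper5 (one enumeration shared by all involutions) -/
theorem caseA_raw [Finite G] (hG : Cfsg.IsM11 G) (P : Sylow 11 G)
    (A : CaseA (P : Subgroup G))
    (hC5 : ∀ Q : Sylow 5 G, Subgroup.centralizer ((Q : Subgroup G) : Set G) = (Q : Subgroup G)) :
    ∃ (e : Fin 10 ≃ Cfsg.IrrCharacter G) (q : G),
      (∀ i, Cfsg.charDegree ((e i : Cfsg.IrrCharacter G) : G → ℂ) =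
        (![1, 10, 10, 10, 11, 16, 16, 44, 45, 55] : Fin 10 → ℕ) i) ∧
      e 0 = triv G ∧ e 1 = A.X₁ ∧ e 2 = A.X₂ ∧ e 3 = A.X₃ ∧ e 5 = A.Λ₀ ∧ e 6 = A.Λ₁ ∧
      e 8 = A.Y ∧ orderOf q = 5 ∧ IsConj q (q ^ 2) ∧
      (∀ i, ((e i : Cfsg.IrrCharacter G) : G → ℂ) q =
        (((![1, 0, 0, 0, 1, 1, 1, -1, 0, 0] : Fin 10 → ℤ) i : ℤ) : ℂ)) ∧
      ∀ u : G, orderOf u = 2 → ∃ a : Fin 10 → ℤ,
        (∀ i, ((e i : Cfsg.IrrCharacter G) : G → ℂ) u = (a i : ℂ)) ∧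
        a 1 + a 2 + a 3 = -2 ∧ a 1 ^ 2 + a 2 ^ 2 + a 3 ^ 2 = 12 ∧ a 5 = 0 ∧ a 6 = 0 ∧ a 8 = -3 ∧
        Nat.card (Subgroup.centralizer ({u} : Set G)) = 48 := by
  classical
  haveI : Fintype G := Fintype.ofFinite G
  haveI : Finite (Cfsg.IrrCharacter G) := Cfsg.Agent.Helper6.irr_finite
  haveI : Fintype (Cfsg.IrrCharacter G) := Fintype.ofFinite _
  obtain ⟨e, q, hdeg, he0, he1, he2, he3, he5, he6, he8, hq, hq2, vq, hall⟩ :=
    h7_caseA_raw_strong hG P A hC5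
  refine ⟨e, q, hdeg, he0, he1, he2, he3, he5, he6, he8, hq, hq2, vq, ?_⟩
  intro u hu
  obtain ⟨a, ha, _, hperm, _, a5, a6, _, a8, _, h48⟩ := hall u hu
  refine ⟨a, ha, ?_, ?_, a5, a6, a8, h48⟩
  · rcases hperm with ⟨p1, p2, p3⟩ | ⟨p1, p2, p3⟩ | ⟨p1, p2, p3⟩ <;> rw [p1, p2, p3] <;> norm_num
  · rcases hperm with ⟨p1, p2, p3⟩ | ⟨p1, p2, p3⟩ | ⟨p1, p2, p3⟩ <;> rw [p1, p2, p3] <;> norm_num

/-- all involutions of a simple group of order 7920 are conjugate (Case A, `C(Q5) = Q5`) -/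
theorem involutions_isConj_caseA [Finite G] (hG : Cfsg.IsM11 G) (P : Sylow 11 G)
    (A : CaseA (P : Subgroup G))
    (hC5 : ∀ Q : Sylow 5 G, Subgroup.centralizer ((Q : Subgroup G) : Set G) = (Q : Subgroup G))
    (u u' : G) (hu : orderOf u = 2) (hu' : orderOf u' = 2) : IsConj u u' := by
  classical
  haveI : Fintype G := Fintype.ofFinite G
  haveI : Finite (Cfsg.IrrCharacter G) := Cfsg.Agent.Helper6.irr_finite
  haveI : Fintype (Cfsg.IrrCharacter G) := Fintype.ofFinite _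
  obtain ⟨e, q, hdeg, he0, he1, he2, he3, he5, he6, he8, hq, hq2, vq, hall⟩ :=
    h7_caseA_raw_strong hG P A hC5
  obtain ⟨a, ha, a0, hperm, a4, a5, a6, a7, a8, a9, _⟩ := hall u hu
  obtain ⟨b, hb, b0, hpermb, b4, b5, b6, b7, b8, b9, _⟩ := hall u' hu'
  by_contra hne
  have c1 := Cfsg.Agent.Helper6.column_orthogonality_aux u u'
  rw [if_neg hne, h7_sum_fin10 e] at c1
  simp only [ha, hb, map_intCast] at c1
  have c1' : a 0 * b 0 + a 1 * b 1 + a 2 * b 2 + a 3 * b 3 + a 4 * b 4 + a 5 * b 5 + a 6 * b 6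
      + a 7 * b 7 + a 8 * b 8 + a 9 * b 9 = 0 := by
    have h : ((a 0 * b 0 + a 1 * b 1 + a 2 * b 2 + a 3 * b 3 + a 4 * b 4 + a 5 * b 5 + a 6 * b 6
      + a 7 * b 7 + a 8 * b 8 + a 9 * b 9 : ℤ) : ℂ) = 0 := by
      push_cast
      linear_combination c1
    exact_mod_cast h
  rw [a0, a4, a5, a6, a7, a8, a9, b0, b4, b5, b6, b7, b8, b9] at c1'
  rcases hperm with ⟨p1, p2, p3⟩ | ⟨p1, p2, p3⟩ | ⟨p1, p2, p3⟩ <;>
  rcases hpermb with ⟨r1, r2, r3⟩ | ⟨r1, r2, r3⟩ | ⟨r1, r2, r3⟩ <;>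
  (rw [p1, p2, p3, r1, r2, r3] at c1'; norm_num at c1')

end Cfsg.Agent.Helper2.M11
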