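import Mathlib

/-!
# McLaughlin's theorem, part A: algebra of transvections

`tv φ v` is the (total) transvection `x ↦ x + φ x • v`, which is the identity when `φ v ≠ 0`.
-/

set_option autoImplicit false

namespace Cfsg.Agent.Helper7.McL

open Module

variable {F V : Type*} [Field F] [AddCommGroup V] [Module F V]

open scoped Classical in
/-- Total transvection: `x ↦ x + φ x • v` when `φ v = 0`, identity otherwise. -/
noncomputable def tv (φ : Dual F V) (v : V) : V ≃ₗ[F] V :=
  if h : φ v = 0 then LinearEquiv.transvection h else 1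

theorem tv_eq {φ : Dual F V} {v : V} (h : φ v = 0) :
    tv φ v = LinearEquiv.transvection h := dif_pos h

theorem tv_apply {φ : Dual F V} {v : V} (h : φ v = 0) (x : V) :
    tv φ v x = x + φ x • v := by
  rw [tv_eq h]; rfl

@[simp] theorem tv_zero_left (v : V) : tv (0 : Dual F V) v = 1 := by
  ext x; rw [tv_apply (by simp)]; simp

@[simp] theorem tv_zero_right (φ : Dual F V) : tv φ (0 : V) = 1 := by
  ext x; rw [tv_apply (by simp)]; simp

theorem tv_mul_center {φ ψ : Dual F V} {v : V} (hφ : φ v = 0) (hψ : ψ v = 0) :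
    tv φ v * tv ψ v = tv (φ + ψ) v := by
  have h : (φ + ψ) v = 0 := by simp [hφ, hψ]
  ext x
  rw [LinearEquiv.mul_apply, tv_apply hψ, tv_apply hφ, tv_apply h]
  simp only [map_add, map_smul, hφ, smul_eq_mul, mul_zero, add_zero, LinearMap.add_apply]
  module

theorem tv_mul_axis {φ : Dual F V} {v w : V} (hv : φ v = 0) (hw : φ w = 0) :
    tv φ v * tv φ w = tv φ (v + w) := by
  have h : φ (v + w) = 0 := by simp [hv, hw]
  ext x
  rw [LinearEquiv.mul_apply, tv_apply hw, tv_apply hv, tv_apply h]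
  simp only [map_add, map_smul, hw, smul_eq_mul, mul_zero, add_zero]
  module

theorem tv_inv {φ : Dual F V} {v : V} (h : φ v = 0) : (tv φ v)⁻¹ = tv (-φ) v := by
  have h' : (-φ) v = 0 := by simp [h]
  rw [inv_eq_iff_mul_eq_one, tv_mul_center h h']
  simp

theorem tv_inv' {φ : Dual F V} {v : V} (h : φ v = 0) : (tv φ v)⁻¹ = tv φ (-v) := by
  have h' : φ (-v) = 0 := by simp [h]
  rw [inv_eq_iff_mul_eq_one, tv_mul_axis h h']
  simp

theorem tv_smul (c : F) (φ : Dual F V) (v : V) : tv (c • φ) v = tv φ (c • v) := by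
  by_cases hc : c = 0
  · subst hc; simp
  by_cases h : φ v = 0
  · have h1 : (c • φ) v = 0 := by simp [h]
    have h2 : φ (c • v) = 0 := by simp [h]
    ext x
    rw [tv_apply h1, tv_apply h2]
    simp only [LinearMap.smul_apply, smul_eq_mul]
    module
  · have h1 : (c • φ) v ≠ 0 := by simp [h, hc]
    have h2 : φ (c • v) ≠ 0 := by simp [h, hc]
    rw [tv, tv, dif_neg h1, dif_neg h2]

theorem tv_pow {φ : Dual F V} {v : V} (h : φ v = 0) (n : ℕ) :
    (tv φ v) ^ n = tv ((n : F) • φ) v := by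
  induction n with
  | zero => simp
  | succ n ih =>
    have h1 : ((n : F) • φ) v = 0 := by simp [h]
    rw [pow_succ, ih, tv_mul_center h1 h]
    congr 1
    push_cast
    module

theorem tv_conj (g : V ≃ₗ[F] V) {φ : Dual F V} {v : V} (h : φ v = 0) :
    g * tv φ v * g⁻¹ = tv (φ ∘ₗ (g⁻¹ : V ≃ₗ[F] V).toLinearMap) (g v) := by
  have h' : (φ ∘ₗ (g⁻¹ : V ≃ₗ[F] V).toLinearMap) (g v) = 0 := by
    simp [h]
  ext x
  rw [LinearEquiv.mul_apply, LinearEquiv.mul_apply, tv_apply h, tv_apply h']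
  simp

theorem tv_commute {φ ψ : Dual F V} {v w : V} (hv : φ v = 0) (hw : ψ w = 0)
    (h1 : φ w = 0) (h2 : ψ v = 0) : tv φ v * tv ψ w = tv ψ w * tv φ v := by
  ext x
  simp only [LinearEquiv.mul_apply, tv_apply hv, tv_apply hw, map_add, map_smul, h1, h2,
    smul_eq_mul, mul_zero, add_zero]
  module

/-- Commutator rule. -/
theorem tv_commutator {φ ψ : Dual F V} {v w : V} (hv : φ v = 0) (hw : ψ w = 0)
    (h2 : ψ v = 0) :
    tv φ v * tv ψ w * (tv φ v)⁻¹ * (tv ψ w)⁻¹ = tv (φ w • ψ) v := by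
  have h3 : (φ w • ψ) v = 0 := by simp [h2]
  rw [mul_inv_eq_iff_eq_mul, mul_inv_eq_iff_eq_mul]
  ext x
  simp only [LinearEquiv.mul_apply, tv_apply hv, tv_apply hw, tv_apply h3, map_add, map_smul, h2,
    hw, smul_eq_mul, mul_zero, add_zero, LinearMap.smul_apply]
  module

theorem tv_eq_one_iff {φ : Dual F V} {v : V} (h : φ v = 0) :
    tv φ v = 1 ↔ φ = 0 ∨ v = 0 := by
  constructor
  · intro h1
    by_contra hcon
    push Not at hcon
    obtain ⟨x, hx⟩ : ∃ x, φ x ≠ 0 := by
      by_contra hne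
      push Not at hne
      exact hcon.1 (LinearMap.ext hne)
    have := congrArg (fun g : V ≃ₗ[F] V => g x) h1
    simp only [tv_apply h, LinearEquiv.coe_one, id_eq, add_eq_left, smul_eq_zero] at this
    rcases this with h2 | h2
    · exact hx h2
    · exact hcon.2 h2
  · rintro (h1 | h1)
    · subst h1; simp
    · subst h1; simp

theorem tv_injective_left {φ ψ : Dual F V} {v : V} (hv : v ≠ 0) (h1 : φ v = 0) (h2 : ψ v = 0)
    (h : tv φ v = tv ψ v) : φ = ψ := by
  ext x
  have := congrArg (fun g : V ≃ₗ[F] V => g x) h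
  simp only [tv_apply h1, tv_apply h2, add_right_inj] at this
  have h3 : (φ x - ψ x) • v = 0 := by rw [sub_smul, this, sub_self]
  rcases smul_eq_zero.mp h3 with h4 | h4
  · exact sub_eq_zero.mp h4
  · exact absurd h4 hv

end Cfsg.Agent.Helper7.McL
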