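import Cfsg.Agent.Helper7.McLA

/-!
# McLaughlin's theorem, part B: transvections in a subgroup, centers, arrows
-/

set_option autoImplicit false

namespace Cfsg.Agent.Helper7.McL

open Module

variable {F V : Type*} [Field F] [AddCommGroup V] [Module F V]
variable (H : Subgroup (V ≃ₗ[F] V))

/-- The transvection with axis `φ` and center `v` belongs to `H`. -/
def Rl (φ : Dual F V) (v : V) : Prop := φ v = 0 ∧ tv φ v ∈ H

variable {H}

theorem Rl.zero_left (v : V) : Rl H (0 : Dual F V) v := ⟨by simp, by simp [H.one_mem]⟩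

theorem Rl.zero_right (φ : Dual F V) : Rl H φ (0 : V) := ⟨by simp, by simp [H.one_mem]⟩

theorem Rl.add_left {φ ψ : Dual F V} {v : V} (h1 : Rl H φ v) (h2 : Rl H ψ v) :
    Rl H (φ + ψ) v :=
  ⟨by simp [h1.1, h2.1], by rw [← tv_mul_center h1.1 h2.1]; exact H.mul_mem h1.2 h2.2⟩

theorem Rl.add_right {φ : Dual F V} {v w : V} (h1 : Rl H φ v) (h2 : Rl H φ w) :
    Rl H φ (v + w) :=
  ⟨by simp [h1.1, h2.1], by rw [← tv_mul_axis h1.1 h2.1]; exact H.mul_mem h1.2 h2.2⟩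

theorem Rl.neg_left {φ : Dual F V} {v : V} (h1 : Rl H φ v) : Rl H (-φ) v :=
  ⟨by simp [h1.1], by rw [← tv_inv h1.1]; exact H.inv_mem h1.2⟩

theorem Rl.neg_right {φ : Dual F V} {v : V} (h1 : Rl H φ v) : Rl H φ (-v) :=
  ⟨by simp [h1.1], by rw [← tv_inv' h1.1]; exact H.inv_mem h1.2⟩

theorem Rl.sub_left {φ ψ : Dual F V} {v : V} (h1 : Rl H φ v) (h2 : Rl H ψ v) :
    Rl H (φ - ψ) v := by
  rw [sub_eq_add_neg]; exact h1.add_left h2.neg_left

theorem Rl.sub_right {φ : Dual F V} {v w : V} (h1 : Rl H φ v) (h2 : Rl H φ w) :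
    Rl H φ (v - w) := by
  rw [sub_eq_add_neg]; exact h1.add_right h2.neg_right

theorem Rl.smul_comm {φ : Dual F V} {v : V} {c : F} : Rl H (c • φ) v ↔ Rl H φ (c • v) := by
  unfold Rl
  rw [tv_smul]
  simp

theorem Rl.conj {φ : Dual F V} {v : V} {g : V ≃ₗ[F] V} (hg : g ∈ H) (h1 : Rl H φ v) :
    Rl H (φ ∘ₗ (g⁻¹ : V ≃ₗ[F] V).toLinearMap) (g v) :=
  ⟨by simp [h1.1], by
    rw [← tv_conj g h1.1]; exact H.mul_mem (H.mul_mem hg h1.2) (H.inv_mem hg)⟩

/-- Commutator rule. -/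
theorem Rl.comm_rule {φ ψ : Dual F V} {v w : V} (h1 : Rl H φ v) (h2 : Rl H ψ w)
    (h : ψ v = 0) : Rl H (φ w • ψ) v :=
  ⟨by simp [h], by
    rw [← tv_commutator h1.1 h2.1 h]
    exact H.mul_mem (H.mul_mem (H.mul_mem h1.2 h2.2) (H.inv_mem h1.2)) (H.inv_mem h2.2)⟩

variable (H)

/-- Standing hypotheses. -/
structure Hyp : Prop where
  full : ∀ (φ : Dual F V) (v : V) (c : F), Rl H φ v → Rl H (c • φ) v
  np : ∀ (Y : Submodule F V), (∀ h ∈ H, ∀ y ∈ Y, h y ∈ Y) → ∀ g ∈ H,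
    (∀ y ∈ Y, g y = y) → (∀ x, g x - x ∈ Y) → g = 1
  gen : H = Subgroup.closure {g | ∃ (φ : Dual F V) (v : V), Rl H φ v ∧ g = tv φ v}

variable {H}

theorem Hyp.smul_right (hH : Hyp H) {φ : Dual F V} {v : V} (c : F) (h : Rl H φ v) :
    Rl H φ (c • v) := Rl.smul_comm.mp (hH.full φ v c h)

theorem Hyp.of_smul_right (hH : Hyp H) {φ : Dual F V} {v : V} {c : F} (hc : c ≠ 0)
    (h : Rl H φ (c • v)) : Rl H φ v := by
  have := hH.smul_right c⁻¹ h
  rwa [smul_smul, inv_mul_cancel₀ hc, one_smul] at this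

theorem Hyp.of_smul_left (hH : Hyp H) {φ : Dual F V} {v : V} {c : F} (hc : c ≠ 0)
    (h : Rl H (c • φ) v) : Rl H φ v := by
  have := hH.full _ _ c⁻¹ h
  rwa [smul_smul, inv_mul_cancel₀ hc, one_smul] at this

/-- Commutator rule with fullness. -/
theorem Hyp.comm_rule (hH : Hyp H) {φ ψ : Dual F V} {v w : V} (h1 : Rl H φ v) (h2 : Rl H ψ w)
    (h : ψ v = 0) (h' : φ w ≠ 0) : Rl H ψ v :=
  hH.of_smul_left h' (h1.comm_rule h2 h)

/-- Axes of transvections in `H` with center `v`. -/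
def Ax (hH : Hyp H) (v : V) : Submodule F (Dual F V) where
  carrier := {φ | Rl H φ v}
  add_mem' := fun h1 h2 => h1.add_left h2
  zero_mem' := Rl.zero_left v
  smul_mem' := fun c _ h => hH.full _ _ c h

@[simp] theorem mem_Ax (hH : Hyp H) {v : V} {φ : Dual F V} : φ ∈ Ax hH v ↔ Rl H φ v := Iff.rfl

/-- Centers of transvections in `H` with axis `φ`. -/
def Ce (hH : Hyp H) (φ : Dual F V) : Submodule F V where
  carrier := {v | Rl H φ v}
  add_mem' := fun h1 h2 => h1.add_right h2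
  zero_mem' := Rl.zero_right φ
  smul_mem' := fun c _ h => hH.smul_right c h

@[simp] theorem mem_Ce (hH : Hyp H) {v : V} {φ : Dual F V} : v ∈ Ce hH φ ↔ Rl H φ v := Iff.rfl

variable (H)

/-- `v` is the center of a nontrivial transvection in `H`. -/
def IsC (v : V) : Prop := v ≠ 0 ∧ ∃ φ : Dual F V, φ ≠ 0 ∧ Rl H φ v

/-- Some transvection of `H` centered at `v` moves `w`. -/
def Arr (v w : V) : Prop := ∃ φ : Dual F V, Rl H φ v ∧ φ w ≠ 0

variable {H}

theorem IsC.ne_zero {v : V} (h : IsC H v) : v ≠ 0 := h.1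

theorem IsC.conj {v : V} {g : V ≃ₗ[F] V} (hg : g ∈ H) (h : IsC H v) : IsC H (g v) := by
  obtain ⟨hv, φ, hφ, h1⟩ := h
  refine ⟨by simpa using hv, _, ?_, h1.conj hg⟩
  intro h0
  apply hφ
  ext x
  have := congrArg (fun ψ : Dual F V => ψ (g x)) h0
  simpa using this

theorem IsC.smul (hH : Hyp H) {v : V} {c : F} (hc : c ≠ 0) (h : IsC H v) : IsC H (c • v) := by
  obtain ⟨hv, φ, hφ, h1⟩ := h
  exact ⟨smul_ne_zero hc hv, φ, hφ, hH.smul_right c h1⟩

theorem IsC.of_Rl {φ : Dual F V} {v : V} (h : Rl H φ v) (hφ : φ ≠ 0) (hv : v ≠ 0) : IsC H v :=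
  ⟨hv, φ, hφ, h⟩

theorem Arr.conj {v w : V} {g : V ≃ₗ[F] V} (hg : g ∈ H) (h : Arr H v w) :
    Arr H (g v) (g w) := by
  obtain ⟨φ, h1, h2⟩ := h
  exact ⟨_, h1.conj hg, by simpa using h2⟩

theorem Arr.of_conj {v w : V} {g : V ≃ₗ[F] V} (hg : g ∈ H) (h : Arr H (g v) (g w)) :
    Arr H v w := by
  have := h.conj (H.inv_mem hg)
  simpa using this

theorem Arr.smul_left (hH : Hyp H) {v w : V} (c : F) (h : Arr H v w) : Arr H (c • v) w := by
  obtain ⟨φ, h1, h2⟩ := h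
  exact ⟨φ, hH.smul_right c h1, h2⟩

theorem Arr.smul_right {v w : V} {c : F} (hc : c ≠ 0) (h : Arr H v w) : Arr H v (c • w) := by
  obtain ⟨φ, h1, h2⟩ := h
  exact ⟨φ, h1, by simp [hc, h2]⟩

theorem Arr.of_smul_left (hH : Hyp H) {v w : V} {c : F} (hc : c ≠ 0) (h : Arr H (c • v) w) :
    Arr H v w := by
  obtain ⟨φ, h1, h2⟩ := h
  exact ⟨φ, hH.of_smul_right hc h1, h2⟩

theorem Arr.of_smul_right {v w : V} {c : F} (h : Arr H v (c • w)) : Arr H v w := by
  obtain ⟨φ, h1, h2⟩ := h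
  refine ⟨φ, h1, fun h0 => h2 (by simp [h0])⟩

/-- Centers are permuted by `H`; the span of all centers is `H`-invariant. (NP1) -/
theorem Hyp.np1 (hH : Hyp H) {φ : Dual F V} {v : V} (h : Rl H φ v) (hφ : φ ≠ 0) (hv : v ≠ 0) :
    ∃ w, IsC H w ∧ φ w ≠ 0 := by
  by_contra hcon
  push Not at hcon
  have hone : tv φ v = 1 := by
    refine hH.np (Submodule.span F {w | IsC H w}) ?_ _ h.2 ?_ ?_
    · intro g hg y hy
      induction hy using Submodule.span_induction with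
      | mem x hx => exact Submodule.subset_span (hx.conj hg)
      | zero => simp
      | add x y _ _ hx hy => rw [map_add]; exact Submodule.add_mem _ hx hy
      | smul c x _ hx => rw [map_smul]; exact Submodule.smul_mem _ c hx
    · intro y hy
      have : φ y = 0 := by
        induction hy using Submodule.span_induction with
        | mem x hx => exact hcon x hx
        | zero => simp
        | add x y _ _ hx hy => rw [map_add, hx, hy, add_zero]
        | smul c x _ hx => rw [map_smul, hx, smul_zero]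
      rw [tv_apply h.1, this, zero_smul, add_zero]
    · intro x
      rw [tv_apply h.1, add_sub_cancel_left]
      exact Submodule.smul_mem _ _ (Submodule.subset_span (IsC.of_Rl h hφ hv))
  rcases (tv_eq_one_iff h.1).mp hone with h0 | h0
  · exact hφ h0
  · exact hv h0

/-- (D1) If `v → w` but not `w → v`, then every axis at `w` is an axis at `v`. -/
theorem Hyp.d1 (hH : Hyp H) {v w : V} (h1 : Arr H v w) (h2 : ¬ Arr H w v)
    {ψ : Dual F V} (hψ : Rl H ψ w) : Rl H ψ v := by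
  obtain ⟨φ, hφ, hφw⟩ := h1
  have : ψ v = 0 := by
    by_contra h0
    exact h2 ⟨ψ, hψ, h0⟩
  exact hH.comm_rule hφ hψ this hφw

/-- `SL₂`-conjugacy: if `v → w` and `w → v` then some element of `H` maps `v` to a nonzero
multiple of `w`. -/
theorem Hyp.sl2 (hH : Hyp H) {v w : V} (h1 : Arr H v w) (h2 : Arr H w v) :
    ∃ g ∈ H, ∃ c : F, c ≠ 0 ∧ g v = c • w := by
  obtain ⟨φ, hφ, hφw⟩ := h1
  obtain ⟨ψ, hψ, hψv⟩ := h2
  -- t₁ = tv ψ w, t₂ = tv (d • φ) v with d * ψ v * φ w = -1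
  set d : F := -(ψ v * φ w)⁻¹ with hd
  have hφ' : Rl H (d • φ) v := hH.full _ _ d hφ
  refine ⟨tv (d • φ) v * tv ψ w, H.mul_mem hφ'.2 hψ.2, ψ v, hψv, ?_⟩
  rw [LinearEquiv.mul_apply, tv_apply hψ.1, tv_apply hφ'.1]
  simp only [map_add, map_smul, LinearMap.smul_apply, smul_eq_mul, hφ.1, mul_zero, zero_add]
  have : d * (ψ v * φ w) = -1 := by
    rw [hd, neg_mul, inv_mul_cancel₀ (mul_ne_zero hψv hφw)]
  have e : v + ψ v • w + (ψ v * (d * φ w)) • v = ψ v • w := by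
    have e2 : ψ v * (d * φ w) = -1 := by rw [← this]; ring
    rw [e2]; module
  exact e

theorem Ax_smul (hH : Hyp H) {v : V} {c : F} (hc : c ≠ 0) : Ax hH (c • v) = Ax hH v := by
  ext φ
  simp only [mem_Ax]
  exact ⟨fun h => hH.of_smul_right hc h, fun h => hH.smul_right c h⟩

theorem Ax_conj (hH : Hyp H) {v : V} {g : V ≃ₗ[F] V} (hg : g ∈ H) :
    Ax hH (g v) = (Ax hH v).map ((g⁻¹ : V ≃ₗ[F] V).dualMap : Dual F V →ₗ[F] Dual F V) := by
  ext φ
  simp only [mem_Ax, Submodule.mem_map]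
  constructor
  · intro h
    refine ⟨φ ∘ₗ (g : V ≃ₗ[F] V).toLinearMap, ?_, ?_⟩
    · have := h.conj (H.inv_mem hg)
      simpa using this
    · ext x; simp
  · rintro ⟨ψ, hψ, rfl⟩
    have := hψ.conj hg
    exact this

theorem finrank_Ax_conj (hH : Hyp H) {v : V} {g : V ≃ₗ[F] V} (hg : g ∈ H) :
    finrank F (Ax hH (g v)) = finrank F (Ax hH v) := by
  rw [Ax_conj hH hg]
  exact LinearEquiv.finrank_map_eq (g⁻¹ : V ≃ₗ[F] V).dualMap (Ax hH v)

/-- Mutually adjacent centers have axis spaces of the same dimension. -/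
theorem finrank_Ax_eq_of_Arr (hH : Hyp H) {v w : V} (h1 : Arr H v w) (h2 : Arr H w v) :
    finrank F (Ax hH w) = finrank F (Ax hH v) := by
  obtain ⟨g, hg, c, hc, hgv⟩ := hH.sl2 h1 h2
  rw [← finrank_Ax_conj hH hg (v := v), hgv, Ax_smul hH hc]

end Cfsg.Agent.Helper7.McL
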