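import Cfsg.Agent.Helper7.McLB

/-!
# McLaughlin's theorem, part C: symmetry of arrows between centers
-/

set_option autoImplicit false

namespace Cfsg.Agent.Helper7.McL

open Module

variable {F V : Type*} [Field F] [AddCommGroup V] [Module F V] [FiniteDimensional F V]
variable {H : Subgroup (V ≃ₗ[F] V)}

/-- `H` permutes the centers with a given dimension of the axis space; NP for their span. -/
theorem Hyp.npk (hH : Hyp H) (k : ℕ) {φ : Dual F V} {v : V} (h : Rl H φ v) (hφ : φ ≠ 0)
    (hv : v ≠ 0) (hk : finrank F (Ax hH v) = k) :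
    ∃ w, IsC H w ∧ finrank F (Ax hH w) = k ∧ φ w ≠ 0 := by
  by_contra hcon
  push Not at hcon
  have hone : tv φ v = 1 := by
    refine hH.np (Submodule.span F {w | IsC H w ∧ finrank F (Ax hH w) = k}) ?_ _ h.2 ?_ ?_
    · intro g hg y hy
      induction hy using Submodule.span_induction with
      | mem x hx => exact Submodule.subset_span ⟨hx.1.conj hg, by rw [finrank_Ax_conj hH hg]; exact hx.2⟩
      | zero => simp
      | add x y _ _ hx hy => rw [map_add]; exact Submodule.add_mem _ hx hy
      | smul c x _ hx => rw [map_smul]; exact Submodule.smul_mem _ c hx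
    · intro y hy
      have : φ y = 0 := by
        induction hy using Submodule.span_induction with
        | mem x hx => exact hcon x hx.1 hx.2
        | zero => simp
        | add x y _ _ hx hy => rw [map_add, hx, hy, add_zero]
        | smul c x _ hx => rw [map_smul, hx, smul_zero]
      rw [tv_apply h.1, this, zero_smul, add_zero]
    · intro x
      rw [tv_apply h.1, add_sub_cancel_left]
      exact Submodule.smul_mem _ _ (Submodule.subset_span ⟨IsC.of_Rl h hφ hv, hk⟩)
  rcases (tv_eq_one_iff h.1).mp hone with h0 | h0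
  · exact hφ h0
  · exact hv h0

/-- Strictness in (D1). -/
theorem Hyp.d1_lt (hH : Hyp H) {v w : V} (h1 : Arr H v w) (h2 : ¬ Arr H w v) :
    finrank F (Ax hH w) < finrank F (Ax hH v) := by
  apply Submodule.finrank_lt_finrank_of_lt
  refine lt_of_le_of_ne (fun ψ hψ => hH.d1 h1 h2 hψ) ?_
  intro heq
  obtain ⟨φ, hφ, hφw⟩ := h1
  have : φ ∈ Ax hH w := by rw [heq]; exact hφ
  exact hφw this.1

theorem Hyp.sym_aux (hH : Hyp H) (n : ℕ) : ∀ v w : V, IsC H v → IsC H w →
    finrank F (Ax hH v) + n = finrank F (Dual F V) → (Arr H v w ∨ Arr H w v) →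
    Arr H v w ∧ Arr H w v ∧ finrank F (Ax hH w) = finrank F (Ax hH v) := by
  induction n using Nat.strong_induction_on with
  | _ n ih =>
  intro v w hv hw hn hadj
  set k := finrank F (Ax hH v) with hk
  -- Claim A
  have claimA : ∀ x y : V, IsC H x → IsC H y → finrank F (Ax hH x) = k → Arr H y x →
      Arr H x y ∧ finrank F (Ax hH y) = k := by
    intro x y hx hy hxk hyx
    have hle : finrank F (Ax hH y) ≤ k := by
      by_contra hlt
      push Not at hlt
      have hD : finrank F (Ax hH y) ≤ finrank F (Dual F V) := Submodule.finrank_le _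
      have := ih (finrank F (Dual F V) - finrank F (Ax hH y)) (by omega) y x hy hx (by omega)
        (Or.inl hyx)
      omega
    have hxy : Arr H x y := by
      by_contra hxy
      have := hH.d1_lt hyx hxy
      omega
    exact ⟨hxy, by rw [finrank_Ax_eq_of_Arr hH hxy hyx, hxk]⟩
  -- Claim C
  have claimC : ∀ x u : V, IsC H x → IsC H u → finrank F (Ax hH x) = k → Arr H x u →
      Arr H u x ∧ finrank F (Ax hH u) = k := by
    intro x u hx hu hxk hxu
    by_cases hux : Arr H u x
    · exact ⟨hux, (claimA x u hx hu hxk hux).2⟩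
    · exfalso
      obtain ⟨hu0, ψ, hψ0, hψ⟩ := hu
      have hψx : Rl H ψ x := hH.d1 hxu hux hψ
      obtain ⟨y, hy, hyk, hψy⟩ := hH.npk k hψx hψ0 hx.1 hxk
      have huy : Arr H u y := ⟨ψ, hψ, hψy⟩
      have hu : IsC H u := ⟨hu0, ψ, hψ0, hψ⟩
      have h1 := claimA y u hy hu hyk huy
      have h2 := claimA u x hu hx h1.2 hxu
      exact hux h2.1
  rcases hadj with h | h
  · have := claimC v w hv hw rfl h
    exact ⟨h, this.1, this.2⟩
  · have := claimA v w hv hw rfl h
    exact ⟨this.1, h, this.2⟩

/-- Arrows between centers are symmetric. -/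
theorem Hyp.arr_symm (hH : Hyp H) {v w : V} (hv : IsC H v) (hw : IsC H w) (h : Arr H v w) :
    Arr H w v := by
  have hD : finrank F (Ax hH v) ≤ finrank F (Dual F V) := Submodule.finrank_le _
  exact (hH.sym_aux (finrank F (Dual F V) - finrank F (Ax hH v)) v w hv hw (by omega)
    (Or.inl h)).2.1

/-- Adjacent centers have axis spaces of the same dimension. -/
theorem Hyp.finrank_Ax_of_arr (hH : Hyp H) {v w : V} (hv : IsC H v) (hw : IsC H w)
    (h : Arr H v w) : finrank F (Ax hH w) = finrank F (Ax hH v) :=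
  finrank_Ax_eq_of_Arr hH h (hH.arr_symm hv hw h)

/-- (D4) An axis at `u` killing an adjacent center `v` is an axis at `v`. -/
theorem Hyp.d4 (hH : Hyp H) {u v : V} (hu : IsC H u) (hv : IsC H v) (h : Arr H u v)
    {φ : Dual F V} (hφ : Rl H φ u) (hφv : φ v = 0) : Rl H φ v := by
  obtain ⟨ψ, hψ, hψu⟩ := hH.arr_symm hu hv h
  exact hH.comm_rule hψ hφ hφv hψu

end Cfsg.Agent.Helper7.McL
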