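import Cfsg.Agent.Helper7.McLC

/-!
# McLaughlin's theorem, part D: cliques of centers and the growth lemma
-/

set_option autoImplicit false

namespace Cfsg.Agent.Helper7.McL

open Module

variable {F V : Type*} [Field F] [AddCommGroup V] [Module F V]
variable {H : Subgroup (V ≃ₗ[F] V)}

theorem mem_sup_span_iff {S : Submodule F V} {w x : V} :
    x ∈ S ⊔ Submodule.span F {w} ↔ ∃ s ∈ S, ∃ c : F, x = s + c • w := by
  rw [Submodule.mem_sup]
  constructor
  · rintro ⟨y, hy, z, hz, rfl⟩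
    obtain ⟨a, rfl⟩ := Submodule.mem_span_singleton.mp hz
    exact ⟨y, hy, a, rfl⟩
  · rintro ⟨s, hs, c, rfl⟩
    exact ⟨s, hs, c • w, Submodule.mem_span_singleton.mpr ⟨c, rfl⟩, rfl⟩

variable (H)

/-- A subspace all of whose nonzero vectors are centers, any two independent ones adjacent. -/
def Clique (S : Submodule F V) : Prop :=
  (∀ s ∈ S, s ≠ 0 → IsC H s) ∧
    (∀ s ∈ S, s ≠ 0 → ∀ t ∈ S, ¬ Arr H s t → ∃ c : F, t = c • s)

variable {H}

/-- A transvection of `H` centered at `s` moving `w` to `w + s`. -/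
theorem Hyp.exists_move (hH : Hyp H) {s w : V} (h : Arr H s w) :
    ∃ φ : Dual F V, Rl H φ s ∧ φ w = 1 := by
  obtain ⟨φ, hφ, hφw⟩ := h
  exact ⟨(φ w)⁻¹ • φ, hH.full _ _ _ hφ, by simp [hφw]⟩

theorem arr_add_smul_right {v t : V} (d : F) (h : Arr H v t) : Arr H v (t + d • v) := by
  obtain ⟨φ, hφ, hφt⟩ := h
  exact ⟨φ, hφ, by simpa [hφ.1] using hφt⟩

variable [FiniteDimensional F V]

/-- Growth lemma. -/
theorem Hyp.clique_grow (hH : Hyp H) {S : Submodule F V} (hS : Clique H S) {w : V}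
    (hw : IsC H w) (hadj : ∀ s ∈ S, s ≠ 0 → Arr H s w) :
    Clique H (S ⊔ Submodule.span F {w}) := by
  obtain ⟨hS1, hS2⟩ := hS
  -- the moving transvections
  have hmove : ∀ s ∈ S, s ≠ 0 → ∃ g ∈ H, g w = w + s ∧
      (∀ y ∈ S ⊔ Submodule.span F {w}, g⁻¹ y ∈ S ⊔ Submodule.span F {w}) ∧
      (∀ y ∈ S, g⁻¹ y ∈ S) ∧ (∀ y ∈ S, y ≠ 0 → g⁻¹ y ≠ 0) := by
    intro s hs hs0
    obtain ⟨φ, hφ, hφw⟩ := hH.exists_move (hadj s hs hs0)
    refine ⟨tv φ s, hφ.2, by rw [tv_apply hφ.1, hφw, one_smul], ?_, ?_, ?_⟩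
    · intro y hy
      rw [tv_inv hφ.1, tv_apply (by simp [hφ.1])]
      exact Submodule.add_mem _ hy (Submodule.smul_mem _ _ (Submodule.mem_sup_left hs))
    · intro y hy
      rw [tv_inv hφ.1, tv_apply (by simp [hφ.1])]
      exact Submodule.add_mem _ hy (Submodule.smul_mem _ _ hs)
    · intro y _ hy0 h0
      exact hy0 (by simpa using h0)
  -- the case x = w
  have hcase_w : ∀ y ∈ S ⊔ Submodule.span F {w}, ¬ Arr H w y → ∃ d : F, y = d • w := by
    intro y hy hwy
    obtain ⟨t, ht, d, rfl⟩ := mem_sup_span_iff.mp hy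
    have ht0 : t = 0 := by
      by_contra ht0
      have h1 : Arr H w t := hH.arr_symm (hS1 t ht ht0) hw (hadj t ht ht0)
      exact hwy (arr_add_smul_right d h1)
    exact ⟨d, by rw [ht0, zero_add]⟩
  -- centers of the form w + s
  have hcen : ∀ s ∈ S, IsC H (w + s) := by
    intro s hs
    by_cases hs0 : s = 0
    · rw [hs0, add_zero]; exact hw
    obtain ⟨g, hg, hgw, -⟩ := hmove s hs hs0
    rw [← hgw]; exact hw.conj hg
  have hadd : ∀ s ∈ S, ∀ y ∈ S ⊔ Submodule.span F {w}, ¬ Arr H (w + s) y →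
      ∃ d : F, y = d • (w + s) := by
    intro s hs y hy hn
    by_cases hs0 : s = 0
    · rw [hs0, add_zero] at hn ⊢; exact hcase_w y hy hn
    obtain ⟨g, hg, hgw, hgS', -, -⟩ := hmove s hs hs0
    have h1 : ¬ Arr H w (g⁻¹ y) := by
      intro h2
      apply hn
      have := h2.conj hg
      rwa [hgw, ← LinearEquiv.mul_apply, mul_inv_cancel, LinearEquiv.coe_one, id_eq] at this
    obtain ⟨d, hd⟩ := hcase_w _ (hgS' y hy) h1
    refine ⟨d, ?_⟩
    have : y = g (g⁻¹ y) := by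
      rw [← LinearEquiv.mul_apply, mul_inv_cancel, LinearEquiv.coe_one, id_eq]
    rw [this, hd, map_smul, hgw]
  refine ⟨?_, ?_⟩
  · intro x hx hx0
    obtain ⟨s, hs, c, rfl⟩ := mem_sup_span_iff.mp hx
    by_cases hc : c = 0
    · subst hc
      simp only [zero_smul, add_zero] at hx0 ⊢
      exact hS1 s hs hx0
    · have : s + c • w = c • (w + c⁻¹ • s) := by
        rw [smul_add, smul_smul, mul_inv_cancel₀ hc, one_smul, add_comm]
      rw [this]
      exact (hcen _ (S.smul_mem _ hs)).smul hH hc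
  · intro x hx hx0 y hy hn
    obtain ⟨s, hs, c, rfl⟩ := mem_sup_span_iff.mp hx
    by_cases hc : c = 0
    · subst hc
      simp only [zero_smul, add_zero] at hx0 hn ⊢
      -- x = s ∈ S
      obtain ⟨t, ht, d, rfl⟩ := mem_sup_span_iff.mp hy
      by_cases hd : d = 0
      · subst hd
        simp only [zero_smul, add_zero] at hn ⊢
        exact hS2 s hs hx0 t ht hn
      · exfalso
        apply hn
        have e : t + d • w = d • (w + d⁻¹ • t) := by
          rw [smul_add, smul_smul, mul_inv_cancel₀ hd, one_smul, add_comm]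
        rw [e]
        apply Arr.smul_right hd
        set t' := d⁻¹ • t with ht'
        have ht'S : t' ∈ S := S.smul_mem _ ht
        by_cases ht0 : t' = 0
        · rw [ht0, add_zero]; exact hadj s hs hx0
        obtain ⟨g, hg, hgw, -, hgS, hgne⟩ := hmove t' ht'S ht0
        have h1 : Arr H (g⁻¹ s) w := hadj _ (hgS s hs) (hgne s hs hx0)
        have := h1.conj hg
        rwa [hgw, ← LinearEquiv.mul_apply, mul_inv_cancel, LinearEquiv.coe_one, id_eq] at this
    · have e : s + c • w = c • (w + c⁻¹ • s) := by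
        rw [smul_add, smul_smul, mul_inv_cancel₀ hc, one_smul, add_comm]
      rw [e] at hn ⊢
      have hn' : ¬ Arr H (w + c⁻¹ • s) y := fun h => hn (h.smul_left hH c)
      obtain ⟨d, hd⟩ := hadd _ (S.smul_mem _ hs) y hy hn'
      exact ⟨d * c⁻¹, by rw [smul_smul, mul_assoc, inv_mul_cancel₀ hc, mul_one, hd]⟩

end Cfsg.Agent.Helper7.McL

namespace Cfsg.Agent.Helper7.McL

open Module

variable {F V : Type*} [Field F] [AddCommGroup V] [Module F V]

/-- Complete structure: `S ∖ 0` is a full class of centers, `N` contains all other centers. -/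
structure CS (H : Subgroup (V ≃ₗ[F] V)) (S N : Submodule F V) : Prop where
  compl : IsCompl S N
  cen : ∀ s ∈ S, s ≠ 0 → IsC H s
  ax_N : ∀ s ∈ S, s ≠ 0 → ∀ φ : Dual F V, Rl H φ s → ∀ z ∈ N, φ z = 0
  all : ∀ w, IsC H w → w ∈ S ∨ w ∈ N
  type : (∀ s ∈ S, s ≠ 0 → ∀ φ : Dual F V, (∀ z ∈ N, φ z = 0) → φ s = 0 → Rl H φ s) ∨
    (∃ B : LinearMap.BilinForm F V, B.IsAlt ∧ (∀ x, B x = 0 ↔ x ∈ N) ∧
      ∀ s ∈ S, s ≠ 0 → ∀ φ : Dual F V, Rl H φ s ↔ ∃ c : F, φ = c • B s)

end Cfsg.Agent.Helper7.McL
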