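import Cfsg.Agent.Helper7.McLD

/-!
# McLaughlin's theorem, part E: the linear case (axis spaces of dimension at least two)
-/

set_option autoImplicit false

namespace Cfsg.Agent.Helper7.McL

open Module

variable {F V : Type*} [Field F] [AddCommGroup V] [Module F V] [FiniteDimensional F V]
variable {H : Subgroup (V ≃ₗ[F] V)}

omit [FiniteDimensional F V] in
theorem clique_bot : Clique H (⊥ : Submodule F V) :=
  ⟨fun s hs hs0 => absurd ((Submodule.mem_bot F).mp hs) hs0,
    fun s hs hs0 => absurd ((Submodule.mem_bot F).mp hs) hs0⟩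

theorem Hyp.clique_span (hH : Hyp H) {u : V} (hu : IsC H u) :
    Clique H (Submodule.span F {u}) := by
  have := hH.clique_grow clique_bot hu
    (fun s hs hs0 => absurd ((Submodule.mem_bot F).mp hs) hs0)
  rwa [bot_sup_eq] at this

variable (H) in
/-- Maximal clique. -/
def MaxClique (S : Submodule F V) : Prop :=
  Clique H S ∧ ∀ S', Clique H S' → S ≤ S' → S' = S

theorem Hyp.exists_maxClique (hH : Hyp H) {u : V} (hu : IsC H u) :
    ∃ S, MaxClique H S ∧ u ∈ S := by
  have hne : {S : Submodule F V | Clique H S ∧ u ∈ S}.Nonempty :=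
    ⟨Submodule.span F {u}, hH.clique_span hu, Submodule.mem_span_singleton_self u⟩
  obtain ⟨S, hS, hmax⟩ := WellFounded.has_min (wellFounded_gt (α := Submodule F V)) _ hne
  refine ⟨S, ⟨hS.1, fun S' hS' hle => ?_⟩, hS.2⟩
  by_contra hne'
  exact hmax S' ⟨hS', hle hS.2⟩ (lt_of_le_of_ne hle (Ne.symm hne'))

/-- In a clique, an axis killing the clique is an axis at every point of it. -/
theorem Hyp.clique_common_axis (hH : Hyp H) {S : Submodule F V} (hS : Clique H S) {s₀ : V}
    (hs₀ : s₀ ∈ S) (hs₀0 : s₀ ≠ 0) {φ : Dual F V} (hφ : Rl H φ s₀)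
    (h0 : ∀ t ∈ S, φ t = 0) : ∀ s ∈ S, Rl H φ s := by
  intro s hs
  by_cases hs0 : s = 0
  · rw [hs0]; exact Rl.zero_right φ
  by_cases harr : Arr H s₀ s
  · exact hH.d4 (hS.1 s₀ hs₀ hs₀0) (hS.1 s hs hs0) harr hφ (h0 s hs)
  · obtain ⟨c, rfl⟩ := hS.2 s₀ hs₀ hs₀0 s hs harr
    exact hH.smul_right c hφ

theorem MaxClique.ax_inj (hH : Hyp H) {S : Submodule F V} (hS : MaxClique H S) {s : V}
    (hs : s ∈ S) (hs0 : s ≠ 0) {φ : Dual F V} (hφ : Rl H φ s) (h0 : ∀ t ∈ S, φ t = 0) :
    φ = 0 := by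
  by_contra hφ0
  have hall := hH.clique_common_axis hS.1 hs hs0 hφ h0
  obtain ⟨w, hw, hφw⟩ := hH.np1 hφ hφ0 hs0
  have hgrow := hH.clique_grow hS.1 hw (fun t ht _ => ⟨φ, hall t ht, hφw⟩)
  have := hS.2 _ hgrow le_sup_left
  have hwS : w ∈ S := by
    rw [← this]
    exact Submodule.mem_sup_right (Submodule.mem_span_singleton_self w)
  exact hφw (h0 w hwS)

/-- In a clique, every functional on `S` killing `s` is the restriction of an axis at `s`. -/
theorem Clique.exists_axis (hH : Hyp H) {S : Submodule F V} (hS : Clique H S) {s : V}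
    (hs : s ∈ S) (hs0 : s ≠ 0) (ξ : Dual F S) (hξ : ξ ⟨s, hs⟩ = 0) :
    ∃ φ : Dual F V, Rl H φ s ∧ ∀ t : S, φ t = ξ t := by
  set R : Submodule F (Dual F S) := (Ax hH s).map S.dualRestrict with hR
  have h1 : R.dualCoannihilator ≤ Submodule.span F {(⟨s, hs⟩ : S)} := by
    intro x hx
    rw [Submodule.mem_dualCoannihilator] at hx
    have : ¬ Arr H s x := by
      rintro ⟨φ, hφ, hφx⟩
      exact hφx (hx (S.dualRestrict φ) (Submodule.mem_map_of_mem hφ))
    obtain ⟨c, hc⟩ := hS.2 s hs hs0 x x.2 this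
    exact Submodule.mem_span_singleton.mpr ⟨c, Subtype.ext (by simp [hc])⟩
  have h2 : ξ ∈ R := by
    rw [← Subspace.dualCoannihilator_dualAnnihilator_eq (W := R)]
    apply Submodule.dualAnnihilator_anti h1
    rw [Submodule.mem_dualAnnihilator]
    intro y hy
    obtain ⟨c, rfl⟩ := Submodule.mem_span_singleton.mp hy
    rw [map_smul, hξ, smul_zero]
  obtain ⟨φ, hφ, rfl⟩ := h2
  exact ⟨φ, hφ, fun t => rfl⟩

omit [FiniteDimensional F V] in
theorem exists_common_ker {S : Submodule F V} [FiniteDimensional F S] (h3 : 3 ≤ finrank F S)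
    (φ ψ : Dual F V) : ∃ s ∈ S, s ≠ 0 ∧ φ s = 0 ∧ ψ s = 0 := by
  let f : S →ₗ[F] F × F := (φ.prod ψ) ∘ₗ S.subtype
  have : LinearMap.ker f ≠ ⊥ := LinearMap.ker_ne_bot_of_finrank_lt (by
    rw [Module.finrank_prod, Module.finrank_self]; omega)
  obtain ⟨x, hx, hx0⟩ := Submodule.exists_mem_ne_zero_of_ne_bot this
  have hx' : φ x = 0 ∧ ψ x = 0 := by
    have := LinearMap.mem_ker.mp hx
    simpa [f, Prod.ext_iff] using this
  exact ⟨x, x.2, by simpa using hx0, hx'.1, hx'.2⟩

omit [FiniteDimensional F V] in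
theorem exists_not_mem_span {S : Submodule F V} [FiniteDimensional F S] (h2 : 2 ≤ finrank F S)
    (s : V) : ∃ t ∈ S, t ∉ Submodule.span F {s} := by
  by_contra hcon
  push Not at hcon
  have hle : S ≤ Submodule.span F {s} := hcon
  have := Submodule.finrank_mono hle
  have h1 : finrank F (Submodule.span F {s}) ≤ 1 := by
    have := finrank_span_le_card (R := F) ({s} : Set V)
    simpa using this
  omega

/-- The union of the axis spaces over a maximal clique of dimension at least three is closed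
under addition. -/
theorem MaxClique.union_closed (hH : Hyp H) {S : Submodule F V} (hS : MaxClique H S)
    (h3 : 3 ≤ finrank F S) :
    ∀ φ ∈ Submodule.span F {φ : Dual F V | ∃ s ∈ S, s ≠ 0 ∧ Rl H φ s},
      ∃ s ∈ S, s ≠ 0 ∧ Rl H φ s := by
  intro φ hφ
  induction hφ using Submodule.span_induction with
  | mem x hx => exact hx
  | zero =>
    obtain ⟨s, hs, hs0, -⟩ := exists_common_ker h3 0 0
    exact ⟨s, hs, hs0, Rl.zero_left s⟩
  | add x y _ _ hx hy =>
    obtain ⟨s₁, hs₁, hs₁0, h1⟩ := hx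
    obtain ⟨s₂, hs₂, hs₂0, h2⟩ := hy
    obtain ⟨s₃, hs₃, hs₃0, hx3, hy3⟩ := exists_common_ker h3 x y
    have key : ∀ (s : V), s ∈ S → s ≠ 0 → ∀ φ : Dual F V, Rl H φ s → φ s₃ = 0 →
        Rl H φ s₃ := by
      intro s hs hs0 φ hφ hφ3
      by_cases harr : Arr H s s₃
      · exact hH.d4 (hS.1.1 s hs hs0) (hS.1.1 s₃ hs₃ hs₃0) harr hφ hφ3
      · obtain ⟨c, rfl⟩ := hS.1.2 s hs hs0 s₃ hs₃ harr
        exact hH.smul_right c hφ
    exact ⟨s₃, hs₃, hs₃0, (key s₁ hs₁ hs₁0 x h1 hx3).add_left (key s₂ hs₂ hs₂0 y h2 hy3)⟩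
  | smul c x _ hx =>
    obtain ⟨s, hs, hs0, h⟩ := hx
    exact ⟨s, hs, hs0, hH.full _ _ c h⟩

variable (H) in
/-- The span of all axes at nonzero points of `S`. -/
def axSpan (S : Submodule F V) : Submodule F (Dual F V) :=
  Submodule.span F {φ : Dual F V | ∃ s ∈ S, s ≠ 0 ∧ Rl H φ s}

variable (H) in
/-- The common kernel of all axes at nonzero points of `S`. -/
def axN (S : Submodule F V) : Submodule F V := (axSpan H S).dualCoannihilator

omit [FiniteDimensional F V] in
theorem mem_axN {S : Submodule F V} {z : V} :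
    z ∈ axN H S ↔ ∀ s ∈ S, s ≠ 0 → ∀ φ : Dual F V, Rl H φ s → φ z = 0 := by
  rw [axN, Submodule.mem_dualCoannihilator]
  constructor
  · intro h s hs hs0 φ hφ
    exact h φ (Submodule.subset_span ⟨s, hs, hs0, hφ⟩)
  · intro h φ hφ
    induction hφ using Submodule.span_induction with
    | mem x hx =>
      obtain ⟨s, hs, hs0, hx⟩ := hx
      exact h s hs hs0 x hx
    | zero => simp
    | add x y _ _ hx hy => rw [LinearMap.add_apply, hx, hy, add_zero]
    | smul c x _ hx => rw [LinearMap.smul_apply, hx, smul_zero]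

theorem MaxClique.disjoint_axN {S : Submodule F V} (hS : MaxClique H S)
    (h2 : 2 ≤ finrank F S) : S ⊓ axN H S = ⊥ := by
  rw [eq_bot_iff]
  intro x hx
  rw [Submodule.mem_bot]
  by_contra hx0
  obtain ⟨hxS, hxN⟩ := Submodule.mem_inf.mp hx
  obtain ⟨t, ht, htx⟩ := exists_not_mem_span h2 x
  have ht0 : t ≠ 0 := by
    rintro rfl
    exact htx (Submodule.zero_mem _)
  have hn : ¬ Arr H t x := by
    rintro ⟨φ, hφ, hφx⟩
    exact hφx (mem_axN.mp hxN t ht ht0 φ hφ)
  obtain ⟨c, hc⟩ := hS.1.2 t ht ht0 x hxS hn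
  have hc0 : c ≠ 0 := by
    rintro rfl
    exact hx0 (by simpa using hc)
  apply htx
  rw [Submodule.mem_span_singleton]
  exact ⟨c⁻¹, by rw [hc, smul_smul, inv_mul_cancel₀ hc0, one_smul]⟩

theorem MaxClique.isCompl_axN (hH : Hyp H) {S : Submodule F V} (hS : MaxClique H S)
    (h3 : 3 ≤ finrank F S) : IsCompl S (axN H S) := by
  have hdisj := hS.disjoint_axN (by omega)
  -- restriction to `S` is injective on `axSpan`
  have hinj : Function.Injective ((S.dualRestrict).domRestrict (axSpan H S)) := by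
    rw [injective_iff_map_eq_zero]
    rintro ⟨φ, hφ⟩ h0
    obtain ⟨s, hs, hs0, hφs⟩ := hS.union_closed hH h3 φ hφ
    have : φ = 0 := by
      apply hS.ax_inj hH hs hs0 hφs
      intro t ht
      have := congrArg (fun ξ : Dual F S => ξ ⟨t, ht⟩) h0
      simpa using this
    exact Subtype.ext this
  have h1 : finrank F (axSpan H S) ≤ finrank F S := by
    have := LinearMap.finrank_le_finrank_of_injective hinj
    rwa [Subspace.dual_finrank_eq] at this
  have h2 : finrank F (axSpan H S) + finrank F (axN H S) = finrank F V :=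
    Subspace.finrank_add_finrank_dualCoannihilator_eq _
  have h3' := Submodule.finrank_sup_add_finrank_inf_eq S (axN H S)
  rw [hdisj, finrank_bot, add_zero] at h3'
  refine ⟨disjoint_iff.mpr hdisj, codisjoint_iff.mpr ?_⟩
  apply Submodule.eq_top_of_finrank_eq
  have := Submodule.finrank_le (S ⊔ axN H S)
  omega

/-- Description of the axes at a point of a maximal clique of dimension at least three. -/
theorem MaxClique.rl_iff (hH : Hyp H) {S : Submodule F V} (hS : MaxClique H S)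
    (h3 : 3 ≤ finrank F S) {s : V} (hs : s ∈ S) (hs0 : s ≠ 0) (φ : Dual F V) :
    Rl H φ s ↔ (∀ z ∈ axN H S, φ z = 0) ∧ φ s = 0 := by
  constructor
  · intro h
    exact ⟨fun z hz => mem_axN.mp hz s hs hs0 φ h, h.1⟩
  · rintro ⟨hN, hφs⟩
    obtain ⟨φ', hφ', hres⟩ := hS.1.exists_axis hH hs hs0 (S.dualRestrict φ) (by simpa using hφs)
    have : φ = φ' := by
      have hle : (⊤ : Submodule F V) ≤ LinearMap.ker (φ - φ') := by
        rw [← (hS.isCompl_axN hH h3).sup_eq_top, sup_le_iff]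
        constructor
        · intro t ht
          rw [LinearMap.mem_ker, LinearMap.sub_apply, sub_eq_zero]
          exact (hres ⟨t, ht⟩).symm
        · intro z hz
          rw [LinearMap.mem_ker, LinearMap.sub_apply, hN z hz,
            mem_axN.mp hz s hs hs0 φ' hφ', sub_zero]
      ext x
      have := hle (Submodule.mem_top (x := x))
      rw [LinearMap.mem_ker, LinearMap.sub_apply, sub_eq_zero] at this
      exact this
    rw [this]; exact hφ'

omit [FiniteDimensional F V] in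
theorem exists_decomp {S N : Submodule F V} (h : IsCompl S N) (x : V) :
    ∃ s ∈ S, ∃ z ∈ N, x = s + z := by
  have : x ∈ S ⊔ N := by rw [h.sup_eq_top]; exact Submodule.mem_top
  obtain ⟨s, hs, z, hz, rfl⟩ := Submodule.mem_sup.mp this
  exact ⟨s, hs, z, hz, rfl⟩

/-- A maximal clique of dimension at least three gives a complete structure of linear type. -/
theorem MaxClique.cs (hH : Hyp H) {S : Submodule F V} (hS : MaxClique H S)
    (h3 : 3 ≤ finrank F S) : CS H S (axN H S) where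
  compl := hS.isCompl_axN hH h3
  cen := hS.1.1
  ax_N := fun s hs hs0 φ hφ z hz => mem_axN.mp hz s hs hs0 φ hφ
  type := Or.inl (fun s hs hs0 φ hN hφs => (hS.rl_iff hH h3 hs hs0 φ).mpr ⟨hN, hφs⟩)
  all := by
    intro w hw
    obtain ⟨s, hs, z, hz, rfl⟩ := exists_decomp (hS.isCompl_axN hH h3) w
    by_cases hs0 : s = 0
    · right; rw [hs0, zero_add]; exact hz
    by_cases hz0 : z = 0
    · left; rw [hz0, add_zero]; exact hs
    exfalso
    obtain ⟨η, hη⟩ := Module.Projective.exists_dual_ne_zero F hs0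
    -- every axis at `s` is an axis at `s + z`
    have hax : ∀ φ : Dual F V, Rl H φ s → Rl H φ (s + z) := by
      intro φ hφ
      obtain ⟨s₀, hs₀, hs₀0, hφs₀, hηs₀⟩ := exists_common_ker h3 φ η
      have harr : Arr H s₀ s := by
        by_contra hn
        obtain ⟨c, hc⟩ := hS.1.2 s₀ hs₀ hs₀0 s hs hn
        apply hη
        rw [hc, map_smul, hηs₀, smul_zero]
      obtain ⟨φ', hφ', hφ's⟩ := harr
      have hφ'z : φ' z = 0 := mem_axN.mp hz s₀ hs₀ hs₀0 φ' hφ'
      have harr' : Arr H s₀ (s + z) := ⟨φ', hφ', by rw [map_add, hφ'z, add_zero]; exact hφ's⟩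
      have hφN := ((hS.rl_iff hH h3 hs hs0 φ).mp hφ).1
      have hφs₀' : Rl H φ s₀ := (hS.rl_iff hH h3 hs₀ hs₀0 φ).mpr ⟨hφN, hφs₀⟩
      exact hH.d4 (hS.1.1 s₀ hs₀ hs₀0) hw harr' hφs₀' (by rw [map_add, hφ.1, hφN z hz, add_zero])
    obtain ⟨s₁, hs₁, hs₁s⟩ := exists_not_mem_span (show 2 ≤ finrank F S by omega) s
    have hs₁0 : s₁ ≠ 0 := by
      rintro rfl
      exact hs₁s (Submodule.zero_mem _)
    have harr : Arr H s s₁ := by
      by_contra hn
      obtain ⟨c, hc⟩ := hS.1.2 s hs hs0 s₁ hs₁ hn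
      exact hs₁s (Submodule.mem_span_singleton.mpr ⟨c, hc.symm⟩)
    obtain ⟨φ, hφ, hφs₁⟩ := harr
    have hφz : Rl H φ z := by
      have := (hax φ hφ).sub_right hφ
      rwa [add_sub_cancel_left] at this
    have hφ0 : φ ≠ 0 := by
      rintro rfl
      exact hφs₁ (by simp)
    have hzc : IsC H z := IsC.of_Rl hφz hφ0 hz0
    obtain ⟨ψ, hψ, hψz⟩ := hH.arr_symm hzc (hS.1.1 s₁ hs₁ hs₁0) ⟨φ, hφz, hφs₁⟩
    exact hψz (mem_axN.mp hz s₁ hs₁ hs₁0 ψ hψ)

/-- In a maximal clique, the axis space at a point has dimension at most `dim S - 1`. -/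
theorem MaxClique.finrank_Ax_le (hH : Hyp H) {S : Submodule F V} (hS : MaxClique H S) {s : V}
    (hs : s ∈ S) (hs0 : s ≠ 0) : finrank F (Ax hH s) + 1 ≤ finrank F S := by
  set g := (S.dualRestrict).domRestrict (Ax hH s) with hg
  have hinj : Function.Injective g := by
    rw [injective_iff_map_eq_zero]
    rintro ⟨φ, hφ⟩ h0
    have : φ = 0 := by
      apply hS.ax_inj hH hs hs0 hφ
      intro t ht
      have := congrArg (fun ξ : Dual F S => ξ ⟨t, ht⟩) h0
      simpa [g] using this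
    exact Subtype.ext this
  have h1 : finrank F (LinearMap.range g) = finrank F (Ax hH s) :=
    LinearMap.finrank_range_of_inj hinj
  have h2 : LinearMap.range g ≤ (Submodule.span F {(⟨s, hs⟩ : S)}).dualAnnihilator := by
    rintro ξ ⟨⟨φ, hφ⟩, rfl⟩
    rw [Submodule.mem_dualAnnihilator]
    intro y hy
    obtain ⟨c, rfl⟩ := Submodule.mem_span_singleton.mp hy
    have : φ s = 0 := hφ.1
    simp [g, this]
  have h3 := Submodule.finrank_mono h2
  have h4 := Subspace.finrank_add_finrank_dualAnnihilator_eq (Submodule.span F {(⟨s, hs⟩ : S)})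
  have h5 : finrank F (Submodule.span F {(⟨s, hs⟩ : S)}) = 1 :=
    finrank_span_singleton (by simpa [Subtype.ext_iff] using hs0)
  omega

/-- Linear case: a center whose axis space has dimension at least two lies in a complete
structure. -/
theorem Hyp.exists_cs_of_two_le (hH : Hyp H) {u : V} (hu : IsC H u)
    (hM : 2 ≤ finrank F (Ax hH u)) : ∃ S N, CS H S N ∧ u ∈ S := by
  obtain ⟨S, hS, huS⟩ := hH.exists_maxClique hu
  have := hS.finrank_Ax_le hH huS hu.1
  exact ⟨S, axN H S, hS.cs hH (by omega), huS⟩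

end Cfsg.Agent.Helper7.McL
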