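import Cfsg.Agent.Helper7.McLD
import Cfsg.Agent.Helper3.McLGenB

/-!
# McLaughlin's theorem, part F: linear algebra for the symplectic case
-/

set_option autoImplicit false

namespace Cfsg.Agent.Helper7.McL

open Module

variable {F V : Type*} [Field F] [AddCommGroup V] [Module F V]
variable {H : Subgroup (V ≃ₗ[F] V)}

/-- The alternating form `ζ ∧ ζ'`. -/
def wedge (ζ ζ' : Dual F V) : LinearMap.BilinForm F V :=
  ζ.smulRight ζ' - ζ'.smulRight ζ

@[simp] theorem wedge_apply (ζ ζ' : Dual F V) (x y : V) :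
    wedge ζ ζ' x y = ζ x * ζ' y - ζ' x * ζ y := by
  simp [wedge]

theorem wedge_apply' (ζ ζ' : Dual F V) (x : V) :
    wedge ζ ζ' x = ζ x • ζ' - ζ' x • ζ := by
  ext y; simp

theorem wedge_isAlt (ζ ζ' : Dual F V) : (wedge ζ ζ').IsAlt := by
  intro x; simp [mul_comm]

theorem alt_swap {B : LinearMap.BilinForm F V} (hB : B.IsAlt) (x y : V) : B x y = - B y x :=
  (hB.neg_eq y x).symm

/-- Orbit lemma: a property invariant under the symplectic transvections along a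
nondegenerate subspace `U` spreads from `u₀ + r` to all `u + r`. -/
theorem orbit_lemma {B : LinearMap.BilinForm F V} (hB : B.IsAlt) {U : Submodule F V}
    (hnd : ∀ u ∈ U, u ≠ 0 → ∃ u' ∈ U, B u u' ≠ 0) (P : V → Prop)
    (hP : ∀ x, P x → ∀ u ∈ U, ∀ c : F, P (x + (c * B u x) • u))
    {u₀ r : V} (hu₀ : u₀ ∈ U) (hu₀0 : u₀ ≠ 0) (hr : ∀ u ∈ U, B u r = 0) (h0 : P (u₀ + r)) :
    ∀ u ∈ U, u ≠ 0 → P (u + r) := by
  have step : ∀ a ∈ U, ∀ b ∈ U, B b a ≠ 0 → P (a + r) → P (b + r) := by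
    intro a ha b hb hba hPa
    have := hP (a + r) hPa (b - a) (U.sub_mem hb ha) (B b a)⁻¹
    have e : B (b - a) (a + r) = B b a := by
      rw [map_add, hr _ (U.sub_mem hb ha), add_zero, map_sub, LinearMap.sub_apply,
        hB.self_eq_zero, sub_zero]
    rw [e, inv_mul_cancel₀ hba, one_smul] at this
    have e2 : a + r + (b - a) = b + r := by abel
    rwa [e2] at this
  intro u hu hu0
  by_cases h1 : B u u₀ = 0
  · obtain ⟨u₁, hu₁, hu₁'⟩ := hnd u₀ hu₀ hu₀0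
    obtain ⟨u₂, hu₂, hu₂'⟩ := hnd u hu hu0
    obtain ⟨w, hw, hw1, hw2⟩ := Cfsg.Agent.Helper3.McL.exists_both_ne U (B u₀) (B u)
      ⟨u₁, hu₁, hu₁'⟩ ⟨u₂, hu₂, hu₂'⟩
    have hw1' : B w u₀ ≠ 0 := by
      rw [alt_swap hB]; exact neg_ne_zero.mpr hw1
    exact step w hw u hu hw2 (step u₀ hu₀ w hw hw1' h0)
  · exact step u₀ hu₀ u hu h1 h0

/-- Conjugating a "symplectic" transvection datum by a symplectic transvection. -/
theorem Hyp.isometry_conj (hH : Hyp H) {B : LinearMap.BilinForm F V} (hB : B.IsAlt)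
    {x₁ x : V} {ζ : Dual F V} (hζ : ζ x₁ = 0) (h1 : Rl H (B x₁) x₁) (hx : Rl H (B x + ζ) x)
    (c : F) :
    Rl H (B (x + (c * B x₁ x) • x₁) + ζ) (x + (c * B x₁ x) • x₁) := by
  have hg : Rl H (c • B x₁) x₁ := hH.full _ _ c h1
  have := hx.conj hg.2
  have e1 : tv (c • B x₁) x₁ x = x + (c * B x₁ x) • x₁ := by
    rw [tv_apply hg.1]; simp
  have e2 : (B x + ζ) ∘ₗ ((tv (c • B x₁) x₁)⁻¹ : V ≃ₗ[F] V).toLinearMap =
      B (x + (c * B x₁ x) • x₁) + ζ := by
    ext y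
    rw [tv_inv hg.1]
    have h' : (-(c • B x₁)) x₁ = 0 := by simp [hB.self_eq_zero]
    simp only [LinearMap.comp_apply, LinearEquiv.coe_coe, tv_apply h', LinearMap.add_apply,
      map_add, map_smul, LinearMap.neg_apply, LinearMap.smul_apply, smul_eq_mul, hζ, mul_zero,
      add_zero]
    rw [alt_swap hB x x₁]
    ring
  rwa [e1, e2] at this

/-- The four-fold product identity producing the transvection `tv ζ z`. -/
theorem four_product {φ ζ : Dual F V} {s z : V} (h1 : φ s = 0) (h2 : φ z = 0) (h3 : ζ s = 0)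
    (h4 : ζ z = 0) :
    (tv ((2 : F) • φ) ((2 : F) • s))⁻¹ * tv ((2 : F) • φ + ζ) ((2 : F) • s + z) * tv ζ z =
      (tv φ s)⁻¹ * tv (φ + ζ) (s + z) * ((tv φ s)⁻¹ * tv (φ + ζ) (s + z)) := by
  have e1 : ((2 : F) • φ) ((2 : F) • s) = 0 := by simp [h1]
  have e2 : ((2 : F) • φ + ζ) ((2 : F) • s + z) = 0 := by simp [h1, h2, h3, h4]
  have e3 : (φ + ζ) (s + z) = 0 := by simp [h1, h2, h3, h4]
  have e4 : (-((2 : F) • φ)) ((2 : F) • s) = 0 := by simp [h1]
  have e5 : (-φ) s = 0 := by simp [h1]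
  rw [tv_inv e1, tv_inv h1]
  ext x
  simp only [LinearEquiv.mul_apply, tv_apply h4, tv_apply e2, tv_apply e4, tv_apply e3,
    tv_apply e5, map_add, map_smul, LinearMap.add_apply, LinearMap.neg_apply,
    LinearMap.smul_apply, smul_eq_mul, h1, h2, h3, h4, mul_zero, add_zero, zero_add, neg_zero]
  module

/-- Two functionals with the same zeros on a subspace are proportional there. -/
theorem exists_smul_eq_of_same_zeros {S : Submodule F V} (f g : Dual F V)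
    (hg : ∃ s ∈ S, g s ≠ 0) (h : ∀ s ∈ S, f s = 0 ↔ g s = 0) :
    ∃ μ : F, μ ≠ 0 ∧ ∀ s ∈ S, f s = μ * g s := by
  obtain ⟨s₁, hs₁, hg₁⟩ := hg
  have hf₁ : f s₁ ≠ 0 := fun h0 => hg₁ ((h s₁ hs₁).mp h0)
  refine ⟨f s₁ / g s₁, div_ne_zero hf₁ hg₁, fun s hs => ?_⟩
  have hmem : s - (g s / g s₁) • s₁ ∈ S := S.sub_mem hs (S.smul_mem _ hs₁)
  have h0 : g (s - (g s / g s₁) • s₁) = 0 := by
    rw [map_sub, map_smul, smul_eq_mul, div_mul_cancel₀ _ hg₁, sub_self]
  have h1 := (h _ hmem).mpr h0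
  rw [map_sub, map_smul, smul_eq_mul, sub_eq_zero] at h1
  rw [h1]; field_simp

end Cfsg.Agent.Helper7.McL
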