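import Cfsg.Agent.Helper7.McLF

/-!
# McLaughlin's theorem, part G: symplectic structures and mixed centers
-/

set_option autoImplicit false

namespace Cfsg.Agent.Helper7.McL

open Module

variable {F V : Type*} [Field F] [AddCommGroup V] [Module F V]
variable {H : Subgroup (V ≃ₗ[F] V)}

/-- Symplectic structure: all nonzero vectors of `S` are centers with axis space spanned by
`B s`; `S` is a complement of the radical of `B`. -/
structure SpT (H : Subgroup (V ≃ₗ[F] V)) (S : Submodule F V) (B : LinearMap.BilinForm F V) :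
    Prop where
  alt : B.IsAlt
  compl : IsCompl S (LinearMap.ker B)
  rl : ∀ s ∈ S, s ≠ 0 → ∀ φ : Dual F V, Rl H φ s ↔ ∃ c : F, φ = c • B s

variable {S : Submodule F V} {B : LinearMap.BilinForm F V}

theorem SpT.ker_right (hT : SpT H S B) {n : V} (hn : n ∈ LinearMap.ker B) (x : V) :
    B x n = 0 := by
  rw [alt_swap hT.alt, LinearMap.mem_ker.mp hn]; simp

theorem SpT.B_ne_zero (hT : SpT H S B) {s : V} (hs : s ∈ S) (hs0 : s ≠ 0) : B s ≠ 0 := by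
  intro h0
  have : s ∈ S ⊓ LinearMap.ker B := Submodule.mem_inf.mpr ⟨hs, LinearMap.mem_ker.mpr h0⟩
  rw [hT.compl.inf_eq_bot, Submodule.mem_bot] at this
  exact hs0 this

theorem SpT.rl_self (hT : SpT H S B) {s : V} (hs : s ∈ S) : Rl H (B s) s := by
  by_cases hs0 : s = 0
  · rw [hs0]; exact Rl.zero_right _
  · exact (hT.rl s hs hs0 (B s)).mpr ⟨1, by rw [one_smul]⟩

theorem SpT.isC (hT : SpT H S B) {s : V} (hs : s ∈ S) (hs0 : s ≠ 0) : IsC H s :=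
  ⟨hs0, B s, hT.B_ne_zero hs hs0, hT.rl_self hs⟩

theorem SpT.nondeg (hT : SpT H S B) : ∀ s ∈ S, s ≠ 0 → ∃ s' ∈ S, B s s' ≠ 0 := by
  intro s hs hs0
  have h1 := hT.B_ne_zero hs hs0
  obtain ⟨x, hx⟩ : ∃ x, B s x ≠ 0 := by
    by_contra hcon
    push Not at hcon
    exact h1 (LinearMap.ext hcon)
  have : x ∈ S ⊔ LinearMap.ker B := by rw [hT.compl.sup_eq_top]; exact Submodule.mem_top
  obtain ⟨s', hs', n, hn, rfl⟩ := Submodule.mem_sup.mp this
  refine ⟨s', hs', ?_⟩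
  rwa [map_add, hT.ker_right hn, add_zero] at hx

theorem SpT.arr_iff (hT : SpT H S B) {s : V} (hs : s ∈ S) (hs0 : s ≠ 0) (x : V) :
    Arr H s x ↔ B s x ≠ 0 := by
  constructor
  · rintro ⟨φ, hφ, hφx⟩
    obtain ⟨c, rfl⟩ := (hT.rl s hs hs0 φ).mp hφ
    intro h0
    exact hφx (by simp [h0])
  · intro h
    exact ⟨B s, hT.rl_self hs, h⟩

theorem SpT.finrank_Ax (hH : Hyp H) (hT : SpT H S B) {s : V} (hs : s ∈ S) (hs0 : s ≠ 0) :
    finrank F (Ax hH s) = 1 := by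
  have : Ax hH s = Submodule.span F {B s} := by
    ext φ
    rw [mem_Ax, hT.rl s hs hs0 φ, Submodule.mem_span_singleton]
    exact ⟨fun ⟨c, hc⟩ => ⟨c, hc.symm⟩, fun ⟨c, hc⟩ => ⟨c, hc.symm⟩⟩
  rw [this]
  exact finrank_span_singleton (hT.B_ne_zero hs hs0)

variable [FiniteDimensional F V]

theorem Hyp.ax_eq_span_of_finrank_one (hH : Hyp H) {w : V} (h : finrank F (Ax hH w) = 1)
    {φ : Dual F V} (hφ : Rl H φ w) (hφ0 : φ ≠ 0) :
    ∀ ψ : Dual F V, Rl H ψ w → ∃ c : F, ψ = c • φ := by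
  have hle : Submodule.span F {φ} ≤ Ax hH w :=
    (Submodule.span_singleton_le_iff_mem _ _).mpr hφ
  have heq : Submodule.span F {φ} = Ax hH w :=
    Submodule.eq_of_le_of_finrank_eq hle (by rw [finrank_span_singleton hφ0, h])
  intro ψ hψ
  have : ψ ∈ Submodule.span F {φ} := by rw [heq]; exact hψ
  obtain ⟨c, hc⟩ := Submodule.mem_span_singleton.mp this
  exact ⟨c, hc.symm⟩


/-- Axes at centers in the radical kill `S`. -/
theorem SpT.ax_S (hH : Hyp H) (hT : SpT H S B) {z : V} (hz : z ∈ LinearMap.ker B)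
    (hz0 : z ≠ 0) {ψ : Dual F V} (hψ : Rl H ψ z) : ∀ s ∈ S, ψ s = 0 := by
  intro s hs
  by_contra hne
  have hs0 : s ≠ 0 := by
    rintro rfl
    exact hne (by simp)
  have hψ0 : ψ ≠ 0 := by
    rintro rfl
    exact hne (by simp)
  have hzc : IsC H z := IsC.of_Rl hψ hψ0 hz0
  have := hH.arr_symm hzc (hT.isC hs hs0) ⟨ψ, hψ, hne⟩
  rw [hT.arr_iff hs hs0] at this
  exact this (hT.ker_right hz s)

/-- A center with nonzero `S`-component has one-dimensional axis space. -/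
theorem SpT.finrank_Ax_mixed (hH : Hyp H) (hT : SpT H S B) {s z : V} (hs : s ∈ S)
    (hs0 : s ≠ 0) (hz : z ∈ LinearMap.ker B) (hw : IsC H (s + z)) :
    finrank F (Ax hH (s + z)) = 1 := by
  obtain ⟨s₁, hs₁, h1⟩ := hT.nondeg s hs hs0
  have hs₁0 : s₁ ≠ 0 := by
    rintro rfl
    exact h1 (by simp)
  have harr : Arr H s₁ (s + z) := by
    rw [hT.arr_iff hs₁ hs₁0, map_add, hT.ker_right hz, add_zero, alt_swap hT.alt]
    exact neg_ne_zero.mpr h1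
  rw [hH.finrank_Ax_of_arr (hT.isC hs₁ hs₁0) hw harr, hT.finrank_Ax hH hs₁ hs₁0]

/-- (G2) Analysis of a mixed center `s₀ + z₀`. -/
theorem SpT.mixed (hH : Hyp H) (h2 : (2 : F) ≠ 0) (hT : SpT H S B) {s₀ z₀ : V} (hs₀ : s₀ ∈ S)
    (hs₀0 : s₀ ≠ 0) (hz₀ : z₀ ∈ LinearMap.ker B) (hz₀0 : z₀ ≠ 0) (hw : IsC H (s₀ + z₀)) :
    ∃ ζ : Dual F V, ζ ≠ 0 ∧ (∀ s ∈ S, ζ s = 0) ∧ ζ z₀ = 0 ∧ Rl H ζ z₀ ∧
      (∀ s ∈ S, s ≠ 0 → Rl H (B s + ζ) (s + z₀)) := by
  have hBz : B z₀ = 0 := LinearMap.mem_ker.mp hz₀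
  obtain ⟨s₁, hs₁, h1⟩ := hT.nondeg s₀ hs₀ hs₀0
  have hfr := hT.finrank_Ax_mixed hH hs₀ hs₀0 hz₀ hw
  obtain ⟨-, φw, hφw0, hφw⟩ := id hw
  have hgen := hH.ax_eq_span_of_finrank_one hfr hφw hφw0
  -- zeros of `φw` on `S`
  have hz : ∀ s ∈ S, φw s = 0 ↔ B s₀ s = 0 := by
    intro s hs
    constructor
    · intro h0
      by_contra hne
      have hs0 : s ≠ 0 := by
        rintro rfl
        exact hne (by simp)
      have harr : Arr H s (s₀ + z₀) := by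
        rw [hT.arr_iff hs hs0, map_add, hT.ker_right hz₀, add_zero, alt_swap hT.alt]
        exact neg_ne_zero.mpr hne
      obtain ⟨ψ, hψ, hψs⟩ := hH.arr_symm (hT.isC hs hs0) hw harr
      obtain ⟨c, rfl⟩ := hgen ψ hψ
      exact hψs (by simp [h0])
    · intro h0
      by_contra hne
      have hs0 : s ≠ 0 := by
        rintro rfl
        exact hne (by simp)
      have harr := hH.arr_symm hw (hT.isC hs hs0) ⟨φw, hφw, hne⟩
      rw [hT.arr_iff hs hs0, map_add, hT.ker_right hz₀, add_zero, alt_swap hT.alt] at harr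
      exact harr (by simp [h0])
  obtain ⟨μ, hμ, hprop⟩ := exists_smul_eq_of_same_zeros φw (B s₀) ⟨s₁, hs₁, h1⟩ hz
  -- rescale
  have hφ' : Rl H (μ⁻¹ • φw) (s₀ + z₀) := hH.full _ _ _ hφw
  set ζ : Dual F V := μ⁻¹ • φw - B s₀ with hζ
  have hζS : ∀ s ∈ S, ζ s = 0 := by
    intro s hs
    simp only [hζ, LinearMap.sub_apply, LinearMap.smul_apply, smul_eq_mul, hprop s hs]
    rw [← mul_assoc, inv_mul_cancel₀ hμ, one_mul, sub_self]
  have hsum : B s₀ + ζ = μ⁻¹ • φw := by rw [hζ]; abel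
  have hζz : ζ z₀ = 0 := by
    have h3 : (μ⁻¹ • φw) (s₀ + z₀) = 0 := hφ'.1
    rw [← hsum, LinearMap.add_apply, map_add, map_add, hT.alt.self_eq_zero, hζS s₀ hs₀,
      hT.ker_right hz₀] at h3
    simpa using h3
  have hBadd : ∀ s : V, B (s + z₀) = B s := by
    intro s; rw [map_add, hBz, add_zero]
  have hP0 : Rl H (B (s₀ + z₀) + ζ) (s₀ + z₀) := by
    rw [hBadd, hsum]; exact hφ'
  have hP : ∀ s ∈ S, s ≠ 0 → Rl H (B s + ζ) (s + z₀) := by
    intro s hs hs0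
    have := orbit_lemma hT.alt hT.nondeg (fun x => Rl H (B x + ζ) x)
      (fun x hx u hu c => hH.isometry_conj hT.alt (hζS u hu) (hT.rl_self hu) hx c)
      hs₀ hs₀0 (fun u _ => hT.ker_right hz₀ u) hP0 s hs hs0
    simpa only [hBadd] using this
  -- the four-fold product
  have hζRl : Rl H ζ z₀ := by
    refine ⟨hζz, ?_⟩
    have ha : tv (B s₀) s₀ ∈ H := (hT.rl_self hs₀).2
    have hb : tv (B s₀ + ζ) (s₀ + z₀) ∈ H := (hP s₀ hs₀ hs₀0).2
    have h2s : (2 : F) • s₀ ∈ S := S.smul_mem _ hs₀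
    have h2s0 : (2 : F) • s₀ ≠ 0 := smul_ne_zero h2 hs₀0
    have ha2 : tv ((2 : F) • B s₀) ((2 : F) • s₀) ∈ H := by
      have := (hT.rl_self h2s).2
      rwa [map_smul] at this
    have hb2 : tv ((2 : F) • B s₀ + ζ) ((2 : F) • s₀ + z₀) ∈ H := by
      have := (hP _ h2s h2s0).2
      rwa [map_smul] at this
    have key := four_product (φ := B s₀) (ζ := ζ) (s := s₀) (z := z₀) (hT.alt.self_eq_zero s₀)
      (hT.ker_right hz₀ s₀) (hζS s₀ hs₀) hζz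
    have hg : (tv (B s₀) s₀)⁻¹ * tv (B s₀ + ζ) (s₀ + z₀) ∈ H := H.mul_mem (H.inv_mem ha) hb
    have hg2 : (tv ((2 : F) • B s₀) ((2 : F) • s₀))⁻¹ *
        tv ((2 : F) • B s₀ + ζ) ((2 : F) • s₀ + z₀) ∈ H := H.mul_mem (H.inv_mem ha2) hb2
    have : tv ζ z₀ = ((tv ((2 : F) • B s₀) ((2 : F) • s₀))⁻¹ *
        tv ((2 : F) • B s₀ + ζ) ((2 : F) • s₀ + z₀))⁻¹ *
        ((tv (B s₀) s₀)⁻¹ * tv (B s₀ + ζ) (s₀ + z₀) *
          ((tv (B s₀) s₀)⁻¹ * tv (B s₀ + ζ) (s₀ + z₀))) := by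
      rw [← key]; group
    rw [this]
    exact H.mul_mem (H.inv_mem hg2) (H.mul_mem hg hg)
  refine ⟨ζ, ?_, hζS, hζz, hζRl, hP⟩
  -- ζ ≠ 0
  intro hζ0
  have h3 : Rl H (B s₀) (s₀ + z₀) := by
    have := hP s₀ hs₀ hs₀0
    rwa [hζ0, add_zero] at this
  have h4 : Rl H (B s₀) z₀ := by
    have := h3.sub_right (hT.rl_self hs₀)
    rwa [add_sub_cancel_left] at this
  have hs₁0 : s₁ ≠ 0 := by
    rintro rfl
    exact h1 (by simp)
  have hzc : IsC H z₀ := IsC.of_Rl h4 (hT.B_ne_zero hs₀ hs₀0) hz₀0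
  have := hH.arr_symm hzc (hT.isC hs₁ hs₁0) ⟨B s₀, h4, h1⟩
  rw [hT.arr_iff hs₁ hs₁0] at this
  exact this (hT.ker_right hz₀ s₁)

end Cfsg.Agent.Helper7.McL
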