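import Cfsg.Agent.Helper7.McLG
import Cfsg.Agent.Helper7.McLE

/-!
# McLaughlin's theorem, part H: growing a symplectic structure by a hyperbolic line
-/

set_option autoImplicit false

namespace Cfsg.Agent.Helper7.McL

open Module

variable {F V : Type*} [Field F] [AddCommGroup V] [Module F V]
variable {H : Subgroup (V ≃ₗ[F] V)}

/-- Data for the growth step. -/
structure GrowData (H : Subgroup (V ≃ₗ[F] V)) (S : Submodule F V)
    (B : LinearMap.BilinForm F V) (z₀ z' : V) (ζ ζ' : Dual F V) (lam : F) : Prop where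
  hT : SpT H S B
  hz₀ : z₀ ∈ LinearMap.ker B
  hz' : z' ∈ LinearMap.ker B
  hζ : ∀ φ : Dual F V, Rl H φ z₀ ↔ ∃ c : F, φ = c • ζ
  hζ' : ∀ φ : Dual F V, Rl H φ z' ↔ ∃ c : F, φ = c • ζ'
  hζS : ∀ s ∈ S, ζ s = 0
  hζ'S : ∀ s ∈ S, ζ' s = 0
  h1 : ζ z' ≠ 0
  h1' : ζ' z₀ ≠ 0
  hlam : lam ≠ 0
  hmix : S = ⊥ ∨ ∃ s₀ ∈ S, s₀ ≠ 0 ∧ Rl H ((B + lam • wedge ζ ζ') (s₀ + z₀)) (s₀ + z₀)

variable {S : Submodule F V} {B : LinearMap.BilinForm F V} {z₀ z' : V} {ζ ζ' : Dual F V}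
  {lam : F}

namespace GrowData

variable (hG : GrowData H S B z₀ z' ζ ζ' lam)
include hG

theorem ζz₀ : ζ z₀ = 0 := ((hG.hζ ζ).mpr ⟨1, by rw [one_smul]⟩).1

theorem ζ'z' : ζ' z' = 0 := ((hG.hζ' ζ').mpr ⟨1, by rw [one_smul]⟩).1

theorem z₀_ne : z₀ ≠ 0 := by
  rintro rfl
  exact hG.h1' (by simp)

theorem z'_ne : z' ≠ 0 := by
  rintro rfl
  exact hG.h1 (by simp)

theorem ζ_ne : ζ ≠ 0 := by
  rintro rfl
  exact hG.h1 (by simp)

theorem ζ'_ne : ζ' ≠ 0 := by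
  rintro rfl
  exact hG.h1' (by simp)

theorem alt' : (B + lam • wedge ζ ζ').IsAlt := by
  intro x
  have h1 := hG.hT.alt.self_eq_zero x
  have h2 := (wedge_isAlt ζ ζ').self_eq_zero x
  simp only [LinearMap.add_apply, LinearMap.smul_apply, h1, h2, smul_zero, add_zero]

/-- The new form on a general vector `s + n`, `n` in the radical of `B`. -/
theorem B'_apply_add {s n : V} (hs : s ∈ S) (hn : n ∈ LinearMap.ker B) :
    (B + lam • wedge ζ ζ') (s + n) = B s + lam • (ζ n • ζ' - ζ' n • ζ) := by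
  rw [LinearMap.add_apply, map_add, LinearMap.mem_ker.mp hn, add_zero, LinearMap.smul_apply,
    wedge_apply', map_add, map_add, hG.hζS s hs, hG.hζ'S s hs, zero_add, zero_add]

theorem B'_apply_S {s : V} (hs : s ∈ S) : (B + lam • wedge ζ ζ') s = B s := by
  have := hG.B'_apply_add hs (Submodule.zero_mem _)
  simpa using this

theorem B'_apply_ker {n : V} (hn : n ∈ LinearMap.ker B) :
    (B + lam • wedge ζ ζ') n = lam • (ζ n • ζ' - ζ' n • ζ) := by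
  have := hG.B'_apply_add (Submodule.zero_mem _) hn
  simpa using this

theorem QS {s : V} (hs : s ∈ S) : Rl H ((B + lam • wedge ζ ζ') s) s := by
  rw [hG.B'_apply_S hs]; exact hG.hT.rl_self hs

theorem Qz₀ : Rl H ((B + lam • wedge ζ ζ') z₀) z₀ := by
  rw [hG.B'_apply_ker hG.hz₀, hG.ζz₀, zero_smul, zero_sub, smul_neg, ← neg_smul, smul_smul]
  exact (hG.hζ _).mpr ⟨_, rfl⟩

theorem Qz' : Rl H ((B + lam • wedge ζ ζ') z') z' := by
  rw [hG.B'_apply_ker hG.hz', hG.ζ'z', zero_smul, sub_zero, smul_smul]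
  exact (hG.hζ' _).mpr ⟨_, rfl⟩

theorem B'_ker_apply {n : V} (hn : n ∈ LinearMap.ker B) (x : V) :
    (B + lam • wedge ζ ζ') n x = lam * (ζ n * ζ' x - ζ' n * ζ x) := by
  rw [hG.B'_apply_ker hn]
  simp

theorem line_le_ker : Submodule.span F {z₀} ⊔ Submodule.span F {z'} ≤ LinearMap.ker B := by
  rw [sup_le_iff, Submodule.span_singleton_le_iff_mem, Submodule.span_singleton_le_iff_mem]
  exact ⟨hG.hz₀, hG.hz'⟩

omit hG in
theorem mem_line_iff {y : V} :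
    y ∈ Submodule.span F {z₀} ⊔ Submodule.span F {z'} ↔ ∃ a b : F, y = a • z₀ + b • z' := by
  rw [mem_sup_span_iff]
  constructor
  · rintro ⟨t, ht, b, rfl⟩
    obtain ⟨a, rfl⟩ := Submodule.mem_span_singleton.mp ht
    exact ⟨a, b, rfl⟩
  · rintro ⟨a, b, rfl⟩
    exact ⟨a • z₀, Submodule.mem_span_singleton.mpr ⟨a, rfl⟩, b, rfl⟩

omit hG in
theorem mem_S'_iff {x : V} :
    x ∈ S ⊔ Submodule.span F {z₀} ⊔ Submodule.span F {z'} ↔
      ∃ s ∈ S, ∃ a b : F, x = s + (a • z₀ + b • z') := by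
  rw [mem_sup_span_iff]
  constructor
  · rintro ⟨t, ht, b, rfl⟩
    obtain ⟨s, hs, a, rfl⟩ := mem_sup_span_iff.mp ht
    exact ⟨s, hs, a, b, by rw [add_assoc]⟩
  · rintro ⟨s, hs, a, b, rfl⟩
    exact ⟨s + a • z₀, mem_sup_span_iff.mpr ⟨s, hs, a, rfl⟩, b, by rw [add_assoc]⟩

theorem Qsmul (hH : Hyp H) {x : V} (c : F) (hx : Rl H ((B + lam • wedge ζ ζ') x) x) :
    Rl H ((B + lam • wedge ζ ζ') (c • x)) (c • x) := by
  rw [map_smul]; exact hH.smul_right c (hH.full _ _ c hx)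

theorem Qconj (hH : Hyp H) {x₁ x : V} (h1 : Rl H ((B + lam • wedge ζ ζ') x₁) x₁)
    (hx : Rl H ((B + lam • wedge ζ ζ') x) x) (c : F) :
    Rl H ((B + lam • wedge ζ ζ') (x + (c * (B + lam • wedge ζ ζ') x₁ x) • x₁))
      (x + (c * (B + lam • wedge ζ ζ') x₁ x) • x₁) := by
  have := hH.isometry_conj hG.alt' (ζ := 0) (x₁ := x₁) (x := x) (by simp) h1
    (by rw [add_zero]; exact hx) c
  rwa [add_zero] at this

theorem B'_z₀_z' : (B + lam • wedge ζ ζ') z₀ z' = -(lam * (ζ' z₀ * ζ z')) := by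
  rw [hG.B'_ker_apply hG.hz₀, hG.ζz₀]; ring

theorem Qline (hH : Hyp H) (a b : F) :
    Rl H ((B + lam • wedge ζ ζ') (a • z₀ + b • z')) (a • z₀ + b • z') := by
  by_cases hb : b = 0
  · subst hb
    rw [zero_smul, add_zero]
    exact hG.Qsmul hH a hG.Qz₀
  · have hne : (B + lam • wedge ζ ζ') z₀ z' ≠ 0 := by
      rw [hG.B'_z₀_z']
      exact neg_ne_zero.mpr (mul_ne_zero hG.hlam (mul_ne_zero hG.h1' hG.h1))
    have h3 := hG.Qconj hH hG.Qz₀ hG.Qz' ((a / b) / (B + lam • wedge ζ ζ') z₀ z')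
    rw [div_mul_cancel₀ _ hne] at h3
    have h4 := hG.Qsmul hH b h3
    have e : b • (z' + (a / b) • z₀) = a • z₀ + b • z' := by
      rw [smul_add, smul_smul, mul_div_cancel₀ _ hb, add_comm]
    rwa [e] at h4

theorem Q_S_add_z₀ (hH : Hyp H) {s : V} (hs : s ∈ S) :
    Rl H ((B + lam • wedge ζ ζ') (s + z₀)) (s + z₀) := by
  by_cases hs0 : s = 0
  · rw [hs0, zero_add]; exact hG.Qz₀
  rcases hG.hmix with hbot | ⟨s₀, hs₀, hs₀0, hQ⟩
  · exfalso
    rw [hbot] at hs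
    exact hs0 ((Submodule.mem_bot F).mp hs)
  · refine orbit_lemma hG.alt' (U := S) ?_ (fun x => Rl H ((B + lam • wedge ζ ζ') x) x)
      (fun x hx u hu c => hG.Qconj hH (hG.QS hu) hx c) hs₀ hs₀0 ?_ hQ s hs hs0
    · intro u hu hu0
      obtain ⟨u', hu', h⟩ := hG.hT.nondeg u hu hu0
      exact ⟨u', hu', by rw [hG.B'_apply_S hu]; exact h⟩
    · intro u hu
      rw [hG.B'_apply_S hu]
      exact hG.hT.ker_right hG.hz₀ u

theorem ζ_line (a b : F) : ζ (a • z₀ + b • z') = b * ζ z' := by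
  simp [hG.ζz₀]

theorem ζ'_line (a b : F) : ζ' (a • z₀ + b • z') = a * ζ' z₀ := by
  simp [hG.ζ'z']

theorem line_eq_zero {a b : F} (h1 : ζ (a • z₀ + b • z') = 0) (h2 : ζ' (a • z₀ + b • z') = 0) :
    a • z₀ + b • z' = 0 := by
  rw [hG.ζ_line] at h1
  rw [hG.ζ'_line] at h2
  have hb : b = 0 := by
    rcases mul_eq_zero.mp h1 with h | h
    · exact h
    · exact absurd h hG.h1
  have ha : a = 0 := by
    rcases mul_eq_zero.mp h2 with h | h
    · exact h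
    · exact absurd h hG.h1'
  rw [ha, hb, zero_smul, zero_smul, add_zero]

theorem Q_all (hH : Hyp H) {s : V} (hs : s ∈ S) (a b : F) :
    Rl H ((B + lam • wedge ζ ζ') (s + (a • z₀ + b • z'))) (s + (a • z₀ + b • z')) := by
  by_cases hy : a • z₀ + b • z' = 0
  · rw [hy, add_zero]; exact hG.QS hs
  have hmem : ∀ a b : F, a • z₀ + b • z' ∈ Submodule.span F {z₀} ⊔ Submodule.span F {z'} :=
    fun a b => mem_line_iff.mpr ⟨a, b, rfl⟩
  have hz₀mem : z₀ ∈ Submodule.span F {z₀} ⊔ Submodule.span F {z'} := by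
    have := hmem 1 0
    simpa using this
  have := orbit_lemma hG.alt' (U := Submodule.span F {z₀} ⊔ Submodule.span F {z'}) ?_
    (fun x => Rl H ((B + lam • wedge ζ ζ') x) x) ?_ (u₀ := z₀) (r := s) hz₀mem hG.z₀_ne ?_ ?_
    (a • z₀ + b • z') (hmem a b) hy
  · rwa [add_comm (a • z₀ + b • z') s] at this
  · -- nondegeneracy on the line
    intro u hu hu0
    obtain ⟨a', b', rfl⟩ := mem_line_iff.mp hu
    have hker := hG.line_le_ker hu
    by_cases hζu : ζ (a' • z₀ + b' • z') = 0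
    · have hζ'u : ζ' (a' • z₀ + b' • z') ≠ 0 := fun h => hu0 (hG.line_eq_zero hζu h)
      refine ⟨z', by simpa using hmem 0 1, ?_⟩
      rw [hG.B'_ker_apply hker, hζu, zero_mul, zero_sub]
      exact mul_ne_zero hG.hlam (neg_ne_zero.mpr (mul_ne_zero hζ'u hG.h1))
    · refine ⟨z₀, hz₀mem, ?_⟩
      rw [hG.B'_ker_apply hker, hG.ζz₀, mul_zero, sub_zero]
      exact mul_ne_zero hG.hlam (mul_ne_zero hζu hG.h1')
  · intro x hx u hu c
    obtain ⟨a', b', rfl⟩ := mem_line_iff.mp hu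
    exact hG.Qconj hH (hG.Qline hH a' b') hx c
  · intro u hu
    rw [hG.B'_ker_apply (hG.line_le_ker hu), hG.hζS s hs, hG.hζ'S s hs]
    ring
  · rw [add_comm z₀ s]; exact hG.Q_S_add_z₀ hH hs

theorem line_nondeg {a b : F} (hy : a • z₀ + b • z' ≠ 0) :
    (B + lam • wedge ζ ζ') (a • z₀ + b • z') z₀ ≠ 0 ∨
      (B + lam • wedge ζ ζ') (a • z₀ + b • z') z' ≠ 0 := by
  have hker := hG.line_le_ker (mem_line_iff.mpr ⟨a, b, rfl⟩)
  by_cases hζu : ζ (a • z₀ + b • z') = 0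
  · have hζ'u : ζ' (a • z₀ + b • z') ≠ 0 := fun h => hy (hG.line_eq_zero hζu h)
    right
    rw [hG.B'_ker_apply hker, hζu, zero_mul, zero_sub]
    exact mul_ne_zero hG.hlam (neg_ne_zero.mpr (mul_ne_zero hζ'u hG.h1))
  · left
    rw [hG.B'_ker_apply hker, hG.ζz₀, mul_zero, sub_zero]
    exact mul_ne_zero hG.hlam (mul_ne_zero hζu hG.h1')

theorem disjoint' :
    (S ⊔ Submodule.span F {z₀} ⊔ Submodule.span F {z'}) ⊓
      LinearMap.ker (B + lam • wedge ζ ζ') = ⊥ := by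
  rw [eq_bot_iff]
  intro x hx
  obtain ⟨hxS', hxk⟩ := Submodule.mem_inf.mp hx
  obtain ⟨s, hs, a, b, rfl⟩ := mem_S'_iff.mp hxS'
  have hker := hG.line_le_ker (mem_line_iff.mpr ⟨a, b, rfl⟩)
  have h0 : (B + lam • wedge ζ ζ') (s + (a • z₀ + b • z')) = 0 := LinearMap.mem_ker.mp hxk
  have hs0 : s = 0 := by
    by_contra hs0
    obtain ⟨s'', hs'', hne⟩ := hG.hT.nondeg s hs hs0
    rw [hG.B'_apply_add hs hker] at h0
    have := congrArg (fun φ : Dual F V => φ s'') h0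
    simp [hG.hζS s'' hs'', hG.hζ'S s'' hs''] at this
    exact hne this
  subst hs0
  rw [zero_add] at h0 ⊢
  rw [Submodule.mem_bot]
  by_contra hy
  rcases hG.line_nondeg hy with h | h
  · exact h (by rw [h0]; simp)
  · exact h (by rw [h0]; simp)

theorem codisjoint' :
    (S ⊔ Submodule.span F {z₀} ⊔ Submodule.span F {z'}) ⊔
      LinearMap.ker (B + lam • wedge ζ ζ') = ⊤ := by
  rw [eq_top_iff]
  intro x _
  obtain ⟨s, hs, n, hn, rfl⟩ := exists_decomp hG.hT.compl x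
  have e : s + n = (s + ((ζ' n / ζ' z₀) • z₀ + (ζ n / ζ z') • z')) +
      (n - ((ζ' n / ζ' z₀) • z₀ + (ζ n / ζ z') • z')) := by abel
  rw [e]
  apply Submodule.add_mem_sup (mem_S'_iff.mpr ⟨s, hs, _, _, rfl⟩)
  rw [LinearMap.mem_ker]
  have hn' : n - ((ζ' n / ζ' z₀) • z₀ + (ζ n / ζ z') • z') ∈ LinearMap.ker B :=
    Submodule.sub_mem _ hn (hG.line_le_ker (mem_line_iff.mpr ⟨_, _, rfl⟩))
  rw [hG.B'_apply_ker hn']
  have e1 : ζ (n - ((ζ' n / ζ' z₀) • z₀ + (ζ n / ζ z') • z')) = 0 := by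
    rw [map_sub, hG.ζ_line, div_mul_cancel₀ _ hG.h1, sub_self]
  have e2 : ζ' (n - ((ζ' n / ζ' z₀) • z₀ + (ζ n / ζ z') • z')) = 0 := by
    rw [map_sub, hG.ζ'_line, div_mul_cancel₀ _ hG.h1', sub_self]
  rw [e1, e2]
  simp

end GrowData

theorem finrank_Ax_eq_one_of_iff (hH : Hyp H) {w : V} {ζ : Dual F V} (hζ0 : ζ ≠ 0)
    (h : ∀ φ : Dual F V, Rl H φ w ↔ ∃ c : F, φ = c • ζ) : finrank F (Ax hH w) = 1 := by
  have : Ax hH w = Submodule.span F {ζ} := by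
    ext φ
    rw [mem_Ax, h φ, Submodule.mem_span_singleton]
    exact ⟨fun ⟨c, hc⟩ => ⟨c, hc.symm⟩, fun ⟨c, hc⟩ => ⟨c, hc.symm⟩⟩
  rw [this]
  exact finrank_span_singleton hζ0

variable [FiniteDimensional F V]

/-- The growth step. -/
theorem GrowData.spT (hG : GrowData H S B z₀ z' ζ ζ' lam) (hH : Hyp H) :
    SpT H (S ⊔ Submodule.span F {z₀} ⊔ Submodule.span F {z'}) (B + lam • wedge ζ ζ') where
  alt := hG.alt'
  compl := ⟨disjoint_iff.mpr hG.disjoint', codisjoint_iff.mpr hG.codisjoint'⟩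
  rl := by
    intro x hx hx0 φ
    obtain ⟨s, hs, a, b, rfl⟩ := GrowData.mem_S'_iff.mp hx
    have hQ := hG.Q_all hH hs a b
    have hB'ne : (B + lam • wedge ζ ζ') (s + (a • z₀ + b • z')) ≠ 0 := by
      intro h0
      have : s + (a • z₀ + b • z') ∈ (S ⊔ Submodule.span F {z₀} ⊔ Submodule.span F {z'}) ⊓
          LinearMap.ker (B + lam • wedge ζ ζ') :=
        Submodule.mem_inf.mpr ⟨hx, LinearMap.mem_ker.mpr h0⟩
      rw [hG.disjoint', Submodule.mem_bot] at this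
      exact hx0 this
    have hc : IsC H (s + (a • z₀ + b • z')) := IsC.of_Rl hQ hB'ne hx0
    have hfr : finrank F (Ax hH (s + (a • z₀ + b • z'))) = 1 := by
      by_cases hs0 : s = 0
      · subst hs0
        rw [zero_add] at hx0 hQ hc ⊢
        rcases hG.line_nondeg hx0 with h | h
        · have hz₀c : IsC H z₀ :=
            ⟨hG.z₀_ne, ζ, hG.ζ_ne, (hG.hζ ζ).mpr ⟨1, by rw [one_smul]⟩⟩
          rw [← hH.finrank_Ax_of_arr hc hz₀c ⟨_, hQ, h⟩]
          exact finrank_Ax_eq_one_of_iff hH hG.ζ_ne hG.hζ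
        · have hz'c : IsC H z' :=
            ⟨hG.z'_ne, ζ', hG.ζ'_ne, (hG.hζ' ζ').mpr ⟨1, by rw [one_smul]⟩⟩
          rw [← hH.finrank_Ax_of_arr hc hz'c ⟨_, hQ, h⟩]
          exact finrank_Ax_eq_one_of_iff hH hG.ζ'_ne hG.hζ'
      · exact hG.hT.finrank_Ax_mixed hH hs hs0
          (hG.line_le_ker (GrowData.mem_line_iff.mpr ⟨a, b, rfl⟩)) hc
    constructor
    · exact hH.ax_eq_span_of_finrank_one hfr hQ hB'ne φ
    · rintro ⟨c, rfl⟩
      exact hH.full _ _ c hQ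

end Cfsg.Agent.Helper7.McL
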