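import Cfsg.Agent.Helper7.McLH

/-!
# McLaughlin's theorem, part I: the symplectic case and the existence of complete structures
-/

set_option autoImplicit false

namespace Cfsg.Agent.Helper7.McL

open Module

variable {F V : Type*} [Field F] [AddCommGroup V] [Module F V] [FiniteDimensional F V]
variable {H : Subgroup (V ≃ₗ[F] V)}

omit [FiniteDimensional F V] in
theorem spT_bot : SpT H (⊥ : Submodule F V) (0 : LinearMap.BilinForm F V) where
  alt := fun x => by simp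
  compl := by
    rw [LinearMap.ker_zero]; exact isCompl_bot_top
  rl := fun s hs hs0 => absurd ((Submodule.mem_bot F).mp hs) hs0

theorem Hyp.rl_iff_of_finrank_one (hH : Hyp H) {w : V} (h : finrank F (Ax hH w) = 1)
    {ζ : Dual F V} (hζ : Rl H ζ w) (hζ0 : ζ ≠ 0) :
    ∀ φ : Dual F V, Rl H φ w ↔ ∃ c : F, φ = c • ζ := by
  intro φ
  constructor
  · exact hH.ax_eq_span_of_finrank_one h hζ hζ0 φ
  · rintro ⟨c, rfl⟩
    exact hH.full _ _ c hζ

/-- Base of the symplectic case: a hyperbolic line through a center with one-dimensional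
axis space. -/
theorem Hyp.exists_spT_base (hH : Hyp H) {u : V} (hu : IsC H u)
    (hM : finrank F (Ax hH u) = 1) : ∃ S B, SpT H S B ∧ u ∈ S := by
  obtain ⟨hu0, ζ, hζ0, hζ⟩ := id hu
  obtain ⟨v, hv, hζv⟩ := hH.np1 hζ hζ0 hu0
  have harr : Arr H u v := ⟨ζ, hζ, hζv⟩
  have hMv : finrank F (Ax hH v) = 1 := by rw [hH.finrank_Ax_of_arr hu hv harr, hM]
  obtain ⟨ζ', hζ', hζ'u⟩ := hH.arr_symm hu hv harr
  have hζ'0 : ζ' ≠ 0 := by
    rintro rfl
    exact hζ'u (by simp)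
  have hG : GrowData H ⊥ 0 u v ζ ζ' 1 :=
    { hT := spT_bot
      hz₀ := by simp
      hz' := by simp
      hζ := hH.rl_iff_of_finrank_one hM hζ hζ0
      hζ' := hH.rl_iff_of_finrank_one hMv hζ' hζ'0
      hζS := fun s hs => by rw [(Submodule.mem_bot F).mp hs, map_zero]
      hζ'S := fun s hs => by rw [(Submodule.mem_bot F).mp hs, map_zero]
      h1 := hζv
      h1' := hζ'u
      hlam := one_ne_zero
      hmix := Or.inl rfl }
  refine ⟨_, _, hG.spT hH, ?_⟩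
  exact Submodule.mem_sup_left (Submodule.mem_sup_right (Submodule.mem_span_singleton_self u))

variable {S : Submodule F V} {B : LinearMap.BilinForm F V}

/-- (G3') a mixed center whose radical part is not killed by `ζ`. -/
theorem SpT.exists_mixed' (hH : Hyp H) (hT : SpT H S B) {s₀ z₀ : V} (hs₀ : s₀ ∈ S)
    (hs₀0 : s₀ ≠ 0) (hz₀ : z₀ ∈ LinearMap.ker B) (hz₀0 : z₀ ≠ 0) (hw : IsC H (s₀ + z₀))
    {ζ : Dual F V} (hζ0 : ζ ≠ 0) (hζS : ∀ s ∈ S, ζ s = 0) (hζ : Rl H ζ z₀) :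
    ∃ s' ∈ S, ∃ z' ∈ LinearMap.ker B, s' ≠ 0 ∧ IsC H (s' + z') ∧ ζ z' ≠ 0 := by
  obtain ⟨w, hwc, hζw⟩ := hH.np1 hζ hζ0 hz₀0
  obtain ⟨s, hs, z, hz, rfl⟩ := exists_decomp hT.compl w
  have hζz : ζ z ≠ 0 := by
    rwa [map_add, hζS s hs, zero_add] at hζw
  by_cases hs0 : s = 0
  · subst hs0
    rw [zero_add] at hwc
    have hz₀c : IsC H z₀ := IsC.of_Rl hζ hζ0 hz₀0
    obtain ⟨ψ, hψ, hψz₀⟩ := hH.arr_symm hz₀c hwc ⟨ζ, hζ, hζz⟩
    have hψS := hT.ax_S hH hz hwc.1 hψ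
    have hg : Rl H ((ψ z₀)⁻¹ • ψ) z := hH.full _ _ _ hψ
    refine ⟨s₀, hs₀, z₀ + z, Submodule.add_mem _ hz₀ hz, hs₀0, ?_, ?_⟩
    · have := hw.conj hg.2
      rw [tv_apply hg.1] at this
      have e : ((ψ z₀)⁻¹ • ψ) (s₀ + z₀) = 1 := by
        rw [LinearMap.smul_apply, map_add, hψS s₀ hs₀, zero_add, smul_eq_mul,
          inv_mul_cancel₀ hψz₀]
      rw [e, one_smul] at this
      rwa [add_assoc] at this
    · rw [map_add, hζ.1, zero_add]; exact hζz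
  · exact ⟨s, hs, z, hz, hs0, hwc, hζz⟩

/-- Growth from a mixed center. -/
theorem SpT.grow (hH : Hyp H) (h2 : (2 : F) ≠ 0) (hT : SpT H S B) {s₀ z₀ : V} (hs₀ : s₀ ∈ S)
    (hs₀0 : s₀ ≠ 0) (hz₀ : z₀ ∈ LinearMap.ker B) (hz₀0 : z₀ ≠ 0) (hw : IsC H (s₀ + z₀)) :
    ∃ S' B', SpT H S' B' ∧ S < S' := by
  obtain ⟨ζ, hζ0, hζS, hζz₀, hζ, hP⟩ := hT.mixed hH h2 hs₀ hs₀0 hz₀ hz₀0 hw
  obtain ⟨s', hs', z', hz', hs'0, hw', hζz'⟩ :=
    hT.exists_mixed' hH hs₀ hs₀0 hz₀ hz₀0 hw hζ0 hζS hζ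
  have hz'0 : z' ≠ 0 := by
    rintro rfl
    exact hζz' (by simp)
  obtain ⟨ζ', hζ'0, hζ'S, hζ'z', hζ', -⟩ := hT.mixed hH h2 hs' hs'0 hz' hz'0 hw'
  have hz₀c : IsC H z₀ := IsC.of_Rl hζ hζ0 hz₀0
  have hz'c : IsC H z' := IsC.of_Rl hζ' hζ'0 hz'0
  have harr1 : Arr H z₀ (s' + z') := ⟨ζ, hζ, by rw [map_add, hζS s' hs', zero_add]; exact hζz'⟩
  have hfr0 : finrank F (Ax hH z₀) = 1 := by
    rw [← hH.finrank_Ax_of_arr hz₀c hw' harr1]
    exact hT.finrank_Ax_mixed hH hs' hs'0 hz' hw'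
  have harr2 : Arr H z₀ z' := ⟨ζ, hζ, hζz'⟩
  have hfr' : finrank F (Ax hH z') = 1 := by
    rw [hH.finrank_Ax_of_arr hz₀c hz'c harr2, hfr0]
  have hiff' := hH.rl_iff_of_finrank_one hfr' hζ' hζ'0
  have hζ'z₀ : ζ' z₀ ≠ 0 := by
    obtain ⟨ψ, hψ, hψz₀⟩ := hH.arr_symm hz₀c hz'c harr2
    obtain ⟨c, rfl⟩ := (hiff' ψ).mp hψ
    intro h0
    exact hψz₀ (by simp [h0])
  have hG : GrowData H S B z₀ z' ζ ζ' (-(ζ' z₀)⁻¹) :=
    { hT := hT
      hz₀ := hz₀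
      hz' := hz'
      hζ := hH.rl_iff_of_finrank_one hfr0 hζ hζ0
      hζ' := hiff'
      hζS := hζS
      hζ'S := hζ'S
      h1 := hζz'
      h1' := hζ'z₀
      hlam := neg_ne_zero.mpr (inv_ne_zero hζ'z₀)
      hmix := by
        refine Or.inr ⟨s₀, hs₀, hs₀0, ?_⟩
        have e : (B + (-(ζ' z₀)⁻¹) • wedge ζ ζ') (s₀ + z₀) = B s₀ + ζ := by
          rw [LinearMap.add_apply, map_add, LinearMap.mem_ker.mp hz₀, add_zero,
            LinearMap.smul_apply, wedge_apply', map_add, map_add, hζS s₀ hs₀, hζ'S s₀ hs₀,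
            hζz₀, zero_add, zero_add, zero_smul, zero_sub, smul_neg, neg_smul, neg_neg,
            smul_smul, inv_mul_cancel₀ hζ'z₀, one_smul]
        rw [e]
        exact hP s₀ hs₀ hs₀0 }
  refine ⟨_, _, hG.spT hH, lt_of_le_of_ne (le_sup_of_le_left le_sup_left) ?_⟩
  intro heq
  have hz₀S : z₀ ∈ S := by
    rw [heq]
    exact Submodule.mem_sup_left (Submodule.mem_sup_right (Submodule.mem_span_singleton_self z₀))
  have : z₀ ∈ S ⊓ LinearMap.ker B := Submodule.mem_inf.mpr ⟨hz₀S, hz₀⟩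
  rw [hT.compl.inf_eq_bot, Submodule.mem_bot] at this
  exact hz₀0 this

/-- A symplectic structure without mixed centers is a complete structure. -/
theorem SpT.cs (hT : SpT H S B)
    (hall : ∀ s ∈ S, ∀ z ∈ LinearMap.ker B, IsC H (s + z) → s = 0 ∨ z = 0) :
    CS H S (LinearMap.ker B) where
  compl := hT.compl
  cen := fun s hs hs0 => hT.isC hs hs0
  ax_N := by
    intro s hs hs0 φ hφ z hz
    obtain ⟨c, rfl⟩ := (hT.rl s hs hs0 φ).mp hφ
    rw [LinearMap.smul_apply, hT.ker_right hz, smul_zero]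
  all := by
    intro w hw
    obtain ⟨s, hs, z, hz, rfl⟩ := exists_decomp hT.compl w
    rcases hall s hs z hz hw with h | h
    · right; rw [h, zero_add]; exact hz
    · left; rw [h, add_zero]; exact hs
  type := Or.inr ⟨B, hT.alt, fun x => LinearMap.mem_ker.symm, hT.rl⟩

/-- Symplectic case. -/
theorem Hyp.exists_cs_of_one (hH : Hyp H) (h2 : (2 : F) ≠ 0) {u : V} (hu : IsC H u)
    (hM : finrank F (Ax hH u) = 1) : ∃ S N, CS H S N ∧ u ∈ S := by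
  have hne : {S : Submodule F V | (∃ B, SpT H S B) ∧ u ∈ S}.Nonempty := by
    obtain ⟨S, B, hT, huS⟩ := hH.exists_spT_base hu hM
    exact ⟨S, ⟨B, hT⟩, huS⟩
  obtain ⟨S, ⟨⟨B, hT⟩, huS⟩, hmax⟩ :=
    WellFounded.has_min (wellFounded_gt (α := Submodule F V)) _ hne
  refine ⟨S, LinearMap.ker B, hT.cs ?_, huS⟩
  intro s hs z hz hw
  by_contra hcon
  push Not at hcon
  obtain ⟨S', B', hT', hlt⟩ := hT.grow hH h2 hs hcon.1 hz hcon.2 hw
  exact hmax S' ⟨⟨B', hT'⟩, hlt.le huS⟩ hlt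

/-- Every center lies in a complete structure. -/
theorem Hyp.exists_cs (hH : Hyp H) (h2 : (2 : F) ≠ 0) {u : V} (hu : IsC H u) :
    ∃ S N, CS H S N ∧ u ∈ S := by
  have h1 : 1 ≤ finrank F (Ax hH u) := by
    obtain ⟨-, φ, hφ0, hφ⟩ := hu
    rw [Nat.one_le_iff_ne_zero]
    intro h0
    have hbot : Ax hH u = ⊥ := Submodule.finrank_eq_zero.mp h0
    have : φ ∈ Ax hH u := hφ
    rw [hbot, Submodule.mem_bot] at this
    exact hφ0 this
  rcases Nat.lt_or_ge (finrank F (Ax hH u)) 2 with h | h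
  · exact hH.exists_cs_of_one h2 hu (by omega)
  · exact hH.exists_cs_of_two_le hu h

end Cfsg.Agent.Helper7.McL
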