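import Cfsg.Agent.Helper7.McLI
import Cfsg.Agent.Helper8.McLA

/-!
# McLaughlin's theorem, part J: the standing hypotheses over the prime field
-/

set_option autoImplicit false

namespace Cfsg.Agent.Helper7.McL

open Module

variable {p : ℕ} [Fact p.Prime] {V : Type*} [AddCommGroup V] [Module (ZMod p) V]

theorem full_zmod (H : Subgroup (V ≃ₗ[ZMod p] V)) (φ : Dual (ZMod p) V) (v : V) (c : ZMod p)
    (h : Rl H φ v) : Rl H (c • φ) v := by
  refine ⟨by simp [h.1], ?_⟩
  have := H.pow_mem h.2 c.val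
  rwa [tv_pow h.1, ZMod.natCast_zmod_val] at this

theorem two_ne_zero_zmod (hp : Odd p) : (2 : ZMod p) ≠ 0 := by
  have hp' : p.Prime := Fact.out
  intro h
  have h2 : ((2 : ℕ) : ZMod p) = 0 := by exact_mod_cast h
  rw [ZMod.natCast_eq_zero_iff] at h2
  have : p = 2 := (Nat.prime_dvd_prime_iff_eq hp' Nat.prime_two).mp h2
  subst this
  exact absurd hp (by decide)

variable [Finite V]

/-- The hypotheses of S5075 give the standing hypotheses. -/
theorem hyp_of (H : Subgroup (V ≃ₗ[ZMod p] V)) (T : Set (V ≃ₗ[ZMod p] V))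
    (hHT : H = Subgroup.closure T)
    (hT : ∀ t ∈ T, orderOf t = p ∧
      Module.finrank (ZMod p) ↥(LinearMap.ker ((t : V →ₗ[ZMod p] V) - LinearMap.id)) + 1 =
        Module.finrank (ZMod p) V)
    (hOp : Cfsg.pCore p ↥H = ⊥) : Hyp H where
  full := full_zmod H
  np := fun Y hY g hg h1 h2 => Cfsg.Agent.Helper8.McL.eq_one_of_stab_flag H hOp Y hY g hg h1 h2
  gen := by
    have hTH : ∀ t ∈ T, t ∈ H := fun t ht => by rw [hHT]; exact Subgroup.subset_closure ht
    apply le_antisymm
    · intro g hg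
      rw [hHT] at hg
      refine Subgroup.closure_mono ?_ hg
      intro t ht
      obtain ⟨φ, v, h, hteq⟩ :=
        Cfsg.Agent.Helper8.McL.exists_transvection_of_order t (hT t ht).1 (hT t ht).2
      refine ⟨φ, v, ⟨h, ?_⟩, by rw [tv_eq h]; exact hteq⟩
      rw [tv_eq h, ← hteq]
      exact hTH t ht
    · rw [Subgroup.closure_le]
      rintro g ⟨φ, v, h, rfl⟩
      exact h.2

end Cfsg.Agent.Helper7.McL
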