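import Cfsg.Agent.Helper7.McLD

/-!
# McLaughlin's theorem: the subgroup generated by the transvections centered in a subspace
-/

set_option autoImplicit false

namespace Cfsg.Agent.Helper7.McL

open Module

variable {F V : Type*} [Field F] [AddCommGroup V] [Module F V]

/-- The subgroup generated by the transvections of `H` whose center lies in `S`. -/
def KS (H : Subgroup (V ≃ₗ[F] V)) (S : Submodule F V) : Subgroup (V ≃ₗ[F] V) :=
  Subgroup.closure {g | ∃ (φ : Dual F V) (s : V), s ∈ S ∧ Rl H φ s ∧ g = tv φ s}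

theorem KS_le (H : Subgroup (V ≃ₗ[F] V)) (S : Submodule F V) : KS H S ≤ H := by
  rw [KS, Subgroup.closure_le]
  rintro g ⟨φ, s, -, h, rfl⟩
  exact h.2

theorem tv_mem_KS {H : Subgroup (V ≃ₗ[F] V)} {S : Submodule F V} {φ : Dual F V} {s : V}
    (hs : s ∈ S) (h : Rl H φ s) : tv φ s ∈ KS H S :=
  Subgroup.subset_closure ⟨φ, s, hs, h, rfl⟩

end Cfsg.Agent.Helper7.McL
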