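import Mathlib

/-!
# Distinguishing sets for a permutation group and invariant relations

For a group `G` acting on `Ω`, the point `z` *distinguishes* `u` and `w` when no element of the stabilizer of `z`
maps `u` to `w`.  If `g • u = w` then every distinguishing point is moved by `g`.  For a primitive group, every
nonempty invariant relation is "connected", which bounds the degree by the valency times the size of the
distinguishing sets of the edges.
-/

set_option autoImplicit false

namespace Cfsg.Agent.Helper7.MinDeg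

open MulAction
open scoped Pointwise

variable {G Ω : Type*} [Group G] [MulAction G Ω]

/-- `z` distinguishes `u` and `w`. -/
def Dst (G : Type*) [Group G] {Ω : Type*} [MulAction G Ω] (u w z : Ω) : Prop :=
  ¬ ∃ h : G, h • z = z ∧ h • u = w

theorem dst_symm {u w z : Ω} (h : Dst G u w z) : Dst G w u z := by
  rintro ⟨k, hk1, hk2⟩
  exact h ⟨k⁻¹, by rw [inv_smul_eq_iff, hk1], by rw [inv_smul_eq_iff, hk2]⟩

theorem dst_trans {u w z : Ω} (a : Ω) (h : Dst G u w z) : Dst G u a z ∨ Dst G a w z := by
  by_contra hcon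
  rw [not_or] at hcon
  obtain ⟨h1, h2⟩ := hcon
  unfold Dst at h1 h2
  rw [not_not] at h1 h2
  obtain ⟨k1, hk1, hk1'⟩ := h1
  obtain ⟨k2, hk2, hk2'⟩ := h2
  exact h ⟨k2 * k1, by rw [mul_smul, hk1, hk2], by rw [mul_smul, hk1', hk2']⟩

theorem not_dst_of_smul {g : G} {u z : Ω} (hz : g • z = z) : ¬ Dst G u (g • u) z :=
  fun h => h ⟨g, hz, rfl⟩

theorem dst_smul (k : G) {u w z : Ω} (h : Dst G u w z) : Dst G (k • u) (k • w) (k • z) := by
  rintro ⟨l, hl1, hl2⟩
  refine h ⟨k⁻¹ * l * k, ?_, ?_⟩
  · rw [mul_smul, mul_smul, hl1, inv_smul_smul]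
  · rw [mul_smul, mul_smul, hl2, inv_smul_smul]

theorem dst_self_left {u w : Ω} (h : u ≠ w) : Dst G u w u := by
  rintro ⟨k, hk1, hk2⟩
  exact h (hk1.symm.trans hk2)

theorem not_dst_self (u z : Ω) : ¬ Dst G u u z := fun h => h ⟨1, one_smul _ _, one_smul _ _⟩

/-- an invariant relation: if `Λ u z` but not `Λ w z`, then `z` distinguishes `u` and `w`. -/
theorem dst_of_rel {Λ : Ω → Ω → Prop} (hΛ : ∀ (k : G) (u w : Ω), Λ u w → Λ (k • u) (k • w)) {u w z : Ω}
    (h1 : Λ u z) (h2 : ¬ Λ w z) : Dst G u w z := by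
  rintro ⟨k, hk1, hk2⟩
  apply h2
  have := hΛ k u z h1
  rwa [hk1, hk2] at this

/-- an invariant relation: if `Λ z u` but not `Λ z w`, then `z` distinguishes `u` and `w`. -/
theorem dst_of_rel' {Λ : Ω → Ω → Prop} (hΛ : ∀ (k : G) (u w : Ω), Λ u w → Λ (k • u) (k • w)) {u w z : Ω}
    (h1 : Λ z u) (h2 : ¬ Λ z w) : Dst G u w z := by
  rintro ⟨k, hk1, hk2⟩
  apply h2
  have := hΛ k z u h1
  rwa [hk1, hk2] at this

section finite

variable [Fintype Ω]

/-- the set of points distinguishing `u` and `w`. -/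
noncomputable def dset (G : Type*) [Group G] {Ω : Type*} [MulAction G Ω] [Fintype Ω] (u w : Ω) : Finset Ω :=
  @Finset.filter Ω (fun z => Dst G u w z) (Classical.decPred _) Finset.univ

theorem mem_dset {u w z : Ω} : z ∈ dset G u w ↔ Dst G u w z := by
  simp only [dset, Finset.mem_filter, Finset.mem_univ, true_and]

theorem dset_comm (u w : Ω) : dset G u w = dset G w u := by
  ext z
  rw [mem_dset, mem_dset]
  exact ⟨dst_symm, dst_symm⟩

theorem dset_self (u : Ω) : dset G u u = ∅ := by
  rw [Finset.eq_empty_iff_forall_notMem]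
  intro z hz
  exact not_dst_self u z (mem_dset.mp hz)

theorem dset_card_le (u a w : Ω) : (dset G u w).card ≤ (dset G u a).card + (dset G a w).card := by
  classical
  refine le_trans (Finset.card_le_card ?_) (Finset.card_union_le _ _)
  intro z hz
  rw [Finset.mem_union, mem_dset, mem_dset]
  exact dst_trans a (mem_dset.mp hz)

theorem dset_card_smul (k : G) (u w : Ω) : (dset G (k • u) (k • w)).card = (dset G u w).card := by
  classical
  apply le_antisymm
  · have h1 : dset G (k • u) (k • w) ⊆ (dset G u w).image (fun z => k • z) := by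
      intro z hz
      rw [Finset.mem_image]
      refine ⟨k⁻¹ • z, ?_, smul_inv_smul k z⟩
      rw [mem_dset]
      have := dst_smul k⁻¹ (mem_dset.mp hz)
      rwa [inv_smul_smul, inv_smul_smul] at this
    exact (Finset.card_le_card h1).trans Finset.card_image_le
  · have h1 : dset G u w ⊆ (dset G (k • u) (k • w)).image (fun z => k⁻¹ • z) := by
      intro z hz
      rw [Finset.mem_image]
      refine ⟨k • z, ?_, inv_smul_smul k z⟩
      rw [mem_dset]
      exact dst_smul k (mem_dset.mp hz)
    exact (Finset.card_le_card h1).trans Finset.card_image_le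

/-- the distinguishing set of `u` and `g • u` consists of points moved by `g`. -/
theorem moved_of_mem_dset (g : G) (u : Ω) {z : Ω} (hz : z ∈ dset G u (g • u)) : g • z ≠ z :=
  fun h => not_dst_of_smul h (mem_dset.mp hz)

/-- the out-neighbours of a point. -/
noncomputable def nbr (Λ : Ω → Ω → Prop) (u : Ω) : Finset Ω :=
  @Finset.filter Ω (fun w => Λ u w) (Classical.decPred _) Finset.univ

theorem mem_nbr {Λ : Ω → Ω → Prop} {u w : Ω} : w ∈ nbr Λ u ↔ Λ u w := by
  simp only [nbr, Finset.mem_filter, Finset.mem_univ, true_and]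

theorem card_nbr_smul {Λ : Ω → Ω → Prop} (hΛ : ∀ (k : G) (u w : Ω), Λ u w → Λ (k • u) (k • w)) (k : G) (u : Ω) :
    (nbr Λ (k • u)).card = (nbr Λ u).card := by
  classical
  apply le_antisymm
  · have h1 : nbr Λ (k • u) ⊆ (nbr Λ u).image (fun z => k • z) := by
      intro z hz
      rw [Finset.mem_image]
      refine ⟨k⁻¹ • z, ?_, smul_inv_smul k z⟩
      rw [mem_nbr]
      have := hΛ k⁻¹ _ _ (mem_nbr.mp hz)
      rwa [inv_smul_smul] at this
    exact (Finset.card_le_card h1).trans Finset.card_image_le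
  · have h1 : nbr Λ u ⊆ (nbr Λ (k • u)).image (fun z => k⁻¹ • z) := by
      intro z hz
      rw [Finset.mem_image]
      refine ⟨k • z, ?_, inv_smul_smul k z⟩
      rw [mem_nbr]
      exact hΛ k _ _ (mem_nbr.mp hz)
    exact (Finset.card_le_card h1).trans Finset.card_image_le

theorem card_nbr_eq [IsPretransitive G Ω] {Λ : Ω → Ω → Prop}
    (hΛ : ∀ (k : G) (u w : Ω), Λ u w → Λ (k • u) (k • w)) (u w : Ω) :
    (nbr Λ u).card = (nbr Λ w).card := by
  obtain ⟨k, rfl⟩ := exists_smul_eq G u w
  exact (card_nbr_smul hΛ k u).symm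

end finite

/-- **connectivity**: for a primitive group, a nonempty set closed under the out-neighbours of an invariant
relation with at least one proper edge is everything. -/
theorem closed_eq_univ [Finite Ω] [IsPreprimitive G Ω] {Λ : Ω → Ω → Prop}
    (hΛ : ∀ (k : G) (u w : Ω), Λ u w → Λ (k • u) (k • w)) {a₀ b₀ : Ω} (hab : a₀ ≠ b₀) (h0 : Λ a₀ b₀)
    {B : Set Ω} (hne : B.Nonempty) (hB : ∀ u ∈ B, ∀ w, Λ u w → w ∈ B) : B = Set.univ := by
  classical
  obtain ⟨C, hC⟩ : ∃ C : Ω → Set Ω, C = fun a => {y | Relation.ReflTransGen Λ a y} := ⟨_, rfl⟩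
  have hmem : ∀ a y, y ∈ C a ↔ Relation.ReflTransGen Λ a y := by
    intro a y
    rw [hC]
    exact Iff.rfl
  have hlift : ∀ (k : G) a y, Relation.ReflTransGen Λ a y → Relation.ReflTransGen Λ (k • a) (k • y) := by
    intro k a y h
    induction h with
    | refl => exact Relation.ReflTransGen.refl
    | tail _ h2 ih => exact ih.tail (hΛ k _ _ h2)
  -- translation
  have hsmul : ∀ (k : G) a, k • C a = C (k • a) := by
    intro k a
    ext y
    rw [Set.mem_smul_set_iff_inv_smul_mem, hmem, hmem]
    constructor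
    · intro h
      have := hlift k _ _ h
      rwa [smul_inv_smul] at this
    · intro h
      have := hlift k⁻¹ _ _ h
      rwa [inv_smul_smul] at this
  have hcard : ∀ (k : G) a, (C (k • a)).ncard = (C a).ncard := by
    intro k a
    rw [← hsmul]
    exact Set.ncard_image_of_injective _ (MulAction.injective k)
  have hsub : ∀ a b, b ∈ C a → C b ⊆ C a := by
    intro a b hb y hy
    rw [hmem] at hb hy ⊢
    exact hb.trans hy
  have heq : ∀ a b, b ∈ C a → C b = C a := by
    intro a b hb
    obtain ⟨k, rfl⟩ := exists_smul_eq G a b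
    exact Set.eq_of_subset_of_ncard_le (hsub a _ hb) (le_of_eq (hcard k a).symm) (Set.toFinite _)
  have hself : ∀ a, a ∈ C a := fun a => (hmem a a).mpr Relation.ReflTransGen.refl
  have hblock : ∀ a, IsBlock G (C a) := by
    intro a
    rw [isBlock_iff_smul_eq_of_nonempty]
    rintro k ⟨y, hy1, hy2⟩
    rw [hsmul] at hy1 ⊢
    rw [← heq _ _ hy1, heq _ _ hy2]
  obtain ⟨a, ha⟩ := hne
  have hCa : C a = Set.univ := by
    rcases (hblock a).subsingleton_or_eq_univ with h | h
    · exfalso
      obtain ⟨k, hk⟩ := exists_smul_eq G a₀ a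
      have h1 : k • b₀ ∈ C a := by
        rw [hmem, ← hk]
        exact Relation.ReflTransGen.single (hΛ k _ _ h0)
      have h2 := h h1 (hself a)
      rw [← hk] at h2
      exact hab (MulAction.injective k h2).symm
    · exact h
  apply Set.eq_univ_of_univ_subset
  rw [← hCa]
  intro y hy
  rw [hmem] at hy
  induction hy with
  | refl => exact ha
  | tail _ h2 ih => exact hB _ ih _ h2

section finite2

variable [Fintype Ω]

/-- **the degree is at most one plus the valency times the bound on the distinguishing sets of the edges.** -/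
theorem card_le_mul [IsPreprimitive G Ω] {Λ : Ω → Ω → Prop}
    (hΛ : ∀ (k : G) (u w : Ω), Λ u w → Λ (k • u) (k • w)) {a₀ b₀ : Ω} (hab : a₀ ≠ b₀) (h0 : Λ a₀ b₀) {M : ℕ}
    (hM : ∀ u w, Λ u w → (dset G u w).card ≤ M) (a : Ω) :
    Fintype.card Ω - 1 ≤ (nbr Λ a).card * M := by
  classical
  have hsub : Finset.univ.erase a ⊆ (nbr Λ a).biUnion (fun u => dset G a u) := by
    intro z hz
    rw [Finset.mem_erase] at hz
    by_contra hcon
    rw [Finset.mem_biUnion] at hcon
    push Not at hcon
    have hall : ∀ u, Λ a u → ∃ k : G, k • z = z ∧ k • a = u := by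
      intro u hu
      have := hcon u (mem_nbr.mpr hu)
      rw [mem_dset] at this
      unfold Dst at this
      rwa [not_not] at this
    have hB : ({b | ∃ k : G, k • z = z ∧ k • a = b} : Set Ω) = Set.univ := by
      apply closed_eq_univ hΛ hab h0 (B := {b | ∃ k : G, k • z = z ∧ k • a = b})
        ⟨a, 1, one_smul _ _, one_smul _ _⟩
      rintro b ⟨k, hk1, rfl⟩ w hw
      have h1 : Λ a (k⁻¹ • w) := by
        have := hΛ k⁻¹ _ _ hw
        rwa [inv_smul_smul] at this
      obtain ⟨k', hk'1, hk'2⟩ := hall _ h1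
      refine ⟨k * k', ?_, ?_⟩
      · rw [mul_smul, hk'1, hk1]
      · rw [mul_smul, hk'2, smul_inv_smul]
    have hz' : z ∈ ({b | ∃ k : G, k • z = z ∧ k • a = b} : Set Ω) := by
      rw [hB]
      exact Set.mem_univ _
    obtain ⟨k, hk1, hk2⟩ := hz'
    apply hz.1
    rw [← hk1] at hk2
    exact (MulAction.injective k hk2).symm
  have h1 := Finset.card_le_card hsub
  rw [Finset.card_erase_of_mem (Finset.mem_univ a), Finset.card_univ] at h1
  refine h1.trans (Finset.card_biUnion_le.trans ?_)
  have := Finset.sum_le_card_nsmul (nbr Λ a) (fun u => (dset G a u).card) M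
    (fun u hu => hM a u (mem_nbr.mp hu))
  rwa [smul_eq_mul] at this

/-- **the sum bound**: for an irreflexive invariant relation of valency `k`, if all distinguishing sets have at
most `M` elements then `2 k (n - 1 - k) ≤ (n - 1) M`. -/
theorem sum_bound [Nonempty Ω] {Λ : Ω → Ω → Prop} (hΛ : ∀ (k : G) (u w : Ω), Λ u w → Λ (k • u) (k • w))
    (hirr : ∀ u, ¬ Λ u u) {k M : ℕ} (hk : ∀ u, (nbr Λ u).card = k)
    (hM : ∀ u w : Ω, (dset G u w).card ≤ M) :
    2 * k * (Fintype.card Ω - 1 - k) ≤ (Fintype.card Ω - 1) * M := by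
  classical
  obtain ⟨n, hn⟩ : ∃ n, n = Fintype.card Ω := ⟨_, rfl⟩
  rw [← hn]
  have hnpos : 0 < n := by rw [hn]; exact Fintype.card_pos
  -- upper bound
  have hup : ∑ p ∈ (Finset.univ : Finset Ω).offDiag, (dset G p.1 p.2).card ≤ n * (n - 1) * M := by
    have := Finset.sum_le_card_nsmul (Finset.univ : Finset Ω).offDiag (fun p => (dset G p.1 p.2).card) M
      (fun p _ => hM p.1 p.2)
    rw [smul_eq_mul, Finset.offDiag_card, Finset.card_univ, ← hn] at this
    rwa [Nat.mul_sub, mul_one]
  -- double counting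
  have hdc : ∑ p ∈ (Finset.univ : Finset Ω).offDiag, (dset G p.1 p.2).card =
      ∑ z : Ω, ((Finset.univ : Finset Ω).offDiag.filter (fun p => Dst G p.1 p.2 z)).card := by
    have := Finset.sum_card_bipartiteAbove_eq_sum_card_bipartiteBelow
      (s := (Finset.univ : Finset Ω).offDiag) (t := (Finset.univ : Finset Ω)) (fun p z => Dst G p.1 p.2 z)
    unfold Finset.bipartiteAbove Finset.bipartiteBelow at this
    rw [← this]
    apply Finset.sum_congr rfl
    intro p _
    rfl
  -- lower bound for each `z`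
  have hlow : ∀ z : Ω, 2 * k * (n - 1 - k) ≤
      ((Finset.univ : Finset Ω).offDiag.filter (fun p => Dst G p.1 p.2 z)).card := by
    intro z
    obtain ⟨N, hN⟩ : ∃ N, N = nbr Λ z := ⟨_, rfl⟩
    obtain ⟨N', hN'⟩ : ∃ N' : Finset Ω, N' = Finset.univ \ insert z N := ⟨_, rfl⟩
    have hzN : z ∉ N := by
      rw [hN, mem_nbr]
      exact hirr z
    have hNc : N.card = k := by rw [hN]; exact hk z
    have hN'c : N'.card = n - 1 - k := by
      rw [hN', Finset.card_sdiff_of_subset (Finset.subset_univ _), Finset.card_univ, Finset.card_insert_of_notMem hzN,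
        hNc, ← hn]
      omega
    have hsub : (N ×ˢ N') ∪ (N' ×ˢ N) ⊆
        (Finset.univ : Finset Ω).offDiag.filter (fun p => Dst G p.1 p.2 z) := by
      intro p hp
      rw [Finset.mem_union, Finset.mem_product, Finset.mem_product] at hp
      rw [Finset.mem_filter, Finset.mem_offDiag]
      rcases hp with ⟨h1, h2⟩ | ⟨h1, h2⟩
      · rw [hN, mem_nbr] at h1
        have h3 : ¬ Λ z p.2 := by
          intro h
          rw [hN', Finset.mem_sdiff, Finset.mem_insert, hN, mem_nbr] at h2
          exact h2.2 (Or.inr h)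
        refine ⟨⟨Finset.mem_univ _, Finset.mem_univ _, fun h => h3 (h ▸ h1)⟩, dst_of_rel' hΛ h1 h3⟩
      · rw [hN, mem_nbr] at h2
        have h3 : ¬ Λ z p.1 := by
          intro h
          rw [hN', Finset.mem_sdiff, Finset.mem_insert, hN, mem_nbr] at h1
          exact h1.2 (Or.inr h)
        refine ⟨⟨Finset.mem_univ _, Finset.mem_univ _, fun h => h3 (h ▸ h2)⟩, dst_symm (dst_of_rel' hΛ h2 h3)⟩
    have hdisj : Disjoint (N ×ˢ N') (N' ×ˢ N) := by
      rw [Finset.disjoint_left]
      intro p hp1 hp2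
      rw [Finset.mem_product] at hp1 hp2
      have := hp2.1
      rw [hN', Finset.mem_sdiff, Finset.mem_insert] at this
      exact this.2 (Or.inr hp1.1)
    have := Finset.card_le_card hsub
    rw [Finset.card_union_of_disjoint hdisj, Finset.card_product, Finset.card_product, hNc, hN'c] at this
    calc 2 * k * (n - 1 - k) = k * (n - 1 - k) + (n - 1 - k) * k := by ring
      _ ≤ _ := this
  have hlow' : n * (2 * k * (n - 1 - k)) ≤ n * (n - 1) * M := by
    calc n * (2 * k * (n - 1 - k)) = ∑ _z : Ω, 2 * k * (n - 1 - k) := by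
          rw [Finset.sum_const, Finset.card_univ, smul_eq_mul, ← hn]
      _ ≤ ∑ z : Ω, ((Finset.univ : Finset Ω).offDiag.filter (fun p => Dst G p.1 p.2 z)).card :=
          Finset.sum_le_sum (fun z _ => hlow z)
      _ = _ := hdc.symm
      _ ≤ _ := hup
  exact Nat.le_of_mul_le_mul_left (by rw [← mul_assoc n (n - 1) M]; exact hlow') hnpos

end finite2

end Cfsg.Agent.Helper7.MinDeg
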