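import Mathlib
import Cfsg.Agent.Helper7.MinDegA

/-!
# Primitive groups that are not doubly transitive: the degree is bounded by the square of the minimal degree
-/

set_option autoImplicit false

namespace Cfsg.Agent.Helper7.MinDeg

open MulAction

variable {G Ω : Type*} [Group G] [MulAction G Ω] [Fintype Ω]

/-- the graph of the pairs with at most `m` distinguishing points. -/
def Gam (G : Type*) [Group G] {Ω : Type*} [MulAction G Ω] [Fintype Ω] (m : ℕ) (u w : Ω) : Prop :=
  u ≠ w ∧ (dset G u w).card ≤ m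

theorem gam_inv (m : ℕ) (k : G) (u w : Ω) (h : Gam G m u w) : Gam G m (k • u) (k • w) :=
  ⟨fun h' => h.1 (MulAction.injective k h'), by rw [dset_card_smul]; exact h.2⟩

theorem gam_symm {m : ℕ} {u w : Ω} (h : Gam G m u w) : Gam G m w u :=
  ⟨h.1.symm, by rw [dset_comm]; exact h.2⟩

/-- a small suborbit bounds the degree when all distinguishing sets are small. -/
theorem orbital_bound [IsPreprimitive G Ω] {z₀ c : Ω} (hc : c ≠ z₀) {m : ℕ}
    (hallm : ∀ u w : Ω, (dset G u w).card ≤ m)
    (hk : 2 * (nbr (fun u w : Ω => ∃ k : G, k • z₀ = u ∧ k • c = w) z₀).card ≤ Fintype.card Ω - 1) :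
    Fintype.card Ω - 1 ≤ m ^ 2 := by
  classical
  haveI : Nonempty Ω := ⟨z₀⟩
  obtain ⟨Λ, hΛdef⟩ : ∃ Λ : Ω → Ω → Prop, Λ = fun u w => ∃ k : G, k • z₀ = u ∧ k • c = w := ⟨_, rfl⟩
  rw [← hΛdef] at hk
  have hΛ : ∀ (l : G) (u w : Ω), Λ u w → Λ (l • u) (l • w) := by
    intro l u w h
    rw [hΛdef] at h ⊢
    obtain ⟨k, rfl, rfl⟩ := h
    exact ⟨l * k, mul_smul _ _ _, mul_smul _ _ _⟩
  have hirr : ∀ u, ¬ Λ u u := by
    intro u h
    rw [hΛdef] at h
    obtain ⟨k, h1, h2⟩ := h
    exact hc (MulAction.injective k (h2.trans h1.symm))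
  have h0 : Λ z₀ c := by
    rw [hΛdef]
    exact ⟨1, one_smul _ _, one_smul _ _⟩
  obtain ⟨k₀, hk₀⟩ : ∃ k₀, k₀ = (nbr Λ z₀).card := ⟨_, rfl⟩
  have hval : ∀ u, (nbr Λ u).card = k₀ := fun u => by rw [hk₀]; exact card_nbr_eq hΛ u z₀
  have hsum := sum_bound hΛ hirr hval hallm
  have hmul := card_le_mul hΛ hc.symm h0 (fun u w _ => hallm u w) z₀
  rw [← hk₀] at hk hmul
  obtain ⟨N, hN⟩ : ∃ N, N = Fintype.card Ω - 1 := ⟨_, rfl⟩
  rw [← hN] at hk hmul hsum ⊢
  obtain ⟨j, hj⟩ : ∃ j, N = k₀ + j := ⟨N - k₀, by omega⟩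
  have hj' : N - k₀ = j := by omega
  rw [hj'] at hsum
  have hkj : k₀ ≤ j := by omega
  have hkm : k₀ ≤ m ∨ N = 0 := by
    by_cases hN0 : N = 0
    · exact Or.inr hN0
    left
    by_contra hcon
    push Not at hcon
    have h1 : (m + 1) * j ≤ k₀ * j := Nat.mul_le_mul_right j hcon
    have h2 : (m + 1) * k₀ ≤ (m + 1) * j := Nat.mul_le_mul_left _ hkj
    nlinarith
  rcases hkm with h | h
  · calc N ≤ k₀ * m := hmul
      _ ≤ m * m := Nat.mul_le_mul_right m h
      _ = m ^ 2 := (pow_two m).symm
  · rw [h]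
    exact Nat.zero_le _

/-- **primitive and not doubly transitive**: if some pair of distinct points has at most `m` distinguishing
points, then the degree is at most `4 m ^ 2 + 1`. -/
theorem card_le_of_not_two_trans [IsPreprimitive G Ω] {x₀ y₀ : Ω} (hxy : x₀ ≠ y₀) {m : ℕ}
    (hm : (dset G x₀ y₀).card ≤ m) (h2 : ∃ z a b : Ω, a ≠ z ∧ b ≠ z ∧ Dst G a b z) :
    Fintype.card Ω ≤ 4 * m ^ 2 + 1 := by
  classical
  haveI : Nonempty Ω := ⟨x₀⟩
  obtain ⟨n, hn⟩ : ∃ n, n = Fintype.card Ω := ⟨_, rfl⟩
  rw [← hn]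
  have hnpos : 0 < n := by rw [hn]; exact Fintype.card_pos
  have hΓ : ∀ (k : G) (u w : Ω), Gam G m u w → Gam G m (k • u) (k • w) := gam_inv m
  have hΓ0 : Gam G m x₀ y₀ := ⟨hxy, hm⟩
  obtain ⟨v, hv⟩ : ∃ v, v = (nbr (Gam G m) x₀).card := ⟨_, rfl⟩
  have hval : ∀ u, (nbr (Gam G m) u).card = v := fun u => by rw [hv]; exact card_nbr_eq hΓ u x₀
  have hΓM : ∀ u w : Ω, Gam G m u w → (dset G u w).card ≤ m := fun u w h => h.2
  have hirr : ∀ u : Ω, ¬ Gam G m u u := fun u h => h.1 rfl
  have hb1 : n - 1 ≤ v * m := by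
    have := card_le_mul hΓ hxy hΓ0 hΓM x₀
    rwa [← hn, ← hv] at this
  by_cases hA : ∃ u w : Ω, ¬ (u = w ∨ Gam G m u w ∨ ∃ a, Gam G m u a ∧ Gam G m a w)
  · -- some pair at distance at least three
    obtain ⟨u, w, huw⟩ := hA
    have hS : ¬ (∀ y ∈ ({y | u = y ∨ Gam G m u y ∨ ∃ a, Gam G m u a ∧ Gam G m a y} : Set Ω), ∀ y',
        Gam G m y y' → y' ∈ ({y | u = y ∨ Gam G m u y ∨ ∃ a, Gam G m u a ∧ Gam G m a y} : Set Ω)) := by
      intro hcl
      have := closed_eq_univ hΓ hxy hΓ0
        (B := {y | u = y ∨ Gam G m u y ∨ ∃ a, Gam G m u a ∧ Gam G m a y}) ⟨u, Or.inl rfl⟩ hcl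
      have hw : w ∈ ({y | u = y ∨ Gam G m u y ∨ ∃ a, Gam G m u a ∧ Gam G m a y} : Set Ω) := by
        rw [this]
        exact Set.mem_univ _
      exact huw hw
    push Not at hS
    obtain ⟨y, hy, y', hyy', hy'⟩ := hS
    rw [Set.mem_setOf_eq] at hy hy'
    have hpath : ∃ a, Gam G m u a ∧ Gam G m a y := by
      rcases hy with rfl | h | h
      · exact absurd (Or.inr (Or.inl hyy')) hy'
      · exact absurd (Or.inr (Or.inr ⟨y, h, hyy'⟩)) hy'
      · exact h
    obtain ⟨a, hua, hay⟩ := hpath
    have hD : (dset G u y').card ≤ 3 * m := by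
      have h1 := dset_card_le (G := G) u a y'
      have h2 := dset_card_le (G := G) a y y'
      have h3 := hua.2
      have h4 := hay.2
      have h5 := hyy'.2
      omega
    have hdisj : Disjoint (nbr (Gam G m) u) (nbr (Gam G m) y') := by
      rw [Finset.disjoint_left]
      intro z hz1 hz2
      exact hy' (Or.inr (Or.inr ⟨z, mem_nbr.mp hz1, gam_symm (mem_nbr.mp hz2)⟩))
    have hsub : nbr (Gam G m) u ∪ nbr (Gam G m) y' ⊆ dset G u y' := by
      intro z hz
      rw [Finset.mem_union] at hz
      rw [mem_dset]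
      rcases hz with hz | hz
      · exact dst_of_rel hΓ (mem_nbr.mp hz)
          (fun h => hy' (Or.inr (Or.inr ⟨z, mem_nbr.mp hz, gam_symm h⟩)))
      · exact dst_symm (dst_of_rel hΓ (mem_nbr.mp hz)
          (fun h => hy' (Or.inr (Or.inr ⟨z, h, gam_symm (mem_nbr.mp hz)⟩))))
    have h2v : 2 * v ≤ 3 * m := by
      have h1 := Finset.card_le_card hsub
      rw [Finset.card_union_of_disjoint hdisj, hval, hval] at h1
      omega
    have h3 : n ≤ v * m + 1 := by omega
    nlinarith
  · -- all pairs at distance at most two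
    push Not at hA
    have hall : ∀ u w : Ω, (dset G u w).card ≤ 2 * m := by
      intro u w
      rcases hA u w with rfl | h | ⟨a, h1, h2⟩
      · rw [dset_self]
        exact Nat.zero_le _
      · have := h.2
        omega
      · have := dset_card_le (G := G) u a w
        have := h1.2
        have := h2.2
        omega
    have hsum := sum_bound hΓ hirr hval hall
    rw [← hn] at hsum
    have hvle : v + 1 ≤ n := by
      have h1 : insert x₀ (nbr (Gam G m) x₀) ⊆ Finset.univ := Finset.subset_univ _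
      have h2 := Finset.card_le_card h1
      rw [Finset.card_insert_of_notMem (fun h => hirr x₀ (mem_nbr.mp h)), Finset.card_univ, ← hn, ← hv] at h2
      exact h2
    obtain ⟨v', hv'⟩ : ∃ v', n - 1 - v = v' := ⟨_, rfl⟩
    rw [hv'] at hsum
    have hnv : n - 1 = v + v' := by omega
    rw [hnv] at hsum hb1
    by_cases hv'0 : v' = 0
    · -- all pairs adjacent
      have hadj : ∀ u w : Ω, u ≠ w → Gam G m u w := by
        intro u w huw
        have h1 : nbr (Gam G m) u = Finset.univ.erase u := by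
          apply Finset.eq_of_subset_of_card_le
          · intro z hz
            rw [Finset.mem_erase]
            refine ⟨fun h => ?_, Finset.mem_univ _⟩
            rw [h] at hz
            exact hirr u (mem_nbr.mp hz)
          · rw [Finset.card_erase_of_mem (Finset.mem_univ u), Finset.card_univ, hval, ← hn]
            omega
        have h2 : w ∈ nbr (Gam G m) u := by
          rw [h1]
          exact Finset.mem_erase.mpr ⟨huw.symm, Finset.mem_univ _⟩
        exact mem_nbr.mp h2
      have hallm : ∀ u w : Ω, (dset G u w).card ≤ m := by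
        intro u w
        by_cases h : u = w
        · subst h
          rw [dset_self]
          exact Nat.zero_le _
        · exact (hadj u w h).2
      obtain ⟨z₀, a, b, haz, hbz, hab⟩ := h2
      have hdisj : Disjoint (nbr (fun u w : Ω => ∃ k : G, k • z₀ = u ∧ k • a = w) z₀)
          (nbr (fun u w : Ω => ∃ k : G, k • z₀ = u ∧ k • b = w) z₀) := by
        rw [Finset.disjoint_left]
        intro y hy1 hy2
        obtain ⟨k, hk1, hk2⟩ := mem_nbr.mp hy1
        obtain ⟨k', hk'1, hk'2⟩ := mem_nbr.mp hy2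
        apply hab
        refine ⟨k'⁻¹ * k, ?_, ?_⟩
        · rw [mul_smul, hk1, inv_smul_eq_iff, hk'1]
        · rw [mul_smul, hk2, inv_smul_eq_iff, hk'2]
      have hsub : nbr (fun u w : Ω => ∃ k : G, k • z₀ = u ∧ k • a = w) z₀ ∪
          nbr (fun u w : Ω => ∃ k : G, k • z₀ = u ∧ k • b = w) z₀ ⊆ Finset.univ.erase z₀ := by
        intro y hy
        rw [Finset.mem_erase]
        refine ⟨?_, Finset.mem_univ _⟩
        rintro rfl
        rw [Finset.mem_union] at hy
        rcases hy with hy | hy
        · obtain ⟨k, hk1, hk2⟩ := mem_nbr.mp hy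
          exact haz (MulAction.injective k (hk2.trans hk1.symm))
        · obtain ⟨k, hk1, hk2⟩ := mem_nbr.mp hy
          exact hbz (MulAction.injective k (hk2.trans hk1.symm))
      have hcard := Finset.card_le_card hsub
      rw [Finset.card_union_of_disjoint hdisj, Finset.card_erase_of_mem (Finset.mem_univ z₀), Finset.card_univ]
        at hcard
      have hfin : Fintype.card Ω - 1 ≤ m ^ 2 := by
        rcases Nat.le_total (nbr (fun u w : Ω => ∃ k : G, k • z₀ = u ∧ k • a = w) z₀).card
            (nbr (fun u w : Ω => ∃ k : G, k • z₀ = u ∧ k • b = w) z₀).card with h | h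
        · exact orbital_bound haz hallm (by omega)
        · exact orbital_bound hbz hallm (by omega)
      rw [← hn] at hfin
      have h3 : n ≤ m ^ 2 + 1 := by omega
      have h4 : m ^ 2 ≤ 4 * m ^ 2 := Nat.le_mul_of_pos_left _ (by norm_num)
      linarith
    · have hv'pos : 0 < v' := Nat.pos_of_ne_zero hv'0
      have hprod : v * v' ≤ (v + v') * m := by nlinarith
      by_cases hvv' : v ≤ v'
      · -- small valency
        have hv2m : v ≤ 2 * m := by
          by_contra hcon
          push Not at hcon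
          nlinarith
        have h3 : n ≤ v * m + 1 := by omega
        nlinarith
      · -- small valency of the complement
        push Not at hvv'
        have hv'2m : v' ≤ 2 * m := by
          by_contra hcon
          push Not at hcon
          nlinarith
        -- the complement
        obtain ⟨Γc, hΓc⟩ : ∃ Γc : Ω → Ω → Prop, Γc = fun u w => u ≠ w ∧ ¬ Gam G m u w := ⟨_, rfl⟩
        have hΓcinv : ∀ (k : G) (u w : Ω), Γc u w → Γc (k • u) (k • w) := by
          intro k u w h
          rw [hΓc] at h ⊢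
          refine ⟨fun h' => h.1 (MulAction.injective k h'), fun h' => h.2 ?_⟩
          have := hΓ k⁻¹ _ _ h'
          rwa [inv_smul_smul, inv_smul_smul] at this
        have hnbrc : nbr Γc x₀ = Finset.univ \ insert x₀ (nbr (Gam G m) x₀) := by
          ext z
          rw [mem_nbr, Finset.mem_sdiff, Finset.mem_insert, mem_nbr, hΓc]
          constructor
          · rintro ⟨h1, h2⟩
            exact ⟨Finset.mem_univ _, fun h => h.elim (fun h' => h1 h'.symm) h2⟩
          · rintro ⟨-, h⟩
            exact ⟨fun h' => h (Or.inl h'.symm), fun h' => h (Or.inr h')⟩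
        have hcardc : (nbr Γc x₀).card = v' := by
          rw [hnbrc, Finset.card_sdiff_of_subset (Finset.subset_univ _), Finset.card_univ,
            Finset.card_insert_of_notMem (fun h => hirr x₀ (mem_nbr.mp h)), ← hn, ← hv]
          omega
        obtain ⟨b₀, hb₀⟩ : (nbr Γc x₀).Nonempty := by
          rw [← Finset.card_pos, hcardc]
          exact hv'pos
        have hb₀' : Γc x₀ b₀ := mem_nbr.mp hb₀
        have hne : x₀ ≠ b₀ := by
          rw [hΓc] at hb₀'
          exact hb₀'.1
        have hmul := card_le_mul hΓcinv hne hb₀' (M := 2 * m) (fun u w _ => hall u w) x₀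
        rw [hcardc, ← hn, hnv] at hmul
        have h3 : n ≤ v' * (2 * m) + 1 := by omega
        nlinarith

end Cfsg.Agent.Helper7.MinDeg
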